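import Mathlib

set_option autoImplicit false

/-!
The number of conjugacy classes of a "dicyclic-like" group: a group `E` with an abelian subgroup
`A` of index 2 such that all elements outside `A` have the same square `z ≠ 1`, and `1, z` are the
only elements of `A` of order at most 2.
-/

namespace Cfsg.Agent.Helper8.Dicyclic

variable {E : Type*} [Group E]

theorem card_commuting_eq_sum [Fintype E] :
    Nat.card {p : E × E // Commute p.1 p.2} =
      ∑ g : E, Nat.card (Subgroup.centralizer ({g} : Set E)) := by
  rw [← Nat.card_sigma]
  apply Nat.card_congr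
  refine ⟨fun p => ⟨p.1.1, ⟨p.1.2, ?_⟩⟩, fun s => ⟨(s.1, s.2.1), ?_⟩, ?_, ?_⟩
  · rw [Subgroup.mem_centralizer_singleton_iff]
    exact p.2.eq.symm
  · have := s.2.2
    rw [Subgroup.mem_centralizer_singleton_iff] at this
    exact this.symm
  · intro p
    rfl
  · intro s
    rfl

theorem sum_ite_const {ι : Type*} [Fintype ι] (p : ι → Prop) [DecidablePred p] (c : ℕ) :
    ∑ g : ι, (if p g then c else 0) = Nat.card {g : ι // p g} * c := by
  rw [Finset.sum_ite, Finset.sum_const_zero, add_zero, Finset.sum_const, smul_eq_mul,
    Nat.card_eq_fintype_card, Fintype.card_subtype]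

theorem card_conjClasses [Finite E] (A : Subgroup E) (z : E) (hA : A.index = 2)
    (hcomm : ∀ a ∈ A, ∀ b ∈ A, a * b = b * a) (hz : z ∈ A) (hz1 : z ≠ 1) (hzz : z * z = 1)
    (hsq : ∀ x, x ∉ A → x * x = z) (hinv : ∀ a ∈ A, a * a = 1 → a = 1 ∨ a = z) :
    2 * Nat.card (ConjClasses E) = Nat.card A + 6 := by
  classical
  haveI : Fintype E := Fintype.ofFinite E
  -- z is central
  have hzc : ∀ g : E, z * g = g * z := by
    intro g
    by_cases hg : g ∈ A
    · exact hcomm z hz g hg
    · rw [← hsq g hg, mul_assoc]
  -- elements outside `A` invert `A`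
  have hinvert : ∀ x, x ∉ A → ∀ a ∈ A, a * x * a = x := by
    intro x hx a ha
    have hxa : x * a ∉ A := by
      rw [Subgroup.mul_mem_iff_of_index_two hA]
      intro h
      exact hx (h.mpr ha)
    have h1 := hsq _ hxa
    rw [← hsq x hx] at h1
    have h2 : x * (a * x * a) = x * x := by rw [← h1]; group
    exact mul_left_cancel h2
  -- centralisers
  have hC1 : ∀ g : E, g = 1 ∨ g = z →
      Nat.card (Subgroup.centralizer ({g} : Set E)) = Nat.card E := by
    intro g hg
    have : Subgroup.centralizer ({g} : Set E) = ⊤ := by
      rw [eq_top_iff]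
      intro h _
      rw [Subgroup.mem_centralizer_singleton_iff]
      rcases hg with rfl | rfl
      · rw [one_mul, mul_one]
      · exact (hzc h).symm
    rw [this, Subgroup.card_top]
  have hC2 : ∀ a ∈ A, a ≠ 1 → a ≠ z →
      Nat.card (Subgroup.centralizer ({a} : Set E)) = Nat.card A := by
    intro a ha ha1 haz
    have : Subgroup.centralizer ({a} : Set E) = A := by
      ext h
      rw [Subgroup.mem_centralizer_singleton_iff]
      constructor
      · intro hah
        by_contra hh
        have h1 := hinvert h hh a ha
        rw [← hah, mul_assoc] at h1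
        have h2 : a * a = 1 := by
          have : h * (a * a) = h * 1 := by rw [h1, mul_one]
          exact mul_left_cancel this
        rcases hinv a ha h2 with h3 | h3
        · exact ha1 h3
        · exact haz h3
      · intro hh
        exact hcomm h hh a ha
    rw [this]
  have hC3 : ∀ x, x ∉ A → Nat.card (Subgroup.centralizer ({x} : Set E)) = 4 := by
    intro x hx
    have hx1 : x ≠ 1 := by
      rintro rfl
      exact hx A.one_mem
    have hset : (Subgroup.centralizer ({x} : Set E) : Set E) = {1, z, x, x * z} := by
      ext h
      rw [SetLike.mem_coe, Subgroup.mem_centralizer_singleton_iff]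
      simp only [Set.mem_insert_iff, Set.mem_singleton_iff]
      constructor
      · intro hxh
        by_cases hh : h ∈ A
        · have h1 := hinvert x hx h hh
          have h2 : h * h = 1 := by
            have : x * (h * h) = x * 1 := by
              rw [mul_one, ← mul_assoc, ← hxh, h1]
            exact mul_left_cancel this
          rcases hinv h hh h2 with h3 | h3
          · exact Or.inl h3
          · exact Or.inr (Or.inl h3)
        · have hm : x⁻¹ * h ∈ A := by
            rw [Subgroup.mul_mem_iff_of_index_two hA, Subgroup.inv_mem_iff]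
            exact ⟨fun h' => absurd h' hx, fun h' => absurd h' hh⟩
          have hcm : x * (x⁻¹ * h) = (x⁻¹ * h) * x := by
            rw [mul_assoc, hxh]; group
          have h1 := hinvert x hx _ hm
          have h2 : (x⁻¹ * h) * (x⁻¹ * h) = 1 := by
            have : x * ((x⁻¹ * h) * (x⁻¹ * h)) = x * 1 := by
              rw [mul_one, ← mul_assoc, hcm, h1]
            exact mul_left_cancel this
          rcases hinv _ hm h2 with h3 | h3
          · right; right; left
            have : h = x * (x⁻¹ * h) := by group
            rw [this, h3, mul_one]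
          · right; right; right
            have : h = x * (x⁻¹ * h) := by group
            rw [this, h3]
      · rintro (rfl | rfl | rfl | rfl)
        · rw [one_mul, mul_one]
        · exact hzc x
        · rfl
        · rw [mul_assoc, hzc x, ← mul_assoc]
    have hcard : Nat.card (Subgroup.centralizer ({x} : Set E)) =
        (Subgroup.centralizer ({x} : Set E) : Set E).ncard := by
      rw [← Nat.card_coe_set_eq]
      rfl
    rw [hcard, hset]
    have hxz : x * z ∉ A := by
      rw [Subgroup.mul_mem_iff_of_index_two hA]
      intro h
      exact hx (h.mpr hz)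
    rw [Set.ncard_insert_of_notMem, Set.ncard_insert_of_notMem, Set.ncard_insert_of_notMem,
      Set.ncard_singleton]
    · intro h
      rw [Set.mem_singleton_iff] at h
      have : x * 1 = x * z := by rw [mul_one]; exact h
      exact hz1 (mul_left_cancel this).symm
    · simp only [Set.mem_insert_iff, Set.mem_singleton_iff]
      rintro (h | h)
      · exact hx (h ▸ hz)
      · exact hxz (h ▸ hz)
    · simp only [Set.mem_insert_iff, Set.mem_singleton_iff]
      rintro (h | h | h)
      · exact hz1 h.symm
      · exact hx (h ▸ A.one_mem)
      · exact hxz (h ▸ A.one_mem)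
  -- counting
  have hE : Nat.card E = 2 * Nat.card A := by
    rw [← Subgroup.card_mul_index A, hA, mul_comm]
  have hsum : ∑ g : E, Nat.card (Subgroup.centralizer ({g} : Set E)) =
      ∑ g : E, ((if g ∉ A then 4 else 0) + (if g ∈ A then Nat.card A else 0) +
        (if g = 1 ∨ g = z then Nat.card A else 0)) := by
    refine Finset.sum_congr rfl (fun g _ => ?_)
    by_cases hg : g ∈ A
    · by_cases hg1 : g = 1 ∨ g = z
      · rw [hC1 g hg1, if_neg (not_not.mpr hg), if_pos hg, if_pos hg1, hE]
        ring
      · push Not at hg1
        rw [hC2 g hg hg1.1 hg1.2, if_neg (not_not.mpr hg), if_pos hg, if_neg (by tauto), zero_add,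
          add_zero]
    · have hg1 : ¬ (g = 1 ∨ g = z) := by
        rintro (rfl | rfl)
        · exact hg A.one_mem
        · exact hg hz
      rw [hC3 g hg, if_pos hg, if_neg hg, if_neg hg1]
  have hcnt1 : Nat.card {g : E // g ∉ A} = Nat.card A := by
    have h1 : Nat.card {g : E // g ∈ A} + Nat.card {g : E // g ∉ A} = Nat.card E := by
      rw [Nat.card_eq_fintype_card, Nat.card_eq_fintype_card, Nat.card_eq_fintype_card]
      exact Fintype.card_subtype_compl (· ∈ A) ▸ by
        have := Fintype.card_subtype_le (fun g : E => g ∈ A)
        omega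
    have h2 : Nat.card {g : E // g ∈ A} = Nat.card A := rfl
    omega
  have hcnt2 : Nat.card {g : E // g = 1 ∨ g = z} = 2 := by
    rw [Nat.card_eq_two_iff]
    refine ⟨⟨1, Or.inl rfl⟩, ⟨z, Or.inr rfl⟩, ?_, ?_⟩
    · intro h
      exact hz1 (congrArg Subtype.val h).symm
    · ext ⟨g, hg⟩
      simp only [Set.mem_insert_iff, Set.mem_singleton_iff, Set.mem_univ, iff_true, Subtype.mk.injEq]
      exact hg
  have hcomm_card := card_comm_eq_card_conjClasses_mul_card E
  rw [card_commuting_eq_sum, hsum, Finset.sum_add_distrib, Finset.sum_add_distrib,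
    sum_ite_const, sum_ite_const, sum_ite_const, hcnt1, hcnt2, hE] at hcomm_card
  have hApos : 0 < Nat.card A := Nat.card_pos
  have : Nat.card A * (Nat.card A + 6) = Nat.card A * (2 * Nat.card (ConjClasses E)) := by
    linarith
  exact (Nat.eq_of_mul_eq_mul_left hApos this).symm

end Cfsg.Agent.Helper8.Dicyclic
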