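import Mathlib

set_option autoImplicit false

/-!
Quadratic forms over finite fields: singular vectors (Chevalley–Warning), hyperbolic pairs,
splitting off hyperbolic planes.
-/

namespace Cfsg.Agent.Helper8.QuadForm

open Module

universe u

variable {F : Type*} [Field F] {V : Type*} [AddCommGroup V] [Module F V]

/-- a quadratic form on a space of dimension at least three over a finite field has a
nonzero singular vector (Chevalley–Warning). -/
theorem exists_singular [Finite F] [FiniteDimensional F V] (Q : QuadraticForm F V)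
    (h3 : 3 ≤ finrank F V) : ∃ v : V, v ≠ 0 ∧ Q v = 0 := by
  classical
  haveI : Fintype F := Fintype.ofFinite F
  obtain ⟨p, hp⟩ := CharP.exists F
  haveI := hp
  haveI : Fact p.Prime := ⟨CharP.char_is_prime F p⟩
  obtain ⟨A, hA⟩ := LinearMap.BilinMap.toQuadraticMap_surjective Q
  obtain ⟨n, hn⟩ : ∃ n, n = finrank F V := ⟨_, rfl⟩
  let b : Basis (Fin n) F V := (finBasis F V).reindex (finCongr hn.symm)
  let f : MvPolynomial (Fin n) F :=
    ∑ i, ∑ j, MvPolynomial.C (A (b i) (b j)) * MvPolynomial.X i * MvPolynomial.X j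
  have hdeg : f.totalDegree < Fintype.card (Fin n) := by
    rw [Fintype.card_fin]
    refine lt_of_le_of_lt ?_ (show 2 < n by omega)
    refine (MvPolynomial.totalDegree_finsetSum_le (fun i _ => ?_))
    refine (MvPolynomial.totalDegree_finsetSum_le (fun j _ => ?_))
    refine le_trans (MvPolynomial.totalDegree_mul _ _) ?_
    refine le_trans (add_le_add (MvPolynomial.totalDegree_mul _ _) le_rfl) ?_
    rw [MvPolynomial.totalDegree_C, MvPolynomial.totalDegree_X, MvPolynomial.totalDegree_X]
  have heval : ∀ x : Fin n → F, MvPolynomial.eval x f = Q (∑ i, x i • b i) := by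
    intro x
    rw [← hA, LinearMap.BilinMap.toQuadraticMap_apply]
    simp only [f, map_sum, map_mul, MvPolynomial.eval_C, MvPolynomial.eval_X, LinearMap.sum_apply,
      map_smul, LinearMap.smul_apply, smul_eq_mul]
    rw [Finset.sum_comm]
    refine Finset.sum_congr rfl (fun i _ => ?_)
    rw [Finset.mul_sum]
    refine Finset.sum_congr rfl (fun j _ => ?_)
    ring
  have hdvd := char_dvd_card_solutions p hdeg
  have h0 : MvPolynomial.eval (0 : Fin n → F) f = 0 := by
    rw [heval]; simp
  have hcard : 1 < Fintype.card { x : Fin n → F // MvPolynomial.eval x f = 0 } := by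
    have hpos : 0 < Fintype.card { x : Fin n → F // MvPolynomial.eval x f = 0 } :=
      Fintype.card_pos_iff.mpr ⟨⟨0, h0⟩⟩
    have := Nat.le_of_dvd hpos hdvd
    have := (Fact.out : p.Prime).two_le
    omega
  obtain ⟨⟨x, hx⟩, ⟨y, hy⟩, hxy⟩ := Fintype.one_lt_card_iff.mp hcard
  have hne : ∃ z : Fin n → F, z ≠ 0 ∧ MvPolynomial.eval z f = 0 := by
    by_cases hx0 : x = 0
    · refine ⟨y, ?_, hy⟩
      rintro rfl
      apply hxy
      exact Subtype.ext hx0
    · exact ⟨x, hx0, hx⟩
  obtain ⟨z, hz0, hz⟩ := hne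
  refine ⟨∑ i, z i • b i, ?_, by rw [← heval]; exact hz⟩
  intro h
  apply hz0
  have := Fintype.linearIndependent_iff.mp b.linearIndependent z h
  exact funext this

/-- left-nondegeneracy of the polar form. -/
def Nondeg (Q : QuadraticForm F V) : Prop :=
  ∀ v, (∀ w, QuadraticMap.polar Q v w = 0) → v = 0

theorem nondeg_iff (Q : QuadraticForm F V) :
    (QuadraticMap.polarBilin Q).Nondegenerate ↔ Nondeg Q := by
  constructor
  · intro h v hv
    exact h.1 v (fun w => hv w)
  · intro h
    refine ⟨fun v hv => h v (fun w => hv w), fun v hv => h v (fun w => ?_)⟩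
    rw [QuadraticMap.polar_comm]
    exact hv w

/-- nondegeneracy on a submodule. -/
def NondegOn (Q : QuadraticForm F V) (W : Submodule F V) : Prop :=
  ∀ w ∈ W, (∀ w' ∈ W, QuadraticMap.polar Q w w' = 0) → w = 0

theorem polar_comp_subtype (Q : QuadraticForm F V) (W : Submodule F V) (x y : W) :
    QuadraticMap.polar (Q.comp W.subtype) x y = QuadraticMap.polar Q (x : V) (y : V) := rfl

theorem nondeg_comp_subtype_iff (Q : QuadraticForm F V) (W : Submodule F V) :
    Nondeg (Q.comp W.subtype) ↔ NondegOn Q W := by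
  constructor
  · intro h w hw hww
    have := h ⟨w, hw⟩ (fun w' => by
      rw [polar_comp_subtype]
      exact hww w' w'.2)
    exact congrArg Subtype.val this
  · intro h v hv
    apply Subtype.ext
    apply h v v.2
    intro w' hw'
    have := hv ⟨w', hw'⟩
    rw [polar_comp_subtype] at this
    exact this

theorem polar_self' (Q : QuadraticForm F V) (v : V) : QuadraticMap.polar Q v v = 2 * Q v := by
  rw [QuadraticMap.polar_self, two_smul, two_mul]

/-- completing a singular vector to a hyperbolic pair. -/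
theorem exists_hyperbolic_pair (Q : QuadraticForm F V) (hQ : Nondeg Q) {e : V} (he0 : e ≠ 0)
    (he : Q e = 0) : ∃ f, Q f = 0 ∧ QuadraticMap.polar Q e f = 1 := by
  have hex : ∃ f₀, QuadraticMap.polar Q e f₀ ≠ 0 := by
    by_contra h
    push Not at h
    exact he0 (hQ e h)
  obtain ⟨f₀, hf₀⟩ := hex
  obtain ⟨f₁, hf₁⟩ : ∃ f₁, f₁ = (QuadraticMap.polar Q e f₀)⁻¹ • f₀ := ⟨_, rfl⟩
  have h1 : QuadraticMap.polar Q e f₁ = 1 := by
    rw [hf₁, QuadraticMap.polar_smul_right, smul_eq_mul, inv_mul_cancel₀ hf₀]
  refine ⟨f₁ - Q f₁ • e, ?_, ?_⟩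
  · rw [sub_eq_add_neg, QuadraticMap.map_add Q, QuadraticMap.map_neg, QuadraticMap.map_smul, he,
      QuadraticMap.polar_neg_right, QuadraticMap.polar_smul_right, QuadraticMap.polar_comm, h1]
    simp
  · rw [sub_eq_add_neg, QuadraticMap.polar_add_right, QuadraticMap.polar_neg_right,
      QuadraticMap.polar_smul_right, polar_self', he, h1]
    simp

/-- the orthogonal complement of a pair of vectors. -/
def perpPair (Q : QuadraticForm F V) (e f : V) : Submodule F V :=
  LinearMap.ker (QuadraticMap.polarBilin Q e) ⊓ LinearMap.ker (QuadraticMap.polarBilin Q f)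

theorem mem_perpPair (Q : QuadraticForm F V) (e f w : V) :
    w ∈ perpPair Q e f ↔ QuadraticMap.polar Q e w = 0 ∧ QuadraticMap.polar Q f w = 0 := by
  unfold perpPair
  rw [Submodule.mem_inf, LinearMap.mem_ker, LinearMap.mem_ker]
  rfl

theorem perpPair_nondeg (Q : QuadraticForm F V) (hQ : Nondeg Q) {e f : V} (he : Q e = 0)
    (hf : Q f = 0) (hef : QuadraticMap.polar Q e f = 1) : NondegOn Q (perpPair Q e f) := by
  intro w hw hww
  rw [mem_perpPair] at hw
  apply hQ
  intro v
  have hfe : QuadraticMap.polar Q f e = 1 := by rw [QuadraticMap.polar_comm]; exact hef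
  have hee : QuadraticMap.polar Q e e = 0 := by rw [polar_self', he, mul_zero]
  have hff : QuadraticMap.polar Q f f = 0 := by rw [polar_self', hf, mul_zero]
  have hP : v - QuadraticMap.polar Q f v • e - QuadraticMap.polar Q e v • f ∈ perpPair Q e f := by
    rw [mem_perpPair]
    constructor
    · rw [QuadraticMap.polar_sub_right, QuadraticMap.polar_sub_right, QuadraticMap.polar_smul_right,
        QuadraticMap.polar_smul_right, hee, hef]
      simp
    · rw [QuadraticMap.polar_sub_right, QuadraticMap.polar_sub_right, QuadraticMap.polar_smul_right,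
        QuadraticMap.polar_smul_right, hff, hfe]
      simp
  have h1 := hww _ hP
  rw [QuadraticMap.polar_sub_right, QuadraticMap.polar_sub_right, QuadraticMap.polar_smul_right,
    QuadraticMap.polar_smul_right, QuadraticMap.polar_comm Q w e, QuadraticMap.polar_comm Q w f,
    hw.1, hw.2] at h1
  simpa using h1

theorem finrank_perpPair [FiniteDimensional F V] (Q : QuadraticForm F V) {e f : V} (he : Q e = 0)
    (hf : Q f = 0) (hef : QuadraticMap.polar Q e f = 1) :
    finrank F (perpPair Q e f) + 2 = finrank F V := by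
  have hfe : QuadraticMap.polar Q f e = 1 := by rw [QuadraticMap.polar_comm]; exact hef
  have hee : QuadraticMap.polar Q e e = 0 := by rw [polar_self', he, mul_zero]
  have hff : QuadraticMap.polar Q f f = 0 := by rw [polar_self', hf, mul_zero]
  let φ : V →ₗ[F] F × F := (QuadraticMap.polarBilin Q e).prod (QuadraticMap.polarBilin Q f)
  have hker : LinearMap.ker φ = perpPair Q e f := LinearMap.ker_prod _ _
  have hrange : LinearMap.range φ = ⊤ := by
    rw [LinearMap.range_eq_top]
    rintro ⟨a, b⟩
    refine ⟨b • e + a • f, ?_⟩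
    show (QuadraticMap.polar Q e (b • e + a • f), QuadraticMap.polar Q f (b • e + a • f)) = (a, b)
    rw [QuadraticMap.polar_add_right, QuadraticMap.polar_add_right, QuadraticMap.polar_smul_right,
      QuadraticMap.polar_smul_right, QuadraticMap.polar_smul_right, QuadraticMap.polar_smul_right,
      hee, hff, hef, hfe]
    simp
  have h := LinearMap.finrank_range_add_finrank_ker φ
  rw [hrange, finrank_top, hker, Module.finrank_prod, Module.finrank_self] at h
  omega

/-- the relations of a family of hyperbolic pairs. -/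
def IsHyp (Q : QuadraticForm F V) {k : ℕ} (e f : Fin k → V) : Prop :=
  (∀ i, Q (e i) = 0 ∧ Q (f i) = 0) ∧
  (∀ i j, QuadraticMap.polar Q (e i) (f j) = if i = j then 1 else 0) ∧
  (∀ i j, QuadraticMap.polar Q (e i) (e j) = 0 ∧ QuadraticMap.polar Q (f i) (f j) = 0)

theorem IsHyp.cons (Q : QuadraticForm F V) {k : ℕ} {e f : Fin k → V} (h : IsHyp Q e f)
    {e₀ f₀ : V} (he : Q e₀ = 0) (hf : Q f₀ = 0) (hef : QuadraticMap.polar Q e₀ f₀ = 1)
    (hperp : ∀ i, e i ∈ perpPair Q e₀ f₀ ∧ f i ∈ perpPair Q e₀ f₀) :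
    IsHyp Q (Fin.cons e₀ e : Fin (k + 1) → V) (Fin.cons f₀ f : Fin (k + 1) → V) := by
  have hee : QuadraticMap.polar Q e₀ e₀ = 0 := by rw [polar_self', he, mul_zero]
  have hff : QuadraticMap.polar Q f₀ f₀ = 0 := by rw [polar_self', hf, mul_zero]
  simp only [mem_perpPair] at hperp
  obtain ⟨h1, h2, h3⟩ := h
  refine ⟨?_, ?_, ?_⟩
  · intro i
    refine Fin.cases ?_ (fun i => ?_) i
    · exact ⟨he, hf⟩
    · simp only [Fin.cons_succ]
      exact h1 i
  · intro i j
    refine Fin.cases ?_ (fun i => ?_) i <;> refine Fin.cases ?_ (fun j => ?_) j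
    · simp [hef]
    · simp only [Fin.cons_zero, Fin.cons_succ]
      rw [if_neg (Fin.succ_ne_zero j).symm]
      exact (hperp j).2.1
    · simp only [Fin.cons_zero, Fin.cons_succ]
      rw [if_neg (Fin.succ_ne_zero i), QuadraticMap.polar_comm]
      exact (hperp i).1.2
    · simp only [Fin.cons_succ, Fin.succ_inj]
      exact h2 i j
  · intro i j
    refine Fin.cases ?_ (fun i => ?_) i <;> refine Fin.cases ?_ (fun j => ?_) j
    · simp [hee, hff]
    · simp only [Fin.cons_zero, Fin.cons_succ]
      exact ⟨(hperp j).1.1, (hperp j).2.2⟩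
    · simp only [Fin.cons_zero, Fin.cons_succ]
      rw [QuadraticMap.polar_comm Q (e i) e₀, QuadraticMap.polar_comm Q (f i) f₀]
      exact ⟨(hperp i).1.1, (hperp i).2.2⟩
    · simp only [Fin.cons_succ]
      exact h3 i j

/-- splitting off `k` hyperbolic planes from a nondegenerate quadratic space of dimension
`2k + r`, `r ≥ 1`, over a finite field. -/
theorem exists_hyp_family [Finite F] (k : ℕ) :
    ∀ {V : Type u} [AddCommGroup V] [Module F V] [FiniteDimensional F V]
      (Q : QuadraticForm F V), Nondeg Q → ∀ r, 1 ≤ r → finrank F V = 2 * k + r →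
      ∃ (e f : Fin k → V) (W : Submodule F V), IsHyp Q e f ∧
        (∀ w ∈ W, ∀ i, QuadraticMap.polar Q (e i) w = 0 ∧ QuadraticMap.polar Q (f i) w = 0) ∧
        finrank F W = r ∧ NondegOn Q W := by
  induction k with
  | zero =>
    intro V _ _ _ Q hQ r hr hV
    refine ⟨Fin.elim0, Fin.elim0, ⊤, ⟨fun i => i.elim0, fun i => i.elim0, fun i => i.elim0⟩,
      fun _ _ i => i.elim0, by rw [finrank_top, hV]; omega, fun w _ hw => hQ w (fun w' => hw w' trivial)⟩
  | succ k ih =>
    intro V _ _ _ Q hQ r hr hV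
    obtain ⟨e₀, he₀0, he₀⟩ := exists_singular Q (by omega)
    obtain ⟨f₀, hf₀, hef₀⟩ := exists_hyperbolic_pair Q hQ he₀0 he₀
    have hdim : finrank F (perpPair Q e₀ f₀) = 2 * k + r := by
      have := finrank_perpPair Q he₀ hf₀ hef₀
      omega
    have hnd : Nondeg (Q.comp (perpPair Q e₀ f₀).subtype) :=
      (nondeg_comp_subtype_iff Q _).mpr (perpPair_nondeg Q hQ he₀ hf₀ hef₀)
    obtain ⟨e', f', W', hhyp, hperp, hW'dim, hW'nd⟩ := ih (Q.comp (perpPair Q e₀ f₀).subtype) hnd r hr hdim
    have hhyp' : IsHyp Q (fun i => (e' i : V)) (fun i => (f' i : V)) := hhyp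
    refine ⟨Fin.cons e₀ (fun i => (e' i : V)), Fin.cons f₀ (fun i => (f' i : V)),
      W'.map (perpPair Q e₀ f₀).subtype, hhyp'.cons Q he₀ hf₀ hef₀ (fun i => ⟨(e' i).2, (f' i).2⟩),
      ?_, ?_, ?_⟩
    · rintro w ⟨w', hw', rfl⟩ i
      refine Fin.cases ?_ (fun i => ?_) i
      · simp only [Fin.cons_zero]
        exact (mem_perpPair Q e₀ f₀ _).mp w'.2
      · simp only [Fin.cons_succ]
        exact hperp w' hw' i
    · rw [Submodule.finrank_map_subtype_eq, hW'dim]
    · rintro w ⟨w', hw', rfl⟩ hww
      have := hW'nd w' hw' (fun u hu => hww _ ⟨u, hu, rfl⟩)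
      rw [this]
      rfl

/-- a family with a dual family (with respect to the polar form) is linearly independent. -/
theorem linearIndependent_of_dual {ι : Type*} [Fintype ι] [DecidableEq ι] (Q : QuadraticForm F V)
    (b b' : ι → V) (d : ι → F) (hd : ∀ i, d i ≠ 0)
    (h : ∀ i j, QuadraticMap.polar Q (b i) (b' j) = if i = j then d i else 0) :
    LinearIndependent F b := by
  rw [Fintype.linearIndependent_iff]
  intro g hg j
  have h1 : QuadraticMap.polarBilin Q (∑ i, g i • b i) (b' j) = g j * d j := by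
    rw [map_sum, LinearMap.sum_apply, Finset.sum_eq_single j]
    · rw [map_smul, LinearMap.smul_apply, QuadraticMap.polarBilin_apply_apply, h, if_pos rfl,
        smul_eq_mul]
    · intro i _ hij
      rw [map_smul, LinearMap.smul_apply, QuadraticMap.polarBilin_apply_apply, h, if_neg hij,
        smul_zero]
    · intro hj; exact absurd (Finset.mem_univ j) hj
  rw [hg, map_zero, LinearMap.zero_apply] at h1
  rcases mul_eq_zero.mp h1.symm with h2 | h2
  · exact h2
  · exact absurd h2 (hd j)

/-- a quadratic form is determined by its values and the values of its polar form on a basis. -/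
theorem eq_of_basis {ι : Type*} (b : Basis ι F V) (Q₁ Q₂ : QuadraticForm F V)
    (h1 : ∀ i, Q₁ (b i) = Q₂ (b i))
    (h2 : ∀ i j, QuadraticMap.polar Q₁ (b i) (b j) = QuadraticMap.polar Q₂ (b i) (b j)) :
    Q₁ = Q₂ := by
  classical
  letI : LinearOrder ι := IsWellOrder.linearOrder WellOrderingRel
  have h : QuadraticMap.toBilin Q₁ b = QuadraticMap.toBilin Q₂ b := by
    apply LinearMap.BilinForm.ext_basis b
    intro i j
    rw [QuadraticMap.toBilin_apply, QuadraticMap.toBilin_apply, h1 i, h2 i j]
  calc Q₁ = LinearMap.BilinMap.toQuadraticMap (QuadraticMap.toBilin Q₁ b) :=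
        (QuadraticMap.toQuadraticMap_toBilin Q₁ b).symm
    _ = LinearMap.BilinMap.toQuadraticMap (QuadraticMap.toBilin Q₂ b) := by rw [h]
    _ = Q₂ := QuadraticMap.toQuadraticMap_toBilin Q₂ b

/-- a nonzero vector of a nondegenerate line is nonsingular. -/
theorem ne_zero_of_line (Q : QuadraticForm F V) {W : Submodule F V} (hW : finrank F W = 1)
    (hnd : NondegOn Q W) : ∃ x ∈ W, QuadraticMap.polar Q x x ≠ 0 ∧ Q x ≠ 0 := by
  obtain ⟨x, hx0, hx⟩ := finrank_eq_one_iff'.mp hW
  have hxx : QuadraticMap.polar Q (x : V) (x : V) ≠ 0 := by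
    intro h0
    apply hx0
    apply Subtype.ext
    apply hnd x x.2
    intro w' hw'
    obtain ⟨c, hc⟩ := hx ⟨w', hw'⟩
    have : w' = c • (x : V) := by
      have := congrArg Subtype.val hc
      exact this.symm
    rw [this, QuadraticMap.polar_smul_right, h0, smul_zero]
  refine ⟨x, x.2, hxx, ?_⟩
  intro h0
  apply hxx
  rw [polar_self', h0, mul_zero]

/-- a quadratic form in at least two variables over a finite field represents a given scalar
or has a nonzero singular vector. -/
theorem exists_repr_or_singular [Finite F] [FiniteDimensional F V] (Q : QuadraticForm F V)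
    (h2 : 2 ≤ finrank F V) (c : F) : (∃ v, Q v = c) ∨ (∃ v, v ≠ 0 ∧ Q v = 0) := by
  obtain ⟨⟨v, z⟩, hvz0, hvz⟩ := exists_singular (Q.prod ((-c) • QuadraticMap.sq (R := F) (A := F)))
    (by rw [Module.finrank_prod, Module.finrank_self]; omega)
  rw [QuadraticMap.prod_apply, QuadraticMap.smul_apply, QuadraticMap.sq_apply, smul_eq_mul] at hvz
  by_cases hz : z = 0
  · right
    refine ⟨v, ?_, ?_⟩
    · rintro rfl
      apply hvz0
      rw [hz]
      rfl
    · rw [hz] at hvz
      simpa using hvz
  · left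
    refine ⟨z⁻¹ • v, ?_⟩
    rw [QuadraticMap.map_smul, smul_eq_mul]
    have : Q v = c * (z * z) := by linear_combination hvz
    rw [this]
    field_simp

/-- a nondegenerate quadratic form in at least two variables over a finite field is universal. -/
theorem exists_repr [Finite F] [FiniteDimensional F V] (Q : QuadraticForm F V) (hQ : Nondeg Q)
    (h2 : 2 ≤ finrank F V) (c : F) : ∃ v, Q v = c := by
  rcases exists_repr_or_singular Q h2 c with h | ⟨e, he0, he⟩
  · exact h
  · obtain ⟨f, hf, hef⟩ := exists_hyperbolic_pair Q hQ he0 he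
    refine ⟨c • e + f, ?_⟩
    rw [QuadraticMap.map_add Q, QuadraticMap.map_smul, he, hf, QuadraticMap.polar_smul_left, hef]
    simp

/-- in an anisotropic nondegenerate plane there is a pair `x, y` with `Q x = 1`, `B(x, y) = 1`
and `t² + t + Q y` without roots. -/
theorem exists_elliptic_pair [Finite F] [FiniteDimensional F V] (Q : QuadraticForm F V)
    {W : Submodule F V} (hW : finrank F W = 2) (hnd : NondegOn Q W)
    (han : ∀ w ∈ W, Q w = 0 → w = 0) :
    ∃ x ∈ W, ∃ y ∈ W, Q x = 1 ∧ QuadraticMap.polar Q x y = 1 ∧ ∀ t : F, t ^ 2 + t + Q y ≠ 0 := by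
  rcases exists_repr_or_singular (Q.comp W.subtype) (by omega) 1 with ⟨x, hx⟩ | ⟨v, hv0, hv⟩
  swap
  · exfalso
    apply hv0
    apply Subtype.ext
    exact han v v.2 hv
  obtain ⟨x, hxW⟩ := x
  change Q x = 1 at hx
  have hx0 : x ≠ 0 := by
    rintro rfl
    rw [QuadraticMap.map_zero] at hx
    exact zero_ne_one hx
  -- some y outside the line with B(x, y) = 1
  have hy : ∃ y ∈ W, QuadraticMap.polar Q x y = 1 ∧ y ∉ Submodule.span F {x} := by
    have hex : ∃ u ∈ W, QuadraticMap.polar Q x u ≠ 0 := by
      by_contra h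
      push Not at h
      exact hx0 (hnd x hxW h)
    obtain ⟨u, huW, hu⟩ := hex
    obtain ⟨u₁, hu₁⟩ : ∃ u₁, u₁ = (QuadraticMap.polar Q x u)⁻¹ • u := ⟨_, rfl⟩
    have hu₁W : u₁ ∈ W := by rw [hu₁]; exact W.smul_mem _ huW
    have h1 : QuadraticMap.polar Q x u₁ = 1 := by
      rw [hu₁, QuadraticMap.polar_smul_right, smul_eq_mul, inv_mul_cancel₀ hu]
    by_cases hmem : u₁ ∈ Submodule.span F {x}
    · have hw : ∃ w ∈ W, w ∉ Submodule.span F {x} := by
        by_contra h
        push Not at h
        have hle : W ≤ Submodule.span F {x} := fun w hw => h w hw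
        have := Submodule.finrank_mono hle
        rw [hW, finrank_span_singleton hx0] at this
        omega
      obtain ⟨w, hwW, hw⟩ := hw
      refine ⟨u₁ + (w - QuadraticMap.polar Q x w • u₁), ?_, ?_, ?_⟩
      · exact W.add_mem hu₁W (W.sub_mem hwW (W.smul_mem _ hu₁W))
      · rw [QuadraticMap.polar_add_right, QuadraticMap.polar_sub_right,
          QuadraticMap.polar_smul_right, h1]
        simp
      · intro hmem2
        apply hw
        have h3 : w = (u₁ + (w - QuadraticMap.polar Q x w • u₁)) - u₁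
            + QuadraticMap.polar Q x w • u₁ := by abel
        rw [h3]
        exact Submodule.add_mem _ (Submodule.sub_mem _ hmem2 hmem) (Submodule.smul_mem _ _ hmem)
    · exact ⟨u₁, hu₁W, h1, hmem⟩
  obtain ⟨y, hyW, hxy, hyx⟩ := hy
  refine ⟨x, hxW, y, hyW, hx, hxy, ?_⟩
  intro t ht
  have h1 : Q (t • x + y) = t ^ 2 + t + Q y := by
    rw [QuadraticMap.map_add Q, QuadraticMap.map_smul, hx, QuadraticMap.polar_smul_left, hxy]
    simp only [smul_eq_mul, mul_one]
    ring
  rw [← h1] at ht
  have h2 := han _ (W.add_mem (W.smul_mem t hxW) hyW) ht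
  apply hyx
  have : y = (-t) • x := by
    rw [neg_smul]
    exact eq_neg_of_add_eq_zero_right h2
  rw [this]
  exact Submodule.smul_mem _ _ (Submodule.mem_span_singleton_self x)

/-- the dual family of a hyperbolic family. -/
theorem IsHyp.dual (Q : QuadraticForm F V) {k : ℕ} {e f : Fin k → V} (h : IsHyp Q e f)
    (i j : Fin k ⊕ Fin k) :
    QuadraticMap.polar Q (Sum.elim e f i) (Sum.elim f e j) = if i = j then 1 else 0 := by
  obtain ⟨h1, h2, h3⟩ := h
  rcases i with i | i <;> rcases j with j | j
  · simp only [Sum.elim_inl, Sum.inl.injEq]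
    exact h2 i j
  · simp only [Sum.elim_inl, Sum.elim_inr, reduceCtorEq, if_false]
    exact (h3 i j).1
  · simp only [Sum.elim_inl, Sum.elim_inr, reduceCtorEq, if_false]
    exact (h3 i j).2
  · simp only [Sum.elim_inr, Sum.inr.injEq]
    rw [QuadraticMap.polar_comm, h2 j i]
    simp only [eq_comm]

/-- combining dual families of two mutually orthogonal families. -/
theorem dual_sum {ι₁ ι₂ : Type*} [DecidableEq ι₁] [DecidableEq ι₂] (Q : QuadraticForm F V)
    {b₁ b₁' : ι₁ → V} {b₂ b₂' : ι₂ → V} {d₁ : ι₁ → F} {d₂ : ι₂ → F}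
    (h1 : ∀ i j, QuadraticMap.polar Q (b₁ i) (b₁' j) = if i = j then d₁ i else 0)
    (h2 : ∀ i j, QuadraticMap.polar Q (b₂ i) (b₂' j) = if i = j then d₂ i else 0)
    (h12 : ∀ i j, QuadraticMap.polar Q (b₁ i) (b₂' j) = 0)
    (h21 : ∀ i j, QuadraticMap.polar Q (b₂ i) (b₁' j) = 0) (i j : ι₁ ⊕ ι₂) :
    QuadraticMap.polar Q (Sum.elim b₁ b₂ i) (Sum.elim b₁' b₂' j)
      = if i = j then Sum.elim d₁ d₂ i else 0 := by
  rcases i with i | i <;> rcases j with j | j
  · simp only [Sum.elim_inl, Sum.inl.injEq]
    exact h1 i j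
  · simp only [Sum.elim_inl, Sum.elim_inr, reduceCtorEq, if_false]
    exact h12 i j
  · simp only [Sum.elim_inl, Sum.elim_inr, reduceCtorEq, if_false]
    exact h21 i j
  · simp only [Sum.elim_inr, Sum.inr.injEq]
    exact h2 i j

/-- if `t² + t + ζ` has no root then `1 - 4ζ ≠ 0`. -/
theorem one_sub_four_ne_zero {ζ : F} (hζ : ∀ t : F, t ^ 2 + t + ζ ≠ 0) : 1 - 4 * ζ ≠ 0 := by
  intro h
  have h2 : (2 : F) ≠ 0 := by
    intro h2
    have : (4 : F) = 0 := by
      have : (4 : F) = 2 * 2 := by norm_num
      rw [this, h2, mul_zero]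
    rw [this, zero_mul, sub_zero] at h
    exact one_ne_zero h
  apply hζ (-(1 / 2))
  field_simp
  linear_combination -h

/-- the dual family of an elliptic pair. -/
theorem dual_ell (Q : QuadraticForm F V) {x y : V} (hx : Q x = 1)
    (hxy : QuadraticMap.polar Q x y = 1) (i j : Fin 2) :
    QuadraticMap.polar Q (![x, y] i) (![y - (2 * Q y) • x, x - (2 : F) • y] j)
      = if i = j then 1 - 4 * Q y else 0 := by
  have hyx : QuadraticMap.polar Q y x = 1 := by rw [QuadraticMap.polar_comm]; exact hxy
  fin_cases i <;> fin_cases j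
  · show QuadraticMap.polar Q x (y - (2 * Q y) • x) = if (0 : Fin 2) = 0 then 1 - 4 * Q y else 0
    rw [QuadraticMap.polar_sub_right, QuadraticMap.polar_smul_right, polar_self', hx, hxy,
      smul_eq_mul, if_pos rfl]
    ring
  · show QuadraticMap.polar Q x (x - (2 : F) • y) = if (0 : Fin 2) = 1 then 1 - 4 * Q y else 0
    rw [QuadraticMap.polar_sub_right, QuadraticMap.polar_smul_right, polar_self', hx, hxy,
      smul_eq_mul, if_neg (by decide)]
    ring
  · show QuadraticMap.polar Q y (y - (2 * Q y) • x) = if (1 : Fin 2) = 0 then 1 - 4 * Q y else 0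
    rw [QuadraticMap.polar_sub_right, QuadraticMap.polar_smul_right, polar_self', hyx,
      smul_eq_mul, if_neg (by decide)]
    ring
  · show QuadraticMap.polar Q y (x - (2 : F) • y) = if (1 : Fin 2) = 1 then 1 - 4 * Q y else 0
    rw [QuadraticMap.polar_sub_right, QuadraticMap.polar_smul_right, polar_self', hyx,
      smul_eq_mul, if_pos rfl]
    ring

/-- a linearly independent family of the right size is a basis. -/
theorem exists_basis_of_li [FiniteDimensional F V] {ι : Type*} [Fintype ι] {b : ι → V}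
    (hli : LinearIndependent F b) (hcard : Fintype.card ι = finrank F V) :
    ∃ b' : Basis ι F V, ⇑b' = b :=
  ⟨Basis.mk hli (by rw [hli.span_eq_top_of_card_eq_finrank' hcard]), Basis.coe_mk _ _⟩

/-- a hyperbolic family of the right size is a basis. -/
theorem IsHyp.exists_basis [FiniteDimensional F V] (Q : QuadraticForm F V) {m : ℕ}
    {e f : Fin m → V} (h : IsHyp Q e f) (hV : finrank F V = 2 * m) :
    ∃ b : Basis (Fin m ⊕ Fin m) F V, ⇑b = Sum.elim e f := by
  classical
  have hli : LinearIndependent F (Sum.elim e f) :=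
    linearIndependent_of_dual Q _ (Sum.elim f e) (fun _ => 1) (fun _ => one_ne_zero) (h.dual Q)
  exact exists_basis_of_li hli (by simp [hV]; omega)

/-- a hyperbolic family together with an orthogonal elliptic pair is a basis. -/
theorem exists_elliptic_basis [FiniteDimensional F V] (Q : QuadraticForm F V) {k : ℕ}
    {e f : Fin k → V} (h : IsHyp Q e f) (hV : finrank F V = 2 * k + 2) {x y : V}
    (hpx : ∀ i, QuadraticMap.polar Q (e i) x = 0 ∧ QuadraticMap.polar Q (f i) x = 0)
    (hpy : ∀ i, QuadraticMap.polar Q (e i) y = 0 ∧ QuadraticMap.polar Q (f i) y = 0)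
    (hx : Q x = 1) (hxy : QuadraticMap.polar Q x y = 1) (hζ : ∀ t : F, t ^ 2 + t + Q y ≠ 0) :
    ∃ b : Basis ((Fin k ⊕ Fin k) ⊕ Fin 2) F V, ⇑b = Sum.elim (Sum.elim e f) ![x, y] := by
  classical
  have hli : LinearIndependent F (Sum.elim (Sum.elim e f) ![x, y]) := by
    refine linearIndependent_of_dual Q _
      (Sum.elim (Sum.elim f e) ![y - (2 * Q y) • x, x - (2 : F) • y])
      (Sum.elim (fun _ => 1) (fun _ => 1 - 4 * Q y)) ?_
      (dual_sum Q (h.dual Q) (dual_ell Q hx hxy) ?_ ?_)
    · rintro (i | i)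
      · exact one_ne_zero
      · exact one_sub_four_ne_zero hζ
    · intro i j
      have h1 : ∀ i, QuadraticMap.polar Q (Sum.elim e f i) x = 0 := by
        rintro (i | i)
        · exact (hpx i).1
        · exact (hpx i).2
      have h2 : ∀ i, QuadraticMap.polar Q (Sum.elim e f i) y = 0 := by
        rintro (i | i)
        · exact (hpy i).1
        · exact (hpy i).2
      fin_cases j
      · show QuadraticMap.polar Q (Sum.elim e f i) (y - (2 * Q y) • x) = 0
        rw [QuadraticMap.polar_sub_right, QuadraticMap.polar_smul_right, h1, h2]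
        simp
      · show QuadraticMap.polar Q (Sum.elim e f i) (x - (2 : F) • y) = 0
        rw [QuadraticMap.polar_sub_right, QuadraticMap.polar_smul_right, h1, h2]
        simp
    · intro i j
      have h1 : ∀ j, QuadraticMap.polar Q x (Sum.elim f e j) = 0 := by
        rintro (j | j)
        · rw [QuadraticMap.polar_comm]; exact (hpx j).2
        · rw [QuadraticMap.polar_comm]; exact (hpx j).1
      have h2 : ∀ j, QuadraticMap.polar Q y (Sum.elim f e j) = 0 := by
        rintro (j | j)
        · rw [QuadraticMap.polar_comm]; exact (hpy j).2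
        · rw [QuadraticMap.polar_comm]; exact (hpy j).1
      fin_cases i
      · exact h1 j
      · exact h2 j
  exact exists_basis_of_li hli (by simp [hV]; omega)

/-- **Standard bases in even dimension**: a nondegenerate quadratic space of dimension `2(k+1)`
over a finite field is hyperbolic or elliptic. -/
theorem exists_std_family [Finite F] [FiniteDimensional F V] (k : ℕ)
    (hV : finrank F V = 2 * (k + 1)) (Q : QuadraticForm F V) (hQ : Nondeg Q) :
    (∃ e f : Fin (k + 1) → V, IsHyp Q e f) ∨
    (∃ (e f : Fin k → V) (x y : V), IsHyp Q e f ∧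
      (∀ i, QuadraticMap.polar Q (e i) x = 0 ∧ QuadraticMap.polar Q (f i) x = 0) ∧
      (∀ i, QuadraticMap.polar Q (e i) y = 0 ∧ QuadraticMap.polar Q (f i) y = 0) ∧
      Q x = 1 ∧ QuadraticMap.polar Q x y = 1 ∧ ∀ t : F, t ^ 2 + t + Q y ≠ 0) := by
  obtain ⟨e, f, W, hhyp, hperp, hWdim, hWnd⟩ :=
    exists_hyp_family k Q hQ 2 (by norm_num) (by rw [hV]; ring)
  by_cases han : ∀ w ∈ W, Q w = 0 → w = 0
  · right
    obtain ⟨x, hxW, y, hyW, hx, hxy, hζ⟩ := exists_elliptic_pair Q hWdim hWnd han
    exact ⟨e, f, x, y, hhyp, hperp x hxW, hperp y hyW, hx, hxy, hζ⟩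
  · left
    push Not at han
    obtain ⟨e₀, he₀W, he₀, he₀0⟩ := han
    obtain ⟨f₀, hf₀, hef₀⟩ := exists_hyperbolic_pair (Q.comp W.subtype)
      ((nondeg_comp_subtype_iff Q W).mpr hWnd) (e := ⟨e₀, he₀W⟩)
      (fun h => he₀0 (congrArg Subtype.val h)) he₀
    refine ⟨Fin.cons e₀ e, Fin.cons (f₀ : V) f, hhyp.cons Q he₀ hf₀ hef₀ (fun i => ?_)⟩
    rw [mem_perpPair, mem_perpPair, QuadraticMap.polar_comm Q e₀, QuadraticMap.polar_comm Q (f₀ : V),
      QuadraticMap.polar_comm Q e₀, QuadraticMap.polar_comm Q (f₀ : V)]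
    exact ⟨⟨(hperp e₀ he₀W i).1, (hperp f₀ f₀.2 i).1⟩, ⟨(hperp e₀ he₀W i).2, (hperp f₀ f₀.2 i).2⟩⟩

/-- a family with Gram data `c` times that of a basis defines a similarity of multiplier `c`. -/
theorem exists_similarity [FiniteDimensional F V] {ι : Type*} (Q : QuadraticForm F V)
    (hQ : Nondeg Q) (b : Basis ι F V) (u : ι → V) {c : F} (hc : c ≠ 0)
    (h1 : ∀ i, Q (u i) = c * Q (b i))
    (h2 : ∀ i j, QuadraticMap.polar Q (u i) (u j) = c * QuadraticMap.polar Q (b i) (b j)) :
    ∃ g : V ≃ₗ[F] V, (∀ v, Q (g v) = c * Q v) ∧ ∀ i, g (b i) = u i := by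
  have hφ : ∀ i, b.constr F u (b i) = u i := fun i => b.constr_basis F u i
  have heq : Q.comp (b.constr F u) = c • Q := by
    apply eq_of_basis b
    · intro i
      rw [QuadraticMap.comp_apply, hφ, h1]
      rfl
    · intro i j
      have e1 : QuadraticMap.polar (⇑(c • Q)) (b i) (b j)
          = c * QuadraticMap.polar Q (b i) (b j) := by
        show QuadraticMap.polar (c • ⇑Q) (b i) (b j) = _
        rw [QuadraticMap.polar_smul, smul_eq_mul]
      have e2 : QuadraticMap.polar (⇑(Q.comp (b.constr F u))) (b i) (b j)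
          = QuadraticMap.polar Q (b.constr F u (b i)) (b.constr F u (b j)) := by
        unfold QuadraticMap.polar
        rw [QuadraticMap.comp_apply, QuadraticMap.comp_apply, QuadraticMap.comp_apply, map_add]
      rw [e1, e2, hφ, hφ, h2]
  have hval : ∀ v, Q (b.constr F u v) = c * Q v := by
    intro v
    have := congrArg (fun q : QuadraticForm F V => q v) heq
    exact this
  have hpolar : ∀ v w, QuadraticMap.polar Q (b.constr F u v) (b.constr F u w)
      = c * QuadraticMap.polar Q v w := by
    intro v w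
    unfold QuadraticMap.polar
    rw [← map_add, hval, hval, hval]
    ring
  have hinj : Function.Injective (b.constr F u) := by
    rw [injective_iff_map_eq_zero]
    intro v hv
    apply hQ
    intro w
    have := hpolar v w
    rw [hv, QuadraticMap.polar_zero_left] at this
    rcases mul_eq_zero.mp this.symm with h | h
    · exact absurd h hc
    · exact h
  refine ⟨LinearEquiv.ofInjectiveEndo _ hinj, fun v => ?_, fun i => ?_⟩
  · rw [LinearEquiv.coe_ofInjectiveEndo]
    exact hval v
  · rw [LinearEquiv.coe_ofInjectiveEndo]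
    exact hφ i

/-- the norm form `a² + ab + ζb²` of an irreducible `t² + t + ζ` over a finite field is
universal. -/
theorem exists_norm_eq [Finite F] {ζ : F} (hζ : ∀ t : F, t ^ 2 + t + ζ ≠ 0) (c : F) :
    ∃ a b : F, a ^ 2 + a * b + ζ * b ^ 2 = c := by
  let N : QuadraticForm F (F × F) :=
    QuadraticMap.linMulLin (LinearMap.fst F F F) (LinearMap.fst F F F)
      + QuadraticMap.linMulLin (LinearMap.fst F F F) (LinearMap.snd F F F)
      + ζ • QuadraticMap.linMulLin (LinearMap.snd F F F) (LinearMap.snd F F F)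
  have hN : ∀ a b : F, N (a, b) = a ^ 2 + a * b + ζ * b ^ 2 := by
    intro a b
    show a * a + a * b + ζ • (b * b) = _
    rw [smul_eq_mul]
    ring
  rcases exists_repr_or_singular N (by rw [Module.finrank_prod, Module.finrank_self]) c with
    ⟨⟨a, b⟩, h⟩ | ⟨⟨a, b⟩, h0, h⟩
  · exact ⟨a, b, by rw [← hN]; exact h⟩
  · exfalso
    rw [hN] at h
    by_cases hb : b = 0
    · rw [hb] at h
      have ha : a = 0 := by
        have : a ^ 2 = 0 := by linear_combination h
        exact pow_eq_zero_iff (two_ne_zero) |>.mp this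
      exact h0 (by rw [ha, hb]; rfl)
    · apply hζ (a / b)
      field_simp
      linear_combination h

/-! ### orthogonal bases in odd characteristic -/

/-- the orthogonal complement of a vector. -/
def perpVec (Q : QuadraticForm F V) (v : V) : Submodule F V :=
  LinearMap.ker (QuadraticMap.polarBilin Q v)

theorem mem_perpVec (Q : QuadraticForm F V) (v w : V) :
    w ∈ perpVec Q v ↔ QuadraticMap.polar Q v w = 0 := by
  unfold perpVec
  rw [LinearMap.mem_ker]
  rfl

theorem perpVec_nondeg (Q : QuadraticForm F V) (hQ : Nondeg Q) {v : V}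
    (hv : QuadraticMap.polar Q v v ≠ 0) : NondegOn Q (perpVec Q v) := by
  intro w hw hww
  rw [mem_perpVec] at hw
  apply hQ
  intro u
  have hP : u - (QuadraticMap.polar Q v u / QuadraticMap.polar Q v v) • v ∈ perpVec Q v := by
    rw [mem_perpVec, QuadraticMap.polar_sub_right, QuadraticMap.polar_smul_right, smul_eq_mul,
      div_mul_cancel₀ _ hv, sub_self]
  have h1 := hww _ hP
  rw [QuadraticMap.polar_sub_right, QuadraticMap.polar_smul_right, QuadraticMap.polar_comm Q w v,
    hw, smul_zero, sub_zero] at h1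
  exact h1

theorem finrank_perpVec [FiniteDimensional F V] (Q : QuadraticForm F V) {v : V}
    (hv : QuadraticMap.polar Q v v ≠ 0) : finrank F (perpVec Q v) + 1 = finrank F V := by
  have hrange : LinearMap.range (QuadraticMap.polarBilin Q v) = ⊤ := by
    rw [LinearMap.range_eq_top]
    intro a
    refine ⟨(a / QuadraticMap.polar Q v v) • v, ?_⟩
    rw [map_smul, QuadraticMap.polarBilin_apply_apply, smul_eq_mul, div_mul_cancel₀ _ hv]
  have h := LinearMap.finrank_range_add_finrank_ker (QuadraticMap.polarBilin Q v)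
  rw [hrange, finrank_top, Module.finrank_self] at h
  unfold perpVec
  omega

/-- in odd characteristic a nondegenerate quadratic space over a finite field has an orthogonal
family `b` of full size with `Q (b i) = 1` for `i ≠ 0`. -/
theorem exists_orthogonal_family [Finite F] (h2 : (2 : F) ≠ 0) (n : ℕ) :
    ∀ {V : Type u} [AddCommGroup V] [Module F V] [FiniteDimensional F V]
      (Q : QuadraticForm F V), Nondeg Q → finrank F V = n + 1 →
      ∃ b : Fin (n + 1) → V, (∀ i j, i ≠ j → QuadraticMap.polar Q (b i) (b j) = 0) ∧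
        Q (b 0) ≠ 0 ∧ ∀ i, i ≠ 0 → Q (b i) = 1 := by
  induction n with
  | zero =>
    intro V _ _ _ Q hQ hV
    obtain ⟨x, -, -, hx⟩ := ne_zero_of_line Q (W := ⊤) (by rw [finrank_top, hV])
      (fun w _ hw => hQ w (fun w' => hw w' trivial))
    have hss : ∀ i j : Fin (0 + 1), i = j := fun i j => Fin.ext (by omega)
    refine ⟨fun _ => x, fun i j hij => absurd (hss i j) hij, hx,
      fun i hi => absurd (hss i 0) hi⟩
  | succ n ih =>
    intro V _ _ _ Q hQ hV
    obtain ⟨v, hv⟩ := exists_repr Q hQ (by omega) 1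
    have hvv : QuadraticMap.polar Q v v ≠ 0 := by
      rw [polar_self', hv, mul_one]; exact h2
    have hdim : finrank F (perpVec Q v) = n + 1 := by
      have := finrank_perpVec Q hvv
      omega
    have hnd : Nondeg (Q.comp (perpVec Q v).subtype) :=
      (nondeg_comp_subtype_iff Q _).mpr (perpVec_nondeg Q hQ hvv)
    obtain ⟨b', hb1, hb2, hb3⟩ := ih (Q.comp (perpVec Q v).subtype) hnd hdim
    refine ⟨Fin.snoc (fun i => (b' i : V)) v, ?_, ?_, ?_⟩
    · intro i j
      refine Fin.lastCases ?_ (fun i => ?_) i <;> refine Fin.lastCases ?_ (fun j => ?_) j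
      · intro h; exact absurd rfl h
      · intro _
        simp only [Fin.snoc_last, Fin.snoc_castSucc]
        exact (mem_perpVec Q v _).mp (b' j).2
      · intro _
        simp only [Fin.snoc_last, Fin.snoc_castSucc]
        rw [QuadraticMap.polar_comm]
        exact (mem_perpVec Q v _).mp (b' i).2
      · intro hij
        simp only [Fin.snoc_castSucc]
        exact hb1 i j (fun h => hij (by rw [h]))
    · have : (0 : Fin (n + 1 + 1)) = Fin.castSucc (0 : Fin (n + 1)) := rfl
      rw [this, Fin.snoc_castSucc]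
      exact hb2
    · intro i
      refine Fin.lastCases ?_ (fun i => ?_) i
      · intro _
        rw [Fin.snoc_last]
        exact hv
      · intro hi
        rw [Fin.snoc_castSucc]
        exact hb3 i (fun h => hi (by rw [h]; rfl))

/-- an orthogonal family of nonsingular vectors of full size is a basis. -/
theorem exists_basis_of_orthogonal [FiniteDimensional F V] (h2 : (2 : F) ≠ 0)
    (Q : QuadraticForm F V) {n : ℕ} (hV : finrank F V = n) {b : Fin n → V}
    (h1 : ∀ i j, i ≠ j → QuadraticMap.polar Q (b i) (b j) = 0) (h3 : ∀ i, Q (b i) ≠ 0) :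
    ∃ b' : Basis (Fin n) F V, ⇑b' = b := by
  have hli : LinearIndependent F b := by
    refine linearIndependent_of_dual Q b b (fun i => 2 * Q (b i))
      (fun i => mul_ne_zero h2 (h3 i)) ?_
    intro i j
    by_cases hij : i = j
    · subst hij
      rw [if_pos rfl, polar_self']
    · rw [if_neg hij, h1 i j hij]
  exact exists_basis_of_li hli (by simp [hV])

/-- an isometry from Gram data. -/
theorem exists_isometry [FiniteDimensional F V] {ι : Type*} (Q₁ Q₂ : QuadraticForm F V)
    (hQ : Nondeg Q₁) (b : Basis ι F V) (u : ι → V)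
    (h1 : ∀ i, Q₂ (u i) = Q₁ (b i))
    (h2 : ∀ i j, QuadraticMap.polar Q₂ (u i) (u j) = QuadraticMap.polar Q₁ (b i) (b j)) :
    ∃ g : V ≃ₗ[F] V, (∀ v, Q₂ (g v) = Q₁ v) ∧ ∀ i, g (b i) = u i := by
  have hφ : ∀ i, b.constr F u (b i) = u i := fun i => b.constr_basis F u i
  have heq : Q₂.comp (b.constr F u) = Q₁ := by
    apply eq_of_basis b
    · intro i
      rw [QuadraticMap.comp_apply, hφ, h1]
    · intro i j
      have e2 : QuadraticMap.polar (⇑(Q₂.comp (b.constr F u))) (b i) (b j)
          = QuadraticMap.polar Q₂ (b.constr F u (b i)) (b.constr F u (b j)) := by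
        unfold QuadraticMap.polar
        rw [QuadraticMap.comp_apply, QuadraticMap.comp_apply, QuadraticMap.comp_apply, map_add]
      rw [e2, hφ, hφ, h2]
  have hval : ∀ v, Q₂ (b.constr F u v) = Q₁ v := by
    intro v
    have := congrArg (fun q : QuadraticForm F V => q v) heq
    exact this
  have hpolar : ∀ v w, QuadraticMap.polar Q₂ (b.constr F u v) (b.constr F u w)
      = QuadraticMap.polar Q₁ v w := by
    intro v w
    unfold QuadraticMap.polar
    rw [← map_add, hval, hval, hval]
  have hinj : Function.Injective (b.constr F u) := by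
    rw [injective_iff_map_eq_zero]
    intro v hv
    apply hQ
    intro w
    have := hpolar v w
    rw [hv, QuadraticMap.polar_zero_left] at this
    exact this.symm
  refine ⟨LinearEquiv.ofInjectiveEndo _ hinj, fun v => ?_, fun i => ?_⟩
  · rw [LinearEquiv.coe_ofInjectiveEndo]
    exact hval v
  · rw [LinearEquiv.coe_ofInjectiveEndo]
    exact hφ i

end Cfsg.Agent.Helper8.QuadForm
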