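import Mathlib
import Cfsg.Agent.Helper7.SL2Tori
import Cfsg.Agent.Helper8.QuadForm

set_option autoImplicit false

/-!
Conjugacy in `SL₂` over a finite field: trace, companion matrices, elliptic elements.
-/

namespace Cfsg.Agent.Helper8.SL2C

open Matrix Cfsg.Agent.Helper7.SL2
open scoped Matrix

variable {F : Type*} [Field F]

/-- an element of `SL₂` from its entries. -/
def mk' (a b c d : F) (h : a * d - b * c = 1) : SpecialLinearGroup (Fin 2) F :=
  ⟨!![a, b; c, d], by rw [Matrix.det_fin_two_of]; exact h⟩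

theorem mk'_00 (a b c d : F) (h : a * d - b * c = 1) :
    (mk' a b c d h : Matrix (Fin 2) (Fin 2) F) 0 0 = a := rfl
theorem mk'_01 (a b c d : F) (h : a * d - b * c = 1) :
    (mk' a b c d h : Matrix (Fin 2) (Fin 2) F) 0 1 = b := rfl
theorem mk'_10 (a b c d : F) (h : a * d - b * c = 1) :
    (mk' a b c d h : Matrix (Fin 2) (Fin 2) F) 1 0 = c := rfl
theorem mk'_11 (a b c d : F) (h : a * d - b * c = 1) :
    (mk' a b c d h : Matrix (Fin 2) (Fin 2) F) 1 1 = d := rfl

/-- the trace of an element of `SL₂`. -/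
def tr (g : SpecialLinearGroup (Fin 2) F) : F :=
  (g : Matrix (Fin 2) (Fin 2) F) 0 0 + (g : Matrix (Fin 2) (Fin 2) F) 1 1

theorem tr_conj (h g : SpecialLinearGroup (Fin 2) F) : tr (h * g * h⁻¹) = tr g := by
  obtain ⟨i00, i01, i10, i11⟩ := coe_inv_apply h
  have hd := det_eq h
  unfold tr
  simp only [coe_mul_apply]
  rw [i00, i01, i10, i11]
  linear_combination ((g : Matrix (Fin 2) (Fin 2) F) 0 0 + (g : Matrix (Fin 2) (Fin 2) F) 1 1) * hd

theorem tr_eq_of_isConj {g h : SpecialLinearGroup (Fin 2) F} (hc : IsConj g h) : tr g = tr h := by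
  obtain ⟨c, hc⟩ := isConj_iff.mp hc
  rw [← hc, tr_conj]

/-- the companion matrix of `x² - t x + 1`. -/
def comp (t : F) : SpecialLinearGroup (Fin 2) F :=
  ⟨!![0, -1; 1, t], by rw [Matrix.det_fin_two_of]; ring⟩

theorem comp_00 (t : F) : (comp t : Matrix (Fin 2) (Fin 2) F) 0 0 = 0 := rfl
theorem comp_01 (t : F) : (comp t : Matrix (Fin 2) (Fin 2) F) 0 1 = -1 := rfl
theorem comp_10 (t : F) : (comp t : Matrix (Fin 2) (Fin 2) F) 1 0 = 1 := rfl
theorem comp_11 (t : F) : (comp t : Matrix (Fin 2) (Fin 2) F) 1 1 = t := rfl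

theorem tr_comp (t : F) : tr (comp t) = t := by
  unfold tr
  rw [comp_00, comp_11, zero_add]

/-- the binary quadratic form `(x, y) ↦ det [v | g v]`, `v = (x, y)`. -/
def Qf (g : SpecialLinearGroup (Fin 2) F) (x y : F) : F :=
  (g : Matrix (Fin 2) (Fin 2) F) 1 0 * x ^ 2 +
    ((g : Matrix (Fin 2) (Fin 2) F) 1 1 - (g : Matrix (Fin 2) (Fin 2) F) 0 0) * x * y -
    (g : Matrix (Fin 2) (Fin 2) F) 0 1 * y ^ 2

/-- elliptic elements: no eigenvector in `F²`. -/
def IsEll (g : SpecialLinearGroup (Fin 2) F) : Prop :=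
  ∀ (c : F) (v : Fin 2 → F), v ≠ 0 → (g : Matrix (Fin 2) (Fin 2) F).mulVec v ≠ c • v

theorem mulVec_eq (g : SpecialLinearGroup (Fin 2) F) (v : Fin 2 → F) :
    (g : Matrix (Fin 2) (Fin 2) F).mulVec v =
      ![(g : Matrix (Fin 2) (Fin 2) F) 0 0 * v 0 + (g : Matrix (Fin 2) (Fin 2) F) 0 1 * v 1,
        (g : Matrix (Fin 2) (Fin 2) F) 1 0 * v 0 + (g : Matrix (Fin 2) (Fin 2) F) 1 1 * v 1] := by
  ext i
  fin_cases i
  · simp [Matrix.mulVec, dotProduct, Fin.sum_univ_two]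
  · simp [Matrix.mulVec, dotProduct, Fin.sum_univ_two]

theorem eigen_mk (g : SpecialLinearGroup (Fin 2) F) {x y c : F}
    (h0 : (g : Matrix (Fin 2) (Fin 2) F) 0 0 * x + (g : Matrix (Fin 2) (Fin 2) F) 0 1 * y = c * x)
    (h1 : (g : Matrix (Fin 2) (Fin 2) F) 1 0 * x + (g : Matrix (Fin 2) (Fin 2) F) 1 1 * y = c * y) :
    (g : Matrix (Fin 2) (Fin 2) F).mulVec ![x, y] = c • ![x, y] := by
  have hv0 : (![x, y] : Fin 2 → F) 0 = x := rfl
  have hv1 : (![x, y] : Fin 2 → F) 1 = y := rfl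
  rw [mulVec_eq, hv0, hv1, Matrix.smul_vec2, smul_eq_mul, smul_eq_mul, h0, h1]

theorem vec2_ne_zero {x y : F} (hxy : x ≠ 0 ∨ y ≠ 0) : (![x, y] : Fin 2 → F) ≠ 0 := by
  intro h
  have h1 : (![x, y] : Fin 2 → F) 0 = 0 := by rw [h]; rfl
  have h2 : (![x, y] : Fin 2 → F) 1 = 0 := by rw [h]; rfl
  rcases hxy with hx | hy
  · exact hx h1
  · exact hy h2

theorem Qf_ne_zero_of_ell {g : SpecialLinearGroup (Fin 2) F} (hg : IsEll g) {x y : F}
    (hxy : x ≠ 0 ∨ y ≠ 0) : Qf g x y ≠ 0 := by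
  intro h0
  unfold Qf at h0
  rcases hxy with hx | hy
  · refine hg (((g : Matrix (Fin 2) (Fin 2) F) 0 0 * x + (g : Matrix (Fin 2) (Fin 2) F) 0 1 * y) / x)
      ![x, y] (vec2_ne_zero (Or.inl hx)) (eigen_mk g ?_ ?_)
    · field_simp
    · field_simp
      linear_combination h0
  · refine hg (((g : Matrix (Fin 2) (Fin 2) F) 1 0 * x + (g : Matrix (Fin 2) (Fin 2) F) 1 1 * y) / y)
      ![x, y] (vec2_ne_zero (Or.inr hy)) (eigen_mk g ?_ ?_)
    · field_simp
      linear_combination -h0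
    · field_simp

/-- if `det [v | g v] = 1` then `g` is conjugate to the companion matrix of its trace. -/
theorem eq_conj_comp_of_Qf {g : SpecialLinearGroup (Fin 2) F} {x y : F} (h : Qf g x y = 1) :
    ∃ P : SpecialLinearGroup (Fin 2) F, g * P = P * comp (tr g) ∧
      (P : Matrix (Fin 2) (Fin 2) F) 0 0 = x ∧ (P : Matrix (Fin 2) (Fin 2) F) 1 0 = y := by
  have hd := det_eq g
  refine ⟨mk' x ((g : Matrix (Fin 2) (Fin 2) F) 0 0 * x + (g : Matrix (Fin 2) (Fin 2) F) 0 1 * y)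
      y ((g : Matrix (Fin 2) (Fin 2) F) 1 0 * x + (g : Matrix (Fin 2) (Fin 2) F) 1 1 * y) ?_,
    ?_, rfl, rfl⟩
  · unfold Qf at h
    linear_combination h
  · apply ext'
    · simp only [coe_mul_apply, comp_00, comp_10, mk'_00, mk'_01, mk'_10, mk'_11]
      ring
    · simp only [coe_mul_apply, comp_01, comp_11, mk'_00, mk'_01, mk'_10, mk'_11]
      unfold tr
      linear_combination (-x) * hd
    · simp only [coe_mul_apply, comp_00, comp_10, mk'_00, mk'_01, mk'_10, mk'_11]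
      ring
    · simp only [coe_mul_apply, comp_01, comp_11, mk'_00, mk'_01, mk'_10, mk'_11]
      unfold tr
      linear_combination (-y) * hd

/-- a binary quadratic form over a finite field represents `c` or is isotropic. -/
theorem exists_binary [Finite F] (A B C c : F) :
    (∃ x y : F, A * x ^ 2 + B * x * y + C * y ^ 2 = c) ∨
      (∃ x y : F, (x ≠ 0 ∨ y ≠ 0) ∧ A * x ^ 2 + B * x * y + C * y ^ 2 = 0) := by
  let N : QuadraticForm F (F × F) :=
    A • QuadraticMap.linMulLin (LinearMap.fst F F F) (LinearMap.fst F F F)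
      + B • QuadraticMap.linMulLin (LinearMap.fst F F F) (LinearMap.snd F F F)
      + C • QuadraticMap.linMulLin (LinearMap.snd F F F) (LinearMap.snd F F F)
  have hN : ∀ x y : F, N (x, y) = A * x ^ 2 + B * x * y + C * y ^ 2 := by
    intro x y
    show A • (x * x) + B • (x * y) + C • (y * y) = _
    rw [smul_eq_mul, smul_eq_mul, smul_eq_mul]
    ring
  rcases Cfsg.Agent.Helper8.QuadForm.exists_repr_or_singular N
    (by rw [Module.finrank_prod, Module.finrank_self]) c with ⟨⟨x, y⟩, h⟩ | ⟨⟨x, y⟩, h0, h⟩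
  · exact Or.inl ⟨x, y, by rw [← hN]; exact h⟩
  · refine Or.inr ⟨x, y, ?_, by rw [← hN]; exact h⟩
    by_contra hcon
    push Not at hcon
    exact h0 (by rw [hcon.1, hcon.2]; rfl)

theorem exists_Qf_eq_one_of_ell [Finite F] {g : SpecialLinearGroup (Fin 2) F} (hg : IsEll g) :
    ∃ x y : F, Qf g x y = 1 := by
  rcases exists_binary ((g : Matrix (Fin 2) (Fin 2) F) 1 0)
    ((g : Matrix (Fin 2) (Fin 2) F) 1 1 - (g : Matrix (Fin 2) (Fin 2) F) 0 0)
    (-(g : Matrix (Fin 2) (Fin 2) F) 0 1) 1 with ⟨x, y, h⟩ | ⟨x, y, hxy, h⟩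
  · exact ⟨x, y, by unfold Qf; linear_combination h⟩
  · exact absurd (by unfold Qf; linear_combination h) (Qf_ne_zero_of_ell hg hxy)

theorem isConj_comp_of_Qf {g : SpecialLinearGroup (Fin 2) F} {x y : F} (h : Qf g x y = 1) :
    IsConj g (comp (tr g)) := by
  obtain ⟨P, hP, -, -⟩ := eq_conj_comp_of_Qf h
  rw [isConj_iff]
  refine ⟨P⁻¹, ?_⟩
  rw [inv_inv, mul_assoc, hP, ← mul_assoc, inv_mul_cancel, one_mul]

theorem isConj_comp_of_ell [Finite F] {g : SpecialLinearGroup (Fin 2) F} (hg : IsEll g) :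
    IsConj g (comp (tr g)) := by
  obtain ⟨x, y, h⟩ := exists_Qf_eq_one_of_ell hg
  exact isConj_comp_of_Qf h

/-- a non-elliptic element is conjugate into the Borel subgroup. -/
theorem exists_conj_mem_B {g : SpecialLinearGroup (Fin 2) F} (hg : ¬ IsEll g) :
    ∃ P : SpecialLinearGroup (Fin 2) F, P⁻¹ * g * P ∈ B F := by
  unfold IsEll at hg
  push Not at hg
  obtain ⟨c, v, hv, hgv⟩ := hg
  rw [mulVec_eq] at hgv
  have h0 := congrFun hgv 0
  have h1 := congrFun hgv 1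
  simp only [Matrix.cons_val_zero, Matrix.cons_val_one, Pi.smul_apply, smul_eq_mul] at h0 h1
  obtain ⟨z, w, hzw⟩ : ∃ z w : F, v 0 * w - z * v 1 = 1 := by
    by_cases hx : v 0 = 0
    · have hy : v 1 ≠ 0 := by
        intro hy
        apply hv
        ext i
        fin_cases i
        · exact hx
        · exact hy
      exact ⟨-(v 1)⁻¹, 0, by rw [mul_zero, zero_sub, neg_mul, neg_neg, inv_mul_cancel₀ hy]⟩
    · exact ⟨0, (v 0)⁻¹, by rw [zero_mul, sub_zero, mul_inv_cancel₀ hx]⟩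
  refine ⟨mk' (v 0) z (v 1) w hzw, ?_⟩
  rw [mem_B]
  obtain ⟨i00, i01, i10, i11⟩ := coe_inv_apply (mk' (v 0) z (v 1) w hzw)
  simp only [coe_mul_apply]
  rw [i10, i11, mk'_00, mk'_10]
  linear_combination (-(v 1)) * h0 + (v 0) * h1

theorem diag_of_mem_B {b : SpecialLinearGroup (Fin 2) F} (hb : b ∈ B F) :
    (b : Matrix (Fin 2) (Fin 2) F) 0 0 * (b : Matrix (Fin 2) (Fin 2) F) 1 1 = 1 := by
  have hd := det_eq b
  rw [mem_B.mp hb, mul_zero, sub_zero] at hd
  exact hd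

theorem not_ell_of_mem_B {b : SpecialLinearGroup (Fin 2) F} (hb : b ∈ B F) : ¬ IsEll b := by
  intro h
  refine h ((b : Matrix (Fin 2) (Fin 2) F) 0 0) ![1, 0] ?_ ?_
  · intro h0
    have := congrFun h0 0
    simp at this
  · rw [mulVec_eq]
    ext i
    fin_cases i
    · simp
    · simp [mem_B.mp hb]

theorem coe_mul_mulVec (a b : SpecialLinearGroup (Fin 2) F) (v : Fin 2 → F) :
    ((a * b : SpecialLinearGroup (Fin 2) F) : Matrix (Fin 2) (Fin 2) F).mulVec v =
      (a : Matrix (Fin 2) (Fin 2) F).mulVec ((b : Matrix (Fin 2) (Fin 2) F).mulVec v) := by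
  change ((a : Matrix (Fin 2) (Fin 2) F) * (b : Matrix (Fin 2) (Fin 2) F)).mulVec v = _
  rw [Matrix.mulVec_mulVec]

theorem coe_one_mulVec (v : Fin 2 → F) :
    ((1 : SpecialLinearGroup (Fin 2) F) : Matrix (Fin 2) (Fin 2) F).mulVec v = v := by
  change (1 : Matrix (Fin 2) (Fin 2) F).mulVec v = v
  rw [Matrix.one_mulVec]

theorem isEll_conj {g : SpecialLinearGroup (Fin 2) F} (P : SpecialLinearGroup (Fin 2) F) :
    IsEll (P * g * P⁻¹) ↔ IsEll g := by
  have key : ∀ (g P : SpecialLinearGroup (Fin 2) F), IsEll g → IsEll (P * g * P⁻¹) := by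
    intro g P hg c v hv hcv
    refine hg c (((P⁻¹ : SpecialLinearGroup (Fin 2) F) : Matrix (Fin 2) (Fin 2) F).mulVec v) ?_ ?_
    · intro h0
      apply hv
      have := coe_mul_mulVec P P⁻¹ v
      rw [h0, Matrix.mulVec_zero, mul_inv_cancel, coe_one_mulVec] at this
      exact this
    · have h1 := coe_mul_mulVec P⁻¹ (P * g * P⁻¹) v
      rw [hcv, Matrix.mulVec_smul] at h1
      have h2 : P⁻¹ * (P * g * P⁻¹) = g * P⁻¹ := by group
      rw [h2, coe_mul_mulVec] at h1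
      exact h1
  constructor
  · intro h
    have := key _ P⁻¹ h
    have e : P⁻¹ * (P * g * P⁻¹) * P⁻¹⁻¹ = g := by group
    rwa [e] at this
  · exact key g P

theorem isEll_of_isConj {g h : SpecialLinearGroup (Fin 2) F} (hc : IsConj g h) :
    IsEll g ↔ IsEll h := by
  obtain ⟨c, hc⟩ := isConj_iff.mp hc
  rw [← hc, isEll_conj]

theorem tr_of_mem_B {b : SpecialLinearGroup (Fin 2) F} (hb : b ∈ B F) :
    (b : Matrix (Fin 2) (Fin 2) F) 0 0 ^ 2 - tr b * (b : Matrix (Fin 2) (Fin 2) F) 0 0 + 1 = 0 := by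
  have h := diag_of_mem_B hb
  unfold tr
  linear_combination (-1 : F) * h

/-- a root of the characteristic polynomial gives an eigenvector. -/
theorem not_ell_of_root {g : SpecialLinearGroup (Fin 2) F} {l : F}
    (h : l ^ 2 - tr g * l + 1 = 0) : ¬ IsEll g := by
  intro hg
  have hd := det_eq g
  unfold tr at h
  by_cases h1 : (g : Matrix (Fin 2) (Fin 2) F) 0 1 ≠ 0 ∨ l - (g : Matrix (Fin 2) (Fin 2) F) 0 0 ≠ 0
  · refine hg l ![(g : Matrix (Fin 2) (Fin 2) F) 0 1, l - (g : Matrix (Fin 2) (Fin 2) F) 0 0]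
      (vec2_ne_zero h1) (eigen_mk g ?_ ?_)
    · ring
    · linear_combination -h - hd
  · push Not at h1
    obtain ⟨hb, ha⟩ := h1
    by_cases h2 : l - (g : Matrix (Fin 2) (Fin 2) F) 1 1 ≠ 0 ∨ (g : Matrix (Fin 2) (Fin 2) F) 1 0 ≠ 0
    · refine hg l ![l - (g : Matrix (Fin 2) (Fin 2) F) 1 1, (g : Matrix (Fin 2) (Fin 2) F) 1 0]
        (vec2_ne_zero h2) (eigen_mk g ?_ ?_)
      · linear_combination -h - hd
      · ring
    · push Not at h2
      obtain ⟨hdd, hc⟩ := h2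
      refine hg l ![1, 0] (vec2_ne_zero (Or.inl one_ne_zero)) (eigen_mk g ?_ ?_)
      · linear_combination -ha
      · rw [hc]; ring

theorem root_of_not_ell {g : SpecialLinearGroup (Fin 2) F} (hg : ¬ IsEll g) :
    ∃ l : F, l ^ 2 - tr g * l + 1 = 0 := by
  obtain ⟨P, hP⟩ := exists_conj_mem_B hg
  have := tr_of_mem_B hP
  have e : tr (P⁻¹ * g * P) = tr g := by
    have := tr_conj P⁻¹ g
    rwa [inv_inv] at this
  rw [e] at this
  exact ⟨_, this⟩

theorem isEll_iff {g : SpecialLinearGroup (Fin 2) F} :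
    IsEll g ↔ ∀ l : F, l ^ 2 - tr g * l + 1 ≠ 0 := by
  constructor
  · intro hg l hl
    exact not_ell_of_root hl hg
  · intro h
    by_contra hg
    obtain ⟨l, hl⟩ := root_of_not_ell hg
    exact h l hl

/-- an element whose trace is not `±2` is conjugate to the companion matrix of its trace. -/
theorem isConj_comp_of_tr_sq_ne [Finite F] {g : SpecialLinearGroup (Fin 2) F}
    (h : tr g ^ 2 ≠ 4) : IsConj g (comp (tr g)) := by
  by_cases hg : IsEll g
  · exact isConj_comp_of_ell hg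
  · obtain ⟨P, hP⟩ := exists_conj_mem_B hg
    have e : tr (P⁻¹ * g * P) = tr g := by
      have := tr_conj P⁻¹ g
      rwa [inv_inv] at this
    have hd := diag_of_mem_B hP
    have hne : (P⁻¹ * g * P : SpecialLinearGroup (Fin 2) F).1 1 1 -
        (P⁻¹ * g * P : SpecialLinearGroup (Fin 2) F).1 0 0 ≠ 0 := by
      intro h0
      apply h
      rw [← e]
      unfold tr
      have h1 : (P⁻¹ * g * P : SpecialLinearGroup (Fin 2) F).1 1 1 =
        (P⁻¹ * g * P : SpecialLinearGroup (Fin 2) F).1 0 0 := by linear_combination h0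
      rw [h1] at hd ⊢
      linear_combination 4 * hd
    have hQ : Qf (P⁻¹ * g * P) ((1 + (P⁻¹ * g * P : SpecialLinearGroup (Fin 2) F).1 0 1) /
        ((P⁻¹ * g * P : SpecialLinearGroup (Fin 2) F).1 1 1 -
          (P⁻¹ * g * P : SpecialLinearGroup (Fin 2) F).1 0 0)) 1 = 1 := by
      unfold Qf
      rw [mem_B.mp hP]
      field_simp
      ring
    have h1 := isConj_comp_of_Qf hQ
    rw [e] at h1
    refine IsConj.trans ?_ h1
    rw [isConj_iff]
    exact ⟨P⁻¹, by rw [inv_inv]⟩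

end Cfsg.Agent.Helper8.SL2C
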