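import Mathlib
import Cfsg.Agent.Helper8.SL2Classes

set_option autoImplicit false

/-!
Unipotent and diagonal elements of `SL₂`: conjugacy and centralisers.
-/

namespace Cfsg.Agent.Helper8.SL2C

open Matrix Cfsg.Agent.Helper7.SL2
open scoped Matrix

variable {F : Type*} [Field F]

theorem neg_apply (g : SpecialLinearGroup (Fin 2) F) (i j : Fin 2) :
    ((-g : SpecialLinearGroup (Fin 2) F) : Matrix (Fin 2) (Fin 2) F) i j =
      -(g : Matrix (Fin 2) (Fin 2) F) i j := by
  rw [SpecialLinearGroup.coe_neg, Matrix.neg_apply]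

theorem neg_eq_neg_one_mul (g : SpecialLinearGroup (Fin 2) F) :
    -g = (-1 : SpecialLinearGroup (Fin 2) F) * g := by
  apply ext' <;> simp only [coe_mul_apply, neg_apply, one_00, one_01, one_10, one_11] <;> ring

theorem neg_one_comm (g : SpecialLinearGroup (Fin 2) F) :
    (-1 : SpecialLinearGroup (Fin 2) F) * g = g * (-1 : SpecialLinearGroup (Fin 2) F) := by
  apply ext' <;> simp only [coe_mul_apply, neg_apply, one_00, one_01, one_10, one_11] <;> ring

theorem neg_one_mul_neg_one :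
    (-1 : SpecialLinearGroup (Fin 2) F) * (-1 : SpecialLinearGroup (Fin 2) F) = 1 := by
  apply ext' <;> simp only [coe_mul_apply, neg_apply, one_00, one_01, one_10, one_11] <;> ring

theorem isConj_neg_iff {g h : SpecialLinearGroup (Fin 2) F} : IsConj (-g) (-h) ↔ IsConj g h := by
  rw [isConj_iff, isConj_iff]
  constructor
  · rintro ⟨c, hc⟩
    refine ⟨c, ?_⟩
    have h1 : c * (-g) * c⁻¹ = (-1 : SpecialLinearGroup (Fin 2) F) * (c * g * c⁻¹) := by
      rw [neg_eq_neg_one_mul g, ← mul_assoc c, ← neg_one_comm c]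
      group
    rw [h1, neg_eq_neg_one_mul h] at hc
    exact mul_left_cancel hc
  · rintro ⟨c, hc⟩
    refine ⟨c, ?_⟩
    rw [neg_eq_neg_one_mul g, ← mul_assoc c, ← neg_one_comm c, neg_eq_neg_one_mul h, ← hc]
    group

theorem tr_neg (g : SpecialLinearGroup (Fin 2) F) : tr (-g) = -tr g := by
  unfold tr
  rw [neg_apply, neg_apply]
  ring

theorem up_of_mem_B {b : SpecialLinearGroup (Fin 2) F} (hb : b ∈ B F)
    (h1 : (b : Matrix (Fin 2) (Fin 2) F) 0 0 = 1) :
    b = up ((b : Matrix (Fin 2) (Fin 2) F) 0 1) := by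
  have hd := diag_of_mem_B hb
  rw [h1, one_mul] at hd
  apply ext'
  · rw [h1, up_00]
  · rw [up_01]
  · rw [mem_B.mp hb, up_10]
  · rw [hd, up_11]

theorem neg_up_of_mem_B {b : SpecialLinearGroup (Fin 2) F} (hb : b ∈ B F)
    (h1 : (b : Matrix (Fin 2) (Fin 2) F) 0 0 = -1) :
    b = -up (-(b : Matrix (Fin 2) (Fin 2) F) 0 1) := by
  have hd := diag_of_mem_B hb
  rw [h1] at hd
  apply ext'
  · rw [h1, neg_apply, up_00]
  · rw [neg_apply, up_01, neg_neg]
  · rw [mem_B.mp hb, neg_apply, up_10, neg_zero]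
  · rw [neg_apply, up_11]
    linear_combination -hd

theorem up_zero : up (0 : F) = 1 := by
  apply ext'
  · rw [up_00, one_00]
  · rw [up_01, one_01]
  · rw [up_10, one_10]
  · rw [up_11, one_11]

theorem up_ne_one {β : F} (hβ : β ≠ 0) : up β ≠ 1 := by
  intro h
  have := congrArg (fun g : SpecialLinearGroup (Fin 2) F => (g : Matrix (Fin 2) (Fin 2) F) 0 1) h
  simp only [up_01, one_01] at this
  exact hβ this

theorem tr_up (β : F) : tr (up β) = 2 := by
  unfold tr
  rw [up_00, up_11]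
  norm_num

/-- conjugating `up β` by a diagonal matrix. -/
theorem tor_conj_up (s : Fˣ) (β : F) : tor s * up β * (tor s)⁻¹ = up ((s : F) ^ 2 * β) := by
  obtain ⟨i00, i01, i10, i11⟩ := coe_inv_apply (tor s)
  have hs : (s : F) * ((s⁻¹ : Fˣ) : F) = 1 := by rw [← Units.val_mul, mul_inv_cancel, Units.val_one]
  apply ext'
  · simp only [coe_mul_apply, i00, i10, tor_00, tor_01, tor_10, tor_11, up_00, up_01, up_10, up_11]
    linear_combination hs
  · simp only [coe_mul_apply, i01, i11, tor_00, tor_01, tor_10, tor_11, up_00, up_01, up_10, up_11]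
    ring
  · simp only [coe_mul_apply, i00, i10, tor_00, tor_01, tor_10, tor_11, up_00, up_01, up_10, up_11]
    ring
  · simp only [coe_mul_apply, i01, i11, tor_00, tor_01, tor_10, tor_11, up_00, up_01, up_10, up_11]
    linear_combination hs

/-- intertwining two upper unitriangular matrices. -/
theorem intertwine_up {β β' : F} {P : SpecialLinearGroup (Fin 2) F} (h : P * up β = up β' * P)
    (hβ' : β' ≠ 0) :
    (P : Matrix (Fin 2) (Fin 2) F) 1 0 = 0 ∧
      β' = (P : Matrix (Fin 2) (Fin 2) F) 0 0 ^ 2 * β ∧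
      (P : Matrix (Fin 2) (Fin 2) F) 0 0 * (P : Matrix (Fin 2) (Fin 2) F) 1 1 = 1 := by
  have e00 := congrArg (fun g : SpecialLinearGroup (Fin 2) F => (g : Matrix (Fin 2) (Fin 2) F) 0 0) h
  have e01 := congrArg (fun g : SpecialLinearGroup (Fin 2) F => (g : Matrix (Fin 2) (Fin 2) F) 0 1) h
  simp only [coe_mul_apply, up_00, up_01, up_10, up_11] at e00 e01
  have h10 : (P : Matrix (Fin 2) (Fin 2) F) 1 0 = 0 := by
    have : β' * (P : Matrix (Fin 2) (Fin 2) F) 1 0 = 0 := by linear_combination -e00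
    exact (mul_eq_zero.mp this).resolve_left hβ'
  have hd := det_eq P
  rw [h10, mul_zero, sub_zero] at hd
  refine ⟨h10, ?_, hd⟩
  linear_combination (-(P : Matrix (Fin 2) (Fin 2) F) 0 0) * e01 - β' * hd

theorem isConj_up_iff {β β' : F} (hβ' : β' ≠ 0) :
    IsConj (up β) (up β') ↔ ∃ s : F, s ≠ 0 ∧ β' = s ^ 2 * β := by
  constructor
  · intro h
    obtain ⟨P, hP⟩ := isConj_iff.mp h
    have hP' : P * up β = up β' * P := by rw [← hP]; group
    obtain ⟨-, h2, h3⟩ := intertwine_up hP' hβ'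
    refine ⟨_, ?_, h2⟩
    intro h0
    rw [h0, zero_mul] at h3
    exact zero_ne_one h3
  · rintro ⟨s, hs, rfl⟩
    rw [isConj_iff]
    exact ⟨tor (Units.mk0 s hs), tor_conj_up (Units.mk0 s hs) β⟩

theorem isConj_up_iff_isSquare {β β' : F} (hβ : β ≠ 0) (hβ' : β' ≠ 0) :
    IsConj (up β) (up β') ↔ IsSquare (β * β') := by
  rw [isConj_up_iff hβ']
  constructor
  · rintro ⟨s, -, rfl⟩
    exact ⟨s * β, by ring⟩
  · rintro ⟨r, hr⟩
    refine ⟨r / β, ?_, ?_⟩
    · intro h0
      have : r = 0 := by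
        rcases div_eq_zero_iff.mp h0 with h | h
        · exact h
        · exact absurd h hβ
      rw [this, mul_zero] at hr
      rcases mul_eq_zero.mp hr with h | h
      · exact hβ h
      · exact hβ' h
    · field_simp
      linear_combination hr

/-- the centraliser of a nontrivial upper unitriangular matrix. -/
def ZU (F : Type*) [Field F] : Subgroup (SpecialLinearGroup (Fin 2) F) where
  carrier := {g | (g : Matrix (Fin 2) (Fin 2) F) 1 0 = 0 ∧
    (g : Matrix (Fin 2) (Fin 2) F) 0 0 = (g : Matrix (Fin 2) (Fin 2) F) 1 1}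
  mul_mem' := by
    rintro g h ⟨g10, g00⟩ ⟨h10, h00⟩
    refine ⟨?_, ?_⟩
    · rw [coe_mul_apply, g10, h10]; ring
    · rw [coe_mul_apply, coe_mul_apply, g10, h10, g00, h00]; ring
  one_mem' := ⟨one_10, by rw [one_00, one_11]⟩
  inv_mem' := by
    rintro g ⟨g10, g00⟩
    obtain ⟨i00, i01, i10, i11⟩ := coe_inv_apply g
    exact ⟨by rw [i10, g10, neg_zero], by rw [i00, i11, g00]⟩

theorem mem_ZU {g : SpecialLinearGroup (Fin 2) F} : g ∈ ZU F ↔
    (g : Matrix (Fin 2) (Fin 2) F) 1 0 = 0 ∧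
      (g : Matrix (Fin 2) (Fin 2) F) 0 0 = (g : Matrix (Fin 2) (Fin 2) F) 1 1 := Iff.rfl

theorem centralizer_up {β : F} (hβ : β ≠ 0) :
    Subgroup.centralizer ({up β} : Set (SpecialLinearGroup (Fin 2) F)) = ZU F := by
  ext g
  rw [Subgroup.mem_centralizer_singleton_iff, mem_ZU]
  constructor
  · intro h
    have h' : g * up β = up β * g := h
    obtain ⟨h1, h2, h3⟩ := intertwine_up h' hβ
    refine ⟨h1, ?_⟩
    have h4 : (g : Matrix (Fin 2) (Fin 2) F) 0 0 ^ 2 = 1 := by
      have : β * ((g : Matrix (Fin 2) (Fin 2) F) 0 0 ^ 2 - 1) = 0 := by linear_combination -h2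
      have := (mul_eq_zero.mp this).resolve_left hβ
      linear_combination this
    have h0 : (g : Matrix (Fin 2) (Fin 2) F) 0 0 ≠ 0 := by
      intro h0; rw [h0, zero_mul] at h3; exact zero_ne_one h3
    apply mul_left_cancel₀ h0
    rw [h3, ← sq, h4]
  · rintro ⟨h10, h00⟩
    apply ext'
    · simp only [coe_mul_apply, up_00, up_01, up_10, up_11, h10]; ring
    · simp only [coe_mul_apply, up_00, up_01, up_10, up_11, h00]; ring
    · simp only [coe_mul_apply, up_00, up_01, up_10, up_11, h10]; ring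
    · simp only [coe_mul_apply, up_00, up_01, up_10, up_11, h10]; ring

end Cfsg.Agent.Helper8.SL2C
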