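import Mathlib
import Cfsg.Agent.Helper8.SL2Unip
import Cfsg.Agent.Helper8.DicyclicClasses

set_option autoImplicit false

/-!
The split torus of `SL₂` and its normaliser.
-/

namespace Cfsg.Agent.Helper8.SL2C

open Matrix Cfsg.Agent.Helper7.SL2
open scoped Matrix

variable {F : Type*} [Field F]

/-- the diagonal subgroup. -/
def D (F : Type*) [Field F] : Subgroup (SpecialLinearGroup (Fin 2) F) where
  carrier := {g | (g : Matrix (Fin 2) (Fin 2) F) 0 1 = 0 ∧ (g : Matrix (Fin 2) (Fin 2) F) 1 0 = 0}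
  mul_mem' := by
    rintro g h ⟨g01, g10⟩ ⟨h01, h10⟩
    refine ⟨?_, ?_⟩
    · rw [coe_mul_apply, g01, h01]; ring
    · rw [coe_mul_apply, g10, h10]; ring
  one_mem' := ⟨one_01, one_10⟩
  inv_mem' := by
    rintro g ⟨g01, g10⟩
    obtain ⟨i00, i01, i10, i11⟩ := coe_inv_apply g
    exact ⟨by rw [i01, g01, neg_zero], by rw [i10, g10, neg_zero]⟩

theorem mem_D {g : SpecialLinearGroup (Fin 2) F} : g ∈ D F ↔
    (g : Matrix (Fin 2) (Fin 2) F) 0 1 = 0 ∧ (g : Matrix (Fin 2) (Fin 2) F) 1 0 = 0 := Iff.rfl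

theorem diag_of_mem_D {g : SpecialLinearGroup (Fin 2) F} (hg : g ∈ D F) :
    (g : Matrix (Fin 2) (Fin 2) F) 0 0 * (g : Matrix (Fin 2) (Fin 2) F) 1 1 = 1 := by
  have hd := det_eq g
  rw [hg.1, zero_mul, sub_zero] at hd
  exact hd

theorem D_eq_range : D F = (torusHom F).range := by
  ext g
  constructor
  · intro hg
    have hd := diag_of_mem_D hg
    have h0 : (g : Matrix (Fin 2) (Fin 2) F) 0 0 ≠ 0 := by
      intro h0; rw [h0, zero_mul] at hd; exact zero_ne_one hd
    refine ⟨Units.mk0 _ h0, ?_⟩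
    change tor _ = g
    apply ext'
    · rw [tor_00]; rfl
    · rw [tor_01, hg.1]
    · rw [tor_10, hg.2]
    · rw [tor_11, Units.val_inv_eq_inv_val, Units.val_mk0]
      exact (eq_inv_of_mul_eq_one_right hd).symm
  · rintro ⟨a, rfl⟩
    exact ⟨rfl, rfl⟩

theorem tor_mem_D (a : Fˣ) : tor a ∈ D F := ⟨rfl, rfl⟩

theorem card_D [Fintype F] : Nat.card (D F) = Fintype.card F - 1 := by
  rw [D_eq_range, card_torus]

theorem isCyclic_D [Finite F] : IsCyclic (D F) := by
  haveI := Fintype.ofFinite F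
  rw [D_eq_range]
  exact isCyclic_torus

theorem neg_one_mem_D : (-1 : SpecialLinearGroup (Fin 2) F) ∈ D F := by
  refine ⟨?_, ?_⟩
  · rw [neg_apply, one_01, neg_zero]
  · rw [neg_apply, one_10, neg_zero]

theorem centralizer_diag {d : SpecialLinearGroup (Fin 2) F} (hd : d ∈ D F)
    (hne : (d : Matrix (Fin 2) (Fin 2) F) 0 0 ^ 2 ≠ 1) :
    Subgroup.centralizer ({d} : Set (SpecialLinearGroup (Fin 2) F)) = D F := by
  have hdd := diag_of_mem_D hd
  have hne' : (d : Matrix (Fin 2) (Fin 2) F) 0 0 - (d : Matrix (Fin 2) (Fin 2) F) 1 1 ≠ 0 := by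
    intro h
    apply hne
    have : (d : Matrix (Fin 2) (Fin 2) F) 1 1 = (d : Matrix (Fin 2) (Fin 2) F) 0 0 := by
      linear_combination -h
    rw [this] at hdd
    rw [sq]; exact hdd
  ext g
  rw [Subgroup.mem_centralizer_singleton_iff, mem_D]
  constructor
  · intro h
    have e01 := congrArg (fun g : SpecialLinearGroup (Fin 2) F => (g : Matrix (Fin 2) (Fin 2) F) 0 1) h
    have e10 := congrArg (fun g : SpecialLinearGroup (Fin 2) F => (g : Matrix (Fin 2) (Fin 2) F) 1 0) h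
    simp only [coe_mul_apply, hd.1, hd.2] at e01 e10
    constructor
    · have : (g : Matrix (Fin 2) (Fin 2) F) 0 1 *
          ((d : Matrix (Fin 2) (Fin 2) F) 0 0 - (d : Matrix (Fin 2) (Fin 2) F) 1 1) = 0 := by
        linear_combination -e01
      exact (mul_eq_zero.mp this).resolve_right hne'
    · have : (g : Matrix (Fin 2) (Fin 2) F) 1 0 *
          ((d : Matrix (Fin 2) (Fin 2) F) 0 0 - (d : Matrix (Fin 2) (Fin 2) F) 1 1) = 0 := by
        linear_combination e10
      exact (mul_eq_zero.mp this).resolve_right hne'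
  · rintro ⟨g01, g10⟩
    apply ext' <;> simp only [coe_mul_apply, hd.1, hd.2, g01, g10] <;> ring

/-- the monomial subgroup. -/
def Mon (F : Type*) [Field F] : Subgroup (SpecialLinearGroup (Fin 2) F) where
  carrier := {g | ((g : Matrix (Fin 2) (Fin 2) F) 0 1 = 0 ∧ (g : Matrix (Fin 2) (Fin 2) F) 1 0 = 0) ∨
    ((g : Matrix (Fin 2) (Fin 2) F) 0 0 = 0 ∧ (g : Matrix (Fin 2) (Fin 2) F) 1 1 = 0)}
  mul_mem' := by
    rintro g h (⟨g01, g10⟩ | ⟨g00, g11⟩) (⟨h01, h10⟩ | ⟨h00, h11⟩)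
    · left
      exact ⟨by rw [coe_mul_apply, g01, h01]; ring, by rw [coe_mul_apply, g10, h10]; ring⟩
    · right
      exact ⟨by rw [coe_mul_apply, g01, h00]; ring, by rw [coe_mul_apply, g10, h11]; ring⟩
    · right
      exact ⟨by rw [coe_mul_apply, g00, h10]; ring, by rw [coe_mul_apply, g11, h01]; ring⟩
    · left
      exact ⟨by rw [coe_mul_apply, g00, h11]; ring, by rw [coe_mul_apply, g11, h00]; ring⟩
  one_mem' := Or.inl ⟨one_01, one_10⟩
  inv_mem' := by
    rintro g (⟨g01, g10⟩ | ⟨g00, g11⟩)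
    · obtain ⟨i00, i01, i10, i11⟩ := coe_inv_apply g
      exact Or.inl ⟨by rw [i01, g01, neg_zero], by rw [i10, g10, neg_zero]⟩
    · obtain ⟨i00, i01, i10, i11⟩ := coe_inv_apply g
      exact Or.inr ⟨by rw [i00, g11], by rw [i11, g00]⟩

theorem mem_Mon {g : SpecialLinearGroup (Fin 2) F} : g ∈ Mon F ↔
    ((g : Matrix (Fin 2) (Fin 2) F) 0 1 = 0 ∧ (g : Matrix (Fin 2) (Fin 2) F) 1 0 = 0) ∨
    ((g : Matrix (Fin 2) (Fin 2) F) 0 0 = 0 ∧ (g : Matrix (Fin 2) (Fin 2) F) 1 1 = 0) := Iff.rfl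

theorem D_le_Mon : D F ≤ Mon F := fun _ hg => Or.inl hg

/-- the Weyl element. -/
def wey (F : Type*) [Field F] : SpecialLinearGroup (Fin 2) F := mk' 0 1 (-1) 0 (by ring)

theorem wey_mem_Mon : wey F ∈ Mon F := Or.inr ⟨rfl, rfl⟩

theorem wey_not_mem_D : wey F ∉ D F := by
  intro h
  have := h.1
  rw [wey, mk'_01] at this
  exact one_ne_zero this

theorem sq_of_mem_Mon {g : SpecialLinearGroup (Fin 2) F} (hg : g ∈ Mon F) (hgD : g ∉ D F) :
    g * g = -1 := by
  rcases hg with h | ⟨g00, g11⟩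
  · exact absurd h hgD
  · have hd := det_eq g
    rw [g00, g11, zero_mul, zero_sub] at hd
    apply ext'
    · rw [coe_mul_apply, g00, neg_apply, one_00]; linear_combination -hd
    · rw [coe_mul_apply, g00, g11, neg_apply, one_01]; ring
    · rw [coe_mul_apply, g00, g11, neg_apply, one_10]; ring
    · rw [coe_mul_apply, g11, neg_apply, one_11]; linear_combination -hd

theorem Mon_le_normalizer : Mon F ≤ Subgroup.normalizer (D F : Set (SpecialLinearGroup (Fin 2) F)) := by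
  intro g hg
  rw [Subgroup.mem_normalizer_iff]
  have key : ∀ g ∈ Mon F, ∀ h ∈ D F, g * h * g⁻¹ ∈ D F := by
    intro g hg h hh
    obtain ⟨i00, i01, i10, i11⟩ := coe_inv_apply g
    rcases hg with ⟨g01, g10⟩ | ⟨g00, g11⟩
    · exact (D F).mul_mem ((D F).mul_mem ⟨g01, g10⟩ hh) ((D F).inv_mem ⟨g01, g10⟩)
    · refine ⟨?_, ?_⟩
      · simp only [coe_mul_apply, i01, i11, g00, g11, hh.1, hh.2]; ring
      · simp only [coe_mul_apply, i00, i10, g00, g11, hh.1, hh.2]; ring
  intro h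
  constructor
  · exact key g hg h
  · intro hh
    have := key g⁻¹ ((Mon F).inv_mem hg) _ hh
    have e : g⁻¹ * (g * h * g⁻¹) * g⁻¹⁻¹ = h := by group
    rwa [e] at this

theorem normalizer_D (hex : ∃ d ∈ D F, (d : Matrix (Fin 2) (Fin 2) F) 0 0 ^ 2 ≠ 1) :
    Subgroup.normalizer (D F : Set (SpecialLinearGroup (Fin 2) F)) = Mon F := by
  apply le_antisymm _ Mon_le_normalizer
  intro g hg
  obtain ⟨d, hd, hne⟩ := hex
  rw [Subgroup.mem_normalizer_iff] at hg
  have h1 := (hg d).mp hd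
  obtain ⟨d', hd'⟩ : ∃ d', d' = g * d * g⁻¹ := ⟨_, rfl⟩
  rw [← hd'] at h1
  have h2 : g * d = d' * g := by rw [hd']; group
  have hdd := diag_of_mem_D hd
  have hdd' := diag_of_mem_D h1
  have e00 := congrArg (fun g : SpecialLinearGroup (Fin 2) F => (g : Matrix (Fin 2) (Fin 2) F) 0 0) h2
  have e01 := congrArg (fun g : SpecialLinearGroup (Fin 2) F => (g : Matrix (Fin 2) (Fin 2) F) 0 1) h2
  have e10 := congrArg (fun g : SpecialLinearGroup (Fin 2) F => (g : Matrix (Fin 2) (Fin 2) F) 1 0) h2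
  have e11 := congrArg (fun g : SpecialLinearGroup (Fin 2) F => (g : Matrix (Fin 2) (Fin 2) F) 1 1) h2
  simp only [coe_mul_apply, hd.1, hd.2, h1.1, h1.2, mul_zero, zero_mul, add_zero, zero_add]
    at e00 e01 e10 e11
  have hne' : (d : Matrix (Fin 2) (Fin 2) F) 0 0 ≠ (d : Matrix (Fin 2) (Fin 2) F) 1 1 := by
    intro h
    apply hne
    rw [← h] at hdd
    rw [sq]; exact hdd
  have hgd := det_eq g
  rw [mem_Mon]
  by_cases g00 : (g : Matrix (Fin 2) (Fin 2) F) 0 0 = 0
  · right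
    refine ⟨g00, ?_⟩
    rw [g00, zero_mul, zero_sub] at hgd
    have g01 : (g : Matrix (Fin 2) (Fin 2) F) 0 1 ≠ 0 := by
      intro h; rw [h, zero_mul, neg_zero] at hgd; exact zero_ne_one hgd
    have g10 : (g : Matrix (Fin 2) (Fin 2) F) 1 0 ≠ 0 := by
      intro h; rw [h, mul_zero, neg_zero] at hgd; exact zero_ne_one hgd
    have h3 : (d : Matrix (Fin 2) (Fin 2) F) 1 1 = (d' : Matrix (Fin 2) (Fin 2) F) 0 0 := by
      apply mul_left_cancel₀ g01
      rw [e01]; ring
    have h4 : (d : Matrix (Fin 2) (Fin 2) F) 0 0 = (d' : Matrix (Fin 2) (Fin 2) F) 1 1 := by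
      apply mul_left_cancel₀ g10
      rw [e10]; ring
    have h5 : (g : Matrix (Fin 2) (Fin 2) F) 1 1 *
        ((d : Matrix (Fin 2) (Fin 2) F) 1 1 - (d : Matrix (Fin 2) (Fin 2) F) 0 0) = 0 := by
      rw [h4]; linear_combination e11
    rcases mul_eq_zero.mp h5 with h | h
    · exact h
    · exact absurd (by linear_combination -h) hne'
  · left
    have h3 : (d : Matrix (Fin 2) (Fin 2) F) 0 0 = (d' : Matrix (Fin 2) (Fin 2) F) 0 0 := by
      apply mul_left_cancel₀ g00
      rw [e00]; ring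
    have h4 : (d : Matrix (Fin 2) (Fin 2) F) 1 1 = (d' : Matrix (Fin 2) (Fin 2) F) 1 1 := by
      have h0 : (d : Matrix (Fin 2) (Fin 2) F) 0 0 ≠ 0 := by
        intro h; rw [h, zero_mul] at hdd; exact zero_ne_one hdd
      apply mul_left_cancel₀ h0
      rw [hdd, h3, hdd']
    constructor
    · have h5 : (g : Matrix (Fin 2) (Fin 2) F) 0 1 *
          ((d : Matrix (Fin 2) (Fin 2) F) 1 1 - (d : Matrix (Fin 2) (Fin 2) F) 0 0) = 0 := by
        rw [h3]; linear_combination e01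
      rcases mul_eq_zero.mp h5 with h | h
      · exact h
      · exact absurd (by linear_combination -h) hne'
    · have h5 : (g : Matrix (Fin 2) (Fin 2) F) 1 0 *
          ((d : Matrix (Fin 2) (Fin 2) F) 0 0 - (d : Matrix (Fin 2) (Fin 2) F) 1 1) = 0 := by
        rw [h4]; linear_combination e10
      rcases mul_eq_zero.mp h5 with h | h
      · exact h
      · exact absurd (by linear_combination h) hne'

theorem index_D_subgroupOf_Mon : ((D F).subgroupOf (Mon F)).index = 2 := by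
  rw [Subgroup.index_eq_two_iff]
  refine ⟨⟨wey F, wey_mem_Mon⟩, ?_⟩
  rintro ⟨b, hb⟩
  rw [Subgroup.mem_subgroupOf, Subgroup.mem_subgroupOf]
  change Xor' (b * wey F ∈ D F) (b ∈ D F)
  rcases hb with ⟨b01, b10⟩ | ⟨b00, b11⟩
  · right
    refine ⟨⟨b01, b10⟩, ?_⟩
    intro h
    have h1 := h.1
    rw [coe_mul_apply, wey, mk'_01, mk'_11, b01] at h1
    have hd := det_eq b
    rw [b01, zero_mul, sub_zero] at hd
    have : (b : Matrix (Fin 2) (Fin 2) F) 0 0 = 0 := by linear_combination h1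
    rw [this, zero_mul] at hd
    exact zero_ne_one hd
  · left
    refine ⟨⟨?_, ?_⟩, ?_⟩
    · rw [coe_mul_apply, wey, mk'_01, mk'_11, b00]; ring
    · rw [coe_mul_apply, wey, mk'_00, mk'_10, b11]; ring
    · intro h
      have hd := det_eq b
      rw [h.1, zero_mul, sub_zero, b00, zero_mul] at hd
      exact zero_ne_one hd

theorem card_D_subgroupOf_Mon [Fintype F] :
    Nat.card ((D F).subgroupOf (Mon F)) = Fintype.card F - 1 := by
  rw [Nat.card_congr (Subgroup.subgroupOfEquivOfLe (D_le_Mon (F := F))).toEquiv, card_D]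

theorem card_Mon [Fintype F] : Nat.card (Mon F) = 2 * (Fintype.card F - 1) := by
  rw [← Subgroup.card_mul_index ((D F).subgroupOf (Mon F)), index_D_subgroupOf_Mon,
    card_D_subgroupOf_Mon, mul_comm]

theorem eq_one_or_neg_one_of_mem_D {a : SpecialLinearGroup (Fin 2) F} (ha : a ∈ D F)
    (h : a * a = 1) : a = 1 ∨ a = -1 := by
  have h00 := congrArg (fun g : SpecialLinearGroup (Fin 2) F => (g : Matrix (Fin 2) (Fin 2) F) 0 0) h
  simp only [coe_mul_apply, ha.1, zero_mul, add_zero, one_00] at h00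
  have hd := diag_of_mem_D ha
  have h1 : ((a : Matrix (Fin 2) (Fin 2) F) 0 0 - 1) * ((a : Matrix (Fin 2) (Fin 2) F) 0 0 + 1) = 0 := by
    linear_combination h00
  rcases mul_eq_zero.mp h1 with h2 | h2
  · left
    have h3 : (a : Matrix (Fin 2) (Fin 2) F) 0 0 = 1 := by linear_combination h2
    rw [h3, one_mul] at hd
    apply ext'
    · rw [h3, one_00]
    · rw [ha.1, one_01]
    · rw [ha.2, one_10]
    · rw [hd, one_11]
  · right
    have h3 : (a : Matrix (Fin 2) (Fin 2) F) 0 0 = -1 := by linear_combination h2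
    rw [h3] at hd
    apply ext'
    · rw [h3, neg_apply, one_00]
    · rw [ha.1, neg_apply, one_01, neg_zero]
    · rw [ha.2, neg_apply, one_10, neg_zero]
    · rw [neg_apply, one_11]; linear_combination -hd

theorem neg_one_ne_one (h2 : (2 : F) ≠ 0) : (-1 : SpecialLinearGroup (Fin 2) F) ≠ 1 := by
  intro h
  have := congrArg (fun g : SpecialLinearGroup (Fin 2) F => (g : Matrix (Fin 2) (Fin 2) F) 0 0) h
  simp only [neg_apply, one_00] at this
  apply h2
  linear_combination -this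

theorem D_comm {a b : SpecialLinearGroup (Fin 2) F} (ha : a ∈ D F) (hb : b ∈ D F) :
    a * b = b * a := by
  apply ext' <;> simp only [coe_mul_apply, ha.1, ha.2, hb.1, hb.2] <;> ring

theorem card_conjClasses_Mon [Fintype F] (h2 : (2 : F) ≠ 0) :
    2 * Nat.card (ConjClasses (Mon F)) = Fintype.card F + 5 := by
  have hq : 2 ≤ Fintype.card F := Fintype.one_lt_card
  have := Dicyclic.card_conjClasses ((D F).subgroupOf (Mon F))
    ⟨-1, D_le_Mon neg_one_mem_D⟩ index_D_subgroupOf_Mon ?_ ?_ ?_ ?_ ?_ ?_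
  · rw [this, card_D_subgroupOf_Mon]; omega
  · rintro ⟨a, ha'⟩ ha ⟨b, hb'⟩ hb
    rw [Subgroup.mem_subgroupOf] at ha hb
    exact Subtype.ext (D_comm ha hb)
  · rw [Subgroup.mem_subgroupOf]
    exact neg_one_mem_D
  · intro h
    exact neg_one_ne_one h2 (congrArg Subtype.val h)
  · exact Subtype.ext neg_one_mul_neg_one
  · rintro ⟨x, hx'⟩ hx
    rw [Subgroup.mem_subgroupOf] at hx
    exact Subtype.ext (sq_of_mem_Mon hx' hx)
  · rintro ⟨a, ha'⟩ ha h
    rw [Subgroup.mem_subgroupOf] at ha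
    rcases eq_one_or_neg_one_of_mem_D ha (congrArg Subtype.val h) with h1 | h1
    · exact Or.inl (Subtype.ext h1)
    · exact Or.inr (Subtype.ext h1)

end Cfsg.Agent.Helper8.SL2C
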