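import Mathlib
import Cfsg.Agent.Helper8.SL2Torus

set_option autoImplicit false

/-!
Parabolic (trace `±2`) elements of `SL₂`: classification, orders, centraliser order.
-/

namespace Cfsg.Agent.Helper8.SL2C

open Matrix Cfsg.Agent.Helper7.SL2
open scoped Matrix

variable {F : Type*} [Field F]

/-! ### square classes -/

theorem sq_mul_of_not [Fintype F] {x e : F} (hx0 : x ≠ 0) (hx : ¬ IsSquare x)
    (he : ¬ IsSquare e) : IsSquare (x * e) := by
  classical
  have he0 : e ≠ 0 := by
    rintro rfl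
    exact he (IsSquare.zero)
  rw [← quadraticChar_one_iff_isSquare (mul_ne_zero hx0 he0), map_mul,
    quadraticChar_neg_one_iff_not_isSquare.mpr hx, quadraticChar_neg_one_iff_not_isSquare.mpr he]
  norm_num

theorem exists_nonsq [Finite F] (h2 : (2 : F) ≠ 0) : ∃ e : F, ¬ IsSquare e := by
  apply FiniteField.exists_nonsquare
  intro h
  apply h2
  have : ((ringChar F : ℕ) : F) = 0 := ringChar.Nat.cast_ringChar
  rw [h] at this
  exact_mod_cast this

/-! ### trace 2 -/

theorem isConj_up_of_tr {g : SpecialLinearGroup (Fin 2) F} (ht : tr g = 2) (hne : g ≠ 1) :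
    ∃ β : F, β ≠ 0 ∧ IsConj g (up β) := by
  have hnot : ¬ IsEll g := by
    apply not_ell_of_root (l := 1)
    rw [ht]; ring
  obtain ⟨P, hP⟩ := exists_conj_mem_B hnot
  have e : tr (P⁻¹ * g * P) = tr g := by
    have := tr_conj P⁻¹ g
    rwa [inv_inv] at this
  have hd := diag_of_mem_B hP
  have h00 : (P⁻¹ * g * P : SpecialLinearGroup (Fin 2) F).1 0 0 = 1 := by
    have h1 : (P⁻¹ * g * P : SpecialLinearGroup (Fin 2) F).1 1 1 =
        2 - (P⁻¹ * g * P : SpecialLinearGroup (Fin 2) F).1 0 0 := by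
      rw [← ht, ← e]; unfold tr; ring
    rw [h1] at hd
    have : ((P⁻¹ * g * P : SpecialLinearGroup (Fin 2) F).1 0 0 - 1) ^ 2 = 0 := by
      linear_combination -hd
    have := pow_eq_zero_iff (two_ne_zero) |>.mp this
    linear_combination this
  have hup := up_of_mem_B hP h00
  refine ⟨(P⁻¹ * g * P : SpecialLinearGroup (Fin 2) F).1 0 1, ?_, ?_⟩
  · intro h0
    rw [h0, up_zero] at hup
    apply hne
    have : g = P * (P⁻¹ * g * P) * P⁻¹ := by group
    rw [this, hup]; group
  · rw [isConj_iff]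
    exact ⟨P⁻¹, by rw [inv_inv]; exact hup⟩

theorem isConj_neg_up_of_tr {g : SpecialLinearGroup (Fin 2) F} (ht : tr g = -2) (hne : g ≠ -1) :
    ∃ β : F, β ≠ 0 ∧ IsConj g (-up β) := by
  have h1 : tr (-g) = 2 := by rw [tr_neg, ht]; ring
  have h2 : -g ≠ 1 := by
    intro h
    apply hne
    rw [← h, neg_neg]
  obtain ⟨β, hβ, hc⟩ := isConj_up_of_tr h1 h2
  refine ⟨β, hβ, ?_⟩
  have := isConj_neg_iff.mpr hc
  rwa [neg_neg] at this

theorem up_mul_up (x y : F) : up x * up y = up (x + y) := by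
  apply ext' <;> simp only [coe_mul_apply, up_00, up_01, up_10, up_11] <;> ring

theorem up_pow (x : F) (n : ℕ) : up x ^ n = up (n * x) := by
  induction n with
  | zero => rw [pow_zero, Nat.cast_zero, zero_mul, up_zero]
  | succ n ih => rw [pow_succ, ih, up_mul_up, Nat.cast_succ]; congr 1; ring

theorem orderOf_up (p : ℕ) [Fact p.Prime] [CharP F p] {β : F} (hβ : β ≠ 0) : orderOf (up β) = p := by
  apply orderOf_eq_prime
  · rw [up_pow, CharP.cast_eq_zero, zero_mul, up_zero]
  · exact up_ne_one hβ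

theorem orderOf_eq_of_isConj {G : Type*} [Group G] {g h : G} (hc : IsConj g h) :
    orderOf g = orderOf h := by
  obtain ⟨c, rfl⟩ := isConj_iff.mp hc
  have : c * g * c⁻¹ = (MulAut.conj c).toMonoidHom g := rfl
  rw [this, orderOf_injective (MulAut.conj c).toMonoidHom (MulAut.conj c).injective]

/-- in odd characteristic `p`, the elements of order `p` are the non-identity elements of trace 2. -/
theorem orderOf_eq_char_iff (p : ℕ) [Fact p.Prime] [CharP F p]
    (g : SpecialLinearGroup (Fin 2) F) : orderOf g = p ↔ tr g = 2 ∧ g ≠ 1 := by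
  have hp : p.Prime := Fact.out
  constructor
  · intro h
    have hg1 : g ≠ 1 := by
      rintro rfl
      rw [orderOf_one] at h
      exact hp.one_lt.ne h
    refine ⟨?_, hg1⟩
    have hgp : g ^ p = 1 := by rw [← h]; exact pow_orderOf_eq_one g
    have hM : ((g : Matrix (Fin 2) (Fin 2) F) - 1) ^ p = 0 := by
      haveI : CharP (Matrix (Fin 2) (Fin 2) F) p := Matrix.charP p
      rw [sub_pow_char_of_commute p (Commute.one_right _), one_pow]
      have h1 : ((g ^ p : SpecialLinearGroup (Fin 2) F) : Matrix (Fin 2) (Fin 2) F) =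
          (g : Matrix (Fin 2) (Fin 2) F) ^ p := Matrix.SpecialLinearGroup.coe_pow g p
      rw [← h1, hgp]
      exact sub_self _
    have hdet : ((g : Matrix (Fin 2) (Fin 2) F) - 1).det = 0 := by
      have := congrArg Matrix.det hM
      rw [Matrix.det_pow, Matrix.det_zero] at this
      exact pow_eq_zero_iff hp.ne_zero |>.mp this
    rw [Matrix.det_fin_two] at hdet
    simp only [Matrix.sub_apply, Matrix.one_apply_eq, Matrix.one_apply_ne (show (0 : Fin 2) ≠ 1 by decide),
      Matrix.one_apply_ne (show (1 : Fin 2) ≠ 0 by decide), sub_zero] at hdet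
    have hd := det_eq g
    unfold tr
    linear_combination hd - hdet
  · rintro ⟨ht, hne⟩
    obtain ⟨β, hβ, hc⟩ := isConj_up_of_tr ht hne
    rw [orderOf_eq_of_isConj hc, orderOf_up p hβ]

/-! ### the centraliser of a unipotent element -/

theorem sq_eq_one_of_mem_ZU {g : SpecialLinearGroup (Fin 2) F} (hg : g ∈ ZU F) :
    (g : Matrix (Fin 2) (Fin 2) F) 0 0 ^ 2 = 1 := by
  have hd := det_eq g
  rw [hg.1, mul_zero, sub_zero, ← hg.2] at hd
  rw [sq]; exact hd

/-- `ZU` is in bijection with `{±1} × F`. -/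
noncomputable def equivZU (F : Type*) [Field F] : ZU F ≃ {e : F // e ^ 2 = 1} × F where
  toFun g := (⟨(g.1 : Matrix (Fin 2) (Fin 2) F) 0 0, sq_eq_one_of_mem_ZU g.2⟩,
    (g.1 : Matrix (Fin 2) (Fin 2) F) 0 1)
  invFun p := ⟨mk' p.1.1 p.2 0 p.1.1 (by have := p.1.2; linear_combination this), ⟨rfl, rfl⟩⟩
  left_inv g := by
    apply Subtype.ext
    apply ext'
    · rfl
    · rfl
    · rw [mk'_10]; exact g.2.1.symm
    · rw [mk'_11]; exact g.2.2
  right_inv p := rfl

theorem card_sq_eq_one (h2 : (2 : F) ≠ 0) : Nat.card {e : F // e ^ 2 = 1} = 2 := by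
  rw [Nat.card_eq_two_iff]
  refine ⟨⟨1, one_pow 2⟩, ⟨-1, by ring⟩, ?_, ?_⟩
  · intro h
    have := congrArg Subtype.val h
    apply h2
    linear_combination this
  · ext ⟨e, he⟩
    simp only [Set.mem_insert_iff, Set.mem_singleton_iff, Set.mem_univ, iff_true, Subtype.mk.injEq]
    have : (e - 1) * (e + 1) = 0 := by linear_combination he
    rcases mul_eq_zero.mp this with h | h
    · left; linear_combination h
    · right; linear_combination h

theorem card_ZU [Fintype F] (h2 : (2 : F) ≠ 0) : Nat.card (ZU F) = 2 * Fintype.card F := by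
  rw [Nat.card_congr (equivZU F), Nat.card_prod, card_sq_eq_one h2, Nat.card_eq_fintype_card]

theorem card_sq_eq_one_char_two (h2 : (2 : F) = 0) : Nat.card {e : F // e ^ 2 = 1} = 1 := by
  rw [Nat.card_eq_one_iff_unique]
  refine ⟨⟨?_⟩, ⟨⟨1, one_pow 2⟩⟩⟩
  rintro ⟨a, ha⟩ ⟨b, hb⟩
  apply Subtype.ext
  change a = b
  have h1 : ∀ e : F, e ^ 2 = 1 → e = 1 := by
    intro e he
    have : (e - 1) ^ 2 = 0 := by linear_combination he + (1 - e) * h2
    have := pow_eq_zero_iff (two_ne_zero) |>.mp this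
    linear_combination this
  rw [h1 a ha, h1 b hb]

theorem card_ZU_char_two [Fintype F] (h2 : (2 : F) = 0) : Nat.card (ZU F) = Fintype.card F := by
  rw [Nat.card_congr (equivZU F), Nat.card_prod, card_sq_eq_one_char_two h2,
    Nat.card_eq_fintype_card, one_mul]

end Cfsg.Agent.Helper8.SL2C
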