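import Mathlib
import Cfsg.Agent.Helper8.SL2Parab
import Cfsg.Agent.Helper4.ClassSize

set_option autoImplicit false

/-!
The torus `Tc t`, the centraliser of the companion matrix of `x² - t x + 1` in `SL₂`.
-/

namespace Cfsg.Agent.Helper8.SL2C

open Matrix Cfsg.Agent.Helper7.SL2
open scoped Matrix

variable {F : Type*} [Field F]

/-- the centraliser of the companion matrix, explicitly. -/
def Tc (t : F) : Subgroup (SpecialLinearGroup (Fin 2) F) where
  carrier := {g | (g : Matrix (Fin 2) (Fin 2) F) 0 1 = -(g : Matrix (Fin 2) (Fin 2) F) 1 0 ∧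
    (g : Matrix (Fin 2) (Fin 2) F) 1 1 =
      (g : Matrix (Fin 2) (Fin 2) F) 0 0 + t * (g : Matrix (Fin 2) (Fin 2) F) 1 0}
  mul_mem' := by
    rintro g h ⟨g01, g11⟩ ⟨h01, h11⟩
    refine ⟨?_, ?_⟩
    · simp only [coe_mul_apply, g01, g11, h01, h11]; ring
    · simp only [coe_mul_apply, g01, g11, h01, h11]; ring
  one_mem' := ⟨by rw [one_01, one_10, neg_zero], by rw [one_11, one_00, one_10]; ring⟩
  inv_mem' := by
    rintro g ⟨g01, g11⟩
    obtain ⟨i00, i01, i10, i11⟩ := coe_inv_apply g
    refine ⟨?_, ?_⟩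
    · rw [i01, i10, g01]
    · rw [i11, i00, i10, g11]; ring

theorem mem_Tc {t : F} {g : SpecialLinearGroup (Fin 2) F} : g ∈ Tc t ↔
    (g : Matrix (Fin 2) (Fin 2) F) 0 1 = -(g : Matrix (Fin 2) (Fin 2) F) 1 0 ∧
    (g : Matrix (Fin 2) (Fin 2) F) 1 1 =
      (g : Matrix (Fin 2) (Fin 2) F) 0 0 + t * (g : Matrix (Fin 2) (Fin 2) F) 1 0 := Iff.rfl

theorem centralizer_comp (t : F) :
    Subgroup.centralizer ({comp t} : Set (SpecialLinearGroup (Fin 2) F)) = Tc t := by
  ext g
  rw [Subgroup.mem_centralizer_singleton_iff, mem_Tc]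
  constructor
  · intro h
    have e00 := congrArg (fun g : SpecialLinearGroup (Fin 2) F => (g : Matrix (Fin 2) (Fin 2) F) 0 0) h
    have e10 := congrArg (fun g : SpecialLinearGroup (Fin 2) F => (g : Matrix (Fin 2) (Fin 2) F) 1 0) h
    simp only [coe_mul_apply, comp_00, comp_01, comp_10, comp_11] at e00 e10
    exact ⟨by linear_combination e00, by linear_combination e10⟩
  · rintro ⟨g01, g11⟩
    apply ext' <;> simp only [coe_mul_apply, comp_00, comp_01, comp_10, comp_11, g01, g11] <;> ring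

theorem comp_mem_Tc (t : F) : comp t ∈ Tc t := by
  rw [← centralizer_comp, Subgroup.mem_centralizer_singleton_iff]

theorem norm_of_mem_Tc {t : F} {g : SpecialLinearGroup (Fin 2) F} (hg : g ∈ Tc t) :
    (g : Matrix (Fin 2) (Fin 2) F) 0 0 ^ 2 +
      t * (g : Matrix (Fin 2) (Fin 2) F) 0 0 * (g : Matrix (Fin 2) (Fin 2) F) 1 0 +
      (g : Matrix (Fin 2) (Fin 2) F) 1 0 ^ 2 = 1 := by
  have hd := det_eq g
  rw [hg.1, hg.2] at hd
  linear_combination hd

/-- an element of the torus from its coordinates. -/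
def tmk (t x z : F) (h : x ^ 2 + t * x * z + z ^ 2 = 1) : SpecialLinearGroup (Fin 2) F :=
  mk' x (-z) z (x + t * z) (by linear_combination h)

theorem tmk_mem (t x z : F) (h : x ^ 2 + t * x * z + z ^ 2 = 1) : tmk t x z h ∈ Tc t :=
  ⟨rfl, rfl⟩

theorem tr_tmk (t x z : F) (h : x ^ 2 + t * x * z + z ^ 2 = 1) : tr (tmk t x z h) = 2 * x + t * z := by
  unfold tr tmk
  rw [mk'_00, mk'_11]; ring

theorem Tc_comm {t : F} {a b : SpecialLinearGroup (Fin 2) F} (ha : a ∈ Tc t) (hb : b ∈ Tc t) :
    a * b = b * a := by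
  apply ext' <;> simp only [coe_mul_apply, ha.1, ha.2, hb.1, hb.2] <;> ring

theorem neg_one_mem_Tc (t : F) : (-1 : SpecialLinearGroup (Fin 2) F) ∈ Tc t := by
  refine ⟨?_, ?_⟩
  · rw [neg_apply, neg_apply, one_01, one_10, neg_zero, neg_zero]
  · rw [neg_apply, neg_apply, neg_apply, one_11, one_00, one_10]; ring

/-- a non-scalar element of the torus has the torus as centraliser. -/
theorem centralizer_of_mem_Tc {t : F} {g : SpecialLinearGroup (Fin 2) F} (hg : g ∈ Tc t)
    (hz : (g : Matrix (Fin 2) (Fin 2) F) 1 0 ≠ 0) :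
    Subgroup.centralizer ({g} : Set (SpecialLinearGroup (Fin 2) F)) = Tc t := by
  ext h
  rw [Subgroup.mem_centralizer_singleton_iff, mem_Tc]
  constructor
  · intro e
    have e00 := congrArg (fun g : SpecialLinearGroup (Fin 2) F => (g : Matrix (Fin 2) (Fin 2) F) 0 0) e
    have e10 := congrArg (fun g : SpecialLinearGroup (Fin 2) F => (g : Matrix (Fin 2) (Fin 2) F) 1 0) e
    simp only [coe_mul_apply, hg.1, hg.2] at e00 e10
    constructor
    · apply mul_left_cancel₀ hz
      linear_combination e00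
    · apply mul_left_cancel₀ hz
      linear_combination e10
  · intro hh
    exact Tc_comm hh hg

/-- a scalar element of the torus is `±1`. -/
theorem eq_one_or_neg_one_of_mem_Tc {t : F} {g : SpecialLinearGroup (Fin 2) F} (hg : g ∈ Tc t)
    (hz : (g : Matrix (Fin 2) (Fin 2) F) 1 0 = 0) : g = 1 ∨ g = -1 := by
  have hn := norm_of_mem_Tc hg
  rw [hz] at hn
  have h1 : ((g : Matrix (Fin 2) (Fin 2) F) 0 0 - 1) * ((g : Matrix (Fin 2) (Fin 2) F) 0 0 + 1) = 0 := by
    linear_combination hn
  have g01 := hg.1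
  have g11 := hg.2
  rw [hz] at g01 g11
  rcases mul_eq_zero.mp h1 with h | h
  · left
    have h00 : (g : Matrix (Fin 2) (Fin 2) F) 0 0 = 1 := by linear_combination h
    apply ext'
    · rw [h00, one_00]
    · rw [g01, one_01, neg_zero]
    · rw [hz, one_10]
    · rw [g11, h00, one_11]; ring
  · right
    have h00 : (g : Matrix (Fin 2) (Fin 2) F) 0 0 = -1 := by linear_combination h
    apply ext'
    · rw [h00, neg_apply, one_00]
    · rw [g01, neg_apply, one_01]
    · rw [hz, neg_apply, one_10, neg_zero]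
    · rw [g11, h00, neg_apply, one_11]; ring

theorem centralizer_Tc (t : F) :
    Subgroup.centralizer ((Tc t : Subgroup (SpecialLinearGroup (Fin 2) F)) :
      Set (SpecialLinearGroup (Fin 2) F)) = Tc t := by
  apply le_antisymm
  · intro g hg
    rw [← centralizer_comp, Subgroup.mem_centralizer_singleton_iff]
    exact (hg (comp t) (comp_mem_Tc t)).symm
  · intro g hg h hh
    exact Tc_comm hh hg

/-- the elements of the torus with the same trace as the companion matrix. -/
theorem eq_comp_or_inv_of_tr {t : F} (ht : t ^ 2 ≠ 4) {X : SpecialLinearGroup (Fin 2) F}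
    (hX : X ∈ Tc t) (htr : tr X = t) : X = comp t ∨ X = (comp t)⁻¹ := by
  have hn := norm_of_mem_Tc hX
  obtain ⟨i00, i01, i10, i11⟩ := coe_inv_apply (comp t)
  have X01 := hX.1
  have X11 := hX.2
  unfold tr at htr
  rw [X11] at htr
  obtain ⟨x, hx⟩ : ∃ x, x = (X : Matrix (Fin 2) (Fin 2) F) 0 0 := ⟨_, rfl⟩
  obtain ⟨z, hz⟩ : ∃ z, z = (X : Matrix (Fin 2) (Fin 2) F) 1 0 := ⟨_, rfl⟩
  rw [← hx, ← hz] at hn htr X11
  rw [← hz] at X01
  have h4 : t ^ 2 - 4 ≠ 0 := fun h => ht (by linear_combination h)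
  have hz2 : (z - 1) * (z + 1) = 0 := by
    have : (t ^ 2 - 4) * ((z - 1) * (z + 1)) = 0 := by
      linear_combination (-4 : F) * hn + (2 * x + t * z + t) * htr
    exact (mul_eq_zero.mp this).resolve_left h4
  have hxx : x * (x + t * z) = 0 := by
    have : z ^ 2 = 1 := by linear_combination hz2
    linear_combination hn - this
  have first : x = 0 → z = 1 → X = comp t := by
    intro h1 h2
    apply ext'
    · rw [← hx, h1, comp_00]
    · rw [X01, h2, comp_01]
    · rw [← hz, h2, comp_10]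
    · rw [X11, h1, h2, comp_11]; ring
  have second : x = t → z = -1 → X = (comp t)⁻¹ := by
    intro h1 h2
    apply ext'
    · rw [← hx, h1, i00, comp_11]
    · rw [X01, h2, i01, comp_01]
    · rw [← hz, h2, i10, comp_10]
    · rw [X11, h1, h2, i11, comp_00]; ring
  rcases mul_eq_zero.mp hz2 with h | h
  · have hz1 : z = 1 := by linear_combination h
    rw [hz1] at htr hxx
    have h2x : 2 * x = 0 := by linear_combination htr
    rcases mul_eq_zero.mp hxx with h' | h'
    · exact Or.inl (first h' hz1)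
    · have hxt : x = -t := by linear_combination h'
      have h2t : 2 * t = 0 := by rw [hxt] at h2x; linear_combination -h2x
      rcases mul_eq_zero.mp h2t with h'' | h''
      · right
        apply second
        · rw [hxt]; linear_combination (-t) * h''
        · rw [hz1]; linear_combination h''
      · left
        apply first _ hz1
        rw [hxt, h'']; ring
  · have hz1 : z = -1 := by linear_combination h
    rw [hz1] at htr hxx
    have h2x : 2 * (x - t) = 0 := by linear_combination htr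
    rcases mul_eq_zero.mp hxx with h' | h'
    · rw [h'] at h2x
      have h2t : 2 * t = 0 := by linear_combination -h2x
      rcases mul_eq_zero.mp h2t with h'' | h''
      · left
        apply first h'
        rw [hz1]; linear_combination -h''
      · right
        apply second _ hz1
        rw [h', h'']
    · right
      apply second _ hz1
      linear_combination h'

/-! ### the normaliser of the torus -/

/-- the non-trivial coset of the torus in its normaliser. -/
def IsW (t : F) (g : SpecialLinearGroup (Fin 2) F) : Prop :=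
  (g : Matrix (Fin 2) (Fin 2) F) 1 1 = -(g : Matrix (Fin 2) (Fin 2) F) 0 0 ∧
    (g : Matrix (Fin 2) (Fin 2) F) 0 1 =
      t * (g : Matrix (Fin 2) (Fin 2) F) 0 0 + (g : Matrix (Fin 2) (Fin 2) F) 1 0

theorem isW_iff {t : F} {g : SpecialLinearGroup (Fin 2) F} :
    IsW t g ↔ g * comp t = (comp t)⁻¹ * g := by
  obtain ⟨i00, i01, i10, i11⟩ := coe_inv_apply (comp t)
  constructor
  · rintro ⟨g11, g01⟩
    apply ext' <;>
      simp only [coe_mul_apply, comp_00, comp_01, comp_10, comp_11, i00, i01, i10, i11, g11, g01] <;>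
      ring
  · intro h
    have e00 := congrArg (fun g : SpecialLinearGroup (Fin 2) F => (g : Matrix (Fin 2) (Fin 2) F) 0 0) h
    have e10 := congrArg (fun g : SpecialLinearGroup (Fin 2) F => (g : Matrix (Fin 2) (Fin 2) F) 1 0) h
    simp only [coe_mul_apply, comp_00, comp_01, comp_10, comp_11, i00, i01, i10, i11] at e00 e10
    exact ⟨by linear_combination e10, by linear_combination e00⟩

theorem sq_of_isW {t : F} {g : SpecialLinearGroup (Fin 2) F} (h : IsW t g) : g * g = -1 := by
  have hd := det_eq g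
  rw [h.1] at hd
  apply ext'
  · rw [coe_mul_apply, neg_apply, one_00]; linear_combination -hd
  · rw [coe_mul_apply, neg_apply, one_01, h.1]; ring
  · rw [coe_mul_apply, neg_apply, one_10, h.1]; ring
  · rw [coe_mul_apply, neg_apply, one_11, h.1]; linear_combination -hd

theorem comp_ne_inv {t : F} (ht : t ^ 2 ≠ 4) : comp t ≠ (comp t)⁻¹ := by
  intro h
  obtain ⟨i00, i01, i10, i11⟩ := coe_inv_apply (comp t)
  have e00 := congrArg (fun g : SpecialLinearGroup (Fin 2) F => (g : Matrix (Fin 2) (Fin 2) F) 0 0) h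
  have e01 := congrArg (fun g : SpecialLinearGroup (Fin 2) F => (g : Matrix (Fin 2) (Fin 2) F) 0 1) h
  simp only [comp_00, comp_01, comp_11, i00, i01] at e00 e01
  apply ht
  rw [← e00]
  linear_combination (2 : F) * e01

theorem not_isW_of_mem_Tc {t : F} (ht : t ^ 2 ≠ 4) {g : SpecialLinearGroup (Fin 2) F}
    (hg : g ∈ Tc t) : ¬ IsW t g := by
  intro h
  rw [isW_iff] at h
  rw [← centralizer_comp, Subgroup.mem_centralizer_singleton_iff] at hg
  rw [hg] at h
  exact comp_ne_inv ht (mul_right_cancel h)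

theorem centralizer_inv_eq {G : Type*} [Group G] (c : G) :
    Subgroup.centralizer ({c⁻¹} : Set G) = Subgroup.centralizer ({c} : Set G) := by
  ext h
  rw [Subgroup.mem_centralizer_singleton_iff, Subgroup.mem_centralizer_singleton_iff]
  constructor
  · intro e
    have : c * (h * c⁻¹) * c = c * (c⁻¹ * h) * c := by rw [e]
    have e2 : c * (h * c⁻¹) * c = c * h := by group
    have e3 : c * (c⁻¹ * h) * c = h * c := by group
    rw [e2, e3] at this
    exact this.symm
  · intro e
    have : c⁻¹ * (h * c) * c⁻¹ = c⁻¹ * (c * h) * c⁻¹ := by rw [e]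
    have e2 : c⁻¹ * (h * c) * c⁻¹ = c⁻¹ * h := by group
    have e3 : c⁻¹ * (c * h) * c⁻¹ = h * c⁻¹ := by group
    rw [e2, e3] at this
    exact this.symm

theorem conj_mem_Tc_of_isW {t : F} {g : SpecialLinearGroup (Fin 2) F} (hg : IsW t g)
    {h : SpecialLinearGroup (Fin 2) F} (hh : h ∈ Tc t) : g * h * g⁻¹ ∈ Tc t := by
  rw [isW_iff] at hg
  rw [← centralizer_comp, ← centralizer_inv_eq, Subgroup.mem_centralizer_singleton_iff]
  rw [← centralizer_comp, Subgroup.mem_centralizer_singleton_iff] at hh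
  have e1 : (comp t)⁻¹ = g * comp t * g⁻¹ := by rw [hg]; group
  rw [e1]
  have e2 : g * h * g⁻¹ * (g * comp t * g⁻¹) = g * (h * comp t) * g⁻¹ := by group
  have e3 : g * comp t * g⁻¹ * (g * h * g⁻¹) = g * (comp t * h) * g⁻¹ := by group
  rw [e2, e3, hh]

theorem isW_inv {t : F} {g : SpecialLinearGroup (Fin 2) F} (hg : IsW t g) : IsW t g⁻¹ := by
  rw [isW_iff] at hg ⊢
  have : g⁻¹ * (g * comp t) * g⁻¹ * comp t = g⁻¹ * ((comp t)⁻¹ * g) * g⁻¹ * comp t := by rw [hg]
  have e1 : g⁻¹ * (g * comp t) * g⁻¹ * comp t = comp t * (g⁻¹ * comp t) := by group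
  have e2 : g⁻¹ * ((comp t)⁻¹ * g) * g⁻¹ * comp t = g⁻¹ * (comp t)⁻¹ * g * g⁻¹ * comp t := by group
  rw [e1, e2] at this
  have e3 : g⁻¹ * (comp t)⁻¹ * g * g⁻¹ * comp t = g⁻¹ := by group
  rw [e3] at this
  have : (comp t)⁻¹ * (comp t * (g⁻¹ * comp t)) = (comp t)⁻¹ * g⁻¹ := by rw [this]
  rw [← this]; group

theorem mem_normalizer_Tc_iff {t : F} (ht : t ^ 2 ≠ 4) {g : SpecialLinearGroup (Fin 2) F} :
    g ∈ Subgroup.normalizer ((Tc t : Subgroup (SpecialLinearGroup (Fin 2) F)) :
      Set (SpecialLinearGroup (Fin 2) F)) ↔ g ∈ Tc t ∨ IsW t g := by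
  constructor
  · intro hg
    rw [Subgroup.mem_normalizer_iff] at hg
    have h1 := (hg (comp t)).mp (comp_mem_Tc t)
    have h2 : tr (g * comp t * g⁻¹) = t := by rw [tr_conj, tr_comp]
    rcases eq_comp_or_inv_of_tr ht h1 h2 with h | h
    · left
      rw [← centralizer_comp, Subgroup.mem_centralizer_singleton_iff]
      have e : g * comp t = (g * comp t * g⁻¹) * g := by group
      rw [e, h]
    · right
      rw [isW_iff]
      have e : g * comp t = (g * comp t * g⁻¹) * g := by group
      rw [e, h]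
  · rintro (hg | hg)
    · exact Subgroup.le_normalizer hg
    · rw [Subgroup.mem_normalizer_iff]
      intro h
      constructor
      · exact conj_mem_Tc_of_isW hg
      · intro hh
        have := conj_mem_Tc_of_isW (isW_inv hg) hh
        have e : g⁻¹ * (g * h * g⁻¹) * g⁻¹⁻¹ = h := by group
        rwa [e] at this

theorem mul_mem_Tc_of_isW {t : F} {a b : SpecialLinearGroup (Fin 2) F} (ha : IsW t a)
    (hb : IsW t b) : a * b ∈ Tc t := by
  rw [isW_iff] at ha hb
  rw [← centralizer_comp, Subgroup.mem_centralizer_singleton_iff, mul_assoc, hb, ← mul_assoc]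
  have : a * (comp t)⁻¹ = comp t * a := by
    have h1 : (comp t) * (a * comp t) * (comp t)⁻¹ = (comp t) * ((comp t)⁻¹ * a) * (comp t)⁻¹ := by
      rw [ha]
    have e1 : (comp t) * (a * comp t) * (comp t)⁻¹ = comp t * a := by group
    have e2 : (comp t) * ((comp t)⁻¹ * a) * (comp t)⁻¹ = a * (comp t)⁻¹ := by group
    rw [e1, e2] at h1
    exact h1.symm
  rw [this, mul_assoc]

/-- the torus has index two in its normaliser, as soon as the other coset is non-empty. -/
theorem index_Tc_subgroupOf {t : F} (ht : t ^ 2 ≠ 4) {w : SpecialLinearGroup (Fin 2) F}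
    (hw : IsW t w) :
    ((Tc t).subgroupOf (Subgroup.normalizer ((Tc t : Subgroup (SpecialLinearGroup (Fin 2) F)) :
      Set (SpecialLinearGroup (Fin 2) F)))).index = 2 := by
  rw [Subgroup.index_eq_two_iff]
  refine ⟨⟨w, (mem_normalizer_Tc_iff ht).mpr (Or.inr hw)⟩, ?_⟩
  rintro ⟨b, hb⟩
  rw [Subgroup.mem_subgroupOf, Subgroup.mem_subgroupOf]
  change Xor' (b * w ∈ Tc t) (b ∈ Tc t)
  rcases (mem_normalizer_Tc_iff ht).mp hb with h | h
  · right
    refine ⟨h, ?_⟩
    intro h'
    have : w ∈ Tc t := by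
      have := (Tc t).mul_mem ((Tc t).inv_mem h) h'
      rwa [inv_mul_cancel_left] at this
    exact not_isW_of_mem_Tc ht this hw
  · left
    exact ⟨mul_mem_Tc_of_isW h hw, fun h' => not_isW_of_mem_Tc ht h' h⟩

end Cfsg.Agent.Helper8.SL2C
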