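import Mathlib
import Cfsg.Agent.Helper8.SL2Ell

set_option autoImplicit false

/-!
The non-split torus of `SL₂` over a finite field: order, cyclicity, traces.
-/

namespace Cfsg.Agent.Helper8.SL2C

open Matrix Cfsg.Agent.Helper7.SL2
open scoped Matrix

variable {F : Type*} [Field F]

/-- `x² - t x + 1` has no root. -/
def Ellt (t : F) : Prop := ∀ l : F, l ^ 2 - t * l + 1 ≠ 0

theorem isEll_iff_ellt {g : SpecialLinearGroup (Fin 2) F} : IsEll g ↔ Ellt (tr g) := isEll_iff

theorem exists_ellt [Finite F] : ∃ t : F, Ellt t := by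
  classical
  haveI := Fintype.ofFinite F
  have hns : ¬ Function.Surjective (fun l : Fˣ => (l : F) + ((l⁻¹ : Fˣ) : F)) := by
    intro h
    have := Fintype.card_le_of_surjective _ h
    rw [Fintype.card_units] at this
    have : 0 < Fintype.card F := Fintype.card_pos
    omega
  unfold Function.Surjective at hns
  push Not at hns
  obtain ⟨t, ht⟩ := hns
  refine ⟨t, ?_⟩
  intro l hl
  have hl0 : l ≠ 0 := by
    rintro rfl
    simp at hl
  apply ht (Units.mk0 l hl0)
  rw [Units.val_inv_eq_inv_val, Units.val_mk0]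
  field_simp
  linear_combination hl

theorem ellt_sq_ne {t : F} (ht : Ellt t) : t ^ 2 ≠ 4 := by
  intro h
  have h1 : (t - 2) * (t + 2) = 0 := by linear_combination h
  rcases mul_eq_zero.mp h1 with h2 | h2
  · apply ht 1
    linear_combination -h2
  · apply ht (-1)
    linear_combination h2

/-- the norm form is anisotropic. -/
theorem norm_aniso {t : F} (ht : Ellt t) {a c : F} (h : a ^ 2 + t * a * c + c ^ 2 = 0) :
    a = 0 ∧ c = 0 := by
  by_cases hc : c = 0
  · rw [hc] at h
    refine ⟨?_, hc⟩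
    have : a ^ 2 = 0 := by linear_combination h
    exact pow_eq_zero_iff (two_ne_zero) |>.mp this
  · exfalso
    apply ht (-a / c)
    field_simp
    linear_combination h

theorem exists_norm_eq [Finite F] {t : F} (ht : Ellt t) (e : F) :
    ∃ a c : F, a ^ 2 + t * a * c + c ^ 2 = e := by
  rcases exists_binary (1 : F) t 1 e with ⟨x, y, h⟩ | ⟨x, y, hxy, h⟩
  · exact ⟨x, y, by linear_combination h⟩
  · exfalso
    obtain ⟨h1, h2⟩ := norm_aniso ht (a := x) (c := y) (by linear_combination h)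
    rcases hxy with h' | h'
    · exact h' h1
    · exact h' h2

theorem exists_isW [Finite F] {t : F} (ht : Ellt t) : ∃ w : SpecialLinearGroup (Fin 2) F, IsW t w := by
  obtain ⟨a, c, h⟩ := exists_norm_eq ht (-1)
  exact ⟨mk' a (t * a + c) c (-a) (by linear_combination -h), rfl, rfl⟩

/-! ### the order of the torus -/

theorem g01_ne_zero_of_ellt {g : SpecialLinearGroup (Fin 2) F} (hg : Ellt (tr g)) :
    (g : Matrix (Fin 2) (Fin 2) F) 0 1 ≠ 0 := by
  intro h
  have hd := det_eq g
  rw [h, zero_mul, sub_zero] at hd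
  apply hg ((g : Matrix (Fin 2) (Fin 2) F) 0 0)
  unfold tr
  linear_combination -hd

/-- the elements of trace `t`, for elliptic `t`. -/
noncomputable def equivTr {t : F} (ht : Ellt t) :
    {g : SpecialLinearGroup (Fin 2) F // tr g = t} ≃ F × Fˣ where
  toFun g := ((g.1 : Matrix (Fin 2) (Fin 2) F) 0 0,
    Units.mk0 ((g.1 : Matrix (Fin 2) (Fin 2) F) 0 1) (g01_ne_zero_of_ellt (by rw [g.2]; exact ht)))
  invFun p := ⟨mk' p.1 p.2 ((p.1 * (t - p.1) - 1) / p.2) (t - p.1) (by
      have := p.2.ne_zero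
      field_simp
      ring), by
    unfold tr
    rw [mk'_00, mk'_11]; ring⟩
  left_inv g := by
    apply Subtype.ext
    have h01 := g01_ne_zero_of_ellt (g := g.1) (by rw [g.2]; exact ht)
    have hd := det_eq g.1
    have htr := g.2
    unfold tr at htr
    apply ext'
    · rfl
    · rfl
    · rw [mk'_10]
      simp only [Units.val_mk0]
      field_simp
      linear_combination hd - (g.1 : Matrix (Fin 2) (Fin 2) F) 0 0 * htr
    · rw [mk'_11]
      linear_combination -htr
  right_inv p := by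
    apply Prod.ext
    · rfl
    · apply Units.ext
      rfl

theorem card_tr_eq [Fintype F] {t : F} (ht : Ellt t) :
    Nat.card {g : SpecialLinearGroup (Fin 2) F // tr g = t} =
      Fintype.card F * (Fintype.card F - 1) := by
  rw [Nat.card_congr (equivTr ht), Nat.card_prod, Nat.card_units, Nat.card_eq_fintype_card]

theorem card_Tc [Fintype F] {t : F} (ht : Ellt t) : Nat.card (Tc t) = Fintype.card F + 1 := by
  have h1 : (Tc t).index = Fintype.card F * (Fintype.card F - 1) := by
    rw [← centralizer_comp, Cfsg.Agent.Helper4.index_centralizer_eq_card_conj, ← card_tr_eq ht]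
    apply Nat.card_congr
    refine Equiv.subtypeEquivRight ?_
    intro y
    constructor
    · intro h
      rw [← tr_eq_of_isConj h, tr_comp]
    · intro h
      have : IsEll y := by rw [isEll_iff_ellt, h]; exact ht
      have := isConj_comp_of_ell this
      rw [h] at this
      exact this.symm
  have h2 := Subgroup.card_mul_index (Tc t)
  rw [h1, card_SL2] at h2
  have hq : 2 ≤ Fintype.card F := Fintype.one_lt_card
  obtain ⟨k, hk⟩ : ∃ k, Fintype.card F = k + 2 := ⟨Fintype.card F - 2, by omega⟩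
  rw [hk] at h2 ⊢
  have e1 : (k + 2) ^ 2 - 1 = (k + 1) * (k + 3) := by
    apply Nat.sub_eq_of_eq_add; ring
  have e2 : k + 2 - 1 = k + 1 := by omega
  rw [e1, e2] at h2
  have h3 : ((k + 2) * (k + 1)) * Nat.card (Tc t) = ((k + 2) * (k + 1)) * (k + 2 + 1) := by
    linarith [h2]
  exact Nat.eq_of_mul_eq_mul_left (by positivity) h3

/-! ### cyclicity -/

theorem isCyclic_Tc [Finite F] {t : F} (ht : t ^ 2 ≠ 4) : IsCyclic (Tc t) := by
  obtain ⟨α, hα⟩ := IsAlgClosed.exists_root
    (Polynomial.C (1 : AlgebraicClosure F) * Polynomial.X ^ 2 +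
      Polynomial.C (-(algebraMap F (AlgebraicClosure F) t)) * Polynomial.X + Polynomial.C 1)
    (by rw [Polynomial.degree_quadratic one_ne_zero]; norm_num)
  rw [Polynomial.IsRoot.def] at hα
  simp only [Polynomial.eval_add, Polynomial.eval_mul, Polynomial.eval_C, Polynomial.eval_pow,
    Polynomial.eval_X] at hα
  obtain ⟨τ, hτ⟩ : ∃ τ, τ = algebraMap F (AlgebraicClosure F) t := ⟨_, rfl⟩
  rw [← hτ] at hα
  have hα2 : α ^ 2 = τ * α - 1 := by linear_combination hα
  let φ : Tc t →* AlgebraicClosure F :=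
    { toFun := fun X => algebraMap F (AlgebraicClosure F) ((X.1 : Matrix (Fin 2) (Fin 2) F) 0 0) +
        algebraMap F (AlgebraicClosure F) ((X.1 : Matrix (Fin 2) (Fin 2) F) 1 0) * α
      map_one' := by
        change algebraMap F (AlgebraicClosure F) ((1 : SpecialLinearGroup (Fin 2) F).1 0 0) +
          algebraMap F (AlgebraicClosure F) ((1 : SpecialLinearGroup (Fin 2) F).1 1 0) * α = 1
        rw [one_00, one_10, map_one, map_zero, zero_mul, add_zero]
      map_mul' := by
        intro X Y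
        change algebraMap F (AlgebraicClosure F) ((X.1 * Y.1 : SpecialLinearGroup (Fin 2) F).1 0 0) +
          algebraMap F (AlgebraicClosure F) ((X.1 * Y.1 : SpecialLinearGroup (Fin 2) F).1 1 0) * α = _
        rw [coe_mul_apply, coe_mul_apply, X.2.1, X.2.2]
        simp only [map_add, map_mul, map_neg]
        rw [← hτ]
        linear_combination (algebraMap F (AlgebraicClosure F) ((X.1 : Matrix (Fin 2) (Fin 2) F) 1 0) *
          algebraMap F (AlgebraicClosure F) ((Y.1 : Matrix (Fin 2) (Fin 2) F) 1 0)) * (-hα2) }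
  have hφ : ∀ X : Tc t, φ X = algebraMap F (AlgebraicClosure F) ((X.1 : Matrix (Fin 2) (Fin 2) F) 0 0) +
        algebraMap F (AlgebraicClosure F) ((X.1 : Matrix (Fin 2) (Fin 2) F) 1 0) * α := fun _ => rfl
  have hinj : Function.Injective φ := by
    rw [injective_iff_map_eq_one]
    intro X hX
    rw [hφ] at hX
    have hn := norm_of_mem_Tc X.2
    obtain ⟨x, hx⟩ : ∃ x, x = algebraMap F (AlgebraicClosure F) ((X.1 : Matrix (Fin 2) (Fin 2) F) 0 0) :=
      ⟨_, rfl⟩
    obtain ⟨z, hz⟩ : ∃ z, z = algebraMap F (AlgebraicClosure F) ((X.1 : Matrix (Fin 2) (Fin 2) F) 1 0) :=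
      ⟨_, rfl⟩
    have hn' : x ^ 2 + τ * x * z + z ^ 2 = 1 := by
      rw [hx, hz, hτ, ← map_pow, ← map_pow, ← map_mul, ← map_mul, ← map_add, ← map_add, hn, map_one]
    rw [← hx, ← hz] at hX
    have hconj : (x + z * α) * (x + z * (τ - α)) = 1 := by
      linear_combination hn' + (-z ^ 2) * hα2
    rw [hX, one_mul] at hconj
    have hz0 : z * (2 * α - τ) = 0 := by linear_combination hX - hconj
    have hne : 2 * α - τ ≠ 0 := by
      intro h
      apply ht
      have h4 : τ ^ 2 = 4 := by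
        have : τ = 2 * α := by linear_combination -h
        rw [this] at hα2 ⊢
        linear_combination (-4 : AlgebraicClosure F) * hα2
      have : algebraMap F (AlgebraicClosure F) (t ^ 2) = algebraMap F (AlgebraicClosure F) 4 := by
        rw [map_pow, ← hτ, h4]
        exact (map_ofNat _ 4).symm
      exact (algebraMap F (AlgebraicClosure F)).injective this
    have hz1 : z = 0 := (mul_eq_zero.mp hz0).resolve_right hne
    have hx1 : x = 1 := by rw [hz1, zero_mul, add_zero] at hX; exact hX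
    have hz2 : (X.1 : Matrix (Fin 2) (Fin 2) F) 1 0 = 0 := by
      apply (algebraMap F (AlgebraicClosure F)).injective
      rw [← hz, hz1, map_zero]
    have hx2 : (X.1 : Matrix (Fin 2) (Fin 2) F) 0 0 = 1 := by
      apply (algebraMap F (AlgebraicClosure F)).injective
      rw [← hx, hx1, map_one]
    apply Subtype.ext
    apply ext'
    · rw [hx2]; exact one_00.symm
    · rw [X.2.1, hz2, neg_zero]; exact one_01.symm
    · rw [hz2]; exact one_10.symm
    · rw [X.2.2, hx2, hz2, mul_zero, add_zero]; exact one_11.symm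
  exact isCyclic_of_injective_ringHom φ hinj

/-! ### traces of elements of the non-split torus, odd characteristic -/

theorem not_isSquare_of_ellt (h2 : (2 : F) ≠ 0) {t : F} (ht : Ellt t) : ¬ IsSquare (t ^ 2 - 4) := by
  rintro ⟨s, hs⟩
  apply ht ((t + s) / 2)
  field_simp
  linear_combination -hs

theorem exists_mem_Tc_tr [Fintype F] (h2 : (2 : F) ≠ 0) {t₀ t : F} (ht₀ : Ellt t₀) (ht : Ellt t) :
    ∃ X ∈ Tc t₀, tr X = t := by
  have h0 : t ^ 2 - 4 ≠ 0 := fun h => ellt_sq_ne ht (by linear_combination h)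
  have h0' : t₀ ^ 2 - 4 ≠ 0 := fun h => ellt_sq_ne ht₀ (by linear_combination h)
  obtain ⟨r, hr⟩ := sq_mul_of_not h0 (not_isSquare_of_ellt h2 ht) (not_isSquare_of_ellt h2 ht₀)
  have hn : ((t - t₀ * (r / (t₀ ^ 2 - 4))) / 2) ^ 2 +
      t₀ * ((t - t₀ * (r / (t₀ ^ 2 - 4))) / 2) * (r / (t₀ ^ 2 - 4)) + (r / (t₀ ^ 2 - 4)) ^ 2 = 1 := by
    field_simp
    linear_combination (t₀ ^ 2 - 4) * hr
  refine ⟨tmk t₀ _ _ hn, tmk_mem _ _ _ hn, ?_⟩
  rw [tr_tmk]
  field_simp
  ring

theorem exists_conj_mem_Tc [Fintype F] (h2 : (2 : F) ≠ 0) {t₀ : F} (ht₀ : Ellt t₀)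
    {g : SpecialLinearGroup (Fin 2) F} (hg : IsEll g) :
    ∃ h : SpecialLinearGroup (Fin 2) F, h * g * h⁻¹ ∈ Tc t₀ := by
  obtain ⟨X, hX, htr⟩ := exists_mem_Tc_tr h2 ht₀ (isEll_iff_ellt.mp hg)
  have hXe : IsEll X := by rw [isEll_iff_ellt, htr]; exact isEll_iff_ellt.mp hg
  have h1 := isConj_comp_of_ell hg
  have h2' := isConj_comp_of_ell hXe
  rw [htr] at h2'
  obtain ⟨c, hc⟩ := isConj_iff.mp (h1.trans h2'.symm)
  exact ⟨c, by rw [hc]; exact hX⟩

theorem eq_one_or_neg_one_of_sq (h2 : (2 : F) ≠ 0) {a : SpecialLinearGroup (Fin 2) F}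
    (h : a * a = 1) : a = 1 ∨ a = -1 := by
  have e00 := congrArg (fun g : SpecialLinearGroup (Fin 2) F => (g : Matrix (Fin 2) (Fin 2) F) 0 0) h
  have e01 := congrArg (fun g : SpecialLinearGroup (Fin 2) F => (g : Matrix (Fin 2) (Fin 2) F) 0 1) h
  have e10 := congrArg (fun g : SpecialLinearGroup (Fin 2) F => (g : Matrix (Fin 2) (Fin 2) F) 1 0) h
  simp only [coe_mul_apply, one_00, one_01, one_10] at e00 e01 e10
  have hd := det_eq a
  have hs : (a : Matrix (Fin 2) (Fin 2) F) 0 0 + (a : Matrix (Fin 2) (Fin 2) F) 1 1 ≠ 0 := by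
    intro hs
    apply h2
    have : (a : Matrix (Fin 2) (Fin 2) F) 1 1 = -(a : Matrix (Fin 2) (Fin 2) F) 0 0 := by
      linear_combination hs
    rw [this] at hd
    linear_combination -e00 - hd
  have h01 : (a : Matrix (Fin 2) (Fin 2) F) 0 1 = 0 := by
    have : (a : Matrix (Fin 2) (Fin 2) F) 0 1 *
        ((a : Matrix (Fin 2) (Fin 2) F) 0 0 + (a : Matrix (Fin 2) (Fin 2) F) 1 1) = 0 := by
      linear_combination e01
    exact (mul_eq_zero.mp this).resolve_right hs
  have h10 : (a : Matrix (Fin 2) (Fin 2) F) 1 0 = 0 := by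
    have : (a : Matrix (Fin 2) (Fin 2) F) 1 0 *
        ((a : Matrix (Fin 2) (Fin 2) F) 0 0 + (a : Matrix (Fin 2) (Fin 2) F) 1 1) = 0 := by
      linear_combination e10
    exact (mul_eq_zero.mp this).resolve_right hs
  exact eq_one_or_neg_one_of_mem_D ⟨h01, h10⟩ h

end Cfsg.Agent.Helper8.SL2C
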