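import Mathlib
import Cfsg.Agent.Helper8.SL2Ell2

set_option autoImplicit false

/-!
Basic facts on `PSL₂(F) = SL₂(F) / {±1}`.
-/

namespace Cfsg.Agent.Helper8.SL2C

open Matrix Cfsg.Agent.Helper7.SL2
open scoped Matrix

variable {F : Type*} [Field F]

theorem mem_center_iff' {g : SpecialLinearGroup (Fin 2) F} :
    g ∈ Subgroup.center (SpecialLinearGroup (Fin 2) F) ↔ g = 1 ∨ g = -1 := by
  constructor
  · intro hg
    rw [Subgroup.mem_center_iff] at hg
    have h1 := hg (up 1)
    have h2 := hg (lo 1)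
    have e1 := congrArg (fun g : SpecialLinearGroup (Fin 2) F => (g : Matrix (Fin 2) (Fin 2) F) 0 0) h1
    have e2 := congrArg (fun g : SpecialLinearGroup (Fin 2) F => (g : Matrix (Fin 2) (Fin 2) F) 0 1) h1
    have e3 := congrArg (fun g : SpecialLinearGroup (Fin 2) F => (g : Matrix (Fin 2) (Fin 2) F) 0 0) h2
    simp only [coe_mul_apply, up_00, up_01, up_10, up_11, lo_00, lo_01, lo_10, lo_11] at e1 e2 e3
    have g10 : (g : Matrix (Fin 2) (Fin 2) F) 1 0 = 0 := by linear_combination e1
    have g01 : (g : Matrix (Fin 2) (Fin 2) F) 0 1 = 0 := by linear_combination -e3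
    have g11 : (g : Matrix (Fin 2) (Fin 2) F) 1 1 = (g : Matrix (Fin 2) (Fin 2) F) 0 0 := by
      linear_combination e2
    have hd := det_eq g
    rw [g01, zero_mul, sub_zero, g11] at hd
    have h3 : ((g : Matrix (Fin 2) (Fin 2) F) 0 0 - 1) * ((g : Matrix (Fin 2) (Fin 2) F) 0 0 + 1) = 0 := by
      linear_combination hd
    rcases mul_eq_zero.mp h3 with h | h
    · left
      have h00 : (g : Matrix (Fin 2) (Fin 2) F) 0 0 = 1 := by linear_combination h
      apply ext'
      · rw [h00, one_00]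
      · rw [g01, one_01]
      · rw [g10, one_10]
      · rw [g11, h00, one_11]
    · right
      have h00 : (g : Matrix (Fin 2) (Fin 2) F) 0 0 = -1 := by linear_combination h
      apply ext'
      · rw [h00, neg_apply, one_00]
      · rw [g01, neg_apply, one_01, neg_zero]
      · rw [g10, neg_apply, one_10, neg_zero]
      · rw [g11, h00, neg_apply, one_11]
  · rintro (rfl | rfl)
    · exact Subgroup.one_mem _
    · rw [Subgroup.mem_center_iff]
      intro h
      exact (neg_one_comm h).symm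

/-- the projection to `PSL₂`. -/
abbrev pmk (g : SpecialLinearGroup (Fin 2) F) : ProjectiveSpecialLinearGroup (Fin 2) F :=
  QuotientGroup.mk g

theorem pmk_surjective : Function.Surjective (pmk (F := F)) := QuotientGroup.mk_surjective

theorem pmk_eq_one_iff {g : SpecialLinearGroup (Fin 2) F} : pmk g = 1 ↔ g = 1 ∨ g = -1 := by
  rw [← mem_center_iff']
  exact QuotientGroup.eq_one_iff g

theorem neg_mul' (g h : SpecialLinearGroup (Fin 2) F) : -g * h = -(g * h) := by
  rw [neg_eq_neg_one_mul g, neg_eq_neg_one_mul (g * h), mul_assoc]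

theorem mul_neg' (g h : SpecialLinearGroup (Fin 2) F) : g * -h = -(g * h) := by
  rw [neg_eq_neg_one_mul h, neg_eq_neg_one_mul (g * h), ← mul_assoc, ← neg_one_comm g, mul_assoc]

theorem pmk_eq_iff {g h : SpecialLinearGroup (Fin 2) F} : pmk g = pmk h ↔ g = h ∨ g = -h := by
  have : pmk g = pmk h ↔ pmk (h⁻¹ * g) = 1 := by
    change (QuotientGroup.mk g : ProjectiveSpecialLinearGroup (Fin 2) F) = QuotientGroup.mk h ↔
      (QuotientGroup.mk (h⁻¹ * g) : ProjectiveSpecialLinearGroup (Fin 2) F) = 1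
    rw [QuotientGroup.mk_mul, QuotientGroup.mk_inv, inv_mul_eq_one, eq_comm]
  rw [this, pmk_eq_one_iff]
  constructor
  · rintro (h1 | h1)
    · left
      have : g = h * (h⁻¹ * g) := by group
      rw [this, h1, mul_one]
    · right
      have : g = h * (h⁻¹ * g) := by group
      rw [this, h1, mul_neg', mul_one]
  · rintro (rfl | rfl)
    · left; group
    · right
      rw [mul_neg', inv_mul_cancel]

theorem pmk_neg (g : SpecialLinearGroup (Fin 2) F) : pmk (-g) = pmk g :=
  pmk_eq_iff.mpr (Or.inr rfl)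

theorem pmk_pow (g : SpecialLinearGroup (Fin 2) F) (k : ℕ) : pmk g ^ k = pmk (g ^ k) := rfl

theorem pmk_mul (g h : SpecialLinearGroup (Fin 2) F) : pmk g * pmk h = pmk (g * h) := rfl

theorem pmk_inv (g : SpecialLinearGroup (Fin 2) F) : (pmk g)⁻¹ = pmk g⁻¹ := rfl

theorem orderOf_pmk_dvd_iff {g : SpecialLinearGroup (Fin 2) F} {k : ℕ} :
    orderOf (pmk g) ∣ k ↔ g ^ k = 1 ∨ g ^ k = -1 := by
  rw [orderOf_dvd_iff_pow_eq_one, pmk_pow, pmk_eq_one_iff]

theorem isConj_pmk {g h : SpecialLinearGroup (Fin 2) F} (hc : IsConj g h) : IsConj (pmk g) (pmk h) := by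
  obtain ⟨c, hc⟩ := isConj_iff.mp hc
  rw [isConj_iff]
  exact ⟨pmk c, by rw [← hc]; rfl⟩

end Cfsg.Agent.Helper8.SL2C
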