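import Mathlib
import Cfsg.Agent.Helper8.PSL2Basic

set_option autoImplicit false

/-!
Classification of the elements of `SL₂` over a finite field and the orders of their centralisers.
-/

namespace Cfsg.Agent.Helper8.SL2C

open Matrix Cfsg.Agent.Helper7.SL2
open scoped Matrix

variable {F : Type*} [Field F]

theorem isConj_tor_of_mem_B {b : SpecialLinearGroup (Fin 2) F} (hb : b ∈ B F)
    (hne : (b : Matrix (Fin 2) (Fin 2) F) 0 0 ≠ (b : Matrix (Fin 2) (Fin 2) F) 1 1) :
    ∃ a : Fˣ, (a : F) = (b : Matrix (Fin 2) (Fin 2) F) 0 0 ∧ IsConj b (tor a) := by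
  have hd := diag_of_mem_B hb
  have h0 : (b : Matrix (Fin 2) (Fin 2) F) 0 0 ≠ 0 := by
    intro h0; rw [h0, zero_mul] at hd; exact zero_ne_one hd
  have hne' : (b : Matrix (Fin 2) (Fin 2) F) 0 0 - (b : Matrix (Fin 2) (Fin 2) F) 1 1 ≠ 0 :=
    sub_ne_zero.mpr hne
  refine ⟨Units.mk0 _ h0, rfl, ?_⟩
  rw [isConj_iff]
  refine ⟨up ((b : Matrix (Fin 2) (Fin 2) F) 0 1 /
    ((b : Matrix (Fin 2) (Fin 2) F) 0 0 - (b : Matrix (Fin 2) (Fin 2) F) 1 1)), ?_⟩
  obtain ⟨i00, i01, i10, i11⟩ := coe_inv_apply (up ((b : Matrix (Fin 2) (Fin 2) F) 0 1 /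
    ((b : Matrix (Fin 2) (Fin 2) F) 0 0 - (b : Matrix (Fin 2) (Fin 2) F) 1 1)))
  have hb10 := mem_B.mp hb
  apply ext'
  · simp only [coe_mul_apply, i00, i10, up_00, up_01, up_10, up_11, hb10, tor_00, Units.val_mk0]
    ring
  · simp only [coe_mul_apply, i01, i11, up_00, up_01, up_10, up_11, hb10, tor_01]
    field_simp
    ring
  · simp only [coe_mul_apply, i00, i10, up_00, up_01, up_10, up_11, hb10, tor_10]
    ring
  · simp only [coe_mul_apply, i01, i11, up_00, up_01, up_10, up_11, hb10, tor_11,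
      Units.val_inv_eq_inv_val, Units.val_mk0]
    rw [eq_inv_of_mul_eq_one_right hd]
    ring

/-- the classification of elements of `SL₂`. -/
theorem classify (g : SpecialLinearGroup (Fin 2) F) :
    IsEll g ∨ (∃ a : Fˣ, (a : F) ^ 2 ≠ 1 ∧ IsConj g (tor a)) ∨ (∃ β : F, IsConj g (up β)) ∨
      (∃ β : F, IsConj g (-up β)) := by
  by_cases hg : IsEll g
  · exact Or.inl hg
  · right
    obtain ⟨P, hP⟩ := exists_conj_mem_B hg
    have hconj : IsConj g (P⁻¹ * g * P) := by
      rw [isConj_iff]
      exact ⟨P⁻¹, by rw [inv_inv]⟩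
    have hd := diag_of_mem_B hP
    by_cases hne : (P⁻¹ * g * P : SpecialLinearGroup (Fin 2) F).1 0 0 =
        (P⁻¹ * g * P : SpecialLinearGroup (Fin 2) F).1 1 1
    · right
      rw [← hne] at hd
      have h3 : ((P⁻¹ * g * P : SpecialLinearGroup (Fin 2) F).1 0 0 - 1) *
          ((P⁻¹ * g * P : SpecialLinearGroup (Fin 2) F).1 0 0 + 1) = 0 := by
        linear_combination hd
      rcases mul_eq_zero.mp h3 with h | h
      · left
        have := up_of_mem_B hP (by linear_combination h)
        exact ⟨_, by rw [← this]; exact hconj⟩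
      · right
        have := neg_up_of_mem_B hP (by linear_combination h)
        exact ⟨_, by rw [← this]; exact hconj⟩
    · left
      obtain ⟨a, ha, hc⟩ := isConj_tor_of_mem_B hP hne
      refine ⟨a, ?_, hconj.trans hc⟩
      intro h1
      apply hne
      rw [ha] at h1
      have h0 : (P⁻¹ * g * P : SpecialLinearGroup (Fin 2) F).1 0 0 ≠ 0 := by
        intro h0; rw [h0, zero_mul] at hd; exact zero_ne_one hd
      apply mul_left_cancel₀ h0
      rw [hd, ← sq, h1]

theorem card_centralizer_eq_of_isConj {G : Type*} [Group G] [Finite G] {g h : G} (hc : IsConj g h) :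
    Nat.card (Subgroup.centralizer ({g} : Set G)) = Nat.card (Subgroup.centralizer ({h} : Set G)) := by
  have h1 := Subgroup.card_mul_index (Subgroup.centralizer ({g} : Set G))
  have h2 := Subgroup.card_mul_index (Subgroup.centralizer ({h} : Set G))
  rw [Cfsg.Agent.Helper4.index_centralizer_eq_card_carrier] at h1 h2
  rw [ConjClasses.mk_eq_mk_iff_isConj.mpr hc] at h1
  have hpos : 0 < Nat.card (ConjClasses.mk h).carrier := by
    have : Nat.card (ConjClasses.mk h).carrier ≠ 0 := by
      intro h0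
      rw [h0, mul_zero] at h2
      exact Nat.card_pos.ne' h2.symm
    omega
  exact Nat.eq_of_mul_eq_mul_right hpos (h1.trans h2.symm)

theorem centralizer_neg (g : SpecialLinearGroup (Fin 2) F) :
    Subgroup.centralizer ({-g} : Set (SpecialLinearGroup (Fin 2) F)) =
      Subgroup.centralizer ({g} : Set (SpecialLinearGroup (Fin 2) F)) := by
  ext h
  rw [Subgroup.mem_centralizer_singleton_iff, Subgroup.mem_centralizer_singleton_iff, mul_neg', neg_mul']
  constructor
  · intro e
    have := congrArg (fun x => -x) e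
    simpa using this
  · intro e
    rw [e]

theorem tr_tor (a : Fˣ) : tr (tor a) = (a : F) + ((a⁻¹ : Fˣ) : F) := by
  unfold tr
  rw [tor_00, tor_11]

theorem card_centralizer_tor [Fintype F] {a : Fˣ} (ha : (a : F) ^ 2 ≠ 1) :
    Nat.card (Subgroup.centralizer ({tor a} : Set (SpecialLinearGroup (Fin 2) F))) =
      Fintype.card F - 1 := by
  rw [centralizer_diag (tor_mem_D a) (by rw [tor_00]; exact ha), card_D]

theorem card_centralizer_of_ell [Fintype F] {g : SpecialLinearGroup (Fin 2) F} (hg : IsEll g) :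
    Nat.card (Subgroup.centralizer ({g} : Set (SpecialLinearGroup (Fin 2) F))) =
      Fintype.card F + 1 := by
  rw [card_centralizer_eq_of_isConj (isConj_comp_of_ell hg), centralizer_comp,
    card_Tc (isEll_iff_ellt.mp hg)]

theorem pow_card_add_one_of_ell [Fintype F] {g : SpecialLinearGroup (Fin 2) F} (hg : IsEll g) :
    g ^ (Fintype.card F + 1) = 1 := by
  have hmem : g ∈ Subgroup.centralizer ({g} : Set (SpecialLinearGroup (Fin 2) F)) :=
    Subgroup.mem_centralizer_singleton_iff.mpr rfl
  have := pow_card_eq_one' (G := Subgroup.centralizer ({g} : Set (SpecialLinearGroup (Fin 2) F)))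
    (x := ⟨g, hmem⟩)
  rw [card_centralizer_of_ell hg] at this
  exact congrArg Subtype.val this

theorem tor_pow (a : Fˣ) (k : ℕ) : tor a ^ k = tor (a ^ k) := (map_pow (torusHom F) a k).symm

theorem tor_one : tor (1 : Fˣ) = 1 := map_one (torusHom F)

theorem pow_card_sub_one_tor [Fintype F] (a : Fˣ) : tor a ^ (Fintype.card F - 1) = 1 := by
  rw [tor_pow]
  have : a ^ (Fintype.card F - 1) = 1 := by
    apply Units.ext
    rw [Units.val_pow_eq_pow_val, Units.val_one]
    exact FiniteField.pow_card_sub_one_eq_one _ a.ne_zero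
  rw [this, tor_one]

end Cfsg.Agent.Helper8.SL2C
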