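import Mathlib
import Cfsg.Agent.Helper8.SL2Cent

set_option autoImplicit false

/-!
Centralisers in `PSL₂(F)`, computed in `SL₂(F)`.
-/

namespace Cfsg.Agent.Helper8.SL2C

open Matrix Cfsg.Agent.Helper7.SL2
open scoped Matrix

variable {F : Type*} [Field F]

/-- the preimage in `SL₂` of the centraliser of the image of `g` in `PSL₂`. -/
def Cstar (g : SpecialLinearGroup (Fin 2) F) : Subgroup (SpecialLinearGroup (Fin 2) F) :=
  (Subgroup.centralizer ({pmk g} : Set (ProjectiveSpecialLinearGroup (Fin 2) F))).comap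
    (QuotientGroup.mk' (Subgroup.center (SpecialLinearGroup (Fin 2) F)))

theorem index_centralizer_pmk (g : SpecialLinearGroup (Fin 2) F) :
    (Subgroup.centralizer ({pmk g} : Set (ProjectiveSpecialLinearGroup (Fin 2) F))).index =
      (Cstar g).index := by
  unfold Cstar
  rw [Subgroup.index_comap_of_surjective]
  exact QuotientGroup.mk'_surjective _

theorem mem_Cstar {g h : SpecialLinearGroup (Fin 2) F} :
    h ∈ Cstar g ↔ h * g = g * h ∨ h * g = -(g * h) := by
  unfold Cstar
  rw [Subgroup.mem_comap, Subgroup.mem_centralizer_singleton_iff]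
  change pmk h * pmk g = pmk g * pmk h ↔ _
  rw [pmk_mul, pmk_mul, pmk_eq_iff]

theorem centralizer_le_Cstar (g : SpecialLinearGroup (Fin 2) F) :
    Subgroup.centralizer ({g} : Set (SpecialLinearGroup (Fin 2) F)) ≤ Cstar g := by
  intro h hh
  rw [Subgroup.mem_centralizer_singleton_iff] at hh
  exact mem_Cstar.mpr (Or.inl hh)

theorem neg_one_eq_one_of_char_two (h2 : (2 : F) = 0) :
    (-1 : SpecialLinearGroup (Fin 2) F) = 1 := by
  apply ext'
  · rw [neg_apply, one_00]; linear_combination -h2
  · rw [neg_apply, one_01, neg_zero]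
  · rw [neg_apply, one_10, neg_zero]
  · rw [neg_apply, one_11]; linear_combination -h2

theorem neg_eq_self_of_char_two (h2 : (2 : F) = 0) (g : SpecialLinearGroup (Fin 2) F) : -g = g := by
  rw [neg_eq_neg_one_mul, neg_one_eq_one_of_char_two h2, one_mul]

theorem Cstar_eq_of_char_two (h2 : (2 : F) = 0) (g : SpecialLinearGroup (Fin 2) F) :
    Cstar g = Subgroup.centralizer ({g} : Set (SpecialLinearGroup (Fin 2) F)) := by
  ext h
  rw [mem_Cstar, Subgroup.mem_centralizer_singleton_iff, neg_eq_self_of_char_two h2, or_self]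

theorem neg_ne_self (h2 : (2 : F) ≠ 0) (g : SpecialLinearGroup (Fin 2) F) : -g ≠ g := by
  intro h
  apply neg_one_ne_one h2
  have : (-1 : SpecialLinearGroup (Fin 2) F) * g = 1 * g := by
    rw [← neg_eq_neg_one_mul, h, one_mul]
  exact mul_right_cancel this

theorem Cstar_eq_of_tr_ne (h2 : (2 : F) ≠ 0) {g : SpecialLinearGroup (Fin 2) F} (ht : tr g ≠ 0) :
    Cstar g = Subgroup.centralizer ({g} : Set (SpecialLinearGroup (Fin 2) F)) := by
  ext h
  rw [mem_Cstar, Subgroup.mem_centralizer_singleton_iff]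
  constructor
  · rintro (e | e)
    · exact e
    · exfalso
      apply ht
      have e' : h * g * h⁻¹ = -g := by
        rw [e, neg_mul', mul_assoc, mul_inv_cancel, mul_one]
      have := tr_conj h g
      rw [e', tr_neg] at this
      have h3 : (2 : F) * tr g = 0 := by linear_combination -this
      exact (mul_eq_zero.mp h3).resolve_left h2
  · intro e
    exact Or.inl e

theorem card_Cstar_of_tr_eq [Fintype F] (h2 : (2 : F) ≠ 0) {g : SpecialLinearGroup (Fin 2) F}
    (ht : tr g = 0) :
    Nat.card (Cstar g) = 2 * Nat.card (Subgroup.centralizer ({g} : Set (SpecialLinearGroup (Fin 2) F))) := by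
  have hsq : tr g ^ 2 ≠ 4 := by
    rw [ht]
    intro h
    have : (2 : F) * 2 = 0 := by linear_combination -h
    rcases mul_eq_zero.mp this with h | h <;> exact h2 h
  have hsq' : tr (-g) ^ 2 ≠ 4 := by rw [tr_neg, ht, neg_zero]; rw [ht] at hsq; exact hsq
  have hc1 := isConj_comp_of_tr_sq_ne hsq
  have hc2 := isConj_comp_of_tr_sq_ne hsq'
  rw [tr_neg, ht, neg_zero] at hc2
  rw [ht] at hc1
  obtain ⟨c, hc⟩ := isConj_iff.mp (hc1.trans hc2.symm)
  have hcg : c * g = -(g * c) := by
    have : c * g = (c * g * c⁻¹) * c := by group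
    rw [this, hc, neg_mul']
  have hidx : ((Subgroup.centralizer ({g} : Set (SpecialLinearGroup (Fin 2) F))).subgroupOf
      (Cstar g)).index = 2 := by
    rw [Subgroup.index_eq_two_iff]
    refine ⟨⟨c, mem_Cstar.mpr (Or.inr hcg)⟩, ?_⟩
    rintro ⟨b, hb⟩
    rw [Subgroup.mem_subgroupOf, Subgroup.mem_subgroupOf]
    change Xor' (b * c ∈ Subgroup.centralizer ({g} : Set (SpecialLinearGroup (Fin 2) F)))
      (b ∈ Subgroup.centralizer ({g} : Set (SpecialLinearGroup (Fin 2) F)))
    rw [Subgroup.mem_centralizer_singleton_iff, Subgroup.mem_centralizer_singleton_iff]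
    rcases mem_Cstar.mp hb with e | e
    · right
      refine ⟨e, ?_⟩
      intro e'
      have h1 : b * c * g = -(g * (b * c)) := by
        rw [mul_assoc, hcg, mul_neg', ← mul_assoc, e, mul_assoc]
      rw [e'] at h1
      exact neg_ne_self h2 _ h1.symm
    · left
      refine ⟨?_, ?_⟩
      · rw [mul_assoc, hcg, mul_neg', ← mul_assoc, e, neg_mul', neg_neg, mul_assoc]
      · intro e'
        rw [e'] at e
        exact neg_ne_self h2 _ e.symm
  rw [← Subgroup.card_mul_index ((Subgroup.centralizer ({g} : Set (SpecialLinearGroup (Fin 2) F))).subgroupOf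
      (Cstar g)), hidx,
    Nat.card_congr (Subgroup.subgroupOfEquivOfLe (centralizer_le_Cstar g)).toEquiv, mul_comm]

theorem index_of_card [Fintype F] {H : Subgroup (SpecialLinearGroup (Fin 2) F)} {c n : ℕ}
    (hc : Nat.card H = c) (hn : c * n = Fintype.card F * (Fintype.card F ^ 2 - 1)) : H.index = n := by
  have h := Subgroup.card_mul_index H
  rw [hc, card_SL2, ← hn] at h
  have hc0 : 0 < c := by rw [← hc]; exact Nat.card_pos
  exact Nat.eq_of_mul_eq_mul_left hc0 h

end Cfsg.Agent.Helper8.SL2C
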