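import Mathlib

set_option autoImplicit false

/-!
Arithmetic of the class equation of a group partitioned by subgroups with small normaliser
quotients (used for Dickson's classification of the subgroups of `PSL₂(q)`).
-/

namespace Cfsg.Agent.Helper8.Dk

/-- Three classes with normaliser index two, the first of order two. -/
theorem three_aux (a₂ a₃ c₁ c₂ c₃ : ℕ) (h2 : 2 ≤ a₂) (h3 : 2 ≤ a₃)
    (e2 : 2 * c₁ = a₂ * c₂) (e3 : 2 * c₁ = a₃ * c₃) (hs : c₁ + 1 = c₂ + c₃) (hc1 : 1 ≤ c₁) :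
    c₂ = 1 ∨ c₃ = 1 ∨ (a₂ = 3 ∧ a₃ = 3 ∧ c₁ = 3) ∨ (a₂ = 3 ∧ a₃ = 4 ∧ c₁ = 6) ∨
      (a₂ = 4 ∧ a₃ = 3 ∧ c₁ = 6) ∨ (a₂ = 3 ∧ a₃ = 5 ∧ c₁ = 15) ∨ (a₂ = 5 ∧ a₃ = 3 ∧ c₁ = 15) := by
  rcases Nat.eq_or_lt_of_le h2 with h | h2'
  · subst h
    right; left; omega
  rcases Nat.eq_or_lt_of_le h3 with h | h3'
  · subst h
    left; omega
  by_cases h23 : a₂ = 3
  · subst h23
    have hb : a₃ * (c₁ + 3) = 6 * c₁ := by
      have : a₃ * (3 * c₃) = 6 * c₁ := by nlinarith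
      have h3c : 3 * c₃ = c₁ + 3 := by omega
      rw [h3c] at this
      exact this
    have ha3 : a₃ < 6 := by
      by_contra hge
      push Not at hge
      nlinarith
    interval_cases a₃ <;> omega
  by_cases h33 : a₃ = 3
  · subst h33
    have hb : a₂ * (c₁ + 3) = 6 * c₁ := by
      have : a₂ * (3 * c₂) = 6 * c₁ := by nlinarith
      have h3c : 3 * c₂ = c₁ + 3 := by omega
      rw [h3c] at this
      exact this
    have ha2 : a₂ < 6 := by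
      by_contra hge
      push Not at hge
      nlinarith
    interval_cases a₂ <;> omega
  · exfalso
    have h4 : 4 ≤ a₂ := by omega
    have h4' : 4 ≤ a₃ := by omega
    have : 4 * c₂ ≤ 2 * c₁ := by nlinarith
    have : 4 * c₃ ≤ 2 * c₁ := by nlinarith
    omega

/-- Three classes with normaliser index two. -/
theorem three_classes (g a₁ a₂ a₃ c₁ c₂ c₃ : ℕ) (h1 : 2 ≤ a₁) (h2 : 2 ≤ a₂) (h3 : 2 ≤ a₃)
    (e1 : a₁ * 2 * c₁ = g) (e2 : a₂ * 2 * c₂ = g) (e3 : a₃ * 2 * c₃ = g) (hg : 1 ≤ g)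
    (hs : c₁ * (a₁ - 1) + c₂ * (a₂ - 1) + c₃ * (a₃ - 1) = g - 1) :
    c₁ = 1 ∨ c₂ = 1 ∨ c₃ = 1 ∨
      (g = 12 ∧ ((a₁ = 2 ∧ a₂ = 3 ∧ a₃ = 3) ∨ (a₁ = 3 ∧ a₂ = 2 ∧ a₃ = 3) ∨ (a₁ = 3 ∧ a₂ = 3 ∧ a₃ = 2))) ∨
      (g = 24 ∧ ((a₁ = 2 ∧ a₂ = 3 ∧ a₃ = 4) ∨ (a₁ = 2 ∧ a₂ = 4 ∧ a₃ = 3) ∨ (a₁ = 3 ∧ a₂ = 2 ∧ a₃ = 4) ∨
        (a₁ = 4 ∧ a₂ = 2 ∧ a₃ = 3) ∨ (a₁ = 3 ∧ a₂ = 4 ∧ a₃ = 2) ∨ (a₁ = 4 ∧ a₂ = 3 ∧ a₃ = 2))) ∨
      (g = 60 ∧ ((a₁ = 2 ∧ a₂ = 3 ∧ a₃ = 5) ∨ (a₁ = 2 ∧ a₂ = 5 ∧ a₃ = 3) ∨ (a₁ = 3 ∧ a₂ = 2 ∧ a₃ = 5) ∨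
        (a₁ = 5 ∧ a₂ = 2 ∧ a₃ = 3) ∨ (a₁ = 3 ∧ a₂ = 5 ∧ a₃ = 2) ∨ (a₁ = 5 ∧ a₂ = 3 ∧ a₃ = 2))) := by
  have hc1 : 1 ≤ c₁ := by
    rcases Nat.eq_zero_or_pos c₁ with h | h
    · subst h; omega
    · exact h
  have hc2 : 1 ≤ c₂ := by
    rcases Nat.eq_zero_or_pos c₂ with h | h
    · subst h; omega
    · exact h
  have hc3 : 1 ≤ c₃ := by
    rcases Nat.eq_zero_or_pos c₃ with h | h
    · subst h; omega
    · exact h
  -- rewrite the sum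
  have w1 : c₁ * (a₁ - 1) = a₁ * c₁ - c₁ := by
    rw [Nat.mul_sub, mul_one, mul_comm]
  have w2 : c₂ * (a₂ - 1) = a₂ * c₂ - c₂ := by
    rw [Nat.mul_sub, mul_one, mul_comm]
  have w3 : c₃ * (a₃ - 1) = a₃ * c₃ - c₃ := by
    rw [Nat.mul_sub, mul_one, mul_comm]
  have l1 : c₁ ≤ a₁ * c₁ := Nat.le_mul_of_pos_left _ (by omega)
  have l2 : c₂ ≤ a₂ * c₂ := Nat.le_mul_of_pos_left _ (by omega)
  have l3 : c₃ ≤ a₃ * c₃ := Nat.le_mul_of_pos_left _ (by omega)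
  have g1 : 2 * (a₁ * c₁) = g := by rw [← e1]; ring
  have g2 : 2 * (a₂ * c₂) = g := by rw [← e2]; ring
  have g3 : 2 * (a₃ * c₃) = g := by rw [← e3]; ring
  rw [w1, w2, w3] at hs
  -- g + 2 = 2 (c₁ + c₂ + c₃)
  have key : a₁ * c₁ + 1 = c₁ + c₂ + c₃ := by omega
  by_cases ha1 : a₁ = 2
  · subst ha1
    have := three_aux a₂ a₃ c₁ c₂ c₃ h2 h3 (by omega) (by omega) (by omega) hc1
    rcases this with h | h | ⟨h, h', h''⟩ | ⟨h, h', h''⟩ | ⟨h, h', h''⟩ | ⟨h, h', h''⟩ | ⟨h, h', h''⟩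
    · right; left; exact h
    · right; right; left; exact h
    · subst h h' h''; right; right; right; left; exact ⟨by omega, Or.inl ⟨rfl, rfl, rfl⟩⟩
    · subst h h' h''; right; right; right; right; left; exact ⟨by omega, Or.inl ⟨rfl, rfl, rfl⟩⟩
    · subst h h' h''; right; right; right; right; left; exact ⟨by omega, Or.inr (Or.inl ⟨rfl, rfl, rfl⟩)⟩
    · subst h h' h''; right; right; right; right; right; exact ⟨by omega, Or.inl ⟨rfl, rfl, rfl⟩⟩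
    · subst h h' h''; right; right; right; right; right; exact ⟨by omega, Or.inr (Or.inl ⟨rfl, rfl, rfl⟩)⟩
  by_cases ha2 : a₂ = 2
  · subst ha2
    have := three_aux a₁ a₃ c₂ c₁ c₃ h1 h3 (by omega) (by omega) (by omega) hc2
    rcases this with h | h | ⟨h, h', h''⟩ | ⟨h, h', h''⟩ | ⟨h, h', h''⟩ | ⟨h, h', h''⟩ | ⟨h, h', h''⟩
    · left; exact h
    · right; right; left; exact h
    · subst h h' h''; right; right; right; left; exact ⟨by omega, Or.inr (Or.inl ⟨rfl, rfl, rfl⟩)⟩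
    · subst h h' h''; right; right; right; right; left
      exact ⟨by omega, Or.inr (Or.inr (Or.inl ⟨rfl, rfl, rfl⟩))⟩
    · subst h h' h''; right; right; right; right; left
      exact ⟨by omega, Or.inr (Or.inr (Or.inr (Or.inl ⟨rfl, rfl, rfl⟩)))⟩
    · subst h h' h''; right; right; right; right; right
      exact ⟨by omega, Or.inr (Or.inr (Or.inl ⟨rfl, rfl, rfl⟩))⟩
    · subst h h' h''; right; right; right; right; right
      exact ⟨by omega, Or.inr (Or.inr (Or.inr (Or.inl ⟨rfl, rfl, rfl⟩)))⟩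
  by_cases ha3 : a₃ = 2
  · subst ha3
    have := three_aux a₁ a₂ c₃ c₁ c₂ h1 h2 (by omega) (by omega) (by omega) hc3
    rcases this with h | h | ⟨h, h', h''⟩ | ⟨h, h', h''⟩ | ⟨h, h', h''⟩ | ⟨h, h', h''⟩ | ⟨h, h', h''⟩
    · left; exact h
    · right; left; exact h
    · subst h h' h''; right; right; right; left; exact ⟨by omega, Or.inr (Or.inr ⟨rfl, rfl, rfl⟩)⟩
    · subst h h' h''; right; right; right; right; left
      exact ⟨by omega, Or.inr (Or.inr (Or.inr (Or.inr (Or.inl ⟨rfl, rfl, rfl⟩))))⟩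
    · subst h h' h''; right; right; right; right; left
      exact ⟨by omega, Or.inr (Or.inr (Or.inr (Or.inr (Or.inr ⟨rfl, rfl, rfl⟩))))⟩
    · subst h h' h''; right; right; right; right; right
      exact ⟨by omega, Or.inr (Or.inr (Or.inr (Or.inr (Or.inl ⟨rfl, rfl, rfl⟩))))⟩
    · subst h h' h''; right; right; right; right; right
      exact ⟨by omega, Or.inr (Or.inr (Or.inr (Or.inr (Or.inr ⟨rfl, rfl, rfl⟩))))⟩
  · exfalso
    have h1' : 3 ≤ a₁ := by omega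
    have h2' : 3 ≤ a₂ := by omega
    have h3' : 3 ≤ a₃ := by omega
    have : 3 * c₁ ≤ a₁ * c₁ := Nat.mul_le_mul_right _ h1'
    have : 3 * c₂ ≤ a₂ * c₂ := Nat.mul_le_mul_right _ h2'
    have : 3 * c₃ ≤ a₃ * c₃ := Nat.mul_le_mul_right _ h3'
    omega

/-- One self-normalising class and one class with normaliser index two. -/
theorem two_classes (g b a₁ c₀ c₁ : ℕ) (hb : 2 ≤ b) (h1 : 2 ≤ a₁)
    (e0 : b * 1 * c₀ = g) (e1 : a₁ * 2 * c₁ = g) (hg : 1 ≤ g)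
    (hs : c₀ * (b - 1) + c₁ * (a₁ - 1) = g - 1) :
    c₁ = 1 ∨ (g = 12 ∧ b = 3 ∧ a₁ = 2) := by
  have hc0 : 1 ≤ c₀ := by
    rcases Nat.eq_zero_or_pos c₀ with h | h
    · subst h; omega
    · exact h
  have hc1 : 1 ≤ c₁ := by
    rcases Nat.eq_zero_or_pos c₁ with h | h
    · subst h; omega
    · exact h
  have w0 : c₀ * (b - 1) = b * c₀ - c₀ := by rw [Nat.mul_sub, mul_one, mul_comm]
  have w1 : c₁ * (a₁ - 1) = a₁ * c₁ - c₁ := by rw [Nat.mul_sub, mul_one, mul_comm]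
  have l0 : c₀ ≤ b * c₀ := Nat.le_mul_of_pos_left _ (by omega)
  have l1 : c₁ ≤ a₁ * c₁ := Nat.le_mul_of_pos_left _ (by omega)
  have g0 : b * c₀ = g := by rw [← e0]; ring
  have g1 : 2 * (a₁ * c₁) = g := by rw [← e1]; ring
  rw [w0, w1] at hs
  have key : a₁ * c₁ + 1 = c₀ + c₁ := by omega
  rcases Nat.eq_or_lt_of_le hb with h | hb'
  · subst h
    left
    omega
  have hb3 : b = 3 := by
    by_contra hne
    have h4 : 4 ≤ b := by omega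
    have : 4 * c₀ ≤ b * c₀ := Nat.mul_le_mul_right _ h4
    have : 2 * c₁ ≤ a₁ * c₁ := Nat.mul_le_mul_right _ h1
    omega
  subst hb3
  have ha : a₁ = 2 := by
    by_contra hne
    have h3 : 3 ≤ a₁ := by omega
    have : 3 * c₁ ≤ a₁ * c₁ := Nat.mul_le_mul_right _ h3
    omega
  subst ha
  right
  omega

end Cfsg.Agent.Helper8.Dk
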