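import Mathlib
import Cfsg.Agent.Helper8.DkArithA

set_option autoImplicit false

/-!
The class equation with all normaliser quotients of order at most two.
-/

namespace Cfsg.Agent.Helper8.Dk

open Finset

section

variable {ι : Type*} [Fintype ι] [DecidableEq ι]

theorem weight_bound (g a n c : ℕ) (ha : 2 ≤ a) (hn : n = 1 ∨ n = 2) (hanc : a * n * c = g) :
    g ≤ 4 * (c * (a - 1)) := by
  have w : c * (a - 1) = a * c - c := by rw [Nat.mul_sub, mul_one, mul_comm]
  have l : 2 * c ≤ a * c := Nat.mul_le_mul_right _ ha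
  rw [w]
  rcases hn with h | h
  · subst h
    have : a * c = g := by rw [← hanc]; ring
    omega
  · subst h
    have : 2 * (a * c) = g := by rw [← hanc]; ring
    omega

theorem weight_bound_one (g a c : ℕ) (ha : 2 ≤ a) (hanc : a * 1 * c = g) :
    g ≤ 2 * (c * (a - 1)) := by
  have w : c * (a - 1) = a * c - c := by rw [Nat.mul_sub, mul_one, mul_comm]
  have l : 2 * c ≤ a * c := Nat.mul_le_mul_right _ ha
  rw [w]
  have : a * c = g := by rw [← hanc]; ring
  omega

/-- The class equation when every normaliser quotient has order `1` or `2`. -/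
theorem arithA (g : ℕ) (a n c : ι → ℕ)
    (ha : ∀ i, 2 ≤ a i) (hn : ∀ i, n i = 1 ∨ n i = 2) (hanc : ∀ i, a i * n i * c i = g)
    (hsum : ∑ i, c i * (a i - 1) = g - 1) (hg : 1 ≤ g) :
    g = 1 ∨ (∃ i, c i = 1) ∨ (g = 12 ∧ ∃ i, a i = 3 ∧ n i = 1) ∨
      (g = 12 ∧ ∃ i j, i ≠ j ∧ a i = 3 ∧ a j = 3) ∨
      (g = 24 ∧ ∃ i j k, (univ : Finset ι) = {i, j, k} ∧ i ≠ j ∧ i ≠ k ∧ j ≠ k ∧
        a i = 2 ∧ a j = 3 ∧ a k = 4 ∧ n i = 2 ∧ n j = 2 ∧ n k = 2) ∨
      (g = 60 ∧ ∃ i j k, (univ : Finset ι) = {i, j, k} ∧ i ≠ j ∧ i ≠ k ∧ j ≠ k ∧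
        a i = 2 ∧ a j = 3 ∧ a k = 5 ∧ n i = 2 ∧ n j = 2 ∧ n k = 2) := by
  have hW : ∀ i, g ≤ 4 * (c i * (a i - 1)) := fun i =>
    weight_bound g (a i) (n i) (c i) (ha i) (hn i) (hanc i)
  have hcard : Fintype.card ι * g ≤ 4 * (g - 1) := by
    have h1 : (univ : Finset ι).card • g ≤ ∑ i, 4 * (c i * (a i - 1)) :=
      Finset.card_nsmul_le_sum _ _ _ (fun i _ => hW i)
    rw [← Finset.mul_sum, hsum, smul_eq_mul, Finset.card_univ] at h1
    exact h1
  have hc3 : Fintype.card ι ≤ 3 := by
    by_contra h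
    push Not at h
    have : 4 * g ≤ Fintype.card ι * g := Nat.mul_le_mul_right _ h
    omega
  have hcpos : ∀ i, 1 ≤ c i := by
    intro i
    rcases Nat.eq_zero_or_pos (c i) with h | h
    · have := hanc i
      rw [h, mul_zero] at this
      omega
    · exact h
  rcases Nat.lt_or_ge (Fintype.card ι) 1 with h0 | h1
  · -- no classes
    left
    have : IsEmpty ι := Fintype.card_eq_zero_iff.mp (by omega)
    rw [Finset.univ_eq_empty, Finset.sum_empty] at hsum
    omega
  rcases Nat.lt_or_ge (Fintype.card ι) 2 with h1' | h2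
  · -- one class
    have hc1 : Fintype.card ι = 1 := by omega
    obtain ⟨x, hx⟩ := Fintype.card_eq_one_iff.mp hc1
    have huniv : (univ : Finset ι) = {x} := by
      ext y; simp [hx y]
    rw [huniv, Finset.sum_singleton] at hsum
    right; left
    refine ⟨x, ?_⟩
    have w : c x * (a x - 1) = a x * c x - c x := by rw [Nat.mul_sub, mul_one, mul_comm]
    have l : 2 * c x ≤ a x * c x := Nat.mul_le_mul_right _ (ha x)
    rcases hn x with h | h
    · have : a x * c x = g := by rw [← hanc x, h]; ring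
      omega
    · exfalso
      have : 2 * (a x * c x) = g := by rw [← hanc x, h]; ring
      have := hcpos x
      omega
  rcases Nat.lt_or_ge (Fintype.card ι) 3 with h2' | h3
  · -- two classes
    have hc2 : (univ : Finset ι).card = 2 := by rw [Finset.card_univ]; omega
    obtain ⟨x, y, hxy, huniv⟩ := Finset.card_eq_two.mp hc2
    rw [huniv, Finset.sum_pair hxy] at hsum
    have wx : c x * (a x - 1) = a x * c x - c x := by rw [Nat.mul_sub, mul_one, mul_comm]
    have wy : c y * (a y - 1) = a y * c y - c y := by rw [Nat.mul_sub, mul_one, mul_comm]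
    have lx : 2 * c x ≤ a x * c x := Nat.mul_le_mul_right _ (ha x)
    have ly : 2 * c y ≤ a y * c y := Nat.mul_le_mul_right _ (ha y)
    have px := hcpos x
    have py := hcpos y
    rcases hn x with hx | hx <;> rcases hn y with hy | hy
    · exfalso
      have : a x * c x = g := by rw [← hanc x, hx]; ring
      have : a y * c y = g := by rw [← hanc y, hy]; ring
      omega
    · have e0 := hanc x
      have e1 := hanc y
      rw [hx] at e0
      rw [hy] at e1
      rcases two_classes g (a x) (a y) (c x) (c y) (ha x) (ha y) e0 e1 hg hsum with h | ⟨h, h', h''⟩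
      · right; left; exact ⟨y, h⟩
      · right; right; left; exact ⟨h, x, h', hx⟩
    · have e0 := hanc y
      have e1 := hanc x
      rw [hy] at e0
      rw [hx] at e1
      rw [add_comm] at hsum
      rcases two_classes g (a y) (a x) (c y) (c x) (ha y) (ha x) e0 e1 hg hsum with h | ⟨h, h', h''⟩
      · right; left; exact ⟨x, h⟩
      · right; right; left; exact ⟨h, y, h', hy⟩
    · exfalso
      have : 2 * (a x * c x) = g := by rw [← hanc x, hx]; ring
      have : 2 * (a y * c y) = g := by rw [← hanc y, hy]; ring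
      omega
  · -- three classes
    have hc3' : (univ : Finset ι).card = 3 := by rw [Finset.card_univ]; omega
    obtain ⟨x, y, z, hxy, hxz, hyz, huniv⟩ := Finset.card_eq_three.mp hc3'
    have hsum' := hsum
    rw [huniv, Finset.sum_insert (by simp [hxy, hxz]), Finset.sum_pair hyz] at hsum'
    -- all normaliser indices are two
    have hall : ∀ i, n i = 2 := by
      intro i
      rcases hn i with h | h
      · exfalso
        have hb := weight_bound_one g (a i) (c i) (ha i) (by rw [← hanc i, h])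
        have hx' := hW x
        have hy' := hW y
        have hz' := hW z
        have hi : i = x ∨ i = y ∨ i = z := by
          have : i ∈ (univ : Finset ι) := Finset.mem_univ i
          rw [huniv] at this
          simpa using this
        rcases hi with rfl | rfl | rfl <;> omega
      · exact h
    have ex := hanc x
    have ey := hanc y
    have ez := hanc z
    rw [hall x] at ex
    rw [hall y] at ey
    rw [hall z] at ez
    rw [← add_assoc] at hsum'
    rcases three_classes g (a x) (a y) (a z) (c x) (c y) (c z) (ha x) (ha y) (ha z) ex ey ez hg hsum'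
      with h | h | h | ⟨h, h'⟩ | ⟨h, h'⟩ | ⟨h, h'⟩
    · right; left; exact ⟨x, h⟩
    · right; left; exact ⟨y, h⟩
    · right; left; exact ⟨z, h⟩
    · right; right; right; left
      refine ⟨h, ?_⟩
      rcases h' with ⟨_, h2, h3⟩ | ⟨h1, _, h3⟩ | ⟨h1, h2, _⟩
      · exact ⟨y, z, hyz, h2, h3⟩
      · exact ⟨x, z, hxz, h1, h3⟩
      · exact ⟨x, y, hxy, h1, h2⟩
    · right; right; right; right; left
      refine ⟨h, ?_⟩
      rcases h' with ⟨h1, h2, h3⟩ | ⟨h1, h2, h3⟩ | ⟨h1, h2, h3⟩ | ⟨h1, h2, h3⟩ | ⟨h1, h2, h3⟩ |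
        ⟨h1, h2, h3⟩
      · exact ⟨x, y, z, huniv, hxy, hxz, hyz, h1, h2, h3, hall x, hall y, hall z⟩
      · refine ⟨x, z, y, ?_, hxz, hxy, hyz.symm, h1, h3, h2, hall x, hall z, hall y⟩
        rw [huniv]; ext w; simp only [mem_insert, mem_singleton]; tauto
      · refine ⟨y, x, z, ?_, hxy.symm, hyz, hxz, h2, h1, h3, hall y, hall x, hall z⟩
        rw [huniv]; ext w; simp only [mem_insert, mem_singleton]; tauto
      · refine ⟨y, z, x, ?_, hyz, hxy.symm, hxz.symm, h2, h3, h1, hall y, hall z, hall x⟩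
        rw [huniv]; ext w; simp only [mem_insert, mem_singleton]; tauto
      · refine ⟨z, x, y, ?_, hxz.symm, hyz.symm, hxy, h3, h1, h2, hall z, hall x, hall y⟩
        rw [huniv]; ext w; simp only [mem_insert, mem_singleton]; tauto
      · refine ⟨z, y, x, ?_, hyz.symm, hxz.symm, hxy.symm, h3, h2, h1, hall z, hall y, hall x⟩
        rw [huniv]; ext w; simp only [mem_insert, mem_singleton]; tauto
    · right; right; right; right; right
      refine ⟨h, ?_⟩
      rcases h' with ⟨h1, h2, h3⟩ | ⟨h1, h2, h3⟩ | ⟨h1, h2, h3⟩ | ⟨h1, h2, h3⟩ | ⟨h1, h2, h3⟩ |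
        ⟨h1, h2, h3⟩
      · exact ⟨x, y, z, huniv, hxy, hxz, hyz, h1, h2, h3, hall x, hall y, hall z⟩
      · refine ⟨x, z, y, ?_, hxz, hxy, hyz.symm, h1, h3, h2, hall x, hall z, hall y⟩
        rw [huniv]; ext w; simp only [mem_insert, mem_singleton]; tauto
      · refine ⟨y, x, z, ?_, hxy.symm, hyz, hxz, h2, h1, h3, hall y, hall x, hall z⟩
        rw [huniv]; ext w; simp only [mem_insert, mem_singleton]; tauto
      · refine ⟨y, z, x, ?_, hyz, hxy.symm, hxz.symm, h2, h3, h1, hall y, hall z, hall x⟩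
        rw [huniv]; ext w; simp only [mem_insert, mem_singleton]; tauto
      · refine ⟨z, x, y, ?_, hxz.symm, hyz.symm, hxy, h3, h1, h2, hall z, hall x, hall y⟩
        rw [huniv]; ext w; simp only [mem_insert, mem_singleton]; tauto
      · refine ⟨z, y, x, ?_, hyz.symm, hxz.symm, hxy.symm, h3, h2, h1, hall z, hall y, hall x⟩
        rw [huniv]; ext w; simp only [mem_insert, mem_singleton]; tauto

end

end Cfsg.Agent.Helper8.Dk
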