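import Mathlib
import Cfsg.Agent.Helper8.DkArithB

set_option autoImplicit false

/-!
The class equation with one class (the Sylow `p`-subgroups) having a large normaliser quotient.
-/

namespace Cfsg.Agent.Helper8.Dk

open Finset

/-- The number theory of the generic case. -/
theorem nt_generic (A k C a₂ : ℕ) (hA : 4 ≤ A) (hk : 3 ≤ k) (hkA : k ∣ A - 1) (hAC : A ∣ C - 1)
    (hC : 1 ≤ C) (h : a₂ * (2 + (A - 2) * C) = A * k * C) :
    C = 1 ∨ (C = A + 1 ∧ (k = A - 1 ∨ 2 * k = A - 1)) := by
  obtain ⟨j, hj⟩ := hAC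
  have hCj : C = 1 + A * j := by omega
  rcases Nat.eq_zero_or_pos j with h0 | hjpos
  · left; rw [hCj, h0]; simp
  right
  obtain ⟨B, hB⟩ : ∃ B, A = B + 2 := ⟨A - 2, by omega⟩
  subst hB
  have hD : 2 + (B + 2 - 2) * C = (B + 2) * (1 + B * j) := by
    rw [hCj]
    simp only [Nat.add_sub_cancel]
    ring
  rw [hD] at h
  have h' : a₂ * (1 + B * j) = k * C := by
    have : (B + 2) * (a₂ * (1 + B * j)) = (B + 2) * (k * C) := by
      calc (B + 2) * (a₂ * (1 + B * j)) = a₂ * ((B + 2) * (1 + B * j)) := by ring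
        _ = (B + 2) * k * C := h
        _ = (B + 2) * (k * C) := by ring
    exact Nat.eq_of_mul_eq_mul_left (by omega) this
  set D := 1 + B * j with hDdef
  have hCD : C = D + 2 * j := by rw [hCj, hDdef]; ring
  have hdvd : D ∣ j * (2 * k) := by
    have h1 : D ∣ k * C := ⟨a₂, by rw [← h']; ring⟩
    rw [hCD, mul_add] at h1
    have h2 : D ∣ k * D := ⟨k, by ring⟩
    have h3 := (Nat.dvd_add_right h2).mp h1
    have : k * (2 * j) = j * (2 * k) := by ring
    rwa [this] at h3
  have hcop : Nat.Coprime D j := by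
    rw [hDdef, Nat.coprime_comm]
    have : Nat.Coprime j (1 + j * B) := by
      rw [Nat.coprime_add_mul_left_right]
      exact Nat.coprime_one_right j
    rwa [mul_comm] at this
  have hD2k : D ∣ 2 * k := hcop.dvd_of_dvd_mul_left hdvd
  have hkle : k ≤ B + 1 := by
    have : k ≤ B + 2 - 1 := Nat.le_of_dvd (by omega) hkA
    omega
  have hDle : D ≤ 2 * k := Nat.le_of_dvd (by omega) hD2k
  have hj2 : j ≤ 2 := by
    by_contra hgt
    push Not at hgt
    have : B * 3 ≤ B * j := Nat.mul_le_mul_left _ hgt
    omega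
  have hj12 : j = 1 ∨ j = 2 := by omega
  rcases hj12 with rfl | rfl
  · refine ⟨by omega, ?_⟩
    have hDB : D = B + 1 := by rw [hDdef]; ring
    rw [hDB] at hD2k
    have hkA' : k ∣ B + 1 := by
      have : B + 2 - 1 = B + 1 := by omega
      rwa [this] at hkA
    obtain ⟨e, he⟩ := hkA'
    rw [he] at hD2k
    have hkpos : 0 < k := by omega
    have he2 : e ∣ 2 := by
      have : k * e ∣ k * 2 := by rwa [mul_comm 2 k] at hD2k
      exact (Nat.mul_dvd_mul_iff_left hkpos).mp this
    have : e = 1 ∨ e = 2 := by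
      have := Nat.le_of_dvd (by omega) he2
      rcases Nat.eq_zero_or_pos e with h0 | hp
      · subst h0; simp at he2
      · omega
    rcases this with rfl | rfl
    · left; omega
    · right; omega
  · exfalso
    have hDB : D = 2 * B + 1 := by rw [hDdef]; ring
    have hodd : Nat.Coprime D 2 := by
      rw [hDB, Nat.coprime_comm, Nat.coprime_mul_left_add_right]
      exact Nat.coprime_one_right 2
    have hDk : D ∣ k := hodd.dvd_of_dvd_mul_left hD2k
    have := Nat.le_of_dvd (by omega) hDk
    omega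

section

variable {ι : Type*} [Fintype ι] [DecidableEq ι]

/-- The class equation with a special class `s` (the Sylow `p`-subgroups) whose normaliser
quotient has order at least three. -/
theorem arithB (g : ℕ) (a n c : ι → ℕ) (s i₁ : ι)
    (ha : ∀ i, 2 ≤ a i) (hn : ∀ i, i ≠ s → (n i = 1 ∨ n i = 2)) (hk : 3 ≤ n s)
    (hka : n s ∣ a s - 1) (hac : a s ∣ c s - 1) (hanc : ∀ i, a i * n i * c i = g)
    (hsum : ∑ i, c i * (a i - 1) = g - 1) (hi₁ : i₁ ≠ s) (hai₁ : a i₁ = n s) (hg : 1 ≤ g) :
    c s = 1 ∨ (c s = a s + 1 ∧ (n s = a s - 1 ∨ 2 * n s = a s - 1)) := by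
  have hcpos : ∀ i, 1 ≤ c i := by
    intro i
    rcases Nat.eq_zero_or_pos (c i) with h | h
    · have := hanc i
      rw [h, mul_zero] at this
      omega
    · exact h
  have hA4 : 4 ≤ a s := by
    have h1 : n s ≤ a s - 1 := Nat.le_of_dvd (by have := ha s; omega) hka
    omega
  have hW : ∀ i, i ≠ s → g ≤ 4 * (c i * (a i - 1)) := fun i hi =>
    weight_bound g (a i) (n i) (c i) (ha i) (hn i hi) (hanc i)
  -- g = A k C
  have hgs := hanc s
  have hg12 : 12 * c s ≤ g := by
    rw [← hgs]
    have : 12 ≤ a s * n s := by nlinarith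
    exact Nat.mul_le_mul_right _ this
  -- split the sum
  have hsplit : ∑ i, c i * (a i - 1) = c s * (a s - 1) + c i₁ * (a i₁ - 1) +
      ∑ i ∈ (univ.erase s).erase i₁, c i * (a i - 1) := by
    rw [← Finset.add_sum_erase univ _ (Finset.mem_univ s),
      ← Finset.add_sum_erase (univ.erase s) _ (Finset.mem_erase.mpr ⟨hi₁, Finset.mem_univ i₁⟩),
      add_assoc]
  rw [hsplit] at hsum
  set rest := ∑ i ∈ (univ.erase s).erase i₁, c i * (a i - 1) with hrest
  have hmem : ∀ i, i ∈ (univ.erase s).erase i₁ ↔ i ≠ i₁ ∧ i ≠ s := by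
    intro i; simp
  have hle : ∀ i, i ≠ i₁ → i ≠ s → c i * (a i - 1) ≤ rest := fun i h1 h2 =>
    Finset.single_le_sum (f := fun i => c i * (a i - 1)) (fun _ _ => Nat.zero_le _)
      ((hmem i).mpr ⟨h1, h2⟩)
  have ws : c s * (a s - 1) = a s * c s - c s := by rw [Nat.mul_sub, mul_one, mul_comm]
  have w1 : c i₁ * (a i₁ - 1) = a i₁ * c i₁ - c i₁ := by rw [Nat.mul_sub, mul_one, mul_comm]
  have ls : c s ≤ a s * c s := Nat.le_mul_of_pos_left _ (by omega)
  have l1 : c i₁ ≤ a i₁ * c i₁ := Nat.le_mul_of_pos_left _ (by have := ha i₁; omega)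
  have hACg : a s * c s * n s = g := by rw [← hgs]; ring
  have hAC3 : 3 * (a s * c s) ≤ g := by
    rw [← hACg, mul_comm 3]
    exact Nat.mul_le_mul_left _ hk
  have hAC4 : 4 * c s ≤ a s * c s := Nat.mul_le_mul_right _ hA4
  rcases hn i₁ hi₁ with h1 | h1
  · -- `K` self-normalising
    left
    have e1 : a i₁ * c i₁ = g := by rw [← hanc i₁, h1]; ring
    have hc1 : c i₁ = a s * c s := by
      have : n s * c i₁ = n s * (a s * c s) := by
        rw [← hai₁, e1, ← hACg, hai₁]; ring
      exact Nat.eq_of_mul_eq_mul_left (by omega) this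
    have hrest' : rest + 1 = c s := by
      rw [ws, w1, e1, hc1] at hsum
      omega
    by_contra hne
    have hrpos : 0 < rest := by have := hcpos s; omega
    obtain ⟨i, hi, hipos⟩ : ∃ i ∈ (univ.erase s).erase i₁, 0 < c i * (a i - 1) := by
      by_contra hcon
      push Not at hcon
      have : rest = 0 := Finset.sum_eq_zero (fun i hi => Nat.le_zero.mp (hcon i hi))
      omega
    obtain ⟨hi1, his⟩ := (hmem i).mp hi
    have := hle i hi1 his
    have := hW i his
    omega
  · -- `K` of index two in its normaliser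
    have e1 : 2 * (a i₁ * c i₁) = g := by rw [← hanc i₁, h1]; ring
    have hc1 : 2 * c i₁ = a s * c s := by
      have : n s * (2 * c i₁) = n s * (a s * c s) := by
        rw [← hai₁]
        calc a i₁ * (2 * c i₁) = 2 * (a i₁ * c i₁) := by ring
          _ = g := e1
          _ = a s * c s * n s := hACg.symm
          _ = a i₁ * (a s * c s) := by rw [hai₁]; ring
      exact Nat.eq_of_mul_eq_mul_left (by omega) this
    -- `2 * rest = g - 2 - A C + 2 C`
    have hrest2 : 2 * rest + 2 + a s * c s = g + 2 * c s := by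
      rw [ws, w1] at hsum
      omega
    -- no further self-normalising class
    have hno1 : ∀ i, i ≠ i₁ → i ≠ s → n i = 2 := by
      intro i hi1 his
      rcases hn i his with h | h
      · exfalso
        have hb := weight_bound_one g (a i) (c i) (ha i) (by rw [← hanc i, h])
        have := hle i hi1 his
        omega
      · exact h
    -- the remaining classes
    have hcardle : ((univ.erase s).erase i₁).card ≤ 1 := by
      by_contra hgt
      push Not at hgt
      obtain ⟨x, hx, y, hy, hxy⟩ := Finset.one_lt_card.mp hgt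
      have hx' := (hmem x).mp hx
      have hy' := (hmem y).mp hy
      have h2 : c x * (a x - 1) + c y * (a y - 1) ≤ rest := by
        have : ∑ i ∈ ({x, y} : Finset ι), c i * (a i - 1) ≤ rest := by
          apply Finset.sum_le_sum_of_subset
          intro z hz
          rw [Finset.mem_insert, Finset.mem_singleton] at hz
          rcases hz with rfl | rfl
          · exact hx
          · exact hy
        rwa [Finset.sum_pair hxy] at this
      have := hW x hx'.2
      have := hW y hy'.2
      omega
    rcases Nat.eq_zero_or_pos ((univ.erase s).erase i₁).card with h0 | hpos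
    · exfalso
      have : rest = 0 := by
        rw [hrest, Finset.card_eq_zero.mp h0, Finset.sum_empty]
      have := hcpos s
      nlinarith
    · have hc1' : ((univ.erase s).erase i₁).card = 1 := by omega
      obtain ⟨i₂, hi₂⟩ := Finset.card_eq_one.mp hc1'
      have hi₂mem : i₂ ∈ (univ.erase s).erase i₁ := by rw [hi₂]; exact Finset.mem_singleton_self _
      obtain ⟨h21, h2s⟩ := (hmem i₂).mp hi₂mem
      have hrest_eq : rest = c i₂ * (a i₂ - 1) := by
        rw [hrest, hi₂, Finset.sum_singleton]
      have hn2 := hno1 i₂ h21 h2s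
      have e2 : 2 * (a i₂ * c i₂) = g := by rw [← hanc i₂, hn2]; ring
      have w2 : c i₂ * (a i₂ - 1) = a i₂ * c i₂ - c i₂ := by rw [Nat.mul_sub, mul_one, mul_comm]
      have l2 : c i₂ ≤ a i₂ * c i₂ := Nat.le_mul_of_pos_left _ (by have := ha i₂; omega)
      have hc2 : 2 * c i₂ + 2 * c s = 2 + a s * c s := by
        rw [hrest_eq, w2] at hrest2
        omega
      have hkey : a i₂ * (2 + (a s - 2) * c s) = a s * n s * c s := by
        have h3 : (a s - 2) * c s = a s * c s - 2 * c s := by rw [Nat.sub_mul]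
        rw [h3]
        have h4 : 2 + (a s * c s - 2 * c s) = 2 * c i₂ := by omega
        rw [h4, hgs]
        calc a i₂ * (2 * c i₂) = 2 * (a i₂ * c i₂) := by ring
          _ = g := e2
      exact nt_generic (a s) (n s) (c s) (a i₂) hA4 hk hka hac (hcpos s) hkey

end

end Cfsg.Agent.Helper8.Dk
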