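import Mathlib

set_option autoImplicit false

/-!
Finite groups partitioned by a conjugation-invariant family of subgroups: the counting formulas.
-/

namespace Cfsg.Agent.Helper8.Dk

open Subgroup

section Basic

variable {H : Type*} [Group H]

/-- the conjugate `h A h⁻¹` -/
abbrev cj (h : H) (A : Subgroup H) : Subgroup H := A.map (MulAut.conj h).toMonoidHom

theorem mem_cj {h x : H} {A : Subgroup H} : x ∈ cj h A ↔ h⁻¹ * x * h ∈ A := by
  constructor
  · rintro ⟨y, hy, rfl⟩
    have : h⁻¹ * ((MulAut.conj h).toMonoidHom y) * h = y := by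
      simp [MulAut.conj_apply, mul_assoc]
    rw [this]
    exact hy
  · intro hx
    refine ⟨h⁻¹ * x * h, hx, ?_⟩
    simp [MulAut.conj_apply, mul_assoc]

theorem conj_mem_cj {h x : H} {A : Subgroup H} (hx : x ∈ A) : h * x * h⁻¹ ∈ cj h A :=
  ⟨x, hx, by simp [MulAut.conj_apply]⟩

theorem cj_one (A : Subgroup H) : cj 1 A = A := by
  ext x
  rw [mem_cj]
  simp

theorem cj_mul (g h : H) (A : Subgroup H) : cj (g * h) A = cj g (cj h A) := by
  ext x
  rw [mem_cj, mem_cj, mem_cj]
  simp [mul_assoc]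

theorem cj_inf (h : H) (A B : Subgroup H) : cj h (A ⊓ B) = cj h A ⊓ cj h B :=
  Subgroup.map_inf A B _ (MulAut.conj h).injective

theorem card_cj (h : H) (A : Subgroup H) : Nat.card (cj h A) = Nat.card A :=
  Subgroup.card_map_of_injective (MulAut.conj h).injective

theorem cj_eq_self_iff {h : H} {A : Subgroup H} : cj h A = A ↔ h ∈ normalizer (A : Set H) :=
  mem_normalizer_iff_map_conj_eq.symm

theorem cj_of_normal (h : H) (N : Subgroup H) [N.Normal] : cj h N = N :=
  cj_eq_self_iff.mpr (by rw [normalizer_eq_top]; exact mem_top h)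

theorem cj_mono {h : H} {A B : Subgroup H} (hAB : A ≤ B) : cj h A ≤ cj h B :=
  Subgroup.map_mono hAB

theorem cj_inv_cj (h : H) (A : Subgroup H) : cj h⁻¹ (cj h A) = A := by
  rw [← cj_mul, inv_mul_cancel, cj_one]

theorem cj_cj_inv (h : H) (A : Subgroup H) : cj h (cj h⁻¹ A) = A := by
  rw [← cj_mul, mul_inv_cancel, cj_one]

theorem cj_ne_bot {h : H} {A : Subgroup H} (hA : A ≠ ⊥) : cj h A ≠ ⊥ := by
  intro hb
  apply hA
  rw [← cj_inv_cj h A, hb]
  exact Subgroup.map_bot _

theorem normalizer_cj (h : H) (A : Subgroup H) :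
    normalizer ((cj h A : Subgroup H) : Set H) = cj h (normalizer (A : Set H)) := by
  ext x
  rw [← cj_eq_self_iff, mem_cj, ← cj_eq_self_iff]
  constructor
  · intro hx
    rw [cj_mul, cj_mul, hx, cj_inv_cj]
  · intro hx
    have : cj x (cj h A) = cj h (cj (h⁻¹ * x * h) A) := by
      rw [← cj_mul, ← cj_mul]
      congr 1
      group
    rw [this, hx]

theorem card_mul_relIndex {A N : Subgroup H} (h : A ≤ N) :
    Nat.card A * A.relIndex N = Nat.card N := by
  have h1 := Subgroup.card_mul_index (A.subgroupOf N)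
  rw [Nat.card_congr (Subgroup.subgroupOfEquivOfLe h).toEquiv] at h1
  exact h1

theorem relIndex_cj (h : H) (A N : Subgroup H) :
    (cj h A).relIndex (cj h N) = A.relIndex N := by
  unfold Subgroup.relIndex
  have e : (MulAut.conj h).toMonoidHom.comp (Subgroup.subtype N) =
      (Subgroup.subtype (cj h N)).comp
        ((MulAut.conj h).toMonoidHom.subgroupMap N) := by
    ext x; rfl
  have hsurj : Function.Surjective ((MulAut.conj h).toMonoidHom.subgroupMap N) :=
    MonoidHom.subgroupMap_surjective _ _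
  have : (A.subgroupOf N) = ((cj h A).subgroupOf (cj h N)).comap
      ((MulAut.conj h).toMonoidHom.subgroupMap N) := by
    ext x
    rw [Subgroup.mem_comap, Subgroup.mem_subgroupOf, Subgroup.mem_subgroupOf]
    constructor
    · intro hx
      exact ⟨x.1, hx, rfl⟩
    · rintro ⟨y, hy, hyx⟩
      have : y = x.1 := (MulAut.conj h).injective hyx
      rwa [← this]
  rw [this, Subgroup.index_comap_of_surjective _ hsurj]

theorem card_ne_one_subtype [Finite H] (K : Subgroup H) :
    Nat.card {x : H // x ∈ K ∧ x ≠ 1} = Nat.card K - 1 := by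
  classical
  have e : {x : H // x ∈ K ∧ x ≠ 1} ≃ {y : K // y ≠ 1} :=
    { toFun := fun x => ⟨⟨x.1, x.2.1⟩, fun h => x.2.2 (congrArg Subtype.val h)⟩
      invFun := fun y => ⟨y.1.1, y.1.2, fun h => y.2 (Subtype.ext h)⟩
      left_inv := fun x => rfl
      right_inv := fun y => rfl }
  rw [Nat.card_congr e]
  have : Fintype K := Fintype.ofFinite K
  rw [Nat.card_eq_fintype_card, Fintype.card_subtype_compl, Nat.card_eq_fintype_card]
  simp

end Basic

/-- A partition of a finite group by subgroups of two kinds, modelled on the maximal abelian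
subgroups of `PSL₂(q)`. -/
structure Part (H : Type*) [Group H] (p : ℕ) where
  /-- the members of the partition -/
  mem : Set (Subgroup H)
  /-- the unipotent members -/
  unip : Set (Subgroup H)
  unip_sub : unip ⊆ mem
  ne_bot : ∀ A ∈ mem, A ≠ ⊥
  cover : ∀ x : H, x ≠ 1 → ∃ A ∈ mem, x ∈ A
  ti : ∀ A ∈ mem, ∀ B ∈ mem, ∀ x : H, x ≠ 1 → x ∈ A → x ∈ B → A = B
  conj_mem : ∀ A ∈ mem, ∀ h : H, cj h A ∈ mem
  conj_unip : ∀ A ∈ unip, ∀ h : H, cj h A ∈ unip
  tor_norm : ∀ A ∈ mem, A ∉ unip → A.relIndex (normalizer (A : Set H)) ≤ 2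
  unip_pgroup : ∀ A ∈ unip, IsPGroup p A
  unip_max : ∀ A ∈ unip, ∀ B : Subgroup H, IsPGroup p B → A ≤ B → B = A
  unip_comm : ∀ A ∈ unip, ∀ x ∈ A, ∀ y ∈ A, x * y = y * x
  unip_free : ∀ A ∈ unip, ∀ w ∈ normalizer (A : Set H), w ∉ A → ∀ m ∈ A, m ≠ 1 → w * m ≠ m * w
  unip_tor : ∀ A ∈ unip, 2 ≤ A.relIndex (normalizer (A : Set H)) →
    ∃ B ∈ mem, B ∉ unip ∧ Nat.card B = A.relIndex (normalizer (A : Set H))

namespace Part

variable {H : Type*} [Group H] {p : ℕ} (Pt : Part H p)

/-- The action of the group on the members by conjugation. -/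
@[reducible] def mulAction : MulAction H Pt.mem where
  smul h A := ⟨cj h A.1, Pt.conj_mem A.1 A.2 h⟩
  one_smul A := Subtype.ext (cj_one A.1)
  mul_smul g h A := Subtype.ext (cj_mul g h A.1)

theorem smul_val (h : H) (A : Pt.mem) :
    (letI := Pt.mulAction; (h • A : Pt.mem)).1 = cj h A.1 := rfl

theorem stabilizer_eq (A : Pt.mem) :
    (letI := Pt.mulAction; MulAction.stabilizer H A) = normalizer ((A.1 : Subgroup H) : Set H) := by
  letI := Pt.mulAction
  ext h
  rw [MulAction.mem_stabilizer_iff, ← cj_eq_self_iff]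
  constructor
  · intro hh
    exact congrArg Subtype.val hh
  · intro hh
    exact Subtype.ext hh

/-- the member containing a non-identity element -/
noncomputable def memOf (x : H) (hx : x ≠ 1) : Pt.mem :=
  ⟨Classical.choose (Pt.cover x hx), (Classical.choose_spec (Pt.cover x hx)).1⟩

theorem mem_memOf (x : H) (hx : x ≠ 1) : x ∈ (Pt.memOf x hx).1 :=
  (Classical.choose_spec (Pt.cover x hx)).2

theorem memOf_eq (x : H) (hx : x ≠ 1) (A : Pt.mem) (hA : x ∈ A.1) : Pt.memOf x hx = A :=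
  Subtype.ext (Pt.ti _ (Pt.memOf x hx).2 _ A.2 x hx (Pt.mem_memOf x hx) hA)

variable [Finite H]

/-- Counting the elements of a subgroup through the partition. -/
theorem card_sub_one_eq_sum [Fintype Pt.mem] (K : Subgroup H) :
    ∑ A : Pt.mem, (Nat.card ((K ⊓ A.1 : Subgroup H)) - 1) = Nat.card K - 1 := by
  classical
  have e : {x : H // x ∈ K ∧ x ≠ 1} ≃ Σ A : Pt.mem, {x : H // x ∈ K ⊓ A.1 ∧ x ≠ 1} :=
    { toFun := fun x => ⟨Pt.memOf x.1 x.2.2, ⟨x.1, ⟨x.2.1, Pt.mem_memOf x.1 x.2.2⟩, x.2.2⟩⟩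
      invFun := fun y => ⟨y.2.1, y.2.2.1.1, y.2.2.2⟩
      left_inv := fun x => rfl
      right_inv := by
        rintro ⟨A, ⟨x, ⟨hxK, hxA⟩, hx1⟩⟩
        have : Pt.memOf x hx1 = A := Pt.memOf_eq x hx1 A hxA
        subst this
        rfl }
  rw [← card_ne_one_subtype K, Nat.card_congr e, Nat.card_sigma]
  apply Finset.sum_congr rfl
  intro A _
  rw [card_ne_one_subtype]

/-- Sums of conjugation-invariant functions over the members, grouped by conjugacy classes. -/
theorem sum_eq_sum_orbits [Fintype Pt.mem]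
    [Fintype (letI := Pt.mulAction; MulAction.orbitRel.Quotient H Pt.mem)]
    (f : Pt.mem → ℕ) (hf : ∀ (h : H) (A : Pt.mem), f (letI := Pt.mulAction; h • A) = f A) :
    ∑ A : Pt.mem, f A =
      ∑ ω : (letI := Pt.mulAction; MulAction.orbitRel.Quotient H Pt.mem),
        (normalizer ((ω.out.1 : Subgroup H) : Set H)).index * f ω.out := by
  classical
  letI := Pt.mulAction
  have : ∀ ω : MulAction.orbitRel.Quotient H Pt.mem, Fintype (MulAction.orbit H ω.out) :=
    fun ω => Fintype.ofFinite _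
  rw [← Equiv.sum_comp (MulAction.selfEquivSigmaOrbits H Pt.mem).symm, Fintype.sum_sigma]
  apply Finset.sum_congr rfl
  intro ω _
  have h1 : ∀ y : MulAction.orbit H ω.out,
      f ((MulAction.selfEquivSigmaOrbits H Pt.mem).symm ⟨ω, y⟩) = f ω.out := by
    intro y
    have hy : (MulAction.selfEquivSigmaOrbits H Pt.mem).symm ⟨ω, y⟩ = y.1 := rfl
    rw [hy]
    obtain ⟨h, hh⟩ := MulAction.mem_orbit_iff.mp y.2
    rw [← hh, hf]
  rw [Finset.sum_congr rfl (fun y _ => h1 y), Finset.sum_const, smul_eq_mul, Finset.card_univ]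
  congr 1
  rw [← Pt.stabilizer_eq, MulAction.index_stabilizer, Set.ncard_eq_toFinset_card',
    Set.toFinset_card]

end Part

end Cfsg.Agent.Helper8.Dk
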