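import Mathlib
import Cfsg.Agent.Helper8.DkPartA

set_option autoImplicit false

/-!
Conjugacy classes of the members of a partition and the class equation.
-/

namespace Cfsg.Agent.Helper8.Dk

open Subgroup MulAction

theorem dvd_card_of_index_stabilizer {G Y : Type*} [Group G] [MulAction G Y] [Finite G] [Finite Y]
    (k : ℕ) (h : ∀ y : Y, (stabilizer G y).index = k) : k ∣ Nat.card Y := by
  classical
  have : Fintype (orbitRel.Quotient G Y) := Fintype.ofFinite _
  rw [Nat.card_congr (selfEquivSigmaOrbitsQuotientStabilizer G Y), Nat.card_sigma]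
  apply Finset.dvd_sum
  intro ω _
  have : Nat.card (G ⧸ stabilizer G (Quotient.out ω)) = k := by
    rw [← h (Quotient.out ω)]
    rfl
  rw [this]

namespace Part

variable {H : Type*} [Group H] {p : ℕ} (Pt : Part H p)

/-- the conjugacy classes of members -/
abbrev Cls : Type _ := @MulAction.orbitRel.Quotient H Pt.mem _ Pt.mulAction

/-- the class of a member -/
def cls (A : Pt.mem) : Pt.Cls := @Quotient.mk'' _ (@MulAction.orbitRel H Pt.mem _ Pt.mulAction) A

/-- the representative of a class, as a member -/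
noncomputable def repM (ω : Pt.Cls) : Pt.mem :=
  @Quotient.out _ (@MulAction.orbitRel H Pt.mem _ Pt.mulAction) ω

/-- the representative of a class -/
noncomputable def rep (ω : Pt.Cls) : Subgroup H := (Pt.repM ω).1

theorem rep_mem (ω : Pt.Cls) : Pt.rep ω ∈ Pt.mem := (Pt.repM ω).2

theorem cls_repM (ω : Pt.Cls) : Pt.cls (Pt.repM ω) = ω :=
  @Quotient.out_eq _ (@MulAction.orbitRel H Pt.mem _ Pt.mulAction) ω

theorem cls_eq_iff (A B : Pt.mem) : Pt.cls A = Pt.cls B ↔ ∃ h : H, cj h B.1 = A.1 := by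
  letI := Pt.mulAction
  unfold cls
  rw [Quotient.eq'']
  show A ∈ MulAction.orbit H B ↔ _
  rw [MulAction.mem_orbit_iff]
  constructor
  · rintro ⟨h, hh⟩
    exact ⟨h, congrArg Subtype.val hh⟩
  · rintro ⟨h, hh⟩
    exact ⟨h, Subtype.ext hh⟩

theorem exists_cj_rep (A : Pt.mem) : ∃ h : H, cj h (Pt.rep (Pt.cls A)) = A.1 := by
  have : Pt.cls A = Pt.cls (Pt.repM (Pt.cls A)) := (Pt.cls_repM _).symm
  exact (Pt.cls_eq_iff _ _).mp this

theorem cls_eq_of_cj (A B : Pt.mem) (h : H) (hh : cj h B.1 = A.1) : Pt.cls A = Pt.cls B :=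
  (Pt.cls_eq_iff A B).mpr ⟨h, hh⟩

variable [Finite H]

theorem two_le_card {A : Subgroup H} (hA : A ∈ Pt.mem) : 2 ≤ Nat.card A := by
  have h1 : Nat.card A ≠ 1 := fun h => Pt.ne_bot A hA (Subgroup.card_eq_one.mp h)
  have h0 : 0 < Nat.card A := Nat.card_pos
  omega

theorem one_le_relIndex (A : Subgroup H) : 1 ≤ A.relIndex (normalizer (A : Set H)) := by
  have : A.relIndex (normalizer (A : Set H)) ≠ 0 := by
    unfold Subgroup.relIndex
    exact Subgroup.index_ne_zero_of_finite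
  omega

theorem anc (A : Subgroup H) :
    Nat.card A * A.relIndex (normalizer (A : Set H)) * (normalizer (A : Set H)).index =
      Nat.card H := by
  rw [card_mul_relIndex le_normalizer, Subgroup.card_mul_index]

/-- the class equation -/
theorem class_eq [Fintype Pt.Cls] :
    ∑ ω : Pt.Cls, (normalizer ((Pt.rep ω : Subgroup H) : Set H)).index * (Nat.card (Pt.rep ω) - 1) =
      Nat.card H - 1 := by
  classical
  haveI : Fintype Pt.mem := Fintype.ofFinite _
  have h1 := Pt.card_sub_one_eq_sum (⊤ : Subgroup H)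
  rw [Subgroup.card_top] at h1
  rw [← h1]
  have h2 := Pt.sum_eq_sum_orbits (fun A => Nat.card ((⊤ ⊓ A.1 : Subgroup H)) - 1) (by
    intro h A
    show Nat.card ((⊤ ⊓ cj h A.1 : Subgroup H)) - 1 = _
    rw [top_inf_eq, top_inf_eq, card_cj])
  rw [h2]
  apply Finset.sum_congr rfl
  intro ω _
  show _ = (normalizer ((Pt.rep ω : Subgroup H) : Set H)).index *
    (Nat.card ((⊤ ⊓ Pt.rep ω : Subgroup H)) - 1)
  rw [top_inf_eq]

/-- counting a normal subgroup through the classes -/
theorem normal_count [Fintype Pt.Cls] (N : Subgroup H) [N.Normal] :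
    ∑ ω : Pt.Cls, (normalizer ((Pt.rep ω : Subgroup H) : Set H)).index *
      (Nat.card ((N ⊓ Pt.rep ω : Subgroup H)) - 1) = Nat.card N - 1 := by
  classical
  haveI : Fintype Pt.mem := Fintype.ofFinite _
  rw [← Pt.card_sub_one_eq_sum N]
  have h2 := Pt.sum_eq_sum_orbits (fun A => Nat.card ((N ⊓ A.1 : Subgroup H)) - 1) (by
    intro h A
    show Nat.card ((N ⊓ cj h A.1 : Subgroup H)) - 1 = _
    have : N ⊓ cj h A.1 = cj h (N ⊓ A.1) := by
      rw [cj_inf, cj_of_normal h N]
    rw [this, card_cj])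
  rw [h2]
  rfl

theorem tor_relIndex {A : Subgroup H} (hA : A ∈ Pt.mem) (hu : A ∉ Pt.unip) :
    A.relIndex (normalizer (A : Set H)) = 1 ∨ A.relIndex (normalizer (A : Set H)) = 2 := by
  have h1 := Pt.tor_norm A hA hu
  have h2 := one_le_relIndex A
  omega

variable [hp : Fact p.Prime]

/-- a unipotent member as a Sylow subgroup -/
def toSylow {A : Subgroup H} (hA : A ∈ Pt.unip) : Sylow p H :=
  { toSubgroup := A
    isPGroup' := Pt.unip_pgroup A hA
    is_maximal' := fun {Q} hQ hle => Pt.unip_max A hA Q hQ hle }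

theorem unip_conj {A B : Subgroup H} (hA : A ∈ Pt.unip) (hB : B ∈ Pt.unip) :
    ∃ h : H, cj h A = B := by
  obtain ⟨g, hg⟩ := MulAction.exists_smul_eq H (Pt.toSylow hA) (Pt.toSylow hB)
  refine ⟨g, ?_⟩
  have : ((g • Pt.toSylow hA : Sylow p H) : Subgroup H) = (Pt.toSylow hB : Sylow p H) := by
    rw [hg]
  rw [Sylow.coe_subgroup_smul, Subgroup.pointwise_smul_def] at this
  exact this

theorem unip_of_cls_eq {A B : Pt.mem} (h : Pt.cls A = Pt.cls B) (hB : B.1 ∈ Pt.unip) :
    A.1 ∈ Pt.unip := by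
  obtain ⟨g, hg⟩ := (Pt.cls_eq_iff A B).mp h
  rw [← hg]
  exact Pt.conj_unip _ hB g

theorem unip_cls_eq {A B : Pt.mem} (hA : A.1 ∈ Pt.unip) (hB : B.1 ∈ Pt.unip) :
    Pt.cls A = Pt.cls B := by
  obtain ⟨g, hg⟩ := Pt.unip_conj hB hA
  exact Pt.cls_eq_of_cj A B g hg

end Part

end Cfsg.Agent.Helper8.Dk
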