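import Mathlib
import Cfsg.Agent.Helper8.DkPartB
import Cfsg.Agent.Helper8.DkArithC
import Cfsg.Agent.Lead.DicksonC

set_option autoImplicit false

/-!
The numerical outcome of the class equation for a partition.
-/

namespace Cfsg.Agent.Helper8.Dk

open Subgroup MulAction

section Conj

variable {H : Type*} [Group H]

/-- The normaliser of `Q` acting by conjugation on the non-identity elements of `Q`. -/
@[reducible] def normAct (Q : Subgroup H) :
    MulAction (normalizer (Q : Set H)) {m : H // m ∈ Q ∧ m ≠ 1} where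
  smul n m := ⟨n.1 * m.1 * n.1⁻¹, (mem_normalizer_iff.mp n.2 m.1).mp m.2.1, fun h => m.2.2 (by
    have : m.1 = n.1⁻¹ * (n.1 * m.1 * n.1⁻¹) * n.1 := by group
    rw [this, h]; group)⟩
  one_smul m := Subtype.ext (by show (1 : H) * m.1 * (1 : H)⁻¹ = m.1; group)
  mul_smul a b m := Subtype.ext (by
    show (a.1 * b.1) * m.1 * (a.1 * b.1)⁻¹ = a.1 * (b.1 * m.1 * b.1⁻¹) * a.1⁻¹
    group)

end Conj

namespace Part

variable {H : Type*} [Group H] {p : ℕ} (Pt : Part H p) [Finite H]

/-- the normaliser quotient of a unipotent member acts freely on it -/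
theorem relIndex_dvd {Q : Subgroup H} (hQ : Q ∈ Pt.unip) :
    Q.relIndex (normalizer (Q : Set H)) ∣ Nat.card Q - 1 := by
  letI := normAct Q
  rw [← card_ne_one_subtype Q]
  apply dvd_card_of_index_stabilizer (G := normalizer (Q : Set H))
  intro m
  have : stabilizer (normalizer (Q : Set H)) m = Q.subgroupOf (normalizer (Q : Set H)) := by
    ext n
    rw [mem_stabilizer_iff, mem_subgroupOf]
    constructor
    · intro hn
      by_contra hnQ
      have h1 : n.1 * m.1 * n.1⁻¹ = m.1 := congrArg Subtype.val hn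
      apply Pt.unip_free Q hQ n.1 n.2 hnQ m.1 m.2.1 m.2.2
      calc n.1 * m.1 = n.1 * m.1 * n.1⁻¹ * n.1 := by group
        _ = m.1 * n.1 := by rw [h1]
    · intro hn
      apply Subtype.ext
      show n.1 * m.1 * n.1⁻¹ = m.1
      rw [Pt.unip_comm Q hQ n.1 hn m.1 m.2.1]
      group
  rw [this]
  rfl

variable [hp : Fact p.Prime]

/-- a `p`-element normalising a unipotent member lies in it -/
theorem mem_of_normalizes {Q B : Subgroup H} (hQ : Q ∈ Pt.unip) (hB : B ∈ Pt.unip) {u : H}
    (hu : u ∈ Q) (hn : u ∈ normalizer (B : Set H)) : u ∈ B := by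
  have h1 : IsPGroup p (Subgroup.zpowers u) := by
    have : Subgroup.zpowers u ≤ Q := by
      rw [Subgroup.zpowers_le]; exact hu
    exact (Pt.unip_pgroup Q hQ).to_le this
  have h2 : Subgroup.zpowers u ≤ normalizer (B : Set H) := by
    rw [Subgroup.zpowers_le]; exact hn
  have h3 := IsPGroup.to_sup_of_normal_right' h1 (Pt.unip_pgroup B hB) h2
  have h4 := Pt.unip_max B hB _ h3 le_sup_right
  have : u ∈ Subgroup.zpowers u ⊔ B := Subgroup.mem_sup_left (Subgroup.mem_zpowers u)
  rwa [h4] at this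

/-- the number of Sylow subgroups is congruent to one modulo their order -/
theorem card_dvd_index {Q : Subgroup H} (hQ : Q ∈ Pt.unip) :
    Nat.card Q ∣ (normalizer (Q : Set H)).index - 1 := by
  classical
  letI := Pt.mulAction
  haveI : Fintype Pt.mem := Fintype.ofFinite _
  let Q' : Pt.mem := ⟨Q, Pt.unip_sub hQ⟩
  let S : Finset Pt.mem := Finset.univ.filter (fun A => A.1 ∈ Pt.unip ∧ A.1 ≠ Q)
  have hS : S.card = (normalizer (Q : Set H)).index - 1 := by
    have h1 : (Finset.univ.filter (fun A : Pt.mem => A.1 ∈ Pt.unip)).card =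
        (normalizer (Q : Set H)).index := by
      rw [← Pt.stabilizer_eq Q', MulAction.index_stabilizer, Set.ncard_eq_toFinset_card']
      congr 1
      ext A
      rw [Finset.mem_filter, Set.mem_toFinset, MulAction.mem_orbit_iff]
      constructor
      · rintro ⟨-, hA⟩
        obtain ⟨h, hh⟩ := Pt.unip_conj hQ hA
        exact ⟨h, Subtype.ext hh⟩
      · rintro ⟨h, hh⟩
        refine ⟨Finset.mem_univ _, ?_⟩
        rw [← hh]
        exact Pt.conj_unip Q hQ h
    have h2 : S = (Finset.univ.filter (fun A : Pt.mem => A.1 ∈ Pt.unip)).erase Q' := by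
      ext A
      simp only [S, Finset.mem_filter, Finset.mem_erase, Finset.mem_univ, true_and]
      constructor
      · rintro ⟨h1, h2⟩
        exact ⟨fun h => h2 (congrArg Subtype.val h), h1⟩
      · rintro ⟨h1, h2⟩
        exact ⟨h2, fun h => h1 (Subtype.ext h)⟩
    rw [h2, Finset.card_erase_of_mem (by simp [Q', hQ]), h1]
  rw [← hS]
  apply Cfsg.Agent.Lead.DicksonC.card_dvd_of_free Q S.card S rfl
  · intro d hd A hA
    simp only [S, Finset.mem_filter, Finset.mem_univ, true_and] at hA ⊢
    refine ⟨Pt.conj_unip _ hA.1 d, ?_⟩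
    intro h
    apply hA.2
    have h1 : cj d A.1 = Q := h
    have h2 : cj d Q = Q := cj_eq_self_iff.mpr (le_normalizer hd)
    rw [← cj_inv_cj d A.1, h1, ← h2, cj_inv_cj, h2]
  · intro d hd A hA hfix
    simp only [S, Finset.mem_filter, Finset.mem_univ, true_and] at hA
    by_contra hd1
    have h1 : cj d A.1 = A.1 := congrArg Subtype.val hfix
    have h2 : d ∈ A.1 := Pt.mem_of_normalizes hQ hA.1 hd (cj_eq_self_iff.mp h1)
    exact hA.2 (Pt.ti A.1 A.2 Q (Pt.unip_sub hQ) d hd1 h2 hd)

/-- two members of order three in a group of order twelve are conjugate -/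
theorem cls_eq_of_card_three (hH : Nat.card H = 12) (A B : Pt.mem) (hA : Nat.card A.1 = 3)
    (hB : Nat.card B.1 = 3) : Pt.cls A = Pt.cls B := by
  haveI : Fact (Nat.Prime 3) := ⟨Nat.prime_three⟩
  have hf : (Nat.card H).factorization 3 = 1 := by rw [hH]; decide +kernel
  let PA : Sylow 3 H := Sylow.ofCard A.1 (by rw [hf, hA]; rfl)
  let PB : Sylow 3 H := Sylow.ofCard B.1 (by rw [hf, hB]; rfl)
  obtain ⟨g, hg⟩ := MulAction.exists_smul_eq H PB PA
  refine Pt.cls_eq_of_cj A B g ?_
  have : ((g • PB : Sylow 3 H) : Subgroup H) = (PA : Sylow 3 H) := by rw [hg]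
  rw [Sylow.coe_subgroup_smul, Subgroup.pointwise_smul_def] at this
  exact this

end Part

end Cfsg.Agent.Helper8.Dk
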