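import Mathlib
import Cfsg.Agent.Helper8.DkPartC

set_option autoImplicit false

/-!
The numerical outcome of the class equation for a partition.
-/

namespace Cfsg.Agent.Helper8.Dk

open Subgroup MulAction

namespace Part

variable {H : Type*} [Group H] {p : ℕ} (Pt : Part H p) [Finite H] [hp : Fact p.Prime]

theorem card_rep_cls (A : Pt.mem) : Nat.card (Pt.rep (Pt.cls A)) = Nat.card A.1 := by
  obtain ⟨h, hh⟩ := Pt.exists_cj_rep A
  rw [← hh, card_cj]

theorem rep_unip_iff (A : Pt.mem) : Pt.rep (Pt.cls A) ∈ Pt.unip ↔ A.1 ∈ Pt.unip := by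
  have h1 : Pt.cls (Pt.repM (Pt.cls A)) = Pt.cls A := Pt.cls_repM _
  constructor
  · intro h
    exact Pt.unip_of_cls_eq h1.symm h
  · intro h
    exact Pt.unip_of_cls_eq h1 h

/-- The numerical outcome of the class equation. -/
theorem numeric :
    Nat.card H = 1 ∨ (∃ A ∈ Pt.mem, normalizer (A : Set H) = ⊤) ∨
    (Nat.card H = 12 ∧ ∃ A ∈ Pt.mem, Nat.card A = 3 ∧ normalizer (A : Set H) ≤ A) ∨
    (Nat.card H = 24 ∧ ∃ i j k : Pt.Cls, (∀ ω : Pt.Cls, ω = i ∨ ω = j ∨ ω = k) ∧ i ≠ j ∧ i ≠ k ∧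
      j ≠ k ∧ Nat.card (Pt.rep i) = 2 ∧ Nat.card (Pt.rep j) = 3 ∧ Nat.card (Pt.rep k) = 4 ∧
      (normalizer ((Pt.rep i : Subgroup H) : Set H)).index = 6 ∧
      (normalizer ((Pt.rep j : Subgroup H) : Set H)).index = 4 ∧
      (normalizer ((Pt.rep k : Subgroup H) : Set H)).index = 3) ∨
    (Nat.card H = 60 ∧ ∃ i j k : Pt.Cls, (∀ ω : Pt.Cls, ω = i ∨ ω = j ∨ ω = k) ∧ i ≠ j ∧ i ≠ k ∧
      j ≠ k ∧ Nat.card (Pt.rep i) = 2 ∧ Nat.card (Pt.rep j) = 3 ∧ Nat.card (Pt.rep k) = 5 ∧
      (normalizer ((Pt.rep i : Subgroup H) : Set H)).index = 15 ∧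
      (normalizer ((Pt.rep j : Subgroup H) : Set H)).index = 10 ∧
      (normalizer ((Pt.rep k : Subgroup H) : Set H)).index = 6) ∨
    (∃ Q ∈ Pt.unip, (normalizer (Q : Set H)).index = Nat.card Q + 1 ∧
      (Q.relIndex (normalizer (Q : Set H)) = Nat.card Q - 1 ∨
        2 * Q.relIndex (normalizer (Q : Set H)) = Nat.card Q - 1)) := by
  classical
  haveI : Fintype Pt.Cls := Fintype.ofFinite _
  set a : Pt.Cls → ℕ := fun ω => Nat.card (Pt.rep ω) with ha_def
  set nn : Pt.Cls → ℕ := fun ω => (Pt.rep ω).relIndex (normalizer ((Pt.rep ω : Subgroup H) : Set H))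
    with hnn_def
  set cc : Pt.Cls → ℕ := fun ω => (normalizer ((Pt.rep ω : Subgroup H) : Set H)).index with hcc_def
  have ha : ∀ i, 2 ≤ a i := fun i => Pt.two_le_card (Pt.rep_mem i)
  have hanc : ∀ i, a i * nn i * cc i = Nat.card H := fun i => anc (Pt.rep i)
  have hsum : ∑ i, cc i * (a i - 1) = Nat.card H - 1 := Pt.class_eq
  have hg : 1 ≤ Nat.card H := Nat.card_pos
  have hrepM : ∀ i : Pt.Cls, (Pt.repM i).1 = Pt.rep i := fun i => rfl
  -- two unipotent classes coincide
  have huniq : ∀ i j : Pt.Cls, Pt.rep i ∈ Pt.unip → Pt.rep j ∈ Pt.unip → i = j := by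
    intro i j hi hj
    have := Pt.unip_cls_eq (A := Pt.repM i) (B := Pt.repM j) hi hj
    rwa [Pt.cls_repM, Pt.cls_repM] at this
  by_cases hs : ∃ s : Pt.Cls, Pt.rep s ∈ Pt.unip ∧ 3 ≤ nn s
  · obtain ⟨s, hsu, hs3⟩ := hs
    obtain ⟨B, hBm, hBu, hBc⟩ := Pt.unip_tor (Pt.rep s) hsu (by show 2 ≤ nn s; omega)
    set i₁ : Pt.Cls := Pt.cls ⟨B, hBm⟩ with hi₁
    have hi₁s : i₁ ≠ s := by
      intro h
      apply hBu
      have := (Pt.rep_unip_iff ⟨B, hBm⟩).mp (by rw [← hi₁, h]; exact hsu)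
      exact this
    have hai₁ : a i₁ = nn s := by
      show Nat.card (Pt.rep (Pt.cls ⟨B, hBm⟩)) = _
      rw [Pt.card_rep_cls]
      exact hBc
    have hn : ∀ i, i ≠ s → (nn i = 1 ∨ nn i = 2) := by
      intro i his
      apply Pt.tor_relIndex (Pt.rep_mem i)
      intro hu
      exact his (huniq i s hu hsu)
    rcases arithB (Nat.card H) a nn cc s i₁ ha hn hs3 (Pt.relIndex_dvd hsu) (Pt.card_dvd_index hsu)
      hanc hsum hi₁s hai₁ hg with h | ⟨h1, h2⟩
    · right; left
      exact ⟨Pt.rep s, Pt.rep_mem s, Subgroup.index_eq_one.mp h⟩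
    · right; right; right; right; right
      exact ⟨Pt.rep s, hsu, h1, h2⟩
  · push Not at hs
    have hn : ∀ i, nn i = 1 ∨ nn i = 2 := by
      intro i
      by_cases hu : Pt.rep i ∈ Pt.unip
      · have h1 := hs i hu
        have h2 : 1 ≤ nn i := one_le_relIndex (Pt.rep i)
        omega
      · exact Pt.tor_relIndex (Pt.rep_mem i) hu
    rcases arithA (Nat.card H) a nn cc ha hn hanc hsum hg with h | ⟨i, h⟩ | ⟨h, i, h1, h2⟩ |
      ⟨h, i, j, hij, h1, h2⟩ | ⟨h, i, j, k, hu, hij, hik, hjk, h1, h2, h3, h4, h5, h6⟩ |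
      ⟨h, i, j, k, hu, hij, hik, hjk, h1, h2, h3, h4, h5, h6⟩
    · left; exact h
    · right; left
      exact ⟨Pt.rep i, Pt.rep_mem i, Subgroup.index_eq_one.mp h⟩
    · right; right; left
      exact ⟨h, Pt.rep i, Pt.rep_mem i, h1, Subgroup.relIndex_eq_one.mp h2⟩
    · exfalso
      apply hij
      have := Pt.cls_eq_of_card_three h (Pt.repM i) (Pt.repM j) h1 h2
      rwa [Pt.cls_repM, Pt.cls_repM] at this
    · right; right; right; left
      refine ⟨h, i, j, k, ?_, hij, hik, hjk, h1, h2, h3, ?_, ?_, ?_⟩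
      · intro ω
        have : ω ∈ (Finset.univ : Finset Pt.Cls) := Finset.mem_univ ω
        rw [hu] at this
        simpa using this
      · have := hanc i
        rw [h1, h4, h] at this
        show cc i = 6
        omega
      · have := hanc j
        rw [h2, h5, h] at this
        show cc j = 4
        omega
      · have := hanc k
        rw [h3, h6, h] at this
        show cc k = 3
        omega
    · right; right; right; right; left
      refine ⟨h, i, j, k, ?_, hij, hik, hjk, h1, h2, h3, ?_, ?_, ?_⟩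
      · intro ω
        have : ω ∈ (Finset.univ : Finset Pt.Cls) := Finset.mem_univ ω
        rw [hu] at this
        simpa using this
      · have := hanc i
        rw [h1, h4, h] at this
        show cc i = 15
        omega
      · have := hanc j
        rw [h2, h5, h] at this
        show cc j = 10
        omega
      · have := hanc k
        rw [h3, h6, h] at this
        show cc k = 6
        omega

end Part

end Cfsg.Agent.Helper8.Dk
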