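import Mathlib
import Cfsg.Agent.Helper8.DkPartD
import Cfsg.Agent.S0494

set_option autoImplicit false

/-!
Identification of the small exceptional outcomes of the class equation: `A₄`, `S₄`, `A₅`.
-/

namespace Cfsg.Agent.Helper8.Dk

open Subgroup MulAction

section Core

variable {H : Type*} [Group H] [Finite H]

/-- the injective homomorphism to the symmetric group on `Fin m` given by a core-free subgroup of
index `m` -/
theorem exists_injective_hom_of_core (S : Subgroup H) (m : ℕ) (hS : S.index = m)
    (hcore : S.normalCore = ⊥) :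
    ∃ ψ : H →* Equiv.Perm (Fin m), Function.Injective ψ := by
  classical
  have hker : (MulAction.toPermHom H (H ⧸ S)).ker = ⊥ := by
    rw [← Subgroup.normalCore_eq_ker, hcore]
  have hinj : Function.Injective (MulAction.toPermHom H (H ⧸ S)) :=
    (MonoidHom.ker_eq_bot_iff _).mp hker
  have hcard : Nat.card (H ⧸ S) = m := hS
  have : Finite (H ⧸ S) := inferInstance
  have e : (H ⧸ S) ≃ Fin m := Finite.equivFinOfCardEq hcard
  exact ⟨(Equiv.permCongrHom e).toMonoidHom.comp (MulAction.toPermHom H (H ⧸ S)),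
    (Equiv.permCongrHom e).injective.comp hinj⟩

theorem equiv_perm_of_core (S : Subgroup H) (m : ℕ) (hS : S.index = m)
    (hcore : S.normalCore = ⊥) (hcard : Nat.card H = m.factorial) :
    Nonempty (H ≃* Equiv.Perm (Fin m)) := by
  obtain ⟨ψ, hψ⟩ := exists_injective_hom_of_core S m hS hcore
  have hbij : Function.Bijective ψ := by
    rw [Nat.bijective_iff_injective_and_card]
    refine ⟨hψ, ?_⟩
    rw [hcard, Nat.card_eq_fintype_card, Fintype.card_perm, Fintype.card_fin]
  exact ⟨MulEquiv.ofBijective ψ hbij⟩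

theorem equiv_alt_of_core (S : Subgroup H) (m : ℕ) (hS : S.index = m)
    (hcore : S.normalCore = ⊥) (hcard : 2 * Nat.card H = m.factorial) :
    Nonempty (H ≃* alternatingGroup (Fin m)) := by
  obtain ⟨ψ, hψ⟩ := exists_injective_hom_of_core S m hS hcore
  have h1 : Nat.card ψ.range = Nat.card H :=
    (Nat.card_congr (MonoidHom.ofInjective hψ).toEquiv).symm
  have h2 : ψ.range.index = 2 := by
    have h3 := Subgroup.card_mul_index ψ.range
    rw [h1, Nat.card_eq_fintype_card (α := Equiv.Perm (Fin m)), Fintype.card_perm,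
      Fintype.card_fin, ← hcard] at h3
    have hpos : 0 < Nat.card H := Nat.card_pos
    have : Nat.card H * ψ.range.index = Nat.card H * 2 := by rw [h3]; ring
    exact Nat.eq_of_mul_eq_mul_left hpos this
  have h4 : ψ.range = alternatingGroup (Fin m) := Equiv.Perm.eq_alternatingGroup_of_index_eq_two h2
  exact ⟨(MonoidHom.ofInjective hψ).trans (MulEquiv.subgroupCongr h4)⟩

end Core

namespace Part

variable {H : Type*} [Group H] {p : ℕ} (Pt : Part H p) [Finite H]

/-- counting a normal subgroup when there are exactly three classes -/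
theorem normal_count_three (i j k : Pt.Cls) (hall : ∀ ω : Pt.Cls, ω = i ∨ ω = j ∨ ω = k)
    (hij : i ≠ j) (hik : i ≠ k) (hjk : j ≠ k) (N : Subgroup H) [N.Normal] :
    (normalizer ((Pt.rep i : Subgroup H) : Set H)).index * (Nat.card ((N ⊓ Pt.rep i : Subgroup H)) - 1) +
    (normalizer ((Pt.rep j : Subgroup H) : Set H)).index * (Nat.card ((N ⊓ Pt.rep j : Subgroup H)) - 1) +
    (normalizer ((Pt.rep k : Subgroup H) : Set H)).index * (Nat.card ((N ⊓ Pt.rep k : Subgroup H)) - 1) =
      Nat.card N - 1 := by
  classical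
  haveI : Fintype Pt.Cls := Fintype.ofFinite _
  rw [← Pt.normal_count N]
  have hu : (Finset.univ : Finset Pt.Cls) = {i, j, k} := by
    ext ω
    simp only [Finset.mem_univ, Finset.mem_insert, Finset.mem_singleton, true_iff]
    exact hall ω
  rw [hu, Finset.sum_insert (by simp [hij, hik]), Finset.sum_pair hjk, add_assoc]

theorem dvd_prime_cases {m q : ℕ} (hq : q.Prime) (h : m ∣ q) : m = 1 ∨ m = q :=
  (Nat.dvd_prime hq).mp h

/-- order `12` with a self-normalising subgroup of order three: `A₄` -/
theorem equiv_A4 (hH : Nat.card H = 12) (A : Subgroup H) (hA : Nat.card A = 3)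
    (hN : normalizer (A : Set H) ≤ A) : Nonempty (H ≃* alternatingGroup (Fin 4)) := by
  have hidx : A.index = 4 := by
    have := Subgroup.card_mul_index A
    rw [hA, hH] at this
    omega
  apply equiv_alt_of_core A 4 hidx ?_ (by rw [hH]; rfl)
  have hle : A.normalCore ≤ A := Subgroup.normalCore_le A
  have hdvd : Nat.card A.normalCore ∣ 3 := hA ▸ Subgroup.card_dvd_of_le hle
  rcases (Nat.dvd_prime Nat.prime_three).mp hdvd with h1 | h3
  · exact Subgroup.card_eq_one.mp h1
  · exfalso
    have heq : A.normalCore = A := by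
      apply Subgroup.eq_of_le_of_card_ge hle
      rw [h3, hA]
    have hnorm : A.Normal := heq ▸ Subgroup.normalCore_normal A
    have : normalizer (A : Set H) = ⊤ := Subgroup.normalizer_eq_top A
    rw [this] at hN
    have : A = ⊤ := top_le_iff.mp hN
    rw [this, Subgroup.card_top, hH] at hA
    omega

/-- the `(2,3,4)` outcome: `S₄` -/
theorem equiv_S4 (hH : Nat.card H = 24) (i j k : Pt.Cls)
    (hall : ∀ ω : Pt.Cls, ω = i ∨ ω = j ∨ ω = k) (hij : i ≠ j) (hik : i ≠ k) (hjk : j ≠ k)
    (hi : Nat.card (Pt.rep i) = 2) (hj : Nat.card (Pt.rep j) = 3) (hk : Nat.card (Pt.rep k) = 4)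
    (ci : (normalizer ((Pt.rep i : Subgroup H) : Set H)).index = 6)
    (cj' : (normalizer ((Pt.rep j : Subgroup H) : Set H)).index = 4)
    (ck : (normalizer ((Pt.rep k : Subgroup H) : Set H)).index = 3) :
    Nonempty (H ≃* Equiv.Perm (Fin 4)) := by
  set S := normalizer ((Pt.rep j : Subgroup H) : Set H) with hS
  apply equiv_perm_of_core S 4 cj' ?_ (by rw [hH]; rfl)
  have hScard : Nat.card S = 6 := by
    have := Subgroup.card_mul_index S
    rw [cj', hH] at this
    omega
  have hle : S.normalCore ≤ S := Subgroup.normalCore_le S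
  have hdvd : Nat.card S.normalCore ∣ 6 := hScard ▸ Subgroup.card_dvd_of_le hle
  haveI : S.normalCore.Normal := Subgroup.normalCore_normal S
  have hcount := Pt.normal_count_three i j k hall hij hik hjk S.normalCore
  rw [ci, cj', ck] at hcount
  have d1 : Nat.card ((S.normalCore ⊓ Pt.rep i : Subgroup H)) ∣ 2 :=
    hi ▸ Subgroup.card_dvd_of_le inf_le_right
  have d2 : Nat.card ((S.normalCore ⊓ Pt.rep j : Subgroup H)) ∣ 3 :=
    hj ▸ Subgroup.card_dvd_of_le inf_le_right
  have d3 : Nat.card ((S.normalCore ⊓ Pt.rep k : Subgroup H)) ∣ 4 :=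
    hk ▸ Subgroup.card_dvd_of_le inf_le_right
  have d3' : Nat.card ((S.normalCore ⊓ Pt.rep k : Subgroup H)) ∣ Nat.card S.normalCore :=
    Subgroup.card_dvd_of_le inf_le_left
  have hpos : 0 < Nat.card S.normalCore := Nat.card_pos
  have hle6 : Nat.card S.normalCore ≤ 6 := Nat.le_of_dvd (by norm_num) hdvd
  have hk4 : Nat.card ((S.normalCore ⊓ Pt.rep k : Subgroup H)) ≤ 4 := Nat.le_of_dvd (by norm_num) d3
  have hkpos : 0 < Nat.card ((S.normalCore ⊓ Pt.rep k : Subgroup H)) := Nat.card_pos
  rcases (Nat.dvd_prime Nat.prime_two).mp d1 with e1 | e1 <;>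
  rcases (Nat.dvd_prime Nat.prime_three).mp d2 with e2 | e2 <;>
  rw [e1, e2] at hcount
  · apply Subgroup.card_eq_one.mp
    generalize Nat.card ((S.normalCore ⊓ Pt.rep k : Subgroup H)) = mk at *
    generalize Nat.card S.normalCore = c at *
    interval_cases mk <;> interval_cases c <;> simp_all
  · exfalso; omega
  · exfalso; omega
  · exfalso; omega

/-- the `(2,3,5)` outcome: `A₅` -/
theorem equiv_A5 (hH : Nat.card H = 60) (i j k : Pt.Cls)
    (hall : ∀ ω : Pt.Cls, ω = i ∨ ω = j ∨ ω = k) (hij : i ≠ j) (hik : i ≠ k) (hjk : j ≠ k)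
    (hi : Nat.card (Pt.rep i) = 2) (hj : Nat.card (Pt.rep j) = 3) (hk : Nat.card (Pt.rep k) = 5)
    (ci : (normalizer ((Pt.rep i : Subgroup H) : Set H)).index = 15)
    (cj' : (normalizer ((Pt.rep j : Subgroup H) : Set H)).index = 10)
    (ck : (normalizer ((Pt.rep k : Subgroup H) : Set H)).index = 6) :
    Nonempty (H ≃* alternatingGroup (Fin 5)) := by
  haveI : Nontrivial H := by
    rw [← Finite.one_lt_card_iff_nontrivial, hH]; norm_num
  haveI : IsSimpleGroup H := by
    refine ⟨fun N hN => ?_⟩
    have hcount := Pt.normal_count_three i j k hall hij hik hjk N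
    rw [ci, cj', ck] at hcount
    have d1 : Nat.card ((N ⊓ Pt.rep i : Subgroup H)) ∣ 2 := hi ▸ Subgroup.card_dvd_of_le inf_le_right
    have d2 : Nat.card ((N ⊓ Pt.rep j : Subgroup H)) ∣ 3 := hj ▸ Subgroup.card_dvd_of_le inf_le_right
    have d3 : Nat.card ((N ⊓ Pt.rep k : Subgroup H)) ∣ 5 := hk ▸ Subgroup.card_dvd_of_le inf_le_right
    have hdvd : Nat.card N ∣ 60 := hH ▸ Subgroup.card_subgroup_dvd_card N
    have hpos : 0 < Nat.card N := Nat.card_pos
    have key : Nat.card N = 1 ∨ Nat.card N = 60 := by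
      rcases (Nat.dvd_prime Nat.prime_two).mp d1 with e1 | e1 <;>
      rcases (Nat.dvd_prime Nat.prime_three).mp d2 with e2 | e2 <;>
      rcases (Nat.dvd_prime Nat.prime_five).mp d3 with e3 | e3 <;>
      rw [e1, e2, e3] at hcount
      · left; omega
      · exfalso
        have : Nat.card N = 25 := by omega
        rw [this] at hdvd; norm_num at hdvd
      · exfalso
        have : Nat.card N = 21 := by omega
        rw [this] at hdvd; norm_num at hdvd
      · exfalso
        have : Nat.card N = 45 := by omega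
        rw [this] at hdvd; norm_num at hdvd
      · exfalso
        have : Nat.card N = 16 := by omega
        rw [this] at hdvd; norm_num at hdvd
      · exfalso
        have : Nat.card N = 40 := by omega
        rw [this] at hdvd; norm_num at hdvd
      · exfalso
        have : Nat.card N = 36 := by omega
        rw [this] at hdvd; norm_num at hdvd
      · right; omega
    rcases key with h1 | h60
    · left; exact Subgroup.card_eq_one.mp h1
    · right
      apply Subgroup.eq_top_of_card_eq
      rw [h60, hH]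
  exact Cfsg.Agent.S0494.result hH

variable [hp : Fact p.Prime]

/-- The structural outcome of the class equation. -/
theorem main :
    Nat.card H = 1 ∨ (∃ A ∈ Pt.mem, normalizer (A : Set H) = ⊤) ∨
    Nonempty (H ≃* alternatingGroup (Fin 4)) ∨ Nonempty (H ≃* Equiv.Perm (Fin 4)) ∨
    Nonempty (H ≃* alternatingGroup (Fin 5)) ∨
    (∃ Q ∈ Pt.unip, (normalizer (Q : Set H)).index = Nat.card Q + 1 ∧
      (Q.relIndex (normalizer (Q : Set H)) = Nat.card Q - 1 ∨
        2 * Q.relIndex (normalizer (Q : Set H)) = Nat.card Q - 1)) := by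
  rcases Pt.numeric with h | h | ⟨h, A, -, hA, hN⟩ |
    ⟨h, i, j, k, hall, hij, hik, hjk, h1, h2, h3, c1, c2, c3⟩ |
    ⟨h, i, j, k, hall, hij, hik, hjk, h1, h2, h3, c1, c2, c3⟩ | h
  · left; exact h
  · right; left; exact h
  · right; right; left; exact equiv_A4 h A hA hN
  · right; right; right; left
    exact Pt.equiv_S4 h i j k hall hij hik hjk h1 h2 h3 c1 c2 c3
  · right; right; right; right; left
    exact Pt.equiv_A5 h i j k hall hij hik hjk h1 h2 h3 c1 c2 c3
  · right; right; right; right; right; exact h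

end Part

end Cfsg.Agent.Helper8.Dk
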