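import Mathlib
import Cfsg.Agent.Helper8.DkPartE

set_option autoImplicit false

/-!
A conjugation-invariant partition of a finite group `G` by subgroups of two kinds restricts to a
partition (in the sense of `Part`) of every subgroup of `G`.
-/

namespace Cfsg.Agent.Helper8.Dk

open Subgroup

section Basic

variable {G : Type*} [Group G]

theorem cj_subgroupOf (H : Subgroup G) (h : H) (M : Subgroup G) :
    cj h (M.subgroupOf H) = (cj (h : G) M).subgroupOf H := by
  ext x
  rw [mem_cj, mem_subgroupOf, mem_subgroupOf, mem_cj]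
  rfl

theorem card_subgroupOf' (M H : Subgroup G) :
    Nat.card (M.subgroupOf H) = Nat.card (M ⊓ H : Subgroup G) := by
  rw [← Subgroup.subgroupOf_map_subtype, Subgroup.card_map_of_injective H.subtype_injective]

theorem relIndex_le_two {K N : Subgroup G}
    (h : ∀ x ∈ N, ∀ y ∈ N, x ∉ K → y ∉ K → x * y ∈ K) : K.relIndex N ≤ 2 := by
  by_cases hNK : N ≤ K
  · rw [Subgroup.relIndex_eq_one.mpr hNK]; norm_num
  · obtain ⟨w, hwN, hwK⟩ := Set.not_subset.mp hNK
    have : (K.subgroupOf N).index = 2 := by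
      rw [Subgroup.index_eq_two_iff]
      refine ⟨⟨w, hwN⟩, ?_⟩
      rintro ⟨b, hb⟩
      rw [mem_subgroupOf, mem_subgroupOf]
      change Xor (b * w ∈ K) (b ∈ K)
      by_cases hbK : b ∈ K
      · right
        refine ⟨hbK, ?_⟩
        intro h'
        apply hwK
        have := K.mul_mem (K.inv_mem hbK) h'
        rwa [inv_mul_cancel_left] at this
      · left
        exact ⟨h b hb w hwN hbK hwK, hbK⟩
    unfold Subgroup.relIndex
    rw [this]

theorem card_inf_mul_relIndex (M K : Subgroup G) :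
    Nat.card (M ⊓ K : Subgroup G) * M.relIndex K = Nat.card K := by
  rw [← Subgroup.inf_relIndex_right]
  exact card_mul_relIndex inf_le_right

end Basic

/-- A partition of a group by subgroups of two kinds, invariant under conjugation. -/
structure GPart (G : Type*) [Group G] (p : ℕ) where
  /-- the members -/
  mem : Set (Subgroup G)
  /-- the unipotent members -/
  unip : Set (Subgroup G)
  unip_sub : unip ⊆ mem
  cover : ∀ x : G, x ≠ 1 → ∃ M ∈ mem, x ∈ M
  ti : ∀ M ∈ mem, ∀ M' ∈ mem, ∀ x : G, x ≠ 1 → x ∈ M → x ∈ M' → M = M'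
  conj_mem : ∀ M ∈ mem, ∀ g : G, cj g M ∈ mem
  conj_unip : ∀ M ∈ unip, ∀ g : G, cj g M ∈ unip
  comm : ∀ M ∈ mem, ∀ x ∈ M, ∀ y ∈ M, x * y = y * x
  tor_norm : ∀ M ∈ mem, M ∉ unip → ∀ x ∈ normalizer (M : Set G), ∀ y ∈ normalizer (M : Set G),
    x ∉ M → y ∉ M → x * y ∈ M
  unip_pgroup : ∀ M ∈ unip, IsPGroup p M
  unip_cent : ∀ M ∈ unip, ∀ m ∈ M, m ≠ 1 → ∀ g : G, g * m = m * g → g ∈ M
  unip_tor : ∀ M ∈ unip, ∀ H : Subgroup G, M ⊓ H ≠ ⊥ → ∀ k : ℕ,
    Nat.card (M ⊓ H : Subgroup G) * k = Nat.card (normalizer (M : Set G) ⊓ H : Subgroup G) →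
    2 ≤ k → ∃ M' ∈ mem, M' ∉ unip ∧ Nat.card (M' ⊓ H : Subgroup G) = k

namespace GPart

variable {G : Type*} [Group G] {p : ℕ} (P : GPart G p) (H : Subgroup G)

theorem exists_ne_one_of_ne_bot {X : Type*} [Group X] {A : Subgroup X} (hA : A ≠ ⊥) :
    ∃ x ∈ A, x ≠ 1 := by
  by_contra hcon
  push Not at hcon
  exact hA ((Subgroup.eq_bot_iff_forall A).mpr hcon)

theorem eq_of_subgroupOf_eq {M M' : Subgroup G} (hM : M ∈ P.mem) (hM' : M' ∈ P.mem)
    (hne : M.subgroupOf H ≠ ⊥) (h : M.subgroupOf H = M'.subgroupOf H) : M = M' := by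
  obtain ⟨x, hx, hx1⟩ := exists_ne_one_of_ne_bot hne
  have hx' : x ∈ M'.subgroupOf H := h ▸ hx
  rw [mem_subgroupOf] at hx hx'
  exact P.ti M hM M' hM' (x : G) (fun h1 => hx1 (Subtype.ext h1)) hx hx'

theorem normalizer_subgroupOf {M : Subgroup G} (hM : M ∈ P.mem) (hne : M.subgroupOf H ≠ ⊥) :
    normalizer ((M.subgroupOf H : Subgroup H) : Set H) =
      (normalizer (M : Set G)).subgroupOf H := by
  ext h
  rw [← cj_eq_self_iff, cj_subgroupOf, mem_subgroupOf, ← cj_eq_self_iff]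
  constructor
  · intro hh
    have hne' : (cj (h : G) M).subgroupOf H ≠ ⊥ := by rw [hh]; exact hne
    exact P.eq_of_subgroupOf_eq H (P.conj_mem M hM h) hM hne' hh
  · intro hh
    rw [hh]

/-- the restriction of the partition to a subgroup -/
def restrict [hp : Fact p.Prime] [Finite G] : Part H p where
  mem := {A | A ≠ ⊥ ∧ ∃ M ∈ P.mem, A = M.subgroupOf H}
  unip := {A | A ≠ ⊥ ∧ ∃ M ∈ P.unip, A = M.subgroupOf H}
  unip_sub := fun A ⟨hA, M, hM, hAM⟩ => ⟨hA, M, P.unip_sub hM, hAM⟩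
  ne_bot := fun A hA => hA.1
  cover := by
    intro x hx
    have hx' : (x : G) ≠ 1 := fun h => hx (Subtype.ext h)
    obtain ⟨M, hM, hxM⟩ := P.cover x hx'
    refine ⟨M.subgroupOf H, ⟨?_, M, hM, rfl⟩, mem_subgroupOf.mpr hxM⟩
    intro hb
    have : x ∈ M.subgroupOf H := mem_subgroupOf.mpr hxM
    rw [hb, Subgroup.mem_bot] at this
    exact hx this
  ti := by
    rintro A ⟨-, M, hM, rfl⟩ B ⟨-, M', hM', rfl⟩ x hx hxA hxB
    rw [mem_subgroupOf] at hxA hxB
    rw [P.ti M hM M' hM' (x : G) (fun h => hx (Subtype.ext h)) hxA hxB]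
  conj_mem := by
    rintro A ⟨hA, M, hM, rfl⟩ h
    exact ⟨cj_ne_bot hA, cj (h : G) M, P.conj_mem M hM h, cj_subgroupOf H h M⟩
  conj_unip := by
    rintro A ⟨hA, M, hM, rfl⟩ h
    exact ⟨cj_ne_bot hA, cj (h : G) M, P.conj_unip M hM h, cj_subgroupOf H h M⟩
  tor_norm := by
    rintro A ⟨hA, M, hM, rfl⟩ hnu
    have hMu : M ∉ P.unip := fun h => hnu ⟨hA, M, h, rfl⟩
    apply relIndex_le_two
    intro x hx y hy hxA hyA
    rw [P.normalizer_subgroupOf H hM hA, mem_subgroupOf] at hx hy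
    rw [mem_subgroupOf] at hxA hyA ⊢
    exact P.tor_norm M hM hMu x hx y hy hxA hyA
  unip_pgroup := by
    rintro A ⟨-, M, hM, rfl⟩
    exact (P.unip_pgroup M hM).comap_subtype
  unip_max := by
    rintro A ⟨hA, M, hM, rfl⟩ B hB hAB
    obtain ⟨a, haA, ha1⟩ := exists_ne_one_of_ne_bot hA
    have haM : (a : G) ∈ M := mem_subgroupOf.mp haA
    have ha1' : (a : G) ≠ 1 := fun h => ha1 (Subtype.ext h)
    haveI : Nontrivial B := ⟨⟨⟨a, hAB haA⟩, 1, fun h => ha1 (congrArg Subtype.val h)⟩⟩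
    haveI : Nontrivial (center B) := hB.center_nontrivial
    obtain ⟨z, hz⟩ := exists_ne (1 : center B)
    have hz1 : ((z : B) : H) ≠ 1 := by
      intro h
      apply hz
      apply Subtype.ext
      apply Subtype.ext
      exact h
    have hzc : ∀ b : B, (b : H) * ((z : B) : H) = ((z : B) : H) * (b : H) := by
      intro b
      have := Subgroup.mem_center_iff.mp z.2 b
      exact congrArg Subtype.val this
    have hzM : (((z : B) : H) : G) ∈ M := by
      apply P.unip_cent M hM a haM ha1'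
      have := hzc ⟨a, hAB haA⟩
      exact (congrArg Subtype.val this).symm
    apply le_antisymm _ hAB
    intro b hb
    rw [mem_subgroupOf]
    apply P.unip_cent M hM _ hzM (fun h => hz1 (Subtype.ext h))
    have := hzc ⟨b, hb⟩
    exact congrArg Subtype.val this
  unip_comm := by
    rintro A ⟨-, M, hM, rfl⟩ x hx y hy
    rw [mem_subgroupOf] at hx hy
    exact Subtype.ext (P.comm M (P.unip_sub hM) x hx y hy)
  unip_free := by
    rintro A ⟨-, M, hM, rfl⟩ w - hwA m hm hm1 hcomm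
    apply hwA
    rw [mem_subgroupOf] at hm ⊢
    exact P.unip_cent M hM m hm (fun h => hm1 (Subtype.ext h)) w (congrArg Subtype.val hcomm)
  unip_tor := by
    rintro A ⟨hA, M, hM, rfl⟩ hk
    have hne : M ⊓ H ≠ ⊥ := by
      intro hb
      apply hA
      rw [Subgroup.subgroupOf_eq_bot, disjoint_iff, hb]
    have hcard := card_mul_relIndex (Subgroup.le_normalizer (H := M.subgroupOf H))
    rw [P.normalizer_subgroupOf H (P.unip_sub hM) hA, card_subgroupOf', card_subgroupOf'] at hcard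
    rw [P.normalizer_subgroupOf H (P.unip_sub hM) hA] at hk
    obtain ⟨M', hM', hM'u, hcard'⟩ := P.unip_tor M hM H hne _ hcard hk
    have hne' : M'.subgroupOf H ≠ ⊥ := by
      rw [← Subgroup.one_lt_card_iff_ne_bot, card_subgroupOf', hcard']
      omega
    refine ⟨M'.subgroupOf H, ⟨hne', M', hM', rfl⟩, ?_, ?_⟩
    · rintro ⟨-, M'', hM'', hMM⟩
      apply hM'u
      rw [P.eq_of_subgroupOf_eq H hM' (P.unip_sub hM'') hne' hMM]
      exact hM''
    · rw [card_subgroupOf', hcard', P.normalizer_subgroupOf H (P.unip_sub hM) hA]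

/-- The structural outcome of the class equation for a subgroup of a partitioned group. -/
theorem main [hp : Fact p.Prime] [Finite G] :
    Nat.card H = 1 ∨ (∃ M ∈ P.mem, M ⊓ H ≠ ⊥ ∧ H ≤ normalizer (M : Set G)) ∨
    Nonempty (H ≃* alternatingGroup (Fin 4)) ∨ Nonempty (H ≃* Equiv.Perm (Fin 4)) ∨
    Nonempty (H ≃* alternatingGroup (Fin 5)) ∨
    (∃ M ∈ P.unip, ∃ a k : ℕ, 2 ≤ a ∧ Nat.card (M ⊓ H : Subgroup G) = a ∧
      Nat.card (normalizer (M : Set G) ⊓ H : Subgroup G) = a * k ∧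
      Nat.card H = (a + 1) * (a * k) ∧ (k = a - 1 ∨ 2 * k = a - 1)) := by
  rcases (P.restrict H).main with h | ⟨A, ⟨hA, M, hM, rfl⟩, hN⟩ | h | h | h |
    ⟨Q, ⟨hQ, M, hM, rfl⟩, hidx, hrel⟩
  · left; exact h
  · right; left
    refine ⟨M, hM, ?_, ?_⟩
    · intro hb
      apply hA
      rw [Subgroup.subgroupOf_eq_bot, disjoint_iff, hb]
    · rw [P.normalizer_subgroupOf H hM hA, Subgroup.subgroupOf_eq_top] at hN
      exact hN
  · right; right; left; exact h
  · right; right; right; left; exact h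
  · right; right; right; right; left; exact h
  · right; right; right; right; right
    rw [P.normalizer_subgroupOf H (P.unip_sub hM) hQ] at hidx hrel
    have hcard := card_mul_relIndex (Subgroup.le_normalizer (H := M.subgroupOf H))
    rw [P.normalizer_subgroupOf H (P.unip_sub hM) hQ] at hcard
    have hidx' := Subgroup.card_mul_index ((normalizer (M : Set G)).subgroupOf H)
    rw [hidx] at hidx'
    rw [card_subgroupOf'] at hcard hidx' hrel
    rw [card_subgroupOf'] at hcard hidx'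
    refine ⟨M, hM, Nat.card (M ⊓ H : Subgroup G),
      (M.subgroupOf H).relIndex ((normalizer (M : Set G)).subgroupOf H), ?_, rfl, hcard.symm, ?_, hrel⟩
    · have := (Subgroup.one_lt_card_iff_ne_bot (M.subgroupOf H)).mpr hQ
      rw [card_subgroupOf'] at this
      omega
    · rw [← hidx', ← hcard]; ring

end GPart

end Cfsg.Agent.Helper8.Dk
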