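import Mathlib
import Cfsg.Agent.Helper8.DkGPart

set_option autoImplicit false

/-!
Conjugation, images and preimages of subgroups under a surjective homomorphism.
-/

namespace Cfsg.Agent.Helper8.Dk

open Subgroup

variable {L G : Type*} [Group L] [Group G] (f : L →* G)

theorem map_cj (g : L) (A : Subgroup L) : (cj g A).map f = cj (f g) (A.map f) := by
  ext x
  constructor
  · rintro ⟨y, hy, rfl⟩
    have hy' : y ∈ cj g A := hy
    rw [mem_cj] at hy' ⊢
    exact ⟨g⁻¹ * y * g, hy', by simp⟩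
  · intro hx
    rw [mem_cj] at hx
    obtain ⟨y, hy, hyx⟩ := hx
    refine ⟨g * y * g⁻¹, conj_mem_cj hy, ?_⟩
    rw [map_mul, map_mul, hyx, map_inv]
    group

theorem comap_cj (g : L) (K : Subgroup G) : (cj (f g) K).comap f = cj g (K.comap f) := by
  ext x
  rw [mem_comap, mem_cj, mem_cj, mem_comap]
  simp

theorem centralizer_conj (c y : L) :
    centralizer ({c * y * c⁻¹} : Set L) = cj c (centralizer ({y} : Set L)) := by
  ext h
  rw [mem_cj, mem_centralizer_singleton_iff, mem_centralizer_singleton_iff]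
  constructor
  · intro e
    have : c⁻¹ * (c * y * c⁻¹ * h) * c = c⁻¹ * (h * (c * y * c⁻¹)) * c := by rw [e]
    have e1 : c⁻¹ * (c * y * c⁻¹ * h) * c = y * (c⁻¹ * h * c) := by group
    have e2 : c⁻¹ * (h * (c * y * c⁻¹)) * c = c⁻¹ * h * c * y := by group
    rw [e1, e2] at this
    exact this.symm
  · intro e
    have : c * (y * (c⁻¹ * h * c)) * c⁻¹ = c * (c⁻¹ * h * c * y) * c⁻¹ := by rw [e]
    have e1 : c * (y * (c⁻¹ * h * c)) * c⁻¹ = c * y * c⁻¹ * h := by group
    have e2 : c * (c⁻¹ * h * c * y) * c⁻¹ = h * (c * y * c⁻¹) := by group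
    rw [e1, e2] at this
    exact this.symm

theorem card_comap_of_surjective [Finite L] (hf : Function.Surjective f) (K : Subgroup G) :
    Nat.card (K.comap f) = Nat.card f.ker * Nat.card K := by
  haveI : Finite G := Finite.of_surjective f hf
  have h1 := Subgroup.card_mul_index (K.comap f)
  rw [Subgroup.index_comap_of_surjective K hf] at h1
  have h2 := Subgroup.card_mul_index K
  have h3 := Subgroup.card_eq_card_quotient_mul_card_subgroup f.ker
  rw [Nat.card_congr (QuotientGroup.quotientKerEquivOfSurjective f hf).toEquiv] at h3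
  have hpos : 0 < K.index := Nat.pos_of_ne_zero Subgroup.index_ne_zero_of_finite
  apply Nat.eq_of_mul_eq_mul_right hpos
  rw [h1, h3, ← h2]
  ring

theorem comap_inf' (A B : Subgroup G) : (A ⊓ B).comap f = A.comap f ⊓ B.comap f :=
  Subgroup.comap_inf A B f

/-- counting a subgroup factored as a product of two subgroups with trivial intersection -/
theorem card_eq_mul_of_factor {Q C N : Subgroup G} (hQ : Q ≤ N) (hC : C ≤ N) (hd : Q ⊓ C = ⊥)
    (hfac : ∀ n ∈ N, ∃ q ∈ Q, ∃ c ∈ C, n = q * c) : Nat.card N = Nat.card Q * Nat.card C := by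
  rw [← Nat.card_prod]
  symm
  apply Nat.card_congr
  refine Equiv.ofBijective (fun x : Q × C => (⟨x.1.1 * x.2.1, N.mul_mem (hQ x.1.2) (hC x.2.2)⟩ : N))
    ⟨?_, ?_⟩
  · rintro ⟨⟨q, hq⟩, ⟨c, hc⟩⟩ ⟨⟨q', hq'⟩, ⟨c', hc'⟩⟩ h
    have h' : q * c = q' * c' := congrArg Subtype.val h
    have h1 : q'⁻¹ * q = c' * c⁻¹ := by
      have : q'⁻¹ * (q * c) * c⁻¹ = q'⁻¹ * (q' * c') * c⁻¹ := by rw [h']
      have e1 : q'⁻¹ * (q * c) * c⁻¹ = q'⁻¹ * q := by group
      have e2 : q'⁻¹ * (q' * c') * c⁻¹ = c' * c⁻¹ := by group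
      rw [e1, e2] at this
      exact this
    have h2 : q'⁻¹ * q ∈ Q ⊓ C :=
      ⟨Q.mul_mem (Q.inv_mem hq') hq, by rw [h1]; exact C.mul_mem hc' (C.inv_mem hc)⟩
    rw [hd, Subgroup.mem_bot] at h2
    have hq_eq : q = q' := by
      have : q' * (q'⁻¹ * q) = q' * 1 := by rw [h2]
      rwa [mul_inv_cancel_left, mul_one] at this
    subst hq_eq
    have hc_eq : c = c' := mul_left_cancel h'
    subst hc_eq
    rfl
  · rintro ⟨n, hn⟩
    obtain ⟨q, hq, c, hc, rfl⟩ := hfac n hn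
    exact ⟨⟨⟨q, hq⟩, ⟨c, hc⟩⟩, rfl⟩

end Cfsg.Agent.Helper8.Dk
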