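import Mathlib
import Cfsg.Agent.Helper8.PSL2Cent
import Cfsg.Agent.Helper7.FiniteFieldBasics

set_option autoImplicit false

/-!
The sizes of the conjugacy classes of `PSL₂(q)`, `q` odd.
-/

namespace Cfsg.Agent.Helper8.SL2C

open Matrix Cfsg.Agent.Helper7.SL2
open scoped Matrix

variable {F : Type*} [Field F]

theorem index_centralizer_eq_of_isConj' {G : Type*} [Group G] {g h : G} (hc : IsConj g h) :
    (Subgroup.centralizer ({g} : Set G)).index = (Subgroup.centralizer ({h} : Set G)).index := by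
  rw [Cfsg.Agent.Helper4.index_centralizer_eq_card_carrier,
    Cfsg.Agent.Helper4.index_centralizer_eq_card_carrier, ConjClasses.mk_eq_mk_iff_isConj.mpr hc]

/-- the class size of the image of `g` in `PSL₂`. -/
noncomputable def csize (g : SpecialLinearGroup (Fin 2) F) : ℕ :=
  (Subgroup.centralizer ({pmk g} : Set (ProjectiveSpecialLinearGroup (Fin 2) F))).index

theorem csize_eq_of_isConj {g h : SpecialLinearGroup (Fin 2) F} (hc : IsConj g h) :
    csize g = csize h :=
  index_centralizer_eq_of_isConj' (isConj_pmk hc)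

theorem csize_neg (g : SpecialLinearGroup (Fin 2) F) : csize (-g) = csize g := by
  unfold csize
  rw [pmk_neg]

theorem csize_one : csize (1 : SpecialLinearGroup (Fin 2) F) = 1 := by
  unfold csize
  have : Subgroup.centralizer ({pmk (1 : SpecialLinearGroup (Fin 2) F)} :
      Set (ProjectiveSpecialLinearGroup (Fin 2) F)) = ⊤ := by
    rw [eq_top_iff]
    intro h _
    rw [Subgroup.mem_centralizer_singleton_iff]
    change h * 1 = 1 * h
    rw [one_mul, mul_one]
  rw [this, Subgroup.index_top]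

theorem sq_eq_neg_one_of_tr {g : SpecialLinearGroup (Fin 2) F} (ht : tr g = 0) : g * g = -1 := by
  have hd := det_eq g
  unfold tr at ht
  have h11 : (g : Matrix (Fin 2) (Fin 2) F) 1 1 = -(g : Matrix (Fin 2) (Fin 2) F) 0 0 := by
    linear_combination ht
  rw [h11] at hd
  apply ext'
  · rw [coe_mul_apply, neg_apply, one_00]; linear_combination -hd
  · rw [coe_mul_apply, neg_apply, one_01, h11]; ring
  · rw [coe_mul_apply, neg_apply, one_10, h11]; ring
  · rw [coe_mul_apply, neg_apply, one_11, h11]; linear_combination -hd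

theorem isEll_of_mem_Tc {t : F} (ht : Ellt t) {g : SpecialLinearGroup (Fin 2) F} (hg : g ∈ Tc t)
    (hz : (g : Matrix (Fin 2) (Fin 2) F) 1 0 ≠ 0) : IsEll g := by
  rw [isEll_iff_ellt]
  intro l hl
  have hn := norm_of_mem_Tc hg
  unfold tr at hl
  rw [hg.2] at hl
  apply ht ((l - (g : Matrix (Fin 2) (Fin 2) F) 0 0) / (g : Matrix (Fin 2) (Fin 2) F) 1 0)
  field_simp
  linear_combination hl + hn

section Odd

variable [Fintype F]

/-- class sizes, in terms of `k` with `q = 2k + 1`. -/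
theorem csize_up (h2 : (2 : F) ≠ 0) {k : ℕ} (hk : Fintype.card F = 2 * k + 1) {β : F} (hβ : β ≠ 0) :
    csize (up β) = 2 * (k * (k + 1)) := by
  unfold csize
  have ht : tr (up β) ≠ 0 := by rw [tr_up]; exact h2
  rw [index_centralizer_pmk, Cstar_eq_of_tr_ne h2 ht, centralizer_up hβ]
  apply index_of_card (card_ZU h2)
  have : Fintype.card F ^ 2 - 1 = 4 * (k * (k + 1)) := by
    rw [hk]; apply Nat.sub_eq_of_eq_add; ring
  rw [this, hk]; ring

theorem csize_tor_ne (h2 : (2 : F) ≠ 0) {k : ℕ} (hk : Fintype.card F = 2 * k + 1) {a : Fˣ}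
    (ha : (a : F) ^ 2 ≠ 1) (ht : tr (tor a) ≠ 0) :
    csize (tor a) = (2 * k + 1) * (2 * k + 2) := by
  unfold csize
  rw [index_centralizer_pmk, Cstar_eq_of_tr_ne h2 ht]
  apply index_of_card (card_centralizer_tor ha)
  have : Fintype.card F ^ 2 - 1 = 4 * (k * (k + 1)) := by
    rw [hk]; apply Nat.sub_eq_of_eq_add; ring
  rw [this, hk, Nat.add_sub_cancel]; ring

theorem csize_tor_eq (h2 : (2 : F) ≠ 0) {k : ℕ} (hk : Fintype.card F = 2 * k + 1) {a : Fˣ}
    (ha : (a : F) ^ 2 ≠ 1) (ht : tr (tor a) = 0) :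
    csize (tor a) = (2 * k + 1) * (k + 1) := by
  unfold csize
  rw [index_centralizer_pmk]
  apply index_of_card (card_Cstar_of_tr_eq h2 ht)
  rw [card_centralizer_tor ha]
  have : Fintype.card F ^ 2 - 1 = 4 * (k * (k + 1)) := by
    rw [hk]; apply Nat.sub_eq_of_eq_add; ring
  rw [this, hk, Nat.add_sub_cancel]; ring

theorem csize_ell_ne (h2 : (2 : F) ≠ 0) {k : ℕ} (hk : Fintype.card F = 2 * k + 1)
    {g : SpecialLinearGroup (Fin 2) F} (hg : IsEll g) (ht : tr g ≠ 0) :
    csize g = (2 * k + 1) * (2 * k) := by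
  unfold csize
  rw [index_centralizer_pmk, Cstar_eq_of_tr_ne h2 ht]
  apply index_of_card (card_centralizer_of_ell hg)
  have : Fintype.card F ^ 2 - 1 = 4 * (k * (k + 1)) := by
    rw [hk]; apply Nat.sub_eq_of_eq_add; ring
  rw [this, hk]; ring

theorem csize_ell_eq (h2 : (2 : F) ≠ 0) {k : ℕ} (hk : Fintype.card F = 2 * k + 1)
    {g : SpecialLinearGroup (Fin 2) F} (hg : IsEll g) (ht : tr g = 0) :
    csize g = (2 * k + 1) * k := by
  unfold csize
  rw [index_centralizer_pmk]
  apply index_of_card (card_Cstar_of_tr_eq h2 ht)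
  rw [card_centralizer_of_ell hg]
  have : Fintype.card F ^ 2 - 1 = 4 * (k * (k + 1)) := by
    rw [hk]; apply Nat.sub_eq_of_eq_add; ring
  rw [this, hk]; ring

theorem tr_tor_eq_zero_iff {a : Fˣ} : tr (tor a) = 0 ↔ (a : F) ^ 2 = -1 := by
  rw [tr_tor, Units.val_inv_eq_inv_val]
  have ha := a.ne_zero
  constructor
  · intro h
    field_simp at h
    linear_combination h
  · intro h
    field_simp
    linear_combination h

theorem ellt_zero_iff : Ellt (0 : F) ↔ ¬ IsSquare (-1 : F) := by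
  constructor
  · rintro h ⟨r, hr⟩
    apply h r
    linear_combination -hr
  · intro h l hl
    apply h
    exact ⟨l, by linear_combination -hl⟩

/-- the possible class sizes. -/
theorem csize_cases (h2 : (2 : F) ≠ 0) {k : ℕ} (hk : Fintype.card F = 2 * k + 1)
    (g : SpecialLinearGroup (Fin 2) F) :
    csize g = 1 ∨ csize g = 2 * (k * (k + 1)) ∨ csize g = (2 * k + 1) * (2 * k + 2) ∨
      csize g = (2 * k + 1) * (2 * k) ∨
      (csize g = (2 * k + 1) * (k + 1) ∧ IsSquare (-1 : F)) ∨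
      (csize g = (2 * k + 1) * k ∧ ¬ IsSquare (-1 : F)) := by
  have hupcase : ∀ β : F, csize (up β) = 1 ∨ csize (up β) = 2 * (k * (k + 1)) := by
    intro β
    by_cases hβ : β = 0
    · left; rw [hβ, up_zero]; exact csize_one
    · right; exact csize_up h2 hk hβ
  rcases classify g with hg | ⟨a, ha, hc⟩ | ⟨β, hc⟩ | ⟨β, hc⟩
  · by_cases ht : tr g = 0
    · right; right; right; right; right
      refine ⟨csize_ell_eq h2 hk hg ht, ?_⟩
      rw [← ellt_zero_iff, ← ht]
      exact isEll_iff_ellt.mp hg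
    · right; right; right; left
      exact csize_ell_ne h2 hk hg ht
  · rw [csize_eq_of_isConj hc]
    by_cases ht : tr (tor a) = 0
    · right; right; right; right; left
      refine ⟨csize_tor_eq h2 hk ha ht, ?_⟩
      exact ⟨(a : F), by rw [← sq]; exact (tr_tor_eq_zero_iff.mp ht).symm⟩
    · right; right; left
      exact csize_tor_ne h2 hk ha ht
  · rw [csize_eq_of_isConj hc]
    rcases hupcase β with h | h
    · exact Or.inl h
    · exact Or.inr (Or.inl h)
  · rw [csize_eq_of_isConj hc, csize_neg]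
    rcases hupcase β with h | h
    · exact Or.inl h
    · exact Or.inr (Or.inl h)

/-- a split element with non-zero trace, `q ≥ 7`. -/
theorem exists_csize_split (h2 : (2 : F) ≠ 0) {k : ℕ} (hk : Fintype.card F = 2 * k + 1) (h3 : 3 ≤ k) :
    ∃ g : SpecialLinearGroup (Fin 2) F, csize g = (2 * k + 1) * (2 * k + 2) := by
  obtain ⟨a, ha⟩ := IsCyclic.exists_ofOrder_eq_natCard (α := Fˣ)
  rw [Nat.card_units, Nat.card_eq_fintype_card, hk, Nat.add_sub_cancel] at ha
  have h4 : (a : F) ^ 4 ≠ 1 := by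
    intro h
    have : a ^ 4 = 1 := Units.ext (by rw [Units.val_pow_eq_pow_val, h, Units.val_one])
    have := orderOf_dvd_of_pow_eq_one this
    rw [ha] at this
    have := Nat.le_of_dvd (by norm_num) this
    omega
  refine ⟨tor a, csize_tor_ne h2 hk ?_ ?_⟩
  · intro h
    apply h4
    have : (a : F) ^ 4 = ((a : F) ^ 2) ^ 2 := by ring
    rw [this, h, one_pow]
  · intro h
    apply h4
    have : (a : F) ^ 4 = ((a : F) ^ 2) ^ 2 := by ring
    rw [this, tr_tor_eq_zero_iff.mp h]; ring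

/-- an elliptic element with non-zero trace, `q ≥ 5`. -/
theorem exists_csize_ell (h2 : (2 : F) ≠ 0) {k : ℕ} (hk : Fintype.card F = 2 * k + 1) (h3 : 2 ≤ k) :
    ∃ g : SpecialLinearGroup (Fin 2) F, csize g = (2 * k + 1) * (2 * k) := by
  obtain ⟨t₀, ht₀⟩ := exists_ellt (F := F)
  haveI := isCyclic_Tc (ellt_sq_ne ht₀)
  obtain ⟨g, hg⟩ := IsCyclic.exists_ofOrder_eq_natCard (α := Tc t₀)
  rw [card_Tc ht₀, hk] at hg
  have hto : orderOf (g : SpecialLinearGroup (Fin 2) F) = 2 * k + 1 + 1 := by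
    rw [Subgroup.orderOf_coe, hg]
  have hnot : ∀ m : ℕ, 0 < m → m ≤ 4 → (g : SpecialLinearGroup (Fin 2) F) ^ m ≠ 1 := by
    intro m hm hm4 h
    have := orderOf_dvd_of_pow_eq_one h
    rw [hto] at this
    have := Nat.le_of_dvd hm this
    omega
  refine ⟨g, csize_ell_ne h2 hk (isEll_of_mem_Tc ht₀ g.2 ?_) ?_⟩
  · intro hz
    rcases eq_one_or_neg_one_of_mem_Tc g.2 hz with h | h
    · exact hnot 1 (by norm_num) (by norm_num) (by rw [pow_one]; exact h)
    · exact hnot 2 (by norm_num) (by norm_num) (by rw [pow_two, h, neg_one_mul_neg_one])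
  · intro ht
    have h := sq_eq_neg_one_of_tr ht
    apply hnot 4 (by norm_num) (by norm_num)
    have : (g : SpecialLinearGroup (Fin 2) F) ^ 4 =
        ((g : SpecialLinearGroup (Fin 2) F) * g) * ((g : SpecialLinearGroup (Fin 2) F) * g) := by
      rw [show 4 = 2 + 2 from rfl, pow_add, pow_two]
    rw [this, h, neg_one_mul_neg_one]

theorem exists_csize_split_zero (h2 : (2 : F) ≠ 0) {k : ℕ} (hk : Fintype.card F = 2 * k + 1)
    (hsq : IsSquare (-1 : F)) :
    ∃ g : SpecialLinearGroup (Fin 2) F, csize g = (2 * k + 1) * (k + 1) := by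
  obtain ⟨i, hi⟩ := hsq
  have hi0 : i ≠ 0 := by
    rintro rfl
    rw [mul_zero] at hi
    exact neg_ne_zero.mpr one_ne_zero hi
  have hi2 : ((Units.mk0 i hi0 : Fˣ) : F) ^ 2 = -1 := by rw [Units.val_mk0, sq]; exact hi.symm
  refine ⟨tor (Units.mk0 i hi0), csize_tor_eq h2 hk ?_ (tr_tor_eq_zero_iff.mpr hi2)⟩
  rw [hi2]
  intro h
  apply h2
  linear_combination -h

theorem exists_csize_ell_zero (h2 : (2 : F) ≠ 0) {k : ℕ} (hk : Fintype.card F = 2 * k + 1)
    (hsq : ¬ IsSquare (-1 : F)) :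
    ∃ g : SpecialLinearGroup (Fin 2) F, csize g = (2 * k + 1) * k := by
  refine ⟨comp 0, csize_ell_eq h2 hk ?_ (tr_comp 0)⟩
  rw [isEll_iff_ellt, tr_comp]
  exact ellt_zero_iff.mpr hsq

end Odd

end Cfsg.Agent.Helper8.SL2C
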