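import Mathlib
import Cfsg.Agent.Helper8.DkHom
import Cfsg.Agent.Helper8.PSL2ClassSize

set_option autoImplicit false

/-!
The maximal abelian subgroups of `SL₂(F)`: centralisers of non-central elements.
-/

namespace Cfsg.Agent.Helper8.Dk

open Matrix Cfsg.Agent.Helper7.SL2 Cfsg.Agent.Helper8.SL2C Subgroup
open scoped Matrix

variable {F : Type*} [Field F]

/-- the projection `SL₂ → PSL₂` as a homomorphism -/
abbrev ph (F : Type*) [Field F] :
    SpecialLinearGroup (Fin 2) F →* ProjectiveSpecialLinearGroup (Fin 2) F :=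
  QuotientGroup.mk' (Subgroup.center (SpecialLinearGroup (Fin 2) F))

theorem ph_apply (g : SpecialLinearGroup (Fin 2) F) : ph F g = pmk g := rfl

theorem ph_surjective : Function.Surjective (ph F) := QuotientGroup.mk'_surjective _

theorem ker_ph : (ph F).ker = center (SpecialLinearGroup (Fin 2) F) := QuotientGroup.ker_mk' _

theorem center_le_ZU : center (SpecialLinearGroup (Fin 2) F) ≤ ZU F := by
  intro g hg
  rcases mem_center_iff'.mp hg with rfl | rfl
  · exact (ZU F).one_mem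
  · refine ⟨?_, ?_⟩
    · rw [SL2C.neg_apply, one_10, neg_zero]
    · rw [SL2C.neg_apply, SL2C.neg_apply, one_00, one_11]

theorem center_le_Tc (t : F) : center (SpecialLinearGroup (Fin 2) F) ≤ Tc t := by
  intro g hg
  rcases mem_center_iff'.mp hg with rfl | rfl
  · exact (Tc t).one_mem
  · exact neg_one_mem_Tc t

theorem center_le_cj (c : SpecialLinearGroup (Fin 2) F) {A : Subgroup (SpecialLinearGroup (Fin 2) F)}
    (h : center (SpecialLinearGroup (Fin 2) F) ≤ A) :
    center (SpecialLinearGroup (Fin 2) F) ≤ cj c A := by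
  intro z hz
  rw [mem_cj]
  have : c⁻¹ * z * c = z := by
    rw [mul_assoc, ← Subgroup.mem_center_iff.mp hz c, inv_mul_cancel_left]
  rw [this]
  exact h hz

theorem comap_map_of_center_le {A : Subgroup (SpecialLinearGroup (Fin 2) F)}
    (h : center (SpecialLinearGroup (Fin 2) F) ≤ A) : (A.map (ph F)).comap (ph F) = A :=
  Subgroup.comap_map_eq_self (by rw [ker_ph]; exact h)

/-! ### the standard members -/

theorem eq_up_or_of_mem_ZU {y : SpecialLinearGroup (Fin 2) F} (hy : y ∈ ZU F) :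
    (∃ β : F, y = up β) ∨ (∃ β : F, y = -up β) := by
  have hB : y ∈ B F := hy.1
  have hsq := sq_eq_one_of_mem_ZU hy
  have h3 : ((y : Matrix (Fin 2) (Fin 2) F) 0 0 - 1) * ((y : Matrix (Fin 2) (Fin 2) F) 0 0 + 1) = 0 := by
    linear_combination hsq
  rcases mul_eq_zero.mp h3 with h | h
  · left
    exact ⟨_, up_of_mem_B hB (by linear_combination h)⟩
  · right
    exact ⟨_, neg_up_of_mem_B hB (by linear_combination h)⟩

theorem neg_up_zero : (-up (0 : F) : SpecialLinearGroup (Fin 2) F) = -1 := by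
  rw [up_zero]

theorem centralizer_of_mem_ZU {y : SpecialLinearGroup (Fin 2) F} (hy : y ∈ ZU F)
    (hyZ : y ∉ center (SpecialLinearGroup (Fin 2) F)) :
    centralizer ({y} : Set (SpecialLinearGroup (Fin 2) F)) = ZU F := by
  rw [mem_center_iff'] at hyZ
  push Not at hyZ
  rcases eq_up_or_of_mem_ZU hy with ⟨β, rfl⟩ | ⟨β, rfl⟩
  · have hβ : β ≠ 0 := by
      rintro rfl
      exact hyZ.1 up_zero
    exact centralizer_up hβ
  · have hβ : β ≠ 0 := by
      rintro rfl
      exact hyZ.2 neg_up_zero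
    rw [centralizer_neg]
    exact centralizer_up hβ

theorem centralizer_of_mem_Tc' {t : F} {y : SpecialLinearGroup (Fin 2) F} (hy : y ∈ Tc t)
    (hyZ : y ∉ center (SpecialLinearGroup (Fin 2) F)) :
    centralizer ({y} : Set (SpecialLinearGroup (Fin 2) F)) = Tc t := by
  apply centralizer_of_mem_Tc hy
  intro h0
  exact hyZ (mem_center_iff'.mpr (eq_one_or_neg_one_of_mem_Tc hy h0))

theorem tr_sq_of_mem_ZU {y : SpecialLinearGroup (Fin 2) F} (hy : y ∈ ZU F) : tr y ^ 2 = 4 := by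
  have hsq := sq_eq_one_of_mem_ZU hy
  unfold tr
  rw [← hy.2]
  linear_combination 4 * hsq

theorem tr_sq_of_mem_Tc {t : F} (ht : t ^ 2 ≠ 4) {y : SpecialLinearGroup (Fin 2) F} (hy : y ∈ Tc t)
    (hyZ : y ∉ center (SpecialLinearGroup (Fin 2) F)) : tr y ^ 2 ≠ 4 := by
  have h0 : (y : Matrix (Fin 2) (Fin 2) F) 1 0 ≠ 0 := by
    intro h0
    exact hyZ (mem_center_iff'.mpr (eq_one_or_neg_one_of_mem_Tc hy h0))
  have hn := norm_of_mem_Tc hy
  intro h
  unfold tr at h
  rw [hy.2] at h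
  have : (t ^ 2 - 4) * (y : Matrix (Fin 2) (Fin 2) F) 1 0 ^ 2 = 0 := by
    linear_combination h - 4 * hn
  rcases mul_eq_zero.mp this with h1 | h1
  · exact ht (by linear_combination h1)
  · exact h0 (pow_eq_zero_iff (two_ne_zero) |>.mp h1)

/-! ### the members in `SL₂` -/

/-- the unipotent members: conjugates of `±U` -/
def LU (F : Type*) [Field F] : Set (Subgroup (SpecialLinearGroup (Fin 2) F)) :=
  {A | ∃ c : SpecialLinearGroup (Fin 2) F, A = cj c (ZU F)}

/-- the toral members: conjugates of the centralisers of companion matrices -/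
def LT (F : Type*) [Field F] : Set (Subgroup (SpecialLinearGroup (Fin 2) F)) :=
  {A | ∃ c : SpecialLinearGroup (Fin 2) F, ∃ t : F, t ^ 2 ≠ 4 ∧ A = cj c (Tc t)}

theorem cj_mem_LU {A : Subgroup (SpecialLinearGroup (Fin 2) F)} (hA : A ∈ LU F)
    (g : SpecialLinearGroup (Fin 2) F) : cj g A ∈ LU F := by
  obtain ⟨c, rfl⟩ := hA
  exact ⟨g * c, (cj_mul g c _).symm⟩

theorem cj_mem_LT {A : Subgroup (SpecialLinearGroup (Fin 2) F)} (hA : A ∈ LT F)
    (g : SpecialLinearGroup (Fin 2) F) : cj g A ∈ LT F := by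
  obtain ⟨c, t, ht, rfl⟩ := hA
  exact ⟨g * c, t, ht, (cj_mul g c _).symm⟩

theorem center_le_of_mem_LU {A : Subgroup (SpecialLinearGroup (Fin 2) F)} (hA : A ∈ LU F) :
    center (SpecialLinearGroup (Fin 2) F) ≤ A := by
  obtain ⟨c, rfl⟩ := hA
  exact center_le_cj c center_le_ZU

theorem center_le_of_mem_LT {A : Subgroup (SpecialLinearGroup (Fin 2) F)} (hA : A ∈ LT F) :
    center (SpecialLinearGroup (Fin 2) F) ≤ A := by
  obtain ⟨c, t, -, rfl⟩ := hA
  exact center_le_cj c (center_le_Tc t)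

theorem conj_not_mem_center {c y : SpecialLinearGroup (Fin 2) F}
    (hy : y ∉ center (SpecialLinearGroup (Fin 2) F)) :
    c⁻¹ * y * c ∉ center (SpecialLinearGroup (Fin 2) F) := by
  intro h
  apply hy
  have h2 : c * (c⁻¹ * y * c) * c⁻¹ = c⁻¹ * y * c := by
    rw [Subgroup.mem_center_iff.mp h c, mul_inv_cancel_right]
  have h3 : c * (c⁻¹ * y * c) * c⁻¹ = y := by group
  rw [h3] at h2
  rw [h2]
  exact h

theorem conj_conj_inv (c y : SpecialLinearGroup (Fin 2) F) : c * (c⁻¹ * y * c) * c⁻¹ = y := by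
  group

/-- the centraliser of a non-central element of a member is the member -/
theorem centralizer_of_mem_LU {A : Subgroup (SpecialLinearGroup (Fin 2) F)} (hA : A ∈ LU F)
    {y : SpecialLinearGroup (Fin 2) F} (hy : y ∈ A)
    (hyZ : y ∉ center (SpecialLinearGroup (Fin 2) F)) :
    centralizer ({y} : Set (SpecialLinearGroup (Fin 2) F)) = A := by
  obtain ⟨c, rfl⟩ := hA
  rw [mem_cj] at hy
  rw [← conj_conj_inv c y, centralizer_conj, centralizer_of_mem_ZU hy (conj_not_mem_center hyZ)]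

theorem centralizer_of_mem_LT {A : Subgroup (SpecialLinearGroup (Fin 2) F)} (hA : A ∈ LT F)
    {y : SpecialLinearGroup (Fin 2) F} (hy : y ∈ A)
    (hyZ : y ∉ center (SpecialLinearGroup (Fin 2) F)) :
    centralizer ({y} : Set (SpecialLinearGroup (Fin 2) F)) = A := by
  obtain ⟨c, t, -, rfl⟩ := hA
  rw [mem_cj] at hy
  rw [← conj_conj_inv c y, centralizer_conj, centralizer_of_mem_Tc' hy (conj_not_mem_center hyZ)]

theorem tr_conj' (c y : SpecialLinearGroup (Fin 2) F) : tr (c⁻¹ * y * c) = tr y := by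
  have := tr_conj c⁻¹ y
  rwa [inv_inv] at this

theorem tr_sq_of_mem_LU {A : Subgroup (SpecialLinearGroup (Fin 2) F)} (hA : A ∈ LU F)
    {y : SpecialLinearGroup (Fin 2) F} (hy : y ∈ A) : tr y ^ 2 = 4 := by
  obtain ⟨c, rfl⟩ := hA
  rw [mem_cj] at hy
  rw [← tr_conj' c y]
  exact tr_sq_of_mem_ZU hy

theorem tr_sq_of_mem_LT {A : Subgroup (SpecialLinearGroup (Fin 2) F)} (hA : A ∈ LT F)
    {y : SpecialLinearGroup (Fin 2) F} (hy : y ∈ A)
    (hyZ : y ∉ center (SpecialLinearGroup (Fin 2) F)) : tr y ^ 2 ≠ 4 := by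
  obtain ⟨c, t, ht, rfl⟩ := hA
  rw [mem_cj] at hy
  rw [← tr_conj' c y]
  exact tr_sq_of_mem_Tc ht hy (conj_not_mem_center hyZ)

/-- every non-central element lies in a member -/
theorem exists_mem_of_not_center [Finite F] {y : SpecialLinearGroup (Fin 2) F}
    (hyZ : y ∉ center (SpecialLinearGroup (Fin 2) F)) :
    (tr y ^ 2 = 4 ∧ ∃ A ∈ LU F, y ∈ A) ∨ (tr y ^ 2 ≠ 4 ∧ ∃ A ∈ LT F, y ∈ A) := by
  have hyZ' := hyZ
  rw [mem_center_iff'] at hyZ'
  push Not at hyZ'
  by_cases h4 : tr y ^ 2 = 4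
  · left
    refine ⟨h4, ?_⟩
    have h3 : (tr y - 2) * (tr y + 2) = 0 := by linear_combination h4
    rcases mul_eq_zero.mp h3 with h | h
    · obtain ⟨β, -, hc⟩ := isConj_up_of_tr (by linear_combination h) hyZ'.1
      obtain ⟨c, hc⟩ := isConj_iff.mp hc
      refine ⟨cj c⁻¹ (ZU F), ⟨c⁻¹, rfl⟩, ?_⟩
      rw [mem_cj, inv_inv, hc]
      exact ⟨up_10 β, by rw [up_00, up_11]⟩
    · obtain ⟨β, -, hc⟩ := isConj_neg_up_of_tr (by linear_combination h) hyZ'.2
      obtain ⟨c, hc⟩ := isConj_iff.mp hc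
      refine ⟨cj c⁻¹ (ZU F), ⟨c⁻¹, rfl⟩, ?_⟩
      rw [mem_cj, inv_inv, hc]
      exact ⟨by rw [SL2C.neg_apply, up_10, neg_zero], by rw [SL2C.neg_apply, SL2C.neg_apply, up_00, up_11]⟩
  · right
    refine ⟨h4, ?_⟩
    obtain ⟨c, hc⟩ := isConj_iff.mp (isConj_comp_of_tr_sq_ne h4)
    refine ⟨cj c⁻¹ (Tc (tr y)), ⟨c⁻¹, tr y, h4, rfl⟩, ?_⟩
    rw [mem_cj, inv_inv, hc]
    exact comp_mem_Tc _

end Cfsg.Agent.Helper8.Dk
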