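import Mathlib
import Cfsg.Agent.Helper8.DkMem

set_option autoImplicit false

/-!
The members of the partition of `PSL₂(F)`.
-/

namespace Cfsg.Agent.Helper8.Dk

open Matrix Cfsg.Agent.Helper7.SL2 Cfsg.Agent.Helper8.SL2C Subgroup
open scoped Matrix

variable {F : Type*} [Field F]

/-- all members in `SL₂` -/
def LM (F : Type*) [Field F] : Set (Subgroup (SpecialLinearGroup (Fin 2) F)) := LU F ∪ LT F

theorem center_le_of_mem_LM {A : Subgroup (SpecialLinearGroup (Fin 2) F)} (hA : A ∈ LM F) :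
    center (SpecialLinearGroup (Fin 2) F) ≤ A := by
  rcases hA with h | h
  · exact center_le_of_mem_LU h
  · exact center_le_of_mem_LT h

theorem centralizer_of_mem_LM {A : Subgroup (SpecialLinearGroup (Fin 2) F)} (hA : A ∈ LM F)
    {y : SpecialLinearGroup (Fin 2) F} (hy : y ∈ A)
    (hyZ : y ∉ center (SpecialLinearGroup (Fin 2) F)) :
    centralizer ({y} : Set (SpecialLinearGroup (Fin 2) F)) = A := by
  rcases hA with h | h
  · exact centralizer_of_mem_LU h hy hyZ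
  · exact centralizer_of_mem_LT h hy hyZ

theorem cj_mem_LM {A : Subgroup (SpecialLinearGroup (Fin 2) F)} (hA : A ∈ LM F)
    (g : SpecialLinearGroup (Fin 2) F) : cj g A ∈ LM F := by
  rcases hA with h | h
  · exact Or.inl (cj_mem_LU h g)
  · exact Or.inr (cj_mem_LT h g)

theorem ZU_comm {a b : SpecialLinearGroup (Fin 2) F} (ha : a ∈ ZU F) (hb : b ∈ ZU F) :
    a * b = b * a := by
  apply ext' <;> simp only [coe_mul_apply, ha.1, ha.2, hb.1, hb.2] <;> ring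

theorem comm_of_cj {A : Subgroup (SpecialLinearGroup (Fin 2) F)}
    (hA : ∀ a ∈ A, ∀ b ∈ A, a * b = b * a) (c : SpecialLinearGroup (Fin 2) F)
    {a b : SpecialLinearGroup (Fin 2) F} (ha : a ∈ cj c A) (hb : b ∈ cj c A) : a * b = b * a := by
  rw [mem_cj] at ha hb
  have h := hA _ ha _ hb
  have e1 : a * b = c * ((c⁻¹ * a * c) * (c⁻¹ * b * c)) * c⁻¹ := by group
  have e2 : b * a = c * ((c⁻¹ * b * c) * (c⁻¹ * a * c)) * c⁻¹ := by group
  rw [e1, e2, h]

theorem comm_of_mem_LM {A : Subgroup (SpecialLinearGroup (Fin 2) F)} (hA : A ∈ LM F)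
    {a b : SpecialLinearGroup (Fin 2) F} (ha : a ∈ A) (hb : b ∈ A) : a * b = b * a := by
  rcases hA with ⟨c, rfl⟩ | ⟨c, t, -, rfl⟩
  · exact comm_of_cj (fun a ha b hb => ZU_comm ha hb) c ha hb
  · exact comm_of_cj (fun a ha b hb => Tc_comm ha hb) c ha hb

/-- the unipotent members in `PSL₂` -/
def GU (F : Type*) [Field F] : Set (Subgroup (ProjectiveSpecialLinearGroup (Fin 2) F)) :=
  {M | ∃ A ∈ LU F, M = A.map (ph F)}

/-- the toral members in `PSL₂` -/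
def GT (F : Type*) [Field F] : Set (Subgroup (ProjectiveSpecialLinearGroup (Fin 2) F)) :=
  {M | ∃ A ∈ LT F, M = A.map (ph F)}

/-- all members in `PSL₂` -/
def GM (F : Type*) [Field F] : Set (Subgroup (ProjectiveSpecialLinearGroup (Fin 2) F)) :=
  {M | ∃ A ∈ LM F, M = A.map (ph F)}

theorem GU_sub_GM : GU F ⊆ GM F := fun _ ⟨A, hA, h⟩ => ⟨A, Or.inl hA, h⟩

theorem GT_sub_GM : GT F ⊆ GM F := fun _ ⟨A, hA, h⟩ => ⟨A, Or.inr hA, h⟩

theorem mem_GM_iff {M : Subgroup (ProjectiveSpecialLinearGroup (Fin 2) F)} :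
    M ∈ GM F ↔ M ∈ GU F ∨ M ∈ GT F := by
  constructor
  · rintro ⟨A, hA | hA, h⟩
    · exact Or.inl ⟨A, hA, h⟩
    · exact Or.inr ⟨A, hA, h⟩
  · rintro (h | h)
    · exact GU_sub_GM h
    · exact GT_sub_GM h

theorem not_center_of_pmk_ne_one {y : SpecialLinearGroup (Fin 2) F} (h : pmk y ≠ 1) :
    y ∉ center (SpecialLinearGroup (Fin 2) F) := by
  intro hy
  apply h
  rw [pmk_eq_one_iff]
  exact mem_center_iff'.mp hy

theorem GM_cover [Finite F] (x : ProjectiveSpecialLinearGroup (Fin 2) F) (hx : x ≠ 1) :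
    ∃ M ∈ GM F, x ∈ M := by
  obtain ⟨y, rfl⟩ := pmk_surjective x
  rcases exists_mem_of_not_center (not_center_of_pmk_ne_one hx) with ⟨-, A, hA, hy⟩ | ⟨-, A, hA, hy⟩
  · exact ⟨A.map (ph F), ⟨A, Or.inl hA, rfl⟩, Subgroup.mem_map_of_mem (ph F) hy⟩
  · exact ⟨A.map (ph F), ⟨A, Or.inr hA, rfl⟩, Subgroup.mem_map_of_mem (ph F) hy⟩

theorem mem_of_pmk_mem {A : Subgroup (SpecialLinearGroup (Fin 2) F)} (hA : A ∈ LM F)
    {y : SpecialLinearGroup (Fin 2) F} (hy : pmk y ∈ A.map (ph F)) : y ∈ A := by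
  have : y ∈ (A.map (ph F)).comap (ph F) := hy
  rwa [comap_map_of_center_le (center_le_of_mem_LM hA)] at this

theorem GM_ti (M : Subgroup (ProjectiveSpecialLinearGroup (Fin 2) F)) (hM : M ∈ GM F)
    (M' : Subgroup (ProjectiveSpecialLinearGroup (Fin 2) F)) (hM' : M' ∈ GM F)
    (x : ProjectiveSpecialLinearGroup (Fin 2) F) (hx : x ≠ 1) (hxM : x ∈ M) (hxM' : x ∈ M') :
    M = M' := by
  obtain ⟨A, hA, rfl⟩ := hM
  obtain ⟨A', hA', rfl⟩ := hM'
  obtain ⟨y, rfl⟩ := pmk_surjective x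
  have hyZ := not_center_of_pmk_ne_one hx
  rw [← centralizer_of_mem_LM hA (mem_of_pmk_mem hA hxM) hyZ,
    ← centralizer_of_mem_LM hA' (mem_of_pmk_mem hA' hxM') hyZ]

theorem GM_conj (M : Subgroup (ProjectiveSpecialLinearGroup (Fin 2) F)) (hM : M ∈ GM F)
    (g : ProjectiveSpecialLinearGroup (Fin 2) F) : cj g M ∈ GM F := by
  obtain ⟨A, hA, rfl⟩ := hM
  obtain ⟨c, rfl⟩ := pmk_surjective g
  exact ⟨cj c A, cj_mem_LM hA c, (map_cj (ph F) c A).symm⟩

theorem GU_conj (M : Subgroup (ProjectiveSpecialLinearGroup (Fin 2) F)) (hM : M ∈ GU F)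
    (g : ProjectiveSpecialLinearGroup (Fin 2) F) : cj g M ∈ GU F := by
  obtain ⟨A, hA, rfl⟩ := hM
  obtain ⟨c, rfl⟩ := pmk_surjective g
  exact ⟨cj c A, cj_mem_LU hA c, (map_cj (ph F) c A).symm⟩

theorem GT_conj (M : Subgroup (ProjectiveSpecialLinearGroup (Fin 2) F)) (hM : M ∈ GT F)
    (g : ProjectiveSpecialLinearGroup (Fin 2) F) : cj g M ∈ GT F := by
  obtain ⟨A, hA, rfl⟩ := hM
  obtain ⟨c, rfl⟩ := pmk_surjective g
  exact ⟨cj c A, cj_mem_LT hA c, (map_cj (ph F) c A).symm⟩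

theorem GM_comm (M : Subgroup (ProjectiveSpecialLinearGroup (Fin 2) F)) (hM : M ∈ GM F)
    (x : ProjectiveSpecialLinearGroup (Fin 2) F) (hx : x ∈ M)
    (y : ProjectiveSpecialLinearGroup (Fin 2) F) (hy : y ∈ M) : x * y = y * x := by
  obtain ⟨A, hA, rfl⟩ := hM
  obtain ⟨a, ha, rfl⟩ := hx
  obtain ⟨b, hb, rfl⟩ := hy
  rw [← map_mul, ← map_mul, comm_of_mem_LM hA ha hb]

/-- a toral member is not a unipotent member, as soon as it is not trivial -/
theorem not_mem_GU_of_mem_GT {M : Subgroup (ProjectiveSpecialLinearGroup (Fin 2) F)}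
    (hM : M ∈ GT F) {x : ProjectiveSpecialLinearGroup (Fin 2) F} (hx : x ∈ M) (hx1 : x ≠ 1) :
    M ∉ GU F := by
  rintro ⟨A', hA', h'⟩
  obtain ⟨A, hA, rfl⟩ := hM
  obtain ⟨y, rfl⟩ := pmk_surjective x
  have hyZ := not_center_of_pmk_ne_one hx1
  have h1 := tr_sq_of_mem_LT hA (mem_of_pmk_mem (Or.inr hA) hx) hyZ
  rw [h'] at hx
  exact h1 (tr_sq_of_mem_LU hA' (mem_of_pmk_mem (Or.inl hA') hx))

theorem two_ne_zero_of_tr_sq {y : SpecialLinearGroup (Fin 2) F} (h4 : tr y ^ 2 = 4)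
    (h2 : (2 : F) ≠ 0) : tr y ≠ 0 := by
  intro h0
  rw [h0] at h4
  have : (2 : F) * 2 = 0 := by linear_combination -h4
  rcases mul_eq_zero.mp this with h | h <;> exact h2 h

/-- the centraliser in `PSL₂` of a non-trivial unipotent element is its member -/
theorem GU_cent (M : Subgroup (ProjectiveSpecialLinearGroup (Fin 2) F)) (hM : M ∈ GU F)
    (m : ProjectiveSpecialLinearGroup (Fin 2) F) (hm : m ∈ M) (hm1 : m ≠ 1)
    (g : ProjectiveSpecialLinearGroup (Fin 2) F) (hg : g * m = m * g) : g ∈ M := by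
  obtain ⟨A, hA, rfl⟩ := hM
  obtain ⟨y, rfl⟩ := pmk_surjective m
  obtain ⟨h, rfl⟩ := pmk_surjective g
  have hyA := mem_of_pmk_mem (Or.inl hA) hm
  have hyZ := not_center_of_pmk_ne_one hm1
  have hC : h ∈ Cstar y := by
    rw [mem_Cstar, ← pmk_eq_iff]
    exact hg
  have hcent : Cstar y = centralizer ({y} : Set (SpecialLinearGroup (Fin 2) F)) := by
    by_cases h2 : (2 : F) = 0
    · exact Cstar_eq_of_char_two h2 y
    · exact Cstar_eq_of_tr_ne h2 (two_ne_zero_of_tr_sq (tr_sq_of_mem_LU hA hyA) h2)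
  rw [hcent, centralizer_of_mem_LU hA hyA hyZ] at hC
  exact Subgroup.mem_map_of_mem (ph F) hC

theorem U_le_ZU : U F ≤ ZU F := by
  rintro g ⟨g00, g10, g11⟩
  exact ⟨g10, by rw [g00, g11]⟩

theorem map_ZU_eq : (ZU F).map (ph F) = (U F).map (ph F) := by
  apply le_antisymm
  · rintro x ⟨y, hy, rfl⟩
    rcases eq_up_or_of_mem_ZU hy with ⟨β, rfl⟩ | ⟨β, rfl⟩
    · exact Subgroup.mem_map_of_mem (ph F) (up_mem_U β)
    · rw [ph_apply, pmk_neg]
      exact Subgroup.mem_map_of_mem (ph F) (up_mem_U β)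
  · exact Subgroup.map_mono U_le_ZU

theorem GU_pgroup [Fintype F] (p : ℕ) [Fact p.Prime] [CharP F p]
    (M : Subgroup (ProjectiveSpecialLinearGroup (Fin 2) F)) (hM : M ∈ GU F) : IsPGroup p M := by
  obtain ⟨A, ⟨c, rfl⟩, rfl⟩ := hM
  rw [map_cj, map_ZU_eq]
  have h1 : IsPGroup p (U F) := by
    have := (sylowU (F := F) p).isPGroup'
    rwa [coe_sylowU] at this
  exact (h1.map (ph F)).map _

end Cfsg.Agent.Helper8.Dk
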