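import Mathlib
import Cfsg.Agent.Helper8.DkGMem

set_option autoImplicit false

/-!
Normalisers of the members.
-/

namespace Cfsg.Agent.Helper8.Dk

open Matrix Cfsg.Agent.Helper7.SL2 Cfsg.Agent.Helper8.SL2C Subgroup
open scoped Matrix

variable {F : Type*} [Field F]

theorem comap_normalizer_map {A : Subgroup (SpecialLinearGroup (Fin 2) F)}
    (hA : center (SpecialLinearGroup (Fin 2) F) ≤ A) :
    (normalizer ((A.map (ph F) : Subgroup (ProjectiveSpecialLinearGroup (Fin 2) F)) :
      Set (ProjectiveSpecialLinearGroup (Fin 2) F))).comap (ph F) =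
      normalizer (A : Set (SpecialLinearGroup (Fin 2) F)) := by
  rw [Subgroup.comap_normalizer_eq_of_surjective _ ph_surjective, comap_map_of_center_le hA]

theorem pmk_mem_normalizer_iff {A : Subgroup (SpecialLinearGroup (Fin 2) F)}
    (hA : center (SpecialLinearGroup (Fin 2) F) ≤ A) {u : SpecialLinearGroup (Fin 2) F} :
    pmk u ∈ normalizer ((A.map (ph F) : Subgroup (ProjectiveSpecialLinearGroup (Fin 2) F)) :
      Set (ProjectiveSpecialLinearGroup (Fin 2) F)) ↔
      u ∈ normalizer (A : Set (SpecialLinearGroup (Fin 2) F)) := by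
  rw [← comap_normalizer_map hA]
  rfl

theorem pmk_mem_map_iff {A : Subgroup (SpecialLinearGroup (Fin 2) F)}
    (hA : center (SpecialLinearGroup (Fin 2) F) ≤ A) {u : SpecialLinearGroup (Fin 2) F} :
    pmk u ∈ A.map (ph F) ↔ u ∈ A := by
  constructor
  · intro h
    have : u ∈ (A.map (ph F)).comap (ph F) := h
    rwa [comap_map_of_center_le hA] at this
  · intro h
    exact Subgroup.mem_map_of_mem (ph F) h

/-! ### toral members -/

theorem LT_normalizer {A : Subgroup (SpecialLinearGroup (Fin 2) F)} (hA : A ∈ LT F)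
    {u v : SpecialLinearGroup (Fin 2) F}
    (hu : u ∈ normalizer (A : Set (SpecialLinearGroup (Fin 2) F))) (hu' : u ∉ A)
    (hv : v ∈ normalizer (A : Set (SpecialLinearGroup (Fin 2) F))) (hv' : v ∉ A) :
    u * v ∈ A ∧ u * u = -1 := by
  obtain ⟨c, t, ht, rfl⟩ := hA
  rw [normalizer_cj, mem_cj] at hu hv
  rw [mem_cj] at hu' hv'
  have hWu : IsW t (c⁻¹ * u * c) := ((mem_normalizer_Tc_iff ht).mp hu).resolve_left hu'
  have hWv : IsW t (c⁻¹ * v * c) := ((mem_normalizer_Tc_iff ht).mp hv).resolve_left hv'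
  constructor
  · rw [mem_cj]
    have := mul_mem_Tc_of_isW hWu hWv
    have e : c⁻¹ * u * c * (c⁻¹ * v * c) = c⁻¹ * (u * v) * c := by group
    rwa [e] at this
  · have h1 := sq_of_isW hWu
    have e : c⁻¹ * u * c * (c⁻¹ * u * c) = c⁻¹ * (u * u) * c := by group
    rw [e] at h1
    have h2 : u * u = c * (c⁻¹ * (u * u) * c) * c⁻¹ := by group
    rw [h2, h1, ← neg_one_comm, mul_assoc, mul_inv_cancel, mul_one]

theorem GT_tor_norm (M : Subgroup (ProjectiveSpecialLinearGroup (Fin 2) F)) (hM : M ∈ GT F)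
    (x : ProjectiveSpecialLinearGroup (Fin 2) F)
    (hx : x ∈ normalizer (M : Set (ProjectiveSpecialLinearGroup (Fin 2) F)))
    (y : ProjectiveSpecialLinearGroup (Fin 2) F)
    (hy : y ∈ normalizer (M : Set (ProjectiveSpecialLinearGroup (Fin 2) F)))
    (hxM : x ∉ M) (hyM : y ∉ M) : x * y ∈ M ∧ x * x = 1 := by
  obtain ⟨A, hA, rfl⟩ := hM
  obtain ⟨u, rfl⟩ := pmk_surjective x
  obtain ⟨v, rfl⟩ := pmk_surjective y
  have hc := center_le_of_mem_LT hA
  rw [pmk_mem_normalizer_iff hc] at hx hy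
  rw [pmk_mem_map_iff hc] at hxM hyM
  obtain ⟨h1, h2⟩ := LT_normalizer hA hx hxM hy hyM
  constructor
  · rw [pmk_mul, pmk_mem_map_iff hc]
    exact h1
  · rw [pmk_mul, h2, pmk_eq_one_iff]
    right; rfl

/-! ### unipotent members -/

theorem normalizer_ZU :
    normalizer ((ZU F : Subgroup (SpecialLinearGroup (Fin 2) F)) :
      Set (SpecialLinearGroup (Fin 2) F)) = B F := by
  ext g
  rw [mem_normalizer_iff, mem_B]
  obtain ⟨i00, i01, i10, i11⟩ := coe_inv_apply g
  constructor
  · intro h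
    have h1 := (h (up 1)).mp ⟨up_10 1, by rw [up_00, up_11]⟩
    have h10 := h1.1
    simp only [coe_mul_apply, up_00, up_01, up_10, up_11, i00, i01, i10, i11] at h10
    have : (g : Matrix (Fin 2) (Fin 2) F) 1 0 ^ 2 = 0 := by linear_combination -h10
    exact pow_eq_zero_iff (two_ne_zero) |>.mp this
  · intro hg y
    have hd := det_eq g
    rw [hg, mul_zero, sub_zero] at hd
    constructor
    · rintro ⟨y10, y00⟩
      refine ⟨?_, ?_⟩
      · simp only [coe_mul_apply, i00, i01, i10, i11, hg, y10]; ring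
      · simp only [coe_mul_apply, i00, i01, i10, i11, hg, y10, y00]; ring
    · rintro ⟨h10, h00⟩
      simp only [coe_mul_apply, i00, i01, i10, i11, hg] at h10 h00
      have hg00 : (g : Matrix (Fin 2) (Fin 2) F) 0 0 ≠ 0 := by
        intro h0; rw [h0, zero_mul] at hd; exact zero_ne_one hd
      have hg11 : (g : Matrix (Fin 2) (Fin 2) F) 1 1 ≠ 0 := by
        intro h0; rw [h0, mul_zero] at hd; exact zero_ne_one hd
      have y10 : (y : Matrix (Fin 2) (Fin 2) F) 1 0 = 0 := by
        have : (g : Matrix (Fin 2) (Fin 2) F) 1 1 ^ 2 * (y : Matrix (Fin 2) (Fin 2) F) 1 0 = 0 := by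
          linear_combination h10
        exact (mul_eq_zero.mp this).resolve_left (pow_ne_zero 2 hg11)
      refine ⟨y10, ?_⟩
      rw [y10] at h00
      have : (g : Matrix (Fin 2) (Fin 2) F) 0 0 * (g : Matrix (Fin 2) (Fin 2) F) 1 1 *
          ((y : Matrix (Fin 2) (Fin 2) F) 0 0 - (y : Matrix (Fin 2) (Fin 2) F) 1 1) = 0 := by
        linear_combination h00
      rw [hd, one_mul] at this
      linear_combination this

end Cfsg.Agent.Helper8.Dk
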