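import Mathlib
import Cfsg.Agent.Helper8.DkNorm

set_option autoImplicit false

/-!
The torus attached to the normaliser of a unipotent member in a subgroup.
-/

namespace Cfsg.Agent.Helper8.Dk

open Matrix Cfsg.Agent.Helper7.SL2 Cfsg.Agent.Helper8.SL2C Subgroup
open scoped Matrix

variable {F : Type*} [Field F]

theorem B_diag_ne_zero {b : SpecialLinearGroup (Fin 2) F} (hb : b ∈ B F) :
    (b : Matrix (Fin 2) (Fin 2) F) 0 0 ≠ 0 := by
  intro h0
  have hd := diag_of_mem_B hb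
  rw [h0, zero_mul] at hd
  exact zero_ne_one hd

/-- the diagonal character of the Borel subgroup -/
noncomputable def chi (F : Type*) [Field F] : B F →* Fˣ where
  toFun b := Units.mk0 ((b : SpecialLinearGroup (Fin 2) F).1 0 0) (B_diag_ne_zero b.2)
  map_one' := Units.ext one_00
  map_mul' a b := by
    apply Units.ext
    change ((a : SpecialLinearGroup (Fin 2) F) * (b : SpecialLinearGroup (Fin 2) F)).1 0 0 = _
    rw [coe_mul_apply, mem_B.mp b.2, mul_zero, add_zero]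
    rfl

theorem chi_apply (b : B F) : ((chi F b : Fˣ) : F) = (b : SpecialLinearGroup (Fin 2) F).1 0 0 := rfl

theorem mem_ZU_of_chi_sq {b : SpecialLinearGroup (Fin 2) F} (hb : b ∈ B F)
    (h : (b : Matrix (Fin 2) (Fin 2) F) 0 0 ^ 2 = 1) : b ∈ ZU F := by
  refine ⟨hb, ?_⟩
  have hd := diag_of_mem_B hb
  have h0 := B_diag_ne_zero hb
  apply mul_left_cancel₀ h0
  rw [hd, ← sq, h]

theorem ZU_le_B : ZU F ≤ B F := fun _ h => h.1

/-- the quotient of the Borel part of a finite subgroup by its unipotent part is cyclic -/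
theorem exists_gen_borel [Finite F] (Ht : Subgroup (SpecialLinearGroup (Fin 2) F)) (k : ℕ)
    (hk : Nat.card (ZU F ⊓ Ht : Subgroup (SpecialLinearGroup (Fin 2) F)) * k =
      Nat.card (B F ⊓ Ht : Subgroup (SpecialLinearGroup (Fin 2) F))) (h2 : 2 ≤ k) :
    ∃ b ∈ B F ⊓ Ht, (b : Matrix (Fin 2) (Fin 2) F) 0 0 ^ 2 ≠ 1 ∧
      ∀ n ∈ B F ⊓ Ht, ∃ q ∈ ZU F ⊓ Ht, ∃ j : ℕ, n = q * b ^ j := by
  classical
  let chi2 : B F →* Fˣ := (powMonoidHom 2).comp (chi F)
  let N' : Subgroup (B F) := (B F ⊓ Ht).subgroupOf (B F)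
  let S : Subgroup Fˣ := N'.map chi2
  obtain ⟨g, hg⟩ := IsCyclic.exists_monoid_generator (α := S)
  obtain ⟨b', hb', hbg⟩ := g.2
  have hb'N : (b' : SpecialLinearGroup (Fin 2) F) ∈ B F ⊓ Ht := mem_subgroupOf.mp hb'
  have hfac : ∀ n ∈ B F ⊓ Ht, ∃ q ∈ ZU F ⊓ Ht, ∃ j : ℕ,
      n = q * (b' : SpecialLinearGroup (Fin 2) F) ^ j := by
    intro n hn
    have hn' : (⟨n, hn.1⟩ : B F) ∈ N' := mem_subgroupOf.mpr hn
    have hS : chi2 ⟨n, hn.1⟩ ∈ S := Subgroup.mem_map_of_mem chi2 hn'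
    obtain ⟨j, hj⟩ := hg ⟨chi2 ⟨n, hn.1⟩, hS⟩
    have hj' : chi2 b' ^ j = chi2 ⟨n, hn.1⟩ := by
      have := congrArg Subtype.val hj
      simp only [SubmonoidClass.coe_pow] at this
      rw [← hbg] at this
      exact this
    have hq : chi2 (⟨n, hn.1⟩ * (b' ^ j)⁻¹) = 1 := by
      rw [map_mul, map_inv, map_pow, hj', mul_inv_cancel]
    have hqmem : (n * ((b' : SpecialLinearGroup (Fin 2) F) ^ j)⁻¹) ∈ B F ⊓ Ht :=
      (B F ⊓ Ht).mul_mem hn ((B F ⊓ Ht).inv_mem ((B F ⊓ Ht).pow_mem hb'N j))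
    refine ⟨n * ((b' : SpecialLinearGroup (Fin 2) F) ^ j)⁻¹, ⟨?_, hqmem.2⟩, j, by group⟩
    apply mem_ZU_of_chi_sq hqmem.1
    have := congrArg (fun u : Fˣ => (u : F)) hq
    simp only [chi2, MonoidHom.comp_apply, powMonoidHom_apply, Units.val_pow_eq_pow_val,
      Units.val_one] at this
    exact this
  refine ⟨b', hb'N, ?_, hfac⟩
  intro hb1
  -- then everything is unipotent
  have hle : B F ⊓ Ht ≤ ZU F ⊓ Ht := by
    intro n hn
    obtain ⟨q, hq, j, rfl⟩ := hfac n hn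
    have hbZ : (b' : SpecialLinearGroup (Fin 2) F) ∈ ZU F ⊓ Ht :=
      ⟨mem_ZU_of_chi_sq hb'N.1 hb1, hb'N.2⟩
    exact (ZU F ⊓ Ht).mul_mem hq ((ZU F ⊓ Ht).pow_mem hbZ j)
  have heq : B F ⊓ Ht = ZU F ⊓ Ht := le_antisymm hle (inf_le_inf_right _ ZU_le_B)
  rw [heq] at hk
  have hpos : 0 < Nat.card (ZU F ⊓ Ht : Subgroup (SpecialLinearGroup (Fin 2) F)) := Nat.card_pos
  have : k = 1 := by
    apply Nat.eq_of_mul_eq_mul_left hpos
    rw [hk, mul_one]
  omega

/-- a toral element of the Borel subgroup has its centraliser in the Borel subgroup -/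
theorem centralizer_le_B {b : SpecialLinearGroup (Fin 2) F} (hb : b ∈ B F)
    (hne : (b : Matrix (Fin 2) (Fin 2) F) 0 0 ^ 2 ≠ 1) :
    centralizer ({b} : Set (SpecialLinearGroup (Fin 2) F)) ≤ B F := by
  intro a ha
  rw [mem_centralizer_singleton_iff] at ha
  have e10 := congrArg (fun g : SpecialLinearGroup (Fin 2) F => (g : Matrix (Fin 2) (Fin 2) F) 1 0) ha
  simp only [coe_mul_apply, mem_B.mp hb] at e10
  have hd := diag_of_mem_B hb
  have h0 := B_diag_ne_zero hb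
  rw [mem_B]
  have h1 : (a : Matrix (Fin 2) (Fin 2) F) 1 0 *
      ((b : Matrix (Fin 2) (Fin 2) F) 0 0 ^ 2 - 1) = 0 := by
    have : (a : Matrix (Fin 2) (Fin 2) F) 1 0 *
      ((b : Matrix (Fin 2) (Fin 2) F) 0 0 ^ 2 - 1) = (b : Matrix (Fin 2) (Fin 2) F) 0 0 *
        ((a : Matrix (Fin 2) (Fin 2) F) 1 0 * (b : Matrix (Fin 2) (Fin 2) F) 0 0 -
          (b : Matrix (Fin 2) (Fin 2) F) 1 1 * (a : Matrix (Fin 2) (Fin 2) F) 1 0) := by
      linear_combination ((a : Matrix (Fin 2) (Fin 2) F) 1 0) * hd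
    rw [this]
    have e : (a : Matrix (Fin 2) (Fin 2) F) 1 0 * (b : Matrix (Fin 2) (Fin 2) F) 0 0 -
          (b : Matrix (Fin 2) (Fin 2) F) 1 1 * (a : Matrix (Fin 2) (Fin 2) F) 1 0 = 0 := by
      linear_combination e10
    rw [e, mul_zero]
  rcases mul_eq_zero.mp h1 with h | h
  · exact h
  · exact absurd (by linear_combination h) hne

theorem tr_sq_ne_of_B {b : SpecialLinearGroup (Fin 2) F} (hb : b ∈ B F)
    (hne : (b : Matrix (Fin 2) (Fin 2) F) 0 0 ^ 2 ≠ 1) : tr b ^ 2 ≠ 4 := by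
  have hd := diag_of_mem_B hb
  have h0 := B_diag_ne_zero hb
  intro h
  unfold tr at h
  apply hne
  have h1 : ((b : Matrix (Fin 2) (Fin 2) F) 0 0 - (b : Matrix (Fin 2) (Fin 2) F) 1 1) ^ 2 = 0 := by
    linear_combination h - 4 * hd
  have h2 := pow_eq_zero_iff (two_ne_zero) |>.mp h1
  have h3 : (b : Matrix (Fin 2) (Fin 2) F) 1 1 = (b : Matrix (Fin 2) (Fin 2) F) 0 0 := by
    linear_combination -h2
  rw [h3] at hd
  rw [sq]; exact hd

/-- the standard unipotent member -/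
def M0 (F : Type*) [Field F] : Subgroup (ProjectiveSpecialLinearGroup (Fin 2) F) :=
  (ZU F).map (ph F)

theorem ZU_mem_LU : ZU F ∈ LU F := ⟨1, (cj_one _).symm⟩

theorem M0_mem_GU : M0 F ∈ GU F := ⟨ZU F, ZU_mem_LU, rfl⟩

theorem comap_M0 : (M0 F).comap (ph F) = ZU F := comap_map_of_center_le center_le_ZU

theorem comap_normalizer_M0 :
    (normalizer ((M0 F : Subgroup (ProjectiveSpecialLinearGroup (Fin 2) F)) :
      Set (ProjectiveSpecialLinearGroup (Fin 2) F))).comap (ph F) = B F := by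
  unfold M0
  rw [comap_normalizer_map center_le_ZU, normalizer_ZU]

theorem card_ker_pos [Finite F] : 0 < Nat.card (ph F).ker := Nat.card_pos

theorem unip_tor_std [Finite F] (H : Subgroup (ProjectiveSpecialLinearGroup (Fin 2) F)) (k : ℕ)
    (hk : Nat.card (M0 F ⊓ H : Subgroup (ProjectiveSpecialLinearGroup (Fin 2) F)) * k =
      Nat.card (normalizer ((M0 F : Subgroup (ProjectiveSpecialLinearGroup (Fin 2) F)) :
        Set (ProjectiveSpecialLinearGroup (Fin 2) F)) ⊓ H :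
          Subgroup (ProjectiveSpecialLinearGroup (Fin 2) F))) (h2 : 2 ≤ k) :
    ∃ M' ∈ GT F, M' ∉ GU F ∧
      Nat.card (M' ⊓ H : Subgroup (ProjectiveSpecialLinearGroup (Fin 2) F)) = k := by
  have hk' : Nat.card (ZU F ⊓ H.comap (ph F) : Subgroup (SpecialLinearGroup (Fin 2) F)) * k =
      Nat.card (B F ⊓ H.comap (ph F) : Subgroup (SpecialLinearGroup (Fin 2) F)) := by
    rw [← comap_M0, ← comap_normalizer_M0, ← Subgroup.comap_inf, ← Subgroup.comap_inf,
      card_comap_of_surjective _ ph_surjective, card_comap_of_surjective _ ph_surjective,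
      mul_assoc, hk]
  obtain ⟨b, hb, hb1, hfac⟩ := exists_gen_borel (H.comap (ph F)) k hk' h2
  have hbZ : b ∉ center (SpecialLinearGroup (Fin 2) F) := by
    intro hz
    apply hb1
    rcases mem_center_iff'.mp hz with rfl | rfl
    · rw [one_00]; ring
    · rw [SL2C.neg_apply, one_00]; ring
  have htr := tr_sq_ne_of_B hb.1 hb1
  rcases exists_mem_of_not_center hbZ with ⟨h4, -⟩ | ⟨-, A, hA, hbA⟩
  · exact absurd h4 htr
  have hcA := center_le_of_mem_LT hA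
  have hpb1 : pmk b ≠ 1 := by
    intro h
    apply hbZ
    exact mem_center_iff'.mpr (pmk_eq_one_iff.mp h)
  have hM'GT : A.map (ph F) ∈ GT F := ⟨A, hA, rfl⟩
  have hM'GU : A.map (ph F) ∉ GU F :=
    not_mem_GU_of_mem_GT hM'GT (Subgroup.mem_map_of_mem (ph F) hbA) hpb1
  refine ⟨A.map (ph F), hM'GT, hM'GU, ?_⟩
  have hAB : A ≤ B F := by
    rw [← centralizer_of_mem_LT hA hbA hbZ]
    exact centralizer_le_B hb.1 hb1
  have hcard := card_eq_mul_of_factor
    (Q := M0 F ⊓ H) (C := A.map (ph F) ⊓ H)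
    (N := normalizer ((M0 F : Subgroup (ProjectiveSpecialLinearGroup (Fin 2) F)) :
        Set (ProjectiveSpecialLinearGroup (Fin 2) F)) ⊓ H)
    (inf_le_inf_right _ Subgroup.le_normalizer) ?_ ?_ ?_
  · rw [← hk] at hcard
    have hpos : 0 < Nat.card (M0 F ⊓ H : Subgroup (ProjectiveSpecialLinearGroup (Fin 2) F)) :=
      Nat.card_pos
    exact (Nat.eq_of_mul_eq_mul_left hpos hcard).symm
  · apply inf_le_inf_right
    rintro x ⟨a, ha, rfl⟩
    have : a ∈ (normalizer ((M0 F : Subgroup (ProjectiveSpecialLinearGroup (Fin 2) F)) :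
      Set (ProjectiveSpecialLinearGroup (Fin 2) F))).comap (ph F) := by
      rw [comap_normalizer_M0]
      exact hAB ha
    exact this
  · rw [Subgroup.eq_bot_iff_forall]
    rintro x ⟨⟨hx1, -⟩, ⟨hx2, -⟩⟩
    by_contra hx
    apply hM'GU
    rw [← GM_ti (M0 F) (GU_sub_GM M0_mem_GU) (A.map (ph F)) (GT_sub_GM hM'GT) x hx hx1 hx2]
    exact M0_mem_GU
  · rintro n ⟨hn1, hn2⟩
    obtain ⟨u, rfl⟩ := pmk_surjective n
    have hu : u ∈ B F ⊓ H.comap (ph F) := by
      refine ⟨?_, hn2⟩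
      rw [← comap_normalizer_M0]
      exact hn1
    obtain ⟨q, hq, j, rfl⟩ := hfac u hu
    refine ⟨pmk q, ⟨Subgroup.mem_map_of_mem (ph F) hq.1, hq.2⟩, pmk (b ^ j),
      ⟨Subgroup.mem_map_of_mem (ph F) (A.pow_mem hbA j), ?_⟩, rfl⟩
    exact (H.comap (ph F)).pow_mem hb.2 j

/-- the torus attached to the normaliser of a unipotent member -/
theorem GU_unip_tor [Finite F] (M : Subgroup (ProjectiveSpecialLinearGroup (Fin 2) F))
    (hM : M ∈ GU F) (H : Subgroup (ProjectiveSpecialLinearGroup (Fin 2) F)) (k : ℕ)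
    (hk : Nat.card (M ⊓ H : Subgroup (ProjectiveSpecialLinearGroup (Fin 2) F)) * k =
      Nat.card (normalizer ((M : Subgroup (ProjectiveSpecialLinearGroup (Fin 2) F)) :
        Set (ProjectiveSpecialLinearGroup (Fin 2) F)) ⊓ H :
          Subgroup (ProjectiveSpecialLinearGroup (Fin 2) F))) (h2 : 2 ≤ k) :
    ∃ M' ∈ GM F, M' ∉ GU F ∧
      Nat.card (M' ⊓ H : Subgroup (ProjectiveSpecialLinearGroup (Fin 2) F)) = k := by
  obtain ⟨A, ⟨c, rfl⟩, rfl⟩ := hM
  have hM : (cj c (ZU F)).map (ph F) = cj (pmk c) (M0 F) := map_cj (ph F) c (ZU F)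
  have hH : H = cj (pmk c) (cj (pmk c)⁻¹ H) := (cj_cj_inv _ _).symm
  rw [hM] at hk
  rw [hH, normalizer_cj, ← cj_inf, ← cj_inf, card_cj, card_cj] at hk
  obtain ⟨M', hM', hM'u, hcard⟩ := unip_tor_std (cj (pmk c)⁻¹ H) k hk h2
  refine ⟨cj (pmk c) M', GM_conj M' (GT_sub_GM hM') _, ?_, ?_⟩
  · intro h
    apply hM'u
    have := GU_conj _ h (pmk c)⁻¹
    rwa [cj_inv_cj] at this
  · rw [hH, ← cj_inf, card_cj, hcard]

end Cfsg.Agent.Helper8.Dk
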