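import Mathlib
import Cfsg.Agent.Helper8.DkUT

set_option autoImplicit false

/-!
The partition of `PSL₂(F)` and the first form of Dickson's theorem.
-/

namespace Cfsg.Agent.Helper8.Dk

open Matrix Cfsg.Agent.Helper7.SL2 Cfsg.Agent.Helper8.SL2C Subgroup
open scoped Matrix

variable {F : Type*} [Field F] [Fintype F]

instance finite_PSL2 : Finite (ProjectiveSpecialLinearGroup (Fin 2) F) := by
  classical
  exact Finite.of_surjective _ (pmk_surjective (F := F))

/-- the partition of `PSL₂(F)` -/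
def gpart (p : ℕ) [Fact p.Prime] [CharP F p] :
    GPart (ProjectiveSpecialLinearGroup (Fin 2) F) p where
  mem := GM F
  unip := GU F
  unip_sub := GU_sub_GM
  cover := GM_cover
  ti := GM_ti
  conj_mem := GM_conj
  conj_unip := GU_conj
  comm := GM_comm
  tor_norm := fun M hM hMu x hx y hy hxM hyM =>
    (GT_tor_norm M ((mem_GM_iff.mp hM).resolve_left hMu) x hx y hy hxM hyM).1
  unip_pgroup := GU_pgroup p
  unip_cent := GU_cent
  unip_tor := fun M hM H _ k hk h2 => GU_unip_tor M hM H k hk h2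

/-- Dickson's theorem, first form. -/
theorem dickson_first (p : ℕ) [Fact p.Prime] [CharP F p]
    (H : Subgroup (ProjectiveSpecialLinearGroup (Fin 2) F)) :
    Nat.card H = 1 ∨ (∃ M ∈ GM F, M ⊓ H ≠ ⊥ ∧
      H ≤ normalizer (M : Set (ProjectiveSpecialLinearGroup (Fin 2) F))) ∨
    Nonempty (H ≃* alternatingGroup (Fin 4)) ∨ Nonempty (H ≃* Equiv.Perm (Fin 4)) ∨
    Nonempty (H ≃* alternatingGroup (Fin 5)) ∨
    (∃ M ∈ GU F, ∃ a k : ℕ, 2 ≤ a ∧
      Nat.card (M ⊓ H : Subgroup (ProjectiveSpecialLinearGroup (Fin 2) F)) = a ∧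
      Nat.card (normalizer (M : Set (ProjectiveSpecialLinearGroup (Fin 2) F)) ⊓ H :
        Subgroup (ProjectiveSpecialLinearGroup (Fin 2) F)) = a * k ∧
      Nat.card H = (a + 1) * (a * k) ∧ (k = a - 1 ∨ 2 * k = a - 1)) :=
  (gpart (F := F) p).main H

end Cfsg.Agent.Helper8.Dk
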