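import Mathlib
import Cfsg.Agent.Helper8.DkPSL
import Cfsg.Agent.Helper2.DihedralIso
import Cfsg.Agent.Lead.PSL2SubB

set_option autoImplicit false

/-!
Subgroups of the normaliser of a torus of `PSL₂(F)` are cyclic or dihedral.
-/

namespace Cfsg.Agent.Helper8.Dk

open Matrix Cfsg.Agent.Helper7.SL2 Cfsg.Agent.Helper8.SL2C Subgroup
open scoped Matrix

theorem isCyclic_map' {G G' : Type*} [Group G] [Group G'] (f : G →* G') (A : Subgroup G)
    [IsCyclic A] : IsCyclic (A.map f) :=
  isCyclic_of_surjective (f.subgroupMap A) (f.subgroupMap_surjective A)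

/-- a subgroup of a "generalised dihedral" normaliser of a cyclic group is cyclic or dihedral -/
theorem cyclic_or_dihedral {G : Type*} [Group G] [Finite G] (M H : Subgroup G) [IsCyclic M]
    (hH : H ≤ normalizer (M : Set G))
    (hinv : ∀ x ∈ normalizer (M : Set G), ∀ y ∈ normalizer (M : Set G), x ∉ M → y ∉ M →
      x * y ∈ M ∧ x * x = 1) :
    (IsCyclic H ∧ Nat.card H = Nat.card (M ⊓ H : Subgroup G)) ∨
      Nonempty (H ≃* DihedralGroup (Nat.card (M ⊓ H : Subgroup G))) := by
  by_cases hHM : H ≤ M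
  · left
    have : M ⊓ H = H := inf_eq_right.mpr hHM
    rw [this]
    exact ⟨Subgroup.isCyclic_of_le hHM, rfl⟩
  · right
    obtain ⟨w, hwH, hwM⟩ := Set.not_subset.mp hHM
    haveI : IsCyclic (M ⊓ H : Subgroup G) := Subgroup.isCyclic_of_le inf_le_left
    obtain ⟨g, hg⟩ := IsCyclic.exists_generator (α := (M ⊓ H : Subgroup G))
    have hord : orderOf (g : G) = Nat.card (M ⊓ H : Subgroup G) := by
      rw [Subgroup.orderOf_coe]
      exact orderOf_eq_card_of_forall_mem_zpowers hg
    have hgen : ∀ x ∈ M ⊓ H, x ∈ zpowers (g : G) := by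
      intro x hx
      obtain ⟨n, hn⟩ := Subgroup.mem_zpowers_iff.mp (hg ⟨x, hx⟩)
      refine Subgroup.mem_zpowers_iff.mpr ⟨n, ?_⟩
      have := congrArg Subtype.val hn
      simpa using this
    have hwN := hH hwH
    have hww : w * w = 1 := (hinv w hwN w hwN hwM hwM).2
    have hy_mem : w * (g : G) ∈ H := H.mul_mem hwH g.2.2
    have hy_notM : w * (g : G) ∉ M := by
      intro h
      apply hwM
      have := M.mul_mem h (M.inv_mem g.2.1)
      rwa [mul_inv_cancel_right] at this
    have hyy : w * (g : G) * (w * (g : G)) = 1 :=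
      (hinv _ (hH hy_mem) _ (hH hy_mem) hy_notM hy_notM).2
    have hw1 : w ≠ 1 := fun h => hwM (h ▸ M.one_mem)
    have hy1 : w * (g : G) ≠ 1 := fun h => hy_notM (h ▸ M.one_mem)
    obtain ⟨e⟩ := Cfsg.Agent.Helper2.closure_pair_invol_equiv_dihedral hww hyy hw1 hy1
    have hxy : w * (w * (g : G)) = (g : G) := by rw [← mul_assoc, hww, one_mul]
    rw [hxy, hord] at e
    have hcl : closure ({w, w * (g : G)} : Set G) = H := by
      apply le_antisymm
      · rw [closure_le]
        rintro x (rfl | rfl)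
        · exact hwH
        · exact hy_mem
      · have hw_cl : w ∈ closure ({w, w * (g : G)} : Set G) :=
          subset_closure (Set.mem_insert _ _)
        have hy_cl : w * (g : G) ∈ closure ({w, w * (g : G)} : Set G) :=
          subset_closure (Set.mem_insert_of_mem _ rfl)
        have hg_cl : (g : G) ∈ closure ({w, w * (g : G)} : Set G) := by
          have h := Subgroup.mul_mem _ hw_cl hy_cl
          rwa [hxy] at h
        have hC_cl : ∀ x ∈ M ⊓ H, x ∈ closure ({w, w * (g : G)} : Set G) := by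
          intro x hx
          have := hgen x hx
          rw [Subgroup.zpowers_eq_closure] at this
          exact (closure_le _).mpr (Set.singleton_subset_iff.mpr hg_cl) this
        intro h hh
        by_cases hhM : h ∈ M
        · exact hC_cl h ⟨hhM, hh⟩
        · have h1 := (hinv h (hH hh) w hwN hhM hwM).1
          have h2 := hC_cl (h * w) ⟨h1, H.mul_mem hh hwH⟩
          have h3 := Subgroup.mul_mem _ h2 (Subgroup.inv_mem _ hw_cl)
          rwa [mul_inv_cancel_right] at h3
    exact ⟨(MulEquiv.subgroupCongr hcl).symm.trans e⟩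

variable {F : Type*} [Field F]

theorem isCyclic_of_mem_GT [Finite F] {M : Subgroup (ProjectiveSpecialLinearGroup (Fin 2) F)}
    (hM : M ∈ GT F) : IsCyclic M := by
  obtain ⟨A, ⟨c, t, ht, rfl⟩, rfl⟩ := hM
  haveI := isCyclic_Tc ht
  haveI : IsCyclic (cj c (Tc t)) := isCyclic_map' _ _
  exact isCyclic_map' _ _

/-- the order of a split torus -/
theorem card_Tc_split [Fintype F] {t : F} (ht : t ^ 2 ≠ 4) (hne : ¬ Ellt t) :
    Nat.card (Tc t) = Fintype.card F - 1 := by
  unfold Ellt at hne
  push Not at hne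
  obtain ⟨l, hl⟩ := hne
  have hl0 : l ≠ 0 := by
    rintro rfl
    simp at hl
  have hinv : l⁻¹ = t - l := by
    field_simp
    linear_combination hl
  have ha : ((Units.mk0 l hl0 : Fˣ) : F) ^ 2 ≠ 1 := by
    rw [Units.val_mk0]
    intro h1
    apply ht
    have : t * l = 2 := by linear_combination -hl + h1
    have : t ^ 2 * l ^ 2 = 4 := by
      have h2 : t ^ 2 * l ^ 2 = (t * l) ^ 2 := by ring
      rw [h2, this]; norm_num
    rw [h1, mul_one] at this
    exact this
  have htr : tr (tor (Units.mk0 l hl0)) = t := by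
    rw [tr_tor, Units.val_inv_eq_inv_val, Units.val_mk0, hinv]
    ring
  have hc := isConj_comp_of_tr_sq_ne (g := tor (Units.mk0 l hl0)) (by rw [htr]; exact ht)
  rw [htr] at hc
  rw [← centralizer_comp, ← card_centralizer_eq_of_isConj hc, card_centralizer_tor ha]

theorem card_center_SL2 [Fintype F] :
    Nat.card (center (SpecialLinearGroup (Fin 2) F)) = Nat.gcd 2 (Fintype.card F - 1) := by
  have h1 := Cfsg.Agent.Lead.PSL2Sub.card_mul (F := F) rfl
  have h2 := Subgroup.card_eq_card_quotient_mul_card_subgroup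
    (center (SpecialLinearGroup (Fin 2) F))
  rw [card_SL2] at h2
  have h3 : Nat.card (SpecialLinearGroup (Fin 2) F ⧸ center (SpecialLinearGroup (Fin 2) F)) =
      Nat.card (ProjectiveSpecialLinearGroup (Fin 2) F) := rfl
  rw [h3] at h2
  have hpos : 0 < Nat.card (ProjectiveSpecialLinearGroup (Fin 2) F) := Nat.card_pos
  apply Nat.eq_of_mul_eq_mul_left hpos
  rw [← h2, mul_comm _ (Nat.gcd 2 (Fintype.card F - 1)), h1]

theorem card_mem_GT [Fintype F] {M : Subgroup (ProjectiveSpecialLinearGroup (Fin 2) F)}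
    (hM : M ∈ GT F) :
    Nat.card M = (Fintype.card F + 1) / Nat.gcd 2 (Fintype.card F - 1) ∨
      Nat.card M = (Fintype.card F - 1) / Nat.gcd 2 (Fintype.card F - 1) := by
  obtain ⟨A, hA, rfl⟩ := hM
  have h1 := card_comap_of_surjective (ph F) ph_surjective (A.map (ph F))
  rw [comap_map_of_center_le (center_le_of_mem_LT hA), ker_ph, card_center_SL2] at h1
  have hg : 0 < Nat.gcd 2 (Fintype.card F - 1) := Nat.gcd_pos_of_pos_left _ (by norm_num)
  obtain ⟨c, t, ht, rfl⟩ := hA
  rw [card_cj] at h1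
  by_cases hE : Ellt t
  · left
    rw [card_Tc hE] at h1
    exact (Nat.div_eq_of_eq_mul_right hg h1).symm
  · right
    rw [card_Tc_split ht hE] at h1
    exact (Nat.div_eq_of_eq_mul_right hg h1).symm

/-- subgroups of the normaliser of a torus -/
theorem out_toral [Fintype F] {q : ℕ} (hF : Fintype.card F = q)
    (H : Subgroup (ProjectiveSpecialLinearGroup (Fin 2) F))
    {M : Subgroup (ProjectiveSpecialLinearGroup (Fin 2) F)} (hM : M ∈ GT F)
    (hH : H ≤ normalizer (M : Set (ProjectiveSpecialLinearGroup (Fin 2) F))) :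
    ∃ k : ℕ, (k ∣ (q + 1) / Nat.gcd 2 (q - 1) ∨ k ∣ (q - 1) / Nat.gcd 2 (q - 1)) ∧
      ((IsCyclic H ∧ Nat.card H = k) ∨ Nonempty (H ≃* DihedralGroup k)) := by
  haveI := isCyclic_of_mem_GT hM
  refine ⟨Nat.card (M ⊓ H : Subgroup (ProjectiveSpecialLinearGroup (Fin 2) F)), ?_, ?_⟩
  · have hdvd : Nat.card (M ⊓ H : Subgroup (ProjectiveSpecialLinearGroup (Fin 2) F)) ∣ Nat.card M :=
      Subgroup.card_dvd_of_le inf_le_left
    subst hF
    rcases card_mem_GT hM with h | h
    · left; rwa [h] at hdvd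
    · right; rwa [h] at hdvd
  · exact cyclic_or_dihedral M H hH (fun x hx y hy hxM hyM => GT_tor_norm M hM x hx y hy hxM hyM)

end Cfsg.Agent.Helper8.Dk
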