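import Mathlib
import Cfsg.Agent.Helper8.DkOutT

set_option autoImplicit false

/-!
The unipotent members of `PSL₂(F)` are its Sylow `p`-subgroups.
-/

namespace Cfsg.Agent.Helper8.Dk

open Matrix Cfsg.Agent.Helper7.SL2 Cfsg.Agent.Helper8.SL2C Subgroup
open scoped Matrix

variable {F : Type*} [Field F] [Fintype F]

theorem exists_sylow_of_mem_GU (p : ℕ) [Fact p.Prime] [CharP F p]
    {M : Subgroup (ProjectiveSpecialLinearGroup (Fin 2) F)} (hM : M ∈ GU F) :
    ∃ P : Sylow p (ProjectiveSpecialLinearGroup (Fin 2) F),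
      (P : Subgroup (ProjectiveSpecialLinearGroup (Fin 2) F)) = M := by
  classical
  obtain ⟨A, ⟨c, rfl⟩, rfl⟩ := hM
  haveI : Finite (SpecialLinearGroup (Fin 2) F) := inferInstance
  let P0 : Sylow p (ProjectiveSpecialLinearGroup (Fin 2) F) :=
    (sylowU (F := F) p).mapSurjective (ph_surjective (F := F))
  have hP0 : (P0 : Subgroup (ProjectiveSpecialLinearGroup (Fin 2) F)) = (ZU F).map (ph F) := by
    rw [Sylow.coe_mapSurjective, coe_sylowU, map_ZU_eq]
  refine ⟨pmk c • P0, ?_⟩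
  rw [Sylow.coe_subgroup_smul, hP0, map_cj]
  rfl

/-- subgroups of the normaliser of a unipotent member -/
theorem out_unip (p : ℕ) [Fact p.Prime] [CharP F p]
    (H : Subgroup (ProjectiveSpecialLinearGroup (Fin 2) F))
    {M : Subgroup (ProjectiveSpecialLinearGroup (Fin 2) F)} (hM : M ∈ GU F)
    (hH : H ≤ normalizer (M : Set (ProjectiveSpecialLinearGroup (Fin 2) F))) :
    ∃ (P : Sylow p (ProjectiveSpecialLinearGroup (Fin 2) F))
      (K : Subgroup (ProjectiveSpecialLinearGroup (Fin 2) F)),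
      K ≤ Subgroup.normalizer ((P : Subgroup (ProjectiveSpecialLinearGroup (Fin 2) F)) :
        Set (ProjectiveSpecialLinearGroup (Fin 2) F)) ∧ Nonempty (H ≃* K) := by
  obtain ⟨P, hP⟩ := exists_sylow_of_mem_GU p hM
  refine ⟨P, H, ?_, ⟨MulEquiv.refl _⟩⟩
  rw [hP]
  exact hH

end Cfsg.Agent.Helper8.Dk
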