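import Mathlib
import Cfsg.Agent.Helper8.DkOutU
import Cfsg.Agent.Lead.DicksonC
import Cfsg.Agent.Lead.DicksonA

set_option autoImplicit false

/-!
The generic case of Dickson's theorem, part A: the orbit of the point at infinity.
-/

namespace Cfsg.Agent.Helper8.Dk

open Matrix Cfsg.Agent.Helper7.SL2 Cfsg.Agent.Helper8.SL2C Subgroup
open Cfsg.Agent.Lead.DicksonA Cfsg.Agent.Lead.DicksonC
open scoped Matrix

variable {F : Type*} [Field F]

theorem up_inv_eq (x : F) : (up x)⁻¹ = up (-x) := by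
  apply inv_eq_of_mul_eq_one_right
  rw [up_mul_up, add_neg_cancel, up_zero]

/-- the additive group of `β` with `up β` in the subgroup -/
def TU (Ht : Subgroup (SpecialLinearGroup (Fin 2) F)) : AddSubgroup F where
  carrier := {β | up β ∈ Ht}
  zero_mem' := by
    change up (0 : F) ∈ Ht
    rw [up_zero]; exact Ht.one_mem
  add_mem' := by
    intro x y hx hy
    change up (x + y) ∈ Ht
    rw [← up_mul_up]; exact Ht.mul_mem hx hy
  neg_mem' := by
    intro x hx
    change up (-x) ∈ Ht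
    rw [← up_inv_eq]; exact Ht.inv_mem hx

theorem mem_TU {Ht : Subgroup (SpecialLinearGroup (Fin 2) F)} {β : F} :
    β ∈ TU Ht ↔ up β ∈ Ht := Iff.rfl

theorem stab_inf_eq (Ht : Subgroup (SpecialLinearGroup (Fin 2) F)) :
    stab Ht (Cfsg.Agent.Lead.DicksonA.inf : PL F) = B F ⊓ Ht := by
  ext g
  rw [mem_stab, smul_inf_eq_inf_iff, Subgroup.mem_inf, mem_B]
  exact and_comm

theorem up_smul_pt (s t : F) : up s • (pt t : PL F) = pt (t + s) := uu_smul_pt s t

/-- the orbit of infinity consists of infinity and the points of `T` -/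
theorem ratio_mem [Finite F] (Ht : Subgroup (SpecialLinearGroup (Fin 2) F)) {a : ℕ}
    (ha : Nat.card (TU Ht) = a)
    (hidx : Nat.card Ht = (a + 1) * Nat.card (B F ⊓ Ht : Subgroup (SpecialLinearGroup (Fin 2) F)))
    {w : SpecialLinearGroup (Fin 2) F} (hw : w ∈ Ht)
    (hw0 : (w : Matrix (Fin 2) (Fin 2) F) 0 0 = 0)
    {h : SpecialLinearGroup (Fin 2) F} (hh : h ∈ Ht)
    (h10 : (h : Matrix (Fin 2) (Fin 2) F) 1 0 ≠ 0) :
    ∃ β ∈ TU Ht, (h : Matrix (Fin 2) (Fin 2) F) 0 0 = (h : Matrix (Fin 2) (Fin 2) F) 1 0 * β := by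
  classical
  have hcard := card_orb_mul_card_stab Ht (Cfsg.Agent.Lead.DicksonA.inf : PL F)
  rw [stab_inf_eq, hidx] at hcard
  have hpos : 0 < Nat.card (B F ⊓ Ht : Subgroup (SpecialLinearGroup (Fin 2) F)) := Nat.card_pos
  have hO : (orb Ht (Cfsg.Agent.Lead.DicksonA.inf : PL F)).ncard = a + 1 :=
    Nat.eq_of_mul_eq_mul_right hpos hcard
  have hwinf : w • (Cfsg.Agent.Lead.DicksonA.inf : PL F) = pt 0 := by
    rw [smul_inf_eq_pt_iff, mul_zero]
    exact hw0
  have hsub : insert (Cfsg.Agent.Lead.DicksonA.inf : PL F) (pt '' ((TU Ht : AddSubgroup F) : Set F)) ⊆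
      orb Ht (Cfsg.Agent.Lead.DicksonA.inf : PL F) := by
    intro x hx
    rcases hx with rfl | ⟨β, hβ, rfl⟩
    · exact self_mem_orb Ht _
    · rw [mem_orb]
      refine ⟨up β * w, Ht.mul_mem hβ hw, ?_⟩
      rw [mul_smul, hwinf, up_smul_pt, zero_add]
  have hfin : (orb Ht (Cfsg.Agent.Lead.DicksonA.inf : PL F)).Finite := orb_finite Ht _
  have hA : (insert (Cfsg.Agent.Lead.DicksonA.inf : PL F)
      (pt '' ((TU Ht : AddSubgroup F) : Set F))).ncard = a + 1 := by
    have h1 : ((TU Ht : AddSubgroup F) : Set F).ncard = a := by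
      rw [← ha]
      exact (Nat.card_coe_set_eq _).symm
    rw [Set.ncard_insert_of_notMem ?_ ((Set.toFinite _).image _),
      Set.ncard_image_of_injective _ pt_injective, h1]
    rintro ⟨β, -, hβ⟩
    exact pt_ne_inf β hβ
  have heq := Set.eq_of_subset_of_ncard_le hsub (by rw [hO, hA]) hfin
  have hmem : h • (Cfsg.Agent.Lead.DicksonA.inf : PL F) ∈
      orb Ht (Cfsg.Agent.Lead.DicksonA.inf : PL F) := (mem_orb Ht _ _).mpr ⟨h, hh, rfl⟩
  rw [← heq] at hmem
  rcases hmem with hinf | ⟨β, hβ, hpt⟩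
  · exact absurd ((smul_inf_eq_inf_iff h).mp hinf) h10
  · exact ⟨β, hβ, (smul_inf_eq_pt_iff h β).mp hpt.symm⟩

end Cfsg.Agent.Helper8.Dk
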