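import Mathlib
import Cfsg.Agent.Helper8.DkGenA
import Cfsg.Agent.Lead.DicksonN

set_option autoImplicit false

/-!
The generic case of Dickson's theorem, part B: the subfield.
-/

namespace Cfsg.Agent.Helper8.Dk

open Matrix Cfsg.Agent.Helper7.SL2 Cfsg.Agent.Helper8.SL2C Subgroup
open scoped Matrix

variable {F : Type*} [Field F]

/-- standard position: the subgroup has `a` upper unitriangular elements, `a + 1` conjugates of
its Borel part, and an element moving infinity to zero -/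
structure StdPos (Ht : Subgroup (SpecialLinearGroup (Fin 2) F)) (a : ℕ) : Prop where
  card_T : Nat.card (TU Ht) = a
  idx : Nat.card Ht = (a + 1) * Nat.card (B F ⊓ Ht : Subgroup (SpecialLinearGroup (Fin 2) F))
  w_ex : ∃ w ∈ Ht, (w : Matrix (Fin 2) (Fin 2) F) 0 0 = 0

theorem StdPos.ratio [Finite F] {Ht : Subgroup (SpecialLinearGroup (Fin 2) F)} {a : ℕ}
    (hS : StdPos Ht a) {h : SpecialLinearGroup (Fin 2) F} (hh : h ∈ Ht)
    (h10 : (h : Matrix (Fin 2) (Fin 2) F) 1 0 ≠ 0) :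
    ∃ β ∈ TU Ht, (h : Matrix (Fin 2) (Fin 2) F) 0 0 = (h : Matrix (Fin 2) (Fin 2) F) 1 0 * β := by
  obtain ⟨w, hw, hw0⟩ := hS.w_ex
  exact ratio_mem Ht hS.card_T hS.idx hw hw0 hh h10

theorem conj_up_by_w {w : SpecialLinearGroup (Fin 2) F}
    (hw0 : (w : Matrix (Fin 2) (Fin 2) F) 0 0 = 0) (δ : F) :
    w * up δ * w⁻¹ = lo (-δ * (w : Matrix (Fin 2) (Fin 2) F) 1 0 ^ 2) := by
  obtain ⟨i00, i01, i10, i11⟩ := coe_inv_apply w
  have hd := det_eq w
  rw [hw0, zero_mul, zero_sub] at hd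
  apply ext'
  · simp only [coe_mul_apply, i00, i10, up_00, up_01, up_10, up_11, lo_00, hw0]
    linear_combination hd
  · simp only [coe_mul_apply, i01, i11, up_00, up_01, up_10, up_11, lo_01, hw0]
    ring
  · simp only [coe_mul_apply, i00, i10, up_00, up_01, up_10, up_11, lo_10, hw0]
    ring
  · simp only [coe_mul_apply, i01, i11, up_00, up_01, up_10, up_11, lo_11, hw0]
    linear_combination hd

/-- the lower unitriangular elements -/
theorem StdPos.lo_inv_mem [Finite F] {Ht : Subgroup (SpecialLinearGroup (Fin 2) F)} {a : ℕ}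
    (hS : StdPos Ht a) {β : F} (hβ : β ∈ TU Ht) (hβ0 : β ≠ 0) : lo β⁻¹ ∈ Ht := by
  obtain ⟨w, hw, hw0⟩ := hS.w_ex
  obtain ⟨i00, i01, i10, i11⟩ := coe_inv_apply w
  have hd := det_eq w
  rw [hw0, zero_mul, zero_sub] at hd
  have hc : (w : Matrix (Fin 2) (Fin 2) F) 1 0 ≠ 0 := by
    intro h0; rw [h0, mul_zero, neg_zero] at hd; exact zero_ne_one hd
  -- first point
  have h1 : ((w⁻¹ : SpecialLinearGroup (Fin 2) F) : Matrix (Fin 2) (Fin 2) F) 1 0 ≠ 0 := by
    rw [i10]; exact neg_ne_zero.mpr hc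
  obtain ⟨γ, hγ, eγ⟩ := hS.ratio (Ht.inv_mem hw) h1
  rw [i00, i10] at eγ
  -- second point
  have hg : w⁻¹ * up β * w ∈ Ht := Ht.mul_mem (Ht.mul_mem (Ht.inv_mem hw) hβ) hw
  have g10 : ((w⁻¹ * up β * w : SpecialLinearGroup (Fin 2) F) : Matrix (Fin 2) (Fin 2) F) 1 0 =
      -β * (w : Matrix (Fin 2) (Fin 2) F) 1 0 ^ 2 := by
    simp only [coe_mul_apply, i00, i01, i10, i11, up_00, up_01, up_10, up_11, hw0]
    ring
  have g00 : ((w⁻¹ * up β * w : SpecialLinearGroup (Fin 2) F) : Matrix (Fin 2) (Fin 2) F) 0 0 =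
      (w : Matrix (Fin 2) (Fin 2) F) 1 0 * ((w : Matrix (Fin 2) (Fin 2) F) 1 1 * β -
        (w : Matrix (Fin 2) (Fin 2) F) 0 1) := by
    simp only [coe_mul_apply, i00, i01, i10, i11, up_00, up_01, up_10, up_11, hw0]
    ring
  have h2 : ((w⁻¹ * up β * w : SpecialLinearGroup (Fin 2) F) : Matrix (Fin 2) (Fin 2) F) 1 0 ≠ 0 := by
    rw [g10]
    exact mul_ne_zero (neg_ne_zero.mpr hβ0) (pow_ne_zero 2 hc)
  obtain ⟨γ', hγ', eγ'⟩ := hS.ratio hg h2
  rw [g00, g10] at eγ'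
  -- the difference
  have hδ : γ' - γ ∈ TU Ht := (TU Ht).sub_mem hγ' hγ
  have hconj : w * up (γ' - γ) * w⁻¹ ∈ Ht := Ht.mul_mem (Ht.mul_mem hw hδ) (Ht.inv_mem hw)
  rw [conj_up_by_w hw0] at hconj
  have : -(γ' - γ) * (w : Matrix (Fin 2) (Fin 2) F) 1 0 ^ 2 = β⁻¹ := by
    apply eq_inv_of_mul_eq_one_right
    linear_combination (w : Matrix (Fin 2) (Fin 2) F) 1 0 * β * eγ - eγ' + hd
  rwa [this] at hconj

/-- the monomial element attached to a non-zero element of `T` -/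
def nmat (β : F) (hβ : β ≠ 0) : SpecialLinearGroup (Fin 2) F :=
  mk' 0 β (-β⁻¹) 0 (by rw [zero_mul, zero_sub, mul_neg, neg_neg, mul_inv_cancel₀ hβ])

theorem nmat_00 (β : F) (hβ : β ≠ 0) : (nmat β hβ : Matrix (Fin 2) (Fin 2) F) 0 0 = 0 := rfl
theorem nmat_01 (β : F) (hβ : β ≠ 0) : (nmat β hβ : Matrix (Fin 2) (Fin 2) F) 0 1 = β := rfl
theorem nmat_10 (β : F) (hβ : β ≠ 0) : (nmat β hβ : Matrix (Fin 2) (Fin 2) F) 1 0 = -β⁻¹ := rfl
theorem nmat_11 (β : F) (hβ : β ≠ 0) : (nmat β hβ : Matrix (Fin 2) (Fin 2) F) 1 1 = 0 := rfl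

theorem nmat_eq (β : F) (hβ : β ≠ 0) : nmat β hβ = up β * lo (-β)⁻¹ * up β := by
  apply ext'
  · simp only [nmat, mk'_00, coe_mul_apply, up_00, up_01, up_10, up_11, lo_00, lo_01, lo_10, lo_11]
    field_simp
    ring
  · simp only [nmat, mk'_01, coe_mul_apply, up_00, up_01, up_10, up_11, lo_00, lo_01, lo_10, lo_11]
    field_simp
    ring
  · simp only [nmat, mk'_10, coe_mul_apply, up_00, up_01, up_10, up_11, lo_00, lo_01, lo_10, lo_11]
    rw [inv_neg]
    ring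
  · simp only [nmat, mk'_11, coe_mul_apply, up_00, up_01, up_10, up_11, lo_00, lo_01, lo_10, lo_11]
    field_simp
    ring

theorem StdPos.nmat_mem [Finite F] {Ht : Subgroup (SpecialLinearGroup (Fin 2) F)} {a : ℕ}
    (hS : StdPos Ht a) {β : F} (hβ : β ∈ TU Ht) (hβ0 : β ≠ 0) : nmat β hβ0 ∈ Ht := by
  rw [nmat_eq]
  exact Ht.mul_mem (Ht.mul_mem hβ (hS.lo_inv_mem ((TU Ht).neg_mem hβ) (neg_ne_zero.mpr hβ0))) hβ

theorem nmat_mul_inv (β β' : F) (hβ : β ≠ 0) (hβ' : β' ≠ 0) :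
    nmat β hβ * (nmat β' hβ')⁻¹ = tor (Units.mk0 (β / β') (div_ne_zero hβ hβ')) := by
  obtain ⟨i00, i01, i10, i11⟩ := coe_inv_apply (nmat β' hβ')
  apply ext'
  · simp only [coe_mul_apply, i00, i10, nmat_00, nmat_01, nmat_10, nmat_11, tor_00, Units.val_mk0]
    field_simp
    ring
  · simp only [coe_mul_apply, i01, i11, nmat_00, nmat_01, nmat_10, nmat_11, tor_01]
    ring
  · simp only [coe_mul_apply, i00, i10, nmat_00, nmat_01, nmat_10, nmat_11, tor_10]
    ring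
  · simp only [coe_mul_apply, i01, i11, nmat_00, nmat_01, nmat_10, nmat_11, tor_11,
      Units.val_inv_eq_inv_val, Units.val_mk0]
    field_simp
    ring

/-- `T` is stable under multiplication by squares of ratios -/
theorem StdPos.sq_ratio_mem [Finite F] {Ht : Subgroup (SpecialLinearGroup (Fin 2) F)} {a : ℕ}
    (hS : StdPos Ht a) {β β' γ : F} (hβ : β ∈ TU Ht) (hβ0 : β ≠ 0) (hβ' : β' ∈ TU Ht)
    (hβ'0 : β' ≠ 0) (hγ : γ ∈ TU Ht) : (β / β') ^ 2 * γ ∈ TU Ht := by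
  have h1 : tor (Units.mk0 (β / β') (div_ne_zero hβ0 hβ'0)) ∈ Ht := by
    rw [← nmat_mul_inv β β' hβ0 hβ'0]
    exact Ht.mul_mem (hS.nmat_mem hβ hβ0) (Ht.inv_mem (hS.nmat_mem hβ' hβ'0))
  have h2 := Ht.mul_mem (Ht.mul_mem h1 hγ) (Ht.inv_mem h1)
  rw [tor_conj_up, Units.val_mk0] at h2
  exact h2

/-! ### the subfield -/

/-- a multiplicatively closed subgroup from closure under multiplication by squares -/
theorem mul_mem_of_sq_mul_mem [Fintype F] (p : ℕ) [Fact p.Prime] [CharP F p] (A : AddSubgroup F)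
    (h1 : (1 : F) ∈ A) (hsq : ∀ u v : F, u ∈ A → v ∈ A → u ^ 2 * v ∈ A) :
    ∀ u v : F, u ∈ A → v ∈ A → u * v ∈ A := by
  intro u v hu hv
  by_cases h2 : (2 : F) = 0
  · -- squaring is a bijection of `A`
    have hinj : Function.Injective (fun x : A => (⟨(x : F) ^ 2, by
        have := hsq x 1 x.2 h1; rwa [mul_one] at this⟩ : A)) := by
      intro x y hxy
      have hxy' : (x : F) ^ 2 = (y : F) ^ 2 := congrArg Subtype.val hxy
      apply Subtype.ext
      have h3 : ((x : F) - y) ^ 2 = 0 := by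
        have : ((x : F) - y) ^ 2 = (x : F) ^ 2 + (y : F) ^ 2 - 2 * ((x : F) * y) := by ring
        rw [this, h2, zero_mul, sub_zero, hxy']
        have : (y : F) ^ 2 + (y : F) ^ 2 = 2 * (y : F) ^ 2 := by ring
        rw [this, h2, zero_mul]
      exact sub_eq_zero.mp (pow_eq_zero_iff (two_ne_zero) |>.mp h3)
    have hsurj := Finite.injective_iff_surjective.mp hinj
    obtain ⟨x, hx⟩ := hsurj ⟨u, hu⟩
    have hx' : (x : F) ^ 2 = u := congrArg Subtype.val hx
    rw [← hx']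
    exact hsq x v x.2 hv
  · have h3 : (2 : F) * (u * v) ∈ A := by
      have e : (2 : F) * (u * v) = (u + v) ^ 2 * 1 - u ^ 2 * 1 - v ^ 2 * 1 := by ring
      rw [e]
      exact A.sub_mem (A.sub_mem (hsq _ _ (A.add_mem hu hv) h1) (hsq _ _ hu h1)) (hsq _ _ hv h1)
    -- divide by two
    have hp2 : p ≠ 2 := by
      rintro rfl
      apply h2
      have := CharP.cast_eq_zero F 2
      exact_mod_cast this
    have hodd : p % 2 = 1 := by
      rcases (Fact.out : p.Prime).eq_two_or_odd with h | h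
      · exact absurd h hp2
      · exact h
    have h4 : ((p + 1) / 2) • ((2 : F) * (u * v)) ∈ A := A.nsmul_mem h3 _
    have e : ((p + 1) / 2) • ((2 : F) * (u * v)) = u * v := by
      rw [nsmul_eq_mul, ← mul_assoc]
      have : (((p + 1) / 2 : ℕ) : F) * 2 = 1 := by
        have h5 : (p + 1) / 2 * 2 = p + 1 := by omega
        have : (((p + 1) / 2 * 2 : ℕ) : F) = ((p + 1 : ℕ) : F) := by rw [h5]
        rw [Nat.cast_mul, Nat.cast_add, CharP.cast_eq_zero F p] at this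
        simpa using this
      rw [this, one_mul]
    rwa [e] at h4

end Cfsg.Agent.Helper8.Dk
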