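import Mathlib
import Cfsg.Agent.Helper8.DkGenB

set_option autoImplicit false

/-!
The generic case of Dickson's theorem, part C: the twisted subfield subgroup.
-/

namespace Cfsg.Agent.Helper8.Dk

open Matrix Cfsg.Agent.Helper7.SL2 Cfsg.Agent.Helper8.SL2C Subgroup
open scoped Matrix

variable {F : Type*} [Field F]

/-- conjugation by `diag(e, 1)` -/
def dtw (e : F) (he : e ≠ 0) : SpecialLinearGroup (Fin 2) F →* SpecialLinearGroup (Fin 2) F where
  toFun g := mk' ((g : Matrix (Fin 2) (Fin 2) F) 0 0) (e * (g : Matrix (Fin 2) (Fin 2) F) 0 1)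
    (e⁻¹ * (g : Matrix (Fin 2) (Fin 2) F) 1 0) ((g : Matrix (Fin 2) (Fin 2) F) 1 1) (by
      have hd := det_eq g
      have : e * (g : Matrix (Fin 2) (Fin 2) F) 0 1 * (e⁻¹ * (g : Matrix (Fin 2) (Fin 2) F) 1 0) =
          (g : Matrix (Fin 2) (Fin 2) F) 0 1 * (g : Matrix (Fin 2) (Fin 2) F) 1 0 := by
        field_simp
      rw [this]; exact hd)
  map_one' := by
    apply ext'
    · rw [mk'_00]
    · rw [mk'_01, one_01, mul_zero]
    · rw [mk'_10, one_10, mul_zero]
    · rw [mk'_11]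
  map_mul' g h := by
    apply ext'
    · simp only [mk'_00, mk'_01, mk'_10, mk'_11, coe_mul_apply]
      field_simp
    · simp only [mk'_00, mk'_01, mk'_10, mk'_11, coe_mul_apply]
      ring
    · simp only [mk'_00, mk'_01, mk'_10, mk'_11, coe_mul_apply]
      ring
    · simp only [mk'_00, mk'_01, mk'_10, mk'_11, coe_mul_apply]
      field_simp

theorem dtw_00 (e : F) (he : e ≠ 0) (g : SpecialLinearGroup (Fin 2) F) :
    (dtw e he g : Matrix (Fin 2) (Fin 2) F) 0 0 = (g : Matrix (Fin 2) (Fin 2) F) 0 0 := rfl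
theorem dtw_01 (e : F) (he : e ≠ 0) (g : SpecialLinearGroup (Fin 2) F) :
    (dtw e he g : Matrix (Fin 2) (Fin 2) F) 0 1 = e * (g : Matrix (Fin 2) (Fin 2) F) 0 1 := rfl
theorem dtw_10 (e : F) (he : e ≠ 0) (g : SpecialLinearGroup (Fin 2) F) :
    (dtw e he g : Matrix (Fin 2) (Fin 2) F) 1 0 = e⁻¹ * (g : Matrix (Fin 2) (Fin 2) F) 1 0 := rfl
theorem dtw_11 (e : F) (he : e ≠ 0) (g : SpecialLinearGroup (Fin 2) F) :
    (dtw e he g : Matrix (Fin 2) (Fin 2) F) 1 1 = (g : Matrix (Fin 2) (Fin 2) F) 1 1 := rfl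

variable {K : Type*} [Field K]

/-- the twisted embedding of `SL₂(K)` -/
def psi (f : K →+* F) (e : F) (he : e ≠ 0) :
    SpecialLinearGroup (Fin 2) K →* SpecialLinearGroup (Fin 2) F :=
  (dtw e he).comp (SpecialLinearGroup.map f)

theorem map_entry (f : K →+* F) (g : SpecialLinearGroup (Fin 2) K) (i j : Fin 2) :
    (SpecialLinearGroup.map f g : Matrix (Fin 2) (Fin 2) F) i j =
      f ((g : Matrix (Fin 2) (Fin 2) K) i j) := by
  rw [SpecialLinearGroup.map_apply_coe, RingHom.mapMatrix_apply, Matrix.map_apply]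

theorem psi_00 (f : K →+* F) (e : F) (he : e ≠ 0) (g : SpecialLinearGroup (Fin 2) K) :
    (psi f e he g : Matrix (Fin 2) (Fin 2) F) 0 0 = f ((g : Matrix (Fin 2) (Fin 2) K) 0 0) := by
  unfold psi
  rw [MonoidHom.comp_apply, dtw_00, map_entry]
theorem psi_01 (f : K →+* F) (e : F) (he : e ≠ 0) (g : SpecialLinearGroup (Fin 2) K) :
    (psi f e he g : Matrix (Fin 2) (Fin 2) F) 0 1 = e * f ((g : Matrix (Fin 2) (Fin 2) K) 0 1) := by
  unfold psi
  rw [MonoidHom.comp_apply, dtw_01, map_entry]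
theorem psi_10 (f : K →+* F) (e : F) (he : e ≠ 0) (g : SpecialLinearGroup (Fin 2) K) :
    (psi f e he g : Matrix (Fin 2) (Fin 2) F) 1 0 = e⁻¹ * f ((g : Matrix (Fin 2) (Fin 2) K) 1 0) := by
  unfold psi
  rw [MonoidHom.comp_apply, dtw_10, map_entry]
theorem psi_11 (f : K →+* F) (e : F) (he : e ≠ 0) (g : SpecialLinearGroup (Fin 2) K) :
    (psi f e he g : Matrix (Fin 2) (Fin 2) F) 1 1 = f ((g : Matrix (Fin 2) (Fin 2) K) 1 1) := by
  unfold psi
  rw [MonoidHom.comp_apply, dtw_11, map_entry]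

theorem psi_up (f : K →+* F) (e : F) (he : e ≠ 0) (b : K) : psi f e he (up b) = up (e * f b) := by
  apply ext'
  · rw [psi_00, up_00, up_00, map_one]
  · rw [psi_01, up_01, up_01]
  · rw [psi_10, up_10, up_10, map_zero, mul_zero]
  · rw [psi_11, up_11, up_11, map_one]

theorem psi_lo (f : K →+* F) (e : F) (he : e ≠ 0) (c : K) : psi f e he (lo c) = lo (e⁻¹ * f c) := by
  apply ext'
  · rw [psi_00, lo_00, lo_00, map_one]
  · rw [psi_01, lo_01, lo_01, map_zero, mul_zero]
  · rw [psi_10, lo_10, lo_10]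
  · rw [psi_11, lo_11, lo_11, map_one]

theorem psi_injective (f : K →+* F) (e : F) (he : e ≠ 0) : Function.Injective (psi f e he) := by
  intro g h hgh
  have e00 := congrArg (fun x : SpecialLinearGroup (Fin 2) F => (x : Matrix (Fin 2) (Fin 2) F) 0 0) hgh
  have e01 := congrArg (fun x : SpecialLinearGroup (Fin 2) F => (x : Matrix (Fin 2) (Fin 2) F) 0 1) hgh
  have e10 := congrArg (fun x : SpecialLinearGroup (Fin 2) F => (x : Matrix (Fin 2) (Fin 2) F) 1 0) hgh
  have e11 := congrArg (fun x : SpecialLinearGroup (Fin 2) F => (x : Matrix (Fin 2) (Fin 2) F) 1 1) hgh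
  simp only [psi_00, psi_01, psi_10, psi_11] at e00 e01 e10 e11
  apply ext'
  · exact f.injective e00
  · exact f.injective (mul_left_cancel₀ he e01)
  · exact f.injective (mul_left_cancel₀ (inv_ne_zero he) e10)
  · exact f.injective e11

/-- the twisted subfield subgroup lies in a subgroup containing the elementary matrices -/
theorem psi_range_le (f : K →+* F) (e : F) (he : e ≠ 0)
    (Ht : Subgroup (SpecialLinearGroup (Fin 2) F)) (hup : ∀ b : K, up (e * f b) ∈ Ht)
    (hlo : ∀ c : K, lo (e⁻¹ * f c) ∈ Ht) : (psi f e he).range ≤ Ht := by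
  have h : Ht.comap (psi f e he) = ⊤ := by
    apply Cfsg.Agent.Lead.DicksonN.eq_top_of_elem
    · intro t
      change psi f e he (up t) ∈ Ht
      rw [psi_up]; exact hup t
    · intro t
      change psi f e he (lo t) ∈ Ht
      rw [psi_lo]; exact hlo t
  rintro _ ⟨g, rfl⟩
  have : g ∈ Ht.comap (psi f e he) := by rw [h]; exact Subgroup.mem_top g
  exact this

theorem card_psi_range [Fintype K] (f : K →+* F) (e : F) (he : e ≠ 0) :
    Nat.card (psi f e he).range = Fintype.card K * (Fintype.card K ^ 2 - 1) := by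
  rw [← card_SL2 (F := K)]
  exact Nat.card_congr (MonoidHom.ofInjective (psi_injective f e he)).symm.toEquiv

end Cfsg.Agent.Helper8.Dk
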