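import Mathlib
import Cfsg.Agent.Helper8.DkGenC

set_option autoImplicit false

/-!
The generic case of Dickson's theorem, part D: the model field.
-/

namespace Cfsg.Agent.Helper8.Dk

open Matrix Cfsg.Agent.Helper7.SL2 Cfsg.Agent.Helper8.SL2C Subgroup
open scoped Matrix

variable {F : Type*} [Field F]

/-- a model, in the lowest universe, of the subfield attached to a subgroup in standard position -/
theorem exists_model [Fintype F] (p : ℕ) [Fact p.Prime] [CharP F p]
    {Ht : Subgroup (SpecialLinearGroup (Fin 2) F)} {a : ℕ} (hS : StdPos Ht a) {β₀ : F}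
    (hβ₀ : β₀ ∈ TU Ht) (h0 : β₀ ≠ 0) :
    ∃ (K : Type) (_ : Field K) (_ : Fintype K) (f : K →+* F) (m : ℕ), Fintype.card K = a ∧
      Fintype.card K ^ m = Fintype.card F ∧ ∀ x : F, (∃ y, f y = x) ↔ x * β₀ ∈ TU Ht := by
  classical
  let A : AddSubgroup F := (TU Ht).comap (AddMonoidHom.mulRight β₀)
  have hA : ∀ x : F, x ∈ A ↔ x * β₀ ∈ TU Ht := fun x => Iff.rfl
  have h1 : (1 : F) ∈ A := by rw [hA, one_mul]; exact hβ₀
  have hsq : ∀ u v : F, u ∈ A → v ∈ A → u ^ 2 * v ∈ A := by
    intro u v hu hv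
    by_cases hu0 : u = 0
    · rw [hu0]; simp only [ne_eq, OfNat.ofNat_ne_zero, not_false_eq_true, zero_pow, zero_mul]
      exact A.zero_mem
    · rw [hA] at hu hv ⊢
      have := hS.sq_ratio_mem hu (mul_ne_zero hu0 h0) hβ₀ h0 hv
      have e : (u * β₀ / β₀) ^ 2 * (v * β₀) = u ^ 2 * v * β₀ := by
        field_simp
      rwa [e] at this
  have hmul := mul_mem_of_sq_mul_mem p A h1 hsq
  let F₀ : Subfield F := Cfsg.Agent.Lead.DicksonN.subfieldOf A h1 hmul
  have hF₀ : ∀ x : F, x ∈ F₀ ↔ x * β₀ ∈ TU Ht := fun x => Iff.rfl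
  haveI : Fintype F₀ := Fintype.ofFinite F₀
  have hcard : Nat.card F₀ = a := by
    rw [← hS.card_T]
    apply Nat.card_congr
    exact
      { toFun := fun x => ⟨(x : F) * β₀, (hF₀ x).mp x.2⟩
        invFun := fun y => ⟨(y : F) / β₀, by
          rw [hF₀, div_mul_cancel₀ _ h0]; exact y.2⟩
        left_inv := fun x => by
          apply Subtype.ext
          change (x : F) * β₀ / β₀ = x
          rw [mul_div_assoc, div_self h0, mul_one]
        right_inv := fun y => by
          apply Subtype.ext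
          change (y : F) / β₀ * β₀ = y
          rw [div_mul_cancel₀ _ h0] }
  obtain ⟨n, -, hn⟩ := FiniteField.card F₀ p
  let K : Type := GaloisField p n
  haveI : Fintype K := Fintype.ofFinite K
  have hK : Fintype.card K = Fintype.card F₀ := by
    rw [hn, ← Nat.card_eq_fintype_card]
    exact GaloisField.card p n n.ne_zero
  let e : K ≃+* F₀ := FiniteField.ringEquivOfCardEq hK
  refine ⟨K, inferInstance, inferInstance, F₀.subtype.comp e.toRingHom,
    Module.finrank F₀ F, ?_, ?_, ?_⟩
  · rw [hK, ← Nat.card_eq_fintype_card, hcard]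
  · rw [hK, ← Nat.card_eq_fintype_card, ← Nat.card_eq_fintype_card]
    exact (Module.natCard_eq_pow_finrank (K := F₀) (V := F)).symm
  · intro x
    rw [← hF₀]
    constructor
    · rintro ⟨y, rfl⟩
      exact (e y).2
    · intro hx
      refine ⟨e.symm ⟨x, hx⟩, ?_⟩
      change ((e (e.symm ⟨x, hx⟩) : F₀) : F) = x
      rw [RingEquiv.apply_symm_apply]

end Cfsg.Agent.Helper8.Dk
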