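import Mathlib
import Cfsg.Agent.Helper8.SL2Ell2

set_option autoImplicit false

/-!
In characteristic two, `SL₂(F) = T U T` for `T` a nonsplit torus and `U` the upper unitriangular
subgroup.
-/

namespace Cfsg.Agent.Helper8.SL2ABA

open Matrix Cfsg.Agent.Helper7.SL2 Cfsg.Agent.Helper8.SL2C
open scoped Matrix

variable {F : Type*} [Field F]

theorem add_self_eq_zero' (h2 : (2 : F) = 0) (x : F) : x + x = 0 := by
  rw [← two_mul, h2, zero_mul]

theorem neg_eq_self (h2 : (2 : F) = 0) (x : F) : -x = x := by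
  have := add_self_eq_zero' h2 x
  exact neg_eq_of_add_eq_zero_left this

theorem exists_sqrt [Finite F] (h2 : (2 : F) = 0) (a : F) : ∃ r : F, r ^ 2 = a := by
  haveI := Fintype.ofFinite F
  have hc : ringChar F = 2 := by
    haveI : CharP F 2 := CharTwo.of_one_ne_zero_of_two_eq_zero one_ne_zero h2
    exact ringChar.eq F 2
  obtain ⟨r, hr⟩ := FiniteField.isSquare_of_char_two hc a
  exact ⟨r, by rw [hr, pow_two]⟩

/-- the two norm forms `N` and `N ∘ g` have a common vector of norm one. -/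
theorem exists_common [Finite F] (h2 : (2 : F) = 0) {t : F} (ht : Ellt t)
    (g : SpecialLinearGroup (Fin 2) F) :
    ∃ x z : F, x ^ 2 + t * x * z + z ^ 2 = 1 ∧
      ((g : Matrix (Fin 2) (Fin 2) F) 0 0 * x + (g : Matrix (Fin 2) (Fin 2) F) 0 1 * z) ^ 2 +
        t * ((g : Matrix (Fin 2) (Fin 2) F) 0 0 * x + (g : Matrix (Fin 2) (Fin 2) F) 0 1 * z) *
          ((g : Matrix (Fin 2) (Fin 2) F) 1 0 * x + (g : Matrix (Fin 2) (Fin 2) F) 1 1 * z) +
        ((g : Matrix (Fin 2) (Fin 2) F) 1 0 * x + (g : Matrix (Fin 2) (Fin 2) F) 1 1 * z) ^ 2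
        = 1 := by
  obtain ⟨g00, hg00⟩ : ∃ y, y = (g : Matrix (Fin 2) (Fin 2) F) 0 0 := ⟨_, rfl⟩
  obtain ⟨g01, hg01⟩ : ∃ y, y = (g : Matrix (Fin 2) (Fin 2) F) 0 1 := ⟨_, rfl⟩
  obtain ⟨g10, hg10⟩ : ∃ y, y = (g : Matrix (Fin 2) (Fin 2) F) 1 0 := ⟨_, rfl⟩
  obtain ⟨g11, hg11⟩ : ∃ y, y = (g : Matrix (Fin 2) (Fin 2) F) 1 1 := ⟨_, rfl⟩
  have hd : g00 * g11 - g01 * g10 = 1 := by
    rw [hg00, hg01, hg10, hg11]
    exact det_eq g
  rw [← hg00, ← hg01, ← hg10, ← hg11]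
  -- the difference of the two forms is a square of a linear form
  obtain ⟨r, hr⟩ := exists_sqrt h2 (g00 ^ 2 + t * g00 * g10 + g10 ^ 2 + 1)
  obtain ⟨s, hs⟩ := exists_sqrt h2 (g01 ^ 2 + t * g01 * g11 + g11 ^ 2 + 1)
  have key : ∀ x z : F, (g00 * x + g01 * z) ^ 2 + t * (g00 * x + g01 * z) * (g10 * x + g11 * z) +
      (g10 * x + g11 * z) ^ 2 = (x ^ 2 + t * x * z + z ^ 2) + (r * x + s * z) ^ 2 := by
    intro x z
    have e2 : (2 : F) * (x * z * (g00 * g01 + g10 * g11 - r * s + t * g01 * g10)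
        - x ^ 2 - z ^ 2) = 0 := by
      rw [h2, zero_mul]
    linear_combination (t * x * z) * hd - x ^ 2 * hr - z ^ 2 * hs + e2
  -- a nonzero vector on which the linear form vanishes
  obtain ⟨x, z, hxz, hlin⟩ : ∃ x z : F, (x ≠ 0 ∨ z ≠ 0) ∧ r * x + s * z = 0 := by
    by_cases hrs : r = 0 ∧ s = 0
    · exact ⟨1, 0, Or.inl one_ne_zero, by rw [hrs.1, hrs.2]; ring⟩
    · refine ⟨s, r, ?_, ?_⟩
      · by_contra hcon
        push Not at hcon
        exact hrs ⟨hcon.2, hcon.1⟩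
      · have := add_self_eq_zero' h2 (r * s)
        linear_combination this
  have hn : x ^ 2 + t * x * z + z ^ 2 ≠ 0 := by
    intro h
    obtain ⟨hx, hz⟩ := norm_aniso ht h
    rcases hxz with h' | h'
    · exact h' hx
    · exact h' hz
  obtain ⟨m, hm⟩ := exists_sqrt h2 (x ^ 2 + t * x * z + z ^ 2)
  have hm0 : m ≠ 0 := by
    rintro rfl
    apply hn
    rw [← hm]
    ring
  have hN : (x / m) ^ 2 + t * (x / m) * (z / m) + (z / m) ^ 2 = 1 := by
    field_simp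
    rw [hm]
    ring
  refine ⟨x / m, z / m, hN, ?_⟩
  rw [key, hN]
  have : r * (x / m) + s * (z / m) = 0 := by
    field_simp
    linear_combination hlin
  rw [this]
  ring

/-- **`SL₂ = T U T` in characteristic two.** -/
theorem exists_decomp [Finite F] (h2 : (2 : F) = 0) {t : F} (ht : Ellt t)
    (g : SpecialLinearGroup (Fin 2) F) :
    ∃ a ∈ Tc t, ∃ u ∈ U F, ∃ c ∈ Tc t, g = a * u * c := by
  obtain ⟨x, z, hN, hN'⟩ := exists_common h2 ht g
  obtain ⟨X, hX⟩ : ∃ X, X = (g : Matrix (Fin 2) (Fin 2) F) 0 0 * x +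
    (g : Matrix (Fin 2) (Fin 2) F) 0 1 * z := ⟨_, rfl⟩
  obtain ⟨Z, hZ⟩ : ∃ Z, Z = (g : Matrix (Fin 2) (Fin 2) F) 1 0 * x +
    (g : Matrix (Fin 2) (Fin 2) F) 1 1 * z := ⟨_, rfl⟩
  rw [← hX, ← hZ] at hN'
  have hu : (tmk t X Z hN')⁻¹ * g * tmk t x z hN ∈ U F := by
    obtain ⟨i00, i01, i10, i11⟩ := coe_inv_apply (tmk t X Z hN')
    have hd := det_eq g
    have h00 : ((tmk t X Z hN')⁻¹ * g * tmk t x z hN : SpecialLinearGroup (Fin 2) F).1 0 0 = 1 := by
      rw [coe_mul_apply, coe_mul_apply, coe_mul_apply, i00, i01]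
      unfold tmk
      simp only [mk'_00, mk'_01, mk'_10, mk'_11]
      linear_combination hN' + (-(X + t * Z)) * hX + (-Z) * hZ
    have h10 : ((tmk t X Z hN')⁻¹ * g * tmk t x z hN : SpecialLinearGroup (Fin 2) F).1 1 0 = 0 := by
      rw [coe_mul_apply, coe_mul_apply, coe_mul_apply, i10, i11]
      unfold tmk
      simp only [mk'_00, mk'_01, mk'_10, mk'_11]
      linear_combination Z * hX + (-X) * hZ
    refine ⟨h00, h10, ?_⟩
    have hd' := det_eq ((tmk t X Z hN')⁻¹ * g * tmk t x z hN)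
    rw [h00, h10] at hd'
    linear_combination hd'
  refine ⟨tmk t X Z hN', tmk_mem t X Z hN', _, hu, (tmk t x z hN)⁻¹,
    (Tc t).inv_mem (tmk_mem t x z hN), ?_⟩
  group

theorem two_eq_zero_of_dvd [Fintype F] (h : 2 ∣ Fintype.card F) : (2 : F) = 0 := by
  have hc : ringChar F = 2 :=
    (FiniteField.even_card_iff_char_two (F := F)).mpr (Nat.mod_eq_zero_of_dvd h)
  have h3 : ((2 : ℕ) : F) = 0 := (ringChar.spec F 2).mpr (by rw [hc])
  exact_mod_cast h3

/-- in characteristic two the centre of `SL₂` is trivial. -/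
theorem center_eq_bot (h2 : (2 : F) = 0) :
    Subgroup.center (SpecialLinearGroup (Fin 2) F) = ⊥ := by
  rw [eq_bot_iff]
  intro z hz
  rw [Matrix.SpecialLinearGroup.mem_center_iff] at hz
  obtain ⟨r, hr, hz⟩ := hz
  rw [Fintype.card_fin] at hr
  have hr1 : r = 1 := by
    have : (r - 1) ^ 2 = 0 := by
      have e : (2 : F) * (1 - r) = 0 := by rw [h2, zero_mul]
      linear_combination hr + e
    have := pow_eq_zero_iff (two_ne_zero) |>.mp this
    linear_combination this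
  rw [Subgroup.mem_bot]
  apply Subtype.ext
  rw [← hz, hr1, map_one]
  rfl

theorem U_comm {a b : SpecialLinearGroup (Fin 2) F} (ha : a ∈ U F) (hb : b ∈ U F) :
    a * b = b * a := by
  obtain ⟨a00, a10, a11⟩ := ha
  obtain ⟨b00, b10, b11⟩ := hb
  apply ext' <;> simp only [coe_mul_apply, a00, a10, a11, b00, b10, b11] <;> ring

theorem U_sq (h2 : (2 : F) = 0) {a : SpecialLinearGroup (Fin 2) F} (ha : a ∈ U F) :
    a * a = 1 := by
  obtain ⟨a00, a10, a11⟩ := ha
  apply ext'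
  · rw [coe_mul_apply, a00, a10, one_00]; ring
  · rw [coe_mul_apply, a00, a11, one_01]
    linear_combination (a.1 0 1) * h2
  · rw [coe_mul_apply, a00, a10, one_10]; ring
  · rw [coe_mul_apply, a10, a11, one_11]; ring

end Cfsg.Agent.Helper8.SL2ABA
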