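import Mathlib
import Cfsg.Agent.Helper8.DkGenD
import Cfsg.Agent.Helper8.SL2ABA

set_option autoImplicit false

/-!
The generic case of Dickson's theorem, part E: the structure of a subgroup in standard position.
-/

namespace Cfsg.Agent.Helper8.Dk

open Matrix Cfsg.Agent.Helper7.SL2 Cfsg.Agent.Helper8.SL2C Subgroup
open scoped Matrix

variable {F : Type*} [Field F]

theorem lo_zero : lo (0 : F) = 1 := by
  apply ext'
  · rw [lo_00, one_00]
  · rw [lo_01, one_01]
  · rw [lo_10, one_10]
  · rw [lo_11, one_11]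

theorem B_conj_up {b : SpecialLinearGroup (Fin 2) F} (hb : b ∈ B F) (γ : F) :
    b * up γ * b⁻¹ = up ((b : Matrix (Fin 2) (Fin 2) F) 0 0 ^ 2 * γ) := by
  obtain ⟨i00, i01, i10, i11⟩ := coe_inv_apply b
  have hd := diag_of_mem_B hb
  have h10 := mem_B.mp hb
  apply ext'
  · simp only [coe_mul_apply, i00, i10, up_00, up_01, up_10, up_11, h10]
    linear_combination hd
  · simp only [coe_mul_apply, i01, i11, up_00, up_01, up_10, up_11, h10]
    ring
  · simp only [coe_mul_apply, i00, i10, up_00, up_01, up_10, up_11, h10]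
    ring
  · simp only [coe_mul_apply, i01, i11, up_00, up_01, up_10, up_11, h10]
    linear_combination hd

theorem card_center_of_two_ne [Fintype F] (h2 : (2 : F) ≠ 0) :
    Nat.card (center (SpecialLinearGroup (Fin 2) F)) = 2 := by
  rw [card_center_SL2]
  have hodd : ¬ 2 ∣ Fintype.card F := fun h => h2 (Cfsg.Agent.Helper8.SL2ABA.two_eq_zero_of_dvd h)
  have h1 : 2 ≤ Fintype.card F := Fintype.one_lt_card
  apply Nat.gcd_eq_left
  omega

theorem card_center_of_two_eq [Fintype F] (h2 : (2 : F) = 0) :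
    Nat.card (center (SpecialLinearGroup (Fin 2) F)) = 1 := by
  rw [Cfsg.Agent.Helper8.SL2ABA.center_eq_bot h2]
  exact Subgroup.card_bot

theorem arith_aux (a : ℕ) (ha : 1 ≤ a) : (a + 1) * (a * (a - 1)) = a * (a ^ 2 - 1) := by
  obtain ⟨j, rfl⟩ : ∃ j, a = j + 1 := ⟨a - 1, by omega⟩
  have : (j + 1) ^ 2 - 1 = j * (j + 2) := by
    apply Nat.sub_eq_of_eq_add; ring
  rw [this, Nat.add_sub_cancel]; ring

section Main

variable [Fintype F]
variable {Ht : Subgroup (SpecialLinearGroup (Fin 2) F)} {a k : ℕ}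
variable {K : Type*} [Field K] [Fintype K] (f : K →+* F) {β₀ : F}

/-- the structure of a subgroup in standard position -/
theorem std_structure (hS : StdPos Ht a)
    (ha2 : 2 ≤ a)
    (hB : Nat.card (B F ⊓ Ht : Subgroup (SpecialLinearGroup (Fin 2) F)) =
      Nat.card (center (SpecialLinearGroup (Fin 2) F)) * (a * k))
    (hk : k = a - 1 ∨ 2 * k = a - 1) (hβ₀ : β₀ ∈ TU Ht) (h0 : β₀ ≠ 0)
    (hK : Fintype.card K = a) (hf : ∀ x : F, (∃ y, f y = x) ↔ x * β₀ ∈ TU Ht) :
    Ht = (psi f β₀ h0).range ∨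
      ((2 : F) ≠ 0 ∧ (psi f β₀ h0).range ≤ Ht ∧ Nat.card Ht = 2 * (a * (a ^ 2 - 1)) ∧
        ∃ c : Fˣ, tor c ∈ Ht ∧ tor c ∉ (psi f β₀ h0).range ∧ (∃ ν : K, f ν = (c : F) ^ 2) ∧
          ∀ h ∈ Ht, h ∈ (psi f β₀ h0).range ∨ h * (tor c)⁻¹ ∈ (psi f β₀ h0).range) := by
  -- the subfield subgroup is contained in `Ht`
  have hup : ∀ b : K, up (β₀ * f b) ∈ Ht := by
    intro b
    have := (hf (f b)).mp ⟨b, rfl⟩
    rwa [mul_comm] at this
  have hlo : ∀ c : K, lo (β₀⁻¹ * f c) ∈ Ht := by
    intro c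
    by_cases hc : c = 0
    · rw [hc, map_zero, mul_zero, lo_zero]; exact Ht.one_mem
    · have hfc : f c ≠ 0 := fun h => hc (f.injective (by rw [h, map_zero]))
      have h1 : f c⁻¹ * β₀ ∈ TU Ht := (hf (f c⁻¹)).mp ⟨c⁻¹, rfl⟩
      have h2 : f c⁻¹ * β₀ ≠ 0 := by
        rw [map_inv₀]; exact mul_ne_zero (inv_ne_zero hfc) h0
      have := hS.lo_inv_mem h1 h2
      have e : (f c⁻¹ * β₀)⁻¹ = β₀⁻¹ * f c := by
        rw [map_inv₀, mul_inv, inv_inv, mul_comm]
      rwa [e] at this
  have hle : (psi f β₀ h0).range ≤ Ht := psi_range_le f β₀ h0 Ht hup hlo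
  have hcardR : Nat.card (psi f β₀ h0).range = a * (a ^ 2 - 1) := by
    rw [card_psi_range, hK]
  have hcardH : Nat.card Ht = (a + 1) *
      (Nat.card (center (SpecialLinearGroup (Fin 2) F)) * (a * k)) := by
    rw [hS.idx, hB]
  have hcaseA : Nat.card (center (SpecialLinearGroup (Fin 2) F)) * k = a - 1 →
      Ht = (psi f β₀ h0).range := by
    intro hdk
    symm
    apply Subgroup.eq_of_le_of_card_ge hle
    rw [hcardR, hcardH, ← arith_aux a (by omega), ← hdk]
    apply le_of_eq; ring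
  by_cases h2 : (2 : F) = 0
  · left
    apply hcaseA
    rw [card_center_of_two_eq h2, one_mul]
    have heven : 2 ∣ a := by
      rw [← hS.card_T]
      have hord : addOrderOf (⟨β₀, hβ₀⟩ : TU Ht) = 2 := by
        apply addOrderOf_eq_prime
        · apply Subtype.ext
          change 2 • β₀ = 0
          rw [two_nsmul]
          linear_combination β₀ * h2
        · intro h
          exact h0 (congrArg Subtype.val h)
      rw [← hord]
      exact addOrderOf_dvd_natCard _
    rcases hk with hk | hk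
    · exact hk
    · omega
  · rcases hk with hk | hk
    swap
    · left
      apply hcaseA
      rw [card_center_of_two_ne h2]
      exact hk
    right
    have hcardH2 : Nat.card Ht = 2 * (a * (a ^ 2 - 1)) := by
      rw [hcardH, card_center_of_two_ne h2, hk, ← arith_aux a (by omega)]
      ring
    refine ⟨h2, hle, hcardH2, ?_⟩
    -- elements of the subfield subgroup
    have hupR : ∀ β ∈ TU Ht, up β ∈ (psi f β₀ h0).range := by
      intro β hβ
      have h1 : β / β₀ * β₀ ∈ TU Ht := by rwa [div_mul_cancel₀ _ h0]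
      obtain ⟨y, hy⟩ := (hf (β / β₀)).mpr h1
      refine ⟨up y, ?_⟩
      rw [psi_up, hy, mul_div_cancel₀ _ h0]
    have hnR : nmat β₀ h0 ∈ (psi f β₀ h0).range := by
      rw [nmat_eq]
      refine Subgroup.mul_mem _ (Subgroup.mul_mem _ (hupR β₀ hβ₀) ?_) (hupR β₀ hβ₀)
      refine ⟨lo (-1), ?_⟩
      rw [psi_lo, map_neg, map_one, inv_neg]
      ring_nf
    -- an element outside
    have hex : ∃ h ∈ Ht, h ∉ (psi f β₀ h0).range := by
      by_contra hcon
      push Not at hcon
      have heq : Ht = (psi f β₀ h0).range := le_antisymm hcon hle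
      rw [heq, hcardR] at hcardH2
      have hpos : 0 < a * (a ^ 2 - 1) := by
        rw [← hcardR]; exact Nat.card_pos
      omega
    obtain ⟨h, hh, hhR⟩ := hex
    -- move it into the Borel subgroup
    have hexB : ∃ b ∈ Ht, b ∈ B F ∧ b ∉ (psi f β₀ h0).range := by
      by_cases h10 : (h : Matrix (Fin 2) (Fin 2) F) 1 0 = 0
      · exact ⟨h, hh, h10, hhR⟩
      · obtain ⟨β, hβ, hr⟩ := hS.ratio hh h10
        have hβ' : -β ∈ TU Ht := (TU Ht).neg_mem hβ
        obtain ⟨i00, i01, i10, i11⟩ := coe_inv_apply (nmat β₀ h0)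
        refine ⟨(nmat β₀ h0)⁻¹ * (up (-β) * h),
          Ht.mul_mem (Ht.inv_mem (hS.nmat_mem hβ₀ h0)) (Ht.mul_mem hβ' hh), ?_, ?_⟩
        · rw [mem_B]
          simp only [coe_mul_apply, i10, i11, nmat_00, nmat_10, up_00, up_01, up_10, up_11, hr]
          ring
        · intro hmem
          apply hhR
          have h1 := Subgroup.mul_mem _ hnR hmem
          rw [mul_inv_cancel_left] at h1
          have h2 := Subgroup.mul_mem _ (hupR β hβ) h1
          rwa [← mul_assoc, up_mul_up, add_neg_cancel, up_zero, one_mul] at h2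
    obtain ⟨b, hbH, hbB, hbR⟩ := hexB
    have hc0 := B_diag_ne_zero hbB
    have hd := diag_of_mem_B hbB
    have hb10 := mem_B.mp hbB
    -- the square of the diagonal entry lies in the subfield
    have hν : ∃ ν : K, f ν = (b : Matrix (Fin 2) (Fin 2) F) 0 0 ^ 2 := by
      apply (hf _).mpr
      have := Ht.mul_mem (Ht.mul_mem hbH hβ₀) (Ht.inv_mem hbH)
      rwa [B_conj_up hbB] at this
    obtain ⟨ν, hν⟩ := hν
    have hν0 : ν ≠ 0 := by
      rintro rfl
      rw [map_zero] at hν
      exact hc0 (pow_eq_zero_iff (two_ne_zero) |>.mp hν.symm)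
    -- the off-diagonal entry
    have hxc : (b : Matrix (Fin 2) (Fin 2) F) 0 1 * (b : Matrix (Fin 2) (Fin 2) F) 0 0 ∈ TU Ht := by
      have hbn : b * nmat β₀ h0 ∈ Ht := Ht.mul_mem hbH (hS.nmat_mem hβ₀ h0)
      have h10 : ((b * nmat β₀ h0 : SpecialLinearGroup (Fin 2) F) :
          Matrix (Fin 2) (Fin 2) F) 1 0 ≠ 0 := by
        simp only [coe_mul_apply, nmat_00, nmat_10, hb10]
        have h11 : (b : Matrix (Fin 2) (Fin 2) F) 1 1 ≠ 0 := by
          intro h; rw [h, mul_zero] at hd; exact zero_ne_one hd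
        simp only [zero_mul, zero_add]
        exact mul_ne_zero h11 (neg_ne_zero.mpr (inv_ne_zero h0))
      obtain ⟨β, hβ, hr⟩ := hS.ratio hbn h10
      simp only [coe_mul_apply, nmat_00, nmat_10, hb10] at hr
      have : β = (b : Matrix (Fin 2) (Fin 2) F) 0 1 * (b : Matrix (Fin 2) (Fin 2) F) 0 0 := by
        have h3 : (b : Matrix (Fin 2) (Fin 2) F) 0 1 =
            (b : Matrix (Fin 2) (Fin 2) F) 1 1 * β := by
          have h4 : -β₀⁻¹ ≠ 0 := neg_ne_zero.mpr (inv_ne_zero h0)
          apply mul_right_cancel₀ h4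
          linear_combination hr
        rw [h3]
        linear_combination -β * hd
      rwa [this] at hβ
    have hy : (b : Matrix (Fin 2) (Fin 2) F) 0 1 / (b : Matrix (Fin 2) (Fin 2) F) 0 0 ∈ TU Ht := by
      have h1 : (b : Matrix (Fin 2) (Fin 2) F) 0 1 * (b : Matrix (Fin 2) (Fin 2) F) 0 0 / β₀ * β₀ ∈
          TU Ht := by rwa [div_mul_cancel₀ _ h0]
      obtain ⟨z₁, hz₁⟩ := (hf _).mpr h1
      have h2 : f (z₁ * ν⁻¹) * β₀ ∈ TU Ht := (hf _).mp ⟨_, rfl⟩
      have e : f (z₁ * ν⁻¹) * β₀ =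
          (b : Matrix (Fin 2) (Fin 2) F) 0 1 / (b : Matrix (Fin 2) (Fin 2) F) 0 0 := by
        rw [map_mul, map_inv₀, hz₁, hν]
        field_simp
      rwa [e] at h2
    -- the diagonal element
    have htor : b * up (-((b : Matrix (Fin 2) (Fin 2) F) 0 1 / (b : Matrix (Fin 2) (Fin 2) F) 0 0)) =
        tor (Units.mk0 _ hc0) := by
      apply ext'
      · simp only [coe_mul_apply, up_00, up_01, up_10, up_11, tor_00, Units.val_mk0]
        ring
      · simp only [coe_mul_apply, up_00, up_01, up_10, up_11, tor_01]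
        field_simp
        ring
      · simp only [coe_mul_apply, up_00, up_01, up_10, up_11, tor_10, hb10]
        ring
      · simp only [coe_mul_apply, up_00, up_01, up_10, up_11, tor_11, hb10,
          Units.val_inv_eq_inv_val, Units.val_mk0]
        rw [zero_mul, zero_add, mul_one]
        exact eq_inv_of_mul_eq_one_right hd
    have htH : tor (Units.mk0 _ hc0) ∈ Ht := by
      rw [← htor]
      exact Ht.mul_mem hbH ((TU Ht).neg_mem hy)
    have htR : tor (Units.mk0 _ hc0) ∉ (psi f β₀ h0).range := by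
      intro hmem
      apply hbR
      rw [← htor] at hmem
      have := Subgroup.mul_mem _ hmem (hupR _ hy)
      rwa [mul_assoc, up_mul_up, neg_add_cancel, up_zero, mul_one] at this
    refine ⟨Units.mk0 _ hc0, htH, htR, ⟨ν, by rw [hν, Units.val_mk0]⟩, ?_⟩
    -- index two
    have hidx : ((psi f β₀ h0).range.subgroupOf Ht).index = 2 := by
      have h1 := Subgroup.card_mul_index ((psi f β₀ h0).range.subgroupOf Ht)
      rw [Nat.card_congr (Subgroup.subgroupOfEquivOfLe hle).toEquiv, hcardR, hcardH2] at h1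
      have hpos : 0 < a * (a ^ 2 - 1) := by
        rw [← hcardR]; exact Nat.card_pos
      apply Nat.eq_of_mul_eq_mul_left hpos
      rw [h1]; ring
    intro g hg
    by_cases hgR : g ∈ (psi f β₀ h0).range
    · exact Or.inl hgR
    · right
      have := Subgroup.mul_mem_iff_of_index_two hidx (a := (⟨g, hg⟩ : Ht))
        (b := (⟨(tor (Units.mk0 _ hc0))⁻¹, Ht.inv_mem htH⟩ : Ht))
      rw [mem_subgroupOf, mem_subgroupOf, mem_subgroupOf] at this
      apply this.mpr
      constructor
      · intro h; exact absurd h hgR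
      · intro h
        exfalso
        apply htR
        have := Subgroup.inv_mem _ h
        simpa using this

end Main

end Cfsg.Agent.Helper8.Dk
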