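import Mathlib
import Cfsg.Agent.Helper8.DkGenE
import Cfsg.Agent.Lead.PSL2SubF

set_option autoImplicit false

/-!
The generic case of Dickson's theorem, part F: the isomorphisms with `PSL₂(K)` and `PGL₂(K)`.
-/

namespace Cfsg.Agent.Helper8.Dk

open Matrix Cfsg.Agent.Helper7.SL2 Cfsg.Agent.Helper8.SL2C Subgroup
open scoped Matrix

variable {F : Type*} [Field F] {K : Type*} [Field K]

theorem psi_neg_one (f : K →+* F) (e : F) (he : e ≠ 0) :
    psi f e he (-1) = -1 := by
  apply ext'
  · rw [psi_00, SL2C.neg_apply, SL2C.neg_apply, one_00, one_00, map_neg, map_one]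
  · rw [psi_01, SL2C.neg_apply, SL2C.neg_apply, one_01, one_01, neg_zero, map_zero, mul_zero]
    simp
  · rw [psi_10, SL2C.neg_apply, SL2C.neg_apply, one_10, one_10, neg_zero, map_zero, mul_zero]
    simp
  · rw [psi_11, SL2C.neg_apply, SL2C.neg_apply, one_11, one_11, map_neg, map_one]

/-- the twisted embedding of `PSL₂(K)` -/
noncomputable def pslTw (f : K →+* F) (e : F) (he : e ≠ 0) :
    ProjectiveSpecialLinearGroup (Fin 2) K →* ProjectiveSpecialLinearGroup (Fin 2) F :=
  QuotientGroup.map _ _ (psi f e he) (by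
    intro g hg
    rw [mem_center_iff'] at hg
    rw [Subgroup.mem_comap, mem_center_iff']
    rcases hg with rfl | rfl
    · left; exact map_one _
    · right; exact psi_neg_one f e he)

theorem pslTw_pmk (f : K →+* F) (e : F) (he : e ≠ 0) (g : SpecialLinearGroup (Fin 2) K) :
    pslTw f e he (pmk g) = pmk (psi f e he g) := rfl

theorem pslTw_injective (f : K →+* F) (e : F) (he : e ≠ 0) : Function.Injective (pslTw f e he) := by
  rw [injective_iff_map_eq_one]
  intro x hx
  obtain ⟨g, rfl⟩ := pmk_surjective x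
  rw [pslTw_pmk, pmk_eq_one_iff] at hx
  rw [pmk_eq_one_iff]
  rcases hx with hx | hx
  · left
    apply psi_injective f e he
    rw [hx, map_one]
  · right
    apply psi_injective f e he
    rw [hx, psi_neg_one]

theorem pslTw_range (f : K →+* F) (e : F) (he : e ≠ 0) :
    (pslTw f e he).range = (psi f e he).range.map (ph F) := by
  ext x
  constructor
  · rintro ⟨y, rfl⟩
    obtain ⟨g, rfl⟩ := pmk_surjective y
    exact ⟨psi f e he g, ⟨g, rfl⟩, rfl⟩
  · rintro ⟨_, ⟨g, rfl⟩, rfl⟩
    exact ⟨pmk g, rfl⟩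

/-- the first case: the subgroup is a twisted `PSL₂(K)` -/
theorem equiv_PSL (f : K →+* F) (e : F) (he : e ≠ 0)
    (H' : Subgroup (ProjectiveSpecialLinearGroup (Fin 2) F))
    (h : H'.comap (ph F) = (psi f e he).range) :
    Nonempty (H' ≃* ProjectiveSpecialLinearGroup (Fin 2) K) := by
  have h1 : H' = (pslTw f e he).range := by
    rw [pslTw_range, ← h, Subgroup.map_comap_eq_self_of_surjective ph_surjective]
  rw [h1]
  exact ⟨(MonoidHom.ofInjective (pslTw_injective f e he)).symm⟩

/-! ### the second case -/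

section PGL

open Matrix.ProjGenLinGroup Cfsg.Agent.Lead.PSL2Sub

/-- the diagonal matrix `diag(e, 1)` -/
noncomputable def dmat (e : F) (he : e ≠ 0) : GL (Fin 2) F :=
  Matrix.GeneralLinearGroup.mkOfDetNeZero !![e, 0; 0, 1] (by
    rw [Matrix.det_fin_two_of]; simpa using he)

theorem dmat_coe (e : F) (he : e ≠ 0) :
    ((dmat e he : GL (Fin 2) F) : Matrix (Fin 2) (Fin 2) F) = !![e, 0; 0, 1] := rfl

theorem toGL_psi_mul (f : K →+* F) (e : F) (he : e ≠ 0) (g : SpecialLinearGroup (Fin 2) K) :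
    Matrix.SpecialLinearGroup.toGL (psi f e he g) * dmat e he =
      dmat e he * Matrix.GeneralLinearGroup.map f (Matrix.SpecialLinearGroup.toGL g) := by
  apply Matrix.GeneralLinearGroup.ext
  intro i j
  rw [Matrix.GeneralLinearGroup.coe_mul, Matrix.GeneralLinearGroup.coe_mul, dmat_coe,
    Matrix.mul_apply, Matrix.mul_apply, Fin.sum_univ_two, Fin.sum_univ_two]
  fin_cases i <;> fin_cases j
  · simp [psi_00, Matrix.GeneralLinearGroup.map_apply]
    ring
  · simp [psi_01, Matrix.GeneralLinearGroup.map_apply]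
  · simp [psi_10, Matrix.GeneralLinearGroup.map_apply]
    field_simp
  · simp [psi_11, Matrix.GeneralLinearGroup.map_apply]

/-- the image in `PGL₂(F)` of a twisted subfield element -/
theorem toPGL_psi (f : K →+* F) (e : F) (he : e ≠ 0) (g : SpecialLinearGroup (Fin 2) K) :
    Matrix.ProjectiveSpecialLinearGroup.toPGL (pmk (psi f e he g)) =
      mk (dmat e he) * pglMap f (mk (Matrix.SpecialLinearGroup.toGL g)) * (mk (dmat e he))⁻¹ := by
  change mk (Matrix.SpecialLinearGroup.toGL (psi f e he g)) = _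
  rw [pglMap_mk, ← map_mul, ← toGL_psi_mul, map_mul, mul_inv_cancel_right]

theorem toPGL_tor (f : K →+* F) (e : F) (he : e ≠ 0) (c : Fˣ) (ν : K) (hν : f ν = (c : F) ^ 2) :
    ∃ x : Matrix.ProjGenLinGroup (Fin 2) K,
      Matrix.ProjectiveSpecialLinearGroup.toPGL (pmk (tor c)) =
        mk (dmat e he) * pglMap f x * (mk (dmat e he))⁻¹ := by
  have hν0 : ν ≠ 0 := by
    rintro rfl
    rw [map_zero] at hν
    exact c.ne_zero (pow_eq_zero_iff (two_ne_zero) |>.mp hν.symm)
  refine ⟨mk (dmat ν hν0), ?_⟩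
  change mk (Matrix.SpecialLinearGroup.toGL (tor c)) = _
  rw [pglMap_mk]
  have h1 : mk (Matrix.SpecialLinearGroup.toGL (tor c)) =
      mk (Matrix.GeneralLinearGroup.map f (dmat ν hν0)) := by
    rw [mk_eq_mk_iff]
    refine ⟨c, ?_⟩
    apply Matrix.GeneralLinearGroup.ext
    intro i j
    rw [Matrix.GeneralLinearGroup.coe_mul, Matrix.GeneralLinearGroup.coe_scalar,
      Matrix.mul_apply, Fin.sum_univ_two, Matrix.GeneralLinearGroup.map_apply, dmat_coe]
    fin_cases i <;> fin_cases j
    · simp [tor_00, hν]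
      ring
    · simp [tor_01]
    · simp [tor_10]
    · simp [tor_11]
  have h2 : dmat e he * Matrix.GeneralLinearGroup.map f (dmat ν hν0) =
      Matrix.GeneralLinearGroup.map f (dmat ν hν0) * dmat e he := by
    apply Matrix.GeneralLinearGroup.ext
    intro i j
    rw [Matrix.GeneralLinearGroup.coe_mul, Matrix.GeneralLinearGroup.coe_mul, dmat_coe,
      Matrix.mul_apply, Matrix.mul_apply, Fin.sum_univ_two, Fin.sum_univ_two]
    fin_cases i <;> fin_cases j <;>
      simp [Matrix.GeneralLinearGroup.map_apply, dmat_coe] <;> ring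
  rw [h1, ← map_mul, h2, map_mul, mul_inv_cancel_right]

/-- the second case: the subgroup is a twisted `PGL₂(K)` -/
theorem equiv_PGL [Fintype F] [Fintype K] (f : K →+* F) (e : F) (he : e ≠ 0)
    (H' : Subgroup (ProjectiveSpecialLinearGroup (Fin 2) F)) {a : ℕ} (hK : Fintype.card K = a)
    (h2 : (2 : F) ≠ 0) (hcard : Nat.card (H'.comap (ph F)) = 2 * (a * (a ^ 2 - 1)))
    (c : Fˣ) (ν : K) (hν : f ν = (c : F) ^ 2)
    (hall : ∀ h ∈ H'.comap (ph F), h ∈ (psi f e he).range ∨ h * (tor c)⁻¹ ∈ (psi f e he).range) :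
    Nonempty (H' ≃* Matrix.ProjGenLinGroup (Fin 2) K) := by
  haveI : Finite (Matrix.ProjGenLinGroup (Fin 2) F) :=
    Finite.of_surjective (mk : GL (Fin 2) F → Matrix.ProjGenLinGroup (Fin 2) F) mk_surjective
  have hle : H'.map Matrix.ProjectiveSpecialLinearGroup.toPGL ≤
      cj (mk (dmat e he)) (pglMap f).range := by
    rintro _ ⟨x, hx, rfl⟩
    obtain ⟨h, rfl⟩ := pmk_surjective x
    have hh : h ∈ H'.comap (ph F) := hx
    rcases hall h hh with ⟨g, rfl⟩ | ⟨g, hg⟩
    · rw [toPGL_psi]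
      exact conj_mem_cj ⟨_, rfl⟩
    · have e1 : h = psi f e he g * tor c := by rw [hg, inv_mul_cancel_right]
      have e2 : pmk h = pmk (psi f e he g) * pmk (tor c) := by rw [e1]; rfl
      rw [e2, map_mul, toPGL_psi]
      obtain ⟨y, hy⟩ := toPGL_tor f e he c ν hν
      rw [hy]
      exact Subgroup.mul_mem _ (conj_mem_cj ⟨_, rfl⟩) (conj_mem_cj ⟨_, rfl⟩)
  have hc1 : Nat.card (H'.map Matrix.ProjectiveSpecialLinearGroup.toPGL) = a * (a ^ 2 - 1) := by
    rw [Subgroup.card_map_of_injective Matrix.ProjectiveSpecialLinearGroup.toPGL_injective]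
    have h1 := card_comap_of_surjective (ph F) ph_surjective H'
    rw [ker_ph, card_center_of_two_ne h2, hcard] at h1
    omega
  have hc2 : Nat.card (cj (mk (dmat e he)) (pglMap f).range) = a * (a ^ 2 - 1) := by
    rw [card_cj, Nat.card_congr (MonoidHom.ofInjective (pglMap_injective f)).symm.toEquiv,
      card_PGL2, hK]
  have heq : H'.map Matrix.ProjectiveSpecialLinearGroup.toPGL =
      cj (mk (dmat e he)) (pglMap f).range :=
    Subgroup.eq_of_le_of_card_ge hle (by rw [hc1, hc2])
  have e1 : H' ≃* H'.map Matrix.ProjectiveSpecialLinearGroup.toPGL :=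
    H'.equivMapOfInjective _ Matrix.ProjectiveSpecialLinearGroup.toPGL_injective
  have e2 : (pglMap f).range ≃* cj (mk (dmat e he)) (pglMap f).range :=
    (pglMap f).range.equivMapOfInjective _ (MulAut.conj (mk (dmat e he))).injective
  have e3 : Matrix.ProjGenLinGroup (Fin 2) K ≃* (pglMap f).range :=
    MonoidHom.ofInjective (pglMap_injective f)
  exact ⟨(e1.trans (MulEquiv.subgroupCongr heq)).trans (e2.symm.trans e3.symm)⟩

end PGL

end Cfsg.Agent.Helper8.Dk
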