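import Mathlib
import Cfsg.Agent.Helper8.DkGenF

set_option autoImplicit false

/-!
The generic case of Dickson's theorem, part G: reduction to standard position.
-/

namespace Cfsg.Agent.Helper8.Dk

open Matrix Cfsg.Agent.Helper7.SL2 Cfsg.Agent.Helper8.SL2C Subgroup
open scoped Matrix

variable {F : Type*} [Field F]

theorem center_le_comap (H : Subgroup (ProjectiveSpecialLinearGroup (Fin 2) F)) :
    center (SpecialLinearGroup (Fin 2) F) ≤ H.comap (ph F) := by
  intro z hz
  rw [Subgroup.mem_comap]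
  have : ph F z = 1 := (QuotientGroup.eq_one_iff z).mpr hz
  rw [this]
  exact H.one_mem

theorem up_injective' {β β' : F} (h : up β = up β') : β = β' := by
  have := congrArg (fun g : SpecialLinearGroup (Fin 2) F => (g : Matrix (Fin 2) (Fin 2) F) 0 1) h
  simpa [up_01] using this

theorem pmk_up_injective {β β' : F} (h : pmk (up β) = pmk (up β')) : β = β' := by
  rcases pmk_eq_iff.mp h with h | h
  · exact up_injective' h
  · have e00 := congrArg (fun g : SpecialLinearGroup (Fin 2) F => (g : Matrix (Fin 2) (Fin 2) F) 0 0) h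
    have e01 := congrArg (fun g : SpecialLinearGroup (Fin 2) F => (g : Matrix (Fin 2) (Fin 2) F) 0 1) h
    simp only [SL2C.neg_apply, up_00, up_01] at e00 e01
    have h2 : (2 : F) = 0 := by linear_combination e00
    linear_combination e01 - β' * h2

/-- the unipotent part of a subgroup of `PSL₂`, counted in `SL₂` -/
theorem card_TU_comap (H : Subgroup (ProjectiveSpecialLinearGroup (Fin 2) F)) :
    Nat.card (TU (H.comap (ph F))) =
      Nat.card (M0 F ⊓ H : Subgroup (ProjectiveSpecialLinearGroup (Fin 2) F)) := by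
  apply Nat.card_congr
  refine Equiv.ofBijective
    (fun β : TU (H.comap (ph F)) => (⟨pmk (up (β : F)),
      ⟨Subgroup.mem_map_of_mem (ph F) (U_le_ZU (up_mem_U _)), β.2⟩⟩ :
        (M0 F ⊓ H : Subgroup (ProjectiveSpecialLinearGroup (Fin 2) F)))) ⟨?_, ?_⟩
  · intro β β' h
    exact Subtype.ext (pmk_up_injective (congrArg Subtype.val h))
  · rintro ⟨x, hx1, hx2⟩
    obtain ⟨y, rfl⟩ := pmk_surjective x
    have hyZ : y ∈ ZU F := (pmk_mem_map_iff center_le_ZU).mp hx1
    have hyH : y ∈ H.comap (ph F) := hx2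
    rcases eq_up_or_of_mem_ZU hyZ with ⟨β, rfl⟩ | ⟨β, rfl⟩
    · exact ⟨⟨β, hyH⟩, rfl⟩
    · have hneg : (-1 : SpecialLinearGroup (Fin 2) F) ∈ H.comap (ph F) :=
        center_le_comap H (mem_center_iff'.mpr (Or.inr rfl))
      have hup : up β ∈ H.comap (ph F) := by
        have := (H.comap (ph F)).mul_mem hneg hyH
        rwa [← SL2C.neg_eq_neg_one_mul, neg_neg] at this
      refine ⟨⟨β, hup⟩, ?_⟩
      apply Subtype.ext
      exact (pmk_neg (up β)).symm

theorem cj_B_of_mem {u : SpecialLinearGroup (Fin 2) F} (hu : u ∈ B F) : cj u (B F) = B F :=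
  cj_eq_self_iff.mpr (Subgroup.le_normalizer hu)

theorem cj_M0_of_mem {u : SpecialLinearGroup (Fin 2) F} (hu : u ∈ B F) :
    cj (pmk u) (M0 F) = M0 F := by
  unfold M0
  rw [← ph_apply, ← map_cj]
  congr 1
  rw [cj_eq_self_iff, normalizer_ZU]
  exact hu

theorem TU_cj_up (x : F) (Ht : Subgroup (SpecialLinearGroup (Fin 2) F)) :
    TU (cj (up x) Ht) = TU Ht := by
  ext β
  rw [mem_TU, mem_TU, mem_cj]
  have : (up x)⁻¹ * up β * up x = up β := by
    rw [up_inv_eq, up_mul_up, up_mul_up]
    congr 1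
    ring
  rw [this]

/-- moving a subgroup with a unipotent member into standard position -/
theorem exists_std [Fintype F] (H : Subgroup (ProjectiveSpecialLinearGroup (Fin 2) F)) {a k : ℕ}
    (hQ : Nat.card (M0 F ⊓ H : Subgroup (ProjectiveSpecialLinearGroup (Fin 2) F)) = a)
    (hN : Nat.card (normalizer ((M0 F : Subgroup (ProjectiveSpecialLinearGroup (Fin 2) F)) :
      Set (ProjectiveSpecialLinearGroup (Fin 2) F)) ⊓ H :
        Subgroup (ProjectiveSpecialLinearGroup (Fin 2) F)) = a * k)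
    (hH : Nat.card H = (a + 1) * (a * k)) (ha : 1 ≤ a) :
    ∃ u : SpecialLinearGroup (Fin 2) F, StdPos ((cj (pmk u) H).comap (ph F)) a ∧
      Nat.card (B F ⊓ (cj (pmk u) H).comap (ph F) : Subgroup (SpecialLinearGroup (Fin 2) F)) =
        Nat.card (center (SpecialLinearGroup (Fin 2) F)) * (a * k) := by
  have hT : Nat.card (TU (H.comap (ph F))) = a := by rw [card_TU_comap, hQ]
  have hB : Nat.card (B F ⊓ H.comap (ph F) : Subgroup (SpecialLinearGroup (Fin 2) F)) =
      Nat.card (center (SpecialLinearGroup (Fin 2) F)) * (a * k) := by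
    rw [← comap_normalizer_M0, ← Subgroup.comap_inf, card_comap_of_surjective _ ph_surjective,
      ker_ph, hN]
  have hHt : Nat.card (H.comap (ph F)) =
      Nat.card (center (SpecialLinearGroup (Fin 2) F)) * ((a + 1) * (a * k)) := by
    rw [card_comap_of_surjective _ ph_surjective, ker_ph, hH]
  have hakpos : 0 < a * k := by
    rw [← hN]; exact Nat.card_pos
  have hdpos : 0 < Nat.card (center (SpecialLinearGroup (Fin 2) F)) := Nat.card_pos
  -- an element outside the Borel subgroup
  have hex : ∃ w ∈ H.comap (ph F), (w : Matrix (Fin 2) (Fin 2) F) 1 0 ≠ 0 := by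
    by_contra hcon
    push Not at hcon
    have hle : H.comap (ph F) ≤ B F := fun w hw => hcon w hw
    have : B F ⊓ H.comap (ph F) = H.comap (ph F) := inf_eq_right.mpr hle
    rw [this, hHt] at hB
    have h1 : (a + 1) * (a * k) = a * k := Nat.eq_of_mul_eq_mul_left hdpos hB
    nlinarith
  obtain ⟨w, hw, hw10⟩ := hex
  set x₀ : F := (w : Matrix (Fin 2) (Fin 2) F) 0 0 / (w : Matrix (Fin 2) (Fin 2) F) 1 0 with hx₀
  have huB : up (-x₀) ∈ B F := up_10 _
  refine ⟨up (-x₀), ⟨?_, ?_, ?_⟩, ?_⟩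
  · rw [← ph_apply, comap_cj, TU_cj_up, hT]
  · rw [← ph_apply, comap_cj, card_cj]
    have : B F ⊓ cj (up (-x₀)) (H.comap (ph F)) = cj (up (-x₀)) (B F ⊓ H.comap (ph F)) := by
      rw [cj_inf, cj_B_of_mem huB]
    rw [this, card_cj, hHt, hB]
    ring
  · refine ⟨up (-x₀) * w * (up (-x₀))⁻¹, ?_, ?_⟩
    · rw [← ph_apply, comap_cj]
      exact conj_mem_cj hw
    · obtain ⟨i00, i01, i10, i11⟩ := coe_inv_apply (up (-x₀))
      simp only [coe_mul_apply, i00, i10, up_00, up_01, up_10, up_11]
      rw [hx₀]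
      field_simp
      ring
  · rw [← ph_apply, comap_cj]
    have : B F ⊓ cj (up (-x₀)) (H.comap (ph F)) = cj (up (-x₀)) (B F ⊓ H.comap (ph F)) := by
      rw [cj_inf, cj_B_of_mem huB]
    rw [this, card_cj, hB]

end Cfsg.Agent.Helper8.Dk
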