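import Mathlib
import Cfsg.Agent.Helper8.DkGenG

set_option autoImplicit false

/-!
The generic case of Dickson's theorem: subfield subgroups.
-/

namespace Cfsg.Agent.Helper8.Dk

open Matrix Cfsg.Agent.Helper7.SL2 Cfsg.Agent.Helper8.SL2C Subgroup
open scoped Matrix

variable {F : Type*} [Field F]

/-- conjugate subgroups are isomorphic -/
noncomputable def cjEquiv {G : Type*} [Group G] (g : G) (H : Subgroup G) : H ≃* cj g H :=
  H.equivMapOfInjective _ (MulAut.conj g).injective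

/-- the generic outcome: the subgroup is `PSL₂` or `PGL₂` of a subfield -/
theorem out_generic [Fintype F] (p : ℕ) [Fact p.Prime] [CharP F p]
    (H : Subgroup (ProjectiveSpecialLinearGroup (Fin 2) F))
    {M : Subgroup (ProjectiveSpecialLinearGroup (Fin 2) F)} (hM : M ∈ GU F) {a k : ℕ} (ha : 2 ≤ a)
    (hQ : Nat.card (M ⊓ H : Subgroup (ProjectiveSpecialLinearGroup (Fin 2) F)) = a)
    (hN : Nat.card (normalizer (M : Set (ProjectiveSpecialLinearGroup (Fin 2) F)) ⊓ H :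
        Subgroup (ProjectiveSpecialLinearGroup (Fin 2) F)) = a * k)
    (hH : Nat.card H = (a + 1) * (a * k)) (hk : k = a - 1 ∨ 2 * k = a - 1) :
    ∃ (K : Type) (_ : Field K) (_ : Fintype K) (m : ℕ), Fintype.card K ^ m = Fintype.card F ∧
      (Nonempty (H ≃* Matrix.ProjectiveSpecialLinearGroup (Fin 2) K) ∨
        Nonempty (H ≃* Matrix.ProjGenLinGroup (Fin 2) K)) := by
  obtain ⟨A, ⟨c, rfl⟩, rfl⟩ := hM
  have hMc : (cj c (ZU F)).map (ph F) = cj (pmk c) (M0 F) := map_cj (ph F) c (ZU F)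
  rw [hMc] at hQ hN
  -- first conjugation
  have hQ₁ : Nat.card (M0 F ⊓ cj (pmk c)⁻¹ H :
      Subgroup (ProjectiveSpecialLinearGroup (Fin 2) F)) = a := by
    rw [← hQ, ← card_cj (pmk c)⁻¹ (cj (pmk c) (M0 F) ⊓ H), cj_inf, cj_inv_cj]
  have hN₁ : Nat.card (normalizer ((M0 F : Subgroup (ProjectiveSpecialLinearGroup (Fin 2) F)) :
      Set (ProjectiveSpecialLinearGroup (Fin 2) F)) ⊓ cj (pmk c)⁻¹ H :
        Subgroup (ProjectiveSpecialLinearGroup (Fin 2) F)) = a * k := by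
    rw [← hN, normalizer_cj, ← card_cj (pmk c)⁻¹ (cj (pmk c) _ ⊓ H), cj_inf, cj_inv_cj]
  have hH₁ : Nat.card (cj (pmk c)⁻¹ H) = (a + 1) * (a * k) := by rw [card_cj, hH]
  -- second conjugation
  obtain ⟨u, hS, hB⟩ := exists_std (cj (pmk c)⁻¹ H) hQ₁ hN₁ hH₁ (by omega)
  have e : H ≃* cj (pmk u) (cj (pmk c)⁻¹ H) := (cjEquiv _ H).trans (cjEquiv _ _)
  -- a non-zero element of `T`
  haveI : Nontrivial (TU ((cj (pmk u) (cj (pmk c)⁻¹ H)).comap (ph F))) := by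
    rw [← Finite.one_lt_card_iff_nontrivial, hS.card_T]
    omega
  obtain ⟨β₀, hβ₀⟩ := exists_ne (0 : TU ((cj (pmk u) (cj (pmk c)⁻¹ H)).comap (ph F)))
  have h0 : (β₀ : F) ≠ 0 := fun h => hβ₀ (Subtype.ext h)
  obtain ⟨K, _, _, f, m, hK, hm, hf⟩ := exists_model p hS β₀.2 h0
  refine ⟨K, inferInstance, inferInstance, m, hm, ?_⟩
  rcases std_structure f hS ha hB hk β₀.2 h0 hK hf with h | ⟨h2, -, hcard, cc, -, -, ⟨ν, hν⟩, hall⟩
  · left
    obtain ⟨e'⟩ := equiv_PSL f (β₀ : F) h0 _ h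
    exact ⟨e.trans e'⟩
  · right
    obtain ⟨e'⟩ := equiv_PGL f (β₀ : F) h0 _ hK h2 hcard cc ν hν hall
    exact ⟨e.trans e'⟩

end Cfsg.Agent.Helper8.Dk
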