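import Mathlib
import Cfsg.Agent.Helper8.DkGenH

set_option autoImplicit false

/-!
Orders of the members of the partition of `PSL₂(F)` and of their normalisers.
-/

namespace Cfsg.Agent.Helper8.Dk

open Matrix Cfsg.Agent.Helper7.SL2 Cfsg.Agent.Helper8.SL2C Subgroup
open scoped Matrix

variable {F : Type*} [Field F]

/-- the Borel subgroup of `SL₂(F)` is in bijection with `Fˣ × F` -/
noncomputable def equivB (F : Type*) [Field F] : B F ≃ Fˣ × F where
  toFun b := (Units.mk0 _ (B_diag_ne_zero b.2), (b : SpecialLinearGroup (Fin 2) F).1 0 1)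
  invFun x := ⟨mk' (x.1 : F) x.2 0 ((x.1⁻¹ : Fˣ) : F) (by
    rw [mul_zero, sub_zero, ← Units.val_mul, mul_inv_cancel, Units.val_one]), mk'_10 _ _ _ _ _⟩
  left_inv b := by
    apply Subtype.ext
    have hd := diag_of_mem_B b.2
    apply ext'
    · rw [mk'_00, Units.val_mk0]
    · rw [mk'_01]
    · rw [mk'_10, mem_B.mp b.2]
    · rw [mk'_11, Units.val_inv_eq_inv_val, Units.val_mk0]
      exact (eq_inv_of_mul_eq_one_right hd).symm
  right_inv x := by
    apply Prod.ext
    · apply Units.ext
      rw [Units.val_mk0]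
      rfl
    · rfl

theorem card_B_SL2 [Fintype F] : Nat.card (B F) = Fintype.card F * (Fintype.card F - 1) := by
  classical
  rw [Nat.card_congr (equivB F), Nat.card_prod, Nat.card_eq_fintype_card, Nat.card_eq_fintype_card,
    Fintype.card_units, mul_comm]

variable [Fintype F]

theorem card_GU {M : Subgroup (ProjectiveSpecialLinearGroup (Fin 2) F)} (hM : M ∈ GU F) :
    Nat.card M = Fintype.card F := by
  obtain ⟨A, ⟨c, rfl⟩, rfl⟩ := hM
  have h1 := card_comap_of_surjective (ph F) ph_surjective ((cj c (ZU F)).map (ph F))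
  rw [comap_map_of_center_le (center_le_cj c center_le_ZU), card_cj, ker_ph] at h1
  by_cases h2 : (2 : F) = 0
  · rw [card_ZU_char_two h2, card_center_of_two_eq h2, one_mul] at h1
    exact h1.symm
  · rw [card_ZU h2, card_center_of_two_ne h2] at h1
    omega

/-- the order of the normaliser of a unipotent member (a Borel subgroup) -/
theorem card_normalizer_GU {M : Subgroup (ProjectiveSpecialLinearGroup (Fin 2) F)}
    (hM : M ∈ GU F) :
    Nat.card (center (SpecialLinearGroup (Fin 2) F)) *
      Nat.card (normalizer (M : Set (ProjectiveSpecialLinearGroup (Fin 2) F))) =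
        Fintype.card F * (Fintype.card F - 1) := by
  obtain ⟨A, ⟨c, rfl⟩, rfl⟩ := hM
  rw [map_cj, normalizer_cj, card_cj]
  have h1 := card_comap_of_surjective (ph F) ph_surjective
    (normalizer (((ZU F).map (ph F) : Subgroup (ProjectiveSpecialLinearGroup (Fin 2) F)) :
      Set (ProjectiveSpecialLinearGroup (Fin 2) F)))
  rw [comap_normalizer_map center_le_ZU, normalizer_ZU, card_B_SL2, ker_ph] at h1
  exact h1.symm

/-- the order of a toral member, without division -/
theorem card_mul_mem_GT {M : Subgroup (ProjectiveSpecialLinearGroup (Fin 2) F)} (hM : M ∈ GT F) :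
    Nat.card (center (SpecialLinearGroup (Fin 2) F)) * Nat.card M = Fintype.card F + 1 ∨
      Nat.card (center (SpecialLinearGroup (Fin 2) F)) * Nat.card M = Fintype.card F - 1 := by
  obtain ⟨A, hA, rfl⟩ := hM
  have h1 := card_comap_of_surjective (ph F) ph_surjective (A.map (ph F))
  rw [comap_map_of_center_le (center_le_of_mem_LT hA), ker_ph] at h1
  obtain ⟨c, t, ht, rfl⟩ := hA
  rw [card_cj] at h1
  by_cases hE : Ellt t
  · left
    rw [← h1, card_Tc hE]
  · right
    rw [← h1, card_Tc_split ht hE]

/-- the normaliser of a toral member has at most twice its order -/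
theorem card_normalizer_GT_dvd {M : Subgroup (ProjectiveSpecialLinearGroup (Fin 2) F)}
    (hM : M ∈ GT F) :
    Nat.card (normalizer (M : Set (ProjectiveSpecialLinearGroup (Fin 2) F))) ∣ 2 * Nat.card M := by
  have h1 : M.relIndex (normalizer (M : Set (ProjectiveSpecialLinearGroup (Fin 2) F))) ≤ 2 :=
    relIndex_le_two (fun x hx y hy hxM hyM => (GT_tor_norm M hM x hx y hy hxM hyM).1)
  have h2 := card_mul_relIndex (Subgroup.le_normalizer (H := M))
  have hpos : 0 < M.relIndex (normalizer (M : Set (ProjectiveSpecialLinearGroup (Fin 2) F))) := by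
    apply Nat.pos_of_ne_zero
    intro h0
    rw [h0, mul_zero] at h2
    exact Nat.card_pos.ne' h2.symm
  rw [← h2]
  interval_cases h : M.relIndex (normalizer (M : Set (ProjectiveSpecialLinearGroup (Fin 2) F)))
  · rw [mul_one]; exact Dvd.intro_left 2 rfl
  · rw [mul_comm]

end Cfsg.Agent.Helper8.Dk
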