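import Mathlib
import Cfsg.Agent.Helper8.QuadForm

set_option autoImplicit false

/-!
Witt's lemma for quadratic forms with nondegenerate polar form (any characteristic).
-/

namespace Cfsg.Agent.Helper8.WittQuad

open Module Cfsg.Agent.Helper8.QuadForm

variable {F : Type*} [Field F] {V : Type*} [AddCommGroup V] [Module F V]

/-- a `Q`-preserving linear endomorphism of a nondegenerate space is an isometry. -/
theorem exists_equiv_of_isometry [FiniteDimensional F V] (Q : QuadraticForm F V) (hQ : Nondeg Q)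
    (g : V →ₗ[F] V) (hg : ∀ x, Q (g x) = Q x) : ∃ g' : V ≃ₗ[F] V, ∀ x, g' x = g x := by
  have hpolar : ∀ v w, QuadraticMap.polar Q (g v) (g w) = QuadraticMap.polar Q v w := by
    intro v w
    unfold QuadraticMap.polar
    rw [← map_add, hg, hg, hg]
  have hinj : Function.Injective g := by
    rw [injective_iff_map_eq_zero]
    intro v hv
    apply hQ
    intro w
    have := hpolar v w
    rw [hv, QuadraticMap.polar_zero_left] at this
    exact this.symm
  exact ⟨LinearEquiv.ofInjectiveEndo g hinj, fun x => by rw [LinearEquiv.coe_ofInjectiveEndo]⟩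

/-- the reflection in a nonsingular vector. -/
theorem exists_reflection [FiniteDimensional F V] (Q : QuadraticForm F V) (hQ : Nondeg Q) {z : V}
    (hz : Q z ≠ 0) : ∃ g : V ≃ₗ[F] V, (∀ x, Q (g x) = Q x) ∧
      ∀ x, g x = x - (QuadraticMap.polar Q x z / Q z) • z := by
  let g₀ : V →ₗ[F] V := LinearMap.id - (Q z)⁻¹ • (QuadraticMap.polarBilin Q z).smulRight z
  have hg₀ : ∀ x, g₀ x = x - (QuadraticMap.polar Q x z / Q z) • z := by
    intro x
    show x - (Q z)⁻¹ • (QuadraticMap.polar Q z x • z) = _
    rw [smul_smul, QuadraticMap.polar_comm, div_eq_inv_mul]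
  have hiso : ∀ x, Q (g₀ x) = Q x := by
    intro x
    rw [hg₀, sub_eq_add_neg, QuadraticMap.map_add Q, QuadraticMap.map_neg, QuadraticMap.map_smul,
      QuadraticMap.polar_neg_right, QuadraticMap.polar_smul_right]
    simp only [smul_eq_mul]
    field_simp
    ring
  obtain ⟨g, hg⟩ := exists_equiv_of_isometry Q hQ g₀ hiso
  exact ⟨g, fun x => by rw [hg, hiso], fun x => by rw [hg, hg₀]⟩

/-- the Eichler (Siegel) transformation. -/
theorem exists_eichler [FiniteDimensional F V] (Q : QuadraticForm F V) (hQ : Nondeg Q) {z y : V}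
    (hz : Q z = 0) (hyz : QuadraticMap.polar Q y z = 0) :
    ∃ g : V ≃ₗ[F] V, (∀ x, Q (g x) = Q x) ∧
      ∀ x, g x = x + QuadraticMap.polar Q x y • z - QuadraticMap.polar Q x z • y
        - (Q y * QuadraticMap.polar Q x z) • z := by
  let g₀ : V →ₗ[F] V := LinearMap.id + (QuadraticMap.polarBilin Q y).smulRight z
    - (QuadraticMap.polarBilin Q z).smulRight y - Q y • (QuadraticMap.polarBilin Q z).smulRight z
  have hg₀ : ∀ x, g₀ x = x + QuadraticMap.polar Q x y • z - QuadraticMap.polar Q x z • y
        - (Q y * QuadraticMap.polar Q x z) • z := by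
    intro x
    show x + QuadraticMap.polar Q y x • z - QuadraticMap.polar Q z x • y
      - Q y • (QuadraticMap.polar Q z x • z) = _
    rw [smul_smul, QuadraticMap.polar_comm Q y x, QuadraticMap.polar_comm Q z x]
  have hzy : QuadraticMap.polar Q z y = 0 := by rw [QuadraticMap.polar_comm]; exact hyz
  have hzz : QuadraticMap.polar Q z z = 0 := by rw [polar_self', hz, mul_zero]
  have hiso : ∀ x, Q (g₀ x) = Q x := by
    intro x
    have e : g₀ x = x + ((QuadraticMap.polar Q x y - Q y * QuadraticMap.polar Q x z) • z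
        + (-(QuadraticMap.polar Q x z)) • y) := by
      rw [hg₀, sub_smul, neg_smul]
      abel
    rw [e, QuadraticMap.map_add Q, QuadraticMap.map_add Q, QuadraticMap.map_smul,
      QuadraticMap.map_smul, hz, QuadraticMap.polar_add_right, QuadraticMap.polar_smul_right,
      QuadraticMap.polar_smul_right, QuadraticMap.polar_smul_left, QuadraticMap.polar_smul_right,
      hzy]
    simp only [smul_eq_mul]
    ring
  obtain ⟨g, hg⟩ := exists_equiv_of_isometry Q hQ g₀ hiso
  exact ⟨g, fun x => by rw [hg, hiso], fun x => by rw [hg, hg₀]⟩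

/-- the hyperbolic rotation. -/
theorem exists_hyp_rot [FiniteDimensional F V] (Q : QuadraticForm F V) (hQ : Nondeg Q) {z z' : V}
    (hz : Q z = 0) (hz' : Q z' = 0) (hzz' : QuadraticMap.polar Q z z' = 1) {l : F} (hl : l ≠ 0) :
    ∃ g : V ≃ₗ[F] V, (∀ x, Q (g x) = Q x) ∧
      ∀ x, g x = x + ((l - 1) * QuadraticMap.polar Q x z') • z
        + ((l⁻¹ - 1) * QuadraticMap.polar Q x z) • z' := by
  let g₀ : V →ₗ[F] V := LinearMap.id + (l - 1) • (QuadraticMap.polarBilin Q z').smulRight z
    + (l⁻¹ - 1) • (QuadraticMap.polarBilin Q z).smulRight z'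
  have hg₀ : ∀ x, g₀ x = x + ((l - 1) * QuadraticMap.polar Q x z') • z
        + ((l⁻¹ - 1) * QuadraticMap.polar Q x z) • z' := by
    intro x
    show x + (l - 1) • (QuadraticMap.polar Q z' x • z)
      + (l⁻¹ - 1) • (QuadraticMap.polar Q z x • z') = _
    rw [smul_smul, smul_smul, QuadraticMap.polar_comm Q z' x, QuadraticMap.polar_comm Q z x]
  have hiso : ∀ x, Q (g₀ x) = Q x := by
    intro x
    rw [hg₀, add_assoc, QuadraticMap.map_add Q, QuadraticMap.map_add Q, QuadraticMap.map_smul,
      QuadraticMap.map_smul, hz, hz', QuadraticMap.polar_add_right, QuadraticMap.polar_smul_right,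
      QuadraticMap.polar_smul_right, QuadraticMap.polar_smul_left, QuadraticMap.polar_smul_right,
      hzz']
    simp only [smul_eq_mul]
    field_simp
    ring
  obtain ⟨g, hg⟩ := exists_equiv_of_isometry Q hQ g₀ hiso
  exact ⟨g, fun x => by rw [hg, hiso], fun x => by rw [hg, hg₀]⟩

/-- a vector orthogonal to a subspace and pairing to `1` with a vector outside it. -/
theorem exists_dual_vec [FiniteDimensional F V] (Q : QuadraticForm F V)
    (hQ : (QuadraticMap.polarBilin Q).Nondegenerate) (S : Submodule F V) {u : V} (hu : u ∉ S) :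
    ∃ y, (∀ s ∈ S, QuadraticMap.polar Q y s = 0) ∧ QuadraticMap.polar Q y u = 1 := by
  obtain ⟨f, hfu, hf⟩ := Submodule.exists_dual_map_eq_bot_of_notMem hu inferInstance
  refine ⟨(f u)⁻¹ • (LinearMap.BilinForm.toDual (QuadraticMap.polarBilin Q) hQ).symm f, fun s hs => ?_, ?_⟩
  · rw [QuadraticMap.polar_smul_left]
    have h1 : QuadraticMap.polar Q ((LinearMap.BilinForm.toDual (QuadraticMap.polarBilin Q) hQ).symm f) s = f s :=
      LinearMap.BilinForm.apply_toDual_symm_apply (hB := hQ) f s
    rw [h1]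
    have : f s ∈ S.map f := Submodule.mem_map_of_mem hs
    rw [hf, Submodule.mem_bot] at this
    rw [this, smul_zero]
  · rw [QuadraticMap.polar_smul_left]
    have h1 : QuadraticMap.polar Q ((LinearMap.BilinForm.toDual (QuadraticMap.polarBilin Q) hQ).symm f) u = f u :=
      LinearMap.BilinForm.apply_toDual_symm_apply (hB := hQ) f u
    rw [h1, smul_eq_mul, inv_mul_cancel₀ hfu]

/-- **The key step of Witt's lemma.** -/
theorem witt_step [FiniteDimensional F V] (Q : QuadraticForm F V)
    (hQ : (QuadraticMap.polarBilin Q).Nondegenerate) (H : Submodule F V) {u w : V}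
    (hQuw : Q u = Q w) (hB : ∀ h ∈ H, QuadraticMap.polar Q u h = QuadraticMap.polar Q w h)
    (hu : u ∉ H) (hw : w ∉ H) :
    ∃ g : V ≃ₗ[F] V, (∀ x, Q (g x) = Q x) ∧ (∀ h ∈ H, g h = h) ∧ g u = w := by
  have hnd := (nondeg_iff Q).mp hQ
  obtain ⟨z, hz⟩ : ∃ z, z = w - u := ⟨_, rfl⟩
  have hwz : w = u + z := by rw [hz]; abel
  have hzH : ∀ h ∈ H, QuadraticMap.polar Q z h = 0 := by
    intro h hh
    rw [hz, QuadraticMap.polar_sub_left, hB h hh, sub_self]
  have hHz : ∀ h ∈ H, QuadraticMap.polar Q h z = 0 := by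
    intro h hh
    rw [QuadraticMap.polar_comm]
    exact hzH h hh
  have hQz : Q z + QuadraticMap.polar Q u z = 0 := by
    have := hQuw
    rw [hwz, QuadraticMap.map_add Q] at this
    linear_combination -this
  by_cases hz0 : z = 0
  · refine ⟨LinearEquiv.refl F V, fun x => rfl, fun h _ => rfl, ?_⟩
    rw [hwz, hz0, add_zero]
    rfl
  by_cases hQz0 : Q z = 0
  swap
  · obtain ⟨g, hg1, hg2⟩ := exists_reflection Q hnd hQz0
    refine ⟨g, hg1, fun h hh => ?_, ?_⟩
    · rw [hg2, hHz h hh, zero_div, zero_smul, sub_zero]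
    · rw [hg2, hwz]
      have : QuadraticMap.polar Q u z / Q z = -1 := by
        field_simp
        linear_combination hQz
      rw [this, neg_smul, one_smul, sub_neg_eq_add]
  have huz : QuadraticMap.polar Q u z = 0 := by
    rw [hQz0, zero_add] at hQz
    exact hQz
  by_cases hmem : u ∈ H ⊔ Submodule.span F {z}
  · obtain ⟨h₀, hh₀, cz, hcz, hsum⟩ := Submodule.mem_sup.mp hmem
    obtain ⟨c, rfl⟩ := Submodule.mem_span_singleton.mp hcz
    have hc0 : c ≠ 0 := by
      rintro rfl
      rw [zero_smul, add_zero] at hsum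
      rw [← hsum] at hu
      exact hu hh₀
    have hzH' : z ∉ H := by
      intro hzH'
      apply hu
      rw [← hsum]
      exact H.add_mem hh₀ (H.smul_mem c hzH')
    have hc1 : c + 1 ≠ 0 := by
      intro hc1
      apply hw
      have : w = h₀ := by
        have h1 : c • z + z = (c + 1) • z := by rw [add_smul, one_smul]
        rw [hwz, ← hsum, add_assoc, h1, hc1, zero_smul, add_zero]
      rw [this]
      exact hh₀
    obtain ⟨y₀, hy₀H, hy₀z⟩ := exists_dual_vec Q hQ H hzH'
    obtain ⟨z', hz'def⟩ : ∃ z', z' = y₀ - Q y₀ • z := ⟨_, rfl⟩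
    have hzz : QuadraticMap.polar Q z z = 0 := by rw [polar_self', hQz0, mul_zero]
    have hzy₀ : QuadraticMap.polar Q z y₀ = 1 := by rw [QuadraticMap.polar_comm]; exact hy₀z
    have hQz' : Q z' = 0 := by
      rw [hz'def, sub_eq_add_neg, QuadraticMap.map_add Q, QuadraticMap.map_neg,
        QuadraticMap.map_smul, hQz0, QuadraticMap.polar_neg_right, QuadraticMap.polar_smul_right,
        hy₀z]
      simp
    have hzz' : QuadraticMap.polar Q z z' = 1 := by
      rw [hz'def, QuadraticMap.polar_sub_right, QuadraticMap.polar_smul_right, hzz, hzy₀]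
      simp
    have hHz' : ∀ h ∈ H, QuadraticMap.polar Q h z' = 0 := by
      intro h hh
      rw [hz'def, QuadraticMap.polar_sub_right, QuadraticMap.polar_smul_right, hHz h hh,
        QuadraticMap.polar_comm, hy₀H h hh]
      simp
    have hl : (c + 1) / c ≠ 0 := div_ne_zero hc1 hc0
    obtain ⟨g, hg1, hg2⟩ := exists_hyp_rot Q hnd hQz0 hQz' hzz' hl
    refine ⟨g, hg1, fun h hh => ?_, ?_⟩
    · rw [hg2, hHz' h hh, hHz h hh, mul_zero, mul_zero, zero_smul, zero_smul, add_zero, add_zero]
    · rw [hg2, huz, mul_zero, zero_smul, add_zero, hwz]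
      congr 1
      have : QuadraticMap.polar Q u z' = c := by
        rw [← hsum, QuadraticMap.polar_add_left, QuadraticMap.polar_smul_left, hHz' h₀ hh₀, hzz']
        simp
      rw [this]
      have : ((c + 1) / c - 1) * c = 1 := by field_simp; ring
      rw [this, one_smul]
  · obtain ⟨y, hyS, hyu⟩ := exists_dual_vec Q hQ _ hmem
    have hyz : QuadraticMap.polar Q y z = 0 :=
      hyS z (Submodule.mem_sup_right (Submodule.mem_span_singleton_self z))
    obtain ⟨g, hg1, hg2⟩ := exists_eichler Q hnd hQz0 hyz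
    refine ⟨g, hg1, fun h hh => ?_, ?_⟩
    · have : QuadraticMap.polar Q h y = 0 := by
        rw [QuadraticMap.polar_comm]
        exact hyS h (Submodule.mem_sup_left hh)
      rw [hg2, this, hHz h hh, mul_zero, zero_smul, zero_smul, add_zero, sub_zero, sub_zero]
    · rw [hg2, huz, mul_zero, zero_smul, zero_smul, sub_zero, sub_zero, QuadraticMap.polar_comm,
        hyu, one_smul, hwz]

/-- an isometry preserves the polar form. -/
theorem polar_isometry (Q : QuadraticForm F V) (g : V ≃ₗ[F] V) (hg : ∀ x, Q (g x) = Q x)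
    (v w : V) : QuadraticMap.polar Q (g v) (g w) = QuadraticMap.polar Q v w := by
  unfold QuadraticMap.polar
  rw [← map_add, hg, hg, hg]

/-- **Witt's lemma**, for linearly independent families with the same Gram data. -/
theorem witt_family [FiniteDimensional F V] (Q : QuadraticForm F V)
    (hQ : (QuadraticMap.polarBilin Q).Nondegenerate) (k : ℕ) :
    ∀ x y : Fin k → V, LinearIndependent F x → LinearIndependent F y →
      (∀ i, Q (x i) = Q (y i)) →
      (∀ i j, QuadraticMap.polar Q (x i) (x j) = QuadraticMap.polar Q (y i) (y j)) →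
      ∃ g : V ≃ₗ[F] V, (∀ v, Q (g v) = Q v) ∧ ∀ i, g (x i) = y i := by
  induction k with
  | zero =>
    intro x y _ _ _ _
    exact ⟨LinearEquiv.refl F V, fun v => rfl, fun i => i.elim0⟩
  | succ k ih =>
    intro x y hx hy h1 h2
    obtain ⟨hx', hxl⟩ := linearIndependent_finSucc'.mp hx
    obtain ⟨hy', hyl⟩ := linearIndependent_finSucc'.mp hy
    obtain ⟨β, hβ1, hβ2⟩ := ih (Fin.init x) (Fin.init y) hx' hy' (fun i => h1 _) (fun i j => h2 _ _)
    have hβs : ∀ v, Q (β.symm v) = Q v := by
      intro v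
      rw [← hβ1 (β.symm v), LinearEquiv.apply_symm_apply]
    obtain ⟨w, hwdef⟩ : ∃ w, w = β.symm (y (Fin.last k)) := ⟨_, rfl⟩
    have hβw : β w = y (Fin.last k) := by rw [hwdef, LinearEquiv.apply_symm_apply]
    have hw : w ∉ Submodule.span F (Set.range (Fin.init x)) := by
      intro hmem
      apply hyl
      have h3 : β w ∈ (Submodule.span F (Set.range (Fin.init x))).map (β : V →ₗ[F] V) :=
        Submodule.mem_map_of_mem hmem
      rw [Submodule.map_span, ← Set.range_comp] at h3
      have h4 : (⇑(β : V →ₗ[F] V) ∘ Fin.init x) = Fin.init y := by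
        funext i
        exact hβ2 i
      rw [h4, hβw] at h3
      exact h3
    have hQuw : Q (x (Fin.last k)) = Q w := by
      rw [hwdef, hβs, h1]
    have hB : ∀ h ∈ Submodule.span F (Set.range (Fin.init x)),
        QuadraticMap.polar Q (x (Fin.last k)) h = QuadraticMap.polar Q w h := by
      intro h hh
      have heq : Set.EqOn (QuadraticMap.polarBilin Q (x (Fin.last k)))
          (QuadraticMap.polarBilin Q w) (Set.range (Fin.init x)) := by
        rintro _ ⟨i, rfl⟩
        show QuadraticMap.polar Q (x (Fin.last k)) (Fin.init x i)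
          = QuadraticMap.polar Q w (Fin.init x i)
        rw [← polar_isometry Q β hβ1 w, hβw, hβ2 i]
        exact h2 _ _
      exact LinearMap.eqOn_span heq hh
    obtain ⟨g', hg1, hg2, hg3⟩ := witt_step Q hQ _ hQuw hB hxl hw
    refine ⟨g'.trans β, fun v => ?_, fun i => ?_⟩
    · rw [LinearEquiv.trans_apply, hβ1, hg1]
    · rw [LinearEquiv.trans_apply]
      refine Fin.lastCases ?_ (fun i => ?_) i
      · rw [hg3, hβw]
      · have : x (Fin.castSucc i) = Fin.init x i := rfl
        rw [this, hg2 _ (Submodule.subset_span ⟨i, rfl⟩), hβ2 i]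
        rfl

/-- **Witt's lemma** for quadratic forms with nondegenerate polar form. -/
theorem witt [FiniteDimensional F V] (Q : QuadraticForm F V)
    (hQ : (QuadraticMap.polarBilin Q).Nondegenerate) (X Y : Submodule F V) (φ : X ≃ₗ[F] Y)
    (hφ : ∀ x : X, Q (φ x : V) = Q (x : V)) :
    ∃ g : V ≃ₗ[F] V, (∀ v : V, Q (g v) = Q v) ∧ ∀ x : X, g (x : V) = (φ x : V) := by
  let b := Module.finBasis F X
  have hx : LinearIndependent F (fun i => (b i : V)) :=
    b.linearIndependent.map' X.subtype (Submodule.ker_subtype X)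
  have hy : LinearIndependent F (fun i => (φ (b i) : V)) := by
    have h1 : LinearIndependent F (fun i => φ (b i)) :=
      b.linearIndependent.map' (φ : X →ₗ[F] Y) φ.ker
    exact h1.map' Y.subtype (Submodule.ker_subtype Y)
  obtain ⟨g, hg1, hg2⟩ := witt_family Q hQ _ (fun i => (b i : V)) (fun i => (φ (b i) : V)) hx hy
    (fun i => (hφ (b i)).symm) (fun i j => by
      unfold QuadraticMap.polar
      have := hφ (b i + b j)
      rw [map_add] at this
      rw [← hφ (b i), ← hφ (b j)]
      exact congrArg (fun t => t - Q (φ (b i) : V) - Q (φ (b j) : V)) this.symm)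
  refine ⟨g, hg1, fun x => ?_⟩
  have h3 : (g : V →ₗ[F] V).comp X.subtype = Y.subtype.comp (φ : X →ₗ[F] Y) := by
    apply b.ext
    intro i
    exact hg2 i
  exact congrArg (fun f : X →ₗ[F] V => f x) h3

end Cfsg.Agent.Helper8.WittQuad
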