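import Mathlib
import Cfsg.Agent.Helper8.QuadForm
import Cfsg.Agent.Helper8.WittQuad
import Cfsg.Agent.Helper7.HyperplaneCount
import Cfsg.Prelude.Def_Classical

set_option autoImplicit false

/-!
Orders of the isometry groups of nondegenerate quadratic spaces over finite fields.
-/

namespace Cfsg.Agent.Helper8.OrthOrder

open Module Cfsg.Agent.Helper8.QuadForm Cfsg.Agent.Helper8.WittQuad

universe u

variable {F : Type*} [Field F] {V : Type*} [AddCommGroup V] [Module F V]

/-- the isometry group of a quadratic form. -/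
def Isom (Q : QuadraticForm F V) : Subgroup (V ≃ₗ[F] V) where
  carrier := {g | ∀ v, Q (g v) = Q v}
  mul_mem' := fun {a b} ha hb v => by
    rw [LinearEquiv.mul_apply, ha, hb]
  one_mem' := fun v => rfl
  inv_mem' := fun {a} ha v => by
    have h := ha (a⁻¹ v)
    rw [← h]
    congr 1
    exact LinearEquiv.apply_symm_apply a v

theorem mem_Isom (Q : QuadraticForm F V) (g : V ≃ₗ[F] V) : g ∈ Isom Q ↔ ∀ v, Q (g v) = Q v :=
  Iff.rfl

/-! ### decomposition along a hyperbolic pair -/

section Decomp

variable (Q : QuadraticForm F V) {e f : V} (he : Q e = 0) (hf : Q f = 0)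
  (hef : QuadraticMap.polar Q e f = 1)

include he hf hef in
theorem proj_mem (x : V) :
    x - QuadraticMap.polar Q f x • e - QuadraticMap.polar Q e x • f ∈ perpPair Q e f := by
  have hfe : QuadraticMap.polar Q f e = 1 := by rw [QuadraticMap.polar_comm]; exact hef
  have hee : QuadraticMap.polar Q e e = 0 := by rw [polar_self', he, mul_zero]
  have hff : QuadraticMap.polar Q f f = 0 := by rw [polar_self', hf, mul_zero]
  rw [mem_perpPair]
  constructor
  · rw [QuadraticMap.polar_sub_right, QuadraticMap.polar_sub_right, QuadraticMap.polar_smul_right,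
      QuadraticMap.polar_smul_right, hee, hef]
    simp
  · rw [QuadraticMap.polar_sub_right, QuadraticMap.polar_sub_right, QuadraticMap.polar_smul_right,
      QuadraticMap.polar_smul_right, hff, hfe]
    simp

/-- the decomposition `V ≃ (F × F) × W`. -/
noncomputable def decomp : V ≃ₗ[F] (F × F) × perpPair Q e f where
  toFun x := ((QuadraticMap.polar Q f x, QuadraticMap.polar Q e x),
    ⟨x - QuadraticMap.polar Q f x • e - QuadraticMap.polar Q e x • f, proj_mem Q he hf hef x⟩)
  map_add' x y := by
    refine Prod.ext (Prod.ext ?_ ?_) (Subtype.ext ?_)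
    · exact QuadraticMap.polar_add_right _ _ _ _
    · exact QuadraticMap.polar_add_right _ _ _ _
    · show x + y - QuadraticMap.polar Q f (x + y) • e - QuadraticMap.polar Q e (x + y) • f
        = (x - QuadraticMap.polar Q f x • e - QuadraticMap.polar Q e x • f)
          + (y - QuadraticMap.polar Q f y • e - QuadraticMap.polar Q e y • f)
      rw [QuadraticMap.polar_add_right, QuadraticMap.polar_add_right, add_smul, add_smul]
      abel
  map_smul' c x := by
    refine Prod.ext (Prod.ext ?_ ?_) (Subtype.ext ?_)
    · exact QuadraticMap.polar_smul_right _ _ _ _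
    · exact QuadraticMap.polar_smul_right _ _ _ _
    · show c • x - QuadraticMap.polar Q f (c • x) • e - QuadraticMap.polar Q e (c • x) • f
        = c • (x - QuadraticMap.polar Q f x • e - QuadraticMap.polar Q e x • f)
      rw [QuadraticMap.polar_smul_right, QuadraticMap.polar_smul_right, smul_sub, smul_sub,
        smul_smul, smul_smul]
      rfl
  invFun p := p.1.1 • e + p.1.2 • f + (p.2 : V)
  left_inv x := by
    show QuadraticMap.polar Q f x • e + QuadraticMap.polar Q e x • f
      + (x - QuadraticMap.polar Q f x • e - QuadraticMap.polar Q e x • f) = x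
    abel
  right_inv p := by
    obtain ⟨⟨a, b⟩, ⟨w, hw⟩⟩ := p
    have hfe : QuadraticMap.polar Q f e = 1 := by rw [QuadraticMap.polar_comm]; exact hef
    have hee : QuadraticMap.polar Q e e = 0 := by rw [polar_self', he, mul_zero]
    have hff : QuadraticMap.polar Q f f = 0 := by rw [polar_self', hf, mul_zero]
    rw [mem_perpPair] at hw
    have h1 : QuadraticMap.polar Q f (a • e + b • f + w) = a := by
      rw [QuadraticMap.polar_add_right, QuadraticMap.polar_add_right, QuadraticMap.polar_smul_right,
        QuadraticMap.polar_smul_right, hfe, hff, hw.2]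
      simp
    have h2 : QuadraticMap.polar Q e (a • e + b • f + w) = b := by
      rw [QuadraticMap.polar_add_right, QuadraticMap.polar_add_right, QuadraticMap.polar_smul_right,
        QuadraticMap.polar_smul_right, hee, hef, hw.1]
      simp
    refine Prod.ext (Prod.ext h1 h2) (Subtype.ext ?_)
    show a • e + b • f + w - QuadraticMap.polar Q f (a • e + b • f + w) • e
      - QuadraticMap.polar Q e (a • e + b • f + w) • f = w
    rw [h1, h2]
    abel

theorem decomp_apply (x : V) : decomp Q he hf hef x =
    ((QuadraticMap.polar Q f x, QuadraticMap.polar Q e x),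
      ⟨x - QuadraticMap.polar Q f x • e - QuadraticMap.polar Q e x • f,
        proj_mem Q he hf hef x⟩) := rfl

theorem decomp_symm_apply (p : (F × F) × perpPair Q e f) :
    (decomp Q he hf hef).symm p = p.1.1 • e + p.1.2 • f + (p.2 : V) := rfl

include he hf hef in
theorem Q_decomp (a b : F) (w : perpPair Q e f) :
    Q (a • e + b • f + (w : V)) = a * b + Q (w : V) := by
  have hw := (mem_perpPair Q e f _).mp w.2
  rw [QuadraticMap.map_add Q, QuadraticMap.map_add Q, QuadraticMap.map_smul, QuadraticMap.map_smul,
    he, hf, QuadraticMap.polar_add_left, QuadraticMap.polar_smul_left, QuadraticMap.polar_smul_left,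
    QuadraticMap.polar_smul_right, QuadraticMap.polar_smul_left, hef, hw.1, hw.2]
  simp

end Decomp

/-! ### the number of singular vectors -/

section Count

variable [Fintype F] [FiniteDimensional F V] (Q : QuadraticForm F V) {e f : V} (he : Q e = 0)
  (hf : Q f = 0) (hef : QuadraticMap.polar Q e f = 1)

include he hf hef in
/-- the number of singular vectors of `⟨e, f⟩ ⊥ W` in terms of that of `W`. -/
theorem card_singular :
    Nat.card {v : V // Q v = 0} =
      Nat.card {w : perpPair Q e f // Q (w : V) = 0} * Fintype.card F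
        + Nat.card (perpPair Q e f) * (Fintype.card F - 1) := by
  classical
  haveI : Finite V := Module.finite_of_finite F
  haveI : Fintype (perpPair Q e f) := Fintype.ofFinite _
  have h0 := Cfsg.Agent.Helper7.Hyp.card_triples (F := F) (ι := Fin 1)
    (fun w : perpPair Q e f => -Q (w : V))
  rw [Fintype.card_fin, pow_one, Nat.sub_self, pow_zero, mul_one] at h0
  have h1 : Nat.card {w : perpPair Q e f // -Q (w : V) = 0}
      = Nat.card {w : perpPair Q e f // Q (w : V) = 0} :=
    Nat.card_congr (Equiv.subtypeEquivRight fun w => neg_eq_zero)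
  rw [h1, ← Nat.card_eq_fintype_card (α := perpPair Q e f)] at h0
  rw [← h0]
  let E1 : (F × F) × perpPair Q e f ≃ (perpPair Q e f × F) × F :=
    ⟨fun p => ((p.2, p.1.1), p.1.2), fun p => ((p.1.2, p.2), p.1.1), fun _ => rfl, fun _ => rfl⟩
  let E2 : (perpPair Q e f × F) × F ≃ (perpPair Q e f × (Fin 1 → F)) × (Fin 1 → F) :=
    Equiv.prodCongr (Equiv.prodCongr (Equiv.refl _) (Equiv.funUnique (Fin 1) F).symm)
      (Equiv.funUnique (Fin 1) F).symm
  refine Nat.card_congr (Equiv.subtypeEquiv
    (((decomp Q he hf hef).toEquiv.trans E1).trans E2) (fun v => ?_))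
  have hv : v = QuadraticMap.polar Q f v • e + QuadraticMap.polar Q e v • f
      + (((decomp Q he hf hef) v).2 : V) := by
    rw [decomp_apply]
    show v = QuadraticMap.polar Q f v • e + QuadraticMap.polar Q e v • f
      + (v - QuadraticMap.polar Q f v • e - QuadraticMap.polar Q e v • f)
    abel
  have hQ : Q v = QuadraticMap.polar Q f v * QuadraticMap.polar Q e v
      + Q (((decomp Q he hf hef) v).2 : V) := by
    conv_lhs => rw [hv]
    exact Q_decomp Q he hf hef _ _ _
  show Q v = 0 ↔ (fun _ : Fin 1 => QuadraticMap.polar Q f v) ⬝ᵥ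
    (fun _ : Fin 1 => QuadraticMap.polar Q e v) = -Q (((decomp Q he hf hef) v).2 : V)
  rw [hQ]
  simp only [dotProduct, Finset.univ_unique, Finset.sum_singleton]
  constructor
  · intro h; linear_combination h
  · intro h; linear_combination h

end Count

/-! ### counting hyperbolic pairs -/

section Pairs

variable [Fintype F] [FiniteDimensional F V] (Q : QuadraticForm F V)

/-- the cardinality of a finite-dimensional space over a finite field. -/
theorem card_space (W : Type*) [AddCommGroup W] [Module F W] [FiniteDimensional F W] :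
    Nat.card W = Fintype.card F ^ finrank F W := by
  haveI : Finite W := Module.finite_of_finite F
  haveI : Fintype W := Fintype.ofFinite W
  rw [Nat.card_eq_fintype_card, Module.card_eq_pow_finrank (K := F)]

/-- the affine hyperplane `B(e, ·) = 1`. -/
theorem card_affine {e f₁ : V} (hef₁ : QuadraticMap.polar Q e f₁ = 1) :
    Nat.card {f : V // QuadraticMap.polar Q e f = 1} = Fintype.card F ^ (finrank F V - 1) := by
  have hrange : LinearMap.range (QuadraticMap.polarBilin Q e) = ⊤ := by
    rw [LinearMap.range_eq_top]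
    intro a
    refine ⟨a • f₁, ?_⟩
    rw [map_smul, QuadraticMap.polarBilin_apply_apply, hef₁, smul_eq_mul, mul_one]
  have h := LinearMap.finrank_range_add_finrank_ker (QuadraticMap.polarBilin Q e)
  rw [hrange, finrank_top, Module.finrank_self] at h
  have hk : finrank F (LinearMap.ker (QuadraticMap.polarBilin Q e)) = finrank F V - 1 := by omega
  rw [← hk, ← card_space]
  refine Nat.card_congr ⟨fun f => ⟨f.1 - f₁, ?_⟩, fun z => ⟨z.1 + f₁, ?_⟩, fun f => ?_, fun z => ?_⟩
  · rw [LinearMap.mem_ker, map_sub, QuadraticMap.polarBilin_apply_apply,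
      QuadraticMap.polarBilin_apply_apply, f.2, hef₁, sub_self]
  · have := z.2
    rw [LinearMap.mem_ker, QuadraticMap.polarBilin_apply_apply] at this
    rw [QuadraticMap.polar_add_right, this, hef₁, zero_add]
  · apply Subtype.ext
    show f.1 - f₁ + f₁ = f.1
    abel
  · apply Subtype.ext
    show z.1 + f₁ - f₁ = z.1
    abel

/-- the number of hyperbolic partners of a nonzero singular vector. -/
theorem card_partners (hQ : Nondeg Q) {e : V} (he0 : e ≠ 0) (he : Q e = 0) :
    Nat.card {f : V // Q f = 0 ∧ QuadraticMap.polar Q e f = 1} * Fintype.card F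
      = Fintype.card F ^ (finrank F V - 1) := by
  obtain ⟨f₁, hf₁, hef₁⟩ := exists_hyperbolic_pair Q hQ he0 he
  have hee : QuadraticMap.polar Q e e = 0 := by rw [polar_self', he, mul_zero]
  rw [← card_affine Q hef₁, ← Nat.card_eq_fintype_card (α := F), ← Nat.card_prod]
  symm
  refine Nat.card_congr ⟨fun f => (⟨f.1 - Q f.1 • e, ?_, ?_⟩, Q f.1),
    fun p => ⟨p.1.1 + p.2 • e, ?_⟩, fun f => ?_, fun p => ?_⟩
  · have hfe : QuadraticMap.polar Q f.1 e = 1 := by rw [QuadraticMap.polar_comm]; exact f.2
    rw [sub_eq_add_neg, QuadraticMap.map_add Q, QuadraticMap.map_neg, QuadraticMap.map_smul, he,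
      QuadraticMap.polar_neg_right, QuadraticMap.polar_smul_right, hfe]
    simp
  · rw [QuadraticMap.polar_sub_right, QuadraticMap.polar_smul_right, hee, f.2]
    simp
  · rw [QuadraticMap.polar_add_right, QuadraticMap.polar_smul_right, hee, p.1.2.2]
    simp
  · apply Subtype.ext
    show f.1 - Q f.1 • e + Q f.1 • e = f.1
    abel
  · obtain ⟨⟨f₀, hf₀, hef₀⟩, c⟩ := p
    have hfe : QuadraticMap.polar Q f₀ e = 1 := by rw [QuadraticMap.polar_comm]; exact hef₀
    have hQ' : Q (f₀ + c • e) = c := by
      rw [QuadraticMap.map_add Q, QuadraticMap.map_smul, he, hf₀, QuadraticMap.polar_smul_right,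
        hfe]
      simp
    refine Prod.ext (Subtype.ext ?_) hQ'
    show f₀ + c • e - Q (f₀ + c • e) • e = f₀
    rw [hQ']
    abel

/-- the number of hyperbolic pairs. -/
theorem card_pairs (hQ : Nondeg Q) :
    Nat.card {p : V × V // Q p.1 = 0 ∧ Q p.2 = 0 ∧ QuadraticMap.polar Q p.1 p.2 = 1}
        * Fintype.card F
      = (Nat.card {v : V // Q v = 0} - 1) * Fintype.card F ^ (finrank F V - 1) := by
  classical
  haveI : Finite V := Module.finite_of_finite F
  haveI : Fintype V := Fintype.ofFinite V
  have h1 : Nat.card {p : V × V // Q p.1 = 0 ∧ Q p.2 = 0 ∧ QuadraticMap.polar Q p.1 p.2 = 1}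
      = Nat.card (Σ e : {e : V // e ≠ 0 ∧ Q e = 0},
          {f : V // Q f = 0 ∧ QuadraticMap.polar Q e.1 f = 1}) := by
    refine Nat.card_congr ⟨fun p => ⟨⟨p.1.1, ?_, p.2.1⟩, ⟨p.1.2, p.2.2.1, p.2.2.2⟩⟩,
      fun s => ⟨(s.1.1, s.2.1), s.1.2.2, s.2.2.1, s.2.2.2⟩, fun p => rfl, fun s => rfl⟩
    intro h0
    have := p.2.2.2
    rw [h0, QuadraticMap.polar_zero_left] at this
    exact zero_ne_one this
  rw [h1, Nat.card_sigma, Finset.sum_mul]
  rw [Finset.sum_congr rfl (fun e _ => card_partners Q hQ e.2.1 e.2.2), Finset.sum_const,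
    Finset.card_univ, smul_eq_mul]
  congr 1
  rw [← Nat.card_eq_fintype_card]
  have h2 : Nat.card {v : V // Q v = 0} = Nat.card {e : V // e ≠ 0 ∧ Q e = 0} + 1 := by
    rw [Nat.card_eq_fintype_card, Nat.card_eq_fintype_card, Fintype.card_subtype,
      Fintype.card_subtype]
    have : (Finset.univ.filter fun v : V => Q v = 0)
        = insert 0 (Finset.univ.filter fun v : V => v ≠ 0 ∧ Q v = 0) := by
      ext v
      simp only [Finset.mem_filter, Finset.mem_univ, true_and, Finset.mem_insert]
      constructor
      · intro h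
        by_cases hv : v = 0
        · left; exact hv
        · right; exact ⟨hv, h⟩
      · rintro (rfl | h)
        · exact QuadraticMap.map_zero Q
        · exact h.2
    rw [this, Finset.card_insert_of_notMem]
    simp
  rw [h2, Nat.add_sub_cancel]

end Pairs

/-! ### orbit–stabiliser for hyperbolic pairs -/

section OrbitStab

variable (Q : QuadraticForm F V) {e f : V} (he : Q e = 0) (hf : Q f = 0)
  (hef : QuadraticMap.polar Q e f = 1)

/-- the action of the isometry group on pairs of vectors. -/
@[reducible] def pairAction : MulAction (Isom Q) (V × V) where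
  smul g p := (g.1 p.1, g.1 p.2)
  one_smul _ := rfl
  mul_smul _ _ _ := rfl

/-- extension of an isometry of `W = ⟨e, f⟩^⊥` by the identity on `⟨e, f⟩`. -/
noncomputable def extIsom (h : perpPair Q e f ≃ₗ[F] perpPair Q e f) : V ≃ₗ[F] V :=
  ((decomp Q he hf hef).trans ((LinearEquiv.refl F (F × F)).prodCongr h)).trans
    (decomp Q he hf hef).symm

theorem extIsom_apply (h : perpPair Q e f ≃ₗ[F] perpPair Q e f) (x : V) :
    extIsom Q he hf hef h x = QuadraticMap.polar Q f x • e + QuadraticMap.polar Q e x • f
      + (h ((decomp Q he hf hef x).2) : V) := rfl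

theorem decomp_eq (x : V) : x = QuadraticMap.polar Q f x • e + QuadraticMap.polar Q e x • f
    + (((decomp Q he hf hef) x).2 : V) := by
  rw [decomp_apply]
  show x = QuadraticMap.polar Q f x • e + QuadraticMap.polar Q e x • f
    + (x - QuadraticMap.polar Q f x • e - QuadraticMap.polar Q e x • f)
  abel

theorem extIsom_mem (h : perpPair Q e f ≃ₗ[F] perpPair Q e f)
    (hh : h ∈ Isom (Q.comp (perpPair Q e f).subtype)) : extIsom Q he hf hef h ∈ Isom Q := by
  intro x
  rw [extIsom_apply, Q_decomp Q he hf hef]
  conv_rhs => rw [decomp_eq Q he hf hef x, Q_decomp Q he hf hef]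
  congr 1
  exact hh _

include he hf hef in
theorem decomp_snd_of_mem (w : perpPair Q e f) : ((decomp Q he hf hef) (w : V)).2 = w := by
  have hw := (mem_perpPair Q e f _).mp w.2
  apply Subtype.ext
  rw [decomp_apply]
  show (w : V) - QuadraticMap.polar Q f w • e - QuadraticMap.polar Q e w • f = w
  rw [hw.1, hw.2, zero_smul, zero_smul, sub_zero, sub_zero]

theorem decomp_snd_e : ((decomp Q he hf hef) e).2 = 0 := by
  have hfe : QuadraticMap.polar Q f e = 1 := by rw [QuadraticMap.polar_comm]; exact hef
  have hee : QuadraticMap.polar Q e e = 0 := by rw [polar_self', he, mul_zero]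
  apply Subtype.ext
  rw [decomp_apply]
  show e - QuadraticMap.polar Q f e • e - QuadraticMap.polar Q e e • f = 0
  rw [hfe, hee, one_smul, zero_smul, sub_self, sub_zero]

theorem decomp_snd_f : ((decomp Q he hf hef) f).2 = 0 := by
  have hff : QuadraticMap.polar Q f f = 0 := by rw [polar_self', hf, mul_zero]
  apply Subtype.ext
  rw [decomp_apply]
  show f - QuadraticMap.polar Q f f • e - QuadraticMap.polar Q e f • f = 0
  rw [hff, hef, one_smul, zero_smul, sub_zero, sub_self]

theorem extIsom_e (h : perpPair Q e f ≃ₗ[F] perpPair Q e f) : extIsom Q he hf hef h e = e := by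
  have hfe : QuadraticMap.polar Q f e = 1 := by rw [QuadraticMap.polar_comm]; exact hef
  have hee : QuadraticMap.polar Q e e = 0 := by rw [polar_self', he, mul_zero]
  rw [extIsom_apply, decomp_snd_e, map_zero, hfe, hee]
  simp

theorem extIsom_f (h : perpPair Q e f ≃ₗ[F] perpPair Q e f) : extIsom Q he hf hef h f = f := by
  have hff : QuadraticMap.polar Q f f = 0 := by rw [polar_self', hf, mul_zero]
  rw [extIsom_apply, decomp_snd_f, map_zero, hff, hef]
  simp

/-- an isometry fixing `e` and `f` preserves `W`. -/
theorem map_mem_perpPair (g : V ≃ₗ[F] V) (hg : ∀ v, Q (g v) = Q v) (hge : g e = e)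
    (hgf : g f = f) {w : V} (hw : w ∈ perpPair Q e f) : g w ∈ perpPair Q e f := by
  rw [mem_perpPair] at hw ⊢
  constructor
  · have := polar_isometry Q g hg e w
    rw [hge] at this
    rw [this]; exact hw.1
  · have := polar_isometry Q g hg f w
    rw [hgf] at this
    rw [this]; exact hw.2

/-- restriction to `W` of an isometry fixing `e` and `f`. -/
noncomputable def resIsom (g : V ≃ₗ[F] V) (hg : ∀ v, Q (g v) = Q v) (hge : g e = e)
    (hgf : g f = f) : perpPair Q e f ≃ₗ[F] perpPair Q e f where
  toFun w := ⟨g w, map_mem_perpPair Q g hg hge hgf w.2⟩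
  map_add' x y := Subtype.ext (map_add g _ _)
  map_smul' c x := Subtype.ext (map_smul g _ _)
  invFun w := ⟨g.symm w, map_mem_perpPair Q g.symm
    (fun v => by rw [← hg (g.symm v), LinearEquiv.apply_symm_apply])
    (by rw [LinearEquiv.symm_apply_eq, hge]) (by rw [LinearEquiv.symm_apply_eq, hgf]) w.2⟩
  left_inv w := Subtype.ext (g.symm_apply_apply _)
  right_inv w := Subtype.ext (g.apply_symm_apply _)

include he hf hef in
/-- **orbit–stabiliser**: the order of the isometry group. -/
theorem card_Isom [FiniteDimensional F V] (hQ : (QuadraticMap.polarBilin Q).Nondegenerate) :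
    Nat.card (Isom Q) =
      Nat.card {p : V × V // Q p.1 = 0 ∧ Q p.2 = 0 ∧ QuadraticMap.polar Q p.1 p.2 = 1}
        * Nat.card (Isom (Q.comp (perpPair Q e f).subtype)) := by
  classical
  letI act : MulAction (Isom Q) (V × V) := pairAction Q
  letI : SMul (Isom Q) (V × V) := act.toSMul
  have h1 := Subgroup.card_eq_card_quotient_mul_card_subgroup
    (MulAction.stabilizer (Isom Q) ((e, f) : V × V))
  have h2 : Nat.card (Isom Q ⧸ MulAction.stabilizer (Isom Q) ((e, f) : V × V)) =
      Nat.card (MulAction.orbit (Isom Q) ((e, f) : V × V)) :=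
    Nat.card_congr (MulAction.orbitEquivQuotientStabilizer _ _).symm
  have hli : ∀ a b : V, Q a = 0 → Q b = 0 → QuadraticMap.polar Q a b = 1 →
      LinearIndependent F ![a, b] := by
    intro a b ha hb hab
    rw [LinearIndependent.pair_iff]
    intro s t hst
    have hba : QuadraticMap.polar Q b a = 1 := by rw [QuadraticMap.polar_comm]; exact hab
    have haa : QuadraticMap.polar Q a a = 0 := by rw [polar_self', ha, mul_zero]
    have hbb : QuadraticMap.polar Q b b = 0 := by rw [polar_self', hb, mul_zero]
    constructor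
    · have := congrArg (fun x => QuadraticMap.polar Q b x) hst
      simp only [QuadraticMap.polar_add_right, QuadraticMap.polar_smul_right, hba, hbb,
        QuadraticMap.polar_zero_right, smul_eq_mul, mul_one, mul_zero, add_zero] at this
      exact this
    · have := congrArg (fun x => QuadraticMap.polar Q a x) hst
      simp only [QuadraticMap.polar_add_right, QuadraticMap.polar_smul_right, hab, haa,
        QuadraticMap.polar_zero_right, smul_eq_mul, mul_one, mul_zero, zero_add] at this
      exact this
  have h3 : MulAction.orbit (Isom Q) ((e, f) : V × V) =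
      {p | Q p.1 = 0 ∧ Q p.2 = 0 ∧ QuadraticMap.polar Q p.1 p.2 = 1} := by
    ext p
    constructor
    · rintro ⟨g, rfl⟩
      show Q (g.1 e) = 0 ∧ Q (g.1 f) = 0 ∧ QuadraticMap.polar Q (g.1 e) (g.1 f) = 1
      rw [g.2 e, g.2 f, polar_isometry Q g.1 g.2]
      exact ⟨he, hf, hef⟩
    · rintro ⟨hp1, hp2, hp3⟩
      have hfe : QuadraticMap.polar Q f e = 1 := by rw [QuadraticMap.polar_comm]; exact hef
      have hp3' : QuadraticMap.polar Q p.2 p.1 = 1 := by rw [QuadraticMap.polar_comm]; exact hp3
      obtain ⟨g, hg1, hg2⟩ := witt_family Q hQ 2 ![e, f] ![p.1, p.2] (hli e f he hf hef)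
        (hli p.1 p.2 hp1 hp2 hp3)
        (by
          intro i
          fin_cases i
          · show Q e = Q p.1
            rw [he, hp1]
          · show Q f = Q p.2
            rw [hf, hp2])
        (by
          intro i j
          fin_cases i <;> fin_cases j
          · show QuadraticMap.polar Q e e = QuadraticMap.polar Q p.1 p.1
            rw [polar_self', polar_self', he, hp1]
          · show QuadraticMap.polar Q e f = QuadraticMap.polar Q p.1 p.2
            rw [hef, hp3]
          · show QuadraticMap.polar Q f e = QuadraticMap.polar Q p.2 p.1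
            rw [hfe, hp3']
          · show QuadraticMap.polar Q f f = QuadraticMap.polar Q p.2 p.2
            rw [polar_self', polar_self', hf, hp2])
      refine ⟨⟨g, hg1⟩, ?_⟩
      show (g e, g f) = p
      exact Prod.ext (hg2 0) (hg2 1)
  have h4 : Nat.card (MulAction.stabilizer (Isom Q) ((e, f) : V × V)) =
      Nat.card (Isom (Q.comp (perpPair Q e f).subtype)) := by
    have hstab : ∀ g : Isom Q, g ∈ MulAction.stabilizer (Isom Q) ((e, f) : V × V) ↔
        g.1 e = e ∧ g.1 f = f := by
      intro g
      rw [MulAction.mem_stabilizer_iff]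
      show (g.1 e, g.1 f) = (e, f) ↔ _
      exact Prod.ext_iff
    refine Nat.card_congr
      ⟨fun g => ⟨resIsom Q g.1.1 g.1.2 ((hstab g.1).mp g.2).1 ((hstab g.1).mp g.2).2,
          fun w => g.1.2 w⟩,
        fun h => ⟨⟨extIsom Q he hf hef h.1, extIsom_mem Q he hf hef h.1 h.2⟩,
          (hstab _).mpr ⟨extIsom_e Q he hf hef h.1, extIsom_f Q he hf hef h.1⟩⟩,
        fun g => ?_, fun h => ?_⟩
    · apply Subtype.ext
      apply Subtype.ext
      apply LinearEquiv.ext
      intro x
      show extIsom Q he hf hef (resIsom Q g.1.1 g.1.2 ((hstab g.1).mp g.2).1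
        ((hstab g.1).mp g.2).2) x = g.1.1 x
      rw [extIsom_apply]
      conv_rhs => rw [decomp_eq Q he hf hef x, map_add, map_add, map_smul, map_smul,
        ((hstab g.1).mp g.2).1, ((hstab g.1).mp g.2).2]
      rfl
    · apply Subtype.ext
      apply LinearEquiv.ext
      intro w
      apply Subtype.ext
      show extIsom Q he hf hef h.1 (w : V) = h.1 w
      have hw := (mem_perpPair Q e f _).mp w.2
      rw [extIsom_apply, decomp_snd_of_mem Q he hf hef, hw.1, hw.2, zero_smul, zero_smul, zero_add,
        zero_add]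
  rw [h1, h2, h3, h4]
  rfl

end OrbitStab

/-! ### the recursion step -/

/-- splitting off a hyperbolic plane: dimension, nondegeneracy, number of singular vectors and
order of the isometry group. -/
theorem step [Fintype F] [FiniteDimensional F V] (Q : QuadraticForm F V)
    (hQ : (QuadraticMap.polarBilin Q).Nondegenerate) {e : V} (he0 : e ≠ 0) (he : Q e = 0) :
    ∃ W : Submodule F V, finrank F W + 2 = finrank F V ∧
      (QuadraticMap.polarBilin (Q.comp W.subtype)).Nondegenerate ∧
      Nat.card {v : V // Q v = 0} = Nat.card {w : W // (Q.comp W.subtype) w = 0} * Fintype.card F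
        + Fintype.card F ^ finrank F W * (Fintype.card F - 1) ∧
      Nat.card (Isom Q) * Fintype.card F = (Nat.card {v : V // Q v = 0} - 1)
        * Fintype.card F ^ (finrank F V - 1) * Nat.card (Isom (Q.comp W.subtype)) := by
  have hnd := (nondeg_iff Q).mp hQ
  obtain ⟨f, hf, hef⟩ := exists_hyperbolic_pair Q hnd he0 he
  refine ⟨perpPair Q e f, finrank_perpPair Q he hf hef,
    (nondeg_iff _).mpr ((nondeg_comp_subtype_iff Q _).mpr (perpPair_nondeg Q hnd he hf hef)), ?_, ?_⟩
  · rw [card_singular Q he hf hef, card_space (F := F) (perpPair Q e f)]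
    rfl
  · rw [card_Isom Q he hf hef hQ, mul_right_comm, card_pairs Q hnd]

/-! ### base cases -/

theorem card_Isom_of_finrank_zero [FiniteDimensional F V] (Q : QuadraticForm F V)
    (hV : finrank F V = 0) : Nat.card (Isom Q) = 1 := by
  haveI : Subsingleton V := Module.finrank_zero_iff.mp hV
  haveI : Subsingleton (Isom Q) := by
    constructor
    intro a b
    apply Subtype.ext
    apply LinearEquiv.ext
    intro x
    exact Subsingleton.elim _ _
  exact Nat.card_unique

theorem card_Isom_of_finrank_one [FiniteDimensional F V] (h2 : (2 : F) ≠ 0)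
    (Q : QuadraticForm F V) (hQ : (QuadraticMap.polarBilin Q).Nondegenerate)
    (hV : finrank F V = 1) : Nat.card (Isom Q) = 2 := by
  have hnd := (nondeg_iff Q).mp hQ
  obtain ⟨x, hx0, hx⟩ := finrank_eq_one_iff'.mp hV
  have hQx : Q x ≠ 0 := by
    intro h0
    apply hx0
    apply hnd
    intro w
    obtain ⟨c, rfl⟩ := hx w
    rw [QuadraticMap.polar_smul_right, polar_self', h0, mul_zero, smul_zero]
  rw [Nat.card_eq_two_iff]
  have hneg : LinearEquiv.neg F (M := V) ∈ Isom Q := by
    intro v
    rw [LinearEquiv.neg_apply, QuadraticMap.map_neg]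
  refine ⟨1, ⟨LinearEquiv.neg F, hneg⟩, ?_, ?_⟩
  · intro h
    have h1 := congrArg (fun g : Isom Q => g.1 x) h
    simp only [LinearEquiv.neg_apply] at h1
    have h3 : (2 : F) • x = 0 := by
      rw [two_smul]
      have : x = -x := h1
      nth_rewrite 1 [this]
      exact neg_add_cancel x
    rcases smul_eq_zero.mp h3 with h | h
    · exact h2 h
    · exact hx0 h
  · ext g
    simp only [Set.mem_insert_iff, Set.mem_singleton_iff, Set.mem_univ, iff_true]
    obtain ⟨l, hl⟩ := hx (g.1 x)
    have hl2 : l * l = 1 := by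
      have := g.2 x
      rw [← hl, QuadraticMap.map_smul, smul_eq_mul] at this
      have h3 : (l * l - 1) * Q x = 0 := by linear_combination this
      rcases mul_eq_zero.mp h3 with h | h
      · linear_combination h
      · exact absurd h hQx
    have hl3 : l = 1 ∨ l = -1 := by
      have : (l - 1) * (l + 1) = 0 := by linear_combination hl2
      rcases mul_eq_zero.mp this with h | h
      · left; linear_combination h
      · right; linear_combination h
    rcases hl3 with rfl | rfl
    · left
      apply Subtype.ext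
      apply LinearEquiv.ext
      intro v
      obtain ⟨c, rfl⟩ := hx v
      rw [map_smul, ← hl, one_smul]
      rfl
    · right
      apply Subtype.ext
      apply LinearEquiv.ext
      intro v
      obtain ⟨c, rfl⟩ := hx v
      rw [map_smul, ← hl]
      show c • (-1 : F) • x = -(c • x)
      rw [neg_smul, one_smul, smul_neg]

/-! ### odd dimension -/

theorem two_le_card [Fintype F] : 2 ≤ Fintype.card F := Fintype.one_lt_card

/-- the order of the isometry group of a nondegenerate quadratic space of dimension `2m + 1`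
with `q^(2m)` singular vectors. -/
theorem card_Isom_odd [Fintype F] (h2 : (2 : F) ≠ 0) (m : ℕ) :
    ∀ {V : Type u} [AddCommGroup V] [Module F V] [FiniteDimensional F V] (Q : QuadraticForm F V),
      (QuadraticMap.polarBilin Q).Nondegenerate → finrank F V = 2 * m + 1 →
      Nat.card {v : V // Q v = 0} = Fintype.card F ^ (2 * m) →
      Nat.card (Isom Q) = 2 * Fintype.card F ^ (m ^ 2)
        * ∏ i ∈ Finset.range m, (Fintype.card F ^ (2 * (i + 1)) - 1) := by
  have hq := two_le_card (F := F)
  obtain ⟨q, hqdef⟩ : ∃ q, q = Fintype.card F := ⟨_, rfl⟩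
  rw [← hqdef] at hq ⊢
  induction m with
  | zero =>
    intro V _ _ _ Q hQ hV _
    rw [card_Isom_of_finrank_one h2 Q hQ hV]
    simp
  | succ m ih =>
    intro V _ _ _ Q hQ hV hν
    obtain ⟨e, he0, he⟩ := exists_singular Q (by omega)
    obtain ⟨W, hWdim, hWnd, hνW, hcard⟩ := step Q hQ he0 he
    rw [← hqdef] at hνW hcard
    have hWdim' : finrank F W = 2 * m + 1 := by omega
    rw [hν, hWdim'] at hνW
    rw [hν, hV] at hcard
    have e1 : q ^ (2 * (m + 1)) = q ^ (2 * m + 1) * q := by rw [← pow_succ]; congr 1
    have hνW' : Nat.card {w : W // (Q.comp W.subtype) w = 0} = q ^ (2 * m) := by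
      have h3 : q ^ (2 * m + 1) * (q - 1) + q ^ (2 * m + 1) = q ^ (2 * m + 1) * q := by
        rw [← Nat.mul_succ]
        congr 1
        omega
      have h4 : Nat.card {w : W // (Q.comp W.subtype) w = 0} * q = q ^ (2 * m) * q := by
        rw [← pow_succ]
        omega
      exact Nat.eq_of_mul_eq_mul_right (by omega) h4
    have hIH := ih (Q.comp W.subtype) hWnd hWdim' hνW'
    rw [hIH] at hcard
    have e2 : 2 * (m + 1) + 1 - 1 = 2 * m + 1 + 1 := by omega
    rw [e2, pow_succ] at hcard
    apply Nat.eq_of_mul_eq_mul_right (show 0 < q by omega)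
    rw [hcard, Finset.prod_range_succ]
    have e3 : (m + 1) ^ 2 = m ^ 2 + (2 * m + 1) := by ring
    rw [e3, pow_add]
    ring

/-! ### transfer to matrix groups -/

/-- the matrix isometry group and the abstract isometry group have the same order. -/
theorem card_isometryGroup {ι : Type} [Fintype ι] [DecidableEq ι]
    (Q' : QuadraticForm F (ι → F)) (Q₀ : (ι → F) → F) (h : ∀ v, Q' v = Q₀ v) :
    Nat.card (Cfsg.isometryGroup F Q₀) = Nat.card (Isom Q') := by
  let E : Matrix.GeneralLinearGroup ι F ≃ ((ι → F) ≃ₗ[F] (ι → F)) :=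
    (Matrix.GeneralLinearGroup.toLin.trans
      (LinearMap.GeneralLinearGroup.generalLinearEquiv F (ι → F))).toEquiv
  have hE : ∀ (g : Matrix.GeneralLinearGroup ι F) (v : ι → F),
      E g v = (g : Matrix ι ι F).mulVec v := by
    intro g v
    rfl
  refine Nat.card_congr (Equiv.subtypeEquiv E (fun g => ?_))
  constructor
  · intro hg v
    rw [hE, h, h]
    exact hg v v
  · intro hg u v
    have := hg u
    rw [hE, h, h] at this
    exact this

end Cfsg.Agent.Helper8.OrthOrder
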