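import Mathlib
import Cfsg.Agent.Helper8.OrthOrder

set_option autoImplicit false

/-!
Reflections of a quadratic space; in characteristic different from two the isometry group of a
nondegenerate quadratic space is generated by reflections.
-/

namespace Cfsg.Agent.Helper8.Reflections

open Module Cfsg.Agent.Helper8.QuadForm Cfsg.Agent.Helper8.WittQuad Cfsg.Agent.Helper8.OrthOrder

variable {F : Type*} [Field F] {V : Type*} [AddCommGroup V] [Module F V]

/-- the reflection `x ↦ x - (B(x, z) / Q z) z` as a linear map (the identity when `Q z = 0`). -/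
noncomputable def reflLin (Q : QuadraticForm F V) (z : V) : V →ₗ[F] V :=
  LinearMap.id - (Q z)⁻¹ • (QuadraticMap.polarBilin Q z).smulRight z

theorem reflLin_apply (Q : QuadraticForm F V) (z x : V) :
    reflLin Q z x = x - (QuadraticMap.polar Q z x / Q z) • z := by
  show x - (Q z)⁻¹ • (QuadraticMap.polar Q z x • z) = _
  rw [smul_smul, div_eq_inv_mul]

theorem reflLin_reflLin (Q : QuadraticForm F V) (z x : V) : reflLin Q z (reflLin Q z x) = x := by
  by_cases hz : Q z = 0
  · rw [reflLin_apply, reflLin_apply, hz]
    simp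
  · rw [reflLin_apply Q z (reflLin Q z x), reflLin_apply, QuadraticMap.polar_sub_right,
      QuadraticMap.polar_smul_right, polar_self', smul_eq_mul]
    have : (QuadraticMap.polar Q z x - QuadraticMap.polar Q z x / Q z * (2 * Q z)) / Q z
        = -(QuadraticMap.polar Q z x / Q z) := by
      field_simp
      ring
    rw [this, neg_smul]
    abel

/-- the reflection in `z` as a linear equivalence. -/
noncomputable def refl (Q : QuadraticForm F V) (z : V) : V ≃ₗ[F] V :=
  LinearEquiv.ofLinear (reflLin Q z) (reflLin Q z)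
    (LinearMap.ext (reflLin_reflLin Q z)) (LinearMap.ext (reflLin_reflLin Q z))

theorem refl_apply (Q : QuadraticForm F V) (z x : V) :
    refl Q z x = x - (QuadraticMap.polar Q z x / Q z) • z :=
  reflLin_apply Q z x

theorem refl_refl (Q : QuadraticForm F V) (z x : V) : refl Q z (refl Q z x) = x :=
  reflLin_reflLin Q z x

theorem refl_mul_self (Q : QuadraticForm F V) (z : V) : refl Q z * refl Q z = 1 :=
  LinearEquiv.ext (refl_refl Q z)

theorem refl_inv (Q : QuadraticForm F V) (z : V) : (refl Q z)⁻¹ = refl Q z :=
  inv_eq_of_mul_eq_one_right (refl_mul_self Q z)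

theorem Q_refl (Q : QuadraticForm F V) (z x : V) : Q (refl Q z x) = Q x := by
  by_cases hz : Q z = 0
  · rw [refl_apply, hz]
    simp
  · rw [refl_apply, sub_eq_add_neg, QuadraticMap.map_add Q, QuadraticMap.map_neg,
      QuadraticMap.map_smul, QuadraticMap.polar_neg_right, QuadraticMap.polar_smul_right,
      QuadraticMap.polar_comm Q x z]
    simp only [smul_eq_mul]
    field_simp
    ring

theorem refl_mem (Q : QuadraticForm F V) (z : V) : refl Q z ∈ Isom Q :=
  fun x => Q_refl Q z x

theorem refl_of_perp (Q : QuadraticForm F V) {z x : V} (h : QuadraticMap.polar Q z x = 0) :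
    refl Q z x = x := by
  rw [refl_apply, h, zero_div, zero_smul, sub_zero]

theorem refl_self (Q : QuadraticForm F V) {z : V} (hz : Q z ≠ 0) : refl Q z z = -z := by
  rw [refl_apply, polar_self']
  have : 2 * Q z / Q z = 2 := by field_simp
  rw [this, two_smul]
  abel

/-- if `Q u = Q w` and `Q (w - u) ≠ 0` the reflection in `w - u` maps `u` to `w`. -/
theorem refl_sub (Q : QuadraticForm F V) {u w : V} (h : Q u = Q w) (hz : Q (w - u) ≠ 0) :
    refl Q (w - u) u = w := by
  have h1 : Q (w - u) = 2 * Q u - QuadraticMap.polar Q w u := by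
    rw [sub_eq_add_neg, QuadraticMap.map_add Q, QuadraticMap.map_neg, QuadraticMap.polar_neg_right,
      ← h]
    ring
  have h2 : QuadraticMap.polar Q (w - u) u = -(Q (w - u)) := by
    rw [QuadraticMap.polar_sub_left, polar_self', h1]
    ring
  rw [refl_apply, h2, neg_div, div_self hz, neg_smul, one_smul]
  abel

/-- if `Q u = Q w` and `Q (w + u) ≠ 0` the reflection in `w + u` maps `u` to `-w`. -/
theorem refl_add (Q : QuadraticForm F V) {u w : V} (h : Q u = Q w) (hz : Q (w + u) ≠ 0) :
    refl Q (w + u) u = -w := by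
  have h1 : Q (w + u) = 2 * Q u + QuadraticMap.polar Q w u := by
    rw [QuadraticMap.map_add Q, ← h]
    ring
  have h2 : QuadraticMap.polar Q (w + u) u = Q (w + u) := by
    rw [QuadraticMap.polar_add_left, polar_self', h1]
    ring
  rw [refl_apply, h2, div_self hz, one_smul]
  abel

/-- the set of reflections in nonsingular vectors of a subspace. -/
def reflSet (Q : QuadraticForm F V) (W : Submodule F V) : Set (V ≃ₗ[F] V) :=
  {r | ∃ z ∈ W, Q z ≠ 0 ∧ r = refl Q z}

theorem reflSet_mono (Q : QuadraticForm F V) {W W' : Submodule F V} (h : W ≤ W') :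
    reflSet Q W ⊆ reflSet Q W' := by
  rintro r ⟨z, hz, hQz, rfl⟩
  exact ⟨z, h hz, hQz, rfl⟩

/-- **Generation by reflections**, relative to a nondegenerate subspace `W`: an isometry mapping `W`
into itself and fixing the vectors orthogonal to `W` is a product of reflections in vectors of
`W`. -/
theorem mem_closure_reflSet [FiniteDimensional F V] (h2 : (2 : F) ≠ 0) (Q : QuadraticForm F V)
    (n : ℕ) : ∀ W : Submodule F V, finrank F W ≤ n → NondegOn Q W →
      ∀ g : V ≃ₗ[F] V, (∀ x, Q (g x) = Q x) → (∀ w ∈ W, g w ∈ W) →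
      (∀ x, (∀ w ∈ W, QuadraticMap.polar Q x w = 0) → g x = x) →
      g ∈ Subgroup.closure (reflSet Q W) := by
  induction n with
  | zero =>
    intro W hW _ g _ _ hfix
    have hW0 : W = ⊥ := by
      apply Submodule.finrank_eq_zero.mp
      omega
    have : g = 1 := by
      apply LinearEquiv.ext
      intro x
      apply hfix
      intro w hw
      rw [hW0, Submodule.mem_bot] at hw
      rw [hw, QuadraticMap.polar_zero_right]
    rw [this]
    exact Subgroup.one_mem _
  | succ n ih =>
    intro W hW hnd g hg hgW hfix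
    by_cases hex : ∃ v ∈ W, Q v ≠ 0
    swap
    · -- `Q` vanishes on `W`, hence `W = ⊥`
      push Not at hex
      have hW0 : ∀ w ∈ W, w = 0 := by
        intro w hw
        apply hnd w hw
        intro w' hw'
        unfold QuadraticMap.polar
        rw [hex _ (W.add_mem hw hw'), hex w hw, hex w' hw']
        ring
      have : g = 1 := by
        apply LinearEquiv.ext
        intro x
        apply hfix
        intro w hw
        rw [hW0 w hw, QuadraticMap.polar_zero_right]
      rw [this]
      exact Subgroup.one_mem _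
    obtain ⟨v, hvW, hQv⟩ := hex
    have hpolar : ∀ x y, QuadraticMap.polar Q (g x) (g y) = QuadraticMap.polar Q x y :=
      polar_isometry Q g hg
    -- an element `h` of the closure with `h v = g v`
    have hgv : g v ∈ W := hgW v hvW
    have hQgv : Q v = Q (g v) := (hg v).symm
    obtain ⟨h, hh, hhv, hhiso, hhW, hhfix⟩ : ∃ h : V ≃ₗ[F] V,
        h ∈ Subgroup.closure (reflSet Q W) ∧ h v = g v ∧ (∀ x, Q (h x) = Q x) ∧
        (∀ w ∈ W, h w ∈ W) ∧
        (∀ x, (∀ w ∈ W, QuadraticMap.polar Q x w = 0) → h x = x) := by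
      have hsum : Q (g v - v) + Q (g v + v) = 4 * Q v := by
        rw [sub_eq_add_neg, QuadraticMap.map_add Q, QuadraticMap.map_add Q, QuadraticMap.map_neg,
          QuadraticMap.polar_neg_right, ← hQgv]
        ring
      have hreflW : ∀ z ∈ W, ∀ w ∈ W, refl Q z w ∈ W := by
        intro z hz w hw
        rw [refl_apply]
        exact W.sub_mem hw (W.smul_mem _ hz)
      have hreflfix : ∀ z ∈ W, ∀ x, (∀ w ∈ W, QuadraticMap.polar Q x w = 0) → refl Q z x = x := by
        intro z hz x hx
        apply refl_of_perp
        rw [QuadraticMap.polar_comm]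
        exact hx z hz
      by_cases h1 : Q (g v - v) ≠ 0
      · refine ⟨refl Q (g v - v), Subgroup.subset_closure ⟨_, W.sub_mem hgv hvW, h1, rfl⟩,
          refl_sub Q hQgv h1, Q_refl Q _, hreflW _ (W.sub_mem hgv hvW),
          hreflfix _ (W.sub_mem hgv hvW)⟩
      · push Not at h1
        have h3 : Q (g v + v) ≠ 0 := by
          intro h3
          rw [h1, h3, zero_add] at hsum
          have h4 : (4 : F) ≠ 0 := by
            have : (4 : F) = 2 * 2 := by norm_num
            rw [this]
            exact mul_ne_zero h2 h2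
          rcases mul_eq_zero.mp hsum.symm with h | h
          · exact h4 h
          · exact hQv h
        have hQgv' : Q (g v) ≠ 0 := by rw [← hQgv]; exact hQv
        refine ⟨refl Q (g v) * refl Q (g v + v), ?_, ?_, ?_, ?_, ?_⟩
        · exact Subgroup.mul_mem _ (Subgroup.subset_closure ⟨_, hgv, hQgv', rfl⟩)
            (Subgroup.subset_closure ⟨_, W.add_mem hgv hvW, h3, rfl⟩)
        · show refl Q (g v) (refl Q (g v + v) v) = g v
          rw [refl_add Q hQgv h3, map_neg, refl_self Q hQgv', neg_neg]
        · intro x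
          show Q (refl Q (g v) (refl Q (g v + v) x)) = Q x
          rw [Q_refl, Q_refl]
        · intro w hw
          exact hreflW _ hgv _ (hreflW _ (W.add_mem hgv hvW) w hw)
        · intro x hx
          show refl Q (g v) (refl Q (g v + v) x) = x
          rw [hreflfix _ (W.add_mem hgv hvW) x hx, hreflfix _ hgv x hx]
    -- `k = h⁻¹ g` fixes `v`
    obtain ⟨k, hk⟩ : ∃ k : V ≃ₗ[F] V, k = h⁻¹ * g := ⟨_, rfl⟩
    have hgk : g = h * k := by rw [hk, mul_inv_cancel_left]
    have hinv : ∀ x y, h x = y → h⁻¹ y = x := by
      intro x y hxy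
      rw [← hxy]
      show h.symm (h x) = x
      exact h.symm_apply_apply x
    have hkv : k v = v := by
      rw [hk]
      show h⁻¹ (g v) = v
      exact hinv v (g v) hhv
    have hkiso : ∀ x, Q (k x) = Q x := by
      intro x
      rw [hk]
      show Q (h⁻¹ (g x)) = Q x
      rw [← hg x, ← hhiso (h⁻¹ (g x))]
      congr 1
      show h (h.symm (g x)) = g x
      exact h.apply_symm_apply _
    have hhinvW : ∀ w ∈ W, h⁻¹ w ∈ W := by
      -- `h` restricted to `W` is injective, hence surjective
      intro w hw
      have hmap : W.map (h : V →ₗ[F] V) = W := by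
        apply Submodule.eq_of_le_of_finrank_eq
        · rintro _ ⟨w', hw', rfl⟩
          exact hhW w' hw'
        · exact LinearEquiv.finrank_map_eq h W
      have : w ∈ W.map (h : V →ₗ[F] V) := by rw [hmap]; exact hw
      obtain ⟨w', hw', rfl⟩ := this
      have e1 : h⁻¹ ((h : V →ₗ[F] V) w') = w' := hinv w' _ rfl
      rw [e1]
      exact hw'
    have hkW : ∀ w ∈ W, k w ∈ W := by
      intro w hw
      rw [hk]
      exact hhinvW _ (hgW w hw)
    have hkfix : ∀ x, (∀ w ∈ W, QuadraticMap.polar Q x w = 0) → k x = x := by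
      intro x hx
      rw [hk]
      show h⁻¹ (g x) = x
      rw [hfix x hx]
      exact hinv x x (hhfix x hx)
    have hkpolar : ∀ x y, QuadraticMap.polar Q (k x) (k y) = QuadraticMap.polar Q x y :=
      polar_isometry Q k hkiso
    -- the smaller subspace
    obtain ⟨W', hW'⟩ : ∃ W' : Submodule F V, W' = W ⊓ perpVec Q v := ⟨_, rfl⟩
    have hW'le : W' ≤ W := by rw [hW']; exact inf_le_left
    have hmemW' : ∀ x, x ∈ W' ↔ x ∈ W ∧ QuadraticMap.polar Q v x = 0 := by
      intro x
      rw [hW', Submodule.mem_inf, mem_perpVec]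
    have hvv : QuadraticMap.polar Q v v ≠ 0 := by
      rw [polar_self']
      exact mul_ne_zero h2 hQv
    have hW'lt : W' < W := by
      refine lt_of_le_of_ne hW'le ?_
      intro heq
      have : v ∈ W' := by rw [heq]; exact hvW
      exact hvv ((hmemW' v).mp this).2
    have hW'dim : finrank F W' ≤ n := by
      have := Submodule.finrank_lt_finrank_of_lt hW'lt
      omega
    -- decomposition of vectors of `W`
    have hdec : ∀ w ∈ W, w - (QuadraticMap.polar Q v w / QuadraticMap.polar Q v v) • v ∈ W' := by
      intro w hw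
      rw [hmemW']
      refine ⟨W.sub_mem hw (W.smul_mem _ hvW), ?_⟩
      rw [QuadraticMap.polar_sub_right, QuadraticMap.polar_smul_right, smul_eq_mul,
        div_mul_cancel₀ _ hvv, sub_self]
    have hW'nd : NondegOn Q W' := by
      intro x hx hxx
      apply hnd x (hW'le hx)
      intro w hw
      have h1 := hxx _ (hdec w hw)
      rw [QuadraticMap.polar_sub_right, QuadraticMap.polar_smul_right,
        QuadraticMap.polar_comm Q x v, ((hmemW' x).mp hx).2, smul_zero, sub_zero] at h1
      exact h1
    have hkW' : ∀ w ∈ W', k w ∈ W' := by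
      intro w hw
      rw [hmemW'] at hw ⊢
      refine ⟨hkW w hw.1, ?_⟩
      rw [← hkv, hkpolar]
      exact hw.2
    have hkfix' : ∀ x, (∀ w ∈ W', QuadraticMap.polar Q x w = 0) → k x = x := by
      intro x hx
      obtain ⟨a, ha⟩ : ∃ a, a = QuadraticMap.polar Q x v / QuadraticMap.polar Q v v := ⟨_, rfl⟩
      have hx' : ∀ w ∈ W, QuadraticMap.polar Q (x - a • v) w = 0 := by
        intro w hw
        have h1 := hx _ (hdec w hw)
        rw [QuadraticMap.polar_sub_right, QuadraticMap.polar_smul_right, smul_eq_mul] at h1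
        rw [QuadraticMap.polar_sub_left, QuadraticMap.polar_smul_left, smul_eq_mul, ha]
        have h3 : QuadraticMap.polar Q x w
            = QuadraticMap.polar Q v w / QuadraticMap.polar Q v v * QuadraticMap.polar Q x v := by
          linear_combination h1
        rw [h3]
        field_simp
        ring
      have h4 := hkfix _ hx'
      rw [map_sub, map_smul, hkv] at h4
      have : k x = k x - a • v + a • v := by abel
      rw [this, h4]
      abel
    have hkmem := ih W' hW'dim hW'nd k hkiso hkW' hkfix'
    rw [hgk]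
    exact Subgroup.mul_mem _ hh (Subgroup.closure_mono (reflSet_mono Q hW'le) hkmem)

/-- **Generation by reflections** in characteristic different from two. -/
theorem mem_closure_refl [FiniteDimensional F V] (h2 : (2 : F) ≠ 0) (Q : QuadraticForm F V)
    (hQ : Nondeg Q) (g : V ≃ₗ[F] V) (hg : ∀ x, Q (g x) = Q x) :
    g ∈ Subgroup.closure {r : V ≃ₗ[F] V | ∃ z, Q z ≠ 0 ∧ r = refl Q z} := by
  have h := mem_closure_reflSet h2 Q (finrank F (⊤ : Submodule F V)) ⊤ le_rfl
    (fun w _ hw => hQ w (fun w' => hw w' Submodule.mem_top)) g hg (fun w _ => Submodule.mem_top)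
    (fun x hx => by
      have : x = 0 := hQ x (fun w => hx w Submodule.mem_top)
      rw [this, map_zero])
  refine Subgroup.closure_mono ?_ h
  rintro r ⟨z, -, hz, rfl⟩
  exact ⟨z, hz, rfl⟩

end Cfsg.Agent.Helper8.Reflections
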