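import Mathlib
import Cfsg.Prelude.Def_Classical
import Cfsg.Prelude.Def_ClassicalGeometry
import Cfsg.Agent.Helper8.Reflections

set_option autoImplicit false

/-!
Transfer between the matrix isometry group `Cfsg.isometryGroup F ⇑Q` and the abstract isometry group
`Isom Q`; reflection matrices.
-/

namespace Cfsg.Agent.Helper8.ReflMatrix

open Module Cfsg.Agent.Helper8.QuadForm Cfsg.Agent.Helper8.WittQuad Cfsg.Agent.Helper8.OrthOrder
  Cfsg.Agent.Helper8.Reflections

variable {F : Type*} [Field F] {ι : Type} [Fintype ι] [DecidableEq ι]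

/-- invertible matrices as linear equivalences. -/
noncomputable def glEquiv : GL ι F ≃* ((ι → F) ≃ₗ[F] (ι → F)) :=
  Matrix.GeneralLinearGroup.toLin.trans (LinearMap.GeneralLinearGroup.generalLinearEquiv F (ι → F))

theorem glEquiv_apply (g : GL ι F) (v : ι → F) :
    glEquiv g v = (g : Matrix ι ι F).mulVec v := rfl

variable (Q : QuadraticForm F (ι → F))

theorem mem_isometryGroup_iff (g : GL ι F) :
    g ∈ Cfsg.isometryGroup F ⇑Q ↔ glEquiv g ∈ Isom Q := by
  constructor
  · intro hg v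
    rw [glEquiv_apply]
    exact hg v v
  · intro hg u v
    have := hg u
    rw [glEquiv_apply] at this
    exact this

/-- the matrix isometry group is isomorphic to the abstract one. -/
noncomputable def isomEquiv : ↥(Cfsg.isometryGroup F ⇑Q) ≃* ↥(Isom Q) where
  toFun g := ⟨glEquiv g.1, (mem_isometryGroup_iff Q g.1).mp g.2⟩
  invFun k := ⟨glEquiv.symm k.1, (mem_isometryGroup_iff Q _).mpr (by
    rw [MulEquiv.apply_symm_apply]; exact k.2)⟩
  left_inv g := Subtype.ext (MulEquiv.symm_apply_apply _ _)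
  right_inv k := Subtype.ext (MulEquiv.apply_symm_apply _ _)
  map_mul' a b := Subtype.ext (map_mul glEquiv a.1 b.1)

theorem isomEquiv_apply (g : ↥(Cfsg.isometryGroup F ⇑Q)) (v : ι → F) :
    (isomEquiv Q g).1 v = ((g : GL ι F) : Matrix ι ι F).mulVec v := rfl

/-- `polarVec` computes the polar form. -/
theorem polarVec_dotProduct (v x : ι → F) :
    Cfsg.polarVec ⇑Q v ⬝ᵥ x = QuadraticMap.polar Q v x := by
  have hx : x = ∑ j, x j • (Pi.single j (1 : F) : ι → F) := by
    rw [← pi_eq_sum_univ' x]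
  have h1 : QuadraticMap.polar Q v x = QuadraticMap.polarBilin Q v x := rfl
  rw [h1]
  nth_rewrite 2 [hx]
  rw [map_sum]
  unfold dotProduct Cfsg.polarVec
  apply Finset.sum_congr rfl
  intro j _
  rw [map_smul, smul_eq_mul, mul_comm]
  rfl

/-- the reflection matrix acts as the reflection. -/
theorem reflectionMatrix_mulVec (z x : ι → F) :
    (Cfsg.reflectionMatrix ⇑Q z).mulVec x = refl Q z x := by
  unfold Cfsg.reflectionMatrix
  rw [Matrix.sub_mulVec, Matrix.one_mulVec, Matrix.smul_mulVec, Matrix.vecMulVec_mulVec,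
    polarVec_dotProduct, refl_apply, op_smul_eq_smul, smul_smul, div_eq_inv_mul]

theorem det_reflectionMatrix {z : ι → F} (hz : Q z ≠ 0) :
    (Cfsg.reflectionMatrix ⇑Q z).det = -1 := by
  unfold Cfsg.reflectionMatrix
  have h1 : (1 : Matrix ι ι F) - (Q z)⁻¹ • Matrix.vecMulVec z (Cfsg.polarVec (⇑Q) z)
      = 1 + Matrix.replicateCol Unit (-(Q z)⁻¹ • z)
        * Matrix.replicateRow Unit (Cfsg.polarVec (⇑Q) z) := by
    rw [← Matrix.vecMulVec_eq, neg_smul, Matrix.neg_vecMulVec,
      Matrix.smul_vecMulVec, sub_eq_add_neg]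
  rw [h1, Matrix.det_one_add_replicateCol_mul_replicateRow, dotProduct_smul, polarVec_dotProduct,
    polar_self', smul_eq_mul]
  field_simp
  ring

/-- the reflection in `z` as an element of the matrix isometry group. -/
noncomputable def reflElt (z : ι → F) : ↥(Cfsg.isometryGroup F ⇑Q) :=
  (isomEquiv Q).symm ⟨refl Q z, refl_mem Q z⟩

theorem isomEquiv_reflElt (z : ι → F) : isomEquiv Q (reflElt Q z) = ⟨refl Q z, refl_mem Q z⟩ :=
  MulEquiv.apply_symm_apply _ _

theorem matrix_ext {M N : Matrix ι ι F} (h : ∀ x, M.mulVec x = N.mulVec x) : M = N := by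
  apply Matrix.toLin'.injective
  apply LinearMap.ext
  intro x
  rw [Matrix.toLin'_apply, Matrix.toLin'_apply, h]

theorem reflElt_val (z : ι → F) :
    (((reflElt Q z : ↥(Cfsg.isometryGroup F ⇑Q)) : GL ι F) : Matrix ι ι F)
      = Cfsg.reflectionMatrix ⇑Q z := by
  apply matrix_ext
  intro x
  rw [reflectionMatrix_mulVec, ← isomEquiv_apply, isomEquiv_reflElt]

/-- an element whose matrix is a reflection matrix is the reflection element. -/
theorem eq_reflElt {g : ↥(Cfsg.isometryGroup F ⇑Q)} {z : ι → F}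
    (h : ((g : GL ι F) : Matrix ι ι F) = Cfsg.reflectionMatrix ⇑Q z) : g = reflElt Q z := by
  apply Subtype.ext
  apply Units.ext
  rw [h, reflElt_val]

/-- **Generation by reflections** for the matrix isometry group, in characteristic different from
two. -/
theorem closure_reflElt (h2 : (2 : F) ≠ 0) (hQ : (QuadraticMap.polarBilin Q).Nondegenerate) :
    Subgroup.closure {g : ↥(Cfsg.isometryGroup F ⇑Q) | ∃ z, Q z ≠ 0 ∧ g = reflElt Q z} = ⊤ := by
  rw [eq_top_iff]
  intro g _
  obtain ⟨j, hj⟩ : ∃ j : ↥(Cfsg.isometryGroup F ⇑Q) →* ((ι → F) ≃ₗ[F] (ι → F)),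
      j = (Isom Q).subtype.comp (isomEquiv Q).toMonoidHom := ⟨_, rfl⟩
  have hjinj : Function.Injective j := by
    rw [hj]
    exact (Isom Q).subtype_injective.comp (isomEquiv Q).injective
  have hmem := mem_closure_refl h2 Q ((nondeg_iff Q).mp hQ) (j g) (by
    rw [hj]
    exact (isomEquiv Q g).2)
  have himg : {r : (ι → F) ≃ₗ[F] (ι → F) | ∃ z, Q z ≠ 0 ∧ r = refl Q z}
      = j '' {g : ↥(Cfsg.isometryGroup F ⇑Q) | ∃ z, Q z ≠ 0 ∧ g = reflElt Q z} := by
    ext r
    constructor
    · rintro ⟨z, hz, rfl⟩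
      refine ⟨reflElt Q z, ⟨z, hz, rfl⟩, ?_⟩
      rw [hj]
      show ((isomEquiv Q) (reflElt Q z)).1 = refl Q z
      rw [isomEquiv_reflElt]
    · rintro ⟨g', ⟨z, hz, rfl⟩, rfl⟩
      refine ⟨z, hz, ?_⟩
      rw [hj]
      show ((isomEquiv Q) (reflElt Q z)).1 = refl Q z
      rw [isomEquiv_reflElt]
  rw [himg, ← MonoidHom.map_closure] at hmem
  obtain ⟨g', hg', hgg'⟩ := hmem
  rw [← hjinj hgg']
  exact hg'

theorem reflElt_mul_self (z : ι → F) : reflElt Q z * reflElt Q z = 1 := by
  apply (isomEquiv Q).injective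
  rw [map_mul, isomEquiv_reflElt, map_one]
  apply Subtype.ext
  exact refl_mul_self Q z

theorem reflElt_inv (z : ι → F) : (reflElt Q z)⁻¹ = reflElt Q z :=
  inv_eq_of_mul_eq_one_right (reflElt_mul_self Q z)

/-- every isometry is a product of a list of reflections. -/
theorem exists_list_reflElt (h2 : (2 : F) ≠ 0) (hQ : (QuadraticMap.polarBilin Q).Nondegenerate)
    (g : ↥(Cfsg.isometryGroup F ⇑Q)) :
    ∃ l : List (ι → F), (∀ z ∈ l, Q z ≠ 0) ∧ g = (l.map (reflElt Q)).prod := by
  have hg : g ∈ Subgroup.closure {g : ↥(Cfsg.isometryGroup F ⇑Q) | ∃ z, Q z ≠ 0 ∧ g = reflElt Q z} := by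
    rw [closure_reflElt Q h2 hQ]
    exact Subgroup.mem_top g
  rw [← Subgroup.mem_toSubmonoid, Subgroup.closure_toSubmonoid] at hg
  obtain ⟨l', hl', hprod⟩ := Submonoid.exists_list_of_mem_closure hg
  have hl'' : ∀ x ∈ l', ∃ z, Q z ≠ 0 ∧ x = reflElt Q z := by
    intro x hx
    rcases hl' x hx with h | h
    · exact h
    · obtain ⟨z, hz, hxz⟩ := h
      refine ⟨z, hz, ?_⟩
      rw [← inv_inv x, hxz, reflElt_inv]
  clear hl' hg
  induction l' generalizing g with
  | nil =>
    refine ⟨[], by simp, ?_⟩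
    rw [← hprod]
    simp
  | cons a t ih =>
    obtain ⟨z, hz, haz⟩ := hl'' a (by simp)
    obtain ⟨l, hl, hlprod⟩ := ih t.prod rfl (fun x hx => hl'' x (by simp [hx]))
    refine ⟨z :: l, ?_, ?_⟩
    · intro w hw
      rcases List.mem_cons.mp hw with rfl | hw
      · exact hz
      · exact hl w hw
    · rw [← hprod, List.prod_cons, List.map_cons, List.prod_cons, haz, hlprod]

theorem det_prod_reflElt (l : List (ι → F)) (hl : ∀ z ∈ l, Q z ≠ 0) :
    ((((l.map (reflElt Q)).prod : ↥(Cfsg.isometryGroup F ⇑Q)) : GL ι F) : Matrix ι ι F).det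
      = (-1) ^ l.length := by
  induction l with
  | nil => simp
  | cons z t ih =>
    rw [List.map_cons, List.prod_cons, Subgroup.coe_mul, Units.val_mul, Matrix.det_mul, reflElt_val,
      det_reflectionMatrix Q (hl z (by simp)), ih (fun w hw => hl w (by simp [hw])),
      List.length_cons, pow_succ]
    ring

end Cfsg.Agent.Helper8.ReflMatrix
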