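import Mathlib
import Cfsg.Agent.Helper8.Reflections

set_option autoImplicit false

/-!
A substitute for the spinor norm over a finite field of odd characteristic: the sign of the
permutation induced by an isometry on the vectors of a fixed nonzero norm `c`.  On the reflection
in `z` it is `-1` exactly when `c * Q z` is a square.
-/

namespace Cfsg.Agent.Helper8.SpinorSign

open Module Cfsg.Agent.Helper8.QuadForm Cfsg.Agent.Helper8.WittQuad Cfsg.Agent.Helper8.OrthOrder
  Cfsg.Agent.Helper8.Reflections

/-- the sign of an involution. -/
theorem sign_of_involutive {α : Type*} [Fintype α] [DecidableEq α] (σ : Equiv.Perm α)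
    (hσ : σ * σ = 1) :
    Equiv.Perm.sign σ = (-1) ^ (σ.support.card / 2) ∧ Even σ.support.card := by
  by_cases h1 : σ = 1
  · subst h1
    simp
  · have hord : orderOf σ = 2 := orderOf_eq_prime (by rw [pow_two]; exact hσ) h1
    obtain ⟨n, hn⟩ := Equiv.Perm.cycleType_prime_order (σ := σ) (by rw [hord]; exact Nat.prime_two)
    rw [hord] at hn
    have hsum : σ.support.card = 2 * (n + 1) := by
      rw [← Equiv.Perm.sum_cycleType, hn, Multiset.sum_replicate, smul_eq_mul, mul_comm]
    refine ⟨?_, ?_⟩
    · rw [Equiv.Perm.sign_of_cycleType, hn, Multiset.sum_replicate, Multiset.card_replicate, hsum,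
        smul_eq_mul]
      have e1 : 2 * (n + 1) / 2 = n + 1 := by omega
      rw [e1, pow_add, mul_comm (n + 1) 2, pow_mul]
      simp
    · rw [hsum]
      exact even_two_mul _

variable {F : Type*} [Field F] {V : Type*} [AddCommGroup V] [Module F V]

/-- the action of the isometry group on the vectors of norm `c`. -/
noncomputable def permHom (Q : QuadraticForm F V) (c : F) :
    ↥(Isom Q) →* Equiv.Perm {x : V // Q x = c} where
  toFun g :=
    { toFun := fun x => ⟨g.1 x.1, by rw [g.2 x.1]; exact x.2⟩
      invFun := fun x => ⟨g.1.symm x.1, by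
        have := g.2 (g.1.symm x.1)
        rw [LinearEquiv.apply_symm_apply] at this
        rw [← this]
        exact x.2⟩
      left_inv := fun x => Subtype.ext (g.1.symm_apply_apply x.1)
      right_inv := fun x => Subtype.ext (g.1.apply_symm_apply x.1) }
  map_one' := by
    apply Equiv.ext
    intro x
    rfl
  map_mul' a b := by
    apply Equiv.ext
    intro x
    rfl

theorem permHom_apply (Q : QuadraticForm F V) (c : F) (g : ↥(Isom Q)) (x : {x : V // Q x = c}) :
    (permHom Q c g x : V) = g.1 x.1 := rfl

variable [Fintype F] [FiniteDimensional F V]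

/-- the sign character attached to the norm `c`. -/
noncomputable def signHom (Q : QuadraticForm F V) (c : F) : ↥(Isom Q) →* ℤˣ :=
  haveI : Finite V := Module.finite_of_finite F
  (@Equiv.Perm.sign {x : V // Q x = c} (Classical.decEq _) (Fintype.ofFinite _)).comp (permHom Q c)

/-- minus the identity as an isometry. -/
def negIsom (Q : QuadraticForm F V) : ↥(Isom Q) :=
  ⟨LinearEquiv.neg F, fun v => by rw [LinearEquiv.neg_apply, QuadraticMap.map_neg]⟩

theorem signHom_refl (h2 : (2 : F) ≠ 0) (Q : QuadraticForm F V) {c : F} (hc : c ≠ 0) {z : V}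
    (hz : Q z ≠ 0) :
    (IsSquare (c * Q z) → signHom Q c ⟨refl Q z, refl_mem Q z⟩ = -1) ∧
    (¬ IsSquare (c * Q z) → signHom Q c ⟨refl Q z, refl_mem Q z⟩ = 1) := by
  classical
  haveI : Finite V := Module.finite_of_finite F
  letI : Fintype {x : V // Q x = c} := Fintype.ofFinite _
  have hsign : ∀ g : ↥(Isom Q), signHom Q c g = Equiv.Perm.sign (permHom Q c g) := by
    intro g
    unfold signHom
    rw [MonoidHom.comp_apply]
    congr!
  -- `refl z = (-1) * (-refl z)`
  obtain ⟨m, hm⟩ : ∃ m : ↥(Isom Q), m = negIsom Q * ⟨refl Q z, refl_mem Q z⟩ := ⟨_, rfl⟩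
  have hnegsq : negIsom Q * negIsom Q = 1 := by
    apply Subtype.ext
    apply LinearEquiv.ext
    intro x
    show -(-x) = x
    exact neg_neg x
  have hm_apply : ∀ x, m.1 x = -(refl Q z x) := by
    intro x
    rw [hm]
    rfl
  have hmsq : m * m = 1 := by
    apply Subtype.ext
    apply LinearEquiv.ext
    intro x
    show m.1 (m.1 x) = x
    rw [hm_apply, hm_apply, map_neg, refl_refl, neg_neg]
  have hrefl : (⟨refl Q z, refl_mem Q z⟩ : ↥(Isom Q)) = negIsom Q * m := by
    rw [hm, ← mul_assoc, hnegsq, one_mul]
  rw [hrefl, map_mul, hsign, hsign]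
  have hσ1 : permHom Q c (negIsom Q) * permHom Q c (negIsom Q) = 1 := by
    rw [← map_mul, hnegsq, map_one]
  have hσ2 : permHom Q c m * permHom Q c m = 1 := by
    rw [← map_mul, hmsq, map_one]
  obtain ⟨hs1, -⟩ := sign_of_involutive _ hσ1
  obtain ⟨hs2, -⟩ := sign_of_involutive _ hσ2
  -- the support of `-1` is everything
  have hsupp1 : (permHom Q c (negIsom Q)).support = Finset.univ := by
    rw [Finset.eq_univ_iff_forall]
    intro x
    rw [Equiv.Perm.mem_support]
    intro h
    have h3 : (permHom Q c (negIsom Q) x : V) = x.1 := congrArg Subtype.val h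
    rw [permHom_apply] at h3
    change -x.1 = x.1 at h3
    have h4 : (2 : F) • x.1 = 0 := by
      rw [two_smul]
      nth_rewrite 1 [← h3]
      exact neg_add_cancel _
    rcases smul_eq_zero.mp h4 with h | h
    · exact h2 h
    · have := x.2
      rw [h, map_zero] at this
      exact hc this.symm
  -- fixed points of `-refl z` are the multiples of `z`
  have hfix : ∀ x : {x : V // Q x = c}, permHom Q c m x = x ↔
      ∃ t : F, t * t * Q z = c ∧ x.1 = t • z := by
    intro x
    constructor
    · intro h
      have h3 : (permHom Q c m x : V) = x.1 := congrArg Subtype.val h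
      rw [permHom_apply, hm_apply, refl_apply] at h3
      obtain ⟨a, ha⟩ : ∃ a : F, a = QuadraticMap.polar Q z x.1 / Q z := ⟨_, rfl⟩
      rw [← ha] at h3
      have h4 : (2 : F) • x.1 = a • z := by
        rw [two_smul]
        nth_rewrite 1 [← h3]
        abel
      have h5 : x.1 = (a / 2) • z := by
        have := congrArg (fun y => (2 : F)⁻¹ • y) h4
        simp only [smul_smul] at this
        rw [inv_mul_cancel₀ h2, one_smul] at this
        rw [this]
        congr 1
        rw [div_eq_inv_mul]
      refine ⟨a / 2, ?_, h5⟩
      have := x.2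
      rw [h5, QuadraticMap.map_smul, smul_eq_mul] at this
      exact this
    · rintro ⟨t, -, hx⟩
      apply Subtype.ext
      rw [permHom_apply, hm_apply, hx, map_smul, refl_self Q hz, smul_neg, neg_neg]
  refine ⟨fun hsq => ?_, fun hsq => ?_⟩
  · -- exactly two fixed points
    obtain ⟨s, hs⟩ := hsq
    obtain ⟨t, ht⟩ : ∃ t : F, t = s / Q z := ⟨_, rfl⟩
    have htc : t * t * Q z = c := by
      rw [ht]
      field_simp
      linear_combination -hs
    have ht0 : t ≠ 0 := by
      intro h
      rw [h, zero_mul, zero_mul] at htc
      exact hc htc.symm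
    have hz0 : z ≠ 0 := by
      intro h
      rw [h, map_zero] at hz
      exact hz rfl
    have hQt : Q (t • z) = c := by rw [QuadraticMap.map_smul, smul_eq_mul, htc]
    have hQt' : Q ((-t) • z) = c := by
      rw [QuadraticMap.map_smul, smul_eq_mul]
      linear_combination htc
    have hne : (⟨t • z, hQt⟩ : {x : V // Q x = c}) ≠ ⟨(-t) • z, hQt'⟩ := by
      intro h
      have h3 : t • z = (-t) • z := congrArg Subtype.val h
      have h4 : (2 * t) • z = 0 := by
        have : (2 * t) • z = t • z - (-t) • z := by
          rw [neg_smul, sub_neg_eq_add, ← add_smul]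
          congr 1
          ring
        rw [this, h3, sub_self]
      rcases smul_eq_zero.mp h4 with h | h
      · rcases mul_eq_zero.mp h with h | h
        · exact h2 h
        · exact ht0 h
      · exact hz0 h
    have hsupp2 : (permHom Q c m).support
        = Finset.univ \ {⟨t • z, hQt⟩, ⟨(-t) • z, hQt'⟩} := by
      ext x
      rw [Equiv.Perm.mem_support, Finset.mem_sdiff, Finset.mem_insert, Finset.mem_singleton, Ne,
        hfix]
      simp only [Finset.mem_univ, true_and]
      constructor
      · intro h hx
        apply h
        rcases hx with rfl | rfl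
        · exact ⟨t, htc, rfl⟩
        · exact ⟨-t, by linear_combination htc, rfl⟩
      · rintro h ⟨t', ht', hx⟩
        apply h
        have h5 : (t' - t) * (t' + t) = 0 := by
          have : (t' * t' - t * t) * Q z = 0 := by linear_combination ht' - htc
          rcases mul_eq_zero.mp this with h | h
          · linear_combination h
          · exact absurd h hz
        rcases mul_eq_zero.mp h5 with h | h
        · left
          apply Subtype.ext
          rw [hx]
          congr 1
          linear_combination h
        · right
          apply Subtype.ext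
          rw [hx]
          congr 1
          linear_combination h
    have hcard2 : (permHom Q c m).support.card + 2 = Fintype.card {x : V // Q x = c} := by
      rw [hsupp2, Finset.card_sdiff_of_subset (Finset.subset_univ _), Finset.card_univ,
        Finset.card_pair hne]
      have : 2 ≤ Fintype.card {x : V // Q x = c} := by
        rw [← Finset.card_univ, ← Finset.card_pair hne]
        exact Finset.card_le_card (Finset.subset_univ _)
      omega
    obtain ⟨-, heven2⟩ := sign_of_involutive _ hσ2
    rw [hs1, hs2, hsupp1, Finset.card_univ, ← hcard2]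
    obtain ⟨r, hr⟩ := heven2
    rw [hr]
    have e1 : (r + r + 2) / 2 = r + 1 := by omega
    have e2 : (r + r) / 2 = r := by omega
    rw [e1, e2, ← pow_add]
    have e3 : r + 1 + r = 2 * r + 1 := by ring
    rw [e3, pow_succ, pow_mul]
    simp
  · have hsupp2 : (permHom Q c m).support = Finset.univ := by
      rw [Finset.eq_univ_iff_forall]
      intro x
      rw [Equiv.Perm.mem_support, Ne, hfix]
      rintro ⟨t, ht, -⟩
      apply hsq
      refine ⟨t * Q z, ?_⟩
      rw [← ht]
      ring
    rw [hs1, hs2, hsupp1, hsupp2, ← pow_add, ← two_mul, pow_mul]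
    simp

end Cfsg.Agent.Helper8.SpinorSign
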