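import Mathlib
import Cfsg.Agent.Helper8.ReflMatrix
import Cfsg.Agent.Helper8.SpinorSign

set_option autoImplicit false

/-!
The commutator subgroup of the isometry group of a nondegenerate quadratic space of dimension at
least two over a finite field of odd characteristic: it has index four, and it is the common kernel
of two sign characters.
-/

namespace Cfsg.Agent.Helper8.OmegaOdd

open Module Cfsg.Agent.Helper8.QuadForm Cfsg.Agent.Helper8.WittQuad Cfsg.Agent.Helper8.OrthOrder
  Cfsg.Agent.Helper8.Reflections Cfsg.Agent.Helper8.ReflMatrix Cfsg.Agent.Helper8.SpinorSign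

/-! ### abelian groups generated by two involutions -/

theorem card_le_four {A : Type*} [CommGroup A] (α β : A) (hα : α * α = 1) (hβ : β * β = 1)
    (h : Subgroup.closure ({α, β} : Set A) = ⊤) : Nat.card A ≤ 4 := by
  have hα2 : α ^ (2 : ℤ) = 1 := by rw [zpow_two]; exact hα
  have hβ2 : β ^ (2 : ℤ) = 1 := by rw [zpow_two]; exact hβ
  have hsurj : Function.Surjective (fun p : Fin 2 × Fin 2 => α ^ (p.1 : ℕ) * β ^ (p.2 : ℕ)) := by
    intro x
    have hx : x ∈ Subgroup.closure ({α, β} : Set A) := by rw [h]; exact Subgroup.mem_top x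
    obtain ⟨m, n, rfl⟩ := Subgroup.mem_closure_pair.mp hx
    have hm : α ^ m = α ^ (m % 2) := zpow_eq_zpow_emod m hα2
    have hn : β ^ n = β ^ (n % 2) := zpow_eq_zpow_emod n hβ2
    have hm2 : 0 ≤ m % 2 ∧ m % 2 < 2 := ⟨Int.emod_nonneg _ (by norm_num), Int.emod_lt_of_pos _ (by norm_num)⟩
    have hn2 : 0 ≤ n % 2 ∧ n % 2 < 2 := ⟨Int.emod_nonneg _ (by norm_num), Int.emod_lt_of_pos _ (by norm_num)⟩
    refine ⟨(⟨(m % 2).toNat, by omega⟩, ⟨(n % 2).toNat, by omega⟩), ?_⟩
    show α ^ (m % 2).toNat * β ^ (n % 2).toNat = α ^ m * β ^ n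
    rw [hm, hn, ← zpow_natCast, ← zpow_natCast, Int.toNat_of_nonneg hm2.1, Int.toNat_of_nonneg hn2.1]
  have := Nat.card_le_card_of_surjective _ hsurj
  simpa using this

variable {F : Type*} [Field F] {V : Type*} [AddCommGroup V] [Module F V]

/-! ### more on reflections -/

theorem refl_smul (Q : QuadraticForm F V) {t : F} (ht : t ≠ 0) (u : V) :
    refl Q (t • u) = refl Q u := by
  apply LinearEquiv.ext
  intro x
  rw [refl_apply, refl_apply, QuadraticMap.polar_smul_left, QuadraticMap.map_smul, smul_smul,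
    smul_eq_mul, smul_eq_mul]
  by_cases hu : Q u = 0
  · rw [hu]
    simp
  · congr 2
    field_simp

theorem refl_conj (Q : QuadraticForm F V) (k : V ≃ₗ[F] V) (hk : ∀ x, Q (k x) = Q x) (u : V) :
    k * refl Q u * k⁻¹ = refl Q (k u) := by
  apply LinearEquiv.ext
  intro x
  show k (refl Q u (k⁻¹ x)) = refl Q (k u) x
  have hkk : k (k⁻¹ x) = x := by
    show k (k.symm x) = x
    exact k.apply_symm_apply x
  rw [refl_apply, refl_apply, map_sub, map_smul, hkk, hk u]
  congr 3
  rw [← polar_isometry Q k hk u (k⁻¹ x), hkk]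

/-! ### square classes in a finite field -/

theorem isSquare_mul_of_not [Fintype F] {x e : F} (hx0 : x ≠ 0) (hx : ¬ IsSquare x)
    (he : ¬ IsSquare e) : IsSquare (x * e) := by
  classical
  have he0 : e ≠ 0 := by
    rintro rfl
    exact he (IsSquare.zero)
  rw [← quadraticChar_one_iff_isSquare (mul_ne_zero hx0 he0), map_mul,
    quadraticChar_neg_one_iff_not_isSquare.mpr hx, quadraticChar_neg_one_iff_not_isSquare.mpr he]
  norm_num

theorem not_isSquare_mul [Fintype F] {x e : F} (hx0 : x ≠ 0) (hx : IsSquare x)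
    (he : ¬ IsSquare e) : ¬ IsSquare (x * e) := by
  classical
  rw [← quadraticChar_neg_one_iff_not_isSquare, map_mul,
    (quadraticChar_one_iff_isSquare hx0).mpr hx, quadraticChar_neg_one_iff_not_isSquare.mpr he]
  norm_num

theorem exists_nonsquare [Fintype F] (h2 : (2 : F) ≠ 0) : ∃ e : F, ¬ IsSquare e := by
  apply FiniteField.exists_nonsquare
  intro h
  apply h2
  have : ((ringChar F : ℕ) : F) = 0 := ringChar.Nat.cast_ringChar
  rw [h] at this
  exact_mod_cast this

section Main

variable [Fintype F] {ι : Type} [Fintype ι] [DecidableEq ι] (Q : QuadraticForm F (ι → F))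

/-- the sign character of the matrix isometry group attached to the norm `c`. -/
noncomputable def chi (c : F) : ↥(Cfsg.isometryGroup F ⇑Q) →* ℤˣ :=
  (signHom Q c).comp (isomEquiv Q).toMonoidHom

theorem chi_reflElt (h2 : (2 : F) ≠ 0) {c : F} (hc : c ≠ 0) {z : ι → F} (hz : Q z ≠ 0) :
    (IsSquare (c * Q z) → chi Q c (reflElt Q z) = -1) ∧
    (¬ IsSquare (c * Q z) → chi Q c (reflElt Q z) = 1) := by
  have : chi Q c (reflElt Q z) = signHom Q c ⟨refl Q z, refl_mem Q z⟩ := by
    unfold chi
    rw [MonoidHom.comp_apply]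
    congr 1
    exact isomEquiv_reflElt Q z
  rw [this]
  exact signHom_refl h2 Q hc hz

omit [Fintype F] in
/-- reflections in vectors whose norms differ by a square are conjugate. -/
theorem reflElt_conj (hQ : (QuadraticMap.polarBilin Q).Nondegenerate) {z a : ι → F} {t : F}
    (ht : t ≠ 0) (hz : Q z ≠ 0) (h : Q z = t * t * Q a) :
    ∃ g : ↥(Cfsg.isometryGroup F ⇑Q), g * reflElt Q a * g⁻¹ = reflElt Q z := by
  have hQta : Q (t • a) = Q z := by rw [QuadraticMap.map_smul, smul_eq_mul, h]
  have hta0 : t • a ≠ 0 := by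
    intro h0
    rw [h0, map_zero] at hQta
    exact hz hQta.symm
  have hz0 : z ≠ 0 := by
    intro h0
    rw [h0, map_zero] at hz
    exact hz rfl
  obtain ⟨k, hk, -, hkz⟩ := witt_step Q hQ ⊥ (u := t • a) (w := z) hQta
    (by
      intro h hh
      rw [(Submodule.mem_bot F).mp hh, QuadraticMap.polar_zero_right,
        QuadraticMap.polar_zero_right])
    (by rwa [Submodule.mem_bot]) (by rwa [Submodule.mem_bot])
  refine ⟨(isomEquiv Q).symm ⟨k, hk⟩, ?_⟩
  apply (isomEquiv Q).injective
  rw [map_mul, map_mul, map_inv, MulEquiv.apply_symm_apply, isomEquiv_reflElt, isomEquiv_reflElt]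
  apply Subtype.ext
  show k * refl Q a * k⁻¹ = refl Q z
  rw [← refl_smul Q ht a, refl_conj Q k hk, hkz]

/-- **The commutator subgroup of the orthogonal group** in odd characteristic, dimension at least
two: it is the common kernel of the sign characters `chi 1` and `chi e`, `e` a nonsquare, and has
index four. -/
theorem commutator_eq (h2 : (2 : F) ≠ 0) (hQ : (QuadraticMap.polarBilin Q).Nondegenerate)
    (hn : 2 ≤ Fintype.card ι) {e : F} (he : ¬ IsSquare e) :
    (commutator ↥(Cfsg.isometryGroup F ⇑Q)).index = 4 ∧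
    ∀ g : ↥(Cfsg.isometryGroup F ⇑Q), g ∈ commutator ↥(Cfsg.isometryGroup F ⇑Q) ↔
      (chi Q 1 g = 1 ∧ chi Q e g = 1) := by
  classical
  have hnd := (nondeg_iff Q).mp hQ
  have hdim : 2 ≤ finrank F (ι → F) := by rw [Module.finrank_fintype_fun_eq_card]; exact hn
  have he0 : e ≠ 0 := by
    rintro rfl
    exact he IsSquare.zero
  obtain ⟨a, ha⟩ := exists_repr Q hnd hdim 1
  obtain ⟨b, hb⟩ := exists_repr Q hnd hdim e
  have ha0 : Q a ≠ 0 := by rw [ha]; exact one_ne_zero
  have hb0 : Q b ≠ 0 := by rw [hb]; exact he0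
  -- values of the two characters on the two reflections
  have h1a : chi Q 1 (reflElt Q a) = -1 := (chi_reflElt Q h2 one_ne_zero ha0).1 (by
    rw [ha, one_mul]; exact IsSquare.one)
  have h1b : chi Q 1 (reflElt Q b) = 1 := (chi_reflElt Q h2 one_ne_zero hb0).2 (by
    rw [hb, one_mul]; exact he)
  have hea : chi Q e (reflElt Q a) = 1 := (chi_reflElt Q h2 he0 ha0).2 (by
    rw [ha, mul_one]; exact he)
  have heb : chi Q e (reflElt Q b) = -1 := (chi_reflElt Q h2 he0 hb0).1 (by
    rw [hb]; exact ⟨e, rfl⟩)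
  -- the homomorphism to the four-group
  obtain ⟨φ, hφ⟩ : ∃ φ : ↥(Cfsg.isometryGroup F ⇑Q) →* ℤˣ × ℤˣ, φ = (chi Q 1).prod (chi Q e) :=
    ⟨_, rfl⟩
  have hφsurj : Function.Surjective φ := by
    have hvals : ∀ p : ℤˣ × ℤˣ, p = (1, 1) ∨ p = (-1, 1) ∨ p = (1, -1) ∨ p = (-1, -1) := by decide
    intro p
    rcases hvals p with rfl | rfl | rfl | rfl
    · exact ⟨1, map_one φ⟩
    · refine ⟨reflElt Q a, ?_⟩
      rw [hφ, MonoidHom.prod_apply, h1a, hea]
    · refine ⟨reflElt Q b, ?_⟩
      rw [hφ, MonoidHom.prod_apply, h1b, heb]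
    · refine ⟨reflElt Q a * reflElt Q b, ?_⟩
      rw [hφ, MonoidHom.prod_apply, map_mul, map_mul, h1a, hea, h1b, heb]
      rfl
  have hker_index : φ.ker.index = 4 := by
    rw [Subgroup.index_ker, MonoidHom.range_eq_top.mpr hφsurj, Nat.card_congr Subgroup.topEquiv.toEquiv,
      Nat.card_eq_fintype_card]
    rfl
  have hle : commutator ↥(Cfsg.isometryGroup F ⇑Q) ≤ φ.ker := Abelianization.commutator_subset_ker φ
  -- the abelianization is generated by two involutions
  have hcard : Nat.card (Abelianization ↥(Cfsg.isometryGroup F ⇑Q)) ≤ 4 := by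
    apply card_le_four (Abelianization.of (reflElt Q a)) (Abelianization.of (reflElt Q b))
    · rw [← map_mul, reflElt_mul_self, map_one]
    · rw [← map_mul, reflElt_mul_self, map_one]
    · rw [eq_top_iff]
      have h3 : (⊤ : Subgroup (Abelianization ↥(Cfsg.isometryGroup F ⇑Q)))
          = (Subgroup.closure {g : ↥(Cfsg.isometryGroup F ⇑Q) | ∃ z, Q z ≠ 0 ∧ g = reflElt Q z}).map
            Abelianization.of := by
        rw [closure_reflElt Q h2 hQ, ← MonoidHom.range_eq_map]
        symm
        rw [MonoidHom.range_eq_top]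
        exact QuotientGroup.mk_surjective
      rw [h3, MonoidHom.map_closure]
      apply Subgroup.closure_mono
      rintro _ ⟨g, ⟨z, hz, rfl⟩, rfl⟩
      by_cases hsq : IsSquare (Q z)
      · obtain ⟨t, ht⟩ := hsq
        have ht0 : t ≠ 0 := by
          rintro rfl
          rw [mul_zero] at ht
          exact hz ht
        obtain ⟨g, hg⟩ := reflElt_conj Q hQ (z := z) (a := a) ht0 hz (by rw [ha, mul_one, ht])
        left
        rw [← hg, map_mul, map_mul, map_inv, mul_comm, ← mul_assoc, inv_mul_cancel, one_mul]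
      · obtain ⟨t, ht⟩ := isSquare_mul_of_not hz hsq he
        have ht0 : t ≠ 0 := by
          rintro rfl
          rw [mul_zero] at ht
          exact (mul_ne_zero hz he0) ht
        obtain ⟨g, hg⟩ := reflElt_conj Q hQ (z := z) (a := b) (t := t / e) (div_ne_zero ht0 he0) hz
          (by
            rw [hb]
            have e1 : t / e * (t / e) * e = t * t / e := by field_simp
            rw [e1, ← ht]
            field_simp)
        right
        rw [Set.mem_singleton_iff, ← hg, map_mul, map_mul, map_inv, mul_comm, ← mul_assoc,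
          inv_mul_cancel, one_mul]
  have hindex : (commutator ↥(Cfsg.isometryGroup F ⇑Q)).index = 4 := by
    have h3 : (commutator ↥(Cfsg.isometryGroup F ⇑Q)).index ≤ 4 := hcard
    have h4 : 4 ∣ (commutator ↥(Cfsg.isometryGroup F ⇑Q)).index := by
      rw [← hker_index]
      exact Subgroup.index_dvd_of_le hle
    have h5 : (commutator ↥(Cfsg.isometryGroup F ⇑Q)).index ≠ 0 := Subgroup.index_ne_zero_of_finite
    obtain ⟨r, hr⟩ := h4
    omega
  refine ⟨hindex, ?_⟩
  have heq : commutator ↥(Cfsg.isometryGroup F ⇑Q) = φ.ker := by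
    apply Subgroup.eq_of_le_of_card_ge hle
    have h6 := Subgroup.card_mul_index (commutator ↥(Cfsg.isometryGroup F ⇑Q))
    have h7 := Subgroup.card_mul_index φ.ker
    rw [hindex] at h6
    rw [hker_index] at h7
    omega
  intro g
  rw [heq, MonoidHom.mem_ker, hφ, MonoidHom.prod_apply, Prod.mk_eq_one]

end Main

end Cfsg.Agent.Helper8.OmegaOdd
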