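import Mathlib
import Cfsg.Prelude.Def_Classical
import Cfsg.Agent.Helper8.QuadForm

set_option autoImplicit false

/-!
The standard quadratic forms `quadFormOdd`, `quadFormPlus`, `quadFormMinus` as `QuadraticForm`s,
with nondegeneracy of their polar forms.
-/

namespace Cfsg.Agent.Helper8.StdForms

open Module Cfsg Cfsg.Agent.Helper8.QuadForm

variable (F : Type*) [Field F] (m : ℕ)

/-- `x₀² + Σ x_i y_i` as a quadratic form. -/
noncomputable def oddForm : QuadraticForm F (Unit ⊕ (Fin m ⊕ Fin m) → F) :=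
  QuadraticMap.proj (R := F) (A := F) (Sum.inl ()) (Sum.inl ())
    + ∑ i : Fin m, QuadraticMap.proj (R := F) (A := F) (Sum.inr (Sum.inl i)) (Sum.inr (Sum.inr i))

theorem oddForm_apply (v : Unit ⊕ (Fin m ⊕ Fin m) → F) : oddForm F m v = quadFormOdd m F v := by
  unfold oddForm quadFormOdd
  rw [QuadraticMap.add_apply, QuadraticMap.sum_apply, QuadraticMap.proj_apply, sq]
  rfl

/-- `Σ x_i y_i` as a quadratic form. -/
noncomputable def plusForm : QuadraticForm F (Fin m ⊕ Fin m → F) :=
  ∑ i : Fin m, QuadraticMap.proj (R := F) (A := F) (Sum.inl i) (Sum.inr i)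

theorem plusForm_apply (v : Fin m ⊕ Fin m → F) : plusForm F m v = quadFormPlus m F v := by
  unfold plusForm quadFormPlus
  rw [QuadraticMap.sum_apply]
  rfl

/-- `Σ x_i y_i + z₁² + a z₁ z₂ + b z₂²` as a quadratic form. -/
noncomputable def minusForm (a b : F) : QuadraticForm F ((Fin m ⊕ Fin m) ⊕ Fin 2 → F) :=
  (∑ i : Fin m, QuadraticMap.proj (R := F) (A := F) (Sum.inl (Sum.inl i)) (Sum.inl (Sum.inr i)))
    + (QuadraticMap.proj (R := F) (A := F) (Sum.inr 0) (Sum.inr 0)
      + a • QuadraticMap.proj (R := F) (A := F) (Sum.inr 0) (Sum.inr 1)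
      + b • QuadraticMap.proj (R := F) (A := F) (Sum.inr 1) (Sum.inr 1))

theorem minusForm_apply (a b : F) (v : (Fin m ⊕ Fin m) ⊕ Fin 2 → F) :
    minusForm F m a b v = quadFormMinus m F a b v := by
  unfold minusForm quadFormMinus
  rw [QuadraticMap.add_apply, QuadraticMap.add_apply, QuadraticMap.add_apply,
    QuadraticMap.sum_apply, QuadraticMap.smul_apply, QuadraticMap.smul_apply,
    QuadraticMap.proj_apply, QuadraticMap.proj_apply, QuadraticMap.proj_apply, smul_eq_mul,
    smul_eq_mul]
  simp only [QuadraticMap.proj_apply]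
  ring

/-! ### polar forms -/

theorem polar_oddForm (u v : Unit ⊕ (Fin m ⊕ Fin m) → F) :
    QuadraticMap.polar (oddForm F m) u v = 2 * u (Sum.inl ()) * v (Sum.inl ())
      + (∑ i : Fin m, u (Sum.inr (Sum.inl i)) * v (Sum.inr (Sum.inr i))
        + ∑ i : Fin m, v (Sum.inr (Sum.inl i)) * u (Sum.inr (Sum.inr i))) := by
  simp only [QuadraticMap.polar]
  rw [oddForm_apply, oddForm_apply, oddForm_apply]
  unfold quadFormOdd
  simp only [Pi.add_apply, mul_add, add_mul, Finset.sum_add_distrib]
  ring

theorem polar_plusForm (u v : Fin m ⊕ Fin m → F) :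
    QuadraticMap.polar (plusForm F m) u v =
      ∑ i : Fin m, u (Sum.inl i) * v (Sum.inr i) + ∑ i : Fin m, v (Sum.inl i) * u (Sum.inr i) := by
  simp only [QuadraticMap.polar]
  rw [plusForm_apply, plusForm_apply, plusForm_apply]
  unfold quadFormPlus
  simp only [Pi.add_apply, mul_add, add_mul, Finset.sum_add_distrib]
  ring

theorem polar_minusForm (a b : F) (u v : (Fin m ⊕ Fin m) ⊕ Fin 2 → F) :
    QuadraticMap.polar (minusForm F m a b) u v =
      (∑ i : Fin m, u (Sum.inl (Sum.inl i)) * v (Sum.inl (Sum.inr i))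
        + ∑ i : Fin m, v (Sum.inl (Sum.inl i)) * u (Sum.inl (Sum.inr i)))
      + (2 * u (Sum.inr 0) * v (Sum.inr 0)
        + a * (u (Sum.inr 0) * v (Sum.inr 1) + v (Sum.inr 0) * u (Sum.inr 1))
        + 2 * b * u (Sum.inr 1) * v (Sum.inr 1)) := by
  simp only [QuadraticMap.polar]
  rw [minusForm_apply, minusForm_apply, minusForm_apply]
  unfold quadFormMinus
  simp only [Pi.add_apply, mul_add, add_mul, Finset.sum_add_distrib]
  ring

/-! ### nondegeneracy -/

theorem oddForm_nondeg (h2 : (2 : F) ≠ 0) :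
    (QuadraticMap.polarBilin (oddForm F m)).Nondegenerate := by
  classical
  rw [nondeg_iff]
  intro v hv
  funext k
  rcases k with k | k | k
  · have := hv (Pi.single (Sum.inl ()) 1)
    rw [polar_oddForm] at this
    simp only [Pi.single_apply, reduceCtorEq, if_false, mul_zero, zero_mul, Finset.sum_const_zero,
      add_zero, if_true, mul_one] at this
    rcases mul_eq_zero.mp this with h | h
    · exact absurd h h2
    · exact h
  · have := hv (Pi.single (Sum.inr (Sum.inr k)) 1)
    rw [polar_oddForm] at this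
    simpa [Pi.single_apply] using this
  · have := hv (Pi.single (Sum.inr (Sum.inl k)) 1)
    rw [polar_oddForm] at this
    simpa [Pi.single_apply] using this

theorem plusForm_nondeg : (QuadraticMap.polarBilin (plusForm F m)).Nondegenerate := by
  classical
  rw [nondeg_iff]
  intro v hv
  funext k
  rcases k with k | k
  · have := hv (Pi.single (Sum.inr k) 1)
    rw [polar_plusForm] at this
    simpa [Pi.single_apply] using this
  · have := hv (Pi.single (Sum.inl k) 1)
    rw [polar_plusForm] at this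
    simpa [Pi.single_apply] using this

/-- an anisotropic binary form `z₁² + a z₁ z₂ + b z₂²` over a finite field has nondegenerate
polar form: `2 z₁ + a z₂ = 0 = a z₁ + 2 b z₂` forces `z = 0`. -/
theorem aniso_polar [Finite F] {a b : F}
    (hab : ∀ z₁ z₂ : F, z₁ ^ 2 + a * z₁ * z₂ + b * z₂ ^ 2 = 0 → z₁ = 0 ∧ z₂ = 0) {z₁ z₂ : F}
    (h1 : 2 * z₁ + a * z₂ = 0) (h2 : a * z₁ + 2 * b * z₂ = 0) : z₁ = 0 ∧ z₂ = 0 := by
  by_cases h : (2 : F) = 0
  · have ha : a ≠ 0 := by
      intro ha
      haveI : CharP F 2 := by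
        refine CharTwo.of_one_ne_zero_of_two_eq_zero one_ne_zero h
      obtain ⟨c, hc⟩ := FiniteField.isSquare_of_char_two (F := F) (by
        exact ringChar.eq F 2) b
      have := (hab c 1 (by rw [ha, hc]; linear_combination c * c * h)).2
      exact one_ne_zero this
    rw [h, zero_mul, zero_add] at h1
    rw [h, zero_mul, zero_mul, add_zero] at h2
    exact ⟨(mul_eq_zero.mp h2).resolve_left ha, (mul_eq_zero.mp h1).resolve_left ha⟩
  · apply hab
    have : 2 * (z₁ ^ 2 + a * z₁ * z₂ + b * z₂ ^ 2) = 0 := by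
      linear_combination z₁ * h1 + z₂ * h2
    exact (mul_eq_zero.mp this).resolve_left h

theorem minusForm_nondeg [Finite F] {a b : F}
    (hab : ∀ z₁ z₂ : F, z₁ ^ 2 + a * z₁ * z₂ + b * z₂ ^ 2 = 0 → z₁ = 0 ∧ z₂ = 0) :
    (QuadraticMap.polarBilin (minusForm F m a b)).Nondegenerate := by
  classical
  rw [nondeg_iff]
  intro v hv
  have h0 : v (Sum.inr 0) = 0 ∧ v (Sum.inr 1) = 0 := by
    apply aniso_polar F hab
    · have := hv (Pi.single (Sum.inr 0) 1)
      rw [polar_minusForm] at this
      simp [Pi.single_apply] at this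
      linear_combination this
    · have := hv (Pi.single (Sum.inr 1) 1)
      rw [polar_minusForm] at this
      simp [Pi.single_apply] at this
      linear_combination this
  funext k
  rcases k with (k | k) | k
  · have := hv (Pi.single (Sum.inl (Sum.inr k)) 1)
    rw [polar_minusForm] at this
    simpa [Pi.single_apply] using this
  · have := hv (Pi.single (Sum.inl (Sum.inl k)) 1)
    rw [polar_minusForm] at this
    simpa [Pi.single_apply] using this
  · fin_cases k
    · exact h0.1
    · exact h0.2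

/-! ### dimensions -/

theorem finrank_odd : finrank F (Unit ⊕ (Fin m ⊕ Fin m) → F) = 2 * m + 1 := by
  rw [Module.finrank_fintype_fun_eq_card]
  simp only [Fintype.card_sum, Fintype.card_unique, Fintype.card_fin]
  ring

theorem finrank_plus : finrank F (Fin m ⊕ Fin m → F) = 2 * m := by
  rw [Module.finrank_fintype_fun_eq_card]
  simp only [Fintype.card_sum, Fintype.card_fin]
  ring

theorem finrank_minus : finrank F ((Fin m ⊕ Fin m) ⊕ Fin 2 → F) = 2 * m + 2 := by
  rw [Module.finrank_fintype_fun_eq_card]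
  simp only [Fintype.card_sum, Fintype.card_fin]
  ring

end Cfsg.Agent.Helper8.StdForms
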