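import Mathlib
import Cfsg.Agent.Helper8.StdForms
import Cfsg.Agent.Helper8.ReflMatrix

set_option autoImplicit false

/-!
The action of `SL₂(F)` by conjugation on the trace-zero `2 × 2` matrices, in the coordinates of the
quadratic form `x² + y z = - det`.
-/

namespace Cfsg.Agent.Helper8.SL2Orth

open Matrix Cfsg Cfsg.Agent.Helper8.StdForms Cfsg.Agent.Helper8.OrthOrder
  Cfsg.Agent.Helper8.ReflMatrix

variable {F : Type*} [Field F]

/-- the index type of the three-dimensional space. -/
abbrev I3 := Unit ⊕ (Fin 1 ⊕ Fin 1)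

/-- coordinates to trace-zero matrices. -/
def toMat : (I3 → F) →ₗ[F] Matrix (Fin 2) (Fin 2) F where
  toFun v := !![v (.inl ()), v (.inr (.inl 0)); v (.inr (.inr 0)), -v (.inl ())]
  map_add' u v := by
    ext i j
    fin_cases i <;> fin_cases j <;> simp [add_comm]
  map_smul' c v := by
    ext i j
    fin_cases i <;> fin_cases j <;> simp

theorem toMat_apply (v : I3 → F) :
    toMat v = !![v (.inl ()), v (.inr (.inl 0)); v (.inr (.inr 0)), -v (.inl ())] := rfl

/-- matrices to coordinates. -/
def fromMat : Matrix (Fin 2) (Fin 2) F →ₗ[F] (I3 → F) where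
  toFun N := Sum.elim (fun _ => N 0 0) (Sum.elim (fun _ => N 0 1) (fun _ => N 1 0))
  map_add' M N := by
    funext i
    rcases i with _ | _ | _ <;> simp
  map_smul' c N := by
    funext i
    rcases i with _ | _ | _ <;> simp

theorem fromMat_toMat (v : I3 → F) : fromMat (toMat v) = v := by
  funext i
  rcases i with ⟨⟩ | i | i
  · rfl
  · have : i = 0 := Subsingleton.elim _ _
    subst this; rfl
  · have : i = 0 := Subsingleton.elim _ _
    subst this; rfl

theorem toMat_injective : Function.Injective (toMat (F := F)) := by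
  intro u v h
  rw [← fromMat_toMat u, h, fromMat_toMat]

theorem toMat_fromMat {N : Matrix (Fin 2) (Fin 2) F} (h : N.trace = 0) : toMat (fromMat N) = N := by
  rw [Matrix.trace_fin_two] at h
  ext i j
  fin_cases i <;> fin_cases j
  · rfl
  · rfl
  · rfl
  · show -N 0 0 = N 1 1
    linear_combination -h

theorem coe_mul_inv (g : SpecialLinearGroup (Fin 2) F) :
    (g : Matrix (Fin 2) (Fin 2) F) * ((g⁻¹ : SpecialLinearGroup (Fin 2) F) : Matrix (Fin 2) (Fin 2) F)
      = 1 := by
  rw [← Matrix.SpecialLinearGroup.coe_mul, mul_inv_cancel, Matrix.SpecialLinearGroup.coe_one]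

theorem coe_inv_mul (g : SpecialLinearGroup (Fin 2) F) :
    ((g⁻¹ : SpecialLinearGroup (Fin 2) F) : Matrix (Fin 2) (Fin 2) F) * (g : Matrix (Fin 2) (Fin 2) F)
      = 1 := by
  rw [← Matrix.SpecialLinearGroup.coe_mul, inv_mul_cancel, Matrix.SpecialLinearGroup.coe_one]

/-- conjugation. -/
def conj (g : SpecialLinearGroup (Fin 2) F) (N : Matrix (Fin 2) (Fin 2) F) :
    Matrix (Fin 2) (Fin 2) F :=
  (g : Matrix (Fin 2) (Fin 2) F) * N * ((g⁻¹ : SpecialLinearGroup (Fin 2) F) : Matrix (Fin 2) (Fin 2) F)

theorem trace_conj (g : SpecialLinearGroup (Fin 2) F) (N : Matrix (Fin 2) (Fin 2) F) :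
    (conj g N).trace = N.trace := by
  unfold conj
  rw [Matrix.trace_mul_cycle, coe_inv_mul, Matrix.one_mul]

theorem det_conj (g : SpecialLinearGroup (Fin 2) F) (N : Matrix (Fin 2) (Fin 2) F) :
    (conj g N).det = N.det := by
  unfold conj
  rw [Matrix.det_mul, Matrix.det_mul, Matrix.SpecialLinearGroup.det_coe, Matrix.SpecialLinearGroup.det_coe,
    one_mul, mul_one]

theorem conj_mul (g h : SpecialLinearGroup (Fin 2) F) (N : Matrix (Fin 2) (Fin 2) F) :
    conj (g * h) N = conj g (conj h N) := by
  unfold conj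
  rw [_root_.mul_inv_rev, Matrix.SpecialLinearGroup.coe_mul, Matrix.SpecialLinearGroup.coe_mul]
  simp only [Matrix.mul_assoc]

theorem conj_one (N : Matrix (Fin 2) (Fin 2) F) : conj 1 N = N := by
  unfold conj
  rw [inv_one, Matrix.SpecialLinearGroup.coe_one, Matrix.one_mul, Matrix.mul_one]

theorem trace_toMat (v : I3 → F) : (toMat v).trace = 0 := by
  rw [Matrix.trace_fin_two, toMat_apply]
  simp

/-- the action on coordinates. -/
def L (g : SpecialLinearGroup (Fin 2) F) : (I3 → F) →ₗ[F] (I3 → F) where
  toFun v := fromMat (conj g (toMat v))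
  map_add' u v := by
    unfold conj
    rw [map_add, Matrix.mul_add, Matrix.add_mul, map_add]
  map_smul' c v := by
    unfold conj
    rw [map_smul, Matrix.mul_smul, Matrix.smul_mul, map_smul]
    rfl

theorem L_apply (g : SpecialLinearGroup (Fin 2) F) (v : I3 → F) :
    L g v = fromMat (conj g (toMat v)) := rfl

theorem toMat_L (g : SpecialLinearGroup (Fin 2) F) (v : I3 → F) :
    toMat (L g v) = conj g (toMat v) := by
  rw [L_apply, toMat_fromMat]
  rw [trace_conj, trace_toMat]

theorem L_mul (g h : SpecialLinearGroup (Fin 2) F) (v : I3 → F) : L (g * h) v = L g (L h v) := by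
  apply toMat_injective
  rw [toMat_L, toMat_L, toMat_L, conj_mul]

theorem L_one (v : I3 → F) : L (1 : SpecialLinearGroup (Fin 2) F) v = v := by
  apply toMat_injective
  rw [toMat_L, conj_one]

theorem quadFormOdd_eq (v : I3 → F) : Cfsg.quadFormOdd 1 F v = -(toMat v).det := by
  unfold Cfsg.quadFormOdd
  rw [Matrix.det_fin_two, toMat_apply]
  simp
  ring

theorem quadFormOdd_L (g : SpecialLinearGroup (Fin 2) F) (v : I3 → F) :
    Cfsg.quadFormOdd 1 F (L g v) = Cfsg.quadFormOdd 1 F v := by
  rw [quadFormOdd_eq, quadFormOdd_eq, toMat_L, det_conj]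

/-- the action as a linear equivalence. -/
def Lequiv (g : SpecialLinearGroup (Fin 2) F) : (I3 → F) ≃ₗ[F] (I3 → F) :=
  LinearEquiv.ofLinear (L g) (L g⁻¹)
    (LinearMap.ext fun v => by
      rw [LinearMap.comp_apply, ← L_mul, mul_inv_cancel, L_one]
      rfl)
    (LinearMap.ext fun v => by
      rw [LinearMap.comp_apply, ← L_mul, inv_mul_cancel, L_one]
      rfl)

theorem Lequiv_apply (g : SpecialLinearGroup (Fin 2) F) (v : I3 → F) : Lequiv g v = L g v := rfl

/-- the homomorphism to the isometries of the form `x² + yz`. -/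
noncomputable def rhoIsom : SpecialLinearGroup (Fin 2) F →* ↥(Isom (oddForm F 1)) where
  toFun g := ⟨Lequiv g, fun v => by
    rw [Lequiv_apply, oddForm_apply, oddForm_apply, quadFormOdd_L]⟩
  map_one' := by
    apply Subtype.ext
    apply LinearEquiv.ext
    intro v
    exact L_one v
  map_mul' g h := by
    apply Subtype.ext
    apply LinearEquiv.ext
    intro v
    exact L_mul g h v

theorem rhoIsom_apply (g : SpecialLinearGroup (Fin 2) F) (v : I3 → F) :
    (rhoIsom g).1 v = L g v := rfl

/-- the homomorphism to the matrix isometry group. -/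
noncomputable def rho : SpecialLinearGroup (Fin 2) F →* ↥(Cfsg.isometryGroup F ⇑(oddForm F 1)) :=
  (isomEquiv (oddForm F 1)).symm.toMonoidHom.comp rhoIsom

theorem isomEquiv_rho (g : SpecialLinearGroup (Fin 2) F) :
    isomEquiv (oddForm F 1) (rho g) = rhoIsom g := by
  unfold rho
  rw [MonoidHom.comp_apply]
  exact MulEquiv.apply_symm_apply _ _

/-- the kernel is the centre. -/
theorem ker_rho : (rho (F := F)).ker = Subgroup.center (SpecialLinearGroup (Fin 2) F) := by
  ext g
  rw [MonoidHom.mem_ker]
  have h1 : rho g = 1 ↔ ∀ v : I3 → F, L g v = v := by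
    constructor
    · intro h v
      have := isomEquiv_rho g
      rw [h, map_one] at this
      rw [← rhoIsom_apply, ← this]
      rfl
    · intro h
      apply (isomEquiv (oddForm F 1)).injective
      rw [isomEquiv_rho, map_one]
      apply Subtype.ext
      apply LinearEquiv.ext
      intro v
      exact h v
  rw [h1]
  constructor
  · intro h
    -- `g` commutes with the two nilpotent matrices
    have hE := h (Pi.single (Sum.inr (Sum.inl 0)) 1)
    have hF := h (Pi.single (Sum.inr (Sum.inr 0)) 1)
    have hE' := congrArg toMat hE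
    have hF' := congrArg toMat hF
    rw [toMat_L] at hE' hF'
    have hE'' : (g : Matrix (Fin 2) (Fin 2) F) * toMat (Pi.single (Sum.inr (Sum.inl 0)) 1)
        = toMat (Pi.single (Sum.inr (Sum.inl 0)) 1) * (g : Matrix (Fin 2) (Fin 2) F) := by
      nth_rewrite 2 [← hE']
      unfold conj
      rw [Matrix.mul_assoc, coe_inv_mul, Matrix.mul_one]
    have hF'' : (g : Matrix (Fin 2) (Fin 2) F) * toMat (Pi.single (Sum.inr (Sum.inr 0)) 1)
        = toMat (Pi.single (Sum.inr (Sum.inr 0)) 1) * (g : Matrix (Fin 2) (Fin 2) F) := by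
      nth_rewrite 2 [← hF']
      unfold conj
      rw [Matrix.mul_assoc, coe_inv_mul, Matrix.mul_one]
    have e10 := congrFun (congrFun hE'' 1) 1
    have e00 := congrFun (congrFun hE'' 0) 1
    have e01 := congrFun (congrFun hF'' 0) 0
    simp [toMat_apply, Matrix.mul_apply, Fin.sum_univ_two] at e10 e00 e01
    have hdet := g.det_coe
    rw [Matrix.det_fin_two] at hdet
    rw [Matrix.SpecialLinearGroup.mem_center_iff]
    refine ⟨g 0 0, ?_, ?_⟩
    · rw [Fintype.card_fin, pow_two]
      rw [← e00, e10, e01] at hdet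
      linear_combination hdet
    · ext i j
      fin_cases i <;> fin_cases j
      · simp
      · simp [e01]
      · simp [e10]
      · simp [e00]
  · intro h v
    rw [Matrix.SpecialLinearGroup.mem_center_iff] at h
    obtain ⟨r, -, hr⟩ := h
    apply toMat_injective
    rw [toMat_L]
    unfold conj
    have hg : (g : Matrix (Fin 2) (Fin 2) F) = r • (1 : Matrix (Fin 2) (Fin 2) F) := by
      rw [← hr]
      ext i j
      simp [Matrix.scalar_apply, Matrix.diagonal_apply, Matrix.one_apply]
    have hcomm : (g : Matrix (Fin 2) (Fin 2) F) * toMat v = toMat v * (g : Matrix (Fin 2) (Fin 2) F) := by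
      rw [hg, Matrix.smul_mul, Matrix.mul_smul, Matrix.one_mul, Matrix.mul_one]
    rw [hcomm, Matrix.mul_assoc, coe_mul_inv, Matrix.mul_one]

end Cfsg.Agent.Helper8.SL2Orth
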