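import Mathlib
import Cfsg.Agent.Helper8.SL2Orth
import Cfsg.Agent.Helper8.OmegaOdd
import Cfsg.Agent.Helper7.SL2Sylow

set_option autoImplicit false

/-!
Homomorphisms from `SL₂(F)` to the group of signs are trivial in odd characteristic; the image of
`SL₂(F)` in the orthogonal group of `x² + yz` lies in the commutator subgroup; the centre of
`PSL₂(F)` is trivial.
-/

namespace Cfsg.Agent.Helper8.SL2Omega

open Matrix Cfsg Cfsg.Agent.Helper8.StdForms Cfsg.Agent.Helper8.OrthOrder
  Cfsg.Agent.Helper8.ReflMatrix Cfsg.Agent.Helper8.SL2Orth Cfsg.Agent.Helper7.SL2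

variable {F : Type*} [Field F]

theorem up_add (s t : F) : up (s + t) = up s * up t := by
  apply ext' <;> simp only [coe_mul_apply, up_00, up_01, up_10, up_11] <;> ring

theorem lo_add (s t : F) : lo (s + t) = lo s * lo t := by
  apply ext' <;> simp only [coe_mul_apply, lo_00, lo_01, lo_10, lo_11] <;> ring

/-- every homomorphism from `SL₂(F)` to the signs is trivial when `2 ≠ 0`. -/
theorem hom_eq_one (h2 : (2 : F) ≠ 0) (ψ : SpecialLinearGroup (Fin 2) F →* ℤˣ)
    (g : SpecialLinearGroup (Fin 2) F) : ψ g = 1 := by
  refine Cfsg.Agent.Helper7.Transv.transvection_induction (fun M => ψ M = 1) ?_ ?_ g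
  · intro i j hij x
    have hx : x = x / 2 + x / 2 := by field_simp; ring
    fin_cases i <;> fin_cases j
    · exact absurd rfl hij
    · show ψ _ = 1
      rw [transvection_01, hx, up_add, map_mul, Int.units_mul_self]
    · show ψ _ = 1
      rw [transvection_10, hx, lo_add, map_mul, Int.units_mul_self]
    · exact absurd rfl hij
  · intro A B hA hB
    show ψ (A * B) = 1
    rw [map_mul, hA, hB, one_mul]

/-- the image of `SL₂(F)` lies in the commutator subgroup of the orthogonal group. -/
theorem rho_mem_commutator [Fintype F] (h2 : (2 : F) ≠ 0) (g : SpecialLinearGroup (Fin 2) F) :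
    rho g ∈ commutator ↥(Cfsg.isometryGroup F ⇑(oddForm F 1)) := by
  obtain ⟨e, he⟩ := Cfsg.Agent.Helper8.OmegaOdd.exists_nonsquare h2
  have h := (Cfsg.Agent.Helper8.OmegaOdd.commutator_eq (oddForm F 1) h2 (oddForm_nondeg F 1 h2)
    (by decide) he).2 (rho g)
  rw [h]
  exact ⟨hom_eq_one h2 ((Cfsg.Agent.Helper8.OmegaOdd.chi (oddForm F 1) 1).comp rho) g,
    hom_eq_one h2 ((Cfsg.Agent.Helper8.OmegaOdd.chi (oddForm F 1) e).comp rho) g⟩

/-- the centre of `PSL₂(F)` is trivial when `2 ≠ 0`. -/
theorem center_PSL2 (h2 : (2 : F) ≠ 0) :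
    Subgroup.center (Matrix.ProjectiveSpecialLinearGroup (Fin 2) F) = ⊥ := by
  rw [eq_bot_iff]
  intro x hx
  rw [Subgroup.mem_bot]
  obtain ⟨g, rfl⟩ := QuotientGroup.mk_surjective x
  rw [Subgroup.mem_center_iff] at hx
  rw [QuotientGroup.eq_one_iff]
  -- `g` commutes with every `h` up to sign
  have hcomm : ∀ h : SpecialLinearGroup (Fin 2) F,
      (g * h).1 = (h * g).1 ∨ (g * h).1 = -(h * g).1 := by
    intro h
    have h1 := hx (QuotientGroup.mk h)
    rw [← QuotientGroup.mk_mul, ← QuotientGroup.mk_mul, QuotientGroup.eq] at h1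
    rw [Matrix.SpecialLinearGroup.mem_center_iff] at h1
    obtain ⟨r, hr, hr'⟩ := h1
    rw [Fintype.card_fin] at hr
    have hr2 : r = 1 ∨ r = -1 := by
      have : (r - 1) * (r + 1) = 0 := by linear_combination hr
      rcases mul_eq_zero.mp this with h | h
      · left; linear_combination h
      · right; linear_combination h
    have hmul : (h * g).1 * ((h * g)⁻¹ * (g * h)).1 = (g * h).1 := by
      rw [← Matrix.SpecialLinearGroup.coe_mul, mul_inv_cancel_left]
    rw [← hr'] at hmul
    rcases hr2 with rfl | rfl
    · left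
      rw [← hmul]
      simp
    · right
      rw [← hmul]
      ext i j
      simp [Matrix.mul_apply, Matrix.diagonal_apply]
  have hdet := det_eq g
  have half : ∀ x : F, x = -x → x = 0 := by
    intro x hx
    have : 2 * x = 0 := by linear_combination hx
    exact (mul_eq_zero.mp this).resolve_left h2
  have hU : g.1 1 0 = 0 ∧ g.1 0 0 = g.1 1 1 := by
    rcases hcomm (up 1) with h | h
    · have e00 := congrFun (congrFun h 0) 0
      have e01 := congrFun (congrFun h 0) 1
      simp only [coe_mul_apply, up_00, up_01, up_10, up_11] at e00 e01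
      constructor
      · linear_combination -e00
      · linear_combination e01
    · exfalso
      have e00 := congrFun (congrFun h 0) 0
      have e10 := congrFun (congrFun h 1) 0
      have e11 := congrFun (congrFun h 1) 1
      simp only [Matrix.neg_apply, coe_mul_apply, up_00, up_01, up_10, up_11] at e00 e10 e11
      have c0 : g.1 1 0 = 0 := half _ (by linear_combination e10)
      have a0 : g.1 0 0 = 0 := half _ (by linear_combination e00 - c0)
      rw [a0, c0, zero_mul, mul_zero, sub_zero] at hdet
      exact zero_ne_one hdet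
  have hL : g.1 0 1 = 0 := by
    rcases hcomm (lo 1) with h | h
    · have e00 := congrFun (congrFun h 0) 0
      simp only [coe_mul_apply, lo_00, lo_01, lo_10, lo_11] at e00
      linear_combination e00
    · exfalso
      have e00 := congrFun (congrFun h 0) 0
      have e01 := congrFun (congrFun h 0) 1
      have e11 := congrFun (congrFun h 1) 1
      simp only [Matrix.neg_apply, coe_mul_apply, lo_00, lo_01, lo_10, lo_11] at e00 e01 e11
      have b0 : g.1 0 1 = 0 := half _ (by linear_combination e01)
      have a0 : g.1 0 0 = 0 := half _ (by linear_combination e00 - b0)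
      rw [a0, b0, zero_mul, zero_mul, sub_zero] at hdet
      exact zero_ne_one hdet
  rw [Matrix.SpecialLinearGroup.mem_center_iff]
  refine ⟨g.1 0 0, ?_, ?_⟩
  · rw [Fintype.card_fin]
    rw [hU.1, hL, ← hU.2] at hdet
    linear_combination hdet
  · ext i j
    fin_cases i <;> fin_cases j
    · simp
    · simp [hL]
    · simp [hU.1]
    · simp [hU.2]

end Cfsg.Agent.Helper8.SL2Omega
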