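import Mathlib
import Cfsg.Agent.Helper8.DkGenF
import Cfsg.Agent.Helper8.DkOrd
import Cfsg.Agent.Helper8.SL2Omega

set_option autoImplicit false

/-!
The automorphisms of `PSL₂(F)`, part A: the root elements of `PSL₂(F)` and the Bruhat decomposition.
-/

namespace Cfsg.Agent.Helper8.AutPSL2

open Matrix Cfsg.Agent.Helper7.SL2 Cfsg.Agent.Helper8.SL2C Cfsg.Agent.Helper8.Dk Subgroup
open scoped Matrix

variable {F : Type*} [Field F]

/-- the upper root elements of `PSL₂(F)` -/
noncomputable def ub (t : F) : ProjectiveSpecialLinearGroup (Fin 2) F := pmk (up t)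

/-- the lower root elements of `PSL₂(F)` -/
noncomputable def lb (t : F) : ProjectiveSpecialLinearGroup (Fin 2) F := pmk (lo t)

/-- the monomial elements of `PSL₂(F)` -/
noncomputable def nb (t : F) (ht : t ≠ 0) : ProjectiveSpecialLinearGroup (Fin 2) F :=
  pmk (nmat t ht)

theorem ub_add (s t : F) : ub (s + t) = ub s * ub t := by
  unfold ub
  rw [Cfsg.Agent.Helper8.SL2Omega.up_add, pmk_mul]

theorem lb_add (s t : F) : lb (s + t) = lb s * lb t := by
  unfold lb
  rw [Cfsg.Agent.Helper8.SL2Omega.lo_add, pmk_mul]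

theorem ub_zero : ub (0 : F) = 1 := by
  unfold ub
  rw [up_zero]
  rfl

theorem lb_zero : lb (0 : F) = 1 := by
  unfold lb
  rw [lo_zero]
  rfl

theorem ub_inv (t : F) : (ub t)⁻¹ = ub (-t) := by
  apply inv_eq_of_mul_eq_one_right
  rw [← ub_add, add_neg_cancel, ub_zero]

theorem lb_inv (t : F) : (lb t)⁻¹ = lb (-t) := by
  apply inv_eq_of_mul_eq_one_right
  rw [← lb_add, add_neg_cancel, lb_zero]

theorem ub_injective : Function.Injective (ub (F := F)) := by
  intro s t h
  unfold ub at h
  rcases pmk_eq_iff.mp h with h1 | h1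
  · have := congrArg (fun g : SpecialLinearGroup (Fin 2) F => (g : Matrix (Fin 2) (Fin 2) F) 0 1) h1
    simpa [up_01] using this
  · have h00 := congrArg (fun g : SpecialLinearGroup (Fin 2) F =>
      (g : Matrix (Fin 2) (Fin 2) F) 0 0) h1
    have h01 := congrArg (fun g : SpecialLinearGroup (Fin 2) F =>
      (g : Matrix (Fin 2) (Fin 2) F) 0 1) h1
    simp only [SL2C.neg_apply, up_00, up_01] at h00 h01
    -- `1 = -1`, so `-t = t`
    rw [h01]
    linear_combination (-t) * h00

theorem lb_injective : Function.Injective (lb (F := F)) := by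
  intro s t h
  unfold lb at h
  rcases pmk_eq_iff.mp h with h1 | h1
  · have := congrArg (fun g : SpecialLinearGroup (Fin 2) F => (g : Matrix (Fin 2) (Fin 2) F) 1 0) h1
    simpa [lo_10] using this
  · have h00 := congrArg (fun g : SpecialLinearGroup (Fin 2) F =>
      (g : Matrix (Fin 2) (Fin 2) F) 0 0) h1
    have h10 := congrArg (fun g : SpecialLinearGroup (Fin 2) F =>
      (g : Matrix (Fin 2) (Fin 2) F) 1 0) h1
    simp only [SL2C.neg_apply, lo_00, lo_10] at h00 h10
    rw [h10]
    linear_combination (-t) * h00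

theorem ub_eq_one_iff {t : F} : ub t = 1 ↔ t = 0 := by
  rw [← ub_zero]
  exact ub_injective.eq_iff

theorem lb_eq_one_iff {t : F} : lb t = 1 ↔ t = 0 := by
  rw [← lb_zero]
  exact lb_injective.eq_iff

/-- an upper root element is not a lower one, unless trivial -/
theorem ub_ne_lb {s t : F} (ht : t ≠ 0) : ub s ≠ lb t := by
  intro h
  unfold ub lb at h
  rcases pmk_eq_iff.mp h with h1 | h1
  · have h10 := congrArg (fun g : SpecialLinearGroup (Fin 2) F =>
      (g : Matrix (Fin 2) (Fin 2) F) 1 0) h1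
    simp only [up_10, lo_10] at h10
    exact ht h10.symm
  · have h10 := congrArg (fun g : SpecialLinearGroup (Fin 2) F =>
      (g : Matrix (Fin 2) (Fin 2) F) 1 0) h1
    simp only [SL2C.neg_apply, up_10, lo_10] at h10
    apply ht
    linear_combination h10

theorem nb_eq (t : F) (ht : t ≠ 0) : nb t ht = ub t * lb (-t⁻¹) * ub t := by
  unfold nb ub lb
  rw [nmat_eq, inv_neg]
  rfl

/-- conjugation of an upper root element by a monomial element -/
theorem nb_conj_ub (t : F) (ht : t ≠ 0) (s : F) :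
    nb t ht * ub s * (nb t ht)⁻¹ = lb (-(t⁻¹) ^ 2 * s) := by
  unfold nb ub lb
  rw [pmk_inv, pmk_mul, pmk_mul, conj_up_by_w (nmat_00 t ht), nmat_10]
  congr 2
  ring

/-- the conjugate of an upper unitriangular matrix -/
theorem conj_up_01 (X : SpecialLinearGroup (Fin 2) F) (c : F) :
    ((X * up c * X⁻¹ : SpecialLinearGroup (Fin 2) F) : Matrix (Fin 2) (Fin 2) F) 0 1 =
      c * (X : Matrix (Fin 2) (Fin 2) F) 0 0 ^ 2 := by
  obtain ⟨i00, i01, i10, i11⟩ := coe_inv_apply X
  simp only [coe_mul_apply, i01, i11, up_00, up_01, up_10, up_11]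
  ring

/-- the Bruhat decomposition of the big cell -/
theorem bruhat (g : SpecialLinearGroup (Fin 2) F)
    (hc : (g : Matrix (Fin 2) (Fin 2) F) 1 0 ≠ 0) :
    g = up ((g : Matrix (Fin 2) (Fin 2) F) 0 0 / (g : Matrix (Fin 2) (Fin 2) F) 1 0) *
      nmat (-((g : Matrix (Fin 2) (Fin 2) F) 1 0)⁻¹) (neg_ne_zero.mpr (inv_ne_zero hc)) *
      up ((g : Matrix (Fin 2) (Fin 2) F) 1 1 / (g : Matrix (Fin 2) (Fin 2) F) 1 0) := by
  have hd := det_eq g
  apply ext'
  · simp only [coe_mul_apply, up_00, up_01, up_10, up_11, nmat_00, nmat_01, nmat_10, nmat_11]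
    field_simp
    ring
  · simp only [coe_mul_apply, up_00, up_01, up_10, up_11, nmat_00, nmat_01, nmat_10, nmat_11]
    field_simp
    linear_combination (-1 : F) * hd
  · simp only [coe_mul_apply, up_00, up_01, up_10, up_11, nmat_00, nmat_01, nmat_10, nmat_11]
    field_simp
    ring
  · simp only [coe_mul_apply, up_00, up_01, up_10, up_11, nmat_00, nmat_01, nmat_10, nmat_11]
    field_simp
    ring

/-- an upper triangular matrix conjugates upper root elements to upper root elements -/
theorem conj_ub_of_10_eq_zero {g : SpecialLinearGroup (Fin 2) F}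
    (hc : (g : Matrix (Fin 2) (Fin 2) F) 1 0 = 0) (s : F) :
    ∃ s' : F, pmk g * ub s * (pmk g)⁻¹ = ub s' := by
  have hB : g ∈ B F := mem_B.mpr hc
  have hU : g * up s * g⁻¹ ∈ U F := conj_mem_U hB (up_mem_U s)
  obtain ⟨h00, h10, h11⟩ := mem_U.mp hU
  refine ⟨((g * up s * g⁻¹ : SpecialLinearGroup (Fin 2) F) : Matrix (Fin 2) (Fin 2) F) 0 1, ?_⟩
  unfold ub
  rw [pmk_inv, pmk_mul, pmk_mul]
  congr 1
  apply ext'
  · rw [h00, up_00]
  · rw [up_01]
  · rw [h10, up_10]
  · rw [h11, up_11]

/-- the root elements generate `PSL₂(F)` -/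
theorem closure_root_eq_top :
    Subgroup.closure (Set.range (ub (F := F)) ∪ Set.range (lb (F := F))) = ⊤ := by
  rw [eq_top_iff]
  intro x _
  obtain ⟨g, rfl⟩ := pmk_surjective x
  refine Cfsg.Agent.Helper7.Transv.transvection_induction
    (fun M => pmk M ∈ Subgroup.closure (Set.range (ub (F := F)) ∪ Set.range (lb (F := F))))
    ?_ ?_ g
  · intro i j hij x
    fin_cases i <;> fin_cases j
    · exact absurd rfl hij
    · show pmk _ ∈ _
      rw [transvection_01]
      exact Subgroup.subset_closure (Or.inl ⟨x, rfl⟩)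
    · show pmk _ ∈ _
      rw [transvection_10]
      exact Subgroup.subset_closure (Or.inr ⟨x, rfl⟩)
    · exact absurd rfl hij
  · intro A B hA hB
    show pmk A * pmk B ∈ _
    exact Subgroup.mul_mem _ hA hB

/-- two homomorphisms on `PSL₂(F)` agreeing on the root elements are equal -/
theorem hom_ext_root {M : Type*} [Monoid M]
    {f g : ProjectiveSpecialLinearGroup (Fin 2) F →* M}
    (hu : ∀ t : F, f (ub t) = g (ub t)) (hl : ∀ t : F, f (lb t) = g (lb t)) : f = g := by
  apply MonoidHom.eq_of_eqOn_dense closure_root_eq_top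
  rintro x (⟨t, rfl⟩ | ⟨t, rfl⟩)
  · exact hu t
  · exact hl t

end Cfsg.Agent.Helper8.AutPSL2
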