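import Mathlib
import Cfsg.Agent.Helper8.AutPSL2A

set_option autoImplicit false

/-!
The automorphisms of `PSL₂(F)`, part B: the standard automorphisms (diagonal times field).
-/

namespace Cfsg.Agent.Helper8.AutPSL2

open Matrix Cfsg.Agent.Helper7.SL2 Cfsg.Agent.Helper8.SL2C Cfsg.Agent.Helper8.Dk Subgroup
open scoped Matrix

variable {F : Type*} [Field F]

/-- two automorphisms of `PSL₂(F)` agreeing on the root elements are equal -/
theorem aut_ext_root {α β : MulAut (ProjectiveSpecialLinearGroup (Fin 2) F)}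
    (hu : ∀ t : F, α (ub t) = β (ub t)) (hl : ∀ t : F, α (lb t) = β (lb t)) : α = β := by
  have h := hom_ext_root (f := α.toMonoidHom) (g := β.toMonoidHom) hu hl
  ext x
  exact DFunLike.congr_fun h x

/-- conjugating an inner automorphism by an automorphism -/
theorem aut_mul_conj {G : Type*} [Group G] (α : MulAut G) (g : G) :
    α * MulAut.conj g = MulAut.conj (α g) * α := by
  ext x
  simp [MulAut.mul_apply, MulAut.conj_apply, map_mul, map_inv]

/-- conjugation of a lower unitriangular matrix by a diagonal one -/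
theorem tor_conj_lo (s : Fˣ) (β : F) :
    tor s * lo β * (tor s)⁻¹ = lo (((s⁻¹ : Fˣ) : F) ^ 2 * β) := by
  obtain ⟨i00, i01, i10, i11⟩ := coe_inv_apply (tor s)
  apply ext'
  · simp only [coe_mul_apply, i00, i10, tor_00, tor_01, tor_10, tor_11, lo_00, lo_01, lo_10, lo_11]
    have := s.mul_inv
    push_cast at this ⊢
    linear_combination this
  · simp only [coe_mul_apply, i01, i11, tor_00, tor_01, tor_10, tor_11, lo_00, lo_01, lo_10, lo_11]
    ring
  · simp only [coe_mul_apply, i00, i10, tor_00, tor_01, tor_10, tor_11, lo_00, lo_01, lo_10, lo_11]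
    ring
  · simp only [coe_mul_apply, i01, i11, tor_00, tor_01, tor_10, tor_11, lo_00, lo_01, lo_10, lo_11]
    have := s.mul_inv
    push_cast at this ⊢
    linear_combination this

/-- the `(1,0)` entry of a conjugate of an upper unitriangular matrix -/
theorem conj_up_10 (X : SpecialLinearGroup (Fin 2) F) (c : F) :
    ((X * up c * X⁻¹ : SpecialLinearGroup (Fin 2) F) : Matrix (Fin 2) (Fin 2) F) 1 0 =
      -c * (X : Matrix (Fin 2) (Fin 2) F) 1 0 ^ 2 := by
  obtain ⟨i00, i01, i10, i11⟩ := coe_inv_apply X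
  simp only [coe_mul_apply, i00, i10, up_00, up_01, up_10, up_11]
  ring

/-- the `(0,1)` entry of a conjugate of a lower unitriangular matrix -/
theorem conj_lo_01 (X : SpecialLinearGroup (Fin 2) F) (c : F) :
    ((X * lo c * X⁻¹ : SpecialLinearGroup (Fin 2) F) : Matrix (Fin 2) (Fin 2) F) 0 1 =
      -c * (X : Matrix (Fin 2) (Fin 2) F) 0 1 ^ 2 := by
  obtain ⟨i00, i01, i10, i11⟩ := coe_inv_apply X
  simp only [coe_mul_apply, i01, i11, lo_00, lo_01, lo_10, lo_11]
  ring

/-- an element conjugating a non-trivial upper root element to an upper root element is upper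
triangular -/
theorem entry_10_eq_zero {X : SpecialLinearGroup (Fin 2) F} {c c' : F} (hc : c ≠ 0)
    (h : pmk X * ub c * (pmk X)⁻¹ = ub c') : (X : Matrix (Fin 2) (Fin 2) F) 1 0 = 0 := by
  unfold ub at h
  rw [pmk_inv, pmk_mul, pmk_mul] at h
  have h1 : ((X * up c * X⁻¹ : SpecialLinearGroup (Fin 2) F) : Matrix (Fin 2) (Fin 2) F) 1 0 = 0 := by
    rcases pmk_eq_iff.mp h with h1 | h1
    · rw [h1, up_10]
    · rw [h1, SL2C.neg_apply, up_10, neg_zero]
  rw [conj_up_10] at h1
  have h2 : (X : Matrix (Fin 2) (Fin 2) F) 1 0 ^ 2 = 0 := by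
    rcases mul_eq_zero.mp h1 with h3 | h3
    · exact absurd (neg_eq_zero.mp h3) hc
    · exact h3
  exact pow_eq_zero_iff (two_ne_zero) |>.mp h2

/-- an element conjugating a non-trivial lower root element to a lower root element is lower
triangular -/
theorem entry_01_eq_zero {X : SpecialLinearGroup (Fin 2) F} {c c' : F} (hc : c ≠ 0)
    (h : pmk X * lb c * (pmk X)⁻¹ = lb c') : (X : Matrix (Fin 2) (Fin 2) F) 0 1 = 0 := by
  unfold lb at h
  rw [pmk_inv, pmk_mul, pmk_mul] at h
  have h1 : ((X * lo c * X⁻¹ : SpecialLinearGroup (Fin 2) F) : Matrix (Fin 2) (Fin 2) F) 0 1 = 0 := by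
    rcases pmk_eq_iff.mp h with h1 | h1
    · rw [h1, lo_01]
    · rw [h1, SL2C.neg_apply, lo_01, neg_zero]
  rw [conj_lo_01] at h1
  have h2 : (X : Matrix (Fin 2) (Fin 2) F) 0 1 ^ 2 = 0 := by
    rcases mul_eq_zero.mp h1 with h3 | h3
    · exact absurd (neg_eq_zero.mp h3) hc
    · exact h3
  exact pow_eq_zero_iff (two_ne_zero) |>.mp h2

/-- a diagonal matrix of `SL₂(F)` -/
theorem eq_tor_of_diag {X : SpecialLinearGroup (Fin 2) F}
    (h10 : (X : Matrix (Fin 2) (Fin 2) F) 1 0 = 0) (h01 : (X : Matrix (Fin 2) (Fin 2) F) 0 1 = 0) :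
    ∃ s : Fˣ, X = tor s := by
  have hd := det_eq X
  rw [h10, h01, mul_zero, sub_zero] at hd
  refine ⟨⟨(X : Matrix (Fin 2) (Fin 2) F) 0 0, (X : Matrix (Fin 2) (Fin 2) F) 1 1, hd,
    by rw [mul_comm]; exact hd⟩, ?_⟩
  apply ext'
  · rw [tor_00]
  · rw [tor_01, h01]
  · rw [tor_10, h10]
  · rw [tor_11]
    rfl

theorem tor_conj_ub (s : Fˣ) (t : F) :
    pmk (tor s) * ub t * (pmk (tor s))⁻¹ = ub ((s : F) ^ 2 * t) := by
  unfold ub
  rw [pmk_inv, pmk_mul, pmk_mul, tor_conj_up]

theorem tor_conj_lb (s : Fˣ) (t : F) :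
    pmk (tor s) * lb t * (pmk (tor s))⁻¹ = lb (((s⁻¹ : Fˣ) : F) ^ 2 * t) := by
  unfold lb
  rw [pmk_inv, pmk_mul, pmk_mul, tor_conj_lo]

section finite

variable [Finite F]

/-- the standard automorphisms of `PSL₂(F)`: a field automorphism followed by a diagonal one -/
noncomputable def tau (σ : F ≃+* F) (c : Fˣ) :
    MulAut (ProjectiveSpecialLinearGroup (Fin 2) F) :=
  MulEquiv.ofBijective (pslTw (σ : F →+* F) (c : F) c.ne_zero)
    ⟨pslTw_injective _ _ _, Finite.surjective_of_injective (pslTw_injective _ _ _)⟩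

theorem tau_ub (σ : F ≃+* F) (c : Fˣ) (t : F) : tau σ c (ub t) = ub ((c : F) * σ t) := by
  unfold tau ub
  show pslTw (σ : F →+* F) (c : F) c.ne_zero (pmk (up t)) = _
  rw [pslTw_pmk, psi_up]
  rfl

theorem tau_lb (σ : F ≃+* F) (c : Fˣ) (t : F) :
    tau σ c (lb t) = lb (((c⁻¹ : Fˣ) : F) * σ t) := by
  unfold tau lb
  show pslTw (σ : F →+* F) (c : F) c.ne_zero (pmk (lo t)) = _
  rw [pslTw_pmk, psi_lo, Units.val_inv_eq_inv_val]
  rfl

theorem tau_mul (σ σ' : F ≃+* F) (c c' : Fˣ) :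
    tau σ c * tau σ' c' = tau (σ * σ') (c * Units.map (σ : F →* F) c') := by
  apply aut_ext_root
  · intro t
    rw [MulAut.mul_apply, tau_ub, tau_ub, tau_ub]
    congr 1
    rw [map_mul, Units.val_mul, Units.coe_map]
    simp only [RingAut.mul_apply, MonoidHom.coe_coe]
    ring
  · intro t
    rw [MulAut.mul_apply, tau_lb, tau_lb, tau_lb]
    congr 1
    rw [map_mul, mul_inv, Units.val_mul, ← map_inv, Units.coe_map]
    simp only [RingAut.mul_apply, MonoidHom.coe_coe]
    ring

theorem tau_one_mul (c c' : Fˣ) :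
    tau (1 : F ≃+* F) c * tau 1 c' = tau 1 (c * c') := by
  rw [tau_mul, mul_one]
  congr 2

theorem tau_one_one : tau (1 : F ≃+* F) 1 = 1 := by
  apply aut_ext_root
  · intro t
    rw [tau_ub, MulAut.one_apply, Units.val_one, one_mul]
    rfl
  · intro t
    rw [tau_lb, MulAut.one_apply, inv_one, Units.val_one, one_mul]
    rfl

/-- the diagonal automorphism attached to a square is inner -/
theorem tau_one_sq (s : Fˣ) : tau (1 : F ≃+* F) (s ^ 2) = MulAut.conj (pmk (tor s)) := by
  apply aut_ext_root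
  · intro t
    rw [tau_ub, MulAut.conj_apply, tor_conj_ub, Units.val_pow_eq_pow_val]
    rfl
  · intro t
    rw [tau_lb, MulAut.conj_apply, tor_conj_lb, ← inv_pow, Units.val_pow_eq_pow_val]
    rfl

/-- the uniqueness of the field automorphism of an automorphism -/
theorem tau_unique {g g' : ProjectiveSpecialLinearGroup (Fin 2) F} {σ σ' : F ≃+* F} {c c' : Fˣ}
    (h : MulAut.conj g * tau σ c = MulAut.conj g' * tau σ' c') :
    σ = σ' ∧ ∃ s : Fˣ, c = s ^ 2 * c' := by
  obtain ⟨K, hK⟩ := pmk_surjective (g⁻¹ * g')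
  have hu : ∀ t : F, ub ((c : F) * σ t) = pmk K * ub ((c' : F) * σ' t) * (pmk K)⁻¹ := by
    intro t
    have h1 := DFunLike.congr_fun h (ub t)
    rw [MulAut.mul_apply, MulAut.mul_apply, tau_ub, tau_ub, MulAut.conj_apply,
      MulAut.conj_apply] at h1
    rw [hK]
    have : ub ((c : F) * σ t) = g⁻¹ * (g * ub ((c : F) * σ t) * g⁻¹) * g := by group
    rw [this, h1]
    group
  have hl : ∀ t : F, lb (((c⁻¹ : Fˣ) : F) * σ t) =
      pmk K * lb (((c'⁻¹ : Fˣ) : F) * σ' t) * (pmk K)⁻¹ := by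
    intro t
    have h1 := DFunLike.congr_fun h (lb t)
    rw [MulAut.mul_apply, MulAut.mul_apply, tau_lb, tau_lb, MulAut.conj_apply,
      MulAut.conj_apply] at h1
    rw [hK]
    have : lb (((c⁻¹ : Fˣ) : F) * σ t) = g⁻¹ * (g * lb (((c⁻¹ : Fˣ) : F) * σ t) * g⁻¹) * g := by
      group
    rw [this, h1]
    group
  have h10 : (K : Matrix (Fin 2) (Fin 2) F) 1 0 = 0 := by
    have := hu 1
    rw [map_one, map_one, mul_one, mul_one] at this
    exact entry_10_eq_zero c'.ne_zero this.symm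
  have h01 : (K : Matrix (Fin 2) (Fin 2) F) 0 1 = 0 := by
    have := hl 1
    rw [map_one, map_one, mul_one, mul_one] at this
    exact entry_01_eq_zero (c'⁻¹).ne_zero this.symm
  obtain ⟨s, rfl⟩ := eq_tor_of_diag h10 h01
  have hu' : ∀ t : F, (c : F) * σ t = (s : F) ^ 2 * ((c' : F) * σ' t) := by
    intro t
    have := hu t
    rw [tor_conj_ub] at this
    exact ub_injective this
  have hc : (c : F) = (s : F) ^ 2 * (c' : F) := by
    have := hu' 1
    rwa [map_one, map_one, mul_one, mul_one] at this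
  refine ⟨?_, s, ?_⟩
  · ext t
    have := hu' t
    rw [hc] at this
    have hne : (s : F) ^ 2 * (c' : F) ≠ 0 := mul_ne_zero (pow_ne_zero 2 s.ne_zero) c'.ne_zero
    apply mul_left_cancel₀ hne
    rw [this]
    ring
  · ext
    rw [hc, Units.val_mul, Units.val_pow_eq_pow_val]

end finite

end Cfsg.Agent.Helper8.AutPSL2
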