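import Mathlib
import Cfsg.Agent.Helper8.AutPSL2B

set_option autoImplicit false

/-!
The automorphisms of `PSL₂(F)`, part C: an automorphism stabilising the two standard root subgroups is
standard.
-/

namespace Cfsg.Agent.Helper8.AutPSL2

open Matrix Cfsg.Agent.Helper7.SL2 Cfsg.Agent.Helper8.SL2C Cfsg.Agent.Helper8.Dk Subgroup
open scoped Matrix

variable {F : Type*} [Field F]

/-- an additive map compatible with multiplication by squares is multiplicative -/
theorem map_mul_of_sq [Finite F] (σ : F →+ F) (h1 : σ 1 = 1)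
    (h : ∀ t r : F, σ (t ^ 2 * r) = σ t ^ 2 * σ r) (t r : F) : σ (t * r) = σ t * σ r := by
  by_cases h2 : (2 : F) = 0
  · have hchar : ringChar F = 2 := by
      have h3 : ((2 : ℕ) : F) = 0 := by exact_mod_cast h2
      have h4 := (ringChar.spec F 2).mp h3
      have h5 : ringChar F ≠ 1 := CharP.ringChar_ne_one
      rcases (Nat.dvd_prime Nat.prime_two).mp h4 with h6 | h6
      · exact absurd h6 h5
      · exact h6
    obtain ⟨u, rfl⟩ := FiniteField.isSquare_of_char_two hchar t
    have h3 := h u r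
    have h4 := h u 1
    rw [mul_one, h1, mul_one] at h4
    rw [← pow_two, h3, h4]
  · have h3 := h (t + 1) r
    have h4 := h t r
    have e1 : (t + 1) ^ 2 * r = t ^ 2 * r + (t * r + t * r) + r := by ring
    rw [e1, map_add, map_add, map_add, map_add, h4, h1] at h3
    have h5 : (2 : F) * σ (t * r) = 2 * (σ t * σ r) := by linear_combination h3
    exact mul_left_cancel₀ h2 h5

/-- an element conjugating a non-trivial upper root element to a lower root element has vanishing
`(0,0)` entry -/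
theorem entry_00_eq_zero {X : SpecialLinearGroup (Fin 2) F} {c c' : F} (hc : c ≠ 0)
    (h : pmk X * ub c * (pmk X)⁻¹ = lb c') : (X : Matrix (Fin 2) (Fin 2) F) 0 0 = 0 := by
  unfold ub lb at h
  rw [pmk_inv, pmk_mul, pmk_mul] at h
  have h1 : ((X * up c * X⁻¹ : SpecialLinearGroup (Fin 2) F) : Matrix (Fin 2) (Fin 2) F) 0 1 = 0 := by
    rcases pmk_eq_iff.mp h with h1 | h1
    · rw [h1, lo_01]
    · rw [h1, SL2C.neg_apply, lo_01, neg_zero]
  rw [conj_up_01] at h1
  have h2 : (X : Matrix (Fin 2) (Fin 2) F) 0 0 ^ 2 = 0 := by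
    rcases mul_eq_zero.mp h1 with h3 | h3
    · exact absurd h3 hc
    · exact h3
  exact pow_eq_zero_iff (two_ne_zero) |>.mp h2

theorem up_lo_up_00 (A B : F) :
    ((up A * lo B * up A : SpecialLinearGroup (Fin 2) F) : Matrix (Fin 2) (Fin 2) F) 0 0 =
      1 + A * B := by
  simp only [coe_mul_apply, up_00, up_01, up_10, up_11, lo_00, lo_01, lo_10, lo_11]
  ring

/-- an automorphism stabilising both standard root subgroups is standard -/
theorem eq_tau_of_fix [Finite F] (β : MulAut (ProjectiveSpecialLinearGroup (Fin 2) F))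
    (hU : ∀ t : F, ∃ s : F, β (ub t) = ub s) (hV : ∀ t : F, ∃ s : F, β (lb t) = lb s) :
    ∃ (σ : F ≃+* F) (c : Fˣ), β = tau σ c := by
  choose a ha using hU
  choose b hb using hV
  have a_add : ∀ s t : F, a (s + t) = a s + a t := by
    intro s t
    apply ub_injective
    rw [← ha, ub_add, map_mul, ha, ha, ub_add]
  have a_zero : a 0 = 0 := by
    have := a_add 0 0
    rw [add_zero] at this
    exact left_eq_add.mp this
  have a_neg : ∀ t : F, a (-t) = -a t := by
    intro t
    have := a_add t (-t)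
    rw [add_neg_cancel, a_zero] at this
    linear_combination -this
  have a_ne : ∀ t : F, t ≠ 0 → a t ≠ 0 := by
    intro t ht h0
    have h1 := ha t
    rw [h0, ub_zero] at h1
    have h2 : ub t = 1 := by
      apply β.injective
      rw [h1, map_one]
    exact ht (ub_eq_one_iff.mp h2)
  have b_zero : b 0 = 0 := by
    have h1 := hb 0
    rw [lb_zero, map_one] at h1
    exact (lb_eq_one_iff.mp h1.symm)
  -- the first relation
  have R1 : ∀ t : F, t ≠ 0 → b (-t⁻¹) = -(a t)⁻¹ := by
    intro t ht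
    have key := congrArg β (nb_conj_ub t ht 1)
    rw [map_mul, map_mul, map_inv, nb_eq, map_mul, map_mul, ha, ha, hb, hb] at key
    have hX : ub (a t) * lb (b (-t⁻¹)) * ub (a t) =
        pmk (up (a t) * lo (b (-t⁻¹)) * up (a t)) := rfl
    rw [hX] at key
    have h00 := entry_00_eq_zero (a_ne 1 one_ne_zero) key
    rw [up_lo_up_00] at h00
    have hA := a_ne t ht
    have h5 : a t * b (-t⁻¹) = a t * (-(a t)⁻¹) := by
      rw [mul_neg, mul_inv_cancel₀ hA]
      linear_combination h00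
    exact mul_left_cancel₀ hA h5
  have hβnb : ∀ (t : F) (ht : t ≠ 0), β (nb t ht) = nb (a t) (a_ne t ht) := by
    intro t ht
    rw [nb_eq, nb_eq, map_mul, map_mul, ha, hb, R1 t ht]
  -- the second relation
  have R2 : ∀ t : F, t ≠ 0 → ∀ s : F, b (-(t⁻¹) ^ 2 * s) = -((a t)⁻¹) ^ 2 * a s := by
    intro t ht s
    have key := congrArg β (nb_conj_ub t ht s)
    rw [map_mul, map_mul, map_inv, hβnb t ht, ha, hb, nb_conj_ub] at key
    exact (lb_injective key).symm
  -- the formula for `b`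
  have hbx : ∀ x : F, x ≠ 0 → b x = (a x⁻¹)⁻¹ := by
    intro x hx
    have h1 := R1 (-x⁻¹) (neg_ne_zero.mpr (inv_ne_zero hx))
    rw [inv_neg, inv_inv, neg_neg, a_neg, inv_neg, neg_neg] at h1
    exact h1
  set c := a 1 with hc
  have hc0 : c ≠ 0 := a_ne 1 one_ne_zero
  -- the key identity
  have P : ∀ t s : F, t ≠ 0 → s ≠ 0 → a (t ^ 2 * s⁻¹) * a s = a t ^ 2 := by
    intro t s ht hs
    have h1 := R2 t ht s
    have hx : -(t⁻¹) ^ 2 * s ≠ 0 :=
      mul_ne_zero (neg_ne_zero.mpr (pow_ne_zero 2 (inv_ne_zero ht))) hs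
    rw [hbx _ hx] at h1
    have e1 : (-(t⁻¹) ^ 2 * s)⁻¹ = -(t ^ 2 * s⁻¹) := by
      field_simp
    rw [e1, a_neg] at h1
    have hA := a_ne t ht
    have hS := a_ne s hs
    have hTS := a_ne (t ^ 2 * s⁻¹) (mul_ne_zero (pow_ne_zero 2 ht) (inv_ne_zero hs))
    have h2 : a (t ^ 2 * s⁻¹) * (-(a (t ^ 2 * s⁻¹)))⁻¹ = -1 := by
      rw [inv_neg, mul_neg, mul_inv_cancel₀ hTS]
    rw [h1] at h2
    have h3 : a t ^ 2 * (a t)⁻¹ ^ 2 = 1 := by
      rw [← mul_pow, mul_inv_cancel₀ hA, one_pow]
    linear_combination (-(a t) ^ 2) * h2 + (- a (t ^ 2 * s⁻¹) * a s) * h3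
  have Pinv : ∀ s : F, s ≠ 0 → a s⁻¹ * a s = c ^ 2 := by
    intro s hs
    have := P 1 s one_ne_zero hs
    rwa [one_pow, one_mul] at this
  have Q : ∀ t r : F, a (t ^ 2 * r) * c ^ 2 = a t ^ 2 * a r := by
    intro t r
    by_cases ht : t = 0
    · subst ht
      rw [zero_pow two_ne_zero, zero_mul, a_zero, zero_pow two_ne_zero, zero_mul, zero_mul]
    by_cases hr : r = 0
    · subst hr
      rw [mul_zero, a_zero, zero_mul, mul_zero]
    have h1 := P t r⁻¹ ht (inv_ne_zero hr)
    rw [inv_inv] at h1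
    have h2 := Pinv r hr
    calc a (t ^ 2 * r) * c ^ 2 = a (t ^ 2 * r) * (a r⁻¹ * a r) := by rw [h2]
      _ = (a (t ^ 2 * r) * a r⁻¹) * a r := by ring
      _ = a t ^ 2 * a r := by rw [h1]
  -- the field automorphism
  let σ0 : F →+ F :=
    { toFun := fun t => a t / c
      map_zero' := by rw [a_zero, zero_div]
      map_add' := fun s t => by rw [a_add, add_div] }
  have σ0_apply : ∀ t : F, σ0 t = a t / c := fun _ => rfl
  have σ0_one : σ0 1 = 1 := by rw [σ0_apply, ← hc, div_self hc0]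
  have σ0_sq : ∀ t r : F, σ0 (t ^ 2 * r) = σ0 t ^ 2 * σ0 r := by
    intro t r
    rw [σ0_apply, σ0_apply, σ0_apply]
    have := Q t r
    field_simp
    linear_combination this
  have σ0_mul := map_mul_of_sq σ0 σ0_one σ0_sq
  let σ1 : F →+* F :=
    { toFun := σ0
      map_one' := σ0_one
      map_mul' := σ0_mul
      map_zero' := map_zero σ0
      map_add' := map_add σ0 }
  have σ1_apply : ∀ t : F, σ1 t = a t / c := fun _ => rfl
  have σ1_inj : Function.Injective σ1 := σ1.injective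
  let σ : F ≃+* F := RingEquiv.ofBijective σ1 ⟨σ1_inj, Finite.surjective_of_injective σ1_inj⟩
  have σ_apply : ∀ t : F, σ t = a t / c := fun _ => rfl
  refine ⟨σ, Units.mk0 c hc0, ?_⟩
  apply aut_ext_root
  · intro t
    rw [ha, tau_ub, Units.val_mk0, σ_apply, mul_div_cancel₀ _ hc0]
  · intro t
    rw [hb, tau_lb, Units.val_inv_eq_inv_val, Units.val_mk0]
    by_cases ht : t = 0
    · subst ht
      rw [b_zero, map_zero, mul_zero]
    · rw [hbx t ht]
      congr 1
      have h1 : σ t⁻¹ = a t⁻¹ / c := σ_apply _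
      have h2 : σ t⁻¹ = (σ t)⁻¹ := map_inv₀ σ t
      have h3 : σ t ≠ 0 := by
        rw [σ_apply]
        exact div_ne_zero (a_ne t ht) hc0
      have h4 : a t⁻¹ = c * (σ t)⁻¹ := by
        rw [← h2, h1, mul_div_cancel₀ _ hc0]
      rw [h4, mul_inv, inv_inv]

end Cfsg.Agent.Helper8.AutPSL2
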