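import Mathlib
import Cfsg.Agent.Helper8.AutPSL2C

set_option autoImplicit false

/-!
The automorphisms of `PSL₂(F)`, part D: every automorphism is the product of an inner automorphism and
a standard one.
-/

namespace Cfsg.Agent.Helper8.AutPSL2

open Matrix Cfsg.Agent.Helper7.SL2 Cfsg.Agent.Helper8.SL2C Cfsg.Agent.Helper8.Dk Subgroup
open scoped Matrix

variable {F : Type*} [Field F]

theorem ub_nsmul (t : F) (n : ℕ) : ub t ^ n = ub (n • t) := by
  induction n with
  | zero => rw [pow_zero, zero_smul, ub_zero]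
  | succ n ih => rw [pow_succ, ih, succ_nsmul, ub_add]

theorem ub_pow_char (p : ℕ) [CharP F p] (t : F) : ub t ^ p = 1 := by
  rw [ub_nsmul, nsmul_eq_mul, CharP.cast_eq_zero, zero_mul, ub_zero]

/-- an element of order `p` lies in no toral member -/
theorem not_mem_GT_of_pow_char [Fintype F] (p : ℕ) [Fact p.Prime] [CharP F p]
    {M : Subgroup (ProjectiveSpecialLinearGroup (Fin 2) F)}
    (hM : M ∈ GT F) {x : ProjectiveSpecialLinearGroup (Fin 2) F} (hx : x ∈ M) (hx1 : x ≠ 1)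
    (hxp : x ^ p = 1) : False := by
  have hp : p.Prime := Fact.out
  have hord : orderOf x = p := orderOf_eq_prime hxp hx1
  have h1 : p ∣ Nat.card M := hord ▸ Subgroup.orderOf_dvd_natCard M hx
  have h2 : p ∣ Fintype.card F := by
    rw [← CharP.cast_eq_zero_iff F p]
    exact Nat.cast_card_eq_zero F
  have h3 : 1 < Fintype.card F := Fintype.one_lt_card
  rcases card_mul_mem_GT hM with h | h
  · have h4 : p ∣ Fintype.card F + 1 := h ▸ Dvd.dvd.mul_left h1 _
    have h5 : p ∣ 1 := (Nat.dvd_add_right h2).mp h4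
    exact hp.one_lt.ne' (Nat.dvd_one.mp h5)
  · have h4 : p ∣ Fintype.card F - 1 := h ▸ Dvd.dvd.mul_left h1 _
    have h5 : p ∣ (Fintype.card F - 1) + 1 := by rwa [Nat.sub_add_cancel h3.le]
    have h6 : p ∣ 1 := (Nat.dvd_add_right h4).mp h5
    exact hp.one_lt.ne' (Nat.dvd_one.mp h6)

/-- after an inner automorphism, an automorphism stabilises the upper root subgroup -/
theorem exists_conj_ub [Fintype F] (p : ℕ) [Fact p.Prime] [CharP F p] (α : MulAut (ProjectiveSpecialLinearGroup (Fin 2) F)) :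
    ∃ g : ProjectiveSpecialLinearGroup (Fin 2) F, ∀ t : F, ∃ s : F,
      (MulAut.conj g * α) (ub t) = ub s := by
  have hx1 : α (ub 1) ≠ 1 := by
    intro h
    have : ub (1 : F) = 1 := α.injective (by rw [h, map_one])
    exact one_ne_zero (ub_eq_one_iff.mp this)
  obtain ⟨M, hM, hxM⟩ := GM_cover (α (ub 1)) hx1
  have hMU : M ∈ GU F := by
    rcases mem_GM_iff.mp hM with h | h
    · exact h
    · exfalso
      exact not_mem_GT_of_pow_char p h hxM hx1 (by rw [← map_pow, ub_pow_char p, map_one])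
  have hall : ∀ t : F, α (ub t) ∈ M := by
    intro t
    apply GU_cent M hMU _ hxM hx1
    rw [← map_mul, ← map_mul, ← ub_add, ← ub_add, add_comm]
  obtain ⟨A, ⟨c, rfl⟩, rfl⟩ := hMU
  rw [map_cj, map_ZU_eq] at hall
  refine ⟨(pmk c)⁻¹, fun t => ?_⟩
  have h1 := hall t
  rw [mem_cj] at h1
  obtain ⟨u, hu, hu'⟩ := h1
  obtain ⟨h00, h10, h11⟩ := mem_U.mp hu
  refine ⟨(u : Matrix (Fin 2) (Fin 2) F) 0 1, ?_⟩
  rw [MulAut.mul_apply, MulAut.conj_apply, inv_inv]
  simp only [ph_apply] at hu'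
  rw [← hu']
  unfold ub
  congr 1
  apply ext'
  · rw [h00, up_00]
  · rw [up_01]
  · rw [h10, up_10]
  · rw [h11, up_11]

/-- after an inner automorphism, an automorphism sends the lower root subgroup into the upper one -/
theorem exists_conj_lb [Fintype F] (p : ℕ) [Fact p.Prime] [CharP F p] (α : MulAut (ProjectiveSpecialLinearGroup (Fin 2) F)) :
    ∃ g : ProjectiveSpecialLinearGroup (Fin 2) F, ∀ t : F, ∃ s : F,
      (MulAut.conj g * α) (lb t) = ub s := by
  obtain ⟨g, hg⟩ := exists_conj_ub p (α * MulAut.conj (nb (1 : F) one_ne_zero))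
  refine ⟨g, fun t => ?_⟩
  obtain ⟨s, hs⟩ := hg (-t)
  refine ⟨s, ?_⟩
  rw [← hs]
  simp only [MulAut.mul_apply, MulAut.conj_apply]
  rw [nb_conj_ub]
  congr 3
  rw [inv_one, one_pow, neg_mul, one_mul, neg_neg]

/-- every automorphism is the product of an inner automorphism and a standard one -/
theorem exists_eq_conj_mul_tau [Fintype F] (p : ℕ) [Fact p.Prime] [CharP F p] (α : MulAut (ProjectiveSpecialLinearGroup (Fin 2) F)) :
    ∃ (g : ProjectiveSpecialLinearGroup (Fin 2) F) (σ : F ≃+* F) (c : Fˣ),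
      α = MulAut.conj g * tau σ c := by
  obtain ⟨g1, hg1⟩ := exists_conj_ub p α
  obtain ⟨α1, hα1⟩ : ∃ α1, α1 = MulAut.conj g1 * α := ⟨_, rfl⟩
  rw [← hα1] at hg1
  choose a ha using hg1
  have a_inj : Function.Injective a := by
    intro s t h
    apply ub_injective
    apply α1.injective
    rw [ha, ha, h]
  have a_surj : Function.Surjective a := Finite.surjective_of_injective a_inj
  obtain ⟨h, hh⟩ := exists_conj_lb p α1
  obtain ⟨X, hX⟩ := pmk_surjective h⁻¹
  have hh' : ∀ t : F, ∃ s : F, α1 (lb t) = pmk X * ub s * (pmk X)⁻¹ := by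
    intro t
    obtain ⟨s, hs⟩ := hh t
    refine ⟨s, ?_⟩
    rw [← hs, hX, MulAut.mul_apply, MulAut.conj_apply]
    group
  have hX10 : (X : Matrix (Fin 2) (Fin 2) F) 1 0 ≠ 0 := by
    intro h0
    obtain ⟨s, hs⟩ := hh' 1
    obtain ⟨s', hs'⟩ := conj_ub_of_10_eq_zero h0 s
    obtain ⟨t', ht'⟩ := a_surj s'
    rw [hs', ← ht', ← ha] at hs
    exact ub_ne_lb one_ne_zero (α1.injective hs).symm
  have hbr := bruhat X hX10
  set x := (X : Matrix (Fin 2) (Fin 2) F) 0 0 / (X : Matrix (Fin 2) (Fin 2) F) 1 0 with hx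
  set n := -((X : Matrix (Fin 2) (Fin 2) F) 1 0)⁻¹ with hn
  have hn0 : n ≠ 0 := neg_ne_zero.mpr (inv_ne_zero hX10)
  set y := (X : Matrix (Fin 2) (Fin 2) F) 1 1 / (X : Matrix (Fin 2) (Fin 2) F) 1 0 with hy
  have hpX : pmk X = ub x * nb n hn0 * ub y := by
    rw [hbr]
    rfl
  have key : ∀ s : F, pmk X * ub s * (pmk X)⁻¹ = ub x * lb (-(n⁻¹) ^ 2 * s) * (ub x)⁻¹ := by
    intro s
    rw [← nb_conj_ub n hn0 s, hpX]
    have : ub y * ub s * (ub y)⁻¹ = ub s := by
      rw [ub_inv, ← ub_add, ← ub_add, add_comm y s, add_neg_cancel_right]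
    calc ub x * nb n hn0 * ub y * ub s * (ub x * nb n hn0 * ub y)⁻¹
        = ub x * (nb n hn0 * (ub y * ub s * (ub y)⁻¹) * (nb n hn0)⁻¹) * (ub x)⁻¹ := by group
      _ = _ := by rw [this]
  have hβ := eq_tau_of_fix (MulAut.conj (ub x)⁻¹ * α1) ?_ ?_
  · obtain ⟨σ, c, hσc⟩ := hβ
    refine ⟨((ub x)⁻¹ * g1)⁻¹, σ, c, ?_⟩
    rw [← hσc, hα1, ← mul_assoc, ← mul_assoc, ← map_mul, ← map_mul, mul_assoc, inv_mul_cancel,
      map_one, one_mul]
  · intro t
    refine ⟨a t, ?_⟩
    rw [MulAut.mul_apply, MulAut.conj_apply, ha, inv_inv, ub_inv, ← ub_add, ← ub_add,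
      neg_add_cancel_comm]
  · intro t
    obtain ⟨s, hs⟩ := hh' t
    refine ⟨-(n⁻¹) ^ 2 * s, ?_⟩
    rw [MulAut.mul_apply, MulAut.conj_apply, hs, key]
    group

end Cfsg.Agent.Helper8.AutPSL2
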