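import Mathlib

set_option autoImplicit false

/-!
The automorphisms of `PSL_n(F)`, part A: the upper unitriangular subgroup of `SL_k(F)` and its order.
-/

namespace Cfsg.Agent.Helper8.AutSLn

open Matrix

variable {F : Type*} [Field F] {k : ℕ}

theorem coe_mul_inv (g : SpecialLinearGroup (Fin k) F) :
    (g : Matrix (Fin k) (Fin k) F) *
      ((g⁻¹ : SpecialLinearGroup (Fin k) F) : Matrix (Fin k) (Fin k) F) = 1 := by
  rw [← Matrix.SpecialLinearGroup.coe_mul, mul_inv_cancel, Matrix.SpecialLinearGroup.coe_one]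

theorem coe_inv_mul (g : SpecialLinearGroup (Fin k) F) :
    ((g⁻¹ : SpecialLinearGroup (Fin k) F) : Matrix (Fin k) (Fin k) F) *
      (g : Matrix (Fin k) (Fin k) F) = 1 := by
  rw [← Matrix.SpecialLinearGroup.coe_mul, inv_mul_cancel, Matrix.SpecialLinearGroup.coe_one]

/-- the diagonal of a product of upper triangular matrices -/
theorem diag_mul_of_upper {M N : Matrix (Fin k) (Fin k) F} (hM : M.BlockTriangular id)
    (hN : N.BlockTriangular id) (i : Fin k) : (M * N) i i = M i i * N i i := by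
  rw [Matrix.mul_apply]
  apply Finset.sum_eq_single i
  · intro j _ hji
    rcases lt_or_gt_of_ne hji with h | h
    · rw [hM h, zero_mul]
    · rw [hN h, mul_zero]
  · intro h
    exact absurd (Finset.mem_univ i) h

theorem upper_inv {g : SpecialLinearGroup (Fin k) F}
    (h : (g : Matrix (Fin k) (Fin k) F).BlockTriangular id) :
    ((g⁻¹ : SpecialLinearGroup (Fin k) F) : Matrix (Fin k) (Fin k) F).BlockTriangular id := by
  have hdet : IsUnit (g : Matrix (Fin k) (Fin k) F).det := by
    rw [g.2]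
    exact isUnit_one
  have : Invertible (g : Matrix (Fin k) (Fin k) F) := Matrix.invertibleOfIsUnitDet _ hdet
  have h1 := Matrix.blockTriangular_inv_of_blockTriangular h
  have e : (g : Matrix (Fin k) (Fin k) F)⁻¹ =
      ((g⁻¹ : SpecialLinearGroup (Fin k) F) : Matrix (Fin k) (Fin k) F) :=
    Matrix.inv_eq_right_inv (coe_mul_inv g)
  rw [← e]
  exact h1

/-- the upper unitriangular subgroup of `SL_k(F)` -/
def UT (F : Type*) [Field F] (k : ℕ) : Subgroup (SpecialLinearGroup (Fin k) F) where
  carrier := {g | (g : Matrix (Fin k) (Fin k) F).BlockTriangular id ∧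
    ∀ i, (g : Matrix (Fin k) (Fin k) F) i i = 1}
  mul_mem' := by
    rintro a b ⟨ha, ha'⟩ ⟨hb, hb'⟩
    refine ⟨?_, fun i => ?_⟩
    · rw [Matrix.SpecialLinearGroup.coe_mul]
      exact ha.mul hb
    · rw [Matrix.SpecialLinearGroup.coe_mul, diag_mul_of_upper ha hb, ha', hb', one_mul]
  one_mem' := by
    refine ⟨?_, fun i => ?_⟩
    · rw [Matrix.SpecialLinearGroup.coe_one]
      exact blockTriangular_one
    · rw [Matrix.SpecialLinearGroup.coe_one, one_apply_eq]
  inv_mem' := by
    rintro a ⟨ha, ha'⟩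
    have hinv := upper_inv ha
    refine ⟨hinv, fun i => ?_⟩
    have h1 := diag_mul_of_upper ha hinv i
    rw [coe_mul_inv, one_apply_eq, ha', one_mul] at h1
    exact h1.symm

theorem mem_UT {g : SpecialLinearGroup (Fin k) F} : g ∈ UT F k ↔
    (g : Matrix (Fin k) (Fin k) F).BlockTriangular id ∧
      ∀ i, (g : Matrix (Fin k) (Fin k) F) i i = 1 := Iff.rfl

/-- the index set of the entries above the diagonal -/
abbrev UpIdx (k : ℕ) := {p : Fin k × Fin k // p.1 < p.2}

/-- the upper unitriangular matrix with given entries above the diagonal -/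
def utMat (f : UpIdx k → F) : Matrix (Fin k) (Fin k) F := fun i j =>
  if h : i < j then f ⟨(i, j), h⟩ else if i = j then 1 else 0

theorem utMat_upper (f : UpIdx k → F) : (utMat f).BlockTriangular id := by
  intro i j hji
  have hji' : j < i := hji
  unfold utMat
  rw [dif_neg (not_lt.mpr hji'.le), if_neg hji'.ne']

theorem utMat_diag (f : UpIdx k → F) (i : Fin k) : utMat f i i = 1 := by
  unfold utMat
  rw [dif_neg (lt_irrefl i), if_pos rfl]

theorem det_utMat (f : UpIdx k → F) : (utMat f).det = 1 := by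
  rw [Matrix.det_of_isUpperTriangular (utMat_upper f)]
  exact Finset.prod_eq_one (fun i _ => utMat_diag f i)

/-- the unitriangular group is in bijection with the families of entries above the diagonal -/
def utEquiv (F : Type*) [Field F] (k : ℕ) : UT F k ≃ (UpIdx k → F) where
  toFun u p := ((u : SpecialLinearGroup (Fin k) F) : Matrix (Fin k) (Fin k) F) p.1.1 p.1.2
  invFun f := ⟨⟨utMat f, det_utMat f⟩, utMat_upper f, utMat_diag f⟩
  left_inv u := by
    apply Subtype.ext
    apply Subtype.ext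
    ext i j
    show utMat (fun p : UpIdx k =>
      ((u : SpecialLinearGroup (Fin k) F) : Matrix (Fin k) (Fin k) F) p.1.1 p.1.2) i j = _
    unfold utMat
    by_cases h : i < j
    · rw [dif_pos h]
    · rw [dif_neg h]
      by_cases h' : i = j
      · rw [if_pos h', h']
        exact (u.2.2 j).symm
      · rw [if_neg h']
        have hji : j < i := lt_of_le_of_ne (not_lt.mp h) (Ne.symm h')
        exact (u.2.1 hji).symm
  right_inv f := by
    funext p
    show utMat f p.1.1 p.1.2 = f p
    unfold utMat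
    rw [dif_pos p.2]

/-- the number of entries above the diagonal -/
theorem card_UpIdx (k : ℕ) : Fintype.card (UpIdx k) = ∑ j : Fin k, (j : ℕ) := by
  have e : UpIdx k ≃ (Σ j : Fin k, Fin (j : ℕ)) :=
    { toFun := fun p => ⟨p.1.2, ⟨(p.1.1 : ℕ), p.2⟩⟩
      invFun := fun s => ⟨(⟨(s.2 : ℕ), lt_trans s.2.2 s.1.2⟩, s.1), s.2.2⟩
      left_inv := fun p => by
        apply Subtype.ext
        rfl
      right_inv := fun s => rfl }
  rw [Fintype.card_congr e, Fintype.card_sigma]
  simp

theorem card_UT [Fintype F] :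
    Nat.card (UT F k) = Fintype.card F ^ (∑ j : Fin k, (j : ℕ)) := by
  rw [Nat.card_congr (utEquiv F k), Nat.card_eq_fintype_card, Fintype.card_fun, card_UpIdx]

/-- the order of `GL_k(F)`, with the power of `q` factored out -/
theorem card_GL_factor [Fintype F] :
    Nat.card (GL (Fin k) F) = Fintype.card F ^ (∑ j : Fin k, (j : ℕ)) *
      ∏ j : Fin k, (Fintype.card F ^ (k - (j : ℕ)) - 1) := by
  rw [Matrix.card_GL_field, ← Finset.prod_pow_eq_pow_sum, ← Finset.prod_mul_distrib]
  apply Finset.prod_congr rfl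
  intro j _
  have hj : (j : ℕ) ≤ k := j.2.le
  rw [Nat.mul_sub, mul_one, ← pow_add, Nat.add_sub_cancel' hj]

theorem not_dvd_prod [Fintype F] (p : ℕ) [Fact p.Prime] [CharP F p] :
    ¬ p ∣ ∏ j : Fin k, (Fintype.card F ^ (k - (j : ℕ)) - 1) := by
  have hp : p.Prime := Fact.out
  intro h
  obtain ⟨j, _, hj⟩ := (Prime.dvd_finsetProd_iff hp.prime _).mp h
  have hpq : p ∣ Fintype.card F := by
    rw [← CharP.cast_eq_zero_iff F p]
    exact Nat.cast_card_eq_zero F
  have hpos : 0 < k - (j : ℕ) := Nat.sub_pos_of_lt j.2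
  have h1 : p ∣ Fintype.card F ^ (k - (j : ℕ)) := dvd_pow hpq hpos.ne'
  have h2 : 1 ≤ Fintype.card F ^ (k - (j : ℕ)) := Nat.one_le_pow _ _ Fintype.card_pos
  have h3 : p ∣ 1 := by
    have := (Nat.dvd_sub h1 hj)
    rwa [Nat.sub_sub_self h2] at this
  exact hp.one_lt.ne' (Nat.dvd_one.mp h3)

theorem isPGroup_UT [Fintype F] (p : ℕ) [Fact p.Prime] [CharP F p] : IsPGroup p (UT F k) := by
  obtain ⟨f, hf⟩ := FiniteField.card F p
  apply IsPGroup.of_card (n := (f : ℕ) * ∑ j : Fin k, (j : ℕ))
  rw [card_UT, hf.2, pow_mul]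

end Cfsg.Agent.Helper8.AutSLn
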