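import Mathlib

set_option autoImplicit false

/-! In characteristic 2, a semisimple endomorphism of finite order has odd order; the cubic
`(X - 1)(X² + tX + 1)` is separable (helper8). -/

namespace Cfsg.Agent.Helper8.OddOrderSemi

open Polynomial

variable {K : Type*} [Field K] [CharP K 2]

theorem end_add_self {M : Type*} [AddCommGroup M] [Module K M] (h : Module.End K M) :
    h + h = 0 := by
  ext v
  rw [LinearMap.add_apply, LinearMap.zero_apply, ← two_smul K (h v), CharTwo.two_eq_zero, zero_smul]

/-- a semisimple endomorphism of finite order in characteristic 2 has odd order. -/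
theorem odd_orderOf_of_isSemisimple {M : Type*} [AddCommGroup M] [Module K M]
    [FiniteDimensional K M] (f : Module.End K M) (hf : f.IsSemisimple) (hfin : IsOfFinOrder f) :
    Odd (orderOf f) := by
  by_contra hodd
  rw [Nat.not_odd_iff_even] at hodd
  obtain ⟨k, hk⟩ := hodd
  have hpos : 0 < orderOf f := hfin.orderOf_pos
  have hk0 : 0 < k := by omega
  have hgg : f ^ k * f ^ k = 1 := by rw [← pow_add, ← hk, pow_orderOf_eq_one]
  have hnil : IsNilpotent (f ^ k - 1) := by
    refine ⟨2, ?_⟩
    have e : (f ^ k - 1) ^ 2 = (1 + 1) - (f ^ k + f ^ k) := by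
      rw [pow_two, sub_mul, mul_sub, mul_one, one_mul, hgg]
      abel
    rw [e, end_add_self, end_add_self, sub_zero]
  have hss : (f ^ k - 1).IsSemisimple := by
    have h1 : (f ^ k).IsSemisimple := hf.pow k
    have := (Module.End.isSemisimple_sub_algebraMap_iff (f := f ^ k) (μ := (1 : K))).mpr h1
    rwa [map_one] at this
  have hz := Module.End.eq_zero_of_isNilpotent_isSemisimple hnil hss
  have h1 : f ^ k = 1 := sub_eq_zero.mp hz
  have hdvd : orderOf f ∣ k := orderOf_dvd_of_pow_eq_one h1
  have := Nat.le_of_dvd hk0 hdvd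
  omega

/-- the same for matrices. -/
theorem odd_orderOf_matrix {ι : Type*} [Fintype ι] [DecidableEq ι]
    (N : Matrix ι ι K) (p : K[X]) (hp : Squarefree p) (hN : aeval N p = 0)
    (hfin : IsOfFinOrder N) : Odd (orderOf N) := by
  obtain ⟨e, he⟩ : ∃ e : Matrix ι ι K ≃ₐ[K] Module.End K (ι → K), e = Matrix.toLinAlgEquiv' :=
    ⟨_, rfl⟩
  have h1 : aeval (e N) p = 0 := by
    have := Polynomial.aeval_algHom_apply (e : Matrix ι ι K →ₐ[K] Module.End K (ι → K)) N p
    rw [AlgEquiv.coe_toAlgHom] at this
    rw [this, hN, map_zero]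
  have hss : (e N).IsSemisimple := Module.End.isSemisimple_of_squarefree_aeval_eq_zero hp h1
  have hord : orderOf (e N) = orderOf N :=
    orderOf_injective (e : Matrix ι ι K →* Module.End K (ι → K)) e.injective N
  have hfin' : IsOfFinOrder (e N) := by
    rw [← orderOf_pos_iff, hord]
    exact hfin.orderOf_pos
  rw [← hord]
  exact odd_orderOf_of_isSemisimple (e N) hss hfin'

/-- the cubic `(X - 1)(X² + tX + 1)`. -/
noncomputable def cubic (t : K) : K[X] := (X - C 1) * (X ^ 2 + C t * X + 1)

theorem cubic_squarefree {t : K} (ht : t ≠ 0) : Squarefree (cubic t) := by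
  apply Separable.squarefree
  have h2 : (2 : K[X]) = 0 := by
    have : (2 : K) = 0 := CharTwo.two_eq_zero
    rw [← map_ofNat (C : K →+* K[X]) 2, this, map_zero]
  have hc : C t⁻¹ * C t = (1 : K[X]) := by rw [← C_mul, inv_mul_cancel₀ ht, C_1]
  refine Separable.mul separable_X_sub_C ?_ ?_
  · rw [separable_def]
    have hd : derivative (X ^ 2 + C t * X + 1 : K[X]) = C t := by
      simp only [derivative_add, derivative_X_pow, derivative_mul, derivative_C, derivative_X,
        derivative_one, zero_mul, mul_one, zero_add, add_zero, Nat.cast_ofNat]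
      rw [C_ofNat, h2, zero_mul, zero_add]
    rw [hd]
    exact ⟨0, C t⁻¹, by rw [zero_mul, zero_add, hc]⟩
  · refine ⟨-(C t⁻¹ * (X + C t + 1)), C t⁻¹, ?_⟩
    rw [C_1]
    linear_combination hc + (C t⁻¹ : K[X]) * h2

/-- the same for a matrix `N = 1 + R` with `R` annihilated by a squarefree polynomial. -/
theorem odd_orderOf_one_add {ι : Type*} [Fintype ι] [DecidableEq ι]
    (N R : Matrix ι ι K) (hNR : N = 1 + R) (p : K[X]) (hp : Squarefree p) (hR : aeval R p = 0)
    (hfin : IsOfFinOrder N) : Odd (orderOf N) := by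
  obtain ⟨e, he⟩ : ∃ e : Matrix ι ι K ≃ₐ[K] Module.End K (ι → K), e = Matrix.toLinAlgEquiv' :=
    ⟨_, rfl⟩
  have h1 : aeval (e R) p = 0 := by
    have := Polynomial.aeval_algHom_apply (e : Matrix ι ι K →ₐ[K] Module.End K (ι → K)) R p
    rw [AlgEquiv.coe_toAlgHom] at this
    rw [this, hR, map_zero]
  have hssR : (e R).IsSemisimple := Module.End.isSemisimple_of_squarefree_aeval_eq_zero hp h1
  have hss : (e N).IsSemisimple := by
    have h2 : e N - algebraMap K (Module.End K (ι → K)) 1 = e R := by
      rw [hNR, map_add, map_one, map_one, add_sub_cancel_left]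
    rw [← Module.End.isSemisimple_sub_algebraMap_iff (μ := (1 : K)), h2]
    exact hssR
  have hord : orderOf (e N) = orderOf N :=
    orderOf_injective (e : Matrix ι ι K →* Module.End K (ι → K)) e.injective N
  have hfin' : IsOfFinOrder (e N) := by
    rw [← orderOf_pos_iff, hord]
    exact hfin.orderOf_pos
  rw [← hord]
  exact odd_orderOf_of_isSemisimple (e N) hss hfin'

/-- the cubic `X (X² - tX - t)`. -/
noncomputable def cubic2 (t : K) : K[X] := X * (X ^ 2 - C t * X - C t)

theorem cubic2_squarefree {t : K} (ht : t ≠ 0) : Squarefree (cubic2 t) := by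
  apply Separable.squarefree
  have h2 : (2 : K[X]) = 0 := by
    have : (2 : K) = 0 := CharTwo.two_eq_zero
    rw [← map_ofNat (C : K →+* K[X]) 2, this, map_zero]
  have hc : C t⁻¹ * C t = (1 : K[X]) := by rw [← C_mul, inv_mul_cancel₀ ht, C_1]
  refine Separable.mul separable_X ?_ ?_
  · rw [separable_def]
    have hd : derivative (X ^ 2 - C t * X - C t : K[X]) = - C t := by
      simp only [derivative_sub, derivative_X_pow, derivative_mul, derivative_C, derivative_X,
        zero_mul, mul_one, zero_add, sub_zero, Nat.cast_ofNat]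
      rw [C_ofNat, h2, zero_mul, zero_sub]
    rw [hd]
    exact ⟨0, - C t⁻¹, by rw [zero_mul, zero_add, neg_mul_neg, hc]⟩
  · refine ⟨C t⁻¹ * (X - C t), - C t⁻¹, ?_⟩
    linear_combination hc

omit [CharP K 2] in
theorem aeval_cubic2 {ι : Type*} [Fintype ι] [DecidableEq ι] (R : Matrix ι ι K) (t : K) :
    aeval R (cubic2 t) = R * (R * R - t • R - t • 1) := by
  rw [cubic2, map_mul, map_sub, map_sub, map_pow, map_mul, aeval_X, aeval_C, pow_two,
    Algebra.algebraMap_eq_smul_one, smul_mul_assoc, one_mul]

end Cfsg.Agent.Helper8.OddOrderSemi
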