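import Mathlib

set_option autoImplicit false

/-!
`SL_n(F)` (`n ≥ 3`) is transitive on the nonzero vectors and on the pairs of linearly independent
vectors of `F^n`.
-/

namespace Cfsg.Agent.Helper8.SLTrans

open scoped LinearAlgebra.Projectivization Matrix
open Matrix

variable {F : Type*} [Field F] {m : ℕ}

/-- the first standard basis vector. -/
def e0 (F : Type*) [Field F] (m : ℕ) : Fin (m + 3) → F := Pi.single 0 1

/-- the second standard basis vector. -/
def e1 (F : Type*) [Field F] (m : ℕ) : Fin (m + 3) → F := Pi.single 1 1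

theorem e0_ne_zero : e0 F m ≠ 0 := Pi.single_ne_zero_iff.mpr one_ne_zero

theorem e1_ne_zero : e1 F m ≠ 0 := Pi.single_ne_zero_iff.mpr one_ne_zero

theorem mulVec_e0 (M : Matrix (Fin (m + 3)) (Fin (m + 3)) F) : M *ᵥ e0 F m = fun i => M i 0 := by
  unfold e0
  rw [Matrix.mulVec_single_one]
  rfl

theorem mulVec_e1 (M : Matrix (Fin (m + 3)) (Fin (m + 3)) F) : M *ᵥ e1 F m = fun i => M i 1 := by
  unfold e1
  rw [Matrix.mulVec_single_one]
  rfl

theorem coe_mul' (a b : SpecialLinearGroup (Fin (m + 3)) F) :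
    ((a * b : SpecialLinearGroup (Fin (m + 3)) F) : Matrix (Fin (m + 3)) (Fin (m + 3)) F) =
      (a : Matrix (Fin (m + 3)) (Fin (m + 3)) F) * (b : Matrix (Fin (m + 3)) (Fin (m + 3)) F) := rfl

/-- the diagonal of `diag(a, b, (ab)⁻¹, 1, …, 1)`. -/
def dvec (a b : Fˣ) : Fin (m + 3) → F :=
  Fin.cons (a : F) (Fin.cons (b : F) (Fin.cons (((a * b)⁻¹ : Fˣ) : F) (fun _ => 1)))

theorem prod_dvec (a b : Fˣ) : ∏ i, dvec (m := m) a b i = 1 := by
  unfold dvec
  rw [Fin.prod_cons, Fin.prod_cons, Fin.prod_cons, Finset.prod_const_one, mul_one,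
    ← Units.val_mul, ← Units.val_mul]
  simp

theorem dvec_zero (a b : Fˣ) : dvec (m := m) a b 0 = a := rfl

theorem dvec_one (a b : Fˣ) : dvec (m := m) a b 1 = b := rfl

/-- `diag(a, b, (ab)⁻¹, 1, …, 1)` as an element of `SL`. -/
def dmat (a b : Fˣ) : SpecialLinearGroup (Fin (m + 3)) F :=
  ⟨Matrix.diagonal (dvec a b), by rw [Matrix.det_diagonal, prod_dvec]⟩

theorem dmat_e0 (a b : Fˣ) :
    (dmat (m := m) a b : Matrix (Fin (m + 3)) (Fin (m + 3)) F) *ᵥ e0 F m = (a : F) • e0 F m := by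
  rw [mulVec_e0]
  funext i
  show Matrix.diagonal (dvec a b) i 0 = _
  by_cases hi : i = 0
  · subst hi
    rw [Matrix.diagonal_apply_eq, dvec_zero]
    simp [e0]
  · rw [Matrix.diagonal_apply_ne _ hi]
    simp [e0, hi]

theorem dmat_e1 (a b : Fˣ) :
    (dmat (m := m) a b : Matrix (Fin (m + 3)) (Fin (m + 3)) F) *ᵥ e1 F m = (b : F) • e1 F m := by
  rw [mulVec_e1]
  funext i
  show Matrix.diagonal (dvec a b) i 1 = _
  by_cases hi : i = 1
  · subst hi
    rw [Matrix.diagonal_apply_eq, dvec_one]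
    simp [e1]
  · rw [Matrix.diagonal_apply_ne _ hi]
    simp [e1, hi]

theorem smul_mk' (g : SpecialLinearGroup (Fin (m + 3)) F) (v : Fin (m + 3) → F) (hv : v ≠ 0)
    (hgv : (g : Matrix (Fin (m + 3)) (Fin (m + 3)) F) *ᵥ v ≠ 0) :
    g • Projectivization.mk F v hv =
      Projectivization.mk F ((g : Matrix (Fin (m + 3)) (Fin (m + 3)) F) *ᵥ v) hgv := by
  rw [Projectivization.smul_mk]
  rfl

theorem mulVec_ne_zero (g : SpecialLinearGroup (Fin (m + 3)) F) {v : Fin (m + 3) → F}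
    (hv : v ≠ 0) : (g : Matrix (Fin (m + 3)) (Fin (m + 3)) F) *ᵥ v ≠ 0 := by
  intro h
  apply hv
  have : ((g⁻¹ : SpecialLinearGroup (Fin (m + 3)) F) : Matrix (Fin (m + 3)) (Fin (m + 3)) F) *ᵥ
      ((g : Matrix (Fin (m + 3)) (Fin (m + 3)) F) *ᵥ v) = v := by
    rw [Matrix.mulVec_mulVec, ← coe_mul', inv_mul_cancel]
    exact Matrix.one_mulVec v
  rw [← this, h, Matrix.mulVec_zero]

/-- transitivity on nonzero vectors. -/
theorem exists_mulVec_e0 {v : Fin (m + 3) → F} (hv : v ≠ 0) :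
    ∃ g : SpecialLinearGroup (Fin (m + 3)) F,
      (g : Matrix (Fin (m + 3)) (Fin (m + 3)) F) *ᵥ e0 F m = v := by
  have hpre : MulAction.IsPretransitive (SpecialLinearGroup (Fin (m + 3)) F)
      (ℙ F (Fin (m + 3) → F)) :=
    MulAction.isPretransitive_of_is_two_pretransitive
  obtain ⟨g, hg⟩ := MulAction.exists_smul_eq (SpecialLinearGroup (Fin (m + 3)) F)
    (Projectivization.mk F (e0 F m) e0_ne_zero) (Projectivization.mk F v hv)
  rw [smul_mk' g _ e0_ne_zero (mulVec_ne_zero g e0_ne_zero),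
    Projectivization.mk_eq_mk_iff] at hg
  obtain ⟨a, ha⟩ := hg
  refine ⟨g * dmat a⁻¹ 1, ?_⟩
  rw [coe_mul', ← Matrix.mulVec_mulVec, dmat_e0, Matrix.mulVec_smul, ← ha, Units.smul_def,
    smul_smul, ← Units.val_mul, inv_mul_cancel, Units.val_one, one_smul]

/-- transitivity on pairs of independent vectors. -/
theorem exists_mulVec_e0_e1 {v w : Fin (m + 3) → F} (hv : v ≠ 0) (hw : w ≠ 0)
    (hvw : ∀ c : F, w ≠ c • v) :
    ∃ g : SpecialLinearGroup (Fin (m + 3)) F,
      (g : Matrix (Fin (m + 3)) (Fin (m + 3)) F) *ᵥ e0 F m = v ∧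
      (g : Matrix (Fin (m + 3)) (Fin (m + 3)) F) *ᵥ e1 F m = w := by
  have h2 : MulAction.IsMultiplyPretransitive (SpecialLinearGroup (Fin (m + 3)) F)
      (ℙ F (Fin (m + 3) → F)) 2 := inferInstance
  rw [MulAction.is_two_pretransitive_iff] at h2
  have hne1 : Projectivization.mk F (e0 F m) e0_ne_zero ≠
      Projectivization.mk F (e1 F m) e1_ne_zero := by
    intro h
    rw [Projectivization.mk_eq_mk_iff] at h
    obtain ⟨a, ha⟩ := h
    have := congrFun ha 0
    simp [e0, e1] at this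
  have hne2 : Projectivization.mk F v hv ≠ Projectivization.mk F w hw := by
    intro h
    rw [Projectivization.mk_eq_mk_iff] at h
    obtain ⟨a, ha⟩ := h
    apply hvw ((a⁻¹ : Fˣ) : F)
    rw [← ha, Units.smul_def, smul_smul, ← Units.val_mul, inv_mul_cancel, Units.val_one, one_smul]
  obtain ⟨g, hg0, hg1⟩ := h2 hne1 hne2
  rw [smul_mk' g _ e0_ne_zero (mulVec_ne_zero g e0_ne_zero),
    Projectivization.mk_eq_mk_iff] at hg0
  rw [smul_mk' g _ e1_ne_zero (mulVec_ne_zero g e1_ne_zero),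
    Projectivization.mk_eq_mk_iff] at hg1
  obtain ⟨a, ha⟩ := hg0
  obtain ⟨b, hb⟩ := hg1
  refine ⟨g * dmat a⁻¹ b⁻¹, ?_, ?_⟩
  · rw [coe_mul', ← Matrix.mulVec_mulVec, dmat_e0, Matrix.mulVec_smul, ← ha, Units.smul_def,
      smul_smul, ← Units.val_mul, inv_mul_cancel, Units.val_one, one_smul]
  · rw [coe_mul', ← Matrix.mulVec_mulVec, dmat_e1, Matrix.mulVec_smul, ← hb, Units.smul_def,
      smul_smul, ← Units.val_mul, inv_mul_cancel, Units.val_one, one_smul]

end Cfsg.Agent.Helper8.SLTrans
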