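import Mathlib
import Cfsg.Agent.Helper8.SLTrans

set_option autoImplicit false

/-! Transvections `1 + x φ` of `SL_{n+3}(F)`: basics and the transitivity on incident
point-hyperplane pairs (helper8). -/

namespace Cfsg.Agent.Helper8.SLRoot

open Matrix Cfsg.Agent.Helper8.SLTrans

variable {F : Type*} [Field F] {n : ℕ}

/-- the matrix `1 + x φ` (`x` a column, `φ` a row). -/
def tv (x φ : Fin (n + 3) → F) : Matrix (Fin (n + 3)) (Fin (n + 3)) F := 1 + vecMulVec x φ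

theorem tv_mulVec (x φ v : Fin (n + 3) → F) : tv x φ *ᵥ v = v + (φ ⬝ᵥ v) • x := by
  rw [tv, add_mulVec, one_mulVec, vecMulVec_mulVec, op_smul_eq_smul]

theorem tv_vecMul (x φ ρ : Fin (n + 3) → F) : ρ ᵥ* tv x φ = ρ + (ρ ⬝ᵥ x) • φ := by
  rw [tv, vecMul_add, vecMul_one, vecMul_vecMulVec]

theorem det_tv (x φ : Fin (n + 3) → F) : (tv x φ).det = 1 + φ ⬝ᵥ x := by
  rw [tv, vecMulVec_eq (ι := Unit), det_one_add_replicateCol_mul_replicateRow]

/-- the transvection `1 + x φ` as an element of `SL`. -/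
def TV (x φ : Fin (n + 3) → F) (h : φ ⬝ᵥ x = 0) : SpecialLinearGroup (Fin (n + 3)) F :=
  ⟨tv x φ, by rw [det_tv, h, add_zero]⟩

theorem TV_coe (x φ : Fin (n + 3) → F) (h : φ ⬝ᵥ x = 0) :
    ((TV x φ h : SpecialLinearGroup (Fin (n + 3)) F) : Matrix (Fin (n + 3)) (Fin (n + 3)) F)
      = tv x φ := rfl

theorem sl_ext {g h : SpecialLinearGroup (Fin (n + 3)) F}
    (H : ∀ v : Fin (n + 3) → F, (g : Matrix (Fin (n + 3)) (Fin (n + 3)) F) *ᵥ v
      = (h : Matrix (Fin (n + 3)) (Fin (n + 3)) F) *ᵥ v) : g = h :=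
  Subtype.ext (Matrix.ext_iff_mulVec.mpr H)

theorem coe_inv_mulVec (g : SpecialLinearGroup (Fin (n + 3)) F) (v : Fin (n + 3) → F) :
    (g : Matrix (Fin (n + 3)) (Fin (n + 3)) F) *ᵥ
      (((g⁻¹ : SpecialLinearGroup (Fin (n + 3)) F) : Matrix (Fin (n + 3)) (Fin (n + 3)) F) *ᵥ v)
      = v := by
  rw [mulVec_mulVec, ← Matrix.SpecialLinearGroup.coe_mul, mul_inv_cancel,
    Matrix.SpecialLinearGroup.coe_one, one_mulVec]

theorem coe_inv_mulVec' (g : SpecialLinearGroup (Fin (n + 3)) F) (v : Fin (n + 3) → F) :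
    ((g⁻¹ : SpecialLinearGroup (Fin (n + 3)) F) : Matrix (Fin (n + 3)) (Fin (n + 3)) F) *ᵥ
      ((g : Matrix (Fin (n + 3)) (Fin (n + 3)) F) *ᵥ v) = v := by
  rw [mulVec_mulVec, ← Matrix.SpecialLinearGroup.coe_mul, inv_mul_cancel,
    Matrix.SpecialLinearGroup.coe_one, one_mulVec]

theorem coe_mul_inv (g : SpecialLinearGroup (Fin (n + 3)) F) :
    (g : Matrix (Fin (n + 3)) (Fin (n + 3)) F) *
      ((g⁻¹ : SpecialLinearGroup (Fin (n + 3)) F) : Matrix (Fin (n + 3)) (Fin (n + 3)) F) = 1 := by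
  rw [← Matrix.SpecialLinearGroup.coe_mul, mul_inv_cancel, Matrix.SpecialLinearGroup.coe_one]

theorem coe_inv_mul (g : SpecialLinearGroup (Fin (n + 3)) F) :
    ((g⁻¹ : SpecialLinearGroup (Fin (n + 3)) F) : Matrix (Fin (n + 3)) (Fin (n + 3)) F) *
      (g : Matrix (Fin (n + 3)) (Fin (n + 3)) F) = 1 := by
  rw [← Matrix.SpecialLinearGroup.coe_mul, inv_mul_cancel, Matrix.SpecialLinearGroup.coe_one]

/-- conjugating a transvection. -/
theorem conj_tv (g : SpecialLinearGroup (Fin (n + 3)) F) (x φ : Fin (n + 3) → F) :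
    (g : Matrix (Fin (n + 3)) (Fin (n + 3)) F) * tv x φ *
      ((g⁻¹ : SpecialLinearGroup (Fin (n + 3)) F) : Matrix (Fin (n + 3)) (Fin (n + 3)) F)
      = tv ((g : Matrix (Fin (n + 3)) (Fin (n + 3)) F) *ᵥ x)
        (φ ᵥ* ((g⁻¹ : SpecialLinearGroup (Fin (n + 3)) F) :
          Matrix (Fin (n + 3)) (Fin (n + 3)) F)) := by
  rw [tv, tv, mul_add, mul_one, add_mul, coe_mul_inv, mul_vecMulVec, vecMulVec_mul]

theorem dot_conj (g : SpecialLinearGroup (Fin (n + 3)) F) (x φ : Fin (n + 3) → F) :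
    (φ ᵥ* ((g⁻¹ : SpecialLinearGroup (Fin (n + 3)) F) :
      Matrix (Fin (n + 3)) (Fin (n + 3)) F)) ⬝ᵥ ((g : Matrix (Fin (n + 3)) (Fin (n + 3)) F) *ᵥ x)
      = φ ⬝ᵥ x := by
  rw [← dotProduct_mulVec, coe_inv_mulVec']

theorem conj_TV (g : SpecialLinearGroup (Fin (n + 3)) F) (x φ : Fin (n + 3) → F)
    (h : φ ⬝ᵥ x = 0) :
    g * TV x φ h * g⁻¹ = TV ((g : Matrix (Fin (n + 3)) (Fin (n + 3)) F) *ᵥ x)
      (φ ᵥ* ((g⁻¹ : SpecialLinearGroup (Fin (n + 3)) F) :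
        Matrix (Fin (n + 3)) (Fin (n + 3)) F)) (by rw [dot_conj, h]) := by
  apply Subtype.ext
  rw [Matrix.SpecialLinearGroup.coe_mul, Matrix.SpecialLinearGroup.coe_mul, TV_coe, TV_coe, conj_tv]

theorem transvection_eq_tv (c : F) :
    Matrix.transvection (0 : Fin (n + 3)) 1 c = tv (c • e0 F n) (e1 F n) := by
  rw [Matrix.transvection, tv]
  congr 1
  ext i j
  simp only [Matrix.single_apply, vecMulVec_apply, e0, e1, Pi.smul_apply,
    Pi.single_apply, smul_eq_mul]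
  by_cases hi : i = 0 <;> by_cases hj : j = 1 <;> simp [hi, hj, eq_comm]

theorem e1_dot_e0 : (e1 F n) ⬝ᵥ (e0 F n) = 0 := by
  rw [e0, e1, dotProduct_single_one, Pi.single_apply, if_neg Fin.zero_ne_one]

theorem e1_dot_smul_e0 (c : F) : (e1 F n) ⬝ᵥ (c • e0 F n) = 0 := by
  rw [dotProduct_smul, e1_dot_e0, smul_zero]

/-- **transitivity of `SL` on incident point-hyperplane pairs (with chosen vector and form).** -/
theorem exists_flag {x φ : Fin (n + 3) → F} (hx : x ≠ 0) (hφ : φ ≠ 0) (h : φ ⬝ᵥ x = 0) :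
    ∃ g : SpecialLinearGroup (Fin (n + 3)) F,
      (g : Matrix (Fin (n + 3)) (Fin (n + 3)) F) *ᵥ e0 F n = x ∧
      φ ᵥ* (g : Matrix (Fin (n + 3)) (Fin (n + 3)) F) = e1 F n := by
  -- a vector with `φ w = 1`
  obtain ⟨i, hi⟩ : ∃ i, φ i ≠ 0 := by
    by_contra hcon
    push Not at hcon
    exact hφ (funext hcon)
  obtain ⟨w, hw⟩ : ∃ w : Fin (n + 3) → F, φ ⬝ᵥ w = 1 := by
    refine ⟨Pi.single i (φ i)⁻¹, ?_⟩
    rw [dotProduct_single, mul_inv_cancel₀ hi]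
  have hw0 : w ≠ 0 := by
    rintro rfl
    rw [dotProduct_zero] at hw
    exact zero_ne_one hw
  have hxw : ∀ c : F, w ≠ c • x := by
    rintro c rfl
    rw [dotProduct_smul, h, smul_zero] at hw
    exact zero_ne_one hw
  obtain ⟨g₀, hg0, hg1⟩ := exists_mulVec_e0_e1 hx hw0 hxw
  obtain ⟨ρ, hρ⟩ : ∃ ρ, ρ = φ ᵥ* (g₀ : Matrix (Fin (n + 3)) (Fin (n + 3)) F) := ⟨_, rfl⟩
  have hρ0 : ρ ⬝ᵥ e0 F n = 0 := by
    rw [hρ, ← dotProduct_mulVec, hg0, h]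
  have hρ1 : ρ ⬝ᵥ e1 F n = 1 := by
    rw [hρ, ← dotProduct_mulVec, hg1, hw]
  have hσ : (e1 F n - ρ) ⬝ᵥ e1 F n = 0 := by
    rw [sub_dotProduct, hρ1, e1, dotProduct_single_one, Pi.single_eq_same, sub_self]
  refine ⟨g₀ * TV (e1 F n) (e1 F n - ρ) hσ, ?_, ?_⟩
  · rw [Matrix.SpecialLinearGroup.coe_mul, ← mulVec_mulVec, TV_coe, tv_mulVec, sub_dotProduct,
      e1_dot_e0, hρ0, sub_zero, zero_smul, add_zero, hg0]
  · rw [Matrix.SpecialLinearGroup.coe_mul, ← vecMul_vecMul, ← hρ, TV_coe, tv_vecMul, hρ1, one_smul]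
    abel

/-- every transvection is conjugate in `SL` to the standard one. -/
theorem exists_conj_TV {x φ : Fin (n + 3) → F} (hx : x ≠ 0) (hφ : φ ≠ 0) (h : φ ⬝ᵥ x = 0) :
    ∃ g : SpecialLinearGroup (Fin (n + 3)) F,
      TV x φ h = g * TV (e0 F n) (e1 F n) e1_dot_e0 * g⁻¹ := by
  obtain ⟨g, hg0, hg1⟩ := exists_flag hx hφ h
  refine ⟨g, ?_⟩
  rw [conj_TV]
  apply Subtype.ext
  rw [TV_coe, TV_coe, hg0]
  congr 1
  rw [← hg1, vecMul_vecMul, coe_mul_inv, vecMul_one]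

end Cfsg.Agent.Helper8.SLRoot
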