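import Mathlib
import Cfsg.Agent.Helper8.SLRootA

set_option autoImplicit false

/-! Transvections `1 + x φ` of `SL_{n+3}(F)`: products and commutators of pairs (helper8). -/

namespace Cfsg.Agent.Helper8.SLRoot

open Matrix Cfsg.Agent.Helper8.SLTrans
open scoped commutatorElement

variable {F : Type*} [Field F] {n : ℕ}

theorem tv_smul (c : F) (x φ : Fin (n + 3) → F) : tv (c • x) φ = tv x (c • φ) := by
  rw [tv, tv, smul_vecMulVec, vecMulVec_smul]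

theorem tv_zero_left (φ : Fin (n + 3) → F) : tv (0 : Fin (n + 3) → F) φ = 1 := by
  rw [tv, zero_vecMulVec, add_zero]

theorem tv_zero_right (x : Fin (n + 3) → F) : tv x (0 : Fin (n + 3) → F) = 1 := by
  rw [tv, vecMulVec_zero, add_zero]

theorem tv_eq_one_iff (x φ : Fin (n + 3) → F) : tv x φ = 1 ↔ x = 0 ∨ φ = 0 := by
  rw [tv, add_eq_left, vecMulVec_eq_zero]

theorem tv_mul_same (x φ φ' : Fin (n + 3) → F) (h : φ ⬝ᵥ x = 0) :
    tv x φ * tv x φ' = tv x (φ + φ') := by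
  rw [Matrix.ext_iff_mulVec]
  intro v
  rw [← mulVec_mulVec, tv_mulVec, tv_mulVec, tv_mulVec, dotProduct_add, dotProduct_smul, h,
    smul_zero, add_zero, add_dotProduct, add_smul]
  abel

theorem TV_mul_same (x φ φ' : Fin (n + 3) → F) (h : φ ⬝ᵥ x = 0) (h' : φ' ⬝ᵥ x = 0) :
    TV x φ h * TV x φ' h' = TV x (φ + φ') (by rw [add_dotProduct, h, h', add_zero]) :=
  Subtype.ext (by
    rw [Matrix.SpecialLinearGroup.coe_mul, TV_coe, TV_coe, TV_coe, tv_mul_same x φ φ' h])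

theorem TV_inv (x φ : Fin (n + 3) → F) (h : φ ⬝ᵥ x = 0) :
    (TV x φ h)⁻¹ = TV x (-φ) (by rw [neg_dotProduct, h, neg_zero]) := by
  rw [inv_eq_iff_mul_eq_one, TV_mul_same]
  apply Subtype.ext
  rw [TV_coe, Matrix.SpecialLinearGroup.coe_one]
  rw [add_neg_cancel, tv_zero_right]

theorem TV_mulVec (x φ : Fin (n + 3) → F) (h : φ ⬝ᵥ x = 0) (v : Fin (n + 3) → F) :
    ((TV x φ h : SpecialLinearGroup (Fin (n + 3)) F) : Matrix (Fin (n + 3)) (Fin (n + 3)) F) *ᵥ v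
      = v + (φ ⬝ᵥ v) • x := tv_mulVec x φ v

theorem coe_mul_mulVec (a b : SpecialLinearGroup (Fin (n + 3)) F) (v : Fin (n + 3) → F) :
    ((a * b : SpecialLinearGroup (Fin (n + 3)) F) : Matrix (Fin (n + 3)) (Fin (n + 3)) F) *ᵥ v
      = (a : Matrix (Fin (n + 3)) (Fin (n + 3)) F) *ᵥ
        ((b : Matrix (Fin (n + 3)) (Fin (n + 3)) F) *ᵥ v) := by
  rw [Matrix.SpecialLinearGroup.coe_mul, mulVec_mulVec]

/-- transvections with `φ y = 0 = ψ x` commute. -/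
theorem TV_comm {x φ y ψ : Fin (n + 3) → F} (hx : φ ⬝ᵥ x = 0) (hy : ψ ⬝ᵥ y = 0)
    (h1 : φ ⬝ᵥ y = 0) (h2 : ψ ⬝ᵥ x = 0) : TV x φ hx * TV y ψ hy = TV y ψ hy * TV x φ hx := by
  apply sl_ext
  intro v
  simp only [coe_mul_mulVec, TV_mulVec, dotProduct_add, dotProduct_smul, h1, h2, smul_zero,
    add_zero]
  abel

/-- the commutator of two transvections with `ψ x = 0`. -/
theorem TV_commutator {x φ y ψ : Fin (n + 3) → F} (hx : φ ⬝ᵥ x = 0) (hy : ψ ⬝ᵥ y = 0)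
    (h2 : ψ ⬝ᵥ x = 0) :
    ⁅TV x φ hx, TV y ψ hy⁆ = TV ((φ ⬝ᵥ y) • x) ψ (by rw [dotProduct_smul, h2, smul_zero]) := by
  apply sl_ext
  intro v
  rw [commutatorElement_def, TV_inv, TV_inv]
  simp only [coe_mul_mulVec, TV_mulVec, dotProduct_add, dotProduct_smul, neg_dotProduct, hx, hy,
    h2, add_zero, smul_eq_mul, mul_zero]
  module

/-- the nilpotent-free part `R = ab - 1` of a product of two transvections. -/
def Rm (x φ y ψ : Fin (n + 3) → F) : Matrix (Fin (n + 3)) (Fin (n + 3)) F :=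
  vecMulVec x φ + vecMulVec y ψ + (φ ⬝ᵥ y) • vecMulVec x ψ

theorem tv_mul_tv (x φ y ψ : Fin (n + 3) → F) : tv x φ * tv y ψ = 1 + Rm x φ y ψ := by
  rw [tv, tv, Rm, add_mul, one_mul, mul_add, mul_one, vecMulVec_mul_vecMulVec, vecMulVec_smul]
  abel

theorem Rm_mulVec (x φ y ψ v : Fin (n + 3) → F) :
    Rm x φ y ψ *ᵥ v = (φ ⬝ᵥ v + (φ ⬝ᵥ y) * (ψ ⬝ᵥ v)) • x + (ψ ⬝ᵥ v) • y := by
  rw [Rm, add_mulVec, add_mulVec, smul_mulVec, vecMulVec_mulVec, vecMulVec_mulVec,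
    vecMulVec_mulVec, op_smul_eq_smul, op_smul_eq_smul, op_smul_eq_smul, smul_smul, add_smul]
  abel

/-- the cubic identity for `R`. -/
theorem Rm_cubic {x φ y ψ : Fin (n + 3) → F} (hx : φ ⬝ᵥ x = 0) (hy : ψ ⬝ᵥ y = 0) :
    Rm x φ y ψ * (Rm x φ y ψ * Rm x φ y ψ - ((φ ⬝ᵥ y) * (ψ ⬝ᵥ x)) • Rm x φ y ψ
      - ((φ ⬝ᵥ y) * (ψ ⬝ᵥ x)) • 1) = 0 := by
  rw [Matrix.ext_iff_mulVec]
  intro v
  rw [← mulVec_mulVec, sub_mulVec, sub_mulVec, ← mulVec_mulVec, smul_mulVec, smul_mulVec,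
    one_mulVec, zero_mulVec]
  simp only [Rm_mulVec, dotProduct_add, dotProduct_smul, dotProduct_sub, hx, hy, smul_eq_mul,
    mul_zero, add_zero, zero_add]
  module

end Cfsg.Agent.Helper8.SLRoot
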