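import Mathlib
import Cfsg.Prelude.Def_RootSubgroups
import Cfsg.Agent.Helper8.SLRootB
import Cfsg.Agent.Helper8.OddOrderSemi
import Cfsg.Agent.Helper7.Transvections

set_option autoImplicit false

/-! The transvections of `SL_{n+3}(F)`, `F` finite of characteristic 2, form a class of root
involutions (helper8). -/

namespace Cfsg.Agent.Helper8.SLRoot

open Matrix Cfsg Cfsg.Agent.Helper8.SLTrans
open scoped commutatorElement

variable {F : Type*} [Field F] {n : ℕ}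

theorem transvection_eq_tv' (i j : Fin (n + 3)) (c : F) :
    Matrix.transvection i j c = tv (c • Pi.single i 1) (Pi.single j 1) := by
  rw [Matrix.transvection, tv]
  congr 1
  ext a b
  simp only [Matrix.single_apply, vecMulVec_apply, Pi.smul_apply, Pi.single_apply, smul_eq_mul]
  by_cases ha : i = a
  · subst ha
    by_cases hb : j = b
    · subst hb
      simp
    · simp [hb, Ne.symm hb]
  · simp [ha, Ne.symm ha]

/-- the set of all transvections, as in the statement. -/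
def DD (F : Type*) [Field F] (n : ℕ) : Set (SpecialLinearGroup (Fin (n + 3)) F) :=
  {t | ∃ c : F, c ≠ 0 ∧ ∃ g : SpecialLinearGroup (Fin (n + 3)) F,
    ((g⁻¹ * t * g : SpecialLinearGroup (Fin (n + 3)) F) :
      Matrix (Fin (n + 3)) (Fin (n + 3)) F) = Matrix.transvection 0 1 c}

theorem mulVec_ne_zero'' (g : SpecialLinearGroup (Fin (n + 3)) F) {v : Fin (n + 3) → F}
    (hv : v ≠ 0) : (g : Matrix (Fin (n + 3)) (Fin (n + 3)) F) *ᵥ v ≠ 0 := by
  intro h
  apply hv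
  rw [← coe_inv_mulVec' g v, h, mulVec_zero]

theorem vecMul_ne_zero'' (g : SpecialLinearGroup (Fin (n + 3)) F) {φ : Fin (n + 3) → F}
    (hφ : φ ≠ 0) : φ ᵥ* (g : Matrix (Fin (n + 3)) (Fin (n + 3)) F) ≠ 0 := by
  intro h
  apply hφ
  have : (φ ᵥ* (g : Matrix (Fin (n + 3)) (Fin (n + 3)) F)) ᵥ*
      ((g⁻¹ : SpecialLinearGroup (Fin (n + 3)) F) : Matrix (Fin (n + 3)) (Fin (n + 3)) F) = φ := by
    rw [vecMul_vecMul, coe_mul_inv, vecMul_one]
  rw [← this, h, zero_vecMul]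

theorem e0_ne : e0 F n ≠ 0 := e0_ne_zero
theorem e1_ne : e1 F n ≠ 0 := e1_ne_zero

theorem mem_DD_iff (t : SpecialLinearGroup (Fin (n + 3)) F) :
    t ∈ DD F n ↔ ∃ (x φ : Fin (n + 3) → F) (h : φ ⬝ᵥ x = 0), x ≠ 0 ∧ φ ≠ 0 ∧ t = TV x φ h := by
  constructor
  · rintro ⟨c, hc, g, hg⟩
    have h1 : g⁻¹ * t * g = TV (c • e0 F n) (e1 F n) (e1_dot_smul_e0 c) := by
      apply Subtype.ext
      rw [hg, TV_coe, transvection_eq_tv]
    have h2 : t = g * TV (c • e0 F n) (e1 F n) (e1_dot_smul_e0 c) * g⁻¹ := by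
      rw [← h1]; group
    rw [conj_TV] at h2
    refine ⟨_, _, _, ?_, ?_, h2⟩
    · exact mulVec_ne_zero'' g (smul_ne_zero hc e0_ne)
    · exact vecMul_ne_zero'' g⁻¹ e1_ne
  · rintro ⟨x, φ, h, hx, hφ, rfl⟩
    obtain ⟨g, hg⟩ := exists_conj_TV hx hφ h
    refine ⟨1, one_ne_zero, g, ?_⟩
    rw [hg]
    have : g⁻¹ * (g * TV (e0 F n) (e1 F n) e1_dot_e0 * g⁻¹) * g = TV (e0 F n) (e1 F n) e1_dot_e0 := by
      group
    rw [this, TV_coe, transvection_eq_tv, one_smul]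

theorem TV_mem_DD {x φ : Fin (n + 3) → F} (h : φ ⬝ᵥ x = 0) (hx : x ≠ 0) (hφ : φ ≠ 0) :
    TV x φ h ∈ DD F n := (mem_DD_iff _).mpr ⟨x, φ, h, hx, hφ, rfl⟩

theorem TV_ne_one {x φ : Fin (n + 3) → F} (h : φ ⬝ᵥ x = 0) (hx : x ≠ 0) (hφ : φ ≠ 0) :
    TV x φ h ≠ 1 := by
  intro e
  have := congrArg (fun g : SpecialLinearGroup (Fin (n + 3)) F =>
    (g : Matrix (Fin (n + 3)) (Fin (n + 3)) F)) e
  simp only [TV_coe, Matrix.SpecialLinearGroup.coe_one] at this
  rcases (tv_eq_one_iff x φ).mp this with h1 | h1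
  · exact hx h1
  · exact hφ h1

theorem DD_conj_mem : ∀ d ∈ DD F n, ∀ g : SpecialLinearGroup (Fin (n + 3)) F,
    g * d * g⁻¹ ∈ DD F n := by
  rintro d ⟨c, hc, g₀, hg₀⟩ g
  refine ⟨c, hc, g * g₀, ?_⟩
  have : (g * g₀)⁻¹ * (g * d * g⁻¹) * (g * g₀) = g₀⁻¹ * d * g₀ := by group
  rw [this, hg₀]

theorem DD_nonempty : (DD F n).Nonempty :=
  ⟨_, TV_mem_DD e1_dot_e0 e0_ne e1_ne⟩

theorem DD_conj : ∀ a ∈ DD F n, ∀ b ∈ DD F n,
    ∃ g : SpecialLinearGroup (Fin (n + 3)) F, b = g * a * g⁻¹ := by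
  intro a ha b hb
  obtain ⟨x, φ, h, hx, hφ, rfl⟩ := (mem_DD_iff a).mp ha
  obtain ⟨y, ψ, h', hy, hψ, rfl⟩ := (mem_DD_iff b).mp hb
  obtain ⟨g, hg⟩ := exists_conj_TV hx hφ h
  obtain ⟨g', hg'⟩ := exists_conj_TV hy hψ h'
  refine ⟨g' * g⁻¹, ?_⟩
  rw [hg, hg']
  group

theorem DD_generates : Subgroup.closure (DD F n) = ⊤ := by
  rw [eq_top_iff]
  intro M _
  refine Cfsg.Agent.Helper7.Transv.transvection_induction
    (fun M => M ∈ Subgroup.closure (DD F n)) ?_ ?_ M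
  · intro i j hij a
    by_cases ha : a = 0
    · have : Matrix.SpecialLinearGroup.transvection hij a = 1 := by
        apply Subtype.ext
        rw [Matrix.SpecialLinearGroup.transvection_coe, ha, Matrix.SpecialLinearGroup.coe_one]
        exact Matrix.transvection_zero (R := F) (i := i) (j := j)
      rw [this]
      exact Subgroup.one_mem _
    · apply Subgroup.subset_closure
      have hd : (Pi.single j 1 : Fin (n + 3) → F) ⬝ᵥ (a • Pi.single i 1) = 0 := by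
        rw [dotProduct_smul, single_one_dotProduct, Pi.single_apply, if_neg (Ne.symm hij),
          smul_zero]
      have : Matrix.SpecialLinearGroup.transvection hij a
          = TV (a • Pi.single i 1) (Pi.single j 1) hd := by
        apply Subtype.ext
        rw [Matrix.SpecialLinearGroup.transvection_coe, TV_coe]
        exact transvection_eq_tv' i j a
      rw [this]
      exact TV_mem_DD hd (smul_ne_zero ha (Pi.single_ne_zero_iff.mpr one_ne_zero))
        (Pi.single_ne_zero_iff.mpr one_ne_zero)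
  · intro A B hA hB
    exact Subgroup.mul_mem _ hA hB

section CharTwo

variable [CharP F 2]

theorem TV_sq (x φ : Fin (n + 3) → F) (h : φ ⬝ᵥ x = 0) : TV x φ h * TV x φ h = 1 := by
  rw [TV_mul_same]
  apply Subtype.ext
  rw [TV_coe, Matrix.SpecialLinearGroup.coe_one, CharTwo.add_self_eq_zero, tv_zero_right]

theorem TV_inv_self (x φ : Fin (n + 3) → F) (h : φ ⬝ᵥ x = 0) : (TV x φ h)⁻¹ = TV x φ h :=
  inv_eq_of_mul_eq_one_left (TV_sq x φ h)

theorem orderOf_TV {x φ : Fin (n + 3) → F} (h : φ ⬝ᵥ x = 0) (hx : x ≠ 0) (hφ : φ ≠ 0) :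
    orderOf (TV x φ h) = 2 := by
  apply orderOf_eq_prime
  · rw [pow_two, TV_sq]
  · exact TV_ne_one h hx hφ

theorem sq_eq_commutator {x φ y ψ : Fin (n + 3) → F} (hx : φ ⬝ᵥ x = 0) (hy : ψ ⬝ᵥ y = 0) :
    (TV x φ hx * TV y ψ hy) ^ 2 = ⁅TV x φ hx, TV y ψ hy⁆ := by
  rw [commutatorElement_def, TV_inv_self, TV_inv_self, pow_two]
  group

end CharTwo

end Cfsg.Agent.Helper8.SLRoot
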