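import Mathlib
import Cfsg.Prelude.Def_RootSubgroups
import Cfsg.Agent.Helper8.SLRootC
import Cfsg.Agent.Helper7.RankOneOmega

set_option autoImplicit false

/-! The root groups `X(x, φ) = {1 + c x φ}` of `SL_{n+3}(F)`: basics (helper8). -/

namespace Cfsg.Agent.Helper8.SLRoot

open Matrix Cfsg Cfsg.Agent.Helper8.SLTrans Cfsg.Agent.Helper7.R1
open scoped commutatorElement

variable {F : Type*} [Field F] {n : ℕ}

theorem dot_smul_zero {x φ : Fin (n + 3) → F} (h : φ ⬝ᵥ x = 0) (c : F) : φ ⬝ᵥ (c • x) = 0 := by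
  rw [dotProduct_smul, h, smul_zero]

/-- the element `1 + c x φ`. -/
def TVc (x φ : Fin (n + 3) → F) (h : φ ⬝ᵥ x = 0) (c : F) : SpecialLinearGroup (Fin (n + 3)) F :=
  TV (c • x) φ (dot_smul_zero h c)

theorem TVc_mulVec (x φ : Fin (n + 3) → F) (h : φ ⬝ᵥ x = 0) (c : F) (v : Fin (n + 3) → F) :
    ((TVc x φ h c : SpecialLinearGroup (Fin (n + 3)) F) :
      Matrix (Fin (n + 3)) (Fin (n + 3)) F) *ᵥ v = v + (c * (φ ⬝ᵥ v)) • x := by
  rw [TVc, TV_mulVec, smul_smul, mul_comm]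

theorem TVc_mul (x φ : Fin (n + 3) → F) (h : φ ⬝ᵥ x = 0) (c d : F) :
    TVc x φ h c * TVc x φ h d = TVc x φ h (c + d) := by
  apply sl_ext
  intro v
  rw [coe_mul_mulVec, TVc_mulVec, TVc_mulVec, TVc_mulVec, dotProduct_add, dotProduct_smul, h,
    smul_zero, add_zero, add_mul, add_smul]
  abel

theorem TVc_zero (x φ : Fin (n + 3) → F) (h : φ ⬝ᵥ x = 0) : TVc x φ h 0 = 1 := by
  apply sl_ext
  intro v
  rw [TVc_mulVec, zero_mul, zero_smul, add_zero, Matrix.SpecialLinearGroup.coe_one, one_mulVec]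

theorem TVc_inv (x φ : Fin (n + 3) → F) (h : φ ⬝ᵥ x = 0) (c : F) :
    (TVc x φ h c)⁻¹ = TVc x φ h (-c) := by
  rw [inv_eq_iff_mul_eq_one, TVc_mul, add_neg_cancel, TVc_zero]

theorem TVc_eq_one_iff {x φ : Fin (n + 3) → F} (h : φ ⬝ᵥ x = 0) (hx : x ≠ 0) (hφ : φ ≠ 0) (c : F) :
    TVc x φ h c = 1 ↔ c = 0 := by
  constructor
  · intro e
    by_contra hc
    exact TV_ne_one (dot_smul_zero h c) (smul_ne_zero hc hx) hφ e
  · rintro rfl
    exact TVc_zero x φ h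

/-- the root group `X(x, φ)`. -/
def XG (x φ : Fin (n + 3) → F) (h : φ ⬝ᵥ x = 0) : Subgroup (SpecialLinearGroup (Fin (n + 3)) F) where
  carrier := {g | ∃ c : F, g = TVc x φ h c}
  mul_mem' := by
    rintro _ _ ⟨c, rfl⟩ ⟨d, rfl⟩
    exact ⟨c + d, TVc_mul x φ h c d⟩
  one_mem' := ⟨0, (TVc_zero x φ h).symm⟩
  inv_mem' := by
    rintro _ ⟨c, rfl⟩
    exact ⟨-c, TVc_inv x φ h c⟩

theorem mem_XG_iff {x φ : Fin (n + 3) → F} {h : φ ⬝ᵥ x = 0}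
    {g : SpecialLinearGroup (Fin (n + 3)) F} : g ∈ XG x φ h ↔ ∃ c : F, g = TVc x φ h c := Iff.rfl

theorem TVc_mem_XG (x φ : Fin (n + 3) → F) (h : φ ⬝ᵥ x = 0) (c : F) : TVc x φ h c ∈ XG x φ h :=
  ⟨c, rfl⟩

theorem XG_comm (x φ : Fin (n + 3) → F) (h : φ ⬝ᵥ x = 0) : IsMulCommutative ↥(XG x φ h) := by
  constructor; constructor
  rintro ⟨a, c, rfl⟩ ⟨b, d, rfl⟩
  apply Subtype.ext
  show TVc x φ h c * TVc x φ h d = TVc x φ h d * TVc x φ h c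
  rw [TVc_mul, TVc_mul, add_comm c d]

theorem XG_nilpotent (x φ : Fin (n + 3) → F) (h : φ ⬝ᵥ x = 0) : Group.IsNilpotent ↥(XG x φ h) :=
  ⟨1, Subgroup.upperCentralSeries_one_eq_top_iff.mpr (XG_comm x φ h)⟩

theorem XG_ne_bot {x φ : Fin (n + 3) → F} (h : φ ⬝ᵥ x = 0) (hx : x ≠ 0) (hφ : φ ≠ 0) :
    XG x φ h ≠ ⊥ := by
  intro e
  have h1 : TVc x φ h 1 ∈ XG x φ h := TVc_mem_XG x φ h 1
  rw [e, Subgroup.mem_bot, TVc_eq_one_iff h hx hφ] at h1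
  exact one_ne_zero h1

/-- equality of root groups from proportional data. -/
theorem XG_congr {x φ x' φ' : Fin (n + 3) → F} (h : φ ⬝ᵥ x = 0) (h' : φ' ⬝ᵥ x' = 0) {a b : F}
    (ha : a ≠ 0) (hb : b ≠ 0) (ex : x' = a • x) (eφ : φ' = b • φ) : XG x' φ' h' = XG x φ h := by
  subst ex eφ
  have key : ∀ c : F, TVc (a • x) (b • φ) h' c = TVc x φ h (c * a * b) := by
    intro c
    apply sl_ext
    intro v
    rw [TVc_mulVec, TVc_mulVec, smul_dotProduct, smul_smul, smul_eq_mul]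
    congr 2
    ring
  ext g
  rw [mem_XG_iff, mem_XG_iff]
  constructor
  · rintro ⟨c, rfl⟩
    exact ⟨_, key c⟩
  · rintro ⟨c, rfl⟩
    refine ⟨c * a⁻¹ * b⁻¹, ?_⟩
    rw [key]
    congr 1
    field_simp

theorem TVc_conj (g : SpecialLinearGroup (Fin (n + 3)) F) (x φ : Fin (n + 3) → F)
    (h : φ ⬝ᵥ x = 0) (c : F) :
    g * TVc x φ h c * g⁻¹ = TVc ((g : Matrix (Fin (n + 3)) (Fin (n + 3)) F) *ᵥ x)
      (φ ᵥ* ((g⁻¹ : SpecialLinearGroup (Fin (n + 3)) F) :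
        Matrix (Fin (n + 3)) (Fin (n + 3)) F)) (by rw [dot_conj, h]) c := by
  apply sl_ext
  intro v
  rw [coe_mul_mulVec, coe_mul_mulVec, TVc_mulVec, TVc_mulVec, mulVec_add, coe_inv_mulVec,
    mulVec_smul, ← dotProduct_mulVec]

theorem conjBy_XG (g : SpecialLinearGroup (Fin (n + 3)) F) (x φ : Fin (n + 3) → F)
    (h : φ ⬝ᵥ x = 0) :
    conjBy (XG x φ h) g = XG ((g : Matrix (Fin (n + 3)) (Fin (n + 3)) F) *ᵥ x)
      (φ ᵥ* ((g⁻¹ : SpecialLinearGroup (Fin (n + 3)) F) :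
        Matrix (Fin (n + 3)) (Fin (n + 3)) F)) (by rw [dot_conj, h]) := by
  ext y
  rw [mem_conjBy, mem_XG_iff, mem_XG_iff]
  constructor
  · rintro ⟨c, hc⟩
    refine ⟨c, ?_⟩
    rw [← TVc_conj g x φ h c, ← hc]
    group
  · rintro ⟨c, rfl⟩
    refine ⟨c, ?_⟩
    rw [← TVc_conj g x φ h c]
    group

/-- the standard root group of the statement. -/
def U01 (F : Type*) [Field F] (n : ℕ) : Subgroup (SpecialLinearGroup (Fin (n + 3)) F) :=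
  Subgroup.closure {t : SpecialLinearGroup (Fin (n + 3)) F |
    ∃ c : F, (t : Matrix (Fin (n + 3)) (Fin (n + 3)) F) = Matrix.transvection 0 1 c}

theorem U01_eq : U01 F n = XG (e0 F n) (e1 F n) e1_dot_e0 := by
  have : {t : SpecialLinearGroup (Fin (n + 3)) F |
      ∃ c : F, (t : Matrix (Fin (n + 3)) (Fin (n + 3)) F) = Matrix.transvection 0 1 c}
      = (XG (e0 F n) (e1 F n) e1_dot_e0 : Set (SpecialLinearGroup (Fin (n + 3)) F)) := by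
    ext t
    constructor
    · rintro ⟨c, hc⟩
      refine ⟨c, Subtype.ext ?_⟩
      rw [hc, transvection_eq_tv]
      rfl
    · rintro ⟨c, rfl⟩
      refine ⟨c, ?_⟩
      rw [transvection_eq_tv]
      rfl
  rw [U01, this, Subgroup.closure_eq]

/-- the class of root groups, as in the statement. -/
def SSL (F : Type*) [Field F] (n : ℕ) : Set (Subgroup (SpecialLinearGroup (Fin (n + 3)) F)) :=
  {A | ∃ g : SpecialLinearGroup (Fin (n + 3)) F, A = conjBy (U01 F n) g}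

theorem mem_SSL_iff (A : Subgroup (SpecialLinearGroup (Fin (n + 3)) F)) :
    A ∈ SSL F n ↔ ∃ (x φ : Fin (n + 3) → F) (h : φ ⬝ᵥ x = 0), x ≠ 0 ∧ φ ≠ 0 ∧ A = XG x φ h := by
  constructor
  · rintro ⟨g, rfl⟩
    rw [U01_eq, conjBy_XG]
    exact ⟨_, _, _, mulVec_ne_zero'' g e0_ne, vecMul_ne_zero'' g⁻¹ e1_ne, rfl⟩
  · rintro ⟨x, φ, h, hx, hφ, rfl⟩
    obtain ⟨g, hg0, hg1⟩ := exists_flag hx hφ h
    refine ⟨g, ?_⟩
    rw [U01_eq, conjBy_XG]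
    have hh1 : (g : Matrix (Fin (n + 3)) (Fin (n + 3)) F) *ᵥ e0 F n = x := hg0
    have hh2 : e1 F n ᵥ* ((g⁻¹ : SpecialLinearGroup (Fin (n + 3)) F) :
        Matrix (Fin (n + 3)) (Fin (n + 3)) F) = φ := by
      rw [← hg1, vecMul_vecMul, coe_mul_inv, vecMul_one]
    subst hh1 hh2
    rfl

theorem XG_mem_SSL {x φ : Fin (n + 3) → F} (h : φ ⬝ᵥ x = 0) (hx : x ≠ 0) (hφ : φ ≠ 0) :
    XG x φ h ∈ SSL F n := (mem_SSL_iff _).mpr ⟨x, φ, h, hx, hφ, rfl⟩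

theorem SSL_conj_mem : ∀ A ∈ SSL F n, ∀ g : SpecialLinearGroup (Fin (n + 3)) F,
    conjBy A g ∈ SSL F n := by
  rintro _ ⟨g₀, rfl⟩ g
  exact ⟨g * g₀, (conjBy_mul _ g g₀).symm⟩

theorem SSL_conjClass : IsConjClassOfSubgroups (SSL F n) := by
  constructor
  · exact ⟨_, 1, rfl⟩
  · rintro _ ⟨g₁, rfl⟩ _ ⟨g₂, rfl⟩
    refine ⟨g₂ * g₁⁻¹, ?_⟩
    rw [← conjBy_mul, inv_mul_cancel_right]

theorem SSL_generates : (⨆ A ∈ SSL F n, A) = ⊤ := by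
  rw [eq_top_iff, ← DD_generates, Subgroup.closure_le]
  intro t ht
  obtain ⟨x, φ, h, hx, hφ, rfl⟩ := (mem_DD_iff t).mp ht
  have h1 : XG x φ h ≤ ⨆ A ∈ SSL F n, A := le_biSup (fun A => A) (XG_mem_SSL h hx hφ)
  apply h1
  refine ⟨1, ?_⟩
  apply sl_ext
  intro v
  rw [TV_mulVec, TVc_mulVec, one_mul]

end Cfsg.Agent.Helper8.SLRoot
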