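import Mathlib
import Cfsg.Agent.Helper8.SLRootE

set_option autoImplicit false

/-! The root groups `X(x, φ)` of `SL_{n+3}(F)`: the three kinds of pairs (helper8). -/

namespace Cfsg.Agent.Helper8.SLRoot

open Matrix Cfsg Cfsg.Agent.Helper8.SLTrans Cfsg.Agent.Helper7.R1
open scoped commutatorElement

variable {F : Type*} [Field F] {n : ℕ}

theorem TVc_comm {x φ y ψ : Fin (n + 3) → F} (hx : φ ⬝ᵥ x = 0) (hy : ψ ⬝ᵥ y = 0)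
    (h1 : φ ⬝ᵥ y = 0) (h2 : ψ ⬝ᵥ x = 0) (c d : F) :
    TVc x φ hx c * TVc y ψ hy d = TVc y ψ hy d * TVc x φ hx c :=
  TV_comm _ _ (dot_smul_zero h1 d) (dot_smul_zero h2 c)

theorem XG_commutator_eq_bot {x φ y ψ : Fin (n + 3) → F} (hx : φ ⬝ᵥ x = 0) (hy : ψ ⬝ᵥ y = 0)
    (h1 : φ ⬝ᵥ y = 0) (h2 : ψ ⬝ᵥ x = 0) : ⁅XG x φ hx, XG y ψ hy⁆ = ⊥ := by
  rw [Subgroup.commutator_eq_bot_iff_le_centralizer]
  rintro a ⟨c, rfl⟩
  rw [Subgroup.mem_centralizer_iff]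
  rintro b ⟨d, rfl⟩
  exact (TVc_comm hx hy h1 h2 c d).symm

/-- the commutator of two root elements when `ψ x = 0`. -/
theorem TVc_commutator {x φ y ψ : Fin (n + 3) → F} (hx : φ ⬝ᵥ x = 0) (hy : ψ ⬝ᵥ y = 0)
    (h2 : ψ ⬝ᵥ x = 0) (c d : F) :
    ⁅TVc x φ hx c, TVc y ψ hy d⁆ = TVc x ψ h2 (c * d * (φ ⬝ᵥ y)) := by
  rw [TVc, TVc, TV_commutator _ _ (dot_smul_zero h2 c)]
  apply sl_ext
  intro v
  rw [TV_mulVec, TVc_mulVec, dotProduct_smul, smul_smul, smul_smul, smul_eq_mul]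
  congr 2
  ring

/-- the centre of a root group is determined by the group. -/
theorem center_of_XG_eq {x φ y ψ : Fin (n + 3) → F} (hx : φ ⬝ᵥ x = 0) (hy : ψ ⬝ᵥ y = 0)
    (hφ : φ ≠ 0) (e : XG x φ hx = XG y ψ hy) : ∃ a : F, x = a • y := by
  have h1 : TVc x φ hx 1 ∈ XG y ψ hy := e ▸ TVc_mem_XG x φ hx 1
  obtain ⟨d, hd⟩ := h1
  obtain ⟨i, hi⟩ : ∃ i, φ i ≠ 0 := by
    by_contra hcon
    push Not at hcon
    exact hφ (funext hcon)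
  have h2 := congrArg (fun g : SpecialLinearGroup (Fin (n + 3)) F =>
    (g : Matrix (Fin (n + 3)) (Fin (n + 3)) F) *ᵥ Pi.single i (φ i)⁻¹) hd
  simp only [TVc_mulVec, dotProduct_single, mul_inv_cancel₀ hi, one_mul, one_smul] at h2
  exact ⟨_, add_left_cancel h2⟩

theorem XG_ne_of_dot {x φ y ψ : Fin (n + 3) → F} (hx : φ ⬝ᵥ x = 0) (hy : ψ ⬝ᵥ y = 0)
    (hψ : ψ ≠ 0) (h1 : φ ⬝ᵥ y ≠ 0) : XG y ψ hy ≠ XG x φ hx := by
  intro e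
  obtain ⟨a, ha⟩ := center_of_XG_eq hy hx hψ e
  rw [ha, dotProduct_smul, hx, smul_zero] at h1
  exact h1 rfl

theorem rankOneCondition_XG {x φ y ψ : Fin (n + 3) → F} (hx : φ ⬝ᵥ x = 0) (hy : ψ ⬝ᵥ y = 0)
    (hx0 : x ≠ 0) (hφ0 : φ ≠ 0) (hy0 : y ≠ 0) (hψ0 : ψ ≠ 0) (h1 : φ ⬝ᵥ y ≠ 0) (h2 : ψ ⬝ᵥ x ≠ 0) :
    RankOneCondition (XG x φ hx) (XG y ψ hy) := by
  rintro a ⟨c, rfl⟩ ha1
  have hc : c ≠ 0 := fun h0 => ha1 ((TVc_eq_one_iff hx hx0 hφ0 c).mpr h0)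
  obtain ⟨s₁, hs₁⟩ : ∃ s₁, s₁ = φ ⬝ᵥ y := ⟨_, rfl⟩
  obtain ⟨s₂, hs₂⟩ : ∃ s₂, s₂ = ψ ⬝ᵥ x := ⟨_, rfl⟩
  have h1' : s₁ ≠ 0 := hs₁ ▸ h1
  have h2' : s₂ ≠ 0 := hs₂ ▸ h2
  have hd : (c * s₁ * s₂)⁻¹ ≠ 0 := inv_ne_zero (mul_ne_zero (mul_ne_zero hc h1') h2')
  refine ⟨TVc y ψ hy (c * s₁ * s₂)⁻¹, TVc_mem_XG _ _ _ _, ?_, ?_⟩
  · intro e
    exact hd ((TVc_eq_one_iff hy hy0 hψ0 _).mp e)
  · rw [conjBy_XG, conjBy_XG]
    have hs₂0 : -((c * s₁ * s₂)⁻¹ * s₂) ≠ 0 := neg_ne_zero.mpr (mul_ne_zero hd h2')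
    have hs₁0 : (c * s₁ * s₂)⁻¹ * s₁ ≠ 0 := mul_ne_zero hd h1'
    refine XG_congr _ _ hs₂0 hs₁0 ?_ ?_
    · rw [TVc_inv, TVc_inv, TVc_mulVec, TVc_mulVec, ← hs₁, ← hs₂, smul_add, smul_smul]
      have e1 : -((c * s₁ * s₂)⁻¹ * s₂) * (-c * s₁) = 1 := by field_simp
      rw [e1, one_smul, add_comm x]
      congr 2
      ring
    · rw [inv_inv, inv_inv, TVc, TVc, TV_coe, TV_coe, tv_vecMul, tv_vecMul, dotProduct_smul,
        dotProduct_smul, ← hs₁, ← hs₂, smul_add, smul_smul, smul_eq_mul, smul_eq_mul]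
      have e1 : (c * s₁ * s₂)⁻¹ * s₁ * (c * s₂) = 1 := by field_simp
      rw [e1, one_smul, add_comm φ]

theorem isRankOnePair_XG {x φ y ψ : Fin (n + 3) → F} (hx : φ ⬝ᵥ x = 0) (hy : ψ ⬝ᵥ y = 0)
    (hx0 : x ≠ 0) (hφ0 : φ ≠ 0) (hy0 : y ≠ 0) (hψ0 : ψ ≠ 0) (h1 : φ ⬝ᵥ y ≠ 0) (h2 : ψ ⬝ᵥ x ≠ 0) :
    IsRankOnePair (XG x φ hx) (XG y ψ hy) :=
  ⟨(XG_ne_of_dot hy hx hφ0 h2), XG_nilpotent x φ hx, XG_nilpotent y ψ hy,
    rankOneCondition_XG hx hy hx0 hφ0 hy0 hψ0 h1 h2,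
    rankOneCondition_XG hy hx hy0 hψ0 hx0 hφ0 h2 h1⟩

/-- a rank one pair of root groups has `φ y ≠ 0 ≠ ψ x`. -/
theorem dot_ne_of_isRankOnePair {x φ y ψ : Fin (n + 3) → F} (hx : φ ⬝ᵥ x = 0) (hy : ψ ⬝ᵥ y = 0)
    (hx0 : x ≠ 0) (hφ0 : φ ≠ 0)
    (hp : IsRankOnePair (XG x φ hx) (XG y ψ hy)) : ψ ⬝ᵥ x ≠ 0 := by
  intro h2
  have ha1 : TVc x φ hx 1 ≠ 1 := fun e => one_ne_zero ((TVc_eq_one_iff hx hx0 hφ0 1).mp e)
  obtain ⟨b, ⟨d, rfl⟩, -, hb2⟩ := hp.cond_left _ (TVc_mem_XG x φ hx 1) ha1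
  rw [conjBy_XG, conjBy_XG] at hb2
  have hφ' : φ ᵥ* (((TVc y ψ hy d)⁻¹⁻¹ : SpecialLinearGroup (Fin (n + 3)) F) :
      Matrix (Fin (n + 3)) (Fin (n + 3)) F) ≠ 0 := vecMul_ne_zero'' _ hφ0
  obtain ⟨a, ha⟩ := center_of_XG_eq _ _ hφ' hb2
  rw [TVc_inv, TVc_inv, TVc_mulVec, TVc_mulVec, h2, mul_zero, zero_smul, add_zero] at ha
  -- x = a • (y - (φ y) x)
  have h3 := congrArg (fun v => ψ ⬝ᵥ v) ha
  simp only [dotProduct_smul, dotProduct_add, h2, hy, smul_zero, add_zero] at h3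
  -- no information; use the group inequality instead
  by_cases h1 : φ ⬝ᵥ y = 0
  · -- the groups commute, so both conjugates are the groups themselves
    rw [h1, mul_zero, zero_smul, add_zero] at ha
    have e1 : XG y ψ hy = XG x φ hx := by
      have hb3 := hb2
      have hx' : (((TVc y ψ hy d)⁻¹ : SpecialLinearGroup (Fin (n + 3)) F) :
          Matrix (Fin (n + 3)) (Fin (n + 3)) F) *ᵥ x = x := by
        rw [TVc_inv, TVc_mulVec, h2, mul_zero, zero_smul, add_zero]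
      have hy' : (((TVc x φ hx 1)⁻¹ : SpecialLinearGroup (Fin (n + 3)) F) :
          Matrix (Fin (n + 3)) (Fin (n + 3)) F) *ᵥ y = y := by
        rw [TVc_inv, TVc_mulVec, h1, mul_zero, zero_smul, add_zero]
      have hφ'' : φ ᵥ* (((TVc y ψ hy d)⁻¹⁻¹ : SpecialLinearGroup (Fin (n + 3)) F) :
          Matrix (Fin (n + 3)) (Fin (n + 3)) F) = φ := by
        rw [inv_inv, TVc, TV_coe, tv_vecMul, dotProduct_smul, h1, smul_zero, zero_smul, add_zero]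
      have hψ'' : ψ ᵥ* (((TVc x φ hx 1)⁻¹⁻¹ : SpecialLinearGroup (Fin (n + 3)) F) :
          Matrix (Fin (n + 3)) (Fin (n + 3)) F) = ψ := by
        rw [inv_inv, TVc, TV_coe, tv_vecMul, dotProduct_smul, h2, smul_zero, zero_smul, add_zero]
      have k1 := XG_congr hx (by rw [hx', hφ'']; exact hx) one_ne_zero one_ne_zero
        (x' := (((TVc y ψ hy d)⁻¹ : SpecialLinearGroup (Fin (n + 3)) F) :
          Matrix (Fin (n + 3)) (Fin (n + 3)) F) *ᵥ x)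
        (φ' := φ ᵥ* (((TVc y ψ hy d)⁻¹⁻¹ : SpecialLinearGroup (Fin (n + 3)) F) :
          Matrix (Fin (n + 3)) (Fin (n + 3)) F)) (by rw [hx', one_smul]) (by rw [hφ'', one_smul])
      have k2 := XG_congr hy (by rw [hy', hψ'']; exact hy) one_ne_zero one_ne_zero
        (x' := (((TVc x φ hx 1)⁻¹ : SpecialLinearGroup (Fin (n + 3)) F) :
          Matrix (Fin (n + 3)) (Fin (n + 3)) F) *ᵥ y)
        (φ' := ψ ᵥ* (((TVc x φ hx 1)⁻¹⁻¹ : SpecialLinearGroup (Fin (n + 3)) F) :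
          Matrix (Fin (n + 3)) (Fin (n + 3)) F)) (by rw [hy', one_smul]) (by rw [hψ'', one_smul])
      rw [← k1, ← k2]
      exact hb3.symm
    exact hp.ne e1.symm
  · -- x is proportional to y - (φ y) x, so y is proportional to x, contradiction
    have h4 := congrArg (fun v => φ ⬝ᵥ v) ha
    simp only [dotProduct_smul, dotProduct_add, hx, smul_eq_mul, mul_zero, add_zero] at h4
    -- 0 = a * φ y
    rcases mul_eq_zero.mp h4.symm with h5 | h5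
    · rw [h5, zero_smul] at ha
      exact hx0 ha
    · exact h1 h5

end Cfsg.Agent.Helper8.SLRoot
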