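import Mathlib
import Cfsg.Agent.Helper8.SLRootF

set_option autoImplicit false

/-! The root groups `X(x, φ)` of `SL_{n+3}(F)`: the commutator case (helper8). -/

namespace Cfsg.Agent.Helper8.SLRoot

open Matrix Cfsg Cfsg.Agent.Helper8.SLTrans Cfsg.Agent.Helper7.R1
open scoped commutatorElement Pointwise

variable {F : Type*} [Field F] {n : ℕ}

theorem XG_commutator_eq {x φ y ψ : Fin (n + 3) → F} (hx : φ ⬝ᵥ x = 0) (hy : ψ ⬝ᵥ y = 0)
    (h1 : φ ⬝ᵥ y ≠ 0) (h2 : ψ ⬝ᵥ x = 0) : ⁅XG x φ hx, XG y ψ hy⁆ = XG x ψ h2 := by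
  apply le_antisymm
  · rw [Subgroup.commutator_le]
    rintro a ⟨c, rfl⟩ b ⟨d, rfl⟩
    rw [TVc_commutator hx hy h2]
    exact TVc_mem_XG _ _ _ _
  · rintro g ⟨e, rfl⟩
    have : TVc x ψ h2 e = ⁅TVc x φ hx 1, TVc y ψ hy (e * (φ ⬝ᵥ y)⁻¹)⁆ := by
      rw [TVc_commutator hx hy h2]
      congr 1
      field_simp
    rw [this]
    exact Subgroup.commutator_mem_commutator (TVc_mem_XG _ _ _ _) (TVc_mem_XG _ _ _ _)

/-- the commutator case for root groups with `φ y ≠ 0`, `ψ x = 0`. -/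
theorem commutatorCase_XG {x φ y ψ : Fin (n + 3) → F} (hx : φ ⬝ᵥ x = 0) (hy : ψ ⬝ᵥ y = 0)
    (hx0 : x ≠ 0) (hφ0 : φ ≠ 0) (hy0 : y ≠ 0) (hψ0 : ψ ≠ 0) (h1 : φ ⬝ᵥ y ≠ 0) (h2 : ψ ⬝ᵥ x = 0) :
    RootCommutatorCase (SSL F n) (XG x φ hx) (XG y ψ hy) := by
  rw [RootCommutatorCase, XG_commutator_eq hx hy h1 h2]
  refine ⟨XG_mem_SSL h2 hx0 hψ0, ?_, ?_, ?_⟩
  · rintro c ⟨e, rfl⟩ z hz
    refine sup_induction' (p := fun z => TVc x ψ h2 e * z = z * TVc x ψ h2 e) ?_ ?_ ?_ ?_ hz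
    · rintro a ⟨c, rfl⟩
      exact TVc_comm h2 hx h2 hx e c
    · rintro b ⟨d, rfl⟩
      exact TVc_comm h2 hy hy h2 e d
    · rw [mul_one, one_mul]
    · intro u v hu hv
      rw [← mul_assoc, hu, mul_assoc, hv, mul_assoc]
  · rintro a ⟨c, rfl⟩ ha1
    have hc : c ≠ 0 := fun h0 => ha1 ((TVc_eq_one_iff hx hx0 hφ0 c).mpr h0)
    have hset : (fun b => TVc x φ hx c * b * (TVc x φ hx c)⁻¹ * b⁻¹) ''
        (XG y ψ hy : Set (SpecialLinearGroup (Fin (n + 3)) F))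
        = (XG x ψ h2 : Set (SpecialLinearGroup (Fin (n + 3)) F)) := by
      ext g
      constructor
      · rintro ⟨b, ⟨d, rfl⟩, rfl⟩
        show ⁅TVc x φ hx c, TVc y ψ hy d⁆ ∈ XG x ψ h2
        rw [TVc_commutator hx hy h2]
        exact TVc_mem_XG _ _ _ _
      · rintro ⟨e, rfl⟩
        refine ⟨TVc y ψ hy (e * (c * (φ ⬝ᵥ y))⁻¹), TVc_mem_XG _ _ _ _, ?_⟩
        show ⁅TVc x φ hx c, TVc y ψ hy (e * (c * (φ ⬝ᵥ y))⁻¹)⁆ = TVc x ψ h2 e
        rw [TVc_commutator hx hy h2]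
        congr 1
        field_simp
    rw [hset, Subgroup.closure_eq]
  · rintro b ⟨d, rfl⟩ hb1
    have hd : d ≠ 0 := fun h0 => hb1 ((TVc_eq_one_iff hy hy0 hψ0 d).mpr h0)
    have hset : (fun a => a * TVc y ψ hy d * a⁻¹ * (TVc y ψ hy d)⁻¹) ''
        (XG x φ hx : Set (SpecialLinearGroup (Fin (n + 3)) F))
        = (XG x ψ h2 : Set (SpecialLinearGroup (Fin (n + 3)) F)) := by
      ext g
      constructor
      · rintro ⟨a, ⟨c, rfl⟩, rfl⟩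
        show ⁅TVc x φ hx c, TVc y ψ hy d⁆ ∈ XG x ψ h2
        rw [TVc_commutator hx hy h2]
        exact TVc_mem_XG _ _ _ _
      · rintro ⟨e, rfl⟩
        refine ⟨TVc x φ hx (e * (d * (φ ⬝ᵥ y))⁻¹), TVc_mem_XG _ _ _ _, ?_⟩
        show ⁅TVc x φ hx (e * (d * (φ ⬝ᵥ y))⁻¹), TVc y ψ hy d⁆ = TVc x ψ h2 e
        rw [TVc_commutator hx hy h2]
        congr 1
        field_simp
    rw [hset, Subgroup.closure_eq]

/-- the commutator case is symmetric. -/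
theorem commutatorCase_symm {G : Type*} [Group G] {S : Set (Subgroup G)} {A B : Subgroup G}
    (h : RootCommutatorCase S B A) : RootCommutatorCase S A B := by
  obtain ⟨h1, h2, h3, h4⟩ := h
  have hcomm : ⁅A, B⁆ = ⁅B, A⁆ := Subgroup.commutator_comm A B
  have hinv : ∀ (T : Subgroup G) (f g : G → G), (∀ t, f t = (g t)⁻¹) →
      Subgroup.closure (f '' (T : Set G)) = Subgroup.closure (g '' (T : Set G)) := by
    intro T f g hfg
    have : f '' (T : Set G) = (g '' (T : Set G))⁻¹ := by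
      ext z
      rw [Set.mem_inv]
      constructor
      · rintro ⟨t, ht, rfl⟩
        exact ⟨t, ht, by rw [hfg, inv_inv]⟩
      · rintro ⟨t, ht, e⟩
        exact ⟨t, ht, by rw [hfg, e, inv_inv]⟩
    rw [this, Subgroup.closure_inv]
  refine ⟨hcomm ▸ h1, ?_, ?_, ?_⟩
  · intro c hc z hz
    rw [hcomm] at hc
    rw [sup_comm] at hz
    exact h2 c hc z hz
  · intro a ha ha1
    rw [hcomm, ← h4 a ha ha1]
    exact hinv B _ _ (fun t => by group)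
  · intro b hb hb1
    rw [hcomm, ← h3 b hb hb1]
    exact hinv A _ _ (fun t => by group)

theorem SSL_pair : ∀ A ∈ SSL F n, ∀ B ∈ SSL F n,
    ⁅A, B⁆ = ⊥ ∨ IsRankOnePair A B ∨ RootCommutatorCase (SSL F n) A B := by
  intro A hA B hB
  obtain ⟨x, φ, hx, hx0, hφ0, rfl⟩ := (mem_SSL_iff A).mp hA
  obtain ⟨y, ψ, hy, hy0, hψ0, rfl⟩ := (mem_SSL_iff B).mp hB
  by_cases h1 : φ ⬝ᵥ y = 0
  · by_cases h2 : ψ ⬝ᵥ x = 0
    · exact Or.inl (XG_commutator_eq_bot hx hy h1 h2)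
    · exact Or.inr (Or.inr (commutatorCase_symm
        (commutatorCase_XG hy hx hy0 hψ0 hx0 hφ0 h2 h1)))
  · by_cases h2 : ψ ⬝ᵥ x = 0
    · exact Or.inr (Or.inr (commutatorCase_XG hx hy hx0 hφ0 hy0 hψ0 h1 h2))
    · exact Or.inr (Or.inl (isRankOnePair_XG hx hy hx0 hφ0 hy0 hψ0 h1 h2))

theorem SSL_isRootSubgroupSet : IsRootSubgroupSet (SSL F n) where
  commutative := by
    intro A hA
    obtain ⟨x, φ, hx, -, -, rfl⟩ := (mem_SSL_iff A).mp hA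
    exact XG_comm x φ hx
  ne_bot := by
    intro A hA
    obtain ⟨x, φ, hx, hx0, hφ0, rfl⟩ := (mem_SSL_iff A).mp hA
    exact XG_ne_bot hx hx0 hφ0
  generates := SSL_generates
  conj_mem := SSL_conj_mem
  pair := SSL_pair

end Cfsg.Agent.Helper8.SLRoot
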