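import Mathlib
import Cfsg.Agent.Helper8.SLRootG
import Cfsg.Agent.S5016

set_option autoImplicit false

/-! The root groups `X(x, φ)` of `SL_{n+3}(F)`: the `SL₂` of a rank one pair (helper8). -/

namespace Cfsg.Agent.Helper8.SLRoot

open Matrix Cfsg Cfsg.Agent.Helper8.SLTrans Cfsg.Agent.Helper7.R1

variable {F : Type*} [Field F] {n : ℕ}

/-- the matrix with columns `x`, `y`. -/
def Umat (x y : Fin (n + 3) → F) : Matrix (Fin (n + 3)) (Fin 2) F := Matrix.of fun i j => ![x i, y i] j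

/-- the matrix with rows `ψ`, `φ`. -/
def Wmat (ψ φ : Fin (n + 3) → F) : Matrix (Fin 2) (Fin (n + 3)) F := Matrix.of ![ψ, φ]

theorem Umat_mulVec (x y : Fin (n + 3) → F) (w : Fin 2 → F) :
    Umat x y *ᵥ w = w 0 • x + w 1 • y := by
  ext i
  simp [Umat, Matrix.mulVec, dotProduct, Fin.sum_univ_two, mul_comm]

theorem Wmat_mulVec (ψ φ v : Fin (n + 3) → F) : Wmat ψ φ *ᵥ v = ![ψ ⬝ᵥ v, φ ⬝ᵥ v] := by
  ext i
  fin_cases i <;> simp [Wmat, Matrix.mulVec]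

theorem Wmat_mul_Umat {x φ y ψ : Fin (n + 3) → F} (hx : φ ⬝ᵥ x = 0) (hy : ψ ⬝ᵥ y = 0)
    (h1 : φ ⬝ᵥ y = 1) (h2 : ψ ⬝ᵥ x = 1) : Wmat ψ φ * Umat x y = 1 := by
  ext i j
  fin_cases i <;> fin_cases j <;>
    simp [Wmat, Umat, Matrix.mul_apply, dotProduct] at * <;> assumption

/-- the matrix acting as `M` on `⟨x, y⟩` and trivially on `ker φ ∩ ker ψ`. -/
def PsiMat (x φ y ψ : Fin (n + 3) → F) (M : Matrix (Fin 2) (Fin 2) F) :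
    Matrix (Fin (n + 3)) (Fin (n + 3)) F := 1 + Umat x y * (M - 1) * Wmat ψ φ

theorem PsiMat_mulVec (x φ y ψ : Fin (n + 3) → F) (M : Matrix (Fin 2) (Fin 2) F)
    (v : Fin (n + 3) → F) :
    PsiMat x φ y ψ M *ᵥ v = v + ((M 0 0 - 1) * (ψ ⬝ᵥ v) + M 0 1 * (φ ⬝ᵥ v)) • x
      + (M 1 0 * (ψ ⬝ᵥ v) + (M 1 1 - 1) * (φ ⬝ᵥ v)) • y := by
  rw [PsiMat, add_mulVec, one_mulVec, ← mulVec_mulVec, ← mulVec_mulVec, Wmat_mulVec, Umat_mulVec,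
    add_assoc]
  congr 2 <;> simp [Matrix.mulVec, dotProduct, Fin.sum_univ_two]

theorem det_PsiMat {x φ y ψ : Fin (n + 3) → F} (hx : φ ⬝ᵥ x = 0) (hy : ψ ⬝ᵥ y = 0)
    (h1 : φ ⬝ᵥ y = 1) (h2 : ψ ⬝ᵥ x = 1) (M : Matrix (Fin 2) (Fin 2) F) :
    (PsiMat x φ y ψ M).det = M.det := by
  rw [PsiMat, det_one_add_mul_comm, ← Matrix.mul_assoc, Wmat_mul_Umat hx hy h1 h2, Matrix.one_mul,
    add_sub_cancel]

theorem PsiMat_mul {x φ y ψ : Fin (n + 3) → F} (hx : φ ⬝ᵥ x = 0) (hy : ψ ⬝ᵥ y = 0)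
    (h1 : φ ⬝ᵥ y = 1) (h2 : ψ ⬝ᵥ x = 1) (M N : Matrix (Fin 2) (Fin 2) F) :
    PsiMat x φ y ψ (M * N) = PsiMat x φ y ψ M * PsiMat x φ y ψ N := by
  have hWU := Wmat_mul_Umat hx hy h1 h2
  have e : M * N - 1 = (M - 1) + (N - 1) + (M - 1) * (N - 1) := by noncomm_ring
  have key : Umat x y * (M - 1) * Wmat ψ φ * (Umat x y * (N - 1) * Wmat ψ φ)
      = Umat x y * ((M - 1) * (N - 1)) * Wmat ψ φ := by
    calc Umat x y * (M - 1) * Wmat ψ φ * (Umat x y * (N - 1) * Wmat ψ φ)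
        = Umat x y * (M - 1) * (Wmat ψ φ * Umat x y) * (N - 1) * Wmat ψ φ := by
          simp only [Matrix.mul_assoc]
      _ = Umat x y * ((M - 1) * (N - 1)) * Wmat ψ φ := by
          rw [hWU, Matrix.mul_one]
          simp only [Matrix.mul_assoc]
  rw [PsiMat, PsiMat, PsiMat, e, mul_add, mul_one, add_mul, one_mul, key, Matrix.mul_add,
    Matrix.mul_add, Matrix.add_mul, Matrix.add_mul]
  abel

theorem PsiMat_one (x φ y ψ : Fin (n + 3) → F) : PsiMat x φ y ψ 1 = 1 := by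
  rw [PsiMat, sub_self, Matrix.mul_zero, Matrix.zero_mul, add_zero]

theorem PsiMat_injective {x φ y ψ : Fin (n + 3) → F} (hx : φ ⬝ᵥ x = 0) (hy : ψ ⬝ᵥ y = 0)
    (h1 : φ ⬝ᵥ y = 1) (h2 : ψ ⬝ᵥ x = 1) {M : Matrix (Fin 2) (Fin 2) F}
    (h : PsiMat x φ y ψ M = 1) : M = 1 := by
  have hWU := Wmat_mul_Umat hx hy h1 h2
  rw [PsiMat, add_eq_left] at h
  have h3 : Wmat ψ φ * (Umat x y * (M - 1) * Wmat ψ φ) * Umat x y = 0 := by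
    rw [h, Matrix.mul_zero, Matrix.zero_mul]
  have h4 : Wmat ψ φ * (Umat x y * (M - 1) * Wmat ψ φ) * Umat x y
      = (Wmat ψ φ * Umat x y) * (M - 1) * (Wmat ψ φ * Umat x y) := by
    simp only [Matrix.mul_assoc]
  rw [h4, hWU, Matrix.one_mul, Matrix.mul_one] at h3
  exact sub_eq_zero.mp h3

/-- the homomorphism `SL₂(F) → SL_{n+3}(F)` of a rank one pair. -/
def Psi {x φ y ψ : Fin (n + 3) → F} (hx : φ ⬝ᵥ x = 0) (hy : ψ ⬝ᵥ y = 0)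
    (h1 : φ ⬝ᵥ y = 1) (h2 : ψ ⬝ᵥ x = 1) :
    Matrix.SpecialLinearGroup (Fin 2) F →* SpecialLinearGroup (Fin (n + 3)) F where
  toFun M := ⟨PsiMat x φ y ψ (M : Matrix (Fin 2) (Fin 2) F), by
    rw [det_PsiMat hx hy h1 h2]; exact M.det_coe⟩
  map_one' := Subtype.ext (by
    show PsiMat x φ y ψ ((1 : Matrix.SpecialLinearGroup (Fin 2) F) : Matrix (Fin 2) (Fin 2) F) = 1
    rw [Matrix.SpecialLinearGroup.coe_one, PsiMat_one])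
  map_mul' M N := Subtype.ext (by
    show PsiMat x φ y ψ ((M * N : Matrix.SpecialLinearGroup (Fin 2) F) :
        Matrix (Fin 2) (Fin 2) F) = PsiMat x φ y ψ M * PsiMat x φ y ψ N
    rw [Matrix.SpecialLinearGroup.coe_mul, PsiMat_mul hx hy h1 h2])

theorem Psi_coe {x φ y ψ : Fin (n + 3) → F} (hx : φ ⬝ᵥ x = 0) (hy : ψ ⬝ᵥ y = 0)
    (h1 : φ ⬝ᵥ y = 1) (h2 : ψ ⬝ᵥ x = 1) (M : Matrix.SpecialLinearGroup (Fin 2) F) :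
    ((Psi hx hy h1 h2 M : SpecialLinearGroup (Fin (n + 3)) F) :
      Matrix (Fin (n + 3)) (Fin (n + 3)) F) = PsiMat x φ y ψ (M : Matrix (Fin 2) (Fin 2) F) := rfl

theorem Psi_injective {x φ y ψ : Fin (n + 3) → F} (hx : φ ⬝ᵥ x = 0) (hy : ψ ⬝ᵥ y = 0)
    (h1 : φ ⬝ᵥ y = 1) (h2 : ψ ⬝ᵥ x = 1) : Function.Injective (Psi hx hy h1 h2) := by
  rw [injective_iff_map_eq_one]
  intro M hM
  apply Subtype.ext
  rw [Matrix.SpecialLinearGroup.coe_one]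
  apply PsiMat_injective hx hy h1 h2
  rw [← Psi_coe hx hy h1 h2, hM, Matrix.SpecialLinearGroup.coe_one]

theorem Psi_up {x φ y ψ : Fin (n + 3) → F} (hx : φ ⬝ᵥ x = 0) (hy : ψ ⬝ᵥ y = 0)
    (h1 : φ ⬝ᵥ y = 1) (h2 : ψ ⬝ᵥ x = 1) (s : F) :
    Psi hx hy h1 h2 (Cfsg.Agent.S5016.up s) = TVc x φ hx s := by
  apply sl_ext
  intro v
  rw [Psi_coe, PsiMat_mulVec, TVc_mulVec, Cfsg.Agent.S5016.up_coe]
  simp

theorem Psi_lo {x φ y ψ : Fin (n + 3) → F} (hx : φ ⬝ᵥ x = 0) (hy : ψ ⬝ᵥ y = 0)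
    (h1 : φ ⬝ᵥ y = 1) (h2 : ψ ⬝ᵥ x = 1) (t : F) :
    Psi hx hy h1 h2 (Cfsg.Agent.S5016.lo t) = TVc y ψ hy t := by
  apply sl_ext
  intro v
  rw [Psi_coe, PsiMat_mulVec, TVc_mulVec, Cfsg.Agent.S5016.lo_coe]
  simp

theorem map_upper' {x φ y ψ : Fin (n + 3) → F} (hx : φ ⬝ᵥ x = 0) (hy : ψ ⬝ᵥ y = 0)
    (h1 : φ ⬝ᵥ y = 1) (h2 : ψ ⬝ᵥ x = 1) :
    (Cfsg.Agent.S5016.fixer (![1, 0] : Fin 2 → F)).map (Psi hx hy h1 h2) = XG x φ hx := by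
  ext g
  rw [Subgroup.mem_map, mem_XG_iff]
  constructor
  · rintro ⟨z, hz, rfl⟩
    rw [Cfsg.Agent.S5016.eq_up hz, Psi_up]
    exact ⟨_, rfl⟩
  · rintro ⟨c, rfl⟩
    exact ⟨Cfsg.Agent.S5016.up c, Cfsg.Agent.S5016.up_mem _, Psi_up hx hy h1 h2 c⟩

theorem map_lower' {x φ y ψ : Fin (n + 3) → F} (hx : φ ⬝ᵥ x = 0) (hy : ψ ⬝ᵥ y = 0)
    (h1 : φ ⬝ᵥ y = 1) (h2 : ψ ⬝ᵥ x = 1) :
    (Cfsg.Agent.S5016.fixer (![0, 1] : Fin 2 → F)).map (Psi hx hy h1 h2) = XG y ψ hy := by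
  ext g
  rw [Subgroup.mem_map, mem_XG_iff]
  constructor
  · rintro ⟨z, hz, rfl⟩
    rw [Cfsg.Agent.S5016.eq_lo hz, Psi_lo]
    exact ⟨_, rfl⟩
  · rintro ⟨c, rfl⟩
    exact ⟨Cfsg.Agent.S5016.lo c, Cfsg.Agent.S5016.lo_mem _, Psi_lo hx hy h1 h2 c⟩

theorem isPSL2PairOver_XG_one {x φ y ψ : Fin (n + 3) → F} (hx : φ ⬝ᵥ x = 0) (hy : ψ ⬝ᵥ y = 0)
    (h1 : φ ⬝ᵥ y = 1) (h2 : ψ ⬝ᵥ x = 1) : IsPSL2PairOver F (XG x φ hx) (XG y ψ hy) := by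
  refine ⟨Psi hx hy h1 h2, ?_, ?_, ?_, ?_⟩
  · rw [MonoidHom.range_eq_map, ← Cfsg.Agent.S5016.sup_eq_top, Subgroup.map_sup, map_upper',
      map_lower', sup_comm]
  · rw [(MonoidHom.ker_eq_bot_iff (Psi hx hy h1 h2)).mpr (Psi_injective hx hy h1 h2)]
    exact bot_le
  · rw [Cfsg.Agent.S5016.upper_eq, map_upper']
  · rw [Cfsg.Agent.S5016.lower_eq, map_lower']

theorem isPSL2PairOver_XG {x φ y ψ : Fin (n + 3) → F} (hx : φ ⬝ᵥ x = 0) (hy : ψ ⬝ᵥ y = 0)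
    (h1 : φ ⬝ᵥ y ≠ 0) (h2 : ψ ⬝ᵥ x ≠ 0) : IsPSL2PairOver F (XG x φ hx) (XG y ψ hy) := by
  have hx' : ((φ ⬝ᵥ y)⁻¹ • φ) ⬝ᵥ x = 0 := by rw [smul_dotProduct, hx, smul_zero]
  have hy' : ((ψ ⬝ᵥ x)⁻¹ • ψ) ⬝ᵥ y = 0 := by rw [smul_dotProduct, hy, smul_zero]
  have h1' : ((φ ⬝ᵥ y)⁻¹ • φ) ⬝ᵥ y = 1 := by
    rw [smul_dotProduct, smul_eq_mul, inv_mul_cancel₀ h1]
  have h2' : ((ψ ⬝ᵥ x)⁻¹ • ψ) ⬝ᵥ x = 1 := by
    rw [smul_dotProduct, smul_eq_mul, inv_mul_cancel₀ h2]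
  have := isPSL2PairOver_XG_one hx' hy' h1' h2'
  rwa [XG_congr hx hx' one_ne_zero (inv_ne_zero h1) (one_smul F x).symm rfl,
    XG_congr hy hy' one_ne_zero (inv_ne_zero h2) (one_smul F y).symm rfl] at this

theorem SSL_kRoot : IsKRootSubgroupSet F (SSL F n) := by
  refine ⟨SSL_isRootSubgroupSet, ?_⟩
  intro A hA B hB hp
  obtain ⟨x, φ, hx, hx0, hφ0, rfl⟩ := (mem_SSL_iff A).mp hA
  obtain ⟨y, ψ, hy, hy0, hψ0, rfl⟩ := (mem_SSL_iff B).mp hB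
  exact isPSL2PairOver_XG hx hy
    (dot_ne_of_isRankOnePair hy hx hy0 hψ0 (RankOnePair_symm hp))
    (dot_ne_of_isRankOnePair hx hy hx0 hφ0 hp)

end Cfsg.Agent.Helper8.SLRoot
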