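import Mathlib
import Cfsg.Agent.Helper8.SLRootH

set_option autoImplicit false

/-! The point-hyperplane transvection groups of `SL_{n+3}(F)` form a non-degenerate class of
abstract `F`-root subgroups with connected graph of rank one pairs (helper8). -/

namespace Cfsg.Agent.Helper8.SLRoot

open Matrix Cfsg Cfsg.Agent.Helper8.SLTrans Cfsg.Agent.Helper7.R1

variable {F : Type*} [Field F] {n : ℕ}

/-- the standard basis vectors. -/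
def eb (F : Type*) [Field F] (n : ℕ) (i : Fin (n + 3)) : Fin (n + 3) → F := Pi.single i 1

theorem eb_dot (i j : Fin (n + 3)) : eb F n i ⬝ᵥ eb F n j = if i = j then 1 else 0 := by
  rw [eb, eb, single_one_dotProduct, Pi.single_apply]

theorem eb_dot_ne {i j : Fin (n + 3)} (h : i ≠ j) : eb F n i ⬝ᵥ eb F n j = 0 := by
  rw [eb_dot, if_neg h]

theorem eb_dot_self (i : Fin (n + 3)) : eb F n i ⬝ᵥ eb F n i = 1 := by
  rw [eb_dot, if_pos rfl]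

theorem eb_ne_zero (i : Fin (n + 3)) : eb F n i ≠ 0 := Pi.single_ne_zero_iff.mpr one_ne_zero

theorem two_ne_zero' : (2 : Fin (n + 3)) ≠ 0 := by
  intro h
  have := congrArg Fin.val h
  rw [Fin.val_two, Fin.val_zero] at this
  omega

theorem two_ne_one' : (2 : Fin (n + 3)) ≠ 1 := by
  intro h
  have := congrArg Fin.val h
  rw [Fin.val_two, Fin.val_one] at this
  omega

theorem one_ne_zero'' : (1 : Fin (n + 3)) ≠ 0 := Fin.zero_ne_one.symm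

theorem SSL_nondegenerate : IsNondegenerateRootSet (SSL F n) := by
  refine ⟨?_, ?_, ?_⟩
  · -- X(e0, e1) and X(e0, e2) commute
    have h01 : eb F n 1 ⬝ᵥ eb F n 0 = 0 := eb_dot_ne one_ne_zero''
    have h02 : eb F n 2 ⬝ᵥ eb F n 0 = 0 := eb_dot_ne two_ne_zero'
    refine ⟨XG (eb F n 0) (eb F n 1) h01, XG_mem_SSL h01 (eb_ne_zero 0) (eb_ne_zero 1),
      XG (eb F n 0) (eb F n 2) h02, XG_mem_SSL h02 (eb_ne_zero 0) (eb_ne_zero 2), ?_,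
      XG_commutator_eq_bot h01 h02 h01 h02⟩
    intro e
    have h1 : TVc (eb F n 0) (eb F n 1) h01 1 ∈ XG (eb F n 0) (eb F n 2) h02 :=
      e ▸ TVc_mem_XG _ _ h01 1
    obtain ⟨d, hd⟩ := h1
    have h2 := congrArg (fun g : SpecialLinearGroup (Fin (n + 3)) F =>
      (g : Matrix (Fin (n + 3)) (Fin (n + 3)) F) *ᵥ eb F n 1) hd
    simp only [TVc_mulVec, eb_dot_self, eb_dot_ne two_ne_one', mul_one, one_smul, mul_zero,
      zero_smul, add_zero] at h2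
    rw [add_eq_left] at h2
    exact eb_ne_zero 0 h2
  · -- X(e0, e1) and X(e1, e0) form a rank one pair
    have h01 : eb F n 1 ⬝ᵥ eb F n 0 = 0 := eb_dot_ne one_ne_zero''
    have h10 : eb F n 0 ⬝ᵥ eb F n 1 = 0 := eb_dot_ne one_ne_zero''.symm
    refine ⟨XG (eb F n 0) (eb F n 1) h01, XG_mem_SSL h01 (eb_ne_zero 0) (eb_ne_zero 1),
      XG (eb F n 1) (eb F n 0) h10, XG_mem_SSL h10 (eb_ne_zero 1) (eb_ne_zero 0), ?_⟩
    refine isRankOnePair_XG h01 h10 (eb_ne_zero 0) (eb_ne_zero 1) (eb_ne_zero 1) (eb_ne_zero 0)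
      ?_ ?_
    · rw [eb_dot_self]; exact one_ne_zero
    · rw [eb_dot_self]; exact one_ne_zero
  · -- X(e0, e1) and X(e1, e2) are in the commutator case
    have h01 : eb F n 1 ⬝ᵥ eb F n 0 = 0 := eb_dot_ne one_ne_zero''
    have h12 : eb F n 2 ⬝ᵥ eb F n 1 = 0 := eb_dot_ne two_ne_one'
    have h02 : eb F n 2 ⬝ᵥ eb F n 0 = 0 := eb_dot_ne two_ne_zero'
    refine ⟨XG (eb F n 0) (eb F n 1) h01, XG_mem_SSL h01 (eb_ne_zero 0) (eb_ne_zero 1),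
      XG (eb F n 1) (eb F n 2) h12, XG_mem_SSL h12 (eb_ne_zero 1) (eb_ne_zero 2), ?_⟩
    refine commutatorCase_XG h01 h12 (eb_ne_zero 0) (eb_ne_zero 1) (eb_ne_zero 1) (eb_ne_zero 2)
      ?_ h02
    rw [eb_dot_self]; exact one_ne_zero

theorem exists_dot_ne {x : Fin (n + 3) → F} (hx : x ≠ 0) : ∃ η : Fin (n + 3) → F, η ⬝ᵥ x ≠ 0 := by
  obtain ⟨i, hi⟩ : ∃ i, x i ≠ 0 := by
    by_contra hcon
    push Not at hcon
    exact hx (funext hcon)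
  exact ⟨Pi.single i 1, by rw [single_one_dotProduct]; exact hi⟩

theorem exists_dot_ne' {φ : Fin (n + 3) → F} (hφ : φ ≠ 0) : ∃ v : Fin (n + 3) → F, φ ⬝ᵥ v ≠ 0 := by
  obtain ⟨v, hv⟩ := exists_dot_ne hφ
  exact ⟨v, by rw [dotProduct_comm]; exact hv⟩

/-- a vector outside two hyperplanes. -/
theorem exists_vec {φ ψ : Fin (n + 3) → F} (hφ : φ ≠ 0) (hψ : ψ ≠ 0) :
    ∃ z : Fin (n + 3) → F, φ ⬝ᵥ z ≠ 0 ∧ ψ ⬝ᵥ z ≠ 0 := by
  obtain ⟨v₁, h1⟩ := exists_dot_ne' hφ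
  obtain ⟨v₂, h2⟩ := exists_dot_ne' hψ
  by_cases h3 : ψ ⬝ᵥ v₁ = 0
  · by_cases h4 : φ ⬝ᵥ v₂ = 0
    · refine ⟨v₁ + v₂, ?_, ?_⟩
      · rw [dotProduct_add, h4, add_zero]; exact h1
      · rw [dotProduct_add, h3, zero_add]; exact h2
    · exact ⟨v₂, h4, h2⟩
  · exact ⟨v₁, h1, h3⟩

/-- a form vanishing at `z` but neither at `x` nor at `y`. -/
theorem exists_form {x φ y ψ z : Fin (n + 3) → F} (hx : φ ⬝ᵥ x = 0) (hy : ψ ⬝ᵥ y = 0)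
    (hx0 : x ≠ 0) (hy0 : y ≠ 0) (h1 : φ ⬝ᵥ z ≠ 0) (h2 : ψ ⬝ᵥ z ≠ 0) :
    ∃ χ : Fin (n + 3) → F, χ ⬝ᵥ z = 0 ∧ χ ⬝ᵥ x ≠ 0 ∧ χ ⬝ᵥ y ≠ 0 := by
  obtain ⟨η, hη⟩ := exists_dot_ne hx0
  obtain ⟨η', hη'⟩ := exists_dot_ne hy0
  obtain ⟨χ₁, hχ₁⟩ : ∃ χ₁, χ₁ = (φ ⬝ᵥ z) • η - (η ⬝ᵥ z) • φ := ⟨_, rfl⟩
  obtain ⟨χ₂, hχ₂⟩ : ∃ χ₂, χ₂ = (ψ ⬝ᵥ z) • η' - (η' ⬝ᵥ z) • ψ := ⟨_, rfl⟩
  have a1 : χ₁ ⬝ᵥ z = 0 := by
    rw [hχ₁, sub_dotProduct, smul_dotProduct, smul_dotProduct, smul_eq_mul, smul_eq_mul]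
    ring
  have a2 : χ₂ ⬝ᵥ z = 0 := by
    rw [hχ₂, sub_dotProduct, smul_dotProduct, smul_dotProduct, smul_eq_mul, smul_eq_mul]
    ring
  have b1 : χ₁ ⬝ᵥ x ≠ 0 := by
    rw [hχ₁, sub_dotProduct, smul_dotProduct, smul_dotProduct, hx, smul_zero, sub_zero, smul_eq_mul]
    exact mul_ne_zero h1 hη
  have b2 : χ₂ ⬝ᵥ y ≠ 0 := by
    rw [hχ₂, sub_dotProduct, smul_dotProduct, smul_dotProduct, hy, smul_zero, sub_zero, smul_eq_mul]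
    exact mul_ne_zero h2 hη'
  by_cases h3 : χ₁ ⬝ᵥ y = 0
  · by_cases h4 : χ₂ ⬝ᵥ x = 0
    · refine ⟨χ₁ + χ₂, ?_, ?_, ?_⟩
      · rw [add_dotProduct, a1, a2, add_zero]
      · rw [add_dotProduct, h4, add_zero]; exact b1
      · rw [add_dotProduct, h3, zero_add]; exact b2
    · exact ⟨χ₂, a2, h4, b2⟩
  · exact ⟨χ₁, a1, b1, h3⟩

theorem SSL_connected : IsConnectedFamily (FAdj (SSL F n)) (SSL F n) := by
  intro A hA B hB
  obtain ⟨x, φ, hx, hx0, hφ0, rfl⟩ := (mem_SSL_iff A).mp hA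
  obtain ⟨y, ψ, hy, hy0, hψ0, rfl⟩ := (mem_SSL_iff B).mp hB
  obtain ⟨z, h1, h2⟩ := exists_vec hφ0 hψ0
  obtain ⟨χ, hz, h3, h4⟩ := exists_form hx hy hx0 hy0 h1 h2
  have hz0 : z ≠ 0 := by
    rintro rfl
    exact h1 (dotProduct_zero φ)
  have hχ0 : χ ≠ 0 := by
    rintro rfl
    exact h3 (zero_dotProduct x)
  have hC : XG z χ hz ∈ SSL F n := XG_mem_SSL hz hz0 hχ0
  exact Relation.ReflTransGen.tail
    (Relation.ReflTransGen.single ⟨hA, hC, isRankOnePair_XG hx hz hx0 hφ0 hz0 hχ0 h1 h3⟩)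
    ⟨hC, hB, isRankOnePair_XG hz hy hz0 hχ0 hy0 hψ0 h4 h2⟩

/-- **The point-hyperplane transvection groups of `SL_{n+3}(F)` form a non-degenerate class of
abstract `F`-root subgroups.** -/
theorem main_SL (F : Type*) [Field F] (n : ℕ) :
    IsRootSubgroupClass (SSL F n) ∧ IsNondegenerateRootSet (SSL F n) ∧
      IsKRootSubgroupSet F (SSL F n) ∧ IsConnectedFamily (FAdj (SSL F n)) (SSL F n) :=
  ⟨⟨SSL_isRootSubgroupSet, SSL_conjClass⟩, SSL_nondegenerate, SSL_kRoot, SSL_connected⟩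

end Cfsg.Agent.Helper8.SLRoot
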