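import Mathlib
import Cfsg.Agent.Helper8.AutSLnA
import Cfsg.Agent.Helper8.SLRootI

set_option autoImplicit false

/-!
The automorphisms of `PSL_n(F)`, part B: the quotient map, the lifting lemma, and the image of the
unitriangular group in `PSL_{n+3}(F)` as a Sylow subgroup.
-/

namespace Cfsg.Agent.Helper8.AutSLn

open Matrix Cfsg Cfsg.Agent.Helper8.SLTrans Cfsg.Agent.Helper8.SLRoot

variable {F : Type*} [Field F] {n : ℕ}

/-- the quotient map `SL → PSL` -/
def pq (F : Type*) [Field F] (n : ℕ) :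
    SpecialLinearGroup (Fin (n + 3)) F →* ProjectiveSpecialLinearGroup (Fin (n + 3)) F :=
  QuotientGroup.mk' _

theorem pq_surjective : Function.Surjective (pq F n) := QuotientGroup.mk'_surjective _

theorem ker_pq : (pq F n).ker = Subgroup.center (SpecialLinearGroup (Fin (n + 3)) F) :=
  QuotientGroup.ker_mk' _

/-- two elements with the same image differ by a scalar -/
theorem pq_eq_iff {a b : SpecialLinearGroup (Fin (n + 3)) F} : pq F n a = pq F n b ↔
    ∃ r : F, r ^ (n + 3) = 1 ∧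
      (b : Matrix (Fin (n + 3)) (Fin (n + 3)) F) = r • (a : Matrix (Fin (n + 3)) (Fin (n + 3)) F) := by
  unfold pq
  rw [QuotientGroup.mk'_apply, QuotientGroup.mk'_apply, QuotientGroup.eq,
    Matrix.SpecialLinearGroup.mem_center_iff, Fintype.card_fin]
  constructor
  · rintro ⟨r, hr, h⟩
    refine ⟨r, hr, ?_⟩
    have h1 : (b : Matrix (Fin (n + 3)) (Fin (n + 3)) F) =
        (a : Matrix (Fin (n + 3)) (Fin (n + 3)) F) *
          ((a⁻¹ * b : SpecialLinearGroup (Fin (n + 3)) F) :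
            Matrix (Fin (n + 3)) (Fin (n + 3)) F) := by
      rw [← Matrix.SpecialLinearGroup.coe_mul, mul_inv_cancel_left]
    rw [h1, ← h, Matrix.scalar_apply, ← Matrix.smul_one_eq_diagonal, Matrix.mul_smul, mul_one]
  · rintro ⟨r, hr, h⟩
    refine ⟨r, hr, ?_⟩
    rw [Matrix.SpecialLinearGroup.coe_mul, h, Matrix.mul_smul, coe_inv_mul, Matrix.scalar_apply,
      Matrix.smul_one_eq_diagonal]

/-- the lifting lemma: an element fixing a non-zero vector and an element `b` with `(b - 1)² = 0`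
having the same image in `PSL` are equal -/
theorem eq_of_pq_eq {a b : SpecialLinearGroup (Fin (n + 3)) F} (h : pq F n a = pq F n b)
    {v : Fin (n + 3) → F} (hv : v ≠ 0)
    (hav : (a : Matrix (Fin (n + 3)) (Fin (n + 3)) F) *ᵥ v = v)
    (hb : ((b : Matrix (Fin (n + 3)) (Fin (n + 3)) F) - 1) *
      ((b : Matrix (Fin (n + 3)) (Fin (n + 3)) F) - 1) = 0) : a = b := by
  obtain ⟨r, -, hr⟩ := pq_eq_iff.mp h
  have h1 : (b : Matrix (Fin (n + 3)) (Fin (n + 3)) F) *ᵥ v = r • v := by
    rw [hr, Matrix.smul_mulVec, hav]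
  have h2 : ((b : Matrix (Fin (n + 3)) (Fin (n + 3)) F) - 1) *ᵥ v = (r - 1) • v := by
    rw [Matrix.sub_mulVec, h1, Matrix.one_mulVec, sub_smul, one_smul]
  have h3 := congrArg (fun M : Matrix (Fin (n + 3)) (Fin (n + 3)) F => M *ᵥ v) hb
  simp only [← Matrix.mulVec_mulVec, h2, Matrix.mulVec_smul, Matrix.zero_mulVec, smul_smul] at h3
  have h4 : (r - 1) * (r - 1) = 0 := by
    rcases smul_eq_zero.mp h3 with h5 | h5
    · exact h5
    · exact absurd h5 hv
  have h5 : r = 1 := by
    rcases mul_eq_zero.mp h4 with h6 | h6 <;> exact sub_eq_zero.mp h6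
  apply Subtype.ext
  rw [hr, h5, one_smul]

/-- a transvection matrix minus one squares to zero -/
theorem TVc_sub_one_sq (x φ : Fin (n + 3) → F) (h : φ ⬝ᵥ x = 0) (c : F) :
    (((TVc x φ h c : SpecialLinearGroup (Fin (n + 3)) F) :
        Matrix (Fin (n + 3)) (Fin (n + 3)) F) - 1) *
      (((TVc x φ h c : SpecialLinearGroup (Fin (n + 3)) F) :
        Matrix (Fin (n + 3)) (Fin (n + 3)) F) - 1) = 0 := by
  have e : ((TVc x φ h c : SpecialLinearGroup (Fin (n + 3)) F) :
      Matrix (Fin (n + 3)) (Fin (n + 3)) F) - 1 = vecMulVec (c • x) φ := by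
    show tv (c • x) φ - 1 = _
    rw [tv, add_sub_cancel_left]
  rw [e, Matrix.vecMulVec_mul_vecMulVec, dotProduct_smul, h, smul_zero, zero_smul]
  ext i j
  simp [vecMulVec_apply]

theorem one_sub_one_sq :
    (((1 : SpecialLinearGroup (Fin (n + 3)) F) : Matrix (Fin (n + 3)) (Fin (n + 3)) F) - 1) *
      (((1 : SpecialLinearGroup (Fin (n + 3)) F) :
        Matrix (Fin (n + 3)) (Fin (n + 3)) F) - 1) = 0 := by
  rw [Matrix.SpecialLinearGroup.coe_one, sub_self, zero_mul]

/-- the image of a root group in `PSL` -/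
def Rb (x φ : Fin (n + 3) → F) (h : φ ⬝ᵥ x = 0) :
    Subgroup (ProjectiveSpecialLinearGroup (Fin (n + 3)) F) := (XG x φ h).map (pq F n)

theorem mem_Rb {x φ : Fin (n + 3) → F} {h : φ ⬝ᵥ x = 0}
    {g : ProjectiveSpecialLinearGroup (Fin (n + 3)) F} :
    g ∈ Rb x φ h ↔ ∃ c : F, g = pq F n (TVc x φ h c) := by
  constructor
  · rintro ⟨_, ⟨c, rfl⟩, rfl⟩
    exact ⟨c, rfl⟩
  · rintro ⟨c, rfl⟩
    exact ⟨_, TVc_mem_XG x φ h c, rfl⟩

/-- the image of the unitriangular group in `PSL` -/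
def Ub (F : Type*) [Field F] (n : ℕ) : Subgroup (ProjectiveSpecialLinearGroup (Fin (n + 3)) F) :=
  (UT F (n + 3)).map (pq F n)

/-- a scalar unitriangular matrix is trivial -/
theorem eq_one_of_mem_UT_of_mem_center {u : SpecialLinearGroup (Fin (n + 3)) F}
    (hu : u ∈ UT F (n + 3)) (hz : u ∈ Subgroup.center (SpecialLinearGroup (Fin (n + 3)) F)) :
    u = 1 := by
  obtain ⟨r, -, hr⟩ := Matrix.SpecialLinearGroup.mem_center_iff.mp hz
  have h1 := hu.2 0
  rw [← hr, Matrix.scalar_apply, Matrix.diagonal_apply_eq] at h1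
  apply Subtype.ext
  rw [← hr, h1, Matrix.SpecialLinearGroup.coe_one, Matrix.scalar_apply, Matrix.diagonal_one]

theorem not_dvd_index_UT [Fintype F] (p : ℕ) [Fact p.Prime] [CharP F p] (k : ℕ) :
    ¬ p ∣ (UT F k).index := by
  intro h
  have h1 : Nat.card (UT F k) * (UT F k).index = Nat.card (SpecialLinearGroup (Fin k) F) :=
    Subgroup.card_mul_index _
  obtain ⟨c, hc⟩ : Nat.card (SpecialLinearGroup (Fin k) F) ∣ Nat.card (GL (Fin k) F) :=
    Subgroup.card_dvd_of_injective _ Matrix.SpecialLinearGroup.toGL_injective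
  rw [card_GL_factor, ← h1, card_UT, mul_assoc] at hc
  have hq : 0 < Fintype.card F ^ (∑ j : Fin k, (j : ℕ)) := pow_pos Fintype.card_pos _
  have h2 := Nat.eq_of_mul_eq_mul_left hq hc
  exact not_dvd_prod (F := F) (k := k) p (h2 ▸ Dvd.dvd.mul_right h c)

theorem not_dvd_index_Ub [Fintype F] (p : ℕ) [Fact p.Prime] [CharP F p] :
    ¬ p ∣ (Ub F n).index := by
  intro h
  unfold Ub at h
  rw [Subgroup.index_map, MonoidHom.range_eq_top.mpr pq_surjective, Subgroup.index_top,
    mul_one] at h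
  exact not_dvd_index_UT p (n + 3) (dvd_trans h (Subgroup.index_dvd_of_le le_sup_left))

theorem isPGroup_Ub [Fintype F] (p : ℕ) [Fact p.Prime] [CharP F p] : IsPGroup p (Ub F n) :=
  (isPGroup_UT p).map (pq F n)

/-- the image of the unitriangular group, as a Sylow subgroup of `PSL` -/
noncomputable def sylowUb [Fintype F] (p : ℕ) [Fact p.Prime] [CharP F p] :
    Sylow p (ProjectiveSpecialLinearGroup (Fin (n + 3)) F) :=
  (isPGroup_Ub (F := F) (n := n) p).toSylow (not_dvd_index_Ub p)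

theorem coe_sylowUb [Fintype F] (p : ℕ) [Fact p.Prime] [CharP F p] :
    ((sylowUb (F := F) (n := n) p : Sylow p (ProjectiveSpecialLinearGroup (Fin (n + 3)) F)) :
      Subgroup (ProjectiveSpecialLinearGroup (Fin (n + 3)) F)) = Ub F n := rfl

/-- every automorphism maps the image of the unitriangular group to a conjugate -/
theorem exists_conj_Ub [Fintype F] (p : ℕ) [Fact p.Prime] [CharP F p]
    (β : MulAut (ProjectiveSpecialLinearGroup (Fin (n + 3)) F)) :
    ∃ g : ProjectiveSpecialLinearGroup (Fin (n + 3)) F,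
      (Ub F n).map β.toMonoidHom = (Ub F n).map (MulAut.conj g).toMonoidHom := by
  obtain ⟨g, hg⟩ := MulAction.exists_smul_eq (ProjectiveSpecialLinearGroup (Fin (n + 3)) F)
    (sylowUb (F := F) (n := n) p) (β • sylowUb (F := F) (n := n) p)
  refine ⟨g, ?_⟩
  have h1 := congrArg (fun P : Sylow p (ProjectiveSpecialLinearGroup (Fin (n + 3)) F) =>
    (P : Subgroup (ProjectiveSpecialLinearGroup (Fin (n + 3)) F))) hg
  simp only [Sylow.coe_subgroup_smul, Sylow.pointwise_smul_def, coe_sylowUb] at h1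
  exact h1.symm

end Cfsg.Agent.Helper8.AutSLn
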