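import Mathlib
import Cfsg.Agent.Helper8.AutSLnB

set_option autoImplicit false

/-!
The automorphisms of `PSL_n(F)`, part C: the centre of the unitriangular group is a root group, and
every automorphism permutes the root groups.
-/

namespace Cfsg.Agent.Helper8.AutSLn

open Matrix Cfsg Cfsg.Agent.Helper8.SLTrans Cfsg.Agent.Helper8.SLRoot
open scoped Pointwise

variable {F : Type*} [Field F] {n : ℕ}

theorem TVc_apply (x φ : Fin (n + 3) → F) (h : φ ⬝ᵥ x = 0) (c : F) (a b : Fin (n + 3)) :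
    ((TVc x φ h c : SpecialLinearGroup (Fin (n + 3)) F) : Matrix (Fin (n + 3)) (Fin (n + 3)) F) a b
      = (1 : Matrix (Fin (n + 3)) (Fin (n + 3)) F) a b + c * x a * φ b := by
  show tv (c • x) φ a b = _
  rw [tv, Matrix.add_apply, vecMulVec_apply, Pi.smul_apply, smul_eq_mul]

theorem TVc_congr {x φ x' φ' : Fin (n + 3) → F} (h : φ ⬝ᵥ x = 0) (h' : φ' ⬝ᵥ x' = 0)
    (ex : x = x') (eφ : φ = φ') (c : F) : TVc x φ h c = TVc x' φ' h' c := by
  subst ex eφ
  rfl

theorem Rb_congr {x φ x' φ' : Fin (n + 3) → F} (h : φ ⬝ᵥ x = 0) (h' : φ' ⬝ᵥ x' = 0)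
    (ex : x = x') (eφ : φ = φ') : Rb x φ h = Rb x' φ' h' := by
  subst ex eφ
  rfl

theorem eb_apply (i a : Fin (n + 3)) : eb F n i a = if a = i then 1 else 0 := by
  rw [eb, Pi.single_apply]

theorem mulVec_eb (M : Matrix (Fin (n + 3)) (Fin (n + 3)) F) (j a : Fin (n + 3)) :
    (M *ᵥ eb F n j) a = M a j := by
  rw [eb, Matrix.mulVec_single_one]
  rfl

theorem vecMul_eb (M : Matrix (Fin (n + 3)) (Fin (n + 3)) F) (i b : Fin (n + 3)) :
    (eb F n i ᵥ* M) b = M i b := by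
  rw [eb, Matrix.single_one_vecMul]
  rfl

theorem eb_dot_left (i : Fin (n + 3)) (v : Fin (n + 3) → F) : eb F n i ⬝ᵥ v = v i := by
  rw [eb, single_one_dotProduct]

theorem eb_dot_right (i : Fin (n + 3)) (v : Fin (n + 3) → F) : v ⬝ᵥ eb F n i = v i := by
  rw [eb, dotProduct_single_one]

/-- elementary transvections above the diagonal are unitriangular -/
theorem TVc_eb_mem_UT {i j : Fin (n + 3)} (hij : i < j) (c : F) :
    TVc (eb F n i) (eb F n j) (eb_dot_ne hij.ne') c ∈ UT F (n + 3) := by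
  refine ⟨?_, fun a => ?_⟩
  · intro a b hab
    change b < a at hab
    rw [TVc_apply, Matrix.one_apply_ne hab.ne', zero_add, eb_apply, eb_apply]
    split_ifs with h1 h2
    · subst h1 h2
      exact absurd hij (not_lt.mpr hab.le)
    · ring
    · ring
    · ring
  · rw [TVc_apply, Matrix.one_apply_eq, eb_apply, eb_apply]
    split_ifs with h1 h2
    · exact absurd (h1.symm.trans h2) hij.ne
    all_goals ring

theorem UT_mulVec_eb_zero {u : SpecialLinearGroup (Fin (n + 3)) F} (hu : u ∈ UT F (n + 3)) :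
    (u : Matrix (Fin (n + 3)) (Fin (n + 3)) F) *ᵥ eb F n 0 = eb F n 0 := by
  ext a
  rw [mulVec_eb, eb_apply]
  by_cases ha : a = 0
  · subst ha
    rw [hu.2, if_pos rfl]
  · rw [if_neg ha]
    exact hu.1 (Fin.pos_iff_ne_zero.mpr ha)

theorem UT_vecMul_eb_last {u : SpecialLinearGroup (Fin (n + 3)) F} (hu : u ∈ UT F (n + 3)) :
    eb F n (Fin.last (n + 2)) ᵥ* (u : Matrix (Fin (n + 3)) (Fin (n + 3)) F) =
      eb F n (Fin.last (n + 2)) := by
  ext b
  rw [vecMul_eb, eb_apply]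
  by_cases hb : b = Fin.last (n + 2)
  · subst hb
    rw [hu.2, if_pos rfl]
  · rw [if_neg hb]
    exact hu.1 (lt_of_le_of_ne (Fin.le_last b) hb)

theorem zero_lt_last : (0 : Fin (n + 3)) < Fin.last (n + 2) := by
  rw [Fin.lt_def, Fin.val_zero, Fin.val_last]
  omega

theorem last_dot_zero : eb F n (Fin.last (n + 2)) ⬝ᵥ eb F n 0 = 0 :=
  eb_dot_ne (zero_lt_last (n := n)).ne'

/-- the highest root group centralises the unitriangular group -/
theorem TVc_zero_last_comm {u : SpecialLinearGroup (Fin (n + 3)) F} (hu : u ∈ UT F (n + 3))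
    (c : F) : u * TVc (eb F n 0) (eb F n (Fin.last (n + 2))) last_dot_zero c =
      TVc (eb F n 0) (eb F n (Fin.last (n + 2))) last_dot_zero c * u := by
  rw [← mul_inv_eq_iff_eq_mul, TVc_conj]
  exact TVc_congr _ _ (UT_mulVec_eb_zero hu) (UT_vecMul_eb_last (inv_mem hu)) c

/-- the centre of the unitriangular group -/
theorem eq_TVc_of_UT_center {u : SpecialLinearGroup (Fin (n + 3)) F} (hu : u ∈ UT F (n + 3))
    (hc : ∀ v ∈ UT F (n + 3), u * v = v * u) :
    u = TVc (eb F n 0) (eb F n (Fin.last (n + 2))) last_dot_zero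
      ((u : Matrix (Fin (n + 3)) (Fin (n + 3)) F) 0 (Fin.last (n + 2))) := by
  -- the columns
  have hcol : ∀ i : Fin (n + 3), i ≠ Fin.last (n + 2) →
      (u : Matrix (Fin (n + 3)) (Fin (n + 3)) F) *ᵥ eb F n i = eb F n i := by
    intro i hi
    have hij : i < Fin.last (n + 2) := lt_of_le_of_ne (Fin.le_last i) hi
    have h1 := congrArg (fun g : SpecialLinearGroup (Fin (n + 3)) F =>
      (g : Matrix (Fin (n + 3)) (Fin (n + 3)) F) *ᵥ eb F n (Fin.last (n + 2)))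
      (hc _ (TVc_eb_mem_UT hij 1))
    simp only [coe_mul_mulVec, TVc_mulVec] at h1
    rw [eb_dot_self, mul_one, one_smul, Matrix.mulVec_add, add_right_inj, eb_dot_left, mulVec_eb,
      hu.2, mul_one, one_smul] at h1
    exact h1
  -- the rows
  have hrow : ∀ j : Fin (n + 3), j ≠ 0 →
      eb F n j ᵥ* (u : Matrix (Fin (n + 3)) (Fin (n + 3)) F) = eb F n j := by
    intro j hj
    have hij : (0 : Fin (n + 3)) < j := Fin.pos_iff_ne_zero.mpr hj
    have h1 := congrArg (fun g : SpecialLinearGroup (Fin (n + 3)) F =>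
      eb F n 0 ᵥ* (g : Matrix (Fin (n + 3)) (Fin (n + 3)) F))
      (hc _ (TVc_eb_mem_UT hij 1))
    simp only [Matrix.SpecialLinearGroup.coe_mul, ← Matrix.vecMul_vecMul] at h1
    have e1 : ∀ ρ : Fin (n + 3) → F, ρ ᵥ* ((TVc (eb F n 0) (eb F n j) (eb_dot_ne hij.ne') 1 :
        SpecialLinearGroup (Fin (n + 3)) F) : Matrix (Fin (n + 3)) (Fin (n + 3)) F) =
        ρ + (ρ ⬝ᵥ eb F n 0) • eb F n j := by
      intro ρ
      show ρ ᵥ* tv ((1 : F) • eb F n 0) (eb F n j) = _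
      rw [tv_vecMul, one_smul]
    rw [e1, e1, eb_dot_self, one_smul, Matrix.add_vecMul, add_right_inj, eb_dot_right, vecMul_eb,
      hu.2, one_smul] at h1
    exact h1.symm
  apply Subtype.ext
  ext a b
  rw [TVc_apply, eb_apply, eb_apply]
  by_cases hb : b = Fin.last (n + 2)
  · by_cases ha : a = 0
    · subst ha hb
      rw [if_pos rfl, if_pos rfl, Matrix.one_apply_ne (zero_lt_last (n := n)).ne, zero_add, mul_one,
        mul_one]
    · rw [if_neg ha, mul_zero, zero_mul, add_zero,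
        ← vecMul_eb (u : Matrix (Fin (n + 3)) (Fin (n + 3)) F) a b, hrow a ha, eb_apply,
        Matrix.one_apply]
      simp only [eq_comm]
  · rw [if_neg hb, mul_zero, add_zero,
      ← mulVec_eb (u : Matrix (Fin (n + 3)) (Fin (n + 3)) F) b a, hcol b hb, eb_apply,
      Matrix.one_apply]

/-- the centre of a subgroup, as a subgroup of the ambient group -/
def ZZ {G : Type*} [Group G] (H : Subgroup G) : Subgroup G :=
  H ⊓ Subgroup.centralizer (H : Set G)

theorem mem_ZZ {G : Type*} [Group G] {H : Subgroup G} {g : G} :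
    g ∈ ZZ H ↔ g ∈ H ∧ ∀ h ∈ H, h * g = g * h := by
  rw [ZZ, Subgroup.mem_inf, Subgroup.mem_centralizer_iff]
  rfl

theorem ZZ_smul {G : Type*} [Group G] (β : MulAut G) (H : Subgroup G) :
    ZZ (β • H) = β • ZZ H := by
  ext g
  rw [mem_ZZ, Subgroup.mem_pointwise_smul_iff_inv_smul_mem,
    Subgroup.mem_pointwise_smul_iff_inv_smul_mem, mem_ZZ]
  constructor
  · rintro ⟨h1, h2⟩
    refine ⟨h1, fun h hh => ?_⟩
    have h3 := h2 (β • h) (Subgroup.smul_mem_pointwise_smul _ _ _ hh)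
    have h4 := congrArg (fun x => β⁻¹ • x) h3
    simp only [smul_mul', inv_smul_smul] at h4
    exact h4
  · rintro ⟨h1, h2⟩
    refine ⟨h1, fun h hh => ?_⟩
    rw [Subgroup.mem_pointwise_smul_iff_inv_smul_mem] at hh
    have h3 := h2 _ hh
    have h4 := congrArg (fun x => β • x) h3
    simp only [smul_mul', smul_inv_smul] at h4
    exact h4

theorem aut_mul_conj' {G : Type*} [Group G] (α : MulAut G) (g : G) :
    α * MulAut.conj g = MulAut.conj (α g) * α := by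
  ext x
  simp [MulAut.mul_apply, MulAut.conj_apply]

/-- the centre of the image of the unitriangular group is the highest root group -/
theorem ZZ_Ub : ZZ (Ub F n) = Rb (eb F n 0) (eb F n (Fin.last (n + 2))) last_dot_zero := by
  ext g
  rw [mem_ZZ, mem_Rb]
  constructor
  · rintro ⟨⟨u, hu, rfl⟩, h2⟩
    have hc : ∀ v ∈ UT F (n + 3), u * v = v * u := by
      intro v hv
      have h3 := h2 (pq F n v) ⟨v, hv, rfl⟩
      rw [← map_mul, ← map_mul, MonoidHom.eq_iff, ker_pq] at h3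
      have h4 : (u * v)⁻¹ * (v * u) ∈ UT F (n + 3) :=
        mul_mem (inv_mem (mul_mem hu hv)) (mul_mem hv hu)
      have h5 := eq_one_of_mem_UT_of_mem_center h4 h3
      rw [inv_mul_eq_one] at h5
      exact h5
    exact ⟨_, congrArg (pq F n) (eq_TVc_of_UT_center hu hc)⟩
  · rintro ⟨c, rfl⟩
    refine ⟨⟨_, TVc_eb_mem_UT zero_lt_last c, rfl⟩, ?_⟩
    rintro _ ⟨v, hv, rfl⟩
    rw [← map_mul, ← map_mul, TVc_zero_last_comm hv]

/-- the images of the root groups of `SL` in `PSL` -/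
def IsRoot (R : Subgroup (ProjectiveSpecialLinearGroup (Fin (n + 3)) F)) : Prop :=
  ∃ (x φ : Fin (n + 3) → F) (h : φ ⬝ᵥ x = 0), x ≠ 0 ∧ φ ≠ 0 ∧ R = Rb x φ h

theorem isRoot_Rb {x φ : Fin (n + 3) → F} (h : φ ⬝ᵥ x = 0) (hx : x ≠ 0) (hφ : φ ≠ 0) :
    IsRoot (Rb x φ h) := ⟨x, φ, h, hx, hφ, rfl⟩

theorem conj_smul_Rb (g : SpecialLinearGroup (Fin (n + 3)) F) (x φ : Fin (n + 3) → F)
    (h : φ ⬝ᵥ x = 0) :
    MulAut.conj (pq F n g) • Rb x φ h =
      Rb ((g : Matrix (Fin (n + 3)) (Fin (n + 3)) F) *ᵥ x)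
        (φ ᵥ* ((g⁻¹ : SpecialLinearGroup (Fin (n + 3)) F) :
          Matrix (Fin (n + 3)) (Fin (n + 3)) F)) (by rw [dot_conj, h]) := by
  ext a
  rw [Subgroup.mem_smul_pointwise_iff_exists, mem_Rb]
  constructor
  · rintro ⟨r, hr, rfl⟩
    obtain ⟨c, rfl⟩ := mem_Rb.mp hr
    refine ⟨c, ?_⟩
    rw [MulAut.smul_def, MulAut.conj_apply, ← map_inv, ← map_mul, ← map_mul, TVc_conj]
  · rintro ⟨c, rfl⟩
    refine ⟨pq F n (TVc x φ h c), mem_Rb.mpr ⟨c, rfl⟩, ?_⟩
    rw [MulAut.smul_def, MulAut.conj_apply, ← map_inv, ← map_mul, ← map_mul, TVc_conj]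

theorem IsRoot.conj {R : Subgroup (ProjectiveSpecialLinearGroup (Fin (n + 3)) F)} (hR : IsRoot R)
    (a : ProjectiveSpecialLinearGroup (Fin (n + 3)) F) : IsRoot (MulAut.conj a • R) := by
  obtain ⟨x, φ, h, hx, hφ, rfl⟩ := hR
  obtain ⟨g, rfl⟩ := pq_surjective a
  rw [conj_smul_Rb]
  exact isRoot_Rb _ (mulVec_ne_zero'' g hx) (vecMul_ne_zero'' g⁻¹ hφ)

theorem Rb_eq_conj {x φ : Fin (n + 3) → F} (h : φ ⬝ᵥ x = 0) (hx : x ≠ 0) (hφ : φ ≠ 0) :
    ∃ a : ProjectiveSpecialLinearGroup (Fin (n + 3)) F,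
      Rb x φ h = MulAut.conj a • Rb (e0 F n) (e1 F n) e1_dot_e0 := by
  obtain ⟨g, hg0, hg1⟩ := exists_flag hx hφ h
  refine ⟨pq F n g, ?_⟩
  rw [conj_smul_Rb]
  apply Rb_congr _ _ hg0.symm
  rw [← hg1, Matrix.vecMul_vecMul, coe_mul_inv, Matrix.vecMul_one]

theorem IsRoot.exists_conj {R R' : Subgroup (ProjectiveSpecialLinearGroup (Fin (n + 3)) F)}
    (hR : IsRoot R) (hR' : IsRoot R') :
    ∃ a : ProjectiveSpecialLinearGroup (Fin (n + 3)) F, R' = MulAut.conj a • R := by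
  obtain ⟨x, φ, h, hx, hφ, rfl⟩ := hR
  obtain ⟨y, ψ, h', hy, hψ, rfl⟩ := hR'
  obtain ⟨a, ha⟩ := Rb_eq_conj h hx hφ
  obtain ⟨b, hb⟩ := Rb_eq_conj h' hy hψ
  refine ⟨b * a⁻¹, ?_⟩
  rw [ha, hb, smul_smul, ← map_mul, inv_mul_cancel_right]

theorem isRoot_ZZ_Ub : IsRoot (ZZ (Ub F n)) := by
  rw [ZZ_Ub]
  exact isRoot_Rb _ (eb_ne_zero 0) (eb_ne_zero _)

theorem exists_conj_Ub' [Fintype F] (p : ℕ) [Fact p.Prime] [CharP F p]
    (β : MulAut (ProjectiveSpecialLinearGroup (Fin (n + 3)) F)) :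
    ∃ g : ProjectiveSpecialLinearGroup (Fin (n + 3)) F, β • Ub F n = MulAut.conj g • Ub F n :=
  exists_conj_Ub p β

/-- **every automorphism permutes the root groups** -/
theorem IsRoot.map [Fintype F] (p : ℕ) [Fact p.Prime] [CharP F p]
    {R : Subgroup (ProjectiveSpecialLinearGroup (Fin (n + 3)) F)} (hR : IsRoot R)
    (β : MulAut (ProjectiveSpecialLinearGroup (Fin (n + 3)) F)) : IsRoot (β • R) := by
  obtain ⟨g, hg⟩ := exists_conj_Ub' p β
  obtain ⟨a, rfl⟩ := (isRoot_ZZ_Ub (F := F) (n := n)).exists_conj hR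
  rw [smul_smul, aut_mul_conj', ← smul_smul, ← ZZ_smul, hg, ZZ_smul]
  exact (isRoot_ZZ_Ub.conj g).conj _

end Cfsg.Agent.Helper8.AutSLn
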