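import Mathlib
import Cfsg.Agent.Helper8.AutSLnC

set_option autoImplicit false

/-!
The automorphisms of `PSL_n(F)`, part D: when do two root groups have the same point or the same
hyperplane? Exactly when all products of their elements are again root elements.
-/

namespace Cfsg.Agent.Helper8.AutSLn

open Matrix Cfsg Cfsg.Agent.Helper8.SLTrans Cfsg.Agent.Helper8.SLRoot
open scoped Pointwise

variable {F : Type*} [Field F] {n : ℕ}

/-- a form vanishing on the kernel of another form is a multiple of it -/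
theorem exists_smul_of_ker_le {φ ψ : Fin (n + 3) → F} (hφ : φ ≠ 0)
    (h : ∀ v : Fin (n + 3) → F, φ ⬝ᵥ v = 0 → ψ ⬝ᵥ v = 0) : ∃ b : F, ψ = b • φ := by
  obtain ⟨w, hw⟩ := exists_dot_ne' hφ
  refine ⟨ψ ⬝ᵥ w / φ ⬝ᵥ w, ?_⟩
  have key : ∀ v : Fin (n + 3) → F, ψ ⬝ᵥ v = (ψ ⬝ᵥ w / φ ⬝ᵥ w) * (φ ⬝ᵥ v) := by
    intro v
    have h1 : φ ⬝ᵥ (v - ((φ ⬝ᵥ v) / (φ ⬝ᵥ w)) • w) = 0 := by
      rw [dotProduct_sub, dotProduct_smul, smul_eq_mul, div_mul_cancel₀ _ hw, sub_self]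
    have h2 := h _ h1
    rw [dotProduct_sub, dotProduct_smul, smul_eq_mul, sub_eq_zero] at h2
    rw [h2]
    field_simp
  ext i
  have := key (eb F n i)
  rw [eb_dot_right, eb_dot_right] at this
  rw [this, Pi.smul_apply, smul_eq_mul]

/-- a vector whose multiples contain the kernel... dual version: a vector annihilated by every form
annihilating `x` is a multiple of `x` -/
theorem exists_smul_of_ann_le {x y : Fin (n + 3) → F} (hx : x ≠ 0)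
    (h : ∀ ρ : Fin (n + 3) → F, ρ ⬝ᵥ x = 0 → ρ ⬝ᵥ y = 0) : ∃ a : F, y = a • x := by
  apply exists_smul_of_ker_le hx
  intro v hv
  rw [dotProduct_comm] at hv ⊢
  exact h v hv

/-- two forms in dimension at least three have a common non-zero kernel vector -/
theorem exists_common_ker (φ ψ : Fin (n + 3) → F) :
    ∃ v : Fin (n + 3) → F, v ≠ 0 ∧ φ ⬝ᵥ v = 0 ∧ ψ ⬝ᵥ v = 0 := by
  have h1 : LinearMap.ker (Matrix.mulVecLin (Wmat ψ φ)) ≠ ⊥ := by
    apply LinearMap.ker_ne_bot_of_finrank_lt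
    rw [Module.finrank_fin_fun, Module.finrank_fin_fun]
    omega
  obtain ⟨v, hv, hv0⟩ := (Submodule.ne_bot_iff _).mp h1
  rw [LinearMap.mem_ker, Matrix.mulVecLin_apply, Wmat_mulVec] at hv
  refine ⟨v, hv0, ?_, ?_⟩
  · have := congrFun hv 1
    simpa using this
  · have := congrFun hv 0
    simpa using this

/-- two vectors in dimension at least three are annihilated by a common non-zero form -/
theorem exists_common_ann (x y : Fin (n + 3) → F) :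
    ∃ χ : Fin (n + 3) → F, χ ≠ 0 ∧ χ ⬝ᵥ x = 0 ∧ χ ⬝ᵥ y = 0 := by
  obtain ⟨v, hv, h1, h2⟩ := exists_common_ker x y
  exact ⟨v, hv, by rw [dotProduct_comm]; exact h1, by rw [dotProduct_comm]; exact h2⟩

theorem vecMulVec_mulVec' (x φ v : Fin (n + 3) → F) : vecMulVec x φ *ᵥ v = (φ ⬝ᵥ v) • x := by
  rw [vecMulVec_mulVec, op_smul_eq_smul]

/-- equal rank one matrices have proportional columns -/
theorem smul_of_vecMulVec_eq {x φ y ψ : Fin (n + 3) → F} (hφ : φ ≠ 0)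
    (h : vecMulVec x φ = vecMulVec y ψ) : ∃ a : F, x = a • y := by
  obtain ⟨v, hv⟩ := exists_dot_ne' hφ
  have h1 := congrArg (fun M : Matrix (Fin (n + 3)) (Fin (n + 3)) F => M *ᵥ v) h
  simp only [vecMulVec_mulVec'] at h1
  refine ⟨(φ ⬝ᵥ v)⁻¹ * (ψ ⬝ᵥ v), ?_⟩
  rw [← smul_smul, ← h1, smul_smul, inv_mul_cancel₀ hv, one_smul]

/-- equal rank one matrices have proportional rows -/
theorem smul_of_vecMulVec_eq' {x φ y ψ : Fin (n + 3) → F} (hx : x ≠ 0)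
    (h : vecMulVec x φ = vecMulVec y ψ) : ∃ b : F, φ = b • ψ := by
  obtain ⟨ρ, hρ⟩ := exists_dot_ne hx
  have h1 := congrArg (fun M : Matrix (Fin (n + 3)) (Fin (n + 3)) F => ρ ᵥ* M) h
  simp only [vecMul_vecMulVec] at h1
  refine ⟨(ρ ⬝ᵥ x)⁻¹ * (ρ ⬝ᵥ y), ?_⟩
  rw [← smul_smul, ← h1, smul_smul, inv_mul_cancel₀ hρ, one_smul]

/-- lifting an equality of images of transvections -/
theorem TVc_eq_of_pq_eq {x φ y ψ : Fin (n + 3) → F} (h : φ ⬝ᵥ x = 0) (h' : ψ ⬝ᵥ y = 0) {c d : F}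
    (e : pq F n (TVc x φ h c) = pq F n (TVc y ψ h' d)) : TVc x φ h c = TVc y ψ h' d := by
  obtain ⟨v, hv, hv1, -⟩ := exists_common_ker φ φ
  refine eq_of_pq_eq e hv ?_ (TVc_sub_one_sq y ψ h' d)
  rw [TVc_mulVec, hv1, mul_zero, zero_smul, add_zero]

theorem TVc_eq_one_of_pq_eq {x φ : Fin (n + 3) → F} (h : φ ⬝ᵥ x = 0) {c : F}
    (e : pq F n (TVc x φ h c) = 1) : TVc x φ h c = 1 := by
  obtain ⟨v, hv, hv1, -⟩ := exists_common_ker φ φ
  rw [← map_one (pq F n)] at e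
  refine eq_of_pq_eq e hv ?_ one_sub_one_sq
  rw [TVc_mulVec, hv1, mul_zero, zero_smul, add_zero]

theorem TVc_coe_sub_one (x φ : Fin (n + 3) → F) (h : φ ⬝ᵥ x = 0) (c : F) :
    ((TVc x φ h c : SpecialLinearGroup (Fin (n + 3)) F) : Matrix (Fin (n + 3)) (Fin (n + 3)) F) - 1
      = vecMulVec (c • x) φ := by
  show tv (c • x) φ - 1 = _
  rw [tv, add_sub_cancel_left]

/-- equal root groups have the same point and the same hyperplane -/
theorem smul_of_Rb_eq {x φ y ψ : Fin (n + 3) → F} (h : φ ⬝ᵥ x = 0) (h' : ψ ⬝ᵥ y = 0)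
    (hx : x ≠ 0) (hφ : φ ≠ 0) (e : Rb x φ h = Rb y ψ h') :
    (∃ a : F, x = a • y) ∧ ∃ b : F, φ = b • ψ := by
  have h1 : pq F n (TVc x φ h 1) ∈ Rb y ψ h' := e ▸ mem_Rb.mpr ⟨1, rfl⟩
  obtain ⟨d, hd⟩ := mem_Rb.mp h1
  have h2 := TVc_eq_of_pq_eq h h' hd
  have h3 : vecMulVec x φ = vecMulVec (d • y) ψ := by
    rw [← TVc_coe_sub_one y ψ h' d, ← h2, TVc_coe_sub_one, one_smul]
  constructor
  · obtain ⟨a, ha⟩ := smul_of_vecMulVec_eq hφ h3
    exact ⟨a * d, by rw [ha, smul_smul]⟩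
  · exact smul_of_vecMulVec_eq' hx h3

/-- the images of the transvections, together with `1` -/
def TT (F : Type*) [Field F] (n : ℕ) : Set (ProjectiveSpecialLinearGroup (Fin (n + 3)) F) :=
  {g | ∃ R, IsRoot R ∧ g ∈ R}

theorem smul_mem_TT [Fintype F] (p : ℕ) [Fact p.Prime] [CharP F p]
    (β : MulAut (ProjectiveSpecialLinearGroup (Fin (n + 3)) F))
    {g : ProjectiveSpecialLinearGroup (Fin (n + 3)) F} (hg : g ∈ TT F n) : β g ∈ TT F n := by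
  obtain ⟨R, hR, hgR⟩ := hg
  exact ⟨β • R, hR.map p β, Subgroup.smul_mem_pointwise_smul _ _ _ hgR⟩

theorem pq_TV_mem_TT (x φ : Fin (n + 3) → F) (h : φ ⬝ᵥ x = 0) : pq F n (TV x φ h) ∈ TT F n := by
  by_cases hx : x = 0
  · subst hx
    have : TV (0 : Fin (n + 3) → F) φ h = 1 := by
      apply Subtype.ext
      rw [TV_coe, tv_zero_left, Matrix.SpecialLinearGroup.coe_one]
    rw [this, map_one]
    exact ⟨_, isRoot_ZZ_Ub, one_mem _⟩
  by_cases hφ : φ = 0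
  · subst hφ
    have : TV x (0 : Fin (n + 3) → F) h = 1 := by
      apply Subtype.ext
      rw [TV_coe, tv_zero_right, Matrix.SpecialLinearGroup.coe_one]
    rw [this, map_one]
    exact ⟨_, isRoot_ZZ_Ub, one_mem _⟩
  · refine ⟨Rb x φ h, isRoot_Rb h hx hφ, mem_Rb.mpr ⟨1, ?_⟩⟩
    congr 1
    apply sl_ext
    intro v
    rw [TV_mulVec, TVc_mulVec, one_mul]

/-- the relation: all products are root elements -/
def Lk (R R' : Subgroup (ProjectiveSpecialLinearGroup (Fin (n + 3)) F)) : Prop :=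
  ∀ r ∈ R, ∀ r' ∈ R', r * r' ∈ TT F n

theorem Lk_smul [Fintype F] (p : ℕ) [Fact p.Prime] [CharP F p]
    (β : MulAut (ProjectiveSpecialLinearGroup (Fin (n + 3)) F))
    {R R' : Subgroup (ProjectiveSpecialLinearGroup (Fin (n + 3)) F)} (h : Lk R R') :
    Lk (β • R) (β • R') := by
  intro r hr r' hr'
  obtain ⟨s, hs, rfl⟩ := (Subgroup.mem_smul_pointwise_iff_exists _ _ _).mp hr
  obtain ⟨s', hs', rfl⟩ := (Subgroup.mem_smul_pointwise_iff_exists _ _ _).mp hr'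
  rw [MulAut.smul_def, MulAut.smul_def, ← map_mul]
  exact smul_mem_TT p β (h s hs s' hs')

theorem Lk_of_point {x φ y ψ : Fin (n + 3) → F} (h : φ ⬝ᵥ x = 0) (h' : ψ ⬝ᵥ y = 0)
    (hxy : ∃ a : F, y = a • x) : Lk (Rb x φ h) (Rb y ψ h') := by
  obtain ⟨a, rfl⟩ := hxy
  intro r hr r' hr'
  obtain ⟨c, rfl⟩ := mem_Rb.mp hr
  obtain ⟨d, rfl⟩ := mem_Rb.mp hr'
  have hχ : (c • φ + (d * a) • ψ) ⬝ᵥ x = 0 := by
    by_cases ha : a = 0
    · rw [ha, mul_zero, zero_smul, add_zero, smul_dotProduct, h, smul_zero]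
    · have h2 : ψ ⬝ᵥ x = 0 := by
        rw [dotProduct_smul, smul_eq_mul] at h'
        exact (mul_eq_zero.mp h').resolve_left ha
      rw [add_dotProduct, smul_dotProduct, smul_dotProduct, h, h2, smul_zero, smul_zero, add_zero]
  have e : TVc x φ h c * TVc (a • x) ψ h' d = TV x (c • φ + (d * a) • ψ) hχ := by
    apply sl_ext
    intro v
    rw [coe_mul_mulVec, TVc_mulVec, TVc_mulVec, TV_mulVec, dotProduct_add, dotProduct_smul,
      dotProduct_smul, h, add_dotProduct, smul_dotProduct, smul_dotProduct]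
    simp only [smul_eq_mul, smul_smul, mul_zero, add_zero]
    rw [add_assoc, ← add_smul]
    congr 2
    ring
  rw [← map_mul, e]
  exact pq_TV_mem_TT _ _ _

theorem Lk_of_hyperplane {x φ y ψ : Fin (n + 3) → F} (h : φ ⬝ᵥ x = 0) (h' : ψ ⬝ᵥ y = 0)
    (hφψ : ∃ b : F, ψ = b • φ) : Lk (Rb x φ h) (Rb y ψ h') := by
  obtain ⟨b, rfl⟩ := hφψ
  intro r hr r' hr'
  obtain ⟨c, rfl⟩ := mem_Rb.mp hr
  obtain ⟨d, rfl⟩ := mem_Rb.mp hr'
  have hz : φ ⬝ᵥ (c • x + (d * b) • y) = 0 := by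
    by_cases hb : b = 0
    · rw [hb, mul_zero, zero_smul, add_zero, dotProduct_smul, h, smul_zero]
    · have h2 : φ ⬝ᵥ y = 0 := by
        rw [smul_dotProduct, smul_eq_mul] at h'
        exact (mul_eq_zero.mp h').resolve_left hb
      rw [dotProduct_add, dotProduct_smul, dotProduct_smul, h, h2, smul_zero, smul_zero, add_zero]
  have e : TVc x φ h c * TVc y (b • φ) h' d = TV (c • x + (d * b) • y) φ hz := by
    apply sl_ext
    intro v
    rw [coe_mul_mulVec, TVc_mulVec, TVc_mulVec, TV_mulVec, dotProduct_add, dotProduct_smul,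
      smul_dotProduct]
    by_cases hb : b = 0
    · rw [hb]
      simp only [smul_eq_mul, zero_mul, mul_zero, zero_smul, add_zero, smul_smul]
      rw [mul_comm]
    · have h2 : φ ⬝ᵥ y = 0 := by
        rw [smul_dotProduct, smul_eq_mul] at h'
        exact (mul_eq_zero.mp h').resolve_left hb
      rw [h2]
      simp only [smul_eq_mul, mul_zero, add_zero, smul_add, smul_smul]
      rw [add_assoc, add_comm ((d * (b * φ ⬝ᵥ v)) • y)]
      congr 3 <;> ring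
  rw [← map_mul, e]
  exact pq_TV_mem_TT _ _ _

/-- **the converse**: if all products are root elements, the points or the hyperplanes agree -/
theorem of_Lk {x φ y ψ : Fin (n + 3) → F} (h : φ ⬝ᵥ x = 0) (h' : ψ ⬝ᵥ y = 0)
    (hx : x ≠ 0) (hφ : φ ≠ 0) (hy : y ≠ 0) (hψ : ψ ≠ 0)
    (hL : Lk (Rb x φ h) (Rb y ψ h')) : (∃ a : F, y = a • x) ∨ ∃ b : F, ψ = b • φ := by
  by_contra hcon
  push Not at hcon
  obtain ⟨hc1, hc2⟩ := hcon
  -- a vector in the kernel of `φ` but not of `ψ`, and conversely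
  obtain ⟨v₁, hv₁, hv₁'⟩ : ∃ v, φ ⬝ᵥ v = 0 ∧ ψ ⬝ᵥ v ≠ 0 := by
    by_contra hne
    push Not at hne
    obtain ⟨b, hb⟩ := exists_smul_of_ker_le hφ hne
    exact hc2 b hb
  obtain ⟨v₂, hv₂, hv₂'⟩ : ∃ v, ψ ⬝ᵥ v = 0 ∧ φ ⬝ᵥ v ≠ 0 := by
    by_contra hne
    push Not at hne
    obtain ⟨b, hb⟩ := exists_smul_of_ker_le hψ hne
    have hb0 : b ≠ 0 := by
      rintro rfl
      rw [zero_smul] at hb
      exact hφ hb
    exact hc2 b⁻¹ (by rw [hb, smul_smul, inv_mul_cancel₀ hb0, one_smul])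
  -- the product of the two transvections is a transvection
  obtain ⟨R, ⟨z, χ, hz, hz0, hχ0, rfl⟩, hR⟩ := hL _ (mem_Rb.mpr ⟨1, rfl⟩) _ (mem_Rb.mpr ⟨1, rfl⟩)
  obtain ⟨e, he⟩ := mem_Rb.mp hR
  rw [← map_mul] at he
  obtain ⟨w, hw, hw1, hw2⟩ := exists_common_ker φ ψ
  have he' : TVc x φ h 1 * TVc y ψ h' 1 = TVc z χ hz e := by
    refine eq_of_pq_eq he hw ?_ (TVc_sub_one_sq z χ hz e)
    rw [coe_mul_mulVec, TVc_mulVec y ψ, hw2, mul_zero, zero_smul, add_zero, TVc_mulVec, hw1,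
      mul_zero, zero_smul, add_zero]
  have key : ∀ v : Fin (n + 3) → F,
      (φ ⬝ᵥ v + (φ ⬝ᵥ y) * (ψ ⬝ᵥ v)) • x + (ψ ⬝ᵥ v) • y = (e * (χ ⬝ᵥ v)) • z := by
    intro v
    have h1 := congrArg (fun g : SpecialLinearGroup (Fin (n + 3)) F =>
      (g : Matrix (Fin (n + 3)) (Fin (n + 3)) F) *ᵥ v) he'
    simp only [coe_mul_mulVec, TVc_mulVec, one_mul, dotProduct_add, dotProduct_smul,
      smul_eq_mul] at h1
    rw [add_assoc, add_right_inj] at h1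
    rw [← h1]
    module
  have k1 := key v₁
  have k2 := key v₂
  rw [hv₁, zero_add] at k1
  rw [hv₂, mul_zero, add_zero, zero_smul, add_zero] at k2
  have k3 : (χ ⬝ᵥ v₂) • (((φ ⬝ᵥ y) * (ψ ⬝ᵥ v₁)) • x + (ψ ⬝ᵥ v₁) • y) =
      (χ ⬝ᵥ v₁) • ((φ ⬝ᵥ v₂) • x) := by
    rw [k1, k2, smul_smul, smul_smul]
    congr 1
    ring
  by_cases hκ : χ ⬝ᵥ v₂ = 0
  · rw [hκ, mul_zero, zero_smul] at k2
    exact hx ((smul_eq_zero.mp k2).resolve_left hv₂')
  · apply hc1 ((ψ ⬝ᵥ v₁)⁻¹ * ((χ ⬝ᵥ v₂)⁻¹ * ((χ ⬝ᵥ v₁) * (φ ⬝ᵥ v₂)) - (φ ⬝ᵥ y) * (ψ ⬝ᵥ v₁)))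
    have k4 := congrArg (fun u : Fin (n + 3) → F => (χ ⬝ᵥ v₂)⁻¹ • u) k3
    simp only [smul_smul, inv_mul_cancel₀ hκ, one_smul] at k4
    have k5 : (ψ ⬝ᵥ v₁) • y =
        ((χ ⬝ᵥ v₂)⁻¹ * ((χ ⬝ᵥ v₁) * (φ ⬝ᵥ v₂)) - (φ ⬝ᵥ y) * (ψ ⬝ᵥ v₁)) • x := by
      rw [sub_smul, ← k4]
      abel
    rw [← smul_smul, ← k5, smul_smul, inv_mul_cancel₀ hv₁', one_smul]

theorem Lk_iff {x φ y ψ : Fin (n + 3) → F} (h : φ ⬝ᵥ x = 0) (h' : ψ ⬝ᵥ y = 0)
    (hx : x ≠ 0) (hφ : φ ≠ 0) (hy : y ≠ 0) (hψ : ψ ≠ 0) :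
    Lk (Rb x φ h) (Rb y ψ h') ↔ ((∃ a : F, y = a • x) ∨ ∃ b : F, ψ = b • φ) := by
  constructor
  · exact of_Lk h h' hx hφ hy hψ
  · rintro (h1 | h1)
    · exact Lk_of_point h h' h1
    · exact Lk_of_hyperplane h h' h1

end Cfsg.Agent.Helper8.AutSLn
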