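import Mathlib

set_option autoImplicit false

/-!
The automorphisms of `PSL_n(F)`, part E: a combinatorial lemma. A map of a set carrying two
equivalence relations `P` and `H` which preserves the relation `P ∨ H` (in both directions) either
preserves both `P` and `H` or interchanges them.
-/

namespace Cfsg.Agent.Helper8.AutSLn

section Grid

variable {Φ : Type*} (P H : Φ → Φ → Prop) (b : Φ → Φ)

theorem grid_clique (hP : Equivalence P) (hH : Equivalence H)
    (h1 : ∀ t t', P t t' ∨ H t t' → P (b t) (b t') ∨ H (b t) (b t')) (t : Φ) :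
    (∀ t', P t t' → P (b t) (b t')) ∨ (∀ t', P t t' → H (b t) (b t')) := by
  by_contra hcon
  push Not at hcon
  obtain ⟨⟨t1, ht1, hn1⟩, ⟨t2, ht2, hn2⟩⟩ := hcon
  have a1 : H (b t) (b t1) := (h1 t t1 (Or.inl ht1)).resolve_left hn1
  have a2 : P (b t) (b t2) := (h1 t t2 (Or.inl ht2)).resolve_right hn2
  rcases h1 t1 t2 (Or.inl (hP.trans (hP.symm ht1) ht2)) with a3 | a3
  · exact hn1 (hP.trans a2 (hP.symm a3))
  · exact hn2 (hH.trans a1 a3)

theorem grid_dichotomy (hP : Equivalence P) (hH : Equivalence H)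
    (h1 : ∀ t t', P t t' ∨ H t t' → P (b t) (b t') ∨ H (b t) (b t'))
    (h2 : ∀ t t', P (b t) (b t') → H (b t) (b t') → P t t' ∧ H t t')
    (h3 : ∀ t t', P (b t) (b t') ∨ H (b t) (b t') → P t t' ∨ H t t')
    (rP : ∀ t, ∃ t', P t t' ∧ ¬ H t t') (rH : ∀ t, ∃ t', H t t' ∧ ¬ P t t')
    (conn : ∀ t t', ∃ s s', P t s ∧ H s s' ∧ P s' t') :
    (∀ t t', (P t t' → P (b t) (b t')) ∧ (H t t' → H (b t) (b t'))) ∨
      (∀ t t', (P t t' → H (b t) (b t')) ∧ (H t t' → P (b t) (b t'))) := by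
  have c1 := grid_clique P H b hP hH h1
  have c2 := grid_clique H P b hH hP (fun t t' h => (h1 t t' h.symm).symm)
  have e1 : ∀ t, ¬ ((∀ t', P t t' → P (b t) (b t')) ∧ (∀ t', P t t' → H (b t) (b t'))) := by
    rintro t ⟨pp, ph⟩
    obtain ⟨t', p, nh⟩ := rP t
    exact nh (h2 t t' (pp t' p) (ph t' p)).2
  have e2 : ∀ t, ¬ ((∀ t', H t t' → H (b t) (b t')) ∧ (∀ t', H t t' → P (b t) (b t'))) := by
    rintro t ⟨hh, hp⟩
    obtain ⟨t', h, np⟩ := rH t
    exact np (h2 t t' (hp t' h) (hh t' h)).1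
  have e3 : ∀ t, ¬ ((∀ t', P t t' → P (b t) (b t')) ∧ (∀ t', H t t' → P (b t) (b t'))) := by
    rintro t ⟨pp, hp⟩
    obtain ⟨t', p, nh⟩ := rP t
    obtain ⟨t'', h, np⟩ := rH t
    rcases h3 t' t'' (Or.inl (hP.trans (hP.symm (pp t' p)) (hp t'' h))) with a | a
    · exact np (hP.trans p a)
    · exact nh (hH.trans h (hH.symm a))
  have e4 : ∀ t, ¬ ((∀ t', P t t' → H (b t) (b t')) ∧ (∀ t', H t t' → H (b t) (b t'))) := by
    rintro t ⟨ph, hh⟩
    obtain ⟨t', p, nh⟩ := rP t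
    obtain ⟨t'', h, np⟩ := rH t
    rcases h3 t' t'' (Or.inr (hH.trans (hH.symm (ph t' p)) (hh t'' h))) with a | a
    · exact np (hP.trans p a)
    · exact nh (hH.trans h (hH.symm a))
  have d : ∀ t, ((∀ t', P t t' → P (b t) (b t')) ∧ (∀ t', H t t' → H (b t) (b t'))) ∨
      ((∀ t', P t t' → H (b t) (b t')) ∧ (∀ t', H t t' → P (b t) (b t'))) := by
    intro t
    rcases c1 t with a | a <;> rcases c2 t with a' | a'
    · exact Or.inl ⟨a, a'⟩
    · exact absurd ⟨a, a'⟩ (e3 t)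
    · exact absurd ⟨a, a'⟩ (e4 t)
    · exact Or.inr ⟨a, a'⟩
  have s1 : ∀ t t', P t t' → (∀ s, P t s → P (b t) (b s)) → ∀ s, P t' s → P (b t') (b s) :=
    fun t t' p pp s ps => hP.trans (hP.symm (pp t' p)) (pp s (hP.trans p ps))
  have s1' : ∀ t t', P t t' → (∀ s, P t s → H (b t) (b s)) → ∀ s, P t' s → H (b t') (b s) :=
    fun t t' p ph s ps => hH.trans (hH.symm (ph t' p)) (ph s (hP.trans p ps))
  have s2 : ∀ t t', H t t' → (∀ s, H t s → H (b t) (b s)) → ∀ s, H t' s → H (b t') (b s) :=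
    fun t t' h hh s hs => hH.trans (hH.symm (hh t' h)) (hh s (hH.trans h hs))
  have s2' : ∀ t t', H t t' → (∀ s, H t s → P (b t) (b s)) → ∀ s, H t' s → P (b t') (b s) :=
    fun t t' h hp s hs => hP.trans (hP.symm (hp t' h)) (hp s (hH.trans h hs))
  have t3 : ∀ t t', P t t' →
      ((∀ s, P t s → H (b t) (b s)) ∧ (∀ s, H t s → P (b t) (b s))) →
      ((∀ s, P t' s → H (b t') (b s)) ∧ (∀ s, H t' s → P (b t') (b s))) := by
    rintro t t' p ⟨ph, -⟩
    rcases d t' with a | a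
    · exact absurd ⟨a.1, s1' t t' p ph⟩ (e1 t')
    · exact a
  have t4 : ∀ t t', H t t' →
      ((∀ s, P t s → H (b t) (b s)) ∧ (∀ s, H t s → P (b t) (b s))) →
      ((∀ s, P t' s → H (b t') (b s)) ∧ (∀ s, H t' s → P (b t') (b s))) := by
    rintro t t' h ⟨-, hp⟩
    rcases d t' with a | a
    · exact absurd ⟨a.2, s2' t t' h hp⟩ (e2 t')
    · exact a
  by_cases hall : ∀ t, ((∀ t', P t t' → P (b t) (b t')) ∧ (∀ t', H t t' → H (b t) (b t')))
  · exact Or.inl fun t t' => ⟨(hall t).1 t', (hall t).2 t'⟩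
  · obtain ⟨t0, ht0⟩ := not_forall.mp hall
    have m0 : (∀ t', P t0 t' → H (b t0) (b t')) ∧ (∀ t', H t0 t' → P (b t0) (b t')) := by
      rcases d t0 with a | a
      · exact absurd a ht0
      · exact a
    refine Or.inr fun t t' => ?_
    obtain ⟨s, s', p1, h1', p2⟩ := conn t0 t
    have := t3 s' t p2 (t4 s s' h1' (t3 t0 s p1 m0))
    exact ⟨this.1 t', this.2 t'⟩

end Grid

end Cfsg.Agent.Helper8.AutSLn
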