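import Mathlib
import Cfsg.Agent.Helper8.AutSLnD
import Cfsg.Agent.Helper8.AutSLnE

set_option autoImplicit false

/-!
The automorphisms of `PSL_n(F)`, part F: every automorphism either preserves the relations
"same point" and "same hyperplane" on the root groups, or interchanges them.
-/

namespace Cfsg.Agent.Helper8.AutSLn

open Matrix Cfsg Cfsg.Agent.Helper8.SLTrans Cfsg.Agent.Helper8.SLRoot
open scoped Pointwise

variable {F : Type*} [Field F] {n : ℕ}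

theorem par_symm {x y : Fin (n + 3) → F} (hy : y ≠ 0) (h : ∃ a : F, y = a • x) :
    ∃ a : F, x = a • y := by
  obtain ⟨a, rfl⟩ := h
  have ha : a ≠ 0 := by
    rintro rfl
    exact hy (zero_smul _ _)
  exact ⟨a⁻¹, by rw [smul_smul, inv_mul_cancel₀ ha, one_smul]⟩

theorem par_trans {x y z : Fin (n + 3) → F} (h : ∃ a : F, y = a • x) (h' : ∃ a : F, z = a • y) :
    ∃ a : F, z = a • x := by
  obtain ⟨a, rfl⟩ := h
  obtain ⟨b, rfl⟩ := h'
  exact ⟨b * a, by rw [smul_smul]⟩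

theorem Rb_eq_of_par {x φ x' φ' : Fin (n + 3) → F} (h : φ ⬝ᵥ x = 0) (h' : φ' ⬝ᵥ x' = 0)
    (hx' : x' ≠ 0) (hφ' : φ' ≠ 0) (hx : ∃ a : F, x' = a • x) (hφ : ∃ b : F, φ' = b • φ) :
    Rb x' φ' h' = Rb x φ h := by
  obtain ⟨a, ha⟩ := hx
  obtain ⟨b, hb⟩ := hφ
  have ha0 : a ≠ 0 := by
    rintro rfl
    exact hx' (by rw [ha, zero_smul])
  have hb0 : b ≠ 0 := by
    rintro rfl
    exact hφ' (by rw [hb, zero_smul])
  unfold Rb
  rw [XG_congr h h' ha0 hb0 ha hb]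

/-- incident point-hyperplane pairs, with chosen representatives -/
def Flag (F : Type*) [Field F] (n : ℕ) : Type _ :=
  {t : (Fin (n + 3) → F) × (Fin (n + 3) → F) // t.1 ≠ 0 ∧ t.2 ≠ 0 ∧ t.2 ⬝ᵥ t.1 = 0}

/-- the root group of a flag -/
def Flag.rb (t : Flag F n) : Subgroup (ProjectiveSpecialLinearGroup (Fin (n + 3)) F) :=
  Rb t.1.1 t.1.2 t.2.2.2

/-- the flag of a pair -/
def Flag.mk' (x φ : Fin (n + 3) → F) (hx : x ≠ 0) (hφ : φ ≠ 0) (h : φ ⬝ᵥ x = 0) : Flag F n :=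
  ⟨(x, φ), hx, hφ, h⟩

theorem Flag.rb_mk' (x φ : Fin (n + 3) → F) (hx : x ≠ 0) (hφ : φ ≠ 0) (h : φ ⬝ᵥ x = 0) :
    (Flag.mk' x φ hx hφ h).rb = Rb x φ h := rfl

theorem Flag.isRoot (t : Flag F n) : IsRoot t.rb := isRoot_Rb t.2.2.2 t.2.1 t.2.2.1

theorem exists_flag_of_isRoot {R : Subgroup (ProjectiveSpecialLinearGroup (Fin (n + 3)) F)}
    (hR : IsRoot R) : ∃ t : Flag F n, R = t.rb := by
  obtain ⟨x, φ, h, hx, hφ, rfl⟩ := hR
  exact ⟨Flag.mk' x φ hx hφ h, rfl⟩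

/-- same point -/
def PtRel (t t' : Flag F n) : Prop := ∃ a : F, t'.1.1 = a • t.1.1

/-- same hyperplane -/
def HpRel (t t' : Flag F n) : Prop := ∃ a : F, t'.1.2 = a • t.1.2

theorem ptRel_equivalence : Equivalence (PtRel (F := F) (n := n)) where
  refl _ := ⟨1, (one_smul _ _).symm⟩
  symm {_ t'} h := par_symm t'.2.1 h
  trans h h' := par_trans h h'

theorem hpRel_equivalence : Equivalence (HpRel (F := F) (n := n)) where
  refl _ := ⟨1, (one_smul _ _).symm⟩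
  symm {_ t'} h := par_symm t'.2.2.1 h
  trans h h' := par_trans h h'

theorem Lk_flag_iff (t t' : Flag F n) : Lk t.rb t'.rb ↔ (PtRel t t' ∨ HpRel t t') :=
  Lk_iff t.2.2.2 t'.2.2.2 t.2.1 t.2.2.1 t'.2.1 t'.2.2.1

theorem rb_eq_iff (t t' : Flag F n) : t.rb = t'.rb ↔ (PtRel t t' ∧ HpRel t t') := by
  constructor
  · intro e
    obtain ⟨h1, h2⟩ := smul_of_Rb_eq t'.2.2.2 t.2.2.2 t'.2.1 t'.2.2.1 e.symm
    exact ⟨h1, h2⟩
  · rintro ⟨h1, h2⟩
    exact (Rb_eq_of_par t.2.2.2 t'.2.2.2 t'.2.1 t'.2.2.1 h1 h2).symm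

theorem two_ne_one'' : (2 : Fin (n + 3)) ≠ 1 := two_ne_one'

/-- every point lies on a second hyperplane -/
theorem exists_ptRel_not_hpRel (t : Flag F n) : ∃ t' : Flag F n, PtRel t t' ∧ ¬ HpRel t t' := by
  obtain ⟨⟨x, φ⟩, hx, hφ, h⟩ := t
  dsimp only at hx hφ h
  obtain ⟨g, hg0, hg1⟩ := exists_flag hx hφ h
  have h2 : (eb F n 2 ᵥ* ((g⁻¹ : SpecialLinearGroup (Fin (n + 3)) F) :
      Matrix (Fin (n + 3)) (Fin (n + 3)) F)) ⬝ᵥ x = 0 := by
    rw [← hg0, ← dotProduct_mulVec, coe_inv_mulVec']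
    exact eb_dot_ne two_ne_zero'
  refine ⟨Flag.mk' x _ hx (vecMul_ne_zero'' g⁻¹ (eb_ne_zero 2)) h2, ⟨1, (one_smul _ _).symm⟩, ?_⟩
  rintro ⟨a, ha⟩
  change eb F n 2 ᵥ* ((g⁻¹ : SpecialLinearGroup (Fin (n + 3)) F) :
      Matrix (Fin (n + 3)) (Fin (n + 3)) F) = a • φ at ha
  have h3 := congrArg (fun ρ : Fin (n + 3) → F =>
    ρ ᵥ* (g : Matrix (Fin (n + 3)) (Fin (n + 3)) F)) ha
  simp only [Matrix.vecMul_vecMul, coe_inv_mul, Matrix.vecMul_one, Matrix.smul_vecMul, hg1] at h3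
  have h4 := congrFun h3 2
  rw [eb_apply, if_pos rfl, Pi.smul_apply, e1, Pi.single_apply, if_neg two_ne_one', smul_zero] at h4
  exact one_ne_zero h4

/-- every hyperplane contains a second point -/
theorem exists_hpRel_not_ptRel (t : Flag F n) : ∃ t' : Flag F n, HpRel t t' ∧ ¬ PtRel t t' := by
  obtain ⟨⟨x, φ⟩, hx, hφ, h⟩ := t
  dsimp only at hx hφ h
  obtain ⟨g, hg0, hg1⟩ := exists_flag hx hφ h
  have h2 : φ ⬝ᵥ ((g : Matrix (Fin (n + 3)) (Fin (n + 3)) F) *ᵥ eb F n 2) = 0 := by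
    rw [dotProduct_mulVec, hg1, e1, ← eb]
    exact eb_dot_ne two_ne_one'.symm
  refine ⟨Flag.mk' _ φ (mulVec_ne_zero'' g (eb_ne_zero 2)) hφ h2, ⟨1, (one_smul _ _).symm⟩, ?_⟩
  rintro ⟨a, ha⟩
  change (g : Matrix (Fin (n + 3)) (Fin (n + 3)) F) *ᵥ eb F n 2 = a • x at ha
  have h3 := congrArg (fun v : Fin (n + 3) → F =>
    ((g⁻¹ : SpecialLinearGroup (Fin (n + 3)) F) : Matrix (Fin (n + 3)) (Fin (n + 3)) F) *ᵥ v) ha
  simp only [coe_inv_mulVec', Matrix.mulVec_smul, ← hg0] at h3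
  have h4 := congrFun h3 2
  rw [eb_apply, if_pos rfl, Pi.smul_apply, e0, Pi.single_apply, if_neg two_ne_zero',
    smul_zero] at h4
  exact one_ne_zero h4

/-- any two flags are connected -/
theorem exists_flag_chain (t t' : Flag F n) :
    ∃ s s' : Flag F n, PtRel t s ∧ HpRel s s' ∧ PtRel s' t' := by
  obtain ⟨χ, hχ, h1, h2⟩ := exists_common_ann t.1.1 t'.1.1
  exact ⟨Flag.mk' t.1.1 χ t.2.1 hχ h1, Flag.mk' t'.1.1 χ t'.2.1 hχ h2, ⟨1, (one_smul _ _).symm⟩,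
    ⟨1, (one_smul _ _).symm⟩, ⟨1, (one_smul _ _).symm⟩⟩

/-- the automorphism preserves points and hyperplanes -/
def IsPlus (β : MulAut (ProjectiveSpecialLinearGroup (Fin (n + 3)) F)) : Prop :=
  ∀ t t' s s' : Flag F n, β • t.rb = s.rb → β • t'.rb = s'.rb →
    (PtRel t t' → PtRel s s') ∧ (HpRel t t' → HpRel s s')

/-- the automorphism interchanges points and hyperplanes -/
def IsMinus (β : MulAut (ProjectiveSpecialLinearGroup (Fin (n + 3)) F)) : Prop :=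
  ∀ t t' s s' : Flag F n, β • t.rb = s.rb → β • t'.rb = s'.rb →
    (PtRel t t' → HpRel s s') ∧ (HpRel t t' → PtRel s s')

theorem isPlus_or_isMinus [Fintype F] (p : ℕ) [Fact p.Prime] [CharP F p]
    (β : MulAut (ProjectiveSpecialLinearGroup (Fin (n + 3)) F)) : IsPlus β ∨ IsMinus β := by
  have hex : ∀ t : Flag F n, ∃ t' : Flag F n, β • t.rb = t'.rb :=
    fun t => exists_flag_of_isRoot (t.isRoot.map p β)
  choose b hb using hex
  have h1 : ∀ t t', PtRel t t' ∨ HpRel t t' → PtRel (b t) (b t') ∨ HpRel (b t) (b t') := by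
    intro t t' h
    rw [← Lk_flag_iff, ← hb, ← hb]
    exact Lk_smul p β ((Lk_flag_iff t t').mpr h)
  have h3 : ∀ t t', PtRel (b t) (b t') ∨ HpRel (b t) (b t') → PtRel t t' ∨ HpRel t t' := by
    intro t t' h
    rw [← Lk_flag_iff, ← hb, ← hb] at h
    have h4 := Lk_smul p β⁻¹ h
    rw [inv_smul_smul, inv_smul_smul] at h4
    exact (Lk_flag_iff t t').mp h4
  have h2 : ∀ t t', PtRel (b t) (b t') → HpRel (b t) (b t') → PtRel t t' ∧ HpRel t t' := by
    intro t t' hp hh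
    have h4 := (rb_eq_iff (b t) (b t')).mpr ⟨hp, hh⟩
    rw [← hb, ← hb] at h4
    exact (rb_eq_iff t t').mp (smul_left_cancel β h4)
  have hs : ∀ t s : Flag F n, β • t.rb = s.rb → PtRel (b t) s ∧ HpRel (b t) s := by
    intro t s e
    rw [hb] at e
    exact (rb_eq_iff _ _).mp e
  rcases grid_dichotomy PtRel HpRel b ptRel_equivalence hpRel_equivalence h1 h2 h3
    exists_ptRel_not_hpRel exists_hpRel_not_ptRel exists_flag_chain with h | h
  · left
    intro t t' s s' e e'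
    obtain ⟨p1, q1⟩ := hs t s e
    obtain ⟨p2, q2⟩ := hs t' s' e'
    exact ⟨fun hp => ptRel_equivalence.trans (ptRel_equivalence.symm p1)
        (ptRel_equivalence.trans ((h t t').1 hp) p2),
      fun hh => hpRel_equivalence.trans (hpRel_equivalence.symm q1)
        (hpRel_equivalence.trans ((h t t').2 hh) q2)⟩
  · right
    intro t t' s s' e e'
    obtain ⟨p1, q1⟩ := hs t s e
    obtain ⟨p2, q2⟩ := hs t' s' e'
    exact ⟨fun hp => hpRel_equivalence.trans (hpRel_equivalence.symm q1)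
        (hpRel_equivalence.trans ((h t t').1 hp) q2),
      fun hh => ptRel_equivalence.trans (ptRel_equivalence.symm p1)
        (ptRel_equivalence.trans ((h t t').2 hh) p2)⟩

end Cfsg.Agent.Helper8.AutSLn
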