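import Mathlib
import Cfsg.Agent.Helper8.AutSLnF

set_option autoImplicit false

/-!
The automorphisms of `PSL_n(F)`, part G: an automorphism preserving points and hyperplanes maps the
elementary root groups to the root groups of a frame; after an inner automorphism it fixes them.
-/

namespace Cfsg.Agent.Helper8.AutSLn

open Matrix Cfsg Cfsg.Agent.Helper8.SLTrans Cfsg.Agent.Helper8.SLRoot
open scoped Pointwise commutatorElement

variable {F : Type*} [Field F] {n : ℕ}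

/-- an index different from the given one -/
def nx (i : Fin (n + 3)) : Fin (n + 3) := if i = 0 then 1 else 0

theorem nx_ne (i : Fin (n + 3)) : nx i ≠ i := by
  unfold nx
  split_ifs with h
  · rw [h]
    exact one_ne_zero''
  · exact Ne.symm h

theorem exists_third (i j : Fin (n + 3)) : ∃ l : Fin (n + 3), l ≠ i ∧ l ≠ j := by
  by_cases h0 : (0 : Fin (n + 3)) ≠ i ∧ (0 : Fin (n + 3)) ≠ j
  · exact ⟨0, h0⟩
  by_cases h1 : (1 : Fin (n + 3)) ≠ i ∧ (1 : Fin (n + 3)) ≠ j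
  · exact ⟨1, h1⟩
  have h01 : (1 : Fin (n + 3)) ≠ 0 := one_ne_zero''
  have h20 : (2 : Fin (n + 3)) ≠ 0 := two_ne_zero'
  have h21 : (2 : Fin (n + 3)) ≠ 1 := two_ne_one'
  refine ⟨2, ?_, ?_⟩
  · rintro rfl
    rw [not_and_or, not_not, not_not] at h0 h1
    rcases h0 with h0 | h0
    · exact h20 h0.symm
    · rcases h1 with h1 | h1
      · exact h21 h1.symm
      · exact h01 (h1.trans h0.symm)
  · rintro rfl
    rw [not_and_or, not_not, not_not] at h0 h1
    rcases h0 with h0 | h0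
    · rcases h1 with h1 | h1
      · exact h01 (h1.trans h0.symm)
      · exact h21 h1.symm
    · exact h20 h0.symm

/-- the elementary flags -/
def fl (i j : Fin (n + 3)) (hij : i ≠ j) : Flag F n :=
  Flag.mk' (eb F n i) (eb F n j) (eb_ne_zero i) (eb_ne_zero j) (eb_dot_ne hij.symm)

theorem fl_rb (i j : Fin (n + 3)) (hij : i ≠ j) :
    (fl (F := F) i j hij).rb = Rb (eb F n i) (eb F n j) (eb_dot_ne hij.symm) := rfl

/-- elementary root elements of `PSL` -/
def xb (i j : Fin (n + 3)) (hij : i ≠ j) (c : F) : ProjectiveSpecialLinearGroup (Fin (n + 3)) F :=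
  pq F n (TVc (eb F n i) (eb F n j) (eb_dot_ne hij.symm) c)

theorem xb_mem (i j : Fin (n + 3)) (hij : i ≠ j) (c : F) :
    xb i j hij c ∈ Rb (eb F n i) (eb F n j) (eb_dot_ne hij.symm) := mem_Rb.mpr ⟨c, rfl⟩

theorem xb_eq_one_iff (i j : Fin (n + 3)) (hij : i ≠ j) (c : F) : xb i j hij c = 1 ↔ c = 0 := by
  constructor
  · intro h
    exact (TVc_eq_one_iff _ (eb_ne_zero i) (eb_ne_zero j) c).mp (TVc_eq_one_of_pq_eq _ h)
  · rintro rfl
    rw [xb, TVc_zero, map_one]

theorem xb_add (i j : Fin (n + 3)) (hij : i ≠ j) (c d : F) :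
    xb i j hij (c + d) = xb i j hij c * xb i j hij d := by
  rw [xb, xb, xb, ← map_mul, TVc_mul]

theorem xb_injective (i j : Fin (n + 3)) (hij : i ≠ j) :
    Function.Injective (xb (F := F) i j hij) := by
  intro c d h
  have h1 : xb i j hij (c - d) = 1 := by
    have := xb_add i j hij (c - d) d
    rw [sub_add_cancel, h] at this
    exact (mul_eq_right.mp this.symm)
  exact sub_eq_zero.mp ((xb_eq_one_iff i j hij _).mp h1)

theorem xb_commutator (i j k : Fin (n + 3)) (hij : i ≠ j) (hjk : j ≠ k) (hik : i ≠ k) (c d : F) :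
    ⁅xb i j hij c, xb j k hjk d⁆ = xb i k hik (c * d) := by
  rw [xb, xb, xb, ← map_commutatorElement,
    TVc_commutator (eb_dot_ne hij.symm) (eb_dot_ne hjk.symm) (eb_dot_ne hik.symm), eb_dot_self,
    mul_one]

/-- the frame of an automorphism preserving points and hyperplanes -/
theorem exists_frame [Fintype F] (p : ℕ) [Fact p.Prime] [CharP F p]
    (β : MulAut (ProjectiveSpecialLinearGroup (Fin (n + 3)) F)) (hβ : IsPlus β) :
    ∃ y ψ : Fin (n + 3) → Fin (n + 3) → F, (∀ i j, i ≠ j → ψ j ⬝ᵥ y i = 0) ∧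
      (∀ j, ψ j ⬝ᵥ y j ≠ 0) ∧
      ∀ i j (hij : i ≠ j) (h : ψ j ⬝ᵥ y i = 0),
        β • Rb (eb F n i) (eb F n j) (eb_dot_ne hij.symm) = Rb (y i) (ψ j) h := by
  have hex : ∀ i j (hij : i ≠ j), ∃ s : Flag F n, β • (fl (F := F) i j hij).rb = s.rb :=
    fun i j hij => exists_flag_of_isRoot ((fl i j hij).isRoot.map p β)
  choose s hs using hex
  obtain ⟨y, hy⟩ : ∃ y : Fin (n + 3) → Fin (n + 3) → F,
      ∀ i, y i = (s i (nx i) (nx_ne i).symm).1.1 := ⟨_, fun _ => rfl⟩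
  obtain ⟨ψ, hψ⟩ : ∃ ψ : Fin (n + 3) → Fin (n + 3) → F,
      ∀ j, ψ j = (s (nx j) j (nx_ne j)).1.2 := ⟨_, fun _ => rfl⟩
  -- the image of the `(i, j)` root group
  have key : ∀ i j (hij : i ≠ j), (∃ a : F, y i = a • (s i j hij).1.1) ∧
      ∃ b : F, ψ j = b • (s i j hij).1.2 := by
    intro i j hij
    constructor
    · have := (hβ (fl i j hij) (fl i (nx i) (nx_ne i).symm) _ _ (hs i j hij)
        (hs i (nx i) (nx_ne i).symm)).1 ⟨1, (one_smul _ _).symm⟩
      rw [hy]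
      exact this
    · have := (hβ (fl i j hij) (fl (nx j) j (nx_ne j)) _ _ (hs i j hij)
        (hs (nx j) j (nx_ne j))).2 ⟨1, (one_smul _ _).symm⟩
      rw [hψ]
      exact this
  have hy0 : ∀ i, y i ≠ 0 := fun i => by
    rw [hy]
    exact (s i (nx i) (nx_ne i).symm).2.1
  have hψ0 : ∀ j, ψ j ≠ 0 := fun j => by
    rw [hψ]
    exact (s (nx j) j (nx_ne j)).2.2.1
  have hdot : ∀ i j, i ≠ j → ψ j ⬝ᵥ y i = 0 := by
    intro i j hij
    obtain ⟨⟨a, ha⟩, ⟨b, hb⟩⟩ := key i j hij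
    rw [ha, hb, smul_dotProduct, dotProduct_smul, (s i j hij).2.2.2, smul_zero, smul_zero]
  have himg : ∀ i j (hij : i ≠ j) (h : ψ j ⬝ᵥ y i = 0),
      β • Rb (eb F n i) (eb F n j) (eb_dot_ne hij.symm) = Rb (y i) (ψ j) h := by
    intro i j hij h
    rw [← fl_rb i j hij, hs i j hij]
    exact (Rb_eq_of_par (s i j hij).2.2.2 h (hy0 i) (hψ0 j) (key i j hij).1 (key i j hij).2).symm
  refine ⟨y, ψ, hdot, ?_, himg⟩
  intro j hj
  obtain ⟨i, hij⟩ : ∃ i, i ≠ j := ⟨nx j, nx_ne j⟩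
  obtain ⟨l, hli, hlj⟩ := exists_third i j
  -- two non-commuting root elements
  have h1 : ⁅xb (F := F) i j hij 1, xb (F := F) j l hlj.symm 1⁆ ≠ 1 := by
    rw [xb_commutator i j l hij hlj.symm hli.symm, mul_one, Ne, xb_eq_one_iff]
    exact one_ne_zero
  apply h1
  rw [commutatorElement_eq_one_iff_mul_comm]
  apply β.injective
  rw [map_mul, map_mul]
  have m1 : β (xb i j hij 1) ∈ Rb (y i) (ψ j) (hdot i j hij) := by
    rw [← himg i j hij]
    exact Subgroup.smul_mem_pointwise_smul _ _ _ (xb_mem i j hij 1)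
  have m2 : β (xb j l hlj.symm 1) ∈ Rb (y j) (ψ l) (hdot j l hlj.symm) := by
    rw [← himg j l hlj.symm]
    exact Subgroup.smul_mem_pointwise_smul _ _ _ (xb_mem j l hlj.symm 1)
  obtain ⟨c, hc⟩ := mem_Rb.mp m1
  obtain ⟨d, hd⟩ := mem_Rb.mp m2
  rw [hc, hd, ← map_mul, ← map_mul, TVc_comm _ _ hj (hdot i l hli.symm)]

end Cfsg.Agent.Helper8.AutSLn
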