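import Mathlib
import Cfsg.Agent.Helper8.AutSLnG

set_option autoImplicit false

/-!
The automorphisms of `PSL_n(F)`, part H: an automorphism preserving points and hyperplanes agrees
with an inner automorphism on the set of elementary root groups.
-/

namespace Cfsg.Agent.Helper8.AutSLn

open Matrix Cfsg Cfsg.Agent.Helper8.SLTrans Cfsg.Agent.Helper8.SLRoot
open scoped Pointwise

variable {F : Type*} [Field F] {n : ℕ}

theorem exists_SL_of_frame (y ψ : Fin (n + 3) → Fin (n + 3) → F)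
    (h0 : ∀ i j, i ≠ j → ψ j ⬝ᵥ y i = 0) (h1 : ∀ j, ψ j ⬝ᵥ y j ≠ 0) :
    ∃ g : SpecialLinearGroup (Fin (n + 3)) F, ∀ i : Fin (n + 3),
      (∃ a : F, (g : Matrix (Fin (n + 3)) (Fin (n + 3)) F) *ᵥ eb F n i = a • y i) ∧
      ∃ b : F, eb F n i ᵥ* ((g⁻¹ : SpecialLinearGroup (Fin (n + 3)) F) :
        Matrix (Fin (n + 3)) (Fin (n + 3)) F) = b • ψ i := by
  obtain ⟨Y, hY⟩ : ∃ Y : Matrix (Fin (n + 3)) (Fin (n + 3)) F, ∀ a i, Y a i = y i a :=
    ⟨Matrix.of fun a i => y i a, fun _ _ => rfl⟩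
  obtain ⟨Ψ, hΨ⟩ : ∃ Ψ : Matrix (Fin (n + 3)) (Fin (n + 3)) F, ∀ j b, Ψ j b = ψ j b :=
    ⟨Matrix.of fun j b => ψ j b, fun _ _ => rfl⟩
  have hmul : Ψ * Y = Matrix.diagonal fun j => ψ j ⬝ᵥ y j := by
    ext j i
    rw [Matrix.mul_apply, Matrix.diagonal_apply]
    have e : ∑ b, Ψ j b * Y b i = ψ j ⬝ᵥ y i := by
      simp only [hY, hΨ, dotProduct]
    rw [e]
    split_ifs with hji
    · rw [hji]
    · exact h0 i j (Ne.symm hji)
  have hdet : Y.det ≠ 0 := by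
    intro hd
    have h2 := congrArg Matrix.det hmul
    rw [Matrix.det_mul, hd, mul_zero, Matrix.det_diagonal] at h2
    exact Finset.prod_ne_zero_iff.mpr (fun j _ => h1 j) h2.symm
  obtain ⟨c, hc⟩ : ∃ c : Fin (n + 3) → F, c = Function.update (fun _ => 1) 0 (Y.det)⁻¹ := ⟨_, rfl⟩
  have hc0 : ∀ i, c i ≠ 0 := by
    intro i
    rw [hc]
    by_cases hi : i = 0
    · rw [hi, Function.update_self]
      exact inv_ne_zero hdet
    · rw [Function.update_of_ne hi]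
      exact one_ne_zero
  have hprod : ∏ i, c i = (Y.det)⁻¹ := by
    rw [hc, Finset.prod_update_of_mem (Finset.mem_univ _), Finset.prod_const_one, mul_one]
  have hdet' : (Y * Matrix.diagonal c).det = 1 := by
    rw [Matrix.det_mul, Matrix.det_diagonal, hprod, mul_inv_cancel₀ hdet]
  obtain ⟨g, hg⟩ : ∃ g : SpecialLinearGroup (Fin (n + 3)) F,
      (g : Matrix (Fin (n + 3)) (Fin (n + 3)) F) = Y * Matrix.diagonal c := ⟨⟨_, hdet'⟩, rfl⟩
  refine ⟨g, fun i => ⟨⟨c i, ?_⟩, ⟨(c i * (ψ i ⬝ᵥ y i))⁻¹, ?_⟩⟩⟩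
  · ext a
    rw [mulVec_eb, hg, Matrix.mul_diagonal, hY, Pi.smul_apply, smul_eq_mul, mul_comm]
  · have h2 : ψ i ᵥ* (g : Matrix (Fin (n + 3)) (Fin (n + 3)) F) =
        (c i * (ψ i ⬝ᵥ y i)) • eb F n i := by
      ext k
      have e : (ψ i ᵥ* (g : Matrix (Fin (n + 3)) (Fin (n + 3)) F)) k = (ψ i ⬝ᵥ y k) * c k := by
        rw [hg, Matrix.vecMul, dotProduct, dotProduct, Finset.sum_mul]
        apply Finset.sum_congr rfl
        intro a _
        rw [Matrix.mul_diagonal, hY, mul_assoc]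
      rw [e, Pi.smul_apply, eb_apply, smul_eq_mul]
      split_ifs with hk
      · rw [hk, mul_one, mul_comm]
      · rw [h0 k i hk, zero_mul, mul_zero]
    obtain ⟨κ, hκ⟩ : ∃ κ, κ = c i * (ψ i ⬝ᵥ y i) := ⟨_, rfl⟩
    have hκ0 : κ ≠ 0 := hκ ▸ mul_ne_zero (hc0 i) (h1 i)
    rw [← hκ] at h2 ⊢
    have h3 := congrArg (fun ρ : Fin (n + 3) → F =>
      ρ ᵥ* ((g⁻¹ : SpecialLinearGroup (Fin (n + 3)) F) :
        Matrix (Fin (n + 3)) (Fin (n + 3)) F)) h2
    simp only [Matrix.vecMul_vecMul, coe_mul_inv, Matrix.vecMul_one, Matrix.smul_vecMul] at h3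
    rw [h3, smul_smul, inv_mul_cancel₀ hκ0, one_smul]

/-- an automorphism preserving points and hyperplanes agrees with an inner automorphism on the
elementary root groups -/
theorem exists_conj_fix [Fintype F] (p : ℕ) [Fact p.Prime] [CharP F p]
    (β : MulAut (ProjectiveSpecialLinearGroup (Fin (n + 3)) F)) (hβ : IsPlus β) :
    ∃ g : SpecialLinearGroup (Fin (n + 3)) F, ∀ i j (hij : i ≠ j),
      β • Rb (eb F n i) (eb F n j) (eb_dot_ne hij.symm) =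
        MulAut.conj (pq F n g) • Rb (eb F n i) (eb F n j) (eb_dot_ne hij.symm) := by
  obtain ⟨y, ψ, h0, h1, himg⟩ := exists_frame p β hβ
  obtain ⟨g, hg⟩ := exists_SL_of_frame y ψ h0 h1
  refine ⟨g, fun i j hij => ?_⟩
  rw [himg i j hij (h0 i j hij), conj_smul_Rb]
  exact (Rb_eq_of_par (h0 i j hij) _ (mulVec_ne_zero'' g (eb_ne_zero i))
    (vecMul_ne_zero'' g⁻¹ (eb_ne_zero j)) (hg i).1 (hg j).2).symm

end Cfsg.Agent.Helper8.AutSLn
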