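import Mathlib
import Cfsg.Prelude.Def_LieTypeDatum
import Cfsg.Prelude.Def_StandardType

set_option autoImplicit false

/-!
The automorphisms of `PSL_n(F)`, part I: the standard automorphisms (induced by invertible matrices,
by field automorphisms, and the inverse transpose), for an arbitrary index type.
-/

namespace Cfsg.Agent.Helper8.AutSLn

open Matrix

variable {m : Type*} [Fintype m] [DecidableEq m] {F : Type*} [Field F]

/-- an automorphism of `SL` induces an automorphism of `PSL` -/
noncomputable def pslLift : MulAut (SpecialLinearGroup m F) →*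
    MulAut (ProjectiveSpecialLinearGroup m F) where
  toFun e := QuotientGroup.congr (Subgroup.center (SpecialLinearGroup m F))
    (Subgroup.center (SpecialLinearGroup m F)) e
    (Subgroup.characteristic_iff_map_eq.mp Subgroup.centerCharacteristic e)
  map_one' := by
    ext x
    induction x using QuotientGroup.induction_on with
    | H s => rfl
  map_mul' e e' := by
    ext x
    induction x using QuotientGroup.induction_on with
    | H s => rfl

theorem pslLift_mk (e : MulAut (SpecialLinearGroup m F)) (s : SpecialLinearGroup m F) :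
    pslLift e (QuotientGroup.mk s) = QuotientGroup.mk (e s) := rfl

/-- conjugation by an invertible matrix, on `SL` -/
def slConjFun (g : GL m F) (s : SpecialLinearGroup m F) : SpecialLinearGroup m F :=
  ⟨(g : Matrix m m F) * (s : Matrix m m F) * ((g⁻¹ : GL m F) : Matrix m m F), by
    rw [Matrix.det_mul, Matrix.det_mul, s.2, mul_one, ← Matrix.det_mul, ← Units.val_mul,
      mul_inv_cancel, Units.val_one, Matrix.det_one]⟩

theorem slConjFun_coe (g : GL m F) (s : SpecialLinearGroup m F) :
    (slConjFun g s : Matrix m m F) =
      (g : Matrix m m F) * (s : Matrix m m F) * ((g⁻¹ : GL m F) : Matrix m m F) := rfl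

theorem slConjFun_mul (g h : GL m F) (s : SpecialLinearGroup m F) :
    slConjFun (g * h) s = slConjFun g (slConjFun h s) := by
  apply Subtype.ext
  rw [slConjFun_coe, slConjFun_coe, slConjFun_coe, _root_.mul_inv_rev, Units.val_mul, Units.val_mul]
  simp only [Matrix.mul_assoc]

theorem slConjFun_one (s : SpecialLinearGroup m F) : slConjFun 1 s = s := by
  apply Subtype.ext
  rw [slConjFun_coe, inv_one, Units.val_one, Matrix.one_mul, Matrix.mul_one]

/-- conjugation by an invertible matrix, as an automorphism of `SL` -/
def slConj : GL m F →* MulAut (SpecialLinearGroup m F) where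
  toFun g :=
    { toFun := slConjFun g
      invFun := slConjFun g⁻¹
      left_inv := fun s => by rw [← slConjFun_mul, inv_mul_cancel, slConjFun_one]
      right_inv := fun s => by rw [← slConjFun_mul, mul_inv_cancel, slConjFun_one]
      map_mul' := fun s t => by
        apply Subtype.ext
        rw [Matrix.SpecialLinearGroup.coe_mul, slConjFun_coe, slConjFun_coe, slConjFun_coe,
          Matrix.SpecialLinearGroup.coe_mul]
        have h1 : ((g⁻¹ : GL m F) : Matrix m m F) * (g : Matrix m m F) = 1 := by
          rw [← Units.val_mul, inv_mul_cancel, Units.val_one]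
        simp only [Matrix.mul_assoc]
        rw [← Matrix.mul_assoc ((g⁻¹ : GL m F) : Matrix m m F) (g : Matrix m m F), h1,
          Matrix.one_mul] }
  map_one' := by
    ext s : 1
    exact slConjFun_one s
  map_mul' g h := by
    ext s : 1
    exact slConjFun_mul g h s

theorem slConj_coe (g : GL m F) (s : SpecialLinearGroup m F) :
    (slConj g s : Matrix m m F) =
      (g : Matrix m m F) * (s : Matrix m m F) * ((g⁻¹ : GL m F) : Matrix m m F) := rfl

/-- a field automorphism applied to all entries, as an automorphism of `SL` -/
def slField : (F ≃+* F) →* MulAut (SpecialLinearGroup m F) where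
  toFun σ :=
    { toFun := Matrix.SpecialLinearGroup.map (σ : F →+* F)
      invFun := Matrix.SpecialLinearGroup.map (σ.symm : F →+* F)
      left_inv := fun s => by
        apply Subtype.ext
        ext i j
        show σ.symm (σ ((s : Matrix m m F) i j)) = _
        rw [RingEquiv.symm_apply_apply]
      right_inv := fun s => by
        apply Subtype.ext
        ext i j
        show σ (σ.symm ((s : Matrix m m F) i j)) = _
        rw [RingEquiv.apply_symm_apply]
      map_mul' := fun s t => map_mul _ s t }
  map_one' := by
    ext s : 1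
    apply Subtype.ext
    ext i j
    rfl
  map_mul' σ τ := by
    ext s : 1
    apply Subtype.ext
    ext i j
    rfl

theorem slField_coe (σ : F ≃+* F) (s : SpecialLinearGroup m F) :
    (slField σ s : Matrix m m F) = (s : Matrix m m F).map σ := rfl

/-- the inverse transpose, on `SL` -/
def slInvTrFun (s : SpecialLinearGroup m F) : SpecialLinearGroup m F :=
  Matrix.SpecialLinearGroup.transpose s⁻¹

theorem slInvTrFun_coe (s : SpecialLinearGroup m F) :
    (slInvTrFun s : Matrix m m F) = ((s⁻¹ : SpecialLinearGroup m F) : Matrix m m F).transpose :=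
  rfl

theorem slInvTrFun_mul (s t : SpecialLinearGroup m F) :
    slInvTrFun (s * t) = slInvTrFun s * slInvTrFun t := by
  apply Subtype.ext
  rw [Matrix.SpecialLinearGroup.coe_mul, slInvTrFun_coe, slInvTrFun_coe, slInvTrFun_coe,
    _root_.mul_inv_rev, Matrix.SpecialLinearGroup.coe_mul, Matrix.transpose_mul]

theorem slInvTrFun_invol (s : SpecialLinearGroup m F) : slInvTrFun (slInvTrFun s) = s := by
  have h1 : slInvTrFun s * Matrix.SpecialLinearGroup.transpose s = 1 := by
    apply Subtype.ext
    rw [Matrix.SpecialLinearGroup.coe_mul, slInvTrFun_coe, Matrix.SpecialLinearGroup.coe_transpose,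
      ← Matrix.transpose_mul, ← Matrix.SpecialLinearGroup.coe_mul, mul_inv_cancel,
      Matrix.SpecialLinearGroup.coe_one, Matrix.transpose_one]
  have h2 : (slInvTrFun s)⁻¹ = Matrix.SpecialLinearGroup.transpose s := inv_eq_of_mul_eq_one_right h1
  apply Subtype.ext
  rw [slInvTrFun_coe, h2, Matrix.SpecialLinearGroup.coe_transpose, Matrix.transpose_transpose]

/-- the inverse transpose automorphism of `SL` -/
def slInvTr : MulAut (SpecialLinearGroup m F) where
  toFun := slInvTrFun
  invFun := slInvTrFun
  left_inv := slInvTrFun_invol
  right_inv := slInvTrFun_invol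
  map_mul' := slInvTrFun_mul

theorem slInvTr_coe (s : SpecialLinearGroup m F) :
    (slInvTr s : Matrix m m F) = ((s⁻¹ : SpecialLinearGroup m F) : Matrix m m F).transpose := rfl

theorem slInvTr_mul_self : (slInvTr : MulAut (SpecialLinearGroup m F)) * slInvTr = 1 := by
  ext s : 1
  exact slInvTrFun_invol s

/-- the inner-diagonal automorphisms of `PSL` -/
noncomputable def pslConj : GL m F →* MulAut (ProjectiveSpecialLinearGroup m F) :=
  pslLift.comp slConj

/-- the field automorphisms of `PSL` -/
noncomputable def pslField : (F ≃+* F) →* MulAut (ProjectiveSpecialLinearGroup m F) :=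
  pslLift.comp slField

/-- the inverse transpose automorphism of `PSL` -/
noncomputable def pslInvTr : MulAut (ProjectiveSpecialLinearGroup m F) := pslLift slInvTr

theorem pslConj_mk (g : GL m F) (s : SpecialLinearGroup m F) :
    pslConj g (QuotientGroup.mk s) = QuotientGroup.mk (slConj g s) := rfl

theorem pslField_mk (σ : F ≃+* F) (s : SpecialLinearGroup m F) :
    pslField σ (QuotientGroup.mk s) = QuotientGroup.mk (slField σ s) := rfl

theorem pslInvTr_mk (s : SpecialLinearGroup m F) :
    pslInvTr (QuotientGroup.mk s) = QuotientGroup.mk (slInvTr s) := rfl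

theorem pslInvTr_mul_self : (pslInvTr : MulAut (ProjectiveSpecialLinearGroup m F)) * pslInvTr = 1 := by
  rw [pslInvTr, ← map_mul, slInvTr_mul_self, map_one]

theorem pslInvTr_inv : (pslInvTr : MulAut (ProjectiveSpecialLinearGroup m F))⁻¹ = pslInvTr :=
  inv_eq_of_mul_eq_one_left pslInvTr_mul_self

section Predicates

variable {n : ℕ}

theorem isInnerDiagonal_pslConj (g : GL (Fin n) F) : Cfsg.IsInnerDiagonalAutPSL (pslConj g) := by
  refine ⟨g, fun s s' h => ?_⟩
  rw [pslConj_mk]
  congr 1
  exact Subtype.ext h.symm

theorem isStdField_pslField (σ : F ≃+* F) :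
    Cfsg.IsStdFieldAutPSL σ (pslField σ : MulAut (ProjectiveSpecialLinearGroup (Fin n) F)) := by
  intro s s' h
  rw [pslField_mk]
  congr 1
  exact Subtype.ext h.symm

theorem isInverseTranspose_pslInvTr :
    Cfsg.IsInverseTransposeAutPSL (pslInvTr : MulAut (ProjectiveSpecialLinearGroup (Fin n) F)) := by
  intro s s' h
  rw [pslInvTr_mk]
  congr 1
  exact Subtype.ext h.symm

theorem isInducedBySemilinear_mul (g : GL (Fin n) F) (σ : F ≃+* F) :
    Cfsg.IsInducedBySemilinearPSL g σ
      (pslConj g * pslField σ : MulAut (ProjectiveSpecialLinearGroup (Fin n) F)) := by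
  intro s s' h
  rw [MulAut.mul_apply, pslField_mk, pslConj_mk]
  congr 1
  exact Subtype.ext h.symm

theorem eq_pslConj_of_isInnerDiagonal {β : MulAut (ProjectiveSpecialLinearGroup (Fin n) F)}
    (h : Cfsg.IsInnerDiagonalAutPSL β) : ∃ g : GL (Fin n) F, β = pslConj g := by
  obtain ⟨g, hg⟩ := h
  refine ⟨g, ?_⟩
  ext x
  induction x using QuotientGroup.induction_on with
  | H s => exact hg s (slConj g s) rfl

theorem eq_pslField_of_isStdField {σ : F ≃+* F}
    {β : MulAut (ProjectiveSpecialLinearGroup (Fin n) F)} (h : Cfsg.IsStdFieldAutPSL σ β) :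
    β = pslField σ := by
  ext x
  induction x using QuotientGroup.induction_on with
  | H s => exact h s (slField σ s) rfl

theorem eq_pslInvTr_of_isInverseTranspose {β : MulAut (ProjectiveSpecialLinearGroup (Fin n) F)}
    (h : Cfsg.IsInverseTransposeAutPSL β) : β = pslInvTr := by
  ext x
  induction x using QuotientGroup.induction_on with
  | H s => exact h s (slInvTr s) rfl

theorem eq_of_isInducedBySemilinear {g : GL (Fin n) F} {σ : F ≃+* F}
    {β : MulAut (ProjectiveSpecialLinearGroup (Fin n) F)}
    (h : Cfsg.IsInducedBySemilinearPSL g σ β) : β = pslConj g * pslField σ := by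
  ext x
  induction x using QuotientGroup.induction_on with
  | H s => exact h s (slConj g (slField σ s)) rfl

end Predicates

end Cfsg.Agent.Helper8.AutSLn
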