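import Mathlib
import Cfsg.Agent.Helper8.AutSLnG

set_option autoImplicit false

/-!
The automorphisms of `PSL_n(F)`, part J: an algebraic lemma. A family of additive injective maps
`a i j : F → F` (`i ≠ j`) with `a i k (t u) = a i j t * a j k u` has the form
`a i j t = d i * σ t / d j` for a field automorphism `σ`.
-/

namespace Cfsg.Agent.Helper8.AutSLn

open Cfsg.Agent.Helper8.SLRoot

variable {F : Type*} [Field F] {n : ℕ}

theorem cocycle_main [Finite F] (a : ∀ i j : Fin (n + 3), i ≠ j → F → F)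
    (hadd : ∀ i j h s t, a i j h (s + t) = a i j h s + a i j h t)
    (hinj : ∀ i j h, Function.Injective (a i j h))
    (hmul : ∀ i j k (hij : i ≠ j) (hjk : j ≠ k) (hik : i ≠ k) t u,
      a i k hik (t * u) = a i j hij t * a j k hjk u) :
    ∃ (d : Fin (n + 3) → Fˣ) (σ : F ≃+* F), ∀ i j h t, a i j h t = d i * σ t / d j := by
  have hzero : ∀ i j h, a i j h 0 = 0 := by
    intro i j h
    have := hadd i j h 0 0
    rw [add_zero] at this
    exact left_eq_add.mp this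
  obtain ⟨c, hc⟩ : ∃ c : ∀ i j : Fin (n + 3), i ≠ j → F, ∀ i j h, c i j h = a i j h 1 :=
    ⟨_, fun _ _ _ => rfl⟩
  have hc0 : ∀ i j h, c i j h ≠ 0 := by
    intro i j h e
    rw [hc, ← hzero i j h] at e
    exact one_ne_zero (hinj i j h e)
  have m1 : ∀ i j k (hij : i ≠ j) (hjk : j ≠ k) (hik : i ≠ k) t,
      a i k hik t = a i j hij t * c j k hjk := by
    intro i j k hij hjk hik t
    have := hmul i j k hij hjk hik t 1
    rwa [mul_one, ← hc] at this
  have m2 : ∀ i j k (hij : i ≠ j) (hjk : j ≠ k) (hik : i ≠ k) u,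
      a i k hik u = c i j hij * a j k hjk u := by
    intro i j k hij hjk hik u
    have := hmul i j k hij hjk hik 1 u
    rwa [one_mul, ← hc] at this
  have m3 : ∀ i j k (hij : i ≠ j) (hjk : j ≠ k) (hik : i ≠ k),
      c i k hik = c i j hij * c j k hjk := by
    intro i j k hij hjk hik
    have := m1 i j k hij hjk hik 1
    rwa [← hc, ← hc] at this
  have S1 : ∀ i j j' (h : i ≠ j) (h' : i ≠ j') t,
      a i j h t / c i j h = a i j' h' t / c i j' h' := by
    intro i j j' h h' t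
    by_cases e : j = j'
    · subst e
      rfl
    · rw [m1 i j j' h e h' t, m3 i j j' h e h', mul_div_mul_right _ _ (hc0 j j' e)]
  have S2 : ∀ i i' k (h : i ≠ k) (h' : i' ≠ k) t,
      a i k h t / c i k h = a i' k h' t / c i' k h' := by
    intro i i' k h h' t
    by_cases e : i = i'
    · subst e
      rfl
    · rw [m2 i i' k e h' h t, m3 i i' k e h' h, mul_div_mul_left _ _ (hc0 i i' e)]
  have S : ∀ i j i' j' (h : i ≠ j) (h' : i' ≠ j') t,
      a i j h t / c i j h = a i' j' h' t / c i' j' h' := by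
    intro i j i' j' h h' t
    obtain ⟨l, hl, hl'⟩ := exists_third i i'
    rw [S1 i j l h hl.symm t, S2 i i' l hl.symm hl'.symm t, S1 i' l j' hl'.symm h' t]
  have h01 : (0 : Fin (n + 3)) ≠ 1 := (one_ne_zero'' (n := n)).symm
  have h12 : (1 : Fin (n + 3)) ≠ 2 := (two_ne_one' (n := n)).symm
  have h02 : (0 : Fin (n + 3)) ≠ 2 := (two_ne_zero' (n := n)).symm
  obtain ⟨σ₀, hσ₀⟩ : ∃ σ₀ : F → F, ∀ t, σ₀ t = a 0 1 h01 t / c 0 1 h01 := ⟨_, fun _ => rfl⟩
  have key : ∀ i j h t, a i j h t = c i j h * σ₀ t := by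
    intro i j h t
    rw [hσ₀, ← S i j 0 1 h h01 t, mul_div_cancel₀ _ (hc0 i j h)]
  have σadd : ∀ s t, σ₀ (s + t) = σ₀ s + σ₀ t := by
    intro s t
    rw [hσ₀, hσ₀, hσ₀, hadd, add_div]
  have σone : σ₀ 1 = 1 := by
    rw [hσ₀, ← hc, div_self (hc0 0 1 h01)]
  have σzero : σ₀ 0 = 0 := by
    rw [hσ₀, hzero, zero_div]
  have σmul : ∀ s t, σ₀ (s * t) = σ₀ s * σ₀ t := by
    intro s t
    have h1 := hmul 0 1 2 h01 h12 h02 s t
    rw [key, key, key, m3 0 1 2 h01 h12 h02] at h1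
    have h2 : c 0 1 h01 * c 1 2 h12 ≠ 0 := mul_ne_zero (hc0 _ _ _) (hc0 _ _ _)
    apply mul_left_cancel₀ h2
    rw [h1]
    ring
  have σinj : Function.Injective σ₀ := by
    intro s t e
    rw [hσ₀, hσ₀, div_left_inj' (hc0 0 1 h01)] at e
    exact hinj 0 1 h01 e
  obtain ⟨σ, hσ⟩ : ∃ σ : F ≃+* F, ∀ t, σ t = σ₀ t :=
    ⟨RingEquiv.ofBijective
      ({ toFun := σ₀, map_one' := σone, map_mul' := σmul, map_zero' := σzero,
         map_add' := σadd } : F →+* F)
      ⟨σinj, Finite.surjective_of_injective σinj⟩, fun _ => rfl⟩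
  obtain ⟨d, hd⟩ : ∃ d : Fin (n + 3) → Fˣ, (d 0 = 1) ∧
      ∀ i (h : i ≠ 0), ((d i : Fˣ) : F) = c i 0 h := by
    refine ⟨fun i => if h : i = 0 then 1 else Units.mk0 (c i 0 h) (hc0 i 0 h), ?_, ?_⟩
    · show (if h : (0 : Fin (n + 3)) = 0 then (1 : Fˣ) else Units.mk0 (c 0 0 h) (hc0 0 0 h)) = 1
      rw [dif_pos rfl]
    · intro i h
      show ((if h : i = 0 then (1 : Fˣ) else Units.mk0 (c i 0 h) (hc0 i 0 h) : Fˣ) : F) = _
      rw [dif_neg h, Units.val_mk0]
  refine ⟨d, σ, fun i j h t => ?_⟩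
  rw [key, hσ, mul_div_right_comm]
  congr 1
  by_cases hj : j = 0
  · subst hj
    rw [hd.1, Units.val_one, div_one, hd.2 i h]
  by_cases hi : i = 0
  · subst hi
    obtain ⟨k, hk0, hkj⟩ := exists_third (0 : Fin (n + 3)) j
    have e1 := m3 k 0 j hk0 h hkj
    have e2 := m3 k j 0 hkj hj hk0
    rw [e2, mul_assoc] at e1
    have e3 : c j 0 hj * c 0 j h = 1 := by
      have := mul_left_cancel₀ (hc0 k j hkj) (e1.symm.trans (mul_one _).symm)
      exact this
    rw [hd.1, Units.val_one, hd.2 j hj, eq_div_iff (hc0 j 0 hj), mul_comm, e3]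
  · rw [hd.2 i hi, hd.2 j hj, eq_div_iff (hc0 j 0 hj), ← m3 i j 0 h hj hi]

end Cfsg.Agent.Helper8.AutSLn
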