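import Mathlib
import Cfsg.Agent.Helper8.AutSLnH
import Cfsg.Agent.Helper8.AutSLnI
import Cfsg.Agent.Helper8.AutSLnJ

set_option autoImplicit false

/-!
The automorphisms of `PSL_n(F)`, part K: every automorphism of `PSL_{n+3}(F)` is the product of an
inner-diagonal automorphism, a field automorphism and possibly the inverse transpose.
-/

namespace Cfsg.Agent.Helper8.AutSLn

open Matrix Cfsg Cfsg.Agent.Helper8.SLTrans Cfsg.Agent.Helper8.SLRoot
open scoped Pointwise commutatorElement

variable {F : Type*} [Field F] {n : ℕ}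

/-- diagonal matrices in `GL` -/
def diagGL {m : Type*} [Fintype m] [DecidableEq m] (d : m → Fˣ) : GL m F :=
  ⟨Matrix.diagonal fun i => (d i : F), Matrix.diagonal fun i => ((d i)⁻¹ : Fˣ),
    by rw [Matrix.diagonal_mul_diagonal]; simp,
    by rw [Matrix.diagonal_mul_diagonal]; simp⟩

theorem diagGL_coe {m : Type*} [Fintype m] [DecidableEq m] (d : m → Fˣ) :
    ((diagGL d : GL m F) : Matrix m m F) = Matrix.diagonal fun i => (d i : F) := rfl

theorem diagGL_inv_coe {m : Type*} [Fintype m] [DecidableEq m] (d : m → Fˣ) :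
    (((diagGL d)⁻¹ : GL m F) : Matrix m m F) = Matrix.diagonal fun i => (((d i)⁻¹ : Fˣ) : F) :=
  rfl

theorem pq_eq_mk (s : SpecialLinearGroup (Fin (n + 3)) F) : pq F n s = QuotientGroup.mk s := rfl

theorem pslField_xb (σ : F ≃+* F) (i j : Fin (n + 3)) (hij : i ≠ j) (c : F) :
    pslField σ (xb i j hij c) = xb i j hij (σ c) := by
  rw [xb, xb, pq_eq_mk, pslField_mk, pq_eq_mk]
  congr 1
  apply Subtype.ext
  ext a b
  rw [slField_coe, Matrix.map_apply, TVc_apply, TVc_apply, map_add, map_mul, map_mul,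
    Matrix.one_apply, eb_apply, eb_apply]
  split_ifs <;> simp

theorem pslConj_diag_xb (d : Fin (n + 3) → Fˣ) (i j : Fin (n + 3)) (hij : i ≠ j) (c : F) :
    pslConj (diagGL d) (xb i j hij c) = xb i j hij (d i * c / d j) := by
  rw [xb, xb, pq_eq_mk, pslConj_mk, pq_eq_mk]
  congr 1
  apply Subtype.ext
  ext a b
  rw [slConj_coe, diagGL_coe, diagGL_inv_coe, Matrix.mul_diagonal, Matrix.diagonal_mul, TVc_apply,
    TVc_apply, Matrix.one_apply, eb_apply, eb_apply, Units.val_inv_eq_inv_val]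
  have hda : (d a : F) ≠ 0 := (d a).ne_zero
  have hdb : (d b : F) ≠ 0 := (d b).ne_zero
  have hdj : (d j : F) ≠ 0 := (d j).ne_zero
  by_cases hab : a = b
  · subst hab
    rw [if_pos rfl]
    by_cases hai : a = i
    · subst hai
      rw [if_pos rfl, if_neg hij]
      field_simp
      ring
    · rw [if_neg hai]
      field_simp
      ring
  · rw [if_neg hab]
    by_cases hai : a = i
    · by_cases hbj : b = j
      · subst hai hbj
        rw [if_pos rfl, if_pos rfl]
        field_simp
        ring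
      · rw [if_neg hbj]
        simp
    · rw [if_neg hai]
      simp

theorem transvection_eq_TVc (i j : Fin (n + 3)) (hij : i ≠ j) (c : F) :
    Matrix.SpecialLinearGroup.transvection hij c =
      TVc (eb F n i) (eb F n j) (eb_dot_ne hij.symm) c := by
  apply Subtype.ext
  rw [Matrix.SpecialLinearGroup.transvection_coe]
  exact transvection_eq_tv' i j c

/-- two automorphisms agreeing on the elementary root elements are equal -/
theorem eq_of_agree (β θ : MulAut (ProjectiveSpecialLinearGroup (Fin (n + 3)) F))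
    (h : ∀ i j (hij : i ≠ j) (c : F), β (xb i j hij c) = θ (xb i j hij c)) : β = θ := by
  ext x
  obtain ⟨M, rfl⟩ := pq_surjective x
  refine Cfsg.Agent.Helper7.Transv.transvection_induction
    (fun M => β (pq F n M) = θ (pq F n M)) ?_ ?_ M
  · intro i j hij c
    rw [transvection_eq_TVc]
    exact h i j hij c
  · intro A B hA hB
    show β (pq F n (A * B)) = θ (pq F n (A * B))
    rw [map_mul, map_mul, map_mul, hA, hB]

/-- an automorphism fixing all elementary root groups is diagonal times field -/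
theorem eq_diag_field [Finite F] (β : MulAut (ProjectiveSpecialLinearGroup (Fin (n + 3)) F))
    (hfix : ∀ i j (hij : i ≠ j), β • Rb (eb F n i) (eb F n j) (eb_dot_ne hij.symm) =
      Rb (eb F n i) (eb F n j) (eb_dot_ne hij.symm)) :
    ∃ (d : Fin (n + 3) → Fˣ) (σ : F ≃+* F), β = pslConj (diagGL d) * pslField σ := by
  have hex : ∀ i j (hij : i ≠ j) (t : F), ∃ u : F, β (xb i j hij t) = xb i j hij u := by
    intro i j hij t
    have h1 : β (xb i j hij t) ∈ β • Rb (eb F n i) (eb F n j) (eb_dot_ne hij.symm) :=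
      Subgroup.smul_mem_pointwise_smul _ _ _ (xb_mem i j hij t)
    rw [hfix i j hij] at h1
    obtain ⟨u, hu⟩ := mem_Rb.mp h1
    exact ⟨u, hu⟩
  choose a ha using hex
  have hadd : ∀ i j h s t, a i j h (s + t) = a i j h s + a i j h t := by
    intro i j h s t
    apply xb_injective i j h
    rw [← ha, xb_add, map_mul, ha, ha, ← xb_add]
  have hinj : ∀ i j h, Function.Injective (a i j h) := by
    intro i j h s t e
    apply xb_injective i j h
    apply β.injective
    rw [ha, ha, e]
  have hmul : ∀ i j k (hij : i ≠ j) (hjk : j ≠ k) (hik : i ≠ k) t u,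
      a i k hik (t * u) = a i j hij t * a j k hjk u := by
    intro i j k hij hjk hik t u
    apply xb_injective i k hik
    rw [← ha, ← xb_commutator i j k hij hjk hik, map_commutatorElement, ha, ha, xb_commutator]
  obtain ⟨d, σ, hdσ⟩ := cocycle_main a hadd hinj hmul
  refine ⟨d, σ, eq_of_agree _ _ (fun i j hij c => ?_)⟩
  rw [ha, MulAut.mul_apply, pslField_xb, pslConj_diag_xb, hdσ]

theorem conj_pq_eq (g : SpecialLinearGroup (Fin (n + 3)) F) :
    MulAut.conj (pq F n g) = pslConj (Matrix.SpecialLinearGroup.toGL g) := by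
  ext x
  obtain ⟨s, rfl⟩ := pq_surjective x
  rw [MulAut.conj_apply, ← map_inv, ← map_mul, ← map_mul, pq_eq_mk, pq_eq_mk, pslConj_mk]
  congr 1

/-- the case of an automorphism preserving points and hyperplanes -/
theorem plus_case [Fintype F] (p : ℕ) [Fact p.Prime] [CharP F p]
    (β : MulAut (ProjectiveSpecialLinearGroup (Fin (n + 3)) F)) (hβ : IsPlus β) :
    ∃ (g : GL (Fin (n + 3)) F) (σ : F ≃+* F), β = pslConj g * pslField σ := by
  obtain ⟨g₀, hg₀⟩ := exists_conj_fix p β hβ
  have hfix : ∀ i j (hij : i ≠ j),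
      ((MulAut.conj (pq F n g₀))⁻¹ * β) • Rb (eb F n i) (eb F n j) (eb_dot_ne hij.symm) =
        Rb (eb F n i) (eb F n j) (eb_dot_ne hij.symm) := by
    intro i j hij
    rw [mul_smul, hg₀ i j hij, inv_smul_smul]
  obtain ⟨d, σ, h⟩ := eq_diag_field _ hfix
  refine ⟨Matrix.SpecialLinearGroup.toGL g₀ * diagGL d, σ, ?_⟩
  rw [map_mul, ← conj_pq_eq, mul_assoc, ← h, mul_inv_cancel_left]

/-- the inverse transpose of a transvection -/
theorem slInvTr_TVc (x φ : Fin (n + 3) → F) (h : φ ⬝ᵥ x = 0) (c : F) :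
    slInvTr (TVc x φ h c) = TVc φ x (by rw [dotProduct_comm]; exact h) (-c) := by
  apply Subtype.ext
  rw [slInvTr_coe, TVc_inv]
  show (tv (-c • x) φ).transpose = tv (-c • φ) x
  rw [tv_smul, tv, tv, Matrix.transpose_add, Matrix.transpose_one, Matrix.transpose_vecMulVec]

theorem pslInvTr_smul_Rb (x φ : Fin (n + 3) → F) (h : φ ⬝ᵥ x = 0) :
    (pslInvTr : MulAut (ProjectiveSpecialLinearGroup (Fin (n + 3)) F)) • Rb x φ h =
      Rb φ x (by rw [dotProduct_comm]; exact h) := by
  ext a
  rw [Subgroup.mem_smul_pointwise_iff_exists, mem_Rb]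
  constructor
  · rintro ⟨r, hr, rfl⟩
    obtain ⟨c, rfl⟩ := mem_Rb.mp hr
    refine ⟨-c, ?_⟩
    rw [MulAut.smul_def, pq_eq_mk, pslInvTr_mk, slInvTr_TVc]
    rfl
  · rintro ⟨c, rfl⟩
    refine ⟨pq F n (TVc x φ h (-c)), mem_Rb.mpr ⟨-c, rfl⟩, ?_⟩
    rw [MulAut.smul_def, pq_eq_mk, pslInvTr_mk, slInvTr_TVc, neg_neg]
    rfl

/-- the flag with point and hyperplane interchanged -/
def Flag.swap (t : Flag F n) : Flag F n :=
  Flag.mk' t.1.2 t.1.1 t.2.2.1 t.2.1 (by rw [dotProduct_comm]; exact t.2.2.2)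

theorem pslInvTr_smul_rb (t : Flag F n) :
    (pslInvTr : MulAut (ProjectiveSpecialLinearGroup (Fin (n + 3)) F)) • t.rb = t.swap.rb :=
  pslInvTr_smul_Rb _ _ _

theorem isPlus_mul_invTr {β : MulAut (ProjectiveSpecialLinearGroup (Fin (n + 3)) F)}
    (hβ : IsMinus β) : IsPlus (β * pslInvTr) := by
  intro t t' s s' e e'
  rw [mul_smul, pslInvTr_smul_rb] at e e'
  have := hβ t.swap t'.swap s s' e e'
  exact ⟨fun h => this.2 h, fun h => this.1 h⟩

/-- **every automorphism of `PSL_{n+3}(F)` is standard** -/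
theorem aut_PSL_standard [Fintype F] (p : ℕ) [Fact p.Prime] [CharP F p]
    (β : MulAut (ProjectiveSpecialLinearGroup (Fin (n + 3)) F)) :
    ∃ (g : GL (Fin (n + 3)) F) (σ : F ≃+* F),
      β = pslConj g * pslField σ ∨ β = pslConj g * pslField σ * pslInvTr := by
  rcases isPlus_or_isMinus p β with h | h
  · obtain ⟨g, σ, e⟩ := plus_case p β h
    exact ⟨g, σ, Or.inl e⟩
  · obtain ⟨g, σ, e⟩ := plus_case p _ (isPlus_mul_invTr h)
    refine ⟨g, σ, Or.inr ?_⟩
    rw [← e, mul_assoc, pslInvTr_mul_self, mul_one]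

end Cfsg.Agent.Helper8.AutSLn
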