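import Mathlib
import Cfsg.Agent.Helper8.AutSLnK
import Cfsg.Agent.Helper8.AutPSL2D

set_option autoImplicit false

/-!
The automorphisms of `PSL_n(F)`, part L: the case `n = 2`, and the statement for all `n ≥ 2`.
-/

namespace Cfsg.Agent.Helper8.AutSLn

open Matrix Cfsg

variable {F : Type*} [Field F]

theorem conj_mk_eq_pslConj {m : Type*} [Fintype m] [DecidableEq m] (g : SpecialLinearGroup m F) :
    MulAut.conj (QuotientGroup.mk g : ProjectiveSpecialLinearGroup m F) =
      pslConj (Matrix.SpecialLinearGroup.toGL g) := by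
  ext x
  induction x using QuotientGroup.induction_on with
  | H s =>
    rw [MulAut.conj_apply, pslConj_mk, ← QuotientGroup.mk_inv, ← QuotientGroup.mk_mul,
      ← QuotientGroup.mk_mul]
    congr 1

open Cfsg.Agent.Helper7.SL2 Cfsg.Agent.Helper8.SL2C Cfsg.Agent.Helper8.Dk
  Cfsg.Agent.Helper8.AutPSL2 in
theorem tau_eq [Finite F] (σ : F ≃+* F) (c : Fˣ) :
    tau σ c = pslConj (diagGL ![c, 1]) * pslField σ := by
  apply aut_ext_root
  · intro t
    rw [tau_ub, MulAut.mul_apply]
    show _ = pslConj (diagGL ![c, 1]) (pslField σ (QuotientGroup.mk (up t)))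
    rw [pslField_mk, pslConj_mk]
    show QuotientGroup.mk (up ((c : F) * σ t)) = _
    congr 1
    apply Subtype.ext
    rw [slConj_coe, diagGL_coe, diagGL_inv_coe, slField_coe]
    ext i j
    rw [Matrix.mul_diagonal, Matrix.diagonal_mul, Matrix.map_apply]
    fin_cases i <;> fin_cases j <;> simp [up]
  · intro t
    rw [tau_lb, MulAut.mul_apply]
    show _ = pslConj (diagGL ![c, 1]) (pslField σ (QuotientGroup.mk (lo t)))
    rw [pslField_mk, pslConj_mk]
    show QuotientGroup.mk (lo (((c⁻¹ : Fˣ) : F) * σ t)) = _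
    congr 1
    apply Subtype.ext
    rw [slConj_coe, diagGL_coe, diagGL_inv_coe, slField_coe]
    ext i j
    rw [Matrix.mul_diagonal, Matrix.diagonal_mul, Matrix.map_apply]
    fin_cases i <;> fin_cases j <;> simp [lo, mul_comm]

theorem aut_PSL2_standard [Fintype F] (p : ℕ) [Fact p.Prime] [CharP F p]
    (β : MulAut (ProjectiveSpecialLinearGroup (Fin 2) F)) :
    ∃ (g : GL (Fin 2) F) (σ : F ≃+* F), β = pslConj g * pslField σ := by
  obtain ⟨g, σ, c, h⟩ := Cfsg.Agent.Helper8.AutPSL2.exists_eq_conj_mul_tau p β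
  obtain ⟨g', rfl⟩ := QuotientGroup.mk_surjective g
  refine ⟨Matrix.SpecialLinearGroup.toGL g' * diagGL ![c, 1], σ, ?_⟩
  rw [h, conj_mk_eq_pslConj, tau_eq, map_mul, mul_assoc]

/-- **every automorphism of `PSL_n(F)`, `n ≥ 2`, is standard** -/
theorem aut_PSL_standard_fin [Fintype F] (p : ℕ) [Fact p.Prime] [CharP F p] {n : ℕ} (hn : 2 ≤ n)
    (β : MulAut (ProjectiveSpecialLinearGroup (Fin n) F)) :
    ∃ (g : GL (Fin n) F) (σ : F ≃+* F),
      β = pslConj g * pslField σ ∨ β = pslConj g * pslField σ * pslInvTr := by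
  rcases Nat.lt_or_ge n 3 with h3 | h3
  · obtain rfl : n = 2 := by omega
    obtain ⟨g, σ, h⟩ := aut_PSL2_standard p β
    exact ⟨g, σ, Or.inl h⟩
  · obtain ⟨k, rfl⟩ : ∃ k, n = k + 3 := ⟨n - 3, by omega⟩
    exact aut_PSL_standard p β

end Cfsg.Agent.Helper8.AutSLn
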