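import Mathlib
import Cfsg.Agent.Helper8.AutSLnI

set_option autoImplicit false

/-!
The automorphisms of `PSL_n(F)`, part M: relations between the standard automorphisms, and the
kernel of the parametrisation (general index type).
-/

namespace Cfsg.Agent.Helper8.AutSLn

open Matrix

variable {m : Type*} [Fintype m] [DecidableEq m] {F : Type*} [Field F]

/-- the lifting lemma: an element fixing a non-zero vector and an element `b` with `(b - 1)² = 0`
having the same image in `PSL` are equal -/
theorem eq_of_mk_eq {a b : SpecialLinearGroup m F}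
    (h : (QuotientGroup.mk a : ProjectiveSpecialLinearGroup m F) = QuotientGroup.mk b)
    {v : m → F} (hv : v ≠ 0) (hav : (a : Matrix m m F) *ᵥ v = v)
    (hb : ((b : Matrix m m F) - 1) * ((b : Matrix m m F) - 1) = 0) : a = b := by
  rw [QuotientGroup.eq, Matrix.SpecialLinearGroup.mem_center_iff] at h
  obtain ⟨r, -, hr⟩ := h
  have hr' : (b : Matrix m m F) = r • (a : Matrix m m F) := by
    have h1 : (b : Matrix m m F) = (a : Matrix m m F) *
        ((a⁻¹ * b : SpecialLinearGroup m F) : Matrix m m F) := by
      rw [← Matrix.SpecialLinearGroup.coe_mul, mul_inv_cancel_left]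
    rw [h1, ← hr, Matrix.scalar_apply, ← Matrix.smul_one_eq_diagonal, Matrix.mul_smul, mul_one]
  have h1 : (b : Matrix m m F) *ᵥ v = r • v := by
    rw [hr', Matrix.smul_mulVec, hav]
  have h2 : ((b : Matrix m m F) - 1) *ᵥ v = (r - 1) • v := by
    rw [Matrix.sub_mulVec, h1, Matrix.one_mulVec, sub_smul, one_smul]
  have h3 := congrArg (fun M : Matrix m m F => M *ᵥ v) hb
  simp only [← Matrix.mulVec_mulVec, h2, Matrix.mulVec_smul, Matrix.zero_mulVec, smul_smul] at h3
  have h4 : (r - 1) * (r - 1) = 0 := by
    rcases smul_eq_zero.mp h3 with h5 | h5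
    · exact h5
    · exact absurd h5 hv
  have h5 : r = 1 := by
    rcases mul_eq_zero.mp h4 with h6 | h6 <;> exact sub_eq_zero.mp h6
  apply Subtype.ext
  rw [hr', h5, one_smul]

theorem transvection_mulVec_single {i j : m} (hij : i ≠ j) (c : F) :
    ((Matrix.SpecialLinearGroup.transvection hij c : SpecialLinearGroup m F) : Matrix m m F) *ᵥ
      (Pi.single i 1 : m → F) = Pi.single i 1 := by
  rw [Matrix.SpecialLinearGroup.transvection_coe, Matrix.add_mulVec, Matrix.one_mulVec,
    Matrix.single_mulVec, Pi.single_eq_of_ne hij.symm, mul_zero]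
  have : Function.update (0 : m → F) i 0 = 0 := by
    ext a
    by_cases ha : a = i
    · rw [ha, Function.update_self, Pi.zero_apply]
    · rw [Function.update_of_ne ha]
  rw [this, add_zero]

theorem slField_transvection {i j : m} (hij : i ≠ j) (σ : F ≃+* F) (c : F) :
    slField σ (Matrix.SpecialLinearGroup.transvection hij c) =
      Matrix.SpecialLinearGroup.transvection hij (σ c) := by
  apply Subtype.ext
  rw [slField_coe, Matrix.SpecialLinearGroup.transvection_coe,
    Matrix.SpecialLinearGroup.transvection_coe]
  ext a b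
  rw [Matrix.map_apply, Matrix.add_apply, Matrix.add_apply, map_add, Matrix.one_apply,
    Matrix.single_apply, Matrix.single_apply]
  split_ifs <;> simp

theorem GL_coe_mul_inv (g : GL m F) :
    (g : Matrix m m F) * ((g⁻¹ : GL m F) : Matrix m m F) = 1 := by
  rw [← Units.val_mul, mul_inv_cancel, Units.val_one]

theorem GL_coe_inv_mul (g : GL m F) :
    ((g⁻¹ : GL m F) : Matrix m m F) * (g : Matrix m m F) = 1 := by
  rw [← Units.val_mul, inv_mul_cancel, Units.val_one]

/-- the key computation: if a semilinear automorphism maps the class of an elementary transvection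
to the class of an element `X` fixing a non-zero vector, the matrices agree -/
theorem conj_field_transvection {g : GL m F} {σ : F ≃+* F} {i j : m} (hij : i ≠ j) (c : F)
    {X : SpecialLinearGroup m F} {v : m → F} (hv : v ≠ 0) (hX : (X : Matrix m m F) *ᵥ v = v)
    (h : (pslConj g * pslField σ : MulAut (ProjectiveSpecialLinearGroup m F))
      (QuotientGroup.mk (Matrix.SpecialLinearGroup.transvection hij c))
      = (QuotientGroup.mk X : ProjectiveSpecialLinearGroup m F)) :
    (g : Matrix m m F) * Matrix.single i j (σ c) = ((X : Matrix m m F) - 1) * (g : Matrix m m F) := by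
  rw [MulAut.mul_apply, pslField_mk, pslConj_mk, slField_transvection] at h
  have hb : ((slConj g (Matrix.SpecialLinearGroup.transvection hij (σ c)) : SpecialLinearGroup m F) :
      Matrix m m F) - 1 = (g : Matrix m m F) * Matrix.single i j (σ c) *
        ((g⁻¹ : GL m F) : Matrix m m F) := by
    rw [slConj_coe, Matrix.SpecialLinearGroup.transvection_coe, Matrix.mul_add, Matrix.add_mul,
      Matrix.mul_one, GL_coe_mul_inv, add_sub_cancel_left]
  have h1 := eq_of_mk_eq h.symm hv hX (by
    rw [hb]
    calc (g : Matrix m m F) * Matrix.single i j (σ c) * ((g⁻¹ : GL m F) : Matrix m m F) *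
          ((g : Matrix m m F) * Matrix.single i j (σ c) * ((g⁻¹ : GL m F) : Matrix m m F))
        = (g : Matrix m m F) * (Matrix.single i j (σ c) *
          (((g⁻¹ : GL m F) : Matrix m m F) * (g : Matrix m m F)) * Matrix.single i j (σ c)) *
            ((g⁻¹ : GL m F) : Matrix m m F) := by simp only [Matrix.mul_assoc]
      _ = 0 := by
          rw [GL_coe_inv_mul, Matrix.mul_one, Matrix.single_mul_single_of_ne (h := hij.symm),
            Matrix.mul_zero, Matrix.zero_mul])
  rw [h1, hb, Matrix.mul_assoc, Matrix.mul_assoc, GL_coe_inv_mul, Matrix.mul_one]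

/-- **the kernel of the parametrisation** -/
theorem eq_one_of_conj_field_eq_one [Nontrivial m] {g : GL m F} {σ : F ≃+* F}
    (h : pslConj g * pslField σ = (1 : MulAut (ProjectiveSpecialLinearGroup m F))) :
    g ∈ Subgroup.center (GL m F) ∧ σ = 1 := by
  have key : ∀ (i j : m) (hij : i ≠ j) (c : F),
      (g : Matrix m m F) * Matrix.single i j (σ c) = Matrix.single i j c * (g : Matrix m m F) := by
    intro i j hij c
    have h1 := conj_field_transvection (g := g) (σ := σ) hij c
      (X := Matrix.SpecialLinearGroup.transvection hij c)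
      (Pi.single_ne_zero_iff.mpr one_ne_zero) (transvection_mulVec_single hij c) (by rw [h]; rfl)
    rw [h1, Matrix.SpecialLinearGroup.transvection_coe, add_sub_cancel_left]
  have hsc : (g : Matrix m m F) ∈ Set.range (Matrix.scalar m) := by
    rw [Matrix.mem_range_scalar_iff_commute_single]
    intro i j hij
    have := key i j hij 1
    rw [map_one] at this
    exact this.symm
  refine ⟨Matrix.GeneralLinearGroup.mem_center_iff_val_mem_range_scalar.mpr hsc, ?_⟩
  obtain ⟨r, hr⟩ := hsc
  obtain ⟨i, j, hij⟩ := exists_pair_ne m
  ext c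
  have h2 := key i j hij c
  rw [← hr] at h2
  have h3 := congrFun (congrFun h2 i) j
  rw [Matrix.scalar_apply, Matrix.diagonal_mul, Matrix.mul_diagonal, Matrix.single_apply_same,
    Matrix.single_apply_same, mul_comm] at h3
  have hr0 : r ≠ 0 := by
    rintro rfl
    have hdet := (Matrix.GeneralLinearGroup.det g).ne_zero
    rw [Matrix.GeneralLinearGroup.val_det_apply, ← hr, map_zero, Matrix.det_zero] at hdet
    exact hdet rfl
  exact mul_right_cancel₀ hr0 h3

theorem pslField_one : (pslField (1 : F ≃+* F) : MulAut (ProjectiveSpecialLinearGroup m F)) = 1 :=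
  map_one _

/-- the kernel of the inner-diagonal automorphisms -/
theorem ker_pslConj [Nontrivial m] :
    (pslConj : GL m F →* MulAut (ProjectiveSpecialLinearGroup m F)).ker =
      Subgroup.center (GL m F) := by
  ext g
  rw [MonoidHom.mem_ker]
  constructor
  · intro h
    exact (eq_one_of_conj_field_eq_one (σ := 1) (by rw [pslField_one, mul_one, h])).1
  · intro hg
    ext x
    induction x using QuotientGroup.induction_on with
    | H s =>
      rw [pslConj_mk]
      show _ = QuotientGroup.mk s
      congr 1
      apply Subtype.ext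
      rw [slConj_coe]
      have h1 := Subgroup.mem_center_iff.mp hg (Matrix.SpecialLinearGroup.toGL s)
      have h2 := congrArg (fun x : GL m F => (x : Matrix m m F)) h1
      simp only [Units.val_mul, Matrix.SpecialLinearGroup.coe_GL_coe_matrix] at h2
      rw [← h2, Matrix.mul_assoc, GL_coe_mul_inv, Matrix.mul_one]

end Cfsg.Agent.Helper8.AutSLn
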