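import Mathlib
import Cfsg.Agent.Helper8.AutSLnM

set_option autoImplicit false

/-!
The automorphisms of `PSL_n(F)`, part N: the commutation relations between the standard
automorphisms, the subgroup of the semilinear automorphisms, and the inverse transpose is not
semilinear in dimension at least three.
-/

namespace Cfsg.Agent.Helper8.AutSLn

open Matrix

variable {m : Type*} [Fintype m] [DecidableEq m] {F : Type*} [Field F]

theorem GL_map_coe (σ : F ≃+* F) (g : GL m F) :
    ((Matrix.GeneralLinearGroup.map (σ : F →+* F) g : GL m F) : Matrix m m F) =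
      (g : Matrix m m F).map σ := rfl

theorem slField_mul_slConj (σ : F ≃+* F) (g : GL m F) :
    slField σ * slConj g =
      slConj (Matrix.GeneralLinearGroup.map (σ : F →+* F) g) * slField (m := m) σ := by
  ext s : 1
  apply Subtype.ext
  rw [MulAut.mul_apply, MulAut.mul_apply, slField_coe, slConj_coe, slConj_coe, slField_coe,
    ← Matrix.GeneralLinearGroup.map_inv, GL_map_coe, GL_map_coe]
  have h1 : ∀ A B : Matrix m m F, (A * B).map σ = A.map σ * B.map σ := fun A B =>
    Matrix.map_mul (f := (σ : F →+* F))
  rw [h1, h1]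

/-- the inverse transpose in `GL` -/
def glInvTr (g : GL m F) : GL m F :=
  ⟨((g⁻¹ : GL m F) : Matrix m m F).transpose, (g : Matrix m m F).transpose,
    by rw [← Matrix.transpose_mul, GL_coe_mul_inv, Matrix.transpose_one],
    by rw [← Matrix.transpose_mul, GL_coe_inv_mul, Matrix.transpose_one]⟩

theorem glInvTr_coe (g : GL m F) :
    (glInvTr g : Matrix m m F) = ((g⁻¹ : GL m F) : Matrix m m F).transpose := rfl

theorem glInvTr_inv_coe (g : GL m F) :
    (((glInvTr g)⁻¹ : GL m F) : Matrix m m F) = (g : Matrix m m F).transpose := rfl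

theorem slInvTr_mul_slConj (g : GL m F) :
    slInvTr * slConj g = slConj (glInvTr g) * slInvTr (m := m) := by
  ext s : 1
  apply Subtype.ext
  rw [MulAut.mul_apply, MulAut.mul_apply, slInvTr_coe, ← map_inv, slConj_coe, slConj_coe,
    glInvTr_coe, glInvTr_inv_coe, slInvTr_coe, Matrix.transpose_mul, Matrix.transpose_mul,
    Matrix.mul_assoc]

theorem slInvTr_mul_slField (σ : F ≃+* F) :
    slInvTr * slField σ = slField σ * slInvTr (m := m) := by
  ext s : 1
  apply Subtype.ext
  rw [MulAut.mul_apply, MulAut.mul_apply, slInvTr_coe, ← map_inv, slField_coe, slField_coe,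
    slInvTr_coe, Matrix.transpose_map]

theorem pslField_mul_pslConj (σ : F ≃+* F) (g : GL m F) :
    pslField σ * pslConj g =
      pslConj (Matrix.GeneralLinearGroup.map (σ : F →+* F) g) * pslField (m := m) σ := by
  show pslLift (slField σ) * pslLift (slConj g) = pslLift (slConj _) * pslLift (slField σ)
  rw [← map_mul, slField_mul_slConj, map_mul]

theorem pslInvTr_mul_pslConj (g : GL m F) :
    pslInvTr * pslConj g = pslConj (glInvTr g) * pslInvTr (m := m) := by
  show pslLift slInvTr * pslLift (slConj g) = pslLift (slConj _) * pslLift slInvTr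
  rw [← map_mul, slInvTr_mul_slConj, map_mul]

theorem pslInvTr_mul_pslField (σ : F ≃+* F) :
    pslInvTr * pslField σ = pslField σ * pslInvTr (m := m) := by
  show pslLift slInvTr * pslLift (slField σ) = pslLift (slField σ) * pslLift slInvTr
  rw [← map_mul, slInvTr_mul_slField, map_mul]

/-- the subgroup of the automorphisms induced by semilinear maps -/
def stdSub (m : Type*) [Fintype m] [DecidableEq m] (F : Type*) [Field F] :
    Subgroup (MulAut (ProjectiveSpecialLinearGroup m F)) where
  carrier := {β | ∃ (g : GL m F) (σ : F ≃+* F), β = pslConj g * pslField σ}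
  mul_mem' := by
    rintro _ _ ⟨g, σ, rfl⟩ ⟨g', σ', rfl⟩
    refine ⟨g * Matrix.GeneralLinearGroup.map (σ : F →+* F) g', σ * σ', ?_⟩
    rw [map_mul, map_mul, mul_assoc, ← mul_assoc (pslField σ), pslField_mul_pslConj]
    simp only [mul_assoc]
  one_mem' := ⟨1, 1, by rw [map_one, map_one, mul_one]⟩
  inv_mem' := by
    rintro _ ⟨g, σ, rfl⟩
    refine ⟨Matrix.GeneralLinearGroup.map ((σ⁻¹ : F ≃+* F) : F →+* F) g⁻¹, σ⁻¹, ?_⟩
    rw [_root_.mul_inv_rev, ← map_inv, ← map_inv, pslField_mul_pslConj]

theorem mem_stdSub {β : MulAut (ProjectiveSpecialLinearGroup m F)} :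
    β ∈ stdSub m F ↔ ∃ (g : GL m F) (σ : F ≃+* F), β = pslConj g * pslField σ := Iff.rfl

theorem slInvTr_transvection {i j : m} (hij : i ≠ j) (c : F) :
    slInvTr (Matrix.SpecialLinearGroup.transvection hij c) =
      Matrix.SpecialLinearGroup.transvection hij.symm (-c) := by
  have h1 : (Matrix.SpecialLinearGroup.transvection hij c)⁻¹ =
      Matrix.SpecialLinearGroup.transvection hij (-c) := by
    rw [inv_eq_iff_mul_eq_one]
    apply Subtype.ext
    rw [Matrix.SpecialLinearGroup.coe_mul]
    show Matrix.transvection i j c * Matrix.transvection i j (-c) = 1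
    rw [Matrix.transvection_mul_transvection_same _ _ hij, add_neg_cancel,
      Matrix.transvection_zero]
  apply Subtype.ext
  rw [slInvTr_coe, h1, Matrix.SpecialLinearGroup.transvection_coe,
    Matrix.SpecialLinearGroup.transvection_coe, Matrix.transpose_add, Matrix.transpose_one,
    Matrix.transpose_single]

/-- the inverse transpose is not induced by a semilinear map in dimension at least three -/
theorem pslInvTr_not_mem_stdSub (h3 : 3 ≤ Fintype.card m) :
    (pslInvTr : MulAut (ProjectiveSpecialLinearGroup m F)) ∉ stdSub m F := by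
  rintro ⟨g, σ, h⟩
  obtain ⟨i, j, k, hij, hik, hjk⟩ := Fintype.two_lt_card_iff.mp h3
  have key : ∀ (a b : m) (hab : a ≠ b),
      (g : Matrix m m F) * Matrix.single a b 1 = Matrix.single b a (-1) * (g : Matrix m m F) := by
    intro a b hab
    have h1 := conj_field_transvection (g := g) (σ := σ) hab 1
      (X := Matrix.SpecialLinearGroup.transvection hab.symm (-1))
      (Pi.single_ne_zero_iff.mpr one_ne_zero) (transvection_mulVec_single hab.symm (-1))
      (by rw [← h, pslInvTr_mk, slInvTr_transvection])
    rw [map_one] at h1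
    rw [h1, Matrix.SpecialLinearGroup.transvection_coe, add_sub_cancel_left]
  have h1 : (g : Matrix m m F) * Matrix.single i k 1 = 0 := by
    have e : (Matrix.single i k (1 : F)) = Matrix.single i j 1 * Matrix.single j k 1 := by
      rw [Matrix.single_mul_single_same, mul_one]
    rw [e, ← Matrix.mul_assoc, key i j hij, Matrix.mul_assoc, key j k hjk, ← Matrix.mul_assoc,
      Matrix.single_mul_single_of_ne (h := hik), Matrix.zero_mul]
  have h2 := congrArg (fun M : Matrix m m F => ((g⁻¹ : GL m F) : Matrix m m F) * M) h1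
  simp only [← Matrix.mul_assoc, GL_coe_inv_mul, Matrix.one_mul, Matrix.mul_zero] at h2
  have h3 := congrFun (congrFun h2 i) k
  rw [Matrix.single_apply_same, Matrix.zero_apply] at h3
  exact one_ne_zero h3

end Cfsg.Agent.Helper8.AutSLn
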