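import Mathlib
import Cfsg.Agent.Helper8.AutSLnN
import Cfsg.Agent.Helper8.AutSLnL
import Cfsg.Agent.Helper7.FieldAutCard

set_option autoImplicit false

/-!
The automorphisms of `PSL_n(F)`, part O: the order of the automorphism group.
-/

namespace Cfsg.Agent.Helper8.AutSLn

open Matrix

variable {m : Type*} [Fintype m] [DecidableEq m] {F : Type*} [Field F]

/-- the inner-diagonal automorphisms, as a homomorphism from `PGL` -/
noncomputable def pslConjBar [Nontrivial m] :
    Matrix.ProjGenLinGroup m F →* MulAut (ProjectiveSpecialLinearGroup m F) :=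
  QuotientGroup.lift (Subgroup.center (GL m F)) pslConj (le_of_eq ker_pslConj.symm)

theorem pslConjBar_mk [Nontrivial m] (g : GL m F) :
    pslConjBar (Matrix.ProjGenLinGroup.mk g) = pslConj g := rfl

theorem pslConjBar_injective [Nontrivial m] :
    Function.Injective (pslConjBar (m := m) (F := F)) := by
  rw [injective_iff_map_eq_one]
  intro x hx
  induction x using Matrix.ProjGenLinGroup.induction_on with
  | mk g =>
    rw [pslConjBar_mk] at hx
    rw [Matrix.ProjGenLinGroup.mk_eq_one, ← ker_pslConj]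
    exact hx

/-- the order of the group of the semilinear automorphisms -/
theorem card_stdSub [Nontrivial m] :
    Nat.card (stdSub m F) = Nat.card (Matrix.ProjGenLinGroup m F) * Nat.card (F ≃+* F) := by
  rw [← Nat.card_prod]
  symm
  have hmem : ∀ x : Matrix.ProjGenLinGroup m F × (F ≃+* F),
      pslConjBar x.1 * pslField x.2 ∈ stdSub m F := by
    rintro ⟨x, σ⟩
    induction x using Matrix.ProjGenLinGroup.induction_on with
    | mk g => exact ⟨g, σ, rfl⟩
  apply Nat.card_eq_of_bijective (fun x => (⟨_, hmem x⟩ : stdSub m F))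
  constructor
  · rintro ⟨x, σ⟩ ⟨x', σ'⟩ h
    have h1 : pslConjBar x * pslField σ = pslConjBar x' * pslField (m := m) σ' :=
      congrArg Subtype.val h
    have h2 : pslConjBar (x'⁻¹ * x) * pslField (m := m) (σ * σ'⁻¹) = 1 := by
      rw [map_mul, map_mul, map_inv, map_inv, mul_assoc, ← mul_assoc (pslConjBar x), h1]
      group
    obtain ⟨g, hg⟩ := Matrix.ProjGenLinGroup.mk_surjective (x'⁻¹ * x)
    rw [← hg, pslConjBar_mk] at h2
    obtain ⟨h3, h4⟩ := eq_one_of_conj_field_eq_one h2
    rw [← Matrix.ProjGenLinGroup.mk_eq_one, hg, inv_mul_eq_one] at h3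
    rw [mul_inv_eq_one] at h4
    rw [h3, h4]
  · rintro ⟨β, g, σ, rfl⟩
    exact ⟨(Matrix.ProjGenLinGroup.mk g, σ), rfl⟩

theorem stdSub_fin_two [Fintype F] (p : ℕ) [Fact p.Prime] [CharP F p] :
    stdSub (Fin 2) F = ⊤ := by
  rw [eq_top_iff]
  intro β _
  exact aut_PSL2_standard p β

theorem stdSub_index [Fintype F] (p : ℕ) [Fact p.Prime] [CharP F p] {n : ℕ} (hn : 3 ≤ n) :
    (stdSub (Fin n) F).index = 2 := by
  rw [Subgroup.index_eq_two_iff]
  refine ⟨pslInvTr, fun β => ?_⟩
  have hγ : (pslInvTr : MulAut (ProjectiveSpecialLinearGroup (Fin n) F)) ∉ stdSub (Fin n) F :=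
    pslInvTr_not_mem_stdSub (by rw [Fintype.card_fin]; exact hn)
  obtain ⟨g, σ, h | h⟩ := aut_PSL_standard_fin p (by omega : 2 ≤ n) β
  · have hβ : β ∈ stdSub (Fin n) F := ⟨g, σ, h⟩
    refine Or.inr ⟨hβ, fun h2 => hγ ?_⟩
    have := mul_mem (inv_mem hβ) h2
    rwa [inv_mul_cancel_left] at this
  · have hβ : β * pslInvTr ∈ stdSub (Fin n) F :=
      ⟨g, σ, by rw [h, mul_assoc, pslInvTr_mul_self, mul_one]⟩
    refine Or.inl ⟨hβ, fun h2 => hγ ?_⟩
    have := mul_mem (inv_mem h2) hβ
    rwa [inv_mul_cancel_left] at this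

/-- **the order of the automorphism group of `PSL_n(F)`** -/
theorem card_aut_PSL [Fintype F] (p f : ℕ) [Fact p.Prime] (hF : Fintype.card F = p ^ f) (n : ℕ)
    (hn : 2 ≤ n) :
    Nat.card (MulAut (ProjectiveSpecialLinearGroup (Fin n) F)) =
      (if n = 2 then 1 else 2) * f * Nat.card (Matrix.ProjGenLinGroup (Fin n) F) := by
  have : CharP F p := charP_of_card_eq_prime_pow hF
  have : Nontrivial (Fin n) := Fin.nontrivial_iff_two_le.mpr hn
  have hcard := Cfsg.Agent.Helper7.FieldAutCard.card_ringAut p f hF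
  rw [← Subgroup.card_mul_index (stdSub (Fin n) F), card_stdSub, hcard]
  split_ifs with h2
  · subst h2
    rw [stdSub_fin_two p, Subgroup.index_top]
    ring
  · rw [stdSub_index p (by omega : 3 ≤ n)]
    ring

end Cfsg.Agent.Helper8.AutSLn
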