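import Mathlib
import Cfsg.Agent.Helper8.AutSLnO

set_option autoImplicit false

/-!
The automorphisms of `PSL_n(F)`, part P: for `n ≥ 3` the quotient of the automorphism group by the
inner-diagonal automorphisms is the direct product of the field automorphisms and a group of order 2.
-/

namespace Cfsg.Agent.Helper8.AutSLn

open Matrix

/-- the homomorphism from a group of order two determined by an element of order dividing two -/
def c2Hom {M : Type*} [Group M] (x : M) (hx : x ^ 2 = 1) : Multiplicative (ZMod 2) →* M where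
  toFun e := x ^ (Multiplicative.toAdd e).val
  map_one' := by
    show x ^ (0 : ZMod 2).val = 1
    rw [ZMod.val_zero, pow_zero]
  map_mul' a b := by
    show x ^ (Multiplicative.toAdd a + Multiplicative.toAdd b).val = _
    rw [← pow_add, ZMod.val_add, ← pow_eq_pow_mod _ hx]

theorem c2Hom_apply {M : Type*} [Group M] (x : M) (hx : x ^ 2 = 1) (e : Multiplicative (ZMod 2)) :
    c2Hom x hx e = x ^ (Multiplicative.toAdd e).val := rfl

theorem c2Hom_gen {M : Type*} [Group M] (x : M) (hx : x ^ 2 = 1) :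
    c2Hom x hx (Multiplicative.ofAdd 1) = x := by
  rw [c2Hom_apply, toAdd_ofAdd, ZMod.val_one, pow_one]

theorem c2_cases (e : Multiplicative (ZMod 2)) : e = 1 ∨ e = Multiplicative.ofAdd 1 := by
  have h : ∀ a : ZMod 2, a = 0 ∨ a = 1 := by decide
  rcases h (Multiplicative.toAdd e) with h1 | h1
  · left
    exact Multiplicative.toAdd.injective h1
  · right
    exact Multiplicative.toAdd.injective h1

variable {F : Type*} [Field F] {n : ℕ}

/-- the group of the inner-diagonal automorphisms -/
noncomputable def diagSub (n : ℕ) (F : Type*) [Field F] :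
    Subgroup (MulAut (ProjectiveSpecialLinearGroup (Fin n) F)) :=
  (pslConj : GL (Fin n) F →* MulAut (ProjectiveSpecialLinearGroup (Fin n) F)).range

theorem diagSub_le_stdSub : diagSub n F ≤ stdSub (Fin n) F := by
  rintro _ ⟨g, rfl⟩
  exact ⟨g, 1, by rw [map_one, mul_one]⟩

theorem field_conj (σ : F ≃+* F) (h : GL (Fin n) F) :
    pslField σ * pslConj h * (pslField σ)⁻¹ =
      pslConj (Matrix.GeneralLinearGroup.map (σ : F →+* F) h) := by
  rw [pslField_mul_pslConj, mul_inv_cancel_right]

theorem invTr_conj (h : GL (Fin n) F) :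
    pslInvTr * pslConj h * pslInvTr⁻¹ = pslConj (glInvTr h) := by
  rw [pslInvTr_mul_pslConj, mul_inv_cancel_right]

instance diagSub_normal [Fintype F] [Fact (2 ≤ n)] : (diagSub n F).Normal := by
  obtain ⟨p, hp⟩ := CharP.exists F
  have : Fact p.Prime := ⟨CharP.char_is_prime F p⟩
  constructor
  rintro _ ⟨h, rfl⟩ β
  obtain ⟨g, σ, e | e⟩ := aut_PSL_standard_fin p (Fact.out : 2 ≤ n) β
  · refine ⟨g * Matrix.GeneralLinearGroup.map (σ : F →+* F) h * g⁻¹, ?_⟩
    rw [e, map_mul, map_mul, map_inv, ← field_conj]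
    group
  · refine ⟨g * Matrix.GeneralLinearGroup.map (σ : F →+* F) (glInvTr h) * g⁻¹, ?_⟩
    rw [e, map_mul, map_mul, map_inv, ← field_conj, ← invTr_conj]
    group

section main

variable [Fintype F] [Fact (2 ≤ n)]

theorem q_pslInvTr_sq :
    (QuotientGroup.mk' (diagSub n F) pslInvTr) ^ 2 = 1 := by
  rw [← map_pow, pow_two, pslInvTr_mul_self, map_one]

/-- the comparison homomorphism -/
noncomputable def psiHom (n : ℕ) (F : Type*) [Field F] [Fintype F] [Fact (2 ≤ n)] :
    (F ≃+* F) × Multiplicative (ZMod 2) →*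
      MulAut (ProjectiveSpecialLinearGroup (Fin n) F) ⧸ diagSub n F :=
  MonoidHom.noncommCoprod ((QuotientGroup.mk' (diagSub n F)).comp pslField)
    (c2Hom (QuotientGroup.mk' (diagSub n F) pslInvTr) q_pslInvTr_sq)
    (by
      intro σ e
      rw [c2Hom_apply]
      apply Commute.pow_right
      show QuotientGroup.mk' (diagSub n F) (pslField σ) * QuotientGroup.mk' (diagSub n F) pslInvTr =
        QuotientGroup.mk' (diagSub n F) pslInvTr * QuotientGroup.mk' (diagSub n F) (pslField σ)
      rw [← map_mul, ← map_mul, pslInvTr_mul_pslField])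

theorem psiHom_apply (σ : F ≃+* F) (e : Multiplicative (ZMod 2)) :
    psiHom n F (σ, e) = QuotientGroup.mk' (diagSub n F) (pslField σ) *
      (QuotientGroup.mk' (diagSub n F) pslInvTr) ^ (Multiplicative.toAdd e).val := rfl

theorem psiHom_surjective : Function.Surjective (psiHom n F) := by
  obtain ⟨p, hp⟩ := CharP.exists F
  have : Fact p.Prime := ⟨CharP.char_is_prime F p⟩
  intro x
  obtain ⟨β, rfl⟩ := QuotientGroup.mk'_surjective _ x
  have hg : ∀ g : GL (Fin n) F, QuotientGroup.mk' (diagSub n F) (pslConj g) = 1 := by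
    intro g
    rw [QuotientGroup.mk'_apply, QuotientGroup.eq_one_iff]
    exact ⟨g, rfl⟩
  obtain ⟨g, σ, e | e⟩ := aut_PSL_standard_fin p (Fact.out : 2 ≤ n) β
  · refine ⟨(σ, 1), ?_⟩
    rw [psiHom_apply, e, map_mul, hg, one_mul]
    show _ * _ ^ (0 : ZMod 2).val = _
    rw [ZMod.val_zero, pow_zero, mul_one]
  · refine ⟨(σ, Multiplicative.ofAdd 1), ?_⟩
    rw [psiHom_apply, e, map_mul, map_mul, hg, one_mul, toAdd_ofAdd, ZMod.val_one, pow_one]

theorem psiHom_injective (hn : 3 ≤ n) : Function.Injective (psiHom n F) := by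
  have : Nontrivial (Fin n) := Fin.nontrivial_iff_two_le.mpr (by omega)
  rw [injective_iff_map_eq_one]
  rintro ⟨σ, e⟩ h
  rw [psiHom_apply, ← map_pow, ← map_mul, QuotientGroup.mk'_apply, QuotientGroup.eq_one_iff] at h
  obtain ⟨g, hg⟩ := h
  rcases c2_cases e with rfl | rfl
  · have h1 : (Multiplicative.toAdd (1 : Multiplicative (ZMod 2))).val = 0 := by
      show (0 : ZMod 2).val = 0
      rw [ZMod.val_zero]
    rw [h1, pow_zero, mul_one] at hg
    have h2 : pslConj g⁻¹ * pslField σ =
        (1 : MulAut (ProjectiveSpecialLinearGroup (Fin n) F)) := by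
      rw [map_inv, hg, inv_mul_cancel]
    rw [(eq_one_of_conj_field_eq_one h2).2]
    rfl
  · exfalso
    rw [toAdd_ofAdd, ZMod.val_one, pow_one] at hg
    apply pslInvTr_not_mem_stdSub (m := Fin n) (F := F) (by rw [Fintype.card_fin]; exact hn)
    have h1 : (pslInvTr : MulAut (ProjectiveSpecialLinearGroup (Fin n) F)) =
        (pslField σ)⁻¹ * pslConj g := by
      rw [hg, inv_mul_cancel_left]
    rw [h1]
    exact mul_mem (inv_mem ⟨1, σ, by rw [map_one, one_mul]⟩) (diagSub_le_stdSub ⟨g, rfl⟩)

/-- the structure homomorphism -/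
noncomputable def structHom (hn : 3 ≤ n) :
    MulAut (ProjectiveSpecialLinearGroup (Fin n) F) →* (F ≃+* F) × Multiplicative (ZMod 2) :=
  ((MulEquiv.ofBijective (psiHom n F) ⟨psiHom_injective hn, psiHom_surjective⟩).symm :
    _ →* (F ≃+* F) × Multiplicative (ZMod 2)).comp (QuotientGroup.mk' (diagSub n F))

theorem structHom_surjective (hn : 3 ≤ n) : Function.Surjective (structHom (F := F) hn) := by
  intro y
  obtain ⟨β, hβ⟩ := QuotientGroup.mk'_surjective (diagSub n F) (psiHom n F y)
  refine ⟨β, ?_⟩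
  show (MulEquiv.ofBijective (psiHom n F) ⟨psiHom_injective hn, psiHom_surjective⟩).symm
    (QuotientGroup.mk' _ β) = y
  rw [MulEquiv.symm_apply_eq, hβ]
  rfl

theorem ker_structHom (hn : 3 ≤ n) : (structHom (F := F) hn).ker = diagSub n F := by
  rw [structHom, MonoidHom.ker_mulEquiv_comp, QuotientGroup.ker_mk']

end main

end Cfsg.Agent.Helper8.AutSLn
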