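import Mathlib

set_option autoImplicit false

/-!
The automorphisms of `PSL_n(F)`, part R: Hilbert's Theorem 90 for `GL_n` and a field automorphism of
finite order.
-/

namespace Cfsg.Agent.Helper8.AutSLn

open Matrix

variable {F : Type*} [Field F]

/-- a consequence of the independence of characters -/
theorem mem_span_twisted_sums {V : Type*} [AddCommGroup V] [Module F V] (σ : F ≃+* F) {r : ℕ}
    (hσ : ∀ i j : Fin r, σ ^ (i : ℕ) = σ ^ (j : ℕ) → i = j) (hr : 0 < r) (w : Fin r → V) :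
    w ⟨0, hr⟩ ∈ Submodule.span F
      (Set.range fun c : F => ∑ i : Fin r, (σ ^ (i : ℕ)) c • w i) := by
  by_contra hx
  obtain ⟨ℓ, hℓ0, hℓ⟩ := Submodule.exists_dual_map_eq_bot_of_notMem hx inferInstance
  have h1 : ∀ c : F, ∑ i : Fin r, (σ ^ (i : ℕ)) c * ℓ (w i) = 0 := by
    intro c
    have h2 : ℓ (∑ i : Fin r, (σ ^ (i : ℕ)) c • w i) ∈
        (Submodule.span F (Set.range fun c : F => ∑ i : Fin r, (σ ^ (i : ℕ)) c • w i)).map ℓ :=
      Submodule.mem_map_of_mem (Submodule.subset_span ⟨c, rfl⟩)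
    rw [hℓ, Submodule.mem_bot, map_sum] at h2
    simpa only [map_smul, smul_eq_mul] using h2
  have hli := linearIndependent_monoidHom F F
  obtain ⟨χ, hχ⟩ : ∃ χ : Fin r → (F →* F), ∀ i c, χ i c = (σ ^ (i : ℕ)) c :=
    ⟨fun i => (((σ ^ (i : ℕ) : F ≃+* F) : F →+* F) : F →* F), fun _ _ => rfl⟩
  have hχi : Function.Injective χ := by
    intro i j e
    apply hσ
    ext c
    rw [← hχ, ← hχ, e]
  have hli' := hli.comp χ hχi
  rw [Fintype.linearIndependent_iff] at hli'
  have h3 := hli' (fun i => ℓ (w i)) (by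
    ext c
    rw [Finset.sum_apply, Pi.zero_apply, ← h1 c]
    apply Finset.sum_congr rfl
    intro i _
    rw [Pi.smul_apply, Function.comp_apply, smul_eq_mul, mul_comm, hχ]) ⟨0, hr⟩
  exact hℓ0 h3

variable {m : Type*} [Fintype m] [DecidableEq m]

/-- the norm products `g σ(g) ⋯ σ^{k-1}(g)` -/
def nrmGL (σ : F ≃+* F) (g : GL m F) : ℕ → GL m F
  | 0 => 1
  | k + 1 => g * Matrix.GeneralLinearGroup.map (σ : F →+* F) (nrmGL σ g k)

theorem nrmGL_zero (σ : F ≃+* F) (g : GL m F) : nrmGL σ g 0 = 1 := rfl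

theorem nrmGL_succ (σ : F ≃+* F) (g : GL m F) (k : ℕ) :
    nrmGL σ g (k + 1) = g * Matrix.GeneralLinearGroup.map (σ : F →+* F) (nrmGL σ g k) := rfl

theorem map_mulVec_comp (σ : F ≃+* F) (A : Matrix m m F) (v : m → F) :
    A.map σ *ᵥ (σ ∘ v) = σ ∘ (A *ᵥ v) := by
  ext i
  exact (RingHom.map_mulVec (σ : F →+* F) A v i).symm

/-- the iterates of the semilinear map `v ↦ g σ(v)` -/
theorem iterate_semilinear (σ : F ≃+* F) (g : GL m F) (k : ℕ) (v : m → F) :
    (fun w : m → F => (g : Matrix m m F) *ᵥ (σ ∘ w))^[k] v =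
      (nrmGL σ g k : Matrix m m F) *ᵥ ((σ ^ k : F ≃+* F) ∘ v) := by
  induction k with
  | zero =>
    rw [Function.iterate_zero, id, nrmGL_zero, Units.val_one, Matrix.one_mulVec, pow_zero]
    rfl
  | succ k ih =>
    rw [Function.iterate_succ_apply', ih, nrmGL_succ, Units.val_mul, ← map_mulVec_comp,
      Matrix.mulVec_mulVec, pow_succ']
    rfl

/-- **Hilbert's Theorem 90 for `GL_n`** -/
theorem hilbert90_GL (σ : F ≃+* F) {r : ℕ} (hr : 0 < r) (hσr : σ ^ r = 1)
    (hσ : ∀ i j : Fin r, σ ^ (i : ℕ) = σ ^ (j : ℕ) → i = j)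
    (g : GL m F) (hN : nrmGL σ g r = 1) :
    ∃ h : GL m F, g = h * (Matrix.GeneralLinearGroup.map (σ : F →+* F) h)⁻¹ := by
  obtain ⟨φ, hφ⟩ : ∃ φ : (m → F) → (m → F), ∀ w, φ w = (g : Matrix m m F) *ᵥ (σ ∘ w) :=
    ⟨_, fun _ => rfl⟩
  have hφ' : φ = fun w : m → F => (g : Matrix m m F) *ᵥ (σ ∘ w) := funext hφ
  have φadd : ∀ v w, φ (v + w) = φ v + φ w := by
    intro v w
    rw [hφ, hφ, hφ, ← Matrix.mulVec_add]
    congr 1
    ext i
    simp
  have φsmul : ∀ (c : F) v, φ (c • v) = σ c • φ v := by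
    intro c v
    rw [hφ, hφ, ← Matrix.mulVec_smul]
    congr 1
    ext i
    simp
  have φr : ∀ v, φ^[r] v = v := by
    intro v
    rw [hφ', iterate_semilinear, hN, hσr, Units.val_one, Matrix.one_mulVec]
    rfl
  have φsum : ∀ (s : Finset ℕ) (f : ℕ → m → F), φ (∑ i ∈ s, f i) = ∑ i ∈ s, φ (f i) := by
    intro s f
    induction s using Finset.induction_on with
    | empty =>
      rw [Finset.sum_empty, Finset.sum_empty, hφ]
      have : (σ ∘ (0 : m → F)) = 0 := by
        ext i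
        simp
      rw [this, Matrix.mulVec_zero]
    | insert a s ha ih => rw [Finset.sum_insert ha, Finset.sum_insert ha, φadd, ih]
  have φiter_smul : ∀ (k : ℕ) (c : F) v, φ^[k] (c • v) = (σ ^ k) c • φ^[k] v := by
    intro k c v
    induction k with
    | zero => rfl
    | succ k ih =>
      rw [Function.iterate_succ_apply', ih, φsmul, Function.iterate_succ_apply', pow_succ']
      rfl
  -- the fixed vectors span
  obtain ⟨W, hW⟩ : ∃ W : Set (m → F), W = {w | φ w = w} := ⟨_, rfl⟩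
  have hT : ∀ u : m → F, (∑ i ∈ Finset.range r, φ^[i] u) ∈ W := by
    intro u
    rw [hW]
    show φ _ = _
    rw [φsum]
    have h1 : ∀ i, φ (φ^[i] u) = φ^[i + 1] u := fun i => (Function.iterate_succ_apply' φ i u).symm
    simp only [h1]
    obtain ⟨r', hr'⟩ := Nat.exists_eq_succ_of_ne_zero hr.ne'
    have h2 := φr u
    rw [hr'] at h2 ⊢
    rw [Finset.sum_range_succ' (fun i => φ^[i] u), Finset.sum_range_succ (fun i => φ^[i + 1] u),
      h2]
    rfl
  have hspan : ⊤ ≤ Submodule.span F W := by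
    intro v _
    have h1 := mem_span_twisted_sums σ hσ hr (fun i : Fin r => φ^[(i : ℕ)] v)
    have h2 : Submodule.span F (Set.range fun c : F =>
        ∑ i : Fin r, (σ ^ (i : ℕ)) c • φ^[(i : ℕ)] v) ≤ Submodule.span F W := by
      apply Submodule.span_mono
      rintro _ ⟨c, rfl⟩
      have h3 := hT (c • v)
      simp only [φiter_smul] at h3
      rw [Finset.sum_range (fun i => (σ ^ i) c • φ^[i] v)] at h3
      exact h3
    exact h2 h1
  -- a basis of fixed vectors
  obtain ⟨b₀, hb₀⟩ : ∃ b₀ : Module.Basis _ F (m → F), Set.range b₀ ⊆ W :=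
    ⟨Module.Basis.ofSpan hspan, Module.Basis.ofSpan_subset hspan⟩
  have : Fintype _ := FiniteDimensional.fintypeBasisIndex b₀
  have hcard := (Module.finrank_eq_card_basis b₀).symm.trans
    (Module.finrank_fintype_fun_eq_card (R := F) (η := m))
  obtain ⟨b, hb⟩ : ∃ b : Module.Basis m F (m → F), ∀ j, b j ∈ W := by
    refine ⟨b₀.reindex (Fintype.equivOfCardEq hcard), fun j => ?_⟩
    rw [Module.Basis.reindex_apply]
    exact hb₀ ⟨_, rfl⟩
  have hdet : ((Pi.basisFun F m).toMatrix b).det ≠ 0 := by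
    rw [← Module.Basis.det_apply]
    exact (Module.Basis.isUnit_det (Pi.basisFun F m) b).ne_zero
  obtain ⟨h, hh⟩ : ∃ h : GL m F, (h : Matrix m m F) = (Pi.basisFun F m).toMatrix b :=
    ⟨Matrix.GeneralLinearGroup.mkOfDetNeZero _ hdet, rfl⟩
  refine ⟨h, ?_⟩
  rw [eq_mul_inv_iff_mul_eq]
  apply Units.ext
  rw [Units.val_mul, hh]
  ext a j
  have h1 : (g : Matrix m m F) *ᵥ (σ ∘ b j) = b j := by
    have := hb j
    rw [hW] at this
    change φ (b j) = b j at this
    rw [hφ] at this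
    exact this
  have h2 := congrFun h1 a
  rw [Module.Basis.toMatrix_apply, Pi.basisFun_repr, ← h2, Matrix.mul_apply, Matrix.mulVec,
    dotProduct]
  apply Finset.sum_congr rfl
  intro k _
  congr 1
  show σ ((h : Matrix m m F) k j) = σ (b j k)
  rw [hh, Module.Basis.toMatrix_apply, Pi.basisFun_repr]

end Cfsg.Agent.Helper8.AutSLn
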