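import Mathlib
import Cfsg.Agent.Helper8.AutSLnR
import Cfsg.Agent.Helper8.AutSLnN

set_option autoImplicit false

/-!
The automorphisms of `PSL_n(F)`, part S: elements of the coset of a field automorphism having the
same order are conjugate to it under the inner-diagonal group.
-/

namespace Cfsg.Agent.Helper8.AutSLn

open Matrix

variable {F : Type*} [Field F]

/-- the automorphism of the unit group induced by a field automorphism -/
def unitsAut (σ : F ≃+* F) : Fˣ →* Fˣ := Units.map ((σ : F →+* F) : F →* F)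

theorem unitsAut_coe (σ : F ≃+* F) (c : Fˣ) : ((unitsAut σ c : Fˣ) : F) = σ c := rfl

/-- the norm products in the unit group -/
def nrmF (σ : F ≃+* F) (c : Fˣ) : ℕ → Fˣ
  | 0 => 1
  | k + 1 => c * unitsAut σ (nrmF σ c k)

theorem nrmF_mul (σ : F ≃+* F) (c d : Fˣ) (k : ℕ) :
    nrmF σ (c * d) k = nrmF σ c k * nrmF σ d k := by
  induction k with
  | zero => simp [nrmF]
  | succ k ih =>
    simp only [nrmF, ih, map_mul]
    exact mul_mul_mul_comm _ _ _ _

theorem nrmF_inv (σ : F ≃+* F) (c : Fˣ) (k : ℕ) : nrmF σ c⁻¹ k = (nrmF σ c k)⁻¹ := by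
  rw [eq_inv_iff_mul_eq_one, ← nrmF_mul, inv_mul_cancel]
  induction k with
  | zero => rfl
  | succ k ih => simp only [nrmF, ih, map_one, mul_one]

theorem nrmF_one (σ : F ≃+* F) (k : ℕ) : nrmF σ (1 : Fˣ) k = 1 := by
  induction k with
  | zero => rfl
  | succ k ih => simp only [nrmF, ih, map_one, mul_one]

/-- the norm, as a homomorphism -/
def nrmHom (σ : F ≃+* F) (r : ℕ) : Fˣ →* Fˣ where
  toFun c := nrmF σ c r
  map_one' := nrmF_one σ r
  map_mul' c d := nrmF_mul σ c d r

theorem nrmHom_apply (σ : F ≃+* F) (r : ℕ) (c : Fˣ) : nrmHom σ r c = nrmF σ c r := rfl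

/-- `σ` applied to the norm products: the other recursion -/
theorem nrmF_succ' (σ : F ≃+* F) (c : Fˣ) (k : ℕ) :
    nrmF σ c (k + 1) = nrmF σ c k * unitsAut (σ ^ k) c := by
  induction k with
  | zero =>
    simp only [nrmF, map_one, mul_one, one_mul, pow_zero]
    ext
    rfl
  | succ k ih =>
    have h1 : nrmF σ c (k + 1 + 1) = c * unitsAut σ (nrmF σ c (k + 1)) := rfl
    rw [h1, ih, map_mul, ← mul_assoc]
    congr 1
    ext
    rw [unitsAut_coe, unitsAut_coe, unitsAut_coe, pow_succ']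
    rfl

theorem unitsAut_nrmF (σ : F ≃+* F) {r : ℕ} (hσr : σ ^ r = 1) (c : Fˣ) :
    unitsAut σ (nrmF σ c r) = nrmF σ c r := by
  have h1 : nrmF σ c (r + 1) = c * unitsAut σ (nrmF σ c r) := rfl
  have h2 := nrmF_succ' σ c r
  rw [hσr] at h2
  have h3 : unitsAut (1 : F ≃+* F) c = c := by
    ext
    rfl
  rw [h3, mul_comm, h1] at h2
  exact mul_left_cancel h2

section GLpart

variable {m : Type*} [Fintype m] [DecidableEq m]

/-- the action of a field automorphism on `GL` -/
abbrev gls (σ : F ≃+* F) : GL m F →* GL m F := Matrix.GeneralLinearGroup.map (σ : F →+* F)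

theorem gls_scalar (σ : F ≃+* F) (c : Fˣ) :
    gls σ (Matrix.GeneralLinearGroup.scalar m c) =
      Matrix.GeneralLinearGroup.scalar m (unitsAut σ c) :=
  Matrix.GeneralLinearGroup.map_scalar _ _

theorem nrmGL_scalar_mul (σ : F ≃+* F) (c : Fˣ) (g : GL m F) (k : ℕ) :
    nrmGL σ (Matrix.GeneralLinearGroup.scalar m c * g) k =
      Matrix.GeneralLinearGroup.scalar m (nrmF σ c k) * nrmGL σ g k := by
  induction k with
  | zero => simp [nrmGL, nrmF]
  | succ k ih =>
    rw [nrmGL_succ, ih, nrmGL_succ, map_mul, gls_scalar]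
    have h1 : nrmF σ c (k + 1) = c * unitsAut σ (nrmF σ c k) := rfl
    rw [h1, map_mul, mul_assoc, mul_assoc]
    congr 1
    rw [← mul_assoc, ← mul_assoc, Matrix.GeneralLinearGroup.scalar_commute]

theorem nrmGL_succ' (σ : F ≃+* F) (g : GL m F) (k : ℕ) :
    nrmGL σ g (k + 1) = nrmGL σ g k * gls (σ ^ k) g := by
  induction k with
  | zero =>
    rw [nrmGL_succ, nrmGL_zero, map_one, mul_one, one_mul, pow_zero]
    apply Units.ext
    ext i j
    rfl
  | succ k ih =>
    rw [nrmGL_succ, ih, map_mul, ← mul_assoc, ← nrmGL_succ, ← ih]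
    congr 1
    apply Units.ext
    ext i j
    show σ ((σ ^ k) (g i j)) = (σ ^ (k + 1)) (g i j)
    rw [pow_succ']
    rfl

/-- the powers of a semilinear automorphism -/
theorem conj_field_pow (σ : F ≃+* F) (g : GL m F) (k : ℕ) :
    (pslConj g * pslField σ : MulAut (ProjectiveSpecialLinearGroup m F)) ^ k =
      pslConj (nrmGL σ g k) * pslField (σ ^ k) := by
  induction k with
  | zero => rw [pow_zero, nrmGL_zero, map_one, pow_zero, map_one, mul_one]
  | succ k ih =>
    rw [pow_succ', ih, nrmGL_succ, map_mul, pow_succ', map_mul, mul_assoc,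
      ← mul_assoc (pslField σ), pslField_mul_pslConj]
    simp only [mul_assoc]

/-- conjugating a field automorphism by an inner-diagonal one -/
theorem conj_pslField (σ : F ≃+* F) (h : GL m F) :
    pslConj h * pslField σ * (pslConj h)⁻¹ =
      (pslConj (h * (gls σ h)⁻¹) * pslField σ : MulAut (ProjectiveSpecialLinearGroup m F)) := by
  rw [map_mul, ← map_inv, mul_assoc, mul_assoc, pslField_mul_pslConj, map_inv, map_inv]

theorem nrmGL_one (σ : F ≃+* F) (k : ℕ) : nrmGL σ (1 : GL m F) k = 1 := by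
  induction k with
  | zero => rfl
  | succ k ih => rw [nrmGL_succ, ih, map_one, mul_one]

end GLpart

/-- Hilbert's Theorem 90 in dimension one -/
theorem hilbert90_units (σ : F ≃+* F) {r : ℕ} (hr : 0 < r) (hσr : σ ^ r = 1)
    (hσ : ∀ i j : Fin r, σ ^ (i : ℕ) = σ ^ (j : ℕ) → i = j) (c : Fˣ) (hN : nrmF σ c r = 1) :
    ∃ ν : Fˣ, c = ν * (unitsAut σ ν)⁻¹ := by
  have h1 : nrmGL σ (Matrix.GeneralLinearGroup.scalar (Fin 1) c) r = 1 := by
    have := nrmGL_scalar_mul σ c (1 : GL (Fin 1) F) r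
    rw [mul_one] at this
    rw [this, hN, map_one, one_mul, nrmGL_one]
  obtain ⟨h, hh⟩ := hilbert90_GL σ hr hσr hσ _ h1
  rw [eq_mul_inv_iff_mul_eq] at hh
  have h2 := congrArg (fun A : GL (Fin 1) F => (A : Matrix (Fin 1) (Fin 1) F) 0 0) hh
  simp only [Units.val_mul, Matrix.mul_apply, Fin.sum_univ_one] at h2
  have h3 : (h : Matrix (Fin 1) (Fin 1) F) 0 0 ≠ 0 := by
    have := (Matrix.GeneralLinearGroup.det h).ne_zero
    rwa [Matrix.GeneralLinearGroup.val_det_apply, Matrix.det_fin_one] at this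
  refine ⟨Units.mk0 _ h3, ?_⟩
  rw [eq_mul_inv_iff_mul_eq]
  ext
  have h4 : ((Matrix.GeneralLinearGroup.scalar (Fin 1) c : GL (Fin 1) F) :
      Matrix (Fin 1) (Fin 1) F) 0 0 = c := by
    simp [Matrix.GeneralLinearGroup.scalar]
  rw [h4] at h2
  exact h2

end Cfsg.Agent.Helper8.AutSLn
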