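import Mathlib
import Cfsg.Agent.Helper8.AutSLnS

set_option autoImplicit false

/-!
The automorphisms of `PSL_n(F)`, part T: the norm of a finite field is onto the fixed units, and the
field-automorphism case of the conjugacy theorem.
-/

namespace Cfsg.Agent.Helper8.AutSLn

open Matrix

variable {F : Type*} [Field F]

/-- the units fixed by a field automorphism -/
def fixU (σ : F ≃+* F) : Subgroup Fˣ where
  carrier := {c | unitsAut σ c = c}
  one_mem' := map_one _
  mul_mem' {a b} ha hb := by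
    change unitsAut σ (a * b) = a * b
    rw [map_mul, show unitsAut σ a = a from ha, show unitsAut σ b = b from hb]
  inv_mem' {a} ha := by
    change unitsAut σ a⁻¹ = a⁻¹
    rw [map_inv, show unitsAut σ a = a from ha]

theorem mem_fixU (σ : F ≃+* F) (c : Fˣ) : c ∈ fixU σ ↔ unitsAut σ c = c := Iff.rfl

/-- the map `c ↦ c / σ(c)` -/
def quotHom (σ : F ≃+* F) : Fˣ →* Fˣ where
  toFun c := c * (unitsAut σ c)⁻¹
  map_one' := by rw [map_one, inv_one, mul_one]
  map_mul' a b := by
    rw [map_mul, mul_inv, mul_mul_mul_comm]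

theorem quotHom_apply (σ : F ≃+* F) (c : Fˣ) : quotHom σ c = c * (unitsAut σ c)⁻¹ := rfl

theorem ker_quotHom (σ : F ≃+* F) : (quotHom σ).ker = fixU σ := by
  ext c
  rw [MonoidHom.mem_ker, quotHom_apply, mul_inv_eq_one, mem_fixU, eq_comm]

theorem nrmF_unitsAut (σ : F ≃+* F) (c : Fˣ) (k : ℕ) :
    nrmF σ (unitsAut σ c) k = unitsAut σ (nrmF σ c k) := by
  induction k with
  | zero => exact (map_one _).symm
  | succ k ih =>
    have h1 : ∀ d : Fˣ, nrmF σ d (k + 1) = d * unitsAut σ (nrmF σ d k) := fun _ => rfl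
    rw [h1, h1, ih, map_mul]

theorem range_quotHom (σ : F ≃+* F) {r : ℕ} (hr : 0 < r) (hσr : σ ^ r = 1)
    (hσ : ∀ i j : Fin r, σ ^ (i : ℕ) = σ ^ (j : ℕ) → i = j) :
    (quotHom σ).range = (nrmHom σ r).ker := by
  ext c
  rw [MonoidHom.mem_ker, MonoidHom.mem_range, nrmHom_apply]
  constructor
  · rintro ⟨ν, rfl⟩
    rw [quotHom_apply, nrmF_mul, nrmF_inv, nrmF_unitsAut, unitsAut_nrmF σ hσr, mul_inv_cancel]
  · intro h
    obtain ⟨ν, hν⟩ := hilbert90_units σ hr hσr hσ c h
    exact ⟨ν, hν.symm⟩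

/-- the norm is onto the fixed units -/
theorem range_nrmHom [Finite F] (σ : F ≃+* F) {r : ℕ} (hr : 0 < r) (hσr : σ ^ r = 1)
    (hσ : ∀ i j : Fin r, σ ^ (i : ℕ) = σ ^ (j : ℕ) → i = j) :
    (nrmHom σ r).range = fixU σ := by
  have : Finite Fˣ := inferInstance
  apply Subgroup.eq_of_le_of_card_ge
  · rintro _ ⟨c, rfl⟩
    exact unitsAut_nrmF σ hσr c
  · have h1 := (quotHom σ).ker.card_mul_index
    rw [Subgroup.index_ker, ker_quotHom, range_quotHom σ hr hσr hσ] at h1
    have h2 := (nrmHom σ r).ker.card_mul_index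
    rw [Subgroup.index_ker, ← h1, mul_comm] at h2
    have h3 : 0 < Nat.card (nrmHom σ r).ker := Nat.card_pos
    exact (Nat.eq_of_mul_eq_mul_right h3 h2).ge

theorem exists_nrmF_eq [Finite F] (σ : F ≃+* F) {r : ℕ} (hr : 0 < r) (hσr : σ ^ r = 1)
    (hσ : ∀ i j : Fin r, σ ^ (i : ℕ) = σ ^ (j : ℕ) → i = j) (μ : Fˣ) (hμ : unitsAut σ μ = μ) :
    ∃ c : Fˣ, nrmF σ c r = μ := by
  have h1 : μ ∈ (nrmHom σ r).range := by
    rw [range_nrmHom σ hr hσr hσ]
    exact hμ
  exact h1

section GLpart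

variable {m : Type*} [Fintype m] [DecidableEq m]

theorem pslConj_scalar_mul [Nontrivial m] (c : Fˣ) (g : GL m F) :
    (pslConj (Matrix.GeneralLinearGroup.scalar m c * g) :
      MulAut (ProjectiveSpecialLinearGroup m F)) = pslConj g := by
  have h1 : Matrix.GeneralLinearGroup.scalar m c ∈
      (pslConj : GL m F →* MulAut (ProjectiveSpecialLinearGroup m F)).ker := by
    rw [ker_pslConj, Matrix.GeneralLinearGroup.center_eq_range_scalar]
    exact ⟨c, rfl⟩
  rw [map_mul, MonoidHom.mem_ker.mp h1, one_mul]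

theorem scalar_injective [Nonempty m] :
    Function.Injective (Matrix.GeneralLinearGroup.scalar m : Fˣ →* GL m F) := by
  intro a b h
  obtain ⟨i⟩ := ‹Nonempty m›
  have h1 := congrArg (fun A : GL m F => (A : Matrix m m F) i i) h
  simp only [Matrix.GeneralLinearGroup.coe_scalar, Matrix.scalar_apply,
    Matrix.diagonal_apply_eq] at h1
  exact Units.ext h1

/-- **the field-automorphism case**: an element of the coset of `pslField σ` whose `r`-th power is
trivial is conjugate to `pslField σ` under the inner-diagonal group -/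
theorem field_case [Finite F] [Nontrivial m] (σ : F ≃+* F) {r : ℕ} (hr : 0 < r)
    (hσr : σ ^ r = 1) (hσ : ∀ i j : Fin r, σ ^ (i : ℕ) = σ ^ (j : ℕ) → i = j) (g : GL m F)
    (hy : (pslConj g * pslField σ : MulAut (ProjectiveSpecialLinearGroup m F)) ^ r = 1) :
    ∃ h : GL m F, (pslConj g * pslField σ : MulAut (ProjectiveSpecialLinearGroup m F)) =
      pslConj h * pslField σ * (pslConj h)⁻¹ := by
  rw [conj_field_pow, hσr] at hy
  have h1 := (eq_one_of_conj_field_eq_one hy).1
  rw [Matrix.GeneralLinearGroup.center_eq_range_scalar] at h1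
  obtain ⟨μ, hμ⟩ := h1
  have h2 : unitsAut σ μ = μ := by
    have e1 := nrmGL_succ σ g r
    have e2 := nrmGL_succ' σ g r
    have e3 : gls (1 : F ≃+* F) g = g := by
      apply Units.ext
      ext i j
      rfl
    rw [hσr, e3, e1, ← hμ, gls_scalar, Matrix.GeneralLinearGroup.scalar_commute μ g] at e2
    exact scalar_injective (mul_left_cancel e2)
  obtain ⟨c, hc⟩ := exists_nrmF_eq σ hr hσr hσ μ h2
  have h3 : nrmGL σ (Matrix.GeneralLinearGroup.scalar m c⁻¹ * g) r = 1 := by
    rw [nrmGL_scalar_mul, nrmF_inv, hc, ← hμ, ← map_mul, inv_mul_cancel, map_one]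
  obtain ⟨h, hh⟩ := hilbert90_GL σ hr hσr hσ _ h3
  refine ⟨h, ?_⟩
  rw [conj_pslField, ← hh, pslConj_scalar_mul]

end GLpart

end Cfsg.Agent.Helper8.AutSLn
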