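import Mathlib
import Cfsg.Agent.Helper8.AutSLnT
import Cfsg.Agent.S0755

set_option autoImplicit false

/-!
The automorphisms of `PSL_n(F)`, part U: the graph-field case of the conjugacy theorem, through the
classification of the Hermitian forms over a finite field.
-/

namespace Cfsg.Agent.Helper8.AutSLn

open Matrix

variable {F : Type*} [Field F] {m : Type*} [Fintype m] [DecidableEq m]

/-- the conjugate transpose in `GL` -/
def glStar (σ : F ≃+* F) (g : GL m F) : GL m F := gls σ (glInvTr g)⁻¹

theorem glStar_coe (σ : F ≃+* F) (g : GL m F) :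
    (glStar σ g : Matrix m m F) = ((g : Matrix m m F).transpose).map σ := rfl

theorem glStar_apply (σ : F ≃+* F) (g : GL m F) (i j : m) :
    (glStar σ g : Matrix m m F) i j = σ ((g : Matrix m m F) j i) := rfl

theorem glStar_mul (σ : F ≃+* F) (a b : GL m F) :
    glStar σ (a * b) = glStar σ b * glStar σ a := by
  apply Units.ext
  rw [Units.val_mul, glStar_coe, glStar_coe, glStar_coe, Units.val_mul, Matrix.transpose_mul]
  exact Matrix.map_mul (f := (σ : F →+* F))

theorem glStar_one (σ : F ≃+* F) : glStar σ (1 : GL m F) = 1 := by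
  apply Units.ext
  ext i j
  rw [glStar_apply, Units.val_one, Matrix.one_apply, Matrix.one_apply]
  by_cases h : i = j
  · rw [if_pos h, if_pos h.symm, map_one]
  · rw [if_neg h, if_neg (Ne.symm h), map_zero]

theorem glStar_inv (σ : F ≃+* F) (a : GL m F) : glStar σ a⁻¹ = (glStar σ a)⁻¹ := by
  rw [eq_inv_iff_mul_eq_one, ← glStar_mul, mul_inv_cancel, glStar_one]

theorem glStar_glStar (σ : F ≃+* F) (hσ2 : σ * σ = 1) (a : GL m F) :
    glStar σ (glStar σ a) = a := by
  apply Units.ext
  ext i j
  rw [glStar_apply, glStar_apply]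
  exact RingEquiv.congr_fun hσ2 _

theorem glStar_scalar (σ : F ≃+* F) (c : Fˣ) :
    glStar σ (Matrix.GeneralLinearGroup.scalar m c) =
      Matrix.GeneralLinearGroup.scalar m (unitsAut σ c) := by
  apply Units.ext
  ext i j
  rw [glStar_apply, Matrix.GeneralLinearGroup.coe_scalar, Matrix.GeneralLinearGroup.coe_scalar,
    Matrix.scalar_apply, Matrix.scalar_apply, Matrix.diagonal_apply, Matrix.diagonal_apply]
  by_cases h : i = j
  · rw [if_pos h, if_pos h.symm]
    rfl
  · rw [if_neg h, if_neg (Ne.symm h), map_zero]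

theorem glInvTr_inv (h : GL m F) : glInvTr h⁻¹ = (glInvTr h)⁻¹ := by
  apply Units.ext
  rw [glInvTr_coe, glInvTr_inv_coe, inv_inv]

/-- conjugating the graph-field automorphism by an inner-diagonal one -/
theorem conj_graphField (σ : F ≃+* F) (h : GL m F) :
    pslConj h * (pslField σ * pslInvTr) * (pslConj h)⁻¹ =
      (pslConj (h * glStar σ h) * (pslField σ * pslInvTr) :
        MulAut (ProjectiveSpecialLinearGroup m F)) := by
  rw [← map_inv, mul_assoc, mul_assoc, pslInvTr_mul_pslConj, ← mul_assoc (pslField σ),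
    pslField_mul_pslConj, glInvTr_inv, map_mul]
  simp only [mul_assoc]
  rfl

/-- the square of an element of the coset of the graph-field automorphism -/
theorem graphField_sq (σ : F ≃+* F) (g : GL m F) :
    (pslConj g * (pslField σ * pslInvTr)) * (pslConj g * (pslField σ * pslInvTr)) =
      (pslConj (g * (glStar σ g)⁻¹) * pslField (σ * σ) :
        MulAut (ProjectiveSpecialLinearGroup m F)) := by
  have h1 : (pslField σ * pslInvTr) * pslConj g =
      (pslConj (glStar σ g)⁻¹ * (pslField σ * pslInvTr) :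
        MulAut (ProjectiveSpecialLinearGroup m F)) := by
    rw [mul_assoc, pslInvTr_mul_pslConj, ← mul_assoc, pslField_mul_pslConj, mul_assoc]
    congr 2
  rw [mul_assoc, ← mul_assoc (pslField σ * pslInvTr), h1, map_mul, map_mul]
  simp only [mul_assoc]
  congr 2
  rw [← mul_assoc pslInvTr, pslInvTr_mul_pslField, mul_assoc, pslInvTr_mul_self, mul_one]

/-- the sesquilinear form of a matrix -/
def hermForm (σ : F ≃+* F) (A : Matrix m m F) :
    (m → F) →ₛₗ[(σ : F →+* F)] (m → F) →ₗ[F] F :=
  LinearMap.mk₂'ₛₗ (σ : F →+* F) (RingHom.id F) (fun u v => (σ ∘ u) ⬝ᵥ (A *ᵥ v))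
    (fun u u' v => by
      have : (σ ∘ (u + u')) = σ ∘ u + σ ∘ u' := by
        ext i
        simp
      rw [this, add_dotProduct])
    (fun c u v => by
      have : (σ ∘ (c • u)) = σ c • (σ ∘ u) := by
        ext i
        simp
      rw [this, smul_dotProduct]
      rfl)
    (fun u v v' => by rw [Matrix.mulVec_add, dotProduct_add])
    (fun c u v => by
      rw [Matrix.mulVec_smul, dotProduct_smul]
      rfl)

theorem hermForm_apply (σ : F ≃+* F) (A : Matrix m m F) (u v : m → F) :
    hermForm σ A u v = (σ ∘ u) ⬝ᵥ (A *ᵥ v) := rfl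

theorem hermForm_isSymm (σ : F ≃+* F) (hσ2 : σ * σ = 1) (A : Matrix m m F)
    (hA : (A.transpose).map σ = A) : (hermForm σ A).IsSymm := by
  constructor
  intro u v
  rw [hermForm_apply, hermForm_apply]
  show σ _ = _
  have h1 : ∀ a b : m → F, σ (a ⬝ᵥ b) = (σ ∘ a) ⬝ᵥ (σ ∘ b) := by
    intro a b
    simp only [dotProduct, map_sum, map_mul, Function.comp_apply]
  rw [h1, ← map_mulVec_comp]
  have h2 : σ ∘ σ ∘ u = u := by
    ext i
    exact RingEquiv.congr_fun hσ2 _
  rw [h2, dotProduct_mulVec, dotProduct_comm, ← Matrix.mulVec_transpose]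
  congr 2

theorem hermForm_separatingLeft (σ : F ≃+* F) (A : Matrix m m F) (hA : IsUnit A) :
    (hermForm σ A).SeparatingLeft := by
  intro u hu
  have h1 : (σ ∘ u) ᵥ* A = 0 := by
    apply dotProduct_eq_zero
    intro v
    rw [← dotProduct_mulVec]
    exact hu v
  obtain ⟨A', hA'⟩ := hA
  have h2 : ((σ ∘ u) ᵥ* A) ᵥ* ((A'⁻¹ : (Matrix m m F)ˣ) : Matrix m m F) = 0 := by
    rw [h1, Matrix.zero_vecMul]
  rw [Matrix.vecMul_vecMul, ← hA', ← Units.val_mul, mul_inv_cancel, Units.val_one,
    Matrix.vecMul_one] at h2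
  ext i
  have h3 := congrFun h2 i
  exact (map_eq_zero_iff σ σ.injective).mp h3

/-- **Hermitian matrices over a finite field are of the form `h h*`** -/
theorem herm_decomp [Finite F] (σ : F ≃+* F) (hσ : σ ≠ 1) (hσ2 : σ * σ = 1) (g : GL m F)
    (hg : glStar σ g = g) : ∃ h : GL m F, g = h * glStar σ h := by
  have hg' : ((g : Matrix m m F).transpose).map σ = (g : Matrix m m F) :=
    congrArg (fun x : GL m F => (x : Matrix m m F)) hg
  have hS := hermForm_isSymm σ hσ2 (g : Matrix m m F) hg'
  have hL := hermForm_separatingLeft σ (g : Matrix m m F) ⟨g, rfl⟩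
  have hB : (hermForm σ (g : Matrix m m F)).Nondegenerate := by
    refine ⟨hL, ?_⟩
    intro v hv
    apply hL
    intro u
    rw [← hS.eq, hv u, map_zero]
  have hσ' : (σ : F →+* F) ≠ RingHom.id F := by
    intro e
    apply hσ
    ext c
    exact RingHom.congr_fun e c
  obtain ⟨b₀, hb₀⟩ := Cfsg.Agent.S0755.result (σ : F →+* F) hσ'
    (fun a => RingEquiv.congr_fun hσ2 a) (hermForm σ (g : Matrix m m F)) hS hB
  have hcard : Fintype.card (Fin (Module.finrank F (m → F))) = Fintype.card m := by
    rw [Fintype.card_fin, Module.finrank_fintype_fun_eq_card]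
  obtain ⟨b, hb⟩ : ∃ b : Module.Basis m F (m → F), ∀ k l,
      hermForm σ (g : Matrix m m F) (b k) (b l) = if k = l then 1 else 0 := by
    refine ⟨b₀.reindex (Fintype.equivOfCardEq hcard), fun k l => ?_⟩
    rw [Module.Basis.reindex_apply, Module.Basis.reindex_apply, hb₀]
    simp only [EmbeddingLike.apply_eq_iff_eq]
  have hdet : ((Pi.basisFun F m).toMatrix b).det ≠ 0 := by
    rw [← Module.Basis.det_apply]
    exact (Module.Basis.isUnit_det (Pi.basisFun F m) b).ne_zero
  obtain ⟨P, hP⟩ : ∃ P : GL m F, (P : Matrix m m F) = (Pi.basisFun F m).toMatrix b :=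
    ⟨Matrix.GeneralLinearGroup.mkOfDetNeZero _ hdet, rfl⟩
  have hPij : ∀ i j, (P : Matrix m m F) i j = b j i := by
    intro i j
    rw [hP, Module.Basis.toMatrix_apply, Pi.basisFun_repr]
  have key : glStar σ P * (g * P) = 1 := by
    apply Units.ext
    ext k l
    rw [Units.val_mul, Units.val_mul, Matrix.mul_apply, Units.val_one, Matrix.one_apply, ← hb k l,
      hermForm_apply, dotProduct]
    apply Finset.sum_congr rfl
    intro i _
    rw [glStar_apply, hPij, Function.comp_apply, Matrix.mul_apply, Matrix.mulVec, dotProduct]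
    congr 1
    apply Finset.sum_congr rfl
    intro j _
    rw [hPij]
  refine ⟨(glStar σ P)⁻¹, ?_⟩
  rw [glStar_inv, glStar_glStar σ hσ2, ← _root_.mul_inv_rev, eq_inv_iff_mul_eq_one,
    eq_inv_of_mul_eq_one_left key, ← mul_assoc, mul_inv_cancel]

/-- **the graph-field case**: an element of the coset of the graph-field automorphism whose square is
trivial is conjugate to it under the inner-diagonal group -/
theorem graphField_case [Finite F] [Nontrivial m] (σ : F ≃+* F) (hσ : σ ≠ 1) (hσ2 : σ * σ = 1)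
    (g : GL m F)
    (hy : (pslConj g * (pslField σ * pslInvTr)) * (pslConj g * (pslField σ * pslInvTr)) =
      (1 : MulAut (ProjectiveSpecialLinearGroup m F))) :
    ∃ h : GL m F, (pslConj g * (pslField σ * pslInvTr) :
        MulAut (ProjectiveSpecialLinearGroup m F)) =
      pslConj h * (pslField σ * pslInvTr) * (pslConj h)⁻¹ := by
  rw [graphField_sq, hσ2] at hy
  have h1 := (eq_one_of_conj_field_eq_one hy).1
  rw [Matrix.GeneralLinearGroup.center_eq_range_scalar] at h1
  obtain ⟨μ, hμ⟩ := h1
  -- `g = μ g*`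
  have h2 : glStar σ g = Matrix.GeneralLinearGroup.scalar m μ⁻¹ * g := by
    rw [map_inv, hμ, _root_.mul_inv_rev, inv_inv, inv_mul_cancel_right]
  have h3 : μ * unitsAut σ μ = 1 := by
    have e1 := congrArg (glStar σ) h2
    rw [glStar_glStar σ hσ2, glStar_mul, glStar_scalar, h2, mul_assoc,
      ← Matrix.GeneralLinearGroup.scalar_commute, ← mul_assoc, ← map_mul] at e1
    have e2 : Matrix.GeneralLinearGroup.scalar m (μ⁻¹ * unitsAut σ μ⁻¹) = 1 :=
      mul_right_cancel (e1.symm.trans (one_mul g).symm)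
    rw [← map_one (Matrix.GeneralLinearGroup.scalar m)] at e2
    have e3 := scalar_injective e2
    rw [map_inv, ← mul_inv, inv_eq_one] at e3
    exact e3
  have hσ2' : σ ^ 2 = 1 := by rw [pow_two, hσ2]
  have hinj : ∀ i j : Fin 2, σ ^ (i : ℕ) = σ ^ (j : ℕ) → i = j := by
    intro i j e
    fin_cases i <;> fin_cases j
    · rfl
    · exfalso
      apply hσ
      simpa using e.symm
    · exfalso
      apply hσ
      simpa using e
    · rfl
  have h4 : nrmF σ μ 2 = 1 := by
    show μ * unitsAut σ (μ * unitsAut σ 1) = 1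
    rw [map_one, mul_one, h3]
  obtain ⟨ν, hν⟩ := hilbert90_units σ two_pos hσ2' hinj μ h4
  have h5 : glStar σ (Matrix.GeneralLinearGroup.scalar m ν⁻¹ * g) =
      Matrix.GeneralLinearGroup.scalar m ν⁻¹ * g := by
    rw [glStar_mul, glStar_scalar, h2, mul_assoc, ← Matrix.GeneralLinearGroup.scalar_commute,
      ← mul_assoc, ← map_mul]
    congr 2
    rw [hν, map_inv, _root_.mul_inv_rev, inv_inv, mul_comm (unitsAut σ ν), mul_inv_cancel_right]
  obtain ⟨h, hh⟩ := herm_decomp σ hσ hσ2 _ h5
  refine ⟨h, ?_⟩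
  rw [conj_graphField, ← hh, pslConj_scalar_mul]

end Cfsg.Agent.Helper8.AutSLn
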