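import Mathlib
import Cfsg.Agent.Helper8.AutSLnU
import Cfsg.Agent.Helper8.AutSLnP

set_option autoImplicit false

/-!
The automorphisms of `PSL_n(F)`, part V: the elements of prime order in the coset of a field or
graph-field automorphism.
-/

namespace Cfsg.Agent.Helper8.AutSLn

open Matrix

/-- a reduction along a conjugation by an arbitrary element normalising `H` -/
theorem conj_reduce {X : Type*} [Group X] (H : Subgroup X) [H.Normal] {r : ℕ} (α x δ x₀ : X)
    (hx₀ : α * x * α⁻¹ = x₀) (hδ : δ ∈ H)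
    (hmain : ∀ δ' ∈ H, orderOf (δ' * x₀) = r → ∃ h ∈ H, δ' * x₀ = h * x₀ * h⁻¹)
    (hord : orderOf (δ * x) = r) : Cfsg.IsConjUnder H x (δ * x) := by
  have h1 : α * δ * α⁻¹ ∈ H := Subgroup.Normal.conj_mem inferInstance δ hδ α
  have h2 : α * δ * α⁻¹ * x₀ = MulAut.conj α (δ * x) := by
    rw [MulAut.conj_apply, ← hx₀]
    group
  have h3 : orderOf (α * δ * α⁻¹ * x₀) = r := by
    rw [h2, MulEquiv.orderOf_eq, hord]
  obtain ⟨h, hh, e⟩ := hmain _ h1 h3
  refine ⟨α⁻¹ * h * α, ?_, ?_⟩
  · have := Subgroup.Normal.conj_mem inferInstance h hh α⁻¹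
    rwa [inv_inv] at this
  · have e1 : δ * x = α⁻¹ * (α * δ * α⁻¹ * x₀) * α := by
      rw [← hx₀]
      group
    rw [e1, e, ← hx₀]
    group

variable {F : Type*} [Field F] {n : ℕ}

theorem inndiagPSL_eq : Cfsg.inndiagPSL n F = diagSub n F := by
  have h1 : {β : MulAut (ProjectiveSpecialLinearGroup (Fin n) F) | Cfsg.IsInnerDiagonalAutPSL β} =
      (diagSub n F : Set (MulAut (ProjectiveSpecialLinearGroup (Fin n) F))) := by
    ext β
    constructor
    · intro h
      obtain ⟨g, hg⟩ := eq_pslConj_of_isInnerDiagonal h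
      exact ⟨g, hg.symm⟩
    · rintro ⟨g, rfl⟩
      exact isInnerDiagonal_pslConj g
  show Subgroup.closure _ = _
  rw [h1, Subgroup.closure_eq]

theorem pslField_injective {m : Type*} [Fintype m] [DecidableEq m] [Nontrivial m] :
    Function.Injective (pslField : (F ≃+* F) →* MulAut (ProjectiveSpecialLinearGroup m F)) := by
  rw [injective_iff_map_eq_one]
  intro σ h
  exact (eq_one_of_conj_field_eq_one (g := 1) (by rw [map_one, one_mul, h])).2

section main

variable [Fintype F] [Fact (2 ≤ n)]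

/-- the field-automorphism case -/
theorem coset_conj_field (σ : F ≃+* F) {r : ℕ} (hr : r.Prime)
    (hσ : orderOf (pslField σ : MulAut (ProjectiveSpecialLinearGroup (Fin n) F)) = r)
    (δ' : MulAut (ProjectiveSpecialLinearGroup (Fin n) F)) (hδ' : δ' ∈ diagSub n F)
    (hord : orderOf (δ' * pslField σ) = r) :
    ∃ h ∈ diagSub n F, δ' * pslField σ = h * pslField σ * h⁻¹ := by
  have : Nontrivial (Fin n) := Fin.nontrivial_iff_two_le.mpr Fact.out
  obtain ⟨g, rfl⟩ := hδ'
  rw [orderOf_injective _ pslField_injective] at hσ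
  have hσr : σ ^ r = 1 := by rw [← hσ, pow_orderOf_eq_one]
  have hinj : ∀ i j : Fin r, σ ^ (i : ℕ) = σ ^ (j : ℕ) → i = j := by
    intro i j e
    apply Fin.ext
    apply pow_injOn_Iio_orderOf (x := σ) _ _ e
    · rw [hσ]
      exact i.2
    · rw [hσ]
      exact j.2
  have hy : (pslConj g * pslField σ : MulAut (ProjectiveSpecialLinearGroup (Fin n) F)) ^ r = 1 := by
    rw [← hord, pow_orderOf_eq_one]
  obtain ⟨h, hh⟩ := field_case σ hr.pos hσr hinj g hy
  exact ⟨pslConj h, ⟨h, rfl⟩, hh⟩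

/-- the graph-field case -/
theorem coset_conj_graphField (h3 : 3 ≤ n) (σ : F ≃+* F) (hσ1 : σ ≠ 1) {r : ℕ} (hr : r.Prime)
    (hσ : orderOf (pslField σ * pslInvTr : MulAut (ProjectiveSpecialLinearGroup (Fin n) F)) = r)
    (δ' : MulAut (ProjectiveSpecialLinearGroup (Fin n) F)) (hδ' : δ' ∈ diagSub n F)
    (hord : orderOf (δ' * (pslField σ * pslInvTr)) = r) :
    ∃ h ∈ diagSub n F, δ' * (pslField σ * pslInvTr) = h * (pslField σ * pslInvTr) * h⁻¹ := by
  have : Nontrivial (Fin n) := Fin.nontrivial_iff_two_le.mpr Fact.out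
  obtain ⟨g, rfl⟩ := hδ'
  have hcomm : Commute (pslField σ : MulAut (ProjectiveSpecialLinearGroup (Fin n) F)) pslInvTr :=
    (pslInvTr_mul_pslField σ).symm
  have hpow : ∀ k : ℕ, (pslField σ * pslInvTr : MulAut (ProjectiveSpecialLinearGroup (Fin n) F)) ^ k
      = pslField (σ ^ k) * pslInvTr ^ k := by
    intro k
    rw [hcomm.mul_pow, map_pow]
  have hsq : (pslInvTr : MulAut (ProjectiveSpecialLinearGroup (Fin n) F)) ^ 2 = 1 := by
    rw [pow_two, pslInvTr_mul_self]
  -- `r = 2`
  have hr2 : r = 2 := by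
    rcases hr.eq_two_or_odd' with h | h
    · exact h
    · exfalso
      obtain ⟨k, hk⟩ := h
      have e1 := pow_orderOf_eq_one
        (pslField σ * pslInvTr : MulAut (ProjectiveSpecialLinearGroup (Fin n) F))
      rw [hσ, hpow, hk, pow_succ (pslInvTr), pow_mul, hsq, one_pow, one_mul] at e1
      apply pslInvTr_not_mem_stdSub (m := Fin n) (F := F) (by rw [Fintype.card_fin]; exact h3)
      refine ⟨1, (σ ^ (2 * k + 1))⁻¹, ?_⟩
      rw [map_one, one_mul, map_inv]
      exact eq_inv_of_mul_eq_one_right e1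
  subst hr2
  have hσ2 : σ * σ = 1 := by
    have e1 := pow_orderOf_eq_one
      (pslField σ * pslInvTr : MulAut (ProjectiveSpecialLinearGroup (Fin n) F))
    rw [hσ, hpow, hsq, mul_one] at e1
    rw [← pow_two]
    exact pslField_injective (e1.trans (map_one _).symm)
  have hy : (pslConj g * (pslField σ * pslInvTr)) * (pslConj g * (pslField σ * pslInvTr)) =
      (1 : MulAut (ProjectiveSpecialLinearGroup (Fin n) F)) := by
    rw [← pow_two, ← hord, pow_orderOf_eq_one]
  obtain ⟨h, hh⟩ := graphField_case σ hσ1 hσ2 g hy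
  exact ⟨pslConj h, ⟨h, rfl⟩, hh⟩

/-- **the elements of prime order in the coset of a field or graph-field automorphism** -/
theorem coset_conj_main (x δ : MulAut (ProjectiveSpecialLinearGroup (Fin n) F))
    (hx : Cfsg.IsFieldAutClassPSL x ∨ Cfsg.IsGraphFieldAutClassPSL x) {r : ℕ} (hr : r.Prime)
    (hxr : orderOf x = r) (hδ : δ ∈ Cfsg.inndiagPSL n F) :
    orderOf (δ * x) = r ↔ Cfsg.IsConjUnder (Cfsg.inndiagPSL n F) x (δ * x) := by
  constructor
  · intro hord
    rw [inndiagPSL_eq] at hδ ⊢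
    rcases hx with ⟨α, σ, hσ, hstd⟩ | ⟨h3, α, φ, γ, σ, hσ, hφ, hγ, e⟩
    · have e1 := eq_pslField_of_isStdField hstd
      refine conj_reduce (diagSub n F) α x δ _ e1 hδ ?_ hord
      intro δ' hδ' ho
      refine coset_conj_field σ hr ?_ δ' hδ' ho
      rw [← e1, ← hxr]
      exact MulEquiv.orderOf_eq (MulAut.conj α) x
    · have e1 := eq_pslField_of_isStdField hφ
      have e2 := eq_pslInvTr_of_isInverseTranspose hγ
      rw [e1, e2] at e
      refine conj_reduce (diagSub n F) α x δ _ e hδ ?_ hord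
      intro δ' hδ' ho
      refine coset_conj_graphField h3 σ hσ hr ?_ δ' hδ' ho
      rw [← e, ← hxr]
      exact MulEquiv.orderOf_eq (MulAut.conj α) x
  · rintro ⟨h, _, e⟩
    rw [e, ← hxr]
    exact MulEquiv.orderOf_eq (MulAut.conj h) x

end main

end Cfsg.Agent.Helper8.AutSLn
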