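import Mathlib
import Cfsg.Agent.Helper8.AutSLnV

set_option autoImplicit false

/-!
The automorphisms of `PSL_n(F)`, part W: the fixed field of a field automorphism and the centraliser of
the field automorphism of `PSL_n(F)` in the inner-diagonal group.
-/

namespace Cfsg.Agent.Helper8.AutSLn

open Matrix

variable {F : Type*} [Field F]

/-- the fixed field of a field automorphism -/
def fixField (σ : F ≃+* F) : Subfield F := (σ : F →+* F).eqLocusField (RingHom.id F)

theorem mem_fixField (σ : F ≃+* F) (a : F) : a ∈ fixField σ ↔ σ a = a := Iff.rfl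

/-- the order of the fixed field -/
theorem card_fixField [Fintype F] {p f : ℕ} [Fact p.Prime] (hF : Fintype.card F = p ^ f)
    (σ : F ≃+* F) {r : ℕ} (hr : 0 < r) (hσ : orderOf σ = r) :
    r ∣ f ∧ Nat.card (fixField σ) = p ^ (f / r) := by
  have : Finite (F ≃+* F) :=
    Finite.of_injective (fun e : F ≃+* F => (e : F → F)) DFunLike.coe_injective
  obtain ⟨G, hG⟩ : ∃ G : Subgroup (F ≃+* F), G = Subgroup.zpowers σ := ⟨_, rfl⟩
  have : Fintype G := Fintype.ofFinite _
  have h1 := FixedPoints.finrank_eq_card G F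
  have h2 : FixedPoints.subfield G F = fixField σ := by
    ext a
    rw [mem_fixField]
    constructor
    · intro h
      exact h ⟨σ, by rw [hG]; exact Subgroup.mem_zpowers σ⟩
    · intro h g
      obtain ⟨g, hg⟩ := g
      rw [hG] at hg
      obtain ⟨k, rfl⟩ := Subgroup.mem_zpowers_iff.mp hg
      show (σ ^ k) a = a
      have h3 : ∀ k : ℕ, (σ ^ k) a = a := by
        intro k
        induction k with
        | zero => rfl
        | succ k ih =>
          rw [pow_succ]
          show (σ ^ k) (σ a) = a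
          rw [h, ih]
      rcases Int.eq_nat_or_neg k with ⟨j, rfl | rfl⟩
      · rw [zpow_natCast]
        exact h3 j
      · rw [_root_.zpow_neg, zpow_natCast]
        show (σ ^ j).symm a = a
        rw [RingEquiv.symm_apply_eq, h3]
  have h4 : Fintype.card G = r := by
    rw [← Nat.card_eq_fintype_card, hG, Nat.card_zpowers, hσ]
  rw [h2, h4] at h1
  have : Fintype (fixField σ) := Fintype.ofFinite _
  have h5 := Module.card_eq_pow_finrank (K := fixField σ) (V := F)
  rw [h1, hF] at h5
  have : CharP F p := charP_of_card_eq_prime_pow hF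
  have : CharP (fixField σ) p := RingHom.charP (fixField σ).subtype (fixField σ).subtype.injective p
  obtain ⟨k, -, hk⟩ := FiniteField.card (fixField σ) p
  rw [hk, ← pow_mul] at h5
  have h6 : f = k * r := Nat.pow_right_injective (Fact.out : p.Prime).two_le h5
  refine ⟨⟨k, by rw [h6, mul_comm]⟩, ?_⟩
  rw [Nat.card_eq_fintype_card, hk, h6, Nat.mul_div_cancel _ hr]

/-- an embedding of a field of the right order onto the fixed field -/
theorem exists_embedding [Fintype F] {p f : ℕ} [Fact p.Prime] (hF : Fintype.card F = p ^ f)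
    (σ : F ≃+* F) {r : ℕ} (hr : 0 < r) (hσ : orderOf σ = r) (F₀ : Type*) [Field F₀] [Fintype F₀]
    (hF₀ : Fintype.card F₀ = p ^ (f / r)) :
    ∃ ι : F₀ →+* F, (∀ a, σ (ι a) = ι a) ∧ ∀ b, σ b = b → ∃ a, ι a = b := by
  have : Fintype (fixField σ) := Fintype.ofFinite _
  have h1 : Fintype.card F₀ = Fintype.card (fixField σ) := by
    rw [hF₀, ← Nat.card_eq_fintype_card, (card_fixField hF σ hr hσ).2]
  have e := FiniteField.ringEquivOfCardEq h1
  refine ⟨(fixField σ).subtype.comp (e : F₀ →+* fixField σ), ?_, ?_⟩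
  · intro a
    exact (e a).2
  · intro b hb
    refine ⟨e.symm ⟨b, hb⟩, ?_⟩
    show ((e (e.symm ⟨b, hb⟩) : fixField σ) : F) = b
    rw [RingEquiv.apply_symm_apply]

section GLpart

variable {m : Type*} [Fintype m] [DecidableEq m]

theorem gls_pow_of_gls_eq (σ : F ≃+* F) (g : GL m F) (c : Fˣ)
    (h : gls σ g = Matrix.GeneralLinearGroup.scalar m c * g) (k : ℕ) :
    gls (σ ^ k) g = Matrix.GeneralLinearGroup.scalar m (nrmF σ c k) * g := by
  induction k with
  | zero =>
    show gls (σ ^ 0) g = Matrix.GeneralLinearGroup.scalar m 1 * g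
    rw [map_one, one_mul, pow_zero]
    apply Units.ext
    ext i j
    rfl
  | succ k ih =>
    have h1 : gls (σ ^ (k + 1)) g = gls σ (gls (σ ^ k) g) := by
      apply Units.ext
      ext i j
      show (σ ^ (k + 1)) (g i j) = σ ((σ ^ k) (g i j))
      rw [pow_succ']
      rfl
    have h2 : nrmF σ c (k + 1) = c * unitsAut σ (nrmF σ c k) := rfl
    rw [h1, ih, map_mul, gls_scalar, h, h2, map_mul, ← mul_assoc]
    congr 1
    rw [← map_mul, ← map_mul, mul_comm]

/-- an inner-diagonal automorphism commutes with the field automorphism iff it comes from a matrix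
fixed by the field automorphism -/
theorem commute_pslField_iff [Nontrivial m] (σ : F ≃+* F) {r : ℕ} (hr : 0 < r) (hσr : σ ^ r = 1)
    (hσ : ∀ i j : Fin r, σ ^ (i : ℕ) = σ ^ (j : ℕ) → i = j) (g : GL m F) :
    ((pslField σ * pslConj g : MulAut (ProjectiveSpecialLinearGroup m F)) =
      pslConj g * pslField σ) ↔
      ∃ ν : Fˣ, gls σ (Matrix.GeneralLinearGroup.scalar m ν * g) =
        Matrix.GeneralLinearGroup.scalar m ν * g := by
  constructor
  · intro h
    rw [pslField_mul_pslConj, mul_left_inj] at h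
    have h1 : gls σ g * g⁻¹ ∈
        (pslConj : GL m F →* MulAut (ProjectiveSpecialLinearGroup m F)).ker := by
      rw [MonoidHom.mem_ker, map_mul, map_inv, h, mul_inv_cancel]
    rw [ker_pslConj, Matrix.GeneralLinearGroup.center_eq_range_scalar] at h1
    obtain ⟨c, hc⟩ := h1
    have h2 : gls σ g = Matrix.GeneralLinearGroup.scalar m c * g := by
      rw [hc, inv_mul_cancel_right]
    have h3 := gls_pow_of_gls_eq σ g c h2 r
    have h4 : gls (σ ^ r) g = g := by
      rw [hσr]
      apply Units.ext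
      ext i j
      rfl
    rw [h4] at h3
    have h5 : nrmF σ c r = 1 := by
      apply scalar_injective (m := m)
      rw [map_one]
      exact (mul_right_cancel (h3.symm.trans (one_mul g).symm))
    obtain ⟨ν, hν⟩ := hilbert90_units σ hr hσr hσ c h5
    refine ⟨ν, ?_⟩
    rw [map_mul, gls_scalar, h2, ← mul_assoc, ← map_mul, hν, mul_comm ν, mul_inv_cancel_left]
  · rintro ⟨ν, hν⟩
    rw [← pslConj_scalar_mul ν g, pslField_mul_pslConj, hν]

end GLpart

section iso

variable {F₀ : Type*} [Field F₀] {m : Type*} [Fintype m] [DecidableEq m]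

/-- the matrices over a subfield, acting on `PSL` -/
noncomputable def subfieldHom (ι : F₀ →+* F) :
    GL m F₀ →* MulAut (ProjectiveSpecialLinearGroup m F) :=
  pslConj.comp (Matrix.GeneralLinearGroup.map ι)

theorem subfieldHom_apply (ι : F₀ →+* F) (g : GL m F₀) :
    subfieldHom ι g = (pslConj (Matrix.GeneralLinearGroup.map ι g) :
      MulAut (ProjectiveSpecialLinearGroup m F)) := rfl

theorem ker_subfieldHom [Nontrivial m] (ι : F₀ →+* F) :
    (subfieldHom (m := m) ι).ker = Subgroup.center (GL m F₀) := by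
  ext g
  rw [MonoidHom.mem_ker, subfieldHom_apply, ← MonoidHom.mem_ker, ker_pslConj]
  constructor
  · intro h
    rw [Matrix.GeneralLinearGroup.mem_center_iff_val_mem_range_scalar] at h ⊢
    obtain ⟨c, hc⟩ := h
    obtain ⟨i₀⟩ := (inferInstance : Nonempty m)
    refine ⟨(g : Matrix m m F₀) i₀ i₀, ?_⟩
    ext i j
    have h1 : ∀ i j, ι ((g : Matrix m m F₀) i j) = (Matrix.scalar m c) i j := by
      intro i j
      rw [hc]
      rfl
    rw [Matrix.scalar_apply, Matrix.diagonal_apply]
    by_cases hij : i = j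
    · subst hij
      rw [if_pos rfl]
      apply ι.injective
      rw [h1, h1, Matrix.scalar_apply, Matrix.diagonal_apply_eq, Matrix.diagonal_apply_eq]
    · rw [if_neg hij]
      apply ι.injective
      rw [h1, Matrix.scalar_apply, Matrix.diagonal_apply_ne _ hij, map_zero]
  · intro h
    exact Matrix.GeneralLinearGroup.map_center_le ι h

theorem exists_map_eq (σ : F ≃+* F) (ι : F₀ →+* F) (hι2 : ∀ b, σ b = b → ∃ a, ι a = b)
    (g : GL m F) (hg : gls σ g = g) :
    ∃ g₀ : GL m F₀, Matrix.GeneralLinearGroup.map ι g₀ = g := by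
  have h1 : ∀ (g : GL m F), gls σ g = g → ∃ A₀ : Matrix m m F₀, A₀.map ι = (g : Matrix m m F) := by
    intro g hg
    have h2 : ∀ i j, ∃ a, ι a = (g : Matrix m m F) i j := by
      intro i j
      apply hι2
      have := congrArg (fun x : GL m F => (x : Matrix m m F) i j) hg
      exact this
    choose A₀ hA₀ using h2
    exact ⟨Matrix.of A₀, by ext i j; exact hA₀ i j⟩
  obtain ⟨A₀, hA₀⟩ := h1 g hg
  obtain ⟨B₀, hB₀⟩ := h1 g⁻¹ (by rw [map_inv, hg])
  have hinj : Function.Injective (fun M : Matrix m m F₀ => M.map ι) :=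
    Matrix.map_injective ι.injective
  have hmul : ∀ A B : Matrix m m F₀, (A * B).map ι = A.map ι * B.map ι := fun A B =>
    Matrix.map_mul
  have hone : (1 : Matrix m m F₀).map ι = 1 := Matrix.map_one _ (map_zero ι) (map_one ι)
  refine ⟨⟨A₀, B₀, ?_, ?_⟩, ?_⟩
  · apply hinj
    show (A₀ * B₀).map ι = (1 : Matrix m m F₀).map ι
    rw [hmul, hA₀, hB₀, hone, ← Units.val_mul, mul_inv_cancel, Units.val_one]
  · apply hinj
    show (B₀ * A₀).map ι = (1 : Matrix m m F₀).map ι
    rw [hmul, hA₀, hB₀, hone, ← Units.val_mul, inv_mul_cancel, Units.val_one]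
  · apply Units.ext
    exact hA₀

theorem range_subfieldHom [Nontrivial m] (σ : F ≃+* F) {r : ℕ} (hr : 0 < r) (hσr : σ ^ r = 1)
    (hσ : ∀ i j : Fin r, σ ^ (i : ℕ) = σ ^ (j : ℕ) → i = j) (ι : F₀ →+* F)
    (hι1 : ∀ a, σ (ι a) = ι a) (hι2 : ∀ b, σ b = b → ∃ a, ι a = b) :
    (subfieldHom (m := m) ι).range =
      (pslConj : GL m F →* MulAut (ProjectiveSpecialLinearGroup m F)).range ⊓
        Subgroup.centralizer {pslField σ} := by
  ext β
  constructor
  · rintro ⟨g₀, rfl⟩
    refine ⟨⟨_, rfl⟩, ?_⟩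
    apply Subgroup.mem_centralizer_iff.mpr
    intro y hy
    rw [Set.mem_singleton_iff] at hy
    subst hy
    rw [subfieldHom_apply, commute_pslField_iff σ hr hσr hσ]
    refine ⟨1, ?_⟩
    rw [map_one, one_mul]
    apply Units.ext
    ext i j
    exact hι1 _
  · rintro ⟨⟨g, rfl⟩, h2⟩
    replace h2 := Subgroup.mem_centralizer_iff.mp h2
    obtain ⟨ν, hν⟩ := (commute_pslField_iff σ hr hσr hσ g).mp (h2 _ rfl)
    obtain ⟨g₀, hg₀⟩ := exists_map_eq σ ι hι2 _ hν
    refine ⟨g₀, ?_⟩
    rw [subfieldHom_apply, hg₀, pslConj_scalar_mul]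

/-- **the centraliser of the field automorphism in the inner-diagonal group** -/
theorem nonempty_centralizer_equiv_PGL [Nontrivial m] (σ : F ≃+* F) {r : ℕ} (hr : 0 < r)
    (hσr : σ ^ r = 1) (hσ : ∀ i j : Fin r, σ ^ (i : ℕ) = σ ^ (j : ℕ) → i = j) (ι : F₀ →+* F)
    (hι1 : ∀ a, σ (ι a) = ι a) (hι2 : ∀ b, σ b = b → ∃ a, ι a = b) :
    Nonempty (↥((pslConj : GL m F →* MulAut (ProjectiveSpecialLinearGroup m F)).range ⊓
        Subgroup.centralizer {pslField σ}) ≃* Matrix.ProjGenLinGroup m F₀) := by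
  have e1 := QuotientGroup.quotientKerEquivRange (subfieldHom (m := m) ι)
  have e2 := QuotientGroup.quotientMulEquivOfEq (ker_subfieldHom (m := m) ι)
  have e3 := MulEquiv.subgroupCongr (range_subfieldHom (m := m) σ hr hσr hσ ι hι1 hι2)
  exact ⟨(e3.symm.trans e1.symm).trans e2⟩

end iso

end Cfsg.Agent.Helper8.AutSLn
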