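import Mathlib
import Cfsg.Agent.Helper8.DkOrd

set_option autoImplicit false

/-!
The orders of the proper subgroups of `PSL₂(F)`.
-/

namespace Cfsg.Agent.Helper8.Dk

open Matrix Cfsg.Agent.Helper7.SL2 Cfsg.Agent.Helper8.SL2C Subgroup
open scoped Matrix

theorem card_A4 : Nat.card (alternatingGroup (Fin 4)) = 12 := by
  have := two_mul_card_alternatingGroup (α := Fin 4)
  rw [Fintype.card_perm, Fintype.card_fin] at this
  rw [Nat.card_eq_fintype_card]
  have h : Nat.factorial 4 = 24 := rfl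
  omega

theorem card_S4 : Nat.card (Equiv.Perm (Fin 4)) = 24 := by
  rw [Nat.card_eq_fintype_card, Fintype.card_perm, Fintype.card_fin]
  rfl

theorem card_A5 : Nat.card (alternatingGroup (Fin 5)) = 60 := by
  have := two_mul_card_alternatingGroup (α := Fin 5)
  rw [Fintype.card_perm, Fintype.card_fin] at this
  rw [Nat.card_eq_fintype_card]
  have h : Nat.factorial 5 = 120 := rfl
  omega

variable {F : Type*} [Field F] [Fintype F]

theorem card_center_le_two : Nat.card (center (SpecialLinearGroup (Fin 2) F)) ≤ 2 := by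
  rw [card_center_SL2]
  exact Nat.le_of_dvd (by norm_num) (Nat.gcd_dvd_left 2 _)

/-- the order of `PSL₂(F)`, with the order of the centre -/
theorem card_center_mul_card_PSL2 :
    Nat.card (center (SpecialLinearGroup (Fin 2) F)) *
      Nat.card (ProjectiveSpecialLinearGroup (Fin 2) F) =
        Fintype.card F * (Fintype.card F ^ 2 - 1) := by
  rw [card_center_SL2]
  exact Cfsg.Agent.Lead.PSL2Sub.card_mul rfl

theorem sq_sub_one_eq (q : ℕ) (hq : 1 ≤ q) : q ^ 2 - 1 = (q - 1) * (q + 1) := by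
  obtain ⟨j, rfl⟩ : ∃ j, q = j + 1 := ⟨q - 1, by omega⟩
  rw [Nat.add_sub_cancel]
  apply Nat.sub_eq_of_eq_add; ring

/-- a proper subgroup of `PSL₂(q)`, `q ∉ {2, 3, 5, 7, 9, 11}`, has order at most `q(q-1)/d` -/
theorem card_mul_le_of_ne_top (p : ℕ) [Fact p.Prime] [CharP F p]
    (hq : Fintype.card F ∉ ({2, 3, 5, 7, 9, 11} : Finset ℕ))
    (H : Subgroup (ProjectiveSpecialLinearGroup (Fin 2) F)) (hH : H ≠ ⊤) :
    Nat.card (center (SpecialLinearGroup (Fin 2) F)) * Nat.card H ≤
      Fintype.card F * (Fintype.card F - 1) := by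
  obtain ⟨q, hqF⟩ : ∃ q, q = Fintype.card F := ⟨_, rfl⟩
  obtain ⟨d, hd⟩ : ∃ d, d = Nat.card (center (SpecialLinearGroup (Fin 2) F)) := ⟨_, rfl⟩
  have hdgcd : d = Nat.gcd 2 (q - 1) := by rw [hd, hqF]; exact card_center_SL2
  have hd2 : d ≤ 2 := hd ▸ card_center_le_two
  have hd1 : 1 ≤ d := hd ▸ Nat.card_pos
  have hG := card_center_mul_card_PSL2 (F := F)
  rw [← hqF, ← hd] at hG ⊢
  rw [← hqF] at hq
  have hq2 : 2 ≤ q := hqF ▸ Fintype.one_lt_card
  have hpp : IsPrimePow q := hqF ▸ FiniteField.isPrimePow_card F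
  -- the possible values of `q`
  have hq4 : 4 ≤ q := by
    simp only [Finset.mem_insert, Finset.mem_singleton, not_or] at hq
    omega
  have hq13 : q = 4 ∨ q = 8 ∨ 13 ≤ q := by
    simp only [Finset.mem_insert, Finset.mem_singleton, not_or] at hq
    have h6 : q ≠ 6 := by
      rintro rfl
      obtain ⟨r, -, hr⟩ := isPrimePow_iff_unique_prime_dvd.mp hpp
      have h2 := hr 2 ⟨Nat.prime_two, by norm_num⟩
      have h3 := hr 3 ⟨Nat.prime_three, by norm_num⟩
      omega
    have h10 : q ≠ 10 := by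
      rintro rfl
      obtain ⟨r, -, hr⟩ := isPrimePow_iff_unique_prime_dvd.mp hpp
      have h2 := hr 2 ⟨Nat.prime_two, by norm_num⟩
      have h3 := hr 5 ⟨Nat.prime_five, by norm_num⟩
      omega
    have h12 : q ≠ 12 := by
      rintro rfl
      obtain ⟨r, -, hr⟩ := isPrimePow_iff_unique_prime_dvd.mp hpp
      have h2 := hr 2 ⟨Nat.prime_two, by norm_num⟩
      have h3 := hr 3 ⟨Nat.prime_three, by norm_num⟩
      omega
    omega
  have hHdvd : Nat.card H ∣ Nat.card (ProjectiveSpecialLinearGroup (Fin 2) F) :=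
    Subgroup.card_subgroup_dvd_card H
  have hHne : Nat.card H ≠ Nat.card (ProjectiveSpecialLinearGroup (Fin 2) F) :=
    fun h => hH (Subgroup.eq_top_of_card_eq H h)
  have hbig : ∀ n : ℕ, n ≤ 60 → 13 ≤ q → d * n ≤ q * (q - 1) := by
    intro n hn h13
    have h1 : d * n ≤ 2 * 60 := Nat.mul_le_mul hd2 hn
    have h2 : 13 * 12 ≤ q * (q - 1) := Nat.mul_le_mul h13 (by omega)
    omega
  have hd48 : q = 4 ∨ q = 8 → d = 1 := by
    rintro (rfl | rfl) <;> rw [hdgcd] <;> rfl
  rcases dickson_first p H with h | ⟨M, hM, -, hHM⟩ | ⟨⟨e⟩⟩ | ⟨⟨e⟩⟩ | ⟨⟨e⟩⟩ |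
    ⟨M, hM, a, k, ha, hQ, hN, hcard, hk⟩
  · rw [h, mul_one]
    have : 4 * 3 ≤ q * (q - 1) := Nat.mul_le_mul hq4 (by omega)
    omega
  · have hle : Nat.card H ∣
        Nat.card (normalizer (M : Set (ProjectiveSpecialLinearGroup (Fin 2) F))) :=
      Subgroup.card_dvd_of_le hHM
    rcases mem_GM_iff.mp hM with hU | hT
    · have h1 := card_normalizer_GU hU
      rw [← hqF, ← hd] at h1
      rw [← h1]
      exact Nat.mul_le_mul_left _ (Nat.le_of_dvd Nat.card_pos hle)
    · have h1 := card_normalizer_GT_dvd hT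
      have h2 : Nat.card H ≤ 2 * Nat.card M :=
        Nat.le_of_dvd (Nat.mul_pos (by norm_num) Nat.card_pos) (hle.trans h1)
      have h3 : d * Nat.card M ≤ q + 1 := by
        rcases card_mul_mem_GT hT with h | h <;> rw [← hqF, ← hd] at h <;> omega
      have h4 : d * Nat.card H ≤ 2 * (q + 1) := by
        calc d * Nat.card H ≤ d * (2 * Nat.card M) := Nat.mul_le_mul_left _ h2
          _ = 2 * (d * Nat.card M) := by ring
          _ ≤ 2 * (q + 1) := Nat.mul_le_mul_left _ h3
      have h5 : 2 * (q + 1) ≤ q * (q - 1) := by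
        obtain ⟨j, rfl⟩ : ∃ j, q = j + 4 := ⟨q - 4, by omega⟩
        have : j + 4 - 1 = j + 3 := by omega
        rw [this]; nlinarith
      omega
  · have hc : Nat.card H = 12 := by rw [Nat.card_congr e.toEquiv, card_A4]
    rw [hc]
    rcases hq13 with h | h | h
    · rw [hd48 (Or.inl h), h]
    · rw [hd48 (Or.inr h), h]; norm_num
    · exact hbig 12 (by norm_num) h
  · have hc : Nat.card H = 24 := by rw [Nat.card_congr e.toEquiv, card_S4]
    rw [hc]
    rcases hq13 with h | h | h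
    · exfalso
      rw [hd48 (Or.inl h), h, one_mul] at hG
      rw [hc] at hHdvd
      have : Nat.card (ProjectiveSpecialLinearGroup (Fin 2) F) = 60 := by rw [hG]; norm_num
      rw [this] at hHdvd
      norm_num at hHdvd
    · rw [hd48 (Or.inr h), h]; norm_num
    · exact hbig 24 (by norm_num) h
  · have hc : Nat.card H = 60 := by rw [Nat.card_congr e.toEquiv, card_A5]
    rw [hc]
    rcases hq13 with h | h | h
    · exfalso
      rw [hd48 (Or.inl h), h, one_mul] at hG
      apply hHne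
      rw [hc, hG]; norm_num
    · exfalso
      rw [hd48 (Or.inr h), h, one_mul] at hG
      rw [hc] at hHdvd
      have : Nat.card (ProjectiveSpecialLinearGroup (Fin 2) F) = 504 := by rw [hG]; norm_num
      rw [this] at hHdvd
      norm_num at hHdvd
    · exact hbig 60 (by norm_num) h
  · obtain ⟨K, _, _, m, hm, hiso⟩ := out_generic p H hM ha hQ hN hcard hk
    rw [← hqF] at hm
    obtain ⟨r, hr⟩ : ∃ r, r = Fintype.card K := ⟨_, rfl⟩
    rw [← hr] at hm
    have hr2 : 2 ≤ r := hr ▸ Fintype.one_lt_card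
    have hcardH : Nat.card H ≤ r * (r ^ 2 - 1) ∧
        (Nat.card H = r * (r ^ 2 - 1) ∨ Nat.gcd 2 (r - 1) * Nat.card H = r * (r ^ 2 - 1)) := by
      rcases hiso with ⟨⟨e⟩⟩ | ⟨⟨e⟩⟩
      · have h1 := Cfsg.Agent.Lead.PSL2Sub.card_mul (F := K) rfl
        rw [← hr, ← Nat.card_congr e.toEquiv] at h1
        refine ⟨?_, Or.inr h1⟩
        rw [← h1]
        exact Nat.le_mul_of_pos_left _ (Nat.gcd_pos_of_pos_left _ (by norm_num))
      · have h1 := Cfsg.Agent.Lead.PSL2Sub.card_PGL2 (K := K)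
        rw [← hr, ← Nat.card_congr e.toEquiv] at h1
        exact ⟨h1.le, Or.inl h1⟩
    by_cases hm1 : m ≤ 1
    · exfalso
      interval_cases m
      · rw [pow_zero] at hm; omega
      · rw [pow_one] at hm
        subst hm
        rcases hcardH.2 with h | h
        · -- PGL₂(F) is too big
          have h1 : Nat.card H ≤ Nat.card (ProjectiveSpecialLinearGroup (Fin 2) F) :=
            Nat.le_of_dvd Nat.card_pos hHdvd
          have h2 : d * Nat.card (ProjectiveSpecialLinearGroup (Fin 2) F) = Nat.card H := by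
            rw [hG, h]
          have h3 : Nat.card (ProjectiveSpecialLinearGroup (Fin 2) F) ≤
              d * Nat.card (ProjectiveSpecialLinearGroup (Fin 2) F) :=
            Nat.le_mul_of_pos_left _ hd1
          exact hHne (by omega)
        · rw [← hdgcd, ← hG] at h
          exact hHne (Nat.eq_of_mul_eq_mul_left hd1 h)
    · have hm2 : 2 ≤ m := by omega
      have hrq : r ^ 2 ≤ q := by
        rw [← hm]
        exact Nat.pow_le_pow_right (by omega) hm2
      have h1 : d * Nat.card H ≤ 2 * (r * (r ^ 2 - 1)) := Nat.mul_le_mul hd2 hcardH.1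
      have h2 : 2 * (r * (r ^ 2 - 1)) ≤ r ^ 2 * (r ^ 2 - 1) := by
        have : 2 * r ≤ r ^ 2 := by nlinarith
        calc 2 * (r * (r ^ 2 - 1)) = (2 * r) * (r ^ 2 - 1) := by ring
          _ ≤ r ^ 2 * (r ^ 2 - 1) := Nat.mul_le_mul_right _ this
      have h3 : r ^ 2 * (r ^ 2 - 1) ≤ q * (q - 1) :=
        Nat.mul_le_mul hrq (Nat.sub_le_sub_right hrq 1)
      omega

end Cfsg.Agent.Helper8.Dk
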