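import Mathlib
import Cfsg.Agent.Helper4.ItoTwoA
import Cfsg.Agent.Helper4.ItoTwoAvg

set_option autoImplicit false

/-!
Groups with two `p`-regular class sizes: generic group-theoretic lemmas (no hypothesis on class
sizes).
-/

namespace Cfsg.Agent.Helper8.PReg

open Subgroup

variable {G : Type*} [Group G]

/-- membership in the centralizer of a conjugate -/
theorem mem_centralizer_conj_iff (g x c : G) :
    c ∈ centralizer ({g * x * g⁻¹} : Set G) ↔ g⁻¹ * c * g ∈ centralizer ({x} : Set G) := by
  rw [mem_centralizer_singleton_iff, mem_centralizer_singleton_iff]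
  constructor
  · intro h
    calc g⁻¹ * c * g * x = g⁻¹ * (c * (g * x * g⁻¹)) * g := by group
      _ = g⁻¹ * ((g * x * g⁻¹) * c) * g := by rw [h]
      _ = x * (g⁻¹ * c * g) := by group
  · intro h
    calc c * (g * x * g⁻¹) = g * ((g⁻¹ * c * g) * x) * g⁻¹ := by group
      _ = g * (x * (g⁻¹ * c * g)) * g⁻¹ := by rw [h]
      _ = g * x * g⁻¹ * c := by group

/-- the centralizer of a conjugate is the image under conjugation -/
theorem centralizer_conj_eq_map (g x : G) :
    centralizer ({g * x * g⁻¹} : Set G) =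
      (centralizer ({x} : Set G)).map (MulAut.conj g).toMonoidHom := by
  ext c
  rw [mem_centralizer_conj_iff, Subgroup.mem_map]
  constructor
  · intro h
    refine ⟨g⁻¹ * c * g, h, ?_⟩
    simp only [MulEquiv.coe_toMonoidHom, MulAut.conj_apply]
    group
  · rintro ⟨d, hd, rfl⟩
    simp only [MulEquiv.coe_toMonoidHom, MulAut.conj_apply]
    have : g⁻¹ * (g * d * g⁻¹) * g = d := by group
    rw [this]
    exact hd

theorem index_centralizer_conj (g x : G) :
    (centralizer ({g * x * g⁻¹} : Set G)).index = (centralizer ({x} : Set G)).index := by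
  rw [centralizer_conj_eq_map]
  exact Subgroup.index_map_equiv _ (MulAut.conj g)

theorem conj_mem_center_iff (g x : G) : g * x * g⁻¹ ∈ center G ↔ x ∈ center G := by
  constructor
  · intro h
    have h1 : g * x * g⁻¹ = x := by
      have := (mem_center_iff.mp h) g
      -- g * (g x g⁻¹) = (g x g⁻¹) * g
      calc g * x * g⁻¹ = g⁻¹ * (g * (g * x * g⁻¹)) := by group
        _ = g⁻¹ * ((g * x * g⁻¹) * g) := by rw [this]
        _ = x := by group
    rw [h1] at h
    exact h
  · intro h
    have h1 : g * x * g⁻¹ = x := by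
      have := (mem_center_iff.mp h) g
      rw [this]; group
    rw [h1]
    exact h

theorem orderOf_conj (g x : G) : orderOf (g * x * g⁻¹) = orderOf x := by
  have := (MulAut.conj g).orderOf_eq x
  simpa [MulAut.conj_apply] using this

/-- if the commutator of `a` and `b` is central and their orders are coprime, they commute -/
theorem commute_of_comm_central_of_coprime {a b : G}
    (hz : a * b * a⁻¹ * b⁻¹ ∈ center G) (hcop : (orderOf a).Coprime (orderOf b)) :
    a * b = b * a := by
  set z := a * b * a⁻¹ * b⁻¹ with hzdef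
  have hzc : ∀ g : G, Commute g z := fun g => (mem_center_iff.mp hz) g
  have hab : a * b * a⁻¹ = z * b := by rw [hzdef]; group
  -- powers of `b`
  have h1 : ∀ n : ℕ, a * b ^ n * a⁻¹ = z ^ n * b ^ n := by
    intro n
    induction n with
    | zero => simp
    | succ n ih =>
      calc a * b ^ (n + 1) * a⁻¹ = (a * b ^ n * a⁻¹) * (a * b * a⁻¹) := by rw [pow_succ]; group
        _ = (z ^ n * b ^ n) * (z * b) := by rw [ih, hab]
        _ = z ^ n * (b ^ n * z) * b := by group
        _ = z ^ n * (z * b ^ n) * b := by rw [((hzc b).pow_left n).eq]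
        _ = z ^ (n + 1) * b ^ (n + 1) := by rw [pow_succ, pow_succ]; group
  have hzb : z ^ orderOf b = 1 := by
    have := h1 (orderOf b)
    rw [pow_orderOf_eq_one, mul_one, mul_one, mul_inv_cancel] at this
    exact this.symm
  -- powers of `a`
  have h2 : ∀ n : ℕ, a ^ n * b * (a ^ n)⁻¹ = z ^ n * b := by
    intro n
    induction n with
    | zero => simp
    | succ n ih =>
      calc a ^ (n + 1) * b * (a ^ (n + 1))⁻¹ = a * (a ^ n * b * (a ^ n)⁻¹) * a⁻¹ := by
            rw [pow_succ']; group
        _ = a * (z ^ n * b) * a⁻¹ := by rw [ih]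
        _ = (a * z ^ n) * b * a⁻¹ := by group
        _ = (z ^ n * a) * b * a⁻¹ := by rw [((hzc a).pow_right n).eq]
        _ = z ^ n * (a * b * a⁻¹) := by group
        _ = z ^ n * (z * b) := by rw [hab]
        _ = z ^ (n + 1) * b := by rw [pow_succ]; group
  have hza : z ^ orderOf a = 1 := by
    have := h2 (orderOf a)
    rw [pow_orderOf_eq_one, inv_one, mul_one, one_mul] at this
    -- b = z ^ _ * b
    have h3 : z ^ orderOf a * b = 1 * b := by rw [one_mul]; exact this.symm
    exact mul_right_cancel h3
  have hz1 : orderOf z = 1 :=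
    Nat.eq_one_of_dvd_coprimes hcop (orderOf_dvd_of_pow_eq_one hza) (orderOf_dvd_of_pow_eq_one hzb)
  have hz1' : z = 1 := orderOf_eq_one_iff.mp hz1
  have : a * b * a⁻¹ = b := by rw [hab, hz1', one_mul]
  calc a * b = (a * b * a⁻¹) * a := by group
    _ = b * a := by rw [this]

/-- an element of `s`-power order lies in a Sylow `s`-subgroup -/
theorem exists_sylow_mem [Finite G] (s : ℕ) [Fact s.Prime] (x : G) (k : ℕ)
    (hx : orderOf x = s ^ k) : ∃ S : Sylow s G, x ∈ (S : Subgroup G) := by
  have hP : IsPGroup s (zpowers x) := by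
    apply IsPGroup.of_card (n := k)
    rw [Nat.card_zpowers, hx]
  obtain ⟨S, hS⟩ := hP.exists_le_sylow
  exact ⟨S, hS (mem_zpowers x)⟩

/-- order of an element of an `s`-subgroup -/
theorem exists_orderOf_of_isPGroup (s : ℕ) [Fact s.Prime] (S : Subgroup G) (hS : IsPGroup s S)
    {x : G} (hx : x ∈ S) : ∃ k : ℕ, orderOf x = s ^ k := by
  obtain ⟨k, hk⟩ := IsPGroup.iff_orderOf.mp hS ⟨x, hx⟩
  refine ⟨k, ?_⟩
  rw [← hk]
  exact (Subgroup.orderOf_mk x hx).symm

/-- comparing `q`-parts of centralizer orders: if `C(x)` and `C(y)` have the same index, `y` is a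
noncentral `q`-element, then `C(x)` contains a noncentral `q`-element. -/
theorem exists_noncentral_of_index_eq [Finite G] (q : ℕ) [hq : Fact q.Prime] {x y : G}
    (hidx : (centralizer ({x} : Set G)).index = (centralizer ({y} : Set G)).index)
    (hyc : y ∉ center G) (ky : ℕ) (hyk : orderOf y = q ^ ky) :
    ∃ t ∈ centralizer ({x} : Set G), (∃ j : ℕ, orderOf t = q ^ j) ∧ t ∉ center G := by
  classical
  by_contra hcon
  have hxq : ∀ t ∈ centralizer ({x} : Set G), (∃ j : ℕ, orderOf t = q ^ j) → t ∈ center G := by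
    intro t ht hj
    by_contra htc
    exact hcon ⟨t, ht, hj, htc⟩
  have hcardx := (centralizer ({x} : Set G)).card_mul_index
  have hcardy := (centralizer ({y} : Set G)).card_mul_index
  rw [hidx] at hcardx
  have hn0 : 0 < (centralizer ({y} : Set G)).index := Nat.pos_of_ne_zero index_ne_zero_of_finite
  have hcard : Nat.card (centralizer ({x} : Set G)) = Nat.card (centralizer ({y} : Set G)) :=
    Nat.eq_of_mul_eq_mul_right hn0 (hcardx.trans hcardy.symm)
  -- Claim A
  have hA : q ^ (Nat.card (centralizer ({x} : Set G))).factorization q ∣ Nat.card (center G) := by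
    let T : Sylow q ↥(centralizer ({x} : Set G)) := default
    have hT : (T : Subgroup ↥(centralizer ({x} : Set G))).map (centralizer ({x} : Set G)).subtype ≤
        center G := by
      rintro _ ⟨t, ht, rfl⟩
      apply hxq _ t.2
      obtain ⟨j, hj⟩ := T.isPGroup' ⟨t, ht⟩
      have hj' : (t : G) ^ q ^ j = 1 := by
        have := congrArg Subtype.val (congrArg Subtype.val hj)
        simpa using this
      obtain ⟨i, -, hi⟩ := (Nat.dvd_prime_pow hq.out).1 (orderOf_dvd_of_pow_eq_one hj')
      exact ⟨i, hi⟩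
    have h1 := Subgroup.card_dvd_of_le hT
    rwa [Subgroup.card_map_of_injective (Subgroup.subtype_injective _), T.card_eq_multiplicity] at h1
  -- Claim B
  have hB : ∃ t : ℕ, Nat.card (centralizer ({y} : Set G)) = t * Nat.card (center G) ∧ q ∣ t := by
    have hZle : center G ≤ centralizer ({y} : Set G) := center_le_centralizer _
    refine ⟨Nat.card (↥(centralizer ({y} : Set G)) ⧸ (center G).subgroupOf (centralizer ({y} : Set G))), ?_, ?_⟩
    · rw [Subgroup.card_eq_card_quotient_mul_card_subgroup
        ((center G).subgroupOf (centralizer ({y} : Set G)))]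
      congr 1
      exact Nat.card_congr (Subgroup.subgroupOfEquivOfLe hZle).toEquiv
    · have hymem : y ∈ centralizer ({y} : Set G) := by
        rw [mem_centralizer_singleton_iff]
      set yb : ↥(centralizer ({y} : Set G)) ⧸ (center G).subgroupOf (centralizer ({y} : Set G)) :=
        QuotientGroup.mk ⟨y, hymem⟩ with hyb
      have hyb1 : yb ≠ 1 := by
        intro h1
        rw [hyb, QuotientGroup.eq_one_iff, mem_subgroupOf] at h1
        exact hyc h1
      have hybpow : yb ^ q ^ ky = 1 := by
        rw [hyb, ← QuotientGroup.mk_pow]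
        have : (⟨y, hymem⟩ : ↥(centralizer ({y} : Set G))) ^ q ^ ky = 1 := by
          apply Subtype.ext
          simp only [SubmonoidClass.mk_pow, OneMemClass.coe_one]
          rw [← hyk]; exact pow_orderOf_eq_one y
        rw [this]; rfl
      obtain ⟨j, -, hj⟩ := (Nat.dvd_prime_pow hq.out).1 (orderOf_dvd_of_pow_eq_one hybpow)
      have hj0 : j ≠ 0 := by
        rintro rfl
        rw [pow_zero, orderOf_eq_one_iff] at hj
        exact hyb1 hj
      have : q ∣ orderOf yb := hj ▸ dvd_pow_self q hj0
      exact this.trans (orderOf_dvd_natCard yb)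
  obtain ⟨t, ht, hqt⟩ := hB
  have hm0 : Nat.card (centralizer ({x} : Set G)) ≠ 0 := Nat.card_pos.ne'
  apply Nat.pow_succ_factorization_not_dvd hm0 hq.out
  have hmt : t * Nat.card (center G) = Nat.card (centralizer ({x} : Set G)) := by
    rw [hcard, ht]
  rw [pow_succ, mul_comm]
  calc q * q ^ (Nat.card (centralizer ({x} : Set G))).factorization q
      ∣ t * Nat.card (center G) := mul_dvd_mul hqt hA
    _ = Nat.card (centralizer ({x} : Set G)) := hmt

/-- a "b-element": in an `s`-subgroup not contained in the centre there is a noncentral element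
whose `s`-th power is central and whose commutators with the subgroup are central. -/
theorem exists_bElement [Finite G] (s : ℕ) [hs : Fact s.Prime] (S : Subgroup G) (hS : IsPGroup s S)
    (hSZ : ¬ S ≤ center G) :
    ∃ w ∈ S, w ∉ center G ∧ w ^ s ∈ center G ∧ ∀ g ∈ S, g * w * g⁻¹ * w⁻¹ ∈ center G := by
  classical
  set f : G →* G ⧸ center G := QuotientGroup.mk' (center G) with hf
  have hker : ∀ x : G, f x = 1 ↔ x ∈ center G := fun x => QuotientGroup.eq_one_iff x
  set Sb : Subgroup (G ⧸ center G) := S.map f with hSb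
  have hSbP : IsPGroup s Sb := hS.map f
  obtain ⟨x0, hx0S, hx0Z⟩ := SetLike.not_le_iff_exists.mp hSZ
  have hnt : Nontrivial ↥Sb := by
    refine ⟨⟨⟨f x0, Subgroup.mem_map_of_mem f hx0S⟩, 1, ?_⟩⟩
    intro h
    have := congrArg Subtype.val h
    simp only [OneMemClass.coe_one] at this
    exact hx0Z ((hker x0).mp this)
  have hcnt : Nontrivial ↥(center ↥Sb) := hSbP.center_nontrivial
  have hcP : IsPGroup s ↥(center ↥Sb) := hSbP.to_subgroup _
  have hdvd : s ∣ Nat.card ↥(center ↥Sb) := by
    obtain ⟨k, hk⟩ := hcP.exists_card_eq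
    rcases Nat.eq_zero_or_pos k with h0 | h0
    · rw [h0, pow_zero] at hk
      have := (Nat.card_eq_one_iff_unique.mp hk).1
      exact absurd hcnt (not_nontrivial _)
    · rw [hk]; exact dvd_pow_self s h0.ne'
  obtain ⟨zb, hzb⟩ := exists_prime_orderOf_dvd_card' s hdvd
  -- unfold
  have hzbS : ((zb : ↥Sb) : G ⧸ center G) ∈ Sb := (zb : ↥Sb).2
  obtain ⟨w, hwS, hw⟩ := Subgroup.mem_map.mp hzbS
  have hord : orderOf ((zb : ↥Sb) : G ⧸ center G) = s := by
    rw [Subgroup.orderOf_coe, Subgroup.orderOf_coe, hzb]
  refine ⟨w, hwS, ?_, ?_, ?_⟩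
  · intro hwZ
    have h1 : f w = 1 := (hker w).mpr hwZ
    rw [hw] at h1
    rw [h1, orderOf_one] at hord
    exact hs.out.one_lt.ne hord
  · rw [← hker, map_pow, hw, ← hord]
    exact pow_orderOf_eq_one _
  · intro g hg
    rw [← hker]
    have hcomm : (⟨f g, Subgroup.mem_map_of_mem f hg⟩ : ↥Sb) * (zb : ↥Sb) =
        (zb : ↥Sb) * ⟨f g, Subgroup.mem_map_of_mem f hg⟩ :=
      (mem_center_iff.mp zb.2) _
    have hcomm' : f g * f w = f w * f g := by
      have := congrArg Subtype.val hcomm
      simp only [Subgroup.coe_mul] at this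
      rw [hw]
      exact this
    rw [map_mul, map_mul, map_mul, map_inv, map_inv, hcomm']
    group

end Cfsg.Agent.Helper8.PReg
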