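import Mathlib
import Cfsg.Agent.Helper8.PRegA

set_option autoImplicit false
set_option linter.unusedSectionVars false

/-!
Groups with two `p`-regular class sizes `1` and `m`: basic lemmas.
-/

namespace Cfsg.Agent.Helper8.PReg

open Subgroup
open Cfsg.Agent.Helper4

variable {G : Type*} [Group G]

/-- the `p`-regular elements of the centre of `C`, as a subgroup of `G` -/
def Breg (p : ℕ) (C : Subgroup G) : Subgroup G where
  carrier := {b | b ∈ C ∧ (∀ c ∈ C, c * b = b * c) ∧ (orderOf b).Coprime p}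
  one_mem' := ⟨one_mem _, fun c _ => by rw [mul_one, one_mul], by rw [orderOf_one]; exact Nat.coprime_one_left p⟩
  mul_mem' := by
    rintro a b ⟨haC, hac, hap⟩ ⟨hbC, hbc, hbp⟩
    refine ⟨mul_mem haC hbC, ?_, ?_⟩
    · intro c hc
      rw [← mul_assoc, hac c hc, mul_assoc, hbc c hc, mul_assoc]
    · have hab : Commute a b := (hbc a haC)
      have h1 := hab.orderOf_mul_dvd_lcm
      exact Nat.Coprime.coprime_dvd_left (h1.trans (Nat.lcm_dvd_mul _ _)) (Nat.Coprime.mul_left hap hbp)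
  inv_mem' := by
    rintro a ⟨haC, hac, hap⟩
    refine ⟨inv_mem haC, ?_, ?_⟩
    · intro c hc
      have := hac c hc
      calc c * a⁻¹ = a⁻¹ * (a * c) * a⁻¹ := by group
        _ = a⁻¹ * (c * a) * a⁻¹ := by rw [this]
        _ = a⁻¹ * c := by group
    · rw [orderOf_inv]; exact hap

theorem mem_Breg {p : ℕ} {C : Subgroup G} {b : G} :
    b ∈ Breg p C ↔ b ∈ C ∧ (∀ c ∈ C, c * b = b * c) ∧ (orderOf b).Coprime p := Iff.rfl

theorem Breg_le {p : ℕ} (C : Subgroup G) : Breg p C ≤ C := fun _ hb => hb.1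

theorem Breg_comm {p : ℕ} {C : Subgroup G} {a b : G} (ha : a ∈ Breg p C) (hb : b ∈ Breg p C) :
    a * b = b * a := hb.2.1 a ha.1

/-- conjugation by an element normalizing `C` preserves `Breg p C` -/
theorem conj_mem_Breg {p : ℕ} {C : Subgroup G} {g b : G} (hg : g ∈ normalizer C)
    (hb : b ∈ Breg p C) : g * b * g⁻¹ ∈ Breg p C := by
  obtain ⟨hbC, hbc, hbp⟩ := hb
  refine ⟨(mem_normalizer_iff.mp hg b).mp hbC, ?_, ?_⟩
  · intro c hc
    have hc' : g⁻¹ * c * g ∈ C := by
      have := (mem_normalizer_iff.mp (inv_mem hg) c).mp hc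
      simpa using this
    have := hbc _ hc'
    calc c * (g * b * g⁻¹) = g * ((g⁻¹ * c * g) * b) * g⁻¹ := by group
      _ = g * (b * (g⁻¹ * c * g)) * g⁻¹ := by rw [this]
      _ = g * b * g⁻¹ * c := by group
  · rw [orderOf_conj]; exact hbp

variable [Finite G] {p m : ℕ} [hp : Fact p.Prime]
  (h : ∀ x : G, (orderOf x).Coprime p →
    (centralizer ({x} : Set G)).index = 1 ∨ (centralizer ({x} : Set G)).index = m)

include h

omit [Finite G] hp in
theorem idx_of_nc {x : G} (hx : x ∉ center G) (hxp : (orderOf x).Coprime p) :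
    (centralizer ({x} : Set G)).index = m := by
  rcases h x hxp with h1 | h1
  · exact absurd ((ItoTwo.index_eq_one_iff x).mp h1) hx
  · exact h1

theorem m_ne_zero {x : G} (hx : x ∉ center G) (hxp : (orderOf x).Coprime p) : m ≠ 0 := by
  rw [← idx_of_nc h hx hxp]
  exact index_ne_zero_of_finite

/-- (F1) -/
theorem cent_eq_of_le {x y : G} (hx : x ∉ center G) (hxp : (orderOf x).Coprime p)
    (hy : y ∉ center G) (hyp : (orderOf y).Coprime p)
    (hle : centralizer ({x} : Set G) ≤ centralizer ({y} : Set G)) :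
    centralizer ({x} : Set G) = centralizer ({y} : Set G) := by
  apply le_antisymm hle
  have h1 := relIndex_mul_index hle
  rw [idx_of_nc h hx hxp, idx_of_nc h hy hyp] at h1
  have hn0 : m ≠ 0 := m_ne_zero h hx hxp
  have h2 : (centralizer ({x} : Set G)).relIndex (centralizer ({y} : Set G)) = 1 := by
    have : (centralizer ({x} : Set G)).relIndex (centralizer ({y} : Set G)) * m = 1 * m := by
      rw [h1, one_mul]
    exact Nat.eq_of_mul_eq_mul_right (Nat.pos_of_ne_zero hn0) this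
  exact relIndex_eq_one.mp h2

/-- (B2): a noncentral `p`-regular element has a noncentral power of prime power order with the
same centralizer. -/
theorem exists_primary : ∀ (N : ℕ) (g : G), orderOf g = N → g ∉ center G →
    (orderOf g).Coprime p →
    ∃ ℓ : ℕ, ℓ.Prime ∧ ∃ g' ∈ zpowers g, (∃ k : ℕ, orderOf g' = ℓ ^ k) ∧ g' ∉ center G ∧
      (orderOf g').Coprime p ∧ centralizer ({g'} : Set G) = centralizer ({g} : Set G) := by
  intro N
  induction N using Nat.strong_induction_on with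
  | _ N ih =>
    intro g hN hg hgp
    have hg1 : orderOf g ≠ 1 := by
      intro h1
      rw [orderOf_eq_one_iff] at h1
      exact hg (h1 ▸ one_mem _)
    obtain ⟨ℓ, hℓ, hℓd⟩ := Nat.exists_prime_and_dvd hg1
    obtain ⟨a, b, ha, hb, ⟨k, hk⟩, hbℓ, hab⟩ := ItoTwo.exists_parts ℓ hℓ g
    have hap : (orderOf a).Coprime p :=
      Nat.Coprime.coprime_dvd_left (orderOf_dvd_of_mem_zpowers ha) hgp
    have hbp : (orderOf b).Coprime p :=
      Nat.Coprime.coprime_dvd_left (orderOf_dvd_of_mem_zpowers hb) hgp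
    by_cases hac : a ∈ center G
    · have hbc : b ∉ center G := by
        intro hbc
        apply hg
        rw [← hab]
        exact mul_mem hac hbc
      have hlt : orderOf b < N := by
        rw [← hN]
        have h1 : orderOf b ∣ orderOf g := orderOf_dvd_of_mem_zpowers hb
        have h2 : orderOf b ≠ orderOf g := by
          intro h2
          exact hbℓ (h2 ▸ hℓd)
        exact lt_of_le_of_ne (Nat.le_of_dvd (orderOf_pos g) h1) h2
      obtain ⟨ℓ', hℓ', g', hg', hk', hg'c, hg'p, hC⟩ := ih _ hlt b rfl hbc hbp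
      refine ⟨ℓ', hℓ', g', ?_, hk', hg'c, hg'p, ?_⟩
      · exact (zpowers_le.mpr hb) hg'
      · rw [hC]
        exact (cent_eq_of_le h hg hgp hbc hbp (ItoTwo.centralizer_le_of_mem_zpowers hb)).symm
    · refine ⟨ℓ, hℓ, a, ha, ⟨k, hk⟩, hac, hap, ?_⟩
      exact (cent_eq_of_le h hg hgp hac hap (ItoTwo.centralizer_le_of_mem_zpowers ha)).symm

/-- (L2): for a noncentral `s`-element `x` (`s ≠ p`), the `p`-regular `s'`-elements of `C(x)` are
central in `C(x)`. -/
theorem cent_le_of_coprime (s : ℕ) [Fact s.Prime] {x y : G} (hx : x ∉ center G)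
    (hxp : (orderOf x).Coprime p) (k : ℕ)
    (hxs : orderOf x = s ^ k) (hy : y ∈ centralizer ({x} : Set G)) (hys : ¬ s ∣ orderOf y)
    (hyp : (orderOf y).Coprime p) :
    centralizer ({x} : Set G) ≤ centralizer ({y} : Set G) := by
  rw [mem_centralizer_singleton_iff] at hy
  have hxy : x * y = y * x := hy.symm
  have hC := MaxPPartIndex.centralizer_mul_of_coprime s x y k hxs hys hxy
  have hxyp : (orderOf (x * y)).Coprime p := by
    have h1 := (show Commute x y from hxy).orderOf_mul_dvd_lcm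
    exact Nat.Coprime.coprime_dvd_left (h1.trans (Nat.lcm_dvd_mul _ _)) (Nat.Coprime.mul_left hxp hyp)
  have hxyc : x * y ∉ center G := by
    intro hc
    apply hx
    rw [← ItoTwo.index_eq_one_iff] at hc ⊢
    rw [index_eq_one] at hc ⊢
    rw [hC] at hc
    exact eq_top_iff.mpr (hc ▸ inf_le_left)
  have hle : centralizer ({x * y} : Set G) ≤ centralizer ({x} : Set G) := hC ▸ inf_le_left
  have heq := cent_eq_of_le h hxyc hxyp hx hxp hle
  rw [← heq, hC]
  exact inf_le_right

/-- (A4): every centralizer of a noncentral `p`-regular element contains noncentral `s`-elements,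
for every prime `s` such that noncentral `s`-elements exist. -/
theorem exists_nc_in_cent (s : ℕ) [Fact s.Prime] (hsp : s ≠ p) {x y : G} (hx : x ∉ center G)
    (hxp : (orderOf x).Coprime p) (hy : y ∉ center G) (k : ℕ) (hys : orderOf y = s ^ k) :
    ∃ t ∈ centralizer ({x} : Set G), (∃ j : ℕ, orderOf t = s ^ j) ∧ t ∉ center G := by
  have hs : s.Prime := Fact.out
  have hyp : (orderOf y).Coprime p := by
    rw [hys]
    exact Nat.Coprime.pow_left _ ((Nat.coprime_primes hs hp.out).mpr hsp)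
  have hidx : (centralizer ({x} : Set G)).index = (centralizer ({y} : Set G)).index := by
    rw [idx_of_nc h hx hxp, idx_of_nc h hy hyp]
  exact exists_noncentral_of_index_eq s hidx hy k hys

omit h in
omit [Finite G] hp in
/-- `s` is a prime different from `p` such that `G` has a noncentral `s`-element -/
def NcPrime (G : Type*) [Group G] (p s : ℕ) : Prop :=
  s.Prime ∧ s ≠ p ∧ ∃ y : G, y ∉ center G ∧ ∃ k : ℕ, orderOf y = s ^ k

omit h in
omit [Finite G] hp in
/-- there are two such primes -/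
def HasTwo (G : Type*) [Group G] (p : ℕ) : Prop :=
  ∃ s₁ s₂ : ℕ, s₁ ≠ s₂ ∧ NcPrime G p s₁ ∧ NcPrime G p s₂

omit h in
omit [Finite G] hp in
theorem HasTwo.exists_ne (h2 : HasTwo G p) (ℓ : ℕ) : ∃ r, r ≠ ℓ ∧ NcPrime G p r := by
  obtain ⟨s₁, s₂, h12, h1, h2⟩ := h2
  by_cases h : s₁ = ℓ
  · exact ⟨s₂, fun h' => h12 (h.trans h'.symm), h2⟩
  · exact ⟨s₁, h, h1⟩

omit h in
omit [Finite G] in
theorem coprime_of_prime_pow {s k : ℕ} (hs : s.Prime) (hsp : s ≠ p) {y : G}
    (hy : orderOf y = s ^ k) : (orderOf y).Coprime p := by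
  rw [hy]
  exact Nat.Coprime.pow_left _ ((Nat.coprime_primes hs hp.out).mpr hsp)

omit h in
omit [Finite G] hp in
theorem not_dvd_of_prime_pow {s r k : ℕ} (hs : s.Prime) (hr : r.Prime) (hsr : r ≠ s) {y : G}
    (hy : orderOf y = s ^ k) : ¬ r ∣ orderOf y := by
  rw [hy]
  intro hd
  have := hr.dvd_of_dvd_pow hd
  exact hsr ((Nat.prime_dvd_prime_iff_eq hr hs).mp this)

theorem exists_nc_of_ncPrime {s : ℕ} (hs : NcPrime G p s) {x : G} (hx : x ∉ center G)
    (hxp : (orderOf x).Coprime p) :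
    ∃ t ∈ centralizer ({x} : Set G), (∃ j : ℕ, orderOf t = s ^ j) ∧ t ∉ center G := by
  obtain ⟨hsP, hsp, y, hy, k, hk⟩ := hs
  have : Fact s.Prime := ⟨hsP⟩
  exact exists_nc_in_cent h s hsp hx hxp hy k hk

/-- (T-ab): `p`-regular elements of `C(x)` are central in `C(x)`. -/
theorem reg_central_in_cent (h2 : HasTwo G p) {x : G} (hx : x ∉ center G)
    (hxp : (orderOf x).Coprime p) {g : G} (hg : g ∈ centralizer ({x} : Set G))
    (hgp : (orderOf g).Coprime p) : ∀ c ∈ centralizer ({x} : Set G), c * g = g * c := by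
  obtain ⟨ℓ, hℓ, x', -, ⟨k, hk⟩, hx'c, hx'p, hC⟩ := exists_primary h _ x rfl hx hxp
  rw [← hC] at hg ⊢
  have : Fact ℓ.Prime := ⟨hℓ⟩
  obtain ⟨r, hrℓ, hr⟩ := h2.exists_ne ℓ
  have hrP : r.Prime := hr.1
  have : Fact r.Prime := ⟨hrP⟩
  obtain ⟨y, hyC, ⟨j, hj⟩, hyc⟩ := exists_nc_of_ncPrime h hr hx'c hx'p
  have hyℓ : ¬ ℓ ∣ orderOf y := not_dvd_of_prime_pow hrP hℓ (Ne.symm hrℓ) hj
  have hyp : (orderOf y).Coprime p := coprime_of_prime_pow hrP hr.2.1 hj
  have hle := cent_le_of_coprime h ℓ hx'c hx'p k hk hyC hyℓ hyp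
  have heq := cent_eq_of_le h hx'c hx'p hyc hyp hle
  obtain ⟨g₁, g₂, hg₁, hg₂, ⟨i, hi⟩, hg₂ℓ, hg12⟩ := ItoTwo.exists_parts ℓ hℓ g
  have hzle : zpowers g ≤ centralizer ({x'} : Set G) := zpowers_le.mpr hg
  have hg₁p : (orderOf g₁).Coprime p :=
    Nat.Coprime.coprime_dvd_left (orderOf_dvd_of_mem_zpowers hg₁) hgp
  have hg₂p : (orderOf g₂).Coprime p :=
    Nat.Coprime.coprime_dvd_left (orderOf_dvd_of_mem_zpowers hg₂) hgp
  have h1 := cent_le_of_coprime h ℓ hx'c hx'p k hk (hzle hg₂) hg₂ℓ hg₂p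
  have hg₁r : ¬ r ∣ orderOf g₁ := not_dvd_of_prime_pow hℓ hrP hrℓ hi
  have h3 := cent_le_of_coprime h r hyc hyp j hj (heq ▸ hzle hg₁) hg₁r hg₁p
  intro c hc
  have hc1 : c * g₁ = g₁ * c := mem_centralizer_singleton_iff.mp (h3 (heq ▸ hc))
  have hc2 : c * g₂ = g₂ * c := mem_centralizer_singleton_iff.mp (h1 hc)
  rw [← hg12, ← mul_assoc, hc1, mul_assoc, hc2, mul_assoc]

theorem mem_Breg_of_reg (h2 : HasTwo G p) {x : G} (hx : x ∉ center G)
    (hxp : (orderOf x).Coprime p) {g : G} (hg : g ∈ centralizer ({x} : Set G))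
    (hgp : (orderOf g).Coprime p) : g ∈ Breg p (centralizer ({x} : Set G)) :=
  ⟨hg, reg_central_in_cent h h2 hx hxp hg hgp, hgp⟩

theorem self_mem_Breg (h2 : HasTwo G p) {x : G} (hx : x ∉ center G)
    (hxp : (orderOf x).Coprime p) : x ∈ Breg p (centralizer ({x} : Set G)) :=
  mem_Breg_of_reg h h2 hx hxp (mem_centralizer_singleton_iff.mpr rfl) hxp

theorem cent_eq_of_mem_Breg {x : G} (hx : x ∉ center G)
    (hxp : (orderOf x).Coprime p) {b : G} (hb : b ∈ Breg p (centralizer ({x} : Set G)))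
    (hbc : b ∉ center G) : centralizer ({b} : Set G) = centralizer ({x} : Set G) := by
  have hle : centralizer ({x} : Set G) ≤ centralizer ({b} : Set G) := by
    intro c hc
    exact mem_centralizer_singleton_iff.mpr (hb.2.1 c hc)
  exact (cent_eq_of_le h hx hxp hbc hb.2.2 hle).symm

/-- an element commuting with a noncentral element of `Breg (C(x))` lies in `C(x)` -/
theorem mem_cent_of_commute_Breg {x : G} (hx : x ∉ center G)
    (hxp : (orderOf x).Coprime p) {b g : G} (hb : b ∈ Breg p (centralizer ({x} : Set G)))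
    (hbc : b ∉ center G) (hgb : g * b = b * g) : g ∈ centralizer ({x} : Set G) := by
  rw [← cent_eq_of_mem_Breg h hx hxp hb hbc]
  exact mem_centralizer_singleton_iff.mpr hgb

/-- a noncentral `p`-regular element `y` of `C(x)` has `C(y) = C(x)` -/
theorem cent_eq_of_mem_cent (h2 : HasTwo G p) {x y : G} (hx : x ∉ center G)
    (hxp : (orderOf x).Coprime p) (hy : y ∈ centralizer ({x} : Set G)) (hyc : y ∉ center G)
    (hyp : (orderOf y).Coprime p) : centralizer ({y} : Set G) = centralizer ({x} : Set G) :=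
  cent_eq_of_mem_Breg h hx hxp (mem_Breg_of_reg h h2 hx hxp hy hyp) hyc

end Cfsg.Agent.Helper8.PReg
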