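import Mathlib
import Cfsg.Agent.Helper8.PRegB

set_option autoImplicit false
set_option linter.unusedSectionVars false

/-!
Groups with two `p`-regular class sizes `1` and `m`: for a prime `s ≠ p`, `s ^ 2` does not
divide `m`.
-/

namespace Cfsg.Agent.Helper8.PReg

open Subgroup
open Cfsg.Agent.Helper4

variable {G : Type*} [Group G]

theorem centralizer_central_mul {z w : G} (hz : z ∈ center G) :
    centralizer ({z * w} : Set G) = centralizer ({w} : Set G) := by
  ext c
  rw [mem_centralizer_singleton_iff, mem_centralizer_singleton_iff]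
  have hzc : c * z = z * c := (mem_center_iff.mp hz) c
  constructor
  · intro h1
    have h2 : z * (c * w) = z * (w * c) := by
      calc z * (c * w) = c * z * w := by rw [hzc, mul_assoc]
        _ = c * (z * w) := by rw [mul_assoc]
        _ = z * w * c := h1
        _ = z * (w * c) := by rw [mul_assoc]
    exact mul_left_cancel h2
  · intro h1
    calc c * (z * w) = c * z * w := by rw [mul_assoc]
      _ = z * (c * w) := by rw [hzc, mul_assoc]
      _ = z * (w * c) := by rw [h1]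
      _ = z * w * c := by rw [mul_assoc]

theorem mem_normalizer_cent_of_comm_central {g w : G} (hz : g * w * g⁻¹ * w⁻¹ ∈ center G) :
    g ∈ normalizer (centralizer ({w} : Set G)) := by
  rw [mem_normalizer_iff]
  intro c
  have h1 : g * w * g⁻¹ = (g * w * g⁻¹ * w⁻¹) * w := by group
  have h2 : centralizer ({g * w * g⁻¹} : Set G) = centralizer ({w} : Set G) := by
    rw [h1]; exact centralizer_central_mul hz
  constructor
  · intro hc
    have : g * c * g⁻¹ ∈ centralizer ({g * w * g⁻¹} : Set G) := by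
      rw [mem_centralizer_conj_iff]
      have e : g⁻¹ * (g * c * g⁻¹) * g = c := by group
      rw [e]; exact hc
    rwa [h2] at this
  · intro hc
    rw [← h2, mem_centralizer_conj_iff] at hc
    have e : g⁻¹ * (g * c * g⁻¹) * g = c := by group
    rwa [e] at hc

/-- the commutator homomorphism `g ↦ g w g⁻¹ w⁻¹` on a subgroup whose commutators with `w` are
central -/
def commHom (S : Subgroup G) (w : G) (hw : ∀ g ∈ S, g * w * g⁻¹ * w⁻¹ ∈ center G) : ↥S →* G where
  toFun g := (g : G) * w * (g : G)⁻¹ * w⁻¹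
  map_one' := by simp
  map_mul' := by
    intro a b
    have hb := hw b b.2
    have hcomm : ∀ g : G, g * ((b : G) * w * (b : G)⁻¹ * w⁻¹) = ((b : G) * w * (b : G)⁻¹ * w⁻¹) * g :=
      fun g => (mem_center_iff.mp hb) g
    rw [Subgroup.coe_mul]
    calc (a : G) * b * w * ((a : G) * b)⁻¹ * w⁻¹
        = (a : G) * ((b : G) * w * (b : G)⁻¹ * w⁻¹) * (w * (a : G)⁻¹ * w⁻¹) := by group
      _ = ((b : G) * w * (b : G)⁻¹ * w⁻¹) * (a : G) * (w * (a : G)⁻¹ * w⁻¹) := by rw [hcomm]
      _ = ((b : G) * w * (b : G)⁻¹ * w⁻¹) * ((a : G) * w * (a : G)⁻¹ * w⁻¹) := by group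
      _ = ((a : G) * w * (a : G)⁻¹ * w⁻¹) * ((b : G) * w * (b : G)⁻¹ * w⁻¹) := (hcomm _).symm

theorem commHom_apply (S : Subgroup G) (w : G) (hw : ∀ g ∈ S, g * w * g⁻¹ * w⁻¹ ∈ center G)
    (g : ↥S) : commHom S w hw g = (g : G) * w * (g : G)⁻¹ * w⁻¹ := rfl

theorem commHom_eq_one_iff (S : Subgroup G) (w : G) (hw : ∀ g ∈ S, g * w * g⁻¹ * w⁻¹ ∈ center G)
    (g : ↥S) : commHom S w hw g = 1 ↔ (g : G) ∈ centralizer ({w} : Set G) := by
  rw [commHom_apply, mem_centralizer_singleton_iff]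
  constructor
  · intro h1
    calc (g : G) * w = ((g : G) * w * (g : G)⁻¹ * w⁻¹) * w * g := by group
      _ = w * g := by rw [h1, one_mul]
  · intro h1
    calc (g : G) * w * (g : G)⁻¹ * w⁻¹ = ((g : G) * w) * (g : G)⁻¹ * w⁻¹ := by group
      _ = (w * g) * (g : G)⁻¹ * w⁻¹ := by rw [h1]
      _ = 1 := by group

/-- if `w ^ s` is central, the commutator hom has exponent `s` -/
theorem commHom_pow (S : Subgroup G) (w : G) (hw : ∀ g ∈ S, g * w * g⁻¹ * w⁻¹ ∈ center G)
    (s : ℕ) (hws : w ^ s ∈ center G) (g : ↥S) : (commHom S w hw g) ^ s = 1 := by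
  set z := commHom S w hw g with hz
  have hzc : ∀ x : G, Commute x z := fun x => (mem_center_iff.mp (hw g g.2)) x
  have hgw : (g : G) * w * (g : G)⁻¹ = z * w := by rw [hz, commHom_apply]; group
  have h1 : ∀ n : ℕ, (g : G) * w ^ n * (g : G)⁻¹ = z ^ n * w ^ n := by
    intro n
    induction n with
    | zero => simp
    | succ n ih =>
      calc (g : G) * w ^ (n + 1) * (g : G)⁻¹
          = ((g : G) * w ^ n * (g : G)⁻¹) * ((g : G) * w * (g : G)⁻¹) := by rw [pow_succ]; group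
        _ = (z ^ n * w ^ n) * (z * w) := by rw [ih, hgw]
        _ = z ^ n * (w ^ n * z) * w := by group
        _ = z ^ n * (z * w ^ n) * w := by rw [((hzc w).pow_left n).eq]
        _ = z ^ (n + 1) * w ^ (n + 1) := by rw [pow_succ, pow_succ]; group
  have h2 := h1 s
  have h3 : (g : G) * w ^ s * (g : G)⁻¹ = w ^ s := by
    have := (mem_center_iff.mp hws) (g : G)
    rw [this]; group
  rw [h3] at h2
  have h4 : 1 * w ^ s = z ^ s * w ^ s := by rw [one_mul]; exact h2
  exact (mul_right_cancel h4).symm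

/-- two independent elements in a subgroup of exponent `s` with more than `s` elements -/
theorem exists_indep (s : ℕ) (hs : s.Prime) (R : Subgroup G) [Finite R]
    (hRs : ∀ z ∈ R, z ^ s = 1) (hcard : s < Nat.card R) :
    ∃ z₁ ∈ R, ∃ z₂ ∈ R, ∀ i j : ℕ, z₁ ^ i * z₂ ^ j = 1 → s ∣ i ∧ s ∣ j := by
  classical
  have hnt : Nontrivial ↥R := by
    rw [← Finite.one_lt_card_iff_nontrivial]
    exact lt_trans hs.one_lt hcard
  obtain ⟨⟨z₁, hz₁R⟩, hz₁⟩ := exists_ne (1 : ↥R)
  have hz₁1 : z₁ ≠ 1 := fun h => hz₁ (Subtype.ext h)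
  have ho₁ : orderOf z₁ = s := by
    have h1 : orderOf z₁ ∣ s := orderOf_dvd_of_pow_eq_one (hRs z₁ hz₁R)
    rcases (Nat.dvd_prime hs).mp h1 with h2 | h2
    · exact absurd (orderOf_eq_one_iff.mp h2) hz₁1
    · exact h2
  have hle : zpowers z₁ ≤ R := zpowers_le.mpr hz₁R
  have hlt : zpowers z₁ < R := by
    apply lt_of_le_of_ne hle
    intro heq
    have : Nat.card (zpowers z₁) = Nat.card R := by rw [heq]
    rw [Nat.card_zpowers, ho₁] at this
    omega
  obtain ⟨z₂, hz₂R, hz₂⟩ := SetLike.exists_of_lt hlt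
  refine ⟨z₁, hz₁R, z₂, hz₂R, ?_⟩
  intro i j hij
  have hz₂j : z₂ ^ j = (z₁ ^ i)⁻¹ := eq_inv_of_mul_eq_one_right hij
  have hj : s ∣ j := by
    by_contra hsj
    apply hz₂
    have hcop : Nat.Coprime j s := (Nat.Coprime.symm ((Nat.Prime.coprime_iff_not_dvd hs).mpr hsj))
    obtain ⟨m', -, hm'⟩ := Nat.exists_mul_mod_eq_one_of_coprime hcop hs.one_lt
    have h1 : z₂ = (z₂ ^ j) ^ m' := by
      rw [← pow_mul, pow_eq_pow_mod (j * m') (hRs z₂ hz₂R), hm', pow_one]
    rw [h1, hz₂j]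
    exact pow_mem (inv_mem (pow_mem (mem_zpowers z₁) i)) m'
  refine ⟨?_, hj⟩
  obtain ⟨t, rfl⟩ := hj
  rw [pow_mul, hRs z₂ hz₂R, one_pow, mul_one] at hij
  rw [← ho₁]
  exact orderOf_dvd_of_pow_eq_one hij

variable [Finite G] {p m : ℕ} [hp : Fact p.Prime]
  (h : ∀ x : G, (orderOf x).Coprime p →
    (centralizer ({x} : Set G)).index = 1 ∨ (centralizer ({x} : Set G)).index = m)

include h

theorem HasTwo.exists_nc (h2 : HasTwo G p) :
    ∃ x : G, x ∉ center G ∧ (orderOf x).Coprime p := by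
  obtain ⟨s₁, -, -, ⟨hs, hsp, y, hy, k, hk⟩, -⟩ := h2
  exact ⟨y, hy, coprime_of_prime_pow hs hsp hk⟩

/-- A Sylow `s`-subgroup is not central when `s ∣ m`. -/
theorem sylow_not_le_center (h2 : HasTwo G p) {s : ℕ} [Fact s.Prime] (hsm : s ∣ m)
    (S : Sylow s G) : ¬ (S : Subgroup G) ≤ center G := by
  intro hle
  obtain ⟨x₀, hx₀, hx₀p⟩ := HasTwo.exists_nc h h2
  have h1 : (S : Subgroup G) ≤ centralizer ({x₀} : Set G) := hle.trans (center_le_centralizer _)
  have h3 := index_dvd_of_le h1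
  rw [idx_of_nc h hx₀ hx₀p] at h3
  exact S.not_dvd_index (hsm.trans h3)

/-- (B): `s ^ 2` does not divide `m` for a prime `s ≠ p`. -/
theorem not_sq_dvd (h2 : HasTwo G p) {s : ℕ} (hs : s.Prime) (hsp : s ≠ p) : ¬ s ^ 2 ∣ m := by
  classical
  intro hsq
  have : Fact s.Prime := ⟨hs⟩
  have hsm : s ∣ m := dvd_trans (dvd_pow_self s two_ne_zero) hsq
  let S : Sylow s G := default
  have hSZ := sylow_not_le_center h h2 hsm S
  obtain ⟨w, hwS, hwZ, hws, hwc⟩ := exists_bElement s (S : Subgroup G) S.isPGroup' hSZ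
  obtain ⟨kw, hkw⟩ := exists_orderOf_of_isPGroup s (S : Subgroup G) S.isPGroup' hwS
  have hwp : (orderOf w).Coprime p := coprime_of_prime_pow hs hsp hkw
  set C := centralizer ({w} : Set G) with hC
  have hidx : C.index = m := idx_of_nc h hwZ hwp
  have hm0 : m ≠ 0 := m_ne_zero h hwZ hwp
  have hSN : (S : Subgroup G) ≤ normalizer (C : Set G) :=
    fun g hg => mem_normalizer_cent_of_comm_central (hwc g hg)
  set κ := commHom (S : Subgroup G) w hwc with hκ
  have hker : κ.ker = C.subgroupOf (S : Subgroup G) := by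
    ext g
    rw [MonoidHom.mem_ker, hκ, commHom_eq_one_iff, mem_subgroupOf]
  have hcardR : Nat.card κ.range = (C.subgroupOf (S : Subgroup G)).index := by
    rw [← Subgroup.index_ker, hker]
  -- the cardinality computation
  have hlt : s < Nat.card κ.range := by
    rw [hcardR]
    have hP : IsPGroup s ↥(C.subgroupOf (S : Subgroup G)) := S.isPGroup'.to_subgroup _
    obtain ⟨a, ha⟩ := hP.exists_card_eq
    have h1 : ((C.subgroupOf (S : Subgroup G)).map (S : Subgroup G).subtype) ≤ C := by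
      rintro _ ⟨g, hg, rfl⟩
      exact hg
    have h2' := Subgroup.card_dvd_of_le h1
    rw [Subgroup.card_map_of_injective (Subgroup.subtype_injective _), ha] at h2'
    have hC0 : Nat.card C ≠ 0 := Nat.card_pos.ne'
    have ha' : a ≤ (Nat.card C).factorization s :=
      (hs.pow_dvd_iff_le_factorization hC0).mp h2'
    have hm2 : 2 ≤ m.factorization s := (hs.pow_dvd_iff_le_factorization hm0).mp hsq
    have hG : Nat.card G = Nat.card C * m := by rw [← hidx]; exact (C.card_mul_index).symm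
    have hvG : (Nat.card G).factorization s = (Nat.card C).factorization s + m.factorization s := by
      rw [hG, Nat.factorization_mul hC0 hm0]; rfl
    have hcS : Nat.card (S : Subgroup G) = s ^ (Nat.card G).factorization s := S.card_eq_multiplicity
    have hmul := (C.subgroupOf (S : Subgroup G)).card_mul_index
    rw [ha, hcS, hvG] at hmul
    set e := (Nat.card C).factorization s + m.factorization s - a with he
    have hea : (Nat.card C).factorization s + m.factorization s = a + e := by omega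
    rw [hea, pow_add] at hmul
    have hidx' : (C.subgroupOf (S : Subgroup G)).index = s ^ e :=
      Nat.eq_of_mul_eq_mul_left (pow_pos hs.pos a) hmul
    rw [hidx']
    have he2 : 2 ≤ e := by omega
    calc s = s ^ 1 := (pow_one s).symm
      _ < s ^ 2 := Nat.pow_lt_pow_right hs.one_lt (by norm_num)
      _ ≤ s ^ e := Nat.pow_le_pow_right hs.pos he2
  have hRs : ∀ z ∈ κ.range, z ^ s = 1 := by
    rintro _ ⟨g, rfl⟩
    exact commHom_pow (S : Subgroup G) w hwc s hws g
  obtain ⟨z₁, hz₁, z₂, hz₂, hind⟩ := exists_indep s hs κ.range hRs hlt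
  obtain ⟨g₁, hg₁⟩ := hz₁
  obtain ⟨g₂, hg₂⟩ := hz₂
  have hmemC : ∀ g : ↥(S : Subgroup G), κ g = 1 → (g : G) ∈ C := fun g hg =>
    (commHom_eq_one_iff (S : Subgroup G) w hwc g).mp hg
  have hind' : ∀ i j : ℕ, ((g₁ ^ i * g₂ ^ j : ↥(S : Subgroup G)) : G) ∈ C → s ∣ i ∧ s ∣ j := by
    intro i j hij
    apply hind i j
    have := (commHom_eq_one_iff (S : Subgroup G) w hwc (g₁ ^ i * g₂ ^ j)).mpr hij
    rw [← hκ, map_mul, map_pow, map_pow, hg₁, hg₂] at this
    exact this
  -- the action on `Breg p C`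
  set V := Breg p C with hV
  have hLD : ∀ g ∈ normalizer (C : Set G), ∀ t ∈ V, g * t * g⁻¹ ∈ V := fun g hg t ht => conj_mem_Breg hg ht
  set ψ := ItoTwo.conjHom (normalizer (C : Set G)) V hLD with hψ
  have hψ1 : ∀ c : ↥(normalizer (C : Set G)), (c : G) ∈ C → ψ c = 1 := by
    intro c hc
    apply MulEquiv.ext
    intro t
    apply Subtype.ext
    rw [hψ, ItoTwo.conjHom_apply]
    have := t.2.2.1 c hc
    rw [this]
    simp
  set a₁ : ↥(normalizer (C : Set G)) := ⟨g₁, hSN g₁.2⟩ with ha₁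
  set a₂ : ↥(normalizer (C : Set G)) := ⟨g₂, hSN g₂.2⟩ with ha₂
  have hzcomm : κ g₁ * κ g₂ = κ g₂ * κ g₁ := by
    have := (mem_center_iff.mp (hwc g₂ g₂.2)) (κ g₁)
    exact this
  have hαβ : ψ a₁ * ψ a₂ = ψ a₂ * ψ a₁ := by
    have hc : (((a₂ * a₁)⁻¹ * (a₁ * a₂) : ↥(normalizer (C : Set G))) : G) ∈ C := by
      have h1 : κ ((g₂ * g₁)⁻¹ * (g₁ * g₂)) = 1 := by
        rw [map_mul, map_inv, map_mul, map_mul, hzcomm]
        group
      exact hmemC _ h1
    have h3 := hψ1 _ hc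
    rw [map_mul, map_inv, inv_mul_eq_one] at h3
    rw [← map_mul, ← map_mul]
    exact h3.symm
  have hpow1 : ∀ g : ↥(S : Subgroup G), ∀ a : ↥(normalizer (C : Set G)), (a : G) = (g : G) → ψ a ^ s = 1 := by
    intro g a hag
    rw [← map_pow]
    apply hψ1
    have h1 : κ (g ^ s) = 1 := by rw [map_pow]; exact hRs _ ⟨g, rfl⟩
    have := hmemC _ h1
    rw [Subgroup.coe_pow] at this ⊢
    rw [hag]; exact this
  have hα : ψ a₁ ^ s = 1 := hpow1 g₁ a₁ rfl
  have hβ : ψ a₂ ^ s = 1 := hpow1 g₂ a₂ rfl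
  set Z' : Subgroup ↥V := (center G).comap V.subtype with hZ'
  have hZfix : ∀ a : ↥(normalizer (C : Set G)), ∀ v ∈ Z', ψ a v = v := by
    intro a v hv
    apply Subtype.ext
    rw [hψ, ItoTwo.conjHom_apply]
    have hv' : (v : G) ∈ center G := hv
    have := (mem_center_iff.mp hv') (a : G)
    rw [this]; group
  have hfix : ∀ i j : ℕ, (¬ s ∣ i ∨ ¬ s ∣ j) → ∀ v : ↥V, (ψ a₁ ^ i * ψ a₂ ^ j) v = v → v ∈ Z' := by
    intro i j hij v hv
    by_contra hvZ
    have hvZ' : (v : G) ∉ center G := hvZ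
    rw [← map_pow, ← map_pow, ← map_mul] at hv
    have hv' := congrArg Subtype.val hv
    rw [hψ, ItoTwo.conjHom_apply] at hv'
    have hcomm : ((a₁ ^ i * a₂ ^ j : ↥(normalizer (C : Set G))) : G) * (v : G) =
        (v : G) * ((a₁ ^ i * a₂ ^ j : ↥(normalizer (C : Set G))) : G) := by
      calc ((a₁ ^ i * a₂ ^ j : ↥(normalizer (C : Set G))) : G) * (v : G)
          = (((a₁ ^ i * a₂ ^ j : ↥(normalizer (C : Set G))) : G) * (v : G) *
              ((a₁ ^ i * a₂ ^ j : ↥(normalizer (C : Set G))) : G)⁻¹) *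
              ((a₁ ^ i * a₂ ^ j : ↥(normalizer (C : Set G))) : G) := by group
        _ = (v : G) * ((a₁ ^ i * a₂ ^ j : ↥(normalizer (C : Set G))) : G) := by rw [hv']
    have hmem := mem_cent_of_commute_Breg h hwZ hwp v.2 hvZ' hcomm
    have hcoe : ((a₁ ^ i * a₂ ^ j : ↥(normalizer (C : Set G))) : G) =
        ((g₁ ^ i * g₂ ^ j : ↥(S : Subgroup G)) : G) := by
      simp [ha₁, ha₂]
    rw [hcoe] at hmem
    obtain ⟨hi, hj⟩ := hind' i j hmem
    rcases hij with hij | hij
    · exact hij hi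
    · exact hij hj
  have hVcomm : ∀ a b : ↥V, a * b = b * a := fun a b => Subtype.ext (Breg_comm a.2 b.2)
  have hpow := ItoTwo.pow_mem_of_commuting_auts' hVcomm (p := s) Z' (ψ a₁) (ψ a₂) hαβ hα hβ
    (hZfix a₁) (hZfix a₂) hfix
  -- contradiction with a noncentral `r`-element of `C`
  obtain ⟨r, hrs, hr⟩ := h2.exists_ne s
  obtain ⟨b, hbC, ⟨j, hj⟩, hbc⟩ := exists_nc_of_ncPrime h hr hwZ hwp
  have hbp : (orderOf b).Coprime p := coprime_of_prime_pow hr.1 hr.2.1 hj
  have hbV : b ∈ V := mem_Breg_of_reg h h2 hwZ hwp hbC hbp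
  have hbs : b ^ s ∈ center G := hpow ⟨b, hbV⟩
  have hcop : s.Coprime (orderOf b) := by
    rw [hj]
    exact Nat.Coprime.pow_right _ ((Nat.coprime_primes hs hr.1).mpr (Ne.symm hrs))
  obtain ⟨m', hm'⟩ := exists_pow_eq_self_of_coprime hcop
  apply hbc
  rw [← hm']
  exact pow_mem hbs m'

end Cfsg.Agent.Helper8.PReg
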