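import Mathlib
import Cfsg.Agent.Helper8.PRegC

set_option autoImplicit false
set_option linter.unusedSectionVars false

/-!
Groups with two `p`-regular class sizes `1` and `m`: for a prime `s ≠ p` dividing `m`, every
centralizer of a noncentral `p`-regular element is normalized by a Sylow `s`-subgroup.
-/

namespace Cfsg.Agent.Helper8.PReg

open Subgroup
open Cfsg.Agent.Helper4

variable {G : Type*} [Group G]

theorem mem_normalizer_of_cent_conj_eq {g w : G}
    (h2 : centralizer ({g * w * g⁻¹} : Set G) = centralizer ({w} : Set G)) :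
    g ∈ normalizer (centralizer ({w} : Set G) : Set G) := by
  rw [mem_normalizer_iff]
  intro c
  constructor
  · intro hc
    have : g * c * g⁻¹ ∈ centralizer ({g * w * g⁻¹} : Set G) := by
      rw [mem_centralizer_conj_iff]
      have e : g⁻¹ * (g * c * g⁻¹) * g = c := by group
      rw [e]; exact hc
    rwa [h2] at this
  · intro hc
    rw [← h2, mem_centralizer_conj_iff] at hc
    have e : g⁻¹ * (g * c * g⁻¹) * g = c := by group
    rwa [e] at hc

variable [Finite G] {p m : ℕ} [hp : Fact p.Prime]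
  (h : ∀ x : G, (orderOf x).Coprime p →
    (centralizer ({x} : Set G)).index = 1 ∨ (centralizer ({x} : Set G)).index = m)

include h

/-- a prime `s ≠ p` dividing `m` has noncentral `s`-elements -/
theorem ncPrime_of_dvd (h2 : HasTwo G p) {s : ℕ} (hs : s.Prime) (hsp : s ≠ p) (hsm : s ∣ m) :
    NcPrime G p s := by
  have : Fact s.Prime := ⟨hs⟩
  let S : Sylow s G := default
  have hSZ := sylow_not_le_center h h2 hsm S
  obtain ⟨y, hyS, hyZ⟩ := SetLike.not_le_iff_exists.mp hSZ
  obtain ⟨k, hk⟩ := exists_orderOf_of_isPGroup s (S : Subgroup G) S.isPGroup' hyS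
  exact ⟨hs, hsp, y, hyZ, k, hk⟩

theorem factorization_m_eq_one (h2 : HasTwo G p) {s : ℕ} (hs : s.Prime) (hsp : s ≠ p)
    (hsm : s ∣ m) : m.factorization s = 1 := by
  obtain ⟨x₀, hx₀, hx₀p⟩ := HasTwo.exists_nc h h2
  have hm0 : m ≠ 0 := m_ne_zero h hx₀ hx₀p
  have h1 : 1 ≤ m.factorization s :=
    (hs.pow_dvd_iff_le_factorization hm0).mp (by rw [pow_one]; exact hsm)
  have h3 : ¬ 2 ≤ m.factorization s := fun h3 =>
    not_sq_dvd h h2 hs hsp ((hs.pow_dvd_iff_le_factorization hm0).mpr h3)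
  omega

/-- (B'): a Sylow `s`-subgroup normalizes `C(x)`. -/
theorem exists_sylow_le_normalizer (h2 : HasTwo G p) {s : ℕ} [hsF : Fact s.Prime] (hsp : s ≠ p)
    (hsm : s ∣ m) {x : G} (hx : x ∉ center G) (hxp : (orderOf x).Coprime p) :
    ∃ S : Sylow s G, (S : Subgroup G) ≤ normalizer (centralizer ({x} : Set G) : Set G) := by
  classical
  have hs : s.Prime := hsF.out
  have hsπ := ncPrime_of_dvd h h2 hs hsp hsm
  obtain ⟨b, hbC, ⟨j, hj⟩, hbc⟩ := exists_nc_of_ncPrime h hsπ hx hxp
  have hbp : (orderOf b).Coprime p := coprime_of_prime_pow hs hsp hj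
  have hCb : centralizer ({b} : Set G) = centralizer ({x} : Set G) :=
    cent_eq_of_mem_cent h h2 hx hxp hbC hbc hbp
  set C := centralizer ({x} : Set G) with hC
  have hm0 : m ≠ 0 := m_ne_zero h hx hxp
  have hidx : C.index = m := idx_of_nc h hx hxp
  -- a Sylow subgroup of `C` containing `b`
  have hob : orderOf (⟨b, hbC⟩ : ↥C) = s ^ j := by rw [Subgroup.orderOf_mk, hj]
  obtain ⟨S₁, hbS₁⟩ := exists_sylow_mem s (⟨b, hbC⟩ : ↥C) j hob
  have hP₁ : IsPGroup s ↥((S₁ : Subgroup ↥C).map C.subtype) := S₁.isPGroup'.map _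
  obtain ⟨S, hS⟩ := hP₁.exists_le_sylow
  refine ⟨S, ?_⟩
  have hbS : b ∈ (S : Subgroup G) := hS ⟨⟨b, hbC⟩, hbS₁, rfl⟩
  -- `S ⊓ C = S₁`
  have hT : ((S : Subgroup G) ⊓ C).subgroupOf C = (S₁ : Subgroup ↥C) := by
    apply S₁.is_maximal'
    · rw [← Subgroup.comap_subtype]
      exact (S.isPGroup'.to_inf_left).comap_subtype
    · intro t ht
      rw [mem_subgroupOf]
      exact ⟨hS ⟨t, ht, rfl⟩, t.2⟩
  have hcardinf : Nat.card ((S : Subgroup G) ⊓ C : Subgroup G) = s ^ (Nat.card C).factorization s := by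
    rw [← S₁.card_eq_multiplicity, ← hT]
    exact (Nat.card_congr (Subgroup.subgroupOfEquivOfLe (inf_le_right : (S : Subgroup G) ⊓ C ≤ C)).toEquiv).symm
  -- the index of `S ⊓ C` in `S`
  set H : Subgroup ↥(S : Subgroup G) := ((S : Subgroup G) ⊓ C).subgroupOf (S : Subgroup G) with hH
  have hcardH : Nat.card H = s ^ (Nat.card C).factorization s := by
    rw [← hcardinf]
    exact Nat.card_congr (Subgroup.subgroupOfEquivOfLe (inf_le_left : (S : Subgroup G) ⊓ C ≤ S)).toEquiv
  have hC0 : Nat.card C ≠ 0 := Nat.card_pos.ne'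
  have hG : Nat.card G = Nat.card C * m := by rw [← hidx]; exact (C.card_mul_index).symm
  have hvG : (Nat.card G).factorization s = (Nat.card C).factorization s + 1 := by
    rw [hG, Nat.factorization_mul hC0 hm0]
    change (Nat.card C).factorization s + m.factorization s = _
    rw [factorization_m_eq_one h h2 hs hsp hsm]
  have hcS : Nat.card (S : Subgroup G) = s ^ (Nat.card G).factorization s := S.card_eq_multiplicity
  have hHidx : H.index = s := by
    have hmul := H.card_mul_index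
    rw [hcardH, hcS, hvG, pow_succ] at hmul
    exact Nat.eq_of_mul_eq_mul_left (pow_pos hs.pos _) hmul
  have hHn : H.Normal := by
    apply Subgroup.normal_of_index_eq_minFac_card
    rw [hHidx, hcS, hvG]
    exact (Nat.Prime.pow_minFac hs (Nat.succ_ne_zero _)).symm
  -- conclusion
  intro g hg
  have hbH : (⟨b, hbS⟩ : ↥(S : Subgroup G)) ∈ H := by
    rw [hH, mem_subgroupOf]
    exact ⟨hbS, hbC⟩
  have hconj := hHn.conj_mem _ hbH ⟨g, hg⟩
  rw [hH, mem_subgroupOf] at hconj
  have hgbC : g * b * g⁻¹ ∈ C := hconj.2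
  have hgbc : g * b * g⁻¹ ∉ center G := fun hc => hbc ((conj_mem_center_iff g b).mp hc)
  have hgbp : (orderOf (g * b * g⁻¹)).Coprime p := by rw [orderOf_conj]; exact hbp
  have h3 : centralizer ({g * b * g⁻¹} : Set G) = centralizer ({b} : Set G) := by
    rw [hCb]
    exact cent_eq_of_mem_cent h h2 hx hxp hgbC hgbc hgbp
  have := mem_normalizer_of_cent_conj_eq h3
  rwa [hCb] at this

/-- consequently `s` divides `|N(C) : C|` -/
theorem dvd_relIndex_normalizer (h2 : HasTwo G p) {s : ℕ} [hsF : Fact s.Prime] (hsp : s ≠ p)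
    (hsm : s ∣ m) {x : G} (hx : x ∉ center G) (hxp : (orderOf x).Coprime p) :
    s ∣ (centralizer ({x} : Set G)).relIndex (normalizer (centralizer ({x} : Set G) : Set G)) := by
  obtain ⟨S, hS⟩ := exists_sylow_le_normalizer h h2 hsp hsm hx hxp
  have h1 := relIndex_mul_index (le_normalizer : centralizer ({x} : Set G) ≤ normalizer _)
  rw [idx_of_nc h hx hxp] at h1
  have h3 : ¬ s ∣ (normalizer (centralizer ({x} : Set G) : Set G)).index := fun hd =>
    S.not_dvd_index (hd.trans (index_dvd_of_le hS))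
  rw [← h1] at hsm
  rcases (Nat.Prime.dvd_mul hsF.out).mp hsm with h4 | h4
  · exact h4
  · exact absurd h4 h3

end Cfsg.Agent.Helper8.PReg
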