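import Mathlib
import Cfsg.Agent.Helper4.ItoTwoAvg
import Cfsg.Agent.S0016

set_option autoImplicit false
set_option linter.unusedSectionVars false

/-!
An abstract lemma on a finite group `K` acting on a finite abelian group `V` such that all
nonidentity elements of `K` have the same fixed point subgroup `F`.
-/

namespace Cfsg.Agent.Helper8.PReg

open Subgroup
open Cfsg.Agent.Helper4
open scoped commutatorElement

section Generic

variable {K : Type*} [Group K]

/-- independence of two elements of prime order generating different subgroups -/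
theorem indep_of_not_mem_zpowers (t : ℕ) (ht : t.Prime) {a z : K} (ha : a ^ t = 1)
    (hz : orderOf z = t) (hne : a ∉ zpowers z) :
    ∀ i j : ℕ, a ^ i * z ^ j = 1 → t ∣ i ∧ t ∣ j := by
  intro i j hij
  have hai : a ^ i = (z ^ j)⁻¹ := eq_inv_of_mul_eq_one_left hij
  have hi : t ∣ i := by
    by_contra hti
    apply hne
    have hcop : Nat.Coprime i t := (Nat.Coprime.symm ((Nat.Prime.coprime_iff_not_dvd ht).mpr hti))
    obtain ⟨m', -, hm'⟩ := Nat.exists_mul_mod_eq_one_of_coprime hcop ht.one_lt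
    have h1 : a = (a ^ i) ^ m' := by
      rw [← pow_mul, pow_eq_pow_mod (i * m') ha, hm', pow_one]
    rw [h1, hai]
    exact pow_mem (inv_mem (pow_mem (mem_zpowers z) j)) m'
  refine ⟨hi, ?_⟩
  obtain ⟨c, rfl⟩ := hi
  rw [pow_mul, ha, one_pow, one_mul] at hij
  rw [← hz]
  exact orderOf_dvd_of_pow_eq_one hij

/-- a nontrivial abelian normal subgroup contains a nontrivial normal subgroup of prime power
order -/
theorem exists_normal_pgroup_of_abelian_normal [Finite K] (A : Subgroup K) [hA : A.Normal]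
    (hAc : ∀ a ∈ A, ∀ b ∈ A, a * b = b * a) (hAne : A ≠ ⊥) :
    ∃ t : ℕ, t.Prime ∧ ∃ N : Subgroup K, N.Normal ∧ N ≠ ⊥ ∧ IsPGroup t N := by
  classical
  have hcard : Nat.card A ≠ 1 := fun h1 => hAne (Subgroup.card_eq_one.mp h1)
  obtain ⟨t, ht, htd⟩ := Nat.exists_prime_and_dvd hcard
  have : Fact t.Prime := ⟨ht⟩
  obtain ⟨a, ha⟩ := exists_prime_orderOf_dvd_card' t htd
  let N : Subgroup K :=
    { carrier := {x | x ∈ A ∧ x ^ t = 1}
      one_mem' := ⟨one_mem _, one_pow _⟩
      mul_mem' := by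
        rintro x y ⟨hx, hxt⟩ ⟨hy, hyt⟩
        refine ⟨mul_mem hx hy, ?_⟩
        rw [(show Commute x y from hAc x hx y hy).mul_pow, hxt, hyt, one_mul]
      inv_mem' := by
        rintro x ⟨hx, hxt⟩
        exact ⟨inv_mem hx, by rw [inv_pow, hxt, inv_one]⟩ }
  refine ⟨t, ht, N, ?_, ?_, ?_⟩
  · constructor
    rintro x ⟨hx, hxt⟩ g
    refine ⟨hA.conj_mem x hx g, ?_⟩
    rw [conj_pow, hxt, mul_one, mul_inv_cancel]
  · intro hN
    have haN : (a : K) ∈ N := by
      refine ⟨a.2, ?_⟩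
      have h1 : a ^ t = 1 := by rw [← ha]; exact pow_orderOf_eq_one a
      have := congrArg Subtype.val h1
      simpa using this
    rw [hN, Subgroup.mem_bot] at haN
    have h1 : a = 1 := Subtype.ext haN
    rw [h1, orderOf_one] at ha
    exact ht.one_lt.ne ha
  · intro x
    refine ⟨1, ?_⟩
    apply Subtype.ext
    rw [pow_one, Subgroup.coe_pow, Subgroup.coe_one]
    exact x.2.2

/-- a nontrivial finite Z-group has a nontrivial normal subgroup of prime power order -/
theorem exists_normal_pgroup_of_isZGroup [Finite K] [IsZGroup K] [Nontrivial K] :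
    ∃ t : ℕ, t.Prime ∧ ∃ N : Subgroup K, N.Normal ∧ N ≠ ⊥ ∧ IsPGroup t N := by
  by_cases hc : commutator K = ⊥
  · have hcomm : ∀ a b : K, a * b = b * a := by
      intro a b
      have h1 : ⁅a, b⁆ ∈ commutator K := by
        rw [_root_.commutator_def]
        exact Subgroup.commutator_mem_commutator (mem_top a) (mem_top b)
      rw [hc, Subgroup.mem_bot, commutatorElement_def] at h1
      calc a * b = (a * b * a⁻¹ * b⁻¹) * b * a := by group
        _ = b * a := by rw [h1, one_mul]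
    have : (⊤ : Subgroup K).Normal := inferInstance
    exact exists_normal_pgroup_of_abelian_normal (⊤ : Subgroup K) (fun a _ b _ => hcomm a b)
      (by
        intro h
        obtain ⟨x, hx⟩ := exists_ne (1 : K)
        have : x ∈ (⊥ : Subgroup K) := h ▸ mem_top x
        exact hx (Subgroup.mem_bot.mp this))
  · have hcyc : IsCyclic (commutator K) := IsZGroup.isCyclic_commutator K
    have hn : (commutator K).Normal := inferInstance
    refine exists_normal_pgroup_of_abelian_normal (commutator K) ?_ hc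
    intro a ha b hb
    have hmc : IsMulCommutative ↥(commutator K) := IsCyclic.isMulCommutative
    have := hmc.is_comm.comm ⟨a, ha⟩ ⟨b, hb⟩
    exact congrArg Subtype.val this

end Generic

section Abstract

variable {K V : Type*} [Group K] [Finite K] [CommGroup V] [Finite V]
  (φ : K →* MulAut V) (F : Subgroup V)
  (hfix : ∀ k : K, k ≠ 1 → ∀ v : V, φ k v = v ↔ v ∈ F)

include hfix

theorem fix_of_mem (k : K) {v : V} (hv : v ∈ F) : φ k v = v := by
  by_cases hk : k = 1
  · rw [hk, map_one]; rfl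
  · exact (hfix k hk v).mpr hv

/-- (Z1): no nontrivial normal `s'`-subgroups. -/
theorem normal_eq_bot_of_not_dvd (s : ℕ) [hs : Fact s.Prime] (hsK : s ∣ Nat.card K)
    (v₀ : V) (hv₀F : v₀ ∉ F) (e : ℕ) (hv₀ : v₀ ^ s ^ e = 1)
    (N : Subgroup K) [hN : N.Normal] (hNs : ¬ s ∣ Nat.card N) : N = ⊥ := by
  classical
  by_contra hNb
  obtain ⟨n₀, hn₀⟩ := (Subgroup.ne_bot_iff_exists_ne_one).mp hNb
  have hn₀1 : (n₀ : K) ≠ 1 := fun h1 => hn₀ (Subtype.ext h1)
  obtain ⟨x, hx⟩ := exists_prime_orderOf_dvd_card' s hsK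
  have hx1 : x ≠ 1 := by
    intro h1
    rw [h1, orderOf_one] at hx
    exact hs.out.one_lt.ne hx
  have : Fintype N := Fintype.ofFinite N
  let τ : V →* V := ∏ n : N, ((φ (n : K)).toMonoidHom)
  have hτ : ∀ v : V, τ v = ∏ n : N, φ (n : K) v := by
    intro v
    change (∏ n : N, ((φ (n : K)).toMonoidHom)) v = _
    rw [MonoidHom.finsetProd_apply]
    rfl
  -- equivariance of the norm map
  have hτk : ∀ (k : K) (v : V), τ (φ k v) = φ k (τ v) := by
    intro k v
    rw [hτ, hτ, map_prod]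
    refine (Fintype.prod_equiv (MulAut.conjNormal k : MulAut ↥N).toEquiv _ _ ?_).symm
    intro n
    have h1 : (((MulAut.conjNormal k : MulAut ↥N).toEquiv n : ↥N) : K) = k * n * k⁻¹ :=
      MulAut.conjNormal_apply k n
    rw [h1, ← MulAut.mul_apply, ← MulAut.mul_apply, ← map_mul, ← map_mul]
    congr 2
    group
  have hτn : ∀ (n : N) (v : V), τ (φ (n : K) v) = τ v := by
    intro n v
    rw [hτ, hτ]
    refine Fintype.prod_equiv (Equiv.mulRight n) _ _ ?_
    intro n'
    rw [← MulAut.mul_apply, ← map_mul]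
    rfl
  let P₁ : Subgroup V :=
    { carrier := {v | v ^ s ^ e = 1 ∧ τ v = 1}
      one_mem' := ⟨one_pow _, map_one _⟩
      mul_mem' := by
        rintro a b ⟨ha, ha'⟩ ⟨hb, hb'⟩
        exact ⟨by rw [mul_pow, ha, hb, one_mul], by rw [map_mul, ha', hb', one_mul]⟩
      inv_mem' := by
        rintro a ⟨ha, ha'⟩
        exact ⟨by rw [inv_pow, ha, inv_one], by rw [map_inv, ha', inv_one]⟩ }
  have hP₁inv : ∀ (k : K) (v : V), v ∈ P₁ → φ k v ∈ P₁ := by
    rintro k v ⟨hv, hv'⟩
    exact ⟨by rw [← map_pow, hv, map_one], by rw [hτk, hv', map_one]⟩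
  have hP₁P : IsPGroup s P₁ := by
    intro v
    refine ⟨e, ?_⟩
    apply Subtype.ext
    rw [Subgroup.coe_pow, Subgroup.coe_one]
    exact v.2.1
  -- a nontrivial element of `P₁`
  have hu₀ : φ (n₀ : K) v₀ * v₀⁻¹ ∈ P₁ := by
    refine ⟨?_, ?_⟩
    · rw [mul_pow, ← map_pow, inv_pow, hv₀, map_one, inv_one, one_mul]
    · rw [map_mul, map_inv, hτn, mul_inv_cancel]
  have hu₀1 : φ (n₀ : K) v₀ * v₀⁻¹ ≠ 1 := by
    intro h1
    rw [mul_inv_eq_one] at h1
    exact hv₀F ((hfix _ hn₀1 v₀).mp h1)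
  -- the action of `⟨x⟩` on `P₁`
  let _ : MulAction (zpowers x) P₁ :=
    { smul := fun z w => ⟨φ (z : K) w, hP₁inv z w w.2⟩
      one_smul := fun w => Subtype.ext (by
        change φ ((1 : zpowers x) : K) (w : V) = w
        rw [Subgroup.coe_one, map_one]; rfl)
      mul_smul := fun z z' w => Subtype.ext (by
        change φ ((z * z' : zpowers x) : K) (w : V) = φ (z : K) (φ (z' : K) (w : V))
        rw [Subgroup.coe_mul, map_mul]; rfl) }
  have hZp : IsPGroup s (zpowers x) := by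
    apply IsPGroup.of_card (n := 1)
    rw [Nat.card_zpowers, hx, pow_one]
  have hP₁card : s ∣ Nat.card P₁ := by
    obtain ⟨k, hk⟩ := hP₁P.exists_card_eq
    rcases Nat.eq_zero_or_pos k with h0 | h0
    · rw [h0, pow_zero] at hk
      have hbot := Subgroup.card_eq_one.mp hk
      have : φ (n₀ : K) v₀ * v₀⁻¹ ∈ (⊥ : Subgroup V) := hbot ▸ hu₀
      exact absurd (Subgroup.mem_bot.mp this) hu₀1
    · rw [hk]; exact dvd_pow_self s h0.ne'
  have h1mem : (1 : P₁) ∈ MulAction.fixedPoints (zpowers x) P₁ := by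
    intro z
    apply Subtype.ext
    change φ (z : K) ((1 : P₁) : V) = ((1 : P₁) : V)
    rw [Subgroup.coe_one, map_one]
  obtain ⟨b, hb, hb1⟩ := hZp.exists_fixed_point_of_prime_dvd_card_of_fixed_point P₁ hP₁card h1mem
  have hxb : φ x (b : V) = b := by
    have := hb ⟨x, mem_zpowers x⟩
    exact congrArg Subtype.val this
  have hbF : (b : V) ∈ F := (hfix x hx1 b).mp hxb
  have hτb : τ (b : V) = (b : V) ^ Nat.card N := by
    have hc : ∏ n : N, φ (n : K) (b : V) = ∏ _n : N, (b : V) :=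
      Finset.prod_congr rfl (fun n _ => fix_of_mem φ F hfix (n : K) hbF)
    rw [hτ, hc, Finset.prod_const, Finset.card_univ, Nat.card_eq_fintype_card]
  have h2 : (b : V) ^ Nat.card N = 1 := by rw [← hτb]; exact b.2.2
  have h3 : (b : V) ^ s ^ e = 1 := b.2.1
  have hcop : Nat.Coprime (Nat.card N) (s ^ e) :=
    Nat.Coprime.pow_right e ((Nat.Prime.coprime_iff_not_dvd hs.out).mpr hNs).symm
  have h4 : orderOf (b : V) = 1 :=
    Nat.eq_one_of_dvd_coprimes hcop (orderOf_dvd_of_pow_eq_one h2) (orderOf_dvd_of_pow_eq_one h3)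
  exact hb1 (Subtype.ext (orderOf_eq_one_iff.mp h4).symm)

/-- every subgroup of order `t` of a Sylow `t`-subgroup is a fixed one -/
theorem unique_subgroup_of_prime_card (t : ℕ) [ht : Fact t.Prime] (htV : ¬ t ∣ Nat.card V)
    (hVF : ∃ v : V, v ∉ F) (P : Sylow t K)
    (H₁ H₂ : Subgroup ↥(P : Subgroup K)) (h₁ : Nat.card H₁ = t) (h₂ : Nat.card H₂ = t) :
    H₁ = H₂ := by
  classical
  have hnt : Nontrivial ↥(P : Subgroup K) := by
    rw [← Finite.one_lt_card_iff_nontrivial]
    calc 1 < t := ht.out.one_lt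
      _ = Nat.card H₁ := h₁.symm
      _ ≤ Nat.card ↥(P : Subgroup K) := Subgroup.card_le_card_group H₁
  have hcnt : Nontrivial ↥(center ↥(P : Subgroup K)) := P.isPGroup'.center_nontrivial
  have hcP : IsPGroup t ↥(center ↥(P : Subgroup K)) := P.isPGroup'.to_subgroup _
  have hdvd : t ∣ Nat.card ↥(center ↥(P : Subgroup K)) := by
    obtain ⟨k, hk⟩ := hcP.exists_card_eq
    rcases Nat.eq_zero_or_pos k with h0 | h0
    · rw [h0, pow_zero] at hk
      have := (Nat.card_eq_one_iff_unique.mp hk).1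
      exact absurd hcnt (not_nontrivial _)
    · rw [hk]; exact dvd_pow_self t h0.ne'
  obtain ⟨z₀', hz₀'⟩ := exists_prime_orderOf_dvd_card' t hdvd
  set z₀ : ↥(P : Subgroup K) := (z₀' : ↥(P : Subgroup K)) with hz₀def
  have hz₀ : orderOf z₀ = t := by rw [hz₀def, Subgroup.orderOf_coe, hz₀']
  have hz₀c : ∀ g : ↥(P : Subgroup K), g * z₀ = z₀ * g := fun g => (mem_center_iff.mp z₀'.2) g
  suffices hmain : ∀ H : Subgroup ↥(P : Subgroup K), Nat.card H = t → H = zpowers z₀ by
    rw [hmain H₁ h₁, hmain H₂ h₂]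
  intro H hH
  have hHnt : Nontrivial ↥H := by
    rw [← Finite.one_lt_card_iff_nontrivial, hH]
    exact ht.out.one_lt
  obtain ⟨⟨a, haH⟩, ha⟩ := exists_ne (1 : ↥H)
  have ha1 : a ≠ 1 := fun h1 => ha (Subtype.ext h1)
  have hat : a ^ t = 1 := by
    have h1 : (⟨a, haH⟩ : ↥H) ^ Nat.card H = 1 := pow_card_eq_one'
    rw [hH] at h1
    have := congrArg Subtype.val h1
    simpa using this
  have hoa : orderOf a = t := by
    rcases (Nat.dvd_prime ht.out).mp (orderOf_dvd_of_pow_eq_one hat) with h2 | h2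
    · exact absurd (orderOf_eq_one_iff.mp h2) ha1
    · exact h2
  have hHa : H = zpowers a := by
    symm
    apply Subgroup.eq_of_le_of_card_ge (zpowers_le.mpr haH)
    rw [Nat.card_zpowers, hoa, hH]
  have haz : a ∈ zpowers z₀ := by
    by_contra hne
    have hind := indep_of_not_mem_zpowers t ht.out hat hz₀ hne
    -- apply the averaging lemma
    have hαβ : φ (a : K) * φ (z₀ : K) = φ (z₀ : K) * φ (a : K) := by
      rw [← map_mul, ← map_mul]
      congr 1
      have := congrArg Subtype.val (hz₀c a)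
      simpa using this
    have hα : φ (a : K) ^ t = 1 := by
      rw [← map_pow]
      have := congrArg Subtype.val hat
      rw [Subgroup.coe_pow, Subgroup.coe_one] at this
      rw [this, map_one]
    have hβ : φ (z₀ : K) ^ t = 1 := by
      rw [← map_pow]
      have h1 : z₀ ^ t = 1 := by
        have := pow_orderOf_eq_one z₀
        rwa [hz₀] at this
      have := congrArg Subtype.val h1
      rw [Subgroup.coe_pow, Subgroup.coe_one] at this
      rw [this, map_one]
    have hfix' : ∀ i j : ℕ, (¬ t ∣ i ∨ ¬ t ∣ j) → ∀ v : V,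
        (φ (a : K) ^ i * φ (z₀ : K) ^ j) v = v → v ∈ F := by
      intro i j hij v hv
      rw [← map_pow, ← map_pow, ← map_mul] at hv
      have hne1 : (a : K) ^ i * (z₀ : K) ^ j ≠ 1 := by
        intro h1
        have h2 : a ^ i * z₀ ^ j = 1 := by
          apply Subtype.ext
          simpa using h1
        obtain ⟨hi, hj⟩ := hind i j h2
        rcases hij with hij | hij
        · exact hij hi
        · exact hij hj
      exact (hfix _ hne1 v).mp hv
    have hpow := ItoTwo.pow_mem_of_commuting_auts (p := t) F (φ (a : K)) (φ (z₀ : K)) hαβ hα hβ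
      (fun v hv => fix_of_mem φ F hfix _ hv) (fun v hv => fix_of_mem φ F hfix _ hv) hfix'
    obtain ⟨v, hv⟩ := hVF
    apply hv
    have hcop : t.Coprime (orderOf v) :=
      (Nat.Prime.coprime_iff_not_dvd ht.out).mpr (fun hd => htV (hd.trans (orderOf_dvd_natCard v)))
    obtain ⟨m', hm'⟩ := exists_pow_eq_self_of_coprime hcop
    rw [← hm']
    exact pow_mem (hpow v) m'
  rw [hHa]
  apply Subgroup.eq_of_le_of_card_ge (zpowers_le.mpr haz)
  rw [Nat.card_zpowers, Nat.card_zpowers, hoa, hz₀]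

/-- Sylow `t`-subgroups of `K` are cyclic for odd `t` not dividing `|V|`. -/
theorem sylow_isCyclic_of_odd (t : ℕ) [ht : Fact t.Prime] (ht2 : t ≠ 2) (htV : ¬ t ∣ Nat.card V)
    (hVF : ∃ v : V, v ∉ F) (P : Sylow t K) : IsCyclic ↥(P : Subgroup K) := by
  have huniq := unique_subgroup_of_prime_card φ F hfix t htV hVF P
  rcases Cfsg.Agent.S0016.result t P.isPGroup' huniq with h1 | ⟨h1, -⟩
  · exact h1
  · exact absurd h1 ht2

/-- an involution inverts `V` modulo `F` -/
theorem mul_apply_mem_of_sq_eq_one {u : K} (hu1 : u ≠ 1) (hu : u * u = 1) (v : V) :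
    v * φ u v ∈ F := by
  apply (hfix u hu1 _).mp
  rw [map_mul, ← MulAut.mul_apply, ← map_mul, hu, map_one, MulAut.one_apply, mul_comm]

/-- `K` has at most one involution, if `V / F` involves two primes. -/
theorem involution_unique (r₁ r₂ : ℕ) (hr₁ : r₁.Prime) (hr₂ : r₂.Prime) (hr : r₁ ≠ r₂)
    (v₁ v₂ : V) (hv₁ : v₁ ∉ F) (hv₂ : v₂ ∉ F) (c₁ c₂ : ℕ) (ho₁ : v₁ ^ r₁ ^ c₁ = 1)
    (ho₂ : v₂ ^ r₂ ^ c₂ = 1) {u u' : K} (hu : orderOf u = 2) (hu' : orderOf u' = 2) : u = u' := by
  have hu1 : u ≠ 1 := by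
    intro h1; rw [h1, orderOf_one] at hu; omega
  have hu'1 : u' ≠ 1 := by
    intro h1; rw [h1, orderOf_one] at hu'; omega
  have huu : u * u = 1 := by rw [← pow_two, ← hu]; exact pow_orderOf_eq_one u
  have hu'u' : u' * u' = 1 := by rw [← pow_two, ← hu']; exact pow_orderOf_eq_one u'
  set k := u * u' with hk
  -- `k` acts trivially modulo `F`
  have hkF : ∀ v : V, v⁻¹ * φ k v ∈ F := by
    intro v
    have hf := mul_apply_mem_of_sq_eq_one φ F hfix hu1 huu v
    have hf' := mul_apply_mem_of_sq_eq_one φ F hfix hu'1 hu'u' v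
    set f := v * φ u v with hfdef
    set f' := v * φ u' v with hf'def
    have e1 : φ u' v = v⁻¹ * f' := by rw [hf'def]; group
    have e2 : φ u v = v⁻¹ * f := by rw [hfdef]; group
    have e3 : φ k v = f⁻¹ * v * f' := by
      rw [hk, map_mul, MulAut.mul_apply, e1, map_mul, map_inv, fix_of_mem φ F hfix u hf', e2]
      group
    rw [e3]
    have : v⁻¹ * (f⁻¹ * v * f') = f⁻¹ * f' := by
      rw [mul_comm f⁻¹ v]; group
    rw [this]
    exact mul_mem (inv_mem hf) hf'
  by_contra hne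
  have hk1 : k ≠ 1 := by
    intro h1
    apply hne
    have : u' = u⁻¹ := (eq_inv_of_mul_eq_one_right (hk ▸ h1))
    rw [this]
    exact (eq_inv_of_mul_eq_one_left huu)
  -- powers of `k`
  have hkpow : ∀ (j : ℕ) (v : V), v⁻¹ * φ (k ^ j) v ∈ F := by
    intro j
    induction j with
    | zero => intro v; simp
    | succ j ih =>
      intro v
      have h1 := ih v
      set fj := v⁻¹ * φ (k ^ j) v with hfj
      have e1 : φ (k ^ j) v = v * fj := by rw [hfj]; group
      rw [pow_succ', map_mul, MulAut.mul_apply, e1, map_mul, fix_of_mem φ F hfix k h1]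
      have : v⁻¹ * (φ k v * fj) = (v⁻¹ * φ k v) * fj := by group
      rw [this]
      exact mul_mem (hkF v) h1
  have hn1 : orderOf k ≠ 1 := fun h1 => hk1 (orderOf_eq_one_iff.mp h1)
  obtain ⟨ℓ, hℓ, hℓd⟩ := Nat.exists_prime_and_dvd hn1
  have hn0 : orderOf k ≠ 0 := (orderOf_pos k).ne'
  obtain ⟨k', hk'⟩ : ∃ k' : K, k' = k ^ (orderOf k / ℓ) := ⟨_, rfl⟩
  have hok' : orderOf k' = ℓ := by rw [hk']; exact orderOf_pow_orderOf_div hn0 hℓd
  have hk'1 : k' ≠ 1 := by
    intro h1
    rw [h1, orderOf_one] at hok'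
    exact hℓ.one_lt.ne hok'
  have hk'F : ∀ v : V, v⁻¹ * φ k' v ∈ F := fun v => by rw [hk']; exact hkpow _ v
  have hkℓ : k' ^ ℓ = 1 := by rw [← hok']; exact pow_orderOf_eq_one k'
  -- `(v⁻¹ φ k' v) ^ ℓ = 1`
  have hgℓ : ∀ v : V, (v⁻¹ * φ k' v) ^ ℓ = 1 := by
    intro v
    obtain ⟨g, hg⟩ : ∃ g : V, g = v⁻¹ * φ k' v := ⟨_, rfl⟩
    rw [← hg]
    have hgF : g ∈ F := by rw [hg]; exact hk'F v
    have e1 : φ k' v = v * g := by rw [hg]; group
    have h1 : ∀ j : ℕ, φ (k' ^ j) v = v * g ^ j := by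
      intro j
      induction j with
      | zero => simp
      | succ j ih =>
        rw [pow_succ', map_mul, MulAut.mul_apply, ih, map_mul, map_pow, fix_of_mem φ F hfix k' hgF, e1,
          pow_succ', mul_assoc]
    have h2 := h1 ℓ
    rw [hkℓ, map_one, MulAut.one_apply] at h2
    have h3 : v * 1 = v * g ^ ℓ := by rw [mul_one]; exact h2
    exact (mul_left_cancel h3).symm
  -- pick a prime different from `ℓ`
  have hkey : ∀ (r : ℕ) (hrP : r.Prime) (hrℓ : r ≠ ℓ) (v : V) (c : ℕ), v ^ r ^ c = 1 → v ∈ F := by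
    intro r hrP hrℓ v c hv
    have h1 : (v⁻¹ * φ k' v) ^ r ^ c = 1 := by
      rw [mul_pow, inv_pow, ← map_pow, hv, map_one, inv_one, one_mul]
    have hcop : Nat.Coprime ℓ (r ^ c) :=
      Nat.Coprime.pow_right c ((Nat.coprime_primes hℓ hrP).mpr (Ne.symm hrℓ))
    have h2 : orderOf (v⁻¹ * φ k' v) = 1 :=
      Nat.eq_one_of_dvd_coprimes hcop (orderOf_dvd_of_pow_eq_one (hgℓ v))
        (orderOf_dvd_of_pow_eq_one h1)
    have h3 : v⁻¹ * φ k' v = 1 := orderOf_eq_one_iff.mp h2
    have h4 : φ k' v = v := by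
      calc φ k' v = v * (v⁻¹ * φ k' v) := by group
        _ = v := by rw [h3, mul_one]
    exact (hfix k' hk'1 v).mp h4
  by_cases h1 : r₁ = ℓ
  · exact hv₂ (hkey r₂ hr₂ (fun h2 => hr (h1.trans h2.symm)) v₂ c₂ ho₂)
  · exact hv₁ (hkey r₁ hr₁ h1 v₁ c₁ ho₁)

/-- (ZZ): under the squarefreeness assumptions only one prime different from `p` divides `|K|`. -/
theorem prime_unique (p : ℕ) [Fact p.Prime] (hpV : ¬ p ∣ Nat.card V)
    (r₁ r₂ : ℕ) (hr₁ : r₁.Prime) (hr₂ : r₂.Prime) (hr : r₁ ≠ r₂)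
    (v₁ v₂ : V) (hv₁ : v₁ ∉ F) (hv₂ : v₂ ∉ F) (c₁ c₂ : ℕ) (ho₁ : v₁ ^ r₁ ^ c₁ = 1)
    (ho₂ : v₂ ^ r₂ ^ c₂ = 1)
    (hsq : ∀ s : ℕ, s.Prime → s ≠ p → s ∣ Nat.card K →
      ¬ s ^ 2 ∣ Nat.card K ∧ ∃ v : V, v ∉ F ∧ ∃ e : ℕ, v ^ s ^ e = 1)
    {s s' : ℕ} (hs : s.Prime) (hs' : s'.Prime) (hsp : s ≠ p) (hs'p : s' ≠ p)
    (hsK : s ∣ Nat.card K) (hs'K : s' ∣ Nat.card K) : s = s' := by
  classical
  have hZ1 : ∀ s : ℕ, s.Prime → s ≠ p → s ∣ Nat.card K → ∀ N : Subgroup K, N.Normal →
      ¬ s ∣ Nat.card N → N = ⊥ := by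
    intro s hs hsp hsK N hN hNs
    obtain ⟨-, v, hv, e, he⟩ := hsq s hs hsp hsK
    have : Fact s.Prime := ⟨hs⟩
    exact normal_eq_bot_of_not_dvd φ F hfix s hsK v hv e he N hNs
  -- the case `p = 2`
  have hp2 : p = 2 → ¬ 2 ∣ Nat.card K := by
    intro hp2 h2K
    have : Fact (Nat.Prime 2) := ⟨Nat.prime_two⟩
    obtain ⟨u, hu⟩ := exists_prime_orderOf_dvd_card' 2 h2K
    have hu1 : u ≠ 1 := by
      intro h1; rw [h1, orderOf_one] at hu; omega
    have hN : (zpowers u).Normal := by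
      constructor
      intro x hx g
      obtain ⟨i, rfl⟩ := mem_zpowers_iff.mp hx
      have h1 : g * u * g⁻¹ = u := by
        apply involution_unique φ F hfix r₁ r₂ hr₁ hr₂ hr v₁ v₂ hv₁ hv₂ c₁ c₂ ho₁ ho₂ _ hu
        have := (MulAut.conj g).orderOf_eq u
        rw [MulAut.conj_apply] at this
        rw [this, hu]
      have h2 : g * u ^ i * g⁻¹ = (g * u * g⁻¹) ^ i := by
        rw [conj_zpow]
      rw [h2, h1]
      exact zpow_mem (mem_zpowers u) i
    have hcard : Nat.card (zpowers u) = 2 := by rw [Nat.card_zpowers, hu]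
    have hNs : ¬ s ∣ Nat.card (zpowers u) := by
      rw [hcard]
      intro hd
      have := (Nat.prime_dvd_prime_iff_eq hs Nat.prime_two).mp hd
      exact hsp (this.trans hp2.symm)
    have := hZ1 s hs hsp hsK (zpowers u) hN hNs
    have hmem : u ∈ zpowers u := mem_zpowers u
    rw [this, Subgroup.mem_bot] at hmem
    exact hu1 hmem
  -- `K` is a Z-group
  have hZG : IsZGroup K := by
    constructor
    intro t ht P
    have : Fact t.Prime := ⟨ht⟩
    have hcardP : Nat.card (P : Subgroup K) = t ^ (Nat.card K).factorization t := P.card_eq_multiplicity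
    have hK0 : Nat.card K ≠ 0 := Nat.card_pos.ne'
    by_cases htK : t ∣ Nat.card K
    · by_cases htp : t = p
      · have ht2 : t ≠ 2 := by
          intro h2
          exact hp2 (htp.symm.trans h2) (h2 ▸ htK)
        exact sylow_isCyclic_of_odd φ F hfix t ht2 (htp ▸ hpV) ⟨v₁, hv₁⟩ P
      · obtain ⟨hnsq, -⟩ := hsq t ht htp htK
        have h1 : 1 ≤ (Nat.card K).factorization t :=
          (ht.pow_dvd_iff_le_factorization hK0).mp (by rw [pow_one]; exact htK)
        have h2 : ¬ 2 ≤ (Nat.card K).factorization t := fun h2 =>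
          hnsq ((ht.pow_dvd_iff_le_factorization hK0).mpr h2)
        have h3 : (Nat.card K).factorization t = 1 := by omega
        rw [h3, pow_one] at hcardP
        exact isCyclic_of_prime_card hcardP
    · have h3 : (Nat.card K).factorization t = 0 := Nat.factorization_eq_zero_of_not_dvd htK
      rw [h3, pow_zero] at hcardP
      have : Subsingleton ↥(P : Subgroup K) := (Nat.card_eq_one_iff_unique.mp hcardP).1
      exact isCyclic_of_subsingleton
  have hKnt : Nontrivial K := by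
    rw [← Finite.one_lt_card_iff_nontrivial]
    exact lt_of_lt_of_le hs.one_lt (Nat.le_of_dvd Nat.card_pos hsK)
  obtain ⟨t, ht, N, hN, hNb, hNt⟩ := exists_normal_pgroup_of_isZGroup (K := K)
  have : Fact t.Prime := ⟨ht⟩
  obtain ⟨k, hk⟩ := hNt.exists_card_eq
  have hkey : ∀ s : ℕ, s.Prime → s ≠ p → s ∣ Nat.card K → s = t := by
    intro s hs hsp hsK
    by_contra hst
    apply hNb
    apply hZ1 s hs hsp hsK N hN
    rw [hk]
    intro hd
    exact hst ((Nat.prime_dvd_prime_iff_eq hs ht).mp (hs.dvd_of_dvd_pow hd))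
  rw [hkey s hs hsp hsK, hkey s' hs' hs'p hs'K]

end Abstract

end Cfsg.Agent.Helper8.PReg
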