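import Mathlib
import Cfsg.Agent.Helper8.PRegD
import Cfsg.Agent.Helper8.PRegZ

set_option autoImplicit false
set_option linter.unusedSectionVars false

/-!
Groups with two `p`-regular class sizes `1` and `m`: at most one prime different from `p` divides
`m` (when two primes have noncentral elements).
-/

namespace Cfsg.Agent.Helper8.PReg

open Subgroup
open Cfsg.Agent.Helper4

/-- the abstract lemma, for a group `V` with a commutativity hypothesis -/
theorem prime_unique' {K V : Type*} [Group K] [Finite K] [Group V] [Finite V]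
    (hcomm : ∀ a b : V, a * b = b * a)
    (φ : K →* MulAut V) (F : Subgroup V)
    (hfix : ∀ k : K, k ≠ 1 → ∀ v : V, φ k v = v ↔ v ∈ F)
    (p : ℕ) [Fact p.Prime] (hpV : ¬ p ∣ Nat.card V)
    (r₁ r₂ : ℕ) (hr₁ : r₁.Prime) (hr₂ : r₂.Prime) (hr : r₁ ≠ r₂)
    (v₁ v₂ : V) (hv₁ : v₁ ∉ F) (hv₂ : v₂ ∉ F) (c₁ c₂ : ℕ) (ho₁ : v₁ ^ r₁ ^ c₁ = 1)
    (ho₂ : v₂ ^ r₂ ^ c₂ = 1)
    (hsq : ∀ s : ℕ, s.Prime → s ≠ p → s ∣ Nat.card K →
      ¬ s ^ 2 ∣ Nat.card K ∧ ∃ v : V, v ∉ F ∧ ∃ e : ℕ, v ^ s ^ e = 1)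
    {s s' : ℕ} (hs : s.Prime) (hs' : s'.Prime) (hsp : s ≠ p) (hs'p : s' ≠ p)
    (hsK : s ∣ Nat.card K) (hs'K : s' ∣ Nat.card K) : s = s' := by
  let _ : CommGroup V := { (inferInstance : Group V) with mul_comm := hcomm }
  exact prime_unique φ F hfix p hpV r₁ r₂ hr₁ hr₂ hr v₁ v₂ hv₁ hv₂ c₁ c₂ ho₁ ho₂ hsq hs hs' hsp hs'p
    hsK hs'K

variable {G : Type*} [Group G] [Finite G] {p m : ℕ} [hp : Fact p.Prime]
  (h : ∀ x : G, (orderOf x).Coprime p →
    (centralizer ({x} : Set G)).index = 1 ∨ (centralizer ({x} : Set G)).index = m)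

include h

/-- (C): at most one prime different from `p` divides `m`. -/
theorem prime_dvd_unique (h2 : HasTwo G p) {s s' : ℕ} (hs : s.Prime) (hs' : s'.Prime)
    (hsp : s ≠ p) (hs'p : s' ≠ p) (hsm : s ∣ m) (hs'm : s' ∣ m) : s = s' := by
  classical
  obtain ⟨x, hx, hxp⟩ := HasTwo.exists_nc h h2
  set C := centralizer ({x} : Set G) with hC
  set L := normalizer (C : Set G) with hL
  set V := Breg p C with hV
  have hLD : ∀ g ∈ L, ∀ t ∈ V, g * t * g⁻¹ ∈ V := fun g hg t ht => conj_mem_Breg hg ht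
  set ψ := ItoTwo.conjHom L V hLD with hψ
  have hψ1 : ∀ c : ↥L, (c : G) ∈ C → ψ c = 1 := by
    intro c hc
    apply MulEquiv.ext
    intro t
    apply Subtype.ext
    rw [hψ, ItoTwo.conjHom_apply]
    have := t.2.2.1 c hc
    rw [this]
    simp
  have hxV : x ∈ V := self_mem_Breg h h2 hx hxp
  have hψC : ∀ c : ↥L, ψ c = 1 → (c : G) ∈ C := by
    intro c hc
    have h1 := congrArg (fun α : MulAut ↥V => ((α ⟨x, hxV⟩ : ↥V) : G)) hc
    simp only [MulAut.one_apply] at h1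
    rw [hψ, ItoTwo.conjHom_apply] at h1
    rw [hC, mem_centralizer_singleton_iff]
    calc (c : G) * x = ((c : G) * x * (c : G)⁻¹) * c := by group
      _ = x * c := by rw [h1]
  have hker : ψ.ker = C.subgroupOf L := by
    ext g
    rw [MonoidHom.mem_ker, mem_subgroupOf]
    exact ⟨hψC g, hψ1 g⟩
  have hcardK : Nat.card ψ.range = C.relIndex L := by
    rw [← Subgroup.index_ker, hker]
    rfl
  have hkm : C.relIndex L ∣ m := by
    have h1 := relIndex_mul_index (le_normalizer : C ≤ normalizer (C : Set G))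
    rw [idx_of_nc h hx hxp] at h1
    exact Dvd.intro _ h1
  set F : Subgroup ↥V := (center G).comap V.subtype with hF
  have hVcomm : ∀ a b : ↥V, a * b = b * a := fun a b => Subtype.ext (Breg_comm a.2 b.2)
  -- fixed points
  have hfix : ∀ k : ↥ψ.range, k ≠ 1 → ∀ v : ↥V, (ψ.range.subtype k) v = v ↔ v ∈ F := by
    rintro ⟨k, g, rfl⟩ hk v
    have hgC : (g : G) ∉ C := by
      intro hgC
      apply hk
      apply Subtype.ext
      exact hψ1 g hgC
    change ψ g v = v ↔ (v : G) ∈ center G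
    constructor
    · intro hv
      by_contra hvZ
      have hv' := congrArg Subtype.val hv
      rw [hψ, ItoTwo.conjHom_apply] at hv'
      have hcomm : (g : G) * (v : G) = (v : G) * g := by
        calc (g : G) * (v : G) = ((g : G) * v * (g : G)⁻¹) * g := by group
          _ = (v : G) * g := by rw [hv']
      exact hgC (mem_cent_of_commute_Breg h hx hxp v.2 hvZ hcomm)
    · intro hv
      apply Subtype.ext
      rw [hψ, ItoTwo.conjHom_apply]
      have := (mem_center_iff.mp hv) (g : G)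
      rw [this]; group
  -- `p ∤ |V|`
  have hpV : ¬ p ∣ Nat.card ↥V := by
    intro hd
    obtain ⟨v, hv⟩ := exists_prime_orderOf_dvd_card' p hd
    have h1 : (orderOf (v : G)).Coprime p := v.2.2.2
    rw [Subgroup.orderOf_coe, hv] at h1
    exact hp.out.one_lt.ne' ((Nat.coprime_self p).mp h1)
  -- elements of `V \\ F`
  have hexV : ∀ r : ℕ, NcPrime G p r → ∃ v : ↥V, v ∉ F ∧ ∃ e : ℕ, v ^ r ^ e = 1 := by
    intro r hr
    obtain ⟨t, htC, ⟨j, hj⟩, htc⟩ := exists_nc_of_ncPrime h hr hx hxp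
    have htp : (orderOf t).Coprime p := coprime_of_prime_pow hr.1 hr.2.1 hj
    refine ⟨⟨t, mem_Breg_of_reg h h2 hx hxp htC htp⟩, htc, j, ?_⟩
    apply Subtype.ext
    rw [Subgroup.coe_pow, Subgroup.coe_one, ← hj]
    exact pow_orderOf_eq_one t
  obtain ⟨r₁, r₂, hr12, hr₁, hr₂⟩ := h2
  obtain ⟨v₁, hv₁, c₁, ho₁⟩ := hexV r₁ hr₁
  obtain ⟨v₂, hv₂, c₂, ho₂⟩ := hexV r₂ hr₂
  have h2' : HasTwo G p := ⟨r₁, r₂, hr12, hr₁, hr₂⟩
  have hsq : ∀ t : ℕ, t.Prime → t ≠ p → t ∣ Nat.card ψ.range →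
      ¬ t ^ 2 ∣ Nat.card ψ.range ∧ ∃ v : ↥V, v ∉ F ∧ ∃ e : ℕ, v ^ t ^ e = 1 := by
    intro t ht htp htK
    rw [hcardK] at htK ⊢
    have htm : t ∣ m := htK.trans hkm
    refine ⟨fun hd => not_sq_dvd h h2' ht htp (hd.trans hkm), ?_⟩
    exact hexV t (ncPrime_of_dvd h h2' ht htp htm)
  have hsK : s ∣ Nat.card ψ.range := by
    rw [hcardK]
    have : Fact s.Prime := ⟨hs⟩
    exact dvd_relIndex_normalizer h h2' hsp hsm hx hxp
  have hs'K : s' ∣ Nat.card ψ.range := by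
    rw [hcardK]
    have : Fact s'.Prime := ⟨hs'⟩
    exact dvd_relIndex_normalizer h h2' hs'p hs'm hx hxp
  exact prime_unique' hVcomm ψ.range.subtype F hfix p hpV r₁ r₂ hr₁.1 hr₂.1 hr12 v₁ v₂ hv₁ hv₂ c₁ c₂
    ho₁ ho₂ hsq hs hs' hsp hs'p hsK hs'K

end Cfsg.Agent.Helper8.PReg
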