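import Mathlib
import Cfsg.Agent.Helper8.PRegE

set_option autoImplicit false
set_option linter.unusedSectionVars false

/-!
Groups with two `p`-regular class sizes `1` and `m`, where a prime `q ≠ p` divides `m`: all
centralizers of noncentral `p`-regular elements are conjugate, and none of them is normal.
-/

namespace Cfsg.Agent.Helper8.PReg

open Subgroup
open Cfsg.Agent.Helper4

variable {G : Type*} [Group G] [Finite G] {p m : ℕ} [hp : Fact p.Prime]
  (h : ∀ x : G, (orderOf x).Coprime p →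
    (centralizer ({x} : Set G)).index = 1 ∨ (centralizer ({x} : Set G)).index = m)

include h

omit h hp [Finite G] in
theorem conj_nc {g x : G} (hx : x ∉ center G) : g * x * g⁻¹ ∉ center G :=
  fun hc => hx ((conj_mem_center_iff g x).mp hc)

omit h hp [Finite G] in
theorem conj_reg {g x : G} (hxp : (orderOf x).Coprime p) : (orderOf (g * x * g⁻¹)).Coprime p := by
  rw [orderOf_conj]; exact hxp

/-- a Sylow `r`-subgroup lies in a conjugate of `C(x)` when `r ∤ m` -/
theorem exists_sylow_le_cent_conj {r : ℕ} [Fact r.Prime] (hrm : ¬ r ∣ m) (R : Sylow r G) {x : G}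
    (hx : x ∉ center G) (hxp : (orderOf x).Coprime p) :
    ∃ g : G, (R : Subgroup G) ≤ centralizer ({g * x * g⁻¹} : Set G) := by
  classical
  set C := centralizer ({x} : Set G) with hC
  have hcard : ¬ r ∣ Nat.card (G ⧸ C) := by
    have : Nat.card (G ⧸ C) = C.index := rfl
    rw [this, idx_of_nc h hx hxp]
    exact hrm
  obtain ⟨a, ha⟩ := R.isPGroup'.nonempty_fixed_point_of_prime_not_dvd_card (G ⧸ C) hcard
  induction a using QuotientGroup.induction_on with
  | H g =>
    refine ⟨g, ?_⟩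
    intro t ht
    have h1 : (⟨t, ht⟩ : ↥(R : Subgroup G)) • (g : G ⧸ C) = (g : G ⧸ C) := ha ⟨t, ht⟩
    have h2 : ((t * g : G) : G ⧸ C) = (g : G ⧸ C) := h1
    rw [QuotientGroup.eq] at h2
    -- `(t g)⁻¹ g ∈ C`
    rw [mem_centralizer_conj_iff]
    have h3 : g⁻¹ * t * g = ((t * g)⁻¹ * g)⁻¹ := by group
    rw [h3]
    exact inv_mem h2

/-- (D1): the centralizers of noncentral `p`-regular elements are conjugate. -/
theorem cent_conj (h2 : HasTwo G p) {q : ℕ} (hq : q.Prime) (hqp : q ≠ p) (hqm : q ∣ m) {x y : G}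
    (hx : x ∉ center G) (hxp : (orderOf x).Coprime p) (hy : y ∉ center G)
    (hyp : (orderOf y).Coprime p) :
    ∃ k : G, centralizer ({y} : Set G) = centralizer ({k * x * k⁻¹} : Set G) := by
  obtain ⟨r, hrq, hr⟩ := h2.exists_ne q
  have hrP : r.Prime := hr.1
  have : Fact r.Prime := ⟨hrP⟩
  have hrm : ¬ r ∣ m := fun hd => hrq (prime_dvd_unique h h2 hrP hq hr.2.1 hqp hd hqm)
  obtain ⟨-, hrp, y₀, hy₀, k₀, hk₀⟩ := hr
  obtain ⟨R, hR⟩ := exists_sylow_mem r y₀ k₀ hk₀
  have hy₀p : (orderOf y₀).Coprime p := coprime_of_prime_pow hrP hrp hk₀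
  obtain ⟨g, hg⟩ := exists_sylow_le_cent_conj h hrm R hx hxp
  obtain ⟨g', hg'⟩ := exists_sylow_le_cent_conj h hrm R hy hyp
  have e1 := cent_eq_of_mem_cent h h2 (conj_nc (g := g) hx) (conj_reg (g := g) hxp) (hg hR) hy₀ hy₀p
  have e2 := cent_eq_of_mem_cent h h2 (conj_nc (g := g') hy) (conj_reg (g := g') hyp) (hg' hR) hy₀ hy₀p
  have e3 : centralizer ({g * x * g⁻¹} : Set G) = centralizer ({g' * y * g'⁻¹} : Set G) :=
    e1.symm.trans e2
  refine ⟨g'⁻¹ * g, ?_⟩
  ext c
  have h1 : c ∈ centralizer ({y} : Set G) ↔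
      g' * c * g'⁻¹ ∈ centralizer ({g' * y * g'⁻¹} : Set G) := by
    rw [mem_centralizer_conj_iff]
    have : g'⁻¹ * (g' * c * g'⁻¹) * g' = c := by group
    rw [this]
  rw [h1, ← e3, mem_centralizer_conj_iff, mem_centralizer_conj_iff]
  have : g⁻¹ * (g' * c * g'⁻¹) * g = (g'⁻¹ * g)⁻¹ * c * (g'⁻¹ * g) := by group
  rw [this]

/-- (D2): no centralizer of a noncentral `p`-regular element is normal. -/
theorem normalizer_cent_ne_top (h2 : HasTwo G p) {q : ℕ} (hq : q.Prime) (hqp : q ≠ p) (hqm : q ∣ m)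
    {x : G} (hx : x ∉ center G) (hxp : (orderOf x).Coprime p) :
    normalizer (centralizer ({x} : Set G) : Set G) ≠ ⊤ := by
  intro htop
  have : Fact q.Prime := ⟨hq⟩
  have hconj : ∀ k : G, centralizer ({k * x * k⁻¹} : Set G) = centralizer ({x} : Set G) := by
    intro k
    have hk : k⁻¹ ∈ normalizer (centralizer ({x} : Set G) : Set G) := by rw [htop]; exact mem_top _
    ext c
    rw [mem_centralizer_conj_iff]
    have := (mem_normalizer_iff.mp hk c)
    rw [inv_inv] at this
    exact this.symm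
  let Q : Sylow q G := default
  have hQ : (Q : Subgroup G) ≤ centralizer ({x} : Set G) := by
    intro t ht
    obtain ⟨j, hj⟩ := exists_orderOf_of_isPGroup q (Q : Subgroup G) Q.isPGroup' ht
    have htp : (orderOf t).Coprime p := coprime_of_prime_pow hq hqp hj
    by_cases htc : t ∈ center G
    · exact center_le_centralizer _ htc
    · obtain ⟨k, hk⟩ := cent_conj h h2 hq hqp hqm hx hxp htc htp
      rw [hconj k] at hk
      rw [← hk]
      exact mem_centralizer_singleton_iff.mpr rfl
  have h3 := index_dvd_of_le hQ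
  rw [idx_of_nc h hx hxp] at h3
  exact Q.not_dvd_index (hqm.trans h3)

/-- consequently some conjugate of `x` has a different centralizer -/
theorem exists_conj_cent_ne (h2 : HasTwo G p) {q : ℕ} (hq : q.Prime) (hqp : q ≠ p) (hqm : q ∣ m)
    {x : G} (hx : x ∉ center G) (hxp : (orderOf x).Coprime p) :
    ∃ g : G, centralizer ({g * x * g⁻¹} : Set G) ≠ centralizer ({x} : Set G) := by
  by_contra hcon
  push Not at hcon
  apply normalizer_cent_ne_top h h2 hq hqp hqm hx hxp
  rw [eq_top_iff]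
  intro g _
  exact mem_normalizer_of_cent_conj_eq (hcon g)

end Cfsg.Agent.Helper8.PReg
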