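import Mathlib
import Cfsg.Agent.Helper8.PRegA

set_option autoImplicit false
set_option linter.unusedSectionVars false

/-!
Coprime action: for a normal `p`-subgroup `U` and a `p`-regular element `x`,
`C_{G/U}(xU) = C_G(x) U / U`.
-/

namespace Cfsg.Agent.Helper8.PReg

open Subgroup
open Cfsg.Agent.Helper4

variable {G : Type*} [Group G] [Finite G] {p : ℕ} [hp : Fact p.Prime]
  (U : Subgroup G) [hUn : U.Normal] (hU : IsPGroup p U)

include hU

/-- the prime power case, inside a subgroup `H` -/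
theorem cq_base (s : ℕ) [hs : Fact s.Prime] (hsp : s ≠ p) (H : Subgroup G) {y g : G} (k : ℕ)
    (hy : orderOf y = s ^ k) (hyH : y ∈ H) (hgH : g ∈ H)
    (hcomm : Commute (QuotientGroup.mk' U g) (QuotientGroup.mk' U y)) :
    ∃ c u : G, c ∈ centralizer ({y} : Set G) ∧ c ∈ H ∧ u ∈ U ∧ u ∈ H ∧ g = c * u := by
  classical
  set f := QuotientGroup.mk' U with hf
  have hker : ∀ z : G, f z = 1 ↔ z ∈ U := fun z => QuotientGroup.eq_one_iff z
  -- the set `g (U ∩ H)`
  let Ω : Type _ := {t : G // t ∈ H ∧ g⁻¹ * t ∈ U}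
  have hzH : zpowers y ≤ H := zpowers_le.mpr hyH
  have hzcomm : ∀ z ∈ zpowers y, Commute (f g) (f z) := by
    intro z hz
    obtain ⟨i, rfl⟩ := mem_zpowers_iff.mp hz
    rw [map_zpow]
    exact hcomm.zpow_right i
  have hstab : ∀ z ∈ zpowers y, ∀ t : Ω, z * t.1 * z⁻¹ ∈ H ∧ g⁻¹ * (z * t.1 * z⁻¹) ∈ U := by
    intro z hz t
    refine ⟨H.mul_mem (H.mul_mem (hzH hz) t.2.1) (H.inv_mem (hzH hz)), ?_⟩
    rw [← hker]
    have ht : f t.1 = f g := by
      have h1 := (hker _).mpr t.2.2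
      rw [map_mul, map_inv] at h1
      exact (inv_mul_eq_one.mp h1).symm
    rw [map_mul, map_mul, map_mul, map_inv, map_inv, ht, (hzcomm z hz).symm.eq]
    group
  let _ : MulAction (zpowers y) Ω :=
    { smul := fun z t => ⟨(z : G) * t.1 * (z : G)⁻¹, hstab z z.2 t⟩
      one_smul := fun t => Subtype.ext (by
        change ((1 : zpowers y) : G) * t.1 * ((1 : zpowers y) : G)⁻¹ = t.1
        rw [Subgroup.coe_one]; group)
      mul_smul := fun z z' t => Subtype.ext (by
        change ((z * z' : zpowers y) : G) * t.1 * ((z * z' : zpowers y) : G)⁻¹ =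
          (z : G) * ((z' : G) * t.1 * (z' : G)⁻¹) * (z : G)⁻¹
        rw [Subgroup.coe_mul]; group) }
  have hZp : IsPGroup s (zpowers y) := by
    apply IsPGroup.of_card (n := k)
    rw [Nat.card_zpowers, hy]
  -- cardinality of `Ω`
  have hΩ : Nat.card Ω = Nat.card ↥(U ⊓ H : Subgroup G) := by
    apply Nat.card_congr
    refine ⟨fun t => ⟨g⁻¹ * t.1, Subgroup.mem_inf.mpr ⟨t.2.2, H.mul_mem (H.inv_mem hgH) t.2.1⟩⟩,
      fun u => ⟨g * u.1, H.mul_mem hgH (Subgroup.mem_inf.mp u.2).2, by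
        have : g⁻¹ * (g * u.1) = u.1 := by group
        rw [this]; exact (Subgroup.mem_inf.mp u.2).1⟩, ?_, ?_⟩
    · intro t
      apply Subtype.ext
      change g * (g⁻¹ * t.1) = t.1
      group
    · intro u
      apply Subtype.ext
      change g⁻¹ * (g * u.1) = u.1
      group
  have hcard : ¬ s ∣ Nat.card Ω := by
    rw [hΩ]
    obtain ⟨a, ha⟩ := (hU.to_le inf_le_left : IsPGroup p ↥(U ⊓ H : Subgroup G)).exists_card_eq
    rw [ha]
    intro hd
    have := hs.out.dvd_of_dvd_pow hd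
    exact hsp ((Nat.prime_dvd_prime_iff_eq hs.out hp.out).mp this)
  have : Finite Ω := Subtype.finite
  obtain ⟨t, ht⟩ := hZp.nonempty_fixed_point_of_prime_not_dvd_card Ω hcard
  have hty : y * t.1 * y⁻¹ = t.1 := by
    have := ht ⟨y, mem_zpowers y⟩
    exact congrArg Subtype.val this
  refine ⟨t.1, (t.1)⁻¹ * g, ?_, t.2.1, ?_, mul_mem (inv_mem t.2.1) hgH, by group⟩
  · rw [mem_centralizer_singleton_iff]
    calc t.1 * y = y⁻¹ * (y * t.1 * y⁻¹) * y * y := by group
      _ = y⁻¹ * t.1 * y * y := by rw [hty]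
      _ = y * t.1 := by
        have h2 : t.1 * y = y * t.1 := by
          calc t.1 * y = (y * t.1 * y⁻¹) * y := by rw [hty]
            _ = y * t.1 := by group
        calc y⁻¹ * t.1 * y * y = y⁻¹ * (t.1 * y) * y := by group
          _ = y⁻¹ * (y * t.1) * y := by rw [h2]
          _ = t.1 * y := by group
          _ = y * t.1 := h2
  · have h1 : (t.1)⁻¹ * g = (g⁻¹ * t.1)⁻¹ := by group
    rw [h1]
    exact inv_mem t.2.2

/-- the general case -/
theorem cq_gen : ∀ (n : ℕ) (H : Subgroup G) (x g : G), orderOf x = n → n.Coprime p → x ∈ H → g ∈ H →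
    Commute (QuotientGroup.mk' U g) (QuotientGroup.mk' U x) →
    ∃ c u : G, c ∈ centralizer ({x} : Set G) ∧ c ∈ H ∧ u ∈ U ∧ u ∈ H ∧ g = c * u := by
  intro n
  induction n using Nat.strong_induction_on with
  | _ n ih =>
    intro H x g hn hnp hxH hgH hcomm
    set f := QuotientGroup.mk' U with hf
    have hker : ∀ z : G, f z = 1 ↔ z ∈ U := fun z => QuotientGroup.eq_one_iff z
    by_cases hx1 : x = 1
    · refine ⟨g, 1, ?_, hgH, one_mem _, one_mem _, by rw [mul_one]⟩
      rw [hx1, mem_centralizer_singleton_iff, mul_one, one_mul]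
    have hn1 : orderOf x ≠ 1 := fun h1 => hx1 (orderOf_eq_one_iff.mp h1)
    obtain ⟨s, hs, hsd⟩ := Nat.exists_prime_and_dvd hn1
    have : Fact s.Prime := ⟨hs⟩
    have hsp : s ≠ p := by
      rintro rfl
      rw [hn] at hsd
      have := Nat.Coprime.eq_one_of_dvd hnp.symm hsd
      exact hs.one_lt.ne' this
    obtain ⟨y, z, hy, hz, ⟨k, hk⟩, hzs, hyz⟩ := ItoTwo.exists_parts s hs x
    have hzle : zpowers x ≤ H := zpowers_le.mpr hxH
    have hpow : ∀ t ∈ zpowers x, Commute (f g) (f t) := by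
      intro t ht
      obtain ⟨i, rfl⟩ := mem_zpowers_iff.mp ht
      rw [map_zpow]
      exact hcomm.zpow_right i
    have hlt : orderOf z < n := by
      rw [← hn]
      have h1 : orderOf z ∣ orderOf x := orderOf_dvd_of_mem_zpowers hz
      have h2 : orderOf z ≠ orderOf x := fun h2 => hzs (h2 ▸ hsd)
      exact lt_of_le_of_ne (Nat.le_of_dvd (orderOf_pos x) h1) h2
    have hzp : (orderOf z).Coprime p :=
      Nat.Coprime.coprime_dvd_left (orderOf_dvd_of_mem_zpowers hz) (hn ▸ hnp)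
    obtain ⟨c, u, hcz, hcH, huU, huH, hgcu⟩ :=
      ih (orderOf z) hlt H z g rfl hzp (hzle hz) hgH (hpow z hz)
    have hfc : f c = f g := by
      have h1 : f u = 1 := (hker u).mpr huU
      rw [hgcu, map_mul, h1, mul_one]
    have hcy : Commute (f c) (f y) := by rw [hfc]; exact hpow y hy
    have hyz' : y * z = z * y := by
      obtain ⟨i, rfl⟩ := mem_zpowers_iff.mp hy
      obtain ⟨j, rfl⟩ := mem_zpowers_iff.mp hz
      exact zpow_mul_comm x i j
    have hyH' : y ∈ H ⊓ centralizer ({z} : Set G) :=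
      Subgroup.mem_inf.mpr ⟨hzle hy, mem_centralizer_singleton_iff.mpr hyz'⟩
    have hcH' : c ∈ H ⊓ centralizer ({z} : Set G) := Subgroup.mem_inf.mpr ⟨hcH, hcz⟩
    obtain ⟨c', u', hc'y, hc'H', hu'U, hu'H', hcc'⟩ :=
      cq_base U hU s hsp (H ⊓ centralizer ({z} : Set G)) k hk hyH' hcH' hcy
    refine ⟨c', u' * u, ?_, (Subgroup.mem_inf.mp hc'H').1, mul_mem hu'U huU,
      H.mul_mem (Subgroup.mem_inf.mp hu'H').1 huH, by rw [hgcu, hcc']; group⟩
    rw [mem_centralizer_singleton_iff] at hc'y ⊢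
    have hc'z : c' * z = z * c' := mem_centralizer_singleton_iff.mp (Subgroup.mem_inf.mp hc'H').2
    rw [← hyz, ← mul_assoc, hc'y, mul_assoc, hc'z, mul_assoc]

/-- **coprime action**: `C_{G/U}(xU) = C_G(x) U / U` for a `p`-regular element `x`. -/
theorem centralizer_mk_eq_map {x : G} (hxp : (orderOf x).Coprime p) :
    centralizer ({QuotientGroup.mk' U x} : Set (G ⧸ U)) =
      (centralizer ({x} : Set G)).map (QuotientGroup.mk' U) := by
  apply le_antisymm
  · intro gb hgb
    obtain ⟨g, rfl⟩ := QuotientGroup.mk'_surjective U gb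
    rw [mem_centralizer_singleton_iff] at hgb
    obtain ⟨c, u, hc, -, hu, -, hg⟩ :=
      cq_gen U hU (orderOf x) ⊤ x g rfl hxp (mem_top _) (mem_top _) hgb
    refine ⟨c, hc, ?_⟩
    have h1 : QuotientGroup.mk' U u = 1 := (QuotientGroup.eq_one_iff u).mpr hu
    rw [hg, map_mul, h1, mul_one]
  · rintro _ ⟨c, hc, rfl⟩
    have hc' : c * x = x * c := mem_centralizer_singleton_iff.mp hc
    rw [mem_centralizer_singleton_iff, ← map_mul, ← map_mul, hc']

theorem index_centralizer_mk {x : G} (hxp : (orderOf x).Coprime p) :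
    (centralizer ({QuotientGroup.mk' U x} : Set (G ⧸ U))).index =
      (centralizer ({x} : Set G) ⊔ U).index := by
  rw [centralizer_mk_eq_map U hU hxp, Subgroup.index_map, QuotientGroup.ker_mk',
    MonoidHom.range_eq_top.mpr (QuotientGroup.mk'_surjective U), index_top, mul_one]

omit hU in
/-- lifting `p`-regular elements -/
theorem exists_reg_lift (yb : G ⧸ U) (hyb : (orderOf yb).Coprime p) :
    ∃ y : G, QuotientGroup.mk' U y = yb ∧ (orderOf y).Coprime p := by
  obtain ⟨y₀, rfl⟩ := QuotientGroup.mk'_surjective U yb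
  obtain ⟨a, b, ha, hb, ⟨k, hk⟩, hbp, hab⟩ := ItoTwo.exists_parts p hp.out y₀
  set f := QuotientGroup.mk' U with hf
  have ha1 : f a = 1 := by
    have h1 : orderOf (f a) ∣ p ^ k := hk ▸ orderOf_map_dvd f a
    have h2 : orderOf (f a) ∣ orderOf (f y₀) := by
      obtain ⟨i, rfl⟩ := mem_zpowers_iff.mp ha
      rw [map_zpow]
      exact orderOf_dvd_of_mem_zpowers (zpow_mem (mem_zpowers _) i)
    have hcop : Nat.Coprime (p ^ k) (orderOf (f y₀)) := Nat.Coprime.pow_left k hyb.symm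
    exact orderOf_eq_one_iff.mp (Nat.eq_one_of_dvd_coprimes hcop h1 h2)
  refine ⟨b, ?_, (Nat.Prime.coprime_iff_not_dvd hp.out).mpr hbp |>.symm⟩
  rw [← hab, map_mul, ha1, one_mul]

end Cfsg.Agent.Helper8.PReg
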