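import Mathlib
import Cfsg.Agent.Helper8.PRegF
import Cfsg.Agent.Helper8.PRegQ
import Cfsg.Agent.Helper5.ProdCard

set_option autoImplicit false
set_option linter.unusedSectionVars false

/-!
Groups with two `p`-regular class sizes `1` and `m`, where a prime `q ≠ p` divides `m`: reduction
modulo a normal `p`-subgroup; `O_p(G) = 1` in a minimal counterexample.
-/

namespace Cfsg.Agent.Helper8.PReg

open Subgroup
open Cfsg.Agent.Helper4
open scoped Pointwise

universe u

/-- the induction hypothesis: the theorem for groups of order less than `n` -/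
def SmallerOK (p n : ℕ) : Prop :=
  ∀ (G' : Type u) [Group G'] [Finite G'], Nat.card G' < n → ∀ m' : ℕ,
    (∀ x : G', (orderOf x).Coprime p →
      (centralizer ({x} : Set G')).index = 1 ∨ (centralizer ({x} : Set G')).index = m') →
    HasTwo G' p → ∃ k : ℕ, m' = p ^ k

variable {G : Type u} [Group G]

theorem map_conj_normal (U : Subgroup G) [hUn : U.Normal] (k : G) :
    U.map (MulAut.conj k).toMonoidHom = U := by
  ext g
  rw [Subgroup.mem_map]
  constructor
  · rintro ⟨u, hu, rfl⟩
    simp only [MulEquiv.coe_toMonoidHom, MulAut.conj_apply]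
    exact hUn.conj_mem u hu k
  · intro hg
    refine ⟨k⁻¹ * g * k, ?_, ?_⟩
    · have := hUn.conj_mem g hg k⁻¹
      rwa [inv_inv] at this
    · simp only [MulEquiv.coe_toMonoidHom, MulAut.conj_apply]
      group

theorem card_mul_relIndex' [Finite G] {H K : Subgroup G} (hHK : H ≤ K) :
    Nat.card H * H.relIndex K = Nat.card K := by
  have h1 := (H.subgroupOf K).card_mul_index
  rw [Nat.card_congr (subgroupOfEquivOfLe hHK).toEquiv] at h1
  exact h1

/-- `|C U : C|` divides `|U|` for a normal subgroup `U` -/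
theorem relIndex_sup_dvd_card [Finite G] (C U : Subgroup G) [hUn : U.Normal] :
    C.relIndex (C ⊔ U) ∣ Nat.card U := by
  have h1 := Cfsg.Agent.Helper5.card_mul_set_mul_card_inf C U
  have hset : ((C : Set G) * (U : Set G)) = ((C ⊔ U : Subgroup G) : Set G) :=
    (Subgroup.mul_normal C U).symm
  rw [hset] at h1
  have h2 := card_mul_relIndex' (le_sup_left : C ≤ C ⊔ U)
  have h3 : Nat.card ↥(C ⊔ U : Subgroup G) = Nat.card ((C ⊔ U : Subgroup G) : Set G) := rfl
  rw [← h3, ← h2] at h1
  have hC0 : 0 < Nat.card C := Nat.card_pos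
  have h4 : C.relIndex (C ⊔ U) * Nat.card ↥(C ⊓ U) = Nat.card U := by
    apply Nat.eq_of_mul_eq_mul_left hC0
    rw [← h1]; ring
  exact Dvd.intro _ h4

variable [Finite G] {p m : ℕ} [hp : Fact p.Prime]
  (h : ∀ x : G, (orderOf x).Coprime p →
    (centralizer ({x} : Set G)).index = 1 ∨ (centralizer ({x} : Set G)).index = m)

include h

/-- (E): in a minimal counterexample every normal `p`-subgroup is trivial. -/
theorem normal_pgroup_eq_bot (h2 : HasTwo G p) {q : ℕ} (hq : q.Prime) (hqp : q ≠ p) (hqm : q ∣ m)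
    (ih : SmallerOK.{u} p (Nat.card G)) (U : Subgroup G) [hUn : U.Normal] (hU : IsPGroup p U) :
    U = ⊥ := by
  classical
  by_contra hUb
  obtain ⟨x₀, hx₀, hx₀p⟩ := HasTwo.exists_nc h h2
  set mh := (centralizer ({x₀} : Set G) ⊔ U).index with hmh
  set f := QuotientGroup.mk' U with hf
  -- (Q4)
  have hQ4 : ∀ x : G, x ∉ center G → (orderOf x).Coprime p →
      (centralizer ({x} : Set G) ⊔ U).index = mh := by
    intro x hx hxp
    obtain ⟨k, hk⟩ := cent_conj h h2 hq hqp hqm hx₀ hx₀p hx hxp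
    rw [hk, centralizer_conj_eq_map]
    have h1 : (centralizer ({x₀} : Set G)).map (MulAut.conj k).toMonoidHom ⊔ U =
        (centralizer ({x₀} : Set G) ⊔ U).map (MulAut.conj k).toMonoidHom := by
      rw [Subgroup.map_sup, map_conj_normal U k]
    rw [h1]
    exact Subgroup.index_map_equiv _ (MulAut.conj k)
  -- (Q6)
  have hqmh : q ∣ mh := by
    have h1 := relIndex_mul_index (le_sup_left : centralizer ({x₀} : Set G) ≤ centralizer ({x₀} : Set G) ⊔ U)
    rw [idx_of_nc h hx₀ hx₀p] at h1
    rw [← h1] at hqm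
    rcases (Nat.Prime.dvd_mul hq).mp hqm with h3 | h3
    · exfalso
      have h4 := h3.trans (relIndex_sup_dvd_card (centralizer ({x₀} : Set G)) U)
      obtain ⟨a, ha⟩ := hU.exists_card_eq
      rw [ha] at h4
      exact hqp ((Nat.prime_dvd_prime_iff_eq hq hp.out).mp (hq.dvd_of_dvd_pow h4))
    · exact h3
  have hmh1 : mh ≠ 1 := by
    intro h1
    rw [h1] at hqmh
    exact hq.one_lt.ne' (Nat.dvd_one.mp hqmh)
  -- the hypothesis for `G ⧸ U`
  have hyp : ∀ yb : G ⧸ U, (orderOf yb).Coprime p →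
      (centralizer ({yb} : Set (G ⧸ U))).index = 1 ∨ (centralizer ({yb} : Set (G ⧸ U))).index = mh := by
    intro yb hyb
    obtain ⟨y, rfl, hyp⟩ := exists_reg_lift U yb hyb
    by_cases hyc : y ∈ center G
    · left
      rw [ItoTwo.index_eq_one_iff, mem_center_iff]
      intro gb
      obtain ⟨g, rfl⟩ := QuotientGroup.mk'_surjective U gb
      rw [← map_mul, ← map_mul, (mem_center_iff.mp hyc) g]
    · right
      rw [index_centralizer_mk U hU hyp]
      exact hQ4 y hyc hyp
  -- two primes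
  have hNc : ∀ s : ℕ, NcPrime G p s → NcPrime (G ⧸ U) p s := by
    rintro s ⟨hsP, hsp, y, hy, k, hk⟩
    have hyp' : (orderOf y).Coprime p := coprime_of_prime_pow hsP hsp hk
    refine ⟨hsP, hsp, f y, ?_, ?_⟩
    · intro hc
      rw [← ItoTwo.index_eq_one_iff, index_centralizer_mk U hU hyp', hQ4 y hy hyp'] at hc
      exact hmh1 hc
    · have h1 : orderOf (f y) ∣ s ^ k := hk ▸ orderOf_map_dvd f y
      obtain ⟨j, -, hj⟩ := (Nat.dvd_prime_pow hsP).mp h1
      exact ⟨j, hj⟩
  have h2' : HasTwo (G ⧸ U) p := by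
    obtain ⟨s₁, s₂, h12, h1, h3⟩ := h2
    exact ⟨s₁, s₂, h12, hNc s₁ h1, hNc s₂ h3⟩
  -- the order decreases
  have hcard : Nat.card (G ⧸ U) < Nat.card G := by
    have h1 := Subgroup.card_eq_card_quotient_mul_card_subgroup U
    have h3 : 1 < Nat.card U := by
      rcases Nat.lt_or_ge 1 (Nat.card U) with h4 | h4
      · exact h4
      · exfalso
        have h5 : Nat.card U = 1 := le_antisymm h4 Nat.card_pos
        exact hUb (Subgroup.card_eq_one.mp h5)
    have h4 : 0 < Nat.card (G ⧸ U) := Nat.card_pos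
    rw [h1]
    nlinarith
  obtain ⟨k, hk⟩ := ih (G ⧸ U) hcard mh hyp h2'
  rw [hk] at hqmh
  exact hqp ((Nat.prime_dvd_prime_iff_eq hq hp.out).mp (hq.dvd_of_dvd_pow hqmh))

end Cfsg.Agent.Helper8.PReg
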