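import Mathlib
import Cfsg.Agent.Helper8.PRegR

set_option autoImplicit false
set_option linter.unusedSectionVars false

/-!
Two generic lemmas for the endgame of the two `p`-regular class sizes theorem: the `p`-torsion of
an abelian normal subgroup, and the order of a central commutator.
-/

namespace Cfsg.Agent.Helper8.PReg

open Subgroup

variable {G : Type*} [Group G]

/-- an abelian normal subgroup containing a nontrivial `p`-element contains a nontrivial normal
`p`-subgroup -/
theorem exists_normal_pgroup_of_comm (p : ℕ) (A : Subgroup G) [hA : A.Normal]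
    (hAc : ∀ a ∈ A, ∀ b ∈ A, a * b = b * a) {a : G} (ha : a ∈ A) (ha1 : a ≠ 1) {k : ℕ}
    (hak : a ^ p ^ k = 1) : ∃ U : Subgroup G, U.Normal ∧ IsPGroup p U ∧ U ≠ ⊥ := by
  let U : Subgroup G :=
    { carrier := {x | x ∈ A ∧ ∃ j : ℕ, x ^ p ^ j = 1}
      one_mem' := ⟨one_mem _, 0, one_pow _⟩
      mul_mem' := by
        rintro x y ⟨hx, i, hxi⟩ ⟨hy, j, hyj⟩
        refine ⟨mul_mem hx hy, i + j, ?_⟩
        rw [(show Commute x y from hAc x hx y hy).mul_pow, pow_add, pow_mul, hxi, one_pow,
          one_mul, mul_comm (p ^ i), pow_mul, hyj, one_pow]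
      inv_mem' := by
        rintro x ⟨hx, i, hxi⟩
        exact ⟨inv_mem hx, i, by rw [inv_pow, hxi, inv_one]⟩ }
  refine ⟨U, ?_, ?_, ?_⟩
  · constructor
    rintro x ⟨hx, i, hxi⟩ g
    refine ⟨hA.conj_mem x hx g, i, ?_⟩
    rw [conj_pow, hxi, mul_one, mul_inv_cancel]
  · rintro ⟨x, hx, i, hxi⟩
    refine ⟨i, ?_⟩
    apply Subtype.ext
    simpa using hxi
  · intro hU
    have haU : a ∈ U := ⟨ha, k, hak⟩
    rw [hU, Subgroup.mem_bot] at haU
    exact ha1 haU

/-- a central commutator `[a, y]` has order dividing the order of `a` -/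
theorem comm_pow_orderOf_eq_one {a y : G} (hz : a * y * a⁻¹ * y⁻¹ ∈ center G) :
    (a * y * a⁻¹ * y⁻¹) ^ orderOf a = 1 := by
  set z := a * y * a⁻¹ * y⁻¹ with hzdef
  have hzc : ∀ g : G, Commute g z := fun g => (mem_center_iff.mp hz) g
  have hay : a * y = z * y * a := by rw [hzdef]; group
  -- `a ^ n * y = z ^ n * y * a ^ n`
  have h1 : ∀ n : ℕ, a ^ n * y = z ^ n * y * a ^ n := by
    intro n
    induction n with
    | zero => simp
    | succ n ih =>
      calc a ^ (n + 1) * y = a ^ n * (a * y) := by rw [pow_succ, mul_assoc]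
        _ = a ^ n * (z * y * a) := by rw [hay]
        _ = z * (a ^ n * y) * a := by
            rw [mul_assoc z y a, ← mul_assoc (a ^ n) z, (hzc (a ^ n)).eq]
            simp only [mul_assoc]
        _ = z * (z ^ n * y * a ^ n) * a := by rw [ih]
        _ = z ^ (n + 1) * y * a ^ (n + 1) := by
            rw [pow_succ' z n, pow_succ a n]
            simp only [mul_assoc]
  have h2 := h1 (orderOf a)
  rw [pow_orderOf_eq_one, one_mul, mul_one] at h2
  have h3 : z ^ orderOf a * y = 1 * y := by rw [one_mul]; exact h2.symm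
  exact mul_right_cancel h3

end Cfsg.Agent.Helper8.PReg
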