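import Mathlib
import Cfsg.Agent.Helper8.PRegR

set_option autoImplicit false

namespace Cfsg.Agent.Helper8.PReg

open Subgroup

variable {G : Type*} [Group G]

/-- a nontrivial solvable normal subgroup contains a nontrivial abelian subgroup which is normal
in the whole group -/
theorem exists_abelian_normal_le_of_solvable (N : Subgroup G) [hN : N.Normal]
    (hs : Group.IsSolvable N) (hne : N ≠ ⊥) :
    ∃ A : Subgroup G, A.Normal ∧ A ≤ N ∧ A ≠ ⊥ ∧ ∀ a ∈ A, ∀ b ∈ A, a * b = b * a := by
  classical
  have hex : ∃ n, derivedSeries ↥N n = ⊥ := hs.solvable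
  have h0 : Nat.find hex ≠ 0 := by
    intro h
    have := Nat.find_spec hex
    rw [h, derivedSeries_zero] at this
    apply hne
    rw [Subgroup.eq_bot_iff_forall]
    intro x hx
    have hx' : (⟨x, hx⟩ : ↥N) ∈ (⊤ : Subgroup ↥N) := Subgroup.mem_top _
    rw [this, Subgroup.mem_bot] at hx'
    exact congrArg Subtype.val hx'
  obtain ⟨k, hk⟩ := Nat.exists_eq_succ_of_ne_zero h0
  have hklt : k < Nat.find hex := by omega
  have hnek : derivedSeries ↥N k ≠ ⊥ := Nat.find_min hex hklt
  have hbot : derivedSeries ↥N (k + 1) = ⊥ := by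
    have := Nat.find_spec hex
    rwa [hk] at this
  have hchar : (derivedSeries ↥N k).Characteristic := derivedSeries_characteristic ↥N k
  refine ⟨(derivedSeries ↥N k).map N.subtype, ConjAct.normal_of_characteristic_of_normal,
    Subgroup.map_subtype_le _, ?_, ?_⟩
  · intro hmap
    apply hnek
    rw [Subgroup.eq_bot_iff_forall]
    intro x hx
    have : N.subtype x ∈ (derivedSeries ↥N k).map N.subtype := Subgroup.mem_map_of_mem _ hx
    rw [hmap, Subgroup.mem_bot] at this
    exact Subtype.ext this
  · rintro _ ⟨a, ha, rfl⟩ _ ⟨b, hb, rfl⟩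
    rw [derivedSeries_succ, Subgroup.commutator_eq_bot_iff_le_centralizer] at hbot
    have := (Subgroup.mem_centralizer_iff.1 (hbot ha)) b hb
    have h2 := congrArg N.subtype this
    rw [map_mul, map_mul] at h2
    exact h2.symm

end Cfsg.Agent.Helper8.PReg
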