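import Mathlib
import Cfsg.Agent.Helper8.PRegR
import Cfsg.Agent.Helper4.ClassSize

set_option autoImplicit false
set_option linter.unusedSectionVars false
set_option linter.unusedVariables false

/-!
S4033, PKG-C (K1): in a group with two `p`-regular class sizes `1` and `m`, with a prime `q ≠ p`
dividing `m`, the quotient `G / Z(G)` has a nontrivial class of `p`-power size.
(file by helper5, in helper8's namespace as agreed)
-/

namespace Cfsg.Agent.Helper8.PReg

open Subgroup

universe u

section hyp

variable {G : Type u} [Group G] [Finite G] {p m : ℕ} [hp : Fact p.Prime]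
  (h : ∀ x : G, (orderOf x).Coprime p →
    (centralizer ({x} : Set G)).index = 1 ∨ (centralizer ({x} : Set G)).index = m)

include h

/-- PKG-C (K1). -/
theorem exists_ppow_class_mk (h2 : HasTwo G p) {q : ℕ} (hq : q.Prime) (hqp : q ≠ p) (hqm : q ∣ m) :
    ∃ wb : G ⧸ center G, wb ≠ 1 ∧ ∃ k : ℕ, (ConjClasses.mk wb).carrier.ncard = p ^ k := by
  classical
  have : Fact q.Prime := ⟨hq⟩
  let Q : Sylow q G := default
  have hQZ : ¬ (Q : Subgroup G) ≤ center G := sylow_not_le_center h h2 hqm Q
  obtain ⟨w, hwQ, hwZ, -, hwc⟩ := exists_bElement q (Q : Subgroup G) Q.2 hQZ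
  obtain ⟨kw, hkw⟩ := exists_orderOf_of_isPGroup q (Q : Subgroup G) Q.2 hwQ
  have hwp : (orderOf w).Coprime p := coprime_of_prime_pow hq hqp hkw
  have hidx : (centralizer ({w} : Set G)).index = m := idx_of_nc h hwZ hwp
  set f : G →* G ⧸ center G := QuotientGroup.mk' (center G) with hf
  have hfs : Function.Surjective f := QuotientGroup.mk'_surjective (center G)
  have hker : ∀ x : G, f x = 1 ↔ x ∈ center G := fun x => QuotientGroup.eq_one_iff x
  set wb : G ⧸ center G := f w with hwb
  have hwb1 : wb ≠ 1 := fun h1 => hwZ ((hker w).mp h1)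
  set D : Subgroup G := (centralizer ({wb} : Set (G ⧸ center G))).comap f with hD
  have hDmem : ∀ g : G, g ∈ D ↔ f g * wb = wb * f g := by
    intro g
    rw [hD, Subgroup.mem_comap, Subgroup.mem_centralizer_singleton_iff]
  -- `D ⊇ C(w)`
  have hCD : centralizer ({w} : Set G) ≤ D := by
    intro g hg
    rw [Subgroup.mem_centralizer_singleton_iff] at hg
    rw [hDmem, hwb, ← map_mul, ← map_mul, hg]
  -- `D ⊇ Q`
  have hQD : (Q : Subgroup G) ≤ D := by
    intro g hg
    have h1 := hwc g hg
    have h3 : f (g * w * g⁻¹ * w⁻¹) = 1 := (hker _).mpr h1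
    rw [hDmem, hwb]
    have h4 : f g * f w = f (g * w * g⁻¹ * w⁻¹) * (f w * f g) := by
      rw [← map_mul, ← map_mul, ← map_mul]
      congr 1
      group
    rw [h4, h3, one_mul]
  have hDm : D.index ∣ m := by
    rw [← hidx]
    exact index_dvd_of_le hCD
  have hqD : ¬ q ∣ D.index := fun hd => Q.not_dvd_index (hd.trans (index_dvd_of_le hQD))
  have hD0 : D.index ≠ 0 := index_ne_zero_of_finite
  -- `D.index` is a power of `p`
  have hpow : ∃ k : ℕ, D.index = p ^ k := by
    by_cases hD1 : D.index = 1
    · exact ⟨0, by rw [hD1, pow_zero]⟩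
    · have hex : ∃ k : ℕ, 0 < k ∧ D.index = p ^ k := by
        have := (Nat.eq_prime_pow_of_unique_prime_dvd (n := D.index) (p := p) hD0 ?_)
        · refine ⟨D.index.primeFactorsList.length, ?_, this⟩
          rcases Nat.eq_zero_or_pos D.index.primeFactorsList.length with h0 | h0
          · exfalso
            rw [h0, pow_zero] at this
            exact hD1 this
          · exact h0
        · intro s hs hsD
          by_contra hsp
          have hsm : s ∣ m := hsD.trans hDm
          have hsq : s = q := prime_dvd_unique h h2 hs hq hsp hqp hsm hqm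
          exact hqD (hsq ▸ hsD)
      obtain ⟨k, -, hk⟩ := hex
      exact ⟨k, hk⟩
  obtain ⟨k, hk⟩ := hpow
  refine ⟨wb, hwb1, k, ?_⟩
  have h5 : (centralizer ({wb} : Set (G ⧸ center G))).index = D.index := by
    rw [hD, Subgroup.index_comap_of_surjective _ hfs]
  have h6 := Cfsg.Agent.Helper4.index_centralizer_eq_card_carrier wb
  rw [← hk, ← h5, h6]
  rfl

end hyp

end Cfsg.Agent.Helper8.PReg
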