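import Mathlib
import Cfsg.Agent.Helper8.PRegR

set_option autoImplicit false
set_option linter.unusedSectionVars false
set_option linter.unusedVariables false

/-!
# S4033, package E (K3; helper2): in a normal subgroup `Y` with `[Y, Y] ≤ Z(G)` the `p`-regular elements are central

Standing hypothesis: every `p`-regular class has size `1` or `m`, and there are two primes (`≠ p`) with noncentral elements of
prime power order (`HasTwo`).
-/

namespace Cfsg.Agent.Helper8.PReg

open Subgroup

universe u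

section hyp

variable {G : Type u} [Group G] [Finite G] {p m : ℕ} [hp : Fact p.Prime]
  (h : ∀ x : G, (orderOf x).Coprime p →
    (centralizer ({x} : Set G)).index = 1 ∨ (centralizer ({x} : Set G)).index = m)

omit h in
omit [Finite G] hp in
/-- membership in the centralizer of a singleton, in the form `g * x = x * g`. -/
theorem ke_mem_cent_iff {g x : G} : g ∈ centralizer ({x} : Set G) ↔ g * x = x * g := by
  rw [mem_centralizer_singleton_iff]

omit h in
omit [Finite G] hp in
/-- a conjugate of a noncentral element is noncentral. -/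
theorem ke_conj_not_mem_center {g x : G} (hx : x ∉ center G) : g * x * g⁻¹ ∉ center G := by
  intro hc
  apply hx
  have h1 : x = g⁻¹ * (g * x * g⁻¹) * g⁻¹⁻¹ := by group
  rw [h1]
  exact (Subgroup.normal_of_characteristic (center G)).conj_mem _ hc _

omit h in
omit [Finite G] hp in
/-- the order of a product of two commuting elements of `r`-power order is a power of `r`. -/
theorem ke_orderOf_mul_prime_pow {r i j : ℕ} (hr : r.Prime) {u v : G} (huv : u * v = v * u)
    (hu : orderOf u = r ^ i) (hv : orderOf v = r ^ j) : ∃ l : ℕ, orderOf (u * v) = r ^ l := by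
  have hc : Commute u v := huv
  have h1 := hc.orderOf_mul_dvd_lcm
  rw [hu, hv] at h1
  have h2 : Nat.lcm (r ^ i) (r ^ j) ∣ r ^ (max i j) :=
    Nat.lcm_dvd (pow_dvd_pow r (le_max_left i j)) (pow_dvd_pow r (le_max_right i j))
  obtain ⟨l, _, hl⟩ := (Nat.dvd_prime_pow hr).mp (h1.trans h2)
  exact ⟨l, hl⟩

include h

/-- PKG-E (K3): in a normal subgroup `Y` with `[Y, Y] ≤ Z(G)` the `p`-regular elements are central. -/
theorem reg_mem_center_of_comm_central (h2 : HasTwo G p) {q : ℕ} (hq : q.Prime) (hqp : q ≠ p)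
    (hqm : q ∣ m) (Y : Subgroup G) [hY : Y.Normal]
    (hYc : ∀ a ∈ Y, ∀ b ∈ Y, a * b * a⁻¹ * b⁻¹ ∈ center G)
    {y : G} (hy : y ∈ Y) (hyp : (orderOf y).Coprime p) : y ∈ center G := by
  by_contra hyc
  -- a noncentral power `y'` of prime power order `s ^ k`
  obtain ⟨s, hsP, y', hy'z, ⟨k, hk⟩, hy'c, hy'p, -⟩ := exists_primary h (orderOf y) y rfl hyc hyp
  have hy'Y : y' ∈ Y := (zpowers_le.mpr hy) hy'z
  -- a conjugate `y''` with a different centralizer
  obtain ⟨g, hg⟩ := exists_conj_cent_ne h h2 hq hqp hqm hy'c hy'p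
  set y'' := g * y' * g⁻¹ with hy''def
  have hy''Y : y'' ∈ Y := hY.conj_mem y' hy'Y g
  have hy''c : y'' ∉ center G := ke_conj_not_mem_center hy'c
  have hy''o : orderOf y'' = orderOf y' := by
    rw [hy''def]
    exact orderOf_conj g y'
  have hy''p : (orderOf y'').Coprime p := by rw [hy''o]; exact hy'p
  -- `y'` normalizes `C' = C(y'')`
  have hN : y' ∈ normalizer (centralizer ({y''} : Set G)) :=
    mem_normalizer_cent_of_comm_central (hYc y' hy'Y y'' hy''Y)
  -- a second prime `r ≠ s` and a noncentral `r`-element `b` of `C'`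
  obtain ⟨r, hrs, hr⟩ := h2.exists_ne s
  have hrP : r.Prime := hr.1
  have hrp : r ≠ p := hr.2.1
  obtain ⟨b, hbC, ⟨j, hj⟩, hbc⟩ := exists_nc_of_ncPrime h hr hy''c hy''p
  have hbp : (orderOf b).Coprime p := coprime_of_prime_pow hrP hrp hj
  have hCb : centralizer ({b} : Set G) = centralizer ({y''} : Set G) :=
    cent_eq_of_mem_cent h h2 hy''c hy''p hbC hbc hbp
  have hbB : b ∈ Breg p (centralizer ({y''} : Set G)) := mem_Breg_of_reg h h2 hy''c hy''p hbC hbp
  have hcbB : y' * b * y'⁻¹ ∈ Breg p (centralizer ({y''} : Set G)) := conj_mem_Breg hN hbB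
  have hbiB : b⁻¹ ∈ Breg p (centralizer ({y''} : Set G)) := inv_mem hbB
  have hz₁B : y' * b * y'⁻¹ * b⁻¹ ∈ Breg p (centralizer ({y''} : Set G)) := mul_mem hcbB hbiB
  -- orders
  have hcop_sr : ∀ i l : ℕ, (s ^ i).Coprime (r ^ l) := fun i l =>
    Nat.Coprime.pow _ _ ((Nat.coprime_primes hsP hrP).mpr (fun e => hrs e.symm))
  have ho_cb : orderOf (y' * b * y'⁻¹) = r ^ j := by rw [orderOf_conj]; exact hj
  have ho_bi : orderOf b⁻¹ = r ^ j := by rw [orderOf_inv]; exact hj
  obtain ⟨l, hl⟩ := ke_orderOf_mul_prime_pow hrP (Breg_comm hcbB hbiB) ho_cb ho_bi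
  -- the claim: `y' ∈ C'`
  have hclaim : y' ∈ centralizer ({y''} : Set G) := by
    by_cases hz₁c : y' * b * y'⁻¹ * b⁻¹ ∈ center G
    · have hcomm : y' * b = b * y' := by
        apply commute_of_comm_central_of_coprime hz₁c
        rw [hk, hj]
        exact hcop_sr k j
      rw [← hCb]
      exact ke_mem_cent_iff.mpr hcomm
    · have hCz : centralizer ({y' * b * y'⁻¹ * b⁻¹} : Set G) = centralizer ({y''} : Set G) :=
        cent_eq_of_mem_Breg h hy''c hy''p hz₁B hz₁c
      have hz₁Y : y' * b * y'⁻¹ * b⁻¹ ∈ Y := by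
        have e : y' * b * y'⁻¹ * b⁻¹ = y' * (b * y'⁻¹ * b⁻¹) := by group
        rw [e]
        exact mul_mem hy'Y (hY.conj_mem _ (inv_mem hy'Y) b)
      have hcomm : y' * (y' * b * y'⁻¹ * b⁻¹) = (y' * b * y'⁻¹ * b⁻¹) * y' := by
        apply commute_of_comm_central_of_coprime (hYc y' hy'Y _ hz₁Y)
        rw [hk, hl]
        exact hcop_sr k l
      rw [← hCz]
      exact ke_mem_cent_iff.mpr hcomm
  -- hence `C(y'') = C(y')`: contradiction
  have hy''C : y'' ∈ centralizer ({y'} : Set G) :=
    ke_mem_cent_iff.mpr (ke_mem_cent_iff.mp hclaim).symm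
  exact hg (cent_eq_of_mem_cent h h2 hy'c hy'p hy''C hy''c hy''p)

end hyp

end Cfsg.Agent.Helper8.PReg
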