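import Mathlib
import Cfsg.Agent.Helper8.PRegKA
import Cfsg.Agent.Helper8.PRegKB
import Cfsg.Agent.Helper8.PRegKC
import Cfsg.Agent.Helper8.PRegKE
import Cfsg.Agent.S4037

set_option autoImplicit false
set_option linter.unusedSectionVars false

/-!
Endgame of the two `p`-regular class sizes theorem (case of two noncentral primes): the larger
class size is a power of `p`.
-/

namespace Cfsg.Agent.Helper8.PReg

open Subgroup

universe u

section hyp

variable {G : Type u} [Group G] [Finite G] {p m : ℕ} [hp : Fact p.Prime]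
  (h : ∀ x : G, (orderOf x).Coprime p →
    (centralizer ({x} : Set G)).index = 1 ∨ (centralizer ({x} : Set G)).index = m)

include h

/-- a normal subgroup `Y`, not central, with central commutators -/
theorem exists_Y (h2 : HasTwo G p) {q : ℕ} (hq : q.Prime) (hqp : q ≠ p) (hqm : q ∣ m) :
    ∃ Y : Subgroup G, Y.Normal ∧ ¬ Y ≤ center G ∧
      ∀ a ∈ Y, ∀ b ∈ Y, a * b * a⁻¹ * b⁻¹ ∈ center G := by
  classical
  obtain ⟨wb, hwb1, k, hk⟩ := exists_ppow_class_mk h h2 hq hqp hqm
  have hsol : Group.IsSolvable ↥(normalClosure ({wb} : Set (G ⧸ center G))) :=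
    Cfsg.Agent.S4037.result wb hp.out k hk
  have hne : normalClosure ({wb} : Set (G ⧸ center G)) ≠ ⊥ := by
    intro hbot
    have hmem : wb ∈ normalClosure ({wb} : Set (G ⧸ center G)) :=
      subset_normalClosure (Set.mem_singleton wb)
    rw [hbot, Subgroup.mem_bot] at hmem
    exact hwb1 hmem
  obtain ⟨A, hAn, -, hAne, hAc⟩ :=
    exists_abelian_normal_le_of_solvable (normalClosure ({wb} : Set (G ⧸ center G))) hsol hne
  set f : G →* G ⧸ center G := QuotientGroup.mk' (center G) with hf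
  have hker : ∀ x : G, f x = 1 ↔ x ∈ center G := fun x => QuotientGroup.eq_one_iff x
  refine ⟨A.comap f, hAn.comap f, ?_, ?_⟩
  · intro hle
    apply hAne
    rw [Subgroup.eq_bot_iff_forall]
    intro ab hab
    obtain ⟨a, rfl⟩ := QuotientGroup.mk'_surjective (center G) ab
    exact (hker a).mpr (hle (Subgroup.mem_comap.mpr hab))
  · intro a ha b hb
    rw [← hker]
    have hab := hAc (f a) (Subgroup.mem_comap.mp ha) (f b) (Subgroup.mem_comap.mp hb)
    rw [map_mul, map_mul, map_mul, map_inv, map_inv, hab]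
    group

/-- the endgame: with `O_p(G) = 1` there is no prime `q ≠ p` dividing `m` -/
theorem kazarin_false (h2 : HasTwo G p) {q : ℕ} (hq : q.Prime) (hqp : q ≠ p) (hqm : q ∣ m)
    (hOp : ∀ U : Subgroup G, U.Normal → IsPGroup p U → U = ⊥) : False := by
  classical
  obtain ⟨Y, hYn, hYZ, hYc⟩ := exists_Y h h2 hq hqp hqm
  obtain ⟨y₁, hy₁Y, hy₁Z⟩ := SetLike.not_le_iff_exists.mp hYZ
  obtain ⟨a, b, ha, hb, ⟨k, hak⟩, hbp, hab⟩ := Cfsg.Agent.Helper4.ItoTwo.exists_parts p hp.out y₁
  have hzY : zpowers y₁ ≤ Y := zpowers_le.mpr hy₁Y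
  have haY : a ∈ Y := hzY ha
  have hbY : b ∈ Y := hzY hb
  have hbreg : (orderOf b).Coprime p :=
    ((Nat.Prime.coprime_iff_not_dvd hp.out).mpr hbp).symm
  have hbZ : b ∈ center G :=
    reg_mem_center_of_comm_central h h2 hq hqp hqm Y hYc hbY hbreg
  have haZ : a ∉ center G := by
    intro haZ
    apply hy₁Z
    rw [← hab]
    exact mul_mem haZ hbZ
  have hapk : a ^ p ^ k = 1 := by rw [← hak]; exact pow_orderOf_eq_one a
  -- `a` commutes with all of `Y`
  have hcomm : ∀ y ∈ Y, a * y * a⁻¹ * y⁻¹ = 1 := by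
    intro y hy
    by_contra hne
    have hz := hYc a haY y hy
    have hzp : (a * y * a⁻¹ * y⁻¹) ^ p ^ k = 1 := by
      rw [← hak]; exact comm_pow_orderOf_eq_one hz
    obtain ⟨U, hUn, hUp, hUne⟩ := exists_normal_pgroup_of_comm p (center G)
      (fun c hc d _ => ((mem_center_iff.mp hc) d).symm) hz hne hzp
    exact hUne (hOp U hUn hUp)
  have hcomm' : ∀ y ∈ Y, y * a = a * y := by
    intro y hy
    have h1 := hcomm y hy
    have h2 : a * y = (a * y * a⁻¹ * y⁻¹) * (y * a) := by group
    rw [h1, one_mul] at h2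
    exact h2.symm
  -- the centre of `Y`
  have hCn : (centralizer (Y : Set G)).Normal := inferInstance
  have hAn : (Y ⊓ centralizer (Y : Set G)).Normal := inferInstance
  have haA : a ∈ Y ⊓ centralizer (Y : Set G) := by
    refine Subgroup.mem_inf.mpr ⟨haY, ?_⟩
    rw [mem_centralizer_iff]
    intro y hy
    exact hcomm' y hy
  have ha1 : a ≠ 1 := by
    intro h1
    apply haZ
    rw [h1]
    exact one_mem _
  obtain ⟨U, hUn, hUp, hUne⟩ := exists_normal_pgroup_of_comm p (Y ⊓ centralizer (Y : Set G))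
    (fun c hc d hd => by
      have := (mem_centralizer_iff.mp (Subgroup.mem_inf.mp hd).2) c (Subgroup.mem_inf.mp hc).1
      exact this) haA ha1 hapk
  exact hUne (hOp U hUn hUp)

end hyp

/-- Case of two noncentral primes: the larger `p`-regular class size is a power of `p`. -/
theorem m_eq_ppow (p : ℕ) [hp : Fact p.Prime] : ∀ (n : ℕ) (G : Type u) [Group G] [Finite G],
    Nat.card G = n → ∀ m : ℕ,
    (∀ x : G, (orderOf x).Coprime p →
      (centralizer ({x} : Set G)).index = 1 ∨ (centralizer ({x} : Set G)).index = m) →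
    HasTwo G p → ∃ k : ℕ, m = p ^ k := by
  intro n
  induction n using Nat.strong_induction_on with
  | _ n ih =>
    intro G _ _ hn m h h2
    by_contra hno
    obtain ⟨x₀, hx₀, hx₀p⟩ := HasTwo.exists_nc h h2
    have hm0 : m ≠ 0 := m_ne_zero h hx₀ hx₀p
    have hex : ∃ q : ℕ, q.Prime ∧ q ∣ m ∧ q ≠ p := by
      by_contra hcon
      push Not at hcon
      apply hno
      exact ⟨_, Nat.eq_prime_pow_of_unique_prime_dvd hm0 (fun {d} hd hdm => hcon d hd hdm)⟩
    obtain ⟨q, hq, hqm, hqp⟩ := hex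
    have ihS : SmallerOK.{u} p (Nat.card G) := by
      intro G' _ _ hlt m' h' h2'
      exact ih (Nat.card G') (hn ▸ hlt) G' rfl m' h' h2'
    have hOp : ∀ U : Subgroup G, U.Normal → IsPGroup p U → U = ⊥ := by
      intro U hUn hUp
      exact normal_pgroup_eq_bot h h2 hq hqp hqm ihS U hUp
    exact kazarin_false h h2 hq hqp hqm hOp

end Cfsg.Agent.Helper8.PReg
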