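import Mathlib

set_option autoImplicit false

/-! Weight spaces of a finite abelian group acting on a vector space (for Landazuri–Seitz type
lower bounds). -/

namespace Cfsg.Agent.Helper8.LS

open scoped BigOperators

section weights

variable {K : Type*} [Field K] {V : Type*} [AddCommGroup V] [Module K V]
variable {A : Type*} [CommGroup A] [Fintype A]
variable (T : A →* Module.End K V)

/-- The weight space of the character `χ`. -/
def wt (χ : A →* Kˣ) : Submodule K V where
  carrier := {v | ∀ a, T a v = ((χ a : Kˣ) : K) • v}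
  add_mem' := by
    intro v w hv hw a
    simp only [Set.mem_ofPred_eq] at hv hw
    rw [map_add, hv a, hw a, smul_add]
  zero_mem' := by
    intro a
    simp
  smul_mem' := by
    intro c v hv a
    simp only [Set.mem_ofPred_eq] at hv
    rw [map_smul, hv a, smul_comm]

theorem mem_wt {χ : A →* Kˣ} {v : V} : v ∈ wt T χ ↔ ∀ a, T a v = ((χ a : Kˣ) : K) • v := Iff.rfl

/-- The unnormalised projector onto the weight space of `χ`. -/
noncomputable def pr (χ : A →* Kˣ) : Module.End K V := ∑ a, (((χ a)⁻¹ : Kˣ) : K) • T a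

theorem T_mul_pr (χ : A →* Kˣ) (b : A) : T b * pr T χ = ((χ b : Kˣ) : K) • pr T χ := by
  unfold pr
  rw [Finset.mul_sum, Finset.smul_sum]
  refine Fintype.sum_equiv (Equiv.mulLeft b) _ _ (fun a => ?_)
  simp only [Equiv.coe_mulLeft, map_mul, mul_inv_rev, Units.val_mul, mul_smul_comm, smul_smul]
  congr 1
  rw [mul_comm ((χ a)⁻¹ : Kˣ).val, ← mul_assoc, ← Units.val_mul, mul_inv_cancel, Units.val_one, one_mul]

theorem pr_apply_mem (χ : A →* Kˣ) (v : V) : pr T χ v ∈ wt T χ := by
  intro b
  have := T_mul_pr T χ b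
  have h2 := congrArg (fun f : Module.End K V => f v) this
  simpa using h2

theorem pr_apply_of_mem [DecidableEq (A →* Kˣ)] {χ χ' : A →* Kˣ} {v : V} (hv : v ∈ wt T χ') :
    pr T χ v = if χ = χ' then (Fintype.card A : K) • v else 0 := by
  classical
  unfold pr
  rw [LinearMap.sum_apply]
  have h1 : ∀ a, ((((χ a)⁻¹ : Kˣ) : K) • T a) v = ((Units.coeHom K).comp (χ' * χ⁻¹) a) • v := by
    intro a
    rw [LinearMap.smul_apply, hv a, smul_smul]
    simp [mul_comm]
  rw [Finset.sum_congr rfl (fun a _ => h1 a), ← Finset.sum_smul]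
  split_ifs with h
  · subst h
    simp
  · rw [sum_hom_units_eq_zero, zero_smul]
    intro hc
    apply h
    ext a
    have := DFunLike.congr_fun hc a
    simp only [MonoidHom.coe_comp, Function.comp_apply, MonoidHom.mul_apply, MonoidHom.inv_apply,
      Units.coeHom_apply, Units.val_mul, MonoidHom.one_apply] at this
    have h3 : χ' a * (χ a)⁻¹ = 1 := Units.ext (by simpa using this)
    rw [mul_inv_eq_one] at h3
    rw [h3]

section decomposition

variable [HasEnoughRootsOfUnity K (Monoid.exponent A)]

open Classical in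
theorem sum_char_apply (a : A) :
    ∑ᶠ χ : A →* Kˣ, ((χ a : Kˣ) : K) = if a = 1 then (Fintype.card A : K) else 0 := by
  classical
  haveI : Fintype (A →* Kˣ) := Fintype.ofFinite _
  rw [finsum_eq_sum_of_fintype]
  split_ifs with h
  · subst h
    simp only [map_one, Units.val_one, Finset.sum_const, Finset.card_univ, nsmul_eq_mul, mul_one]
    rw [← Nat.card_eq_fintype_card, ← Nat.card_eq_fintype_card,
      CommGroup.card_monoidHom_of_hasEnoughRootsOfUnity]
  · let ev : (A →* Kˣ) →* K :=
      { toFun := fun χ => ((χ a : Kˣ) : K)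
        map_one' := by simp
        map_mul' := by intro x y; simp }
    have hev : ev ≠ 1 := by
      obtain ⟨φ, hφ⟩ := CommGroup.exists_apply_ne_one_of_hasEnoughRootsOfUnity A K h
      intro hc
      apply hφ
      have := DFunLike.congr_fun hc φ
      exact Units.ext (by simpa [ev] using this)
    exact sum_hom_units_eq_zero ev hev

theorem finsum_pr : ∑ᶠ χ : A →* Kˣ, pr T χ = (Fintype.card A : K) • (1 : Module.End K V) := by
  classical
  haveI : Fintype (A →* Kˣ) := Fintype.ofFinite _
  rw [finsum_eq_sum_of_fintype]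
  unfold pr
  rw [Finset.sum_comm]
  have h1 : ∀ a : A, ∑ χ : A →* Kˣ, (((χ a)⁻¹ : Kˣ) : K) • T a
      = (if a = 1 then (Fintype.card A : K) else 0) • T a := by
    intro a
    rw [← Finset.sum_smul]
    congr 1
    have := sum_char_apply (K := K) (a⁻¹ : A)
    rw [finsum_eq_sum_of_fintype] at this
    simp only [map_inv, inv_eq_one] at this
    exact this
  rw [Finset.sum_congr rfl (fun a _ => h1 a)]
  simp

theorem finrank_eq_sum [Module.Finite K V] [Fintype (A →* Kˣ)] (hA : (Fintype.card A : K) ≠ 0) :
    Module.finrank K V = ∑ χ : A →* Kˣ, Module.finrank K (wt T χ) := by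
  classical
  let f : V →ₗ[K] (∀ χ : A →* Kˣ, wt T χ) :=
    LinearMap.pi (fun χ => (((Fintype.card A : K)⁻¹) • pr T χ).codRestrict (wt T χ)
      (fun v => by
        rw [LinearMap.smul_apply]
        exact (wt T χ).smul_mem _ (pr_apply_mem T χ v)))
  let g : (∀ χ : A →* Kˣ, wt T χ) →ₗ[K] V :=
    { toFun := fun w => ∑ χ, (w χ : V)
      map_add' := by
        intro w w'
        simp [Finset.sum_add_distrib]
      map_smul' := by
        intro c w
        simp [Finset.smul_sum] }
  have hsum : ∑ χ : A →* Kˣ, pr T χ = (Fintype.card A : K) • (1 : Module.End K V) := by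
    rw [← finsum_pr T, finsum_eq_sum_of_fintype]
  have h1 : g ∘ₗ f = LinearMap.id := by
    ext v
    simp only [LinearMap.coe_comp, Function.comp_apply, LinearMap.id_coe, id_eq, g, f,
      LinearMap.coe_mk, AddHom.coe_mk, LinearMap.pi_apply, LinearMap.codRestrict_apply,
      LinearMap.smul_apply]
    rw [← Finset.smul_sum, ← LinearMap.sum_apply, hsum, LinearMap.smul_apply, smul_smul,
      inv_mul_cancel₀ hA, one_smul]
    rfl
  have h2 : f ∘ₗ g = LinearMap.id := by
    refine LinearMap.ext fun w => funext fun χ' => Subtype.ext ?_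
    simp only [LinearMap.coe_comp, Function.comp_apply, LinearMap.id_coe, id_eq, g, f,
      LinearMap.coe_mk, AddHom.coe_mk, LinearMap.pi_apply, LinearMap.codRestrict_apply,
      LinearMap.smul_apply]
    rw [map_sum]
    have h3 : ∀ χ : A →* Kˣ, pr T χ' (w χ : V) = if χ' = χ then (Fintype.card A : K) • (w χ : V) else 0 :=
      fun χ => pr_apply_of_mem T (w χ).2
    rw [Finset.sum_congr rfl (fun χ _ => h3 χ)]
    simp only [Finset.sum_ite_eq, Finset.mem_univ, if_true]
    rw [smul_smul, inv_mul_cancel₀ hA, one_smul]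
  have e : V ≃ₗ[K] (∀ χ : A →* Kˣ, wt T χ) := LinearEquiv.ofLinearMap f g h2 h1
  rw [e.finrank_eq, Module.finrank_pi_fintype]

theorem sum_finrank_le [Module.Finite K V] (hA : (Fintype.card A : K) ≠ 0)
    {I : Type*} [Fintype I] (f : I → (A →* Kˣ)) (hf : Function.Injective f) :
    ∑ i, Module.finrank K (wt T (f i)) ≤ Module.finrank K V := by
  classical
  haveI : Fintype (A →* Kˣ) := Fintype.ofFinite _
  rw [finrank_eq_sum T hA]
  rw [← Finset.sum_image (f := fun χ => Module.finrank K (wt T χ)) (s := Finset.univ) (g := f)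
    (fun x _ y _ h => hf h)]
  exact Finset.sum_le_sum_of_subset (Finset.subset_univ _)

theorem card_le_finrank [Module.Finite K V] (hA : (Fintype.card A : K) ≠ 0)
    {I : Type*} [Fintype I] (f : I → (A →* Kˣ)) (hf : Function.Injective f)
    (hne : ∀ i, wt T (f i) ≠ ⊥) :
    Fintype.card I ≤ Module.finrank K V := by
  refine le_trans ?_ (sum_finrank_le T hA f hf)
  have : ∀ i, 1 ≤ Module.finrank K (wt T (f i)) := by
    intro i
    rw [Nat.one_le_iff_ne_zero]
    intro h0
    exact hne i (Submodule.finrank_eq_zero.mp h0)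
  calc Fintype.card I = ∑ _i : I, 1 := by simp
    _ ≤ _ := Finset.sum_le_sum (fun i _ => this i)

theorem exists_wt_ne_bot (hA : (Fintype.card A : K) ≠ 0) (z : A) (hz : T z ≠ 1) :
    ∃ χ : A →* Kˣ, wt T χ ≠ ⊥ ∧ χ z ≠ 1 := by
  classical
  haveI : Fintype (A →* Kˣ) := Fintype.ofFinite _
  by_contra hcon
  push_neg at hcon
  apply hz
  have hsum : ∑ χ : A →* Kˣ, pr T χ = (Fintype.card A : K) • (1 : Module.End K V) := by
    rw [← finsum_pr T, finsum_eq_sum_of_fintype]
  ext v
  have hv : (Fintype.card A : K) • v = ∑ χ : A →* Kˣ, pr T χ v := by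
    rw [← LinearMap.sum_apply, hsum]
    simp
  have h1 : T z ((Fintype.card A : K) • v) = (Fintype.card A : K) • v := by
    rw [hv, map_sum]
    refine Finset.sum_congr rfl (fun χ _ => ?_)
    by_cases h0 : pr T χ v = 0
    · rw [h0, map_zero]
    · have hne : wt T χ ≠ ⊥ := by
        intro hb
        have := pr_apply_mem T χ v
        rw [hb, Submodule.mem_bot] at this
        exact h0 this
      rw [pr_apply_mem T χ v z, hcon χ hne, Units.val_one, one_smul]
  rw [map_smul] at h1
  have := smul_right_injective V hA h1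
  simpa using this

end decomposition

section equivariance

omit [Fintype A] in
theorem map_mem_wt' (g : Module.End K V) (χ χ' : A →* Kˣ)
    (h : ∀ a' : A, ∃ a : A, g * T a = T a' * g ∧ χ' a = χ a') {v : V} (hv : v ∈ wt T χ') :
    g v ∈ wt T χ := by
  intro a'
  obtain ⟨a, h1, h2⟩ := h a'
  have h3 := congrArg (fun f : Module.End K V => f v) h1
  simp only [Module.End.mul_apply] at h3
  rw [← h3, hv a, map_smul, h2]

omit [Fintype A] in
theorem wt_ne_bot_of_conj' (g : Module.End K V) (hg : Function.Injective g) (χ χ' : A →* Kˣ)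
    (h : ∀ a' : A, ∃ a : A, g * T a = T a' * g ∧ χ' a = χ a')
    (hne : wt T χ' ≠ ⊥) : wt T χ ≠ ⊥ := by
  obtain ⟨v, hv, hv0⟩ := (Submodule.ne_bot_iff _).mp hne
  rw [Submodule.ne_bot_iff]
  refine ⟨g v, map_mem_wt' T g χ χ' h hv, ?_⟩
  intro h0
  exact hv0 (hg (by rw [h0, map_zero]))

omit [Fintype A] in
theorem finrank_wt_le_of_conj' [Module.Finite K V] (g : Module.End K V) (hg : Function.Injective g)
    (χ χ' : A →* Kˣ) (h : ∀ a' : A, ∃ a : A, g * T a = T a' * g ∧ χ' a = χ a') :
    Module.finrank K (wt T χ') ≤ Module.finrank K (wt T χ) := by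
  let r : wt T χ' →ₗ[K] wt T χ :=
    (g.domRestrict (wt T χ')).codRestrict (wt T χ)
      (fun v => map_mem_wt' T g χ χ' h v.2)
  refine LinearMap.finrank_le_finrank_of_injective (f := r) ?_
  intro v w hvw
  have := congrArg Subtype.val hvw
  simp only [r, LinearMap.codRestrict_apply, LinearMap.domRestrict_apply] at this
  exact Subtype.ext (hg this)

end equivariance

end weights

section operators

variable {K : Type*} [Field K] {W : Type*} [AddCommGroup W] [Module K W]

/-- Operators that are rescaled by pairwise distinct characters under a family of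
"conjugations" are linearly independent. -/
theorem linearIndependent_of_chars {Y : Type*} [Group Y] [Fintype Y]
    (hY : (Fintype.card Y : K) ≠ 0) {I : Type*} (S : I → Module.End K W) (hS : ∀ i, S i ≠ 0)
    (P P' : Y → Module.End K W) (ε : I → (Y →* Kˣ)) (hε : Function.Injective ε)
    (h : ∀ y i, P y * S i * P' y = ((ε i y : Kˣ) : K) • S i) :
    LinearIndependent K S := by
  classical
  rw [linearIndependent_iff']
  intro s c hc j hj
  have h1 : ∀ y : Y, ∑ i ∈ s, (c i * ((ε i y : Kˣ) : K)) • S i = 0 := by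
    intro y
    have := congrArg (fun X => P y * X * P' y) hc
    simp only [Finset.mul_sum, Finset.sum_mul, mul_smul_comm, smul_mul_assoc, mul_zero,
      zero_mul, h] at this
    simpa [smul_smul] using this
  have h2 : ∑ y : Y, (((ε j y)⁻¹ : Kˣ) : K) • ∑ i ∈ s, (c i * ((ε i y : Kˣ) : K)) • S i = 0 := by
    simp [h1]
  simp only [Finset.smul_sum, smul_smul] at h2
  rw [Finset.sum_comm] at h2
  have h3 : ∀ i ∈ s, ∑ y : Y, ((((ε j y)⁻¹ : Kˣ) : K) * (c i * ((ε i y : Kˣ) : K))) • S i
      = if i = j then (c j * (Fintype.card Y : K)) • S j else 0 := by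
    intro i _
    rw [← Finset.sum_smul]
    have h4 : ∑ y : Y, (((ε j y)⁻¹ : Kˣ) : K) * (c i * ((ε i y : Kˣ) : K))
        = c i * ∑ y : Y, ((Units.coeHom K).comp (ε i * (ε j)⁻¹)) y := by
      rw [Finset.mul_sum]
      refine Finset.sum_congr rfl (fun y _ => ?_)
      simp only [MonoidHom.coe_comp, Function.comp_apply, MonoidHom.mul_apply,
        MonoidHom.inv_apply, Units.coeHom_apply, Units.val_mul]
      ring
    rw [h4]
    split_ifs with hij
    · subst hij
      simp
    · rw [sum_hom_units_eq_zero, mul_zero, zero_smul]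
      intro hcon
      apply hij
      apply hε
      ext y
      have := DFunLike.congr_fun hcon y
      simp only [MonoidHom.coe_comp, Function.comp_apply, MonoidHom.mul_apply,
        MonoidHom.inv_apply, Units.coeHom_apply, Units.val_mul, MonoidHom.one_apply] at this
      have h5 : ε i y * (ε j y)⁻¹ = 1 := Units.ext (by simpa using this)
      rw [mul_inv_eq_one] at h5
      rw [h5]
  rw [Finset.sum_congr rfl h3, Finset.sum_ite_eq' s j, if_pos hj] at h2
  rcases smul_eq_zero.mp h2 with h6 | h6
  · rcases mul_eq_zero.mp h6 with h7 | h7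
    · exact h7
    · exact absurd h7 hY
  · exact absurd h6 (hS j)

theorem card_le_finrank_sq [Module.Finite K W] {Y : Type*} [Group Y] [Fintype Y]
    (hY : (Fintype.card Y : K) ≠ 0) {I : Type*} [Fintype I] (S : I → Module.End K W)
    (hS : ∀ i, S i ≠ 0)
    (P P' : Y → Module.End K W) (ε : I → (Y →* Kˣ)) (hε : Function.Injective ε)
    (h : ∀ y i, P y * S i * P' y = ((ε i y : Kˣ) : K) • S i) :
    Fintype.card I ≤ Module.finrank K W * Module.finrank K W := by
  have := (linearIndependent_of_chars hY S hS P P' ε hε h).fintype_card_le_finrank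
  rwa [Module.finrank_linearMap] at this

end operators

end Cfsg.Agent.Helper8.LS
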