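import Mathlib
import Cfsg.Agent.Helper8.LSA

set_option autoImplicit false

/-! Characters of `(ι → F)` for a finite field `F`, and extension of a matrix representation to
the algebraic closure. -/

namespace Cfsg.Agent.Helper8.LS

open scoped BigOperators
open Matrix

section chars

variable {F : Type*} [Field F] {K : Type*} [Field K] {ι : Type*} [Fintype ι]

/-- The character `a ↦ ψ (a ⬝ᵥ b)` of `ι → F`. -/
noncomputable def dotChar (ψ : Multiplicative F →* Kˣ) (b : ι → F) : Multiplicative (ι → F) →* Kˣ :=
  ψ.comp (AddMonoidHom.toMultiplicative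
    ({ toFun := fun a => a ⬝ᵥ b
       map_zero' := zero_dotProduct b
       map_add' := fun x y => add_dotProduct x y b } : (ι → F) →+ F))

theorem dotChar_apply (ψ : Multiplicative F →* Kˣ) (b a : ι → F) :
    dotChar ψ b (Multiplicative.ofAdd a) = ψ (Multiplicative.ofAdd (a ⬝ᵥ b)) := rfl

theorem dotChar_injective [DecidableEq ι] {ψ : Multiplicative F →* Kˣ} (hψ : ψ ≠ 1) :
    Function.Injective (dotChar (ι := ι) ψ) := by
  intro b b' hbb
  by_contra hne
  apply hψ
  obtain ⟨j, hj⟩ : ∃ j, b j - b' j ≠ 0 := by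
    by_contra hcon
    push_neg at hcon
    exact hne (funext fun j => sub_eq_zero.mp (hcon j))
  ext t
  have h1 := DFunLike.congr_fun hbb (Multiplicative.ofAdd (Pi.single j (t / (b j - b' j))))
  rw [dotChar_apply, dotChar_apply, single_dotProduct, single_dotProduct] at h1
  have h2 : Multiplicative.ofAdd t = Multiplicative.ofAdd (t / (b j - b' j) * b j)
      * (Multiplicative.ofAdd (t / (b j - b' j) * b' j))⁻¹ := by
    rw [← ofAdd_neg, ← ofAdd_add]
    congr 1
    field_simp
    ring
  have h3 : ψ (Multiplicative.ofAdd t) = 1 := by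
    rw [h2, map_mul, map_inv, h1, mul_inv_cancel]
  simpa using congrArg Units.val h3

variable [Fintype F]

theorem hasEnough_exponent (r : ℕ) [CharP F r] [HasEnoughRootsOfUnity K r] :
    HasEnoughRootsOfUnity K (Monoid.exponent (Multiplicative (ι → F))) := by
  have hr : r ≠ 0 := by
    intro h
    subst h
    haveI : CharZero F := CharP.charP_to_charZero F
    exact not_finite F
  haveI : NeZero r := ⟨hr⟩
  refine HasEnoughRootsOfUnity.of_dvd K (n := r) ?_
  apply Monoid.exponent_dvd_of_forall_pow_eq_one
  intro g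
  apply Multiplicative.toAdd.injective
  rw [toAdd_pow, toAdd_one]
  ext i
  simp [CharP.cast_eq_zero F r]

theorem hasEnough_exponent' (r : ℕ) [CharP F r] [HasEnoughRootsOfUnity K r] :
    HasEnoughRootsOfUnity K (Monoid.exponent (Multiplicative F)) := by
  have hr : r ≠ 0 := by
    intro h
    subst h
    haveI : CharZero F := CharP.charP_to_charZero F
    exact not_finite F
  haveI : NeZero r := ⟨hr⟩
  refine HasEnoughRootsOfUnity.of_dvd K (n := r) ?_
  apply Monoid.exponent_dvd_of_forall_pow_eq_one
  intro g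
  apply Multiplicative.toAdd.injective
  rw [toAdd_pow, toAdd_one]
  simp

theorem card_ne_zero_of_charP (r : ℕ) [hc : CharP F r] (hr : (r : K) ≠ 0) (k : ℕ) :
    ((Fintype.card F ^ k : ℕ) : K) ≠ 0 := by
  obtain ⟨p, hp⟩ := CharP.exists F
  obtain ⟨n, hprime, hcard⟩ := FiniteField.card F p
  have : p = r := CharP.eq F hp hc
  subst this
  rw [hcard]
  push_cast
  exact pow_ne_zero _ (pow_ne_zero _ hr)

theorem dotChar_bijective [DecidableEq ι]
    [HasEnoughRootsOfUnity K (Monoid.exponent (Multiplicative (ι → F)))]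
    {ψ : Multiplicative F →* Kˣ} (hψ : ψ ≠ 1) :
    Function.Bijective (dotChar (ι := ι) ψ) := by
  classical
  refine (dotChar_injective hψ).bijective_of_nat_card_le ?_
  rw [CommGroup.card_monoidHom_of_hasEnoughRootsOfUnity]
  exact le_of_eq (Nat.card_congr Multiplicative.ofAdd.symm)

theorem exists_char_ne_one [HasEnoughRootsOfUnity K (Monoid.exponent (Multiplicative F))] :
    ∃ ψ : Multiplicative F →* Kˣ, ψ ≠ 1 := by
  have h1 : Multiplicative.ofAdd (1 : F) ≠ 1 := by
    intro h
    have := congrArg Multiplicative.toAdd h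
    simp at this
  obtain ⟨φ, hφ⟩ := CommGroup.exists_apply_ne_one_of_hasEnoughRootsOfUnity (Multiplicative F) K h1
  exact ⟨φ, fun h => hφ (by rw [h]; rfl)⟩

end chars

section ext

variable {G : Type*} [Group G] {K₀ : Type*} [Field K₀] {d : ℕ}

/-- A matrix representation, extended to the algebraic closure and viewed as acting on column
vectors. -/
noncomputable def extRep (ρ : G →* GL (Fin d) K₀) :
    G →* Module.End (AlgebraicClosure K₀) (Fin d → AlgebraicClosure K₀) where
  toFun g := Matrix.toLin' ((ρ g : Matrix (Fin d) (Fin d) K₀).map (algebraMap K₀ (AlgebraicClosure K₀)))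
  map_one' := by
    rw [map_one, Units.val_one, Matrix.map_one _ (map_zero _) (map_one _), Matrix.toLin'_one]
    rfl
  map_mul' := by
    intro a b
    rw [map_mul, Units.val_mul, Matrix.map_mul, Matrix.toLin'_mul]
    rfl

theorem extRep_apply (ρ : G →* GL (Fin d) K₀) (g : G) :
    extRep ρ g = Matrix.toLin' ((ρ g : Matrix (Fin d) (Fin d) K₀).map
      (algebraMap K₀ (AlgebraicClosure K₀))) := rfl

theorem extRep_eq_one_iff (ρ : G →* GL (Fin d) K₀) (g : G) : extRep ρ g = 1 ↔ ρ g = 1 := by
  rw [extRep_apply]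
  constructor
  · intro h
    have h1 : (ρ g : Matrix (Fin d) (Fin d) K₀).map (algebraMap K₀ (AlgebraicClosure K₀)) = 1 := by
      apply Matrix.toLin'.injective
      rw [h, Matrix.toLin'_one]
      rfl
    have h2 : (ρ g : Matrix (Fin d) (Fin d) K₀) = 1 := by
      apply Matrix.map_injective (algebraMap K₀ (AlgebraicClosure K₀)).injective
      show (ρ g : Matrix (Fin d) (Fin d) K₀).map (algebraMap K₀ (AlgebraicClosure K₀))
        = (1 : Matrix (Fin d) (Fin d) K₀).map (algebraMap K₀ (AlgebraicClosure K₀))
      rw [h1, Matrix.map_one _ (map_zero _) (map_one _)]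
    exact Units.ext h2
  · intro h
    rw [h, Units.val_one, Matrix.map_one _ (map_zero _) (map_one _), Matrix.toLin'_one]
    rfl

theorem extRep_injective_apply (ρ : G →* GL (Fin d) K₀) (g : G) :
    Function.Injective (extRep ρ g) := by
  intro v w hvw
  have h1 : extRep ρ g⁻¹ (extRep ρ g v) = extRep ρ g⁻¹ (extRep ρ g w) := by rw [hvw]
  rw [← Module.End.mul_apply, ← Module.End.mul_apply, ← map_mul, inv_mul_cancel, map_one] at h1
  exact h1

end ext

end Cfsg.Agent.Helper8.LS
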