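import Mathlib
import Cfsg.Agent.Helper8.LSB
import Cfsg.Agent.Helper8.SLTrans

set_option autoImplicit false

/-! The unipotent radical of a line stabiliser in `SL_n` and its normalising elements. -/

namespace Cfsg.Agent.Helper8.LS

open scoped BigOperators
open Matrix Cfsg.Agent.Helper8.SLTrans

section radical

variable {F : Type*} [Field F] {m : ℕ}

/-- Zero the coordinate `0`. -/
def z0 (φ : Fin (m + 3) → F) : Fin (m + 3) → F := Function.update φ 0 0

theorem z0_zero (φ : Fin (m + 3) → F) : z0 φ 0 = 0 := by simp [z0]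

theorem z0_succ (φ : Fin (m + 3) → F) {i : Fin (m + 3)} (hi : i ≠ 0) : z0 φ i = φ i := by
  simp [z0, hi]

theorem z0_add (φ φ' : Fin (m + 3) → F) : z0 (φ + φ') = z0 φ + z0 φ' := by
  ext i
  by_cases hi : i = 0
  · subst hi; simp [z0]
  · simp [z0, hi]

theorem z0_of_zero {φ : Fin (m + 3) → F} (h : φ 0 = 0) : z0 φ = φ := by
  ext i
  by_cases hi : i = 0
  · subst hi; simp [z0, h]
  · simp [z0, hi]

theorem z0_dot_e0 (φ : Fin (m + 3) → F) : z0 φ ⬝ᵥ e0 F m = 0 := by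
  simp [e0, z0_zero]

theorem z0_dot_of_zero (φ : Fin (m + 3) → F) {b : Fin (m + 3) → F} (hb : b 0 = 0) :
    z0 φ ⬝ᵥ b = φ ⬝ᵥ b := by
  unfold dotProduct
  refine Finset.sum_congr rfl (fun i _ => ?_)
  by_cases hi : i = 0
  · subst hi; simp [hb]
  · rw [z0_succ φ hi]

/-- The matrix `1 + e₀ ⊗ φ̄`. -/
def Umat (φ : Fin (m + 3) → F) : Matrix (Fin (m + 3)) (Fin (m + 3)) F :=
  1 + vecMulVec (e0 F m) (z0 φ)

theorem det_Umat (φ : Fin (m + 3) → F) : (Umat φ).det = 1 := by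
  unfold Umat
  rw [Matrix.vecMulVec_eq Unit, det_one_add_replicateCol_mul_replicateRow, z0_dot_e0, add_zero]

theorem Umat_mul (φ φ' : Fin (m + 3) → F) : Umat φ * Umat φ' = Umat (φ + φ') := by
  unfold Umat
  rw [add_mul, mul_add, mul_add, one_mul, mul_one, one_mul, vecMulVec_mul_vecMulVec, z0_dot_e0,
    zero_smul, z0_add]
  ext i j
  simp [vecMulVec_apply]
  ring

/-- The unipotent elements. -/
def USL (φ : Fin (m + 3) → F) : Matrix.SpecialLinearGroup (Fin (m + 3)) F := ⟨Umat φ, det_Umat φ⟩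

theorem USL_mul (φ φ' : Fin (m + 3) → F) : USL φ * USL φ' = USL (φ + φ') :=
  Subtype.ext (Umat_mul φ φ')

theorem USL_zero : USL (0 : Fin (m + 3) → F) = 1 := by
  apply Subtype.ext
  simp [USL, Umat, z0]

/-- The unipotent elements as a homomorphism. -/
def Uhom : Multiplicative (Fin (m + 3) → F) →* Matrix.SpecialLinearGroup (Fin (m + 3)) F where
  toFun φ := USL φ.toAdd
  map_one' := USL_zero
  map_mul' := by
    intro a b
    rw [USL_mul]
    rfl

theorem Uhom_coe (φ : Fin (m + 3) → F) :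
    ((Uhom (Multiplicative.ofAdd φ) : Matrix.SpecialLinearGroup (Fin (m + 3)) F) :
      Matrix (Fin (m + 3)) (Fin (m + 3)) F) = Umat φ := rfl

/-- `Uhom` kills multiples of `e₀`. -/
theorem Uhom_smul_e0 (t : F) : Uhom (Multiplicative.ofAdd (t • e0 F m)) = 1 := by
  apply Subtype.ext
  rw [Uhom_coe]
  have : z0 (t • e0 F m) = 0 := by
    ext i
    by_cases hi : i = 0
    · subst hi; simp [z0]
    · simp [z0, hi, e0]
  simp [Umat, this]

/-- Conjugation by an element fixing `e₀`. -/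
theorem conj_Uhom (g : Matrix.SpecialLinearGroup (Fin (m + 3)) F)
    (hg : (g : Matrix (Fin (m + 3)) (Fin (m + 3)) F) *ᵥ e0 F m = e0 F m) (φ' : Fin (m + 3) → F) :
    g * Uhom (Multiplicative.ofAdd (z0 φ' ᵥ* (g : Matrix (Fin (m + 3)) (Fin (m + 3)) F)))
      = Uhom (Multiplicative.ofAdd φ') * g := by
  apply Subtype.ext
  rw [Matrix.SpecialLinearGroup.coe_mul, Matrix.SpecialLinearGroup.coe_mul, Uhom_coe, Uhom_coe]
  have h0 : (z0 φ' ᵥ* (g : Matrix (Fin (m + 3)) (Fin (m + 3)) F)) 0 = 0 := by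
    have : (z0 φ' ᵥ* (g : Matrix (Fin (m + 3)) (Fin (m + 3)) F)) 0
        = z0 φ' ⬝ᵥ ((g : Matrix (Fin (m + 3)) (Fin (m + 3)) F) *ᵥ e0 F m) := by
      rw [mulVec_e0]
      rfl
    rw [this, hg, z0_dot_e0]
  unfold Umat
  rw [z0_of_zero h0, mul_add, add_mul, mul_one, one_mul, mul_vecMulVec, hg, vecMulVec_mul]

theorem Uhom_e1_not_mem_center :
    Uhom (Multiplicative.ofAdd (e1 F m)) ∉ Subgroup.center (Matrix.SpecialLinearGroup (Fin (m + 3)) F) := by
  intro h
  rw [Matrix.SpecialLinearGroup.mem_center_iff] at h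
  obtain ⟨r, _, hr⟩ := h
  have h1 := congrFun (congrFun hr 0) 1
  rw [Uhom_coe] at h1
  simp [Umat, vecMulVec_apply, e0, e1, z0] at h1

end radical

end Cfsg.Agent.Helper8.LS
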