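import Mathlib
import Cfsg.Agent.Helper8.LSC

set_option autoImplicit false

/-! The Landazuri–Seitz bound for `SL_n`, `n ≥ 3`. -/

namespace Cfsg.Agent.Helper8.LS

open scoped BigOperators
open Matrix Cfsg.Agent.Helper8.SLTrans

section main

variable {F : Type*} [Field F] [Fintype F] {m : ℕ} {K₀ : Type*} [Field K₀] {d : ℕ}

/-- Elements of `SL_n` fixing `e₀` are transitive on vectors outside the line of `e₀`. -/
theorem exists_fix_e0 {b b' : Fin (m + 3) → F} (hb : b ≠ 0) (hb0 : b 0 = 0) (hb' : b' ≠ 0)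
    (hb'0 : b' 0 = 0) :
    ∃ g : Matrix.SpecialLinearGroup (Fin (m + 3)) F,
      (g : Matrix (Fin (m + 3)) (Fin (m + 3)) F) *ᵥ e0 F m = e0 F m ∧
      (g : Matrix (Fin (m + 3)) (Fin (m + 3)) F) *ᵥ b = b' := by
  have hind : ∀ {x : Fin (m + 3) → F}, x ≠ 0 → x 0 = 0 → ∀ c : F, x ≠ c • e0 F m := by
    intro x hx hx0 c hc
    apply hx
    have h1 := congrFun hc 0
    rw [hx0] at h1
    simp [e0] at h1
    rw [hc, ← h1, zero_smul]
  obtain ⟨g₁, h1, h1'⟩ := exists_mulVec_e0_e1 e0_ne_zero hb (hind hb hb0)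
  obtain ⟨g₂, h2, h2'⟩ := exists_mulVec_e0_e1 e0_ne_zero hb' (hind hb' hb'0)
  have hinv : ∀ x : Fin (m + 3) → F, ((g₁⁻¹ : Matrix.SpecialLinearGroup (Fin (m + 3)) F) :
      Matrix (Fin (m + 3)) (Fin (m + 3)) F) *ᵥ ((g₁ : Matrix (Fin (m + 3)) (Fin (m + 3)) F) *ᵥ x) = x := by
    intro x
    rw [Matrix.mulVec_mulVec, ← coe_mul', inv_mul_cancel]
    exact Matrix.one_mulVec x
  refine ⟨g₂ * g₁⁻¹, ?_, ?_⟩
  · rw [coe_mul', ← Matrix.mulVec_mulVec]
    nth_rewrite 1 [← h1]
    rw [hinv, h2]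
  · rw [coe_mul', ← Matrix.mulVec_mulVec]
    nth_rewrite 1 [← h1']
    rw [hinv, h2']

theorem sl_bound (hK : ringChar K₀ ≠ ringChar F)
    (ρ : Matrix.SpecialLinearGroup (Fin (m + 3)) F →* GL (Fin d) K₀)
    (hker : ρ.ker ≤ Subgroup.center (Matrix.SpecialLinearGroup (Fin (m + 3)) F)) :
    Fintype.card F ^ (m + 2) - 1 ≤ d := by
  classical
  obtain ⟨r, hcr⟩ := CharP.exists F
  haveI := hcr
  have hrp : r.Prime := CharP.char_is_prime F r
  have hrF : ringChar F = r := ringChar.eq F r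
  have hr0 : (r : K₀) ≠ 0 := by
    intro h
    have h1 : ringChar K₀ ∣ r := ringChar.dvd h
    rcases (Nat.dvd_prime hrp).mp h1 with h2 | h2
    · exact CharP.ringChar_ne_one h2
    · exact hK (h2.trans hrF.symm)
  haveI : NeZero (r : K₀) := ⟨hr0⟩
  have hrK : (r : AlgebraicClosure K₀) ≠ 0 := by
    intro h
    apply hr0
    apply (algebraMap K₀ (AlgebraicClosure K₀)).injective
    rw [map_natCast, h, map_zero]
  haveI hE0 : HasEnoughRootsOfUnity (AlgebraicClosure K₀) r := inferInstance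
  haveI hE1 : HasEnoughRootsOfUnity (AlgebraicClosure K₀)
      (Monoid.exponent (Multiplicative (Fin (m + 3) → F))) := hasEnough_exponent r
  haveI hE2 : HasEnoughRootsOfUnity (AlgebraicClosure K₀)
      (Monoid.exponent (Multiplicative F)) := hasEnough_exponent' r
  obtain ⟨ψ, hψ⟩ := exists_char_ne_one (F := F) (K := AlgebraicClosure K₀)
  let T : Multiplicative (Fin (m + 3) → F) →*
      Module.End (AlgebraicClosure K₀) (Fin d → AlgebraicClosure K₀) := (extRep ρ).comp Uhom
  have hA : (Fintype.card (Multiplicative (Fin (m + 3) → F)) : AlgebraicClosure K₀) ≠ 0 := by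
    have : Fintype.card (Multiplicative (Fin (m + 3) → F)) = Fintype.card F ^ (m + 3) := by
      rw [Fintype.card_multiplicative, Fintype.card_fun, Fintype.card_fin]
    rw [this]
    exact card_ne_zero_of_charP r hrK _
  -- weights vanish in the coordinate `0`
  have hb0 : ∀ b : Fin (m + 3) → F, wt T (dotChar ψ b) ≠ ⊥ → b 0 = 0 := by
    intro b hne
    obtain ⟨v, hv, hv0⟩ := (Submodule.ne_bot_iff _).mp hne
    by_contra hb
    apply hψ
    refine MonoidHom.ext (fun t' => ?_)
    set t : F := Multiplicative.toAdd t' with ht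
    have h1 := hv (Multiplicative.ofAdd ((t / b 0) • e0 F m))
    have h2 : T (Multiplicative.ofAdd ((t / b 0) • e0 F m)) = 1 := by
      show extRep ρ (Uhom _) = 1
      rw [Uhom_smul_e0, map_one]
    rw [h2, Module.End.one_apply, dotChar_apply] at h1
    have h3 : ((t / b 0) • e0 F m) ⬝ᵥ b = t := by
      rw [smul_dotProduct]
      simp [e0]
      field_simp
    rw [h3] at h1
    have h4 : ((1 : AlgebraicClosure K₀) - ((ψ (Multiplicative.ofAdd t) : (AlgebraicClosure K₀)ˣ) :
        AlgebraicClosure K₀)) • v = 0 := by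
      rw [sub_smul, one_smul, ← h1, sub_self]
    rcases smul_eq_zero.mp h4 with h5 | h5
    · have h6 : ψ (Multiplicative.ofAdd t) = 1 := Units.ext (sub_eq_zero.mp h5).symm
      exact h6
    · exact absurd h5 hv0
  -- a nontrivial weight exists
  have hz : T (Multiplicative.ofAdd (e1 F m)) ≠ 1 := by
    intro h
    have h1 : extRep ρ (Uhom (Multiplicative.ofAdd (e1 F m))) = 1 := h
    rw [extRep_eq_one_iff] at h1
    exact Uhom_e1_not_mem_center (hker h1)
  obtain ⟨χ, hχne, hχ1⟩ := exists_wt_ne_bot T hA _ hz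
  obtain ⟨b, rfl⟩ := (dotChar_bijective (ι := Fin (m + 3)) hψ).2 χ
  have hbz : b 0 = 0 := hb0 b hχne
  have hbne : b ≠ 0 := by
    intro h
    apply hχ1
    rw [h, dotChar_apply, dotProduct_zero, ofAdd_zero, map_one]
  -- all weights appear
  have hall : ∀ b' : Fin (m + 3) → F, b' ≠ 0 → b' 0 = 0 → wt T (dotChar ψ b') ≠ ⊥ := by
    intro b' hb' hb'0
    obtain ⟨g, hg0, hgb⟩ := exists_fix_e0 hbne hbz hb' hb'0
    refine wt_ne_bot_of_conj' T (extRep ρ g) (extRep_injective_apply ρ g) (dotChar ψ b')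
      (dotChar ψ b) ?_ hχne
    intro a'
    refine ⟨Multiplicative.ofAdd (z0 a'.toAdd ᵥ* (g : Matrix (Fin (m + 3)) (Fin (m + 3)) F)), ?_, ?_⟩
    · show extRep ρ g * extRep ρ (Uhom _) = extRep ρ (Uhom a') * extRep ρ g
      rw [← map_mul, ← map_mul]
      congr 1
      exact conj_Uhom g hg0 a'.toAdd
    · rw [dotChar_apply]
      have : a' = Multiplicative.ofAdd a'.toAdd := rfl
      rw [this, dotChar_apply]
      congr 2
      rw [← Matrix.dotProduct_mulVec, hgb, z0_dot_of_zero _ hb'0]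
      rfl
  -- count
  let f : {c : Fin (m + 2) → F // c ≠ 0} → (Multiplicative (Fin (m + 3) → F) →* (AlgebraicClosure K₀)ˣ) :=
    fun c => dotChar ψ (Fin.cons (0 : F) c.1 : Fin (m + 3) → F)
  have hf : Function.Injective f := by
    intro c c' hcc
    apply Subtype.ext
    have := dotChar_injective hψ hcc
    exact Fin.cons_right_injective _ this
  have hne : ∀ c, wt T (f c) ≠ ⊥ := by
    intro c
    apply hall
    · intro h
      apply c.2
      ext i
      have := congrFun h i.succ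
      simpa using this
    · simp
  have hcount := card_le_finrank T hA f hf hne
  rw [Module.finrank_fin_fun] at hcount
  refine le_trans (le_of_eq ?_) hcount
  rw [Fintype.card_subtype_compl, Fintype.card_fun, Fintype.card_fin]
  simp

end main

end Cfsg.Agent.Helper8.LS
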