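import Mathlib
import Cfsg.Agent.Helper6.IrrCrit
import Cfsg.Agent.Helper6.Induced
import Cfsg.Agent.Helper6.ClassInner

set_option autoImplicit false

/-!
If a sum of `k` nonzero characters has norm `k`, the summands are pairwise distinct irreducible
characters.
-/

namespace Cfsg.Agent.Helper8.CharDecomp

open Cfsg.Agent.Helper6
open scoped ComplexConjugate

universe u

variable {G : Type u} [Group G] [Fintype G]

/-- a combinatorial lemma on matrices of natural numbers. -/
theorem nat_matrix {ι : Type*} [Fintype ι] [DecidableEq ι] (n : ι → ι → ℕ)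
    (hd : ∀ i, 1 ≤ n i i) (hsum : ∑ i, ∑ j, n i j = Fintype.card ι) :
    (∀ i, n i i = 1) ∧ ∀ i j, i ≠ j → n i j = 0 := by
  have hrow : ∀ i, 1 ≤ ∑ j, n i j := fun i =>
    le_trans (hd i) (Finset.single_le_sum (f := fun j => n i j) (fun j _ => Nat.zero_le _)
      (Finset.mem_univ i))
  have hrow1 : ∀ i, ∑ j, n i j = 1 := by
    have h1 : ∑ i : ι, 1 = ∑ i, ∑ j, n i j := by
      rw [hsum, Finset.sum_const, Finset.card_univ, smul_eq_mul, mul_one]
    have := (Finset.sum_eq_sum_iff_of_le (fun i _ => hrow i)).mp h1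
    intro i
    exact (this i (Finset.mem_univ i)).symm
  have hsplit : ∀ i, ∑ j, n i j = n i i + ∑ j ∈ Finset.univ.erase i, n i j := fun i =>
    (Finset.add_sum_erase Finset.univ (fun j => n i j) (Finset.mem_univ i)).symm
  constructor
  · intro i
    have := hrow1 i
    rw [hsplit] at this
    have := hd i
    omega
  · intro i j hij
    have h1 := hrow1 i
    rw [hsplit] at h1
    have h2 := hd i
    have h3 : ∑ j ∈ Finset.univ.erase i, n i j = 0 := by omega
    exact Finset.sum_eq_zero_iff.mp h3 j (Finset.mem_erase.mpr ⟨hij.symm, Finset.mem_univ j⟩)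

/-- **Decomposition.** -/
theorem irr_of_sum {ι : Type*} [Fintype ι] (c : ι → G → ℂ)
    (hc : ∀ i, Cfsg.IsCharacter G (c i)) (hne : ∀ i, c i ≠ 0)
    (hsum : Cfsg.classInner (∑ i, c i) (∑ i, c i) = (Fintype.card ι : ℂ)) :
    (∀ i, Cfsg.IsIrrCharacter G (c i)) ∧ Function.Injective c := by
  classical
  have hn : ∀ i j, ∃ k : ℕ, Cfsg.classInner (c i) (c j) = k := fun i j =>
    classInner_char_char_nat (hc i) (hc j)
  choose n hn using hn
  have hd : ∀ i, 1 ≤ n i i := by
    intro i
    rcases Nat.eq_zero_or_pos (n i i) with h | h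
    · exfalso
      apply hne i
      apply classInner_self_eq_zero
      rw [hn, h, Nat.cast_zero]
    · exact h
  have hs : ∑ i, ∑ j, n i j = Fintype.card ι := by
    have : ((∑ i, ∑ j, n i j : ℕ) : ℂ) = (Fintype.card ι : ℂ) := by
      rw [← hsum, classInner_sum_left]
      push_cast
      apply Finset.sum_congr rfl
      intro i _
      rw [classInner_sum_right]
      apply Finset.sum_congr rfl
      intro j _
      rw [hn]
    exact_mod_cast this
  obtain ⟨h1, h0⟩ := nat_matrix n hd hs
  constructor
  · intro i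
    apply isIrrCharacter_of_classInner_self (hc i)
    rw [hn, h1, Nat.cast_one]
  · intro i j hij
    by_contra hne'
    have := h0 i j hne'
    have e : Cfsg.classInner (c i) (c j) = 1 := by
      rw [← hij, hn, h1, Nat.cast_one]
    rw [hn, this, Nat.cast_zero] at e
    exact zero_ne_one e

end Cfsg.Agent.Helper8.CharDecomp
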