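import Mathlib

set_option autoImplicit false

namespace Cfsg.Agent.Helper8

/-- `n = 2 ^ v₂(n) * odd`. -/
theorem exists_odd_mul (n : ℕ) (hn : n ≠ 0) :
    ∃ n' : ℕ, Odd n' ∧ n = 2 ^ padicValNat 2 n * n' := by
  have hnd : ¬ 2 ^ (padicValNat 2 n + 1) ∣ n := pow_succ_padicValNat_not_dvd hn
  have hd : 2 ^ (padicValNat 2 n) ∣ n := pow_padicValNat_dvd
  generalize padicValNat 2 n = e at hnd hd ⊢
  obtain ⟨n', hn'⟩ := hd
  refine ⟨n', ?_, hn'⟩
  rw [← Nat.not_even_iff_odd]
  rintro ⟨k, hk⟩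
  apply hnd
  refine ⟨k, ?_⟩
  rw [hn', hk, pow_succ]
  ring

/-- In a finite field, there is a unit of each order dividing `q - 1`. -/
theorem exists_unit_orderOf {F : Type*} [Field F] [Fintype F] (d : ℕ)
    (hd : d ∣ Fintype.card F - 1) : ∃ y : Fˣ, orderOf y = d := by
  classical
  obtain ⟨g, hg⟩ := IsCyclic.exists_ofOrder_eq_natCard (α := Fˣ)
  rw [Nat.card_eq_fintype_card, Fintype.card_units] at hg
  have hpos : 0 < Fintype.card F - 1 := by
    have := Fintype.one_lt_card (α := F)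
    omega
  obtain ⟨k, hk⟩ := hd
  have hk0 : k ≠ 0 := by
    rintro rfl
    rw [mul_zero] at hk
    omega
  refine ⟨g ^ k, ?_⟩
  rw [orderOf_pow_of_dvd hk0 (by rw [hg, hk]; exact Dvd.intro_left _ rfl), hg, hk]
  exact Nat.mul_div_cancel _ (Nat.pos_of_ne_zero hk0)

/-- In a field where `-1 ≠ 1`... an element of multiplicative order `2` is `-1`. -/
theorem eq_neg_one_of_orderOf_eq_two {F : Type*} [Field F] (x : F) (hx : orderOf x = 2) :
    x = -1 := by
  have h2 : x ^ 2 = 1 := by rw [← hx]; exact pow_orderOf_eq_one x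
  have h1 : x ≠ 1 := by
    intro h
    rw [h, orderOf_one] at hx
    norm_num at hx
  rw [pow_two] at h2
  rcases mul_self_eq_one_iff.mp h2 with h | h
  · exact absurd h h1
  · exact h

/-- A unit of order `2^(k+1)`: its `2^k`-th power is `-1`. -/
theorem pow_half_eq_neg_one {F : Type*} [Field F] (y : F) (k : ℕ)
    (hy : orderOf y = 2 ^ (k + 1)) : y ^ (2 ^ k) = -1 := by
  apply eq_neg_one_of_orderOf_eq_two
  rw [orderOf_pow_of_dvd (pow_ne_zero _ two_ne_zero) (by rw [hy]; exact pow_dvd_pow 2 (Nat.le_succ k)), hy,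
    pow_succ, Nat.mul_div_cancel_left _ (pow_pos two_pos k)]

/-- In a finite field of odd cardinality, `-1 ≠ 1`. -/
theorem neg_one_ne_one_of_odd_card {F : Type*} [Field F] [Fintype F]
    (hq : Odd (Fintype.card F)) : (-1 : F) ≠ 1 := by
  intro h
  have h2 : (2 : F) = 0 := by
    have : (1 : F) + 1 = 0 := by
      nth_rewrite 1 [← h]
      exact neg_add_cancel 1
    rw [← this]; norm_num
  obtain ⟨p, hp⟩ := CharP.exists F
  haveI := hp
  have hp2 : p ∣ 2 := by
    have := (CharP.cast_eq_zero_iff F p 2).mp (by exact_mod_cast h2)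
    exact this
  haveI : Fact p.Prime := ⟨CharP.char_is_prime F p⟩
  have hp2' : p = 2 := (Nat.prime_dvd_prime_iff_eq (Fact.out) Nat.prime_two).mp hp2
  subst hp2'
  have : 2 ∣ Fintype.card F := by
    obtain ⟨n, hn⟩ := FiniteField.card F 2
    rw [hn.2]
    exact dvd_pow_self 2 n.ne_zero
  rcases hq with ⟨k, hk⟩
  omega

end Cfsg.Agent.Helper8
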