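import Mathlib
import Cfsg.Agent.S2437
import Cfsg.Agent.Helper8.SL2Cent
import Cfsg.Agent.Helper6.IndFun

set_option autoImplicit false

/-!
The principal series functions `R(α)` of `SL₂(F)`: values.
-/

namespace Cfsg.Agent.Helper8.SL2C

open Matrix Cfsg.Agent.Helper7.SL2 Cfsg.Agent.S2437 Cfsg.Agent.Helper6
open scoped Matrix

variable {F : Type*} [Field F]

/-- the linear character `b ↦ α b₀₀` of the Borel subgroup. -/
noncomputable def thB (α : MulChar F ℂ) : Bor F → ℂ :=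
  fun b => α (((b : SpecialLinearGroup (Fin 2) F) : Matrix (Fin 2) (Fin 2) F) 0 0)

open Classical in
/-- its extension by zero. -/
noncomputable def extB (α : MulChar F ℂ) (h : SpecialLinearGroup (Fin 2) F) : ℂ :=
  if (h : Matrix (Fin 2) (Fin 2) F) 1 0 = 0 then α ((h : Matrix (Fin 2) (Fin 2) F) 0 0) else 0

theorem extendByZero_thB (α : MulChar F ℂ) : Cfsg.extendByZero (Bor F) (thB α) = extB α := by
  funext h
  by_cases hh : h ∈ Bor F
  · rw [extendByZero_mem _ _ hh]
    unfold extB thB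
    rw [if_pos ((mem_Bor h).mp hh)]
  · rw [extendByZero_not_mem _ _ hh]
    unfold extB
    rw [if_neg (fun h' => hh ((mem_Bor h).mpr h'))]

theorem conj_10 (x g : SpecialLinearGroup (Fin 2) F) :
    ((x⁻¹ * g * x : SpecialLinearGroup (Fin 2) F) : Matrix (Fin 2) (Fin 2) F) 1 0 =
      Qf g ((x : Matrix (Fin 2) (Fin 2) F) 0 0) ((x : Matrix (Fin 2) (Fin 2) F) 1 0) := by
  obtain ⟨i00, i01, i10, i11⟩ := coe_inv_apply x
  simp only [coe_mul_apply, i00, i01, i10, i11, Qf]
  ring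

theorem conj_00 (x g : SpecialLinearGroup (Fin 2) F) :
    ((x⁻¹ * g * x : SpecialLinearGroup (Fin 2) F) : Matrix (Fin 2) (Fin 2) F) 0 0 =
      (x : Matrix (Fin 2) (Fin 2) F) 1 1 *
        ((g : Matrix (Fin 2) (Fin 2) F) 0 0 * (x : Matrix (Fin 2) (Fin 2) F) 0 0 +
          (g : Matrix (Fin 2) (Fin 2) F) 0 1 * (x : Matrix (Fin 2) (Fin 2) F) 1 0) -
      (x : Matrix (Fin 2) (Fin 2) F) 0 1 *
        ((g : Matrix (Fin 2) (Fin 2) F) 1 0 * (x : Matrix (Fin 2) (Fin 2) F) 0 0 +
          (g : Matrix (Fin 2) (Fin 2) F) 1 1 * (x : Matrix (Fin 2) (Fin 2) F) 1 0) := by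
  obtain ⟨i00, i01, i10, i11⟩ := coe_inv_apply x
  simp only [coe_mul_apply, i00, i01, i10, i11]
  ring

section fin
variable [Fintype F] [DecidableEq F]

/-- the principal series function. -/
noncomputable def Rind (α : MulChar F ℂ) : SpecialLinearGroup (Fin 2) F → ℂ :=
  Cfsg.indFun (Bor F) (thB α)

theorem Rind_apply (α : MulChar F ℂ) (g : SpecialLinearGroup (Fin 2) F) :
    Rind α g = (Nat.card (Bor F) : ℂ)⁻¹ * ∑ x : SpecialLinearGroup (Fin 2) F, extB α (x⁻¹ * g * x) := by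
  unfold Rind
  rw [indFun_apply, extendByZero_thB]

theorem card_Bor : Nat.card (Bor F) = (Fintype.card F - 1) * Fintype.card F := by
  rw [← Nat.card_congr (eB (F := F)), Nat.card_prod, Nat.card_eq_fintype_card,
    Nat.card_eq_fintype_card, Fintype.card_units]

theorem card_Bor_ne_zero : (Nat.card (Bor F) : ℂ) ≠ 0 := by
  rw [card_Bor]
  have h1 : 2 ≤ Fintype.card F := Fintype.one_lt_card
  have : (Fintype.card F - 1) * Fintype.card F ≠ 0 := by
    apply Nat.mul_ne_zero <;> omega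
  exact_mod_cast this

theorem sum_ite_10 (c : ℂ)
    [DecidablePred (fun x : SpecialLinearGroup (Fin 2) F => (x : Matrix (Fin 2) (Fin 2) F) 1 0 = 0)] :
    ∑ x : SpecialLinearGroup (Fin 2) F, (if (x : Matrix (Fin 2) (Fin 2) F) 1 0 = 0 then c else 0) =
      (Nat.card (Bor F) : ℂ) * c := by
  classical
  rw [← Finset.sum_filter, Finset.sum_const, nsmul_eq_mul]
  congr 2
  rw [Nat.card_eq_fintype_card, Fintype.card_subtype]
  congr 1
  ext x
  simp only [Finset.mem_filter, Finset.mem_univ, true_and]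
  exact (mem_Bor x).symm

theorem sum_ite_00 (c : ℂ)
    [DecidablePred (fun x : SpecialLinearGroup (Fin 2) F => (x : Matrix (Fin 2) (Fin 2) F) 0 0 = 0)] :
    ∑ x : SpecialLinearGroup (Fin 2) F, (if (x : Matrix (Fin 2) (Fin 2) F) 0 0 = 0 then c else 0) =
      (Nat.card (Bor F) : ℂ) * c := by
  classical
  rw [← sum_ite_10 c]
  apply Fintype.sum_equiv (Equiv.mulLeft (wey F))
  intro x
  have : ((wey F * x : SpecialLinearGroup (Fin 2) F) : Matrix (Fin 2) (Fin 2) F) 1 0 =
      -(x : Matrix (Fin 2) (Fin 2) F) 0 0 := by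
    rw [coe_mul_apply, wey, mk'_10, mk'_11]
    ring
  simp only [Equiv.coe_mulLeft, this, neg_eq_zero]

/-- value at a diagonal element with `a² ≠ 1`. -/
theorem Rind_diag (α : MulChar F ℂ) {g : SpecialLinearGroup (Fin 2) F}
    (h01 : (g : Matrix (Fin 2) (Fin 2) F) 0 1 = 0) (h10 : (g : Matrix (Fin 2) (Fin 2) F) 1 0 = 0)
    (ha : (g : Matrix (Fin 2) (Fin 2) F) 0 0 ^ 2 ≠ 1) :
    Rind α g = α ((g : Matrix (Fin 2) (Fin 2) F) 0 0) + α ((g : Matrix (Fin 2) (Fin 2) F) 1 1) := by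
  classical
  rw [Rind_apply]
  have hd := det_eq g
  rw [h01, zero_mul, sub_zero] at hd
  have hne : (g : Matrix (Fin 2) (Fin 2) F) 1 1 - (g : Matrix (Fin 2) (Fin 2) F) 0 0 ≠ 0 := by
    intro h
    apply ha
    have : (g : Matrix (Fin 2) (Fin 2) F) 1 1 = (g : Matrix (Fin 2) (Fin 2) F) 0 0 := sub_eq_zero.mp h
    rw [this] at hd
    rw [pow_two]
    exact hd
  have key : ∀ x : SpecialLinearGroup (Fin 2) F, extB α (x⁻¹ * g * x) =
      (if (x : Matrix (Fin 2) (Fin 2) F) 1 0 = 0 then α ((g : Matrix (Fin 2) (Fin 2) F) 0 0) else 0) +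
      (if (x : Matrix (Fin 2) (Fin 2) F) 0 0 = 0 then α ((g : Matrix (Fin 2) (Fin 2) F) 1 1) else 0) := by
    intro x
    unfold extB
    rw [conj_10, conj_00, Qf, h01, h10]
    have hdx := det_eq x
    by_cases hs : (x : Matrix (Fin 2) (Fin 2) F) 1 0 = 0
    · have hp : (x : Matrix (Fin 2) (Fin 2) F) 0 0 ≠ 0 := by
        intro hp
        rw [hp, hs] at hdx
        simp at hdx
      rw [if_pos (by rw [hs]; ring), if_pos hs, if_neg hp, add_zero]
      congr 1
      rw [hs] at hdx ⊢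
      linear_combination ((g : Matrix (Fin 2) (Fin 2) F) 0 0) * hdx
    · by_cases hp : (x : Matrix (Fin 2) (Fin 2) F) 0 0 = 0
      · rw [if_pos (by rw [hp]; ring), if_neg hs, if_pos hp, zero_add]
        congr 1
        rw [hp] at hdx ⊢
        linear_combination ((g : Matrix (Fin 2) (Fin 2) F) 1 1) * hdx
      · rw [if_neg, if_neg hs, if_neg hp, add_zero]
        intro h
        have h3 : ((g : Matrix (Fin 2) (Fin 2) F) 1 1 - (g : Matrix (Fin 2) (Fin 2) F) 0 0) *
            ((x : Matrix (Fin 2) (Fin 2) F) 0 0 * (x : Matrix (Fin 2) (Fin 2) F) 1 0) = 0 := by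
          linear_combination h
        rcases mul_eq_zero.mp h3 with h4 | h4
        · exact hne h4
        · rcases mul_eq_zero.mp h4 with h5 | h5
          · exact hp h5
          · exact hs h5
  simp_rw [key]
  rw [Finset.sum_add_distrib, sum_ite_10, sum_ite_00, ← mul_add, ← mul_assoc,
    inv_mul_cancel₀ card_Bor_ne_zero, one_mul]

/-- value at an elliptic element. -/
theorem Rind_ell (α : MulChar F ℂ) {g : SpecialLinearGroup (Fin 2) F} (hg : IsEll g) :
    Rind α g = 0 := by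
  classical
  rw [Rind_apply]
  have key : ∀ x : SpecialLinearGroup (Fin 2) F, extB α (x⁻¹ * g * x) = 0 := by
    intro x
    unfold extB
    rw [if_neg]
    intro h
    have hE : IsEll (x⁻¹ * g * x) := by
      have := (isEll_conj (x⁻¹) (g := g)).mpr hg
      rwa [inv_inv] at this
    exact not_ell_of_mem_B (mem_B.mpr h) hE
  simp_rw [key]
  rw [Finset.sum_const_zero, mul_zero]

/-- value at `±` a non-trivial unipotent element. -/
theorem Rind_unip (α : MulChar F ℂ) {g : SpecialLinearGroup (Fin 2) F}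
    (h10 : (g : Matrix (Fin 2) (Fin 2) F) 1 0 = 0)
    (heq : (g : Matrix (Fin 2) (Fin 2) F) 0 0 = (g : Matrix (Fin 2) (Fin 2) F) 1 1)
    (h01 : (g : Matrix (Fin 2) (Fin 2) F) 0 1 ≠ 0) :
    Rind α g = α ((g : Matrix (Fin 2) (Fin 2) F) 0 0) := by
  classical
  rw [Rind_apply]
  have key : ∀ x : SpecialLinearGroup (Fin 2) F, extB α (x⁻¹ * g * x) =
      (if (x : Matrix (Fin 2) (Fin 2) F) 1 0 = 0 then α ((g : Matrix (Fin 2) (Fin 2) F) 0 0) else 0) := by
    intro x
    unfold extB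
    rw [conj_10, conj_00, Qf, h10, ← heq]
    have hdx := det_eq x
    by_cases hs : (x : Matrix (Fin 2) (Fin 2) F) 1 0 = 0
    · rw [if_pos (by rw [hs]; ring), if_pos hs]
      congr 1
      rw [hs] at hdx ⊢
      linear_combination ((g : Matrix (Fin 2) (Fin 2) F) 0 0) * hdx
    · rw [if_neg, if_neg hs]
      intro h
      have h3 : (g : Matrix (Fin 2) (Fin 2) F) 0 1 *
          ((x : Matrix (Fin 2) (Fin 2) F) 1 0 * (x : Matrix (Fin 2) (Fin 2) F) 1 0) = 0 := by
        linear_combination -h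
      rcases mul_eq_zero.mp h3 with h4 | h4
      · exact h01 h4
      · rcases mul_eq_zero.mp h4 with h5 | h5
        · exact hs h5
        · exact hs h5
  simp_rw [key]
  rw [sum_ite_10, ← mul_assoc, inv_mul_cancel₀ card_Bor_ne_zero, one_mul]

theorem card_SL2_eq : (Nat.card (SpecialLinearGroup (Fin 2) F) : ℂ) =
    ((Fintype.card F : ℂ) + 1) * (Nat.card (Bor F) : ℂ) := by
  rw [card_SL2, card_Bor]
  have h1 : 1 ≤ Fintype.card F := Fintype.card_pos
  have h2 : 1 ≤ Fintype.card F ^ 2 := Nat.one_le_pow _ _ h1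
  push_cast [Nat.cast_sub h1, Nat.cast_sub h2]
  ring

/-- value at a scalar element. -/
theorem Rind_scalar (α : MulChar F ℂ) {g : SpecialLinearGroup (Fin 2) F}
    (h01 : (g : Matrix (Fin 2) (Fin 2) F) 0 1 = 0) (h10 : (g : Matrix (Fin 2) (Fin 2) F) 1 0 = 0)
    (heq : (g : Matrix (Fin 2) (Fin 2) F) 0 0 = (g : Matrix (Fin 2) (Fin 2) F) 1 1) :
    Rind α g = ((Fintype.card F : ℂ) + 1) * α ((g : Matrix (Fin 2) (Fin 2) F) 0 0) := by
  classical
  rw [Rind_apply]
  have key : ∀ x : SpecialLinearGroup (Fin 2) F, extB α (x⁻¹ * g * x) =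
      α ((g : Matrix (Fin 2) (Fin 2) F) 0 0) := by
    intro x
    unfold extB
    rw [conj_10, conj_00, Qf, h10, h01, ← heq]
    have hdx := det_eq x
    rw [if_pos (by ring)]
    congr 1
    linear_combination ((g : Matrix (Fin 2) (Fin 2) F) 0 0) * hdx
  simp_rw [key]
  rw [Finset.sum_const, nsmul_eq_mul, Finset.card_univ, ← Nat.card_eq_fintype_card, card_SL2_eq]
  have hB := card_Bor_ne_zero (F := F)
  field_simp

end fin

end Cfsg.Agent.Helper8.SL2C
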