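import Mathlib
import Cfsg.Agent.Helper8.SL2Ind

set_option autoImplicit false

/-!
Inner products of the principal series functions `R(α)` of `SL₂(F)`.
-/

namespace Cfsg.Agent.Helper8.SL2C

open Matrix Cfsg.Agent.Helper7.SL2 Cfsg.Agent.S2437 Cfsg.Agent.Helper6
open scoped Matrix ComplexConjugate

variable {F : Type*} [Field F] [Fintype F] [DecidableEq F]

theorem sum_units_mulChar (χ : MulChar F ℂ) : ∑ a : Fˣ, χ (a : F) = ∑ x : F, χ x := by
  classical
  have h1 : ∑ x : F, χ x = ∑ x ∈ Finset.univ.filter (fun x : F => x ≠ 0), χ x := by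
    rw [Finset.sum_filter]
    apply Finset.sum_congr rfl
    intro x _
    by_cases hx : x = 0
    · rw [if_neg (not_not.mpr hx), hx]
      exact MulChar.map_zero χ
    · rw [if_pos hx]
  rw [h1, Finset.sum_subtype (Finset.univ.filter (fun x : F => x ≠ 0)) (p := fun x => x ≠ 0)
    (by intro x; simp)]
  exact Fintype.sum_equiv unitsEquivNeZero _ _ (fun a => rfl)

theorem sum_units_mulChar_eq (χ : MulChar F ℂ) [Decidable (χ = 1)] :
    ∑ a : Fˣ, χ (a : F) = if χ = 1 then ((Fintype.card F - 1 : ℕ) : ℂ) else 0 := by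
  rw [sum_units_mulChar]
  by_cases h : χ = 1
  · rw [if_pos h, h, MulChar.sum_one_eq_card_units, Fintype.card_units]
  · rw [if_neg h, MulChar.sum_eq_zero_of_ne_one h]

/-- the values of `R(β)` on the Borel subgroup. -/
theorem Rind_bmat_ne (β : MulChar F ℂ) (a : Fˣ) (c : F) (ha : (a : F) ^ 2 ≠ 1) :
    Rind β (bmat a c) = β (a : F) + β ((a⁻¹ : Fˣ) : F) := by
  have hb : bmat a c ∈ B F := by
    rw [mem_B, bmat_coe]
    rfl
  have h00 : (bmat a c : Matrix (Fin 2) (Fin 2) F) 0 0 = (a : F) := by rw [bmat_coe]; rfl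
  have h11 : (bmat a c : Matrix (Fin 2) (Fin 2) F) 1 1 = ((a⁻¹ : Fˣ) : F) := by rw [bmat_coe]; rfl
  have hne : (bmat a c : Matrix (Fin 2) (Fin 2) F) 0 0 ≠ (bmat a c : Matrix (Fin 2) (Fin 2) F) 1 1 := by
    rw [h00, h11]
    intro h
    apply ha
    rw [pow_two]
    nth_rewrite 2 [h]
    rw [← Units.val_mul, mul_inv_cancel, Units.val_one]
  obtain ⟨a', ha', hc⟩ := isConj_tor_of_mem_B hb hne
  have : a' = a := Units.ext (by rw [ha', h00])
  subst this
  obtain ⟨k, hk⟩ := isConj_iff.mp hc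
  have hcf := indFun_isClassFunction (Bor F) (thB β) (bmat a' c) k
  have : Rind β (bmat a' c) = Rind β (tor a') := by
    unfold Rind
    rw [← hcf, hk]
  rw [this, Rind_diag β (tor_01 a') (tor_10 a') (by rw [tor_00]; exact ha), tor_00]
  rfl

theorem Rind_bmat_eq (β : MulChar F ℂ) (a : Fˣ) (c : F) (ha : (a : F) ^ 2 = 1) :
    Rind β (bmat a c) = β (a : F) + (if c = 0 then (Fintype.card F : ℂ) * β (a : F) else 0) := by
  have h00 : (bmat a c : Matrix (Fin 2) (Fin 2) F) 0 0 = (a : F) := by rw [bmat_coe]; rfl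
  have h11 : (bmat a c : Matrix (Fin 2) (Fin 2) F) 1 1 = ((a⁻¹ : Fˣ) : F) := by rw [bmat_coe]; rfl
  have h10 : (bmat a c : Matrix (Fin 2) (Fin 2) F) 1 0 = 0 := by rw [bmat_coe]; rfl
  have h01 : (bmat a c : Matrix (Fin 2) (Fin 2) F) 0 1 = c := by rw [bmat_coe]; rfl
  have hinv : ((a⁻¹ : Fˣ) : F) = (a : F) := by
    rw [Units.val_inv_eq_inv_val]
    apply inv_eq_of_mul_eq_one_left
    rw [← pow_two]; exact ha
  have heq : (bmat a c : Matrix (Fin 2) (Fin 2) F) 0 0 = (bmat a c : Matrix (Fin 2) (Fin 2) F) 1 1 := by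
    rw [h00, h11, hinv]
  by_cases hc : c = 0
  · rw [if_pos hc, Rind_scalar β (by rw [h01]; exact hc) h10 heq, h00]
    ring
  · rw [if_neg hc, add_zero, Rind_unip β h10 heq (by rw [h01]; exact hc), h00]

theorem sum_conj_Rind_bmat (β : MulChar F ℂ) (a : Fˣ) :
    ∑ c : F, conj (Rind β (bmat a c)) =
      (Fintype.card F : ℂ) * (β⁻¹ (a : F) + β (a : F)) := by
  have hs1 : conj (β (a : F)) = β⁻¹ (a : F) := MulChar.star_apply' β a
  have hs2 : conj (β ((a⁻¹ : Fˣ) : F)) = β (a : F) := by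
    have := MulChar.star_apply' β ((a⁻¹ : Fˣ) : F)
    rw [MulChar.inv_apply', Units.val_inv_eq_inv_val, inv_inv] at this
    rw [Units.val_inv_eq_inv_val]
    exact this
  by_cases ha : (a : F) ^ 2 = 1
  · simp_rw [Rind_bmat_eq β a _ ha]
    have hinv : ((a⁻¹ : Fˣ) : F) = (a : F) := by
      rw [Units.val_inv_eq_inv_val]
      apply inv_eq_of_mul_eq_one_left
      rw [← pow_two]; exact ha
    rw [hinv] at hs2
    simp_rw [map_add, apply_ite conj, map_zero, map_mul, Complex.conj_natCast]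
    rw [Finset.sum_add_distrib, Finset.sum_const, Finset.sum_ite_eq', if_pos (Finset.mem_univ _),
      Finset.card_univ, nsmul_eq_mul, hs1]
    rw [hs1] at hs2
    rw [← hs2]
    ring
  · simp_rw [Rind_bmat_ne β a _ ha]
    rw [Finset.sum_const, Finset.card_univ, nsmul_eq_mul, map_add, hs1, hs2]

/-- the inner product of two principal series functions. -/
theorem classInner_Rind (α β : MulChar F ℂ) [Decidable (α = β)] [Decidable (α = β⁻¹)] :
    Cfsg.classInner (Rind α) (Rind β) =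
      (if α = β then 1 else 0) + (if α = β⁻¹ then 1 else 0) := by
  classical
  haveI : Fintype (Bor F) := Fintype.ofFinite _
  have hfr := frobenius_reciprocity (Bor F) (thB α) (Rind β) (indFun_isClassFunction _ _)
  change Cfsg.classInner (Rind α) (Rind β) = _ at hfr
  rw [hfr]
  unfold Cfsg.classInner
  have hsum : ∑ g : Bor F, thB α g * conj (Rind β (g : SpecialLinearGroup (Fin 2) F)) =
      ∑ p : Fˣ × F, α (p.1 : F) * conj (Rind β (bmat p.1 p.2)) := by
    symm
    apply Fintype.sum_equiv (eB (F := F))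
    intro p
    rfl
  rw [hsum, Fintype.sum_prod_type]
  simp_rw [← Finset.mul_sum, sum_conj_Rind_bmat]
  have h3 : ∀ a : Fˣ, α (a : F) * ((Fintype.card F : ℂ) * (β⁻¹ (a : F) + β (a : F))) =
      (Fintype.card F : ℂ) * ((α * β⁻¹) (a : F) + (α * β) (a : F)) := by
    intro a
    rw [MulChar.mul_apply, MulChar.mul_apply]
    ring
  simp_rw [h3]
  rw [← Finset.mul_sum, Finset.sum_add_distrib, sum_units_mulChar_eq, sum_units_mulChar_eq, card_Bor]
  have e1 : (α * β⁻¹ = 1) ↔ α = β := mul_inv_eq_one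
  have e2 : (α * β = 1) ↔ α = β⁻¹ := mul_eq_one_iff_eq_inv
  simp only [e1, e2]
  have hq : ((Fintype.card F : ℕ) : ℂ) ≠ 0 := by
    have : Fintype.card F ≠ 0 := Fintype.card_ne_zero
    exact_mod_cast this
  have hq1 : ((Fintype.card F - 1 : ℕ) : ℂ) ≠ 0 := by
    have h1 : 2 ≤ Fintype.card F := Fintype.one_lt_card
    have : Fintype.card F - 1 ≠ 0 := by omega
    exact_mod_cast this
  rw [Nat.cast_mul]
  split_ifs <;> field_simp <;> ring

end Cfsg.Agent.Helper8.SL2C
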