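import Mathlib
import Cfsg.Agent.Helper8.SL2IndInner
import Cfsg.Agent.Helper6.Linear
import Cfsg.Agent.Helper6.IrrCrit
import Cfsg.Agent.Helper6.Induced

set_option autoImplicit false

/-!
The principal series functions `R(α)` of `SL₂(F)` are characters.
-/

namespace Cfsg.Agent.Helper8.SL2C

open Matrix Cfsg.Agent.Helper7.SL2 Cfsg.Agent.S2437 Cfsg.Agent.Helper6
open scoped Matrix ComplexConjugate

variable {F : Type*} [Field F]

theorem bor_00_ne_zero (b : Bor F) :
    ((b : SpecialLinearGroup (Fin 2) F) : Matrix (Fin 2) (Fin 2) F) 0 0 ≠ 0 := by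
  intro h
  have hd := det_eq (b : SpecialLinearGroup (Fin 2) F)
  rw [(mem_Bor _).mp b.2, h] at hd
  simp at hd

/-- the diagonal entry, as a homomorphism on the Borel subgroup. -/
noncomputable def diagHom (F : Type*) [Field F] : Bor F →* Fˣ where
  toFun b := Units.mk0 _ (bor_00_ne_zero b)
  map_one' := by
    apply Units.ext
    change ((1 : SpecialLinearGroup (Fin 2) F) : Matrix (Fin 2) (Fin 2) F) 0 0 = 1
    exact one_00
  map_mul' b b' := by
    apply Units.ext
    change (((b : SpecialLinearGroup (Fin 2) F) * (b' : SpecialLinearGroup (Fin 2) F) :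
      SpecialLinearGroup (Fin 2) F) : Matrix (Fin 2) (Fin 2) F) 0 0 = _
    rw [coe_mul_apply, (mem_Bor _).mp b'.2, mul_zero, add_zero]
    rfl

theorem diagHom_coe (b : Bor F) :
    ((diagHom F b : Fˣ) : F) = ((b : SpecialLinearGroup (Fin 2) F) : Matrix (Fin 2) (Fin 2) F) 0 0 :=
  rfl

theorem thB_eq_hom (α : MulChar F ℂ) :
    thB α = fun b => (((α.toUnitHom.comp (diagHom F)) b : ℂˣ) : ℂ) := by
  funext b
  rw [MonoidHom.comp_apply, MulChar.coe_toUnitHom, diagHom_coe]
  rfl

theorem isIrrCharacter_thB (α : MulChar F ℂ) : Cfsg.IsIrrCharacter (Bor F) (thB α) := by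
  rw [thB_eq_hom]
  exact isIrrCharacter_of_hom _

variable [Fintype F] [DecidableEq F]

theorem isCharacter_Rind (α : MulChar F ℂ) :
    Cfsg.IsCharacter (SpecialLinearGroup (Fin 2) F) (Rind α) :=
  isCharacter_indFun (Bor F) (thB α) (IsIrrCharacter.isCharacter (isIrrCharacter_thB α))

theorem classInner_Rind_self (α : MulChar F ℂ) [Decidable (α ^ 2 = 1)] :
    Cfsg.classInner (Rind α) (Rind α) = if α ^ 2 = 1 then 2 else 1 := by
  classical
  rw [classInner_Rind, if_pos rfl]
  have : α = α⁻¹ ↔ α ^ 2 = 1 := by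
    rw [pow_two, mul_eq_one_iff_eq_inv]
  simp only [this]
  split_ifs <;> norm_num

/-- `R(α)` is irreducible iff `α² ≠ 1`. -/
theorem isIrrCharacter_Rind_iff (α : MulChar F ℂ) :
    Cfsg.IsIrrCharacter (SpecialLinearGroup (Fin 2) F) (Rind α) ↔ α ^ 2 ≠ 1 := by
  classical
  rw [isIrrCharacter_iff_classInner_self, classInner_Rind_self]
  constructor
  · rintro ⟨_, h⟩ h2
    rw [if_pos h2] at h
    norm_num at h
  · intro h
    exact ⟨isCharacter_Rind α, by rw [if_neg h]⟩

end Cfsg.Agent.Helper8.SL2C
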