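import Mathlib
import Cfsg.Agent.Helper8.SL2IndChar
import Cfsg.Agent.Helper8.SL2Parab
import Cfsg.Agent.Helper6.Constituent
import Cfsg.Agent.Helper6.LinearExt
import Cfsg.Agent.Helper6.DefectZeroInv

set_option autoImplicit false

/-!
Constituents of the principal series of `SL₂(F)`; the Steinberg character.
-/

namespace Cfsg.Agent.Helper8.SL2C

open Matrix Cfsg.Agent.Helper7.SL2 Cfsg.Agent.S2437 Cfsg.Agent.Helper6
open scoped Matrix ComplexConjugate

variable {F : Type*} [Field F]

theorem tor_eq_prod (a : Fˣ) :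
    tor a = up (a : F) * lo (-((a⁻¹ : Fˣ) : F)) * up (a : F) * (up (-1) * lo 1 * up (-1)) := by
  have h : (a : F) * ((a⁻¹ : Fˣ) : F) = 1 := by rw [← Units.val_mul, mul_inv_cancel, Units.val_one]
  apply ext' <;>
    simp only [coe_mul_apply, up_00, up_01, up_10, up_11, lo_00, lo_01, lo_10, lo_11, tor_00, tor_01,
      tor_10, tor_11]
  · linear_combination (a : F) * h
  · linear_combination (-1 : F) * h
  · linear_combination h
  · ring

theorem lo_eq_conj (x : F) : lo x = wey F * up (-x) * (wey F)⁻¹ := by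
  obtain ⟨i00, i01, i10, i11⟩ := coe_inv_apply (wey F)
  apply ext' <;>
    simp only [coe_mul_apply, up_00, up_01, up_10, up_11, lo_00, lo_01, lo_10, lo_11, i00, i01, i10,
      i11] <;> simp only [wey, mk'_00, mk'_01, mk'_10, mk'_11] <;> ring

theorem hom_tor_eq_one {M : Type*} [CommGroup M] (lam : SpecialLinearGroup (Fin 2) F →* M)
    (h : ∀ x : F, lam (up x) = 1) (a : Fˣ) : lam (tor a) = 1 := by
  have hlo : ∀ x : F, lam (lo x) = 1 := by
    intro x
    rw [lo_eq_conj, map_mul, map_mul, h, mul_one, ← map_mul, mul_inv_cancel, map_one]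
  rw [tor_eq_prod]
  simp only [map_mul, h, hlo, mul_one]

theorem bmat_one (c : F) : bmat (1 : Fˣ) c = up c := by
  apply ext' <;> rw [bmat_coe] <;> simp [up]

section fin
variable [Fintype F] [DecidableEq F]

theorem neZero_exponent : NeZero ((Monoid.exponent Fˣ : ℕ) : ℂ) :=
  ⟨by exact_mod_cast (Monoid.exponent_ne_zero_of_finite (G := Fˣ))⟩

theorem sum_mulChar_eq_zero [Fintype (MulChar F ℂ)] {a : F} (ha : a ≠ 1) :
    ∑ χ : MulChar F ℂ, χ a = 0 := by
  haveI := neZero_exponent (F := F)
  obtain ⟨χ, hχ⟩ := MulChar.exists_apply_ne_one_of_hasEnoughRootsOfUnity F ℂ ha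
  refine eq_zero_of_mul_eq_self_left hχ ?_
  simp only [Finset.mul_sum, ← MulChar.mul_apply]
  exact Fintype.sum_bijective _ (Group.mulLeft_bijective χ) _ _ fun χ' ↦ rfl

theorem card_mulChar [Fintype (MulChar F ℂ)] :
    Fintype.card (MulChar F ℂ) = Fintype.card F - 1 := by
  haveI := neZero_exponent (F := F)
  rw [← Nat.card_eq_fintype_card, MulChar.card_eq_card_units_of_hasEnoughRootsOfUnity F ℂ,
    Nat.card_eq_fintype_card, Fintype.card_units]

theorem sum_mulChar_units [Fintype (MulChar F ℂ)] (a : Fˣ) [Decidable (a = 1)] :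
    ∑ χ : MulChar F ℂ, χ (a : F) = if a = 1 then ((Fintype.card F - 1 : ℕ) : ℂ) else 0 := by
  by_cases ha : a = 1
  · rw [if_pos ha, ha, Units.val_one]
    simp only [map_one, Finset.sum_const, Finset.card_univ, nsmul_eq_mul, mul_one]
    rw [card_mulChar]
  · rw [if_neg ha]
    apply sum_mulChar_eq_zero
    intro h
    apply ha
    exact Units.ext h

/-- the sum over `α` of `⟨R(α), χ⟩` is `⟨1_U, χ|_U⟩`. -/
theorem sum_classInner_Rind [Fintype (MulChar F ℂ)] (χ : SpecialLinearGroup (Fin 2) F → ℂ)
    (hχ : Cfsg.IsClassFunction (SpecialLinearGroup (Fin 2) F) χ) :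
    ∑ α : MulChar F ℂ, Cfsg.classInner (Rind α) χ =
      (Fintype.card F : ℂ)⁻¹ * ∑ c : F, conj (χ (up c)) := by
  classical
  haveI : Fintype (Bor F) := Fintype.ofFinite _
  have h1 : ∀ α : MulChar F ℂ, Cfsg.classInner (Rind α) χ =
      (Nat.card (Bor F) : ℂ)⁻¹ * ∑ p : Fˣ × F, α (p.1 : F) * conj (χ (bmat p.1 p.2)) := by
    intro α
    have hfr := frobenius_reciprocity (Bor F) (thB α) χ hχ
    change Cfsg.classInner (Rind α) χ = _ at hfr
    rw [hfr]
    unfold Cfsg.classInner
    congr 1
    symm
    apply Fintype.sum_equiv (eB (F := F))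
    intro p
    rfl
  simp_rw [h1]
  rw [← Finset.mul_sum, Finset.sum_comm]
  simp_rw [← Finset.sum_mul, sum_mulChar_units]
  rw [Fintype.sum_prod_type]
  simp_rw [ite_mul, zero_mul]
  rw [Finset.sum_eq_single (1 : Fˣ)]
  · simp only [if_true, bmat_one]
    rw [← Finset.mul_sum, card_Bor, ← mul_assoc]
    congr 1
    have hq : ((Fintype.card F : ℕ) : ℂ) ≠ 0 := by
      have : Fintype.card F ≠ 0 := Fintype.card_ne_zero
      exact_mod_cast this
    have hq1 : ((Fintype.card F - 1 : ℕ) : ℂ) ≠ 0 := by
      have h1 : 2 ≤ Fintype.card F := Fintype.one_lt_card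
      have : Fintype.card F - 1 ≠ 0 := by omega
      exact_mod_cast this
    rw [Nat.cast_mul]
    field_simp
  · intro a _ ha
    simp_rw [if_neg ha]
    exact Finset.sum_const_zero
  · intro h
    exact absurd (Finset.mem_univ _) h


theorem isIrrCharacter_triv {G : Type*} [Group G] : Cfsg.IsIrrCharacter G (fun _ => (1 : ℂ)) := by
  have := isIrrCharacter_of_hom (1 : G →* ℂˣ)
  simpa using this

theorem classInner_Rind_triv (α : MulChar F ℂ) [Decidable (α = 1)] :
    Cfsg.classInner (Rind α) (fun _ => (1 : ℂ)) = if α = 1 then 1 else 0 := by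
  classical
  haveI : Fintype (Bor F) := Fintype.ofFinite _
  have hcf : Cfsg.IsClassFunction (SpecialLinearGroup (Fin 2) F) (fun _ => (1 : ℂ)) := fun _ _ => rfl
  have hfr := frobenius_reciprocity (Bor F) (thB α) (fun _ => (1 : ℂ)) hcf
  change Cfsg.classInner (Rind α) _ = _ at hfr
  rw [hfr]
  unfold Cfsg.classInner
  have hsum : ∑ g : Bor F, thB α g * conj (1 : ℂ) = ∑ p : Fˣ × F, α (p.1 : F) := by
    symm
    apply Fintype.sum_equiv (eB (F := F))
    intro p
    rw [map_one, mul_one]
    rfl
  rw [hsum, Fintype.sum_prod_type]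
  simp_rw [Finset.sum_const, Finset.card_univ, nsmul_eq_mul]
  rw [← Finset.mul_sum, sum_units_mulChar_eq, card_Bor]
  have hq : ((Fintype.card F : ℕ) : ℂ) ≠ 0 := by
    have : Fintype.card F ≠ 0 := Fintype.card_ne_zero
    exact_mod_cast this
  have hq1 : ((Fintype.card F - 1 : ℕ) : ℂ) ≠ 0 := by
    have h1 : 2 ≤ Fintype.card F := Fintype.one_lt_card
    have : Fintype.card F - 1 ≠ 0 := by omega
    exact_mod_cast this
  rw [Nat.cast_mul]
  split_ifs
  · field_simp
  · simp

theorem Rind_one (α : MulChar F ℂ) :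
    Rind α 1 = (Fintype.card F : ℂ) + 1 := by
  rw [Rind_scalar α one_01 one_10 (by rw [one_00, one_11]), one_00, map_one, mul_one]

/-- the Steinberg character. -/
noncomputable def St : SpecialLinearGroup (Fin 2) F → ℂ := Rind (1 : MulChar F ℂ) - fun _ => (1 : ℂ)

theorem St_apply (g : SpecialLinearGroup (Fin 2) F) : St g = Rind (1 : MulChar F ℂ) g - 1 := rfl

theorem isCharacter_St : Cfsg.IsCharacter (SpecialLinearGroup (Fin 2) F) (St (F := F)) := by
  classical
  apply sub_isCharacter_of_constituent (isCharacter_Rind 1) isIrrCharacter_triv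
  rw [classInner_Rind_triv, if_pos rfl]
  exact one_ne_zero

theorem isIrrCharacter_St : Cfsg.IsIrrCharacter (SpecialLinearGroup (Fin 2) F) (St (F := F)) := by
  classical
  apply isIrrCharacter_of_classInner_self isCharacter_St
  have h1 : Cfsg.classInner (Rind (1 : MulChar F ℂ)) (fun _ => (1 : ℂ)) = 1 := by
    rw [classInner_Rind_triv, if_pos rfl]
  have h2 : Cfsg.classInner (fun _ => (1 : ℂ)) (Rind (1 : MulChar F ℂ)) = 1 := by
    rw [classInner_conj_symm, h1, map_one]
  have h3 : Cfsg.classInner (Rind (1 : MulChar F ℂ)) (Rind (1 : MulChar F ℂ)) = 2 := by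
    rw [classInner_Rind_self, if_pos (one_pow 2)]
  have h4 : Cfsg.classInner (fun _ : SpecialLinearGroup (Fin 2) F => (1 : ℂ)) (fun _ => (1 : ℂ)) = 1 :=
    classInner_irr_self isIrrCharacter_triv
  unfold St
  rw [classInner_sub_left, classInner_sub_right, classInner_sub_right, h1, h2, h3, h4]
  norm_num

theorem St_one : St (F := F) 1 = (Fintype.card F : ℂ) := by
  rw [St_apply, Rind_one]
  ring

/-- an irreducible character of degree `q` is the Steinberg character. -/
theorem eq_St_of_degree {χ : SpecialLinearGroup (Fin 2) F → ℂ}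
    (hχ : Cfsg.IsIrrCharacter (SpecialLinearGroup (Fin 2) F) χ) (hdeg : χ 1 = (Fintype.card F : ℂ)) :
    χ = St := by
  classical
  haveI : Fintype (MulChar F ℂ) := Fintype.ofFinite _
  haveI : Fintype (Bor F) := Fintype.ofFinite _
  have hq2 : 2 ≤ Fintype.card F := Fintype.one_lt_card
  -- the characteristic
  set p := ringChar F with hp
  haveI : CharP F p := ringChar.charP F
  obtain ⟨n, hpp, hcard⟩ := FiniteField.card F p
  haveI : Fact p.Prime := ⟨hpp⟩
  -- vanishing at unipotent elements
  have hvan : ∀ c : F, c ≠ 0 → χ (up c) = 0 := by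
    intro c hc
    have hdvd : p ^ (Nat.card (SpecialLinearGroup (Fin 2) F)).factorization p ∣
        Cfsg.charDegree (χ : SpecialLinearGroup (Fin 2) F → ℂ) := by
      rw [factorization_card_SL2 p hcard n.pos]
      unfold Cfsg.charDegree
      rw [hdeg, Complex.natCast_re, Nat.floor_natCast, hcard]
    have := irr_vanish_of_factorization (⟨χ, hχ⟩ : Cfsg.IrrCharacter _) hpp hdvd (up c)
      (by rw [orderOf_up p hc])
    exact this
  -- the sum of the multiplicities
  have hsum := sum_classInner_Rind χ (IsCharacter.isClassFunction (IsIrrCharacter.isCharacter hχ))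
  have hU : ∑ c : F, conj (χ (up c)) = (Fintype.card F : ℂ) := by
    rw [Finset.sum_eq_single (0 : F)]
    · rw [up_zero, hdeg, Complex.conj_natCast]
    · intro c _ hc
      rw [hvan c hc, map_zero]
    · intro h
      exact absurd (Finset.mem_univ _) h
  rw [hU] at hsum
  have hq : ((Fintype.card F : ℕ) : ℂ) ≠ 0 := by
    have : Fintype.card F ≠ 0 := Fintype.card_ne_zero
    exact_mod_cast this
  rw [inv_mul_cancel₀ hq] at hsum
  obtain ⟨α, hα⟩ : ∃ α : MulChar F ℂ, Cfsg.classInner (Rind α) χ ≠ 0 := by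
    by_contra hcon
    push Not at hcon
    rw [Finset.sum_congr rfl (fun α _ => hcon α), Finset.sum_const_zero] at hsum
    exact zero_ne_one hsum
  have hq1 : (Fintype.card F : ℂ) ≠ 1 := by
    have : Fintype.card F ≠ 1 := by omega
    exact_mod_cast this
  by_cases h2 : α ^ 2 = 1
  · -- `R(α) - χ` is linear
    have hΔ := sub_isCharacter_of_constituent (isCharacter_Rind α) hχ hα
    have hΔ1 : (Rind α - χ) 1 = 1 := by
      rw [Pi.sub_apply, Rind_one, hdeg]
      ring
    obtain ⟨lam, hlam⟩ := exists_hom_of_char_degree_one hΔ hΔ1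
    have hlamirr := isIrrCharacter_of_hom lam
    have hR : Rind α = χ + fun g => ((lam g : ℂˣ) : ℂ) := by
      rw [← hlam]
      ring
    have hne : χ ≠ fun g => ((lam g : ℂˣ) : ℂ) := by
      intro h
      have := congrFun h 1
      rw [hdeg, map_one, Units.val_one] at this
      exact hq1 this
    have hin : Cfsg.classInner (Rind α) (fun g => ((lam g : ℂˣ) : ℂ)) = 1 := by
      rw [hR, classInner_add_left, classInner_irr_ne hχ hlamirr hne, classInner_irr_self hlamirr,
        zero_add]
    -- restrict to the Borel subgroup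
    have hfr := frobenius_reciprocity (Bor F) (thB α) (fun g => ((lam g : ℂˣ) : ℂ))
      (IsCharacter.isClassFunction (IsIrrCharacter.isCharacter hlamirr))
    change Cfsg.classInner (Rind α) _ = _ at hfr
    rw [hin] at hfr
    have hres : Cfsg.IsIrrCharacter (Bor F) (fun h : Bor F =>
        (((lam (h : SpecialLinearGroup (Fin 2) F)) : ℂˣ) : ℂ)) :=
      isIrrCharacter_of_hom (lam.comp (Bor F).subtype)
    have heq : thB α = fun h : Bor F => (((lam (h : SpecialLinearGroup (Fin 2) F)) : ℂˣ) : ℂ) := by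
      by_contra hne'
      rw [classInner_irr_ne (isIrrCharacter_thB α) hres hne'] at hfr
      exact one_ne_zero hfr
    have hup : ∀ x : F, lam (up x) = 1 := by
      intro x
      have hm : up x ∈ Bor F := (mem_Bor _).mpr (up_10 x)
      have := congrFun heq ⟨up x, hm⟩
      apply Units.ext
      rw [Units.val_one, ← this]
      unfold thB
      change α ((up x : Matrix (Fin 2) (Fin 2) F) 0 0) = 1
      rw [up_00, map_one]
    have hα1 : α = 1 := by
      apply MulChar.ext
      intro a
      have hm : tor a ∈ Bor F := (mem_Bor _).mpr (tor_10 a)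
      have := congrFun heq ⟨tor a, hm⟩
      rw [MulChar.one_apply_coe]
      have h1 : thB α ⟨tor a, hm⟩ = α (a : F) := rfl
      rw [h1] at this
      rw [this]
      change ((lam (tor a) : ℂˣ) : ℂ) = 1
      rw [hom_tor_eq_one lam hup a, Units.val_one]
    subst hα1
    -- the trivial character is the other constituent
    have htr : Cfsg.classInner (Rind (1 : MulChar F ℂ)) (fun _ => (1 : ℂ)) = 1 := by
      rw [classInner_Rind_triv, if_pos rfl]
    have hχtr : χ ≠ fun _ => (1 : ℂ) := by
      intro h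
      have := congrFun h 1
      rw [hdeg] at this
      exact hq1 this
    rw [hR, classInner_add_left, classInner_irr_ne hχ isIrrCharacter_triv hχtr, zero_add] at htr
    have hlt : (fun g => ((lam g : ℂˣ) : ℂ)) = fun _ => (1 : ℂ) := by
      by_contra hne'
      rw [classInner_irr_ne hlamirr isIrrCharacter_triv hne'] at htr
      exact zero_ne_one htr
    unfold St
    rw [hR, hlt]
    ring
  · exfalso
    have hirr := (isIrrCharacter_Rind_iff α).mpr h2
    have : Rind α = χ := by
      by_contra hne'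
      exact hα (classInner_irr_ne hirr hχ hne')
    have := congrFun this 1
    rw [Rind_one, hdeg] at this
    have h0 : (1 : ℂ) = 0 := by linear_combination this
    exact one_ne_zero h0

end fin

end Cfsg.Agent.Helper8.SL2C
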