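import Mathlib
import Cfsg.Agent.Helper8.SLTrans

set_option autoImplicit false

/-!
The stabiliser `P` of the line `F e₀` in `SL_n(F)` and counting lemmas.
-/

namespace Cfsg.Agent.Helper8.SLPerm

open scoped Matrix
open Matrix Cfsg.Agent.Helper8.SLTrans

variable {F : Type*} [Field F] {m : ℕ}

/-- the stabiliser of the line spanned by `e₀`. -/
def P (F : Type*) [Field F] (m : ℕ) : Subgroup (SpecialLinearGroup (Fin (m + 3)) F) where
  carrier := {g | ∃ a : Fˣ, (g : Matrix (Fin (m + 3)) (Fin (m + 3)) F) *ᵥ e0 F m = (a : F) • e0 F m}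
  mul_mem' := by
    rintro g h ⟨a, ha⟩ ⟨b, hb⟩
    refine ⟨a * b, ?_⟩
    rw [coe_mul', ← Matrix.mulVec_mulVec, hb, Matrix.mulVec_smul, ha, smul_smul, Units.val_mul,
      mul_comm]
  one_mem' := ⟨1, by
    rw [Units.val_one, one_smul]
    exact Matrix.one_mulVec _⟩
  inv_mem' := by
    rintro g ⟨a, ha⟩
    refine ⟨a⁻¹, ?_⟩
    have h1 : ((g⁻¹ : SpecialLinearGroup (Fin (m + 3)) F) : Matrix (Fin (m + 3)) (Fin (m + 3)) F) *ᵥ
        ((g : Matrix (Fin (m + 3)) (Fin (m + 3)) F) *ᵥ e0 F m) = e0 F m := by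
      rw [Matrix.mulVec_mulVec, ← coe_mul', inv_mul_cancel]
      exact Matrix.one_mulVec _
    rw [ha, Matrix.mulVec_smul] at h1
    have h2 := congrArg (fun v => ((a⁻¹ : Fˣ) : F) • v) h1
    simp only [smul_smul] at h2
    rw [← Units.val_mul, inv_mul_cancel, Units.val_one, one_smul] at h2
    exact h2

theorem mem_P {g : SpecialLinearGroup (Fin (m + 3)) F} : g ∈ P F m ↔
    ∃ a : Fˣ, (g : Matrix (Fin (m + 3)) (Fin (m + 3)) F) *ᵥ e0 F m = (a : F) • e0 F m := Iff.rfl

theorem e0_zero : e0 F m 0 = 1 := by simp [e0]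

theorem mulVec_e0_of_mem {g : SpecialLinearGroup (Fin (m + 3)) F} (hg : g ∈ P F m) :
    (g : Matrix (Fin (m + 3)) (Fin (m + 3)) F) *ᵥ e0 F m =
      (g : Matrix (Fin (m + 3)) (Fin (m + 3)) F) 0 0 • e0 F m := by
  obtain ⟨a, ha⟩ := hg
  have h0 := congrFun ha 0
  rw [mulVec_e0] at h0
  simp only [Pi.smul_apply, e0_zero, smul_eq_mul, mul_one] at h0
  rw [ha, h0]

theorem entry_ne_zero {g : SpecialLinearGroup (Fin (m + 3)) F} (hg : g ∈ P F m) :
    (g : Matrix (Fin (m + 3)) (Fin (m + 3)) F) 0 0 ≠ 0 := by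
  intro h
  have := mulVec_e0_of_mem hg
  rw [h, zero_smul] at this
  exact mulVec_ne_zero g e0_ne_zero this

/-- the first diagonal entry, as a homomorphism on `P`. -/
noncomputable def diagHom (F : Type*) [Field F] (m : ℕ) : P F m →* Fˣ where
  toFun g := Units.mk0 _ (entry_ne_zero g.2)
  map_one' := by
    apply Units.ext
    show ((1 : SpecialLinearGroup (Fin (m + 3)) F) : Matrix (Fin (m + 3)) (Fin (m + 3)) F) 0 0 = 1
    simp
  map_mul' g h := by
    apply Units.ext
    show (((g : SpecialLinearGroup (Fin (m + 3)) F) * (h : SpecialLinearGroup (Fin (m + 3)) F) :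
      SpecialLinearGroup (Fin (m + 3)) F) : Matrix (Fin (m + 3)) (Fin (m + 3)) F) 0 0 =
      ((g : SpecialLinearGroup (Fin (m + 3)) F) : Matrix (Fin (m + 3)) (Fin (m + 3)) F) 0 0 *
      ((h : SpecialLinearGroup (Fin (m + 3)) F) : Matrix (Fin (m + 3)) (Fin (m + 3)) F) 0 0
    have e : ((((g : SpecialLinearGroup (Fin (m + 3)) F) * (h : SpecialLinearGroup (Fin (m + 3)) F) :
        SpecialLinearGroup (Fin (m + 3)) F) : Matrix (Fin (m + 3)) (Fin (m + 3)) F) *ᵥ e0 F m) 0 =
        (((g : SpecialLinearGroup (Fin (m + 3)) F) : Matrix (Fin (m + 3)) (Fin (m + 3)) F) 0 0 *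
        ((h : SpecialLinearGroup (Fin (m + 3)) F) : Matrix (Fin (m + 3)) (Fin (m + 3)) F) 0 0) := by
      rw [coe_mul', ← Matrix.mulVec_mulVec, mulVec_e0_of_mem h.2, Matrix.mulVec_smul,
        mulVec_e0_of_mem g.2]
      simp only [Pi.smul_apply, e0_zero, smul_eq_mul, mul_one]
      ring
    rw [mulVec_e0] at e
    exact e

theorem diagHom_coe (g : P F m) : ((diagHom F m g : Fˣ) : F) =
    ((g : SpecialLinearGroup (Fin (m + 3)) F) : Matrix (Fin (m + 3)) (Fin (m + 3)) F) 0 0 := rfl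

/-- an element fixes `e₀` iff it lies in `P` and has first diagonal entry one. -/
theorem fix_e0_iff {g : SpecialLinearGroup (Fin (m + 3)) F} :
    (g : Matrix (Fin (m + 3)) (Fin (m + 3)) F) *ᵥ e0 F m = e0 F m ↔
      g ∈ P F m ∧ (g : Matrix (Fin (m + 3)) (Fin (m + 3)) F) 0 0 = 1 := by
  constructor
  · intro h
    refine ⟨⟨1, by rw [h, Units.val_one, one_smul]⟩, ?_⟩
    have := congrFun h 0
    rw [mulVec_e0, e0_zero] at this
    exact this
  · rintro ⟨hg, h1⟩
    rw [mulVec_e0_of_mem hg, h1, one_smul]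

section counting

variable [Fintype F] [DecidableEq F]

/-- the number of elements fixing `e₀`. -/
noncomputable def N (F : Type*) [Field F] [Fintype F] [DecidableEq F] (m : ℕ) : ℕ :=
  (Finset.univ.filter (fun x : SpecialLinearGroup (Fin (m + 3)) F =>
    (x : Matrix (Fin (m + 3)) (Fin (m + 3)) F) *ᵥ e0 F m = e0 F m)).card

theorem N_pos : 0 < N F m := by
  unfold N
  apply Finset.card_pos.mpr
  refine ⟨1, ?_⟩
  rw [Finset.mem_filter]
  exact ⟨Finset.mem_univ _, Matrix.one_mulVec _⟩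

/-- the fibres of `x ↦ x e₀` all have the same size. -/
theorem card_fibre {v : Fin (m + 3) → F} (hv : v ≠ 0) :
    (Finset.univ.filter (fun x : SpecialLinearGroup (Fin (m + 3)) F =>
      (x : Matrix (Fin (m + 3)) (Fin (m + 3)) F) *ᵥ e0 F m = v)).card = N F m := by
  obtain ⟨y, hy⟩ := exists_mulVec_e0 hv
  unfold N
  symm
  apply Finset.card_bij (fun x _ => y * x)
  · intro x hx
    rw [Finset.mem_filter] at hx ⊢
    refine ⟨Finset.mem_univ _, ?_⟩
    rw [coe_mul', ← Matrix.mulVec_mulVec, hx.2, hy]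
  · intro x _ x' _ h
    exact mul_left_cancel h
  · intro x hx
    rw [Finset.mem_filter] at hx
    refine ⟨y⁻¹ * x, ?_, by group⟩
    rw [Finset.mem_filter]
    refine ⟨Finset.mem_univ _, ?_⟩
    rw [coe_mul', ← Matrix.mulVec_mulVec, hx.2, ← hy, Matrix.mulVec_mulVec, ← coe_mul',
      inv_mul_cancel]
    exact Matrix.one_mulVec _

/-- the number of `x` with `x e₀` in a set `S` of nonzero vectors. -/
theorem card_preimage (S : Finset (Fin (m + 3) → F)) (hS : ∀ v ∈ S, v ≠ 0) :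
    (Finset.univ.filter (fun x : SpecialLinearGroup (Fin (m + 3)) F =>
      (x : Matrix (Fin (m + 3)) (Fin (m + 3)) F) *ᵥ e0 F m ∈ S)).card = S.card * N F m := by
  rw [Finset.card_eq_sum_card_fiberwise (f := fun x : SpecialLinearGroup (Fin (m + 3)) F =>
    (x : Matrix (Fin (m + 3)) (Fin (m + 3)) F) *ᵥ e0 F m) (t := S)]
  · rw [Finset.sum_congr rfl (g := fun _ => N F m), Finset.sum_const, smul_eq_mul]
    intro v hv
    rw [← card_fibre (hS v hv)]
    congr 1
    ext x
    simp only [Finset.mem_filter, Finset.mem_univ, true_and]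
    constructor
    · rintro ⟨_, h⟩
      exact h
    · intro h
      exact ⟨h ▸ hv, h⟩
  · intro x hx
    rw [Finset.mem_coe, Finset.mem_filter] at hx
    exact hx.2

end counting

end Cfsg.Agent.Helper8.SLPerm
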