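import Mathlib
import Cfsg.Agent.Helper8.SLPermA
import Cfsg.Agent.Helper8.SL2Steinberg
import Cfsg.Agent.Helper6.Linear
import Cfsg.Agent.Helper6.IrrCrit
import Cfsg.Agent.Helper6.Induced
import Cfsg.Agent.Helper6.IndFun

set_option autoImplicit false

/-!
The characters `R α` of `SL_n(F)` induced from the linear characters of the stabiliser of a line; their
sum is the permutation character on the nonzero vectors.
-/

namespace Cfsg.Agent.Helper8.SLPerm

open scoped Matrix ComplexConjugate
open Matrix Cfsg.Agent.Helper8.SLTrans Cfsg.Agent.Helper6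

variable {F : Type*} [Field F] {m : ℕ}

/-- the linear character `g ↦ α g₀₀` of `P`. -/
noncomputable def thP (α : MulChar F ℂ) : P F m → ℂ :=
  fun g => α (((g : SpecialLinearGroup (Fin (m + 3)) F) : Matrix (Fin (m + 3)) (Fin (m + 3)) F) 0 0)

theorem thP_eq_hom (α : MulChar F ℂ) :
    thP (m := m) α = fun g => (((α.toUnitHom.comp (diagHom F m)) g : ℂˣ) : ℂ) := by
  funext g
  rw [MonoidHom.comp_apply, MulChar.coe_toUnitHom, diagHom_coe]
  rfl

theorem isIrrCharacter_thP (α : MulChar F ℂ) : Cfsg.IsIrrCharacter (P F m) (thP α) := by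
  rw [thP_eq_hom]
  exact isIrrCharacter_of_hom _

open Classical in
/-- the extension by zero of `thP α`. -/
noncomputable def extP (α : MulChar F ℂ) (h : SpecialLinearGroup (Fin (m + 3)) F) : ℂ :=
  if h ∈ P F m then α ((h : Matrix (Fin (m + 3)) (Fin (m + 3)) F) 0 0) else 0

theorem extendByZero_thP (α : MulChar F ℂ) :
    Cfsg.extendByZero (P F m) (thP α) = extP α := by
  funext h
  by_cases hh : h ∈ P F m
  · rw [extendByZero_mem _ _ hh]
    unfold extP thP
    rw [if_pos hh]
  · rw [extendByZero_not_mem _ _ hh]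
    unfold extP
    rw [if_neg hh]

section fin

variable [Fintype F] [DecidableEq F]

/-- the induced character. -/
noncomputable def R (α : MulChar F ℂ) : SpecialLinearGroup (Fin (m + 3)) F → ℂ :=
  Cfsg.indFun (P F m) (thP α)

theorem R_apply (α : MulChar F ℂ) (g : SpecialLinearGroup (Fin (m + 3)) F) :
    R α g = (Nat.card (P F m) : ℂ)⁻¹ *
      ∑ x : SpecialLinearGroup (Fin (m + 3)) F, extP α (x⁻¹ * g * x) := by
  unfold R
  rw [indFun_apply, extendByZero_thP]

theorem isCharacter_R (α : MulChar F ℂ) :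
    Cfsg.IsCharacter (SpecialLinearGroup (Fin (m + 3)) F) (R α) :=
  isCharacter_indFun (P F m) (thP α) (IsIrrCharacter.isCharacter (isIrrCharacter_thP α))

open Classical in
theorem sum_extP [Fintype (MulChar F ℂ)] (h : SpecialLinearGroup (Fin (m + 3)) F) :
    ∑ α : MulChar F ℂ, extP α h =
      if (h : Matrix (Fin (m + 3)) (Fin (m + 3)) F) *ᵥ e0 F m = e0 F m then
        ((Fintype.card F - 1 : ℕ) : ℂ) else 0 := by
  by_cases hh : h ∈ P F m
  · have e : ∀ α : MulChar F ℂ, extP α h =
        α ((Units.mk0 _ (entry_ne_zero hh) : Fˣ) : F) := by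
      intro α
      unfold extP
      rw [if_pos hh, Units.val_mk0]
    simp_rw [e]
    rw [SL2C.sum_mulChar_units]
    by_cases h1 : (h : Matrix (Fin (m + 3)) (Fin (m + 3)) F) 0 0 = 1
    · rw [if_pos (Units.ext h1), if_pos (fix_e0_iff.mpr ⟨hh, h1⟩)]
    · rw [if_neg, if_neg]
      · intro hfix
        exact h1 (fix_e0_iff.mp hfix).2
      · intro hu
        apply h1
        have := congrArg Units.val hu
        rw [Units.val_mk0] at this
        exact this
  · have e : ∀ α : MulChar F ℂ, extP α h = 0 := by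
      intro α
      unfold extP
      rw [if_neg hh]
    simp_rw [e]
    rw [Finset.sum_const_zero, if_neg]
    intro hfix
    exact hh (fix_e0_iff.mp hfix).1

open Classical in
/-- the set of nonzero fixed vectors. -/
noncomputable def fixSet (g : SpecialLinearGroup (Fin (m + 3)) F) : Finset (Fin (m + 3) → F) :=
  Finset.univ.filter (fun v => v ≠ 0 ∧ (g : Matrix (Fin (m + 3)) (Fin (m + 3)) F) *ᵥ v = v)

open Classical in
theorem mem_fixSet (g : SpecialLinearGroup (Fin (m + 3)) F) (v : Fin (m + 3) → F) :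
    v ∈ fixSet g ↔ v ≠ 0 ∧ (g : Matrix (Fin (m + 3)) (Fin (m + 3)) F) *ᵥ v = v := by
  unfold fixSet
  rw [Finset.mem_filter]
  exact ⟨fun h => h.2, fun h => ⟨Finset.mem_univ _, h⟩⟩

theorem card_P : Nat.card (P F m) = (Fintype.card F - 1) * N F m := by
  classical
  let L : Finset (Fin (m + 3) → F) := Finset.univ.image (fun a : Fˣ => (a : F) • e0 F m)
  have hL : L.card = Fintype.card F - 1 := by
    rw [Finset.card_image_of_injective, Finset.card_univ, Fintype.card_units]
    intro a b h
    have := congrFun h 0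
    simp only [Pi.smul_apply, e0_zero, smul_eq_mul, mul_one] at this
    exact Units.ext this
  have hLne : ∀ v ∈ L, v ≠ 0 := by
    intro v hv
    obtain ⟨a, -, rfl⟩ := Finset.mem_image.mp hv
    exact smul_ne_zero a.ne_zero e0_ne_zero
  rw [Nat.card_eq_fintype_card, ← hL, ← card_preimage L hLne]
  apply Fintype.card_of_subtype
  intro x
  rw [Finset.mem_filter, mem_P]
  constructor
  · rintro ⟨-, hx⟩
    obtain ⟨a, -, ha⟩ := Finset.mem_image.mp hx
    exact ⟨a, ha.symm⟩
  · rintro ⟨a, ha⟩
    exact ⟨Finset.mem_univ _, Finset.mem_image.mpr ⟨a, Finset.mem_univ _, ha.symm⟩⟩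

/-- **The sum of the `R α` is the permutation character.** -/
theorem sum_R [Fintype (MulChar F ℂ)] (g : SpecialLinearGroup (Fin (m + 3)) F) :
    ∑ α : MulChar F ℂ, R α g = ((fixSet g).card : ℂ) := by
  classical
  simp_rw [R_apply]
  rw [← Finset.mul_sum, Finset.sum_comm]
  simp_rw [sum_extP]
  rw [← Finset.sum_filter, Finset.sum_const, nsmul_eq_mul]
  have hcount : (Finset.univ.filter (fun x : SpecialLinearGroup (Fin (m + 3)) F =>
      ((x⁻¹ * g * x : SpecialLinearGroup (Fin (m + 3)) F) :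
        Matrix (Fin (m + 3)) (Fin (m + 3)) F) *ᵥ e0 F m = e0 F m)).card =
      (fixSet g).card * N F m := by
    rw [← card_preimage (fixSet g) (fun v hv => ((mem_fixSet g v).mp hv).1)]
    congr 1
    ext x
    simp only [Finset.mem_filter, Finset.mem_univ, true_and]
    rw [mem_fixSet, coe_mul', coe_mul', ← Matrix.mulVec_mulVec, ← Matrix.mulVec_mulVec]
    constructor
    · intro h
      refine ⟨mulVec_ne_zero x e0_ne_zero, ?_⟩
      have this : (x : Matrix (Fin (m + 3)) (Fin (m + 3)) F) *ᵥ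
          (((x⁻¹ : SpecialLinearGroup (Fin (m + 3)) F) : Matrix (Fin (m + 3)) (Fin (m + 3)) F) *ᵥ
            ((g : Matrix (Fin (m + 3)) (Fin (m + 3)) F) *ᵥ
              ((x : Matrix (Fin (m + 3)) (Fin (m + 3)) F) *ᵥ e0 F m))) =
          (x : Matrix (Fin (m + 3)) (Fin (m + 3)) F) *ᵥ e0 F m := by rw [h]
      rw [Matrix.mulVec_mulVec, ← coe_mul', mul_inv_cancel] at this
      have e1 : ((1 : SpecialLinearGroup (Fin (m + 3)) F) : Matrix (Fin (m + 3)) (Fin (m + 3)) F) *ᵥ
          ((g : Matrix (Fin (m + 3)) (Fin (m + 3)) F) *ᵥ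
              ((x : Matrix (Fin (m + 3)) (Fin (m + 3)) F) *ᵥ e0 F m)) =
          (g : Matrix (Fin (m + 3)) (Fin (m + 3)) F) *ᵥ
              ((x : Matrix (Fin (m + 3)) (Fin (m + 3)) F) *ᵥ e0 F m) := Matrix.one_mulVec _
      rw [e1] at this
      exact this
    · rintro ⟨-, h⟩
      rw [h, Matrix.mulVec_mulVec, ← coe_mul', inv_mul_cancel]
      exact Matrix.one_mulVec _
  rw [hcount, card_P]
  have hN : ((N F m : ℕ) : ℂ) ≠ 0 := by exact_mod_cast (N_pos (F := F) (m := m)).ne'
  have hq : (((Fintype.card F - 1 : ℕ)) : ℂ) ≠ 0 := by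
    have : 1 < Fintype.card F := Fintype.one_lt_card
    have h' : Fintype.card F - 1 ≠ 0 := by omega
    exact_mod_cast h'
  push_cast
  field_simp

end fin

end Cfsg.Agent.Helper8.SLPerm
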