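import Mathlib
import Cfsg.Agent.Helper8.SLPermB

set_option autoImplicit false

/-!
The norm of the permutation character of `SL_n(F)`, `n ≥ 3`, on the nonzero vectors is `q`.
-/

namespace Cfsg.Agent.Helper8.SLPerm

open scoped Matrix ComplexConjugate
open Matrix Cfsg.Agent.Helper8.SLTrans Cfsg.Agent.Helper6

variable {F : Type*} [Field F] {m : ℕ}

/-- the nonzero vectors. -/
abbrev NZ (F : Type*) [Field F] (m : ℕ) : Type _ := {v : Fin (m + 3) → F // v ≠ 0}

instance : MulAction (SpecialLinearGroup (Fin (m + 3)) F) (NZ F m) where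
  smul g v := ⟨(g : Matrix (Fin (m + 3)) (Fin (m + 3)) F) *ᵥ v.1, mulVec_ne_zero g v.2⟩
  one_smul v := Subtype.ext (Matrix.one_mulVec _)
  mul_smul g h v := Subtype.ext (by
    show ((g * h : SpecialLinearGroup (Fin (m + 3)) F) : Matrix (Fin (m + 3)) (Fin (m + 3)) F) *ᵥ v.1
      = (g : Matrix (Fin (m + 3)) (Fin (m + 3)) F) *ᵥ
        ((h : Matrix (Fin (m + 3)) (Fin (m + 3)) F) *ᵥ v.1)
    rw [coe_mul', Matrix.mulVec_mulVec])

theorem smul_val (g : SpecialLinearGroup (Fin (m + 3)) F) (v : NZ F m) :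
    (g • v).1 = (g : Matrix (Fin (m + 3)) (Fin (m + 3)) F) *ᵥ v.1 := rfl

/-- the representatives of the orbits on pairs. -/
def rep (F : Type*) [Field F] (m : ℕ) : Option Fˣ → NZ F m × NZ F m
  | some a => (⟨e0 F m, e0_ne_zero⟩, ⟨(a : F) • e0 F m, smul_ne_zero a.ne_zero e0_ne_zero⟩)
  | none => (⟨e0 F m, e0_ne_zero⟩, ⟨e1 F m, e1_ne_zero⟩)

theorem e1_ne_smul_e0 (c : F) : e1 F m ≠ c • e0 F m := by
  intro h
  have := congrFun h 1
  simp [e0, e1] at this

theorem mulVec_injective (g : SpecialLinearGroup (Fin (m + 3)) F) {v w : Fin (m + 3) → F}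
    (h : (g : Matrix (Fin (m + 3)) (Fin (m + 3)) F) *ᵥ v =
      (g : Matrix (Fin (m + 3)) (Fin (m + 3)) F) *ᵥ w) : v = w := by
  have e : ∀ u : Fin (m + 3) → F,
      ((g⁻¹ : SpecialLinearGroup (Fin (m + 3)) F) : Matrix (Fin (m + 3)) (Fin (m + 3)) F) *ᵥ
      ((g : Matrix (Fin (m + 3)) (Fin (m + 3)) F) *ᵥ u) = u := by
    intro u
    rw [Matrix.mulVec_mulVec, ← coe_mul', inv_mul_cancel]
    exact Matrix.one_mulVec u
  rw [← e v, h, e w]

/-- the orbits of `SL_n(F)` on the pairs of nonzero vectors. -/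
theorem rep_bijective :
    Function.Bijective (fun o : Option Fˣ =>
      (Quotient.mk (MulAction.orbitRel (SpecialLinearGroup (Fin (m + 3)) F) (NZ F m × NZ F m))
        (rep F m o))) := by
  constructor
  · intro o o' h
    have h' := Quotient.exact h
    change rep F m o ∈ MulAction.orbit _ (rep F m o') at h'
    obtain ⟨g, hg⟩ := h'
    have h1 : (g • (rep F m o').1).1 = (rep F m o).1.1 := by
      have := congrArg (fun x : NZ F m × NZ F m => x.1.1) hg
      exact this
    have h2 : (g • (rep F m o').2).1 = (rep F m o).2.1 := by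
      have := congrArg (fun x : NZ F m × NZ F m => x.2.1) hg
      exact this
    rw [smul_val] at h1 h2
    rcases o with _ | a <;> rcases o' with _ | b
    · rfl
    · exfalso
      simp only [rep] at h1 h2
      rw [Matrix.mulVec_smul, h1] at h2
      exact e1_ne_smul_e0 _ h2.symm
    · exfalso
      simp only [rep] at h1 h2
      rw [← h1, ← Matrix.mulVec_smul] at h2
      exact e1_ne_smul_e0 _ (mulVec_injective g h2)
    · simp only [rep] at h1 h2
      rw [Matrix.mulVec_smul, h1] at h2
      have := congrFun h2 0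
      simp only [Pi.smul_apply, e0_zero, smul_eq_mul, mul_one] at this
      rw [Units.ext this]
  · intro x
    induction x using Quotient.inductionOn with
    | h x =>
      obtain ⟨⟨v, hv⟩, ⟨w, hw⟩⟩ := x
      by_cases hdep : ∃ a : Fˣ, w = (a : F) • v
      · obtain ⟨a, ha⟩ := hdep
        obtain ⟨g, hg⟩ := exists_mulVec_e0 hv
        refine ⟨some a, ?_⟩
        apply Quotient.sound
        change rep F m (some a) ∈ MulAction.orbit _ _
        refine ⟨g⁻¹, ?_⟩
        apply Prod.ext
        · apply Subtype.ext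
          show ((g⁻¹ : SpecialLinearGroup (Fin (m + 3)) F) :
            Matrix (Fin (m + 3)) (Fin (m + 3)) F) *ᵥ v = e0 F m
          rw [← hg, Matrix.mulVec_mulVec, ← coe_mul', inv_mul_cancel]
          exact Matrix.one_mulVec _
        · apply Subtype.ext
          show ((g⁻¹ : SpecialLinearGroup (Fin (m + 3)) F) :
            Matrix (Fin (m + 3)) (Fin (m + 3)) F) *ᵥ w = (a : F) • e0 F m
          rw [ha, Matrix.mulVec_smul, ← hg, Matrix.mulVec_mulVec, ← coe_mul', inv_mul_cancel]
          congr 1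
          exact Matrix.one_mulVec _
      · have hind : ∀ c : F, w ≠ c • v := by
          intro c hc
          by_cases hc0 : c = 0
          · rw [hc0, zero_smul] at hc
            exact hw hc
          · exact hdep ⟨Units.mk0 c hc0, hc⟩
        obtain ⟨g, hg0, hg1⟩ := exists_mulVec_e0_e1 hv hw hind
        refine ⟨none, ?_⟩
        apply Quotient.sound
        change rep F m none ∈ MulAction.orbit _ _
        refine ⟨g⁻¹, ?_⟩
        apply Prod.ext
        · apply Subtype.ext
          show ((g⁻¹ : SpecialLinearGroup (Fin (m + 3)) F) :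
            Matrix (Fin (m + 3)) (Fin (m + 3)) F) *ᵥ v = e0 F m
          rw [← hg0, Matrix.mulVec_mulVec, ← coe_mul', inv_mul_cancel]
          exact Matrix.one_mulVec _
        · apply Subtype.ext
          show ((g⁻¹ : SpecialLinearGroup (Fin (m + 3)) F) :
            Matrix (Fin (m + 3)) (Fin (m + 3)) F) *ᵥ w = e1 F m
          rw [← hg1, Matrix.mulVec_mulVec, ← coe_mul', inv_mul_cancel]
          exact Matrix.one_mulVec _

section fin

variable [Fintype F] [DecidableEq F]

/-- the fixed pairs of `g`. -/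
noncomputable def fixedEquiv (g : SpecialLinearGroup (Fin (m + 3)) F) :
    MulAction.fixedBy (NZ F m × NZ F m) g ≃ ↥(fixSet g) × ↥(fixSet g) where
  toFun x := (⟨x.1.1.1, (mem_fixSet g _).mpr ⟨x.1.1.2, congrArg (fun y : NZ F m × NZ F m => y.1.1) x.2⟩⟩,
    ⟨x.1.2.1, (mem_fixSet g _).mpr ⟨x.1.2.2, congrArg (fun y : NZ F m × NZ F m => y.2.1) x.2⟩⟩)
  invFun y := ⟨(⟨y.1.1, ((mem_fixSet g _).mp y.1.2).1⟩, ⟨y.2.1, ((mem_fixSet g _).mp y.2.2).1⟩), by
    apply Prod.ext
    · exact Subtype.ext ((mem_fixSet g _).mp y.1.2).2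
    · exact Subtype.ext ((mem_fixSet g _).mp y.2.2).2⟩
  left_inv x := rfl
  right_inv y := rfl

/-- **Burnside count.** -/
theorem sum_card_sq :
    ∑ g : SpecialLinearGroup (Fin (m + 3)) F, (fixSet g).card ^ 2 =
      Fintype.card F * Fintype.card (SpecialLinearGroup (Fin (m + 3)) F) := by
  classical
  have hB := MulAction.sum_card_fixedBy_eq_card_orbits_mul_card_group
    (SpecialLinearGroup (Fin (m + 3)) F) (NZ F m × NZ F m)
  have h1 : ∀ g : SpecialLinearGroup (Fin (m + 3)) F,
      Fintype.card (MulAction.fixedBy (NZ F m × NZ F m) g) = (fixSet g).card ^ 2 := by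
    intro g
    rw [Fintype.card_congr (fixedEquiv g), Fintype.card_prod, Fintype.card_coe, pow_two]
  have h2 : Fintype.card (Quotient (MulAction.orbitRel (SpecialLinearGroup (Fin (m + 3)) F)
      (NZ F m × NZ F m))) = Fintype.card F := by
    rw [← Fintype.card_of_bijective (rep_bijective (F := F) (m := m)), Fintype.card_option,
      Fintype.card_units]
    have : 1 ≤ Fintype.card F := Fintype.card_pos
    omega
  rw [← h2, ← hB]
  apply Finset.sum_congr rfl
  intro g _
  rw [h1]

end fin

end Cfsg.Agent.Helper8.SLPerm
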