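import Mathlib
import Cfsg.Agent.Helper8.SLPermC
import Cfsg.Agent.Helper8.CharDecomp

set_option autoImplicit false

/-!
The permutation character of `SL_n(F)`, `n ≥ 3`, on the nonzero vectors is the sum of the principal
character and `q - 1` distinct irreducible characters.
-/

namespace Cfsg.Agent.Helper8.SLPerm

open scoped Matrix ComplexConjugate
open Matrix Cfsg.Agent.Helper8.SLTrans Cfsg.Agent.Helper6

variable {F : Type*} [Field F] [Fintype F] [DecidableEq F] {m : ℕ}

theorem one_mem_P : (1 : SpecialLinearGroup (Fin (m + 3)) F) ∈ P F m := (P F m).one_mem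

theorem card_P_ne_zero : (Nat.card (P F m) : ℂ) ≠ 0 := by
  have : Nat.card (P F m) ≠ 0 := Nat.card_pos.ne'
  exact_mod_cast this

/-- the degree of `R α`. -/
theorem R_one (α : MulChar F ℂ) :
    R (m := m) α 1 = (Nat.card (P F m) : ℂ)⁻¹ *
      (Fintype.card (SpecialLinearGroup (Fin (m + 3)) F) : ℂ) := by
  rw [R_apply]
  congr 1
  have : ∀ x : SpecialLinearGroup (Fin (m + 3)) F, extP α (x⁻¹ * 1 * x) = 1 := by
    intro x
    rw [mul_one, inv_mul_cancel]
    unfold extP
    rw [if_pos one_mem_P]
    simp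
  simp_rw [this]
  rw [Finset.sum_const, Finset.card_univ, nsmul_eq_mul, mul_one]

theorem P_ne_top : P F m ≠ ⊤ := by
  intro h
  obtain ⟨g, hg⟩ := exists_mulVec_e0 (F := F) (m := m) e1_ne_zero
  have hgP : g ∈ P F m := by rw [h]; trivial
  obtain ⟨a, ha⟩ := hgP
  rw [hg] at ha
  exact e1_ne_smul_e0 _ ha

theorem R_one_ne_zero (α : MulChar F ℂ) : R (m := m) α 1 ≠ 0 := by
  rw [R_one]
  apply mul_ne_zero (inv_ne_zero card_P_ne_zero)
  have : Fintype.card (SpecialLinearGroup (Fin (m + 3)) F) ≠ 0 := Fintype.card_ne_zero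
  exact_mod_cast this

theorem R_one_ne_one (α : MulChar F ℂ) : R (m := m) α 1 ≠ 1 := by
  rw [R_one]
  intro h
  have h' : (Fintype.card (SpecialLinearGroup (Fin (m + 3)) F) : ℂ) = (Nat.card (P F m) : ℂ) := by
    have := congrArg (fun z => (Nat.card (P F m) : ℂ) * z) h
    simp only [mul_one] at this
    rw [← mul_assoc, mul_inv_cancel₀ card_P_ne_zero, one_mul] at this
    exact this
  have h'' : Nat.card (P F m) = Nat.card (SpecialLinearGroup (Fin (m + 3)) F) := by
    rw [Nat.card_eq_fintype_card (α := SpecialLinearGroup (Fin (m + 3)) F)]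
    exact_mod_cast h'.symm
  exact P_ne_top ((Subgroup.card_eq_iff_eq_top _).mp h'')

theorem isIrrCharacter_const_one {G : Type*} [Group G] :
    Cfsg.IsIrrCharacter G (fun _ => (1 : ℂ)) := by
  have := isIrrCharacter_of_hom (1 : G →* ℂˣ)
  simpa using this

theorem thP_one : thP (F := F) (m := m) 1 = fun _ => (1 : ℂ) := by
  funext g
  unfold thP
  exact MulChar.one_apply (IsUnit.mk0 _ (entry_ne_zero g.2))

/-- `R 1 - 1` is a character. -/
theorem isCharacter_R_one_sub :
    Cfsg.IsCharacter (SpecialLinearGroup (Fin (m + 3)) F)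
      (R (m := m) (1 : MulChar F ℂ) - fun _ => (1 : ℂ)) := by
  classical
  haveI : Fintype (P F m) := Fintype.ofFinite _
  apply isCharacter_of_classInner_nat
  · intro g h
    have := indFun_isClassFunction (P F m) (thP (1 : MulChar F ℂ)) g h
    show R 1 (h * g * h⁻¹) - 1 = R 1 g - 1
    unfold R
    rw [this]
  · intro χ hχ
    rw [classInner_sub_left]
    obtain ⟨k, hk⟩ := classInner_char_char_nat (isCharacter_R (m := m) (1 : MulChar F ℂ))
      (IsIrrCharacter.isCharacter hχ)
    by_cases h1 : χ = fun _ => (1 : ℂ)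
    · refine ⟨0, ?_⟩
      have hfr := frobenius_reciprocity (P F m) (thP (1 : MulChar F ℂ)) χ
        (IsCharacter.isClassFunction (IsIrrCharacter.isCharacter hχ))
      change Cfsg.classInner (R 1) χ = _ at hfr
      rw [hfr, h1, thP_one, classInner_irr_self isIrrCharacter_const_one,
        classInner_irr_self isIrrCharacter_const_one]
      simp
    · refine ⟨k, ?_⟩
      rw [hk, classInner_irr_ne isIrrCharacter_const_one hχ (fun h => h1 h.symm), sub_zero]

/-- the constituents. -/
noncomputable def psi (α : MulChar F ℂ) : SpecialLinearGroup (Fin (m + 3)) F → ℂ :=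
  R α - fun _ => (if α = 1 then (1 : ℂ) else 0)

theorem psi_apply (α : MulChar F ℂ) (g : SpecialLinearGroup (Fin (m + 3)) F) :
    psi α g = R α g - (if α = 1 then (1 : ℂ) else 0) := rfl

theorem isCharacter_psi (α : MulChar F ℂ) :
    Cfsg.IsCharacter (SpecialLinearGroup (Fin (m + 3)) F) (psi (m := m) α) := by
  by_cases h : α = 1
  · have : psi (m := m) α = R (m := m) (1 : MulChar F ℂ) - fun _ => (1 : ℂ) := by
      funext g
      rw [psi_apply, if_pos h, h]
      rfl
    rw [this]
    exact isCharacter_R_one_sub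
  · have : psi (m := m) α = R α := by
      funext g
      rw [psi_apply, if_neg h, sub_zero]
    rw [this]
    exact isCharacter_R α

theorem psi_ne_zero (α : MulChar F ℂ) : psi (m := m) α ≠ 0 := by
  intro h
  have := congrFun h 1
  rw [psi_apply] at this
  by_cases h1 : α = 1
  · rw [if_pos h1] at this
    exact R_one_ne_one α (sub_eq_zero.mp this)
  · rw [if_neg h1, sub_zero] at this
    exact R_one_ne_zero α this

/-- the family of all constituents. -/
noncomputable def cfam : Option (MulChar F ℂ) → SpecialLinearGroup (Fin (m + 3)) F → ℂ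
  | none => fun _ => 1
  | some α => psi α

theorem sum_cfam [Fintype (MulChar F ℂ)] (g : SpecialLinearGroup (Fin (m + 3)) F) :
    (∑ o : Option (MulChar F ℂ), cfam (m := m) o) g = ((fixSet g).card : ℂ) := by
  rw [Finset.sum_apply, Fintype.sum_option]
  simp only [cfam, psi_apply]
  rw [Finset.sum_sub_distrib, sum_R, Finset.sum_ite_eq' Finset.univ (1 : MulChar F ℂ),
    if_pos (Finset.mem_univ _)]
  ring

theorem classInner_sum_cfam [Fintype (MulChar F ℂ)] :
    Cfsg.classInner (∑ o : Option (MulChar F ℂ), cfam (m := m) o)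
      (∑ o : Option (MulChar F ℂ), cfam (m := m) o) =
      (Fintype.card (Option (MulChar F ℂ)) : ℂ) := by
  rw [classInner_def]
  simp_rw [sum_cfam, Complex.conj_natCast]
  have h := sum_card_sq (F := F) (m := m)
  have h' : ∑ g : SpecialLinearGroup (Fin (m + 3)) F, ((fixSet g).card : ℂ) * ((fixSet g).card : ℂ) =
      (Fintype.card F : ℂ) * (Fintype.card (SpecialLinearGroup (Fin (m + 3)) F) : ℂ) := by
    have := congrArg (fun k : ℕ => (k : ℂ)) h
    simp only [Nat.cast_sum, Nat.cast_pow, Nat.cast_mul] at this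
    rw [← this]
    apply Finset.sum_congr rfl
    intro g _
    ring
  rw [h', Nat.card_eq_fintype_card, Fintype.card_option, SL2C.card_mulChar]
  have hG : (Fintype.card (SpecialLinearGroup (Fin (m + 3)) F) : ℂ) ≠ 0 := by
    have : Fintype.card (SpecialLinearGroup (Fin (m + 3)) F) ≠ 0 := Fintype.card_ne_zero
    exact_mod_cast this
  have hq : Fintype.card F - 1 + 1 = Fintype.card F := by
    have : 1 ≤ Fintype.card F := Fintype.card_pos
    omega
  rw [hq]
  field_simp

/-- **Main theorem.** -/
theorem main (m : ℕ) :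
    ∃ χ : Fin (Fintype.card F - 1) → (SpecialLinearGroup (Fin (m + 3)) F → ℂ),
      (∀ i, Cfsg.IsIrrCharacter (SpecialLinearGroup (Fin (m + 3)) F) (χ i)) ∧ Function.Injective χ ∧
      ∀ g : SpecialLinearGroup (Fin (m + 3)) F,
        ((fixSet g).card : ℂ) = 1 + ∑ i, χ i g := by
  classical
  haveI : Fintype (MulChar F ℂ) := Fintype.ofFinite _
  have hc : ∀ o : Option (MulChar F ℂ),
      Cfsg.IsCharacter (SpecialLinearGroup (Fin (m + 3)) F) (cfam (m := m) o) := by
    intro o
    rcases o with _ | α
    · exact isCharacter_one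
    · exact isCharacter_psi α
  have hne : ∀ o : Option (MulChar F ℂ), cfam (m := m) o ≠ 0 := by
    intro o
    rcases o with _ | α
    · intro h
      have := congrFun h 1
      simp [cfam] at this
    · exact psi_ne_zero α
  obtain ⟨hirr, hinj⟩ := CharDecomp.irr_of_sum (cfam (F := F) (m := m)) hc hne classInner_sum_cfam
  let e : Fin (Fintype.card F - 1) ≃ MulChar F ℂ :=
    (Fintype.equivFinOfCardEq SL2C.card_mulChar).symm
  refine ⟨fun i => cfam (some (e i)), fun i => hirr _, ?_, ?_⟩
  · intro i j h
    have := hinj h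
    exact e.injective (Option.some_injective _ this)
  · intro g
    rw [← sum_cfam g, Finset.sum_apply, Fintype.sum_option]
    congr 1
    exact (Equiv.sum_comp e (fun α => cfam (m := m) (some α) g)).symm

end Cfsg.Agent.Helper8.SLPerm
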