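import Mathlib
import Cfsg.Prelude.Def_ParabolicCharacters

set_option autoImplicit false

/-!
Basic facts on `GL₂(F)`: entries, the Borel subgroup.
-/

namespace Cfsg.Agent.Helper8.GL2C

open Matrix

variable {F : Type*} [Field F]

theorem coe_mul_apply (g h : GL (Fin 2) F) (i j : Fin 2) :
    ((g * h : GL (Fin 2) F) : Matrix (Fin 2) (Fin 2) F) i j =
      (g : Matrix (Fin 2) (Fin 2) F) i 0 * (h : Matrix (Fin 2) (Fin 2) F) 0 j +
        (g : Matrix (Fin 2) (Fin 2) F) i 1 * (h : Matrix (Fin 2) (Fin 2) F) 1 j := by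
  rw [Units.val_mul, Matrix.mul_apply, Fin.sum_univ_two]

theorem one_00 : ((1 : GL (Fin 2) F) : Matrix (Fin 2) (Fin 2) F) 0 0 = 1 := by simp
theorem one_01 : ((1 : GL (Fin 2) F) : Matrix (Fin 2) (Fin 2) F) 0 1 = 0 := by simp
theorem one_10 : ((1 : GL (Fin 2) F) : Matrix (Fin 2) (Fin 2) F) 1 0 = 0 := by simp
theorem one_11 : ((1 : GL (Fin 2) F) : Matrix (Fin 2) (Fin 2) F) 1 1 = 1 := by simp

/-- the determinant, in coordinates. -/
def dt (g : GL (Fin 2) F) : F :=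
  (g : Matrix (Fin 2) (Fin 2) F) 0 0 * (g : Matrix (Fin 2) (Fin 2) F) 1 1 -
    (g : Matrix (Fin 2) (Fin 2) F) 0 1 * (g : Matrix (Fin 2) (Fin 2) F) 1 0

theorem dt_eq_det (g : GL (Fin 2) F) : dt g = (g : Matrix (Fin 2) (Fin 2) F).det := by
  rw [Matrix.det_fin_two]
  rfl

theorem dt_ne_zero (g : GL (Fin 2) F) : dt g ≠ 0 := by
  rw [dt_eq_det]
  have := Matrix.GeneralLinearGroup.det_ne_zero g
  exact this

theorem dt_mul (g h : GL (Fin 2) F) : dt (g * h) = dt g * dt h := by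
  rw [dt_eq_det, dt_eq_det, dt_eq_det, Units.val_mul, Matrix.det_mul]

theorem dt_one : dt (1 : GL (Fin 2) F) = 1 := by
  unfold dt
  rw [one_00, one_01, one_10, one_11]
  ring

theorem ext' {g h : GL (Fin 2) F}
    (h00 : (g : Matrix (Fin 2) (Fin 2) F) 0 0 = (h : Matrix (Fin 2) (Fin 2) F) 0 0)
    (h01 : (g : Matrix (Fin 2) (Fin 2) F) 0 1 = (h : Matrix (Fin 2) (Fin 2) F) 0 1)
    (h10 : (g : Matrix (Fin 2) (Fin 2) F) 1 0 = (h : Matrix (Fin 2) (Fin 2) F) 1 0)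
    (h11 : (g : Matrix (Fin 2) (Fin 2) F) 1 1 = (h : Matrix (Fin 2) (Fin 2) F) 1 1) : g = h := by
  apply Units.ext
  ext i j
  fin_cases i <;> fin_cases j
  · exact h00
  · exact h01
  · exact h10
  · exact h11

/-- an element of `GL₂` from its entries. -/
noncomputable def mk2 (a b c d : F) (h : a * d - b * c ≠ 0) : GL (Fin 2) F :=
  Matrix.GeneralLinearGroup.mkOfDetNeZero !![a, b; c, d] (by
    rw [Matrix.det_fin_two_of]
    exact h)

theorem mk2_00 (a b c d : F) (h : a * d - b * c ≠ 0) :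
    (mk2 a b c d h : Matrix (Fin 2) (Fin 2) F) 0 0 = a := rfl
theorem mk2_01 (a b c d : F) (h : a * d - b * c ≠ 0) :
    (mk2 a b c d h : Matrix (Fin 2) (Fin 2) F) 0 1 = b := rfl
theorem mk2_10 (a b c d : F) (h : a * d - b * c ≠ 0) :
    (mk2 a b c d h : Matrix (Fin 2) (Fin 2) F) 1 0 = c := rfl
theorem mk2_11 (a b c d : F) (h : a * d - b * c ≠ 0) :
    (mk2 a b c d h : Matrix (Fin 2) (Fin 2) F) 1 1 = d := rfl

/-- the conjugate `x⁻¹ g x`, in coordinates (Cramer). -/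
theorem conj_eqs (x g : GL (Fin 2) F) :
    dt x * ((x⁻¹ * g * x : GL (Fin 2) F) : Matrix (Fin 2) (Fin 2) F) 1 0 =
      (g : Matrix (Fin 2) (Fin 2) F) 1 0 * (x : Matrix (Fin 2) (Fin 2) F) 0 0 ^ 2 +
        ((g : Matrix (Fin 2) (Fin 2) F) 1 1 - (g : Matrix (Fin 2) (Fin 2) F) 0 0) *
          (x : Matrix (Fin 2) (Fin 2) F) 0 0 * (x : Matrix (Fin 2) (Fin 2) F) 1 0 -
        (g : Matrix (Fin 2) (Fin 2) F) 0 1 * (x : Matrix (Fin 2) (Fin 2) F) 1 0 ^ 2 ∧
    dt x * ((x⁻¹ * g * x : GL (Fin 2) F) : Matrix (Fin 2) (Fin 2) F) 0 0 =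
      (x : Matrix (Fin 2) (Fin 2) F) 1 1 *
        ((g : Matrix (Fin 2) (Fin 2) F) 0 0 * (x : Matrix (Fin 2) (Fin 2) F) 0 0 +
          (g : Matrix (Fin 2) (Fin 2) F) 0 1 * (x : Matrix (Fin 2) (Fin 2) F) 1 0) -
      (x : Matrix (Fin 2) (Fin 2) F) 0 1 *
        ((g : Matrix (Fin 2) (Fin 2) F) 1 0 * (x : Matrix (Fin 2) (Fin 2) F) 0 0 +
          (g : Matrix (Fin 2) (Fin 2) F) 1 1 * (x : Matrix (Fin 2) (Fin 2) F) 1 0) ∧
    dt x * ((x⁻¹ * g * x : GL (Fin 2) F) : Matrix (Fin 2) (Fin 2) F) 1 1 =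
      (x : Matrix (Fin 2) (Fin 2) F) 0 0 *
        ((g : Matrix (Fin 2) (Fin 2) F) 1 0 * (x : Matrix (Fin 2) (Fin 2) F) 0 1 +
          (g : Matrix (Fin 2) (Fin 2) F) 1 1 * (x : Matrix (Fin 2) (Fin 2) F) 1 1) -
      (x : Matrix (Fin 2) (Fin 2) F) 1 0 *
        ((g : Matrix (Fin 2) (Fin 2) F) 0 0 * (x : Matrix (Fin 2) (Fin 2) F) 0 1 +
          (g : Matrix (Fin 2) (Fin 2) F) 0 1 * (x : Matrix (Fin 2) (Fin 2) F) 1 1) := by
  have h : x * (x⁻¹ * g * x) = g * x := by group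
  have e00 := congrArg (fun y : GL (Fin 2) F => (y : Matrix (Fin 2) (Fin 2) F) 0 0) h
  have e01 := congrArg (fun y : GL (Fin 2) F => (y : Matrix (Fin 2) (Fin 2) F) 0 1) h
  have e10 := congrArg (fun y : GL (Fin 2) F => (y : Matrix (Fin 2) (Fin 2) F) 1 0) h
  have e11 := congrArg (fun y : GL (Fin 2) F => (y : Matrix (Fin 2) (Fin 2) F) 1 1) h
  simp only [coe_mul_apply x, coe_mul_apply g] at e00 e01 e10 e11
  unfold dt
  refine ⟨?_, ?_, ?_⟩
  · linear_combination (x : Matrix (Fin 2) (Fin 2) F) 0 0 * e10 -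
      (x : Matrix (Fin 2) (Fin 2) F) 1 0 * e00
  · linear_combination (x : Matrix (Fin 2) (Fin 2) F) 1 1 * e00 -
      (x : Matrix (Fin 2) (Fin 2) F) 0 1 * e10
  · linear_combination (x : Matrix (Fin 2) (Fin 2) F) 0 0 * e11 -
      (x : Matrix (Fin 2) (Fin 2) F) 1 0 * e01

/-! ### the Borel subgroup -/

theorem mem_B {g : GL (Fin 2) F} :
    g ∈ Cfsg.upperTriangularGL 2 F ↔ (g : Matrix (Fin 2) (Fin 2) F) 1 0 = 0 := by
  change (g : Matrix (Fin 2) (Fin 2) F).BlockTriangular id ↔ _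
  constructor
  · intro h
    exact h (by decide : (0 : Fin 2) < 1)
  · intro h i j hij
    fin_cases i <;> fin_cases j
    · exact absurd hij (by decide)
    · exact absurd hij (by decide)
    · exact h
    · exact absurd hij (by decide)

/-- upper triangular matrices. -/
noncomputable def bmat (a d : Fˣ) (c : F) : GL (Fin 2) F :=
  mk2 (a : F) c 0 (d : F) (by
    rw [mul_zero, sub_zero]
    exact mul_ne_zero (Units.ne_zero a) (Units.ne_zero d))

theorem bmat_00 (a d : Fˣ) (c : F) : (bmat a d c : Matrix (Fin 2) (Fin 2) F) 0 0 = a := rfl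
theorem bmat_01 (a d : Fˣ) (c : F) : (bmat a d c : Matrix (Fin 2) (Fin 2) F) 0 1 = c := rfl
theorem bmat_10 (a d : Fˣ) (c : F) : (bmat a d c : Matrix (Fin 2) (Fin 2) F) 1 0 = 0 := rfl
theorem bmat_11 (a d : Fˣ) (c : F) : (bmat a d c : Matrix (Fin 2) (Fin 2) F) 1 1 = d := rfl

theorem bmat_mem (a d : Fˣ) (c : F) : bmat a d c ∈ Cfsg.upperTriangularGL 2 F :=
  mem_B.mpr (bmat_10 a d c)

theorem diag_ne_zero_of_mem_B {g : GL (Fin 2) F} (hg : g ∈ Cfsg.upperTriangularGL 2 F) :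
    (g : Matrix (Fin 2) (Fin 2) F) 0 0 ≠ 0 ∧ (g : Matrix (Fin 2) (Fin 2) F) 1 1 ≠ 0 := by
  have hd := dt_ne_zero g
  unfold dt at hd
  rw [mem_B.mp hg, mul_zero, sub_zero] at hd
  exact ⟨left_ne_zero_of_mul hd, right_ne_zero_of_mul hd⟩

/-- the parametrisation of the Borel subgroup. -/
noncomputable def eB : Fˣ × Fˣ × F ≃ Cfsg.upperTriangularGL 2 F where
  toFun p := ⟨bmat p.1 p.2.1 p.2.2, bmat_mem _ _ _⟩
  invFun b := (Units.mk0 _ (diag_ne_zero_of_mem_B b.2).1, Units.mk0 _ (diag_ne_zero_of_mem_B b.2).2,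
    ((b : GL (Fin 2) F) : Matrix (Fin 2) (Fin 2) F) 0 1)
  left_inv p := by
    obtain ⟨a, d, c⟩ := p
    apply Prod.ext
    · apply Units.ext
      rfl
    · apply Prod.ext
      · apply Units.ext
        rfl
      · rfl
  right_inv b := by
    apply Subtype.ext
    apply ext'
    · rfl
    · rfl
    · exact (mem_B.mp b.2).symm
    · rfl

theorem card_B [Fintype F] :
    Nat.card (Cfsg.upperTriangularGL 2 F) =
      (Fintype.card F - 1) * ((Fintype.card F - 1) * Fintype.card F) := by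
  classical
  rw [← Nat.card_congr (eB (F := F)), Nat.card_prod, Nat.card_prod, Nat.card_eq_fintype_card,
    Nat.card_eq_fintype_card, Fintype.card_units]

end Cfsg.Agent.Helper8.GL2C
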