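import Mathlib
import Cfsg.Agent.Helper8.GL2Basic
import Cfsg.Agent.Helper6.IndFun

set_option autoImplicit false

/-!
The principal series functions `R(α, β)` of `GL₂(F)`: values.
-/

namespace Cfsg.Agent.Helper8.GL2C

open Matrix Cfsg.Agent.Helper6
open scoped Matrix

variable {F : Type*} [Field F]

/-- the linear character `b ↦ α b₀₀ β b₁₁` of the Borel subgroup. -/
noncomputable def thB (α β : MulChar F ℂ) : Cfsg.upperTriangularGL 2 F → ℂ :=
  fun b => α (((b : GL (Fin 2) F) : Matrix (Fin 2) (Fin 2) F) 0 0) *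
    β (((b : GL (Fin 2) F) : Matrix (Fin 2) (Fin 2) F) 1 1)

open Classical in
/-- its extension by zero. -/
noncomputable def extB (α β : MulChar F ℂ) (h : GL (Fin 2) F) : ℂ :=
  if (h : Matrix (Fin 2) (Fin 2) F) 1 0 = 0 then
    α ((h : Matrix (Fin 2) (Fin 2) F) 0 0) * β ((h : Matrix (Fin 2) (Fin 2) F) 1 1) else 0

theorem extendByZero_thB (α β : MulChar F ℂ) :
    Cfsg.extendByZero (Cfsg.upperTriangularGL 2 F) (thB α β) = extB α β := by
  funext h
  by_cases hh : h ∈ Cfsg.upperTriangularGL 2 F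
  · rw [extendByZero_mem _ _ hh]
    unfold extB thB
    rw [if_pos (mem_B.mp hh)]
  · rw [extendByZero_not_mem _ _ hh]
    unfold extB
    rw [if_neg (fun h' => hh (mem_B.mpr h'))]

/-- the Weyl element. -/
noncomputable def wey (F : Type*) [Field F] : GL (Fin 2) F := mk2 0 1 1 0 (by norm_num)

section fin
variable [Fintype F] [DecidableEq F]

/-- the principal series function. -/
noncomputable def R2 (α β : MulChar F ℂ) : GL (Fin 2) F → ℂ :=
  Cfsg.indFun (Cfsg.upperTriangularGL 2 F) (thB α β)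

theorem R2_apply (α β : MulChar F ℂ) (g : GL (Fin 2) F) :
    R2 α β g = (Nat.card (Cfsg.upperTriangularGL 2 F) : ℂ)⁻¹ *
      ∑ x : GL (Fin 2) F, extB α β (x⁻¹ * g * x) := by
  unfold R2
  rw [indFun_apply, extendByZero_thB]

theorem card_B_ne_zero : (Nat.card (Cfsg.upperTriangularGL 2 F) : ℂ) ≠ 0 := by
  rw [card_B]
  have h1 : 2 ≤ Fintype.card F := Fintype.one_lt_card
  have : (Fintype.card F - 1) * ((Fintype.card F - 1) * Fintype.card F) ≠ 0 := by
    apply Nat.mul_ne_zero
    · omega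
    · apply Nat.mul_ne_zero <;> omega
  exact_mod_cast this

theorem sum_ite_10 (c : ℂ)
    [DecidablePred (fun x : GL (Fin 2) F => (x : Matrix (Fin 2) (Fin 2) F) 1 0 = 0)] :
    ∑ x : GL (Fin 2) F, (if (x : Matrix (Fin 2) (Fin 2) F) 1 0 = 0 then c else 0) =
      (Nat.card (Cfsg.upperTriangularGL 2 F) : ℂ) * c := by
  classical
  rw [← Finset.sum_filter, Finset.sum_const, nsmul_eq_mul]
  congr 2
  rw [Nat.card_eq_fintype_card, Fintype.card_subtype]
  congr 1
  ext x
  simp only [Finset.mem_filter, Finset.mem_univ, true_and]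
  exact mem_B.symm

theorem sum_ite_00 (c : ℂ)
    [DecidablePred (fun x : GL (Fin 2) F => (x : Matrix (Fin 2) (Fin 2) F) 0 0 = 0)] :
    ∑ x : GL (Fin 2) F, (if (x : Matrix (Fin 2) (Fin 2) F) 0 0 = 0 then c else 0) =
      (Nat.card (Cfsg.upperTriangularGL 2 F) : ℂ) * c := by
  classical
  rw [← sum_ite_10 c]
  apply Fintype.sum_equiv (Equiv.mulLeft (wey F))
  intro x
  have : ((wey F * x : GL (Fin 2) F) : Matrix (Fin 2) (Fin 2) F) 1 0 =
      (x : Matrix (Fin 2) (Fin 2) F) 0 0 := by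
    rw [coe_mul_apply, wey, mk2_10, mk2_11]
    ring
  simp only [Equiv.coe_mulLeft, this]

/-- value at a diagonal element with distinct entries. -/
theorem R2_diag (α β : MulChar F ℂ) {g : GL (Fin 2) F}
    (h01 : (g : Matrix (Fin 2) (Fin 2) F) 0 1 = 0) (h10 : (g : Matrix (Fin 2) (Fin 2) F) 1 0 = 0)
    (hne : (g : Matrix (Fin 2) (Fin 2) F) 0 0 ≠ (g : Matrix (Fin 2) (Fin 2) F) 1 1) :
    R2 α β g = α ((g : Matrix (Fin 2) (Fin 2) F) 0 0) * β ((g : Matrix (Fin 2) (Fin 2) F) 1 1) +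
      α ((g : Matrix (Fin 2) (Fin 2) F) 1 1) * β ((g : Matrix (Fin 2) (Fin 2) F) 0 0) := by
  classical
  rw [R2_apply]
  have key : ∀ x : GL (Fin 2) F, extB α β (x⁻¹ * g * x) =
      (if (x : Matrix (Fin 2) (Fin 2) F) 1 0 = 0 then
        α ((g : Matrix (Fin 2) (Fin 2) F) 0 0) * β ((g : Matrix (Fin 2) (Fin 2) F) 1 1) else 0) +
      (if (x : Matrix (Fin 2) (Fin 2) F) 0 0 = 0 then
        α ((g : Matrix (Fin 2) (Fin 2) F) 1 1) * β ((g : Matrix (Fin 2) (Fin 2) F) 0 0) else 0) := by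
    intro x
    obtain ⟨c10, c00, c11⟩ := conj_eqs x g
    rw [h01, h10] at c10 c00 c11
    have hdx := dt_ne_zero x
    unfold extB
    by_cases hs : (x : Matrix (Fin 2) (Fin 2) F) 1 0 = 0
    · have hp : (x : Matrix (Fin 2) (Fin 2) F) 0 0 ≠ 0 := by
        intro hp
        apply hdx
        unfold dt
        rw [hp, hs]
        ring
      have y10 : ((x⁻¹ * g * x : GL (Fin 2) F) : Matrix (Fin 2) (Fin 2) F) 1 0 = 0 := by
        apply mul_left_cancel₀ hdx
        rw [c10, hs]
        ring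
      have y00 : ((x⁻¹ * g * x : GL (Fin 2) F) : Matrix (Fin 2) (Fin 2) F) 0 0 =
          (g : Matrix (Fin 2) (Fin 2) F) 0 0 := by
        apply mul_left_cancel₀ hdx
        rw [c00, hs]
        unfold dt
        rw [hs]
        ring
      have y11 : ((x⁻¹ * g * x : GL (Fin 2) F) : Matrix (Fin 2) (Fin 2) F) 1 1 =
          (g : Matrix (Fin 2) (Fin 2) F) 1 1 := by
        apply mul_left_cancel₀ hdx
        rw [c11, hs]
        unfold dt
        rw [hs]
        ring
      rw [if_pos y10, if_pos hs, if_neg hp, add_zero, y00, y11]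
    · by_cases hp : (x : Matrix (Fin 2) (Fin 2) F) 0 0 = 0
      · have y10 : ((x⁻¹ * g * x : GL (Fin 2) F) : Matrix (Fin 2) (Fin 2) F) 1 0 = 0 := by
          apply mul_left_cancel₀ hdx
          rw [c10, hp]
          ring
        have y00 : ((x⁻¹ * g * x : GL (Fin 2) F) : Matrix (Fin 2) (Fin 2) F) 0 0 =
            (g : Matrix (Fin 2) (Fin 2) F) 1 1 := by
          apply mul_left_cancel₀ hdx
          rw [c00, hp]
          unfold dt
          rw [hp]
          ring
        have y11 : ((x⁻¹ * g * x : GL (Fin 2) F) : Matrix (Fin 2) (Fin 2) F) 1 1 =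
            (g : Matrix (Fin 2) (Fin 2) F) 0 0 := by
          apply mul_left_cancel₀ hdx
          rw [c11, hp]
          unfold dt
          rw [hp]
          ring
        rw [if_pos y10, if_neg hs, if_pos hp, zero_add, y00, y11]
      · rw [if_neg, if_neg hs, if_neg hp, add_zero]
        intro y10
        rw [y10, mul_zero] at c10
        have h3 : ((g : Matrix (Fin 2) (Fin 2) F) 1 1 - (g : Matrix (Fin 2) (Fin 2) F) 0 0) *
            ((x : Matrix (Fin 2) (Fin 2) F) 0 0 * (x : Matrix (Fin 2) (Fin 2) F) 1 0) = 0 := by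
          linear_combination -c10
        rcases mul_eq_zero.mp h3 with h4 | h4
        · exact hne (sub_eq_zero.mp h4).symm
        · rcases mul_eq_zero.mp h4 with h5 | h5
          · exact hp h5
          · exact hs h5
  simp_rw [key]
  rw [Finset.sum_add_distrib, sum_ite_10, sum_ite_00, ← mul_add, ← mul_assoc,
    inv_mul_cancel₀ card_B_ne_zero, one_mul]

/-- value at a non-semisimple element. -/
theorem R2_unip (α β : MulChar F ℂ) {g : GL (Fin 2) F}
    (h10 : (g : Matrix (Fin 2) (Fin 2) F) 1 0 = 0)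
    (heq : (g : Matrix (Fin 2) (Fin 2) F) 0 0 = (g : Matrix (Fin 2) (Fin 2) F) 1 1)
    (h01 : (g : Matrix (Fin 2) (Fin 2) F) 0 1 ≠ 0) :
    R2 α β g = α ((g : Matrix (Fin 2) (Fin 2) F) 0 0) * β ((g : Matrix (Fin 2) (Fin 2) F) 0 0) := by
  classical
  rw [R2_apply]
  have key : ∀ x : GL (Fin 2) F, extB α β (x⁻¹ * g * x) =
      (if (x : Matrix (Fin 2) (Fin 2) F) 1 0 = 0 then
        α ((g : Matrix (Fin 2) (Fin 2) F) 0 0) * β ((g : Matrix (Fin 2) (Fin 2) F) 0 0) else 0) := by
    intro x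
    obtain ⟨c10, c00, c11⟩ := conj_eqs x g
    rw [h10, ← heq] at c10 c00 c11
    have hdx := dt_ne_zero x
    unfold extB
    by_cases hs : (x : Matrix (Fin 2) (Fin 2) F) 1 0 = 0
    · have y10 : ((x⁻¹ * g * x : GL (Fin 2) F) : Matrix (Fin 2) (Fin 2) F) 1 0 = 0 := by
        apply mul_left_cancel₀ hdx
        rw [c10, hs]
        ring
      have y00 : ((x⁻¹ * g * x : GL (Fin 2) F) : Matrix (Fin 2) (Fin 2) F) 0 0 =
          (g : Matrix (Fin 2) (Fin 2) F) 0 0 := by
        apply mul_left_cancel₀ hdx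
        rw [c00, hs]
        unfold dt
        rw [hs]
        ring
      have y11 : ((x⁻¹ * g * x : GL (Fin 2) F) : Matrix (Fin 2) (Fin 2) F) 1 1 =
          (g : Matrix (Fin 2) (Fin 2) F) 0 0 := by
        apply mul_left_cancel₀ hdx
        rw [c11, hs]
        unfold dt
        rw [hs]
        ring
      rw [if_pos y10, if_pos hs, y00, y11]
    · rw [if_neg, if_neg hs]
      intro y10
      rw [y10, mul_zero] at c10
      have h3 : (g : Matrix (Fin 2) (Fin 2) F) 0 1 *
          ((x : Matrix (Fin 2) (Fin 2) F) 1 0 * (x : Matrix (Fin 2) (Fin 2) F) 1 0) = 0 := by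
        linear_combination c10
      rcases mul_eq_zero.mp h3 with h4 | h4
      · exact h01 h4
      · rcases mul_eq_zero.mp h4 with h5 | h5
        · exact hs h5
        · exact hs h5
  simp_rw [key]
  rw [sum_ite_10, ← mul_assoc, inv_mul_cancel₀ card_B_ne_zero, one_mul]

theorem card_GL2 : Nat.card (GL (Fin 2) F) =
    (Fintype.card F ^ 2 - 1) * (Fintype.card F ^ 2 - Fintype.card F) := by
  rw [Matrix.card_GL_field, Fin.prod_univ_two]
  simp

theorem card_GL2_eq : (Nat.card (GL (Fin 2) F) : ℂ) =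
    ((Fintype.card F : ℂ) + 1) * (Nat.card (Cfsg.upperTriangularGL 2 F) : ℂ) := by
  rw [card_GL2, card_B]
  have h1 : 1 ≤ Fintype.card F := Fintype.card_pos
  have h2 : 1 ≤ Fintype.card F ^ 2 := Nat.one_le_pow _ _ h1
  have h3 : Fintype.card F ≤ Fintype.card F ^ 2 := by nlinarith
  push_cast [Nat.cast_sub h1, Nat.cast_sub h2, Nat.cast_sub h3]
  ring

/-- value at a scalar element. -/
theorem R2_scalar (α β : MulChar F ℂ) {g : GL (Fin 2) F}
    (h01 : (g : Matrix (Fin 2) (Fin 2) F) 0 1 = 0) (h10 : (g : Matrix (Fin 2) (Fin 2) F) 1 0 = 0)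
    (heq : (g : Matrix (Fin 2) (Fin 2) F) 0 0 = (g : Matrix (Fin 2) (Fin 2) F) 1 1) :
    R2 α β g = ((Fintype.card F : ℂ) + 1) *
      (α ((g : Matrix (Fin 2) (Fin 2) F) 0 0) * β ((g : Matrix (Fin 2) (Fin 2) F) 0 0)) := by
  classical
  rw [R2_apply]
  have key : ∀ x : GL (Fin 2) F, extB α β (x⁻¹ * g * x) =
      α ((g : Matrix (Fin 2) (Fin 2) F) 0 0) * β ((g : Matrix (Fin 2) (Fin 2) F) 0 0) := by
    intro x
    obtain ⟨c10, c00, c11⟩ := conj_eqs x g
    rw [h10, h01, ← heq] at c10 c00 c11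
    have hdx := dt_ne_zero x
    unfold extB
    have y10 : ((x⁻¹ * g * x : GL (Fin 2) F) : Matrix (Fin 2) (Fin 2) F) 1 0 = 0 := by
      apply mul_left_cancel₀ hdx
      rw [c10]
      ring
    have y00 : ((x⁻¹ * g * x : GL (Fin 2) F) : Matrix (Fin 2) (Fin 2) F) 0 0 =
        (g : Matrix (Fin 2) (Fin 2) F) 0 0 := by
      apply mul_left_cancel₀ hdx
      rw [c00]
      unfold dt
      ring
    have y11 : ((x⁻¹ * g * x : GL (Fin 2) F) : Matrix (Fin 2) (Fin 2) F) 1 1 =
        (g : Matrix (Fin 2) (Fin 2) F) 0 0 := by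
      apply mul_left_cancel₀ hdx
      rw [c11]
      unfold dt
      ring
    rw [if_pos y10, y00, y11]
  simp_rw [key]
  rw [Finset.sum_const, nsmul_eq_mul, Finset.card_univ, ← Nat.card_eq_fintype_card, card_GL2_eq]
  have hB := card_B_ne_zero (F := F)
  field_simp

/-- value at an element without eigenvectors. -/
theorem R2_ell (α β : MulChar F ℂ) {g : GL (Fin 2) F}
    (hg : ∀ (c : F) (v : Fin 2 → F), v ≠ 0 → (g : Matrix (Fin 2) (Fin 2) F).mulVec v ≠ c • v) :
    R2 α β g = 0 := by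
  classical
  rw [R2_apply]
  have key : ∀ x : GL (Fin 2) F, extB α β (x⁻¹ * g * x) = 0 := by
    intro x
    unfold extB
    rw [if_neg]
    intro y10
    have h : x * (x⁻¹ * g * x) = g * x := by group
    have e00 := congrArg (fun y : GL (Fin 2) F => (y : Matrix (Fin 2) (Fin 2) F) 0 0) h
    have e10 := congrArg (fun y : GL (Fin 2) F => (y : Matrix (Fin 2) (Fin 2) F) 1 0) h
    simp only [coe_mul_apply x, coe_mul_apply g, y10, mul_zero, add_zero] at e00 e10
    refine hg (((x⁻¹ * g * x : GL (Fin 2) F) : Matrix (Fin 2) (Fin 2) F) 0 0)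
      ![(x : Matrix (Fin 2) (Fin 2) F) 0 0, (x : Matrix (Fin 2) (Fin 2) F) 1 0] ?_ ?_
    · intro hv
      have h0 : (x : Matrix (Fin 2) (Fin 2) F) 0 0 = 0 := by
        have := congrFun hv 0
        simpa using this
      have h1 : (x : Matrix (Fin 2) (Fin 2) F) 1 0 = 0 := by
        have := congrFun hv 1
        simpa using this
      apply dt_ne_zero x
      unfold dt
      rw [h0, h1]
      ring
    · ext i
      fin_cases i
      · simp only [Matrix.mulVec, dotProduct, Fin.sum_univ_two, Fin.zero_eta, Fin.isValue,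
          Matrix.cons_val_zero, Matrix.cons_val_one, Pi.smul_apply, smul_eq_mul]
        linear_combination -e00
      · simp only [Matrix.mulVec, dotProduct, Fin.sum_univ_two, Fin.mk_one, Fin.isValue,
          Matrix.cons_val_zero, Matrix.cons_val_one, Pi.smul_apply, smul_eq_mul]
        linear_combination -e10
  simp_rw [key]
  rw [Finset.sum_const_zero, mul_zero]

end fin

end Cfsg.Agent.Helper8.GL2C
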