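import Mathlib
import Cfsg.Agent.Helper8.GL2Ind
import Cfsg.Agent.Helper8.SL2IndInner
import Cfsg.Agent.Helper6.Linear
import Cfsg.Agent.Helper6.IrrCrit
import Cfsg.Agent.Helper6.Induced
import Cfsg.Agent.Helper6.ClassInner

set_option autoImplicit false

/-!
The principal series functions `R(α, β)` of `GL₂(F)`: inner products, characters.
-/

namespace Cfsg.Agent.Helper8.GL2C

open Matrix Cfsg.Agent.Helper6
open scoped Matrix ComplexConjugate

variable {F : Type*} [Field F]

/-- upper unitriangular elements. -/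
noncomputable def uu (t : F) : GL (Fin 2) F := mk2 1 t 0 1 (by norm_num)

theorem uu_00 (t : F) : (uu t : Matrix (Fin 2) (Fin 2) F) 0 0 = 1 := rfl
theorem uu_01 (t : F) : (uu t : Matrix (Fin 2) (Fin 2) F) 0 1 = t := rfl
theorem uu_10 (t : F) : (uu t : Matrix (Fin 2) (Fin 2) F) 1 0 = 0 := rfl
theorem uu_11 (t : F) : (uu t : Matrix (Fin 2) (Fin 2) F) 1 1 = 1 := rfl

theorem uu_conj (a d : Fˣ) (t : F) :
    uu t * bmat a d 0 * (uu t)⁻¹ = bmat a d (t * ((d : F) - a)) := by
  rw [mul_inv_eq_iff_eq_mul]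
  apply ext' <;>
    simp only [coe_mul_apply, uu_00, uu_01, uu_10, uu_11, bmat_00, bmat_01, bmat_10, bmat_11] <;>
    ring

section fin
variable [Fintype F] [DecidableEq F]

theorem R2_isClassFunction (α β : MulChar F ℂ) :
    Cfsg.IsClassFunction (GL (Fin 2) F) (R2 α β) :=
  indFun_isClassFunction _ _

theorem R2_bmat_ne (α β : MulChar F ℂ) (a d : Fˣ) (c : F) (h : (a : F) ≠ d) :
    R2 α β (bmat a d c) = α (a : F) * β (d : F) + α (d : F) * β (a : F) := by
  have hcf := R2_isClassFunction α β (bmat a d 0) (uu (c / ((d : F) - a)))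
  have hne : (d : F) - a ≠ 0 := sub_ne_zero.mpr (Ne.symm h)
  rw [uu_conj, div_mul_cancel₀ _ hne] at hcf
  rw [hcf, R2_diag α β (bmat_01 a d 0) (bmat_10 a d 0) (by rw [bmat_00, bmat_11]; exact h),
    bmat_00, bmat_11]

theorem R2_bmat_eq (α β : MulChar F ℂ) (a : Fˣ) (c : F) :
    R2 α β (bmat a a c) = α (a : F) * β (a : F) +
      (if c = 0 then (Fintype.card F : ℂ) * (α (a : F) * β (a : F)) else 0) := by
  by_cases hc : c = 0
  · rw [if_pos hc, R2_scalar α β (by rw [bmat_01]; exact hc) (bmat_10 a a c)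
      (by rw [bmat_00, bmat_11]), bmat_00]
    ring
  · rw [if_neg hc, add_zero, R2_unip α β (bmat_10 a a c) (by rw [bmat_00, bmat_11])
      (by rw [bmat_01]; exact hc), bmat_00]

theorem conj_mulChar (α : MulChar F ℂ) (a : Fˣ) : conj (α (a : F)) = α⁻¹ (a : F) :=
  MulChar.star_apply' α a

theorem sum_conj_R2_bmat (α β : MulChar F ℂ) (a d : Fˣ) :
    ∑ c : F, conj (R2 α β (bmat a d c)) =
      (Fintype.card F : ℂ) * (α⁻¹ (a : F) * β⁻¹ (d : F) + α⁻¹ (d : F) * β⁻¹ (a : F)) := by
  by_cases h : (a : F) = d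
  · have : a = d := Units.ext h
    subst this
    simp_rw [R2_bmat_eq α β a]
    simp_rw [map_add, apply_ite conj, map_zero, map_mul, Complex.conj_natCast, conj_mulChar]
    rw [Finset.sum_add_distrib, Finset.sum_const, Finset.sum_ite_eq', if_pos (Finset.mem_univ _),
      Finset.card_univ, nsmul_eq_mul]
    ring
  · simp_rw [R2_bmat_ne α β a d _ h]
    rw [Finset.sum_const, Finset.card_univ, nsmul_eq_mul, map_add, map_mul, map_mul,
      conj_mulChar, conj_mulChar, conj_mulChar, conj_mulChar]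

theorem ite_mul_ite (p q : Prop) [Decidable p] [Decidable q] [Decidable (p ∧ q)] (x : ℂ) :
    (if p then x else 0) * (if q then x else 0) = if p ∧ q then x * x else 0 := by
  by_cases hp : p <;> by_cases hq : q <;> simp [hp, hq]

/-- the inner product of two principal series functions. -/
theorem classInner_R2 (α β α' β' : MulChar F ℂ) [Decidable (α = α' ∧ β = β')]
    [Decidable (α = β' ∧ β = α')] :
    Cfsg.classInner (R2 α β) (R2 α' β') =
      (if α = α' ∧ β = β' then 1 else 0) + (if α = β' ∧ β = α' then 1 else 0) := by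
  classical
  haveI : Fintype (Cfsg.upperTriangularGL 2 F) := Fintype.ofFinite _
  have hfr := frobenius_reciprocity (Cfsg.upperTriangularGL 2 F) (thB α β) (R2 α' β')
    (R2_isClassFunction α' β')
  change Cfsg.classInner (R2 α β) (R2 α' β') = _ at hfr
  rw [hfr]
  unfold Cfsg.classInner
  have hsum : ∑ g : Cfsg.upperTriangularGL 2 F,
      thB α β g * conj (R2 α' β' (g : GL (Fin 2) F)) =
      ∑ p : Fˣ × Fˣ × F, α (p.1 : F) * β (p.2.1 : F) * conj (R2 α' β' (bmat p.1 p.2.1 p.2.2)) := by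
    symm
    apply Fintype.sum_equiv (eB (F := F))
    intro p
    rfl
  rw [hsum, Fintype.sum_prod_type]
  simp_rw [Fintype.sum_prod_type, ← Finset.mul_sum, sum_conj_R2_bmat]
  have h3 : ∀ a d : Fˣ, α (a : F) * β (d : F) * ((Fintype.card F : ℂ) *
      (α'⁻¹ (a : F) * β'⁻¹ (d : F) + α'⁻¹ (d : F) * β'⁻¹ (a : F))) =
      (Fintype.card F : ℂ) * ((α * α'⁻¹) (a : F) * (β * β'⁻¹) (d : F) +
        (α * β'⁻¹) (a : F) * (β * α'⁻¹) (d : F)) := by
    intro a d
    rw [MulChar.mul_apply, MulChar.mul_apply, MulChar.mul_apply, MulChar.mul_apply]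
    ring
  simp_rw [h3]
  simp_rw [← Finset.mul_sum, Finset.sum_add_distrib, ← Finset.mul_sum]
  rw [← Finset.sum_mul, ← Finset.sum_mul]
  rw [SL2C.sum_units_mulChar_eq, SL2C.sum_units_mulChar_eq, SL2C.sum_units_mulChar_eq,
    SL2C.sum_units_mulChar_eq, card_B]
  have e1 : (α * α'⁻¹ = 1) ↔ α = α' := mul_inv_eq_one
  have e2 : (β * β'⁻¹ = 1) ↔ β = β' := mul_inv_eq_one
  have e3 : (α * β'⁻¹ = 1) ↔ α = β' := mul_inv_eq_one
  have e4 : (β * α'⁻¹ = 1) ↔ β = α' := mul_inv_eq_one
  simp only [e1, e2, e3, e4]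
  have hq : ((Fintype.card F : ℕ) : ℂ) ≠ 0 := by
    have : Fintype.card F ≠ 0 := Fintype.card_ne_zero
    exact_mod_cast this
  have hq1 : ((Fintype.card F - 1 : ℕ) : ℂ) ≠ 0 := by
    have h1 : 2 ≤ Fintype.card F := Fintype.one_lt_card
    have : Fintype.card F - 1 ≠ 0 := by omega
    exact_mod_cast this
  rw [Nat.cast_mul, Nat.cast_mul, ite_mul_ite, ite_mul_ite]
  by_cases hA : α = α' ∧ β = β' <;> by_cases hB : α = β' ∧ β = α'
  · simp only [if_pos hA, if_pos hB]
    field_simp
  · simp only [if_pos hA, if_neg hB]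
    field_simp
    ring
  · simp only [if_neg hA, if_pos hB]
    field_simp
    ring
  · simp only [if_neg hA, if_neg hB]
    simp

end fin

/-! ### the inducing character as a homomorphism -/

/-- the diagonal entries, as a homomorphism on the Borel subgroup. -/
noncomputable def diagHom0 (F : Type*) [Field F] : Cfsg.upperTriangularGL 2 F →* Fˣ where
  toFun b := Units.mk0 _ (diag_ne_zero_of_mem_B b.2).1
  map_one' := by
    apply Units.ext
    change ((1 : GL (Fin 2) F) : Matrix (Fin 2) (Fin 2) F) 0 0 = 1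
    exact one_00
  map_mul' b b' := by
    apply Units.ext
    change (((b : GL (Fin 2) F) * (b' : GL (Fin 2) F) : GL (Fin 2) F) :
      Matrix (Fin 2) (Fin 2) F) 0 0 = _
    rw [coe_mul_apply, mem_B.mp b'.2, mul_zero, add_zero]
    rfl

noncomputable def diagHom1 (F : Type*) [Field F] : Cfsg.upperTriangularGL 2 F →* Fˣ where
  toFun b := Units.mk0 _ (diag_ne_zero_of_mem_B b.2).2
  map_one' := by
    apply Units.ext
    change ((1 : GL (Fin 2) F) : Matrix (Fin 2) (Fin 2) F) 1 1 = 1
    exact one_11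
  map_mul' b b' := by
    apply Units.ext
    change (((b : GL (Fin 2) F) * (b' : GL (Fin 2) F) : GL (Fin 2) F) :
      Matrix (Fin 2) (Fin 2) F) 1 1 = _
    rw [coe_mul_apply, mem_B.mp b.2, zero_mul, zero_add]
    rfl

theorem thB_eq_hom (α β : MulChar F ℂ) :
    thB α β = fun b => ((((α.toUnitHom.comp (diagHom0 F)) * (β.toUnitHom.comp (diagHom1 F))) b : ℂˣ) : ℂ) := by
  funext b
  rw [MonoidHom.mul_apply, Units.val_mul, MonoidHom.comp_apply, MonoidHom.comp_apply,
    MulChar.coe_toUnitHom, MulChar.coe_toUnitHom]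
  rfl

theorem isIrrCharacter_thB (α β : MulChar F ℂ) :
    Cfsg.IsIrrCharacter (Cfsg.upperTriangularGL 2 F) (thB α β) := by
  rw [thB_eq_hom]
  exact isIrrCharacter_of_hom _

variable [Fintype F] [DecidableEq F]

theorem isCharacter_R2 (α β : MulChar F ℂ) :
    Cfsg.IsCharacter (GL (Fin 2) F) (R2 α β) :=
  isCharacter_indFun _ (thB α β) (IsIrrCharacter.isCharacter (isIrrCharacter_thB α β))

theorem isIrrCharacter_R2 (α β : MulChar F ℂ) (h : α ≠ β) :
    Cfsg.IsIrrCharacter (GL (Fin 2) F) (R2 α β) := by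
  classical
  apply isIrrCharacter_of_classInner_self (isCharacter_R2 α β)
  rw [classInner_R2, if_pos ⟨rfl, rfl⟩, if_neg (fun h' => h h'.1), add_zero]

theorem R2_one (α β : MulChar F ℂ) : R2 α β 1 = (Fintype.card F : ℂ) + 1 := by
  rw [R2_scalar α β one_01 one_10 (by rw [one_00, one_11]), one_00, map_one, map_one]
  ring

theorem R2_swap (α β : MulChar F ℂ) : R2 α β = R2 β α := by
  classical
  have h : Cfsg.classInner (R2 α β - R2 β α) (R2 α β - R2 β α) = 0 := by
    rw [classInner_sub_left, classInner_sub_right, classInner_sub_right, classInner_R2,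
      classInner_R2, classInner_R2, classInner_R2]
    by_cases hab : α = β
    · subst hab
      simp
    · have hba : ¬ β = α := fun h => hab h.symm
      simp [hab, hba]
  have := classInner_self_eq_zero h
  exact sub_eq_zero.mp this

theorem R2_eq_iff (α β α' β' : MulChar F ℂ) :
    R2 α β = R2 α' β' ↔ (α = α' ∧ β = β') ∨ (α = β' ∧ β = α') := by
  classical
  constructor
  · intro h
    have h2 := classInner_R2 α β α' β'
    rw [← h, classInner_R2 α β α β] at h2
    by_contra hcon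
    rw [not_or, not_and, not_and] at hcon
    have n1 : ¬ (α = α' ∧ β = β') := fun h' => hcon.1 h'.1 h'.2
    have n2 : ¬ (α = β' ∧ β = α') := fun h' => hcon.2 h'.1 h'.2
    rw [if_pos ⟨rfl, rfl⟩] at h2
    simp only [if_neg n1, if_neg n2] at h2
    by_cases hab : α = β ∧ β = α
    · rw [if_pos hab] at h2
      norm_num at h2
    · rw [if_neg hab] at h2
      norm_num at h2
  · rintro (⟨rfl, rfl⟩ | ⟨rfl, rfl⟩)
    · rfl
    · exact R2_swap α β

end Cfsg.Agent.Helper8.GL2C
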