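import Mathlib
import Cfsg.Agent.Helper8.GL2Inner

set_option autoImplicit false

/-!
The permutation character on the cosets of a subgroup is the induced trivial character;
the case of the Borel subgroup of `GL₂(F)`.
-/

namespace Cfsg.Agent.Helper8.GL2C

open Matrix Cfsg.Agent.Helper6
open scoped Matrix ComplexConjugate

theorem fixed_iff {G : Type*} [Group G] (H : Subgroup G) (g x : G) :
    g • (x : G ⧸ H) = (x : G ⧸ H) ↔ x⁻¹ * g * x ∈ H := by
  rw [MulAction.Quotient.smul_mk, QuotientGroup.eq]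
  constructor
  · intro h
    have := H.inv_mem h
    simpa [mul_assoc] using this
  · intro h
    have := H.inv_mem h
    simpa [mul_assoc] using this

theorem card_conj_mem {G : Type*} [Group G] [Fintype G] (H : Subgroup G) (g : G)
    [DecidablePred (fun x : G => x⁻¹ * g * x ∈ H)] :
    (Finset.univ.filter (fun x : G => x⁻¹ * g * x ∈ H)).card =
      Nat.card (MulAction.fixedBy (G ⧸ H) g) * Nat.card H := by
  classical
  rw [← Nat.card_prod, ← Fintype.card_subtype, ← Nat.card_eq_fintype_card]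
  apply Nat.card_congr
  refine (Equiv.subtypeEquiv (Subgroup.groupEquivQuotientProdSubgroup (s := H))
    (q := fun p : (G ⧸ H) × H => p.1 ∈ MulAction.fixedBy (G ⧸ H) g) ?_).trans
    (Equiv.prodSubtypeFstEquivSubtypeProd (p := fun q : G ⧸ H => q ∈ MulAction.fixedBy (G ⧸ H) g))
  intro x
  have : (Subgroup.groupEquivQuotientProdSubgroup (s := H) x).1 = (x : G ⧸ H) := rfl
  rw [this, MulAction.mem_fixedBy, fixed_iff]

theorem fixedPointCharacter_eq_indFun {G : Type*} [Group G] [Fintype G] (H : Subgroup G) (g : G) :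
    Cfsg.fixedPointCharacter H g = Cfsg.indFun H (fun _ => (1 : ℂ)) g := by
  classical
  rw [indFun_apply]
  have h1 : ∀ x : G, Cfsg.extendByZero H (fun _ => (1 : ℂ)) (x⁻¹ * g * x) =
      if x⁻¹ * g * x ∈ H then 1 else 0 := by
    intro x
    by_cases hx : x⁻¹ * g * x ∈ H
    · rw [extendByZero_mem _ _ hx, if_pos hx]
    · rw [extendByZero_not_mem _ _ hx, if_neg hx]
  simp_rw [h1]
  rw [Finset.sum_boole, card_conj_mem, Nat.cast_mul]
  have hH : (Nat.card H : ℂ) ≠ 0 := by
    have : Nat.card H ≠ 0 := Nat.card_pos.ne'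
    exact_mod_cast this
  unfold Cfsg.fixedPointCharacter
  field_simp

variable {F : Type*} [Field F]

theorem thB_one_one : thB (1 : MulChar F ℂ) 1 = fun _ => (1 : ℂ) := by
  funext b
  unfold thB
  obtain ⟨h0, h1⟩ := diag_ne_zero_of_mem_B b.2
  rw [MulChar.one_apply (IsUnit.mk0 _ h0), MulChar.one_apply (IsUnit.mk0 _ h1), one_mul]

theorem fixedPointCharacter_B [Fintype F] [DecidableEq F] (g : GL (Fin 2) F) :
    Cfsg.fixedPointCharacter (Cfsg.upperTriangularGL 2 F) g = R2 1 1 g := by
  rw [fixedPointCharacter_eq_indFun, ← thB_one_one]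
  rfl

end Cfsg.Agent.Helper8.GL2C
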