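import Mathlib

/-!
# Maximal totally singular subspaces of a hyperbolic quadric (helper8)

Abstract setting: `Q` a quadratic form on a space `V` of dimension `2m` with nondegenerate
polar form.  A "maximal totally singular subspace" (`IsMTS`) is an `m`-dimensional subspace on
which `Q` vanishes.  We prove the adjacency lemma, the chain lemma and the parity theorem
(two families).
-/

set_option autoImplicit false

namespace Cfsg.Agent.Helper8.MaxSingular

open Module LinearMap.BilinForm

variable {F V : Type*} [Field F] [AddCommGroup V] [Module F V]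

/-! ### General linear algebra -/

theorem finrank_sup_span_singleton [FiniteDimensional F V] (W : Submodule F V) {x : V}
    (hx : x ∉ W) : finrank F ↥(W ⊔ Submodule.span F {x}) = finrank F W + 1 := by
  have hx0 : x ≠ 0 := fun h => hx (h ▸ W.zero_mem)
  have h1 := Submodule.finrank_sup_add_finrank_inf_eq W (Submodule.span F {x})
  have h2 : W ⊓ Submodule.span F {x} = ⊥ :=
    (Submodule.disjoint_span_singleton_of_notMem hx).eq_bot
  rw [h2, finrank_bot, finrank_span_singleton hx0] at h1
  omega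

theorem sup_span_singleton_eq [FiniteDimensional F V] {H X : Submodule F V} (hHX : H ≤ X)
    (hd : finrank F H + 1 = finrank F X) {x : V} (hxX : x ∈ X) (hxH : x ∉ H) :
    H ⊔ Submodule.span F {x} = X := by
  apply Submodule.eq_of_le_of_finrank_eq
  · exact sup_le hHX ((Submodule.span_singleton_le_iff_mem x X).2 hxX)
  · rw [finrank_sup_span_singleton H hxH, hd]

theorem exists_mem_not_mem [FiniteDimensional F V] {A C : Submodule F V}
    (hd : finrank F A < finrank F C) : ∃ x ∈ C, x ∉ A := by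
  by_contra h
  have : C ≤ A := fun x hx => by
    by_contra hxA
    exact h ⟨x, hx, hxA⟩
  have := Submodule.finrank_mono this
  omega

/-- The orthogonal of `U` with respect to the polar form of `Q`. -/
abbrev orth (Q : QuadraticForm F V) (U : Submodule F V) : Submodule F V :=
  LinearMap.BilinForm.orthogonal (QuadraticMap.polarBilin Q) U

theorem mem_orth (Q : QuadraticForm F V) (U : Submodule F V) (x : V) :
    x ∈ orth Q U ↔ ∀ u ∈ U, QuadraticMap.polar Q u x = 0 := Iff.rfl

theorem orth_sup (Q : QuadraticForm F V) (A C : Submodule F V) :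
    orth Q (A ⊔ C) = orth Q A ⊓ orth Q C := by
  apply le_antisymm
  · exact le_inf (orthogonal_le le_sup_left) (orthogonal_le le_sup_right)
  · intro x hx
    rw [mem_orth]
    intro y hy
    obtain ⟨a, ha, c, hc, rfl⟩ := Submodule.mem_sup.1 hy
    have h1 := (mem_orth Q A x).1 hx.1 a ha
    have h2 := (mem_orth Q C x).1 hx.2 c hc
    rw [QuadraticMap.polar_add_left, h1, h2, add_zero]

/-! ### Totally singular subspaces -/

variable (Q : QuadraticForm F V)

/-- `U` is an `m`-dimensional totally singular subspace. -/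
def IsMTS (m : ℕ) (U : Submodule F V) : Prop :=
  finrank F U = m ∧ ∀ w ∈ U, Q w = 0

theorem polBilin_isRefl : LinearMap.BilinForm.IsRefl (QuadraticMap.polarBilin Q) := by
  intro x y h
  rw [QuadraticMap.polarBilin_apply_apply] at h ⊢
  rw [QuadraticMap.polar_comm]; exact h

variable {Q}

theorem polar_eq_zero_of_ts {U : Submodule F V} (hU : ∀ w ∈ U, Q w = 0) {x y : V}
    (hx : x ∈ U) (hy : y ∈ U) : QuadraticMap.polar Q x y = 0 := by
  unfold QuadraticMap.polar
  rw [hU _ (U.add_mem hx hy), hU _ hx, hU _ hy]; simp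

theorem le_orth_of_ts {U : Submodule F V} (hU : ∀ w ∈ U, Q w = 0) :
    U ≤ orth Q U := fun _ hx _ hy =>
  polar_eq_zero_of_ts hU hy hx

theorem le_orth_of_le_ts {H U : Submodule F V} (hU : ∀ w ∈ U, Q w = 0) (hH : H ≤ U) :
    U ≤ orth Q H := fun _ hx _ hy =>
  polar_eq_zero_of_ts hU (hH hy) hx

section main

variable [FiniteDimensional F V] {m : ℕ}
  (hB : LinearMap.BilinForm.Nondegenerate (QuadraticMap.polarBilin Q))
  (hV : finrank F V = 2 * m)

include hB hV

theorem orth_eq_self {U : Submodule F V} (hU : IsMTS Q m U) :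
    orth Q U = U := by
  symm
  apply Submodule.eq_of_le_of_finrank_eq (le_orth_of_ts hU.2)
  rw [finrank_orthogonal hB, hV, hU.1]; omega

theorem mem_of_perp {U : Submodule F V} (hU : IsMTS Q m U) {x : V}
    (h : ∀ u ∈ U, QuadraticMap.polar Q u x = 0) : x ∈ U := by
  rw [← orth_eq_self hB hV hU]
  exact fun u hu => h u hu

/-- Workhorse dimension count. -/
theorem finrank_inf_orth {U : Submodule F V} (hU : IsMTS Q m U) (H : Submodule F V) :
    finrank F ↥(U ⊓ orth Q H) + finrank F H = m + finrank F ↥(U ⊓ H) := by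
  have h1 : U ⊓ orth Q H = orth Q (U ⊔ H) := by
    rw [orth_sup, orth_eq_self hB hV hU]
  rw [h1, finrank_orthogonal hB, hV]
  have h2 := Submodule.finrank_sup_add_finrank_inf_eq U H
  have h3 := Submodule.finrank_le (U ⊔ H)
  rw [hU.1] at h2
  omega

/-- A singular vector of `X ⊔ X'` (for adjacent `X`, `X'`) lies in `X` or in `X'`. -/
theorem mem_or_mem_of_singular {X X' : Submodule F V} (hX : IsMTS Q m X) (hX' : IsMTS Q m X')
    (hd : finrank F ↥(X ⊓ X') + 1 = m) {u : V} (hu : u ∈ X ⊔ X') (hQ : Q u = 0) :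
    u ∈ X ∨ u ∈ X' := by
  obtain ⟨x, hx, x', hx', rfl⟩ := Submodule.mem_sup.1 hu
  have hp : QuadraticMap.polar Q x x' = 0 := by
    have := QuadraticMap.map_add Q x x'
    rw [hQ, hX.2 x hx, hX'.2 x' hx'] at this
    simpa using this.symm
  by_cases hxH : x ∈ X'
  · right; exact X'.add_mem hxH hx'
  · left
    have hsup : (X ⊓ X') ⊔ Submodule.span F {x} = X :=
      sup_span_singleton_eq inf_le_left (by rw [hd, hX.1]) hx (fun h => hxH h.2)
    have : x' ∈ X := by
      apply mem_of_perp hB hV hX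
      intro y hy
      rw [← hsup] at hy
      obtain ⟨h, hh, c, hc, rfl⟩ := Submodule.mem_sup.1 hy
      obtain ⟨a, rfl⟩ := Submodule.mem_span_singleton.1 hc
      rw [QuadraticMap.polar_add_left, QuadraticMap.polar_smul_left, hp,
        polar_eq_zero_of_ts hX'.2 hh.2 hx']
      simp
    exact X.add_mem hx this

theorem finrank_inf_of_mem {U X X' : Submodule F V} (hU : IsMTS Q m U) (hX : IsMTS Q m X)
    (hX' : IsMTS Q m X') (hd : finrank F ↥(X ⊓ X') + 1 = m) {u : V} (huU : u ∈ U)
    (huX : u ∈ X) (huX' : u ∉ X') :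
    finrank F ↥(U ⊓ X) = finrank F ↥(U ⊓ X') + 1 := by
  have hsup : (X ⊓ X') ⊔ Submodule.span F {u} = X :=
    sup_span_singleton_eq inf_le_left (by rw [hd, hX.1]) huX (fun h => huX' h.2)
  have h1 : U ⊓ X' = U ⊓ (X ⊓ X') := by
    apply le_antisymm
    · intro w hw
      refine ⟨hw.1, ?_, hw.2⟩
      apply mem_of_perp hB hV hX
      intro y hy
      rw [← hsup] at hy
      obtain ⟨h, hh, c, hc, rfl⟩ := Submodule.mem_sup.1 hy
      obtain ⟨a, rfl⟩ := Submodule.mem_span_singleton.1 hc
      rw [QuadraticMap.polar_add_left, QuadraticMap.polar_smul_left,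
        polar_eq_zero_of_ts hU.2 huU hw.1, polar_eq_zero_of_ts hX'.2 hh.2 hw.2]
      simp
    · exact inf_le_inf_left U inf_le_right
  have h2 := finrank_inf_orth hB hV hU (X ⊓ X')
  have h3 : finrank F ↥(U ⊓ X) ≤ finrank F ↥(U ⊓ orth Q (X ⊓ X')) :=
    Submodule.finrank_mono (inf_le_inf_left U (le_orth_of_le_ts hX.2 inf_le_left))
  have h4 : finrank F ↥(U ⊓ (X ⊓ X')) + 1 ≤ finrank F ↥(U ⊓ X) := by
    rw [← finrank_sup_span_singleton (U ⊓ (X ⊓ X')) (fun h => huX' h.2.2)]
    apply Submodule.finrank_mono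
    apply sup_le (inf_le_inf_left U inf_le_left)
    rw [Submodule.span_singleton_le_iff_mem]; exact ⟨huU, huX⟩
  rw [h1]; omega

/-- **Adjacency lemma**: if `X`, `X'` meet in codimension 1 then the dimensions of `U ⊓ X` and
`U ⊓ X'` differ by exactly one. -/
theorem adjacent {U X X' : Submodule F V} (hU : IsMTS Q m U) (hX : IsMTS Q m X)
    (hX' : IsMTS Q m X') (hd : finrank F ↥(X ⊓ X') + 1 = m) :
    finrank F ↥(U ⊓ X) = finrank F ↥(U ⊓ X') + 1 ∨
      finrank F ↥(U ⊓ X') = finrank F ↥(U ⊓ X) + 1 := by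
  have h2 := finrank_inf_orth hB hV hU (X ⊓ X')
  obtain ⟨u, hu, huH⟩ := exists_mem_not_mem (A := U ⊓ (X ⊓ X')) (C := U ⊓ orth Q (X ⊓ X'))
    (by omega)
  have h5 : orth Q (X ⊓ X') = X ⊔ X' := by
    have : orth Q (X ⊔ X') = X ⊓ X' := by
      rw [orth_sup, orth_eq_self hB hV hX, orth_eq_self hB hV hX']
    rw [← this]
    exact LinearMap.BilinForm.orthogonal_orthogonal hB (polBilin_isRefl Q) _
  rw [h5] at hu
  rcases mem_or_mem_of_singular hB hV hX hX' hd hu.2 (hU.2 u hu.1) with h | h
  · by_cases h' : u ∈ X'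
    · exact absurd ⟨hu.1, h, h'⟩ huH
    · left; exact finrank_inf_of_mem hB hV hU hX hX' hd hu.1 h h'
  · by_cases h' : u ∈ X
    · exact absurd ⟨hu.1, h', h⟩ huH
    · right
      exact finrank_inf_of_mem hB hV hU hX' hX (by rw [inf_comm]; exact hd) hu.1 h h'

/-- **Chain lemma**: if `W ≠ X` there is `W₁` adjacent to `W` and closer to `X`. -/
theorem exists_adjacent {W X : Submodule F V} (hW : IsMTS Q m W) (hX : IsMTS Q m X)
    (hne : W ≠ X) :
    ∃ W₁, IsMTS Q m W₁ ∧ finrank F ↥(W ⊓ W₁) + 1 = m ∧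
      finrank F ↥(W₁ ⊓ X) = finrank F ↥(W ⊓ X) + 1 := by
  obtain ⟨x, hxX, hxW⟩ : ∃ x ∈ X, x ∉ W := by
    by_contra h
    have hle : X ≤ W := fun x hx => by
      by_contra hxW
      exact h ⟨x, hx, hxW⟩
    exact hne (Submodule.eq_of_le_of_finrank_eq hle (by rw [hX.1, hW.1])).symm
  have hx0 : x ≠ 0 := fun h => hxW (h ▸ W.zero_mem)
  obtain ⟨K, hKdef⟩ : ∃ K, K = W ⊓ orth Q (Submodule.span F {x}) := ⟨_, rfl⟩
  have hK : finrank F K + 1 = m := by
    have := finrank_inf_orth hB hV hW (Submodule.span F {x})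
    rw [finrank_span_singleton hx0, (Submodule.disjoint_span_singleton_of_notMem hxW).eq_bot,
      finrank_bot, ← hKdef] at this
    omega
  have hxK : x ∉ K := fun h => hxW (hKdef ▸ h).1
  have hperp : ∀ k ∈ K, QuadraticMap.polar Q k x = 0 := by
    intro k hk
    rw [hKdef] at hk
    have := hk.2 x (Submodule.mem_span_singleton_self x)
    rw [QuadraticMap.polar_comm]; exact this
  have hKW : K ≤ W := hKdef ▸ inf_le_left
  have hMTS : IsMTS Q m (K ⊔ Submodule.span F {x}) := by
    refine ⟨?_, ?_⟩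
    · rw [finrank_sup_span_singleton K hxK, hK]
    · intro w hw
      obtain ⟨k, hk, c, hc, rfl⟩ := Submodule.mem_sup.1 hw
      obtain ⟨a, rfl⟩ := Submodule.mem_span_singleton.1 hc
      rw [QuadraticMap.map_add Q, hW.2 k (hKW hk), QuadraticMap.map_smul, hX.2 x hxX,
        QuadraticMap.polar_smul_right, hperp k hk]
      simp
  have hxW1 : x ∈ K ⊔ Submodule.span F {x} :=
    Submodule.mem_sup_right (Submodule.mem_span_singleton_self x)
  have hadj : finrank F ↥(W ⊓ (K ⊔ Submodule.span F {x})) + 1 = m := by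
    have h1 : finrank F K ≤ finrank F ↥(W ⊓ (K ⊔ Submodule.span F {x})) :=
      Submodule.finrank_mono (le_inf hKW le_sup_left)
    have h2 : finrank F ↥(W ⊓ (K ⊔ Submodule.span F {x})) <
        finrank F ↥(K ⊔ Submodule.span F {x}) := by
      apply Submodule.finrank_lt_finrank_of_lt
      refine lt_of_le_of_ne inf_le_right (fun h => hxW ?_)
      have : x ∈ W ⊓ (K ⊔ Submodule.span F {x}) := by rw [h]; exact hxW1
      exact this.1
    rw [hMTS.1] at h2
    omega
  refine ⟨K ⊔ Submodule.span F {x}, hMTS, hadj, ?_⟩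
  have h3 : finrank F ↥(W ⊓ X) + 1 ≤ finrank F ↥((K ⊔ Submodule.span F {x}) ⊓ X) := by
    rw [← finrank_sup_span_singleton (W ⊓ X) (fun h => hxW h.1)]
    apply Submodule.finrank_mono
    apply sup_le
    · intro w hw
      refine ⟨Submodule.mem_sup_left ?_, hw.2⟩
      rw [hKdef]
      refine ⟨hw.1, ?_⟩
      intro y hy
      obtain ⟨a, rfl⟩ := Submodule.mem_span_singleton.1 hy
      change QuadraticMap.polar Q (a • x) w = 0
      rw [QuadraticMap.polar_smul_left, polar_eq_zero_of_ts hX.2 hxX hw.2]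
      simp
    · rw [Submodule.span_singleton_le_iff_mem]; exact ⟨hxW1, hxX⟩
  have h4 := adjacent hB hV hX hW hMTS hadj
  rw [inf_comm X W, inf_comm X] at h4
  omega

omit hB hV in
theorem finrank_inf_le {U W : Submodule F V} (hU : IsMTS Q m U) :
    finrank F ↥(U ⊓ W) ≤ m := by
  have := Submodule.finrank_mono (inf_le_left : U ⊓ W ≤ U)
  rw [hU.1] at this; exact this

theorem parity_aux {U X : Submodule F V} (hU : IsMTS Q m U) (hX : IsMTS Q m X) :
    ∀ n : ℕ, ∀ W : Submodule F V, IsMTS Q m W → m - finrank F ↥(W ⊓ X) = n →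
      Even ((m - finrank F ↥(U ⊓ W)) + (m - finrank F ↥(W ⊓ X)) + (m - finrank F ↥(U ⊓ X))) := by
  intro n
  induction n using Nat.strong_induction_on with
  | _ n ih =>
    intro W hW hn
    by_cases hWX : W = X
    · subst hWX
      rw [inf_idem, hW.1, Nat.even_iff]
      omega
    · obtain ⟨W₁, hW₁, hd, hinc⟩ := exists_adjacent hB hV hW hX hWX
      have hle0 := finrank_inf_le (W := X) hW₁
      have h1 := ih (m - finrank F ↥(W₁ ⊓ X)) (by omega) W₁ hW₁ rfl
      have h2 := adjacent hB hV hU hW hW₁ hd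
      have hle1 := finrank_inf_le (W := W) hU
      have hle2 := finrank_inf_le (W := W₁) hU
      have hle3 := finrank_inf_le (W := X) hU
      have hle4 := finrank_inf_le (W := X) hW
      rw [Nat.even_iff] at h1 ⊢
      omega

/-- **Parity theorem** (two families). -/
theorem parity {U W X : Submodule F V} (hU : IsMTS Q m U) (hW : IsMTS Q m W)
    (hX : IsMTS Q m X) :
    Even ((m - finrank F ↥(U ⊓ W)) + (m - finrank F ↥(W ⊓ X)) + (m - finrank F ↥(U ⊓ X))) :=
  parity_aux hB hV hU hX _ W hW rfl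

end main

end Cfsg.Agent.Helper8.MaxSingular
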