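import Mathlib
import Cfsg.Agent.Helper8.Reflections

/-!
# Generation of orthogonal groups by reflections in characteristic two (helper8)

Geometric lemmas.
-/

set_option autoImplicit false

namespace Cfsg.Agent.Helper8.ReflChar2

open Module Cfsg.Agent.Helper8.QuadForm Cfsg.Agent.Helper8.WittQuad Cfsg.Agent.Helper8.OrthOrder
  Cfsg.Agent.Helper8.Reflections

variable {F : Type*} [Field F] {V : Type*} [AddCommGroup V] [Module F V]

/-! ### Characteristic two basics -/

theorem neg_eq_self (h2 : (2 : F) = 0) (x : V) : -x = x := by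
  have h : x + x = 0 := by
    rw [← two_smul F x, h2, zero_smul]
  exact neg_eq_of_add_eq_zero_left h

theorem sub_eq_add' (h2 : (2 : F) = 0) (x y : V) : x - y = x + y := by
  rw [sub_eq_add_neg, neg_eq_self h2]

theorem polar_self_eq_zero (h2 : (2 : F) = 0) (Q : QuadraticForm F V) (x : V) :
    QuadraticMap.polar Q x x = 0 := by
  rw [polar_self', h2, zero_mul]

theorem neg_eq_self_field (h2 : (2 : F) = 0) (a : F) : -a = a := by
  have h : a + a = 0 := by rw [← two_mul, h2, zero_mul]
  exact neg_eq_of_add_eq_zero_left h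

/-- `Q (x + y) = Q x + Q y + B (x, y)`, and in characteristic two `Q (x - y)` is the same. -/
theorem Q_sub (h2 : (2 : F) = 0) (Q : QuadraticForm F V) (x y : V) :
    Q (x - y) = Q x + Q y + QuadraticMap.polar Q x y := by
  rw [sub_eq_add' h2, QuadraticMap.map_add Q]

/-! ### Dual vectors -/

/-- two independent vectors have a common "dual" vector. -/
theorem exists_dual_pair (Q : QuadraticForm F V) (hQ : Nondeg Q) {u w : V} (hu : u ≠ 0)
    (hw : ∀ c : F, w - c • u ≠ 0) :
    ∃ y, QuadraticMap.polar Q u y = 1 ∧ QuadraticMap.polar Q w y = 1 := by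
  obtain ⟨a, ha⟩ : ∃ a, QuadraticMap.polar Q u a = 1 := by
    have : ¬ ∀ a, QuadraticMap.polar Q u a = 0 := fun h => hu (hQ u h)
    rw [not_forall] at this
    obtain ⟨a, ha⟩ := this
    refine ⟨(QuadraticMap.polar Q u a)⁻¹ • a, ?_⟩
    rw [QuadraticMap.polar_smul_right, smul_eq_mul, inv_mul_cancel₀ ha]
  obtain ⟨c, hc⟩ : ∃ c, c = QuadraticMap.polar Q w a := ⟨_, rfl⟩
  obtain ⟨b, hb⟩ : ∃ b, QuadraticMap.polar Q (w - c • u) b = 1 := by
    have : ¬ ∀ b, QuadraticMap.polar Q (w - c • u) b = 0 := fun h => hw c (hQ _ h)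
    rw [not_forall] at this
    obtain ⟨b, hb⟩ := this
    refine ⟨(QuadraticMap.polar Q (w - c • u) b)⁻¹ • b, ?_⟩
    rw [QuadraticMap.polar_smul_right, smul_eq_mul, inv_mul_cancel₀ hb]
  rw [QuadraticMap.polar_sub_left, QuadraticMap.polar_smul_left, smul_eq_mul] at hb
  obtain ⟨d, hd⟩ : ∃ d, d = QuadraticMap.polar Q u b := ⟨_, rfl⟩
  obtain ⟨e, he⟩ : ∃ e, e = QuadraticMap.polar Q w b := ⟨_, rfl⟩
  rw [← hd, ← he] at hb
  refine ⟨(1 - (1 - c) * d) • a + (1 - c) • b, ?_, ?_⟩
  · rw [QuadraticMap.polar_add_right, QuadraticMap.polar_smul_right, QuadraticMap.polar_smul_right,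
      ha, ← hd]
    simp only [smul_eq_mul]
    ring
  · rw [QuadraticMap.polar_add_right, QuadraticMap.polar_smul_right, QuadraticMap.polar_smul_right,
      ← hc, ← he]
    simp only [smul_eq_mul]
    linear_combination (1 - c) * hb

/-! ### The key existence lemma -/

theorem finrank_span_pair [FiniteDimensional F V] {u w : V} (hu : u ≠ 0)
    (hw : ∀ c : F, w - c • u ≠ 0) :
    finrank F ↥(Submodule.span F {u} ⊔ Submodule.span F {w}) = 2 := by
  have hw' : w ∉ Submodule.span F {u} := by
    intro h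
    obtain ⟨c, hc⟩ := Submodule.mem_span_singleton.1 h
    exact hw c (by rw [hc, sub_self])
  have h1 := Submodule.finrank_sup_add_finrank_inf_eq (Submodule.span F {u}) (Submodule.span F {w})
  have hw0 : w ≠ 0 := fun h => hw' (h ▸ Submodule.zero_mem _)
  have h2 : Submodule.span F {u} ⊓ Submodule.span F {w} = ⊥ :=
    (Submodule.disjoint_span_singleton_of_notMem hw').eq_bot
  rw [h2, finrank_bot, finrank_span_singleton hu, finrank_span_singleton hw0] at h1
  omega

/-- Exceptional configurations are excluded by any of three hypotheses. -/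
theorem exists_good [FiniteDimensional F V] (h2 : (2 : F) = 0) (Q : QuadraticForm F V)
    (hQ : Nondeg Q) {u w : V} (hu : Q u ≠ 0) (hw : Q w = Q u)
    (huw : QuadraticMap.polar Q u w = 0) (hne : u ≠ w)
    (hexc : (∃ a b : F, a ≠ 0 ∧ b ≠ 0 ∧ a ≠ b) ∨ finrank F V ≠ 4 ∨
      ¬ ∃ T : Submodule F V, finrank F T = 2 ∧ ∀ t ∈ T, Q t = 0) :
    ∃ x, Q x ≠ 0 ∧ QuadraticMap.polar Q u x ≠ 0 ∧ QuadraticMap.polar Q w x ≠ 0 := by
  have hu0 : u ≠ 0 := fun h => hu (by rw [h, map_zero])
  have hwu : ∀ c : F, w - c • u ≠ 0 := by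
    intro c hc
    have hwc : w = c • u := sub_eq_zero.1 hc
    have h1 : Q w = c * c * Q u := by rw [hwc, QuadraticMap.map_smul, smul_eq_mul]
    rw [hw] at h1
    have h3 : (c * c - 1) * Q u = 0 := by linear_combination -h1
    have h4 : c * c - 1 = 0 := by
      rcases mul_eq_zero.1 h3 with h | h
      · exact h
      · exact absurd h hu
    have h5 : (c - 1) * (c - 1) = 0 := by linear_combination h4 + (1 - c) * h2
    have h6 : c = 1 := by
      rcases mul_eq_zero.1 h5 with h | h <;> exact sub_eq_zero.1 h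
    rw [h6, one_smul] at hwc
    exact hne hwc.symm
  obtain ⟨y₀, hy1, hy2⟩ := exists_dual_pair Q hQ hu0 hwu
  have hy1' : QuadraticMap.polar Q y₀ u = 1 := by rw [QuadraticMap.polar_comm]; exact hy1
  have hy2' : QuadraticMap.polar Q y₀ w = 1 := by rw [QuadraticMap.polar_comm]; exact hy2
  by_cases hy0 : Q y₀ ≠ 0
  · exact ⟨y₀, hy0, by rw [hy1]; exact one_ne_zero, by rw [hy2]; exact one_ne_zero⟩
  rw [not_not] at hy0
  have huu := polar_self_eq_zero h2 Q u
  have hwu' : QuadraticMap.polar Q w u = 0 := by rw [QuadraticMap.polar_comm]; exact huw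
  rcases hexc with ⟨a, b, ha, hb, hab⟩ | hdim | hT
  · -- a scalar `l` with `l ≠ 0` and `l * Q u + 1 ≠ 0`
    obtain ⟨l, hl0, hl1⟩ : ∃ l : F, l ≠ 0 ∧ l * Q u + 1 ≠ 0 := by
      by_cases h : a * Q u + 1 = 0
      · refine ⟨b, hb, fun h' => hab ?_⟩
        have h3 : (a - b) * Q u = 0 := by linear_combination h - h'
        rcases mul_eq_zero.1 h3 with h4 | h4
        · exact sub_eq_zero.1 h4
        · exact absurd h4 hu
      · exact ⟨a, ha, h⟩
    refine ⟨y₀ + l • u, ?_, ?_, ?_⟩
    · rw [QuadraticMap.map_add Q, hy0, QuadraticMap.map_smul, QuadraticMap.polar_smul_right, hy1']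
      have : 0 + (l * l) • Q u + l • (1 : F) = l * (l * Q u + 1) := by
        rw [smul_eq_mul, smul_eq_mul]; ring
      rw [this]
      exact mul_ne_zero hl0 hl1
    · rw [QuadraticMap.polar_add_right, QuadraticMap.polar_smul_right, hy1, huu, smul_zero,
        add_zero]
      exact one_ne_zero
    · rw [QuadraticMap.polar_add_right, QuadraticMap.polar_smul_right, hy2, hwu', smul_zero,
        add_zero]
      exact one_ne_zero
  · -- large dimension: vectors `z, z'` orthogonal to `u, w` with `B (z, z') ≠ 0`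
    obtain ⟨S, hS⟩ : ∃ S, S = Submodule.span F {u} ⊔ Submodule.span F {w} := ⟨_, rfl⟩
    have hSdim : finrank F S = 2 := by rw [hS]; exact finrank_span_pair hu0 hwu
    have hnd := (nondeg_iff Q).2 hQ
    have hmemL : ∀ x, x ∈ LinearMap.BilinForm.orthogonal (QuadraticMap.polarBilin Q) S ↔
        (QuadraticMap.polar Q u x = 0 ∧ QuadraticMap.polar Q w x = 0) := by
      intro x
      rw [LinearMap.BilinForm.mem_orthogonal_iff]
      constructor
      · intro h
        refine ⟨h u ?_, h w ?_⟩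
        · rw [hS]; exact Submodule.mem_sup_left (Submodule.mem_span_singleton_self u)
        · rw [hS]; exact Submodule.mem_sup_right (Submodule.mem_span_singleton_self w)
      · rintro ⟨h1, h3⟩ s hs
        rw [hS] at hs
        obtain ⟨s1, hs1, s2, hs2, rfl⟩ := Submodule.mem_sup.1 hs
        obtain ⟨c1, rfl⟩ := Submodule.mem_span_singleton.1 hs1
        obtain ⟨c2, rfl⟩ := Submodule.mem_span_singleton.1 hs2
        show QuadraticMap.polar Q (c1 • u + c2 • w) x = 0
        rw [QuadraticMap.polar_add_left, QuadraticMap.polar_smul_left,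
          QuadraticMap.polar_smul_left, h1, h3]
        simp
    have hSL : S ≤ LinearMap.BilinForm.orthogonal (QuadraticMap.polarBilin Q) S := by
      rw [hS]
      apply sup_le
      · rw [Submodule.span_singleton_le_iff_mem, ← hS, hmemL]
        exact ⟨huu, hwu'⟩
      · rw [Submodule.span_singleton_le_iff_mem, ← hS, hmemL]
        exact ⟨huw, polar_self_eq_zero h2 Q w⟩
    have hLdim := LinearMap.BilinForm.finrank_orthogonal hnd S
    have hLdim2 := LinearMap.BilinForm.finrank_orthogonal hnd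
      (LinearMap.BilinForm.orthogonal (QuadraticMap.polarBilin Q) S)
    have hSle := Submodule.finrank_mono hSL
    have hVle := Submodule.finrank_le S
    obtain ⟨z, hz, z', hz', hzz'⟩ : ∃ z ∈ LinearMap.BilinForm.orthogonal
        (QuadraticMap.polarBilin Q) S, ∃ z' ∈ LinearMap.BilinForm.orthogonal
        (QuadraticMap.polarBilin Q) S, QuadraticMap.polar Q z z' ≠ 0 := by
      by_contra hcon
      have hLL : LinearMap.BilinForm.orthogonal (QuadraticMap.polarBilin Q) S ≤
          LinearMap.BilinForm.orthogonal (QuadraticMap.polarBilin Q)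
            (LinearMap.BilinForm.orthogonal (QuadraticMap.polarBilin Q) S) := by
        intro x hx
        rw [LinearMap.BilinForm.mem_orthogonal_iff]
        intro y hy
        by_contra hne'
        exact hcon ⟨y, hy, x, hx, hne'⟩
      have := Submodule.finrank_mono hLL
      omega
    rw [hmemL] at hz hz'
    have key : ∀ t, QuadraticMap.polar Q u t = 0 → QuadraticMap.polar Q w t = 0 →
        Q (y₀ + t) ≠ 0 → ∃ x, Q x ≠ 0 ∧ QuadraticMap.polar Q u x ≠ 0 ∧
          QuadraticMap.polar Q w x ≠ 0 := by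
      intro t ht1 ht2 hQt
      refine ⟨y₀ + t, hQt, ?_, ?_⟩
      · rw [QuadraticMap.polar_add_right, hy1, ht1, add_zero]; exact one_ne_zero
      · rw [QuadraticMap.polar_add_right, hy2, ht2, add_zero]; exact one_ne_zero
    by_cases h1 : Q (y₀ + z) ≠ 0
    · exact key z hz.1 hz.2 h1
    by_cases h3 : Q (y₀ + z') ≠ 0
    · exact key z' hz'.1 hz'.2 h3
    rw [not_not] at h1 h3
    apply key (z + z')
    · rw [QuadraticMap.polar_add_right, hz.1, hz'.1, add_zero]
    · rw [QuadraticMap.polar_add_right, hz.2, hz'.2, add_zero]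
    · have e1 := QuadraticMap.map_add Q y₀ z
      have e2 := QuadraticMap.map_add Q y₀ z'
      have e3 : Q (y₀ + (z + z')) = Q y₀ + Q (z + z') + QuadraticMap.polar Q y₀ (z + z') :=
        QuadraticMap.map_add Q y₀ (z + z')
      rw [QuadraticMap.map_add Q z z', QuadraticMap.polar_add_right] at e3
      rw [h1, hy0] at e1
      rw [h3, hy0] at e2
      have : Q (y₀ + (z + z')) = QuadraticMap.polar Q z z' := by
        rw [e3, hy0]
        linear_combination -e1 - e2
      rw [this]
      exact hzz'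
  · -- no totally singular plane: contradiction
    exfalso
    apply hT
    have hQs : Q (u + w) = 0 := by
      rw [QuadraticMap.map_add Q, hw, huw, add_zero, ← two_mul, h2, zero_mul]
    have hys : QuadraticMap.polar Q y₀ (u + w) = 0 := by
      rw [QuadraticMap.polar_add_right, hy1', hy2', ← two_mul, h2, zero_mul]
    have hy00 : y₀ ≠ 0 := by
      intro h
      rw [h, QuadraticMap.polar_zero_right] at hy1
      exact zero_ne_one hy1
    have hind : ∀ c : F, (u + w) - c • y₀ ≠ 0 := by
      intro c hc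
      have hc' : u + w = c • y₀ := sub_eq_zero.1 hc
      have h1 : QuadraticMap.polar Q u (u + w) = c := by
        rw [hc', QuadraticMap.polar_smul_right, hy1, smul_eq_mul, mul_one]
      rw [QuadraticMap.polar_add_right, huu, huw, add_zero] at h1
      rw [← h1, zero_smul] at hc'
      have : w = -u := (neg_eq_of_add_eq_zero_right hc').symm
      rw [neg_eq_self h2] at this
      exact hne this.symm
    refine ⟨Submodule.span F {y₀} ⊔ Submodule.span F {u + w}, finrank_span_pair hy00 hind, ?_⟩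
    intro t ht
    obtain ⟨s1, hs1, s2, hs2, rfl⟩ := Submodule.mem_sup.1 ht
    obtain ⟨c1, rfl⟩ := Submodule.mem_span_singleton.1 hs1
    obtain ⟨c2, rfl⟩ := Submodule.mem_span_singleton.1 hs2
    rw [QuadraticMap.map_add Q, QuadraticMap.map_smul, QuadraticMap.map_smul, hy0, hQs,
      QuadraticMap.polar_smul_left, QuadraticMap.polar_smul_right, hys]
    simp

/-! ### The group of isometries supported on a subspace -/

/-- isometries preserving `W` and fixing the vectors orthogonal to `W`. -/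
def stab (Q : QuadraticForm F V) (W : Submodule F V) : Subgroup (V ≃ₗ[F] V) where
  carrier := {g | (∀ x, Q (g x) = Q x) ∧ (∀ w, w ∈ W ↔ g w ∈ W) ∧
    (∀ x, (∀ w ∈ W, QuadraticMap.polar Q x w = 0) → g x = x)}
  mul_mem' := by
    rintro a b ⟨ha1, ha2, ha3⟩ ⟨hb1, hb2, hb3⟩
    refine ⟨fun x => ?_, fun w => ?_, fun x hx => ?_⟩
    · rw [LinearEquiv.mul_apply, ha1, hb1]
    · rw [LinearEquiv.mul_apply, hb2 w, ha2 (b w)]
    · rw [LinearEquiv.mul_apply, hb3 x hx, ha3 x hx]
  one_mem' := ⟨fun _ => rfl, fun _ => Iff.rfl, fun _ _ => rfl⟩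
  inv_mem' := by
    rintro a ⟨ha1, ha2, ha3⟩
    have hinv : ∀ x, a (a⁻¹ x) = x := fun x => a.apply_symm_apply x
    refine ⟨fun x => ?_, fun w => ?_, fun x hx => ?_⟩
    · rw [← ha1 (a⁻¹ x), hinv]
    · rw [ha2 (a⁻¹ w), hinv]
    · have := ha3 x hx
      calc a⁻¹ x = a⁻¹ (a x) := by rw [this]
        _ = x := a.symm_apply_apply x

theorem mem_stab (Q : QuadraticForm F V) (W : Submodule F V) (g : V ≃ₗ[F] V) :
    g ∈ stab Q W ↔ (∀ x, Q (g x) = Q x) ∧ (∀ w, w ∈ W ↔ g w ∈ W) ∧
      (∀ x, (∀ w ∈ W, QuadraticMap.polar Q x w = 0) → g x = x) := Iff.rfl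

theorem refl_mem_stab (Q : QuadraticForm F V) (W : Submodule F V) {z : V} (hz : z ∈ W) :
    refl Q z ∈ stab Q W := by
  refine ⟨Q_refl Q z, fun w => ?_, fun x hx => ?_⟩
  · constructor
    · intro hw
      rw [refl_apply]
      exact W.sub_mem hw (W.smul_mem _ hz)
    · intro hw
      have : w = refl Q z w + (QuadraticMap.polar Q z w / Q z) • z := by
        rw [refl_apply]; abel
      rw [this]
      exact W.add_mem hw (W.smul_mem _ hz)
  · apply refl_of_perp
    rw [QuadraticMap.polar_comm]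
    exact hx z hz

theorem closure_le_stab (Q : QuadraticForm F V) (W : Submodule F V) :
    Subgroup.closure (reflSet Q W) ≤ stab Q W := by
  rw [Subgroup.closure_le]
  rintro r ⟨z, hz, -, rfl⟩
  exact refl_mem_stab Q W hz

/-- relative non-exceptionality. -/
def NonExc (Q : QuadraticForm F V) (W : Submodule F V) : Prop :=
  (∃ a b : F, a ≠ 0 ∧ b ≠ 0 ∧ a ≠ b) ∨ finrank F W ≠ 4 ∨
    ¬ ∃ T : Submodule F V, T ≤ W ∧ finrank F T = 2 ∧ ∀ t ∈ T, Q t = 0

/-- relative version of `exists_good`. -/
theorem exists_good_rel [FiniteDimensional F V] (h2 : (2 : F) = 0) (Q : QuadraticForm F V)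
    {W : Submodule F V} (hnd : NondegOn Q W) (hexc : NonExc Q W) {u w : V} (huW : u ∈ W)
    (hwW : w ∈ W) (hu : Q u ≠ 0) (hw : Q w = Q u)
    (huw : QuadraticMap.polar Q u w = 0) (hne : u ≠ w) :
    ∃ x ∈ W, Q x ≠ 0 ∧ QuadraticMap.polar Q u x ≠ 0 ∧ QuadraticMap.polar Q w x ≠ 0 := by
  have hQ' : Nondeg (Q.comp W.subtype) := (nondeg_comp_subtype_iff Q W).2 hnd
  obtain ⟨x, hx1, hx2, hx3⟩ := exists_good h2 (Q.comp W.subtype) hQ'
    (u := (⟨u, huW⟩ : W)) (w := (⟨w, hwW⟩ : W)) hu hw huw
    (fun h => hne (congrArg Subtype.val h)) (by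
      rcases hexc with h | h | h
      · exact Or.inl h
      · exact Or.inr (Or.inl h)
      · refine Or.inr (Or.inr ?_)
        rintro ⟨T, hT1, hT2⟩
        apply h
        refine ⟨T.map W.subtype, ?_, ?_, ?_⟩
        · rintro _ ⟨t, -, rfl⟩
          exact t.2
        · rw [Submodule.finrank_map_subtype_eq]; exact hT1
        · rintro _ ⟨t, ht, rfl⟩
          exact hT2 t ht)
  exact ⟨x, x.2, hx1, hx2, hx3⟩

/-- **Transitivity on vectors of a given nonzero norm.** -/
theorem exists_map [FiniteDimensional F V] (h2 : (2 : F) = 0) (hsq : ∀ a : F, ∃ b, b * b = a)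
    (Q : QuadraticForm F V) {W : Submodule F V} (hnd : NondegOn Q W) (hexc : NonExc Q W)
    {u w : V} (huW : u ∈ W) (hwW : w ∈ W) (hu : Q u ≠ 0) (hw : Q w = Q u) :
    ∃ ρ ∈ Subgroup.closure (reflSet Q W), ρ u = w := by
  have hQs : ∀ a b : V, Q a = Q b → Q (a - b) = QuadraticMap.polar Q a b := by
    intro a b hab
    rw [Q_sub h2, hab, ← two_mul, h2, zero_mul, zero_add]
  by_cases h1 : Q (w - u) ≠ 0
  · exact ⟨refl Q (w - u), Subgroup.subset_closure ⟨_, W.sub_mem hwW huW, h1, rfl⟩,
      refl_sub Q hw.symm h1⟩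
  rw [not_not, hQs w u hw] at h1
  by_cases hne : u = w
  · exact ⟨1, Subgroup.one_mem _, hne⟩
  have huw : QuadraticMap.polar Q u w = 0 := by rw [QuadraticMap.polar_comm]; exact h1
  obtain ⟨x, hxW, hx1, hx2, hx3⟩ := exists_good_rel h2 Q hnd hexc huW hwW hu hw huw hne
  obtain ⟨μ, hμ⟩ := hsq (Q u / Q x)
  have hμ0 : μ ≠ 0 := by
    rintro rfl
    rw [mul_zero] at hμ
    exact div_ne_zero hu hx1 hμ.symm
  have hQx' : Q (μ • x) = Q u := by
    rw [QuadraticMap.map_smul, hμ, smul_eq_mul, div_mul_cancel₀ _ hx1]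
  have hx'W : μ • x ∈ W := W.smul_mem _ hxW
  have e1 : Q (μ • x - u) ≠ 0 := by
    rw [hQs _ _ hQx', QuadraticMap.polar_comm, QuadraticMap.polar_smul_right, smul_eq_mul]
    exact mul_ne_zero hμ0 hx2
  have e2 : Q (w - μ • x) ≠ 0 := by
    rw [hQs _ _ (hw.trans hQx'.symm), QuadraticMap.polar_smul_right, smul_eq_mul]
    exact mul_ne_zero hμ0 hx3
  refine ⟨refl Q (w - μ • x) * refl Q (μ • x - u), ?_, ?_⟩
  · exact Subgroup.mul_mem _ (Subgroup.subset_closure ⟨_, W.sub_mem hwW hx'W, e2, rfl⟩)
      (Subgroup.subset_closure ⟨_, W.sub_mem hx'W huW, e1, rfl⟩)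
  · rw [LinearEquiv.mul_apply, refl_sub Q hQx'.symm e1, refl_sub Q (hQx'.trans hw.symm) e2]

/-- **Transitivity of the stabiliser of a nonsingular `v`** on the vectors `y` with given `Q y` and
`B (v, y) ≠ 0`. -/
theorem exists_map_fix (h2 : (2 : F) = 0) (Q : QuadraticForm F V) {W : Submodule F V}
    {v y y' : V} (hvW : v ∈ W) (hyW : y ∈ W) (hy'W : y' ∈ W) (hv : Q v ≠ 0)
    (hb : QuadraticMap.polar Q v y ≠ 0)
    (hb' : QuadraticMap.polar Q v y' = QuadraticMap.polar Q v y) (hQy : Q y' = Q y) :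
    ∃ ρ ∈ Subgroup.closure (reflSet Q W), ρ v = v ∧ ρ y = y' := by
  have hvv := polar_self_eq_zero h2 Q v
  by_cases h1 : Q (y' - y) ≠ 0
  · refine ⟨refl Q (y' - y), Subgroup.subset_closure ⟨_, W.sub_mem hy'W hyW, h1, rfl⟩, ?_,
      refl_sub Q hQy.symm h1⟩
    apply refl_of_perp
    rw [QuadraticMap.polar_sub_left, QuadraticMap.polar_comm Q y' v, QuadraticMap.polar_comm Q y v,
      hb', sub_self]
  rw [not_not] at h1
  obtain ⟨b, hbdef⟩ : ∃ b, b = QuadraticMap.polar Q v y := ⟨_, rfl⟩
  rw [← hbdef] at hb hb'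
  obtain ⟨l, hl⟩ : ∃ l, l = b / Q v := ⟨_, rfl⟩
  have hl0 : l ≠ 0 := by rw [hl]; exact div_ne_zero hb hv
  have hlQ : l * Q v = b := by rw [hl, div_mul_cancel₀ _ hv]
  -- the intermediate vector
  obtain ⟨y'', hy''⟩ : ∃ y'', y'' = y + l • v := ⟨_, rfl⟩
  have hy''W : y'' ∈ W := by rw [hy'']; exact W.add_mem hyW (W.smul_mem _ hvW)
  have hQy'' : Q y'' = Q y := by
    rw [hy'', QuadraticMap.map_add Q, QuadraticMap.map_smul, QuadraticMap.polar_smul_right,
      QuadraticMap.polar_comm Q y v, ← hbdef, smul_eq_mul, smul_eq_mul]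
    have : l * l * Q v + l * b = l * (2 * b) := by rw [← hlQ]; ring
    rw [add_assoc, this, h2, zero_mul, mul_zero, add_zero]
  have hQt : Q (l • v) ≠ 0 := by
    rw [QuadraticMap.map_smul, smul_eq_mul]
    exact mul_ne_zero (mul_ne_zero hl0 hl0) hv
  have e1 : Q (y'' - y) ≠ 0 := by
    have : y'' - y = l • v := by rw [hy'']; abel
    rw [this]; exact hQt
  have e2 : Q (y' - y'') ≠ 0 := by
    have : y' - y'' = (y' - y) - l • v := by rw [hy'']; abel
    rw [this, Q_sub h2, h1, zero_add, QuadraticMap.polar_smul_right, QuadraticMap.polar_sub_left,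
      QuadraticMap.polar_comm Q y' v, QuadraticMap.polar_comm Q y v, hb', ← hbdef, sub_self,
      smul_zero, add_zero]
    exact hQt
  have p1 : QuadraticMap.polar Q (y'' - y) v = 0 := by
    have : y'' - y = l • v := by rw [hy'']; abel
    rw [this, QuadraticMap.polar_smul_left, hvv, smul_zero]
  have p2 : QuadraticMap.polar Q (y' - y'') v = 0 := by
    have : y' - y'' = (y' - y) - l • v := by rw [hy'']; abel
    rw [this, QuadraticMap.polar_sub_left, QuadraticMap.polar_smul_left, hvv, smul_zero, sub_zero,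
      QuadraticMap.polar_sub_left, QuadraticMap.polar_comm Q y' v, QuadraticMap.polar_comm Q y v,
      hb', ← hbdef, sub_self]
  refine ⟨refl Q (y' - y'') * refl Q (y'' - y), ?_, ?_, ?_⟩
  · exact Subgroup.mul_mem _ (Subgroup.subset_closure ⟨_, W.sub_mem hy'W hy''W, e2, rfl⟩)
      (Subgroup.subset_closure ⟨_, W.sub_mem hy''W hyW, e1, rfl⟩)
  · rw [LinearEquiv.mul_apply, refl_of_perp Q p1, refl_of_perp Q p2]
  · rw [LinearEquiv.mul_apply, refl_sub Q hQy''.symm e1, refl_sub Q (hQy''.trans hQy.symm) e2]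

/-! ### Descending to the orthogonal complement of a plane -/

/-- the orthogonal complement of the plane spanned by `v` and `y`. -/
def perp2 (Q : QuadraticForm F V) (v y : V) : Submodule F V := perpVec Q v ⊓ perpVec Q y

theorem mem_perp2 (Q : QuadraticForm F V) (v y x : V) :
    x ∈ perp2 Q v y ↔ QuadraticMap.polar Q v x = 0 ∧ QuadraticMap.polar Q y x = 0 := by
  unfold perp2
  rw [Submodule.mem_inf, mem_perpVec, mem_perpVec]

section descend

variable (h2 : (2 : F) = 0) (Q : QuadraticForm F V) {W : Submodule F V} {v y : V}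
  (hvW : v ∈ W) (hyW : y ∈ W) (hvy : QuadraticMap.polar Q v y = 1)

include h2 hvy in
/-- `x - (B (x, y) v + B (x, v) y)` is orthogonal to `v` and `y`. -/
theorem sub_proj_mem_perp2 (x : V) :
    x - (QuadraticMap.polar Q x y • v + QuadraticMap.polar Q x v • y) ∈ perp2 Q v y := by
  have hvv := polar_self_eq_zero h2 Q v
  have hyy := polar_self_eq_zero h2 Q y
  have hyv : QuadraticMap.polar Q y v = 1 := by rw [QuadraticMap.polar_comm]; exact hvy
  rw [mem_perp2]
  constructor
  · rw [QuadraticMap.polar_sub_right, QuadraticMap.polar_add_right, QuadraticMap.polar_smul_right,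
      QuadraticMap.polar_smul_right, hvv, hvy, QuadraticMap.polar_comm Q v x]
    simp
  · rw [QuadraticMap.polar_sub_right, QuadraticMap.polar_add_right, QuadraticMap.polar_smul_right,
      QuadraticMap.polar_smul_right, hyy, hyv, QuadraticMap.polar_comm Q y x]
    simp

include h2 hvW hyW hvy in
theorem sub_proj_mem (x : V) (hx : x ∈ W) :
    x - (QuadraticMap.polar Q x y • v + QuadraticMap.polar Q x v • y) ∈ W ⊓ perp2 Q v y :=
  ⟨W.sub_mem hx (W.add_mem (W.smul_mem _ hvW) (W.smul_mem _ hyW)), sub_proj_mem_perp2 h2 Q hvy x⟩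

include h2 hvW hyW hvy in
theorem nondegOn_perp2 (hnd : NondegOn Q W) : NondegOn Q (W ⊓ perp2 Q v y) := by
  intro x hx hxx
  apply hnd x hx.1
  intro w hw
  have h1 := hxx _ (sub_proj_mem h2 Q hvW hyW hvy w hw)
  have hx2 := (mem_perp2 Q v y x).1 hx.2
  rw [QuadraticMap.polar_sub_right, QuadraticMap.polar_add_right, QuadraticMap.polar_smul_right,
    QuadraticMap.polar_smul_right, QuadraticMap.polar_comm Q x v, QuadraticMap.polar_comm Q x y,
    hx2.1, hx2.2, smul_zero, smul_zero, add_zero, sub_zero] at h1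
  exact h1

include h2 hvW hyW hvy in
theorem finrank_perp2 [FiniteDimensional F V] :
    finrank F ↥(W ⊓ perp2 Q v y) + 2 = finrank F W := by
  have hvv := polar_self_eq_zero h2 Q v
  have hyy := polar_self_eq_zero h2 Q y
  have hyv : QuadraticMap.polar Q y v = 1 := by rw [QuadraticMap.polar_comm]; exact hvy
  have hv0 : v ≠ 0 := by
    rintro rfl
    rw [QuadraticMap.polar_zero_left] at hvy
    exact zero_ne_one hvy
  have hind : ∀ c : F, y - c • v ≠ 0 := by
    intro c hc
    have : QuadraticMap.polar Q v (y - c • v) = 1 := by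
      rw [QuadraticMap.polar_sub_right, QuadraticMap.polar_smul_right, hvy, hvv, smul_zero,
        sub_zero]
    rw [hc, QuadraticMap.polar_zero_right] at this
    exact zero_ne_one this
  have hP := finrank_span_pair hv0 hind
  have h1 := Submodule.finrank_sup_add_finrank_inf_eq
    (Submodule.span F {v} ⊔ Submodule.span F {y}) (W ⊓ perp2 Q v y)
  have hinf : (Submodule.span F {v} ⊔ Submodule.span F {y}) ⊓ (W ⊓ perp2 Q v y) = ⊥ := by
    rw [eq_bot_iff]
    rintro x ⟨hx1, -, hx2⟩
    obtain ⟨s1, hs1, s2, hs2, rfl⟩ := Submodule.mem_sup.1 hx1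
    obtain ⟨a, rfl⟩ := Submodule.mem_span_singleton.1 hs1
    obtain ⟨b, rfl⟩ := Submodule.mem_span_singleton.1 hs2
    rw [SetLike.mem_coe, mem_perp2, QuadraticMap.polar_add_right, QuadraticMap.polar_smul_right,
      QuadraticMap.polar_smul_right, hvv, hvy, QuadraticMap.polar_add_right,
      QuadraticMap.polar_smul_right, QuadraticMap.polar_smul_right, hyv, hyy] at hx2
    simp only [smul_eq_mul, mul_zero, mul_one, zero_add, add_zero] at hx2
    rw [Submodule.mem_bot, hx2.1, hx2.2, zero_smul, zero_smul, add_zero]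
  have hsup : (Submodule.span F {v} ⊔ Submodule.span F {y}) ⊔ (W ⊓ perp2 Q v y) = W := by
    apply le_antisymm
    · refine sup_le (sup_le ?_ ?_) inf_le_left
      · rw [Submodule.span_singleton_le_iff_mem]; exact hvW
      · rw [Submodule.span_singleton_le_iff_mem]; exact hyW
    · intro w hw
      have : w = (QuadraticMap.polar Q w y • v + QuadraticMap.polar Q w v • y)
          + (w - (QuadraticMap.polar Q w y • v + QuadraticMap.polar Q w v • y)) := by abel
      rw [this]
      refine Submodule.add_mem_sup ?_ (sub_proj_mem h2 Q hvW hyW hvy w hw)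
      exact Submodule.add_mem_sup (Submodule.smul_mem _ _ (Submodule.mem_span_singleton_self v))
        (Submodule.smul_mem _ _ (Submodule.mem_span_singleton_self y))
  rw [hinf, hsup, finrank_bot, hP] at h1
  omega

include h2 hvW hyW hvy in
/-- an element of `stab Q W` fixing `v` and `y` lies in `stab Q (W ⊓ perp2 Q v y)`. -/
theorem mem_stab_perp2 {g : V ≃ₗ[F] V} (hg : g ∈ stab Q W) (hgv : g v = v) (hgy : g y = y) :
    g ∈ stab Q (W ⊓ perp2 Q v y) := by
  obtain ⟨hg1, hg2, hg3⟩ := hg
  have hpolar := polar_isometry Q g hg1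
  refine ⟨hg1, fun w => ?_, fun x hx => ?_⟩
  · rw [Submodule.mem_inf, Submodule.mem_inf, mem_perp2, mem_perp2, ← hg2 w]
    have e1 : QuadraticMap.polar Q v (g w) = QuadraticMap.polar Q v w := by
      rw [← hpolar v w, hgv]
    have e2 : QuadraticMap.polar Q y (g w) = QuadraticMap.polar Q y w := by
      rw [← hpolar y w, hgy]
    rw [e1, e2]
  · obtain ⟨p, hp⟩ : ∃ p, p = QuadraticMap.polar Q x y • v + QuadraticMap.polar Q x v • y :=
      ⟨_, rfl⟩
    have hgp : g p = p := by rw [hp, map_add, map_smul, map_smul, hgv, hgy]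
    have hx' : ∀ w ∈ W, QuadraticMap.polar Q (x - p) w = 0 := by
      intro w hw
      have hxp : x - p ∈ perp2 Q v y := by rw [hp]; exact sub_proj_mem_perp2 h2 Q hvy x
      rw [mem_perp2] at hxp
      have hw' := sub_proj_mem h2 Q hvW hyW hvy w hw
      have hw'2 := (mem_perp2 Q v y _).1 hw'.2
      have h1 := hx _ hw'
      have hpw : QuadraticMap.polar Q p
          (w - (QuadraticMap.polar Q w y • v + QuadraticMap.polar Q w v • y)) = 0 := by
        rw [hp, QuadraticMap.polar_add_left, QuadraticMap.polar_smul_left,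
          QuadraticMap.polar_smul_left, hw'2.1, hw'2.2, smul_zero, smul_zero, add_zero]
      have hw_eq : w = (QuadraticMap.polar Q w y • v + QuadraticMap.polar Q w v • y)
          + (w - (QuadraticMap.polar Q w y • v + QuadraticMap.polar Q w v • y)) := by abel
      rw [hw_eq, QuadraticMap.polar_add_right, QuadraticMap.polar_add_right,
        QuadraticMap.polar_smul_right, QuadraticMap.polar_smul_right,
        QuadraticMap.polar_comm Q (x - p) v, QuadraticMap.polar_comm Q (x - p) y, hxp.1, hxp.2,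
        QuadraticMap.polar_sub_left, h1, hpw]
      simp
    have h4 := hg3 _ hx'
    rw [map_sub, hgp] at h4
    have : g x = g x - p + p := by abel
    rw [this, h4]
    abel

end descend

end Cfsg.Agent.Helper8.ReflChar2
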