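import Mathlib
import Cfsg.Agent.Helper8.ReflChar2
import Cfsg.Agent.Helper8.MaxSingular

/-!
# Generation of orthogonal groups by reflections in characteristic two (helper8)

The exchange argument, the choice of a good plane over the field of two elements, and the main
theorem.
-/

set_option autoImplicit false

namespace Cfsg.Agent.Helper8.ReflChar2

open Module Cfsg.Agent.Helper8.QuadForm Cfsg.Agent.Helper8.WittQuad Cfsg.Agent.Helper8.OrthOrder
  Cfsg.Agent.Helper8.Reflections Cfsg.Agent.Helper8.MaxSingular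

variable {F : Type*} [Field F] {V : Type*} [AddCommGroup V] [Module F V]

/-! ### The exchange argument for totally singular subspaces -/

theorem finrank_inf_orth_ge [FiniteDimensional F V] (Q : QuadraticForm F V) (hQ : Nondeg Q)
    {X : Submodule F V} (Y : Submodule F V) (hX : ∀ x ∈ X, Q x = 0) :
    finrank F X + finrank F ↥(X ⊓ Y) ≤ finrank F ↥(X ⊓ orth Q Y) + finrank F Y := by
  have hB := (nondeg_iff Q).2 hQ
  have hXo : X ≤ orth Q X := le_orth_of_ts hX
  have h1 : X ⊓ orth Q Y = orth Q (orth Q X ⊔ Y) := by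
    rw [orth_sup]
    congr 1
    exact (LinearMap.BilinForm.orthogonal_orthogonal hB (polBilin_isRefl Q) X).symm
  rw [h1, LinearMap.BilinForm.finrank_orthogonal hB]
  have h2 := Submodule.finrank_sup_add_finrank_inf_eq (orth Q X) Y
  have h3 : finrank F ↥(orth Q X) = finrank F V - finrank F X :=
    LinearMap.BilinForm.finrank_orthogonal hB X
  have h4 : finrank F ↥(X ⊓ Y) ≤ finrank F ↥(orth Q X ⊓ Y) :=
    Submodule.finrank_mono (inf_le_inf_right Y hXo)
  have h5 := Submodule.finrank_le (orth Q X ⊔ Y)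
  have h6 := Submodule.finrank_le X
  omega

/-- **Exchange argument**: if `Y` is totally singular, `M ⊥ Y` and `Y ⊕ M` fills `Y^⊥`, then a
totally singular `X` yields a totally singular subspace of `M` of dimension at least
`dim X - dim Y`. -/
theorem exists_ts_in_complement [FiniteDimensional F V] (Q : QuadraticForm F V) (hQ : Nondeg Q)
    {X Y M : Submodule F V} (hX : ∀ x ∈ X, Q x = 0) (hY : ∀ x ∈ Y, Q x = 0)
    (hM : M ≤ orth Q Y) (hdim : finrank F V ≤ 2 * finrank F Y + finrank F M) :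
    ∃ K : Submodule F V, K ≤ M ∧ (∀ x ∈ K, Q x = 0) ∧
      finrank F X ≤ finrank F K + finrank F Y := by
  have hB := (nondeg_iff Q).2 hQ
  have hYo : Y ≤ orth Q Y := le_orth_of_ts hY
  obtain ⟨X', hX'⟩ : ∃ X', X' = (X ⊓ orth Q Y) ⊔ Y := ⟨_, rfl⟩
  have hX'ts : ∀ x ∈ X', Q x = 0 := by
    intro a ha
    rw [hX'] at ha
    obtain ⟨z, hz, y, hy, rfl⟩ := Submodule.mem_sup.1 ha
    have e2 : QuadraticMap.polar Q y z = 0 := (mem_orth Q Y z).1 hz.2 y hy
    rw [QuadraticMap.map_add Q, hX z hz.1, hY y hy, QuadraticMap.polar_comm, e2]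
    simp
  have hX'dim : finrank F X ≤ finrank F X' := by
    have h1 := Submodule.finrank_sup_add_finrank_inf_eq (X ⊓ orth Q Y) Y
    have h2 : (X ⊓ orth Q Y) ⊓ Y = X ⊓ Y := by
      rw [inf_assoc, inf_eq_right.2 hYo]
    have h3 := finrank_inf_orth_ge Q hQ Y hX
    rw [h2, ← hX'] at h1
    omega
  have hX'le : X' ≤ orth Q Y := by
    rw [hX']
    exact sup_le inf_le_right hYo
  refine ⟨X' ⊓ M, inf_le_right, fun x hx => hX'ts x hx.1, ?_⟩
  have h4 := Submodule.finrank_sup_add_finrank_inf_eq X' M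
  have h5 : finrank F ↥(X' ⊔ M) ≤ finrank F ↥(orth Q Y) :=
    Submodule.finrank_mono (sup_le hX'le hM)
  rw [LinearMap.BilinForm.finrank_orthogonal hB] at h5
  have h6 := Submodule.finrank_le Y
  omega

/-! ### A good plane in dimension six over the field of two elements -/

theorem exists_good_plane [Finite F] [FiniteDimensional F V] (h2 : (2 : F) = 0)
    (hF₂ : ∀ a : F, a = 0 ∨ a = 1) (Q : QuadraticForm F V) (hQ : Nondeg Q)
    (hdim : finrank F V = 6) :
    ∃ v y, Q v ≠ 0 ∧ QuadraticMap.polar Q v y = 1 ∧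
      ¬ ∃ T : Submodule F V, T ≤ perp2 Q v y ∧ finrank F T = 2 ∧ ∀ t ∈ T, Q t = 0 := by
  obtain ⟨e, he0, he⟩ := exists_singular Q (by omega)
  obtain ⟨f, hf, hef⟩ := exists_hyperbolic_pair Q hQ he0 he
  have hfe : QuadraticMap.polar Q f e = 1 := by rw [QuadraticMap.polar_comm]; exact hef
  have hee := polar_self_eq_zero h2 Q e
  have hff := polar_self_eq_zero h2 Q f
  have hQv : Q (e + f) = 1 := by rw [QuadraticMap.map_add Q, he, hf, hef]; ring
  by_cases h3 : ∃ X : Submodule F V, finrank F X = 3 ∧ ∀ x ∈ X, Q x = 0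
  · obtain ⟨X, hXdim, hX⟩ := h3
    have hnd4 := perpPair_nondeg Q hQ he hf hef
    have hfr4 := finrank_perpPair Q he hf hef
    obtain ⟨s, hs⟩ := exists_repr (Q.comp (perpPair Q e f).subtype)
      ((nondeg_comp_subtype_iff Q _).2 hnd4) (by omega) 1
    have hs12 := (mem_perpPair Q e f s).1 s.2
    have hQs : Q (s : V) = 1 := hs
    have hQy : Q (e + (s : V)) = 1 := by
      rw [QuadraticMap.map_add Q, he, hQs, hs12.1]; ring
    have hvy : QuadraticMap.polar Q (e + f) (e + (s : V)) = 1 := by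
      rw [QuadraticMap.polar_add_left, QuadraticMap.polar_add_right, QuadraticMap.polar_add_right,
        hee, hs12.1, hfe, hs12.2]
      ring
    refine ⟨e + f, e + (s : V), by rw [hQv]; exact one_ne_zero, hvy, ?_⟩
    rintro ⟨T, hT1, hT2, hT3⟩
    have hv0 : e + f ≠ 0 := by
      intro h
      rw [h, map_zero] at hQv
      exact zero_ne_one hQv
    have hind : ∀ c : F, (e + (s : V)) - c • (e + f) ≠ 0 := by
      intro c hc
      have : QuadraticMap.polar Q (e + f) ((e + (s : V)) - c • (e + f)) = 1 := by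
        rw [QuadraticMap.polar_sub_right, QuadraticMap.polar_smul_right, hvy,
          polar_self_eq_zero h2 Q (e + f), smul_zero, sub_zero]
      rw [hc, QuadraticMap.polar_zero_right] at this
      exact zero_ne_one this
    have hMdim := finrank_span_pair hv0 hind
    have hM : Submodule.span F {e + f} ⊔ Submodule.span F {e + (s : V)} ≤ orth Q T := by
      intro m hm
      obtain ⟨s1, hs1, s2, hs2, rfl⟩ := Submodule.mem_sup.1 hm
      obtain ⟨a, rfl⟩ := Submodule.mem_span_singleton.1 hs1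
      obtain ⟨b, rfl⟩ := Submodule.mem_span_singleton.1 hs2
      rw [mem_orth]
      intro t ht
      have ht' := (mem_perp2 Q _ _ t).1 (hT1 ht)
      rw [QuadraticMap.polar_add_right, QuadraticMap.polar_smul_right,
        QuadraticMap.polar_smul_right, QuadraticMap.polar_comm Q t (e + f),
        QuadraticMap.polar_comm Q t (e + (s : V)), ht'.1, ht'.2]
      simp
    obtain ⟨K, hKM, hKts, hKdim⟩ := exists_ts_in_complement Q hQ hX hT3 hM
      (by rw [hdim, hT2, hMdim])
    have hK1 : 0 < finrank F K := by omega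
    obtain ⟨p, hp0⟩ := Module.finrank_pos_iff_exists_ne_zero.1 hK1
    have hpM := hKM p.2
    obtain ⟨s1, hs1, s2, hs2, hpeq⟩ := Submodule.mem_sup.1 hpM
    obtain ⟨a, rfl⟩ := Submodule.mem_span_singleton.1 hs1
    obtain ⟨b, rfl⟩ := Submodule.mem_span_singleton.1 hs2
    have hQp := hKts p p.2
    rw [← hpeq, QuadraticMap.map_add Q, QuadraticMap.map_smul, QuadraticMap.map_smul, hQv, hQy,
      QuadraticMap.polar_smul_left, QuadraticMap.polar_smul_right, hvy] at hQp
    simp only [smul_eq_mul, mul_one] at hQp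
    have hp0' : (p : V) ≠ 0 := fun h => hp0 (Subtype.ext h)
    rcases hF₂ a with rfl | rfl <;> rcases hF₂ b with rfl | rfl
    · apply hp0'
      rw [← hpeq, zero_smul, zero_smul, add_zero]
    · simp at hQp
    · simp at hQp
    · have : (1 : F) = 0 := by linear_combination hQp - h2
      exact one_ne_zero this
  · refine ⟨e + f, e, by rw [hQv]; exact one_ne_zero, ?_, ?_⟩
    · rw [QuadraticMap.polar_add_left, hee, hfe, zero_add]
    · rintro ⟨T, hT1, hT2, hT3⟩
      apply h3
      have heT : e ∉ T := by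
        intro h
        have := ((mem_perp2 Q _ _ e).1 (hT1 h)).1
        rw [QuadraticMap.polar_add_left, hee, hfe, zero_add] at this
        exact one_ne_zero this
      refine ⟨T ⊔ Submodule.span F {e}, ?_, ?_⟩
      · rw [finrank_sup_span_singleton T heT, hT2]
      · intro x hx
        obtain ⟨t, ht, s2, hs2, rfl⟩ := Submodule.mem_sup.1 hx
        obtain ⟨c, rfl⟩ := Submodule.mem_span_singleton.1 hs2
        have ht' := ((mem_perp2 Q _ _ t).1 (hT1 ht)).2
        rw [QuadraticMap.map_add Q, hT3 t ht, QuadraticMap.map_smul, he,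
          QuadraticMap.polar_smul_right, QuadraticMap.polar_comm, ht']
        simp

/-! ### Choosing the plane -/

theorem exists_choice [Finite F] [FiniteDimensional F V] (h2 : (2 : F) = 0)
    (Q : QuadraticForm F V) {W : Submodule F V} (hnd : NondegOn Q W) (hexc : NonExc Q W)
    (hex : ∃ v ∈ W, Q v ≠ 0) :
    ∃ v ∈ W, ∃ y ∈ W, Q v ≠ 0 ∧ QuadraticMap.polar Q v y = 1 ∧ NonExc Q (W ⊓ perp2 Q v y) := by
  -- a generic choice
  have hgen : ∃ v ∈ W, ∃ y ∈ W, Q v ≠ 0 ∧ QuadraticMap.polar Q v y = 1 := by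
    obtain ⟨v, hvW, hQv⟩ := hex
    have hv0 : v ≠ 0 := fun h => hQv (by rw [h, map_zero])
    have : ¬ ∀ y ∈ W, QuadraticMap.polar Q v y = 0 := fun h => hv0 (hnd v hvW h)
    rw [not_forall] at this
    obtain ⟨y₀, hy₀⟩ := this
    rw [Classical.not_imp] at hy₀
    refine ⟨v, hvW, (QuadraticMap.polar Q v y₀)⁻¹ • y₀, W.smul_mem _ hy₀.1, hQv, ?_⟩
    rw [QuadraticMap.polar_smul_right, smul_eq_mul, inv_mul_cancel₀ hy₀.2]
  by_cases hF : ∃ a b : F, a ≠ 0 ∧ b ≠ 0 ∧ a ≠ b
  · obtain ⟨v, hvW, y, hyW, hQv, hvy⟩ := hgen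
    exact ⟨v, hvW, y, hyW, hQv, hvy, Or.inl hF⟩
  by_cases h6 : finrank F W = 6
  · have hF₂ : ∀ a : F, a = 0 ∨ a = 1 := by
      intro a
      by_contra hcon
      rw [not_or] at hcon
      exact hF ⟨a, 1, hcon.1, one_ne_zero, hcon.2⟩
    have hQ' : Nondeg (Q.comp W.subtype) := (nondeg_comp_subtype_iff Q W).2 hnd
    obtain ⟨v, y, hQv, hvy, hT⟩ := exists_good_plane h2 hF₂ (Q.comp W.subtype) hQ' h6
    refine ⟨v, v.2, y, y.2, hQv, hvy, Or.inr (Or.inr ?_)⟩
    rintro ⟨T, hT1, hT2, hT3⟩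
    apply hT
    refine ⟨T.comap W.subtype, ?_, ?_, ?_⟩
    · intro t ht
      have ht' : (t : V) ∈ T := ht
      have := (mem_perp2 Q _ _ _).1 (hT1 ht').2
      rw [mem_perp2]
      exact this
    · have h1 : (T.comap W.subtype).map W.subtype = T := by
        rw [Submodule.map_comap_subtype]
        exact inf_eq_right.2 (le_trans hT1 inf_le_left)
      rw [← Submodule.finrank_map_subtype_eq, h1, hT2]
    · intro t ht
      exact hT3 t ht
  · obtain ⟨v, hvW, y, hyW, hQv, hvy⟩ := hgen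
    refine ⟨v, hvW, y, hyW, hQv, hvy, Or.inr (Or.inl ?_)⟩
    have := finrank_perp2 h2 Q hvW hyW hvy
    omega

/-! ### Main theorem -/

/-- **Generation by reflections in characteristic two**, relative to a nondegenerate,
non-exceptional subspace `W`. -/
theorem stab_le_closure [Finite F] [FiniteDimensional F V] (h2 : (2 : F) = 0)
    (hsq : ∀ a : F, ∃ b, b * b = a) (Q : QuadraticForm F V) (n : ℕ) :
    ∀ W : Submodule F V, finrank F W ≤ n → NondegOn Q W → NonExc Q W →
      stab Q W ≤ Subgroup.closure (reflSet Q W) := by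
  induction n with
  | zero =>
    intro W hW _ _ g hg
    have hW0 : W = ⊥ := by
      apply Submodule.finrank_eq_zero.mp
      omega
    have : g = 1 := by
      apply LinearEquiv.ext
      intro x
      apply hg.2.2
      intro w hw
      rw [hW0, Submodule.mem_bot] at hw
      rw [hw, QuadraticMap.polar_zero_right]
    rw [this]
    exact Subgroup.one_mem _
  | succ n ih =>
    intro W hW hnd hexc g hg
    by_cases hex : ∃ v ∈ W, Q v ≠ 0
    swap
    · push Not at hex
      have hW0 : ∀ w ∈ W, w = 0 := by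
        intro w hw
        apply hnd w hw
        intro w' hw'
        unfold QuadraticMap.polar
        rw [hex _ (W.add_mem hw hw'), hex w hw, hex w' hw']
        ring
      have : g = 1 := by
        apply LinearEquiv.ext
        intro x
        apply hg.2.2
        intro w hw
        rw [hW0 w hw, QuadraticMap.polar_zero_right]
      rw [this]
      exact Subgroup.one_mem _
    obtain ⟨v, hvW, y, hyW, hQv, hvy, hexc'⟩ := exists_choice h2 Q hnd hexc hex
    -- step 1: move `g v` back to `v`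
    obtain ⟨ρ₁, hρ₁, hρ₁v⟩ := exists_map h2 hsq Q hnd hexc hvW ((hg.2.1 v).1 hvW) hQv (hg.1 v)
    have hρ₁s := closure_le_stab Q W hρ₁
    obtain ⟨g₁, hg₁def⟩ : ∃ g₁, g₁ = ρ₁⁻¹ * g := ⟨_, rfl⟩
    have hg₁ : g₁ ∈ stab Q W := by
      rw [hg₁def]; exact Subgroup.mul_mem _ (Subgroup.inv_mem _ hρ₁s) hg
    have hg₁v : g₁ v = v := by
      rw [hg₁def, LinearEquiv.mul_apply, ← hρ₁v]
      exact ρ₁.symm_apply_apply v
    have hpolar₁ := polar_isometry Q g₁ hg₁.1
    -- step 2: move `g₁ y` back to `y` fixing `v`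
    obtain ⟨ρ₂, hρ₂, hρ₂v, hρ₂y⟩ := exists_map_fix h2 Q hvW hyW ((hg₁.2.1 y).1 hyW) hQv
      (by rw [hvy]; exact one_ne_zero)
      (by rw [← hpolar₁ v y, hg₁v]) (hg₁.1 y)
    have hρ₂s := closure_le_stab Q W hρ₂
    obtain ⟨g₂, hg₂def⟩ : ∃ g₂, g₂ = ρ₂⁻¹ * g₁ := ⟨_, rfl⟩
    have hg₂ : g₂ ∈ stab Q W := by
      rw [hg₂def]; exact Subgroup.mul_mem _ (Subgroup.inv_mem _ hρ₂s) hg₁
    have hg₂v : g₂ v = v := by
      rw [hg₂def, LinearEquiv.mul_apply, hg₁v]
      calc ρ₂⁻¹ v = ρ₂⁻¹ (ρ₂ v) := by rw [hρ₂v]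
        _ = v := ρ₂.symm_apply_apply v
    have hg₂y : g₂ y = y := by
      rw [hg₂def, LinearEquiv.mul_apply, ← hρ₂y]
      exact ρ₂.symm_apply_apply y
    have hg₂' := mem_stab_perp2 h2 Q hvW hyW hvy hg₂ hg₂v hg₂y
    have hdim' := finrank_perp2 h2 Q hvW hyW hvy
    have hmem := ih (W ⊓ perp2 Q v y) (by omega) (nondegOn_perp2 h2 Q hvW hyW hvy hnd) hexc' hg₂'
    have hmem' : g₂ ∈ Subgroup.closure (reflSet Q W) :=
      Subgroup.closure_mono (reflSet_mono Q inf_le_left) hmem
    have hgeq : g = ρ₁ * (ρ₂ * g₂) := by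
      rw [hg₂def, hg₁def, mul_inv_cancel_left, mul_inv_cancel_left]
    rw [hgeq]
    exact Subgroup.mul_mem _ hρ₁ (Subgroup.mul_mem _ hρ₂ hmem')

/-- **Generation by reflections in characteristic two.** -/
theorem mem_closure_refl_char2 [Finite F] [FiniteDimensional F V] (h2 : (2 : F) = 0)
    (hsq : ∀ a : F, ∃ b, b * b = a) (Q : QuadraticForm F V) (hQ : Nondeg Q)
    (hexc : (∃ a b : F, a ≠ 0 ∧ b ≠ 0 ∧ a ≠ b) ∨ finrank F V ≠ 4)
    (g : V ≃ₗ[F] V) (hg : ∀ x, Q (g x) = Q x) :
    g ∈ Subgroup.closure {r : V ≃ₗ[F] V | ∃ z, Q z ≠ 0 ∧ r = refl Q z} := by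
  have h := stab_le_closure h2 hsq Q (finrank F (⊤ : Submodule F V)) ⊤ le_rfl
    (fun w _ hw => hQ w (fun w' => hw w' Submodule.mem_top))
    (by
      rcases hexc with h | h
      · exact Or.inl h
      · refine Or.inr (Or.inl ?_)
        rw [finrank_top]; exact h)
    (show g ∈ stab Q ⊤ from ⟨hg, fun w => ⟨fun _ => Submodule.mem_top, fun _ => Submodule.mem_top⟩,
      fun x hx => by
        have : x = 0 := hQ x (fun w => hx w Submodule.mem_top)
        rw [this, map_zero]⟩)
  refine Subgroup.closure_mono ?_ h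
  rintro r ⟨z, -, hz, rfl⟩
  exact ⟨z, hz, rfl⟩

end Cfsg.Agent.Helper8.ReflChar2
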