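import Mathlib
import Cfsg.Agent.Helper8.ReflMatrix
import Cfsg.Agent.Helper8.ReflChar2b

/-!
# Generation of the matrix isometry group by reflections, all characteristics (helper8)
-/

set_option autoImplicit false

namespace Cfsg.Agent.Helper8.ReflGen

open Module Cfsg.Agent.Helper8.QuadForm Cfsg.Agent.Helper8.OrthOrder
  Cfsg.Agent.Helper8.Reflections Cfsg.Agent.Helper8.ReflMatrix Cfsg.Agent.Helper8.ReflChar2

variable {F : Type*} [Field F] {ι : Type} [Fintype ι] [DecidableEq ι]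
  (Q : QuadraticForm F (ι → F))

theorem closure_reflElt_of
    (hgen : ∀ g : (ι → F) ≃ₗ[F] (ι → F), (∀ x, Q (g x) = Q x) →
      g ∈ Subgroup.closure {r : (ι → F) ≃ₗ[F] (ι → F) | ∃ z, Q z ≠ 0 ∧ r = refl Q z}) :
    Subgroup.closure {g : ↥(Cfsg.isometryGroup F ⇑Q) | ∃ z, Q z ≠ 0 ∧ g = reflElt Q z} = ⊤ := by
  rw [eq_top_iff]
  intro g _
  obtain ⟨j, hj⟩ : ∃ j : ↥(Cfsg.isometryGroup F ⇑Q) →* ((ι → F) ≃ₗ[F] (ι → F)),
      j = (Isom Q).subtype.comp (isomEquiv Q).toMonoidHom := ⟨_, rfl⟩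
  have hjinj : Function.Injective j := by
    rw [hj]
    exact (Isom Q).subtype_injective.comp (isomEquiv Q).injective
  have hmem := hgen (j g) (by
    rw [hj]
    exact (isomEquiv Q g).2)
  have himg : {r : (ι → F) ≃ₗ[F] (ι → F) | ∃ z, Q z ≠ 0 ∧ r = refl Q z}
      = j '' {g : ↥(Cfsg.isometryGroup F ⇑Q) | ∃ z, Q z ≠ 0 ∧ g = reflElt Q z} := by
    ext r
    constructor
    · rintro ⟨z, hz, rfl⟩
      refine ⟨reflElt Q z, ⟨z, hz, rfl⟩, ?_⟩
      rw [hj]
      show ((isomEquiv Q) (reflElt Q z)).1 = refl Q z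
      rw [isomEquiv_reflElt]
    · rintro ⟨g', ⟨z, hz, rfl⟩, rfl⟩
      refine ⟨z, hz, ?_⟩
      rw [hj]
      show ((isomEquiv Q) (reflElt Q z)).1 = refl Q z
      rw [isomEquiv_reflElt]
  rw [himg, ← MonoidHom.map_closure] at hmem
  obtain ⟨g', hg', hgg'⟩ := hmem
  rw [← hjinj hgg']
  exact hg'

/-- in a finite field with more than two elements there are two distinct nonzero elements. -/
theorem exists_two_nonzero [Fintype F] (h : Fintype.card F ≠ 2) :
    ∃ a b : F, a ≠ 0 ∧ b ≠ 0 ∧ a ≠ b := by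
  classical
  by_contra hcon
  have h01 : ∀ a : F, a = 0 ∨ a = 1 := by
    intro a
    by_contra hc
    rw [not_or] at hc
    exact hcon ⟨a, 1, hc.1, one_ne_zero, hc.2⟩
  apply h
  have : (Finset.univ : Finset F) = {0, 1} := by
    ext a
    simp only [Finset.mem_univ, Finset.mem_insert, Finset.mem_singleton, true_iff]
    exact h01 a
  rw [← Finset.card_univ, this, Finset.card_pair zero_ne_one]

theorem exists_sqrt_of_char_two [Fintype F] (h2 : (2 : F) = 0) (a : F) : ∃ b, b * b = a := by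
  haveI : CharP F 2 := CharTwo.of_one_ne_zero_of_two_eq_zero one_ne_zero h2
  have hc : ringChar F = 2 := ringChar.eq F 2
  obtain ⟨b, hb⟩ := FiniteField.isSquare_of_char_two hc a
  exact ⟨b, hb.symm⟩

/-- **Generation by reflections**, all characteristics, excluding dimension four over the field of
two elements. -/
theorem closure_reflElt_all [Fintype F] (hQ : (QuadraticMap.polarBilin Q).Nondegenerate)
    (hexc : Fintype.card F ≠ 2 ∨ Fintype.card ι ≠ 4) :
    Subgroup.closure {g : ↥(Cfsg.isometryGroup F ⇑Q) | ∃ z, Q z ≠ 0 ∧ g = reflElt Q z} = ⊤ := by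
  by_cases h2 : (2 : F) = 0
  · apply closure_reflElt_of
    intro g hg
    apply mem_closure_refl_char2 h2 (exists_sqrt_of_char_two h2) Q ((nondeg_iff Q).mp hQ) _ g hg
    rcases hexc with h | h
    · exact Or.inl (exists_two_nonzero h)
    · right
      rw [Module.finrank_fintype_fun_eq_card]
      exact h
  · exact closure_reflElt Q h2 hQ

/-- the same with the generating set described by reflection matrices. -/
theorem closure_reflectionMatrix [Fintype F] (hQ : (QuadraticMap.polarBilin Q).Nondegenerate)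
    (hexc : Fintype.card F ≠ 2 ∨ Fintype.card ι ≠ 4) :
    Subgroup.closure {g : ↥(Cfsg.isometryGroup F ⇑Q) | ∃ v : ι → F, Q v ≠ 0 ∧
      ((g : Matrix.GeneralLinearGroup ι F) : Matrix ι ι F) = Cfsg.reflectionMatrix ⇑Q v} = ⊤ := by
  have : {g : ↥(Cfsg.isometryGroup F ⇑Q) | ∃ v : ι → F, Q v ≠ 0 ∧
      ((g : Matrix.GeneralLinearGroup ι F) : Matrix ι ι F) = Cfsg.reflectionMatrix ⇑Q v}
      = {g : ↥(Cfsg.isometryGroup F ⇑Q) | ∃ z, Q z ≠ 0 ∧ g = reflElt Q z} := by
    ext g
    constructor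
    · rintro ⟨v, hv, hg⟩
      exact ⟨v, hv, eq_reflElt Q hg⟩
    · rintro ⟨z, hz, rfl⟩
      exact ⟨z, hz, reflElt_val Q z⟩
  rw [this]
  exact closure_reflElt_all Q hQ hexc

end Cfsg.Agent.Helper8.ReflGen
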