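import Mathlib
import Cfsg.Agent.Helper8.StdForms
import Cfsg.Agent.Helper8.ReflMatrix
import Cfsg.Agent.Helper7.SL2Sylow

set_option autoImplicit false

/-!
The action of `SL₂(K)`, `K = F[ω]/(ω² - aω + b)` the quadratic extension, on the Hermitian `2 × 2`
matrices over `K` by `N ↦ g N gᴴ`, in the coordinates of the quadratic form
`x y + (z₁² + a z₁ z₂ + b z₂²) = - det`.
-/

namespace Cfsg.Agent.Helper8.SL2Herm

open Matrix Cfsg Cfsg.Agent.Helper8.StdForms Cfsg.Agent.Helper8.OrthOrder
  Cfsg.Agent.Helper8.ReflMatrix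

variable {F : Type*} [Field F] {a b : F}

/-- the index type of the four-dimensional space. -/
abbrev I4 := (Fin 1 ⊕ Fin 1) ⊕ Fin 2

/-- the quadratic extension. -/
abbrev QK (F : Type*) [Field F] (a b : F) := QuadraticAlgebra F (-b) a

/-- coordinates to Hermitian matrices. -/
def toMat : (I4 → F) →ₗ[F] Matrix (Fin 2) (Fin 2) (QK F a b) where
  toFun v := !![⟨v (.inl (.inl 0)), 0⟩, ⟨v (.inr 0), v (.inr 1)⟩;
    star ⟨v (.inr 0), v (.inr 1)⟩, ⟨-v (.inl (.inr 0)), 0⟩]
  map_add' u v := by
    ext i j
    · fin_cases i <;> fin_cases j <;> simp <;> ring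
    · fin_cases i <;> fin_cases j <;> simp <;> ring
  map_smul' c v := by
    ext i j
    · fin_cases i <;> fin_cases j <;> simp <;> ring
    · fin_cases i <;> fin_cases j <;> simp

theorem toMat_apply (v : I4 → F) :
    toMat (a := a) (b := b) v = !![⟨v (.inl (.inl 0)), 0⟩, ⟨v (.inr 0), v (.inr 1)⟩;
    star ⟨v (.inr 0), v (.inr 1)⟩, ⟨-v (.inl (.inr 0)), 0⟩] := rfl

/-- matrices to coordinates. -/
def fromMat : Matrix (Fin 2) (Fin 2) (QK F a b) →ₗ[F] (I4 → F) where
  toFun N := Sum.elim (Sum.elim (fun _ => (N 0 0).re) (fun _ => -(N 1 1).re))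
    ![(N 0 1).re, (N 0 1).im]
  map_add' M N := by
    funext i
    rcases i with (i | i) | i <;> fin_cases i <;> simp [add_comm]
  map_smul' c N := by
    funext i
    rcases i with (i | i) | i <;> fin_cases i <;> simp

theorem fromMat_toMat (v : I4 → F) : fromMat (toMat (a := a) (b := b) v) = v := by
  funext i
  rcases i with (i | i) | i <;> fin_cases i <;> simp [fromMat, toMat]

theorem toMat_injective : Function.Injective (toMat (F := F) (a := a) (b := b)) := by
  intro u v h
  rw [← fromMat_toMat (a := a) (b := b) u, h, fromMat_toMat]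

theorem isHermitian_toMat (v : I4 → F) : (toMat (a := a) (b := b) v).IsHermitian := by
  ext i j
  · fin_cases i <;> fin_cases j <;> simp [toMat, Matrix.conjTranspose_apply]
  · fin_cases i <;> fin_cases j <;> simp [toMat, Matrix.conjTranspose_apply]


section Field

variable [Finite F] [Hab : Fact (∀ r : F, r ^ 2 ≠ -b + a * r)]

/-- elements fixed by the conjugation lie in `F`. -/
theorem im_eq_zero_of_star_eq {z : QK F a b} (h : star z = z) : z.im = 0 := by
  have h1 := congrArg QuadraticAlgebra.re h
  have h2 := congrArg QuadraticAlgebra.im h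
  simp only [QuadraticAlgebra.re_star, QuadraticAlgebra.im_star] at h1 h2
  by_contra hne
  have ha : a = 0 := by
    have : a * z.im = 0 := by linear_combination h1
    exact (mul_eq_zero.mp this).resolve_right hne
  have h2' : (2 : F) = 0 := by
    have : 2 * z.im = 0 := by linear_combination -h2
    exact (mul_eq_zero.mp this).resolve_right hne
  haveI : CharP F 2 := CharTwo.of_one_ne_zero_of_two_eq_zero one_ne_zero h2'
  haveI := Fintype.ofFinite F
  obtain ⟨c, hc⟩ := FiniteField.isSquare_of_char_two (ringChar.eq F 2) b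
  apply Hab.out c
  rw [ha, zero_mul, add_zero, hc, pow_two]
  have : c * c + c * c = 0 := by
    have : (2 : F) * (c * c) = 0 := by rw [h2', zero_mul]
    linear_combination this
  linear_combination this

theorem toMat_fromMat {N : Matrix (Fin 2) (Fin 2) (QK F a b)} (hN : N.IsHermitian) :
    toMat (fromMat N) = N := by
  have h00 := im_eq_zero_of_star_eq (hN.apply 0 0)
  have h11 := im_eq_zero_of_star_eq (hN.apply 1 1)
  have h10 := hN.apply 1 0
  ext i j
  · fin_cases i <;> fin_cases j
    · simp [fromMat, toMat]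
    · simp [fromMat, toMat]
    · simp [fromMat, toMat, ← h10]
    · simp [fromMat, toMat]
  · fin_cases i <;> fin_cases j
    · simp [fromMat, toMat, h00]
    · simp [fromMat, toMat]
    · simp [fromMat, toMat, ← h10]
    · simp [fromMat, toMat, h11]

/-- the action `N ↦ g N gᴴ`. -/
def act (g : SpecialLinearGroup (Fin 2) (QK F a b)) (N : Matrix (Fin 2) (Fin 2) (QK F a b)) :
    Matrix (Fin 2) (Fin 2) (QK F a b) :=
  g.1 * N * g.1ᴴ

theorem isHermitian_act (g : SpecialLinearGroup (Fin 2) (QK F a b))
    {N : Matrix (Fin 2) (Fin 2) (QK F a b)} (hN : N.IsHermitian) : (act g N).IsHermitian :=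
  Matrix.isHermitian_mul_mul_conjTranspose g.1 hN

theorem det_act (g : SpecialLinearGroup (Fin 2) (QK F a b))
    (N : Matrix (Fin 2) (Fin 2) (QK F a b)) : (act g N).det = N.det := by
  unfold act
  rw [Matrix.det_mul, Matrix.det_mul, Matrix.det_conjTranspose, g.2, star_one, one_mul, mul_one]

theorem act_mul (g h : SpecialLinearGroup (Fin 2) (QK F a b))
    (N : Matrix (Fin 2) (Fin 2) (QK F a b)) : act (g * h) N = act g (act h N) := by
  unfold act
  show g.1 * h.1 * N * (g.1 * h.1)ᴴ = _
  rw [Matrix.conjTranspose_mul]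
  simp only [Matrix.mul_assoc]

theorem act_one (N : Matrix (Fin 2) (Fin 2) (QK F a b)) :
    act (1 : SpecialLinearGroup (Fin 2) (QK F a b)) N = N := by
  unfold act
  show (1 : Matrix (Fin 2) (Fin 2) (QK F a b)) * N * (1 : Matrix (Fin 2) (Fin 2) (QK F a b))ᴴ = N
  rw [Matrix.conjTranspose_one, Matrix.one_mul, Matrix.mul_one]

/-- the action on coordinates. -/
def L (g : SpecialLinearGroup (Fin 2) (QK F a b)) : (I4 → F) →ₗ[F] (I4 → F) where
  toFun v := fromMat (act g (toMat v))
  map_add' u v := by
    unfold act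
    rw [map_add, Matrix.mul_add, Matrix.add_mul, map_add]
  map_smul' c v := by
    unfold act
    rw [map_smul, Matrix.mul_smul, Matrix.smul_mul, map_smul]
    rfl

theorem L_apply (g : SpecialLinearGroup (Fin 2) (QK F a b)) (v : I4 → F) :
    L g v = fromMat (act g (toMat v)) := rfl

theorem toMat_L (g : SpecialLinearGroup (Fin 2) (QK F a b)) (v : I4 → F) :
    toMat (L g v) = act g (toMat v) := by
  rw [L_apply, toMat_fromMat]
  exact isHermitian_act g (isHermitian_toMat v)

theorem L_mul (g h : SpecialLinearGroup (Fin 2) (QK F a b)) (v : I4 → F) :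
    L (g * h) v = L g (L h v) := by
  apply toMat_injective (a := a) (b := b)
  rw [toMat_L, toMat_L, toMat_L, act_mul]

theorem L_one (v : I4 → F) : L (1 : SpecialLinearGroup (Fin 2) (QK F a b)) v = v := by
  apply toMat_injective (a := a) (b := b)
  rw [toMat_L, act_one]

omit [Finite F] Hab in
theorem quadFormMinus_eq (v : I4 → F) :
    algebraMap F (QK F a b) (Cfsg.quadFormMinus 1 F a b v) = -(toMat (a := a) (b := b) v).det := by
  unfold Cfsg.quadFormMinus
  rw [Matrix.det_fin_two, toMat_apply]
  ext
  · simp [sq]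
    ring
  · simp [sq]
    ring

theorem quadFormMinus_L (g : SpecialLinearGroup (Fin 2) (QK F a b)) (v : I4 → F) :
    Cfsg.quadFormMinus 1 F a b (L g v) = Cfsg.quadFormMinus 1 F a b v := by
  apply (algebraMap F (QK F a b)).injective
  rw [quadFormMinus_eq, quadFormMinus_eq, toMat_L, det_act]

/-- the action as a linear equivalence. -/
def Lequiv (g : SpecialLinearGroup (Fin 2) (QK F a b)) : (I4 → F) ≃ₗ[F] (I4 → F) :=
  LinearEquiv.ofLinear (L g) (L g⁻¹)
    (LinearMap.ext fun v => by
      rw [LinearMap.comp_apply, ← L_mul, mul_inv_cancel, L_one]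
      rfl)
    (LinearMap.ext fun v => by
      rw [LinearMap.comp_apply, ← L_mul, inv_mul_cancel, L_one]
      rfl)

theorem Lequiv_apply (g : SpecialLinearGroup (Fin 2) (QK F a b)) (v : I4 → F) :
    Lequiv g v = L g v := rfl

/-- the homomorphism to the isometries of the minus-type form. -/
noncomputable def rhoIsom :
    SpecialLinearGroup (Fin 2) (QK F a b) →* ↥(Isom (minusForm F 1 a b)) where
  toFun g := ⟨Lequiv g, fun v => by
    rw [Lequiv_apply, minusForm_apply, minusForm_apply, quadFormMinus_L]⟩
  map_one' := by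
    apply Subtype.ext
    apply LinearEquiv.ext
    intro v
    exact L_one v
  map_mul' g h := by
    apply Subtype.ext
    apply LinearEquiv.ext
    intro v
    exact L_mul g h v

theorem rhoIsom_apply (g : SpecialLinearGroup (Fin 2) (QK F a b)) (v : I4 → F) :
    (rhoIsom g).1 v = L g v := rfl

/-- the homomorphism to the matrix isometry group. -/
noncomputable def rho :
    SpecialLinearGroup (Fin 2) (QK F a b) →* ↥(Cfsg.isometryGroup F ⇑(minusForm F 1 a b)) :=
  (isomEquiv (minusForm F 1 a b)).symm.toMonoidHom.comp rhoIsom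

theorem isomEquiv_rho (g : SpecialLinearGroup (Fin 2) (QK F a b)) :
    isomEquiv (minusForm F 1 a b) (rho g) = rhoIsom g := by
  unfold rho
  rw [MonoidHom.comp_apply]
  exact MulEquiv.apply_symm_apply _ _

theorem rho_eq_one_iff (g : SpecialLinearGroup (Fin 2) (QK F a b)) :
    rho g = 1 ↔ ∀ N : Matrix (Fin 2) (Fin 2) (QK F a b), N.IsHermitian → act g N = N := by
  constructor
  · intro h N hN
    have := isomEquiv_rho g
    rw [h, map_one] at this
    have h1 : L g (fromMat N) = fromMat N := by
      rw [← rhoIsom_apply, ← this]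
      rfl
    have h2 := congrArg (toMat (a := a) (b := b)) h1
    rwa [toMat_L, toMat_fromMat hN] at h2
  · intro h
    apply (isomEquiv (minusForm F 1 a b)).injective
    rw [isomEquiv_rho, map_one]
    apply Subtype.ext
    apply LinearEquiv.ext
    intro v
    show L g v = v
    apply toMat_injective (a := a) (b := b)
    rw [toMat_L, h _ (isHermitian_toMat v)]

omit [Finite F] Hab in
theorem act_apply (g : SpecialLinearGroup (Fin 2) (QK F a b))
    (N : Matrix (Fin 2) (Fin 2) (QK F a b)) (i j : Fin 2) :
    act g N i j = (g.1 i 0 * N 0 0 + g.1 i 1 * N 1 0) * star (g.1 j 0)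
      + (g.1 i 0 * N 0 1 + g.1 i 1 * N 1 1) * star (g.1 j 1) := by
  unfold act
  rw [Matrix.mul_apply, Fin.sum_univ_two, Matrix.mul_apply, Matrix.mul_apply, Fin.sum_univ_two,
    Fin.sum_univ_two, Matrix.conjTranspose_apply, Matrix.conjTranspose_apply]

/-- the kernel is the centre. -/
theorem ker_rho :
    (rho (F := F) (a := a) (b := b)).ker
      = Subgroup.center (SpecialLinearGroup (Fin 2) (QK F a b)) := by
  ext g
  rw [MonoidHom.mem_ker, rho_eq_one_iff]
  constructor
  · intro h
    have h1 := h 1 Matrix.isHermitian_one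
    have hE : (!![1, 0; 0, 0] : Matrix (Fin 2) (Fin 2) (QK F a b)).IsHermitian := by
      ext i j
      · fin_cases i <;> fin_cases j <;> simp [Matrix.conjTranspose_apply]
      · fin_cases i <;> fin_cases j <;> simp [Matrix.conjTranspose_apply]
    have hW : (!![0, 1; 1, 0] : Matrix (Fin 2) (Fin 2) (QK F a b)).IsHermitian := by
      ext i j
      · fin_cases i <;> fin_cases j <;> simp [Matrix.conjTranspose_apply]
      · fin_cases i <;> fin_cases j <;> simp [Matrix.conjTranspose_apply]
    have h2 := h _ hE
    have h3 := h _ hW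
    have e1 := congrFun (congrFun h2 1) 1
    have e2 := congrFun (congrFun h2 0) 0
    have e3 := congrFun (congrFun h1 0) 0
    have e4 := congrFun (congrFun h1 1) 1
    have e5 := congrFun (congrFun h3 0) 1
    rw [act_apply] at e1 e2 e3 e4 e5
    simp at e1 e2 e3 e4 e5
    have hγ : g.1 1 0 = 0 := e1
    rw [hγ] at e4 e5
    have hβ : g.1 0 1 = 0 := by
      rw [e2] at e3
      simpa using e3
    rw [hβ] at e5
    simp at e4 e5
    have hδ : star (g.1 1 1) ≠ 0 := by
      intro h0
      rw [h0, mul_zero] at e5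
      exact zero_ne_one e5
    have hαδ : g.1 0 0 = g.1 1 1 := by
      have : (g.1 0 0 - g.1 1 1) * star (g.1 1 1) = 0 := by
        rw [sub_mul, e4, e5, sub_self]
      rcases mul_eq_zero.mp this with h | h
      · exact sub_eq_zero.mp h
      · exact absurd h hδ
    have hdet := g.2
    rw [Matrix.det_fin_two, hβ, hγ, ← hαδ, mul_zero, sub_zero] at hdet
    rw [Matrix.SpecialLinearGroup.mem_center_iff]
    refine ⟨g.1 0 0, ?_, ?_⟩
    · rw [Fintype.card_fin, pow_two]
      exact hdet
    · apply Matrix.ext
      intro i j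
      fin_cases i <;> fin_cases j
      · simp
      · simp [hβ]
      · simp [hγ]
      · simp [hαδ]
  · intro h N _
    rw [Matrix.SpecialLinearGroup.mem_center_iff] at h
    obtain ⟨r, hr, hr'⟩ := h
    rw [Fintype.card_fin] at hr
    have hr2 : r = 1 ∨ r = -1 := by
      have : (r - 1) * (r + 1) = 0 := by linear_combination hr
      rcases mul_eq_zero.mp this with h | h
      · left; linear_combination h
      · right; linear_combination h
    have hrs : r * star r = 1 := by
      rcases hr2 with rfl | rfl
      · simp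
      · simp
    unfold act
    have hg : g.1 = r • (1 : Matrix (Fin 2) (Fin 2) (QK F a b)) := by
      rw [← hr']
      apply Matrix.ext
      intro i j
      simp [Matrix.scalar_apply, Matrix.diagonal_apply, Matrix.one_apply]
    rw [hg, Matrix.conjTranspose_smul, Matrix.conjTranspose_one, Matrix.smul_mul, Matrix.one_mul,
      Matrix.mul_smul, Matrix.mul_one, smul_smul, mul_comm, hrs, one_smul]

end Field

end Cfsg.Agent.Helper8.SL2Herm
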