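import Mathlib
import Cfsg.Agent.Helper8.SL2Herm
import Cfsg.Agent.Helper8.SL2Omega
import Cfsg.Agent.Helper7.SL2Sylow
import Cfsg.Agent.Helper7.LinearCard

set_option autoImplicit false

/-!
Auxiliary facts about `SL₂` and `PSL₂`: images of `SL₂(E)`, `|E| ≥ 4`, lie in commutator
subgroups; the centre of `PSL₂` is trivial; ring isomorphisms induce isomorphisms of `PSL₂`.
-/

namespace Cfsg.Agent.Helper8.SL2HermOmega

open Matrix Cfsg Cfsg.Agent.Helper7.SL2

/-- images of `SL₂(E)` lie in the commutator subgroup, when `E` has an element `c ≠ 0, c² ≠ 1`. -/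
theorem map_mem_commutator {E : Type*} [Field E] {c : E} (hc0 : c ≠ 0) (hc : c ^ 2 ≠ 1)
    {H : Type*} [Group H] (φ : SpecialLinearGroup (Fin 2) E →* H)
    (g : SpecialLinearGroup (Fin 2) E) : φ g ∈ commutator H := by
  refine Cfsg.Agent.Helper7.Transv.transvection_induction (fun M => φ M ∈ commutator H) ?_ ?_ g
  · intro i j hij t
    obtain ⟨x, y, hxy⟩ :=
      Cfsg.Agent.Helper7.Transv.transvection_mem_commutatorSet_two hc0 hc hij t
    show φ _ ∈ commutator H
    rw [← hxy, map_commutatorElement]
    exact Subgroup.commutator_mem_commutator (Subgroup.mem_top _) (Subgroup.mem_top _)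
  · intro A B hA hB
    show φ (A * B) ∈ commutator H
    rw [map_mul]
    exact Subgroup.mul_mem _ hA hB

/-- a finite field with at least four elements has an element `c ≠ 0` with `c² ≠ 1`. -/
theorem exists_sq_ne_one {E : Type*} [Field E] [Fintype E] (hE : 4 ≤ Fintype.card E) :
    ∃ c : E, c ≠ 0 ∧ c ^ 2 ≠ 1 := by
  classical
  by_contra hcon
  push Not at hcon
  have : Fintype.card E ≤ 3 := by
    calc Fintype.card E = (Finset.univ : Finset E).card := rfl
      _ ≤ ({0, 1, -1} : Finset E).card := Finset.card_le_card (fun x _ => by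
          by_cases hx : x = 0
          · simp [hx]
          · have h := hcon x hx
            have : (x - 1) * (x + 1) = 0 := by linear_combination h
            rcases mul_eq_zero.mp this with h | h
            · have : x = 1 := by linear_combination h
              simp [this]
            · have : x = -1 := by linear_combination h
              simp [this])
      _ ≤ 3 := Finset.card_le_three
  omega

/-- the centre of `PSL₂(E)` is trivial. -/
theorem center_PSL2 {E : Type*} [Field E] :
    Subgroup.center (Matrix.ProjectiveSpecialLinearGroup (Fin 2) E) = ⊥ := by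
  by_cases h2 : (2 : E) = 0
  · rw [eq_bot_iff]
    intro x hx
    rw [Subgroup.mem_bot]
    obtain ⟨g, rfl⟩ := QuotientGroup.mk_surjective x
    rw [Subgroup.mem_center_iff] at hx
    rw [QuotientGroup.eq_one_iff, Subgroup.mem_center_iff]
    intro h
    have h1 := hx (QuotientGroup.mk h)
    rw [← QuotientGroup.mk_mul, ← QuotientGroup.mk_mul, QuotientGroup.eq] at h1
    rw [Matrix.SpecialLinearGroup.mem_center_iff] at h1
    obtain ⟨r, hr, hr'⟩ := h1
    rw [Fintype.card_fin] at hr
    have hr1 : r = 1 := by
      have : (r - 1) ^ 2 = 0 := by linear_combination hr + (1 - r) * h2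
      exact sub_eq_zero.mp (pow_eq_zero_iff (two_ne_zero) |>.mp this)
    have h3 : (h * g)⁻¹ * (g * h) = 1 := by
      apply Subtype.ext
      rw [← hr', hr1]
      simp
    exact inv_mul_eq_one.mp h3
  · exact Cfsg.Agent.Helper8.SL2Omega.center_PSL2 h2

/-- a ring isomorphism induces an isomorphism of special linear groups. -/
def slEquiv {R S : Type*} [CommRing R] [CommRing S] (e : R ≃+* S) :
    SpecialLinearGroup (Fin 2) R ≃* SpecialLinearGroup (Fin 2) S where
  toFun := SpecialLinearGroup.map e.toRingHom
  invFun := SpecialLinearGroup.map e.symm.toRingHom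
  left_inv g := by
    apply Subtype.ext
    ext i j
    show e.symm (e (g.1 i j)) = g.1 i j
    simp
  right_inv g := by
    apply Subtype.ext
    ext i j
    show e (e.symm (g.1 i j)) = g.1 i j
    simp
  map_mul' := map_mul _

/-- an isomorphism of groups induces an isomorphism of the quotients by the centres. -/
noncomputable def quotCenterEquiv {G H : Type*} [Group G] [Group H] (e : G ≃* H) :
    G ⧸ Subgroup.center G ≃* H ⧸ Subgroup.center H :=
  QuotientGroup.congr (Subgroup.center G) (Subgroup.center H) e (by
    ext y
    rw [Subgroup.mem_map]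
    constructor
    · rintro ⟨x, hx, rfl⟩
      rw [Subgroup.mem_center_iff] at hx ⊢
      intro h
      obtain ⟨g, rfl⟩ := e.surjective h
      show e g * e x = e x * e g
      rw [← map_mul, ← map_mul, hx g]
    · intro hy
      refine ⟨e.symm y, ?_, by simp⟩
      rw [Subgroup.mem_center_iff] at hy ⊢
      intro g
      apply e.injective
      rw [map_mul, map_mul, MulEquiv.apply_symm_apply]
      exact hy (e g))

end Cfsg.Agent.Helper8.SL2HermOmega
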