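import Mathlib
import Cfsg.Agent.Helper8.QuadForm
import Cfsg.Agent.Helper8.WittQuad
import Cfsg.Agent.Helper8.OrthOrder

set_option autoImplicit false

/-!
# Siegel (Eichler) transformations of a quadratic space (helper8)

For a singular vector `u` and `w ⟂ u`, the map
`x ↦ x + B(x, w) u - B(x, u) w - Q(w) B(x, u) u` is an isometry.
-/

namespace Cfsg.Agent.Helper8.Siegel

open Module Cfsg.Agent.Helper8.QuadForm Cfsg.Agent.Helper8.WittQuad Cfsg.Agent.Helper8.OrthOrder

variable {F : Type*} [Field F] {V : Type*} [AddCommGroup V] [Module F V]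

/-- the Siegel map as a linear map (meaningful when `Q u = 0` and `B(u, w) = 0`). -/
noncomputable def sieg (Q : QuadraticForm F V) (u w : V) : V →ₗ[F] V :=
  LinearMap.id + (QuadraticMap.polarBilin Q w).smulRight u
    - (QuadraticMap.polarBilin Q u).smulRight w - Q w • (QuadraticMap.polarBilin Q u).smulRight u

theorem sieg_apply (Q : QuadraticForm F V) (u w x : V) :
    sieg Q u w x = x + QuadraticMap.polar Q x w • u - QuadraticMap.polar Q x u • w
        - (Q w * QuadraticMap.polar Q x u) • u := by
  show x + QuadraticMap.polar Q w x • u - QuadraticMap.polar Q u x • w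
      - Q w • (QuadraticMap.polar Q u x • u) = _
  rw [smul_smul, QuadraticMap.polar_comm Q w x, QuadraticMap.polar_comm Q u x]

theorem polar_sieg (Q : QuadraticForm F V) (u w x y : V) :
    QuadraticMap.polar Q (sieg Q u w x) y = QuadraticMap.polar Q x y
      + QuadraticMap.polar Q x w * QuadraticMap.polar Q u y
      - QuadraticMap.polar Q x u * QuadraticMap.polar Q w y
      - Q w * QuadraticMap.polar Q x u * QuadraticMap.polar Q u y := by
  rw [sieg_apply, QuadraticMap.polar_sub_left, QuadraticMap.polar_sub_left,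
    QuadraticMap.polar_add_left, QuadraticMap.polar_smul_left, QuadraticMap.polar_smul_left,
    QuadraticMap.polar_smul_left]
  simp only [smul_eq_mul]

theorem Q_sieg (Q : QuadraticForm F V) {u w : V} (hu : Q u = 0)
    (huw : QuadraticMap.polar Q u w = 0) (x : V) : Q (sieg Q u w x) = Q x := by
  have huu : QuadraticMap.polar Q u u = 0 := by rw [polar_self', hu, mul_zero]
  have e : sieg Q u w x = x + ((QuadraticMap.polar Q x w - Q w * QuadraticMap.polar Q x u) • u
      + (-(QuadraticMap.polar Q x u)) • w) := by
    rw [sieg_apply, sub_smul, neg_smul]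
    abel
  rw [e, QuadraticMap.map_add Q, QuadraticMap.map_add Q, QuadraticMap.map_smul,
    QuadraticMap.map_smul, hu, QuadraticMap.polar_add_right, QuadraticMap.polar_smul_right,
    QuadraticMap.polar_smul_right, QuadraticMap.polar_smul_left, QuadraticMap.polar_smul_right,
    huw]
  simp only [smul_eq_mul]
  ring

theorem sieg_zero (Q : QuadraticForm F V) (u x : V) : sieg Q u 0 x = x := by
  rw [sieg_apply, QuadraticMap.polar_zero_right, map_zero]
  simp

theorem sieg_sieg (Q : QuadraticForm F V) {u w w' : V} (hu : Q u = 0)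
    (huw : QuadraticMap.polar Q u w = 0) (huw' : QuadraticMap.polar Q u w' = 0) (x : V) :
    sieg Q u w (sieg Q u w' x) = sieg Q u (w + w') x := by
  have huu : QuadraticMap.polar Q u u = 0 := by rw [polar_self', hu, mul_zero]
  have hwu' : QuadraticMap.polar Q w' u = 0 := by rw [QuadraticMap.polar_comm]; exact huw'
  rw [sieg_apply Q u w (sieg Q u w' x), polar_sieg, polar_sieg, huu, hwu', huw,
    sieg_apply Q u w' x, sieg_apply Q u (w + w') x, QuadraticMap.polar_add_right,
    QuadraticMap.map_add Q w w', QuadraticMap.polar_comm Q w' w]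
  simp only [mul_zero, add_zero, sub_zero]
  module

theorem sieg_smul_add (Q : QuadraticForm F V) {u w : V} (hu : Q u = 0)
    (huw : QuadraticMap.polar Q u w = 0) (c : F) (x : V) :
    sieg Q u (w + c • u) x = sieg Q u w x := by
  have huu : QuadraticMap.polar Q u u = 0 := by rw [polar_self', hu, mul_zero]
  have hwu : QuadraticMap.polar Q w u = 0 := by rw [QuadraticMap.polar_comm]; exact huw
  rw [sieg_apply, sieg_apply, QuadraticMap.polar_add_right, QuadraticMap.polar_smul_right,
    QuadraticMap.map_add Q, QuadraticMap.map_smul, hu, QuadraticMap.polar_smul_right, hwu]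
  simp only [smul_eq_mul, mul_zero, add_zero]
  module

theorem sieg_smul_left (Q : QuadraticForm F V) (u w : V) (c : F) (x : V) :
    sieg Q (c • u) w x = sieg Q u (c • w) x := by
  rw [sieg_apply, sieg_apply, QuadraticMap.polar_smul_right, QuadraticMap.polar_smul_right,
    QuadraticMap.map_smul]
  simp only [smul_eq_mul]
  module

open Classical in
/-- the Siegel transformation as a linear equivalence (the identity if the side conditions
fail). -/
noncomputable def siegE (Q : QuadraticForm F V) (u w : V) : V ≃ₗ[F] V :=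
  if h : Q u = 0 ∧ QuadraticMap.polar Q u w = 0 then
    LinearEquiv.ofLinear (sieg Q u w) (sieg Q u (-w))
      (by
        apply LinearMap.ext
        intro x
        rw [LinearMap.comp_apply, sieg_sieg Q h.1 h.2
          (by rw [QuadraticMap.polar_neg_right, h.2, neg_zero]), add_neg_cancel, sieg_zero]
        rfl)
      (by
        apply LinearMap.ext
        intro x
        rw [LinearMap.comp_apply, sieg_sieg Q h.1
          (by rw [QuadraticMap.polar_neg_right, h.2, neg_zero]) h.2, neg_add_cancel, sieg_zero]
        rfl)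
  else 1

theorem siegE_apply (Q : QuadraticForm F V) {u w : V} (hu : Q u = 0)
    (huw : QuadraticMap.polar Q u w = 0) (x : V) : siegE Q u w x = sieg Q u w x := by
  unfold siegE
  rw [dif_pos ⟨hu, huw⟩]
  rfl

theorem siegE_of_not (Q : QuadraticForm F V) {u w : V}
    (h : ¬ (Q u = 0 ∧ QuadraticMap.polar Q u w = 0)) : siegE Q u w = 1 := by
  unfold siegE
  rw [dif_neg h]

theorem siegE_mem (Q : QuadraticForm F V) (u w : V) : siegE Q u w ∈ Isom Q := by
  by_cases h : Q u = 0 ∧ QuadraticMap.polar Q u w = 0
  · intro x
    rw [siegE_apply Q h.1 h.2, Q_sieg Q h.1 h.2]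
  · rw [siegE_of_not Q h]
    exact (Isom Q).one_mem

theorem siegE_zero (Q : QuadraticForm F V) (u : V) : siegE Q u 0 = 1 := by
  by_cases h : Q u = 0 ∧ QuadraticMap.polar Q u 0 = 0
  · apply LinearEquiv.ext
    intro x
    rw [siegE_apply Q h.1 h.2, sieg_zero]
    rfl
  · exact siegE_of_not Q h

theorem siegE_mul (Q : QuadraticForm F V) {u w w' : V} (hu : Q u = 0)
    (huw : QuadraticMap.polar Q u w = 0) (huw' : QuadraticMap.polar Q u w' = 0) :
    siegE Q u w * siegE Q u w' = siegE Q u (w + w') := by
  apply LinearEquiv.ext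
  intro x
  rw [LinearEquiv.mul_apply, siegE_apply Q hu huw, siegE_apply Q hu huw',
    siegE_apply Q hu (by rw [QuadraticMap.polar_add_right, huw, huw', add_zero]),
    sieg_sieg Q hu huw huw']

theorem siegE_inv (Q : QuadraticForm F V) {u w : V} (hu : Q u = 0)
    (huw : QuadraticMap.polar Q u w = 0) : (siegE Q u w)⁻¹ = siegE Q u (-w) := by
  rw [inv_eq_iff_mul_eq_one, siegE_mul Q hu huw
    (by rw [QuadraticMap.polar_neg_right, huw, neg_zero]), add_neg_cancel, siegE_zero]

theorem siegE_smul_add (Q : QuadraticForm F V) {u w : V} (hu : Q u = 0)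
    (huw : QuadraticMap.polar Q u w = 0) (c : F) : siegE Q u (w + c • u) = siegE Q u w := by
  have huu : QuadraticMap.polar Q u u = 0 := by rw [polar_self', hu, mul_zero]
  apply LinearEquiv.ext
  intro x
  rw [siegE_apply Q hu huw, siegE_apply Q hu
    (by rw [QuadraticMap.polar_add_right, QuadraticMap.polar_smul_right, huw, huu]; simp),
    sieg_smul_add Q hu huw]

theorem siegE_smul_left (Q : QuadraticForm F V) {u w : V} (hu : Q u = 0)
    (huw : QuadraticMap.polar Q u w = 0) (c : F) : siegE Q (c • u) w = siegE Q u (c • w) := by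
  apply LinearEquiv.ext
  intro x
  rw [siegE_apply Q (by rw [QuadraticMap.map_smul, hu, smul_zero])
    (by rw [QuadraticMap.polar_smul_left, huw, smul_zero]),
    siegE_apply Q hu (by rw [QuadraticMap.polar_smul_right, huw, smul_zero]), sieg_smul_left]

/-- conjugating a Siegel transformation by an isometry. -/
theorem siegE_conj (Q : QuadraticForm F V) {g : V ≃ₗ[F] V} (hg : g ∈ Isom Q) (u w : V) :
    g * siegE Q u w * g⁻¹ = siegE Q (g u) (g w) := by
  have hQ : ∀ x, Q (g x) = Q x := hg
  have hpol : ∀ x y, QuadraticMap.polar Q (g x) (g y) = QuadraticMap.polar Q x y :=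
    polar_isometry Q g hQ
  by_cases h : Q u = 0 ∧ QuadraticMap.polar Q u w = 0
  · have h' : Q (g u) = 0 ∧ QuadraticMap.polar Q (g u) (g w) = 0 := by
      rw [hQ, hpol]; exact h
    apply LinearEquiv.ext
    intro y
    obtain ⟨x, rfl⟩ := g.surjective y
    have hinv : g⁻¹ (g x) = x := g.symm_apply_apply x
    rw [LinearEquiv.mul_apply, LinearEquiv.mul_apply, hinv, siegE_apply Q h.1 h.2,
      siegE_apply Q h'.1 h'.2, sieg_apply, sieg_apply, hpol, hpol, hQ, map_sub, map_sub, map_add,
      map_smul, map_smul, map_smul]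
  · have h' : ¬ (Q (g u) = 0 ∧ QuadraticMap.polar Q (g u) (g w) = 0) := by
      rw [hQ, hpol]; exact h
    rw [siegE_of_not Q h, siegE_of_not Q h', mul_one, mul_inv_cancel]

/-- the basic transitivity computation: if `a, a'` have the same norm and pair to `1` with the
singular vector `u`, the Siegel transformation with parameter `a - a'` sends `a` to `a'`. -/
theorem sieg_move (Q : QuadraticForm F V) {u a a' : V} (hu : Q u = 0) (haa : Q a = Q a')
    (hua : QuadraticMap.polar Q u a = 1) (hua' : QuadraticMap.polar Q u a' = 1) :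
    QuadraticMap.polar Q u (a - a') = 0 ∧ siegE Q u (a - a') a = a' := by
  have h0 : QuadraticMap.polar Q u (a - a') = 0 := by
    rw [QuadraticMap.polar_sub_right, hua, hua', sub_self]
  refine ⟨h0, ?_⟩
  have hau : QuadraticMap.polar Q a u = 1 := by rw [QuadraticMap.polar_comm]; exact hua
  rw [siegE_apply Q hu h0, sieg_apply, hau, QuadraticMap.polar_sub_right, polar_self',
    sub_eq_add_neg a a', QuadraticMap.map_add Q, QuadraticMap.map_neg, QuadraticMap.polar_neg_right,
    ← haa]
  simp only [mul_one, one_smul]
  have : (2 * Q a - QuadraticMap.polar Q a a') • u - (a + -a')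
      - (Q a + Q a + -QuadraticMap.polar Q a a') • u = -(a + -a') := by
    module
  rw [add_sub_assoc, add_sub_assoc, this]
  abel

/-- a Siegel transformation fixes every vector orthogonal to its two parameters. -/
theorem siegE_fix (Q : QuadraticForm F V) {u w x : V} (hxu : QuadraticMap.polar Q x u = 0)
    (hxw : QuadraticMap.polar Q x w = 0) : siegE Q u w x = x := by
  by_cases h : Q u = 0 ∧ QuadraticMap.polar Q u w = 0
  · rw [siegE_apply Q h.1 h.2, sieg_apply, hxu, hxw]
    simp
  · rw [siegE_of_not Q h]
    rfl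

/-- a Siegel transformation fixes its singular vector. -/
theorem siegE_self (Q : QuadraticForm F V) (u w : V) : siegE Q u w u = u := by
  by_cases h : Q u = 0 ∧ QuadraticMap.polar Q u w = 0
  · apply siegE_fix
    · rw [polar_self', h.1, mul_zero]
    · exact h.2
  · rw [siegE_of_not Q h]
    rfl

end Cfsg.Agent.Helper8.Siegel
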