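import Mathlib
import Cfsg.Agent.Helper8.QuadForm
import Cfsg.Agent.Helper8.WittQuad
import Cfsg.Agent.Helper8.OrthOrder

set_option autoImplicit false

/-!
# Geometry of singular vectors in a quadratic space over a finite field (helper8)
-/

namespace Cfsg.Agent.Helper8.SiegelGeom

open Module Cfsg.Agent.Helper8.QuadForm Cfsg.Agent.Helper8.WittQuad Cfsg.Agent.Helper8.OrthOrder

variable {F : Type*} [Field F] {V : Type*} [AddCommGroup V] [Module F V]

/-- a partner pairing to one. -/
theorem exists_pair_one (Q : QuadraticForm F V) (hQ : Nondeg Q) {d : V} (hd : d ≠ 0) :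
    ∃ y, QuadraticMap.polar Q d y = 1 := by
  have hex : ∃ y₀, QuadraticMap.polar Q d y₀ ≠ 0 := by
    by_contra h
    push Not at h
    exact hd (hQ d h)
  obtain ⟨y₀, hy₀⟩ := hex
  refine ⟨(QuadraticMap.polar Q d y₀)⁻¹ • y₀, ?_⟩
  rw [QuadraticMap.polar_smul_right, smul_eq_mul, inv_mul_cancel₀ hy₀]

/-- double orthogonal complement of a vector. -/
theorem eq_smul_of_perp (Q : QuadraticForm F V) (hQ : Nondeg Q) {d a : V} (hd : d ≠ 0)
    (h : ∀ x, QuadraticMap.polar Q d x = 0 → QuadraticMap.polar Q a x = 0) :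
    ∃ μ : F, a = μ • d := by
  obtain ⟨y, hy⟩ := exists_pair_one Q hQ hd
  refine ⟨QuadraticMap.polar Q a y, ?_⟩
  rw [← sub_eq_zero]
  apply hQ
  intro x
  have h1 : QuadraticMap.polar Q d (x - QuadraticMap.polar Q d x • y) = 0 := by
    rw [QuadraticMap.polar_sub_right, QuadraticMap.polar_smul_right, hy]
    simp
  have h2 := h _ h1
  rw [QuadraticMap.polar_sub_right, QuadraticMap.polar_smul_right] at h2
  rw [QuadraticMap.polar_sub_left, QuadraticMap.polar_smul_left]
  simp only [smul_eq_mul] at h2 ⊢
  linear_combination h2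

/-- the common kernel of two polar functionals has codimension at most two. -/
theorem finrank_perpPair_ge [FiniteDimensional F V] (Q : QuadraticForm F V) (d y : V) :
    finrank F V ≤ finrank F (perpPair Q d y) + 2 := by
  let φ : V →ₗ[F] F × F := (QuadraticMap.polarBilin Q d).prod (QuadraticMap.polarBilin Q y)
  have hker : LinearMap.ker φ = perpPair Q d y := LinearMap.ker_prod _ _
  have h := LinearMap.finrank_range_add_finrank_ker φ
  have h2 : finrank F (LinearMap.range φ) ≤ 2 := by
    have := Submodule.finrank_le (LinearMap.range φ)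
    rw [Module.finrank_prod, Module.finrank_self] at this
    exact this
  rw [hker] at h
  omega

/-- singularizing a partner. -/
theorem singularize (Q : QuadraticForm F V) {e y : V} (he : Q e = 0)
    (hey : QuadraticMap.polar Q e y = 1) :
    Q (y - Q y • e) = 0 ∧ QuadraticMap.polar Q e (y - Q y • e) = 1 := by
  have hee : QuadraticMap.polar Q e e = 0 := by rw [polar_self', he, mul_zero]
  constructor
  · rw [sub_eq_add_neg, QuadraticMap.map_add Q, QuadraticMap.map_neg, QuadraticMap.map_smul, he,
      QuadraticMap.polar_neg_right, QuadraticMap.polar_smul_right, QuadraticMap.polar_comm, hey]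
    simp
  · rw [QuadraticMap.polar_sub_right, QuadraticMap.polar_smul_right, hee, hey]
    simp

/-- **a hyperbolic pair inside the hyperplane orthogonal to a nonzero vector**, in dimension at
least five over a finite field. -/
theorem exists_hyp_perp [Finite F] [FiniteDimensional F V] (Q : QuadraticForm F V) (hQ : Nondeg Q)
    (h5 : 5 ≤ finrank F V) {d : V} (hd : d ≠ 0) :
    ∃ e f, QuadraticMap.polar Q d e = 0 ∧ QuadraticMap.polar Q d f = 0 ∧ Q e = 0 ∧ Q f = 0 ∧
      QuadraticMap.polar Q e f = 1 := by
  obtain ⟨y, hy⟩ := exists_pair_one Q hQ hd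
  have hdim := finrank_perpPair_ge Q d y
  obtain ⟨⟨e, heM⟩, he0, he⟩ := exists_singular (Q.comp (perpPair Q d y).subtype) (by omega)
  have he0' : e ≠ 0 := fun h => he0 (Subtype.ext h)
  have heQ : Q e = 0 := he
  rw [mem_perpPair] at heM
  have hnot : e ∉ Submodule.span F {d} := by
    intro hmem
    obtain ⟨c, rfl⟩ := Submodule.mem_span_singleton.mp hmem
    have h1 := heM.2
    rw [QuadraticMap.polar_smul_right, QuadraticMap.polar_comm, hy, smul_eq_mul, mul_one] at h1
    apply he0'
    rw [h1, zero_smul]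
  obtain ⟨y', hy'S, hy'e⟩ := exists_dual_vec Q ((nondeg_iff Q).mpr hQ) (Submodule.span F {d}) hnot
  have hy'd : QuadraticMap.polar Q y' d = 0 := hy'S d (Submodule.mem_span_singleton_self d)
  have hey' : QuadraticMap.polar Q e y' = 1 := by rw [QuadraticMap.polar_comm]; exact hy'e
  obtain ⟨hf, hef⟩ := singularize Q heQ hey'
  refine ⟨e, y' - Q y' • e, heM.1, ?_, heQ, hf, hef⟩
  rw [QuadraticMap.polar_sub_right, QuadraticMap.polar_smul_right, heM.1,
    QuadraticMap.polar_comm Q d y', hy'd]
  simp

/-- **a subspace containing a hyperbolic pair is spanned by its singular vectors.** -/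
theorem mem_span_singular (Q : QuadraticForm F V) (H : Submodule F V) {e f : V} (heH : e ∈ H)
    (hfH : f ∈ H) (he : Q e = 0) (hf : Q f = 0) (hef : QuadraticMap.polar Q e f = 1) {h : V}
    (hh : h ∈ H) : h ∈ Submodule.span F {c | c ∈ H ∧ Q c = 0} := by
  obtain ⟨h'', hh''⟩ : ∃ h'' : V,
      h'' = h - QuadraticMap.polar Q f h • e - QuadraticMap.polar Q e h • f := ⟨_, rfl⟩
  have hperp : h'' ∈ perpPair Q e f := by rw [hh'']; exact proj_mem Q he hf hef h
  rw [mem_perpPair] at hperp
  have hh''H : h'' ∈ H := by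
    rw [hh'']
    exact H.sub_mem (H.sub_mem hh (H.smul_mem _ heH)) (H.smul_mem _ hfH)
  obtain ⟨c, hc⟩ : ∃ c : V, c = h'' + ((-Q h'') • e + f) := ⟨_, rfl⟩
  have hcH : c ∈ H := by
    rw [hc]
    exact H.add_mem hh''H (H.add_mem (H.smul_mem _ heH) hfH)
  have hcQ : Q c = 0 := by
    rw [hc, QuadraticMap.map_add Q, QuadraticMap.map_add Q, QuadraticMap.map_smul, he, hf,
      QuadraticMap.polar_smul_left, hef, QuadraticMap.polar_add_right,
      QuadraticMap.polar_smul_right, QuadraticMap.polar_comm Q h'' e, hperp.1,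
      QuadraticMap.polar_comm Q h'' f, hperp.2]
    simp
  have hes : e ∈ Submodule.span F {c | c ∈ H ∧ Q c = 0} := Submodule.subset_span ⟨heH, he⟩
  have hfs : f ∈ Submodule.span F {c | c ∈ H ∧ Q c = 0} := Submodule.subset_span ⟨hfH, hf⟩
  have hcs : c ∈ Submodule.span F {c | c ∈ H ∧ Q c = 0} := Submodule.subset_span ⟨hcH, hcQ⟩
  have : h = c + (QuadraticMap.polar Q f h + Q h'') • e + (QuadraticMap.polar Q e h - 1) • f := by
    rw [hc, hh'']
    module
  rw [this]
  exact Submodule.add_mem _ (Submodule.add_mem _ hcs (Submodule.smul_mem _ _ hes))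
    (Submodule.smul_mem _ _ hfs)

/-- a singular partner inside a nondegenerate subspace. -/
theorem exists_partner_in (Q : QuadraticForm F V) (W : Submodule F V) (hW : NondegOn Q W) {a : V}
    (haW : a ∈ W) (ha : Q a = 0) (ha0 : a ≠ 0) :
    ∃ c ∈ W, Q c = 0 ∧ QuadraticMap.polar Q a c = 1 := by
  have hex : ∃ z ∈ W, QuadraticMap.polar Q a z ≠ 0 := by
    by_contra h
    push Not at h
    exact ha0 (hW a haW h)
  obtain ⟨z, hzW, hz⟩ := hex
  obtain ⟨y, hy⟩ : ∃ y : V, y = (QuadraticMap.polar Q a z)⁻¹ • z := ⟨_, rfl⟩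
  have hyW : y ∈ W := by rw [hy]; exact W.smul_mem _ hzW
  have hay : QuadraticMap.polar Q a y = 1 := by
    rw [hy, QuadraticMap.polar_smul_right, smul_eq_mul, inv_mul_cancel₀ hz]
  obtain ⟨h1, h2⟩ := singularize Q ha hay
  exact ⟨y - Q y • a, W.sub_mem hyW (W.smul_mem _ haW), h1, h2⟩

/-- a subspace of dimension at least three is not contained in the span of two vectors. -/
theorem exists_not_mem_span_pair [FiniteDimensional F V] (W : Submodule F V)
    (h3 : 3 ≤ finrank F W) (a a' : V) : ∃ x ∈ W, x ∉ Submodule.span F {a, a'} := by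
  by_contra h
  push Not at h
  have hle : W ≤ Submodule.span F {a, a'} := h
  have h1 := Submodule.finrank_mono hle
  have h2 : finrank F (Submodule.span F ({a, a'} : Set V)) ≤ 2 := by
    classical
    have h3 : finrank F (Submodule.span F ((({a, a'} : Finset V)) : Set V))
        ≤ ({a, a'} : Finset V).card := finrank_span_finset_le_card ({a, a'} : Finset V) (R := F)
    have h4 : ({a, a'} : Finset V).card ≤ 2 := Finset.card_le_two
    have h5 : ((({a, a'} : Finset V)) : Set V) = {a, a'} := by simp
    rw [h5] at h3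
    omega
  omega

/-- **a singular vector of a nondegenerate subspace not orthogonal to two given singular
vectors.** -/
theorem exists_nonperp [FiniteDimensional F V] (Q : QuadraticForm F V) (W : Submodule F V)
    (hW : NondegOn Q W) (h3 : 3 ≤ finrank F W) {a a' : V} (haW : a ∈ W) (ha'W : a' ∈ W)
    (ha : Q a = 0) (ha' : Q a' = 0) (ha0 : a ≠ 0) (ha'0 : a' ≠ 0) :
    ∃ c ∈ W, Q c = 0 ∧ QuadraticMap.polar Q c a ≠ 0 ∧ QuadraticMap.polar Q c a' ≠ 0 := by
  have haa : QuadraticMap.polar Q a a = 0 := by rw [polar_self', ha, mul_zero]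
  have ha'a' : QuadraticMap.polar Q a' a' = 0 := by rw [polar_self', ha', mul_zero]
  by_cases hβ : QuadraticMap.polar Q a a' = 0
  · -- orthogonal case
    have hβ' : QuadraticMap.polar Q a' a = 0 := by rw [QuadraticMap.polar_comm]; exact hβ
    obtain ⟨c₁, hc₁W, hc₁, hac₁⟩ := exists_partner_in Q W hW haW ha ha0
    obtain ⟨c₂, hc₂W, hc₂, hac₂⟩ := exists_partner_in Q W hW ha'W ha' ha'0
    have hc₁a : QuadraticMap.polar Q c₁ a = 1 := by rw [QuadraticMap.polar_comm]; exact hac₁
    have hc₂a' : QuadraticMap.polar Q c₂ a' = 1 := by rw [QuadraticMap.polar_comm]; exact hac₂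
    by_cases h1 : QuadraticMap.polar Q c₁ a' = 0
    swap
    · exact ⟨c₁, hc₁W, hc₁, by rw [hc₁a]; exact one_ne_zero, h1⟩
    by_cases h2 : QuadraticMap.polar Q c₂ a = 0
    swap
    · exact ⟨c₂, hc₂W, hc₂, h2, by rw [hc₂a']; exact one_ne_zero⟩
    refine ⟨c₁ + c₂ + (-(QuadraticMap.polar Q c₁ c₂)) • a,
      W.add_mem (W.add_mem hc₁W hc₂W) (W.smul_mem _ haW), ?_, ?_, ?_⟩
    · rw [QuadraticMap.map_add Q, QuadraticMap.map_add Q, QuadraticMap.map_smul, ha, hc₁, hc₂,
        QuadraticMap.polar_smul_right, QuadraticMap.polar_add_left, hc₁a, h2]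
      simp
    · rw [QuadraticMap.polar_add_left, QuadraticMap.polar_add_left, QuadraticMap.polar_smul_left,
        hc₁a, h2, haa]
      simp
    · rw [QuadraticMap.polar_add_left, QuadraticMap.polar_add_left, QuadraticMap.polar_smul_left,
        h1, hc₂a', hβ]
      simp
  · -- non-orthogonal case
    obtain ⟨β, hβdef⟩ : ∃ β : F, β = QuadraticMap.polar Q a a' := ⟨_, rfl⟩
    have hβ0 : β ≠ 0 := by rw [hβdef]; exact hβ
    have hβ' : QuadraticMap.polar Q a' a = β := by rw [QuadraticMap.polar_comm, hβdef]
    -- projection to the orthogonal complement of the plane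
    obtain ⟨P, hP⟩ : ∃ P : V → V, P = fun x => x - (QuadraticMap.polar Q x a' / β) • a
        - (QuadraticMap.polar Q x a / β) • a' := ⟨_, rfl⟩
    have hPW : ∀ x ∈ W, P x ∈ W := by
      intro x hx
      rw [hP]
      exact W.sub_mem (W.sub_mem hx (W.smul_mem _ haW)) (W.smul_mem _ ha'W)
    have hPa : ∀ x, QuadraticMap.polar Q (P x) a = 0 := by
      intro x
      rw [hP]
      simp only
      rw [QuadraticMap.polar_sub_left, QuadraticMap.polar_sub_left, QuadraticMap.polar_smul_left,
        QuadraticMap.polar_smul_left, haa, hβ']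
      simp only [smul_eq_mul]
      field_simp
      ring
    have hPa' : ∀ x, QuadraticMap.polar Q (P x) a' = 0 := by
      intro x
      rw [hP]
      simp only
      rw [QuadraticMap.polar_sub_left, QuadraticMap.polar_sub_left, QuadraticMap.polar_smul_left,
        QuadraticMap.polar_smul_left, ha'a', ← hβdef]
      simp only [smul_eq_mul]
      field_simp
      ring
    -- a nonsingular vector orthogonal to the plane
    have hm : ∃ m ∈ W, QuadraticMap.polar Q m a = 0 ∧ QuadraticMap.polar Q m a' = 0 ∧ Q m ≠ 0 := by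
      obtain ⟨x, hxW, hx⟩ := exists_not_mem_span_pair W h3 a a'
      have hPx0 : P x ≠ 0 := by
        intro h0
        apply hx
        have : x = (QuadraticMap.polar Q x a' / β) • a + (QuadraticMap.polar Q x a / β) • a' := by
          have h1 : P x = x - (QuadraticMap.polar Q x a' / β) • a
              - (QuadraticMap.polar Q x a / β) • a' := by rw [hP]
          rw [h0] at h1
          rw [← sub_eq_zero, h1]
          abel
        rw [this]
        exact Submodule.add_mem _
          (Submodule.smul_mem _ _ (Submodule.subset_span (Set.mem_insert _ _)))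
          (Submodule.smul_mem _ _ (Submodule.subset_span (Set.mem_insert_of_mem _ rfl)))
      have hex : ∃ z ∈ W, QuadraticMap.polar Q (P x) z ≠ 0 := by
        by_contra h
        push Not at h
        exact hPx0 (hW (P x) (hPW x hxW) h)
      obtain ⟨z, hzW, hz⟩ := hex
      have hPz : QuadraticMap.polar Q (P x) (P z) = QuadraticMap.polar Q (P x) z := by
        have h1 : P z = z - (QuadraticMap.polar Q z a' / β) • a
            - (QuadraticMap.polar Q z a / β) • a' := by rw [hP]
        rw [h1, QuadraticMap.polar_sub_right, QuadraticMap.polar_sub_right,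
          QuadraticMap.polar_smul_right, QuadraticMap.polar_smul_right, hPa, hPa']
        simp
      by_contra hcon
      push Not at hcon
      have e1 := hcon (P x) (hPW x hxW) (hPa x) (hPa' x)
      have e2 := hcon (P z) (hPW z hzW) (hPa z) (hPa' z)
      have e3 := hcon (P x + P z) (W.add_mem (hPW x hxW) (hPW z hzW))
        (by rw [QuadraticMap.polar_add_left, hPa, hPa, add_zero])
        (by rw [QuadraticMap.polar_add_left, hPa', hPa', add_zero])
      apply hz
      rw [← hPz]
      unfold QuadraticMap.polar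
      rw [e1, e2, e3]
      simp
    obtain ⟨m, hmW, hma, hma', hmQ⟩ := hm
    have ham : QuadraticMap.polar Q a m = 0 := by rw [QuadraticMap.polar_comm]; exact hma
    have ha'm : QuadraticMap.polar Q a' m = 0 := by rw [QuadraticMap.polar_comm]; exact hma'
    obtain ⟨t, ht⟩ : ∃ t : F, t = -Q m / β := ⟨_, rfl⟩
    refine ⟨a + t • a' + m, W.add_mem (W.add_mem haW (W.smul_mem _ ha'W)) hmW, ?_, ?_, ?_⟩
    · rw [QuadraticMap.map_add Q, QuadraticMap.map_add Q, QuadraticMap.map_smul, ha, ha',
        QuadraticMap.polar_smul_right, QuadraticMap.polar_add_left, QuadraticMap.polar_smul_left,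
        ham, ha'm, ← hβdef, ht]
      simp only [smul_eq_mul]
      field_simp
      ring
    · rw [QuadraticMap.polar_add_left, QuadraticMap.polar_add_left, QuadraticMap.polar_smul_left,
        haa, hβ', hma, ht]
      simp only [smul_eq_mul]
      field_simp
      simpa using hmQ
    · rw [QuadraticMap.polar_add_left, QuadraticMap.polar_add_left, QuadraticMap.polar_smul_left,
        ha'a', hma', ← hβdef]
      simpa using hβ0

end Cfsg.Agent.Helper8.SiegelGeom
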