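import Mathlib
import Cfsg.Agent.Helper8.Siegel
import Cfsg.Agent.Helper8.SiegelGeom
import Cfsg.Agent.Helper8.Reflections
import Cfsg.Agent.Helper8.OmegaOdd

set_option autoImplicit false

/-!
# The group generated by the Siegel transformations (helper8)

It is normal in the isometry group, contains its commutator subgroup (dimension at least five,
finite field, given generation by reflections), and is perfect.
-/

namespace Cfsg.Agent.Helper8.SiegelGroup

open Module Cfsg.Agent.Helper8.QuadForm Cfsg.Agent.Helper8.WittQuad Cfsg.Agent.Helper8.OrthOrder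
  Cfsg.Agent.Helper8.Siegel Cfsg.Agent.Helper8.SiegelGeom Cfsg.Agent.Helper8.Reflections

open scoped commutatorElement

variable {F : Type*} [Field F] {V : Type*} [AddCommGroup V] [Module F V]

/-- the Siegel transformation as an element of the isometry group. -/
noncomputable def siegG (Q : QuadraticForm F V) (u w : V) : ↥(Isom Q) :=
  ⟨siegE Q u w, siegE_mem Q u w⟩

theorem siegG_val (Q : QuadraticForm F V) (u w : V) : ((siegG Q u w : ↥(Isom Q)) : V ≃ₗ[F] V)
    = siegE Q u w := rfl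

/-- the subgroup generated by the Siegel transformations with both parameters in `W`. -/
def SGW (Q : QuadraticForm F V) (W : Submodule F V) : Subgroup ↥(Isom Q) :=
  Subgroup.closure {g | ∃ c ∈ W, ∃ w ∈ W, Q c = 0 ∧ QuadraticMap.polar Q c w = 0 ∧
    g = siegG Q c w}

/-- the subgroup generated by all Siegel transformations. -/
def SG (Q : QuadraticForm F V) : Subgroup ↥(Isom Q) := SGW Q ⊤

theorem siegG_mem_SGW (Q : QuadraticForm F V) (W : Submodule F V) {c w : V} (hc : c ∈ W)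
    (hw : w ∈ W) (hQc : Q c = 0) (hcw : QuadraticMap.polar Q c w = 0) : siegG Q c w ∈ SGW Q W :=
  Subgroup.subset_closure ⟨c, hc, w, hw, hQc, hcw, rfl⟩

theorem siegG_mem_SG (Q : QuadraticForm F V) {c w : V} (hQc : Q c = 0)
    (hcw : QuadraticMap.polar Q c w = 0) : siegG Q c w ∈ SG Q :=
  siegG_mem_SGW Q ⊤ trivial trivial hQc hcw

theorem SGW_le_SG (Q : QuadraticForm F V) (W : Submodule F V) : SGW Q W ≤ SG Q := by
  apply Subgroup.closure_mono
  rintro g ⟨c, -, w, -, h1, h2, rfl⟩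
  exact ⟨c, trivial, w, trivial, h1, h2, rfl⟩

/-- elements of `SGW Q W` fix the vectors orthogonal to `W`. -/
theorem SGW_fix (Q : QuadraticForm F V) (W : Submodule F V) {g : ↥(Isom Q)} (hg : g ∈ SGW Q W)
    {x : V} (hx : ∀ w ∈ W, QuadraticMap.polar Q x w = 0) : (g : V ≃ₗ[F] V) x = x := by
  unfold SGW at hg
  induction hg using Subgroup.closure_induction with
  | mem g hg =>
    obtain ⟨c, hc, w, hw, -, -, rfl⟩ := hg
    exact siegE_fix Q (hx c hc) (hx w hw)
  | one => rfl
  | mul a b _ _ iha ihb =>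
    show (a : V ≃ₗ[F] V) ((b : V ≃ₗ[F] V) x) = x
    rw [ihb, iha]
  | inv a _ iha =>
    show (a : V ≃ₗ[F] V)⁻¹ x = x
    conv_lhs => rw [← iha]
    exact (a : V ≃ₗ[F] V).symm_apply_apply x

theorem siegG_conj (Q : QuadraticForm F V) (g : ↥(Isom Q)) (u w : V) :
    g * siegG Q u w * g⁻¹ = siegG Q ((g : V ≃ₗ[F] V) u) ((g : V ≃ₗ[F] V) w) := by
  apply Subtype.ext
  exact siegE_conj Q g.2 u w

theorem conj_mem_SG (Q : QuadraticForm F V) {n : ↥(Isom Q)} (hn : n ∈ SG Q) (g : ↥(Isom Q)) :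
    g * n * g⁻¹ ∈ SG Q := by
  unfold SG SGW at hn
  induction hn using Subgroup.closure_induction with
  | mem n hn =>
    obtain ⟨c, -, w, -, hc, hcw, rfl⟩ := hn
    rw [siegG_conj]
    apply siegG_mem_SG
    · rw [g.2 c, hc]
    · rw [polar_isometry Q g g.2, hcw]
  | one => rw [mul_one, mul_inv_cancel]; exact (SG Q).one_mem
  | mul a b _ _ iha ihb =>
    have : g * (a * b) * g⁻¹ = (g * a * g⁻¹) * (g * b * g⁻¹) := by group
    rw [this]
    exact (SG Q).mul_mem iha ihb
  | inv a _ iha =>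
    have : g * a⁻¹ * g⁻¹ = (g * a * g⁻¹)⁻¹ := by group
    rw [this]
    exact (SG Q).inv_mem iha

instance SG_normal (Q : QuadraticForm F V) : (SG Q).Normal :=
  ⟨fun n hn g => conj_mem_SG Q hn g⟩

/-- **transitivity on the singular points of a nondegenerate subspace.** -/
theorem exists_SGW_smul [FiniteDimensional F V] (Q : QuadraticForm F V) (W : Submodule F V)
    (hW : NondegOn Q W) (h3 : 3 ≤ finrank F W) {a a' : V} (haW : a ∈ W) (ha'W : a' ∈ W)
    (ha : Q a = 0) (ha' : Q a' = 0) (ha0 : a ≠ 0) (ha'0 : a' ≠ 0) :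
    ∃ g ∈ SGW Q W, ∃ t : F, t ≠ 0 ∧ (g : V ≃ₗ[F] V) a = t • a' := by
  obtain ⟨c, hcW, hc, hca, hca'⟩ := exists_nonperp Q W hW h3 haW ha'W ha ha' ha0 ha'0
  obtain ⟨α, hα⟩ : ∃ α : F, α = QuadraticMap.polar Q c a := ⟨_, rfl⟩
  obtain ⟨α', hα'⟩ : ∃ α' : F, α' = QuadraticMap.polar Q c a' := ⟨_, rfl⟩
  have hα0 : α ≠ 0 := by rw [hα]; exact hca
  have hα'0 : α' ≠ 0 := by rw [hα']; exact hca'
  have hc' : Q (α⁻¹ • c) = 0 := by rw [QuadraticMap.map_smul, hc, smul_zero]
  have h1 : QuadraticMap.polar Q (α⁻¹ • c) a = 1 := by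
    rw [QuadraticMap.polar_smul_left, ← hα, smul_eq_mul, inv_mul_cancel₀ hα0]
  have h2 : QuadraticMap.polar Q (α⁻¹ • c) ((α / α') • a') = 1 := by
    rw [QuadraticMap.polar_smul_left, QuadraticMap.polar_smul_right, ← hα']
    simp only [smul_eq_mul]
    field_simp
  have h3 : Q a = Q ((α / α') • a') := by rw [QuadraticMap.map_smul, ha, ha', smul_zero]
  obtain ⟨h4, h5⟩ := sieg_move Q hc' h3 h1 h2
  refine ⟨siegG Q (α⁻¹ • c) (a - (α / α') • a'), ?_, α / α', div_ne_zero hα0 hα'0, h5⟩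
  exact siegG_mem_SGW Q W (W.smul_mem _ hcW) (W.sub_mem haW (W.smul_mem _ ha'W)) hc' h4

/-- **moving a vector to another of the same norm** by a Siegel transformation. -/
theorem exists_siegel_move [Finite F] [FiniteDimensional F V] (Q : QuadraticForm F V)
    (hQ : Nondeg Q) (h5 : 5 ≤ finrank F V) {a a' : V} (haa : Q a = Q a') (hd : a - a' ≠ 0) :
    (∃ μ : F, a = μ • (a - a')) ∨ ∃ g ∈ SG Q, (g : V ≃ₗ[F] V) a = a' := by
  obtain ⟨e, f, hde, hdf, he, hf, hef⟩ := exists_hyp_perp Q hQ h5 hd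
  by_cases hex : ∃ c, QuadraticMap.polar Q (a - a') c = 0 ∧ Q c = 0 ∧ QuadraticMap.polar Q c a ≠ 0
  · right
    obtain ⟨c, hdc, hc, hca⟩ := hex
    obtain ⟨α, hα⟩ : ∃ α : F, α = QuadraticMap.polar Q c a := ⟨_, rfl⟩
    have hα0 : α ≠ 0 := by rw [hα]; exact hca
    have hca' : QuadraticMap.polar Q c a' = α := by
      have : QuadraticMap.polar Q c (a - a') = 0 := by rw [QuadraticMap.polar_comm]; exact hdc
      rw [QuadraticMap.polar_sub_right, ← hα] at this
      exact (sub_eq_zero.mp this).symm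
    have hc' : Q (α⁻¹ • c) = 0 := by rw [QuadraticMap.map_smul, hc, smul_zero]
    have h1 : QuadraticMap.polar Q (α⁻¹ • c) a = 1 := by
      rw [QuadraticMap.polar_smul_left, ← hα, smul_eq_mul, inv_mul_cancel₀ hα0]
    have h2 : QuadraticMap.polar Q (α⁻¹ • c) a' = 1 := by
      rw [QuadraticMap.polar_smul_left, hca', smul_eq_mul, inv_mul_cancel₀ hα0]
    obtain ⟨h4, h5⟩ := sieg_move Q hc' haa h1 h2
    exact ⟨siegG Q (α⁻¹ • c) (a - a'), siegG_mem_SG Q hc' h4, h5⟩
  · left
    push Not at hex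
    apply eq_smul_of_perp Q hQ hd
    intro x hx
    have hxH : x ∈ LinearMap.ker (QuadraticMap.polarBilin Q (a - a')) := hx
    have hspan := mem_span_singular Q (LinearMap.ker (QuadraticMap.polarBilin Q (a - a')))
      (e := e) (f := f) hde hdf he hf hef hxH
    have hle : Submodule.span F {c | c ∈ LinearMap.ker (QuadraticMap.polarBilin Q (a - a')) ∧ Q c = 0}
        ≤ LinearMap.ker (QuadraticMap.polarBilin Q a) := by
      rw [Submodule.span_le]
      rintro c ⟨hc1, hc2⟩
      show QuadraticMap.polar Q a c = 0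
      rw [QuadraticMap.polar_comm]
      exact hex c hc1 hc2
    exact hle hspan

/-- the reflection as an element of the isometry group. -/
noncomputable def reflG (Q : QuadraticForm F V) (z : V) : ↥(Isom Q) := ⟨refl Q z, refl_mem Q z⟩

theorem reflG_inv (Q : QuadraticForm F V) (z : V) : (reflG Q z)⁻¹ = reflG Q z := by
  apply Subtype.ext
  exact refl_inv Q z

theorem reflG_conj (Q : QuadraticForm F V) (g : ↥(Isom Q)) (z : V) :
    g * reflG Q z * g⁻¹ = reflG Q ((g : V ≃ₗ[F] V) z) := by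
  apply Subtype.ext
  exact Cfsg.Agent.Helper8.OmegaOdd.refl_conj Q g g.2 z

/-- **two reflections commute modulo the Siegel group.** -/
theorem refl_comm_mem_SG [Finite F] [FiniteDimensional F V] (Q : QuadraticForm F V)
    (hQ : Nondeg Q) (h5 : 5 ≤ finrank F V) {a b : V} (ha : Q a ≠ 0) :
    reflG Q a * reflG Q b * (reflG Q a)⁻¹ * (reflG Q b)⁻¹ ∈ SG Q := by
  obtain ⟨a', ha'⟩ : ∃ a' : V, a' = refl Q b a := ⟨_, rfl⟩
  have hQa' : Q a = Q a' := by rw [ha', Q_refl]
  have h1 : reflG Q b * reflG Q a * (reflG Q b)⁻¹ = reflG Q a' := by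
    rw [reflG_conj, ha']
    rfl
  have h2 : reflG Q a * reflG Q b * (reflG Q a)⁻¹ * (reflG Q b)⁻¹ = reflG Q a * reflG Q a' := by
    rw [← h1, reflG_inv, reflG_inv]
    group
  rw [h2]
  by_cases hd : a - a' = 0
  · rw [sub_eq_zero] at hd
    rw [← hd]
    have : reflG Q a * reflG Q a = 1 := by
      apply Subtype.ext
      exact refl_mul_self Q a
    rw [this]
    exact (SG Q).one_mem
  rcases exists_siegel_move Q hQ h5 hQa' hd with ⟨μ, hμ⟩ | ⟨s, hs, hsa⟩
  · -- `a'` is a multiple of `a`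
    have ha0 : a ≠ 0 := by
      rintro rfl
      exact ha (map_zero Q)
    have hμ0 : μ ≠ 0 := by
      rintro rfl
      rw [zero_smul] at hμ
      exact ha0 hμ
    have ha'eq : a' = ((μ - 1) / μ) • a := by
      have h3 : a' = a - (a - a') := by abel
      have h4 : a - a' = μ⁻¹ • a := by
        have h6 := congrArg (fun v => μ⁻¹ • v) hμ
        simp only [smul_smul, inv_mul_cancel₀ hμ0, one_smul] at h6
        exact h6.symm
      rw [h3, h4]
      have : ((μ - 1) / μ) = 1 - μ⁻¹ := by field_simp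
      rw [this, sub_smul, one_smul]
    have hν0 : (μ - 1) / μ ≠ 0 := by
      intro h0
      rw [h0, zero_smul] at ha'eq
      rw [ha'eq, map_zero] at hQa'
      exact ha hQa'
    have h3 : reflG Q a' = reflG Q a := by
      apply Subtype.ext
      show refl Q a' = refl Q a
      rw [ha'eq, Cfsg.Agent.Helper8.OmegaOdd.refl_smul Q hν0]
    rw [h3]
    have : reflG Q a * reflG Q a = 1 := by
      apply Subtype.ext
      exact refl_mul_self Q a
    rw [this]
    exact (SG Q).one_mem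
  · have h3 : reflG Q a' = s * reflG Q a * s⁻¹ := by
      rw [reflG_conj, hsa]
    rw [h3]
    have h4 : reflG Q a * (s * reflG Q a * s⁻¹) = (reflG Q a * s * (reflG Q a)⁻¹) * s⁻¹ := by
      rw [reflG_inv]
      group
    rw [h4]
    exact (SG Q).mul_mem (conj_mem_SG Q hs _) ((SG Q).inv_mem hs)

/-- **the commutator subgroup of the isometry group lies in the Siegel group**, given generation
by reflections. -/
theorem commutator_le_SG [Finite F] [FiniteDimensional F V] (Q : QuadraticForm F V)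
    (hQ : Nondeg Q) (h5 : 5 ≤ finrank F V)
    (hgen : Subgroup.closure {g : ↥(Isom Q) | ∃ z, Q z ≠ 0 ∧ g = reflG Q z} = ⊤) :
    commutator ↥(Isom Q) ≤ SG Q := by
  obtain ⟨φ, hφ⟩ : ∃ φ : ↥(Isom Q) →* ↥(Isom Q) ⧸ SG Q, φ = QuotientGroup.mk' (SG Q) := ⟨_, rfl⟩
  have hφsurj : Function.Surjective φ := by rw [hφ]; exact QuotientGroup.mk'_surjective _
  have hker : ∀ g, φ g = 1 ↔ g ∈ SG Q := by
    intro g
    rw [hφ]
    exact QuotientGroup.eq_one_iff g
  obtain ⟨T, hT⟩ : ∃ T : Set (↥(Isom Q) ⧸ SG Q),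
      T = φ '' {g : ↥(Isom Q) | ∃ z, Q z ≠ 0 ∧ g = reflG Q z} := ⟨_, rfl⟩
  have hTtop : Subgroup.closure T = ⊤ := by
    rw [hT, ← MonoidHom.map_closure, hgen, ← MonoidHom.range_eq_map, MonoidHom.range_eq_top]
    exact hφsurj
  have hTcomm : ∀ x ∈ T, ∀ y ∈ T, x * y = y * x := by
    intro x hx y hy
    rw [hT] at hx hy
    obtain ⟨_, ⟨a, ha, rfl⟩, rfl⟩ := hx
    obtain ⟨_, ⟨b, hb, rfl⟩, rfl⟩ := hy
    have h1 := (hker _).mpr (refl_comm_mem_SG Q hQ h5 (a := a) (b := b) ha)
    rw [map_mul, map_mul, map_mul, map_inv, map_inv] at h1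
    have h2 : φ (reflG Q a) * φ (reflG Q b) * (φ (reflG Q a))⁻¹ * (φ (reflG Q b))⁻¹
        = ⁅φ (reflG Q a), φ (reflG Q b)⁆ := (commutatorElement_def _ _).symm
    rw [h2, commutatorElement_eq_one_iff_commute] at h1
    exact h1
  have hcent : Subgroup.centralizer T = ⊤ := by
    rw [eq_top_iff, ← hTtop, Subgroup.closure_le]
    intro x hx
    rw [SetLike.mem_coe, Subgroup.mem_centralizer_iff]
    intro y hy
    exact hTcomm y hy x hx
  have hcenter : Subgroup.center (↥(Isom Q) ⧸ SG Q) = ⊤ := by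
    rw [eq_top_iff, ← hTtop, Subgroup.closure_le]
    intro x hx
    rw [SetLike.mem_coe, Subgroup.mem_center_iff]
    intro g
    have hg : g ∈ Subgroup.centralizer T := by rw [hcent]; trivial
    rw [Subgroup.mem_centralizer_iff] at hg
    exact (hg x hx).symm
  rw [commutator_def, Subgroup.commutator_le]
  intro g _ h _
  rw [← hker, map_commutatorElement, commutatorElement_eq_one_iff_commute]
  have hg : φ g ∈ Subgroup.center (↥(Isom Q) ⧸ SG Q) := by rw [hcenter]; trivial
  rw [Subgroup.mem_center_iff] at hg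
  exact (hg (φ h)).symm

theorem siegG_zero_left (Q : QuadraticForm F V) (w : V) : siegG Q 0 w = 1 := by
  apply Subtype.ext
  apply LinearEquiv.ext
  intro x
  show siegE Q 0 w x = x
  rw [siegE_apply Q (map_zero Q) (QuadraticMap.polar_zero_left _ _), sieg_apply]
  simp

theorem siegG_zero (Q : QuadraticForm F V) (u : V) : siegG Q u 0 = 1 := by
  apply Subtype.ext
  exact siegE_zero Q u

theorem siegG_mul (Q : QuadraticForm F V) {u w w' : V} (hu : Q u = 0)
    (huw : QuadraticMap.polar Q u w = 0) (huw' : QuadraticMap.polar Q u w' = 0) :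
    siegG Q u w * siegG Q u w' = siegG Q u (w + w') := by
  apply Subtype.ext
  exact siegE_mul Q hu huw huw'

theorem siegG_inv (Q : QuadraticForm F V) {u w : V} (hu : Q u = 0)
    (huw : QuadraticMap.polar Q u w = 0) : (siegG Q u w)⁻¹ = siegG Q u (-w) := by
  apply Subtype.ext
  exact siegE_inv Q hu huw

/-- **a subgroup containing the long root elements at `c` contains all Siegel transformations
at `c`.** -/
theorem siegG_mem_of_singular [Finite F] [FiniteDimensional F V] (Q : QuadraticForm F V)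
    (hQ : Nondeg Q) (h5 : 5 ≤ finrank F V) (K : Subgroup ↥(Isom Q)) {c : V} (hc : Q c = 0)
    (hK : ∀ u', Q u' = 0 → QuadraticMap.polar Q c u' = 0 → siegG Q c u' ∈ K) {w : V}
    (hcw : QuadraticMap.polar Q c w = 0) : siegG Q c w ∈ K := by
  by_cases hc0 : c = 0
  · rw [hc0, siegG_zero_left]
    exact K.one_mem
  obtain ⟨e, f, hde, hdf, he, hf, hef⟩ := exists_hyp_perp Q hQ h5 hc0
  have hwH : w ∈ LinearMap.ker (QuadraticMap.polarBilin Q c) := hcw
  have hspan := mem_span_singular Q (LinearMap.ker (QuadraticMap.polarBilin Q c))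
    (e := e) (f := f) hde hdf he hf hef hwH
  have key : ∀ w' ∈ Submodule.span F
      {c' | c' ∈ LinearMap.ker (QuadraticMap.polarBilin Q c) ∧ Q c' = 0},
      QuadraticMap.polar Q c w' = 0 ∧ ∀ l : F, siegG Q c (l • w') ∈ K := by
    intro w' hw'
    induction hw' using Submodule.span_induction with
    | mem x hx =>
      obtain ⟨hx1, hx2⟩ := hx
      have hx1' : QuadraticMap.polar Q c x = 0 := hx1
      refine ⟨hx1', fun l => hK _ ?_ ?_⟩
      · rw [QuadraticMap.map_smul, hx2, smul_zero]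
      · rw [QuadraticMap.polar_smul_right, hx1', smul_zero]
    | zero =>
      refine ⟨QuadraticMap.polar_zero_right _ _, fun l => ?_⟩
      rw [smul_zero, siegG_zero]
      exact K.one_mem
    | add x y _ _ ihx ihy =>
      refine ⟨by rw [QuadraticMap.polar_add_right, ihx.1, ihy.1, add_zero], fun l => ?_⟩
      rw [smul_add, ← siegG_mul Q hc (by rw [QuadraticMap.polar_smul_right, ihx.1, smul_zero])
        (by rw [QuadraticMap.polar_smul_right, ihy.1, smul_zero])]
      exact K.mul_mem (ihx.2 l) (ihy.2 l)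
    | smul a x _ ihx =>
      refine ⟨by rw [QuadraticMap.polar_smul_right, ihx.1, smul_zero], fun l => ?_⟩
      rw [smul_smul]
      exact ihx.2 (l * a)
  have := (key w hspan).2 1
  rwa [one_smul] at this

/-- **the Siegel group is perfect.** -/
theorem SG_le_commutator [Finite F] [FiniteDimensional F V] (Q : QuadraticForm F V)
    (hQ : Nondeg Q) (h5 : 5 ≤ finrank F V) : SG Q ≤ ⁅SG Q, SG Q⁆ := by
  unfold SG SGW
  rw [Subgroup.closure_le]
  rintro g ⟨c, -, w, -, hc, hcw, rfl⟩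
  show siegG Q c w ∈ ⁅SG Q, SG Q⁆
  apply siegG_mem_of_singular Q hQ h5 _ hc _ hcw
  intro u' hu' hcu'
  by_cases hc0 : c = 0
  · rw [hc0, siegG_zero_left]
    exact Subgroup.one_mem _
  by_cases hmem : u' ∈ Submodule.span F {c}
  · obtain ⟨μ, rfl⟩ := Submodule.mem_span_singleton.mp hmem
    have : siegG Q c (μ • c) = 1 := by
      apply Subtype.ext
      show siegE Q c (μ • c) = 1
      have h1 := siegE_smul_add Q hc (QuadraticMap.polar_zero_right _ c) μ
      rw [zero_add] at h1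
      rw [h1, siegE_zero]
    rw [this]
    exact Subgroup.one_mem _
  -- the generic case
  have hdim := finrank_perpPair_ge Q c u'
  obtain ⟨w₁, hw₁M, hw₁⟩ := exists_not_mem_span_pair (perpPair Q c u') (by omega) c u'
  rw [mem_perpPair] at hw₁M
  obtain ⟨w₂, hw₂S, hw₂⟩ := exists_dual_vec Q ((nondeg_iff Q).mpr hQ) (Submodule.span F {c, u'}) hw₁
  have hw₂c : QuadraticMap.polar Q w₂ c = 0 :=
    hw₂S c (Submodule.subset_span (Set.mem_insert _ _))
  have hw₂u' : QuadraticMap.polar Q w₂ u' = 0 :=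
    hw₂S u' (Submodule.subset_span (Set.mem_insert_of_mem _ rfl))
  have hu'w₂ : QuadraticMap.polar Q u' w₂ = 0 := by rw [QuadraticMap.polar_comm]; exact hw₂u'
  have hcw₂ : QuadraticMap.polar Q c w₂ = 0 := by rw [QuadraticMap.polar_comm]; exact hw₂c
  have hw₁w₂ : QuadraticMap.polar Q w₁ w₂ = 1 := by rw [QuadraticMap.polar_comm]; exact hw₂
  have hw₁u' : QuadraticMap.polar Q w₁ u' = 0 := by rw [QuadraticMap.polar_comm]; exact hw₁M.2
  have hg : siegG Q u' w₂ ∈ SG Q := siegG_mem_SG Q hu' hu'w₂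
  have hh : siegG Q c w₁ ∈ SG Q := siegG_mem_SG Q hc hw₁M.1
  have hcomm : ⁅siegG Q u' w₂, siegG Q c w₁⁆ = siegG Q c u' := by
    rw [commutatorElement_def, siegG_conj]
    have e1 : ((siegG Q u' w₂ : ↥(Isom Q)) : V ≃ₗ[F] V) c = c :=
      siegE_fix Q hcu' hcw₂
    have e2 : ((siegG Q u' w₂ : ↥(Isom Q)) : V ≃ₗ[F] V) w₁ = w₁ + u' := by
      show siegE Q u' w₂ w₁ = w₁ + u'
      rw [siegE_apply Q hu' hu'w₂, sieg_apply, hw₁w₂, hw₁u']
      simp
    rw [e1, e2, siegG_inv Q hc hw₁M.1, siegG_mul Q hc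
      (by rw [QuadraticMap.polar_add_right, hw₁M.1, hcu', add_zero])
      (by rw [QuadraticMap.polar_neg_right, hw₁M.1, neg_zero])]
    congr 1
    abel
  rw [← hcomm]
  exact Subgroup.commutator_mem_commutator hg hh

/-- the subgroup generated by the long root elements. -/
def SL (Q : QuadraticForm F V) : Subgroup ↥(Isom Q) :=
  Subgroup.closure {g | ∃ u v : V, Q u = 0 ∧ Q v = 0 ∧ QuadraticMap.polar Q u v = 0 ∧
    g = siegG Q u v}

theorem SG_eq_SL [Finite F] [FiniteDimensional F V] (Q : QuadraticForm F V)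
    (hQ : Nondeg Q) (h5 : 5 ≤ finrank F V) : SG Q = SL Q := by
  apply le_antisymm
  · unfold SG SGW
    rw [Subgroup.closure_le]
    rintro g ⟨c, -, w, -, hc, hcw, rfl⟩
    apply siegG_mem_of_singular Q hQ h5 _ hc _ hcw
    intro u' hu' hcu'
    exact Subgroup.subset_closure ⟨c, u', hc, hu', hcu', rfl⟩
  · unfold SL
    rw [Subgroup.closure_le]
    rintro g ⟨u, v, hu, -, huv, rfl⟩
    exact siegG_mem_SG Q hu huv

/-- **the commutator subgroup of the isometry group is the Siegel group.** -/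
theorem commutator_eq_SG [Finite F] [FiniteDimensional F V] (Q : QuadraticForm F V)
    (hQ : Nondeg Q) (h5 : 5 ≤ finrank F V)
    (hgen : Subgroup.closure {g : ↥(Isom Q) | ∃ z, Q z ≠ 0 ∧ g = reflG Q z} = ⊤) :
    commutator ↥(Isom Q) = SG Q := by
  apply le_antisymm (commutator_le_SG Q hQ h5 hgen)
  refine le_trans (SG_le_commutator Q hQ h5) ?_
  rw [commutator_def]
  exact Subgroup.commutator_mono le_top le_top

/-- the Siegel group is perfect, as a group. -/
theorem commutator_SG_eq_top [Finite F] [FiniteDimensional F V] (Q : QuadraticForm F V)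
    (hQ : Nondeg Q) (h5 : 5 ≤ finrank F V) : commutator ↥(SG Q) = ⊤ := by
  have h1 := Subgroup.map_subtype_commutator (SG Q)
  have h2 : ⁅SG Q, SG Q⁆ = SG Q :=
    le_antisymm (Subgroup.commutator_le_right _ _) (SG_le_commutator Q hQ h5)
  rw [h2] at h1
  rw [eq_top_iff]
  intro x _
  have hx : (x : ↥(Isom Q)) ∈ (commutator ↥(SG Q)).map (SG Q).subtype := by
    rw [h1]
    exact x.2
  obtain ⟨y, hy, hyx⟩ := hx
  have : y = x := Subtype.ext hyx
  rw [← this]
  exact hy

end Cfsg.Agent.Helper8.SiegelGroup
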