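import Mathlib
import Cfsg.Agent.Helper8.SiegelGroup

set_option autoImplicit false

/-!
# Primitivity of the Siegel group on singular points, and simplicity modulo the centre (helper8)
-/

namespace Cfsg.Agent.Helper8.SiegelPrim

open Module Cfsg.Agent.Helper8.QuadForm Cfsg.Agent.Helper8.WittQuad Cfsg.Agent.Helper8.OrthOrder
  Cfsg.Agent.Helper8.Siegel Cfsg.Agent.Helper8.SiegelGeom Cfsg.Agent.Helper8.SiegelGroup

open scoped Pointwise

/-- **a rank three criterion for primitivity.** -/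
theorem isPreprimitive_of_rank3 {G X : Type*} [Group G] [MulAction G X]
    [MulAction.IsPretransitive G X] (R : X → X → Prop) (hrefl : ∀ x, R x x)
    (hsymm : ∀ x y, R x y → R y x)
    (h1 : ∀ x y y', y ≠ x → y' ≠ x → (R x y ↔ R x y') → ∃ g : G, g • x = x ∧ g • y = y')
    (h3 : ∀ x z, x ≠ z → R x z → ∃ y, ¬ R x y ∧ ¬ R z y)
    (h4 : ∀ x z, ¬ R x z → ∃ y, y ≠ x ∧ y ≠ z ∧ R x y ∧ R z y) :
    MulAction.IsPreprimitive G X := by
  refine { toIsPretransitive := inferInstance, isTrivialBlock_of_isBlock := ?_ }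
  intro B hB
  by_cases hsub : B.Subsingleton
  · exact Or.inl hsub
  right
  rw [Set.not_subsingleton_iff] at hsub
  obtain ⟨x, hx, y, hy, hxy⟩ := hsub
  have claimA : ∀ x y y', x ∈ B → y ∈ B → y ≠ x → y' ≠ x → (R x y ↔ R x y') → y' ∈ B := by
    intro x y y' hx hy hyx hy'x hR
    obtain ⟨g, hgx, hgy⟩ := h1 x y y' hyx hy'x hR
    have hgB : g • B = B := hB.smul_eq_of_mem hx (by rw [hgx]; exact hx)
    rw [← hgB, ← hgy]
    exact Set.smul_mem_smul_set hy
  apply Set.eq_univ_of_forall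
  intro z
  by_cases hzx : z = x
  · rw [hzx]; exact hx
  by_cases hRxy : R x y
  · by_cases hRxz : R x z
    · exact claimA x y z hx hy (Ne.symm hxy) hzx (by simp [hRxy, hRxz])
    · obtain ⟨y₁, hy₁x, hy₁z, hRxy₁, hRzy₁⟩ := h4 x z hRxz
      have hy₁B : y₁ ∈ B := claimA x y y₁ hx hy (Ne.symm hxy) hy₁x (by simp [hRxy, hRxy₁])
      exact claimA y₁ x z hy₁B hx (Ne.symm hy₁x) (Ne.symm hy₁z)
        (by simp [hsymm _ _ hRxy₁, hsymm _ _ hRzy₁])
  · by_cases hRxz : R x z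
    · obtain ⟨y₁, hRxy₁, hRzy₁⟩ := h3 x z (Ne.symm hzx) hRxz
      have hy₁x : y₁ ≠ x := by
        rintro rfl
        exact hRxy₁ (hrefl _)
      have hy₁z : y₁ ≠ z := by
        rintro rfl
        exact hRzy₁ (hrefl _)
      have hy₁B : y₁ ∈ B := claimA x y y₁ hx hy (Ne.symm hxy) hy₁x (by simp [hRxy, hRxy₁])
      have e1 : ¬ R y₁ x := fun h => hRxy₁ (hsymm _ _ h)
      have e2 : ¬ R y₁ z := fun h => hRzy₁ (hsymm _ _ h)
      exact claimA y₁ x z hy₁B hx (Ne.symm hy₁x) (Ne.symm hy₁z) (by simp [e1, e2])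
    · exact claimA x y z hx hy (Ne.symm hxy) hzx (by simp [hRxy, hRxz])

/-- **Iwasawa's criterion, modulo the centre.** -/
theorem isSimpleGroup_quot_center {G α : Type*} [Group G] [MulAction G α]
    [MulAction.IsQuasiPreprimitive G α] (Iw : MulAction.IwasawaStructure G α)
    (hperf : commutator G = ⊤) (hnt : Nontrivial G)
    (hfix : ∀ g : G, (∀ x : α, g • x = x) → g ∈ Subgroup.center G) :
    IsSimpleGroup (G ⧸ Subgroup.center G) := by
  have hZ : Subgroup.center G ≠ ⊤ := by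
    intro hZ
    have := (commutator_eq_bot_iff_center_eq_top _).mpr hZ
    rw [hperf] at this
    exact top_ne_bot this
  have : Nontrivial (G ⧸ Subgroup.center G) := by
    by_contra hnt'
    rw [not_nontrivial_iff_subsingleton] at hnt'
    exact hZ (QuotientGroup.subgroup_eq_top_of_subsingleton _ hnt')
  apply IsSimpleGroup.mk
  intro N hN
  obtain ⟨π, hπ⟩ : ∃ π : G →* G ⧸ Subgroup.center G, π = QuotientGroup.mk' (Subgroup.center G) :=
    ⟨_, rfl⟩
  have hπs : Function.Surjective π := by rw [hπ]; exact QuotientGroup.mk'_surjective _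
  have hN' : (N.comap π).Normal := hN.comap π
  by_cases hfix' : MulAction.fixedPoints (N.comap π) α = Set.univ
  · left
    rw [Subgroup.eq_bot_iff_forall]
    intro x hx
    obtain ⟨g, rfl⟩ := hπs x
    have hg : g ∈ N.comap π := hx
    have hc : g ∈ Subgroup.center G := by
      apply hfix
      intro P
      have hP : P ∈ MulAction.fixedPoints (N.comap π) α := by
        rw [hfix']; exact Set.mem_univ P
      exact hP ⟨g, hg⟩
    rw [hπ, QuotientGroup.mk'_apply, QuotientGroup.eq_one_iff]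
    exact hc
  · right
    have hle := Iw.commutator_le (N.comap π) hfix'
    rw [hperf, top_le_iff] at hle
    rw [eq_top_iff]
    intro x _
    obtain ⟨g, rfl⟩ := hπs x
    have : g ∈ N.comap π := by rw [hle]; exact Subgroup.mem_top g
    exact this

variable {F : Type*} [Field F] {V : Type*} [AddCommGroup V] [Module F V]

/-! ### singular points -/

/-- the singular points of a quadratic space. -/
def SPt (Q : QuadraticForm F V) : Type _ :=
  {p : Submodule F V // ∃ u : V, u ≠ 0 ∧ Q u = 0 ∧ p = Submodule.span F {u}}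

/-- the point spanned by a nonzero singular vector. -/
def mkPt (Q : QuadraticForm F V) (u : V) (hu0 : u ≠ 0) (hu : Q u = 0) : SPt Q :=
  ⟨Submodule.span F {u}, u, hu0, hu, rfl⟩

theorem exists_rep (Q : QuadraticForm F V) (p : SPt Q) :
    ∃ (u : V) (hu0 : u ≠ 0) (hu : Q u = 0), p = mkPt Q u hu0 hu := by
  obtain ⟨u, hu0, hu, hp⟩ := p.2
  exact ⟨u, hu0, hu, Subtype.ext hp⟩

theorem mkPt_eq_iff (Q : QuadraticForm F V) {u u' : V} (hu0 : u ≠ 0) (hu : Q u = 0)
    (hu0' : u' ≠ 0) (hu' : Q u' = 0) :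
    mkPt Q u hu0 hu = mkPt Q u' hu0' hu' ↔ ∃ t : F, t ≠ 0 ∧ u' = t • u := by
  constructor
  · intro h
    have h1 : Submodule.span F {u} = Submodule.span F {u'} := congrArg Subtype.val h
    obtain ⟨z, hz⟩ := Submodule.span_singleton_eq_span_singleton.mp h1
    exact ⟨(z : F), z.ne_zero, hz.symm⟩
  · rintro ⟨t, ht, rfl⟩
    apply Subtype.ext
    show Submodule.span F {u} = Submodule.span F {t • u}
    exact (Submodule.span_singleton_smul_eq (IsUnit.mk0 t ht) u).symm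

theorem mkPt_eq_of_smul (Q : QuadraticForm F V) {u u' : V} (hu0 : u ≠ 0) (hu : Q u = 0)
    (hu0' : u' ≠ 0) (hu' : Q u' = 0) {t : F} (h : u' = t • u) :
    mkPt Q u hu0 hu = mkPt Q u' hu0' hu' := by
  rw [mkPt_eq_iff]
  refine ⟨t, ?_, h⟩
  rintro rfl
  rw [zero_smul] at h
  exact hu0' h

noncomputable instance instAct (Q : QuadraticForm F V) : MulAction ↥(Isom Q) (SPt Q) where
  smul g p := ⟨p.1.map ((g : V ≃ₗ[F] V) : V →ₗ[F] V), by
    obtain ⟨u, hu0, hu, hp⟩ := p.2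
    refine ⟨(g : V ≃ₗ[F] V) u, ?_, ?_, ?_⟩
    · intro h
      exact hu0 ((g : V ≃ₗ[F] V).map_eq_zero_iff.mp h)
    · rw [g.2 u, hu]
    · rw [hp, Submodule.map_span, Set.image_singleton]
      rfl⟩
  one_smul p := Subtype.ext (Submodule.map_id p.1)
  mul_smul g h p := Subtype.ext (by
    show p.1.map (((g * h : ↥(Isom Q)) : V ≃ₗ[F] V) : V →ₗ[F] V)
      = (p.1.map ((h : V ≃ₗ[F] V) : V →ₗ[F] V)).map ((g : V ≃ₗ[F] V) : V →ₗ[F] V)
    rw [← Submodule.map_comp]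
    rfl)

theorem smul_mkPt (Q : QuadraticForm F V) (g : ↥(Isom Q)) {u : V} (hu0 : u ≠ 0) (hu : Q u = 0) :
    g • mkPt Q u hu0 hu = mkPt Q ((g : V ≃ₗ[F] V) u)
      (fun h => hu0 ((g : V ≃ₗ[F] V).map_eq_zero_iff.mp h)) (by rw [g.2 u, hu]) := by
  apply Subtype.ext
  show (Submodule.span F {u}).map ((g : V ≃ₗ[F] V) : V →ₗ[F] V)
    = Submodule.span F {(g : V ≃ₗ[F] V) u}
  rw [Submodule.map_span, Set.image_singleton]
  rfl

/-- orthogonality of singular points. -/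
def Perp (Q : QuadraticForm F V) (p p' : SPt Q) : Prop :=
  ∀ x ∈ p.1, ∀ y ∈ p'.1, QuadraticMap.polar Q x y = 0

theorem perp_mkPt (Q : QuadraticForm F V) {u u' : V} (hu0 : u ≠ 0) (hu : Q u = 0)
    (hu0' : u' ≠ 0) (hu' : Q u' = 0) :
    Perp Q (mkPt Q u hu0 hu) (mkPt Q u' hu0' hu') ↔ QuadraticMap.polar Q u u' = 0 := by
  constructor
  · intro h
    exact h u (Submodule.mem_span_singleton_self u) u' (Submodule.mem_span_singleton_self u')
  · intro h x hx y hy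
    obtain ⟨a, rfl⟩ := Submodule.mem_span_singleton.mp hx
    obtain ⟨b, rfl⟩ := Submodule.mem_span_singleton.mp hy
    rw [QuadraticMap.polar_smul_left, QuadraticMap.polar_smul_right, h, smul_zero, smul_zero]

/-! ### the stabilizer of a singular point is transitive on its two orbits -/

/-- the non-orthogonal orbit. -/
theorem exists_stab_nonperp (Q : QuadraticForm F V) {u a a' : V} (hu : Q u = 0) (ha : Q a = 0)
    (ha' : Q a' = 0) (hua : QuadraticMap.polar Q u a ≠ 0) (hua' : QuadraticMap.polar Q u a' ≠ 0) :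
    ∃ g ∈ SG Q, (g : V ≃ₗ[F] V) u = u ∧ ∃ t : F, t ≠ 0 ∧ (g : V ≃ₗ[F] V) a = t • a' := by
  obtain ⟨α, hα⟩ : ∃ α : F, α = QuadraticMap.polar Q u a := ⟨_, rfl⟩
  obtain ⟨α', hα'⟩ : ∃ α' : F, α' = QuadraticMap.polar Q u a' := ⟨_, rfl⟩
  have hα0 : α ≠ 0 := by rw [hα]; exact hua
  have hα'0 : α' ≠ 0 := by rw [hα']; exact hua'
  have h1 : QuadraticMap.polar Q u (α⁻¹ • a) = 1 := by
    rw [QuadraticMap.polar_smul_right, ← hα, smul_eq_mul, inv_mul_cancel₀ hα0]
  have h2 : QuadraticMap.polar Q u (α'⁻¹ • a') = 1 := by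
    rw [QuadraticMap.polar_smul_right, ← hα', smul_eq_mul, inv_mul_cancel₀ hα'0]
  have h3 : Q (α⁻¹ • a) = Q (α'⁻¹ • a') := by
    rw [QuadraticMap.map_smul, QuadraticMap.map_smul, ha, ha', smul_zero, smul_zero]
  obtain ⟨h4, h5⟩ := sieg_move Q hu h3 h1 h2
  refine ⟨siegG Q u (α⁻¹ • a - α'⁻¹ • a'), siegG_mem_SG Q hu h4, siegE_self Q _ _, α / α',
    div_ne_zero hα0 hα'0, ?_⟩
  show siegE Q u (α⁻¹ • a - α'⁻¹ • a') a = (α / α') • a'
  have h6 : ∀ g : V ≃ₗ[F] V, g a = α • g (α⁻¹ • a) := by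
    intro g
    rw [map_smul, smul_smul, mul_inv_cancel₀ hα0, one_smul]
  rw [h6, h5, smul_smul, div_eq_mul_inv]

/-- the orthogonal orbit. -/
theorem exists_stab_perp [Finite F] [FiniteDimensional F V] (Q : QuadraticForm F V)
    (hQ : Nondeg Q) (h5 : 5 ≤ finrank F V) {u a a' : V} (hu0 : u ≠ 0) (hu : Q u = 0)
    (ha : Q a = 0) (ha' : Q a' = 0) (hua : QuadraticMap.polar Q u a = 0)
    (hua' : QuadraticMap.polar Q u a' = 0) (han : a ∉ Submodule.span F {u})
    (han' : a' ∉ Submodule.span F {u}) :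
    ∃ g ∈ SG Q, (g : V ≃ₗ[F] V) u = u ∧ ∃ t : F, t ≠ 0 ∧ (g : V ≃ₗ[F] V) a = t • a' := by
  obtain ⟨v, hv, huv⟩ := exists_hyperbolic_pair Q hQ hu0 hu
  have hvu : QuadraticMap.polar Q v u = 1 := by rw [QuadraticMap.polar_comm]; exact huv
  have huu : QuadraticMap.polar Q u u = 0 := by rw [polar_self', hu, mul_zero]
  have hWnd : NondegOn Q (perpPair Q u v) := perpPair_nondeg Q hQ hu hv huv
  have hWdim := finrank_perpPair Q hu hv huv
  have hWu : ∀ w ∈ perpPair Q u v, QuadraticMap.polar Q u w = 0 := by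
    intro w hw
    rw [mem_perpPair] at hw
    exact hw.1
  -- step one: moving a vector of `u^⊥` into `W`
  have step : ∀ b : V, Q b = 0 → QuadraticMap.polar Q u b = 0 → b ∉ Submodule.span F {u} →
      ∃ b' ∈ perpPair Q u v, Q b' = 0 ∧ b' ≠ 0 ∧ ∃ g ∈ SG Q, (g : V ≃ₗ[F] V) u = u ∧
        (g : V ≃ₗ[F] V) b = b' := by
    intro b hb hub hbn
    obtain ⟨α, hα⟩ : ∃ α : F, α = QuadraticMap.polar Q v b := ⟨_, rfl⟩
    obtain ⟨b', hb'⟩ : ∃ b' : V, b' = b - α • u := ⟨_, rfl⟩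
    have hbu : QuadraticMap.polar Q b u = 0 := by rw [QuadraticMap.polar_comm]; exact hub
    have hb'W : b' ∈ perpPair Q u v := by
      have := proj_mem Q hu hv huv b
      rw [hub, zero_smul, sub_zero, ← hα, ← hb'] at this
      exact this
    have hb'0 : b' ≠ 0 := by
      intro h0
      apply hbn
      rw [hb', sub_eq_zero] at h0
      rw [h0]
      exact Submodule.smul_mem _ _ (Submodule.mem_span_singleton_self u)
    have hb'Q : Q b' = 0 := by
      rw [hb', sub_eq_add_neg, QuadraticMap.map_add Q, QuadraticMap.map_neg, QuadraticMap.map_smul,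
        hb, hu, QuadraticMap.polar_neg_right, QuadraticMap.polar_smul_right, hbu]
      simp
    have hex : ∃ z ∈ perpPair Q u v, QuadraticMap.polar Q b' z ≠ 0 := by
      by_contra h
      push Not at h
      exact hb'0 (hWnd b' hb'W h)
    obtain ⟨z, hzW, hz⟩ := hex
    obtain ⟨w₁, hw₁⟩ : ∃ w₁ : V, w₁ = (-α / QuadraticMap.polar Q b' z) • z := ⟨_, rfl⟩
    have hw₁W : w₁ ∈ perpPair Q u v := by rw [hw₁]; exact Submodule.smul_mem _ _ hzW
    have huw₁ : QuadraticMap.polar Q u w₁ = 0 := hWu w₁ hw₁W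
    have hb'w₁ : QuadraticMap.polar Q b' w₁ = -α := by
      rw [hw₁, QuadraticMap.polar_smul_right, smul_eq_mul]
      field_simp
    have hbw₁ : QuadraticMap.polar Q b w₁ = -α := by
      have : b = b' + α • u := by rw [hb']; abel
      rw [this, QuadraticMap.polar_add_left, QuadraticMap.polar_smul_left, huw₁, hb'w₁]
      simp
    refine ⟨b', hb'W, hb'Q, hb'0, siegG Q u w₁, siegG_mem_SG Q hu huw₁, siegE_self Q _ _, ?_⟩
    show siegE Q u w₁ b = b'
    rw [siegE_apply Q hu huw₁, sieg_apply, hbw₁, hbu, hb']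
    simp only [zero_smul, mul_zero, sub_zero, neg_smul]
    abel
  obtain ⟨b, hbW, hbQ, hb0, g₁, hg₁, hg₁u, hg₁a⟩ := step a ha hua han
  obtain ⟨b', hb'W, hb'Q, hb'0, g₁', hg₁', hg₁'u, hg₁'a⟩ := step a' ha' hua' han'
  obtain ⟨g₂, hg₂, t, ht, hg₂b⟩ := exists_SGW_smul Q (perpPair Q u v) hWnd (by omega) hbW hb'W hbQ
    hb'Q hb0 hb'0
  have hg₂u : (g₂ : V ≃ₗ[F] V) u = u := SGW_fix Q _ hg₂ hWu
  have hinv : ∀ x y : V, (g₁' : V ≃ₗ[F] V) x = y → ((g₁'⁻¹ : ↥(Isom Q)) : V ≃ₗ[F] V) y = x := by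
    intro x y hxy
    rw [← hxy]
    exact (g₁' : V ≃ₗ[F] V).symm_apply_apply x
  refine ⟨g₁'⁻¹ * g₂ * g₁, (SG Q).mul_mem ((SG Q).mul_mem ((SG Q).inv_mem hg₁')
    (SGW_le_SG Q _ hg₂)) hg₁, ?_, t, ht, ?_⟩
  · show ((g₁'⁻¹ : ↥(Isom Q)) : V ≃ₗ[F] V) ((g₂ : V ≃ₗ[F] V) ((g₁ : V ≃ₗ[F] V) u)) = u
    rw [hg₁u, hg₂u]
    exact hinv u u hg₁'u
  · show ((g₁'⁻¹ : ↥(Isom Q)) : V ≃ₗ[F] V) ((g₂ : V ≃ₗ[F] V) ((g₁ : V ≃ₗ[F] V) a)) = t • a'
    rw [hg₁a, hg₂b, map_smul]
    congr 1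
    exact hinv a' b' hg₁'a

end Cfsg.Agent.Helper8.SiegelPrim
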