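import Mathlib
import Cfsg.Agent.Helper8.SiegelPrim

set_option autoImplicit false

/-!
# The Siegel group modulo its centre is simple (helper8)

Dimension at least five over a finite field, nondegenerate polar form.
-/

namespace Cfsg.Agent.Helper8.SiegelSimple

open Module Cfsg.Agent.Helper8.QuadForm Cfsg.Agent.Helper8.WittQuad Cfsg.Agent.Helper8.OrthOrder
  Cfsg.Agent.Helper8.Siegel Cfsg.Agent.Helper8.SiegelGeom Cfsg.Agent.Helper8.SiegelGroup
  Cfsg.Agent.Helper8.SiegelPrim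

open scoped Pointwise

variable {F : Type*} [Field F] {V : Type*} [AddCommGroup V] [Module F V]

theorem nondegOn_top (Q : QuadraticForm F V) (hQ : Nondeg Q) : NondegOn Q ⊤ :=
  fun w _ h => hQ w (fun w' => h w' trivial)

theorem smul_def' (Q : QuadraticForm F V) (s : ↥(SG Q)) (p : SPt Q) :
    s • p = (s : ↥(Isom Q)) • p := rfl

theorem isPretransitive [Finite F] [FiniteDimensional F V] (Q : QuadraticForm F V) (hQ : Nondeg Q)
    (h5 : 5 ≤ finrank F V) : MulAction.IsPretransitive ↥(SG Q) (SPt Q) := by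
  constructor
  intro p p'
  obtain ⟨a, ha0, ha, rfl⟩ := exists_rep Q p
  obtain ⟨a', ha'0, ha', rfl⟩ := exists_rep Q p'
  obtain ⟨g, hg, t, ht, hga⟩ := exists_SGW_smul Q ⊤ (nondegOn_top Q hQ)
    (by rw [finrank_top]; omega) (Submodule.mem_top (x := a)) (Submodule.mem_top (x := a')) ha ha'
    ha0 ha'0
  refine ⟨⟨g, hg⟩, ?_⟩
  rw [smul_def', smul_mkPt]
  exact (mkPt_eq_of_smul Q ha'0 ha' _ _ hga).symm

theorem not_mem_span_of_ne (Q : QuadraticForm F V) {u a : V} (hu0 : u ≠ 0) (hu : Q u = 0)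
    (ha0 : a ≠ 0) (ha : Q a = 0) (h : mkPt Q a ha0 ha ≠ mkPt Q u hu0 hu) :
    a ∉ Submodule.span F {u} := by
  intro hmem
  obtain ⟨t, rfl⟩ := Submodule.mem_span_singleton.mp hmem
  exact h (mkPt_eq_of_smul Q hu0 hu ha0 ha rfl).symm

theorem isPreprimitive [Finite F] [FiniteDimensional F V] (Q : QuadraticForm F V) (hQ : Nondeg Q)
    (h5 : 5 ≤ finrank F V) : MulAction.IsPreprimitive ↥(SG Q) (SPt Q) := by
  haveI := isPretransitive Q hQ h5
  apply isPreprimitive_of_rank3 (Perp Q)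
  · intro p
    obtain ⟨a, ha0, ha, rfl⟩ := exists_rep Q p
    rw [perp_mkPt, polar_self', ha, mul_zero]
  · intro p p' h x hx y hy
    rw [QuadraticMap.polar_comm]
    exact h y hy x hx
  · intro x y y' hyx hy'x hR
    obtain ⟨u, hu0, hu, rfl⟩ := exists_rep Q x
    obtain ⟨a, ha0, ha, rfl⟩ := exists_rep Q y
    obtain ⟨a', ha'0, ha', rfl⟩ := exists_rep Q y'
    rw [perp_mkPt, perp_mkPt] at hR
    have han := not_mem_span_of_ne Q hu0 hu ha0 ha hyx
    have han' := not_mem_span_of_ne Q hu0 hu ha'0 ha' hy'x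
    have key : ∃ g ∈ SG Q, (g : V ≃ₗ[F] V) u = u ∧ ∃ t : F, t ≠ 0 ∧ (g : V ≃ₗ[F] V) a = t • a' := by
      by_cases hua : QuadraticMap.polar Q u a = 0
      · exact exists_stab_perp Q hQ h5 hu0 hu ha ha' hua (hR.mp hua) han han'
      · exact exists_stab_nonperp Q hu ha ha' hua (fun h => hua (hR.mpr h))
    obtain ⟨g, hg, hgu, t, ht, hga⟩ := key
    refine ⟨⟨g, hg⟩, ?_, ?_⟩
    · rw [smul_def', smul_mkPt]
      exact (mkPt_eq_of_smul Q hu0 hu _ _ (by rw [hgu, one_smul] : (g : V ≃ₗ[F] V) u = (1 : F) • u)).symm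
    · rw [smul_def', smul_mkPt]
      exact (mkPt_eq_of_smul Q ha'0 ha' _ _ hga).symm
  · intro x z hxz hR
    obtain ⟨a, ha0, ha, rfl⟩ := exists_rep Q x
    obtain ⟨a', ha'0, ha', rfl⟩ := exists_rep Q z
    obtain ⟨c, -, hc, hca, hca'⟩ := exists_nonperp Q ⊤ (nondegOn_top Q hQ)
      (by rw [finrank_top]; omega) (Submodule.mem_top (x := a)) (Submodule.mem_top (x := a')) ha ha'
      ha0 ha'0
    have hc0 : c ≠ 0 := by
      rintro rfl
      exact hca (QuadraticMap.polar_zero_left _ _)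
    refine ⟨mkPt Q c hc0 hc, ?_, ?_⟩
    · rw [perp_mkPt, QuadraticMap.polar_comm]; exact hca
    · rw [perp_mkPt, QuadraticMap.polar_comm]; exact hca'
  · intro x z hR
    obtain ⟨a, ha0, ha, rfl⟩ := exists_rep Q x
    obtain ⟨a', ha'0, ha', rfl⟩ := exists_rep Q z
    rw [perp_mkPt] at hR
    have hdim := finrank_perpPair_ge Q a a'
    obtain ⟨⟨c, hcM⟩, hc0, hc⟩ := exists_singular (Q.comp (perpPair Q a a').subtype) (by omega)
    have hc0' : c ≠ 0 := fun h => hc0 (Subtype.ext h)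
    have hcQ : Q c = 0 := hc
    rw [mem_perpPair] at hcM
    refine ⟨mkPt Q c hc0' hcQ, ?_, ?_, ?_, ?_⟩
    · intro h
      rw [mkPt_eq_iff] at h
      obtain ⟨t, ht, hta⟩ := h
      apply hR
      rw [hta, QuadraticMap.polar_smul_left, QuadraticMap.polar_comm, hcM.2, smul_zero]
    · intro h
      rw [mkPt_eq_iff] at h
      obtain ⟨t, ht, hta⟩ := h
      apply hR
      rw [hta, QuadraticMap.polar_smul_right, hcM.1, smul_zero]
    · rw [perp_mkPt]; exact hcM.1
    · rw [perp_mkPt]; exact hcM.2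

/-! ### root subgroups and the Iwasawa structure -/

theorem siegG_mul' (Q : QuadraticForm F V) {u w w' : V}
    (huw : QuadraticMap.polar Q u w = 0) (huw' : QuadraticMap.polar Q u w' = 0) :
    siegG Q u w * siegG Q u w' = siegG Q u (w + w') := by
  by_cases hu : Q u = 0
  · exact siegG_mul Q hu huw huw'
  · apply Subtype.ext
    show siegE Q u w * siegE Q u w' = siegE Q u (w + w')
    rw [siegE_of_not Q (fun h => hu h.1), siegE_of_not Q (fun h => hu h.1),
      siegE_of_not Q (fun h => hu h.1), mul_one]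

theorem siegG_inv' (Q : QuadraticForm F V) {u w : V}
    (huw : QuadraticMap.polar Q u w = 0) : (siegG Q u w)⁻¹ = siegG Q u (-w) := by
  rw [inv_eq_iff_mul_eq_one, siegG_mul' Q huw (by rw [QuadraticMap.polar_neg_right, huw, neg_zero]),
    add_neg_cancel, siegG_zero]

theorem siegG_smul_left' (Q : QuadraticForm F V) {u w : V} (t : F)
    (huw : QuadraticMap.polar Q u w = 0) : siegG Q (t • u) w = siegG Q u (t • w) := by
  apply Subtype.ext
  show siegE Q (t • u) w = siegE Q u (t • w)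
  by_cases hu : Q u = 0
  · exact siegE_smul_left Q hu huw t
  · by_cases ht : t = 0
    · rw [ht, zero_smul, zero_smul, siegE_zero]
      apply LinearEquiv.ext
      intro x
      rw [siegE_apply Q (map_zero Q) (QuadraticMap.polar_zero_left _ _), sieg_apply]
      simp
    · have h1 : ¬ (Q (t • u) = 0 ∧ QuadraticMap.polar Q (t • u) w = 0) := by
        rintro ⟨h, -⟩
        rw [QuadraticMap.map_smul, smul_eq_mul] at h
        rcases mul_eq_zero.mp h with h | h
        · exact ht (mul_self_eq_zero.mp h)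
        · exact hu h
      rw [siegE_of_not Q h1, siegE_of_not Q (fun h => hu h.1)]

/-- the root subgroup attached to a vector. -/
def rootSub (Q : QuadraticForm F V) (u : V) : Subgroup ↥(SG Q) where
  carrier := {s | ∃ w, QuadraticMap.polar Q u w = 0 ∧ (s : ↥(Isom Q)) = siegG Q u w}
  mul_mem' := by
    rintro a b ⟨w, hw, ha⟩ ⟨w', hw', hb⟩
    refine ⟨w + w', by rw [QuadraticMap.polar_add_right, hw, hw', add_zero], ?_⟩
    rw [Subgroup.coe_mul, ha, hb, siegG_mul' Q hw hw']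
  one_mem' := ⟨0, QuadraticMap.polar_zero_right _ _, by rw [siegG_zero]; rfl⟩
  inv_mem' := by
    rintro a ⟨w, hw, ha⟩
    refine ⟨-w, by rw [QuadraticMap.polar_neg_right, hw, neg_zero], ?_⟩
    rw [Subgroup.coe_inv, ha, siegG_inv' Q hw]

theorem mem_rootSub (Q : QuadraticForm F V) (u : V) (s : ↥(SG Q)) :
    s ∈ rootSub Q u ↔ ∃ w, QuadraticMap.polar Q u w = 0 ∧ (s : ↥(Isom Q)) = siegG Q u w := Iff.rfl

theorem rootSub_smul (Q : QuadraticForm F V) {t : F} (ht : t ≠ 0) (u : V) :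
    rootSub Q (t • u) = rootSub Q u := by
  ext s
  rw [mem_rootSub, mem_rootSub]
  constructor
  · rintro ⟨w, hw, hs⟩
    rw [QuadraticMap.polar_smul_left, smul_eq_mul] at hw
    have hw' : QuadraticMap.polar Q u w = 0 := by
      rcases mul_eq_zero.mp hw with h | h
      · exact absurd h ht
      · exact h
    refine ⟨t • w, by rw [QuadraticMap.polar_smul_right, hw', smul_zero], ?_⟩
    rw [hs, siegG_smul_left' Q t hw']
  · rintro ⟨w, hw, hs⟩
    refine ⟨t⁻¹ • w, by
      rw [QuadraticMap.polar_smul_left, QuadraticMap.polar_smul_right, hw, smul_zero, smul_zero], ?_⟩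
    rw [hs, siegG_smul_left' Q t (by rw [QuadraticMap.polar_smul_right, hw, smul_zero]), smul_smul,
      mul_inv_cancel₀ ht, one_smul]

theorem rootSub_conj (Q : QuadraticForm F V) (g : ↥(SG Q)) (u : V) :
    rootSub Q (((g : ↥(Isom Q)) : V ≃ₗ[F] V) u) = MulAut.conj g • rootSub Q u := by
  ext s
  rw [Subgroup.mem_smul_pointwise_iff_exists, mem_rootSub]
  constructor
  · rintro ⟨w, hw, hs⟩
    obtain ⟨w₀, hw₀⟩ : ∃ w₀ : V, w₀ = ((g⁻¹ : ↥(SG Q)) : ↥(Isom Q)).1 w := ⟨_, rfl⟩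
    have hgw₀ : ((g : ↥(Isom Q)) : V ≃ₗ[F] V) w₀ = w := by
      rw [hw₀]
      show ((g : ↥(Isom Q)) : V ≃ₗ[F] V) (((g : ↥(Isom Q)) : V ≃ₗ[F] V)⁻¹ w) = w
      exact ((g : ↥(Isom Q)) : V ≃ₗ[F] V).apply_symm_apply w
    have hw₀' : QuadraticMap.polar Q u w₀ = 0 := by
      rw [← polar_isometry Q ((g : ↥(Isom Q)) : V ≃ₗ[F] V) (g : ↥(Isom Q)).2, hgw₀, hw]
    have hmem : siegG Q u w₀ ∈ SG Q := by
      by_cases hu : Q u = 0
      · exact siegG_mem_SG Q hu hw₀'
      · have : siegG Q u w₀ = 1 := by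
          apply Subtype.ext
          exact siegE_of_not Q (fun h => hu h.1)
        rw [this]
        exact (SG Q).one_mem
    refine ⟨⟨siegG Q u w₀, hmem⟩, ⟨w₀, hw₀', rfl⟩, ?_⟩
    rw [MulAut.smul_def, MulAut.conj_apply]
    apply Subtype.ext
    rw [Subgroup.coe_mul, Subgroup.coe_mul, Subgroup.coe_inv, hs]
    show (g : ↥(Isom Q)) * siegG Q u w₀ * (g : ↥(Isom Q))⁻¹ = _
    rw [siegG_conj, hgw₀]
  · rintro ⟨s₀, ⟨w, hw, hs₀⟩, rfl⟩
    refine ⟨((g : ↥(Isom Q)) : V ≃ₗ[F] V) w, ?_, ?_⟩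
    · rw [polar_isometry Q ((g : ↥(Isom Q)) : V ≃ₗ[F] V) (g : ↥(Isom Q)).2, hw]
    · rw [MulAut.smul_def, MulAut.conj_apply, Subgroup.coe_mul, Subgroup.coe_mul, Subgroup.coe_inv,
        hs₀, siegG_conj]

/-- the subgroups of the Iwasawa structure. -/
noncomputable def iwT (Q : QuadraticForm F V) (p : SPt Q) : Subgroup ↥(SG Q) :=
  rootSub Q (Classical.choose p.2)

theorem iwT_mkPt (Q : QuadraticForm F V) {u : V} (hu0 : u ≠ 0) (hu : Q u = 0) :
    iwT Q (mkPt Q u hu0 hu) = rootSub Q u := by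
  unfold iwT
  obtain ⟨h1, h2, h3⟩ := Classical.choose_spec (mkPt Q u hu0 hu).2
  have h4 : Submodule.span F {u} = Submodule.span F {Classical.choose (mkPt Q u hu0 hu).2} := h3
  obtain ⟨z, hz⟩ := Submodule.span_singleton_eq_span_singleton.mp h4
  rw [← hz]
  exact rootSub_smul Q z.ne_zero u

/-- the Iwasawa structure. -/
noncomputable def iwasawa (Q : QuadraticForm F V) :
    MulAction.IwasawaStructure ↥(SG Q) (SPt Q) where
  T := iwT Q
  is_comm p := by
    refine ⟨⟨?_⟩⟩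
    rintro ⟨a, w, hw, ha⟩ ⟨b, w', hw', hb⟩
    apply Subtype.ext
    apply Subtype.ext
    show (a : ↥(Isom Q)) * (b : ↥(Isom Q)) = (b : ↥(Isom Q)) * (a : ↥(Isom Q))
    rw [ha, hb, siegG_mul' Q hw hw', siegG_mul' Q hw' hw, add_comm]
  is_conj g p := by
    obtain ⟨u, hu0, hu, rfl⟩ := exists_rep Q p
    rw [smul_def', smul_mkPt, iwT_mkPt, iwT_mkPt, rootSub_conj]
  is_generator := by
    rw [eq_top_iff]
    rintro ⟨x, hx⟩ -
    have key : ∀ y (hy : y ∈ SG Q), (⟨y, hy⟩ : ↥(SG Q)) ∈ iSup (iwT Q) := by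
      intro y hy
      unfold SG SGW at hy
      induction hy using Subgroup.closure_induction with
      | mem y hy =>
        obtain ⟨c, -, w, -, hc, hcw, rfl⟩ := hy
        by_cases hc0 : c = 0
        · have : (⟨siegG Q c w, Subgroup.subset_closure ⟨c, trivial, w, trivial, hc, hcw, rfl⟩⟩ :
              ↥(SG Q)) = 1 := by
            apply Subtype.ext
            show siegG Q c w = 1
            rw [hc0, siegG_zero_left]
          rw [this]
          exact Subgroup.one_mem _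
        · apply Subgroup.mem_iSup_of_mem (mkPt Q c hc0 hc)
          rw [iwT_mkPt]
          exact ⟨w, hcw, rfl⟩
      | one => exact Subgroup.one_mem _
      | mul a b ha hb iha ihb =>
        have : (⟨a * b, Subgroup.mul_mem _ ha hb⟩ : ↥(SG Q)) = ⟨a, ha⟩ * ⟨b, hb⟩ := rfl
        rw [this]
        exact Subgroup.mul_mem _ iha ihb
      | inv a ha iha =>
        have : (⟨a⁻¹, Subgroup.inv_mem _ ha⟩ : ↥(SG Q)) = (⟨a, ha⟩ : ↥(SG Q))⁻¹ := rfl
        rw [this]
        exact Subgroup.inv_mem _ iha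
    exact key x hx

/-! ### an isometry fixing every singular point is a scalar -/

theorem eigen_eq_of_perp (Q : QuadraticForm F V) (g : V ≃ₗ[F] V)
    (hfix : ∀ u, u ≠ 0 → Q u = 0 → ∃ t : F, g u = t • u) {u u' : V} (hu : Q u = 0) (hu' : Q u' = 0)
    (hu0 : u ≠ 0) (hind : ∀ a : F, a • u ≠ u') (hperp : QuadraticMap.polar Q u u' = 0) {t t' : F}
    (ht : g u = t • u) (ht' : g u' = t' • u') : t = t' := by
  have hli : LinearIndependent F ![u, u'] := (LinearIndependent.pair_iff' hu0).mpr hind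
  have hsum0 : u + u' ≠ 0 := by
    intro h
    apply hind (-1)
    rw [neg_smul, one_smul]
    exact (eq_neg_of_add_eq_zero_left h).symm ▸ (neg_neg u').symm ▸ rfl
  have hsumQ : Q (u + u') = 0 := by rw [QuadraticMap.map_add Q, hu, hu', hperp]; simp
  obtain ⟨t'', ht''⟩ := hfix (u + u') hsum0 hsumQ
  rw [map_add, ht, ht', smul_add] at ht''
  have h0 : (t - t'') • u + (t' - t'') • u' = 0 := by
    rw [sub_smul, sub_smul]
    rw [← sub_eq_zero] at ht''
    rw [← ht'']
    abel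
  obtain ⟨h1, h2⟩ := LinearIndependent.pair_iff.mp hli _ _ h0
  rw [sub_eq_zero] at h1 h2
  rw [h1, h2]

theorem exists_scalar_of_fix [Finite F] [FiniteDimensional F V] (Q : QuadraticForm F V)
    (hQ : Nondeg Q) (h5 : 5 ≤ finrank F V) (g : V ≃ₗ[F] V)
    (hfix : ∀ u, u ≠ 0 → Q u = 0 → ∃ t : F, g u = t • u) : ∃ l : F, ∀ x, g x = l • x := by
  obtain ⟨u₀, hu₀0, hu₀⟩ := exists_singular Q (by omega)
  obtain ⟨v₀, hv₀, huv₀⟩ := exists_hyperbolic_pair Q hQ hu₀0 hu₀
  obtain ⟨l, hl⟩ := hfix u₀ hu₀0 hu₀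
  refine ⟨l, ?_⟩
  have key : ∀ u, u ≠ 0 → Q u = 0 → g u = l • u := by
    intro u hu0 hu
    obtain ⟨t, ht⟩ := hfix u hu0 hu
    by_cases hmem : ∃ a : F, a • u₀ = u
    · obtain ⟨a, rfl⟩ := hmem
      rw [map_smul, hl, smul_comm]
    push Not at hmem
    by_cases hperp : QuadraticMap.polar Q u₀ u = 0
    · rw [ht, eigen_eq_of_perp Q g hfix hu₀ hu hu₀0 hmem hperp hl ht]
    · -- a singular vector orthogonal to both
      have hdim := finrank_perpPair_ge Q u₀ u
      obtain ⟨⟨c, hcM⟩, hc0, hc⟩ := exists_singular (Q.comp (perpPair Q u₀ u).subtype) (by omega)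
      have hc0' : c ≠ 0 := fun h => hc0 (Subtype.ext h)
      have hcQ : Q c = 0 := hc
      rw [mem_perpPair] at hcM
      obtain ⟨tc, htc⟩ := hfix c hc0' hcQ
      have h1 : ∀ a : F, a • u₀ ≠ c := by
        intro a hac
        apply hperp
        have h2 := hcM.2
        rw [← hac, QuadraticMap.polar_smul_right, smul_eq_mul] at h2
        rcases mul_eq_zero.mp h2 with h3 | h3
        · exfalso
          apply hc0'
          rw [← hac, h3, zero_smul]
        · rw [QuadraticMap.polar_comm]; exact h3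
      have h2 : ∀ a : F, a • u ≠ c := by
        intro a hac
        apply hperp
        have h2 := hcM.1
        rw [← hac, QuadraticMap.polar_smul_right, smul_eq_mul] at h2
        rcases mul_eq_zero.mp h2 with h3 | h3
        · exfalso
          apply hc0'
          rw [← hac, h3, zero_smul]
        · exact h3
      have e1 : l = tc := eigen_eq_of_perp Q g hfix hu₀ hcQ hu₀0 h1 hcM.1 hl htc
      have e2 : t = tc := eigen_eq_of_perp Q g hfix hu hcQ hu0 h2 hcM.2 ht htc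
      rw [ht, e2, ← e1]
  intro x
  have hx : x ∈ Submodule.span F {c | c ∈ (⊤ : Submodule F V) ∧ Q c = 0} :=
    mem_span_singular Q ⊤ (e := u₀) (f := v₀) trivial trivial hu₀ hv₀ huv₀ trivial
  obtain ⟨D, hD⟩ : ∃ D : V →ₗ[F] V, D = (g : V →ₗ[F] V) - l • (LinearMap.id : V →ₗ[F] V) :=
    ⟨_, rfl⟩
  have hDapp : ∀ y, D y = g y - l • y := by
    intro y
    rw [hD]
    rfl
  have hle : Submodule.span F {c | c ∈ (⊤ : Submodule F V) ∧ Q c = 0} ≤ LinearMap.ker D := by
    rw [Submodule.span_le]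
    rintro c ⟨-, hc⟩
    show D c = 0
    by_cases hc0 : c = 0
    · rw [hc0, map_zero]
    · rw [hDapp, key c hc0 hc, sub_self]
  have := hle hx
  rw [LinearMap.mem_ker, hDapp, sub_eq_zero] at this
  exact this

theorem nontrivial_SG [Finite F] [FiniteDimensional F V] (Q : QuadraticForm F V)
    (hQ : Nondeg Q) (h5 : 5 ≤ finrank F V) : Nontrivial ↥(SG Q) := by
  obtain ⟨u, hu0, hu⟩ := exists_singular Q (by omega)
  obtain ⟨v, hv, huv⟩ := exists_hyperbolic_pair Q hQ hu0 hu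
  have hdim := finrank_perpPair Q hu hv huv
  have hnt : Nontrivial ↥(perpPair Q u v) := by
    apply Module.nontrivial_of_finrank_pos (R := F)
    omega
  obtain ⟨⟨w, hwM⟩, hw0⟩ := exists_ne (0 : ↥(perpPair Q u v))
  have hw0' : w ≠ 0 := fun h => hw0 (Subtype.ext h)
  rw [mem_perpPair] at hwM
  have hvu : QuadraticMap.polar Q v u = 1 := by rw [QuadraticMap.polar_comm]; exact huv
  refine ⟨⟨⟨siegG Q u w, siegG_mem_SG Q hu hwM.1⟩, 1, ?_⟩⟩
  intro h
  have h1 : siegE Q u w v = v := by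
    have h2 : siegG Q u w = 1 := congrArg Subtype.val h
    have h3 : siegE Q u w = 1 := congrArg Subtype.val h2
    rw [h3]
    rfl
  rw [siegE_apply Q hu hwM.1, sieg_apply, hwM.2, hvu] at h1
  simp only [zero_smul, add_zero, one_smul, mul_one] at h1
  -- `v - w - Q w • u = v`
  have h4 : w = (-Q w) • u := by
    have : v - w - Q w • u - v = 0 := by rw [h1, sub_self]
    rw [neg_smul, eq_neg_iff_add_eq_zero, ← neg_eq_zero, ← this]
    abel
  have h5' : QuadraticMap.polar Q v w = 0 := hwM.2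
  rw [h4, QuadraticMap.polar_smul_right, hvu, smul_eq_mul, mul_one, neg_eq_zero] at h5'
  rw [h5', neg_zero, zero_smul] at h4
  exact hw0' h4

/-- **the Siegel group modulo its centre is simple.** -/
theorem isSimpleGroup_SG [Finite F] [FiniteDimensional F V] (Q : QuadraticForm F V)
    (hQ : Nondeg Q) (h5 : 5 ≤ finrank F V) :
    IsSimpleGroup (↥(SG Q) ⧸ Subgroup.center ↥(SG Q)) := by
  haveI := isPreprimitive Q hQ h5
  apply isSimpleGroup_quot_center (iwasawa Q) (commutator_SG_eq_top Q hQ h5) (nontrivial_SG Q hQ h5)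
  intro s hs
  obtain ⟨l, hl⟩ := exists_scalar_of_fix Q hQ h5 ((s : ↥(Isom Q)) : V ≃ₗ[F] V) (by
    intro u hu0 hu
    have h1 := hs (mkPt Q u hu0 hu)
    rw [smul_def', smul_mkPt, mkPt_eq_iff] at h1
    obtain ⟨t, ht, htu⟩ := h1
    refine ⟨t⁻¹, ?_⟩
    rw [eq_inv_smul_iff₀ ht]
    exact htu.symm)
  rw [Subgroup.mem_center_iff]
  intro h
  apply Subtype.ext
  apply Subtype.ext
  apply LinearEquiv.ext
  intro x
  show ((h : ↥(Isom Q)) : V ≃ₗ[F] V) (((s : ↥(Isom Q)) : V ≃ₗ[F] V) x)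
    = ((s : ↥(Isom Q)) : V ≃ₗ[F] V) (((h : ↥(Isom Q)) : V ≃ₗ[F] V) x)
  rw [hl, hl, map_smul]

end Cfsg.Agent.Helper8.SiegelSimple
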