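import Mathlib
import Cfsg.Agent.Helper8.SiegelSimple
import Cfsg.Agent.Helper8.ReflGen
import Cfsg.Agent.Helper8.SL2HermOmega

set_option autoImplicit false

/-!
# Simplicity of `PΩ(Q)` for matrix quadratic forms in dimension at least five (helper8)
-/

namespace Cfsg.Agent.Helper8.OmegaSimple

open Module Cfsg.Agent.Helper8.QuadForm Cfsg.Agent.Helper8.WittQuad Cfsg.Agent.Helper8.OrthOrder
  Cfsg.Agent.Helper8.Siegel Cfsg.Agent.Helper8.SiegelGeom Cfsg.Agent.Helper8.SiegelGroup
  Cfsg.Agent.Helper8.SiegelPrim Cfsg.Agent.Helper8.SiegelSimple Cfsg.Agent.Helper8.Reflections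
  Cfsg.Agent.Helper8.ReflMatrix Cfsg.Agent.Helper8.ReflGen

variable {F : Type*} [Field F] [Fintype F] {ι : Type} [Fintype ι] [DecidableEq ι]
  (Q : QuadraticForm F (ι → F))

/-- generation of the abstract isometry group by reflections. -/
theorem closure_reflG (hQ : (QuadraticMap.polarBilin Q).Nondegenerate)
    (h5 : 5 ≤ Fintype.card ι) :
    Subgroup.closure {g : ↥(Isom Q) | ∃ z, Q z ≠ 0 ∧ g = reflG Q z} = ⊤ := by
  have h1 := closure_reflElt_all Q hQ (Or.inr (by omega))
  have h2 := congrArg (Subgroup.map (isomEquiv Q).toMonoidHom) h1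
  rw [MonoidHom.map_closure, ← MonoidHom.range_eq_map,
    MonoidHom.range_eq_top.mpr (isomEquiv Q).surjective] at h2
  rw [← h2]
  congr 1
  ext g
  constructor
  · rintro ⟨z, hz, rfl⟩
    exact ⟨reflElt Q z, ⟨z, hz, rfl⟩, isomEquiv_reflElt Q z⟩
  · rintro ⟨_, ⟨z, hz, rfl⟩, rfl⟩
    exact ⟨z, hz, isomEquiv_reflElt Q z⟩

theorem finrank_fun : finrank F (ι → F) = Fintype.card ι := Module.finrank_fintype_fun_eq_card F

/-- the image of `Ω(Q)` in the abstract isometry group is the Siegel group. -/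
theorem map_Omega (hQ : (QuadraticMap.polarBilin Q).Nondegenerate) (h5 : 5 ≤ Fintype.card ι) :
    (Cfsg.Omega F ⇑Q).map (isomEquiv Q).toMonoidHom = SG Q := by
  have h1 : (commutator ↥(Cfsg.isometryGroup F ⇑Q)).map (isomEquiv Q).toMonoidHom
      = commutator ↥(Isom Q) := by
    rw [commutator_def, Subgroup.map_commutator, ← MonoidHom.range_eq_map,
      MonoidHom.range_eq_top.mpr (isomEquiv Q).surjective, ← commutator_def]
  show (commutator ↥(Cfsg.isometryGroup F ⇑Q)).map (isomEquiv Q).toMonoidHom = SG Q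
  rw [h1]
  exact commutator_eq_SG Q ((nondeg_iff Q).mp hQ) (by rw [finrank_fun]; exact h5)
    (closure_reflG Q hQ h5)

/-- `Ω(Q)` is isomorphic to the Siegel group. -/
noncomputable def omegaEquiv (hQ : (QuadraticMap.polarBilin Q).Nondegenerate)
    (h5 : 5 ≤ Fintype.card ι) : ↥(Cfsg.Omega F ⇑Q) ≃* ↥(SG Q) :=
  ((isomEquiv Q).subgroupMap (Cfsg.Omega F ⇑Q)).trans (MulEquiv.subgroupCongr (map_Omega Q hQ h5))

/-- **`PΩ(Q)` is simple** for a quadratic form with nondegenerate polar form in at least five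
variables over a finite field. -/
theorem isSimpleGroup_POmega (hQ : (QuadraticMap.polarBilin Q).Nondegenerate)
    (h5 : 5 ≤ Fintype.card ι) : IsSimpleGroup (Cfsg.POmega F ⇑Q) := by
  haveI := isSimpleGroup_SG Q ((nondeg_iff Q).mp hQ) (by rw [finrank_fun]; exact h5)
  exact (Cfsg.Agent.Helper8.SL2HermOmega.quotCenterEquiv (omegaEquiv Q hQ h5)).isSimpleGroup

end Cfsg.Agent.Helper8.OmegaSimple
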