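import Mathlib
import Cfsg.Agent.Helper8.Reflections

/-!
# Isometries commuting with products of two orthogonal reflections of equal norm are `±1` (helper8)
-/

set_option autoImplicit false

namespace Cfsg.Agent.Helper8.OmegaCenter

open Module Cfsg.Agent.Helper8.QuadForm Cfsg.Agent.Helper8.OrthOrder
  Cfsg.Agent.Helper8.Reflections

variable {F : Type*} [Field F] {V : Type*} [AddCommGroup V] [Module F V]

/-- for nonsingular `v` in a nondegenerate space of dimension at least three over a finite field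
there is `w ⊥ v` with `Q w = c`. -/
theorem exists_perp_repr [Finite F] [FiniteDimensional F V] (Q : QuadraticForm F V) (hQ : Nondeg Q)
    (h2 : (2 : F) ≠ 0) {v : V} (hv : Q v ≠ 0) (hdim : 3 ≤ finrank F V) (c : F) :
    ∃ w, QuadraticMap.polar Q v w = 0 ∧ Q w = c := by
  have hvv : QuadraticMap.polar Q v v ≠ 0 := by rw [polar_self']; exact mul_ne_zero h2 hv
  have hnd := perpVec_nondeg Q hQ hvv
  have hfr := finrank_perpVec Q hvv
  obtain ⟨w, hw⟩ := exists_repr (Q.comp (perpVec Q v).subtype)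
    ((nondeg_comp_subtype_iff Q _).2 hnd) (by omega) c
  exact ⟨w, (mem_perpVec Q v w).1 w.2, hw⟩

theorem exists_perp_perp_repr [Finite F] [FiniteDimensional F V] (Q : QuadraticForm F V)
    (hQ : Nondeg Q) (h2 : (2 : F) ≠ 0) (hdim : 4 ≤ finrank F V) {v w₁ : V} (hv : Q v ≠ 0)
    (hw₁ : Q w₁ ≠ 0) (h : QuadraticMap.polar Q v w₁ = 0) (c : F) :
    ∃ w₂, QuadraticMap.polar Q v w₂ = 0 ∧ QuadraticMap.polar Q w₁ w₂ = 0 ∧ Q w₂ = c := by
  have hvv : QuadraticMap.polar Q v v ≠ 0 := by rw [polar_self']; exact mul_ne_zero h2 hv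
  have hnd := perpVec_nondeg Q hQ hvv
  have hfr := finrank_perpVec Q hvv
  obtain ⟨w₂, hw₂1, hw₂2⟩ := exists_perp_repr (Q.comp (perpVec Q v).subtype)
    ((nondeg_comp_subtype_iff Q _).2 hnd) h2
    (v := (⟨w₁, (mem_perpVec Q v w₁).2 h⟩ : perpVec Q v)) hw₁ (by omega) c
  exact ⟨w₂, (mem_perpVec Q v w₂).1 w₂.2, hw₂1, hw₂2⟩

section main

variable [Fintype F] [FiniteDimensional F V] (h2 : (2 : F) ≠ 0) (Q : QuadraticForm F V)
  (hQ : Nondeg Q) (hdim : 4 ≤ finrank F V) (z : V ≃ₗ[F] V) (hz : ∀ v, Q (z v) = Q v)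
  (hcomm : ∀ u w, Q u ≠ 0 → Q w = Q u → QuadraticMap.polar Q u w = 0 →
    ∀ x, z (refl Q u (refl Q w x)) = refl Q u (refl Q w (z x)))

include h2 in
omit [Fintype F] [FiniteDimensional F V] in
theorem eigenplane {u w : V} (hu : Q u ≠ 0) (huw : QuadraticMap.polar Q u w = 0)
    (hc : z (refl Q u (refl Q w u)) = refl Q u (refl Q w (z u))) :
    ∃ a b : F, z u = a • u + b • w := by
  have hwu : QuadraticMap.polar Q w u = 0 := by rw [QuadraticMap.polar_comm]; exact huw
  rw [refl_of_perp Q hwu, refl_self Q hu, map_neg, refl_apply Q w (z u), map_sub, map_smul,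
    refl_of_perp Q huw, refl_apply] at hc
  obtain ⟨α, hα⟩ : ∃ α, α = QuadraticMap.polar Q u (z u) / Q u := ⟨_, rfl⟩
  obtain ⟨β, hβ⟩ : ∃ β, β = QuadraticMap.polar Q w (z u) / Q w := ⟨_, rfl⟩
  rw [← hα, ← hβ] at hc
  refine ⟨α / 2, β / 2, ?_⟩
  have h3 : (2 : F) • z u = α • u + β • w := by
    rw [two_smul]
    linear_combination (norm := module) -hc
  calc z u = (2 : F)⁻¹ • ((2 : F) • z u) := by rw [smul_smul, inv_mul_cancel₀ h2, one_smul]
    _ = (2 : F)⁻¹ • (α • u + β • w) := by rw [h3]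
    _ = (α / 2) • u + (β / 2) • w := by
      rw [smul_add, smul_smul, smul_smul, div_eq_inv_mul, div_eq_inv_mul]

include h2 hQ hdim hz hcomm in
theorem eigen_of_nonsingular {u : V} (hu : Q u ≠ 0) : z u = u ∨ z u = -u := by
  obtain ⟨w₁, hw₁u, hw₁⟩ := exists_perp_repr Q hQ h2 hu (by omega) (Q u)
  obtain ⟨w₂, hw₂u, hw₂w, hw₂⟩ := exists_perp_perp_repr Q hQ h2 hdim hu (by rw [hw₁]; exact hu)
    hw₁u (Q u)
  obtain ⟨a, b, hab⟩ := eigenplane h2 Q z hu hw₁u (hcomm u w₁ hu hw₁ hw₁u u)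
  obtain ⟨a', b', hab'⟩ := eigenplane h2 Q z hu hw₂u (hcomm u w₂ hu hw₂ hw₂u u)
  have hb : b = 0 := by
    have h1 : QuadraticMap.polar Q w₁ (z u) = b * (2 * Q w₁) := by
      rw [hab, QuadraticMap.polar_add_right, QuadraticMap.polar_smul_right,
        QuadraticMap.polar_smul_right, polar_self', QuadraticMap.polar_comm Q w₁ u, hw₁u]
      simp
    have h1' : QuadraticMap.polar Q w₁ (z u) = 0 := by
      rw [hab', QuadraticMap.polar_add_right, QuadraticMap.polar_smul_right,
        QuadraticMap.polar_smul_right, hw₂w, QuadraticMap.polar_comm Q w₁ u, hw₁u]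
      simp
    rw [h1'] at h1
    rcases mul_eq_zero.1 h1.symm with h | h
    · exact h
    · exfalso
      rw [hw₁] at h
      exact mul_ne_zero h2 hu h
  rw [hb, zero_smul, add_zero] at hab
  have ha : a * a = 1 := by
    have := hz u
    rw [hab, QuadraticMap.map_smul] at this
    have h5 : (a * a - 1) * Q u = 0 := by
      rw [sub_mul, one_mul]
      exact sub_eq_zero.2 this
    rcases mul_eq_zero.1 h5 with h | h
    · exact sub_eq_zero.1 h
    · exact absurd h hu
  rcases mul_self_eq_one_iff.1 ha with rfl | rfl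
  · left; rw [hab, one_smul]
  · right; rw [hab, neg_one_smul]

include h2 hQ hdim hz hcomm in
theorem pair_lemma {x y : V} (hx : Q x ≠ 0) (hy : Q y ≠ 0) (hzx : z x = x) (hzy : z y = -y) :
    QuadraticMap.polar Q x y = 0 ∧ Q x + Q y = 0 := by
  have hp : QuadraticMap.polar Q (z x) (z y) = QuadraticMap.polar Q x y := by
    unfold QuadraticMap.polar
    rw [← map_add, hz, hz, hz]
  have hxy : QuadraticMap.polar Q x y = 0 := by
    rw [hzx, hzy, QuadraticMap.polar_neg_right] at hp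
    have h3 : (2 : F) * QuadraticMap.polar Q x y = 0 := by linear_combination -hp
    rcases mul_eq_zero.1 h3 with h | h
    · exact absurd h h2
    · exact h
  refine ⟨hxy, ?_⟩
  by_contra hne
  have hq : Q (x + y) ≠ 0 := by
    rw [QuadraticMap.map_add Q, hxy, add_zero]; exact hne
  have hx0 : x ≠ 0 := fun h => hx (by rw [h, map_zero])
  have hy0 : y ≠ 0 := fun h => hy (by rw [h, map_zero])
  rcases eigen_of_nonsingular h2 Q hQ hdim z hz hcomm hq with h | h
  · rw [map_add, hzx, hzy] at h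
    have h3 : (2 : F) • y = 0 := by
      rw [two_smul]
      linear_combination (norm := module) -h
    rcases smul_eq_zero.1 h3 with h' | h'
    · exact h2 h'
    · exact hy0 h'
  · rw [map_add, hzx, hzy] at h
    have h3 : (2 : F) • x = 0 := by
      rw [two_smul]
      linear_combination (norm := module) h
    rcases smul_eq_zero.1 h3 with h' | h'
    · exact h2 h'
    · exact hx0 h'

include h2 hQ hdim hz hcomm in
theorem all_same_sign : (∀ v, Q v ≠ 0 → z v = v) ∨ (∀ v, Q v ≠ 0 → z v = -v) := by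
  by_contra hcon
  rw [not_or] at hcon
  obtain ⟨hc1, hc2⟩ := hcon
  rw [not_forall] at hc1 hc2
  obtain ⟨xm, hxm⟩ := hc1
  obtain ⟨xp, hxp⟩ := hc2
  rw [Classical.not_imp] at hxm hxp
  obtain ⟨hxmQ, hxm⟩ := hxm
  obtain ⟨hxpQ, hxp⟩ := hxp
  have hzm : z xm = -xm := by
    rcases eigen_of_nonsingular h2 Q hQ hdim z hz hcomm hxmQ with h | h
    · exact absurd h hxm
    · exact h
  have hzp : z xp = xp := by
    rcases eigen_of_nonsingular h2 Q hQ hdim z hz hcomm hxpQ with h | h
    · exact h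
    · exact absurd h hxp
  obtain ⟨hpm, hsum⟩ := pair_lemma h2 Q hQ hdim z hz hcomm hxpQ hxmQ hzp hzm
  obtain ⟨w, hw1, hw2, hwQ⟩ := exists_perp_perp_repr Q hQ h2 hdim hxpQ hxmQ hpm (Q xp)
  have hwQ0 : Q w ≠ 0 := by rw [hwQ]; exact hxpQ
  rcases eigen_of_nonsingular h2 Q hQ hdim z hz hcomm hwQ0 with h | h
  · have hq : Q (xp + w) = 2 * Q xp := by
      rw [QuadraticMap.map_add Q, hw1, hwQ]; ring
    have hq0 : Q (xp + w) ≠ 0 := by rw [hq]; exact mul_ne_zero h2 hxpQ
    have hzz : z (xp + w) = xp + w := by rw [map_add, hzp, h]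
    obtain ⟨-, hsum'⟩ := pair_lemma h2 Q hQ hdim z hz hcomm hq0 hxmQ hzz hzm
    rw [hq] at hsum'
    apply hxpQ
    linear_combination hsum' - hsum
  · obtain ⟨-, hsum'⟩ := pair_lemma h2 Q hQ hdim z hz hcomm hxpQ hwQ0 hzp h
    rw [hwQ] at hsum'
    have : (2 : F) * Q xp = 0 := by linear_combination hsum'
    exact mul_ne_zero h2 hxpQ this

include h2 hQ hdim hz hcomm in
/-- **Main theorem**: an isometry commuting with all `r_u r_w` (`u ⊥ w`, `Q u = Q w ≠ 0`) is `±1`. -/
theorem eq_one_or_neg_one : (∀ v, z v = v) ∨ (∀ v, z v = -v) := by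
  obtain ⟨n, hn⟩ : ∃ n, finrank F V = n + 1 := ⟨finrank F V - 1, by omega⟩
  obtain ⟨b, hb1, hb2, hb3⟩ := exists_orthogonal_family h2 n Q hQ hn
  have hbQ : ∀ i, Q (b i) ≠ 0 := by
    intro i
    by_cases hi : i = 0
    · rw [hi]; exact hb2
    · rw [hb3 i hi]; exact one_ne_zero
  obtain ⟨b', hb'⟩ := exists_basis_of_orthogonal h2 Q hn hb1 hbQ
  rcases all_same_sign h2 Q hQ hdim z hz hcomm with h | h
  · left
    have : (z : V →ₗ[F] V) = LinearMap.id := by
      apply b'.ext
      intro i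
      rw [hb', LinearEquiv.coe_coe, h _ (hbQ i), LinearMap.id_apply]
    intro v
    have := congrArg (fun f : V →ₗ[F] V => f v) this
    exact this
  · right
    have : (z : V →ₗ[F] V) = -LinearMap.id := by
      apply b'.ext
      intro i
      rw [hb', LinearEquiv.coe_coe, h _ (hbQ i), LinearMap.neg_apply, LinearMap.id_apply]
    intro v
    have := congrArg (fun f : V →ₗ[F] V => f v) this
    exact this


end main

end Cfsg.Agent.Helper8.OmegaCenter
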