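import Mathlib
import Cfsg.Agent.Helper8.OmegaOdd

set_option autoImplicit false

/-!
The spinor norm criterion: a product of reflections lies in the commutator subgroup of the orthogonal
group (odd characteristic, dimension at least two) iff the number of factors is even and the product
of the norms is a square.
-/

namespace Cfsg.Agent.Helper8.OmegaCrit

open Module Cfsg.Agent.Helper8.QuadForm Cfsg.Agent.Helper8.WittQuad Cfsg.Agent.Helper8.OrthOrder
  Cfsg.Agent.Helper8.Reflections Cfsg.Agent.Helper8.ReflMatrix Cfsg.Agent.Helper8.SpinorSign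
  Cfsg.Agent.Helper8.OmegaOdd

variable {F : Type*} [Field F] [Fintype F] {ι : Type} [Fintype ι] [DecidableEq ι]
  (Q : QuadraticForm F (ι → F))

omit [Fintype F] in
theorem val_prod_reflElt (l : List (ι → F)) :
    ((((l.map (reflElt Q)).prod : ↥(Cfsg.isometryGroup F ⇑Q)) : GL ι F) : Matrix ι ι F)
      = (l.map (fun v => Cfsg.reflectionMatrix ⇑Q v)).prod := by
  induction l with
  | nil => simp
  | cons z t ih =>
    rw [List.map_cons, List.prod_cons, Subgroup.coe_mul, Units.val_mul, reflElt_val, ih,
      List.map_cons, List.prod_cons]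

omit [Fintype F] in
theorem isSquare_mul_iff {s x : F} (hs0 : s ≠ 0) (hs : IsSquare s) :
    IsSquare (s * x) ↔ IsSquare x := by
  constructor
  · rintro ⟨w, hw⟩
    obtain ⟨u, hu⟩ := hs
    have hu0 : u ≠ 0 := by
      rintro rfl
      rw [mul_zero] at hu
      exact hs0 hu
    refine ⟨w / u, ?_⟩
    field_simp
    rw [hu] at hw
    linear_combination hw
  · intro hx
    exact hs.mul hx

omit [Fintype ι] [DecidableEq ι] in
open Classical in
/-- parity of the number of nonsquare norms. -/
theorem isSquare_prod_iff (l : List (ι → F)) (hl : ∀ z ∈ l, Q z ≠ 0) :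
    (l.map (fun v => Q v)).prod ≠ 0 ∧
    (IsSquare (l.map (fun v => Q v)).prod ↔
      Even (l.countP (fun z => decide (¬ IsSquare (Q z))))) := by
  classical
  induction l with
  | nil => simp
  | cons z t ih =>
    obtain ⟨h0, hiff⟩ := ih (fun w hw => hl w (by simp [hw]))
    have hz := hl z (by simp)
    rw [List.map_cons, List.prod_cons]
    refine ⟨mul_ne_zero hz h0, ?_⟩
    rw [List.countP_cons]
    by_cases hsq : IsSquare (Q z)
    · rw [isSquare_mul_iff hz hsq, hiff]
      simp [hsq]
    · have e1 : (if decide (¬ IsSquare (Q z)) = true then 1 else 0) = 1 := by simp [hsq]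
      rw [e1, Nat.even_add_one, ← hiff]
      constructor
      · intro h hP
        exact not_isSquare_mul h0 hP hsq (by rw [mul_comm]; exact h)
      · intro hP
        rw [mul_comm]
        exact isSquare_mul_of_not h0 hP hsq

theorem units_cases (u : ℤˣ) : u = 1 ∨ u = -1 := Int.units_eq_one_or u

open Classical in
/-- the values of the two sign characters on a product of reflections. -/
theorem chi_prod (h2 : (2 : F) ≠ 0) {e : F} (he : ¬ IsSquare e) (l : List (ι → F))
    (hl : ∀ z ∈ l, Q z ≠ 0) :
    chi Q 1 (l.map (reflElt Q)).prod = (-1) ^ (l.countP (fun z => decide (IsSquare (Q z)))) ∧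
    chi Q e (l.map (reflElt Q)).prod
      = (-1) ^ (l.countP (fun z => decide (¬ IsSquare (Q z)))) := by
  classical
  have he0 : e ≠ 0 := by
    rintro rfl
    exact he IsSquare.zero
  induction l with
  | nil => simp
  | cons z t ih =>
    obtain ⟨ih1, ih2⟩ := ih (fun w hw => hl w (by simp [hw]))
    have hz := hl z (by simp)
    rw [List.map_cons, List.prod_cons, map_mul, map_mul, ih1, ih2, List.countP_cons,
      List.countP_cons]
    by_cases hsq : IsSquare (Q z)
    · have h1 : chi Q 1 (reflElt Q z) = -1 :=
        (chi_reflElt Q h2 one_ne_zero hz).1 (by rw [one_mul]; exact hsq)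
      have h3 : chi Q e (reflElt Q z) = 1 :=
        (chi_reflElt Q h2 he0 hz).2 (by rw [mul_comm]; exact not_isSquare_mul hz hsq he)
      rw [h1, h3]
      simp [hsq, pow_succ]
    · have h1 : chi Q 1 (reflElt Q z) = 1 :=
        (chi_reflElt Q h2 one_ne_zero hz).2 (by rw [one_mul]; exact hsq)
      have h3 : chi Q e (reflElt Q z) = -1 :=
        (chi_reflElt Q h2 he0 hz).1 (by rw [mul_comm]; exact isSquare_mul_of_not hz hsq he)
      rw [h1, h3]
      simp [hsq, pow_succ]

/-- **Spinor norm criterion.** -/
theorem prod_reflElt_mem_iff (h2 : (2 : F) ≠ 0) (hQ : (QuadraticMap.polarBilin Q).Nondegenerate)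
    (hn : 2 ≤ Fintype.card ι) (l : List (ι → F)) (hl : ∀ z ∈ l, Q z ≠ 0) :
    (l.map (reflElt Q)).prod ∈ commutator ↥(Cfsg.isometryGroup F ⇑Q) ↔
      (Even l.length ∧ IsSquare (l.map (fun v => Q v)).prod) := by
  classical
  obtain ⟨e, he⟩ := exists_nonsquare (F := F) h2
  rw [(commutator_eq Q h2 hQ hn he).2, (chi_prod Q h2 he l hl).1, (chi_prod Q h2 he l hl).2,
    (isSquare_prod_iff Q l hl).2]
  have hne : (-1 : ℤˣ) ≠ 1 := by decide
  rw [neg_one_pow_eq_one_iff_even hne, neg_one_pow_eq_one_iff_even hne]
  have hlen := List.length_eq_countP_add_countP (fun z => decide (IsSquare (Q z))) (l := l)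
  have hcongr : l.countP (fun a => decide ¬decide (IsSquare (Q a)) = true)
      = l.countP (fun z => decide (¬ IsSquare (Q z))) := by
    apply List.countP_congr
    intro z _
    simp
  rw [hcongr] at hlen
  rw [hlen, Nat.even_add]
  tauto

end Cfsg.Agent.Helper8.OmegaCrit
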