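import Mathlib
import Cfsg.Agent.Helper8.OmegaCenter
import Cfsg.Agent.Helper8.OmegaCrit

/-!
# The centre of `Ω` consists of `±1` (odd characteristic, dimension at least four) (helper8)
-/

set_option autoImplicit false

namespace Cfsg.Agent.Helper8.OmegaCenter

open Module Cfsg.Agent.Helper8.QuadForm Cfsg.Agent.Helper8.OrthOrder
  Cfsg.Agent.Helper8.Reflections Cfsg.Agent.Helper8.ReflMatrix Cfsg.Agent.Helper8.OmegaOdd
  Cfsg.Agent.Helper8.OmegaCrit

variable {F : Type*} [Field F] [Fintype F] {ι : Type} [Fintype ι] [DecidableEq ι]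
  (Q : QuadraticForm F (ι → F))

/-- a central element of `Ω` acts as `1` or `-1`. -/
theorem center_omega_apply (h2 : (2 : F) ≠ 0) (hQ : (QuadraticMap.polarBilin Q).Nondegenerate)
    (hn : 4 ≤ Fintype.card ι) (z : ↥(commutator ↥(Cfsg.isometryGroup F ⇑Q)))
    (hz : z ∈ Subgroup.center ↥(commutator ↥(Cfsg.isometryGroup F ⇑Q))) :
    (∀ v, (isomEquiv Q z.1).1 v = v) ∨ (∀ v, (isomEquiv Q z.1).1 v = -v) := by
  have hnd := (nondeg_iff Q).mp hQ
  have hdim : 4 ≤ finrank F (ι → F) := by rw [Module.finrank_fintype_fun_eq_card]; exact hn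
  refine eq_one_or_neg_one h2 Q hnd hdim (isomEquiv Q z.1).1 (isomEquiv Q z.1).2 ?_
  intro u w hu hw huw x
  have hmem : ([u, w].map (reflElt Q)).prod ∈ commutator ↥(Cfsg.isometryGroup F ⇑Q) := by
    rw [prod_reflElt_mem_iff Q h2 hQ (by omega) [u, w] (by
      intro y hy
      simp only [List.mem_cons, List.not_mem_nil, or_false] at hy
      rcases hy with rfl | rfl
      · exact hu
      · rw [hw]; exact hu)]
    refine ⟨⟨1, rfl⟩, ?_⟩
    simp only [List.map_cons, List.map_nil, List.prod_cons, List.prod_nil, mul_one]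
    rw [hw]
    exact ⟨Q u, rfl⟩
  simp only [List.map_cons, List.map_nil, List.prod_cons, List.prod_nil, mul_one] at hmem
  have hc := (Subgroup.mem_center_iff.1 hz) ⟨reflElt Q u * reflElt Q w, hmem⟩
  have hc' : reflElt Q u * reflElt Q w * z.1 = z.1 * (reflElt Q u * reflElt Q w) :=
    congrArg Subtype.val hc
  have h3 := congrArg (fun g => (isomEquiv Q g).1 x) hc'
  simp only [map_mul, isomEquiv_reflElt] at h3
  exact h3.symm

/-- in odd dimension the centre of `Ω` is trivial. -/
theorem center_omega_eq_bot (h2 : (2 : F) ≠ 0) (hQ : (QuadraticMap.polarBilin Q).Nondegenerate)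
    (hn : 4 ≤ Fintype.card ι) (hodd : Odd (Fintype.card ι)) :
    Subgroup.center ↥(commutator ↥(Cfsg.isometryGroup F ⇑Q)) = ⊥ := by
  rw [eq_bot_iff]
  intro z hz
  rw [Subgroup.mem_bot]
  have hdet : ((z.1 : GL ι F) : Matrix ι ι F).det = 1 := by
    let φ : ↥(Cfsg.isometryGroup F ⇑Q) →* Fˣ :=
      Matrix.GeneralLinearGroup.det.comp (Cfsg.isometryGroup F ⇑Q).subtype
    have h1 : z.1 ∈ φ.ker := Abelianization.commutator_subset_ker φ z.2
    have h3 : φ z.1 = 1 := MonoidHom.mem_ker.1 h1
    have := congrArg Units.val h3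
    exact this
  rcases center_omega_apply Q h2 hQ hn z hz with h | h
  · apply Subtype.ext
    apply (isomEquiv Q).injective
    apply Subtype.ext
    apply LinearEquiv.ext
    intro v
    rw [h v, Subgroup.coe_one, map_one]
    rfl
  · exfalso
    have hM : ((z.1 : GL ι F) : Matrix ι ι F) = -1 := by
      apply matrix_ext
      intro v
      rw [← isomEquiv_apply, h v, Matrix.neg_mulVec, Matrix.one_mulVec]
    rw [hM, Matrix.det_neg, Matrix.det_one, mul_one, hodd.neg_one_pow] at hdet
    apply h2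
    have : (2 : F) = 1 - (-1) := by norm_num
    rw [this, hdet, sub_self]

end Cfsg.Agent.Helper8.OmegaCenter
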