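import Mathlib
import Cfsg.Agent.Helper7.ChevX
import Cfsg.Prelude.Def_ChevAutomorphisms

set_option autoImplicit false

/-!
Chain tables of the tabulated Chevalley data: the `k`-th entry of the `r`-chain through `s` is
`r + ((k-1) r + s)`, so characters of the root lattice are multiplicative along chains.
-/

namespace Cfsg.Agent.Helper8.ChevChain

open Cfsg Cfsg.Lie Cfsg.Agent.Helper7

/-- the entries of each chain are obtained by adding `r` successively. -/
def chainOK (D : ChevalleyDatum) : Prop :=
  ∀ r < D.nroots, ∀ e ∈ (D.chain.getD r #[]).toList, ∀ j < e.2.size,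
    (if j = 0 then e.1 else (e.2.getD (j - 1) (0, 0)).1) < D.nroots ∧
    D.chainRoot r (if j = 0 then e.1 else (e.2.getD (j - 1) (0, 0)).1) 1 = some (e.2.getD j (0, 0)).1

instance (D : ChevalleyDatum) : Decidable (chainOK D) := by unfold chainOK; infer_instance

set_option maxRecDepth 100000 in
theorem chainOK_G2 : chainOK chevG2 := by decide
set_option maxRecDepth 100000 in
theorem chainOK_B2 : chainOK chevB2 := by decide
set_option maxRecDepth 100000 in
theorem chainOK_D4 : chainOK chevD4 := by decide
set_option maxRecDepth 100000 in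
theorem chainOK_F4 : chainOK chevF4 := by decide +kernel
set_option maxRecDepth 100000 in
theorem chainOK_E6 : chainOK chevE6 := by decide +kernel
set_option maxRecDepth 100000 in
theorem chainOK_E7 : chainOK chevE7 := by decide +kernel
set_option maxRecDepth 1000000 in
theorem chainOK_E8 : chainOK chevE8 := by decide +kernel

theorem chainOK_of (D : ChevalleyDatum)
    (hD : D ∈ [chevG2, chevB2, chevD4, chevF4, chevE6, chevE7, chevE8]) : chainOK D :=
  chev_cases (p := fun D => chainOK D) D hD
    chainOK_G2 chainOK_B2 chainOK_D4 chainOK_F4 chainOK_E6 chainOK_E7 chainOK_E8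

variable {F : Type*} [Field F]

/-- a root character is multiplicative along chains. -/
theorem char_chainCoeff (D : ChevalleyDatum) (hOK : chainOK D) (χ : ℕ → Fˣ)
    (hχ : D.IsRootCharacter χ) {r : ℕ} (hr : r < D.nroots) (s u : ℕ) :
    ∀ km ∈ D.chainCoeff r s u, χ u = χ r ^ km.1 * χ s := by
  intro km hkm
  unfold ChevalleyDatum.chainCoeff at hkm
  simp only [List.mem_flatMap, List.mem_map, List.mem_filter, decide_eq_true_eq] at hkm
  obtain ⟨e, ⟨he, hes⟩, q, ⟨hq, hqu⟩, rfl⟩ := hkm
  rw [List.mem_zipIdx_iff_getElem?] at hq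
  -- the sequence of roots of the chain
  have key : ∀ j, j ≤ e.2.size →
      χ (if j = 0 then e.1 else (e.2.getD (j - 1) (0, 0)).1) = χ r ^ j * χ s := by
    intro j
    induction j with
    | zero =>
      intro _
      rw [if_pos rfl, hes, pow_zero, one_mul]
    | succ j ih =>
      intro hj
      have hj' : j < e.2.size := hj
      obtain ⟨h1, h2⟩ := hOK r hr e he j hj'
      have h3 := hχ.2 r _ _ hr h1 h2
      rw [if_neg (Nat.succ_ne_zero j), Nat.add_sub_cancel, h3, ih (le_of_lt hj'), pow_succ]
      group
  have hlt : q.2 < e.2.size := by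
    have := (List.getElem?_eq_some_iff.mp hq).1
    simpa using this
  have hget : e.2.getD q.2 (0, 0) = q.1 := by
    rw [Array.getD_eq_getD_getElem?]
    have : e.2[q.2]? = some q.1 := by
      rw [← hq]; simp
    rw [this]; rfl
  have := key (q.2 + 1) hlt
  rw [if_neg (Nat.succ_ne_zero _), Nat.add_sub_cancel, hget, hqu] at this
  exact this

end Cfsg.Agent.Helper8.ChevChain
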