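import Mathlib

set_option autoImplicit false

/-!
Generation of the large Ree groups by two elements: the abstract lemma.  A torus element `h` and `n X(1,0)` generate a
subgroup containing the whole root group `X(K, K)` (of Suzuki type) and `n`.
-/

namespace Cfsg.Agent.Helper8.RF4

section strategy

variable {G K : Type*} [Group G] [Field K]

/-- A torus element `h` and the product `n X(1,0)` generate a subgroup containing the root group `X` and `n`. -/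
theorem strategyS (M : Subgroup G) (h n : G) (X : K → K → G)
    (hmul : ∀ t u t' u', ∃ w, X t u * X t' u' = X (t + t') w)
    (hone : X 0 0 = 1)
    (hcen : ∀ z t u, X 0 z * X t u = X t (u + z))
    (hsq : ∀ z : K, ∃ t, ∀ u, X t u * X t u = X 0 z)
    {χ₀ χ₀' ψ ψ' : K}
    (hχ₀ : ∀ t u, h * X t u * h⁻¹ = X (χ₀ * t) (χ₀' * u))
    (hψ : ∀ t u, h * (n * X t u * n⁻¹) * h⁻¹ = n * X (ψ * t) (ψ' * u) * n⁻¹)
    (hcomm : Commute h (n * h * n⁻¹))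
    (h0 : χ₀ ≠ 0) (h0' : χ₀' ≠ 0) (h1 : χ₀ ≠ 1) (h2 : ψ ≠ 1)
    (hgen : ∀ y : K, y ≠ 0 → ∃ j : ℕ, y = ψ ^ j)
    (hh : h ∈ M) (hb : n * X 1 0 ∈ M) : (∀ t u, X t u ∈ M) ∧ n ∈ M := by
  -- inverses
  have hinv0 : ∀ w, (X 0 w)⁻¹ = X 0 (-w) := by
    intro w
    rw [inv_eq_iff_mul_eq_one, hcen, neg_add_cancel, hone]
  have hinv : ∀ t u, ∃ w, (X t u)⁻¹ = X (-t) w := by
    intro t u
    obtain ⟨w, hw⟩ := hmul t u (-t) 0
    rw [add_neg_cancel] at hw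
    obtain ⟨w', hw'⟩ := hmul (-t) 0 0 (-w)
    rw [add_zero] at hw'
    refine ⟨w', ?_⟩
    rw [← hw', ← hinv0, ← hw]
    group
  set V : K → K → G := fun t u => n * X t u * n⁻¹ with hV
  set h' : G := n * h * n⁻¹ with hh'
  have hVh : ∀ t u, h * V t u * h⁻¹ = V (ψ * t) (ψ' * u) := hψ
  -- `x h x⁻¹`
  obtain ⟨c₂, hc⟩ : ∃ c₂, X 1 0 * h * (X 1 0)⁻¹ = X (1 + -(χ₀ * 1)) c₂ * h := by
    obtain ⟨w₁, hw₁⟩ := hinv (χ₀ * 1) (χ₀' * 0)
    obtain ⟨w₂, hw₂⟩ := hmul 1 0 (-(χ₀ * 1)) w₁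
    refine ⟨w₂, ?_⟩
    have e2 : h * (X 1 0)⁻¹ * h⁻¹ = X (-(χ₀ * 1)) w₁ := by
      rw [← hw₁, ← hχ₀]
      group
    calc X 1 0 * h * (X 1 0)⁻¹ = X 1 0 * (h * (X 1 0)⁻¹ * h⁻¹) * h := by group
      _ = X 1 0 * X (-(χ₀ * 1)) w₁ * h := by rw [e2]
      _ = X (1 + -(χ₀ * 1)) w₂ * h := by rw [hw₂]
  set c₁ : K := 1 + -(χ₀ * 1) with hc₁
  have hc₁0 : c₁ ≠ 0 := by
    rw [hc₁, mul_one]
    intro h3
    apply h1
    have : χ₀ = 1 := by linear_combination -h3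
    exact this
  -- `y = b h b⁻¹`
  have hy : (n * X 1 0) * h * (n * X 1 0)⁻¹ = V c₁ c₂ * h' := by
    calc (n * X 1 0) * h * (n * X 1 0)⁻¹ = n * (X 1 0 * h * (X 1 0)⁻¹) * n⁻¹ := by group
      _ = n * (X c₁ c₂ * h) * n⁻¹ := by rw [hc]
      _ = V c₁ c₂ * h' := by rw [hV, hh']; group
  have hyM : V c₁ c₂ * h' ∈ M := by
    rw [← hy]
    exact mul_mem (mul_mem hb hh) (inv_mem hb)
  -- the element `E`
  obtain ⟨w₃, hw₃⟩ : ∃ w₃, (X c₁ c₂)⁻¹ * X (ψ * c₁) (ψ' * c₂) = X (-c₁ + ψ * c₁) w₃ := by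
    obtain ⟨w, hw⟩ := hinv c₁ c₂
    obtain ⟨w', hw'⟩ := hmul (-c₁) w (ψ * c₁) (ψ' * c₂)
    exact ⟨w', by rw [hw, hw']⟩
  set d₁ : K := -c₁ + ψ * c₁ with hd₁
  have hd₁0 : d₁ ≠ 0 := by
    have : d₁ = (ψ - 1) * c₁ := by rw [hd₁]; ring
    rw [this]
    exact mul_ne_zero (sub_ne_zero.mpr h2) hc₁0
  have hconj : h⁻¹ * X d₁ w₃ * h = X (χ₀⁻¹ * d₁) (χ₀'⁻¹ * w₃) := by
    have := hχ₀ (χ₀⁻¹ * d₁) (χ₀'⁻¹ * w₃)
    rw [← mul_assoc, mul_inv_cancel₀ h0, one_mul, ← mul_assoc, mul_inv_cancel₀ h0', one_mul] at this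
    rw [← this]
    group
  have hE : (V c₁ c₂ * h')⁻¹ * h * (V c₁ c₂ * h') * h⁻¹ = V (χ₀⁻¹ * d₁) (χ₀'⁻¹ * w₃) := by
    have e1 : h * V c₁ c₂ = V (ψ * c₁) (ψ' * c₂) * h := by
      rw [← hVh c₁ c₂]; group
    have e2 : h * h' * h⁻¹ = h' := by
      rw [hcomm.eq]; group
    calc (V c₁ c₂ * h')⁻¹ * h * (V c₁ c₂ * h') * h⁻¹
        = h'⁻¹ * ((V c₁ c₂)⁻¹ * (h * V c₁ c₂)) * h' * h⁻¹ := by group
      _ = h'⁻¹ * ((V c₁ c₂)⁻¹ * (V (ψ * c₁) (ψ' * c₂) * h)) * h' * h⁻¹ := by rw [e1]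
      _ = h'⁻¹ * ((V c₁ c₂)⁻¹ * V (ψ * c₁) (ψ' * c₂)) * (h * h' * h⁻¹) := by group
      _ = h'⁻¹ * (n * ((X c₁ c₂)⁻¹ * X (ψ * c₁) (ψ' * c₂)) * n⁻¹) * h' := by
        rw [e2, hV]; group
      _ = n * (h⁻¹ * X d₁ w₃ * h) * n⁻¹ := by rw [hw₃, hh']; group
      _ = V (χ₀⁻¹ * d₁) (χ₀'⁻¹ * w₃) := by rw [hconj]
  set e₁ : K := χ₀⁻¹ * d₁ with he₁
  set e₂ : K := χ₀'⁻¹ * w₃ with he₂
  have he₁0 : e₁ ≠ 0 := mul_ne_zero (inv_ne_zero h0) hd₁0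
  have hEM : V e₁ e₂ ∈ M := by
    rw [← hE]
    exact mul_mem (mul_mem (mul_mem (inv_mem hyM) hh) hyM) (inv_mem hh)
  have hpow : ∀ j : ℕ, V (ψ ^ j * e₁) (ψ' ^ j * e₂) ∈ M := by
    intro j
    induction j with
    | zero => rwa [pow_zero, one_mul, pow_zero, one_mul]
    | succ j ih =>
      have := mul_mem (mul_mem hh ih) (inv_mem hh)
      rw [hVh] at this
      rwa [pow_succ', mul_assoc, pow_succ', mul_assoc]
  have hV1 : ∀ t : K, t ≠ 0 → ∃ u, V t u ∈ M := by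
    intro t ht
    obtain ⟨j, hj⟩ := hgen (t / e₁) (div_ne_zero ht he₁0)
    have : t = ψ ^ j * e₁ := by rw [← hj]; field_simp
    exact ⟨ψ' ^ j * e₂, by rw [this]; exact hpow j⟩
  have hVone : V 0 0 = 1 := by
    rw [hV]
    simp only [hone, mul_one, mul_inv_cancel]
  have hVZ : ∀ z : K, V 0 z ∈ M := by
    intro z
    obtain ⟨t, ht⟩ := hsq z
    by_cases ht0 : t = 0
    · have := ht 0
      rw [ht0, hone, mul_one] at this
      have e : V 0 z = 1 := by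
        rw [hV]
        simp only [← this, mul_one, mul_inv_cancel]
      rw [e]
      exact one_mem _
    · obtain ⟨u, hu⟩ := hV1 t ht0
      have e : V 0 z = V t u * V t u := by
        rw [hV]
        simp only
        rw [← ht u]
        group
      rw [e]
      exact mul_mem hu hu
  have hVM : ∀ t u, V t u ∈ M := by
    intro t u
    by_cases ht0 : t = 0
    · rw [ht0]; exact hVZ u
    · obtain ⟨u₀, hu₀⟩ := hV1 t ht0
      have e : V t u = V 0 (u - u₀) * V t u₀ := by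
        rw [hV]
        simp only
        have := hcen (u - u₀) t u₀
        rw [add_sub_cancel] at this
        rw [← this]
        group
      rw [e]
      exact mul_mem (hVZ _) hu₀
  have hXM : ∀ t u, X t u ∈ M := by
    intro t u
    obtain ⟨w, hw⟩ := hinv 1 0
    obtain ⟨w', hw'⟩ := hmul 1 0 t u
    obtain ⟨w'', hw''⟩ := hmul (1 + t) w' (-1) w
    have e : X t u = (n * X 1 0)⁻¹ * V (1 + t + -1) w'' * (n * X 1 0) := by
      rw [hV]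
      simp only
      rw [← hw'', ← hw', ← hw]
      group
    rw [e]
    exact mul_mem (mul_mem (inv_mem hb) (hVM _ _)) hb
  refine ⟨hXM, ?_⟩
  have e : n = (n * X 1 0) * (X 1 0)⁻¹ := by group
  rw [e]
  exact mul_mem hb (inv_mem (hXM 1 0))

end strategy

section field

variable {K : Type*} [Field K] [Fintype K]

/-- In the field with `2^(2m+1)` elements every element is a `(2^m+1)`-th power. -/
theorem exists_pow_eq {m : ℕ} (hK : Fintype.card K = 2 ^ (2 * m + 1)) (z : K) :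
    ∃ t : K, t ^ 2 ^ m * t = z := by
  by_cases hz : z = 0
  · exact ⟨0, by rw [hz, mul_zero]⟩
  · refine ⟨(z⁻¹) ^ (2 * (2 ^ m - 1)), ?_⟩
    have hN : z ^ (2 ^ (2 * m + 1) - 1) = 1 := by
      rw [← hK]
      exact FiniteField.pow_card_sub_one_eq_one z hz
    have h1 : 1 ≤ 2 ^ m := Nat.one_le_two_pow
    have hexp : 2 * (2 ^ m - 1) * (2 ^ m + 1) + 1 = 2 ^ (2 * m + 1) - 1 := by
      obtain ⟨a, ha⟩ : ∃ a, 2 ^ m = a + 1 := ⟨2 ^ m - 1, by omega⟩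
      have e : 2 ^ (2 * m + 1) = 2 * (2 ^ m * 2 ^ m) := by
        rw [pow_succ, two_mul, pow_add]; ring
      rw [e, ha]
      have : 2 * ((a + 1) * (a + 1)) = 2 * (a + 1 - 1) * (a + 1 + 1) + 1 + 1 := by
        rw [Nat.add_sub_cancel]; ring
      omega
    have e1 : ((z⁻¹) ^ (2 * (2 ^ m - 1))) ^ 2 ^ m * (z⁻¹) ^ (2 * (2 ^ m - 1)) =
        (z⁻¹) ^ (2 * (2 ^ m - 1) * (2 ^ m + 1)) := by
      rw [← pow_mul, ← pow_add]
      congr 1
    rw [e1]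
    have e2 : (z⁻¹) ^ (2 * (2 ^ m - 1) * (2 ^ m + 1)) * z⁻¹ = 1 := by
      rw [← pow_succ, hexp, inv_pow, hN, inv_one]
    exact (mul_inv_eq_one₀ hz).mp e2

end field

end Cfsg.Agent.Helper8.RF4
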