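import Mathlib
import Cfsg.Agent.Helper7.ChevGen

set_option autoImplicit false
set_option linter.unusedSectionVars false
set_option linter.unusedVariables false

/-!
Generation of a Chevalley group by two elements: generic lemmas on the set of roots whose root subgroup lies in a
given subgroup `M` (closure under a monomial element of `M`, under commutators with a single term, scaling by a
diagonal element of `M`), and a sequential certificate checker.
-/

namespace Cfsg.Agent.Helper8.CGen

open Cfsg Cfsg.Lie Matrix Cfsg.Agent.Helper7.Chev

variable {D : ChevalleyDatum} {F : Type*} [Field F]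

section basic

variable (hG : Good2 D) {M : Subgroup (GL D.Idx F)}

/-- Closure under the Weyl group element of a word whose monomial element lies in `M`. -/
theorem inM_word {w : List ℕ} (hw : ∀ i ∈ w, i < D.rank) (hn : (nWordGL hG w : GL D.Idx F) ∈ M)
    {s : ℕ} (hs : InM hG M s) : InM hG M ((tabOf D).reflWord w s) := by
  obtain ⟨hs', h⟩ := hs
  refine ⟨reflWord_lt hG hw hs', fun t => ?_⟩
  have e := nWordGL_conj (F := F) hG hw hs' ((((tabOf D).etaWord w s : ℤ) : F) * t)
  rw [← mul_assoc, etaWord_cast_mul_self hG hw hs', one_mul] at e
  rw [← e]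
  exact mul_mem (mul_mem hn (h _)) (inv_mem hn)

/-- Closure under the inverse of the Weyl group element of a word whose monomial element lies in `M`. -/
theorem inM_word_rev {w : List ℕ} (hw : ∀ i ∈ w, i < D.rank) (hn : (nWordGL hG w : GL D.Idx F) ∈ M)
    {s : ℕ} (hs : InM hG M s) : InM hG M ((tabOf D).reflWord w.reverse s) := by
  obtain ⟨hs', h⟩ := hs
  have hrev : ∀ i ∈ w.reverse, i < D.rank := fun i hi => hw i (List.mem_reverse.mp hi)
  have hr := reflWord_lt hG hrev hs'
  refine ⟨hr, fun t => ?_⟩
  have hback : (tabOf D).reflWord w ((tabOf D).reflWord w.reverse s) = s := by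
    have := reflWord_reverse hG hrev hs'
    rwa [List.reverse_reverse] at this
  have c := nWordGL_conj (F := F) hG hw hr t
  have c' : nWordGL hG w * xGL hG.toGood1 hr t * (nWordGL hG w)⁻¹ =
      xGL hG.toGood1 hs' ((((tabOf D).etaWord w ((tabOf D).reflWord w.reverse s) : ℤ) : F) * t) := by
    rw [c]
    exact xGL_congr hG hback _ _ _
  have e : xGL hG.toGood1 hr t = (nWordGL hG w)⁻¹ *
      xGL hG.toGood1 hs' ((((tabOf D).etaWord w ((tabOf D).reflWord w.reverse s) : ℤ) : F) * t) *
      nWordGL hG w := by
    rw [← c']; group
  rw [e]
  exact mul_mem (mul_mem (inv_mem hn) (h _)) hn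

/-- Conjugation of a root element by `h_r(c)`. -/
theorem hGL_conj_xGL {r : ℕ} (hr : r < D.nroots) {c : F} (hc : c ≠ 0) {s : ℕ} (hs : s < D.nroots)
    (t : F) :
    hGL hG.toGood1 hr c hc * xGL hG.toGood1 hs t * (hGL hG.toGood1 hr c hc)⁻¹ =
      xGL hG.toGood1 hs (c ^ (tabOf D).pairing r s * t) := by
  rw [mul_inv_eq_iff_eq_mul]
  apply Units.ext
  rw [Units.val_mul, Units.val_mul, hGL_coe, xGL_coe, xGL_coe]
  exact hMat_mul_x hG hr hc hs t

/-- The root elements of `s` with parameter in `M` form a set stable under the scaling of a diagonal element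
of `M`; if the scaling factor generates the multiplicative group, one nonzero parameter gives them all. -/
theorem inM_of_scale {s : ℕ} (hs : s < D.nroots) {g : GL D.Idx F} (hg : g ∈ M) {c : F}
    (hconj : ∀ t : F, g * xGL hG.toGood1 hs t * g⁻¹ = xGL hG.toGood1 hs (c * t))
    (hgen : ∀ y : F, y ≠ 0 → ∃ j : ℕ, y = c ^ j) {t₀ : F} (ht₀ : t₀ ≠ 0)
    (h₀ : xGL hG.toGood1 hs t₀ ∈ M) : InM hG M s := by
  refine ⟨hs, fun t => ?_⟩
  have hpow : ∀ j : ℕ, xGL hG.toGood1 hs (c ^ j * t₀) ∈ M := by
    intro j
    induction j with
    | zero => rwa [pow_zero, one_mul]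
    | succ j ih =>
      have := mul_mem (mul_mem hg ih) (inv_mem hg)
      rw [hconj] at this
      rwa [pow_succ', mul_assoc]
  by_cases ht : t = 0
  · rw [ht, xGL_zero]; exact one_mem _
  · obtain ⟨j, hj⟩ := hgen (t / t₀) (div_ne_zero ht ht₀)
    have : t = c ^ j * t₀ := by rw [← hj]; field_simp
    rw [this]
    exact hpow j

end basic

/-! ### Sequential certificates -/

/-- One step of a derivation: the image of a known root under the word, under the reversed word, or the single
term of the commutator formula of two known roots. -/
inductive Step where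
  | w (s : ℕ)
  | wi (s : ℕ)
  | comm (q r s : ℕ) (c : ℤ)

/-- The root produced by a step, if the step is legal. -/
def stepOut (T : Tab) (w : List ℕ) (ks : List ℤ) (known : List ℕ) : Step → Option ℕ
  | .w s => if s ∈ known then some (T.reflWord w s) else none
  | .wi s => if s ∈ known then some (T.reflWord w.reverse s) else none
  | .comm q r s c =>
    if r ∈ known ∧ s ∈ known ∧ q < T.n ∧ T.SingleTerm q r s c ∧ c ∈ ks then some q else none

/-- Running a list of steps. -/
def run (T : Tab) (w : List ℕ) (ks : List ℤ) : List ℕ → List Step → Option (List ℕ)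
  | known, [] => some known
  | known, st :: rest =>
    match stepOut T w ks known st with
    | none => none
    | some q => run T w ks (q :: known) rest

/-- The certificate: the run succeeds and reaches every root. -/
def Cert (T : Tab) (w : List ℕ) (ks : List ℤ) (seeds : List ℕ) (steps : List Step) : Prop :=
  ∃ L, run T w ks seeds steps = some L ∧ ∀ q < T.n, q ∈ L

/-- Boolean form of the certificate. -/
def certB (T : Tab) (w : List ℕ) (ks : List ℤ) (seeds : List ℕ) (steps : List Step) : Bool :=
  match run T w ks seeds steps with
  | none => false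
  | some L => allLtB T.n (fun q => decide (q ∈ L))

theorem cert_of_certB {T : Tab} {w : List ℕ} {ks : List ℤ} {seeds : List ℕ} {steps : List Step}
    (h : certB T w ks seeds steps = true) : Cert T w ks seeds steps := by
  unfold certB at h
  cases hr : run T w ks seeds steps with
  | none => rw [hr] at h; exact absurd h (by simp)
  | some L =>
    rw [hr] at h
    refine ⟨L, hr, fun q hq => ?_⟩
    have := (allLtB_iff _ _).mp h q hq
    exact of_decide_eq_true this

section sound

variable (hG : Good2 D) {M : Subgroup (GL D.Idx F)}
  (hcomm : ∀ r s, r < D.nroots → s < D.nroots → s ≠ r → s ≠ D.neg r → Comm D F r s)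
  {w : List ℕ} (hw : ∀ i ∈ w, i < D.rank) (hn : (nWordGL hG w : GL D.Idx F) ∈ M)
  {ks : List ℤ} (hks : ∀ c ∈ ks, ((c : ℤ) : F) ≠ 0)

include hcomm hw hn hks in
theorem run_sound : ∀ (steps : List Step) (known : List ℕ), (∀ s ∈ known, InM hG M s) →
    ∀ L, run (tabOf D) w ks known steps = some L → ∀ s ∈ L, InM hG M s := by
  intro steps
  induction steps with
  | nil =>
    intro known hk L hL s hs
    simp only [run, Option.some.injEq] at hL
    subst hL
    exact hk s hs
  | cons st rest ih =>
    intro known hk L hL
    simp only [run] at hL
    cases hso : stepOut (tabOf D) w ks known st with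
    | none => rw [hso] at hL; exact absurd hL (by simp)
    | some q =>
      rw [hso] at hL
      refine ih (q :: known) ?_ L hL
      intro s hs
      rcases List.mem_cons.mp hs with rfl | hs
      · -- the new root
        cases st with
        | w s₀ =>
          simp only [stepOut] at hso
          split_ifs at hso with h1
          simp only [Option.some.injEq] at hso
          subst hso
          exact inM_word hG hw hn (hk s₀ h1)
        | wi s₀ =>
          simp only [stepOut] at hso
          split_ifs at hso with h1
          simp only [Option.some.injEq] at hso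
          subst hso
          exact inM_word_rev hG hw hn (hk s₀ h1)
        | comm q' r' s' c =>
          simp only [stepOut] at hso
          split_ifs at hso with h1
          simp only [Option.some.injEq] at hso
          subst hso
          obtain ⟨hr, hs', hq, hst, hc⟩ := h1
          have hst' := hst
          obtain ⟨hr', hs'', hsr, hsn, _⟩ := hst'
          exact inM_of_singleTerm hG hst (hcomm _ _ hr' hs'' hsr hsn) (hks c hc) hq
            (hk r' hr) (hk s' hs')
      · exact hk s hs

include hcomm hw hn hks in
/-- A certificate and seeds in `M` give the whole group. -/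
theorem group_le_of_cert {seeds : List ℕ} {steps : List Step}
    (cert : Cert (tabOf D) w ks seeds steps) (hseed : ∀ s ∈ seeds, InM hG M s) :
    D.group F ≤ M := by
  obtain ⟨L, hL, hall⟩ := cert
  apply group_le_of_inM hG
  intro q hq
  exact run_sound hG hcomm hw hn hks steps seeds hseed L hL q (hall q hq)

end sound

end Cfsg.Agent.Helper8.CGen
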