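import Mathlib
import Cfsg.Prelude.Def_RootSubgroups
import Cfsg.Prelude.Def_ClassicalGeometry
import Cfsg.Agent.Helper7.SympGeneration
import Cfsg.Agent.Helper7.RankOneOmega

set_option autoImplicit false

/-! Symplectic transvection groups `T(p)` as abstract root subgroups: basics (helper8). -/

namespace Cfsg.Agent.Helper8.SpRoot

open Matrix Cfsg Cfsg.Agent.Helper7.Symp Cfsg.Agent.Helper7.R1

variable {F : Type*} [Field F] {m : ℕ}

/-- two symplectic matrices with the same action on vectors are equal. -/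
theorem ext_mulVec {g h : symplecticGroup (Fin m) F}
    (H : ∀ v : Fin m ⊕ Fin m → F, (g : Matrix (Fin m ⊕ Fin m) (Fin m ⊕ Fin m) F) *ᵥ v
      = (h : Matrix (Fin m ⊕ Fin m) (Fin m ⊕ Fin m) F) *ᵥ v) : g = h :=
  Subtype.ext (Matrix.ext_iff_mulVec.mpr H)

theorem coe_inv_mulVec (g : symplecticGroup (Fin m) F) (v : Fin m ⊕ Fin m → F) :
    (g : Matrix (Fin m ⊕ Fin m) (Fin m ⊕ Fin m) F) *ᵥ
      (((g⁻¹ : symplecticGroup (Fin m) F) : Matrix (Fin m ⊕ Fin m) (Fin m ⊕ Fin m) F) *ᵥ v) = v := by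
  rw [← coe_mul_mulVec, mul_inv_cancel, coe_one_mulVec]

theorem coe_inv_mulVec' (g : symplecticGroup (Fin m) F) (v : Fin m ⊕ Fin m → F) :
    ((g⁻¹ : symplecticGroup (Fin m) F) : Matrix (Fin m ⊕ Fin m) (Fin m ⊕ Fin m) F) *ᵥ
      ((g : Matrix (Fin m ⊕ Fin m) (Fin m ⊕ Fin m) F) *ᵥ v) = v := by
  rw [← coe_mul_mulVec, inv_mul_cancel, coe_one_mulVec]

theorem T_mul (p : Fin m ⊕ Fin m → F) (c d : F) : T p c * T p d = T p (c + d) :=
  Subtype.ext (sympTransvection_mul m p c d)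

theorem T_zero (p : Fin m ⊕ Fin m → F) : T p (0 : F) = 1 := by
  apply ext_mulVec
  intro v
  rw [T_mulVec, coe_one_mulVec, zero_mul, zero_smul, add_zero]

theorem T_inv (p : Fin m ⊕ Fin m → F) (c : F) : (T p c)⁻¹ = T p (-c) := by
  rw [inv_eq_iff_mul_eq_one, T_mul, add_neg_cancel, T_zero]

theorem T_zero_left (c : F) : T (0 : Fin m ⊕ Fin m → F) c = 1 := by
  apply ext_mulVec
  intro v
  rw [T_mulVec, coe_one_mulVec, smul_zero, add_zero]

theorem T_comm (p : Fin m ⊕ Fin m → F) (c d : F) : T p c * T p d = T p d * T p c := by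
  rw [T_mul, T_mul, add_comm]

theorem exists_form_ne_zero {p : Fin m ⊕ Fin m → F} (hp : p ≠ 0) :
    ∃ v, sympForm m F v p ≠ 0 := by
  obtain ⟨a, ha⟩ := exists_sympForm_ne_zero hp
  refine ⟨a, ?_⟩
  rw [sympForm_swap]
  exact neg_ne_zero.mpr ha

theorem T_eq_one_iff {p : Fin m ⊕ Fin m → F} (hp : p ≠ 0) (c : F) : T p c = 1 ↔ c = 0 := by
  constructor
  · intro h
    obtain ⟨v, hv⟩ := exists_form_ne_zero hp
    have h1 := T_mulVec p c v
    rw [h, coe_one_mulVec] at h1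
    have h2 : (c * sympForm m F v p) • p = 0 := by
      have := h1.symm
      rwa [add_eq_left] at this
    rcases smul_eq_zero.mp h2 with h3 | h3
    · rcases mul_eq_zero.mp h3 with h4 | h4
      · exact h4
      · exact absurd h4 hv
    · exact absurd h3 hp
  · rintro rfl
    exact T_zero p

theorem T_smul (p : Fin m ⊕ Fin m → F) (a c : F) : T (a • p) c = T p (c * a * a) := by
  apply ext_mulVec
  intro v
  rw [T_mulVec, T_mulVec, sympForm_smul_right, smul_smul]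
  congr 2
  ring

theorem conj_T (g : symplecticGroup (Fin m) F) (p : Fin m ⊕ Fin m → F) (c : F) :
    g * T p c * g⁻¹ = T ((g : Matrix (Fin m ⊕ Fin m) (Fin m ⊕ Fin m) F) *ᵥ p) c := by
  apply ext_mulVec
  intro v
  rw [coe_mul_mulVec, coe_mul_mulVec, T_mulVec, T_mulVec, mulVec_add, coe_inv_mulVec, mulVec_smul]
  congr 3
  conv_rhs => rw [← coe_inv_mulVec g v, sympForm_mulVec]

/-- the generating set of the statement. -/
def RS (m : ℕ) (F : Type*) [Field F] (p : Fin m ⊕ Fin m → F) : Set (symplecticGroup (Fin m) F) :=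
  {g | ∃ c : F, ∀ v : Fin m ⊕ Fin m → F,
    (g : Matrix (Fin m ⊕ Fin m) (Fin m ⊕ Fin m) F) *ᵥ v
      = v + (c * (v ⬝ᵥ (Matrix.J (Fin m) F *ᵥ p))) • p}

/-- the transvection group `T(p)`. -/
def RG (m : ℕ) (F : Type*) [Field F] (p : Fin m ⊕ Fin m → F) :
    Subgroup (symplecticGroup (Fin m) F) := Subgroup.closure (RS m F p)

theorem mem_RS_iff (p : Fin m ⊕ Fin m → F) (g : symplecticGroup (Fin m) F) :
    g ∈ RS m F p ↔ ∃ c, g = T p c := by
  constructor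
  · rintro ⟨c, hc⟩
    refine ⟨c, ext_mulVec fun v => ?_⟩
    rw [hc v, T_mulVec]
    rfl
  · rintro ⟨c, rfl⟩
    exact ⟨c, fun v => T_mulVec p c v⟩

/-- the transvections with centre `p` as a subgroup. -/
def TP (m : ℕ) (F : Type*) [Field F] (p : Fin m ⊕ Fin m → F) :
    Subgroup (symplecticGroup (Fin m) F) where
  carrier := {g | ∃ c, g = T p c}
  mul_mem' := by
    rintro _ _ ⟨c, rfl⟩ ⟨d, rfl⟩
    exact ⟨c + d, T_mul p c d⟩
  one_mem' := ⟨0, (T_zero p).symm⟩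
  inv_mem' := by
    rintro _ ⟨c, rfl⟩
    exact ⟨-c, T_inv p c⟩

theorem RG_eq_TP (p : Fin m ⊕ Fin m → F) : RG m F p = TP m F p := by
  have h : RS m F p = (TP m F p : Set (symplecticGroup (Fin m) F)) := by
    ext g
    exact mem_RS_iff p g
  rw [RG, h, Subgroup.closure_eq]

theorem mem_RG_iff (p : Fin m ⊕ Fin m → F) (g : symplecticGroup (Fin m) F) :
    g ∈ RG m F p ↔ ∃ c, g = T p c := by
  rw [RG_eq_TP]
  exact Iff.rfl

theorem T_mem_RG (p : Fin m ⊕ Fin m → F) (c : F) : T p c ∈ RG m F p :=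
  (mem_RG_iff p _).mpr ⟨c, rfl⟩

theorem RG_comm (p : Fin m ⊕ Fin m → F) : IsMulCommutative ↥(RG m F p) := by
  constructor; constructor
  rintro ⟨a, ha⟩ ⟨b, hb⟩
  obtain ⟨c, rfl⟩ := (mem_RG_iff p a).mp ha
  obtain ⟨d, rfl⟩ := (mem_RG_iff p b).mp hb
  exact Subtype.ext (T_comm p c d)

theorem RG_nilpotent (p : Fin m ⊕ Fin m → F) : Group.IsNilpotent ↥(RG m F p) :=
  ⟨1, Subgroup.upperCentralSeries_one_eq_top_iff.mpr (RG_comm p)⟩

theorem RG_ne_bot {p : Fin m ⊕ Fin m → F} (hp : p ≠ 0) : RG m F p ≠ ⊥ := by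
  intro h
  have h1 : T p (1 : F) ∈ RG m F p := T_mem_RG p 1
  rw [h, Subgroup.mem_bot, T_eq_one_iff hp] at h1
  exact one_ne_zero h1

theorem RG_smul (p : Fin m ⊕ Fin m → F) {a : F} (ha : a ≠ 0) : RG m F (a • p) = RG m F p := by
  ext g
  rw [mem_RG_iff, mem_RG_iff]
  constructor
  · rintro ⟨c, rfl⟩
    exact ⟨c * a * a, T_smul p a c⟩
  · rintro ⟨c, rfl⟩
    refine ⟨c * a⁻¹ * a⁻¹, ?_⟩
    rw [T_smul]
    congr 1
    field_simp

theorem conjBy_RG (p : Fin m ⊕ Fin m → F) (g : symplecticGroup (Fin m) F) :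
    conjBy (RG m F p) g = RG m F ((g : Matrix (Fin m ⊕ Fin m) (Fin m ⊕ Fin m) F) *ᵥ p) := by
  ext x
  rw [mem_conjBy, mem_RG_iff, mem_RG_iff]
  constructor
  · rintro ⟨c, hc⟩
    refine ⟨c, ?_⟩
    rw [← conj_T, ← hc]
    group
  · rintro ⟨c, rfl⟩
    refine ⟨c, ?_⟩
    rw [← conj_T]
    group

/-- the family of all transvection groups. -/
def SS (m : ℕ) (F : Type*) [Field F] : Set (Subgroup (symplecticGroup (Fin m) F)) :=
  {A | ∃ p : Fin m ⊕ Fin m → F, p ≠ 0 ∧ A = RG m F p}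

theorem mulVec_ne_zero' (g : symplecticGroup (Fin m) F) {p : Fin m ⊕ Fin m → F} (hp : p ≠ 0) :
    (g : Matrix (Fin m ⊕ Fin m) (Fin m ⊕ Fin m) F) *ᵥ p ≠ 0 := by
  intro h
  apply hp
  rw [← coe_inv_mulVec' g p, h, mulVec_zero]

theorem SS_conj_mem : ∀ A ∈ SS m F, ∀ g : symplecticGroup (Fin m) F, conjBy A g ∈ SS m F := by
  rintro _ ⟨p, hp, rfl⟩ g
  exact ⟨_, mulVec_ne_zero' g hp, conjBy_RG p g⟩

theorem SS_generates : (⨆ A ∈ SS m F, A) = ⊤ := by
  rw [eq_top_iff, ← transvectionSubgroup_eq_top m F, transvectionSubgroup, Subgroup.closure_le]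
  rintro A ⟨w, c, hA⟩
  have hA' : A = T w c := Subtype.ext hA
  by_cases hw : w = 0
  · rw [hA', hw, T_zero_left]
    exact Subgroup.one_mem _
  · have h1 : RG m F w ≤ ⨆ A ∈ SS m F, A := le_biSup (fun A => A) ⟨w, hw, rfl⟩
    exact h1 (hA' ▸ T_mem_RG w c)

theorem SS_conjClass (hm : 1 ≤ m) : IsConjClassOfSubgroups (SS m F) := by
  constructor
  · have : Nonempty (Fin m) := ⟨⟨0, hm⟩⟩
    obtain ⟨i⟩ := this
    refine ⟨RG m F (Pi.single (Sum.inl i) 1), _, ?_, rfl⟩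
    exact Pi.single_ne_zero_iff.mpr one_ne_zero
  · rintro _ ⟨p, hp, rfl⟩ _ ⟨p', hp', rfl⟩
    obtain ⟨g, -, hg⟩ := exists_mem_mulVec_eq hp hp'
    exact ⟨g, by rw [conjBy_RG, hg]⟩

end Cfsg.Agent.Helper8.SpRoot
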