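import Mathlib
import Cfsg.Agent.Helper7.SympGeneration
import Cfsg.Agent.Helper8.SpRootA

set_option autoImplicit false

/-! Generation of `Sp_{2m}(F)`: vectors all of whose transvections lie in a subgroup, and a
criterion for a subgroup to be everything (helper8). -/

namespace Cfsg.Agent.Helper8.SpGen

open Matrix Cfsg Cfsg.Agent.Helper7.Symp

variable {F : Type*} [Field F] {m : ℕ}

/-- all transvections along `v` lie in `H`. -/
def Full (H : Subgroup (symplecticGroup (Fin m) F)) (v : Fin m ⊕ Fin m → F) : Prop :=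
  ∀ c : F, T v c ∈ H

theorem Full.smul {H : Subgroup (symplecticGroup (Fin m) F)} {v : Fin m ⊕ Fin m → F}
    (h : Full H v) (a : F) : Full H (a • v) := fun c => by
  rw [SpRoot.T_smul]
  exact h _

theorem Full.map {H : Subgroup (symplecticGroup (Fin m) F)} {v : Fin m ⊕ Fin m → F}
    (h : Full H v) {g : symplecticGroup (Fin m) F} (hg : g ∈ H) :
    Full H ((g : Matrix (Fin m ⊕ Fin m) (Fin m ⊕ Fin m) F) *ᵥ v) := fun c => by
  rw [← SpRoot.conj_T]
  exact H.mul_mem (H.mul_mem hg (h c)) (H.inv_mem hg)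

theorem full_zero (H : Subgroup (symplecticGroup (Fin m) F)) :
    Full H (0 : Fin m ⊕ Fin m → F) := fun c => by
  rw [SpRoot.T_zero_left]
  exact H.one_mem

/-- closure under hyperbolic lines. -/
theorem full_line {H : Subgroup (symplecticGroup (Fin m) F)} {u v : Fin m ⊕ Fin m → F}
    (hu : Full H u) (hv : Full H v) (huv : sympForm m F v u ≠ 0) (a b : F) :
    Full H (a • u + b • v) := by
  by_cases hb : b = 0
  · rw [hb, zero_smul, add_zero]
    exact hu.smul a
  · have h1 : Full H (v + (a / b) • u) := by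
      have h2 := hv.map (hu (a / b / sympForm m F v u))
      rw [T_mulVec] at h2
      have e : a / b / sympForm m F v u * sympForm m F v u = a / b := by
        field_simp
      rw [e] at h2
      exact h2
    have h3 := h1.smul b
    have e : b • (v + (a / b) • u) = a • u + b • v := by
      rw [smul_add, smul_smul, mul_div_cancel₀ _ hb, add_comm]
    rw [e] at h3
    exact h3

theorem HS_le {H : Subgroup (symplecticGroup (Fin m) F)} {S : Submodule F (Fin m ⊕ Fin m → F)}
    (hS : ∀ s ∈ S, Full H s) : HS S ≤ H := by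
  apply (Subgroup.closure_le H).mpr
  rintro A ⟨w, hw, c, rfl⟩
  exact hS w hw c

/-- two orthogonal non-degenerate subspaces of full vectors, linked by one full vector with both
components non-zero: their sum consists of full vectors. -/
theorem full_sum {H : Subgroup (symplecticGroup (Fin m) F)}
    {S L : Submodule F (Fin m ⊕ Fin m → F)}
    (hS : ∀ s ∈ S, Full H s) (hL : ∀ z ∈ L, Full H z)
    (ndS : ∀ x ∈ S, x ≠ 0 → ∃ y ∈ S, sympForm m F x y ≠ 0)
    (ndL : ∀ x ∈ L, x ≠ 0 → ∃ y ∈ L, sympForm m F x y ≠ 0)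
    (orth : ∀ s ∈ S, ∀ z ∈ L, sympForm m F s z = 0)
    {u₀ z₀ : Fin m ⊕ Fin m → F} (hu₀ : u₀ ∈ S) (hz₀ : z₀ ∈ L) (hu₀' : u₀ ≠ 0) (hz₀' : z₀ ≠ 0)
    (hmix : Full H (u₀ + z₀))
    {u z : Fin m ⊕ Fin m → F} (hu : u ∈ S) (hz : z ∈ L) : Full H (u + z) := by
  have orth' : ∀ z ∈ L, ∀ s ∈ S, sympForm m F z s = 0 := by
    intro z hz s hs
    rw [sympForm_swap, orth s hs z hz, neg_zero]
  by_cases hu0 : u = 0
  · rw [hu0, zero_add]
    exact hL z hz
  by_cases hz0 : z = 0
  · rw [hz0, add_zero]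
    exact hS u hu
  obtain ⟨g, hg, hgu⟩ := exists_mem_mulVec_eq_rel ndS hu₀ hu hu₀' hu0
  obtain ⟨g', hg', hgz⟩ := exists_mem_mulVec_eq_rel ndL hz₀ hz hz₀' hz0
  have hgz₀ : (g : Matrix (Fin m ⊕ Fin m) (Fin m ⊕ Fin m) F) *ᵥ z₀ = z₀ :=
    (HS_fix hg).1 z₀ (orth' z₀ hz₀)
  have hg'u : (g' : Matrix (Fin m ⊕ Fin m) (Fin m ⊕ Fin m) F) *ᵥ u = u :=
    (HS_fix hg').1 u (orth u hu)
  have h1 := (hmix.map (HS_le hS hg)).map (HS_le hL hg')
  rw [mulVec_add, hgu, hgz₀, mulVec_add, hg'u, hgz] at h1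
  exact h1

/-! ### Coordinate subspaces -/

/-- vectors supported on the hyperbolic planes of index `< k`. -/
def U (m : ℕ) (F : Type*) [Field F] (k : ℕ) : Submodule F (Fin m ⊕ Fin m → F) where
  carrier := {v | ∀ i : Fin m, k ≤ i.val → v (Sum.inl i) = 0 ∧ v (Sum.inr i) = 0}
  add_mem' := by
    intro a b ha hb i hi
    rw [Pi.add_apply, Pi.add_apply, (ha i hi).1, (ha i hi).2, (hb i hi).1, (hb i hi).2, add_zero]
    exact ⟨rfl, rfl⟩
  zero_mem' := fun _ _ => ⟨rfl, rfl⟩
  smul_mem' := by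
    intro c a ha i hi
    rw [Pi.smul_apply, Pi.smul_apply, (ha i hi).1, (ha i hi).2, smul_zero]
    exact ⟨rfl, rfl⟩

/-- vectors supported on the hyperbolic plane of index `j`. -/
def L (F : Type*) [Field F] {m : ℕ} (j : Fin m) : Submodule F (Fin m ⊕ Fin m → F) where
  carrier := {v | ∀ i : Fin m, i ≠ j → v (Sum.inl i) = 0 ∧ v (Sum.inr i) = 0}
  add_mem' := by
    intro a b ha hb i hi
    rw [Pi.add_apply, Pi.add_apply, (ha i hi).1, (ha i hi).2, (hb i hi).1, (hb i hi).2, add_zero]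
    exact ⟨rfl, rfl⟩
  zero_mem' := fun _ _ => ⟨rfl, rfl⟩
  smul_mem' := by
    intro c a ha i hi
    rw [Pi.smul_apply, Pi.smul_apply, (ha i hi).1, (ha i hi).2, smul_zero]
    exact ⟨rfl, rfl⟩

theorem mem_U {k : ℕ} {v : Fin m ⊕ Fin m → F} :
    v ∈ U m F k ↔ ∀ i : Fin m, k ≤ i.val → v (Sum.inl i) = 0 ∧ v (Sum.inr i) = 0 := Iff.rfl

theorem mem_L {j : Fin m} {v : Fin m ⊕ Fin m → F} :
    v ∈ L F j ↔ ∀ i : Fin m, i ≠ j → v (Sum.inl i) = 0 ∧ v (Sum.inr i) = 0 := Iff.rfl

theorem form_eq (x y : Fin m ⊕ Fin m → F) :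
    sympForm m F x y = ∑ i : Fin m, (x (.inr i) * y (.inl i) - x (.inl i) * y (.inr i)) := by
  unfold sympForm
  rw [dotProduct, Fintype.sum_sum_type]
  have h1 : ∀ i : Fin m, (J (Fin m) F *ᵥ y) (Sum.inl i) = - y (Sum.inr i) := by
    intro i
    simp [J, Matrix.mulVec, dotProduct, Fintype.sum_sum_type, Matrix.one_apply]
  have h2 : ∀ i : Fin m, (J (Fin m) F *ᵥ y) (Sum.inr i) = y (Sum.inl i) := by
    intro i
    simp [J, Matrix.mulVec, dotProduct, Fintype.sum_sum_type, Matrix.one_apply]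
  simp only [h1, h2]
  rw [← Finset.sum_add_distrib]
  apply Finset.sum_congr rfl
  intro i _
  ring

theorem form_single_inl (x : Fin m ⊕ Fin m → F) (j : Fin m) :
    sympForm m F x (Pi.single (Sum.inl j) 1) = x (Sum.inr j) := by
  rw [form_eq, Finset.sum_eq_single j]
  · simp
  · intro i _ hij
    simp [hij]
  · intro h
    exact absurd (Finset.mem_univ j) h

theorem form_single_inr (x : Fin m ⊕ Fin m → F) (j : Fin m) :
    sympForm m F x (Pi.single (Sum.inr j) 1) = - x (Sum.inl j) := by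
  rw [form_eq, Finset.sum_eq_single j]
  · simp
  · intro i _ hij
    simp [hij]
  · intro h
    exact absurd (Finset.mem_univ j) h

theorem single_mem_U {k : ℕ} {j : Fin m} (hj : j.val < k) (a : F) :
    (Pi.single (Sum.inl j) a : Fin m ⊕ Fin m → F) ∈ U m F k ∧
      (Pi.single (Sum.inr j) a : Fin m ⊕ Fin m → F) ∈ U m F k := by
  have hne : ∀ i : Fin m, k ≤ i.val → i ≠ j := by
    intro i hi h
    rw [h] at hi
    omega
  refine ⟨fun i hi => ?_, fun i hi => ?_⟩
  · rw [Pi.single_eq_of_ne (by simpa using hne i hi), Pi.single_eq_of_ne (by simp)]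
    exact ⟨rfl, rfl⟩
  · rw [Pi.single_eq_of_ne (by simp), Pi.single_eq_of_ne (by simpa using hne i hi)]
    exact ⟨rfl, rfl⟩

theorem single_mem_L (j : Fin m) (a : F) :
    (Pi.single (Sum.inl j) a : Fin m ⊕ Fin m → F) ∈ L F j ∧
      (Pi.single (Sum.inr j) a : Fin m ⊕ Fin m → F) ∈ L F j := by
  refine ⟨fun i hi => ?_, fun i hi => ?_⟩
  · rw [Pi.single_eq_of_ne (by simpa using hi), Pi.single_eq_of_ne (by simp)]
    exact ⟨rfl, rfl⟩
  · rw [Pi.single_eq_of_ne (by simp), Pi.single_eq_of_ne (by simpa using hi)]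
    exact ⟨rfl, rfl⟩

theorem exists_coord_ne {x : Fin m ⊕ Fin m → F} (hx : x ≠ 0) :
    ∃ j : Fin m, x (Sum.inl j) ≠ 0 ∨ x (Sum.inr j) ≠ 0 := by
  by_contra hcon
  push Not at hcon
  apply hx
  funext a
  rcases a with j | j
  · exact (hcon j).1
  · exact (hcon j).2

theorem U_nondeg (k : ℕ) : ∀ x ∈ U m F k, x ≠ 0 → ∃ y ∈ U m F k, sympForm m F x y ≠ 0 := by
  intro x hx hx0
  obtain ⟨j, hj⟩ := exists_coord_ne hx0
  have hjk : j.val < k := by
    by_contra hcon
    push Not at hcon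
    rcases hj with h | h
    · exact h (hx j hcon).1
    · exact h (hx j hcon).2
  rcases hj with h | h
  · refine ⟨Pi.single (Sum.inr j) 1, (single_mem_U hjk 1).2, ?_⟩
    rw [form_single_inr]
    exact neg_ne_zero.mpr h
  · refine ⟨Pi.single (Sum.inl j) 1, (single_mem_U hjk 1).1, ?_⟩
    rw [form_single_inl]
    exact h

theorem L_nondeg (j : Fin m) : ∀ x ∈ L F j, x ≠ 0 → ∃ y ∈ L F j, sympForm m F x y ≠ 0 := by
  intro x hx hx0
  obtain ⟨i, hi⟩ := exists_coord_ne hx0
  have hij : i = j := by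
    by_contra hcon
    rcases hi with h | h
    · exact h (hx i hcon).1
    · exact h (hx i hcon).2
  subst hij
  rcases hi with h | h
  · refine ⟨Pi.single (Sum.inr i) 1, (single_mem_L i 1).2, ?_⟩
    rw [form_single_inr]
    exact neg_ne_zero.mpr h
  · refine ⟨Pi.single (Sum.inl i) 1, (single_mem_L i 1).1, ?_⟩
    rw [form_single_inl]
    exact h

theorem U_orth_L {k : ℕ} {j : Fin m} (hkj : k ≤ j.val) :
    ∀ s ∈ U m F k, ∀ z ∈ L F j, sympForm m F s z = 0 := by
  intro s hs z hz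
  rw [form_eq]
  apply Finset.sum_eq_zero
  intro i _
  by_cases hi : k ≤ i.val
  · rw [(hs i hi).1, (hs i hi).2, zero_mul, zero_mul, sub_zero]
  · have hij : i ≠ j := by
      intro h
      rw [h] at hi
      exact hi hkj
    rw [(hz i hij).1, (hz i hij).2, mul_zero, mul_zero, sub_zero]

/-- the index of a coordinate. -/
def idx : Fin m ⊕ Fin m → ℕ := Sum.elim (fun i : Fin m => i.val) (fun i : Fin m => i.val)

theorem idx_inl (i : Fin m) : idx (Sum.inl i : Fin m ⊕ Fin m) = i.val := rfl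

theorem idx_inr (i : Fin m) : idx (Sum.inr i : Fin m ⊕ Fin m) = i.val := rfl

/-- splitting off the last plane. -/
theorem exists_split {k : ℕ} (hk : k < m) {v : Fin m ⊕ Fin m → F} (hv : v ∈ U m F (k + 1)) :
    ∃ u ∈ U m F k, ∃ z ∈ L F (⟨k, hk⟩ : Fin m), v = u + z := by
  classical
  refine ⟨fun a => if idx a < k then v a else 0, ?_, fun a => if idx a < k then 0 else v a, ?_, ?_⟩
  · intro i hi
    have h1 : ¬ idx (Sum.inl i : Fin m ⊕ Fin m) < k := by rw [idx_inl]; omega
    have h2 : ¬ idx (Sum.inr i : Fin m ⊕ Fin m) < k := by rw [idx_inr]; omega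
    exact ⟨if_neg h1, if_neg h2⟩
  · intro i hi
    have hik : i.val ≠ k := fun h => hi (Fin.ext h)
    by_cases h0 : i.val < k
    · have h1 : idx (Sum.inl i : Fin m ⊕ Fin m) < k := by rw [idx_inl]; exact h0
      have h2 : idx (Sum.inr i : Fin m ⊕ Fin m) < k := by rw [idx_inr]; exact h0
      exact ⟨if_pos h1, if_pos h2⟩
    · have h1 : ¬ idx (Sum.inl i : Fin m ⊕ Fin m) < k := by rw [idx_inl]; exact h0
      have h2 : ¬ idx (Sum.inr i : Fin m ⊕ Fin m) < k := by rw [idx_inr]; exact h0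
      have h3 := hv i (by omega)
      exact ⟨(if_neg h1).trans h3.1, (if_neg h2).trans h3.2⟩
  · funext a
    rw [Pi.add_apply]
    by_cases h1 : idx a < k
    · rw [if_pos h1, if_pos h1, add_zero]
    · rw [if_neg h1, if_neg h1, zero_add]

theorem L_full {H : Subgroup (symplecticGroup (Fin m) F)}
    (hbasis : ∀ a : Fin m ⊕ Fin m, Full H (Pi.single a 1)) (j : Fin m) :
    ∀ z ∈ L F j, Full H z := by
  intro z hz
  have e : z = z (Sum.inl j) • (Pi.single (Sum.inl j) 1 : Fin m ⊕ Fin m → F)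
      + z (Sum.inr j) • (Pi.single (Sum.inr j) 1 : Fin m ⊕ Fin m → F) := by
    funext a
    rcases a with i | i
    · by_cases hij : i = j
      · subst hij
        simp
      · rw [(hz i hij).1]
        simp [hij]
    · by_cases hij : i = j
      · subst hij
        simp
      · rw [(hz i hij).2]
        simp [hij]
  rw [e]
  apply full_line (hbasis _) (hbasis _)
  rw [form_single_inl, Pi.single_eq_same]
  exact one_ne_zero

/-- **Criterion.** A subgroup containing all transvections along the standard basis vectors and,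
for each `k`, along one vector linking the first `k + 1` hyperbolic planes to the next one, is the
whole symplectic group. -/
theorem eq_top_of_full (hm : 0 < m) {H : Subgroup (symplecticGroup (Fin m) F)}
    (hbasis : ∀ a : Fin m ⊕ Fin m, Full H (Pi.single a 1))
    (hmix : ∀ (k : ℕ) (hk : k + 1 < m), ∃ u ∈ U m F (k + 1), ∃ z ∈ L F (⟨k + 1, hk⟩ : Fin m),
      u ≠ 0 ∧ z ≠ 0 ∧ Full H (u + z)) : H = ⊤ := by
  have hU : ∀ k : ℕ, k < m → ∀ v ∈ U m F (k + 1), Full H v := by
    intro k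
    induction k with
    | zero =>
      intro h0 v hv
      apply L_full hbasis (⟨0, h0⟩ : Fin m)
      intro i hi
      apply hv i
      have : i.val ≠ 0 := fun h => hi (Fin.ext h)
      omega
    | succ k ih =>
      intro hk v hv
      obtain ⟨u₀, hu₀, z₀, hz₀, hu₀', hz₀', hfull⟩ := hmix k hk
      obtain ⟨u, hu, z, hz, rfl⟩ := exists_split hk hv
      exact full_sum (ih (by omega)) (L_full hbasis _) (U_nondeg _) (L_nondeg _)
        (U_orth_L (le_refl _)) hu₀ hz₀ hu₀' hz₀' hfull hu hz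
  have hall : ∀ v : Fin m ⊕ Fin m → F, Full H v := by
    intro v
    obtain ⟨k, rfl⟩ : ∃ k, m = k + 1 := ⟨m - 1, by omega⟩
    apply hU k (by omega) v
    intro i hi
    exact absurd i.isLt (by omega)
  rw [eq_top_iff, ← transvectionSubgroup_eq_top m F]
  apply (Subgroup.closure_le H).mpr
  rintro A ⟨w, c, hA⟩
  have : A = T w c := Subtype.ext hA
  rw [this]
  exact hall w c

end Cfsg.Agent.Helper8.SpGen
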