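import Mathlib
import Cfsg.Agent.Helper8.SpRootA

set_option autoImplicit false

/-! Symplectic transvection groups `T(p)` as abstract root subgroups: pairs (helper8). -/

namespace Cfsg.Agent.Helper8.SpRoot

open Matrix Cfsg Cfsg.Agent.Helper7.Symp Cfsg.Agent.Helper7.R1
open scoped commutatorElement

variable {F : Type*} [Field F] {m : ℕ}

theorem T_comm_of_orth {p p' : Fin m ⊕ Fin m → F} (h : sympForm m F p p' = 0) (c d : F) :
    T p c * T p' d = T p' d * T p c := by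
  have h' : sympForm m F p' p = 0 := by rw [sympForm_swap, h, neg_zero]
  apply ext_mulVec
  intro v
  rw [coe_mul_mulVec, coe_mul_mulVec, T_mulVec, T_mulVec, T_mulVec, T_mulVec,
    sympForm_add_left, sympForm_add_left, sympForm_smul_left, sympForm_smul_left, h, h']
  simp only [mul_zero, add_zero]
  abel

theorem commutator_eq_bot_of_orth {p p' : Fin m ⊕ Fin m → F} (h : sympForm m F p p' = 0) :
    ⁅RG m F p, RG m F p'⁆ = ⊥ := by
  rw [Subgroup.commutator_eq_bot_iff_le_centralizer]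
  intro a ha
  rw [Subgroup.mem_centralizer_iff]
  intro b hb
  obtain ⟨c, rfl⟩ := (mem_RG_iff p a).mp ha
  obtain ⟨d, rfl⟩ := (mem_RG_iff p' b).mp hb
  exact (T_comm_of_orth h c d).symm

theorem ne_zero_of_form_left {p p' : Fin m ⊕ Fin m → F} (h : sympForm m F p p' ≠ 0) : p ≠ 0 := by
  rintro rfl
  apply h
  unfold sympForm
  rw [zero_dotProduct]

theorem ne_zero_of_form_right {p p' : Fin m ⊕ Fin m → F} (h : sympForm m F p p' ≠ 0) : p' ≠ 0 := by
  rintro rfl
  apply h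
  unfold sympForm
  rw [mulVec_zero, dotProduct_zero]

theorem form_swap_ne {p p' : Fin m ⊕ Fin m → F} (h : sympForm m F p p' ≠ 0) :
    sympForm m F p' p ≠ 0 := by
  rw [sympForm_swap]
  exact neg_ne_zero.mpr h

theorem RG_ne_of_form {p p' : Fin m ⊕ Fin m → F} (h : sympForm m F p p' ≠ 0) :
    RG m F p ≠ RG m F p' := by
  intro e
  have h1 : T p (1 : F) ∈ RG m F p' := e ▸ T_mem_RG p 1
  obtain ⟨d, hd⟩ := (mem_RG_iff p' _).mp h1
  have h2 := T_mulVec p (1 : F) p'
  rw [hd, T_mulVec, sympForm_self, mul_zero, zero_smul, add_zero, one_mul] at h2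
  have h3 : sympForm m F p' p • p = 0 := by
    have := h2
    rwa [eq_comm, add_eq_left] at this
  rcases smul_eq_zero.mp h3 with h4 | h4
  · exact form_swap_ne h h4
  · exact ne_zero_of_form_left h h4

theorem rankOneCondition_of_form {p p' : Fin m ⊕ Fin m → F} (h : sympForm m F p p' ≠ 0) :
    RankOneCondition (RG m F p) (RG m F p') := by
  intro a ha ha1
  obtain ⟨c, rfl⟩ := (mem_RG_iff p a).mp ha
  have hp : p ≠ 0 := ne_zero_of_form_left h
  have hp' : p' ≠ 0 := ne_zero_of_form_right h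
  have hc : c ≠ 0 := fun h0 => ha1 ((T_eq_one_iff hp c).mpr h0)
  obtain ⟨s, hs⟩ : ∃ s, s = sympForm m F p p' := ⟨_, rfl⟩
  have hs0 : s ≠ 0 := hs ▸ h
  have hs' : sympForm m F p' p = -s := by rw [sympForm_swap, ← hs]
  have hd : -(c * s * s)⁻¹ ≠ 0 := neg_ne_zero.mpr (inv_ne_zero (mul_ne_zero (mul_ne_zero hc hs0) hs0))
  refine ⟨T p' (-(c * s * s)⁻¹), T_mem_RG _ _, ?_, ?_⟩
  · intro h1
    exact hd ((T_eq_one_iff hp' _).mp h1)
  · rw [conjBy_RG, conjBy_RG, T_inv, T_inv, T_mulVec, T_mulVec, ← hs, hs']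
    have e : p + (-(-(c * s * s)⁻¹) * s) • p' = (c * s)⁻¹ • (p' + (-c * -s) • p) := by
      have h1 : -(-(c * s * s)⁻¹) * s = (c * s)⁻¹ := by field_simp
      have h2 : (c * s)⁻¹ * (-c * -s) = 1 := by field_simp
      rw [smul_add, smul_smul, h1, h2, one_smul, add_comm]
    rw [e, RG_smul _ (inv_ne_zero (mul_ne_zero hc hs0))]

theorem isRankOnePair_of_form {p p' : Fin m ⊕ Fin m → F} (h : sympForm m F p p' ≠ 0) :
    IsRankOnePair (RG m F p) (RG m F p') :=
  ⟨RG_ne_of_form h, RG_nilpotent p, RG_nilpotent p', rankOneCondition_of_form h,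
    rankOneCondition_of_form (form_swap_ne h)⟩

theorem form_ne_of_isRankOnePair {p p' : Fin m ⊕ Fin m → F} (hp : p ≠ 0)
    (h : IsRankOnePair (RG m F p) (RG m F p')) : sympForm m F p p' ≠ 0 := by
  intro h0
  have h0' : sympForm m F p' p = 0 := by rw [sympForm_swap, h0, neg_zero]
  have h1 : T p (1 : F) ≠ 1 := fun e => one_ne_zero ((T_eq_one_iff hp 1).mp e)
  obtain ⟨b, hb, -, hb2⟩ := h.cond_left (T p 1) (T_mem_RG p 1) h1
  obtain ⟨d, rfl⟩ := (mem_RG_iff p' b).mp hb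
  rw [conjBy_RG, conjBy_RG, T_inv, T_inv, T_mulVec, T_mulVec, h0, h0', mul_zero, zero_smul,
    add_zero, mul_zero, zero_smul, add_zero] at hb2
  exact h.ne hb2

theorem not_commutatorCase {p p' : Fin m ⊕ Fin m → F} (hp : p ≠ 0) (_hp' : p' ≠ 0) :
    ¬ RootCommutatorCase (SS m F) (RG m F p) (RG m F p') := by
  rintro ⟨h1, h2, -, -⟩
  by_cases h : sympForm m F p p' = 0
  · rw [commutator_eq_bot_of_orth h] at h1
    obtain ⟨q, hq, e⟩ := h1
    exact RG_ne_bot hq e.symm
  · obtain ⟨s, hs⟩ : ∃ s, s = sympForm m F p p' := ⟨_, rfl⟩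
    have hs0 : s ≠ 0 := hs ▸ h
    have hs' : sympForm m F p' p = -s := by rw [sympForm_swap, ← hs]
    have hz : ⁅T p (1 : F), T p' (1 : F)⁆ ∈ ⁅RG m F p, RG m F p'⁆ :=
      Subgroup.commutator_mem_commutator (T_mem_RG p 1) (T_mem_RG p' 1)
    have hcomm := h2 _ hz (T p 1) (Subgroup.mem_sup_left (T_mem_RG p 1))
    -- apply to `p`
    have e1 : (T p (1 : F) : Matrix (Fin m ⊕ Fin m) (Fin m ⊕ Fin m) F) *ᵥ p = p := by
      rw [T_mulVec, sympForm_self, mul_zero, zero_smul, add_zero]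
    obtain ⟨y, hy⟩ : ∃ y, y = ((⁅T p (1 : F), T p' (1 : F)⁆ : symplecticGroup (Fin m) F) :
        Matrix (Fin m ⊕ Fin m) (Fin m ⊕ Fin m) F) *ᵥ p := ⟨_, rfl⟩
    have e2 := congrArg (fun g : symplecticGroup (Fin m) F =>
      (g : Matrix (Fin m ⊕ Fin m) (Fin m ⊕ Fin m) F) *ᵥ p) hcomm
    simp only [coe_mul_mulVec, e1] at e2
    rw [← hy, T_mulVec, eq_comm, add_eq_left, one_mul] at e2
    have e3 : sympForm m F y p = 0 := by
      rcases smul_eq_zero.mp e2 with h4 | h4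
      · exact h4
      · exact absurd h4 hp
    -- compute `y`
    have e4 : y = (1 - s * s + s * s * s * s) • p - (s * s * s) • p' := by
      rw [hy, commutatorElement_def, T_inv, T_inv]
      simp only [coe_mul_mulVec, T_mulVec, sympForm_add_left, sympForm_smul_left, sympForm_self,
        ← hs, hs', mul_zero, add_zero, mul_neg, neg_mul, one_mul, neg_neg, zero_add]
      module
    rw [e4, sympForm_sub_left, sympForm_smul_left, sympForm_smul_left, sympForm_self, hs',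
      mul_zero, zero_sub] at e3
    have : s * s * s * s = 0 := by linear_combination e3
    simp only [mul_eq_zero, or_self] at this
    exact hs0 this

theorem exists_middle {p p' : Fin m ⊕ Fin m → F} (hp : p ≠ 0) (hp' : p' ≠ 0) :
    ∃ r, sympForm m F p r ≠ 0 ∧ sympForm m F r p' ≠ 0 := by
  obtain ⟨a, ha⟩ := exists_sympForm_ne_zero hp
  obtain ⟨b, hb⟩ := exists_sympForm_ne_zero hp'
  by_cases h1 : sympForm m F p' a ≠ 0
  · refine ⟨a, ha, ?_⟩
    rw [sympForm_swap]; exact neg_ne_zero.mpr h1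
  · push Not at h1
    by_cases h2 : sympForm m F p b ≠ 0
    · refine ⟨b, h2, ?_⟩
      rw [sympForm_swap]; exact neg_ne_zero.mpr hb
    · push Not at h2
      refine ⟨a + b, ?_, ?_⟩
      · rw [sympForm_add_right, h2, add_zero]; exact ha
      · rw [sympForm_swap, sympForm_add_right, h1, zero_add]; exact neg_ne_zero.mpr hb

theorem SS_connected : IsConnectedFamily (FAdj (SS m F)) (SS m F) := by
  rintro _ ⟨p, hp, rfl⟩ _ ⟨p', hp', rfl⟩
  obtain ⟨r, hr1, hr2⟩ := exists_middle hp hp'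
  have hr : r ≠ 0 := ne_zero_of_form_right hr1
  exact Relation.ReflTransGen.tail
    (Relation.ReflTransGen.single ⟨⟨p, hp, rfl⟩, ⟨r, hr, rfl⟩, isRankOnePair_of_form hr1⟩)
    ⟨⟨r, hr, rfl⟩, ⟨p', hp', rfl⟩, isRankOnePair_of_form hr2⟩

theorem SS_pair : ∀ A ∈ SS m F, ∀ B ∈ SS m F,
    ⁅A, B⁆ = ⊥ ∨ IsRankOnePair A B ∨ RootCommutatorCase (SS m F) A B := by
  rintro _ ⟨p, hp, rfl⟩ _ ⟨p', hp', rfl⟩
  by_cases h : sympForm m F p p' = 0
  · exact Or.inl (commutator_eq_bot_of_orth h)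
  · exact Or.inr (Or.inl (isRankOnePair_of_form h))

theorem SS_isRootSubgroupSet : IsRootSubgroupSet (SS m F) where
  commutative := by
    rintro _ ⟨p, hp, rfl⟩
    exact RG_comm p
  ne_bot := by
    rintro _ ⟨p, hp, rfl⟩
    exact RG_ne_bot hp
  generates := SS_generates
  conj_mem := SS_conj_mem
  pair := SS_pair

theorem SS_degenerate : IsDegenerateRootSet (SS m F) := by
  rintro _ ⟨p, hp, rfl⟩ _ ⟨p', hp', rfl⟩
  exact not_commutatorCase hp hp'

end Cfsg.Agent.Helper8.SpRoot
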