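import Mathlib
import Cfsg.Agent.Helper8.SpRootB
import Cfsg.Agent.S5016

set_option autoImplicit false

/-! Symplectic transvection groups `T(p)` as abstract root subgroups: the `SL₂` attached to a
hyperbolic pair (helper8). -/

namespace Cfsg.Agent.Helper8.SpRoot

open Matrix Cfsg Cfsg.Agent.Helper7.Symp Cfsg.Agent.Helper7.R1

variable {F : Type*} [Field F] {m : ℕ}

/-- form-preserving matrices are symplectic. -/
theorem mem_symp_of_form (A : Matrix (Fin m ⊕ Fin m) (Fin m ⊕ Fin m) F)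
    (h : ∀ u v, sympForm m F (A *ᵥ u) (A *ᵥ v) = sympForm m F u v) :
    A ∈ symplecticGroup (Fin m) F := by
  rw [SymplecticGroup.mem_iff']
  ext i j
  have h1 := h (Pi.single i 1) (Pi.single j 1)
  unfold sympForm at h1
  rw [mulVec_mulVec, ← vecMul_transpose A (Pi.single i 1), ← dotProduct_mulVec, mulVec_mulVec,
    ← Matrix.mul_assoc, single_one_dotProduct, mulVec_single_one, single_one_dotProduct,
    mulVec_single_one] at h1
  exact h1

/-- the matrix acting as `M` on the hyperbolic plane `⟨p, p'⟩` and trivially on its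
orthogonal complement. -/
def PhiMat (p p' : Fin m ⊕ Fin m → F) (M : Matrix (Fin 2) (Fin 2) F) :
    Matrix (Fin m ⊕ Fin m) (Fin m ⊕ Fin m) F :=
  1 + vecMulVec p ((M 0 0 - 1) • (J (Fin m) F *ᵥ p') - M 0 1 • (J (Fin m) F *ᵥ p))
    + vecMulVec p' (M 1 0 • (J (Fin m) F *ᵥ p') - (M 1 1 - 1) • (J (Fin m) F *ᵥ p))

theorem PhiMat_mulVec (p p' : Fin m ⊕ Fin m → F) (M : Matrix (Fin 2) (Fin 2) F)
    (x : Fin m ⊕ Fin m → F) :
    PhiMat p p' M *ᵥ x = x + ((M 0 0 - 1) * sympForm m F x p' - M 0 1 * sympForm m F x p) • p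
      + (M 1 0 * sympForm m F x p' - (M 1 1 - 1) * sympForm m F x p) • p' := by
  unfold PhiMat sympForm
  rw [add_mulVec, add_mulVec, one_mulVec, vecMulVec_mulVec, vecMulVec_mulVec, op_smul_eq_smul,
    op_smul_eq_smul, sub_dotProduct, sub_dotProduct, smul_dotProduct, smul_dotProduct,
    smul_dotProduct, smul_dotProduct, dotProduct_comm _ x, dotProduct_comm _ x]
  simp only [smul_eq_mul]

theorem PhiMat_form {p p' : Fin m ⊕ Fin m → F} (h1 : sympForm m F p p' = 1)
    {M : Matrix (Fin 2) (Fin 2) F} (hdet : M 0 0 * M 1 1 - M 0 1 * M 1 0 = 1)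
    (x y : Fin m ⊕ Fin m → F) :
    sympForm m F (PhiMat p p' M *ᵥ x) (PhiMat p p' M *ᵥ y) = sympForm m F x y := by
  have h1' : sympForm m F p' p = -1 := by rw [sympForm_swap, h1]
  rw [PhiMat_mulVec, PhiMat_mulVec]
  simp only [sympForm_add_left, sympForm_add_right, sympForm_smul_left, sympForm_smul_right,
    sympForm_self, h1, h1']
  rw [sympForm_swap p y, sympForm_swap p' y]
  linear_combination (sympForm m F x p * sympForm m F y p' - sympForm m F x p' * sympForm m F y p)
    * hdet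

theorem PhiMat_mem {p p' : Fin m ⊕ Fin m → F} (h1 : sympForm m F p p' = 1)
    (M : Matrix.SpecialLinearGroup (Fin 2) F) :
    PhiMat p p' (M : Matrix (Fin 2) (Fin 2) F) ∈ symplecticGroup (Fin m) F := by
  apply mem_symp_of_form
  have hdet := M.det_coe
  rw [Matrix.det_fin_two] at hdet
  exact PhiMat_form h1 hdet

theorem PhiMat_mul {p p' : Fin m ⊕ Fin m → F} (h1 : sympForm m F p p' = 1)
    (M N : Matrix (Fin 2) (Fin 2) F) :
    PhiMat p p' (M * N) = PhiMat p p' M * PhiMat p p' N := by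
  have h1' : sympForm m F p' p = -1 := by rw [sympForm_swap, h1]
  rw [Matrix.ext_iff_mulVec]
  intro x
  rw [← mulVec_mulVec, PhiMat_mulVec, PhiMat_mulVec p p' M, PhiMat_mulVec p p' N]
  simp only [sympForm_add_left, sympForm_smul_left, sympForm_self, h1, h1', Matrix.mul_apply,
    Fin.sum_univ_two]
  module

theorem PhiMat_one (p p' : Fin m ⊕ Fin m → F) : PhiMat p p' (1 : Matrix (Fin 2) (Fin 2) F) = 1 := by
  rw [Matrix.ext_iff_mulVec]
  intro x
  rw [PhiMat_mulVec, one_mulVec]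
  simp

/-- the homomorphism `SL₂(F) → Sp` attached to a hyperbolic pair. -/
def Phi {p p' : Fin m ⊕ Fin m → F} (h1 : sympForm m F p p' = 1) :
    Matrix.SpecialLinearGroup (Fin 2) F →* symplecticGroup (Fin m) F where
  toFun M := ⟨PhiMat p p' (M : Matrix (Fin 2) (Fin 2) F), PhiMat_mem h1 M⟩
  map_one' := Subtype.ext (by
    show PhiMat p p' ((1 : Matrix.SpecialLinearGroup (Fin 2) F) : Matrix (Fin 2) (Fin 2) F) = 1
    rw [Matrix.SpecialLinearGroup.coe_one, PhiMat_one])
  map_mul' M N := Subtype.ext (by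
    show PhiMat p p' ((M * N : Matrix.SpecialLinearGroup (Fin 2) F) : Matrix (Fin 2) (Fin 2) F)
      = PhiMat p p' M * PhiMat p p' N
    rw [Matrix.SpecialLinearGroup.coe_mul, PhiMat_mul h1])

theorem Phi_mulVec {p p' : Fin m ⊕ Fin m → F} (h1 : sympForm m F p p' = 1)
    (M : Matrix.SpecialLinearGroup (Fin 2) F) (x : Fin m ⊕ Fin m → F) :
    (Phi h1 M : Matrix (Fin m ⊕ Fin m) (Fin m ⊕ Fin m) F) *ᵥ x
      = x + (((M : Matrix (Fin 2) (Fin 2) F) 0 0 - 1) * sympForm m F x p'
          - (M : Matrix (Fin 2) (Fin 2) F) 0 1 * sympForm m F x p) • p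
        + ((M : Matrix (Fin 2) (Fin 2) F) 1 0 * sympForm m F x p'
          - ((M : Matrix (Fin 2) (Fin 2) F) 1 1 - 1) * sympForm m F x p) • p' :=
  PhiMat_mulVec p p' _ x

theorem Phi_up {p p' : Fin m ⊕ Fin m → F} (h1 : sympForm m F p p' = 1) (s : F) :
    Phi h1 (Cfsg.Agent.S5016.up s) = T p (-s) := by
  apply ext_mulVec
  intro x
  rw [Phi_mulVec, T_mulVec, Cfsg.Agent.S5016.up_coe]
  simp

theorem Phi_lo {p p' : Fin m ⊕ Fin m → F} (h1 : sympForm m F p p' = 1) (t : F) :
    Phi h1 (Cfsg.Agent.S5016.lo t) = T p' t := by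
  apply ext_mulVec
  intro x
  rw [Phi_mulVec, T_mulVec, Cfsg.Agent.S5016.lo_coe]
  simp

theorem Phi_injective {p p' : Fin m ⊕ Fin m → F} (h1 : sympForm m F p p' = 1) :
    Function.Injective (Phi h1) := by
  have h1' : sympForm m F p' p = -1 := by rw [sympForm_swap, h1]
  rw [injective_iff_map_eq_one]
  intro M hM
  have e1 := Phi_mulVec h1 M p
  have e2 := Phi_mulVec h1 M p'
  rw [hM, coe_one_mulVec] at e1 e2
  simp only [sympForm_self, h1, h1', mul_zero, mul_one, sub_zero, mul_neg,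
    sub_neg_eq_add, zero_add] at e1 e2
  -- e1 : p = p + (M00 - 1) • p + M10 • p'
  have a1 := congrArg (fun v => sympForm m F v p') e1
  have a2 := congrArg (fun v => sympForm m F v p) e1
  have a3 := congrArg (fun v => sympForm m F v p') e2
  have a4 := congrArg (fun v => sympForm m F v p) e2
  simp only [sympForm_add_left, sympForm_smul_left, sympForm_self, h1, h1', mul_zero, mul_one,
    add_zero, mul_neg] at a1 a2 a3 a4
  ext i j
  fin_cases i <;> fin_cases j
  · show (M : Matrix (Fin 2) (Fin 2) F) 0 0 = (1 : Matrix.SpecialLinearGroup (Fin 2) F).1 0 0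
    rw [Matrix.SpecialLinearGroup.coe_one, Matrix.one_apply_eq]
    linear_combination -a1
  · show (M : Matrix (Fin 2) (Fin 2) F) 0 1 = (1 : Matrix.SpecialLinearGroup (Fin 2) F).1 0 1
    rw [Matrix.SpecialLinearGroup.coe_one, Matrix.one_apply_ne (by decide)]
    linear_combination -a3
  · show (M : Matrix (Fin 2) (Fin 2) F) 1 0 = (1 : Matrix.SpecialLinearGroup (Fin 2) F).1 1 0
    rw [Matrix.SpecialLinearGroup.coe_one, Matrix.one_apply_ne (by decide)]
    linear_combination a2
  · show (M : Matrix (Fin 2) (Fin 2) F) 1 1 = (1 : Matrix.SpecialLinearGroup (Fin 2) F).1 1 1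
    rw [Matrix.SpecialLinearGroup.coe_one, Matrix.one_apply_eq]
    linear_combination a4

end Cfsg.Agent.Helper8.SpRoot
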