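import Mathlib
import Cfsg.Agent.Helper8.SpGenA
import Cfsg.Agent.Helper8.SpRootC

set_option autoImplicit false

/-! Generation of `Sp_{2m}(F)`: the Coxeter-type monomial element (helper8). -/

namespace Cfsg.Agent.Helper8.SpGen

open Matrix Cfsg Cfsg.Agent.Helper7.Symp

variable {F : Type*} [Field F] {m : ℕ}

/-- standard basis vectors. -/
def ee (F : Type*) [Field F] {m : ℕ} (i : Fin m) : Fin m ⊕ Fin m → F := Pi.single (Sum.inl i) 1

def ff (F : Type*) [Field F] {m : ℕ} (i : Fin m) : Fin m ⊕ Fin m → F := Pi.single (Sum.inr i) 1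

theorem form_ee (x : Fin m ⊕ Fin m → F) (j : Fin m) : sympForm m F x (ee F j) = x (Sum.inr j) :=
  form_single_inl x j

theorem form_ff (x : Fin m ⊕ Fin m → F) (j : Fin m) : sympForm m F x (ff F j) = - x (Sum.inl j) :=
  form_single_inr x j

theorem ee_inl (i j : Fin m) : ee F i (Sum.inl j) = if j = i then 1 else 0 := by
  unfold ee
  rw [Pi.single_apply]
  simp

theorem ee_inr (i j : Fin m) : ee F i (Sum.inr j) = 0 := by
  unfold ee
  rw [Pi.single_apply]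
  simp

theorem ff_inr (i j : Fin m) : ff F i (Sum.inr j) = if j = i then 1 else 0 := by
  unfold ff
  rw [Pi.single_apply]
  simp

theorem ff_inl (i j : Fin m) : ff F i (Sum.inl j) = 0 := by
  unfold ff
  rw [Pi.single_apply]
  simp

/-- the permutation matrix of an index permutation acting on both halves. -/
def permMat (F : Type*) [Field F] {m : ℕ} (σ : Equiv.Perm (Fin m)) :
    Matrix (Fin m ⊕ Fin m) (Fin m ⊕ Fin m) F :=
  (1 : Matrix (Fin m ⊕ Fin m) (Fin m ⊕ Fin m) F).submatrix id (Equiv.sumCongr σ σ)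

theorem permMat_mulVec (σ : Equiv.Perm (Fin m)) (v : Fin m ⊕ Fin m → F) :
    permMat F σ *ᵥ v = v ∘ (Equiv.sumCongr σ σ).symm := by
  unfold permMat
  rw [Matrix.submatrix_mulVec_equiv, one_mulVec]
  rfl

theorem permMat_inl (σ : Equiv.Perm (Fin m)) (v : Fin m ⊕ Fin m → F) (i : Fin m) :
    (permMat F σ *ᵥ v) (Sum.inl i) = v (Sum.inl (σ.symm i)) := by
  rw [permMat_mulVec]
  rfl

theorem permMat_inr (σ : Equiv.Perm (Fin m)) (v : Fin m ⊕ Fin m → F) (i : Fin m) :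
    (permMat F σ *ᵥ v) (Sum.inr i) = v (Sum.inr (σ.symm i)) := by
  rw [permMat_mulVec]
  rfl

theorem permMat_mem (σ : Equiv.Perm (Fin m)) : permMat F σ ∈ symplecticGroup (Fin m) F := by
  apply SpRoot.mem_symp_of_form
  intro u v
  rw [form_eq, form_eq]
  simp only [permMat_inl, permMat_inr]
  exact Equiv.sum_comp σ.symm
    (fun i => u (Sum.inr i) * v (Sum.inl i) - u (Sum.inl i) * v (Sum.inr i))

/-- the index permutation as an element of the symplectic group. -/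
def permSp (F : Type*) [Field F] {m : ℕ} (σ : Equiv.Perm (Fin m)) : symplecticGroup (Fin m) F :=
  ⟨permMat F σ, permMat_mem σ⟩

theorem permSp_ee (σ : Equiv.Perm (Fin m)) (i : Fin m) :
    (permSp F σ : Matrix (Fin m ⊕ Fin m) (Fin m ⊕ Fin m) F) *ᵥ ee F i = ee F (σ i) := by
  funext a
  rcases a with j | j
  · show (permMat F σ *ᵥ ee F i) (Sum.inl j) = _
    rw [permMat_inl, ee_inl, ee_inl]
    congr 1
    rw [Equiv.symm_apply_eq]
  · show (permMat F σ *ᵥ ee F i) (Sum.inr j) = _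
    rw [permMat_inr, ee_inr, ee_inr]

theorem permSp_ff (σ : Equiv.Perm (Fin m)) (i : Fin m) :
    (permSp F σ : Matrix (Fin m ⊕ Fin m) (Fin m ⊕ Fin m) F) *ᵥ ff F i = ff F (σ i) := by
  funext a
  rcases a with j | j
  · show (permMat F σ *ᵥ ff F i) (Sum.inl j) = _
    rw [permMat_inl, ff_inl, ff_inl]
  · show (permMat F σ *ᵥ ff F i) (Sum.inr j) = _
    rw [permMat_inr, ff_inr, ff_inr]
    congr 1
    rw [Equiv.symm_apply_eq]

/-! ### The quarter turn in the first hyperbolic plane -/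

variable {n : ℕ}

theorem form_ff_ee (i : Fin m) : sympForm m F (ff F i) (ee F i) = 1 := by
  rw [form_ee, ff_inr, if_pos rfl]

/-- the matrix `[0 -1; 1 0]`. -/
def Mrot (F : Type*) [Field F] : Matrix.SpecialLinearGroup (Fin 2) F :=
  ⟨!![0, -1; 1, 0], by simp [Matrix.det_fin_two]⟩

/-- the quarter turn `e₀ ↦ -f₀`, `f₀ ↦ e₀`. -/
def rot (F : Type*) [Field F] (n : ℕ) : symplecticGroup (Fin (n + 1)) F :=
  SpRoot.Phi (form_ff_ee (F := F) (0 : Fin (n + 1))) (Mrot F)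

theorem rot_mulVec (x : Fin (n + 1) ⊕ Fin (n + 1) → F) :
    (rot F n : Matrix (Fin (n + 1) ⊕ Fin (n + 1)) (Fin (n + 1) ⊕ Fin (n + 1)) F) *ᵥ x
      = x + (- x (Sum.inr 0) - x (Sum.inl 0)) • ff F 0 + (x (Sum.inr 0) - x (Sum.inl 0)) • ee F 0 := by
  unfold rot
  rw [SpRoot.Phi_mulVec, form_ee, form_ff]
  simp [Mrot]

theorem rot_ee_zero :
    (rot F n : Matrix (Fin (n + 1) ⊕ Fin (n + 1)) (Fin (n + 1) ⊕ Fin (n + 1)) F) *ᵥ ee F 0
      = - ff F 0 := by
  rw [rot_mulVec, ee_inr, ee_inl, if_pos rfl]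
  module

theorem rot_ff_zero :
    (rot F n : Matrix (Fin (n + 1) ⊕ Fin (n + 1)) (Fin (n + 1) ⊕ Fin (n + 1)) F) *ᵥ ff F 0
      = ee F 0 := by
  rw [rot_mulVec, ff_inr, ff_inl, if_pos rfl]
  module

theorem rot_ee_of_ne {i : Fin (n + 1)} (hi : i ≠ 0) :
    (rot F n : Matrix (Fin (n + 1) ⊕ Fin (n + 1)) (Fin (n + 1) ⊕ Fin (n + 1)) F) *ᵥ ee F i
      = ee F i := by
  rw [rot_mulVec, ee_inr, ee_inl, if_neg (Ne.symm hi)]
  module

theorem rot_ff_of_ne {i : Fin (n + 1)} (hi : i ≠ 0) :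
    (rot F n : Matrix (Fin (n + 1) ⊕ Fin (n + 1)) (Fin (n + 1) ⊕ Fin (n + 1)) F) *ᵥ ff F i
      = ff F i := by
  rw [rot_mulVec, ff_inr, ff_inl, if_neg (Ne.symm hi)]
  module

/-- the Coxeter-type element `e₀ ↦ e₁ ↦ ⋯ ↦ e_n ↦ -f₀`, `f₀ ↦ f₁ ↦ ⋯ ↦ f_n ↦ e₀`. -/
def cox (F : Type*) [Field F] (n : ℕ) : symplecticGroup (Fin (n + 1)) F :=
  rot F n * permSp F (finRotate (n + 1))

theorem cox_ee {i : ℕ} (hi : i < n) :
    (cox F n : Matrix (Fin (n + 1) ⊕ Fin (n + 1)) (Fin (n + 1) ⊕ Fin (n + 1)) F) *ᵥ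
      ee F (⟨i, by omega⟩ : Fin (n + 1)) = ee F (⟨i + 1, by omega⟩ : Fin (n + 1)) := by
  unfold cox
  rw [coe_mul_mulVec, permSp_ee, finRotate_of_lt hi, rot_ee_of_ne]
  intro h
  have := congrArg Fin.val h
  simp at this

theorem cox_ff {i : ℕ} (hi : i < n) :
    (cox F n : Matrix (Fin (n + 1) ⊕ Fin (n + 1)) (Fin (n + 1) ⊕ Fin (n + 1)) F) *ᵥ
      ff F (⟨i, by omega⟩ : Fin (n + 1)) = ff F (⟨i + 1, by omega⟩ : Fin (n + 1)) := by
  unfold cox
  rw [coe_mul_mulVec, permSp_ff, finRotate_of_lt hi, rot_ff_of_ne]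
  intro h
  have := congrArg Fin.val h
  simp at this

theorem cox_ee_last :
    (cox F n : Matrix (Fin (n + 1) ⊕ Fin (n + 1)) (Fin (n + 1) ⊕ Fin (n + 1)) F) *ᵥ
      ee F (Fin.last n) = - ff F 0 := by
  unfold cox
  rw [coe_mul_mulVec, permSp_ee, finRotate_last, rot_ee_zero]

theorem cox_ff_last :
    (cox F n : Matrix (Fin (n + 1) ⊕ Fin (n + 1)) (Fin (n + 1) ⊕ Fin (n + 1)) F) *ᵥ
      ff F (Fin.last n) = ee F 0 := by
  unfold cox
  rw [coe_mul_mulVec, permSp_ff, finRotate_last, rot_ff_zero]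

end Cfsg.Agent.Helper8.SpGen
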