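import Mathlib
import Cfsg.Agent.Helper8.SpGenB

set_option autoImplicit false

/-! Generation of `Sp_{2m}(F)` by two elements: the general argument (helper8). -/

namespace Cfsg.Agent.Helper8.SpGen

open Matrix Cfsg Cfsg.Agent.Helper7.Symp

variable {F : Type*} [Field F] {N : ℕ}

/-- two commuting elements of coprime orders lie in every subgroup containing their product. -/
theorem mem_of_commute_coprime {G : Type*} [Group G] {x y : G} (hc : Commute x y) {k p : ℕ}
    (hx : x ^ k = 1) (hy : y ^ p = 1) (hkp : k.Coprime p) (H : Subgroup G) (hxy : x * y ∈ H) :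
    x ∈ H ∧ y ∈ H := by
  have h1 : x ^ p ∈ H := by
    have := H.pow_mem hxy p
    rwa [hc.mul_pow, hy, mul_one] at this
  have h2 : y ^ k ∈ H := by
    have := H.pow_mem hxy k
    rwa [hc.mul_pow, hx, one_mul] at this
  have hco : IsCoprime (k : ℤ) (p : ℤ) := Nat.isCoprime_iff_coprime.mpr hkp
  obtain ⟨a, b, hab⟩ := hco
  constructor
  · have e : x = (x ^ p) ^ b := by
      have e1 : x = x ^ (a * (k : ℤ) + b * (p : ℤ)) := by rw [hab, zpow_one]
      rw [_root_.zpow_add, mul_comm a, mul_comm b, _root_.zpow_mul, _root_.zpow_mul, zpow_natCast, zpow_natCast, hx,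
        _root_.one_zpow, one_mul] at e1
      exact e1
    rw [e]
    exact H.zpow_mem h1 b
  · have e : y = (y ^ k) ^ a := by
      have e1 : y = y ^ (a * (k : ℤ) + b * (p : ℤ)) := by rw [hab, zpow_one]
      rw [_root_.zpow_add, mul_comm a, mul_comm b, _root_.zpow_mul, _root_.zpow_mul, zpow_natCast, zpow_natCast, hy,
        _root_.one_zpow, mul_one] at e1
      exact e1
    rw [e]
    exact H.zpow_mem h2 a

theorem T_pow {m : ℕ} (r : Fin m ⊕ Fin m → F) (c : F) (j : ℕ) : (T r c) ^ j = T r ((j : F) * c) := by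
  induction j with
  | zero => rw [pow_zero, Nat.cast_zero, zero_mul, SpRoot.T_zero]
  | succ j ih => rw [pow_succ, ih, SpRoot.T_mul, Nat.cast_succ, add_mul, one_mul]

/-- the index `1`. -/
def i1 (hN : 1 ≤ N) : Fin (N + 1) := ⟨1, by omega⟩

theorem i1_ne_zero (hN : 1 ≤ N) : i1 hN ≠ 0 := by
  intro h
  have := congrArg Fin.val h
  simp [i1] at this

theorem last_ne_zero (hN : 1 ≤ N) : Fin.last N ≠ 0 := by
  intro h
  have := congrArg Fin.val h
  simp at this
  omega

/-- the hyperbolic pair `(f₀ + f₁, e₀)`. -/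
theorem form_pair (hN : 1 ≤ N) :
    sympForm (N + 1) F (ff F (0 : Fin (N + 1)) + ff F (i1 hN)) (ee F 0) = 1 := by
  rw [form_ee, Pi.add_apply, ff_inr, ff_inr, if_pos rfl, if_neg (Ne.symm (i1_ne_zero hN)), add_zero]

/-- the copy of `SL₂` on the hyperbolic plane `⟨f₀ + f₁, e₀⟩`. -/
def hh (hN : 1 ≤ N) (M : Matrix.SpecialLinearGroup (Fin 2) F) : symplecticGroup (Fin (N + 1)) F :=
  SpRoot.Phi (form_pair (F := F) hN) M

theorem hh_mulVec (hN : 1 ≤ N) (M : Matrix.SpecialLinearGroup (Fin 2) F)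
    (x : Fin (N + 1) ⊕ Fin (N + 1) → F) :
    (hh hN M : Matrix (Fin (N + 1) ⊕ Fin (N + 1)) (Fin (N + 1) ⊕ Fin (N + 1)) F) *ᵥ x
      = x + (((M : Matrix (Fin 2) (Fin 2) F) 0 0 - 1) * x (Sum.inr 0)
          + (M : Matrix (Fin 2) (Fin 2) F) 0 1 * (x (Sum.inl 0) + x (Sum.inl (i1 hN))))
            • (ff F (0 : Fin (N + 1)) + ff F (i1 hN))
        + ((M : Matrix (Fin 2) (Fin 2) F) 1 0 * x (Sum.inr 0)
          + ((M : Matrix (Fin 2) (Fin 2) F) 1 1 - 1) * (x (Sum.inl 0) + x (Sum.inl (i1 hN))))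
            • ee F 0 := by
  unfold hh
  rw [SpRoot.Phi_mulVec, form_ee, sympForm_add_right, form_ff, form_ff]
  congr 2
  · congr 1
    ring
  · ring

theorem hh_ee_zero (hN : 1 ≤ N) (M : Matrix.SpecialLinearGroup (Fin 2) F) :
    (hh hN M : Matrix (Fin (N + 1) ⊕ Fin (N + 1)) (Fin (N + 1) ⊕ Fin (N + 1)) F) *ᵥ ee F 0
      = (M : Matrix (Fin 2) (Fin 2) F) 1 1 • ee F 0
        + (M : Matrix (Fin 2) (Fin 2) F) 0 1 • (ff F (0 : Fin (N + 1)) + ff F (i1 hN)) := by
  rw [hh_mulVec, ee_inr, ee_inl, ee_inl, if_pos rfl, if_neg (i1_ne_zero hN)]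
  module

theorem hh_ee_one (hN : 1 ≤ N) (M : Matrix.SpecialLinearGroup (Fin 2) F) :
    (hh hN M : Matrix (Fin (N + 1) ⊕ Fin (N + 1)) (Fin (N + 1) ⊕ Fin (N + 1)) F) *ᵥ ee F (i1 hN)
      = (((M : Matrix (Fin 2) (Fin 2) F) 1 1 - 1) • ee F 0
          + (M : Matrix (Fin 2) (Fin 2) F) 0 1 • ff F (0 : Fin (N + 1)))
        + ((1 : F) • ee F (i1 hN) + (M : Matrix (Fin 2) (Fin 2) F) 0 1 • ff F (i1 hN)) := by
  rw [hh_mulVec, ee_inr, ee_inl, ee_inl, if_pos rfl, if_neg (Ne.symm (i1_ne_zero hN))]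
  module

theorem hh_ff_last (hN : 1 ≤ N) (M : Matrix.SpecialLinearGroup (Fin 2) F) :
    (hh hN M : Matrix (Fin (N + 1) ⊕ Fin (N + 1)) (Fin (N + 1) ⊕ Fin (N + 1)) F) *ᵥ
      ff F (Fin.last N) = ff F (Fin.last N) := by
  rw [hh_mulVec, ff_inr, ff_inl, ff_inl, if_neg (Ne.symm (last_ne_zero hN))]
  module

theorem hh_pow (hN : 1 ≤ N) (M : Matrix.SpecialLinearGroup (Fin 2) F) (k : ℕ) :
    (hh hN M) ^ k = hh hN (M ^ k) := by
  unfold hh
  rw [map_pow]

theorem hh_one (hN : 1 ≤ N) : hh hN (1 : Matrix.SpecialLinearGroup (Fin 2) F) = 1 := by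
  unfold hh
  rw [map_one]

/-- the vector `a e_j + b f_j`. -/
def vec (F : Type*) [Field F] {m : ℕ} (j : Fin m) (a b : F) : Fin m ⊕ Fin m → F :=
  a • ee F j + b • ff F j

theorem vec_inl {m : ℕ} (j : Fin m) (a b : F) : vec F j a b (Sum.inl j) = a := by
  unfold vec
  rw [Pi.add_apply, Pi.smul_apply, Pi.smul_apply, ee_inl, ff_inl, if_pos rfl]
  simp

theorem vec_inr {m : ℕ} (j : Fin m) (a b : F) : vec F j a b (Sum.inr j) = b := by
  unfold vec
  rw [Pi.add_apply, Pi.smul_apply, Pi.smul_apply, ee_inr, ff_inr, if_pos rfl]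
  simp

theorem vec_mem_L {m : ℕ} (j : Fin m) (a b : F) : vec F j a b ∈ L F j := by
  unfold vec ee ff
  exact (L F j).add_mem ((L F j).smul_mem _ (single_mem_L j 1).1)
    ((L F j).smul_mem _ (single_mem_L j 1).2)

theorem vec_mem_U {m : ℕ} (j : Fin m) (a b : F) {k : ℕ} (hj : j.val < k) : vec F j a b ∈ U m F k := by
  unfold vec ee ff
  exact (U m F k).add_mem ((U m F k).smul_mem _ (single_mem_U hj 1).1)
    ((U m F k).smul_mem _ (single_mem_U hj 1).2)

theorem vec_ne_zero {m : ℕ} (j : Fin m) {a b : F} (h : a ≠ 0 ∨ b ≠ 0) : vec F j a b ≠ 0 := by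
  intro h0
  rcases h with h | h
  · apply h
    rw [← vec_inl j a b, h0]
    rfl
  · apply h
    rw [← vec_inr j a b, h0]
    rfl

theorem cox_vec {i : ℕ} (hi : i < N) (a b : F) :
    (cox F N : Matrix (Fin (N + 1) ⊕ Fin (N + 1)) (Fin (N + 1) ⊕ Fin (N + 1)) F) *ᵥ
      vec F (⟨i, by omega⟩ : Fin (N + 1)) a b = vec F (⟨i + 1, by omega⟩ : Fin (N + 1)) a b := by
  unfold vec
  rw [mulVec_add, mulVec_smul, mulVec_smul, cox_ee hi, cox_ff hi]

/-- **The general two-generator statement.** -/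
theorem closure_eq_top (hN : 1 ≤ N) (M : Matrix.SpecialLinearGroup (Fin 2) F) (k p : ℕ)
    [CharP F p] (hMk : M ^ k = 1) (hkp : k.Coprime p)
    (hM : (M : Matrix (Fin 2) (Fin 2) F) 1 1 - 1 ≠ 0 ∨ (M : Matrix (Fin 2) (Fin 2) F) 0 1 ≠ 0)
    (hfull : ∀ H : Subgroup (symplecticGroup (Fin (N + 1)) F), hh hN M ∈ H →
      T (ee F (0 : Fin (N + 1))) 1 ∈ H → Full H (ee F (0 : Fin (N + 1)))) :
    Subgroup.closure ({hh hN M * T (ff F (Fin.last N)) 1, cox F N} :
      Set (symplecticGroup (Fin (N + 1)) F)) = ⊤ := by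
  have hH : ∀ H : Subgroup (symplecticGroup (Fin (N + 1)) F),
      hh hN M * T (ff F (Fin.last N)) 1 ∈ H → cox F N ∈ H → H = ⊤ := by
    intro H haH hbH
    -- the two factors
    have hcomm : Commute (hh hN M) (T (ff F (Fin.last N)) (1 : F)) := by
      have h1 := SpRoot.conj_T (hh hN M) (ff F (Fin.last N)) (1 : F)
      rw [hh_ff_last] at h1
      exact mul_inv_eq_iff_eq_mul.mp h1
    have hxk : (hh hN M) ^ k = 1 := by rw [hh_pow, hMk, hh_one]
    have hyp : (T (ff F (Fin.last N)) (1 : F)) ^ p = 1 := by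
      rw [T_pow, CharP.cast_eq_zero, zero_mul, SpRoot.T_zero]
    obtain ⟨hhH, hxH⟩ := mem_of_commute_coprime hcomm hxk hyp hkp H haH
    -- e₀
    have he0 : T (ee F (0 : Fin (N + 1))) (1 : F) ∈ H := by
      have h1 := SpRoot.conj_T (cox F N) (ff F (Fin.last N)) (1 : F)
      rw [cox_ff_last] at h1
      rw [← h1]
      exact H.mul_mem (H.mul_mem hbH hxH) (H.inv_mem hbH)
    have hF0 : Full H (ee F (0 : Fin (N + 1))) := hfull H hhH he0
    -- the basis
    have hee : ∀ i : ℕ, ∀ hi : i < N + 1, Full H (ee F (⟨i, hi⟩ : Fin (N + 1))) := by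
      intro i
      induction i with
      | zero => intro _; exact hF0
      | succ i ih =>
        intro hi
        have h1 := (ih (by omega)).map hbH
        rw [cox_ee (by omega)] at h1
        exact h1
    have hf0 : Full H (ff F (0 : Fin (N + 1))) := by
      have h1 := (hee N (by omega)).map hbH
      have e : (⟨N, by omega⟩ : Fin (N + 1)) = Fin.last N := rfl
      rw [e, cox_ee_last] at h1
      have h2 := h1.smul (-1)
      rw [neg_one_smul, neg_neg] at h2
      exact h2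
    have hff : ∀ i : ℕ, ∀ hi : i < N + 1, Full H (ff F (⟨i, hi⟩ : Fin (N + 1))) := by
      intro i
      induction i with
      | zero => intro _; exact hf0
      | succ i ih =>
        intro hi
        have h1 := (ih (by omega)).map hbH
        rw [cox_ff (by omega)] at h1
        exact h1
    have hbasis : ∀ a : Fin (N + 1) ⊕ Fin (N + 1), Full H (Pi.single a 1) := by
      intro a
      rcases a with i | i
      · exact hee i.val i.isLt
      · exact hff i.val i.isLt
    -- the linking vectors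
    have hlink : ∀ j : ℕ, ∀ hj : j + 1 < N + 1,
        Full H (vec F (⟨j, by omega⟩ : Fin (N + 1)) ((M : Matrix (Fin 2) (Fin 2) F) 1 1 - 1)
            ((M : Matrix (Fin 2) (Fin 2) F) 0 1)
          + vec F (⟨j + 1, hj⟩ : Fin (N + 1)) 1 ((M : Matrix (Fin 2) (Fin 2) F) 0 1)) := by
      intro j
      induction j with
      | zero =>
        intro hj
        have h1 := (hee 1 (by omega)).map hhH
        have e : (⟨1, by omega⟩ : Fin (N + 1)) = i1 hN := rfl
        rw [e, hh_ee_one] at h1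
        exact h1
      | succ j ih =>
        intro hj
        have h1 := (ih (by omega)).map hbH
        rw [mulVec_add, cox_vec (by omega), cox_vec (by omega)] at h1
        exact h1
    apply eq_top_of_full (by omega) hbasis
    intro j hj
    refine ⟨_, vec_mem_U _ _ _ (by simp), _, vec_mem_L _ _ _, vec_ne_zero _ hM,
      vec_ne_zero _ (Or.inl one_ne_zero), hlink j hj⟩
  apply hH
  · exact Subgroup.subset_closure (by simp)
  · exact Subgroup.subset_closure (by simp)

end Cfsg.Agent.Helper8.SpGen
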