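import Mathlib
import Cfsg.Agent.Helper8.CGenA
import Cfsg.Agent.Helper8.SpGenC
import Cfsg.Agent.Helper7.ChevRee2

set_option autoImplicit false
set_option linter.unusedSectionVars false
set_option linter.unusedVariables false

/-!
Generation of a Chevalley group by two elements `h_r(k) x_p(1)` and `n_w`: the generic argument with one seed root.
-/

namespace Cfsg.Agent.Helper8.CGen

open Cfsg Cfsg.Lie Matrix Cfsg.Agent.Helper7.Chev

variable {D : ChevalleyDatum} {F : Type*} [Field F]

/-- A generator of the multiplicative group of a finite field, together with its inverse. -/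
theorem exists_gen (F : Type*) [Field F] [Fintype F] :
    ∃ k : F, k ≠ 0 ∧ (∀ y : F, y ≠ 0 → ∃ j : ℕ, y = k ^ j) ∧
      (∀ y : F, y ≠ 0 → ∃ j : ℕ, y = k⁻¹ ^ j) ∧ k ^ (Fintype.card F - 1) = 1 := by
  classical
  obtain ⟨g, hg⟩ := IsCyclic.exists_generator (α := Fˣ)
  refine ⟨(g : F), g.ne_zero, ?_, ?_, FiniteField.pow_card_sub_one_eq_one _ g.ne_zero⟩
  · intro y hy
    have h1 : Units.mk0 y hy ∈ Subgroup.zpowers g := hg _
    rw [← mem_powers_iff_mem_zpowers] at h1
    obtain ⟨j, hj⟩ := h1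
    refine ⟨j, ?_⟩
    have := congrArg (fun u : Fˣ => (u : F)) hj
    simp only [Units.val_pow_eq_pow_val, Units.val_mk0] at this
    exact this.symm
  · intro y hy
    have h1 : Units.mk0 y hy ∈ Subgroup.zpowers g⁻¹ := by
      rw [Subgroup.zpowers_inv]; exact hg _
    rw [← mem_powers_iff_mem_zpowers] at h1
    obtain ⟨j, hj⟩ := h1
    refine ⟨j, ?_⟩
    have := congrArg (fun u : Fˣ => (u : F)) hj
    simp only [Units.val_pow_eq_pow_val, Units.val_mk0, Units.val_inv_eq_inv_val] at this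
    exact this.symm

theorem diagSL_mul (a b : F) (ha : a ≠ 0) (hb : b ≠ 0) :
    diagSL a ha * diagSL b hb = diagSL (a * b) (mul_ne_zero ha hb) := by
  apply Subtype.ext
  rw [Matrix.SpecialLinearGroup.coe_mul]
  change !![a, 0; 0, a⁻¹] * !![b, 0; 0, b⁻¹] = !![a * b, 0; 0, (a * b)⁻¹]
  ext i j
  fin_cases i <;> fin_cases j <;> simp [Matrix.mul_apply, Fin.sum_univ_two, mul_comm]

theorem diagSL_one : diagSL (1 : F) one_ne_zero = 1 := by
  apply Subtype.ext
  simp only [diagSL, Matrix.SpecialLinearGroup.coe_one]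
  ext i j
  fin_cases i <;> fin_cases j <;> simp

theorem diagSL_congr {a b : F} (h : a = b) (ha : a ≠ 0) (hb : b ≠ 0) : diagSL a ha = diagSL b hb := by
  subst h; rfl

theorem diagSL_pow (a : F) (ha : a ≠ 0) (m : ℕ) :
    (diagSL a ha) ^ m = diagSL (a ^ m) (pow_ne_zero m ha) := by
  induction m with
  | zero => rw [pow_zero]; exact (diagSL_one.symm.trans (diagSL_congr (pow_zero a).symm _ _))
  | succ m ih =>
    rw [pow_succ, ih, diagSL_mul]
    exact diagSL_congr (pow_succ a m).symm _ _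

section elems

variable (hG : Good1 D)

theorem hGL_pow_eq_one {r : ℕ} (hr : r < D.nroots) {c : F} (hc : c ≠ 0) {m : ℕ} (hm : c ^ m = 1) :
    (hGL hG hr c hc : GL D.Idx F) ^ m = 1 := by
  unfold hGL
  rw [← map_pow, diagSL_pow, diagSL_congr hm _ one_ne_zero, diagSL_one, map_one]

theorem xGL_pow {r : ℕ} (hr : r < D.nroots) (t : F) (m : ℕ) :
    (xGL hG hr t : GL D.Idx F) ^ m = xGL hG hr ((m : F) * t) := by
  induction m with
  | zero => rw [pow_zero, Nat.cast_zero, zero_mul, xGL_zero]
  | succ m ih =>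
    rw [pow_succ, ih, xGL_mul]
    congr 1
    push_cast
    ring

end elems

/-- The two-generator theorem with one seed root. -/
theorem two_gen_one_seed [Fintype F] (hG : Good2 D)
    (hcomm : ∀ r s, r < D.nroots → s < D.nroots → s ≠ r → s ≠ D.neg r → Comm D F r s)
    {w : List ℕ} (hw : ∀ i ∈ w, i < D.rank)
    {p0 r : ℕ} (hp0 : p0 < D.nroots) (hr : r < D.nroots)
    (h0 : (tabOf D).pairing r p0 = 0)
    (h1 : (tabOf D).pairing r ((tabOf D).reflWord w p0) = 1 ∨
      (tabOf D).pairing r ((tabOf D).reflWord w p0) = -1)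
    {ks : List ℤ} (hks : ∀ c ∈ ks, ((c : ℤ) : F) ≠ 0) {steps : List Step}
    (cert : Cert (tabOf D) w ks [p0] steps) :
    ∃ a b : ↥(D.group F), Subgroup.closure ({a, b} : Set ↥(D.group F)) = ⊤ := by
  classical
  have hG1 := hG.toGood1
  obtain ⟨k, hk0, hkgen, hkgen', hkq⟩ := exists_gen F
  set h : GL D.Idx F := hGL hG1 hr k hk0 with hh
  set x : GL D.Idx F := xGL hG1 hp0 (1 : F) with hx
  set b0 : GL D.Idx F := nWordGL hG w with hb0
  set M : Subgroup (GL D.Idx F) := Subgroup.closure {h * x, b0} with hM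
  have hb0M : b0 ∈ M := Subgroup.subset_closure (by simp)
  have haM : h * x ∈ M := Subgroup.subset_closure (by simp)
  -- `h` and `x` commute
  have hcm : Commute h x := by
    have e := hGL_conj_xGL (F := F) hG hr hk0 hp0 (1 : F)
    rw [h0, zpow_zero, one_mul] at e
    have e2 : h * x * h⁻¹ = x := e
    have e' : h * x = x * h := by
      calc h * x = (h * x * h⁻¹) * h := by group
        _ = x * h := by rw [e2]
    exact e'
  -- orders
  have hho : h ^ (Fintype.card F - 1) = 1 := hGL_pow_eq_one hG1 hr hk0 hkq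
  have : Fact (ringChar F).Prime := ⟨CharP.char_is_prime F (ringChar F)⟩
  obtain ⟨n, hp, hcard⟩ := FiniteField.card F (ringChar F)
  have hxo : x ^ (ringChar F) = 1 := by
    rw [hx, xGL_pow, CharP.cast_eq_zero, zero_mul, xGL_zero]
  have hcop : (Fintype.card F - 1).Coprime (ringChar F) := by
    apply Nat.Coprime.symm
    rw [Nat.Prime.coprime_iff_not_dvd hp]
    intro hdvd
    have h2 : ringChar F ∣ Fintype.card F := by
      rw [hcard]; exact dvd_pow_self _ n.ne_zero
    have h3 : 1 ≤ Fintype.card F := Fintype.card_pos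
    have : ringChar F ∣ 1 := by
      have := (Nat.dvd_sub h2 hdvd)
      rwa [Nat.sub_sub_self h3] at this
    exact hp.one_lt.ne' (Nat.dvd_one.mp this)
  obtain ⟨hhM, hxM⟩ := Cfsg.Agent.Helper8.SpGen.mem_of_commute_coprime hcm hho hxo hcop M haM
  -- the root `s₁ = w p0`
  have hs1 : (tabOf D).reflWord w p0 < D.nroots := reflWord_lt hG hw hp0
  have hx1 : xGL hG1 hs1 ((((tabOf D).etaWord w p0 : ℤ) : F) * 1) ∈ M := by
    rw [← nWordGL_conj (F := F) hG hw hp0 (1 : F)]
    exact mul_mem (mul_mem hb0M hxM) (inv_mem hb0M)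
  have hη : (((tabOf D).etaWord w p0 : ℤ) : F) * 1 ≠ 0 := by
    rw [mul_one]; exact etaWord_cast_ne_zero hG hw hp0
  have hin1 : InM hG M ((tabOf D).reflWord w p0) := by
    rcases h1 with h1 | h1
    · refine inM_of_scale hG hs1 hhM (c := k) ?_ hkgen hη hx1
      intro t
      have e := hGL_conj_xGL (F := F) hG hr hk0 hs1 t
      rw [h1, zpow_one] at e
      exact e
    · refine inM_of_scale hG hs1 hhM (c := k⁻¹) ?_ hkgen' hη hx1
      intro t
      have e := hGL_conj_xGL (F := F) hG hr hk0 hs1 t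
      rw [h1, _root_.zpow_neg_one] at e
      exact e
  have hin0 : InM hG M p0 := by
    have := inM_word_rev hG hw hb0M hin1
    rwa [reflWord_reverse hG hw hp0] at this
  have hle : D.group F ≤ M := by
    refine group_le_of_cert hG hcomm hw hb0M hks cert ?_
    intro s hs
    rw [List.mem_singleton] at hs
    rw [hs]; exact hin0
  -- membership in the group
  have hhG : h ∈ D.group F :=
    diagonalSubgroup_le_group hG1 (hGL_mem_diagonal hG hr k hk0)
  have hxG : x ∈ D.group F := xGL_mem_group hG hp0 1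
  have hbG : b0 ∈ D.group F := monomialSubgroup_le_group hG1 (nWordGL_mem hG w)
  refine ⟨⟨h * x, mul_mem hhG hxG⟩, ⟨b0, hbG⟩, ?_⟩
  rw [eq_top_iff]
  intro g _
  have hg : (g : GL D.Idx F) ∈ M := hle g.2
  have hmap : (Subgroup.closure ({⟨h * x, mul_mem hhG hxG⟩, ⟨b0, hbG⟩} : Set ↥(D.group F))).map
      (D.group F).subtype = M := by
    rw [MonoidHom.map_closure, hM]
    congr 1
    ext y
    simp only [Set.mem_image, Set.mem_insert_iff, Set.mem_singleton_iff, Subgroup.coe_subtype]
    constructor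
    · rintro ⟨z, rfl | rfl, rfl⟩
      · left; rfl
      · right; rfl
    · rintro (rfl | rfl)
      · exact ⟨_, Or.inl rfl, rfl⟩
      · exact ⟨_, Or.inr rfl, rfl⟩
  rw [← hmap] at hg
  obtain ⟨g', hg', hgg⟩ := hg
  have : g' = g := Subtype.ext hgg
  rwa [this] at hg'

end Cfsg.Agent.Helper8.CGen
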