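import Mathlib

set_option autoImplicit false

/-!
Generation of twisted groups by two elements: abstract lemmas (a torus element `h` and `n x(1)` generate a subgroup
containing the root subgroup `x(K)` and `n`; the commutator of two products of three root elements; powers of a
generator with exponent prime to the order; surjectivity of the trace of a cubic extension of finite fields).
-/

namespace Cfsg.Agent.Helper8.TwGen

section strategy

variable {G : Type*} [Group G] {K : Type*} [Field K]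

/-- A subgroup containing `h` and `n x(1)` contains all `x(t)` and `n`, if `h` scales `x(t)` and `n x(t) n⁻¹`,
the second scaling factor generating the multiplicative group. -/
theorem strategyT (M : Subgroup G) (h n : G) (x : K → G)
    (hxadd : ∀ s t, x (s + t) = x s * x t)
    {χ₀ χ : K} (hχ₀ : ∀ t, h * x t * h⁻¹ = x (χ₀ * t))
    (hχ : ∀ t, h * (n * x t * n⁻¹) * h⁻¹ = n * x (χ * t) * n⁻¹)
    (hcomm : Commute h (n * h * n⁻¹))
    (h0 : χ₀ ≠ 0) (h1 : χ₀ ≠ 1) (h2 : χ ≠ 1) (hgen : ∀ y : K, y ≠ 0 → ∃ j : ℕ, y = χ ^ j)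
    (hh : h ∈ M) (hb : n * x 1 ∈ M) : (∀ t, x t ∈ M) ∧ n ∈ M := by
  have hx0 : x 0 = 1 := by
    have := hxadd 0 0
    rw [add_zero] at this
    exact (mul_eq_left.mp this.symm)
  have hxneg : ∀ t, x (-t) = (x t)⁻¹ := by
    intro t
    have := hxadd t (-t)
    rw [add_neg_cancel, hx0] at this
    exact eq_inv_of_mul_eq_one_right this.symm
  obtain ⟨V, hV⟩ : ∃ V : K → G, ∀ t, V t = n * x t * n⁻¹ := ⟨_, fun _ => rfl⟩
  have hVadd : ∀ s t, V (s + t) = V s * V t := by
    intro s t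
    simp only [hV, hxadd]
    group
  have hVneg : ∀ t, V (-t) = (V t)⁻¹ := by
    intro t
    simp only [hV, hxneg]
    group
  obtain ⟨h', hh'⟩ : ∃ h' : G, h' = n * h * n⁻¹ := ⟨_, rfl⟩
  rw [← hh'] at hcomm
  have hVh' : ∀ t, h' * V t * h'⁻¹ = V (χ₀ * t) := by
    intro t
    simp only [hV, hh', ← hχ₀]
    group
  have hVh : ∀ t, h * V t * h⁻¹ = V (χ * t) := by
    intro t
    rw [hV, hV]
    exact hχ t
  have hVh'inv : ∀ t, h'⁻¹ * V t * h' = V (χ₀⁻¹ * t) := by
    intro t
    have := hVh' (χ₀⁻¹ * t)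
    rw [← mul_assoc, mul_inv_cancel₀ h0, one_mul] at this
    rw [← this]
    group
  set c : K := 1 - χ₀ with hc
  -- `y = b h b⁻¹`
  have hy : (n * x 1) * h * (n * x 1)⁻¹ = V c * h' := by
    have e1 : x 1 * h * (x 1)⁻¹ = x c * h := by
      have e2 : h * (x 1)⁻¹ * h⁻¹ = x (-χ₀) := by
        rw [← hxneg, hχ₀, mul_neg, mul_one]
      calc x 1 * h * (x 1)⁻¹ = x 1 * (h * (x 1)⁻¹ * h⁻¹) * h := by group
        _ = x 1 * x (-χ₀) * h := by rw [e2]
        _ = x c * h := by rw [← hxadd, hc, sub_eq_add_neg]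
    calc (n * x 1) * h * (n * x 1)⁻¹ = n * (x 1 * h * (x 1)⁻¹) * n⁻¹ := by group
      _ = n * (x c * h) * n⁻¹ := by rw [e1]
      _ = V c * h' := by rw [hV, hh']; group
  have hyM : V c * h' ∈ M := by
    rw [← hy]
    exact mul_mem (mul_mem hb hh) (inv_mem hb)
  -- the element `E`
  set τ : K := χ₀⁻¹ * ((χ - 1) * c) with hτ
  have hE : (V c * h')⁻¹ * h * (V c * h') * h⁻¹ = V τ := by
    have e1 : h * V c = V (χ * c) * h := by
      rw [← hVh c]; group
    have e2 : h * h' * h⁻¹ = h' := by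
      rw [hcomm.eq]; group
    calc (V c * h')⁻¹ * h * (V c * h') * h⁻¹
        = h'⁻¹ * ((V c)⁻¹ * (h * V c)) * h' * h⁻¹ := by group
      _ = h'⁻¹ * ((V c)⁻¹ * (V (χ * c) * h)) * h' * h⁻¹ := by rw [e1]
      _ = h'⁻¹ * ((V c)⁻¹ * V (χ * c)) * (h * h' * h⁻¹) := by group
      _ = h'⁻¹ * V ((χ - 1) * c) * h' := by
        rw [e2, ← hVneg, ← hVadd]
        congr 2
        ring_nf
      _ = V τ := by rw [hVh'inv]
  have hτM : V τ ∈ M := by
    rw [← hE]
    exact mul_mem (mul_mem (mul_mem (inv_mem hyM) hh) hyM) (inv_mem hh)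
  have hτ0 : τ ≠ 0 := by
    rw [hτ]
    apply mul_ne_zero (inv_ne_zero h0)
    apply mul_ne_zero (sub_ne_zero.mpr h2)
    rw [hc]
    exact sub_ne_zero.mpr (Ne.symm h1)
  have hpow : ∀ j : ℕ, V (χ ^ j * τ) ∈ M := by
    intro j
    induction j with
    | zero => rwa [pow_zero, one_mul]
    | succ j ih =>
      have := mul_mem (mul_mem hh ih) (inv_mem hh)
      rw [hVh] at this
      rwa [pow_succ', mul_assoc]
  have hVM : ∀ t, V t ∈ M := by
    intro t
    by_cases ht : t = 0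
    · rw [ht]
      simp only [hV, hx0]
      rw [mul_one, mul_inv_cancel]
      exact one_mem _
    · obtain ⟨j, hj⟩ := hgen (t / τ) (div_ne_zero ht hτ0)
      have : t = χ ^ j * τ := by rw [← hj]; field_simp
      rw [this]
      exact hpow j
  have hxM : ∀ t, x t ∈ M := by
    intro t
    have e : x t = (n * x 1)⁻¹ * V t * (n * x 1) := by
      simp only [hV]
      have : x 1 * x t = x t * x 1 := by rw [← hxadd, ← hxadd, add_comm]
      calc x t = (x 1)⁻¹ * (x 1 * x t) := by group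
        _ = (x 1)⁻¹ * (x t * x 1) := by rw [this]
        _ = (n * x 1)⁻¹ * (n * x t * n⁻¹) * (n * x 1) := by group
    rw [e]
    exact mul_mem (mul_mem (inv_mem hb) (hVM t)) hb
  refine ⟨hxM, ?_⟩
  have e : n = (n * x 1) * (x 1)⁻¹ := by group
  rw [e]
  exact mul_mem hb (inv_mem (hxM 1))

/-- The commutator of two products of three elements, where the cross pairs commute and the three parallel pairs have
central commutators. -/
theorem three_comm {A B C A' B' C' Z₁ Z₂ Z₃ : G}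
    (hAB' : Commute A B') (hAC' : Commute A C') (hBA' : Commute B A') (hBC' : Commute B C')
    (hCA' : Commute C A') (hCB' : Commute C B')
    (h1 : A' * A = A * A' * Z₁) (h2 : B' * B = B * B' * Z₂) (h3 : C' * C = C * C' * Z₃)
    (hZ1B : Commute Z₁ B) (hZ1C : Commute Z₁ C) (hZ1B' : Commute Z₁ B') (hZ1C' : Commute Z₁ C')
    (hZ2C : Commute Z₂ C) (hZ2C' : Commute Z₂ C')
    (hZ12 : Commute Z₁ Z₂) (hZ13 : Commute Z₁ Z₃) (hZ23 : Commute Z₂ Z₃) :
    (A' * B' * C') * (A * B * C) = (A * B * C) * (A' * B' * C') * (Z₁ * Z₂ * Z₃) := by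
  calc (A' * B' * C') * (A * B * C)
      = A' * B' * (C' * A) * B * C := by group
    _ = A' * B' * (A * C') * B * C := by rw [hAC'.eq]
    _ = A' * (B' * A) * C' * B * C := by group
    _ = A' * (A * B') * C' * B * C := by rw [hAB'.eq]
    _ = (A' * A) * B' * C' * B * C := by group
    _ = (A * A' * Z₁) * B' * C' * B * C := by rw [h1]
    _ = A * A' * (Z₁ * B') * C' * B * C := by group
    _ = A * A' * (B' * Z₁) * C' * B * C := by rw [hZ1B'.eq]
    _ = A * A' * B' * (Z₁ * C') * B * C := by group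
    _ = A * A' * B' * (C' * Z₁) * B * C := by rw [hZ1C'.eq]
    _ = A * A' * B' * C' * (Z₁ * B) * C := by group
    _ = A * A' * B' * C' * (B * Z₁) * C := by rw [hZ1B.eq]
    _ = A * A' * B' * (C' * B) * Z₁ * C := by group
    _ = A * A' * B' * (B * C') * Z₁ * C := by rw [hBC'.symm.eq]
    _ = A * A' * (B' * B) * C' * Z₁ * C := by group
    _ = A * A' * (B * B' * Z₂) * C' * Z₁ * C := by rw [h2]
    _ = A * (A' * B) * B' * (Z₂ * C') * Z₁ * C := by group
    _ = A * (B * A') * B' * (C' * Z₂) * Z₁ * C := by rw [hBA'.symm.eq, hZ2C'.eq]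
    _ = A * B * A' * B' * C' * Z₂ * (Z₁ * C) := by group
    _ = A * B * A' * B' * C' * Z₂ * (C * Z₁) := by rw [hZ1C.eq]
    _ = A * B * A' * B' * C' * (Z₂ * C) * Z₁ := by group
    _ = A * B * A' * B' * C' * (C * Z₂) * Z₁ := by rw [hZ2C.eq]
    _ = A * B * A' * B' * (C' * C) * Z₂ * Z₁ := by group
    _ = A * B * A' * B' * (C * C' * Z₃) * Z₂ * Z₁ := by rw [h3]
    _ = A * B * A' * (B' * C) * C' * Z₃ * Z₂ * Z₁ := by group
    _ = A * B * A' * (C * B') * C' * Z₃ * Z₂ * Z₁ := by rw [hCB'.symm.eq]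
    _ = A * B * (A' * C) * B' * C' * Z₃ * Z₂ * Z₁ := by group
    _ = A * B * (C * A') * B' * C' * Z₃ * Z₂ * Z₁ := by rw [hCA'.symm.eq]
    _ = (A * B * C) * (A' * B' * C') * (Z₃ * Z₂ * Z₁) := by group
    _ = (A * B * C) * (A' * B' * C') * (Z₁ * Z₂ * Z₃) := by
      congr 1
      calc Z₃ * Z₂ * Z₁ = Z₃ * (Z₂ * Z₁) := by group
        _ = Z₃ * (Z₁ * Z₂) := by rw [hZ12.symm.eq]
        _ = (Z₃ * Z₁) * Z₂ := by group
        _ = (Z₁ * Z₃) * Z₂ := by rw [hZ13.symm.eq]
        _ = Z₁ * (Z₃ * Z₂) := by group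
        _ = Z₁ * (Z₂ * Z₃) := by rw [hZ23.symm.eq]
        _ = Z₁ * Z₂ * Z₃ := by group

end strategy

section field

variable {K : Type*} [Field K] [Fintype K]

/-- A power of a generator of the multiplicative group with exponent prime to the order is a generator. -/
theorem gen_pow_coprime {g : K} (hgen : ∀ y : K, y ≠ 0 → ∃ j : ℕ, y = g ^ j)
    (hord : g ^ (Fintype.card K - 1) = 1) {e : ℕ} (hcop : Nat.Coprime e (Fintype.card K - 1)) :
    ∀ y : K, y ≠ 0 → ∃ j : ℕ, y = (g ^ e) ^ j := by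
  intro y hy
  by_cases hN : Fintype.card K - 1 = 1
  · refine ⟨0, ?_⟩
    have := FiniteField.pow_card_sub_one_eq_one y hy
    rw [hN, pow_one] at this
    rw [this, pow_zero]
  · have hN0 : Fintype.card K - 1 ≠ 0 := by
      have := Fintype.one_lt_card (α := K)
      omega
    have hN1 : 1 < Fintype.card K - 1 := by omega
    obtain ⟨m, -, hm⟩ := Nat.exists_mul_mod_eq_one_of_coprime hcop hN1
    obtain ⟨j, hj⟩ := hgen y hy
    refine ⟨m * j, ?_⟩
    have e1 : g ^ (e * m) = g := by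
      rw [← Nat.div_add_mod (e * m) (Fintype.card K - 1), hm, pow_add, pow_mul, hord, one_pow, one_mul, pow_one]
    rw [hj, ← pow_mul, ← mul_assoc, pow_mul, e1]

/-- The trace of a cubic extension of finite fields is surjective (on the fixed field of the Frobenius map). -/
theorem trace_surjective {q : ℕ} (hq : 2 ≤ q) (hK : Fintype.card K = q ^ 3) (f : K ≃+* K)
    (hf : ∀ t, f t = t ^ q) {u : K} (hu : f u = u) : ∃ t : K, t + f t + f (f t) = u := by
  classical
  -- an element of nonzero trace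
  have hex : ∃ t₀ : K, t₀ + t₀ ^ q + t₀ ^ (q ^ 2) ≠ 0 := by
    by_contra hall
    push Not at hall
    set P : Polynomial K := Polynomial.X + Polynomial.X ^ q + Polynomial.X ^ (q ^ 2) with hP
    have hq2 : q < q ^ 2 := by nlinarith
    have hdeg : P.natDegree = q ^ 2 := by
      rw [hP]
      have hX : (Polynomial.X ^ (q ^ 2) : Polynomial K).natDegree = q ^ 2 := Polynomial.natDegree_X_pow _
      have hlt : (Polynomial.X + Polynomial.X ^ q : Polynomial K).natDegree <
          (Polynomial.X ^ (q ^ 2) : Polynomial K).natDegree := by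
        rw [hX]
        refine lt_of_le_of_lt (Polynomial.natDegree_add_le _ _) ?_
        rw [Polynomial.natDegree_X, Polynomial.natDegree_X_pow]
        exact max_lt (by omega) hq2
      rw [Polynomial.natDegree_add_eq_right_of_natDegree_lt hlt, hX]
    have hP0 : P ≠ 0 := by
      intro h
      rw [h, Polynomial.natDegree_zero] at hdeg
      omega
    have hsub : (Finset.univ : Finset K).val ⊆ P.roots := by
      intro t _
      rw [Polynomial.mem_roots hP0, Polynomial.IsRoot.def, hP]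
      simp only [Polynomial.eval_add, Polynomial.eval_X, Polynomial.eval_pow]
      exact hall t
    have := Polynomial.card_le_degree_of_subset_roots hsub
    rw [Finset.card_univ, hK, hdeg] at this
    have : q ^ 2 < q ^ 3 := Nat.pow_lt_pow_right (by omega) (by norm_num)
    omega
  obtain ⟨t₀, ht₀⟩ := hex
  have hq3 : ∀ t : K, t ^ (q ^ 3) = t := by
    intro t
    rw [← hK]
    exact FiniteField.pow_card t
  set τ : K := t₀ + t₀ ^ q + t₀ ^ (q ^ 2) with hτ
  have hfτ : f τ = τ := by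
    rw [hτ, map_add, map_add, hf, hf, hf, ← pow_mul, ← pow_mul]
    have e1 : q ^ 2 * q = q ^ 3 := by ring
    have e2 : q * q = q ^ 2 := by ring
    rw [e1, e2, hq3]
    ring
  refine ⟨u * τ⁻¹ * t₀, ?_⟩
  have hc : f (u * τ⁻¹) = u * τ⁻¹ := by rw [map_mul, map_inv₀, hu, hfτ]
  have h1 : f (u * τ⁻¹ * t₀) = u * τ⁻¹ * t₀ ^ q := by rw [map_mul, hc, hf]
  have h2 : f (f (u * τ⁻¹ * t₀)) = u * τ⁻¹ * t₀ ^ (q ^ 2) := by
    rw [h1, map_mul, hc, hf, ← pow_mul]
    congr 2
    ring
  rw [h2, h1]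
  have : u * τ⁻¹ * t₀ + u * τ⁻¹ * t₀ ^ q + u * τ⁻¹ * t₀ ^ (q ^ 2) = u * τ⁻¹ * τ := by rw [hτ]; ring
  rw [this, mul_assoc, inv_mul_cancel₀ ht₀, mul_one]

end field

end Cfsg.Agent.Helper8.TwGen
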