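import Mathlib
import Cfsg.Agent.Helper8.TwGenA
import Cfsg.Agent.Helper8.CGenB
import Cfsg.Agent.Helper7.ChevTwD4

set_option autoImplicit false
set_option linter.unusedSectionVars false
set_option linter.unusedVariables false

/-!
Generation of twisted groups by two elements: generic lemmas on root elements (single term commutator relation), and
the table facts for the triality twisted group of type `D₄`.
-/

namespace Cfsg.Agent.Helper8.TwGen

open Cfsg Cfsg.Lie Matrix Cfsg.Agent.Helper7.Chev

section generic

variable {D : ChevalleyDatum} {K : Type*} [Field K] (hG : Good2 D) (h3 : (tabOf D).T3) (h4 : (tabOf D).T4 60)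

include h3 h4 in
/-- The commutator relation of two root elements with a single term. -/
theorem singleTerm_rel {q r s : ℕ} {c : ℤ} (hst : (tabOf D).SingleTerm q r s c) (hq : q < D.nroots)
    (hr : r < D.nroots) (hs : s < D.nroots) (t u : K) :
    xGL hG.toGood1 hs u * xGL hG.toGood1 hr t =
      xGL hG.toGood1 hr t * xGL hG.toGood1 hs u * xGL hG.toGood1 hq (-((c : ℤ) : K) * t * u) := by
  have hG1 := hG.toGood1
  obtain ⟨_, _, hsr, hsn, hct⟩ := hst
  have hcomm := comm_all (F := K) hG h3 h4 hr hs hsr hsn
  have hW : D.commWord K r s t u = [(q, -((c : ℤ) : K) * t * u)] := by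
    rw [commWord_eq]
    unfold Tab.commMono
    rw [hct]
    simp only [List.map_cons, List.map_nil, Mono.eval]
    congr 2
    push_cast
    ring
  have hf := hcomm t u
  rw [hW, wordMat_cons, wordMat_nil, mul_one] at hf
  apply Units.ext
  rw [Units.val_mul, Units.val_mul, Units.val_mul, xGL_coe, xGL_coe, xGL_coe]
  exact hf

/-- Root elements of the same root commute. -/
theorem xGL_self_commute {r : ℕ} (hr : r < D.nroots) (t u : K) :
    Commute (xGL hG.toGood1 hr t) (xGL hG.toGood1 hr u) := by
  show _ * _ = _ * _
  rw [xGL_mul, xGL_mul, add_comm]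

end generic

end Cfsg.Agent.Helper8.TwGen
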