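import Mathlib
import Cfsg.Agent.Helper8.TwGenB

set_option autoImplicit false
set_option linter.unusedSectionVars false
set_option linter.unusedVariables false
set_option maxRecDepth 100000

/-!
The triality twisted group of type `D₄`: table facts and explicit forms of the generators.
-/

namespace Cfsg.Agent.Helper8.TwGen

open Cfsg Cfsg.Lie Matrix Cfsg.Agent.Helper7.Chev

/-- the twisted Coxeter word -/
abbrev wD4 : List ℕ := [1, 0, 2, 3]

/-- its cube -/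
abbrev w3D4 : List ℕ := [1, 0, 2, 3, 1, 0, 2, 3, 1, 0, 2, 3]

theorem factsD4_fast :
    (fastD4.reflWord wD4 18 = 4 ∧ fastD4.etaWord wD4 18 = -1) ∧
    (fastD4.reflWord wD4 13 = 7 ∧ fastD4.etaWord wD4 13 = 1) ∧
    (fastD4.reflWord wD4 12 = 8 ∧ fastD4.etaWord wD4 12 = 1) ∧
    (fastD4.reflWord w3D4 18 = 5 ∧ fastD4.etaWord w3D4 18 = -1) ∧
    (fastD4.reflWord w3D4 13 = 10 ∧ fastD4.etaWord w3D4 13 = -1) ∧
    (fastD4.reflWord w3D4 12 = 11 ∧ fastD4.etaWord w3D4 12 = -1) ∧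
    (fastD4.reflWord w3D4 9 = 14 ∧ fastD4.etaWord w3D4 9 = -1) := by decide +kernel

theorem factsD4 :
    ((tabOf chevD4).reflWord wD4 18 = 4 ∧ (tabOf chevD4).etaWord wD4 18 = -1) ∧
    ((tabOf chevD4).reflWord wD4 13 = 7 ∧ (tabOf chevD4).etaWord wD4 13 = 1) ∧
    ((tabOf chevD4).reflWord wD4 12 = 8 ∧ (tabOf chevD4).etaWord wD4 12 = 1) ∧
    ((tabOf chevD4).reflWord w3D4 18 = 5 ∧ (tabOf chevD4).etaWord w3D4 18 = -1) ∧
    ((tabOf chevD4).reflWord w3D4 13 = 10 ∧ (tabOf chevD4).etaWord w3D4 13 = -1) ∧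
    ((tabOf chevD4).reflWord w3D4 12 = 11 ∧ (tabOf chevD4).etaWord w3D4 12 = -1) ∧
    ((tabOf chevD4).reflWord w3D4 9 = 14 ∧ (tabOf chevD4).etaWord w3D4 9 = -1) :=
  tab_D4 ▸ factsD4_fast

theorem pairD4_fast :
    (fastD4.pairing 18 4 = -1 ∧ fastD4.pairing 13 4 = 1 ∧ fastD4.pairing 12 4 = 1) ∧
    (fastD4.pairing 18 7 = 1 ∧ fastD4.pairing 13 7 = -1 ∧ fastD4.pairing 12 7 = 1) ∧
    (fastD4.pairing 18 8 = 1 ∧ fastD4.pairing 13 8 = 1 ∧ fastD4.pairing 12 8 = -1) := by decide +kernel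

theorem pairD4 :
    ((tabOf chevD4).pairing 18 4 = -1 ∧ (tabOf chevD4).pairing 13 4 = 1 ∧ (tabOf chevD4).pairing 12 4 = 1) ∧
    ((tabOf chevD4).pairing 18 7 = 1 ∧ (tabOf chevD4).pairing 13 7 = -1 ∧ (tabOf chevD4).pairing 12 7 = 1) ∧
    ((tabOf chevD4).pairing 18 8 = 1 ∧ (tabOf chevD4).pairing 13 8 = 1 ∧ (tabOf chevD4).pairing 12 8 = -1) :=
  tab_D4 ▸ pairD4_fast

theorem termsD4_fast :
    (fastD4.SingleTerm 9 18 4 1 ∧ fastD4.SingleTerm 9 13 7 (-1) ∧ fastD4.SingleTerm 9 12 8 (-1)) ∧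
    (fastD4.commTerms 18 7 = [] ∧ fastD4.commTerms 18 8 = [] ∧ fastD4.commTerms 13 4 = [] ∧
      fastD4.commTerms 13 8 = [] ∧ fastD4.commTerms 12 4 = [] ∧ fastD4.commTerms 12 7 = []) ∧
    (fastD4.commTerms 9 13 = [] ∧ fastD4.commTerms 9 12 = [] ∧ fastD4.commTerms 9 7 = [] ∧
      fastD4.commTerms 9 8 = []) := by decide +kernel

theorem termsD4 :
    ((tabOf chevD4).SingleTerm 9 18 4 1 ∧ (tabOf chevD4).SingleTerm 9 13 7 (-1) ∧
      (tabOf chevD4).SingleTerm 9 12 8 (-1)) ∧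
    ((tabOf chevD4).commTerms 18 7 = [] ∧ (tabOf chevD4).commTerms 18 8 = [] ∧
      (tabOf chevD4).commTerms 13 4 = [] ∧ (tabOf chevD4).commTerms 13 8 = [] ∧
      (tabOf chevD4).commTerms 12 4 = [] ∧ (tabOf chevD4).commTerms 12 7 = []) ∧
    ((tabOf chevD4).commTerms 9 13 = [] ∧ (tabOf chevD4).commTerms 9 12 = [] ∧
      (tabOf chevD4).commTerms 9 7 = [] ∧ (tabOf chevD4).commTerms 9 8 = []) :=
  tab_D4 ▸ termsD4_fast

theorem negD4 : chevD4.neg 18 = 5 ∧ chevD4.neg 13 = 10 ∧ chevD4.neg 12 = 11 ∧ chevD4.neg 14 = 9 ∧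
    chevD4.neg 9 = 14 ∧ chevD4.neg 4 = 19 ∧ chevD4.neg 7 = 16 ∧ chevD4.neg 8 = 15 := by decide

theorem hc0 : ((0 : ℕ), (3 : ℕ)) ∈ clsD4 := by decide

theorem hc1 : ((1 : ℕ), (1 : ℕ)) ∈ clsD4 := by decide

theorem hwD4 : ∀ i ∈ wD4, i < chevD4.rank := by decide

theorem hw3D4 : ∀ i ∈ w3D4, i < chevD4.rank := by decide

theorem ltD4 (r : ℕ) (h : r < 24) : r < chevD4.nroots := h

section forms

variable {K : Type*} [Field K] (f : K ≃+* K)

/-- the short root elements -/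
theorem upper3 (t : K) :
    clsHom good2_D4 T3_D4 T4_D4 T19_D4 f hc0 (upperSL t) =
      xGL good1_D4 (ltD4 18 (by norm_num)) t * xGL good1_D4 (ltD4 13 (by norm_num)) (f t) *
        xGL good1_D4 (ltD4 12 (by norm_num)) (f (f t)) := by
  apply Units.ext
  rw [clsHom_upper_coe, upWord_three, clsRoot_D4_00, clsRoot_D4_01, clsRoot_D4_02, Units.val_mul, Units.val_mul,
    xGL_coe, xGL_coe, xGL_coe, wordMat_cons, wordMat_cons, wordMat_cons, wordMat_nil, mul_one, mul_assoc]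
  rfl

theorem lower3 (t : K) :
    clsHom good2_D4 T3_D4 T4_D4 T19_D4 f hc0 (lowerSL t) =
      xGL good1_D4 (ltD4 5 (by norm_num)) t * xGL good1_D4 (ltD4 10 (by norm_num)) (f t) *
        xGL good1_D4 (ltD4 11 (by norm_num)) (f (f t)) := by
  apply Units.ext
  rw [clsHom_lower_coe, loWord_three, clsRoot_D4_00, clsRoot_D4_01, clsRoot_D4_02, neg_D4_p1, neg_D4_p3, neg_D4_p4,
    Units.val_mul, Units.val_mul,
    xGL_coe, xGL_coe, xGL_coe, wordMat_cons, wordMat_cons, wordMat_cons, wordMat_nil, mul_one, mul_assoc]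
  rfl

theorem upper1 (t : K) :
    clsHom good2_D4 T3_D4 T4_D4 T19_D4 f hc1 (upperSL t) = xGL good1_D4 (ltD4 14 (by norm_num)) t := by
  apply Units.ext
  rw [clsHom_upper_coe, upWord_one, clsRoot_D4_10, xGL_coe, wordMat_cons, wordMat_nil, mul_one]
  rfl

theorem lower1 (t : K) :
    clsHom good2_D4 T3_D4 T4_D4 T19_D4 f hc1 (lowerSL t) = xGL good1_D4 (ltD4 9 (by norm_num)) t := by
  apply Units.ext
  rw [clsHom_lower_coe, loWord_one, clsRoot_D4_10, neg_D4_p2, xGL_coe, wordMat_cons, wordMat_nil, mul_one]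
  rfl

end forms

end Cfsg.Agent.Helper8.TwGen
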