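import Mathlib
import Cfsg.Agent.Helper8.TwGenC

set_option autoImplicit false
set_option linter.unusedSectionVars false
set_option linter.unusedVariables false

/-!
The triality twisted group of type `D₄` is generated by two elements: a torus element of the class of the three outer
nodes and the product of the twisted Coxeter element with a root element of that class.
-/

namespace Cfsg.Agent.Helper8.TwGen

open Cfsg Cfsg.Lie Matrix Cfsg.Agent.Helper7.Chev

section generic

variable {D : ChevalleyDatum} {K : Type*} [Field K] (hG : Good2 D)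

/-- Conjugation of a root element by the element of a word, with the table values substituted. -/
theorem conjW {w : List ℕ} (hw : ∀ i ∈ w, i < D.rank) {s s' : ℕ} (hs : s < D.nroots) (hs' : s' < D.nroots)
    {e : ℤ} (h1 : (tabOf D).reflWord w s = s') (h2 : (tabOf D).etaWord w s = e) (t : K) :
    nWordGL hG w * xGL hG.toGood1 hs t * (nWordGL hG w)⁻¹ = xGL hG.toGood1 hs' (((e : ℤ) : K) * t) := by
  rw [nWordGL_conj (F := K) hG hw hs t, h2]
  exact xGL_congr hG h1 _ _ _

theorem diagSL_conj_upperSL' {c : K} (hc : c ≠ 0) (t : K) :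
    diagSL c hc * upperSL t * (diagSL c hc)⁻¹ = upperSL (c * c * t) := by
  rw [mul_inv_eq_iff_eq_mul]
  apply Subtype.ext
  rw [Matrix.SpecialLinearGroup.coe_mul, Matrix.SpecialLinearGroup.coe_mul]
  change !![c, 0; 0, c⁻¹] * !![1, t; 0, 1] = !![1, c * c * t; 0, 1] * !![c, 0; 0, c⁻¹]
  ext i j
  fin_cases i <;> fin_cases j <;> simp [Matrix.mul_apply, Fin.sum_univ_two]
  field_simp

end generic

section D4

variable {K : Type*} [Field K] (f : K ≃+* K)

/-- the torus element of the class of the outer nodes -/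
theorem diag3 {g : K} (hg : g ≠ 0) :
    clsHom good2_D4 T3_D4 T4_D4 T19_D4 f hc0 (diagSL g hg) =
      hGL good1_D4 (ltD4 18 (by norm_num)) g hg *
        hGL good1_D4 (ltD4 13 (by norm_num)) (f g) ((map_ne_zero f).mpr hg) *
        hGL good1_D4 (ltD4 12 (by norm_num)) (f (f g)) ((map_ne_zero f).mpr ((map_ne_zero f).mpr hg)) := by
  rw [clsHom_apply]
  have e0 : clsFactor good2_D4.toGood1 (fun i => [2, 1, 3, 0].getD i 0) f 0 0 (diagSL g hg) =
      hGL good1_D4 (ltD4 18 (by norm_num)) g hg := by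
    unfold clsFactor
    rw [MonoidHom.comp_apply, map_diagSL]
    have : phiS good2_D4.toGood1 ((fun i => [2, 1, 3, 0].getD i 0)^[0] 0) =
        (phiHom good1_D4 (ltD4 18 (by norm_num)) : Matrix.SpecialLinearGroup (Fin 2) K →* _) := by
      exact phiS_of_lt good1_D4 (by decide : (0 : ℕ) < chevD4.rank)
    rw [this]
    rfl
  have e1 : clsFactor good2_D4.toGood1 (fun i => [2, 1, 3, 0].getD i 0) f 0 1 (diagSL g hg) =
      hGL good1_D4 (ltD4 13 (by norm_num)) (f g) ((map_ne_zero f).mpr hg) := by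
    unfold clsFactor
    rw [MonoidHom.comp_apply, map_diagSL]
    have : phiS good2_D4.toGood1 ((fun i => [2, 1, 3, 0].getD i 0)^[1] 0) =
        (phiHom good1_D4 (ltD4 13 (by norm_num)) : Matrix.SpecialLinearGroup (Fin 2) K →* _) := by
      exact phiS_of_lt good1_D4 (by decide : (2 : ℕ) < chevD4.rank)
    rw [this]
    rfl
  have e2 : clsFactor good2_D4.toGood1 (fun i => [2, 1, 3, 0].getD i 0) f 0 2 (diagSL g hg) =
      hGL good1_D4 (ltD4 12 (by norm_num)) (f (f g)) ((map_ne_zero f).mpr ((map_ne_zero f).mpr hg)) := by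
    unfold clsFactor
    rw [MonoidHom.comp_apply, map_diagSL]
    have : phiS good2_D4.toGood1 ((fun i => [2, 1, 3, 0].getD i 0)^[2] 0) =
        (phiHom good1_D4 (ltD4 12 (by norm_num)) : Matrix.SpecialLinearGroup (Fin 2) K →* _) := by
      exact phiS_of_lt good1_D4 (by decide : (3 : ℕ) < chevD4.rank)
    rw [this]
    rfl
  show clsFactor good2_D4.toGood1 (fun i => [2, 1, 3, 0].getD i 0) f 0 0 (diagSL g hg) *
    (clsFactor good2_D4.toGood1 (fun i => [2, 1, 3, 0].getD i 0) f 0 1 (diagSL g hg) *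
    (clsFactor good2_D4.toGood1 (fun i => [2, 1, 3, 0].getD i 0) f 0 2 (diagSL g hg) * 1)) = _
  rw [e0, e1, e2, mul_one, mul_assoc]

/-- the action of the torus element on a root element -/
theorem conjH3 {g : K} (hg : g ≠ 0) {s : ℕ} (hs : s < chevD4.nroots) {p1 p2 p3 : ℤ}
    (h1 : (tabOf chevD4).pairing 18 s = p1) (h2 : (tabOf chevD4).pairing 13 s = p2)
    (h3 : (tabOf chevD4).pairing 12 s = p3) (t : K) :
    clsHom good2_D4 T3_D4 T4_D4 T19_D4 f hc0 (diagSL g hg) * xGL good1_D4 hs t *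
        (clsHom good2_D4 T3_D4 T4_D4 T19_D4 f hc0 (diagSL g hg))⁻¹ =
      xGL good1_D4 hs (g ^ p1 * ((f g) ^ p2 * ((f (f g)) ^ p3 * t))) := by
  rw [diag3]
  have hfg : f g ≠ 0 := (map_ne_zero f).mpr hg
  have hffg : f (f g) ≠ 0 := (map_ne_zero f).mpr hfg
  have c3 := CGen.hGL_conj_xGL (F := K) good2_D4 (ltD4 12 (by norm_num)) hffg hs t
  have c2 := CGen.hGL_conj_xGL (F := K) good2_D4 (ltD4 13 (by norm_num)) hfg hs
    ((f (f g)) ^ (tabOf chevD4).pairing 12 s * t)
  have c1 := CGen.hGL_conj_xGL (F := K) good2_D4 (ltD4 18 (by norm_num)) hg hs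
    ((f g) ^ (tabOf chevD4).pairing 13 s * ((f (f g)) ^ (tabOf chevD4).pairing 12 s * t))
  rw [h3] at c3 c2 c1
  rw [h2] at c2 c1
  rw [h1] at c1
  rw [← c1, ← c2, ← c3]
  group

end D4

end Cfsg.Agent.Helper8.TwGen
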