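import Mathlib
import Cfsg.Agent.Helper8.RF4A
import Cfsg.Agent.Helper8.TwGenD
import Cfsg.Agent.Helper7.ChevF4h

set_option autoImplicit false
set_option linter.unusedSectionVars false
set_option linter.unusedVariables false
set_option maxRecDepth 100000

/-!
The large Ree groups: table facts for `F₄`, and the action of the torus and of the Weyl group on root elements in
characteristic 2.
-/

namespace Cfsg.Agent.Helper8.RF4

open Cfsg Cfsg.Lie Matrix Cfsg.Agent.Helper7.Chev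

theorem factsF4_fast :
    ((fastF4.reflWord (f4W12 1) 27 = 13 ∧ fastF4.etaWord (f4W12 1) 27 = 1) ∧
     (fastF4.reflWord (f4W12 1) 25 = 21 ∧ fastF4.etaWord (f4W12 1) 25 = -1) ∧
     (fastF4.reflWord (f4W12 1) 28 = 11 ∧ fastF4.etaWord (f4W12 1) 28 = 1) ∧
     (fastF4.reflWord (f4W12 1) 30 = 5 ∧ fastF4.etaWord (f4W12 1) 30 = 1)) ∧
    ((fastF4.reflWord (f4W12 7) 27 = 35 ∧ fastF4.etaWord (f4W12 7) 27 = 1) ∧
     (fastF4.reflWord (f4W12 7) 25 = 31 ∧ fastF4.etaWord (f4W12 7) 25 = -1) ∧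
     (fastF4.reflWord (f4W12 7) 28 = 40 ∧ fastF4.etaWord (f4W12 7) 28 = 1) ∧
     (fastF4.reflWord (f4W12 7) 30 = 46 ∧ fastF4.etaWord (f4W12 7) 30 = 1)) ∧
    ((fastF4.reflWord (f4W12 4) 27 = 20 ∧ fastF4.etaWord (f4W12 4) 27 = -1) ∧
     (fastF4.reflWord (f4W12 4) 25 = 22 ∧ fastF4.etaWord (f4W12 4) 25 = -1) ∧
     (fastF4.reflWord (f4W12 4) 28 = 19 ∧ fastF4.etaWord (f4W12 4) 28 = -1) ∧
     (fastF4.reflWord (f4W12 4) 30 = 17 ∧ fastF4.etaWord (f4W12 4) 30 = -1)) ∧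
    ((fastF4.reflWord (f4W12 5) 37 = 33 ∧ fastF4.etaWord (f4W12 5) 37 = -1) ∧
     (fastF4.reflWord (f4W12 5) 32 = 24 ∧ fastF4.etaWord (f4W12 5) 32 = 1)) ∧
    ((fastF4.reflWord (f4W12 1) 37 = 14 ∧ fastF4.etaWord (f4W12 1) 37 = 1) ∧
     (fastF4.reflWord (f4W12 1) 32 = 23 ∧ fastF4.etaWord (f4W12 1) 32 = -1)) := by decide +kernel

theorem factsF4 :
    (((tabOf chevF4).reflWord (f4W12 1) 27 = 13 ∧ (tabOf chevF4).etaWord (f4W12 1) 27 = 1) ∧
     ((tabOf chevF4).reflWord (f4W12 1) 25 = 21 ∧ (tabOf chevF4).etaWord (f4W12 1) 25 = -1) ∧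
     ((tabOf chevF4).reflWord (f4W12 1) 28 = 11 ∧ (tabOf chevF4).etaWord (f4W12 1) 28 = 1) ∧
     ((tabOf chevF4).reflWord (f4W12 1) 30 = 5 ∧ (tabOf chevF4).etaWord (f4W12 1) 30 = 1)) ∧
    (((tabOf chevF4).reflWord (f4W12 7) 27 = 35 ∧ (tabOf chevF4).etaWord (f4W12 7) 27 = 1) ∧
     ((tabOf chevF4).reflWord (f4W12 7) 25 = 31 ∧ (tabOf chevF4).etaWord (f4W12 7) 25 = -1) ∧
     ((tabOf chevF4).reflWord (f4W12 7) 28 = 40 ∧ (tabOf chevF4).etaWord (f4W12 7) 28 = 1) ∧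
     ((tabOf chevF4).reflWord (f4W12 7) 30 = 46 ∧ (tabOf chevF4).etaWord (f4W12 7) 30 = 1)) ∧
    (((tabOf chevF4).reflWord (f4W12 4) 27 = 20 ∧ (tabOf chevF4).etaWord (f4W12 4) 27 = -1) ∧
     ((tabOf chevF4).reflWord (f4W12 4) 25 = 22 ∧ (tabOf chevF4).etaWord (f4W12 4) 25 = -1) ∧
     ((tabOf chevF4).reflWord (f4W12 4) 28 = 19 ∧ (tabOf chevF4).etaWord (f4W12 4) 28 = -1) ∧
     ((tabOf chevF4).reflWord (f4W12 4) 30 = 17 ∧ (tabOf chevF4).etaWord (f4W12 4) 30 = -1)) ∧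
    (((tabOf chevF4).reflWord (f4W12 5) 37 = 33 ∧ (tabOf chevF4).etaWord (f4W12 5) 37 = -1) ∧
     ((tabOf chevF4).reflWord (f4W12 5) 32 = 24 ∧ (tabOf chevF4).etaWord (f4W12 5) 32 = 1)) ∧
    (((tabOf chevF4).reflWord (f4W12 1) 37 = 14 ∧ (tabOf chevF4).etaWord (f4W12 1) 37 = 1) ∧
     ((tabOf chevF4).reflWord (f4W12 1) 32 = 23 ∧ (tabOf chevF4).etaWord (f4W12 1) 32 = -1)) :=
  tab_F4 ▸ factsF4_fast

theorem pairF4_fast :
    ((fastF4.pairing 33 27 = -1 ∧ fastF4.pairing 24 27 = 0) ∧ (fastF4.pairing 33 25 = 0 ∧ fastF4.pairing 24 25 = -1) ∧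
     (fastF4.pairing 33 28 = -1 ∧ fastF4.pairing 24 28 = -1) ∧
     (fastF4.pairing 33 30 = -2 ∧ fastF4.pairing 24 30 = -1)) ∧
    ((fastF4.pairing 33 13 = -1 ∧ fastF4.pairing 24 13 = 0) ∧ (fastF4.pairing 33 21 = 0 ∧ fastF4.pairing 24 21 = -1) ∧
     (fastF4.pairing 33 11 = -1 ∧ fastF4.pairing 24 11 = -1) ∧
     (fastF4.pairing 33 5 = -2 ∧ fastF4.pairing 24 5 = -1)) := by decide +kernel

theorem pairF4 :
    (((tabOf chevF4).pairing 33 27 = -1 ∧ (tabOf chevF4).pairing 24 27 = 0) ∧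
     ((tabOf chevF4).pairing 33 25 = 0 ∧ (tabOf chevF4).pairing 24 25 = -1) ∧
     ((tabOf chevF4).pairing 33 28 = -1 ∧ (tabOf chevF4).pairing 24 28 = -1) ∧
     ((tabOf chevF4).pairing 33 30 = -2 ∧ (tabOf chevF4).pairing 24 30 = -1)) ∧
    (((tabOf chevF4).pairing 33 13 = -1 ∧ (tabOf chevF4).pairing 24 13 = 0) ∧
     ((tabOf chevF4).pairing 33 21 = 0 ∧ (tabOf chevF4).pairing 24 21 = -1) ∧
     ((tabOf chevF4).pairing 33 11 = -1 ∧ (tabOf chevF4).pairing 24 11 = -1) ∧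
     ((tabOf chevF4).pairing 33 5 = -2 ∧ (tabOf chevF4).pairing 24 5 = -1)) :=
  tab_F4 ▸ pairF4_fast

theorem termsF4_fast :
    (fastF4.SingleTerm 37 27 35 1 ∧ fastF4.SingleTerm 32 25 31 1) ∧
    (fastF4.commTerms 27 31 = [] ∧ fastF4.commTerms 27 40 = [] ∧ fastF4.commTerms 25 35 = [] ∧
      fastF4.commTerms 25 40 = [] ∧ fastF4.commTerms 28 35 = [] ∧ fastF4.commTerms 28 31 = [] ∧
      fastF4.commTerms 28 40 = []) ∧
    (fastF4.commTerms 37 25 = [] ∧ fastF4.commTerms 37 28 = [] ∧ fastF4.commTerms 37 31 = [] ∧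
      fastF4.commTerms 37 40 = [] ∧ fastF4.commTerms 32 28 = [] ∧ fastF4.commTerms 32 40 = [] ∧
      fastF4.commTerms 37 32 = []) := by decide +kernel

theorem termsF4 :
    ((tabOf chevF4).SingleTerm 37 27 35 1 ∧ (tabOf chevF4).SingleTerm 32 25 31 1) ∧
    ((tabOf chevF4).commTerms 27 31 = [] ∧ (tabOf chevF4).commTerms 27 40 = [] ∧
      (tabOf chevF4).commTerms 25 35 = [] ∧ (tabOf chevF4).commTerms 25 40 = [] ∧
      (tabOf chevF4).commTerms 28 35 = [] ∧ (tabOf chevF4).commTerms 28 31 = [] ∧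
      (tabOf chevF4).commTerms 28 40 = []) ∧
    ((tabOf chevF4).commTerms 37 25 = [] ∧ (tabOf chevF4).commTerms 37 28 = [] ∧
      (tabOf chevF4).commTerms 37 31 = [] ∧ (tabOf chevF4).commTerms 37 40 = [] ∧
      (tabOf chevF4).commTerms 32 28 = [] ∧ (tabOf chevF4).commTerms 32 40 = [] ∧
      (tabOf chevF4).commTerms 37 32 = []) :=
  tab_F4 ▸ termsF4_fast

theorem negF4 : chevF4.neg 27 = 20 ∧ chevF4.neg 25 = 22 ∧ chevF4.neg 28 = 19 ∧ chevF4.neg 37 = 10 ∧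
    chevF4.neg 32 = 15 := by decide

section conj

variable {K : Type*} [Field K] [CharP K 2]

/-- Conjugation of a root element by the element of a word, in characteristic 2. -/
theorem conjW2 {w : List ℕ} (hw : ∀ i ∈ w, i < chevF4.rank) (s s' : Fin 48)
    (h1 : (tabOf chevF4).reflWord w s.val = s'.val)
    (h2 : (tabOf chevF4).etaWord w s.val = 1 ∨ (tabOf chevF4).etaWord w s.val = -1) (t : K) :
    nWordGL good3_F4.toGood2 w * fx K s t * (nWordGL good3_F4.toGood2 w)⁻¹ = fx K s' t := by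
  rcases h2 with h2 | h2
  · have := TwGen.conjW (K := K) good3_F4.toGood2 hw s.2 s'.2 h1 h2 t
    unfold fx
    rw [this]
    congr 1
    push_cast
    ring
  · have := TwGen.conjW (K := K) good3_F4.toGood2 hw s.2 s'.2 h1 h2 t
    unfold fx
    rw [this]
    congr 1
    push_cast
    rw [neg_one_mul, neg_eq_self_char2]

/-- The action of the torus element on a root element. -/
theorem conjH (c : Kˣ) (d : Kˣ) (s : Fin 48) {p1 p2 : ℤ}
    (h1 : (tabOf chevF4).pairing 33 s.val = p1) (h2 : (tabOf chevF4).pairing 24 s.val = p2) (t : K) :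
    (fh K 33 d * fh K 24 c) * fx K s t * (fh K 33 d * fh K 24 c)⁻¹ =
      fx K s ((d : K) ^ p1 * ((c : K) ^ p2 * t)) := by
  have c2 := CGen.hGL_conj_xGL (F := K) good3_F4.toGood2 (r := 24) (by decide) c.ne_zero s.2 t
  have c1 := CGen.hGL_conj_xGL (F := K) good3_F4.toGood2 (r := 33) (by decide) d.ne_zero s.2
    ((c : K) ^ (tabOf chevF4).pairing 24 s.val * t)
  rw [h2] at c2 c1
  rw [h1] at c1
  unfold fx fh
  rw [← c1, ← c2]
  group

end conj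

end Cfsg.Agent.Helper8.RF4
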