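import Mathlib
import Cfsg.Agent.Helper8.RF4B

set_option autoImplicit false
set_option linter.unusedSectionVars false
set_option linter.unusedVariables false
set_option maxRecDepth 100000

/-!
The large Ree groups: the root groups of Suzuki type, their multiplication, and the action of the torus element.
-/

namespace Cfsg.Agent.Helper8.RF4

open Cfsg Cfsg.Lie Matrix Cfsg.Agent.Helper7.Chev

variable {K : Type*} [Field K] [CharP K 2] {m : ℕ}

/-- The element `x_a(t^θ) x_b(t) x_{ab}(t^{θ+1} + u) x_{aab}(u^{2θ})` for four roots. -/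
noncomputable def Y (m : ℕ) (a b ab aab : Fin 48) (t u : K) : GL chevF4.Idx K :=
  fx K a (f4Th K m t) * fx K b t * fx K ab (f4Th K m t * t + u) * fx K aab (f4Th K (m + 1) u)

theorem xS_pos_eq (t u : K) : (quadPos K).xS m t u = Y m 27 25 28 30 t u := rfl

theorem xS_neg_eq (t u : K) : (quadNeg K).xS m t u = Y m 20 22 19 17 t u := rfl

/-- Conjugation of `Y` by the element of a word. -/
theorem conjW_Y {w : List ℕ} (hw : ∀ i ∈ w, i < chevF4.rank) (a b ab aab a' b' ab' aab' : Fin 48)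
    (h1 : (tabOf chevF4).reflWord w a.val = a'.val ∧
      ((tabOf chevF4).etaWord w a.val = 1 ∨ (tabOf chevF4).etaWord w a.val = -1))
    (h2 : (tabOf chevF4).reflWord w b.val = b'.val ∧
      ((tabOf chevF4).etaWord w b.val = 1 ∨ (tabOf chevF4).etaWord w b.val = -1))
    (h3 : (tabOf chevF4).reflWord w ab.val = ab'.val ∧
      ((tabOf chevF4).etaWord w ab.val = 1 ∨ (tabOf chevF4).etaWord w ab.val = -1))
    (h4 : (tabOf chevF4).reflWord w aab.val = aab'.val ∧
      ((tabOf chevF4).etaWord w aab.val = 1 ∨ (tabOf chevF4).etaWord w aab.val = -1)) (t u : K) :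
    nWordGL good3_F4.toGood2 w * Y m a b ab aab t u * (nWordGL good3_F4.toGood2 w)⁻¹ = Y m a' b' ab' aab' t u := by
  unfold Y
  rw [← conjW2 hw a a' h1.1 h1.2, ← conjW2 hw b b' h2.1 h2.2, ← conjW2 hw ab ab' h3.1 h3.2,
    ← conjW2 hw aab aab' h4.1 h4.2]
  group

section tau

variable (hm : ∀ t : K, t ^ 2 ^ (2 * m + 1) = t)

include hm in
/-- The multiplication of the root group of Suzuki type. -/
theorem xS_mul (q : B2Quad K) (t u t' u' : K) :
    q.xS m t u * q.xS m t' u' = q.xS m (t + t') (u + u' + f4Th K m t * t') := by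
  unfold B2Quad.xS
  rw [B2Quad.xQ_mul]
  have h2 := two_eq_zero' (K := K)
  have e1 : f4Th K (m + 1) (f4Th K m t) = t := f4Th_succ_f4Th hm t
  have e2 : f4Th K (m + 1) t' = (f4Th K m t') ^ 2 := f4Th_succ m t'
  congr 1
  · rw [map_add]
  · rw [map_add]
    linear_combination (-(f4Th K m t * t')) * h2
  · rw [map_add, map_add, map_mul, e1, e2]
    ring

theorem xS_zero (q : B2Quad K) : q.xS m (0 : K) 0 = 1 := by
  unfold B2Quad.xS
  rw [map_zero, map_zero, zero_mul, add_zero, B2Quad.xQ_zero]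

include hm in
theorem xS_cen (q : B2Quad K) (z t u : K) : q.xS m 0 z * q.xS m t u = q.xS m t (u + z) := by
  rw [xS_mul hm, map_zero, zero_mul, add_zero, zero_add, add_comm]

include hm in
theorem xS_sq (q : B2Quad K) (t u : K) : q.xS m t u * q.xS m t u = q.xS m 0 (f4Th K m t * t) := by
  rw [xS_mul hm, add_self_char2, add_self_char2, zero_add]

end tau

/-- The action of the torus element on `Y`. -/
theorem conjH_Y (hm : ∀ t : K, t ^ 2 ^ (2 * m + 1) = t) (c : Kˣ) (a b ab aab : Fin 48)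
    (h1 : (tabOf chevF4).pairing 33 a.val = -1 ∧ (tabOf chevF4).pairing 24 a.val = 0)
    (h2 : (tabOf chevF4).pairing 33 b.val = 0 ∧ (tabOf chevF4).pairing 24 b.val = -1)
    (h3 : (tabOf chevF4).pairing 33 ab.val = -1 ∧ (tabOf chevF4).pairing 24 ab.val = -1)
    (h4 : (tabOf chevF4).pairing 33 aab.val = -2 ∧ (tabOf chevF4).pairing 24 aab.val = -1) (t u : K) :
    (fh K 33 (Units.map (f4Th K m : K →* K) c) * fh K 24 c) * Y m a b ab aab t u *
        (fh K 33 (Units.map (f4Th K m : K →* K) c) * fh K 24 c)⁻¹ =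
      Y m a b ab aab ((c : K)⁻¹ * t) (((f4Th K m (c : K))⁻¹ * (c : K)⁻¹) * u) := by
  set H := fh K 33 (Units.map (f4Th K m : K →* K) c) * fh K 24 c with hH
  have hc0 : (c : K) ≠ 0 := c.ne_zero
  have hθc0 : f4Th K m (c : K) ≠ 0 := (map_ne_zero _).mpr hc0
  have hd : ((Units.map (f4Th K m : K →* K) c : Kˣ) : K) = f4Th K m (c : K) := rfl
  have c1 := conjH c (Units.map (f4Th K m : K →* K) c) a h1.1 h1.2 (f4Th K m t)
  have c2 := conjH c (Units.map (f4Th K m : K →* K) c) b h2.1 h2.2 t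
  have c3 := conjH c (Units.map (f4Th K m : K →* K) c) ab h3.1 h3.2 (f4Th K m t * t + u)
  have c4 := conjH c (Units.map (f4Th K m : K →* K) c) aab h4.1 h4.2 (f4Th K (m + 1) u)
  rw [← hH, hd] at c1 c2 c3 c4
  have e : H * Y m a b ab aab t u * H⁻¹ =
      (H * fx K a (f4Th K m t) * H⁻¹) * (H * fx K b t * H⁻¹) * (H * fx K ab (f4Th K m t * t + u) * H⁻¹) *
      (H * fx K aab (f4Th K (m + 1) u) * H⁻¹) := by
    unfold Y; group
  rw [e, c1, c2, c3, c4]
  unfold Y
  have e1 : f4Th K (m + 1) (f4Th K m (c : K)) = (c : K) := f4Th_succ_f4Th hm _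
  have e2 : f4Th K (m + 1) (c : K) = (f4Th K m (c : K)) ^ 2 := f4Th_succ m _
  congr 2
  · congr 2
    · rw [map_mul, map_inv₀, _root_.zpow_neg_one, zpow_zero, one_mul]
    · rw [_root_.zpow_neg_one, zpow_zero, one_mul]
  · congr 1
    rw [map_mul, map_inv₀, _root_.zpow_neg_one, _root_.zpow_neg_one]
    ring
  · rw [map_mul, map_mul, map_inv₀, map_inv₀, e1, e2, _root_.zpow_neg_one, _root_.zpow_neg, zpow_ofNat]
    ring

end Cfsg.Agent.Helper8.RF4
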