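import Mathlib

set_option autoImplicit false

/-!
Counting the union of the conjugates of a trivial-intersection subgroup.
-/

namespace Cfsg.Agent.Helper8.SzPart

section TI

variable {G : Type*} [Group G]

/-- the nonidentity elements of the conjugates of `A` -/
def conjSet (A : Subgroup G) : Set G := {x | x ≠ 1 ∧ ∃ g : G, g⁻¹ * x * g ∈ A}

theorem mem_conjSet_self {A : Subgroup G} {u : G} (hu : u ∈ A) (hu1 : u ≠ 1) : u ∈ conjSet A :=
  ⟨hu1, 1, by simpa using hu⟩

theorem conj_mem_conjSet {A : Subgroup G} {x : G} (hx : x ∈ conjSet A) (k : G) :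
    k * x * k⁻¹ ∈ conjSet A := by
  obtain ⟨hx1, g, hg⟩ := hx
  refine ⟨?_, k * g, ?_⟩
  · intro h
    apply hx1
    have : x = k⁻¹ * (k * x * k⁻¹) * k := by group
    rw [this, h]; group
  · have : (k * g)⁻¹ * (k * x * k⁻¹) * (k * g) = g⁻¹ * x * g := by group
    rw [this]; exact hg

theorem card_ne_one (A : Type*) [Group A] [Finite A] :
    Nat.card {u : A // u ≠ 1} = Nat.card A - 1 := by
  classical
  haveI := Fintype.ofFinite A
  rw [Nat.card_eq_fintype_card, Nat.card_eq_fintype_card]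
  have h := Fintype.card_subtype_compl (fun v : A => v = 1)
  have h1 : Fintype.card {v : A // v = 1} = 1 := Fintype.card_subtype_eq 1
  rw [h1] at h
  exact h

variable [Finite G]

/-- The count for a TI subgroup. -/
theorem card_conjSet (A : Subgroup G)
    (hTI : ∀ g : G, ∀ u ∈ A, u ≠ 1 → g * u * g⁻¹ ∈ A → g ∈ Subgroup.normalizer (A : Set G)) :
    Nat.card (conjSet A) * Nat.card (Subgroup.normalizer (A : Set G)) =
      Nat.card G * (Nat.card A - 1) := by
  classical
  let rep : G → G := fun x => if h : x ∈ conjSet A then Classical.choose h.2 else 1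
  have hrep : ∀ x ∈ conjSet A, (rep x)⁻¹ * x * rep x ∈ A := by
    intro x hx
    simp only [rep, dif_pos hx]
    exact Classical.choose_spec hx.2
  have hrep1 : ∀ x ∈ conjSet A, (rep x)⁻¹ * x * rep x ≠ 1 := by
    intro x hx h
    apply hx.1
    have : x = rep x * ((rep x)⁻¹ * x * rep x) * (rep x)⁻¹ := by group
    rw [this, h]; group
  have hN : ∀ n ∈ Subgroup.normalizer (A : Set G), ∀ u ∈ A, n⁻¹ * u * n ∈ A := by
    intro n hn u hu
    have h1 : n⁻¹ ∈ Subgroup.normalizer (A : Set G) := Subgroup.inv_mem _ hn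
    rw [Subgroup.mem_normalizer_iff] at h1
    have := (h1 u).1 hu
    simpa using this
  have hmem : ∀ (g : G) (u : {u : A // u ≠ 1}), g * (u.1 : G) * g⁻¹ ∈ conjSet A := by
    intro g u
    refine ⟨?_, g, ?_⟩
    · intro h
      apply u.2
      apply Subtype.ext
      have : (u.1 : G) = g⁻¹ * (g * (u.1 : G) * g⁻¹) * g := by group
      rw [this, h, Subgroup.coe_one]; group
    · have : g⁻¹ * (g * (u.1 : G) * g⁻¹) * g = (u.1 : G) := by group
      rw [this]; exact u.1.2
  have hnorm : ∀ (g : G) (u : {u : A // u ≠ 1}),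
      (rep (g * (u.1 : G) * g⁻¹))⁻¹ * g ∈ Subgroup.normalizer (A : Set G) := by
    intro g u
    apply hTI _ (u.1 : G) u.1.2 (fun h => u.2 (Subtype.ext h))
    have : (rep (g * (u.1 : G) * g⁻¹))⁻¹ * g * (u.1 : G) * ((rep (g * (u.1 : G) * g⁻¹))⁻¹ * g)⁻¹ =
        (rep (g * (u.1 : G) * g⁻¹))⁻¹ * (g * (u.1 : G) * g⁻¹) * rep (g * (u.1 : G) * g⁻¹) := by
      group
    rw [this]
    exact hrep _ (hmem g u)
  let Φ : G × {u : A // u ≠ 1} → conjSet A × Subgroup.normalizer (A : Set G) := fun p =>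
    (⟨p.1 * (p.2.1 : G) * p.1⁻¹, hmem p.1 p.2⟩,
      ⟨(rep (p.1 * (p.2.1 : G) * p.1⁻¹))⁻¹ * p.1, hnorm p.1 p.2⟩)
  have hΦ : Function.Bijective Φ := by
    constructor
    · rintro ⟨g, u⟩ ⟨g', u'⟩ h
      have h1 : g * (u.1 : G) * g⁻¹ = g' * (u'.1 : G) * g'⁻¹ :=
        congrArg (fun q => (q.1 : G)) h
      have h2 : (rep (g * (u.1 : G) * g⁻¹))⁻¹ * g = (rep (g' * (u'.1 : G) * g'⁻¹))⁻¹ * g' :=
        congrArg (fun q => (q.2 : G)) h
      rw [h1] at h2
      have hg : g = g' := mul_left_cancel h2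
      subst hg
      have hu : (u.1 : G) = u'.1 := by
        have : (u.1 : G) = g⁻¹ * (g * (u.1 : G) * g⁻¹) * g := by group
        rw [this, h1]; group
      have : u = u' := Subtype.ext (Subtype.ext hu)
      rw [this]
    · rintro ⟨x, n⟩
      have hx := x.2
      set r := rep (x : G) with hr
      have hv : r⁻¹ * (x : G) * r ∈ A := hrep _ hx
      have hv1 : r⁻¹ * (x : G) * r ≠ 1 := hrep1 _ hx
      have hu : (n : G)⁻¹ * (r⁻¹ * (x : G) * r) * (n : G) ∈ A := hN _ n.2 _ hv
      have hu1 : (⟨(n : G)⁻¹ * (r⁻¹ * (x : G) * r) * (n : G), hu⟩ : A) ≠ 1 := by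
        intro h
        apply hv1
        have h' : (n : G)⁻¹ * (r⁻¹ * (x : G) * r) * (n : G) = 1 := congrArg Subtype.val h
        have : r⁻¹ * (x : G) * r = (n : G) * ((n : G)⁻¹ * (r⁻¹ * (x : G) * r) * (n : G)) *
            (n : G)⁻¹ := by group
        rw [this, h']; group
      refine ⟨(r * (n : G), ⟨⟨_, hu⟩, hu1⟩), ?_⟩
      have hval : r * (n : G) * ((n : G)⁻¹ * (r⁻¹ * (x : G) * r) * (n : G)) * (r * (n : G))⁻¹ =
          (x : G) := by group
      apply Prod.ext
      · apply Subtype.ext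
        exact hval
      · apply Subtype.ext
        show (rep (r * (n : G) * ((n : G)⁻¹ * (r⁻¹ * (x : G) * r) * (n : G)) *
          (r * (n : G))⁻¹))⁻¹ * (r * (n : G)) = n
        rw [hval, ← hr]
        group
  have hcard := Nat.card_congr (Equiv.ofBijective Φ hΦ)
  rw [Nat.card_prod, Nat.card_prod, card_ne_one] at hcard
  exact hcard.symm

end TI

end Cfsg.Agent.Helper8.SzPart
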