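import Mathlib
import Cfsg.Agent.Helper8.SzPartB

set_option autoImplicit false

/-!
Abstract structure theory for the elements of order dividing `q² + 1` of a group of Suzuki type:
their centralizers are cyclic TI Hall subgroups.
-/

namespace Cfsg.Agent.Helper8.SzPart

/-- the hypotheses -/
structure Ctx (G : Type*) [Group G] [Finite G] (q r : ℕ) : Prop where
  hr : 2 ≤ r
  hqr : q = 2 * r ^ 2
  card : Nat.card G = q ^ 2 * (q - 1) * (q ^ 2 + 1)
  count : 2 * Nat.card {g : G // g ≠ 1 ∧ g ^ (q ^ 2 + 1) = 1} = q ^ 3 * (q - 1) ^ 2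
  cyc : ∀ x : G, x ≠ 1 → x ^ (q ^ 2 + 1) = 1 → IsCyclic (Subgroup.centralizer ({x} : Set G))
  clo : ∀ x : G, x ≠ 1 → x ^ (q ^ 2 + 1) = 1 →
    ∀ c ∈ Subgroup.centralizer ({x} : Set G), c ^ (q ^ 2 + 1) = 1
  nor : ∀ x : G, x ≠ 1 → x ^ (q ^ 2 + 1) = 1 →
    Nat.card (Subgroup.normalizer ((Subgroup.centralizer ({x} : Set G) : Subgroup G) : Set G)) ∣
      4 * Nat.card (Subgroup.centralizer ({x} : Set G))
  syl : ∀ p : ℕ, p.Prime → p ≠ 2 → ∀ P : Sylow p G, IsCyclic P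

variable {G : Type*} [Group G]

theorem comm_of_cyclic {H : Subgroup G} (hH : IsCyclic H) {a b : G} (ha : a ∈ H) (hb : b ∈ H) :
    a * b = b * a := by
  have := (IsCyclic.isMulCommutative (α := H)).is_comm.comm ⟨a, ha⟩ ⟨b, hb⟩
  exact congrArg Subtype.val this

/-- the elements of order dividing `q² + 1` -/
def XX (G : Type*) [Group G] (q : ℕ) : Set G := {g | g ≠ 1 ∧ g ^ (q ^ 2 + 1) = 1}

/-- the centralizer -/
abbrev Cz (x : G) : Subgroup G := Subgroup.centralizer ({x} : Set G)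

theorem mem_Cz {x c : G} : c ∈ Cz x ↔ c * x = x * c := Subgroup.mem_centralizer_singleton_iff

theorem self_mem_Cz (x : G) : x ∈ Cz x := mem_Cz.2 rfl

theorem conj_mem_Cz {x c g : G} : c ∈ Cz (g * x * g⁻¹) ↔ g⁻¹ * c * g ∈ Cz x := by
  rw [mem_Cz, mem_Cz]
  constructor
  · intro h
    calc g⁻¹ * c * g * x = g⁻¹ * (c * (g * x * g⁻¹)) * g := by group
      _ = g⁻¹ * (g * x * g⁻¹ * c) * g := by rw [h]
      _ = x * (g⁻¹ * c * g) := by group
  · intro h
    calc c * (g * x * g⁻¹) = g * (g⁻¹ * c * g * x) * g⁻¹ := by group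
      _ = g * (x * (g⁻¹ * c * g)) * g⁻¹ := by rw [h]
      _ = g * x * g⁻¹ * c := by group

variable [Finite G] {q r : ℕ}

namespace Ctx

variable (h : Ctx G q r)
include h

theorem q_ge : 8 ≤ q := by
  have := h.hr
  rw [h.hqr]
  nlinarith

theorem mem_XX_of_mem_Cz {x c : G} (hx : x ∈ XX G q) (hc : c ∈ Cz x) (hc1 : c ≠ 1) : c ∈ XX G q :=
  ⟨hc1, h.clo x hx.1 hx.2 c hc⟩

/-- the centralizer of a nonidentity element of `C(x)` is `C(x)` -/
theorem cent_eq {x a : G} (hx : x ∈ XX G q) (ha : a ∈ Cz x) (ha1 : a ≠ 1) : Cz a = Cz x := by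
  have haX := h.mem_XX_of_mem_Cz hx ha ha1
  have hca := h.cyc a haX.1 haX.2
  have hcx := h.cyc x hx.1 hx.2
  have hxa : x ∈ Cz a := by
    rw [mem_Cz] at ha ⊢
    exact ha.symm
  ext c
  constructor
  · intro hc
    rw [mem_Cz]
    exact comm_of_cyclic hca hc hxa
  · intro hc
    rw [mem_Cz]
    exact comm_of_cyclic hcx hc ha

/-- TI property -/
theorem ti {x : G} (hx : x ∈ XX G q) (g u : G) (hu : u ∈ Cz x) (hu1 : u ≠ 1)
    (hgu : g * u * g⁻¹ ∈ Cz x) : g ∈ Subgroup.normalizer ((Cz x : Subgroup G) : Set G) := by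
  have hgu1 : g * u * g⁻¹ ≠ 1 := by
    intro e
    apply hu1
    have : u = g⁻¹ * (g * u * g⁻¹) * g := by group
    rw [this, e]; group
  have e1 := h.cent_eq hx hu hu1
  have e2 := h.cent_eq hx hgu hgu1
  rw [Subgroup.mem_normalizer_iff]
  intro c
  have key : g * c * g⁻¹ ∈ Cz (g * u * g⁻¹) ↔ c ∈ Cz u := by
    rw [conj_mem_Cz]
    have : g⁻¹ * (g * c * g⁻¹) * g = c := by group
    rw [this]
  rw [e2] at key
  rw [e1] at key
  exact key.symm

/-- the order of the centralizer divides `q² + 1` -/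
theorem card_dvd {x : G} (hx : x ∈ XX G q) : Nat.card (Cz x) ∣ q ^ 2 + 1 := by
  haveI := h.cyc x hx.1 hx.2
  rw [← IsCyclic.exponent_eq_card]
  apply Monoid.exponent_dvd_of_forall_pow_eq_one
  intro c
  apply Subtype.ext
  rw [Subgroup.coe_pow, Subgroup.coe_one]
  exact h.clo x hx.1 hx.2 c c.2

theorem one_lt_card {x : G} (hx : x ∈ XX G q) : 1 < Nat.card (Cz x) := by
  rw [Finite.one_lt_card_iff_nontrivial]
  exact ⟨⟨⟨x, self_mem_Cz x⟩, 1, fun e => hx.1 (congrArg Subtype.val e)⟩⟩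

theorem odd_sq_add_one : ¬ 2 ∣ q ^ 2 + 1 := by
  rw [h.hqr]
  intro ⟨k, hk⟩
  have : (2 * r ^ 2) ^ 2 = 2 * (2 * r ^ 4) := by ring
  omega

theorem three_not_dvd : ¬ 3 ∣ q ^ 2 + 1 := by
  rw [h.hqr]
  intro hd
  have h1 : (2 * r ^ 2) ^ 2 + 1 = 4 * (r * r) * (r * r) + 1 := by ring
  rw [h1] at hd
  have h2 : (r * r) % 3 = 0 ∨ (r * r) % 3 = 1 := by
    have : r % 3 = 0 ∨ r % 3 = 1 ∨ r % 3 = 2 := by omega
    rcases this with h0 | h0 | h0 <;> rw [Nat.mul_mod, h0] <;> decide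
  obtain ⟨k, hk⟩ := hd
  set s := r * r with hs
  have h3 : (s * s) % 3 = 0 ∨ (s * s) % 3 = 1 := by
    rcases h2 with h0 | h0 <;> rw [Nat.mul_mod, h0] <;> decide
  have h4 : 4 * s * s = 4 * (s * s) := by ring
  rw [h4] at hk
  omega

theorem five_le_card {x : G} (hx : x ∈ XX G q) : 5 ≤ Nat.card (Cz x) := by
  have h1 := h.one_lt_card hx
  have h2 := h.card_dvd hx
  have h3 : ¬ 2 ∣ Nat.card (Cz x) := fun hd => h.odd_sq_add_one (hd.trans h2)
  have h4 : ¬ 3 ∣ Nat.card (Cz x) := fun hd => h.three_not_dvd (hd.trans h2)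
  by_contra hcon
  push Not at hcon
  interval_cases Nat.card (Cz x) <;> simp_all

/-- a Sylow subgroup meeting `C(x)` lies in it -/
theorem sylow_le {x : G} (hx : x ∈ XX G q) {p : ℕ} [Fact p.Prime] (P : Sylow p G) {u : G}
    (hu : u ∈ Cz x) (hu1 : u ≠ 1) (huP : u ∈ P) : (P : Subgroup G) ≤ Cz x := by
  have hp2 : p ≠ 2 := by
    rintro rfl
    -- `u` is a 2-element of odd order
    obtain ⟨k, hk⟩ := (IsPGroup.iff_orderOf.1 P.isPGroup') ⟨u, huP⟩
    rw [Subgroup.orderOf_mk] at hk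
    have h1 : orderOf u ∣ q ^ 2 + 1 := orderOf_dvd_of_pow_eq_one (h.clo x hx.1 hx.2 u hu)
    have hk0 : k ≠ 0 := by
      rintro rfl
      rw [pow_zero, orderOf_eq_one_iff] at hk
      exact hu1 hk
    apply h.odd_sq_add_one
    rw [hk] at h1
    exact (dvd_pow_self 2 hk0).trans h1
  have hcyc := h.syl p Fact.out hp2 P
  rw [← h.cent_eq hx hu hu1]
  intro c hc
  rw [mem_Cz]
  exact comm_of_cyclic hcyc hc huP

/-- Hall property: if `p` divides the order of `C(x)` then so does the full `p`-part of `|G|`. -/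
theorem hall {x : G} (hx : x ∈ XX G q) {p : ℕ} (hp : p.Prime) (hd : p ∣ Nat.card (Cz x)) :
    p ^ (Nat.card G).factorization p ∣ Nat.card (Cz x) := by
  haveI : Fact p.Prime := ⟨hp⟩
  obtain ⟨u, hu⟩ := exists_prime_orderOf_dvd_card' (G := Cz x) p hd
  have hu1 : (u : G) ≠ 1 := by
    intro e
    have : u = 1 := Subtype.ext e
    rw [this, orderOf_one] at hu
    exact hp.one_lt.ne hu
  have hpz : IsPGroup p (Subgroup.zpowers (u : G)) := by
    apply IsPGroup.of_card (n := 1)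
    rw [Nat.card_zpowers, Subgroup.orderOf_coe, hu, pow_one]
  obtain ⟨P, hP⟩ := hpz.exists_le_sylow
  have hle := h.sylow_le hx P u.2 hu1 (hP (Subgroup.mem_zpowers _))
  have := Subgroup.card_dvd_of_le hle
  rwa [Sylow.card_eq_multiplicity] at this

/-- a prime dividing `|C(x)|` does not divide `(q² + 1) / |C(x)|` -/
theorem not_dvd_quot {x : G} (hx : x ∈ XX G q) {p : ℕ} (hp : p.Prime) (hd : p ∣ Nat.card (Cz x))
    {b : ℕ} (hb : Nat.card (Cz x) * b = q ^ 2 + 1) : ¬ p ∣ b := by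
  intro hpb
  have h1 := h.hall hx hp hd
  set k := (Nat.card G).factorization p with hk
  have h2 : p ^ (k + 1) ∣ Nat.card G := by
    rw [pow_succ, h.card, ← hb]
    exact Dvd.dvd.mul_left (mul_dvd_mul h1 hpb) _
  exact Nat.pow_succ_factorization_not_dvd Nat.card_pos.ne' hp h2

/-- two centralizers whose orders share a prime are conjugate -/
theorem exists_conj {x x' : G} (hx : x ∈ XX G q) (hx' : x' ∈ XX G q) {p : ℕ} (hp : p.Prime)
    (hd : p ∣ Nat.card (Cz x)) (hd' : p ∣ Nat.card (Cz x')) :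
    ∃ g : G, ∀ c : G, c ∈ Cz x' ↔ g⁻¹ * c * g ∈ Cz x := by
  haveI : Fact p.Prime := ⟨hp⟩
  obtain ⟨u, hu⟩ := exists_prime_orderOf_dvd_card' (G := Cz x) p hd
  obtain ⟨u', hu'⟩ := exists_prime_orderOf_dvd_card' (G := Cz x') p hd'
  have hne : ∀ {y : G} (v : Cz y), orderOf v = p → (v : G) ≠ 1 := by
    intro y v hv e
    have : v = 1 := Subtype.ext e
    rw [this, orderOf_one] at hv
    exact hp.one_lt.ne hv
  have hu1 := hne u hu
  have hu1' := hne u' hu'
  have hpz : IsPGroup p (Subgroup.zpowers (u : G)) := by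
    apply IsPGroup.of_card (n := 1)
    rw [Nat.card_zpowers, Subgroup.orderOf_coe, hu, pow_one]
  have hpz' : IsPGroup p (Subgroup.zpowers (u' : G)) := by
    apply IsPGroup.of_card (n := 1)
    rw [Nat.card_zpowers, Subgroup.orderOf_coe, hu', pow_one]
  obtain ⟨P, hP⟩ := hpz.exists_le_sylow
  obtain ⟨P', hP'⟩ := hpz'.exists_le_sylow
  obtain ⟨g, hg⟩ := MulAction.exists_smul_eq G P P'
  have hle' := h.sylow_le hx' P' u'.2 hu1' (hP' (Subgroup.mem_zpowers _))
  -- `g u g⁻¹ ∈ P'`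
  have hmem : g * (u : G) * g⁻¹ ∈ (P' : Subgroup G) := by
    rw [← hg, Sylow.coe_subgroup_smul, Subgroup.mem_pointwise_smul_iff_inv_smul_mem]
    have : (MulAut.conj g)⁻¹ • (g * (u : G) * g⁻¹) = (u : G) := by
      rw [MulAut.smul_def, ← map_inv, MulAut.conj_apply]; group
    rw [this]
    exact hP (Subgroup.mem_zpowers _)
  have hv := hle' hmem
  have hv1 : g * (u : G) * g⁻¹ ≠ 1 := by
    intro e
    apply hu1
    have : (u : G) = g⁻¹ * (g * (u : G) * g⁻¹) * g := by group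
    rw [this, e]; group
  have e1 := h.cent_eq hx' hv hv1
  have e2 := h.cent_eq hx u.2 hu1
  refine ⟨g, fun c => ?_⟩
  rw [← e1, conj_mem_Cz, e2]

end Ctx

end Cfsg.Agent.Helper8.SzPart
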