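import Mathlib
import Cfsg.Agent.Helper8.SzPartC

set_option autoImplicit false

/-!
The counting argument: in a group of Suzuki type the centralizers of the elements of order dividing
`q² + 1` have orders `q + 2r + 1` and `q - 2r + 1` and index `4` in their normalizers.
-/

namespace Cfsg.Agent.Helper8.SzPart

/-- the arithmetic heart of the argument -/
theorem arith_main {q a₁ a₂ w₁ w₂ s₁ s₂ : ℤ} (hq : 8 ≤ q) (ha₁ : 5 ≤ a₁) (ha₂ : 5 ≤ a₂)
    (hP : a₁ * a₂ = q ^ 2 + 1) (hw₁ : w₁ = 1 ∨ w₁ = 2 ∨ w₁ = 4) (hw₂ : w₂ = 1 ∨ w₂ = 2 ∨ w₂ = 4)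
    (e₁ : s₁ * w₁ = q ^ 2 * (q - 1) * (a₂ * (a₁ - 1)))
    (e₂ : s₂ * w₂ = q ^ 2 * (q - 1) * (a₁ * (a₂ - 1)))
    (e : 2 * (s₁ + s₂) = q ^ 3 * (q - 1) ^ 2) :
    w₁ = 4 ∧ w₂ = 4 ∧ a₁ + a₂ = 2 * q + 2 := by
  have hM : q ^ 2 * (q - 1) ≠ 0 := mul_ne_zero (pow_ne_zero _ (by omega)) (by omega)
  have key : 2 * (w₂ * (a₂ * (a₁ - 1)) + w₁ * (a₁ * (a₂ - 1))) = w₁ * w₂ * (q * (q - 1)) := by
    apply mul_left_cancel₀ hM
    linear_combination (-2 * w₂) * e₁ + (-2 * w₁) * e₂ + (w₁ * w₂) * e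
  have key' : 2 * (w₂ * (q ^ 2 + 1 - a₂) + w₁ * (q ^ 2 + 1 - a₁)) = w₁ * w₂ * (q ^ 2 - q) := by
    linear_combination key - (2 * w₁ + 2 * w₂) * hP
  have hi : 5 * (a₁ + a₂) ≤ q ^ 2 + 26 := by
    nlinarith [mul_nonneg (sub_nonneg.2 ha₁) (sub_nonneg.2 ha₂)]
  have hQ : 64 ≤ q ^ 2 := by nlinarith
  rcases hw₁ with rfl | rfl | rfl <;> rcases hw₂ with rfl | rfl | rfl
  · exfalso; linarith
  · exfalso; linarith
  · exfalso; linarith
  · exfalso; linarith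
  · exfalso; linarith
  · exfalso; linarith
  · exfalso; linarith
  · exfalso; linarith
  · refine ⟨rfl, rfl, ?_⟩
    linarith

/-- the quadratic -/
theorem arith_quad {q r a₁ a₂ : ℤ} (hqr : q = 2 * r ^ 2) (hP : a₁ * a₂ = q ^ 2 + 1)
    (hs : a₁ + a₂ = 2 * q + 2) :
    (a₁ = q + 2 * r + 1 ∧ a₂ = q - 2 * r + 1) ∨ (a₁ = q - 2 * r + 1 ∧ a₂ = q + 2 * r + 1) := by
  have h0 : (a₁ - (q + 2 * r + 1)) * (a₁ - (q - 2 * r + 1)) = 0 := by
    have : a₂ = 2 * q + 2 - a₁ := by linarith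
    subst this
    subst hqr
    linear_combination -hP
  rcases mul_eq_zero.1 h0 with h1 | h1
  · left
    constructor <;> linarith
  · right
    constructor <;> linarith

variable {G : Type*} [Group G]

theorem card_eq_of_conj {x x' g : G} (hg : ∀ c : G, c ∈ Cz x' ↔ g⁻¹ * c * g ∈ Cz x) :
    Nat.card (Cz x') = Nat.card (Cz x) := by
  apply Nat.card_congr
  refine ⟨fun c => ⟨g⁻¹ * c.1 * g, (hg c.1).1 c.2⟩, fun c => ⟨g * c.1 * g⁻¹, (hg _).2 ?_⟩, ?_, ?_⟩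
  · have : g⁻¹ * (g * c.1 * g⁻¹) * g = c.1 := by group
    rw [this]
    exact c.2
  · intro c
    apply Subtype.ext
    show g * (g⁻¹ * c.1 * g) * g⁻¹ = c.1
    group
  · intro c
    apply Subtype.ext
    show g⁻¹ * (g * c.1 * g⁻¹) * g = c.1
    group

theorem orderOf_dvd_card_Cz [Finite G] (x : G) : orderOf x ∣ Nat.card (Cz x) := by
  have := orderOf_dvd_natCard (⟨x, self_mem_Cz x⟩ : Cz x)
  rwa [Subgroup.orderOf_mk] at this

theorem orderOf_conj' (g y : G) : orderOf (g⁻¹ * y * g) = orderOf y := by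
  have hs : SemiconjBy g (g⁻¹ * y * g) y := by
    unfold SemiconjBy
    group
  exact hs.orderOf_eq

variable [Finite G] {q r : ℕ}

namespace Ctx

variable (h : Ctx G q r)
include h

theorem conjSet_subset {x : G} (hx : x ∈ XX G q) : conjSet (Cz x) ⊆ XX G q := by
  rintro y ⟨hy1, g, hg⟩
  refine ⟨hy1, ?_⟩
  have h1 := h.clo x hx.1 hx.2 _ hg
  have h2 : orderOf (g⁻¹ * y * g) ∣ q ^ 2 + 1 := orderOf_dvd_of_pow_eq_one h1
  rw [orderOf_conj'] at h2
  exact orderOf_dvd_iff_pow_eq_one.1 h2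

theorem mem_XX_of_orderOf {p : ℕ} (hp : p.Prime) (hd : p ∣ q ^ 2 + 1) {x : G}
    (hx : orderOf x = p) : x ∈ XX G q := by
  refine ⟨?_, ?_⟩
  · rintro rfl
    rw [orderOf_one] at hx
    exact hp.one_lt.ne hx
  · apply orderOf_dvd_iff_pow_eq_one.1
    rw [hx]
    exact hd

theorem sq_add_one_dvd_card : q ^ 2 + 1 ∣ Nat.card G := by
  rw [h.card]
  exact Dvd.intro_left _ rfl

/-- an element of prime order `p` dividing `q² + 1` -/
theorem exists_of_prime {p : ℕ} (hp : p.Prime) (hd : p ∣ q ^ 2 + 1) :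
    ∃ x : G, x ∈ XX G q ∧ p ∣ Nat.card (Cz x) := by
  haveI : Fact p.Prime := ⟨hp⟩
  obtain ⟨x, hx⟩ := exists_prime_orderOf_dvd_card' (G := G) p (hd.trans h.sq_add_one_dvd_card)
  refine ⟨x, h.mem_XX_of_orderOf hp hd hx, ?_⟩
  rw [← hx]
  exact orderOf_dvd_card_Cz x

/-- covering -/
theorem mem_conjSet_of_prime {x y : G} (hx : x ∈ XX G q) (hy : y ∈ XX G q) {p : ℕ} (hp : p.Prime)
    (hd : p ∣ Nat.card (Cz x)) (hd' : p ∣ orderOf y) : y ∈ conjSet (Cz x) := by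
  obtain ⟨g, hg⟩ := h.exists_conj hx hy hp hd (hd'.trans (orderOf_dvd_card_Cz y))
  exact ⟨hy.1, g, (hg y).1 (self_mem_Cz y)⟩

theorem exists_prime_dvd_orderOf {y : G} (hy : y ∈ XX G q) :
    ∃ p : ℕ, p.Prime ∧ p ∣ orderOf y ∧ p ∣ q ^ 2 + 1 := by
  have h1 : orderOf y ≠ 1 := by
    intro e
    exact hy.1 (orderOf_eq_one_iff.1 e)
  obtain ⟨p, hp, hpd⟩ := Nat.exists_prime_and_dvd h1
  exact ⟨p, hp, hpd, hpd.trans (orderOf_dvd_of_pow_eq_one hy.2)⟩

theorem card_eq_of_common_prime {x x' : G} (hx : x ∈ XX G q) (hx' : x' ∈ XX G q) {p : ℕ}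
    (hp : p.Prime) (hd : p ∣ Nat.card (Cz x)) (hd' : p ∣ Nat.card (Cz x')) :
    Nat.card (Cz x') = Nat.card (Cz x) := by
  obtain ⟨g, hg⟩ := h.exists_conj hx hx' hp hd hd'
  exact card_eq_of_conj hg

theorem coprime_of_ne {x x' : G} (hx : x ∈ XX G q) (hx' : x' ∈ XX G q)
    (hne : Nat.card (Cz x') ≠ Nat.card (Cz x)) :
    Nat.Coprime (Nat.card (Cz x)) (Nat.card (Cz x')) := by
  apply Nat.coprime_of_dvd
  intro p hp hd hd'
  exact hne (h.card_eq_of_common_prime hx hx' hp hd hd')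

omit h in
theorem disjoint_of_coprime {x x' : G}
    (hc : Nat.Coprime (Nat.card (Cz x)) (Nat.card (Cz x'))) :
    Disjoint (conjSet (Cz x)) (conjSet (Cz x')) := by
  rw [Set.disjoint_left]
  rintro y ⟨hy1, g, hg⟩ ⟨-, g', hg'⟩
  apply hy1
  have h1 : orderOf y ∣ Nat.card (Cz x) := by
    have := orderOf_dvd_natCard (⟨_, hg⟩ : Cz x)
    rwa [Subgroup.orderOf_mk, orderOf_conj'] at this
  have h2 : orderOf y ∣ Nat.card (Cz x') := by
    have := orderOf_dvd_natCard (⟨_, hg'⟩ : Cz x')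
    rwa [Subgroup.orderOf_mk, orderOf_conj'] at this
  have h3 := Nat.dvd_gcd h1 h2
  rw [hc] at h3
  exact orderOf_eq_one_iff.1 (Nat.dvd_one.1 h3)

/-- the numbers attached to a centralizer -/
theorem numbers {x : G} (hx : x ∈ XX G q) {b : ℕ} (hb : Nat.card (Cz x) * b = q ^ 2 + 1) :
    ∃ w : ℕ, (w = 1 ∨ w = 2 ∨ w = 4) ∧
      Nat.card (Subgroup.normalizer ((Cz x : Subgroup G) : Set G)) = w * Nat.card (Cz x) ∧
      (conjSet (Cz x)).ncard * w = q ^ 2 * (q - 1) * (b * (Nat.card (Cz x) - 1)) := by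
  have h1 := card_conjSet (Cz x) (fun g u hu hu1 hgu => h.ti hx g u hu hu1 hgu)
  rw [Nat.card_coe_set_eq] at h1
  have h2 := h.nor x hx.1 hx.2
  have h3 := h.five_le_card hx
  have h4 : Nat.card (Cz x) ∣ Nat.card (Subgroup.normalizer ((Cz x : Subgroup G) : Set G)) :=
    Subgroup.card_dvd_of_le Subgroup.le_normalizer
  obtain ⟨w, hw⟩ := h4
  have ha0 : 0 < Nat.card (Cz x) := by omega
  rw [hw] at h2 h1
  have hw4 : w ∣ 4 := by
    have : Nat.card (Cz x) * w ∣ Nat.card (Cz x) * 4 := by rwa [mul_comm _ 4]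
    exact (Nat.mul_dvd_mul_iff_left ha0).1 this
  have hw' : w = 1 ∨ w = 2 ∨ w = 4 := by
    have hle : w ≤ 4 := Nat.le_of_dvd (by norm_num) hw4
    interval_cases w <;> simp_all
  refine ⟨w, hw', by rw [hw, mul_comm], ?_⟩
  apply Nat.eq_of_mul_eq_mul_left ha0
  rw [h.card, ← hb] at h1
  rw [← mul_assoc, mul_comm (Nat.card (Cz x)), mul_assoc, h1]
  ring

theorem five_mul_ncard_ge {x : G} (hx : x ∈ XX G q) :
    Nat.card G ≤ 5 * (conjSet (Cz x)).ncard := by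
  have h1 := card_conjSet (Cz x) (fun g u hu hu1 hgu => h.ti hx g u hu hu1 hgu)
  rw [Nat.card_coe_set_eq] at h1
  have h2 := h.nor x hx.1 hx.2
  have h3 := h.five_le_card hx
  have hn : 0 < Nat.card (Subgroup.normalizer ((Cz x : Subgroup G) : Set G)) := Nat.card_pos
  have hn4 : Nat.card (Subgroup.normalizer ((Cz x : Subgroup G) : Set G)) ≤ 4 * Nat.card (Cz x) :=
    Nat.le_of_dvd (by omega) h2
  apply Nat.le_of_mul_le_mul_right _ hn
  calc Nat.card G * Nat.card (Subgroup.normalizer ((Cz x : Subgroup G) : Set G))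
      ≤ Nat.card G * (4 * Nat.card (Cz x)) := Nat.mul_le_mul_left _ hn4
    _ ≤ Nat.card G * (5 * (Nat.card (Cz x) - 1)) := Nat.mul_le_mul_left _ (by omega)
    _ = 5 * (Nat.card G * (Nat.card (Cz x) - 1)) := by ring
    _ = 5 * ((conjSet (Cz x)).ncard *
          Nat.card (Subgroup.normalizer ((Cz x : Subgroup G) : Set G))) := by rw [h1]
    _ = 5 * (conjSet (Cz x)).ncard *
          Nat.card (Subgroup.normalizer ((Cz x : Subgroup G) : Set G)) := by ring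

theorem ncard_XX : 2 * (XX G q).ncard = q ^ 3 * (q - 1) ^ 2 := by
  rw [← Nat.card_coe_set_eq]
  exact h.count

end Ctx

end Cfsg.Agent.Helper8.SzPart
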