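import Mathlib
import Cfsg.Agent.Helper8.SzPartD

set_option autoImplicit false

/-!
The main abstract theorem on groups of Suzuki type.
-/

namespace Cfsg.Agent.Helper8.SzPart

variable {G : Type*} [Group G] [Finite G] {q r : ℕ}

namespace Ctx

variable (h : Ctx G q r)
include h

/-- a single class cannot cover -/
theorem card_ne_sq_add_one {x : G} (hx : x ∈ XX G q) : Nat.card (Cz x) ≠ q ^ 2 + 1 := by
  intro ha
  have hq := h.q_ge
  have hsub : XX G q ⊆ conjSet (Cz x) := by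
    intro y hy
    obtain ⟨p, hp, hpd, hpq⟩ := h.exists_prime_dvd_orderOf hy
    exact h.mem_conjSet_of_prime hx hy hp (by rw [ha]; exact hpq) hpd
  have heq : conjSet (Cz x) = XX G q := Set.Subset.antisymm (h.conjSet_subset hx) hsub
  obtain ⟨w, hw, -, hs⟩ := h.numbers hx (b := 1) (by rw [ha, mul_one])
  rw [heq, ha, one_mul, Nat.add_sub_cancel] at hs
  have hc := h.ncard_XX
  have hpos : 0 < q ^ 3 * (q - 1) := by
    apply Nat.mul_pos (pow_pos (by omega) _) (by omega)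
  have key : 2 * q = w * (q - 1) := by
    apply Nat.eq_of_mul_eq_mul_left hpos
    calc q ^ 3 * (q - 1) * (2 * q) = 2 * (q ^ 2 * (q - 1) * q ^ 2) := by ring
      _ = 2 * ((XX G q).ncard * w) := by rw [hs]
      _ = 2 * (XX G q).ncard * w := by ring
      _ = q ^ 3 * (q - 1) ^ 2 * w := by rw [hc]
      _ = q ^ 3 * (q - 1) * (w * (q - 1)) := by ring
  rcases hw with rfl | rfl | rfl <;> omega

/-- no three classes -/
theorem not_three {x₁ x₂ x₃ : G} (hx₁ : x₁ ∈ XX G q) (hx₂ : x₂ ∈ XX G q) (hx₃ : x₃ ∈ XX G q)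
    (h12 : Nat.Coprime (Nat.card (Cz x₁)) (Nat.card (Cz x₂)))
    (h13 : Nat.Coprime (Nat.card (Cz x₁)) (Nat.card (Cz x₃)))
    (h23 : Nat.Coprime (Nat.card (Cz x₂)) (Nat.card (Cz x₃))) : False := by
  have hq := h.q_ge
  have d12 := disjoint_of_coprime h12
  have d13 := disjoint_of_coprime h13
  have d23 := disjoint_of_coprime h23
  have hfin : ∀ s : Set G, s.Finite := fun s => Set.toFinite s
  have hd : Disjoint (conjSet (Cz x₁) ∪ conjSet (Cz x₂)) (conjSet (Cz x₃)) := by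
    rw [Set.disjoint_union_left]
    exact ⟨d13, d23⟩
  have hsub : conjSet (Cz x₁) ∪ conjSet (Cz x₂) ∪ conjSet (Cz x₃) ⊆ XX G q :=
    Set.union_subset (Set.union_subset (h.conjSet_subset hx₁) (h.conjSet_subset hx₂))
      (h.conjSet_subset hx₃)
  have hle := Set.ncard_le_ncard hsub (hfin _)
  rw [Set.ncard_union_eq hd (hfin _) (hfin _), Set.ncard_union_eq d12 (hfin _) (hfin _)] at hle
  have g1 := h.five_mul_ncard_ge hx₁
  have g2 := h.five_mul_ncard_ge hx₂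
  have g3 := h.five_mul_ncard_ge hx₃
  have hc := h.ncard_XX
  have hcard := h.card
  have h6 : 6 * Nat.card G ≤ 5 * (q ^ 3 * (q - 1) ^ 2) := by
    rw [← hc]
    omega
  rw [hcard] at h6
  have hpos : 0 < q ^ 2 * (q - 1) := Nat.mul_pos (pow_pos (by omega) _) (by omega)
  have h7 : 6 * (q ^ 2 + 1) ≤ 5 * (q * (q - 1)) := by
    apply Nat.le_of_mul_le_mul_left _ hpos
    calc q ^ 2 * (q - 1) * (6 * (q ^ 2 + 1)) = 6 * (q ^ 2 * (q - 1) * (q ^ 2 + 1)) := by ring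
      _ ≤ 5 * (q ^ 3 * (q - 1) ^ 2) := h6
      _ = q ^ 2 * (q - 1) * (5 * (q * (q - 1))) := by ring
  have h8 : q * (q - 1) ≤ q ^ 2 := by
    rw [sq]
    exact Nat.mul_le_mul_left _ (Nat.sub_le _ _)
  omega

/-- The main theorem. -/
theorem main {x₁ : G} (hx₁ : x₁ ∈ XX G q) :
    ∃ x₂ ∈ XX G q,
      Nat.card (Subgroup.normalizer ((Cz x₁ : Subgroup G) : Set G)) = 4 * Nat.card (Cz x₁) ∧
      Nat.card (Subgroup.normalizer ((Cz x₂ : Subgroup G) : Set G)) = 4 * Nat.card (Cz x₂) ∧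
      ((Nat.card (Cz x₁) = q + 2 * r + 1 ∧ Nat.card (Cz x₂) = q - 2 * r + 1) ∨
       (Nat.card (Cz x₁) = q - 2 * r + 1 ∧ Nat.card (Cz x₂) = q + 2 * r + 1)) := by
  have hq := h.q_ge
  obtain ⟨b₁, hb₁⟩ := h.card_dvd hx₁
  have hb1 : b₁ ≠ 1 := by
    rintro rfl
    rw [mul_one] at hb₁
    exact h.card_ne_sq_add_one hx₁ hb₁.symm
  obtain ⟨p₂, hp₂, hpb⟩ := Nat.exists_prime_and_dvd hb1
  have hp₂q : p₂ ∣ q ^ 2 + 1 := by
    rw [hb₁]
    exact Dvd.dvd.mul_left hpb _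
  obtain ⟨x₂, hx₂, hd₂⟩ := h.exists_of_prime hp₂ hp₂q
  have hnot₁ : ¬ p₂ ∣ Nat.card (Cz x₁) := fun hd => h.not_dvd_quot hx₁ hp₂ hd hb₁.symm hpb
  have hne : Nat.card (Cz x₂) ≠ Nat.card (Cz x₁) := by
    intro e
    rw [e] at hd₂
    exact hnot₁ hd₂
  have hcop := h.coprime_of_ne hx₁ hx₂ hne
  have hdvd : Nat.card (Cz x₁) * Nat.card (Cz x₂) ∣ q ^ 2 + 1 :=
    Nat.Coprime.mul_dvd_of_dvd_of_dvd hcop (h.card_dvd hx₁) (h.card_dvd hx₂)
  obtain ⟨c, hc⟩ := hdvd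
  have hc1 : c = 1 := by
    by_contra hc1
    obtain ⟨p₃, hp₃, hpc⟩ := Nat.exists_prime_and_dvd hc1
    have hp₃q : p₃ ∣ q ^ 2 + 1 := by
      rw [hc]
      exact Dvd.dvd.mul_left hpc _
    obtain ⟨x₃, hx₃, hd₃⟩ := h.exists_of_prime hp₃ hp₃q
    have hn1 : ¬ p₃ ∣ Nat.card (Cz x₁) := by
      intro hd
      refine h.not_dvd_quot hx₁ hp₃ hd (b := Nat.card (Cz x₂) * c) ?_ (Dvd.dvd.mul_left hpc _)
      rw [hc, mul_assoc]
    have hn2 : ¬ p₃ ∣ Nat.card (Cz x₂) := by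
      intro hd
      refine h.not_dvd_quot hx₂ hp₃ hd (b := Nat.card (Cz x₁) * c) ?_ (Dvd.dvd.mul_left hpc _)
      rw [hc]
      ring
    have hne13 : Nat.card (Cz x₃) ≠ Nat.card (Cz x₁) := by
      intro e
      rw [e] at hd₃
      exact hn1 hd₃
    have hne23 : Nat.card (Cz x₃) ≠ Nat.card (Cz x₂) := by
      intro e
      rw [e] at hd₃
      exact hn2 hd₃
    exact h.not_three hx₁ hx₂ hx₃ hcop (h.coprime_of_ne hx₁ hx₃ hne13)
      (h.coprime_of_ne hx₂ hx₃ hne23)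
  subst hc1
  rw [mul_one] at hc
  -- the two classes cover
  have hfin : ∀ s : Set G, s.Finite := fun s => Set.toFinite s
  have hcover : XX G q = conjSet (Cz x₁) ∪ conjSet (Cz x₂) := by
    apply Set.Subset.antisymm
    · intro y hy
      obtain ⟨p, hp, hpd, hpq⟩ := h.exists_prime_dvd_orderOf hy
      rw [hc] at hpq
      rcases (Nat.Prime.dvd_mul hp).1 hpq with hd | hd
      · left
        exact h.mem_conjSet_of_prime hx₁ hy hp hd hpd
      · right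
        exact h.mem_conjSet_of_prime hx₂ hy hp hd hpd
    · exact Set.union_subset (h.conjSet_subset hx₁) (h.conjSet_subset hx₂)
  have hcount := h.ncard_XX
  rw [hcover, Set.ncard_union_eq (disjoint_of_coprime hcop) (hfin _) (hfin _)] at hcount
  obtain ⟨w₁, hw₁, hn₁, hs₁⟩ := h.numbers hx₁ hc.symm
  obtain ⟨w₂, hw₂, hn₂, hs₂⟩ := h.numbers hx₂ (b := Nat.card (Cz x₁)) (by rw [hc, mul_comm])
  have ha₁ := h.five_le_card hx₁
  have ha₂ := h.five_le_card hx₂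
  set a₁ := Nat.card (Cz x₁) with ha₁def
  set a₂ := Nat.card (Cz x₂) with ha₂def
  set s₁ := (conjSet (Cz x₁)).ncard
  set s₂ := (conjSet (Cz x₂)).ncard
  have hr := h.hr
  have hqr := h.hqr
  -- cast to the integers
  have e₁ : (s₁ : ℤ) * w₁ = (q : ℤ) ^ 2 * ((q : ℤ) - 1) * ((a₂ : ℤ) * ((a₁ : ℤ) - 1)) := by
    have := congrArg (fun n : ℕ => (n : ℤ)) hs₁
    rw [Nat.cast_mul, Nat.cast_mul, Nat.cast_mul, Nat.cast_mul, Nat.cast_pow,
      Nat.cast_sub (by omega), Nat.cast_sub (by omega)] at this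
    simpa using this
  have e₂ : (s₂ : ℤ) * w₂ = (q : ℤ) ^ 2 * ((q : ℤ) - 1) * ((a₁ : ℤ) * ((a₂ : ℤ) - 1)) := by
    have := congrArg (fun n : ℕ => (n : ℤ)) hs₂
    rw [Nat.cast_mul, Nat.cast_mul, Nat.cast_mul, Nat.cast_mul, Nat.cast_pow,
      Nat.cast_sub (by omega), Nat.cast_sub (by omega)] at this
    simpa using this
  have e : 2 * ((s₁ : ℤ) + s₂) = (q : ℤ) ^ 3 * ((q : ℤ) - 1) ^ 2 := by
    have := congrArg (fun n : ℕ => (n : ℤ)) hcount
    rw [Nat.cast_mul, Nat.cast_mul, Nat.cast_add, Nat.cast_pow, Nat.cast_pow,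
      Nat.cast_sub (by omega)] at this
    simpa using this
  have hP : (a₁ : ℤ) * a₂ = (q : ℤ) ^ 2 + 1 := by
    have := congrArg (fun n : ℕ => (n : ℤ)) hc
    rw [Nat.cast_mul, Nat.cast_add, Nat.cast_pow] at this
    simpa using this.symm
  have hw₁' : (w₁ : ℤ) = 1 ∨ (w₁ : ℤ) = 2 ∨ (w₁ : ℤ) = 4 := by
    rcases hw₁ with rfl | rfl | rfl <;> simp
  have hw₂' : (w₂ : ℤ) = 1 ∨ (w₂ : ℤ) = 2 ∨ (w₂ : ℤ) = 4 := by
    rcases hw₂ with rfl | rfl | rfl <;> simp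
  obtain ⟨r1, r2, r3⟩ := arith_main (q := (q : ℤ)) (by exact_mod_cast hq)
    (by exact_mod_cast ha₁) (by exact_mod_cast ha₂) hP hw₁' hw₂' e₁ e₂ e
  have r1' : w₁ = 4 := by exact_mod_cast r1
  have r2' : w₂ = 4 := by exact_mod_cast r2
  have hqr' : (q : ℤ) = 2 * (r : ℤ) ^ 2 := by exact_mod_cast hqr
  have h2r : 2 * r ≤ q := by rw [hqr]; nlinarith
  refine ⟨x₂, hx₂, by rw [hn₁, r1'], by rw [hn₂, r2'], ?_⟩
  rcases arith_quad hqr' hP r3 with ⟨u1, u2⟩ | ⟨u1, u2⟩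
  · left
    constructor
    · have : ((q + 2 * r + 1 : ℕ) : ℤ) = a₁ := by push_cast; linarith
      exact_mod_cast this.symm
    · have : ((q - 2 * r + 1 : ℕ) : ℤ) = a₂ := by
        rw [Nat.cast_add, Nat.cast_sub h2r]; push_cast; linarith
      exact_mod_cast this.symm
  · right
    constructor
    · have : ((q - 2 * r + 1 : ℕ) : ℤ) = a₁ := by
        rw [Nat.cast_add, Nat.cast_sub h2r]; push_cast; linarith
      exact_mod_cast this.symm
    · have : ((q + 2 * r + 1 : ℕ) : ℤ) = a₂ := by push_cast; linarith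
      exact_mod_cast this.symm

theorem card_Cz {x : G} (hx : x ∈ XX G q) :
    Nat.card (Cz x) = q + 2 * r + 1 ∨ Nat.card (Cz x) = q - 2 * r + 1 := by
  obtain ⟨x₂, -, -, -, hh⟩ := h.main hx
  rcases hh with ⟨u, -⟩ | ⟨u, -⟩
  · exact Or.inl u
  · exact Or.inr u

theorem card_normalizer {x : G} (hx : x ∈ XX G q) :
    Nat.card (Subgroup.normalizer ((Cz x : Subgroup G) : Set G)) = 4 * Nat.card (Cz x) := by
  obtain ⟨x₂, -, u, -, -⟩ := h.main hx
  exact u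

theorem exists_mem_XX : ∃ x : G, x ∈ XX G q := by
  have hq := h.q_ge
  have h1 : q ^ 2 + 1 ≠ 1 := by
    have : 0 < q ^ 2 := pow_pos (by omega) _
    omega
  obtain ⟨p, hp, hpd⟩ := Nat.exists_prime_and_dvd h1
  obtain ⟨x, hx, -⟩ := h.exists_of_prime hp hpd
  exact ⟨x, hx⟩

theorem exists_card (k : ℕ) (hk : k = q + 2 * r + 1 ∨ k = q - 2 * r + 1) :
    ∃ x : G, x ∈ XX G q ∧ Nat.card (Cz x) = k := by
  obtain ⟨x₁, hx₁⟩ := h.exists_mem_XX
  obtain ⟨x₂, hx₂, -, -, hh⟩ := h.main hx₁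
  rcases hh with ⟨u1, u2⟩ | ⟨u1, u2⟩
  · rcases hk with rfl | rfl
    · exact ⟨x₁, hx₁, u1⟩
    · exact ⟨x₂, hx₂, u2⟩
  · rcases hk with rfl | rfl
    · exact ⟨x₂, hx₂, u2⟩
    · exact ⟨x₁, hx₁, u1⟩

end Ctx

end Cfsg.Agent.Helper8.SzPart
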