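import Mathlib

set_option autoImplicit false

/-!
Counting fixed-point-free elements of a doubly transitive group in which only the identity
fixes three points.
-/

namespace Cfsg.Agent.Helper8.SzPart

open MulAction

section count

variable {G Ω : Type*} [Group G] [Fintype G] [Fintype Ω] [DecidableEq Ω] [MulAction G Ω]

/-- Burnside's lemma for a transitive action. -/
theorem sum_fix_of_pretransitive (X : Type*) [Fintype X] [DecidableEq X] [MulAction G X]
    [IsPretransitive G X] [Nonempty X] :
    ∑ g : G, Fintype.card (fixedBy X g) = Fintype.card G := by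
  classical
  haveI : Unique (Quotient (orbitRel G X)) :=
    (pretransitive_iff_unique_quotient_of_nonempty (G := G) (α := X)).1 inferInstance |>.some
  have h := MulAction.sum_card_fixedBy_eq_card_orbits_mul_card_group G X
  rw [h, Fintype.card_unique, one_mul]

/-- embeddings fixed by `g` are embeddings into the fixed points -/
def fixedEmbEquiv (g : G) : fixedBy (Fin 2 ↪ Ω) g ≃ (Fin 2 ↪ fixedBy Ω g) where
  toFun e := ⟨fun i => ⟨e.1 i, by
      have h := e.2
      rw [mem_fixedBy] at h ⊢
      have := congrArg (fun f : Fin 2 ↪ Ω => f i) h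
      simpa [Function.Embedding.smul_apply] using this⟩,
    fun i j hij => e.1.injective (congrArg Subtype.val hij)⟩
  invFun f := ⟨⟨fun i => (f i).1, fun i j hij => f.injective (Subtype.ext hij)⟩, by
    rw [mem_fixedBy]
    ext i
    rw [Function.Embedding.smul_apply]
    exact (f i).2⟩
  left_inv _ := rfl
  right_inv _ := rfl

theorem card_fixed_emb (g : G) :
    Fintype.card (fixedBy (Fin 2 ↪ Ω) g) =
      Fintype.card (fixedBy Ω g) * (Fintype.card (fixedBy Ω g) - 1) := by
  rw [Fintype.card_congr (fixedEmbEquiv g), Fintype.card_embedding_eq, Fintype.card_fin]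
  simp [Nat.descFactorial]
  ring

/-- The count of fixed-point-free elements. -/
theorem card_fpf {N : ℕ} (hN : Fintype.card Ω = N + 1) (hN2 : 2 ≤ N)
    (h2 : IsMultiplyPretransitive G Ω 2)
    (h3 : ∀ g : G, ∀ a b c : Ω, a ≠ b → b ≠ c → a ≠ c → g • a = a → g • b = b → g • c = c → g = 1) :
    2 * (Finset.univ.filter (fun g : G => ∀ a : Ω, g • a ≠ a)).card + N ^ 2 =
      Fintype.card G + N := by
  classical
  haveI : IsPretransitive G (Fin 2 ↪ Ω) := h2
  haveI : IsPretransitive G Ω := MulAction.isPretransitive_of_is_two_pretransitive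
  haveI : Nonempty Ω := by
    rw [← Fintype.card_pos_iff, hN]; omega
  haveI : Nonempty (Fin 2 ↪ Ω) := by
    rw [← Fintype.card_pos_iff, Fintype.card_embedding_eq, Fintype.card_fin, hN]
    simp [Nat.descFactorial]
    omega
  set f : G → ℕ := fun g => Fintype.card (fixedBy Ω g) with hf
  have hb1 : ∑ g : G, f g = Fintype.card G := sum_fix_of_pretransitive Ω
  have hb2 : ∑ g : G, f g * (f g - 1) = Fintype.card G := by
    rw [← sum_fix_of_pretransitive (G := G) (Fin 2 ↪ Ω)]
    apply Finset.sum_congr rfl
    intro g _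
    exact (card_fixed_emb g).symm
  -- the value at the identity
  have hf1 : f 1 = N + 1 := by
    rw [hf, ← hN]
    apply Fintype.card_of_subtype
    intro a
    simp [mem_fixedBy]
  -- at most two fixed points otherwise
  have hle : ∀ g : G, g ≠ 1 → f g ≤ 2 := by
    intro g hg
    by_contra hcon
    push Not at hcon
    have h3' : 2 < Fintype.card (fixedBy Ω g) := hcon
    obtain ⟨a, b, c, hab, hac, hbc⟩ := Fintype.two_lt_card_iff.1 h3'
    apply hg
    exact h3 g a.1 b.1 c.1 (fun h => hab (Subtype.ext h)) (fun h => hbc (Subtype.ext h))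
      (fun h => hac (Subtype.ext h)) a.2 b.2 c.2
  -- fixed-point-free iff `f g = 0`
  have hfpf : ∀ g : G, (∀ a : Ω, g • a ≠ a) ↔ f g = 0 := by
    intro g
    rw [hf]
    simp only
    rw [Fintype.card_eq_zero_iff]
    constructor
    · intro h
      exact ⟨fun a => h a.1 a.2⟩
    · intro h a ha
      exact h.false ⟨a, ha⟩
  set c0 := (Finset.univ.filter (fun g : G => f g = 0)).card with hc0
  set c1 := (Finset.univ.filter (fun g : G => f g = 1)).card with hc1
  set c2 := (Finset.univ.filter (fun g : G => f g = 2)).card with hc2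
  have hfilter : (Finset.univ.filter (fun g : G => ∀ a : Ω, g • a ≠ a)) =
      Finset.univ.filter (fun g : G => f g = 0) := by
    ext g
    simp only [Finset.mem_filter, Finset.mem_univ, true_and]
    exact hfpf g
  rw [hfilter]
  -- split off the identity
  have hsplit : ∀ φ : G → ℕ, ∑ g : G, φ g = φ 1 + ∑ g ∈ Finset.univ.erase (1 : G), φ g := by
    intro φ
    rw [Finset.add_sum_erase _ _ (Finset.mem_univ _)]
  set S : Finset G := Finset.univ.erase (1 : G) with hS
  have hcount : ∀ k : ℕ, k ≤ 2 → (Finset.univ.filter (fun g : G => f g = k)).card =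
      ∑ g ∈ S, if f g = k then 1 else 0 := by
    intro k hk
    rw [Finset.card_filter, hsplit, if_neg (by rw [hf1]; omega), zero_add]
  have h0 := hcount 0 (by omega)
  have h1 := hcount 1 (by omega)
  have h2' := hcount 2 (by omega)
  have s0 : ∑ g ∈ S, (1 : ℕ) = c0 + c1 + c2 := by
    rw [hc0, hc1, hc2, h0, h1, h2', ← Finset.sum_add_distrib, ← Finset.sum_add_distrib]
    apply Finset.sum_congr rfl
    intro g hg
    have hg1 : g ≠ 1 := Finset.ne_of_mem_erase hg
    have := hle g hg1
    interval_cases f g <;> simp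
  have s1 : ∑ g ∈ S, f g = c1 + 2 * c2 := by
    rw [hc1, hc2, h1, h2', Finset.mul_sum, ← Finset.sum_add_distrib]
    apply Finset.sum_congr rfl
    intro g hg
    have hg1 : g ≠ 1 := Finset.ne_of_mem_erase hg
    have := hle g hg1
    interval_cases f g <;> simp
  have s2 : ∑ g ∈ S, f g * (f g - 1) = 2 * c2 := by
    rw [hc2, h2', Finset.mul_sum]
    apply Finset.sum_congr rfl
    intro g hg
    have hg1 : g ≠ 1 := Finset.ne_of_mem_erase hg
    have := hle g hg1
    interval_cases f g <;> simp
  have e0 : Fintype.card G = 1 + (c0 + c1 + c2) := by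
    have : Fintype.card G = ∑ g : G, 1 := by simp
    rw [this, hsplit, s0]
  have e1 : Fintype.card G = (N + 1) + (c1 + 2 * c2) := by
    rw [← hb1, hsplit, hf1, s1]
  have e2 : Fintype.card G = (N + 1) * N + 2 * c2 := by
    rw [← hb2, hsplit, hf1, s2]
    simp
  have hN2' : N ^ 2 = N * N := sq N
  have e3 : (N + 1) * N = N * N + N := by ring
  rw [e3] at e2
  rw [hN2']
  omega

end count

end Cfsg.Agent.Helper8.SzPart
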