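import Mathlib
import Cfsg.Agent.Helper8.SzPartA

set_option autoImplicit false

/-!
Doubly transitive actions of Suzuki type: fixed points of elements, and the count of the elements of
order dividing `q² + 1`.
-/

namespace Cfsg.Agent.Helper8.SzPart

open MulAction

/-- a doubly transitive action of Suzuki type -/
structure Act (G Ω : Type*) [Group G] [MulAction G Ω] (q r : ℕ) : Prop where
  hr : 2 ≤ r
  hqr : q = 2 * r ^ 2
  card : Nat.card G = q ^ 2 * (q - 1) * (q ^ 2 + 1)
  cardΩ : Nat.card Ω = q ^ 2 + 1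
  two : IsMultiplyPretransitive G Ω 2
  three : ∀ g : G, ∀ a b c : Ω, a ≠ b → b ≠ c → a ≠ c → g • a = a → g • b = b → g • c = c → g = 1

variable {G Ω : Type*} [Group G] [MulAction G Ω]

theorem fixedPoints_zpowers (g : G) : fixedPoints (Subgroup.zpowers g) Ω = fixedBy Ω g := by
  ext a
  rw [mem_fixedPoints, mem_fixedBy]
  constructor
  · intro h
    exact h ⟨g, Subgroup.mem_zpowers g⟩
  · rintro h ⟨k, j, rfl⟩
    have := mem_fixedBy_zpow (mem_fixedBy.2 h) j
    exact this

variable [Finite G] [Finite Ω] {q r : ℕ}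

theorem card_fixedBy_modEq {g : G} {s k : ℕ} [hs : Fact s.Prime] (hg : g ^ s ^ k = 1) :
    Nat.card Ω ≡ (fixedBy Ω g).ncard [MOD s] := by
  have hP : IsPGroup s (Subgroup.zpowers g) := by
    have h1 : orderOf g ∣ s ^ k := orderOf_dvd_of_pow_eq_one hg
    obtain ⟨j, -, hj⟩ := (Nat.dvd_prime_pow hs.out).1 h1
    apply IsPGroup.of_card (n := j)
    rw [Nat.card_zpowers, hj]
  have := hP.card_modEq_card_fixedPoints Ω
  rwa [fixedPoints_zpowers, Nat.card_coe_set_eq] at this

namespace Act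

variable (h : Act G Ω q r)
include h

omit [Finite G] [Finite Ω] in
theorem q_ge : 8 ≤ q := by
  have := h.hr
  rw [h.hqr]
  nlinarith

omit [Finite G] [Finite Ω] in
theorem odd_sq : ¬ 2 ∣ q ^ 2 + 1 := by
  rw [h.hqr]
  intro ⟨k, hk⟩
  have : (2 * r ^ 2) ^ 2 = 2 * (2 * r ^ 4) := by ring
  omega

omit [Finite G] [Finite Ω] in
theorem coprime : Nat.Coprime (q ^ 2 + 1) (q ^ 2 * (q - 1)) := by
  have hq := h.q_ge
  apply Nat.coprime_of_dvd
  intro p hp h1 h2
  rcases (Nat.Prime.dvd_mul hp).1 h2 with h3 | h3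
  · have := (Nat.dvd_add_right h3).1 h1
    exact hp.one_lt.ne' (Nat.dvd_one.1 this)
  · obtain ⟨t, rfl⟩ : ∃ t, q = t + 1 := ⟨q - 1, by omega⟩
    have e : (t + 1) ^ 2 + 1 = (t + 1 - 1) * (t + 2) + 2 := by
      rw [Nat.add_sub_cancel]
      ring
    rw [e] at h1
    have h4 := (Nat.dvd_add_right (Dvd.dvd.mul_right h3 _)).1 h1
    have h5 : p = 2 := (Nat.prime_dvd_prime_iff_eq hp Nat.prime_two).1 h4
    rw [← e, h5] at h1
    exact h.odd_sq h1

theorem card_stabilizer (a : Ω) : Nat.card (stabilizer G a) = q ^ 2 * (q - 1) := by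
  haveI := h.two
  haveI : IsPretransitive G Ω := MulAction.isPretransitive_of_is_two_pretransitive
  have h1 := index_stabilizer_of_transitive (G := G) (x := a)
  have h2 := Subgroup.card_mul_index (stabilizer G a)
  rw [h1, h.cardΩ, h.card] at h2
  exact Nat.eq_of_mul_eq_mul_right (Nat.succ_pos _) h2

omit [Finite G] in
theorem ncard_fixedBy_le {g : G} (hg : g ≠ 1) : (fixedBy Ω g).ncard ≤ 2 := by
  by_contra hcon
  push Not at hcon
  obtain ⟨a, ha, b, hb, c, hc, hab, hac, hbc⟩ := (Set.two_lt_ncard (Set.toFinite _)).1 hcon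
  exact hg (h.three g a b c hab hbc hac ha hb hc)

omit [Finite G] [Finite Ω] in
/-- an element of odd order commuting with `c ≠ 1` fixes the fixed points of `c` -/
theorem smul_eq_of_commute_odd {y c : G} (hc1 : c ≠ 1) (hyc : y * c = c * y)
    (hodd : Odd (orderOf y)) {a : Ω} (ha : c • a = a) : y • a = a := by
  by_contra hne
  have hb : c • (y • a) = y • a := by
    rw [← mul_smul, ← hyc, mul_smul, ha]
  have hb' : c • (y • (y • a)) = y • (y • a) := by
    rw [← mul_smul, ← hyc, mul_smul, hb]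
  have h1 : a ≠ y • a := fun e => hne e.symm
  have h2 : y • a ≠ y • (y • a) := by
    intro e
    exact h1 (smul_left_cancel y e)
  by_cases h3 : a = y • (y • a)
  · obtain ⟨k, hk⟩ := hodd
    have hy2 : y ^ 2 ∈ stabilizer G a := by
      rw [mem_stabilizer_iff, pow_two, mul_smul]
      exact h3.symm
    have hy : y = (y ^ 2) ^ (k + 1) := by
      rw [← pow_mul]
      have : 2 * (k + 1) = orderOf y + 1 := by omega
      rw [this, pow_succ, pow_orderOf_eq_one, one_mul]
    have := Subgroup.pow_mem _ hy2 (k + 1)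
    rw [← hy, mem_stabilizer_iff] at this
    exact hne this
  · exact hc1 (h.three c a (y • a) (y • (y • a)) h1 h2 h3 ha hb hb')

/-- an element commuting with a fixed-point-free element of odd order has order dividing
`q² + 1` -/
theorem pow_eq_one_of_commute_fpf {y c : G} (hy : ∀ a : Ω, y • a ≠ a) (hodd : Odd (orderOf y))
    (hc : y * c = c * y) : c ^ (q ^ 2 + 1) = 1 := by
  have hn : 0 < orderOf c := orderOf_pos c
  have hcop : Nat.Coprime (orderOf c) (q ^ 2 * (q - 1)) := by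
    apply Nat.coprime_of_dvd
    intro s hs h1 h2
    haveI : Fact s.Prime := ⟨hs⟩
    have h3 : ¬ s ∣ q ^ 2 + 1 := by
      intro h3
      have := Nat.dvd_gcd h3 h2
      rw [h.coprime] at this
      exact hs.one_lt.ne' (Nat.dvd_one.1 this)
    have ho : orderOf (c ^ (orderOf c / s)) = s := orderOf_pow_orderOf_div hn.ne' h1
    have hc1 : c ^ (orderOf c / s) ≠ 1 := by
      intro e
      rw [e, orderOf_one] at ho
      exact hs.one_lt.ne ho
    have hpow : (c ^ (orderOf c / s)) ^ s ^ 1 = 1 := by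
      rw [pow_one]
      have := pow_orderOf_eq_one (c ^ (orderOf c / s))
      rwa [ho] at this
    have hmod := card_fixedBy_modEq (Ω := Ω) hpow
    rw [h.cardΩ] at hmod
    have hne : (fixedBy Ω (c ^ (orderOf c / s))).Nonempty := by
      by_contra hemp
      rw [Set.not_nonempty_iff_eq_empty] at hemp
      rw [hemp, Set.ncard_empty] at hmod
      exact h3 ((Nat.modEq_zero_iff_dvd).1 hmod)
    obtain ⟨a, ha⟩ := hne
    have hcomm : y * c ^ (orderOf c / s) = c ^ (orderOf c / s) * y :=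
      (Commute.pow_right (show Commute y c from hc) _).eq
    exact hy a (h.smul_eq_of_commute_odd hc1 hcomm hodd ha)
  have hdvd : orderOf c ∣ q ^ 2 * (q - 1) * (q ^ 2 + 1) := by
    rw [← h.card]
    exact orderOf_dvd_natCard c
  have := Nat.Coprime.dvd_of_dvd_mul_left hcop hdvd
  exact orderOf_dvd_iff_pow_eq_one.1 this

/-- a fixed-point-free element has order dividing `q² + 1` -/
theorem pow_eq_one_of_fpf {g : G} (hg : ∀ a : Ω, g • a ≠ a) : g ^ (q ^ 2 + 1) = 1 := by
  have hodd : Odd (orderOf g) := by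
    rw [← Nat.not_even_iff_odd]
    intro hev
    have h1 : 2 ∣ orderOf g := even_iff_two_dvd.1 hev
    haveI : Fact (Nat.Prime 2) := ⟨Nat.prime_two⟩
    have hn : 0 < orderOf g := orderOf_pos g
    have ho : orderOf (g ^ (orderOf g / 2)) = 2 := orderOf_pow_orderOf_div hn.ne' h1
    have hc1 : g ^ (orderOf g / 2) ≠ 1 := by
      intro e
      rw [e, orderOf_one] at ho
      omega
    have hpow : (g ^ (orderOf g / 2)) ^ 2 ^ 1 = 1 := by
      rw [pow_one]
      have := pow_orderOf_eq_one (g ^ (orderOf g / 2))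
      rwa [ho] at this
    have hmod := card_fixedBy_modEq (Ω := Ω) hpow
    rw [h.cardΩ] at hmod
    have hle := h.ncard_fixedBy_le (Ω := Ω) hc1
    have hodd' : (fixedBy Ω (g ^ (orderOf g / 2))).ncard % 2 = 1 := by
      have h2 := h.odd_sq
      have : (q ^ 2 + 1) % 2 = (fixedBy Ω (g ^ (orderOf g / 2))).ncard % 2 := hmod
      omega
    have hone : (fixedBy Ω (g ^ (orderOf g / 2))).ncard = 1 := by omega
    obtain ⟨a, ha⟩ := Set.ncard_eq_one.1 hone
    have haf : a ∈ fixedBy Ω (g ^ (orderOf g / 2)) := by rw [ha]; exact Set.mem_singleton a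
    have hga : g • a ∈ fixedBy Ω (g ^ (orderOf g / 2)) := by
      rw [mem_fixedBy] at haf ⊢
      rw [← mul_smul, ← pow_succ, pow_succ', mul_smul, haf]
    rw [ha, Set.mem_singleton_iff] at hga
    exact hg a hga
  exact h.pow_eq_one_of_commute_fpf hg hodd rfl

theorem fpf_of_pow {g : G} (hg1 : g ≠ 1) (hg : g ^ (q ^ 2 + 1) = 1) (a : Ω) : g • a ≠ a := by
  intro hfix
  apply hg1
  have h1 : orderOf g ∣ q ^ 2 + 1 := orderOf_dvd_of_pow_eq_one hg
  have h2 : orderOf g ∣ q ^ 2 * (q - 1) := by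
    rw [← h.card_stabilizer a]
    have := orderOf_dvd_natCard (⟨g, mem_stabilizer_iff.2 hfix⟩ : stabilizer G a)
    rwa [← Subgroup.orderOf_coe] at this
  have := Nat.dvd_gcd h1 h2
  rw [h.coprime] at this
  exact orderOf_eq_one_iff.1 (Nat.dvd_one.1 this)

theorem odd_orderOf_of_pow {g : G} (hg : g ^ (q ^ 2 + 1) = 1) : Odd (orderOf g) := by
  rw [← Nat.not_even_iff_odd]
  intro hev
  have h1 : 2 ∣ orderOf g := even_iff_two_dvd.1 hev
  exact h.odd_sq (h1.trans (orderOf_dvd_of_pow_eq_one hg))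

/-- closure of the centralizer -/
theorem clo {x c : G} (hx1 : x ≠ 1) (hx : x ^ (q ^ 2 + 1) = 1) (hc : c * x = x * c) :
    c ^ (q ^ 2 + 1) = 1 :=
  h.pow_eq_one_of_commute_fpf (h.fpf_of_pow hx1 hx) (h.odd_orderOf_of_pow hx) hc.symm

/-- the count -/
theorem count : 2 * Nat.card {g : G // g ≠ 1 ∧ g ^ (q ^ 2 + 1) = 1} = q ^ 3 * (q - 1) ^ 2 := by
  classical
  haveI := Fintype.ofFinite G
  haveI := Fintype.ofFinite Ω
  have hq := h.q_ge
  have hN : Fintype.card Ω = q ^ 2 + 1 := by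
    rw [← Nat.card_eq_fintype_card, h.cardΩ]
  have hN2 : 2 ≤ q ^ 2 := by nlinarith
  have h1 := card_fpf hN hN2 h.two h.three
  have h2 : Nat.card {g : G // g ≠ 1 ∧ g ^ (q ^ 2 + 1) = 1} =
      (Finset.univ.filter (fun g : G => ∀ a : Ω, g • a ≠ a)).card := by
    rw [← Fintype.card_subtype, ← Nat.card_eq_fintype_card]
    apply Nat.card_congr
    apply Equiv.subtypeEquivRight
    intro g
    constructor
    · rintro ⟨hg1, hg⟩
      exact h.fpf_of_pow hg1 hg
    · intro hg
      refine ⟨?_, h.pow_eq_one_of_fpf hg⟩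
      rintro rfl
      haveI : Nonempty Ω := by
        rw [← Fintype.card_pos_iff, hN]
        omega
      obtain ⟨a⟩ := ‹Nonempty Ω›
      exact hg a (one_smul _ a)
  rw [h2]
  rw [← Nat.card_eq_fintype_card, h.card] at h1
  obtain ⟨t, rfl⟩ : ∃ t, q = t + 1 := ⟨q - 1, by omega⟩
  rw [Nat.add_sub_cancel] at h1 ⊢
  have e1 : (t + 1) ^ 2 * t * ((t + 1) ^ 2 + 1) + (t + 1) ^ 2 =
      (t + 1) ^ 3 * t ^ 2 + ((t + 1) ^ 2) ^ 2 := by ring
  omega

end Act

end Cfsg.Agent.Helper8.SzPart
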