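import Mathlib
import Cfsg.Agent.Helper7.IrredPrime

set_option autoImplicit false

/-!
The commutant of an irreducible element of prime power order in `GL₄(q)` is a field of degree `4`;
a finite group normalizing it induces at most `4` automorphisms.
-/

namespace Cfsg.Agent.Helper8.SzPart

open Matrix Polynomial Cfsg.Agent.Helper7.IrredPrime

variable {F : Type*} [Field F] [Fintype F] {x : Matrix (Fin 4) (Fin 4) F} {p : ℕ}

/-- the commutant -/
abbrev KK (x : Matrix (Fin 4) (Fin 4) F) : Subalgebra F (Matrix (Fin 4) (Fin 4) F) :=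
  Algebra.adjoin F ({x} : Set (Matrix (Fin 4) (Fin 4) F))

theorem mem_KK_iff (h : Hyp x p) {c : Matrix (Fin 4) (Fin 4) F} : c ∈ KK x ↔ c * x = x * c := by
  constructor
  · intro hc
    have h1 := Algebra.adjoin_le_centralizer_centralizer F ({x} : Set (Matrix (Fin 4) (Fin 4) F)) hc
    rw [Subalgebra.mem_centralizer_iff] at h1
    have h2 : x ∈ Subalgebra.centralizer F ({x} : Set (Matrix (Fin 4) (Fin 4) F)) := by
      rw [Subalgebra.mem_centralizer_iff]
      intro g hg
      rw [Set.mem_singleton_iff] at hg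
      rw [hg]
    exact (h1 x h2).symm
  · intro hc
    obtain ⟨f, rfl⟩ := h.commutant hc
    exact aeval_mem_adjoin_singleton _ _

theorem KK_comm (h : Hyp x p) (a b : KK x) : a * b = b * a :=
  Subtype.ext (h.commute ((mem_KK_iff h).1 a.2) ((mem_KK_iff h).1 b.2))

theorem KK_eq_zero (h : Hyp x p) {a d : KK x} (ha : a ≠ 0) (had : a * d = 0) : d = 0 := by
  have ha0 : (a : Matrix (Fin 4) (Fin 4) F) ≠ 0 := fun e => ha (Subtype.ext e)
  apply Subtype.ext
  apply Matrix.toLin'.injective
  apply LinearMap.ext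
  intro v
  have had' : (a : Matrix (Fin 4) (Fin 4) F) * d = 0 := congrArg Subtype.val had
  have : (a : Matrix (Fin 4) (Fin 4) F) *ᵥ ((d : Matrix (Fin 4) (Fin 4) F) *ᵥ v) = 0 := by
    rw [Matrix.mulVec_mulVec, had', Matrix.zero_mulVec]
  have := h.mulVec_injective ((mem_KK_iff h).1 a.2) ha0 this
  rw [Matrix.toLin'_apply, this]
  simp

theorem KK_isField (h : Hyp x p) : IsField (KK x) := by
  refine ⟨⟨0, 1, ?_⟩, fun a b => KK_comm h a b, ?_⟩
  · intro e
    have := congrArg Subtype.val e
    exact zero_ne_one this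
  · intro a ha
    have hinj : Function.Injective (fun b : KK x => a * b) := by
      intro b b' hb
      have h1 : a * (b - b') = 0 := by
        rw [mul_sub]
        exact sub_eq_zero.2 hb
      exact sub_eq_zero.1 (KK_eq_zero h ha h1)
    obtain ⟨b, hb⟩ := Finite.surjective_of_injective hinj 1
    exact ⟨b, hb⟩

/-- evaluation at a vector is a linear equivalence -/
theorem KK_finrank (h : Hyp x p) : Module.finrank F (KK x) = 4 := by
  let v₀ : Fin 4 → F := Pi.single 0 1
  have hv₀ : v₀ ≠ 0 := by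
    intro e
    have := congrFun e 0
    simp [v₀] at this
  let φ : KK x →ₗ[F] (Fin 4 → F) :=
    { toFun := fun c => (c : Matrix (Fin 4) (Fin 4) F) *ᵥ v₀
      map_add' := fun a b => by
        show ((a + b : KK x) : Matrix (Fin 4) (Fin 4) F) *ᵥ v₀ = _
        rw [Subalgebra.coe_add, Matrix.add_mulVec]
      map_smul' := fun r a => by
        show ((r • a : KK x) : Matrix (Fin 4) (Fin 4) F) *ᵥ v₀ = _
        rw [Subalgebra.coe_smul, Matrix.smul_mulVec]
        rfl }
  have hφ : ∀ c : KK x, φ c = (c : Matrix (Fin 4) (Fin 4) F) *ᵥ v₀ := fun _ => rfl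
  have hinj : Function.Injective φ := by
    rw [← LinearMap.ker_eq_bot, LinearMap.ker_eq_bot']
    intro c hc
    rw [hφ] at hc
    by_contra hc0
    have hc0' : (c : Matrix (Fin 4) (Fin 4) F) ≠ 0 := fun e => hc0 (Subtype.ext e)
    exact hv₀ (h.mulVec_injective ((mem_KK_iff h).1 c.2) hc0' hc)
  have hsurj : Function.Surjective φ := by
    intro w
    obtain ⟨f, hf⟩ := h.exists_poly hv₀ w
    exact ⟨⟨aeval x f, aeval_mem_adjoin_singleton _ _⟩, hf.symm⟩
  have e := LinearEquiv.ofBijective φ ⟨hinj, hsurj⟩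
  rw [e.finrank_eq, Module.finrank_fin_fun]

/-- the automorphism group of the commutant has order `4` -/
theorem card_aut (h : Hyp x p) : Nat.card (KK x ≃ₐ[F] KK x) = 4 := by
  letI : Field (KK x) := (KK_isField h).toField
  haveI : FiniteDimensional F (KK x) := inferInstance
  have := IsGalois.card_aut_eq_finrank F (KK x)
  rw [KK_finrank h] at this
  exact this

theorem conj_comm (h : Hyp x p) {M N c : Matrix (Fin 4) (Fin 4) F} (hMN : M * N = 1)
    (hx : (N * x * M) * x = x * (N * x * M)) (hc : c * x = x * c) :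
    (M * c * N) * x = x * (M * c * N) := by
  have h1 : c * (N * x * M) = (N * x * M) * c := h.commute hc hx
  have e1 : M * (c * (N * x * M)) * N = M * c * N * x * (M * N) := by
    simp only [Matrix.mul_assoc]
  have e2 : M * ((N * x * M) * c) * N = (M * N) * x * (M * c * N) := by
    simp only [Matrix.mul_assoc]
  rw [hMN, mul_one] at e1
  rw [hMN, one_mul] at e2
  rw [← e1, h1, e2]

/-- conjugation on the commutant -/
noncomputable def conjEquiv (h : Hyp x p) (M N : Matrix (Fin 4) (Fin 4) F) (hMN : M * N = 1)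
    (hNM : N * M = 1) (hx : (N * x * M) * x = x * (N * x * M))
    (hx' : (M * x * N) * x = x * (M * x * N)) : KK x ≃ₐ[F] KK x where
  toFun c := ⟨M * c.1 * N, (mem_KK_iff h).2 (conj_comm h hMN hx ((mem_KK_iff h).1 c.2))⟩
  invFun c := ⟨N * c.1 * M, (mem_KK_iff h).2 (conj_comm h hNM hx' ((mem_KK_iff h).1 c.2))⟩
  left_inv c := by
    apply Subtype.ext
    show N * (M * c.1 * N) * M = c.1
    have : N * (M * c.1 * N) * M = (N * M) * c.1 * (N * M) := by simp only [Matrix.mul_assoc]
    rw [this, hNM, one_mul, mul_one]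
  right_inv c := by
    apply Subtype.ext
    show M * (N * c.1 * M) * N = c.1
    have : M * (N * c.1 * M) * N = (M * N) * c.1 * (M * N) := by simp only [Matrix.mul_assoc]
    rw [this, hMN, one_mul, mul_one]
  map_mul' a b := by
    apply Subtype.ext
    show M * (a.1 * b.1) * N = (M * a.1 * N) * (M * b.1 * N)
    have : (M * a.1 * N) * (M * b.1 * N) = M * a.1 * (N * M) * b.1 * N := by
      simp only [Matrix.mul_assoc]
    rw [this, hNM, mul_one]
    simp only [Matrix.mul_assoc]
  map_add' a b := by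
    apply Subtype.ext
    show M * (a.1 + b.1) * N = (M * a.1 * N) + (M * b.1 * N)
    rw [mul_add, add_mul]
  commutes' r := by
    apply Subtype.ext
    show M * (algebraMap F (Matrix (Fin 4) (Fin 4) F) r) * N =
      algebraMap F (Matrix (Fin 4) (Fin 4) F) r
    rw [← Algebra.commutes, mul_assoc, hMN, mul_one]

theorem conjEquiv_apply (h : Hyp x p) (M N : Matrix (Fin 4) (Fin 4) F) (hMN : M * N = 1)
    (hNM : N * M = 1) (hx : (N * x * M) * x = x * (N * x * M))
    (hx' : (M * x * N) * x = x * (M * x * N)) (c : KK x) :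
    ((conjEquiv h M N hMN hNM hx hx' c : KK x) : Matrix (Fin 4) (Fin 4) F) = M * c.1 * N := rfl

/-- A finite group normalizing the commutant induces at most four automorphisms. -/
theorem card_dvd_four (h : Hyp x p) {N : Type*} [Group N] [Finite N]
    (ψ : N →* Matrix (Fin 4) (Fin 4) F)
    (hN : ∀ n : N, (ψ n * x * ψ n⁻¹) * x = x * (ψ n * x * ψ n⁻¹))
    (C : Subgroup N) (hC : ∀ n, n ∈ C ↔ ψ n * x = x * ψ n) : Nat.card N ∣ 4 * Nat.card C := by
  have hMN : ∀ n : N, ψ n * ψ n⁻¹ = 1 := fun n => by rw [← map_mul, mul_inv_cancel, map_one]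
  have hNM : ∀ n : N, ψ n⁻¹ * ψ n = 1 := fun n => by rw [← map_mul, inv_mul_cancel, map_one]
  have hN' : ∀ n : N, (ψ n⁻¹ * x * ψ n) * x = x * (ψ n⁻¹ * x * ψ n) := fun n => by
    have := hN n⁻¹
    rwa [inv_inv] at this
  let φ : N →* (KK x ≃ₐ[F] KK x) :=
    { toFun := fun n => conjEquiv h (ψ n) (ψ n⁻¹) (hMN n) (hNM n) (hN' n) (hN n)
      map_one' := by
        apply AlgEquiv.ext
        intro c
        apply Subtype.ext
        rw [conjEquiv_apply]
        simp
      map_mul' := fun n n' => by
        apply AlgEquiv.ext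
        intro c
        apply Subtype.ext
        rw [AlgEquiv.mul_apply, conjEquiv_apply, conjEquiv_apply, conjEquiv_apply,
          _root_.mul_inv_rev, map_mul, map_mul]
        simp only [Matrix.mul_assoc] }
  have hφ : ∀ (n : N) (c : KK x), ((φ n c : KK x) : Matrix (Fin 4) (Fin 4) F) =
      ψ n * c.1 * ψ n⁻¹ := fun _ _ => rfl
  have hker : φ.ker = C := by
    ext n
    rw [MonoidHom.mem_ker, hC]
    constructor
    · intro e
      have h1 := hφ n ⟨x, Algebra.subset_adjoin rfl⟩
      rw [e] at h1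
      have h2 : x = ψ n * x * ψ n⁻¹ := h1
      calc ψ n * x = ψ n * x * (ψ n⁻¹ * ψ n) := by rw [hNM, mul_one]
        _ = (ψ n * x * ψ n⁻¹) * ψ n := by simp only [Matrix.mul_assoc]
        _ = x * ψ n := by rw [← h2]
    · intro e
      apply AlgEquiv.ext
      intro c
      apply Subtype.ext
      rw [hφ]
      have := h.commute e ((mem_KK_iff h).1 c.2)
      rw [this, mul_assoc, hMN, mul_one]
      rfl
  have h1 := Subgroup.card_mul_index φ.ker
  rw [Subgroup.index_ker, hker] at h1
  have h2 : Nat.card φ.range ∣ 4 := by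
    have := Subgroup.card_subgroup_dvd_card φ.range
    rwa [card_aut h] at this
  rw [← h1, mul_comm 4]
  exact Nat.mul_dvd_mul_left _ h2

end Cfsg.Agent.Helper8.SzPart
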