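import Mathlib
import Cfsg.Agent.S0331
import Cfsg.Agent.Helper7.SzSetup
import Cfsg.Agent.Helper8.SzPartE
import Cfsg.Agent.Helper8.SzPartF
import Cfsg.Agent.Helper8.SzPartG

set_option autoImplicit false

/-!
The Suzuki group (as the stabilizer of the ovoid) is a group of Suzuki type in the sense of `Ctx`.
-/

namespace Cfsg.Agent.Helper8.SzPart

open Cfsg.Agent.Helper7.Sz Cfsg.Agent.Helper7 MulAction

variable {F : Type*} [Field F] [Fintype F] {m : ℕ}

instance finiteOvoid : Finite ↥(Cfsg.suzukiOvoid F m) := (ovoid_finite m).to_subtype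

/-- the action on the ovoid is of Suzuki type -/
theorem act (h : FH F m) :
    Act (Cfsg.Sz F m) (Cfsg.suzukiOvoid F m) (2 ^ (2 * m + 1)) (2 ^ m) where
  hr := by
    have := h.hm
    calc 2 = 2 ^ 1 := rfl
      _ ≤ 2 ^ m := Nat.pow_le_pow_right (by norm_num) this
  hqr := by ring
  card := by
    rw [card_Sz h, h.card]
    ring
  cardΩ := by rw [Cfsg.Agent.S0326.result m, h.card]
  two := (isZassenhaus h).2.1
  three := (isZassenhaus h).2.2.1

/-- the matrix of an element -/
def mat : Cfsg.Sz F m →* Matrix (Fin 4) (Fin 4) F where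
  toFun y := (y : Matrix.SpecialLinearGroup (Fin 4) F).1
  map_one' := rfl
  map_mul' _ _ := rfl

omit [Fintype F] in
theorem mat_injective : Function.Injective (mat (F := F) (m := m)) := by
  intro a b hab
  apply Subtype.ext
  apply Subtype.ext
  exact hab

/-- a power of prime order satisfying the irreducibility hypotheses -/
theorem exists_hyp (h : FH F m) {x : Cfsg.Sz F m} (hx1 : x ≠ 1)
    (hx : x ^ ((2 ^ (2 * m + 1)) ^ 2 + 1) = 1) :
    ∃ p k : ℕ, IrredPrime.Hyp (mat (x ^ k)) p := by
  have h1 : orderOf x ≠ 1 := fun e => hx1 (orderOf_eq_one_iff.1 e)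
  obtain ⟨p, hp, hpd⟩ := Nat.exists_prime_and_dvd h1
  have hn : 0 < orderOf x := orderOf_pos x
  have ho : orderOf (x ^ (orderOf x / p)) = p := orderOf_pow_orderOf_div hn.ne' hpd
  have hdq : p ∣ (2 ^ (2 * m + 1)) ^ 2 + 1 := hpd.trans (orderOf_dvd_of_pow_eq_one hx)
  refine ⟨p, orderOf x / p, hp, ?_, ?_, ⟨1, ?_⟩, ?_⟩
  · rintro rfl
    exact (act h).odd_sq hdq
  · rw [h.card]
    exact hdq
  · rw [pow_one, ← map_pow]
    have := pow_orderOf_eq_one (x ^ (orderOf x / p))
    rw [ho] at this
    rw [this, map_one]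
  · intro e
    have e1 : x ^ (orderOf x / p) = 1 := mat_injective (by rw [e, map_one])
    rw [e1, orderOf_one] at ho
    exact hp.one_lt.ne ho

/-- the Suzuki group is a group of Suzuki type -/
theorem ctx (h : FH F m) : Ctx (Cfsg.Sz F m) (2 ^ (2 * m + 1)) (2 ^ m) where
  hr := (act h).hr
  hqr := (act h).hqr
  card := (act h).card
  count := (act h).count
  clo := fun x hx1 hx c hc => (act h).clo hx1 hx (mem_Cz.1 hc)
  syl := fun p hp hp2 P => by
    haveI : Fact p.Prime := ⟨hp⟩
    exact Cfsg.Agent.S0331.result h.hm h.card hp2 P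
  cyc := fun x hx1 hx => by
    obtain ⟨p, k, hyp⟩ := exists_hyp h hx1 hx
    apply hyp.isCyclic (mat.comp (Subgroup.subtype (Cz x)))
    · exact mat_injective.comp Subtype.val_injective
    · intro y
      show mat (y : Cfsg.Sz F m) * mat (x ^ k) = mat (x ^ k) * mat (y : Cfsg.Sz F m)
      rw [← map_mul, ← map_mul]
      congr 1
      have : Commute (y : Cfsg.Sz F m) x := mem_Cz.1 y.2
      exact (this.pow_right k).eq
  nor := fun x hx1 hx => by
    obtain ⟨p, k, hyp⟩ := exists_hyp h hx1 hx
    -- commuting with the power is commuting with `x`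
    have hiff : ∀ n : Cfsg.Sz F m, n ∈ Cz x ↔ mat n * mat (x ^ k) = mat (x ^ k) * mat n := by
      intro n
      constructor
      · intro hn
        rw [← map_mul, ← map_mul]
        congr 1
        have : Commute n x := mem_Cz.1 hn
        exact (this.pow_right k).eq
      · intro hn
        have hxx : mat x * mat (x ^ k) = mat (x ^ k) * mat x := by
          rw [← map_mul, ← map_mul]
          congr 1
          exact ((Commute.refl x).pow_right k).eq
        have := hyp.commute hn hxx
        rw [← map_mul, ← map_mul] at this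
        exact mem_Cz.2 (mat_injective this)
    set N := Subgroup.normalizer ((Cz x : Subgroup (Cfsg.Sz F m)) : Set (Cfsg.Sz F m)) with hN
    have hle : Cz x ≤ N := Subgroup.le_normalizer
    have key := card_dvd_four hyp (mat.comp (Subgroup.subtype N)) ?_ ((Cz x).subgroupOf N) ?_
    · rwa [Nat.card_congr (Subgroup.subgroupOfEquivOfLe hle).toEquiv] at key
    · intro n
      show (mat (n : Cfsg.Sz F m) * mat (x ^ k) * mat ((n⁻¹ : N) : Cfsg.Sz F m)) * mat (x ^ k) =
        mat (x ^ k) * (mat (n : Cfsg.Sz F m) * mat (x ^ k) * mat ((n⁻¹ : N) : Cfsg.Sz F m))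
      rw [← map_mul, ← map_mul]
      have hmem : (n : Cfsg.Sz F m) * x ^ k * ((n⁻¹ : N) : Cfsg.Sz F m) ∈ Cz x := by
        have hxk : x ^ k ∈ Cz x := Subgroup.pow_mem _ (self_mem_Cz x) k
        have := (Subgroup.mem_normalizer_iff.1 n.2 (x ^ k)).1 hxk
        simpa using this
      exact (hiff _).1 hmem
    · intro n
      rw [Subgroup.mem_subgroupOf]
      exact hiff n

end Cfsg.Agent.Helper8.SzPart
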