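import Mathlib
import Cfsg.Agent.Helper8.SzPartF

set_option autoImplicit false

/-!
More on fixed points in actions of Suzuki type: `2`-elements have a unique fixed point, elements of
order divisible by a prime dividing `q - 1` that fix a point fix exactly two.
-/

namespace Cfsg.Agent.Helper8.SzPart

open MulAction

variable {G Ω : Type*} [Group G] [MulAction G Ω] [Finite G] [Finite Ω] {q r : ℕ}

namespace Act

variable (h : Act G Ω q r)
include h

/-- a non-identity `2`-element has exactly one fixed point -/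
theorem exists_unique_fixed_of_two_elt {g : G} (hg1 : g ≠ 1) {k : ℕ} (hg : g ^ 2 ^ k = 1) :
    ∃ a : Ω, g • a = a ∧ ∀ b : Ω, g • b = b → b = a := by
  haveI : Fact (Nat.Prime 2) := ⟨Nat.prime_two⟩
  have hmod := card_fixedBy_modEq (Ω := Ω) hg
  rw [h.cardΩ] at hmod
  have hle := h.ncard_fixedBy_le (Ω := Ω) hg1
  have hodd' : (fixedBy Ω g).ncard % 2 = 1 := by
    have h2 := h.odd_sq
    have : (q ^ 2 + 1) % 2 = (fixedBy Ω g).ncard % 2 := hmod
    omega
  have hone : (fixedBy Ω g).ncard = 1 := by omega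
  obtain ⟨a, ha⟩ := Set.ncard_eq_one.1 hone
  refine ⟨a, ?_, ?_⟩
  · have : a ∈ fixedBy Ω g := by rw [ha]; exact Set.mem_singleton a
    exact this
  · intro b hb
    have : b ∈ fixedBy Ω g := hb
    rw [ha, Set.mem_singleton_iff] at this
    exact this

/-- an element fixing a point whose order is divisible by a prime dividing `q - 1` fixes a second
point -/
theorem exists_two_fixed {g : G} {s : ℕ} (hs : s.Prime) (hsn : s ∣ orderOf g) (hsq : s ∣ q - 1)
    {a : Ω} (ha : g • a = a) : ∃ b : Ω, b ≠ a ∧ g • b = b := by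
  haveI : Fact s.Prime := ⟨hs⟩
  have hq := h.q_ge
  have hn : 0 < orderOf g := orderOf_pos g
  have ho : orderOf (g ^ (orderOf g / s)) = s := orderOf_pow_orderOf_div hn.ne' hsn
  have hc1 : g ^ (orderOf g / s) ≠ 1 := by
    intro e
    rw [e, orderOf_one] at ho
    exact hs.one_lt.ne ho
  have hpow : (g ^ (orderOf g / s)) ^ s ^ 1 = 1 := by
    rw [pow_one]
    have := pow_orderOf_eq_one (g ^ (orderOf g / s))
    rwa [ho] at this
  have hmod := card_fixedBy_modEq (Ω := Ω) hpow
  rw [h.cardΩ] at hmod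
  have hle := h.ncard_fixedBy_le (Ω := Ω) hc1
  have hs2 : s ≠ 2 := by
    rintro rfl
    obtain ⟨t, ht⟩ := hsq
    have := h.hqr
    set R := r ^ 2
    omega
  have hs3 : 3 ≤ s := by
    have := hs.two_le
    omega
  have hmod2 : (q ^ 2 + 1) % s = 2 := by
    obtain ⟨t, ht⟩ := hsq
    have hqt : q = s * t + 1 := by omega
    have e : q ^ 2 + 1 = 2 + s * (s * t * t + 2 * t) := by
      rw [hqt]
      ring
    rw [e, Nat.add_mul_mod_self_left]
    exact Nat.mod_eq_of_lt (by omega)
  have htwo : (fixedBy Ω (g ^ (orderOf g / s))).ncard = 2 := by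
    have e1 : (q ^ 2 + 1) % s = (fixedBy Ω (g ^ (orderOf g / s))).ncard % s := hmod
    rw [hmod2, Nat.mod_eq_of_lt (by omega)] at e1
    exact e1.symm
  obtain ⟨x, y, hxy, hfix⟩ := Set.ncard_eq_two.1 htwo
  have hca : a ∈ fixedBy Ω (g ^ (orderOf g / s)) := by
    have : g ^ (orderOf g / s) ∈ stabilizer G a :=
      Subgroup.pow_mem _ (mem_stabilizer_iff.2 ha) _
    exact mem_stabilizer_iff.1 this
  have hcomm : ∀ b : Ω, b ∈ fixedBy Ω (g ^ (orderOf g / s)) →
      g • b ∈ fixedBy Ω (g ^ (orderOf g / s)) := by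
    intro b hb
    rw [mem_fixedBy] at hb ⊢
    rw [← mul_smul, ← pow_succ, pow_succ', mul_smul, hb]
  have key : ∀ b : Ω, b ≠ a → fixedBy Ω (g ^ (orderOf g / s)) = {a, b} → g • b = b := by
    intro b hba hset
    have hb : b ∈ fixedBy Ω (g ^ (orderOf g / s)) := by
      rw [hset]
      exact Set.mem_insert_of_mem _ rfl
    have := hcomm b hb
    rw [hset] at this
    rcases this with e | e
    · exfalso
      apply hba
      rw [← ha] at e
      exact smul_left_cancel g e
    · exact e
  rw [hfix] at hca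
  rcases hca with e | e
  · subst e
    exact ⟨y, hxy.symm, key y hxy.symm hfix⟩
  · rw [Set.mem_singleton_iff] at e
    subst e
    refine ⟨x, hxy, key x hxy ?_⟩
    rw [hfix, Set.pair_comm]

end Act

end Cfsg.Agent.Helper8.SzPart
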