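import Mathlib
import Cfsg.Agent.Helper8.SzPartH
import Cfsg.Agent.Helper8.SzPartI

set_option autoImplicit false

/-!
Concrete facts about the Suzuki group on its ovoid: two-point stabilizers are cyclic of order
`q - 1`; Sylow `2`-subgroups are determined by the fixed point of any of their non-identity elements.
-/

namespace Cfsg.Agent.Helper8.SzPart

open Cfsg.Agent.Helper7.Sz Cfsg.Agent.Helper7 MulAction

variable {F : Type*} [Field F] [Fintype F] {m : ℕ}

theorem stabilizer_val (ω : Cfsg.suzukiOvoid F m) :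
    stabilizer (Cfsg.Sz F m) ω =
      stabilizer (Cfsg.Sz F m) (ω : Projectivization F (Fin 4 → F)) := by
  ext g
  rw [mem_stabilizer_iff, mem_stabilizer_iff, Subtype.ext_iff, smul_val]
  rfl

/-- the point zero, as a point of the ovoid -/
def ω0 (m : ℕ) : Cfsg.suzukiOvoid F m := ⟨Ppt m 0 0, Ppt_mem m 0 0⟩

omit [Fintype F] in
theorem ω0_ne : (ω0 m : Cfsg.suzukiOvoid F m) ≠ ωinf m := by
  intro e
  exact Ppt_ne_Pinf m (0 : F) 0 (congrArg Subtype.val e)

/-- the two-point stabilizer -/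
def twoStab (a b : Cfsg.suzukiOvoid F m) : Subgroup (Cfsg.Sz F m) :=
  stabilizer (Cfsg.Sz F m) a ⊓ stabilizer (Cfsg.Sz F m) b

omit [Fintype F] in
theorem mem_twoStab {a b : Cfsg.suzukiOvoid F m} {g : Cfsg.Sz F m} :
    g ∈ twoStab a b ↔ g • a = a ∧ g • b = b := by
  unfold twoStab
  rw [Subgroup.mem_inf, mem_stabilizer_iff, mem_stabilizer_iff]

theorem twoStab_std :
    twoStab (ωinf m : Cfsg.suzukiOvoid F m) (ω0 m) =
      stabilizer (Cfsg.Sz F m) (Cfsg.suzukiPointInfinity F) ⊓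
        stabilizer (Cfsg.Sz F m) (Cfsg.suzukiPointZero F) := by
  unfold twoStab
  rw [stabilizer_val, stabilizer_val]
  have e1 : ((ωinf m : Cfsg.suzukiOvoid F m) : Projectivization F (Fin 4 → F)) =
      Cfsg.suzukiPointInfinity F := Pinf_eq
  have e2 : ((ω0 m : Cfsg.suzukiOvoid F m) : Projectivization F (Fin 4 → F)) =
      Cfsg.suzukiPointZero F := Ppt_zero_eq m
  rw [e1, e2]

theorem twoStab_std_cyclic (h : FH F m) :
    IsCyclic (twoStab (ωinf m : Cfsg.suzukiOvoid F m) (ω0 m)) ∧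
      Nat.card (twoStab (ωinf m : Cfsg.suzukiOvoid F m) (ω0 m)) = 2 ^ (2 * m + 1) - 1 := by
  rw [twoStab_std]
  constructor
  · exact isCyclic_of_surjective (twoPointHom h) (twoPointHom_bijective h).2
  · rw [← Nat.card_eq_of_bijective _ (twoPointHom_bijective h), Nat.card_units,
      Nat.card_eq_fintype_card, h.card]

theorem twoStab_cyclic (h : FH F m) {a b : Cfsg.suzukiOvoid F m} (hab : a ≠ b) :
    IsCyclic (twoStab a b) ∧ Nat.card (twoStab a b) = 2 ^ (2 * m + 1) - 1 := by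
  have h2 := (act h).two
  obtain ⟨k, hk1, hk2⟩ := (MulAction.is_two_pretransitive_iff.1 h2) (ω0_ne (F := F) (m := m)).symm hab
  have hinj : Function.Injective (MulAut.conj k).toMonoidHom := (MulAut.conj k).injective
  have e : twoStab a b =
      (twoStab (ωinf m : Cfsg.suzukiOvoid F m) (ω0 m)).map (MulAut.conj k).toMonoidHom := by
    unfold twoStab
    rw [Subgroup.map_inf _ _ _ hinj, ← stabilizer_smul_eq_stabilizer_map_conj,
      ← stabilizer_smul_eq_stabilizer_map_conj, hk1, hk2]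
  obtain ⟨c1, c2⟩ := twoStab_std_cyclic h
  rw [e]
  let ε := Subgroup.equivMapOfInjective (twoStab (ωinf m : Cfsg.suzukiOvoid F m) (ω0 m))
    (MulAut.conj k).toMonoidHom hinj
  constructor
  · haveI := c1
    exact isCyclic_of_surjective ε ε.surjective
  · rw [← Nat.card_congr ε.toEquiv, c2]

/-- the `(0,0)` entry of a power -/
theorem pow_entry {Y : Matrix (Fin 4) (Fin 4) F} (hY : ∀ k : Fin 4, k ≠ 0 → Y k 0 = 0) (n : ℕ) :
    (Y ^ n) 0 0 = (Y 0 0) ^ n := by
  induction n with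
  | zero => simp
  | succ n ih => rw [pow_succ, mul_entry hY, ih, pow_succ]

/-- a `2`-element fixing the point at infinity is unipotent -/
theorem two_elt_mem_Usub (h : FH F m) {y : Cfsg.Sz F m} (hfix : y • (ωinf m : Cfsg.suzukiOvoid F m) = ωinf m)
    {j : ℕ} (hy : y ^ 2 ^ j = 1) : y ∈ Usub h := by
  have hfix' : (y : Matrix.SpecialLinearGroup (Fin 4) F) •
      (Pinf : Projectivization F (Fin 4 → F)) = Pinf := congrArg Subtype.val hfix
  obtain ⟨a, b, t, ht, e⟩ := eq_Tel_mul_Hel h y.2 hfix'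
  have hent : ∀ k : Fin 4, k ≠ 0 → (y : Matrix.SpecialLinearGroup (Fin 4) F).1 k 0 = 0 :=
    fun k hk => entry_of_fix hfix' hk
  have h1 := pow_entry hent (2 ^ j)
  have h2 : ((y : Matrix.SpecialLinearGroup (Fin 4) F).1) ^ 2 ^ j = 1 := by
    have := congrArg (fun z : Cfsg.Sz F m => (z : Matrix.SpecialLinearGroup (Fin 4) F).1) hy
    simpa using this
  have h3 : (y : Matrix.SpecialLinearGroup (Fin 4) F).1 0 0 = t * sg m t := by
    rw [e]
    exact Tmat_mul_Hmat_entry a b t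
  rw [h2, h3] at h1
  have h4 : (t * sg m t) ^ 2 ^ j = 1 := by
    rw [← h1]
    simp
  haveI := h.charP
  haveI : Fact (Nat.Prime 2) := ⟨Nat.prime_two⟩
  have h5 : (t * sg m t - 1) ^ 2 ^ j = 0 := by
    rw [sub_pow_char_pow, h4, one_pow, sub_self]
  have h6 : t * sg m t = 1 := sub_eq_zero.1 (pow_eq_zero_iff (by positivity) |>.1 h5)
  have ht1 : t = 1 := h.eq_one_of_sg_mul_self (by rw [mul_comm]; exact h6)
  subst ht1
  rw [Hel_one, mul_one] at e
  exact ⟨a, b, Subtype.ext e⟩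

/-- a Sylow `2`-subgroup is determined by the fixed point of a non-identity element -/
theorem sylow_eq (h : FH F m) (P : Sylow 2 (Cfsg.Sz F m)) {g : Cfsg.Sz F m} (hgP : g ∈ P)
    {a : Cfsg.suzukiOvoid F m} (huniq : ∀ b : Cfsg.suzukiOvoid F m, g • b = b → b = a)
    {k : Cfsg.Sz F m} (hk : k • (ωinf m : Cfsg.suzukiOvoid F m) = a) :
    (P : Subgroup (Cfsg.Sz F m)) = (Usub h).map (MulAut.conj k).toMonoidHom := by
  haveI : Fact (Nat.Prime 2) := ⟨Nat.prime_two⟩
  have hA := act h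
  have hodd : ¬ 2 ∣ Nat.card (Cfsg.suzukiOvoid F m) := by
    rw [hA.cardΩ]
    exact hA.odd_sq
  obtain ⟨ω, hω⟩ := P.isPGroup'.nonempty_fixed_point_of_prime_not_dvd_card
    (Cfsg.suzukiOvoid F m) hodd
  have hω' : ∀ y ∈ (P : Subgroup (Cfsg.Sz F m)), y • ω = ω := fun y hy => hω ⟨y, hy⟩
  have hωa : ω = a := huniq ω (hω' g hgP)
  subst hωa
  have hle : (P : Subgroup (Cfsg.Sz F m)) ≤ (Usub h).map (MulAut.conj k).toMonoidHom := by
    intro y hy
    obtain ⟨j, hj⟩ := P.isPGroup' ⟨y, hy⟩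
    have hj' : y ^ 2 ^ j = 1 := congrArg Subtype.val hj
    have hfix : (k⁻¹ * y * k) • (ωinf m : Cfsg.suzukiOvoid F m) = ωinf m := by
      rw [mul_smul, mul_smul, hk, hω' y hy, ← hk, inv_smul_smul]
    have hpow : (k⁻¹ * y * k) ^ 2 ^ j = 1 := by
      have := conj_pow (a := k⁻¹) (b := y) (i := 2 ^ j)
      rw [inv_inv] at this
      rw [this, hj']
      group
    have hmem := two_elt_mem_Usub h hfix hpow
    refine ⟨k⁻¹ * y * k, hmem, ?_⟩
    show k * (k⁻¹ * y * k) * k⁻¹ = y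
    group
  have hU : IsPGroup 2 ((Usub h).map (MulAut.conj k).toMonoidHom) := by
    apply IsPGroup.of_card (n := 2 * (2 * m + 1))
    have hinj : Function.Injective (MulAut.conj k).toMonoidHom := (MulAut.conj k).injective
    rw [← Nat.card_congr (Subgroup.equivMapOfInjective (Usub h) _ hinj).toEquiv, card_Usub h,
      h.card, ← pow_add]
    congr 1
    ring
  exact (P.is_maximal' hU hle).symm

end Cfsg.Agent.Helper8.SzPart
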