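import Mathlib
import Cfsg.Agent.Helper8.SzPartJ

set_option autoImplicit false

/-!
The partition of the Suzuki group.
-/

namespace Cfsg.Agent.Helper8.SzPart

open Cfsg.Agent.Helper7.Sz Cfsg.Agent.Helper7 MulAction

/-! ### Arithmetic -/

theorem num_prod {q r : ℕ} (hqr : q = 2 * r ^ 2) :
    (q + 2 * r + 1) * (q - 2 * r + 1) = q ^ 2 + 1 := by
  have h2r : 2 * r ≤ q := by rw [hqr]; nlinarith
  zify [h2r]
  rw [hqr]
  push_cast
  ring

theorem num_coprime {q r : ℕ} (hqr : q = 2 * r ^ 2) :
    Nat.Coprime (q + 2 * r + 1) (q - 2 * r + 1) := by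
  have h2r : 2 * r ≤ q := by rw [hqr]; nlinarith
  apply Nat.coprime_of_dvd
  intro p hp h1 h2
  -- `p` divides the difference `4 r`
  have e : q + 2 * r + 1 = (q - 2 * r + 1) + 4 * r := by omega
  rw [e] at h1
  have h3 : p ∣ 4 * r := (Nat.dvd_add_right h2).1 h1
  have hodd : ¬ 2 ∣ q - 2 * r + 1 := by
    rw [hqr]
    have : 2 * r ^ 2 - 2 * r = 2 * (r ^ 2 - r) := by rw [Nat.mul_sub]
    omega
  have hp2 : p ≠ 2 := by
    rintro rfl
    exact hodd h2
  have h4 : p ∣ r := by
    rcases (Nat.Prime.dvd_mul hp).1 h3 with h | h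
    · exfalso
      have : p ∣ 2 ^ 2 := h
      have := hp.dvd_of_dvd_pow this
      exact hp2 ((Nat.prime_dvd_prime_iff_eq hp Nat.prime_two).1 this)
    · exact h
  -- then `p` divides `q - 2r`, hence `1`
  have h5 : p ∣ q - 2 * r := by
    rw [hqr]
    have : 2 * r ^ 2 - 2 * r = r * (2 * r - 2) := by
      rw [Nat.mul_sub]
      ring_nf
    rw [this]
    exact Dvd.dvd.mul_right h4 _
  have h6 := (Nat.dvd_add_right h5).1 h2
  exact hp.one_lt.ne' (Nat.dvd_one.1 h6)

theorem two_pow_odd {G : Type*} [Group G] {g : G} {j n : ℕ} (h1 : g ^ 2 ^ j = 1) (h2 : g ^ n = 1)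
    (hn : ¬ 2 ∣ n) : g = 1 := by
  have d1 : orderOf g ∣ 2 ^ j := orderOf_dvd_of_pow_eq_one h1
  have d2 : orderOf g ∣ n := orderOf_dvd_of_pow_eq_one h2
  have hc : Nat.Coprime (2 ^ j) n := by
    apply Nat.Coprime.pow_left
    exact (Nat.Prime.coprime_iff_not_dvd Nat.prime_two).2 hn
  have := Nat.dvd_gcd d1 d2
  rw [hc] at this
  exact orderOf_eq_one_iff.1 (Nat.dvd_one.1 this)

variable {F : Type*} [Field F] [Fintype F] {m : ℕ}

/-- The partition of the Suzuki group. -/
theorem partition (h : FH F m) (g : Cfsg.Sz F m) (hg : g ≠ 1) :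
    ∃! U : Subgroup (Cfsg.Sz F m),
      ((∃ P : Sylow 2 (Cfsg.Sz F m), U = (P : Subgroup (Cfsg.Sz F m))) ∨
        (IsCyclic U ∧ Nat.card U ∈ ({2 ^ (2 * m + 1) - 1, 2 ^ (2 * m + 1) + 2 ^ (m + 1) + 1,
          2 ^ (2 * m + 1) - 2 ^ (m + 1) + 1} : Set ℕ))) ∧ g ∈ U := by
  haveI : Fact (Nat.Prime 2) := ⟨Nat.prime_two⟩
  have hA := act h
  have hC := ctx h
  have h2r : 2 ^ (m + 1) = 2 * 2 ^ m := by rw [pow_succ]; ring
  rw [h2r]
  set q := 2 ^ (2 * m + 1) with hq
  set r := 2 ^ m with hr
  have hqr : q = 2 * r ^ 2 := hA.hqr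
  have hq8 : 8 ≤ q := hA.q_ge
  have hr2 : 2 ≤ r := hA.hr
  have h2rq : 2 * r ≤ q := by rw [hqr]; nlinarith
  have hprod := num_prod hqr
  have hcop := num_coprime hqr
  have hoddq : ¬ 2 ∣ q ^ 2 + 1 := hA.odd_sq
  have hodd1 : ¬ 2 ∣ q - 1 := by
    intro hd
    have : 2 ∣ q := by
      rw [hqr]
      exact Dvd.intro _ rfl
    omega
  have hodd2 : ¬ 2 ∣ q + 2 * r + 1 := fun hd => hoddq (hprod ▸ Dvd.dvd.mul_right hd _)
  have hodd3 : ¬ 2 ∣ q - 2 * r + 1 := fun hd => hoddq (hprod ▸ Dvd.dvd.mul_left hd _)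
  have hd2 : q + 2 * r + 1 ∣ q ^ 2 + 1 := hprod ▸ Dvd.intro _ rfl
  have hd3 : q - 2 * r + 1 ∣ q ^ 2 + 1 := hprod ▸ Dvd.intro_left _ rfl
  have hcop1 : Nat.Coprime (q - 1) (q ^ 2 + 1) := by
    have := hA.coprime
    exact (Nat.Coprime.coprime_mul_left_right this).symm
  have hge3 : 5 ≤ q - 2 * r + 1 := by
    have : 2 * r * 2 ≤ 2 * r * r := Nat.mul_le_mul_left _ hr2
    have e : q = 2 * r * r := by rw [hqr]; ring
    omega
  -- general facts about a candidate subgroup
  have hsyl : ∀ P : Sylow 2 (Cfsg.Sz F m), g ∈ P → ∃ j : ℕ, g ^ 2 ^ j = 1 := by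
    intro P hgP
    obtain ⟨j, hj⟩ := P.isPGroup' ⟨g, hgP⟩
    exact ⟨j, congrArg Subtype.val hj⟩
  have hpowcard : ∀ U : Subgroup (Cfsg.Sz F m), g ∈ U → g ^ Nat.card U = 1 := by
    intro U hgU
    exact orderOf_dvd_iff_pow_eq_one.1 (Subgroup.orderOf_dvd_natCard U hgU)
  by_cases hX : g ^ (q ^ 2 + 1) = 1
  · -- the fixed-point-free case
    have hx : g ∈ XX (Cfsg.Sz F m) q := ⟨hg, hX⟩
    have hcardC := hC.card_Cz hx
    refine ⟨Cz g, ⟨Or.inr ⟨hC.cyc g hg hX, ?_⟩, self_mem_Cz g⟩, ?_⟩
    · rcases hcardC with e | e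
      · rw [e]; simp
      · rw [e]; simp
    · rintro U' ⟨hU', hgU'⟩
      rcases hU' with ⟨P, rfl⟩ | ⟨hcyc, hk⟩
      · exfalso
        obtain ⟨j, hj⟩ := hsyl P hgU'
        exact hg (two_pow_odd hj hX hoddq)
      · have hle : U' ≤ Cz g := by
          intro u hu
          rw [mem_Cz]
          exact comm_of_cyclic hcyc hu hgU'
        have hdvd := Subgroup.card_dvd_of_le hle
        have hpow := hpowcard U' hgU'
        simp only [Set.mem_insert_iff, Set.mem_singleton_iff] at hk
        rcases hk with e | e | e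
        · exfalso
          rw [e] at hpow
          have d1 : orderOf g ∣ q - 1 := orderOf_dvd_of_pow_eq_one hpow
          have d2 : orderOf g ∣ q ^ 2 + 1 := orderOf_dvd_of_pow_eq_one hX
          have := Nat.dvd_gcd d1 d2
          rw [hcop1] at this
          exact hg (orderOf_eq_one_iff.1 (Nat.dvd_one.1 this))
        · rcases hcardC with e' | e'
          · exact Subgroup.eq_of_le_of_card_ge hle (by rw [e, e'])
          · exfalso
            rw [e, e'] at hdvd
            have := Nat.dvd_gcd (dvd_refl _) hdvd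
            rw [hcop] at this
            have := Nat.dvd_one.1 this
            omega
        · rcases hcardC with e' | e'
          · exfalso
            rw [e, e'] at hdvd
            have := Nat.dvd_gcd hdvd (dvd_refl _)
            rw [hcop] at this
            have := Nat.dvd_one.1 this
            omega
          · exact Subgroup.eq_of_le_of_card_ge hle (by rw [e, e'])
  · -- `g` has a fixed point
    have hfix : ∃ a : Cfsg.suzukiOvoid F m, g • a = a := by
      by_contra hcon
      push Not at hcon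
      exact hX (hA.pow_eq_one_of_fpf hcon)
    obtain ⟨a, ha⟩ := hfix
    -- candidates of order dividing `q² + 1` are excluded
    have hnoX : ∀ U' : Subgroup (Cfsg.Sz F m), g ∈ U' → Nat.card U' ∣ q ^ 2 + 1 → False := by
      intro U' hgU' hd
      apply hX
      apply orderOf_dvd_iff_pow_eq_one.1
      exact (Subgroup.orderOf_dvd_natCard U' hgU').trans hd
    by_cases h2 : ∃ j : ℕ, g ^ 2 ^ j = 1
    · -- a `2`-element
      obtain ⟨j, hj⟩ := h2
      obtain ⟨a', ha', huniq⟩ := hA.exists_unique_fixed_of_two_elt hg hj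
      haveI := hA.two
      haveI : IsPretransitive (Cfsg.Sz F m) (Cfsg.suzukiOvoid F m) :=
        MulAction.isPretransitive_of_is_two_pretransitive
      obtain ⟨k, hk⟩ := MulAction.exists_smul_eq (Cfsg.Sz F m) (ωinf m : Cfsg.suzukiOvoid F m) a'
      have hpz : IsPGroup 2 (Subgroup.zpowers g) := by
        have h1 : orderOf g ∣ 2 ^ j := orderOf_dvd_of_pow_eq_one hj
        obtain ⟨i, -, hi⟩ := (Nat.dvd_prime_pow Nat.prime_two).1 h1
        apply IsPGroup.of_card (n := i)
        rw [Nat.card_zpowers, hi]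
      obtain ⟨P, hP⟩ := hpz.exists_le_sylow
      have hgP : g ∈ P := hP (Subgroup.mem_zpowers g)
      have hPeq := sylow_eq h P hgP huniq hk
      refine ⟨(Usub h).map (MulAut.conj k).toMonoidHom, ⟨Or.inl ⟨P, hPeq.symm⟩, ?_⟩, ?_⟩
      · rw [← hPeq]
        exact hgP
      · rintro U' ⟨hU', hgU'⟩
        rcases hU' with ⟨P', rfl⟩ | ⟨hcyc, hk'⟩
        · exact sylow_eq h P' hgU' huniq hk
        · exfalso
          have hpow := hpowcard U' hgU'
          simp only [Set.mem_insert_iff, Set.mem_singleton_iff] at hk'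
          rcases hk' with e | e | e
          · rw [e] at hpow
            exact hg (two_pow_odd hj hpow hodd1)
          · rw [e] at hpow
            exact hg (two_pow_odd hj hpow hodd2)
          · rw [e] at hpow
            exact hg (two_pow_odd hj hpow hodd3)
    · -- not a `2`-element
      have hn : 0 < orderOf g := orderOf_pos g
      have hs : ∃ s : ℕ, s.Prime ∧ s ∣ orderOf g ∧ s ≠ 2 := by
        by_contra hcon
        push Not at hcon
        apply h2
        have := Nat.eq_prime_pow_of_unique_prime_dvd (p := 2) hn.ne'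
          (fun {d} hd hdn => hcon d hd hdn)
        refine ⟨(orderOf g).primeFactorsList.length, ?_⟩
        rw [← this, pow_orderOf_eq_one]
      obtain ⟨s, hs, hsn, hs2⟩ := hs
      have hsq : s ∣ q - 1 := by
        have h1 : orderOf g ∣ q ^ 2 * (q - 1) := by
          rw [← hA.card_stabilizer a]
          have := orderOf_dvd_natCard (⟨g, mem_stabilizer_iff.2 ha⟩ : stabilizer (Cfsg.Sz F m) a)
          rwa [← Subgroup.orderOf_coe] at this
        have h3 := hsn.trans h1
        rcases (Nat.Prime.dvd_mul hs).1 h3 with h4 | h4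
        · exfalso
          have h5 : s ∣ 2 ^ (2 * m + 1) := hs.dvd_of_dvd_pow h4
          have h6 := hs.dvd_of_dvd_pow h5
          exact hs2 ((Nat.prime_dvd_prime_iff_eq hs Nat.prime_two).1 h6)
        · exact h4
      obtain ⟨b, hba, hb⟩ := hA.exists_two_fixed hs hsn hsq ha
      obtain ⟨c1, c2⟩ := twoStab_cyclic h (Ne.symm hba)
      refine ⟨twoStab a b, ⟨Or.inr ⟨c1, ?_⟩, mem_twoStab.2 ⟨ha, hb⟩⟩, ?_⟩
      · rw [c2]
        exact Set.mem_insert _ _
      · rintro U' ⟨hU', hgU'⟩
        rcases hU' with ⟨P', rfl⟩ | ⟨hcyc, hk'⟩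
        · exfalso
          exact h2 (hsyl P' hgU')
        · simp only [Set.mem_insert_iff, Set.mem_singleton_iff] at hk'
          rcases hk' with e | e | e
          · have hle : U' ≤ twoStab a b := by
              intro u hu
              have hcomm : u * g = g * u := comm_of_cyclic hcyc hu hgU'
              have hodd : Odd (orderOf u) := by
                rw [← Nat.not_even_iff_odd]
                intro hev
                have d1 : 2 ∣ orderOf u := even_iff_two_dvd.1 hev
                have d2 : orderOf u ∣ q - 1 := by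
                  rw [← e]
                  exact Subgroup.orderOf_dvd_natCard U' hu
                exact hodd1 (d1.trans d2)
              exact mem_twoStab.2 ⟨hA.smul_eq_of_commute_odd hg hcomm hodd ha,
                hA.smul_eq_of_commute_odd hg hcomm hodd hb⟩
            exact Subgroup.eq_of_le_of_card_ge hle (by rw [e, c2])
          · exfalso
            exact hnoX U' hgU' (e ▸ hd2)
          · exfalso
            exact hnoX U' hgU' (e ▸ hd3)

end Cfsg.Agent.Helper8.SzPart
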