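import Mathlib
import Cfsg.Agent.Helper8.LSB

set_option autoImplicit false

/-! Characters of the additive group of a finite field: scalar twists and invariant characters. -/

namespace Cfsg.Agent.Helper8.LS

open scoped BigOperators

section scal

variable {F : Type*} [Field F] {K : Type*} [Field K]

/-- The character `x ↦ ψ (c * x)`. -/
noncomputable def scalChar (ψ : Multiplicative F →* Kˣ) (c : F) : Multiplicative F →* Kˣ :=
  ψ.comp (AddMonoidHom.toMultiplicative (AddMonoidHom.mulLeft c))

theorem scalChar_apply (ψ : Multiplicative F →* Kˣ) (c x : F) :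
    scalChar ψ c (Multiplicative.ofAdd x) = ψ (Multiplicative.ofAdd (c * x)) := rfl

theorem scalChar_zero (ψ : Multiplicative F →* Kˣ) : scalChar ψ 0 = 1 := by
  refine MonoidHom.ext (fun x => ?_)
  have : x = Multiplicative.ofAdd x.toAdd := rfl
  rw [this, scalChar_apply, zero_mul, ofAdd_zero, map_one]
  rfl

theorem scalChar_injective {ψ : Multiplicative F →* Kˣ} (hψ : ψ ≠ 1) :
    Function.Injective (scalChar ψ) := by
  intro c c' hcc
  by_contra hne
  apply hψ
  have hd : c - c' ≠ 0 := sub_ne_zero.mpr hne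
  refine MonoidHom.ext (fun t' => ?_)
  set t : F := Multiplicative.toAdd t' with ht
  have h1 := DFunLike.congr_fun hcc (Multiplicative.ofAdd (t / (c - c')))
  rw [scalChar_apply, scalChar_apply] at h1
  have h2 : Multiplicative.ofAdd t = Multiplicative.ofAdd (c * (t / (c - c')))
      * (Multiplicative.ofAdd (c' * (t / (c - c'))))⁻¹ := by
    rw [← ofAdd_neg, ← ofAdd_add]
    congr 1
    field_simp
    ring
  have h3 : ψ (Multiplicative.ofAdd t) = 1 := by
    rw [h2, map_mul, map_inv, h1, mul_inv_cancel]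
  exact h3

variable [Fintype F]

theorem scalChar_bijective [HasEnoughRootsOfUnity K (Monoid.exponent (Multiplicative F))]
    {ψ : Multiplicative F →* Kˣ} (hψ : ψ ≠ 1) : Function.Bijective (scalChar ψ) := by
  classical
  refine (scalChar_injective hψ).bijective_of_nat_card_le ?_
  rw [CommGroup.card_monoidHom_of_hasEnoughRootsOfUnity]
  exact le_of_eq (Nat.card_congr Multiplicative.ofAdd.symm)

/-- A nontrivial character invariant under an additive endomorphism with a nonzero fixed point. -/
theorem exists_invariant_char [HasEnoughRootsOfUnity K (Monoid.exponent (Multiplicative F))]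
    (σ : F →+ F) (hσ : ∃ x : F, x ≠ 0 ∧ σ x = x) :
    ∃ ψ : Multiplicative F →* Kˣ, ψ ≠ 1 ∧
      ∀ x : F, ψ (Multiplicative.ofAdd (σ x)) = ψ (Multiplicative.ofAdd x) := by
  classical
  let δ : F →+ F := σ - AddMonoidHom.id F
  have hninj : ¬ Function.Injective δ := by
    obtain ⟨x, hx0, hx⟩ := hσ
    intro hinj
    apply hx0
    apply hinj
    simp [δ, hx]
  have hnsurj : ¬ Function.Surjective δ := fun hs => hninj (Finite.injective_iff_surjective.mpr hs)
  obtain ⟨x₀, hx₀⟩ : ∃ x₀ : F, x₀ ∉ δ.range := by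
    by_contra hcon
    push_neg at hcon
    exact hnsurj (fun y => hcon y)
  let H : Subgroup (Multiplicative F) := AddSubgroup.toSubgroup δ.range
  have hx₀' : Multiplicative.ofAdd x₀ ∉ H := hx₀
  have := (CommGroup.forall_monoidHom_apply_eq_one_iff (M := K) H (Multiplicative.ofAdd x₀)).not.mpr hx₀'
  push_neg at this
  obtain ⟨φ, hφH, hφx⟩ := this
  refine ⟨φ, fun h => hφx (by rw [h]; rfl), fun x => ?_⟩
  have h1 : φ (Multiplicative.ofAdd (δ x)) = 1 := hφH _ ⟨x, rfl⟩
  have h2 : Multiplicative.ofAdd (δ x) = Multiplicative.ofAdd (σ x) * (Multiplicative.ofAdd x)⁻¹ := by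
    rw [← ofAdd_neg, ← ofAdd_add]
    simp [δ, sub_eq_add_neg]
  rw [h2, map_mul, map_inv, mul_inv_eq_one] at h1
  exact h1

end scal

end Cfsg.Agent.Helper8.LS
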