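import Mathlib
import Cfsg.Agent.Helper8.LSH
import Cfsg.Agent.Helper7.SzSetup
import Cfsg.Agent.Helper7.SzSylow

set_option autoImplicit false

/-! Identities in the Sylow 2-subgroup of the Suzuki group, and a character computation. -/

namespace Cfsg.Agent.Helper8.LS

open scoped BigOperators commutatorElement
open Cfsg.Agent.Helper7.Sz

section suzuki

variable {F : Type*} [Field F] [Fintype F] {m : ℕ}

theorem TelS_mul (h : FH F m) (a b c d : F) :
    TelS h a b * TelS h c d = TelS h (a + c) (b + d + sg m a * c) :=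
  Subtype.ext (Tel_mul h a b c d)

theorem TelS_zero (h : FH F m) : TelS h 0 0 = 1 := Subtype.ext Tel_zero

theorem TelS_inv (h : FH F m) (a b : F) : (TelS h a b)⁻¹ = TelS h a (b + sg m a * a) :=
  Subtype.ext (Tel_inv h a b)

theorem TelS_injective (h : FH F m) {a b c d : F} (he : TelS h a b = TelS h c d) :
    a = c ∧ b = d :=
  Tel_injective (congrArg Subtype.val he)

theorem suzLaw (h : FH F m) : SuzLaw m (fun x : F × F => TelS h x.1 x.2) :=
  fun a b c d => TelS_mul h a b c d

/-- The centre of the Sylow 2-subgroup as a homomorphism. -/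
def zetaHom (h : FH F m) : Multiplicative F →* Cfsg.Sz F m where
  toFun b := TelS h 0 b.toAdd
  map_one' := TelS_zero h
  map_mul' := by
    intro a b
    rw [TelS_mul, sg_zero, zero_mul, add_zero, add_zero]
    rfl

theorem zetaHom_apply (h : FH F m) (b : F) : zetaHom h (Multiplicative.ofAdd b) = TelS h 0 b := rfl

theorem TelS_comm_zeta (h : FH F m) (a b z : F) :
    TelS h a b * zetaHom h (Multiplicative.ofAdd z) = zetaHom h (Multiplicative.ofAdd z) * TelS h a b := by
  rw [zetaHom_apply, TelS_mul, TelS_mul, sg_zero, zero_mul, mul_zero, add_zero, add_zero, zero_add,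
    add_comm b z, add_zero]

theorem HelS_mul_zeta (h : FH F m) (t : Fˣ) (b : F) :
    HelS h t * zetaHom h (Multiplicative.ofAdd b)
      = zetaHom h (Multiplicative.ofAdd ((t : F) * t * sg m (t : F) * b)) * HelS h t := by
  apply Subtype.ext
  have := Hel_mul_Tel h t.ne_zero 0 b
  rw [mul_zero] at this
  exact this

theorem TelS_conj (h : FH F m) (y a : F) :
    TelS h y 0 * TelS h a 0 * (TelS h y 0)⁻¹
      = zetaHom h (Multiplicative.ofAdd (sg m y * a + sg m a * y)) * TelS h a 0 := by
  have h1 := SuzLaw.comm_formula h (suzLaw h) y 0 a 0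
  simp only at h1
  rw [zetaHom_apply, ← h1, commutatorElement_def]
  group

/-- The radical of the commutator form twisted by a character. -/
theorem char_radical (h : FH F m) {K : Type*} [Field K]
    [HasEnoughRootsOfUnity K (Monoid.exponent (Multiplicative F))]
    {ψ : Multiplicative F →* Kˣ} (hψ : ψ ≠ 1)
    (hinv : ∀ x : F, ψ (Multiplicative.ofAdd (sg m x)) = ψ (Multiplicative.ofAdd x))
    {c : F} (hc : c ≠ 0) {d : F}
    (hd : ∀ y : F, ψ (Multiplicative.ofAdd (c * (sg m y * d + sg m d * y))) = 1) :
    d = 0 ∨ d = c / sg m c := by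
  obtain ⟨v, hv⟩ := h.sg_surjective (c * d)
  have h1 : ∀ y : F, ψ (Multiplicative.ofAdd ((v + c * sg m d) * y)) = 1 := by
    intro y
    have e1 : (v + c * sg m d) * y = v * y + c * sg m d * y := by ring
    have e2 : ψ (Multiplicative.ofAdd (v * y)) = ψ (Multiplicative.ofAdd (c * d * sg m y)) := by
      rw [← hinv (v * y), sg_mul, hv]
    rw [e1, ofAdd_add, map_mul, e2, ← map_mul, ← ofAdd_add, ← hd y]
    congr 2
    ring
  have h2 : scalChar ψ (v + c * sg m d) = scalChar ψ 0 := by
    rw [scalChar_zero]
    refine MonoidHom.ext (fun y => ?_)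
    have : y = Multiplicative.ofAdd y.toAdd := rfl
    rw [this, scalChar_apply, h1]
    rfl
  have h3 : v + c * sg m d = 0 := scalChar_injective hψ h2
  have h4 : v = c * sg m d := h.eq_of_add_eq_zero h3
  have h5 : c * d = sg m c * (d * d) := by
    rw [← hv, h4, sg_mul, h.sg_sg]
  by_cases hd0 : d = 0
  · left; exact hd0
  · right
    have hsc : sg m c ≠ 0 := sg_ne_zero hc
    have h6 : c = sg m c * d := by
      have : c * d = (sg m c * d) * d := by rw [h5]; ring
      exact mul_right_cancel₀ hd0 this
    rw [eq_div_iff hsc, mul_comm]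
    exact h6.symm

end suzuki

end Cfsg.Agent.Helper8.LS
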