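import Mathlib
import Cfsg.Agent.Helper8.LSI
import Cfsg.Agent.S0330

set_option autoImplicit false

/-! Elementary abelian TI-subgroups of the Suzuki groups: basic facts. -/

namespace Cfsg.Agent.Helper8.SzTI

open Cfsg.Agent.Helper7.Sz Cfsg.Agent.Helper7 MulAction Cfsg.Agent.Helper8.LS

variable {F : Type*} [Field F] [Fintype F] {m : ℕ}

theorem zetaHom_injective (h : FH F m) : Function.Injective (zetaHom h) := by
  intro a b hab
  have h1 : TelS h 0 a.toAdd = TelS h 0 b.toAdd := hab
  have h2 := (TelS_injective h h1).2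
  exact Multiplicative.toAdd.injective h2

theorem zetaHom_eq_one_iff (h : FH F m) (b : F) :
    zetaHom h (Multiplicative.ofAdd b) = 1 ↔ b = 0 := by
  constructor
  · intro e
    have h1 : zetaHom h (Multiplicative.ofAdd b) = zetaHom h 1 := by rw [e, map_one]
    have h2 := zetaHom_injective h h1
    exact h2
  · rintro rfl
    exact map_one _

/-- Every non-zero scalar is of the form `t * t * σ t`. -/
theorem exists_kappa (h : FH F m) {c : F} (hc : c ≠ 0) :
    ∃ t : Fˣ, (t : F) * t * sg m (t : F) = c := by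
  obtain ⟨k, hk0, hk⟩ := h.exists_sg_mul_self hc
  obtain ⟨t, ht⟩ := h.sg_surjective k
  have ht0 : t ≠ 0 := by
    rintro rfl
    rw [sg_zero] at ht
    exact hk0 ht.symm
  refine ⟨Units.mk0 t ht0, ?_⟩
  show t * t * sg m t = c
  rw [← h.sg_sg t, ht, hk]

/-- A conjugating element between non-trivial elements of the standard Sylow subgroup fixes the
point at infinity. -/
theorem fix_of_conj (h : FH F m) {u u' x : Cfsg.Sz F m} (hu : u ∈ Usub h) (hu' : u' ∈ Usub h)
    (hu1 : u' ≠ 1) (e : x * u' * x⁻¹ = u) :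
    x • (ωinf m : Cfsg.suzukiOvoid F m) = ωinf m := by
  have hS := setup h
  by_contra hne'
  have hfix : u • (x • (ωinf m : Cfsg.suzukiOvoid F m)) = x • ωinf m := by
    rw [← e, ← mul_smul]
    have : x * u' * x⁻¹ * x = x * u' := by group
    rw [this, mul_smul]
    congr 1
    exact hS.le hu'
  obtain ⟨s, -, huniq⟩ := hS.reg _ _ hne' hne'
  have e1 := huniq ⟨u, hu⟩ hfix
  have e2 := huniq ⟨1, (Usub h).one_mem⟩ (one_smul _ _)
  have h1 : u = 1 := congrArg Subtype.val (e1.trans e2.symm)
  apply hu1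
  rw [h1] at e
  have : u' = x⁻¹ * (x * u' * x⁻¹) * x := by group
  rw [this, e]
  group

/-- Elements fixing the point at infinity. -/
theorem eq_TelS_mul_HelS (h : FH F m) {x : Cfsg.Sz F m}
    (hx : x • (ωinf m : Cfsg.suzukiOvoid F m) = ωinf m) :
    ∃ (c d : F) (t : Fˣ), x = TelS h c d * HelS h t := by
  have hx' : (x : Matrix.SpecialLinearGroup (Fin 4) F) •
      (Pinf : Projectivization F (Fin 4 → F)) = Pinf := congrArg Subtype.val hx
  obtain ⟨c, d, t, ht, e⟩ := eq_Tel_mul_Hel h x.2 hx'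
  refine ⟨c, d, Units.mk0 t ht, ?_⟩
  apply Subtype.ext
  exact e

/-- The action of the point stabiliser on the centre of the Sylow subgroup. -/
theorem conj_zeta (h : FH F m) (c d : F) (t : Fˣ) (b : F) :
    (TelS h c d * HelS h t) * zetaHom h (Multiplicative.ofAdd b) * (TelS h c d * HelS h t)⁻¹ =
      zetaHom h (Multiplicative.ofAdd ((t : F) * t * sg m (t : F) * b)) := by
  rw [mul_assoc (TelS h c d), HelS_mul_zeta, ← mul_assoc, TelS_comm_zeta]
  group

/-- Involutions of the standard Sylow subgroup are central. -/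
theorem eq_zeta_of_sq (h : FH F m) {a b : F} (hsq : TelS h a b * TelS h a b = 1) :
    TelS h a b = zetaHom h (Multiplicative.ofAdd b) := by
  rw [TelS_mul, ← TelS_zero h] at hsq
  have h2 := (TelS_injective h hsq).2
  rw [h.add_self, zero_add] at h2
  have ha : a = 0 := by
    rcases mul_eq_zero.1 h2 with h3 | h3
    · exact sg_eq_zero.1 h3
    · exact h3
  rw [ha]
  rfl

theorem card_Usub_eq (h : FH F m) :
    Nat.card (Usub h) = 2 ^ (Nat.card (Cfsg.Sz F m)).factorization 2 := by
  rw [card_Usub h, card_Sz h, h.card, Cfsg.Agent.S0330.factorization_two, pow_mul' 2 2, pow_two]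

/-- The number-theoretic step. -/
theorem dvd_of_pow_sub_one_dvd {n N : ℕ} (hd : 2 ^ n - 1 ∣ 2 ^ N - 1) : n ∣ N := by
  have h1 := Nat.pow_sub_one_gcd_pow_sub_one 2 n N
  rw [Nat.gcd_eq_left hd] at h1
  have h2 : 2 ^ n = 2 ^ Nat.gcd n N := by
    have ha : 1 ≤ 2 ^ n := Nat.one_le_two_pow
    have hb : 1 ≤ 2 ^ Nat.gcd n N := Nat.one_le_two_pow
    omega
  have h3 : n = Nat.gcd n N := Nat.pow_right_injective (le_refl 2) h2
  rw [h3]
  exact Nat.gcd_dvd_right n N

end Cfsg.Agent.Helper8.SzTI
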