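import Mathlib
import Cfsg.Agent.Helper8.SzTIA
import Cfsg.Prelude.Def_Transfer

set_option autoImplicit false

/-! Elementary abelian TI-subgroups of the Suzuki groups: the two directions. -/

namespace Cfsg.Agent.Helper8.SzTI

open Cfsg.Agent.Helper7.Sz Cfsg.Agent.Helper7 MulAction Cfsg.Agent.Helper8.LS

variable {F : Type*} [Field F] [Fintype F] {m : ℕ}

/-- An additive subgroup of a finite field of order `2 ^ N` which has `2 ^ n` elements and such that
any two of its scalar multiples meeting non-trivially are equal: then `n ∣ N`. -/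
theorem dvd_of_TI_additive (B : AddSubgroup F) (n N : ℕ) (hcardF : Fintype.card F = 2 ^ N)
    (hB : Nat.card B = 2 ^ n) (hn : 1 ≤ n)
    (hTI : ∀ c : F, c ≠ 0 → (∃ b' ∈ B, b' ≠ 0 ∧ c * b' ∈ B) → ∀ b'' ∈ B, c * b'' ∈ B) :
    n ∣ N := by
  classical
  have hBne : B ≠ ⊥ := by
    intro e
    rw [e, AddSubgroup.card_bot] at hB
    have : 2 ≤ 2 ^ n := by
      calc 2 = 2 ^ 1 := (pow_one 2).symm
        _ ≤ 2 ^ n := Nat.pow_le_pow_right (by norm_num) hn
    omega
  obtain ⟨b₀, hb₀, hb₀0⟩ := (AddSubgroup.bot_or_exists_ne_zero B).resolve_left hBne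
  have hmulmem : ∀ k : Fˣ, (k : F) * b₀ ∈ B → ∀ b ∈ B, (k : F) * b ∈ B :=
    fun k hk => hTI k k.ne_zero ⟨b₀, hb₀, hb₀0, hk⟩
  let M₀ : Submonoid Fˣ :=
    { carrier := {k | (k : F) * b₀ ∈ B}
      one_mem' := by
        show ((1 : Fˣ) : F) * b₀ ∈ B
        rw [Units.val_one, one_mul]; exact hb₀
      mul_mem' := by
        intro k k' hk hk'
        show ((k * k' : Fˣ) : F) * b₀ ∈ B
        rw [Units.val_mul, mul_assoc]
        exact hmulmem k hk _ hk' }
  let M : Subgroup Fˣ :=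
    { M₀ with
      inv_mem' := by
        intro k hk
        have hk' : k ∈ M₀ := hk
        have h1 : k⁻¹ = k ^ (orderOf k - 1) := by
          apply inv_eq_of_mul_eq_one_right
          rw [← pow_succ', Nat.sub_add_cancel (orderOf_pos k), pow_orderOf_eq_one]
        show k⁻¹ ∈ M₀
        rw [h1]
        exact pow_mem hk' _ }
  have hMmem : ∀ k : Fˣ, k ∈ M ↔ (k : F) * b₀ ∈ B := fun k => Iff.rfl
  -- the image of `M`
  have himg : (fun k : Fˣ => (k : F) * b₀) '' (M : Set Fˣ) = (B : Set F) \ {0} := by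
    ext b
    constructor
    · rintro ⟨k, hk, rfl⟩
      exact ⟨(hMmem k).1 hk, mul_ne_zero k.ne_zero hb₀0⟩
    · rintro ⟨hb, hb0⟩
      have hb0' : b ≠ 0 := hb0
      refine ⟨Units.mk0 (b / b₀) (div_ne_zero hb0' hb₀0), ?_, ?_⟩
      · show (b / b₀) * b₀ ∈ B
        rw [div_mul_cancel₀ _ hb₀0]; exact hb
      · show (b / b₀) * b₀ = b
        rw [div_mul_cancel₀ _ hb₀0]
  have hinj : Function.Injective (fun k : Fˣ => (k : F) * b₀) := by
    intro k k' e
    exact Units.ext (mul_right_cancel₀ hb₀0 e)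
  have hcardM : Nat.card M = 2 ^ n - 1 := by
    have h1 : Nat.card M = (M : Set Fˣ).ncard := Nat.card_coe_set_eq (M : Set Fˣ)
    have h2 : Nat.card B = (B : Set F).ncard := Nat.card_coe_set_eq (B : Set F)
    rw [h1, ← Set.ncard_image_of_injective _ hinj, himg,
      Set.ncard_sdiff_singleton_of_mem (show (0 : F) ∈ (B : Set F) from B.zero_mem), ← h2, hB]
  have hdvd := Subgroup.card_subgroup_dvd_card M
  rw [hcardM, Nat.card_units, Nat.card_eq_fintype_card, hcardF] at hdvd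
  exact dvd_of_pow_sub_one_dvd hdvd

theorem HelS_conj_zeta (h : FH F m) (t : Fˣ) (b : F) :
    HelS h t * zetaHom h (Multiplicative.ofAdd b) * (HelS h t)⁻¹ =
      zetaHom h (Multiplicative.ofAdd ((t : F) * t * sg m (t : F) * b)) := by
  rw [HelS_mul_zeta]
  group

/-- The forward direction. -/
theorem forward (h : FH F m) (n : ℕ) (hn : 1 ≤ n) (E : Subgroup (Cfsg.Sz F m))
    (hE : Cfsg.IsElementaryAbelian 2 E) (hcard : Nat.card E = 2 ^ n)
    (hTI : ∀ x : Cfsg.Sz F m, E ⊓ E.map (MulAut.conj x).toMonoidHom ≠ ⊥ →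
      x ∈ Subgroup.normalizer (E : Set (Cfsg.Sz F m))) :
    n ∣ 2 * m + 1 := by
  have : Fact (Nat.Prime 2) := ⟨Nat.prime_two⟩
  have hp : IsPGroup 2 E := IsPGroup.of_card hcard
  obtain ⟨P, hP⟩ := hp.exists_le_sylow
  let PU : Sylow 2 (Cfsg.Sz F m) := Sylow.ofCard (Usub h) (card_Usub_eq h)
  obtain ⟨y, hy⟩ := MulAction.exists_smul_eq (Cfsg.Sz F m) PU P
  have hmem : ∀ x, x ∈ (P : Subgroup (Cfsg.Sz F m)) ↔ y⁻¹ * x * y ∈ Usub h := by
    intro x
    rw [← hy, Sylow.coe_subgroup_smul, Subgroup.mem_pointwise_smul_iff_inv_smul_mem]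
    show (MulAut.conj y)⁻¹ x ∈ Usub h ↔ _
    rw [MulAut.conj_inv_apply]
  -- the parametrisation
  let ψ : F → Cfsg.Sz F m := fun b => y * zetaHom h (Multiplicative.ofAdd b) * y⁻¹
  have hψ0 : ψ 0 = 1 := by
    show y * zetaHom h (Multiplicative.ofAdd 0) * y⁻¹ = 1
    rw [ofAdd_zero, map_one]; group
  have hψadd : ∀ a b, ψ (a + b) = ψ a * ψ b := by
    intro a b
    show y * zetaHom h (Multiplicative.ofAdd (a + b)) * y⁻¹ =
      y * zetaHom h (Multiplicative.ofAdd a) * y⁻¹ * (y * zetaHom h (Multiplicative.ofAdd b) * y⁻¹)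
    rw [ofAdd_add, map_mul]; group
  have hψneg : ∀ a, ψ (-a) = (ψ a)⁻¹ := by
    intro a
    show y * zetaHom h (Multiplicative.ofAdd (-a)) * y⁻¹ =
      (y * zetaHom h (Multiplicative.ofAdd a) * y⁻¹)⁻¹
    rw [ofAdd_neg, map_inv]; group
  have hψinj : Function.Injective ψ := by
    intro a b e
    have e1 : zetaHom h (Multiplicative.ofAdd a) = zetaHom h (Multiplicative.ofAdd b) := by
      have e2 : y * zetaHom h (Multiplicative.ofAdd a) * y⁻¹ =
        y * zetaHom h (Multiplicative.ofAdd b) * y⁻¹ := e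
      exact mul_left_cancel (mul_right_cancel e2)
    exact Multiplicative.ofAdd.injective (zetaHom_injective h e1)
  let B : AddSubgroup F :=
    { carrier := {b | ψ b ∈ E}
      zero_mem' := by
        show ψ 0 ∈ E
        rw [hψ0]; exact E.one_mem
      add_mem' := by
        intro a b ha hb
        show ψ (a + b) ∈ E
        rw [hψadd]; exact E.mul_mem ha hb
      neg_mem' := by
        intro a ha
        show ψ (-a) ∈ E
        rw [hψneg]; exact E.inv_mem ha }
  have hBmem : ∀ b, b ∈ B ↔ ψ b ∈ E := fun b => Iff.rfl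
  -- every element of `E` is in the image
  have hsurj : ∀ e ∈ E, ∃ b, ψ b = e := by
    intro e he
    obtain ⟨a, b, hab⟩ := (hmem e).1 (hP he)
    have hsq : TelS h a b * TelS h a b = 1 := by
      rw [← hab]
      have : e * e = 1 := by
        have := hE.2 e he
        rwa [pow_two] at this
      calc y⁻¹ * e * y * (y⁻¹ * e * y) = y⁻¹ * (e * e) * y := by group
        _ = 1 := by rw [this]; group
    refine ⟨b, ?_⟩
    show y * zetaHom h (Multiplicative.ofAdd b) * y⁻¹ = e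
    rw [← eq_zeta_of_sq h hsq, ← hab]
    group
  have hcardB : Nat.card B = 2 ^ n := by
    rw [← hcard]
    apply Nat.card_eq_of_bijective (fun b : B => (⟨ψ b, b.2⟩ : E))
    constructor
    · intro b b' e
      apply Subtype.ext
      exact hψinj (congrArg Subtype.val e)
    · rintro ⟨e, he⟩
      obtain ⟨b, hb⟩ := hsurj e he
      exact ⟨⟨b, (hBmem b).2 (hb ▸ he)⟩, Subtype.ext hb⟩
  apply dvd_of_TI_additive B n (2 * m + 1) h.card hcardB hn
  intro c hc ⟨b', hb', hb'0, hcb'⟩ b'' hb''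
  obtain ⟨t, ht⟩ := exists_kappa h hc
  have hconj : ∀ b, (y * HelS h t * y⁻¹) * ψ b * (y * HelS h t * y⁻¹)⁻¹ = ψ (c * b) := by
    intro b
    show (y * HelS h t * y⁻¹) * (y * zetaHom h (Multiplicative.ofAdd b) * y⁻¹) *
      (y * HelS h t * y⁻¹)⁻¹ = y * zetaHom h (Multiplicative.ofAdd (c * b)) * y⁻¹
    rw [← ht, ← HelS_conj_zeta]
    group
  have hx : y * HelS h t * y⁻¹ ∈ Subgroup.normalizer (E : Set (Cfsg.Sz F m)) := by
    apply hTI
    intro hbot
    have h1 : ψ (c * b') ∈ E ⊓ E.map (MulAut.conj (y * HelS h t * y⁻¹)).toMonoidHom := by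
      refine ⟨hcb', ?_⟩
      refine ⟨ψ b', hb', ?_⟩
      show (MulAut.conj (y * HelS h t * y⁻¹)) (ψ b') = ψ (c * b')
      rw [MulAut.conj_apply, hconj]
    rw [hbot, Subgroup.mem_bot, ← hψ0] at h1
    exact mul_ne_zero hc hb'0 (hψinj h1)
  have h2 := (Subgroup.mem_normalizer_iff.1 hx (ψ b'')).1 hb''
  rw [hconj] at h2
  exact h2

end Cfsg.Agent.Helper8.SzTI
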