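import Mathlib
import Cfsg.Agent.Helper8.SzTIB

set_option autoImplicit false

/-! Elementary abelian TI-subgroups of the Suzuki groups: existence. -/

namespace Cfsg.Agent.Helper8.SzTI

open Cfsg.Agent.Helper7.Sz Cfsg.Agent.Helper7 MulAction Cfsg.Agent.Helper8.LS

variable {F : Type*} [Field F] [Fintype F] {m : ℕ}

/-- The subfield with `2 ^ n` elements, as an additive subgroup closed under products and
inverses. -/
theorem exists_subfield (h : FH F m) (n : ℕ) (hn : 1 ≤ n) (hd : n ∣ 2 * m + 1) :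
    ∃ K : AddSubgroup F, Nat.card K = 2 ^ n ∧ (1 : F) ∈ K ∧ (∀ a ∈ K, ∀ b ∈ K, a * b ∈ K) ∧
      (∀ a ∈ K, a⁻¹ ∈ K) := by
  have := h.charP
  have : Fact (Nat.Prime 2) := ⟨Nat.prime_two⟩
  let _ : Algebra (ZMod 2) F := ZMod.algebra F 2
  have hn0 : n ≠ 0 := by omega
  have hfr : Module.finrank (ZMod 2) F = 2 * m + 1 := by
    have := FiniteField.pow_finrank_eq_card 2 F
    rw [h.card] at this
    exact Nat.pow_right_injective (le_refl 2) this
  have hfk : Module.finrank (ZMod 2) (GaloisField 2 n) = n := GaloisField.finrank 2 hn0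
  obtain ⟨ι⟩ := FiniteField.nonempty_algHom_of_finrank_dvd (F := ZMod 2) (K := GaloisField 2 n)
    (L := F) (by rw [hfk, hfr]; exact hd)
  have hinj : Function.Injective (ι : GaloisField 2 n →+* F).toAddMonoidHom :=
    (ι : GaloisField 2 n →+* F).injective
  refine ⟨(ι : GaloisField 2 n →+* F).toAddMonoidHom.range, ?_, ?_, ?_, ?_⟩
  · rw [← Nat.card_congr (AddMonoidHom.ofInjective hinj).toEquiv, GaloisField.card 2 n hn0]
  · exact ⟨1, map_one ι⟩
  · rintro _ ⟨a, rfl⟩ _ ⟨b, rfl⟩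
    exact ⟨a * b, map_mul ι a b⟩
  · rintro _ ⟨a, rfl⟩
    exact ⟨a⁻¹, map_inv₀ ι a⟩

/-- The subgroup of the centre of the Sylow subgroup attached to an additive subgroup. -/
def EK (h : FH F m) (K : AddSubgroup F) : Subgroup (Cfsg.Sz F m) :=
  (AddSubgroup.toSubgroup K).map (zetaHom h)

theorem mem_EK (h : FH F m) (K : AddSubgroup F) (x : Cfsg.Sz F m) :
    x ∈ EK h K ↔ ∃ b ∈ K, zetaHom h (Multiplicative.ofAdd b) = x := by
  constructor
  · rintro ⟨b, hb, rfl⟩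
    exact ⟨b.toAdd, hb, rfl⟩
  · rintro ⟨b, hb, rfl⟩
    exact ⟨Multiplicative.ofAdd b, hb, rfl⟩

theorem card_EK (h : FH F m) (K : AddSubgroup F) : Nat.card (EK h K) = Nat.card K := by
  unfold EK
  rw [Subgroup.card_map_of_injective (zetaHom_injective h)]
  rfl

theorem EK_le_Usub (h : FH F m) (K : AddSubgroup F) : EK h K ≤ Usub h := by
  intro x hx
  obtain ⟨b, -, rfl⟩ := (mem_EK h K x).1 hx
  exact ⟨0, b, rfl⟩

theorem EK_elementary (h : FH F m) (K : AddSubgroup F) : Cfsg.IsElementaryAbelian 2 (EK h K) := by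
  constructor
  · refine ⟨⟨?_⟩⟩
    rintro ⟨x, hx⟩ ⟨y, hy⟩
    obtain ⟨a, -, rfl⟩ := (mem_EK h K x).1 hx
    obtain ⟨b, -, rfl⟩ := (mem_EK h K y).1 hy
    apply Subtype.ext
    show zetaHom h (Multiplicative.ofAdd a) * zetaHom h (Multiplicative.ofAdd b) =
      zetaHom h (Multiplicative.ofAdd b) * zetaHom h (Multiplicative.ofAdd a)
    rw [← (zetaHom h).map_mul, ← (zetaHom h).map_mul, mul_comm]
  · intro x hx
    obtain ⟨a, -, rfl⟩ := (mem_EK h K x).1 hx
    rw [← map_pow, ← ofAdd_nsmul, two_nsmul, h.add_self, ofAdd_zero, map_one]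

/-- The backward direction. -/
theorem backward (h : FH F m) (n : ℕ) (hn : 1 ≤ n) (hd : n ∣ 2 * m + 1) :
    ∃ E : Subgroup (Cfsg.Sz F m), Cfsg.IsElementaryAbelian 2 E ∧ Nat.card E = 2 ^ n ∧
      ∀ x : Cfsg.Sz F m, E ⊓ E.map (MulAut.conj x).toMonoidHom ≠ ⊥ →
        x ∈ Subgroup.normalizer (E : Set (Cfsg.Sz F m)) := by
  obtain ⟨K, hcard, h1, hmul, hinv⟩ := exists_subfield h n hn hd
  refine ⟨EK h K, EK_elementary h K, (card_EK h K).trans hcard, ?_⟩
  intro x hx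
  obtain ⟨⟨e, he⟩, he1'⟩ := (Subgroup.ne_bot_iff_exists_ne_one).1 hx
  have he1 : e ≠ 1 := fun e1 => he1' (Subtype.ext e1)
  obtain ⟨b, hb, rfl⟩ := (mem_EK h K _).1 he.1
  obtain ⟨e', he', hconj⟩ := he.2
  obtain ⟨b', hb', rfl⟩ := (mem_EK h K _).1 he'
  have hconj' : x * zetaHom h (Multiplicative.ofAdd b') * x⁻¹ = zetaHom h (Multiplicative.ofAdd b) :=
    hconj
  have hb0 : b ≠ 0 := fun e0 => he1 ((zetaHom_eq_one_iff h b).2 e0)
  have hb'0 : b' ≠ 0 := by
    rintro rfl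
    rw [ofAdd_zero, map_one, mul_one, mul_inv_cancel] at hconj'
    exact he1 hconj'.symm
  have hb'1 : zetaHom h (Multiplicative.ofAdd b') ≠ 1 := fun e0 =>
    hb'0 ((zetaHom_eq_one_iff h b').1 e0)
  have hfix := fix_of_conj h (EK_le_Usub h K he.1) (EK_le_Usub h K he') hb'1 hconj'
  obtain ⟨c, d, t, rfl⟩ := eq_TelS_mul_HelS h hfix
  rw [conj_zeta] at hconj'
  have hκ : (t : F) * t * sg m (t : F) * b' = b :=
    Multiplicative.ofAdd.injective (zetaHom_injective h hconj')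
  set κ : F := (t : F) * t * sg m (t : F) with hκdef
  have hκ0 : κ ≠ 0 := by
    intro e0
    rw [e0, zero_mul] at hκ
    exact hb0 hκ.symm
  have hκK : κ ∈ K := by
    have : κ = b * b'⁻¹ := by
      rw [← hκ, mul_assoc, mul_inv_cancel₀ hb'0, mul_one]
    rw [this]
    exact hmul _ hb _ (hinv _ hb')
  rw [Subgroup.mem_normalizer_iff]
  intro g
  constructor
  · intro hg
    obtain ⟨a, ha, rfl⟩ := (mem_EK h K g).1 hg
    rw [conj_zeta]
    exact (mem_EK h K _).2 ⟨κ * a, hmul _ hκK _ ha, rfl⟩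
  · intro hg
    obtain ⟨a, ha, ea⟩ := (mem_EK h K _).1 hg
    have e2 : zetaHom h (Multiplicative.ofAdd a) =
        (TelS h c d * HelS h t) * zetaHom h (Multiplicative.ofAdd (κ⁻¹ * a)) *
          (TelS h c d * HelS h t)⁻¹ := by
      rw [conj_zeta, ← hκdef, ← mul_assoc, mul_inv_cancel₀ hκ0, one_mul]
    rw [e2] at ea
    have e3 : g = zetaHom h (Multiplicative.ofAdd (κ⁻¹ * a)) :=
      (mul_left_cancel (mul_right_cancel ea)).symm
    rw [e3]
    exact (mem_EK h K _).2 ⟨κ⁻¹ * a, hmul _ (hinv _ hκK) _ ha, rfl⟩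

end Cfsg.Agent.Helper8.SzTI
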