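import Mathlib
import Cfsg.Agent.Helper8.SzTIC

set_option autoImplicit false

/-! Subfield subgroups of the Suzuki groups: the embedding induced by a field embedding. -/

namespace Cfsg.Agent.Helper8.SzSub

open Cfsg.Agent.Helper7.Sz Cfsg.Agent.Helper7 MulAction Cfsg.Agent.Helper8.LS
  Cfsg.Agent.Helper8.SzTI

variable {F : Type*} [Field F] [Fintype F] {m : ℕ}
variable {K : Type*} [Field K] [Fintype K] {k : ℕ}

/-- `x ^ 2 ^ ((2k+1) j) = x` in a field with `2 ^ (2k+1)` elements. -/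
theorem pow_two_pow_mul (hK : FH K k) (x : K) (j : ℕ) : x ^ 2 ^ ((2 * k + 1) * j) = x := by
  induction j with
  | zero => simp
  | succ j ih =>
    rw [Nat.mul_succ, pow_add, pow_mul, ih, ← hK.card]
    exact FiniteField.pow_card x

/-- On the smaller field the two twisting maps agree. -/
theorem sg_eq_sg (hK : FH K k) (hdiv : 2 * k + 1 ∣ 2 * m + 1) (x : K) : sg m x = sg k x := by
  obtain ⟨d, hd⟩ := hdiv
  have hdodd : d % 2 = 1 := by
    rcases Nat.even_or_odd d with he | ho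
    · obtain ⟨e, rfl⟩ := he
      exfalso
      have : 2 * m + 1 = 2 * ((2 * k + 1) * e) := by rw [hd]; ring
      omega
    · exact Nat.odd_iff.1 ho
  obtain ⟨j, rfl⟩ : ∃ j, d = 2 * j + 1 := ⟨d / 2, by omega⟩
  have hm : m + 1 = (2 * k + 1) * j + (k + 1) := by
    have : 2 * m + 1 = 2 * ((2 * k + 1) * j) + (2 * k + 1) := by rw [hd]; ring
    omega
  unfold sg
  rw [hm, pow_add, pow_mul, pow_two_pow_mul hK]

omit [Fintype F] in
theorem sg_map (hK : FH K k) (hdiv : 2 * k + 1 ∣ 2 * m + 1) (ι : K →+* F) (x : K) :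
    ι (sg k x) = sg m (ι x) := by
  rw [← sg_eq_sg hK hdiv x]
  unfold sg
  rw [map_pow]

section maps

variable (ι : K →+* F) (hsg : ∀ x, ι (sg k x) = sg m (ι x))

include hsg

omit [Fintype F] [Fintype K] in
theorem map_Tel (a b : K) :
    Matrix.SpecialLinearGroup.map ι (Tel k a b) = Tel m (ι a) (ι b) := by
  apply Subtype.ext
  show ι.mapMatrix (Tmat k a b) = Tmat m (ι a) (ι b)
  ext i j
  rw [RingHom.mapMatrix_apply, Matrix.map_apply]
  fin_cases i <;> fin_cases j <;> simp [Tmat, hsg]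

omit [Fintype F] [Fintype K] in
theorem map_Hel {t : K} (ht : t ≠ 0) :
    Matrix.SpecialLinearGroup.map ι (Hel k t ht) = Hel m (ι t) ((map_ne_zero ι).2 ht) := by
  apply Subtype.ext
  show ι.mapMatrix (Hmat k t) = Hmat m (ι t)
  ext i j
  rw [RingHom.mapMatrix_apply, Matrix.map_apply]
  fin_cases i <;> fin_cases j <;> simp [Hmat, hsg]

omit hsg in
omit [Fintype F] [Fintype K] in
theorem map_Wel :
    Matrix.SpecialLinearGroup.map ι (Wel : Matrix.SpecialLinearGroup (Fin 4) K) = Wel := by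
  apply Subtype.ext
  show ι.mapMatrix (Wmat : Matrix (Fin 4) (Fin 4) K) = Wmat
  ext i j
  rw [RingHom.mapMatrix_apply, Matrix.map_apply]
  fin_cases i <;> fin_cases j <;> simp [Wmat]

theorem map_mem_Sz (hF : FH F m) (hK : FH K k) {g : Matrix.SpecialLinearGroup (Fin 4) K}
    (hg : g ∈ Cfsg.Sz K k) : Matrix.SpecialLinearGroup.map ι g ∈ Cfsg.Sz F m := by
  rcases eq_prod hK hg with ⟨a, b, t, ht, rfl⟩ | ⟨a, b, a', b', t, ht, rfl⟩
  · rw [map_mul, map_Tel ι hsg, map_Hel ι hsg]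
    exact Subgroup.mul_mem _ (Tel_mem hF _ _) (Hel_mem hF _)
  · rw [map_mul, map_mul, map_mul, map_Tel ι hsg, map_Tel ι hsg, map_Hel ι hsg, map_Wel]
    exact Subgroup.mul_mem _ (Subgroup.mul_mem _ (Tel_mem hF _ _) (Wel_mem hF))
      (Subgroup.mul_mem _ (Tel_mem hF _ _) (Hel_mem hF _))

/-- The embedding of the smaller Suzuki group. -/
def PhiHom (hF : FH F m) (hK : FH K k) : Cfsg.Sz K k →* Cfsg.Sz F m :=
  ((Matrix.SpecialLinearGroup.map ι).comp (Cfsg.Sz K k).subtype).codRestrict (Cfsg.Sz F m)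
    (fun g => map_mem_Sz ι hsg hF hK g.2)

theorem PhiHom_injective (hF : FH F m) (hK : FH K k) :
    Function.Injective (PhiHom ι hsg hF hK) := by
  intro g g' e
  have e1 : Matrix.SpecialLinearGroup.map ι (g : Matrix.SpecialLinearGroup (Fin 4) K) =
      Matrix.SpecialLinearGroup.map ι (g' : Matrix.SpecialLinearGroup (Fin 4) K) :=
    congrArg Subtype.val e
  apply Subtype.ext
  apply Subtype.ext
  ext i j
  have e2 := congrArg (fun M : Matrix.SpecialLinearGroup (Fin 4) F => M.1 i j) e1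
  simp only [Matrix.SpecialLinearGroup.map_apply_coe, RingHom.mapMatrix_apply,
    Matrix.map_apply] at e2
  exact ι.injective e2

theorem PhiHom_TelS (hF : FH F m) (hK : FH K k) (a b : K) :
    PhiHom ι hsg hF hK (TelS hK a b) = TelS hF (ι a) (ι b) :=
  Subtype.ext (map_Tel ι hsg a b)

theorem PhiHom_HelS (hF : FH F m) (hK : FH K k) (t : Kˣ) :
    PhiHom ι hsg hF hK (HelS hK t) = HelS hF (Units.map (ι : K →* F) t) :=
  Subtype.ext (map_Hel ι hsg t.ne_zero)

theorem PhiHom_WelS (hF : FH F m) (hK : FH K k) :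
    PhiHom ι hsg hF hK (WelS hK) = WelS hF :=
  Subtype.ext (map_Wel ι)

end maps

/-- A field embedding exists. -/
theorem exists_embedding (hF : FH F m) (hK : FH K k) (hdiv : 2 * k + 1 ∣ 2 * m + 1) :
    Nonempty (K →+* F) := by
  have := hF.charP
  have := hK.charP
  have : Fact (Nat.Prime 2) := ⟨Nat.prime_two⟩
  let _ : Algebra (ZMod 2) F := ZMod.algebra F 2
  let _ : Algebra (ZMod 2) K := ZMod.algebra K 2
  have hfr : Module.finrank (ZMod 2) F = 2 * m + 1 := by
    have := FiniteField.pow_finrank_eq_card 2 F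
    rw [hF.card] at this
    exact Nat.pow_right_injective (le_refl 2) this
  have hfk : Module.finrank (ZMod 2) K = 2 * k + 1 := by
    have := FiniteField.pow_finrank_eq_card 2 K
    rw [hK.card] at this
    exact Nat.pow_right_injective (le_refl 2) this
  obtain ⟨ι⟩ := FiniteField.nonempty_algHom_of_finrank_dvd (F := ZMod 2) (K := K)
    (L := F) (by rw [hfk, hfr]; exact hdiv)
  exact ⟨(ι : K →+* F)⟩

/-- Existence of subfield subgroups. -/
theorem exists_subgroup (hF : FH F m) (hK : FH K k) (hdiv : 2 * k + 1 ∣ 2 * m + 1) :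
    ∃ S : Subgroup (Cfsg.Sz F m), Nonempty (S ≃* Cfsg.Sz K k) := by
  obtain ⟨ι⟩ := exists_embedding hF hK hdiv
  have hsg := sg_map (m := m) hK hdiv ι
  exact ⟨(PhiHom ι hsg hF hK).range,
    ⟨(MonoidHom.ofInjective (PhiHom_injective ι hsg hF hK)).symm⟩⟩

end Cfsg.Agent.Helper8.SzSub
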