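import Mathlib
import Cfsg.Agent.Helper8.SzSubA
import Cfsg.Agent.Helper7.SzFix

set_option autoImplicit false

/-! The action of the Suzuki group on the points of its ovoid, at the level of the subgroup type. -/

namespace Cfsg.Agent.Helper8.SzSub

open Cfsg.Agent.Helper7.Sz Cfsg.Agent.Helper7 MulAction Cfsg.Agent.Helper8.LS
  Cfsg.Agent.Helper8.SzTI

variable {F : Type*} [Field F] [Fintype F] {m : ℕ}

/-- The affine points of the ovoid. -/
def pt (m : ℕ) (x y : F) : Cfsg.suzukiOvoid F m := ⟨Ppt m x y, Ppt_mem m x y⟩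

omit [Fintype F] in
theorem pt_ne_inf (x y : F) : pt m x y ≠ ωinf m := by
  intro e
  exact Ppt_ne_Pinf m x y (congrArg Subtype.val e)

omit [Fintype F] in
theorem pt_injective {x y x' y' : F} (e : pt m x y = pt m x' y') : x = x' ∧ y = y' :=
  Ppt_injective m (congrArg Subtype.val e)

omit [Fintype F] in
theorem eq_inf_or_pt (p : Cfsg.suzukiOvoid F m) : p = ωinf m ∨ ∃ x y : F, p = pt m x y := by
  obtain ⟨p, hp⟩ := p
  rcases (mem_ovoid_iff m p).1 hp with rfl | ⟨x, y, rfl⟩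
  · exact Or.inl rfl
  · exact Or.inr ⟨x, y, rfl⟩

theorem TelS_smul_inf (h : FH F m) (a b : F) : TelS h a b • (ωinf m : Cfsg.suzukiOvoid F m) = ωinf m :=
  Subtype.ext (Tel_smul_Pinf a b)

theorem TelS_smul_pt (h : FH F m) (a b x y : F) :
    TelS h a b • pt m x y = pt m (x + a) (y + b + sg m a * x) :=
  Subtype.ext (Tel_smul_Ppt h a b x y)

theorem HelS_smul_inf (h : FH F m) (t : Fˣ) : HelS h t • (ωinf m : Cfsg.suzukiOvoid F m) = ωinf m :=
  Subtype.ext (Hel_smul_Pinf t.ne_zero)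

theorem HelS_smul_pt (h : FH F m) (t : Fˣ) (x y : F) :
    HelS h t • pt m x y = pt m (sg m (t : F) * x) (sg m (t : F) * ((t : F) * t) * y) :=
  Subtype.ext (Hel_smul_Ppt h t.ne_zero x y)

theorem WelS_smul_inf (h : FH F m) : WelS h • (ωinf m : Cfsg.suzukiOvoid F m) = pt m (0 : F) 0 :=
  Subtype.ext (Wel_smul_Pinf (m := m))

theorem WelS_smul_zero (h : FH F m) : WelS h • pt m (0 : F) 0 = ωinf m :=
  Subtype.ext Wel_smul_Ppt_zero

theorem WelS_smul_pt (h : FH F m) {x y : F} (hf : ff m x y ≠ 0) :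
    WelS h • pt m x y = pt m (y / ff m x y) (x / ff m x y) :=
  Subtype.ext (Wel_smul_Ppt h hf)

theorem HelS_one (h : FH F m) : HelS h 1 = 1 := by
  apply Subtype.ext
  exact Hel_one

theorem HelS_mul (h : FH F m) (t u : Fˣ) : HelS h t * HelS h u = HelS h (t * u) := by
  apply Subtype.ext
  exact Hel_mul t.ne_zero u.ne_zero

theorem HelS_inv (h : FH F m) (t : Fˣ) : (HelS h t)⁻¹ = HelS h t⁻¹ := by
  rw [inv_eq_iff_mul_eq_one, HelS_mul, mul_inv_cancel, HelS_one]

theorem HelS_injective (h : FH F m) : Function.Injective (HelS h) := by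
  intro t u e
  have e1 : Hel m (t : F) t.ne_zero = Hel m (u : F) u.ne_zero := congrArg Subtype.val e
  exact Units.ext (Hel_injective e1)

theorem WelS_mul_WelS (h : FH F m) : WelS h * WelS h = 1 := by
  apply Subtype.ext
  exact Wel_mul_Wel

omit [Fintype F] in
theorem Hel_congr {t u : F} (e : t = u) (ht : t ≠ 0) (hu : u ≠ 0) : Hel m t ht = Hel m u hu := by
  subst e
  rfl

theorem WelS_HelS_WelS (h : FH F m) (t : Fˣ) : WelS h * HelS h t * WelS h = HelS h t⁻¹ := by
  apply Subtype.ext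
  have := Wel_Hel_Wel (m := m) t.ne_zero
  show Wel * Hel m (t : F) t.ne_zero * Wel = Hel m ((t⁻¹ : Fˣ) : F) (t⁻¹).ne_zero
  rw [this]
  exact Hel_congr (Units.val_inv_eq_inv_val t).symm _ _

theorem HelS_TelS (h : FH F m) (t : Fˣ) (a b : F) :
    HelS h t * TelS h a b * (HelS h t)⁻¹ =
      TelS h (sg m (t : F) * a) ((t : F) * t * sg m (t : F) * b) := by
  have : HelS h t * TelS h a b =
      TelS h (sg m (t : F) * a) ((t : F) * t * sg m (t : F) * b) * HelS h t :=
    Subtype.ext (Hel_mul_Tel h t.ne_zero a b)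
  rw [this]
  group

/-- An element fixing the two base points is in the torus. -/
theorem eq_HelS_of_fix (h : FH F m) {x : Cfsg.Sz F m} (h1 : x • (ωinf m : Cfsg.suzukiOvoid F m) = ωinf m)
    (h2 : x • pt m (0 : F) 0 = pt m 0 0) : ∃ t : Fˣ, x = HelS h t := by
  have h1' : (x : Matrix.SpecialLinearGroup (Fin 4) F) •
      (Pinf : Projectivization F (Fin 4 → F)) = Pinf := congrArg Subtype.val h1
  have h2' : (x : Matrix.SpecialLinearGroup (Fin 4) F) • Ppt m (0 : F) 0 = Ppt m 0 0 :=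
    congrArg Subtype.val h2
  obtain ⟨t, ht, e⟩ := eq_Hel h x.2 h1' h2'
  exact ⟨Units.mk0 t ht, Subtype.ext e⟩

/-- An element interchanging the two base points. -/
theorem eq_WelS_mul_HelS (h : FH F m) {x : Cfsg.Sz F m} (h1 : x • (ωinf m : Cfsg.suzukiOvoid F m) = pt m (0 : F) 0)
    (h2 : x • pt m (0 : F) 0 = (ωinf m : Cfsg.suzukiOvoid F m)) : ∃ t : Fˣ, x = WelS h * HelS h t := by
  have h1' : (x : Matrix.SpecialLinearGroup (Fin 4) F) •
      (Pinf : Projectivization F (Fin 4 → F)) = Ppt m 0 0 := congrArg Subtype.val h1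
  have h2' : (x : Matrix.SpecialLinearGroup (Fin 4) F) • Ppt m (0 : F) 0 = Pinf :=
    congrArg Subtype.val h2
  obtain ⟨t, ht, e⟩ := eq_Wel_mul_Hel h x.2 h1' h2'
  exact ⟨Units.mk0 t ht, Subtype.ext e⟩

/-- Only the identity fixes three points. -/
theorem eq_one_of_fix_three' (h : FH F m) {x : Cfsg.Sz F m} {p q r : Cfsg.suzukiOvoid F m}
    (hpq : p ≠ q) (hqr : q ≠ r) (hpr : p ≠ r) (fp : x • p = p) (fq : x • q = q) (fr : x • r = r) :
    x = 1 := by
  apply Subtype.ext
  exact eq_one_of_fix_three h x.2 p.2 q.2 r.2 (fun e => hpq (Subtype.ext e))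
    (fun e => hqr (Subtype.ext e)) (fun e => hpr (Subtype.ext e))
    (congrArg Subtype.val fp) (congrArg Subtype.val fq) (congrArg Subtype.val fr)

/-- The fixed points of a non-trivial torus element. -/
theorem HelS_fix (h : FH F m) {t : Fˣ} (ht : t ≠ 1) {p : Cfsg.suzukiOvoid F m}
    (hp : HelS h t • p = p) : p = ωinf m ∨ p = pt m 0 0 := by
  by_contra hcon
  rw [not_or] at hcon
  have h0 : HelS h t • pt m (0 : F) 0 = pt m 0 0 := by
    rw [HelS_smul_pt, mul_zero, mul_zero]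
  have := eq_one_of_fix_three' h (fun e => hcon.1 e) (pt_ne_inf (m := m) (0 : F) 0).symm
    (fun e => hcon.2 e) hp (HelS_smul_inf h t) h0
  rw [← HelS_one h] at this
  exact ht (HelS_injective h this)

theorem TelS_ne_one (h : FH F m) {a b : F} (hab : a ≠ 0 ∨ b ≠ 0) : TelS h a b ≠ 1 := by
  intro e
  rw [← TelS_zero h] at e
  obtain ⟨rfl, rfl⟩ := TelS_injective h e
  rcases hab with h1 | h1 <;> exact h1 rfl

theorem TelS_pow_four (h : FH F m) (a b : F) : TelS h a b ^ 4 = 1 := by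
  apply Subtype.ext
  exact Tel_pow_four h a b

end Cfsg.Agent.Helper8.SzSub
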