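import Mathlib
import Cfsg.Agent.Helper8.SzSubB

set_option autoImplicit false

/-! Embeddings of a smaller Suzuki group: normalising the image of the Borel subgroup. -/

namespace Cfsg.Agent.Helper8.SzSub

open Cfsg.Agent.Helper7.Sz Cfsg.Agent.Helper7 MulAction Cfsg.Agent.Helper8.LS
  Cfsg.Agent.Helper8.SzTI

variable {F : Type*} [Field F] [Fintype F] {m : ℕ}
variable {K : Type*} [Field K] [Fintype K] {k : ℕ}

/-- The conjugate of a homomorphism. -/
def cj (g : Cfsg.Sz F m) (ψ : Cfsg.Sz K k →* Cfsg.Sz F m) : Cfsg.Sz K k →* Cfsg.Sz F m :=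
  (MulAut.conj g).toMonoidHom.comp ψ

omit [Fintype F] [Fintype K] in
theorem cj_apply (g : Cfsg.Sz F m) (ψ : Cfsg.Sz K k →* Cfsg.Sz F m) (x : Cfsg.Sz K k) :
    cj g ψ x = g * ψ x * g⁻¹ := rfl

omit [Fintype F] [Fintype K] in
theorem cj_cj (g g' : Cfsg.Sz F m) (ψ : Cfsg.Sz K k →* Cfsg.Sz F m) :
    cj g (cj g' ψ) = cj (g * g') ψ := by
  ext1 x
  rw [cj_apply, cj_apply, cj_apply]
  group

omit [Fintype F] [Fintype K] in
theorem cj_injective (g : Cfsg.Sz F m) {ψ : Cfsg.Sz K k →* Cfsg.Sz F m}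
    (hψ : Function.Injective ψ) : Function.Injective (cj g ψ) := by
  intro x y e
  rw [cj_apply, cj_apply] at e
  exact hψ (mul_left_cancel (mul_right_cancel e))

omit [Fintype F] [Fintype K] in
theorem range_cj (g : Cfsg.Sz F m) (ψ : Cfsg.Sz K k →* Cfsg.Sz F m) :
    (cj g ψ).range = ψ.range.map (MulAut.conj g).toMonoidHom := by
  unfold cj
  rw [MonoidHom.range_eq_map, MonoidHom.range_eq_map, Subgroup.map_map]

theorem HelS_pow (h : FH F m) (t : Fˣ) (n : ℕ) : HelS h t ^ n = HelS h (t ^ n) := by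
  induction n with
  | zero => rw [pow_zero, pow_zero, HelS_one]
  | succ n ih => rw [pow_succ, pow_succ, ← HelS_mul, ih]

/-- First normalisation: the image of the unipotent subgroup lies in the unipotent subgroup. -/
theorem exists_cj_Usub (hF : FH F m) (hK : FH K k) {ψ : Cfsg.Sz K k →* Cfsg.Sz F m}
    (hψ : Function.Injective ψ) :
    ∃ g : Cfsg.Sz F m, ∀ a b : K, cj g ψ (TelS hK a b) ∈ Usub hF := by
  have : Fact (Nat.Prime 2) := ⟨Nat.prime_two⟩
  have hcard : Nat.card ((Usub hK).map ψ) = 2 ^ (2 * (2 * k + 1)) := by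
    rw [Subgroup.card_map_of_injective hψ, card_Usub hK, hK.card, pow_mul' 2 2, pow_two]
  have hp : IsPGroup 2 ((Usub hK).map ψ) := IsPGroup.of_card hcard
  obtain ⟨P, hP⟩ := hp.exists_le_sylow
  let PU : Sylow 2 (Cfsg.Sz F m) := Sylow.ofCard (Usub hF) (card_Usub_eq hF)
  obtain ⟨y, hy⟩ := MulAction.exists_smul_eq (Cfsg.Sz F m) PU P
  have hmem : ∀ x, x ∈ (P : Subgroup (Cfsg.Sz F m)) ↔ y⁻¹ * x * y ∈ Usub hF := by
    intro x
    rw [← hy, Sylow.coe_subgroup_smul, Subgroup.mem_pointwise_smul_iff_inv_smul_mem]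
    show (MulAut.conj y)⁻¹ x ∈ Usub hF ↔ _
    rw [MulAut.conj_inv_apply]
  refine ⟨y⁻¹, fun a b => ?_⟩
  rw [cj_apply, inv_inv]
  exact (hmem _).1 (hP ⟨TelS hK a b, ⟨a, b, rfl⟩, rfl⟩)

/-- The image of a torus element fixes the point at infinity. -/
theorem fix_inf_of_Usub (hF : FH F m) (hK : FH K k) {ψ : Cfsg.Sz K k →* Cfsg.Sz F m}
    (hψ : Function.Injective ψ) (hU : ∀ a b : K, ψ (TelS hK a b) ∈ Usub hF) (t : Kˣ) :
    ψ (HelS hK t) • (ωinf m : Cfsg.suzukiOvoid F m) = ωinf m := by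
  have h1 : ψ (TelS hK 1 0) ≠ 1 := by
    intro e
    rw [← map_one ψ] at e
    exact TelS_ne_one hK (Or.inl one_ne_zero) (hψ e)
  refine fix_of_conj hF (hU _ _) (hU 1 0) h1 (x := ψ (HelS hK t))
    (u := ψ (TelS hK (sg k (t : K) * 1) ((t : K) * t * sg k (t : K) * 0))) ?_
  rw [← map_inv, ← map_mul, ← map_mul, HelS_TelS]

/-- Second normalisation: the image of the torus lies in the torus. -/
theorem exists_cj_std (hF : FH F m) (hK : FH K k) {ψ : Cfsg.Sz K k →* Cfsg.Sz F m}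
    (hψ : Function.Injective ψ) (hU : ∀ a b : K, ψ (TelS hK a b) ∈ Usub hF) :
    ∃ g : Cfsg.Sz F m, (∀ a b : K, cj g ψ (TelS hK a b) ∈ Usub hF) ∧
      ∀ t : Kˣ, ∃ t' : Fˣ, cj g ψ (HelS hK t) = HelS hF t' := by
  obtain ⟨b₁, hb0, hb1⟩ := exists_ne_zero_one hK
  let t₁ : Kˣ := Units.mk0 b₁ hb0
  have ht₁ : t₁ ≠ 1 := by
    intro e
    exact hb1 (congrArg Units.val e)
  obtain ⟨c, d, χ₁, e₁⟩ := eq_TelS_mul_HelS hF (fix_inf_of_Usub hF hK hψ hU t₁)
  have hχ₁ : χ₁ ≠ 1 := by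
    rintro rfl
    rw [HelS_one, mul_one] at e₁
    have h4 : ψ (HelS hK t₁ ^ 4) = 1 := by
      rw [map_pow, e₁, TelS_pow_four]
    rw [← map_one ψ] at h4
    have h5 := hψ h4
    have h6 : HelS hK (t₁ ^ 4) = HelS hK 1 := by
      rw [HelS_one, ← h5, HelS_pow]
    have h7 : t₁ ^ 4 = 1 := HelS_injective hK h6
    have h8 : (b₁ * b₁) * (b₁ * b₁) = 1 := by
      have := congrArg Units.val h7
      rw [Units.val_pow_eq_pow_val, Units.val_one] at this
      rw [← this]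
      show _ = b₁ ^ 4
      ring
    exact hb1 (pow_four_eq_one hK h8)
  -- the second fixed point
  obtain ⟨x, y, hxy⟩ := exists_fixed_affine hF c d χ₁.ne_zero
    (fun e => hχ₁ (Units.ext e))
  have hfix : ψ (HelS hK t₁) • pt m x y = pt m x y := by
    rw [e₁]
    exact Subtype.ext hxy
  -- conjugate by the translation
  refine ⟨(TelS hF x y)⁻¹, ?_, ?_⟩
  · intro a b
    rw [cj_apply, inv_inv]
    exact (Usub hF).mul_mem ((Usub hF).mul_mem ((Usub hF).inv_mem ⟨x, y, rfl⟩) (hU a b))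
      ⟨x, y, rfl⟩
  · have hT0 : TelS hF x y • pt m (0 : F) 0 = pt m x y := by
      rw [TelS_smul_pt, zero_add, mul_zero, add_zero, zero_add]
    have hfixinf : ∀ t : Kˣ, cj (TelS hF x y)⁻¹ ψ (HelS hK t) •
        (ωinf m : Cfsg.suzukiOvoid F m) = ωinf m := by
      intro t
      rw [cj_apply, inv_inv, mul_smul, mul_smul, TelS_smul_inf,
        fix_inf_of_Usub hF hK hψ hU t, inv_smul_eq_iff, TelS_smul_inf]
    have hfix0 : cj (TelS hF x y)⁻¹ ψ (HelS hK t₁) • pt m (0 : F) 0 = pt m 0 0 := by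
      rw [cj_apply, inv_inv, mul_smul, mul_smul, hT0, hfix, inv_smul_eq_iff, hT0]
    obtain ⟨χ, hχ⟩ := eq_HelS_of_fix hF (hfixinf t₁) hfix0
    have hχ1 : χ ≠ 1 := by
      rintro rfl
      rw [HelS_one, ← map_one (cj (TelS hF x y)⁻¹ ψ)] at hχ
      exact ht₁ (HelS_injective hK ((cj_injective _ hψ hχ).trans (HelS_one hK).symm))
    intro t
    apply eq_HelS_of_fix hF (hfixinf t)
    -- the image commutes with `HelS χ`, so permutes its fixed points
    have hcomm : cj (TelS hF x y)⁻¹ ψ (HelS hK t) * HelS hF χ =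
        HelS hF χ * cj (TelS hF x y)⁻¹ ψ (HelS hK t) := by
      rw [← hχ, ← map_mul, ← map_mul, HelS_mul, HelS_mul, mul_comm]
    have h0 : HelS hF χ • pt m (0 : F) 0 = pt m 0 0 := by
      rw [HelS_smul_pt, mul_zero, mul_zero]
    have hfixq : HelS hF χ • (cj (TelS hF x y)⁻¹ ψ (HelS hK t) • pt m (0 : F) 0) =
        cj (TelS hF x y)⁻¹ ψ (HelS hK t) • pt m (0 : F) 0 := by
      rw [← mul_smul, ← hcomm, mul_smul, h0]
    rcases HelS_fix hF hχ1 hfixq with e | e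
    · exfalso
      have := (hfixinf t).trans e.symm
      have h2 := smul_left_cancel _ this
      exact (pt_ne_inf (m := m) (0 : F) 0) h2.symm
    · exact e

end Cfsg.Agent.Helper8.SzSub
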