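import Mathlib
import Cfsg.Agent.Helper8.SzSubC

set_option autoImplicit false

/-! Embeddings of a smaller Suzuki group: the coordinate functions of a normalised embedding. -/

namespace Cfsg.Agent.Helper8.SzSub

open Cfsg.Agent.Helper7.Sz Cfsg.Agent.Helper7 MulAction Cfsg.Agent.Helper8.LS
  Cfsg.Agent.Helper8.SzTI

variable {F : Type*} [Field F] [Fintype F] {m : ℕ}
variable {K : Type*} [Field K] [Fintype K] {k : ℕ}

/-- The coordinate functions of a normalised embedding. -/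
structure StdData (hF : FH F m) (hK : FH K k) (ψ : Cfsg.Sz K k →* Cfsg.Sz F m) where
  α : K → F
  g : K → F
  β : K → F
  χ : Kˣ → Fˣ
  hαg : ∀ a, ψ (TelS hK a 0) = TelS hF (α a) (g a)
  hβ : ∀ b, ψ (TelS hK 0 b) = TelS hF 0 (β b)
  hχ : ∀ t, ψ (HelS hK t) = HelS hF (χ t)

theorem exists_stdData (hF : FH F m) (hK : FH K k) {ψ : Cfsg.Sz K k →* Cfsg.Sz F m}
    (hU : ∀ a b : K, ψ (TelS hK a b) ∈ Usub hF)
    (hH : ∀ t : Kˣ, ∃ t' : Fˣ, ψ (HelS hK t) = HelS hF t') :
    Nonempty (StdData hF hK ψ) := by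
  choose α g hαg using fun a => (mem_Usub hF _).1 (hU a 0)
  have hβ' : ∀ b, ∃ b', ψ (TelS hK 0 b) = TelS hF 0 b' := by
    intro b
    obtain ⟨a', b', e⟩ := (mem_Usub hF _).1 (hU 0 b)
    have hsq : TelS hF a' b' * TelS hF a' b' = 1 := by
      rw [← e, ← map_mul, TelS_mul, hK.add_self, hK.add_self, sg_zero, zero_mul, add_zero,
        TelS_zero, map_one]
    refine ⟨b', ?_⟩
    rw [e, eq_zeta_of_sq hF hsq]
    rfl
  choose β hβ using hβ'
  choose χ hχ using hH
  exact ⟨⟨α, g, β, χ, hαg, hβ, hχ⟩⟩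

namespace StdData

variable {hF : FH F m} {hK : FH K k} {ψ : Cfsg.Sz K k →* Cfsg.Sz F m} (D : StdData hF hK ψ)

theorem map_TelS (a b : K) : ψ (TelS hK a b) = TelS hF (D.α a) (D.g a + D.β b) := by
  have e : TelS hK a b = TelS hK a 0 * TelS hK 0 b := by
    rw [TelS_mul, add_zero, zero_add, mul_zero, add_zero]
  rw [e, map_mul, D.hαg, D.hβ, TelS_mul, add_zero, mul_zero, add_zero]

theorem α_zero : D.α 0 = 0 := by
  have := D.hαg 0
  rw [TelS_zero, map_one, ← TelS_zero hF] at this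
  exact (TelS_injective hF this).1.symm

theorem g_zero : D.g 0 = 0 := by
  have := D.hαg 0
  rw [TelS_zero, map_one, ← TelS_zero hF] at this
  exact (TelS_injective hF this).2.symm

theorem β_zero : D.β 0 = 0 := by
  have := D.hβ 0
  rw [TelS_zero, map_one, ← TelS_zero hF] at this
  exact (TelS_injective hF this).2.symm

theorem β_add (b b' : K) : D.β (b + b') = D.β b + D.β b' := by
  have e : TelS hK 0 (b + b') = TelS hK 0 b * TelS hK 0 b' := by
    rw [TelS_mul, add_zero, sg_zero, zero_mul, add_zero]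
  have := D.hβ (b + b')
  rw [e, map_mul, D.hβ, D.hβ, TelS_mul, add_zero, sg_zero, zero_mul, add_zero] at this
  exact (TelS_injective hF this).2.symm

/-- The product relation. -/
theorem mul_rel (a a' : K) :
    D.α (a + a') = D.α a + D.α a' ∧
      D.g (a + a') + D.β (sg k a * a') = D.g a + D.g a' + sg m (D.α a) * D.α a' := by
  have e : TelS hK a 0 * TelS hK a' 0 = TelS hK (a + a') (sg k a * a') := by
    rw [TelS_mul, add_zero, zero_add]
  have h1 := congrArg ψ e
  rw [map_mul, D.hαg, D.hαg, D.map_TelS, TelS_mul] at h1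
  obtain ⟨h2, h3⟩ := TelS_injective hF h1
  exact ⟨h2.symm, h3.symm⟩

theorem α_add (a a' : K) : D.α (a + a') = D.α a + D.α a' := (D.mul_rel a a').1

/-- The torus relation. -/
theorem torus_rel (t : Kˣ) (a b : K) :
    D.α (sg k (t : K) * a) = sg m ((D.χ t : Fˣ) : F) * D.α a ∧
      D.g (sg k (t : K) * a) + D.β ((t : K) * t * sg k (t : K) * b) =
        ((D.χ t : Fˣ) : F) * (D.χ t : Fˣ) * sg m ((D.χ t : Fˣ) : F) * (D.g a + D.β b) := by
  have e := HelS_TelS hK t a b
  have h1 := congrArg ψ e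
  rw [map_mul, map_mul, map_inv, D.hχ, D.map_TelS, D.map_TelS, HelS_TelS] at h1
  obtain ⟨h2, h3⟩ := TelS_injective hF h1
  exact ⟨h2.symm, h3.symm⟩

theorem α_sg (t : Kˣ) (a : K) :
    D.α (sg k (t : K) * a) = sg m ((D.χ t : Fˣ) : F) * D.α a := (D.torus_rel t a 0).1

theorem β_kappa (t : Kˣ) (b : K) :
    D.β ((t : K) * t * sg k (t : K) * b) =
      ((D.χ t : Fˣ) : F) * (D.χ t : Fˣ) * sg m ((D.χ t : Fˣ) : F) * D.β b := by
  have := (D.torus_rel t 0 b).2
  rw [mul_zero, D.g_zero, zero_add, zero_add] at this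
  exact this

theorem g_sg (t : Kˣ) (a : K) :
    D.g (sg k (t : K) * a) =
      ((D.χ t : Fˣ) : F) * (D.χ t : Fˣ) * sg m ((D.χ t : Fˣ) : F) * D.g a := by
  have := (D.torus_rel t a 0).2
  rw [mul_zero, D.β_zero, add_zero, add_zero] at this
  exact this

theorem α_eq_zero (hψ : Function.Injective ψ) {a : K} (ha : D.α a = 0) : a = 0 := by
  have h1 : ψ (TelS hK a 0 * TelS hK a 0) = 1 := by
    rw [map_mul, D.hαg, ha, TelS_mul, hF.add_self, hF.add_self, sg_zero, zero_mul, add_zero,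
      TelS_zero]
  rw [← map_one ψ] at h1
  have h2 := hψ h1
  rw [TelS_mul, ← TelS_zero hK] at h2
  have h3 := (TelS_injective hK h2).2
  rw [add_zero, zero_add] at h3
  rcases mul_eq_zero.1 h3 with h4 | h4
  · exact sg_eq_zero.1 h4
  · exact h4

theorem α_one_ne_zero (hψ : Function.Injective ψ) : D.α 1 ≠ 0 :=
  fun e => one_ne_zero (D.α_eq_zero hψ e)

end StdData

end Cfsg.Agent.Helper8.SzSub
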