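import Mathlib
import Cfsg.Agent.Helper8.SzSubD

set_option autoImplicit false

/-! Embeddings of a smaller Suzuki group: the field embedding attached to a normalised embedding. -/

namespace Cfsg.Agent.Helper8.SzSub

open Cfsg.Agent.Helper7.Sz Cfsg.Agent.Helper7 MulAction Cfsg.Agent.Helper8.LS
  Cfsg.Agent.Helper8.SzTI

variable {F : Type*} [Field F] [Fintype F] {m : ℕ}
variable {K : Type*} [Field K] [Fintype K] {k : ℕ}

theorem exists_unit_sg (hK : FH K k) {c : K} (hc : c ≠ 0) : ∃ t : Kˣ, sg k (t : K) = c := by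
  obtain ⟨t, ht⟩ := hK.sg_surjective c
  have ht0 : t ≠ 0 := by
    rintro rfl
    rw [sg_zero] at ht
    exact hc ht.symm
  exact ⟨Units.mk0 t ht0, ht⟩

namespace StdData

variable {hF : FH F m} {hK : FH K k} {ψ : Cfsg.Sz K k →* Cfsg.Sz F m} (D : StdData hF hK ψ)

theorem α_mul (c a : K) : D.α (c * a) * D.α 1 = D.α c * D.α a := by
  by_cases hc : c = 0
  · subst hc
    rw [zero_mul, D.α_zero, zero_mul, zero_mul]
  · obtain ⟨t, rfl⟩ := exists_unit_sg hK hc
    have h1 := D.α_sg t a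
    have h2 := D.α_sg t 1
    rw [mul_one] at h2
    rw [h1, h2]
    ring

/-- The field embedding. -/
noncomputable def ι (hψ : Function.Injective ψ) : K →+* F where
  toFun a := D.α a / D.α 1
  map_one' := div_self (D.α_one_ne_zero hψ)
  map_mul' c a := by
    have h := D.α_mul c a
    have h1 := D.α_one_ne_zero hψ
    rw [div_mul_div_comm, div_eq_div_iff h1 (mul_ne_zero h1 h1)]
    linear_combination (D.α 1) * h
  map_zero' := by rw [D.α_zero, zero_div]
  map_add' a b := by rw [D.α_add, add_div]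

theorem ι_apply (hψ : Function.Injective ψ) (a : K) : D.ι hψ a = D.α a / D.α 1 := rfl

theorem α_eq (hψ : Function.Injective ψ) (a : K) : D.α a = D.α 1 * D.ι hψ a := by
  rw [ι_apply, mul_div_cancel₀ _ (D.α_one_ne_zero hψ)]

variable (hdiv : 2 * k + 1 ∣ 2 * m + 1)

include hdiv

theorem χ_eq (hψ : Function.Injective ψ) (t : Kˣ) : ((D.χ t : Fˣ) : F) = D.ι hψ (t : K) := by
  apply hF.sg_injective
  rw [← sg_map hK hdiv, ι_apply]
  have h2 := D.α_sg t 1
  rw [mul_one] at h2
  rw [h2, mul_div_assoc, div_self (D.α_one_ne_zero hψ), mul_one]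

theorem χ_eq' (hψ : Function.Injective ψ) (t : Kˣ) :
    D.χ t = Units.map (D.ι hψ : K →* F) t :=
  Units.ext (D.χ_eq hdiv hψ t)

theorem β_eq (hψ : Function.Injective ψ) (b : K) : D.β b = D.β 1 * D.ι hψ b := by
  by_cases hb : b = 0
  · subst hb
    rw [D.β_zero, map_zero, mul_zero]
  · obtain ⟨t, rfl⟩ := exists_kappa hK hb
    have h1 := D.β_kappa t 1
    rw [mul_one] at h1
    rw [h1, D.χ_eq hdiv hψ, map_mul, map_mul, sg_map hK hdiv]
    ring

theorem β_one (hψ : Function.Injective ψ) : D.β 1 = sg m (D.α 1) * D.α 1 := by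
  obtain ⟨a, c, hv⟩ := exists_comm_form hK (1 : K)
  have E1 := (D.mul_rel a c).2
  have E2 := (D.mul_rel c a).2
  rw [add_comm c a] at E2
  have hβ := D.β_add (sg k a * c) (sg k c * a)
  rw [hv] at hβ
  have h2 := hF.two_eq_zero
  have hι : D.ι hψ (sg k a * c + sg k c * a) = 1 := by rw [hv, map_one]
  rw [map_add, map_mul, map_mul, sg_map hK hdiv, sg_map hK hdiv] at hι
  rw [D.α_eq hψ a, D.α_eq hψ c, sg_mul] at E1 E2
  linear_combination hβ + E1 + E2 + (D.g a + D.g c - D.g (a + c)) * h2 +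
    (sg m (D.α 1) * D.α 1) * hι

theorem g_add (hψ : Function.Injective ψ) (a a' : K) : D.g (a + a') = D.g a + D.g a' := by
  have E1 := (D.mul_rel a a').2
  have hβ := D.β_eq hdiv hψ (sg k a * a')
  rw [D.β_one hdiv hψ, map_mul, sg_map hK hdiv] at hβ
  rw [hβ, D.α_eq hψ a, D.α_eq hψ a', sg_mul] at E1
  linear_combination E1

theorem g_eq (hψ : Function.Injective ψ) (c : K) :
    D.g c = D.ι hψ (sg k c * c) * D.g 1 := by
  by_cases hc : c = 0
  · subst hc
    rw [D.g_zero, mul_zero, map_zero, zero_mul]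
  · obtain ⟨t, rfl⟩ := exists_unit_sg hK hc
    have h1 := D.g_sg t 1
    rw [mul_one] at h1
    rw [h1, D.χ_eq hdiv hψ, hK.sg_sg, map_mul, map_mul, sg_map hK hdiv]

theorem g_one (hψ : Function.Injective ψ) : D.g 1 = 0 := by
  obtain ⟨a, c, hv⟩ := exists_comm_form hK (1 : K)
  have h1 := D.g_add hdiv hψ a c
  rw [D.g_eq hdiv hψ (a + c), D.g_eq hdiv hψ a, D.g_eq hdiv hψ c] at h1
  have e : sg k (a + c) * (a + c) = sg k a * a + sg k c * c + 1 := by
    rw [hK.sg_add, ← hv]
    ring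
  rw [e, map_add, map_add, map_one] at h1
  linear_combination h1

theorem g_eq_zero (hψ : Function.Injective ψ) (c : K) : D.g c = 0 := by
  rw [D.g_eq hdiv hψ, D.g_one hdiv hψ, mul_zero]

/-- The normal form of a normalised embedding on the Borel subgroup. -/
theorem map_TelS' (hψ : Function.Injective ψ) (a b : K) :
    ψ (TelS hK a b) =
      TelS hF (D.α 1 * D.ι hψ a) (sg m (D.α 1) * D.α 1 * D.ι hψ b) := by
  rw [D.map_TelS, D.g_eq_zero hdiv hψ, zero_add, D.α_eq hψ a, D.β_eq hdiv hψ b, D.β_one hdiv hψ]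

theorem map_HelS' (hψ : Function.Injective ψ) (t : Kˣ) :
    ψ (HelS hK t) = HelS hF (Units.map (D.ι hψ : K →* F) t) := by
  rw [D.hχ, D.χ_eq' hdiv hψ]

end StdData

end Cfsg.Agent.Helper8.SzSub
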