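import Mathlib
import Cfsg.Agent.Helper8.SzSubE

set_option autoImplicit false

/-! Embeddings of a smaller Suzuki group: the standard form on the Borel subgroup and the Weyl
element. -/

namespace Cfsg.Agent.Helper8.SzSub

open Cfsg.Agent.Helper7.Sz Cfsg.Agent.Helper7 MulAction Cfsg.Agent.Helper8.LS
  Cfsg.Agent.Helper8.SzTI

variable {F : Type*} [Field F] [Fintype F] {m : ℕ}
variable {K : Type*} [Field K] [Fintype K] {k : ℕ}

/-- After conjugation an embedding is standard on the Borel subgroup. -/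
theorem exists_cj_borel (hF : FH F m) (hK : FH K k) (hdiv : 2 * k + 1 ∣ 2 * m + 1)
    {ψ : Cfsg.Sz K k →* Cfsg.Sz F m} (hψ : Function.Injective ψ) :
    ∃ (g : Cfsg.Sz F m) (ι : K →+* F),
      (∀ a b : K, cj g ψ (TelS hK a b) = TelS hF (ι a) (ι b)) ∧
      ∀ t : Kˣ, cj g ψ (HelS hK t) = HelS hF (Units.map (ι : K →* F) t) := by
  obtain ⟨g₁, hg₁⟩ := exists_cj_Usub hF hK hψ
  have hψ₁ := cj_injective g₁ hψ
  obtain ⟨g₂, hg₂U, hg₂H⟩ := exists_cj_std hF hK hψ₁ hg₁
  have hψ₂ := cj_injective g₂ hψ₁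
  obtain ⟨D⟩ := exists_stdData hF hK hg₂U hg₂H
  have hα1 := D.α_one_ne_zero hψ₂
  obtain ⟨lam, hlam⟩ := exists_unit_sg hF (inv_ne_zero hα1)
  refine ⟨HelS hF lam * (g₂ * g₁), D.ι hψ₂, ?_, ?_⟩
  · intro a b
    rw [← cj_cj, ← cj_cj, cj_apply, D.map_TelS' hdiv hψ₂, HelS_TelS, hlam]
    have e1 : (D.α 1)⁻¹ * (D.α 1 * D.ι hψ₂ a) = D.ι hψ₂ a := by
      rw [← mul_assoc, inv_mul_cancel₀ hα1, one_mul]
    have e2 : (lam : F) * lam * (D.α 1)⁻¹ * (sg m (D.α 1) * D.α 1 * D.ι hψ₂ b) = D.ι hψ₂ b := by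
      have e3 : (lam : F) * lam = sg m (D.α 1)⁻¹ := by rw [← hF.sg_sg, hlam]
      rw [e3, sg_inv]
      have hs : sg m (D.α 1) ≠ 0 := sg_ne_zero hα1
      field_simp
    rw [e1, e2]
  · intro t
    rw [← cj_cj, ← cj_cj, cj_apply, D.map_HelS' hdiv hψ₂, HelS_inv, HelS_mul, HelS_mul]
    congr 1
    rw [mul_comm, ← mul_assoc, inv_mul_cancel, one_mul]

/-- The image of the Weyl element under an embedding that is standard on the Borel subgroup. -/
theorem map_WelS (hF : FH F m) (hK : FH K k) {ψ : Cfsg.Sz K k →* Cfsg.Sz F m}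
    (hψ : Function.Injective ψ) (ι : K →+* F)
    (hT : ∀ a b : K, ψ (TelS hK a b) = TelS hF (ι a) (ι b))
    (hH : ∀ t : Kˣ, ψ (HelS hK t) = HelS hF (Units.map (ι : K →* F) t)) :
    ψ (WelS hK) = WelS hF := by
  set w' := ψ (WelS hK) with hw'
  have hww : w' * w' = 1 := by
    rw [hw', ← map_mul, WelS_mul_WelS, map_one]
  have hwinv : w'⁻¹ = w' := inv_eq_of_mul_eq_one_left hww
  -- a non-trivial torus element
  obtain ⟨b₁, hb0, hb1⟩ := exists_ne_zero_one hK
  let t₁ : Kˣ := Units.mk0 b₁ hb0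
  have ht₁ : Units.map (ι : K →* F) t₁ ≠ 1 := by
    intro e
    have e1 : ι b₁ = 1 := congrArg Units.val e
    rw [← map_one ι] at e1
    exact hb1 (ι.injective e1)
  set hh := HelS hF (Units.map (ι : K →* F) t₁) with hhh
  have hrel : w' * hh * w' = hh⁻¹ := by
    have := congrArg ψ (WelS_HelS_WelS hK t₁)
    rw [map_mul, map_mul, hH, hH, map_inv] at this
    rw [hhh, HelS_inv]
    exact this
  have hcomm : hh * w' = w' * hh⁻¹ := by
    rw [← hrel]
    calc hh * w' = (w' * w') * hh * w' := by rw [hww, one_mul]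
      _ = w' * (w' * hh * w') := by group
  have hfixinv : ∀ p : Cfsg.suzukiOvoid F m, hh • p = p → hh⁻¹ • p = p := by
    intro p hp
    rw [inv_smul_eq_iff, hp]
  have hh0 : hh • pt m (0 : F) 0 = pt m 0 0 := by
    rw [hhh, HelS_smul_pt, mul_zero, mul_zero]
  have hhinf : hh • (ωinf m : Cfsg.suzukiOvoid F m) = ωinf m := HelS_smul_inf hF _
  have hfix : ∀ p : Cfsg.suzukiOvoid F m, hh • p = p → hh • (w' • p) = w' • p := by
    intro p hp
    rw [← mul_smul, hcomm, mul_smul, hfixinv p hp]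
  have hK1 : WelS hK ≠ 1 := by
    intro e
    have := WelS_smul_inf hK
    rw [e, one_smul] at this
    exact (pt_ne_inf (m := k) (0 : K) 0) this.symm
  have hw1 : w' ≠ 1 := by
    intro e
    rw [hw', ← map_one ψ] at e
    exact hK1 (hψ e)
  -- `w'` interchanges the two base points
  have hswap : w' • (ωinf m : Cfsg.suzukiOvoid F m) = pt m 0 0 ∧
      w' • pt m (0 : F) 0 = ωinf m := by
    rcases HelS_fix hF ht₁ (hfix _ hhinf) with e1 | e1
    · exfalso
      rcases HelS_fix hF ht₁ (hfix _ hh0) with e2 | e2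
      · have := smul_left_cancel w' (e1.trans e2.symm)
        exact (pt_ne_inf (m := m) (0 : F) 0) this.symm
      · obtain ⟨μ, hμ⟩ := eq_HelS_of_fix hF e1 e2
        rw [hμ, HelS_mul, ← HelS_one hF] at hww
        have h1 : μ * μ = 1 := HelS_injective hF hww
        have h2 : (μ : F) * μ = 1 * 1 := by
          rw [one_mul, ← Units.val_mul, h1, Units.val_one]
        have h3 : (μ : F) = 1 := hF.sq_injective h2
        apply hw1
        rw [hμ, ← HelS_one hF]
        congr 1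
        exact Units.ext h3
    · refine ⟨e1, ?_⟩
      rcases HelS_fix hF ht₁ (hfix _ hh0) with e2 | e2
      · exact e2
      · exfalso
        have := smul_left_cancel w' (e1.trans e2.symm)
        exact (pt_ne_inf (m := m) (0 : F) 0) this.symm
  obtain ⟨μ, hμ⟩ := eq_WelS_mul_HelS hF hswap.1 hswap.2
  -- the relation
  have hx1 : ((TelS hK 1 0 * WelS hK)⁻¹ * (WelS hK * TelS hK 0 1 * WelS hK)) •
      (ωinf k : Cfsg.suzukiOvoid K k) = ωinf k := by
    rw [mul_smul, inv_smul_eq_iff, mul_smul, mul_smul, mul_smul, WelS_smul_inf, TelS_smul_pt,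
      TelS_smul_pt]
    have hf : ff k (0 + 0 : K) (0 + 1 + sg k 0 * 0) ≠ 0 := by
      simp [ff, sg_zero, sg_one]
    rw [WelS_smul_pt hK hf]
    congr 1 <;> simp [ff, sg_zero, sg_one]
  obtain ⟨a'', b'', t'', e''⟩ := eq_TelS_mul_HelS hK hx1
  have hrel2 : WelS hK * TelS hK 0 1 * WelS hK =
      TelS hK 1 0 * WelS hK * (TelS hK a'' b'' * HelS hK t'') := by
    rw [← e'']
    group
  have hrel3 := congrArg ψ hrel2
  rw [map_mul, map_mul, map_mul, map_mul, map_mul, ← hw', hT, hT, hT, hH, map_zero, map_one]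
    at hrel3
  have hpt := congrArg (fun x : Cfsg.Sz F m => x • (ωinf m : Cfsg.suzukiOvoid F m)) hrel3
  simp only [mul_smul, HelS_smul_inf, TelS_smul_inf, hswap.1] at hpt
  rw [TelS_smul_pt, TelS_smul_pt, hμ, mul_smul, HelS_smul_pt] at hpt
  simp only [zero_add, add_zero, mul_zero, sg_zero] at hpt
  have hy0 : sg m (μ : F) * ((μ : F) * μ) * 1 ≠ 0 := by
    rw [mul_one]
    exact mul_ne_zero (sg_ne_zero μ.ne_zero) (mul_ne_zero μ.ne_zero μ.ne_zero)
  set y₀ := sg m (μ : F) * ((μ : F) * μ) * 1 with hy₀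
  have hf : ff m (0 : F) y₀ ≠ 0 := by
    simp only [ff, zero_mul, sg_zero, mul_zero, zero_add]
    exact sg_ne_zero hy0
  rw [WelS_smul_pt hF hf] at hpt
  have hcoord := (pt_injective hpt).1
  have hff : ff m (0 : F) y₀ = sg m y₀ := by
    simp only [ff, zero_mul, sg_zero, mul_zero, zero_add]
  rw [hff, div_eq_one_iff_eq (sg_ne_zero hy0)] at hcoord
  have hy1 : y₀ = 1 := by
    rcases hF.sg_eq_self hcoord.symm with h0 | h1
    · exact absurd h0 hy0
    · exact h1
  have hμ1 : (μ : F) = 1 := by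
    rw [hy₀, mul_one] at hy1
    have e2 := congrArg (sg m) hy1
    rw [sg_mul, sg_mul, hF.sg_sg, sg_one] at e2
    have e3 : sg m (μ : F) * μ = 1 := by
      apply hF.sq_injective
      rw [one_mul]
      linear_combination e2
    exact hF.eq_one_of_sg_mul_self e3
  have : μ = 1 := Units.ext hμ1
  rw [hμ, this, HelS_one, mul_one]

end Cfsg.Agent.Helper8.SzSub
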