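import Mathlib
import Cfsg.Agent.Helper8.SzSubF

set_option autoImplicit false

/-! Subfield subgroups of the Suzuki groups are conjugate. -/

namespace Cfsg.Agent.Helper8.SzSub

open Cfsg.Agent.Helper7.Sz Cfsg.Agent.Helper7 MulAction Cfsg.Agent.Helper8.LS
  Cfsg.Agent.Helper8.SzTI

variable {F : Type*} [Field F] [Fintype F] {m : ℕ}
variable {K : Type*} [Field K] [Fintype K] {k : ℕ}

/-- The standard generators. -/
def gens (hK : FH K k) : Set (Cfsg.Sz K k) :=
  {x | (∃ a b : K, x = TelS hK a b) ∨ (∃ t : Kˣ, x = HelS hK t) ∨ x = WelS hK}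

theorem closure_gens (hK : FH K k) : Subgroup.closure (gens hK) = ⊤ := by
  rw [eq_top_iff]
  rintro ⟨g, hg⟩ -
  have hT : ∀ a b : K, TelS hK a b ∈ Subgroup.closure (gens hK) :=
    fun a b => Subgroup.subset_closure (Or.inl ⟨a, b, rfl⟩)
  have hH : ∀ t : Kˣ, HelS hK t ∈ Subgroup.closure (gens hK) :=
    fun t => Subgroup.subset_closure (Or.inr (Or.inl ⟨t, rfl⟩))
  have hW : WelS hK ∈ Subgroup.closure (gens hK) :=
    Subgroup.subset_closure (Or.inr (Or.inr rfl))
  rcases eq_prod hK hg with ⟨a, b, t, ht, e⟩ | ⟨a, b, a', b', t, ht, e⟩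
  · have : (⟨g, hg⟩ : Cfsg.Sz K k) = TelS hK a b * HelS hK (Units.mk0 t ht) := Subtype.ext e
    rw [this]
    exact Subgroup.mul_mem _ (hT a b) (hH _)
  · have : (⟨g, hg⟩ : Cfsg.Sz K k) =
        TelS hK a b * WelS hK * (TelS hK a' b' * HelS hK (Units.mk0 t ht)) := Subtype.ext e
    rw [this]
    exact Subgroup.mul_mem _ (Subgroup.mul_mem _ (hT a b) hW)
      (Subgroup.mul_mem _ (hT a' b') (hH _))

/-- Every embedding is conjugate to a standard one. -/
theorem exists_cj_eq_Phi (hF : FH F m) (hK : FH K k) (hdiv : 2 * k + 1 ∣ 2 * m + 1)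
    {ψ : Cfsg.Sz K k →* Cfsg.Sz F m} (hψ : Function.Injective ψ) :
    ∃ (g : Cfsg.Sz F m) (ι : K →+* F),
      cj g ψ = PhiHom ι (sg_map (m := m) hK hdiv ι) hF hK := by
  obtain ⟨g, ι, hT, hH⟩ := exists_cj_borel hF hK hdiv hψ
  have hW := map_WelS hF hK (cj_injective g hψ) ι hT hH
  refine ⟨g, ι, ?_⟩
  apply MonoidHom.eq_of_eqOn_dense (closure_gens hK)
  rintro x (⟨a, b, rfl⟩ | ⟨t, rfl⟩ | rfl)
  · rw [hT, PhiHom_TelS]
  · rw [hH, PhiHom_HelS]
  · rw [hW, PhiHom_WelS]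

open scoped Classical in
/-- The number of solutions of `x ^ s = x`. -/
theorem card_fixed_le (s : ℕ) (hs : 1 < s) :
    (Finset.univ.filter (fun x : F => x ^ s = x)).card ≤ s := by
  classical
  have hne : (Polynomial.X ^ s - Polynomial.X : Polynomial F) ≠ 0 :=
    FiniteField.X_pow_card_sub_X_ne_zero F hs
  have hsub : Finset.univ.filter (fun x : F => x ^ s = x) ⊆
      (Polynomial.X ^ s - Polynomial.X : Polynomial F).roots.toFinset := by
    intro x hx
    rw [Finset.mem_filter] at hx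
    rw [Multiset.mem_toFinset, Polynomial.mem_roots hne, Polynomial.IsRoot.def]
    simp only [Polynomial.eval_sub, Polynomial.eval_pow, Polynomial.eval_X]
    rw [hx.2, sub_self]
  calc (Finset.univ.filter (fun x : F => x ^ s = x)).card
      ≤ (Polynomial.X ^ s - Polynomial.X : Polynomial F).roots.toFinset.card :=
        Finset.card_le_card hsub
    _ ≤ Multiset.card (Polynomial.X ^ s - Polynomial.X : Polynomial F).roots :=
        Multiset.toFinset_card_le _
    _ ≤ (Polynomial.X ^ s - Polynomial.X : Polynomial F).natDegree := Polynomial.card_roots' _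
    _ = s := FiniteField.X_pow_card_sub_X_natDegree_eq F hs

/-- Two embeddings of a finite field have the same image. -/
theorem exists_eq_of_embeddings (ι ι' : K →+* F) (a : K) : ∃ a' : K, ι' a = ι a' := by
  classical
  have hs : 1 < Fintype.card K := Fintype.one_lt_card
  have hsub : Finset.univ.image ι ⊆ Finset.univ.filter (fun x : F => x ^ Fintype.card K = x) := by
    intro x hx
    obtain ⟨c, -, rfl⟩ := Finset.mem_image.1 hx
    rw [Finset.mem_filter]
    refine ⟨Finset.mem_univ _, ?_⟩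
    rw [← map_pow, FiniteField.pow_card]
  have hcard : (Finset.univ.image ι).card = Fintype.card K := by
    rw [Finset.card_image_of_injective _ ι.injective, Finset.card_univ]
  have heq : Finset.univ.image ι = Finset.univ.filter (fun x : F => x ^ Fintype.card K = x) := by
    apply Finset.eq_of_subset_of_card_le hsub
    rw [hcard]
    exact card_fixed_le _ hs
  have hmem : ι' a ∈ Finset.univ.filter (fun x : F => x ^ Fintype.card K = x) := by
    rw [Finset.mem_filter]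
    refine ⟨Finset.mem_univ _, ?_⟩
    rw [← map_pow, FiniteField.pow_card]
  rw [← heq] at hmem
  obtain ⟨a', -, e⟩ := Finset.mem_image.1 hmem
  exact ⟨a', e.symm⟩

theorem range_PhiHom_le (hF : FH F m) (hK : FH K k) (ι ι' : K →+* F)
    (hsg : ∀ x, ι (sg k x) = sg m (ι x)) (hsg' : ∀ x, ι' (sg k x) = sg m (ι' x)) :
    (PhiHom ι' hsg' hF hK).range ≤ (PhiHom ι hsg hF hK).range := by
  rw [MonoidHom.range_eq_map, ← closure_gens hK, MonoidHom.map_closure, Subgroup.closure_le]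
  rintro _ ⟨x, (⟨a, b, rfl⟩ | ⟨t, rfl⟩ | rfl), rfl⟩
  · obtain ⟨a', ea⟩ := exists_eq_of_embeddings ι ι' a
    obtain ⟨b', eb⟩ := exists_eq_of_embeddings ι ι' b
    refine ⟨TelS hK a' b', ?_⟩
    rw [PhiHom_TelS, PhiHom_TelS, ea, eb]
  · obtain ⟨t', et⟩ := exists_eq_of_embeddings ι ι' (t : K)
    have ht' : t' ≠ 0 := by
      rintro rfl
      rw [map_zero] at et
      exact t.ne_zero ((map_eq_zero ι').1 et)
    refine ⟨HelS hK (Units.mk0 t' ht'), ?_⟩
    rw [PhiHom_HelS, PhiHom_HelS]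
    congr 1
    apply Units.ext
    exact et.symm
  · refine ⟨WelS hK, ?_⟩
    rw [PhiHom_WelS, PhiHom_WelS]

theorem range_PhiHom_eq (hF : FH F m) (hK : FH K k) (ι ι' : K →+* F)
    (hsg : ∀ x, ι (sg k x) = sg m (ι x)) (hsg' : ∀ x, ι' (sg k x) = sg m (ι' x)) :
    (PhiHom ι' hsg' hF hK).range = (PhiHom ι hsg hF hK).range :=
  le_antisymm (range_PhiHom_le hF hK ι ι' hsg hsg') (range_PhiHom_le hF hK ι' ι hsg' hsg)

/-- Conjugacy of the subfield subgroups. -/
theorem conjugate (hF : FH F m) (hK : FH K k) (hdiv : 2 * k + 1 ∣ 2 * m + 1)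
    (S₁ S₂ : Subgroup (Cfsg.Sz F m)) (e₁ : S₁ ≃* Cfsg.Sz K k) (e₂ : S₂ ≃* Cfsg.Sz K k) :
    ∃ g : Cfsg.Sz F m, S₂ = S₁.map (MulAut.conj g).toMonoidHom := by
  have key : ∀ (S : Subgroup (Cfsg.Sz F m)) (e : S ≃* Cfsg.Sz K k),
      ∃ (g : Cfsg.Sz F m) (ι : K →+* F), S.map (MulAut.conj g).toMonoidHom =
        (PhiHom ι (sg_map (m := m) hK hdiv ι) hF hK).range := by
    intro S e
    have hinj : Function.Injective (S.subtype.comp e.symm.toMonoidHom) :=
      S.subtype_injective.comp e.symm.injective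
    obtain ⟨g, ι, h⟩ := exists_cj_eq_Phi hF hK hdiv hinj
    refine ⟨g, ι, ?_⟩
    rw [← h, range_cj]
    congr 1
    rw [MonoidHom.range_eq_map, ← Subgroup.map_map]
    have : Subgroup.map e.symm.toMonoidHom ⊤ = ⊤ := by
      rw [← MonoidHom.range_eq_map]
      exact MonoidHom.range_eq_top.2 e.symm.surjective
    rw [this, ← MonoidHom.range_eq_map, Subgroup.range_subtype]
  obtain ⟨g₁, ι₁, h₁⟩ := key S₁ e₁
  obtain ⟨g₂, ι₂, h₂⟩ := key S₂ e₂
  rw [range_PhiHom_eq hF hK ι₁ ι₂ (sg_map (m := m) hK hdiv ι₁) (sg_map (m := m) hK hdiv ι₂),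
    ← h₁] at h₂
  refine ⟨g₂⁻¹ * g₁, ?_⟩
  have h3 := congrArg (Subgroup.map (MulAut.conj g₂⁻¹).toMonoidHom) h₂
  rw [Subgroup.map_map, Subgroup.map_map] at h3
  have e1 : (MulAut.conj g₂⁻¹).toMonoidHom.comp (MulAut.conj g₂).toMonoidHom =
      MonoidHom.id (Cfsg.Sz F m) := by
    ext1 x
    show g₂⁻¹ * (g₂ * x * g₂⁻¹) * g₂⁻¹⁻¹ = x
    group
  have e2 : (MulAut.conj g₂⁻¹).toMonoidHom.comp (MulAut.conj g₁).toMonoidHom =
      (MulAut.conj (g₂⁻¹ * g₁)).toMonoidHom := by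
    ext1 x
    show g₂⁻¹ * (g₁ * x * g₁⁻¹) * g₂⁻¹⁻¹ = g₂⁻¹ * g₁ * x * (g₂⁻¹ * g₁)⁻¹
    group
  rw [e1, e2, Subgroup.map_id] at h3
  exact h3

end Cfsg.Agent.Helper8.SzSub
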