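import Mathlib
import Cfsg.Agent.Helper8.SzMaxC

set_option autoImplicit false

/-!
Abstract counting lemmas: fibres of constant size, conjugates of a subgroup normalized by a given
element, and conjugates of an element lying in a given set.
-/

namespace Cfsg.Agent.Helper8.SzSol

open Cfsg.Agent.Helper8.SzMax

theorem card_eq_mul_of_fibers {α β : Type*} [Finite α] [Finite β] (f : α → β) (k : ℕ)
    (h : ∀ b, Nat.card {a // f a = b} = k) : Nat.card α = Nat.card β * k := by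
  classical
  have := Fintype.ofFinite β
  rw [← Nat.card_congr (Equiv.sigmaFiberEquiv f), Nat.card_sigma]
  simp only [h, Finset.sum_const, Finset.card_univ, smul_eq_mul, Nat.card_eq_fintype_card]

section group

variable {G : Type*} [Group G]

theorem map_conj_eq_of_mem_normalizer {A : Subgroup G} {g : G}
    (hg : g ∈ Subgroup.normalizer (A : Set G)) : A.map (MulAut.conj g).toMonoidHom = A := by
  ext y
  constructor
  · rintro ⟨z, hz, rfl⟩
    exact (Subgroup.mem_normalizer_iff.1 hg z).1 hz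
  · intro hy
    refine ⟨g⁻¹ * y * g, ?_, ?_⟩
    · have := (Subgroup.mem_normalizer_iff.1 (Subgroup.inv_mem _ hg) y).1 hy
      rwa [inv_inv] at this
    · show g * (g⁻¹ * y * g) * g⁻¹ = y
      group

theorem mem_normalizer_map_conj {A : Subgroup G} {g x : G} :
    x ∈ Subgroup.normalizer ((A.map (MulAut.conj g).toMonoidHom : Subgroup G) : Set G) ↔
      g⁻¹ * x * g ∈ Subgroup.normalizer (A : Set G) := by
  rw [← Subgroup.map_equiv_normalizer_eq A (MulAut.conj g)]
  constructor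
  · rintro ⟨z, hz, rfl⟩
    have : g⁻¹ * (MulAut.conj g).toMonoidHom z * g = z := by
      show g⁻¹ * (g * z * g⁻¹) * g = z
      group
    rw [this]
    exact hz
  · intro hx
    refine ⟨g⁻¹ * x * g, hx, ?_⟩
    show g * (g⁻¹ * x * g) * g⁻¹ = x
    group

variable [Finite G]

/-- counting the conjugates of a subgroup normalized by a given element -/
theorem card_conj_normalized (U₀ : Subgroup G) (x : G) :
    Nat.card {U : Subgroup G // (∃ g : G, U = U₀.map (MulAut.conj g).toMonoidHom) ∧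
        x ∈ Subgroup.normalizer (U : Set G)} * Nat.card (Subgroup.normalizer (U₀ : Set G)) =
      Nat.card {g : G // g⁻¹ * x * g ∈ Subgroup.normalizer (U₀ : Set G)} := by
  classical
  let f : {g : G // g⁻¹ * x * g ∈ Subgroup.normalizer (U₀ : Set G)} →
      {U : Subgroup G // (∃ g : G, U = U₀.map (MulAut.conj g).toMonoidHom) ∧
        x ∈ Subgroup.normalizer (U : Set G)} :=
    fun g => ⟨U₀.map (MulAut.conj g.1).toMonoidHom, ⟨g.1, rfl⟩, mem_normalizer_map_conj.2 g.2⟩
  symm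
  apply card_eq_mul_of_fibers f
  rintro ⟨U, ⟨g₁, rfl⟩, hx⟩
  have hg₁ : g₁⁻¹ * x * g₁ ∈ Subgroup.normalizer (U₀ : Set G) := mem_normalizer_map_conj.1 hx
  apply Nat.card_congr
  refine ⟨fun g => ⟨g₁⁻¹ * g.1.1, ?_⟩, fun n => ⟨⟨g₁ * n.1, ?_⟩, ?_⟩, ?_, ?_⟩
  · have h1 : U₀.map (MulAut.conj g.1.1).toMonoidHom = U₀.map (MulAut.conj g₁).toMonoidHom :=
      congrArg Subtype.val g.2
    apply mem_normalizer_of_map_eq
    rw [← map_conj_mul, h1, map_conj_conj_inv]
  · have h2 : (g₁ * n.1)⁻¹ * x * (g₁ * n.1) = n.1⁻¹ * (g₁⁻¹ * x * g₁) * n.1 := by group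
    rw [h2]
    exact Subgroup.mul_mem _ (Subgroup.mul_mem _ (Subgroup.inv_mem _ n.2) hg₁) n.2
  · apply Subtype.ext
    show U₀.map (MulAut.conj (g₁ * n.1)).toMonoidHom = U₀.map (MulAut.conj g₁).toMonoidHom
    rw [← map_conj_mul, map_conj_eq_of_mem_normalizer n.2]
  · intro g
    apply Subtype.ext
    apply Subtype.ext
    show g₁ * (g₁⁻¹ * g.1.1) = g.1.1
    group
  · intro n
    apply Subtype.ext
    show g₁⁻¹ * (g₁ * n.1) = n.1
    group

/-- counting the elements conjugating a given element into a given set -/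
theorem card_conj_mem (S : Set G) (x : G) :
    Nat.card {g : G // g⁻¹ * x * g ∈ S} =
      Nat.card {z : G // z ∈ S ∧ ∃ g : G, g⁻¹ * x * g = z} *
        Nat.card (Subgroup.centralizer ({x} : Set G)) := by
  classical
  let f : {g : G // g⁻¹ * x * g ∈ S} → {z : G // z ∈ S ∧ ∃ g : G, g⁻¹ * x * g = z} :=
    fun g => ⟨g.1⁻¹ * x * g.1, g.2, g.1, rfl⟩
  apply card_eq_mul_of_fibers f
  rintro ⟨z, hzS, g₁, rfl⟩
  apply Nat.card_congr
  refine ⟨fun g => ⟨g.1.1 * g₁⁻¹, ?_⟩, fun c => ⟨⟨c.1 * g₁, ?_⟩, ?_⟩, ?_, ?_⟩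
  · have h1 : g.1.1⁻¹ * x * g.1.1 = g₁⁻¹ * x * g₁ := congrArg Subtype.val g.2
    generalize g.1.1 = gg at h1 ⊢
    rw [Subgroup.mem_centralizer_singleton_iff]
    have h2 : x * gg = gg * (g₁⁻¹ * x * g₁) := by
      rw [← h1]
      group
    calc gg * g₁⁻¹ * x = gg * (g₁⁻¹ * x * g₁) * g₁⁻¹ := by group
      _ = x * gg * g₁⁻¹ := by rw [← h2]
      _ = x * (gg * g₁⁻¹) := by group
  · have hc : c.1 * x = x * c.1 := Subgroup.mem_centralizer_singleton_iff.1 c.2
    have hc' : c.1⁻¹ * x * c.1 = x := by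
      calc c.1⁻¹ * x * c.1 = c.1⁻¹ * (x * c.1) := by group
        _ = c.1⁻¹ * (c.1 * x) := by rw [hc]
        _ = x := by group
    have h2 : (c.1 * g₁)⁻¹ * x * (c.1 * g₁) = g₁⁻¹ * (c.1⁻¹ * x * c.1) * g₁ := by group
    rw [h2, hc']
    exact hzS
  · have hc : c.1 * x = x * c.1 := Subgroup.mem_centralizer_singleton_iff.1 c.2
    have hc' : c.1⁻¹ * x * c.1 = x := by
      calc c.1⁻¹ * x * c.1 = c.1⁻¹ * (x * c.1) := by group
        _ = c.1⁻¹ * (c.1 * x) := by rw [hc]
        _ = x := by group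
    apply Subtype.ext
    show (c.1 * g₁)⁻¹ * x * (c.1 * g₁) = g₁⁻¹ * x * g₁
    have h2 : (c.1 * g₁)⁻¹ * x * (c.1 * g₁) = g₁⁻¹ * (c.1⁻¹ * x * c.1) * g₁ := by group
    rw [h2, hc']
  · intro g
    apply Subtype.ext
    apply Subtype.ext
    show g.1.1 * g₁⁻¹ * g₁ = g.1.1
    group
  · intro c
    apply Subtype.ext
    show c.1 * g₁ * g₁⁻¹ = c.1
    group

end group

end Cfsg.Agent.Helper8.SzSol
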