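import Mathlib
set_option autoImplicit false

/-!
A variant of Hua's theorem: an additive bijection `φ` of a field, with `φ 1 = 1`, such that
`x ↦ (φ x⁻¹)⁻¹` is additive too, is multiplicative on squares.
-/

namespace Cfsg.Agent.Helper8.SzSyl

variable {F : Type*} [Field F]

/-- **Hua's identity** -/
theorem hua_identity {a b : F} (ha : a ≠ 0) (hb : b ≠ 0) (hab : a * b ≠ 1) :
    a - (a⁻¹ + (b⁻¹ - a)⁻¹)⁻¹ = a * b * a := by
  have h1 : b⁻¹ - a ≠ 0 := by
    intro h
    apply hab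
    have : b⁻¹ = a := sub_eq_zero.mp h
    rw [← this, inv_mul_cancel₀ hb]
  have h1' : 1 - a * b ≠ 0 := fun h => hab (sub_eq_zero.mp h).symm
  have h1'' : 1 - b * a ≠ 0 := by rw [mul_comm]; exact h1'
  have e1 : (b⁻¹ - a)⁻¹ = b / (1 - a * b) := by
    field_simp
  have e2 : a⁻¹ + b / (1 - a * b) = 1 / (a * (1 - a * b)) := by
    field_simp
    ring
  rw [e1, e2, one_div, inv_inv]
  ring

/-- the key consequence of Hua's identity -/
theorem hua_key (φ ψ : F →+ F) (hinj : Function.Injective φ)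
    (hψ : ∀ x : F, x ≠ 0 → ψ x * φ x⁻¹ = 1) {a b : F} (ha : a ≠ 0) (hb : b ≠ 0)
    (hab : a * b ≠ 1) : φ (a * b * a) = φ a * ψ b * φ a := by
  have hφ0 : ∀ x : F, x ≠ 0 → φ x ≠ 0 := by
    intro x hx h
    apply hx
    apply hinj
    rw [h, map_zero]
  have h1 : b⁻¹ - a ≠ 0 := by
    intro h
    apply hab
    have : b⁻¹ = a := sub_eq_zero.mp h
    rw [← this, inv_mul_cancel₀ hb]
  have h1' : 1 - a * b ≠ 0 := fun h => hab (sub_eq_zero.mp h).symm
  have h1'' : 1 - b * a ≠ 0 := by rw [mul_comm]; exact h1'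
  have hw : a⁻¹ + (b⁻¹ - a)⁻¹ ≠ 0 := by
    have e1 : (b⁻¹ - a)⁻¹ = b / (1 - a * b) := by
      field_simp
    have e2 : a⁻¹ + b / (1 - a * b) = 1 / (a * (1 - a * b)) := by
      field_simp
      ring
    rw [e1, e2]
    exact one_div_ne_zero (mul_ne_zero ha h1')
  have hA : φ a ≠ 0 := hφ0 a ha
  have hB : ψ b ≠ 0 := left_ne_zero_of_mul_eq_one (hψ b hb)
  have hφb : φ b⁻¹ = (ψ b)⁻¹ := (eq_inv_of_mul_eq_one_right (hψ b hb))
  have hAB : φ a * ψ b ≠ 1 := by
    intro h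
    apply hab
    have : φ a = φ b⁻¹ := by
      rw [hφb]
      exact eq_inv_of_mul_eq_one_left h
    have := hinj this
    rw [this, inv_mul_cancel₀ hb]
  have hψa : ψ a⁻¹ = (φ a)⁻¹ := by
    have := hψ a⁻¹ (inv_ne_zero ha)
    rw [inv_inv] at this
    exact eq_inv_of_mul_eq_one_left this
  have hψ2 : ψ (b⁻¹ - a)⁻¹ = ((ψ b)⁻¹ - φ a)⁻¹ := by
    have := hψ (b⁻¹ - a)⁻¹ (inv_ne_zero h1)
    rw [inv_inv, map_sub, hφb] at this
    exact eq_inv_of_mul_eq_one_left this
  have hφw : φ (a⁻¹ + (b⁻¹ - a)⁻¹)⁻¹ = ((φ a)⁻¹ + ((ψ b)⁻¹ - φ a)⁻¹)⁻¹ := by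
    have := hψ _ hw
    rw [map_add, hψa, hψ2] at this
    exact eq_inv_of_mul_eq_one_right this
  rw [← hua_identity ha hb hab, map_sub, hφw, hua_identity hA hB hAB]

/-- **a variant of Hua's theorem** -/
theorem hua_mul (φ ψ : F →+ F) (hinj : Function.Injective φ) (h1 : φ 1 = 1)
    (hψ : ∀ x : F, x ≠ 0 → ψ x * φ x⁻¹ = 1) (a b : F) :
    φ (a * a * b) = φ (a * a) * φ b := by
  have hφ0 : ∀ x : F, x ≠ 0 → φ x ≠ 0 := by
    intro x hx h
    apply hx
    apply hinj
    rw [h, map_zero]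
  -- `ψ = φ` away from zero
  have hψφ : ∀ b : F, b ≠ 0 → ψ b = φ b := by
    intro b hb
    by_cases hb1 : b = 1
    · subst hb1
      have := hψ 1 one_ne_zero
      rw [inv_one, h1, mul_one] at this
      rw [this, h1]
    · have := hua_key φ ψ hinj hψ one_ne_zero hb (by rw [one_mul]; exact hb1)
      rw [one_mul, mul_one, h1, one_mul, mul_one] at this
      exact this.symm
  -- the main identity
  have hmain : ∀ a b : F, a ≠ 0 → b ≠ 0 → φ (a * b * a) = φ a * φ b * φ a := by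
    intro a b ha hb
    by_cases hab : a * b = 1
    · have hb' : b = a⁻¹ := eq_inv_of_mul_eq_one_right hab
      have e := hψ a ha
      rw [hψφ a ha, ← hb'] at e
      rw [hab, one_mul, e, one_mul]
    · rw [hua_key φ ψ hinj hψ ha hb hab, hψφ b hb]
  by_cases ha : a = 0
  · subst ha
    simp
  by_cases hb : b = 0
  · subst hb
    simp
  have e1 : φ (a * a) = φ a * φ a := by
    have := hmain a 1 ha one_ne_zero
    rw [mul_one, h1, mul_one] at this
    exact this
  have e2 := hmain a b ha hb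
  rw [e1]
  have : a * a * b = a * b * a := by ring
  rw [this, e2]
  ring

end Cfsg.Agent.Helper8.SzSyl
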