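import Mathlib
import Cfsg.Agent.Helper8.SzMaxE
import Cfsg.Agent.Helper8.SzSylA

set_option autoImplicit false

/-!
Subgroups of the Suzuki groups in normal form with a regular unipotent part: the parameters of
the unipotent elements form a subfield.
-/

namespace Cfsg.Agent.Helper8.SzMax

open Cfsg.Agent.Helper7.Sz Cfsg.Agent.Helper7 MulAction Cfsg.Agent.Helper8.SzPart
  Cfsg.Agent.Helper8.SzSub Cfsg.Agent.Helper8.SzTI Cfsg.Agent.Helper8.LS Cfsg.Agent.Helper8.SzSyl

variable {F : Type*} [Field F] [Fintype F] {m : ℕ}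

/-- the regular normal form -/
structure NF2 (h : FH F m) (L : Subgroup (Cfsg.Sz F m)) : Prop where
  hW : WelS h ∈ L
  hreg : ∀ a b : F, HasInv L (pt m a b) → TelS h a b ∈ L
  hinv0 : HasInv L (pt m (0 : F) 0)
  hex : ∃ x : F, x ≠ 0 ∧ TelS h 0 x ∈ L

/-- the parameters of the central involutions -/
def BB (h : FH F m) (L : Subgroup (Cfsg.Sz F m)) : Set F := {b | TelS h 0 b ∈ L}

theorem mem_BB (h : FH F m) (L : Subgroup (Cfsg.Sz F m)) (b : F) : b ∈ BB h L ↔ TelS h 0 b ∈ L :=
  Iff.rfl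

namespace NF2

variable {h : FH F m} {L : Subgroup (Cfsg.Sz F m)}

theorem swap (hN : NF2 h L) {a b : F} (hab : TelS h a b ∈ L) (hne : a ≠ 0 ∨ b ≠ 0) :
    TelS h (b / ff m a b) (a / ff m a b) ∈ L := by
  have hf : ff m a b ≠ 0 := by
    intro e
    obtain ⟨rfl, rfl⟩ := (ff_eq_zero h).1 e
    rcases hne with h1 | h1 <;> exact h1 rfl
  apply hN.hreg
  have h1 : HasInv L (pt m a b) := by
    have := hN.hinv0.smul hab
    rwa [TelS_smul_pt, mul_zero, add_zero, zero_add, zero_add] at this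
  have h2 := h1.smul hN.hW
  rwa [WelS_smul_pt h hf] at h2

theorem zero_mem (_hN : NF2 h L) : (0 : F) ∈ BB h L := by
  rw [mem_BB, TelS_zero]
  exact L.one_mem

theorem add_mem (_hN : NF2 h L) {a b : F} (ha : a ∈ BB h L) (hb : b ∈ BB h L) :
    a + b ∈ BB h L := by
  rw [mem_BB] at *
  have := L.mul_mem ha hb
  rwa [TelS_mul, sg_zero, zero_mul, add_zero, add_zero] at this

theorem TelS_div_sg (hN : NF2 h L) {b : F} (hb : b ∈ BB h L) (hb0 : b ≠ 0) :
    TelS h (b / sg m b) 0 ∈ L := by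
  have h1 := hN.swap hb (Or.inr hb0)
  have e : ff m 0 b = sg m b := by
    unfold ff
    rw [sg_zero]
    ring
  rwa [e, zero_div] at h1

theorem inv_mem (hN : NF2 h L) {b : F} (hb : b ∈ BB h L) : b⁻¹ ∈ BB h L := by
  by_cases hb0 : b = 0
  · rw [hb0, inv_zero]
    exact hN.zero_mem
  · have h1 := hN.TelS_div_sg hb hb0
    have h2 := L.mul_mem h1 h1
    rw [TelS_sq] at h2
    have e : sg m (b / sg m b) * (b / sg m b) = b⁻¹ := by
      have hs : sg m b ≠ 0 := sg_ne_zero hb0
      rw [div_eq_mul_inv, sg_mul, sg_inv, h.sg_sg]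
      field_simp
    rw [mem_BB, ← e]
    exact h2

theorem mul_mul_mem (hN : NF2 h L) {a b : F} (ha : a ∈ BB h L) (hb : b ∈ BB h L) :
    a * b * a ∈ BB h L := by
  by_cases ha0 : a = 0
  · rw [ha0, zero_mul, zero_mul]
    exact hN.zero_mem
  by_cases hb0 : b = 0
  · rw [hb0, mul_zero, zero_mul]
    exact hN.zero_mem
  by_cases hab : a * b = 1
  · rw [hab, one_mul]
    exact ha
  rw [← hua_identity ha0 hb0 hab, h.sub_eq, h.sub_eq]
  exact hN.add_mem ha (hN.inv_mem (hN.add_mem (hN.inv_mem ha)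
    (hN.inv_mem (hN.add_mem (hN.inv_mem hb) ha))))

theorem mul_mem (hN : NF2 h L) {a b : F} (ha : a ∈ BB h L) (hb : b ∈ BB h L) :
    a * b ∈ BB h L := by
  have h1 : ∀ n : ℕ, (a * a) ^ n * b ∈ BB h L := by
    intro n
    induction n with
    | zero => rw [pow_zero, one_mul]; exact hb
    | succ n ih =>
      have := hN.mul_mul_mem ha ih
      have e : (a * a) ^ (n + 1) * b = a * ((a * a) ^ n * b) * a := by
        rw [pow_succ]
        ring
      rw [e]
      exact this
  have h2 : a = (a * a) ^ (2 ^ (2 * m)) := by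
    have := FiniteField.pow_card a
    rw [h.card] at this
    rw [← pow_two, ← pow_mul, ← pow_succ']
    exact this.symm
  have h3 := h1 (2 ^ (2 * m))
  rwa [← h2] at h3

theorem one_mem (hN : NF2 h L) : (1 : F) ∈ BB h L := by
  obtain ⟨x, hx0, hx⟩ := hN.hex
  have h1 : x ∈ BB h L := hx
  have := hN.mul_mem h1 (hN.inv_mem h1)
  rwa [mul_inv_cancel₀ hx0] at this

/-- the subfield of the parameters -/
def subfield (hN : NF2 h L) : Subfield F where
  carrier := BB h L
  mul_mem' := fun ha hb => hN.mul_mem ha hb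
  one_mem' := hN.one_mem
  add_mem' := fun ha hb => hN.add_mem ha hb
  zero_mem' := hN.zero_mem
  neg_mem' := fun {x} hx => by
    rw [h.neg_eq]
    exact hx
  inv_mem' := fun _ hx => hN.inv_mem hx

theorem mem_subfield (hN : NF2 h L) (b : F) : b ∈ hN.subfield ↔ TelS h 0 b ∈ L := Iff.rfl

theorem sg_mem (hN : NF2 h L) {b : F} (hb : b ∈ hN.subfield) : sg m b ∈ hN.subfield :=
  pow_mem hb _

/-- `b ↦ b / σ b` is onto the subfield -/
theorem exists_div_sg (hN : NF2 h L) {c : F} (hc : c ∈ hN.subfield) :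
    ∃ b ∈ hN.subfield, b / sg m b = c := by
  let φ : hN.subfield → hN.subfield := fun b =>
    ⟨(b : F) / sg m (b : F), div_mem b.2 (hN.sg_mem b.2)⟩
  have hφ : Function.Injective φ := by
    intro b b' e
    have e1 : (b : F) / sg m (b : F) = (b' : F) / sg m (b' : F) := congrArg Subtype.val e
    apply Subtype.ext
    by_cases hb : (b' : F) = 0
    · rw [hb, sg_zero, div_zero] at e1
      rcases div_eq_zero_iff.1 e1 with e2 | e2
      · rw [e2, hb]
      · rw [sg_eq_zero.1 e2, hb]
    · have hb0 : (b : F) ≠ 0 := by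
        intro e0
        rw [e0, sg_zero, div_zero] at e1
        rcases div_eq_zero_iff.1 e1.symm with e2 | e2
        · exact hb e2
        · exact hb (sg_eq_zero.1 e2)
      have hs : sg m (b : F) ≠ 0 := sg_ne_zero hb0
      have hs' : sg m (b' : F) ≠ 0 := sg_ne_zero hb
      have e2 : sg m ((b : F) / b') = (b : F) / b' := by
        rw [div_eq_mul_inv, sg_mul, sg_inv]
        field_simp
        field_simp at e1
        linear_combination -e1
      rcases h.sg_eq_self e2 with e3 | e3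
      · exfalso
        rcases div_eq_zero_iff.1 e3 with e4 | e4
        · exact hb0 e4
        · exact hb e4
      · field_simp at e3
        exact e3
  obtain ⟨b, hb⟩ := (Finite.injective_iff_surjective.1 hφ) ⟨c, hc⟩
  exact ⟨b, b.2, congrArg Subtype.val hb⟩

theorem TelS_left_mem (hN : NF2 h L) {c : F} (hc : c ∈ hN.subfield) : TelS h c 0 ∈ L := by
  by_cases hc0 : c = 0
  · rw [hc0, TelS_zero]
    exact L.one_mem
  · obtain ⟨b, hb, rfl⟩ := hN.exists_div_sg hc
    have hb0 : b ≠ 0 := by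
      rintro rfl
      rw [zero_div] at hc0
      exact hc0 rfl
    exact hN.TelS_div_sg hb hb0

theorem TelS_mem_of_mem (hN : NF2 h L) {a b : F} (ha : a ∈ hN.subfield) (hb : b ∈ hN.subfield) :
    TelS h a b ∈ L := by
  have := L.mul_mem (hN.TelS_left_mem ha) ((hN.mem_subfield b).1 hb)
  rwa [TelS_mul, add_zero, zero_add, mul_zero, add_zero] at this

/-- `x ↦ σ x * x` is onto the subfield -/
theorem exists_sg_mul_self (hN : NF2 h L) {c : F} (hc : c ∈ hN.subfield) :
    ∃ a ∈ hN.subfield, sg m a * a = c := by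
  let φ : hN.subfield → hN.subfield := fun b =>
    ⟨sg m (b : F) * (b : F), hN.subfield.mul_mem (hN.sg_mem b.2) b.2⟩
  have hφ : Function.Injective φ := by
    intro b b' e
    have e1 : sg m (b : F) * (b : F) = sg m (b' : F) * (b' : F) := congrArg Subtype.val e
    exact Subtype.ext (sg_mul_self_injective h e1)
  obtain ⟨b, hb⟩ := (Finite.injective_iff_surjective.1 hφ) ⟨c, hc⟩
  exact ⟨b, b.2, congrArg Subtype.val hb⟩

theorem mem_of_TelS_mem (hN : NF2 h L) {a b : F} (hab : TelS h a b ∈ L) :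
    a ∈ hN.subfield ∧ b ∈ hN.subfield := by
  have h1 := L.mul_mem hab hab
  rw [TelS_sq] at h1
  obtain ⟨a', ha', e⟩ := hN.exists_sg_mul_self ((hN.mem_subfield _).2 h1)
  have ha : a ∈ hN.subfield := by
    rw [← sg_mul_self_injective h e]
    exact ha'
  refine ⟨ha, ?_⟩
  have h2 := L.mul_mem (L.inv_mem (hN.TelS_left_mem ha)) hab
  rw [TelS_inv, TelS_mul, h.add_self, zero_add] at h2
  have e2 : sg m a * a + b + sg m a * a = b := by
    have : sg m a * a + b + sg m a * a = b + (sg m a * a + sg m a * a) := by ring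
    rw [this, h.add_self, add_zero]
  rw [e2] at h2
  exact (hN.mem_subfield b).2 h2

theorem sq_mem_iff (hN : NF2 h L) {t : F} (ht : t * t ∈ hN.subfield) : t ∈ hN.subfield := by
  let φ : hN.subfield → hN.subfield := fun b => ⟨(b : F) * (b : F), hN.subfield.mul_mem b.2 b.2⟩
  have hφ : Function.Injective φ := by
    intro b b' e
    have e1 : (b : F) * (b : F) = (b' : F) * (b' : F) := congrArg Subtype.val e
    exact Subtype.ext (h.sq_injective e1)
  obtain ⟨b, hb⟩ := (Finite.injective_iff_surjective.1 hφ) ⟨t * t, ht⟩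
  have e : (b : F) * (b : F) = t * t := congrArg Subtype.val hb
  rw [← h.sq_injective e]
  exact b.2

theorem mem_of_HelS_mem (hN : NF2 h L) {t : Fˣ} (ht : HelS h t ∈ L) : (t : F) ∈ hN.subfield := by
  have h1 : TelS h 1 0 ∈ L := hN.TelS_left_mem hN.one_mem
  have h2 := L.mul_mem (L.mul_mem ht h1) (L.inv_mem ht)
  rw [HelS_TelS, mul_one, mul_zero] at h2
  have h3 := (hN.mem_of_TelS_mem h2).1
  have h4 := hN.sg_mem h3
  rw [h.sg_sg] at h4
  exact hN.sq_mem_iff h4

end NF2

end Cfsg.Agent.Helper8.SzMax
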