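import Mathlib
import Cfsg.Agent.Helper8.SzMaxF

set_option autoImplicit false

/-!
Subgroups of the Suzuki groups: the subfield case and the proof of Suzuki's theorem.
-/

namespace Cfsg.Agent.Helper8.SzMax

open Cfsg.Agent.Helper7.Sz Cfsg.Agent.Helper7 MulAction Cfsg.Agent.Helper8.SzPart
  Cfsg.Agent.Helper8.SzSub Cfsg.Agent.Helper8.SzTI Cfsg.Agent.Helper8.LS Cfsg.Agent.Helper8.SzSyl

variable {F : Type*} [Field F] [Fintype F] {m : ℕ}

namespace NF2

variable {h : FH F m} {L : Subgroup (Cfsg.Sz F m)}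

theorem decomp_fix (hN : NF2 h L) {g : Cfsg.Sz F m} (hg : g ∈ L)
    (hfix : g • (ωinf m : Cfsg.suzukiOvoid F m) = ωinf m) :
    ∃ (c d : F) (u : Fˣ), g = TelS h c d * HelS h u ∧ c ∈ hN.subfield ∧ d ∈ hN.subfield ∧
      (u : F) ∈ hN.subfield := by
  obtain ⟨c, d, u, rfl⟩ := eq_TelS_mul_HelS h hfix
  have h1 : (TelS h c d * HelS h u) • pt m (0 : F) 0 = pt m c d := by
    rw [mul_smul, HelS_smul_pt, mul_zero, mul_zero, TelS_smul_pt, mul_zero, add_zero, zero_add,
      zero_add]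
  have h2 : HasInv L (pt m c d) := by
    have := hN.hinv0.smul hg
    rwa [h1] at this
  have hT := hN.hreg c d h2
  have hH : HelS h u ∈ L := by
    have := L.mul_mem (L.inv_mem hT) hg
    rwa [inv_mul_cancel_left] at this
  exact ⟨c, d, u, rfl, (hN.mem_of_TelS_mem hT).1, (hN.mem_of_TelS_mem hT).2,
    hN.mem_of_HelS_mem hH⟩

theorem decomp (hN : NF2 h L) {g : Cfsg.Sz F m} (hg : g ∈ L) :
    (∃ (c d : F) (u : Fˣ), g = TelS h c d * HelS h u ∧ c ∈ hN.subfield ∧ d ∈ hN.subfield ∧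
      (u : F) ∈ hN.subfield) ∨
    (∃ (x y c d : F) (u : Fˣ), g = TelS h x y * WelS h * (TelS h c d * HelS h u) ∧
      x ∈ hN.subfield ∧ y ∈ hN.subfield ∧ c ∈ hN.subfield ∧ d ∈ hN.subfield ∧
      (u : F) ∈ hN.subfield) := by
  rcases eq_inf_or_pt (g • (ωinf m : Cfsg.suzukiOvoid F m)) with e | ⟨x, y, e⟩
  · exact Or.inl (hN.decomp_fix hg e)
  · right
    obtain ⟨x₀, hx₀, hTx₀⟩ := hN.hex
    have h1 : HasInv L (pt m x y) := by
      have := (hasInv_inf h hx₀ hTx₀).smul hg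
      rwa [e] at this
    have hT := hN.hreg x y h1
    have hg' : WelS h * ((TelS h x y)⁻¹ * g) ∈ L :=
      L.mul_mem hN.hW (L.mul_mem (L.inv_mem hT) hg)
    have hfix : (WelS h * ((TelS h x y)⁻¹ * g)) • (ωinf m : Cfsg.suzukiOvoid F m) = ωinf m := by
      rw [mul_smul, mul_smul, e]
      have : (TelS h x y)⁻¹ • pt m x y = pt m (0 : F) 0 := by
        rw [inv_smul_eq_iff, TelS_smul_pt, mul_zero, add_zero, zero_add, zero_add]
      rw [this, WelS_smul_zero]
    obtain ⟨c, d, u, e1, hc, hd, hu⟩ := hN.decomp_fix hg' hfix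
    refine ⟨x, y, c, d, u, ?_, (hN.mem_of_TelS_mem hT).1, (hN.mem_of_TelS_mem hT).2, hc, hd, hu⟩
    rw [← e1]
    calc g = TelS h x y * (WelS h * WelS h) * ((TelS h x y)⁻¹ * g) := by
          rw [WelS_mul_WelS]; group
      _ = TelS h x y * WelS h * (WelS h * ((TelS h x y)⁻¹ * g)) := by group

end NF2

/-- the torus element attached to a pair of central involutions -/
theorem HelS_mem_of_kappa (h : FH F m) (L : Subgroup (Cfsg.Sz F m)) (hW : WelS h ∈ L) {x : F}
    (hx : x ≠ 0) (u : Fˣ) (hTx : TelS h 0 x ∈ L)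
    (hTy : TelS h 0 ((u : F) * u * sg m (u : F) * x) ∈ L) : HelS h u ∈ L := by
  have hy : (u : F) * u * sg m (u : F) * x ≠ 0 :=
    mul_ne_zero (mul_ne_zero (mul_ne_zero u.ne_zero u.ne_zero) (sg_ne_zero u.ne_zero)) hx
  have h0 : HasInv L (pt m (0 : F) 0) := by
    have := (hasInv_inf h hx hTx).smul hW
    rwa [WelS_smul_inf] at this
  obtain ⟨c, hc, hc1, hc2, hc3⟩ := exists_conj_fix h L hx hy hTx hTy (pt_ne_inf 0 0) h0
  obtain ⟨u', rfl⟩ := eq_HelS_of_fix h hc1 hc2
  have e1 : HelS h u' = TelS h 0 0 * HelS h u' := by rw [TelS_zero, one_mul]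
  rw [e1, conj_TelS_zero] at hc3
  have e2 := (TelS_injective h hc3).2
  have e3 : ((u' / u : Fˣ) : F) * ((u' / u : Fˣ) : F) * sg m ((u' / u : Fˣ) : F) = 1 := by
    have hu0 : (u : F) ≠ 0 := u.ne_zero
    have hs0 : sg m (u : F) ≠ 0 := sg_ne_zero hu0
    have e4 := mul_right_cancel₀ hx e2
    rw [Units.val_div_eq_div_val, div_eq_mul_inv, sg_mul, sg_inv]
    field_simp
    linear_combination e4
  have e5 := kappa_eq_one h e3
  have e6 : u' = u := by
    rw [div_eq_one] at e5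
    exact e5
  rw [← e6]
  exact hc

/-- **The subfield case**. -/
theorem good_of_two_involutions (h : FH F m) (L : Subgroup (Cfsg.Sz F m)) (hW : WelS h ∈ L)
    {x₁ x₂ : F} (hx₁ : x₁ ≠ 0) (hx₂ : x₂ ≠ 0) (hne : x₁ ≠ x₂) (hT₁ : TelS h 0 x₁ ∈ L)
    (hT₂ : TelS h 0 x₂ ∈ L) (hL : L ≠ ⊤) : Good m L := by
  classical
  have h0 : HasInv L (pt m (0 : F) 0) := by
    have := (hasInv_inf h hx₁ hT₁).smul hW
    rwa [WelS_smul_inf] at this
  have hN : NF2 h L :=
    ⟨hW, fun a b hI => TelS_mem_of_hasInv h L hW hx₁ hx₂ hne hT₁ hT₂ hI, h0, x₁, hx₁, hT₁⟩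
  set K₁ := hN.subfield with hK₁
  -- the cardinality of the subfield
  have hcard : Nat.card F = Nat.card K₁ ^ Module.finrank K₁ F :=
    Module.natCard_eq_pow_finrank (K := K₁) (V := F)
  rw [Nat.card_eq_fintype_card, h.card] at hcard
  set d := Module.finrank K₁ F with hd
  have hd0 : d ≠ 0 := by
    intro e
    rw [e, pow_zero] at hcard
    have : 1 < 2 ^ (2 * m + 1) := Nat.one_lt_two_pow (by omega)
    omega
  have hdvd : Nat.card K₁ ∣ 2 ^ (2 * m + 1) := by
    rw [hcard]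
    exact dvd_pow_self _ hd0
  obtain ⟨f, -, hf⟩ := (Nat.dvd_prime_pow Nat.prime_two).1 hdvd
  have hfd : f * d = 2 * m + 1 := by
    rw [hf, ← pow_mul] at hcard
    exact (Nat.pow_right_injective (le_refl 2) hcard).symm
  -- the subfield has at least three elements
  have h3 : 3 ≤ Nat.card K₁ := by
    have hsub : ({0, x₁, x₂} : Set F) ⊆ (K₁ : Set F) := by
      intro z hz
      simp only [Set.mem_insert_iff, Set.mem_singleton_iff] at hz
      rcases hz with rfl | rfl | rfl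
      · exact K₁.zero_mem
      · exact hT₁
      · exact hT₂
    have h3' : ({0, x₁, x₂} : Set F).ncard = 3 :=
      Set.ncard_eq_three.2 ⟨0, x₁, x₂, hx₁.symm, hx₂.symm, hne, rfl⟩
    have := Set.ncard_le_ncard hsub (Set.toFinite _)
    rw [h3'] at this
    rw [← Nat.card_coe_set_eq] at this
    exact this
  have hf2 : 2 ≤ f := by
    by_contra hcon
    push Not at hcon
    have : 2 ^ f ≤ 2 ^ 1 := Nat.pow_le_pow_right (by norm_num) (by omega)
    omega
  have hfodd : f % 2 = 1 := by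
    rcases Nat.even_or_odd f with ⟨j, hj⟩ | ⟨j, hj⟩
    · exfalso
      have h2 : 2 ∣ f * d := Dvd.dvd.mul_right ⟨j, by omega⟩ d
      omega
    · omega
  obtain ⟨k, hk⟩ : ∃ k, f = 2 * k + 1 := ⟨f / 2, by omega⟩
  have hk1 : 1 ≤ k := by omega
  have hdiv : 2 * k + 1 ∣ 2 * m + 1 := by
    rw [← hk]
    exact Dvd.intro _ hfd
  -- the subfield is proper
  have hkm : k < m := by
    by_contra hcon
    push Not at hcon
    have hle : 2 * k + 1 ≤ 2 * m + 1 := Nat.le_of_dvd (by omega) hdiv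
    have hkm' : k = m := by omega
    apply hL
    -- the subfield is everything
    have htop : ∀ a : F, a ∈ K₁ := by
      have hcardeq : Nat.card K₁ = Nat.card F := by
        rw [hf, hk, hkm', Nat.card_eq_fintype_card, h.card]
      have hsurj : Function.Surjective (K₁.subtype) := by
        have hinj : Function.Injective (K₁.subtype) := Subtype.val_injective
        exact (Function.Injective.bijective_of_nat_card_le hinj (by rw [hcardeq])).2
      intro a
      obtain ⟨b, rfl⟩ := hsurj a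
      exact b.2
    rw [eq_top_iff, ← closure_gens h, Subgroup.closure_le]
    rintro g (⟨a, b, rfl⟩ | ⟨t, rfl⟩ | rfl)
    · exact hN.TelS_mem_of_mem (htop a) (htop b)
    · exact HelS_mem_of_kappa h L hW hx₁ t hT₁ ((hN.mem_subfield _).1 (htop _))
    · exact hW
  -- the model of the subfield
  let _ : Fintype (GaloisField 2 (2 * k + 1)) := Fintype.ofFinite _
  let _ : Fintype K₁ := Fintype.ofFinite _
  have hcK : Fintype.card (GaloisField 2 (2 * k + 1)) = 2 ^ (2 * k + 1) := by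
    rw [← Nat.card_eq_fintype_card, GaloisField.card 2 _ (by omega)]
  have hK : FH (GaloisField 2 (2 * k + 1)) k := ⟨hk1, hcK⟩
  have hcK₁ : Fintype.card (GaloisField 2 (2 * k + 1)) = Fintype.card K₁ := by
    rw [hcK, ← Nat.card_eq_fintype_card, hf, hk]
  let e : GaloisField 2 (2 * k + 1) ≃+* K₁ := FiniteField.ringEquivOfCardEq hcK₁
  let ι : GaloisField 2 (2 * k + 1) →+* F := K₁.subtype.comp e.toRingHom
  have hι : ∀ a : F, a ∈ K₁ → ∃ a' : GaloisField 2 (2 * k + 1), ι a' = a := by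
    intro a ha
    refine ⟨e.symm ⟨a, ha⟩, ?_⟩
    show ((e (e.symm ⟨a, ha⟩) : K₁) : F) = a
    rw [RingEquiv.apply_symm_apply]
  have hsg := sg_map (m := m) hK hdiv ι
  right; right
  refine ⟨GaloisField 2 (2 * k + 1), inferInstance, inferInstance, k, hk1, hkm, hcK, hdiv,
    (PhiHom ι hsg h hK).range,
    ⟨(MonoidHom.ofInjective (PhiHom_injective ι hsg h hK)).symm⟩, ?_⟩
  -- the three kinds of elements lie in the range
  have hTr : ∀ a b : F, a ∈ K₁ → b ∈ K₁ → TelS h a b ∈ (PhiHom ι hsg h hK).range := by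
    intro a b ha hb
    obtain ⟨a', rfl⟩ := hι a ha
    obtain ⟨b', rfl⟩ := hι b hb
    exact ⟨TelS hK a' b', PhiHom_TelS ι hsg h hK a' b'⟩
  have hHr : ∀ u : Fˣ, (u : F) ∈ K₁ → HelS h u ∈ (PhiHom ι hsg h hK).range := by
    intro u hu
    obtain ⟨u', hu'⟩ := hι _ hu
    have hu'0 : u' ≠ 0 := by
      rintro rfl
      rw [map_zero] at hu'
      exact u.ne_zero hu'.symm
    refine ⟨HelS hK (Units.mk0 u' hu'0), ?_⟩
    rw [PhiHom_HelS]
    congr 1
    apply Units.ext
    exact hu'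
  have hWr : WelS h ∈ (PhiHom ι hsg h hK).range := ⟨WelS hK, PhiHom_WelS ι hsg h hK⟩
  intro g hg
  rcases hN.decomp hg with ⟨c, d, u, rfl, hc, hd, hu⟩ | ⟨x, y, c, d, u, rfl, hx, hy, hc, hd, hu⟩
  · exact Subgroup.mul_mem _ (hTr c d hc hd) (hHr u hu)
  · exact Subgroup.mul_mem _ (Subgroup.mul_mem _ (hTr x y hx hy) hWr)
      (Subgroup.mul_mem _ (hTr c d hc hd) (hHr u hu))

/-- subgroups in normal form -/
theorem good_of_NF (h : FH F m) (L : Subgroup (Cfsg.Sz F m)) (hW : WelS h ∈ L) {x : F}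
    (hx : x ≠ 0) (hT : TelS h 0 x ∈ L) (hL : L ≠ ⊤) : Good m L := by
  by_cases huniq : ∀ y : F, TelS h 0 y ∈ L → y = 0 ∨ y = x
  · exact good_of_unique_involution h L hW hx hT huniq
  · push Not at huniq
    obtain ⟨y, hy, hy0, hyx⟩ := huniq
    exact good_of_two_involutions h L hW hx hy0 (Ne.symm hyx) hT hy hL

/-- **Suzuki's theorem on the subgroups of the Suzuki groups.** -/
theorem suzuki_subgroups (h : FH F m) (M : Subgroup (Cfsg.Sz F m)) (hM : M ≠ ⊤) : Good m M := by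
  have hA := act h
  by_cases hinv : ∃ t ∈ M, t ≠ 1 ∧ t * t = 1
  · obtain ⟨t, ht, ht1, ht2⟩ := hinv
    obtain ⟨a, hta, -⟩ := hA.exists_unique_fixed_of_two_elt ht1 (sq_pow ht2)
    by_cases hall : ∀ s ∈ M, s ≠ 1 → s * s = 1 → s • a = a
    · apply good_of_le_stabilizer h M a
      intro l hl
      rw [mem_stabilizer_iff]
      have h1 : (l * t * l⁻¹) • a = a :=
        hall _ (M.mul_mem (M.mul_mem hl ht) (M.inv_mem hl)) (conj_ne_one ht1 l) (conj_sq ht2 l)
      have h2 : (l * t * l⁻¹) • (l • a) = l • a := conj_smul hta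
      exact fix_unique h (conj_ne_one ht1 l) (sq_pow (conj_sq ht2 l)) h2 h1
    · push Not at hall
      obtain ⟨s, hs, hs1, hs2, hsa⟩ := hall
      obtain ⟨b, hsb, -⟩ := hA.exists_unique_fixed_of_two_elt hs1 (sq_pow hs2)
      have hab : a ≠ b := by
        rintro rfl
        exact hsa hsb
      obtain ⟨g, hW, x, hx, hT⟩ := exists_conj_NF h M ht hs ht1 hs1 ht2 hs2 hta hsb hab
      apply Good.of_conj g
      apply good_of_NF h _ hW hx hT
      intro e
      apply hM
      have := map_conj_conj_inv M g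
      rw [e] at this
      rw [← this, eq_top_iff]
      intro y _
      refine ⟨g * y * g⁻¹, Subgroup.mem_top _, ?_⟩
      show g⁻¹ * (g * y * g⁻¹) * g⁻¹⁻¹ = y
      group
  · push Not at hinv
    have hodd : ¬ 2 ∣ Nat.card M := by
      intro hd
      have : Fact (Nat.Prime 2) := ⟨Nat.prime_two⟩
      obtain ⟨u, hu⟩ := exists_prime_orderOf_dvd_card' (G := M) 2 hd
      have hu1 : (u : Cfsg.Sz F m) ≠ 1 := by
        intro e
        have : u = 1 := Subtype.ext e
        rw [this, orderOf_one] at hu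
        omega
      apply hinv (u : Cfsg.Sz F m) u.2 hu1
      have h2 : u ^ 2 = 1 := by rw [← hu]; exact pow_orderOf_eq_one u
      have h3 : (u : Cfsg.Sz F m) ^ 2 = 1 := by
        rw [← Subgroup.coe_pow, h2, Subgroup.coe_one]
      rwa [pow_two] at h3
    by_cases hbot : M = ⊥
    · left
      refine ⟨UsubSylow h, ?_⟩
      rw [hbot]
      exact bot_le
    · obtain ⟨X, hX, hle⟩ := exists_cyc_ge_of_odd h M hodd hbot
      right; left
      exact ⟨X, hX, hle.trans Subgroup.le_normalizer⟩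

end Cfsg.Agent.Helper8.SzMax
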