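import Mathlib
import Cfsg.Agent.Helper8.SzMaxG
import Cfsg.Agent.S0325

set_option autoImplicit false

/-!
Solvable subgroups of the Suzuki groups: the point stabilizers and the normalizers of the cyclic
members of the partition are solvable; when `2m+1` is prime every proper subgroup is solvable.
-/

namespace Cfsg.Agent.Helper8.SzSol

open Cfsg.Agent.Helper7.Sz Cfsg.Agent.Helper7 MulAction Cfsg.Agent.Helper8.SzPart
  Cfsg.Agent.Helper8.SzSub Cfsg.Agent.Helper8.SzTI Cfsg.Agent.Helper8.LS Cfsg.Agent.Helper8.SzMax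

variable {F : Type*} [Field F] [Fintype F] {m : ℕ}

/-! ### The torus part of an element fixing the point at infinity -/

theorem decomp_unique (h : FH F m) {c d c' d' : F} {t t' : Fˣ}
    (e : TelS h c d * HelS h t = TelS h c' d' * HelS h t') : c = c' ∧ d = d' ∧ t = t' := by
  have h1 : ∀ (c d : F) (t : Fˣ), (TelS h c d * HelS h t) • pt m (0 : F) 0 = pt m c d := by
    intro c d t
    rw [mul_smul, HelS_smul_pt, mul_zero, mul_zero, TelS_smul_pt, mul_zero, add_zero, zero_add,
      zero_add]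
  have h2 : pt m c d = pt m c' d' := by rw [← h1 c d t, e, h1]
  obtain ⟨rfl, rfl⟩ := pt_injective h2
  refine ⟨rfl, rfl, ?_⟩
  exact HelS_injective h (mul_left_cancel e)

theorem exists_torus (h : FH F m) (g : stabilizer (Cfsg.Sz F m) (ωinf m : Cfsg.suzukiOvoid F m)) :
    ∃ t : Fˣ, ∃ c d : F, (g : Cfsg.Sz F m) = TelS h c d * HelS h t := by
  obtain ⟨c, d, t, e⟩ := eq_TelS_mul_HelS h (mem_stabilizer_iff.1 g.2)
  exact ⟨t, c, d, e⟩

/-- the torus part -/
noncomputable def torusFun (h : FH F m)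
    (g : stabilizer (Cfsg.Sz F m) (ωinf m : Cfsg.suzukiOvoid F m)) : Fˣ :=
  (exists_torus h g).choose

theorem torusFun_eq (h : FH F m)
    (g : stabilizer (Cfsg.Sz F m) (ωinf m : Cfsg.suzukiOvoid F m)) {c d : F} {t : Fˣ}
    (e : (g : Cfsg.Sz F m) = TelS h c d * HelS h t) : torusFun h g = t := by
  obtain ⟨c', d', e'⟩ := (exists_torus h g).choose_spec
  have e'' := e.symm.trans e'
  exact (decomp_unique h e'').2.2.symm

theorem HelS_mul_TelS (h : FH F m) (t : Fˣ) (a b : F) :
    HelS h t * TelS h a b =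
      TelS h (sg m (t : F) * a) ((t : F) * t * sg m (t : F) * b) * HelS h t :=
  Subtype.ext (Hel_mul_Tel h t.ne_zero a b)

/-- the torus part as a homomorphism -/
noncomputable def torusHom (h : FH F m) :
    stabilizer (Cfsg.Sz F m) (ωinf m : Cfsg.suzukiOvoid F m) →* Fˣ where
  toFun := torusFun h
  map_one' := by
    apply torusFun_eq h 1 (c := 0) (d := 0)
    rw [TelS_zero, HelS_one, one_mul]
    rfl
  map_mul' := by
    intro g g'
    obtain ⟨t, c, d, e⟩ := exists_torus h g
    obtain ⟨t', c', d', e'⟩ := exists_torus h g'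
    rw [torusFun_eq h g e, torusFun_eq h g' e']
    apply torusFun_eq h (g * g') (c := c + sg m (t : F) * c')
      (d := d + (t : F) * t * sg m (t : F) * d' + sg m c * (sg m (t : F) * c'))
    rw [Subgroup.coe_mul, e, e']
    calc TelS h c d * HelS h t * (TelS h c' d' * HelS h t')
        = TelS h c d * (HelS h t * TelS h c' d') * HelS h t' := by group
      _ = TelS h c d * (TelS h (sg m (t : F) * c') ((t : F) * t * sg m (t : F) * d') * HelS h t) *
            HelS h t' := by rw [HelS_mul_TelS]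
      _ = (TelS h c d * TelS h (sg m (t : F) * c') ((t : F) * t * sg m (t : F) * d')) *
            (HelS h t * HelS h t') := by group
      _ = _ := by rw [TelS_mul, HelS_mul]

theorem torusHom_ker (h : FH F m) (g : stabilizer (Cfsg.Sz F m) (ωinf m : Cfsg.suzukiOvoid F m)) :
    g ∈ (torusHom h).ker ↔ (g : Cfsg.Sz F m) ∈ Usub h := by
  rw [MonoidHom.mem_ker]
  obtain ⟨t, c, d, e⟩ := exists_torus h g
  have e1 : torusHom h g = t := torusFun_eq h g e
  rw [e1]
  constructor
  · rintro rfl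
    rw [HelS_one, mul_one] at e
    exact ⟨c, d, e⟩
  · rintro ⟨c', d', e'⟩
    have e2 : TelS h c d * HelS h t = TelS h c' d' * HelS h 1 := by
      rw [← e, e', HelS_one, mul_one]
    exact (decomp_unique h e2).2.2

/-! ### Solvability -/

theorem Usub_isPGroup (h : FH F m) : IsPGroup 2 (Usub h) := (UsubSylow h).isPGroup'

theorem solvable_stabilizer_inf (h : FH F m) :
    Group.IsSolvable (stabilizer (Cfsg.Sz F m) (ωinf m : Cfsg.suzukiOvoid F m)) := by
  have : Fact (Nat.Prime 2) := ⟨Nat.prime_two⟩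
  have : Group.IsNilpotent (Usub h) := (Usub_isPGroup h).isNilpotent
  have hle : Usub h ≤ stabilizer (Cfsg.Sz F m) (ωinf m : Cfsg.suzukiOvoid F m) := (setup h).le
  apply Group.isSolvable_of_ker_le_range (Subgroup.inclusion hle) (torusHom h)
  intro g hg
  exact ⟨⟨(g : Cfsg.Sz F m), (torusHom_ker h g).1 hg⟩, rfl⟩

theorem solvable_stabilizer (h : FH F m) (a : Cfsg.suzukiOvoid F m) :
    Group.IsSolvable (stabilizer (Cfsg.Sz F m) a) := by
  have := (act h).two
  have : IsPretransitive (Cfsg.Sz F m) (Cfsg.suzukiOvoid F m) :=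
    MulAction.isPretransitive_of_is_two_pretransitive
  obtain ⟨k, hk⟩ := MulAction.exists_smul_eq (Cfsg.Sz F m) (ωinf m : Cfsg.suzukiOvoid F m) a
  have := solvable_stabilizer_inf h
  exact Group.isSolvable_of_surjective (f := (stabilizerEquivStabilizer hk.symm).toMonoidHom)
    (stabilizerEquivStabilizer hk.symm).surjective

/-- the normalizer of a Sylow `2`-subgroup is a point stabilizer -/
theorem normalizer_sylow (h : FH F m) (P : Sylow 2 (Cfsg.Sz F m)) :
    ∃ a : Cfsg.suzukiOvoid F m,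
      Subgroup.normalizer ((P : Subgroup (Cfsg.Sz F m)) : Set (Cfsg.Sz F m)) =
        stabilizer (Cfsg.Sz F m) a := by
  have : Fact (Nat.Prime 2) := ⟨Nat.prime_two⟩
  have hA := act h
  have hPne : (P : Subgroup (Cfsg.Sz F m)) ≠ ⊥ := by
    intro e
    have h1 := P.card_eq_multiplicity
    rw [e, Subgroup.card_bot, ← card_Usub_eq h, card_Usub h] at h1
    have := h.card_ge
    nlinarith
  obtain ⟨g, hg1⟩ := (Subgroup.ne_bot_iff_exists_ne_one (H := (P : Subgroup (Cfsg.Sz F m)))).1 hPne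
  obtain ⟨j, hj⟩ := P.isPGroup' g
  have hj' : (g : Cfsg.Sz F m) ^ 2 ^ j = 1 := by
    rw [← Subgroup.coe_pow, hj, Subgroup.coe_one]
  have hg1' : (g : Cfsg.Sz F m) ≠ 1 := fun e => hg1 (Subtype.ext e)
  obtain ⟨a, ha, huniq⟩ := hA.exists_unique_fixed_of_two_elt hg1' hj'
  have := hA.two
  have : IsPretransitive (Cfsg.Sz F m) (Cfsg.suzukiOvoid F m) :=
    MulAction.isPretransitive_of_is_two_pretransitive
  obtain ⟨k, hk⟩ := MulAction.exists_smul_eq (Cfsg.Sz F m) (ωinf m : Cfsg.suzukiOvoid F m) a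
  have hP := sylow_eq h P g.2 huniq hk
  refine ⟨a, ?_⟩
  rw [hP, ← hk, stabilizer_smul_eq_stabilizer_map_conj, ← (setup h).normalizer_eq]
  exact (Subgroup.map_equiv_normalizer_eq (Usub h) (MulAut.conj k)).symm

theorem stabilizer_ne_top (h : FH F m) (a : Cfsg.suzukiOvoid F m) :
    stabilizer (Cfsg.Sz F m) a ≠ ⊤ := by
  intro e
  have h1 := (act h).card_stabilizer a
  rw [e, Subgroup.card_top, (act h).card] at h1
  have hq := (act h).q_ge
  have hpos : 0 < (2 ^ (2 * m + 1)) ^ 2 * (2 ^ (2 * m + 1) - 1) :=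
    Nat.mul_pos (pow_pos (by omega) _) (by omega)
  have h2 : (2 ^ (2 * m + 1)) ^ 2 * (2 ^ (2 * m + 1) - 1) * ((2 ^ (2 * m + 1)) ^ 2 + 1) =
      (2 ^ (2 * m + 1)) ^ 2 * (2 ^ (2 * m + 1) - 1) * 1 := by rw [h1, mul_one]
  have h3 := Nat.eq_of_mul_eq_mul_left hpos h2
  have : 0 < (2 ^ (2 * m + 1)) ^ 2 := pow_pos (by omega) _
  omega

end Cfsg.Agent.Helper8.SzSol
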