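import Mathlib
import Cfsg.Agent.Helper8.SzSolA

set_option autoImplicit false

/-!
Solvable subgroups of the Suzuki groups: normalizers of the cyclic members of the partition, and
the characterisation of the solvable subgroups when `2m+1` is prime.
-/

namespace Cfsg.Agent.Helper8.SzSol

open Cfsg.Agent.Helper7.Sz Cfsg.Agent.Helper7 MulAction Cfsg.Agent.Helper8.SzPart
  Cfsg.Agent.Helper8.SzSub Cfsg.Agent.Helper8.SzTI Cfsg.Agent.Helper8.LS Cfsg.Agent.Helper8.SzMax

variable {F : Type*} [Field F] [Fintype F] {m : ℕ}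

/-! ### The normalizer of a two-point stabilizer -/

omit [Fintype F] in
theorem twoStab_comm (a b : Cfsg.suzukiOvoid F m) : twoStab a b = twoStab b a := by
  unfold twoStab
  exact inf_comm _ _

omit [Fintype F] in
theorem twoStab_map_conj (g : Cfsg.Sz F m) (a b : Cfsg.suzukiOvoid F m) :
    (twoStab a b).map (MulAut.conj g).toMonoidHom = twoStab (g • a) (g • b) := by
  unfold twoStab
  rw [Subgroup.map_inf _ _ _ (MulAut.conj g).injective, stabilizer_smul_eq_stabilizer_map_conj,
    stabilizer_smul_eq_stabilizer_map_conj]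

theorem twoStab_exists_ne_one (h : FH F m) {a b : Cfsg.suzukiOvoid F m} (hab : a ≠ b) :
    ∃ u ∈ twoStab a b, u ≠ 1 := by
  have hc : IsCyc m (twoStab a b) := by
    obtain ⟨c1, c2⟩ := twoStab_cyclic h hab
    refine ⟨c1, ?_⟩
    rw [c2]
    exact Set.mem_insert _ _
  exact hc.exists_ne_one h

theorem mem_normalizer_twoStab (h : FH F m) {a b : Cfsg.suzukiOvoid F m} (hab : a ≠ b)
    (g : Cfsg.Sz F m) :
    g ∈ Subgroup.normalizer ((twoStab a b : Subgroup (Cfsg.Sz F m)) : Set (Cfsg.Sz F m)) ↔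
      (g • a = a ∧ g • b = b) ∨ (g • a = b ∧ g • b = a) := by
  constructor
  · intro hg
    obtain ⟨u, hu, hu1⟩ := twoStab_exists_ne_one h hab
    obtain ⟨hua, hub⟩ := mem_twoStab.1 hu
    have hconj : g⁻¹ * u * g⁻¹⁻¹ ∈ twoStab a b :=
      (Subgroup.mem_normalizer_iff.1 (Subgroup.inv_mem _ hg) u).1 hu
    rw [inv_inv] at hconj
    obtain ⟨hca, hcb⟩ := mem_twoStab.1 hconj
    have hfa : u • (g • a) = g • a := by
      have : u • (g • a) = g • ((g⁻¹ * u * g) • a) := by
        rw [← mul_smul, ← mul_smul]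
        congr 1
        group
      rw [this, hca]
    have hfb : u • (g • b) = g • b := by
      have : u • (g • b) = g • ((g⁻¹ * u * g) • b) := by
        rw [← mul_smul, ← mul_smul]
        congr 1
        group
      rw [this, hcb]
    have hne : g • a ≠ g • b := fun e => hab (MulAction.injective g e)
    rcases fix_subset h hu1 hab hua hub hfa with e1 | e1
    · rcases fix_subset h hu1 hab hua hub hfb with e2 | e2
      · exact absurd (e1.trans e2.symm) hne
      · exact Or.inl ⟨e1, e2⟩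
    · rcases fix_subset h hu1 hab hua hub hfb with e2 | e2
      · exact Or.inr ⟨e1, e2⟩
      · exact absurd (e1.trans e2.symm) hne
  · intro hg
    apply mem_normalizer_of_map_eq
    rw [twoStab_map_conj]
    rcases hg with ⟨e1, e2⟩ | ⟨e1, e2⟩
    · rw [e1, e2]
    · rw [e1, e2, twoStab_comm]

theorem card_normalizer_twoStab (h : FH F m) {a b : Cfsg.suzukiOvoid F m} (hab : a ≠ b) :
    Nat.card (Subgroup.normalizer ((twoStab a b : Subgroup (Cfsg.Sz F m)) : Set (Cfsg.Sz F m))) =
      2 * Nat.card (twoStab a b) := by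
  obtain ⟨s, hsa, hsb⟩ := (MulAction.is_two_pretransitive_iff.1 (act h).two) hab hab.symm
  have hset : ((Subgroup.normalizer ((twoStab a b : Subgroup (Cfsg.Sz F m)) : Set (Cfsg.Sz F m)) :
      Subgroup (Cfsg.Sz F m)) : Set (Cfsg.Sz F m)) =
      ((twoStab a b : Subgroup (Cfsg.Sz F m)) : Set (Cfsg.Sz F m)) ∪
        (fun u => s * u) '' ((twoStab a b : Subgroup (Cfsg.Sz F m)) : Set (Cfsg.Sz F m)) := by
    ext g
    rw [SetLike.mem_coe, mem_normalizer_twoStab h hab, Set.mem_union, SetLike.mem_coe, mem_twoStab]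
    constructor
    · rintro (hg | ⟨e1, e2⟩)
      · exact Or.inl hg
      · right
        refine ⟨s⁻¹ * g, ?_, by group⟩
        rw [SetLike.mem_coe, mem_twoStab, mul_smul, mul_smul, e1, e2]
        exact ⟨inv_smul_eq_iff.2 hsa.symm, inv_smul_eq_iff.2 hsb.symm⟩
    · rintro (hg | ⟨u, hu, rfl⟩)
      · exact Or.inl hg
      · right
        obtain ⟨hua, hub⟩ := mem_twoStab.1 hu
        rw [mul_smul, mul_smul, hua, hub]
        exact ⟨hsa, hsb⟩
  have hdisj : Disjoint ((twoStab a b : Subgroup (Cfsg.Sz F m)) : Set (Cfsg.Sz F m))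
      ((fun u => s * u) '' ((twoStab a b : Subgroup (Cfsg.Sz F m)) : Set (Cfsg.Sz F m))) := by
    rw [Set.disjoint_left]
    rintro g hg ⟨u, hu, rfl⟩
    obtain ⟨hua, -⟩ := mem_twoStab.1 hu
    obtain ⟨hga, -⟩ := mem_twoStab.1 hg
    rw [mul_smul, hua, hsa] at hga
    exact hab hga.symm
  have h1 := congrArg Set.ncard hset
  rw [Set.ncard_union_eq hdisj (Set.toFinite _) (Set.toFinite _),
    Set.ncard_image_of_injective _ (mul_right_injective s)] at h1
  have e1 : Nat.card (Subgroup.normalizer ((twoStab a b : Subgroup (Cfsg.Sz F m)) :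
      Set (Cfsg.Sz F m))) = ((Subgroup.normalizer ((twoStab a b : Subgroup (Cfsg.Sz F m)) :
      Set (Cfsg.Sz F m)) : Subgroup (Cfsg.Sz F m)) : Set (Cfsg.Sz F m)).ncard :=
    Nat.card_coe_set_eq _
  have e2 : Nat.card (twoStab a b) =
      ((twoStab a b : Subgroup (Cfsg.Sz F m)) : Set (Cfsg.Sz F m)).ncard :=
    Nat.card_coe_set_eq _
  rw [e1, e2, h1, two_mul]

/-- the index of a cyclic member in its normalizer -/
theorem card_normalizer_cyc (h : FH F m) {X : Subgroup (Cfsg.Sz F m)} (hX : IsCyc m X) :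
    ∃ w : ℕ, (w = 2 ∨ w = 4) ∧
      Nat.card (Subgroup.normalizer (X : Set (Cfsg.Sz F m))) = w * Nat.card X := by
  rcases cyc_cases h hX with ⟨x, hx, rfl⟩ | ⟨a, b, hab, rfl⟩
  · exact ⟨4, Or.inr rfl, (ctx h).card_normalizer hx⟩
  · exact ⟨2, Or.inl rfl, card_normalizer_twoStab h hab⟩

theorem comm_of_card_dvd_four {Q : Type*} [Group Q] [Finite Q] {w : ℕ} (hw : w = 2 ∨ w = 4)
    (hQ : Nat.card Q = w) : ∀ a b : Q, a * b = b * a := by
  have : Fact (Nat.Prime 2) := ⟨Nat.prime_two⟩
  rcases hw with rfl | rfl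
  · have : IsCyclic Q := isCyclic_of_prime_card (p := 2) hQ
    intro a b
    exact (IsCyclic.isMulCommutative (α := Q)).is_comm.comm a b
  · have := IsPGroup.isMulCommutative_of_card_eq_prime_sq (p := 2) hQ
    intro a b
    exact this.is_comm.comm a b

theorem solvable_normalizer_cyc (h : FH F m) {X : Subgroup (Cfsg.Sz F m)} (hX : IsCyc m X) :
    Group.IsSolvable (Subgroup.normalizer (X : Set (Cfsg.Sz F m))) := by
  obtain ⟨w, hw, hcard⟩ := card_normalizer_cyc h hX
  set N := Subgroup.normalizer (X : Set (Cfsg.Sz F m)) with hN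
  have hle : X ≤ N := Subgroup.le_normalizer
  have hnormal : (X.subgroupOf N).Normal := Subgroup.normal_in_normalizer
  rw [Group.isSolvable_iff_subgroup_quotient (X.subgroupOf N)]
  constructor
  · apply Group.isSolvable_of_comm
    intro a b
    apply Subtype.ext
    apply Subtype.ext
    have := comm_of_cyclic hX.1 (Subgroup.mem_subgroupOf.1 a.2) (Subgroup.mem_subgroupOf.1 b.2)
    exact this
  · apply Group.isSolvable_of_comm
    apply comm_of_card_dvd_four hw
    have h1 := Subgroup.index_mul_card (X.subgroupOf N)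
    have h2 : Nat.card (X.subgroupOf N) = Nat.card X :=
      Nat.card_congr (Subgroup.subgroupOfEquivOfLe hle).toEquiv
    rw [h2, hcard] at h1
    have hpos : 0 < Nat.card X := Nat.card_pos
    exact Nat.eq_of_mul_eq_mul_right hpos h1

theorem not_comm (h : FH F m) : ¬ ∀ a b : Cfsg.Sz F m, a * b = b * a := by
  intro hc
  have h1 := hc (WelS h) (TelS h 0 1)
  have h2 := congrArg (fun g : Cfsg.Sz F m => g • (ωinf m : Cfsg.suzukiOvoid F m)) h1
  simp only [mul_smul] at h2
  rw [TelS_smul_inf, WelS_smul_inf, TelS_smul_pt] at h2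
  have h3 := (pt_injective h2).2
  simp at h3

theorem not_solvable (h : FH F m) : ¬ Group.IsSolvable (Cfsg.Sz F m) := by
  have hsim : IsSimpleGroup (Cfsg.Sz F m) := Cfsg.Agent.S0325.result h.hm h.card
  intro hs
  exact not_comm h (IsSimpleGroup.comm_iff_isSolvable.2 hs)

theorem normalizer_cyc_ne_top (h : FH F m) {X : Subgroup (Cfsg.Sz F m)} (hX : IsCyc m X) :
    Subgroup.normalizer (X : Set (Cfsg.Sz F m)) ≠ ⊤ := by
  intro e
  have := solvable_normalizer_cyc h hX
  rw [e] at this
  apply not_solvable h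
  exact Group.isSolvable_of_surjective (f := (Subgroup.topEquiv (G := Cfsg.Sz F m)).toMonoidHom)
    Subgroup.topEquiv.surjective

/-- proper subgroups when `2m+1` is prime -/
theorem ne_top_iff (h : FH F m) (hp : (2 * m + 1).Prime) (M : Subgroup (Cfsg.Sz F m)) :
    M ≠ ⊤ ↔ (∃ a : Cfsg.suzukiOvoid F m, M ≤ stabilizer (Cfsg.Sz F m) a) ∨
      (∃ U : Subgroup (Cfsg.Sz F m), IsCyc m U ∧
        M ≤ Subgroup.normalizer (U : Set (Cfsg.Sz F m))) := by
  constructor
  · intro hM
    rcases suzuki_subgroups h M hM with ⟨P, hP⟩ | ⟨U, hU, hle⟩ | ⟨K, _, _, k, hk1, hkm, -, hdiv, -⟩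
    · obtain ⟨a, ha⟩ := normalizer_sylow h P
      exact Or.inl ⟨a, ha ▸ hP⟩
    · exact Or.inr ⟨U, hU, hle⟩
    · exfalso
      rcases (Nat.dvd_prime hp).1 hdiv with e | e <;> omega
  · rintro (⟨a, ha⟩ | ⟨U, hU, hle⟩) e
    · apply stabilizer_ne_top h a
      rw [eq_top_iff, ← e]
      exact ha
    · apply normalizer_cyc_ne_top h hU
      rw [eq_top_iff, ← e]
      exact hle

theorem solvable_iff_ne_top (h : FH F m) (hp : (2 * m + 1).Prime) (M : Subgroup (Cfsg.Sz F m)) :
    Group.IsSolvable M ↔ M ≠ ⊤ := by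
  constructor
  · rintro hs rfl
    apply not_solvable h
    exact Group.isSolvable_of_surjective (f := (Subgroup.topEquiv (G := Cfsg.Sz F m)).toMonoidHom)
      Subgroup.topEquiv.surjective
  · intro hM
    rcases (ne_top_iff h hp M).1 hM with ⟨a, ha⟩ | ⟨U, hU, hle⟩
    · have := solvable_stabilizer h a
      exact Group.isSolvable_of_isSolvable_injective (f := Subgroup.inclusion ha)
        (Subgroup.inclusion_injective ha)
    · have := solvable_normalizer_cyc h hU
      exact Group.isSolvable_of_isSolvable_injective (f := Subgroup.inclusion hle)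
        (Subgroup.inclusion_injective hle)

end Cfsg.Agent.Helper8.SzSol
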