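import Mathlib
import Cfsg.Agent.Helper8.SzSolB

set_option autoImplicit false

/-!
The normalizer of a cyclic member of the partition of the Suzuki group: centralizers, involutions
and elements of order four.
-/

namespace Cfsg.Agent.Helper8.SzSol

open Cfsg.Agent.Helper7.Sz Cfsg.Agent.Helper7 MulAction Cfsg.Agent.Helper8.SzPart
  Cfsg.Agent.Helper8.SzSub Cfsg.Agent.Helper8.SzTI Cfsg.Agent.Helper8.LS Cfsg.Agent.Helper8.SzMax

variable {F : Type*} [Field F] [Fintype F] {m : ℕ}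

theorem odd_orderOf_of_mem_cyc (h : FH F m) {U : Subgroup (Cfsg.Sz F m)} (hU : IsCyc m U)
    {u : Cfsg.Sz F m} (hu : u ∈ U) : Odd (orderOf u) :=
  odd_orderOf_of_not_dvd_card U (hU.odd_card h) hu

/-- the centralizer of a nonidentity element of a cyclic member is the member -/
theorem cyc_centralizer (h : FH F m) {U : Subgroup (Cfsg.Sz F m)} (hU : IsCyc m U)
    {u : Cfsg.Sz F m} (hu : u ∈ U) (hu1 : u ≠ 1) {c : Cfsg.Sz F m} (hc : c * u = u * c) :
    c ∈ U := by
  -- `c` normalizes `U`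
  have hcu : c * u * c⁻¹ = u := by rw [hc]; group
  have hmap : U.map (MulAut.conj c).toMonoidHom = U :=
    IsCyc.eq_of_mem h (hU.map c) hU hu1 ⟨u, hu, hcu⟩ hu
  have hcN : c ∈ Subgroup.normalizer (U : Set (Cfsg.Sz F m)) := mem_normalizer_of_map_eq hmap
  apply hU.mem_of_normalizer h hcN
  -- `c` has odd order
  rw [← Nat.not_even_iff_odd]
  rintro ⟨j, hj⟩
  have hn : 0 < orderOf c := orderOf_pos c
  have hj0 : 0 < j := by omega
  have ht1 : c ^ j ≠ 1 := pow_ne_one_of_lt_orderOf hj0.ne' (by omega)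
  have ht2 : c ^ j * c ^ j = 1 := by rw [← pow_add, ← hj, pow_orderOf_eq_one]
  have htu : u * c ^ j = c ^ j * u := by
    have : Commute c u := hc
    exact (this.pow_left j).eq.symm
  obtain ⟨p, hp, -⟩ := (act h).exists_unique_fixed_of_two_elt ht1 (sq_pow ht2)
  have hup : u • p = p := fix_of_commute h ht1 (sq_pow ht2) htu hp
  rcases cyc_cases h hU with ⟨x', hx', rfl⟩ | ⟨a, b, hab, rfl⟩
  · have := (ctx h).mem_XX_of_mem_Cz hx' hu hu1
    exact (act h).fpf_of_pow this.1 this.2 p hup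
  · obtain ⟨hua, hub⟩ := mem_twoStab.1 hu
    have hta : u • (c ^ j • a) = c ^ j • a := by
      rw [← mul_smul, htu, mul_smul, hua]
    have htb : u • (c ^ j • b) = c ^ j • b := by
      rw [← mul_smul, htu, mul_smul, hub]
    have hne : c ^ j • a ≠ c ^ j • b := fun e => hab (MulAction.injective _ e)
    have hfix2 : c ^ j • a = a ∧ c ^ j • b = b := by
      rcases fix_subset h hu1 hab hua hub hup with rfl | rfl
      · refine ⟨hp, ?_⟩
        rcases fix_subset h hu1 hab hua hub htb with e | e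
        · exact absurd (hp.trans e.symm) hne
        · exact e
      · refine ⟨?_, hp⟩
        rcases fix_subset h hu1 hab hua hub hta with e | e
        · exact e
        · exact absurd (e.trans hp.symm) hne
    exact hab (fix_unique h ht1 (sq_pow ht2) hfix2.1 hfix2.2)

/-- an element of the normalizer outside the member whose square lies in the member inverts it -/
theorem inverts_of_sq_mem (h : FH F m) {U : Subgroup (Cfsg.Sz F m)} (hU : IsCyc m U)
    {s : Cfsg.Sz F m} (hs : s ∈ Subgroup.normalizer (U : Set (Cfsg.Sz F m))) (hsU : s ∉ U)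
    (hs2 : s * s ∈ U) {u : Cfsg.Sz F m} (hu : u ∈ U) : s * u * s⁻¹ = u⁻¹ := by
  have hu' : s * u * s⁻¹ ∈ U := (Subgroup.mem_normalizer_iff.1 hs u).1 hu
  have hcomm : ∀ a ∈ U, ∀ b ∈ U, a * b = b * a := fun a ha b hb => comm_of_cyclic hU.1 ha hb
  -- `v = u * (s u s⁻¹)` commutes with `s`
  have hv : u * (s * u * s⁻¹) ∈ U := U.mul_mem hu hu'
  have hsv : s * (u * (s * u * s⁻¹)) = (u * (s * u * s⁻¹)) * s := by
    have e1 : s * (s * u * s⁻¹) * s⁻¹ = (s * s) * u * (s * s)⁻¹ := by group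
    have e2 : (s * s) * u * (s * s)⁻¹ = u := by
      rw [hcomm _ hs2 _ hu]
      group
    calc s * (u * (s * u * s⁻¹)) = (s * u * s⁻¹) * (s * (s * u * s⁻¹) * s⁻¹) * s := by group
      _ = (s * u * s⁻¹) * u * s := by rw [e1, e2]
      _ = (u * (s * u * s⁻¹)) * s := by rw [hcomm _ hu' _ hu]
  by_contra hne
  have hv1 : u * (s * u * s⁻¹) ≠ 1 := by
    intro e
    apply hne
    exact (eq_inv_of_mul_eq_one_right e)
  exact hsU (cyc_centralizer h hU hv hv1 hsv)

/-- such an element is an involution -/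
theorem sq_eq_one_of_sq_mem (h : FH F m) {U : Subgroup (Cfsg.Sz F m)} (hU : IsCyc m U)
    {s : Cfsg.Sz F m} (hs : s ∈ Subgroup.normalizer (U : Set (Cfsg.Sz F m))) (hsU : s ∉ U)
    (hs2 : s * s ∈ U) : s * s = 1 := by
  have h1 := inverts_of_sq_mem h hU hs hsU hs2 hs2
  have h2 : s * (s * s) * s⁻¹ = s * s := by group
  rw [h2] at h1
  -- `(s s)² = 1` in a group of odd order
  have h3 : (s * s) ^ 2 = 1 := by
    rw [pow_two]
    nth_rewrite 2 [h1]
    exact mul_inv_cancel _
  have hodd := odd_orderOf_of_mem_cyc h hU hs2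
  have hd : orderOf (s * s) ∣ 2 := orderOf_dvd_of_pow_eq_one h3
  have : orderOf (s * s) = 1 := by
    rcases (Nat.dvd_prime Nat.prime_two).1 hd with e | e
    · exact e
    · rw [e] at hodd
      exact absurd hodd (by decide)
  exact orderOf_eq_one_iff.1 this

/-- two such elements differ by an element of the member -/
theorem inv_mul_mem_of_sq_mem (h : FH F m) {U : Subgroup (Cfsg.Sz F m)} (hU : IsCyc m U)
    {s t : Cfsg.Sz F m} (hs : s ∈ Subgroup.normalizer (U : Set (Cfsg.Sz F m))) (hsU : s ∉ U)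
    (hs2 : s * s ∈ U) (ht : t ∈ Subgroup.normalizer (U : Set (Cfsg.Sz F m))) (htU : t ∉ U)
    (ht2 : t * t ∈ U) : t⁻¹ * s ∈ U := by
  obtain ⟨u, hu, hu1⟩ := hU.exists_ne_one h
  apply cyc_centralizer h hU hu hu1
  have e1 := inverts_of_sq_mem h hU hs hsU hs2 hu
  have e2 := inverts_of_sq_mem h hU ht htU ht2 hu
  have e3 : t⁻¹ * u⁻¹ * t = u := by
    rw [← e2]
    group
  calc t⁻¹ * s * u = t⁻¹ * (s * u * s⁻¹) * s := by group
    _ = t⁻¹ * u⁻¹ * s := by rw [e1]
    _ = (t⁻¹ * u⁻¹ * t) * (t⁻¹ * s) := by group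
    _ = u * (t⁻¹ * s) := by rw [e3]

/-- the set of involutions of the normalizer -/
def invSet (U : Subgroup (Cfsg.Sz F m)) : Set (Cfsg.Sz F m) :=
  {s | s ∈ Subgroup.normalizer (U : Set (Cfsg.Sz F m)) ∧ s ∉ U ∧ s * s ∈ U}

theorem mem_invSet_of_involution (h : FH F m) {U : Subgroup (Cfsg.Sz F m)} (hU : IsCyc m U)
    {t : Cfsg.Sz F m} (ht : t ∈ Subgroup.normalizer (U : Set (Cfsg.Sz F m))) (ht1 : t ≠ 1)
    (ht2 : t * t = 1) : t ∈ invSet U := by
  refine ⟨ht, ?_, ?_⟩
  · intro htU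
    have hodd := odd_orderOf_of_mem_cyc h hU htU
    have hd : orderOf t ∣ 2 := orderOf_dvd_of_pow_eq_one (by rw [pow_two, ht2])
    rcases (Nat.dvd_prime Nat.prime_two).1 hd with e | e
    · exact ht1 (orderOf_eq_one_iff.1 e)
    · rw [e] at hodd
      exact absurd hodd (by decide)
  · rw [ht2]
    exact U.one_mem

theorem exists_mem_invSet (h : FH F m) {U : Subgroup (Cfsg.Sz F m)} (hU : IsCyc m U) :
    ∃ t, t ∈ invSet U := by
  have : Fact (Nat.Prime 2) := ⟨Nat.prime_two⟩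
  obtain ⟨w, hw, hcard⟩ := card_normalizer_cyc h hU
  have hd : 2 ∣ Nat.card (Subgroup.normalizer (U : Set (Cfsg.Sz F m))) := by
    rw [hcard]
    rcases hw with rfl | rfl
    · exact Dvd.intro _ rfl
    · exact Dvd.dvd.mul_right (by norm_num) _
  obtain ⟨t, ht⟩ := exists_prime_orderOf_dvd_card' 2 hd
  have ht1 : (t : Cfsg.Sz F m) ≠ 1 := by
    intro e
    have : t = 1 := Subtype.ext e
    rw [this, orderOf_one] at ht
    omega
  have ht2 : (t : Cfsg.Sz F m) * t = 1 := by
    have h2 : t ^ 2 = 1 := by rw [← ht]; exact pow_orderOf_eq_one t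
    have h3 : (t : Cfsg.Sz F m) ^ 2 = 1 := by
      rw [← Subgroup.coe_pow, h2, Subgroup.coe_one]
    rwa [pow_two] at h3
  exact ⟨t, mem_invSet_of_involution h hU t.2 ht1 ht2⟩

/-- the involutions of the normalizer form a coset of the member -/
theorem invSet_eq (h : FH F m) {U : Subgroup (Cfsg.Sz F m)} (hU : IsCyc m U)
    {t : Cfsg.Sz F m} (ht : t ∈ invSet U) :
    invSet U = (fun u => t * u) '' (U : Set (Cfsg.Sz F m)) := by
  ext s
  constructor
  · intro hs
    refine ⟨t⁻¹ * s, inv_mul_mem_of_sq_mem h hU hs.1 hs.2.1 hs.2.2 ht.1 ht.2.1 ht.2.2, ?_⟩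
    show t * (t⁻¹ * s) = s
    group
  · rintro ⟨u, hu, rfl⟩
    have huN : u ∈ Subgroup.normalizer (U : Set (Cfsg.Sz F m)) := Subgroup.le_normalizer hu
    refine ⟨Subgroup.mul_mem _ ht.1 huN, ?_, ?_⟩
    · intro e
      apply ht.2.1
      have : t = t * u * u⁻¹ := by group
      rw [this]
      exact U.mul_mem e (U.inv_mem hu)
    · have e1 := inverts_of_sq_mem h hU ht.1 ht.2.1 ht.2.2 hu
      have e2 := sq_eq_one_of_sq_mem h hU ht.1 ht.2.1 ht.2.2
      have : t * u * (t * u) = (t * u * t⁻¹) * (t * t) * u := by group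
      rw [this, e1, e2, mul_one, inv_mul_cancel]
      exact U.one_mem

theorem ncard_invSet (h : FH F m) {U : Subgroup (Cfsg.Sz F m)} (hU : IsCyc m U) :
    (invSet U).ncard = Nat.card U := by
  obtain ⟨t, ht⟩ := exists_mem_invSet h hU
  rw [invSet_eq h hU ht, Set.ncard_image_of_injective _ (mul_right_injective t),
    ← Nat.card_coe_set_eq]
  rfl

theorem invSet_iff (h : FH F m) {U : Subgroup (Cfsg.Sz F m)} (hU : IsCyc m U)
    (s : Cfsg.Sz F m) :
    s ∈ invSet U ↔ s ∈ Subgroup.normalizer (U : Set (Cfsg.Sz F m)) ∧ s ≠ 1 ∧ s * s = 1 := by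
  constructor
  · intro hs
    refine ⟨hs.1, ?_, sq_eq_one_of_sq_mem h hU hs.1 hs.2.1 hs.2.2⟩
    rintro rfl
    exact hs.2.1 U.one_mem
  · rintro ⟨h1, h2, h3⟩
    exact mem_invSet_of_involution h hU h1 h2 h3

/-! ### Elements of order four -/

theorem pow_four_mem (h : FH F m) {U : Subgroup (Cfsg.Sz F m)} (hU : IsCyc m U)
    {z : Cfsg.Sz F m} (hz : z ∈ Subgroup.normalizer (U : Set (Cfsg.Sz F m))) : z ^ 4 ∈ U := by
  obtain ⟨w, hw, hcard⟩ := card_normalizer_cyc h hU
  set N := Subgroup.normalizer (U : Set (Cfsg.Sz F m)) with hN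
  have hle : U ≤ N := Subgroup.le_normalizer
  have : (U.subgroupOf N).Normal := Subgroup.normal_in_normalizer
  have h1 := Subgroup.index_mul_card (U.subgroupOf N)
  have h2 : Nat.card (U.subgroupOf N) = Nat.card U :=
    Nat.card_congr (Subgroup.subgroupOfEquivOfLe hle).toEquiv
  rw [h2, hcard] at h1
  have hpos : 0 < Nat.card U := Nat.card_pos
  have hidx : (U.subgroupOf N).index = w := Nat.eq_of_mul_eq_mul_right hpos h1
  have h3 := Subgroup.pow_index_mem (U.subgroupOf N) (⟨z, hz⟩ : N)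
  rw [hidx, Subgroup.mem_subgroupOf] at h3
  have h4 : z ^ w ∈ U := h3
  rcases hw with rfl | rfl
  · have : z ^ 4 = (z ^ 2) ^ 2 := by rw [← pow_mul]
    rw [this]
    exact U.pow_mem h4 2
  · exact h4

theorem sq_mem_of_index_two (h : FH F m) {U : Subgroup (Cfsg.Sz F m)} (hU : IsCyc m U)
    (hcard : Nat.card (Subgroup.normalizer (U : Set (Cfsg.Sz F m))) = 2 * Nat.card U)
    {z : Cfsg.Sz F m} (hz : z ∈ Subgroup.normalizer (U : Set (Cfsg.Sz F m))) : z ^ 2 ∈ U := by
  set N := Subgroup.normalizer (U : Set (Cfsg.Sz F m)) with hN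
  have hle : U ≤ N := Subgroup.le_normalizer
  have : (U.subgroupOf N).Normal := Subgroup.normal_in_normalizer
  have h1 := Subgroup.index_mul_card (U.subgroupOf N)
  have h2 : Nat.card (U.subgroupOf N) = Nat.card U :=
    Nat.card_congr (Subgroup.subgroupOfEquivOfLe hle).toEquiv
  rw [h2, hcard] at h1
  have hpos : 0 < Nat.card U := Nat.card_pos
  have hidx : (U.subgroupOf N).index = 2 := Nat.eq_of_mul_eq_mul_right hpos h1
  have h3 := Subgroup.pow_index_mem (U.subgroupOf N) (⟨z, hz⟩ : N)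
  rw [hidx, Subgroup.mem_subgroupOf] at h3
  exact h3

/-- the elements of order four of the normalizer -/
def fourSet (U : Subgroup (Cfsg.Sz F m)) : Set (Cfsg.Sz F m) :=
  {z | z ∈ Subgroup.normalizer (U : Set (Cfsg.Sz F m)) ∧ orderOf z = 4}

theorem fourSet_eq (h : FH F m) {U : Subgroup (Cfsg.Sz F m)} (hU : IsCyc m U) :
    fourSet U = ((Subgroup.normalizer (U : Set (Cfsg.Sz F m)) : Subgroup (Cfsg.Sz F m)) :
      Set (Cfsg.Sz F m)) \ ((U : Set (Cfsg.Sz F m)) ∪ invSet U) := by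
  ext z
  constructor
  · rintro ⟨hz, hord⟩
    refine ⟨hz, ?_⟩
    rintro (hzU | hzI)
    · have hodd := odd_orderOf_of_mem_cyc h hU hzU
      rw [hord] at hodd
      exact absurd hodd (by decide)
    · have h2 := sq_eq_one_of_sq_mem h hU hzI.1 hzI.2.1 hzI.2.2
      have hd : orderOf z ∣ 2 := orderOf_dvd_of_pow_eq_one (by rw [pow_two, h2])
      rw [hord] at hd
      exact absurd hd (by decide)
  · rintro ⟨hz, hnot⟩
    have hz' : z ∈ Subgroup.normalizer (U : Set (Cfsg.Sz F m)) := hz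
    refine ⟨hz', ?_⟩
    have hzU : z ∉ U := fun e => hnot (Or.inl e)
    have hz2U : z * z ∉ U := fun e => hnot (Or.inr ⟨hz', hzU, e⟩)
    have hz2N : z * z ∈ Subgroup.normalizer (U : Set (Cfsg.Sz F m)) :=
      Subgroup.mul_mem _ hz' hz'
    have hz4 : (z * z) * (z * z) ∈ U := by
      have := pow_four_mem h hU hz'
      have e : z ^ 4 = (z * z) * (z * z) := by
        rw [← pow_two, ← pow_two, ← pow_mul]
      rwa [e] at this
    have h1 := sq_eq_one_of_sq_mem h hU hz2N hz2U hz4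
    have h4 : z ^ 2 ^ (1 + 1) = 1 := by
      have e : z ^ 2 ^ (1 + 1) = (z * z) * (z * z) := by
        rw [← pow_two, ← pow_two, ← pow_mul]
        norm_num
      rw [e, h1]
    have h2 : ¬ z ^ 2 ^ 1 = 1 := by
      rw [pow_one, pow_two]
      intro e
      apply hz2U
      rw [e]
      exact U.one_mem
    have := orderOf_eq_prime_pow h2 h4
    rw [this]
    norm_num

theorem ncard_fourSet_of_four (h : FH F m) {U : Subgroup (Cfsg.Sz F m)} (hU : IsCyc m U)
    (hcard : Nat.card (Subgroup.normalizer (U : Set (Cfsg.Sz F m))) = 4 * Nat.card U) :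
    (fourSet U).ncard = 2 * Nat.card U := by
  rw [fourSet_eq h hU]
  have hsub : (U : Set (Cfsg.Sz F m)) ∪ invSet U ⊆
      ((Subgroup.normalizer (U : Set (Cfsg.Sz F m)) : Subgroup (Cfsg.Sz F m)) :
        Set (Cfsg.Sz F m)) := by
    rintro z (hz | hz)
    · exact Subgroup.le_normalizer hz
    · exact hz.1
  have hdisj : Disjoint (U : Set (Cfsg.Sz F m)) (invSet U) := by
    rw [Set.disjoint_left]
    intro z hz hz'
    exact hz'.2.1 hz
  have h1 := Set.ncard_sdiff_add_ncard_of_subset hsub (Set.toFinite _)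
  rw [Set.ncard_union_eq hdisj (Set.toFinite _) (Set.toFinite _), ncard_invSet h hU] at h1
  have e1 : ((Subgroup.normalizer (U : Set (Cfsg.Sz F m)) : Subgroup (Cfsg.Sz F m)) :
      Set (Cfsg.Sz F m)).ncard = 4 * Nat.card U := by
    rw [← hcard, ← Nat.card_coe_set_eq]
    rfl
  have e2 : (U : Set (Cfsg.Sz F m)).ncard = Nat.card U := by
    rw [← Nat.card_coe_set_eq]
    rfl
  rw [e1, e2] at h1
  omega

theorem fourSet_empty_of_two (h : FH F m) {U : Subgroup (Cfsg.Sz F m)} (hU : IsCyc m U)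
    (hcard : Nat.card (Subgroup.normalizer (U : Set (Cfsg.Sz F m))) = 2 * Nat.card U) :
    fourSet U = ∅ := by
  rw [Set.eq_empty_iff_forall_notMem]
  rintro z ⟨hz, hord⟩
  have h1 := sq_mem_of_index_two h hU hcard hz
  rw [pow_two] at h1
  have hzU : z ∉ U := by
    intro e
    have hodd := odd_orderOf_of_mem_cyc h hU e
    rw [hord] at hodd
    exact absurd hodd (by decide)
  have h2 := sq_eq_one_of_sq_mem h hU hz hzU h1
  have hd : orderOf z ∣ 2 := orderOf_dvd_of_pow_eq_one (by rw [pow_two, h2])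
  rw [hord] at hd
  exact absurd hd (by decide)

end Cfsg.Agent.Helper8.SzSol
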