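import Mathlib
import Cfsg.Agent.Helper8.SzSolD

set_option autoImplicit false

/-!
The solubilizer of an element of the Suzuki group (`2m+1` prime): description and the count
for the elements of odd order.
-/

namespace Cfsg.Agent.Helper8.SzSol

open Cfsg.Agent.Helper7.Sz Cfsg.Agent.Helper7 MulAction Cfsg.Agent.Helper8.SzPart
  Cfsg.Agent.Helper8.SzSub Cfsg.Agent.Helper8.SzTI Cfsg.Agent.Helper8.LS Cfsg.Agent.Helper8.SzMax

variable {F : Type*} [Field F] [Fintype F] {m : ℕ}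

/-- the solubilizer -/
def Sol (x : Cfsg.Sz F m) : Set (Cfsg.Sz F m) :=
  {y | Group.IsSolvable (Subgroup.closure ({x, y} : Set (Cfsg.Sz F m)))}

theorem closure_pair_le {G : Type*} [Group G] {x y : G} {M : Subgroup G} :
    Subgroup.closure ({x, y} : Set G) ≤ M ↔ x ∈ M ∧ y ∈ M := by
  rw [Subgroup.closure_le]
  constructor
  · intro hh
    exact ⟨hh (Set.mem_insert _ _), hh (Set.mem_insert_of_mem _ rfl)⟩
  · rintro ⟨h1, h2⟩ z hz
    rcases hz with rfl | hz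
    · exact h1
    · rw [Set.mem_singleton_iff] at hz
      rw [hz]
      exact h2

theorem isCyc_Cz (h : FH F m) {x : Cfsg.Sz F m} (hx : x ∈ XX (Cfsg.Sz F m) (2 ^ (2 * m + 1))) :
    IsCyc m (Cz x) := by
  have h2r : 2 ^ (m + 1) = 2 * 2 ^ m := by rw [pow_succ]; ring
  refine ⟨(ctx h).cyc _ hx.1 hx.2, ?_⟩
  rw [h2r]
  rcases (ctx h).card_Cz hx with e | e
  · rw [e]; simp
  · rw [e]; simp

theorem isCyc_twoStab (h : FH F m) {a b : Cfsg.suzukiOvoid F m} (hab : a ≠ b) :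
    IsCyc m (twoStab a b) := by
  obtain ⟨c1, c2⟩ := twoStab_cyclic h hab
  refine ⟨c1, ?_⟩
  rw [c2]
  exact Set.mem_insert _ _

theorem mem_Sol_iff (h : FH F m) (hp : (2 * m + 1).Prime) (x y : Cfsg.Sz F m) :
    y ∈ Sol x ↔ (∃ a : Cfsg.suzukiOvoid F m, x • a = a ∧ y • a = a) ∨
      (∃ U : Subgroup (Cfsg.Sz F m), IsCyc m U ∧
        x ∈ Subgroup.normalizer (U : Set (Cfsg.Sz F m)) ∧
        y ∈ Subgroup.normalizer (U : Set (Cfsg.Sz F m))) := by
  unfold Sol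
  rw [Set.mem_ofPred_eq, solvable_iff_ne_top h hp, ne_top_iff h hp]
  constructor
  · rintro (⟨a, ha⟩ | ⟨U, hU, hle⟩)
    · left
      obtain ⟨h1, h2⟩ := closure_pair_le.1 ha
      exact ⟨a, mem_stabilizer_iff.1 h1, mem_stabilizer_iff.1 h2⟩
    · right
      obtain ⟨h1, h2⟩ := closure_pair_le.1 hle
      exact ⟨U, hU, h1, h2⟩
  · rintro (⟨a, h1, h2⟩ | ⟨U, hU, h1, h2⟩)
    · left
      exact ⟨a, closure_pair_le.2 ⟨mem_stabilizer_iff.2 h1, mem_stabilizer_iff.2 h2⟩⟩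
    · right
      exact ⟨U, hU, closure_pair_le.2 ⟨h1, h2⟩⟩

/-- a cyclic member normalized by an element of odd order of another one is that one -/
theorem cyc_unique_of_odd (h : FH F m) {x : Cfsg.Sz F m} (hx1 : x ≠ 1) (hodd : Odd (orderOf x))
    {T U : Subgroup (Cfsg.Sz F m)} (hT : IsCyc m T) (hxT : x ∈ T) (hU : IsCyc m U)
    (hxU : x ∈ Subgroup.normalizer (U : Set (Cfsg.Sz F m))) : U = T :=
  IsCyc.eq_of_mem h hU hT hx1 (hU.mem_of_normalizer h hxU hodd) hxT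

/-! ### Fixed-point-free elements -/

theorem Sol_of_fpf (h : FH F m) (hp : (2 * m + 1).Prime) {x : Cfsg.Sz F m}
    (hx : x ∈ XX (Cfsg.Sz F m) (2 ^ (2 * m + 1))) :
    Sol x = ((Subgroup.normalizer ((Cz x : Subgroup (Cfsg.Sz F m)) : Set (Cfsg.Sz F m)) :
      Subgroup (Cfsg.Sz F m)) : Set (Cfsg.Sz F m)) := by
  have hT := isCyc_Cz h hx
  have hodd : Odd (orderOf x) := (act h).odd_orderOf_of_pow hx.2
  ext y
  rw [mem_Sol_iff h hp, SetLike.mem_coe]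
  constructor
  · rintro (⟨a, ha, -⟩ | ⟨U, hU, h1, h2⟩)
    · exact absurd ha ((act h).fpf_of_pow hx.1 hx.2 a)
    · have := cyc_unique_of_odd h hx.1 hodd hT (self_mem_Cz x) hU h1
      rw [← this]
      exact h2
  · intro hy
    right
    exact ⟨Cz x, hT, Subgroup.le_normalizer (self_mem_Cz x), hy⟩

theorem ncard_Sol_of_fpf (h : FH F m) (hp : (2 * m + 1).Prime) {x : Cfsg.Sz F m}
    (hx : x ∈ XX (Cfsg.Sz F m) (2 ^ (2 * m + 1))) :
    (Sol x).ncard = 4 * Nat.card (Cz x) := by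
  rw [Sol_of_fpf h hp hx, ← (ctx h).card_normalizer hx]
  exact (Nat.card_coe_set_eq _).symm

theorem mem_XX_of_dvd (h : FH F m) {x : Cfsg.Sz F m} (hx1 : x ≠ 1) {k : ℕ}
    (hk : k ∣ (2 ^ (2 * m + 1)) ^ 2 + 1) (hd : orderOf x ∣ k) :
    x ∈ XX (Cfsg.Sz F m) (2 ^ (2 * m + 1)) :=
  ⟨hx1, orderOf_dvd_iff_pow_eq_one.1 (hd.trans hk)⟩

theorem ncard_Sol_plus (h : FH F m) (hp : (2 * m + 1).Prime) {x : Cfsg.Sz F m} (hx1 : x ≠ 1)
    (hd : orderOf x ∣ 2 ^ (2 * m + 1) + 2 ^ (m + 1) + 1) :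
    (Sol x).ncard = 4 * (2 ^ (2 * m + 1) + 2 ^ (m + 1) + 1) := by
  have h2r : 2 ^ (m + 1) = 2 * 2 ^ m := by rw [pow_succ]; ring
  have hqr := (act h).hqr
  have hprod := num_prod hqr
  have hcop := num_coprime hqr
  rw [h2r] at hd ⊢
  have hx : x ∈ XX (Cfsg.Sz F m) (2 ^ (2 * m + 1)) :=
    mem_XX_of_dvd h hx1 (Dvd.intro _ hprod) hd
  rw [ncard_Sol_of_fpf h hp hx]
  rcases (ctx h).card_Cz hx with e | e
  · rw [e]
  · exfalso
    have h1 := orderOf_dvd_card_Cz x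
    rw [e] at h1
    have := Nat.dvd_gcd hd h1
    rw [hcop] at this
    exact hx1 (orderOf_eq_one_iff.1 (Nat.dvd_one.1 this))

theorem ncard_Sol_minus (h : FH F m) (hp : (2 * m + 1).Prime) {x : Cfsg.Sz F m} (hx1 : x ≠ 1)
    (hd : orderOf x ∣ 2 ^ (2 * m + 1) - 2 ^ (m + 1) + 1) :
    (Sol x).ncard = 4 * (2 ^ (2 * m + 1) - 2 ^ (m + 1) + 1) := by
  have h2r : 2 ^ (m + 1) = 2 * 2 ^ m := by rw [pow_succ]; ring
  have hqr := (act h).hqr
  have hprod := num_prod hqr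
  have hcop := num_coprime hqr
  rw [h2r] at hd ⊢
  have hx : x ∈ XX (Cfsg.Sz F m) (2 ^ (2 * m + 1)) :=
    mem_XX_of_dvd h hx1 (Dvd.intro_left _ hprod) hd
  rw [ncard_Sol_of_fpf h hp hx]
  rcases (ctx h).card_Cz hx with e | e
  · exfalso
    have h1 := orderOf_dvd_card_Cz x
    rw [e] at h1
    have := Nat.dvd_gcd h1 hd
    rw [hcop] at this
    exact hx1 (orderOf_eq_one_iff.1 (Nat.dvd_one.1 this))
  · rw [e]

/-! ### Elements of the split torus -/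

theorem exists_twoStab_of_dvd (h : FH F m) {x : Cfsg.Sz F m} (hx1 : x ≠ 1)
    (hd : orderOf x ∣ 2 ^ (2 * m + 1) - 1) :
    ∃ a b : Cfsg.suzukiOvoid F m, a ≠ b ∧ x • a = a ∧ x • b = b := by
  have hA := act h
  have hne1 : orderOf x ≠ 1 := fun e => hx1 (orderOf_eq_one_iff.1 e)
  obtain ⟨s, hs, hsn⟩ := Nat.exists_prime_and_dvd hne1
  have hsq : s ∣ 2 ^ (2 * m + 1) - 1 := hsn.trans hd
  have hnot : ¬ x ^ ((2 ^ (2 * m + 1)) ^ 2 + 1) = 1 := by
    intro e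
    have h1 : orderOf x ∣ (2 ^ (2 * m + 1)) ^ 2 + 1 := orderOf_dvd_of_pow_eq_one e
    have h2 : orderOf x ∣ (2 ^ (2 * m + 1)) ^ 2 * (2 ^ (2 * m + 1) - 1) := Dvd.dvd.mul_left hd _
    have := Nat.dvd_gcd h1 h2
    rw [hA.coprime] at this
    exact hne1 (Nat.dvd_one.1 this)
  have hfix : ∃ a : Cfsg.suzukiOvoid F m, x • a = a := by
    by_contra hcon
    push Not at hcon
    exact hnot (hA.pow_eq_one_of_fpf hcon)
  obtain ⟨a, ha⟩ := hfix
  obtain ⟨b, hba, hb⟩ := hA.exists_two_fixed hs hsn hsq ha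
  exact ⟨a, b, Ne.symm hba, ha, hb⟩

theorem Sol_of_split (h : FH F m) (hp : (2 * m + 1).Prime) {x : Cfsg.Sz F m} (hx1 : x ≠ 1)
    (hodd : Odd (orderOf x)) {a b : Cfsg.suzukiOvoid F m} (hab : a ≠ b) (ha : x • a = a)
    (hb : x • b = b) :
    Sol x = ((stabilizer (Cfsg.Sz F m) a : Set (Cfsg.Sz F m)) ∪
      (stabilizer (Cfsg.Sz F m) b : Set (Cfsg.Sz F m))) ∪
      (((Subgroup.normalizer ((twoStab a b : Subgroup (Cfsg.Sz F m)) : Set (Cfsg.Sz F m)) :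
        Subgroup (Cfsg.Sz F m)) : Set (Cfsg.Sz F m)) \
        ((twoStab a b : Subgroup (Cfsg.Sz F m)) : Set (Cfsg.Sz F m))) := by
  have hT := isCyc_twoStab h hab
  have hxT : x ∈ twoStab a b := mem_twoStab.2 ⟨ha, hb⟩
  ext y
  rw [mem_Sol_iff h hp, Set.mem_union, Set.mem_union, SetLike.mem_coe, SetLike.mem_coe,
    mem_stabilizer_iff, mem_stabilizer_iff, Set.mem_sdiff, SetLike.mem_coe, SetLike.mem_coe]
  constructor
  · rintro (⟨c, hc, hyc⟩ | ⟨U, hU, h1, h2⟩)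
    · left
      rcases fix_subset h hx1 hab ha hb hc with rfl | rfl
      · exact Or.inl hyc
      · exact Or.inr hyc
    · have := cyc_unique_of_odd h hx1 hodd hT hxT hU h1
      rw [this] at h2
      by_cases hyT : y ∈ twoStab a b
      · exact Or.inl (Or.inl (mem_twoStab.1 hyT).1)
      · exact Or.inr ⟨h2, hyT⟩
  · rintro ((hy | hy) | ⟨hy, -⟩)
    · exact Or.inl ⟨a, ha, hy⟩
    · exact Or.inl ⟨b, hb, hy⟩
    · right
      exact ⟨twoStab a b, hT, Subgroup.le_normalizer hxT, hy⟩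

theorem ncard_Sol_split (h : FH F m) (hp : (2 * m + 1).Prime) {x : Cfsg.Sz F m} (hx1 : x ≠ 1)
    (hd : orderOf x ∣ 2 ^ (2 * m + 1) - 1) :
    (Sol x).ncard = 2 * (2 ^ (2 * m + 1)) ^ 2 * (2 ^ (2 * m + 1) - 1) := by
  have hA := act h
  obtain ⟨a, b, hab, ha, hb⟩ := exists_twoStab_of_dvd h hx1 hd
  have hodd : Odd (orderOf x) := by
    rw [← Nat.not_even_iff_odd]
    intro hev
    have h1 : 2 ∣ 2 ^ (2 * m + 1) - 1 := (even_iff_two_dvd.1 hev).trans hd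
    have : 0 < 2 ^ (2 * m) := pow_pos (by norm_num) _
    have e : 2 ^ (2 * m + 1) = 2 * 2 ^ (2 * m) := by rw [pow_succ]; ring
    omega
  rw [Sol_of_split h hp hx1 hodd hab ha hb]
  set A : Set (Cfsg.Sz F m) := (stabilizer (Cfsg.Sz F m) a : Set (Cfsg.Sz F m)) with hAdef
  set B : Set (Cfsg.Sz F m) := (stabilizer (Cfsg.Sz F m) b : Set (Cfsg.Sz F m)) with hBdef
  set T : Set (Cfsg.Sz F m) := ((twoStab a b : Subgroup (Cfsg.Sz F m)) : Set (Cfsg.Sz F m))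
    with hTdef
  set N : Set (Cfsg.Sz F m) := ((Subgroup.normalizer ((twoStab a b : Subgroup (Cfsg.Sz F m)) :
    Set (Cfsg.Sz F m)) : Subgroup (Cfsg.Sz F m)) : Set (Cfsg.Sz F m)) with hNdef
  have hcA : A.ncard = (2 ^ (2 * m + 1)) ^ 2 * (2 ^ (2 * m + 1) - 1) := by
    rw [← hA.card_stabilizer a]
    exact (Nat.card_coe_set_eq _).symm
  have hcB : B.ncard = (2 ^ (2 * m + 1)) ^ 2 * (2 ^ (2 * m + 1) - 1) := by
    rw [← hA.card_stabilizer b]
    exact (Nat.card_coe_set_eq _).symm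
  have hcT : T.ncard = Nat.card (twoStab a b) := (Nat.card_coe_set_eq _).symm
  have hcN : N.ncard = 2 * Nat.card (twoStab a b) := by
    rw [← card_normalizer_twoStab h hab]
    exact (Nat.card_coe_set_eq _).symm
  have hAB : A ∩ B = T := by
    ext g
    rw [Set.mem_inter_iff, hAdef, hBdef, hTdef, SetLike.mem_coe, SetLike.mem_coe, SetLike.mem_coe,
      mem_twoStab, mem_stabilizer_iff, mem_stabilizer_iff]
  have hTN : T ⊆ N := fun g hg => Subgroup.le_normalizer hg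
  have hdisj : Disjoint (A ∪ B) (N \ T) := by
    rw [Set.disjoint_left]
    rintro g hg ⟨hgN, hgT⟩
    rw [hNdef, SetLike.mem_coe, mem_normalizer_twoStab h hab] at hgN
    rcases hgN with hfix | ⟨e1, e2⟩
    · exact hgT (mem_twoStab.2 hfix)
    · rcases hg with hg | hg
      · rw [hAdef, SetLike.mem_coe, mem_stabilizer_iff] at hg
        exact hab (hg.symm.trans e1)
      · rw [hBdef, SetLike.mem_coe, mem_stabilizer_iff] at hg
        exact hab (e2.symm.trans hg)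
  rw [Set.ncard_union_eq hdisj (Set.toFinite _) (Set.toFinite _)]
  have h1 := Set.ncard_union_add_ncard_inter A B (Set.toFinite _) (Set.toFinite _)
  have h2 := Set.ncard_sdiff_add_ncard_of_subset hTN (Set.toFinite _)
  rw [hAB] at h1
  rw [hcA, hcB] at h1
  rw [hcN] at h2
  have e : 2 * (2 ^ (2 * m + 1)) ^ 2 * (2 ^ (2 * m + 1) - 1) =
      (2 ^ (2 * m + 1)) ^ 2 * (2 ^ (2 * m + 1) - 1) + (2 ^ (2 * m + 1)) ^ 2 * (2 ^ (2 * m + 1) - 1) := by
    ring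
  rw [e]
  omega

end Cfsg.Agent.Helper8.SzSol
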