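import Mathlib
import Cfsg.Agent.Helper8.SzSolE
import Cfsg.Agent.Helper8.SzSolC

set_option autoImplicit false

/-!
Structure lemmas for the solubilizer of a `2`-element of the Suzuki group: the normalizers of the
cyclic members through the element.
-/

namespace Cfsg.Agent.Helper8.SzSol

open Cfsg.Agent.Helper7.Sz Cfsg.Agent.Helper7 MulAction Cfsg.Agent.Helper8.SzPart
  Cfsg.Agent.Helper8.SzSub Cfsg.Agent.Helper8.SzTI Cfsg.Agent.Helper8.LS Cfsg.Agent.Helper8.SzMax

variable {F : Type*} [Field F] [Fintype F] {m : ℕ}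

/-- a `2`-subgroup fixes the fixed point of any of its elements with a unique fixed point -/
theorem two_group_le_stabilizer (h : FH F m) {Q : Subgroup (Cfsg.Sz F m)} (hQ : IsPGroup 2 Q)
    {x : Cfsg.Sz F m} (hxQ : x ∈ Q) {a : Cfsg.suzukiOvoid F m}
    (huniq : ∀ b : Cfsg.suzukiOvoid F m, x • b = b → b = a) :
    Q ≤ stabilizer (Cfsg.Sz F m) a := by
  have : Fact (Nat.Prime 2) := ⟨Nat.prime_two⟩
  have hA := act h
  have hodd : ¬ 2 ∣ Nat.card (Cfsg.suzukiOvoid F m) := by
    rw [hA.cardΩ]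
    exact hA.odd_sq
  obtain ⟨ω, hω⟩ := hQ.nonempty_fixed_point_of_prime_not_dvd_card (Cfsg.suzukiOvoid F m) hodd
  have hω' : ∀ y ∈ Q, y • ω = ω := fun y hy => hω ⟨y, hy⟩
  have hωa : ω = a := huniq ω (hω' x hxQ)
  subst hωa
  intro y hy
  exact mem_stabilizer_iff.2 (hω' y hy)

/-- two distinct cyclic members normalized by `x`: the intersection of their normalizers fixes the
fixed point of `x` -/
theorem fix_of_two_normalizers (h : FH F m) {x y : Cfsg.Sz F m} {a : Cfsg.suzukiOvoid F m}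
    (huniq : ∀ b : Cfsg.suzukiOvoid F m, x • b = b → b = a)
    {U U' : Subgroup (Cfsg.Sz F m)} (hU : IsCyc m U) (hU' : IsCyc m U') (hne : U ≠ U')
    (hxU : x ∈ Subgroup.normalizer (U : Set (Cfsg.Sz F m)))
    (hxU' : x ∈ Subgroup.normalizer (U' : Set (Cfsg.Sz F m)))
    (hyU : y ∈ Subgroup.normalizer (U : Set (Cfsg.Sz F m)))
    (hyU' : y ∈ Subgroup.normalizer (U' : Set (Cfsg.Sz F m))) : y • a = a := by
  set L := Subgroup.closure ({x, y} : Set (Cfsg.Sz F m)) with hL
  have hLU : L ≤ Subgroup.normalizer (U : Set (Cfsg.Sz F m)) := closure_pair_le.2 ⟨hxU, hyU⟩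
  have hLU' : L ≤ Subgroup.normalizer (U' : Set (Cfsg.Sz F m)) := closure_pair_le.2 ⟨hxU', hyU'⟩
  have hxL : x ∈ L := Subgroup.subset_closure (Set.mem_insert _ _)
  have hyL : y ∈ L := Subgroup.subset_closure (Set.mem_insert_of_mem _ rfl)
  rcases Nat.eq_two_pow_or_exists_odd_prime_and_dvd (Nat.card L) with ⟨n, hn⟩ | ⟨p, hp, hpd, hodd⟩
  · have hQ : IsPGroup 2 L := IsPGroup.of_card hn
    exact mem_stabilizer_iff.1 (two_group_le_stabilizer h hQ hxL huniq hyL)
  · exfalso
    have : Fact p.Prime := ⟨hp⟩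
    obtain ⟨z, hz⟩ := exists_prime_orderOf_dvd_card' (G := L) p hpd
    have hz' : orderOf (z : Cfsg.Sz F m) = p := by
      rw [Subgroup.orderOf_coe]
      exact hz
    have hz1 : (z : Cfsg.Sz F m) ≠ 1 := by
      intro e
      rw [e, orderOf_one] at hz'
      exact hp.one_lt.ne hz'
    have hzodd : Odd (orderOf (z : Cfsg.Sz F m)) := by
      rw [hz']
      exact hodd
    have h1 := hU.mem_of_normalizer h (hLU z.2) hzodd
    have h2 := hU'.mem_of_normalizer h (hLU' z.2) hzodd
    exact hne (IsCyc.eq_of_mem h hU hU' hz1 h1 h2)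

/-- the part of the normalizer of a cyclic member fixing the fixed point of `x` is a Sylow
`2`-subgroup -/
theorem card_normalizer_inf_stabilizer (h : FH F m) {x : Cfsg.Sz F m}
    {a : Cfsg.suzukiOvoid F m} (ha : x • a = a)
    (huniq : ∀ b : Cfsg.suzukiOvoid F m, x • b = b → b = a) {j : ℕ} (hx2 : x ^ 2 ^ j = 1)
    {U : Subgroup (Cfsg.Sz F m)} (hU : IsCyc m U)
    (hxU : x ∈ Subgroup.normalizer (U : Set (Cfsg.Sz F m))) {w : ℕ} (hw : w = 2 ∨ w = 4)
    (hcard : Nat.card (Subgroup.normalizer (U : Set (Cfsg.Sz F m))) = w * Nat.card U) :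
    Nat.card ↥(Subgroup.normalizer (U : Set (Cfsg.Sz F m)) ⊓ stabilizer (Cfsg.Sz F m) a) = w := by
  have : Fact (Nat.Prime 2) := ⟨Nat.prime_two⟩
  set N := Subgroup.normalizer (U : Set (Cfsg.Sz F m)) with hN
  set D := N ⊓ stabilizer (Cfsg.Sz F m) a with hD
  have hUpos : 0 < Nat.card U := Nat.card_pos
  apply le_antisymm
  · -- `D ∩ U = 1`
    have hdisj : Disjoint D U := by
      rw [Subgroup.disjoint_def]
      intro u huD huU
      by_contra hu1
      have hua : u • a = a := mem_stabilizer_iff.1 (Subgroup.mem_inf.1 huD).2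
      rcases cyc_cases h hU with ⟨z, hz, rfl⟩ | ⟨c, d, hcd, rfl⟩
      · have huX := (ctx h).mem_XX_of_mem_Cz hz huU hu1
        exact (act h).fpf_of_pow huX.1 huX.2 a hua
      · obtain ⟨huc, hud⟩ := mem_twoStab.1 huU
        rcases (mem_normalizer_twoStab h hcd x).1 hxU with ⟨e1, e2⟩ | ⟨e1, e2⟩
        · exact hcd ((huniq c e1).trans (huniq d e2).symm)
        · rcases fix_subset h hu1 hcd huc hud hua with e | e
          · rw [e] at ha
            exact hcd (ha.symm.trans e1)
          · rw [e] at ha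
            exact hcd (e2.symm.trans ha)
    have hinj := Subgroup.mul_injective_of_disjoint hdisj
    let f : D × U → N := fun g => ⟨(g.1 : Cfsg.Sz F m) * (g.2 : Cfsg.Sz F m),
      Subgroup.mul_mem _ (Subgroup.mem_inf.1 g.1.2).1 (Subgroup.le_normalizer g.2.2)⟩
    have hf : Function.Injective f := by
      intro g g' e
      exact hinj (congrArg Subtype.val e)
    have h1 := Nat.card_le_card_of_injective f hf
    rw [Nat.card_prod, hcard] at h1
    exact Nat.le_of_mul_le_mul_right h1 hUpos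
  · -- a Sylow `2`-subgroup of the normalizer through `x`
    have hz : IsPGroup 2 (Subgroup.zpowers (⟨x, hxU⟩ : N)) := by
      have h1 : orderOf (⟨x, hxU⟩ : N) ∣ 2 ^ j := by
        apply orderOf_dvd_of_pow_eq_one
        apply Subtype.ext
        exact hx2
      obtain ⟨i, -, hi⟩ := (Nat.dvd_prime_pow Nat.prime_two).1 h1
      apply IsPGroup.of_card (n := i)
      rw [Nat.card_zpowers, hi]
    obtain ⟨P, hP⟩ := hz.exists_le_sylow
    have hxP : (⟨x, hxU⟩ : N) ∈ (P : Subgroup N) := hP (Subgroup.mem_zpowers _)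
    set Q := (P : Subgroup N).map N.subtype with hQ
    have hQ2 : IsPGroup 2 Q := P.isPGroup'.map _
    have hxQ : x ∈ Q := ⟨⟨x, hxU⟩, hxP, rfl⟩
    have hQa := two_group_le_stabilizer h hQ2 hxQ huniq
    have hQN : Q ≤ N := Subgroup.map_subtype_le _
    have hQD : Q ≤ D := le_inf hQN hQa
    have hcQ : Nat.card Q = Nat.card (P : Subgroup N) :=
      (Nat.card_congr (Subgroup.equivMapOfInjective (P : Subgroup N) N.subtype
        N.subtype_injective).toEquiv).symm
    have hidx : ¬ 2 ∣ (P : Subgroup N).index := P.not_dvd_index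
    have hmul := Subgroup.card_mul_index (P : Subgroup N)
    rw [hcard] at hmul
    have hdvd : w ∣ Nat.card (P : Subgroup N) * (P : Subgroup N).index := by
      rw [hmul]
      exact Dvd.intro _ rfl
    have hcop2 : Nat.Coprime 2 (P : Subgroup N).index :=
      (Nat.Prime.coprime_iff_not_dvd Nat.prime_two).2 hidx
    have hcop : Nat.Coprime w (P : Subgroup N).index := by
      rcases hw with rfl | rfl
      · exact hcop2
      · have h4 : Nat.Coprime (2 ^ 2) (P : Subgroup N).index := Nat.Coprime.pow_left 2 hcop2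
        exact h4
    have hwP : w ∣ Nat.card (P : Subgroup N) := Nat.Coprime.dvd_of_dvd_mul_right hcop hdvd
    have hle : w ≤ Nat.card (P : Subgroup N) := Nat.le_of_dvd Nat.card_pos hwP
    calc w ≤ Nat.card (P : Subgroup N) := hle
      _ = Nat.card Q := hcQ.symm
      _ ≤ Nat.card D := Subgroup.card_le_of_le hQD

/-! ### Conjugacy of the cyclic members -/

theorem card_Cz_ne (h : FH F m) {z : Cfsg.Sz F m} (hz : z ∈ XX (Cfsg.Sz F m) (2 ^ (2 * m + 1))) :
    Nat.card (Cz z) ≠ 2 ^ (2 * m + 1) - 1 := by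
  have hr := (act h).hr
  have hqr := (act h).hqr
  have h2r : 2 * 2 ^ m ≤ 2 ^ (2 * m + 1) := by rw [hqr]; nlinarith
  rcases (ctx h).card_Cz hz with e | e
  · rw [e]; omega
  · rw [e]; omega

theorem isCyc_conj (h : FH F m) {U U' : Subgroup (Cfsg.Sz F m)} (hU : IsCyc m U)
    (hU' : IsCyc m U') (hc : Nat.card U = Nat.card U') :
    ∃ g : Cfsg.Sz F m, U' = U.map (MulAut.conj g).toMonoidHom := by
  rcases cyc_cases h hU with ⟨z, hz, rfl⟩ | ⟨a, b, hab, rfl⟩
  · rcases cyc_cases h hU' with ⟨z', hz', rfl⟩ | ⟨a', b', hab', rfl⟩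
    · have h1 := (list_facts h.hm hU.2).2
      obtain ⟨p, hp, hpd⟩ := Nat.exists_prime_and_dvd h1.ne'
      obtain ⟨g, hg⟩ := (ctx h).exists_conj hz hz' hp hpd (hc ▸ hpd)
      refine ⟨g, ?_⟩
      ext c
      rw [hg c]
      constructor
      · intro hc'
        refine ⟨g⁻¹ * c * g, hc', ?_⟩
        show g * (g⁻¹ * c * g) * g⁻¹ = c
        group
      · rintro ⟨u, hu, rfl⟩
        have : g⁻¹ * (MulAut.conj g).toMonoidHom u * g = u := by
          show g⁻¹ * (g * u * g⁻¹) * g = u
          group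
        rw [this]
        exact hu
    · exfalso
      rw [(twoStab_cyclic h hab').2] at hc
      exact card_Cz_ne h hz hc
  · rcases cyc_cases h hU' with ⟨z', hz', rfl⟩ | ⟨a', b', hab', rfl⟩
    · exfalso
      rw [(twoStab_cyclic h hab).2] at hc
      exact card_Cz_ne h hz' hc.symm
    · obtain ⟨g, hga, hgb⟩ := (MulAction.is_two_pretransitive_iff.1 (act h).two) hab hab'
      refine ⟨g, ?_⟩
      rw [twoStab_map_conj, hga, hgb]

theorem card_normalizer_of_card (h : FH F m) {U : Subgroup (Cfsg.Sz F m)} (hU : IsCyc m U) :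
    (Nat.card U = 2 ^ (2 * m + 1) - 1 →
      Nat.card (Subgroup.normalizer (U : Set (Cfsg.Sz F m))) = 2 * Nat.card U) ∧
    (Nat.card U ≠ 2 ^ (2 * m + 1) - 1 →
      Nat.card (Subgroup.normalizer (U : Set (Cfsg.Sz F m))) = 4 * Nat.card U) := by
  rcases cyc_cases h hU with ⟨z, hz, rfl⟩ | ⟨a, b, hab, rfl⟩
  · refine ⟨fun e => absurd e (card_Cz_ne h hz), fun _ => (ctx h).card_normalizer hz⟩
  · refine ⟨fun _ => card_normalizer_twoStab h hab, fun e => absurd (twoStab_cyclic h hab).2 e⟩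

theorem card_map_conj {G : Type*} [Group G] (A : Subgroup G) (g : G) :
    Nat.card (A.map (MulAut.conj g).toMonoidHom) = Nat.card A :=
  (Nat.card_congr (Subgroup.equivMapOfInjective A _ (MulAut.conj g).injective).toEquiv).symm

end Cfsg.Agent.Helper8.SzSol
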