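import Mathlib
import Cfsg.Agent.Helper8.SzSolF

set_option autoImplicit false

/-!
The standard involution and the standard element of order four of the Suzuki group: conjugacy
classes and centralizers.
-/

namespace Cfsg.Agent.Helper8.SzSol

open Cfsg.Agent.Helper7.Sz Cfsg.Agent.Helper7 MulAction Cfsg.Agent.Helper8.SzPart
  Cfsg.Agent.Helper8.SzSub Cfsg.Agent.Helper8.SzTI Cfsg.Agent.Helper8.LS Cfsg.Agent.Helper8.SzMax

variable {F : Type*} [Field F] [Fintype F] {m : ℕ}

/-! ### The map `e ↦ σ(e) + e` -/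

/-- the additive map `e ↦ σ(e) + e` -/
def ph (m : ℕ) (e : F) : F := sg m e + e

theorem ph_add (h : FH F m) (a b : F) : ph m (a + b) = ph m a + ph m b := by
  unfold ph
  rw [h.sg_add]
  ring

theorem ph_eq_zero (h : FH F m) {e : F} : ph m e = 0 ↔ e = 0 ∨ e = 1 := by
  unfold ph
  constructor
  · intro he
    exact h.sg_eq_self (h.eq_of_add_eq_zero he)
  · rintro (rfl | rfl)
    · rw [sg_zero, add_zero]
    · rw [sg_one, h.add_self]

theorem ph_ne_one (h : FH F m) (e : F) : ph m e ≠ 1 := by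
  intro he
  have h1 : sg m (ph m e) = 1 := by rw [he, sg_one]
  unfold ph at h1 he
  rw [h.sg_add, h.sg_sg] at h1
  have h2 : e * e = e := by
    have h3 : e * e + sg m e = sg m e + e := by rw [h1, he]
    linear_combination h3
  have h5 : e = 0 ∨ e = 1 := by
    by_cases he0 : e = 0
    · exact Or.inl he0
    · right
      exact mul_left_cancel₀ he0 (by rw [h2, mul_one])
  have h6 := (ph_eq_zero h).2 h5
  unfold ph at h6
  rw [he] at h6
  exact one_ne_zero h6

theorem ncard_range_ph (h : FH F m) :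
    (Set.range (ph m : F → F)).ncard * 2 = Fintype.card F := by
  have h1 := card_eq_mul_of_fibers (Set.rangeFactorization (ph m : F → F)) 2 (by
    rintro ⟨_, e₀, rfl⟩
    have hne : e₀ ≠ e₀ + 1 := by
      intro e
      have : (1 : F) = 0 := by linear_combination -e
      exact one_ne_zero this
    rw [← Set.ncard_pair hne, ← Nat.card_coe_set_eq]
    apply Nat.card_congr
    apply Equiv.subtypeEquivRight
    intro a
    rw [Set.mem_insert_iff, Set.mem_singleton_iff]
    constructor
    · intro ha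
      have ha' : ph m a = ph m e₀ := congrArg Subtype.val ha
      have h2 : ph m (a + e₀) = 0 := by rw [ph_add h, ha', h.add_self]
      rcases (ph_eq_zero h).1 h2 with h3 | h3
      · left
        exact h.eq_of_add_eq_zero h3
      · right
        have := h.add_self e₀
        linear_combination h3 - this
    · intro ha
      apply Subtype.ext
      show ph m a = ph m e₀
      rcases ha with rfl | rfl
      · rfl
      · rw [ph_add h, (ph_eq_zero h).2 (Or.inr rfl), add_zero])
  rw [Nat.card_eq_fintype_card, Nat.card_coe_set_eq] at h1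
  exact h1.symm

theorem ph_cover (h : FH F m) (b : F) : ∃ e : F, b + ph m e = 0 ∨ b + ph m e = 1 := by
  set I : Set F := Set.range (ph m : F → F) with hI
  set J : Set F := (fun y => y + 1) '' I with hJ
  have hdisj : Disjoint I J := by
    rw [Set.disjoint_left]
    rintro y ⟨e, rfl⟩ ⟨_, ⟨e', rfl⟩, he⟩
    apply ph_ne_one h (e + e')
    rw [ph_add h]
    have he' : ph m e' + 1 = ph m e := he
    have := h.add_self (ph m e')
    linear_combination this - he'
  have hJc : J.ncard = I.ncard := Set.ncard_image_of_injective _ (add_left_injective 1)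
  have hun : I ∪ J = Set.univ := by
    rw [Set.eq_univ_iff_ncard, Set.ncard_union_eq hdisj (Set.toFinite _) (Set.toFinite _), hJc,
      Nat.card_eq_fintype_card, ← ncard_range_ph h]
    ring
  have hb : b ∈ I ∪ J := by
    rw [hun]
    exact Set.mem_univ b
  rcases hb with ⟨e, rfl⟩ | ⟨_, ⟨e, rfl⟩, rfl⟩
  · exact ⟨e, Or.inl (h.add_self _)⟩
  · refine ⟨e, Or.inr ?_⟩
    have := h.add_self (ph m e)
    linear_combination this

/-! ### Conjugation inside the point stabilizer -/

theorem conj_TelS (h : FH F m) (e f a b : F) :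
    TelS h e f * TelS h a b * (TelS h e f)⁻¹ = TelS h a (b + sg m e * a + sg m a * e) := by
  rw [mul_inv_eq_iff_eq_mul, TelS_mul, TelS_mul]
  have e1 : e + a = a + e := add_comm _ _
  have e2 : f + b + sg m e * a = b + sg m e * a + sg m a * e + f + sg m a * e := by
    have := h.add_self (sg m a * e)
    linear_combination -this
  rw [e1, e2]

theorem conj_TelS_HelS (h : FH F m) (e f : F) (t : Fˣ) (a b : F) :
    (TelS h e f * HelS h t) * TelS h a b * (TelS h e f * HelS h t)⁻¹ =
      TelS h (sg m (t : F) * a)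
        ((t : F) * t * sg m (t : F) * b + sg m e * (sg m (t : F) * a) +
          sg m (sg m (t : F) * a) * e) := by
  have : (TelS h e f * HelS h t) * TelS h a b * (TelS h e f * HelS h t)⁻¹ =
      TelS h e f * (HelS h t * TelS h a b * (HelS h t)⁻¹) * (TelS h e f)⁻¹ := by group
  rw [this, HelS_TelS, conj_TelS]

/-- the standard involution -/
noncomputable def tau (h : FH F m) : Cfsg.Sz F m := TelS h 0 1

/-- the standard element of order four -/
noncomputable def rho (h : FH F m) : Cfsg.Sz F m := TelS h 1 0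

theorem tau_ne_one (h : FH F m) : tau h ≠ 1 := TelS_zero_ne_one h one_ne_zero

theorem tau_sq (h : FH F m) : tau h * tau h = 1 := TelS_zero_sq h 1

theorem tau_smul_inf (h : FH F m) : tau h • (ωinf m : Cfsg.suzukiOvoid F m) = ωinf m :=
  TelS_smul_inf h 0 1

theorem tau_fix (h : FH F m) (b : Cfsg.suzukiOvoid F m) (hb : tau h • b = b) : b = ωinf m :=
  TelS_zero_fix h one_ne_zero hb

theorem rho_sq (h : FH F m) : rho h * rho h = tau h := by
  unfold rho tau
  rw [SzMax.TelS_sq, sg_one, mul_one]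

theorem rho_pow_four (h : FH F m) : rho h ^ 2 ^ 2 = 1 := by
  have : rho h ^ 2 ^ 2 = (rho h * rho h) * (rho h * rho h) := by
    norm_num [pow_succ, mul_assoc]
  rw [this, rho_sq, tau_sq]

theorem rho_ne_one (h : FH F m) : rho h ≠ 1 := by
  intro e
  have := rho_sq h
  rw [e, mul_one] at this
  exact tau_ne_one h this.symm

theorem orderOf_rho (h : FH F m) : orderOf (rho h) = 4 := by
  have : Fact (Nat.Prime 2) := ⟨Nat.prime_two⟩
  have h1 : ¬ rho h ^ 2 ^ 1 = 1 := by
    rw [pow_one, pow_two, rho_sq]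
    exact tau_ne_one h
  have := orderOf_eq_prime_pow h1 (rho_pow_four h)
  rw [this]
  norm_num

theorem rho_smul_inf (h : FH F m) : rho h • (ωinf m : Cfsg.suzukiOvoid F m) = ωinf m :=
  TelS_smul_inf h 1 0

theorem rho_fix (h : FH F m) (b : Cfsg.suzukiOvoid F m) (hb : rho h • b = b) : b = ωinf m :=
  fix_unique h (rho_ne_one h) (rho_pow_four h) hb (rho_smul_inf h)

theorem rho_inv (h : FH F m) : (rho h)⁻¹ = TelS h 1 1 := by
  unfold rho
  rw [TelS_inv, sg_one, mul_one, zero_add]

/-! ### Involutions -/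

theorem exists_smul_inf (h : FH F m) (a : Cfsg.suzukiOvoid F m) :
    ∃ k : Cfsg.Sz F m, k • a = ωinf m := by
  have := (act h).two
  have : IsPretransitive (Cfsg.Sz F m) (Cfsg.suzukiOvoid F m) :=
    MulAction.isPretransitive_of_is_two_pretransitive
  exact MulAction.exists_smul_eq _ a (ωinf m)

theorem exists_conj_tau (h : FH F m) {s : Cfsg.Sz F m} (hs1 : s ≠ 1) (hs2 : s * s = 1) :
    ∃ g : Cfsg.Sz F m, g * s * g⁻¹ = tau h := by
  obtain ⟨a, ha, -⟩ := (act h).exists_unique_fixed_of_two_elt hs1 (sq_pow hs2)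
  obtain ⟨k, hk⟩ := exists_smul_inf h a
  have hfix : (k * s * k⁻¹) • (ωinf m : Cfsg.suzukiOvoid F m) = ωinf m := by
    rw [← hk]
    exact conj_smul ha
  have h1 : k * s * k⁻¹ ≠ 1 := conj_ne_one hs1 k
  have h2 : (k * s * k⁻¹) * (k * s * k⁻¹) = 1 := by
    have : (k * s * k⁻¹) * (k * s * k⁻¹) = k * (s * s) * k⁻¹ := by group
    rw [this, hs2]
    group
  obtain ⟨x, hx0, hx⟩ := involution_fix_inf h h1 h2 hfix
  obtain ⟨t, ht⟩ := exists_kappa h (inv_ne_zero hx0)
  refine ⟨HelS h t * k, ?_⟩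
  have : HelS h t * k * s * (HelS h t * k)⁻¹ = HelS h t * (k * s * k⁻¹) * (HelS h t)⁻¹ := by group
  rw [this, hx, HelS_TelS, mul_zero, ht, inv_mul_cancel₀ hx0]
  rfl

theorem centralizer_tau (h : FH F m) :
    Subgroup.centralizer ({tau h} : Set (Cfsg.Sz F m)) = Usub h := by
  ext c
  rw [Subgroup.mem_centralizer_singleton_iff]
  constructor
  · intro hc
    have hfix := fix_of_commute h (tau_ne_one h) (sq_pow (tau_sq h)) hc (tau_smul_inf h)
    apply mem_Usub_of_centralize h hfix (one_ne_zero (α := F))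
    show c * tau h * c⁻¹ = tau h
    rw [hc]
    group
  · intro hc
    obtain ⟨a, b, rfl⟩ := (mem_Usub h c).1 hc
    unfold tau
    rw [TelS_mul, TelS_mul, sg_zero, zero_mul, mul_zero, add_zero, add_zero, add_zero, zero_add,
      add_comm b 1]

theorem card_centralizer_tau (h : FH F m) :
    Nat.card (Subgroup.centralizer ({tau h} : Set (Cfsg.Sz F m))) =
      (2 ^ (2 * m + 1)) ^ 2 := by
  rw [centralizer_tau, card_Usub, h.card]
  ring

/-! ### Elements of order four -/

theorem exists_conj_rho (h : FH F m) {z : Cfsg.Sz F m} (hz : orderOf z = 4) :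
    ∃ g : Cfsg.Sz F m, g * z * g⁻¹ = rho h ∨ g * z * g⁻¹ = (rho h)⁻¹ := by
  have hz1 : z ≠ 1 := by
    rintro rfl
    rw [orderOf_one] at hz
    omega
  have hz4 : z ^ 2 ^ 2 = 1 := by
    have := pow_orderOf_eq_one z
    rw [hz] at this
    exact this
  obtain ⟨a, ha, -⟩ := (act h).exists_unique_fixed_of_two_elt hz1 hz4
  obtain ⟨k, hk⟩ := exists_smul_inf h a
  have hfix : (k * z * k⁻¹) • (ωinf m : Cfsg.suzukiOvoid F m) = ωinf m := by
    rw [← hk]
    exact conj_smul ha
  have hpow : (k * z * k⁻¹) ^ 2 ^ 2 = 1 := by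
    rw [conj_pow, hz4]
    group
  obtain ⟨c, d, hcd⟩ := (mem_Usub h _).1 (two_elt_mem_Usub h hfix hpow)
  have hc0 : c ≠ 0 := by
    rintro rfl
    have h1 : (k * z * k⁻¹) * (k * z * k⁻¹) = 1 := by rw [hcd, TelS_zero_sq]
    have h2 : z * z = 1 := by
      have : z * z = k⁻¹ * ((k * z * k⁻¹) * (k * z * k⁻¹)) * k := by group
      rw [this, h1]
      group
    have hd : orderOf z ∣ 2 := orderOf_dvd_of_pow_eq_one (by rw [pow_two, h2])
    rw [hz] at hd
    exact absurd hd (by decide)
  obtain ⟨t, ht⟩ := exists_unit_sg h (inv_ne_zero hc0)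
  obtain ⟨e, he⟩ := ph_cover h ((t : F) * t * sg m (t : F) * d)
  refine ⟨TelS h e 0 * HelS h t * k, ?_⟩
  have e1 : TelS h e 0 * HelS h t * k * z * (TelS h e 0 * HelS h t * k)⁻¹ =
      (TelS h e 0 * HelS h t) * (k * z * k⁻¹) * (TelS h e 0 * HelS h t)⁻¹ := by group
  rw [e1, hcd, conj_TelS_HelS, ht, inv_mul_cancel₀ hc0, sg_one, mul_one, one_mul, rho_inv]
  rw [ht] at he
  have e2 : (t : F) * t * c⁻¹ * d + sg m e + e = (t : F) * t * c⁻¹ * d + ph m e := by
    unfold ph
    ring
  rw [e2]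
  unfold rho
  rcases he with he | he
  · left
    rw [he]
  · right
    rw [he]

/-- the elements conjugating the standard element of order four into the unipotent subgroup -/
theorem conj_rho_eq (h : FH F m) {g : Cfsg.Sz F m} {b : F} (hg : g * rho h * g⁻¹ = TelS h 1 b) :
    ∃ e f : F, g = TelS h e f ∧ ph m e = b := by
  have hfix : g • (ωinf m : Cfsg.suzukiOvoid F m) = ωinf m :=
    fix_of_conj h ⟨1, b, rfl⟩ ⟨1, 0, rfl⟩ (rho_ne_one h) hg
  obtain ⟨e, f, t, rfl⟩ := SzTI.eq_TelS_mul_HelS h hfix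
  unfold rho at hg
  rw [conj_TelS_HelS] at hg
  obtain ⟨h1, h2⟩ := TelS_injective h hg
  rw [mul_one] at h1
  have ht : t = 1 := by
    apply Units.ext
    rw [Units.val_one]
    apply h.sg_injective
    rw [h1, sg_one]
  subst ht
  refine ⟨e, f, by rw [HelS_one, mul_one], ?_⟩
  rw [Units.val_one, sg_one, mul_one, mul_one, mul_one, mul_zero, zero_add, sg_one, one_mul] at h2
  exact h2

theorem rho_not_conj_inv (h : FH F m) (g : Cfsg.Sz F m) : g * rho h * g⁻¹ ≠ (rho h)⁻¹ := by
  intro hg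
  rw [rho_inv] at hg
  obtain ⟨e, f, -, he⟩ := conj_rho_eq h hg
  exact ph_ne_one h e he

theorem centralizer_rho (h : FH F m) :
    ((Subgroup.centralizer ({rho h} : Set (Cfsg.Sz F m)) : Subgroup (Cfsg.Sz F m)) :
      Set (Cfsg.Sz F m)) =
      (fun p : F × F => TelS h p.1 p.2) '' (({0, 1} : Set F) ×ˢ (Set.univ : Set F)) := by
  ext c
  rw [SetLike.mem_coe, Subgroup.mem_centralizer_singleton_iff]
  constructor
  · intro hc
    have hg : c * rho h * c⁻¹ = TelS h 1 0 := by
      rw [hc]
      show rho h * c * c⁻¹ = rho h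
      group
    obtain ⟨e, f, rfl, he⟩ := conj_rho_eq h hg
    refine ⟨(e, f), ⟨?_, Set.mem_univ _⟩, rfl⟩
    exact (ph_eq_zero h).1 he
  · rintro ⟨⟨e, f⟩, ⟨he, -⟩, rfl⟩
    have he' : ph m e = 0 := (ph_eq_zero h).2 he
    have h1 := conj_TelS h e f 1 0
    rw [sg_one, mul_one, one_mul, zero_add] at h1
    have h2 : sg m e + e = 0 := he'
    rw [h2] at h1
    exact mul_inv_eq_iff_eq_mul.1 h1

theorem card_centralizer_rho (h : FH F m) :
    Nat.card (Subgroup.centralizer ({rho h} : Set (Cfsg.Sz F m))) = 2 * 2 ^ (2 * m + 1) := by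
  have e0 : Nat.card (Subgroup.centralizer ({rho h} : Set (Cfsg.Sz F m))) =
      ((Subgroup.centralizer ({rho h} : Set (Cfsg.Sz F m)) : Subgroup (Cfsg.Sz F m)) :
        Set (Cfsg.Sz F m)).ncard := Nat.card_coe_set_eq _
  rw [e0, centralizer_rho,
    Set.ncard_image_of_injective, Set.ncard_prod, Set.ncard_pair zero_ne_one, Set.ncard_univ,
    Nat.card_eq_fintype_card, h.card]
  rintro ⟨a, b⟩ ⟨c, d⟩ e
  obtain ⟨e1, e2⟩ := TelS_injective h e
  simp only at e1 e2
  rw [e1, e2]

end Cfsg.Agent.Helper8.SzSol
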