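import Mathlib
import Cfsg.Agent.Helper8.OrthOrder

set_option autoImplicit false

/-!
Orders of the isometry groups of nondegenerate quadratic spaces of even dimension over a finite
field, of plus and of minus type, by the recursion of `OrthOrder.step`.
-/

namespace Cfsg.Agent.Helper8.OrthEven

open Module Cfsg.Agent.Helper8.QuadForm Cfsg.Agent.Helper8.WittQuad Cfsg.Agent.Helper8.OrthOrder

universe u

variable {F : Type*} [Field F] {V : Type*} [AddCommGroup V] [Module F V]

theorem exists_singular_of_card [Fintype F] [FiniteDimensional F V] (Q : QuadraticForm F V)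
    (h : 1 < Nat.card {v : V // Q v = 0}) : ∃ e : V, e ≠ 0 ∧ Q e = 0 := by
  haveI : Finite V := Module.finite_of_finite F
  haveI : Nontrivial {v : V // Q v = 0} := Finite.one_lt_card_iff_nontrivial.mp h
  obtain ⟨e, he⟩ := exists_ne (⟨0, map_zero Q⟩ : {v : V // Q v = 0})
  exact ⟨e.1, fun h0 => he (Subtype.ext h0), e.2⟩

/-- plus type: dimension `2(k+1)` with `q^(2k+1) + q^(k+1) - q^k` singular vectors. -/
theorem card_Isom_plus [Fintype F] (k : ℕ) :
    ∀ {V : Type u} [AddCommGroup V] [Module F V] [FiniteDimensional F V] (Q : QuadraticForm F V),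
      (QuadraticMap.polarBilin Q).Nondegenerate → finrank F V = 2 * (k + 1) →
      Nat.card {v : V // Q v = 0} + Fintype.card F ^ k
        = Fintype.card F ^ (2 * k + 1) + Fintype.card F ^ (k + 1) →
      Nat.card (Isom Q) = 2 * Fintype.card F ^ ((k + 1) * k) * (Fintype.card F ^ (k + 1) - 1)
        * ∏ i ∈ Finset.range k, (Fintype.card F ^ (2 * (i + 1)) - 1) := by
  have hq := two_le_card (F := F)
  obtain ⟨q, hqdef⟩ : ∃ q, q = Fintype.card F := ⟨_, rfl⟩
  rw [← hqdef] at hq ⊢
  have hq0 : 0 < q := by omega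
  induction k with
  | zero =>
    intro V _ _ _ Q hQ hV hν
    simp only [pow_zero, Nat.mul_zero, zero_add, pow_one] at hν
    obtain ⟨e, he0, he⟩ := exists_singular_of_card Q (by omega)
    obtain ⟨W, hWdim, hWnd, hνW, hcard⟩ := step Q hQ he0 he
    rw [← hqdef] at hνW hcard
    have hW0 : finrank F W = 0 := by omega
    rw [card_Isom_of_finrank_zero _ hW0, hV] at hcard
    simp only [Nat.mul_zero, pow_zero, Finset.range_zero, Finset.prod_empty, mul_one, zero_add,
      pow_one]
    apply Nat.eq_of_mul_eq_mul_right hq0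
    rw [hcard]
    have : Nat.card {v : V // Q v = 0} - 1 = 2 * (q - 1) := by omega
    rw [this]
    simp
  | succ k ih =>
    intro V _ _ _ Q hQ hV hν
    obtain ⟨e, he0, he⟩ := exists_singular Q (by omega)
    obtain ⟨W, hWdim, hWnd, hνW, hcard⟩ := step Q hQ he0 he
    rw [← hqdef] at hνW hcard
    have hWdim' : finrank F W = 2 * (k + 1) := by omega
    rw [hWdim'] at hνW
    have h1q : 1 ≤ q := hq0
    have hνW' : Nat.card {w : W // (Q.comp W.subtype) w = 0} + q ^ k
        = q ^ (2 * k + 1) + q ^ (k + 1) := by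
      apply Nat.eq_of_mul_eq_mul_right hq0
      zify [h1q] at hν hνW ⊢
      linear_combination hν - hνW
    have hIH := ih (Q.comp W.subtype) hWnd hWdim' hνW'
    have e2 : 2 * (k + 1 + 1) - 1 = 2 * k + 3 := by omega
    rw [hV, e2] at hcard
    apply Nat.eq_of_mul_eq_mul_right hq0
    rw [hcard, hIH, Finset.prod_range_succ]
    generalize (∏ i ∈ Finset.range k, (q ^ (2 * (i + 1)) - 1)) = P
    have h1 : 1 ≤ q ^ (k + 1) := Nat.one_le_pow _ _ hq0
    have h2 : 1 ≤ q ^ (k + 1 + 1) := Nat.one_le_pow _ _ hq0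
    have h3 : 1 ≤ q ^ (2 * (k + 1)) := Nat.one_le_pow _ _ hq0
    have h4 : 1 ≤ Nat.card {v : V // Q v = 0} := by
      have : q ^ (k + 1) ≤ q ^ (k + 1 + 1) := Nat.pow_le_pow_right hq0 (by omega)
      have : 1 ≤ q ^ (2 * (k + 1) + 1) := Nat.one_le_pow _ _ hq0
      omega
    zify [h1, h2, h3, h4] at hν ⊢
    linear_combination ((q : ℤ) ^ (2 * k + 3) * (2 * (q : ℤ) ^ ((k + 1) * k)
      * ((q : ℤ) ^ (k + 1) - 1) * P)) * hν

/-- minus type, given the order for anisotropic planes. -/
theorem card_Isom_minus_of_base [Fintype F]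
    (hbase : ∀ {V : Type u} [AddCommGroup V] [Module F V] [FiniteDimensional F V]
      (Q : QuadraticForm F V), (QuadraticMap.polarBilin Q).Nondegenerate → finrank F V = 2 →
      Nat.card {v : V // Q v = 0} = 1 → Nat.card (Isom Q) = 2 * (Fintype.card F + 1)) (k : ℕ) :
    ∀ {V : Type u} [AddCommGroup V] [Module F V] [FiniteDimensional F V] (Q : QuadraticForm F V),
      (QuadraticMap.polarBilin Q).Nondegenerate → finrank F V = 2 * (k + 1) →
      Nat.card {v : V // Q v = 0} + Fintype.card F ^ (k + 1)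
        = Fintype.card F ^ (2 * k + 1) + Fintype.card F ^ k →
      Nat.card (Isom Q) = 2 * Fintype.card F ^ ((k + 1) * k) * (Fintype.card F ^ (k + 1) + 1)
        * ∏ i ∈ Finset.range k, (Fintype.card F ^ (2 * (i + 1)) - 1) := by
  have hq := two_le_card (F := F)
  obtain ⟨q, hqdef⟩ : ∃ q, q = Fintype.card F := ⟨_, rfl⟩
  rw [← hqdef] at hq hbase ⊢
  have hq0 : 0 < q := by omega
  induction k with
  | zero =>
    intro V _ _ _ Q hQ hV hν
    simp only [pow_zero, Nat.mul_zero, zero_add, pow_one] at hν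
    rw [hbase Q hQ hV (by omega)]
    simp
  | succ k ih =>
    intro V _ _ _ Q hQ hV hν
    obtain ⟨e, he0, he⟩ := exists_singular Q (by omega)
    obtain ⟨W, hWdim, hWnd, hνW, hcard⟩ := step Q hQ he0 he
    rw [← hqdef] at hνW hcard
    have hWdim' : finrank F W = 2 * (k + 1) := by omega
    rw [hWdim'] at hνW
    have h1q : 1 ≤ q := hq0
    have hνW' : Nat.card {w : W // (Q.comp W.subtype) w = 0} + q ^ (k + 1)
        = q ^ (2 * k + 1) + q ^ k := by
      apply Nat.eq_of_mul_eq_mul_right hq0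
      zify [h1q] at hν hνW ⊢
      linear_combination hν - hνW
    have hIH := ih (Q.comp W.subtype) hWnd hWdim' hνW'
    have e2 : 2 * (k + 1 + 1) - 1 = 2 * k + 3 := by omega
    rw [hV, e2] at hcard
    apply Nat.eq_of_mul_eq_mul_right hq0
    rw [hcard, hIH, Finset.prod_range_succ]
    generalize (∏ i ∈ Finset.range k, (q ^ (2 * (i + 1)) - 1)) = P
    have h3 : 1 ≤ q ^ (2 * (k + 1)) := Nat.one_le_pow _ _ hq0
    have h4 : 1 ≤ Nat.card {v : V // Q v = 0} := by
      have : q ^ (k + 1 + 1) ≤ q ^ (2 * (k + 1) + 1) := Nat.pow_le_pow_right hq0 (by omega)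
      have : 1 ≤ q ^ (k + 1) := Nat.one_le_pow _ _ hq0
      omega
    zify [h3, h4] at hν ⊢
    linear_combination ((q : ℤ) ^ (2 * k + 3) * (2 * (q : ℤ) ^ ((k + 1) * k)
      * ((q : ℤ) ^ (k + 1) + 1) * P)) * hν

end Cfsg.Agent.Helper8.OrthEven
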