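import Mathlib
import Cfsg.Agent.Helper8.OrthEven

set_option autoImplicit false

/-!
The isometry group of an anisotropic nondegenerate plane over the field of `q` elements has order
`2(q+1)`; orders of the isometry groups of minus type.
-/

namespace Cfsg.Agent.Helper8.OrthAniso

open Module Cfsg.Agent.Helper8.QuadForm Cfsg.Agent.Helper8.WittQuad Cfsg.Agent.Helper8.OrthOrder
  Cfsg.Agent.Helper8.OrthEven

universe u

variable {F : Type*} [Field F] {V : Type*} [AddCommGroup V] [Module F V]

section Plane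

variable (Q : QuadraticForm F V) {x y : V} (hx : Q x = 1) (hxy : QuadraticMap.polar Q x y = 1)
  (b : Basis (Fin 2) F V) (hb : ⇑b = ![x, y])

include hx hxy hb in
/-- similarities of an elliptic plane with any multiplier. -/
theorem exists_similarity_plane [Finite F] [FiniteDimensional F V] (hnd : Nondeg Q)
    (hζ : ∀ t : F, t ^ 2 + t + Q y ≠ 0) {c : F} (hc : c ≠ 0) :
    ∃ g : V ≃ₗ[F] V, ∀ v, Q (g v) = c * Q v := by
  obtain ⟨α, β, hαβ⟩ := exists_norm_eq hζ c
  have hyx : QuadraticMap.polar Q y x = 1 := by rw [QuadraticMap.polar_comm]; exact hxy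
  have hxx : QuadraticMap.polar Q x x = 2 := by rw [polar_self', hx, mul_one]
  have hyy : QuadraticMap.polar Q y y = 2 * Q y := polar_self' Q y
  suffices key : ∃ g : V ≃ₗ[F] V, (∀ v, Q (g v) = c * Q v) ∧
      ∀ i, g (b i) = ![α • x + β • y, (-(β * Q y)) • x + (α + β) • y] i by
    obtain ⟨g, hg, -⟩ := key
    exact ⟨g, hg⟩
  refine exists_similarity Q hnd b ![α • x + β • y, (-(β * Q y)) • x + (α + β) • y] hc ?_ ?_
  · rw [hb]
    intro i
    fin_cases i
    · show Q (α • x + β • y) = c * Q x
      rw [QuadraticMap.map_add Q, QuadraticMap.map_smul, QuadraticMap.map_smul, hx,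
        QuadraticMap.polar_smul_left, QuadraticMap.polar_smul_right, hxy, ← hαβ]
      simp only [smul_eq_mul]
      ring
    · show Q ((-(β * Q y)) • x + (α + β) • y) = c * Q y
      rw [QuadraticMap.map_add Q, QuadraticMap.map_smul, QuadraticMap.map_smul, hx,
        QuadraticMap.polar_smul_left, QuadraticMap.polar_smul_right, hxy, ← hαβ]
      simp only [smul_eq_mul]
      ring
  · rw [hb]
    intro i j
    fin_cases i <;> fin_cases j
    all_goals
      simp only [Matrix.cons_val_zero, Matrix.cons_val_one,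
        Matrix.cons_val_fin_one, Fin.zero_eta, Fin.mk_one, Fin.isValue,
        QuadraticMap.polar_add_left, QuadraticMap.polar_add_right,
        QuadraticMap.polar_smul_left, QuadraticMap.polar_smul_right, smul_eq_mul,
        hxy, hyx, hxx, hyy]
    all_goals rw [← hαβ]
    all_goals ring

include hx hxy hb in
/-- the number of vectors of norm `1` in an anisotropic plane. -/
theorem card_norm_one [Fintype F] [FiniteDimensional F V] (hnd : Nondeg Q)
    (hV : finrank F V = 2) (han : ∀ v, Q v = 0 → v = 0)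
    (hζ : ∀ t : F, t ^ 2 + t + Q y ≠ 0) :
    Nat.card {v : V // Q v = 1} = Fintype.card F + 1 := by
  classical
  haveI : Finite V := Module.finite_of_finite F
  have hfib : ∀ c : F, c ≠ 0 → Nat.card {v : V // Q v = c} = Nat.card {v : V // Q v = 1} := by
    intro c hc
    obtain ⟨g, hg⟩ := exists_similarity_plane Q hx hxy b hb hnd hζ hc
    symm
    refine Nat.card_congr (Equiv.subtypeEquiv g.toEquiv (fun v => ?_))
    show Q v = 1 ↔ Q (g v) = c
    rw [hg]
    constructor
    · intro h
      rw [h, mul_one]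
    · intro h
      have : c * (Q v - 1) = 0 := by linear_combination h
      rcases mul_eq_zero.mp this with h | h
      · exact absurd h hc
      · linear_combination h
  have h0 : Nat.card {v : V // Q v = 0} = 1 := by
    haveI : Unique {v : V // Q v = 0} :=
      ⟨⟨⟨0, map_zero Q⟩⟩, fun v => Subtype.ext (han v.1 v.2)⟩
    exact Nat.card_unique
  have htot : Nat.card V = ∑ c : F, Nat.card {v : V // Q v = c} := by
    rw [← Nat.card_sigma]
    exact Nat.card_congr (Equiv.sigmaFiberEquiv Q).symm
  rw [card_space (F := F) V, hV, ← Finset.add_sum_erase Finset.univ _ (Finset.mem_univ (0 : F)), h0,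
    Finset.sum_congr rfl (fun c hc => hfib c (Finset.ne_of_mem_erase hc)), Finset.sum_const,
    Finset.card_erase_of_mem (Finset.mem_univ _), Finset.card_univ, smul_eq_mul] at htot
  have hq := two_le_card (F := F)
  obtain ⟨r, hr⟩ : ∃ r, Fintype.card F = r + 2 := ⟨Fintype.card F - 2, by omega⟩
  rw [hr] at htot ⊢
  have e1 : r + 2 - 1 = r + 1 := by omega
  rw [e1] at htot
  apply Nat.eq_of_mul_eq_mul_left (show 0 < r + 1 by omega)
  nlinarith

include hx hxy hb in
/-- the partners of `x`: exactly `y` and `x - y`. -/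
theorem card_partner_x (hζ : ∀ t : F, t ^ 2 + t + Q y ≠ 0) :
    Nat.card {y' : V // QuadraticMap.polar Q x y' = 1 ∧ Q y' = Q y} = 2 := by
  have h14 := one_sub_four_ne_zero hζ
  have hxx : QuadraticMap.polar Q x x = 2 := by rw [polar_self', hx, mul_one]
  rw [Nat.card_eq_two_iff]
  refine ⟨⟨y, hxy, rfl⟩, ⟨x - y, ?_, ?_⟩, ?_, ?_⟩
  · rw [QuadraticMap.polar_sub_right, hxx, hxy]
    ring
  · rw [sub_eq_add_neg, QuadraticMap.map_add Q, QuadraticMap.map_neg, QuadraticMap.polar_neg_right,
      hx, hxy]
    ring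
  · intro h
    have h1 : y = x - y := congrArg Subtype.val h
    have h2 : x = (2 : F) • y := by
      rw [two_smul]
      nth_rewrite 1 [h1]
      abel
    apply h14
    have := hx
    rw [h2, QuadraticMap.map_smul, smul_eq_mul] at this
    linear_combination -this
  · ext ⟨y', h1, h2⟩
    simp only [Set.mem_insert_iff, Set.mem_singleton_iff, Set.mem_univ, iff_true, Subtype.mk.injEq]
    have hrepr : y' = b.repr y' 0 • x + b.repr y' 1 • y := by
      have := b.sum_repr y'
      rw [Fin.sum_univ_two, hb] at this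
      exact this.symm
    obtain ⟨s, hs⟩ : ∃ s, s = b.repr y' 0 := ⟨_, rfl⟩
    obtain ⟨t, ht⟩ : ∃ t, t = b.repr y' 1 := ⟨_, rfl⟩
    rw [← hs, ← ht] at hrepr
    rw [hrepr, QuadraticMap.polar_add_right, QuadraticMap.polar_smul_right,
      QuadraticMap.polar_smul_right, hxx, hxy, smul_eq_mul, smul_eq_mul] at h1
    rw [hrepr, QuadraticMap.map_add Q, QuadraticMap.map_smul, QuadraticMap.map_smul, hx,
      QuadraticMap.polar_smul_left, QuadraticMap.polar_smul_right, hxy, smul_eq_mul, smul_eq_mul,
      smul_eq_mul] at h2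
    have ht' : t = 1 - 2 * s := by linear_combination h1
    have h3 : s * (1 - s) * (1 - 4 * Q y) = 0 := by
      rw [ht'] at h2
      linear_combination h2
    rcases mul_eq_zero.mp h3 with h | h
    · rcases mul_eq_zero.mp h with h | h
      · left
        rw [hrepr, ht', h]
        simp
      · right
        have hs1 : s = 1 := by linear_combination -h
        rw [hrepr, ht', hs1]
        have : (1 - 2 * 1 : F) = -1 := by ring
        rw [this, one_smul, neg_smul, one_smul, sub_eq_add_neg]
    · exact absurd h h14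

include hx hxy hb in
/-- the isometries of the plane correspond to the pairs with the Gram data of `(x, y)`. -/
theorem card_Isom_eq_pairs [FiniteDimensional F V] (hnd : Nondeg Q) :
    Nat.card (Isom Q) = Nat.card {p : V × V // Q p.1 = 1 ∧
      QuadraticMap.polar Q p.1 p.2 = 1 ∧ Q p.2 = Q y} := by
  have hb0 : b 0 = x := by rw [hb]; rfl
  have hb1 : b 1 = y := by rw [hb]; rfl
  refine Nat.card_congr (Equiv.ofBijective
    (fun g => ⟨(g.1 x, g.1 y), by rw [g.2 x, hx], by
      show QuadraticMap.polar Q (g.1 x) (g.1 y) = 1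
      rw [polar_isometry Q g.1 g.2, hxy], g.2 y⟩) ⟨?_, ?_⟩)
  · intro g g' h
    have h0 : (g.1 x, g.1 y) = (g'.1 x, g'.1 y) := congrArg Subtype.val h
    have h1 : g.1 x = g'.1 x := congrArg Prod.fst h0
    have h2 : g.1 y = g'.1 y := congrArg Prod.snd h0
    apply Subtype.ext
    apply LinearEquiv.toLinearMap_injective
    apply b.ext
    intro i
    fin_cases i
    · show g.1 (b 0) = g'.1 (b 0)
      rw [hb0, h1]
    · show g.1 (b 1) = g'.1 (b 1)
      rw [hb1, h2]
  · rintro ⟨⟨x', y'⟩, hx', hxy', hy'⟩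
    change Q x' = 1 at hx'
    change QuadraticMap.polar Q x' y' = 1 at hxy'
    change Q y' = Q y at hy'
    have hyx' : QuadraticMap.polar Q y' x' = 1 := by rw [QuadraticMap.polar_comm]; exact hxy'
    have hyx : QuadraticMap.polar Q y x = 1 := by rw [QuadraticMap.polar_comm]; exact hxy
    obtain ⟨g, hg1, hg2⟩ := exists_isometry Q Q hnd b ![x', y'] (by
      intro i
      fin_cases i
      · show Q x' = Q (b 0)
        rw [hb0, hx, hx']
      · show Q y' = Q (b 1)
        rw [hb1, hy']) (by
      intro i j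
      fin_cases i <;> fin_cases j
      · show QuadraticMap.polar Q x' x' = QuadraticMap.polar Q (b 0) (b 0)
        rw [hb0, polar_self', polar_self', hx, hx']
      · show QuadraticMap.polar Q x' y' = QuadraticMap.polar Q (b 0) (b 1)
        rw [hb0, hb1, hxy, hxy']
      · show QuadraticMap.polar Q y' x' = QuadraticMap.polar Q (b 1) (b 0)
        rw [hb0, hb1, hyx, hyx']
      · show QuadraticMap.polar Q y' y' = QuadraticMap.polar Q (b 1) (b 1)
        rw [hb1, polar_self', polar_self', hy'])
    refine ⟨⟨g, hg1⟩, ?_⟩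
    have e0 : g x = x' := by
      have := hg2 0
      rw [hb0] at this
      exact this
    have e1 : g y = y' := by
      have := hg2 1
      rw [hb1] at this
      exact this
    apply Subtype.ext
    exact Prod.ext e0 e1

include hx hxy hb in
/-- the isometry group of an anisotropic plane with elliptic basis `x, y`. -/
theorem card_Isom_plane [Fintype F] [FiniteDimensional F V]
    (hQ : (QuadraticMap.polarBilin Q).Nondegenerate)
    (hV : finrank F V = 2) (han : ∀ v, Q v = 0 → v = 0)
    (hζ : ∀ t : F, t ^ 2 + t + Q y ≠ 0) :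
    Nat.card (Isom Q) = 2 * (Fintype.card F + 1) := by
  classical
  have hnd := (nondeg_iff Q).mp hQ
  haveI : Finite V := Module.finite_of_finite F
  haveI : Fintype V := Fintype.ofFinite V
  rw [card_Isom_eq_pairs Q hx hxy b hb hnd]
  have h1 : Nat.card {p : V × V // Q p.1 = 1 ∧ QuadraticMap.polar Q p.1 p.2 = 1 ∧ Q p.2 = Q y}
      = Nat.card (Σ x' : {x' : V // Q x' = 1},
          {y' : V // QuadraticMap.polar Q x'.1 y' = 1 ∧ Q y' = Q y}) :=
    Nat.card_congr ⟨fun p => ⟨⟨p.1.1, p.2.1⟩, ⟨p.1.2, p.2.2.1, p.2.2.2⟩⟩,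
      fun s => ⟨(s.1.1, s.2.1), s.1.2, s.2.2.1, s.2.2.2⟩, fun p => rfl, fun s => rfl⟩
  rw [h1, Nat.card_sigma]
  have h2 : ∀ x' : {x' : V // Q x' = 1},
      Nat.card {y' : V // QuadraticMap.polar Q x'.1 y' = 1 ∧ Q y' = Q y} = 2 := by
    rintro ⟨x', hx'⟩
    have hx0 : x ≠ 0 := by
      intro h
      rw [h, map_zero] at hx
      exact zero_ne_one hx
    have hx'0 : x' ≠ 0 := by
      intro h
      rw [h, map_zero] at hx'
      exact zero_ne_one hx'
    obtain ⟨g, hg, -, hgx⟩ := witt_step Q hQ ⊥ (u := x) (w := x') (by rw [hx, hx'])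
      (by
        intro h hh
        rw [(Submodule.mem_bot F).mp hh, QuadraticMap.polar_zero_right,
          QuadraticMap.polar_zero_right])
      (by rwa [Submodule.mem_bot]) (by rwa [Submodule.mem_bot])
    rw [← card_partner_x Q hx hxy b hb hζ]
    symm
    refine Nat.card_congr (Equiv.subtypeEquiv g.toEquiv (fun y' => ?_))
    show QuadraticMap.polar Q x y' = 1 ∧ Q y' = Q y ↔
      QuadraticMap.polar Q x' (g y') = 1 ∧ Q (g y') = Q y
    rw [← hgx, polar_isometry Q g hg, hg]
  rw [Finset.sum_congr rfl (fun x' _ => h2 x'), Finset.sum_const, Finset.card_univ, smul_eq_mul,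
    ← Nat.card_eq_fintype_card, card_norm_one Q hx hxy b hb hnd hV han hζ, mul_comm]

end Plane

/-- the isometry group of an anisotropic nondegenerate plane has order `2(q+1)`. -/
theorem card_Isom_aniso [Fintype F] [FiniteDimensional F V] (Q : QuadraticForm F V)
    (hQ : (QuadraticMap.polarBilin Q).Nondegenerate) (hV : finrank F V = 2)
    (hν : Nat.card {v : V // Q v = 0} = 1) : Nat.card (Isom Q) = 2 * (Fintype.card F + 1) := by
  classical
  have hnd := (nondeg_iff Q).mp hQ
  have han : ∀ v, Q v = 0 → v = 0 := by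
    intro v hv
    haveI : Subsingleton {v : V // Q v = 0} := (Nat.card_eq_one_iff_unique.mp hν).1
    exact congrArg Subtype.val (Subsingleton.elim (⟨v, hv⟩ : {v : V // Q v = 0}) ⟨0, map_zero Q⟩)
  obtain ⟨x, -, y, -, hx, hxy, hζ⟩ := exists_elliptic_pair Q (W := ⊤) (by rw [finrank_top, hV])
    (fun w _ hw => hnd w (fun w' => hw w' Submodule.mem_top)) (fun w _ hw => han w hw)
  have hli : LinearIndependent F ![x, y] :=
    linearIndependent_of_dual Q ![x, y] ![y - (2 * Q y) • x, x - (2 : F) • y]
      (fun _ => 1 - 4 * Q y) (fun _ => one_sub_four_ne_zero hζ) (dual_ell Q hx hxy)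
  obtain ⟨b, hb⟩ := exists_basis_of_li hli (by simp [hV])
  exact card_Isom_plane Q hx hxy b hb hQ hV han hζ

/-- minus type: dimension `2(k+1)` with `q^(2k+1) + q^k - q^(k+1)` singular vectors. -/
theorem card_Isom_minus [Fintype F] (k : ℕ) {V : Type u} [AddCommGroup V] [Module F V]
    [FiniteDimensional F V] (Q : QuadraticForm F V)
    (hQ : (QuadraticMap.polarBilin Q).Nondegenerate) (hV : finrank F V = 2 * (k + 1))
    (hν : Nat.card {v : V // Q v = 0} + Fintype.card F ^ (k + 1)
        = Fintype.card F ^ (2 * k + 1) + Fintype.card F ^ k) :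
    Nat.card (Isom Q) = 2 * Fintype.card F ^ ((k + 1) * k) * (Fintype.card F ^ (k + 1) + 1)
        * ∏ i ∈ Finset.range k, (Fintype.card F ^ (2 * (i + 1)) - 1) :=
  card_Isom_minus_of_base (fun Q hQ hV hν => card_Isom_aniso Q hQ hV hν) k Q hQ hV hν

end Cfsg.Agent.Helper8.OrthAniso
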