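import Mathlib
import Cfsg.Prelude.Def_ClassicalGeometry
import Cfsg.Agent.Helper7.SympTransitive
import Cfsg.Agent.Helper7.HyperplaneCount

set_option autoImplicit false

/-!
The order of the finite symplectic group, by orbit-stabiliser on hyperbolic pairs.
-/

namespace Cfsg.Agent.Helper8.SpOrder

open Matrix Cfsg

variable {F : Type*} [Field F]

/-- reindexing `(N m) ⊕ (N 1) ≃ N (m+1)`. -/
def sig (m : ℕ) : (Fin m ⊕ Fin m) ⊕ (Fin 1 ⊕ Fin 1) ≃ Fin (m + 1) ⊕ Fin (m + 1) :=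
  (Equiv.sumSumSumComm _ _ _ _).trans (Equiv.sumCongr finSumFinEquiv finSumFinEquiv)

theorem J_submatrix (m : ℕ) :
    (J (Fin (m + 1)) F).submatrix (sig m) (sig m)
      = fromBlocks (J (Fin m) F) 0 0 (J (Fin 1) F) := by
  ext x y
  rcases x with (x | x) | (x | x) <;> rcases y with (y | y) | (y | y) <;>
    simp [sig, J, Matrix.one_apply, Matrix.neg_apply] <;>
    (intro h; have h2 := congrArg Fin.val h; simp at h2; omega)

omit [Field F] in
/-- conjugating index sets: `X ↦ X^σ`. -/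
theorem submatrix_sig_injective (m : ℕ) :
    Function.Injective (fun X : Matrix (Fin (m + 1) ⊕ Fin (m + 1)) (Fin (m + 1) ⊕ Fin (m + 1)) F =>
      X.submatrix (sig m) (sig m)) := by
  intro X Y h
  ext i j
  have := congrFun (congrFun h ((sig m).symm i)) ((sig m).symm j)
  simpa using this

theorem mem_symp_iff_sig (m : ℕ) (g : Matrix (Fin (m + 1) ⊕ Fin (m + 1)) (Fin (m + 1) ⊕ Fin (m + 1)) F) :
    g ∈ symplecticGroup (Fin (m + 1)) F ↔
      (g.submatrix (sig m) (sig m))ᵀ * fromBlocks (J (Fin m) F) 0 0 (J (Fin 1) F)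
        * g.submatrix (sig m) (sig m) = fromBlocks (J (Fin m) F) 0 0 (J (Fin 1) F) := by
  rw [SymplecticGroup.mem_iff', ← J_submatrix, Matrix.transpose_submatrix,
    Matrix.submatrix_mul_equiv, Matrix.submatrix_mul_equiv]
  exact ⟨fun h => by rw [h], fun h => submatrix_sig_injective m h⟩

/-- the embedding `Sp_{2m} → Sp_{2m+2}`. -/
def embed (m : ℕ) (A : Matrix (Fin m ⊕ Fin m) (Fin m ⊕ Fin m) F) :
    Matrix (Fin (m + 1) ⊕ Fin (m + 1)) (Fin (m + 1) ⊕ Fin (m + 1)) F :=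
  (fromBlocks A 0 0 1).submatrix (sig m).symm (sig m).symm

theorem embed_sig (m : ℕ) (A : Matrix (Fin m ⊕ Fin m) (Fin m ⊕ Fin m) F) :
    (embed m A).submatrix (sig m) (sig m) = fromBlocks A 0 0 1 := by
  ext i j; simp [embed]

theorem embed_mem (m : ℕ) {A : Matrix (Fin m ⊕ Fin m) (Fin m ⊕ Fin m) F}
    (hA : A ∈ symplecticGroup (Fin m) F) : embed m A ∈ symplecticGroup (Fin (m + 1)) F := by
  rw [mem_symp_iff_sig, embed_sig]
  rw [SymplecticGroup.mem_iff'] at hA
  rw [Matrix.fromBlocks_transpose, Matrix.fromBlocks_multiply, Matrix.fromBlocks_multiply]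
  simp [hA]

theorem embed_injective (m : ℕ) :
    Function.Injective (embed m : Matrix (Fin m ⊕ Fin m) (Fin m ⊕ Fin m) F → _) := by
  intro A B h
  have h2 := congrArg (fun X => X.submatrix (sig m) (sig m)) h
  simp only [embed_sig] at h2
  exact (Matrix.fromBlocks_inj.mp h2).1

/-- the standard hyperbolic pair. -/
def u0 (m : ℕ) : Fin (m + 1) ⊕ Fin (m + 1) → F := Pi.single (sig m (Sum.inr (Sum.inr 0))) 1

/-- the standard hyperbolic pair. -/
def v0 (m : ℕ) : Fin (m + 1) ⊕ Fin (m + 1) → F := Pi.single (sig m (Sum.inr (Sum.inl 0))) 1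

theorem sympForm_u0_v0 (m : ℕ) : sympForm (m + 1) F (u0 m) (v0 m) = 1 := by
  unfold sympForm u0 v0
  rw [Matrix.mulVec_single_one, single_dotProduct, one_mul]
  have := congrFun (congrFun (J_submatrix (F := F) m) (Sum.inr (Sum.inr 0))) (Sum.inr (Sum.inl 0))
  simp only [Matrix.submatrix_apply] at this
  rw [Matrix.col_apply, this]
  simp [J]

theorem fix_iff (m : ℕ) (g : Matrix (Fin (m + 1) ⊕ Fin (m + 1)) (Fin (m + 1) ⊕ Fin (m + 1)) F) :
    (g *ᵥ u0 m = u0 m ∧ g *ᵥ v0 m = v0 m) ↔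
      (g.submatrix (sig m) (sig m)).toBlocks₁₂ = 0 ∧ (g.submatrix (sig m) (sig m)).toBlocks₂₂ = 1 := by
  unfold u0 v0
  rw [Matrix.mulVec_single_one, Matrix.mulVec_single_one]
  constructor
  · rintro ⟨h1, h2⟩
    constructor
    · ext x y
      rcases y with y | y
      · have := congrFun h2 (sig m (Sum.inl x))
        have hy : y = 0 := Subsingleton.elim _ _
        subst hy
        simpa [Matrix.toBlocks₁₂, Pi.single_apply] using this
      · have := congrFun h1 (sig m (Sum.inl x))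
        have hy : y = 0 := Subsingleton.elim _ _
        subst hy
        simpa [Matrix.toBlocks₁₂, Pi.single_apply] using this
    · ext x y
      rcases y with y | y
      · have := congrFun h2 (sig m (Sum.inr x))
        have hy : y = 0 := Subsingleton.elim _ _
        subst hy
        simpa [Matrix.toBlocks₂₂, Pi.single_apply, Matrix.one_apply] using this
      · have := congrFun h1 (sig m (Sum.inr x))
        have hy : y = 0 := Subsingleton.elim _ _
        subst hy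
        simpa [Matrix.toBlocks₂₂, Pi.single_apply, Matrix.one_apply] using this
  · rintro ⟨h1, h2⟩
    constructor
    · ext i
      obtain ⟨x, rfl⟩ := (sig m).surjective i
      rcases x with x | x
      · have := congrFun (congrFun h1 x) (Sum.inr 0)
        simpa [Matrix.toBlocks₁₂, Pi.single_apply] using this
      · have := congrFun (congrFun h2 x) (Sum.inr 0)
        simpa [Matrix.toBlocks₂₂, Pi.single_apply, Matrix.one_apply] using this
    · ext i
      obtain ⟨x, rfl⟩ := (sig m).surjective i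
      rcases x with x | x
      · have := congrFun (congrFun h1 x) (Sum.inl 0)
        simpa [Matrix.toBlocks₁₂, Pi.single_apply] using this
      · have := congrFun (congrFun h2 x) (Sum.inl 0)
        simpa [Matrix.toBlocks₂₂, Pi.single_apply, Matrix.one_apply] using this

theorem stab_iff (m : ℕ) (g : Matrix (Fin (m + 1) ⊕ Fin (m + 1)) (Fin (m + 1) ⊕ Fin (m + 1)) F)
    (hg : g ∈ symplecticGroup (Fin (m + 1)) F) :
    (g *ᵥ u0 m = u0 m ∧ g *ᵥ v0 m = v0 m) ↔
      ∃ A ∈ symplecticGroup (Fin m) F, g = embed m A := by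
  rw [fix_iff]
  constructor
  · rintro ⟨h1, h2⟩
    have hdec := Matrix.fromBlocks_toBlocks (g.submatrix (sig m) (sig m))
    rw [h1, h2] at hdec
    set A := (g.submatrix (sig m) (sig m)).toBlocks₁₁ with hA
    set C := (g.submatrix (sig m) (sig m)).toBlocks₂₁ with hC
    rw [mem_symp_iff_sig, ← hdec] at hg
    rw [Matrix.fromBlocks_transpose, Matrix.fromBlocks_multiply, Matrix.fromBlocks_multiply] at hg
    simp only [Matrix.transpose_zero, Matrix.transpose_one, Matrix.mul_zero, Matrix.zero_mul,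
      add_zero, zero_add, Matrix.one_mul, Matrix.mul_one] at hg
    obtain ⟨h11, -, h21, -⟩ := Matrix.fromBlocks_inj.mp hg
    have hC0 : C = 0 := by
      have : (-J (Fin 1) F) * (J (Fin 1) F * C) = C := by
        rw [← Matrix.mul_assoc, Matrix.neg_mul, Matrix.J_squared, neg_neg, Matrix.one_mul]
      rw [← this, h21, Matrix.mul_zero]
    rw [hC0, Matrix.mul_zero, add_zero] at h11
    refine ⟨A, (SymplecticGroup.mem_iff').mpr h11, ?_⟩
    apply submatrix_sig_injective m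
    show g.submatrix (sig m) (sig m) = (embed m A).submatrix (sig m) (sig m)
    rw [embed_sig, ← hdec, hC0]
  · rintro ⟨A, -, rfl⟩
    rw [embed_sig]
    exact ⟨Matrix.toBlocks_fromBlocks₁₂ _ _ _ _, Matrix.toBlocks_fromBlocks₂₂ _ _ _ _⟩

/-- the action of the symplectic group on pairs of vectors. -/
@[reducible] def pairAction (m : ℕ) (F : Type*) [Field F] :
    MulAction (symplecticGroup (Fin m) F) ((Fin m ⊕ Fin m → F) × (Fin m ⊕ Fin m → F)) where
  smul g x := ((g : Matrix (Fin m ⊕ Fin m) (Fin m ⊕ Fin m) F) *ᵥ x.1,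
    (g : Matrix (Fin m ⊕ Fin m) (Fin m ⊕ Fin m) F) *ᵥ x.2)
  one_smul x := by
    show (((1 : symplecticGroup (Fin m) F) : Matrix (Fin m ⊕ Fin m) (Fin m ⊕ Fin m) F) *ᵥ x.1,
      ((1 : symplecticGroup (Fin m) F) : Matrix (Fin m ⊕ Fin m) (Fin m ⊕ Fin m) F) *ᵥ x.2) = x
    rw [show ((1 : symplecticGroup (Fin m) F) : Matrix (Fin m ⊕ Fin m) (Fin m ⊕ Fin m) F) = 1 from rfl,
      Matrix.one_mulVec, Matrix.one_mulVec]
  mul_smul g h x := by
    show (((g * h : symplecticGroup (Fin m) F) : Matrix (Fin m ⊕ Fin m) (Fin m ⊕ Fin m) F) *ᵥ x.1,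
      ((g * h : symplecticGroup (Fin m) F) : Matrix (Fin m ⊕ Fin m) (Fin m ⊕ Fin m) F) *ᵥ x.2) =
      ((g : Matrix (Fin m ⊕ Fin m) (Fin m ⊕ Fin m) F) *ᵥ
        ((h : Matrix (Fin m ⊕ Fin m) (Fin m ⊕ Fin m) F) *ᵥ x.1),
       (g : Matrix (Fin m ⊕ Fin m) (Fin m ⊕ Fin m) F) *ᵥ
        ((h : Matrix (Fin m ⊕ Fin m) (Fin m ⊕ Fin m) F) *ᵥ x.2))
    rw [Matrix.mulVec_mulVec, Matrix.mulVec_mulVec]
    rfl

theorem pairAction_smul (m : ℕ) (g : symplecticGroup (Fin m) F)
    (x : (Fin m ⊕ Fin m → F) × (Fin m ⊕ Fin m → F)) :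
    (pairAction m F).smul g x = ((g : Matrix (Fin m ⊕ Fin m) (Fin m ⊕ Fin m) F) *ᵥ x.1,
    (g : Matrix (Fin m ⊕ Fin m) (Fin m ⊕ Fin m) F) *ᵥ x.2) := rfl

/-- the number of hyperbolic pairs. -/
theorem card_pairs [Fintype F] (m : ℕ) :
    Nat.card {p : (Fin m ⊕ Fin m → F) × (Fin m ⊕ Fin m → F) // sympForm m F p.1 p.2 = 1} =
      (Fintype.card F ^ (2 * m) - 1) * Fintype.card F ^ (2 * m - 1) := by
  classical
  have e : {p : (Fin m ⊕ Fin m → F) × (Fin m ⊕ Fin m → F) // sympForm m F p.1 p.2 = 1} ≃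
      {p : (Fin m ⊕ Fin m → F) × (Fin m ⊕ Fin m → F) // p.1 ⬝ᵥ p.2 = 1} := by
    refine ⟨fun p => ⟨(p.1.1, J (Fin m) F *ᵥ p.1.2), p.2⟩,
      fun p => ⟨(p.1.1, -(J (Fin m) F *ᵥ p.1.2)), ?_⟩, ?_, ?_⟩
    · show sympForm m F p.1.1 (-(J (Fin m) F *ᵥ p.1.2)) = 1
      unfold sympForm
      rw [Matrix.mulVec_neg, Cfsg.Agent.Helper7.Symp.J_mulVec_J_mulVec, neg_neg]
      exact p.2
    · intro p
      apply Subtype.ext
      show (p.1.1, -(J (Fin m) F *ᵥ (J (Fin m) F *ᵥ p.1.2))) = p.1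
      rw [Cfsg.Agent.Helper7.Symp.J_mulVec_J_mulVec, neg_neg]
    · intro p
      apply Subtype.ext
      show (p.1.1, J (Fin m) F *ᵥ (-(J (Fin m) F *ᵥ p.1.2))) = p.1
      rw [Matrix.mulVec_neg, Cfsg.Agent.Helper7.Symp.J_mulVec_J_mulVec, neg_neg]
  rw [Nat.card_congr e, Nat.card_congr (Equiv.subtypeProdEquivSigmaSubtype
    (fun (x : Fin m ⊕ Fin m → F) (y : Fin m ⊕ Fin m → F) => x ⬝ᵥ y = 1)), Nat.card_sigma,
    Cfsg.Agent.Helper7.Hyp.sum_card_fiber, if_neg one_ne_zero, zero_add]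
  simp [two_mul]

/-- the stabiliser of the standard hyperbolic pair is `Sp_{2m}`. -/
theorem card_fix [Fintype F] (m : ℕ) :
    Nat.card {g : symplecticGroup (Fin (m + 1)) F //
      (g : Matrix (Fin (m + 1) ⊕ Fin (m + 1)) (Fin (m + 1) ⊕ Fin (m + 1)) F) *ᵥ u0 m = u0 m ∧
      (g : Matrix (Fin (m + 1) ⊕ Fin (m + 1)) (Fin (m + 1) ⊕ Fin (m + 1)) F) *ᵥ v0 m = v0 m} =
    Nat.card (symplecticGroup (Fin m) F) := by
  symm
  refine Nat.card_congr (Equiv.ofBijective
    (fun A : symplecticGroup (Fin m) F => ⟨⟨embed m A.1, embed_mem m A.2⟩,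
      (stab_iff m _ (embed_mem m A.2)).mpr ⟨A.1, A.2, rfl⟩⟩) ⟨?_, ?_⟩)
  · intro A B h
    have h2 := congrArg (fun x => (x.1 : Matrix (Fin (m + 1) ⊕ Fin (m + 1)) (Fin (m + 1) ⊕ Fin (m + 1)) F)) h
    exact Subtype.ext (embed_injective m h2)
  · rintro ⟨⟨g, hg⟩, hfix⟩
    obtain ⟨A, hA, rfl⟩ := (stab_iff m g hg).mp hfix
    exact ⟨⟨A, hA⟩, rfl⟩

/-- the recursion for the order of the symplectic group. -/
theorem card_symp_succ [Fintype F] (m : ℕ) :
    Nat.card (symplecticGroup (Fin (m + 1)) F) =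
      (Fintype.card F ^ (2 * (m + 1)) - 1) * Fintype.card F ^ (2 * (m + 1) - 1) *
        Nat.card (symplecticGroup (Fin m) F) := by
  classical
  letI := pairAction (m + 1) F
  have h1 := Subgroup.card_eq_card_quotient_mul_card_subgroup
    (MulAction.stabilizer (symplecticGroup (Fin (m + 1)) F) ((u0 m, v0 m) :
      (Fin (m + 1) ⊕ Fin (m + 1) → F) × (Fin (m + 1) ⊕ Fin (m + 1) → F)))
  have h2 : Nat.card (symplecticGroup (Fin (m + 1)) F ⧸
      MulAction.stabilizer (symplecticGroup (Fin (m + 1)) F) ((u0 m, v0 m) :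
      (Fin (m + 1) ⊕ Fin (m + 1) → F) × (Fin (m + 1) ⊕ Fin (m + 1) → F))) =
      Nat.card (MulAction.orbit (symplecticGroup (Fin (m + 1)) F) ((u0 m, v0 m) :
      (Fin (m + 1) ⊕ Fin (m + 1) → F) × (Fin (m + 1) ⊕ Fin (m + 1) → F))) :=
    Nat.card_congr (MulAction.orbitEquivQuotientStabilizer _ _).symm
  have h3 : MulAction.orbit (symplecticGroup (Fin (m + 1)) F) ((u0 m, v0 m) :
      (Fin (m + 1) ⊕ Fin (m + 1) → F) × (Fin (m + 1) ⊕ Fin (m + 1) → F)) =
      {p | sympForm (m + 1) F p.1 p.2 = 1} := by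
    ext p
    constructor
    · rintro ⟨g, rfl⟩
      show sympForm (m + 1) F (_ *ᵥ u0 m) (_ *ᵥ v0 m) = 1
      rw [Cfsg.Agent.Helper7.Symp.sympForm_mulVec, sympForm_u0_v0]
    · intro hp
      obtain ⟨g, -, e1, e2⟩ := Cfsg.Agent.Helper7.Symp.exists_mem_mulVec_pair
        (sympForm_u0_v0 (F := F) m) hp
      exact ⟨g, Prod.ext e1 e2⟩
  have h4 : Nat.card (MulAction.stabilizer (symplecticGroup (Fin (m + 1)) F) ((u0 m, v0 m) :
      (Fin (m + 1) ⊕ Fin (m + 1) → F) × (Fin (m + 1) ⊕ Fin (m + 1) → F))) =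
      Nat.card (symplecticGroup (Fin m) F) := by
    rw [← card_fix m]
    refine Nat.card_congr (Equiv.subtypeEquivRight fun g => ?_)
    rw [MulAction.mem_stabilizer_iff]
    exact Prod.ext_iff
  rw [h1, h2, h3, h4]
  exact congrArg (· * _) (card_pairs (m + 1))

/-- **The order of the symplectic group.** -/
theorem card_symp [Fintype F] (m : ℕ) :
    Nat.card (symplecticGroup (Fin m) F) =
      Fintype.card F ^ (m ^ 2) * ∏ i ∈ Finset.range m, (Fintype.card F ^ (2 * (i + 1)) - 1) := by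
  induction m with
  | zero =>
    have : Subsingleton (symplecticGroup (Fin 0) F) :=
      ⟨fun a b => Subtype.ext (Subsingleton.elim _ _)⟩
    rw [Nat.card_unique]
    simp
  | succ m ih =>
    rw [card_symp_succ, ih, Finset.prod_range_succ]
    have h : (m + 1) ^ 2 = (2 * (m + 1) - 1) + m ^ 2 := by
      have : 2 * (m + 1) - 1 = 2 * m + 1 := by omega
      rw [this]; ring
    rw [h, pow_add]
    ring

/-- the action of the symplectic group on vectors. -/
@[reducible] def vecAction (m : ℕ) (F : Type*) [Field F] :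
    MulAction (symplecticGroup (Fin m) F) (Fin m ⊕ Fin m → F) where
  smul g x := (g : Matrix (Fin m ⊕ Fin m) (Fin m ⊕ Fin m) F) *ᵥ x
  one_smul x := by
    show ((1 : symplecticGroup (Fin m) F) : Matrix (Fin m ⊕ Fin m) (Fin m ⊕ Fin m) F) *ᵥ x = x
    rw [show ((1 : symplecticGroup (Fin m) F) : Matrix (Fin m ⊕ Fin m) (Fin m ⊕ Fin m) F) = 1 from rfl,
      Matrix.one_mulVec]
  mul_smul g h x := by
    show ((g * h : symplecticGroup (Fin m) F) : Matrix (Fin m ⊕ Fin m) (Fin m ⊕ Fin m) F) *ᵥ x =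
      (g : Matrix (Fin m ⊕ Fin m) (Fin m ⊕ Fin m) F) *ᵥ
        ((h : Matrix (Fin m ⊕ Fin m) (Fin m ⊕ Fin m) F) *ᵥ x)
    rw [Matrix.mulVec_mulVec]
    rfl

theorem mulVec_ne_zero (m : ℕ) (g : symplecticGroup (Fin m) F) {x : Fin m ⊕ Fin m → F}
    (hx : x ≠ 0) : (g : Matrix (Fin m ⊕ Fin m) (Fin m ⊕ Fin m) F) *ᵥ x ≠ 0 := by
  intro h
  obtain ⟨y, hy⟩ := Cfsg.Agent.Helper7.Symp.exists_sympForm_ne_zero hx
  apply hy
  rw [← Cfsg.Agent.Helper7.Symp.sympForm_mulVec g, h]
  unfold sympForm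
  rw [zero_dotProduct]

/-- the stabiliser of a non-zero vector has index `q^{2m} - 1`. -/
theorem card_stab_vec [Fintype F] (m : ℕ) {a : Fin m ⊕ Fin m → F} (ha : a ≠ 0) :
    Nat.card (symplecticGroup (Fin m) F) = (Fintype.card F ^ (2 * m) - 1) *
      Nat.card {g : symplecticGroup (Fin m) F //
        (g : Matrix (Fin m ⊕ Fin m) (Fin m ⊕ Fin m) F) *ᵥ a = a} := by
  classical
  letI := vecAction m F
  have h1 := Subgroup.card_eq_card_quotient_mul_card_subgroup
    (MulAction.stabilizer (symplecticGroup (Fin m) F) a)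
  have h2 : Nat.card (symplecticGroup (Fin m) F ⧸
      MulAction.stabilizer (symplecticGroup (Fin m) F) a) =
      Nat.card (MulAction.orbit (symplecticGroup (Fin m) F) a) :=
    Nat.card_congr (MulAction.orbitEquivQuotientStabilizer _ _).symm
  have h3 : MulAction.orbit (symplecticGroup (Fin m) F) a = {x | x ≠ 0} := by
    ext x
    constructor
    · rintro ⟨g, rfl⟩
      exact mulVec_ne_zero m g ha
    · intro hx
      obtain ⟨g, -, e⟩ := Cfsg.Agent.Helper7.Symp.exists_mem_mulVec_eq ha hx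
      exact ⟨g, e⟩
  have h4 : Nat.card {x : Fin m ⊕ Fin m → F | x ≠ 0} = Fintype.card F ^ (2 * m) - 1 := by
    rw [Set.coe_setOf, Nat.card_eq_fintype_card, Fintype.card_subtype_compl, Fintype.card_fun,
      Fintype.card_subtype_eq]
    simp [two_mul]
  have h5 : Nat.card (MulAction.stabilizer (symplecticGroup (Fin m) F) a) =
      Nat.card {g : symplecticGroup (Fin m) F //
        (g : Matrix (Fin m ⊕ Fin m) (Fin m ⊕ Fin m) F) *ᵥ a = a} := by
    refine Nat.card_congr (Equiv.subtypeEquivRight fun g => ?_)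
    rw [MulAction.mem_stabilizer_iff]
    exact Iff.rfl
  rw [h1, h2, h3, h4, h5]

end Cfsg.Agent.Helper8.SpOrder
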