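import Cfsg.Agent.Helper8.SemiSUFD
set_option autoImplicit false

namespace Cfsg.Agent.Helper8.SemiS

open Polynomial Module Matrix

variable {F : Type*} [Field F]
variable {V : Type*} [AddCommGroup V] [Module F V] [FiniteDimensional F V]
variable {V' : Type*} [AddCommGroup V'] [Module F V'] [FiniteDimensional F V']

theorem exists_equiv_of_charpoly_eq (φ : Module.End F V) (φ' : Module.End F V') (g g' : F[X])
    (hg : Squarefree g) (hg' : Squarefree g') (h1 : aeval φ g = 0) (h2 : aeval φ' g' = 0)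
    (hc : φ.charpoly = φ'.charpoly) : ∃ ψ : V ≃ₗ[F] V', ∀ v, ψ (φ v) = φ' (ψ v) := by
  obtain ⟨d, P, hP, ⟨Ψ⟩⟩ := exists_model φ g hg h1
  obtain ⟨d', P', hP', ⟨Ψ'⟩⟩ := exists_model φ' g' hg' h2
  haveI : ∀ i, Fact (P i).Monic := fun i => ⟨(hP i).1⟩
  haveI : ∀ i, Fact (P' i).Monic := fun i => ⟨(hP' i).1⟩
  have e1 := charpoly_eq_prod φ P Ψ
  have e2 := charpoly_eq_prod φ' P' Ψ'
  have hm := multiset_eq_of_prod_eq P P' hP hP' (by rw [← e1, ← e2, hc])
  obtain ⟨θ⟩ := exists_model_equiv P P' hm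
  let m := modelEquiv φ P Ψ
  let m' := modelEquiv φ' P' Ψ'
  refine ⟨m.trans ((θ.restrictScalars F).trans m'.symm), ?_⟩
  intro v
  simp only [LinearEquiv.trans_apply, LinearEquiv.restrictScalars_apply]
  rw [LinearEquiv.symm_apply_eq]
  change θ (modelEquiv φ P Ψ (φ v)) = modelEquiv φ' P' Ψ' (φ' _)
  rw [modelEquiv_apply, modelEquiv_apply, map_smul]
  congr 1
  exact (LinearEquiv.apply_symm_apply m' _).symm

/-- an intertwining linear equivalence gives a conjugating element of `GL` -/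
theorem exists_GL_of_intertwine {n : ℕ} (A B : Matrix (Fin n) (Fin n) F)
    (ψ : (Fin n → F) ≃ₗ[F] (Fin n → F))
    (hψ : ∀ v, ψ (Matrix.toLin' A v) = Matrix.toLin' B (ψ v)) :
    ∃ g : GL (Fin n) F,
      (g : Matrix (Fin n) (Fin n) F) * A * ((g⁻¹ : GL (Fin n) F) : Matrix (Fin n) (Fin n) F)
        = B := by
  let P : Matrix (Fin n) (Fin n) F := LinearMap.toMatrix' ψ.toLinearMap
  let Q : Matrix (Fin n) (Fin n) F := LinearMap.toMatrix' ψ.symm.toLinearMap
  have hPQ : P * Q = 1 := by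
    rw [← LinearMap.toMatrix'_comp]
    have : ψ.toLinearMap ∘ₗ ψ.symm.toLinearMap = LinearMap.id := by
      ext v; simp
    rw [this, LinearMap.toMatrix'_id]
  have hQP : Q * P = 1 := by
    rw [← LinearMap.toMatrix'_comp]
    have : ψ.symm.toLinearMap ∘ₗ ψ.toLinearMap = LinearMap.id := by
      ext v; simp
    rw [this, LinearMap.toMatrix'_id]
  refine ⟨⟨P, Q, hPQ, hQP⟩, ?_⟩
  change P * A * Q = B
  have h3 : P * A = B * P := by
    have e1 : A = LinearMap.toMatrix' (Matrix.toLin' A) := (LinearMap.toMatrix'_toLin' A).symm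
    have e2 : B = LinearMap.toMatrix' (Matrix.toLin' B) := (LinearMap.toMatrix'_toLin' B).symm
    rw [e1, e2, ← LinearMap.toMatrix'_comp, ← LinearMap.toMatrix'_comp]
    congr 1
    apply LinearMap.ext
    intro v
    exact hψ v
  rw [h3, Matrix.mul_assoc, hPQ, Matrix.mul_one]

/-- semisimple matrices with the same characteristic polynomial are conjugate -/
theorem exists_conj_of_charpoly_eq {n : ℕ} (A B : Matrix (Fin n) (Fin n) F) (g g' : F[X])
    (hg : Squarefree g) (hg' : Squarefree g') (h1 : aeval A g = 0) (h2 : aeval B g' = 0)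
    (hc : A.charpoly = B.charpoly) :
    ∃ x : GL (Fin n) F,
      (x : Matrix (Fin n) (Fin n) F) * A * ((x⁻¹ : GL (Fin n) F) : Matrix (Fin n) (Fin n) F)
        = B := by
  have k1 : aeval (Matrix.toLin' A) g = 0 := by
    have := Polynomial.aeval_algHom_apply (Matrix.toLinAlgEquiv' (R := F) (n := Fin n)).toAlgHom A g
    change aeval (Matrix.toLin' A) g = Matrix.toLin' (aeval A g) at this
    rw [this, h1, map_zero]
  have k2 : aeval (Matrix.toLin' B) g' = 0 := by
    have := Polynomial.aeval_algHom_apply (Matrix.toLinAlgEquiv' (R := F) (n := Fin n)).toAlgHom B g'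
    change aeval (Matrix.toLin' B) g' = Matrix.toLin' (aeval B g') at this
    rw [this, h2, map_zero]
  obtain ⟨ψ, hψ⟩ := exists_equiv_of_charpoly_eq (Matrix.toLin' A) (Matrix.toLin' B) g g' hg hg'
    k1 k2 (by rw [Matrix.charpoly_toLin', Matrix.charpoly_toLin', hc])
  exact exists_GL_of_intertwine A B ψ hψ

end Cfsg.Agent.Helper8.SemiS
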