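import Cfsg.Agent.Helper8.PGraphFactors
set_option autoImplicit false

namespace Cfsg.Agent.Helper8.PGraph

open Polynomial Matrix Module
open Cfsg.Agent.Helper8.SemiS

variable {F : Type*} [Field F]

/-- a matrix killed by a squarefree polynomial is killed by any common multiple of the
irreducible factors of its characteristic polynomial -/
theorem exists_family_killed {n : ℕ} (A : Matrix (Fin n) (Fin n) F) (g : F[X])
    (hg : Squarefree g) (hA : aeval A g = 0) :
    ∃ (d : ℕ) (P : Fin d → F[X]), (∀ i, (P i).Monic ∧ Irreducible (P i)) ∧ (∀ i, P i ∣ g) ∧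
      A.charpoly = ∏ i, P i ∧ (∀ f : F[X], (∀ i, P i ∣ f) → aeval A f = 0) := by
  have k1 : aeval (Matrix.toLin' A) g = 0 := by
    have := Polynomial.aeval_algHom_apply (Matrix.toLinAlgEquiv' (R := F) (n := Fin n)).toAlgHom A g
    change aeval (Matrix.toLin' A) g = Matrix.toLin' (aeval A g) at this
    rw [this, hA, map_zero]
  obtain ⟨d, P, hP, hdvd, ⟨Ψ⟩⟩ := exists_model' (Matrix.toLin' A) g hg k1
  have : ∀ i, Fact (P i).Monic := fun i => ⟨(hP i).1⟩
  refine ⟨d, P, hP, hdvd, ?_, ?_⟩
  · rw [← Matrix.charpoly_toLin']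
    exact charpoly_eq_prod (Matrix.toLin' A) P Ψ
  · intro f hf
    have h1 : ∀ m : (∀ i : Fin d, F[X] ⧸ (F[X] ∙ P i)), f • m = 0 := by
      intro m
      funext i
      change f • m i = 0
      obtain ⟨c, hc⟩ := hf i
      obtain ⟨z, hz⟩ := Submodule.Quotient.mk_surjective _ (m i)
      rw [← hz, ← Submodule.Quotient.mk_smul, Submodule.Quotient.mk_eq_zero,
        Submodule.mem_span_singleton]
      exact ⟨c * z, by rw [hc, smul_eq_mul, smul_eq_mul]; ring⟩
    have h2 : aeval (Matrix.toLin' A) f = 0 := by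
      apply LinearMap.ext
      intro v
      rw [LinearMap.zero_apply]
      have h4 : (AEval'.of (Matrix.toLin' A)) ((aeval (Matrix.toLin' A) f) v) = 0 := by
        have h5 : f • (AEval'.of (Matrix.toLin' A)) v = 0 := by
          apply Ψ.injective
          rw [map_smul, h1, map_zero]
        rw [← AEval.of_aeval_smul] at h5
        exact h5
      exact (AEval'.of (Matrix.toLin' A)).injective (h4.trans (map_zero _).symm)
    have h3 := Polynomial.aeval_algHom_apply
      (Matrix.toLinAlgEquiv' (R := F) (n := Fin n)).toAlgHom A f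
    change aeval (Matrix.toLin' A) f = Matrix.toLin' (aeval A f) at h3
    rw [h2] at h3
    exact Matrix.toLin'.injective (by rw [← h3, map_zero])

end Cfsg.Agent.Helper8.PGraph

namespace Cfsg.Agent.Helper8.PGraph

open Polynomial Matrix Module
open Cfsg.Agent.Helper8.SemiS

variable {F : Type*} [Field F] [Fintype F]

omit [Fintype F] in
theorem squarefree_X_pow_mul_sub_one (p : ℕ) [Fact p.Prime] [CharP F p] (r s : ℕ) (hr : r.Prime)
    (hs : s.Prime) (hrp : r ≠ p) (hsp : s ≠ p) : Squarefree (X ^ (r * s) - 1 : F[X]) := by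
  have hp : p.Prime := Fact.out
  have hm : ((r * s : ℕ) : F) ≠ 0 := by
    intro h0
    have h1 := (CharP.cast_eq_zero_iff F p (r * s)).mp h0
    rcases (Nat.Prime.dvd_mul hp).mp h1 with h | h
    · exact hrp ((Nat.prime_dvd_prime_iff_eq hp hr).mp h).symm
    · exact hsp ((Nat.prime_dvd_prime_iff_eq hp hs).mp h).symm
  have := Polynomial.separable_X_pow_sub_C (1 : F) hm one_ne_zero
  rw [map_one] at this
  exact this.squarefree

omit [Fintype F] in
theorem X_pow_sub_one_dvd (a b : ℕ) : (X ^ a - 1 : F[X]) ∣ X ^ (a * b) - 1 := by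
  have := sub_dvd_pow_sub_pow (X ^ a : F[X]) 1 b
  rwa [one_pow, ← pow_mul] at this

/-- necessary condition for an element of order `r s` in `GL_n(q)` -/
theorem le_of_orderOf_eq (p : ℕ) [Fact p.Prime] [CharP F p] (n r s : ℕ) (hr : r.Prime)
    (hs : s.Prime) (hrp : r ≠ p) (hsp : s ≠ p) (g : GL (Fin n) F)
    (hg : orderOf g = r * s) :
    orderOf ((Fintype.card F : ℕ) : ZMod r) + orderOf ((Fintype.card F : ℕ) : ZMod s) ≤ n ∨
      Nat.lcm (orderOf ((Fintype.card F : ℕ) : ZMod r)) (orderOf ((Fintype.card F : ℕ) : ZMod s))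
        ≤ n := by
  have hsq := squarefree_X_pow_mul_sub_one (F := F) p r s hr hs hrp hsp
  have hk : aeval (g : Matrix (Fin n) (Fin n) F) (X ^ (r * s) - 1 : F[X]) = 0 := by
    rw [aeval_X_pow_sub_one, ← Units.val_pow_eq_pow_val, ← hg, pow_orderOf_eq_one, Units.val_one,
      sub_self]
  obtain ⟨d, P, hP, hdvd, hchar, hkill⟩ := exists_family_killed _ _ hsq hk
  have hdeg : ∑ i, (P i).natDegree = n := by
    rw [← Polynomial.natDegree_prod_of_monic _ _ (fun i _ => (hP i).1), ← hchar,
      Matrix.charpoly_natDegree_eq_dim, Fintype.card_fin]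
  have hpos : ∀ i, 0 < (P i).natDegree := fun i => (hP i).2.natDegree_pos
  -- not all factors divide X^r - 1
  have hnot : ∀ m : ℕ, ¬ r * s ∣ m → ∃ i, ¬ P i ∣ X ^ m - 1 := by
    intro m hm
    by_contra hall
    rw [not_exists] at hall
    have h1 := hkill (X ^ m - 1) (fun i => not_not.mp (hall i))
    rw [aeval_X_pow_sub_one, sub_eq_zero, ← Units.val_pow_eq_pow_val] at h1
    have h2 : g ^ m = 1 := Units.ext h1
    rw [← hg] at hm
    exact hm (orderOf_dvd_of_pow_eq_one h2)
  have hr2 := hr.two_le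
  have hs2 := hs.two_le
  obtain ⟨i, hi⟩ := hnot r (fun h => by
    have := Nat.le_of_dvd hr.pos h
    nlinarith)
  obtain ⟨i', hi'⟩ := hnot s (fun h => by
    have := Nat.le_of_dvd hs.pos h
    nlinarith)
  have hle : ∀ j, (P j).natDegree ≤ n := by
    intro j
    rw [← hdeg]
    exact Finset.single_le_sum (f := fun j => (P j).natDegree) (fun _ _ => Nat.zero_le _)
      (Finset.mem_univ j)
  have hl : orderOf ((Fintype.card F : ℕ) : ZMod s) ∣ (P i).natDegree :=
    dvd_natDegree_of_not_dvd (P i) (hP i).1 (hP i).2 r s hs (hdvd i) hi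
  have hk' : orderOf ((Fintype.card F : ℕ) : ZMod r) ∣ (P i').natDegree :=
    dvd_natDegree_of_not_dvd (P i') (hP i').1 (hP i').2 s r hr (by rw [mul_comm]; exact hdvd i') hi'
  by_cases hsame : i = i'
  · right
    subst hsame
    exact le_trans (Nat.le_of_dvd (hpos i) (Nat.lcm_dvd hk' hl)) (hle i)
  · left
    have h1 := Nat.le_of_dvd (hpos i) hl
    have h2 := Nat.le_of_dvd (hpos i') hk'
    have h3 : (P i).natDegree + (P i').natDegree ≤ ∑ j, (P j).natDegree := by
      have := Finset.add_sum_erase Finset.univ (fun j => (P j).natDegree) (Finset.mem_univ i)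
      rw [← this]
      have h4 : (P i').natDegree ≤ ∑ j ∈ Finset.univ.erase i, (P j).natDegree :=
        Finset.single_le_sum (f := fun j => (P j).natDegree) (fun _ _ => Nat.zero_le _)
          (Finset.mem_erase.mpr ⟨Ne.symm hsame, Finset.mem_univ i'⟩)
      omega
    omega

end Cfsg.Agent.Helper8.PGraph
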