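import Mathlib
import Cfsg.Agent.Helper8.PGraphNec
set_option autoImplicit false

/-! Self-reciprocal characteristic polynomials of symplectic matrices. -/

namespace Cfsg.Agent.Helper8.SpG

open Polynomial Matrix

variable {F : Type*} [Field F]

/-- the characteristic polynomial of a symplectic matrix is self-reciprocal -/
theorem reverse_charpoly_symp {n : ℕ} (A : Matrix (Fin n ⊕ Fin n) (Fin n ⊕ Fin n) F)
    (hA : A ∈ Matrix.symplecticGroup (Fin n) F) :
    A.charpoly.reverse = A.charpoly := by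
  have h1 : A⁻¹ = (-J (Fin n) F) * Aᵀ * J (Fin n) F := SymplecticGroup.inv_eq_symplectic_inv A hA
  have hdet : A.det = 1 := SymplecticGroup.det_eq_one hA
  have hunit : IsUnit A := (Matrix.isUnit_iff_isUnit_det A).mpr (by rw [hdet]; exact isUnit_one)
  have h2 := Matrix.charpoly_inv A hunit
  rw [← Matrix.reverse_charpoly] at h2
  have h3 : A⁻¹.charpoly = A.charpoly := by
    rw [h1, Matrix.charpoly_mul_comm, ← mul_assoc, mul_neg, J_squared, neg_neg, one_mul,
      Matrix.charpoly_transpose]
  rw [h3, hdet, Ring.inverse_one, map_one, mul_one] at h2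
  have h4 : Fintype.card (Fin n ⊕ Fin n) = 2 * n := by
    rw [Fintype.card_sum, Fintype.card_fin]; ring
  rw [h4, pow_mul, neg_one_sq, one_pow, one_mul] at h2
  exact h2.symm

theorem reverse_reverse_of_coeff_zero (P : F[X]) (h0 : P.coeff 0 ≠ 0) :
    P.reverse.reverse = P := by
  have h1 : P.natTrailingDegree = 0 := Polynomial.natTrailingDegree_eq_zero.mpr (Or.inr h0)
  have h2 : P.reverse.natDegree = P.natDegree := by
    rw [Polynomial.reverse_natDegree, h1, Nat.sub_zero]
  unfold Polynomial.reverse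
  rw [show (reflect P.natDegree P).natDegree = P.natDegree from h2, reflect_reflect]

theorem natDegree_reverse_of_coeff_zero (P : F[X]) (h0 : P.coeff 0 ≠ 0) :
    P.reverse.natDegree = P.natDegree := by
  have h1 : P.natTrailingDegree = 0 := Polynomial.natTrailingDegree_eq_zero.mpr (Or.inr h0)
  rw [Polynomial.reverse_natDegree, h1, Nat.sub_zero]

theorem coeff_zero_reverse_ne (P : F[X]) (hP : P ≠ 0) : P.reverse.coeff 0 ≠ 0 := by
  rw [Polynomial.coeff_zero_reverse]
  exact leadingCoeff_ne_zero.mpr hP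

theorem reverse_dvd_reverse {P Q : F[X]} (h : P ∣ Q) : P.reverse ∣ Q.reverse := by
  obtain ⟨c, rfl⟩ := h
  rw [Polynomial.reverse_mul_of_domain]
  exact dvd_mul_right _ _

theorem irreducible_reverse (P : F[X]) (hP : Irreducible P) (h0 : P.coeff 0 ≠ 0) :
    Irreducible P.reverse := by
  have hP0 : P ≠ 0 := hP.ne_zero
  rw [irreducible_iff]
  constructor
  · intro hu
    have h1 := Polynomial.natDegree_eq_zero_of_isUnit hu
    rw [natDegree_reverse_of_coeff_zero P h0] at h1
    exact (Nat.ne_of_gt hP.natDegree_pos) h1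
  · intro a b hab
    have h1 : P = a.reverse * b.reverse := by
      rw [← Polynomial.reverse_mul_of_domain, ← hab, reverse_reverse_of_coeff_zero P h0]
    have hc0 : a.coeff 0 * b.coeff 0 ≠ 0 := by
      rw [← Polynomial.mul_coeff_zero, ← hab]
      exact coeff_zero_reverse_ne P hP0
    have ha0 : a.coeff 0 ≠ 0 := left_ne_zero_of_mul hc0
    have hb0 : b.coeff 0 ≠ 0 := right_ne_zero_of_mul hc0
    have key : ∀ c : F[X], c.coeff 0 ≠ 0 → IsUnit c.reverse → IsUnit c := by
      intro c hc hu
      have h2 := Polynomial.natDegree_eq_zero_of_isUnit hu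
      rw [natDegree_reverse_of_coeff_zero c hc] at h2
      rw [Polynomial.eq_C_of_natDegree_eq_zero h2]
      exact Polynomial.isUnit_C.mpr (isUnit_iff_ne_zero.mpr hc)
    rcases hP.isUnit_or_isUnit h1 with h | h
    · exact Or.inl (key a ha0 h)
    · exact Or.inr (key b hb0 h)

theorem coeff_zero_ne_of_dvd (P : F[X]) (m : ℕ) (hm : 0 < m) (hdvd : P ∣ X ^ m - 1) :
    P.coeff 0 ≠ 0 := by
  intro h0
  have h1 : (X : F[X]) ∣ P := Polynomial.X_dvd_iff.mpr h0
  have h2 : (X : F[X]) ∣ X ^ m - 1 := dvd_trans h1 hdvd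
  rw [Polynomial.X_dvd_iff] at h2
  rw [Polynomial.coeff_sub, Polynomial.coeff_X_pow, Polynomial.coeff_one_zero,
    if_neg (Nat.ne_of_lt hm), zero_sub] at h2
  exact one_ne_zero (neg_eq_zero.mp h2)

end Cfsg.Agent.Helper8.SpG
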