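import Mathlib
import Cfsg.Agent.Helper8.SpGRev
set_option autoImplicit false

/-! Self-reciprocal irreducible polynomials over finite fields. -/

namespace Cfsg.Agent.Helper8.SpG

open Polynomial Matrix
open Cfsg.Agent.Helper8.PGraph

variable {F : Type*} [Field F] [Fintype F]

/-- a self-reciprocal monic irreducible polynomial whose roots have order divisible by the odd
prime `s` has even degree `D`, and `q^(D/2) ≡ -1 (mod s)`. -/
theorem self_reciprocal_props (P : F[X]) (hP : P.Monic) (hirr : Irreducible P)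
    (hrev : P ∣ P.reverse) (r s : ℕ) (hs : s.Prime) (hs2 : s ≠ 2)
    (hdvd : P ∣ X ^ (r * s) - 1) (hndvd : ¬ P ∣ X ^ r - 1) :
    Even P.natDegree ∧ ¬ orderOf ((Fintype.card F : ℕ) : ZMod s) ∣ P.natDegree / 2 := by
  have : Fact (Irreducible P) := ⟨hirr⟩
  have : Module.Finite F (AdjoinRoot P) := hP.finite_adjoinRoot
  have : Finite (AdjoinRoot P) := Module.finite_of_finite F
  have : Fact s.Prime := ⟨hs⟩
  set α := AdjoinRoot.root P with hα
  have h1 : α ^ (r * s) = 1 := (root_pow_eq_one_iff P _).mpr hdvd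
  have h2 : α ^ r ≠ 1 := fun h => hndvd ((root_pow_eq_one_iff P _).mp h)
  have hα0 : α ≠ 0 := by
    intro h0
    rw [h0, zero_pow] at h1
    · exact zero_ne_one h1
    · intro h
      rw [h] at h1
      rw [pow_zero] at h1
      rcases Nat.eq_zero_or_pos r with hr0 | hr0
      · rw [hr0, pow_zero] at h2; exact h2 rfl
      · rcases Nat.mul_eq_zero.mp h with h' | h'
        · omega
        · exact hs.ne_zero h'
  have h3 : orderOf α ∣ r * s := orderOf_dvd_of_pow_eq_one h1
  have h4 : ¬ orderOf α ∣ r := fun h => h2 (orderOf_dvd_iff_pow_eq_one.mp h)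
  have h5 : s ∣ orderOf α := by
    by_contra hns
    have hcop : Nat.Coprime (orderOf α) s := (Nat.Prime.coprime_iff_not_dvd hs).mpr hns |>.symm
    exact h4 (hcop.dvd_of_dvd_mul_right h3)
  have hfr : Module.finrank F (AdjoinRoot P) = P.natDegree := by
    rw [(AdjoinRoot.powerBasis hirr.ne_zero).finrank, AdjoinRoot.powerBasis_dim]
  -- the root `α⁻¹`
  have hroot0 : eval₂ (algebraMap F (AdjoinRoot P)) α P.reverse = 0 := by
    obtain ⟨c, hc⟩ := hrev
    rw [hc, eval₂_mul]
    have : eval₂ (algebraMap F (AdjoinRoot P)) α P = 0 := by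
      have := AdjoinRoot.eval₂_root P
      rwa [AdjoinRoot.algebraMap_eq]
    rw [this, zero_mul]
  have hroot : eval₂ ((Algebra.ofId F (AdjoinRoot P)) : F →+* AdjoinRoot P) α⁻¹ P = 0 := by
    let _ : Invertible (α⁻¹) := ⟨α, mul_inv_cancel₀ hα0, inv_mul_cancel₀ hα0⟩
    have := (Polynomial.eval₂_reverse_eq_zero_iff (algebraMap F (AdjoinRoot P)) α⁻¹ P).mp hroot0
    exact this
  let σ : AdjoinRoot P →ₐ[F] AdjoinRoot P :=
    AdjoinRoot.liftAlgHom P (Algebra.ofId F (AdjoinRoot P)) α⁻¹ hroot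
  have hσα : σ α = α⁻¹ := AdjoinRoot.liftAlgHom_root _ _ _ _
  obtain ⟨⟨j, hjlt'⟩, hj⟩ := (FiniteField.bijective_frobeniusAlgHom_pow F (AdjoinRoot P)).2 σ
  have hj' : (FiniteField.frobeniusAlgHom F (AdjoinRoot P)) ^ j = σ := hj
  have hfrob : ∀ (m : ℕ) (x : AdjoinRoot P),
      ((FiniteField.frobeniusAlgHom F (AdjoinRoot P)) ^ m) x = x ^ (Fintype.card F ^ m) := by
    intro m x
    rw [AlgHom.coe_pow, FiniteField.coe_frobeniusAlgHom, pow_iterate]
  have h6 : α⁻¹ = α ^ (Fintype.card F ^ j) := by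
    rw [← hσα, ← hj', hfrob]
  have h7 : σ * σ = 1 := by
    apply AdjoinRoot.algHom_ext
    rw [AlgHom.mul_apply, AlgHom.one_apply, hσα, map_inv₀, hσα, inv_inv]
  have h8 : P.natDegree ∣ 2 * j := by
    rw [← hfr, ← FiniteField.orderOf_frobeniusAlgHom F (AdjoinRoot P)]
    apply orderOf_dvd_of_pow_eq_one
    rw [two_mul, pow_add, hj', h7]
  have hs3 : 3 ≤ s := by
    have := hs.two_le
    omega
  have h9 : j ≠ 0 := by
    intro h0
    rw [h0, pow_zero, pow_one] at h6
    have h10 : α ^ 2 = 1 := by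
      rw [pow_two]
      nth_rw 1 [← h6]
      exact inv_mul_cancel₀ hα0
    have h11 : orderOf α ∣ 2 := orderOf_dvd_of_pow_eq_one h10
    have h12 := Nat.le_of_dvd (by norm_num) (dvd_trans h5 h11)
    omega
  have hjlt : j < P.natDegree := by
    rwa [hfr] at hjlt'
  have h10 : 2 * j = P.natDegree := by
    obtain ⟨c, hc⟩ := h8
    have hc1 : c = 1 := by
      rcases Nat.lt_or_ge c 1 with h | h
      · have : c = 0 := by omega
        subst this
        omega
      · rcases Nat.lt_or_ge 1 c with h' | h'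
        · have : 2 * P.natDegree ≤ P.natDegree * c := by
            calc 2 * P.natDegree = P.natDegree * 2 := by ring
              _ ≤ P.natDegree * c := Nat.mul_le_mul_left _ h'
          omega
        · omega
    rw [hc, hc1, mul_one]
  refine ⟨⟨j, by omega⟩, ?_⟩
  have h11 : P.natDegree / 2 = j := by omega
  rw [h11]
  intro hl
  have h12 : ((Fintype.card F : ℕ) : ZMod s) ^ j = 1 := orderOf_dvd_iff_pow_eq_one.mp hl
  have h13 : α ^ (Fintype.card F ^ j + 1) = 1 := by
    rw [pow_succ, ← h6, inv_mul_cancel₀ hα0]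
  have h14 : s ∣ Fintype.card F ^ j + 1 := dvd_trans h5 (orderOf_dvd_of_pow_eq_one h13)
  have h15 : ((Fintype.card F ^ j + 1 : ℕ) : ZMod s) = 0 := (ZMod.natCast_eq_zero_iff _ _).mpr h14
  rw [Nat.cast_add, Nat.cast_pow, h12, Nat.cast_one] at h15
  have h16 : ((2 : ℕ) : ZMod s) = 0 := by
    rw [← h15]; norm_num
  rw [ZMod.natCast_eq_zero_iff] at h16
  have := Nat.le_of_dvd (by norm_num) h16
  omega

end Cfsg.Agent.Helper8.SpG
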