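import Mathlib
import Cfsg.Agent.Helper8.SpGSelf
set_option autoImplicit false

/-! The "weight" `Wt P` of an irreducible factor of a self-reciprocal polynomial: `P` itself if
`P` is self-reciprocal, `P * P.reverse` otherwise. -/

namespace Cfsg.Agent.Helper8.SpG

open Polynomial Matrix
open Cfsg.Agent.Helper8.PGraph

variable {F : Type*} [Field F]

open Classical in
noncomputable def Wt (P : F[X]) : F[X] := if P ∣ P.reverse then P else P * P.reverse

theorem Wt_of_dvd {P : F[X]} (h : P ∣ P.reverse) : Wt P = P := if_pos h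

theorem Wt_of_not_dvd {P : F[X]} (h : ¬ P ∣ P.reverse) : Wt P = P * P.reverse := if_neg h

theorem Wt_ne_zero (P : F[X]) (hP : P ≠ 0) : Wt P ≠ 0 := by
  by_cases h : P ∣ P.reverse
  · rw [Wt_of_dvd h]; exact hP
  · rw [Wt_of_not_dvd h]
    exact mul_ne_zero hP (fun h0 => hP (Polynomial.reverse_eq_zero.mp h0))

theorem reverse_pow' (P : F[X]) (m : ℕ) : (P ^ m).reverse = P.reverse ^ m := by
  induction m with
  | zero => rw [pow_zero, pow_zero, ← C_1, Polynomial.reverse_C]
  | succ m ih => rw [pow_succ, Polynomial.reverse_mul_of_domain, ih, pow_succ]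

theorem Wt_pow_dvd (χ P : F[X]) (hχ : χ.reverse = χ) (hirr : Irreducible P)
    (m : ℕ) (h : P ^ m ∣ χ) : Wt P ^ m ∣ χ := by
  by_cases hd : P ∣ P.reverse
  · rw [Wt_of_dvd hd]; exact h
  · rw [Wt_of_not_dvd hd, mul_pow]
    have h1 : P.reverse ^ m ∣ χ := by
      have := reverse_dvd_reverse h
      rwa [reverse_pow', hχ] at this
    have h2 : IsCoprime P P.reverse := hirr.coprime_iff_not_dvd.mpr hd
    exact (h2.pow (m := m) (n := m)).mul_dvd h h1

theorem Wt_isCoprime (P g : F[X]) (hirr : Irreducible P) (h0 : P.coeff 0 ≠ 0)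
    (hg : g.reverse ∣ g) (hPg : ¬ P ∣ g) : IsCoprime (Wt P) g := by
  have h1 : IsCoprime P g := hirr.coprime_iff_not_dvd.mpr hPg
  by_cases hd : P ∣ P.reverse
  · rw [Wt_of_dvd hd]; exact h1
  · rw [Wt_of_not_dvd hd]
    apply IsCoprime.mul_left h1
    apply (irreducible_reverse P hirr h0).coprime_iff_not_dvd.mpr
    intro h2
    have h3 := reverse_dvd_reverse h2
    rw [reverse_reverse_of_coeff_zero P h0] at h3
    exact hPg (dvd_trans h3 hg)

theorem Wt_dvd_sq (P g : F[X]) (hg : g.reverse ∣ g) (hPg : P ∣ g) : Wt P ∣ g ^ 2 := by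
  by_cases hd : P ∣ P.reverse
  · rw [Wt_of_dvd hd]; exact dvd_pow hPg (by norm_num)
  · rw [Wt_of_not_dvd hd, pow_two]
    exact mul_dvd_mul hPg (dvd_trans (reverse_dvd_reverse hPg) hg)

theorem reverse_X_pow_sub_one_dvd (m : ℕ) : (X ^ m - 1 : F[X]).reverse ∣ X ^ m - 1 := by
  have h1 : (X ^ m - 1 : F[X]) = X ^ m + C (-1) := by
    rw [map_neg, map_one, sub_eq_add_neg]
  have h2 : (X ^ m : F[X]).reverse = 1 := by
    have := Polynomial.reverse_mul_X_pow (1 : F[X]) m
    rw [one_mul] at this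
    rw [this, ← C_1, Polynomial.reverse_C]
  rw [h1, Polynomial.reverse_add_C, h2, natDegree_X_pow]
  refine ⟨-1, ?_⟩
  rw [map_neg, map_one]
  ring

theorem natDegree_Wt_of_not_dvd (P : F[X]) (h0 : P.coeff 0 ≠ 0) (hd : ¬ P ∣ P.reverse) :
    (Wt P).natDegree = 2 * P.natDegree := by
  have hP : P ≠ 0 := by
    rintro rfl
    exact hd (dvd_refl _)
  rw [Wt_of_not_dvd hd, Polynomial.natDegree_mul hP
    (fun h => hP (Polynomial.reverse_eq_zero.mp h)), natDegree_reverse_of_coeff_zero P h0]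
  ring

variable [Fintype F]

/-- lower bound for the degree of `Wt P` -/
theorem le_natDegree_Wt (P : F[X]) (hP : P.Monic) (hirr : Irreducible P) (r s : ℕ)
    (hs : s.Prime) (hs2 : s ≠ 2) (hdvd : P ∣ X ^ (r * s) - 1) (hndvd : ¬ P ∣ X ^ r - 1) :
    orderOf ((Fintype.card F : ℕ) : ZMod s) ≤ (Wt P).natDegree ∧
      (Odd (orderOf ((Fintype.card F : ℕ) : ZMod s)) →
        2 * orderOf ((Fintype.card F : ℕ) : ZMod s) ≤ (Wt P).natDegree) := by
  have hl := dvd_natDegree_of_not_dvd P hP hirr r s hs hdvd hndvd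
  have hpos := hirr.natDegree_pos
  have hle := Nat.le_of_dvd hpos hl
  have hr0 : 0 < r := by
    rcases Nat.eq_zero_or_pos r with h | h
    · subst h
      rw [pow_zero, sub_self] at hndvd
      exact absurd (dvd_zero P) hndvd
    · exact h
  have h0 : P.coeff 0 ≠ 0 := coeff_zero_ne_of_dvd P (r * s) (Nat.mul_pos hr0 hs.pos) hdvd
  by_cases hd : P ∣ P.reverse
  · rw [Wt_of_dvd hd]
    obtain ⟨⟨j, hj⟩, h2⟩ := self_reciprocal_props P hP hirr hd r s hs hs2 hdvd hndvd
    refine ⟨hle, ?_⟩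
    intro hodd
    exfalso
    apply h2
    have h3 : P.natDegree / 2 = j := by omega
    rw [h3]
    have h4 : orderOf ((Fintype.card F : ℕ) : ZMod s) ∣ 2 * j := by
      rw [hj] at hl
      rwa [two_mul]
    exact (Nat.Coprime.dvd_mul_left (Nat.coprime_two_right.mpr hodd)).mp h4
  · rw [natDegree_Wt_of_not_dvd P h0 hd]
    constructor
    · omega
    · intro _
      omega

end Cfsg.Agent.Helper8.SpG
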