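import Mathlib
set_option autoImplicit false

/-! Invariant bilinear forms and polynomials in the operator: adjoint identities and
orthogonality of primary components. -/

namespace Cfsg.Agent.Helper8.SpS

open Polynomial

variable {F : Type*} [Field F]
variable {V : Type*} [AddCommGroup V] [Module F V]

/-- `B` is invariant under `A` -/
def Inv (B : V →ₗ[F] V →ₗ[F] F) (A : Module.End F V) : Prop := ∀ u v, B (A u) (A v) = B u v

/-- `B` is alternating -/
def Alt (B : V →ₗ[F] V →ₗ[F] F) : Prop := ∀ v, B v v = 0

theorem Alt.skew {B : V →ₗ[F] V →ₗ[F] F} (h : Alt B) (u v : V) : B u v = -B v u := by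
  have h1 := h (u + v)
  simp only [map_add, LinearMap.add_apply, h u, h v, zero_add, add_zero] at h1
  exact eq_neg_of_add_eq_zero_right h1

theorem Alt.eq_zero_of_swap {B : V →ₗ[F] V →ₗ[F] F} (h : Alt B) {u v : V} (h0 : B u v = 0) :
    B v u = 0 := by
  rw [h.skew, h0, neg_zero]

theorem Inv.pow {B : V →ₗ[F] V →ₗ[F] F} {A : Module.End F V} (h : Inv B A) (k : ℕ) (u v : V) :
    B ((A ^ k) u) ((A ^ k) v) = B u v := by
  induction k with
  | zero => simp
  | succ k ih => rw [pow_succ', Module.End.mul_apply, Module.End.mul_apply, h, ih]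

/-- adjoint identity with the reflected polynomial -/
theorem Inv.adj_reflect {B : V →ₗ[F] V →ₗ[F] F} {A : Module.End F V} (h : Inv B A) (d : ℕ)
    (p : F[X]) (hp : p.natDegree ≤ d) (u v : V) :
    B (aeval A p u) ((A ^ d) v) = B u (aeval A (reflect d p) v) := by
  refine induction_with_natDegree_le
    (fun p => B (aeval A p u) ((A ^ d) v) = B u (aeval A (reflect d p) v)) d ?_ ?_ ?_ p hp
  · simp
  · intro n r _ hnd
    simp only [reflect_C_mul_X_pow, revAt_le hnd, map_mul, aeval_C, map_pow, aeval_X,
      Module.End.mul_apply, Module.algebraMap_end_apply, map_smul, LinearMap.smul_apply]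
    congr 1
    have h1 : (A ^ d) v = (A ^ n) ((A ^ (d - n)) v) := by
      rw [← Module.End.mul_apply, ← pow_add, Nat.add_sub_cancel' hnd]
    rw [h1, h.pow]
  · intro f g _ _ hf hg
    simp only [map_add, LinearMap.add_apply, reflect_add, hf, hg]

/-- orthogonality of kernels: `ker P(A) ⟂ ker Q(A)` when `Q` is coprime to the reverse of `P` -/
theorem Inv.orth {B : V →ₗ[F] V →ₗ[F] F} {A : Module.End F V} (h : Inv B A) (P Q : F[X])
    (hc : IsCoprime P.reverse Q) (u v : V) (hu : aeval A P u = 0) (hv : aeval A Q v = 0) :
    B u v = 0 := by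
  obtain ⟨a, b, hab⟩ := hc
  have h1 : v = aeval A P.reverse (aeval A a v) := by
    have h2 := congrArg (fun p => aeval A p v) hab
    simp only [map_add, map_mul, map_one, LinearMap.add_apply, Module.End.mul_apply,
      Module.End.one_apply] at h2
    rw [hv, map_zero, add_zero] at h2
    rw [← Module.End.mul_apply, ← map_mul, mul_comm, map_mul, Module.End.mul_apply]
    exact h2.symm
  rw [h1]
  have h3 := h.adj_reflect P.natDegree P le_rfl u (aeval A a v)
  rw [hu, map_zero, LinearMap.zero_apply] at h3
  exact h3.symm

/-- adjoint identity with an inverse operator -/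
theorem Inv.adj_inv {B : V →ₗ[F] V →ₗ[F] F} {A A' : Module.End F V} (h : Inv B A)
    (hA : A * A' = 1) (p : F[X]) (u v : V) :
    B (aeval A p u) v = B u (aeval A' p v) := by
  induction p using Polynomial.induction_on' generalizing u v with
  | add f g hf hg => simp only [map_add, LinearMap.add_apply, hf, hg]
  | monomial n c =>
    simp only [← C_mul_X_pow_eq_monomial, map_mul, aeval_C, map_pow, aeval_X,
      Module.End.mul_apply, Module.algebraMap_end_apply, map_smul, LinearMap.smul_apply]
    congr 1
    induction n generalizing u v with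
    | zero => simp
    | succ n ih =>
      rw [pow_succ', Module.End.mul_apply, pow_succ, Module.End.mul_apply]
      have h1 : v = A (A' v) := by
        rw [← Module.End.mul_apply, hA, Module.End.one_apply]
      conv_lhs => rw [h1]
      rw [h, ih]

end Cfsg.Agent.Helper8.SpS
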