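import Mathlib
import Cfsg.Agent.Helper8.SpSBasic
set_option autoImplicit false

/-! Symplectic bases for nondegenerate alternating forms. -/

namespace Cfsg.Agent.Helper8.SpS

open Module

universe u

variable {F : Type*} [Field F]

/-- nondegeneracy (left) -/
def Nondeg {V : Type*} [AddCommGroup V] [Module F V] (B : V →ₗ[F] V →ₗ[F] F) : Prop :=
  ∀ u, (∀ v, B u v = 0) → u = 0

/-- the entries of the standard alternating Gram matrix -/
def Jent {k : ℕ} : Fin k ⊕ Fin k → Fin k ⊕ Fin k → F
  | Sum.inl i, Sum.inr j => if i = j then 1 else 0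
  | Sum.inr i, Sum.inl j => if i = j then -1 else 0
  | _, _ => 0

theorem exists_symp_family (n : ℕ) : ∀ (V : Type u) [AddCommGroup V] [Module F V]
    [FiniteDimensional F V] (B : V →ₗ[F] V →ₗ[F] F), Alt B → Nondeg B → finrank F V = n →
    ∃ (k : ℕ) (e f : Fin k → V), (∀ i j, B (e i) (e j) = 0) ∧ (∀ i j, B (f i) (f j) = 0) ∧
      (∀ i j, B (e i) (f j) = if i = j then 1 else 0) ∧
      ∀ x, x ∈ Submodule.span F (Set.range e ∪ Set.range f) := by
  induction n using Nat.strong_induction_on with
  | _ n ih =>
    intro V _ _ _ B hAlt hND hn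
    by_cases hV : ∀ x : V, x = 0
    · refine ⟨0, Fin.elim0, Fin.elim0, fun i => i.elim0, fun i => i.elim0, fun i => i.elim0, ?_⟩
      intro x
      rw [hV x]
      exact Submodule.zero_mem _
    · rw [not_forall] at hV
      obtain ⟨v, hv⟩ := hV
      have h1 : ∃ w', B v w' ≠ 0 := by
        by_contra hcon
        rw [not_exists] at hcon
        exact hv (hND v (fun w' => not_not.mp (hcon w')))
      obtain ⟨w', hw'⟩ := h1
      obtain ⟨w, hvw⟩ : ∃ w, B v w = 1 :=
        ⟨(B v w')⁻¹ • w', by rw [map_smul, smul_eq_mul, inv_mul_cancel₀ hw']⟩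
      have hwv : B w v = -1 := by rw [hAlt.skew, hvw]
      set H : Submodule F V := LinearMap.ker (B v) ⊓ LinearMap.ker (B w) with hH
      have hmemH : ∀ x, x ∈ H ↔ B v x = 0 ∧ B w x = 0 := by
        intro x
        rw [hH, Submodule.mem_inf, LinearMap.mem_ker, LinearMap.mem_ker]
      -- decomposition
      have hdec : ∀ x : V, x + (B w x) • v - (B v x) • w ∈ H := by
        intro x
        rw [hmemH]
        constructor
        · rw [map_sub, map_add, map_smul, map_smul, hAlt v, hvw, smul_eq_mul, smul_eq_mul]; ring
        · rw [map_sub, map_add, map_smul, map_smul, hAlt w, hwv, smul_eq_mul, smul_eq_mul]; ring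
      set B' : ↥H →ₗ[F] ↥H →ₗ[F] F := B.compl₁₂ H.subtype H.subtype with hB'
      have hB'app : ∀ a b : ↥H, B' a b = B (a : V) (b : V) := fun a b => rfl
      have hAlt' : Alt B' := fun a => hAlt (a : V)
      have hND' : Nondeg B' := by
        intro a ha
        apply Subtype.ext
        apply hND
        intro x
        have h2 := ha ⟨_, hdec x⟩
        rw [hB'app] at h2
        have ha2 := (hmemH _).mp a.2
        have e1 : B (a : V) v = 0 := hAlt.eq_zero_of_swap ha2.1
        have e2 : B (a : V) w = 0 := hAlt.eq_zero_of_swap ha2.2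
        simp only [map_sub, map_add, map_smul, e1, e2, smul_zero, add_zero, sub_zero] at h2
        exact h2
      have hlt : finrank F ↥H < n := by
        rw [← hn]
        apply Submodule.finrank_lt
        intro htop
        have : v ∈ H := by rw [htop]; exact Submodule.mem_top
        have h3 := ((hmemH v).mp this).2
        rw [hwv] at h3
        exact one_ne_zero (neg_eq_zero.mp h3)
      obtain ⟨k, e', f', he', hf', hef', hsp'⟩ := ih _ hlt ↥H B' hAlt' hND' rfl
      refine ⟨k + 1, Fin.cons v (fun i => (e' i : V)), Fin.cons w (fun i => (f' i : V)),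
        ?_, ?_, ?_, ?_⟩
      · intro i j
        refine Fin.cases ?_ (fun i' => ?_) i <;> refine Fin.cases ?_ (fun j' => ?_) j
        · simp only [Fin.cons_zero]; exact hAlt v
        · simp only [Fin.cons_zero, Fin.cons_succ]
          exact ((hmemH _).mp (e' j').2).1
        · simp only [Fin.cons_zero, Fin.cons_succ]
          exact hAlt.eq_zero_of_swap ((hmemH _).mp (e' i').2).1
        · simp only [Fin.cons_succ]
          exact he' i' j'
      · intro i j
        refine Fin.cases ?_ (fun i' => ?_) i <;> refine Fin.cases ?_ (fun j' => ?_) j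
        · simp only [Fin.cons_zero]; exact hAlt w
        · simp only [Fin.cons_zero, Fin.cons_succ]
          exact ((hmemH _).mp (f' j').2).2
        · simp only [Fin.cons_zero, Fin.cons_succ]
          exact hAlt.eq_zero_of_swap ((hmemH _).mp (f' i').2).2
        · simp only [Fin.cons_succ]
          exact hf' i' j'
      · intro i j
        refine Fin.cases ?_ (fun i' => ?_) i <;> refine Fin.cases ?_ (fun j' => ?_) j
        · simp only [Fin.cons_zero, if_true]; exact hvw
        · simp only [Fin.cons_zero, Fin.cons_succ]
          rw [if_neg (Fin.succ_ne_zero j').symm]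
          exact ((hmemH _).mp (f' j').2).1
        · simp only [Fin.cons_zero, Fin.cons_succ]
          rw [if_neg (Fin.succ_ne_zero i')]
          exact hAlt.eq_zero_of_swap ((hmemH _).mp (e' i').2).2
        · simp only [Fin.cons_succ, Fin.succ_inj]
          exact hef' i' j'
      · intro x
        set S := Submodule.span F (Set.range (Fin.cons v (fun i => (e' i : V)) : Fin (k + 1) → V) ∪
          Set.range (Fin.cons w (fun i => (f' i : V)) : Fin (k + 1) → V)) with hS
        have hvS : v ∈ S := Submodule.subset_span (Or.inl ⟨0, by simp⟩)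
        have hwS : w ∈ S := Submodule.subset_span (Or.inr ⟨0, by simp⟩)
        have hHS : ∀ a : ↥H, (a : V) ∈ S := by
          intro a
          have h4 := hsp' a
          have h5 : Submodule.map H.subtype (Submodule.span F (Set.range e' ∪ Set.range f')) ≤ S := by
            rw [Submodule.map_span, Submodule.span_le]
            rintro _ ⟨b, hb, rfl⟩
            rcases hb with ⟨i, rfl⟩ | ⟨i, rfl⟩
            · exact Submodule.subset_span (Or.inl ⟨i.succ, by simp⟩)
            · exact Submodule.subset_span (Or.inr ⟨i.succ, by simp⟩)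
          exact h5 ⟨a, h4, rfl⟩
        have h6 : x = (x + (B w x) • v - (B v x) • w) - (B w x) • v + (B v x) • w := by abel
        rw [h6]
        exact Submodule.add_mem _ (Submodule.sub_mem _ (hHS ⟨_, hdec x⟩)
          (Submodule.smul_mem _ _ hvS)) (Submodule.smul_mem _ _ hwS)

end Cfsg.Agent.Helper8.SpS
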