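import Mathlib
import Cfsg.Agent.Helper8.SpSSymp
set_option autoImplicit false

/-! Any two nondegenerate alternating forms on a finite-dimensional space are isometric. -/

namespace Cfsg.Agent.Helper8.SpS

open Module

universe u

variable {F : Type*} [Field F]
variable {V : Type u} [AddCommGroup V] [Module F V]

theorem gram_family (B : V →ₗ[F] V →ₗ[F] F) (hAlt : Alt B) {k : ℕ} (e f : Fin k → V)
    (he : ∀ i j, B (e i) (e j) = 0) (hf : ∀ i j, B (f i) (f j) = 0)
    (hef : ∀ i j, B (e i) (f j) = if i = j then 1 else 0) (x y : Fin k ⊕ Fin k) :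
    B (Sum.elim e f x) (Sum.elim e f y) = Jent x y := by
  rcases x with i | i <;> rcases y with j | j
  · exact he i j
  · exact hef i j
  · simp only [Sum.elim_inr, Sum.elim_inl, Jent]
    rw [hAlt.skew, hef j i]
    by_cases h : i = j
    · rw [if_pos h, if_pos h.symm]
    · rw [if_neg h, if_neg (Ne.symm h), neg_zero]
  · exact hf i j

/-- the partner index -/
def partner {k : ℕ} : Fin k ⊕ Fin k → Fin k ⊕ Fin k
  | Sum.inl i => Sum.inr i
  | Sum.inr i => Sum.inl i

theorem Jent_partner {k : ℕ} (x x₀ : Fin k ⊕ Fin k) :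
    (Jent x (partner x₀) : F) ≠ 0 ↔ x = x₀ := by
  rcases x with i | i <;> rcases x₀ with j | j <;> simp [Jent, partner]

theorem linearIndependent_family (B : V →ₗ[F] V →ₗ[F] F) (hAlt : Alt B) {k : ℕ} (e f : Fin k → V)
    (he : ∀ i j, B (e i) (e j) = 0) (hf : ∀ i j, B (f i) (f j) = 0)
    (hef : ∀ i j, B (e i) (f j) = if i = j then 1 else 0) :
    LinearIndependent F (Sum.elim e f) := by
  rw [Fintype.linearIndependent_iff]
  intro g hg x₀
  have h1 : B (∑ x, g x • Sum.elim e f x) (Sum.elim e f (partner x₀)) = 0 := by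
    rw [hg, map_zero, LinearMap.zero_apply]
  rw [map_sum, LinearMap.sum_apply] at h1
  simp only [map_smul, LinearMap.smul_apply, gram_family B hAlt e f he hf hef, smul_eq_mul] at h1
  rw [Finset.sum_eq_single x₀] at h1
  · have h2 : (Jent x₀ (partner x₀) : F) ≠ 0 := (Jent_partner x₀ x₀).mpr rfl
    exact (mul_eq_zero.mp h1).resolve_right h2
  · intro x _ hx
    have : (Jent x (partner x₀) : F) = 0 := by
      by_contra h
      exact hx ((Jent_partner x x₀).mp h)
    rw [this, mul_zero]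
  · intro h
    exact absurd (Finset.mem_univ x₀) h

variable [FiniteDimensional F V]

/-- a symplectic basis -/
theorem exists_symp_basis (B : V →ₗ[F] V →ₗ[F] F) (hAlt : Alt B) (hND : Nondeg B) :
    ∃ (k : ℕ) (b : Basis (Fin k ⊕ Fin k) F V), ∀ x y, B (b x) (b y) = Jent x y := by
  obtain ⟨k, e, f, he, hf, hef, hsp⟩ := exists_symp_family (finrank F V) V B hAlt hND rfl
  have hli := linearIndependent_family B hAlt e f he hf hef
  have hsp' : ⊤ ≤ Submodule.span F (Set.range (Sum.elim e f)) := by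
    intro x _
    have := hsp x
    rwa [← Set.Sum.elim_range] at this
  refine ⟨k, Basis.mk hli hsp', ?_⟩
  intro x y
  rw [Basis.mk_apply, Basis.mk_apply]
  exact gram_family B hAlt e f he hf hef x y

/-- two nondegenerate alternating forms on the same space are isometric -/
theorem exists_symp_isometry (B₁ B₂ : V →ₗ[F] V →ₗ[F] F) (hAlt₁ : Alt B₁) (hND₁ : Nondeg B₁)
    (hAlt₂ : Alt B₂) (hND₂ : Nondeg B₂) :
    ∃ z : V →ₗ[F] V, ∀ u v, B₂ u v = B₁ (z u) (z v) := by
  obtain ⟨k₁, b₁, hb₁⟩ := exists_symp_basis B₁ hAlt₁ hND₁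
  obtain ⟨k₂, b₂, hb₂⟩ := exists_symp_basis B₂ hAlt₂ hND₂
  have hk : k₁ = k₂ := by
    have h1 := Module.finrank_eq_card_basis b₁
    have h2 := Module.finrank_eq_card_basis b₂
    rw [Fintype.card_sum, Fintype.card_fin] at h1 h2
    omega
  subst hk
  refine ⟨b₂.constr F (fun x => b₁ x), ?_⟩
  have h3 : B₂ = B₁.compl₁₂ (b₂.constr F (fun x => b₁ x)) (b₂.constr F (fun x => b₁ x)) := by
    apply LinearMap.ext_basis b₂ b₂
    intro x y
    rw [LinearMap.compl₁₂_apply, Basis.constr_basis, Basis.constr_basis, hb₁, hb₂]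
  intro u v
  conv_lhs => rw [h3]
  rfl

end Cfsg.Agent.Helper8.SpS
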