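import Mathlib
import Cfsg.Agent.Helper8.SpSSympIso
set_option autoImplicit false

/-! The hyperbolic case (two distinct reciprocal irreducible factors) and the scalar case. -/

namespace Cfsg.Agent.Helper8.SpS

open Polynomial Module

universe u

section
variable {F : Type*} [Field F] {V : Type*} [AddCommGroup V] [Module F V]

theorem aeval_comm_of_comm (A y : Module.End F V) (h : y * A = A * y) (p : F[X]) :
    y * aeval A p = aeval A p * y := by
  induction p using Polynomial.induction_on' with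
  | add f g hf hg => rw [map_add, mul_add, add_mul, hf, hg]
  | monomial n c =>
    rw [← C_mul_X_pow_eq_monomial, map_mul, aeval_C, map_pow, aeval_X]
    have h1 : Commute y (A ^ n) := (show Commute y A from h).pow_right n
    have h2 : Commute y (algebraMap F (Module.End F V) c) := (Algebra.commutes c y).symm
    exact (h2.mul_right h1).eq

theorem aeval_comm_self (A : Module.End F V) (p : F[X]) : aeval A p * A = A * aeval A p :=
  (aeval_comm_of_comm A A rfl p).symm

end

variable {F : Type*} [Field F]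
variable {V : Type u} [AddCommGroup V] [Module F V] [FiniteDimensional F V]

/-- the operator comparing two forms, and its commutation with an isometry of both -/
theorem exists_compare (A A' : Module.End F V) (hAA' : A * A' = 1)
    (B₁ B₂ : V →ₗ[F] V →ₗ[F] F) (hND₁ : Nondeg B₁) (hInv₁ : Inv B₁ A) (hInv₂ : Inv B₂ A) :
    ∃ y : Module.End F V, y * A = A * y ∧ ∀ u v, B₁ (y u) v = B₂ u v := by
  have hnd : LinearMap.BilinForm.Nondegenerate B₁ :=
    LinearMap.BilinForm.Nondegenerate.ofSeparatingLeft hND₁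
  refine ⟨LinearMap.BilinForm.symmCompOfNondegenerate B₂ B₁ hnd, ?_, ?_⟩
  · have hy : ∀ u v, B₁ (LinearMap.BilinForm.symmCompOfNondegenerate B₂ B₁ hnd u) v = B₂ u v :=
      fun u v => LinearMap.BilinForm.symmCompOfNondegenerate_left_apply B₂ hnd v u
    set y := LinearMap.BilinForm.symmCompOfNondegenerate B₂ B₁ hnd with hydef
    ext u
    rw [Module.End.mul_apply, Module.End.mul_apply, ← sub_eq_zero]
    apply hND₁
    intro v
    have hv : v = A (A' v) := by rw [← Module.End.mul_apply, hAA', Module.End.one_apply]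
    rw [map_sub, LinearMap.sub_apply, hy, sub_eq_zero]
    conv_lhs => rw [hv, hInv₂]
    conv_rhs => rw [hv, hInv₁, hy]
  · exact fun u v => LinearMap.BilinForm.symmCompOfNondegenerate_left_apply B₂ hnd v u

theorem leafI (A A' : Module.End F V) (hAA' : A * A' = 1)
    (P : F[X]) (hrr : P.reverse.reverse = P) (hcop : IsCoprime P P.reverse)
    (hPA : aeval A (P * P.reverse) = 0)
    (B₁ B₂ : V →ₗ[F] V →ₗ[F] F) (hAlt₁ : Alt B₁) (hND₁ : Nondeg B₁) (hInv₁ : Inv B₁ A)
    (hAlt₂ : Alt B₂) (hInv₂ : Inv B₂ A) :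
    ∃ z : Module.End F V, z * A = A * z ∧ ∀ u v, B₂ u v = B₁ (z u) (z v) := by
  obtain ⟨y, hyA, hy⟩ := exists_compare A A' hAA' B₁ B₂ hND₁ hInv₁ hInv₂
  obtain ⟨a, b, hab⟩ := hcop
  set pM : Module.End F V := aeval A (b * P.reverse) with hpM
  set pM' : Module.End F V := aeval A (a * P) with hpM'
  have hsum : ∀ u, u = pM u + pM' u := by
    intro u
    have h1 := congrArg (fun p => aeval A p u) hab
    simp only [map_add, map_one, LinearMap.add_apply, Module.End.one_apply] at h1
    rw [add_comm] at h1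
    exact h1.symm
  have hM : ∀ u, aeval A P (pM u) = 0 := by
    intro u
    rw [hpM, ← Module.End.mul_apply, ← map_mul,
      show P * (b * P.reverse) = b * (P * P.reverse) by ring, map_mul, hPA, mul_zero,
      LinearMap.zero_apply]
  have hM' : ∀ u, aeval A P.reverse (pM' u) = 0 := by
    intro u
    rw [hpM', ← Module.End.mul_apply, ← map_mul,
      show P.reverse * (a * P) = a * (P * P.reverse) by ring, map_mul, hPA, mul_zero,
      LinearMap.zero_apply]
  have hyM' : ∀ u, aeval A P.reverse (y (pM' u)) = 0 := by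
    intro u
    have h1 := aeval_comm_of_comm A y hyA P.reverse
    have h2 := congrArg (fun f : Module.End F V => f (pM' u)) h1
    simp only [Module.End.mul_apply] at h2
    rw [← h2, hM', map_zero]
  -- isotropy
  have isoM : ∀ (B : V →ₗ[F] V →ₗ[F] F), Inv B A → ∀ u v, aeval A P u = 0 → aeval A P v = 0 →
      B u v = 0 := fun B hB u v hu hv => hB.orth P P ⟨b, a, by rw [add_comm]; exact hab⟩ u v hu hv
  have isoM' : ∀ (B : V →ₗ[F] V →ₗ[F] F), Inv B A → ∀ u v, aeval A P.reverse u = 0 →
      aeval A P.reverse v = 0 → B u v = 0 := by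
    intro B hB u v hu hv
    refine hB.orth P.reverse P.reverse ?_ u v hu hv
    rw [hrr]
    exact ⟨a, b, hab⟩
  refine ⟨pM + y * pM', ?_, ?_⟩
  · rw [add_mul, mul_add, mul_assoc, hpM, hpM', aeval_comm_self, aeval_comm_self, ← mul_assoc,
      hyA, mul_assoc]
  · intro u v
    simp only [LinearMap.add_apply, Module.End.mul_apply]
    conv_lhs => rw [hsum u, hsum v]
    simp only [map_add, LinearMap.add_apply]
    rw [isoM B₂ hInv₂ _ _ (hM u) (hM v), isoM' B₂ hInv₂ _ _ (hM' u) (hM' v),
      isoM B₁ hInv₁ _ _ (hM u) (hM v), isoM' B₁ hInv₁ _ _ (hyM' u) (hyM' v), hy,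
      hAlt₁.skew (pM u) (y (pM' v)), hy, ← hAlt₂.skew]

/-- the scalar case -/
theorem leafIII (A : Module.End F V) (c : F) (hA : ∀ v, A v = c • v)
    (B₁ B₂ : V →ₗ[F] V →ₗ[F] F) (hAlt₁ : Alt B₁) (hND₁ : Nondeg B₁)
    (hAlt₂ : Alt B₂) (hND₂ : Nondeg B₂) :
    ∃ z : Module.End F V, z * A = A * z ∧ ∀ u v, B₂ u v = B₁ (z u) (z v) := by
  obtain ⟨z, hz⟩ := exists_symp_isometry B₁ B₂ hAlt₁ hND₁ hAlt₂ hND₂
  refine ⟨z, ?_, hz⟩
  ext v
  rw [Module.End.mul_apply, Module.End.mul_apply, hA, hA, map_smul]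

end Cfsg.Agent.Helper8.SpS
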