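import Mathlib
import Cfsg.Agent.Helper8.SpSLeafI
set_option autoImplicit false

/-! Gluing equivariant isometries along a coprime factorisation. -/

namespace Cfsg.Agent.Helper8.SpS

open Polynomial Module

universe u v

/-- the statement proved by induction on the dimension -/
def CoreStmt (F : Type v) [Field F] (N : ℕ) (n : ℕ) : Prop :=
  ∀ (V : Type u) [AddCommGroup V] [Module F V] [FiniteDimensional F V]
    (A A' : Module.End F V), A * A' = 1 → A' * A = 1 → A ^ N = 1 →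
    ∀ (B₁ B₂ : V →ₗ[F] V →ₗ[F] F), Alt B₁ → Nondeg B₁ → Inv B₁ A → Alt B₂ → Nondeg B₂ →
      Inv B₂ A → finrank F V = n →
      ∃ z : Module.End F V, z * A = A * z ∧ ∀ u v, B₂ u v = B₁ (z u) (z v)

variable {F : Type v} [Field F]
variable {V : Type u} [AddCommGroup V] [Module F V] [FiniteDimensional F V]

/-- nondegeneracy of the restriction to a summand of an orthogonal decomposition -/
theorem nondeg_restrict (B : V →ₗ[F] V →ₗ[F] F) (hND : Nondeg B) (U W : Submodule F V)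
    (hUW : IsCompl U W) (horth : ∀ u ∈ U, ∀ w ∈ W, B u w = 0) :
    Nondeg (B.compl₁₂ U.subtype U.subtype) := by
  intro a ha
  apply Subtype.ext
  apply hND
  intro x
  obtain ⟨u, w, rfl, -⟩ := Submodule.existsUnique_add_of_isCompl hUW x
  rw [map_add, horth _ a.2 _ w.2, add_zero]
  exact ha u

theorem glue (N n : ℕ) (ih : ∀ m < n, CoreStmt.{u} F N m)
    (A A' : Module.End F V) (hAA' : A * A' = 1) (hA'A : A' * A = 1) (hAN : A ^ N = 1)
    (G h : F[X]) (hcop : IsCoprime G h) (hGh : aeval A (G * h) = 0) (hrev : G.reverse ∣ G)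
    (hU : LinearMap.ker (aeval A G) ≠ ⊥) (hW : LinearMap.ker (aeval A h) ≠ ⊥)
    (B₁ B₂ : V →ₗ[F] V →ₗ[F] F) (hAlt₁ : Alt B₁) (hND₁ : Nondeg B₁) (hInv₁ : Inv B₁ A)
    (hAlt₂ : Alt B₂) (hND₂ : Nondeg B₂) (hInv₂ : Inv B₂ A) (hn : finrank F V = n) :
    ∃ z : Module.End F V, z * A = A * z ∧ ∀ u v, B₂ u v = B₁ (z u) (z v) := by
  set U := LinearMap.ker (aeval A G) with hUdef
  set W := LinearMap.ker (aeval A h) with hWdef
  have hUW : IsCompl U W := by
    constructor
    · exact disjoint_ker_aeval_of_isCoprime A hcop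
    · rw [codisjoint_iff, hUdef, hWdef, sup_ker_aeval_eq_ker_aeval_mul_of_coprime A hcop, hGh,
        LinearMap.ker_zero]
  -- invariance
  have hcomm' : A' * A = A * A' := by rw [hA'A, hAA']
  have hinv : ∀ (g : F[X]) (C : Module.End F V), C * A = A * C →
      ∀ x ∈ LinearMap.ker (aeval A g), C x ∈ LinearMap.ker (aeval A g) := by
    intro g C hC x hx
    rw [LinearMap.mem_ker] at hx ⊢
    have h1 := congrArg (fun f : Module.End F V => f x) (aeval_comm_of_comm A C hC g)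
    simp only [Module.End.mul_apply] at h1
    rw [← h1, hx, map_zero]
  have hAU : ∀ x ∈ U, A x ∈ U := hinv G A rfl
  have hAW : ∀ x ∈ W, A x ∈ W := hinv h A rfl
  have hA'U : ∀ x ∈ U, A' x ∈ U := hinv G A' hcomm'
  have hA'W : ∀ x ∈ W, A' x ∈ W := hinv h A' hcomm'
  -- orthogonality
  have hcop' : IsCoprime G.reverse h := IsCoprime.of_isCoprime_of_dvd_left hcop hrev
  have horth : ∀ (B : V →ₗ[F] V →ₗ[F] F), Inv B A → ∀ u ∈ U, ∀ w ∈ W, B u w = 0 := by
    intro B hB u hu w hw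
    exact hB.orth G h hcop' u w (LinearMap.mem_ker.mp hu) (LinearMap.mem_ker.mp hw)
  have horth' : ∀ (B : V →ₗ[F] V →ₗ[F] F), Alt B → Inv B A → ∀ w ∈ W, ∀ u ∈ U, B w u = 0 := by
    intro B hAlt hB w hw u hu
    exact hAlt.eq_zero_of_swap (horth B hB u hu w hw)
  -- dimensions
  have hfr := Submodule.finrank_add_eq_of_isCompl hUW
  have hUpos : 0 < finrank F ↥U := by
    rcases Nat.eq_zero_or_pos (finrank F ↥U) with h0 | h0
    · exact absurd (Submodule.finrank_eq_zero.mp h0) hU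
    · exact h0
  have hWpos : 0 < finrank F ↥W := by
    rcases Nat.eq_zero_or_pos (finrank F ↥W) with h0 | h0
    · exact absurd (Submodule.finrank_eq_zero.mp h0) hW
    · exact h0
  -- the general restriction statement
  have key : ∀ (S : Submodule F V) (hAS : ∀ x ∈ S, A x ∈ S), (∀ x ∈ S, A' x ∈ S) →
      finrank F ↥S < n → Nondeg (B₁.compl₁₂ S.subtype S.subtype) →
      Nondeg (B₂.compl₁₂ S.subtype S.subtype) →
      ∃ zS : ↥S →ₗ[F] ↥S, (∀ x : ↥S, (zS ⟨A x, hAS x x.2⟩ : V) = A (zS x)) ∧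
        ∀ x y : ↥S, B₂ x y = B₁ (zS x) (zS y) := by
    intro S hAS hA'S hlt hnd₁ hnd₂
    have h1 : A.restrict hAS * A'.restrict hA'S = 1 := by
      ext x
      change A (A' x) = x
      rw [← Module.End.mul_apply, hAA', Module.End.one_apply]
    have h2 : A'.restrict hA'S * A.restrict hAS = 1 := by
      ext x
      change A' (A x) = x
      rw [← Module.End.mul_apply, hA'A, Module.End.one_apply]
    have h3 : (A.restrict hAS) ^ N = 1 := by
      rw [Module.End.pow_restrict]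
      ext x
      rw [LinearMap.coe_restrict_apply, hAN]
      rfl
    obtain ⟨zS, hz1, hz2⟩ := ih _ hlt ↥S (A.restrict hAS) (A'.restrict hA'S) h1 h2 h3
      (B₁.compl₁₂ S.subtype S.subtype) (B₂.compl₁₂ S.subtype S.subtype)
      (fun x => hAlt₁ (x : V)) hnd₁ (fun x y => hInv₁ (x : V) (y : V))
      (fun x => hAlt₂ (x : V)) hnd₂ (fun x y => hInv₂ (x : V) (y : V)) rfl
    refine ⟨zS, ?_, fun x y => hz2 x y⟩
    intro x
    have h4 := congrArg (fun f : Module.End F ↥S => ((f x : ↥S) : V)) hz1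
    exact h4
  obtain ⟨zU, hzU1, hzU2⟩ := key U hAU hA'U (by omega)
    (nondeg_restrict B₁ hND₁ U W hUW (horth B₁ hInv₁))
    (nondeg_restrict B₂ hND₂ U W hUW (horth B₂ hInv₂))
  obtain ⟨zW, hzW1, hzW2⟩ := key W hAW hA'W (by omega)
    (nondeg_restrict B₁ hND₁ W U hUW.symm (horth' B₁ hAlt₁ hInv₁))
    (nondeg_restrict B₂ hND₂ W U hUW.symm (horth' B₂ hAlt₂ hInv₂))
  set z : Module.End F V := LinearMap.ofIsCompl hUW (U.subtype ∘ₗ zU) (W.subtype ∘ₗ zW) with hz
  have hzu : ∀ u : ↥U, z (u : V) = (zU u : V) := fun u => by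
    rw [hz, LinearMap.ofIsCompl_apply_left]; rfl
  have hzw : ∀ w : ↥W, z (w : V) = (zW w : V) := fun w => by
    rw [hz, LinearMap.ofIsCompl_apply_right]; rfl
  refine ⟨z, ?_, ?_⟩
  · ext x
    obtain ⟨u, w, rfl, -⟩ := Submodule.existsUnique_add_of_isCompl hUW x
    rw [Module.End.mul_apply, Module.End.mul_apply, map_add, map_add, map_add, map_add, hzu, hzw,
      ← hzU1, ← hzW1, ← hzu, ← hzw]
  · intro x y
    obtain ⟨u, w, rfl, -⟩ := Submodule.existsUnique_add_of_isCompl hUW x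
    obtain ⟨u', w', rfl, -⟩ := Submodule.existsUnique_add_of_isCompl hUW y
    simp only [map_add, LinearMap.add_apply, hzu, hzw]
    rw [horth B₂ hInv₂ _ u.2 _ w'.2, horth' B₂ hAlt₂ hInv₂ _ w.2 _ u'.2,
      horth B₁ hInv₁ _ (zU u).2 _ (zW w').2, horth' B₁ hAlt₁ hInv₁ _ (zW w).2 _ (zU u').2,
      hzU2, hzW2]

end Cfsg.Agent.Helper8.SpS
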