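import Mathlib
import Cfsg.Prelude.Def_Classical
import Cfsg.Prelude.Def_ClassicalGeometry
import Cfsg.Prelude.Def_LieClassical
import Cfsg.Agent.Helper7.Hermitian

set_option autoImplicit false

/-!
The order of the finite unitary groups, by orbit-stabiliser on unit vectors.
-/

namespace Cfsg.Agent.Helper8.GUOrder

open Matrix Cfsg Cfsg.Agent.Helper7.Herm

variable {K : Type*} [Field K] [Fintype K] {q : ℕ} {n : ℕ}

theorem neg_one_pow_q (hK : Fintype.card K = q ^ 2) : (-1 : K) ^ q = -1 := by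
  have h := add_pow_q hK (1 : K) (-1)
  rw [add_neg_cancel, one_pow, zero_pow (by have := one_le_q hK; omega)] at h
  linear_combination -h

theorem neg_pow_q (hK : Fintype.card K = q ^ 2) (a : K) : (-a) ^ q = -(a ^ q) := by
  rw [neg_eq_neg_one_mul, mul_pow, neg_one_pow_q hK]; ring

theorem sub_pow_q (hK : Fintype.card K = q ^ 2) (a b : K) : (a - b) ^ q = a ^ q - b ^ q := by
  rw [sub_eq_add_neg, add_pow_q hK, neg_pow_q hK]; ring

theorem hermForm_sub_right (hK : Fintype.card K = q ^ 2) (u v v' : Fin n → K) :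
    hermForm n K q u (v - v') = hermForm n K q u v - hermForm n K q u v' := by
  have := hermForm_add_right hK u (v - v') v'
  rw [sub_add_cancel] at this
  rw [this]; ring

theorem hermForm_sub_left (u u' v : Fin n → K) :
    hermForm n K q (u - u') v = hermForm n K q u v - hermForm n K q u' v := by
  have := hermForm_add_left (q := q) (u - u') u' v
  rw [sub_add_cancel] at this
  rw [this]; ring

/-- the general form-transformation rule of `x ↦ x + c h(x,w) w`. -/
theorem hermForm_T (hK : Fintype.card K = q ^ 2) (w : Fin n → K) (c : K) (x y : Fin n → K) :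
    hermForm n K q (unitaryTransvection n q w c *ᵥ x) (unitaryTransvection n q w c *ᵥ y) =
      hermForm n K q x y + (c ^ q + c + c * c ^ q * hermForm n K q w w) *
        (hermForm n K q x w * (hermForm n K q y w) ^ q) := by
  rw [unitaryTransvection_mulVec, unitaryTransvection_mulVec, hermForm_add_left,
    hermForm_add_right hK, hermForm_add_right hK, hermForm_smul_left, hermForm_smul_left,
    hermForm_smul_right, hermForm_smul_right, hermForm_swap hK w y, mul_pow]
  ring

theorem T_mul_T (w : Fin n → K) (c c' : K) :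
    unitaryTransvection n q w c * unitaryTransvection n q w c' =
      unitaryTransvection n q w (c' + c + c * c' * hermForm n K q w w) := by
  apply Matrix.toLin'.injective
  apply LinearMap.ext
  intro x
  rw [Matrix.toLin'_apply, Matrix.toLin'_apply, ← mulVec_mulVec, unitaryTransvection_mulVec,
    unitaryTransvection_mulVec, unitaryTransvection_mulVec, hermForm_add_left,
    hermForm_smul_left]
  rw [add_assoc, ← add_smul]
  congr 2
  ring

omit [Fintype K] in
theorem T_zero (w : Fin n → K) : unitaryTransvection n q w 0 = 1 := by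
  unfold unitaryTransvection
  rw [zero_smul, add_zero]

/-- the quasi-reflection as an element of `GL`. -/
def TG (w : Fin n → K) (c : K) (hc : c ^ q + c + c * c ^ q * hermForm n K q w w = 0) :
    GL (Fin n) K :=
  ⟨unitaryTransvection n q w c, unitaryTransvection n q w (c ^ q),
    by rw [T_mul_T, hc, T_zero],
    by rw [T_mul_T, ← T_zero w]; congr 1; linear_combination hc⟩

theorem TG_mem (hK : Fintype.card K = q ^ 2) (w : Fin n → K) (c : K)
    (hc : c ^ q + c + c * c ^ q * hermForm n K q w w = 0) : TG w c hc ∈ GU n K q := by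
  intro x y
  show hermForm n K q (unitaryTransvection n q w c *ᵥ x) (unitaryTransvection n q w c *ᵥ y) = _
  rw [hermForm_T hK, hc, zero_mul, add_zero]

theorem two_le_q (hK : Fintype.card K = q ^ 2) : 2 ≤ q := by
  have h1 : 1 < Fintype.card K := Fintype.one_lt_card
  rw [hK] at h1
  by_contra h
  have : q ≤ 1 := by omega
  have : q ^ 2 ≤ 1 ^ 2 := Nat.pow_le_pow_left this 2
  omega

theorem exists_not_fixed (hK : Fintype.card K = q ^ 2) : ∃ a : K, a ^ q ≠ a := by
  classical
  by_contra hcon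
  push Not at hcon
  have hq := two_le_q hK
  have hp : (Polynomial.X ^ q - Polynomial.X : Polynomial K) ≠ 0 := by
    intro h0
    have := congrArg (fun p => Polynomial.coeff p q) h0
    simp only [Polynomial.coeff_sub, Polynomial.coeff_X_pow, if_true, Polynomial.coeff_zero] at this
    rw [Polynomial.coeff_X, if_neg (by omega)] at this
    simp at this
  have hdeg : (Polynomial.X ^ q - Polynomial.X : Polynomial K).natDegree = q := by
    exact FiniteField.X_pow_card_sub_X_natDegree_eq K (by omega)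
  have hsub : (Finset.univ : Finset K) ⊆ (Polynomial.X ^ q - Polynomial.X : Polynomial K).roots.toFinset := by
    intro a _
    rw [Multiset.mem_toFinset, Polynomial.mem_roots hp]
    simp [hcon a]
  have h1 := Finset.card_le_card hsub
  have h2 := Multiset.toFinset_card_le (Polynomial.X ^ q - Polynomial.X : Polynomial K).roots
  have h3 := Polynomial.card_roots' (Polynomial.X ^ q - Polynomial.X : Polynomial K)
  rw [hdeg] at h3
  rw [Finset.card_univ, hK] at h1
  have : q ^ 2 ≤ q := by omega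
  nlinarith

theorem exists_zeta (hK : Fintype.card K = q ^ 2) : ∃ ζ : K, ζ * ζ ^ q = 1 ∧ ζ ≠ 1 := by
  obtain ⟨a, ha⟩ := exists_not_fixed hK
  have hq := two_le_q hK
  have ha0 : a ≠ 0 := by
    rintro rfl
    apply ha
    rw [zero_pow (by omega)]
  refine ⟨a ^ (q - 1), ?_, ?_⟩
  · have := FiniteField.pow_card_sub_one_eq_one a ha0
    rw [hK] at this
    rw [← pow_mul, ← pow_add, ← this]
    congr 1
    have : q ^ 2 = q * q := by ring
    have h2 : q - 1 + (q - 1) * q = q * q - 1 := by
      obtain ⟨k, rfl⟩ : ∃ k, q = k + 1 := ⟨q - 1, by omega⟩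
      simp only [Nat.add_sub_cancel]
      have : (k + 1) * (k + 1) = k + k * (k + 1) + 1 := by ring
      omega
    omega
  · intro h1
    apply ha
    have : a ^ q = a ^ (q - 1) * a := by
      rw [← pow_succ]; congr 1; omega
    rw [this, h1, one_mul]

/-- a scalar of norm one as an element of `GL`. -/
def SG (n : ℕ) (ζ : K) (hζ : ζ * ζ ^ q = 1) : GL (Fin n) K :=
  ⟨ζ • (1 : Matrix (Fin n) (Fin n) K), ζ ^ q • (1 : Matrix (Fin n) (Fin n) K),
    by rw [Matrix.smul_mul, Matrix.mul_smul, Matrix.one_mul, smul_smul, hζ, one_smul],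
    by rw [Matrix.smul_mul, Matrix.mul_smul, Matrix.one_mul, smul_smul, mul_comm, hζ, one_smul]⟩

omit [Fintype K] in
theorem SG_mulVec (ζ : K) (hζ : ζ * ζ ^ q = 1) (x : Fin n → K) :
    ((SG n ζ hζ : GL (Fin n) K) : Matrix (Fin n) (Fin n) K) *ᵥ x = ζ • x := by
  show (ζ • (1 : Matrix (Fin n) (Fin n) K)) *ᵥ x = ζ • x
  rw [Matrix.smul_mulVec, Matrix.one_mulVec]

theorem SG_mem (ζ : K) (hζ : ζ * ζ ^ q = 1) : SG n ζ hζ ∈ GU n K q := by
  intro x y
  show hermForm n K q (((SG n ζ hζ : GL (Fin n) K) : Matrix (Fin n) (Fin n) K) *ᵥ x)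
    (((SG n ζ hζ : GL (Fin n) K) : Matrix (Fin n) (Fin n) K) *ᵥ y) = _
  rw [SG_mulVec, SG_mulVec, hermForm_smul_left, hermForm_smul_right, ← mul_assoc, hζ, one_mul]

theorem exists_refl (hK : Fintype.card K = q ^ 2) {u v : Fin n → K}
    (hu : hermForm n K q u u = 1) (hv : hermForm n K q v v = 1) (hne : hermForm n K q u v ≠ 1) :
    ∃ g ∈ GU n K q, (g : Matrix (Fin n) (Fin n) K) *ᵥ u = v := by
  set α := hermForm n K q u v with hα
  have hvu : hermForm n K q v u = α ^ q := hermForm_swap hK v u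
  have hd0 : 1 - α ≠ 0 := fun h => hne (by linear_combination -h)
  have hdq : (1 - α) ^ q = 1 - α ^ q := by rw [sub_pow_q hK, one_pow]
  have hdq0 : 1 - α ^ q ≠ 0 := by rw [← hdq]; exact pow_ne_zero _ hd0
  have huw : hermForm n K q u (u - v) = 1 - α := by rw [hermForm_sub_right hK, hu]
  have hww : hermForm n K q (u - v) (u - v) = (1 - α) + (1 - α ^ q) := by
    rw [hermForm_sub_left, huw, hermForm_sub_right hK, hvu, hv]; ring
  have hcq : (-(1 - α)⁻¹) ^ q = -(1 - α ^ q)⁻¹ := by
    rw [neg_pow_q hK, inv_pow, hdq]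
  have hc : (-(1 - α)⁻¹) ^ q + (-(1 - α)⁻¹) + (-(1 - α)⁻¹) * (-(1 - α)⁻¹) ^ q *
      hermForm n K q (u - v) (u - v) = 0 := by
    rw [hcq, hww]
    field_simp
    ring
  refine ⟨TG (u - v) (-(1 - α)⁻¹) hc, TG_mem hK _ _ hc, ?_⟩
  show unitaryTransvection n q (u - v) (-(1 - α)⁻¹) *ᵥ u = v
  rw [unitaryTransvection_mulVec, huw, neg_mul, inv_mul_cancel₀ hd0, neg_smul, one_smul]
  abel

/-- transitivity of `GU_n(q)` on unit vectors. -/
theorem exists_mem_GU_mulVec (hK : Fintype.card K = q ^ 2) {u v : Fin n → K}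
    (hu : hermForm n K q u u = 1) (hv : hermForm n K q v v = 1) :
    ∃ g ∈ GU n K q, (g : Matrix (Fin n) (Fin n) K) *ᵥ u = v := by
  by_cases hne : hermForm n K q u v = 1
  · obtain ⟨ζ, hζ, hζ1⟩ := exists_zeta hK
    have hz : hermForm n K q (ζ • u) (ζ • u) = 1 := by
      rw [hermForm_smul_left, hermForm_smul_right, ← mul_assoc, hζ, one_mul, hu]
    have hzv : hermForm n K q (ζ • u) v ≠ 1 := by
      rw [hermForm_smul_left, hne, mul_one]; exact hζ1
    obtain ⟨g, hg, e⟩ := exists_refl hK hz hv hzv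
    refine ⟨g * SG n ζ hζ, Subgroup.mul_mem _ hg (SG_mem ζ hζ), ?_⟩
    rw [Units.val_mul, ← mulVec_mulVec, SG_mulVec, e]
  · exact exists_refl hK hu hv hne

/-! ### matrix characterisation of `GU` -/

omit [Fintype K] in
theorem hermForm_eq_dot (u v : Fin n → K) :
    hermForm n K q u v = u ⬝ᵥ (fun i => v i ^ q) := rfl

theorem frob_mulVec (hK : Fintype.card K = q ^ 2) (M : Matrix (Fin n) (Fin n) K) (v : Fin n → K) :
    (fun i => (M *ᵥ v) i ^ q) = (M.map (· ^ q)) *ᵥ (fun i => v i ^ q) := by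
  ext i
  simp only [mulVec, dotProduct, sum_pow_q hK, mul_pow, Matrix.map_apply]

theorem hermForm_mulVec_mulVec (hK : Fintype.card K = q ^ 2) (M : Matrix (Fin n) (Fin n) K)
    (u v : Fin n → K) :
    hermForm n K q (M *ᵥ u) (M *ᵥ v) = u ⬝ᵥ ((Mᵀ * M.map (· ^ q)) *ᵥ (fun i => v i ^ q)) := by
  rw [hermForm_eq_dot, frob_mulVec hK, ← mulVec_mulVec, dotProduct_comm, dotProduct_mulVec,
    ← mulVec_transpose, dotProduct_comm]

theorem mem_GU_iff (hK : Fintype.card K = q ^ 2) (g : GL (Fin n) K) :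
    g ∈ GU n K q ↔
      (g : Matrix (Fin n) (Fin n) K)ᵀ * (g : Matrix (Fin n) (Fin n) K).map (· ^ q) = 1 := by
  have hq := two_le_q hK
  constructor
  · intro hg
    ext i j
    have h := hg (Pi.single i 1) (Pi.single j 1)
    change hermForm n K q ((g : Matrix (Fin n) (Fin n) K) *ᵥ Pi.single i 1)
      ((g : Matrix (Fin n) (Fin n) K) *ᵥ Pi.single j 1) = _ at h
    rw [hermForm_mulVec_mulVec hK, hermForm_eq_dot] at h
    have e1 : (fun k => (Pi.single j (1 : K) : Fin n → K) k ^ q) = Pi.single j 1 := by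
      ext k
      by_cases hk : k = j
      · subst hk; simp
      · simp [Pi.single_eq_of_ne hk, zero_pow (show q ≠ 0 by omega)]
    rw [e1, mulVec_single_one, single_dotProduct, single_dotProduct, one_mul, one_mul] at h
    rw [Matrix.one_apply]
    rw [Matrix.col_apply] at h
    rw [h, Pi.single_apply]
  · intro h u v
    show hermForm n K q ((g : Matrix (Fin n) (Fin n) K) *ᵥ u)
      ((g : Matrix (Fin n) (Fin n) K) *ᵥ v) = _
    rw [hermForm_mulVec_mulVec hK, h, one_mulVec, hermForm_eq_dot]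

/-- the unitary matrices. -/
abbrev UM (n : ℕ) (K : Type*) [Field K] (q : ℕ) : Type _ :=
  {M : Matrix (Fin n) (Fin n) K // Mᵀ * M.map (· ^ q) = 1}

/-- `GU` as a set of matrices. -/
def guEquiv (hK : Fintype.card K = q ^ 2) : GU n K q ≃ UM n K q where
  toFun g := ⟨((g : GL (Fin n) K) : Matrix (Fin n) (Fin n) K), (mem_GU_iff hK g.1).mp g.2⟩
  invFun M := ⟨⟨M.1, (M.1.map (· ^ q))ᵀ, by
      have h := M.2
      have h2 := mul_eq_one_comm.mp h
      have h3 := congrArg Matrix.transpose h2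
      rw [Matrix.transpose_mul, Matrix.transpose_transpose, Matrix.transpose_one] at h3
      exact h3, by
      have h := M.2
      have h3 := congrArg Matrix.transpose h
      rw [Matrix.transpose_mul, Matrix.transpose_transpose, Matrix.transpose_one] at h3
      exact h3⟩, (mem_GU_iff hK _).mpr M.2⟩
  left_inv g := by
    apply Subtype.ext
    apply Units.ext
    rfl
  right_inv M := rfl

/-! ### the stabiliser of the last basis vector -/

/-- the embedding `A ↦ diag(A, 1)`. -/
def emb (A : Matrix (Fin n) (Fin n) K) : Matrix (Fin (n + 1)) (Fin (n + 1)) K :=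
  (fromBlocks A 0 0 (1 : Matrix (Fin 1) (Fin 1) K)).submatrix finSumFinEquiv.symm
    finSumFinEquiv.symm

omit [Fintype K] in
theorem emb_sig (A : Matrix (Fin n) (Fin n) K) :
    (emb A).submatrix finSumFinEquiv finSumFinEquiv = fromBlocks A 0 0 1 := by
  ext i j; simp [emb]

omit [Fintype K] [Field K] in
theorem submatrix_fsf_injective :
    Function.Injective (fun X : Matrix (Fin (n + 1)) (Fin (n + 1)) K =>
      X.submatrix (finSumFinEquiv : Fin n ⊕ Fin 1 ≃ Fin (n + 1)) finSumFinEquiv) := by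
  intro X Y h
  ext i j
  have := congrFun (congrFun h (finSumFinEquiv.symm i)) (finSumFinEquiv.symm j)
  simpa using this

omit [Fintype K] in
theorem emb_injective : Function.Injective (emb : Matrix (Fin n) (Fin n) K → _) := by
  intro A B h
  have h2 := congrArg (fun X => X.submatrix (finSumFinEquiv : Fin n ⊕ Fin 1 ≃ Fin (n + 1))
    finSumFinEquiv) h
  simp only [emb_sig] at h2
  exact (Matrix.fromBlocks_inj.mp h2).1

omit [Fintype K] in
theorem unitary_iff_sig (M : Matrix (Fin (n + 1)) (Fin (n + 1)) K) :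
    Mᵀ * M.map (· ^ q) = 1 ↔
      (M.submatrix (finSumFinEquiv : Fin n ⊕ Fin 1 ≃ Fin (n + 1)) finSumFinEquiv)ᵀ *
        (M.submatrix (finSumFinEquiv : Fin n ⊕ Fin 1 ≃ Fin (n + 1)) finSumFinEquiv).map (· ^ q)
        = 1 := by
  rw [← Matrix.submatrix_map, Matrix.transpose_submatrix, Matrix.submatrix_mul_equiv]
  constructor
  · intro h; rw [h, Matrix.submatrix_one_equiv]
  · intro h
    apply submatrix_fsf_injective (n := n)
    show _ = (1 : Matrix (Fin (n + 1)) (Fin (n + 1)) K).submatrix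
      (finSumFinEquiv : Fin n ⊕ Fin 1 ≃ Fin (n + 1)) finSumFinEquiv
    rw [Matrix.submatrix_one_equiv]; exact h

/-- the last basis vector. -/
def e0 (n : ℕ) : Fin (n + 1) → K := Pi.single (Fin.last n) 1

omit [Fintype K] in
theorem fsf_inr (n : ℕ) : (finSumFinEquiv : Fin n ⊕ Fin 1 ≃ Fin (n + 1)) (Sum.inr 0) = Fin.last n := by
  rw [finSumFinEquiv_apply_right]
  ext; simp

omit [Fintype K] in
theorem fix_iff (M : Matrix (Fin (n + 1)) (Fin (n + 1)) K) :
    M *ᵥ e0 n = e0 n ↔
      (M.submatrix (finSumFinEquiv : Fin n ⊕ Fin 1 ≃ Fin (n + 1)) finSumFinEquiv).toBlocks₁₂ = 0 ∧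
      (M.submatrix (finSumFinEquiv : Fin n ⊕ Fin 1 ≃ Fin (n + 1)) finSumFinEquiv).toBlocks₂₂ = 1 := by
  unfold e0
  rw [Matrix.mulVec_single_one, ← fsf_inr n]
  have hne : ∀ x : Fin n, Fin.castAdd 1 x ≠ Fin.natAdd n (0 : Fin 1) := by
    intro x h
    have h2 := congrArg Fin.val h
    simp at h2
    omega
  constructor
  · intro h1
    constructor
    · ext x y
      have := congrFun h1 (finSumFinEquiv (Sum.inl x))
      have hy : y = 0 := Subsingleton.elim _ _
      subst hy
      simpa [Matrix.toBlocks₁₂, Pi.single_apply, hne] using this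
    · ext x y
      have := congrFun h1 (finSumFinEquiv (Sum.inr x))
      have hy : y = 0 := Subsingleton.elim _ _
      subst hy
      simpa [Matrix.toBlocks₂₂, Pi.single_apply, Matrix.one_apply] using this
  · rintro ⟨h1, h2⟩
    ext i
    obtain ⟨x, rfl⟩ := (finSumFinEquiv : Fin n ⊕ Fin 1 ≃ Fin (n + 1)).surjective i
    rcases x with x | x
    · have := congrFun (congrFun h1 x) 0
      simpa [Matrix.toBlocks₁₂, Pi.single_apply, hne] using this
    · have := congrFun (congrFun h2 x) 0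
      simpa [Matrix.toBlocks₂₂, Pi.single_apply, Matrix.one_apply] using this

theorem map_zero_q (hK : Fintype.card K = q ^ 2) {a b : Type*} :
    (0 : Matrix a b K).map (· ^ q) = 0 := by
  have hq := two_le_q hK
  ext i j
  simp [zero_pow (show q ≠ 0 by omega)]

theorem map_one_q (hK : Fintype.card K = q ^ 2) {a : Type*} [DecidableEq a] :
    (1 : Matrix a a K).map (· ^ q) = 1 := by
  have hq := two_le_q hK
  ext i j
  by_cases h : i = j
  · subst h; simp
  · simp [Matrix.one_apply_ne h, zero_pow (show q ≠ 0 by omega)]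

theorem emb_unitary (hK : Fintype.card K = q ^ 2) {A : Matrix (Fin n) (Fin n) K}
    (hA : Aᵀ * A.map (· ^ q) = 1) : (emb A)ᵀ * (emb A).map (· ^ q) = 1 := by
  rw [unitary_iff_sig, emb_sig, Matrix.fromBlocks_transpose, Matrix.fromBlocks_map,
    Matrix.fromBlocks_multiply, map_zero_q hK, map_zero_q hK, map_one_q hK]
  simp [hA]

theorem stab_iff (hK : Fintype.card K = q ^ 2) (M : Matrix (Fin (n + 1)) (Fin (n + 1)) K)
    (hM : Mᵀ * M.map (· ^ q) = 1) :
    M *ᵥ e0 n = e0 n ↔ ∃ A : Matrix (Fin n) (Fin n) K, Aᵀ * A.map (· ^ q) = 1 ∧ M = emb A := by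
  rw [fix_iff]
  constructor
  · rintro ⟨h1, h2⟩
    have hdec := Matrix.fromBlocks_toBlocks
      (M.submatrix (finSumFinEquiv : Fin n ⊕ Fin 1 ≃ Fin (n + 1)) finSumFinEquiv)
    rw [h1, h2] at hdec
    set A := (M.submatrix (finSumFinEquiv : Fin n ⊕ Fin 1 ≃ Fin (n + 1)) finSumFinEquiv).toBlocks₁₁
      with hA
    set C := (M.submatrix (finSumFinEquiv : Fin n ⊕ Fin 1 ≃ Fin (n + 1)) finSumFinEquiv).toBlocks₂₁
      with hC
    rw [unitary_iff_sig, ← hdec] at hM
    rw [Matrix.fromBlocks_transpose, Matrix.fromBlocks_map, Matrix.fromBlocks_multiply,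
      map_zero_q hK, map_one_q hK] at hM
    simp only [Matrix.transpose_zero, Matrix.transpose_one, Matrix.mul_zero, Matrix.zero_mul,
      add_zero, zero_add, Matrix.one_mul, Matrix.mul_one] at hM
    rw [← Matrix.fromBlocks_one] at hM
    obtain ⟨h11, h12, -, -⟩ := Matrix.fromBlocks_inj.mp hM
    have hC0 : C = 0 := by
      have := congrArg Matrix.transpose h12
      rwa [Matrix.transpose_transpose, Matrix.transpose_zero] at this
    rw [hC0, Matrix.transpose_zero, Matrix.zero_mul, add_zero] at h11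
    refine ⟨A, h11, ?_⟩
    apply submatrix_fsf_injective (n := n)
    show M.submatrix (finSumFinEquiv : Fin n ⊕ Fin 1 ≃ Fin (n + 1)) finSumFinEquiv =
      (emb A).submatrix finSumFinEquiv finSumFinEquiv
    rw [emb_sig, ← hdec, hC0]
  · rintro ⟨A, -, rfl⟩
    rw [emb_sig]
    exact ⟨Matrix.toBlocks_fromBlocks₁₂ _ _ _ _, Matrix.toBlocks_fromBlocks₂₂ _ _ _ _⟩

/-- the stabiliser of the last basis vector in the unitary matrices. -/
theorem card_fix (hK : Fintype.card K = q ^ 2) (n : ℕ) :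
    Nat.card {M : UM (n + 1) K q // M.1 *ᵥ e0 n = e0 n} = Nat.card (UM n K q) := by
  symm
  refine Nat.card_congr (Equiv.ofBijective
    (fun A : UM n K q => ⟨⟨emb A.1, emb_unitary hK A.2⟩,
      (stab_iff hK _ (emb_unitary hK A.2)).mpr ⟨A.1, A.2, rfl⟩⟩) ⟨?_, ?_⟩)
  · intro A B h
    have h2 := congrArg (fun x => (x.1.1 : Matrix (Fin (n + 1)) (Fin (n + 1)) K)) h
    exact Subtype.ext (emb_injective h2)
  · rintro ⟨⟨M, hM⟩, hfix⟩
    obtain ⟨A, hA, rfl⟩ := (stab_iff hK M hM).mp hfix
    exact ⟨⟨A, hA⟩, rfl⟩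

/-- the action of `GU` on vectors. -/
@[reducible] def guAction (n : ℕ) (K : Type*) [Field K] (q : ℕ) :
    MulAction (GU n K q) (Fin n → K) where
  smul g x := ((g : GL (Fin n) K) : Matrix (Fin n) (Fin n) K) *ᵥ x
  one_smul x := by
    show (((1 : GU n K q) : GL (Fin n) K) : Matrix (Fin n) (Fin n) K) *ᵥ x = x
    rw [show (((1 : GU n K q) : GL (Fin n) K) : Matrix (Fin n) (Fin n) K) = 1 from rfl,
      Matrix.one_mulVec]
  mul_smul g h x := by
    show (((g * h : GU n K q) : GL (Fin n) K) : Matrix (Fin n) (Fin n) K) *ᵥ x =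
      ((g : GL (Fin n) K) : Matrix (Fin n) (Fin n) K) *ᵥ
        (((h : GL (Fin n) K) : Matrix (Fin n) (Fin n) K) *ᵥ x)
    rw [Matrix.mulVec_mulVec]
    rfl

theorem hermForm_e0 (_hK : Fintype.card K = q ^ 2) (n : ℕ) :
    hermForm (n + 1) K q (e0 n) (e0 n) = 1 := by
  rw [hermForm_eq_dot]
  unfold e0
  rw [single_dotProduct, one_mul, Pi.single_eq_same, one_pow]

/-- the recursion for the order of the unitary group. -/
theorem card_GU_succ (hK : Fintype.card K = q ^ 2) (n : ℕ) :
    Nat.card (GU (n + 1) K q) =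
      Nat.card {v : Fin (n + 1) → K // hermForm (n + 1) K q v v = 1} * Nat.card (GU n K q) := by
  classical
  letI act : MulAction (GU (n + 1) K q) (Fin (n + 1) → K) := guAction (n + 1) K q
  letI : SMul (GU (n + 1) K q) (Fin (n + 1) → K) := act.toSMul
  have h1 := Subgroup.card_eq_card_quotient_mul_card_subgroup
    (MulAction.stabilizer (GU (n + 1) K q) (e0 n : Fin (n + 1) → K))
  have h2 : Nat.card (GU (n + 1) K q ⧸
      MulAction.stabilizer (GU (n + 1) K q) (e0 n : Fin (n + 1) → K)) =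
      Nat.card (MulAction.orbit (GU (n + 1) K q) (e0 n : Fin (n + 1) → K)) :=
    Nat.card_congr (MulAction.orbitEquivQuotientStabilizer _ _).symm
  have h3 : MulAction.orbit (GU (n + 1) K q) (e0 n : Fin (n + 1) → K) =
      {v | hermForm (n + 1) K q v v = 1} := by
    ext v
    constructor
    · rintro ⟨g, rfl⟩
      show hermForm (n + 1) K q (_ *ᵥ e0 n) (_ *ᵥ e0 n) = 1
      have := g.2 (e0 n) (e0 n)
      rw [← hermForm_e0 hK n]
      exact this
    · intro hv
      obtain ⟨g, hg, e⟩ := exists_mem_GU_mulVec hK (hermForm_e0 hK n) hv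
      exact ⟨⟨g, hg⟩, e⟩
  have h4 : Nat.card (MulAction.stabilizer (GU (n + 1) K q) (e0 n : Fin (n + 1) → K)) =
      Nat.card (GU n K q) := by
    rw [Nat.card_congr (guEquiv (n := n) hK), ← card_fix hK n]
    refine Nat.card_congr ?_
    refine (Equiv.subtypeEquiv (guEquiv (n := n + 1) hK) fun g => ?_)
    rw [MulAction.mem_stabilizer_iff]
    exact Iff.rfl
  rw [h1, h2, h3, h4]
  rfl

/-! ### the norm map -/

theorem card_units_K (hK : Fintype.card K = q ^ 2) : Nat.card Kˣ = q ^ 2 - 1 := by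
  classical
  rw [Nat.card_eq_fintype_card, Fintype.card_units, hK]

theorem qsq_sub_one (hK : Fintype.card K = q ^ 2) : q ^ 2 - 1 = (q - 1) * (q + 1) := by
  have hq := two_le_q hK
  obtain ⟨k, rfl⟩ : ∃ k, q = k + 1 := ⟨q - 1, by omega⟩
  simp only [Nat.add_sub_cancel]
  have : (k + 1) ^ 2 = k * (k + 1 + 1) + 1 := by ring
  omega

theorem ker_eq_range (hK : Fintype.card K = q ^ 2) :
    (powMonoidHom (q + 1) : Kˣ →* Kˣ).range = (powMonoidHom (q - 1) : Kˣ →* Kˣ).ker := by
  have hq := two_le_q hK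
  apply Subgroup.eq_of_le_of_card_ge
  · rintro _ ⟨x, rfl⟩
    rw [MonoidHom.mem_ker, powMonoidHom_apply, powMonoidHom_apply, ← pow_mul]
    have : (q + 1) * (q - 1) = q ^ 2 - 1 := by rw [qsq_sub_one hK]; ring
    rw [this, ← card_units_K hK]
    exact pow_card_eq_one'
  · rw [IsCyclic.card_powMonoidHom_ker, IsCyclic.card_powMonoidHom_range, card_units_K hK,
      qsq_sub_one hK]
    rw [Nat.gcd_eq_right (Dvd.intro_left _ rfl), Nat.gcd_eq_right (Dvd.intro _ rfl),
      Nat.mul_div_cancel _ (by omega)]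

/-- surjectivity of the norm onto the fixed field. -/
theorem exists_norm (hK : Fintype.card K = q ^ 2) {c : K} (hc0 : c ≠ 0) (hc : c ^ q = c) :
    ∃ l : K, l * l ^ q = c := by
  have hq := two_le_q hK
  have hmem : Units.mk0 c hc0 ∈ (powMonoidHom (q - 1) : Kˣ →* Kˣ).ker := by
    rw [MonoidHom.mem_ker, powMonoidHom_apply]
    apply Units.ext
    rw [Units.val_pow_eq_pow_val, Units.val_mk0, Units.val_one]
    have h1 : c ^ (q - 1) * c = c := by rw [← pow_succ, Nat.sub_add_cancel (by omega), hc]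
    exact mul_right_cancel₀ hc0 (by rw [h1, one_mul])
  rw [← ker_eq_range hK] at hmem
  obtain ⟨l, hl⟩ := hmem
  refine ⟨(l : K), ?_⟩
  have := congrArg Units.val hl
  rw [powMonoidHom_apply, Units.val_pow_eq_pow_val, Units.val_mk0] at this
  rw [← this, pow_succ']

theorem card_fixed_units (hK : Fintype.card K = q ^ 2) :
    Nat.card {c : K // c ≠ 0 ∧ c ^ q = c} = q - 1 := by
  have hq := two_le_q hK
  have h1 : Nat.card (powMonoidHom (q - 1) : Kˣ →* Kˣ).ker = q - 1 := by
    rw [IsCyclic.card_powMonoidHom_ker, card_units_K hK, qsq_sub_one hK,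
      Nat.gcd_eq_right (Dvd.intro _ rfl)]
  rw [← h1]
  refine Nat.card_congr ⟨fun c => ⟨Units.mk0 c.1 c.2.1, ?_⟩, fun u => ⟨(u.1 : K), u.1.ne_zero, ?_⟩,
    fun c => rfl, fun u => ?_⟩
  · rw [MonoidHom.mem_ker, powMonoidHom_apply]
    apply Units.ext
    rw [Units.val_pow_eq_pow_val, Units.val_mk0, Units.val_one]
    have h1 : c.1 ^ (q - 1) * c.1 = c.1 := by
      rw [← pow_succ, Nat.sub_add_cancel (by omega), c.2.2]
    exact mul_right_cancel₀ c.2.1 (by rw [h1, one_mul])
  · have := u.2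
    rw [MonoidHom.mem_ker, powMonoidHom_apply] at this
    have h2 := congrArg Units.val this
    rw [Units.val_pow_eq_pow_val, Units.val_one] at h2
    have : (u.1 : K) ^ q = (u.1 : K) ^ (q - 1) * (u.1 : K) := by
      rw [← pow_succ, Nat.sub_add_cancel (by omega)]
    rw [this, h2, one_mul]
  · apply Subtype.ext
    apply Units.ext
    rfl

/-! ### counting vectors of given norm -/

/-- number of vectors of norm `c`. -/
noncomputable def A (n : ℕ) (K : Type*) [Field K] (q : ℕ) (c : K) : ℕ :=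
  Nat.card {v : Fin n → K // hermForm n K q v v = c}

theorem A_eq_zero (hK : Fintype.card K = q ^ 2) (n : ℕ) {c : K} (hc : c ^ q ≠ c) :
    A n K q c = 0 := by
  unfold A
  have : IsEmpty {v : Fin n → K // hermForm n K q v v = c} := by
    constructor
    rintro ⟨v, hv⟩
    apply hc
    rw [← hv, ← hermForm_swap hK]
  exact Nat.card_of_isEmpty

theorem A_eq_one (hK : Fintype.card K = q ^ 2) (n : ℕ) {c : K} (hc0 : c ≠ 0) (hc : c ^ q = c) :
    A n K q c = A n K q 1 := by
  obtain ⟨l, hl⟩ := exists_norm hK hc0 hc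
  have hl0 : l ≠ 0 := by
    rintro rfl
    rw [zero_mul] at hl
    exact hc0 hl.symm
  unfold A
  symm
  refine Nat.card_congr ⟨fun v => ⟨l • v.1, ?_⟩, fun v => ⟨l⁻¹ • v.1, ?_⟩, fun v => ?_, fun v => ?_⟩
  · rw [hermForm_smul_left, hermForm_smul_right, ← mul_assoc, hl, v.2, mul_one]
  · rw [hermForm_smul_left, hermForm_smul_right, ← mul_assoc, v.2, inv_pow, ← mul_inv, hl,
      inv_mul_cancel₀ hc0]
  · apply Subtype.ext
    show l⁻¹ • l • v.1 = v.1
    rw [smul_smul, inv_mul_cancel₀ hl0, one_smul]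
  · apply Subtype.ext
    show l • l⁻¹ • v.1 = v.1
    rw [smul_smul, mul_inv_cancel₀ hl0, one_smul]

theorem A_total (hK : Fintype.card K = q ^ 2) (n : ℕ) :
    A n K q 0 + (q - 1) * A n K q 1 = q ^ (2 * n) := by
  classical
  have h1 : Nat.card (Fin n → K) = ∑ c : K, A n K q c := by
    rw [Nat.card_congr (Equiv.sigmaFiberEquiv (fun v : Fin n → K => hermForm n K q v v)).symm,
      Nat.card_sigma]
    rfl
  have h2 : Nat.card (Fin n → K) = q ^ (2 * n) := by
    rw [Nat.card_eq_fintype_card, Fintype.card_fun, hK, Fintype.card_fin, ← pow_mul]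
  have h3 : ∀ c : K, A n K q c =
      (if c = 0 then A n K q 0 else 0) + (if c ≠ 0 ∧ c ^ q = c then A n K q 1 else 0) := by
    intro c
    by_cases hc0 : c = 0
    · subst hc0
      rw [if_pos rfl, if_neg (by simp), add_zero]
    · rw [if_neg hc0, zero_add]
      by_cases hc : c ^ q = c
      · rw [if_pos ⟨hc0, hc⟩, A_eq_one hK n hc0 hc]
      · rw [if_neg (fun h => hc h.2), A_eq_zero hK n hc]
  rw [← h2, h1, Finset.sum_congr rfl (fun c _ => h3 c), Finset.sum_add_distrib,
    Finset.sum_ite_eq' Finset.univ (0 : K), if_pos (Finset.mem_univ _), Finset.sum_ite,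
    Finset.sum_const, Finset.sum_const_zero, add_zero, smul_eq_mul]
  congr 2
  rw [← card_fixed_units hK, Nat.card_eq_fintype_card, Fintype.card_subtype]

omit [Fintype K] in
theorem hermForm_cons (x : K) (v : Fin n → K) :
    hermForm (n + 1) K q (Fin.cons x v : Fin (n + 1) → K) (Fin.cons x v) =
      x * x ^ q + hermForm n K q v v := by
  unfold hermForm
  rw [Fin.sum_univ_succ]
  simp

theorem A_succ_zero (hK : Fintype.card K = q ^ 2) (n : ℕ) :
    A (n + 1) K q 0 = A n K q 0 + (q ^ 2 - 1) * A n K q 1 := by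
  classical
  have hq := two_le_q hK
  have e1 : {w : Fin (n + 1) → K // hermForm (n + 1) K q w w = 0} ≃
      {p : K × (Fin n → K) // hermForm n K q p.2 p.2 = -(p.1 * p.1 ^ q)} := by
    refine Equiv.subtypeEquiv (Fin.consEquiv (fun _ => K)).symm fun w => ?_
    obtain ⟨p, rfl⟩ := (Fin.consEquiv (fun _ : Fin (n + 1) => K)).surjective w
    rw [Equiv.symm_apply_apply]
    show hermForm (n + 1) K q (Fin.cons p.1 p.2 : Fin (n + 1) → K) (Fin.cons p.1 p.2) = 0 ↔ _
    rw [hermForm_cons]
    constructor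
    · intro h; linear_combination h
    · intro h; linear_combination h
  have h1 : A (n + 1) K q 0 = ∑ x : K, A n K q (-(x * x ^ q)) := by
    unfold A
    rw [Nat.card_congr e1, Nat.card_congr (Equiv.subtypeProdEquivSigmaSubtype
      (fun (x : K) (v : Fin n → K) => hermForm n K q v v = -(x * x ^ q))), Nat.card_sigma]
  have h3 : ∀ x : K, A n K q (-(x * x ^ q)) =
      (if x = 0 then A n K q 0 else 0) + (if x ≠ 0 then A n K q 1 else 0) := by
    intro x
    by_cases hx : x = 0
    · subst hx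
      rw [if_pos rfl, if_neg (by simp), add_zero, zero_mul, neg_zero]
    · rw [if_neg hx, zero_add, if_pos hx]
      apply A_eq_one hK n
      · exact neg_ne_zero.mpr (mul_ne_zero hx (pow_ne_zero _ hx))
      · rw [neg_pow_q hK, mul_pow, pow_q_pow_q hK, mul_comm]
  rw [h1, Finset.sum_congr rfl (fun c _ => h3 c), Finset.sum_add_distrib,
    Finset.sum_ite_eq' Finset.univ (0 : K), if_pos (Finset.mem_univ _), Finset.sum_ite,
    Finset.sum_const, Finset.sum_const_zero, add_zero, smul_eq_mul]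
  congr 2
  rw [Finset.filter_ne' Finset.univ (0 : K), Finset.card_erase_of_mem (Finset.mem_univ _),
    Finset.card_univ, hK]

omit [Fintype K] in
theorem A_zero_zero : A 0 K q 0 = 1 := by
  unfold A
  have : Unique {v : Fin 0 → K // hermForm 0 K q v v = 0} :=
    { default := ⟨0, by unfold hermForm; simp⟩
      uniq := fun v => Subtype.ext (Subsingleton.elim _ _) }
  exact Nat.card_unique

/-- closed forms, over `ℤ`. -/
theorem A_closed (hK : Fintype.card K = q ^ 2) (n : ℕ) :
    (q : ℤ) * A n K q 0 = (q : ℤ) ^ (2 * n) + (-(q : ℤ)) ^ n * ((q : ℤ) - 1) ∧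
    (q : ℤ) * A n K q 1 = (q : ℤ) ^ (2 * n) - (-(q : ℤ)) ^ n := by
  have hq := two_le_q hK
  have hq1 : ((q : ℤ) - 1) ≠ 0 := by
    have : (2 : ℤ) ≤ q := by exact_mod_cast hq
    omega
  have htot : ∀ m, (A m K q 0 : ℤ) + ((q : ℤ) - 1) * A m K q 1 = (q : ℤ) ^ (2 * m) := by
    intro m
    have := A_total hK m
    have h2 : ((q - 1 : ℕ) : ℤ) = (q : ℤ) - 1 := by
      rw [Nat.cast_sub (by omega)]; simp
    rw [← h2]
    exact_mod_cast this
  have hz : ∀ m, (q : ℤ) * A m K q 0 = (q : ℤ) ^ (2 * m) + (-(q : ℤ)) ^ m * ((q : ℤ) - 1) →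
      (q : ℤ) * A m K q 1 = (q : ℤ) ^ (2 * m) - (-(q : ℤ)) ^ m := by
    intro m h
    have h2 := htot m
    apply mul_left_cancel₀ hq1
    have : ((q : ℤ) - 1) * ((q : ℤ) * A m K q 1) = (q : ℤ) * ((q : ℤ) ^ (2 * m) - A m K q 0) := by
      rw [← h2]; ring
    rw [this, mul_sub, h]
    ring
  have hzero : ∀ m, (q : ℤ) * A m K q 0 = (q : ℤ) ^ (2 * m) + (-(q : ℤ)) ^ m * ((q : ℤ) - 1) := by
    intro m
    induction m with
    | zero => rw [A_zero_zero]; simp
    | succ m ih =>
      have h1 := A_succ_zero hK m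
      have h2 : ((q ^ 2 - 1 : ℕ) : ℤ) = (q : ℤ) ^ 2 - 1 := by
        rw [Nat.cast_sub (Nat.one_le_pow _ _ (by omega))]; simp
      have h3 : (A (m + 1) K q 0 : ℤ) = A m K q 0 + ((q : ℤ) ^ 2 - 1) * A m K q 1 := by
        rw [← h2]; exact_mod_cast h1
      have h4 := hz m ih
      rw [h3, mul_add, ih]
      have : (q : ℤ) * (((q : ℤ) ^ 2 - 1) * A m K q 1) = ((q : ℤ) ^ 2 - 1) * ((q : ℤ) * A m K q 1) := by
        ring
      rw [this, h4]
      ring
  exact ⟨hzero n, hz n (hzero n)⟩

/-- the number of unit vectors. -/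
theorem card_unit_vectors (hK : Fintype.card K = q ^ 2) (n : ℕ) :
    A (n + 1) K q 1 = q ^ n * (if Even n then q ^ (n + 1) + 1 else q ^ (n + 1) - 1) := by
  have hq := two_le_q hK
  have h := (A_closed hK (n + 1)).2
  have hq0 : (q : ℤ) ≠ 0 := by
    have : (2 : ℤ) ≤ q := by exact_mod_cast hq
    omega
  have key : (A (n + 1) K q 1 : ℤ) =
      ((q ^ n * (if Even n then q ^ (n + 1) + 1 else q ^ (n + 1) - 1) : ℕ) : ℤ) := by
    apply mul_left_cancel₀ hq0
    rw [h]
    by_cases hn : Even n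
    · rw [if_pos hn]
      have : (-(q : ℤ)) ^ (n + 1) = -((q : ℤ) ^ (n + 1)) := by
        rw [pow_succ, Even.neg_pow hn]; ring
      rw [this]
      push_cast
      ring
    · rw [if_neg hn]
      have hodd : Odd n := Nat.not_even_iff_odd.mp hn
      have : (-(q : ℤ)) ^ (n + 1) = (q : ℤ) ^ (n + 1) := by
        rw [pow_succ, Odd.neg_pow hodd]; ring
      rw [this, Nat.cast_mul, Nat.cast_sub (Nat.one_le_pow _ _ (by omega))]
      push_cast
      ring
  exact_mod_cast key

theorem tri_succ (n : ℕ) : (n + 1) * (n + 1 - 1) / 2 = n + n * (n - 1) / 2 := by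
  rw [← Nat.choose_two_right, ← Nat.choose_two_right, Nat.choose_succ_succ, Nat.choose_one_right]

/-- **The order of the general unitary group.** -/
theorem card_GU (hK : Fintype.card K = q ^ 2) (n : ℕ) :
    Nat.card (GU n K q) = q ^ (n * (n - 1) / 2) *
      ∏ i ∈ Finset.range n, (if Even i then q ^ (i + 1) + 1 else q ^ (i + 1) - 1) := by
  induction n with
  | zero =>
    have : Subsingleton (GU 0 K q) :=
      ⟨fun a b => Subtype.ext (Units.ext (Subsingleton.elim _ _))⟩
    rw [Nat.card_unique]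
    simp
  | succ n ih =>
    rw [card_GU_succ hK, ih, Finset.prod_range_succ, tri_succ, pow_add]
    have := card_unit_vectors hK n
    unfold A at this
    rw [this]
    ring

/-! ### the special unitary group -/

theorem det_map_q (hK : Fintype.card K = q ^ 2) (M : Matrix (Fin n) (Fin n) K) :
    (M.map (· ^ q)).det = M.det ^ q := by
  obtain ⟨p, k, hp, hc, rfl⟩ := exists_char_pow hK
  haveI : Fact p.Prime := ⟨hp⟩
  have h1 : (fun x : K => x ^ p ^ k) = ⇑(iterateFrobenius K p k) := by
    ext x; rw [iterateFrobenius_def]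
  rw [h1]
  have := (RingHom.map_det (iterateFrobenius K p k) M).symm
  rw [iterateFrobenius_def] at this
  rw [← this]
  rfl

/-- the determinant on `GU`. -/
def detGU (n : ℕ) (K : Type*) [Field K] (q : ℕ) : GU n K q →* Kˣ :=
  (Matrix.GeneralLinearGroup.det).comp (GU n K q).subtype

theorem detGU_range_le (hK : Fintype.card K = q ^ 2) :
    (detGU n K q).range ≤ (powMonoidHom (q + 1) : Kˣ →* Kˣ).ker := by
  rintro _ ⟨g, rfl⟩
  rw [MonoidHom.mem_ker, powMonoidHom_apply]
  apply Units.ext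
  rw [Units.val_pow_eq_pow_val, Units.val_one]
  show ((g : GL (Fin n) K) : Matrix (Fin n) (Fin n) K).det ^ (q + 1) = 1
  have h := (mem_GU_iff hK g.1).mp g.2
  have h2 := congrArg Matrix.det h
  rw [Matrix.det_mul, Matrix.det_transpose, det_map_q hK, Matrix.det_one] at h2
  rw [pow_succ']
  exact h2

theorem le_detGU_range (hK : Fintype.card K = q ^ 2) (hn : 1 ≤ n) :
    (powMonoidHom (q + 1) : Kˣ →* Kˣ).ker ≤ (detGU n K q).range := by
  have hq := two_le_q hK
  intro l hl
  rw [MonoidHom.mem_ker, powMonoidHom_apply] at hl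
  have hl' : (l : K) * (l : K) ^ q = 1 := by
    have := congrArg Units.val hl
    rw [Units.val_pow_eq_pow_val, Units.val_one, pow_succ'] at this
    exact this
  obtain ⟨m, rfl⟩ : ∃ m, n = m + 1 := ⟨n - 1, by omega⟩
  set d : Fin (m + 1) → K := fun i => if i = 0 then (l : K) else 1 with hd
  have hdd : ∀ i, d i * d i ^ q = 1 := by
    intro i
    rw [hd]
    by_cases hi : i = 0
    · simp only [if_pos hi]; exact hl'
    · simp only [if_neg hi]; rw [one_pow, one_mul]
  have hU : (Matrix.diagonal d)ᵀ * (Matrix.diagonal d).map (· ^ q) = 1 := by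
    rw [Matrix.diagonal_transpose, Matrix.diagonal_map (by simp [zero_pow (show q ≠ 0 by omega)]),
      Matrix.diagonal_mul_diagonal]
    rw [← Matrix.diagonal_one]
    congr 1
    ext i
    exact hdd i
  refine ⟨(guEquiv hK).symm ⟨Matrix.diagonal d, hU⟩, ?_⟩
  apply Units.ext
  show (Matrix.diagonal d).det = (l : K)
  rw [Matrix.det_diagonal, Fin.prod_univ_succ]
  simp [hd, Fin.succ_ne_zero]

theorem card_detGU_range (hK : Fintype.card K = q ^ 2) (hn : 1 ≤ n) :
    Nat.card (detGU n K q).range = q + 1 := by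
  rw [le_antisymm (detGU_range_le hK) (le_detGU_range hK hn), IsCyclic.card_powMonoidHom_ker,
    card_units_K hK, qsq_sub_one hK, Nat.gcd_eq_right (Dvd.intro_left _ rfl)]

/-- `SU` is the kernel of the determinant on `GU`. -/
def suEquiv (n : ℕ) (K : Type*) [Field K] (q : ℕ) : SU n K q ≃ (detGU n K q).ker where
  toFun s := ⟨⟨Matrix.SpecialLinearGroup.toGL s.1, fun u v => s.2 u v⟩, by
    rw [MonoidHom.mem_ker]
    apply Units.ext
    show ((s.1 : Matrix.SpecialLinearGroup (Fin n) K) : Matrix (Fin n) (Fin n) K).det = 1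
    exact s.1.2⟩
  invFun g := ⟨⟨((g.1 : GL (Fin n) K) : Matrix (Fin n) (Fin n) K), by
    have := g.2
    rw [MonoidHom.mem_ker] at this
    exact congrArg Units.val this⟩, fun u v => g.1.2 u v⟩
  left_inv s := by
    apply Subtype.ext
    apply Subtype.ext
    rfl
  right_inv g := by
    apply Subtype.ext
    apply Subtype.ext
    apply Units.ext
    rfl

/-- **The order of the special unitary group.** -/
theorem card_SU (hK : Fintype.card K = q ^ 2) (hn : 1 ≤ n) :
    (q + 1) * Nat.card (SU n K q) = Nat.card (GU n K q) := by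
  rw [Nat.card_congr (suEquiv n K q), ← card_detGU_range hK hn, ← Subgroup.index_ker,
    mul_comm, Subgroup.card_mul_index]

end Cfsg.Agent.Helper8.GUOrder
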