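import Mathlib
import Cfsg.Agent.Helper8.SpSSymp
set_option autoImplicit false

/-! Alternating `F`-bilinear forms on `K`-spaces that are semilinear for an involution `σ` of
`K/F`: normalised vectors. -/

namespace Cfsg.Agent.Helper8.SpS

open Module

universe u

variable {F K : Type*} [Field F] [Field K] [Algebra F K]

/-- representation of functionals on `K` -/
theorem exists_repr_functional [FiniteDimensional F K] (l₀ : K →ₗ[F] F) (hl₀ : l₀ ≠ 0)
    (ν : K →ₗ[F] F) : ∃ c : K, ∀ a, ν a = l₀ (c * a) := by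
  let Φ : K →ₗ[F] (K →ₗ[F] F) :=
    { toFun := fun c => l₀ ∘ₗ (LinearMap.mulLeft F c)
      map_add' := by
        intro c c'
        ext a
        simp [add_mul]
      map_smul' := by
        intro r c
        ext a
        simp }
  have hΦ : ∀ c a, Φ c a = l₀ (c * a) := fun c a => rfl
  have hinj : Function.Injective Φ := by
    rw [injective_iff_map_eq_zero]
    intro c hc
    by_contra hc0
    apply hl₀
    ext b
    have := congrArg (fun f : K →ₗ[F] F => f (c⁻¹ * b)) hc
    simp only [hΦ, LinearMap.zero_apply] at this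
    rwa [mul_inv_cancel_left₀ hc0] at this
  have hfr : finrank F K = finrank F (K →ₗ[F] F) := (Subspace.dual_finrank_eq (K := F) (V := K)).symm
  have hsurj := (LinearMap.injective_iff_surjective_of_finrank_eq_finrank hfr).mp hinj
  obtain ⟨c, hc⟩ := hsurj ν
  exact ⟨c, fun a => by rw [← hc, hΦ]⟩

/-- a nonzero functional detects nonzero elements -/
theorem eq_zero_of_functional (l₀ : K →ₗ[F] F) (hl₀ : l₀ ≠ 0) (c : K)
    (h : ∀ a, l₀ (c * a) = 0) : c = 0 := by
  by_contra hc0
  apply hl₀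
  ext b
  have := h (c⁻¹ * b)
  rwa [mul_inv_cancel_left₀ hc0] at this

variable (σ : K →ₐ[F] K)

/-- semilinearity of a form on a `K`-space -/
def Semi {V : Type*} [AddCommGroup V] [Module K V] [Module F V]
    (B : V →ₗ[F] V →ₗ[F] F) : Prop := ∀ (a : K) (u v : V), B (a • u) v = B u (σ a • v)

section
variable {V : Type*} [AddCommGroup V] [Module K V] [Module F V]
variable {σ}

theorem Semi.right {B : V →ₗ[F] V →ₗ[F] F} (h : Semi σ B) (hσ2 : ∀ a, σ (σ a) = a)
    (a : K) (u v : V) : B u (a • v) = B (σ a • u) v := by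
  rw [h, hσ2]

variable [IsScalarTower F K V]

variable (K) in
/-- the functional `a ↦ B (a • v) v` -/
def muFun (B : V →ₗ[F] V →ₗ[F] F) (v : V) : K →ₗ[F] F where
  toFun a := B (a • v) v
  map_add' a b := by rw [add_smul, map_add, LinearMap.add_apply]
  map_smul' r a := by
    rw [smul_assoc, map_smul, LinearMap.smul_apply, RingHom.id_apply]

theorem muFun_apply (B : V →ₗ[F] V →ₗ[F] F) (v : V) (a : K) : muFun K B v a = B (a • v) v := rfl

theorem muFun_skew {B : V →ₗ[F] V →ₗ[F] F} (hAlt : Alt B) (h : Semi σ B)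
    (hσ2 : ∀ a, σ (σ a) = a) (v : V) (a : K) :
    muFun K B v (σ a) = -muFun K B v a := by
  rw [muFun_apply, muFun_apply, h, hσ2, hAlt.skew]

/-- existence of a vector with nondegenerate line -/
theorem exists_aniso {B : V →ₗ[F] V →ₗ[F] F} (hAlt : Alt B) (hND : Nondeg B) (h : Semi σ B)
    (hσ : ∃ a, σ a ≠ a) (hV : ∃ v : V, v ≠ 0) : ∃ (v : V) (a : K), B v (a • v) ≠ 0 := by
  by_contra hcon
  simp only [not_exists, not_not] at hcon
  obtain ⟨a, ha⟩ := hσ
  obtain ⟨v, hv⟩ := hV
  apply hv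
  have h1 : ∀ u w : V, B u (a • w) = B u (σ a • w) := by
    intro u w
    have h2 := hcon (u + w) a
    rw [smul_add, map_add, map_add, LinearMap.add_apply, LinearMap.add_apply, hcon u a,
      hcon w a, zero_add, add_zero] at h2
    have h3 : B u (a • w) = -B w (a • u) := eq_neg_of_add_eq_zero_right h2
    rw [h3, ← hAlt.skew, h]
  have h4 : (a - σ a) • v = 0 := by
    apply hND
    intro u
    rw [hAlt.skew, sub_smul, map_sub, h1 u v, sub_self, neg_zero]
  rcases smul_eq_zero.mp h4 with h5 | h5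
  · exact absurd (sub_eq_zero.mp h5).symm ha
  · exact h5

/-- normalisation of a vector with nondegenerate line -/
theorem exists_normalized [FiniteDimensional F K] {B : V →ₗ[F] V →ₗ[F] F} (hAlt : Alt B)
    (h : Semi σ B)
    (hσ2 : ∀ a, σ (σ a) = a) (hnorm : ∀ c : K, σ c = c → c ≠ 0 → ∃ e : K, e * σ e = c)
    (l₀ : K →ₗ[F] F) (hl₀ : l₀ ≠ 0) (hskew : ∀ a, l₀ (σ a) = -l₀ a)
    (v : V) (a₀ : K) (hv : B v (a₀ • v) ≠ 0) :
    ∃ v' : V, ∀ a b : K, B (a • v') (b • v') = l₀ (a * σ b) := by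
  have hmu : muFun K B v ≠ 0 := by
    intro h0
    apply hv
    rw [h.right hσ2, ← muFun_apply, h0, LinearMap.zero_apply]
  obtain ⟨c, hc⟩ := exists_repr_functional l₀ hl₀ (muFun K B v)
  have hc0 : c ≠ 0 := by
    rintro rfl
    apply hmu
    ext a
    rw [hc, zero_mul, map_zero, LinearMap.zero_apply]
  have hσc : σ c = c := by
    have h1 : ∀ a, l₀ ((c - σ c) * a) = 0 := by
      intro a
      have h2 := muFun_skew hAlt h hσ2 v (σ a)
      rw [hσ2, hc, hc, ← hskew, map_mul σ, hσ2] at h2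
      rw [sub_mul, map_sub, h2, sub_self]
    exact (sub_eq_zero.mp (eq_zero_of_functional l₀ hl₀ _ h1)).symm
  obtain ⟨e, he⟩ := hnorm c⁻¹ (by rw [map_inv₀, hσc]) (inv_ne_zero hc0)
  refine ⟨e • v, fun a b => ?_⟩
  rw [smul_smul, smul_smul, h.right hσ2, smul_smul, ← muFun_apply, hc]
  congr 1
  rw [map_mul σ]
  have : c * (σ b * σ e * (a * e)) = (c * (e * σ e)) * (a * σ b) := by ring
  rw [this, he, mul_inv_cancel₀ hc0, one_mul]

end

end Cfsg.Agent.Helper8.SpS
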