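import Mathlib
import Cfsg.Agent.Helper8.SpSHerm
set_option autoImplicit false

/-! Orthonormal `K`-bases for semilinear alternating forms, and the resulting isometries. -/

namespace Cfsg.Agent.Helper8.SpS

open Module

universe u

variable {F K : Type*} [Field F] [Field K] [Algebra F K]
variable (σ : K →ₐ[F] K)

/-- orthonormality of a family with respect to a fixed functional -/
def IsOrthoFam {V : Type*} [AddCommGroup V] [Module K V] [Module F V]
    (B : V →ₗ[F] V →ₗ[F] F) (l₀ : K →ₗ[F] F) {n : ℕ} (v : Fin n → V) : Prop :=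
  ∀ (i j : Fin n) (a b : K), B (a • v i) (b • v j) = if i = j then l₀ (a * σ b) else 0

variable {σ}

theorem exists_ortho_family [FiniteDimensional F K] (hσ2 : ∀ a, σ (σ a) = a)
    (hσ : ∃ a, σ a ≠ a)
    (hnorm : ∀ c : K, σ c = c → c ≠ 0 → ∃ e : K, e * σ e = c)
    (l₀ : K →ₗ[F] F) (hl₀ : l₀ ≠ 0) (hskew : ∀ a, l₀ (σ a) = -l₀ a) (n : ℕ) :
    ∀ (V : Type u) [AddCommGroup V] [Module K V] [Module F V] [IsScalarTower F K V]
      [FiniteDimensional K V] (B : V →ₗ[F] V →ₗ[F] F), Alt B → Nondeg B → Semi σ B →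
      finrank K V = n →
      ∃ (k : ℕ) (v : Fin k → V), IsOrthoFam σ B l₀ v ∧
        ∀ x, x ∈ Submodule.span K (Set.range v) := by
  induction n using Nat.strong_induction_on with
  | _ n ih =>
    intro V _ _ _ _ _ B hAlt hND hS hn
    by_cases hV : ∀ x : V, x = 0
    · refine ⟨0, Fin.elim0, fun i => i.elim0, fun x => ?_⟩
      rw [hV x]
      exact Submodule.zero_mem _
    · rw [not_forall] at hV
      obtain ⟨v₀, a₀, hva⟩ := exists_aniso hAlt hND hS hσ hV
      obtain ⟨v, hv⟩ := exists_normalized hAlt hS hσ2 hnorm l₀ hl₀ hskew v₀ a₀ hva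
      let H : Submodule K V :=
        { carrier := {x | ∀ a : K, B (a • v) x = 0}
          add_mem' := by
            intro x y hx hy a
            rw [map_add, hx a, hy a, add_zero]
          zero_mem' := by
            intro a
            rw [map_zero]
          smul_mem' := by
            intro c x hx a
            rw [hS.right hσ2, smul_smul]
            exact hx _ }
      have hmemH : ∀ x, x ∈ H ↔ ∀ a : K, B (a • v) x = 0 := fun x => Iff.rfl
      have hdec : ∀ x : V, ∃ c : K, x - c • v ∈ H := by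
        intro x
        let ν : K →ₗ[F] F :=
          { toFun := fun a => B (a • v) x
            map_add' := by
              intro a b
              rw [add_smul, map_add, LinearMap.add_apply]
            map_smul' := by
              intro r a
              rw [smul_assoc, map_smul, LinearMap.smul_apply, RingHom.id_apply] }
        obtain ⟨c', hc'⟩ := exists_repr_functional l₀ hl₀ ν
        refine ⟨σ c', ?_⟩
        rw [hmemH]
        intro a
        rw [map_sub, hv, hσ2, sub_eq_zero, mul_comm]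
        exact hc' a
      set B' : ↥H →ₗ[F] ↥H →ₗ[F] F :=
        B.compl₁₂ (H.subtype.restrictScalars F) (H.subtype.restrictScalars F) with hB'
      have hB'app : ∀ a b : ↥H, B' a b = B (a : V) (b : V) := fun a b => rfl
      have hAlt' : Alt B' := fun a => hAlt (a : V)
      have hS' : Semi σ B' := by
        intro a x y
        rw [hB'app, hB'app]
        exact hS a _ _
      have hND' : Nondeg B' := by
        intro a ha
        apply Subtype.ext
        apply hND
        intro x
        obtain ⟨c, hc⟩ := hdec x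
        have h2 := ha ⟨_, hc⟩
        rw [hB'app] at h2
        have e1 : B (a : V) (c • v) = 0 := by
          rw [hAlt.skew, (hmemH _).mp a.2 c, neg_zero]
        have h3 : x = (x - c • v) + c • v := by abel
        rw [h3, map_add, e1, add_zero]
        exact h2
      have hvH : v ∉ H := by
        intro hvH
        apply hl₀
        ext a
        have := (hmemH v).mp hvH a
        have h4 := hv a 1
        rw [one_smul, this, map_one, mul_one] at h4
        rw [← h4, LinearMap.zero_apply]
      have hlt : finrank K ↥H < n := by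
        rw [← hn]
        apply Submodule.finrank_lt
        intro htop
        apply hvH
        rw [htop]
        exact Submodule.mem_top
      obtain ⟨k, v', hv', hsp'⟩ := ih _ hlt ↥H B' hAlt' hND' hS' rfl
      refine ⟨k + 1, Fin.cons v (fun i => (v' i : V)), ?_, ?_⟩
      · intro i j a b
        refine Fin.cases ?_ (fun i' => ?_) i <;> refine Fin.cases ?_ (fun j' => ?_) j
        · simp only [Fin.cons_zero, if_true]
          exact hv a b
        · simp only [Fin.cons_zero, Fin.cons_succ]
          rw [if_neg (Fin.succ_ne_zero j').symm]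
          exact (hmemH _).mp (H.smul_mem b (v' j').2) a
        · simp only [Fin.cons_zero, Fin.cons_succ]
          rw [if_neg (Fin.succ_ne_zero i'), hAlt.skew,
            (hmemH _).mp (H.smul_mem a (v' i').2) b, neg_zero]
        · simp only [Fin.cons_succ, Fin.succ_inj]
          exact hv' i' j' a b
      · intro x
        set S := Submodule.span K (Set.range (Fin.cons v (fun i => (v' i : V)) : Fin (k + 1) → V))
          with hS
        have hvS : v ∈ S := Submodule.subset_span ⟨0, by simp⟩
        have hHS : ∀ a : ↥H, (a : V) ∈ S := by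
          intro a
          have h4 := hsp' a
          have h5 : Submodule.map H.subtype (Submodule.span K (Set.range v')) ≤ S := by
            rw [Submodule.map_span, Submodule.span_le]
            rintro _ ⟨b, ⟨i, rfl⟩, rfl⟩
            exact Submodule.subset_span ⟨i.succ, by simp⟩
          exact h5 ⟨a, h4, rfl⟩
        obtain ⟨c, hc⟩ := hdec x
        have h6 : x = (x - c • v) + c • v := by abel
        rw [h6]
        exact Submodule.add_mem _ (hHS ⟨_, hc⟩) (Submodule.smul_mem _ _ hvS)

section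
variable {V : Type u} [AddCommGroup V] [Module K V] [Module F V] [IsScalarTower F K V]

theorem linearIndependent_ortho {B : V →ₗ[F] V →ₗ[F] F} (hσ2 : ∀ a, σ (σ a) = a)
    (l₀ : K →ₗ[F] F) (hl₀ : l₀ ≠ 0) {k : ℕ} (v : Fin k → V) (hv : IsOrthoFam σ B l₀ v) :
    LinearIndependent K v := by
  rw [Fintype.linearIndependent_iff]
  intro g hg j
  apply eq_zero_of_functional l₀ hl₀
  intro a
  have h1 : B (∑ i, g i • v i) (σ a • v j) = 0 := by
    rw [hg, map_zero, LinearMap.zero_apply]
  rw [map_sum, LinearMap.sum_apply] at h1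
  simp only [hv _ _ _ _, hσ2] at h1
  rw [Finset.sum_ite_eq' Finset.univ j] at h1
  simpa using h1

/-- an orthonormal basis -/
theorem exists_ortho_basis [FiniteDimensional F K] [FiniteDimensional K V]
    (hσ2 : ∀ a, σ (σ a) = a) (hσ : ∃ a, σ a ≠ a)
    (hnorm : ∀ c : K, σ c = c → c ≠ 0 → ∃ e : K, e * σ e = c)
    (l₀ : K →ₗ[F] F) (hl₀ : l₀ ≠ 0) (hskew : ∀ a, l₀ (σ a) = -l₀ a)
    (B : V →ₗ[F] V →ₗ[F] F) (hAlt : Alt B) (hND : Nondeg B) (hS : Semi σ B) :
    ∃ (k : ℕ) (b : Basis (Fin k) K V), IsOrthoFam σ B l₀ b := by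
  obtain ⟨k, v, hv, hsp⟩ := exists_ortho_family hσ2 hσ hnorm l₀ hl₀ hskew (finrank K V) V B
    hAlt hND hS rfl
  have hli := linearIndependent_ortho hσ2 l₀ hl₀ v hv
  have hsp' : ⊤ ≤ Submodule.span K (Set.range v) := fun x _ => hsp x
  refine ⟨k, Basis.mk hli hsp', ?_⟩
  intro i j a b
  rw [Basis.mk_apply, Basis.mk_apply]
  exact hv i j a b

/-- the Gram expansion in an orthonormal basis -/
theorem gram_sum {B : V →ₗ[F] V →ₗ[F] F} (l₀ : K →ₗ[F] F) {k : ℕ} (b : Basis (Fin k) K V)
    (hb : IsOrthoFam σ B l₀ b) (g h : Fin k → K) :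
    B (∑ i, g i • b i) (∑ i, h i • b i) = ∑ i, l₀ (g i * σ (h i)) := by
  simp only [map_sum, LinearMap.sum_apply, hb _ _ _ _]
  rw [Finset.sum_comm]
  apply Finset.sum_congr rfl
  intro i _
  rw [Finset.sum_ite_eq Finset.univ i]
  simp

/-- two nondegenerate semilinear alternating forms are isometric by a `K`-linear map -/
theorem exists_herm_isometry [FiniteDimensional F K] [FiniteDimensional K V]
    (hσ2 : ∀ a, σ (σ a) = a) (hσ : ∃ a, σ a ≠ a)
    (hnorm : ∀ c : K, σ c = c → c ≠ 0 → ∃ e : K, e * σ e = c)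
    (B₁ B₂ : V →ₗ[F] V →ₗ[F] F) (hAlt₁ : Alt B₁) (hND₁ : Nondeg B₁) (hS₁ : Semi σ B₁)
    (hAlt₂ : Alt B₂) (hND₂ : Nondeg B₂) (hS₂ : Semi σ B₂) :
    ∃ z : V →ₗ[K] V, ∀ u v, B₂ u v = B₁ (z u) (z v) := by
  by_cases hV : ∀ x : V, x = 0
  · refine ⟨0, fun u v => ?_⟩
    rw [hV u, map_zero, LinearMap.zero_apply, LinearMap.zero_apply, map_zero,
      LinearMap.zero_apply]
  rw [not_forall] at hV
  obtain ⟨v₀, a₀, hva⟩ := exists_aniso hAlt₁ hND₁ hS₁ hσ hV
  set l₀ : K →ₗ[F] F := muFun K B₁ v₀ with hl₀def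
  have hl₀ : l₀ ≠ 0 := by
    intro h0
    apply hva
    rw [hS₁.right hσ2, ← muFun_apply, ← hl₀def, h0, LinearMap.zero_apply]
  have hskew : ∀ a, l₀ (σ a) = -l₀ a := muFun_skew hAlt₁ hS₁ hσ2 v₀
  obtain ⟨k₁, b₁, hb₁⟩ := exists_ortho_basis hσ2 hσ hnorm l₀ hl₀ hskew B₁ hAlt₁ hND₁ hS₁
  obtain ⟨k₂, b₂, hb₂⟩ := exists_ortho_basis hσ2 hσ hnorm l₀ hl₀ hskew B₂ hAlt₂ hND₂ hS₂
  have hk : k₁ = k₂ := by
    have h1 := Module.finrank_eq_card_basis b₁
    have h2 := Module.finrank_eq_card_basis b₂
    rw [Fintype.card_fin] at h1 h2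
    omega
  subst hk
  refine ⟨b₂.constr K (fun i => b₁ i), ?_⟩
  intro u v
  have hz : ∀ w : V, b₂.constr K (fun i => b₁ i) w = ∑ i, b₂.repr w i • b₁ i := by
    intro w
    rw [Basis.constr_apply_fintype]
    rfl
  rw [hz u, hz v, gram_sum l₀ b₁ hb₁]
  conv_lhs => rw [← b₂.sum_repr u, ← b₂.sum_repr v]
  rw [gram_sum l₀ b₂ hb₂]

end

end Cfsg.Agent.Helper8.SpS
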