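import Mathlib
import Cfsg.Agent.Helper8.SpGSelf
set_option autoImplicit false

/-! Self-reciprocal irreducible polynomials of degree at least two over a finite field: the
inverse of a root is a Frobenius conjugate of middle exponent. -/

namespace Cfsg.Agent.Helper8.SpS

open Polynomial
open Cfsg.Agent.Helper8.PGraph

variable {F : Type*} [Field F] [Fintype F]

theorem selfrec_root (P : F[X]) (hP : P.Monic) [hirr : Fact (Irreducible P)]
    (hrev : P ∣ P.reverse) (N : ℕ) (hN : 0 < N) (hdvd : P ∣ X ^ N - 1)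
    (hdeg : 2 ≤ P.natDegree) :
    ∃ d : ℕ, P.natDegree = 2 * d ∧ AdjoinRoot.root P ≠ 0 ∧
      (AdjoinRoot.root P)⁻¹ = AdjoinRoot.root P ^ (Fintype.card F ^ d) ∧
      (AdjoinRoot.root P)⁻¹ ≠ AdjoinRoot.root P := by
  have : Module.Finite F (AdjoinRoot P) := hP.finite_adjoinRoot
  have : Finite (AdjoinRoot P) := Module.finite_of_finite F
  set α := AdjoinRoot.root P with hα
  have h1 : α ^ N = 1 := (root_pow_eq_one_iff P _).mpr hdvd
  have hα0 : α ≠ 0 := by
    intro h0
    rw [h0, zero_pow hN.ne'] at h1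
    exact zero_ne_one h1
  have hα2 : α ^ 2 ≠ 1 := by
    intro h2
    have h3 : P ∣ X ^ 2 - 1 := (root_pow_eq_one_iff P 2).mp h2
    have h4 : (X ^ 2 - 1 : F[X]) = (X - 1) * (X + 1) := by ring
    rw [h4] at h3
    rcases hirr.out.prime.dvd_or_dvd h3 with h5 | h5
    · have := natDegree_le_of_dvd h5 (X_sub_C_ne_zero (1 : F))
      rw [show (X - 1 : F[X]) = X - C 1 by simp, natDegree_X_sub_C] at this
      omega
    · have := natDegree_le_of_dvd h5 (X_add_C_ne_zero (1 : F))
      rw [show (X + 1 : F[X]) = X + C 1 by simp, natDegree_X_add_C] at this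
      omega
  have hfr : Module.finrank F (AdjoinRoot P) = P.natDegree := by
    rw [(AdjoinRoot.powerBasis hirr.out.ne_zero).finrank, AdjoinRoot.powerBasis_dim]
  have hroot0 : eval₂ (algebraMap F (AdjoinRoot P)) α P.reverse = 0 := by
    obtain ⟨c, hc⟩ := hrev
    rw [hc, eval₂_mul]
    have : eval₂ (algebraMap F (AdjoinRoot P)) α P = 0 := by
      have := AdjoinRoot.eval₂_root P
      rwa [AdjoinRoot.algebraMap_eq]
    rw [this, zero_mul]
  have hroot : eval₂ ((Algebra.ofId F (AdjoinRoot P)) : F →+* AdjoinRoot P) α⁻¹ P = 0 := by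
    let _ : Invertible (α⁻¹) := ⟨α, mul_inv_cancel₀ hα0, inv_mul_cancel₀ hα0⟩
    have := (Polynomial.eval₂_reverse_eq_zero_iff (algebraMap F (AdjoinRoot P)) α⁻¹ P).mp hroot0
    exact this
  let σ : AdjoinRoot P →ₐ[F] AdjoinRoot P :=
    AdjoinRoot.liftAlgHom P (Algebra.ofId F (AdjoinRoot P)) α⁻¹ hroot
  have hσα : σ α = α⁻¹ := AdjoinRoot.liftAlgHom_root _ _ _ _
  obtain ⟨⟨j, hjlt'⟩, hj⟩ := (FiniteField.bijective_frobeniusAlgHom_pow F (AdjoinRoot P)).2 σ
  have hj' : (FiniteField.frobeniusAlgHom F (AdjoinRoot P)) ^ j = σ := hj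
  have hfrob : ∀ (m : ℕ) (x : AdjoinRoot P),
      ((FiniteField.frobeniusAlgHom F (AdjoinRoot P)) ^ m) x = x ^ (Fintype.card F ^ m) := by
    intro m x
    rw [AlgHom.coe_pow, FiniteField.coe_frobeniusAlgHom, pow_iterate]
  have h6 : α⁻¹ = α ^ (Fintype.card F ^ j) := by
    rw [← hσα, ← hj', hfrob]
  have h7 : σ * σ = 1 := by
    apply AdjoinRoot.algHom_ext
    rw [AlgHom.mul_apply, AlgHom.one_apply, hσα, map_inv₀, hσα, inv_inv]
  have h8 : P.natDegree ∣ 2 * j := by
    rw [← hfr, ← FiniteField.orderOf_frobeniusAlgHom F (AdjoinRoot P)]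
    apply orderOf_dvd_of_pow_eq_one
    rw [two_mul, pow_add, hj', h7]
  have hne : α⁻¹ ≠ α := by
    intro h
    apply hα2
    rw [pow_two]
    nth_rw 1 [← h]
    exact inv_mul_cancel₀ hα0
  have h9 : j ≠ 0 := by
    intro h0
    rw [h0, pow_zero, pow_one] at h6
    exact hne h6
  have hjlt : j < P.natDegree := by
    rwa [hfr] at hjlt'
  have h10 : 2 * j = P.natDegree := by
    obtain ⟨c, hc⟩ := h8
    have hc1 : c = 1 := by
      rcases Nat.lt_or_ge c 1 with h | h
      · have : c = 0 := by omega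
        subst this
        omega
      · rcases Nat.lt_or_ge 1 c with h' | h'
        · have : 2 * P.natDegree ≤ P.natDegree * c := by
            calc 2 * P.natDegree = P.natDegree * 2 := by ring
              _ ≤ P.natDegree * c := Nat.mul_le_mul_left _ h'
          omega
        · omega
    rw [hc, hc1, mul_one]
  exact ⟨j, h10.symm, hα0, h6, hne⟩

end Cfsg.Agent.Helper8.SpS
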