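import Mathlib
import Cfsg.Agent.Helper8.SpSHermBasis
import Cfsg.Agent.Helper8.SpSSelfRec
import Cfsg.Agent.Helper8.GUOrder
set_option autoImplicit false

/-! The homogeneous self-reciprocal case: an operator annihilated by a self-reciprocal
irreducible polynomial of degree at least two. -/

namespace Cfsg.Agent.Helper8.SpS

open Polynomial Module
open Cfsg.Agent.Helper8.PGraph

universe u

section
variable {F : Type*} [Field F] {V : Type*} [AddCommGroup V] [Module F V]

/-- the action of `F[X]/(P)` on `V` through an operator killed by `P` -/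
noncomputable def toEnd (A : Module.End F V) (P : F[X]) (hPA : aeval A P = 0) :
    AdjoinRoot P →ₐ[F] Module.End F V :=
  Ideal.Quotient.liftₐ (Ideal.span {P}) (aeval A) (fun a ha => by
    obtain ⟨c, rfl⟩ := Ideal.mem_span_singleton.mp ha
    rw [map_mul, hPA, zero_mul])

theorem toEnd_mk (A : Module.End F V) (P : F[X]) (hPA : aeval A P = 0) (p : F[X]) :
    toEnd A P hPA (AdjoinRoot.mk P p) = aeval A p := rfl

theorem toEnd_root (A : Module.End F V) (P : F[X]) (hPA : aeval A P = 0) :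
    toEnd A P hPA (AdjoinRoot.root P) = A := by
  rw [← AdjoinRoot.mk_X, toEnd_mk, aeval_X]

end

variable {F : Type*} [Field F] [Fintype F]
variable {V : Type u} [AddCommGroup V] [Module F V] [FiniteDimensional F V]

theorem leafII (A A' : Module.End F V) (hAA' : A * A' = 1) (hA'A : A' * A = 1)
    (P : F[X]) (hP : P.Monic) (hirr : Irreducible P) (hrev : P ∣ P.reverse)
    (N : ℕ) (hN : 0 < N) (hdvd : P ∣ X ^ N - 1) (hdeg : 2 ≤ P.natDegree)
    (hPA : aeval A P = 0)
    (B₁ B₂ : V →ₗ[F] V →ₗ[F] F) (hAlt₁ : Alt B₁) (hND₁ : Nondeg B₁) (hInv₁ : Inv B₁ A)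
    (hAlt₂ : Alt B₂) (hND₂ : Nondeg B₂) (hInv₂ : Inv B₂ A) :
    ∃ z : Module.End F V, z * A = A * z ∧ ∀ u v, B₂ u v = B₁ (z u) (z v) := by
  have : Fact (Irreducible P) := ⟨hirr⟩
  have : Module.Finite F (AdjoinRoot P) := hP.finite_adjoinRoot
  have : Finite (AdjoinRoot P) := Module.finite_of_finite F
  let _ : Fintype (AdjoinRoot P) := Fintype.ofFinite _
  obtain ⟨d, hd, hα0, hαinv, hαne⟩ := selfrec_root P hP hrev N hN hdvd hdeg
  set α := AdjoinRoot.root P with hα
  set φ := toEnd A P hPA with hφ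
  have hφα : φ α = A := toEnd_root A P hPA
  have hφα' : φ α⁻¹ = A' := by
    have h1 : A * φ α⁻¹ = 1 := by
      rw [← hφα, ← map_mul, mul_inv_cancel₀ hα0, map_one]
    calc φ α⁻¹ = (A' * A) * φ α⁻¹ := by rw [hA'A, one_mul]
      _ = A' := by rw [mul_assoc, h1, mul_one]
  letI : Module (AdjoinRoot P) V := Module.compHom V (φ : AdjoinRoot P →+* Module.End F V)
  have hsmul : ∀ (a : AdjoinRoot P) (v : V), a • v = φ a v := fun a v => rfl
  have : IsScalarTower F (AdjoinRoot P) V := ⟨fun r a v => by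
    rw [hsmul, hsmul, map_smul, LinearMap.smul_apply]⟩
  have : Module.Finite (AdjoinRoot P) V := Module.Finite.of_restrictScalars_finite F _ V
  have hcard : Fintype.card (AdjoinRoot P) = (Fintype.card F ^ d) ^ 2 := by
    rw [← Nat.card_eq_fintype_card, card_adjoinRoot P hP, hd, ← pow_mul, mul_comm]
  set σ : AdjoinRoot P →ₐ[F] AdjoinRoot P := (FiniteField.frobeniusAlgHom F (AdjoinRoot P)) ^ d
    with hσdef
  have hσ : ∀ x, σ x = x ^ (Fintype.card F ^ d) := by
    intro x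
    rw [hσdef, AlgHom.coe_pow, FiniteField.coe_frobeniusAlgHom, pow_iterate]
  have hσ2 : ∀ a, σ (σ a) = a := by
    intro a
    rw [hσ, hσ, ← pow_mul, ← pow_two, ← hcard, FiniteField.pow_card]
  have hσα : σ α = α⁻¹ := by rw [hσ, ← hαinv]
  have hσne : ∃ a, σ a ≠ a := ⟨α, by rw [hσα]; exact hαne⟩
  have hnorm : ∀ c : AdjoinRoot P, σ c = c → c ≠ 0 → ∃ e, e * σ e = c := by
    intro c hc hc0
    obtain ⟨l, hl⟩ := GUOrder.exists_norm hcard hc0 (by rw [← hσ]; exact hc)
    exact ⟨l, by rw [hσ]; exact hl⟩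
  have hsemi : ∀ (B : V →ₗ[F] V →ₗ[F] F), Inv B A → Semi σ B := by
    intro B hInv a u v
    obtain ⟨p, rfl⟩ := AdjoinRoot.mk_surjective a
    have h1 : σ (AdjoinRoot.mk P p) = aeval α⁻¹ p := by
      rw [← AdjoinRoot.aeval_eq, ← aeval_algHom_apply, hσα]
    rw [hsmul, hsmul, h1, ← aeval_algHom_apply, hφα', toEnd_mk]
    exact hInv.adj_inv hAA' p u v
  obtain ⟨z, hz⟩ := exists_herm_isometry hσ2 hσne hnorm B₁ B₂ hAlt₁ hND₁ (hsemi B₁ hInv₁)
    hAlt₂ hND₂ (hsemi B₂ hInv₂)
  refine ⟨z.restrictScalars F, ?_, hz⟩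
  ext v
  rw [Module.End.mul_apply, Module.End.mul_apply, LinearMap.restrictScalars_apply,
    LinearMap.restrictScalars_apply]
  have h2 : ∀ w : V, A w = α • w := by
    intro w
    rw [hsmul, hφα]
  rw [h2, h2, map_smul]

end Cfsg.Agent.Helper8.SpS
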