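import Mathlib
import Cfsg.Agent.Helper8.SpSGlue
import Cfsg.Agent.Helper8.SpSLeafII
import Cfsg.Agent.Helper8.SpGWt
set_option autoImplicit false

/-! Two nondegenerate alternating forms invariant under the same semisimple operator are
isometric by an operator commuting with it. -/

namespace Cfsg.Agent.Helper8.SpS

open Polynomial Module
open Cfsg.Agent.Helper8.SpG

universe u v

variable {F : Type v} [Field F] [Fintype F]

/-- the kernel of an irreducible factor of the minimal polynomial is nonzero -/
theorem ker_ne_bot_of_dvd_minpoly {V : Type u} [AddCommGroup V] [Module F V]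
    [FiniteDimensional F V] (A : Module.End F V) (P : F[X]) (hirr : Irreducible P)
    (hdvd : P ∣ minpoly F A) : LinearMap.ker (aeval A P) ≠ ⊥ := by
  intro hbot
  obtain ⟨r, hr⟩ := hdvd
  have hint : IsIntegral F A := Algebra.IsIntegral.isIntegral A
  have hμ0 : minpoly F A ≠ 0 := minpoly.ne_zero hint
  have hr0 : r ≠ 0 := by
    rintro rfl
    rw [mul_zero] at hr
    exact hμ0 hr
  have h1 : aeval A r = 0 := by
    ext x
    have h2 : aeval A P (aeval A r x) = 0 := by
      rw [← Module.End.mul_apply, ← map_mul, ← hr, minpoly.aeval, LinearMap.zero_apply]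
    have h3 : aeval A r x ∈ LinearMap.ker (aeval A P) := LinearMap.mem_ker.mpr h2
    rw [hbot, Submodule.mem_bot] at h3
    rw [h3, LinearMap.zero_apply]
  have h4 : minpoly F A ∣ r := minpoly.dvd F A h1
  have h5 := natDegree_le_of_dvd h4 hr0
  rw [hr, natDegree_mul hirr.ne_zero hr0] at h5
  have := hirr.natDegree_pos
  omega

theorem core (N : ℕ) (hN : (N : F) ≠ 0) (n : ℕ) : CoreStmt.{u} F N n := by
  induction n using Nat.strong_induction_on with
  | _ n ih =>
    intro V _ _ _ A A' hAA' hA'A hAN B₁ B₂ hAlt₁ hND₁ hInv₁ hAlt₂ hND₂ hInv₂ hn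
    by_cases hV : ∀ x : V, x = 0
    · refine ⟨0, ?_, fun u v => ?_⟩
      · rw [zero_mul, mul_zero]
      · rw [hV u, map_zero, LinearMap.zero_apply, map_zero, map_zero, LinearMap.zero_apply]
    rw [not_forall] at hV
    obtain ⟨x₀, hx₀⟩ := hV
    have : Nontrivial V := ⟨⟨x₀, 0, hx₀⟩⟩
    have hN0 : 0 < N := by
      rcases Nat.eq_zero_or_pos N with h | h
      · rw [h, Nat.cast_zero] at hN
        exact absurd rfl hN
      · exact h
    have hXN : aeval A (X ^ N - 1 : F[X]) = 0 := by
      rw [map_sub, map_pow, aeval_X, map_one, hAN, sub_self]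
    have hint : IsIntegral F A := Algebra.IsIntegral.isIntegral A
    obtain ⟨P, hPm, hirr, hPμ⟩ := Polynomial.exists_monic_irreducible_factor (minpoly F A)
      (minpoly.not_isUnit F A)
    have hPN : P ∣ X ^ N - 1 := dvd_trans hPμ (minpoly.dvd F A hXN)
    have hker : LinearMap.ker (aeval A P) ≠ ⊥ := ker_ne_bot_of_dvd_minpoly A P hirr hPμ
    have hP0 : P.coeff 0 ≠ 0 := coeff_zero_ne_of_dvd P N hN0 hPN
    have hsep : (X ^ N - 1 : F[X]).Separable := by
      have := Polynomial.separable_X_pow_sub_C (1 : F) hN one_ne_zero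
      rwa [map_one] at this
    -- common finishing step
    have finish : ∀ (G h : F[X]), G * h = X ^ N - 1 → G.reverse ∣ G →
        LinearMap.ker (aeval A G) ≠ ⊥ →
        (aeval A G = 0 → ∃ z : Module.End F V, z * A = A * z ∧ ∀ u v, B₂ u v = B₁ (z u) (z v)) →
        ∃ z : Module.End F V, z * A = A * z ∧ ∀ u v, B₂ u v = B₁ (z u) (z v) := by
      intro G h hGh hrev hU hleaf
      have hcop : IsCoprime G h := by
        rw [← hGh] at hsep
        exact hsep.isCoprime
      have hGhA : aeval A (G * h) = 0 := by rw [hGh, hXN]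
      by_cases hW : LinearMap.ker (aeval A h) = ⊥
      · apply hleaf
        ext x
        have h2 : aeval A h (aeval A G x) = 0 := by
          rw [← Module.End.mul_apply, ← map_mul, mul_comm, hGhA, LinearMap.zero_apply]
        have h3 : aeval A G x ∈ LinearMap.ker (aeval A h) := LinearMap.mem_ker.mpr h2
        rw [hW, Submodule.mem_bot] at h3
        rw [h3, LinearMap.zero_apply]
      · exact glue N n ih A A' hAA' hA'A hAN G h hcop hGhA hrev hU hW B₁ B₂ hAlt₁ hND₁ hInv₁
          hAlt₂ hND₂ hInv₂ hn
    by_cases hd : P ∣ P.reverse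
    · -- self-reciprocal
      obtain ⟨h, hh⟩ := hPN
      have hrev : P.reverse ∣ P := by
        obtain ⟨c, hc⟩ := hd
        have hrev0 : P.reverse ≠ 0 := by
          intro h0
          have := coeff_zero_reverse_ne P hirr.ne_zero
          rw [h0, coeff_zero] at this
          exact this rfl
        have hc0 : c ≠ 0 := by
          rintro rfl
          rw [mul_zero] at hc
          exact hrev0 hc
        have h1 := natDegree_reverse_of_coeff_zero P hP0
        rw [hc, natDegree_mul hirr.ne_zero hc0] at h1
        have h2 : c.natDegree = 0 := by omega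
        obtain ⟨c₀, rfl⟩ := natDegree_eq_zero.mp h2
        have hc₀ : c₀ ≠ 0 := by
          rintro rfl
          rw [map_zero] at hc0
          exact hc0 rfl
        refine ⟨C c₀⁻¹, ?_⟩
        rw [hc, mul_assoc, ← C_mul, mul_inv_cancel₀ hc₀, map_one, mul_one]
      apply finish P h hh.symm hrev hker
      intro hPA
      have hdeg := hirr.natDegree_pos
      by_cases hdeg1 : P.natDegree = 1
      · -- scalar
        have h1 := hPm.eq_X_add_C hdeg1
        have h2 : ∀ v, A v = (-P.coeff 0) • v := by
          intro v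
          have h3 := congrArg (fun f : Module.End F V => f v) hPA
          rw [h1] at h3
          simp only [map_add, aeval_X, aeval_C, LinearMap.add_apply, Module.algebraMap_end_apply,
            LinearMap.zero_apply] at h3
          rw [neg_smul]
          exact eq_neg_of_add_eq_zero_left h3
        exact leafIII A _ h2 B₁ B₂ hAlt₁ hND₁ hAlt₂ hND₂
      · exact leafII A A' hAA' hA'A P hPm hirr hd N hN0 ⟨h, hh⟩ (by omega) hPA B₁ B₂
          hAlt₁ hND₁ hInv₁ hAlt₂ hND₂ hInv₂
    · -- hyperbolic
      have hrr : P.reverse.reverse = P := reverse_reverse_of_coeff_zero P hP0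
      have hcopP : IsCoprime P P.reverse := hirr.coprime_iff_not_dvd.mpr hd
      have hrevN : P.reverse ∣ X ^ N - 1 :=
        dvd_trans (reverse_dvd_reverse hPN) (reverse_X_pow_sub_one_dvd N)
      obtain ⟨h, hh⟩ := hcopP.mul_dvd hPN hrevN
      have hrev : (P * P.reverse).reverse ∣ P * P.reverse := by
        rw [Polynomial.reverse_mul_of_domain, hrr, mul_comm]
      have hU : LinearMap.ker (aeval A (P * P.reverse)) ≠ ⊥ := by
        intro hbot
        apply hker
        rw [eq_bot_iff, ← hbot]
        intro x hx
        rw [LinearMap.mem_ker] at hx ⊢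
        rw [mul_comm, map_mul, Module.End.mul_apply, hx, map_zero]
      apply finish (P * P.reverse) h hh.symm hrev hU
      intro hPA
      exact leafI A A' hAA' P hrr hcopP hPA B₁ B₂ hAlt₁ hND₁ hInv₁ hAlt₂ hInv₂

end Cfsg.Agent.Helper8.SpS
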