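import Mathlib
import Cfsg.Agent.Helper8.SpSCore
import Cfsg.Agent.Helper8.SemiSConj
set_option autoImplicit false

/-! Semisimple elements of the finite symplectic group that are conjugate in the general linear
group are conjugate in the symplectic group. -/

namespace Cfsg.Agent.Helper8.SpS

open Matrix Polynomial

variable {F : Type*} [Field F]

section
variable {ι : Type} [Fintype ι] [DecidableEq ι]

/-- the bilinear form of a matrix -/
noncomputable def bform (M : Matrix ι ι F) : (ι → F) →ₗ[F] (ι → F) →ₗ[F] F :=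
  Matrix.toLinearMap₂' F M

theorem bform_comp (M P Q : Matrix ι ι F) :
    (bform M).compl₁₂ (Matrix.toLin' P) (Matrix.toLin' Q) = bform (Pᵀ * M * Q) :=
  Matrix.toLinearMap₂'_comp M P Q

theorem bform_comp_apply (M P Q : Matrix ι ι F) (u v : ι → F) :
    bform M (Matrix.toLin' P u) (Matrix.toLin' Q v) = bform (Pᵀ * M * Q) u v := by
  rw [← bform_comp]
  rfl

theorem bform_injective {M M' : Matrix ι ι F} (h : bform M = bform M') : M = M' :=
  (Matrix.toLinearMap₂' F).injective h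

theorem inv_bform (M A : Matrix ι ι F) (h : Aᵀ * M * A = M) :
    Inv (bform M) (Matrix.toLin' A) := by
  intro u v
  rw [bform_comp_apply, h]

theorem nondeg_bform (M : Matrix ι ι F) (h : M.det ≠ 0) : Nondeg (bform M) :=
  LinearMap.separatingLeft_toLinearMap₂'_of_det_ne_zero' h

end

variable {m : ℕ}

theorem alt_bform_J : Alt (bform (Matrix.J (Fin m) F)) := by
  intro u
  rw [bform, Matrix.toLinearMap₂'_apply', Matrix.J, Matrix.fromBlocks_mulVec]
  simp only [dotProduct, Fintype.sum_sum_type, Sum.elim_inl, Sum.elim_inr,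
    Matrix.zero_mulVec, Matrix.one_mulVec, Matrix.neg_mulVec, Pi.neg_apply,
    Function.comp_apply, zero_add, add_zero]
  rw [← Finset.sum_add_distrib]
  apply Finset.sum_eq_zero
  intro i _
  ring

theorem transpose_J_mul {A : Matrix (Fin m ⊕ Fin m) (Fin m ⊕ Fin m) F}
    (hA : A ∈ Matrix.symplecticGroup (Fin m) F) : Aᵀ * Matrix.J (Fin m) F * A = Matrix.J (Fin m) F := by
  have h1 := SymplecticGroup.mem_iff.mp (SymplecticGroup.transpose_mem_iff.mpr hA)
  rwa [Matrix.transpose_transpose] at h1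

variable [Fintype F]

theorem sp_conj_of_gl_conj (N : ℕ) (hN : (N : F) ≠ 0) (A B : Matrix.symplecticGroup (Fin m) F)
    (hAN : A ^ N = 1) (c : Matrix (Fin m ⊕ Fin m) (Fin m ⊕ Fin m) F) (hc : c.det ≠ 0)
    (hcAB : c * (A : Matrix (Fin m ⊕ Fin m) (Fin m ⊕ Fin m) F) = B * c) : IsConj A B := by
  set J := Matrix.J (Fin m) F with hJ
  have hJdet : J.det ≠ 0 := (Matrix.isUnit_det_J (Fin m) F).ne_zero
  have hAJ := transpose_J_mul A.2
  have hBJ := transpose_J_mul B.2
  rw [← hJ] at hAJ hBJ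
  set a : Matrix (Fin m ⊕ Fin m) (Fin m ⊕ Fin m) F := A.1 with ha
  set b : Matrix (Fin m ⊕ Fin m) (Fin m ⊕ Fin m) F := B.1 with hb
  set a' : Matrix (Fin m ⊕ Fin m) (Fin m ⊕ Fin m) F := (A⁻¹).1 with ha'
  have haa' : a * a' = 1 := by
    have : (A * A⁻¹).1 = a * a' := rfl
    rw [← this, mul_inv_cancel]
    rfl
  have ha'a : a' * a = 1 := by
    have : (A⁻¹ * A).1 = a' * a := rfl
    rw [← this, inv_mul_cancel]
    rfl
  have haN : a ^ N = 1 := by
    have : (A ^ N).1 = a ^ N :=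
      SubmonoidClass.coe_pow A N
    rw [← this, hAN]
    rfl
  set M₂ := cᵀ * J * c with hM₂
  have hM₂det : M₂.det ≠ 0 := by
    rw [hM₂, Matrix.det_mul, Matrix.det_mul, Matrix.det_transpose]
    exact mul_ne_zero (mul_ne_zero hc hJdet) hc
  have hAlt₂ : Alt (bform M₂) := by
    intro u
    rw [hM₂, ← bform_comp_apply]
    exact alt_bform_J _
  have hInv₂ : Inv (bform M₂) (Matrix.toLin' a) := by
    apply inv_bform
    rw [hM₂]
    calc aᵀ * (cᵀ * J * c) * a = (c * a)ᵀ * J * (c * a) := by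
          rw [Matrix.transpose_mul]; simp only [Matrix.mul_assoc]
      _ = (b * c)ᵀ * J * (b * c) := by rw [hcAB]
      _ = cᵀ * (bᵀ * J * b) * c := by
          rw [Matrix.transpose_mul]; simp only [Matrix.mul_assoc]
      _ = cᵀ * J * c := by rw [hBJ]
  have hΦ : ∀ X Y : Matrix (Fin m ⊕ Fin m) (Fin m ⊕ Fin m) F,
      (Matrix.toLin' X : Module.End F (Fin m ⊕ Fin m → F)) * Matrix.toLin' Y
        = Matrix.toLin' (X * Y) := fun X Y => (Matrix.toLin'_mul X Y).symm
  obtain ⟨z, hzA, hz⟩ := core N hN (Module.finrank F (Fin m ⊕ Fin m → F))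
    (Fin m ⊕ Fin m → F) (Matrix.toLin' a) (Matrix.toLin' a')
    (by rw [hΦ, haa', Matrix.toLin'_one]; rfl)
    (by rw [hΦ, ha'a, Matrix.toLin'_one]; rfl)
    (by
      have : (Matrix.toLin' a) ^ N = Matrix.toLin' (a ^ N) :=
        (map_pow (Matrix.toLinAlgEquiv' (R := F) (n := Fin m ⊕ Fin m)) a N).symm
      rw [this, haN, Matrix.toLin'_one]; rfl)
    (bform J) (bform M₂) alt_bform_J (nondeg_bform J hJdet) (inv_bform J a hAJ)
    hAlt₂ (nondeg_bform M₂ hM₂det) hInv₂ rfl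
  set Z : Matrix (Fin m ⊕ Fin m) (Fin m ⊕ Fin m) F := LinearMap.toMatrix' z with hZ
  have hzZ : z = Matrix.toLin' Z := (Matrix.toLin'_toMatrix' z).symm
  have hZa : Z * a = a * Z := by
    have h1 := congrArg LinearMap.toMatrix' hzA
    rw [Module.End.mul_eq_comp, Module.End.mul_eq_comp, LinearMap.toMatrix'_comp,
      LinearMap.toMatrix'_comp, LinearMap.toMatrix'_toLin'] at h1
    exact h1
  have hZM : M₂ = Zᵀ * J * Z := by
    apply bform_injective
    apply LinearMap.ext₂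
    intro u v
    rw [hz u v, hzZ, bform_comp_apply]
  have hZdet : Z.det ≠ 0 := by
    intro h0
    apply hM₂det
    rw [hZM, Matrix.det_mul, h0, mul_zero]
  have hZZ : Z * Z⁻¹ = 1 := Matrix.mul_nonsing_inv Z (Ne.isUnit hZdet)
  have hZZ' : Z⁻¹ * Z = 1 := Matrix.nonsing_inv_mul Z (Ne.isUnit hZdet)
  set S := c * Z⁻¹ with hS
  have hSJ : Sᵀ * J * S = J := by
    calc Sᵀ * J * S = (Z⁻¹)ᵀ * (cᵀ * J * c) * Z⁻¹ := by
          rw [hS, Matrix.transpose_mul]; simp only [Matrix.mul_assoc]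
      _ = (Z⁻¹)ᵀ * (Zᵀ * J * Z) * Z⁻¹ := by rw [← hM₂, hZM]
      _ = (Z * Z⁻¹)ᵀ * J * (Z * Z⁻¹) := by
          rw [Matrix.transpose_mul]; simp only [Matrix.mul_assoc]
      _ = J := by rw [hZZ, Matrix.transpose_one, Matrix.one_mul, Matrix.mul_one]
  have hSmem : S ∈ Matrix.symplecticGroup (Fin m) F := by
    rw [← SymplecticGroup.transpose_mem_iff, SymplecticGroup.mem_iff, Matrix.transpose_transpose]
    exact hSJ
  have hSa : S * a = b * S := by
    have h1 : Z⁻¹ * a = a * Z⁻¹ := by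
      calc Z⁻¹ * a = Z⁻¹ * a * (Z * Z⁻¹) := by rw [hZZ, Matrix.mul_one]
        _ = Z⁻¹ * (a * Z) * Z⁻¹ := by simp only [Matrix.mul_assoc]
        _ = Z⁻¹ * (Z * a) * Z⁻¹ := by rw [hZa]
        _ = (Z⁻¹ * Z) * a * Z⁻¹ := by simp only [Matrix.mul_assoc]
        _ = a * Z⁻¹ := by rw [hZZ', Matrix.one_mul]
    rw [hS, Matrix.mul_assoc, h1, ← Matrix.mul_assoc, hcAB, Matrix.mul_assoc]
  rw [isConj_iff]
  refine ⟨⟨S, hSmem⟩, ?_⟩
  rw [mul_inv_eq_iff_eq_mul]
  apply Subtype.ext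
  exact hSa

end Cfsg.Agent.Helper8.SpS
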