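import Mathlib
import Cfsg.Prelude.Def_ClassicalGeometry

set_option autoImplicit false

/-! The stabiliser in `Sp_2m(F)` of a subspace given by block coordinates in an adapted symplectic
basis is `Sp_2k(F) × Sp_2d(F)` (helper8). -/

namespace Cfsg.Agent.Helper8.SpStab

open Matrix

variable {F : Type*} [Field F]

section Conj

variable {ι ι' : Type} [Fintype ι] [DecidableEq ι] [Fintype ι'] [DecidableEq ι']
  (T : Matrix ι ι' F) (T' : Matrix ι' ι F)

theorem conj_mul (hT'T : T' * T = 1) (M N : Matrix ι' ι' F) :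
    T * M * T' * (T * N * T') = T * (M * N) * T' := by
  calc T * M * T' * (T * N * T') = T * M * (T' * T) * N * T' := by
        simp only [Matrix.mul_assoc]
    _ = T * (M * N) * T' := by
        rw [hT'T]
        simp only [Matrix.mul_one, Matrix.mul_assoc]

theorem form_conj (hTT' : T * T' = 1) (J : Matrix ι ι F) (X : Matrix ι ι F) :
    (T' * X * T)ᵀ * (Tᵀ * J * T) * (T' * X * T) = Tᵀ * (Xᵀ * J * X) * T := by
  have h2 : T'ᵀ * Tᵀ = 1 := by rw [← transpose_mul, hTT', transpose_one]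
  calc (T' * X * T)ᵀ * (Tᵀ * J * T) * (T' * X * T)
      = Tᵀ * Xᵀ * (T'ᵀ * Tᵀ) * J * (T * T') * X * T := by
        simp only [transpose_mul, Matrix.mul_assoc]
    _ = Tᵀ * (Xᵀ * J * X) * T := by
        rw [h2, hTT']
        simp only [Matrix.mul_one, Matrix.mul_assoc]

theorem conj_conj (hTT' : T * T' = 1) (X : Matrix ι ι F) : T * (T' * X * T) * T' = X := by
  calc T * (T' * X * T) * T' = (T * T') * X * (T * T') := by simp only [Matrix.mul_assoc]
    _ = X := by rw [hTT', Matrix.one_mul, Matrix.mul_one]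

theorem conj_conj' (hT'T : T' * T = 1) (M : Matrix ι' ι' F) : T' * (T * M * T') * T = M := by
  calc T' * (T * M * T') * T = (T' * T) * M * (T' * T) := by simp only [Matrix.mul_assoc]
    _ = M := by rw [hT'T, Matrix.one_mul, Matrix.mul_one]

end Conj

section Block

variable {ι₁ ι₂ : Type} [Fintype ι₁] [DecidableEq ι₁] [Fintype ι₂] [DecidableEq ι₂]

theorem block_of_form {J₁ : Matrix ι₁ ι₁ F} {J₂ : Matrix ι₂ ι₂ F} (hJ₁ : J₁.det ≠ 0)
    {A : Matrix ι₁ ι₁ F} {B : Matrix ι₁ ι₂ F} {D : Matrix ι₂ ι₂ F}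
    (h : (fromBlocks A B 0 D)ᵀ * fromBlocks J₁ 0 0 J₂ * fromBlocks A B 0 D
      = fromBlocks J₁ 0 0 J₂) :
    B = 0 ∧ Aᵀ * J₁ * A = J₁ ∧ Dᵀ * J₂ * D = J₂ := by
  rw [fromBlocks_transpose, fromBlocks_multiply, fromBlocks_multiply] at h
  simp only [transpose_zero, Matrix.zero_mul, Matrix.mul_zero, add_zero, zero_add] at h
  rw [fromBlocks_inj] at h
  obtain ⟨h11, h12, -, h22⟩ := h
  have hA : (Aᵀ * J₁).det ≠ 0 := by
    intro h0
    have := congrArg Matrix.det h11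
    rw [Matrix.det_mul, h0, zero_mul] at this
    exact hJ₁ this.symm
  have hB : B = 0 := by
    have hu : IsUnit (Aᵀ * J₁).det := isUnit_iff_ne_zero.mpr hA
    have := congrArg (fun X => (Aᵀ * J₁)⁻¹ * X) h12
    simp only [Matrix.mul_zero] at this
    rwa [← Matrix.mul_assoc, Matrix.nonsing_inv_mul _ hu, Matrix.one_mul] at this
  refine ⟨hB, h11, ?_⟩
  rw [hB] at h22
  simpa using h22

theorem eq_zero_of_mulVec {M : Matrix ι₂ ι₁ F} (h : ∀ x, M *ᵥ x = 0) : M = 0 := by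
  ext i j
  have := congrFun (h (Pi.single j 1)) i
  rw [Matrix.mulVec_single_one] at this
  exact this

end Block

section Main

variable {m k d : ℕ}

theorem neg_J_form_iff {n : ℕ} (A : Matrix (Fin n ⊕ Fin n) (Fin n ⊕ Fin n) F) :
    Aᵀ * (-J (Fin n) F) * A = -J (Fin n) F ↔ A ∈ symplecticGroup (Fin n) F := by
  rw [SymplecticGroup.mem_iff', Matrix.mul_neg, Matrix.neg_mul, neg_inj]

theorem det_neg_J_ne_zero (n : ℕ) : (-J (Fin n) F).det ≠ 0 := by
  have h : (-J (Fin n) F) * J (Fin n) F = 1 := by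
    rw [Matrix.neg_mul, J_squared, neg_neg]
  intro h0
  have := congrArg Matrix.det h
  rw [Matrix.det_mul, h0, zero_mul, Matrix.det_one] at this
  exact zero_ne_one this

/-- **the stabiliser of a block subspace.** -/
theorem stab_equiv (W : Submodule F (Fin m ⊕ Fin m → F))
    (T : Matrix (Fin m ⊕ Fin m) ((Fin k ⊕ Fin k) ⊕ (Fin d ⊕ Fin d)) F)
    (T' : Matrix ((Fin k ⊕ Fin k) ⊕ (Fin d ⊕ Fin d)) (Fin m ⊕ Fin m) F)
    (hTT' : T * T' = 1) (hT'T : T' * T = 1)
    (hGram : Tᵀ * J (Fin m) F * T = fromBlocks (-J (Fin k) F) 0 0 (-J (Fin d) F))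
    (hW : ∀ v, v ∈ W ↔ ∀ y, (T' *ᵥ v) (Sum.inr y) = 0) :
    Nonempty (↥(Cfsg.stabilizing (Cfsg.spToMat m F) (W : Set (Fin m ⊕ Fin m → F))) ≃*
      symplecticGroup (Fin k) F × symplecticGroup (Fin d) F) := by
  -- the symplectic condition in block coordinates
  have hsymp : ∀ (A₁ : Matrix (Fin k ⊕ Fin k) (Fin k ⊕ Fin k) F)
      (A₂ : Matrix (Fin d ⊕ Fin d) (Fin d ⊕ Fin d) F),
      A₁ ∈ symplecticGroup (Fin k) F → A₂ ∈ symplecticGroup (Fin d) F →
      T * fromBlocks A₁ 0 0 A₂ * T' ∈ symplecticGroup (Fin m) F := by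
    intro A₁ A₂ h₁ h₂
    rw [SymplecticGroup.mem_iff']
    have h3 := form_conj T T' hTT' (J (Fin m) F) (T * fromBlocks A₁ 0 0 A₂ * T')
    rw [conj_conj' T T' hT'T, hGram, fromBlocks_transpose, fromBlocks_multiply,
      fromBlocks_multiply] at h3
    simp only [transpose_zero, Matrix.zero_mul, Matrix.mul_zero, add_zero, zero_add] at h3
    rw [(neg_J_form_iff A₁).mpr h₁, (neg_J_form_iff A₂).mpr h₂, ← hGram] at h3
    -- cancel `T`
    have h4 := congrArg (fun X => T'ᵀ * X * T') h3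
    have h2 : T'ᵀ * Tᵀ = 1 := by rw [← transpose_mul, hTT', transpose_one]
    have e1 : ∀ Y : Matrix (Fin m ⊕ Fin m) (Fin m ⊕ Fin m) F, T'ᵀ * (Tᵀ * Y * T) * T' = Y := by
      intro Y
      calc T'ᵀ * (Tᵀ * Y * T) * T' = (T'ᵀ * Tᵀ) * Y * (T * T') := by
            simp only [Matrix.mul_assoc]
        _ = Y := by rw [h2, hTT', Matrix.one_mul, Matrix.mul_one]
    rw [e1, e1] at h4
    exact h4.symm
  have hstab : ∀ (A₁ : Matrix (Fin k ⊕ Fin k) (Fin k ⊕ Fin k) F)
      (A₂ : Matrix (Fin d ⊕ Fin d) (Fin d ⊕ Fin d) F), A₂ ∈ symplecticGroup (Fin d) F →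
      ∀ v, v ∈ W ↔ (T * fromBlocks A₁ 0 0 A₂ * T') *ᵥ v ∈ W := by
    intro A₁ A₂ h₂ v
    rw [hW, hW]
    have e1 : T' *ᵥ ((T * fromBlocks A₁ 0 0 A₂ * T') *ᵥ v)
        = fromBlocks A₁ 0 0 A₂ *ᵥ (T' *ᵥ v) := by
      rw [Matrix.mulVec_mulVec, Matrix.mulVec_mulVec]
      congr 1
      calc T' * (T * fromBlocks A₁ 0 0 A₂ * T') = (T' * T) * fromBlocks A₁ 0 0 A₂ * T' := by
            simp only [Matrix.mul_assoc]
        _ = fromBlocks A₁ 0 0 A₂ * T' := by rw [hT'T, Matrix.one_mul]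
    rw [e1]
    have e2 : ∀ y, (fromBlocks A₁ 0 0 A₂ *ᵥ (T' *ᵥ v)) (Sum.inr y)
        = (A₂ *ᵥ ((T' *ᵥ v) ∘ Sum.inr)) y := by
      intro y
      rw [Matrix.fromBlocks_mulVec]
      simp
    simp only [e2]
    have hinj : Function.Injective A₂.mulVec :=
      Matrix.mulVec_injective_iff_isUnit.mpr
        ((Matrix.isUnit_iff_isUnit_det _).mpr (SymplecticGroup.symplectic_det h₂))
    constructor
    · intro h y
      have : (T' *ᵥ v) ∘ Sum.inr = 0 := funext h
      rw [this, Matrix.mulVec_zero]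
      rfl
    · intro h y
      have h0 : A₂ *ᵥ ((T' *ᵥ v) ∘ Sum.inr) = A₂ *ᵥ 0 := by
        rw [Matrix.mulVec_zero]
        exact funext h
      exact congrFun (hinj h0) y
  -- the homomorphism
  let Φ : symplecticGroup (Fin k) F × symplecticGroup (Fin d) F →*
      ↥(Cfsg.stabilizing (Cfsg.spToMat m F) (W : Set (Fin m ⊕ Fin m → F))) :=
    { toFun := fun p => ⟨⟨T * fromBlocks p.1.1 0 0 p.2.1 * T', hsymp _ _ p.1.2 p.2.2⟩,
        hstab _ _ p.2.2⟩
      map_one' := by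
        apply Subtype.ext
        apply Subtype.ext
        show T * fromBlocks (1 : Matrix (Fin k ⊕ Fin k) (Fin k ⊕ Fin k) F) 0 0
          (1 : Matrix (Fin d ⊕ Fin d) (Fin d ⊕ Fin d) F) * T' = 1
        rw [fromBlocks_one, Matrix.mul_one, hTT']
      map_mul' := by
        intro p p'
        apply Subtype.ext
        apply Subtype.ext
        show T * fromBlocks (p.1.1 * p'.1.1) 0 0 (p.2.1 * p'.2.1) * T'
          = T * fromBlocks p.1.1 0 0 p.2.1 * T' * (T * fromBlocks p'.1.1 0 0 p'.2.1 * T')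
        rw [conj_mul T T' hT'T, fromBlocks_multiply]
        simp }
  have hΦ : ∀ p, ((Φ p : symplecticGroup (Fin m) F) : Matrix (Fin m ⊕ Fin m) (Fin m ⊕ Fin m) F)
      = T * fromBlocks p.1.1 0 0 p.2.1 * T' := fun p => rfl
  refine ⟨(MulEquiv.ofBijective Φ ⟨?_, ?_⟩).symm⟩
  · intro p p' h
    have h1 : T * fromBlocks p.1.1 0 0 p.2.1 * T' = T * fromBlocks p'.1.1 0 0 p'.2.1 * T' := by
      rw [← hΦ, ← hΦ, h]
    have h2 := congrArg (fun X => T' * X * T) h1
    rw [conj_conj' T T' hT'T, conj_conj' T T' hT'T, fromBlocks_inj] at h2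
    exact Prod.ext (Subtype.ext h2.1) (Subtype.ext h2.2.2.2)
  · intro h
    obtain ⟨g, hg⟩ : ∃ g : Matrix (Fin m ⊕ Fin m) (Fin m ⊕ Fin m) F,
        g = ((h : symplecticGroup (Fin m) F) : Matrix (Fin m ⊕ Fin m) (Fin m ⊕ Fin m) F) :=
      ⟨_, rfl⟩
    have hgs : gᵀ * J (Fin m) F * g = J (Fin m) F := by
      rw [hg]
      exact SymplecticGroup.mem_iff'.mp (h : symplecticGroup (Fin m) F).2
    have hgst : ∀ v, v ∈ W ↔ g *ᵥ v ∈ W := by
      rw [hg]
      exact h.2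
    obtain ⟨M, hM⟩ : ∃ M, M = T' * g * T := ⟨_, rfl⟩
    have hgM : g = T * M * T' := by rw [hM, conj_conj T T' hTT']
    have hMform : Mᵀ * fromBlocks (-J (Fin k) F) 0 0 (-J (Fin d) F) * M
        = fromBlocks (-J (Fin k) F) 0 0 (-J (Fin d) F) := by
      rw [← hGram, hM, form_conj T T' hTT', hgs]
    -- the lower left block vanishes
    have h21 : M.toBlocks₂₁ = 0 := by
      apply eq_zero_of_mulVec
      intro z₁
      have hv : T *ᵥ (Sum.elim z₁ 0) ∈ W := by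
        rw [hW]
        intro y
        rw [Matrix.mulVec_mulVec, hT'T, Matrix.one_mulVec]
        rfl
      have h1 := (hgst _).mp hv
      rw [hW] at h1
      funext y
      have h2 := h1 y
      rw [Matrix.mulVec_mulVec, Matrix.mulVec_mulVec, ← hM,
        ← fromBlocks_toBlocks M, Matrix.fromBlocks_mulVec] at h2
      simpa using h2
    have hMblocks : M = fromBlocks M.toBlocks₁₁ M.toBlocks₁₂ 0 M.toBlocks₂₂ := by
      rw [← h21, fromBlocks_toBlocks]
    rw [hMblocks] at hMform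
    obtain ⟨h12, h11, h22⟩ := block_of_form (det_neg_J_ne_zero k) hMform
    rw [h12] at hMblocks
    refine ⟨(⟨M.toBlocks₁₁, (neg_J_form_iff _).mp h11⟩, ⟨M.toBlocks₂₂, (neg_J_form_iff _).mp h22⟩),
      ?_⟩
    apply Subtype.ext
    apply Subtype.ext
    rw [hΦ]
    show T * fromBlocks M.toBlocks₁₁ 0 0 M.toBlocks₂₂ * T' = _
    rw [← hMblocks, ← hgM, hg]

end Main

end Cfsg.Agent.Helper8.SpStab
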