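import Mathlib
import Cfsg.Agent.Helper8.SpStabBlock
import Cfsg.Agent.Helper8.SpSSympIso
import Cfsg.Agent.Helper8.SpSMat

set_option autoImplicit false

/-! The stabiliser in `Sp_2m(F)` of a nondegenerate subspace of dimension `2k` is isomorphic to
`Sp_2k(F) × Sp_2(m-k)(F)` (helper8). -/

namespace Cfsg.Agent.Helper8.SpStab

open Matrix Module Cfsg.Agent.Helper8.SpS

variable {F : Type*} [Field F] {m : ℕ}

/-- the symplectic form as a bilinear form -/
noncomputable def sB (m : ℕ) (F : Type*) [Field F] :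
    LinearMap.BilinForm F (Fin m ⊕ Fin m → F) := bform (J (Fin m) F)

theorem sB_apply (u v : Fin m ⊕ Fin m → F) : sB m F u v = Cfsg.sympForm m F u v :=
  Matrix.toLinearMap₂'_apply' _ _ _

theorem sB_alt : Alt (sB m F) := alt_bform_J

theorem sB_nondeg : Nondeg (sB m F) := by
  apply nondeg_bform
  intro h0
  have := J_det_mul_J_det (Fin m) F
  rw [h0, zero_mul] at this
  exact zero_ne_one this

theorem Jent_eq {n : ℕ} (x y : Fin n ⊕ Fin n) : (Jent x y : F) = (-J (Fin n) F) x y := by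
  rcases x with i | i <;> rcases y with j | j <;>
    simp [Jent, J, Matrix.one_apply]
  split_ifs <;> simp

/-- **the stabiliser of a nondegenerate subspace of the symplectic space.** -/
theorem nonempty_stab_equiv (k : ℕ) (hk : k ≤ m) (W : Submodule F (Fin m ⊕ Fin m → F))
    (hWk : finrank F W = 2 * k)
    (hW : ∀ u ∈ W, (∀ v ∈ W, Cfsg.sympForm m F u v = 0) → u = 0) :
    Nonempty (↥(Cfsg.stabilizing (Cfsg.spToMat m F) (W : Set (Fin m ⊕ Fin m → F))) ≃*
      symplecticGroup (Fin k) F × symplecticGroup (Fin (m - k)) F) := by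
  have hskew : ∀ u v, sB m F u v = -sB m F v u := sB_alt.skew
  have hrefl : (sB m F).IsRefl := by
    intro u v h
    rw [hskew, h, neg_zero]
  -- the restricted forms
  have hAlt₁ : Alt ((sB m F).restrict W) := fun v => sB_alt (v : Fin m ⊕ Fin m → F)
  have hND₁ : Nondeg ((sB m F).restrict W) := by
    intro u hu
    apply Subtype.ext
    apply hW u u.2
    intro v hv
    have := hu ⟨v, hv⟩
    change sB m F (u : Fin m ⊕ Fin m → F) v = 0 at this
    rw [sB_apply] at this
    exact this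
  have hnd₁ : ((sB m F).restrict W).Nondegenerate := by
    refine ⟨fun u hu => hND₁ u hu, fun u hu => hND₁ u (fun v => ?_)⟩
    have := hu v
    change sB m F (v : Fin m ⊕ Fin m → F) (u : Fin m ⊕ Fin m → F) = 0 at this
    change sB m F (u : Fin m ⊕ Fin m → F) (v : Fin m ⊕ Fin m → F) = 0
    rw [hskew, this, neg_zero]
  have hc : IsCompl W ((sB m F).orthogonal W) :=
    LinearMap.BilinForm.isCompl_orthogonal_of_restrict_nondegenerate hrefl hnd₁
  obtain ⟨W', hW'⟩ : ∃ W', W' = (sB m F).orthogonal W := ⟨_, rfl⟩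
  rw [← hW'] at hc
  have hmemW' : ∀ u, u ∈ W' ↔ ∀ w ∈ W, sB m F w u = 0 := by
    intro u
    rw [hW', LinearMap.BilinForm.mem_orthogonal_iff]
  have hAlt₂ : Alt ((sB m F).restrict W') := fun v => sB_alt (v : Fin m ⊕ Fin m → F)
  have hND₂ : Nondeg ((sB m F).restrict W') := by
    intro u hu
    apply Subtype.ext
    apply sB_nondeg
    intro x
    have hx : x ∈ W ⊔ W' := by rw [hc.sup_eq_top]; trivial
    obtain ⟨w, hw, w', hw', rfl⟩ := Submodule.mem_sup.mp hx
    rw [map_add, hskew, (hmemW' u).mp u.2 w hw, neg_zero, zero_add]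
    exact hu ⟨w', hw'⟩
  obtain ⟨k₁, b₁, hb₁⟩ := exists_symp_basis _ hAlt₁ hND₁
  obtain ⟨k₂, b₂, hb₂⟩ := exists_symp_basis _ hAlt₂ hND₂
  have hk₁ : k₁ = k := by
    have h1 := Module.finrank_eq_card_basis b₁
    rw [Fintype.card_sum, Fintype.card_fin] at h1
    omega
  have hk₂ : k₂ = m - k := by
    have h1 := Module.finrank_eq_card_basis b₂
    have h2 := Submodule.finrank_add_eq_of_isCompl hc
    rw [Fintype.card_sum, Fintype.card_fin] at h1
    rw [Module.finrank_fintype_fun_eq_card, Fintype.card_sum, Fintype.card_fin] at h2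
    omega
  subst hk₁ hk₂
  -- the adapted basis
  obtain ⟨c, hcdef⟩ : ∃ c : Basis ((Fin k₁ ⊕ Fin k₁) ⊕ (Fin (m - k₁) ⊕ Fin (m - k₁))) F (Fin m ⊕ Fin m → F),
      c = (b₁.prod b₂).map (Submodule.prodEquivOfIsCompl W W' hc) := ⟨_, rfl⟩
  have hcl : ∀ x, c (Sum.inl x) = (b₁ x : Fin m ⊕ Fin m → F) := by
    intro x
    rw [hcdef, Basis.map_apply, Submodule.coe_prodEquivOfIsCompl', Basis.prod_apply_inl_fst,
      Basis.prod_apply_inl_snd, Submodule.coe_zero, add_zero]
  have hcr : ∀ y, c (Sum.inr y) = (b₂ y : Fin m ⊕ Fin m → F) := by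
    intro y
    rw [hcdef, Basis.map_apply, Submodule.coe_prodEquivOfIsCompl', Basis.prod_apply_inr_fst,
      Basis.prod_apply_inr_snd, Submodule.coe_zero, zero_add]
  obtain ⟨T, hT⟩ : ∃ T : Matrix (Fin m ⊕ Fin m) ((Fin k₁ ⊕ Fin k₁) ⊕ (Fin (m - k₁) ⊕ Fin (m - k₁))) F,
      T = (Pi.basisFun F (Fin m ⊕ Fin m)).toMatrix c := ⟨_, rfl⟩
  obtain ⟨T', hT'⟩ : ∃ T' : Matrix ((Fin k₁ ⊕ Fin k₁) ⊕ (Fin (m - k₁) ⊕ Fin (m - k₁))) (Fin m ⊕ Fin m) F,
      T' = c.toMatrix (Pi.basisFun F (Fin m ⊕ Fin m)) := ⟨_, rfl⟩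
  have hTapp : ∀ i a, T i a = c a i := by
    intro i a
    rw [hT, Basis.toMatrix_apply, Pi.basisFun_repr]
  have hT'app : ∀ v a, (T' *ᵥ v) a = c.repr v a := by
    intro v a
    have h1 := Basis.toMatrix_mulVec_repr (Pi.basisFun F (Fin m ⊕ Fin m)) c v
    have h2 : ((Pi.basisFun F (Fin m ⊕ Fin m)).repr v : Fin m ⊕ Fin m → F) = v := by
      funext i
      rw [Pi.basisFun_repr]
    rw [h2] at h1
    rw [hT', h1]
  apply stab_equiv W T T'
  · rw [hT, hT']
    exact Basis.toMatrix_mul_toMatrix_flip _ _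
  · rw [hT, hT']
    exact Basis.toMatrix_mul_toMatrix_flip _ _
  · -- the Gram matrix
    have hentry : ∀ a b, (Tᵀ * J (Fin m) F * T) a b = sB m F (c a) (c b) := by
      intro a b
      rw [sB_apply, Cfsg.sympForm, Matrix.mul_assoc, Matrix.mul_apply, dotProduct]
      apply Finset.sum_congr rfl
      intro i _
      rw [Matrix.transpose_apply, hTapp, Matrix.mul_apply, Matrix.mulVec, dotProduct]
      congr 1
      apply Finset.sum_congr rfl
      intro j _
      rw [hTapp]
    ext a b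
    rw [hentry]
    rcases a with x | y <;> rcases b with x' | y'
    · rw [hcl, hcl, fromBlocks_apply₁₁, ← Jent_eq, ← hb₁]
      rfl
    · rw [hcl, hcr, fromBlocks_apply₁₂, Matrix.zero_apply]
      exact (hmemW' _).mp (b₂ y').2 _ (b₁ x).2
    · rw [hcr, hcl, fromBlocks_apply₂₁, Matrix.zero_apply, hskew,
        (hmemW' _).mp (b₂ y).2 _ (b₁ x').2, neg_zero]
    · rw [hcr, hcr, fromBlocks_apply₂₂, ← Jent_eq, ← hb₂]
      rfl
  · intro v
    have h1 : ∀ y, c.repr v (Sum.inr y)
        = b₂.repr ((Submodule.prodEquivOfIsCompl W W' hc).symm v).2 y := by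
      intro y
      rw [hcdef, Basis.map_repr, LinearEquiv.trans_apply, Basis.prod_repr_inr]
    simp only [hT'app, h1]
    rw [← Submodule.prodEquivOfIsCompl_symm_apply_snd_eq_zero W W' hc (x := v)]
    constructor
    · intro h y
      rw [h, map_zero]
      rfl
    · intro h
      apply b₂.repr.injective
      ext y
      rw [h y, map_zero]
      rfl

end Cfsg.Agent.Helper8.SpStab
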