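import Mathlib
import Cfsg.Agent.Helper8.SpStabMain

set_option autoImplicit false

/-! Totally isotropic frames of the standard symplectic space: hyperbolic partners, adapted
symplectic bases, transitivity of `Sp_2m(F)` and their number (helper8). -/

namespace Cfsg.Agent.Helper8.SpStab

open Matrix Module Cfsg.Agent.Helper8.SpS

variable {F : Type*} [Field F] {m : ℕ}

local notation "VV" => (Fin m ⊕ Fin m → F)

theorem sB_skew (u v : Fin m ⊕ Fin m → F) : sB m F u v = -sB m F v u := sB_alt.skew u v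

theorem sB_self (u : Fin m ⊕ Fin m → F) : sB m F u u = 0 := sB_alt u

theorem sB_isRefl : (sB m F).IsRefl := by
  intro u v h
  rw [sB_skew, h, neg_zero]

theorem sB_nondegenerate : (sB m F).Nondegenerate := by
  refine ⟨fun u hu => sB_nondeg u hu, fun u hu => sB_nondeg u (fun v => ?_)⟩
  rw [sB_skew, hu v, neg_zero]

/-- the orthogonal complement of the span of a family -/
theorem mem_orthogonal_span {k : ℕ} (v : Fin k → (Fin m ⊕ Fin m → F)) (x : Fin m ⊕ Fin m → F) :
    x ∈ (sB m F).orthogonal (Submodule.span F (Set.range v)) ↔ ∀ i, sB m F (v i) x = 0 := by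
  rw [LinearMap.BilinForm.mem_orthogonal_iff]
  constructor
  · intro h i
    exact h (v i) (Submodule.subset_span ⟨i, rfl⟩)
  · intro h w hw
    show sB m F w x = 0
    induction hw using Submodule.span_induction with
    | mem y hy =>
      obtain ⟨i, rfl⟩ := hy
      exact h i
    | zero => rw [map_zero, LinearMap.zero_apply]
    | add y z _ _ hy hz => rw [map_add, LinearMap.add_apply, hy, hz, add_zero]
    | smul a y _ hy => rw [map_smul, LinearMap.smul_apply, hy, smul_zero]

/-- dual vectors of a linearly independent family -/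
theorem exists_dual {k : ℕ} (v : Fin k → (Fin m ⊕ Fin m → F)) (hv : LinearIndependent F v) :
    ∃ u : Fin k → (Fin m ⊕ Fin m → F), ∀ i j, sB m F (v i) (u j) = if i = j then 1 else 0 := by
  obtain ⟨φ, hφ⟩ : ∃ φ : (Fin m ⊕ Fin m → F) →ₗ[F] (Fin k → F), ∀ x i, φ x i = sB m F (v i) x :=
    ⟨LinearMap.pi (fun i => sB m F (v i)), fun x i => rfl⟩
  have hker : LinearMap.ker φ = (sB m F).orthogonal (Submodule.span F (Set.range v)) := by
    ext x
    rw [LinearMap.mem_ker, mem_orthogonal_span]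
    constructor
    · intro h i
      rw [← hφ, h]
      rfl
    · intro h
      funext i
      rw [hφ, h i]
      rfl
  have hsurj : LinearMap.range φ = ⊤ := by
    apply Submodule.eq_top_of_finrank_eq
    have h1 := LinearMap.finrank_range_add_finrank_ker φ
    have h2 := LinearMap.BilinForm.finrank_orthogonal (sB_nondegenerate (F := F) (m := m))
      (Submodule.span F (Set.range v))
    rw [finrank_span_eq_card hv, Fintype.card_fin] at h2
    have h3 : finrank F (Submodule.span F (Set.range v)) ≤ finrank F (Fin m ⊕ Fin m → F) :=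
      Submodule.finrank_le _
    rw [finrank_span_eq_card hv, Fintype.card_fin] at h3
    rw [hker, h2] at h1
    rw [Module.finrank_fintype_fun_eq_card, Fintype.card_fin]
    omega
  have hex : ∀ j : Fin k, ∃ x, φ x = Pi.single j 1 := by
    intro j
    have : (Pi.single j 1 : Fin k → F) ∈ LinearMap.range φ := by rw [hsurj]; trivial
    exact this
  choose u hu using hex
  refine ⟨u, fun i j => ?_⟩
  rw [← hφ, hu, Pi.single_apply]

/-- hyperbolic partners of a totally isotropic frame -/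
theorem exists_partners {k : ℕ} (v : Fin k → (Fin m ⊕ Fin m → F)) (hv : LinearIndependent F v)
    (hti : ∀ i j, sB m F (v i) (v j) = 0) :
    ∃ f : Fin k → (Fin m ⊕ Fin m → F), (∀ i j, sB m F (v i) (f j) = if i = j then 1 else 0) ∧
      ∀ i j, sB m F (f i) (f j) = 0 := by
  obtain ⟨u, hu⟩ := exists_dual v hv
  have huv : ∀ i j, sB m F (u j) (v i) = if i = j then -1 else 0 := by
    intro i j
    rw [sB_skew, hu]
    split_ifs <;> simp
  refine ⟨fun j => u j + ∑ i, (if i < j then sB m F (u i) (u j) else 0) • v i, ?_, ?_⟩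
  · intro i j
    rw [map_add, map_sum, hu]
    simp only [map_smul, hti, smul_zero, Finset.sum_const_zero, add_zero]
  · intro j l
    simp only [map_add, map_sum, map_smul, LinearMap.add_apply, LinearMap.sum_apply,
      LinearMap.smul_apply, hti, hu, huv, smul_eq_mul, mul_zero, Finset.sum_const_zero, add_zero]
    simp only [mul_ite, mul_one, mul_zero, mul_neg, Finset.sum_ite_eq',
      Finset.mem_univ, if_true]
    rcases lt_trichotomy j l with h | h | h
    · rw [if_pos h, if_neg (not_lt.mpr h.le)]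
      ring
    · subst h
      rw [if_neg (lt_irrefl _), sB_self]
      ring
    · rw [if_neg (not_lt.mpr h.le), if_pos h, sB_skew (u j) (u l)]
      ring

/-- a subspace with a symplectic basis is nondegenerate -/
theorem nondeg_of_symp_basis {k : ℕ} (W : Submodule F (Fin m ⊕ Fin m → F))
    (b₁ : Basis (Fin k ⊕ Fin k) F W)
    (hb₁ : ∀ x y, sB m F (b₁ x : Fin m ⊕ Fin m → F) (b₁ y : Fin m ⊕ Fin m → F) = Jent x y) :
    ∀ u ∈ W, (∀ v ∈ W, Cfsg.sympForm m F u v = 0) → u = 0 := by
  intro u hu h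
  have h0 : b₁.repr ⟨u, hu⟩ = 0 := by
    ext x₀
    have h1 := h (b₁ (partner x₀)) (b₁ (partner x₀)).2
    rw [← sB_apply] at h1
    have h2 : u = ∑ x, b₁.repr ⟨u, hu⟩ x • (b₁ x : Fin m ⊕ Fin m → F) := by
      have := congrArg (Subtype.val) (b₁.sum_repr ⟨u, hu⟩)
      rw [Submodule.coe_sum] at this
      exact this.symm
    rw [h2, map_sum, LinearMap.sum_apply] at h1
    simp only [map_smul, LinearMap.smul_apply, hb₁, smul_eq_mul] at h1
    rw [Finset.sum_eq_single x₀] at h1
    · have h3 : (Jent x₀ (partner x₀) : F) ≠ 0 := (Jent_partner x₀ x₀).mpr rfl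
      exact (mul_eq_zero.mp h1).resolve_right h3
    · intro x _ hx
      have : (Jent x (partner x₀) : F) = 0 := by
        by_contra h4
        exact hx ((Jent_partner x x₀).mp h4)
      rw [this, mul_zero]
    · intro h4
      exact absurd (Finset.mem_univ x₀) h4
  have := b₁.repr.injective (h0.trans (map_zero b₁.repr).symm)
  exact congrArg Subtype.val this

/-- **an adapted symplectic basis** extending a symplectic basis of a subspace -/
theorem exists_adapted_basis {k : ℕ} (W : Submodule F (Fin m ⊕ Fin m → F))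
    (b₁ : Basis (Fin k ⊕ Fin k) F W)
    (hb₁ : ∀ x y, sB m F (b₁ x : Fin m ⊕ Fin m → F) (b₁ y : Fin m ⊕ Fin m → F) = Jent x y) :
    ∃ c : Basis ((Fin k ⊕ Fin k) ⊕ (Fin (m - k) ⊕ Fin (m - k))) F (Fin m ⊕ Fin m → F),
      (∀ x, c (Sum.inl x) = (b₁ x : Fin m ⊕ Fin m → F)) ∧
      ((Pi.basisFun F (Fin m ⊕ Fin m)).toMatrix c)ᵀ * J (Fin m) F *
        (Pi.basisFun F (Fin m ⊕ Fin m)).toMatrix c
        = fromBlocks (-J (Fin k) F) 0 0 (-J (Fin (m - k)) F) := by
  have hW := nondeg_of_symp_basis W b₁ hb₁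
  have hWk : finrank F W = 2 * k := by
    rw [Module.finrank_eq_card_basis b₁, Fintype.card_sum, Fintype.card_fin]
    omega
  have hskew : ∀ u v, sB m F u v = -sB m F v u := sB_alt.skew
  have hrefl : (sB m F).IsRefl := sB_isRefl
  have hND₁ : Nondeg ((sB m F).restrict W) := by
    intro u hu
    apply Subtype.ext
    apply hW u u.2
    intro v hv
    have := hu ⟨v, hv⟩
    change sB m F (u : Fin m ⊕ Fin m → F) v = 0 at this
    rw [sB_apply] at this
    exact this
  have hnd₁ : ((sB m F).restrict W).Nondegenerate := by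
    refine ⟨fun u hu => hND₁ u hu, fun u hu => hND₁ u (fun v => ?_)⟩
    have := hu v
    change sB m F (v : Fin m ⊕ Fin m → F) (u : Fin m ⊕ Fin m → F) = 0 at this
    change sB m F (u : Fin m ⊕ Fin m → F) (v : Fin m ⊕ Fin m → F) = 0
    rw [hskew, this, neg_zero]
  have hc : IsCompl W ((sB m F).orthogonal W) :=
    LinearMap.BilinForm.isCompl_orthogonal_of_restrict_nondegenerate hrefl hnd₁
  obtain ⟨W', hW'⟩ : ∃ W', W' = (sB m F).orthogonal W := ⟨_, rfl⟩
  rw [← hW'] at hc
  have hmemW' : ∀ u, u ∈ W' ↔ ∀ w ∈ W, sB m F w u = 0 := by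
    intro u
    rw [hW', LinearMap.BilinForm.mem_orthogonal_iff]
  have hAlt₂ : Alt ((sB m F).restrict W') := fun v => sB_alt (v : Fin m ⊕ Fin m → F)
  have hND₂ : Nondeg ((sB m F).restrict W') := by
    intro u hu
    apply Subtype.ext
    apply sB_nondeg
    intro x
    have hx : x ∈ W ⊔ W' := by rw [hc.sup_eq_top]; trivial
    obtain ⟨w, hw, w', hw', rfl⟩ := Submodule.mem_sup.mp hx
    rw [map_add, hskew, (hmemW' u).mp u.2 w hw, neg_zero, zero_add]
    exact hu ⟨w', hw'⟩
  obtain ⟨k₂, b₂, hb₂⟩ := exists_symp_basis _ hAlt₂ hND₂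
  have hk₂ : k₂ = m - k := by
    have h1 := Module.finrank_eq_card_basis b₂
    have h2 := Submodule.finrank_add_eq_of_isCompl hc
    rw [Fintype.card_sum, Fintype.card_fin] at h1
    rw [Module.finrank_fintype_fun_eq_card, Fintype.card_sum, Fintype.card_fin] at h2
    omega
  subst hk₂
  obtain ⟨c, hcdef⟩ : ∃ c : Basis ((Fin k ⊕ Fin k) ⊕ (Fin (m - k) ⊕ Fin (m - k))) F
      (Fin m ⊕ Fin m → F), c = (b₁.prod b₂).map (Submodule.prodEquivOfIsCompl W W' hc) :=
    ⟨_, rfl⟩
  have hcl : ∀ x, c (Sum.inl x) = (b₁ x : Fin m ⊕ Fin m → F) := by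
    intro x
    rw [hcdef, Basis.map_apply, Submodule.coe_prodEquivOfIsCompl', Basis.prod_apply_inl_fst,
      Basis.prod_apply_inl_snd, Submodule.coe_zero, add_zero]
  have hcr : ∀ y, c (Sum.inr y) = (b₂ y : Fin m ⊕ Fin m → F) := by
    intro y
    rw [hcdef, Basis.map_apply, Submodule.coe_prodEquivOfIsCompl', Basis.prod_apply_inr_fst,
      Basis.prod_apply_inr_snd, Submodule.coe_zero, zero_add]
  refine ⟨c, hcl, ?_⟩
  obtain ⟨T, hT⟩ : ∃ T : Matrix (Fin m ⊕ Fin m) ((Fin k ⊕ Fin k) ⊕ (Fin (m - k) ⊕ Fin (m - k))) F,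
      T = (Pi.basisFun F (Fin m ⊕ Fin m)).toMatrix c := ⟨_, rfl⟩
  rw [← hT]
  have hTapp : ∀ i a, T i a = c a i := by
    intro i a
    rw [hT, Basis.toMatrix_apply, Pi.basisFun_repr]
  have hentry : ∀ a b, (Tᵀ * J (Fin m) F * T) a b = sB m F (c a) (c b) := by
    intro a b
    rw [sB_apply, Cfsg.sympForm, Matrix.mul_assoc, Matrix.mul_apply, dotProduct]
    apply Finset.sum_congr rfl
    intro i _
    rw [Matrix.transpose_apply, hTapp, Matrix.mul_apply, Matrix.mulVec, dotProduct]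
    congr 1
    apply Finset.sum_congr rfl
    intro j _
    rw [hTapp]
  ext a b
  rw [hentry]
  rcases a with x | y <;> rcases b with x' | y'
  · rw [hcl, hcl, fromBlocks_apply₁₁, ← Jent_eq, ← hb₁]
  · rw [hcl, hcr, fromBlocks_apply₁₂, Matrix.zero_apply]
    exact (hmemW' _).mp (b₂ y').2 _ (b₁ x).2
  · rw [hcr, hcl, fromBlocks_apply₂₁, Matrix.zero_apply, hskew,
      (hmemW' _).mp (b₂ y).2 _ (b₁ x').2, neg_zero]
  · rw [hcr, hcr, fromBlocks_apply₂₂, ← Jent_eq, ← hb₂]
    rfl

/-- an adapted symplectic basis through a totally isotropic frame -/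
theorem exists_frame_basis {k : ℕ} (v : Fin k → (Fin m ⊕ Fin m → F)) (hv : LinearIndependent F v)
    (hti : ∀ i j, sB m F (v i) (v j) = 0) :
    ∃ c : Basis ((Fin k ⊕ Fin k) ⊕ (Fin (m - k) ⊕ Fin (m - k))) F (Fin m ⊕ Fin m → F),
      (∀ i, c (Sum.inl (Sum.inl i)) = v i) ∧
      ((Pi.basisFun F (Fin m ⊕ Fin m)).toMatrix c)ᵀ * J (Fin m) F *
        (Pi.basisFun F (Fin m ⊕ Fin m)).toMatrix c
        = fromBlocks (-J (Fin k) F) 0 0 (-J (Fin (m - k)) F) := by
  obtain ⟨f, hvf, hff⟩ := exists_partners v hv hti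
  have hli := linearIndependent_family (sB m F) sB_alt v f hti hff hvf
  obtain ⟨c, hc1, hc2⟩ := exists_adapted_basis (Submodule.span F (Set.range (Sum.elim v f)))
    (Basis.span hli) (by
      intro x y
      rw [Basis.span_apply, Basis.span_apply]
      exact gram_family (sB m F) sB_alt v f hti hff hvf x y)
  refine ⟨c, fun i => ?_, hc2⟩
  rw [hc1, Basis.span_apply]
  rfl

theorem toMatrix_basisFun_mulVec {ι' : Type} [Fintype ι'] [DecidableEq ι']
    (c : Basis ι' F (Fin m ⊕ Fin m → F)) (x : Fin m ⊕ Fin m → F) (a : ι') :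
    (c.toMatrix (Pi.basisFun F (Fin m ⊕ Fin m)) *ᵥ x) a = c.repr x a := by
  have h1 := Basis.toMatrix_mulVec_repr (Pi.basisFun F (Fin m ⊕ Fin m)) c x
  have h2 : ((Pi.basisFun F (Fin m ⊕ Fin m)).repr x : Fin m ⊕ Fin m → F) = x := by
    funext i
    rw [Pi.basisFun_repr]
  rw [h2] at h1
  rw [h1]

/-- **Witt's lemma for totally isotropic frames**: the symplectic group is transitive on them. -/
theorem exists_symp_frame_map {k : ℕ} (v v' : Fin k → (Fin m ⊕ Fin m → F))
    (hv : LinearIndependent F v) (hti : ∀ i j, sB m F (v i) (v j) = 0)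
    (hv' : LinearIndependent F v') (hti' : ∀ i j, sB m F (v' i) (v' j) = 0) :
    ∃ g : symplecticGroup (Fin m) F, ∀ i,
      (g : Matrix (Fin m ⊕ Fin m) (Fin m ⊕ Fin m) F) *ᵥ v i = v' i := by
  obtain ⟨c, hc1, hc2⟩ := exists_frame_basis v hv hti
  obtain ⟨c', hc1', hc2'⟩ := exists_frame_basis v' hv' hti'
  obtain ⟨T, hT⟩ : ∃ T, T = (Pi.basisFun F (Fin m ⊕ Fin m)).toMatrix c := ⟨_, rfl⟩
  obtain ⟨T', hT'⟩ : ∃ T', T' = c.toMatrix (Pi.basisFun F (Fin m ⊕ Fin m)) := ⟨_, rfl⟩
  obtain ⟨S, hS⟩ : ∃ S, S = (Pi.basisFun F (Fin m ⊕ Fin m)).toMatrix c' := ⟨_, rfl⟩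
  rw [← hT] at hc2
  rw [← hS] at hc2'
  have hTT' : T * T' = 1 := by
    rw [hT, hT']
    exact Basis.toMatrix_mul_toMatrix_flip _ _
  have hmem : S * T' ∈ symplecticGroup (Fin m) F := by
    rw [SymplecticGroup.mem_iff']
    have h2 : T'ᵀ * Tᵀ = 1 := by rw [← transpose_mul, hTT', transpose_one]
    calc (S * T')ᵀ * J (Fin m) F * (S * T') = T'ᵀ * (Sᵀ * J (Fin m) F * S) * T' := by
          simp only [transpose_mul, Matrix.mul_assoc]
      _ = T'ᵀ * (Tᵀ * J (Fin m) F * T) * T' := by rw [hc2', hc2]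
      _ = (T'ᵀ * Tᵀ) * J (Fin m) F * (T * T') := by simp only [Matrix.mul_assoc]
      _ = J (Fin m) F := by rw [h2, hTT', Matrix.one_mul, Matrix.mul_one]
  refine ⟨⟨S * T', hmem⟩, fun i => ?_⟩
  show (S * T') *ᵥ v i = v' i
  rw [← Matrix.mulVec_mulVec]
  have h3 : T' *ᵥ v i = Pi.single (Sum.inl (Sum.inl i)) 1 := by
    funext a
    rw [hT', toMatrix_basisFun_mulVec, ← hc1, Basis.repr_self, Finsupp.single_apply,
      Pi.single_apply]
    by_cases h : a = Sum.inl (Sum.inl i)
    · rw [if_pos h, if_pos h.symm]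
    · rw [if_neg h, if_neg (Ne.symm h)]
  rw [h3, Matrix.mulVec_single_one, ← hc1']
  funext j
  rw [hS, Matrix.col_apply, Basis.toMatrix_apply, Pi.basisFun_repr]

end Cfsg.Agent.Helper8.SpStab
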