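import Mathlib
import Cfsg.Agent.Helper8.SpParFrames
import Cfsg.Agent.Helper8.SpOrder
import Cfsg.Agent.Helper8.OrthOrder
import Cfsg.Agent.Helper7.SympTransitive

set_option autoImplicit false

/-! The number of totally isotropic frames of the symplectic space and the order of the
stabiliser of a totally isotropic subspace (helper8). -/

namespace Cfsg.Agent.Helper8.SpStab

open Matrix Module Cfsg.Agent.Helper8.SpS

variable {F : Type*} [Field F] {m : ℕ}

/-- totally isotropic frames -/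
def TIF (m : ℕ) (F : Type*) [Field F] (k : ℕ) : Type _ :=
  {s : Fin k → (Fin m ⊕ Fin m → F) // LinearIndependent F s ∧ ∀ i j, sB m F (s i) (s j) = 0}

/-- the possible next vectors of a frame -/
def TIFib {k : ℕ} (s : Fin k → (Fin m ⊕ Fin m → F)) : Type _ :=
  {x : Fin m ⊕ Fin m → F // (∀ i, sB m F (s i) x = 0) ∧ x ∉ Submodule.span F (Set.range s)}

/-- peeling off the first vector of a frame -/
def tifEquiv (k : ℕ) : TIF m F (k + 1) ≃ Σ s : TIF m F k, TIFib s.1 where
  toFun s := ⟨⟨Fin.tail s.1, (linearIndependent_finSucc.mp s.2.1).1,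
      fun i j => s.2.2 i.succ j.succ⟩,
    ⟨s.1 0, fun i => s.2.2 i.succ 0, (linearIndependent_finSucc.mp s.2.1).2⟩⟩
  invFun p := ⟨Fin.cons p.2.1 p.1.1, linearIndependent_finCons.mpr ⟨p.1.2.1, p.2.2.2⟩, by
    intro i j
    refine Fin.cases ?_ (fun i' => ?_) i <;> refine Fin.cases ?_ (fun j' => ?_) j
    · rw [Fin.cons_zero]
      exact sB_self _
    · rw [Fin.cons_zero, Fin.cons_succ, sB_skew, p.2.2.1 j', neg_zero]
    · rw [Fin.cons_zero, Fin.cons_succ]
      exact p.2.2.1 i'
    · rw [Fin.cons_succ, Fin.cons_succ]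
      exact p.1.2.2 i' j'⟩
  left_inv s := by
    apply Subtype.ext
    exact Fin.cons_self_tail s.1
  right_inv := fun ⟨⟨s, hs⟩, ⟨x, hx⟩⟩ => rfl

variable [Fintype F]

instance (k : ℕ) : Finite (TIF m F k) := by
  unfold TIF
  infer_instance

instance {k : ℕ} (s : Fin k → (Fin m ⊕ Fin m → F)) : Finite (TIFib s) := by
  unfold TIFib
  infer_instance

theorem card_TIFib {k : ℕ} (s : TIF m F k) :
    Nat.card (TIFib s.1) = Fintype.card F ^ (2 * m - k) - Fintype.card F ^ k := by
  classical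
  obtain ⟨S, hS⟩ : ∃ S, S = Submodule.span F (Set.range s.1) := ⟨_, rfl⟩
  obtain ⟨P, hP⟩ : ∃ P, P = (sB m F).orthogonal S := ⟨_, rfl⟩
  have hSP : S ≤ P := by
    rw [hS, Submodule.span_le]
    rintro _ ⟨j, rfl⟩
    rw [hP, hS, SetLike.mem_coe, mem_orthogonal_span]
    intro i
    exact s.2.2 i j
  have hSk : finrank F S = k := by
    rw [hS, finrank_span_eq_card s.2.1, Fintype.card_fin]
  have hPk : finrank F P = 2 * m - k := by
    rw [hP, LinearMap.BilinForm.finrank_orthogonal sB_nondegenerate, hSk,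
      Module.finrank_fintype_fun_eq_card, Fintype.card_sum, Fintype.card_fin]
    omega
  have e : TIFib s.1 ≃ ((P : Set (Fin m ⊕ Fin m → F)) \ (S : Set (Fin m ⊕ Fin m → F)) : Set _) := by
    refine Equiv.subtypeEquivRight (fun x => ?_)
    rw [Set.mem_sdiff, SetLike.mem_coe, SetLike.mem_coe, hP, hS, mem_orthogonal_span]
  rw [Nat.card_congr e, Nat.card_coe_set_eq, Set.ncard_sdiff hSP (Set.toFinite _),
    ← Nat.card_coe_set_eq, ← Nat.card_coe_set_eq]
  have h1 : Nat.card (P : Set (Fin m ⊕ Fin m → F)) = Fintype.card F ^ (2 * m - k) := by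
    rw [← hPk]
    exact Cfsg.Agent.Helper8.OrthOrder.card_space (F := F) P
  have h2 : Nat.card (S : Set (Fin m ⊕ Fin m → F)) = Fintype.card F ^ k := by
    rw [← hSk]
    exact Cfsg.Agent.Helper8.OrthOrder.card_space (F := F) S
  rw [h1, h2]

/-- **the number of totally isotropic frames.** -/
theorem card_TIF (k : ℕ) :
    Nat.card (TIF m F k) = ∏ i : Fin k, (Fintype.card F ^ (2 * m - i) - Fintype.card F ^ (i : ℕ)) := by
  classical
  induction k with
  | zero =>
    have : Unique (TIF m F 0) :=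
      { default := ⟨Fin.elim0, linearIndependent_empty_type, fun i => i.elim0⟩
        uniq := fun s => Subtype.ext (funext fun i => i.elim0) }
    rw [Nat.card_unique]
    simp
  | succ k ih =>
    have : Fintype (TIF m F k) := Fintype.ofFinite _
    rw [Nat.card_congr (tifEquiv k), Nat.card_sigma, Finset.sum_congr rfl (fun s _ => card_TIFib s),
      Finset.sum_const, Finset.card_univ, ← Nat.card_eq_fintype_card, ih, smul_eq_mul,
      Fin.prod_univ_castSucc]
    rfl

/-- the action of the symplectic group on families of vectors. -/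
@[reducible] def frameAction (m : ℕ) (F : Type*) [Field F] (k : ℕ) :
    MulAction (symplecticGroup (Fin m) F) (Fin k → (Fin m ⊕ Fin m → F)) where
  smul g s := fun i => (g : Matrix (Fin m ⊕ Fin m) (Fin m ⊕ Fin m) F) *ᵥ s i
  one_smul s := by
    funext i
    show ((1 : symplecticGroup (Fin m) F) : Matrix (Fin m ⊕ Fin m) (Fin m ⊕ Fin m) F) *ᵥ s i = s i
    rw [show ((1 : symplecticGroup (Fin m) F) : Matrix (Fin m ⊕ Fin m) (Fin m ⊕ Fin m) F) = 1
      from rfl, Matrix.one_mulVec]
  mul_smul g h s := by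
    funext i
    show ((g * h : symplecticGroup (Fin m) F) : Matrix (Fin m ⊕ Fin m) (Fin m ⊕ Fin m) F) *ᵥ s i
      = (g : Matrix (Fin m ⊕ Fin m) (Fin m ⊕ Fin m) F) *ᵥ
        ((h : Matrix (Fin m ⊕ Fin m) (Fin m ⊕ Fin m) F) *ᵥ s i)
    rw [Matrix.mulVec_mulVec]
    rfl

omit [Fintype F] in
theorem mulVec_injective_of_symp (g : symplecticGroup (Fin m) F) :
    Function.Injective (g : Matrix (Fin m ⊕ Fin m) (Fin m ⊕ Fin m) F).mulVec :=
  Matrix.mulVec_injective_iff_isUnit.mpr
    ((Matrix.isUnit_iff_isUnit_det _).mpr (SymplecticGroup.symplectic_det g.2))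

omit [Fintype F] in
theorem li_mulVec (g : symplecticGroup (Fin m) F) {k : ℕ} {s : Fin k → (Fin m ⊕ Fin m → F)}
    (hs : LinearIndependent F s) :
    LinearIndependent F (fun i => (g : Matrix (Fin m ⊕ Fin m) (Fin m ⊕ Fin m) F) *ᵥ s i) := by
  have := hs.map' (Matrix.toLin' (g : Matrix (Fin m ⊕ Fin m) (Fin m ⊕ Fin m) F)) (by
    rw [LinearMap.ker_eq_bot]
    intro x y h
    rw [Matrix.toLin'_apply, Matrix.toLin'_apply] at h
    exact mulVec_injective_of_symp g h)
  exact this

omit [Fintype F] in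
/-- an independent family of `finrank W` vectors of `W` spans `W` -/
theorem span_eq_of_li {k : ℕ} (W : Submodule F (Fin m ⊕ Fin m → F)) (hWk : finrank F W = k)
    {s : Fin k → (Fin m ⊕ Fin m → F)} (hs : LinearIndependent F s) (hsW : ∀ i, s i ∈ W) :
    Submodule.span F (Set.range s) = W := by
  apply Submodule.eq_of_le_of_finrank_eq
  · rw [Submodule.span_le]
    rintro _ ⟨i, rfl⟩
    exact hsW i
  · rw [finrank_span_eq_card hs, Fintype.card_fin, hWk]

omit [Fintype F] in
/-- an element of the symplectic group mapping a frame of `W` to a frame of `W` stabilises `W` -/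
theorem mem_stabilizing_of_frames {k : ℕ} (W : Submodule F (Fin m ⊕ Fin m → F))
    (hWk : finrank F W = k) {s s' : Fin k → (Fin m ⊕ Fin m → F)} (hs : LinearIndependent F s)
    (hsW : ∀ i, s i ∈ W) (hs' : LinearIndependent F s') (hs'W : ∀ i, s' i ∈ W)
    (g : symplecticGroup (Fin m) F)
    (hg : ∀ i, (g : Matrix (Fin m ⊕ Fin m) (Fin m ⊕ Fin m) F) *ᵥ s i = s' i) :
    g ∈ Cfsg.stabilizing (Cfsg.spToMat m F) (W : Set (Fin m ⊕ Fin m → F)) := by
  have h1 := span_eq_of_li W hWk hs hsW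
  have h2 := span_eq_of_li W hWk hs' hs'W
  have hmap : W.map (Matrix.toLin' (g : Matrix (Fin m ⊕ Fin m) (Fin m ⊕ Fin m) F)) = W := by
    conv_lhs => rw [← h1]
    rw [Submodule.map_span, ← Set.range_comp]
    conv_rhs => rw [← h2]
    congr 2
    funext i
    rw [Function.comp_apply, Matrix.toLin'_apply, hg]
  intro v
  show v ∈ W ↔ (g : Matrix (Fin m ⊕ Fin m) (Fin m ⊕ Fin m) F) *ᵥ v ∈ W
  constructor
  · intro hv
    rw [← hmap]
    exact ⟨v, hv, Matrix.toLin'_apply _ _⟩
  · intro hv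
    rw [← hmap] at hv
    obtain ⟨w, hw, hwv⟩ := hv
    rw [Matrix.toLin'_apply] at hwv
    rw [← mulVec_injective_of_symp g hwv]
    exact hw

/-- **orbit counting for the stabiliser of a totally isotropic subspace.** -/
theorem card_stab_mul_card_TIF (k : ℕ) (W : Submodule F (Fin m ⊕ Fin m → F))
    (hWk : finrank F W = k) (hW : ∀ u ∈ W, ∀ v ∈ W, Cfsg.sympForm m F u v = 0) :
    Nat.card ↥(Cfsg.stabilizing (Cfsg.spToMat m F) (W : Set (Fin m ⊕ Fin m → F))) *
        Nat.card (TIF m F k)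
      = (∏ i : Fin k, (Fintype.card F ^ k - Fintype.card F ^ (i : ℕ))) *
        Nat.card (symplecticGroup (Fin m) F) := by
  classical
  letI := frameAction m F k
  obtain ⟨S, hS⟩ : ∃ S, S = Cfsg.stabilizing (Cfsg.spToMat m F) (W : Set (Fin m ⊕ Fin m → F)) :=
    ⟨_, rfl⟩
  rw [← hS]
  -- a frame of `W`
  obtain ⟨b⟩ : Nonempty (Basis (Fin k) F W) := ⟨Module.finBasisOfFinrankEq F W hWk⟩
  obtain ⟨s₀, hs₀⟩ : ∃ s₀ : Fin k → (Fin m ⊕ Fin m → F), s₀ = fun i => (b i : Fin m ⊕ Fin m → F) :=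
    ⟨_, rfl⟩
  have hs₀W : ∀ i, s₀ i ∈ W := by
    intro i
    rw [hs₀]
    exact (b i).2
  have hs₀li : LinearIndependent F s₀ := by
    rw [hs₀]
    exact b.linearIndependent.map' W.subtype (Submodule.ker_subtype W)
  have hti_of : ∀ s : Fin k → (Fin m ⊕ Fin m → F), (∀ i, s i ∈ W) →
      ∀ i j, sB m F (s i) (s j) = 0 := by
    intro s hs i j
    rw [sB_apply]
    exact hW _ (hs i) _ (hs j)
  have hsmul : ∀ (g : symplecticGroup (Fin m) F) (s : Fin k → (Fin m ⊕ Fin m → F)) (i : Fin k),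
      (g • s) i = (g : Matrix (Fin m ⊕ Fin m) (Fin m ⊕ Fin m) F) *ᵥ s i := fun g s i => rfl
  -- the orbit of the full group
  have horbG : MulAction.orbit (symplecticGroup (Fin m) F) s₀
      = {s | LinearIndependent F s ∧ ∀ i j, sB m F (s i) (s j) = 0} := by
    ext s
    constructor
    · rintro ⟨g, rfl⟩
      refine ⟨li_mulVec g hs₀li, fun i j => ?_⟩
      show sB m F ((g : Matrix (Fin m ⊕ Fin m) (Fin m ⊕ Fin m) F) *ᵥ s₀ i)
        ((g : Matrix (Fin m ⊕ Fin m) (Fin m ⊕ Fin m) F) *ᵥ s₀ j) = 0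
      rw [sB_apply, Cfsg.Agent.Helper7.Symp.sympForm_mulVec, ← sB_apply]
      exact hti_of s₀ hs₀W i j
    · rintro ⟨hs1, hs2⟩
      obtain ⟨g, hg⟩ := exists_symp_frame_map s₀ s hs₀li (hti_of s₀ hs₀W) hs1 hs2
      exact ⟨g, funext hg⟩
  -- the orbit of the stabiliser of `W`
  have horbS : MulAction.orbit ↥S s₀ = {s | LinearIndependent F s ∧ ∀ i, s i ∈ W} := by
    ext s
    constructor
    · rintro ⟨g, rfl⟩
      refine ⟨li_mulVec g.1 hs₀li, fun i => ?_⟩
      have hg : (g : symplecticGroup (Fin m) F) ∈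
          Cfsg.stabilizing (Cfsg.spToMat m F) (W : Set (Fin m ⊕ Fin m → F)) := by
        rw [← hS]
        exact g.2
      exact (hg (s₀ i)).mp (hs₀W i)
    · rintro ⟨hs1, hs2⟩
      obtain ⟨g, hg⟩ := exists_symp_frame_map s₀ s hs₀li (hti_of s₀ hs₀W) hs1 (hti_of s hs2)
      have hgS : g ∈ S := by
        rw [hS]
        exact mem_stabilizing_of_frames W hWk hs₀li hs₀W hs1 hs2 g hg
      exact ⟨⟨g, hgS⟩, funext hg⟩
  -- the two stabilisers of the frame agree
  have estab : ↥(MulAction.stabilizer ↥S s₀) ≃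
      ↥(MulAction.stabilizer (symplecticGroup (Fin m) F) s₀) :=
    { toFun := fun x => ⟨x.1.1, by
        have := x.2
        rw [MulAction.mem_stabilizer_iff] at this ⊢
        exact this⟩
      invFun := fun y => ⟨⟨y.1, by
        rw [hS]
        have h1 := MulAction.mem_stabilizer_iff.mp y.2
        exact mem_stabilizing_of_frames W hWk hs₀li hs₀W hs₀li hs₀W y.1
          (fun i => congrFun h1 i)⟩, by
        rw [MulAction.mem_stabilizer_iff]
        exact MulAction.mem_stabilizer_iff.mp y.2⟩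
      left_inv := fun x => rfl
      right_inv := fun y => rfl }
  have h1 := Subgroup.card_eq_card_quotient_mul_card_subgroup
    (MulAction.stabilizer (symplecticGroup (Fin m) F) s₀)
  have h2 : Nat.card (symplecticGroup (Fin m) F ⧸
      MulAction.stabilizer (symplecticGroup (Fin m) F) s₀) =
      Nat.card (MulAction.orbit (symplecticGroup (Fin m) F) s₀) :=
    Nat.card_congr (MulAction.orbitEquivQuotientStabilizer _ _).symm
  have h3 := Subgroup.card_eq_card_quotient_mul_card_subgroup (MulAction.stabilizer ↥S s₀)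
  have h4 : Nat.card (↥S ⧸ MulAction.stabilizer ↥S s₀) = Nat.card (MulAction.orbit ↥S s₀) :=
    Nat.card_congr (MulAction.orbitEquivQuotientStabilizer _ _).symm
  have h5 : Nat.card (MulAction.orbit (symplecticGroup (Fin m) F) s₀) = Nat.card (TIF m F k) := by
    rw [horbG]
    rfl
  have h6 : Nat.card (MulAction.orbit ↥S s₀)
      = ∏ i : Fin k, (Fintype.card F ^ k - Fintype.card F ^ (i : ℕ)) := by
    rw [horbS]
    have hcl := card_linearIndependent (K := F) (V := W) (k := k) (by rw [hWk])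
    rw [hWk] at hcl
    rw [← hcl]
    symm
    refine Nat.card_congr ⟨fun t => ⟨fun i => (t.1 i : Fin m ⊕ Fin m → F),
        t.2.map' W.subtype (Submodule.ker_subtype W), fun i => (t.1 i).2⟩,
      fun s => ⟨fun i => ⟨s.1 i, s.2.2 i⟩, ?_⟩, fun t => rfl, fun s => rfl⟩
    apply LinearIndependent.of_comp W.subtype
    exact s.2.1
  rw [h3, h4, h6, Nat.card_congr estab, h1, h2, h5]
  ring

end Cfsg.Agent.Helper8.SpStab
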