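import Cfsg.Agent.Helper8.SemiSExpo
set_option autoImplicit false

namespace Cfsg.Agent.Helper8.SemiS

open Polynomial Module Matrix

variable {F : Type*} [Field F] [Fintype F]

theorem orderOf_unitOfCoprime {r m : ℕ} (h : m.Coprime r) :
    orderOf (ZMod.unitOfCoprime m h) = orderOf ((m : ℕ) : ZMod r) := by
  rw [← orderOf_units, ZMod.coe_unitOfCoprime]

open scoped Classical in
/-- enumeration of the irreducible factors of the `r`-th cyclotomic polynomial over a finite
field, `r` a prime different from the characteristic -/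
theorem exists_cyclotomic_factors (p : ℕ) [Fact p.Prime] [CharP F p] (r : ℕ) (hr : r.Prime)
    (hrp : r ≠ p) (i t : ℕ) (hi : i = orderOf ((Fintype.card F : ℕ) : ZMod r))
    (ht : t * i = r - 1) :
    ∃ Q' : Fin t → F[X], Function.Injective Q' ∧
      (∀ j, (Q' j).Monic ∧ Irreducible (Q' j) ∧ (Q' j).natDegree = i ∧ Q' j ∣ cyclotomic r F) ∧
      (∀ P : F[X], P.Monic → Irreducible P → P ∣ cyclotomic r F → ∃ j, P = Q' j) := by
  have hp : p.Prime := Fact.out
  obtain ⟨f, hf⟩ := FiniteField.card F p
  have hK : Fintype.card F = p ^ (f : ℕ) := hf.2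
  have hn : p.Coprime r := (Nat.coprime_primes hp hr).mpr (Ne.symm hrp)
  have hord : orderOf (ZMod.unitOfCoprime (p ^ (f : ℕ)) (hn.pow_left f)) = i := by
    rw [orderOf_unitOfCoprime, hi, hK]
  have hipos : 0 < i := by
    rw [← hord]
    exact orderOf_pos _
  let S := (UniqueFactorizationMonoid.normalizedFactors (cyclotomic r F)).toFinset
  have hS : S.card = t := by
    have := Polynomial.normalizedFactors_cyclotomic_card (K := F) (n := r) hK hn
    rw [hord, Nat.totient_prime hr, ← ht, Nat.mul_div_cancel _ hipos] at this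
    exact this
  let e : S ≃ Fin t := S.equivFinOfCardEq hS
  have hmem : ∀ j, (e.symm j).1 ∈ UniqueFactorizationMonoid.normalizedFactors (cyclotomic r F) :=
    fun j => Multiset.mem_toFinset.mp (e.symm j).2
  refine ⟨fun j => (e.symm j).1, ?_, ?_, ?_⟩
  · intro j j' h
    exact e.symm.injective (Subtype.ext h)
  · intro j
    have hirr := UniqueFactorizationMonoid.irreducible_of_normalized_factor _ (hmem j)
    refine ⟨?_, hirr, ?_, UniqueFactorizationMonoid.dvd_of_mem_normalizedFactors (hmem j)⟩
    · exact (Polynomial.normalize_eq_self_iff_monic hirr.ne_zero).mp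
        (UniqueFactorizationMonoid.normalize_normalized_factor _ (hmem j))
    · rw [Polynomial.natDegree_of_mem_normalizedFactors_cyclotomic hK hn (hmem j), hord]
  · intro P hP hirr hdvd
    obtain ⟨q, hq, hPq⟩ := UniqueFactorizationMonoid.exists_mem_normalizedFactors_of_dvd
      (cyclotomic_ne_zero r F) hirr hdvd
    have hqirr := UniqueFactorizationMonoid.irreducible_of_normalized_factor _ hq
    have hqmon : q.Monic := (Polynomial.normalize_eq_self_iff_monic hqirr.ne_zero).mp
        (UniqueFactorizationMonoid.normalize_normalized_factor _ hq)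
    have hPq' : P = q := Polynomial.eq_of_monic_of_associated hP hqmon hPq
    refine ⟨e ⟨q, Multiset.mem_toFinset.mpr hq⟩, ?_⟩
    change P = (e.symm (e ⟨q, Multiset.mem_toFinset.mpr hq⟩)).1
    rw [Equiv.symm_apply_apply]
    exact hPq'


omit [Fintype F] in
theorem squarefree_X_pow_sub_one (p : ℕ) [Fact p.Prime] [CharP F p] (r : ℕ) (hr : r.Prime)
    (hrp : r ≠ p) : Squarefree (X ^ r - 1 : F[X]) := by
  have hp : p.Prime := Fact.out
  have hm : ((r : ℕ) : F) ≠ 0 := by
    intro h0
    have h1 := (CharP.cast_eq_zero_iff F p r).mp h0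
    exact hrp ((Nat.prime_dvd_prime_iff_eq hp hr).mp h1).symm
  have := Polynomial.separable_X_pow_sub_C (1 : F) hm one_ne_zero
  rw [map_one] at this
  exact this.squarefree

/-- enumeration of the irreducible factors of `X ^ r - 1` over a finite field, `r` a prime
different from the characteristic -/
theorem exists_factors_X_pow_sub_one (p : ℕ) [Fact p.Prime] [CharP F p] (r : ℕ) (hr : r.Prime)
    (hrp : r ≠ p) (i t : ℕ) (hi : i = orderOf ((Fintype.card F : ℕ) : ZMod r))
    (ht : t * i = r - 1) :
    ∃ Q : Option (Fin t) → F[X], Function.Injective Q ∧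
      (∀ j, (Q j).Monic ∧ Irreducible (Q j)) ∧ Q none = X - 1 ∧
      (∀ j, (Q (some j)).natDegree = i) ∧ (∀ j, Q j ∣ X ^ r - 1) ∧
      (∀ P : F[X], P.Monic → Irreducible P → P ∣ X ^ r - 1 → ∃ j, P = Q j) := by
  have : Fact r.Prime := ⟨hr⟩
  obtain ⟨Q', hinj, hQ', hall⟩ := exists_cyclotomic_factors (F := F) p r hr hrp i t hi ht
  have hsq := squarefree_X_pow_sub_one (F := F) p r hr hrp
  have hfac : cyclotomic r F * (X - 1) = X ^ r - 1 := cyclotomic_prime_mul_X_sub_one F r
  have hX1 : (X - 1 : F[X]) = X - C 1 := by rw [map_one]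
  have hmon1 : (X - 1 : F[X]).Monic := by rw [hX1]; exact monic_X_sub_C 1
  have hirr1 : Irreducible (X - 1 : F[X]) := by rw [hX1]; exact irreducible_X_sub_C 1
  have hne : ∀ j, (X - 1 : F[X]) ≠ Q' j := by
    intro j h
    have h1 : (X - 1 : F[X]) ∣ cyclotomic r F := h ▸ (hQ' j).2.2.2
    have h2 : (X - 1 : F[X]) * (X - 1) ∣ X ^ r - 1 := by
      rw [← hfac]
      exact mul_dvd_mul_right h1 _
    exact hirr1.not_isUnit (hsq _ h2)
  refine ⟨fun o => Option.elim o (X - 1) Q', ?_, ?_, rfl, ?_, ?_, ?_⟩
  · intro o o' h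
    cases o with
    | none =>
      cases o' with
      | none => rfl
      | some j' => exact absurd h (hne j')
    | some j =>
      cases o' with
      | none => exact absurd h.symm (hne j)
      | some j' => exact congrArg some (hinj h)
  · intro o
    cases o with
    | none => exact ⟨hmon1, hirr1⟩
    | some j => exact ⟨(hQ' j).1, (hQ' j).2.1⟩
  · intro j
    exact (hQ' j).2.2.1
  · intro o
    cases o with
    | none => exact ⟨cyclotomic r F, by rw [← hfac, mul_comm]; rfl⟩
    | some j => exact dvd_trans (hQ' j).2.2.2 ⟨X - 1, hfac.symm⟩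
  · intro P hP hirr hdvd
    rw [← hfac] at hdvd
    rcases hirr.prime.dvd_or_dvd hdvd with h | h
    · obtain ⟨j, hj⟩ := hall P hP hirr h
      exact ⟨some j, hj⟩
    · refine ⟨none, ?_⟩
      exact Polynomial.eq_of_monic_of_associated hP hmon1
        (hirr.associated_of_dvd hirr1 h)

end Cfsg.Agent.Helper8.SemiS
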