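import Mathlib
import Cfsg.Agent.Helper8.QuadForm
set_option autoImplicit false

/-!
Any two nondegenerate quadratic forms on an odd-dimensional space over a finite field of odd
characteristic are similar.
-/

namespace Cfsg.Agent.Helper8.OrR

open Module Cfsg.Agent.Helper8.QuadForm

universe u v

variable {F : Type v} [Field F]
variable {V : Type u} [AddCommGroup V] [Module F V]

/-- a hyperbolic family together with an orthogonal nonsingular vector is a basis. -/
theorem exists_odd_basis [FiniteDimensional F V] (Q : QuadraticForm F V) {m : ℕ}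
    {e f : Fin m → V} (h : IsHyp Q e f) (hV : finrank F V = 2 * m + 1) {x : V}
    (hpx : ∀ i, QuadraticMap.polar Q (e i) x = 0 ∧ QuadraticMap.polar Q (f i) x = 0)
    (hx : QuadraticMap.polar Q x x ≠ 0) :
    ∃ b : Basis ((Fin m ⊕ Fin m) ⊕ Unit) F V, ⇑b = Sum.elim (Sum.elim e f) (fun _ => x) := by
  classical
  have hli : LinearIndependent F (Sum.elim (Sum.elim e f) (fun _ : Unit => x)) := by
    refine linearIndependent_of_dual Q _
      (Sum.elim (Sum.elim f e) (fun _ : Unit => x))
      (Sum.elim (fun _ => 1) (fun _ => QuadraticMap.polar Q x x)) ?_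
      (dual_sum Q (h.dual Q) (fun i j => ?_) ?_ ?_)
    · rintro (i | i)
      · exact one_ne_zero
      · exact hx
    · rw [if_pos (Subsingleton.elim i j)]
    · intro i j
      rcases i with i | i
      · exact (hpx i).1
      · exact (hpx i).2
    · intro i j
      rcases j with j | j
      · rw [QuadraticMap.polar_comm]; exact (hpx j).2
      · rw [QuadraticMap.polar_comm]; exact (hpx j).1
  exact exists_basis_of_li hli (by simp [hV]; omega)

theorem exists_similarity_odd [Finite F] [FiniteDimensional F V] (m : ℕ)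
    (hV : finrank F V = 2 * m + 1) (Q₁ Q₂ : QuadraticForm F V) (h₁ : Nondeg Q₁)
    (h₂ : Nondeg Q₂) :
    ∃ (c : F) (g : V ≃ₗ[F] V), c ≠ 0 ∧ ∀ v, Q₂ (g v) = c * Q₁ v := by
  obtain ⟨e, f, W, hhyp, hperp, hWdim, hWnd⟩ :=
    exists_hyp_family m Q₁ h₁ 1 le_rfl hV
  obtain ⟨e', f', W', hhyp', hperp', hW'dim, hW'nd⟩ :=
    exists_hyp_family m Q₂ h₂ 1 le_rfl hV
  obtain ⟨x, hxW, hxx, hx⟩ := ne_zero_of_line Q₁ hWdim hWnd
  obtain ⟨x', hx'W, hxx', hx'⟩ := ne_zero_of_line Q₂ hW'dim hW'nd
  obtain ⟨b, hb⟩ := exists_odd_basis Q₁ hhyp hV (hperp x hxW) hxx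
  set c : F := Q₂ x' / Q₁ x with hc
  have hc0 : c ≠ 0 := div_ne_zero hx' hx
  have hcx : c * Q₁ x = Q₂ x' := by rw [hc, div_mul_cancel₀ _ hx]
  have hnd : Nondeg (c • Q₁) := by
    intro v hv
    apply h₁ v
    intro w
    have h1 : QuadraticMap.polar (c • ⇑Q₁) v w = 0 := hv w
    rw [QuadraticMap.polar_smul, smul_eq_mul] at h1
    rcases mul_eq_zero.mp h1 with h | h
    · exact absurd h hc0
    · exact h
  obtain ⟨h1, h2, h3⟩ := hhyp
  obtain ⟨h1', h2', h3'⟩ := hhyp'
  have hp := hperp x hxW
  have hp' := hperp' x' hx'W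
  obtain ⟨g, hg, -⟩ := exists_isometry (c • Q₁) Q₂ hnd b
    (Sum.elim (Sum.elim (fun i => c • e' i) f') (fun _ => x'))
    (by
      intro i
      rw [hb]
      change _ = c * Q₁ _
      rcases i with (i | i) | i
      · simp only [Sum.elim_inl]
        rw [QuadraticMap.map_smul, (h1' i).1, (h1 i).1, mul_zero, smul_zero]
      · simp only [Sum.elim_inl, Sum.elim_inr]
        rw [(h1' i).2, (h1 i).2, mul_zero]
      · simp only [Sum.elim_inr]
        rw [hcx])
    (by
      intro i j
      rw [hb]
      change _ = QuadraticMap.polar (c • ⇑Q₁) _ _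
      rw [QuadraticMap.polar_smul, smul_eq_mul]
      rcases i with (i | i) | i <;> rcases j with (j | j) | j <;>
        simp only [Sum.elim_inl, Sum.elim_inr]
      · rw [QuadraticMap.polar_smul_left, QuadraticMap.polar_smul_right, (h3' i j).1, (h3 i j).1]
        simp
      · rw [QuadraticMap.polar_smul_left, h2' i j, h2 i j, smul_eq_mul]
      · rw [QuadraticMap.polar_smul_left, (hp' i).1, (hp i).1, smul_zero, mul_zero]
      · rw [QuadraticMap.polar_smul_right, QuadraticMap.polar_comm, h2' j i,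
          QuadraticMap.polar_comm, h2 j i, smul_eq_mul]
      · rw [(h3' i j).2, (h3 i j).2, mul_zero]
      · rw [(hp' i).2, (hp i).2, mul_zero]
      · rw [QuadraticMap.polar_smul_right, QuadraticMap.polar_comm, (hp' j).1,
          QuadraticMap.polar_comm, (hp j).1, smul_zero, mul_zero]
      · rw [QuadraticMap.polar_comm, (hp' j).2, QuadraticMap.polar_comm, (hp j).2, mul_zero]
      · rw [polar_self', polar_self', ← hcx]
        ring)
  exact ⟨c, g, hc0, fun v => hg v⟩

end Cfsg.Agent.Helper8.OrR
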