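import Mathlib
import Cfsg.Agent.Helper8.OmegaCrit

set_option autoImplicit false

/-!
Isometries which negate a family of pairwise orthogonal nonsingular vectors and fix their
orthogonal complement: they are the product of the reflections in these vectors, which decides
their membership in the commutator subgroup of the orthogonal group.
-/

namespace Cfsg.Agent.Helper8.OmegaDiag

open Module Cfsg.Agent.Helper8.QuadForm Cfsg.Agent.Helper8.WittQuad Cfsg.Agent.Helper8.OrthOrder
  Cfsg.Agent.Helper8.Reflections Cfsg.Agent.Helper8.ReflMatrix Cfsg.Agent.Helper8.SpinorSign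
  Cfsg.Agent.Helper8.OmegaOdd Cfsg.Agent.Helper8.OmegaCrit

section Abstract

variable {F : Type*} [Field F] {V : Type*} [AddCommGroup V] [Module F V]

/-- a linear map negating pairwise orthogonal nonsingular vectors and fixing the vectors orthogonal
to them is the product of the reflections. -/
theorem eq_prod_refl (h2 : (2 : F) ≠ 0) (Q : QuadraticForm F V) (l : List V) :
    l.Pairwise (fun u w => QuadraticMap.polar Q u w = 0) → (∀ z ∈ l, Q z ≠ 0) →
    ∀ D : V →ₗ[F] V, (∀ v ∈ l, D v = -v) →
      (∀ x, (∀ v ∈ l, QuadraticMap.polar Q v x = 0) → D x = x) →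
      ∀ x, D x = (l.map (refl Q)).prod x := by
  induction l with
  | nil =>
    intro _ _ D _ hD2 x
    rw [List.map_nil, List.prod_nil]
    exact hD2 x (by simp)
  | cons z t ih =>
    intro hpw hl D hD1 hD2 x
    rw [List.pairwise_cons] at hpw
    obtain ⟨hzt, hpwt⟩ := hpw
    have hz : Q z ≠ 0 := hl z (by simp)
    have hzz : QuadraticMap.polar Q z z ≠ 0 := by
      rw [polar_self']
      exact mul_ne_zero h2 hz
    have key := ih hpwt (fun w hw => hl w (by simp [hw]))
      ((refl Q z : V →ₗ[F] V) ∘ₗ D)
      (by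
        intro v hv
        show refl Q z (D v) = -v
        rw [hD1 v (by simp [hv]), map_neg, refl_of_perp Q (hzt v hv)])
      (by
        intro y hy
        show refl Q z (D y) = y
        obtain ⟨c, hc⟩ : ∃ c, c = QuadraticMap.polar Q z y / QuadraticMap.polar Q z z := ⟨_, rfl⟩
        have hy'z : QuadraticMap.polar Q z (y - c • z) = 0 := by
          rw [QuadraticMap.polar_sub_right, QuadraticMap.polar_smul_right, smul_eq_mul, hc,
            div_mul_cancel₀ _ hzz, sub_self]
        have hDy' : D (y - c • z) = y - c • z := by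
          apply hD2
          intro v hv
          rcases List.mem_cons.mp hv with rfl | hv
          · exact hy'z
          · rw [QuadraticMap.polar_sub_right, QuadraticMap.polar_smul_right, hy v hv,
              QuadraticMap.polar_comm Q v z, hzt v hv]
            simp
        have hDy : D y = y - c • z - c • z := by
          have : y = (y - c • z) + c • z := by abel
          nth_rewrite 1 [this]
          rw [map_add, hDy', map_smul, hD1 z (by simp), smul_neg]
          abel
        rw [hDy, map_sub, refl_of_perp Q hy'z, map_smul, refl_self Q hz, smul_neg]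
        abel)
      x
    have : D x = refl Q z (refl Q z (D x)) := (refl_refl Q z (D x)).symm
    rw [this, List.map_cons, List.prod_cons]
    show refl Q z (refl Q z (D x)) = refl Q z ((t.map (refl Q)).prod x)
    congr 1

end Abstract

section Matrix

variable {F : Type*} [Field F] [Fintype F] {ι : Type} [Fintype ι] [DecidableEq ι]
  (Q : QuadraticForm F (ι → F))

omit [Fintype F] in
theorem isomEquiv_prod_reflElt (l : List (ι → F)) (x : ι → F) :
    (isomEquiv Q (l.map (reflElt Q)).prod).1 x = (l.map (refl Q)).prod x := by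
  induction l generalizing x with
  | nil => simp
  | cons z t ih =>
    rw [List.map_cons, List.prod_cons, map_mul, isomEquiv_reflElt, List.map_cons, List.prod_cons]
    show refl Q z ((isomEquiv Q (t.map (reflElt Q)).prod).1 x) = refl Q z ((t.map (refl Q)).prod x)
    rw [ih]

/-- a matrix negating pairwise orthogonal nonsingular vectors and fixing their orthogonal complement
is the matrix of an element of the commutator subgroup of the orthogonal group iff the number of
vectors is even and the product of their norms is a square. -/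
theorem exists_mem_iff (h2 : (2 : F) ≠ 0) (hQ : (QuadraticMap.polarBilin Q).Nondegenerate)
    (hn : 2 ≤ Fintype.card ι) (l : List (ι → F))
    (hpw : l.Pairwise (fun u w => QuadraticMap.polar Q u w = 0)) (hl : ∀ z ∈ l, Q z ≠ 0)
    (D : Matrix ι ι F) (hD1 : ∀ v ∈ l, D.mulVec v = -v)
    (hD2 : ∀ x, (∀ v ∈ l, QuadraticMap.polar Q v x = 0) → D.mulVec x = x) :
    (∃ g : ↥(Cfsg.isometryGroup F ⇑Q), g ∈ commutator ↥(Cfsg.isometryGroup F ⇑Q) ∧
      ((g : GL ι F) : Matrix ι ι F) = D) ↔
    (Even l.length ∧ IsSquare (l.map (fun v => Q v)).prod) := by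
  have hD : (((l.map (reflElt Q)).prod : ↥(Cfsg.isometryGroup F ⇑Q)) : GL ι F).1 = D := by
    apply matrix_ext
    intro x
    rw [← isomEquiv_apply, isomEquiv_prod_reflElt]
    have := eq_prod_refl h2 Q l hpw hl (Matrix.mulVecLin D) hD1 hD2 x
    rw [← this]
    rfl
  rw [← prod_reflElt_mem_iff Q h2 hQ hn l hl]
  constructor
  · rintro ⟨g, hg, hgD⟩
    have : g = (l.map (reflElt Q)).prod := by
      apply Subtype.ext
      apply Units.ext
      rw [hgD]
      exact hD.symm
    rw [← this]
    exact hg
  · intro h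
    exact ⟨_, h, hD⟩

end Matrix

section Hyp

variable {F : Type*} [Field F] {V : Type*} [AddCommGroup V] [Module F V]

/-- the vectors `e j + f j`, `e j - f j` for `j` in a list. -/
def hypVecs {m : ℕ} (e f : Fin m → V) (L : List (Fin m)) : List V :=
  L.flatMap (fun j => [e j + f j, e j - f j])

theorem hypVecs_cons {m : ℕ} (e f : Fin m → V) (j : Fin m) (L : List (Fin m)) :
    hypVecs e f (j :: L) = (e j + f j) :: (e j - f j) :: hypVecs e f L := by
  unfold hypVecs
  rw [List.flatMap_cons]
  rfl

theorem mem_hypVecs {m : ℕ} (e f : Fin m → V) (L : List (Fin m)) (v : V) :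
    v ∈ hypVecs e f L ↔ ∃ j ∈ L, v = e j + f j ∨ v = e j - f j := by
  unfold hypVecs
  rw [List.mem_flatMap]
  simp only [List.mem_cons, List.not_mem_nil, or_false]

theorem length_hypVecs {m : ℕ} (e f : Fin m → V) (L : List (Fin m)) :
    (hypVecs e f L).length = 2 * L.length := by
  induction L with
  | nil => rfl
  | cons j t ih =>
    rw [hypVecs_cons, List.length_cons, List.length_cons, ih, List.length_cons]
    ring

variable (Q : QuadraticForm F V) {m : ℕ} {e f : Fin m → V}

theorem Q_add_of_isHyp (h : IsHyp Q e f) (j : Fin m) : Q (e j + f j) = 1 := by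
  obtain ⟨h1, h2, h3⟩ := h
  rw [QuadraticMap.map_add Q, (h1 j).1, (h1 j).2, h2 j j, if_pos rfl]
  ring

theorem Q_sub_of_isHyp (h : IsHyp Q e f) (j : Fin m) : Q (e j - f j) = -1 := by
  obtain ⟨h1, h2, h3⟩ := h
  rw [sub_eq_add_neg, QuadraticMap.map_add Q, QuadraticMap.map_neg, QuadraticMap.polar_neg_right,
    (h1 j).1, (h1 j).2, h2 j j, if_pos rfl]
  ring

theorem polar_pm_of_isHyp (h : IsHyp Q e f) {j k : Fin m} (hjk : j ≠ k) (a b : F) :
    QuadraticMap.polar Q (e j + a • f j) (e k + b • f k) = 0 := by
  obtain ⟨h1, h2, h3⟩ := h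
  have h2' : QuadraticMap.polar Q (f j) (e k) = 0 := by
    rw [QuadraticMap.polar_comm, h2 k j, if_neg (Ne.symm hjk)]
  rw [QuadraticMap.polar_add_left, QuadraticMap.polar_add_right, QuadraticMap.polar_add_right,
    QuadraticMap.polar_smul_left, QuadraticMap.polar_smul_left, QuadraticMap.polar_smul_right,
    QuadraticMap.polar_smul_right, (h3 j k).1, (h3 j k).2, h2 j k, if_neg hjk, h2']
  simp

theorem hypVecs_pairwise (h : IsHyp Q e f) (L : List (Fin m)) (hL : L.Nodup) :
    (hypVecs e f L).Pairwise (fun u w => QuadraticMap.polar Q u w = 0) := by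
  induction L with
  | nil => exact List.Pairwise.nil
  | cons j t ih =>
    rw [List.nodup_cons] at hL
    obtain ⟨hjt, ht⟩ := hL
    rw [hypVecs_cons, List.pairwise_cons, List.pairwise_cons]
    have hperp : ∀ (a : F), ∀ w ∈ hypVecs e f t, QuadraticMap.polar Q (e j + a • f j) w = 0 := by
      intro a w hw
      obtain ⟨k, hk, hw⟩ := (mem_hypVecs e f t w).mp hw
      have hjk : j ≠ k := by
        rintro rfl
        exact hjt hk
      rcases hw with rfl | rfl
      · have := polar_pm_of_isHyp Q h hjk a 1
        rwa [one_smul] at this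
      · have := polar_pm_of_isHyp Q h hjk a (-1)
        rwa [neg_smul, one_smul, ← sub_eq_add_neg] at this
    refine ⟨?_, ⟨?_, ih ht⟩⟩
    · intro w hw
      rcases List.mem_cons.mp hw with rfl | hw
      · obtain ⟨h1, h2, h3⟩ := h
        have h2' : QuadraticMap.polar Q (f j) (e j) = 1 := by
          rw [QuadraticMap.polar_comm, h2 j j, if_pos rfl]
        rw [QuadraticMap.polar_add_left, QuadraticMap.polar_sub_right,
          QuadraticMap.polar_sub_right, (h3 j j).1, (h3 j j).2, h2 j j, if_pos rfl, h2']
        ring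
      · have := hperp 1 w hw
        rwa [one_smul] at this
    · intro w hw
      have := hperp (-1) w hw
      rwa [neg_smul, one_smul, ← sub_eq_add_neg] at this

theorem hypVecs_ne_zero (h : IsHyp Q e f) (L : List (Fin m)) :
    ∀ z ∈ hypVecs e f L, Q z ≠ 0 := by
  intro z hz
  obtain ⟨j, -, hz⟩ := (mem_hypVecs e f L z).mp hz
  rcases hz with rfl | rfl
  · rw [Q_add_of_isHyp Q h]
    exact one_ne_zero
  · rw [Q_sub_of_isHyp Q h]
    exact neg_ne_zero.mpr one_ne_zero

theorem prod_hypVecs (h : IsHyp Q e f) (L : List (Fin m)) :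
    ((hypVecs e f L).map (fun v => Q v)).prod = (-1) ^ L.length := by
  induction L with
  | nil => simp [hypVecs]
  | cons j t ih =>
    rw [hypVecs_cons, List.map_cons, List.map_cons, List.prod_cons, List.prod_cons, ih,
      Q_add_of_isHyp Q h, Q_sub_of_isHyp Q h, List.length_cons, pow_succ]
    ring

end Hyp

section HypMatrix

variable {F : Type*} [Field F] [Fintype F] {ι : Type} [Fintype ι] [DecidableEq ι]
  (Q : QuadraticForm F (ι → F))

/-- a matrix negating the hyperbolic pairs `e j, f j`, `j ∈ L`, and fixing their orthogonal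
complement belongs to an element of the commutator subgroup iff `(-1) ^ L.length` is a square. -/
theorem hyp_negation_mem_iff (h2 : (2 : F) ≠ 0) (hQ : (QuadraticMap.polarBilin Q).Nondegenerate)
    (hn : 2 ≤ Fintype.card ι) {m : ℕ} {e f : Fin m → (ι → F)} (hhyp : IsHyp Q e f)
    (L : List (Fin m)) (hL : L.Nodup) (D : Matrix ι ι F)
    (hDe : ∀ j ∈ L, D.mulVec (e j) = -e j) (hDf : ∀ j ∈ L, D.mulVec (f j) = -f j)
    (hDx : ∀ x, (∀ j ∈ L, QuadraticMap.polar Q (e j) x = 0 ∧ QuadraticMap.polar Q (f j) x = 0) →
      D.mulVec x = x) :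
    (∃ g : ↥(Cfsg.isometryGroup F ⇑Q), g ∈ commutator ↥(Cfsg.isometryGroup F ⇑Q) ∧
      ((g : GL ι F) : Matrix ι ι F) = D) ↔ IsSquare ((-1 : F) ^ L.length) := by
  rw [exists_mem_iff Q h2 hQ hn (hypVecs e f L) (hypVecs_pairwise Q hhyp L hL)
    (hypVecs_ne_zero Q hhyp L) D, prod_hypVecs Q hhyp, length_hypVecs]
  · constructor
    · exact fun h => h.2
    · exact fun h => ⟨even_two_mul _, h⟩
  · intro v hv
    obtain ⟨j, hj, hv⟩ := (mem_hypVecs e f L v).mp hv
    rcases hv with rfl | rfl
    · rw [Matrix.mulVec_add, hDe j hj, hDf j hj]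
      abel
    · rw [Matrix.mulVec_sub, hDe j hj, hDf j hj]
      abel
  · intro x hx
    apply hDx
    intro j hj
    have h1 := hx (e j + f j) ((mem_hypVecs e f L _).mpr ⟨j, hj, Or.inl rfl⟩)
    have h3 := hx (e j - f j) ((mem_hypVecs e f L _).mpr ⟨j, hj, Or.inr rfl⟩)
    rw [QuadraticMap.polar_add_left] at h1
    rw [QuadraticMap.polar_sub_left] at h3
    constructor
    · have : (2 : F) * QuadraticMap.polar Q (e j) x = 0 := by linear_combination h1 + h3
      exact (mul_eq_zero.mp this).resolve_left h2
    · have : (2 : F) * QuadraticMap.polar Q (f j) x = 0 := by linear_combination h1 - h3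
      exact (mul_eq_zero.mp this).resolve_left h2

end HypMatrix

end Cfsg.Agent.Helper8.OmegaDiag
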