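import Mathlib

set_option autoImplicit false

namespace Cfsg.Agent.Helper8

open Matrix

/-- If a two-argument function on `κ → F` is given by a matrix `H` (i.e. `f u v = u ⬝ᵥ H *ᵥ v`),
then the determinant of its Gram matrix in any basis is `d ^ 2 * det H` for some `d ≠ 0`. -/
theorem gram_det {F : Type*} [Field F] {κ ι : Type*} [Fintype κ] [DecidableEq κ] [Fintype ι]
    [DecidableEq ι] (H : Matrix κ κ F) (f : (κ → F) → (κ → F) → F)
    (hf : ∀ u v, f u v = u ⬝ᵥ (H *ᵥ v)) (b : Module.Basis ι F (κ → F)) :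
    ∃ d : F, d ≠ 0 ∧ (Matrix.of (fun i j : ι => f (b i) (b j))).det = d ^ 2 * H.det := by
  let e : ι ≃ κ := b.indexEquiv (Pi.basisFun F κ)
  let b' : Module.Basis κ F (κ → F) := b.reindex e
  let P : Matrix κ κ F := (Pi.basisFun F κ).toMatrix b'
  have hP : ∀ k j, P k j = b (e.symm j) k := by
    intro k j
    simp [P, b', Module.Basis.toMatrix_apply]
  haveI : Invertible P := Module.Basis.invertibleToMatrix _ _
  have hdetP : P.det ≠ 0 := by
    have := Matrix.isUnit_det_of_invertible P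
    exact this.ne_zero
  refine ⟨P.det, hdetP, ?_⟩
  have hG : (Matrix.of (fun i j : ι => f (b i) (b j))) =
      (Pᵀ * H * P).submatrix e e := by
    ext i j
    rw [Matrix.submatrix_apply, Matrix.of_apply, hf, Matrix.mul_assoc, Matrix.mul_apply]
    simp only [dotProduct, Matrix.transpose_apply, Matrix.mulVec, Matrix.mul_apply, hP,
      Equiv.symm_apply_apply]
  rw [hG, Matrix.det_submatrix_equiv_self, Matrix.det_mul, Matrix.det_mul, Matrix.det_transpose]
  ring

/-- the hyperbolic Gram matrix `[[0, 1], [1, 0]]` -/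
def hypMat (F : Type*) [Field F] (m : ℕ) : Matrix (Fin m ⊕ Fin m) (Fin m ⊕ Fin m) F :=
  Matrix.fromBlocks (0 : Matrix (Fin m) (Fin m) F) (1 : Matrix (Fin m) (Fin m) F)
    (1 : Matrix (Fin m) (Fin m) F) (0 : Matrix (Fin m) (Fin m) F)

/-- determinant of the hyperbolic Gram matrix `[[0, 1], [1, 0]]` -/
theorem det_hypMat {F : Type*} [Field F] (m : ℕ) : (hypMat F m).det = (-1) ^ m := by
  have h1 : hypMat F m *
      (Matrix.fromBlocks (1 : Matrix (Fin m) (Fin m) F) (0 : Matrix (Fin m) (Fin m) F)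
        (1 : Matrix (Fin m) (Fin m) F) (1 : Matrix (Fin m) (Fin m) F)) =
      Matrix.fromBlocks (1 : Matrix (Fin m) (Fin m) F) (1 : Matrix (Fin m) (Fin m) F)
        (1 : Matrix (Fin m) (Fin m) F) (0 : Matrix (Fin m) (Fin m) F) := by
    rw [hypMat, Matrix.fromBlocks_multiply]
    simp
  have h2 := congrArg Matrix.det h1
  rw [Matrix.det_mul, Matrix.det_fromBlocks_zero₁₂, Matrix.det_one, Matrix.det_fromBlocks_one₁₁] at h2
  simp only [mul_one, zero_sub, Matrix.det_neg, Matrix.det_one, Fintype.card_fin] at h2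
  exact h2

end Cfsg.Agent.Helper8
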