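import Mathlib
import Cfsg.Agent.Helper8.OmegaDiag
import Cfsg.Agent.Helper8.StdForms
import Cfsg.Agent.S2620

set_option autoImplicit false

/-!
Hyperbolic pairs of the standard quadratic forms, and arithmetic for the criteria
`-1 ∈ Ω` etc.
-/

namespace Cfsg.Agent.Helper8.OmegaStd

open Module Cfsg Cfsg.Agent.Helper8.QuadForm Cfsg.Agent.Helper8.StdForms

theorem two_ne_zero_of_odd {F : Type*} [Field F] [Fintype F] (hodd : Odd (Fintype.card F)) :
    (2 : F) ≠ 0 := by
  intro h
  have hc : ringChar F = 2 := by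
    haveI : CharP F 2 := CharTwo.of_one_ne_zero_of_two_eq_zero one_ne_zero h
    exact ringChar.eq F 2
  have : Even (Fintype.card F) :=
    Nat.even_iff.mpr ((FiniteField.even_card_iff_char_two (F := F)).mp hc)
  exact (Nat.not_even_iff_odd.mpr hodd) this

theorem pow_mod_four (q i : ℕ) (hq : Odd q) : q ^ i % 4 = 1 ↔ (Even i ∨ q % 4 ≠ 3) := by
  have h13 : q % 4 = 1 ∨ q % 4 = 3 := by
    obtain ⟨k, hk⟩ := hq
    omega
  rcases h13 with h | h
  · rw [Nat.pow_mod, h, one_pow]
    simp [h]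
  · rw [Nat.pow_mod, h]
    have h9 : ∀ k, 9 ^ k % 4 = 1 := by
      intro k
      rw [Nat.pow_mod]
      simp
    rcases Nat.even_or_odd' i with ⟨k, rfl | rfl⟩
    · have : 3 ^ (2 * k) % 4 = 1 := by
        rw [pow_mul]
        exact h9 k
      simp [this]
    · have : 3 ^ (2 * k + 1) % 4 = 3 := by
        rw [pow_succ, pow_mul, Nat.mul_mod]
        norm_num [h9 k]
      rw [this]
      simp [h]

/-- `(-1)^i` is a square iff `q^i ≡ 1 (mod 4)`. -/
theorem isSquare_neg_one_pow_iff {F : Type*} [Field F] [Fintype F] {q : ℕ}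
    (hF : Fintype.card F = q) (hq : Odd q) (i : ℕ) :
    IsSquare ((-1 : F) ^ i) ↔ q ^ i % 4 = 1 := by
  rw [Cfsg.Agent.S2620.isSquare_neg_one_pow, hF, pow_mod_four q i hq]

/-- the list of the first `i` indices. -/
def firstIdx {m : ℕ} (i : ℕ) (him : i ≤ m) : List (Fin m) := (List.finRange i).map (Fin.castLE him)

theorem firstIdx_nodup {m : ℕ} (i : ℕ) (him : i ≤ m) : (firstIdx i him).Nodup :=
  (List.nodup_finRange i).map (Fin.castLE_injective him)

theorem length_firstIdx {m : ℕ} (i : ℕ) (him : i ≤ m) : (firstIdx i him).length = i := by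
  unfold firstIdx
  rw [List.length_map, List.length_finRange]

theorem mem_firstIdx {m : ℕ} (i : ℕ) (him : i ≤ m) (j : Fin m) :
    j ∈ firstIdx i him ↔ (j : ℕ) < i := by
  unfold firstIdx
  rw [List.mem_map]
  constructor
  · rintro ⟨a, -, rfl⟩
    exact a.2
  · intro h
    exact ⟨⟨j, h⟩, List.mem_finRange _, Fin.ext rfl⟩

variable (F : Type*) [Field F] (m : ℕ)

/-! ### plus type -/

theorem plus_isHyp : IsHyp (plusForm F m)
    (fun j : Fin m => (Pi.single (Sum.inl j) 1 : Fin m ⊕ Fin m → F))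
    (fun j : Fin m => (Pi.single (Sum.inr j) 1 : Fin m ⊕ Fin m → F)) := by
  classical
  refine ⟨fun i => ⟨?_, ?_⟩, fun i j => ?_, fun i j => ⟨?_, ?_⟩⟩
  · rw [plusForm_apply]
    unfold quadFormPlus
    simp [Pi.single_apply]
  · rw [plusForm_apply]
    unfold quadFormPlus
    simp [Pi.single_apply]
  · rw [polar_plusForm]
    simp [Pi.single_apply, eq_comm]
  · rw [polar_plusForm]
    simp [Pi.single_apply]
  · rw [polar_plusForm]
    simp [Pi.single_apply]

theorem plus_polar_e (j : Fin m) (x : Fin m ⊕ Fin m → F) :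
    QuadraticMap.polar (plusForm F m) (Pi.single (Sum.inl j) 1) x = x (Sum.inr j) := by
  classical
  rw [polar_plusForm]
  simp [Pi.single_apply]

theorem plus_polar_f (j : Fin m) (x : Fin m ⊕ Fin m → F) :
    QuadraticMap.polar (plusForm F m) (Pi.single (Sum.inr j) 1) x = x (Sum.inl j) := by
  classical
  rw [polar_plusForm]
  simp [Pi.single_apply]

end Cfsg.Agent.Helper8.OmegaStd
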