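import Mathlib
import Cfsg.Agent.Helper8.OmegaStd

set_option autoImplicit false

/-!
Hyperbolic pairs of the standard quadratic forms of odd dimension and of minus type.
-/

namespace Cfsg.Agent.Helper8.OmegaStd2

open Module Cfsg Cfsg.Agent.Helper8.QuadForm Cfsg.Agent.Helper8.StdForms

variable (F : Type*) [Field F] (m : ℕ)

/-! ### odd dimension -/

theorem odd_isHyp : IsHyp (oddForm F m)
    (fun j : Fin m => (Pi.single (Sum.inr (Sum.inl j)) 1 : Unit ⊕ (Fin m ⊕ Fin m) → F))
    (fun j : Fin m => (Pi.single (Sum.inr (Sum.inr j)) 1 : Unit ⊕ (Fin m ⊕ Fin m) → F)) := by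
  classical
  refine ⟨fun i => ⟨?_, ?_⟩, fun i j => ?_, fun i j => ⟨?_, ?_⟩⟩
  · rw [oddForm_apply]
    unfold quadFormOdd
    simp [Pi.single_apply]
  · rw [oddForm_apply]
    unfold quadFormOdd
    simp [Pi.single_apply]
  · rw [polar_oddForm]
    simp [Pi.single_apply, eq_comm]
  · rw [polar_oddForm]
    simp [Pi.single_apply]
  · rw [polar_oddForm]
    simp [Pi.single_apply]

theorem odd_polar_e (j : Fin m) (x : Unit ⊕ (Fin m ⊕ Fin m) → F) :
    QuadraticMap.polar (oddForm F m) (Pi.single (Sum.inr (Sum.inl j)) 1) x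
      = x (Sum.inr (Sum.inr j)) := by
  classical
  rw [polar_oddForm]
  simp [Pi.single_apply]

theorem odd_polar_f (j : Fin m) (x : Unit ⊕ (Fin m ⊕ Fin m) → F) :
    QuadraticMap.polar (oddForm F m) (Pi.single (Sum.inr (Sum.inr j)) 1) x
      = x (Sum.inr (Sum.inl j)) := by
  classical
  rw [polar_oddForm]
  simp [Pi.single_apply]

/-! ### minus type -/

theorem minus_isHyp (a b : F) : IsHyp (minusForm F m a b)
    (fun j : Fin m => (Pi.single (Sum.inl (Sum.inl j)) 1 : (Fin m ⊕ Fin m) ⊕ Fin 2 → F))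
    (fun j : Fin m => (Pi.single (Sum.inl (Sum.inr j)) 1 : (Fin m ⊕ Fin m) ⊕ Fin 2 → F)) := by
  classical
  refine ⟨fun i => ⟨?_, ?_⟩, fun i j => ?_, fun i j => ⟨?_, ?_⟩⟩
  · rw [minusForm_apply]
    unfold quadFormMinus
    simp [Pi.single_apply]
  · rw [minusForm_apply]
    unfold quadFormMinus
    simp [Pi.single_apply]
  · rw [polar_minusForm]
    simp [Pi.single_apply, eq_comm]
  · rw [polar_minusForm]
    simp [Pi.single_apply]
  · rw [polar_minusForm]
    simp [Pi.single_apply]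

theorem minus_polar_e (a b : F) (j : Fin m) (x : (Fin m ⊕ Fin m) ⊕ Fin 2 → F) :
    QuadraticMap.polar (minusForm F m a b) (Pi.single (Sum.inl (Sum.inl j)) 1) x
      = x (Sum.inl (Sum.inr j)) := by
  classical
  rw [polar_minusForm]
  simp [Pi.single_apply]

theorem minus_polar_f (a b : F) (j : Fin m) (x : (Fin m ⊕ Fin m) ⊕ Fin 2 → F) :
    QuadraticMap.polar (minusForm F m a b) (Pi.single (Sum.inl (Sum.inr j)) 1) x
      = x (Sum.inl (Sum.inl j)) := by
  classical
  rw [polar_minusForm]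
  simp [Pi.single_apply]

end Cfsg.Agent.Helper8.OmegaStd2
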