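import Mathlib
set_option autoImplicit false

namespace Cfsg.Agent.Helper8.UJ

/-- building a multiset of block sizes from single "good" blocks and pairs of equal blocks -/
theorem multiset_induction (P : Multiset ℕ → Prop) (good : ℕ → Prop)
    (h0 : P 0) (hadd : ∀ ν₁ ν₂, P ν₁ → P ν₂ → P (ν₁ + ν₂))
    (hsingle : ∀ a, 1 ≤ a → good a → P {a}) (hpair : ∀ a, 1 ≤ a → P {a, a}) :
    ∀ ν : Multiset ℕ, (∀ a ∈ ν, 1 ≤ a) → (∀ a, ¬ good a → Even (ν.count a)) → P ν := by
  classical
  intro ν
  induction' hn : Multiset.card ν using Nat.strong_induction_on with n ih generalizing ν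
  intro hpos heven
  rcases Multiset.empty_or_exists_mem ν with rfl | ⟨a, ha⟩
  · exact h0
  obtain ⟨ν', rfl⟩ := Multiset.exists_cons_of_mem ha
  have ha1 : 1 ≤ a := hpos a ha
  by_cases hg : good a
  · have h1 : P ν' := by
      apply ih (Multiset.card ν') (by rw [← hn, Multiset.card_cons]; omega) ν' rfl
      · intro b hb
        exact hpos b (Multiset.mem_cons_of_mem hb)
      · intro b hb
        have hba : b ≠ a := fun h => hb (h ▸ hg)
        have := heven b hb
        rwa [Multiset.count_cons_of_ne hba] at this
    have h2 := hadd {a} ν' (hsingle a ha1 hg) h1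
    rwa [Multiset.singleton_add] at h2
  · have hev := heven a hg
    rw [Multiset.count_cons_self] at hev
    have hc : 1 ≤ Multiset.count a ν' := by
      obtain ⟨r, hr⟩ := hev
      omega
    have ha' : a ∈ ν' := Multiset.count_pos.mp hc
    obtain ⟨ν'', rfl⟩ := Multiset.exists_cons_of_mem ha'
    have h1 : P ν'' := by
      apply ih (Multiset.card ν'') (by rw [← hn, Multiset.card_cons, Multiset.card_cons]; omega)
        ν'' rfl
      · intro b hb
        exact hpos b (Multiset.mem_cons_of_mem (Multiset.mem_cons_of_mem hb))
      · intro b hb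
        have := heven b hb
        by_cases hba : b = a
        · subst hba
          rw [Multiset.count_cons_self, Multiset.count_cons_self] at this
          obtain ⟨r, hr⟩ := this
          exact ⟨r - 1, by omega⟩
        · rwa [Multiset.count_cons_of_ne hba, Multiset.count_cons_of_ne hba] at this
    have h2 := hadd {a, a} ν'' (hpair a ha1) h1
    have h3 : ({a, a} : Multiset ℕ) + ν'' = a ::ₘ a ::ₘ ν'' := by
      rw [Multiset.insert_eq_cons, Multiset.cons_add, Multiset.singleton_add]
    rwa [h3] at h2

end Cfsg.Agent.Helper8.UJ
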