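import Cfsg.Agent.Helper8.SpUA
import Cfsg.Agent.Helper8.UJInd
set_option autoImplicit false
set_option linter.unusedSectionVars false

/-!
Unipotent classes of the symplectic groups: existence of the monomial model for every multiset of
block sizes in which the odd sizes have even multiplicity.
-/

namespace Cfsg.Agent.Helper8.SpU

open Matrix Cfsg.Agent.Helper8.JCent Cfsg.Agent.Helper8.UJ

variable {F : Type*} [Field F]

/-- the empty model -/
def Mod.empty : Mod F 0 where
  d := Fin.elim0
  hd := fun k => k.elim0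
  τ := id
  τ_τ := fun _ => rfl
  d_τ := fun _ => rfl
  c := Fin.elim0
  c_sq := fun k => k.elim0
  τ_even := fun _ _ => rfl
  c_even := fun k => k.elim0
  c_odd := fun k => k.elim0

/-- a single block of even size -/
def Mod.single (a : ℕ) (ha : 1 ≤ a) (hev : Even a) : Mod F 1 where
  d := fun _ => a
  hd := fun _ => ha
  τ := id
  τ_τ := fun _ => rfl
  d_τ := fun _ => rfl
  c := fun _ => 1
  c_sq := fun _ => one_mul 1
  τ_even := fun _ _ => rfl
  c_even := fun _ _ => rfl
  c_odd := fun _ h => absurd hev (Nat.not_even_iff_odd.mpr h)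

/-- a pair of blocks of the same odd size -/
def Mod.pair (a : ℕ) (ha : 1 ≤ a) (hodd : Odd a) : Mod F 2 where
  d := fun _ => a
  hd := fun _ => ha
  τ := Fin.rev
  τ_τ := Fin.rev_rev
  d_τ := fun _ => rfl
  c := ![1, -1]
  c_sq := fun k => by
    fin_cases k
    · simp
    · simp
  τ_even := fun _ h => absurd h (Nat.not_even_iff_odd.mpr hodd)
  c_even := fun _ h => absurd h (Nat.not_even_iff_odd.mpr hodd)
  c_odd := fun k _ => by
    fin_cases k
    · simp [Fin.rev]
    · simp [Fin.rev]

/-- the disjoint union of two models -/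
def Mod.sum {t₁ t₂ : ℕ} (M₁ : Mod F t₁) (M₂ : Mod F t₂) : Mod F (t₁ + t₂) where
  d := Fin.append M₁.d M₂.d
  hd := fun k => by
    refine Fin.addCases (fun i => ?_) (fun i => ?_) k
    · rw [Fin.append_left]; exact M₁.hd i
    · rw [Fin.append_right]; exact M₂.hd i
  τ := Fin.addCases (fun i => Fin.castAdd t₂ (M₁.τ i)) (fun i => Fin.natAdd t₁ (M₂.τ i))
  τ_τ := fun k => by
    refine Fin.addCases (fun i => ?_) (fun i => ?_) k
    · rw [Fin.addCases_left, Fin.addCases_left, M₁.τ_τ]
    · rw [Fin.addCases_right, Fin.addCases_right, M₂.τ_τ]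
  d_τ := fun k => by
    refine Fin.addCases (fun i => ?_) (fun i => ?_) k
    · rw [Fin.addCases_left, Fin.append_left, Fin.append_left, M₁.d_τ]
    · rw [Fin.addCases_right, Fin.append_right, Fin.append_right, M₂.d_τ]
  c := Fin.append M₁.c M₂.c
  c_sq := fun k => by
    refine Fin.addCases (fun i => ?_) (fun i => ?_) k
    · rw [Fin.append_left]; exact M₁.c_sq i
    · rw [Fin.append_right]; exact M₂.c_sq i
  τ_even := fun k => by
    refine Fin.addCases (fun i => ?_) (fun i => ?_) k
    · rw [Fin.append_left, Fin.addCases_left]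
      intro h
      rw [M₁.τ_even i h]
    · rw [Fin.append_right, Fin.addCases_right]
      intro h
      rw [M₂.τ_even i h]
  c_even := fun k => by
    refine Fin.addCases (fun i => ?_) (fun i => ?_) k
    · rw [Fin.append_left, Fin.append_left]; exact M₁.c_even i
    · rw [Fin.append_right, Fin.append_right]; exact M₂.c_even i
  c_odd := fun k => by
    refine Fin.addCases (fun i => ?_) (fun i => ?_) k
    · rw [Fin.append_left, Fin.addCases_left, Fin.append_left, Fin.append_left]; exact M₁.c_odd i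
    · rw [Fin.append_right, Fin.addCases_right, Fin.append_right, Fin.append_right]
      exact M₂.c_odd i

theorem Mod.sum_d {t₁ t₂ : ℕ} (M₁ : Mod F t₁) (M₂ : Mod F t₂) :
    (M₁.sum M₂).d = Fin.append M₁.d M₂.d := rfl

theorem map_append {t₁ t₂ : ℕ} (d₁ : Fin t₁ → ℕ) (d₂ : Fin t₂ → ℕ) :
    Finset.univ.val.map (Fin.append d₁ d₂) = Finset.univ.val.map d₁ + Finset.univ.val.map d₂ := by
  rw [Fin.univ_val_map, Fin.univ_val_map, Fin.univ_val_map, List.ofFn_fin_append]
  rfl

/-- **existence of the model** -/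
theorem exists_Mod (ν : Multiset ℕ) (hpos : ∀ a ∈ ν, 1 ≤ a)
    (hev : ∀ a, Odd a → Even (ν.count a)) :
    ∃ (t : ℕ) (M : Mod F t), Finset.univ.val.map M.d = ν := by
  have hsingle : ∀ a, 1 ≤ a → Even a →
      ∃ (t : ℕ) (M : Mod F t), Finset.univ.val.map M.d = ({a} : Multiset ℕ) := by
    intro a ha hgood
    refine ⟨1, Mod.single a ha hgood, ?_⟩
    rfl
  have hadd : ∀ ν₁ ν₂ : Multiset ℕ, (∃ (t : ℕ) (M : Mod F t), Finset.univ.val.map M.d = ν₁) →
      (∃ (t : ℕ) (M : Mod F t), Finset.univ.val.map M.d = ν₂) →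
      ∃ (t : ℕ) (M : Mod F t), Finset.univ.val.map M.d = ν₁ + ν₂ := by
    rintro ν₁ ν₂ ⟨t₁, M₁, h₁⟩ ⟨t₂, M₂, h₂⟩
    refine ⟨t₁ + t₂, M₁.sum M₂, ?_⟩
    rw [Mod.sum_d, map_append, h₁, h₂]
  apply multiset_induction
    (fun ν => ∃ (t : ℕ) (M : Mod F t), Finset.univ.val.map M.d = ν) (fun a => Even a)
  · exact ⟨0, Mod.empty, rfl⟩
  · exact hadd
  · exact hsingle
  · intro a ha
    rcases Nat.even_or_odd a with h | h
    · have := hadd {a} {a} (hsingle a ha h) (hsingle a ha h)
      have e : ({a} : Multiset ℕ) + {a} = {a, a} := by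
        rw [Multiset.insert_eq_cons, Multiset.singleton_add]
      rwa [e] at this
    · refine ⟨2, Mod.pair a ha h, ?_⟩
      rfl
  · exact hpos
  · intro a ha
    exact hev a (Nat.not_even_iff_odd.mp ha)

end Cfsg.Agent.Helper8.SpU
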