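import Cfsg.Agent.Helper8.SemiSConj
set_option autoImplicit false

namespace Cfsg.Agent.Helper8.SemiS

open Polynomial Module Matrix

variable {F : Type*} [Field F]

theorem mulX_pow_apply (M : Type*) [AddCommGroup M] [Module F[X] M] [Module F M]
    [IsScalarTower F F[X] M] (k : ℕ) (m : M) : ((mulX F M) ^ k) m = (X ^ k : F[X]) • m := by
  induction k generalizing m with
  | zero => simp
  | succ k ih =>
    rw [pow_succ, Module.End.mul_apply, ih, mulX_apply, smul_smul, ← pow_succ]

theorem finrank_quot (P : F[X]) : finrank F (F[X] ⧸ (F[X] ∙ P)) = P.natDegree :=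
  finrank_quotient_span_eq_natDegree

/-- in the residue field of a monic irreducible `P ≠ X` over a finite field, `X` has order dividing
`q ^ deg P - 1`. -/
theorem X_pow_smul_quot [Fintype F] (P : F[X]) (hP : P.Monic) (hirr : Irreducible P)
    (hX : ¬ P ∣ X) (z : F[X] ⧸ (F[X] ∙ P)) :
    (X ^ (Fintype.card F ^ P.natDegree - 1) : F[X]) • z = z := by
  haveI : Fact (Irreducible P) := ⟨hirr⟩
  haveI : Module.Finite F (AdjoinRoot P) := hP.finite_adjoinRoot
  haveI : Finite (AdjoinRoot P) := Module.finite_of_finite F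
  haveI : Fintype (AdjoinRoot P) := Fintype.ofFinite _
  have hroot : AdjoinRoot.root P ≠ 0 := by
    intro h0
    apply hX
    have : AdjoinRoot.mk P X = 0 := by rw [AdjoinRoot.mk_X]; exact h0
    exact AdjoinRoot.mk_eq_zero.mp this
  have hcard : Fintype.card (AdjoinRoot P) = Fintype.card F ^ P.natDegree := by
    rw [Fintype.card_eq_nat_card, Module.natCard_eq_pow_finrank (K := F),
      Nat.card_eq_fintype_card]
    congr 1
    exact finrank_quot P
  have h1 : (AdjoinRoot.root P) ^ (Fintype.card F ^ P.natDegree - 1) = 1 := by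
    rw [← hcard]
    exact FiniteField.pow_card_sub_one_eq_one _ hroot
  obtain ⟨h, rfl⟩ := Submodule.Quotient.mk_surjective _ z
  change (AdjoinRoot.mk P (X ^ (Fintype.card F ^ P.natDegree - 1) * h)) = AdjoinRoot.mk P h
  rw [map_mul, map_pow, AdjoinRoot.mk_X, h1, one_mul]

variable [Fintype F]

theorem exists_realization (p : ℕ) [Fact p.Prime] [CharP F p] (n : ℕ) (f : F[X]) (hf : f.Monic)
    (hn : f.natDegree = n) (h0 : f.coeff 0 ≠ 0) :
    ∃ g : GL (Fin n) F, (g : Matrix (Fin n) (Fin n) F).charpoly = f ∧ (orderOf g).Coprime p := by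
  classical
  have hp : p.Prime := Fact.out
  have hf0 : f ≠ 0 := hf.ne_zero
  let S := UniqueFactorizationMonoid.normalizedFactors f
  let L := S.toList
  let d := L.length
  let P : Fin d → F[X] := fun i => L.get i
  have hPS : ∀ i, P i ∈ S := fun i => Multiset.mem_toList.mp (List.get_mem L i)
  have hirr : ∀ i, Irreducible (P i) := fun i =>
    UniqueFactorizationMonoid.irreducible_of_normalized_factor _ (hPS i)
  have hmon : ∀ i, (P i).Monic := fun i =>
    (Polynomial.normalize_eq_self_iff_monic (hirr i).ne_zero).mp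
      (UniqueFactorizationMonoid.normalize_normalized_factor _ (hPS i))
  have hprod : ∏ i, P i = f := by
    have h1 : ∏ i, P i = L.prod := by
      rw [← List.prod_ofFn, List.ofFn_get]
    have h2 : L.prod = S.prod := Multiset.prod_toList S
    rw [h1, h2]
    apply Polynomial.eq_of_monic_of_associated _ hf
      (UniqueFactorizationMonoid.prod_normalizedFactors hf0)
    rw [← h2, ← h1]
    exact Polynomial.monic_prod_of_monic _ _ (fun i _ => hmon i)
  have hdvd : ∀ i, P i ∣ f := fun i => UniqueFactorizationMonoid.dvd_of_mem_normalizedFactors (hPS i)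
  have hX : ∀ i, ¬ P i ∣ X := by
    intro i hi
    have h1 : P i = X := by
      have hass : Associated (P i) X := (hirr i).associated_of_dvd Polynomial.irreducible_X hi
      exact Polynomial.eq_of_monic_of_associated (hmon i) Polynomial.monic_X hass
    have h2 : X ∣ f := h1 ▸ hdvd i
    exact h0 (Polynomial.X_dvd_iff.mp h2)
  haveI : ∀ i, Fact (P i).Monic := fun i => ⟨hmon i⟩
  let M := ∀ i, F[X] ⧸ (F[X] ∙ P i)
  have hfin : finrank F M = finrank F (Fin n → F) := by
    rw [Module.finrank_pi_fintype, Module.finrank_fin_fun]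
    simp only [finrank_quot]
    rw [← Polynomial.natDegree_prod_of_monic _ _ (fun i _ => hmon i), hprod, hn]
  let θ : M ≃ₗ[F] (Fin n → F) := LinearEquiv.ofFinrankEq _ _ hfin
  let φ : Module.End F (Fin n → F) := θ.conj (mulX F M)
  let A : Matrix (Fin n) (Fin n) F := LinearMap.toMatrix' φ
  have hA : Matrix.toLin' A = φ := Matrix.toLin'_toMatrix' φ
  have hchar : A.charpoly = f := by
    rw [← Matrix.charpoly_toLin', hA, LinearEquiv.charpoly_conj, charpoly_mulX_pi, hprod]
  -- the order
  let N : ℕ := ∏ i, (Fintype.card F ^ (P i).natDegree - 1)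
  have hdeg : ∀ i, 1 ≤ (P i).natDegree := fun i =>
    Nat.one_le_iff_ne_zero.mpr (fun h => (hirr i).not_isUnit
      (by
        have := Polynomial.eq_one_of_monic_natDegree_zero (hmon i) h
        rw [this]; exact isUnit_one))
  have hq : p ∣ Fintype.card F := by
    have := (CharP.cast_eq_zero_iff F p (Fintype.card F)).mp (by simp)
    exact this
  have hq2 : 2 ≤ Fintype.card F := Fintype.one_lt_card
  have hcop : N.Coprime p := by
    apply Nat.Coprime.prod_left
    intro i _
    rw [Nat.coprime_comm, Nat.Prime.coprime_iff_not_dvd hp]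
    intro hdvd1
    have h1 : p ∣ Fintype.card F ^ (P i).natDegree :=
      dvd_trans hq (dvd_pow_self _ (by have := hdeg i; omega))
    have h2 : 1 ≤ Fintype.card F ^ (P i).natDegree := Nat.one_le_pow _ _ (by omega)
    have h3 : p ∣ 1 := by
      have := Nat.dvd_sub h1 hdvd1
      rwa [Nat.sub_sub_self h2] at this
    exact hp.one_lt.ne' (Nat.dvd_one.mp h3)
  have hN0 : N ≠ 0 := by
    intro h
    rw [h] at hcop
    rw [Nat.coprime_zero_left] at hcop
    exact hp.one_lt.ne' hcop
  have hmulN : ∀ y : M, ((mulX F M) ^ N) y = y := by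
    intro y
    rw [mulX_pow_apply]
    funext i
    change (X ^ N : F[X]) • y i = y i
    have hdiv : (Fintype.card F ^ (P i).natDegree - 1) ∣ N :=
      Finset.dvd_prod_of_mem _ (Finset.mem_univ i)
    obtain ⟨c, hc⟩ := hdiv
    rw [hc, pow_mul]
    clear hc
    induction c with
    | zero => simp
    | succ c ih =>
      rw [pow_succ, mul_smul, X_pow_smul_quot (P i) (hmon i) (hirr i) (hX i), ih]
  have hφpow : ∀ k : ℕ, ∀ v, (φ ^ k) v = θ (((mulX F M) ^ k) (θ.symm v)) := by
    intro k
    induction k with
    | zero => intro v; simp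
    | succ k ih =>
      intro v
      rw [pow_succ, Module.End.mul_apply, ih, pow_succ, Module.End.mul_apply]
      congr 2
      change θ.symm (θ.conj (mulX F M) v) = _
      rw [LinearEquiv.conj_apply]
      simp
  have hAN : A ^ N = 1 := by
    apply Matrix.toLin'.injective
    rw [Matrix.toLin'_pow, hA, Matrix.toLin'_one]
    apply LinearMap.ext
    intro v
    rw [hφpow, hmulN]
    simp
  let g : GL (Fin n) F := ⟨A, A ^ (N - 1), by rw [mul_pow_sub_one hN0, hAN],
    by rw [pow_sub_one_mul hN0, hAN]⟩
  refine ⟨g, hchar, ?_⟩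
  have hg : g ^ N = 1 := by
    apply Units.ext
    rw [Units.val_pow_eq_pow_val]
    exact hAN
  exact Nat.Coprime.coprime_dvd_left (orderOf_dvd_of_pow_eq_one hg) hcop

end Cfsg.Agent.Helper8.SemiS
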