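import Mathlib
set_option autoImplicit false

/-! Block sums of symplectic matrices: `Sp_{2a} × Sp_{2b} →* Sp_{2(a+b)}`. -/

namespace Cfsg.Agent.Helper8.SpG

open Matrix

variable {F : Type*} [Field F]

/-- reindexing `(N a) ⊕ (N b) ≃ N (a+b)`. -/
def sig2 (a b : ℕ) : (Fin a ⊕ Fin a) ⊕ (Fin b ⊕ Fin b) ≃ Fin (a + b) ⊕ Fin (a + b) :=
  (Equiv.sumSumSumComm _ _ _ _).trans (Equiv.sumCongr finSumFinEquiv finSumFinEquiv)

theorem J_submatrix2 (a b : ℕ) :
    (J (Fin (a + b)) F).submatrix (sig2 a b) (sig2 a b)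
      = fromBlocks (J (Fin a) F) 0 0 (J (Fin b) F) := by
  ext x y
  rcases x with (x | x) | (x | x) <;> rcases y with (y | y) | (y | y) <;>
    simp [sig2, J, Matrix.one_apply, Matrix.neg_apply] <;>
    (intro h; have h2 := congrArg Fin.val h; simp at h2; omega)

omit [Field F] in
theorem submatrix_sig2_injective (a b : ℕ) :
    Function.Injective (fun X : Matrix (Fin (a + b) ⊕ Fin (a + b)) (Fin (a + b) ⊕ Fin (a + b)) F =>
      X.submatrix (sig2 a b) (sig2 a b)) := by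
  intro X Y h
  ext i j
  have := congrFun (congrFun h ((sig2 a b).symm i)) ((sig2 a b).symm j)
  simpa using this

theorem mem_symp_iff_sig2 (a b : ℕ)
    (g : Matrix (Fin (a + b) ⊕ Fin (a + b)) (Fin (a + b) ⊕ Fin (a + b)) F) :
    g ∈ symplecticGroup (Fin (a + b)) F ↔
      (g.submatrix (sig2 a b) (sig2 a b))ᵀ * fromBlocks (J (Fin a) F) 0 0 (J (Fin b) F)
        * g.submatrix (sig2 a b) (sig2 a b) = fromBlocks (J (Fin a) F) 0 0 (J (Fin b) F) := by
  rw [SymplecticGroup.mem_iff', ← J_submatrix2, Matrix.transpose_submatrix,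
    Matrix.submatrix_mul_equiv, Matrix.submatrix_mul_equiv]
  exact ⟨fun h => by rw [h], fun h => submatrix_sig2_injective a b h⟩

/-- the block sum of two matrices -/
def bsum (a b : ℕ) (A : Matrix (Fin a ⊕ Fin a) (Fin a ⊕ Fin a) F)
    (B : Matrix (Fin b ⊕ Fin b) (Fin b ⊕ Fin b) F) :
    Matrix (Fin (a + b) ⊕ Fin (a + b)) (Fin (a + b) ⊕ Fin (a + b)) F :=
  (fromBlocks A 0 0 B).submatrix (sig2 a b).symm (sig2 a b).symm

theorem bsum_sig2 (a b : ℕ) (A : Matrix (Fin a ⊕ Fin a) (Fin a ⊕ Fin a) F)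
    (B : Matrix (Fin b ⊕ Fin b) (Fin b ⊕ Fin b) F) :
    (bsum a b A B).submatrix (sig2 a b) (sig2 a b) = fromBlocks A 0 0 B := by
  ext i j; simp [bsum]

theorem bsum_mem (a b : ℕ) {A : Matrix (Fin a ⊕ Fin a) (Fin a ⊕ Fin a) F}
    {B : Matrix (Fin b ⊕ Fin b) (Fin b ⊕ Fin b) F}
    (hA : A ∈ symplecticGroup (Fin a) F) (hB : B ∈ symplecticGroup (Fin b) F) :
    bsum a b A B ∈ symplecticGroup (Fin (a + b)) F := by
  rw [mem_symp_iff_sig2, bsum_sig2]
  rw [SymplecticGroup.mem_iff'] at hA hB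
  rw [Matrix.fromBlocks_transpose, Matrix.fromBlocks_multiply, Matrix.fromBlocks_multiply]
  simp [hA, hB]

theorem bsum_one (a b : ℕ) : bsum a b (1 : Matrix (Fin a ⊕ Fin a) (Fin a ⊕ Fin a) F) 1 = 1 := by
  unfold bsum
  rw [Matrix.fromBlocks_one, Matrix.submatrix_one_equiv]

theorem bsum_mul (a b : ℕ) (A A' : Matrix (Fin a ⊕ Fin a) (Fin a ⊕ Fin a) F)
    (B B' : Matrix (Fin b ⊕ Fin b) (Fin b ⊕ Fin b) F) :
    bsum a b (A * A') (B * B') = bsum a b A B * bsum a b A' B' := by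
  unfold bsum
  rw [Matrix.submatrix_mul_equiv, Matrix.fromBlocks_multiply]
  simp

theorem bsum_injective (a b : ℕ) (A A' : Matrix (Fin a ⊕ Fin a) (Fin a ⊕ Fin a) F)
    (B B' : Matrix (Fin b ⊕ Fin b) (Fin b ⊕ Fin b) F) (h : bsum a b A B = bsum a b A' B') :
    A = A' ∧ B = B' := by
  have h2 := congrArg (fun X => X.submatrix (sig2 a b) (sig2 a b)) h
  simp only [bsum_sig2] at h2
  have := Matrix.fromBlocks_inj.mp h2
  exact ⟨this.1, this.2.2.2⟩

/-- the block-sum homomorphism -/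
def spSum (a b : ℕ) : (symplecticGroup (Fin a) F) × (symplecticGroup (Fin b) F) →*
    symplecticGroup (Fin (a + b)) F where
  toFun x := ⟨bsum a b x.1.1 x.2.1, bsum_mem a b x.1.2 x.2.2⟩
  map_one' := Subtype.ext (bsum_one a b)
  map_mul' x y := Subtype.ext (bsum_mul a b x.1.1 y.1.1 x.2.1 y.2.1)

theorem spSum_injective (a b : ℕ) : Function.Injective (spSum (F := F) a b) := by
  intro x y h
  have h1 := congrArg Subtype.val h
  have h2 := bsum_injective a b _ _ _ _ h1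
  exact Prod.ext (Subtype.ext h2.1) (Subtype.ext h2.2)

theorem exists_spSum (a b n : ℕ) (h : a + b = n) :
    ∃ φ : (symplecticGroup (Fin a) F) × (symplecticGroup (Fin b) F) →*
      symplecticGroup (Fin n) F, Function.Injective φ := by
  subst h
  exact ⟨spSum a b, spSum_injective a b⟩

/-- combining elements of two smaller symplectic groups -/
theorem exists_orderOf_lcm (a b n : ℕ) (h : a + b ≤ n) (x : symplecticGroup (Fin a) F)
    (y : symplecticGroup (Fin b) F) :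
    ∃ z : symplecticGroup (Fin n) F, orderOf z = Nat.lcm (orderOf x) (orderOf y) := by
  obtain ⟨c, hc⟩ := Nat.exists_eq_add_of_le h
  obtain ⟨φ₁, hφ₁⟩ := exists_spSum (F := F) a b (a + b) rfl
  obtain ⟨φ₂, hφ₂⟩ := exists_spSum (F := F) (a + b) c n hc.symm
  refine ⟨φ₂ (φ₁ (x, y), 1), ?_⟩
  rw [orderOf_injective φ₂ hφ₂, Prod.orderOf_mk, orderOf_one, Nat.lcm_one_right,
    orderOf_injective φ₁ hφ₁, Prod.orderOf_mk]

end Cfsg.Agent.Helper8.SpG
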