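import Mathlib
import Cfsg.Agent.Helper8.SpGSum
import Cfsg.Agent.Helper8.SpGRev
import Cfsg.Agent.Helper8.SemiSReal
set_option autoImplicit false

/-! Building blocks for semisimple symplectic elements with prescribed characteristic
polynomial: block sums and hyperbolic pair blocks. -/

namespace Cfsg.Agent.Helper8.SpX

open Matrix Polynomial
open Cfsg.Agent.Helper8.SpG

variable {F : Type*} [Field F]

theorem charpoly_bsum (a b : ℕ) (A : Matrix (Fin a ⊕ Fin a) (Fin a ⊕ Fin a) F)
    (B : Matrix (Fin b ⊕ Fin b) (Fin b ⊕ Fin b) F) :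
    (bsum a b A B).charpoly = A.charpoly * B.charpoly := by
  have h : bsum a b A B = Matrix.reindex (sig2 a b) (sig2 a b) (fromBlocks A 0 0 B) := rfl
  rw [h, Matrix.charpoly_reindex, Matrix.charpoly_fromBlocks_zero₁₂]

/-- the monic normalisation of the reversed polynomial -/
noncomputable def star (Q : F[X]) : F[X] := C (Q.coeff 0)⁻¹ * Q.reverse

theorem star_monic (Q : F[X]) (h0 : Q.coeff 0 ≠ 0) : (star Q).Monic := by
  unfold star Monic
  rw [leadingCoeff_mul, leadingCoeff_C, reverse_leadingCoeff, trailingCoeff,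
    Polynomial.natTrailingDegree_eq_zero.mpr (Or.inr h0), inv_mul_cancel₀ h0]

theorem natDegree_star (Q : F[X]) (h0 : Q.coeff 0 ≠ 0) : (star Q).natDegree = Q.natDegree := by
  unfold star
  rw [natDegree_C_mul (inv_ne_zero h0), natDegree_reverse_of_coeff_zero Q h0]

/-- the block `diag(C, D)` is symplectic when `C Dᵀ = 1` -/
theorem pair_mem {i : ℕ} (C D : Matrix (Fin i) (Fin i) F) (h : C * Dᵀ = 1) :
    fromBlocks C 0 0 D ∈ symplecticGroup (Fin i) F := by
  rw [SymplecticGroup.mem_iff, Matrix.J, Matrix.fromBlocks_transpose, Matrix.fromBlocks_multiply,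
    Matrix.fromBlocks_multiply]
  have h' : D * Cᵀ = 1 := by
    have := congrArg Matrix.transpose h
    rwa [Matrix.transpose_mul, Matrix.transpose_transpose, Matrix.transpose_one] at this
  simp [h, h']

/-- the embedding `C ↦ diag(C, C⁻ᵀ)` of `GL_i` in `Sp_{2i}` -/
noncomputable def pairHom (i : ℕ) : GL (Fin i) F →* symplecticGroup (Fin i) F where
  toFun C := ⟨fromBlocks (C : Matrix (Fin i) (Fin i) F) 0 0
      ((C⁻¹ : GL (Fin i) F) : Matrix (Fin i) (Fin i) F)ᵀ, pair_mem _ _ (by
        rw [Matrix.transpose_transpose, ← Units.val_mul, mul_inv_cancel, Units.val_one])⟩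
  map_one' := by
    apply Subtype.ext
    simp [Matrix.fromBlocks_one]
  map_mul' C D := by
    apply Subtype.ext
    change fromBlocks _ 0 0 _ = fromBlocks _ 0 0 _ * fromBlocks _ 0 0 _
    rw [Matrix.fromBlocks_multiply]
    simp [_root_.mul_inv_rev, Matrix.transpose_mul]

theorem pairHom_injective (i : ℕ) : Function.Injective (pairHom (F := F) i) := by
  intro C D h
  have h1 := congrArg Subtype.val h
  change fromBlocks _ 0 0 _ = fromBlocks _ 0 0 _ at h1
  rw [Matrix.fromBlocks_inj] at h1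
  exact Units.ext h1.1

theorem charpoly_inv_eq_star {i : ℕ} (C : GL (Fin i) F) :
    ((C⁻¹ : GL (Fin i) F) : Matrix (Fin i) (Fin i) F).charpoly
      = star (C : Matrix (Fin i) (Fin i) F).charpoly := by
  set Q := (C : Matrix (Fin i) (Fin i) F).charpoly with hQ
  have hunit : IsUnit (C : Matrix (Fin i) (Fin i) F) := ⟨C, rfl⟩
  have h1 := Matrix.charpoly_inv (C : Matrix (Fin i) (Fin i) F) hunit
  rw [← Matrix.reverse_charpoly, ← hQ, ← Matrix.coe_units_inv] at h1
  have h2 : ((-1 : F[X]) ^ Fintype.card (Fin i)) * Polynomial.C (Ring.inverse (C : Matrix (Fin i) (Fin i) F).det)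
      = Polynomial.C ((-1) ^ Fintype.card (Fin i) * Ring.inverse (C : Matrix (Fin i) (Fin i) F).det) := by
    rw [map_mul, map_pow, map_neg, map_one]
  rw [h2] at h1
  set u := (-1 : F) ^ Fintype.card (Fin i) * Ring.inverse (C : Matrix (Fin i) (Fin i) F).det with hu
  have hdet : (C : Matrix (Fin i) (Fin i) F).det ≠ 0 :=
    ((Matrix.isUnit_iff_isUnit_det _).mp hunit).ne_zero
  have hQ0 : Q.coeff 0 ≠ 0 := by
    intro h0
    apply hdet
    rw [Matrix.det_eq_sign_charpoly_coeff, ← hQ, h0, mul_zero]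
  have hmon : ((C⁻¹ : GL (Fin i) F) : Matrix (Fin i) (Fin i) F).charpoly.Monic :=
    Matrix.charpoly_monic _
  have h3 : u * Q.coeff 0 = 1 := by
    have h4 := hmon
    unfold Monic at h4
    rw [h1, leadingCoeff_mul, leadingCoeff_C, reverse_leadingCoeff, trailingCoeff,
      Polynomial.natTrailingDegree_eq_zero.mpr (Or.inr hQ0)] at h4
    exact h4
  have h5 : u = (Q.coeff 0)⁻¹ := eq_inv_of_mul_eq_one_left h3
  rw [h1, h5]
  rfl

variable [Fintype F]

/-- a semisimple hyperbolic block with characteristic polynomial `Q * star Q` -/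
theorem exists_sp_pair (p : ℕ) [Fact p.Prime] [CharP F p] (i : ℕ) (Q : F[X]) (hQ : Q.Monic)
    (hdeg : Q.natDegree = i) (h0 : Q.coeff 0 ≠ 0) :
    ∃ g : symplecticGroup (Fin i) F,
      (g : Matrix (Fin i ⊕ Fin i) (Fin i ⊕ Fin i) F).charpoly = Q * star Q ∧
        (orderOf g).Coprime p := by
  obtain ⟨C, hC1, hC2⟩ := SemiS.exists_realization p i Q hQ hdeg h0
  refine ⟨pairHom i C, ?_, ?_⟩
  · change (fromBlocks (C : Matrix (Fin i) (Fin i) F) 0 0
      ((C⁻¹ : GL (Fin i) F) : Matrix (Fin i) (Fin i) F)ᵀ).charpoly = _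
    rw [Matrix.charpoly_fromBlocks_zero₁₂, Matrix.charpoly_transpose, charpoly_inv_eq_star, hC1]
  · rw [orderOf_injective (pairHom i) (pairHom_injective i) C]
    exact hC2

end Cfsg.Agent.Helper8.SpX
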