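import Mathlib

set_option autoImplicit false

/-!
The rank of an alternating bilinear form is even:
`finrank V = finrank (ker B) + 2 r`.
-/

namespace Cfsg.Agent.Helper8.AltRank

open Module

theorem exists_finrank_eq {F : Type*} [Field F] (n : ℕ) :
    ∀ {V : Type*} [AddCommGroup V] [Module F V] [FiniteDimensional F V]
      (B : LinearMap.BilinForm F V), B.IsAlt → finrank F V = n →
      ∃ r, finrank F V = finrank F ↥(LinearMap.ker B) + 2 * r := by
  induction n using Nat.strong_induction_on with
  | _ n ih =>
    intro V _ _ _ B hA hn
    by_cases hzero : ∀ u v : V, B u v = 0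
    · refine ⟨0, ?_⟩
      have : LinearMap.ker B = ⊤ := by
        rw [eq_top_iff]
        intro u _
        rw [LinearMap.mem_ker]
        ext v
        exact hzero u v
      rw [this, finrank_top]
      rfl
    · push Not at hzero
      obtain ⟨u, v₀, huv₀⟩ := hzero
      obtain ⟨v, hvdef⟩ : ∃ v, v = (B u v₀)⁻¹ • v₀ := ⟨_, rfl⟩
      have huv : B u v = 1 := by
        rw [hvdef, map_smul, smul_eq_mul, inv_mul_cancel₀ huv₀]
      have hvu : B v u = -1 := by rw [← hA.neg_eq u v, huv]
      have huu : B u u = 0 := hA u
      have hvv : B v v = 0 := hA v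
      let φ : V →ₗ[F] F × F := (B u).prod (B v)
      have hφ : ∀ x, φ x = (B u x, B v x) := fun x => rfl
      obtain ⟨W, hW⟩ : ∃ W : Submodule F V, W = LinearMap.ker φ := ⟨_, rfl⟩
      have hmemW : ∀ x, x ∈ W ↔ B u x = 0 ∧ B v x = 0 := by
        intro x
        rw [hW, LinearMap.mem_ker, hφ, Prod.mk_eq_zero]
      have hsurj : Function.Surjective φ := by
        rintro ⟨a, b⟩
        refine ⟨a • v - b • u, ?_⟩
        rw [hφ]
        simp only [map_sub, map_smul, smul_eq_mul, huv, hvu, huu, hvv]
        ext <;> simp
      have hdim : finrank F W + 2 = n := by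
        have h1 : finrank F (LinearMap.range φ) + finrank F (LinearMap.ker φ) = finrank F V :=
          LinearMap.finrank_range_add_finrank_ker φ
        rw [LinearMap.range_eq_top.mpr hsurj, finrank_top, Module.finrank_prod,
          Module.finrank_self, hn, ← hW] at h1
        omega
      have hAW : (B.restrict W).IsAlt := fun w => hA (w : V)
      obtain ⟨r, hr⟩ := ih (finrank F W) (by omega) (B.restrict W) hAW rfl
      have hWu : ∀ w : W, B u (w : V) = 0 := fun w => ((hmemW _).mp w.2).1
      have hWv : ∀ w : W, B v (w : V) = 0 := fun w => ((hmemW _).mp w.2).2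
      have hWu' : ∀ w : W, B (w : V) u = 0 := fun w => by
        rw [← neg_eq_zero, hA.neg_eq, hWu]
      have hWv' : ∀ w : W, B (w : V) v = 0 := fun w => by
        rw [← neg_eq_zero, hA.neg_eq, hWv]
      have hdecomp : ∀ x : V, x - B u x • v + B v x • u ∈ W := by
        intro x
        rw [hmemW]
        constructor
        · simp only [map_add, map_sub, map_smul, smul_eq_mul, huv, huu]; ring
        · simp only [map_add, map_sub, map_smul, smul_eq_mul, hvv, hvu]; ring
      -- the kernels agree
      have hker : LinearMap.ker B = (LinearMap.ker (B.restrict W)).map W.subtype := by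
        ext x
        constructor
        · intro hx
          rw [LinearMap.mem_ker] at hx
          have hxW : x ∈ W := by
            rw [hmemW]
            constructor
            · rw [← neg_eq_zero, hA.neg_eq, hx]; rfl
            · rw [← neg_eq_zero, hA.neg_eq, hx]; rfl
          refine ⟨⟨x, hxW⟩, ?_, rfl⟩
          rw [SetLike.mem_coe, LinearMap.mem_ker]
          ext w
          show B x (w : V) = 0
          rw [hx]; rfl
        · rintro ⟨w, hw, rfl⟩
          rw [SetLike.mem_coe, LinearMap.mem_ker] at hw
          rw [LinearMap.mem_ker]
          ext x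
          have h0 : B (w : V) (x - B u x • v + B v x • u) = 0 := by
            have := LinearMap.congr_fun hw ⟨_, hdecomp x⟩
            exact this
          simp only [map_add, map_sub, map_smul, smul_eq_mul, hWu', hWv', mul_zero, add_zero,
            sub_zero] at h0
          simpa using h0
      have hfin : finrank F ↥(LinearMap.ker B) = finrank F ↥(LinearMap.ker (B.restrict W)) := by
        rw [hker]
        exact (Submodule.equivMapOfInjective _ W.injective_subtype _).finrank_eq.symm
      refine ⟨r + 1, ?_⟩
      rw [hfin]
      omega

/-- The rank of an alternating form is even. -/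
theorem exists_finrank_eq' {F V : Type*} [Field F] [AddCommGroup V] [Module F V]
    [FiniteDimensional F V] (B : LinearMap.BilinForm F V) (hA : B.IsAlt) :
    ∃ r, finrank F V = finrank F ↥(LinearMap.ker B) + 2 * r :=
  exists_finrank_eq _ B hA rfl

end Cfsg.Agent.Helper8.AltRank
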