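import Cfsg.Agent.Helper8.JordanConj
set_option autoImplicit false

namespace Cfsg.Agent.Helper8.Jordan

open Matrix Module

variable {F : Type*} [Field F] {n : ℕ}

/-- `N` has Jordan type `ν` (multiset of block sizes). -/
def HasType (N : Matrix (Fin n) (Fin n) F) (ν : Multiset ℕ) : Prop :=
  ∃ (d : ℕ) (k : Fin d → ℕ) (b : Basis (Σ i : Fin d, Fin (k i)) F (Fin n → F)),
    IsJordan (Matrix.toLin' N) k b ∧ jtype k = ν

theorem exists_hasType (N : Matrix (Fin n) (Fin n) F) (hN : IsNilpotent N) :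
    ∃ ν, HasType N ν := by
  have hφ : IsNilpotent (Matrix.toLin' N) := by
    obtain ⟨j, hj⟩ := hN
    refine ⟨j, ?_⟩
    rw [← Matrix.toLin'_pow, hj, map_zero]
  obtain ⟨d, k, b, hb⟩ := exists_jordan_basis (Matrix.toLin' N) hφ
  exact ⟨jtype k, d, k, b, hb, rfl⟩

theorem HasType.sum_eq {N : Matrix (Fin n) (Fin n) F} {ν : Multiset ℕ} (h : HasType N ν) :
    ν.sum = n := by
  obtain ⟨d, k, b, _, rfl⟩ := h
  rw [sum_jtype]
  have h1 := Module.finrank_eq_card_basis b
  rw [Module.finrank_fin_fun, Fintype.card_sigma] at h1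
  simp only [Fintype.card_fin] at h1
  exact h1.symm

theorem HasType.pos {N : Matrix (Fin n) (Fin n) F} {ν : Multiset ℕ} (h : HasType N ν) :
    ∀ a ∈ ν, 0 < a := by
  obtain ⟨d, k, b, _, rfl⟩ := h
  intro a ha
  unfold jtype at ha
  exact (Multiset.mem_filter.mp ha).2

theorem HasType.isNilpotent {N : Matrix (Fin n) (Fin n) F} {ν : Multiset ℕ} (h : HasType N ν) :
    IsNilpotent N := by
  obtain ⟨d, k, b, hb, rfl⟩ := h
  obtain ⟨j, hj⟩ := hb.isNilpotent
  refine ⟨j, ?_⟩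
  apply Matrix.toLin'.injective
  rw [Matrix.toLin'_pow, hj, map_zero]

theorem HasType.pow_eq_zero_iff {N : Matrix (Fin n) (Fin n) F} {ν : Multiset ℕ}
    (h : HasType N ν) (p : ℕ) : N ^ p = 0 ↔ ∀ a ∈ ν, a ≤ p := by
  obtain ⟨d, k, b, hb, rfl⟩ := h
  have h1 : N ^ p = 0 ↔ (Matrix.toLin' N) ^ p = 0 := by
    rw [← Matrix.toLin'_pow]
    constructor
    · intro h; rw [h, map_zero]
    · intro h; exact Matrix.toLin'.injective (h.trans (map_zero _).symm)
  rw [h1, hb.pow_eq_zero_iff]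
  unfold jtype
  constructor
  · intro h a ha
    rw [Multiset.mem_filter, Multiset.mem_map] at ha
    obtain ⟨⟨i, _, rfl⟩, _⟩ := ha
    exact h i
  · intro h i
    by_cases h0 : 0 < k i
    · apply h
      rw [Multiset.mem_filter, Multiset.mem_map]
      exact ⟨⟨i, Finset.mem_univ_val i, rfl⟩, h0⟩
    · omega

theorem HasType.unique {N N' : Matrix (Fin n) (Fin n) F} {ν ν' : Multiset ℕ}
    (h : HasType N ν) (h' : HasType N' ν') (g : GL (Fin n) F)
    (hg : (g : Matrix (Fin n) (Fin n) F) * N * ((g⁻¹ : GL (Fin n) F) : Matrix (Fin n) (Fin n) F)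
      = N') : ν = ν' := by
  obtain ⟨d, k, b, hb, rfl⟩ := h
  obtain ⟨d', k', b', hb', rfl⟩ := h'
  have h1 : ((g⁻¹ : GL (Fin n) F) : Matrix (Fin n) (Fin n) F) * (g : Matrix (Fin n) (Fin n) F) = 1 :=
    Units.inv_mul g
  have h2 : (g : Matrix (Fin n) (Fin n) F) * ((g⁻¹ : GL (Fin n) F) : Matrix (Fin n) (Fin n) F) = 1 :=
    Units.mul_inv g
  let ψ : (Fin n → F) ≃ₗ[F] (Fin n → F) := Matrix.toLin'OfInv h1 h2
  apply jtype_eq_of_equiv hb hb' ψ
  intro v
  change Matrix.toLin' (g : Matrix (Fin n) (Fin n) F) (Matrix.toLin' N v) =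
    Matrix.toLin' N' (Matrix.toLin' (g : Matrix (Fin n) (Fin n) F) v)
  rw [← Matrix.toLin'_mul_apply, ← Matrix.toLin'_mul_apply, ← hg, Matrix.mul_assoc, h1,
    Matrix.mul_one]

theorem HasType.conj {N N' : Matrix (Fin n) (Fin n) F} {ν : Multiset ℕ}
    (h : HasType N ν) (h' : HasType N' ν) :
    ∃ g : GL (Fin n) F,
      (g : Matrix (Fin n) (Fin n) F) * N * ((g⁻¹ : GL (Fin n) F) : Matrix (Fin n) (Fin n) F)
        = N' := by
  obtain ⟨d, k, b, hb, rfl⟩ := h
  obtain ⟨d', k', b', hb', hν⟩ := h'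
  obtain ⟨ψ, hψ⟩ := exists_equiv_of_jtype_eq hb hb' hν.symm
  let P : Matrix (Fin n) (Fin n) F := LinearMap.toMatrix' ψ.toLinearMap
  let Q : Matrix (Fin n) (Fin n) F := LinearMap.toMatrix' ψ.symm.toLinearMap
  have hPQ : P * Q = 1 := by
    rw [← LinearMap.toMatrix'_comp]
    have : ψ.toLinearMap ∘ₗ ψ.symm.toLinearMap = LinearMap.id := by
      ext v; simp
    rw [this, LinearMap.toMatrix'_id]
  have hQP : Q * P = 1 := by
    rw [← LinearMap.toMatrix'_comp]
    have : ψ.symm.toLinearMap ∘ₗ ψ.toLinearMap = LinearMap.id := by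
      ext v; simp
    rw [this, LinearMap.toMatrix'_id]
  refine ⟨⟨P, Q, hPQ, hQP⟩, ?_⟩
  change P * N * Q = N'
  have h3 : P * N = N' * P := by
    have e1 : N = LinearMap.toMatrix' (Matrix.toLin' N) := (LinearMap.toMatrix'_toLin' N).symm
    have e2 : N' = LinearMap.toMatrix' (Matrix.toLin' N') := (LinearMap.toMatrix'_toLin' N').symm
    rw [e1, e2, ← LinearMap.toMatrix'_comp, ← LinearMap.toMatrix'_comp]
    congr 1
    apply LinearMap.ext
    intro v
    exact hψ v
  rw [h3, Matrix.mul_assoc, hPQ, Matrix.mul_one]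

theorem exists_of_partition (ν : Nat.Partition n) :
    ∃ N : Matrix (Fin n) (Fin n) F, HasType N ν.parts := by
  classical
  let L := ν.parts.toList
  let d := L.length
  let k : Fin d → ℕ := fun i => L.get i
  have hmap : Finset.univ.val.map k = ν.parts := by
    rw [Fin.univ_val_map, List.ofFn_get]
    exact Multiset.coe_toList ν.parts
  have hk : jtype k = ν.parts := by
    unfold jtype
    rw [hmap, Multiset.filter_eq_self]
    intro a ha
    exact ν.parts_pos ha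
  have hcard : Fintype.card (Σ i : Fin d, Fin (k i)) = n := by
    rw [Fintype.card_sigma]
    simp only [Fintype.card_fin]
    have : ∑ i, k i = (Finset.univ.val.map k).sum := rfl
    rw [this, hmap, ν.parts_sum]
  let e : (Σ i : Fin d, Fin (k i)) ≃ Fin n := Fintype.equivFinOfCardEq hcard
  let b : Basis (Σ i : Fin d, Fin (k i)) F (Fin n → F) := (Pi.basisFun F (Fin n)).reindex e.symm
  let φ : (Fin n → F) →ₗ[F] (Fin n → F) := b.constr F
    (fun x => if h : (x.2 : ℕ) + 1 < k x.1 then b ⟨x.1, ⟨x.2 + 1, h⟩⟩ else 0)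
  refine ⟨LinearMap.toMatrix' φ, d, k, b, ?_, hk⟩
  rw [Matrix.toLin'_toMatrix']
  intro i l
  exact Basis.constr_basis b F _ ⟨i, l⟩

end Cfsg.Agent.Helper8.Jordan
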