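import Cfsg.Agent.Helper8.Nilp
set_option autoImplicit false

namespace Cfsg.Agent.Helper8.RegU

open Polynomial Matrix Module

variable {F : Type*} [Field F] {V : Type*} [AddCommGroup V] [Module F V]

/-- the iterates of a vector under a nilpotent map, up to the last nonvanishing one, are
linearly independent -/
theorem linearIndependent_iterates (N : Module.End F V) (n : ℕ) (hN : N ^ n = 0) (v : V)
    (hv : (N ^ (n - 1)) v ≠ 0) : LinearIndependent F (fun i : Fin n => (N ^ (i : ℕ)) v) := by
  classical
  rw [Fintype.linearIndependent_iff]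
  intro c hc
  by_contra hne
  push Not at hne
  -- minimal index with nonzero coefficient
  have hex : ∃ j : ℕ, ∃ h : j < n, c ⟨j, h⟩ ≠ 0 := by
    obtain ⟨i, hi⟩ := hne
    exact ⟨i, i.2, hi⟩
  let j := Nat.find hex
  obtain ⟨hjn, hcj⟩ := Nat.find_spec hex
  have hmin : ∀ i : Fin n, (i : ℕ) < j → c i = 0 := by
    intro i hi
    by_contra h
    exact Nat.find_min hex hi ⟨i.2, h⟩
  have h1 := congrArg (N ^ (n - 1 - j)) hc
  rw [map_sum, map_zero] at h1
  rw [Finset.sum_eq_single (⟨j, hjn⟩ : Fin n)] at h1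
  · rw [map_smul, ← Module.End.mul_apply, ← pow_add] at h1
    have : n - 1 - j + j = n - 1 := by omega
    simp only [this] at h1
    rcases smul_eq_zero.mp h1 with h2 | h2
    · exact hcj h2
    · exact hv h2
  · intro i _ hij
    rcases lt_or_gt_of_ne (fun h => hij (Fin.ext h) : (i : ℕ) ≠ j) with h | h
    · rw [hmin i h, zero_smul, map_zero]
    · rw [map_smul, ← Module.End.mul_apply, ← pow_add]
      have : n - 1 - j + (i : ℕ) = n + ((i : ℕ) - j - 1) := by omega
      rw [this, pow_add, hN, zero_mul, LinearMap.zero_apply, smul_zero]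
  · intro h
    exact absurd (Finset.mem_univ _) h

variable {ι : Type*} [Fintype ι] [DecidableEq ι]

/-- a regular nilpotent matrix: nilpotent of corank one -/
structure IsRegNilp (T : Matrix ι ι F) (n : ℕ) : Prop where
  card : Fintype.card ι = n
  pos : 1 ≤ n
  pow : T ^ n = 0
  rank : T.rank = n - 1

theorem IsRegNilp.pow_pred_ne_zero {T : Matrix ι ι F} {n : ℕ} (h : IsRegNilp T n) :
    T ^ (n - 1) ≠ 0 := by
  intro h0
  set φ : Module.End F (ι → F) := Matrix.toLin' T with hφ
  have h1 : φ ^ (n - 1) = 0 := by rw [hφ, ← Matrix.toLin'_pow, h0, map_zero]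
  have hrk := LinearMap.finrank_range_add_finrank_ker φ
  have hr : finrank F (LinearMap.range φ) = n - 1 := by
    rw [← h.rank, Matrix.rank, hφ, Matrix.toLin'_apply']
  rw [hr, Module.finrank_fintype_fun_eq_card, h.card] at hrk
  have hker : finrank F (LinearMap.ker φ) = 1 := by have := h.pos; omega
  have h2 := finrank_ker_pow_le φ (n - 1)
  rw [h1, LinearMap.ker_zero, finrank_top, Module.finrank_fintype_fun_eq_card, h.card, hker] at h2
  have := h.pos
  omega

theorem IsRegNilp.exists_cyclic {T : Matrix ι ι F} {n : ℕ} (h : IsRegNilp T n) :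
    ∃ v : ι → F, LinearIndependent F (fun i : Fin n => (T ^ (i : ℕ)) *ᵥ v) := by
  have h0 := h.pow_pred_ne_zero
  have h1 : Matrix.toLin' (T ^ (n - 1)) ≠ 0 := by
    intro h2
    apply h0
    apply Matrix.toLin'.injective
    rw [h2, map_zero]
  obtain ⟨v, hv⟩ : ∃ v, Matrix.toLin' (T ^ (n - 1)) v ≠ 0 := by
    by_contra hcon
    push Not at hcon
    exact h1 (LinearMap.ext hcon)
  refine ⟨v, ?_⟩
  have h2 := linearIndependent_iterates (Matrix.toLin' T) n
    (by rw [← Matrix.toLin'_pow, h.pow, map_zero]) v (by rw [← Matrix.toLin'_pow]; exact hv)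
  have h3 : (fun i : Fin n => (T ^ (i : ℕ)) *ᵥ v) =
      fun i : Fin n => ((Matrix.toLin' T) ^ (i : ℕ)) v := by
    funext i
    rw [← Matrix.toLin'_pow, Matrix.toLin'_apply]
  rw [h3]
  exact h2

/-- the kernel of evaluation at a regular nilpotent matrix -/
theorem IsRegNilp.aeval_eq_zero_iff {T : Matrix ι ι F} {n : ℕ} (h : IsRegNilp T n) (P : F[X]) :
    aeval T P = 0 ↔ X ^ n ∣ P := by
  have hmin : minpoly F T = X ^ n := by
    have h1 : minpoly F T ∣ X ^ n := minpoly.dvd F T (by rw [map_pow, aeval_X, h.pow])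
    obtain ⟨j, hj, hass⟩ := (dvd_prime_pow Polynomial.prime_X n).mp h1
    have h2 : minpoly F T = X ^ j :=
      Polynomial.eq_of_monic_of_associated (minpoly.monic (Matrix.isIntegral T))
        (monic_X_pow j) hass
    have h3 : T ^ j = 0 := by
      have := minpoly.aeval F T
      rwa [h2, map_pow, aeval_X] at this
    have h4 : n ≤ j := by
      by_contra hlt
      push Not at hlt
      apply h.pow_pred_ne_zero
      have : n - 1 = j + (n - 1 - j) := by omega
      rw [this, pow_add, h3, zero_mul]
    rw [h2, le_antisymm hj h4]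
  rw [← hmin]
  exact (minpoly.dvd_iff (A := F) (x := T) (p := P)).symm

/-- the commutant of a regular nilpotent matrix consists of the polynomials in it -/
theorem IsRegNilp.commute_iff {T : Matrix ι ι F} {n : ℕ} (h : IsRegNilp T n)
    (z : Matrix ι ι F) : z * T = T * z ↔ ∃ P : F[X], z = aeval T P := by
  constructor
  · intro hz
    obtain ⟨v, hv⟩ := h.exists_cyclic
    have hcard : Fintype.card (Fin n) = finrank F (ι → F) := by
      rw [Fintype.card_fin, Module.finrank_fintype_fun_eq_card, h.card]
    have : Nonempty (Fin n) := ⟨⟨0, h.pos⟩⟩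
    let b : Basis (Fin n) F (ι → F) := basisOfLinearIndependentOfCardEqFinrank hv hcard
    have hb : ∀ i, b i = (T ^ (i : ℕ)) *ᵥ v := fun i => by
      simp [b, coe_basisOfLinearIndependentOfCardEqFinrank]
    let c : Fin n → F := fun i => b.repr (z *ᵥ v) i
    let P : F[X] := ∑ i : Fin n, C (c i) * X ^ (i : ℕ)
    have hPv : (aeval T P) *ᵥ v = z *ᵥ v := by
      have h1 : aeval T P = ∑ i : Fin n, c i • T ^ (i : ℕ) := by
        simp only [P, map_sum, map_mul, aeval_C, map_pow, aeval_X, Algebra.algebraMap_eq_smul_one,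
          Matrix.smul_mul, Matrix.one_mul]
      rw [h1, Matrix.sum_mulVec]
      simp only [Matrix.smul_mulVec]
      have h2 := b.sum_repr (z *ᵥ v)
      simp only [hb] at h2
      exact h2
    refine ⟨P, ?_⟩
    have hcomm : ∀ j : ℕ, z * T ^ j = T ^ j * z := by
      intro j
      induction j with
      | zero => simp
      | succ j ih => rw [pow_succ, ← Matrix.mul_assoc, ih, Matrix.mul_assoc, hz, ← Matrix.mul_assoc]
    have hcomm2 : ∀ j : ℕ, aeval T P * T ^ j = T ^ j * aeval T P := by
      intro j
      have : Commute (aeval T P) (T ^ j) := by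
        have h1 : Commute (aeval T P) (aeval T (X ^ j : F[X])) := by
          rw [Commute, SemiconjBy, ← map_mul, ← map_mul, mul_comm]
        rwa [map_pow, aeval_X] at h1
      exact this.eq
    apply Matrix.toLin'.injective
    apply b.ext
    intro j
    rw [hb, Matrix.toLin'_apply, Matrix.toLin'_apply, Matrix.mulVec_mulVec, Matrix.mulVec_mulVec,
      hcomm, hcomm2, ← Matrix.mulVec_mulVec, ← Matrix.mulVec_mulVec, hPv]
  · rintro ⟨P, rfl⟩
    have h1 : Commute (aeval T P) (aeval T (X : F[X])) := by
      rw [Commute, SemiconjBy, ← map_mul, ← map_mul, mul_comm]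
    rw [aeval_X] at h1
    exact h1.eq

end Cfsg.Agent.Helper8.RegU
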