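import Mathlib
import Cfsg.Prelude.Def_JordanBlocks
import Cfsg.Agent.Helper8.JordanMatrix
import Cfsg.Agent.Helper8.RegUNilp
set_option autoImplicit false

/-! Ranks of powers of nilpotent matrices: block sums, similarity from rank profiles, the rank
profile of the standard Jordan type matrix. -/

namespace Cfsg.Agent.Helper8.UJ

open Matrix Module
open Cfsg.Agent.Helper8.Jordan

variable {F : Type*} [Field F]

/-- the product of two submodules is the product of the submodules -/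
def prodSubEquiv {R M N : Type*} [Semiring R] [AddCommMonoid M] [AddCommMonoid N] [Module R M]
    [Module R N] (p : Submodule R M) (q : Submodule R N) : ↥(p.prod q) ≃ₗ[R] (↥p × ↥q) where
  toFun x := (⟨x.1.1, x.2.1⟩, ⟨x.1.2, x.2.2⟩)
  invFun y := ⟨(y.1.1, y.2.1), ⟨y.1.2, y.2.2⟩⟩
  map_add' _ _ := rfl
  map_smul' _ _ := rfl
  left_inv _ := rfl
  right_inv _ := rfl

theorem finrank_prodSub {V W : Type*} [AddCommGroup V] [AddCommGroup W] [Module F V] [Module F W]
    [FiniteDimensional F V] [FiniteDimensional F W] (p : Submodule F V) (q : Submodule F W) :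
    finrank F ↥(p.prod q) = finrank F ↥p + finrank F ↥q := by
  rw [(prodSubEquiv p q).finrank_eq, Module.finrank_prod]

theorem rank_fromBlocks_diag {ι₁ ι₂ : Type*} [Fintype ι₁] [Fintype ι₂] [DecidableEq ι₁]
    [DecidableEq ι₂] (A : Matrix ι₁ ι₁ F) (D : Matrix ι₂ ι₂ F) :
    (fromBlocks A 0 0 D).rank = A.rank + D.rank := by
  unfold Matrix.rank
  rw [← finrank_prodSub, ← LinearMap.range_prodMap]
  let e := LinearEquiv.sumArrowLequivProdArrow ι₁ ι₂ F F
  have h : (fromBlocks A 0 0 D).mulVecLin =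
      e.symm.toLinearMap ∘ₗ (A.mulVecLin.prodMap D.mulVecLin) ∘ₗ e.toLinearMap := by
    apply LinearMap.ext
    intro v
    ext (i | i)
    · simp [e, fromBlocks_mulVec, LinearEquiv.sumArrowLequivProdArrow]
      rfl
    · simp [e, fromBlocks_mulVec, LinearEquiv.sumArrowLequivProdArrow]
      rfl
  rw [h, LinearMap.range_comp, LinearMap.range_comp, LinearEquiv.range, Submodule.map_top]
  exact LinearEquiv.finrank_map_eq e.symm _

theorem rank_pow_fromBlocks {ι₁ ι₂ : Type*} [Fintype ι₁] [Fintype ι₂] [DecidableEq ι₁]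
    [DecidableEq ι₂] (A : Matrix ι₁ ι₁ F) (D : Matrix ι₂ ι₂ F) (j : ℕ) :
    ((fromBlocks A 0 0 D) ^ j).rank = (A ^ j).rank + (D ^ j).rank := by
  rw [Matrix.fromBlocks_diagonal_pow, rank_fromBlocks_diag]

theorem fromBlocks_diag_sub_one {ι₁ ι₂ : Type*} [DecidableEq ι₁] [DecidableEq ι₂]
    (A : Matrix ι₁ ι₁ F) (D : Matrix ι₂ ι₂ F) :
    fromBlocks A 0 0 D - 1 = fromBlocks (A - 1) 0 0 (D - 1) := by
  ext (i | i) (j | j) <;> simp [Matrix.one_apply]

variable {ι : Type*} [Fintype ι] [DecidableEq ι]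

theorem conj_pow' (P Q N : Matrix ι ι F) (hQP : Q * P = 1) (j : ℕ) :
    (P * N * Q) ^ j * P = P * N ^ j := by
  induction j with
  | zero => simp
  | succ j ih =>
    calc (P * N * Q) ^ (j + 1) * P = (P * N * Q) ^ j * (P * N * (Q * P)) := by
          rw [pow_succ]; simp only [Matrix.mul_assoc]
      _ = ((P * N * Q) ^ j * P) * N := by rw [hQP, Matrix.mul_one, ← Matrix.mul_assoc]
      _ = P * N ^ (j + 1) := by rw [ih, pow_succ, Matrix.mul_assoc]

theorem rank_pow_conj (P Q N : Matrix ι ι F) (hPQ : P * Q = 1) (hQP : Q * P = 1) (j : ℕ) :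
    ((P * N * Q) ^ j).rank = (N ^ j).rank := by
  have hP : IsUnit P.det := (Matrix.isUnit_iff_isUnit_det _).mp ⟨⟨P, Q, hPQ, hQP⟩, rfl⟩
  have h1 := conj_pow' P Q N hQP j
  have h2 := congrArg Matrix.rank h1
  rwa [Matrix.rank_mul_eq_left_of_isUnit_det _ _ hP, Matrix.rank_mul_eq_right_of_isUnit_det _ _ hP]
    at h2

theorem rank_pow_mul_unit (T W : Matrix ι ι F) (hc : Commute T W) (hW : IsUnit W) (j : ℕ) :
    ((T * W) ^ j).rank = (T ^ j).rank := by
  rw [hc.mul_pow]
  have hWj : IsUnit (W ^ j).det := (Matrix.isUnit_iff_isUnit_det _).mp (hW.pow j)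
  rw [Matrix.rank_mul_eq_left_of_isUnit_det _ _ hWj]

theorem rank_eq_finrank_range_toLin' (N : Matrix ι ι F) :
    N.rank = finrank F (LinearMap.range (Matrix.toLin' N)) := by
  rw [Matrix.rank, Matrix.toLin'_apply']

theorem rank_pow_eq_finrank (N : Matrix ι ι F) (j : ℕ) :
    (N ^ j).rank = finrank F (LinearMap.range ((Matrix.toLin' N) ^ j)) := by
  rw [rank_eq_finrank_range_toLin', Matrix.toLin'_pow]

/-- the rank profile of a regular nilpotent matrix -/
theorem rank_pow_of_regular (N : Matrix ι ι F) (n : ℕ) (hcard : Fintype.card ι = n) (hn : 1 ≤ n)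
    (hN : N ^ n = 0) (hN' : N ^ (n - 1) ≠ 0) (j : ℕ) : (N ^ j).rank = n - j := by
  have hφn : (Matrix.toLin' N) ^ n = 0 := by rw [← Matrix.toLin'_pow, hN, map_zero]
  obtain ⟨v, hv⟩ : ∃ v, Matrix.toLin' (N ^ (n - 1)) v ≠ 0 := by
    by_contra hcon
    push Not at hcon
    apply hN'
    apply Matrix.toLin'.injective
    rw [map_zero]
    exact LinearMap.ext hcon
  rw [Matrix.toLin'_pow] at hv
  have hli := RegU.linearIndependent_iterates (Matrix.toLin' N) n hφn v hv
  have hc : Fintype.card (Fin n) = finrank F (ι → F) := by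
    rw [Fintype.card_fin, Module.finrank_fintype_fun_eq_card, hcard]
  have : Nonempty (Fin n) := ⟨⟨0, hn⟩⟩
  let b0 : Basis (Fin n) F (ι → F) := basisOfLinearIndependentOfCardEqFinrank hli hc
  have hb0 : ∀ i, b0 i = ((Matrix.toLin' N) ^ (i : ℕ)) v := fun i => by
    simp [b0]
  let k : Unit → ℕ := fun _ => n
  let e : (Σ i : Unit, Fin (k i)) ≃ Fin n := Equiv.uniqueSigma (fun i : Unit => Fin (k i))
  let b : Basis (Σ i : Unit, Fin (k i)) F (ι → F) := b0.reindex e.symm
  have hJ : IsJordan (Matrix.toLin' N) k b := by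
    intro i l
    have h1 : b ⟨i, l⟩ = ((Matrix.toLin' N) ^ (l : ℕ)) v := by
      simp only [b, Basis.reindex_apply, Equiv.symm_symm]
      rw [hb0]
      rfl
    rw [h1, ← Module.End.mul_apply, ← pow_succ']
    by_cases h : (l : ℕ) + 1 < k i
    · rw [dif_pos h]
      have h2 : b ⟨i, ⟨l + 1, h⟩⟩ = ((Matrix.toLin' N) ^ ((l : ℕ) + 1)) v := by
        simp only [b, Basis.reindex_apply, Equiv.symm_symm]
        rw [hb0]
        rfl
      rw [h2]
    · rw [dif_neg h]
      have h3 : (l : ℕ) + 1 = n := by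
        have := l.2
        simp only [k] at this h
        omega
      rw [h3, hφn, LinearMap.zero_apply]
  rw [rank_pow_eq_finrank, hJ.finrank_range_pow j]
  simp [k]


theorem jordanType_sub_one_apply {t : ℕ} (d : Fin t → ℕ) (x y : (k : Fin t) × Fin (d k)) :
    (Cfsg.jordanTypeMatrix d F - 1) y x =
      if y.1 = x.1 ∧ (y.2 : ℕ) = (x.2 : ℕ) + 1 then 1 else 0 := by
  obtain ⟨k, l⟩ := x
  obtain ⟨k', l'⟩ := y
  rw [Matrix.sub_apply, Cfsg.jordanTypeMatrix]
  by_cases hk : k' = k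
  · subst hk
    rw [Matrix.blockDiagonal'_apply_eq, Cfsg.jordanBlock, Matrix.of_apply, Matrix.one_apply]
    by_cases hl : l' = l
    · subst hl
      simp
    · have hl' : (l' : ℕ) ≠ (l : ℕ) := fun h => hl (Fin.ext h)
      have hne : (⟨k', l'⟩ : (k : Fin t) × Fin (d k)) ≠ ⟨k', l⟩ := by
        intro h
        apply hl
        exact eq_of_heq (Sigma.mk.inj h).2
      rw [if_neg hl', if_neg hne, sub_zero]
      simp
  · rw [Matrix.blockDiagonal'_apply_ne _ _ _ hk, Matrix.one_apply]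
    have hne : (⟨k', l'⟩ : (k : Fin t) × Fin (d k)) ≠ ⟨k, l⟩ := by
      intro h
      exact hk (Sigma.mk.inj h).1
    rw [if_neg hne, sub_zero, if_neg]
    simp only
    tauto

theorem isJordan_jordanType {t : ℕ} (d : Fin t → ℕ) :
    IsJordan (Matrix.toLin' (Cfsg.jordanTypeMatrix d F - 1)) d
      (Pi.basisFun F ((k : Fin t) × Fin (d k))) := by
  intro i l
  rw [Pi.basisFun_apply, Matrix.toLin'_apply, Matrix.mulVec_single_one]
  ext y
  rw [Matrix.col_apply, jordanType_sub_one_apply]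
  by_cases h : (l : ℕ) + 1 < d i
  · rw [dif_pos h, Pi.basisFun_apply, Pi.single_apply]
    by_cases hy : y = ⟨i, ⟨l + 1, h⟩⟩
    · subst hy
      simp
    · rw [if_neg hy, if_neg]
      rintro ⟨h1, h2⟩
      apply hy
      obtain ⟨k', l'⟩ := y
      simp only at h1 h2
      subst h1
      congr 1
      exact Fin.ext h2
  · rw [dif_neg h, Pi.zero_apply, if_neg]
    rintro ⟨h1, h2⟩
    obtain ⟨k', l'⟩ := y
    simp only at h1 h2
    subst h1
    have := l'.2
    omega

theorem rank_jordanType_pow {t : ℕ} (d : Fin t → ℕ) (j : ℕ) :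
    ((Cfsg.jordanTypeMatrix d F - 1) ^ j).rank = ∑ k, (d k - j) := by
  rw [Matrix.rank, ← Matrix.toLin'_apply', Matrix.toLin'_pow]
  exact (isJordan_jordanType d).finrank_range_pow j

theorem rank_reindex_jordanType_pow {t : ℕ} (d : Fin t → ℕ) {ι : Type*} [Fintype ι]
    [DecidableEq ι] (e : ((k : Fin t) × Fin (d k)) ≃ ι) (j : ℕ) :
    ((Matrix.reindex e e (Cfsg.jordanTypeMatrix d F) - 1) ^ j).rank = ∑ k, (d k - j) := by
  have h1 : (Matrix.reindex e e (Cfsg.jordanTypeMatrix d F) - 1) ^ j =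
      Matrix.reindex e e ((Cfsg.jordanTypeMatrix d F - 1) ^ j) := by
    have h2 : Matrix.reindex e e (Cfsg.jordanTypeMatrix d F) - 1 =
        Matrix.reindexAlgEquiv F F e (Cfsg.jordanTypeMatrix d F - 1) := by
      rw [map_sub, map_one]
      rfl
    rw [h2, ← map_pow]
    rfl
  rw [h1, Matrix.rank_reindex, rank_jordanType_pow]


theorem eq_zero_of_rank_eq_zero (M : Matrix ι ι F) (h : M.rank = 0) : M = 0 := by
  unfold Matrix.rank at h
  rw [Submodule.finrank_eq_zero, LinearMap.range_eq_bot] at h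
  apply Matrix.toLin'.injective
  rw [map_zero, ← h]
  rfl

/-- nilpotent matrices with the same rank profile are similar -/
theorem exists_conj_of_rank_pow_eq (N N' : Matrix ι ι F) (hN : IsNilpotent N)
    (h : ∀ j, (N ^ j).rank = (N' ^ j).rank) :
    ∃ P Q : Matrix ι ι F, P * Q = 1 ∧ Q * P = 1 ∧ P * N * Q = N' := by
  have hN' : IsNilpotent N' := by
    obtain ⟨n, hn⟩ := hN
    refine ⟨n, eq_zero_of_rank_eq_zero _ ?_⟩
    rw [← h, hn, Matrix.rank_zero]
  have hφ : IsNilpotent (Matrix.toLin' N) := by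
    obtain ⟨j, hj⟩ := hN
    exact ⟨j, by rw [← Matrix.toLin'_pow, hj, map_zero]⟩
  have hφ' : IsNilpotent (Matrix.toLin' N') := by
    obtain ⟨j, hj⟩ := hN'
    exact ⟨j, by rw [← Matrix.toLin'_pow, hj, map_zero]⟩
  obtain ⟨d, k, b, hb⟩ := exists_jordan_basis (Matrix.toLin' N) hφ
  obtain ⟨d', k', b', hb'⟩ := exists_jordan_basis (Matrix.toLin' N') hφ'
  have hJ : IsJordan (Matrix.toLin' N) k b := hb
  have hJ' : IsJordan (Matrix.toLin' N') k' b' := hb'
  have hty : jtype k = jtype k' := by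
    apply jtype_eq_of_sums
    intro j
    rw [← hJ.finrank_range_pow j, ← hJ'.finrank_range_pow j, ← Matrix.toLin'_pow,
      ← Matrix.toLin'_pow]
    have := h j
    unfold Matrix.rank at this
    rw [← Matrix.toLin'_apply', ← Matrix.toLin'_apply'] at this
    exact this
  obtain ⟨ψ, hψ⟩ := exists_equiv_of_jtype_eq hJ hJ' hty
  let P : Matrix ι ι F := LinearMap.toMatrix' ψ.toLinearMap
  let Q : Matrix ι ι F := LinearMap.toMatrix' ψ.symm.toLinearMap
  have hPQ : P * Q = 1 := by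
    rw [← LinearMap.toMatrix'_comp]
    have : ψ.toLinearMap ∘ₗ ψ.symm.toLinearMap = LinearMap.id := by
      ext v; simp
    rw [this, LinearMap.toMatrix'_id]
  have hQP : Q * P = 1 := by
    rw [← LinearMap.toMatrix'_comp]
    have : ψ.symm.toLinearMap ∘ₗ ψ.toLinearMap = LinearMap.id := by
      ext v; simp
    rw [this, LinearMap.toMatrix'_id]
  refine ⟨P, Q, hPQ, hQP, ?_⟩
  have h3 : P * N = N' * P := by
    have e1 : N = LinearMap.toMatrix' (Matrix.toLin' N) := (LinearMap.toMatrix'_toLin' N).symm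
    have e2 : N' = LinearMap.toMatrix' (Matrix.toLin' N') := (LinearMap.toMatrix'_toLin' N').symm
    rw [e1, e2, ← LinearMap.toMatrix'_comp, ← LinearMap.toMatrix'_comp]
    congr 1
    apply LinearMap.ext
    intro v
    exact hψ v
  rw [h3, Matrix.mul_assoc, hPQ, Matrix.mul_one]

/-- unipotent matrices whose nilpotent parts have the same rank profile are conjugate -/
theorem isConj_of_rank_pow_eq (M M' : Matrix ι ι F) (hN : IsNilpotent (M - 1))
    (h : ∀ j, ((M - 1) ^ j).rank = ((M' - 1) ^ j).rank) : IsConj M M' := by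
  obtain ⟨P, Q, hPQ, hQP, hc⟩ := exists_conj_of_rank_pow_eq (M - 1) (M' - 1) hN h
  refine ⟨⟨P, Q, hPQ, hQP⟩, ?_⟩
  change P * M = M' * P
  have h1 : P * (M - 1) * Q = P * M * Q - 1 := by
    rw [Matrix.mul_sub, Matrix.sub_mul, Matrix.mul_one, hPQ]
  rw [h1] at hc
  have h2 : P * M * Q = M' := sub_left_injective hc
  rw [← h2, Matrix.mul_assoc, Matrix.mul_assoc, hQP, Matrix.mul_one]

/-- the number of blocks of a given size from the rank profile -/
theorem card_eq_of_prof {t : ℕ} (d : Fin t → ℕ) (j : ℕ) (hj : 1 ≤ j) :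
    (Finset.univ.filter (fun k : Fin t => d k = j)).card + 2 * ∑ k, (d k - j) =
      ∑ k, (d k - (j - 1)) + ∑ k, (d k - (j + 1)) := by
  have h1 := card_gt_eq d j
  have h2 := card_gt_eq d (j - 1)
  have h3 := card_eq_eq d j hj
  have h4 : j - 1 + 1 = j := by omega
  rw [h4] at h2
  omega


theorem rank_pow_of_isConj (M M' : Matrix ι ι F) (h : IsConj M M') (j : ℕ) :
    ((M' - 1) ^ j).rank = ((M - 1) ^ j).rank := by
  obtain ⟨c, hc⟩ := h
  have hc' : (c : Matrix ι ι F) * M = M' * (c : Matrix ι ι F) := hc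
  have h1 : (c : Matrix ι ι F) * ((c⁻¹ : (Matrix ι ι F)ˣ) : Matrix ι ι F) = 1 := Units.mul_inv c
  have h2 : ((c⁻¹ : (Matrix ι ι F)ˣ) : Matrix ι ι F) * (c : Matrix ι ι F) = 1 := Units.inv_mul c
  have h3 : M' - 1 = (c : Matrix ι ι F) * (M - 1) * ((c⁻¹ : (Matrix ι ι F)ˣ) : Matrix ι ι F) := by
    rw [Matrix.mul_sub, Matrix.sub_mul, Matrix.mul_one, h1, hc', Matrix.mul_assoc, h1,
      Matrix.mul_one]
  rw [h3, rank_pow_conj _ _ _ h1 h2]

end Cfsg.Agent.Helper8.UJ
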