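import Mathlib
import Cfsg.Agent.Helper8.AltRank
import Cfsg.Agent.Helper8.UJRank
set_option autoImplicit false

/-! The multiplicity of a Jordan block size `j` of a unipotent isometry of a nondegenerate
reflexive form is even whenever the induced form `B(N^(j-1) x, y)` on `ker N^j` is alternating. -/

namespace Cfsg.Agent.Helper8.UJ

open Module

variable {F : Type*} [Field F] {V : Type*} [AddCommGroup V] [Module F V]

section
variable (B : LinearMap.BilinForm F V) (N : Module.End F V)

theorem form_pow_left (hN : ∀ a b, B (N a) b + B a (N b) + B (N a) (N b) = 0) (s : ℕ) :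
    ∀ a c, (N ^ s) c = 0 → B ((N ^ s) a) c = 0 := by
  induction s with
  | zero =>
    intro a c hc
    rw [pow_zero, Module.End.one_apply] at hc
    rw [hc, map_zero]
  | succ s ih =>
    intro a c hc
    have h1 : (N ^ s) (N c) = 0 := by
      rw [← Module.End.mul_apply, ← pow_succ]; exact hc
    have h2 : (N ^ (s + 1)) a = N ((N ^ s) a) := by
      rw [pow_succ', Module.End.mul_apply]
    have h3 : N ((N ^ s) a) = (N ^ s) (N a) := by
      rw [← Module.End.mul_apply, ← Module.End.mul_apply, ← pow_succ', ← pow_succ]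
    have h4 := hN ((N ^ s) a) c
    rw [ih a (N c) h1, h3, ih (N a) (N c) h1] at h4
    rw [h2, h3]
    simpa using h4

theorem form_shift (hN : ∀ a b, B (N a) b + B a (N b) + B (N a) (N b) = 0) (j : ℕ)
    (x y : V) (hy : (N ^ j) y = 0) (s t : ℕ) (hst : s + t + 2 = j) :
    B ((N ^ (s + 1)) x) ((N ^ t) y) = - B ((N ^ s) x) ((N ^ (t + 1)) y) := by
  have h := hN ((N ^ s) x) ((N ^ t) y)
  have h1 : N ((N ^ s) x) = (N ^ (s + 1)) x := by rw [pow_succ', Module.End.mul_apply]
  have h2 : N ((N ^ t) y) = (N ^ (t + 1)) y := by rw [pow_succ', Module.End.mul_apply]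
  rw [h1, h2] at h
  have h3 : B ((N ^ (s + 1)) x) ((N ^ (t + 1)) y) = 0 := by
    apply form_pow_left B N hN
    rw [← Module.End.mul_apply, ← pow_add]
    have : s + 1 + (t + 1) = j := by omega
    rw [this, hy]
  rw [h3, add_zero] at h
  exact eq_neg_of_add_eq_zero_left h

/-- moving all the powers of `N` to the right -/
theorem form_shift_all (hN : ∀ a b, B (N a) b + B a (N b) + B (N a) (N b) = 0) (j : ℕ)
    (x y : V) (hy : (N ^ j) y = 0) (s : ℕ) :
    ∀ t, s + t + 1 = j →
      B ((N ^ (s + t)) x) y = (-1) ^ t * B ((N ^ s) x) ((N ^ t) y) := by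
  intro t
  induction t generalizing s with
  | zero =>
    intro _
    simp
  | succ t ih =>
    intro hst
    have h1 := ih (s + 1) (by omega)
    have h2 : s + 1 + t = s + (t + 1) := by omega
    rw [h2] at h1
    rw [h1, form_shift B N hN j x y hy s t (by omega), pow_succ]
    ring

theorem finrank_map_add_finrank_ker [FiniteDimensional F V] (K : Submodule F V)
    (hK : LinearMap.ker N ≤ K) :
    finrank F ↥(K.map N) + finrank F ↥(LinearMap.ker N) = finrank F ↥K := by
  have h := LinearMap.finrank_range_add_finrank_ker (N.domRestrict K)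
  rw [LinearMap.range_domRestrict, LinearMap.ker_domRestrict,
    (Submodule.comapSubtypeEquivOfLe hK).finrank_eq] at h
  exact h

theorem ker_le_ker_pow (j : ℕ) (hj : 1 ≤ j) : LinearMap.ker N ≤ LinearMap.ker (N ^ j) := by
  intro x hx
  rw [LinearMap.mem_ker] at hx ⊢
  obtain ⟨i, rfl⟩ : ∃ i, j = i + 1 := ⟨j - 1, by omega⟩
  rw [pow_succ, Module.End.mul_apply, hx, map_zero]

theorem orthogonal_ker_pow [FiniteDimensional F V] (hnd : B.Nondegenerate) (hrefl : B.IsRefl)
    (hN : ∀ a b, B (N a) b + B a (N b) + B (N a) (N b) = 0) (j : ℕ) :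
    B.orthogonal (LinearMap.ker (N ^ j)) = LinearMap.range (N ^ j) := by
  symm
  apply Submodule.eq_of_le_of_finrank_eq
  · rintro _ ⟨a, rfl⟩
    rw [LinearMap.BilinForm.mem_orthogonal_iff]
    intro n hn
    apply hrefl
    exact form_pow_left B N hN j a n (LinearMap.mem_ker.mp hn)
  · rw [LinearMap.BilinForm.finrank_orthogonal hnd]
    have := LinearMap.finrank_range_add_finrank_ker (N ^ j)
    omega

/-- the radical of the induced form on `ker N^j` -/
theorem radical_iff [FiniteDimensional F V] (hnd : B.Nondegenerate) (hrefl : B.IsRefl)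
    (hN : ∀ a b, B (N a) b + B a (N b) + B (N a) (N b) = 0) (j : ℕ) (hj : 1 ≤ j) (x : V)
    (hx : (N ^ j) x = 0) :
    (∀ y, (N ^ j) y = 0 → B ((N ^ (j - 1)) x) y = 0) ↔
      x ∈ LinearMap.ker (N ^ (j - 1)) ⊔ (LinearMap.ker (N ^ (j + 1))).map N := by
  obtain ⟨i, rfl⟩ : ∃ i, j = i + 1 := ⟨j - 1, by omega⟩
  simp only [Nat.add_sub_cancel]
  constructor
  · intro h
    have h1 : (N ^ i) x ∈ B.orthogonal (LinearMap.ker (N ^ (i + 1))) := by
      rw [LinearMap.BilinForm.mem_orthogonal_iff]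
      intro n hn
      apply hrefl
      exact h n (LinearMap.mem_ker.mp hn)
    rw [orthogonal_ker_pow B N hnd hrefl hN] at h1
    obtain ⟨z, hz⟩ := h1
    have hz1 : (N ^ i) (N z) = (N ^ i) x := by
      rw [← hz, ← Module.End.mul_apply, ← pow_succ]
    have hz2 : (N ^ (i + 1 + 1)) z = 0 := by
      rw [pow_succ', Module.End.mul_apply, hz, ← Module.End.mul_apply, ← pow_succ', hx]
    have hsplit : x = (x - N z) + N z := by abel
    rw [hsplit]
    apply Submodule.add_mem_sup
    · rw [LinearMap.mem_ker, map_sub, hz1, sub_self]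
    · exact Submodule.mem_map_of_mem (LinearMap.mem_ker.mpr hz2)
  · intro h y hy
    obtain ⟨x1, hx1, x2, hx2, rfl⟩ := Submodule.mem_sup.mp h
    obtain ⟨z, hz, rfl⟩ := hx2
    rw [LinearMap.mem_ker] at hx1
    rw [map_add, hx1, zero_add, ← Module.End.mul_apply, ← pow_succ]
    exact form_pow_left B N hN (i + 1) z y hy

theorem inf_eq_map (j : ℕ) (hj : 1 ≤ j) :
    LinearMap.ker (N ^ (j - 1)) ⊓ (LinearMap.ker (N ^ (j + 1))).map N =
      (LinearMap.ker (N ^ j)).map N := by
  obtain ⟨i, rfl⟩ : ∃ i, j = i + 1 := ⟨j - 1, by omega⟩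
  simp only [Nat.add_sub_cancel]
  ext x
  constructor
  · rintro ⟨h1, z, hz, rfl⟩
    refine ⟨z, ?_, rfl⟩
    have h1' : (N ^ i) (N z) = 0 := h1
    rw [SetLike.mem_coe, LinearMap.mem_ker]
    rw [pow_succ, Module.End.mul_apply, h1']
  · rintro ⟨z, hz, rfl⟩
    have hz' : (N ^ (i + 1)) z = 0 := hz
    refine ⟨?_, z, ?_, rfl⟩
    · show (N ^ i) (N z) = 0
      rw [← Module.End.mul_apply, ← pow_succ, hz']
    · rw [SetLike.mem_coe, LinearMap.mem_ker, pow_succ', Module.End.mul_apply, hz', map_zero]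

/-- the dimension of the radical -/
theorem finrank_radical [FiniteDimensional F V] (j : ℕ) (hj : 1 ≤ j) :
    finrank F ↥(LinearMap.ker (N ^ (j - 1)) ⊔ (LinearMap.ker (N ^ (j + 1))).map N) +
      finrank F ↥(LinearMap.ker (N ^ j)) =
      finrank F ↥(LinearMap.ker (N ^ (j - 1))) + finrank F ↥(LinearMap.ker (N ^ (j + 1))) := by
  have h1 := Submodule.finrank_sup_add_finrank_inf_eq (LinearMap.ker (N ^ (j - 1)))
    ((LinearMap.ker (N ^ (j + 1))).map N)
  rw [inf_eq_map N j hj] at h1
  have h2 := finrank_map_add_finrank_ker N (LinearMap.ker (N ^ (j + 1)))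
    (ker_le_ker_pow N (j + 1) (by omega))
  have h3 := finrank_map_add_finrank_ker N (LinearMap.ker (N ^ j)) (ker_le_ker_pow N j hj)
  omega

theorem alt_of_alt (hA : B.IsAlt)
    (hN : ∀ a b, B (N a) b + B a (N b) + B (N a) (N b) = 0) (j : ℕ) (hj : Odd j) (x : V)
    (hx : (N ^ j) x = 0) : B ((N ^ (j - 1)) x) x = 0 := by
  obtain ⟨i, rfl⟩ := hj
  have h := form_shift_all B N hN (2 * i + 1) x x hx i i (by omega)
  have h2 : 2 * i + 1 - 1 = i + i := by omega
  rw [h2, h, hA, mul_zero]

theorem alt_of_symm (hS : B.IsSymm) (h2 : (2 : F) ≠ 0)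
    (hN : ∀ a b, B (N a) b + B a (N b) + B (N a) (N b) = 0) (j : ℕ) (hj : Even j) (hj1 : 1 ≤ j)
    (x : V) (hx : (N ^ j) x = 0) : B ((N ^ (j - 1)) x) x = 0 := by
  have h := form_shift_all B N hN j x x hx 0 (j - 1) (by omega)
  rw [zero_add, pow_zero, Module.End.one_apply, hS.eq x ((N ^ (j - 1)) x)] at h
  have hodd : Odd (j - 1) := by
    obtain ⟨i, hi⟩ := hj
    exact ⟨i - 1, by omega⟩
  rw [hodd.neg_one_pow] at h
  have h3 : (2 : F) * B ((N ^ (j - 1)) x) x = 0 := by linear_combination h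
  rcases mul_eq_zero.mp h3 with h4 | h4
  · exact absurd h4 h2
  · exact h4

/-- evenness of the multiplicity of the block size `j` -/
theorem even_mult [FiniteDimensional F V] (hnd : B.Nondegenerate) (hrefl : B.IsRefl)
    (hN : ∀ a b, B (N a) b + B a (N b) + B (N a) (N b) = 0) (j : ℕ) (hj : 1 ≤ j)
    (halt : ∀ x, (N ^ j) x = 0 → B ((N ^ (j - 1)) x) x = 0) :
    ∃ r, 2 * finrank F ↥(LinearMap.ker (N ^ j)) =
      finrank F ↥(LinearMap.ker (N ^ (j - 1))) + finrank F ↥(LinearMap.ker (N ^ (j + 1))) +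
        2 * r := by
  set W := LinearMap.ker (N ^ j) with hW
  set R := LinearMap.ker (N ^ (j - 1)) ⊔ (LinearMap.ker (N ^ (j + 1))).map N with hR
  let β : LinearMap.BilinForm F ↥W := B.compl₁₂ ((N ^ (j - 1)) ∘ₗ W.subtype) W.subtype
  have hβ : ∀ x y : ↥W, β x y = B ((N ^ (j - 1)) (x : V)) (y : V) := fun x y => rfl
  have hA : β.IsAlt := by
    intro x
    rw [hβ]
    exact halt x (LinearMap.mem_ker.mp x.2)
  have hRW : R ≤ W := by
    rw [hR]
    apply sup_le
    · intro x hx
      rw [LinearMap.mem_ker] at hx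
      rw [hW, LinearMap.mem_ker]
      obtain ⟨i, rfl⟩ : ∃ i, j = i + 1 := ⟨j - 1, by omega⟩
      simp only [Nat.add_sub_cancel] at hx
      rw [pow_succ', Module.End.mul_apply, hx, map_zero]
    · rintro _ ⟨z, hz, rfl⟩
      have hz' : (N ^ (j + 1)) z = 0 := hz
      rw [hW, LinearMap.mem_ker, ← Module.End.mul_apply, ← pow_succ, hz']
  have hker : LinearMap.ker β = R.comap W.subtype := by
    ext x
    rw [LinearMap.mem_ker, Submodule.mem_comap, Submodule.subtype_apply, hR,
      ← radical_iff B N hnd hrefl hN j hj x (LinearMap.mem_ker.mp x.2)]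
    constructor
    · intro h y hy
      have := LinearMap.congr_fun h ⟨y, LinearMap.mem_ker.mpr hy⟩
      rwa [hβ] at this
    · intro h
      apply LinearMap.ext
      intro y
      rw [hβ, LinearMap.zero_apply]
      exact h y (LinearMap.mem_ker.mp y.2)
  obtain ⟨r, hr⟩ := AltRank.exists_finrank_eq' β hA
  rw [hker, (Submodule.comapSubtypeEquivOfLe hRW).finrank_eq] at hr
  have h2 := finrank_radical N j hj
  rw [← hR, ← hW] at h2
  refine ⟨r, ?_⟩
  omega

/-- the number of Jordan blocks of size `j` of a unipotent isometry is even, under the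
alternating hypothesis on the induced form -/
theorem even_card_of_isometry [FiniteDimensional F V] (hnd : B.Nondegenerate) (hrefl : B.IsRefl)
    (u : Module.End F V) (hu : ∀ a b, B (u a) (u b) = B a b) {t : ℕ} (d : Fin t → ℕ)
    (hprof : ∀ i, finrank F ↥(LinearMap.range ((u - 1) ^ i)) = ∑ k, (d k - i))
    (j : ℕ) (hj : 1 ≤ j)
    (halt : ∀ x, ((u - 1) ^ j) x = 0 → B (((u - 1) ^ (j - 1)) x) x = 0) :
    Even (Finset.univ.filter (fun k : Fin t => d k = j)).card := by
  have hN : ∀ a b, B ((u - 1) a) b + B a ((u - 1) b) + B ((u - 1) a) ((u - 1) b) = 0 := by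
    intro a b
    have h := hu a b
    simp only [LinearMap.sub_apply, Module.End.one_apply, map_sub, LinearMap.sub_apply]
    rw [h]
    abel
  obtain ⟨r, hr⟩ := even_mult B (u - 1) hnd hrefl hN j hj halt
  have h1 := LinearMap.finrank_range_add_finrank_ker ((u - 1) ^ j)
  have h2 := LinearMap.finrank_range_add_finrank_ker ((u - 1) ^ (j - 1))
  have h3 := LinearMap.finrank_range_add_finrank_ker ((u - 1) ^ (j + 1))
  rw [hprof] at h1 h2 h3
  have h4 := card_eq_of_prof d j hj
  refine ⟨r, ?_⟩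
  omega

end

end Cfsg.Agent.Helper8.UJ
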