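import Cfsg.Agent.Helper8.RegUMain
set_option autoImplicit false

/-!
Existence of a regular unipotent element of the symplectic group (odd characteristic), via the
Cayley transform of an explicit regular nilpotent element of the symplectic Lie algebra.
-/

namespace Cfsg.Agent.Helper8.RegU

open Polynomial Matrix Module

section general
variable {F : Type*} [Field F] {ι : Type*} [Fintype ι] [DecidableEq ι]

/-- a nilpotent matrix of maximal nilpotency index is regular -/
theorem isRegNilp_of_pow_ne_zero (T : Matrix ι ι F) (n : ℕ) (hcard : Fintype.card ι = n)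
    (hn : 1 ≤ n) (hT : T ^ n = 0) (hT' : T ^ (n - 1) ≠ 0) : IsRegNilp T n := by
  refine ⟨hcard, hn, hT, ?_⟩
  set φ : Module.End F (ι → F) := Matrix.toLin' T with hφ
  have hφn : φ ^ n = 0 := by rw [hφ, ← Matrix.toLin'_pow, hT, map_zero]
  have h1 : Matrix.toLin' (T ^ (n - 1)) ≠ 0 := by
    intro h2
    apply hT'
    apply Matrix.toLin'.injective
    rw [h2, map_zero]
  obtain ⟨v, hv⟩ : ∃ v, Matrix.toLin' (T ^ (n - 1)) v ≠ 0 := by
    by_contra hcon
    push Not at hcon
    exact h1 (LinearMap.ext hcon)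
  rw [Matrix.toLin'_pow] at hv
  have hli := linearIndependent_iterates φ n hφn v hv
  have hrk := LinearMap.finrank_range_add_finrank_ker φ
  rw [Module.finrank_fintype_fun_eq_card, hcard] at hrk
  have hr : T.rank = finrank F (LinearMap.range φ) := by
    rw [Matrix.rank, hφ, Matrix.toLin'_apply']
  rw [hr]
  -- the kernel is nonzero
  have hker : 1 ≤ finrank F (LinearMap.ker φ) := by
    have hmem : (φ ^ (n - 1)) v ∈ LinearMap.ker φ := by
      rw [LinearMap.mem_ker, ← Module.End.mul_apply, ← pow_succ']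
      have : n - 1 + 1 = n := by omega
      rw [this, hφn, LinearMap.zero_apply]
    by_contra hlt
    push Not at hlt
    have h0 : finrank F (LinearMap.ker φ) = 0 := by omega
    rw [Submodule.finrank_eq_zero] at h0
    rw [h0, Submodule.mem_bot] at hmem
    exact hv hmem
  -- the range has dimension at least n - 1
  have hrange : n - 1 ≤ finrank F (LinearMap.range φ) := by
    let w : Fin (n - 1) → LinearMap.range φ := fun i =>
      ⟨(φ ^ ((i : ℕ) + 1)) v, ⟨(φ ^ (i : ℕ)) v, by rw [← Module.End.mul_apply, ← pow_succ']⟩⟩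
    have hw : LinearIndependent F w := by
      apply LinearIndependent.of_comp (LinearMap.range φ).subtype
      have : (LinearMap.range φ).subtype ∘ w =
          (fun i : Fin n => (φ ^ (i : ℕ)) v) ∘ (fun i : Fin (n - 1) => ⟨(i : ℕ) + 1, by omega⟩) := by
        funext i
        rfl
      rw [this]
      apply hli.comp
      intro i j hij
      have := congrArg Fin.val hij
      simp only [Nat.add_right_cancel_iff] at this
      exact Fin.ext this
    have := hw.fintype_card_le_finrank
    rwa [Fintype.card_fin] at this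
  omega


end general

variable {F : Type*} [Field F] {m : ℕ}

local notation "Mat" => Matrix (Fin m ⊕ Fin m) (Fin m ⊕ Fin m) F

/-- powers of a graded shift matrix -/
theorem pow_apply_ne_zero_iff {ι : Type*} [Fintype ι] [DecidableEq ι] (M : Matrix ι ι F)
    (d : ι → ℕ) (n : ℕ) (hd : Function.Injective d) (hlt : ∀ x, d x < n)
    (hsurj : ∀ j < n, ∃ z, d z = j)
    (hM : ∀ x y, M x y ≠ 0 ↔ d x = d y + 1) (k : ℕ) (x y : ι) :
    (M ^ k) x y ≠ 0 ↔ d x = d y + k := by
  induction k generalizing x y with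
  | zero =>
    rw [pow_zero, Matrix.one_apply, add_zero]
    constructor
    · intro h
      by_cases hxy : x = y
      · rw [hxy]
      · rw [if_neg hxy] at h
        exact absurd rfl h
    · intro h
      rw [if_pos (hd h)]
      exact one_ne_zero
  | succ k ih =>
    rw [pow_succ, Matrix.mul_apply]
    constructor
    · intro h
      obtain ⟨z, _, hz⟩ := Finset.exists_ne_zero_of_sum_ne_zero h
      have h1 : (M ^ k) x z ≠ 0 := left_ne_zero_of_mul hz
      have h2 : M z y ≠ 0 := right_ne_zero_of_mul hz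
      rw [ih] at h1
      rw [hM] at h2
      omega
    · intro h
      obtain ⟨z₀, hz₀⟩ := hsurj (d y + 1) (by have := hlt x; omega)
      rw [Finset.sum_eq_single z₀]
      · apply mul_ne_zero
        · rw [ih]; omega
        · rw [hM]; exact hz₀
      · intro z _ hz
        have : M z y = 0 := by
          by_contra hne
          have hne' : M z y ≠ 0 := hne
          rw [hM] at hne'
          exact hz (hd (hne'.trans hz₀.symm))
        rw [this, mul_zero]
      · intro h0
        exact absurd (Finset.mem_univ _) h0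

/-- the standard regular nilpotent element of the symplectic Lie algebra -/
def A₀ (m : ℕ) : Matrix (Fin m) (Fin m) F := fun i j => if (i : ℕ) = (j : ℕ) + 1 then 1 else 0

def C₀ (m : ℕ) : Matrix (Fin m) (Fin m) F :=
  fun i j => if (i : ℕ) + 1 = m ∧ (j : ℕ) + 1 = m then 1 else 0

def T₀ (m : ℕ) : Matrix (Fin m ⊕ Fin m) (Fin m ⊕ Fin m) F :=
  Matrix.fromBlocks (A₀ m) 0 (C₀ m) (-(A₀ m)ᵀ)

theorem C₀_transpose (m : ℕ) : (C₀ (F := F) m)ᵀ = C₀ m := by
  ext i j
  simp only [Matrix.transpose_apply, C₀]
  congr 1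
  exact propext and_comm

theorem adj_T₀ (m : ℕ) : adj (T₀ (F := F) m) = -T₀ m := by
  unfold adj T₀ Matrix.J
  rw [Matrix.fromBlocks_transpose, Matrix.fromBlocks_neg, Matrix.fromBlocks_multiply,
    Matrix.fromBlocks_multiply, Matrix.fromBlocks_neg, C₀_transpose]
  simp

/-- the grading for which `T₀` is the shift -/
def deg (m : ℕ) : Fin m ⊕ Fin m → ℕ := Sum.elim (fun i => (i : ℕ)) (fun i => 2 * m - 1 - (i : ℕ))

theorem deg_injective (m : ℕ) : Function.Injective (deg m) := by
  rintro (i | i) (j | j) h <;> simp only [deg, Sum.elim_inl, Sum.elim_inr] at h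
  · exact congrArg Sum.inl (Fin.ext h)
  · have := i.2; have := j.2; omega
  · have := i.2; have := j.2; omega
  · have := i.2; have := j.2
    exact congrArg Sum.inr (Fin.ext (by omega))

theorem deg_lt (m : ℕ) (x : Fin m ⊕ Fin m) : deg m x < 2 * m := by
  rcases x with i | i <;> simp only [deg, Sum.elim_inl, Sum.elim_inr]
  · have := i.2; omega
  · have := i.2; omega

theorem deg_surj (m : ℕ) (j : ℕ) (hj : j < 2 * m) : ∃ z, deg m z = j := by
  by_cases h : j < m
  · exact ⟨Sum.inl ⟨j, h⟩, rfl⟩
  · refine ⟨Sum.inr ⟨2 * m - 1 - j, by omega⟩, ?_⟩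
    simp only [deg, Sum.elim_inr]
    omega

theorem T₀_apply_ne_zero_iff (m : ℕ) (x y : Fin m ⊕ Fin m) :
    T₀ (F := F) m x y ≠ 0 ↔ deg m x = deg m y + 1 := by
  rcases x with i | i <;> rcases y with j | j <;>
    simp only [T₀, deg, Matrix.fromBlocks_apply₁₁, Matrix.fromBlocks_apply₁₂,
      Matrix.fromBlocks_apply₂₁, Matrix.fromBlocks_apply₂₂, Sum.elim_inl, Sum.elim_inr, A₀, C₀,
      Matrix.zero_apply, Matrix.neg_apply, Matrix.transpose_apply]
  · split_ifs with h <;> simp [h]
  · have := i.2; have := j.2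
    simp only [ne_eq, not_true_eq_false, false_iff]
    omega
  · have := i.2; have := j.2
    split_ifs with h
    · simp only [ne_eq, one_ne_zero, not_false_eq_true, true_iff]; omega
    · simp only [ne_eq, not_true_eq_false, false_iff]; omega
  · have := i.2; have := j.2
    split_ifs with h
    · simp only [ne_eq, neg_eq_zero, one_ne_zero, not_false_eq_true, true_iff]; omega
    · simp only [ne_eq, neg_zero, not_true_eq_false, false_iff]; omega

theorem isRegNilp_T₀ (hm : 1 ≤ m) : IsRegNilp (T₀ (F := F) m) (2 * m) := by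
  have key := pow_apply_ne_zero_iff (T₀ (F := F) m) (deg m) (2 * m) (deg_injective m) (deg_lt m)
    (deg_surj m) (T₀_apply_ne_zero_iff m)
  apply isRegNilp_of_pow_ne_zero
  · rw [Fintype.card_sum, Fintype.card_fin]; ring
  · omega
  · ext x y
    by_contra h
    have h1 : (T₀ (F := F) m ^ (2 * m)) x y ≠ 0 := h
    rw [key] at h1
    have := deg_lt m x
    omega
  · intro h
    have h1 : (T₀ (F := F) m ^ (2 * m - 1)) (Sum.inr ⟨0, hm⟩) (Sum.inl ⟨0, hm⟩) ≠ 0 := by
      rw [key]
      simp [deg]
    apply h1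
    rw [h]
    rfl

theorem adj_sum {α : Type*} (s : Finset α) (f : α → Mat) :
    adj (∑ i ∈ s, f i) = ∑ i ∈ s, adj (f i) := by
  classical
  induction s using Finset.induction_on with
  | empty =>
    simp only [Finset.sum_empty]
    unfold adj
    simp
  | insert a s ha ih => rw [Finset.sum_insert ha, Finset.sum_insert ha, adj_add, ih]

theorem exists_regular_unipotent (h2 : (2 : F) ≠ 0) (hm : 1 ≤ m) :
    ∃ u : symplecticGroup (Fin m) F, ((u : Mat) - 1) ^ (2 * m) = 0 ∧
      ((u : Mat) - 1).rank = 2 * m - 1 := by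
  have hR := isRegNilp_T₀ (F := F) hm
  set T : Mat := T₀ m with hT
  have hadj : adj T = -T := adj_T₀ m
  set V : Mat := ∑ i ∈ Finset.range (2 * m), T ^ i with hV
  set V' : Mat := ∑ i ∈ Finset.range (2 * m), (-T) ^ i with hV'
  have hnegpow : (-T) ^ (2 * m) = 0 := by
    rw [neg_pow, hR.pow, mul_zero]
  have e1 : (1 - T) * V = 1 := by rw [hV, mul_neg_geom_sum, hR.pow, sub_zero]
  have e2 : V * (1 - T) = 1 := by rw [hV, geom_sum_mul_neg, hR.pow, sub_zero]
  have e3 : (1 + T) * V' = 1 := by
    have : (1 + T) = 1 - (-T) := by rw [sub_neg_eq_add]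
    rw [this, hV', mul_neg_geom_sum, hnegpow, sub_zero]
  have hadjV : adj V = V' := by
    rw [hV, adj_sum, hV']
    apply Finset.sum_congr rfl
    intro i _
    rw [adj_pow, hadj]
  have cTV : Commute T V := by
    rw [hV]
    exact Commute.sum_right _ _ _ (fun i _ => (Commute.refl T).pow_right i)
  have cTV' : Commute T V' := by
    rw [hV']
    exact Commute.sum_right _ _ _ (fun i _ => ((Commute.refl T).neg_right).pow_right i)
  have cVV' : Commute V V' := by
    rw [hV]
    exact Commute.sum_left _ _ _ (fun i _ => (cTV'.pow_left i))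
  set U : Mat := (1 + T) * V with hU
  have hadjU : adj U = V' * (1 - T) := by
    rw [hU, adj_mul, hadjV, adj_add, adj_one, hadj, ← sub_eq_add_neg]
  have hUsp : U ∈ symplecticGroup (Fin m) F := by
    rw [mem_symplectic_iff, hadjU, hU]
    calc (1 + T) * V * (V' * (1 - T)) = (1 + T) * (V * V') * (1 - T) := by
          simp only [Matrix.mul_assoc]
      _ = (1 + T) * (V' * V) * (1 - T) := by rw [cVV'.eq]
      _ = ((1 + T) * V') * (V * (1 - T)) := by simp only [Matrix.mul_assoc]
      _ = 1 := by rw [e3, e2, Matrix.mul_one]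
  set W : Mat := (2 : F) • V with hW
  have hU1 : U - 1 = T * W := by
    have : U - 1 = (1 + T) * V - (1 - T) * V := by rw [e1]
    rw [this, ← Matrix.sub_mul, hW, Matrix.mul_smul, ← Matrix.smul_mul]
    congr 1
    rw [two_smul]; abel
  have hWunit : IsUnit W := by
    refine ⟨⟨W, (2 : F)⁻¹ • (1 - T), ?_, ?_⟩, rfl⟩
    · rw [hW, Matrix.smul_mul, Matrix.mul_smul, e2, smul_smul, mul_inv_cancel₀ h2, one_smul]
    · rw [hW, Matrix.smul_mul, Matrix.mul_smul, e1, smul_smul, inv_mul_cancel₀ h2, one_smul]
  have cTW : Commute T W := cTV.smul_right _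
  refine ⟨⟨U, hUsp⟩, ?_, ?_⟩
  · change (U - 1) ^ (2 * m) = 0
    rw [hU1, cTW.mul_pow, hR.pow, zero_mul]
  · change (U - 1).rank = 2 * m - 1
    rw [hU1, Matrix.rank_mul_eq_left_of_isUnit_det _ _ ((Matrix.isUnit_iff_isUnit_det _).mp hWunit),
      hR.rank]

end Cfsg.Agent.Helper8.RegU
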