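import Mathlib
import Cfsg.Agent.Helper8.UJRank
set_option autoImplicit false

/-! The nilpotent shift matrix and the reversal matrix. -/

namespace Cfsg.Agent.Helper8.UJ

open Matrix Module

variable {F : Type*} [Field F]

/-- the nilpotent shift `e_j ↦ e_{j+1}` -/
def Zs (k : ℕ) : Matrix (Fin k) (Fin k) F :=
  Matrix.of fun i j => if (i : ℕ) = (j : ℕ) + 1 then 1 else 0

/-- the reversal permutation matrix -/
def Hr (k : ℕ) : Matrix (Fin k) (Fin k) F :=
  Matrix.of fun i j => if (i : ℕ) + (j : ℕ) + 1 = k then 1 else 0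

theorem Zs_pow_apply (k j : ℕ) (i l : Fin k) :
    ((Zs (F := F) k) ^ j) i l = if (i : ℕ) = (l : ℕ) + j then 1 else 0 := by
  induction j generalizing i l with
  | zero =>
    rw [pow_zero, Matrix.one_apply, add_zero]
    by_cases h : i = l
    · rw [if_pos h, if_pos (by rw [h])]
    · rw [if_neg h, if_neg (fun h' => h (Fin.ext h'))]
  | succ j ih =>
    rw [pow_succ, Matrix.mul_apply]
    by_cases h : (i : ℕ) = (l : ℕ) + (j + 1)
    · rw [if_pos h]
      have hl : (l : ℕ) + 1 < k := by have := i.2; omega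
      rw [Finset.sum_eq_single (⟨(l : ℕ) + 1, hl⟩ : Fin k)]
      · rw [ih, if_pos (by simp only; omega)]
        simp [Zs]
      · intro b _ hb
        have : (Zs (F := F) k) b l = 0 := by
          simp only [Zs, Matrix.of_apply]
          rw [if_neg]
          intro h'
          exact hb (Fin.ext h')
        rw [this, mul_zero]
      · intro h'
        exact absurd (Finset.mem_univ _) h'
    · rw [if_neg h]
      apply Finset.sum_eq_zero
      intro b _
      rw [ih]
      simp only [Zs, Matrix.of_apply]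
      by_cases h1 : (i : ℕ) = (b : ℕ) + j
      · rw [if_pos h1, if_neg (by omega), mul_zero]
      · rw [if_neg h1, zero_mul]

theorem Zs_pow_self (k : ℕ) : (Zs (F := F) k) ^ k = 0 := by
  ext i l
  rw [Zs_pow_apply, if_neg (by have := i.2; omega)]
  rfl

theorem Zs_pow_pred_ne_zero (k : ℕ) (hk : 1 ≤ k) : (Zs (F := F) k) ^ (k - 1) ≠ 0 := by
  intro h
  have h1 := congrFun (congrFun h ⟨k - 1, by omega⟩) ⟨0, by omega⟩
  rw [Zs_pow_apply, if_pos (by simp)] at h1
  exact one_ne_zero h1

theorem rank_Zs_pow (k j : ℕ) : ((Zs (F := F) k) ^ j).rank = k - j := by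
  rcases Nat.eq_zero_or_pos k with rfl | hk
  · have := Matrix.rank_le_card_width ((Zs (F := F) 0) ^ j)
    simp at this
    omega
  · exact rank_pow_of_regular _ k (Fintype.card_fin k) hk (Zs_pow_self k)
      (Zs_pow_pred_ne_zero k hk) j

theorem Hr_transpose (k : ℕ) : (Hr (F := F) k)ᵀ = Hr k := by
  ext i j
  simp only [Hr, Matrix.transpose_apply, Matrix.of_apply]
  congr 1
  rw [add_comm (j : ℕ)]

theorem Hr_mul_apply (k : ℕ) (M : Matrix (Fin k) (Fin k) F) (i l : Fin k) :
    (Hr (F := F) k * M) i l = M (Fin.rev i) l := by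
  rw [Matrix.mul_apply, Finset.sum_eq_single (Fin.rev i)]
  · simp only [Hr, Matrix.of_apply, Fin.val_rev]
    rw [if_pos (by have := i.2; omega), one_mul]
  · intro b _ hb
    simp only [Hr, Matrix.of_apply]
    rw [if_neg, zero_mul]
    intro h
    apply hb
    apply Fin.ext
    rw [Fin.val_rev]
    omega
  · intro h
    exact absurd (Finset.mem_univ _) h

theorem mul_Hr_apply (k : ℕ) (M : Matrix (Fin k) (Fin k) F) (i l : Fin k) :
    (M * Hr (F := F) k) i l = M i (Fin.rev l) := by
  rw [Matrix.mul_apply, Finset.sum_eq_single (Fin.rev l)]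
  · simp only [Hr, Matrix.of_apply, Fin.val_rev]
    rw [if_pos (by have := l.2; omega), mul_one]
  · intro b _ hb
    simp only [Hr, Matrix.of_apply]
    rw [if_neg, mul_zero]
    intro h
    apply hb
    apply Fin.ext
    rw [Fin.val_rev]
    omega
  · intro h
    exact absurd (Finset.mem_univ _) h

theorem Hr_mul_Hr (k : ℕ) : Hr (F := F) k * Hr k = 1 := by
  ext i l
  rw [Hr_mul_apply, Matrix.one_apply]
  simp only [Hr, Matrix.of_apply, Fin.val_rev]
  by_cases h : i = l
  · rw [if_pos h, if_pos (by rw [h]; have := l.2; omega)]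
  · rw [if_neg h, if_neg]
    intro h'
    apply h
    apply Fin.ext
    have := i.2
    omega

theorem Zs_mul_Hr (k : ℕ) : Zs (F := F) k * Hr k = Hr k * (Zs k)ᵀ := by
  ext i l
  rw [mul_Hr_apply, Hr_mul_apply, Matrix.transpose_apply]
  simp only [Zs, Matrix.of_apply, Fin.val_rev]
  have := i.2
  have := l.2
  by_cases h : (i : ℕ) = k - ((l : ℕ) + 1) + 1
  · rw [if_pos h, if_pos (by omega)]
  · rw [if_neg h, if_neg (by omega)]

end Cfsg.Agent.Helper8.UJ
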