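import Mathlib
import Cfsg.Agent.Helper8.UJShift
import Cfsg.Agent.Helper8.RegUExist
set_option autoImplicit false

/-! A regular unipotent matrix of even size `2k`, in all characteristics: multiplication by the
root of `x² - (2+z)x + 1` on `S²`, `S = F[z]/(z^k)`. -/

namespace Cfsg.Agent.Helper8.UJ

open Matrix Module

variable {F : Type*} [Field F]

/-- `2 + z` -/
def Es (k : ℕ) : Matrix (Fin k) (Fin k) F := 1 + 1 + Zs k

/-- the regular unipotent matrix -/
def uS (k : ℕ) : Matrix (Fin k ⊕ Fin k) (Fin k ⊕ Fin k) F := fromBlocks 0 (-1) 1 (Es k)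

/-- multiplication by `z` -/
def Zd (k : ℕ) : Matrix (Fin k ⊕ Fin k) (Fin k ⊕ Fin k) F := fromBlocks (Zs k) 0 0 (Zs k)

theorem fromBlocks_sub' {n m : Type*} (A A' : Matrix n n F) (B B' : Matrix n m F)
    (C C' : Matrix m n F) (D D' : Matrix m m F) :
    fromBlocks A B C D - fromBlocks A' B' C' D' =
      fromBlocks (A - A') (B - B') (C - C') (D - D') := by
  ext (i | i) (j | j) <;> simp

theorem uS_sub_one (k : ℕ) : uS (F := F) k - 1 = fromBlocks (-1) (-1) 1 (1 + Zs k) := by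
  rw [uS, ← Matrix.fromBlocks_one, fromBlocks_sub', Es]
  congr 1
  · simp
  · simp
  · simp
  · abel

theorem uS_sub_one_sq (k : ℕ) : (uS (F := F) k - 1) * (uS k - 1) = Zd k * uS k := by
  rw [uS_sub_one, uS, Zd, Matrix.fromBlocks_multiply, Matrix.fromBlocks_multiply, Es]
  congr 1
  · simp
  · noncomm_ring
  · noncomm_ring
  · noncomm_ring

theorem commute_Zd_uS (k : ℕ) : Commute (Zd (F := F) k) (uS k) := by
  change Zd k * uS k = uS k * Zd k
  rw [uS, Zd, Matrix.fromBlocks_multiply, Matrix.fromBlocks_multiply, Es]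
  congr 1
  · simp
  · simp
  · simp
  · noncomm_ring

theorem Zd_pow (k j : ℕ) : (Zd (F := F) k) ^ j = fromBlocks ((Zs k) ^ j) 0 0 ((Zs k) ^ j) := by
  rw [Zd, Matrix.fromBlocks_diagonal_pow]

theorem uS_sub_one_pow (k : ℕ) : (uS (F := F) k - 1) ^ (2 * k) = 0 := by
  rw [pow_mul, pow_two, uS_sub_one_sq, (commute_Zd_uS k).mul_pow, Zd_pow, Zs_pow_self,
    Matrix.fromBlocks_zero, zero_mul]

theorem rank_uS_sub_one (k : ℕ) (hk : 1 ≤ k) : (uS (F := F) k - 1).rank = 2 * k - 1 := by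
  set L : Matrix (Fin k ⊕ Fin k) (Fin k ⊕ Fin k) F := fromBlocks 1 0 1 1 with hL
  set R : Matrix (Fin k ⊕ Fin k) (Fin k ⊕ Fin k) F := fromBlocks 1 (-1) 0 1 with hR
  have hLdet : IsUnit L.det := by
    rw [hL, Matrix.det_fromBlocks_zero₁₂]
    simp
  have hRdet : IsUnit R.det := by
    rw [hR, Matrix.det_fromBlocks_zero₂₁]
    simp
  have h1 : L * (uS k - 1) * R = fromBlocks (-1) 0 0 (Zs k) := by
    rw [uS_sub_one, hL, hR, Matrix.fromBlocks_multiply, Matrix.fromBlocks_multiply]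
    congr 1
    · simp
    · simp
    · simp
    · simp
  have h2 := congrArg Matrix.rank h1
  rw [Matrix.rank_mul_eq_left_of_isUnit_det _ _ hRdet,
    Matrix.rank_mul_eq_right_of_isUnit_det _ _ hLdet, rank_fromBlocks_diag] at h2
  rw [h2]
  have h3 : (-1 : Matrix (Fin k) (Fin k) F).rank = k := by
    have := Matrix.rank_of_isUnit (-1 : Matrix (Fin k) (Fin k) F) (isUnit_one.neg)
    rwa [Fintype.card_fin] at this
  have h4 := rank_Zs_pow (F := F) k 1
  rw [pow_one] at h4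
  rw [h3, h4]
  omega

/-- the rank profile of the regular unipotent matrix -/
theorem rank_uS_sub_one_pow (k : ℕ) (hk : 1 ≤ k) (j : ℕ) :
    ((uS (F := F) k - 1) ^ j).rank = 2 * k - j := by
  have hreg : RegU.IsRegNilp (uS (F := F) k - 1) (2 * k) :=
    ⟨by rw [Fintype.card_sum, Fintype.card_fin]; omega, by omega, uS_sub_one_pow k,
      rank_uS_sub_one k hk⟩
  exact rank_pow_of_regular _ (2 * k) hreg.card hreg.pos hreg.pow hreg.pow_pred_ne_zero j

/-- the change of coordinates to the standard symplectic form -/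
def Ps (k : ℕ) : Matrix (Fin k ⊕ Fin k) (Fin k ⊕ Fin k) F := fromBlocks 1 0 0 (Hr k)

theorem Ps_mul_Ps (k : ℕ) : Ps (F := F) k * Ps k = 1 := by
  rw [Ps, Matrix.fromBlocks_multiply]
  simp [Hr_mul_Hr, Matrix.fromBlocks_one]

theorem Hr_mul_Zs (k : ℕ) : Hr (F := F) k * Zs k = (Zs k)ᵀ * Hr k := by
  have h := Zs_mul_Hr (F := F) k
  calc Hr k * Zs k = Hr k * (Zs k * Hr k) * Hr k := by
        rw [Matrix.mul_assoc, Matrix.mul_assoc, Hr_mul_Hr, Matrix.mul_one]
    _ = (Zs k)ᵀ * Hr k := by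
        rw [h, ← Matrix.mul_assoc, Hr_mul_Hr, Matrix.one_mul]

/-- the regular unipotent symplectic matrix -/
def uSp (k : ℕ) : Matrix (Fin k ⊕ Fin k) (Fin k ⊕ Fin k) F :=
  fromBlocks 0 (-Hr k) (Hr k) (1 + 1 + (Zs k)ᵀ)

theorem uSp_eq (k : ℕ) : uSp (F := F) k = Ps k * uS k * Ps k := by
  rw [uSp, Ps, uS, Matrix.fromBlocks_multiply, Matrix.fromBlocks_multiply, Es]
  congr 1
  · simp
  · simp
  · simp
  · simp only [Matrix.zero_mul, Matrix.mul_zero, zero_add, Matrix.mul_add, Matrix.add_mul,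
      Matrix.mul_one, Hr_mul_Hr]
    rw [Hr_mul_Zs, Matrix.mul_assoc, Hr_mul_Hr, Matrix.mul_one]

theorem uSp_mem (k : ℕ) : uSp (F := F) k ∈ symplecticGroup (Fin k) F := by
  rw [SymplecticGroup.mem_iff, uSp, Matrix.J, Matrix.fromBlocks_transpose,
    Matrix.fromBlocks_multiply, Matrix.fromBlocks_multiply]
  congr 1
  · simp
  · simp [Hr_transpose, Hr_mul_Hr]
  · simp [Hr_transpose, Hr_mul_Hr]
  · simp only [Matrix.mul_zero, Matrix.mul_neg, Matrix.mul_one, Matrix.transpose_add,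
      Matrix.transpose_one, Matrix.transpose_transpose, Matrix.neg_mul, add_zero, zero_add,
      Matrix.add_mul, Matrix.one_mul, Matrix.mul_add, Hr_transpose]
    rw [Hr_mul_Zs]
    abel

theorem rank_uSp_sub_one_pow (k : ℕ) (hk : 1 ≤ k) (j : ℕ) :
    ((uSp (F := F) k - 1) ^ j).rank = 2 * k - j := by
  have h1 : uSp (F := F) k - 1 = Ps k * (uS k - 1) * Ps k := by
    rw [uSp_eq, Matrix.mul_sub, Matrix.sub_mul, Matrix.mul_one, Ps_mul_Ps]
  rw [h1, rank_pow_conj _ _ _ (Ps_mul_Ps k) (Ps_mul_Ps k), rank_uS_sub_one_pow k hk]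

end Cfsg.Agent.Helper8.UJ
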