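import Mathlib
import Cfsg.Prelude.Def_JordanBlocks
import Cfsg.Agent.Helper8.UJRank
import Cfsg.Agent.Helper8.UJEven
import Cfsg.Agent.Helper8.SpSMat
import Cfsg.Agent.Helper8.SpXBlocks
import Cfsg.Agent.Helper8.UJSingle
import Cfsg.Agent.Helper8.UJInd
set_option autoImplicit false

/-! Unipotent Jordan types in the symplectic group. -/

namespace Cfsg.Agent.Helper8.UJ

open Matrix Module
open Cfsg.Agent.Helper8.SpS
open Cfsg.Agent.Helper8.SpG Cfsg.Agent.Helper8.SpX

variable {F : Type*} [Field F]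

theorem toLin'_sub_one_pow {ι : Type*} [Fintype ι] [DecidableEq ι] (A : Matrix ι ι F) (i : ℕ) :
    (Matrix.toLin' A - 1) ^ i = Matrix.toLin' ((A - 1) ^ i) := by
  rw [Matrix.toLin'_pow, map_sub, Matrix.toLin'_one]
  rfl

theorem finrank_range_toLin'_sub_one_pow {ι : Type*} [Fintype ι] [DecidableEq ι]
    (A : Matrix ι ι F) (i : ℕ) :
    finrank F ↥(LinearMap.range ((Matrix.toLin' A - 1) ^ i)) = ((A - 1) ^ i).rank := by
  rw [toLin'_sub_one_pow, rank_eq_finrank_range_toLin']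

theorem sp_forward {m t : ℕ} (d : Fin t → ℕ) (e : ((k : Fin t) × Fin (d k)) ≃ (Fin m ⊕ Fin m))
    (A : Matrix.symplecticGroup (Fin m) F)
    (h : IsConj (Matrix.reindex e e (Cfsg.jordanTypeMatrix d F))
      (A : Matrix (Fin m ⊕ Fin m) (Fin m ⊕ Fin m) F)) (j : ℕ) (hj : Odd j) :
    Even (Finset.univ.filter (fun k : Fin t => d k = j)).card := by
  have hJdet : (Matrix.J (Fin m) F).det ≠ 0 := (Matrix.isUnit_det_J (Fin m) F).ne_zero
  have hnd : LinearMap.BilinForm.Nondegenerate (bform (Matrix.J (Fin m) F)) :=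
    (Matrix.nondegenerate_of_det_ne_zero hJdet).toLinearMap₂'
  have hA : LinearMap.BilinForm.IsAlt (bform (Matrix.J (Fin m) F)) := alt_bform_J
  have hu := inv_bform (Matrix.J (Fin m) F) _ (transpose_J_mul A.2)
  have hj1 : 1 ≤ j := by
    obtain ⟨i, rfl⟩ := hj
    omega
  apply even_card_of_isometry (bform (Matrix.J (Fin m) F)) hnd hA.isRefl
    (Matrix.toLin' (A : Matrix (Fin m ⊕ Fin m) (Fin m ⊕ Fin m) F)) hu d _ j hj1
  · exact alt_of_alt _ _ hA (by
      intro a b
      have h := hu a b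
      simp only [LinearMap.sub_apply, Module.End.one_apply, map_sub, LinearMap.sub_apply]
      rw [h]
      abel) j hj
  · intro i
    rw [finrank_range_toLin'_sub_one_pow, rank_pow_of_isConj _ _ h, rank_reindex_jordanType_pow]

/-- the rank profile of a multiset of block sizes -/
def mprof (ν : Multiset ℕ) (j : ℕ) : ℕ := (ν.map (fun a => a - j)).sum

theorem mprof_zero (j : ℕ) : mprof 0 j = 0 := by simp [mprof]

theorem mprof_add (ν₁ ν₂ : Multiset ℕ) (j : ℕ) : mprof (ν₁ + ν₂) j = mprof ν₁ j + mprof ν₂ j := by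
  simp [mprof]

theorem mprof_singleton (a j : ℕ) : mprof {a} j = a - j := by simp [mprof]

theorem mprof_pair (a j : ℕ) : mprof {a, a} j = (a - j) + (a - j) := by
  simp [mprof, Multiset.insert_eq_cons]

theorem mprof_map {t : ℕ} (d : Fin t → ℕ) (j : ℕ) :
    mprof (Finset.univ.val.map d) j = ∑ k, (d k - j) := by
  unfold mprof
  rw [Multiset.map_map]
  rfl

section gen
variable {ι : Type*} [Fintype ι] [DecidableEq ι]

theorem rank_inv_sub_one_pow (C W : Matrix ι ι F) (h1 : C * W = 1) (h2 : W * C = 1) (j : ℕ) :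
    ((W - 1) ^ j).rank = ((C - 1) ^ j).rank := by
  have e1 : W - 1 = (C - 1) * (-W) := by
    rw [Matrix.sub_mul, Matrix.mul_neg, h1, Matrix.one_mul]
    abel
  have hc : Commute (C - 1) (-W) := by
    change (C - 1) * (-W) = (-W) * (C - 1)
    rw [Matrix.sub_mul, Matrix.mul_sub, Matrix.mul_neg, Matrix.neg_mul, h1, h2, Matrix.one_mul,
      Matrix.mul_one]
  have hu : IsUnit (-W) := by
    refine ⟨⟨-W, -C, ?_, ?_⟩, rfl⟩
    · rw [Matrix.neg_mul, Matrix.mul_neg, neg_neg, h2]
    · rw [Matrix.neg_mul, Matrix.mul_neg, neg_neg, h1]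
  rw [e1, rank_pow_mul_unit _ _ hc hu]

theorem rank_transpose_sub_one_pow (M : Matrix ι ι F) (j : ℕ) :
    ((Mᵀ - 1) ^ j).rank = ((M - 1) ^ j).rank := by
  have e1 : Mᵀ - 1 = (M - 1)ᵀ := by rw [Matrix.transpose_sub, Matrix.transpose_one]
  rw [e1, ← Matrix.transpose_pow, Matrix.rank_transpose]

theorem rank_reindex_sub_one_pow {ι' : Type*} [Fintype ι'] [DecidableEq ι'] (e : ι ≃ ι')
    (M : Matrix ι ι F) (j : ℕ) :
    ((Matrix.reindex e e M - 1) ^ j).rank = ((M - 1) ^ j).rank := by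
  have h1 : (Matrix.reindex e e M - 1) ^ j = Matrix.reindex e e ((M - 1) ^ j) := by
    have h2 : Matrix.reindex e e M - 1 = Matrix.reindexAlgEquiv F F e (M - 1) := by
      rw [map_sub, map_one]
      rfl
    rw [h2, ← map_pow]
    rfl
  rw [h1, Matrix.rank_reindex]

end gen

/-- realisability of a rank profile by a unipotent symplectic matrix -/
def SpReal (F : Type*) [Field F] (ν : Multiset ℕ) : Prop :=
  ∃ (m : ℕ) (A : Matrix.symplecticGroup (Fin m) F),
    ∀ j, (((A : Matrix (Fin m ⊕ Fin m) (Fin m ⊕ Fin m) F) - 1) ^ j).rank = mprof ν j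

theorem spReal_zero : SpReal F 0 := by
  refine ⟨0, 1, fun j => ?_⟩
  rw [mprof_zero]
  have := Matrix.rank_le_card_width
    ((((1 : Matrix.symplecticGroup (Fin 0) F) : Matrix (Fin 0 ⊕ Fin 0) (Fin 0 ⊕ Fin 0) F) - 1) ^ j)
  simp only [Fintype.card_sum, Fintype.card_fin] at this
  omega

theorem spReal_add (ν₁ ν₂ : Multiset ℕ) (h₁ : SpReal F ν₁) (h₂ : SpReal F ν₂) :
    SpReal F (ν₁ + ν₂) := by
  obtain ⟨a, A, hA⟩ := h₁
  obtain ⟨b, B, hB⟩ := h₂
  refine ⟨a + b, spSum a b (A, B), fun j => ?_⟩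
  change ((bsum a b A.1 B.1 - 1) ^ j).rank = _
  have h : bsum a b A.1 B.1 = Matrix.reindex (sig2 a b) (sig2 a b) (fromBlocks A.1 0 0 B.1) := rfl
  rw [h, rank_reindex_sub_one_pow, fromBlocks_diag_sub_one, rank_pow_fromBlocks, mprof_add]
  exact congrArg₂ (· + ·) (hA j) (hB j)

theorem spReal_pair (a : ℕ) : SpReal F {a, a} := by
  have hnil : IsNilpotent (Zs (F := F) a) := ⟨a, Zs_pow_self a⟩
  obtain ⟨u, hu⟩ := hnil.isUnit_one_add
  set W : Matrix (Fin a) (Fin a) F := ((u⁻¹ : (Matrix (Fin a) (Fin a) F)ˣ) : Matrix (Fin a) (Fin a) F)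
    with hW
  have h1 : (1 + Zs a) * W = 1 := by rw [← hu, hW]; exact Units.mul_inv u
  have h2 : W * (1 + Zs a) = 1 := by rw [← hu, hW]; exact Units.inv_mul u
  have hmem : fromBlocks (1 + Zs a) 0 0 Wᵀ ∈ symplecticGroup (Fin a) F :=
    pair_mem _ _ (by rw [Matrix.transpose_transpose]; exact h1)
  refine ⟨a, ⟨_, hmem⟩, fun j => ?_⟩
  change ((fromBlocks (1 + Zs a) 0 0 Wᵀ - 1) ^ j).rank = _
  rw [fromBlocks_diag_sub_one, rank_pow_fromBlocks, rank_transpose_sub_one_pow,
    rank_inv_sub_one_pow _ _ h1 h2, add_sub_cancel_left, rank_Zs_pow, mprof_pair]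

theorem spReal_single (k : ℕ) (hk : 1 ≤ k) : SpReal F {2 * k} := by
  refine ⟨k, ⟨uSp k, uSp_mem k⟩, fun j => ?_⟩
  change ((uSp (F := F) k - 1) ^ j).rank = _
  rw [rank_uSp_sub_one_pow k hk, mprof_singleton]

/-- every multiset of positive sizes in which odd sizes have even multiplicity is realised -/
theorem spReal_of_even (ν : Multiset ℕ) (hpos : ∀ a ∈ ν, 1 ≤ a)
    (hev : ∀ a, Odd a → Even (ν.count a)) : SpReal F ν := by
  apply multiset_induction (SpReal F) (fun a => Even a) spReal_zero spReal_add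
  · intro a ha hgood
    obtain ⟨k, rfl⟩ := hgood
    have : k + k = 2 * k := by ring
    rw [this]
    exact spReal_single k (by omega)
  · intro a _
    exact spReal_pair a
  · exact hpos
  · intro a ha
    exact hev a (Nat.not_even_iff_odd.mp ha)

theorem count_map_univ {t : ℕ} (d : Fin t → ℕ) (a : ℕ) :
    (Finset.univ.val.map d).count a = (Finset.univ.filter (fun k : Fin t => d k = a)).card := by
  rw [Multiset.count_map]
  congr 1
  simp only [Finset.filter_val]
  congr 1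
  ext i
  exact eq_comm

theorem isNilpotent_reindex_jordanType {t : ℕ} (d : Fin t → ℕ) {ι : Type*} [Fintype ι]
    [DecidableEq ι] (e : ((k : Fin t) × Fin (d k)) ≃ ι) :
    IsNilpotent (Matrix.reindex e e (Cfsg.jordanTypeMatrix d F) - 1) := by
  refine ⟨∑ k, d k, eq_zero_of_rank_eq_zero _ ?_⟩
  rw [rank_reindex_jordanType_pow]
  apply Finset.sum_eq_zero
  intro k _
  have : d k ≤ ∑ k, d k := Finset.single_le_sum (f := d) (fun i _ => Nat.zero_le _) (Finset.mem_univ k)
  omega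

theorem sp_backward {m t : ℕ} (d : Fin t → ℕ) (hd : ∀ k, 1 ≤ d k) (hsum : ∑ k, d k = 2 * m)
    (hev : ∀ j : ℕ, Odd j → Even (Finset.univ.filter (fun k : Fin t => d k = j)).card) :
    ∃ e : ((k : Fin t) × Fin (d k)) ≃ (Fin m ⊕ Fin m), ∃ A : Matrix.symplecticGroup (Fin m) F,
      IsConj (Matrix.reindex e e (Cfsg.jordanTypeMatrix d F))
        (A : Matrix (Fin m ⊕ Fin m) (Fin m ⊕ Fin m) F) := by
  have hreal : SpReal F (Finset.univ.val.map d) := by
    apply spReal_of_even
    · intro a ha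
      rw [Multiset.mem_map] at ha
      obtain ⟨k, _, rfl⟩ := ha
      exact hd k
    · intro a ha
      rw [count_map_univ]
      exact hev a ha
  obtain ⟨m', A, hA⟩ := hreal
  have hm : m' = m := by
    have h0 := hA 0
    rw [pow_zero, Matrix.rank_one, mprof_map, Fintype.card_sum, Fintype.card_fin] at h0
    simp only [Nat.sub_zero] at h0
    omega
  subst hm
  have hcard : Fintype.card ((k : Fin t) × Fin (d k)) = Fintype.card (Fin m' ⊕ Fin m') := by
    rw [Fintype.card_sigma, Fintype.card_sum, Fintype.card_fin]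
    simp only [Fintype.card_fin]
    omega
  let e := Fintype.equivOfCardEq hcard
  refine ⟨e, A, ?_⟩
  apply isConj_of_rank_pow_eq _ _ (isNilpotent_reindex_jordanType d e)
  intro j
  rw [rank_reindex_jordanType_pow, hA j, mprof_map]

end Cfsg.Agent.Helper8.UJ
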