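import Cfsg.Agent.Helper8.SpUI
import Cfsg.Agent.Helper8.SpUJ
import Cfsg.Agent.Helper8.UJSp
set_option autoImplicit false
set_option linter.unusedSectionVars false

/-!
Unipotent classes of the symplectic groups: rank profiles and multisets of block sizes; the
number of classes with a given multiset of block sizes.
-/

namespace Cfsg.Agent.Helper8.SpU

open Matrix Module Cfsg.Agent.Helper8.JCent Cfsg.Agent.Helper8.UJ Cfsg.Agent.Helper8.Jordan

variable {F : Type*} [Field F]

/-- every multiset is the multiset of values of a function on an initial segment -/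
theorem exists_fin_map (ν : Multiset ℕ) :
    ∃ (t : ℕ) (d : Fin t → ℕ), Finset.univ.val.map d = ν := by
  refine ⟨ν.toList.length, fun i => ν.toList.get i, ?_⟩
  rw [Fin.univ_val_map, List.ofFn_get]
  exact Multiset.coe_toList ν

theorem mprof_filter_pos (ν : Multiset ℕ) (j : ℕ) :
    mprof (ν.filter (fun a => 0 < a)) j = mprof ν j := by
  have h := Multiset.filter_add_not (fun a => 0 < a) ν
  conv_rhs => rw [← h, mprof_add]
  have h0 : mprof (ν.filter (fun a => ¬ 0 < a)) j = 0 := by
    unfold mprof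
    apply Multiset.sum_eq_zero
    intro x hx
    rw [Multiset.mem_map] at hx
    obtain ⟨a, ha, rfl⟩ := hx
    rw [Multiset.mem_filter] at ha
    omega
  rw [h0, add_zero]

/-- the rank profile of a nilpotent matrix is that of a multiset of block sizes -/
theorem exists_prof {ι : Type*} [Fintype ι] [DecidableEq ι] (N : Matrix ι ι F)
    (hN : IsNilpotent N) :
    ∃ ν : Multiset ℕ, (∀ a ∈ ν, 1 ≤ a) ∧ ∀ j, (N ^ j).rank = mprof ν j := by
  have hφ : IsNilpotent (Matrix.toLin' N) := by
    obtain ⟨j, hj⟩ := hN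
    exact ⟨j, by rw [← Matrix.toLin'_pow, hj, map_zero]⟩
  obtain ⟨d, k, b, hb⟩ := exists_jordan_basis (Matrix.toLin' N) hφ
  have hJ : IsJordan (Matrix.toLin' N) k b := hb
  refine ⟨jtype k, ?_, fun j => ?_⟩
  · intro a ha
    unfold jtype at ha
    exact (Multiset.mem_filter.mp ha).2
  · unfold jtype
    rw [mprof_filter_pos, mprof_map, rank_pow_eq_finrank, hJ.finrank_range_pow]

/-- the multiset of block sizes is determined by the rank profile -/
theorem eq_of_mprof_eq (ν ν' : Multiset ℕ) (hpos : ∀ a ∈ ν, 1 ≤ a) (hpos' : ∀ a ∈ ν', 1 ≤ a)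
    (h : ∀ j, mprof ν j = mprof ν' j) : ν = ν' := by
  obtain ⟨t, d, rfl⟩ := exists_fin_map ν
  obtain ⟨t', d', rfl⟩ := exists_fin_map ν'
  have h1 : jtype d = jtype d' := by
    apply jtype_eq_of_sums
    intro j
    rw [← mprof_map, ← mprof_map]
    exact h j
  unfold jtype at h1
  have e1 : (Finset.univ.val.map d).filter (fun a => 0 < a) = Finset.univ.val.map d :=
    Multiset.filter_eq_self.mpr (fun a ha => hpos a ha)
  have e2 : (Finset.univ.val.map d').filter (fun a => 0 < a) = Finset.univ.val.map d' :=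
    Multiset.filter_eq_self.mpr (fun a ha => hpos' a ha)
  rwa [e1, e2] at h1

theorem mprof_zero_eq (ν : Multiset ℕ) : mprof ν 0 = ν.sum := by
  unfold mprof
  simp

theorem mprof_eq_zero_iff (ν : Multiset ℕ) (j : ℕ) : mprof ν j = 0 ↔ ∀ a ∈ ν, a ≤ j := by
  unfold mprof
  rw [Multiset.sum_eq_zero_iff]
  constructor
  · intro h a ha
    have := h (a - j) (Multiset.mem_map.mpr ⟨a, ha, rfl⟩)
    omega
  · intro h x hx
    obtain ⟨a, ha, rfl⟩ := Multiset.mem_map.mp hx
    have := h a ha
    omega

section fibre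

variable [Fintype F]

/-- **the number of classes with a given multiset of block sizes** -/
theorem card_fibre' (p : ℕ) [Fact p.Prime] [CharP F p] (hp : p ≠ 2) {m : ℕ} (ν : Multiset ℕ)
    (hpos : ∀ a ∈ ν, 1 ≤ a) (hev : ∀ a, Odd a → Even (ν.count a)) (hsum : ν.sum = 2 * m) :
    Nat.card {C : ConjClasses (Matrix.symplecticGroup (Fin m) F) //
      ∃ g : Matrix.symplecticGroup (Fin m) F, ConjClasses.mk g = C ∧
        ∀ j, (((g : Matrix (Fin m ⊕ Fin m) (Fin m ⊕ Fin m) F) - 1) ^ j).rank = mprof ν j} =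
      2 ^ (ν.toFinset.filter (fun s => Even s)).card := by
  obtain ⟨t, M, hM⟩ := exists_Mod (F := F) ν hpos hev
  have hs : ∑ k, M.d k = 2 * m := by
    rw [← hsum, ← hM]
    rfl
  have h1 := card_fibre p hp M hs
  have hE : M.E = ν.toFinset.filter (fun s => Even s) := by
    unfold Mod.E
    rw [← hM]
    rfl
  have hprof : ∀ j, ∑ k, (M.d k - j) = mprof ν j := by
    intro j
    rw [← hM, mprof_map]
  rw [← hE, ← h1]
  simp only [hprof]

end fibre

end Cfsg.Agent.Helper8.SpU
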