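import Cfsg.Agent.Helper8.JordanClasses
set_option autoImplicit false

namespace Cfsg.Agent.Helper8.Jordan

open Matrix Module

variable {F : Type*} [Field F] [Fintype F] {n : ℕ}

theorem partOf_conj (x g : GL (Fin n) F)
    (h : IsNilpotent ((g : Matrix (Fin n) (Fin n) F) - 1))
    (h' : IsNilpotent (((x * g * x⁻¹ : GL (Fin n) F) : Matrix (Fin n) (Fin n) F) - 1)) :
    partOf (x * g * x⁻¹) h' = partOf g h := by
  apply Nat.Partition.ext
  exact typeOf_conj x g h

theorem isNilpotent_conj (x g : GL (Fin n) F)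
    (h : IsNilpotent ((g : Matrix (Fin n) (Fin n) F) - 1)) :
    IsNilpotent (((x * g * x⁻¹ : GL (Fin n) F) : Matrix (Fin n) (Fin n) F) - 1) := by
  rw [← conj_sub_one]
  obtain ⟨j, hj⟩ := h
  refine ⟨j, ?_⟩
  have := Units.conj_pow x ((g : Matrix (Fin n) (Fin n) F) - 1) j
  rw [this, hj, Matrix.mul_zero, Matrix.zero_mul]

/-- General counting principle: classes of unipotent elements with a property that can be read
off from the Jordan type are counted by partitions. -/
theorem card_classes_of_pred (p : ℕ) [Fact p.Prime] [CharP F p] (P : GL (Fin n) F → Prop)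
    (Q : Nat.Partition n → Prop)
    (hP : ∀ g : GL (Fin n) F, P g → IsNilpotent ((g : Matrix (Fin n) (Fin n) F) - 1))
    (hPQ : ∀ (g : GL (Fin n) F) (h : IsNilpotent ((g : Matrix (Fin n) (Fin n) F) - 1)),
      P g ↔ Q (partOf g h)) :
    Nat.card {C : ConjClasses (GL (Fin n) F) // ∃ g : GL (Fin n) F, P g ∧ ConjClasses.mk g = C} =
      Nat.card {ν : Nat.Partition n // Q ν} := by
  classical
  apply Nat.card_congr
  let rep : {C : ConjClasses (GL (Fin n) F) //
      ∃ g : GL (Fin n) F, P g ∧ ConjClasses.mk g = C} → GL (Fin n) F :=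
    fun C => Classical.choose C.2
  have hrep0 : ∀ C, P (rep C) := fun C => (Classical.choose_spec C.2).1
  have hrep1 : ∀ C, IsNilpotent (((rep C : GL (Fin n) F) : Matrix (Fin n) (Fin n) F) - 1) :=
    fun C => hP _ (hrep0 C)
  have hrep2 : ∀ C, ConjClasses.mk (rep C) = C.1 := fun C => (Classical.choose_spec C.2).2
  refine Equiv.ofBijective
    (fun C => ⟨partOf (rep C) (hrep1 C), (hPQ _ (hrep1 C)).mp (hrep0 C)⟩) ⟨?_, ?_⟩
  · intro C C' h
    have h0 : partOf (rep C) (hrep1 C) = partOf (rep C') (hrep1 C') := congrArg Subtype.val h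
    have h1 : typeOf (rep C) = typeOf (rep C') := congrArg Nat.Partition.parts h0
    have h2 := isConj_of_typeOf_eq _ _ (hrep1 C) (hrep1 C') h1
    apply Subtype.ext
    rw [← hrep2 C, ← hrep2 C']
    exact ConjClasses.mk_eq_mk_iff_isConj.mpr h2
  · rintro ⟨ν, hν⟩
    obtain ⟨N, hN⟩ := exists_of_partition (F := F) ν
    have hnil := hN.isNilpotent
    obtain ⟨j, hj⟩ := hnil
    have hp : p.Prime := Fact.out
    have h1 : N ^ (p ^ j) = 0 := pow_eq_zero_of_le (Nat.lt_pow_self hp.one_lt).le hj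
    have h2 : (N + 1) ^ (p ^ j) = 1 := by
      have := NilCount.sub_one_pow_char p n (N + 1) j
      rw [add_sub_cancel_right, h1] at this
      exact (sub_eq_zero.mp this.symm)
    have hpj : p ^ j ≠ 0 := pow_ne_zero _ hp.ne_zero
    let g₀ : GL (Fin n) F := ⟨N + 1, (N + 1) ^ (p ^ j - 1),
      by rw [mul_pow_sub_one hpj, h2], by rw [pow_sub_one_mul hpj, h2]⟩
    have hg₀ : ((g₀ : GL (Fin n) F) : Matrix (Fin n) (Fin n) F) - 1 = N := add_sub_cancel_right N 1
    have hg₀n : IsNilpotent (((g₀ : GL (Fin n) F) : Matrix (Fin n) (Fin n) F) - 1) := by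
      rw [hg₀]; exact ⟨j, hj⟩
    have h5 : typeOf g₀ = ν.parts := by
      apply typeOf_eq_of_hasType
      rw [hg₀]
      exact hN
    have h6 : partOf g₀ hg₀n = ν := Nat.Partition.ext h5
    have hPg₀ : P g₀ := (hPQ g₀ hg₀n).mpr (by rw [h6]; exact hν)
    let C : {C : ConjClasses (GL (Fin n) F) //
      ∃ g : GL (Fin n) F, P g ∧ ConjClasses.mk g = C} :=
      ⟨ConjClasses.mk g₀, g₀, hPg₀, rfl⟩
    refine ⟨C, ?_⟩
    have h3 : IsConj g₀ (rep C) := ConjClasses.mk_eq_mk_iff_isConj.mp (hrep2 C).symm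
    rw [isConj_iff] at h3
    obtain ⟨x, hx⟩ := h3
    have h4 : typeOf (rep C) = typeOf g₀ := by
      rw [← hx]
      exact typeOf_conj x g₀ hg₀n
    apply Subtype.ext
    apply Nat.Partition.ext
    change typeOf (rep C) = ν.parts
    rw [h4, h5]

/-- the all-ones partition -/
def ones (n : ℕ) : Nat.Partition n :=
  ⟨Multiset.replicate n 1, fun {i} hi => by
    rw [Multiset.eq_of_mem_replicate hi]; exact Nat.one_pos, by simp⟩

theorem eq_ones_iff (ν : Nat.Partition n) : ν = ones n ↔ ¬ ∃ a ∈ ν.parts, 2 ≤ a := by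
  constructor
  · rintro rfl ⟨a, ha, h2⟩
    have : a = 1 := Multiset.eq_of_mem_replicate ha
    omega
  · intro h
    apply Nat.Partition.ext
    change ν.parts = Multiset.replicate n 1
    have h1 : ∀ b ∈ ν.parts, b = 1 := by
      intro b hb
      have := ν.parts_pos hb
      by_contra hne
      exact h ⟨b, hb, by omega⟩
    rw [Multiset.eq_replicate]
    refine ⟨?_, h1⟩
    have h2 := ν.parts_sum
    rw [Multiset.eq_replicate_card.mpr h1] at h2
    simpa using h2

theorem card_order_p_classes (p : ℕ) [Fact p.Prime] [CharP F p] (n : ℕ) :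
    Nat.card {C : ConjClasses (GL (Fin n) F) //
      ∃ g : GL (Fin n) F, ConjClasses.mk g = C ∧ orderOf g = p} =
      (Finset.univ.filter (fun μ : Nat.Partition n => ∀ a ∈ μ.parts, a ≤ p)).card - 1 := by
  classical
  have hp : p.Prime := Fact.out
  have h1 : Nat.card {C : ConjClasses (GL (Fin n) F) //
      ∃ g : GL (Fin n) F, ConjClasses.mk g = C ∧ orderOf g = p} =
      Nat.card {C : ConjClasses (GL (Fin n) F) //
        ∃ g : GL (Fin n) F, orderOf g = p ∧ ConjClasses.mk g = C} := by
    apply Nat.card_congr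
    apply Equiv.subtypeEquivRight
    intro C
    constructor
    · rintro ⟨g, h1, h2⟩; exact ⟨g, h2, h1⟩
    · rintro ⟨g, h1, h2⟩; exact ⟨g, h2, h1⟩
  rw [h1]
  rw [card_classes_of_pred p (fun g => orderOf g = p)
    (fun ν => (∀ a ∈ ν.parts, a ≤ p) ∧ ∃ a ∈ ν.parts, 2 ≤ a)]
  · -- counting partitions
    rw [Nat.card_eq_fintype_card, Fintype.card_subtype]
    have hmem : ones n ∈ Finset.univ.filter (fun μ : Nat.Partition n => ∀ a ∈ μ.parts, a ≤ p) := by
      rw [Finset.mem_filter]
      refine ⟨Finset.mem_univ _, ?_⟩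
      intro a ha
      have : a = 1 := Multiset.eq_of_mem_replicate ha
      rw [this]
      exact hp.one_lt.le
    rw [← Finset.card_erase_of_mem hmem]
    congr 1
    ext ν
    simp only [Finset.mem_filter, Finset.mem_univ, true_and, Finset.mem_erase]
    rw [Ne, eq_ones_iff, not_not]
    tauto
  · intro g hg
    apply (unip_iff p g).mp
    exact ⟨1, by rw [pow_one]; exact hg⟩
  · intro g h
    have hT := typeOf_spec g h
    have e1 : ((g : Matrix (Fin n) (Fin n) F) - 1) ^ p = 0 ↔ g ^ p = 1 := by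
      have := NilCount.sub_one_pow_char p n (g : Matrix (Fin n) (Fin n) F) 1
      rw [pow_one] at this
      rw [this, sub_eq_zero, ← Units.val_pow_eq_pow_val]
      constructor
      · intro h; exact Units.ext h
      · intro h; rw [h]; rfl
    have e2 : ((g : Matrix (Fin n) (Fin n) F) - 1) ^ 1 = 0 ↔ g = 1 := by
      rw [pow_one, sub_eq_zero]
      constructor
      · intro h; exact Units.ext h
      · intro h; rw [h]; rfl
    change orderOf g = p ↔ (∀ a ∈ typeOf g, a ≤ p) ∧ ∃ a ∈ typeOf g, 2 ≤ a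
    rw [orderOf_eq_prime_iff, ← hT.pow_eq_zero_iff p, e1]
    have e3 : (g ≠ 1) ↔ ∃ a ∈ typeOf g, 2 ≤ a := by
      rw [Ne, ← e2, hT.pow_eq_zero_iff 1]
      constructor
      · intro h
        by_contra hcon
        apply h
        intro a ha
        by_contra h2
        exact hcon ⟨a, ha, by omega⟩
      · rintro ⟨a, ha, h2⟩ hall
        have := hall a ha
        omega
    rw [e3]

end Cfsg.Agent.Helper8.Jordan
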