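import Cfsg.Agent.Helper8.SpUK
import Cfsg.Agent.Helper8.JordanOrderP
set_option autoImplicit false
set_option linter.unusedSectionVars false

/-!
Unipotent classes of the symplectic groups: the multiset of block sizes of a unipotent symplectic
matrix.
-/

namespace Cfsg.Agent.Helper8.SpU

open Matrix Module Cfsg.Agent.Helper8.JCent Cfsg.Agent.Helper8.UJ Cfsg.Agent.Helper8.Jordan

variable {F : Type*} [Field F] {m : ℕ}

/-- the rank profile of a symplectic matrix -/
noncomputable def prof (g : Matrix.symplecticGroup (Fin m) F) (j : ℕ) : ℕ :=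
  (((g : Matrix (Fin m ⊕ Fin m) (Fin m ⊕ Fin m) F) - 1) ^ j).rank

theorem prof_conj {g g' : Matrix.symplecticGroup (Fin m) F} (h : IsConj g g') (j : ℕ) :
    prof g' j = prof g j := by
  rw [isConj_iff] at h
  obtain ⟨c, hc⟩ := h
  rw [mul_inv_eq_iff_eq_mul] at hc
  have hc' : c.1 * g.1 = g'.1 * c.1 := congrArg Subtype.val hc
  have h1 : c.1 * (c⁻¹).1 = 1 := by
    have : (c * c⁻¹).1 = c.1 * (c⁻¹).1 := rfl
    rw [← this, mul_inv_cancel]
    rfl
  have h2 : (c⁻¹).1 * c.1 = 1 := by
    have : (c⁻¹ * c).1 = (c⁻¹).1 * c.1 := rfl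
    rw [← this, inv_mul_cancel]
    rfl
  unfold prof
  apply rank_pow_of_isConj
  exact ⟨⟨c.1, (c⁻¹).1, h1, h2⟩, hc'⟩

theorem sub_one_pow_char (p : ℕ) [Fact p.Prime] [CharP F p] {ι : Type*} [Fintype ι]
    [DecidableEq ι] (A : Matrix ι ι F) : (A - 1) ^ p = A ^ p - 1 := by
  rcases isEmpty_or_nonempty ι with h | h
  · exact Subsingleton.elim _ _
  · rw [sub_pow_char_of_commute p (Commute.one_right A), one_pow]

theorem coe_pow_sp (g : Matrix.symplecticGroup (Fin m) F) (n : ℕ) :
    ((g ^ n : Matrix.symplecticGroup (Fin m) F) : Matrix (Fin m ⊕ Fin m) (Fin m ⊕ Fin m) F) =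
      (g : Matrix (Fin m ⊕ Fin m) (Fin m ⊕ Fin m) F) ^ n :=
  SubmonoidClass.coe_pow g n

theorem pow_eq_one_iff_prof (p : ℕ) [Fact p.Prime] [CharP F p]
    (g : Matrix.symplecticGroup (Fin m) F) : g ^ p = 1 ↔ prof g p = 0 := by
  unfold prof
  rw [sub_one_pow_char p, ← coe_pow_sp]
  constructor
  · intro h
    rw [h]
    have : ((1 : Matrix.symplecticGroup (Fin m) F) :
        Matrix (Fin m ⊕ Fin m) (Fin m ⊕ Fin m) F) = 1 := rfl
    rw [this, sub_self, Matrix.rank_zero]
  · intro h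
    have := eq_zero_of_rank_eq_zero _ h
    apply Subtype.ext
    exact sub_eq_zero.mp this

theorem eq_one_iff_prof (g : Matrix.symplecticGroup (Fin m) F) : g = 1 ↔ prof g 1 = 0 := by
  unfold prof
  rw [pow_one]
  constructor
  · intro h
    rw [h]
    have : ((1 : Matrix.symplecticGroup (Fin m) F) :
        Matrix (Fin m ⊕ Fin m) (Fin m ⊕ Fin m) F) = 1 := rfl
    rw [this, sub_self, Matrix.rank_zero]
  · intro h
    have := eq_zero_of_rank_eq_zero _ h
    apply Subtype.ext
    exact sub_eq_zero.mp this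

theorem nilpotent_of_prof {g : Matrix.symplecticGroup (Fin m) F} {ν : Multiset ℕ}
    (h : ∀ j, prof g j = mprof ν j) :
    IsNilpotent ((g : Matrix (Fin m ⊕ Fin m) (Fin m ⊕ Fin m) F) - 1) := by
  refine ⟨ν.sum, eq_zero_of_rank_eq_zero _ ?_⟩
  have := h ν.sum
  unfold prof at this
  rw [this, mprof_eq_zero_iff]
  intro a ha
  exact Multiset.le_sum_of_mem ha

/-- the multiset of block sizes of a unipotent symplectic matrix -/
noncomputable def spType (g : Matrix.symplecticGroup (Fin m) F) : Multiset ℕ := by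
  classical
  exact if h : IsNilpotent ((g : Matrix (Fin m ⊕ Fin m) (Fin m ⊕ Fin m) F) - 1) then
    Classical.choose (exists_prof _ h) else 0

theorem spType_spec (g : Matrix.symplecticGroup (Fin m) F)
    (h : IsNilpotent ((g : Matrix (Fin m ⊕ Fin m) (Fin m ⊕ Fin m) F) - 1)) :
    (∀ a ∈ spType g, 1 ≤ a) ∧ ∀ j, prof g j = mprof (spType g) j := by
  unfold spType
  rw [dif_pos h]
  exact Classical.choose_spec (exists_prof _ h)

theorem spType_eq (g : Matrix.symplecticGroup (Fin m) F) (ν : Multiset ℕ)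
    (hpos : ∀ a ∈ ν, 1 ≤ a) (hprof : ∀ j, prof g j = mprof ν j) : spType g = ν := by
  have hnil := nilpotent_of_prof hprof
  obtain ⟨h1, h2⟩ := spType_spec g hnil
  apply eq_of_mprof_eq _ _ h1 hpos
  intro j
  rw [← h2, hprof]

theorem spType_sum (g : Matrix.symplecticGroup (Fin m) F)
    (h : IsNilpotent ((g : Matrix (Fin m ⊕ Fin m) (Fin m ⊕ Fin m) F) - 1)) :
    (spType g).sum = 2 * m := by
  have h1 := (spType_spec g h).2 0
  unfold prof at h1
  rw [pow_zero, Matrix.rank_one, mprof_zero_eq, Fintype.card_sum, Fintype.card_fin] at h1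
  omega

/-- odd block sizes occur with even multiplicity -/
theorem spType_even (g : Matrix.symplecticGroup (Fin m) F)
    (h : IsNilpotent ((g : Matrix (Fin m ⊕ Fin m) (Fin m ⊕ Fin m) F) - 1)) (a : ℕ) (ha : Odd a) :
    Even ((spType g).count a) := by
  obtain ⟨t, d, hd⟩ := exists_fin_map (spType g)
  have hsum := spType_sum g h
  have hcard : Fintype.card ((k : Fin t) × Fin (d k)) = Fintype.card (Fin m ⊕ Fin m) := by
    rw [Fintype.card_sigma, Fintype.card_sum, Fintype.card_fin]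
    simp only [Fintype.card_fin]
    have : ∑ k, d k = (Finset.univ.val.map d).sum := rfl
    rw [this, hd, hsum]
    omega
  let e := Fintype.equivOfCardEq hcard
  have hconj : IsConj (Matrix.reindex e e (Cfsg.jordanTypeMatrix d F))
      (g : Matrix (Fin m ⊕ Fin m) (Fin m ⊕ Fin m) F) := by
    apply isConj_of_rank_pow_eq _ _ (isNilpotent_reindex_jordanType d e)
    intro j
    rw [rank_reindex_jordanType_pow, ← mprof_map, hd]
    exact ((spType_spec g h).2 j).symm
  have := sp_forward d e g hconj a ha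
  rwa [← count_map_univ, hd] at this

/-- the order of a unipotent symplectic matrix in terms of its block sizes -/
theorem order_iff (p : ℕ) [Fact p.Prime] [CharP F p] (g : Matrix.symplecticGroup (Fin m) F)
    (h : IsNilpotent ((g : Matrix (Fin m ⊕ Fin m) (Fin m ⊕ Fin m) F) - 1)) :
    orderOf g = p ↔ (∀ a ∈ spType g, a ≤ p) ∧ ∃ a ∈ spType g, 2 ≤ a := by
  obtain ⟨h1, h2⟩ := spType_spec g h
  rw [orderOf_eq_prime_iff, pow_eq_one_iff_prof p, Ne, eq_one_iff_prof, h2, h2,
    mprof_eq_zero_iff, mprof_eq_zero_iff]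
  constructor
  · rintro ⟨h3, h4⟩
    refine ⟨h3, ?_⟩
    by_contra hcon
    apply h4
    intro a ha
    by_contra h5
    exact hcon ⟨a, ha, by omega⟩
  · rintro ⟨h3, a, ha, h4⟩
    refine ⟨h3, fun h5 => ?_⟩
    have := h5 a ha
    omega

theorem nilpotent_of_order (p : ℕ) [Fact p.Prime] [CharP F p]
    {g : Matrix.symplecticGroup (Fin m) F} (h : orderOf g = p) :
    IsNilpotent ((g : Matrix (Fin m ⊕ Fin m) (Fin m ⊕ Fin m) F) - 1) := by
  refine ⟨p, ?_⟩
  rw [sub_one_pow_char p, ← coe_pow_sp, ← h, pow_orderOf_eq_one]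
  exact sub_self _

end Cfsg.Agent.Helper8.SpU
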