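import Mathlib
import Cfsg.Agent.Helper8.SpSSympIso
set_option autoImplicit false

/-! Symplectic families: complement of a family and appending families. -/

namespace Cfsg.Agent.Helper8.Sp2

open Module Cfsg.Agent.Helper8.SpS

universe u

variable {F : Type*} [Field F]
variable {V : Type u} [AddCommGroup V] [Module F V]

/-- a symplectic family -/
def IsSympFam (B : V →ₗ[F] V →ₗ[F] F) {k : ℕ} (e f : Fin k → V) : Prop :=
  (∀ i j, B (e i) (e j) = 0) ∧ (∀ i j, B (f i) (f j) = 0) ∧
    (∀ i j, B (e i) (f j) = if i = j then 1 else 0)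

/-- the orthogonal complement of a family -/
def perpFam (B : V →ₗ[F] V →ₗ[F] F) {k : ℕ} (e f : Fin k → V) : Submodule F V where
  carrier := {x | ∀ i, B (e i) x = 0 ∧ B (f i) x = 0}
  add_mem' := by
    intro x y hx hy i
    rw [map_add, map_add, (hx i).1, (hx i).2, (hy i).1, (hy i).2, add_zero]
    exact ⟨rfl, rfl⟩
  zero_mem' := by
    intro i
    rw [map_zero, map_zero]
    exact ⟨rfl, rfl⟩
  smul_mem' := by
    intro c x hx i
    rw [map_smul, map_smul, (hx i).1, (hx i).2, smul_zero]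
    exact ⟨rfl, rfl⟩

theorem mem_perpFam (B : V →ₗ[F] V →ₗ[F] F) {k : ℕ} (e f : Fin k → V) (x : V) :
    x ∈ perpFam B e f ↔ ∀ i, B (e i) x = 0 ∧ B (f i) x = 0 := Iff.rfl

/-- the projection to the complement of a symplectic family -/
theorem proj_mem_perpFam (B : V →ₗ[F] V →ₗ[F] F) (hAlt : Alt B) {k : ℕ} (e f : Fin k → V)
    (h : IsSympFam B e f) (x : V) :
    x + ∑ i, (B (f i) x • e i - B (e i) x • f i) ∈ perpFam B e f := by
  obtain ⟨he, hf, hef⟩ := h
  have hfe : ∀ i j, B (f i) (e j) = if i = j then -1 else 0 := by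
    intro i j
    rw [hAlt.skew, hef j i]
    by_cases hij : i = j
    · rw [if_pos hij, if_pos hij.symm]
    · rw [if_neg hij, if_neg (Ne.symm hij), neg_zero]
  intro j
  constructor
  · rw [map_add, map_sum]
    simp only [map_sub, map_smul, he, hef, smul_eq_mul, mul_zero, zero_sub, mul_ite, mul_one]
    rw [Finset.sum_neg_distrib, Finset.sum_ite_eq Finset.univ j]
    simp
  · rw [map_add, map_sum]
    simp only [map_sub, map_smul, hf, hfe, smul_eq_mul, mul_zero, sub_zero, mul_ite, mul_neg,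
      mul_one]
    rw [Finset.sum_ite_eq Finset.univ j]
    simp

/-- appending a symplectic family inside the complement -/
theorem append_symp (B : V →ₗ[F] V →ₗ[F] F) (hAlt : Alt B) {k₀ k₁ : ℕ} (e₀ f₀ : Fin k₀ → V)
    (h₀ : IsSympFam B e₀ f₀) (e₁ f₁ : Fin k₁ → V) (h₁ : IsSympFam B e₁ f₁)
    (horth : ∀ j, e₁ j ∈ perpFam B e₀ f₀ ∧ f₁ j ∈ perpFam B e₀ f₀) :
    IsSympFam B (Fin.append e₀ e₁) (Fin.append f₀ f₁) := by
  obtain ⟨he₀, hf₀, hef₀⟩ := h₀
  obtain ⟨he₁, hf₁, hef₁⟩ := h₁
  refine ⟨?_, ?_, ?_⟩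
  · intro i j
    refine Fin.addCases (fun i' => ?_) (fun i' => ?_) i <;>
      refine Fin.addCases (fun j' => ?_) (fun j' => ?_) j
    · rw [Fin.append_left, Fin.append_left]; exact he₀ i' j'
    · rw [Fin.append_left, Fin.append_right]; exact ((horth j').1 i').1
    · rw [Fin.append_right, Fin.append_left]
      exact hAlt.eq_zero_of_swap ((horth i').1 j').1
    · rw [Fin.append_right, Fin.append_right]; exact he₁ i' j'
  · intro i j
    refine Fin.addCases (fun i' => ?_) (fun i' => ?_) i <;>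
      refine Fin.addCases (fun j' => ?_) (fun j' => ?_) j
    · rw [Fin.append_left, Fin.append_left]; exact hf₀ i' j'
    · rw [Fin.append_left, Fin.append_right]; exact ((horth j').2 i').2
    · rw [Fin.append_right, Fin.append_left]
      exact hAlt.eq_zero_of_swap ((horth i').2 j').2
    · rw [Fin.append_right, Fin.append_right]; exact hf₁ i' j'
  · intro i j
    refine Fin.addCases (fun i' => ?_) (fun i' => ?_) i <;>
      refine Fin.addCases (fun j' => ?_) (fun j' => ?_) j
    · rw [Fin.append_left, Fin.append_left, hef₀ i' j']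
      simp only [Fin.castAdd_inj]
    · rw [Fin.append_left, Fin.append_right, ((horth j').2 i').1, if_neg]
      intro h
      have := congrArg Fin.val h
      simp only [Fin.val_castAdd, Fin.val_natAdd] at this
      omega
    · rw [Fin.append_right, Fin.append_left, hAlt.eq_zero_of_swap ((horth i').1 j').2, if_neg]
      intro h
      have := congrArg Fin.val h
      simp only [Fin.val_castAdd, Fin.val_natAdd] at this
      omega
    · rw [Fin.append_right, Fin.append_right, hef₁ i' j']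
      simp only [Fin.natAdd_inj]

/-- spanning of the appended family -/
theorem append_span (B : V →ₗ[F] V →ₗ[F] F) (hAlt : Alt B) {k₀ k₁ : ℕ} (e₀ f₀ : Fin k₀ → V)
    (h₀ : IsSympFam B e₀ f₀) (e₁ f₁ : Fin k₁ → V)
    (hsp : ∀ x ∈ perpFam B e₀ f₀, x ∈ Submodule.span F (Set.range e₁ ∪ Set.range f₁)) (x : V) :
    x ∈ Submodule.span F (Set.range (Fin.append e₀ e₁) ∪ Set.range (Fin.append f₀ f₁)) := by
  set S := Submodule.span F (Set.range (Fin.append e₀ e₁) ∪ Set.range (Fin.append f₀ f₁)) with hS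
  have he₀S : ∀ i, e₀ i ∈ S := fun i =>
    Submodule.subset_span (Or.inl ⟨Fin.castAdd k₁ i, Fin.append_left _ _ _⟩)
  have hf₀S : ∀ i, f₀ i ∈ S := fun i =>
    Submodule.subset_span (Or.inr ⟨Fin.castAdd k₁ i, Fin.append_left _ _ _⟩)
  have h1 : Submodule.span F (Set.range e₁ ∪ Set.range f₁) ≤ S := by
    rw [Submodule.span_le]
    rintro _ (⟨i, rfl⟩ | ⟨i, rfl⟩)
    · exact Submodule.subset_span (Or.inl ⟨Fin.natAdd k₀ i, Fin.append_right _ _ _⟩)
    · exact Submodule.subset_span (Or.inr ⟨Fin.natAdd k₀ i, Fin.append_right _ _ _⟩)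
  have h2 := h1 (hsp _ (proj_mem_perpFam B hAlt e₀ f₀ h₀ x))
  have h3 : ∑ i, (B (f₀ i) x • e₀ i - B (e₀ i) x • f₀ i) ∈ S :=
    Submodule.sum_mem _ (fun i _ => Submodule.sub_mem _ (Submodule.smul_mem _ _ (he₀S i))
      (Submodule.smul_mem _ _ (hf₀S i)))
  have h4 := Submodule.sub_mem _ h2 h3
  rwa [add_sub_cancel_right] at h4

end Cfsg.Agent.Helper8.Sp2
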