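import Mathlib
import Cfsg.Agent.Helper8.Sp2Fam
set_option autoImplicit false

/-! Self-adjoint square-zero operators in characteristic two: restriction to a complement and the
choice of a good vector. -/

namespace Cfsg.Agent.Helper8.Sp2

open Module Cfsg.Agent.Helper8.SpS

universe u

variable {F : Type*} [Field F]
variable {V : Type u} [AddCommGroup V] [Module F V]

theorem mem_perpFam_one (B : V →ₗ[F] V →ₗ[F] F) (a b x : V) :
    x ∈ perpFam B ![a] ![b] ↔ B a x = 0 ∧ B b x = 0 := by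
  rw [mem_perpFam, Fin.forall_fin_one]
  rfl

theorem mem_perpFam_two (B : V →ₗ[F] V →ₗ[F] F) (a₁ a₂ b₁ b₂ x : V) :
    x ∈ perpFam B ![a₁, a₂] ![b₁, b₂] ↔
      (B a₁ x = 0 ∧ B b₁ x = 0) ∧ (B a₂ x = 0 ∧ B b₂ x = 0) := by
  rw [mem_perpFam, Fin.forall_fin_two]
  rfl

theorem isSympFam_one (B : V →ₗ[F] V →ₗ[F] F) (hAlt : Alt B) (a b : V) (hab : B a b = 1) :
    IsSympFam B ![a] ![b] := by
  refine ⟨?_, ?_, ?_⟩
  · intro i j
    rw [Subsingleton.elim i 0, Subsingleton.elim j 0]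
    exact hAlt a
  · intro i j
    rw [Subsingleton.elim i 0, Subsingleton.elim j 0]
    exact hAlt b
  · intro i j
    rw [Subsingleton.elim i 0, Subsingleton.elim j 0, if_pos rfl]
    exact hab

/-- nondegeneracy on the complement of a symplectic family -/
theorem nondeg_perpFam (B : V →ₗ[F] V →ₗ[F] F) (hAlt : Alt B) (hND : Nondeg B) {k : ℕ}
    (e f : Fin k → V) (h : IsSympFam B e f) :
    Nondeg (B.compl₁₂ (perpFam B e f).subtype (perpFam B e f).subtype) := by
  intro a ha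
  apply Subtype.ext
  apply hND
  intro x
  have h2 := ha ⟨_, proj_mem_perpFam B hAlt e f h x⟩
  change B (a : V) (x + ∑ i, (B (f i) x • e i - B (e i) x • f i)) = 0 at h2
  have ha2 := (mem_perpFam B e f _).mp a.2
  have e1 : ∀ i, B (a : V) (e i) = 0 := fun i => hAlt.eq_zero_of_swap (ha2 i).1
  have e2 : ∀ i, B (a : V) (f i) = 0 := fun i => hAlt.eq_zero_of_swap (ha2 i).2
  rw [map_add, map_sum] at h2
  simp only [map_sub, map_smul, e1, e2, smul_zero, sub_zero, Finset.sum_const_zero, add_zero] at h2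
  exact h2

variable [CharP F 2]

theorem alt_symm2 {B : V →ₗ[F] V →ₗ[F] F} (hAlt : Alt B) (u v : V) : B u v = B v u := by
  rw [hAlt.skew, CharTwo.neg_eq]

/-- `v ↦ B v (N v)` is additive -/
theorem Q_add {B : V →ₗ[F] V →ₗ[F] F} {N : Module.End F V} (hAlt : Alt B)
    (hsa : ∀ u v, B (N u) v = B u (N v)) (u v : V) :
    B (u + v) (N (u + v)) = B u (N u) + B v (N v) := by
  have h1 : B v (N u) = B u (N v) := by rw [alt_symm2 hAlt, hsa]
  rw [map_add, map_add, LinearMap.add_apply, map_add, map_add, h1]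
  have := CharTwo.add_self_eq_zero (B u (N v))
  linear_combination this

omit [CharP F 2] in
theorem Q_smul {B : V →ₗ[F] V →ₗ[F] F} {N : Module.End F V} (c : F) (v : V) :
    B (c • v) (N (c • v)) = c * c * B v (N v) := by
  rw [map_smul, map_smul, map_smul, LinearMap.smul_apply, smul_eq_mul, smul_eq_mul, mul_assoc]

omit [CharP F 2] in
/-- the complement of `v, N v` is `N`-stable -/
theorem N_mem_perp_one {B : V →ₗ[F] V →ₗ[F] F} {N : Module.End F V}
    (hsq : ∀ v, N (N v) = 0) (hsa : ∀ u v, B (N u) v = B u (N v)) (v x : V)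
    (hx : x ∈ perpFam B ![v] ![N v]) : N x ∈ perpFam B ![v] ![N v] := by
  rw [mem_perpFam_one] at hx ⊢
  constructor
  · rw [← hsa]; exact hx.2
  · rw [← hsa, hsq, map_zero, LinearMap.zero_apply]

/-- a good vector -/
theorem exists_good (hperf : ∀ c : F, ∃ d, d * d = c) {B : V →ₗ[F] V →ₗ[F] F}
    {N : Module.End F V} (hAlt : Alt B) (hND : Nondeg B)
    (hsq : ∀ v, N (N v) = 0) (hsa : ∀ u v, B (N u) v = B u (N v))
    (hQ : ∃ v, B v (N v) ≠ 0) :
    ∃ v, B v (N v) = 1 ∧ ((∀ x ∈ perpFam B ![v] ![N v], N x = 0) ∨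
      (∃ u ∈ perpFam B ![v] ![N v], B u (N u) ≠ 0)) := by
  obtain ⟨v₀, hv₀⟩ := hQ
  obtain ⟨d, hd⟩ := hperf (B v₀ (N v₀))⁻¹
  set v := d • v₀ with hv
  have hQv : B v (N v) = 1 := by
    rw [hv, Q_smul, hd, inv_mul_cancel₀ hv₀]
  by_cases hgood : (∀ x ∈ perpFam B ![v] ![N v], N x = 0) ∨
      (∃ u ∈ perpFam B ![v] ![N v], B u (N u) ≠ 0)
  · exact ⟨v, hQv, hgood⟩
  rw [not_or] at hgood
  obtain ⟨h1, h2⟩ := hgood
  rw [not_forall] at h1
  obtain ⟨x, hx⟩ := h1
  rw [Classical.not_imp] at hx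
  obtain ⟨hxH, hNx⟩ := hx
  have hQH : ∀ u ∈ perpFam B ![v] ![N v], B u (N u) = 0 := by
    intro u hu
    by_contra hne
    exact h2 ⟨u, hu, hne⟩
  -- a partner of `N x` in the complement
  have hsymp := isSympFam_one B hAlt v (N v) hQv
  obtain ⟨y₀, hy₀⟩ : ∃ y₀, B (N x) y₀ ≠ 0 := by
    by_contra hcon
    rw [not_exists] at hcon
    exact hNx (hND _ (fun w => not_not.mp (hcon w)))
  have hNxH := N_mem_perp_one hsq hsa v x hxH
  set y₁ := y₀ + ∑ i, (B (![N v] i) y₀ • ![v] i - B (![v] i) y₀ • ![N v] i) with hy₁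
  have hy₁H : y₁ ∈ perpFam B ![v] ![N v] := proj_mem_perpFam B hAlt _ _ hsymp y₀
  have hNxy₁ : B (N x) y₁ = B (N x) y₀ := by
    have e1 : B (N x) v = 0 := hAlt.eq_zero_of_swap ((mem_perpFam_one B _ _ _).mp hNxH).1
    have e2 : B (N x) (N v) = 0 := hAlt.eq_zero_of_swap ((mem_perpFam_one B _ _ _).mp hNxH).2
    rw [hy₁, map_add, map_sum, Fin.sum_univ_one]
    simp only [Matrix.cons_val_zero, map_sub, map_smul, e1, e2, smul_zero, sub_zero, add_zero]
  set y := (B (N x) y₀)⁻¹ • y₁ with hy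
  have hyH : y ∈ perpFam B ![v] ![N v] := Submodule.smul_mem _ _ hy₁H
  have hNxy : B (N x) y = 1 := by
    rw [hy, map_smul, hNxy₁, smul_eq_mul, inv_mul_cancel₀ hy₀]
  -- facts
  obtain ⟨hx1, hx2⟩ := (mem_perpFam_one B _ _ _).mp hxH
  obtain ⟨hy1, hy2⟩ := (mem_perpFam_one B _ _ _).mp hyH
  have hQx : B x (N x) = 0 := hQH x hxH
  have hQy : B y (N y) = 0 := hQH y hyH
  set β := B x y with hβ
  refine ⟨v + x, ?_, Or.inr ⟨y + v + β • N (v + x), ?_, ?_⟩⟩
  · rw [Q_add hAlt hsa, hQv, hQx, add_zero]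
  · rw [mem_perpFam_one]
    have hxv : B x v = 0 := hAlt.eq_zero_of_swap hx1
    have hvNx : B v (N x) = 0 := by rw [← hsa]; exact hx2
    have hxNv : B x (N v) = 0 := hAlt.eq_zero_of_swap hx2
    have hNvv : B (N v) v = 1 := by rw [alt_symm2 hAlt]; exact hQv
    have hNxv : B (N x) v = 0 := by rw [hsa]; exact hxNv
    constructor
    · simp only [map_add, map_smul, LinearMap.add_apply, hy1, hAlt v, hxv, hQv, hvNx, hxNv,
        hQx, smul_eq_mul, ← hβ]
      have := CharTwo.add_self_eq_zero β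
      linear_combination this
    · simp only [map_add, map_smul, LinearMap.add_apply, hy2, hNxy, hNvv, hNxv, hAlt (N v),
        hAlt (N x), smul_eq_mul]
      have e3 : B (N v) (N x) = 0 := by rw [hsa, hsq, map_zero]
      have e4 : B (N x) (N v) = 0 := by rw [hsa, hsq, map_zero]
      rw [e3, e4]
      have := CharTwo.add_self_eq_zero (1 : F)
      linear_combination this
  · rw [Q_add hAlt hsa, Q_add hAlt hsa, hQy, hQv, Q_smul, hsq, map_zero, mul_zero, add_zero,
      zero_add]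
    exact one_ne_zero

end Cfsg.Agent.Helper8.Sp2
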