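import Mathlib
import Cfsg.Agent.Helper8.Sp2Good
set_option autoImplicit false

/-! Normal form of a self-adjoint square-zero operator on a symplectic space in characteristic
two. -/

namespace Cfsg.Agent.Helper8.Sp2

open Module Cfsg.Agent.Helper8.SpS

universe u v

/-- the normal form: a symplectic family with a table for `N` -/
def NF {F : Type v} [Field F] {V : Type u} [AddCommGroup V] [Module F V]
    (B : V →ₗ[F] V →ₗ[F] F) (N : Module.End F V) (K s : ℕ) (E Fv : Fin K → V) : Prop :=
  IsSympFam B E Fv ∧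
  (∀ x, x ∈ Submodule.span F (Set.range E ∪ Set.range Fv)) ∧
  (∀ i, N (Fv i) = 0) ∧ s ≤ K ∧ (∀ i : Fin K, s ≤ (i : ℕ) → N (E i) = 0) ∧
  (((∃ v, B v (N v) ≠ 0) ∨ (∀ x, N x = 0)) → ∀ i : Fin K, (i : ℕ) < s → N (E i) = Fv i) ∧
  ((∀ v, B v (N v) = 0) → Even s ∧
    ∀ i j : Fin K, (i : ℕ) < s → (i : ℕ) / 2 = (j : ℕ) / 2 → i ≠ j → N (E i) = Fv j)

/-- the statement proved by induction on the dimension -/
def NFStmt (F : Type v) [Field F] (n : ℕ) : Prop :=
  ∀ (V : Type u) [AddCommGroup V] [Module F V] [FiniteDimensional F V]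
    (B : V →ₗ[F] V →ₗ[F] F) (N : Module.End F V),
    Alt B → Nondeg B → (∀ v, N (N v) = 0) → (∀ u v, B (N u) v = B u (N v)) → finrank F V = n →
    ∃ (K s : ℕ) (E Fv : Fin K → V), NF B N K s E Fv

variable {F : Type v} [Field F]
variable {V : Type u} [AddCommGroup V] [Module F V] [FiniteDimensional F V]

/-- the inductive step: a normal form on the complement of a symplectic family -/
theorem step {n : ℕ} (ih : ∀ m < n, NFStmt.{u} F m) (hn : finrank F V = n)
    (B : V →ₗ[F] V →ₗ[F] F) (N : Module.End F V) (hAlt : Alt B) (hND : Nondeg B)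
    (hsq : ∀ v, N (N v) = 0) (hsa : ∀ u v, B (N u) v = B u (N v))
    {k₀ : ℕ} (e₀ f₀ : Fin (k₀ + 1) → V) (h₀ : IsSympFam B e₀ f₀)
    (hNH : ∀ x ∈ perpFam B e₀ f₀, N x ∈ perpFam B e₀ f₀) :
    ∃ (K' s' : ℕ) (E' F' : Fin K' → V), IsSympFam B E' F' ∧
      (∀ j, E' j ∈ perpFam B e₀ f₀ ∧ F' j ∈ perpFam B e₀ f₀) ∧
      (∀ x ∈ perpFam B e₀ f₀, x ∈ Submodule.span F (Set.range E' ∪ Set.range F')) ∧
      (∀ i, N (F' i) = 0) ∧ s' ≤ K' ∧ (∀ i : Fin K', s' ≤ (i : ℕ) → N (E' i) = 0) ∧
      (((∃ v ∈ perpFam B e₀ f₀, B v (N v) ≠ 0) ∨ (∀ x ∈ perpFam B e₀ f₀, N x = 0)) →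
        ∀ i : Fin K', (i : ℕ) < s' → N (E' i) = F' i) ∧
      ((∀ v ∈ perpFam B e₀ f₀, B v (N v) = 0) → Even s' ∧
        ∀ i j : Fin K', (i : ℕ) < s' → (i : ℕ) / 2 = (j : ℕ) / 2 → i ≠ j → N (E' i) = F' j) := by
  set H := perpFam B e₀ f₀ with hH
  set B' : ↥H →ₗ[F] ↥H →ₗ[F] F := B.compl₁₂ H.subtype H.subtype with hB'
  set N' : Module.End F ↥H := N.restrict hNH with hN'
  have hB'app : ∀ a b : ↥H, B' a b = B (a : V) (b : V) := fun a b => rfl
  have hN'app : ∀ a : ↥H, ((N' a : ↥H) : V) = N (a : V) := fun a => rfl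
  have hAlt' : Alt B' := fun a => hAlt (a : V)
  have hND' : Nondeg B' := nondeg_perpFam B hAlt hND e₀ f₀ h₀
  have hsq' : ∀ a, N' (N' a) = 0 := fun a => Subtype.ext (hsq (a : V))
  have hsa' : ∀ a b, B' (N' a) b = B' a (N' b) := fun a b => hsa (a : V) (b : V)
  have hlt : finrank F ↥H < n := by
    rw [← hn]
    apply Submodule.finrank_lt
    intro htop
    have : e₀ 0 ∈ H := by rw [htop]; exact Submodule.mem_top
    have h3 := ((mem_perpFam B e₀ f₀ _).mp this 0).2
    rw [hAlt.skew, h₀.2.2 0 0, if_pos rfl] at h3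
    exact one_ne_zero (neg_eq_zero.mp h3)
  obtain ⟨K', s', E', F', hS, hsp, hNF, hsK, hNE, ht1, ht2⟩ :=
    ih _ hlt ↥H B' N' hAlt' hND' hsq' hsa' rfl
  refine ⟨K', s', fun i => (E' i : V), fun i => (F' i : V), ?_, fun j => ⟨(E' j).2, (F' j).2⟩,
    ?_, ?_, hsK, ?_, ?_, ?_⟩
  · exact ⟨fun i j => hS.1 i j, fun i j => hS.2.1 i j, fun i j => hS.2.2 i j⟩
  · intro x hx
    have h4 := hsp ⟨x, hx⟩
    have h5 : Submodule.map H.subtype (Submodule.span F (Set.range E' ∪ Set.range F')) ≤
        Submodule.span F (Set.range (fun i => (E' i : V)) ∪ Set.range (fun i => (F' i : V))) := by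
      rw [Submodule.map_span, Submodule.span_le]
      rintro _ ⟨b, hb, rfl⟩
      rcases hb with ⟨i, rfl⟩ | ⟨i, rfl⟩
      · exact Submodule.subset_span (Or.inl ⟨i, rfl⟩)
      · exact Submodule.subset_span (Or.inr ⟨i, rfl⟩)
    exact h5 ⟨⟨x, hx⟩, h4, rfl⟩
  · intro i
    have := congrArg Subtype.val (hNF i)
    exact this
  · intro i hi
    have := congrArg Subtype.val (hNE i hi)
    exact this
  · intro htype i hi
    have h6 : (∃ a : ↥H, B' a (N' a) ≠ 0) ∨ (∀ a : ↥H, N' a = 0) := by
      rcases htype with ⟨v, hv, hQ⟩ | h0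
      · exact Or.inl ⟨⟨v, hv⟩, hQ⟩
      · exact Or.inr (fun a => Subtype.ext (h0 a.1 a.2))
    have := congrArg Subtype.val (ht1 h6 i hi)
    exact this
  · intro htype
    have h6 : ∀ a : ↥H, B' a (N' a) = 0 := fun a => htype a.1 a.2
    obtain ⟨hev, htab⟩ := ht2 h6
    refine ⟨hev, fun i j hi hij hne => ?_⟩
    have := congrArg Subtype.val (htab i j hi hij hne)
    exact this


variable [CharP F 2]

theorem exists_NF (hperf : ∀ c : F, ∃ d, d * d = c) (n : ℕ) : NFStmt.{u} F n := by
  induction n using Nat.strong_induction_on with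
  | _ n ih =>
    intro V _ _ _ B N hAlt hND hsq hsa hn
    by_cases hN0 : ∀ x, N x = 0
    · obtain ⟨k, e, f, he, hf, hef, hsp⟩ := exists_symp_family n V B hAlt hND hn
      refine ⟨k, 0, e, f, ⟨he, hf, hef⟩, hsp, fun i => hN0 _, Nat.zero_le _, fun i _ => hN0 _,
        fun _ i hi => absurd hi (Nat.not_lt_zero _),
        fun _ => ⟨Even.zero, fun i j hi => absurd hi (Nat.not_lt_zero _)⟩⟩
    by_cases hQ : ∃ v, B v (N v) ≠ 0
    · -- the non-alternating step
      obtain ⟨v, hQv, hgood⟩ := exists_good hperf hAlt hND hsq hsa hQ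
      have h₀ := isSympFam_one B hAlt v (N v) hQv
      obtain ⟨K', s', E', F', hS, hmem, hsp, hNF, hsK, hNE, ht1, -⟩ :=
        step ih hn B N hAlt hND hsq hsa ![v] ![N v] h₀ (N_mem_perp_one hsq hsa v)
      refine ⟨1 + K', 1 + s', Fin.append ![v] E', Fin.append ![N v] F',
        append_symp B hAlt _ _ h₀ E' F' hS hmem, append_span B hAlt _ _ h₀ E' F' hsp,
        ?_, by omega, ?_, ?_, ?_⟩
      · intro i
        refine Fin.addCases (fun i' => ?_) (fun i' => ?_) i
        · rw [Fin.append_left, Subsingleton.elim i' 0]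
          exact hsq v
        · rw [Fin.append_right]; exact hNF i'
      · intro i
        refine Fin.addCases (fun i' => ?_) (fun i' => ?_) i
        · intro hi
          have := i'.2
          simp only [Fin.val_castAdd] at hi
          omega
        · intro hi
          simp only [Fin.val_natAdd] at hi
          rw [Fin.append_right]
          exact hNE i' (by omega)
      · intro _ i
        refine Fin.addCases (fun i' => ?_) (fun i' => ?_) i
        · intro _
          rw [Fin.append_left, Fin.append_left, Subsingleton.elim i' 0]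
          rfl
        · intro hi
          simp only [Fin.val_natAdd] at hi
          rw [Fin.append_right, Fin.append_right]
          refine ht1 ?_ i' (by omega)
          rcases hgood with h | ⟨u, hu, hQu⟩
          · exact Or.inr h
          · exact Or.inl ⟨u, hu, hQu⟩
      · intro halt
        obtain ⟨v', hv'⟩ := hQ
        exact absurd (halt v') hv'
    · -- the alternating step
      have halt : ∀ v, B v (N v) = 0 := by
        intro v
        by_contra hne
        exact hQ ⟨v, hne⟩
      rw [not_forall] at hN0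
      obtain ⟨v₀, hv₀⟩ := hN0
      obtain ⟨w', hw'⟩ : ∃ w', B (N v₀) w' ≠ 0 := by
        by_contra hcon
        rw [not_exists] at hcon
        exact hv₀ (hND _ (fun w => not_not.mp (hcon w)))
      obtain ⟨w, hw⟩ : ∃ w, w = (B (N v₀) w')⁻¹ • w' := ⟨_, rfl⟩
      have hNv₀w : B (N v₀) w = 1 := by
        rw [hw, map_smul, smul_eq_mul, inv_mul_cancel₀ hw']
      obtain ⟨v, hv⟩ : ∃ v, v = v₀ + B v₀ w • N v₀ := ⟨_, rfl⟩
      have hNv : N v = N v₀ := by
        rw [hv, map_add, map_smul, hsq, smul_zero, add_zero]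
      have hvw : B v w = 0 := by
        rw [hv, map_add, LinearMap.add_apply, map_smul, LinearMap.smul_apply, hNv₀w, smul_eq_mul,
          mul_one]
        exact CharTwo.add_self_eq_zero _
      have hNvw : B (N v) w = 1 := by rw [hNv]; exact hNv₀w
      have hwNv : B w (N v) = 1 := by rw [alt_symm2 hAlt]; exact hNvw
      have hvNw : B v (N w) = 1 := by rw [← hsa]; exact hNvw
      have hNwNv : B (N w) (N v) = 0 := by rw [hsa, hsq, map_zero]
      have h₀ : IsSympFam B ![v, w] ![N w, N v] := by
        refine ⟨?_, ?_, ?_⟩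
        · intro i j
          fin_cases i <;> fin_cases j
          · exact hAlt v
          · exact hvw
          · exact hAlt.eq_zero_of_swap hvw
          · exact hAlt w
        · intro i j
          fin_cases i <;> fin_cases j
          · exact hAlt _
          · exact hNwNv
          · exact hAlt.eq_zero_of_swap hNwNv
          · exact hAlt _
        · intro i j
          fin_cases i <;> fin_cases j
          · exact hvNw
          · exact halt v
          · exact halt w
          · exact hwNv
      have hNH : ∀ x ∈ perpFam B ![v, w] ![N w, N v], N x ∈ perpFam B ![v, w] ![N w, N v] := by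
        intro x hx
        rw [mem_perpFam_two] at hx ⊢
        obtain ⟨⟨h1, h2⟩, h3, h4⟩ := hx
        refine ⟨⟨?_, ?_⟩, ?_, ?_⟩
        · rw [← hsa]; exact h4
        · rw [← hsa, hsq, map_zero, LinearMap.zero_apply]
        · rw [← hsa]; exact h2
        · rw [← hsa, hsq, map_zero, LinearMap.zero_apply]
      obtain ⟨K', s', E', F', hS, hmem, hsp, hNF, hsK, hNE, -, ht2⟩ :=
        step ih hn B N hAlt hND hsq hsa ![v, w] ![N w, N v] h₀ hNH
      obtain ⟨hev, htab⟩ := ht2 (fun x _ => halt x)
      refine ⟨2 + K', 2 + s', Fin.append ![v, w] E', Fin.append ![N w, N v] F',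
        append_symp B hAlt _ _ h₀ E' F' hS hmem, append_span B hAlt _ _ h₀ E' F' hsp,
        ?_, by omega, ?_, ?_, ?_⟩
      · intro i
        refine Fin.addCases (fun i' => ?_) (fun i' => ?_) i
        · rw [Fin.append_left]
          fin_cases i'
          · exact hsq w
          · exact hsq v
        · rw [Fin.append_right]; exact hNF i'
      · intro i
        refine Fin.addCases (fun i' => ?_) (fun i' => ?_) i
        · intro hi
          have := i'.2
          simp only [Fin.val_castAdd] at hi
          omega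
        · intro hi
          simp only [Fin.val_natAdd] at hi
          rw [Fin.append_right]
          exact hNE i' (by omega)
      · intro htype
        rcases htype with ⟨v', hv'⟩ | h0
        · exact absurd (halt v') hv'
        · exact absurd (h0 v₀) hv₀
      · intro _
        refine ⟨by rw [Nat.even_add]; simp [hev], ?_⟩
        intro i j
        refine Fin.addCases (fun i' => ?_) (fun i' => ?_) i <;>
          refine Fin.addCases (fun j' => ?_) (fun j' => ?_) j
        · intro _ _ hne
          rw [Fin.append_left, Fin.append_left]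
          have hne' : i' ≠ j' := fun h => hne (by rw [h])
          fin_cases i' <;> fin_cases j'
          · exact absurd rfl hne'
          · rfl
          · rfl
          · exact absurd rfl hne'
        · intro _ hij _
          have := i'.2
          simp only [Fin.val_castAdd, Fin.val_natAdd] at hij
          omega
        · intro _ hij _
          have := j'.2
          simp only [Fin.val_castAdd, Fin.val_natAdd] at hij
          omega
        · intro hi hij hne
          simp only [Fin.val_natAdd] at hi hij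
          rw [Fin.append_right, Fin.append_right]
          refine htab i' j' (by omega) (by omega) ?_
          intro h
          exact hne (by rw [h])

end Cfsg.Agent.Helper8.Sp2
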