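import Mathlib
import Cfsg.Agent.Helper8.Sp2NF
set_option autoImplicit false

/-! Consequences of the normal form: the rank, and isometries between two normal forms. -/

namespace Cfsg.Agent.Helper8.Sp2

open Module Cfsg.Agent.Helper8.SpS

universe u v

variable {F : Type v} [Field F]
variable {V : Type u} [AddCommGroup V] [Module F V]

/-- the basis of a normal form -/
noncomputable def NF.basis {B : V →ₗ[F] V →ₗ[F] F} {N : Module.End F V} {K s : ℕ}
    {E Fv : Fin K → V} (h : NF B N K s E Fv) (hAlt : Alt B) : Basis (Fin K ⊕ Fin K) F V :=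
  Basis.mk (linearIndependent_family B hAlt E Fv h.1.1 h.1.2.1 h.1.2.2) (by
    intro x _
    have := h.2.1 x
    rwa [← Set.Sum.elim_range] at this)

theorem NF.basis_apply {B : V →ₗ[F] V →ₗ[F] F} {N : Module.End F V} {K s : ℕ}
    {E Fv : Fin K → V} (h : NF B N K s E Fv) (hAlt : Alt B) (x : Fin K ⊕ Fin K) :
    h.basis hAlt x = Sum.elim E Fv x := by
  rw [NF.basis, Basis.mk_apply]

theorem NF.finrank_eq [FiniteDimensional F V] {B : V →ₗ[F] V →ₗ[F] F} {N : Module.End F V}
    {K s : ℕ} {E Fv : Fin K → V} (h : NF B N K s E Fv) (hAlt : Alt B) :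
    finrank F V = 2 * K := by
  rw [Module.finrank_eq_card_basis (h.basis hAlt), Fintype.card_sum, Fintype.card_fin]
  ring

/-- the partner index -/
theorem exists_partner {K s : ℕ} (hs : Even s) (hsK : s ≤ K) (i : Fin K) (hi : (i : ℕ) < s) :
    ∃ j : Fin K, (j : ℕ) < s ∧ (i : ℕ) / 2 = (j : ℕ) / 2 ∧ i ≠ j := by
  obtain ⟨t, ht⟩ := hs
  rcases Nat.even_or_odd (i : ℕ) with he | ho
  · obtain ⟨r, hr⟩ := he
    refine ⟨⟨(i : ℕ) + 1, by omega⟩, by simp only; omega, by simp only; omega, ?_⟩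
    intro h
    have := congrArg Fin.val h
    simp only at this
    omega
  · obtain ⟨r, hr⟩ := ho
    refine ⟨⟨(i : ℕ) - 1, by omega⟩, by simp only; omega, by simp only; omega, ?_⟩
    intro h
    have := congrArg Fin.val h
    simp only at this
    omega

/-- the rank of `N` in a normal form -/
theorem NF.finrank_range [FiniteDimensional F V] {B : V →ₗ[F] V →ₗ[F] F} {N : Module.End F V}
    {K s : ℕ} {E Fv : Fin K → V} (h : NF B N K s E Fv) (hAlt : Alt B) :
    finrank F (LinearMap.range N) = s := by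
  obtain ⟨hS, hsp, hNF, hsK, hNE, ht1, ht2⟩ := h
  have hli := linearIndependent_family B hAlt E Fv hS.1 hS.2.1 hS.2.2
  set g : Fin s → V := fun i => Fv (Fin.castLE hsK i) with hg
  have hgli : LinearIndependent F g := by
    have h1 : g = Sum.elim E Fv ∘ (fun i : Fin s => Sum.inr (Fin.castLE hsK i)) := rfl
    rw [h1]
    apply hli.comp
    intro i j hij
    exact Fin.castLE_injective hsK (Sum.inr_injective hij)
  have hrange : LinearMap.range N = Submodule.span F (Set.range g) := by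
    apply le_antisymm
    · rintro _ ⟨x, rfl⟩
      have hx := hsp x
      rw [← Submodule.mem_comap]
      revert hx
      suffices Submodule.span F (Set.range E ∪ Set.range Fv) ≤
          Submodule.comap N (Submodule.span F (Set.range g)) from fun hx => this hx
      rw [Submodule.span_le]
      rintro _ (⟨i, rfl⟩ | ⟨i, rfl⟩)
      · rw [SetLike.mem_coe, Submodule.mem_comap]
        rcases Nat.lt_or_ge (i : ℕ) s with hi | hi
        · by_cases htype : (∃ v, B v (N v) ≠ 0) ∨ (∀ x, N x = 0)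
          · rw [ht1 htype i hi]
            exact Submodule.subset_span ⟨⟨i, hi⟩, rfl⟩
          · rw [not_or, not_exists] at htype
            have halt : ∀ v, B v (N v) = 0 := fun v => not_not.mp (htype.1 v)
            obtain ⟨hev, htab⟩ := ht2 halt
            obtain ⟨j, hj, hij, hne⟩ := exists_partner hev hsK i hi
            rw [htab i j hi hij hne]
            exact Submodule.subset_span ⟨⟨j, hj⟩, rfl⟩
        · rw [hNE i hi]
          exact Submodule.zero_mem _
      · rw [SetLike.mem_coe, Submodule.mem_comap, hNF i]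
        exact Submodule.zero_mem _
    · rw [Submodule.span_le]
      rintro _ ⟨i, rfl⟩
      by_cases htype : (∃ v, B v (N v) ≠ 0) ∨ (∀ x, N x = 0)
      · exact ⟨E (Fin.castLE hsK i), ht1 htype _ (by simp)⟩
      · rw [not_or, not_exists] at htype
        have halt : ∀ v, B v (N v) = 0 := fun v => not_not.mp (htype.1 v)
        obtain ⟨hev, htab⟩ := ht2 halt
        obtain ⟨j, hj, hij, hne⟩ := exists_partner hev hsK (Fin.castLE hsK i) (by simp)
        exact ⟨E j, htab j _ hj hij.symm (Ne.symm hne)⟩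
  rw [hrange, finrank_span_eq_card hgli, Fintype.card_fin]


variable {V₂ : Type u} [AddCommGroup V₂] [Module F V₂]

/-- two normal forms with the same parameters and type are isometric -/
theorem exists_iso_of_NF {B₁ : V →ₗ[F] V →ₗ[F] F} {N₁ : Module.End F V}
    {B₂ : V₂ →ₗ[F] V₂ →ₗ[F] F} {N₂ : Module.End F V₂} (hAlt₁ : Alt B₁) (hAlt₂ : Alt B₂)
    {K s : ℕ} {E₁ F₁ : Fin K → V} {E₂ F₂ : Fin K → V₂}
    (h₁ : NF B₁ N₁ K s E₁ F₁) (h₂ : NF B₂ N₂ K s E₂ F₂)
    (htype : (∀ v, B₁ v (N₁ v) = 0) ↔ (∀ v, B₂ v (N₂ v) = 0)) :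
    ∃ z : V →ₗ[F] V₂, (∀ u v, B₂ (z u) (z v) = B₁ u v) ∧ (∀ u, z (N₁ u) = N₂ (z u)) := by
  set b₁ := h₁.basis hAlt₁ with hb₁
  set z : V →ₗ[F] V₂ := b₁.constr F (Sum.elim E₂ F₂) with hz
  have hzb : ∀ x, z (b₁ x) = Sum.elim E₂ F₂ x := fun x => Basis.constr_basis _ _ _ _
  have hb₁x : ∀ x, b₁ x = Sum.elim E₁ F₁ x := fun x => h₁.basis_apply hAlt₁ x
  refine ⟨z, ?_, ?_⟩
  · have h3 : B₂.compl₁₂ z z = B₁ := by
      apply LinearMap.ext_basis b₁ b₁
      intro x y
      rw [LinearMap.compl₁₂_apply, hzb, hzb, hb₁x, hb₁x,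
        gram_family B₂ hAlt₂ E₂ F₂ h₂.1.1 h₂.1.2.1 h₂.1.2.2,
        gram_family B₁ hAlt₁ E₁ F₁ h₁.1.1 h₁.1.2.1 h₁.1.2.2]
    intro u v
    rw [← h3]
    rfl
  · have h4 : z ∘ₗ N₁ = N₂ ∘ₗ z := by
      apply b₁.ext
      intro x
      rw [LinearMap.comp_apply, LinearMap.comp_apply, hzb, hb₁x]
      obtain ⟨hS₁, hsp₁, hNF₁, hsK, hNE₁, ht1₁, ht2₁⟩ := h₁
      obtain ⟨hS₂, hsp₂, hNF₂, -, hNE₂, ht1₂, ht2₂⟩ := h₂
      rcases x with i | i
      · simp only [Sum.elim_inl]
        rcases Nat.lt_or_ge (i : ℕ) s with hi | hi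
        · by_cases halt : ∀ v, B₁ v (N₁ v) = 0
          · obtain ⟨hev, htab₁⟩ := ht2₁ halt
            obtain ⟨-, htab₂⟩ := ht2₂ (htype.mp halt)
            obtain ⟨j, hj, hij, hne⟩ := exists_partner hev hsK i hi
            rw [htab₁ i j hi hij hne, htab₂ i j hi hij hne]
            have := hzb (Sum.inr j)
            rw [hb₁x] at this
            exact this
          · have halt₂ : ¬ ∀ v, B₂ v (N₂ v) = 0 := fun h => halt (htype.mpr h)
            rw [not_forall] at halt halt₂
            rw [ht1₁ (Or.inl halt) i hi, ht1₂ (Or.inl halt₂) i hi]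
            have := hzb (Sum.inr i)
            rw [hb₁x] at this
            exact this
        · rw [hNE₁ i hi, hNE₂ i hi, map_zero]
      · simp only [Sum.elim_inr]
        rw [hNF₁ i, hNF₂ i, map_zero]
    intro u
    exact congrArg (fun f : V →ₗ[F] V₂ => f u) h4

end Cfsg.Agent.Helper8.Sp2
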