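import Mathlib
import Cfsg.Prelude.Def_ClassicalGeometry
import Cfsg.Agent.Helper8.Sp2Iso
import Cfsg.Agent.Helper8.SpSMat
set_option autoImplicit false

/-! Conjugacy of involutions of `Sp_2m(F)`, `F` finite of characteristic two. -/

namespace Cfsg.Agent.Helper8.Sp2

open Module Matrix Cfsg Cfsg.Agent.Helper8.SpS

variable {F : Type*} [Field F] {m : ℕ}

theorem sympForm_eq_bform (u v : Fin m ⊕ Fin m → F) :
    sympForm m F u v = bform (Matrix.J (Fin m) F) u v := by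
  rw [bform, Matrix.toLinearMap₂'_apply']
  rfl

/-- the operator `t - 1` of an involution -/
noncomputable def opN (a : Matrix.symplecticGroup (Fin m) F) : Module.End F (Fin m ⊕ Fin m → F) :=
  Matrix.toLin' ((a : Matrix (Fin m ⊕ Fin m) (Fin m ⊕ Fin m) F) - 1)

theorem opN_apply (a : Matrix.symplecticGroup (Fin m) F) (v : Fin m ⊕ Fin m → F) :
    opN a v = (a : Matrix (Fin m ⊕ Fin m) (Fin m ⊕ Fin m) F) *ᵥ v - v := by
  rw [opN, Matrix.toLin'_apply, Matrix.sub_mulVec, Matrix.one_mulVec]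

theorem coe_sq (a : Matrix.symplecticGroup (Fin m) F) (ha : a ^ 2 = 1) :
    (a : Matrix (Fin m ⊕ Fin m) (Fin m ⊕ Fin m) F) * a = 1 := by
  have h : (a ^ 2).1 = a.1 * a.1 := by rw [pow_two]; rfl
  rw [← h, ha]
  rfl

theorem bform_inv (a : Matrix.symplecticGroup (Fin m) F) (u v : Fin m ⊕ Fin m → F) :
    bform (Matrix.J (Fin m) F) ((a : Matrix (Fin m ⊕ Fin m) (Fin m ⊕ Fin m) F) *ᵥ u)
      ((a : Matrix (Fin m ⊕ Fin m) (Fin m ⊕ Fin m) F) *ᵥ v) = bform (Matrix.J (Fin m) F) u v := by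
  have := inv_bform (Matrix.J (Fin m) F) a.1 (transpose_J_mul a.2) u v
  rwa [Matrix.toLin'_apply, Matrix.toLin'_apply] at this

theorem opN_sa (a : Matrix.symplecticGroup (Fin m) F) (ha : a ^ 2 = 1)
    (u v : Fin m ⊕ Fin m → F) :
    bform (Matrix.J (Fin m) F) (opN a u) v = bform (Matrix.J (Fin m) F) u (opN a v) := by
  rw [opN_apply, opN_apply, map_sub, LinearMap.sub_apply, map_sub]
  congr 1
  have h1 := bform_inv a u ((a : Matrix (Fin m ⊕ Fin m) (Fin m ⊕ Fin m) F) *ᵥ v)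
  rw [Matrix.mulVec_mulVec, coe_sq a ha, Matrix.one_mulVec] at h1
  exact h1

variable [CharP F 2]

theorem opN_sq (a : Matrix.symplecticGroup (Fin m) F) (ha : a ^ 2 = 1)
    (v : Fin m ⊕ Fin m → F) : opN a (opN a v) = 0 := by
  rw [opN_apply, opN_apply, Matrix.mulVec_sub, Matrix.mulVec_mulVec, coe_sq a ha,
    Matrix.one_mulVec]
  have : ∀ x : Fin m ⊕ Fin m → F, x + x = 0 := fun x => by
    ext i
    exact CharTwo.add_self_eq_zero (x i)
  have h2 := this ((a : Matrix (Fin m ⊕ Fin m) (Fin m ⊕ Fin m) F) *ᵥ v)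
  have h3 := this v
  have h4 : v - (a : Matrix (Fin m ⊕ Fin m) (Fin m ⊕ Fin m) F) *ᵥ v -
      ((a : Matrix (Fin m ⊕ Fin m) (Fin m ⊕ Fin m) F) *ᵥ v - v) =
      (v + v) - ((a : Matrix (Fin m ⊕ Fin m) (Fin m ⊕ Fin m) F) *ᵥ v +
        (a : Matrix (Fin m ⊕ Fin m) (Fin m ⊕ Fin m) F) *ᵥ v) := by abel
  rw [h4, h2, h3, sub_zero]


omit [CharP F 2] in
theorem Q_eq (a : Matrix.symplecticGroup (Fin m) F) (v : Fin m ⊕ Fin m → F) :
    bform (Matrix.J (Fin m) F) v (opN a v) =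
      sympForm m F v ((a : Matrix (Fin m ⊕ Fin m) (Fin m ⊕ Fin m) F) *ᵥ v) := by
  rw [opN_apply, map_sub, alt_bform_J v, sub_zero, sympForm_eq_bform]

omit [CharP F 2] in
theorem rank_eq_finrank (a : Matrix.symplecticGroup (Fin m) F) :
    ((a : Matrix (Fin m ⊕ Fin m) (Fin m ⊕ Fin m) F) - 1).rank =
      finrank F (LinearMap.range (opN a)) := by
  rw [opN, Matrix.toLin'_apply']
  rfl

variable [Fintype F]

theorem hperf (c : F) : ∃ d, d * d = c := by
  obtain ⟨d, hd⟩ := isSquare_of_charTwo' c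
  exact ⟨d, hd.symm⟩

/-- the normal form of an involution -/
theorem exists_NF_invol (a : Matrix.symplecticGroup (Fin m) F) (ha : a ^ 2 = 1) :
    ∃ (K s : ℕ) (E Fv : Fin K → (Fin m ⊕ Fin m → F)),
      NF (bform (Matrix.J (Fin m) F)) (opN a) K s E Fv :=
  exists_NF hperf _ (Fin m ⊕ Fin m → F) (bform (Matrix.J (Fin m) F)) (opN a) alt_bform_J
    (nondeg_bform _ (Matrix.isUnit_det_J (Fin m) F).ne_zero) (opN_sq a ha) (opN_sa a ha) rfl

/-- alternating type forces even rank -/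
theorem even_rank_of_alt (a : Matrix.symplecticGroup (Fin m) F) (ha : a ^ 2 = 1)
    (halt : ∀ v, sympForm m F v ((a : Matrix (Fin m ⊕ Fin m) (Fin m ⊕ Fin m) F) *ᵥ v) = 0) :
    Even ((a : Matrix (Fin m ⊕ Fin m) (Fin m ⊕ Fin m) F) - 1).rank := by
  obtain ⟨K, s, E, Fv, h⟩ := exists_NF_invol a ha
  rw [rank_eq_finrank, h.finrank_range alt_bform_J]
  exact (h.2.2.2.2.2.2 (fun v => by rw [Q_eq]; exact halt v)).1

theorem conj_of_rank_type (a b : Matrix.symplecticGroup (Fin m) F) (ha : a ^ 2 = 1)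
    (hb : b ^ 2 = 1)
    (hrank : ((a : Matrix (Fin m ⊕ Fin m) (Fin m ⊕ Fin m) F) - 1).rank =
      ((b : Matrix (Fin m ⊕ Fin m) (Fin m ⊕ Fin m) F) - 1).rank)
    (htype : (∀ v, sympForm m F v ((a : Matrix (Fin m ⊕ Fin m) (Fin m ⊕ Fin m) F) *ᵥ v) = 0) ↔
      (∀ v, sympForm m F v ((b : Matrix (Fin m ⊕ Fin m) (Fin m ⊕ Fin m) F) *ᵥ v) = 0)) :
    IsConj a b := by
  set J := Matrix.J (Fin m) F with hJ
  obtain ⟨K₁, s₁, E₁, F₁, h₁⟩ := exists_NF_invol a ha
  obtain ⟨K₂, s₂, E₂, F₂, h₂⟩ := exists_NF_invol b hb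
  have hK : K₁ = K₂ := by
    have e1 := h₁.finrank_eq alt_bform_J
    have e2 := h₂.finrank_eq alt_bform_J
    omega
  have hs : s₁ = s₂ := by
    rw [← h₁.finrank_range alt_bform_J, ← h₂.finrank_range alt_bform_J, ← rank_eq_finrank,
      ← rank_eq_finrank]
    exact hrank
  subst hK hs
  have htype' : (∀ v, bform J v (opN a v) = 0) ↔ (∀ v, bform J v (opN b v) = 0) := by
    constructor
    · intro h v
      rw [hJ, Q_eq]
      exact htype.mp (fun w => by rw [← Q_eq]; exact h w) v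
    · intro h v
      rw [hJ, Q_eq]
      exact htype.mpr (fun w => by rw [← Q_eq]; exact h w) v
  obtain ⟨z, hzB, hzN⟩ := exists_iso_of_NF alt_bform_J alt_bform_J h₁ h₂ htype'
  set Z : Matrix (Fin m ⊕ Fin m) (Fin m ⊕ Fin m) F := LinearMap.toMatrix' z with hZ
  have hzZ : z = Matrix.toLin' Z := (Matrix.toLin'_toMatrix' z).symm
  have hZJ : Zᵀ * J * Z = J := by
    apply bform_injective
    apply LinearMap.ext₂
    intro u v
    rw [← bform_comp_apply, ← hzZ, hzB]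
  have hZmem : Z ∈ Matrix.symplecticGroup (Fin m) F := by
    rw [← SymplecticGroup.transpose_mem_iff, SymplecticGroup.mem_iff,
      Matrix.transpose_transpose]
    exact hZJ
  have hZab : Z * (a : Matrix (Fin m ⊕ Fin m) (Fin m ⊕ Fin m) F) = b * Z := by
    have h1 : z ∘ₗ opN a = opN b ∘ₗ z := LinearMap.ext hzN
    have h2 := congrArg LinearMap.toMatrix' h1
    rw [LinearMap.toMatrix'_comp, LinearMap.toMatrix'_comp, opN, opN,
      LinearMap.toMatrix'_toLin', LinearMap.toMatrix'_toLin', ← hZ, Matrix.mul_sub,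
      Matrix.sub_mul, Matrix.mul_one, Matrix.one_mul] at h2
    exact sub_left_injective h2
  rw [isConj_iff]
  refine ⟨⟨Z, hZmem⟩, ?_⟩
  rw [mul_inv_eq_iff_eq_mul]
  apply Subtype.ext
  exact hZab


omit [CharP F 2] [Fintype F] in
theorem rank_eq_of_conj (a b g : Matrix.symplecticGroup (Fin m) F) (hg : g * a * g⁻¹ = b) :
    ((a : Matrix (Fin m ⊕ Fin m) (Fin m ⊕ Fin m) F) - 1).rank =
      ((b : Matrix (Fin m ⊕ Fin m) (Fin m ⊕ Fin m) F) - 1).rank := by
  have hgg : (g : Matrix (Fin m ⊕ Fin m) (Fin m ⊕ Fin m) F) * (g⁻¹).1 = 1 := by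
    have : (g * g⁻¹).1 = g.1 * (g⁻¹).1 := rfl
    rw [← this, mul_inv_cancel]
    rfl
  have hb : (b : Matrix (Fin m ⊕ Fin m) (Fin m ⊕ Fin m) F) - 1 =
      g.1 * (a.1 - 1) * (g⁻¹).1 := by
    rw [Matrix.mul_sub, Matrix.sub_mul, Matrix.mul_one, hgg, ← hg]
    rfl
  have hdet : IsUnit (g : Matrix (Fin m ⊕ Fin m) (Fin m ⊕ Fin m) F).det :=
    SymplecticGroup.symplectic_det g.2
  have hdet' : IsUnit ((g⁻¹ : Matrix.symplecticGroup (Fin m) F) :
      Matrix (Fin m ⊕ Fin m) (Fin m ⊕ Fin m) F).det :=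
    SymplecticGroup.symplectic_det (g⁻¹).2
  rw [hb, Matrix.rank_mul_eq_left_of_isUnit_det _ _ hdet',
    Matrix.rank_mul_eq_right_of_isUnit_det _ _ hdet]

omit [CharP F 2] in
theorem card_le_of_conj (a b g : Matrix.symplecticGroup (Fin m) F) (hg : g * a * g⁻¹ = b) :
    Nat.card {v : Fin m ⊕ Fin m → F // sympForm m F v
        ((a : Matrix (Fin m ⊕ Fin m) (Fin m ⊕ Fin m) F) *ᵥ v) = 0} ≤
      Nat.card {v : Fin m ⊕ Fin m → F // sympForm m F v
        ((b : Matrix (Fin m ⊕ Fin m) (Fin m ⊕ Fin m) F) *ᵥ v) = 0} := by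
  have hga : (b : Matrix (Fin m ⊕ Fin m) (Fin m ⊕ Fin m) F) * g.1 = g.1 * a.1 := by
    have h1 : b * g = g * a := by rw [← hg]; group
    exact congrArg Subtype.val h1
  apply Nat.card_le_card_of_injective
    (fun v : {v : Fin m ⊕ Fin m → F // sympForm m F v
        ((a : Matrix (Fin m ⊕ Fin m) (Fin m ⊕ Fin m) F) *ᵥ v) = 0} =>
      (⟨(g : Matrix (Fin m ⊕ Fin m) (Fin m ⊕ Fin m) F) *ᵥ v.1, by
        rw [Matrix.mulVec_mulVec, hga, ← Matrix.mulVec_mulVec, sympForm_eq_bform, bform_inv,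
          ← sympForm_eq_bform]
        exact v.2⟩ : {v : Fin m ⊕ Fin m → F // sympForm m F v
        ((b : Matrix (Fin m ⊕ Fin m) (Fin m ⊕ Fin m) F) *ᵥ v) = 0}))
  intro v w hvw
  have h1 := congrArg Subtype.val hvw
  simp only at h1
  have hgg : ((g⁻¹ : Matrix.symplecticGroup (Fin m) F) :
      Matrix (Fin m ⊕ Fin m) (Fin m ⊕ Fin m) F) * g.1 = 1 := by
    have : (g⁻¹ * g).1 = (g⁻¹).1 * g.1 := rfl
    rw [← this, inv_mul_cancel]
    rfl
  have h2 := congrArg (fun x => ((g⁻¹ : Matrix.symplecticGroup (Fin m) F) :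
      Matrix (Fin m ⊕ Fin m) (Fin m ⊕ Fin m) F) *ᵥ x) h1
  simp only [Matrix.mulVec_mulVec, hgg, Matrix.one_mulVec] at h2
  exact Subtype.ext h2

omit [CharP F 2] in
theorem alt_iff_card (a : Matrix.symplecticGroup (Fin m) F) :
    (∀ v, sympForm m F v ((a : Matrix (Fin m ⊕ Fin m) (Fin m ⊕ Fin m) F) *ᵥ v) = 0) ↔
      Nat.card {v : Fin m ⊕ Fin m → F // sympForm m F v
        ((a : Matrix (Fin m ⊕ Fin m) (Fin m ⊕ Fin m) F) *ᵥ v) = 0} =
        Nat.card (Fin m ⊕ Fin m → F) := by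
  classical
  constructor
  · intro h
    exact Nat.card_congr (Equiv.subtypeUnivEquiv h)
  · intro h
    by_contra hne
    rw [not_forall] at hne
    obtain ⟨v, hv⟩ := hne
    have := Fintype.card_subtype_lt (p := fun v : Fin m ⊕ Fin m → F => sympForm m F v
        ((a : Matrix (Fin m ⊕ Fin m) (Fin m ⊕ Fin m) F) *ᵥ v) = 0) hv
    rw [Nat.card_eq_fintype_card, Nat.card_eq_fintype_card] at h
    omega

theorem main (a b : Matrix.symplecticGroup (Fin m) F) (ha : orderOf a = 2) (hb : orderOf b = 2) :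
    IsConj a b ↔ (((a : Matrix (Fin m ⊕ Fin m) (Fin m ⊕ Fin m) F) - 1).rank =
        ((b : Matrix (Fin m ⊕ Fin m) (Fin m ⊕ Fin m) F) - 1).rank ∧
      (Even ((a : Matrix (Fin m ⊕ Fin m) (Fin m ⊕ Fin m) F) - 1).rank →
        Nat.card {v : Fin m ⊕ Fin m → F // sympForm m F v
          ((a : Matrix (Fin m ⊕ Fin m) (Fin m ⊕ Fin m) F) *ᵥ v) = 0} =
        Nat.card {v : Fin m ⊕ Fin m → F // sympForm m F v
          ((b : Matrix (Fin m ⊕ Fin m) (Fin m ⊕ Fin m) F) *ᵥ v) = 0})) := by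
  have ha2 : a ^ 2 = 1 := by rw [← ha]; exact pow_orderOf_eq_one a
  have hb2 : b ^ 2 = 1 := by rw [← hb]; exact pow_orderOf_eq_one b
  constructor
  · intro h
    obtain ⟨g, hg⟩ := isConj_iff.mp h
    have hg' : g⁻¹ * b * g⁻¹⁻¹ = a := by rw [← hg]; group
    exact ⟨rank_eq_of_conj a b g hg, fun _ =>
      le_antisymm (card_le_of_conj a b g hg) (card_le_of_conj b a g⁻¹ hg')⟩
  · rintro ⟨hrank, hcard⟩
    apply conj_of_rank_type a b ha2 hb2 hrank
    by_cases hev : Even ((a : Matrix (Fin m ⊕ Fin m) (Fin m ⊕ Fin m) F) - 1).rank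
    · rw [alt_iff_card, alt_iff_card, hcard hev]
    · constructor
      · intro h
        exact absurd (even_rank_of_alt a ha2 h) hev
      · intro h
        rw [hrank] at hev
        exact absurd (even_rank_of_alt b hb2 h) hev

end Cfsg.Agent.Helper8.Sp2
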