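import Mathlib
import Cfsg.Prelude.Def_ClassicalGeometry
import Cfsg.Agent.Helper8.Sp2Conj
import Cfsg.Agent.Helper8.UJRank
set_option autoImplicit false

/-! Representatives of the classes of involutions of `Sp_2m(F)` in characteristic two. -/

namespace Cfsg.Agent.Helper8.Sp2

open Module Matrix Cfsg

variable {F : Type*} [Field F] {m : ℕ}

/-- the unipotent element `[[1, D], [0, 1]]` -/
def tMat (D : Matrix (Fin m) (Fin m) F) : Matrix (Fin m ⊕ Fin m) (Fin m ⊕ Fin m) F :=
  fromBlocks 1 D 0 1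

theorem tMat_mem (D : Matrix (Fin m) (Fin m) F) (hD : Dᵀ = D) :
    tMat D ∈ Matrix.symplecticGroup (Fin m) F := by
  rw [SymplecticGroup.mem_iff, tMat, Matrix.J, Matrix.fromBlocks_transpose,
    Matrix.fromBlocks_multiply, Matrix.fromBlocks_multiply, hD]
  simp

theorem tMat_sub_one (D : Matrix (Fin m) (Fin m) F) : tMat D - 1 = fromBlocks 0 D 0 0 := by
  rw [tMat]
  ext (i | i) (j | j) <;> simp [Matrix.one_apply]

theorem rank_tMat_sub_one (D : Matrix (Fin m) (Fin m) F) : (tMat D - 1).rank = D.rank := by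
  rw [tMat_sub_one]
  set S : Matrix (Fin m ⊕ Fin m) (Fin m ⊕ Fin m) F := fromBlocks 0 1 1 0 with hS
  have hSS : S * S = 1 := by
    rw [hS, Matrix.fromBlocks_multiply]
    simp [Matrix.fromBlocks_one]
  have hdet : IsUnit S.det := by
    have := congrArg Matrix.det hSS
    rw [Matrix.det_mul, Matrix.det_one] at this
    exact IsUnit.of_mul_eq_one _ this
  have h1 : (fromBlocks 0 D 0 0 : Matrix (Fin m ⊕ Fin m) (Fin m ⊕ Fin m) F) * S =
      fromBlocks D 0 0 0 := by
    rw [hS, Matrix.fromBlocks_multiply]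
    simp
  rw [← Matrix.rank_mul_eq_left_of_isUnit_det S _ hdet, h1, UJ.rank_fromBlocks_diag,
    Matrix.rank_zero, add_zero]

theorem sympForm_tMat (D : Matrix (Fin m) (Fin m) F) (v : Fin m ⊕ Fin m → F) :
    sympForm m F v (tMat D *ᵥ v) = (v ∘ Sum.inr) ⬝ᵥ D *ᵥ (v ∘ Sum.inr) := by
  rw [sympForm, tMat, Matrix.J, Matrix.fromBlocks_mulVec, Matrix.fromBlocks_mulVec]
  simp only [Matrix.zero_mulVec, Matrix.one_mulVec, Matrix.neg_mulVec, zero_add, add_zero,
    dotProduct, Fintype.sum_sum_type, Sum.elim_inl, Sum.elim_inr, Function.comp_apply,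
    Pi.neg_apply, Pi.add_apply]
  rw [← Finset.sum_add_distrib]
  apply Finset.sum_congr rfl
  intro i _
  simp only [Function.comp_def]
  ring

variable [CharP F 2]

theorem tMat_sq (D : Matrix (Fin m) (Fin m) F) : tMat D * tMat D = 1 := by
  rw [tMat, Matrix.fromBlocks_multiply]
  have : D + D = 0 := by
    ext i j
    exact CharTwo.add_self_eq_zero (D i j)
  simp [this, Matrix.fromBlocks_one]

/-- symmetric matrices with zero diagonal give alternating forms -/
theorem dot_mulVec_self (M : Matrix (Fin m) (Fin m) F) (hM : Mᵀ = M) (hd : ∀ i, M i i = 0)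
    (y : Fin m → F) : y ⬝ᵥ M *ᵥ y = 0 := by
  simp only [dotProduct, mulVec, Finset.mul_sum]
  rw [← Finset.sum_product']
  apply Finset.sum_ninvolution (fun p : Fin m × Fin m => (p.2, p.1))
  · intro p
    have h1 : M p.2 p.1 = M p.1 p.2 := by
      conv_rhs => rw [← hM]
      rfl
    simp only [h1]
    have := CharTwo.add_self_eq_zero (y p.1 * (M p.1 p.2 * y p.2))
    linear_combination this
  · intro p hp hpp
    apply hp
    have h2 : p.2 = p.1 := congrArg Prod.fst hpp
    rw [h2, hd, zero_mul, mul_zero]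
  · intro p
    exact Finset.mem_univ _
  · intro p
    rfl


omit [CharP F 2] in
/-- diagonal with `s` ones -/
def dMat (F : Type*) [Field F] (m s : ℕ) : Matrix (Fin m) (Fin m) F :=
  Matrix.diagonal (fun i => if (i : ℕ) < s then 1 else 0)

omit [CharP F 2] in
theorem rank_dMat {s : ℕ} (hs : s ≤ m) : (dMat F m s).rank = s := by
  classical
  rw [dMat, Matrix.rank_diagonal]
  have e : {i : Fin m // (if (i : ℕ) < s then (1 : F) else 0) ≠ 0} ≃ Fin s :=
    { toFun := fun x => ⟨x.1, by
        have := x.2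
        by_contra h
        rw [if_neg h] at this
        exact this rfl⟩
      invFun := fun y => ⟨⟨y, lt_of_lt_of_le y.2 hs⟩, by
        rw [if_pos y.2]
        exact one_ne_zero⟩
      left_inv := fun x => rfl
      right_inv := fun y => rfl }
  rw [Fintype.card_congr e, Fintype.card_fin]

/-- the alternating pairing matrix -/
def aMat (F : Type*) [Field F] (m s : ℕ) : Matrix (Fin m) (Fin m) F :=
  Matrix.of fun i j => if (i : ℕ) < s ∧ (i : ℕ) / 2 = (j : ℕ) / 2 ∧ i ≠ j then 1 else 0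

omit [CharP F 2] in
theorem aMat_apply (s : ℕ) (i j : Fin m) :
    aMat F m s i j = if (i : ℕ) < s ∧ (i : ℕ) / 2 = (j : ℕ) / 2 ∧ i ≠ j then 1 else 0 := rfl

omit [CharP F 2] in
theorem aMat_transpose {s : ℕ} (hs : Even s) : (aMat F m s)ᵀ = aMat F m s := by
  obtain ⟨t, ht⟩ := hs
  ext i j
  rw [Matrix.transpose_apply, aMat_apply, aMat_apply]
  have : ((j : ℕ) < s ∧ (j : ℕ) / 2 = (i : ℕ) / 2 ∧ j ≠ i) ↔
      ((i : ℕ) < s ∧ (i : ℕ) / 2 = (j : ℕ) / 2 ∧ i ≠ j) := by
    constructor
    · rintro ⟨h1, h2, h3⟩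
      exact ⟨by omega, h2.symm, Ne.symm h3⟩
    · rintro ⟨h1, h2, h3⟩
      exact ⟨by omega, h2.symm, Ne.symm h3⟩
  simp only [this]

omit [CharP F 2] in
theorem aMat_diag (s : ℕ) (i : Fin m) : aMat F m s i i = 0 := by
  rw [aMat_apply, if_neg]
  rintro ⟨-, -, h⟩
  exact h rfl

omit [CharP F 2] in
theorem aMat_mul_self {s : ℕ} (hs : Even s) (hsm : s ≤ m) :
    aMat F m s * aMat F m s = dMat F m s := by
  ext i k
  rw [Matrix.mul_apply, dMat, Matrix.diagonal_apply]
  rcases Nat.lt_or_ge (i : ℕ) s with hi | hi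
  · obtain ⟨p, hp, hip, hne⟩ := exists_partner hs hsm i hi
    rw [Finset.sum_eq_single p]
    · rw [aMat_apply, if_pos ⟨hi, hip, hne⟩, one_mul, aMat_apply]
      by_cases hik : i = k
      · subst hik
        rw [if_pos ⟨hp, hip.symm, Ne.symm hne⟩, if_pos rfl, if_pos hi]
      · rw [if_neg hik, if_neg]
        rintro ⟨-, h2, h3⟩
        apply hik
        apply Fin.ext
        have h4 : (p : ℕ) ≠ k := fun h => h3 (Fin.ext h)
        have h5 : (i : ℕ) ≠ p := fun h => hne (Fin.ext h)
        omega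
    · intro j _ hj
      rw [aMat_apply, if_neg, zero_mul]
      rintro ⟨-, h2, h3⟩
      apply hj
      apply Fin.ext
      have h4 : (i : ℕ) ≠ j := fun h => h3 (Fin.ext h)
      have h5 : (i : ℕ) ≠ p := fun h => hne (Fin.ext h)
      omega
    · intro h
      exact absurd (Finset.mem_univ p) h
  · rw [Finset.sum_eq_zero]
    · by_cases hik : i = k
      · rw [if_pos hik, if_neg (by omega)]
      · rw [if_neg hik]
    · intro j _
      rw [aMat_apply, if_neg, zero_mul]
      rintro ⟨h1, -, -⟩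
      omega

omit [CharP F 2] in
theorem dMat_mul_aMat (s : ℕ) : dMat F m s * aMat F m s = aMat F m s := by
  ext i k
  rw [dMat, Matrix.diagonal_mul, aMat_apply]
  by_cases hi : (i : ℕ) < s
  · rw [if_pos hi, one_mul]
  · rw [if_neg hi, zero_mul, if_neg]
    rintro ⟨h1, -, -⟩
    exact hi h1

omit [CharP F 2] in
theorem rank_aMat {s : ℕ} (hs : Even s) (hsm : s ≤ m) : (aMat F m s).rank = s := by
  apply le_antisymm
  · rw [← dMat_mul_aMat]
    exact (Matrix.rank_mul_le_left _ _).trans (rank_dMat hsm).le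
  · have h1 := Matrix.rank_mul_le_left (aMat F m s) (aMat F m s)
    rw [aMat_mul_self hs hsm, rank_dMat hsm] at h1
    exact h1

end Cfsg.Agent.Helper8.Sp2
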