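import Mathlib
import Cfsg.Agent.Helper7.QTyC

/-!
# Types of quadratic spaces in all characteristics (helper8), part A: field lemmas

If `t² + t + ζ` and `t² + t + ζ'` have no root in the finite field `F`, then there are `a, b` with
`2a + b = 1` and `a² + ab + ζ' b² = ζ` (an elliptic pair `(x', y')` with `Q y' = ζ'` can be replaced by
`(x', a x' + b y')` with `Q = ζ`): all anisotropic planes are isometric.
-/

set_option autoImplicit false

namespace Cfsg.Agent.Helper8.QuadType

variable {F : Type*} [Field F]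

/-- the Artin–Schreier map in characteristic two -/
def asMap (h2 : (2 : F) = 0) : F →+ F where
  toFun s := s ^ 2 + s
  map_zero' := by ring
  map_add' a b := by
    have : (a + b) ^ 2 + (a + b) = a ^ 2 + a + (b ^ 2 + b) + (a * b) * 2 := by ring
    rw [this, h2, mul_zero, add_zero]

theorem asMap_apply (h2 : (2 : F) = 0) (s : F) : asMap h2 s = s ^ 2 + s := rfl

theorem card_ker_asMap (h2 : (2 : F) = 0) : Nat.card (asMap h2).ker = 2 := by
  have h01 : (0 : F) ≠ 1 := zero_ne_one
  have hneg : (-1 : F) = 1 := by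
    have : (1 : F) + 1 = 0 := by rw [one_add_one_eq_two, h2]
    exact neg_eq_of_add_eq_zero_left this
  have h1 : (1 : F) ∈ (asMap h2).ker := by
    rw [AddMonoidHom.mem_ker, asMap_apply]
    have : (1 : F) ^ 2 + 1 = 2 := by ring
    rw [this, h2]
  rw [Nat.card_eq_two_iff]
  refine ⟨⟨0, (asMap h2).ker.zero_mem⟩, ⟨1, h1⟩, ?_, ?_⟩
  · intro h
    exact h01 (congrArg Subtype.val h)
  · ext ⟨s, hs⟩
    simp only [Set.mem_insert_iff, Set.mem_singleton_iff, Set.mem_univ, iff_true]
    rw [AddMonoidHom.mem_ker, asMap_apply] at hs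
    have h3 : s * (s + 1) = 0 := by rw [← hs]; ring
    rcases mul_eq_zero.1 h3 with h | h
    · left
      exact Subtype.ext h
    · right
      apply Subtype.ext
      change s = 1
      rw [← hneg]
      exact eq_neg_of_add_eq_zero_left h

theorem index_range_asMap [Fintype F] (h2 : (2 : F) = 0) : (asMap h2).range.index = 2 := by
  have h1 := AddSubgroup.card_mul_index (asMap h2).ker
  have h2' := AddSubgroup.card_mul_index (asMap h2).range
  rw [AddSubgroup.index_ker, card_ker_asMap] at h1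
  have hpos : 0 < Nat.card (asMap h2).range := Nat.card_pos
  rw [← h1, mul_comm 2] at h2'
  exact Nat.eq_of_mul_eq_mul_left hpos h2'

/-- characteristic two: two elements outside the image of the Artin–Schreier map differ by an element of the
image -/
theorem exists_root_add_char_two [Fintype F] (h2 : (2 : F) = 0) {ζ ζ' : F}
    (hζ : ∀ t : F, t ^ 2 + t + ζ ≠ 0) (hζ' : ∀ t : F, t ^ 2 + t + ζ' ≠ 0) :
    ∃ s : F, s ^ 2 + s + ζ' = ζ := by
  have hnot : ∀ c : F, (∀ t : F, t ^ 2 + t + c ≠ 0) → c ∉ (asMap h2).range := by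
    rintro c hc ⟨s, hs⟩
    apply hc s
    rw [asMap_apply] at hs
    rw [hs, ← two_mul, h2, zero_mul]
  have hmem := (AddSubgroup.add_mem_iff_of_index_two (index_range_asMap h2) (a := ζ) (b := ζ')).2
    (iff_of_false (hnot ζ hζ) (hnot ζ' hζ'))
  obtain ⟨s, hs⟩ := hmem
  refine ⟨s, ?_⟩
  rw [asMap_apply] at hs
  rw [hs]
  have : ζ + ζ' + ζ' = ζ + ζ' * 2 := by ring
  rw [this, h2, mul_zero, add_zero]

/-- odd characteristic: `t² + t + ζ` without root means `1 - 4ζ` is not a square -/
theorem not_isSquare_of_no_root (h2 : (2 : F) ≠ 0) {ζ : F} (hζ : ∀ t : F, t ^ 2 + t + ζ ≠ 0) :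
    ¬ IsSquare (1 - 4 * ζ) := by
  rintro ⟨d, hd⟩
  apply hζ ((d - 1) / 2)
  field_simp
  linear_combination (-1 : F) * hd

/-- **the key field lemma** -/
theorem exists_ab [Fintype F] {ζ ζ' : F} (hζ : ∀ t : F, t ^ 2 + t + ζ ≠ 0)
    (hζ' : ∀ t : F, t ^ 2 + t + ζ' ≠ 0) :
    ∃ a b : F, 2 * a + b = 1 ∧ a ^ 2 + a * b + ζ' * b ^ 2 = ζ := by
  by_cases h2 : (2 : F) = 0
  · obtain ⟨s, hs⟩ := exists_root_add_char_two h2 hζ hζ'
    refine ⟨s, 1, by rw [h2, zero_mul, zero_add], ?_⟩
    rw [← hs]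
    ring
  · have ha := not_isSquare_of_no_root h2 hζ'
    have hb := not_isSquare_of_no_root h2 hζ
    obtain ⟨s, hs⟩ := Cfsg.Agent.Helper7.QTy.exists_sq_mul_of_not_isSquare ha hb
    have hs0 : s ≠ 0 := by
      rintro rfl
      apply ha
      rw [hs]
      exact ⟨0, by ring⟩
    refine ⟨(1 - s⁻¹) / 2, s⁻¹, by field_simp; ring, ?_⟩
    field_simp
    linear_combination (-1 : F) * hs

end Cfsg.Agent.Helper8.QuadType
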