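import Mathlib
import Cfsg.Agent.Helper8.QuadTypeA
import Cfsg.Agent.Helper8.QuadForm
import Cfsg.Agent.Helper7.QTyE

/-!
# Types of quadratic spaces in all characteristics (helper8), part B

* congruent families and isometries between spaces with congruent bases;
* a space with an elliptic standard family is not of plus type;
* two non-degenerate quadratic spaces of the same even dimension and the same type over a finite field are
  isometric.
-/

set_option autoImplicit false

namespace Cfsg.Agent.Helper8.QuadType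

open Module Cfsg.Agent.Helper8.QuadForm Cfsg.Agent.Helper7.QTy Cfsg.Agent.Helper7.SpOrd
  Cfsg.Agent.Helper7.SpUn

variable {F : Type*} [Field F] {V : Type*} [AddCommGroup V] [Module F V]
  {V' : Type*} [AddCommGroup V'] [Module F V']

/-- two families with the same values of the quadratic forms and the same polar products -/
def Congr (Q : QuadraticForm F V) (Q' : QuadraticForm F V') {ι : Type*} (u : ι → V) (u' : ι → V') : Prop :=
  (∀ i, Q (u i) = Q' (u' i)) ∧ ∀ i j, QuadraticMap.polar Q (u i) (u j) = QuadraticMap.polar Q' (u' i) (u' j)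

theorem Congr.sum {Q : QuadraticForm F V} {Q' : QuadraticForm F V'} {ι₁ ι₂ : Type*} {u₁ : ι₁ → V}
    {u₁' : ι₁ → V'} {u₂ : ι₂ → V} {u₂' : ι₂ → V'} (h₁ : Congr Q Q' u₁ u₁') (h₂ : Congr Q Q' u₂ u₂')
    (hc : ∀ i j, QuadraticMap.polar Q (u₁ i) (u₂ j) = QuadraticMap.polar Q' (u₁' i) (u₂' j)) :
    Congr Q Q' (Sum.elim u₁ u₂) (Sum.elim u₁' u₂') := by
  refine ⟨?_, ?_⟩
  · rintro (i | i)
    · exact h₁.1 i
    · exact h₂.1 i
  · rintro (i | i) (j | j)
    · exact h₁.2 i j
    · exact hc i j
    · change QuadraticMap.polar Q (u₂ i) (u₁ j) = QuadraticMap.polar Q' (u₂' i) (u₁' j)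
      rw [QuadraticMap.polar_comm Q, QuadraticMap.polar_comm Q']
      exact hc j i
    · exact h₂.2 i j

/-- spaces with congruent bases are isometric -/
theorem exists_isometry_of_congr {Q : QuadraticForm F V} {Q' : QuadraticForm F V'} {ι : Type*}
    (b : Basis ι F V) (b' : Basis ι F V') (h : Congr Q Q' b b') :
    ∃ φ : V ≃ₗ[F] V', ∀ v, Q' (φ v) = Q v := by
  let φ : V ≃ₗ[F] V' := b.equiv b' (Equiv.refl ι)
  have hφ : ∀ i, φ (b i) = b' i := fun i => by
    change b.equiv b' (Equiv.refl ι) (b i) = b' i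
    rw [Basis.equiv_apply, Equiv.refl_apply]
  have hpol : ∀ x y, QuadraticMap.polar (Q'.comp φ.toLinearMap) x y = QuadraticMap.polar Q' (φ x) (φ y) := by
    intro x y
    unfold QuadraticMap.polar
    rw [QuadraticMap.comp_apply, QuadraticMap.comp_apply, QuadraticMap.comp_apply]
    simp only [LinearEquiv.coe_coe, map_add]
  have heq : Q = Q'.comp φ.toLinearMap := by
    refine eq_of_basis b Q (Q'.comp φ.toLinearMap) ?_ ?_
    · intro i
      rw [QuadraticMap.comp_apply, LinearEquiv.coe_coe, hφ]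
      exact h.1 i
    · intro i j
      rw [hpol, hφ, hφ]
      exact h.2 i j
  refine ⟨φ, fun v => ?_⟩
  rw [heq, QuadraticMap.comp_apply, LinearEquiv.coe_coe]

theorem congr_isHyp {Q : QuadraticForm F V} {Q' : QuadraticForm F V'} {k : ℕ} {e f : Fin k → V}
    {e' f' : Fin k → V'} (h : IsHyp Q e f) (h' : IsHyp Q' e' f') :
    Congr Q Q' (Sum.elim e f) (Sum.elim e' f') := by
  refine Congr.sum ⟨fun i => ?_, fun i j => ?_⟩ ⟨fun i => ?_, fun i j => ?_⟩ (fun i j => ?_)
  · rw [(h.1 i).1, (h'.1 i).1]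
  · rw [(h.2.2 i j).1, (h'.2.2 i j).1]
  · rw [(h.1 i).2, (h'.1 i).2]
  · rw [(h.2.2 i j).2, (h'.2.2 i j).2]
  · rw [h.2.1 i j, h'.2.1 i j]

theorem congr_pair {Q : QuadraticForm F V} {Q' : QuadraticForm F V'} {x y : V} {x' y' : V'}
    (hx : Q x = Q' x') (hy : Q y = Q' y')
    (hxy : QuadraticMap.polar Q x y = QuadraticMap.polar Q' x' y') : Congr Q Q' ![x, y] ![x', y'] := by
  refine ⟨fun i => ?_, fun i j => ?_⟩
  · fin_cases i
    · exact hx
    · exact hy
  · fin_cases i <;> fin_cases j
    · change QuadraticMap.polar Q x x = QuadraticMap.polar Q' x' x'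
      rw [polar_self', polar_self', hx]
    · exact hxy
    · change QuadraticMap.polar Q y x = QuadraticMap.polar Q' y' x'
      rw [QuadraticMap.polar_comm Q, QuadraticMap.polar_comm Q']
      exact hxy
    · change QuadraticMap.polar Q y y = QuadraticMap.polar Q' y' y'
      rw [polar_self', polar_self', hy]

/-- a vector perpendicular to a basis is zero -/
theorem eq_zero_of_perp_basis {Q : QuadraticForm F V} (hQ : Nondeg Q) {ι : Type*} (b : Basis ι F V) (u : V)
    (h : ∀ i, QuadraticMap.polar Q u (b i) = 0) : u = 0 := by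
  apply hQ u
  intro w
  have h0 : QuadraticMap.polarBilin Q u = 0 := by
    apply b.ext
    intro i
    rw [QuadraticMap.polarBilin_apply_apply, h i, LinearMap.zero_apply]
  have := congrArg (fun l => l w) h0
  simpa using this

/-- the binary form `c² + c d + ζ d²` is anisotropic -/
theorem norm_form_eq_zero {ζ : F} (hζ : ∀ t : F, t ^ 2 + t + ζ ≠ 0) {c d : F}
    (h : c ^ 2 + c * d + ζ * d ^ 2 = 0) : c = 0 ∧ d = 0 := by
  by_cases hd : d = 0
  · subst hd
    refine ⟨?_, rfl⟩
    have : c ^ 2 = 0 := by linear_combination h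
    exact pow_eq_zero_iff (two_ne_zero) |>.1 this
  · exfalso
    apply hζ (c / d)
    field_simp
    linear_combination h

theorem nd_top_of_nondeg {Q : QuadraticForm F V} (hQ : Nondeg Q) :
    ND (QuadraticMap.polarBilin Q) ⊤ := by
  intro u _ hu0
  by_contra hcon
  push Not at hcon
  exact hu0 (hQ u fun w => hcon w Submodule.mem_top)

/-- **a space with an elliptic standard family is not of plus type** -/
theorem not_hyp_of_elliptic [FiniteDimensional F V] {Q : QuadraticForm F V} (hQ : Nondeg Q) {k : ℕ}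
    {e f : Fin k → V} (h : IsHyp Q e f) (hV : finrank F V = 2 * k + 2) {x y : V}
    (hpx : ∀ i, QuadraticMap.polar Q (e i) x = 0 ∧ QuadraticMap.polar Q (f i) x = 0)
    (hpy : ∀ i, QuadraticMap.polar Q (e i) y = 0 ∧ QuadraticMap.polar Q (f i) y = 0)
    (hx : Q x = 1) (hxy : QuadraticMap.polar Q x y = 1) (hζ : ∀ t : F, t ^ 2 + t + Q y ≠ 0) :
    ¬ Hyp Q ⊤ := by
  intro hyp
  have hrefl := pB_refl Q
  have hVnd := nd_top_of_nondeg hQ
  obtain ⟨hW₁nd, hW₁d, hW₁y⟩ := fspan_props h
  set W₁ := hspan F (e, f) with hW₁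
  have hW₂nd := nd_perp_inf hrefl hW₁nd hVnd le_top
  have hW₂d := finrank_perp_inf hrefl hW₁nd (le_top : W₁ ≤ ⊤)
  have hsup := sup_perp_inf hrefl hW₁nd (le_top : W₁ ≤ ⊤)
  rw [finrank_top, hV, hW₁d] at hW₂d
  rw [← hsup] at hyp
  have hcancel := hyp_cancel hVnd _ W₁ _ rfl hW₁nd hW₂nd inf_le_left hW₁y hyp
  obtain ⟨U, hUle, hUts, hUd⟩ := hcancel
  have hU1 : 0 < finrank F ↥U := by omega
  obtain ⟨⟨u, huU⟩, hu0⟩ := Module.finrank_pos_iff_exists_ne_zero.1 hU1
  have hu0' : u ≠ 0 := fun h0 => hu0 (Subtype.ext h0)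
  have huQ : Q u = 0 := hUts u huU
  have huperp : u ∈ LinearMap.BilinForm.orthogonal (QuadraticMap.polarBilin Q) W₁ := (hUle huU).1
  have hue : ∀ i, QuadraticMap.polar Q u (e i) = 0 := by
    intro i
    have := mem_perp.1 huperp (e i) (Submodule.subset_span ⟨Sum.inl i, rfl⟩)
    rw [QuadraticMap.polar_comm]
    exact this
  have huf : ∀ i, QuadraticMap.polar Q u (f i) = 0 := by
    intro i
    have := mem_perp.1 huperp (f i) (Submodule.subset_span ⟨Sum.inr i, rfl⟩)
    rw [QuadraticMap.polar_comm]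
    exact this
  -- the components of `u` along `x, y`
  have hdet : 1 - 4 * Q y ≠ 0 := one_sub_four_ne_zero hζ
  set p := QuadraticMap.polar Q u x with hp
  set r := QuadraticMap.polar Q u y with hr
  set c := (r - 2 * Q y * p) / (1 - 4 * Q y) with hc
  set d := (p - 2 * r) / (1 - 4 * Q y) with hd
  have hcd1 : 2 * c + d = p := by
    rw [hc, hd, mul_div_assoc', ← add_div, div_eq_iff hdet]
    ring
  have hcd2 : c + 2 * Q y * d = r := by
    rw [hc, hd, mul_div_assoc', ← add_div, div_eq_iff hdet]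
    ring
  obtain ⟨b, hb⟩ := exists_elliptic_basis Q h hV hpx hpy hx hxy hζ
  have hxx : QuadraticMap.polar Q x x = 2 := by rw [polar_self', hx, mul_one]
  have hyy : QuadraticMap.polar Q y y = 2 * Q y := polar_self' Q y
  have hyx : QuadraticMap.polar Q y x = 1 := by rw [QuadraticMap.polar_comm]; exact hxy
  have hzero : u - (c • x + d • y) = 0 := by
    apply eq_zero_of_perp_basis hQ b
    intro i
    rw [hb, QuadraticMap.polar_sub_left, QuadraticMap.polar_add_left, QuadraticMap.polar_smul_left,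
      QuadraticMap.polar_smul_left]
    rcases i with (i | i) | i
    · change QuadraticMap.polar Q u (e i) - (c • QuadraticMap.polar Q x (e i) +
        d • QuadraticMap.polar Q y (e i)) = 0
      rw [hue, QuadraticMap.polar_comm Q x, QuadraticMap.polar_comm Q y, (hpx i).1, (hpy i).1]
      simp
    · change QuadraticMap.polar Q u (f i) - (c • QuadraticMap.polar Q x (f i) +
        d • QuadraticMap.polar Q y (f i)) = 0
      rw [huf, QuadraticMap.polar_comm Q x, QuadraticMap.polar_comm Q y, (hpx i).2, (hpy i).2]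
      simp
    · fin_cases i
      · change QuadraticMap.polar Q u x - (c • QuadraticMap.polar Q x x +
          d • QuadraticMap.polar Q y x) = 0
        rw [hxx, hyx, smul_eq_mul, smul_eq_mul, ← hp]
        linear_combination (-1 : F) * hcd1
      · change QuadraticMap.polar Q u y - (c • QuadraticMap.polar Q x y +
          d • QuadraticMap.polar Q y y) = 0
        rw [hxy, hyy, smul_eq_mul, smul_eq_mul, ← hr]
        linear_combination (-1 : F) * hcd2
  have hu : u = c • x + d • y := sub_eq_zero.1 hzero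
  have hQu : Q u = c ^ 2 + c * d + Q y * d ^ 2 := by
    rw [hu, QuadraticMap.map_add Q, QuadraticMap.map_smul, QuadraticMap.map_smul, hx,
      QuadraticMap.polar_smul_left, QuadraticMap.polar_smul_right, hxy]
    simp only [smul_eq_mul]
    ring
  rw [huQ] at hQu
  obtain ⟨hc0, hd0⟩ := norm_form_eq_zero hζ hQu.symm
  apply hu0'
  rw [hu, hc0, hd0, zero_smul, zero_smul, add_zero]

/-- a hyperbolic family spanning the space makes it of plus type -/
theorem hyp_of_isHyp [FiniteDimensional F V] {Q : QuadraticForm F V} {k : ℕ} {e f : Fin k → V}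
    (h : IsHyp Q e f) (hV : finrank F V = 2 * k) : Hyp Q ⊤ := by
  obtain ⟨-, hd, hy⟩ := fspan_props h
  have : hspan F (e, f) = ⊤ := by
    apply Submodule.eq_top_of_finrank_eq
    rw [hd, hV]
  rw [this] at hy
  exact hy

end Cfsg.Agent.Helper8.QuadType
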