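import Mathlib
import Cfsg.Agent.Helper8.QuadTypeB

/-!
# Types of quadratic spaces in all characteristics (helper8), part C

Two non-degenerate quadratic spaces of the same even dimension and the same type over a finite field are isometric
(abstract version and version for subspaces).
-/

set_option autoImplicit false

namespace Cfsg.Agent.Helper8.QuadType

open Module Cfsg.Agent.Helper8.QuadForm Cfsg.Agent.Helper7.QTy Cfsg.Agent.Helper7.SpOrd
  Cfsg.Agent.Helper7.SpUn

variable {F : Type*} [Field F] {V : Type*} [AddCommGroup V] [Module F V]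
  {V' : Type*} [AddCommGroup V'] [Module F V']

/-- **T1 (abstract)**: same even dimension and same type imply isometric -/
theorem exists_isometry_of_same_type [Fintype F] [FiniteDimensional F V] [FiniteDimensional F V']
    {Q : QuadraticForm F V} {Q' : QuadraticForm F V'} (hQ : Nondeg Q) (hQ' : Nondeg Q')
    (hd : finrank F V = finrank F V') (hev : Even (finrank F V)) (ht : Hyp Q ⊤ ↔ Hyp Q' ⊤) :
    ∃ φ : V ≃ₗ[F] V', ∀ v, Q' (φ v) = Q v := by
  classical
  obtain ⟨m, hm⟩ := hev
  rcases Nat.eq_zero_or_pos m with hm0 | hmpos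
  · -- dimension zero
    subst hm0
    have hsub : Subsingleton V := Module.finrank_zero_iff.1 (by omega)
    refine ⟨LinearEquiv.ofFinrankEq V V' hd, fun v => ?_⟩
    have hv : v = 0 := Subsingleton.elim _ _
    rw [hv, map_zero, QuadraticMap.map_zero, QuadraticMap.map_zero]
  obtain ⟨k, rfl⟩ : ∃ k, m = k + 1 := ⟨m - 1, by omega⟩
  have hV : finrank F V = 2 * (k + 1) := by omega
  have hV' : finrank F V' = 2 * (k + 1) := by omega
  rcases exists_std_family k hV Q hQ with ⟨e, f, h⟩ | ⟨e, f, x, y, h, hpx, hpy, hx, hxy, hζ⟩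
  · rcases exists_std_family k hV' Q' hQ' with ⟨e', f', h'⟩ | ⟨e', f', x', y', h', hpx', hpy', hx', hxy', hζ'⟩
    · obtain ⟨b, hb⟩ := h.exists_basis Q hV
      obtain ⟨b', hb'⟩ := h'.exists_basis Q' hV'
      refine exists_isometry_of_congr b b' ?_
      rw [hb, hb']
      exact congr_isHyp h h'
    · exfalso
      exact not_hyp_of_elliptic hQ' h' (by omega) hpx' hpy' hx' hxy' hζ' (ht.1 (hyp_of_isHyp h hV))
  · rcases exists_std_family k hV' Q' hQ' with ⟨e', f', h'⟩ | ⟨e', f', x', y', h', hpx', hpy', hx', hxy', hζ'⟩
    · exfalso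
      exact not_hyp_of_elliptic hQ h (by omega) hpx hpy hx hxy hζ (ht.2 (hyp_of_isHyp h' hV'))
    · obtain ⟨a, c, hac1, hac2⟩ := exists_ab hζ hζ'
      set y'' : V' := a • x' + c • y' with hy''
      have hxx' : QuadraticMap.polar Q' x' x' = 2 := by rw [polar_self', hx', mul_one]
      have hQy'' : Q' y'' = Q y := by
        rw [hy'', QuadraticMap.map_add Q', QuadraticMap.map_smul, QuadraticMap.map_smul, hx',
          QuadraticMap.polar_smul_left, QuadraticMap.polar_smul_right, hxy', ← hac2]
        simp only [smul_eq_mul]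
        ring
      have hxy'' : QuadraticMap.polar Q' x' y'' = 1 := by
        rw [hy'', QuadraticMap.polar_add_right, QuadraticMap.polar_smul_right,
          QuadraticMap.polar_smul_right, hxx', hxy']
        simp only [smul_eq_mul]
        linear_combination hac1
      have hpy'' : ∀ i, QuadraticMap.polar Q' (e' i) y'' = 0 ∧ QuadraticMap.polar Q' (f' i) y'' = 0 := by
        intro i
        constructor
        · rw [hy'', QuadraticMap.polar_add_right, QuadraticMap.polar_smul_right,
            QuadraticMap.polar_smul_right, (hpx' i).1, (hpy' i).1]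
          simp
        · rw [hy'', QuadraticMap.polar_add_right, QuadraticMap.polar_smul_right,
            QuadraticMap.polar_smul_right, (hpx' i).2, (hpy' i).2]
          simp
      have hζ'' : ∀ t : F, t ^ 2 + t + Q' y'' ≠ 0 := by
        rw [hQy'']
        exact hζ
      obtain ⟨b, hb⟩ := exists_elliptic_basis Q h (by omega) hpx hpy hx hxy hζ
      obtain ⟨b', hb'⟩ := exists_elliptic_basis Q' h' (by omega) hpx' hpy'' hx' hxy'' hζ''
      refine exists_isometry_of_congr b b' ?_
      rw [hb, hb']
      refine Congr.sum (congr_isHyp h h') (congr_pair (by rw [hx, hx']) hQy''.symm (by rw [hxy, hxy''])) ?_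
      rintro (i | i) j
      · fin_cases j
        · change QuadraticMap.polar Q (e i) x = QuadraticMap.polar Q' (e' i) x'
          rw [(hpx i).1, (hpx' i).1]
        · change QuadraticMap.polar Q (e i) y = QuadraticMap.polar Q' (e' i) y''
          rw [(hpy i).1, (hpy'' i).1]
      · fin_cases j
        · change QuadraticMap.polar Q (f i) x = QuadraticMap.polar Q' (f' i) x'
          rw [(hpx i).2, (hpx' i).2]
        · change QuadraticMap.polar Q (f i) y = QuadraticMap.polar Q' (f' i) y''
          rw [(hpy i).2, (hpy'' i).2]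

/-- plus type of a subspace in terms of the restricted form -/
theorem hyp_comp_subtype_iff (Q : QuadraticForm F V) (W : Submodule F V) :
    Hyp (Q.comp W.subtype) ⊤ ↔ Hyp Q W := by
  constructor
  · rintro ⟨U, -, hUts, hUd⟩
    refine ⟨U.map W.subtype, ?_, ?_, ?_⟩
    · rintro _ ⟨u, -, rfl⟩
      exact u.2
    · rintro _ ⟨u, hu, rfl⟩
      exact hUts u hu
    · rw [finrank_top] at hUd
      rw [← hUd]
      congr 1
      exact (LinearEquiv.finrank_eq (Submodule.equivMapOfInjective W.subtype W.injective_subtype U)).symm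
  · rintro ⟨U, hUW, hUts, hUd⟩
    refine ⟨U.comap W.subtype, le_top, ?_, ?_⟩
    · intro u hu
      exact hUts (u : V) hu
    · rw [finrank_top, ← hUd]
      congr 1
      exact LinearEquiv.finrank_eq (Submodule.comapSubtypeEquivOfLe hUW)

/-- **T1 (subspaces)**: two non-degenerate subspaces of the same even dimension and the same type are isometric -/
theorem exists_isometry_sub [Fintype F] [FiniteDimensional F V] {Q : QuadraticForm F V}
    {W W' : Submodule F V} (hW : ND (QuadraticMap.polarBilin Q) W) (hW' : ND (QuadraticMap.polarBilin Q) W')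
    (hd : finrank F ↥W = finrank F ↥W') (hev : Even (finrank F ↥W)) (ht : Hyp Q W ↔ Hyp Q W') :
    ∃ φ : W ≃ₗ[F] W', ∀ w : W, Q ((φ w : W') : V) = Q (w : V) := by
  have h := exists_isometry_of_same_type (nondeg_comp_of_nd hW) (nondeg_comp_of_nd hW') hd hev
    ((hyp_comp_subtype_iff Q W).trans (ht.trans (hyp_comp_subtype_iff Q W').symm))
  obtain ⟨φ, hφ⟩ := h
  exact ⟨φ, fun w => hφ w⟩

end Cfsg.Agent.Helper8.QuadType
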