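import Mathlib
import Cfsg.Agent.Helper8.QuadTypeC
import Cfsg.Agent.Helper8.OrthAniso

/-!
# Types of quadratic spaces in all characteristics (helper8), part D

The type of an orthogonal sum: for orthogonal non-degenerate subspaces `W₁, W₂` of even dimension,
`W₁ ⟂ W₂` is of plus type iff `W₁` and `W₂` have the same type.
-/

set_option autoImplicit false

namespace Cfsg.Agent.Helper8.QuadType

open Module Cfsg.Agent.Helper8.QuadForm Cfsg.Agent.Helper7.QTy Cfsg.Agent.Helper7.SpOrd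
  Cfsg.Agent.Helper7.SpUn

variable {F : Type*} [Field F] {V : Type*} [AddCommGroup V] [Module F V]

/-- **graph of an anti-isometry**: if `φ : W₁ ≃ W₂` satisfies `Q (φ w) = - Q w` and `W₁ ⟂ W₂`, then `W₁ ⊔ W₂` is of
plus type. -/
theorem hyp_of_antiisometry [FiniteDimensional F V] {Q : QuadraticForm F V} {W₁ W₂ : Submodule F V}
    (h₁ : ND (QuadraticMap.polarBilin Q) W₁)
    (h12 : W₂ ≤ LinearMap.BilinForm.orthogonal (QuadraticMap.polarBilin Q) W₁)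
    (φ : W₁ ≃ₗ[F] W₂) (hφ : ∀ w : W₁, Q ((φ w : W₂) : V) = - Q (w : V)) : Hyp Q (W₁ ⊔ W₂) := by
  have hrefl := pB_refl Q
  let ψ : W₁ →ₗ[F] V := W₁.subtype + W₂.subtype ∘ₗ φ.toLinearMap
  have hψ : ∀ w : W₁, ψ w = (w : V) + ((φ w : W₂) : V) := fun w => rfl
  have hdisj : Disjoint W₁ W₂ := disjoint_of_le_perp hrefl h₁ h12
  have hinj : Function.Injective ψ := by
    rw [← LinearMap.ker_eq_bot, LinearMap.ker_eq_bot']
    intro w hw
    rw [hψ] at hw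
    have h1 : (w : V) = -((φ w : W₂) : V) := eq_neg_of_add_eq_zero_left hw
    have h2 : (w : V) ∈ W₁ ⊓ W₂ := ⟨w.2, by rw [h1]; exact W₂.neg_mem (φ w).2⟩
    rw [hdisj.eq_bot] at h2
    exact Subtype.ext ((Submodule.mem_bot F).1 h2)
  refine ⟨LinearMap.range ψ, ?_, ?_, ?_⟩
  · rintro _ ⟨w, rfl⟩
    rw [hψ]
    exact Submodule.add_mem _ (Submodule.mem_sup_left w.2) (Submodule.mem_sup_right (φ w).2)
  · rintro _ ⟨w, rfl⟩
    rw [hψ, QuadraticMap.map_add Q, hφ]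
    have : QuadraticMap.polar Q (w : V) ((φ w : W₂) : V) = 0 := mem_perp.1 (h12 (φ w).2) w w.2
    rw [this]
    ring
  · rw [LinearMap.finrank_range_of_inj hinj, finrank_sup_of_le_perp hrefl h₁ h12,
      ← LinearEquiv.finrank_eq φ]
    ring

/-- an anisotropic plane is not of plus type -/
theorem not_hyp_of_aniso [FiniteDimensional F V] {Q : QuadraticForm F V} {A : Submodule F V} (hd : finrank F ↥A = 2)
    (han : ∀ a ∈ A, Q a = 0 → a = 0) : ¬ Hyp Q A := by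
  rintro ⟨U, hUA, hUts, hUd⟩
  have hU1 : 0 < finrank F ↥U := by omega
  obtain ⟨⟨u, huU⟩, hu0⟩ := Module.finrank_pos_iff_exists_ne_zero.1 hU1
  exact hu0 (Subtype.ext (han u (hUA huU) (hUts u huU)))

theorem nondegOn_of_nd {Q : QuadraticForm F V} {W : Submodule F V} (hW : ND (QuadraticMap.polarBilin Q) W) :
    NondegOn Q W := by
  intro w hw hall
  by_contra hw0
  obtain ⟨v, hv, hv'⟩ := hW w hw hw0
  exact hv' (hall v hv)

/-- an anisotropic plane over a finite field has an anti-isometry -/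
theorem exists_antiisometry_plane [Fintype F] [FiniteDimensional F V] {Q : QuadraticForm F V}
    {A : Submodule F V} (hA : ND (QuadraticMap.polarBilin Q) A) (hd : finrank F ↥A = 2)
    (han : ∀ a ∈ A, Q a = 0 → a = 0) :
    ∃ ψ : A ≃ₗ[F] A, ∀ a : A, Q ((ψ a : A) : V) = - Q (a : V) := by
  classical
  obtain ⟨x, hxA, y, hyA, hx, hxy, hζ⟩ := exists_elliptic_pair Q hd (nondegOn_of_nd hA) han
  set QA := Q.comp A.subtype with hQA
  have hnd : Nondeg QA := nondeg_comp_of_nd hA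
  set x' : A := ⟨x, hxA⟩ with hx'
  set y' : A := ⟨y, hyA⟩ with hy'
  have hx1 : QA x' = 1 := hx
  have hxy1 : QuadraticMap.polar QA x' y' = 1 := hxy
  have hζ1 : ∀ t : F, t ^ 2 + t + QA y' ≠ 0 := hζ
  have hli : LinearIndependent F ![x', y'] :=
    linearIndependent_of_dual QA _ _ (fun _ => 1 - 4 * QA y') (fun _ => one_sub_four_ne_zero hζ1)
      (dual_ell QA hx1 hxy1)
  obtain ⟨b, hb⟩ := exists_basis_of_li hli (by rw [Fintype.card_fin, hd])
  obtain ⟨g, hg⟩ := Cfsg.Agent.Helper8.OrthAniso.exists_similarity_plane QA hx1 hxy1 b hb hnd hζ1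
    (c := -1) (neg_ne_zero.2 one_ne_zero)
  refine ⟨g, fun a => ?_⟩
  have := hg a
  rw [neg_one_mul] at this
  exact this

/-- **two orthogonal anisotropic planes** span a space of plus type (all characteristics) -/
theorem hyp_aniso_sup [Fintype F] [FiniteDimensional F V] {Q : QuadraticForm F V}
    {A₁ A₂ : Submodule F V} (h₁ : ND (QuadraticMap.polarBilin Q) A₁) (h₂ : ND (QuadraticMap.polarBilin Q) A₂)
    (h12 : A₂ ≤ LinearMap.BilinForm.orthogonal (QuadraticMap.polarBilin Q) A₁)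
    (hd₁ : finrank F ↥A₁ = 2) (hd₂ : finrank F ↥A₂ = 2)
    (han₁ : ∀ a ∈ A₁, Q a = 0 → a = 0) (han₂ : ∀ a ∈ A₂, Q a = 0 → a = 0) : Hyp Q (A₁ ⊔ A₂) := by
  obtain ⟨φ, hφ⟩ := exists_isometry_sub h₁ h₂ (by rw [hd₁, hd₂]) (by rw [hd₁]; exact ⟨1, rfl⟩)
    (iff_of_false (not_hyp_of_aniso hd₁ han₁) (not_hyp_of_aniso hd₂ han₂))
  obtain ⟨ψ, hψ⟩ := exists_antiisometry_plane h₁ hd₁ han₁
  refine hyp_of_antiisometry h₁ h12 (ψ.trans φ) fun w => ?_
  rw [LinearEquiv.trans_apply, hφ, hψ]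

/-- **minus ⟂ minus = plus** (all characteristics) -/
theorem hyp_sup_of_not_hyp [Fintype F] [FiniteDimensional F V] {Q : QuadraticForm F V}
    (hV : ND (QuadraticMap.polarBilin Q) ⊤) {W₁ W₂ : Submodule F V}
    (h₁ : ND (QuadraticMap.polarBilin Q) W₁) (h₂ : ND (QuadraticMap.polarBilin Q) W₂)
    (h12 : W₂ ≤ LinearMap.BilinForm.orthogonal (QuadraticMap.polarBilin Q) W₁)
    (he₁ : Even (finrank F ↥W₁)) (he₂ : Even (finrank F ↥W₂)) (hn₁ : ¬ Hyp Q W₁) (hn₂ : ¬ Hyp Q W₂) :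
    Hyp Q (W₁ ⊔ W₂) := by
  have hrefl := pB_refl Q
  have hpos : ∀ W : Submodule F V, Even (finrank F ↥W) → ¬ Hyp Q W → ∃ h, finrank F ↥W = 2 * h + 2 := by
    intro W hev hn
    obtain ⟨k, hk⟩ := hev
    have hk0 : k ≠ 0 := by
      rintro rfl
      apply hn
      have : W = ⊥ := by
        rw [← Submodule.finrank_eq_zero (R := F)]
        omega
      rw [this]
      exact hyp_bot Q
    exact ⟨k - 1, by omega⟩
  obtain ⟨k₁, hk₁⟩ := hpos W₁ he₁ hn₁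
  obtain ⟨k₂, hk₂⟩ := hpos W₂ he₂ hn₂
  obtain ⟨H₁, A₁, hH₁W, hA₁W, hH₁nd, hH₁y, hH₁d, hA₁nd, hA₁d, hA₁H, hsum₁, han₁⟩ :=
    exists_hyp_aniso hV h₁ hk₁ hn₁
  obtain ⟨H₂, A₂, hH₂W, hA₂W, hH₂nd, hH₂y, hH₂d, hA₂nd, hA₂d, hA₂H, hsum₂, han₂⟩ :=
    exists_hyp_aniso hV h₂ hk₂ hn₂
  have hperp : ∀ x ∈ W₁, ∀ y ∈ W₂, QuadraticMap.polarBilin Q x y = 0 := fun x hx y hy =>
    mem_perp.mp (h12 hy) x hx
  have hA12 : A₂ ≤ LinearMap.BilinForm.orthogonal (QuadraticMap.polarBilin Q) A₁ := by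
    intro y hy
    rw [mem_perp]
    intro x hx
    exact hperp x (hA₁W hx) y (hA₂W hy)
  have hAy := hyp_aniso_sup hA₁nd hA₂nd hA12 hA₁d hA₂d han₁ han₂
  have hAnd : ND (QuadraticMap.polarBilin Q) (A₁ ⊔ A₂) := nd_sup hrefl hA₁nd hA₂nd hA12
  have hH₂A : A₁ ⊔ A₂ ≤ LinearMap.BilinForm.orthogonal (QuadraticMap.polarBilin Q) H₂ := by
    refine sup_le ?_ hA₂H
    intro y hy
    rw [mem_perp]
    intro x hx
    exact hrefl _ _ (hperp y (hA₁W hy) x (hH₂W hx))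
  have hy2 := hyp_sup hH₂nd hH₂A hH₂y hAy
  have hnd2 : ND (QuadraticMap.polarBilin Q) (H₂ ⊔ (A₁ ⊔ A₂)) := nd_sup hrefl hH₂nd hAnd hH₂A
  have hH₁rest : H₂ ⊔ (A₁ ⊔ A₂) ≤ LinearMap.BilinForm.orthogonal (QuadraticMap.polarBilin Q) H₁ := by
    refine sup_le ?_ (sup_le hA₁H ?_)
    · intro y hy
      rw [mem_perp]
      intro x hx
      exact hperp x (hH₁W hx) y (hH₂W hy)
    · intro y hy
      rw [mem_perp]
      intro x hx
      exact hperp x (hH₁W hx) y (hA₂W hy)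
  have hy3 := hyp_sup hH₁nd hH₁rest hH₁y hy2
  have heq : H₁ ⊔ (H₂ ⊔ (A₁ ⊔ A₂)) = W₁ ⊔ W₂ := by
    rw [← hsum₁, ← hsum₂]
    simp only [sup_left_comm, sup_comm]
  rwa [heq] at hy3

/-- **T2: the type of an orthogonal sum** -/
theorem hyp_sup_iff [Fintype F] [FiniteDimensional F V] {Q : QuadraticForm F V}
    (hV : ND (QuadraticMap.polarBilin Q) ⊤) {W₁ W₂ : Submodule F V}
    (h₁ : ND (QuadraticMap.polarBilin Q) W₁) (h₂ : ND (QuadraticMap.polarBilin Q) W₂)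
    (h12 : W₂ ≤ LinearMap.BilinForm.orthogonal (QuadraticMap.polarBilin Q) W₁)
    (he₁ : Even (finrank F ↥W₁)) (he₂ : Even (finrank F ↥W₂)) :
    Hyp Q (W₁ ⊔ W₂) ↔ (Hyp Q W₁ ↔ Hyp Q W₂) := by
  have hrefl := pB_refl Q
  have h21 : W₁ ≤ LinearMap.BilinForm.orthogonal (QuadraticMap.polarBilin Q) W₂ := by
    intro x hx
    rw [mem_perp]
    intro y hy
    exact hrefl _ _ (mem_perp.1 (h12 hy) x hx)
  constructor
  · intro hy
    constructor
    · intro hy₁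
      exact hyp_cancel hV _ W₁ W₂ rfl h₁ h₂ h12 hy₁ hy
    · intro hy₂
      rw [sup_comm] at hy
      exact hyp_cancel hV _ W₂ W₁ rfl h₂ h₁ h21 hy₂ hy
  · intro hiff
    by_cases hy₁ : Hyp Q W₁
    · exact hyp_sup h₁ h12 hy₁ (hiff.1 hy₁)
    · exact hyp_sup_of_not_hyp hV h₁ h₂ h12 he₁ he₂ hy₁ (fun h => hy₁ (hiff.2 h))

end Cfsg.Agent.Helper8.QuadType
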