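import Mathlib
import Cfsg.Prelude.Def_GeometricClasses
import Cfsg.Agent.Lead.AschOmB
import Cfsg.Agent.Helper8.QuadTypeD

/-!
# ASCH-OM round 2 (helper8): the type calculus on `(Fin n → F) → F`, all characteristics

* `isometric_of_same_type`: non-degenerate subspaces of the same even dimension and the same type are isometric;
* `plus_sup_iff`: the orthogonal sum of two non-degenerate subspaces of even dimension is of plus type iff the
  summands have the same type.
-/

set_option autoImplicit false

namespace Cfsg.Agent.Helper8.AschOm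

open Cfsg Cfsg.Geo Cfsg.Agent.Lead.AschOm Cfsg.Agent.Helper8.QuadForm Cfsg.Agent.Helper8.QuadType
  Cfsg.Agent.Helper7.QTy Cfsg.Agent.Helper7.SpOrd Module
open scoped MatrixGroups Matrix

variable {n : ℕ} {F : Type*} [Field F]

theorem nd_iff_isNondegenerateOn (Q : (Fin n → F) → F) (hQ : IsNondegenerateQuadraticForm Q)
    (W : Submodule F (Fin n → F)) :
    ND (QuadraticMap.polarBilin (toQF Q hQ)) W ↔ IsNondegenerateOn (QuadraticMap.polar Q) W := by
  constructor
  · intro h w hw hw0
    obtain ⟨v, hv, hv'⟩ := h w hw hw0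
    refine ⟨⟨v, hv, ?_⟩, ⟨v, hv, hv'⟩⟩
    rw [QuadraticMap.polar_comm]
    exact hv'
  · intro h u hu hu0
    obtain ⟨-, ⟨v, hv, hv'⟩⟩ := h u hu hu0
    exact ⟨v, hv, hv'⟩

theorem hyp_iff_isPlusTypeOn (Q : (Fin n → F) → F) (hQ : IsNondegenerateQuadraticForm Q)
    (W : Submodule F (Fin n → F)) : Hyp (toQF Q hQ) W ↔ IsPlusTypeOn Q W := Iff.rfl

theorem le_orth_iff_areOrthogonalFor (Q : (Fin n → F) → F) (hQ : IsNondegenerateQuadraticForm Q)
    (W W' : Submodule F (Fin n → F)) :
    W' ≤ LinearMap.BilinForm.orthogonal (QuadraticMap.polarBilin (toQF Q hQ)) W ↔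
      AreOrthogonalFor (QuadraticMap.polar Q) W W' := by
  constructor
  · intro h u hu v hv
    exact mem_perp.1 (h hv) u hu
  · intro h v hv
    rw [mem_perp]
    intro u hu
    exact h u hu v hv

/-- **T1**: two non-degenerate subspaces of the same even dimension and of the same type are isometric. -/
theorem isometric_of_same_type [Fintype F] (Q : (Fin n → F) → F) (hQ : IsNondegenerateQuadraticForm Q)
    {W W' : Submodule F (Fin n → F)} (hW : IsNondegenerateOn (QuadraticMap.polar Q) W)
    (hW' : IsNondegenerateOn (QuadraticMap.polar Q) W') (hd : finrank F W = finrank F W')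
    (hev : Even (finrank F W)) (ht : IsPlusTypeOn Q W ↔ IsPlusTypeOn Q W') : AreIsometricFor Q W W' :=
  exists_isometry_sub (Q := toQF Q hQ) ((nd_iff_isNondegenerateOn Q hQ W).2 hW)
    ((nd_iff_isNondegenerateOn Q hQ W').2 hW') hd hev ht

/-- **T2**: the type of an orthogonal sum of two non-degenerate subspaces of even dimension. -/
theorem plus_sup_iff [Fintype F] (Q : (Fin n → F) → F) (hQ : IsNondegenerateQuadraticForm Q)
    {W W' : Submodule F (Fin n → F)} (hW : IsNondegenerateOn (QuadraticMap.polar Q) W)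
    (hW' : IsNondegenerateOn (QuadraticMap.polar Q) W')
    (horth : AreOrthogonalFor (QuadraticMap.polar Q) W W') (hev : Even (finrank F W))
    (hev' : Even (finrank F W')) :
    IsPlusTypeOn Q (W ⊔ W') ↔ (IsPlusTypeOn Q W ↔ IsPlusTypeOn Q W') :=
  hyp_sup_iff (Q := toQF Q hQ) (nd_top_of_nondeg (toQF_nondeg Q hQ))
    ((nd_iff_isNondegenerateOn Q hQ W).2 hW) ((nd_iff_isNondegenerateOn Q hQ W').2 hW')
    ((le_orth_iff_areOrthogonalFor Q hQ W W').2 horth) hev hev'

/-- T2 for a decomposition of the whole space -/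
theorem plus_top_iff [Fintype F] (Q : (Fin n → F) → F) (hQ : IsNondegenerateQuadraticForm Q)
    {W W' : Submodule F (Fin n → F)} (hW : IsNondegenerateOn (QuadraticMap.polar Q) W)
    (hW' : IsNondegenerateOn (QuadraticMap.polar Q) W')
    (horth : AreOrthogonalFor (QuadraticMap.polar Q) W W') (htop : W ⊔ W' = ⊤)
    (hev : Even (finrank F W)) (hev' : Even (finrank F W')) :
    IsPlusTypeOn Q ⊤ ↔ (IsPlusTypeOn Q W ↔ IsPlusTypeOn Q W') := by
  rw [← htop]
  exact plus_sup_iff Q hQ hW hW' horth hev hev'

/-- in a space of plus type, two orthogonal complementary non-degenerate subspaces of the same even dimension are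
isometric -/
theorem isometric_halves_of_plus [Fintype F] (Q : (Fin n → F) → F) (hQ : IsNondegenerateQuadraticForm Q)
    (hplus : IsPlusTypeOn Q ⊤) {W W' : Submodule F (Fin n → F)}
    (hW : IsNondegenerateOn (QuadraticMap.polar Q) W) (hW' : IsNondegenerateOn (QuadraticMap.polar Q) W')
    (horth : AreOrthogonalFor (QuadraticMap.polar Q) W W') (htop : W ⊔ W' = ⊤)
    (hd : finrank F W = finrank F W') (hev : Even (finrank F W)) : AreIsometricFor Q W W' :=
  isometric_of_same_type Q hQ hW hW' hd hev
    ((plus_top_iff Q hQ hW hW' horth htop hev (hd ▸ hev)).1 hplus)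

/-- in a space of minus type, two orthogonal complementary non-degenerate subspaces of even dimension have
different types -/
theorem types_differ_of_minus [Fintype F] (Q : (Fin n → F) → F) (hQ : IsNondegenerateQuadraticForm Q)
    (hminus : ¬ IsPlusTypeOn Q ⊤) {W W' : Submodule F (Fin n → F)}
    (hW : IsNondegenerateOn (QuadraticMap.polar Q) W) (hW' : IsNondegenerateOn (QuadraticMap.polar Q) W')
    (horth : AreOrthogonalFor (QuadraticMap.polar Q) W W') (htop : W ⊔ W' = ⊤)
    (hev : Even (finrank F W)) (hev' : Even (finrank F W')) :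
    ¬ (IsPlusTypeOn Q W ↔ IsPlusTypeOn Q W') := fun h =>
  hminus ((plus_top_iff Q hQ hW hW' horth htop hev hev').2 h)

end Cfsg.Agent.Helper8.AschOm
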