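import Mathlib
import Cfsg.Agent.Helper8.QuadTypeD
import Cfsg.Agent.Helper8.WittQuad

/-!
# Types of quadratic spaces (helper8), part E: odd characteristic, lines, planes, global isometries

* the perpendicular of a non-singular vector inside a non-degenerate subspace;
* the plane spanned by two perpendicular non-singular vectors: it is of plus type iff `-(Q x * Q x')` is a square;
* subspaces that are mapped onto each other by a global isometry (by Witt's theorem: isometric subspaces).
-/

set_option autoImplicit false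

namespace Cfsg.Agent.Helper8.QuadType

open Module Cfsg.Agent.Helper8.QuadForm Cfsg.Agent.Helper8.WittQuad Cfsg.Agent.Helper7.QTy
  Cfsg.Agent.Helper7.SpOrd

variable {F : Type*} [Field F] {V : Type*} [AddCommGroup V] [Module F V]

/-- the vectors of `W` perpendicular to `x` -/
abbrev perpIn (Q : QuadraticForm F V) (x : V) (W : Submodule F V) : Submodule F V :=
  LinearMap.BilinForm.orthogonal (QuadraticMap.polarBilin Q) (Submodule.span F {x}) ⊓ W

theorem mem_orth_line {Q : QuadraticForm F V} {x v : V} :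
    v ∈ LinearMap.BilinForm.orthogonal (QuadraticMap.polarBilin Q) (Submodule.span F {x}) ↔
      QuadraticMap.polar Q x v = 0 := by
  rw [mem_perp]
  constructor
  · intro h
    exact h x (Submodule.mem_span_singleton_self x)
  · intro h w hw
    obtain ⟨c, rfl⟩ := Submodule.mem_span_singleton.1 hw
    rw [map_smul, LinearMap.smul_apply, QuadraticMap.polarBilin_apply_apply, h, smul_zero]

theorem mem_perpIn {Q : QuadraticForm F V} {x v : V} {W : Submodule F V} :
    v ∈ perpIn Q x W ↔ QuadraticMap.polar Q x v = 0 ∧ v ∈ W := by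
  unfold perpIn
  rw [Submodule.mem_inf, mem_orth_line]

theorem nd_line (h2 : (2 : F) ≠ 0) {Q : QuadraticForm F V} {x : V} (hx : Q x ≠ 0) :
    ND (QuadraticMap.polarBilin Q) (Submodule.span F {x}) := by
  intro u hu hu0
  obtain ⟨c, rfl⟩ := Submodule.mem_span_singleton.1 hu
  have hc : c ≠ 0 := by
    rintro rfl
    exact hu0 (zero_smul F x)
  refine ⟨x, Submodule.mem_span_singleton_self x, ?_⟩
  rw [map_smul, LinearMap.smul_apply, QuadraticMap.polarBilin_apply_apply, polar_self', smul_eq_mul]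
  exact mul_ne_zero hc (mul_ne_zero h2 hx)

theorem ne_zero_of_Q_ne_zero {Q : QuadraticForm F V} {x : V} (hx : Q x ≠ 0) : x ≠ 0 := by
  rintro rfl
  exact hx (QuadraticMap.map_zero Q)

/-- the perpendicular of a non-singular vector of `W` inside `W` -/
theorem perpIn_props [FiniteDimensional F V] (h2 : (2 : F) ≠ 0) {Q : QuadraticForm F V} {x : V}
    (hx : Q x ≠ 0) {W : Submodule F V} (hW : ND (QuadraticMap.polarBilin Q) W) (hxW : x ∈ W) :
    ND (QuadraticMap.polarBilin Q) (perpIn Q x W) ∧ finrank F ↥(perpIn Q x W) + 1 = finrank F ↥W ∧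
      Submodule.span F {x} ⊔ perpIn Q x W = W := by
  have hrefl := pB_refl Q
  have hU := nd_line h2 hx
  have hUW : Submodule.span F {x} ≤ W := (Submodule.span_singleton_le_iff_mem x W).2 hxW
  refine ⟨nd_perp_inf hrefl hU hW hUW, ?_, sup_perp_inf hrefl hU hUW⟩
  have h1 : finrank F ↥(Submodule.span F {x}) + finrank F ↥(perpIn Q x W) = finrank F ↥W :=
    finrank_perp_inf hrefl hU hUW
  rw [finrank_span_singleton (ne_zero_of_Q_ne_zero hx)] at h1
  omega

/-- **the plane of two perpendicular non-singular vectors** -/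
theorem plane_props [FiniteDimensional F V] (h2 : (2 : F) ≠ 0) {Q : QuadraticForm F V} {x x' : V}
    (hxx' : QuadraticMap.polar Q x x' = 0) (hx : Q x ≠ 0) (hx' : Q x' ≠ 0) :
    ND (QuadraticMap.polarBilin Q) (Submodule.span F {x} ⊔ Submodule.span F {x'}) ∧
      finrank F ↥(Submodule.span F {x} ⊔ Submodule.span F {x'}) = 2 ∧
      (Hyp Q (Submodule.span F {x} ⊔ Submodule.span F {x'}) ↔ IsSquare (-(Q x * Q x'))) := by
  have hrefl := pB_refl Q
  have hU := nd_line h2 hx
  have hU' := nd_line h2 hx'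
  have h12 : Submodule.span F {x'} ≤
      LinearMap.BilinForm.orthogonal (QuadraticMap.polarBilin Q) (Submodule.span F {x}) := by
    rw [Submodule.span_singleton_le_iff_mem, mem_orth_line]
    exact hxx'
  have hfr : finrank F ↥(Submodule.span F {x} ⊔ Submodule.span F {x'}) = 2 := by
    rw [finrank_sup_of_le_perp hrefl hU h12, finrank_span_singleton (ne_zero_of_Q_ne_zero hx),
      finrank_span_singleton (ne_zero_of_Q_ne_zero hx')]
  have hQst : ∀ s t : F, Q (s • x + t • x') = s ^ 2 * Q x + t ^ 2 * Q x' := by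
    intro s t
    rw [QuadraticMap.map_add Q, QuadraticMap.map_smul, QuadraticMap.map_smul,
      QuadraticMap.polar_smul_left, QuadraticMap.polar_smul_right, hxx']
    simp only [smul_eq_mul]
    ring
  refine ⟨nd_sup hrefl hU hU' h12, hfr, ?_⟩
  constructor
  · rintro ⟨U, hUle, hUts, hUd⟩
    have hU1 : 0 < finrank F ↥U := by omega
    obtain ⟨⟨u, huU⟩, hu0⟩ := Module.finrank_pos_iff_exists_ne_zero.1 hU1
    have hu0' : u ≠ 0 := fun h0 => hu0 (Subtype.ext h0)
    obtain ⟨y, hy, y', hy', rfl⟩ := Submodule.mem_sup.1 (hUle huU)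
    obtain ⟨s, rfl⟩ := Submodule.mem_span_singleton.1 hy
    obtain ⟨t, rfl⟩ := Submodule.mem_span_singleton.1 hy'
    have hQ0 : s ^ 2 * Q x + t ^ 2 * Q x' = 0 := by
      rw [← hQst]
      exact hUts _ huU
    have ht : t ≠ 0 := by
      rintro rfl
      have hs2 : s ^ 2 * Q x = 0 := by linear_combination hQ0
      have hs : s = 0 := by
        rcases mul_eq_zero.1 hs2 with h | h
        · exact pow_eq_zero_iff (two_ne_zero) |>.1 h
        · exact absurd h hx
      apply hu0'
      rw [hs, zero_smul, zero_smul, add_zero]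
    refine ⟨Q x * s / t, ?_⟩
    rw [div_mul_div_comm, eq_div_iff (mul_ne_zero ht ht)]
    linear_combination (-(Q x)) * hQ0
  · rintro ⟨r, hr⟩
    set u : V := r • x + Q x • x' with hu
    have hu0 : u ≠ 0 := by
      intro h0
      have h1 : QuadraticMap.polar Q u x' = 0 := by rw [h0, QuadraticMap.polar_zero_left]
      rw [hu, QuadraticMap.polar_add_left, QuadraticMap.polar_smul_left, QuadraticMap.polar_smul_left,
        hxx', polar_self', smul_zero, zero_add, smul_eq_mul] at h1
      exact mul_ne_zero hx (mul_ne_zero h2 hx') h1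
    refine ⟨Submodule.span F {u}, ?_, ?_, ?_⟩
    · rw [Submodule.span_singleton_le_iff_mem]
      exact Submodule.add_mem _
        (Submodule.mem_sup_left (Submodule.smul_mem _ _ (Submodule.mem_span_singleton_self x)))
        (Submodule.mem_sup_right (Submodule.smul_mem _ _ (Submodule.mem_span_singleton_self x')))
    · intro w hw
      obtain ⟨c, rfl⟩ := Submodule.mem_span_singleton.1 hw
      rw [QuadraticMap.map_smul, hu, hQst]
      have : r ^ 2 * Q x + Q x ^ 2 * Q x' = 0 := by linear_combination (-(Q x)) * hr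
      rw [this, smul_zero]
    · rw [finrank_span_singleton hu0, hfr]

/-- a global isometry maps plus type subspaces to plus type subspaces -/
theorem hyp_map_iso [FiniteDimensional F V] {Q : QuadraticForm F V} (g : V ≃ₗ[F] V) (hg : ∀ v, Q (g v) = Q v)
    {W : Submodule F V} (hy : Hyp Q W) : Hyp Q (W.map (g : V →ₗ[F] V)) := by
  obtain ⟨U, hUW, hUts, hUd⟩ := hy
  refine ⟨U.map (g : V →ₗ[F] V), Submodule.map_mono hUW, ?_, ?_⟩
  · rintro _ ⟨u, hu, rfl⟩
    rw [LinearEquiv.coe_coe, hg]
    exact hUts u hu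
  · rw [LinearEquiv.finrank_map_eq, LinearEquiv.finrank_map_eq]
    exact hUd

theorem hyp_map_iso_iff [FiniteDimensional F V] {Q : QuadraticForm F V} (g : V ≃ₗ[F] V)
    (hg : ∀ v, Q (g v) = Q v) (W : Submodule F V) : Hyp Q (W.map (g : V →ₗ[F] V)) ↔ Hyp Q W := by
  constructor
  · intro h
    have hg' : ∀ v, Q (g.symm v) = Q v := fun v => by
      have := hg (g.symm v)
      rw [LinearEquiv.apply_symm_apply] at this
      exact this.symm
    have := hyp_map_iso g.symm hg' h
    rw [← Submodule.map_comp] at this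
    have hid : ((g.symm : V →ₗ[F] V) ∘ₗ (g : V →ₗ[F] V)) = LinearMap.id := by
      ext v
      simp
    rw [hid, Submodule.map_id] at this
    exact this
  · exact hyp_map_iso g hg

/-- a global isometry maps `x^⊥ ∩ W` onto `(g x)^⊥ ∩ g W` -/
theorem map_perpIn {Q : QuadraticForm F V} (g : V ≃ₗ[F] V) (hg : ∀ v, Q (g v) = Q v) (x : V)
    (W : Submodule F V) :
    (perpIn Q x W).map (g : V →ₗ[F] V) = perpIn Q (g x) (W.map (g : V →ₗ[F] V)) := by
  ext v
  constructor
  · intro hv
    obtain ⟨w, hw, rfl⟩ := Submodule.mem_map.1 hv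
    have hw' := mem_perpIn.1 hw
    apply mem_perpIn.2
    refine ⟨?_, Submodule.mem_map_of_mem hw'.2⟩
    rw [LinearEquiv.coe_coe, polar_isometry Q g hg]
    exact hw'.1
  · intro hv
    obtain ⟨hv1, hv2⟩ := mem_perpIn.1 hv
    obtain ⟨w, hw, rfl⟩ := Submodule.mem_map.1 hv2
    refine Submodule.mem_map.2 ⟨w, ?_, rfl⟩
    apply mem_perpIn.2
    refine ⟨?_, hw⟩
    rw [LinearEquiv.coe_coe, polar_isometry Q g hg] at hv1
    exact hv1

/-- subspaces mapped onto each other by a global isometry are isometric -/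
theorem exists_isometry_of_map {Q : QuadraticForm F V} (g : V ≃ₗ[F] V) (hg : ∀ v, Q (g v) = Q v)
    {W W' : Submodule F V} (h : W.map (g : V →ₗ[F] V) = W') :
    ∃ φ : W ≃ₗ[F] W', ∀ w : W, Q ((φ w : W') : V) = Q (w : V) := by
  refine ⟨(g.submoduleMap W).trans (LinearEquiv.ofEq _ _ h), fun w => ?_⟩
  rw [LinearEquiv.trans_apply, LinearEquiv.coe_ofEq_apply, LinearEquiv.submoduleMap_apply]
  exact hg w

theorem nondegenerate_of_nd_top {Q : QuadraticForm F V} (hV : ND (QuadraticMap.polarBilin Q) ⊤) :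
    (QuadraticMap.polarBilin Q).Nondegenerate := by
  rw [nondeg_iff]
  intro v hv
  by_contra hv0
  obtain ⟨w, -, hw⟩ := hV v Submodule.mem_top hv0
  exact hw (hv w)

/-- isometric subspaces are mapped onto each other by a global isometry (Witt) -/
theorem exists_global_of_isometry [FiniteDimensional F V] {Q : QuadraticForm F V}
    (hV : ND (QuadraticMap.polarBilin Q) ⊤) {W W' : Submodule F V} (φ : W ≃ₗ[F] W')
    (hφ : ∀ w : W, Q ((φ w : W') : V) = Q (w : V)) :
    ∃ g : V ≃ₗ[F] V, (∀ v, Q (g v) = Q v) ∧ W.map (g : V →ₗ[F] V) = W' ∧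
      ∀ w : W, g (w : V) = ((φ w : W') : V) := by
  obtain ⟨g, hg, hgφ⟩ := witt Q (nondegenerate_of_nd_top hV) W W' φ hφ
  refine ⟨g, hg, ?_, hgφ⟩
  apply le_antisymm
  · rintro _ ⟨w, hw, rfl⟩
    rw [LinearEquiv.coe_coe, hgφ ⟨w, hw⟩]
    exact (φ ⟨w, hw⟩).2
  · intro w' hw'
    refine ⟨(φ.symm ⟨w', hw'⟩ : W), (φ.symm ⟨w', hw'⟩).2, ?_⟩
    rw [LinearEquiv.coe_coe, hgφ, LinearEquiv.apply_symm_apply]

end Cfsg.Agent.Helper8.QuadType
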