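import Mathlib
import Cfsg.Agent.Helper8.QuadTypeE

/-!
# Types of quadratic spaces (helper8), part F: orthogonal sums of two odd-dimensional halves (odd characteristic)

For orthogonal non-degenerate subspaces `W, W'` of the same odd dimension over a finite field of odd order:
`W ⟂ W'` is of plus type iff (`W ≅ W'` iff `-1` is a square).
-/

set_option autoImplicit false

namespace Cfsg.Agent.Helper8.QuadType

open Module Cfsg.Agent.Helper8.QuadForm Cfsg.Agent.Helper8.WittQuad Cfsg.Agent.Helper7.QTy
  Cfsg.Agent.Helper7.SpOrd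

variable {F : Type*} [Field F] {V : Type*} [AddCommGroup V] [Module F V]

theorem exists_nonsingular_in [FiniteDimensional F V] {Q : QuadraticForm F V} {W : Submodule F V}
    (hW : ND (QuadraticMap.polarBilin Q) W) (hpos : 0 < finrank F ↥W) : ∃ x ∈ W, Q x ≠ 0 := by
  obtain ⟨⟨w, hwW⟩, hw0⟩ := Module.finrank_pos_iff_exists_ne_zero.1 hpos
  have hw0' : w ≠ 0 := fun h => hw0 (Subtype.ext h)
  obtain ⟨v, hvW, hv⟩ := hW w hwW hw0'
  rw [QuadraticMap.polarBilin_apply_apply] at hv
  by_cases h1 : Q w = 0
  · by_cases h2 : Q v = 0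
    · refine ⟨w + v, W.add_mem hwW hvW, ?_⟩
      rw [QuadraticMap.map_add Q, h1, h2, zero_add, zero_add]
      exact hv
    · exact ⟨v, hvW, h2⟩
  · exact ⟨w, hwW, h1⟩

/-- **core**: decomposition along a pair of non-singular vectors -/
theorem hyp_sup_of_pair [Fintype F] [FiniteDimensional F V] (h2 : (2 : F) ≠ 0) {Q : QuadraticForm F V}
    (hV : ND (QuadraticMap.polarBilin Q) ⊤) {W W' : Submodule F V}
    (hW : ND (QuadraticMap.polarBilin Q) W) (hW' : ND (QuadraticMap.polarBilin Q) W')
    (h12 : W' ≤ LinearMap.BilinForm.orthogonal (QuadraticMap.polarBilin Q) W)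
    (hd : finrank F ↥W = finrank F ↥W') (hodd : Odd (finrank F ↥W)) {x x' : V} (hxW : x ∈ W)
    (hx'W' : x' ∈ W') (hx : Q x ≠ 0) (hx' : Q x' ≠ 0) :
    Hyp Q (W ⊔ W') ↔
      (IsSquare (-(Q x * Q x')) ↔ (Hyp Q (perpIn Q x W) ↔ Hyp Q (perpIn Q x' W'))) := by
  have hrefl := pB_refl Q
  obtain ⟨hW₁nd, hW₁d, hW₁sup⟩ := perpIn_props h2 hx hW hxW
  obtain ⟨hW₁'nd, hW₁'d, hW₁'sup⟩ := perpIn_props h2 hx' hW' hx'W'
  have hcross : ∀ u ∈ W, ∀ v ∈ W', QuadraticMap.polar Q u v = 0 := fun u hu v hv =>
    mem_perp.1 (h12 hv) u hu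
  have hxx' : QuadraticMap.polar Q x x' = 0 := hcross x hxW x' hx'W'
  obtain ⟨hPnd, hPd, hPiff⟩ := plane_props h2 hxx' hx hx'
  have hW₁le : perpIn Q x W ≤ W := inf_le_right
  have hW₁'le : perpIn Q x' W' ≤ W' := inf_le_right
  have h11 : perpIn Q x' W' ≤
      LinearMap.BilinForm.orthogonal (QuadraticMap.polarBilin Q) (perpIn Q x W) := by
    intro v hv
    rw [mem_perp]
    intro u hu
    exact hcross u (hW₁le hu) v (hW₁'le hv)
  have hSnd := nd_sup hrefl hW₁nd hW₁'nd h11
  have hev₁ : Even (finrank F ↥(perpIn Q x W)) := by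
    obtain ⟨k, hk⟩ := hodd
    exact ⟨k, by omega⟩
  have hev₁' : Even (finrank F ↥(perpIn Q x' W')) := by
    obtain ⟨k, hk⟩ := hodd
    exact ⟨k, by omega⟩
  have hT2a := hyp_sup_iff hV hW₁nd hW₁'nd h11 hev₁ hev₁'
  have hSperp : perpIn Q x W ⊔ perpIn Q x' W' ≤
      LinearMap.BilinForm.orthogonal (QuadraticMap.polarBilin Q)
        (Submodule.span F {x} ⊔ Submodule.span F {x'}) := by
    have key : ∀ v : V, QuadraticMap.polar Q x v = 0 → QuadraticMap.polar Q x' v = 0 →
        v ∈ LinearMap.BilinForm.orthogonal (QuadraticMap.polarBilin Q)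
          (Submodule.span F {x} ⊔ Submodule.span F {x'}) := by
      intro v h1 h2'
      rw [mem_perp]
      intro p hp
      obtain ⟨y, hy, y', hy', rfl⟩ := Submodule.mem_sup.1 hp
      obtain ⟨s, rfl⟩ := Submodule.mem_span_singleton.1 hy
      obtain ⟨t, rfl⟩ := Submodule.mem_span_singleton.1 hy'
      rw [QuadraticMap.polarBilin_apply_apply, QuadraticMap.polar_add_left,
        QuadraticMap.polar_smul_left, QuadraticMap.polar_smul_left, h1, h2', smul_zero, smul_zero,
        add_zero]
    refine sup_le ?_ ?_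
    · intro v hv
      obtain ⟨hv1, hv2⟩ := mem_perpIn.1 hv
      refine key v hv1 ?_
      rw [QuadraticMap.polar_comm]
      exact hcross v hv2 x' hx'W'
    · intro v hv
      obtain ⟨hv1, hv2⟩ := mem_perpIn.1 hv
      exact key v (hcross x hxW v hv2) hv1
  have hevS : Even (finrank F ↥(perpIn Q x W ⊔ perpIn Q x' W')) := by
    rw [finrank_sup_of_le_perp hrefl hW₁nd h11]
    exact hev₁.add hev₁'
  have hT2b := hyp_sup_iff hV hPnd hSnd hSperp (by rw [hPd]; exact ⟨1, rfl⟩) hevS
  have heq : (Submodule.span F {x} ⊔ Submodule.span F {x'}) ⊔ (perpIn Q x W ⊔ perpIn Q x' W') =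
      W ⊔ W' := by
    rw [sup_sup_sup_comm, hW₁sup, hW₁'sup]
  rw [heq] at hT2b
  rw [hT2b, hPiff, hT2a]

theorem isSquare_neg_sq_iff {a : F} (ha : a ≠ 0) : IsSquare (-(a * a)) ↔ IsSquare (-1 : F) := by
  constructor
  · rintro ⟨r, hr⟩
    refine ⟨r / a, ?_⟩
    rw [div_mul_div_comm, eq_div_iff (mul_ne_zero ha ha)]
    linear_combination hr
  · rintro ⟨r, hr⟩
    refine ⟨r * a, ?_⟩
    linear_combination (a * a) * hr

/-- a non-zero non-square `u` in a finite field of odd characteristic: `-u` is a square iff `-1` is not -/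
theorem isSquare_neg_iff_of_not_isSquare [Fintype F] (h2 : (2 : F) ≠ 0) {u : F} (hu0 : u ≠ 0)
    (hu : ¬ IsSquare u) : IsSquare (-u) ↔ ¬ IsSquare (-1 : F) := by
  classical
  have hchar : ringChar F ≠ 2 := by
    intro h
    apply h2
    have := CharP.cast_eq_zero F (ringChar F)
    rw [h] at this
    exact_mod_cast this
  have h1 : quadraticChar F u = -1 := quadraticChar_neg_one_iff_not_isSquare.2 hu
  have hneg : (-u) ≠ 0 := neg_ne_zero.2 hu0
  have hm1 : (-1 : F) ≠ 0 := neg_ne_zero.2 one_ne_zero
  have h3 : quadraticChar F (-u) = quadraticChar F (-1) * quadraticChar F u := by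
    rw [← map_mul, neg_one_mul]
  rw [← quadraticChar_one_iff_isSquare hneg, h3, h1,
    ← quadraticChar_neg_one_iff_not_isSquare (a := (-1 : F))]
  rcases quadraticChar_dichotomy hm1 with h | h <;> rw [h] <;> norm_num

/-- **T3 (abstract)**: two orthogonal non-degenerate subspaces of the same odd dimension: the sum is of plus type
iff (they are isometric iff `-1` is a square). -/
theorem hyp_sup_odd_halves_iff [Fintype F] [FiniteDimensional F V] (h2 : (2 : F) ≠ 0)
    {Q : QuadraticForm F V} (hV : ND (QuadraticMap.polarBilin Q) ⊤) {W W' : Submodule F V}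
    (hW : ND (QuadraticMap.polarBilin Q) W) (hW' : ND (QuadraticMap.polarBilin Q) W')
    (h12 : W' ≤ LinearMap.BilinForm.orthogonal (QuadraticMap.polarBilin Q) W)
    (hd : finrank F ↥W = finrank F ↥W') (hodd : Odd (finrank F ↥W)) :
    Hyp Q (W ⊔ W') ↔
      ((∃ φ : W ≃ₗ[F] W', ∀ w : W, Q ((φ w : W') : V) = Q (w : V)) ↔ IsSquare (-1 : F)) := by
  classical
  have hrefl := pB_refl Q
  have hQnd := nondegenerate_of_nd_top hV
  have hpos : 0 < finrank F ↥W := hodd.pos
  have hpos' : 0 < finrank F ↥W' := hd ▸ hpos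
  by_cases hiso : ∃ φ : W ≃ₗ[F] W', ∀ w : W, Q ((φ w : W') : V) = Q (w : V)
  · -- the isometric case
    obtain ⟨φ, hφ⟩ := hiso
    obtain ⟨g, hg, hmap, -⟩ := exists_global_of_isometry hV φ hφ
    obtain ⟨x, hxW, hx⟩ := exists_nonsingular_in hW hpos
    have hgxW' : g x ∈ W' := by
      rw [← hmap]
      exact Submodule.mem_map_of_mem hxW
    have hgx : Q (g x) ≠ 0 := by rw [hg]; exact hx
    have hcore := hyp_sup_of_pair h2 hV hW hW' h12 hd hodd hxW hgxW' hx hgx
    have htypes : Hyp Q (perpIn Q x W) ↔ Hyp Q (perpIn Q (g x) W') := by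
      have := map_perpIn g hg x W
      rw [hmap] at this
      rw [← this]
      exact (hyp_map_iso_iff g hg _).symm
    rw [hcore, hg, isSquare_neg_sq_iff hx]
    constructor
    · intro h
      exact ⟨fun _ => h.2 htypes, fun _ => ⟨φ, hφ⟩⟩
    · intro h
      exact ⟨fun _ => htypes, fun _ => h.1 ⟨φ, hφ⟩⟩
  · -- the non-isometric case
    have hgoal : ∀ p : Prop, (p ↔ ¬ IsSquare (-1 : F)) →
        (p ↔ ((∃ φ : W ≃ₗ[F] W', ∀ w : W, Q ((φ w : W') : V) = Q (w : V)) ↔ IsSquare (-1 : F))) := by
      intro p hp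
      rw [hp]
      constructor
      · intro h
        exact ⟨fun h' => absurd h' hiso, fun h' => absurd h' h⟩
      · intro h h'
        exact hiso (h.2 h')
    apply hgoal
    by_cases hfr : finrank F ↥W = 1
    · -- lines
      obtain ⟨x, hxW, hx⟩ := exists_nonsingular_in hW hpos
      obtain ⟨x', hx'W', hx'⟩ := exists_nonsingular_in hW' hpos'
      have hcore := hyp_sup_of_pair h2 hV hW hW' h12 hd hodd hxW hx'W' hx hx'
      obtain ⟨-, hW₁d, -⟩ := perpIn_props h2 hx hW hxW
      obtain ⟨-, hW₁'d, -⟩ := perpIn_props h2 hx' hW' hx'W'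
      have hb : perpIn Q x W = ⊥ := by
        rw [← Submodule.finrank_eq_zero (R := F)]
        omega
      have hb' : perpIn Q x' W' = ⊥ := by
        rw [← Submodule.finrank_eq_zero (R := F)]
        omega
      have htypes : Hyp Q (perpIn Q x W) ↔ Hyp Q (perpIn Q x' W') := by
        rw [hb, hb']
      have hnsq : ¬ IsSquare (Q x * Q x') := by
        rintro ⟨r, hr⟩
        apply hiso
        set c : F := r / Q x' with hc
        have hc0 : c ≠ 0 := by
          rw [hc]
          refine div_ne_zero ?_ hx'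
          rintro rfl
          rw [mul_zero] at hr
          exact mul_ne_zero hx hx' hr
        have hQc : Q x = Q (c • x') := by
          rw [QuadraticMap.map_smul, hc, smul_eq_mul, div_mul_div_comm, ← hr]
          field_simp
        have hx0 := ne_zero_of_Q_ne_zero hx
        have hcx' : c • x' ≠ 0 := smul_ne_zero hc0 (ne_zero_of_Q_ne_zero hx')
        obtain ⟨g, hg, -, hgx⟩ := witt_step Q hQnd (⊥ : Submodule F V) hQc
          (by
            intro h hh
            rw [(Submodule.mem_bot F).1 hh, QuadraticMap.polar_zero_right,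
              QuadraticMap.polar_zero_right])
          (fun h => hx0 ((Submodule.mem_bot F).1 h)) (fun h => hcx' ((Submodule.mem_bot F).1 h))
        refine exists_isometry_of_map g hg ?_
        have hWs : W = Submodule.span F {x} := by
          symm
          apply Submodule.eq_of_le_of_finrank_eq ((Submodule.span_singleton_le_iff_mem x W).2 hxW)
          rw [finrank_span_singleton hx0, hfr]
        have hW's : W' = Submodule.span F {c • x'} := by
          symm
          apply Submodule.eq_of_le_of_finrank_eq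
            ((Submodule.span_singleton_le_iff_mem _ W').2 (W'.smul_mem c hx'W'))
          rw [finrank_span_singleton hcx', ← hd, hfr]
        rw [hWs, hW's, Submodule.map_span, Set.image_singleton, LinearEquiv.coe_coe, hgx]
      rw [hcore]
      have h3 := isSquare_neg_iff_of_not_isSquare h2 (mul_ne_zero hx hx') hnsq
      constructor
      · intro h
        exact h3.1 (h.2 htypes)
      · intro h
        exact ⟨fun _ => htypes, fun _ => h3.2 h⟩
    · -- dimension at least three
      have h2le : 2 ≤ finrank F ↥W := by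
        obtain ⟨k, hk⟩ := hodd
        omega
      obtain ⟨x, hxW, hx1⟩ := exists_repr_in hW h2le (1 : F)
      obtain ⟨x', hx'W', hx'1⟩ := exists_repr_in hW' (hd ▸ h2le) (1 : F)
      have hx : Q x ≠ 0 := by rw [hx1]; exact one_ne_zero
      have hx' : Q x' ≠ 0 := by rw [hx'1]; exact one_ne_zero
      have hcore := hyp_sup_of_pair h2 hV hW hW' h12 hd hodd hxW hx'W' hx hx'
      obtain ⟨hW₁nd, hW₁d, hW₁sup⟩ := perpIn_props h2 hx hW hxW
      obtain ⟨hW₁'nd, hW₁'d, hW₁'sup⟩ := perpIn_props h2 hx' hW' hx'W'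
      have hev₁ : Even (finrank F ↥(perpIn Q x W)) := by
        obtain ⟨k, hk⟩ := hodd
        exact ⟨k, by omega⟩
      have htypes : ¬ (Hyp Q (perpIn Q x W) ↔ Hyp Q (perpIn Q x' W')) := by
        intro ht
        apply hiso
        obtain ⟨ψ, hψ⟩ := exists_isometry_sub hW₁nd hW₁'nd (by omega) hev₁ ht
        obtain ⟨g₁, hg₁, hmap₁, hgψ⟩ := exists_global_of_isometry hV ψ hψ
        have hxx : QuadraticMap.polar Q x x ≠ 0 := by
          rw [polar_self', hx1, mul_one]
          exact h2
        have hx'x' : QuadraticMap.polar Q x' x' ≠ 0 := by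
          rw [polar_self', hx'1, mul_one]
          exact h2
        obtain ⟨g₂, hg₂, hfix, hg₂x⟩ := witt_step Q hQnd (perpIn Q x' W') (u := g₁ x) (w := x')
          (by rw [hg₁, hx1, hx'1])
          (by
            intro h hh
            have hh' := hh
            rw [← hmap₁] at hh'
            obtain ⟨w, hw, rfl⟩ := Submodule.mem_map.1 hh'
            rw [LinearEquiv.coe_coe, polar_isometry Q g₁ hg₁, (mem_perpIn.1 hw).1]
            exact ((mem_perpIn.1 hh).1).symm)
          (by
            intro h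
            rw [← hmap₁] at h
            obtain ⟨w, hw, hwx⟩ := Submodule.mem_map.1 h
            rw [LinearEquiv.coe_coe] at hwx
            have := g₁.injective hwx
            rw [this] at hw
            exact hxx (mem_perpIn.1 hw).1)
          (by
            intro h
            exact hx'x' (mem_perpIn.1 h).1)
        have hg : ∀ v, Q ((g₁.trans g₂) v) = Q v := fun v => by
          rw [LinearEquiv.trans_apply, hg₂, hg₁]
        refine exists_isometry_of_map (g₁.trans g₂) hg ?_
        have hmap₂ : (perpIn Q x' W').map (g₂ : V →ₗ[F] V) = perpIn Q x' W' := by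
          apply le_antisymm
          · rintro _ ⟨w, hw, rfl⟩
            rw [LinearEquiv.coe_coe, hfix w hw]
            exact hw
          · intro w hw
            exact ⟨w, hw, by rw [LinearEquiv.coe_coe, hfix w hw]⟩
        have hcomp : ((g₁.trans g₂ : V ≃ₗ[F] V) : V →ₗ[F] V) =
            (g₂ : V →ₗ[F] V) ∘ₗ (g₁ : V →ₗ[F] V) := by
          ext v
          simp
        rw [← hW₁sup, ← hW₁'sup, Submodule.map_sup, hcomp, Submodule.map_comp, Submodule.map_comp,
          hmap₁, hmap₂, Submodule.map_span, Submodule.map_span, Set.image_singleton, Set.image_singleton,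
          LinearEquiv.coe_coe, LinearEquiv.coe_coe, hg₂x]
      rw [hcore, hx1, hx'1, one_mul]
      constructor
      · intro h hsq
        exact htypes (h.1 hsq)
      · intro h
        exact ⟨fun hsq => absurd hsq h, fun ht => absurd ht htypes⟩

end Cfsg.Agent.Helper8.QuadType
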