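import Cfsg.Agent.Helper8.SpEvenD
import Cfsg.Agent.Helper7.SympTransitive

/-!
# Symplectic groups in characteristic two: the symplectic group does not preserve a quadratic form
-/

set_option autoImplicit false
set_option linter.unusedSectionVars false

namespace Cfsg.Agent.Helper8.SpEven

open Cfsg Cfsg.Geo Matrix

variable {F : Type*} [Field F]

theorem two_eq_zero_of_not_odd_card [Fintype F] (h : ¬ Odd (Fintype.card F)) : (2 : F) = 0 := by
  obtain ⟨p, hp⟩ := CharP.exists F
  have hpp : p.Prime := by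
    rcases CharP.char_is_prime_or_zero F p with h1 | h1
    · exact h1
    · exfalso
      subst h1
      have : CharZero F := CharP.charP_to_charZero F
      exact not_finite F
  have hdvd : p ∣ Fintype.card F := by
    have : Fact p.Prime := ⟨hpp⟩
    rw [← Nat.card_eq_fintype_card]
    obtain ⟨n, hn⟩ := FiniteField.card F p
    rw [Nat.card_eq_fintype_card, hn.2]
    exact dvd_pow_self p n.ne_zero
  have hp2 : p = 2 := by
    rcases hpp.eq_two_or_odd' with h2 | hodd
    · exact h2
    · exfalso
      apply h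
      obtain ⟨n, hn⟩ := FiniteField.card F p
      rw [hn.2]
      exact hodd.pow
  subst hp2
  exact CharTwo.two_eq_zero

theorem sympTransvection_mul_self {m : ℕ} (h2 : (2 : F) = 0) (w : Fin m ⊕ Fin m → F) :
    sympTransvection m w (1 : F) * sympTransvection m w 1 = 1 := by
  rw [Cfsg.Agent.Helper7.Symp.sympTransvection_mul, one_add_one_eq_two, h2]
  unfold sympTransvection
  rw [zero_smul, add_zero]

/-- The transvection `x ↦ x + f(x, w) w` as an element of the general linear group, in
characteristic two. -/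
noncomputable def tv {m : ℕ} (h2 : (2 : F) = 0) (w : Fin m ⊕ Fin m → F) :
    GL (Fin m ⊕ Fin m) F :=
  ⟨sympTransvection m w 1, sympTransvection m w 1, sympTransvection_mul_self h2 w,
    sympTransvection_mul_self h2 w⟩

theorem tv_mulVec {m : ℕ} (h2 : (2 : F) = 0) (w x : Fin m ⊕ Fin m → F) :
    ((tv h2 w : GL (Fin m ⊕ Fin m) F) : Matrix _ _ F) *ᵥ x = x + sympForm m F x w • w := by
  show sympTransvection m w 1 *ᵥ x = _
  rw [Cfsg.Agent.Helper7.Symp.sympTransvection_mulVec, one_mul]

theorem tv_mulVec_mulVec {m : ℕ} (h2 : (2 : F) = 0) (w x : Fin m ⊕ Fin m → F) :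
    ((tv h2 w : GL (Fin m ⊕ Fin m) F) : Matrix (Fin m ⊕ Fin m) (Fin m ⊕ Fin m) F) *ᵥ
      (((tv h2 w : GL (Fin m ⊕ Fin m) F) : Matrix (Fin m ⊕ Fin m) (Fin m ⊕ Fin m) F) *ᵥ x) = x := by
  rw [Matrix.mulVec_mulVec]
  have : ((tv h2 w : GL (Fin m ⊕ Fin m) F) : Matrix (Fin m ⊕ Fin m) (Fin m ⊕ Fin m) F) *
      ((tv h2 w : GL (Fin m ⊕ Fin m) F) : Matrix (Fin m ⊕ Fin m) (Fin m ⊕ Fin m) F) = 1 :=
    sympTransvection_mul_self h2 w
  rw [this, Matrix.one_mulVec]

theorem tv_mem_spGL {m : ℕ} (h2 : (2 : F) = 0) (w : Fin m ⊕ Fin m → F) : tv h2 w ∈ spGL m F := by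
  rw [mem_spGL_iff]
  intro u v
  have hf := isSymplecticForm_sympForm (F := F) m
  have b := hf.bilinear
  rw [tv_mulVec, tv_mulVec]
  simp only [b.add_left, b.add_right, b.smul_left, b.smul_right, hf.alternating, mul_zero,
    add_zero]
  rw [hf.skew w v]
  ring

/-- For `m ≥ 2` the symplectic group `Sp_2m(F)` is not contained in the similarity group of a
quadratic form polarising to the symplectic form. -/
theorem not_spGL_le_quadSimilarityGroup {m : ℕ} (hm : 2 ≤ m) (h2 : (2 : F) = 0)
    {Q : (Fin m ⊕ Fin m → F) → F} (hsmul : ∀ (c : F) (v : Fin m ⊕ Fin m → F), Q (c • v) = c ^ 2 * Q v)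
    (hpol : ∀ u v, QuadraticMap.polar Q u v = sympForm m F u v) :
    ¬ spGL m F ≤ quadSimilarityGroup Q := by
  intro hle
  have hf := isSymplecticForm_sympForm (F := F) m
  have b := hf.bilinear
  have hadd : ∀ u v, Q (u + v) = Q u + Q v + sympForm m F u v := by
    intro u v
    have := hpol u v
    unfold QuadraticMap.polar at this
    linear_combination this
  have hQ0 : Q 0 = 0 := by
    have := hsmul 0 0
    rw [smul_zero] at this
    rw [this]
    ring
  -- some vector has non-zero value
  have hexQ : ∃ x, Q x ≠ 0 := by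
    by_contra hcon
    push Not at hcon
    have e0 : (Pi.single (Sum.inl ⟨0, by omega⟩) 1 : Fin m ⊕ Fin m → F) ≠ 0 := by
      intro h
      have := congrFun h (Sum.inl ⟨0, by omega⟩)
      simp at this
    obtain ⟨x, hx⟩ := (hf.nondegenerate _ e0).1
    apply hx
    rw [← hpol]
    unfold QuadraticMap.polar
    rw [hcon, hcon, hcon]
    ring
  -- every non-zero vector has value one
  have hone : ∀ w : Fin m ⊕ Fin m → F, w ≠ 0 → Q w = 1 := by
    intro w hw
    obtain ⟨c, hc⟩ := hle (tv_mem_spGL h2 w)
    have hinv := tv_mulVec_mulVec h2 w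
    obtain ⟨x0, hx0⟩ := hexQ
    have hc2 : (c : F) * c = 1 := by
      have h1 := hc (((tv h2 w : GL (Fin m ⊕ Fin m) F) :
        Matrix (Fin m ⊕ Fin m) (Fin m ⊕ Fin m) F) *ᵥ x0)
      rw [hinv, hc x0] at h1
      have : ((c : F) * c - 1) * Q x0 = 0 := by linear_combination -h1
      rcases mul_eq_zero.mp this with h | h
      · linear_combination h
      · exact absurd h hx0
    have hc1 : (c : F) = 1 := by
      have : ((c : F) - 1) * ((c : F) - 1) = 0 := by
        have e : ((c : F) - 1) * ((c : F) - 1) = (c : F) * c - 2 * c + 1 := by ring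
        rw [e, hc2, h2]
        have : (1 : F) + 1 = 0 := by rw [one_add_one_eq_two, h2]
        linear_combination this
      have := mul_self_eq_zero.mp this
      linear_combination this
    obtain ⟨x, hx⟩ := (hf.nondegenerate w hw).1
    set a := sympForm m F x w with ha
    have hxw : sympForm m F (a⁻¹ • x) w = 1 := by
      rw [b.smul_left, ← ha, inv_mul_cancel₀ hx]
    have h3 := hc (a⁻¹ • x)
    rw [tv_mulVec, hxw, one_smul, hadd, hxw, hc1, one_mul] at h3
    have : Q w = -1 := by linear_combination h3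
    rw [this, neg_eq_self_of_two h2]
  -- contradiction on two orthogonal basis vectors
  set e0 : Fin m ⊕ Fin m → F := Pi.single (Sum.inl ⟨0, by omega⟩) 1 with he0
  set e1 : Fin m ⊕ Fin m → F := Pi.single (Sum.inl ⟨1, by omega⟩) 1 with he1
  have h0 : e0 ≠ 0 := by
    intro h
    have := congrFun h (Sum.inl ⟨0, by omega⟩)
    simp [he0] at this
  have h1 : e1 ≠ 0 := by
    intro h
    have := congrFun h (Sum.inl ⟨1, by omega⟩)
    simp [he1] at this
  have h01 : e0 + e1 ≠ 0 := by
    intro h
    have := congrFun h (Sum.inl ⟨0, by omega⟩)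
    simp [he0, he1] at this
  have hforth : sympForm m F e0 e1 = 0 := by
    unfold sympForm
    rw [he0, he1, Matrix.mulVec_single_one, single_one_dotProduct]
    simp [Matrix.J]
  have := hadd e0 e1
  rw [hone _ h0, hone _ h1, hone _ h01, hforth, add_zero, one_add_one_eq_two, h2] at this
  exact one_ne_zero this

end Cfsg.Agent.Helper8.SpEven
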