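import Cfsg.Agent.Helper8.SpEvenH
import Cfsg.Agent.Helper1.AschSpBase

/-!
# ASCH-COMP-Sp, second round: tensor decompositions in characteristic 2

If an irreducible group `H` of isometries of a symplectic form `f` in characteristic `2` preserves a
tensor decomposition `f ≅ B ⊗ G`, then `B` and `G` are both alternating and `H` fixes the quadratic
form `x ↦ Φ_{β ⊗ G}(x, x)`, `β` the upper triangular half of `B`, which polarises to `f`.
-/

set_option autoImplicit false
set_option linter.unusedSectionVars false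

namespace Cfsg.Agent.Helper8.AschSp

open Cfsg Cfsg.Geo Matrix Cfsg.Agent.Helper8.SpEven Cfsg.Agent.Helper1.AschSp
open scoped Kronecker

variable {n : ℕ} {F : Type*} [Field F]

/-- a non-alternating symmetric tensor factor makes the group reducible (no parity hypothesis) -/
theorem tensor_even_reducible [Fintype F] (h2 : (2 : F) = 0) {f : (Fin n → F) → (Fin n → F) → F}
    (hf : IsSymplecticForm f) {H : Subgroup (GL (Fin n) F)} (hH : ActsIrreducibly (matrixSet H))
    (hfix : FixesForm (matrixSet H) f) {d e : ℕ} (he : 2 ≤ e) (hd : 1 ≤ d)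
    (eqv : Fin n ≃ Fin e × Fin d) (P : GL (Fin n) F) (hHt : H ≤ tensorProductSubgroup e d eqv P)
    (B : Matrix (Fin e) (Fin e) F) (G : Matrix (Fin d) (Fin d) F) (hB : IsUnit B.det)
    (hG : IsUnit G.det)
    (hform : ∀ x y : Fin e × Fin d → F,
      f ((P : Matrix (Fin n) (Fin n) F) *ᵥ (x ∘ eqv)) ((P : Matrix (Fin n) (Fin n) F) *ᵥ (y ∘ eqv)) =
        formOfGram id (B ⊗ₖ G) x y) (hdiag : ∃ i, B i i ≠ 0) : False := by
  classical
  have hform' : ∀ x y, f (tauLin eqv P x) (tauLin eqv P y) = formOfGram id (B ⊗ₖ G) x y := hform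
  have hne : Nonempty (Fin e) := ⟨⟨0, by omega⟩⟩
  have hnd : Nonempty (Fin d) := ⟨⟨0, by omega⟩⟩
  have hB0 : B ≠ 0 := by
    rintro rfl
    rw [Matrix.det_zero] at hB
    exact not_isUnit_zero hB
  have hG0 : G ≠ 0 := by
    rintro rfl
    rw [Matrix.det_zero] at hG
    exact not_isUnit_zero hG
  have hS : ∀ i j a b, B i j * G a b = B j i * G b a := by
    intro i j a b
    have h1 := hform' (Pi.single (i, a) 1) (Pi.single (j, b) 1)
    have h1' := hform' (Pi.single (j, b) 1) (Pi.single (i, a) 1)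
    rw [formOfGram_single, Matrix.kroneckerMap_apply] at h1 h1'
    rw [hf.skew, h1', neg_eq_self_of_two h2] at h1
    exact h1.symm
  obtain ⟨hBs, hGs⟩ := symm_of_kron_symm h2 hB0 hG0 hS
  obtain ⟨i₀, hi₀⟩ := hdiag
  set N := gramN h2 hBs with hNdef
  let W' : Submodule F (Fin e × Fin d → F) :=
    { carrier := {x | ∀ c, N (fun i => x (i, c)) = 0}
      add_mem' := by
        intro x y hx hy c
        have : (fun i => (x + y) (i, c)) = (fun i => x (i, c)) + (fun i => y (i, c)) := rfl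
        rw [this, map_add, hx c, hy c, add_zero]
      zero_mem' := fun c => by
        have : (fun i => (0 : Fin e × Fin d → F) (i, c)) = 0 := rfl
        rw [this, map_zero]
      smul_mem' := by
        intro r x hx c
        have : (fun i => (r • x) (i, c)) = r • (fun i => x (i, c)) := rfl
        rw [this, gramN_smul, hx c, mul_zero] }
  have hW'mem : ∀ x, x ∈ W' ↔ ∀ c, N (fun i => x (i, c)) = 0 := fun x => Iff.rfl
  let W := W'.map (tauLin eqv P)
  have hWinv : ∀ s ∈ matrixSet H, W.map (Matrix.toLin' s) ≤ W := by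
    rintro s ⟨h, hh, rfl⟩ _ ⟨_, ⟨x, hx, rfl⟩, rfl⟩
    obtain ⟨a, b, hab⟩ := exists_kron_of_mem (hHt hh)
    rw [Matrix.toLin'_apply, hab]
    refine ⟨_, ?_, rfl⟩
    set A : Matrix (Fin e) (Fin e) F := (a : Matrix (Fin e) (Fin e) F) with hA
    set Bb : Matrix (Fin d) (Fin d) F := (b : Matrix (Fin d) (Fin d) F) with hBb
    have hiso : ∀ x y, formOfGram id (B ⊗ₖ G) ((A ⊗ₖ Bb) *ᵥ x) ((A ⊗ₖ Bb) *ᵥ y) =
        formOfGram id (B ⊗ₖ G) x y := by
      intro x y
      rw [← hform', ← hab, ← hab, hfix _ ⟨h, hh, rfl⟩, hform']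
    have hmat : (A ⊗ₖ Bb)ᵀ * (B ⊗ₖ G) * (A ⊗ₖ Bb) = B ⊗ₖ G :=
      gram_ext (fun x y => by rw [← formOfGram_mulVec, hiso])
    have hmat' : (Aᵀ * B * A) ⊗ₖ (Bbᵀ * G * Bb) = B ⊗ₖ G := by
      rw [Matrix.mul_kronecker_mul, Matrix.mul_kronecker_mul, Matrix.kroneckerMap_transpose]
      exact hmat
    obtain ⟨a₁, b₁, hG1⟩ : ∃ a b, G a b ≠ 0 := by
      by_contra hall
      push Not at hall
      exact hG0 (Matrix.ext hall)
    set μ : F := (Bbᵀ * G * Bb) a₁ b₁ with hμdef
    have hentry : ∀ i j, (Aᵀ * B * A) i j * μ = B i j * G a₁ b₁ := by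
      intro i j
      have := congrFun (congrFun hmat' (i, a₁)) (j, b₁)
      rwa [Matrix.kroneckerMap_apply, Matrix.kroneckerMap_apply] at this
    have hN : ∀ z : Fin e → F, μ * N (A *ᵥ z) = G a₁ b₁ * N z := by
      intro z
      rw [hNdef, gramN_apply, gramN_apply, formOfGram_mulVec]
      unfold formOfGram
      rw [Finset.mul_sum, Finset.mul_sum]
      refine Finset.sum_congr rfl fun i _ => ?_
      rw [Finset.mul_sum, Finset.mul_sum]
      refine Finset.sum_congr rfl fun j _ => ?_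
      have := hentry i j
      simp only [id]
      linear_combination (z i * z j) * this
    have hμ : μ ≠ 0 := by
      intro h0
      have := hN (Pi.single i₀ 1)
      rw [h0, zero_mul, hNdef, gramN_single] at this
      exact mul_ne_zero hG1 hi₀ this.symm
    show ∀ c, N (fun i => ((A ⊗ₖ Bb) *ᵥ x) (i, c)) = 0
    intro c
    rw [kron_mulVec_col, map_sum]
    refine Finset.sum_eq_zero fun c' _ => ?_
    rw [hNdef, gramN_smul, ← hNdef]
    have := hN (fun j => x (j, c'))
    rw [(hW'mem x).mp hx c', mul_zero] at this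
    rw [(mul_eq_zero.mp this).resolve_left hμ, mul_zero]
  let c₀ : Fin d := ⟨0, by omega⟩
  rcases hH W hWinv with hW | hW
  · obtain ⟨x₀, hx₀, hNx₀⟩ := exists_gramN_eq_zero h2 hBs (by rwa [Fintype.card_fin])
    let x : Fin e × Fin d → F := fun p => if p.2 = c₀ then x₀ p.1 else 0
    have hxW : x ∈ W' := by
      rw [hW'mem]
      intro c
      by_cases hc : c = c₀
      · have : (fun i => x (i, c)) = x₀ := by
          funext i
          simp [x, hc]
        rw [this, hNdef, hNx₀]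
      · have : (fun i => x (i, c)) = 0 := by
          funext i
          simp [x, hc]
        rw [this, map_zero]
    have hmem : tauLin eqv P x ∈ W := ⟨x, hxW, rfl⟩
    rw [hW, Submodule.mem_bot] at hmem
    have hx0 : x = 0 := tauLin_injective eqv P (by rw [hmem, map_zero])
    apply hx₀
    funext i
    have := congrFun hx0 (i, c₀)
    simpa [x] using this
  · have hmem : tauLin eqv P (Pi.single (i₀, c₀) 1) ∈ W := by
      rw [hW]
      exact Submodule.mem_top
    obtain ⟨x, hx, hxe⟩ := hmem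
    have hxs := tauLin_injective eqv P hxe
    subst hxs
    have h1 := (hW'mem _).mp hx c₀
    have hcol : (fun i => (Pi.single (i₀, c₀) (1 : F) : Fin e × Fin d → F) (i, c₀)) =
        Pi.single i₀ 1 := by
      funext i
      by_cases hi : i = i₀
      · subst hi
        simp
      · rw [Pi.single_apply, Pi.single_apply, if_neg hi, if_neg]
        intro h
        exact hi (congrArg Prod.fst h)
    rw [hcol, hNdef, gramN_single] at h1
    exact hi₀ h1

/-- the inverse of `tauLin` -/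
noncomputable def tauInv {e d : ℕ} (eqv : Fin n ≃ Fin e × Fin d) (P : GL (Fin n) F) :
    (Fin n → F) →ₗ[F] (Fin e × Fin d → F) :=
  (LinearMap.funLeft F F eqv.symm).comp
    (Matrix.toLin' ((P⁻¹ : GL (Fin n) F) : Matrix (Fin n) (Fin n) F))

theorem tauInv_apply {e d : ℕ} (eqv : Fin n ≃ Fin e × Fin d) (P : GL (Fin n) F) (v : Fin n → F) :
    tauInv eqv P v = (((P⁻¹ : GL (Fin n) F) : Matrix (Fin n) (Fin n) F) *ᵥ v) ∘ eqv.symm := rfl

theorem tauLin_tauInv {e d : ℕ} (eqv : Fin n ≃ Fin e × Fin d) (P : GL (Fin n) F) (v : Fin n → F) :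
    tauLin eqv P (tauInv eqv P v) = v := by
  rw [tauLin_apply, tauInv_apply]
  have : ((((P⁻¹ : GL (Fin n) F) : Matrix (Fin n) (Fin n) F) *ᵥ v) ∘ eqv.symm) ∘ eqv =
      ((P⁻¹ : GL (Fin n) F) : Matrix (Fin n) (Fin n) F) *ᵥ v := by
    funext i
    simp
  rw [this, Matrix.mulVec_mulVec, ← Units.val_mul, mul_inv_cancel, Units.val_one, Matrix.one_mulVec]

theorem tauInv_tauLin {e d : ℕ} (eqv : Fin n ≃ Fin e × Fin d) (P : GL (Fin n) F)
    (x : Fin e × Fin d → F) : tauInv eqv P (tauLin eqv P x) = x :=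
  tauLin_injective eqv P (tauLin_tauInv eqv P _)

/-- the strictly upper triangular half of a matrix -/
def upperHalf {κ : Type} [LinearOrder κ] (B : Matrix κ κ F) : Matrix κ κ F :=
  fun i j => if i < j then B i j else 0

theorem upperHalf_add_transpose {κ : Type} [LinearOrder κ] {B : Matrix κ κ F} (hB : Bᵀ = B)
    (hdiag : ∀ i, B i i = 0) : upperHalf B + (upperHalf B)ᵀ = B := by
  ext i j
  rw [Matrix.add_apply, Matrix.transpose_apply]
  unfold upperHalf
  rcases lt_trichotomy i j with h | h | h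
  · rw [if_pos h, if_neg (not_lt.mpr h.le), add_zero]
  · subst h
    rw [if_neg (lt_irrefl _), add_zero, hdiag]
  · rw [if_neg (not_lt.mpr h.le), if_pos h, zero_add]
    have := congrFun (congrFun hB i) j
    rwa [Matrix.transpose_apply] at this

theorem formOfGram_add_mat {κ : Type} [Fintype κ] (M M' : Matrix κ κ F) (x y : κ → F) :
    formOfGram id (M + M') x y = formOfGram id M x y + formOfGram id M' x y := by
  unfold formOfGram
  rw [← Finset.sum_add_distrib]
  refine Finset.sum_congr rfl fun a _ => ?_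
  rw [← Finset.sum_add_distrib]
  refine Finset.sum_congr rfl fun b _ => ?_
  rw [Matrix.add_apply]
  ring

theorem formOfGram_transpose {κ : Type} [Fintype κ] (M : Matrix κ κ F) (x y : κ → F) :
    formOfGram id Mᵀ x y = formOfGram id M y x := by
  unfold formOfGram
  rw [Finset.sum_comm]
  refine Finset.sum_congr rfl fun a _ => Finset.sum_congr rfl fun b _ => ?_
  rw [Matrix.transpose_apply]
  simp only [id]
  ring

/-- a symmetric matrix with zero diagonal gives an alternating form in characteristic `2` -/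
theorem formOfGram_self_eq_zero {κ : Type} [Fintype κ] [DecidableEq κ] (h2 : (2 : F) = 0)
    {M : Matrix κ κ F} (hM : Mᵀ = M) (hdiag : ∀ i, M i i = 0) (x : κ → F) :
    formOfGram id M x x = 0 := by
  rw [← gramN_apply h2 hM, gramN_eq_sum]
  refine Finset.sum_eq_zero fun i _ => ?_
  rw [hdiag, mul_zero]

/-- **Characteristic 2, tensor decompositions**: an irreducible group of isometries of a symplectic
form preserving a tensor decomposition of the form fixes a quadratic form polarising to it. -/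
theorem tensor_even_quadExit [Fintype F] (h2 : (2 : F) = 0) {f : (Fin n → F) → (Fin n → F) → F}
    (hf : IsSymplecticForm f) {H : Subgroup (GL (Fin n) F)} (hH : ActsIrreducibly (matrixSet H))
    (hfix : FixesForm (matrixSet H) f) {d e : ℕ} (he : 2 ≤ e) (hd : 2 ≤ d)
    (eqv : Fin n ≃ Fin e × Fin d) (P : GL (Fin n) F) (hHt : H ≤ tensorProductSubgroup e d eqv P)
    (B : Matrix (Fin e) (Fin e) F) (G : Matrix (Fin d) (Fin d) F) (hB : IsUnit B.det)
    (hG : IsUnit G.det)
    (hform : ∀ x y : Fin e × Fin d → F,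
      f ((P : Matrix (Fin n) (Fin n) F) *ᵥ (x ∘ eqv)) ((P : Matrix (Fin n) (Fin n) F) *ᵥ (y ∘ eqv)) =
        formOfGram id (B ⊗ₖ G) x y) : QuadExit f H := by
  classical
  have hform' : ∀ x y, f (tauLin eqv P x) (tauLin eqv P y) = formOfGram id (B ⊗ₖ G) x y := hform
  have hne : Nonempty (Fin e) := ⟨⟨0, by omega⟩⟩
  have hnd : Nonempty (Fin d) := ⟨⟨0, by omega⟩⟩
  have hB0 : B ≠ 0 := by
    rintro rfl
    rw [Matrix.det_zero] at hB
    exact not_isUnit_zero hB
  have hG0 : G ≠ 0 := by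
    rintro rfl
    rw [Matrix.det_zero] at hG
    exact not_isUnit_zero hG
  have hS : ∀ i j a b, B i j * G a b = B j i * G b a := by
    intro i j a b
    have h1 := hform' (Pi.single (i, a) 1) (Pi.single (j, b) 1)
    have h1' := hform' (Pi.single (j, b) 1) (Pi.single (i, a) 1)
    rw [formOfGram_single, Matrix.kroneckerMap_apply] at h1 h1'
    rw [hf.skew, h1', neg_eq_self_of_two h2] at h1
    exact h1.symm
  obtain ⟨hBs, hGs⟩ := symm_of_kron_symm h2 hB0 hG0 hS
  -- both factors are alternating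
  have hBd : ∀ i, B i i = 0 := by
    intro i
    by_contra hi
    exact tensor_even_reducible h2 hf hH hfix he (by omega) eqv P hHt B G hB hG hform ⟨i, hi⟩
  have hGd : ∀ a, G a a = 0 := by
    intro a
    by_contra ha
    refine tensor_even_reducible h2 hf hH hfix hd (by omega)
      (eqv.trans (Equiv.prodComm (Fin e) (Fin d))) P ?_ G B hG hB ?_ ⟨a, ha⟩
    · rw [← Cfsg.Agent.Helper9.AschComp.tensorProductSubgroup_swap]
      exact hHt
    · intro x y
      have := hform (x ∘ Equiv.prodComm (Fin e) (Fin d)) (y ∘ Equiv.prodComm (Fin e) (Fin d))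
      rw [formOfGram_kron_swap] at this
      exact this
  -- the quadratic form
  set β : Matrix (Fin e) (Fin e) F := upperHalf B with hβ
  have hβB : β + βᵀ = B := upperHalf_add_transpose hBs hBd
  let Q' : (Fin e × Fin d → F) → F := fun x => formOfGram id (β ⊗ₖ G) x x
  let Q : (Fin n → F) → F := fun v => Q' (tauInv eqv P v)
  have hbil := formOfGram_bilinear (β ⊗ₖ G)
  have hQ'pol : ∀ x y, Q' (x + y) - Q' x - Q' y = formOfGram id (B ⊗ₖ G) x y := by
    intro x y
    show formOfGram id (β ⊗ₖ G) (x + y) (x + y) - formOfGram id (β ⊗ₖ G) x x -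
      formOfGram id (β ⊗ₖ G) y y = _
    rw [hbil.add_left, hbil.add_right, hbil.add_right]
    have e1 : formOfGram id (β ⊗ₖ G) y x = formOfGram id (βᵀ ⊗ₖ G) x y := by
      rw [← formOfGram_transpose, ← Matrix.kroneckerMap_transpose, hGs]
    have e2 : B ⊗ₖ G = β ⊗ₖ G + βᵀ ⊗ₖ G := by
      rw [← Matrix.add_kronecker, hβB]
    rw [e1, e2, formOfGram_add_mat]
    ring
  have hpol : ∀ u v, QuadraticMap.polar Q u v = f u v := by
    intro u v
    unfold QuadraticMap.polar
    show Q' (tauInv eqv P (u + v)) - Q' (tauInv eqv P u) - Q' (tauInv eqv P v) = f u v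
    rw [map_add, hQ'pol, ← hform', tauLin_tauInv, tauLin_tauInv]
  have hpoleq : QuadraticMap.polar Q = f := by
    funext u v
    exact hpol u v
  have hQ : IsNondegenerateQuadraticForm Q := by
    refine ⟨fun c v => ?_, by rw [hpoleq]; exact hf.bilinear, by rw [hpoleq]; exact hf.nondegenerate⟩
    show formOfGram id (β ⊗ₖ G) (tauInv eqv P (c • v)) (tauInv eqv P (c • v)) =
      c ^ 2 * formOfGram id (β ⊗ₖ G) (tauInv eqv P v) (tauInv eqv P v)
    rw [map_smul, hbil.smul_left, hbil.smul_right]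
    ring
  refine ⟨Q, hQ, hpol, fun h hh => ⟨1, fun v => ?_⟩⟩
  rw [Units.val_one, one_mul]
  obtain ⟨a, b, hab⟩ := exists_kron_of_mem (hHt hh)
  set A : Matrix (Fin e) (Fin e) F := (a : Matrix (Fin e) (Fin e) F) with hA
  set C : Matrix (Fin d) (Fin d) F := (b : Matrix (Fin d) (Fin d) F) with hC
  set x := tauInv eqv P v with hx
  have hv : v = tauLin eqv P x := (tauLin_tauInv eqv P v).symm
  have e1 : tauInv eqv P ((h : Matrix (Fin n) (Fin n) F) *ᵥ v) = (A ⊗ₖ C) *ᵥ x := by
    rw [hv, hab, tauInv_tauLin]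
  show Q' (tauInv eqv P ((h : Matrix (Fin n) (Fin n) F) *ᵥ v)) = Q' x
  rw [e1]
  -- the isometry condition
  have hiso : ∀ x y, formOfGram id (B ⊗ₖ G) ((A ⊗ₖ C) *ᵥ x) ((A ⊗ₖ C) *ᵥ y) =
      formOfGram id (B ⊗ₖ G) x y := by
    intro x y
    rw [← hform', ← hab, ← hab, hfix _ ⟨h, hh, rfl⟩, hform']
  have hmat : (A ⊗ₖ C)ᵀ * (B ⊗ₖ G) * (A ⊗ₖ C) = B ⊗ₖ G :=
    gram_ext (fun x y => by rw [← formOfGram_mulVec, hiso])
  have hmat' : (Aᵀ * B * A) ⊗ₖ (Cᵀ * G * C) = B ⊗ₖ G := by
    rw [Matrix.mul_kronecker_mul, Matrix.mul_kronecker_mul, Matrix.kroneckerMap_transpose]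
    exact hmat
  set G' : Matrix (Fin d) (Fin d) F := Cᵀ * G * C with hG'
  set β' : Matrix (Fin e) (Fin e) F := Aᵀ * β * A with hβ'
  have hG's : G'ᵀ = G' := by
    rw [hG', Matrix.transpose_mul, Matrix.transpose_mul, Matrix.transpose_transpose, hGs,
      Matrix.mul_assoc]
  have hG'd : ∀ c, G' c c = 0 := by
    intro c
    rw [← formOfGram_single G', hG', ← formOfGram_mulVec]
    exact formOfGram_self_eq_zero h2 hGs hGd _
  have hβ'B : β' + β'ᵀ = Aᵀ * B * A := by
    rw [hβ', Matrix.transpose_mul, Matrix.transpose_mul, Matrix.transpose_transpose, ← hβB,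
      Matrix.mul_add, Matrix.add_mul, Matrix.mul_assoc Aᵀ βᵀ A]
  -- the difference matrix
  set Δ : Matrix (Fin e × Fin d) (Fin e × Fin d) F := β' ⊗ₖ G' + β ⊗ₖ G with hΔ
  have hΔs : Δᵀ = Δ := by
    have e3 : Δ + Δᵀ = 0 := by
      rw [hΔ, Matrix.transpose_add, ← Matrix.kroneckerMap_transpose, ← Matrix.kroneckerMap_transpose,
        hG's, hGs]
      have : β' ⊗ₖ G' + β ⊗ₖ G + (β'ᵀ ⊗ₖ G' + βᵀ ⊗ₖ G) =
          (β' + β'ᵀ) ⊗ₖ G' + (β + βᵀ) ⊗ₖ G := by
        rw [Matrix.add_kronecker, Matrix.add_kronecker]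
        abel
      rw [this, hβ'B, hβB, hmat']
      exact mat_add_self h2 _
    have : Δᵀ = -Δ := (neg_eq_of_add_eq_zero_right e3).symm
    rw [this, mat_neg_eq_self h2]
  have hΔd : ∀ p, Δ p p = 0 := by
    rintro ⟨i, c⟩
    rw [hΔ, Matrix.add_apply, Matrix.kroneckerMap_apply, Matrix.kroneckerMap_apply]
    show β' i i * G' c c + β i i * G c c = 0
    rw [hG'd, hGd, mul_zero, mul_zero, add_zero]
  have hzero := formOfGram_self_eq_zero h2 hΔs hΔd x
  rw [hΔ, formOfGram_add_mat] at hzero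
  show formOfGram id (β ⊗ₖ G) ((A ⊗ₖ C) *ᵥ x) ((A ⊗ₖ C) *ᵥ x) = formOfGram id (β ⊗ₖ G) x x
  rw [formOfGram_mulVec]
  have e4 : (A ⊗ₖ C)ᵀ * (β ⊗ₖ G) * (A ⊗ₖ C) = β' ⊗ₖ G' := by
    rw [hβ', hG', Matrix.mul_kronecker_mul, Matrix.mul_kronecker_mul, Matrix.kroneckerMap_transpose]
  rw [e4]
  have : formOfGram id (β' ⊗ₖ G') x x = - formOfGram id (β ⊗ₖ G) x x :=
    eq_neg_of_add_eq_zero_left hzero
  rw [this, neg_eq_self_of_two h2]

end Cfsg.Agent.Helper8.AschSp
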