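import Cfsg.Agent.Helper8.SpEvenF
import Cfsg.Agent.Helper7.FExA

/-!
# ASCH-COMP-Sp: a self-adjoint field of degree `r` for a symplectic form on `F^n` has `2 r ∣ n`

A maximal totally isotropic subspace invariant under the field is Lagrangian, and its dimension is
divisible by `r`.
-/

set_option autoImplicit false
set_option linter.unusedSectionVars false

namespace Cfsg.Agent.Helper8.AschSp

open Cfsg Cfsg.Geo Matrix Cfsg.Agent.Helper8.SpEven

variable {ι : Type} [Fintype ι] [DecidableEq ι] {F : Type*} [Field F]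

theorem toBilin_nondegenerate {f : (ι → F) → (ι → F) → F} (hf : IsSymplecticForm f) :
    (toBilin hf.bilinear).Nondegenerate := by
  constructor
  · intro x hx
    by_contra hne
    obtain ⟨y, hy⟩ := (hf.nondegenerate x hne).2
    exact hy (hx y)
  · intro y hy
    by_contra hne
    obtain ⟨x, hx⟩ := (hf.nondegenerate y hne).1
    exact hx (hy x)

/-- The dimension of a subspace invariant under a field subalgebra of degree `r` is divisible by
`r`. -/
theorem dvd_finrank_of_invariant [Fintype F] [Nonempty ι] {r : ℕ} {K : Subalgebra F (Matrix ι ι F)}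
    (hK : IsFieldSubalgebra r K) {W : Submodule F (ι → F)}
    (hW : ∀ k ∈ K, ∀ w ∈ W, k *ᵥ w ∈ W) : r ∣ Module.finrank F W := by
  classical
  let _ := Cfsg.Agent.Helper7.FEx.fieldOfSub K hK
  let _ := Cfsg.Agent.Helper7.FEx.modOfSub K
  let WK : Submodule K (ι → F) :=
    { carrier := W
      add_mem' := fun ha hb => W.add_mem ha hb
      zero_mem' := W.zero_mem
      smul_mem' := fun k w hw => hW k.1 k.2 w hw }
  have hfinW : Finite WK := Finite.of_injective (fun w : WK => (w : ι → F)) Subtype.val_injective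
  have hmfW : Module.Finite K WK := Module.Finite.of_finite
  have h1 : Nat.card WK = Nat.card K ^ Module.finrank K WK :=
    @Module.natCard_eq_pow_finrank K WK _ _ _ hmfW
  have h2 : Nat.card W = Nat.card F ^ Module.finrank F W := Module.natCard_eq_pow_finrank
  have h3 : Nat.card K = Nat.card F ^ r := by
    have := Module.natCard_eq_pow_finrank (K := F) (V := K)
    rwa [hK.finrank_eq] at this
  have h4 : Nat.card WK = Nat.card W := rfl
  rw [h4, h2, h3, ← pow_mul] at h1
  have hq : 2 ≤ Nat.card F := by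
    rw [Nat.card_eq_fintype_card]
    exact Fintype.one_lt_card
  have := Nat.pow_right_injective hq h1
  exact ⟨_, this⟩

/-- **`SpPieces.dvdOfSelfAdj`.** -/
theorem two_mul_dvd_of_selfAdjoint [Fintype F] {f : (ι → F) → (ι → F) → F} (hf : IsSymplecticForm f)
    {r : ℕ} {K : Subalgebra F (Matrix ι ι F)} (hK : IsFieldSubalgebra r K)
    (hsa : IsSelfAdjointFor f K) (halt : ∀ k ∈ K, ∀ v : ι → F, f (k *ᵥ v) v = 0) :
    2 * r ∣ Fintype.card ι := by
  classical
  rcases isEmpty_or_nonempty ι with hι | hι
  · rw [Fintype.card_eq_zero]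
    exact dvd_zero _
  have hb := hf.bilinear
  -- the family of invariant totally isotropic subspaces
  let p : Submodule F (ι → F) → Prop := fun W =>
    (∀ k ∈ K, ∀ w ∈ W, k *ᵥ w ∈ W) ∧ IsTotallySingularFor f W
  have hp0 : p ⊥ := by
    refine ⟨fun k _ w hw => ?_, fun u hu v _ => ?_⟩
    · rw [Submodule.mem_bot] at hw ⊢
      rw [hw, Matrix.mulVec_zero]
    · rw [Submodule.mem_bot] at hu
      rw [hu]
      have := hb.smul_left 0 0 v
      rw [zero_smul, zero_mul] at this
      exact this
  obtain ⟨W, -, hWmax⟩ := Finite.exists_le_maximal (p := p) hp0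
  obtain ⟨hWinv, hWts⟩ := hWmax.1
  set B := toBilin hb with hB
  -- `W` is its own orthogonal
  have hperp : B.orthogonal W = W := by
    apply le_antisymm
    · intro v hv
      rw [LinearMap.BilinForm.mem_orthogonal_iff] at hv
      have hv' : ∀ w ∈ W, f w v = 0 := hv
      -- the subspace `W + K v`
      let Kv : Submodule F (ι → F) :=
        (Subalgebra.toSubmodule K).map ((Matrix.toLin' : Matrix ι ι F ≃ₗ[F] _).toLinearMap.flip v)
      have hKv : ∀ x, x ∈ Kv ↔ ∃ k ∈ K, k *ᵥ v = x := by
        intro x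
        constructor
        · rintro ⟨k, hk, rfl⟩
          exact ⟨k, hk, (Matrix.toLin'_apply k v).symm⟩
        · rintro ⟨k, hk, rfl⟩
          exact ⟨k, hk, Matrix.toLin'_apply k v⟩
      have hp' : p (W ⊔ Kv) := by
        refine ⟨?_, ?_⟩
        · intro k hk x hx
          obtain ⟨w, hw, y, hy, rfl⟩ := Submodule.mem_sup.mp hx
          obtain ⟨k', hk', rfl⟩ := (hKv y).mp hy
          rw [Matrix.mulVec_add]
          apply Submodule.add_mem
          · exact Submodule.mem_sup_left (hWinv k hk w hw)
          · apply Submodule.mem_sup_right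
            rw [hKv]
            exact ⟨k * k', K.mul_mem hk hk', (Matrix.mulVec_mulVec v k k').symm⟩
        · intro x hx y hy
          obtain ⟨w1, hw1, y1, hy1, rfl⟩ := Submodule.mem_sup.mp hx
          obtain ⟨w2, hw2, y2, hy2, rfl⟩ := Submodule.mem_sup.mp hy
          obtain ⟨k1, hk1, rfl⟩ := (hKv y1).mp hy1
          obtain ⟨k2, hk2, rfl⟩ := (hKv y2).mp hy2
          rw [hb.add_left, hb.add_right, hb.add_right, hWts w1 hw1 w2 hw2, zero_add]
          have e1 : f w1 (k2 *ᵥ v) = 0 := by
            rw [← hsa k2 hk2]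
            exact hv' _ (hWinv k2 hk2 w1 hw1)
          have e2 : f (k1 *ᵥ v) w2 = 0 := by
            rw [hf.skew, ← hsa k1 hk1, hv' _ (hWinv k1 hk1 w2 hw2), neg_zero]
          have e3 : f (k1 *ᵥ v) (k2 *ᵥ v) = 0 := by
            rw [← hsa k2 hk2, Matrix.mulVec_mulVec]
            exact halt _ (K.mul_mem hk2 hk1) v
          rw [e1, e2, e3]
          ring
      have hle : W ⊔ Kv ≤ W := hWmax.2 hp' le_sup_left
      apply hle
      apply Submodule.mem_sup_right
      rw [hKv]
      exact ⟨1, K.one_mem, Matrix.one_mulVec v⟩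
    · intro w hw
      rw [LinearMap.BilinForm.mem_orthogonal_iff]
      intro w' hw'
      exact hWts w' hw' w hw
  have hdim := LinearMap.BilinForm.finrank_orthogonal (toBilin_nondegenerate hf) W
  rw [← hB, hperp, Module.finrank_fintype_fun_eq_card] at hdim
  have hle : Module.finrank F W ≤ Fintype.card ι := by
    have := Submodule.finrank_le W
    rwa [Module.finrank_fintype_fun_eq_card] at this
  obtain ⟨e, he⟩ := dvd_finrank_of_invariant hK hWinv
  refine ⟨e, ?_⟩
  rw [he] at hdim hle
  rw [mul_assoc]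
  omega

/-- **`SpPieces.dvdOfSelfAdj`**, in the exact shape of the field of `Helper1.AschSp.SpPieces`. -/
theorem dvdOfSelfAdj [Fintype F] {n : ℕ} : ∀ (f : (Fin n → F) → (Fin n → F) → F), IsSymplecticForm f →
    ∀ (r : ℕ) (K : Subalgebra F (Matrix (Fin n) (Fin n) F)), IsFieldSubalgebra r K →
    IsSelfAdjointFor f K → (∀ k ∈ K, ∀ v : Fin n → F, f (k *ᵥ v) v = 0) → 2 * r ∣ n := by
  intro f hf r K hK hsa halt
  have h := two_mul_dvd_of_selfAdjoint hf hK hsa halt
  rwa [Fintype.card_fin] at h

/-- **`SpPieces.altOfSelfAdj`**, in the exact shape of the field of `Helper1.AschSp.SpPieces`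
(the group `H` is not needed). -/
theorem altOfSelfAdj [Fintype F] {n : ℕ} : ∀ (f : (Fin n → F) → (Fin n → F) → F), IsSymplecticForm f →
    ∀ H : Subgroup (GL (Fin n) F), FixesForm (matrixSet H) f → ActsIrreducibly (matrixSet H) →
    ∀ (r : ℕ) (K : Subalgebra F (Matrix (Fin n) (Fin n) F)), IsFieldSubalgebra r K →
    IsSelfAdjointFor f K → H ≤ subalgebraNormalizer K →
    ∀ k ∈ K, ∀ v : Fin n → F, f (k *ᵥ v) v = 0 := by
  intro f hf H _ _ r K hK hsa _
  exact selfAdjoint_alt hf hK hsa

end Cfsg.Agent.Helper8.AschSp
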