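import Cfsg.Agent.Helper8.SpEvenF
import Cfsg.Agent.Helper1.AschSpBase
import Cfsg.Agent.Helper3.AschUSubB

/-!
# ASCH-COMP-Sp: the `q` even pieces `evenDecomp`, `evenPair`, `evenField`, `quadEven` of `SpPieces`

Wrappers of `SpEvenA`–`SpEvenF` in the exact shapes of the fields of `Helper1.AschSp.SpPieces`.
-/

set_option autoImplicit false
set_option linter.unusedSectionVars false

namespace Cfsg.Agent.Helper8.AschSp

open Cfsg Cfsg.Geo Matrix Cfsg.Agent.Helper8.SpEven Cfsg.Agent.Helper1.AschSp Cfsg.Agent.Lead.Asch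

section general

variable {ι : Type} [Fintype ι] [DecidableEq ι] {F : Type*} [Field F]

/-- If `h` normalises the irreducible group `P`, which fixes the quadratic form `Q` with polar form `f`,
and `h` multiplies `f` by `c`, then `h` multiplies `Q` by `c`. -/
theorem simQuad_of_normalizes [Fintype F] {f : (ι → F) → (ι → F) → F}
    (hdim : 2 ≤ Fintype.card ι) {P : Subgroup (GL ι F)} (hirr : ActsIrreducibly (matrixSet P))
    {Q : (ι → F) → F} (hsmul : ∀ (c : F) (v : ι → F), Q (c • v) = c ^ 2 * Q v)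
    (hpol : ∀ u v, QuadraticMap.polar Q u v = f u v) (hPQ : FixesQuadForm (matrixSet P) Q)
    {h : GL ι F} (hnorm : ∀ p ∈ P, h * p * h⁻¹ ∈ P) (c : F)
    (hsim : ∀ u v, f ((h : Matrix ι ι F) *ᵥ u) ((h : Matrix ι ι F) *ᵥ v) = c * f u v) :
    ∀ v, Q ((h : Matrix ι ι F) *ᵥ v) = c * Q v := by
  classical
  have hadd : ∀ u v, Q (u + v) = Q u + Q v + f u v := by
    intro u v
    have := hpol u v
    unfold QuadraticMap.polar at this
    linear_combination this
  -- the difference
  let W : Submodule F (ι → F) :=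
    { carrier := {v | Q ((h : Matrix ι ι F) *ᵥ v) = c * Q v}
      add_mem' := by
        intro a b ha hb
        have ha' : Q ((h : Matrix ι ι F) *ᵥ a) = c * Q a := ha
        have hb' : Q ((h : Matrix ι ι F) *ᵥ b) = c * Q b := hb
        show Q ((h : Matrix ι ι F) *ᵥ (a + b)) = c * Q (a + b)
        rw [Matrix.mulVec_add, hadd, hadd, ha', hb', hsim]
        ring
      zero_mem' := by
        show Q ((h : Matrix ι ι F) *ᵥ 0) = c * Q 0
        have hQ0 : Q 0 = 0 := by
          have := hsmul 0 0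
          rw [smul_zero] at this
          rw [this]
          ring
        rw [Matrix.mulVec_zero, hQ0, mul_zero]
      smul_mem' := by
        intro a x hx
        have hx' : Q ((h : Matrix ι ι F) *ᵥ x) = c * Q x := hx
        show Q ((h : Matrix ι ι F) *ᵥ (a • x)) = c * Q (a • x)
        rw [Matrix.mulVec_smul, hsmul, hsmul, hx']
        ring }
  have hWinv : ∀ s ∈ matrixSet P, W.map (Matrix.toLin' s) ≤ W := by
    rintro s ⟨p, hp, rfl⟩ _ ⟨v, hv, rfl⟩
    have hv' : Q ((h : Matrix ι ι F) *ᵥ v) = c * Q v := hv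
    show Q ((h : Matrix ι ι F) *ᵥ (Matrix.toLin' (p : Matrix ι ι F) v)) =
      c * Q (Matrix.toLin' (p : Matrix ι ι F) v)
    rw [Matrix.toLin'_apply]
    have e : (h : Matrix ι ι F) *ᵥ ((p : Matrix ι ι F) *ᵥ v) =
        ((h * p * h⁻¹ : GL ι F) : Matrix ι ι F) *ᵥ ((h : Matrix ι ι F) *ᵥ v) := by
      rw [Matrix.mulVec_mulVec, Matrix.mulVec_mulVec, ← Units.val_mul, ← Units.val_mul]
      congr 2
      group
    rw [e, hPQ _ ⟨_, hnorm p hp, rfl⟩, hPQ _ ⟨p, hp, rfl⟩, hv']
  rcases hirr W hWinv with hW | hW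
  · -- then `v ↦ Q (h v) - c Q v` is an injective additive map into `F`: impossible
    exfalso
    have hinj : Function.Injective (fun v : ι → F => Q ((h : Matrix ι ι F) *ᵥ v) - c * Q v) := by
      intro a b hab
      have hab' : Q ((h : Matrix ι ι F) *ᵥ a) - c * Q a = Q ((h : Matrix ι ι F) *ᵥ b) - c * Q b := hab
      have hmem : a - b ∈ W := by
        show Q ((h : Matrix ι ι F) *ᵥ (a - b)) = c * Q (a - b)
        have ea : a = (a - b) + b := by abel
        have h1 := hadd (a - b) b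
        have h2 := hadd ((h : Matrix ι ι F) *ᵥ (a - b)) ((h : Matrix ι ι F) *ᵥ b)
        rw [← Matrix.mulVec_add, hsim, ← ea] at h2
        rw [← ea] at h1
        linear_combination -h2 + c * h1 + hab'
      rw [hW, Submodule.mem_bot] at hmem
      exact sub_eq_zero.mp hmem
    have hcard := Fintype.card_le_of_injective _ hinj
    rw [Fintype.card_fun] at hcard
    have h1 : 1 < Fintype.card F := Fintype.one_lt_card
    have h3 : Fintype.card F ^ 2 ≤ Fintype.card F ^ Fintype.card ι :=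
      Nat.pow_le_pow_right (by omega) hdim
    nlinarith
  · intro v
    have : v ∈ W := by rw [hW]; exact Submodule.mem_top
    exact this

end general

variable {n : ℕ} {F : Type*} [Field F]

theorem quadExit_of {f : (Fin n → F) → (Fin n → F) → F} {H X : Subgroup (GL (Fin n) F)}
    (hfix : FixesForm (matrixSet H) f) (hHX : H ≤ X)
    (h : ∃ Q : (Fin n → F) → F, IsNondegenerateQuadraticForm Q ∧
      (∀ u v, QuadraticMap.polar Q u v = f u v) ∧ ∀ g ∈ X,
      (∀ u v, f ((g : Matrix (Fin n) (Fin n) F) *ᵥ u) ((g : Matrix (Fin n) (Fin n) F) *ᵥ v) = f u v) →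
      ∀ v, Q ((g : Matrix (Fin n) (Fin n) F) *ᵥ v) = Q v) : QuadExit f H := by
  obtain ⟨Q, hQ, hpol, hX⟩ := h
  refine ⟨Q, hQ, hpol, fun g hg => ⟨1, fun v => ?_⟩⟩
  rw [Units.val_one, one_mul]
  exact hX g (hHX hg) (fun u v => hfix _ ⟨g, hg, rfl⟩ u v) v

variable [Fintype F]

/-- **`SpPieces.evenDecomp`** -/
theorem evenDecomp : Fintype.card F = 2 → ∀ (f : (Fin n → F) → (Fin n → F) → F), IsSymplecticForm f →
    ∀ {t : ℕ} (D : Fin t → Submodule F (Fin n → F)), IsNondegenerateMDecomposition f 2 D →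
    ∀ H : Subgroup (GL (Fin n) F), FixesForm (matrixSet H) f → H ≤ decompositionStabilizer D →
    QuadExit f H := by
  intro hq f hf t D hD H hfix hHD
  exact quadExit_of hfix hHD (quad_of_two_decomp hq hf D hD)

/-- **`SpPieces.evenPair`** -/
theorem evenPair : ¬ Odd (Fintype.card F) → ∀ (f : (Fin n → F) → (Fin n → F) → F), IsSymplecticForm f →
    ∀ (k : ℕ) (D : Fin 2 → Submodule F (Fin n → F)), IsMDecomposition k D →
    (∀ i, IsTotallySingularFor f (D i)) →
    ∀ H : Subgroup (GL (Fin n) F), FixesForm (matrixSet H) f → H ≤ decompositionStabilizer D →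
    QuadExit f H := by
  intro hq f hf k D hD hts H hfix hHD
  exact quadExit_of hfix hHD (quad_of_isotropic_pair (two_eq_zero_of_not_odd_card hq) hf D hD hts)

/-- **`SpPieces.evenField`** -/
theorem evenField : ¬ Odd (Fintype.card F) → ∀ (f : (Fin n → F) → (Fin n → F) → F), IsSymplecticForm f →
    ∀ K : Subalgebra F (Matrix (Fin n) (Fin n) F), IsFieldSubalgebra 2 K → IsAdjointClosedFor f K →
    ¬ IsSelfAdjointFor f K →
    ∀ H : Subgroup (GL (Fin n) F), FixesForm (matrixSet H) f → H ≤ subalgebraNormalizer K →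
    QuadExit f H := by
  intro hq f hf K hK hadj hns H hfix hHK
  exact quadExit_of hfix hHK
    (quad_of_unitary_field (two_eq_zero_of_not_odd_card hq) hf K hK hadj hns)

/-- a symplectic form lives in dimension `0` or at least `2` -/
theorem two_le_of_symplectic {f : (Fin n → F) → (Fin n → F) → F} (hf : IsSymplecticForm f)
    (hn : 0 < n) : 2 ≤ n := by
  by_contra hlt
  have h1 : n = 1 := by omega
  subst h1
  have hv : (fun _ : Fin 1 => (1 : F)) ≠ 0 := by
    intro h
    have := congrFun h 0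
    simp at this
  obtain ⟨x, hx⟩ := (hf.nondegenerate _ hv).1
  apply hx
  have : x = x 0 • (fun _ : Fin 1 => (1 : F)) := by
    funext i
    rw [Subsingleton.elim i 0]
    simp
  rw [this, hf.bilinear.smul_left, hf.alternating, mul_zero]

/-- **`SpPieces.quadEven`** -/
theorem quadEven : ¬ Odd (Fintype.card F) → ∀ (f : (Fin n → F) → (Fin n → F) → F), IsSymplecticForm f →
    ∀ {H P : Subgroup (GL (Fin n) F)}, FixesForm (matrixSet P) f → Nzes H P →
    ActsAbsolutelyIrreducibly (matrixSet P) →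
    ∀ Q : (Fin n → F) → F, IsNondegenerateQuadraticForm Q → FixesQuadForm (matrixSet P) Q →
    QuadExit f H := by
  intro hq f hf H P hPf hnz habs Q hQ hPQ
  classical
  have h2 : (2 : F) = 0 := two_eq_zero_of_not_odd_card hq
  rcases Nat.eq_zero_or_pos n with hn | hn
  · subst hn
    refine ⟨Q, hQ, fun u v => ?_, fun g _ => ⟨1, fun v => ?_⟩⟩
    · rw [Subsingleton.elim u 0, Subsingleton.elim v 0]
      have e1 := hQ.polar_bilinear.smul_left 0 0 0
      have e2 := hf.bilinear.smul_left 0 0 0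
      rw [zero_smul, zero_mul] at e1 e2
      rw [e1, e2]
    · rw [Units.val_one, one_mul]
      exact congrArg Q (Subsingleton.elim _ _)
  have hn2 : 2 ≤ n := two_le_of_symplectic hf hn
  have hSu : ∀ s ∈ matrixSet P, ∃ t : Matrix (Fin n) (Fin n) F, s * t = 1 := by
    rintro s ⟨p, _, rfl⟩
    exact ⟨((p⁻¹ : GL (Fin n) F) : Matrix (Fin n) (Fin n) F), by
      rw [← Units.val_mul, mul_inv_cancel, Units.val_one]⟩
  have hsf := Cfsg.Agent.Helper3.Asch.IsSesq.of_bilinear hf.bilinear
  -- the polar form of `Q` is a multiple of `f`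
  have hfixpol : FixesForm (matrixSet P) (QuadraticMap.polar Q) := by
    intro s hs u v
    unfold QuadraticMap.polar
    rw [← Matrix.mulVec_add, hPQ s hs, hPQ s hs, hPQ s hs]
  obtain ⟨c, hc⟩ := Cfsg.Agent.Helper3.AschU.sesq_unique hsf
    (Cfsg.Agent.Helper3.Asch.IsSesq.of_bilinear hQ.polar_bilinear) hf.nondegenerate habs hSu hPf hfixpol
  have hv0 : (fun _ : Fin n => (1 : F)) ≠ 0 := by
    intro h
    have := congrFun h ⟨0, hn⟩
    simp at this
  have hc0 : c ≠ 0 := by
    rintro rfl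
    obtain ⟨x, hx⟩ := (hQ.nondegenerate _ hv0).1
    exact hx (by rw [hc, zero_mul])
  -- the rescaled quadratic form
  let Q' : (Fin n → F) → F := fun v => c⁻¹ * Q v
  have hpol' : ∀ u v, QuadraticMap.polar Q' u v = f u v := by
    intro u v
    have := hc u v
    unfold QuadraticMap.polar at this ⊢
    show c⁻¹ * Q (u + v) - c⁻¹ * Q u - c⁻¹ * Q v = f u v
    rw [← mul_sub, ← mul_sub, this, ← mul_assoc, inv_mul_cancel₀ hc0, one_mul]
  have hsmul' : ∀ (a : F) (v : Fin n → F), Q' (a • v) = a ^ 2 * Q' v := by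
    intro a v
    show c⁻¹ * Q (a • v) = a ^ 2 * (c⁻¹ * Q v)
    rw [hQ.smul]
    ring
  have hpoleq : QuadraticMap.polar Q' = f := by
    funext u v
    exact hpol' u v
  have hQ' : IsNondegenerateQuadraticForm Q' :=
    ⟨hsmul', by rw [hpoleq]; exact hf.bilinear, by rw [hpoleq]; exact hf.nondegenerate⟩
  have hPQ' : FixesQuadForm (matrixSet P) Q' := by
    intro s hs v
    show c⁻¹ * Q (s *ᵥ v) = c⁻¹ * Q v
    rw [hPQ s hs]
  refine ⟨Q', hQ', hpol', fun h hh => ?_⟩
  -- `f ∘ h` is a multiple of `f`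
  let fh : (Fin n → F) → (Fin n → F) → F := fun u v =>
    f ((h : Matrix (Fin n) (Fin n) F) *ᵥ u) ((h : Matrix (Fin n) (Fin n) F) *ᵥ v)
  have hfh : IsBilinearForm fh := by
    refine ⟨fun x y v => ?_, fun a x v => ?_, fun v x y => ?_, fun a v x => ?_⟩
    · show f _ _ = f _ _ + f _ _
      rw [Matrix.mulVec_add, hf.bilinear.add_left]
    · show f _ _ = a * f _ _
      rw [Matrix.mulVec_smul, hf.bilinear.smul_left]
    · show f _ _ = f _ _ + f _ _
      rw [Matrix.mulVec_add, hf.bilinear.add_right]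
    · show f _ _ = a * f _ _
      rw [Matrix.mulVec_smul, hf.bilinear.smul_right]
  have hfixfh : FixesForm (matrixSet P) fh := by
    rintro s ⟨p, hp, rfl⟩ u v
    show f ((h : Matrix (Fin n) (Fin n) F) *ᵥ ((p : Matrix (Fin n) (Fin n) F) *ᵥ u))
      ((h : Matrix (Fin n) (Fin n) F) *ᵥ ((p : Matrix (Fin n) (Fin n) F) *ᵥ v)) = fh u v
    have e : ∀ w : Fin n → F, (h : Matrix (Fin n) (Fin n) F) *ᵥ ((p : Matrix (Fin n) (Fin n) F) *ᵥ w) =
        ((h * p * h⁻¹ : GL (Fin n) F) : Matrix (Fin n) (Fin n) F) *ᵥ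
          ((h : Matrix (Fin n) (Fin n) F) *ᵥ w) := by
      intro w
      rw [Matrix.mulVec_mulVec, Matrix.mulVec_mulVec, ← Units.val_mul, ← Units.val_mul]
      congr 2
      group
    rw [e u, e v, hPf _ ⟨_, hnz h hh p hp, rfl⟩]
  obtain ⟨d, hd⟩ := Cfsg.Agent.Helper3.AschU.sesq_unique hsf
    (Cfsg.Agent.Helper3.Asch.IsSesq.of_bilinear hfh) hf.nondegenerate habs hSu hPf hfixfh
  have hd0 : d ≠ 0 := by
    rintro rfl
    have hhv : (h : Matrix (Fin n) (Fin n) F) *ᵥ (fun _ : Fin n => (1 : F)) ≠ 0 := by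
      intro hz
      apply hv0
      have := congrArg (fun w => ((h⁻¹ : GL (Fin n) F) : Matrix (Fin n) (Fin n) F) *ᵥ w) hz
      simp only [Matrix.mulVec_mulVec, Matrix.mulVec_zero] at this
      rwa [← Units.val_mul, inv_mul_cancel, Units.val_one, Matrix.one_mulVec] at this
    obtain ⟨x, hx⟩ := (hf.nondegenerate _ hhv).1
    apply hx
    have e : x = (h : Matrix (Fin n) (Fin n) F) *ᵥ
        (((h⁻¹ : GL (Fin n) F) : Matrix (Fin n) (Fin n) F) *ᵥ x) := by
      rw [Matrix.mulVec_mulVec, ← Units.val_mul, mul_inv_cancel, Units.val_one, Matrix.one_mulVec]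
    rw [e]
    have := hd (((h⁻¹ : GL (Fin n) F) : Matrix (Fin n) (Fin n) F) *ᵥ x) (fun _ : Fin n => (1 : F))
    rw [zero_mul] at this
    exact this
  refine ⟨Units.mk0 d hd0, ?_⟩
  rw [Units.val_mk0]
  exact simQuad_of_normalizes (by rw [Fintype.card_fin]; exact hn2) habs.1 hsmul' hpol' hPQ'
    (fun p hp => hnz h hh p hp) d hd

end Cfsg.Agent.Helper8.AschSp
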