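import Cfsg.Agent.Helper8.AschSpO2B

/-!
# ASCH-COMP-Sp, second round: `tensor_O2_exit` (assembly)
-/

set_option autoImplicit false
set_option linter.unusedSectionVars false

namespace Cfsg.Agent.Helper8.AschSp

open Cfsg Cfsg.Geo Matrix Cfsg.Agent.Helper8.SpEven
open scoped Kronecker

variable {n : ℕ} {F : Type*} [Field F]

/-- the conjugate by `P` of a reindexed matrix acts on `P (x ∘ e)` through the matrix -/
theorem conj_submatrix_mulVec {e d : ℕ} (eqv : Fin n ≃ Fin e × Fin d) (P : GL (Fin n) F)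
    (k : Matrix (Fin e × Fin d) (Fin e × Fin d) F) (x : Fin e × Fin d → F) :
    ((P : Matrix (Fin n) (Fin n) F) * k.submatrix eqv eqv *
      ((P⁻¹ : GL (Fin n) F) : Matrix (Fin n) (Fin n) F)) *ᵥ tauLin eqv P x =
      tauLin eqv P (k *ᵥ x) := by
  have hP : ((P⁻¹ : GL (Fin n) F) : Matrix (Fin n) (Fin n) F) * (P : Matrix (Fin n) (Fin n) F) = 1 := by
    rw [← Units.val_mul, inv_mul_cancel, Units.val_one]
  rw [tauLin_apply, tauLin_apply, Matrix.mulVec_mulVec, Matrix.mul_assoc, hP, Matrix.mul_one,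
    ← Matrix.mulVec_mulVec]
  congr 1
  rw [Matrix.submatrix_mulVec_equiv]
  congr 2
  funext p
  simp

theorem tensor_O2_exit [Fintype F] (ho : Odd (Fintype.card F))
    {f : (Fin n → F) → (Fin n → F) → F} (hf : IsSymplecticForm f) {H : Subgroup (GL (Fin n) F)}
    (hfix : FixesForm (matrixSet H) f) (n₁ : ℕ) (hn₁ : 0 < n₁) (e : Fin n ≃ Fin n₁ × Fin 2)
    (P : GL (Fin n) F) (f₁ : (Fin n₁ → F) → (Fin n₁ → F) → F) (f₂ : (Fin 2 → F) → (Fin 2 → F) → F)
    (h₁ : IsSymplecticForm f₁) (h₂ : IsSymmetricForm f₂)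
    (hT : IsTensorFormStructure id f f₁ f₂ e P) (hle : H ≤ tensorProductSubgroup n₁ 2 e P) :
    (∃ D : Fin 2 → Submodule F (Fin n → F), IsMDecomposition n₁ D ∧
      (∀ i, IsTotallySingularFor f (D i)) ∧ H ≤ decompositionStabilizer D) ∨
    (∃ K : Subalgebra F (Matrix (Fin n) (Fin n) F), IsFieldSubalgebra 2 K ∧
      IsAdjointClosedFor f K ∧ ¬ IsSelfAdjointFor f K ∧ H ≤ subalgebraNormalizer K) := by
  classical
  obtain ⟨c, hc0, hform⟩ := hT
  set B : Matrix (Fin n₁) (Fin n₁) F := gramMatrix f₁ with hB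
  set G : Matrix (Fin 2) (Fin 2) F := gramMatrix f₂ with hG
  have hform' : ∀ x y, f (tauLin e P x) (tauLin e P y) = c * formOfGram id (B ⊗ₖ G) x y := hform
  have hn : n = n₁ * 2 := by
    have := Fintype.card_congr e
    simpa using this
  have hne : Nonempty (Fin n) := ⟨⟨0, by omega⟩⟩
  have hGdet : G.det ≠ 0 := det_gramMatrix_ne_zero h₂.bilinear h₂.nondegenerate
  have hGs : Gᵀ = G := by
    ext a b
    exact h₂.symm _ _
  have hG0 : G ≠ 0 := by
    rintro h0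
    rw [h0, Matrix.det_zero] at hGdet
    exact hGdet rfl
  have hB0 : ∃ i j, B i j ≠ 0 := by
    by_contra hall
    push Not at hall
    have hBz : B = 0 := Matrix.ext hall
    have hdet := det_gramMatrix_ne_zero h₁.bilinear h₁.nondegenerate
    have : Nonempty (Fin n₁) := ⟨⟨0, hn₁⟩⟩
    rw [← hB, hBz, Matrix.det_zero] at hdet
    exact hdet rfl
  obtain ⟨i₀, j₀, hB1⟩ := hB0
  set θ : Matrix (Fin 2) (Fin 2) F := theta2 G with hθ
  set δ : F := -(G.det)⁻¹ with hδ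
  have hδ0 : δ ≠ 0 := neg_ne_zero.mpr (inv_ne_zero hGdet)
  set k : Matrix (Fin n₁ × Fin 2) (Fin n₁ × Fin 2) F := (1 : Matrix (Fin n₁) (Fin n₁) F) ⊗ₖ θ with hk
  set Θ : Matrix (Fin n) (Fin n) F := (P : Matrix (Fin n) (Fin n) F) * k.submatrix e e *
      ((P⁻¹ : GL (Fin n) F) : Matrix (Fin n) (Fin n) F) with hΘ
  have hΘτ : ∀ x, Θ *ᵥ tauLin e P x = tauLin e P (k *ᵥ x) := conj_submatrix_mulVec e P k
  have hkk : k * k = δ • (1 : Matrix (Fin n₁ × Fin 2) (Fin n₁ × Fin 2) F) := by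
    rw [hk, ← Matrix.mul_kronecker_mul, Matrix.one_mul, hθ, theta2_mul_self hGdet hGs,
      Matrix.kronecker_smul, Matrix.one_kronecker_one]
  -- (a) the square
  have hsq : ∀ v, Θ *ᵥ (Θ *ᵥ v) = δ • v := by
    intro v
    rw [← tauLin_tauInv e P v, hΘτ, hΘτ, Matrix.mulVec_mulVec, hkk, Matrix.smul_mulVec,
      Matrix.one_mulVec, map_smul]
  -- (b) skew-adjoint
  have hskew : ∀ u v, f (Θ *ᵥ u) v = - f u (Θ *ᵥ v) := by
    intro u v
    rw [← tauLin_tauInv e P u, ← tauLin_tauInv e P v, hΘτ, hΘτ, hform', hform',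
      formOfGram_mulVec_left, formOfGram_mulVec_right]
    have e1 : kᵀ * (B ⊗ₖ G) = - (B ⊗ₖ J2 F) := by
      rw [hk, ← Matrix.kroneckerMap_transpose, ← Matrix.mul_kronecker_mul, Matrix.transpose_one,
        Matrix.one_mul, hθ, theta2_transpose_mul hGdet hGs]
      ext ⟨i, a⟩ ⟨j, b⟩
      simp [Matrix.kroneckerMap_apply]
    have e2 : (B ⊗ₖ G) * k = B ⊗ₖ J2 F := by
      rw [hk, ← Matrix.mul_kronecker_mul, Matrix.mul_one, hθ, mul_theta2 hGdet]
    rw [e1, e2, formOfGram_neg_mat]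
    ring
  -- (c) the group
  have hH : ∀ h ∈ H, ∃ ε : F, ε * ε = 1 ∧
      ∀ v, (h : Matrix (Fin n) (Fin n) F) *ᵥ (Θ *ᵥ v) =
        ε • (Θ *ᵥ ((h : Matrix (Fin n) (Fin n) F) *ᵥ v)) := by
    intro h hh
    obtain ⟨a, b, hab⟩ := exists_kron_of_mem (hle hh)
    set A : Matrix (Fin n₁) (Fin n₁) F := (a : Matrix (Fin n₁) (Fin n₁) F) with hA
    set C : Matrix (Fin 2) (Fin 2) F := (b : Matrix (Fin 2) (Fin 2) F) with hC
    have hiso : ∀ x y, formOfGram id (B ⊗ₖ G) ((A ⊗ₖ C) *ᵥ x) ((A ⊗ₖ C) *ᵥ y) =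
        formOfGram id (B ⊗ₖ G) x y := by
      intro x y
      have h1 := hform' ((A ⊗ₖ C) *ᵥ x) ((A ⊗ₖ C) *ᵥ y)
      rw [← hab, ← hab, hfix _ ⟨h, hh, rfl⟩, hform'] at h1
      exact (mul_left_cancel₀ hc0 h1).symm
    have hmat : (A ⊗ₖ C)ᵀ * (B ⊗ₖ G) * (A ⊗ₖ C) = B ⊗ₖ G :=
      gram_ext (fun x y => by rw [← formOfGram_mulVec, hiso])
    have hmat' : (Aᵀ * B * A) ⊗ₖ (Cᵀ * G * C) = B ⊗ₖ G := by
      rw [Matrix.mul_kronecker_mul, Matrix.mul_kronecker_mul, Matrix.kroneckerMap_transpose]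
      exact hmat
    set ν : F := (Aᵀ * B * A) i₀ j₀ with hν
    have hentry : ∀ p q, ν * (Cᵀ * G * C) p q = B i₀ j₀ * G p q := by
      intro p q
      have := congrFun (congrFun hmat' (i₀, p)) (j₀, q)
      rwa [Matrix.kroneckerMap_apply, Matrix.kroneckerMap_apply] at this
    have hν0 : ν ≠ 0 := by
      intro h0
      apply hG0
      ext p q
      have := hentry p q
      rw [h0, zero_mul] at this
      exact (mul_eq_zero.mp this.symm).resolve_left hB1
    have hCG : Cᵀ * G * C = (B i₀ j₀ / ν) • G := by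
      ext p q
      rw [Matrix.smul_apply, smul_eq_mul]
      have := hentry p q
      field_simp
      linear_combination this
    obtain ⟨ε, hε, hθC⟩ := theta2_comm hGdet (div_ne_zero hB1 hν0) hCG
    refine ⟨ε, hε, fun v => ?_⟩
    rw [← tauLin_tauInv e P v, hΘτ, hab, hab, hΘτ, ← map_smul, Matrix.mulVec_mulVec,
      Matrix.mulVec_mulVec, ← Matrix.smul_mulVec]
    congr 2
    rw [← hθ] at hθC
    rw [hk, ← Matrix.mul_kronecker_mul, ← Matrix.mul_kronecker_mul, Matrix.mul_one, Matrix.one_mul,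
      hθC, Matrix.kronecker_smul, smul_smul, hε, one_smul]
  -- conclusion
  have hcard : Fintype.card (Fin n) / 2 = n₁ := by
    rw [Fintype.card_fin, hn]
    omega
  have := skew_sq_exit ho hf hδ0 hsq hskew hH
  rwa [hcard] at this

end Cfsg.Agent.Helper8.AschSp
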