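import Cfsg.Agent.Helper8.SpEvenA

/-!
# Symplectic groups in characteristic two: containments in orthogonal groups, part B

The standard symplectic form, and the stabiliser of a pair of totally isotropic subspaces.
-/

set_option autoImplicit false
set_option linter.unusedSectionVars false

namespace Cfsg.Agent.Helper8.SpEven

open Cfsg Cfsg.Geo Matrix

variable {ι : Type} [Fintype ι] [DecidableEq ι] {F : Type*} [Field F]

theorem sympForm_self (m : ℕ) (v : Fin m ⊕ Fin m → F) : sympForm m F v v = 0 := by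
  unfold sympForm
  simp only [Matrix.J, dotProduct, Matrix.mulVec, Fintype.sum_sum_type, Matrix.fromBlocks_apply₁₁,
    Matrix.fromBlocks_apply₁₂, Matrix.fromBlocks_apply₂₁, Matrix.fromBlocks_apply₂₂,
    Matrix.zero_apply, zero_mul, Finset.sum_const_zero, zero_add, add_zero, Matrix.neg_apply,
    Matrix.one_apply, neg_mul, ite_mul, one_mul, Finset.sum_neg_distrib, Finset.sum_ite_eq,
    Finset.mem_univ, if_true, mul_neg]
  rw [neg_add_eq_zero]
  apply Finset.sum_congr rfl
  intro i _
  ring

theorem sympForm_skew (m : ℕ) (u v : Fin m ⊕ Fin m → F) : sympForm m F u v = - sympForm m F v u := by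
  unfold sympForm
  rw [Matrix.dotProduct_mulVec, dotProduct_comm, ← Matrix.mulVec_transpose, Matrix.J_transpose,
    Matrix.neg_mulVec, dotProduct_neg]

theorem isSymplecticForm_sympForm (m : ℕ) : IsSymplecticForm (sympForm m F) := by
  have hb : IsBilinearForm (sympForm m F) := by
    refine ⟨fun x y v => ?_, fun c x v => ?_, fun v x y => ?_, fun c v x => ?_⟩
    · unfold sympForm
      rw [add_dotProduct]
    · unfold sympForm
      rw [smul_dotProduct, smul_eq_mul]
    · unfold sympForm
      rw [Matrix.mulVec_add, dotProduct_add]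
    · unfold sympForm
      rw [Matrix.mulVec_smul, dotProduct_smul, smul_eq_mul]
  have hnd : ∀ v : Fin m ⊕ Fin m → F, v ≠ 0 → ∃ x, sympForm m F x v ≠ 0 := by
    intro v hv
    have hJ : Matrix.J (Fin m) F *ᵥ v ≠ 0 := by
      intro h0
      apply hv
      have := congrArg (fun w => (-Matrix.J (Fin m) F) *ᵥ w) h0
      simp only [Matrix.mulVec_mulVec, Matrix.mulVec_zero] at this
      rwa [Matrix.neg_mul, Matrix.J_squared, neg_neg, Matrix.one_mulVec] at this
    obtain ⟨i, hi⟩ : ∃ i, (Matrix.J (Fin m) F *ᵥ v) i ≠ 0 := by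
      by_contra hcon
      push Not at hcon
      exact hJ (funext hcon)
    refine ⟨Pi.single i 1, ?_⟩
    unfold sympForm
    rwa [single_one_dotProduct]
  refine ⟨hb, sympForm_skew m, sympForm_self m, fun v hv => ⟨hnd v hv, ?_⟩⟩
  obtain ⟨x, hx⟩ := hnd v hv
  refine ⟨x, ?_⟩
  rw [sympForm_skew]
  exact neg_ne_zero.mpr hx

theorem isCompl_of_decomp {k : ℕ} {D : Fin 2 → Submodule F (ι → F)} (hD : IsMDecomposition k D) :
    IsCompl (D 0) (D 1) := by
  refine ⟨hD.indep.pairwiseDisjoint (by decide), ?_⟩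
  rw [codisjoint_iff]
  have h : (⨆ i, D i) ≤ D 0 ⊔ D 1 := by
    apply iSup_le
    intro i
    fin_cases i
    · exact le_sup_left
    · exact le_sup_right
  rw [hD.iSup_eq_top] at h
  exact top_le_iff.mp h

/-- **E1.** In characteristic two the stabiliser of a pair of complementary totally isotropic
subspaces in the isometry group of a symplectic form `f` preserves a non-degenerate quadratic form
polarising to `f`. -/
theorem quad_of_isotropic_pair (h2 : (2 : F) = 0) {f : (ι → F) → (ι → F) → F}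
    (hf : IsSymplecticForm f) {k : ℕ} (D : Fin 2 → Submodule F (ι → F))
    (hD : IsMDecomposition k D) (hts : ∀ i, IsTotallySingularFor f (D i)) :
    ∃ Q : (ι → F) → F, IsNondegenerateQuadraticForm Q ∧
      (∀ u v, QuadraticMap.polar Q u v = f u v) ∧
      ∀ g ∈ decompositionStabilizer D,
        (∀ u v, f ((g : Matrix ι ι F) *ᵥ u) ((g : Matrix ι ι F) *ᵥ v) = f u v) →
        ∀ v, Q ((g : Matrix ι ι F) *ᵥ v) = Q v := by
  have hc := isCompl_of_decomp hD
  refine ⟨pairQ f hc, pairQ_isNondegenerate hf h2 hc (hts 0) (hts 1),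
    pairQ_polar hf h2 hc (hts 0) (hts 1), ?_⟩
  rintro g ⟨σ, hσ⟩ hg v
  have hmap : ∀ i, ∀ x ∈ D i, (g : Matrix ι ι F) *ᵥ x ∈ D (σ i) := by
    intro i x hx
    rw [← hσ i]
    exact ⟨x, hx, Matrix.toLin'_apply _ _⟩
  have h01 : ∀ x : Fin 2, x = 0 ∨ x = 1 := by decide
  rcases h01 (σ 0) with h0 | h0
  · have h1 : σ 1 = 1 := by
      rcases h01 (σ 1) with h1 | h1
      · exact absurd (σ.injective (h1.trans h0.symm)) (by decide)
      · exact h1
    apply pairQ_of_preserve hc hg
    · intro x hx
      have := hmap 0 x hx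
      rwa [h0] at this
    · intro x hx
      have := hmap 1 x hx
      rwa [h1] at this
  · have h1 : σ 1 = 0 := by
      rcases h01 (σ 1) with h1 | h1
      · exact h1
      · exact absurd (σ.injective (h1.trans h0.symm)) (by decide)
    apply pairQ_of_swap hf h2 hc hg
    · intro x hx
      have := hmap 0 x hx
      rwa [h0] at this
    · intro x hx
      have := hmap 1 x hx
      rwa [h1] at this

theorem mem_spGL_iff {m : ℕ} {g : GL (Fin m ⊕ Fin m) F} : g ∈ spGL m F ↔
    ∀ u v, sympForm m F ((g : Matrix _ _ F) *ᵥ u) ((g : Matrix _ _ F) *ᵥ v) = sympForm m F u v :=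
  Iff.rfl

/-- **E1 for the standard form.** -/
theorem le_quad_of_isotropic_pair {m : ℕ} (h2 : (2 : F) = 0) {k : ℕ}
    (D : Fin 2 → Submodule F (Fin m ⊕ Fin m → F)) (hD : IsMDecomposition k D)
    (hts : ∀ i, IsTotallySingularFor (sympForm m F) (D i)) :
    ∃ Q : (Fin m ⊕ Fin m → F) → F, IsNondegenerateQuadraticForm Q ∧
      (∀ u v, QuadraticMap.polar Q u v = sympForm m F u v) ∧
      decompositionStabilizer D ⊓ spGL m F ≤ quadSimilarityGroup Q := by
  obtain ⟨Q, hQ, hpol, hinv⟩ := quad_of_isotropic_pair h2 (isSymplecticForm_sympForm m) D hD hts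
  refine ⟨Q, hQ, hpol, ?_⟩
  rintro g ⟨hg1, hg2⟩
  refine ⟨1, fun v => ?_⟩
  rw [Units.val_one, one_mul]
  exact hinv g hg1 (mem_spGL_iff.mp hg2) v

end Cfsg.Agent.Helper8.SpEven
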