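import Cfsg.Agent.Helper8.UnipCommutePSL
import Cfsg.Agent.Helper7.LinearCard

set_option autoImplicit false

namespace Cfsg.Agent.Helper8.UnipComm

open Matrix

theorem geom_mul (q m : ℕ) (hq : 1 ≤ q) : (q - 1) * ∑ j ∈ Finset.range m, q ^ j = q ^ m - 1 := by
  obtain ⟨t, rfl⟩ := Nat.exists_eq_add_of_le hq
  have : 1 + t - 1 = t := by omega
  rw [this]
  induction m with
  | zero => simp
  | succ m ih =>
    rw [Finset.sum_range_succ, mul_add, ih, pow_succ]
    have h1 : 1 ≤ (1 + t) ^ m := Nat.one_le_pow _ _ (by omega)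
    have h2 : (1 + t) ^ m * (1 + t) = (1 + t) ^ m + t * (1 + t) ^ m := by ring
    omega

theorem card_SL_formula {F : Type*} [Field F] [Fintype F] (k : ℕ) :
    Nat.card (SpecialLinearGroup (Fin (k + 1)) F) =
      (∑ j ∈ Finset.range (k + 1), Fintype.card F ^ j) *
        ∏ i ∈ Finset.range k, (Fintype.card F ^ (k + 1) - Fintype.card F ^ (i + 1)) := by
  have h1 := Cfsg.Agent.Helper7.card_units_mul_card_SL (n := Fin (k + 1)) (F := F)
  rw [Matrix.card_GL_field, Fin.prod_univ_eq_prod_range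
    (fun i => Fintype.card F ^ (k + 1) - Fintype.card F ^ i) (k + 1), Finset.prod_range_succ',
    pow_zero] at h1
  have hq : 2 ≤ Fintype.card F := Fintype.one_lt_card
  rw [← geom_mul _ _ (by omega)] at h1
  have h2 : 0 < Fintype.card F - 1 := by omega
  apply Nat.eq_of_mul_eq_mul_left h2
  rw [h1]
  ring

theorem prime_dvd_card_SL {F : Type*} [Field F] [Fintype F] (p : ℕ) [Fact p.Prime] [CharP F p]
    (m : ℕ) (hm : 2 ≤ m) (r : ℕ) (hr : r.Prime)
    (h : r = p ∨ ∃ i : ℕ, 1 ≤ i ∧ i ≤ m ∧ r ∣ Fintype.card F ^ i - 1) :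
    r ∣ Nat.card (SpecialLinearGroup (Fin m) F) := by
  obtain ⟨k, rfl⟩ : ∃ k, m = k + 1 := ⟨m - 1, by omega⟩
  rw [card_SL_formula]
  have hq : 2 ≤ Fintype.card F := Fintype.one_lt_card
  have hterm : ∀ i : ℕ, 1 ≤ i → i ≤ k → ∀ x : ℕ, x ∣ Fintype.card F ^ (k + 1) - Fintype.card F ^ i →
      x ∣ (∑ j ∈ Finset.range (k + 1), Fintype.card F ^ j) *
        ∏ i ∈ Finset.range k, (Fintype.card F ^ (k + 1) - Fintype.card F ^ (i + 1)) := by
    intro i hi1 hik x hx
    apply Dvd.dvd.mul_left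
    have : i - 1 ∈ Finset.range k := by rw [Finset.mem_range]; omega
    apply dvd_trans _ (Finset.dvd_prod_of_mem _ this)
    have h2 : i - 1 + 1 = i := by omega
    rw [h2]
    exact hx
  rcases h with rfl | ⟨i, hi1, him, hdvd⟩
  · -- r = p divides q^(k+1) - q^1
    apply hterm 1 le_rfl (by omega)
    have hpq : r ∣ Fintype.card F := by
      have := (CharP.cast_eq_zero_iff F r (Fintype.card F)).mp (by simp)
      exact this
    have : Fintype.card F ^ (k + 1) - Fintype.card F ^ 1
        = Fintype.card F * (Fintype.card F ^ k - 1) := by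
      rw [Nat.mul_sub, mul_one, pow_one, pow_succ']
    rw [this]
    exact Dvd.dvd.mul_right hpq _
  · by_cases hik : i ≤ k
    · apply hterm (k + 1 - i) (by omega) (by omega)
      have : Fintype.card F ^ (k + 1) - Fintype.card F ^ (k + 1 - i)
          = Fintype.card F ^ (k + 1 - i) * (Fintype.card F ^ i - 1) := by
        rw [Nat.mul_sub, mul_one, ← pow_add]
        congr 2
        omega
      rw [this]
      exact Dvd.dvd.mul_left hdvd _
    · have hi : i = k + 1 := by omega
      subst hi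
      rw [← geom_mul _ _ (by omega)] at hdvd
      rcases (Nat.Prime.dvd_mul hr).mp hdvd with h1 | h1
      · apply hterm k (by omega) le_rfl
        have : Fintype.card F ^ (k + 1) - Fintype.card F ^ k
            = Fintype.card F ^ k * (Fintype.card F - 1) := by
          rw [Nat.mul_sub, mul_one, pow_succ]
        rw [this]
        exact Dvd.dvd.mul_left h1 _
      · exact Dvd.dvd.mul_right h1 _

theorem primeFactors_subset {F : Type*} [Field F] [Fintype F] (p : ℕ) [Fact p.Prime] [CharP F p]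
    (n : ℕ) (hn : 4 ≤ n)
    (a b : Matrix.ProjectiveSpecialLinearGroup (Fin n) F) (ha : orderOf a = p)
    (hab : Commute a b) :
    (orderOf b).primeFactors ⊆
      (Nat.card (Matrix.SpecialLinearGroup (Fin (n - 2)) F)).primeFactors := by
  intro r hr
  rw [Nat.mem_primeFactors] at hr ⊢
  obtain ⟨hrp, hrb, hb0⟩ := hr
  refine ⟨hrp, ?_, Nat.card_pos.ne'⟩
  by_contra hnd
  haveI : Fact r.Prime := ⟨hrp⟩
  have h1 : r ≠ p := by
    rintro rfl
    exact hnd (prime_dvd_card_SL r (n - 2) (by omega) r hrp (Or.inl rfl))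
  have h2 : ∀ i : ℕ, 1 ≤ i → i ≤ n - 2 → ¬ r ∣ Fintype.card F ^ i - 1 := by
    intro i hi1 hi2 hd
    exact hnd (prime_dvd_card_SL p (n - 2) (by omega) r hrp (Or.inr ⟨i, hi1, hi2, hd⟩))
  have hb' : orderOf (b ^ (orderOf b / r)) = r := orderOf_pow_orderOf_div hb0 hrb
  exact false_of_commute_psl p n (by omega) r h1 a (b ^ (orderOf b / r)) ha hb'
    (hab.pow_right _) h2

end Cfsg.Agent.Helper8.UnipComm
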