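import Mathlib
import Cfsg.Prelude.Def_RootSubgroups
import Cfsg.Prelude.Def_Classical
import Cfsg.Prelude.Def_ClassicalGeometry
import Cfsg.Agent.Helper7.Hermitian
import Cfsg.Agent.Helper7.RankOneOmega
import Cfsg.Agent.Helper8.GUOrder

set_option autoImplicit false

/-! Unitary transvection groups `T(p)` as abstract root subgroups: basics (helper8). -/

namespace Cfsg.Agent.Helper8.SURoot

open Matrix Cfsg Cfsg.Agent.Helper7.Herm Cfsg.Agent.Helper8.GUOrder Cfsg.Agent.Helper7.R1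

variable {F : Type*} [Field F] [Fintype F] {q N : ℕ}

/-- the matrix of an element of `SU`. -/
abbrev mt (g : SU N F q) : Matrix (Fin N) (Fin N) F :=
  ((g : Matrix.SpecialLinearGroup (Fin N) F) : Matrix (Fin N) (Fin N) F)

omit [Fintype F] in
theorem mt_mul (g h : SU N F q) : mt (g * h) = mt g * mt h := rfl

omit [Fintype F] in
theorem mt_one : mt (1 : SU N F q) = 1 := rfl

omit [Fintype F] in
theorem mt_mul_mulVec (g h : SU N F q) (v : Fin N → F) : mt (g * h) *ᵥ v = mt g *ᵥ (mt h *ᵥ v) := by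
  rw [mt_mul, mulVec_mulVec]

omit [Fintype F] in
theorem mt_one_mulVec (v : Fin N → F) : mt (1 : SU N F q) *ᵥ v = v := by
  rw [mt_one, one_mulVec]

omit [Fintype F] in
theorem ext_mulVec {g h : SU N F q} (H : ∀ v : Fin N → F, mt g *ᵥ v = mt h *ᵥ v) : g = h :=
  Subtype.ext (Subtype.ext (Matrix.ext_iff_mulVec.mpr H))

omit [Fintype F] in
theorem herm_mt (g : SU N F q) (u v : Fin N → F) :
    hermForm N F q (mt g *ᵥ u) (mt g *ᵥ v) = hermForm N F q u v := g.2 u v

omit [Fintype F] in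
theorem mt_inv_mulVec (g : SU N F q) (v : Fin N → F) : mt g *ᵥ (mt g⁻¹ *ᵥ v) = v := by
  rw [← mt_mul_mulVec, mul_inv_cancel, mt_one_mulVec]

omit [Fintype F] in
theorem mt_inv_mulVec' (g : SU N F q) (v : Fin N → F) : mt g⁻¹ *ᵥ (mt g *ᵥ v) = v := by
  rw [← mt_mul_mulVec, inv_mul_cancel, mt_one_mulVec]

omit [Fintype F] in
theorem mulVec_ne_zero' (g : SU N F q) {p : Fin N → F} (hp : p ≠ 0) : mt g *ᵥ p ≠ 0 := by
  intro h
  apply hp
  rw [← mt_inv_mulVec' g p, h, mulVec_zero]

omit [Fintype F] in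
theorem hermForm_zero_left (v : Fin N → F) : hermForm N F q 0 v = 0 := by
  unfold hermForm
  simp

theorem hermForm_zero_right [hF : Fact (Fintype.card F = q ^ 2)] (v : Fin N → F) :
    hermForm N F q v 0 = 0 := by
  rw [hermForm_swap hF.out, hermForm_zero_left, zero_pow]
  have := one_le_q hF.out
  omega

omit [Fintype F] in
theorem det_unitaryTransvection (p : Fin N → F) (s : F) (hp : hermForm N F q p p = 0) :
    (unitaryTransvection N q p s).det = 1 := by
  unfold unitaryTransvection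
  rw [← Matrix.smul_vecMulVec, Matrix.vecMulVec_eq (Fin 1), det_one_add_replicateCol_mul_replicateRow]
  have : (fun j => p j ^ q) ⬝ᵥ (s • p) = s * hermForm N F q p p := by
    unfold hermForm
    rw [dotProduct, Finset.mul_sum]
    apply Finset.sum_congr rfl
    intro i _
    simp only [Pi.smul_apply, smul_eq_mul]
    ring
  rw [this, hp, mul_zero, add_zero]

variable [hF : Fact (Fintype.card F = q ^ 2)]

/-- the unitary transvection `x ↦ x + s h(x,p) p` as an element of `SU` (the identity when the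
parameters are not admissible). -/
noncomputable def TU (q : ℕ) [hF : Fact (Fintype.card F = q ^ 2)] (p : Fin N → F) (s : F) :
    SU N F q :=
  haveI := Classical.propDecidable (hermForm N F q p p = 0 ∧ s ^ q + s = 0)
  if h : hermForm N F q p p = 0 ∧ s ^ q + s = 0 then
    ⟨⟨unitaryTransvection N q p s, det_unitaryTransvection p s h.1⟩, by
      intro u v
      show hermForm N F q (unitaryTransvection N q p s *ᵥ u) (unitaryTransvection N q p s *ᵥ v) = _
      rw [hermForm_T hF.out, h.1, mul_zero, add_zero, h.2, zero_mul, add_zero]⟩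
  else 1

theorem TU_mulVec {p : Fin N → F} (hp : hermForm N F q p p = 0) {s : F} (hs : s ^ q + s = 0)
    (v : Fin N → F) : mt (TU q p s) *ᵥ v = v + (s * hermForm N F q v p) • p := by
  unfold TU
  rw [dif_pos ⟨hp, hs⟩]
  show unitaryTransvection N q p s *ᵥ v = _
  rw [unitaryTransvection_mulVec]

omit [Fintype F] hF in
theorem tz_zero (hq : 1 ≤ q) : (0 : F) ^ q + 0 = 0 := by
  rw [zero_pow (by omega), add_zero]

theorem tz_add {s s' : F} (hs : s ^ q + s = 0) (hs' : s' ^ q + s' = 0) :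
    (s + s') ^ q + (s + s') = 0 := by
  rw [add_pow_q hF.out]
  linear_combination hs + hs'

theorem tz_neg {s : F} (hs : s ^ q + s = 0) : (-s) ^ q + (-s) = 0 := by
  rw [neg_pow_q hF.out]
  linear_combination -hs

omit [Fintype F] hF in
/-- multiplying a trace-zero element by a fixed element. -/
theorem tz_mul_fixed {s c : F} (hs : s ^ q + s = 0) (hc : c ^ q = c) : (s * c) ^ q + s * c = 0 := by
  rw [mul_pow, hc]
  linear_combination c * hs

theorem norm_fixed (a : F) : (a * a ^ q) ^ q = a * a ^ q := by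
  rw [mul_pow, pow_q_pow_q hF.out]
  ring

theorem exists_tz_ne_zero : ∃ ε : F, ε ≠ 0 ∧ ε ^ q + ε = 0 := by
  obtain ⟨a, ha⟩ := exists_not_fixed hF.out
  refine ⟨a - a ^ q, ?_, ?_⟩
  · intro h
    apply ha
    linear_combination -h
  · rw [sub_pow_q hF.out, pow_q_pow_q hF.out]
    ring

omit hF in
theorem hermForm_smul_smul (a : F) (p : Fin N → F) :
    hermForm N F q (a • p) (a • p) = a * a ^ q * hermForm N F q p p := by
  rw [hermForm_smul_left, hermForm_smul_right]
  ring

theorem TU_zero (p : Fin N → F) (hp : hermForm N F q p p = 0) : TU q p (0 : F) = 1 := by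
  apply ext_mulVec
  intro v
  rw [TU_mulVec hp (tz_zero (one_le_q hF.out)), mt_one_mulVec, zero_mul, zero_smul, add_zero]

theorem TU_mul {p : Fin N → F} (hp : hermForm N F q p p = 0) {s s' : F} (hs : s ^ q + s = 0)
    (hs' : s' ^ q + s' = 0) : TU q p s * TU q p s' = TU q p (s + s') := by
  apply ext_mulVec
  intro v
  rw [mt_mul_mulVec, TU_mulVec hp hs', TU_mulVec hp hs, TU_mulVec hp (tz_add hs hs'),
    hermForm_add_left, hermForm_smul_left, hp, mul_zero, add_zero]
  module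

theorem TU_inv {p : Fin N → F} (hp : hermForm N F q p p = 0) {s : F} (hs : s ^ q + s = 0) :
    (TU q p s)⁻¹ = TU q p (-s) := by
  rw [inv_eq_iff_mul_eq_one, TU_mul hp hs (tz_neg hs), add_neg_cancel, TU_zero p hp]

theorem TU_comm {p : Fin N → F} (hp : hermForm N F q p p = 0) {s s' : F} (hs : s ^ q + s = 0)
    (hs' : s' ^ q + s' = 0) : TU q p s * TU q p s' = TU q p s' * TU q p s := by
  rw [TU_mul hp hs hs', TU_mul hp hs' hs, add_comm]

omit [Fintype F] hF in
theorem exists_herm_eq_one {p : Fin N → F} (hp0 : p ≠ 0) : ∃ w, hermForm N F q w p = 1 := by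
  obtain ⟨i, hi⟩ : ∃ i, p i ≠ 0 := by
    by_contra h
    push Not at h
    exact hp0 (funext h)
  refine ⟨Pi.single i ((p i ^ q)⁻¹), ?_⟩
  unfold hermForm
  rw [Finset.sum_eq_single i]
  · rw [Pi.single_eq_same, inv_mul_cancel₀ (pow_ne_zero q hi)]
  · intro j _ hj
    rw [Pi.single_eq_of_ne hj, zero_mul]
  · intro h
    exact absurd (Finset.mem_univ i) h

theorem TU_eq_one_iff {p : Fin N → F} (hp0 : p ≠ 0) (hp : hermForm N F q p p = 0) {s : F}
    (hs : s ^ q + s = 0) : TU q p s = 1 ↔ s = 0 := by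
  constructor
  · intro h
    obtain ⟨w, hw⟩ := exists_herm_eq_one (q := q) hp0
    have h1 := TU_mulVec hp hs w
    rw [h, mt_one_mulVec, hw, mul_one] at h1
    have h2 : s • p = 0 := by
      have := h1.symm
      rwa [add_eq_left] at this
    rcases smul_eq_zero.mp h2 with h3 | h3
    · exact h3
    · exact absurd h3 hp0
  · rintro rfl
    exact TU_zero p hp

theorem TU_smul {p : Fin N → F} (hp : hermForm N F q p p = 0) {s : F} (hs : s ^ q + s = 0)
    (a : F) : TU q (a • p) s = TU q p (s * (a * a ^ q)) := by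
  have hp' : hermForm N F q (a • p) (a • p) = 0 := by rw [hermForm_smul_smul, hp, mul_zero]
  apply ext_mulVec
  intro v
  rw [TU_mulVec hp' hs, TU_mulVec hp (tz_mul_fixed hs (norm_fixed a)), hermForm_smul_right,
    smul_smul]
  congr 2
  ring

theorem conj_TU (g : SU N F q) {p : Fin N → F} (hp : hermForm N F q p p = 0) {s : F}
    (hs : s ^ q + s = 0) : g * TU q p s * g⁻¹ = TU q (mt g *ᵥ p) s := by
  have hp' : hermForm N F q (mt g *ᵥ p) (mt g *ᵥ p) = 0 := by rw [herm_mt, hp]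
  apply ext_mulVec
  intro v
  rw [mt_mul_mulVec, mt_mul_mulVec, TU_mulVec hp hs, TU_mulVec hp' hs, mulVec_add, mt_inv_mulVec,
    mulVec_smul]
  congr 3
  conv_rhs => rw [← mt_inv_mulVec g v, herm_mt]

omit [Fintype F] hF in
/-- the generating set of the statement. -/
def RSet (q : ℕ) (p : Fin N → F) : Set (SU N F q) :=
  {g | (∀ v : Fin N → F, ∃ c : F, mt g *ᵥ v = v + c • p) ∧
    ∀ v : Fin N → F, hermForm N F q v p = 0 → mt g *ᵥ v = v}

omit [Fintype F] hF in
/-- the transvection group `T(p)`. -/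
def RG (q : ℕ) (p : Fin N → F) : Subgroup (SU N F q) := Subgroup.closure (RSet q p)

theorem mem_RSet_iff {p : Fin N → F} (hp0 : p ≠ 0) (hp : hermForm N F q p p = 0) (g : SU N F q) :
    g ∈ RSet q p ↔ ∃ s : F, s ^ q + s = 0 ∧ g = TU q p s := by
  constructor
  · rintro ⟨h1, h2⟩
    obtain ⟨w, hw⟩ := exists_herm_eq_one (q := q) hp0
    obtain ⟨s, hs⟩ := h1 w
    have hpw : hermForm N F q p w = 1 := by rw [hermForm_swap hF.out, hw, one_pow]
    -- the action on a general vector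
    have hact : ∀ v : Fin N → F, mt g *ᵥ v = v + (s * hermForm N F q v p) • p := by
      intro v
      have h3 : hermForm N F q (v - hermForm N F q v p • w) p = 0 := by
        rw [hermForm_sub_left, hermForm_smul_left, hw, mul_one, sub_self]
      have h4 := h2 _ h3
      rw [mulVec_sub, mulVec_smul, hs] at h4
      have h5 : mt g *ᵥ v = v - hermForm N F q v p • w + hermForm N F q v p • (w + s • p) := by
        rw [← h4]; abel
      rw [h5]
      module
    have hstz : s ^ q + s = 0 := by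
      have h3 := herm_mt g w w
      rw [hs, hermForm_add_left, hermForm_add_right hF.out, hermForm_add_right hF.out,
        hermForm_smul_left, hermForm_smul_left, hermForm_smul_right, hermForm_smul_right, hp,
        hpw, hw] at h3
      linear_combination h3
    refine ⟨s, hstz, ext_mulVec fun v => ?_⟩
    rw [hact v, TU_mulVec hp hstz]
  · rintro ⟨s, hs, rfl⟩
    refine ⟨fun v => ⟨s * hermForm N F q v p, TU_mulVec hp hs v⟩, fun v hv => ?_⟩
    rw [TU_mulVec hp hs, hv, mul_zero, zero_smul, add_zero]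

/-- the transvections with centre `p` as a subgroup. -/
def TP (q : ℕ) [hF : Fact (Fintype.card F = q ^ 2)] (p : Fin N → F)
    (hp : hermForm N F q p p = 0) : Subgroup (SU N F q) where
  carrier := {g | ∃ s : F, s ^ q + s = 0 ∧ g = TU q p s}
  mul_mem' := by
    rintro _ _ ⟨s, hs, rfl⟩ ⟨s', hs', rfl⟩
    exact ⟨s + s', tz_add hs hs', TU_mul hp hs hs'⟩
  one_mem' := ⟨0, tz_zero (one_le_q hF.out), (TU_zero p hp).symm⟩
  inv_mem' := by
    rintro _ ⟨s, hs, rfl⟩
    exact ⟨-s, tz_neg hs, TU_inv hp hs⟩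

theorem RG_eq_TP {p : Fin N → F} (hp0 : p ≠ 0) (hp : hermForm N F q p p = 0) :
    RG q p = TP q p hp := by
  have h : RSet q p = (TP q p hp : Set (SU N F q)) := by
    ext g
    exact mem_RSet_iff hp0 hp g
  rw [RG, h, Subgroup.closure_eq]

theorem mem_RG_iff {p : Fin N → F} (hp0 : p ≠ 0) (hp : hermForm N F q p p = 0) (g : SU N F q) :
    g ∈ RG q p ↔ ∃ s : F, s ^ q + s = 0 ∧ g = TU q p s := by
  rw [RG_eq_TP hp0 hp]
  exact Iff.rfl

theorem TU_mem_RG {p : Fin N → F} (hp0 : p ≠ 0) (hp : hermForm N F q p p = 0) {s : F}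
    (hs : s ^ q + s = 0) : TU q p s ∈ RG q p :=
  (mem_RG_iff hp0 hp _).mpr ⟨s, hs, rfl⟩

theorem RG_comm {p : Fin N → F} (hp0 : p ≠ 0) (hp : hermForm N F q p p = 0) :
    IsMulCommutative ↥(RG q p) := by
  constructor; constructor
  rintro ⟨a, ha⟩ ⟨b, hb⟩
  obtain ⟨s, hs, rfl⟩ := (mem_RG_iff hp0 hp a).mp ha
  obtain ⟨s', hs', rfl⟩ := (mem_RG_iff hp0 hp b).mp hb
  exact Subtype.ext (TU_comm hp hs hs')

theorem RG_nilpotent {p : Fin N → F} (hp0 : p ≠ 0) (hp : hermForm N F q p p = 0) :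
    Group.IsNilpotent ↥(RG q p) :=
  ⟨1, Subgroup.upperCentralSeries_one_eq_top_iff.mpr (RG_comm hp0 hp)⟩

theorem RG_ne_bot {p : Fin N → F} (hp0 : p ≠ 0) (hp : hermForm N F q p p = 0) : RG q p ≠ ⊥ := by
  intro h
  obtain ⟨ε, hε0, hε⟩ := exists_tz_ne_zero (F := F) (q := q)
  have h1 : TU q p ε ∈ RG q p := TU_mem_RG hp0 hp hε
  rw [h, Subgroup.mem_bot, TU_eq_one_iff hp0 hp hε] at h1
  exact hε0 h1

theorem RG_smul {p : Fin N → F} (hp0 : p ≠ 0) (hp : hermForm N F q p p = 0) {a : F} (ha : a ≠ 0) :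
    RG q (a • p) = RG q p := by
  have hp0' : a • p ≠ 0 := smul_ne_zero ha hp0
  have hp' : hermForm N F q (a • p) (a • p) = 0 := by rw [hermForm_smul_smul, hp, mul_zero]
  have hn0 : a * a ^ q ≠ 0 := mul_ne_zero ha (pow_ne_zero q ha)
  ext g
  rw [mem_RG_iff hp0' hp', mem_RG_iff hp0 hp]
  constructor
  · rintro ⟨s, hs, rfl⟩
    exact ⟨s * (a * a ^ q), tz_mul_fixed hs (norm_fixed a), TU_smul hp hs a⟩
  · rintro ⟨s, hs, rfl⟩
    have hfix : ((a * a ^ q)⁻¹) ^ q = (a * a ^ q)⁻¹ := by rw [inv_pow, norm_fixed]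
    refine ⟨s * (a * a ^ q)⁻¹, tz_mul_fixed hs hfix, ?_⟩
    rw [TU_smul hp (tz_mul_fixed hs hfix)]
    congr 1
    field_simp

theorem conjBy_RG {p : Fin N → F} (hp0 : p ≠ 0) (hp : hermForm N F q p p = 0) (g : SU N F q) :
    conjBy (RG q p) g = RG q (mt g *ᵥ p) := by
  have hp0' : mt g *ᵥ p ≠ 0 := mulVec_ne_zero' g hp0
  have hp' : hermForm N F q (mt g *ᵥ p) (mt g *ᵥ p) = 0 := by rw [herm_mt, hp]
  ext x
  rw [mem_conjBy, mem_RG_iff hp0 hp, mem_RG_iff hp0' hp']
  constructor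
  · rintro ⟨s, hs, hc⟩
    refine ⟨s, hs, ?_⟩
    rw [← conj_TU g hp hs, ← hc]
    group
  · rintro ⟨s, hs, rfl⟩
    refine ⟨s, hs, ?_⟩
    rw [← conj_TU g hp hs]
    group

omit [Fintype F] hF in
/-- the family of all transvection groups. -/
def SSU (N : ℕ) (F : Type*) [Field F] (q : ℕ) : Set (Subgroup (SU N F q)) :=
  {A | ∃ p : Fin N → F, p ≠ 0 ∧ hermForm N F q p p = 0 ∧ A = RG q p}

theorem SSU_conj_mem : ∀ A ∈ SSU N F q, ∀ g : SU N F q, conjBy A g ∈ SSU N F q := by
  rintro _ ⟨p, hp0, hp, rfl⟩ g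
  exact ⟨_, mulVec_ne_zero' g hp0, by rw [herm_mt, hp], conjBy_RG hp0 hp g⟩

end Cfsg.Agent.Helper8.SURoot
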