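import Mathlib
import Cfsg.Agent.Helper8.SURootA

set_option autoImplicit false

/-! Unitary transvection groups `T(p)` as abstract root subgroups: pairs (helper8). -/

namespace Cfsg.Agent.Helper8.SURoot

open Matrix Cfsg Cfsg.Agent.Helper7.Herm Cfsg.Agent.Helper8.GUOrder Cfsg.Agent.Helper7.R1
open scoped commutatorElement

variable {F : Type*} [Field F] [Fintype F] {q N : ℕ} [hF : Fact (Fintype.card F = q ^ 2)]

theorem herm_swap_eq_zero {p p' : Fin N → F} (h : hermForm N F q p p' = 0) :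
    hermForm N F q p' p = 0 := by
  rw [hermForm_swap hF.out, h, zero_pow]
  have := one_le_q hF.out
  omega

theorem herm_swap_ne_zero {p p' : Fin N → F} (h : hermForm N F q p p' ≠ 0) :
    hermForm N F q p' p ≠ 0 := fun h' => h (herm_swap_eq_zero h')

theorem TU_comm_of_orth {p p' : Fin N → F} (hp : hermForm N F q p p = 0)
    (hp' : hermForm N F q p' p' = 0) (h : hermForm N F q p p' = 0) {s s' : F}
    (hs : s ^ q + s = 0) (hs' : s' ^ q + s' = 0) :
    TU q p s * TU q p' s' = TU q p' s' * TU q p s := by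
  have h' := herm_swap_eq_zero h
  apply ext_mulVec
  intro v
  rw [mt_mul_mulVec, mt_mul_mulVec, TU_mulVec hp' hs', TU_mulVec hp hs, TU_mulVec hp hs,
    TU_mulVec hp' hs', hermForm_add_left, hermForm_add_left, hermForm_smul_left,
    hermForm_smul_left, h, h']
  simp only [mul_zero, add_zero]
  abel

theorem commutator_eq_bot_of_orth {p p' : Fin N → F} (hp0 : p ≠ 0) (hp : hermForm N F q p p = 0)
    (hp0' : p' ≠ 0) (hp' : hermForm N F q p' p' = 0) (h : hermForm N F q p p' = 0) :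
    ⁅RG q p, RG q p'⁆ = ⊥ := by
  rw [Subgroup.commutator_eq_bot_iff_le_centralizer]
  intro a ha
  rw [Subgroup.mem_centralizer_iff]
  intro b hb
  obtain ⟨s, hs, rfl⟩ := (mem_RG_iff hp0 hp a).mp ha
  obtain ⟨s', hs', rfl⟩ := (mem_RG_iff hp0' hp' b).mp hb
  exact (TU_comm_of_orth hp hp' h hs hs').symm

omit [Fintype F] hF in
theorem ne_zero_of_form_left {p p' : Fin N → F} (h : hermForm N F q p p' ≠ 0) : p ≠ 0 := by
  rintro rfl
  exact h (hermForm_zero_left _)

theorem ne_zero_of_form_right {p p' : Fin N → F} (h : hermForm N F q p p' ≠ 0) : p' ≠ 0 := by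
  rintro rfl
  exact h (hermForm_zero_right _)

theorem RG_ne_of_form {p p' : Fin N → F} (hp : hermForm N F q p p = 0)
    (hp' : hermForm N F q p' p' = 0) (h : hermForm N F q p p' ≠ 0) : RG q p ≠ RG q p' := by
  have hp0 := ne_zero_of_form_left h
  have hp0' := ne_zero_of_form_right h
  intro e
  obtain ⟨ε, hε0, hε⟩ := exists_tz_ne_zero (F := F) (q := q)
  have h1 : TU q p ε ∈ RG q p' := e ▸ TU_mem_RG hp0 hp hε
  obtain ⟨s', hs', hd⟩ := (mem_RG_iff hp0' hp' _).mp h1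
  have h2 := TU_mulVec hp hε p'
  rw [hd, TU_mulVec hp' hs', hp', mul_zero, zero_smul, add_zero] at h2
  have h3 : (ε * hermForm N F q p' p) • p = 0 := by
    have := h2
    rwa [eq_comm, add_eq_left] at this
  rcases smul_eq_zero.mp h3 with h4 | h4
  · rcases mul_eq_zero.mp h4 with h5 | h5
    · exact hε0 h5
    · exact herm_swap_ne_zero h h5
  · exact hp0 h4

omit [Fintype F] hF in
theorem tz_inv {s : F} (hs : s ^ q + s = 0) : (s⁻¹) ^ q + s⁻¹ = 0 := by
  by_cases h0 : s = 0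
  · subst h0
    rw [_root_.inv_zero]
    exact hs
  · have hsq : s ^ q = -s := by linear_combination hs
    rw [inv_pow, hsq]
    field_simp
    ring

theorem rankOneCondition_of_form {p p' : Fin N → F} (hp : hermForm N F q p p = 0)
    (hp' : hermForm N F q p' p' = 0) (h : hermForm N F q p p' ≠ 0) :
    RankOneCondition (RG q p) (RG q p') := by
  have hp0 := ne_zero_of_form_left h
  have hp0' := ne_zero_of_form_right h
  intro a ha ha1
  obtain ⟨s, hs, rfl⟩ := (mem_RG_iff hp0 hp a).mp ha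
  have hs0 : s ≠ 0 := fun h0 => ha1 ((TU_eq_one_iff hp0 hp hs).mpr h0)
  obtain ⟨γ, hγ⟩ : ∃ γ, γ = hermForm N F q p p' := ⟨_, rfl⟩
  have hγ0 : γ ≠ 0 := hγ ▸ h
  have hγ' : hermForm N F q p' p = γ ^ q := by rw [hermForm_swap hF.out, ← hγ]
  have hn0 : γ * γ ^ q ≠ 0 := mul_ne_zero hγ0 (pow_ne_zero q hγ0)
  have hfix : ((γ * γ ^ q)⁻¹) ^ q = (γ * γ ^ q)⁻¹ := by rw [inv_pow, norm_fixed]
  have hs' : (s⁻¹ * (γ * γ ^ q)⁻¹) ^ q + s⁻¹ * (γ * γ ^ q)⁻¹ = 0 := tz_mul_fixed (tz_inv hs) hfix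
  have hs'0 : s⁻¹ * (γ * γ ^ q)⁻¹ ≠ 0 := mul_ne_zero (inv_ne_zero hs0) (inv_ne_zero hn0)
  refine ⟨TU q p' (s⁻¹ * (γ * γ ^ q)⁻¹), TU_mem_RG hp0' hp' hs', ?_, ?_⟩
  · intro h1
    exact hs'0 ((TU_eq_one_iff hp0' hp' hs').mp h1)
  · rw [conjBy_RG hp0 hp, conjBy_RG hp0' hp', TU_inv hp' hs', TU_inv hp hs,
      TU_mulVec hp' (tz_neg hs'), TU_mulVec hp (tz_neg hs), ← hγ, hγ']
    have hne : p' + (-s * γ ^ q) • p ≠ 0 := by
      intro h0
      have h1 := congrArg (fun v => hermForm N F q v p') h0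
      simp only [hermForm_add_left, hermForm_smul_left, hp', ← hγ, hermForm_zero_left,
        zero_add] at h1
      rcases mul_eq_zero.mp h1 with h2 | h2
      · rcases mul_eq_zero.mp h2 with h3 | h3
        · exact hs0 (neg_eq_zero.mp h3)
        · exact pow_ne_zero q hγ0 h3
      · exact hγ0 h2
    have hiso : hermForm N F q (p' + (-s * γ ^ q) • p) (p' + (-s * γ ^ q) • p) = 0 := by
      have := herm_mt (TU q p (-s)) p' p'
      rw [TU_mulVec hp (tz_neg hs), hγ', hp'] at this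
      exact this
    have e : p + (-(s⁻¹ * (γ * γ ^ q)⁻¹) * γ) • p' =
        (-(s⁻¹ * (γ * γ ^ q)⁻¹) * γ) • (p' + (-s * γ ^ q) • p) := by
      have h2 : (-(s⁻¹ * (γ * γ ^ q)⁻¹) * γ) * (-s * γ ^ q) = 1 := by field_simp
      rw [smul_add, smul_smul, h2, one_smul, add_comm]
    rw [e, RG_smul hne hiso (mul_ne_zero (neg_ne_zero.mpr hs'0) hγ0)]

theorem isRankOnePair_of_form {p p' : Fin N → F} (hp : hermForm N F q p p = 0)
    (hp' : hermForm N F q p' p' = 0) (h : hermForm N F q p p' ≠ 0) :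
    IsRankOnePair (RG q p) (RG q p') :=
  ⟨RG_ne_of_form hp hp' h, RG_nilpotent (ne_zero_of_form_left h) hp,
    RG_nilpotent (ne_zero_of_form_right h) hp', rankOneCondition_of_form hp hp' h,
    rankOneCondition_of_form hp' hp (herm_swap_ne_zero h)⟩

theorem form_ne_of_isRankOnePair {p p' : Fin N → F} (hp0 : p ≠ 0) (hp : hermForm N F q p p = 0)
    (hp0' : p' ≠ 0) (hp' : hermForm N F q p' p' = 0)
    (h : IsRankOnePair (RG q p) (RG q p')) : hermForm N F q p p' ≠ 0 := by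
  intro h0
  have h0' := herm_swap_eq_zero h0
  obtain ⟨ε, hε0, hε⟩ := exists_tz_ne_zero (F := F) (q := q)
  have h1 : TU q p ε ≠ 1 := fun e => hε0 ((TU_eq_one_iff hp0 hp hε).mp e)
  obtain ⟨b, hb, -, hb2⟩ := h.cond_left (TU q p ε) (TU_mem_RG hp0 hp hε) h1
  obtain ⟨s', hs', rfl⟩ := (mem_RG_iff hp0' hp' b).mp hb
  rw [conjBy_RG hp0 hp, conjBy_RG hp0' hp', TU_inv hp' hs', TU_inv hp hε,
    TU_mulVec hp' (tz_neg hs'), TU_mulVec hp (tz_neg hε), h0, h0', mul_zero, zero_smul,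
    add_zero, mul_zero, zero_smul, add_zero] at hb2
  exact h.ne hb2

theorem not_commutatorCase {p p' : Fin N → F} (hp0 : p ≠ 0) (hp : hermForm N F q p p = 0)
    (hp0' : p' ≠ 0) (hp' : hermForm N F q p' p' = 0) :
    ¬ (⁅RG q p, RG q p'⁆ ∈ SSU N F q ∧
      ∀ c ∈ ⁅RG q p, RG q p'⁆, ∀ x ∈ RG q p ⊔ RG q p', c * x = x * c) := by
  rintro ⟨h1, h2⟩
  by_cases h : hermForm N F q p p' = 0
  · rw [commutator_eq_bot_of_orth hp0 hp hp0' hp' h] at h1
    obtain ⟨r, hr0, hr, e⟩ := h1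
    exact RG_ne_bot hr0 hr e.symm
  · obtain ⟨γ, hγ⟩ : ∃ γ, γ = hermForm N F q p p' := ⟨_, rfl⟩
    have hγ0 : γ ≠ 0 := hγ ▸ h
    have hγ' : hermForm N F q p' p = γ ^ q := by rw [hermForm_swap hF.out, ← hγ]
    obtain ⟨ε, hε0, hε⟩ := exists_tz_ne_zero (F := F) (q := q)
    have hz : ⁅TU q p ε, TU q p' ε⁆ ∈ ⁅RG q p, RG q p'⁆ :=
      Subgroup.commutator_mem_commutator (TU_mem_RG hp0 hp hε) (TU_mem_RG hp0' hp' hε)
    have hcomm := h2 _ hz (TU q p ε) (Subgroup.mem_sup_left (TU_mem_RG hp0 hp hε))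
    have e1 : mt (TU q p ε) *ᵥ p = p := by
      rw [TU_mulVec hp hε, hp, mul_zero, zero_smul, add_zero]
    obtain ⟨y, hy⟩ : ∃ y, y = mt (⁅TU q p ε, TU q p' ε⁆ : SU N F q) *ᵥ p := ⟨_, rfl⟩
    have e2 := congrArg (fun g : SU N F q => mt g *ᵥ p) hcomm
    simp only [mt_mul_mulVec, e1] at e2
    rw [← hy, TU_mulVec hp hε, eq_comm, add_eq_left] at e2
    have e3 : hermForm N F q y p = 0 := by
      rcases smul_eq_zero.mp e2 with h4 | h4
      · rcases mul_eq_zero.mp h4 with h5 | h5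
        · exact absurd h5 hε0
        · exact h5
      · exact absurd h4 hp0
    -- compute `y`
    have e4 : y = (1 + ε * ε * (γ * γ ^ q) + (ε * ε * (γ * γ ^ q)) * (ε * ε * (γ * γ ^ q))) • p
        + (ε * ε * (γ * γ ^ q) * ε * γ) • p' := by
      rw [hy, commutatorElement_def, TU_inv hp hε, TU_inv hp' hε]
      simp only [mt_mul_mulVec, TU_mulVec hp hε, TU_mulVec hp' hε, TU_mulVec hp (tz_neg hε),
        TU_mulVec hp' (tz_neg hε), hermForm_add_left, hermForm_smul_left, hp, hp', ← hγ, hγ',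
        mul_zero, add_zero, zero_add]
      module
    rw [e4, hermForm_add_left, hermForm_smul_left, hermForm_smul_left, hp, hγ', mul_zero,
      zero_add] at e3
    have h5 : ε * ε * (γ * γ ^ q) * ε * γ * γ ^ q = 0 := e3
    have hq0 : γ ^ q ≠ 0 := pow_ne_zero q hγ0
    simp only [mul_eq_zero, hε0, hγ0, hq0, or_self] at h5

/-- surjectivity of the trace onto the fixed field. -/
theorem exists_trace {c : F} (hc : c ^ q = c) : ∃ z : F, z ^ q + z = c := by
  obtain ⟨a, ha⟩ : ∃ a : F, a ^ q + a ≠ 0 := by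
    by_cases h2 : (1 : F) + 1 = 0
    · obtain ⟨a, ha⟩ := exists_not_fixed hF.out
      refine ⟨a, fun h => ha ?_⟩
      linear_combination h - a * h2
    · exact ⟨1, by rw [one_pow]; exact h2⟩
  have hfix : (a ^ q + a) ^ q = a ^ q + a := by
    rw [add_pow_q hF.out, pow_q_pow_q hF.out, add_comm]
  refine ⟨c * a * (a ^ q + a)⁻¹, ?_⟩
  rw [mul_pow, mul_pow, inv_pow, hfix, hc]
  field_simp

theorem exists_middle {p p' : Fin N → F} (hp0 : p ≠ 0) (hp : hermForm N F q p p = 0)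
    (hp0' : p' ≠ 0) (h : hermForm N F q p p' = 0) :
    ∃ r, hermForm N F q r r = 0 ∧ hermForm N F q p r ≠ 0 ∧ hermForm N F q r p' ≠ 0 := by
  obtain ⟨u, hu⟩ := exists_herm_eq_one (q := q) hp0
  obtain ⟨u', hu'⟩ := exists_herm_eq_one (q := q) hp0'
  -- a vector not orthogonal to `p` and `p'`
  obtain ⟨x, hx, hx'⟩ : ∃ x, hermForm N F q x p ≠ 0 ∧ hermForm N F q x p' ≠ 0 := by
    by_cases h1 : hermForm N F q u p' ≠ 0
    · exact ⟨u, by rw [hu]; exact one_ne_zero, h1⟩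
    · push Not at h1
      by_cases h2 : hermForm N F q u' p ≠ 0
      · exact ⟨u', h2, by rw [hu']; exact one_ne_zero⟩
      · push Not at h2
        refine ⟨u + u', ?_, ?_⟩
        · rw [hermForm_add_left, hu, h2, add_zero]; exact one_ne_zero
        · rw [hermForm_add_left, h1, hu', zero_add]; exact one_ne_zero
  have hpx : hermForm N F q p x ≠ 0 := herm_swap_ne_zero hx
  have hxx : (-hermForm N F q x x) ^ q = -hermForm N F q x x := by
    rw [neg_pow_q hF.out, ← hermForm_swap hF.out]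
  obtain ⟨z, hz⟩ := exists_trace hxx
  have hzq : (z * (hermForm N F q p x)⁻¹) ^ q * hermForm N F q x p = z ^ q := by
    rw [mul_pow, inv_pow, ← hermForm_swap hF.out x p]
    field_simp
  refine ⟨x + (z * (hermForm N F q p x)⁻¹) • p, ?_, ?_, ?_⟩
  · rw [hermForm_add_left, hermForm_add_right hF.out, hermForm_add_right hF.out,
      hermForm_smul_left, hermForm_smul_left, hermForm_smul_right, hermForm_smul_right, hp,
      mul_zero, mul_zero, add_zero, hzq, mul_assoc, inv_mul_cancel₀ hpx, mul_one]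
    linear_combination hz
  · rw [hermForm_add_right hF.out, hermForm_smul_right, hp, mul_zero, add_zero]
    exact hpx
  · rw [hermForm_add_left, hermForm_smul_left, h, mul_zero, add_zero]
    exact hx'

theorem SSU_connected : IsConnectedFamily (FAdj (SSU N F q)) (SSU N F q) := by
  rintro _ ⟨p, hp0, hp, rfl⟩ _ ⟨p', hp0', hp', rfl⟩
  by_cases h : hermForm N F q p p' = 0
  · obtain ⟨r, hr, hr1, hr2⟩ := exists_middle hp0 hp hp0' h
    have hr0 : r ≠ 0 := ne_zero_of_form_right hr1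
    exact Relation.ReflTransGen.tail
      (Relation.ReflTransGen.single ⟨⟨p, hp0, hp, rfl⟩, ⟨r, hr0, hr, rfl⟩,
        isRankOnePair_of_form hp hr hr1⟩)
      ⟨⟨r, hr0, hr, rfl⟩, ⟨p', hp0', hp', rfl⟩, isRankOnePair_of_form hr hp' hr2⟩
  · exact Relation.ReflTransGen.single ⟨⟨p, hp0, hp, rfl⟩, ⟨p', hp0', hp', rfl⟩,
      isRankOnePair_of_form hp hp' h⟩

theorem SSU_pair : ∀ A ∈ SSU N F q, ∀ B ∈ SSU N F q, ⁅A, B⁆ = ⊥ ∨ IsRankOnePair A B := by
  rintro _ ⟨p, hp0, hp, rfl⟩ _ ⟨p', hp0', hp', rfl⟩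
  by_cases h : hermForm N F q p p' = 0
  · exact Or.inl (commutator_eq_bot_of_orth hp0 hp hp0' hp' h)
  · exact Or.inr (isRankOnePair_of_form hp hp' h)

end Cfsg.Agent.Helper8.SURoot
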