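import Mathlib
import Cfsg.Agent.Helper8.SURootB
import Cfsg.Agent.S5016

set_option autoImplicit false

/-! Unitary transvection groups `T(p)` as abstract root subgroups: the `SL₂` attached to a
hyperbolic pair (helper8). -/

namespace Cfsg.Agent.Helper8.SURoot

open Matrix Cfsg Cfsg.Agent.Helper7.Herm Cfsg.Agent.Helper8.GUOrder Cfsg.Agent.Helper7.R1

variable {F : Type*} [Field F] [Fintype F] {q N : ℕ}

/-- the vector of `q`-th powers. -/
def fr (q : ℕ) (p : Fin N → F) : Fin N → F := fun j => p j ^ q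

omit [Fintype F] in
theorem fr_dot (p x : Fin N → F) : fr q p ⬝ᵥ x = hermForm N F q x p := by
  unfold fr hermForm dotProduct
  apply Finset.sum_congr rfl
  intro i _
  ring

/-- the matrix acting as `T` on the hyperbolic plane `⟨p, p'⟩` (in the basis `p, p'`) and
trivially on its orthogonal complement. -/
def PsiMat (q : ℕ) (p p' : Fin N → F) (T : Matrix (Fin 2) (Fin 2) F) :
    Matrix (Fin N) (Fin N) F :=
  1 + vecMulVec ((T 0 0 - 1) • p + T 1 0 • p') (fr q p')
    + vecMulVec (T 0 1 • p + (T 1 1 - 1) • p') (fr q p)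

omit [Fintype F] in
theorem PsiMat_mulVec (p p' : Fin N → F) (T : Matrix (Fin 2) (Fin 2) F) (x : Fin N → F) :
    PsiMat q p p' T *ᵥ x = x + hermForm N F q x p' • ((T 0 0 - 1) • p + T 1 0 • p')
      + hermForm N F q x p • (T 0 1 • p + (T 1 1 - 1) • p') := by
  unfold PsiMat
  rw [add_mulVec, add_mulVec, one_mulVec, vecMulVec_mulVec, vecMulVec_mulVec, op_smul_eq_smul,
    op_smul_eq_smul, fr_dot, fr_dot]

omit [Fintype F] in
theorem PsiMat_one (p p' : Fin N → F) : PsiMat q p p' (1 : Matrix (Fin 2) (Fin 2) F) = 1 := by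
  rw [Matrix.ext_iff_mulVec]
  intro x
  rw [PsiMat_mulVec, one_mulVec]
  simp

theorem PsiMat_det {p p' : Fin N → F} (hp : hermForm N F q p p = 0)
    (hp' : hermForm N F q p' p' = 0) (h1 : hermForm N F q p p' = 1)
    (h1' : hermForm N F q p' p = 1) (T : Matrix (Fin 2) (Fin 2) F) :
    (PsiMat q p p' T).det = T.det := by
  have e : PsiMat q p p' T = 1 +
      (Matrix.of fun (i : Fin N) (k : Fin 2) =>
        ![((T 0 0 - 1) • p + T 1 0 • p') i, (T 0 1 • p + (T 1 1 - 1) • p') i] k) *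
      (Matrix.of fun (k : Fin 2) (j : Fin N) => ![fr q p' j, fr q p j] k) := by
    unfold PsiMat
    rw [add_assoc]
    congr 1
    ext i j
    simp [Matrix.mul_apply, Fin.sum_univ_two, vecMulVec_apply]
  rw [e, det_one_add_mul_comm]
  have e2 : (1 : Matrix (Fin 2) (Fin 2) F) +
      (Matrix.of fun (k : Fin 2) (j : Fin N) => ![fr q p' j, fr q p j] k) *
      (Matrix.of fun (i : Fin N) (k : Fin 2) =>
        ![((T 0 0 - 1) • p + T 1 0 • p') i, (T 0 1 • p + (T 1 1 - 1) • p') i] k) = T := by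
    have d1 : ∀ a : Fin N → F, ∑ j, fr q p' j * a j = hermForm N F q a p' := fun a => fr_dot p' a
    have d2 : ∀ a : Fin N → F, ∑ j, fr q p j * a j = hermForm N F q a p := fun a => fr_dot p a
    ext i j
    rw [Matrix.add_apply, Matrix.mul_apply]
    fin_cases i <;> fin_cases j
    · show (1 : Matrix (Fin 2) (Fin 2) F) 0 0 +
        ∑ x, fr q p' x * ((T 0 0 - 1) • p + T 1 0 • p') x = T 0 0
      rw [d1, hermForm_add_left, hermForm_smul_left, hermForm_smul_left, h1, hp',
        Matrix.one_apply_eq]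
      ring
    · show (1 : Matrix (Fin 2) (Fin 2) F) 0 1 +
        ∑ x, fr q p' x * (T 0 1 • p + (T 1 1 - 1) • p') x = T 0 1
      rw [d1, hermForm_add_left, hermForm_smul_left, hermForm_smul_left, h1, hp',
        Matrix.one_apply_ne (by decide)]
      ring
    · show (1 : Matrix (Fin 2) (Fin 2) F) 1 0 +
        ∑ x, fr q p x * ((T 0 0 - 1) • p + T 1 0 • p') x = T 1 0
      rw [d2, hermForm_add_left, hermForm_smul_left, hermForm_smul_left, h1', hp,
        Matrix.one_apply_ne (by decide)]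
      ring
    · show (1 : Matrix (Fin 2) (Fin 2) F) 1 1 +
        ∑ x, fr q p x * (T 0 1 • p + (T 1 1 - 1) • p') x = T 1 1
      rw [d2, hermForm_add_left, hermForm_smul_left, hermForm_smul_left, h1', hp,
        Matrix.one_apply_eq]
      ring
  rw [e2]

variable [hF : Fact (Fintype.card F = q ^ 2)]

theorem PsiMat_mul {p p' : Fin N → F} (hp : hermForm N F q p p = 0)
    (hp' : hermForm N F q p' p' = 0) (h1 : hermForm N F q p p' = 1)
    (T T' : Matrix (Fin 2) (Fin 2) F) :
    PsiMat q p p' (T * T') = PsiMat q p p' T * PsiMat q p p' T' := by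
  have h1' : hermForm N F q p' p = 1 := by rw [hermForm_swap hF.out, h1, one_pow]
  rw [Matrix.ext_iff_mulVec]
  intro x
  rw [← mulVec_mulVec, PsiMat_mulVec, PsiMat_mulVec p p' T, PsiMat_mulVec p p' T']
  simp only [hermForm_add_left, hermForm_smul_left, hp, hp', h1, h1', Matrix.mul_apply,
    Fin.sum_univ_two, mul_zero, mul_one, add_zero, zero_add]
  module

theorem PsiMat_form {p p' : Fin N → F} (hp : hermForm N F q p p = 0)
    (hp' : hermForm N F q p' p' = 0) (h1 : hermForm N F q p p' = 1)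
    {T : Matrix (Fin 2) (Fin 2) F} (h00 : T 0 0 ^ q = T 0 0) (h11 : T 1 1 ^ q = T 1 1)
    (h01 : T 0 1 ^ q = -T 0 1) (h10 : T 1 0 ^ q = -T 1 0)
    (hdet : T 0 0 * T 1 1 - T 0 1 * T 1 0 = 1) (x y : Fin N → F) :
    hermForm N F q (PsiMat q p p' T *ᵥ x) (PsiMat q p p' T *ᵥ y) = hermForm N F q x y := by
  have h1' : hermForm N F q p' p = 1 := by rw [hermForm_swap hF.out, h1, one_pow]
  have ha : (T 0 0 - 1) ^ q = T 0 0 - 1 := by rw [sub_pow_q hF.out, h00, one_pow]
  have hd : (T 1 1 - 1) ^ q = T 1 1 - 1 := by rw [sub_pow_q hF.out, h11, one_pow]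
  rw [PsiMat_mulVec, PsiMat_mulVec]
  simp only [hermForm_add_left, hermForm_add_right hF.out, hermForm_smul_left,
    hermForm_smul_right, hp, hp', h1, h1', ha, hd, h01, h10]
  rw [hermForm_swap hF.out p y, hermForm_swap hF.out p' y]
  linear_combination (hermForm N F q x p * hermForm N F q y p' ^ q
    + hermForm N F q x p' * hermForm N F q y p ^ q) * hdet

variable {L : Type*} [Field L]

omit [Fintype F] hF in
/-- the twisted matrix `D M D⁻¹`, `D = diag(ε, 1)`, with entries mapped into `F`. -/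
def tw (ι : L →+* F) (ε : F) (M : Matrix (Fin 2) (Fin 2) L) : Matrix (Fin 2) (Fin 2) F :=
  !![ι (M 0 0), ε * ι (M 0 1); ε⁻¹ * ι (M 1 0), ι (M 1 1)]

omit [Fintype F] hF in
theorem tw_mul (ι : L →+* F) {ε : F} (hε0 : ε ≠ 0) (M M' : Matrix (Fin 2) (Fin 2) L) :
    tw ι ε (M * M') = tw ι ε M * tw ι ε M' := by
  unfold tw
  ext i j
  fin_cases i <;> fin_cases j <;>
    simp [Matrix.mul_apply, Fin.sum_univ_two] <;> field_simp

omit [Fintype F] hF in
theorem tw_one (ι : L →+* F) (ε : F) : tw ι ε (1 : Matrix (Fin 2) (Fin 2) L) = 1 := by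
  unfold tw
  ext i j
  fin_cases i <;> fin_cases j <;> simp

omit [Fintype F] hF in
theorem tw_det (ι : L →+* F) {ε : F} (hε0 : ε ≠ 0) (M : Matrix (Fin 2) (Fin 2) L) :
    tw ι ε M 0 0 * tw ι ε M 1 1 - tw ι ε M 0 1 * tw ι ε M 1 0 = ι M.det := by
  unfold tw
  rw [Matrix.det_fin_two]
  simp only [Matrix.of_apply, Matrix.cons_val_zero, Matrix.cons_val_one, Matrix.cons_val',
    Matrix.cons_val_fin_one, map_sub, map_mul]
  field_simp

/-- the homomorphism `SL₂(L) → SU` attached to a hyperbolic pair. -/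
noncomputable def Phi (ι : L →+* F) (hι : ∀ x, ι x ^ q = ι x) {ε : F} (hε0 : ε ≠ 0)
    (hε : ε ^ q + ε = 0) {p p' : Fin N → F} (hp : hermForm N F q p p = 0)
    (hp' : hermForm N F q p' p' = 0) (h1 : hermForm N F q p p' = 1) :
    Matrix.SpecialLinearGroup (Fin 2) L →* SU N F q where
  toFun M := ⟨⟨PsiMat q p p' (tw ι ε (M : Matrix (Fin 2) (Fin 2) L)), by
      have h1' : hermForm N F q p' p = 1 := by rw [hermForm_swap hF.out, h1, one_pow]
      rw [PsiMat_det hp hp' h1 h1', Matrix.det_fin_two, tw_det ι hε0, M.det_coe, map_one]⟩, by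
      intro u v
      have hεq : ε ^ q = -ε := by linear_combination hε
      show hermForm N F q (PsiMat q p p' (tw ι ε (M : Matrix (Fin 2) (Fin 2) L)) *ᵥ u)
        (PsiMat q p p' (tw ι ε (M : Matrix (Fin 2) (Fin 2) L)) *ᵥ v) = hermForm N F q u v
      apply PsiMat_form hp hp' h1
      · exact hι _
      · exact hι _
      · show (ε * ι _) ^ q = -(ε * ι _)
        rw [mul_pow, hι, hεq]; ring
      · show (ε⁻¹ * ι _) ^ q = -(ε⁻¹ * ι _)
        rw [mul_pow, hι, inv_pow, hεq, inv_neg]; ring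
      · rw [tw_det ι hε0, M.det_coe, map_one]⟩
  map_one' := by
    apply Subtype.ext
    apply Subtype.ext
    show PsiMat q p p' (tw ι ε ((1 : Matrix.SpecialLinearGroup (Fin 2) L) :
      Matrix (Fin 2) (Fin 2) L)) = 1
    rw [Matrix.SpecialLinearGroup.coe_one, tw_one, PsiMat_one]
  map_mul' M M' := by
    apply Subtype.ext
    apply Subtype.ext
    show PsiMat q p p' (tw ι ε ((M * M' : Matrix.SpecialLinearGroup (Fin 2) L) :
      Matrix (Fin 2) (Fin 2) L)) = PsiMat q p p' (tw ι ε M) * PsiMat q p p' (tw ι ε M')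
    rw [Matrix.SpecialLinearGroup.coe_mul, tw_mul ι hε0, PsiMat_mul hp hp' h1]

theorem Phi_mulVec (ι : L →+* F) (hι : ∀ x, ι x ^ q = ι x) {ε : F} (hε0 : ε ≠ 0)
    (hε : ε ^ q + ε = 0) {p p' : Fin N → F} (hp : hermForm N F q p p = 0)
    (hp' : hermForm N F q p' p' = 0) (h1 : hermForm N F q p p' = 1)
    (M : Matrix.SpecialLinearGroup (Fin 2) L) (x : Fin N → F) :
    mt (Phi ι hι hε0 hε hp hp' h1 M) *ᵥ x =
      x + hermForm N F q x p' •
          ((ι ((M : Matrix (Fin 2) (Fin 2) L) 0 0) - 1) • p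
            + (ε⁻¹ * ι ((M : Matrix (Fin 2) (Fin 2) L) 1 0)) • p')
        + hermForm N F q x p •
          ((ε * ι ((M : Matrix (Fin 2) (Fin 2) L) 0 1)) • p
            + (ι ((M : Matrix (Fin 2) (Fin 2) L) 1 1) - 1) • p') :=
  PsiMat_mulVec p p' _ x

end Cfsg.Agent.Helper8.SURoot
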