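import Mathlib
import Cfsg.Agent.Helper8.SURootC

set_option autoImplicit false

/-! Unitary transvection groups `T(p)`: rank one pairs are images of `SL₂` over the fixed
field (helper8). -/

namespace Cfsg.Agent.Helper8.SURoot

open Matrix Cfsg Cfsg.Agent.Helper7.Herm Cfsg.Agent.Helper8.GUOrder Cfsg.Agent.Helper7.R1

variable {F : Type*} [Field F] [Fintype F] {q N : ℕ} [hF : Fact (Fintype.card F = q ^ 2)]
variable {L : Type*} [Field L]

theorem Phi_up (ι : L →+* F) (hι : ∀ x, ι x ^ q = ι x) {ε : F} (hε0 : ε ≠ 0)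
    (hε : ε ^ q + ε = 0) {p p' : Fin N → F} (hp : hermForm N F q p p = 0)
    (hp' : hermForm N F q p' p' = 0) (h1 : hermForm N F q p p' = 1) (s : L) :
    Phi ι hι hε0 hε hp hp' h1 (Cfsg.Agent.S5016.up s) = TU q p (ε * ι s) := by
  have hs : (ε * ι s) ^ q + ε * ι s = 0 := tz_mul_fixed hε (hι s)
  apply ext_mulVec
  intro x
  rw [Phi_mulVec, TU_mulVec hp hs, Cfsg.Agent.S5016.up_coe]
  simp only [Matrix.of_apply, Matrix.cons_val_zero, Matrix.cons_val_one, Matrix.cons_val',
    Matrix.cons_val_fin_one, map_one, map_zero, sub_self, zero_smul, mul_zero, add_zero,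
    smul_zero]
  module

omit [Fintype F] hF in
theorem tz_inv_mul_fixed {ε c : F} (hε : ε ^ q + ε = 0) (hc : c ^ q = c) :
    (ε⁻¹ * c) ^ q + ε⁻¹ * c = 0 := tz_mul_fixed (tz_inv hε) hc

theorem Phi_lo (ι : L →+* F) (hι : ∀ x, ι x ^ q = ι x) {ε : F} (hε0 : ε ≠ 0)
    (hε : ε ^ q + ε = 0) {p p' : Fin N → F} (hp : hermForm N F q p p = 0)
    (hp' : hermForm N F q p' p' = 0) (h1 : hermForm N F q p p' = 1) (t : L) :
    Phi ι hι hε0 hε hp hp' h1 (Cfsg.Agent.S5016.lo t) = TU q p' (ε⁻¹ * ι t) := by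
  have hs : (ε⁻¹ * ι t) ^ q + ε⁻¹ * ι t = 0 := tz_inv_mul_fixed hε (hι t)
  apply ext_mulVec
  intro x
  rw [Phi_mulVec, TU_mulVec hp' hs, Cfsg.Agent.S5016.lo_coe]
  simp only [Matrix.of_apply, Matrix.cons_val_zero, Matrix.cons_val_one, Matrix.cons_val',
    Matrix.cons_val_fin_one, map_one, map_zero, sub_self, zero_smul, mul_zero, add_zero,
    smul_zero, zero_add]
  module

theorem Phi_injective (ι : L →+* F) (hι : ∀ x, ι x ^ q = ι x) {ε : F} (hε0 : ε ≠ 0)
    (hε : ε ^ q + ε = 0) {p p' : Fin N → F} (hp : hermForm N F q p p = 0)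
    (hp' : hermForm N F q p' p' = 0) (h1 : hermForm N F q p p' = 1) :
    Function.Injective (Phi ι hι hε0 hε hp hp' h1) := by
  have h1' : hermForm N F q p' p = 1 := by rw [hermForm_swap hF.out, h1, one_pow]
  rw [injective_iff_map_eq_one]
  intro M hM
  have e1 := Phi_mulVec ι hι hε0 hε hp hp' h1 M p
  have e2 := Phi_mulVec ι hι hε0 hε hp hp' h1 M p'
  rw [hM, mt_one_mulVec] at e1 e2
  simp only [hp, hp', h1, h1', zero_smul, one_smul, add_zero] at e1 e2
  -- e1 : p = p + ((ι M00 - 1) • p + (ε⁻¹ ι M10) • p')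
  have a1 := congrArg (fun v => hermForm N F q v p') e1
  have a2 := congrArg (fun v => hermForm N F q v p) e1
  have a3 := congrArg (fun v => hermForm N F q v p') e2
  have a4 := congrArg (fun v => hermForm N F q v p) e2
  simp only [hermForm_add_left, hermForm_smul_left, hp, hp', h1, h1', mul_zero, mul_one,
    add_zero, zero_add] at a1 a2 a3 a4
  have b1 : ι ((M : Matrix (Fin 2) (Fin 2) L) 0 0) = ι 1 := by rw [map_one]; linear_combination -a1
  have b2 : ι ((M : Matrix (Fin 2) (Fin 2) L) 1 0) = ι 0 := by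
    rw [map_zero]
    have : ε⁻¹ * ι ((M : Matrix (Fin 2) (Fin 2) L) 1 0) = 0 := by linear_combination -a2
    rcases mul_eq_zero.mp this with h | h
    · exact absurd h (inv_ne_zero hε0)
    · exact h
  have b3 : ι ((M : Matrix (Fin 2) (Fin 2) L) 0 1) = ι 0 := by
    rw [map_zero]
    have : ε * ι ((M : Matrix (Fin 2) (Fin 2) L) 0 1) = 0 := by linear_combination -a3
    rcases mul_eq_zero.mp this with h | h
    · exact absurd h hε0
    · exact h
  have b4 : ι ((M : Matrix (Fin 2) (Fin 2) L) 1 1) = ι 1 := by rw [map_one]; linear_combination -a4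
  ext i j
  fin_cases i <;> fin_cases j
  · show (M : Matrix (Fin 2) (Fin 2) L) 0 0 = (1 : Matrix.SpecialLinearGroup (Fin 2) L).1 0 0
    rw [Matrix.SpecialLinearGroup.coe_one, Matrix.one_apply_eq]
    exact ι.injective b1
  · show (M : Matrix (Fin 2) (Fin 2) L) 0 1 = (1 : Matrix.SpecialLinearGroup (Fin 2) L).1 0 1
    rw [Matrix.SpecialLinearGroup.coe_one, Matrix.one_apply_ne (by decide)]
    exact ι.injective b3
  · show (M : Matrix (Fin 2) (Fin 2) L) 1 0 = (1 : Matrix.SpecialLinearGroup (Fin 2) L).1 1 0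
    rw [Matrix.SpecialLinearGroup.coe_one, Matrix.one_apply_ne (by decide)]
    exact ι.injective b2
  · show (M : Matrix (Fin 2) (Fin 2) L) 1 1 = (1 : Matrix.SpecialLinearGroup (Fin 2) L).1 1 1
    rw [Matrix.SpecialLinearGroup.coe_one, Matrix.one_apply_eq]
    exact ι.injective b4

/-- the fixed points of the Frobenius are the image of a subfield with `q` elements. -/
theorem exists_of_fixed [Fintype L] (hL : Fintype.card L = q) (ι : L →+* F) {c : F}
    (hc : c ^ q = c) : ∃ l : L, ι l = c := by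
  classical
  have hq : 1 < q := by have := two_le_q hF.out; omega
  have hne : (Polynomial.X ^ q - Polynomial.X : Polynomial F) ≠ 0 :=
    FiniteField.X_pow_card_sub_X_ne_zero F hq
  have hdeg : (Polynomial.X ^ q - Polynomial.X : Polynomial F).natDegree = q :=
    FiniteField.X_pow_card_sub_X_natDegree_eq F hq
  have hsub : Finset.univ.image ι ⊆ (Polynomial.X ^ q - Polynomial.X : Polynomial F).roots.toFinset := by
    intro y hy
    obtain ⟨l, -, rfl⟩ := Finset.mem_image.mp hy
    rw [Multiset.mem_toFinset, Polynomial.mem_roots hne, Polynomial.IsRoot.def]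
    simp only [Polynomial.eval_sub, Polynomial.eval_pow, Polynomial.eval_X]
    have : l ^ q = l := by rw [← hL]; exact FiniteField.pow_card l
    rw [← map_pow, this, sub_self]
  have hcard : (Polynomial.X ^ q - Polynomial.X : Polynomial F).roots.toFinset.card ≤
      (Finset.univ.image ι).card := by
    rw [Finset.card_image_of_injective _ ι.injective, Finset.card_univ, hL]
    calc _ ≤ Multiset.card (Polynomial.X ^ q - Polynomial.X : Polynomial F).roots :=
          Multiset.toFinset_card_le _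
      _ ≤ (Polynomial.X ^ q - Polynomial.X : Polynomial F).natDegree := Polynomial.card_roots' _
      _ = q := hdeg
  have heq := Finset.eq_of_subset_of_card_le hsub hcard
  have hmem : c ∈ (Polynomial.X ^ q - Polynomial.X : Polynomial F).roots.toFinset := by
    rw [Multiset.mem_toFinset, Polynomial.mem_roots hne, Polynomial.IsRoot.def]
    simp only [Polynomial.eval_sub, Polynomial.eval_pow, Polynomial.eval_X]
    rw [hc, sub_self]
  rw [← heq] at hmem
  obtain ⟨l, -, hl⟩ := Finset.mem_image.mp hmem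
  exact ⟨l, hl⟩

omit [Fintype F] hF in
theorem fixed_of_card [Fintype L] (hL : Fintype.card L = q) (ι : L →+* F) (x : L) :
    ι x ^ q = ι x := by
  have : x ^ q = x := by rw [← hL]; exact FiniteField.pow_card x
  rw [← map_pow, this]

theorem map_upper [Fintype L] (hL : Fintype.card L = q) (ι : L →+* F) {ε : F} (hε0 : ε ≠ 0)
    (hε : ε ^ q + ε = 0) {p p' : Fin N → F} (hp0 : p ≠ 0) (hp : hermForm N F q p p = 0)
    (hp' : hermForm N F q p' p' = 0) (h1 : hermForm N F q p p' = 1) :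
    (Cfsg.Agent.S5016.fixer (![1, 0] : Fin 2 → L)).map
      (Phi ι (fixed_of_card hL ι) hε0 hε hp hp' h1) = RG q p := by
  have hεq : ε ^ q = -ε := by linear_combination hε
  ext g
  rw [Subgroup.mem_map, mem_RG_iff hp0 hp]
  constructor
  · rintro ⟨x, hx, rfl⟩
    rw [Cfsg.Agent.S5016.eq_up hx, Phi_up]
    exact ⟨_, tz_mul_fixed hε (fixed_of_card hL ι _), rfl⟩
  · rintro ⟨s, hs, rfl⟩
    have hsq : s ^ q = -s := by linear_combination hs
    have hfix : (s * ε⁻¹) ^ q = s * ε⁻¹ := by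
      rw [mul_pow, inv_pow, hsq, hεq, inv_neg]; ring
    obtain ⟨l, hl⟩ := exists_of_fixed hL ι hfix
    refine ⟨Cfsg.Agent.S5016.up l, Cfsg.Agent.S5016.up_mem _, ?_⟩
    rw [Phi_up, hl]
    congr 1
    field_simp

theorem map_lower [Fintype L] (hL : Fintype.card L = q) (ι : L →+* F) {ε : F} (hε0 : ε ≠ 0)
    (hε : ε ^ q + ε = 0) {p p' : Fin N → F} (hp : hermForm N F q p p = 0) (hp0' : p' ≠ 0)
    (hp' : hermForm N F q p' p' = 0) (h1 : hermForm N F q p p' = 1) :
    (Cfsg.Agent.S5016.fixer (![0, 1] : Fin 2 → L)).map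
      (Phi ι (fixed_of_card hL ι) hε0 hε hp hp' h1) = RG q p' := by
  have hεq : ε ^ q = -ε := by linear_combination hε
  ext g
  rw [Subgroup.mem_map, mem_RG_iff hp0' hp']
  constructor
  · rintro ⟨x, hx, rfl⟩
    rw [Cfsg.Agent.S5016.eq_lo hx, Phi_lo]
    exact ⟨_, tz_inv_mul_fixed hε (fixed_of_card hL ι _), rfl⟩
  · rintro ⟨s, hs, rfl⟩
    have hsq : s ^ q = -s := by linear_combination hs
    have hfix : (s * ε) ^ q = s * ε := by
      rw [mul_pow, hsq, hεq]; ring
    obtain ⟨l, hl⟩ := exists_of_fixed hL ι hfix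
    refine ⟨Cfsg.Agent.S5016.lo l, Cfsg.Agent.S5016.lo_mem _, ?_⟩
    rw [Phi_lo, hl]
    congr 1
    field_simp

theorem isPSL2PairOver_of_form_one [Fintype L] (hL : Fintype.card L = q) (ι : L →+* F)
    {p p' : Fin N → F} (hp0 : p ≠ 0) (hp : hermForm N F q p p = 0) (hp0' : p' ≠ 0)
    (hp' : hermForm N F q p' p' = 0) (h1 : hermForm N F q p p' = 1) :
    IsPSL2PairOver L (RG q p) (RG q p') := by
  obtain ⟨ε, hε0, hε⟩ := exists_tz_ne_zero (F := F) (q := q)
  refine ⟨Phi ι (fixed_of_card hL ι) hε0 hε hp hp' h1, ?_, ?_, ?_, ?_⟩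
  · rw [MonoidHom.range_eq_map, ← Cfsg.Agent.S5016.sup_eq_top, Subgroup.map_sup,
      map_upper hL ι hε0 hε hp0, map_lower hL ι hε0 hε hp hp0', sup_comm]
  · rw [(MonoidHom.ker_eq_bot_iff _).mpr (Phi_injective ι _ hε0 hε hp hp' h1)]
    exact bot_le
  · rw [Cfsg.Agent.S5016.upper_eq, map_upper hL ι hε0 hε hp0]
  · rw [Cfsg.Agent.S5016.lower_eq, map_lower hL ι hε0 hε hp hp0']

theorem isPSL2PairOver_of_form [Fintype L] (hL : Fintype.card L = q) (ι : L →+* F)
    {p p' : Fin N → F} (hp : hermForm N F q p p = 0)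
    (hp' : hermForm N F q p' p' = 0) (h : hermForm N F q p p' ≠ 0) :
    IsPSL2PairOver L (RG q p) (RG q p') := by
  have hp0 := ne_zero_of_form_left h
  have hp0' := ne_zero_of_form_right h
  have hc0 : ((hermForm N F q p p')⁻¹) ^ q ≠ 0 := pow_ne_zero q (inv_ne_zero h)
  have h1 : hermForm N F q p ((((hermForm N F q p p')⁻¹) ^ q) • p') = 1 := by
    rw [hermForm_smul_right, pow_q_pow_q hF.out, inv_mul_cancel₀ h]
  have hp'' : hermForm N F q ((((hermForm N F q p p')⁻¹) ^ q) • p')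
      ((((hermForm N F q p p')⁻¹) ^ q) • p') = 0 := by
    rw [hermForm_smul_smul, hp', mul_zero]
  have := isPSL2PairOver_of_form_one hL ι hp0 hp (smul_ne_zero hc0 hp0') hp'' h1
  rwa [RG_smul hp0' hp' hc0] at this

end Cfsg.Agent.Helper8.SURoot
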