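import Cfsg.Agent.Helper8.GUOrder
import Cfsg.Agent.Helper7.HyperplaneCount
import Mathlib

set_option autoImplicit false
open Cfsg

/-!
Counting totally isotropic planes of the standard Hermitian space.
-/

namespace Cfsg.Agent.Helper8.UnitaryLines

open Module Cfsg.Agent.Helper8.GUOrder Cfsg.Agent.Helper7.Herm

variable {K : Type*} [Field K] [Fintype K] {q n : ℕ}

theorem card_diff_set {α : Type*} [Finite α] (P : α → Prop) (S : Set α) (h : ∀ a ∈ S, P a) :
    Nat.card {a // P a ∧ a ∉ S} + Nat.card S = Nat.card {a // P a} := by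
  have h1 : Nat.card {a // P a ∧ a ∉ S} = ({a | P a} \ S).ncard := by
    rw [← Nat.card_coe_set_eq]
    rfl
  have h2 : Nat.card S = S.ncard := by
    rw [← Nat.card_coe_set_eq]
  have h3 : Nat.card {a // P a} = {a | P a}.ncard := by
    rw [← Nat.card_coe_set_eq]
    rfl
  rw [h1, h2, h3]
  exact Set.ncard_sdiff_add_ncard_of_subset (fun a ha => h a ha) (Set.toFinite _)

/-- the trace `x ↦ x + x^q` is onto the fixed field. -/
theorem exists_trace (hK : Fintype.card K = q ^ 2) {d : K} (hd : d ^ q = d) :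
    ∃ x : K, x + x ^ q = d := by
  obtain ⟨a, ha⟩ := exists_not_fixed hK
  by_cases h : a + a ^ q = 0
  · have h2 : (2 : K) ≠ 0 := by
      intro h2
      apply ha
      have h3 : a ^ q = -a := by linear_combination h
      rw [h3]
      linear_combination (-a) * h2
    have h4 : (2 : K) ^ q = 2 := by
      have := add_pow_q hK (1 : K) 1
      rw [one_pow, one_add_one_eq_two] at this
      exact this
    refine ⟨d / 2, ?_⟩
    rw [div_pow, hd, h4]
    field_simp
    ring
  · have he : (a + a ^ q) ^ q = a + a ^ q := by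
      rw [add_pow_q hK, pow_q_pow_q hK, add_comm]
    refine ⟨d / (a + a ^ q) * a, ?_⟩
    rw [mul_pow, div_pow, hd, he]
    field_simp

/-- the fixed field has `q` elements. -/
theorem card_fixed (hK : Fintype.card K = q ^ 2) : Nat.card {c : K // c ^ q = c} = q := by
  have hq := two_le_q hK
  have h1 := card_diff_set (fun c : K => c ^ q = c) ({0} : Set K) (by
    intro a ha
    rw [Set.mem_singleton_iff] at ha
    rw [ha, zero_pow (by omega)])
  have h2 : Nat.card {c : K // c ^ q = c ∧ c ∉ ({0} : Set K)} = q - 1 := by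
    rw [← card_fixed_units hK]
    exact Nat.card_congr (Equiv.subtypeEquivRight fun c => by
      rw [Set.mem_singleton_iff]
      exact and_comm)
  have h0 : Nat.card ({0} : Set K) = 1 := by rw [Nat.card_coe_set_eq, Set.ncard_singleton]
  rw [h2, h0] at h1
  omega

/-- the count of vectors with prescribed `h(w,u)` and norm. -/
noncomputable def D (n : ℕ) (K : Type*) [Field K] (q : ℕ) (u : Fin n → K) (s c : K) : ℕ :=
  Nat.card {w : Fin n → K // hermForm n K q w u = s ∧ hermForm n K q w w = c}

theorem norm_translate (hK : Fintype.card K = q ^ 2) {u : Fin n → K}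
    (hu : hermForm n K q u u = 0) (a : K) (w : Fin n → K) :
    hermForm n K q (w + a • u) u = hermForm n K q w u ∧
    hermForm n K q (w + a • u) (w + a • u) =
      hermForm n K q w w + a ^ q * hermForm n K q w u + a * (hermForm n K q w u) ^ q := by
  have huw : hermForm n K q u w = (hermForm n K q w u) ^ q := hermForm_swap hK u w
  constructor
  · rw [hermForm_add_left, hermForm_smul_left, hu, mul_zero, add_zero]
  · rw [hermForm_add_left, hermForm_add_right hK, hermForm_add_right hK, hermForm_smul_left,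
      hermForm_smul_left, hermForm_smul_right, hermForm_smul_right, hu, huw]
    ring

theorem D_uniform (hK : Fintype.card K = q ^ 2) {u : Fin n → K} (hu : hermForm n K q u u = 0)
    {s : K} (hs : s ≠ 0) {c c' : K} (hc : c ^ q = c) (hc' : c' ^ q = c') :
    D n K q u s c = D n K q u s c' := by
  have hsq : s ^ q ≠ 0 := pow_ne_zero _ hs
  have hd : (c' - c) ^ q = c' - c := by rw [sub_pow_q hK, hc, hc']
  obtain ⟨x, hx⟩ := exists_trace hK hd
  set a := x / s ^ q with ha
  have h1 : a * s ^ q = x := div_mul_cancel₀ _ hsq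
  have h2 : a ^ q * s = x ^ q := by
    rw [ha, div_pow, pow_q_pow_q hK]
    exact div_mul_cancel₀ _ hs
  unfold D
  refine Nat.card_congr ⟨fun w => ⟨w.1 + a • u, ?_⟩, fun w => ⟨w.1 + (-a) • u, ?_⟩,
    fun w => ?_, fun w => ?_⟩
  · obtain ⟨e1, e2⟩ := norm_translate hK hu a w.1
    refine ⟨e1.trans w.2.1, ?_⟩
    rw [e2, w.2.1, w.2.2, h1, h2]
    linear_combination hx
  · obtain ⟨e1, e2⟩ := norm_translate hK hu (-a) w.1
    refine ⟨e1.trans w.2.1, ?_⟩
    rw [e2, w.2.1, w.2.2, neg_pow_q hK, neg_mul, neg_mul, h1, h2]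
    linear_combination -hx
  · apply Subtype.ext
    show w.1 + a • u + (-a) • u = w.1
    rw [neg_smul]
    abel
  · apply Subtype.ext
    show w.1 + (-a) • u + a • u = w.1
    rw [neg_smul]
    abel

theorem card_hyper (hK : Fintype.card K = q ^ 2) {u : Fin n → K} (hu0 : u ≠ 0) (s : K) :
    Nat.card {w : Fin n → K // hermForm n K q w u = s} = (q ^ 2) ^ (n - 1) := by
  have hq := two_le_q hK
  have hx : (fun i => u i ^ q) ≠ 0 := by
    intro h
    apply hu0
    ext i
    have := congrFun h i
    exact pow_eq_zero_iff (by omega) |>.mp this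
  have h1 := Cfsg.Agent.Helper7.Hyp.card_fiber hx s
  rw [hK, Fintype.card_fin] at h1
  rw [← h1]
  refine Nat.card_congr (Equiv.subtypeEquivRight fun w => ?_)
  have : hermForm n K q w u = (fun i => u i ^ q) ⬝ᵥ w := by
    unfold hermForm dotProduct
    exact Finset.sum_congr rfl fun i _ => mul_comm _ _
  rw [this]

theorem card_eq_sum_fiber {α β : Type*} [Finite α] [Fintype β] (f : α → β) :
    Nat.card α = ∑ b, Nat.card {a // f a = b} := by
  rw [Nat.card_congr (Equiv.sigmaFiberEquiv f).symm, Nat.card_sigma]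

theorem sum_D [DecidableEq K] (hK : Fintype.card K = q ^ 2) (u : Fin n → K) (s : K) :
    Nat.card {w : Fin n → K // hermForm n K q w u = s}
      = ∑ c : {c : K // c ^ q = c}, D n K q u s c.1 := by
  rw [card_eq_sum_fiber (fun w : {w : Fin n → K // hermForm n K q w u = s} =>
    (⟨hermForm n K q w.1 w.1, (hermForm_swap hK w.1 w.1).symm⟩ : {c : K // c ^ q = c}))]
  refine Finset.sum_congr rfl fun c _ => ?_
  unfold D
  refine Nat.card_congr ⟨fun x => ⟨x.1.1, x.1.2, congrArg Subtype.val x.2⟩,
    fun w => ⟨⟨w.1, w.2.1⟩, Subtype.ext w.2.2⟩, fun x => rfl, fun w => rfl⟩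

theorem sum_A (u : Fin n → K) (c : K) :
    A n K q c = ∑ s : K, D n K q u s c := by
  classical
  unfold A
  rw [card_eq_sum_fiber (fun w : {w : Fin n → K // hermForm n K q w w = c} =>
    hermForm n K q w.1 u)]
  refine Finset.sum_congr rfl fun s _ => ?_
  unfold D
  refine Nat.card_congr ⟨fun x => ⟨x.1.1, x.2, x.1.2⟩,
    fun w => ⟨⟨w.1, w.2.2⟩, w.2.1⟩, fun x => rfl, fun w => rfl⟩

/-- the number of isotropic vectors orthogonal to a nonzero isotropic vector. -/
theorem D_zero (hK : Fintype.card K = q ^ 2) {u : Fin n → K} (hu0 : u ≠ 0)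
    (hu : hermForm n K q u u = 0) :
    q * A n K q 0 = q * D n K q u 0 0 + (q ^ 2 - 1) * (q ^ 2) ^ (n - 1) := by
  classical
  have hq := two_le_q hK
  have h1 : ∀ s : K, s ≠ 0 → q * D n K q u s 0 = (q ^ 2) ^ (n - 1) := by
    intro s hs
    rw [← card_hyper hK hu0 s, sum_D hK u s]
    have h2 : ∀ c : {c : K // c ^ q = c}, D n K q u s c.1 = D n K q u s 0 := fun c =>
      D_uniform hK hu hs c.2 (zero_pow (by omega))
    simp only [h2, Finset.sum_const, smul_eq_mul]
    rw [Finset.card_univ, ← Nat.card_eq_fintype_card, card_fixed hK]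
  rw [sum_A u 0, ← Finset.add_sum_erase Finset.univ _ (Finset.mem_univ (0 : K)), mul_add,
    Finset.mul_sum]
  congr 1
  rw [Finset.sum_congr rfl (fun s hs => h1 s (Finset.ne_of_mem_erase hs)), Finset.sum_const,
    Finset.card_erase_of_mem (Finset.mem_univ _), Finset.card_univ, hK, smul_eq_mul]

omit [Fintype K] in
theorem finrank_span_pair {V : Type*} [AddCommGroup V] [Module K V] {v w : V} (hv : v ≠ 0)
    (hw : w ∉ Submodule.span K {v}) : finrank K (Submodule.span K {v, w}) = 2 := by
  have hli : LinearIndependent K ![v, w] := by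
    rw [LinearIndependent.pair_iff' hv]
    intro a ha
    exact hw (Submodule.mem_span_singleton.mpr ⟨a, ha⟩)
  have h1 := finrank_span_eq_card hli
  have h2 : Set.range ![v, w] = {v, w} := by
    ext x
    simp only [Set.mem_range, Set.mem_insert_iff, Set.mem_singleton_iff]
    constructor
    · rintro ⟨i, rfl⟩
      fin_cases i
      · left; rfl
      · right; rfl
    · rintro (rfl | rfl)
      · exact ⟨0, rfl⟩
      · exact ⟨1, rfl⟩
  rw [h2] at h1
  rw [h1, Fintype.card_fin]

theorem card_submodule {V : Type*} [AddCommGroup V] [Module K V] [Finite V]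
    (W : Submodule K V) {k : ℕ} (hk : finrank K W = k) : Nat.card W = Fintype.card K ^ k := by
  classical
  have : Fintype W := Fintype.ofFinite _
  rw [Nat.card_eq_fintype_card, Module.card_eq_pow_finrank (K := K), hk]

/-- the totally isotropic planes through `u`. -/
abbrev LinesU (n : ℕ) (K : Type*) [Field K] (q : ℕ) (u : Fin n → K) :=
  {W : Submodule K (Fin n → K) // finrank K W = 2 ∧ u ∈ W ∧
    ∀ a ∈ W, ∀ b ∈ W, hermForm n K q a b = 0}

/-- the isotropic vectors orthogonal to `u` outside its span. -/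
abbrev XU (n : ℕ) (K : Type*) [Field K] (q : ℕ) (u : Fin n → K) :=
  {w : Fin n → K // (hermForm n K q w u = 0 ∧ hermForm n K q w w = 0) ∧
    w ∉ (Submodule.span K {u} : Set (Fin n → K))}

theorem ti_span_pair (hK : Fintype.card K = q ^ 2) {u w : Fin n → K}
    (hu : hermForm n K q u u = 0) (hwu : hermForm n K q w u = 0)
    (hww : hermForm n K q w w = 0) :
    ∀ a ∈ Submodule.span K {u, w}, ∀ b ∈ Submodule.span K {u, w}, hermForm n K q a b = 0 := by
  have hq := two_le_q hK
  intro a ha b hb
  rw [Submodule.mem_span_pair] at ha hb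
  obtain ⟨a1, a2, rfl⟩ := ha
  obtain ⟨b1, b2, rfl⟩ := hb
  have huw : hermForm n K q u w = 0 := by
    rw [hermForm_swap hK, hwu, zero_pow (by omega)]
  simp only [hermForm_add_left, hermForm_add_right hK, hermForm_smul_left, hermForm_smul_right,
    hu, hwu, hww, huw, mul_zero, add_zero]

/-- the plane spanned by `u` and `w`. -/
def psi (hK : Fintype.card K = q ^ 2) {u : Fin n → K} (hu0 : u ≠ 0)
    (hu : hermForm n K q u u = 0) (w : XU n K q u) : LinesU n K q u :=
  ⟨Submodule.span K {u, w.1}, finrank_span_pair hu0 w.2.2,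
    Submodule.subset_span (Set.mem_insert _ _), ti_span_pair hK hu w.2.1.1 w.2.1.2⟩

/-- the fibres of `psi`. -/
def fiberEquiv (hK : Fintype.card K = q ^ 2) {u : Fin n → K} (hu0 : u ≠ 0)
    (hu : hermForm n K q u u = 0) (W : LinesU n K q u) :
    {x : XU n K q u // psi hK hu0 hu x = W} ≃
      {w : Fin n → K // w ∈ W.1 ∧ w ∉ (Submodule.span K {u} : Set (Fin n → K))} where
  toFun x := ⟨x.1.1, by
    have h := congrArg Subtype.val x.2
    change Submodule.span K {u, x.1.1} = W.1 at h
    rw [← h]
    exact Submodule.subset_span (Set.mem_insert_of_mem _ rfl), x.1.2.2⟩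
  invFun w := ⟨⟨w.1, ⟨W.2.2.2 w.1 w.2.1 u W.2.2.1, W.2.2.2 w.1 w.2.1 w.1 w.2.1⟩, w.2.2⟩, by
    apply Subtype.ext
    change Submodule.span K {u, w.1} = W.1
    have hle : Submodule.span K {u, w.1} ≤ W.1 := by
      rw [Submodule.span_le]
      rintro x (rfl | rfl)
      · exact W.2.2.1
      · exact w.2.1
    have : FiniteDimensional K W.1 := inferInstance
    exact Submodule.eq_of_le_of_finrank_eq hle (by rw [finrank_span_pair hu0 w.2.2, W.2.1])⟩
  left_inv x := rfl
  right_inv w := rfl

theorem card_linesU (hK : Fintype.card K = q ^ 2) {u : Fin n → K} (hu0 : u ≠ 0)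
    (hu : hermForm n K q u u = 0) :
    Nat.card (LinesU n K q u) * ((q ^ 2) ^ 2 - q ^ 2) + q ^ 2 = D n K q u 0 0 := by
  classical
  have hq := two_le_q hK
  have hspan : Nat.card (Submodule.span K {u}) = q ^ 2 := by
    have h0 : finrank K (Submodule.span K {u}) = 1 := finrank_span_singleton hu0
    have h1 := card_submodule (Submodule.span K {u}) h0
    rw [h1, pow_one, hK]
  have hX : Nat.card (XU n K q u) + q ^ 2 = D n K q u 0 0 := by
    rw [← hspan]
    unfold D
    apply card_diff_set (fun w : Fin n → K => hermForm n K q w u = 0 ∧ hermForm n K q w w = 0)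
    intro a ha
    obtain ⟨c, rfl⟩ := Submodule.mem_span_singleton.mp ha
    constructor
    · rw [hermForm_smul_left, hu, mul_zero]
    · rw [hermForm_smul_left, hermForm_smul_right, hu, mul_zero, mul_zero]
  have : Fintype (LinesU n K q u) := Fintype.ofFinite _
  have hfib : ∀ W : LinesU n K q u, Nat.card {x : XU n K q u // psi hK hu0 hu x = W}
      = (q ^ 2) ^ 2 - q ^ 2 := by
    intro W
    rw [Nat.card_congr (fiberEquiv hK hu0 hu W)]
    have h1 := card_diff_set (fun w : Fin n → K => w ∈ W.1)
      (Submodule.span K {u} : Set (Fin n → K)) (by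
        intro a ha
        have hle : Submodule.span K {u} ≤ W.1 := by
          rw [Submodule.span_singleton_le_iff_mem]; exact W.2.2.1
        exact hle ha)
    have h2 : Nat.card {a : Fin n → K // a ∈ W.1} = (q ^ 2) ^ 2 := by
      have := card_submodule W.1 W.2.1
      rw [hK] at this
      exact this
    have h3 : Nat.card (Submodule.span K {u} : Set (Fin n → K)) = q ^ 2 := hspan
    rw [h2, h3] at h1
    omega
  have h2 : Nat.card (XU n K q u)
      = Nat.card (LinesU n K q u) * ((q ^ 2) ^ 2 - q ^ 2) := by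
    rw [Nat.card_congr (Equiv.sigmaFiberEquiv (psi hK hu0 hu)).symm, Nat.card_sigma]
    simp only [hfib, Finset.sum_const, smul_eq_mul]
    rw [Finset.card_univ, Nat.card_eq_fintype_card]
  rw [← h2]
  exact hX

/-- all totally isotropic planes. -/
abbrev Lines (n : ℕ) (K : Type*) [Field K] (q : ℕ) :=
  {W : Submodule K (Fin n → K) // finrank K W = 2 ∧
    ∀ a ∈ W, ∀ b ∈ W, hermForm n K q a b = 0}

/-- the incidence double count. -/
def flagEquiv (n : ℕ) (K : Type*) [Field K] (q : ℕ) :
    (Σ W : Lines n K q, {v : Fin n → K // v ∈ W.1 ∧ v ∉ ({0} : Set (Fin n → K))}) ≃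
      Σ v : {v : Fin n → K // hermForm n K q v v = 0 ∧ v ∉ ({0} : Set (Fin n → K))},
        LinesU n K q v.1 where
  toFun x := ⟨⟨x.2.1, x.1.2.2 _ x.2.2.1 _ x.2.2.1, x.2.2.2⟩, ⟨x.1.1, x.1.2.1, x.2.2.1, x.1.2.2⟩⟩
  invFun y := ⟨⟨y.2.1, y.2.2.1, y.2.2.2.2⟩, ⟨y.1.1, y.2.2.2.1, y.1.2.2⟩⟩
  left_inv _ := rfl
  right_inv _ := rfl

/-- the total count from the count through a point. -/
theorem card_lines (hK : Fintype.card K = q ^ 2) (L : ℕ)
    (hL : ∀ u : Fin n → K, u ≠ 0 → hermForm n K q u u = 0 → Nat.card (LinesU n K q u) = L) :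
    Nat.card (Lines n K q) * ((q ^ 2) ^ 2 - 1) + L = A n K q 0 * L := by
  classical
  have hq := two_le_q hK
  have : Fintype (Lines n K q) := Fintype.ofFinite _
  have e := Nat.card_congr (flagEquiv n K q)
  rw [Nat.card_sigma, Nat.card_sigma] at e
  have h0 : Nat.card (({0} : Set (Fin n → K))) = 1 := by
    rw [Nat.card_coe_set_eq, Set.ncard_singleton]
  have h1 : ∀ W : Lines n K q,
      Nat.card {v : Fin n → K // v ∈ W.1 ∧ v ∉ ({0} : Set (Fin n → K))} = (q ^ 2) ^ 2 - 1 := by
    intro W
    have h2 := card_diff_set (fun w : Fin n → K => w ∈ W.1) ({0} : Set (Fin n → K)) (by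
      intro a ha
      rw [Set.mem_singleton_iff] at ha
      rw [ha]
      exact Submodule.zero_mem _)
    have h3 : Nat.card {a : Fin n → K // a ∈ W.1} = (q ^ 2) ^ 2 := by
      have := card_submodule W.1 W.2.1
      rw [hK] at this
      exact this
    rw [h3, h0] at h2
    omega
  have h3 : ∀ v : {v : Fin n → K // hermForm n K q v v = 0 ∧ v ∉ ({0} : Set (Fin n → K))},
      Nat.card (LinesU n K q v.1) = L := fun v => hL v.1 (fun h => v.2.2 h) v.2.1
  have h4 : Nat.card {v : Fin n → K // hermForm n K q v v = 0 ∧ v ∉ ({0} : Set (Fin n → K))} + 1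
      = A n K q 0 := by
    rw [← h0]
    unfold A
    apply card_diff_set (fun w : Fin n → K => hermForm n K q w w = 0)
    intro a ha
    rw [Set.mem_singleton_iff] at ha
    rw [ha]
    unfold hermForm
    simp [zero_pow (show q ≠ 0 by omega)]
  simp only [h1, h3, Finset.sum_const, smul_eq_mul] at e
  rw [Finset.card_univ, Finset.card_univ, ← Nat.card_eq_fintype_card,
    ← Nat.card_eq_fintype_card] at e
  rw [e, ← h4]
  ring

end Cfsg.Agent.Helper8.UnitaryLines
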