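import Mathlib
import Cfsg.Prelude.Def_Classical
import Cfsg.Prelude.Def_ClassicalGeometry
import Cfsg.Prelude.Def_LieClassical
import Cfsg.Agent.Helper7.Hermitian
import Cfsg.Agent.Helper8.GUOrder

set_option autoImplicit false

/-!
The centre of the special unitary group consists of the scalar matrices it contains.
-/

namespace Cfsg.Agent.Helper8.SUCenter

open Matrix Cfsg Cfsg.Agent.Helper7.Herm Cfsg.Agent.Helper8.GUOrder

variable {K : Type*} [Field K] [Fintype K] {q : ℕ} {n : ℕ}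

theorem mem_SU_iff (hK : Fintype.card K = q ^ 2) (s : Matrix.SpecialLinearGroup (Fin n) K) :
    s ∈ SU n K q ↔
      (s : Matrix (Fin n) (Fin n) K)ᵀ * (s : Matrix (Fin n) (Fin n) K).map (· ^ q) = 1 :=
  mem_GU_iff hK (Matrix.SpecialLinearGroup.toGL s)

/-- constructor for elements of `SU`. -/
def mkSU (hK : Fintype.card K = q ^ 2) (M : Matrix (Fin n) (Fin n) K)
    (hU : Mᵀ * M.map (· ^ q) = 1) (hdet : M.det = 1) : SU n K q :=
  ⟨⟨M, hdet⟩, (mem_SU_iff hK _).mpr hU⟩

theorem diagonal_unitary (hK : Fintype.card K = q ^ 2) (d : Fin n → K)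
    (hd : ∀ i, d i * d i ^ q = 1) :
    (Matrix.diagonal d)ᵀ * (Matrix.diagonal d).map (· ^ q) = 1 := by
  have hq := two_le_q hK
  rw [Matrix.diagonal_transpose, Matrix.diagonal_map (by simp [zero_pow (show q ≠ 0 by omega)]),
    Matrix.diagonal_mul_diagonal]
  rw [← Matrix.diagonal_one]
  congr 1
  ext i
  exact hd i

/-- there is a norm-one element whose square is not one. -/
theorem exists_zeta_sq (hK : Fintype.card K = q ^ 2) : ∃ ζ : K, ζ * ζ ^ q = 1 ∧ ζ * ζ ≠ 1 := by
  have hq := two_le_q hK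
  by_contra hcon
  push Not at hcon
  have hle : (powMonoidHom (q + 1) : Kˣ →* Kˣ).ker ≤ (powMonoidHom 2 : Kˣ →* Kˣ).ker := by
    intro u hu
    rw [MonoidHom.mem_ker, powMonoidHom_apply] at hu ⊢
    have h1 : (u : K) * (u : K) ^ q = 1 := by
      have := congrArg Units.val hu
      rw [Units.val_pow_eq_pow_val, Units.val_one, pow_succ'] at this
      exact this
    have h2 := hcon (u : K) h1
    apply Units.ext
    rw [Units.val_pow_eq_pow_val, Units.val_one, sq]
    exact h2
  have h1 := Subgroup.card_le_of_le hle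
  rw [IsCyclic.card_powMonoidHom_ker, IsCyclic.card_powMonoidHom_ker, card_units_K hK,
    qsq_sub_one hK, Nat.gcd_eq_right (Dvd.intro_left _ rfl)] at h1
  have h2 : Nat.gcd ((q - 1) * (q + 1)) 2 ≤ 2 := Nat.gcd_le_right _ (by omega)
  omega

/-- the diagonal `(ζ at i, ζ⁻¹ at j, 1 elsewhere)`. -/
def dd (i j : Fin n) (ζ : K) : Fin n → K := fun k => if k = i then ζ else if k = j then ζ⁻¹ else 1

omit [Fintype K] in
theorem dd_norm (i j : Fin n) {ζ : K} (hζ : ζ * ζ ^ q = 1) (k : Fin n) :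
    dd i j ζ k * dd i j ζ k ^ q = 1 := by
  unfold dd
  by_cases h1 : k = i
  · rw [if_pos h1]; exact hζ
  · rw [if_neg h1]
    by_cases h2 : k = j
    · rw [if_pos h2, inv_pow, ← mul_inv, hζ, inv_one]
    · rw [if_neg h2, one_pow, one_mul]

omit [Fintype K] in
theorem dd_prod {i j : Fin n} (hij : i ≠ j) {ζ : K} (hζ0 : ζ ≠ 0) : ∏ k, dd i j ζ k = 1 := by
  rw [Finset.prod_eq_mul i j hij]
  · unfold dd
    rw [if_pos rfl, if_neg (Ne.symm hij), if_pos rfl, mul_inv_cancel₀ hζ0]
  · intro c _ hc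
    unfold dd
    rw [if_neg hc.1, if_neg hc.2]
  · intro h; exact absurd (Finset.mem_univ i) h
  · intro h; exact absurd (Finset.mem_univ j) h

/-- the diagonal element of `SU`. -/
def DS (hK : Fintype.card K = q ^ 2) {i j : Fin n} (hij : i ≠ j) {ζ : K} (hζ : ζ * ζ ^ q = 1) :
    SU n K q :=
  mkSU hK (Matrix.diagonal (dd i j ζ)) (diagonal_unitary hK _ (dd_norm i j hζ)) (by
    rw [Matrix.det_diagonal]
    refine dd_prod hij ?_
    rintro rfl
    rw [zero_mul] at hζ
    exact zero_ne_one hζ)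

/-- the isotropic vector `e_i + β e_j`. -/
def ww (i j : Fin n) (β : K) : Fin n → K := fun k => if k = i then 1 else if k = j then β else 0

omit [Fintype K] in
theorem ww_isotropic {i j : Fin n} (hij : i ≠ j) {β : K} (hβ : β * β ^ q = -1) :
    hermForm n K q (ww i j β) (ww i j β) = 0 := by
  unfold hermForm
  rw [Finset.sum_eq_add i j hij]
  · unfold ww
    rw [if_pos rfl, if_neg (Ne.symm hij), if_pos rfl, one_pow, one_mul, hβ, add_neg_cancel]
  · intro c _ hc
    unfold ww
    rw [if_neg hc.1, if_neg hc.2, zero_mul]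
  · intro h; exact absurd (Finset.mem_univ i) h
  · intro h; exact absurd (Finset.mem_univ j) h

theorem exists_trace_zero (hK : Fintype.card K = q ^ 2) : ∃ c : K, c ≠ 0 ∧ c ^ q + c = 0 := by
  obtain ⟨a, ha⟩ := exists_not_fixed hK
  refine ⟨a - a ^ q, sub_ne_zero.mpr (Ne.symm ha), ?_⟩
  rw [sub_pow_q hK, pow_q_pow_q hK]; ring

/-- the transvection element of `SU`. -/
def TS (hK : Fintype.card K = q ^ 2) {i j : Fin n} (hij : i ≠ j) {β c : K}
    (hβ : β * β ^ q = -1) (hc : c ^ q + c = 0) : SU n K q :=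
  mkSU hK (unitaryTransvection n q (ww i j β) c)
    ((mem_GU_iff hK (TG (ww i j β) c (by rw [ww_isotropic hij hβ, mul_zero, add_zero, hc]))).mp
      (TG_mem hK _ _ _))
    (by
      unfold unitaryTransvection
      rw [← Matrix.smul_vecMulVec, Matrix.vecMulVec_eq (Fin 1),
        Matrix.det_one_add_replicateCol_mul_replicateRow, dotProduct_smul, dotProduct_comm]
      have := ww_isotropic hij hβ
      rw [hermForm_eq_dot] at this
      rw [this, smul_zero, add_zero])

omit [Fintype K] in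
theorem unitaryTransvection_apply (w : Fin n → K) (c : K) (a b : Fin n) :
    unitaryTransvection n q w c a b = (1 : Matrix (Fin n) (Fin n) K) a b + c * (w a * w b ^ q) := by
  unfold unitaryTransvection
  rw [Matrix.add_apply, Matrix.smul_apply, Matrix.vecMulVec_apply, smul_eq_mul]

/-- a matrix commuting with all of `SU_n` (`n ≥ 2`) is scalar. -/
theorem scalar_of_commute (hK : Fintype.card K = q ^ 2) (Z : Matrix (Fin n) (Fin n) K)
    (hZ : ∀ s : SU n K q, Z * (s.1 : Matrix (Fin n) (Fin n) K) = (s.1 : Matrix (Fin n) (Fin n) K) * Z) :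
    (∀ a b, a ≠ b → Z a b = 0) ∧ (∀ a b, Z a a = Z b b) := by
  obtain ⟨ζ, hζ, hζ2⟩ := exists_zeta_sq hK
  have hζ0 : ζ ≠ 0 := by
    rintro rfl
    rw [zero_mul] at hζ
    exact zero_ne_one hζ
  have hoff : ∀ a b, a ≠ b → Z a b = 0 := by
    intro a b hab
    have h := hZ (DS hK hab hζ)
    have h2 := congrFun (congrFun h a) b
    change (Z * Matrix.diagonal (dd a b ζ)) a b = (Matrix.diagonal (dd a b ζ) * Z) a b at h2
    rw [Matrix.mul_diagonal, Matrix.diagonal_mul] at h2
    unfold dd at h2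
    rw [if_pos rfl, if_neg (Ne.symm hab), if_pos rfl] at h2
    have h3 : Z a b * (ζ⁻¹ - ζ) = 0 := by linear_combination h2
    rcases mul_eq_zero.mp h3 with h4 | h4
    · exact h4
    · exfalso
      apply hζ2
      have : ζ⁻¹ = ζ := by linear_combination h4
      calc ζ * ζ = ζ * ζ⁻¹ := by rw [this]
        _ = 1 := mul_inv_cancel₀ hζ0
  refine ⟨hoff, ?_⟩
  intro a b
  by_cases hab : a = b
  · rw [hab]
  obtain ⟨β, hβ⟩ := exists_norm hK (c := (-1 : K)) (neg_ne_zero.mpr one_ne_zero) (neg_one_pow_q hK)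
  obtain ⟨c, hc0, hc⟩ := exists_trace_zero hK
  have hβ0 : β ≠ 0 := by
    rintro rfl
    rw [zero_mul] at hβ
    exact (neg_ne_zero.mpr one_ne_zero) hβ.symm
  have h := hZ (TS hK hab hβ hc)
  have h2 := congrFun (congrFun h b) a
  change (Z * unitaryTransvection n q (ww a b β) c) b a =
    (unitaryTransvection n q (ww a b β) c * Z) b a at h2
  rw [Matrix.mul_apply, Matrix.mul_apply, Finset.sum_eq_single b, Finset.sum_eq_single a] at h2
  · rw [unitaryTransvection_apply, Matrix.one_apply_ne (Ne.symm hab)] at h2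
    unfold ww at h2
    rw [if_neg (Ne.symm hab), if_pos rfl, if_pos rfl, one_pow, mul_one, zero_add] at h2
    have h3 : (Z b b - Z a a) * (c * β) = 0 := by linear_combination h2
    rcases mul_eq_zero.mp h3 with h4 | h4
    · linear_combination -h4
    · exact absurd h4 (mul_ne_zero hc0 hβ0)
  · intro k _ hk
    rw [hoff k a hk, mul_zero]
  · intro h; exact absurd (Finset.mem_univ a) h
  · intro k _ hk
    rw [hoff b k (Ne.symm hk), zero_mul]
  · intro h; exact absurd (Finset.mem_univ b) h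

theorem smul_one_unitary (hK : Fintype.card K = q ^ 2) {ζ : K} (hζ : ζ * ζ ^ q = 1) :
    (ζ • (1 : Matrix (Fin n) (Fin n) K))ᵀ * (ζ • (1 : Matrix (Fin n) (Fin n) K)).map (· ^ q) = 1 :=
  (mem_GU_iff hK (SG n ζ hζ)).mp (SG_mem ζ hζ)

/-- the scalar elements of `SU`. -/
def scal (hK : Fintype.card K = q ^ 2) (ζ : K) (hζ : ζ * ζ ^ q = 1) (hn : ζ ^ n = 1) : SU n K q :=
  mkSU hK (ζ • (1 : Matrix (Fin n) (Fin n) K)) (smul_one_unitary hK hζ)
    (by rw [Matrix.det_smul, Matrix.det_one, Fintype.card_fin, hn, mul_one])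

theorem scal_mem_center (hK : Fintype.card K = q ^ 2) (ζ : K) (hζ : ζ * ζ ^ q = 1)
    (hn : ζ ^ n = 1) : scal hK ζ hζ hn ∈ Subgroup.center (SU n K q) := by
  rw [Subgroup.mem_center_iff]
  intro g
  apply Subtype.ext
  apply Subtype.ext
  show (g.1 : Matrix (Fin n) (Fin n) K) * (ζ • (1 : Matrix (Fin n) (Fin n) K)) =
    (ζ • (1 : Matrix (Fin n) (Fin n) K)) * (g.1 : Matrix (Fin n) (Fin n) K)
  rw [Matrix.mul_smul, Matrix.smul_mul, Matrix.mul_one, Matrix.one_mul]

theorem center_eq_scal (hK : Fintype.card K = q ^ 2) (hn : 1 ≤ n) (z : SU n K q)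
    (hz : z ∈ Subgroup.center (SU n K q)) :
    ∃ (ζ : K) (hζ : ζ * ζ ^ q = 1) (hζn : ζ ^ n = 1), z = scal hK ζ hζ hζn := by
  rw [Subgroup.mem_center_iff] at hz
  have hZ : ∀ s : SU n K q, (z.1 : Matrix (Fin n) (Fin n) K) * (s.1 : Matrix (Fin n) (Fin n) K) =
      (s.1 : Matrix (Fin n) (Fin n) K) * (z.1 : Matrix (Fin n) (Fin n) K) := by
    intro s
    have := congrArg (fun x : SU n K q => (x.1 : Matrix (Fin n) (Fin n) K)) (hz s)
    exact this.symm
  obtain ⟨hoff, hdiag⟩ := scalar_of_commute hK _ hZ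
  set i0 : Fin n := ⟨0, by omega⟩ with hi0
  set ζ := (z.1 : Matrix (Fin n) (Fin n) K) i0 i0 with hζdef
  have hZeq : (z.1 : Matrix (Fin n) (Fin n) K) = ζ • (1 : Matrix (Fin n) (Fin n) K) := by
    ext a b
    rw [Matrix.smul_apply, Matrix.one_apply, smul_eq_mul]
    by_cases hab : a = b
    · rw [if_pos hab, mul_one, hab, hζdef]; exact hdiag b i0
    · rw [if_neg hab, mul_zero]; exact hoff a b hab
  have hq := two_le_q hK
  have hmap : (ζ • (1 : Matrix (Fin n) (Fin n) K)).map (· ^ q) =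
      ζ ^ q • (1 : Matrix (Fin n) (Fin n) K) := by
    ext a b
    rw [Matrix.map_apply, Matrix.smul_apply, Matrix.smul_apply, Matrix.one_apply, smul_eq_mul,
      smul_eq_mul]
    by_cases hab : a = b
    · rw [if_pos hab, mul_one, mul_one]
    · rw [if_neg hab, mul_zero, mul_zero, zero_pow (by omega)]
  have hU := (mem_SU_iff hK z.1).mp z.2
  rw [hZeq, hmap, Matrix.transpose_smul, Matrix.transpose_one, Matrix.smul_mul, Matrix.mul_smul,
    Matrix.one_mul, smul_smul] at hU
  have hζ : ζ * ζ ^ q = 1 := by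
    have := congrFun (congrFun hU i0) i0
    rw [Matrix.smul_apply, Matrix.one_apply_eq, smul_eq_mul, mul_one] at this
    exact this
  have hdet := z.1.2
  rw [hZeq, Matrix.det_smul, Matrix.det_one, Fintype.card_fin, mul_one] at hdet
  refine ⟨ζ, hζ, hdet, ?_⟩
  apply Subtype.ext
  apply Subtype.ext
  exact hZeq

/-- **The order of the centre of the special unitary group.** -/
theorem card_center (hK : Fintype.card K = q ^ 2) (hn : 1 ≤ n) :
    Nat.card (Subgroup.center (SU n K q)) = Nat.gcd n (q + 1) := by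
  have hq := two_le_q hK
  have h1 : Nat.card (powMonoidHom (Nat.gcd n (q + 1)) : Kˣ →* Kˣ).ker = Nat.gcd n (q + 1) := by
    rw [IsCyclic.card_powMonoidHom_ker, card_units_K hK, qsq_sub_one hK]
    exact Nat.gcd_eq_right (Dvd.dvd.mul_left (Nat.gcd_dvd_right n (q + 1)) _)
  rw [← h1]
  symm
  have key : ∀ u : Kˣ, u ∈ (powMonoidHom (Nat.gcd n (q + 1)) : Kˣ →* Kˣ).ker ↔
      ((u : K) * (u : K) ^ q = 1 ∧ (u : K) ^ n = 1) := by
    intro u
    rw [MonoidHom.mem_ker, powMonoidHom_apply]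
    constructor
    · intro h
      have h' : (u : K) ^ Nat.gcd n (q + 1) = 1 := by
        have := congrArg Units.val h
        rwa [Units.val_pow_eq_pow_val, Units.val_one] at this
      constructor
      · obtain ⟨k, hk⟩ := Nat.gcd_dvd_right n (q + 1)
        rw [← pow_succ', hk, pow_mul, h', one_pow]
      · obtain ⟨k, hk⟩ := Nat.gcd_dvd_left n (q + 1)
        conv_lhs => rw [hk]
        rw [pow_mul, h', one_pow]
    · rintro ⟨h1, h2⟩
      have h1' : u ^ (q + 1) = 1 := by
        apply Units.ext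
        rw [Units.val_pow_eq_pow_val, Units.val_one, pow_succ']; exact h1
      have h2' : u ^ n = 1 := by
        apply Units.ext
        rw [Units.val_pow_eq_pow_val, Units.val_one]; exact h2
      exact pow_gcd_eq_one.mpr ⟨h2', h1'⟩
  refine Nat.card_congr (Equiv.ofBijective
    (fun u : (powMonoidHom (Nat.gcd n (q + 1)) : Kˣ →* Kˣ).ker =>
      (⟨scal hK (u.1 : K) ((key u.1).mp u.2).1 ((key u.1).mp u.2).2,
        scal_mem_center hK _ _ _⟩ : Subgroup.center (SU n K q))) ⟨?_, ?_⟩)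
  · intro u v h
    have h2 := congrArg (fun x : Subgroup.center (SU n K q) =>
      ((x.1.1 : Matrix.SpecialLinearGroup (Fin n) K) : Matrix (Fin n) (Fin n) K)
        (⟨0, by omega⟩ : Fin n) (⟨0, by omega⟩ : Fin n)) h
    change ((u.1 : K) • (1 : Matrix (Fin n) (Fin n) K)) _ _ =
      ((v.1 : K) • (1 : Matrix (Fin n) (Fin n) K)) _ _ at h2
    rw [Matrix.smul_apply, Matrix.smul_apply, Matrix.one_apply_eq, smul_eq_mul, smul_eq_mul,
      mul_one, mul_one] at h2
    exact Subtype.ext (Units.ext h2)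
  · rintro ⟨z, hz⟩
    obtain ⟨ζ, hζ, hζn, rfl⟩ := center_eq_scal hK hn z hz
    have hζ0 : ζ ≠ 0 := by
      rintro rfl
      rw [zero_mul] at hζ
      exact zero_ne_one hζ
    refine ⟨⟨Units.mk0 ζ hζ0, (key _).mpr ⟨hζ, hζn⟩⟩, rfl⟩

end Cfsg.Agent.Helper8.SUCenter
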