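import Mathlib
import Cfsg.Prelude.Def_Classical
import Cfsg.Agent.Helper7.Hermitian
import Cfsg.Agent.Helper8.GUOrder
import Cfsg.Agent.Helper8.SUCenter
set_option autoImplicit false

/-! A unitary involution other than `-1` fixes a unit vector (odd characteristic). -/

namespace Cfsg.Agent.Helper8.SU3I

open Matrix Cfsg Cfsg.Agent.Helper7.Herm Cfsg.Agent.Helper8.GUOrder

variable {K : Type*} [Field K] [Fintype K] {q : ℕ} {n : ℕ}

theorem hermForm_single_right (hK : Fintype.card K = q ^ 2) (u : Fin n → K) (i : Fin n) :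
    hermForm n K q u (Pi.single i 1) = u i := by
  have hq := two_le_q hK
  unfold hermForm
  rw [Finset.sum_eq_single i]
  · rw [Pi.single_eq_same, one_pow, mul_one]
  · intro j _ hj
    rw [Pi.single_eq_of_ne hj, zero_pow (by omega), mul_zero]
  · intro h
    exact absurd (Finset.mem_univ _) h

theorem hermForm_nondeg (hK : Fintype.card K = q ^ 2) (u : Fin n → K)
    (h : ∀ w, hermForm n K q u w = 0) : u = 0 := by
  ext i
  rw [← hermForm_single_right hK u i, h]
  rfl

theorem hermForm_unitary (hK : Fintype.card K = q ^ 2) (M : Matrix (Fin n) (Fin n) K)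
    (hU : Mᵀ * M.map (· ^ q) = 1) (u v : Fin n → K) :
    hermForm n K q (M *ᵥ u) (M *ᵥ v) = hermForm n K q u v := by
  rw [hermForm_mulVec_mulVec hK, hU, one_mulVec, hermForm_eq_dot]

/-- a nonzero subspace-like set on which the form is nondegenerate contains a unit vector -/
theorem exists_unit_of_pair (hK : Fintype.card K = q ^ 2) (h2 : (2 : K) ≠ 0)
    (y z : Fin n → K) (hyz : hermForm n K q y z ≠ 0) :
    ∃ a b : K, hermForm n K q (a • y + b • z) (a • y + b • z) = 1 := by
  -- first find a nonisotropic combination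
  have key : ∃ a b : K, hermForm n K q (a • y + b • z) (a • y + b • z) ≠ 0 := by
    by_cases hy : hermForm n K q y y ≠ 0
    · exact ⟨1, 0, by simpa using hy⟩
    by_cases hz : hermForm n K q z z ≠ 0
    · exact ⟨0, 1, by simpa using hz⟩
    push Not at hy hz
    set a := hermForm n K q y z with ha
    refine ⟨1, a, ?_⟩
    have hzy : hermForm n K q z y = a ^ q := hermForm_swap hK z y
    rw [one_smul, hermForm_add_left, hermForm_add_right hK, hermForm_add_right hK, hy,
      hermForm_smul_right, hermForm_smul_left, hermForm_smul_left, hermForm_smul_right, hz, hzy,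
      ← ha]
    have : (0 : K) + a ^ q * a + (a * a ^ q + a * (a ^ q * 0)) = 2 * (a * a ^ q) := by ring
    rw [this]
    exact mul_ne_zero h2 (mul_ne_zero hyz (pow_ne_zero _ hyz))
  obtain ⟨a, b, hab⟩ := key
  set w := a • y + b • z with hw
  set c := hermForm n K q w w with hc
  have hcq : c ^ q = c := (hermForm_swap hK w w).symm
  obtain ⟨μ, hμ⟩ := exists_norm hK hab hcq
  have hμ0 : μ ≠ 0 := by
    intro h0
    rw [h0, zero_mul] at hμ
    exact hab hμ.symm
  refine ⟨μ⁻¹ * a, μ⁻¹ * b, ?_⟩
  have e1 : (μ⁻¹ * a) • y + (μ⁻¹ * b) • z = μ⁻¹ • w := by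
    rw [hw, smul_add, smul_smul, smul_smul]
  rw [e1, hermForm_smul_left, hermForm_smul_right, ← hc, ← hμ, inv_pow]
  field_simp

/-- a unitary involution other than `-1` fixes a unit vector -/
theorem exists_fixed_unit (hK : Fintype.card K = q ^ 2) (h2 : (2 : K) ≠ 0)
    (M : Matrix (Fin n) (Fin n) K) (hU : Mᵀ * M.map (· ^ q) = 1) (hM2 : M * M = 1)
    (hne : M ≠ -1) : ∃ v : Fin n → K, hermForm n K q v v = 1 ∧ M *ᵥ v = v := by
  have h1 : ∃ x : Fin n → K, (M + 1) *ᵥ x ≠ 0 := by
    by_contra hcon
    push Not at hcon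
    apply hne
    have : M + 1 = 0 := by
      apply Matrix.toLin'.injective
      rw [map_zero]
      apply LinearMap.ext
      intro x
      rw [Matrix.toLin'_apply, hcon, LinearMap.zero_apply]
    exact eq_neg_of_add_eq_zero_left this
  obtain ⟨x, hx⟩ := h1
  set y := (M + 1) *ᵥ x with hy
  have hMy : M *ᵥ y = y := by
    rw [hy, Matrix.mulVec_mulVec, Matrix.mul_add, hM2, Matrix.mul_one, add_comm]
  obtain ⟨w, hw⟩ : ∃ w, hermForm n K q y w ≠ 0 := by
    by_contra hcon
    push Not at hcon
    exact hx (hermForm_nondeg hK y hcon)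
  set z := w + M *ᵥ w with hz
  have hMz : M *ᵥ z = z := by
    rw [hz, Matrix.mulVec_add, Matrix.mulVec_mulVec, hM2, Matrix.one_mulVec, add_comm]
  have hyz : hermForm n K q y z ≠ 0 := by
    rw [hz, hermForm_add_right hK]
    have : hermForm n K q y (M *ᵥ w) = hermForm n K q y w := by
      conv_lhs => rw [← hMy]
      exact hermForm_unitary hK M hU y w
    rw [this, ← two_mul]
    exact mul_ne_zero h2 hw
  obtain ⟨a, b, hab⟩ := exists_unit_of_pair hK h2 y z hyz
  refine ⟨a • y + b • z, hab, ?_⟩
  rw [Matrix.mulVec_add, Matrix.mulVec_smul, Matrix.mulVec_smul, hMy, hMz]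

end Cfsg.Agent.Helper8.SU3I
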