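import Mathlib
import Cfsg.Agent.Helper8.SU3IFix
set_option autoImplicit false

/-! Block-diagonal unitary matrices `diag(A, l)` and the centraliser of `diag(-1, 1)`. -/

namespace Cfsg.Agent.Helper8.SU3I

open Matrix Cfsg Cfsg.Agent.Helper7.Herm Cfsg.Agent.Helper8.GUOrder

variable {K : Type*} [Field K] [Fintype K] {q : ℕ} {n : ℕ}

/-- the block matrix `diag(A, l)` -/
def embL (A : Matrix (Fin n) (Fin n) K) (l : K) : Matrix (Fin (n + 1)) (Fin (n + 1)) K :=
  (fromBlocks A 0 0 (l • (1 : Matrix (Fin 1) (Fin 1) K))).submatrix finSumFinEquiv.symm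
    finSumFinEquiv.symm

omit [Fintype K] in
theorem embL_sig (A : Matrix (Fin n) (Fin n) K) (l : K) :
    (embL A l).submatrix finSumFinEquiv finSumFinEquiv = fromBlocks A 0 0 (l • 1) := by
  ext i j; simp [embL]

omit [Fintype K] in
theorem embL_one_right (A : Matrix (Fin n) (Fin n) K) : embL A 1 = emb A := by
  unfold embL emb
  rw [one_smul]

omit [Fintype K] in
theorem embL_mul (A B : Matrix (Fin n) (Fin n) K) (l m : K) :
    embL A l * embL B m = embL (A * B) (l * m) := by
  unfold embL
  rw [Matrix.submatrix_mul_equiv, Matrix.fromBlocks_multiply]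
  congr 2
  · simp
  · simp
  · simp
  · simp [smul_smul, mul_comm]

omit [Fintype K] in
theorem embL_one : embL (1 : Matrix (Fin n) (Fin n) K) 1 = 1 := by
  unfold embL
  rw [one_smul, Matrix.fromBlocks_one, Matrix.submatrix_one_equiv]

omit [Fintype K] in
theorem embL_injective {A B : Matrix (Fin n) (Fin n) K} {l m : K} (h : embL A l = embL B m) :
    A = B ∧ l = m := by
  have h2 := congrArg (fun X => X.submatrix (finSumFinEquiv : Fin n ⊕ Fin 1 ≃ Fin (n + 1))
    finSumFinEquiv) h
  simp only [embL_sig] at h2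
  have h3 := Matrix.fromBlocks_inj.mp h2
  refine ⟨h3.1, ?_⟩
  have h4 := congrFun (congrFun h3.2.2.2 0) 0
  simpa using h4

omit [Fintype K] in
theorem det_embL (A : Matrix (Fin n) (Fin n) K) (l : K) : (embL A l).det = A.det * l := by
  unfold embL
  rw [Matrix.det_submatrix_equiv_self, Matrix.det_fromBlocks_zero₂₁]
  simp

theorem embL_unitary_iff (hK : Fintype.card K = q ^ 2) (A : Matrix (Fin n) (Fin n) K) (l : K) :
    (embL A l)ᵀ * (embL A l).map (· ^ q) = 1 ↔ Aᵀ * A.map (· ^ q) = 1 ∧ l * l ^ q = 1 := by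
  have hq := two_le_q hK
  rw [unitary_iff_sig, embL_sig, Matrix.fromBlocks_transpose, Matrix.fromBlocks_map,
    Matrix.fromBlocks_multiply, map_zero_q hK, map_zero_q hK, ← Matrix.fromBlocks_one]
  simp only [Matrix.transpose_zero, Matrix.mul_zero, Matrix.zero_mul, add_zero, zero_add]
  rw [Matrix.fromBlocks_inj]
  constructor
  · rintro ⟨h1, -, -, h4⟩
    refine ⟨h1, ?_⟩
    have := congrFun (congrFun h4 0) 0
    simpa [Matrix.mul_apply, Matrix.one_apply] using this
  · rintro ⟨h1, h2⟩
    refine ⟨h1, rfl, rfl, ?_⟩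
    ext i j
    have hi : i = 0 := Subsingleton.elim _ _
    have hj : j = 0 := Subsingleton.elim _ _
    subst hi hj
    simpa [Matrix.mul_apply, Matrix.one_apply] using h2

/-- the standard involution `diag(-1, …, -1, 1)` -/
def t0 (n : ℕ) (K : Type*) [Field K] : Matrix (Fin (n + 1)) (Fin (n + 1)) K :=
  embL (-1 : Matrix (Fin n) (Fin n) K) 1

omit [Fintype K] in
theorem t0_mul_t0 : t0 n K * t0 n K = 1 := by
  unfold t0
  rw [embL_mul]
  simp [embL_one]

omit [Fintype K] in
theorem embL_comm_t0 (A : Matrix (Fin n) (Fin n) K) (l : K) :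
    embL A l * t0 n K = t0 n K * embL A l := by
  unfold t0
  rw [embL_mul, embL_mul]
  simp

omit [Fintype K] in
/-- a matrix commuting with `t0` is block diagonal -/
theorem exists_embL_of_comm (h2 : (2 : K) ≠ 0) (M : Matrix (Fin (n + 1)) (Fin (n + 1)) K)
    (hc : M * t0 n K = t0 n K * M) : ∃ (A : Matrix (Fin n) (Fin n) K) (l : K), M = embL A l := by
  set M' := M.submatrix (finSumFinEquiv : Fin n ⊕ Fin 1 ≃ Fin (n + 1)) finSumFinEquiv with hM'
  have hdec := Matrix.fromBlocks_toBlocks M'
  set A := M'.toBlocks₁₁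
  set B := M'.toBlocks₁₂
  set C := M'.toBlocks₂₁
  set D := M'.toBlocks₂₂
  have hc' : M' * fromBlocks (-1 : Matrix (Fin n) (Fin n) K) 0 0 ((1 : K) • 1) =
      fromBlocks (-1 : Matrix (Fin n) (Fin n) K) 0 0 ((1 : K) • 1) * M' := by
    rw [← embL_sig, hM', Matrix.submatrix_mul_equiv, Matrix.submatrix_mul_equiv]
    exact congrArg (fun X => X.submatrix (finSumFinEquiv : Fin n ⊕ Fin 1 ≃ Fin (n + 1))
      finSumFinEquiv) hc
  rw [← hdec, Matrix.fromBlocks_multiply, Matrix.fromBlocks_multiply, Matrix.fromBlocks_inj] at hc'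
  obtain ⟨-, h12, h21, -⟩ := hc'
  simp only [Matrix.mul_zero, Matrix.zero_mul, zero_add, add_zero, one_smul, Matrix.mul_one,
    Matrix.neg_mul, Matrix.one_mul, Matrix.mul_neg] at h12 h21
  have hB : B = 0 := by
    ext i j
    have := congrFun (congrFun h12 i) j
    rw [Matrix.neg_apply] at this
    have h3 : (2 : K) * B i j = 0 := by linear_combination this
    rcases mul_eq_zero.mp h3 with h | h
    · exact absurd h h2
    · exact h
  have hC : C = 0 := by
    ext i j
    have := congrFun (congrFun h21 i) j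
    rw [Matrix.neg_apply] at this
    have h3 : (2 : K) * C i j = 0 := by linear_combination -this
    rcases mul_eq_zero.mp h3 with h | h
    · exact absurd h h2
    · exact h
  refine ⟨A, D 0 0, ?_⟩
  apply submatrix_fsf_injective (n := n)
  show M' = (embL A (D 0 0)).submatrix finSumFinEquiv finSumFinEquiv
  rw [embL_sig, ← hdec, hB, hC]
  congr 1
  ext i j
  have hi : i = 0 := Subsingleton.elim _ _
  have hj : j = 0 := Subsingleton.elim _ _
  subst hi hj
  simp

end Cfsg.Agent.Helper8.SU3I
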