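import Mathlib
set_option autoImplicit false
namespace Cfsg.Agent.Helper8.SU3I
open Matrix
variable {K : Type*} [Field K]

/-- a `2 × 2` matrix of determinant one squaring to one is `±1` (characteristic not two) -/
theorem two_by_two (h2 : (2 : K) ≠ 0) (A : Matrix (Fin 2) (Fin 2) K) (hA : A * A = 1)
    (hdet : A.det = 1) : A = 1 ∨ A = -1 := by
  have h00 := congrFun (congrFun hA 0) 0
  have h01 := congrFun (congrFun hA 0) 1
  have h10 := congrFun (congrFun hA 1) 0
  have h11 := congrFun (congrFun hA 1) 1
  rw [Matrix.mul_apply, Fin.sum_univ_two] at h00 h01 h10 h11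
  simp only [Matrix.one_apply_eq, Matrix.one_apply_ne, ne_eq, Fin.isValue, zero_ne_one,
    one_ne_zero, not_false_eq_true] at h00 h01 h10 h11
  rw [Matrix.det_fin_two] at hdet
  set a := A 0 0
  set b := A 0 1
  set c := A 1 0
  set d := A 1 1
  have hs : a * (a + d) = 2 := by linear_combination h00 + hdet
  have hs0 : a + d ≠ 0 := by
    intro h
    rw [h, mul_zero] at hs
    exact h2 hs.symm
  have hb : b = 0 := by
    have : b * (a + d) = 0 := by linear_combination h01
    rcases mul_eq_zero.mp this with h | h
    · exact h
    · exact absurd h hs0
  have hc : c = 0 := by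
    have : c * (a + d) = 0 := by linear_combination h10
    rcases mul_eq_zero.mp this with h | h
    · exact h
    · exact absurd h hs0
  have ha2 : a * a = 1 := by rw [hb] at h00; linear_combination h00
  have had : a * d = 1 := by rw [hb] at hdet; linear_combination hdet
  have ha0 : a ≠ 0 := by
    intro h
    rw [h, zero_mul] at ha2
    exact zero_ne_one ha2
  have hda : d = a := by
    have : a * (d - a) = 0 := by linear_combination had - ha2
    rcases mul_eq_zero.mp this with h | h
    · exact absurd h ha0
    · exact sub_eq_zero.mp h
  have ha : a = 1 ∨ a = -1 := by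
    have : (a - 1) * (a + 1) = 0 := by linear_combination ha2
    rcases mul_eq_zero.mp this with h | h
    · exact Or.inl (sub_eq_zero.mp h)
    · exact Or.inr (eq_neg_of_add_eq_zero_left h)
  rcases ha with ha | ha
  · left
    ext i j
    fin_cases i <;> fin_cases j
    · exact ha
    · exact hb
    · exact hc
    · exact hda.trans ha
  · right
    ext i j
    fin_cases i <;> fin_cases j
    · simpa using ha
    · simpa using hb
    · simpa using hc
    · simpa using hda.trans ha

end Cfsg.Agent.Helper8.SU3I
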