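import Mathlib
import Cfsg.Agent.Helper8.SU3IBlock
import Cfsg.Agent.Helper8.SU3ITwo
set_option autoImplicit false

/-! Involutions of `SU_3(q)`, `q` odd: conjugacy. -/

namespace Cfsg.Agent.Helper8.SU3I

open Matrix Cfsg Cfsg.Agent.Helper7.Herm Cfsg.Agent.Helper8.GUOrder Cfsg.Agent.Helper8.SUCenter

variable {K : Type*} [Field K] [Fintype K] {q : ℕ} {n : ℕ}

/-- the matrix of an element of `SU` -/
def mat (s : SU n K q) : Matrix (Fin n) (Fin n) K :=
  ((s : Matrix.SpecialLinearGroup (Fin n) K) : Matrix (Fin n) (Fin n) K)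

omit [Fintype K] in
theorem mat_mul (s t : SU n K q) : mat (s * t) = mat s * mat t := rfl

omit [Fintype K] in
theorem mat_one : mat (1 : SU n K q) = 1 := rfl

omit [Fintype K] in
theorem mat_injective : Function.Injective (mat : SU n K q → Matrix (Fin n) (Fin n) K) := by
  intro s t h
  apply Subtype.ext
  apply Subtype.ext
  exact h

omit [Fintype K] in
theorem mat_det (s : SU n K q) : (mat s).det = 1 := s.1.2

theorem mat_unitary (hK : Fintype.card K = q ^ 2) (s : SU n K q) :
    (mat s)ᵀ * (mat s).map (· ^ q) = 1 := (mem_SU_iff hK s.1).mp s.2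

omit [Fintype K] in
theorem mat_inv_mul (s : SU n K q) : mat s⁻¹ * mat s = 1 := by
  rw [← mat_mul, inv_mul_cancel, mat_one]

omit [Fintype K] in
theorem mat_mul_inv (s : SU n K q) : mat s * mat s⁻¹ = 1 := by
  rw [← mat_mul, mul_inv_cancel, mat_one]

theorem mat_mkSU (hK : Fintype.card K = q ^ 2) (M : Matrix (Fin n) (Fin n) K)
    (hU : Mᵀ * M.map (· ^ q) = 1) (hdet : M.det = 1) : mat (mkSU hK M hU hdet) = M := rfl

/-- products of unitary matrices are unitary -/
theorem unitary_mul (hK : Fintype.card K = q ^ 2) {M N : Matrix (Fin n) (Fin n) K}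
    (hM : Mᵀ * M.map (· ^ q) = 1) (hN : Nᵀ * N.map (· ^ q) = 1) :
    (M * N)ᵀ * (M * N).map (· ^ q) = 1 := by
  have h1 := ((guEquiv hK).symm ⟨M, hM⟩ * (guEquiv hK).symm ⟨N, hN⟩).2
  exact (mem_GU_iff hK _).mp h1

/-- `SU_{n+1}` is transitive on unit vectors (`n ≥ 1`) -/
theorem exists_su_mulVec (hK : Fintype.card K = q ^ 2) (hn : 1 ≤ n) (v : Fin (n + 1) → K)
    (hv : hermForm (n + 1) K q v v = 1) :
    ∃ S : SU (n + 1) K q, mat S *ᵥ e0 n = v := by
  obtain ⟨g, hg, hgv⟩ := exists_mem_GU_mulVec hK (hermForm_e0 hK n) hv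
  have hgU := (mem_GU_iff hK g).mp hg
  set δ := (g : Matrix (Fin (n + 1)) (Fin (n + 1)) K).det with hδ
  have hnorm : δ * δ ^ q = 1 := by
    have h2 := congrArg Matrix.det hgU
    rwa [Matrix.det_mul, Matrix.det_transpose, det_map_q hK, Matrix.det_one] at h2
  have hδ0 : δ ≠ 0 := by
    intro h0
    rw [h0, zero_mul] at hnorm
    exact zero_ne_one hnorm
  set d : Fin (n + 1) → K := fun i => if i = 0 then δ⁻¹ else 1 with hd
  have hdd : ∀ i, d i * d i ^ q = 1 := by
    intro i
    rw [hd]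
    by_cases hi : i = 0
    · simp only [if_pos hi]
      rw [inv_pow, ← mul_inv, hnorm, inv_one]
    · simp only [if_neg hi]; rw [one_pow, one_mul]
  have hDU := diagonal_unitary hK d hdd
  have hMU := unitary_mul hK hgU hDU
  have hdet : ((g : Matrix (Fin (n + 1)) (Fin (n + 1)) K) * Matrix.diagonal d).det = 1 := by
    rw [Matrix.det_mul, Matrix.det_diagonal, Fin.prod_univ_succ, ← hδ]
    simp [hd, Fin.succ_ne_zero, hδ0]
  refine ⟨mkSU hK _ hMU hdet, ?_⟩
  rw [mat_mkSU, ← Matrix.mulVec_mulVec]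
  have : Matrix.diagonal d *ᵥ e0 n = e0 n := by
    unfold e0
    rw [Matrix.mulVec_single_one]
    ext i
    rw [Matrix.col_apply, Matrix.diagonal_apply, Pi.single_apply]
    by_cases hi : i = Fin.last n
    · subst hi
      rw [if_pos rfl, if_pos rfl, hd]
      have : Fin.last n ≠ 0 := by
        intro h
        have := congrArg Fin.val h
        simp at this
        omega
      simp only [if_neg this]
    · rw [if_neg hi, if_neg hi]
  rw [this, hgv]

theorem neg_one_unitary (hK : Fintype.card K = q ^ 2) :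
    (-1 : Matrix (Fin n) (Fin n) K)ᵀ * (-1 : Matrix (Fin n) (Fin n) K).map (· ^ q) = 1 := by
  have h1 : (-1 : Matrix (Fin n) (Fin n) K).map (· ^ q) = -1 := by
    ext i j
    have hq0 : q ≠ 0 := by have := two_le_q hK; omega
    by_cases h : i = j
    · subst h
      simp [neg_one_pow_q hK]
    · simp [h, hq0]
  rw [h1, Matrix.transpose_neg, Matrix.transpose_one, neg_mul_neg, Matrix.one_mul]

theorem t0_unitary (hK : Fintype.card K = q ^ 2) :
    (t0 n K)ᵀ * (t0 n K).map (· ^ q) = 1 := by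
  unfold t0
  rw [embL_unitary_iff hK]
  exact ⟨neg_one_unitary hK, by rw [one_pow, one_mul]⟩

omit [Fintype K] in
theorem t0_det_two : (t0 2 K).det = 1 := by
  unfold t0
  rw [det_embL, mul_one, Matrix.det_neg, Matrix.det_one, Fintype.card_fin]
  norm_num

/-- the standard involution of `SU_3` -/
def T0 (hK : Fintype.card K = q ^ 2) : SU (2 + 1) K q := mkSU hK (t0 2 K) (t0_unitary hK) t0_det_two

theorem mat_T0 (hK : Fintype.card K = q ^ 2) : mat (T0 hK) = t0 2 K := rfl

omit [Fintype K] in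
theorem emb_mul (A B : Matrix (Fin n) (Fin n) K) : emb (A * B) = emb A * emb B := by
  rw [← embL_one_right, ← embL_one_right, ← embL_one_right, embL_mul, one_mul]

omit [Fintype K] in
theorem emb_one : emb (1 : Matrix (Fin n) (Fin n) K) = 1 := by
  rw [← embL_one_right, embL_one]

omit [Fintype K] in
theorem det_emb (A : Matrix (Fin n) (Fin n) K) : (emb A).det = A.det := by
  rw [← embL_one_right, det_embL, mul_one]

omit [Fintype K] in
theorem neg_one_ne_mat (h2 : (2 : K) ≠ 0) (s : SU (2 + 1) K q) : mat s ≠ -1 := by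
  intro h
  have h1 := mat_det s
  rw [h, Matrix.det_neg, Matrix.det_one, Fintype.card_fin] at h1
  have h3 : (2 : K) = 0 := by linear_combination -h1
  exact h2 h3

/-- every involution of `SU_3(q)` is conjugate to the standard one -/
theorem exists_conj_T0 (hK : Fintype.card K = q ^ 2) (h2 : (2 : K) ≠ 0) (t : SU (2 + 1) K q)
    (ht : t ≠ 1) (ht2 : t * t = 1) : ∃ g : SU (2 + 1) K q, g * T0 hK * g⁻¹ = t := by
  have hM2 : mat t * mat t = 1 := by rw [← mat_mul, ht2, mat_one]
  obtain ⟨v, hv1, hv2⟩ := exists_fixed_unit hK h2 (mat t) (mat_unitary hK t) hM2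
    (neg_one_ne_mat h2 t)
  obtain ⟨S, hS⟩ := exists_su_mulVec hK (by norm_num) v hv1
  set t' := S⁻¹ * t * S with ht'
  have hfix : mat t' *ᵥ e0 2 = e0 2 := by
    rw [ht', mat_mul, mat_mul, ← Matrix.mulVec_mulVec, ← Matrix.mulVec_mulVec, hS, hv2, ← hS,
      Matrix.mulVec_mulVec, mat_inv_mul, Matrix.one_mulVec]
  obtain ⟨A, hAU, hA⟩ := (stab_iff hK (mat t') (mat_unitary hK t')).mp hfix
  have ht'2 : t' * t' = 1 := by
    rw [ht']
    calc S⁻¹ * t * S * (S⁻¹ * t * S) = S⁻¹ * (t * t) * S := by group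
      _ = 1 := by rw [ht2]; group
  have hAA : A * A = 1 := by
    apply emb_injective
    rw [emb_mul, ← hA, ← mat_mul, ht'2, mat_one, emb_one]
  have hAdet : A.det = 1 := by rw [← det_emb, ← hA, mat_det]
  have ht'T : t' = T0 hK := by
    rcases two_by_two h2 A hAA hAdet with h | h
    · exfalso
      apply ht
      have h1 : t' = 1 := by
        apply mat_injective
        rw [hA, h, emb_one, mat_one]
      have : t = S * t' * S⁻¹ := by rw [ht']; group
      rw [this, h1]
      group
    · apply mat_injective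
      rw [hA, h, mat_T0, t0, embL_one_right]
  refine ⟨S, ?_⟩
  rw [← ht'T, ht']
  group

end Cfsg.Agent.Helper8.SU3I
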