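import Mathlib
import Cfsg.Agent.Helper8.SURootB
import Cfsg.Agent.Helper8.SUCenter

set_option autoImplicit false

/-! Automorphisms of `PSU_n(q)`: the hyperbolic frame and rank one updates (helper8). -/

namespace Cfsg.Agent.Helper8.AutSU

open Matrix Cfsg Cfsg.Agent.Helper7.Herm Cfsg.Agent.Helper8.GUOrder Cfsg.Agent.Helper8.SURoot

variable {F : Type*} [Field F] [Fintype F] {q k N : ℕ} [hF : Fact (Fintype.card F = q ^ 2)]

/-! ### algebra of the form with the `Fact` instance -/

theorem h_add_right (u v v' : Fin N → F) :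
    hermForm N F q u (v + v') = hermForm N F q u v + hermForm N F q u v' :=
  hermForm_add_right hF.out u v v'

theorem h_sub_right (u v v' : Fin N → F) :
    hermForm N F q u (v - v') = hermForm N F q u v - hermForm N F q u v' :=
  hermForm_sub_right hF.out u v v'

omit hF in
theorem h_neg_left (u v : Fin N → F) : hermForm N F q (-u) v = -hermForm N F q u v := by
  rw [← neg_one_smul F u, hermForm_smul_left]; ring

theorem h_neg_right (u v : Fin N → F) : hermForm N F q u (-v) = -hermForm N F q u v := by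
  rw [← neg_one_smul F v, hermForm_smul_right, neg_one_pow_q hF.out]; ring

theorem h_swap (u v : Fin N → F) : hermForm N F q u v = (hermForm N F q v u) ^ q :=
  hermForm_swap hF.out u v

theorem h_zero_right (u : Fin N → F) : hermForm N F q u 0 = 0 := hermForm_zero_right u

theorem bb (a : F) : (a ^ q) ^ q = a := pow_q_pow_q hF.out a

theorem b_add (a b : F) : (a + b) ^ q = a ^ q + b ^ q := add_pow_q hF.out a b

theorem b_sub (a b : F) : (a - b) ^ q = a ^ q - b ^ q := sub_pow_q hF.out a b

theorem b_neg (a : F) : (-a) ^ q = -(a ^ q) := neg_pow_q hF.out a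

omit [Fintype F] hF in
theorem b_one : (1 : F) ^ q = 1 := one_pow q

theorem b_zero : (0 : F) ^ q = 0 := by
  rw [zero_pow]
  have := one_le_q hF.out
  omega

omit [Fintype F] hF in
theorem b_inv (a : F) : (a⁻¹) ^ q = (a ^ q)⁻¹ := inv_pow a q

theorem h_eq_zero_of_swap {u v : Fin N → F} (h : hermForm N F q u v = 0) :
    hermForm N F q v u = 0 := by
  rw [h_swap, h, b_zero]

theorem h_eq_one_of_swap {u v : Fin N → F} (h : hermForm N F q u v = 1) :
    hermForm N F q v u = 1 := by
  rw [h_swap, h, b_one]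

/-! ### rank one updates -/

omit [Fintype F] hF in
/-- the matrix of `v ↦ v + h(v, y) x` -/
def Rm (q : ℕ) (x y : Fin N → F) : Matrix (Fin N) (Fin N) F :=
  1 + vecMulVec x (fun j => y j ^ q)

omit [Fintype F] hF in
theorem Rm_mulVec (x y v : Fin N → F) : Rm q x y *ᵥ v = v + hermForm N F q v y • x := by
  unfold Rm hermForm
  rw [add_mulVec, one_mulVec, vecMulVec_mulVec]
  congr 1
  ext i
  simp only [Pi.smul_apply, MulOpposite.smul_eq_mul_unop, MulOpposite.unop_op, smul_eq_mul,
    dotProduct]
  rw [Finset.mul_sum, Finset.sum_mul]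
  apply Finset.sum_congr rfl
  intro j _
  ring

omit [Fintype F] hF in
theorem det_Rm (x y : Fin N → F) : (Rm q x y).det = 1 + hermForm N F q x y := by
  unfold Rm
  rw [Matrix.vecMulVec_eq (Fin 1), det_one_add_replicateCol_mul_replicateRow]
  congr 1
  unfold hermForm dotProduct
  apply Finset.sum_congr rfl
  intro i _
  ring

/-! ### the embedding of `F^k` -/

omit [Fintype F] hF in
/-- `F^k` as the last coordinates of `F^(k+2)` -/
def iw (w : Fin k → F) : Fin (k + 2) → F := Fin.cons 0 (Fin.cons 0 w)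

omit [Fintype F] hF in
/-- the last coordinates -/
def wp (v : Fin (k + 2) → F) : Fin k → F := fun i => v i.succ.succ

omit [Fintype F] hF in
@[simp] theorem wp_iw (w : Fin k → F) : wp (iw w) = w := by
  ext i
  simp [wp, iw]

omit [Fintype F] hF in
theorem iw_add (w w' : Fin k → F) : iw (w + w') = iw w + iw w' := by
  ext i
  refine Fin.cases ?_ (fun i => ?_) i
  · simp [iw]
  · refine Fin.cases ?_ (fun i => ?_) i
    · simp [iw]
    · simp [iw]

omit [Fintype F] hF in
theorem iw_smul (c : F) (w : Fin k → F) : iw (c • w) = c • iw w := by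
  ext i
  refine Fin.cases ?_ (fun i => ?_) i
  · simp [iw]
  · refine Fin.cases ?_ (fun i => ?_) i
    · simp [iw]
    · simp [iw]

omit [Fintype F] hF in
theorem iw_zero : iw (0 : Fin k → F) = 0 := by
  ext i
  refine Fin.cases ?_ (fun i => ?_) i
  · simp [iw]
  · refine Fin.cases ?_ (fun i => ?_) i
    · simp [iw]
    · simp [iw]

omit [Fintype F] hF in
theorem iw_neg (w : Fin k → F) : iw (-w) = -iw w := by
  rw [← neg_one_smul F w, iw_smul, neg_one_smul]

omit [Fintype F] hF in
theorem iw_sub (w w' : Fin k → F) : iw (w - w') = iw w - iw w' := by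
  rw [sub_eq_add_neg, iw_add, iw_neg, sub_eq_add_neg]

omit [Fintype F] hF in
theorem iw_injective : Function.Injective (iw : (Fin k → F) → Fin (k + 2) → F) := by
  intro w w' h
  have := congrArg wp h
  simpa using this

theorem h_iw (w w' : Fin k → F) :
    hermForm (k + 2) F q (iw w) (iw w') = hermForm k F q w w' := by
  unfold hermForm iw
  rw [Fin.sum_univ_succ, Fin.sum_univ_succ]
  simp [b_zero]

omit [Fintype F] hF in
theorem wp_add (v v' : Fin (k + 2) → F) : wp (v + v') = wp v + wp v' := rfl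

omit [Fintype F] hF in
theorem wp_smul (c : F) (v : Fin (k + 2) → F) : wp (c • v) = c • wp v := rfl

/-! ### the frame -/

/-- a hyperbolic pair spanning the first two coordinates -/
structure Frame (F : Type*) [Field F] (q k : ℕ) where
  e : Fin (k + 2) → F
  f : Fin (k + 2) → F
  he : hermForm (k + 2) F q e e = 0
  hf : hermForm (k + 2) F q f f = 0
  hef : hermForm (k + 2) F q e f = 1
  hwe : ∀ w : Fin k → F, hermForm (k + 2) F q (iw w) e = 0
  hwf : ∀ w : Fin k → F, hermForm (k + 2) F q (iw w) f = 0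
  wpe : wp e = 0
  wpf : wp f = 0
  dec : ∀ v : Fin (k + 2) → F,
    v = hermForm (k + 2) F q v f • e + hermForm (k + 2) F q v e • f + iw (wp v)

omit [Fintype F] hF in
theorem h_cons2 (a b a' b' : F) (w w' : Fin k → F) :
    hermForm (k + 2) F q (Fin.cons a (Fin.cons b w) : Fin (k + 2) → F) (Fin.cons a' (Fin.cons b' w')) =
      a * a' ^ q + b * b' ^ q + hermForm k F q w w' := by
  unfold hermForm
  rw [Fin.sum_univ_succ, Fin.sum_univ_succ]
  simp [add_assoc]

omit [Fintype F] hF in
theorem iw_eq (w : Fin k → F) : iw w = (Fin.cons 0 (Fin.cons 0 w) : Fin (k + 2) → F) := rfl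

omit [Field F] [Fintype F] hF in
theorem cons2_eta (v : Fin (k + 2) → F) :
    v = (Fin.cons (v 0) (Fin.cons (v 1) (wp v)) : Fin (k + 2) → F) := by
  ext i
  refine Fin.cases ?_ (fun i => ?_) i
  · simp
  · refine Fin.cases ?_ (fun i => ?_) i
    · simp
    · simp [wp]

theorem exists_frame (k : ℕ) : Nonempty (Frame F q k) := by
  obtain ⟨ζ, hζ⟩ := exists_norm hF.out (c := (-1 : F)) (neg_ne_zero.mpr one_ne_zero)
    (neg_one_pow_q hF.out)
  obtain ⟨υ, hυ, hυ1⟩ := exists_zeta hF.out (K := F)
  have hυ0 : υ ≠ 0 := by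
    rintro rfl
    rw [zero_mul] at hυ
    exact zero_ne_one hυ
  have hub1 : υ ^ q ≠ 1 := by
    intro h
    apply hυ1
    have := bb (q := q) υ
    rw [h, one_pow] at this
    exact this.symm
  have h1 : (1 : F) - υ ≠ 0 := fun h => hυ1 (by linear_combination -h)
  have h2 : (1 : F) - υ ^ q ≠ 0 := fun h => hub1 (by linear_combination -h)
  set x : F := (1 - υ)⁻¹ with hx
  have hxq : x ^ q = (1 - υ ^ q)⁻¹ := by
    rw [hx, inv_pow, b_sub, one_pow]
  have hzero : hermForm k F q (0 : Fin k → F) 0 = 0 := hermForm_zero_left _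
  refine ⟨⟨Fin.cons 1 (Fin.cons ζ 0), x • (Fin.cons 1 (Fin.cons (ζ * υ) 0) : Fin (k + 2) → F),
    ?_, ?_, ?_, ?_, ?_, ?_, ?_, ?_⟩⟩
  · rw [h_cons2, hzero]
    linear_combination hζ
  · rw [hermForm_smul_left, hermForm_smul_right, h_cons2, hzero, mul_pow]
    have : (1 : F) * 1 ^ q + ζ * υ * (ζ ^ q * υ ^ q) + 0 = 0 := by
      linear_combination υ * υ ^ q * hζ - hυ
    rw [this, mul_zero, mul_zero]
  · rw [hermForm_smul_right, h_cons2, hzero, hxq, mul_pow]
    field_simp
    linear_combination (υ ^ q) * hζ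
  · intro w
    rw [iw_eq, h_cons2, hermForm_zero_right]
    ring
  · intro w
    rw [hermForm_smul_right, iw_eq, h_cons2, hermForm_zero_right]
    ring
  · ext i
    simp [wp]
  · ext i
    simp [wp]
  · intro v
    have hv := cons2_eta v
    have e1 : hermForm (k + 2) F q v (Fin.cons 1 (Fin.cons ζ 0)) = v 0 + v 1 * ζ ^ q := by
      conv_lhs => rw [hv]
      rw [h_cons2, hermForm_zero_right]
      ring
    have e2 : hermForm (k + 2) F q v (x • (Fin.cons 1 (Fin.cons (ζ * υ) 0) : Fin (k + 2) → F)) =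
        x ^ q * (v 0 + v 1 * (ζ ^ q * υ ^ q)) := by
      rw [hermForm_smul_right]
      conv_lhs => rw [hv]
      rw [h_cons2, hermForm_zero_right, mul_pow]
      ring
    rw [e1, e2, hxq]
    ext i
    refine Fin.cases ?_ (fun i => ?_) i
    · simp only [Pi.add_apply, Pi.smul_apply, smul_eq_mul, Fin.cons_zero, iw]
      rw [hx]
      field_simp
      linear_combination (v 0 + v 1 * ζ ^ q) * hυ
    · refine Fin.cases ?_ (fun i => ?_) i
      · simp only [Pi.add_apply, Pi.smul_apply, smul_eq_mul, Fin.cons_succ, Fin.cons_zero, iw]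
        have h10 : v (Fin.succ 0) = v 1 := rfl
        rw [hx, h10]
        field_simp
        linear_combination (ζ * v 0 - v 1) * hυ - v 1 * (υ ^ q + υ - 2 * υ * υ ^ q) * hζ
      · simp [iw, wp]

end Cfsg.Agent.Helper8.AutSU
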