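import Mathlib
import Cfsg.Agent.Helper8.AutSUa

set_option autoImplicit false
set_option linter.unusedSectionVars false

/-! Automorphisms of `PSU_n(q)`: Siegel elements (helper8). -/

namespace Cfsg.Agent.Helper8.AutSU

open Matrix Cfsg Cfsg.Agent.Helper7.Herm Cfsg.Agent.Helper8.GUOrder Cfsg.Agent.Helper8.SURoot

variable {F : Type*} [Field F] [Fintype F] {q k N : ℕ} [hF : Fact (Fintype.card F = q ^ 2)]

/-- an element of `SU` from a matrix -/
def mkS (M : Matrix (Fin N) (Fin N) F) (hd : M.det = 1)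
    (hf : ∀ u v, hermForm N F q (M *ᵥ u) (M *ᵥ v) = hermForm N F q u v) : SU N F q :=
  ⟨⟨M, hd⟩, hf⟩

omit [Fintype F] hF in
@[simp] theorem mt_mkS (M : Matrix (Fin N) (Fin N) F) (hd : M.det = 1)
    (hf : ∀ u v, hermForm N F q (M *ᵥ u) (M *ᵥ v) = hermForm N F q u v) :
    mt (mkS M hd hf) = M := rfl

namespace Frame

variable (fr : Frame F q k)

theorem hfe : hermForm (k + 2) F q fr.f fr.e = 1 := h_eq_one_of_swap fr.hef

theorem hew (w : Fin k → F) : hermForm (k + 2) F q fr.e (iw w) = 0 :=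
  h_eq_zero_of_swap (fr.hwe w)

theorem hfw (w : Fin k → F) : hermForm (k + 2) F q fr.f (iw w) = 0 :=
  h_eq_zero_of_swap (fr.hwf w)

theorem e_ne_zero : fr.e ≠ 0 := by
  intro h
  have := fr.hef
  rw [h, hermForm_zero_left] at this
  exact zero_ne_one this

theorem f_ne_zero : fr.f ≠ 0 := by
  intro h
  have := fr.hfe
  rw [h, hermForm_zero_left] at this
  exact zero_ne_one this

omit [Fintype F] hF in
/-- two matrices agreeing on the frame are equal -/
theorem ext_mat {M M' : Matrix (Fin (k + 2)) (Fin (k + 2)) F} (he : M *ᵥ fr.e = M' *ᵥ fr.e)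
    (hf : M *ᵥ fr.f = M' *ᵥ fr.f) (hw : ∀ w : Fin k → F, M *ᵥ iw w = M' *ᵥ iw w) : M = M' := by
  apply Matrix.ext_iff_mulVec.mpr
  intro v
  rw [fr.dec v, mulVec_add, mulVec_add, mulVec_add, mulVec_add, mulVec_smul, mulVec_smul,
    mulVec_smul, mulVec_smul, he, hf, hw]

omit [Fintype F] hF in
theorem ext_su {g g' : SU (k + 2) F q} (he : mt g *ᵥ fr.e = mt g' *ᵥ fr.e)
    (hf : mt g *ᵥ fr.f = mt g' *ᵥ fr.f) (hw : ∀ w : Fin k → F, mt g *ᵥ iw w = mt g' *ᵥ iw w) :
    g = g' :=
  Subtype.ext (Subtype.ext (fr.ext_mat he hf hw))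

/-- the coordinates of a vector -/
theorem wp_eq {v : Fin (k + 2) → F} {a b : F} {w : Fin k → F} (h : v = a • fr.e + b • fr.f + iw w) :
    wp v = w := by
  rw [h, wp_add, wp_add, wp_smul, wp_smul, fr.wpe, fr.wpf, smul_zero, smul_zero, zero_add, zero_add,
    wp_iw]

/-! ### Siegel elements -/

omit [Fintype F] hF in
/-- the matrix of a Siegel element -/
def sgM (w : Fin k → F) (a : F) : Matrix (Fin (k + 2)) (Fin (k + 2)) F :=
  Rm q (iw w + a • fr.e) fr.e * Rm q (-fr.e) (iw w)

theorem sgM_mulVec (w : Fin k → F) (a : F) (v : Fin (k + 2) → F) :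
    fr.sgM w a *ᵥ v = v + hermForm (k + 2) F q v fr.e • (iw w + a • fr.e) -
      hermForm (k + 2) F q v (iw w) • fr.e := by
  unfold sgM
  rw [← mulVec_mulVec, Rm_mulVec, Rm_mulVec, hermForm_add_left, hermForm_smul_left, h_neg_left,
    fr.he]
  module

theorem det_sgM (w : Fin k → F) (a : F) : (fr.sgM w a).det = 1 := by
  unfold sgM
  rw [det_mul, det_Rm, det_Rm, hermForm_add_left, hermForm_smul_left, fr.hwe, fr.he, h_neg_left,
    fr.hew]
  ring

theorem form_sgM {w : Fin k → F} {a : F} (ha : a + a ^ q + hermForm k F q w w = 0)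
    (u v : Fin (k + 2) → F) :
    hermForm (k + 2) F q (fr.sgM w a *ᵥ u) (fr.sgM w a *ᵥ v) = hermForm (k + 2) F q u v := by
  rw [sgM_mulVec, sgM_mulVec]
  simp only [hermForm_add_left, h_add_right, hermForm_smul_left, hermForm_smul_right,
    hermForm_sub_left, h_sub_right, fr.he, fr.hwe, fr.hew, h_iw]
  rw [h_swap fr.e v, h_swap (iw w) v]
  linear_combination (hermForm (k + 2) F q u fr.e * (hermForm (k + 2) F q v fr.e) ^ q) * ha

/-- the Siegel element `e ↦ e`, `x ↦ x - h(x, w) e`, `f ↦ f + w + a e` -/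
def sg {w : Fin k → F} {a : F} (ha : a + a ^ q + hermForm k F q w w = 0) : SU (k + 2) F q :=
  mkS (fr.sgM w a) (fr.det_sgM w a) (fr.form_sgM ha)

theorem sg_mulVec {w : Fin k → F} {a : F} (ha : a + a ^ q + hermForm k F q w w = 0)
    (v : Fin (k + 2) → F) :
    mt (fr.sg ha) *ᵥ v = v + hermForm (k + 2) F q v fr.e • (iw w + a • fr.e) -
      hermForm (k + 2) F q v (iw w) • fr.e :=
  fr.sgM_mulVec w a v

theorem sg_e {w : Fin k → F} {a : F} (ha : a + a ^ q + hermForm k F q w w = 0) :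
    mt (fr.sg ha) *ᵥ fr.e = fr.e := by
  rw [sg_mulVec, fr.he, fr.hew, zero_smul, zero_smul, add_zero, sub_zero]

theorem sg_f {w : Fin k → F} {a : F} (ha : a + a ^ q + hermForm k F q w w = 0) :
    mt (fr.sg ha) *ᵥ fr.f = fr.f + iw w + a • fr.e := by
  rw [sg_mulVec, fr.hfe, fr.hfw, zero_smul, one_smul, sub_zero, add_assoc]

theorem sg_iw {w : Fin k → F} {a : F} (ha : a + a ^ q + hermForm k F q w w = 0) (x : Fin k → F) :
    mt (fr.sg ha) *ᵥ iw x = iw x - hermForm k F q x w • fr.e := by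
  rw [sg_mulVec, fr.hwe, h_iw, zero_smul, add_zero]

theorem sg_mul_aux {w w' : Fin k → F} {a a' : F} (ha : a + a ^ q + hermForm k F q w w = 0)
    (ha' : a' + a' ^ q + hermForm k F q w' w' = 0) :
    (a + a' - hermForm k F q w' w) + (a + a' - hermForm k F q w' w) ^ q +
      hermForm k F q (w + w') (w + w') = 0 := by
  rw [hermForm_add_left, hermForm_add_right hF.out, hermForm_add_right hF.out, b_sub, b_add,
    ← hermForm_swap hF.out w w']
  linear_combination ha + ha'

theorem sg_mul {w w' : Fin k → F} {a a' : F} (ha : a + a ^ q + hermForm k F q w w = 0)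
    (ha' : a' + a' ^ q + hermForm k F q w' w' = 0) :
    fr.sg ha * fr.sg ha' = fr.sg (sg_mul_aux ha ha') := by
  apply fr.ext_su
  · rw [mt_mul_mulVec, sg_e, sg_e, sg_e]
  · rw [mt_mul_mulVec, sg_f, mulVec_add, mulVec_add, mulVec_smul, sg_f, sg_iw, sg_e, sg_f, iw_add]
    module
  · intro x
    rw [mt_mul_mulVec, sg_iw, mulVec_sub, mulVec_smul, sg_iw, sg_e, sg_iw, hermForm_add_right hF.out]
    module

theorem sg_congr {w w' : Fin k → F} {a a' : F} (ha : a + a ^ q + hermForm k F q w w = 0)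
    (hw : w = w') (haa : a = a') :
    fr.sg ha = fr.sg (w := w') (a := a') (by rw [← hw, ← haa]; exact ha) := by
  subst hw; subst haa; rfl

theorem sg_zero_aux : (0 : F) + 0 ^ q + hermForm k F q (0 : Fin k → F) 0 = 0 := by
  rw [b_zero, hermForm_zero_left]; ring

theorem sg_zero : fr.sg (sg_zero_aux (F := F) (q := q) (k := k)) = 1 := by
  apply fr.ext_su
  · rw [sg_e, mt_one_mulVec]
  · rw [sg_f, mt_one_mulVec, iw_zero, zero_smul, add_zero, add_zero]
  · intro x
    rw [sg_iw, mt_one_mulVec, hermForm_zero_right, zero_smul, sub_zero]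

theorem sg_inv_aux {w : Fin k → F} {a : F} (ha : a + a ^ q + hermForm k F q w w = 0) :
    a ^ q + (a ^ q) ^ q + hermForm k F q (-w) (-w) = 0 := by
  rw [bb, h_neg_left, h_neg_right]
  linear_combination ha

theorem sg_inv {w : Fin k → F} {a : F} (ha : a + a ^ q + hermForm k F q w w = 0) :
    (fr.sg ha)⁻¹ = fr.sg (sg_inv_aux ha) := by
  rw [inv_eq_iff_mul_eq_one, sg_mul, ← fr.sg_zero]
  apply fr.sg_congr
  · rw [add_neg_cancel]
  · rw [h_neg_left]
    linear_combination ha

theorem sg_injective {w w' : Fin k → F} {a a' : F} (ha : a + a ^ q + hermForm k F q w w = 0)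
    (ha' : a' + a' ^ q + hermForm k F q w' w' = 0) (h : fr.sg ha = fr.sg ha') :
    w = w' ∧ a = a' := by
  have h1 : mt (fr.sg ha) *ᵥ fr.f = mt (fr.sg ha') *ᵥ fr.f := by rw [h]
  rw [sg_f, sg_f] at h1
  have h2 : iw (w - w') = (a' - a) • fr.e := by
    rw [iw_sub, sub_smul]
    have h1' := add_left_cancel (a := fr.f) (by rw [← add_assoc, ← add_assoc]; exact h1 :
      fr.f + (iw w + a • fr.e) = fr.f + (iw w' + a' • fr.e))
    rw [sub_eq_sub_iff_add_eq_add, h1']
    exact add_comm _ _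
  have h3 : w = w' := by
    have := congrArg wp h2
    rw [wp_iw, wp_smul, fr.wpe, smul_zero] at this
    exact sub_eq_zero.mp this
  refine ⟨h3, ?_⟩
  rw [h3, sub_self, iw_zero] at h2
  rcases smul_eq_zero.mp h2.symm with h4 | h4
  · exact (sub_eq_zero.mp h4).symm
  · exact absurd h4 fr.e_ne_zero

/-- the central Siegel elements are the transvections along `e` -/
theorem sg_zero_left_aux {s : F} (hs : s ^ q + s = 0) :
    s + s ^ q + hermForm k F q (0 : Fin k → F) 0 = 0 := by
  rw [hermForm_zero_left]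
  linear_combination hs

theorem sg_eq_TU {s : F} (hs : s ^ q + s = 0) :
    fr.sg (sg_zero_left_aux (k := k) hs) = TU q fr.e s := by
  apply ext_mulVec
  intro v
  rw [sg_mulVec, TU_mulVec fr.he hs, iw_zero, hermForm_zero_right]
  module

/-- the commutator of two Siegel elements -/
theorem sg_comm {w w' : Fin k → F} {a a' : F} (ha : a + a ^ q + hermForm k F q w w = 0)
    (ha' : a' + a' ^ q + hermForm k F q w' w' = 0) :
    ∃ hs : (hermForm k F q w w' - hermForm k F q w' w) ^ q +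
        (hermForm k F q w w' - hermForm k F q w' w) = 0,
      fr.sg ha * fr.sg ha' = fr.sg ha' * fr.sg ha * TU q fr.e
        (hermForm k F q w w' - hermForm k F q w' w) := by
  have hs : (hermForm k F q w w' - hermForm k F q w' w) ^ q +
        (hermForm k F q w w' - hermForm k F q w' w) = 0 := by
    rw [b_sub, ← hermForm_swap hF.out w' w, ← hermForm_swap hF.out w w']
    ring
  refine ⟨hs, ?_⟩
  rw [← fr.sg_eq_TU (k := k) hs, sg_mul, sg_mul, sg_mul]
  apply fr.sg_congr
  · rw [add_zero, add_comm]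
  · rw [hermForm_zero_left]
    ring

end Frame

end Cfsg.Agent.Helper8.AutSU
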