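import Mathlib
import Cfsg.Agent.Helper8.AutSUb

set_option autoImplicit false
set_option linter.unusedSectionVars false

/-! Automorphisms of `PSU_n(q)`: the Levi complement of the stabiliser of an isotropic point
(helper8). -/

namespace Cfsg.Agent.Helper8.AutSU

open Matrix Cfsg Cfsg.Agent.Helper7.Herm Cfsg.Agent.Helper8.GUOrder Cfsg.Agent.Helper8.SURoot

variable {F : Type*} [Field F] [Fintype F] {q k N : ℕ} [hF : Fact (Fintype.card F = q ^ 2)]

/-- the action of a Levi element on `F^k` -/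
def lact (l : SU (k + 2) F q) (w : Fin k → F) : Fin k → F := wp (mt l *ᵥ iw w)

namespace Frame

variable (fr : Frame F q k)

/-- the stabiliser of the point `⟨e⟩` -/
def Bv : Subgroup (SU (k + 2) F q) where
  carrier := {g | ∃ t : F, mt g *ᵥ fr.e = t • fr.e}
  mul_mem' := by
    rintro g g' ⟨t, ht⟩ ⟨t', ht'⟩
    exact ⟨t' * t, by rw [mt_mul_mulVec, ht', mulVec_smul, ht, smul_smul]⟩
  one_mem' := ⟨1, by rw [mt_one_mulVec, one_smul]⟩
  inv_mem' := by
    rintro g ⟨t, ht⟩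
    have ht0 : t ≠ 0 := by
      rintro rfl
      rw [zero_smul] at ht
      exact mulVec_ne_zero' g fr.e_ne_zero ht
    refine ⟨t⁻¹, ?_⟩
    have := congrArg (fun v => t⁻¹ • (mt g⁻¹ *ᵥ v)) ht
    beta_reduce at this
    rw [mt_inv_mulVec', mulVec_smul, smul_smul, inv_mul_cancel₀ ht0, one_smul] at this
    exact this.symm

/-- the stabiliser of the two points `⟨e⟩`, `⟨f⟩` -/
def Lv : Subgroup (SU (k + 2) F q) where
  carrier := {g | (∃ t : F, mt g *ᵥ fr.e = t • fr.e) ∧ ∃ t : F, mt g *ᵥ fr.f = t • fr.f}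
  mul_mem' := by
    rintro g g' ⟨⟨t, ht⟩, ⟨s, hs⟩⟩ ⟨⟨t', ht'⟩, ⟨s', hs'⟩⟩
    exact ⟨⟨t' * t, by rw [mt_mul_mulVec, ht', mulVec_smul, ht, smul_smul]⟩,
      ⟨s' * s, by rw [mt_mul_mulVec, hs', mulVec_smul, hs, smul_smul]⟩⟩
  one_mem' := ⟨⟨1, by rw [mt_one_mulVec, one_smul]⟩, ⟨1, by rw [mt_one_mulVec, one_smul]⟩⟩
  inv_mem' := by
    rintro g ⟨⟨t, ht⟩, ⟨s, hs⟩⟩
    have ht0 : t ≠ 0 := by
      rintro rfl
      rw [zero_smul] at ht
      exact mulVec_ne_zero' g fr.e_ne_zero ht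
    have hs0 : s ≠ 0 := by
      rintro rfl
      rw [zero_smul] at hs
      exact mulVec_ne_zero' g fr.f_ne_zero hs
    refine ⟨⟨t⁻¹, ?_⟩, ⟨s⁻¹, ?_⟩⟩
    · have := congrArg (fun v => t⁻¹ • (mt g⁻¹ *ᵥ v)) ht
      beta_reduce at this
      rw [mt_inv_mulVec', mulVec_smul, smul_smul, inv_mul_cancel₀ ht0, one_smul] at this
      exact this.symm
    · have := congrArg (fun v => s⁻¹ • (mt g⁻¹ *ᵥ v)) hs
      beta_reduce at this
      rw [mt_inv_mulVec', mulVec_smul, smul_smul, inv_mul_cancel₀ hs0, one_smul] at this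
      exact this.symm

theorem Lv_le_Bv : fr.Lv ≤ fr.Bv := fun _ h => h.1

/-- the eigenvalue of a Levi element on `e` -/
def lt (l : SU (k + 2) F q) : F := hermForm (k + 2) F q (mt l *ᵥ fr.e) fr.f


theorem lt_spec {l : SU (k + 2) F q} (hl : l ∈ fr.Bv) : mt l *ᵥ fr.e = fr.lt l • fr.e := by
  obtain ⟨t, ht⟩ := hl
  unfold lt
  rw [ht, hermForm_smul_left, fr.hef, mul_one]

theorem lt_ne_zero {l : SU (k + 2) F q} (hl : l ∈ fr.Bv) : fr.lt l ≠ 0 := by
  intro h
  have := fr.lt_spec hl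
  rw [h, zero_smul] at this
  exact mulVec_ne_zero' l fr.e_ne_zero this

theorem lt_spec' {l : SU (k + 2) F q} (hl : l ∈ fr.Lv) :
    mt l *ᵥ fr.f = ((fr.lt l) ^ q)⁻¹ • fr.f := by
  obtain ⟨s, hs⟩ := hl.2
  have h1 := herm_mt l fr.e fr.f
  rw [fr.lt_spec hl.1, hs, hermForm_smul_left, hermForm_smul_right, fr.hef, mul_one] at h1
  have h2 : s ^ q = (fr.lt l)⁻¹ := by
    field_simp [fr.lt_ne_zero hl.1]
    linear_combination h1
  have h3 : s = ((fr.lt l) ^ q)⁻¹ := by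
    have := congrArg (· ^ q) h2
    beta_reduce at this
    rw [bb, inv_pow] at this
    exact this
  rw [hs, h3]

theorem lact_spec {l : SU (k + 2) F q} (hl : l ∈ fr.Lv) (w : Fin k → F) :
    mt l *ᵥ iw w = iw (lact l w) := by
  have ht0 := fr.lt_ne_zero hl.1
  have h1 : hermForm (k + 2) F q (mt l *ᵥ iw w) fr.e = 0 := by
    have h := herm_mt l (iw w) fr.e
    rw [fr.lt_spec hl.1, hermForm_smul_right, fr.hwe] at h
    rcases mul_eq_zero.mp h with h | h
    · exact absurd h (pow_ne_zero q ht0)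
    · exact h
  have h2 : hermForm (k + 2) F q (mt l *ᵥ iw w) fr.f = 0 := by
    have h := herm_mt l (iw w) fr.f
    rw [fr.lt_spec' hl, hermForm_smul_right, fr.hwf] at h
    rcases mul_eq_zero.mp h with h | h
    · exact absurd h (pow_ne_zero q (inv_ne_zero (pow_ne_zero q ht0)))
    · exact h
  have h3 := fr.dec (mt l *ᵥ iw w)
  rw [h1, h2, zero_smul, zero_smul, zero_add, zero_add] at h3
  exact h3

theorem lact_add {l : SU (k + 2) F q} (w w' : Fin k → F) :
    lact l (w + w') = lact l w + lact l w' := by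
  unfold lact
  rw [iw_add, mulVec_add, wp_add]

theorem lact_smul {l : SU (k + 2) F q} (c : F) (w : Fin k → F) :
    lact l (c • w) = c • lact l w := by
  unfold lact
  rw [iw_smul, mulVec_smul, wp_smul]

theorem lact_form {l : SU (k + 2) F q} (hl : l ∈ fr.Lv) (w w' : Fin k → F) :
    hermForm k F q (lact l w) (lact l w') = hermForm k F q w w' := by
  rw [← h_iw, ← fr.lact_spec hl, ← fr.lact_spec hl, herm_mt, h_iw]

theorem lact_mul {l l' : SU (k + 2) F q} (hl' : l' ∈ fr.Lv) (w : Fin k → F) :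
    lact (l * l') w = lact l (lact l' w) := by
  unfold lact
  rw [mt_mul_mulVec, fr.lact_spec hl']
  rfl

theorem lact_one (w : Fin k → F) : lact (1 : SU (k + 2) F q) w = w := by
  unfold lact
  rw [mt_one_mulVec, wp_iw]

theorem lt_mul {l l' : SU (k + 2) F q} (hl : l ∈ fr.Bv) (hl' : l' ∈ fr.Bv) :
    fr.lt (l * l') = fr.lt l * fr.lt l' := by
  have h := fr.lt_spec (fr.Bv.mul_mem hl hl')
  rw [mt_mul_mulVec, fr.lt_spec hl', mulVec_smul, fr.lt_spec hl, smul_smul] at h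
  have h2 : (fr.lt l' * fr.lt l - fr.lt (l * l')) • fr.e = 0 := by
    rw [sub_smul, h, sub_self]
  rcases smul_eq_zero.mp h2 with h3 | h3
  · linear_combination -h3
  · exact absurd h3 fr.e_ne_zero

/-- conjugating a Siegel element by a Levi element -/
theorem conj_sg_aux {l : SU (k + 2) F q} (hl : l ∈ fr.Lv) {w : Fin k → F} {a : F}
    (ha : a + a ^ q + hermForm k F q w w = 0) :
    fr.lt l * (fr.lt l) ^ q * a + (fr.lt l * (fr.lt l) ^ q * a) ^ q +
      hermForm k F q ((fr.lt l) ^ q • lact l w) ((fr.lt l) ^ q • lact l w) = 0 := by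
  rw [hermForm_smul_left, hermForm_smul_right, fr.lact_form hl, mul_pow, mul_pow, bb]
  linear_combination (fr.lt l * (fr.lt l) ^ q) * ha

theorem conj_sg {l : SU (k + 2) F q} (hl : l ∈ fr.Lv) {w : Fin k → F} {a : F}
    (ha : a + a ^ q + hermForm k F q w w = 0) :
    l * fr.sg ha * l⁻¹ = fr.sg (fr.conj_sg_aux hl ha) := by
  rw [mul_inv_eq_iff_eq_mul]
  have ht0 := fr.lt_ne_zero hl.1
  have htq0 : (fr.lt l) ^ q ≠ 0 := pow_ne_zero q ht0
  apply fr.ext_su
  · rw [mt_mul_mulVec, mt_mul_mulVec, sg_e, fr.lt_spec hl.1, mulVec_smul, sg_e]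
  · rw [mt_mul_mulVec, mt_mul_mulVec, sg_f, fr.lt_spec' hl, mulVec_smul, sg_f, mulVec_add,
      mulVec_add, mulVec_smul, fr.lt_spec hl.1, fr.lt_spec' hl, fr.lact_spec hl, iw_smul]
    rw [smul_add, smul_add, smul_smul, smul_smul, smul_smul, inv_mul_cancel₀ htq0, one_smul]
    congr 2
    field_simp
  · intro x
    rw [mt_mul_mulVec, mt_mul_mulVec, sg_iw, fr.lact_spec hl, sg_iw, mulVec_sub, mulVec_smul,
      fr.lact_spec hl, fr.lt_spec hl.1, hermForm_smul_right, fr.lact_form hl, bb, smul_smul]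
    congr 2
    ring

end Frame

end Cfsg.Agent.Helper8.AutSU
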