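import Mathlib
import Cfsg.Agent.Helper8.AutSUc

set_option autoImplicit false
set_option linter.unusedSectionVars false

/-! Automorphisms of `PSU_n(q)`: the structure of the stabiliser of an isotropic point, and its
unipotent radical (helper8). -/

namespace Cfsg.Agent.Helper8.AutSU

open Matrix Cfsg Cfsg.Agent.Helper7.Herm Cfsg.Agent.Helper8.GUOrder Cfsg.Agent.Helper8.SURoot

variable {F : Type*} [Field F] [Fintype F] {q k N : ℕ} [hF : Fact (Fintype.card F = q ^ 2)]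

namespace Frame

variable (fr : Frame F q k)

theorem wp_e_smul (c : F) : wp (c • fr.e) = 0 := by
  rw [wp_smul, fr.wpe, smul_zero]

theorem Bv_perp {g : SU (k + 2) F q} (hg : g ∈ fr.Bv) (w : Fin k → F) :
    hermForm (k + 2) F q (mt g *ᵥ iw w) fr.e = 0 := by
  have ht0 := fr.lt_ne_zero hg
  have h := herm_mt g (iw w) fr.e
  rw [fr.lt_spec hg, hermForm_smul_right, fr.hwe] at h
  rcases mul_eq_zero.mp h with h | h
  · exact absurd h (pow_ne_zero q ht0)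
  · exact h

theorem lact_spec_B {g : SU (k + 2) F q} (hg : g ∈ fr.Bv) (w : Fin k → F) :
    mt g *ᵥ iw w = iw (lact g w) + hermForm (k + 2) F q (mt g *ᵥ iw w) fr.f • fr.e := by
  have h3 := fr.dec (mt g *ᵥ iw w)
  rw [fr.Bv_perp hg, zero_smul, add_zero] at h3
  exact h3.trans (add_comm _ _)

theorem lact_mul_B {g g' : SU (k + 2) F q} (hg : g ∈ fr.Bv) (hg' : g' ∈ fr.Bv) (w : Fin k → F) :
    lact (g * g') w = lact g (lact g' w) := by
  unfold lact
  rw [mt_mul_mulVec]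
  conv_lhs => rw [fr.lact_spec_B hg' w]
  rw [mulVec_add, mulVec_smul, fr.lt_spec hg, wp_add, smul_smul, fr.wp_e_smul, add_zero]
  rfl

theorem sg_mem_Bv {w : Fin k → F} {a : F} (ha : a + a ^ q + hermForm k F q w w = 0) :
    fr.sg ha ∈ fr.Bv := ⟨1, by rw [sg_e, one_smul]⟩

theorem lt_sg {w : Fin k → F} {a : F} (ha : a + a ^ q + hermForm k F q w w = 0) :
    fr.lt (fr.sg ha) = 1 := by
  unfold lt
  rw [sg_e, fr.hef]

theorem lact_sg {w : Fin k → F} {a : F} (ha : a + a ^ q + hermForm k F q w w = 0) (x : Fin k → F) :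
    lact (fr.sg ha) x = x := by
  unfold lact
  rw [sg_iw, sub_eq_add_neg, ← neg_smul, wp_add, fr.wp_e_smul, add_zero, wp_iw]

/-- a Levi element with trivial parameters is trivial -/
theorem Lv_eq_one {l : SU (k + 2) F q} (hl : l ∈ fr.Lv) (h1 : fr.lt l = 1)
    (h2 : ∀ w, lact l w = w) : l = 1 := by
  apply fr.ext_su
  · rw [fr.lt_spec hl.1, h1, one_smul, mt_one_mulVec]
  · rw [fr.lt_spec' hl, h1, one_pow, inv_one, one_smul, mt_one_mulVec]
  · intro w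
    rw [fr.lact_spec hl, h2, mt_one_mulVec]

/-- the decomposition of the point stabiliser -/
theorem Bv_decomp {g : SU (k + 2) F q} (hg : g ∈ fr.Bv) :
    ∃ (w : Fin k → F) (a : F) (ha : a + a ^ q + hermForm k F q w w = 0) (l : SU (k + 2) F q),
      l ∈ fr.Lv ∧ g = fr.sg ha * l := by
  have ht0 := fr.lt_ne_zero hg
  set t := fr.lt g with ht
  set v := mt g *ᵥ fr.f with hv
  set α := hermForm (k + 2) F q v fr.f with hα
  set β := hermForm (k + 2) F q v fr.e with hβ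
  have hdec := fr.dec v
  rw [← hα, ← hβ] at hdec
  have h1 : t * β ^ q = 1 := by
    have h := herm_mt g fr.e fr.f
    rw [fr.lt_spec hg, ← hv, hermForm_smul_left, fr.hef, ← ht] at h
    have h2 : hermForm (k + 2) F q fr.e v = β ^ q := by rw [hβ]; exact h_swap _ _
    rw [h2] at h
    exact h
  have hβ0 : β ≠ 0 := by
    rintro h
    rw [h, b_zero, mul_zero] at h1
    exact zero_ne_one h1
  have hβq0 : β ^ q ≠ 0 := pow_ne_zero q hβ0
  have h2 : α * β ^ q + β * α ^ q + hermForm k F q (wp v) (wp v) = 0 := by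
    have h := herm_mt g fr.f fr.f
    rw [← hv, fr.hf] at h
    rw [← h]
    conv_rhs => rw [hdec]
    simp only [hermForm_add_left, h_add_right, hermForm_smul_left, hermForm_smul_right, fr.he,
      fr.hf, fr.hef, fr.hfe, fr.hwe, fr.hwf, fr.hew, fr.hfw, h_iw]
    ring
  have ha : β⁻¹ * α + (β⁻¹ * α) ^ q + hermForm k F q (β⁻¹ • wp v) (β⁻¹ • wp v) = 0 := by
    rw [hermForm_smul_left, hermForm_smul_right, mul_pow, b_inv]
    field_simp
    linear_combination h2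
  refine ⟨β⁻¹ • wp v, β⁻¹ * α, ha, (fr.sg ha)⁻¹ * g, ?_, by rw [mul_inv_cancel_left]⟩
  have hse : mt (fr.sg ha)⁻¹ *ᵥ fr.e = fr.e := by
    have := congrArg (fun x => mt (fr.sg ha)⁻¹ *ᵥ x) (fr.sg_e ha)
    beta_reduce at this
    rw [mt_inv_mulVec'] at this
    exact this.symm
  refine ⟨⟨t, ?_⟩, ⟨β, ?_⟩⟩
  · rw [mt_mul_mulVec, fr.lt_spec hg, mulVec_smul, hse]
  · rw [mt_mul_mulVec, ← hv]
    have h3 : v = mt (fr.sg ha) *ᵥ (β • fr.f) := by
      rw [mulVec_smul, sg_f, iw_smul]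
      conv_lhs => rw [hdec]
      rw [smul_add, smul_add, smul_smul, smul_smul, mul_inv_cancel₀ hβ0, one_smul,
        ← mul_assoc, mul_inv_cancel₀ hβ0, one_mul]
      abel
    have h4 := congrArg (fun x => mt (fr.sg ha)⁻¹ *ᵥ x) h3
    beta_reduce at h4
    rw [mt_inv_mulVec'] at h4
    exact h4

/-- the unipotent radical of the point stabiliser -/
def Qv : Subgroup (SU (k + 2) F q) where
  carrier := {g | ∃ (w : Fin k → F) (a : F) (ha : a + a ^ q + hermForm k F q w w = 0),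
    g = fr.sg ha}
  mul_mem' := by
    rintro _ _ ⟨w, a, ha, rfl⟩ ⟨w', a', ha', rfl⟩
    exact ⟨_, _, _, fr.sg_mul ha ha'⟩
  one_mem' := ⟨0, 0, sg_zero_aux, fr.sg_zero.symm⟩
  inv_mem' := by
    rintro _ ⟨w, a, ha, rfl⟩
    exact ⟨_, _, _, fr.sg_inv ha⟩

theorem sg_mem_Qv {w : Fin k → F} {a : F} (ha : a + a ^ q + hermForm k F q w w = 0) :
    fr.sg ha ∈ fr.Qv := ⟨w, a, ha, rfl⟩

theorem Qv_le_Bv : fr.Qv ≤ fr.Bv := by
  rintro _ ⟨w, a, ha, rfl⟩
  exact fr.sg_mem_Bv ha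

theorem conj_mem_Qv {g u : SU (k + 2) F q} (hg : g ∈ fr.Bv) (hu : u ∈ fr.Qv) :
    g * u * g⁻¹ ∈ fr.Qv := by
  obtain ⟨w, a, ha, l, hl, rfl⟩ := fr.Bv_decomp hg
  obtain ⟨w', a', ha', rfl⟩ := hu
  have h : fr.sg ha * l * fr.sg ha' * (fr.sg ha * l)⁻¹ =
      fr.sg ha * (l * fr.sg ha' * l⁻¹) * (fr.sg ha)⁻¹ := by group
  rw [h, fr.conj_sg hl ha']
  exact fr.Qv.mul_mem (fr.Qv.mul_mem (fr.sg_mem_Qv _) (fr.sg_mem_Qv _))
    (fr.Qv.inv_mem (fr.sg_mem_Qv _))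

theorem mem_Qv_iff {g : SU (k + 2) F q} :
    g ∈ fr.Qv ↔ g ∈ fr.Bv ∧ fr.lt g = 1 ∧ ∀ w, lact g w = w := by
  constructor
  · rintro ⟨w, a, ha, rfl⟩
    exact ⟨fr.sg_mem_Bv ha, fr.lt_sg ha, fr.lact_sg ha⟩
  · rintro ⟨hg, h1, h2⟩
    obtain ⟨w, a, ha, l, hl, rfl⟩ := fr.Bv_decomp hg
    have hl1 : fr.lt l = 1 := by
      rw [fr.lt_mul (fr.sg_mem_Bv ha) (fr.Lv_le_Bv hl), fr.lt_sg, one_mul] at h1
      exact h1
    have hl2 : ∀ x, lact l x = x := by
      intro x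
      have := h2 x
      rw [fr.lact_mul_B (fr.sg_mem_Bv ha) (fr.Lv_le_Bv hl), fr.lact_sg] at this
      exact this
    rw [fr.Lv_eq_one hl hl1 hl2, mul_one]
    exact fr.sg_mem_Qv ha

theorem TU_e_mem_Qv {s : F} (hs : s ^ q + s = 0) : TU q fr.e s ∈ fr.Qv := by
  rw [← fr.sg_eq_TU hs]
  exact fr.sg_mem_Qv _

theorem RG_e_le_Qv : RG q fr.e ≤ fr.Qv := by
  intro g hg
  obtain ⟨s, hs, rfl⟩ := (mem_RG_iff fr.e_ne_zero fr.he g).mp hg
  exact fr.TU_e_mem_Qv hs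

end Frame

end Cfsg.Agent.Helper8.AutSU
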