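import Mathlib
import Cfsg.Agent.Helper8.AutSUd

set_option autoImplicit false
set_option linter.unusedSectionVars false

/-! Automorphisms of `PSU_n(q)`: torus elements and transvections of the Levi complement
(helper8). -/

namespace Cfsg.Agent.Helper8.AutSU

open Matrix Cfsg Cfsg.Agent.Helper7.Herm Cfsg.Agent.Helper8.GUOrder Cfsg.Agent.Helper8.SURoot

variable {F : Type*} [Field F] [Fintype F] {q k N : ℕ} [hF : Fact (Fintype.card F = q ^ 2)]

theorem h_single_right (w : Fin N → F) (i : Fin N) :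
    hermForm N F q w (Pi.single i 1) = w i := by
  unfold hermForm
  rw [Finset.sum_eq_single i]
  · rw [Pi.single_eq_same, one_pow, mul_one]
  · intro j _ hj
    rw [Pi.single_eq_of_ne hj, b_zero, mul_zero]
  · intro h
    exact absurd (Finset.mem_univ i) h

theorem h_single_left (w : Fin N → F) (i : Fin N) :
    hermForm N F q (Pi.single i 1) w = w i ^ q := by
  rw [h_swap, h_single_right]

theorem h_single_single (i : Fin N) :
    hermForm N F q (Pi.single i (1 : F)) (Pi.single i 1) = 1 := by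
  rw [h_single_right, Pi.single_eq_same]

/-- a vector orthogonal to everything is zero -/
theorem eq_zero_of_h_right {w : Fin N → F} (h : ∀ x, hermForm N F q w x = 0) : w = 0 := by
  ext i
  have := h (Pi.single i 1)
  rw [h_single_right] at this
  exact this

theorem eq_zero_of_h_left {w : Fin N → F} (h : ∀ x, hermForm N F q x w = 0) : w = 0 :=
  eq_zero_of_h_right fun x => h_eq_zero_of_swap (h x)

/-- the diagonal map scaling one coordinate -/
def dgD (ζ : F) (i : Fin k) (w : Fin k → F) : Fin k → F := fun j => if j = i then ζ * w j else w j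

omit [Fintype F] hF in
theorem dgD_eq (ζ : F) (i : Fin k) (w : Fin k → F) :
    dgD ζ i w = w + ((ζ - 1) * w i) • Pi.single i 1 := by
  ext j
  unfold dgD
  by_cases h : j = i
  · subst h
    rw [if_pos rfl, Pi.add_apply, Pi.smul_apply, Pi.single_eq_same, smul_eq_mul]
    ring
  · rw [if_neg h, Pi.add_apply, Pi.smul_apply, Pi.single_eq_of_ne h, smul_zero, add_zero]

omit [Fintype F] hF in
theorem dgD_form {ζ : F} (hζ : ζ * ζ ^ q = 1) (i : Fin k) (w w' : Fin k → F) :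
    hermForm k F q (dgD ζ i w) (dgD ζ i w') = hermForm k F q w w' := by
  unfold hermForm dgD
  apply Finset.sum_congr rfl
  intro j _
  by_cases h : j = i
  · rw [if_pos h, if_pos h, mul_pow]
    linear_combination (w j * w' j ^ q) * hζ
  · rw [if_neg h, if_neg h]

namespace Frame

variable (fr : Frame F q k)

/-- a matrix acting diagonally on the frame preserves the form -/
theorem form_of_frame {M : Matrix (Fin (k + 2)) (Fin (k + 2)) F} {a b : F}
    {D : (Fin k → F) → (Fin k → F)} (he : M *ᵥ fr.e = a • fr.e) (hf : M *ᵥ fr.f = b • fr.f)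
    (hw : ∀ w, M *ᵥ iw w = iw (D w)) (hab : a * b ^ q = 1)
    (hD : ∀ w w', hermForm k F q (D w) (D w') = hermForm k F q w w') (u v : Fin (k + 2) → F) :
    hermForm (k + 2) F q (M *ᵥ u) (M *ᵥ v) = hermForm (k + 2) F q u v := by
  have hab' : a ^ q * b = 1 := by
    have := congrArg (· ^ q) hab
    beta_reduce at this
    rw [mul_pow, bb, one_pow] at this
    exact this
  have key : ∀ (α β α' β' : F) (x x' : Fin k → F),
      hermForm (k + 2) F q (M *ᵥ (α • fr.e + β • fr.f + iw x))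
        (M *ᵥ (α' • fr.e + β' • fr.f + iw x')) =
      hermForm (k + 2) F q (α • fr.e + β • fr.f + iw x) (α' • fr.e + β' • fr.f + iw x') := by
    intro α β α' β' x x'
    simp only [mulVec_add, mulVec_smul, he, hf, hw, hermForm_add_left, h_add_right,
      hermForm_smul_left, hermForm_smul_right, fr.he, fr.hf, fr.hef, fr.hfe, fr.hwe, fr.hwf,
      fr.hew, fr.hfw, h_iw, hD]
    linear_combination (α * β' ^ q) * hab + (β * α' ^ q) * hab'
  rw [fr.dec u, fr.dec v]
  exact key _ _ _ _ _ _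

/-- the matrix of a torus element -/
def dgM (t : F) (i : Fin k) : Matrix (Fin (k + 2)) (Fin (k + 2)) F :=
  Rm q ((t - 1) • fr.e) fr.f * Rm q (((t ^ q)⁻¹ - 1) • fr.f) fr.e *
    Rm q ((t ^ q / t - 1) • iw (Pi.single i 1)) (iw (Pi.single i 1))

theorem dgM_e (t : F) (i : Fin k) : fr.dgM t i *ᵥ fr.e = t • fr.e := by
  unfold dgM
  have h3 : Rm q ((t ^ q / t - 1) • iw (Pi.single i 1)) (iw (Pi.single i 1)) *ᵥ fr.e = fr.e := by
    rw [Rm_mulVec, fr.hew, zero_smul, add_zero]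
  have h2 : Rm q (((t ^ q)⁻¹ - 1) • fr.f) fr.e *ᵥ fr.e = fr.e := by
    rw [Rm_mulVec, fr.he, zero_smul, add_zero]
  rw [← mulVec_mulVec, ← mulVec_mulVec, h3, h2, Rm_mulVec, fr.hef, one_smul]
  module

theorem dgM_f (t : F) (i : Fin k) : fr.dgM t i *ᵥ fr.f = (t ^ q)⁻¹ • fr.f := by
  unfold dgM
  have h3 : Rm q ((t ^ q / t - 1) • iw (Pi.single i 1)) (iw (Pi.single i 1)) *ᵥ fr.f = fr.f := by
    rw [Rm_mulVec, fr.hfw, zero_smul, add_zero]
  have h2 : Rm q (((t ^ q)⁻¹ - 1) • fr.f) fr.e *ᵥ fr.f = (t ^ q)⁻¹ • fr.f := by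
    rw [Rm_mulVec, fr.hfe, one_smul]
    module
  rw [← mulVec_mulVec, ← mulVec_mulVec, h3, h2, Rm_mulVec, hermForm_smul_left, fr.hf, mul_zero,
    zero_smul, add_zero]

theorem dgM_iw (t : F) (i : Fin k) (w : Fin k → F) :
    fr.dgM t i *ᵥ iw w = iw (dgD (t ^ q / t) i w) := by
  unfold dgM
  have h3 : Rm q ((t ^ q / t - 1) • iw (Pi.single i 1)) (iw (Pi.single i 1)) *ᵥ iw w =
      iw (dgD (t ^ q / t) i w) := by
    rw [Rm_mulVec, h_iw, h_single_right, ← iw_smul, ← iw_smul, ← iw_add, dgD_eq, smul_smul, mul_comm]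
  have h2 : ∀ x : Fin k → F, Rm q (((t ^ q)⁻¹ - 1) • fr.f) fr.e *ᵥ iw x = iw x := by
    intro x
    rw [Rm_mulVec, fr.hwe, zero_smul, add_zero]
  rw [← mulVec_mulVec, ← mulVec_mulVec, h3, h2, Rm_mulVec, fr.hwf, zero_smul, add_zero]

theorem det_dgM {t : F} (ht : t ≠ 0) (i : Fin k) : (fr.dgM t i).det = 1 := by
  unfold dgM
  rw [det_mul, det_mul, det_Rm, det_Rm, det_Rm, hermForm_smul_left, hermForm_smul_left,
    hermForm_smul_left, fr.hef, fr.hfe, h_iw, h_single_single]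
  have : t ^ q ≠ 0 := pow_ne_zero q ht
  field_simp
  ring

theorem zeta_norm {t : F} (ht : t ≠ 0) : (t ^ q / t) * (t ^ q / t) ^ q = 1 := by
  have : t ^ q ≠ 0 := pow_ne_zero q ht
  rw [div_pow, bb]
  field_simp

theorem form_dgM {t : F} (ht : t ≠ 0) (i : Fin k) (u v : Fin (k + 2) → F) :
    hermForm (k + 2) F q (fr.dgM t i *ᵥ u) (fr.dgM t i *ᵥ v) = hermForm (k + 2) F q u v := by
  refine fr.form_of_frame (fr.dgM_e t i) (fr.dgM_f t i) (fr.dgM_iw t i) ?_
    (dgD_form (zeta_norm ht) i) u v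
  have : t ^ q ≠ 0 := pow_ne_zero q ht
  rw [inv_pow, bb]
  field_simp

/-- the torus element `e ↦ t e`, `f ↦ t^{-q} f`, scaling the `i`-th coordinate by `t^{q-1}` -/
def dg {t : F} (ht : t ≠ 0) (i : Fin k) : SU (k + 2) F q :=
  mkS (fr.dgM t i) (fr.det_dgM ht i) (fr.form_dgM ht i)

theorem dg_e {t : F} (ht : t ≠ 0) (i : Fin k) : mt (fr.dg ht i) *ᵥ fr.e = t • fr.e :=
  fr.dgM_e t i

theorem dg_f {t : F} (ht : t ≠ 0) (i : Fin k) : mt (fr.dg ht i) *ᵥ fr.f = (t ^ q)⁻¹ • fr.f :=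
  fr.dgM_f t i

theorem dg_iw {t : F} (ht : t ≠ 0) (i : Fin k) (w : Fin k → F) :
    mt (fr.dg ht i) *ᵥ iw w = iw (dgD (t ^ q / t) i w) :=
  fr.dgM_iw t i w

theorem dg_mem_Lv {t : F} (ht : t ≠ 0) (i : Fin k) : fr.dg ht i ∈ fr.Lv :=
  ⟨⟨t, fr.dg_e ht i⟩, ⟨_, fr.dg_f ht i⟩⟩

theorem lt_dg {t : F} (ht : t ≠ 0) (i : Fin k) : fr.lt (fr.dg ht i) = t := by
  unfold lt
  rw [dg_e, hermForm_smul_left, fr.hef, mul_one]

theorem lact_dg {t : F} (ht : t ≠ 0) (i : Fin k) (w : Fin k → F) :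
    lact (fr.dg ht i) w = dgD (t ^ q / t) i w := by
  unfold lact
  rw [dg_iw, wp_iw]

/-! ### transvections in the Levi complement -/

theorem TU_iw_e {x : Fin k → F} (hx : hermForm k F q x x = 0) {s : F} (hs : s ^ q + s = 0) :
    mt (TU q (iw x) s) *ᵥ fr.e = fr.e := by
  rw [TU_mulVec (by rw [h_iw, hx]) hs, fr.hew, mul_zero, zero_smul, add_zero]

theorem TU_iw_f {x : Fin k → F} (hx : hermForm k F q x x = 0) {s : F} (hs : s ^ q + s = 0) :
    mt (TU q (iw x) s) *ᵥ fr.f = fr.f := by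
  rw [TU_mulVec (by rw [h_iw, hx]) hs, fr.hfw, mul_zero, zero_smul, add_zero]

theorem TU_iw_iw {x : Fin k → F} (hx : hermForm k F q x x = 0) {s : F} (hs : s ^ q + s = 0)
    (w : Fin k → F) :
    mt (TU q (iw x) s) *ᵥ iw w = iw (w + (s * hermForm k F q w x) • x) := by
  rw [TU_mulVec (by rw [h_iw, hx]) hs, h_iw, iw_add, iw_smul]

theorem TU_iw_mem_Lv {x : Fin k → F} (hx : hermForm k F q x x = 0) {s : F} (hs : s ^ q + s = 0) :
    TU q (iw x) s ∈ fr.Lv :=
  ⟨⟨1, by rw [fr.TU_iw_e hx hs, one_smul]⟩, ⟨1, by rw [fr.TU_iw_f hx hs, one_smul]⟩⟩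

theorem lt_TU_iw {x : Fin k → F} (hx : hermForm k F q x x = 0) {s : F} (hs : s ^ q + s = 0) :
    fr.lt (TU q (iw x) s) = 1 := by
  unfold lt
  rw [fr.TU_iw_e hx hs, fr.hef]

theorem lact_TU_iw {x : Fin k → F} (hx : hermForm k F q x x = 0) {s : F} (hs : s ^ q + s = 0)
    (w : Fin k → F) : lact (TU q (iw x) s) w = w + (s * hermForm k F q w x) • x := by
  unfold lact
  rw [TU_iw_iw hx hs, wp_iw]

end Frame

end Cfsg.Agent.Helper8.AutSU
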