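import Mathlib
import Cfsg.Agent.Helper8.AutSUe

set_option autoImplicit false
set_option linter.unusedSectionVars false

/-! Automorphisms of `PSU_n(q)`: the unipotent radical is a `p`-group, its fixed vectors and its
centraliser (helper8). -/

namespace Cfsg.Agent.Helper8.AutSU

open Matrix Cfsg Cfsg.Agent.Helper7.Herm Cfsg.Agent.Helper8.GUOrder Cfsg.Agent.Helper8.SURoot

variable {F : Type*} [Field F] [Fintype F] {q k N : ℕ} [hF : Fact (Fintype.card F = q ^ 2)]

theorem h_self_fixed (w : Fin N → F) : (hermForm N F q w w) ^ q = hermForm N F q w w :=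
  (h_swap w w).symm

theorem exists_sg (w : Fin k → F) : ∃ a : F, a + a ^ q + hermForm k F q w w = 0 := by
  obtain ⟨z, hz⟩ := exists_trace (F := F) (q := q) (c := -hermForm k F q w w)
    (by rw [b_neg, h_self_fixed])
  exact ⟨z, by linear_combination hz⟩

theorem TU_pow {p : Fin N → F} (hp : hermForm N F q p p = 0) {s : F} (hs : s ^ q + s = 0)
    (m : ℕ) : ∃ hs' : ((m : F) * s) ^ q + (m : F) * s = 0, (TU q p s) ^ m = TU q p ((m : F) * s) := by
  induction m with
  | zero =>
    have h0 : ((0 : ℕ) : F) * s = 0 := by rw [Nat.cast_zero, zero_mul]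
    refine ⟨by rw [h0]; exact tz_zero (one_le_q hF.out), ?_⟩
    rw [pow_zero]
    simp only [h0]
    exact (TU_zero p hp).symm
  | succ m ih =>
    obtain ⟨hs', ih⟩ := ih
    have h1 : ((m + 1 : ℕ) : F) * s = (m : F) * s + s := by push_cast; ring
    refine ⟨by rw [h1]; exact tz_add hs' hs, ?_⟩
    rw [pow_succ, ih, TU_mul hp hs' hs]
    simp only [h1]

theorem TU_pow_char (p : ℕ) [CharP F p] {v : Fin N → F} (hv : hermForm N F q v v = 0) {s : F}
    (hs : s ^ q + s = 0) : (TU q v s) ^ p = 1 := by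
  obtain ⟨_, h⟩ := TU_pow hv hs p
  rw [h]
  have h0 : ((p : ℕ) : F) * s = 0 := by rw [CharP.cast_eq_zero, zero_mul]
  simp only [h0]
  exact TU_zero v hv

namespace Frame

variable (fr : Frame F q k)

theorem sg_pow {w : Fin k → F} {a : F} (ha : a + a ^ q + hermForm k F q w w = 0) (m : ℕ) :
    ∃ (a' : F) (ha' : a' + a' ^ q + hermForm k F q ((m : F) • w) ((m : F) • w) = 0),
      (fr.sg ha) ^ m = fr.sg ha' := by
  induction m with
  | zero =>
    have h0 : ((0 : ℕ) : F) • w = 0 := by rw [Nat.cast_zero, zero_smul]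
    refine ⟨0, by rw [h0]; exact sg_zero_aux, ?_⟩
    rw [pow_zero, ← fr.sg_zero]
    exact fr.sg_congr _ h0.symm rfl
  | succ m ih =>
    obtain ⟨a', ha', ih⟩ := ih
    have h1 : (m : F) • w + w = ((m + 1 : ℕ) : F) • w := by push_cast; module
    have h2 : (a' + a - hermForm k F q w ((m : F) • w)) +
        (a' + a - hermForm k F q w ((m : F) • w)) ^ q +
        hermForm k F q (((m + 1 : ℕ) : F) • w) (((m + 1 : ℕ) : F) • w) = 0 := by
      rw [← h1]
      exact sg_mul_aux ha' ha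
    refine ⟨a' + a - hermForm k F q w ((m : F) • w), h2, ?_⟩
    rw [pow_succ, ih, fr.sg_mul ha' ha]
    exact fr.sg_congr _ h1 rfl

theorem sg_pow_char_sq (p : ℕ) [CharP F p] {w : Fin k → F} {a : F}
    (ha : a + a ^ q + hermForm k F q w w = 0) : (fr.sg ha) ^ (p ^ 2) = 1 := by
  obtain ⟨a', ha', h⟩ := fr.sg_pow ha p
  have h0 : ((p : ℕ) : F) • w = 0 := by rw [CharP.cast_eq_zero, zero_smul]
  have hs : a' ^ q + a' = 0 := by
    rw [h0, hermForm_zero_left] at ha'
    linear_combination ha'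
  have h2 : fr.sg ha' = TU q fr.e a' := by
    rw [← fr.sg_eq_TU hs]
    exact fr.sg_congr _ h0 rfl
  rw [pow_two, pow_mul, h, h2, TU_pow_char p fr.he hs]

theorem isPGroup_Qv (p : ℕ) [CharP F p] : IsPGroup p fr.Qv := by
  rintro ⟨_, w, a, ha, rfl⟩
  refine ⟨2, ?_⟩
  apply Subtype.ext
  rw [Subgroup.coe_pow, Subgroup.coe_one]
  exact fr.sg_pow_char_sq p ha

/-- vectors fixed by the unipotent radical -/
theorem fixed_Qv (hk : 1 ≤ k) {v : Fin (k + 2) → F} (h : ∀ u ∈ fr.Qv, mt u *ᵥ v = v) :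
    v = hermForm (k + 2) F q v fr.f • fr.e := by
  have key : ∀ w : Fin k → F, ∃ a : F, hermForm (k + 2) F q v fr.e • (iw w + a • fr.e) =
      hermForm (k + 2) F q v (iw w) • fr.e := by
    intro w
    obtain ⟨a, ha⟩ := exists_sg (q := q) w
    refine ⟨a, ?_⟩
    have h1 := h _ (fr.sg_mem_Qv ha)
    rw [sg_mulVec] at h1
    have h2 : hermForm (k + 2) F q v fr.e • (iw w + a • fr.e) -
        hermForm (k + 2) F q v (iw w) • fr.e = 0 := by
      have h3 : v + hermForm (k + 2) F q v fr.e • (iw w + a • fr.e) -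
        hermForm (k + 2) F q v (iw w) • fr.e - v = 0 := by rw [h1, sub_self]
      rw [← h3]
      abel
    exact sub_eq_zero.mp h2
  have hβ : hermForm (k + 2) F q v fr.e = 0 := by
    obtain ⟨a, ha⟩ := key (Pi.single ⟨0, hk⟩ 1)
    have h1 := congrArg wp ha
    rw [wp_smul, wp_add, wp_iw, fr.wp_e_smul, fr.wp_e_smul, add_zero] at h1
    have h2 := congrFun h1 ⟨0, hk⟩
    rw [Pi.smul_apply, Pi.single_eq_same, smul_eq_mul, mul_one, Pi.zero_apply] at h2
    exact h2
  have hw : ∀ w : Fin k → F, hermForm (k + 2) F q v (iw w) = 0 := by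
    intro w
    obtain ⟨a, ha⟩ := key w
    rw [hβ, zero_smul] at ha
    rcases smul_eq_zero.mp ha.symm with h1 | h1
    · exact h1
    · exact absurd h1 fr.e_ne_zero
  have hdec := fr.dec v
  rw [hβ, zero_smul, add_zero] at hdec
  have hwp : wp v = 0 := by
    apply eq_zero_of_h_right (q := q)
    intro x
    have h1 := hw x
    rw [hdec, hermForm_add_left, hermForm_smul_left, fr.hew, mul_zero, zero_add, h_iw] at h1
    convert h1 using 2
  rw [hwp, iw_zero, add_zero] at hdec
  exact hdec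

/-- the centraliser of the unipotent radical in the stabiliser of the vector `e` -/
theorem centralizer_Qv {g : SU (k + 2) F q} (hg : g ∈ fr.Bv) (h1 : fr.lt g = 1)
    (hc : ∀ u ∈ fr.Qv, g * u = u * g) : g ∈ RG q fr.e := by
  obtain ⟨w₀, a₀, ha₀, l, hl, rfl⟩ := fr.Bv_decomp hg
  have hl1 : fr.lt l = 1 := by
    rw [fr.lt_mul (fr.sg_mem_Bv ha₀) (fr.Lv_le_Bv hl), fr.lt_sg, one_mul] at h1
    exact h1
  have hl2 : ∀ w, lact l w = w := by
    intro w
    obtain ⟨a, ha⟩ := exists_sg (q := q) w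
    have h2 := hc _ (fr.sg_mem_Qv ha)
    have h3 : fr.sg ha₀ * (l * fr.sg ha * l⁻¹) = fr.sg ha * fr.sg ha₀ := by
      have : fr.sg ha₀ * (l * fr.sg ha * l⁻¹) = (fr.sg ha₀ * l * fr.sg ha) * l⁻¹ := by group
      rw [this, h2]
      group
    rw [fr.conj_sg hl ha, fr.sg_mul, fr.sg_mul] at h3
    have h4 := (fr.sg_injective _ _ h3).1
    rw [hl1, one_pow, one_smul] at h4
    have h5 : w₀ + lact l w - w₀ = w + w₀ - w₀ := by rw [h4]
    rw [add_sub_cancel_left, add_sub_cancel_right] at h5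
    exact h5
  rw [fr.Lv_eq_one hl hl1 hl2, mul_one] at hc ⊢
  have h3 : ∀ w, hermForm k F q w₀ w = hermForm k F q w w₀ := by
    intro w
    obtain ⟨a, ha⟩ := exists_sg (q := q) w
    have h2 := hc _ (fr.sg_mem_Qv ha)
    obtain ⟨hs, h4⟩ := fr.sg_comm ha₀ ha
    rw [h2] at h4
    have h5 : TU q fr.e (hermForm k F q w₀ w - hermForm k F q w w₀) = 1 := by
      have := congrArg (fun x => (fr.sg ha * fr.sg ha₀)⁻¹ * x) h4
      beta_reduce at this
      rw [inv_mul_cancel, inv_mul_cancel_left] at this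
      exact this.symm
    rw [TU_eq_one_iff fr.e_ne_zero fr.he hs] at h5
    exact sub_eq_zero.mp h5
  have hw₀ : w₀ = 0 := by
    apply eq_zero_of_h_right (q := q)
    intro w
    obtain ⟨c, hc'⟩ := exists_not_fixed hF.out (K := F)
    have h4 := h3 (c • w)
    rw [hermForm_smul_right, hermForm_smul_left, ← h3 w] at h4
    have h5 : (c ^ q - c) * hermForm k F q w₀ w = 0 := by linear_combination h4
    rcases mul_eq_zero.mp h5 with h6 | h6
    · exact absurd (sub_eq_zero.mp h6) hc'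
    · exact h6
  have hs : a₀ ^ q + a₀ = 0 := by
    have := ha₀
    rw [hw₀, hermForm_zero_left] at this
    linear_combination this
  have h6 : fr.sg ha₀ = TU q fr.e a₀ := by
    rw [← fr.sg_eq_TU hs]
    exact fr.sg_congr _ hw₀ rfl
  rw [h6]
  exact TU_mem_RG fr.e_ne_zero fr.he hs

end Frame

end Cfsg.Agent.Helper8.AutSU
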