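import Mathlib
import Cfsg.Agent.Helper8.AutSUf
import Cfsg.Agent.Helper8.AutSLnC

set_option autoImplicit false
set_option linter.unusedSectionVars false

/-! Automorphisms of `PSU_n(q)`: a Sylow `p`-subgroup of `SU` containing the unipotent radical of
a point stabiliser fixes the point, and its centre is the root group (helper8). -/

namespace Cfsg.Agent.Helper8.AutSU

open Matrix Cfsg Cfsg.Agent.Helper7.Herm Cfsg.Agent.Helper8.GUOrder Cfsg.Agent.Helper8.SURoot
open Cfsg.Agent.Helper8.AutSLn (ZZ mem_ZZ ZZ_smul)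

variable {F : Type*} [Field F] [Fintype F] {q k N : ℕ} [hF : Fact (Fintype.card F = q ^ 2)]

/-- the nonzero isotropic vectors -/
abbrev Iso (N : ℕ) (F : Type*) [Field F] (q : ℕ) : Type _ :=
  {v : Fin N → F // v ≠ 0 ∧ hermForm N F q v v = 0}

instance : MulAction (SU N F q) (Iso N F q) where
  smul g v := ⟨mt g *ᵥ v.1, mulVec_ne_zero' g v.2.1, by rw [herm_mt]; exact v.2.2⟩
  one_smul v := Subtype.ext (mt_one_mulVec _)
  mul_smul g h v := Subtype.ext (mt_mul_mulVec _ _ _)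

omit [Fintype F] hF in
theorem Iso_smul_val (g : SU N F q) (v : Iso N F q) : (g • v).1 = mt g *ᵥ v.1 := rfl

theorem card_Iso : Nat.card (Iso N F q) + 1 = A N F q 0 := by
  classical
  unfold A
  rw [← Finite.card_option]
  apply Nat.card_congr
  refine ⟨fun o => o.elim ⟨0, hermForm_zero_left _⟩ (fun u => ⟨u.1, u.2.2⟩),
    fun v => if h : v.1 = 0 then none else some ⟨v.1, h, v.2⟩, ?_, ?_⟩
  · intro o
    cases o with
    | none => simp
    | some u =>
      have := u.2.1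
      show (if h : u.1 = 0 then none else some (⟨u.1, h, u.2.2⟩ : Iso N F q)) = some u
      rw [dif_neg this]
  · intro v
    by_cases h : v.1 = 0
    · simp only [h, dif_pos, Option.elim_none]
      exact Subtype.ext h.symm
    · dsimp only
      rw [dif_neg h]
      rfl

theorem char_dvd_q (p : ℕ) [Fact p.Prime] [CharP F p] : p ∣ q := by
  have h1 : (Fintype.card F : F) = 0 := Nat.cast_card_eq_zero F
  rw [CharP.cast_eq_zero_iff F p, hF.out] at h1
  exact (Fact.out : p.Prime).dvd_of_dvd_pow h1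

theorem q_dvd_A (m : ℕ) : q ∣ A (m + 2) F q 0 := by
  have hq := two_le_q hF.out
  have h := (A_closed hF.out (m + 2) (K := F)).1
  have hq0 : (q : ℤ) ≠ 0 := by
    have : (2 : ℤ) ≤ q := by exact_mod_cast hq
    omega
  have h2 : (A (m + 2) F q 0 : ℤ) =
      (q : ℤ) * ((q : ℤ) ^ (2 * m + 2) + (-(q : ℤ)) ^ m * ((q : ℤ) - 1)) := by
    apply mul_left_cancel₀ hq0
    rw [h]
    ring
  have h3 : (q : ℤ) ∣ (A (m + 2) F q 0 : ℤ) := ⟨_, h2⟩
  exact Int.natCast_dvd_natCast.mp h3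

theorem not_dvd_card_Iso (p : ℕ) [Fact p.Prime] [CharP F p] (m : ℕ) :
    ¬ p ∣ Nat.card (Iso (m + 2) F q) := by
  intro h
  have h1 : p ∣ A (m + 2) F q 0 := (char_dvd_q (F := F) p).trans (q_dvd_A m)
  rw [← card_Iso] at h1
  have h2 : p ∣ 1 := (Nat.dvd_add_right h).mp h1
  exact (Fact.out : p.Prime).one_lt.ne' (Nat.dvd_one.mp h2)

namespace Frame

variable (fr : Frame F q k)

/-- a Sylow subgroup containing the unipotent radical fixes the vector `e` -/
theorem sylow_fix (p : ℕ) [Fact p.Prime] [CharP F p] (hk : 1 ≤ k) (P : Sylow p (SU (k + 2) F q))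
    (hQ : fr.Qv ≤ P) {g : SU (k + 2) F q} (hg : g ∈ P) : mt g *ᵥ fr.e = fr.e := by
  obtain ⟨v, hv⟩ := P.isPGroup'.nonempty_fixed_point_of_prime_not_dvd_card (Iso (k + 2) F q)
    (not_dvd_card_Iso p k)
  rw [MulAction.mem_fixedPoints] at hv
  have h1 : ∀ u ∈ (P : Subgroup (SU (k + 2) F q)), mt u *ᵥ v.1 = v.1 := by
    intro u hu
    have := hv ⟨u, hu⟩
    exact congrArg Subtype.val this
  have h2 := fr.fixed_Qv hk (fun u hu => h1 u (hQ hu))
  have hc : hermForm (k + 2) F q v.1 fr.f ≠ 0 := by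
    intro h0
    rw [h0, zero_smul] at h2
    exact v.2.1 h2
  have h3 := h1 g hg
  rw [h2, mulVec_smul] at h3
  have h4 := congrArg (fun x => (hermForm (k + 2) F q v.1 fr.f)⁻¹ • x) h3
  beta_reduce at h4
  rw [smul_smul, smul_smul, inv_mul_cancel₀ hc, one_smul, one_smul] at h4
  exact h4

theorem mem_Bv_of_fix {g : SU (k + 2) F q} (h : mt g *ᵥ fr.e = fr.e) : g ∈ fr.Bv :=
  ⟨1, by rw [h, one_smul]⟩

theorem lt_of_fix {g : SU (k + 2) F q} (h : mt g *ᵥ fr.e = fr.e) : fr.lt g = 1 := by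
  unfold lt
  rw [h, fr.hef]

/-- the centre of a Sylow subgroup containing the unipotent radical is the root group -/
theorem ZZ_sylow (p : ℕ) [Fact p.Prime] [CharP F p] (hk : 1 ≤ k) (P : Sylow p (SU (k + 2) F q))
    (hQ : fr.Qv ≤ P) : ZZ (P : Subgroup (SU (k + 2) F q)) = RG q fr.e := by
  ext g
  rw [mem_ZZ]
  constructor
  · rintro ⟨hg, hc⟩
    have h1 := fr.sylow_fix p hk P hQ hg
    exact fr.centralizer_Qv (fr.mem_Bv_of_fix h1) (fr.lt_of_fix h1)
      (fun u hu => (hc u (hQ hu)).symm)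
  · intro hg
    refine ⟨hQ (fr.RG_e_le_Qv hg), fun h hh => ?_⟩
    obtain ⟨s, hs, rfl⟩ := (mem_RG_iff fr.e_ne_zero fr.he g).mp hg
    have h1 := fr.sylow_fix p hk P hQ hh
    have h2 := conj_TU h fr.he hs
    rw [h1] at h2
    calc h * TU q fr.e s = (h * TU q fr.e s * h⁻¹) * h := by group
      _ = TU q fr.e s * h := by rw [h2]

end Frame

end Cfsg.Agent.Helper8.AutSU
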