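import Mathlib
import Cfsg.Agent.Helper8.AutSUg
import Cfsg.Agent.Helper8.AutSLnI

set_option autoImplicit false
set_option linter.unusedSectionVars false

/-! Automorphisms of `PSU_n(q)`: the standard automorphisms of `SU` and `PSU` (helper8). -/

namespace Cfsg.Agent.Helper8.AutSU

open Matrix Cfsg Cfsg.Agent.Helper7.Herm Cfsg.Agent.Helper8.GUOrder Cfsg.Agent.Helper8.SURoot
open Cfsg.Agent.Helper8.AutSLn (slConj slConj_coe slField slField_coe)

variable {F : Type*} [Field F] [Fintype F] {q k N : ℕ} [hF : Fact (Fintype.card F = q ^ 2)]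

/-- the matrix of an element of `GU` -/
abbrev mg (g : GU N F q) : Matrix (Fin N) (Fin N) F := ((g : GL (Fin N) F) : Matrix (Fin N) (Fin N) F)

omit [Fintype F] hF in
theorem herm_mg (g : GU N F q) (u v : Fin N → F) :
    hermForm N F q (mg g *ᵥ u) (mg g *ᵥ v) = hermForm N F q u v := g.2 u v

omit [Fintype F] hF in
theorem mg_mul_mulVec (g h : GU N F q) (v : Fin N → F) : mg (g * h) *ᵥ v = mg g *ᵥ (mg h *ᵥ v) := by
  show (((g : GL (Fin N) F) * (h : GL (Fin N) F) : GL (Fin N) F) : Matrix (Fin N) (Fin N) F) *ᵥ v = _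
  rw [Units.val_mul, mulVec_mulVec]

omit [Fintype F] hF in
theorem mg_one_mulVec (v : Fin N → F) : mg (1 : GU N F q) *ᵥ v = v := by
  show ((1 : GL (Fin N) F) : Matrix (Fin N) (Fin N) F) *ᵥ v = v
  rw [Units.val_one, one_mulVec]

omit [Fintype F] hF in
theorem mg_inv_mulVec (g : GU N F q) (v : Fin N → F) : mg g *ᵥ (mg g⁻¹ *ᵥ v) = v := by
  rw [← mg_mul_mulVec, mul_inv_cancel, mg_one_mulVec]

omit [Fintype F] hF in
theorem mg_inv_mulVec' (g : GU N F q) (v : Fin N → F) : mg g⁻¹ *ᵥ (mg g *ᵥ v) = v := by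
  rw [← mg_mul_mulVec, inv_mul_cancel, mg_one_mulVec]

omit [Fintype F] hF in
theorem mg_inv_eq (g : GU N F q) : mg g⁻¹ = (((g : GL (Fin N) F)⁻¹ : GL (Fin N) F) : Matrix _ _ F) :=
  rfl

omit [Fintype F] hF in
theorem herm_mg_inv (g : GU N F q) (u v : Fin N → F) :
    hermForm N F q (mg g⁻¹ *ᵥ u) v = hermForm N F q u (mg g *ᵥ v) := by
  rw [← herm_mg g (mg g⁻¹ *ᵥ u) v, mg_inv_mulVec]

/-- conjugation by a unitary matrix, on `SU` -/
def suConjFun (g : GU N F q) (s : SU N F q) : SU N F q :=
  ⟨slConj (g : GL (Fin N) F) s.1, by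
    intro u v
    show hermForm N F q
      (((slConj (g : GL (Fin N) F) s.1 : SpecialLinearGroup (Fin N) F) : Matrix (Fin N) (Fin N) F) *ᵥ u)
      (((slConj (g : GL (Fin N) F) s.1 : SpecialLinearGroup (Fin N) F) : Matrix (Fin N) (Fin N) F) *ᵥ v)
        = _
    rw [slConj_coe, ← mulVec_mulVec, ← mulVec_mulVec, ← mulVec_mulVec, ← mulVec_mulVec]
    rw [herm_mg g, herm_mt s, ← mg_inv_eq, herm_mg g⁻¹]⟩

omit [Fintype F] hF in
theorem suConjFun_mulVec (g : GU N F q) (s : SU N F q) (v : Fin N → F) :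
    mt (suConjFun g s) *ᵥ v = mg g *ᵥ (mt s *ᵥ (mg g⁻¹ *ᵥ v)) := by
  show ((slConj (g : GL (Fin N) F) s.1 : SpecialLinearGroup (Fin N) F) :
    Matrix (Fin N) (Fin N) F) *ᵥ v = _
  rw [slConj_coe, ← mulVec_mulVec, ← mulVec_mulVec]
  rfl

/-- conjugation by a unitary matrix, as an automorphism of `SU` -/
def suConj : GU N F q →* MulAut (SU N F q) where
  toFun g :=
    { toFun := suConjFun g
      invFun := suConjFun g⁻¹
      left_inv := fun s => by
        apply ext_mulVec
        intro v
        rw [suConjFun_mulVec, suConjFun_mulVec, inv_inv, mg_inv_mulVec', mg_inv_mulVec']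
      right_inv := fun s => by
        apply ext_mulVec
        intro v
        rw [suConjFun_mulVec, suConjFun_mulVec, inv_inv, mg_inv_mulVec, mg_inv_mulVec]
      map_mul' := fun s t => by
        apply ext_mulVec
        intro v
        rw [mt_mul_mulVec, suConjFun_mulVec, suConjFun_mulVec, suConjFun_mulVec, mt_mul_mulVec,
          mg_inv_mulVec'] }
  map_one' := by
    ext s : 1
    apply ext_mulVec
    intro v
    show mt (suConjFun 1 s) *ᵥ v = mt s *ᵥ v
    rw [suConjFun_mulVec, inv_one, mg_one_mulVec, mg_one_mulVec]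
  map_mul' g h := by
    ext s : 1
    apply ext_mulVec
    intro v
    show mt (suConjFun (g * h) s) *ᵥ v = mt (suConjFun g (suConjFun h s)) *ᵥ v
    rw [suConjFun_mulVec, suConjFun_mulVec, suConjFun_mulVec, _root_.mul_inv_rev, mg_mul_mulVec,
      mg_mul_mulVec]

omit [Fintype F] hF in
theorem suConj_mulVec (g : GU N F q) (s : SU N F q) (v : Fin N → F) :
    mt (suConj g s) *ᵥ v = mg g *ᵥ (mt s *ᵥ (mg g⁻¹ *ᵥ v)) := suConjFun_mulVec g s v

omit [Fintype F] hF in
theorem suConj_coe (g : GU N F q) (s : SU N F q) :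
    mt (suConj g s) = mg g * mt s * (((g : GL (Fin N) F)⁻¹ : GL (Fin N) F) : Matrix _ _ F) := rfl

/-- apply a field automorphism to a vector -/
def sv (σ : F ≃+* F) (v : Fin N → F) : Fin N → F := fun i => σ (v i)

omit [Fintype F] hF in
theorem sv_apply (σ : F ≃+* F) (v : Fin N → F) (i : Fin N) : sv σ v i = σ (v i) := rfl

omit [Fintype F] hF in
theorem h_sv (σ : F ≃+* F) (u v : Fin N → F) :
    hermForm N F q (sv σ u) (sv σ v) = σ (hermForm N F q u v) := by
  unfold hermForm sv
  rw [map_sum]
  apply Finset.sum_congr rfl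
  intro i _
  rw [map_mul, map_pow]

omit [Fintype F] hF in
theorem sv_symm_sv (σ : F ≃+* F) (v : Fin N → F) : sv σ.symm (sv σ v) = v := by
  ext i
  simp [sv]

omit [Fintype F] hF in
theorem sv_sv_symm (σ : F ≃+* F) (v : Fin N → F) : sv σ (sv σ.symm v) = v := by
  ext i
  simp [sv]

omit [Fintype F] hF in
theorem sv_add (σ : F ≃+* F) (u v : Fin N → F) : sv σ (u + v) = sv σ u + sv σ v := by
  ext i
  simp [sv]

omit [Fintype F] hF in
theorem sv_smul (σ : F ≃+* F) (c : F) (v : Fin N → F) : sv σ (c • v) = σ c • sv σ v := by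
  ext i
  simp [sv]

omit [Fintype F] hF in
theorem sv_zero (σ : F ≃+* F) : sv σ (0 : Fin N → F) = 0 := by
  ext i
  simp [sv]

omit [Fintype F] hF in
theorem map_mulVec_sv (σ : F ≃+* F) (M : Matrix (Fin N) (Fin N) F) (v : Fin N → F) :
    M.map σ *ᵥ sv σ v = sv σ (M *ᵥ v) := by
  ext i
  exact ((σ : F →+* F).map_mulVec M v i).symm

omit [Fintype F] hF in
theorem map_mulVec' (σ : F ≃+* F) (M : Matrix (Fin N) (Fin N) F) (v : Fin N → F) :
    M.map σ *ᵥ v = sv σ (M *ᵥ sv σ.symm v) := by
  rw [← map_mulVec_sv, sv_sv_symm]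

/-- a field automorphism applied to all entries, on `SU` -/
def suFieldFun (σ : F ≃+* F) (s : SU N F q) : SU N F q :=
  ⟨slField σ s.1, by
    intro u v
    show hermForm N F q
      (((slField σ s.1 : SpecialLinearGroup (Fin N) F) : Matrix (Fin N) (Fin N) F) *ᵥ u)
      (((slField σ s.1 : SpecialLinearGroup (Fin N) F) : Matrix (Fin N) (Fin N) F) *ᵥ v) = _
    rw [slField_coe, map_mulVec', map_mulVec', h_sv]
    have := herm_mt s (sv σ.symm u) (sv σ.symm v)
    rw [this, ← h_sv, sv_sv_symm, sv_sv_symm]⟩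

omit [Fintype F] hF in
theorem suFieldFun_coe (σ : F ≃+* F) (s : SU N F q) : mt (suFieldFun σ s) = (mt s).map σ := rfl

/-- a field automorphism applied to all entries, as an automorphism of `SU` -/
def suField : (F ≃+* F) →* MulAut (SU N F q) where
  toFun σ :=
    { toFun := suFieldFun σ
      invFun := suFieldFun σ.symm
      left_inv := fun s => by
        apply Subtype.ext
        exact (slField σ).left_inv s.1
      right_inv := fun s => by
        apply Subtype.ext
        exact (slField σ).right_inv s.1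
      map_mul' := fun s t => by
        apply Subtype.ext
        exact map_mul (slField σ) s.1 t.1 }
  map_one' := by
    ext s : 1
    apply Subtype.ext
    show slField (1 : F ≃+* F) s.1 = s.1
    rw [map_one]
    rfl
  map_mul' σ τ := by
    ext s : 1
    apply Subtype.ext
    show slField (σ * τ) s.1 = slField σ (slField τ s.1)
    rw [map_mul]
    rfl

omit [Fintype F] hF in
theorem suField_coe (σ : F ≃+* F) (s : SU N F q) : mt (suField σ s) = (mt s).map σ := rfl

omit [Fintype F] hF in
theorem suField_mulVec (σ : F ≃+* F) (s : SU N F q) (v : Fin N → F) :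
    mt (suField σ s) *ᵥ sv σ v = sv σ (mt s *ᵥ v) := by
  rw [suField_coe, map_mulVec_sv]

/-- the intertwining property of the semilinear automorphism -/
theorem semi_mulVec (g : GU N F q) (σ : F ≃+* F) (s : SU N F q) (v : Fin N → F) :
    mt (suConj g (suField σ s)) *ᵥ (mg g *ᵥ sv σ v) = mg g *ᵥ sv σ (mt s *ᵥ v) := by
  rw [suConj_mulVec, mg_inv_mulVec', suField_mulVec]

/-- an automorphism of `SU` induces an automorphism of `PSU` -/
noncomputable def psuLift : MulAut (SU N F q) →* MulAut (PSU N F q) where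
  toFun e := QuotientGroup.congr (Subgroup.center (SU N F q))
    (Subgroup.center (SU N F q)) e
    (Subgroup.characteristic_iff_map_eq.mp Subgroup.centerCharacteristic e)
  map_one' := by
    ext x
    induction x using QuotientGroup.induction_on with
    | H s => rfl
  map_mul' e e' := by
    ext x
    induction x using QuotientGroup.induction_on with
    | H s => rfl

omit [Fintype F] hF in
theorem psuLift_mk (e : MulAut (SU N F q)) (s : SU N F q) :
    psuLift e (QuotientGroup.mk s) = QuotientGroup.mk (e s) := rfl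

/-- the projection onto `PSU` -/
def pr : SU N F q →* PSU N F q := QuotientGroup.mk' (Subgroup.center (SU N F q))

omit [Fintype F] hF in
theorem pr_surjective : Function.Surjective (pr : SU N F q →* PSU N F q) :=
  QuotientGroup.mk'_surjective _

omit [Fintype F] hF in
theorem pr_eq_mk (s : SU N F q) : pr s = QuotientGroup.mk s := rfl

omit [Fintype F] hF in
theorem psuLift_pr (e : MulAut (SU N F q)) (s : SU N F q) : psuLift e (pr s) = pr (e s) := rfl

/-- the inner-diagonal automorphisms of `PSU` -/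
noncomputable def psuConj : GU N F q →* MulAut (PSU N F q) := psuLift.comp suConj

/-- the field automorphisms of `PSU` -/
noncomputable def psuField : (F ≃+* F) →* MulAut (PSU N F q) := psuLift.comp suField

omit [Fintype F] hF in
theorem psuConj_pr (g : GU N F q) (s : SU N F q) : psuConj g (pr s) = pr (suConj g s) := rfl

omit [Fintype F] hF in
theorem psuField_pr (σ : F ≃+* F) (s : SU N F q) : psuField σ (pr s) = pr (suField σ s) := rfl

omit [Fintype F] hF in
theorem isInnerDiagonal_psuConj (g : GU N F q) :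
    Cfsg.IsInnerDiagonalAutPSU (psuConj g : MulAut (PSU N F q)) := by
  refine ⟨g.1, g.2, fun s s' h => ?_⟩
  have h1 : suConj g s = s' := Subtype.ext (Subtype.ext (by rw [h]; rfl))
  rw [← pr_eq_mk, psuConj_pr, h1]
  rfl

omit [Fintype F] hF in
theorem isFieldAut_psuField (σ : F ≃+* F) :
    Cfsg.IsFieldAutPSUOf σ (psuField σ : MulAut (PSU N F q)) := by
  intro s s' h
  have h1 : suField σ s = s' := Subtype.ext (Subtype.ext (by rw [h]; rfl))
  rw [← pr_eq_mk, psuField_pr, h1]
  rfl

omit [Fintype F] hF in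
theorem isInducedBySemilinear_mul (g : GU N F q) (σ : F ≃+* F) :
    Cfsg.IsInducedBySemilinearPSU (g : GL (Fin N) F) σ
      (psuConj g * psuField σ : MulAut (PSU N F q)) := by
  intro s s' h
  have h1 : suConj g (suField σ s) = s' := Subtype.ext (Subtype.ext (by rw [h]; rfl))
  rw [← pr_eq_mk, MulAut.mul_apply, psuField_pr, psuConj_pr, h1]
  rfl

end Cfsg.Agent.Helper8.AutSU
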