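import Mathlib
import Cfsg.Agent.Helper8.AutSUh

set_option autoImplicit false
set_option linter.unusedSectionVars false

/-! Automorphisms of `PSU_n(q)`: the images of the root groups in `PSU` (helper8). -/

namespace Cfsg.Agent.Helper8.AutSU

open Matrix Cfsg Cfsg.Agent.Helper7.Herm Cfsg.Agent.Helper8.GUOrder Cfsg.Agent.Helper8.SURoot
open Cfsg.Agent.Helper8.SUCenter (center_eq_scal scal)

variable {F : Type*} [Field F] [Fintype F] {q k N : ℕ} [hF : Fact (Fintype.card F = q ^ 2)]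

/-- central elements are scalar -/
theorem center_mulVec (hN : 1 ≤ N) {z : SU N F q} (hz : z ∈ Subgroup.center (SU N F q)) :
    ∃ ζ : F, ∀ v : Fin N → F, mt z *ᵥ v = ζ • v := by
  obtain ⟨ζ, hζ, hζn, rfl⟩ := center_eq_scal hF.out hN z hz
  refine ⟨ζ, fun v => ?_⟩
  show (ζ • (1 : Matrix (Fin N) (Fin N) F)) *ᵥ v = ζ • v
  rw [smul_mulVec, one_mulVec]

omit [Fintype F] hF in
/-- scalar elements are central -/
theorem mem_center_of_scalar {z : SU N F q} {ζ : F} (h : ∀ v : Fin N → F, mt z *ᵥ v = ζ • v) :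
    z ∈ Subgroup.center (SU N F q) := by
  rw [Subgroup.mem_center_iff]
  intro g
  apply ext_mulVec
  intro v
  rw [mt_mul_mulVec, mt_mul_mulVec, h, h, mulVec_smul]

omit [Fintype F] hF in
theorem pr_eq_iff {a b : SU N F q} : pr a = pr b ↔ a⁻¹ * b ∈ Subgroup.center (SU N F q) :=
  QuotientGroup.eq

omit [Fintype F] hF in
theorem pr_eq_one_iff {a : SU N F q} : pr a = 1 ↔ a ∈ Subgroup.center (SU N F q) :=
  QuotientGroup.eq_one_iff a

omit [Fintype F] hF in
theorem pow_mulVec_of_scalar {z : SU N F q} {ζ : F} (h : ∀ v : Fin N → F, mt z *ᵥ v = ζ • v)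
    (m : ℕ) (v : Fin N → F) : mt (z ^ m) *ᵥ v = ζ ^ m • v := by
  induction m with
  | zero => rw [pow_zero, pow_zero, mt_one_mulVec, one_smul]
  | succ m ih => rw [pow_succ, mt_mul_mulVec, h, mulVec_smul, ih, smul_smul, pow_succ, mul_comm]

omit [Fintype F] hF in
theorem eq_one_of_pow_char_pow (p : ℕ) [Fact p.Prime] [CharP F p] {ζ : F} {m : ℕ}
    (h : ζ ^ (p ^ m) = 1) : ζ = 1 := by
  have h1 : (ζ - 1) ^ (p ^ m) = 0 := by rw [sub_pow_char_pow, h, one_pow, sub_self]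
  exact sub_eq_zero.mp (pow_eq_zero_iff (pow_ne_zero m (Fact.out : p.Prime).ne_zero) |>.mp h1)

/-- two `p`-elements with the same image in `PSU` are equal -/
theorem eq_of_pr_eq (p : ℕ) [Fact p.Prime] [CharP F p] (hN : 1 ≤ N) {x y : SU N F q}
    (h : pr x = pr y) {m₁ m₂ : ℕ} (hx : x ^ (p ^ m₁) = 1) (hy : y ^ (p ^ m₂) = 1) : x = y := by
  have hz := pr_eq_iff.mp h
  obtain ⟨ζ, hζ⟩ := center_mulVec hN hz
  have hxM : x ^ (p ^ (m₁ + m₂)) = 1 := by rw [pow_add, pow_mul, hx, one_pow]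
  have hyM : y ^ (p ^ (m₁ + m₂)) = 1 := by rw [pow_add, mul_comm, pow_mul, hy, one_pow]
  have hy' : y = x * (x⁻¹ * y) := by group
  have hcomm : Commute x (x⁻¹ * y) := (Subgroup.mem_center_iff.mp hz x)
  have hzM : (x⁻¹ * y) ^ (p ^ (m₁ + m₂)) = 1 := by
    have := hyM
    rw [hy', hcomm.mul_pow, hxM, one_mul] at this
    exact this
  have h1 : ζ ^ (p ^ (m₁ + m₂)) = 1 := by
    have h2 := pow_mulVec_of_scalar hζ (p ^ (m₁ + m₂)) (Pi.single ⟨0, hN⟩ 1)
    rw [hzM, mt_one_mulVec] at h2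
    have h3 := congrFun h2 ⟨0, hN⟩
    rw [Pi.smul_apply, Pi.single_eq_same, smul_eq_mul, mul_one] at h3
    exact h3.symm
  have h2 := eq_one_of_pow_char_pow p h1
  have h3 : x⁻¹ * y = 1 := by
    apply ext_mulVec
    intro v
    rw [hζ, h2, one_smul, mt_one_mulVec]
  exact (inv_mul_eq_one.mp h3)

/-- the images of the root groups in `PSU` -/
def Xb (v : Fin N → F) : Subgroup (PSU N F q) := (RG q v).map pr

theorem mem_Xb_iff {v : Fin N → F} (hv0 : v ≠ 0) (hv : hermForm N F q v v = 0) {x : PSU N F q} :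
    x ∈ Xb v ↔ ∃ s : F, s ^ q + s = 0 ∧ x = pr (TU q v s) := by
  unfold Xb
  rw [Subgroup.mem_map]
  constructor
  · rintro ⟨y, hy, rfl⟩
    obtain ⟨s, hs, rfl⟩ := (mem_RG_iff hv0 hv y).mp hy
    exact ⟨s, hs, rfl⟩
  · rintro ⟨s, hs, rfl⟩
    exact ⟨_, TU_mem_RG hv0 hv hs, rfl⟩

theorem Xb_smul {v : Fin N → F} (hv0 : v ≠ 0) (hv : hermForm N F q v v = 0) {a : F} (ha : a ≠ 0) :
    Xb (a • v) = Xb (q := q) v := by
  unfold Xb
  rw [RG_smul hv0 hv ha]

/-- root groups with the same image are attached to the same point -/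
theorem par_of_Xb_eq (p : ℕ) [Fact p.Prime] [CharP F p] (hN : 1 ≤ N) {v v' : Fin N → F}
    (hv0 : v ≠ 0) (hv : hermForm N F q v v = 0) (hv0' : v' ≠ 0) (hv' : hermForm N F q v' v' = 0)
    (h : Xb (q := q) v = Xb v') : ∃ c : F, c ≠ 0 ∧ v = c • v' := by
  obtain ⟨s, hs0, hs⟩ := exists_tz_ne_zero (F := F) (q := q)
  have h1 : pr (TU q v s) ∈ Xb (q := q) v' := by
    rw [← h]
    exact (mem_Xb_iff hv0 hv).mpr ⟨s, hs, rfl⟩
  obtain ⟨s', hs', h2⟩ := (mem_Xb_iff hv0' hv').mp h1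
  have h3 : TU q v s = TU q v' s' :=
    eq_of_pr_eq p hN h2 (m₁ := 1) (m₂ := 1) (by rw [pow_one]; exact TU_pow_char p hv hs)
      (by rw [pow_one]; exact TU_pow_char p hv' hs')
  obtain ⟨x, hx⟩ := exists_herm_eq_one (q := q) hv0
  have h4 : mt (TU q v s) *ᵥ x = mt (TU q v' s') *ᵥ x := by rw [h3]
  rw [TU_mulVec hv hs, TU_mulVec hv' hs', hx, mul_one] at h4
  have h5 : s • v = (s' * hermForm N F q x v') • v' := add_left_cancel h4
  have h6 : v = (s⁻¹ * (s' * hermForm N F q x v')) • v' := by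
    rw [← smul_smul, ← h5, smul_smul, inv_mul_cancel₀ hs0, one_smul]
  refine ⟨_, ?_, h6⟩
  intro h0
  rw [h0, zero_smul] at h6
  exact hv0 h6

/-- two root groups commute in `PSU` exactly when the points are orthogonal -/
theorem comm_iff (p : ℕ) [Fact p.Prime] [CharP F p] (hN : 1 ≤ N) {v v' : Fin N → F}
    (hv0 : v ≠ 0) (hv : hermForm N F q v v = 0) (hv0' : v' ≠ 0) (hv' : hermForm N F q v' v' = 0) :
    (∀ x ∈ Xb (q := q) v, ∀ y ∈ Xb (q := q) v', x * y = y * x) ↔ hermForm N F q v v' = 0 := by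
  constructor
  · intro h
    by_contra hne
    obtain ⟨s, hs0, hs⟩ := exists_tz_ne_zero (F := F) (q := q)
    have h1 := h _ ((mem_Xb_iff hv0 hv).mpr ⟨s, hs, rfl⟩) _ ((mem_Xb_iff hv0' hv').mpr ⟨s, hs, rfl⟩)
    have h2 : pr (TU q v s * TU q v' s * (TU q v s)⁻¹) = pr (TU q v' s) := by
      rw [map_mul, map_mul, h1, map_inv, mul_inv_cancel_right]
    have h3 : TU q v s * TU q v' s * (TU q v s)⁻¹ = TU q v' s := by
      refine eq_of_pr_eq p hN h2 (m₁ := 1) (m₂ := 1) ?_ (by rw [pow_one]; exact TU_pow_char p hv' hs)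
      rw [pow_one, conj_pow, TU_pow_char p hv' hs, mul_one, mul_inv_cancel]
    rw [conj_TU _ hv' hs] at h3
    have h4 : mt (TU q (mt (TU q v s) *ᵥ v') s) *ᵥ v = mt (TU q v' s) *ᵥ v := by rw [h3]
    have hv'' : hermForm N F q (mt (TU q v s) *ᵥ v') (mt (TU q v s) *ᵥ v') = 0 := by
      rw [herm_mt, hv']
    rw [TU_mulVec hv'' hs, TU_mulVec hv' hs, TU_mulVec hv hs] at h4
    have hne' : hermForm N F q v' v ≠ 0 := fun h0 => hne (h_eq_zero_of_swap h0)
    have h5 := add_left_cancel h4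
    rw [hermForm_add_right hF.out, hermForm_smul_right, hv, mul_zero, add_zero, smul_add,
      smul_smul] at h5
    have h6 : (s * hermForm N F q v v' * (s * hermForm N F q v' v)) • v = 0 := by
      have := sub_eq_zero.mpr h5
      rw [add_sub_cancel_left] at this
      exact this
    rcases smul_eq_zero.mp h6 with h7 | h7
    · exact absurd h7 (mul_ne_zero (mul_ne_zero hs0 hne) (mul_ne_zero hs0 hne'))
    · exact hv0 h7
  · intro h x hx y hy
    obtain ⟨s, hs, rfl⟩ := (mem_Xb_iff hv0 hv).mp hx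
    obtain ⟨s', hs', rfl⟩ := (mem_Xb_iff hv0' hv').mp hy
    rw [← map_mul, ← map_mul, TU_comm_of_orth hv hv' h hs hs']

end Cfsg.Agent.Helper8.AutSU
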