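import Mathlib
import Cfsg.Agent.Helper8.AutSUi

set_option autoImplicit false
set_option linter.unusedSectionVars false

/-! Automorphisms of `PSU_n(q)`: the action of the standard automorphisms on the root groups, and
the faithfulness of the action of `PSU` on the root groups (helper8). -/

namespace Cfsg.Agent.Helper8.AutSU

open Matrix Cfsg Cfsg.Agent.Helper7.Herm Cfsg.Agent.Helper8.GUOrder Cfsg.Agent.Helper8.SURoot
open scoped Pointwise

variable {F : Type*} [Field F] [Fintype F] {q k N : ℕ} [hF : Fact (Fintype.card F = q ^ 2)]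

/-- the semilinear map attached to a unitary matrix and a field automorphism -/
def sm (g : GU N F q) (σ : F ≃+* F) (v : Fin N → F) : Fin N → F := mg g *ᵥ sv σ v

omit [Fintype F] hF in
theorem sm_add (g : GU N F q) (σ : F ≃+* F) (u v : Fin N → F) :
    sm g σ (u + v) = sm g σ u + sm g σ v := by
  unfold sm
  rw [sv_add, mulVec_add]

omit [Fintype F] hF in
theorem sm_smul (g : GU N F q) (σ : F ≃+* F) (c : F) (v : Fin N → F) :
    sm g σ (c • v) = σ c • sm g σ v := by
  unfold sm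
  rw [sv_smul, mulVec_smul]

omit [Fintype F] hF in
theorem h_sm (g : GU N F q) (σ : F ≃+* F) (u v : Fin N → F) :
    hermForm N F q (sm g σ u) (sm g σ v) = σ (hermForm N F q u v) := by
  unfold sm
  rw [herm_mg, h_sv]

omit [Fintype F] hF in
theorem sm_surjective (g : GU N F q) (σ : F ≃+* F) : Function.Surjective (sm g σ) := by
  intro v
  refine ⟨sv σ.symm (mg g⁻¹ *ᵥ v), ?_⟩
  unfold sm
  rw [sv_sv_symm, mg_inv_mulVec]

omit [Fintype F] hF in
theorem sm_injective (g : GU N F q) (σ : F ≃+* F) : Function.Injective (sm g σ) := by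
  intro u v h
  unfold sm at h
  have h1 := congrArg (fun x => sv σ.symm (mg g⁻¹ *ᵥ x)) h
  beta_reduce at h1
  rw [mg_inv_mulVec', mg_inv_mulVec', sv_symm_sv, sv_symm_sv] at h1
  exact h1

omit [Fintype F] hF in
theorem sm_ne_zero (g : GU N F q) (σ : F ≃+* F) {v : Fin N → F} (hv : v ≠ 0) : sm g σ v ≠ 0 := by
  intro h
  apply hv
  apply sm_injective g σ
  rw [h]
  unfold sm
  rw [sv_zero, mulVec_zero]

/-- the semilinear automorphism of `SU` -/
def sa (g : GU N F q) (σ : F ≃+* F) : MulAut (SU N F q) := suConj g * suField σ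

theorem sa_mulVec (g : GU N F q) (σ : F ≃+* F) (s : SU N F q) (v : Fin N → F) :
    mt (sa g σ s) *ᵥ sm g σ v = sm g σ (mt s *ᵥ v) := semi_mulVec g σ s v

theorem tz_map (σ : F ≃+* F) {s : F} (hs : s ^ q + s = 0) : (σ s) ^ q + σ s = 0 := by
  rw [← map_pow, ← map_add, hs, map_zero]

theorem sa_TU (g : GU N F q) (σ : F ≃+* F) {v : Fin N → F} (hv : hermForm N F q v v = 0) {s : F}
    (hs : s ^ q + s = 0) : sa g σ (TU q v s) = TU q (sm g σ v) (σ s) := by
  have hv' : hermForm N F q (sm g σ v) (sm g σ v) = 0 := by rw [h_sm, hv, map_zero]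
  apply ext_mulVec
  intro x
  obtain ⟨y, rfl⟩ := sm_surjective g σ x
  rw [sa_mulVec, TU_mulVec hv hs, TU_mulVec hv' (tz_map σ hs), sm_add, sm_smul, h_sm, map_mul]

/-- the semilinear automorphism of `PSU` -/
noncomputable def psa (g : GU N F q) (σ : F ≃+* F) : MulAut (PSU N F q) := psuConj g * psuField σ

omit [Fintype F] hF in
theorem psa_pr (g : GU N F q) (σ : F ≃+* F) (s : SU N F q) : psa g σ (pr s) = pr (sa g σ s) := rfl

theorem tz_surj (σ : F ≃+* F) {s : F} (hs : s ^ q + s = 0) :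
    ∃ s' : F, s' ^ q + s' = 0 ∧ σ s' = s := by
  refine ⟨σ.symm s, ?_, σ.apply_symm_apply s⟩
  exact tz_map σ.symm hs

theorem psa_smul_Xb (g : GU N F q) (σ : F ≃+* F) {v : Fin N → F} (hv0 : v ≠ 0)
    (hv : hermForm N F q v v = 0) : psa g σ • Xb (q := q) v = Xb (sm g σ v) := by
  have hv0' := sm_ne_zero g σ hv0
  have hv' : hermForm N F q (sm g σ v) (sm g σ v) = 0 := by rw [h_sm, hv, map_zero]
  ext x
  rw [mem_Xb_iff hv0' hv']
  constructor
  · intro hx
    rw [Subgroup.mem_pointwise_smul_iff_inv_smul_mem, mem_Xb_iff hv0 hv] at hx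
    obtain ⟨s, hs, hx⟩ := hx
    refine ⟨σ s, tz_map σ hs, ?_⟩
    have h1 : x = psa g σ (pr (TU q v s)) := by
      rw [← hx]
      exact (smul_inv_smul (psa g σ) x).symm
    rw [h1, psa_pr, sa_TU g σ hv hs]
  · rintro ⟨s, hs, rfl⟩
    obtain ⟨s', hs', rfl⟩ := tz_surj σ hs
    rw [← sa_TU g σ hv hs', ← psa_pr]
    exact Subgroup.smul_mem_pointwise_smul _ _ _ ((mem_Xb_iff hv0 hv).mpr ⟨s', hs', rfl⟩)

end Cfsg.Agent.Helper8.AutSU
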