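import Mathlib
import Cfsg.Agent.Helper8.AutSUj

set_option autoImplicit false
set_option linter.unusedSectionVars false

/-! Automorphisms of `PSU_n(q)`: inner automorphisms and root groups; `PSU` acts faithfully on the
set of root groups (helper8). -/

namespace Cfsg.Agent.Helper8.AutSU

open Matrix Cfsg Cfsg.Agent.Helper7.Herm Cfsg.Agent.Helper8.GUOrder Cfsg.Agent.Helper8.SURoot
open scoped Pointwise

variable {F : Type*} [Field F] [Fintype F] {q k N : ℕ} [hF : Fact (Fintype.card F = q ^ 2)]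

theorem conj_smul_Xb (s : SU N F q) {v : Fin N → F} (hv0 : v ≠ 0) (hv : hermForm N F q v v = 0) :
    MulAut.conj (pr s) • Xb (q := q) v = Xb (mt s *ᵥ v) := by
  have hv0' := mulVec_ne_zero' s hv0
  have hv' : hermForm N F q (mt s *ᵥ v) (mt s *ᵥ v) = 0 := by rw [herm_mt, hv]
  ext x
  rw [mem_Xb_iff hv0' hv']
  constructor
  · intro hx
    rw [Subgroup.mem_pointwise_smul_iff_inv_smul_mem, mem_Xb_iff hv0 hv] at hx
    obtain ⟨t, ht, hx⟩ := hx
    refine ⟨t, ht, ?_⟩
    have h1 : x = MulAut.conj (pr s) (pr (TU q v t)) := by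
      rw [← hx]
      exact (smul_inv_smul (MulAut.conj (pr s)) x).symm
    rw [h1, MulAut.conj_apply, ← map_inv, ← map_mul, ← map_mul, conj_TU s hv ht]
  · rintro ⟨t, ht, rfl⟩
    rw [← conj_TU s hv ht, map_mul, map_mul, map_inv, ← MulAut.conj_apply]
    exact Subgroup.smul_mem_pointwise_smul _ _ _ ((mem_Xb_iff hv0 hv).mpr ⟨t, ht, rfl⟩)

/-- eigenvalues on non-orthogonal isotropic vectors agree -/
theorem eigen_eq_of_form {M : Matrix (Fin N) (Fin N) F} {v v' : Fin N → F} {c c' : F}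
    (hv : hermForm N F q v v = 0) (hv' : hermForm N F q v' v' = 0)
    (hne : hermForm N F q v v' ≠ 0) (hc : M *ᵥ v = c • v) (hc' : M *ᵥ v' = c' • v')
    (hall : ∀ x : Fin N → F, x ≠ 0 → hermForm N F q x x = 0 → ∃ d : F, M *ᵥ x = d • x) :
    c = c' := by
  obtain ⟨ε, hε0, hε⟩ := exists_tz_ne_zero (F := F) (q := q)
  set y := hermForm N F q v v' with hy
  have hy' : hermForm N F q v' v = y ^ q := h_swap _ _
  have hyq0 : y ^ q ≠ 0 := pow_ne_zero q hne
  set θ := ε / y ^ q with hθ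
  have hθ0 : θ ≠ 0 := div_ne_zero hε0 hyq0
  have hli : ∀ a b : F, a • v + b • v' = 0 → a = 0 ∧ b = 0 := by
    intro a b h
    have h1 := congrArg (fun x => hermForm N F q x v') h
    have h2 := congrArg (fun x => hermForm N F q x v) h
    beta_reduce at h1 h2
    rw [hermForm_add_left, hermForm_smul_left, hermForm_smul_left, hv', mul_zero, add_zero,
      hermForm_zero_left] at h1
    rw [hermForm_add_left, hermForm_smul_left, hermForm_smul_left, hv, mul_zero, zero_add,
      hermForm_zero_left, hy'] at h2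
    exact ⟨(mul_eq_zero.mp h1).resolve_right hne, (mul_eq_zero.mp h2).resolve_right hyq0⟩
  have hx : hermForm N F q (v + θ • v') (v + θ • v') = 0 := by
    rw [hermForm_add_left, h_add_right, h_add_right, hermForm_smul_left, hermForm_smul_left,
      hermForm_smul_right, hermForm_smul_right, hv, hv', hy', ← hy, hθ, div_pow, bb]
    have e1 : ε ^ q / y * y = ε ^ q := div_mul_cancel₀ _ hne
    have e2 : ε / y ^ q * y ^ q = ε := div_mul_cancel₀ _ hyq0
    rw [e1, e2]
    linear_combination hε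
  have hx0 : v + θ • v' ≠ 0 := by
    intro h
    have := (hli 1 θ (by rw [one_smul]; exact h)).1
    exact one_ne_zero this
  obtain ⟨d, hd⟩ := hall _ hx0 hx
  rw [mulVec_add, mulVec_smul, hc, hc', smul_add, smul_smul, smul_smul] at hd
  have h3 : (c - d) • v + (θ * c' - d * θ) • v' = 0 := by
    rw [sub_smul, sub_smul]
    have := sub_eq_zero.mpr hd
    rw [← this]
    abel
  obtain ⟨h4, h5⟩ := hli _ _ h3
  have h6 : c = d := sub_eq_zero.mp h4
  have h7 : θ * (c' - d) = 0 := by linear_combination h5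
  have h8 : c' = d := sub_eq_zero.mp ((mul_eq_zero.mp h7).resolve_left hθ0)
  rw [h6, h8]

/-- a matrix fixing all isotropic points is scalar -/
theorem scalar_of_fix_points {M : Matrix (Fin (k + 2)) (Fin (k + 2)) F}
    (hall : ∀ x : Fin (k + 2) → F, x ≠ 0 → hermForm (k + 2) F q x x = 0 → ∃ d : F, M *ᵥ x = d • x) :
    ∃ c : F, ∀ v, M *ᵥ v = c • v := by
  obtain ⟨fr⟩ := exists_frame (F := F) (q := q) k
  obtain ⟨c, hc⟩ := hall _ fr.e_ne_zero fr.he
  have key : ∀ x : Fin (k + 2) → F, x ≠ 0 → hermForm (k + 2) F q x x = 0 → M *ᵥ x = c • x := by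
    intro x hx0 hx
    obtain ⟨d, hd⟩ := hall x hx0 hx
    by_cases hne : hermForm (k + 2) F q fr.e x = 0
    · obtain ⟨r, hr, hr1, hr2⟩ := exists_middle fr.e_ne_zero fr.he hx0 hne
      have hr0 : r ≠ 0 := ne_zero_of_form_right hr1
      obtain ⟨d', hd'⟩ := hall r hr0 hr
      rw [hd, ← eigen_eq_of_form hr hx hr2 hd' hd hall, ← eigen_eq_of_form fr.he hr hr1 hc hd' hall]
    · rw [hd, ← eigen_eq_of_form fr.he hx hne hc hd hall]
  refine ⟨c, fun v => ?_⟩
  have hiw : ∀ w : Fin k → F, M *ᵥ iw w = c • iw w := by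
    intro w
    obtain ⟨a, ha⟩ := exists_sg (q := q) w
    have h1 : hermForm (k + 2) F q (fr.f + iw w + a • fr.e) (fr.f + iw w + a • fr.e) = 0 := by
      rw [← fr.sg_f ha, herm_mt, fr.hf]
    have h0 : fr.f + iw w + a • fr.e ≠ 0 := by
      rw [← fr.sg_f ha]
      exact mulVec_ne_zero' _ fr.f_ne_zero
    have h2 := key _ h0 h1
    rw [mulVec_add, mulVec_add, mulVec_smul, key _ fr.f_ne_zero fr.hf, hc, smul_add, smul_add,
      smul_comm a c] at h2
    have h3 := add_right_cancel h2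
    exact add_left_cancel h3
  rw [fr.dec v, mulVec_add, mulVec_add, mulVec_smul, mulVec_smul, hc, key _ fr.f_ne_zero fr.hf, hiw]
  module

/-- **`PSU` acts faithfully on the root groups** -/
theorem eq_one_of_normalizes (p : ℕ) [Fact p.Prime] [CharP F p] {x : PSU (k + 2) F q}
    (h : ∀ v : Fin (k + 2) → F, v ≠ 0 → hermForm (k + 2) F q v v = 0 →
      MulAut.conj x • Xb (q := q) v = Xb v) : x = 1 := by
  obtain ⟨g, rfl⟩ := pr_surjective x
  rw [pr_eq_one_iff]
  have hall : ∀ v : Fin (k + 2) → F, v ≠ 0 → hermForm (k + 2) F q v v = 0 →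
      ∃ d : F, mt g *ᵥ v = d • v := by
    intro v hv0 hv
    have h1 := h v hv0 hv
    rw [conj_smul_Xb g hv0 hv] at h1
    obtain ⟨c, _, hc⟩ := par_of_Xb_eq p (by omega) (mulVec_ne_zero' g hv0)
      (by rw [herm_mt, hv]) hv0 hv h1
    exact ⟨c, hc⟩
  obtain ⟨c, hc⟩ := scalar_of_fix_points hall
  exact mem_center_of_scalar hc

end Cfsg.Agent.Helper8.AutSU
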