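import Mathlib
import Cfsg.Agent.Helper8.AutSUk
import Cfsg.Agent.Helper7.WittHerm

set_option autoImplicit false
set_option linter.unusedSectionVars false

/-! Automorphisms of `PSU_n(q)`: Witt's lemma for the standard Hermitian form, and the transitivity
of the general unitary group on hyperbolic pairs (helper8). -/

namespace Cfsg.Agent.Helper8.AutSU

open Matrix Cfsg Cfsg.Agent.Helper7.Herm Cfsg.Agent.Helper8.GUOrder Cfsg.Agent.Helper8.SURoot

variable {F : Type*} [Field F] [Fintype F] {q k N : ℕ} [hF : Fact (Fintype.card F = q ^ 2)]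

/-- the `q`-power map as a ring homomorphism -/
def frobq (F : Type*) [Field F] [Fintype F] (q : ℕ) [hF : Fact (Fintype.card F = q ^ 2)] :
    F →+* F where
  toFun x := x ^ q
  map_one' := one_pow q
  map_mul' x y := mul_pow x y q
  map_zero' := b_zero
  map_add' := b_add

theorem frobq_apply (x : F) : frobq F q x = x ^ q := rfl

/-- the Hermitian form as a sesquilinear map -/
def hB (N : ℕ) (F : Type*) [Field F] [Fintype F] (q : ℕ) [hF : Fact (Fintype.card F = q ^ 2)] :
    (Fin N → F) →ₛₗ[frobq F q] (Fin N → F) →ₗ[F] F :=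
  LinearMap.mk₂'ₛₗ (frobq F q) (RingHom.id F) (fun u v => hermForm N F q v u)
    (fun u u' v => h_add_right v u u')
    (fun c u v => by rw [hermForm_smul_right, frobq_apply, smul_eq_mul])
    (fun u v v' => hermForm_add_left v v' u)
    (fun c u v => by rw [hermForm_smul_left, RingHom.id_apply, smul_eq_mul])

theorem hB_apply (u v : Fin N → F) : hB N F q u v = hermForm N F q v u := rfl

theorem exists_GU_of_families {m : ℕ} (x y : Fin m → (Fin N → F)) (hx : LinearIndependent F x)
    (hy : LinearIndependent F y)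
    (hxy : ∀ i j, hermForm N F q (x i) (x j) = hermForm N F q (y i) (y j)) :
    ∃ g : GU N F q, ∀ i, mg g *ᵥ x i = y i := by
  have hσ : frobq F q ≠ RingHom.id F := by
    intro h
    obtain ⟨a, ha⟩ := exists_not_fixed hF.out (K := F)
    apply ha
    have := congrArg (fun φ : F →+* F => φ a) h
    exact this
  have hσ2 : ∀ a : F, frobq F q (frobq F q a) = a := fun a => bb a
  have hS : (hB N F q).IsSymm := ⟨fun u v => (h_swap u v).symm⟩
  have hnd : (hB N F q).Nondegenerate :=
    ⟨fun u hu => eq_zero_of_h_left (q := q) hu, fun v hv => eq_zero_of_h_right (q := q) hv⟩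
  obtain ⟨g, hg1, hg2⟩ := Cfsg.Agent.Helper7.WittHerm.witt_family (σ := frobq F q) (B := hB N F q)
    hσ hσ2 hS hnd m x y hx hy (fun i j => hxy j i)
  set M := LinearMap.toMatrix' (g : (Fin N → F) →ₗ[F] (Fin N → F)) with hM
  set M' := LinearMap.toMatrix' (g.symm : (Fin N → F) →ₗ[F] (Fin N → F)) with hM'
  have h1 : M * M' = 1 := by
    rw [hM, hM', ← LinearMap.toMatrix'_comp, ← LinearMap.toMatrix'_id]
    congr 1
    ext v : 1
    simp
  have h2 : M' * M = 1 := by
    rw [hM, hM', ← LinearMap.toMatrix'_comp, ← LinearMap.toMatrix'_id]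
    congr 1
    ext v : 1
    simp
  have hmv : ∀ v, M *ᵥ v = g v := fun v => LinearMap.toMatrix'_mulVec _ v
  refine ⟨⟨⟨M, M', h1, h2⟩, ?_⟩, fun i => ?_⟩
  · intro u v
    show hermForm N F q (M *ᵥ u) (M *ᵥ v) = _
    rw [hmv, hmv]
    exact hg1 v u
  · show M *ᵥ x i = y i
    rw [hmv, hg2]

theorem linearIndependent_pair {v₁ v₂ : Fin N → F} (h11 : hermForm N F q v₁ v₁ = 0)
    (h22 : hermForm N F q v₂ v₂ = 0) (h12 : hermForm N F q v₁ v₂ = 1) :
    LinearIndependent F ![v₁, v₂] := by
  rw [LinearIndependent.pair_iff]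
  intro s t h
  have h21 := h_eq_one_of_swap h12
  have ha := congrArg (fun x => hermForm N F q x v₂) h
  have hb := congrArg (fun x => hermForm N F q x v₁) h
  beta_reduce at ha hb
  rw [hermForm_add_left, hermForm_smul_left, hermForm_smul_left, h22, h12, mul_zero, add_zero,
    mul_one, hermForm_zero_left] at ha
  rw [hermForm_add_left, hermForm_smul_left, hermForm_smul_left, h11, h21, mul_zero, zero_add,
    mul_one, hermForm_zero_left] at hb
  exact ⟨ha, hb⟩

namespace Frame

variable (fr : Frame F q k)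

/-- the general unitary group is transitive on hyperbolic pairs -/
theorem exists_GU_pair {v₁ v₂ : Fin (k + 2) → F} (h11 : hermForm (k + 2) F q v₁ v₁ = 0)
    (h22 : hermForm (k + 2) F q v₂ v₂ = 0) (h12 : hermForm (k + 2) F q v₁ v₂ = 1) :
    ∃ g : GU (k + 2) F q, mg g *ᵥ fr.e = v₁ ∧ mg g *ᵥ fr.f = v₂ := by
  have h21 := h_eq_one_of_swap h12
  obtain ⟨g, hg⟩ := exists_GU_of_families (q := q) ![fr.e, fr.f] ![v₁, v₂]
    (linearIndependent_pair fr.he fr.hf fr.hef) (linearIndependent_pair h11 h22 h12) (by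
      intro i j
      fin_cases i <;> fin_cases j
      · exact fr.he.trans h11.symm
      · exact fr.hef.trans h12.symm
      · exact fr.hfe.trans h21.symm
      · exact fr.hf.trans h22.symm)
  exact ⟨g, hg 0, hg 1⟩

end Frame

/-- every isotropic vector is part of a hyperbolic pair -/
theorem exists_partner {v : Fin N → F} (hv0 : v ≠ 0) (hv : hermForm N F q v v = 0) :
    ∃ v' : Fin N → F, hermForm N F q v' v' = 0 ∧ hermForm N F q v v' = 1 := by
  obtain ⟨x, hx⟩ := exists_herm_eq_one (q := q) hv0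
  obtain ⟨a, ha⟩ := exists_sg (q := q) x
  refine ⟨x + a • v, ?_, ?_⟩
  · rw [hermForm_add_left, h_add_right, h_add_right, hermForm_smul_left, hermForm_smul_left,
      hermForm_smul_right, hermForm_smul_right, hv, hx, h_eq_one_of_swap hx]
    linear_combination ha
  · rw [h_add_right, hermForm_smul_right, hv, h_eq_one_of_swap hx]
    ring

namespace Frame

variable (fr : Frame F q k)

theorem exists_GU_point {v : Fin (k + 2) → F} (hv0 : v ≠ 0) (hv : hermForm (k + 2) F q v v = 0) :
    ∃ g : GU (k + 2) F q, mg g *ᵥ fr.e = v := by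
  obtain ⟨v', hv', h12⟩ := exists_partner hv0 hv
  obtain ⟨g, hg, _⟩ := fr.exists_GU_pair hv hv' h12
  exact ⟨g, hg⟩

end Frame

end Cfsg.Agent.Helper8.AutSU
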