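import Mathlib
import Cfsg.Agent.Helper8.AutSUl

set_option autoImplicit false
set_option linter.unusedSectionVars false

/-! Automorphisms of `PSU_n(q)`: every automorphism permutes the root groups (helper8). -/

namespace Cfsg.Agent.Helper8.AutSU

open Matrix Cfsg Cfsg.Agent.Helper7.Herm Cfsg.Agent.Helper8.GUOrder Cfsg.Agent.Helper8.SURoot
open Cfsg.Agent.Helper8.AutSLn (ZZ mem_ZZ ZZ_smul aut_mul_conj')
open scoped Pointwise

variable {F : Type*} [Field F] [Fintype F] {q k N : ℕ} [hF : Fact (Fintype.card F = q ^ 2)]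

theorem sa_smul_RG (g : GU N F q) (σ : F ≃+* F) {v : Fin N → F} (hv0 : v ≠ 0)
    (hv : hermForm N F q v v = 0) : sa g σ • RG q v = RG q (sm g σ v) := by
  have hv0' := sm_ne_zero g σ hv0
  have hv' : hermForm N F q (sm g σ v) (sm g σ v) = 0 := by rw [h_sm, hv, map_zero]
  ext x
  rw [mem_RG_iff hv0' hv']
  constructor
  · intro hx
    rw [Subgroup.mem_pointwise_smul_iff_inv_smul_mem, mem_RG_iff hv0 hv] at hx
    obtain ⟨s, hs, hx⟩ := hx
    refine ⟨σ s, tz_map σ hs, ?_⟩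
    have h1 : x = sa g σ (TU q v s) := by
      rw [← hx]
      exact (smul_inv_smul (sa g σ) x).symm
    rw [h1, sa_TU g σ hv hs]
  · rintro ⟨s, hs, rfl⟩
    obtain ⟨s', hs', rfl⟩ := tz_surj σ hs
    rw [← sa_TU g σ hv hs']
    exact Subgroup.smul_mem_pointwise_smul _ _ _ (TU_mem_RG hv0 hv hs')

/-- the images of the root groups -/
def IsRootU (R : Subgroup (PSU N F q)) : Prop :=
  ∃ v : Fin N → F, v ≠ 0 ∧ hermForm N F q v v = 0 ∧ R = Xb v

theorem ZZ_map_pr (p : ℕ) [Fact p.Prime] [CharP F p] (hN : 1 ≤ N) (P : Sylow p (SU N F q))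
    {v : Fin N → F} (hZ : ZZ (P : Subgroup (SU N F q)) = RG q v) :
    ZZ ((P : Subgroup (SU N F q)).map pr) = Xb v := by
  have hpow : ∀ h ∈ (P : Subgroup (SU N F q)), ∃ m : ℕ, h ^ (p ^ m) = 1 := by
    intro h hh
    obtain ⟨m, hm⟩ := P.isPGroup' ⟨h, hh⟩
    exact ⟨m, congrArg Subtype.val hm⟩
  ext x
  rw [mem_ZZ]
  constructor
  · rintro ⟨⟨g, hg, rfl⟩, hc⟩
    have hgZ : g ∈ ZZ (P : Subgroup (SU N F q)) := by
      rw [mem_ZZ]
      refine ⟨hg, fun h hh => ?_⟩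
      have h1 := hc (pr h) ⟨h, hh, rfl⟩
      obtain ⟨m, hm⟩ := hpow h hh
      have h2 : pr (g * h * g⁻¹) = pr h := by
        rw [map_mul, map_mul, ← h1, map_inv, mul_inv_cancel_right]
      have h3 : g * h * g⁻¹ = h :=
        eq_of_pr_eq p hN h2 (m₁ := m) (m₂ := m) (by rw [conj_pow, hm, mul_one, mul_inv_cancel]) hm
      calc h * g = (g * h * g⁻¹) * g := by rw [h3]
        _ = g * h := by group
    rw [hZ] at hgZ
    exact Subgroup.mem_map_of_mem _ hgZ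
  · rintro ⟨y, hy, rfl⟩
    have hy' : y ∈ ZZ (P : Subgroup (SU N F q)) := by rw [hZ]; exact hy
    rw [mem_ZZ] at hy'
    refine ⟨Subgroup.mem_map_of_mem _ hy'.1, ?_⟩
    rintro _ ⟨h, hh, rfl⟩
    rw [← map_mul, ← map_mul, hy'.2 h hh]

theorem exists_sylow_ZZ (p : ℕ) [Fact p.Prime] [CharP F p] (hk : 1 ≤ k) {v : Fin (k + 2) → F}
    (hv0 : v ≠ 0) (hv : hermForm (k + 2) F q v v = 0) :
    ∃ P : Sylow p (SU (k + 2) F q), ZZ (P : Subgroup (SU (k + 2) F q)) = RG q v := by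
  obtain ⟨fr⟩ := exists_frame (F := F) (q := q) k
  obtain ⟨P₀, hP₀⟩ := (fr.isPGroup_Qv p).exists_le_sylow
  obtain ⟨g, hg⟩ := fr.exists_GU_point hv0 hv
  refine ⟨sa g (RingEquiv.refl F) • P₀, ?_⟩
  rw [Sylow.pointwise_smul_def, ZZ_smul, fr.ZZ_sylow p hk P₀ hP₀,
    sa_smul_RG g _ fr.e_ne_zero fr.he]
  congr 1

theorem isRootU_conj {R : Subgroup (PSU N F q)} (hR : IsRootU R) (x : PSU N F q) :
    IsRootU (MulAut.conj x • R) := by
  obtain ⟨v, hv0, hv, rfl⟩ := hR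
  obtain ⟨g, rfl⟩ := pr_surjective x
  exact ⟨_, mulVec_ne_zero' g hv0, by rw [herm_mt, hv], conj_smul_Xb g hv0 hv⟩

/-- the centre of every Sylow `p`-subgroup of `PSU` is a root group -/
theorem isRootU_ZZ_sylow (p : ℕ) [Fact p.Prime] [CharP F p] (hk : 1 ≤ k)
    (S : Sylow p (PSU (k + 2) F q)) : IsRootU (ZZ (S : Subgroup (PSU (k + 2) F q))) := by
  obtain ⟨fr⟩ := exists_frame (F := F) (q := q) k
  obtain ⟨P₀, hP₀⟩ := exists_sylow_ZZ p hk fr.e_ne_zero fr.he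
  obtain ⟨x, hx⟩ := MulAction.exists_smul_eq (PSU (k + 2) F q)
    (P₀.mapSurjective pr_surjective) S
  have h1 := congrArg (fun P : Sylow p (PSU (k + 2) F q) =>
    (P : Subgroup (PSU (k + 2) F q))) hx
  simp only [Sylow.coe_subgroup_smul, Sylow.pointwise_smul_def, Sylow.coe_mapSurjective] at h1
  rw [← h1]
  have h2 : ZZ (MulAut.conj x • Subgroup.map pr (P₀ : Subgroup (SU (k + 2) F q))) =
      MulAut.conj x • Xb fr.e := by
    rw [ZZ_smul, ZZ_map_pr p (by omega) P₀ hP₀]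
  rw [h2]
  exact isRootU_conj ⟨_, fr.e_ne_zero, fr.he, rfl⟩ x

/-- **every automorphism of `PSU` permutes the root groups** -/
theorem isRootU_smul (p : ℕ) [Fact p.Prime] [CharP F p] (hk : 1 ≤ k)
    {R : Subgroup (PSU (k + 2) F q)} (hR : IsRootU R) (β : MulAut (PSU (k + 2) F q)) :
    IsRootU (β • R) := by
  obtain ⟨v, hv0, hv, rfl⟩ := hR
  obtain ⟨P, hP⟩ := exists_sylow_ZZ p hk hv0 hv
  have h1 := isRootU_ZZ_sylow p hk (β • P.mapSurjective pr_surjective)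
  rw [Sylow.pointwise_smul_def, Sylow.coe_mapSurjective, ZZ_smul,
    ZZ_map_pr p (by omega) P hP] at h1
  exact h1

end Cfsg.Agent.Helper8.AutSU
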