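import Mathlib
import Cfsg.Agent.Helper8.AutSUm

set_option autoImplicit false
set_option linter.unusedSectionVars false

/-! Automorphisms of `PSU_n(q)`: a normal `p`-subgroup of the point stabiliser lies in the
unipotent radical (helper8). -/

namespace Cfsg.Agent.Helper8.AutSU

open Matrix Cfsg Cfsg.Agent.Helper7.Herm Cfsg.Agent.Helper8.GUOrder Cfsg.Agent.Helper8.SURoot
open scoped Pointwise

variable {F : Type*} [Field F] [Fintype F] {q k N : ℕ} [hF : Fact (Fintype.card F = q ^ 2)]

theorem h_single_ne {i j : Fin N} (hij : i ≠ j) :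
    hermForm N F q (Pi.single i (1 : F)) (Pi.single j 1) = 0 := by
  rw [h_single_right, Pi.single_eq_of_ne hij.symm]

/-- an isotropic vector with two nonzero coordinates -/
theorem iso_pair {i j : Fin N} (hij : i ≠ j) {η : F} (hη : η * η ^ q = -1) :
    hermForm N F q (Pi.single i (1 : F) + η • Pi.single j 1) (Pi.single i 1 + η • Pi.single j 1) = 0 := by
  rw [hermForm_add_left, h_add_right, h_add_right, hermForm_smul_left, hermForm_smul_left,
    hermForm_smul_right, hermForm_smul_right, h_single_single, h_single_single, h_single_ne hij,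
    h_single_ne hij.symm]
  linear_combination hη

theorem exists_eta : ∃ η : F, η ≠ 0 ∧ η * η ^ q = -1 := by
  obtain ⟨η, hη⟩ := exists_norm hF.out (c := (-1 : F)) (neg_ne_zero.mpr one_ne_zero)
    (neg_one_pow_q hF.out)
  refine ⟨η, ?_, hη⟩
  rintro rfl
  rw [zero_mul] at hη
  exact (neg_ne_zero.mpr one_ne_zero) hη.symm

omit [Fintype F] hF in
theorem pi_eq_sum_single (w : Fin N → F) : w = ∑ j, w j • (Pi.single j (1 : F) : Fin N → F) := by
  ext i
  rw [Finset.sum_apply]
  simp [Pi.single_apply]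

namespace Frame

variable (fr : Frame F q k)

/-- an `F`-subspace of `F^k` invariant under the Levi complement and containing a nonzero vector
is everything -/
theorem invariant_eq_top (Wf : (Fin k → F) → Prop)
    (hadd : ∀ w w', Wf w → Wf w' → Wf (w + w')) (hsmul : ∀ (c : F) w, Wf w → Wf (c • w))
    (hinv : ∀ l ∈ fr.Lv, ∀ w, Wf w → Wf (lact l w)) {w₀ : Fin k → F} (hw₀ : Wf w₀) (hne : w₀ ≠ 0) :
    ∀ w, Wf w := by
  have hsub : ∀ w w', Wf w → Wf w' → Wf (w - w') := by
    intro w w' h h'
    rw [sub_eq_add_neg, ← neg_one_smul F w']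
    exact hadd _ _ h (hsmul _ _ h')
  obtain ⟨i, hi⟩ : ∃ i, w₀ i ≠ 0 := by
    by_contra h
    push Not at h
    exact hne (funext h)
  -- the basis vector `δ_i`
  have hδi : Wf (Pi.single i 1) := by
    obtain ⟨t, ht⟩ := exists_not_fixed hF.out (K := F)
    have ht0 : t ≠ 0 := by
      rintro rfl
      exact ht b_zero
    have h1 := hinv _ (fr.dg_mem_Lv ht0 i) w₀ hw₀
    rw [fr.lact_dg, dgD_eq] at h1
    have h2 := hsub _ _ h1 hw₀
    rw [add_sub_cancel_left] at h2
    have hc : (t ^ q / t - 1) * w₀ i ≠ 0 := by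
      refine mul_ne_zero ?_ hi
      intro h
      apply ht
      have := sub_eq_zero.mp h
      field_simp at this
      exact this
    have h3 := hsmul ((t ^ q / t - 1) * w₀ i)⁻¹ _ h2
    rw [smul_smul, inv_mul_cancel₀ hc, one_smul] at h3
    exact h3
  have hδ : ∀ j, Wf (Pi.single j 1) := by
    intro j
    by_cases hij : i = j
    · rw [← hij]; exact hδi
    · obtain ⟨η, hη0, hη⟩ := exists_eta (F := F) (q := q)
      obtain ⟨s, hs0, hs⟩ := exists_tz_ne_zero (F := F) (q := q)
      have hx := iso_pair hij hη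
      have h1 := hinv _ (fr.TU_iw_mem_Lv hx hs) _ hδi
      rw [Frame.lact_TU_iw hx hs, h_add_right, hermForm_smul_right, h_single_single, h_single_ne hij,
        mul_zero, add_zero, mul_one] at h1
      have h2 := hsub _ _ h1 hδi
      rw [add_sub_cancel_left] at h2
      have h3 := hsmul s⁻¹ _ h2
      rw [smul_smul, inv_mul_cancel₀ hs0, one_smul] at h3
      have h4 := hsub _ _ h3 hδi
      rw [add_sub_cancel_left] at h4
      have h5 := hsmul η⁻¹ _ h4
      rw [smul_smul, inv_mul_cancel₀ hη0, one_smul] at h5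
      exact h5
  intro w
  rw [pi_eq_sum_single w]
  have : ∀ s : Finset (Fin k), Wf (∑ j ∈ s, w j • (Pi.single j (1 : F) : Fin k → F)) := by
    intro s
    induction s using Finset.induction_on with
    | empty =>
      rw [Finset.sum_empty]
      have := hsmul 0 _ hδi
      rw [zero_smul] at this
      exact this
    | insert a s ha ih =>
      rw [Finset.sum_insert ha]
      exact hadd _ _ (hsmul _ _ (hδ a)) ih
  exact this _

/-- a normal `p`-subgroup of the point stabiliser fixing `e` lies in the unipotent radical -/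
theorem normal_pgroup_le_Qv (p : ℕ) [Fact p.Prime] [CharP F p] (hk : 1 ≤ k)
    (O : Subgroup (SU (k + 2) F q)) (hO : IsPGroup p O)
    (hfix : ∀ o ∈ O, mt o *ᵥ fr.e = fr.e)
    (hnorm : ∀ g ∈ fr.Bv, ∀ o ∈ O, g⁻¹ * o * g ∈ O) : O ≤ fr.Qv := by
  have hOB : ∀ o ∈ O, o ∈ fr.Bv := fun o ho => fr.mem_Bv_of_fix (hfix o ho)
  let act : MulAction ↥O (Fin k → F) :=
    { smul := fun o w => lact o.1 w
      one_smul := fun w => lact_one w
      mul_smul := fun o o' w => fr.lact_mul_B (hOB _ o.2) (hOB _ o'.2) w }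
  have hsm : ∀ (o : ↥O) (w : Fin k → F), o • w = lact o.1 w := fun _ _ => rfl
  have hcard : p ∣ Nat.card (Fin k → F) := by
    rw [Nat.card_eq_fintype_card, Fintype.card_fun, Fintype.card_fin, hF.out]
    exact ((char_dvd_q (F := F) (q := q) p).trans (dvd_pow_self q two_ne_zero)).trans
      (dvd_pow_self _ (by omega))
  have h0 : (0 : Fin k → F) ∈ MulAction.fixedPoints ↥O (Fin k → F) := by
    intro o
    rw [hsm]
    have := lact_smul (l := o.1) (0 : F) (0 : Fin k → F)
    rw [zero_smul, zero_smul] at this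
    exact this
  obtain ⟨w₀, hw₀, hne⟩ := hO.exists_fixed_point_of_prime_dvd_card_of_fixed_point
    (Fin k → F) hcard h0
  have hall := fr.invariant_eq_top (fun w => ∀ o ∈ O, lact o w = w)
    (fun w w' h h' o ho => by rw [lact_add, h o ho, h' o ho])
    (fun c w h o ho => by rw [lact_smul, h o ho])
    (fun l hl w h o ho => by
      have h1 := hnorm l (fr.Lv_le_Bv hl) o ho
      have h2 : o * l = l * (l⁻¹ * o * l) := by group
      rw [← fr.lact_mul_B (hOB o ho) (fr.Lv_le_Bv hl), h2,
        fr.lact_mul_B (fr.Lv_le_Bv hl) (hOB _ h1), h _ h1])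
    (w₀ := w₀) (fun o ho => hw₀ ⟨o, ho⟩) (Ne.symm hne)
  intro o ho
  rw [fr.mem_Qv_iff]
  exact ⟨hOB o ho, fr.lt_of_fix (hfix o ho), fun w => hall w o ho⟩

end Frame

end Cfsg.Agent.Helper8.AutSU
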