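import Mathlib
import Cfsg.Agent.Helper8.AutSUn

set_option autoImplicit false
set_option linter.unusedSectionVars false

/-! Automorphisms of `PSU_n(q)`: an automorphism fixing a root group normalises the image of the
unipotent radical of the point stabiliser (helper8). -/

namespace Cfsg.Agent.Helper8.AutSU

open Matrix Cfsg Cfsg.Agent.Helper7.Herm Cfsg.Agent.Helper8.GUOrder Cfsg.Agent.Helper8.SURoot
open Cfsg.Agent.Helper8.AutSLn (ZZ mem_ZZ ZZ_smul aut_mul_conj')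
open scoped Pointwise

variable {F : Type*} [Field F] [Fintype F] {q k N : ℕ} [hF : Fact (Fintype.card F = q ^ 2)]

namespace Frame

variable (fr : Frame F q k)

/-- the images in `PSU` of the point stabiliser, its unipotent radical and the Levi complement -/
def Bb : Subgroup (PSU (k + 2) F q) := fr.Bv.map pr

def Qb : Subgroup (PSU (k + 2) F q) := fr.Qv.map pr

def Lb : Subgroup (PSU (k + 2) F q) := fr.Lv.map pr

theorem Bv_mul_center {g z : SU (k + 2) F q} (hg : g ∈ fr.Bv)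
    (hz : z ∈ Subgroup.center (SU (k + 2) F q)) : g * z ∈ fr.Bv := by
  obtain ⟨ζ, hζ⟩ := center_mulVec (by omega) hz
  obtain ⟨t, ht⟩ := hg
  exact ⟨ζ * t, by rw [mt_mul_mulVec, hζ, mulVec_smul, ht, smul_smul]⟩

theorem Lv_mul_center {g z : SU (k + 2) F q} (hg : g ∈ fr.Lv)
    (hz : z ∈ Subgroup.center (SU (k + 2) F q)) : g * z ∈ fr.Lv := by
  obtain ⟨ζ, hζ⟩ := center_mulVec (by omega) hz
  obtain ⟨⟨t, ht⟩, ⟨s, hs⟩⟩ := hg
  exact ⟨⟨ζ * t, by rw [mt_mul_mulVec, hζ, mulVec_smul, ht, smul_smul]⟩,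
    ⟨ζ * s, by rw [mt_mul_mulVec, hζ, mulVec_smul, hs, smul_smul]⟩⟩

theorem mem_Bb_iff {g : SU (k + 2) F q} : pr g ∈ fr.Bb ↔ g ∈ fr.Bv := by
  constructor
  · rintro ⟨g', hg', h⟩
    have h1 := pr_eq_iff.mp h
    have h2 := fr.Bv_mul_center hg' h1
    rw [mul_inv_cancel_left] at h2
    exact h2
  · intro h
    exact ⟨g, h, rfl⟩

theorem mem_Lb_iff {g : SU (k + 2) F q} : pr g ∈ fr.Lb ↔ g ∈ fr.Lv := by
  constructor
  · rintro ⟨g', hg', h⟩
    have h1 := pr_eq_iff.mp h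
    have h2 := fr.Lv_mul_center hg' h1
    rw [mul_inv_cancel_left] at h2
    exact h2
  · intro h
    exact ⟨g, h, rfl⟩

/-- the normaliser of the root group of `e` -/
theorem normalizer_Xb_e (p : ℕ) [Fact p.Prime] [CharP F p] (x : PSU (k + 2) F q) :
    MulAut.conj x • Xb (q := q) fr.e = Xb fr.e ↔ x ∈ fr.Bb := by
  obtain ⟨g, rfl⟩ := pr_surjective x
  rw [conj_smul_Xb g fr.e_ne_zero fr.he, fr.mem_Bb_iff]
  constructor
  · intro h
    obtain ⟨c, _, hc⟩ := par_of_Xb_eq p (by omega) (mulVec_ne_zero' g fr.e_ne_zero)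
      (by rw [herm_mt, fr.he]) fr.e_ne_zero fr.he h
    exact ⟨c, hc⟩
  · intro h
    rw [fr.lt_spec h, Xb_smul fr.e_ne_zero fr.he (fr.lt_ne_zero h)]

theorem normalizer_Xb_f (p : ℕ) [Fact p.Prime] [CharP F p] (g : SU (k + 2) F q) :
    MulAut.conj (pr g) • Xb (q := q) fr.f = Xb fr.f ↔ ∃ t : F, mt g *ᵥ fr.f = t • fr.f := by
  rw [conj_smul_Xb g fr.f_ne_zero fr.hf]
  constructor
  · intro h
    obtain ⟨c, _, hc⟩ := par_of_Xb_eq p (by omega) (mulVec_ne_zero' g fr.f_ne_zero)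
      (by rw [herm_mt, fr.hf]) fr.f_ne_zero fr.hf h
    exact ⟨c, hc⟩
  · rintro ⟨t, ht⟩
    have ht0 : t ≠ 0 := by
      rintro rfl
      rw [zero_smul] at ht
      exact mulVec_ne_zero' g fr.f_ne_zero ht
    rw [ht, Xb_smul fr.f_ne_zero fr.hf ht0]

theorem mem_Lb_iff_normalizes (p : ℕ) [Fact p.Prime] [CharP F p] (x : PSU (k + 2) F q) :
    x ∈ fr.Lb ↔ (MulAut.conj x • Xb (q := q) fr.e = Xb fr.e ∧
      MulAut.conj x • Xb (q := q) fr.f = Xb fr.f) := by
  obtain ⟨g, rfl⟩ := pr_surjective x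
  rw [fr.mem_Lb_iff, fr.normalizer_Xb_e p, fr.mem_Bb_iff, fr.normalizer_Xb_f p]
  rfl

theorem isPGroup_Qb (p : ℕ) [Fact p.Prime] [CharP F p] : IsPGroup p fr.Qb :=
  (fr.isPGroup_Qv p).map pr

theorem Bb_le_normalizer_Qb : fr.Bb ≤ Subgroup.normalizer fr.Qb := by
  rintro _ ⟨g, hg, rfl⟩
  rw [Subgroup.mem_normalizer_iff]
  intro x
  constructor
  · rintro ⟨u, hu, rfl⟩
    rw [← map_inv, ← map_mul, ← map_mul]
    exact ⟨_, fr.conj_mem_Qv hg hu, rfl⟩
  · intro h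
    obtain ⟨u, hu, h⟩ := h
    have h1 : x = pr (g⁻¹ * u * g⁻¹⁻¹) := by
      rw [inv_inv, map_mul, map_mul, h, map_inv]
      group
    rw [h1]
    exact ⟨_, fr.conj_mem_Qv (fr.Bv.inv_mem hg) hu, rfl⟩

/-- a Sylow subgroup whose centre is the root group of `e` contains the image of the unipotent
radical -/
theorem Qb_le_sylow (p : ℕ) [Fact p.Prime] [CharP F p] (S : Sylow p (PSU (k + 2) F q))
    (hZ : ZZ (S : Subgroup (PSU (k + 2) F q)) = Xb fr.e) :
    fr.Qb ≤ (S : Subgroup (PSU (k + 2) F q)) := by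
  have h1 : (S : Subgroup (PSU (k + 2) F q)) ≤ fr.Bb := by
    intro s hs
    rw [← fr.normalizer_Xb_e p, ← hZ, ← ZZ_smul]
    congr 1
    ext y
    rw [Subgroup.mem_pointwise_smul_iff_inv_smul_mem]
    show (MulAut.conj s)⁻¹ y ∈ (S : Subgroup (PSU (k + 2) F q)) ↔ _
    rw [← map_inv, MulAut.conj_apply, inv_inv]
    constructor
    · intro h
      have := S.1.mul_mem (S.1.mul_mem hs h) (S.1.inv_mem hs)
      convert this using 1
      group
    · intro h
      exact S.1.mul_mem (S.1.mul_mem (S.1.inv_mem hs) h) hs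
  have h2 := IsPGroup.to_sup_of_normal_right' S.isPGroup' (fr.isPGroup_Qb p)
    (h1.trans fr.Bb_le_normalizer_Qb)
  have h3 := S.is_maximal' h2 le_sup_left
  rw [← h3]
  exact le_sup_right

end Frame

end Cfsg.Agent.Helper8.AutSU
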