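import Mathlib
import Cfsg.Agent.Helper8.AutSUo

set_option autoImplicit false
set_option linter.unusedSectionVars false

/-! Automorphisms of `PSU_n(q)`: an automorphism fixing the root group of `e` normalises the
image of the unipotent radical (helper8). -/

namespace Cfsg.Agent.Helper8.AutSU

open Matrix Cfsg Cfsg.Agent.Helper7.Herm Cfsg.Agent.Helper8.GUOrder Cfsg.Agent.Helper8.SURoot
open Cfsg.Agent.Helper8.AutSLn (ZZ mem_ZZ ZZ_smul aut_mul_conj')
open scoped Pointwise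

variable {F : Type*} [Field F] [Fintype F] {q k N : ℕ} [hF : Fact (Fintype.card F = q ^ 2)]

theorem mem_conj_sylow {G : Type*} [Group G] {p : ℕ} (P : Sylow p G) (g x : G) :
    x ∈ ((MulAut.conj g • P : Sylow p G) : Subgroup G) ↔ g⁻¹ * x * g ∈ (P : Subgroup G) := by
  rw [Sylow.pointwise_smul_def, Subgroup.mem_pointwise_smul_iff_inv_smul_mem]
  show (MulAut.conj g)⁻¹ x ∈ (P : Subgroup G) ↔ _
  rw [← map_inv, MulAut.conj_apply, inv_inv]

theorem mem_aut_smul {G : Type*} [Group G] (β : MulAut G) (H : Subgroup G) (x : G) :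
    x ∈ β⁻¹ • H ↔ β x ∈ H := by
  rw [Subgroup.mem_pointwise_smul_iff_inv_smul_mem, inv_inv]
  rfl

namespace Frame

variable (fr : Frame F q k)

theorem map_Qb_le (p : ℕ) [Fact p.Prime] [CharP F p] (hk : 1 ≤ k)
    (β : MulAut (PSU (k + 2) F q)) (hβ : β • Xb (q := q) fr.e = Xb fr.e)
    {x : PSU (k + 2) F q} (hx : x ∈ fr.Qb) : β x ∈ fr.Qb := by
  have hβ' : β⁻¹ • Xb (q := q) fr.e = Xb fr.e := by
    conv_lhs => rw [← hβ]
    rw [inv_smul_smul]
  have key1 : ∀ P : Sylow p (SU (k + 2) F q), fr.Qv ≤ P →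
      β x ∈ (P : Subgroup (SU (k + 2) F q)).map pr := by
    intro P hP
    have h1 : ZZ ((β⁻¹ • P.mapSurjective pr_surjective : Sylow p (PSU (k + 2) F q)) :
        Subgroup (PSU (k + 2) F q)) = Xb fr.e := by
      rw [Sylow.pointwise_smul_def, Sylow.coe_mapSurjective, ZZ_smul,
        ZZ_map_pr p (by omega) P (fr.ZZ_sylow p hk P hP), hβ']
    have h2 := fr.Qb_le_sylow p _ h1 hx
    rw [Sylow.pointwise_smul_def, Sylow.coe_mapSurjective, mem_aut_smul] at h2
    exact h2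
  obtain ⟨P₀, hP₀⟩ := (fr.isPGroup_Qv p).exists_le_sylow
  obtain ⟨y₀, hy₀, hy₀x⟩ := key1 P₀ hP₀
  obtain ⟨m₀, hm₀⟩ : ∃ m : ℕ, y₀ ^ (p ^ m) = 1 := by
    obtain ⟨m, hm⟩ := P₀.isPGroup' ⟨y₀, hy₀⟩
    exact ⟨m, congrArg Subtype.val hm⟩
  set O : Subgroup (SU (k + 2) F q) :=
    ⨅ P : {P : Sylow p (SU (k + 2) F q) // fr.Qv ≤ P}, (P.1 : Subgroup (SU (k + 2) F q)) with hOdef
  have hOle : ∀ P : Sylow p (SU (k + 2) F q), fr.Qv ≤ P → O ≤ P := fun P hP =>
    iInf_le (fun P : {P : Sylow p (SU (k + 2) F q) // fr.Qv ≤ P} =>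
      (P.1 : Subgroup (SU (k + 2) F q))) ⟨P, hP⟩
  have hy₀O : y₀ ∈ O := by
    rw [hOdef, Subgroup.mem_iInf]
    rintro ⟨P, hP⟩
    obtain ⟨y, hy, hyx⟩ := key1 P hP
    obtain ⟨m, hm⟩ : ∃ m : ℕ, y ^ (p ^ m) = 1 := by
      obtain ⟨m, hm⟩ := P.isPGroup' ⟨y, hy⟩
      exact ⟨m, congrArg Subtype.val hm⟩
    have := eq_of_pr_eq p (by omega) (hyx.trans hy₀x.symm) hm hm₀
    rw [← this]
    exact hy
  have hOQ : O ≤ fr.Qv := by
    apply fr.normal_pgroup_le_Qv p hk O (P₀.isPGroup'.to_le (hOle P₀ hP₀))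
    · intro o ho
      exact fr.sylow_fix p hk P₀ hP₀ (hOle P₀ hP₀ ho)
    · intro g hg o ho
      rw [hOdef, Subgroup.mem_iInf]
      rintro ⟨P, hP⟩
      have hP' : fr.Qv ≤ ((MulAut.conj g • P : Sylow p (SU (k + 2) F q)) :
          Subgroup (SU (k + 2) F q)) := by
        intro u hu
        rw [mem_conj_sylow]
        apply hP
        have := fr.conj_mem_Qv (fr.Bv.inv_mem hg) hu
        rw [inv_inv] at this
        exact this
      have h3 := hOle _ hP' ho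
      rw [mem_conj_sylow] at h3
      exact h3
  rw [← hy₀x]
  exact ⟨y₀, hOQ hy₀O, rfl⟩

/-- an automorphism fixing the root group of `e` fixes the image of the unipotent radical -/
theorem smul_Qb (p : ℕ) [Fact p.Prime] [CharP F p] (hk : 1 ≤ k)
    (β : MulAut (PSU (k + 2) F q)) (hβ : β • Xb (q := q) fr.e = Xb fr.e) :
    β • fr.Qb = fr.Qb := by
  have hβ' : β⁻¹ • Xb (q := q) fr.e = Xb fr.e := by
    conv_lhs => rw [← hβ]
    rw [inv_smul_smul]
  apply le_antisymm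
  · intro x hx
    rw [Subgroup.mem_pointwise_smul_iff_inv_smul_mem] at hx
    have := fr.map_Qb_le p hk β hβ hx
    rw [← MulAut.smul_def, smul_inv_smul] at this
    exact this
  · intro x hx
    rw [Subgroup.mem_pointwise_smul_iff_inv_smul_mem]
    exact fr.map_Qb_le p hk β⁻¹ hβ' hx

end Frame

end Cfsg.Agent.Helper8.AutSU
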