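import Mathlib
import Cfsg.Agent.Helper8.AutSUp

set_option autoImplicit false
set_option linter.unusedSectionVars false

/-! Automorphisms of `PSU_n(q)`: a total parametrisation of the unipotent radical (helper8). -/

namespace Cfsg.Agent.Helper8.AutSU

open Matrix Cfsg Cfsg.Agent.Helper7.Herm Cfsg.Agent.Helper8.GUOrder Cfsg.Agent.Helper8.SURoot
open scoped Pointwise

variable {F : Type*} [Field F] [Fintype F] {q k N : ℕ} [hF : Fact (Fintype.card F = q ^ 2)]

/-- validity of the parameters of a Siegel element -/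
abbrev Val (q : ℕ) (w : Fin k → F) (a : F) : Prop := a + a ^ q + hermForm k F q w w = 0

theorem Val_add {w w' : Fin k → F} {a a' : F} (h : Val q w a) (h' : Val q w' a') :
    Val q (w + w') (a + a' - hermForm k F q w' w) := Frame.sg_mul_aux h h'

theorem Val_neg {w : Fin k → F} {a : F} (h : Val q w a) : Val q (-w) (a ^ q) := Frame.sg_inv_aux h

theorem Val_zero_iff {s : F} : Val q (0 : Fin k → F) s ↔ s ^ q + s = 0 := by
  unfold Val
  rw [hermForm_zero_left, add_zero, add_comm]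

theorem Val_zero : Val q (0 : Fin k → F) (0 : F) := Frame.sg_zero_aux

theorem exists_Val (w : Fin k → F) : ∃ a : F, Val q w a := exists_sg w

theorem Val_diff {w : Fin k → F} {a a' : F} (h : Val q w a) (h' : Val q w a') :
    (a' - a) ^ q + (a' - a) = 0 := by
  unfold Val at h h'
  rw [b_sub]
  linear_combination h' - h

namespace Frame

variable (fr : Frame F q k)

/-- Siegel elements, total version -/
noncomputable def sgt (w : Fin k → F) (a : F) : SU (k + 2) F q :=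
  haveI := Classical.propDecidable (Val q w a)
  if h : Val q w a then fr.sg h else 1

theorem sgt_eq {w : Fin k → F} {a : F} (h : Val q w a) : fr.sgt w a = fr.sg h := by
  unfold sgt
  rw [dif_pos h]

theorem sgt_mem_Qv {w : Fin k → F} {a : F} (h : Val q w a) : fr.sgt w a ∈ fr.Qv := by
  rw [fr.sgt_eq h]
  exact fr.sg_mem_Qv h

theorem mem_Qv_iff' {g : SU (k + 2) F q} : g ∈ fr.Qv ↔ ∃ w a, Val q w a ∧ g = fr.sgt w a := by
  constructor
  · rintro ⟨w, a, ha, rfl⟩
    exact ⟨w, a, ha, (fr.sgt_eq ha).symm⟩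
  · rintro ⟨w, a, ha, rfl⟩
    exact fr.sgt_mem_Qv ha

theorem sgt_mul {w w' : Fin k → F} {a a' : F} (h : Val q w a) (h' : Val q w' a') :
    fr.sgt w a * fr.sgt w' a' = fr.sgt (w + w') (a + a' - hermForm k F q w' w) := by
  rw [fr.sgt_eq h, fr.sgt_eq h', fr.sgt_eq (Val_add h h'), fr.sg_mul]

theorem sgt_inv {w : Fin k → F} {a : F} (h : Val q w a) : (fr.sgt w a)⁻¹ = fr.sgt (-w) (a ^ q) := by
  rw [fr.sgt_eq h, fr.sgt_eq (Val_neg h), fr.sg_inv]

theorem sgt_injective {w w' : Fin k → F} {a a' : F} (h : Val q w a) (h' : Val q w' a')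
    (he : fr.sgt w a = fr.sgt w' a') : w = w' ∧ a = a' := by
  rw [fr.sgt_eq h, fr.sgt_eq h'] at he
  exact fr.sg_injective h h' he

theorem sgt_zero_left {s : F} (hs : s ^ q + s = 0) : fr.sgt 0 s = TU q fr.e s := by
  rw [fr.sgt_eq (Val_zero_iff.mpr hs)]
  exact fr.sg_eq_TU hs

theorem sgt_mul_TU {w : Fin k → F} {a s : F} (h : Val q w a) (hs : s ^ q + s = 0) :
    fr.sgt w a * TU q fr.e s = fr.sgt w (a + s) := by
  rw [← fr.sgt_zero_left hs, fr.sgt_mul h (Val_zero_iff.mpr hs)]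
  congr 1
  · rw [add_zero]
  · rw [hermForm_zero_left, sub_zero]

theorem Val_conj {l : SU (k + 2) F q} (hl : l ∈ fr.Lv) {w : Fin k → F} {a : F} (h : Val q w a) :
    Val q ((fr.lt l) ^ q • lact l w) (fr.lt l * (fr.lt l) ^ q * a) := fr.conj_sg_aux hl h

theorem conj_sgt {l : SU (k + 2) F q} (hl : l ∈ fr.Lv) {w : Fin k → F} {a : F} (h : Val q w a) :
    l * fr.sgt w a * l⁻¹ = fr.sgt ((fr.lt l) ^ q • lact l w) (fr.lt l * (fr.lt l) ^ q * a) := by
  rw [fr.sgt_eq h, fr.sgt_eq (fr.Val_conj hl h), fr.conj_sg hl h]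

theorem sgt_comm {w w' : Fin k → F} {a a' : F} (h : Val q w a) (h' : Val q w' a') :
    (hermForm k F q w w' - hermForm k F q w' w) ^ q +
        (hermForm k F q w w' - hermForm k F q w' w) = 0 ∧
      fr.sgt w a * fr.sgt w' a' = fr.sgt w' a' * fr.sgt w a * TU q fr.e
        (hermForm k F q w w' - hermForm k F q w' w) := by
  obtain ⟨hs, h1⟩ := fr.sg_comm h h'
  rw [fr.sgt_eq h, fr.sgt_eq h']
  exact ⟨hs, h1⟩

theorem sgt_f {w : Fin k → F} {a : F} (h : Val q w a) :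
    mt (fr.sgt w a) *ᵥ fr.f = fr.f + iw w + a • fr.e := by
  rw [fr.sgt_eq h, fr.sg_f]

theorem sgt_pow_char_sq (p : ℕ) [CharP F p] {w : Fin k → F} {a : F} (h : Val q w a) :
    (fr.sgt w a) ^ (p ^ 2) = 1 := by
  rw [fr.sgt_eq h, fr.sg_pow_char_sq p h]

/-- the projection is injective on the unipotent radical -/
theorem pr_sgt_inj (p : ℕ) [Fact p.Prime] [CharP F p] {w w' : Fin k → F} {a a' : F}
    (h : Val q w a) (h' : Val q w' a') (he : pr (fr.sgt w a) = pr (fr.sgt w' a')) :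
    w = w' ∧ a = a' :=
  fr.sgt_injective h h' (eq_of_pr_eq p (by omega) he (fr.sgt_pow_char_sq p h)
    (fr.sgt_pow_char_sq p h'))

theorem mem_Qb_iff {x : PSU (k + 2) F q} :
    x ∈ fr.Qb ↔ ∃ w a, Val q w a ∧ x = pr (fr.sgt w a) := by
  constructor
  · rintro ⟨g, hg, rfl⟩
    obtain ⟨w, a, ha, rfl⟩ := fr.mem_Qv_iff'.mp hg
    exact ⟨w, a, ha, rfl⟩
  · rintro ⟨w, a, ha, rfl⟩
    exact ⟨_, fr.sgt_mem_Qv ha, rfl⟩

end Frame

end Cfsg.Agent.Helper8.AutSU
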