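import Mathlib
import Cfsg.Agent.Helper8.AutSUq

set_option autoImplicit false
set_option linter.unusedSectionVars false

/-! Automorphisms of `PSU_n(q)`: the map induced by an automorphism on the unipotent radical modulo
its centre, as a relation (helper8). -/

namespace Cfsg.Agent.Helper8.AutSU

open Matrix Cfsg Cfsg.Agent.Helper7.Herm Cfsg.Agent.Helper8.GUOrder Cfsg.Agent.Helper8.SURoot
open scoped Pointwise

variable {F : Type*} [Field F] [Fintype F] {q k N : ℕ} [hF : Fact (Fintype.card F = q ^ 2)]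

theorem Val_add_tz {w : Fin k → F} {a s : F} (h : Val q w a) (hs : s ^ q + s = 0) :
    Val q w (a + s) := by
  unfold Val at h ⊢
  rw [b_add]
  linear_combination h + hs

namespace Frame

variable (fr : Frame F q k)

/-- the relation induced by an automorphism on the parameters `w` -/
def Rel (β : MulAut (PSU (k + 2) F q)) (w w' : Fin k → F) : Prop :=
  ∃ a a', Val q w a ∧ Val q w' a' ∧ β (pr (fr.sgt w a)) = pr (fr.sgt w' a')

variable {fr}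

theorem apply_TU {β : MulAut (PSU (k + 2) F q)} (hE : β • Xb (q := q) fr.e = Xb fr.e) {s : F}
    (hs : s ^ q + s = 0) : ∃ s' : F, s' ^ q + s' = 0 ∧ β (pr (TU q fr.e s)) = pr (TU q fr.e s') := by
  have h1 : β (pr (TU q fr.e s)) ∈ Xb (q := q) fr.e := by
    rw [← hE]
    exact Subgroup.smul_mem_pointwise_smul _ _ _
      ((mem_Xb_iff fr.e_ne_zero fr.he).mpr ⟨s, hs, rfl⟩)
  exact (mem_Xb_iff fr.e_ne_zero fr.he).mp h1

theorem Rel_total {β : MulAut (PSU (k + 2) F q)} (hQ : ∀ x ∈ fr.Qb, β x ∈ fr.Qb)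
    (w : Fin k → F) : ∃ w', fr.Rel β w w' := by
  obtain ⟨a, ha⟩ := exists_Val (q := q) w
  obtain ⟨w', a', ha', h⟩ := fr.mem_Qb_iff.mp (hQ _ (fr.mem_Qb_iff.mpr ⟨w, a, ha, rfl⟩))
  exact ⟨w', a, a', ha, ha', h⟩

theorem Rel_spec {β : MulAut (PSU (k + 2) F q)} (hE : β • Xb (q := q) fr.e = Xb fr.e)
    {w w' : Fin k → F} (h : fr.Rel β w w') {a : F} (ha : Val q w a) :
    ∃ a', Val q w' a' ∧ β (pr (fr.sgt w a)) = pr (fr.sgt w' a') := by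
  obtain ⟨a₀, a₀', h₀, h₀', he⟩ := h
  have hs := Val_diff h₀ ha
  obtain ⟨s', hs', h1⟩ := apply_TU hE hs
  refine ⟨a₀' + s', Val_add_tz h₀' hs', ?_⟩
  have h2 : fr.sgt w a = fr.sgt w a₀ * TU q fr.e (a - a₀) := by
    rw [fr.sgt_mul_TU h₀ hs]
    congr 1
    ring
  rw [h2, map_mul, map_mul, he, h1, ← map_mul, fr.sgt_mul_TU h₀' hs']

theorem Rel_unique (p : ℕ) [Fact p.Prime] [CharP F p] {β : MulAut (PSU (k + 2) F q)}
    (hE : β • Xb (q := q) fr.e = Xb fr.e) {w w₁ w₂ : Fin k → F} (h₁ : fr.Rel β w w₁)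
    (h₂ : fr.Rel β w w₂) : w₁ = w₂ := by
  obtain ⟨a, a₂, ha, ha₂, he⟩ := h₂
  obtain ⟨a₁, ha₁, he'⟩ := Rel_spec hE h₁ ha
  exact (fr.pr_sgt_inj p ha₁ ha₂ (he'.symm.trans he)).1

theorem Rel_add {β : MulAut (PSU (k + 2) F q)} {w₁ w₁' w₂ w₂' : Fin k → F}
    (h₁ : fr.Rel β w₁ w₁') (h₂ : fr.Rel β w₂ w₂') : fr.Rel β (w₁ + w₂) (w₁' + w₂') := by
  obtain ⟨a₁, a₁', ha₁, ha₁', he₁⟩ := h₁
  obtain ⟨a₂, a₂', ha₂, ha₂', he₂⟩ := h₂
  refine ⟨_, _, Val_add ha₁ ha₂, Val_add ha₁' ha₂', ?_⟩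
  rw [← fr.sgt_mul ha₁ ha₂, ← fr.sgt_mul ha₁' ha₂', map_mul, map_mul, he₁, he₂, map_mul]

theorem Rel_inv {β : MulAut (PSU (k + 2) F q)} {w w' : Fin k → F} (h : fr.Rel β w w') :
    fr.Rel β⁻¹ w' w := by
  obtain ⟨a, a', ha, ha', he⟩ := h
  refine ⟨a', a, ha', ha, ?_⟩
  rw [← he]
  exact β.symm_apply_apply _

theorem Rel_conj {β : MulAut (PSU (k + 2) F q)} {l l' : SU (k + 2) F q} (hl : l ∈ fr.Lv)
    (hl' : l' ∈ fr.Lv) (hll : β (pr l) = pr l') {w w' : Fin k → F} (h : fr.Rel β w w') :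
    fr.Rel β ((fr.lt l) ^ q • lact l w) ((fr.lt l') ^ q • lact l' w') := by
  obtain ⟨a, a', ha, ha', he⟩ := h
  refine ⟨_, _, fr.Val_conj hl ha, fr.Val_conj hl' ha', ?_⟩
  rw [← fr.conj_sgt hl ha, ← fr.conj_sgt hl' ha', map_mul, map_mul, map_inv, map_mul, map_mul,
    map_inv, he, hll, map_mul, map_mul, map_inv]

theorem Rel_comm (p : ℕ) [Fact p.Prime] [CharP F p] {β : MulAut (PSU (k + 2) F q)}
    {w₁ w₁' w₂ w₂' : Fin k → F} (h₁ : fr.Rel β w₁ w₁') (h₂ : fr.Rel β w₂ w₂') :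
    β (pr (TU q fr.e (hermForm k F q w₁ w₂ - hermForm k F q w₂ w₁))) =
      pr (TU q fr.e (hermForm k F q w₁' w₂' - hermForm k F q w₂' w₁')) := by
  obtain ⟨a₁, a₁', ha₁, ha₁', he₁⟩ := h₁
  obtain ⟨a₂, a₂', ha₂, ha₂', he₂⟩ := h₂
  obtain ⟨_, hc⟩ := fr.sgt_comm ha₁ ha₂
  obtain ⟨_, hc'⟩ := fr.sgt_comm ha₁' ha₂'
  have h1 : TU q fr.e (hermForm k F q w₁ w₂ - hermForm k F q w₂ w₁) =
      (fr.sgt w₂ a₂ * fr.sgt w₁ a₁)⁻¹ * (fr.sgt w₁ a₁ * fr.sgt w₂ a₂) := by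
    rw [hc]; group
  have h2 : TU q fr.e (hermForm k F q w₁' w₂' - hermForm k F q w₂' w₁') =
      (fr.sgt w₂' a₂' * fr.sgt w₁' a₁')⁻¹ * (fr.sgt w₁' a₁' * fr.sgt w₂' a₂') := by
    rw [hc']; group
  rw [h1, h2]
  simp only [map_mul, map_inv, he₁, he₂]

end Frame

end Cfsg.Agent.Helper8.AutSU
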