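import Mathlib
import Cfsg.Agent.Helper8.AutSUr

set_option autoImplicit false
set_option linter.unusedSectionVars false

/-! Automorphisms of `PSU_n(q)`: field-theoretic lemmas for the commutant computation (helper8). -/

namespace Cfsg.Agent.Helper8.AutSU

open Matrix Cfsg Cfsg.Agent.Helper7.Herm Cfsg.Agent.Helper8.GUOrder Cfsg.Agent.Helper8.SURoot

variable {F : Type*} [Field F] [Fintype F] {q k N : ℕ} [hF : Fact (Fintype.card F = q ^ 2)]

/-- a norm-one element whose `m`-th power is not one -/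
theorem exists_zeta_pow {m : ℕ} (hm : 0 < m) (hmq : m < q + 1) :
    ∃ u : F, u * u ^ q = 1 ∧ u ^ m ≠ 1 := by
  have hq := two_le_q hF.out
  by_contra hcon
  push Not at hcon
  have hle : (powMonoidHom (q + 1) : Fˣ →* Fˣ).ker ≤ (powMonoidHom m : Fˣ →* Fˣ).ker := by
    intro u hu
    rw [MonoidHom.mem_ker, powMonoidHom_apply] at hu ⊢
    have h1 : (u : F) * (u : F) ^ q = 1 := by
      have := congrArg Units.val hu
      rw [Units.val_pow_eq_pow_val, Units.val_one, pow_succ'] at this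
      exact this
    have h2 := hcon (u : F) h1
    apply Units.ext
    rw [Units.val_pow_eq_pow_val, Units.val_one]
    exact h2
  have h1 := Subgroup.card_le_of_le hle
  rw [IsCyclic.card_powMonoidHom_ker, IsCyclic.card_powMonoidHom_ker, card_units_K hF.out,
    qsq_sub_one hF.out, Nat.gcd_eq_right (Dvd.intro_left _ rfl)] at h1
  have h2 : Nat.gcd ((q - 1) * (q + 1)) m ≤ m := Nat.gcd_le_right _ hm
  omega

/-- a generator of the multiplicative group -/
theorem exists_gen : ∃ t : F, t ≠ 0 ∧ ∀ M : ℕ, t ^ M = 1 → (q ^ 2 - 1) ∣ M := by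
  obtain ⟨g, hg⟩ := IsCyclic.exists_generator (α := Fˣ)
  have h1 : orderOf g = q ^ 2 - 1 := by
    rw [orderOf_eq_card_of_forall_mem_zpowers hg, card_units_K hF.out]
  refine ⟨(g : F), g.ne_zero, fun M hM => ?_⟩
  rw [← h1]
  apply orderOf_dvd_of_pow_eq_one
  apply Units.ext
  rw [Units.val_pow_eq_pow_val, Units.val_one]
  exact hM

theorem gen_not_fixed {t : F} (ht0 : t ≠ 0) (ht : ∀ M : ℕ, t ^ M = 1 → (q ^ 2 - 1) ∣ M) :
    t ^ q ≠ t := by
  have hq := two_le_q hF.out
  intro h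
  have h1 : t ^ (q - 1) = 1 := by
    have h2 : t ^ (q - 1) * t = 1 * t := by
      rw [← pow_succ, Nat.sub_add_cancel (by omega), h, one_mul]
    exact mul_right_cancel₀ ht0 h2
  have h3 := ht _ h1
  rw [qsq_sub_one hF.out] at h3
  have h4 := Nat.le_of_dvd (by omega) h3
  obtain ⟨r, rfl⟩ : ∃ r, q = r + 2 := ⟨q - 2, by omega⟩
  have h5 : r + 2 - 1 = r + 1 := by omega
  rw [h5] at h4
  nlinarith

theorem gen_cube {t : F} (ht0 : t ≠ 0) (ht : ∀ M : ℕ, t ^ M = 1 → (q ^ 2 - 1) ∣ M)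
    (hq2 : q ≠ 2) : (t ^ q) ^ 3 ≠ t ^ 3 := by
  have hq := two_le_q hF.out
  intro h
  have h1 : t ^ (3 * (q - 1)) = 1 := by
    have h2 : t ^ (3 * (q - 1)) * t ^ 3 = 1 * t ^ 3 := by
      rw [← pow_add, one_mul, ← h, ← pow_mul]
      congr 1
      have : 3 * (q - 1) + 3 = 3 * q := by omega
      rw [this, mul_comm]
    exact mul_right_cancel₀ (pow_ne_zero 3 ht0) h2
  have h3 := ht _ h1
  rw [qsq_sub_one hF.out, mul_comm 3 (q - 1)] at h3
  have h4 : (q + 1) ∣ 3 := (Nat.mul_dvd_mul_iff_left (by omega)).mp h3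
  have h5 := Nat.le_of_dvd (by omega) h4
  omega

/-- a subring containing the fixed field and a non-fixed element is everything -/
theorem subring_eq_top (P : F → Prop) (hadd : ∀ c d, P c → P d → P (c + d))
    (hmul : ∀ c d, P c → P d → P (c * d)) (hfix : ∀ c : F, c ^ q = c → P c) {θ : F} (hθ : P θ)
    (hne : θ ^ q ≠ θ) (c : F) : P c := by
  have hd : θ ^ q - θ ≠ 0 := sub_ne_zero.mpr hne
  set c₂ := (c ^ q - c) / (θ ^ q - θ) with hc₂
  have h2 : c₂ ^ q = c₂ := by
    rw [hc₂, div_pow, b_sub, b_sub, bb, bb]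
    have hd' : θ - θ ^ q ≠ 0 := fun h => hd (by linear_combination -h)
    rw [div_eq_div_iff hd' hd]
    ring
  have h1 : (c - c₂ * θ) ^ q = c - c₂ * θ := by
    rw [b_sub, mul_pow, h2]
    have : c₂ * (θ ^ q - θ) = c ^ q - c := by
      rw [hc₂, div_mul_cancel₀ _ hd]
    linear_combination -this
  have : c = (c - c₂ * θ) + c₂ * θ := by ring
  rw [this]
  exact hadd _ _ (hfix _ h1) (hmul _ _ (hfix _ h2) hθ)

/-- an additive map `a` with `a (c x) = (c² / c^q) a x` vanishes -/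
theorem eq_zero_of_twisted (a : F → F) (hadd : ∀ x y, a (x + y) = a x + a y)
    (h : ∀ c : F, c ≠ 0 → ∀ x, a (c * x) = c ^ 2 / c ^ q * a x) (x : F) : a x = 0 := by
  obtain ⟨c, hc⟩ := exists_not_fixed hF.out (K := F)
  have hc0 : c ≠ 0 := by
    rintro rfl
    exact hc b_zero
  have hc1 : c + 1 ≠ 0 := by
    intro h1
    apply hc
    have : c = -1 := by linear_combination h1
    rw [this, neg_one_pow_q hF.out]
  have h1 := h (c + 1) hc1 x
  have e : (c + 1) ^ q = c ^ q + 1 := by rw [b_add (q := q), one_pow]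
  rw [add_mul, one_mul, hadd, h c hc0 x, e] at h1
  have hcq0 : c ^ q ≠ 0 := pow_ne_zero q hc0
  have hcq1 : c ^ q + 1 ≠ 0 := by
    intro h2
    apply hc1
    have h3 := congrArg (· ^ q) h2
    beta_reduce at h3
    rw [b_add (q := q), bb, one_pow, b_zero] at h3
    exact h3
  have h2 : (c ^ q - c) ^ 2 * a x = 0 := by
    field_simp at h1
    linear_combination h1
  rcases mul_eq_zero.mp h2 with h3 | h3
  · exact absurd (sub_eq_zero.mp (pow_eq_zero_iff two_ne_zero |>.mp h3)) hc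
  · exact h3

end Cfsg.Agent.Helper8.AutSU
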