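import Mathlib
import Cfsg.Agent.Helper8.AutSUs

set_option autoImplicit false
set_option linter.unusedSectionVars false

/-! Automorphisms of `PSU_n(q)`: the additive maps commuting with the action of the Levi complement
on the unipotent radical are the scalars (helper8). -/

namespace Cfsg.Agent.Helper8.AutSU

open Matrix Cfsg Cfsg.Agent.Helper7.Herm Cfsg.Agent.Helper8.GUOrder Cfsg.Agent.Helper8.SURoot

variable {F : Type*} [Field F] [Fintype F] {q k N : ℕ} [hF : Fact (Fintype.card F = q ^ 2)]

omit [Fintype F] hF in
theorem single_smul' (j : Fin k) (c x : F) :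
    c • (Pi.single j x : Fin k → F) = Pi.single j (c * x) := by
  ext m
  by_cases h : m = j
  · subst h; simp
  · simp [Pi.single_eq_of_ne h]

omit [Fintype F] hF in
theorem dgD_single (ζ : F) (i j : Fin k) (x : F) :
    dgD ζ i (Pi.single j x) = Pi.single j (if j = i then ζ * x else x) := by
  ext m
  unfold dgD
  by_cases h : m = j
  · subst h
    by_cases h' : m = i
    · simp [h']
    · simp [h']
  · rw [Pi.single_eq_of_ne h, Pi.single_eq_of_ne h, mul_zero, ite_self]

omit [Fintype F] hF in
theorem dgD_apply (ζ : F) (i : Fin k) (w : Fin k → F) (m : Fin k) :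
    dgD ζ i w m = if m = i then ζ * w m else w m := rfl

/-- **the commutant of the Levi action** -/
theorem commutant (hk : 1 ≤ k) (hkq : ¬ (k = 1 ∧ q = 2)) (A : (Fin k → F) → (Fin k → F))
    (hadd : ∀ w w', A (w + w') = A w + A w')
    (H1 : ∀ t : F, t ≠ 0 → ∀ (i : Fin k) (w : Fin k → F),
      A (t ^ q • dgD (t ^ q / t) i w) = t ^ q • dgD (t ^ q / t) i (A w))
    (H2 : ∀ x : Fin k → F, hermForm k F q x x = 0 → ∀ s : F, s ^ q + s = 0 → ∀ w,
      A (w + (s * hermForm k F q w x) • x) = A w + (s * hermForm k F q (A w) x) • x) :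
    ∃ α : F, ∀ w, A w = α • w := by
  classical
  have hq := two_le_q hF.out
  have hA0 : A 0 = 0 := by
    have := hadd 0 0
    rw [add_zero] at this
    exact left_eq_add.mp this
  set a : Fin k → Fin k → F → F := fun m j x => A (Pi.single j x) m with ha
  have ha_add : ∀ m j x y, a m j (x + y) = a m j x + a m j y := by
    intro m j x y
    simp only [ha]
    rw [Pi.single_add, hadd]
    rfl
  have ha_zero : ∀ m j, a m j 0 = 0 := by
    intro m j
    simp only [ha]
    rw [Pi.single_zero, hA0]
    rfl
  have hE : ∀ t : F, t ≠ 0 → ∀ i m j x,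
      a m j (t ^ q * (if j = i then t ^ q / t * x else x)) =
        t ^ q * (if m = i then t ^ q / t * a m j x else a m j x) := by
    intro t ht i m j x
    have := congrFun (H1 t ht i (Pi.single j x)) m
    rw [dgD_single, single_smul', Pi.smul_apply, smul_eq_mul, dgD_apply] at this
    exact this
  have hsum : ∀ w m, A w m = ∑ j, a m j (w j) := by
    intro w m
    let A' : (Fin k → F) →+ (Fin k → F) := AddMonoidHom.mk' A hadd
    have h1 : A' w = ∑ j, A' (Pi.single j (w j)) := by
      rw [← map_sum, Finset.univ_sum_single]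
    have h2 := congrFun h1 m
    rw [Finset.sum_apply] at h2
    exact h2
  -- off-diagonal entries vanish
  have hoff : ∀ m j, m ≠ j → ∀ x, a m j x = 0 := by
    intro m j hmj x
    apply eq_zero_of_twisted (q := q) (a m j) (ha_add m j)
    intro c hc y
    have hcq : c ^ q ≠ 0 := pow_ne_zero q hc
    have h1 := hE (c ^ q) hcq m m j y
    rw [if_neg (Ne.symm hmj), if_pos rfl, bb] at h1
    rw [h1]
    field_simp
  -- diagonal entries are linear
  have hdiag : ∀ j c x, a j j (c * x) = c * a j j x := by
    intro j
    by_cases h2 : 2 ≤ k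
    · obtain ⟨i, hij⟩ : ∃ i : Fin k, j ≠ i := by
        by_cases h0 : j.val = 0
        · refine ⟨⟨1, by omega⟩, ?_⟩
          intro h
          have := congrArg Fin.val h
          simp at this
          omega
        · refine ⟨⟨0, by omega⟩, ?_⟩
          intro h
          have := congrArg Fin.val h
          simp at this
          omega
      intro c x
      by_cases hc : c = 0
      · rw [hc, zero_mul, zero_mul, ha_zero]
      · have hcq : c ^ q ≠ 0 := pow_ne_zero q hc
        have h1 := hE (c ^ q) hcq i j j x
        rw [if_neg hij, if_neg hij, bb] at h1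
        exact h1
    · have hk1 : k = 1 := by omega
      have hq2 : q ≠ 2 := fun h => hkq ⟨hk1, h⟩
      obtain ⟨t, ht0, ht⟩ := exists_gen (F := F) (q := q)
      have htq0 : t ^ q ≠ 0 := pow_ne_zero q ht0
      refine subring_eq_top (q := q) (fun c => ∀ x, a j j (c * x) = c * a j j x) ?_ ?_ ?_
        (θ := t ^ q * (t ^ q / t)) ?_ ?_
      · intro c d hc hd x
        rw [add_mul, ha_add, hc, hd, add_mul]
      · intro c d hc hd x
        rw [mul_assoc, hc, hd, mul_assoc]
      · intro c hc x
        by_cases hc0 : c = 0
        · rw [hc0, zero_mul, zero_mul, ha_zero]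
        · have h1 := hE c hc0 j j j x
          rw [if_pos rfl, if_pos rfl, hc, div_self hc0, one_mul, one_mul] at h1
          exact h1
      · intro x
        have h1 := hE t ht0 j j j x
        rw [if_pos rfl, if_pos rfl] at h1
        rw [mul_assoc, mul_assoc]
        exact h1
      · intro h
        apply gen_cube ht0 ht hq2
        rw [mul_pow, div_pow, bb] at h
        field_simp at h
        exact h.symm
  -- the diagonal coefficients
  set α : Fin k → F := fun j => a j j 1 with hα
  have hAv : ∀ w m, A w m = w m * α m := by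
    intro w m
    rw [hsum, Finset.sum_eq_single m]
    · have := hdiag m (w m) 1
      rw [mul_one] at this
      exact this
    · intro j _ hj
      exact hoff m j (Ne.symm hj) _
    · intro h
      exact absurd (Finset.mem_univ m) h
  have hαeq : ∀ i j, i ≠ j → α j = α i := by
    intro i j hij
    obtain ⟨η, hη0, hη⟩ := exists_eta (F := F) (q := q)
    obtain ⟨s, hs0, hs⟩ := exists_tz_ne_zero (F := F) (q := q)
    have hx := iso_pair hij hη
    have h1 := congrFun (H2 _ hx s hs (Pi.single i 1)) j
    have hAi : A (Pi.single i 1) = α i • (Pi.single i (1 : F) : Fin k → F) := by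
      ext m
      rw [hAv, Pi.smul_apply, smul_eq_mul]
      by_cases hm : m = i
      · rw [hm, mul_comm]
      · rw [Pi.single_eq_of_ne hm, zero_mul, mul_zero]
    rw [hAi, hermForm_smul_left, h_add_right, hermForm_smul_right, h_single_single,
      h_single_ne hij, mul_zero, add_zero, mul_one, hAv] at h1
    simp only [Pi.add_apply, Pi.smul_apply, Pi.single_eq_of_ne (Ne.symm hij), Pi.single_eq_same,
      smul_eq_mul, mul_zero, zero_add, mul_one] at h1
    have h2 : s * η * (α j - α i) = 0 := by linear_combination h1
    have h3 := (mul_eq_zero.mp h2).resolve_left (mul_ne_zero hs0 hη0)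
    exact sub_eq_zero.mp h3
  refine ⟨α ⟨0, hk⟩, fun w => ?_⟩
  ext m
  rw [hAv, Pi.smul_apply, smul_eq_mul, mul_comm]
  by_cases hm : (⟨0, hk⟩ : Fin k) = m
  · rw [hm]
  · rw [hαeq _ _ hm]

end Cfsg.Agent.Helper8.AutSU
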