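import Mathlib
import Cfsg.Agent.Helper8.AutSUt

set_option autoImplicit false
set_option linter.unusedSectionVars false

/-! Automorphisms of `PSU_n(q)`: the map induced on the unipotent radical modulo its centre is
semilinear (helper8). -/

namespace Cfsg.Agent.Helper8.AutSU

open Matrix Cfsg Cfsg.Agent.Helper7.Herm Cfsg.Agent.Helper8.GUOrder Cfsg.Agent.Helper8.SURoot
open Cfsg.Agent.Helper8.AutSLn (aut_mul_conj')
open scoped Pointwise

variable {F : Type*} [Field F] [Fintype F] {q k N : ℕ} [hF : Fact (Fintype.card F = q ^ 2)]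

namespace Frame

variable (fr : Frame F q k)

/-- the map induced by an automorphism on the parameters `w` -/
noncomputable def phi (β : MulAut (PSU (k + 2) F q)) (w : Fin k → F) : Fin k → F :=
  haveI := Classical.propDecidable (∃ w', fr.Rel β w w')
  if h : ∃ w', fr.Rel β w w' then Classical.choose h else 0

variable {fr}

theorem phi_spec {β : MulAut (PSU (k + 2) F q)} (hQ : ∀ x ∈ fr.Qb, β x ∈ fr.Qb) (w : Fin k → F) :
    fr.Rel β w (fr.phi β w) := by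
  unfold phi
  rw [dif_pos (Rel_total hQ w)]
  exact Classical.choose_spec (Rel_total hQ w)

theorem phi_eq (p : ℕ) [Fact p.Prime] [CharP F p] {β : MulAut (PSU (k + 2) F q)}
    (hE : β • Xb (q := q) fr.e = Xb fr.e) (hQ : ∀ x ∈ fr.Qb, β x ∈ fr.Qb) {w w' : Fin k → F}
    (h : fr.Rel β w w') : fr.phi β w = w' :=
  Rel_unique p hE (phi_spec hQ w) h

theorem smul_inv_Xb {β : MulAut (PSU (k + 2) F q)} {v : Fin (k + 2) → F}
    (hE : β • Xb (q := q) v = Xb v) : β⁻¹ • Xb (q := q) v = Xb v := by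
  conv_lhs => rw [← hE]
  rw [inv_smul_smul]

theorem phi_add (p : ℕ) [Fact p.Prime] [CharP F p] {β : MulAut (PSU (k + 2) F q)}
    (hE : β • Xb (q := q) fr.e = Xb fr.e) (hQ : ∀ x ∈ fr.Qb, β x ∈ fr.Qb) (w w' : Fin k → F) :
    fr.phi β (w + w') = fr.phi β w + fr.phi β w' :=
  phi_eq p hE hQ (Rel_add (phi_spec hQ w) (phi_spec hQ w'))

theorem phi_inv_phi (p : ℕ) [Fact p.Prime] [CharP F p] {β : MulAut (PSU (k + 2) F q)}
    (hE : β • Xb (q := q) fr.e = Xb fr.e) (hQ : ∀ x ∈ fr.Qb, β x ∈ fr.Qb)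
    (hQ' : ∀ x ∈ fr.Qb, β⁻¹ x ∈ fr.Qb) (w : Fin k → F) : fr.phi β⁻¹ (fr.phi β w) = w :=
  phi_eq p (smul_inv_Xb hE) hQ' (Rel_inv (phi_spec hQ w))

theorem phi_phi_inv (p : ℕ) [Fact p.Prime] [CharP F p] {β : MulAut (PSU (k + 2) F q)}
    (hE : β • Xb (q := q) fr.e = Xb fr.e) (hQ : ∀ x ∈ fr.Qb, β x ∈ fr.Qb)
    (hQ' : ∀ x ∈ fr.Qb, β⁻¹ x ∈ fr.Qb) (w : Fin k → F) : fr.phi β (fr.phi β⁻¹ w) = w := by
  have h := Rel_inv (phi_spec hQ' w)
  rw [inv_inv] at h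
  exact phi_eq p hE hQ h

/-- an automorphism fixing the root groups of `e` and `f` normalises the image of the Levi
complement -/
theorem map_Lb (p : ℕ) [Fact p.Prime] [CharP F p] {β : MulAut (PSU (k + 2) F q)}
    (hE : β • Xb (q := q) fr.e = Xb fr.e) (hEf : β • Xb (q := q) fr.f = Xb fr.f)
    {x : PSU (k + 2) F q} (hx : x ∈ fr.Lb) : β x ∈ fr.Lb := by
  rw [fr.mem_Lb_iff_normalizes p] at hx ⊢
  have key : ∀ v : Fin (k + 2) → F, β • Xb (q := q) v = Xb v →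
      MulAut.conj x • Xb (q := q) v = Xb v → MulAut.conj (β x) • Xb (q := q) v = Xb v := by
    intro v h1 h2
    have h3 : MulAut.conj (β x) = β * MulAut.conj x * β⁻¹ := by
      rw [aut_mul_conj', mul_assoc, mul_inv_cancel, mul_one]
    rw [h3, mul_smul, mul_smul, smul_inv_Xb h1, h2, h1]
  exact ⟨key _ hE hx.1, key _ hEf hx.2⟩

theorem exists_Lv_lift (p : ℕ) [Fact p.Prime] [CharP F p] {β : MulAut (PSU (k + 2) F q)}
    (hE : β • Xb (q := q) fr.e = Xb fr.e) (hEf : β • Xb (q := q) fr.f = Xb fr.f)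
    {l' : SU (k + 2) F q} (hl' : l' ∈ fr.Lv) : ∃ l ∈ fr.Lv, β (pr l) = pr l' := by
  have h1 : β⁻¹ (pr l') ∈ fr.Lb :=
    map_Lb p (smul_inv_Xb hE) (smul_inv_Xb hEf) (fr.mem_Lb_iff.mpr hl')
  obtain ⟨l, hl, h2⟩ := h1
  refine ⟨l, hl, ?_⟩
  rw [h2]
  exact β.apply_symm_apply _

/-- the twisted action of the Levi complement -/
def Lam (l : SU (k + 2) F q) (w : Fin k → F) : Fin k → F := (fr.lt l) ^ q • lact l w

theorem Lam_smul (l : SU (k + 2) F q) (c : F) (w : Fin k → F) :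
    fr.Lam l (c • w) = c • fr.Lam l w := by
  unfold Lam
  rw [lact_smul, smul_comm]

theorem phi_Lam (p : ℕ) [Fact p.Prime] [CharP F p] {β : MulAut (PSU (k + 2) F q)}
    (hE : β • Xb (q := q) fr.e = Xb fr.e) (hQ : ∀ x ∈ fr.Qb, β x ∈ fr.Qb)
    {l l' : SU (k + 2) F q} (hl : l ∈ fr.Lv) (hl' : l' ∈ fr.Lv) (hll : β (pr l) = pr l')
    (w : Fin k → F) : fr.phi β (fr.Lam l w) = fr.Lam l' (fr.phi β w) :=
  phi_eq p hE hQ (Rel_conj hl hl' hll (phi_spec hQ w))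

end Frame

end Cfsg.Agent.Helper8.AutSU
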