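import Mathlib
import Cfsg.Agent.Helper8.AutSUu

set_option autoImplicit false
set_option linter.unusedSectionVars false

/-! Automorphisms of `PSU_n(q)`: semilinearity of the induced map and scaling of the form
(helper8). -/

namespace Cfsg.Agent.Helper8.AutSU

open Matrix Cfsg Cfsg.Agent.Helper7.Herm Cfsg.Agent.Helper8.GUOrder Cfsg.Agent.Helper8.SURoot
open scoped Pointwise

variable {F : Type*} [Field F] [Fintype F] {q k N : ℕ} [hF : Fact (Fintype.card F = q ^ 2)]

theorem tz_im (z : F) : (z - z ^ q) ^ q + (z - z ^ q) = 0 := by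
  rw [b_sub, bb]
  ring

theorem im_eq_zero_forall {d : F} (σ : F ≃+* F) (h : ∀ c : F, σ c * d - (σ c * d) ^ q = 0) :
    d = 0 := by
  by_contra hd
  obtain ⟨θ, hθ⟩ := exists_not_fixed hF.out (K := F)
  have h1 := h (σ.symm (θ * d⁻¹))
  rw [σ.apply_symm_apply, mul_assoc, inv_mul_cancel₀ hd, mul_one] at h1
  exact hθ (sub_eq_zero.mp h1).symm

namespace Frame

variable (fr : Frame F q k)

/-- the automorphism fixes the root groups of `e` and `f` -/
structure Fixes (β : MulAut (PSU (k + 2) F q)) : Prop where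
  hE : β • Xb (q := q) fr.e = Xb fr.e
  hEf : β • Xb (q := q) fr.f = Xb fr.f

variable {fr}

theorem Fixes.inv {β : MulAut (PSU (k + 2) F q)} (h : fr.Fixes β) : fr.Fixes β⁻¹ :=
  ⟨smul_inv_Xb h.hE, smul_inv_Xb h.hEf⟩

theorem Fixes.mul {β β' : MulAut (PSU (k + 2) F q)} (h : fr.Fixes β) (h' : fr.Fixes β') :
    fr.Fixes (β * β') :=
  ⟨by rw [mul_smul, h'.hE, h.hE], by rw [mul_smul, h'.hEf, h.hEf]⟩

theorem Fixes.hQ (p : ℕ) [Fact p.Prime] [CharP F p] (hk : 1 ≤ k) {β : MulAut (PSU (k + 2) F q)}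
    (h : fr.Fixes β) : ∀ x ∈ fr.Qb, β x ∈ fr.Qb := fun _ hx => fr.map_Qb_le p hk β h.hE hx

theorem TU_e_inj (p : ℕ) [Fact p.Prime] [CharP F p] {s₁ s₂ : F} (hs₁ : s₁ ^ q + s₁ = 0)
    (hs₂ : s₂ ^ q + s₂ = 0) (h : pr (TU q fr.e s₁) = pr (TU q fr.e s₂)) : s₁ = s₂ := by
  rw [← fr.sgt_zero_left hs₁, ← fr.sgt_zero_left hs₂] at h
  exact (fr.pr_sgt_inj p (Val_zero_iff.mpr hs₁) (Val_zero_iff.mpr hs₂) h).2

theorem phi_zero (p : ℕ) [Fact p.Prime] [CharP F p] (hk : 1 ≤ k) {β : MulAut (PSU (k + 2) F q)}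
    (hβ : fr.Fixes β) : fr.phi β 0 = 0 := by
  have := phi_add p hβ.hE (hβ.hQ p hk) 0 0
  rw [add_zero] at this
  exact left_eq_add.mp this

/-- the induced map is semilinear -/
theorem exists_sigma (p : ℕ) [Fact p.Prime] [CharP F p] (hk : 1 ≤ k) (hkq : ¬ (k = 1 ∧ q = 2))
    {β : MulAut (PSU (k + 2) F q)} (hβ : fr.Fixes β) :
    ∃ σ : F ≃+* F, ∀ (c : F) (w : Fin k → F), fr.phi β (c • w) = σ c • fr.phi β w := by
  classical
  have hQ := hβ.hQ p hk
  have hQ' := hβ.inv.hQ p hk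
  have hφψ := phi_phi_inv p hβ.hE hQ hQ'
  have hψφ := phi_inv_phi p hβ.hE hQ hQ'
  have hφadd := phi_add p hβ.hE hQ
  have hψadd := phi_add p hβ.inv.hE hQ'
  have hcomm : ∀ c : F, ∃ α : F, ∀ w, fr.phi β (c • fr.phi β⁻¹ w) = α • w := by
    intro c
    have key : ∀ l' ∈ fr.Lv, ∀ w, fr.phi β (c • fr.phi β⁻¹ (fr.Lam l' w)) =
        fr.Lam l' (fr.phi β (c • fr.phi β⁻¹ w)) := by
      intro l' hl' w
      obtain ⟨l, hl, hll⟩ := exists_Lv_lift p hβ.hE hβ.hEf hl'
      have h1 : fr.phi β⁻¹ (fr.Lam l' w) = fr.Lam l (fr.phi β⁻¹ w) := by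
        have h2 := phi_Lam p hβ.hE hQ hl hl' hll (fr.phi β⁻¹ w)
        rw [hφψ] at h2
        rw [← h2, hψφ]
      rw [h1, ← Lam_smul, phi_Lam p hβ.hE hQ hl hl' hll]
    apply commutant hk hkq (fun w => fr.phi β (c • fr.phi β⁻¹ w))
    · intro w w'
      beta_reduce
      rw [hψadd, smul_add, hφadd]
    · intro t ht i w
      have h1 := key _ (fr.dg_mem_Lv ht i) w
      unfold Lam at h1
      rw [fr.lt_dg, fr.lact_dg, fr.lact_dg] at h1
      exact h1
    · intro x hx s hs w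
      have h1 := key _ (fr.TU_iw_mem_Lv hx hs) w
      unfold Lam at h1
      rw [fr.lt_TU_iw hx hs, one_pow, one_smul, one_smul, Frame.lact_TU_iw hx hs,
        Frame.lact_TU_iw hx hs] at h1
      exact h1
  choose σf hσf using hcomm
  have hσ : ∀ (c : F) (w : Fin k → F), fr.phi β (c • w) = σf c • fr.phi β w := by
    intro c w
    have := hσf c (fr.phi β w)
    rw [hψφ] at this
    exact this
  set w₁ : Fin k → F := Pi.single ⟨0, hk⟩ 1 with hw₁
  have hw₁0 : fr.phi β w₁ ≠ 0 := by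
    intro h
    have h1 := hψφ w₁
    rw [h, phi_zero p hk hβ.inv] at h1
    have h2 := congrFun h1 ⟨0, hk⟩
    rw [hw₁, Pi.single_eq_same, Pi.zero_apply] at h2
    exact zero_ne_one h2
  have hcancel : ∀ a b : F, a • fr.phi β w₁ = b • fr.phi β w₁ → a = b := by
    intro a b h
    have h1 : (a - b) • fr.phi β w₁ = 0 := by rw [sub_smul, h, sub_self]
    rcases smul_eq_zero.mp h1 with h2 | h2
    · exact sub_eq_zero.mp h2
    · exact absurd h2 hw₁0
  let σr : F →+* F :=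
    { toFun := σf
      map_one' := by
        apply hcancel
        rw [← hσ, one_smul, one_smul]
      map_mul' := by
        intro c d
        apply hcancel
        rw [← hσ, mul_smul, hσ, hσ, smul_smul]
      map_zero' := by
        apply hcancel
        rw [← hσ, zero_smul, zero_smul, phi_zero p hk hβ]
      map_add' := by
        intro c d
        apply hcancel
        rw [← hσ, add_smul, hφadd, hσ, hσ, add_smul] }
  have hbij : Function.Bijective σr :=
    ⟨σr.injective, Finite.injective_iff_surjective.mp σr.injective⟩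
  exact ⟨RingEquiv.ofBijective σr hbij, fun c w => hσ c w⟩

end Frame

end Cfsg.Agent.Helper8.AutSU
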