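import Mathlib
import Cfsg.Agent.Helper8.AutSUv

set_option autoImplicit false
set_option linter.unusedSectionVars false

/-! Automorphisms of `PSU_n(q)`: the induced semilinear map scales the form (helper8). -/

namespace Cfsg.Agent.Helper8.AutSU

open Matrix Cfsg Cfsg.Agent.Helper7.Herm Cfsg.Agent.Helper8.GUOrder Cfsg.Agent.Helper8.SURoot
open scoped Pointwise

variable {F : Type*} [Field F] [Fintype F] {q k N : ℕ} [hF : Fact (Fintype.card F = q ^ 2)]

namespace Frame

variable {fr : Frame F q k}

/-- the induced semilinear map scales the form -/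
theorem exists_lambda (p : ℕ) [Fact p.Prime] [CharP F p] (hk : 1 ≤ k)
    {β : MulAut (PSU (k + 2) F q)} (hβ : fr.Fixes β) (σ : F ≃+* F)
    (hσ : ∀ (c : F) (w : Fin k → F), fr.phi β (c • w) = σ c • fr.phi β w) :
    ∃ lam : F, lam ≠ 0 ∧ lam ^ q = lam ∧ ∀ w w' : Fin k → F,
      hermForm k F q (fr.phi β w) (fr.phi β w') = lam * σ (hermForm k F q w w') := by
  have hQ := hβ.hQ p hk
  have hQ' := hβ.inv.hQ p hk
  set δ : Fin k → F := Pi.single ⟨0, hk⟩ 1 with hδ
  set lam := hermForm k F q (fr.phi β δ) (fr.phi β δ) with hlam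
  have key : ∀ w w' : Fin k → F,
      hermForm k F q (fr.phi β w) (fr.phi β w') = lam * σ (hermForm k F q w w') := by
    intro w w'
    set x := hermForm k F q w w' with hx
    set y := hermForm k F q (fr.phi β w) (fr.phi β w') with hy
    have h1 : ∀ c : F, σ c * (y - lam * σ x) - (σ c * (y - lam * σ x)) ^ q = 0 := by
      intro c
      have hA := Rel_comm p (phi_spec hQ (c • w)) (phi_spec hQ w')
      have hB := Rel_comm p (phi_spec hQ ((c * x) • δ)) (phi_spec hQ δ)
      have e1 : hermForm k F q (c • w) w' - hermForm k F q w' (c • w) = c * x - (c * x) ^ q := by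
        rw [hermForm_smul_left, h_swap w' (c • w), hermForm_smul_left]
      have e2 : hermForm k F q ((c * x) • δ) δ - hermForm k F q δ ((c * x) • δ) =
          c * x - (c * x) ^ q := by
        rw [hermForm_smul_left, h_swap δ ((c * x) • δ), hermForm_smul_left, hδ, h_single_single,
          mul_one]
      have e3 : hermForm k F q (fr.phi β (c • w)) (fr.phi β w') -
          hermForm k F q (fr.phi β w') (fr.phi β (c • w)) = σ c * y - (σ c * y) ^ q := by
        rw [hσ, hermForm_smul_left, h_swap (fr.phi β w') (σ c • fr.phi β w), hermForm_smul_left]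
      have e4 : hermForm k F q (fr.phi β ((c * x) • δ)) (fr.phi β δ) -
          hermForm k F q (fr.phi β δ) (fr.phi β ((c * x) • δ)) =
          σ (c * x) * lam - (σ (c * x) * lam) ^ q := by
        rw [hσ, hermForm_smul_left, h_swap (fr.phi β δ) (σ (c * x) • fr.phi β δ),
          hermForm_smul_left]
      rw [e1, e3] at hA
      rw [e2, e4] at hB
      have h2 := TU_e_inj p (tz_im _) (tz_im _) (hA.symm.trans hB)
      rw [map_mul] at h2
      rw [mul_sub, b_sub]
      linear_combination h2
    have h2 := im_eq_zero_forall σ h1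
    exact sub_eq_zero.mp h2
  refine ⟨lam, ?_, h_self_fixed _, key⟩
  intro h0
  have h1 : ∀ w, hermForm k F q (fr.phi β δ) w = 0 := by
    intro w
    have := key δ (fr.phi β⁻¹ w)
    rw [phi_phi_inv p hβ.hE hQ hQ', h0, zero_mul] at this
    exact this
  have h2 := eq_zero_of_h_right (q := q) h1
  have h3 := phi_inv_phi p hβ.hE hQ hQ' δ
  rw [h2, phi_zero p hk hβ.inv] at h3
  have h4 := congrFun h3 ⟨0, hk⟩
  rw [hδ, Pi.single_eq_same, Pi.zero_apply] at h4
  exact zero_ne_one h4

end Frame

end Cfsg.Agent.Helper8.AutSU
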