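import Mathlib
import Cfsg.Agent.Helper8.AutSUw

set_option autoImplicit false
set_option linter.unusedSectionVars false

/-! Automorphisms of `PSU_n(q)`: the unitary semilinear map extending a semilinear similitude of the
middle part of the frame (helper8). -/

namespace Cfsg.Agent.Helper8.AutSU

open Matrix Cfsg Cfsg.Agent.Helper7.Herm Cfsg.Agent.Helper8.GUOrder Cfsg.Agent.Helper8.SURoot
open scoped Pointwise

variable {F : Type*} [Field F] [Fintype F] {q k N : ℕ} [hF : Fact (Fintype.card F = q ^ 2)]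

/-- a matrix preserving the form is unitary -/
theorem unitary_of_form (M : Matrix (Fin N) (Fin N) F)
    (hM : ∀ u v, hermForm N F q (M *ᵥ u) (M *ᵥ v) = hermForm N F q u v) :
    Mᵀ * M.map (· ^ q) = 1 := by
  have hq := two_le_q hF.out
  ext i j
  have h := hM (Pi.single i 1) (Pi.single j 1)
  rw [hermForm_mulVec_mulVec hF.out, hermForm_eq_dot] at h
  have e1 : (fun k => (Pi.single j (1 : F) : Fin N → F) k ^ q) = Pi.single j 1 := by
    ext k
    by_cases hk : k = j
    · subst hk; simp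
    · simp [Pi.single_eq_of_ne hk, zero_pow (show q ≠ 0 by omega)]
  rw [e1, mulVec_single_one, single_dotProduct, single_dotProduct, one_mul, one_mul] at h
  rw [Matrix.one_apply]
  rw [Matrix.col_apply] at h
  rw [h, Pi.single_apply]

/-- an element of `GU` from a form-preserving matrix -/
def mkGU (M : Matrix (Fin N) (Fin N) F)
    (hM : ∀ u v, hermForm N F q (M *ᵥ u) (M *ᵥ v) = hermForm N F q u v) : GU N F q :=
  (guEquiv hF.out).symm ⟨M, unitary_of_form M hM⟩

theorem mg_mkGU (M : Matrix (Fin N) (Fin N) F)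
    (hM : ∀ u v, hermForm N F q (M *ᵥ u) (M *ᵥ v) = hermForm N F q u v) :
    mg (mkGU M hM) = M := rfl

namespace Frame

variable (fr : Frame F q k)

/-- the form in frame coordinates -/
theorem h_dec (u v : Fin (k + 2) → F) :
    hermForm (k + 2) F q u v = hermForm (k + 2) F q u fr.f * (hermForm (k + 2) F q v fr.e) ^ q +
      hermForm (k + 2) F q u fr.e * (hermForm (k + 2) F q v fr.f) ^ q +
      hermForm k F q (wp u) (wp v) := by
  have key : ∀ (α β α' β' : F) (x x' : Fin k → F),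
      hermForm (k + 2) F q (α • fr.e + β • fr.f + iw x) (α' • fr.e + β' • fr.f + iw x') =
        α * β' ^ q + β * α' ^ q + hermForm k F q x x' := by
    intro α β α' β' x x'
    simp only [hermForm_add_left, h_add_right, hermForm_smul_left, hermForm_smul_right, fr.he,
      fr.hf, fr.hef, fr.hfe, fr.hwe, fr.hwf, fr.hew, fr.hfw, h_iw]
    ring
  conv_lhs => rw [fr.dec u, fr.dec v]
  exact key _ _ _ _ _ _

/-- the semilinear map extending `φ` -/
def Sf (lam : F) (σ : F ≃+* F) (φ : (Fin k → F) → (Fin k → F)) (v : Fin (k + 2) → F) :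
    Fin (k + 2) → F :=
  (lam * σ (hermForm (k + 2) F q v fr.f)) • fr.e + σ (hermForm (k + 2) F q v fr.e) • fr.f +
    iw (φ (wp v))

variable {lam : F} {σ : F ≃+* F} {φ : (Fin k → F) → (Fin k → F)}

theorem Sf_add (hφa : ∀ w w', φ (w + w') = φ w + φ w') (u v : Fin (k + 2) → F) :
    fr.Sf lam σ φ (u + v) = fr.Sf lam σ φ u + fr.Sf lam σ φ v := by
  unfold Sf
  rw [hermForm_add_left, hermForm_add_left, map_add, map_add, wp_add, hφa, iw_add]
  module

theorem Sf_smul (hφs : ∀ (c : F) w, φ (c • w) = σ c • φ w) (c : F) (v : Fin (k + 2) → F) :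
    fr.Sf lam σ φ (c • v) = σ c • fr.Sf lam σ φ v := by
  unfold Sf
  rw [hermForm_smul_left, hermForm_smul_left, map_mul, map_mul, wp_smul, hφs, iw_smul]
  module

theorem Sf_e (hφ0 : φ 0 = 0) : fr.Sf lam σ φ fr.e = lam • fr.e := by
  unfold Sf
  rw [fr.hef, fr.he, fr.wpe, hφ0, iw_zero, map_one, map_zero, zero_smul, mul_one, add_zero, add_zero]

theorem Sf_f (hφ0 : φ 0 = 0) : fr.Sf lam σ φ fr.f = fr.f := by
  unfold Sf
  rw [fr.hf, fr.hfe, fr.wpf, hφ0, iw_zero, map_one, map_zero, mul_zero, zero_smul, one_smul,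
    add_zero, zero_add]

theorem Sf_iw (w : Fin k → F) : fr.Sf lam σ φ (iw w) = iw (φ w) := by
  unfold Sf
  rw [fr.hwf, fr.hwe, wp_iw, map_zero, mul_zero, zero_smul, zero_smul, zero_add, zero_add]

theorem Sf_form (hlam : lam ^ q = lam)
    (hφh : ∀ w w', hermForm k F q (φ w) (φ w') = lam * σ (hermForm k F q w w'))
    (u v : Fin (k + 2) → F) :
    hermForm (k + 2) F q (fr.Sf lam σ φ u) (fr.Sf lam σ φ v) = lam * σ (hermForm (k + 2) F q u v) := by
  rw [fr.h_dec u v]
  unfold Sf
  simp only [hermForm_add_left, h_add_right, hermForm_smul_left, hermForm_smul_right, fr.he,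
    fr.hf, fr.hef, fr.hfe, fr.hwe, fr.hwf, fr.hew, fr.hfw, h_iw, hφh, map_add, map_mul, map_pow,
    mul_pow, hlam]
  ring

/-- the matrix of the linear part of `Sf` -/
def SM (lam : F) (σ : F ≃+* F) (φ : (Fin k → F) → (Fin k → F)) :
    Matrix (Fin (k + 2)) (Fin (k + 2)) F :=
  Matrix.of fun i j => fr.Sf lam σ φ (Pi.single j 1) i

theorem SM_mulVec (hφa : ∀ w w', φ (w + w') = φ w + φ w')
    (hφs : ∀ (c : F) w, φ (c • w) = σ c • φ w) (v : Fin (k + 2) → F) :
    fr.SM lam σ φ *ᵥ sv σ v = fr.Sf lam σ φ v := by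
  let S' : (Fin (k + 2) → F) →+ (Fin (k + 2) → F) :=
    AddMonoidHom.mk' (fr.Sf lam σ φ) (fr.Sf_add hφa)
  have h1 : S' v = ∑ j, S' (v j • Pi.single j 1) := by
    rw [← map_sum]
    congr 1
    exact pi_eq_sum_single v
  have h2 : fr.Sf lam σ φ v = ∑ j, σ (v j) • fr.Sf lam σ φ (Pi.single j 1) := by
    have : ∀ j, S' (v j • Pi.single j 1) = σ (v j) • fr.Sf lam σ φ (Pi.single j 1) :=
      fun j => fr.Sf_smul hφs (v j) _
    simp only [this] at h1
    exact h1
  rw [h2]
  ext i
  rw [Finset.sum_apply]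
  unfold SM mulVec dotProduct
  apply Finset.sum_congr rfl
  intro j _
  show fr.Sf lam σ φ (Pi.single j 1) i * sv σ v j = _
  rw [Pi.smul_apply, smul_eq_mul, sv_apply, mul_comm]

end Frame

end Cfsg.Agent.Helper8.AutSU
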