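import Mathlib
import Cfsg.Agent.Helper8.AutSUx

set_option autoImplicit false
set_option linter.unusedSectionVars false

/-! Automorphisms of `PSU_n(q)`: the standard automorphism attached to a semilinear similitude of
the middle part of the frame, and its effect on the unipotent radical (helper8). -/

namespace Cfsg.Agent.Helper8.AutSU

open Matrix Cfsg Cfsg.Agent.Helper7.Herm Cfsg.Agent.Helper8.GUOrder Cfsg.Agent.Helper8.SURoot
open scoped Pointwise

variable {F : Type*} [Field F] [Fintype F] {q k N : ℕ} [hF : Fact (Fintype.card F = q ^ 2)]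

omit [Fintype F] hF in
theorem smul_cancel' {c : F} (hc : c ≠ 0) {u v : Fin N → F} (h : c • u = c • v) : u = v := by
  have := congrArg (fun x => c⁻¹ • x) h
  beta_reduce at this
  rw [smul_smul, smul_smul, inv_mul_cancel₀ hc, one_smul, one_smul] at this
  exact this

namespace Frame

variable (fr : Frame F q k)

variable {lam : F} {σ : F ≃+* F} {φ : (Fin k → F) → (Fin k → F)}

theorem exists_unitary_semilinear (hlam0 : lam ≠ 0) (hlam : lam ^ q = lam)
    (hφa : ∀ w w', φ (w + w') = φ w + φ w') (hφs : ∀ (c : F) w, φ (c • w) = σ c • φ w)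
    (hφh : ∀ w w', hermForm k F q (φ w) (φ w') = lam * σ (hermForm k F q w w')) :
    ∃ (g : GU (k + 2) F q) (μ : F), μ ≠ 0 ∧ ∀ v, sm g σ v = μ • fr.Sf lam σ φ v := by
  obtain ⟨μ, hμ⟩ := exists_norm hF.out (c := lam⁻¹) (inv_ne_zero hlam0) (by rw [inv_pow, hlam])
  have hμ0 : μ ≠ 0 := by
    rintro rfl
    rw [zero_mul] at hμ
    exact inv_ne_zero hlam0 hμ.symm
  have hmv : ∀ v, (μ • fr.SM lam σ φ) *ᵥ sv σ v = μ • fr.Sf lam σ φ v := by
    intro v
    rw [smul_mulVec, fr.SM_mulVec hφa hφs]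
  have hM : ∀ u v, hermForm (k + 2) F q ((μ • fr.SM lam σ φ) *ᵥ u) ((μ • fr.SM lam σ φ) *ᵥ v) =
      hermForm (k + 2) F q u v := by
    have key : ∀ u₀ v₀ : Fin (k + 2) → F,
        hermForm (k + 2) F q ((μ • fr.SM lam σ φ) *ᵥ sv σ u₀) ((μ • fr.SM lam σ φ) *ᵥ sv σ v₀) =
          hermForm (k + 2) F q (sv σ u₀) (sv σ v₀) := by
      intro u₀ v₀
      rw [hmv, hmv, hermForm_smul_left, hermForm_smul_right, fr.Sf_form hlam hφh, h_sv]
      have : μ * (μ ^ q * (lam * σ (hermForm (k + 2) F q u₀ v₀))) =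
          (μ * μ ^ q) * lam * σ (hermForm (k + 2) F q u₀ v₀) := by ring
      rw [this, hμ, inv_mul_cancel₀ hlam0, one_mul]
    intro u v
    have := key (sv σ.symm u) (sv σ.symm v)
    rw [sv_sv_symm, sv_sv_symm] at this
    exact this
  refine ⟨mkGU _ hM, μ, hμ0, fun v => ?_⟩
  unfold sm
  rw [mg_mkGU, hmv]

theorem Val_map (hlam : lam ^ q = lam)
    (hφh : ∀ w w', hermForm k F q (φ w) (φ w') = lam * σ (hermForm k F q w w'))
    {w : Fin k → F} {a : F} (h : Val q w a) : Val q (φ w) (lam * σ a) := by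
  unfold Val at h ⊢
  rw [hφh, mul_pow, hlam, ← map_pow, ← mul_add, ← mul_add, ← map_add, ← map_add, h, map_zero,
    mul_zero]

theorem sa_sgt {g : GU (k + 2) F q} {μ : F} (hμ0 : μ ≠ 0)
    (hsm : ∀ v, sm g σ v = μ • fr.Sf lam σ φ v) (hlam0 : lam ≠ 0) (hlam : lam ^ q = lam)
    (hφa : ∀ w w', φ (w + w') = φ w + φ w') (hφs : ∀ (c : F) w, φ (c • w) = σ c • φ w)
    (hφh : ∀ w w', hermForm k F q (φ w) (φ w') = lam * σ (hermForm k F q w w'))
    (hφsurj : Function.Surjective φ) {w : Fin k → F} {a : F} (h : Val q w a) :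
    sa g σ (fr.sgt w a) = fr.sgt (φ w) (lam * σ a) := by
  have hφ0 : φ 0 = 0 := by
    have := hφa 0 0
    rw [add_zero] at this
    exact left_eq_add.mp this
  have h' := Frame.Val_map hlam hφh h
  rw [fr.sgt_eq h', fr.sgt_eq h]
  apply fr.ext_su
  · -- on `e`
    have h1 := sa_mulVec g σ (fr.sg h) fr.e
    rw [fr.sg_e, hsm, fr.Sf_e hφ0, mulVec_smul, mulVec_smul] at h1
    rw [fr.sg_e]
    exact smul_cancel' hlam0 (smul_cancel' hμ0 h1)
  · -- on `f`
    have h1 := sa_mulVec g σ (fr.sg h) fr.f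
    rw [fr.sg_f h, hsm, hsm, fr.Sf_f hφ0, fr.Sf_add hφa, fr.Sf_add hφa, fr.Sf_smul hφs, fr.Sf_f hφ0,
      fr.Sf_iw, fr.Sf_e hφ0, mulVec_smul] at h1
    rw [fr.sg_f, smul_cancel' hμ0 h1, smul_smul, mul_comm]
  · -- on the middle part
    intro x'
    obtain ⟨x, rfl⟩ := hφsurj x'
    have h1 := sa_mulVec g σ (fr.sg h) (iw x)
    rw [fr.sg_iw, hsm, hsm, fr.Sf_iw, sub_eq_add_neg, ← neg_smul,
      fr.Sf_add hφa, fr.Sf_smul hφs, fr.Sf_iw, fr.Sf_e hφ0, mulVec_smul] at h1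
    rw [fr.sg_iw, smul_cancel' hμ0 h1, hφh, smul_smul, map_neg, sub_eq_add_neg, ← neg_smul]
    congr 2
    ring

theorem psa_fixes {g : GU (k + 2) F q} {μ : F} (hμ0 : μ ≠ 0)
    (hsm : ∀ v, sm g σ v = μ • fr.Sf lam σ φ v) (hlam0 : lam ≠ 0) (hφ0 : φ 0 = 0) :
    fr.Fixes (psa g σ) := by
  constructor
  · rw [psa_smul_Xb g σ fr.e_ne_zero fr.he, hsm, fr.Sf_e hφ0, smul_smul,
      Xb_smul fr.e_ne_zero fr.he (mul_ne_zero hμ0 hlam0)]
  · rw [psa_smul_Xb g σ fr.f_ne_zero fr.hf, hsm, fr.Sf_f hφ0, Xb_smul fr.f_ne_zero fr.hf hμ0]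

end Frame

end Cfsg.Agent.Helper8.AutSU
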