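import Mathlib
import Cfsg.Agent.Helper8.AutSUy

set_option autoImplicit false
set_option linter.unusedSectionVars false

/-! Automorphisms of `PSU_n(q)`: after composing with a standard automorphism, an automorphism fixing
the root groups of `e` and `f` acts trivially on the unipotent radical modulo its centre (helper8). -/

namespace Cfsg.Agent.Helper8.AutSU

open Matrix Cfsg Cfsg.Agent.Helper7.Herm Cfsg.Agent.Helper8.GUOrder Cfsg.Agent.Helper8.SURoot
open scoped Pointwise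

variable {F : Type*} [Field F] [Fintype F] {q k N : ℕ} [hF : Fact (Fintype.card F = q ^ 2)]

/-- the map `z ↦ z - z^q` is onto the trace-zero elements -/
theorem exists_im {s : F} (hs : s ^ q + s = 0) : ∃ z : F, z - z ^ q = s := by
  obtain ⟨ε, hε0, hε⟩ := exists_tz_ne_zero (F := F) (q := q)
  have hεq : ε ^ q = -ε := by linear_combination hε
  have hsq : s ^ q = -s := by linear_combination hs
  obtain ⟨z₀, hz₀⟩ := exists_trace (F := F) (q := q) (c := s / ε) (by
    rw [div_pow, hεq, hsq, neg_div_neg_eq])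
  refine ⟨ε * z₀, ?_⟩
  rw [mul_pow, hεq]
  have : ε * (z₀ ^ q + z₀) = s := by rw [hz₀, mul_div_cancel₀ _ hε0]
  linear_combination this

namespace Frame

variable {fr : Frame F q k}

/-- reduction to the case where the induced map is the identity -/
theorem exists_reduce (p : ℕ) [Fact p.Prime] [CharP F p] (hk : 1 ≤ k) (hkq : ¬ (k = 1 ∧ q = 2))
    {β : MulAut (PSU (k + 2) F q)} (hβ : fr.Fixes β) :
    ∃ (g : GU (k + 2) F q) (σ : F ≃+* F), fr.Fixes ((psa g σ)⁻¹ * β) ∧
      ∀ w, fr.Rel ((psa g σ)⁻¹ * β) w w := by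
  have hQ := hβ.hQ p hk
  have hQ' := hβ.inv.hQ p hk
  obtain ⟨σ, hσ⟩ := exists_sigma p hk hkq hβ
  obtain ⟨lam, hlam0, hlam, hφh⟩ := exists_lambda p hk hβ σ hσ
  have hφa := phi_add p hβ.hE hQ
  have hφ0 := phi_zero p hk hβ
  have hφsurj : Function.Surjective (fr.phi β) := fun w =>
    ⟨fr.phi β⁻¹ w, phi_phi_inv p hβ.hE hQ hQ' w⟩
  obtain ⟨g, μ, hμ0, hsm⟩ := fr.exists_unitary_semilinear hlam0 hlam hφa hσ hφh
  have hfix := fr.psa_fixes hμ0 hsm hlam0 hφ0
  refine ⟨g, σ, hfix.inv.mul hβ, fun w => ?_⟩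
  obtain ⟨a, ha⟩ := exists_Val (q := q) w
  obtain ⟨a', ha', he⟩ := Rel_spec hβ.hE (phi_spec hQ w) ha
  set a₁ := σ.symm (lam⁻¹ * a') with ha₁
  have h1 : lam * σ a₁ = a' := by
    rw [ha₁, σ.apply_symm_apply, ← mul_assoc, mul_inv_cancel₀ hlam0, one_mul]
  have hv₁ : Val q w a₁ := by
    unfold Val at ha' ⊢
    rw [hφh, ← h1, mul_pow, hlam, ← map_pow, ← mul_add, ← mul_add, ← map_add, ← map_add] at ha'
    have h2 := (mul_eq_zero.mp ha').resolve_left hlam0
    exact (map_eq_zero_iff σ σ.injective).mp h2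
  refine ⟨a, a₁, ha, hv₁, ?_⟩
  have h3 : psa g σ (pr (fr.sgt w a₁)) = β (pr (fr.sgt w a)) := by
    rw [psa_pr, fr.sa_sgt hμ0 hsm hlam0 hlam hφa hσ hφh hφsurj hv₁, h1, he]
  rw [MulAut.mul_apply, ← h3]
  exact (psa g σ).symm_apply_apply _

end Frame

end Cfsg.Agent.Helper8.AutSU
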