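import Mathlib
import Cfsg.Prelude.Def_KGroupFacts
import Cfsg.Agent.Helper8.AutPSL2D
import Cfsg.Agent.Helper7.FieldAutCard

set_option autoImplicit false

/-!
The automorphisms of `PSL₂(F)`, part E: the outer automorphism group.
-/

namespace Cfsg.Agent.Helper8.AutPSL2

open Matrix Cfsg.Agent.Helper7.SL2 Cfsg.Agent.Helper8.SL2C Cfsg.Agent.Helper8.Dk Subgroup
open scoped Matrix

variable {F : Type*} [Field F]

/-- the product of two automorphisms in standard form -/
theorem conj_tau_mul [Finite F] (g g' : ProjectiveSpecialLinearGroup (Fin 2) F) (σ σ' : F ≃+* F)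
    (c c' : Fˣ) :
    (MulAut.conj g * tau σ c) * (MulAut.conj g' * tau σ' c') =
      MulAut.conj (g * tau σ c g') * tau (σ * σ') (c * Units.map (σ : F →* F) c') := by
  rw [mul_assoc, ← mul_assoc (tau σ c), aut_mul_conj, mul_assoc, tau_mul, ← mul_assoc, ← map_mul]

/-- The automorphism group of a finite field is cyclic. -/
theorem isCyclic_ringAut' [Finite F] : IsCyclic (F ≃+* F) := by
  classical
  obtain ⟨p, hp⟩ := CharP.exists F
  have := hp
  have : Fact p.Prime := ⟨CharP.char_is_prime F p⟩
  let _ := ZMod.algebra F p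
  let f : (F ≃ₐ[ZMod p] F) →* (F ≃+* F) :=
    { toFun := fun σ => σ.toRingEquiv
      map_one' := rfl
      map_mul' := fun _ _ => rfl }
  have hf : Function.Surjective f := by
    intro σ
    refine ⟨AlgEquiv.ofRingEquiv (f := σ) (fun x =>
        RingHom.congr_fun (Subsingleton.elim ((σ : F →+* F).comp (algebraMap (ZMod p) F))
          (algebraMap (ZMod p) F)) x), ?_⟩
    ext x
    rfl
  exact isCyclic_of_surjective f hf

section diag

variable [Finite F]

/-- the diagonal automorphisms -/
noncomputable def diagAut : Fˣ →* MulAut (ProjectiveSpecialLinearGroup (Fin 2) F) where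
  toFun c := tau 1 c
  map_one' := tau_one_one
  map_mul' c c' := (tau_one_mul c c').symm

/-- the diagonal outer automorphisms -/
noncomputable def diagOut : Fˣ →* Cfsg.Out (ProjectiveSpecialLinearGroup (Fin 2) F) :=
  (QuotientGroup.mk' (Cfsg.Inn (ProjectiveSpecialLinearGroup (Fin 2) F))).comp diagAut

theorem diagOut_apply (c : Fˣ) :
    diagOut c = (QuotientGroup.mk (tau (1 : F ≃+* F) c) :
      Cfsg.Out (ProjectiveSpecialLinearGroup (Fin 2) F)) := rfl

omit [Finite F] in
theorem mk_conj (g : ProjectiveSpecialLinearGroup (Fin 2) F) :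
    (QuotientGroup.mk (MulAut.conj g) : Cfsg.Out (ProjectiveSpecialLinearGroup (Fin 2) F)) = 1 :=
  (QuotientGroup.eq_one_iff _).mpr ⟨g, rfl⟩

theorem ker_diagOut : (diagOut (F := F)).ker = (powMonoidHom 2 : Fˣ →* Fˣ).range := by
  ext c
  rw [MonoidHom.mem_ker, diagOut_apply, QuotientGroup.eq_one_iff]
  constructor
  · rintro ⟨g, hg⟩
    have h1 : MulAut.conj g * tau (1 : F ≃+* F) 1 = MulAut.conj 1 * tau (1 : F ≃+* F) c := by
      rw [tau_one_one, mul_one, map_one, one_mul]
      exact hg
    obtain ⟨-, s, hs⟩ := tau_unique h1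
    refine ⟨s⁻¹, ?_⟩
    rw [powMonoidHom_apply, inv_pow]
    exact inv_eq_of_mul_eq_one_right hs.symm
  · rintro ⟨s, rfl⟩
    rw [powMonoidHom_apply, tau_one_sq]
    exact ⟨_, rfl⟩

end diag

section main

variable [Fintype F] (p : ℕ) [Fact p.Prime] [CharP F p]

include p

theorem exists_sigma (α : MulAut (ProjectiveSpecialLinearGroup (Fin 2) F)) :
    ∃ σ : F ≃+* F, ∃ (g : ProjectiveSpecialLinearGroup (Fin 2) F) (c : Fˣ),
      α = MulAut.conj g * tau σ c := by
  obtain ⟨g, σ, c, h⟩ := exists_eq_conj_mul_tau p α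
  exact ⟨σ, g, c, h⟩

/-- the field automorphism part of an automorphism of `PSL₂(F)` -/
noncomputable def fieldPart (α : MulAut (ProjectiveSpecialLinearGroup (Fin 2) F)) : F ≃+* F :=
  Classical.choose (exists_sigma p α)

theorem fieldPart_spec (α : MulAut (ProjectiveSpecialLinearGroup (Fin 2) F)) :
    ∃ (g : ProjectiveSpecialLinearGroup (Fin 2) F) (c : Fˣ),
      α = MulAut.conj g * tau (fieldPart p α) c :=
  Classical.choose_spec (exists_sigma p α)

theorem fieldPart_eq {α : MulAut (ProjectiveSpecialLinearGroup (Fin 2) F)}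
    {g : ProjectiveSpecialLinearGroup (Fin 2) F} {σ : F ≃+* F} {c : Fˣ}
    (h : α = MulAut.conj g * tau σ c) : fieldPart p α = σ := by
  obtain ⟨g', c', h'⟩ := fieldPart_spec p α
  exact (tau_unique (h'.symm.trans h)).1

/-- the field automorphism part, as a homomorphism -/
noncomputable def fieldHom : MulAut (ProjectiveSpecialLinearGroup (Fin 2) F) →* (F ≃+* F) :=
  MonoidHom.mk' (fieldPart p) (fun α β => by
    obtain ⟨g, c, h⟩ := fieldPart_spec p α
    obtain ⟨g', c', h'⟩ := fieldPart_spec p β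
    have key := conj_tau_mul g g' (fieldPart p α) (fieldPart p β) c c'
    rw [← h, ← h'] at key
    exact fieldPart_eq p key)

theorem fieldHom_apply (α : MulAut (ProjectiveSpecialLinearGroup (Fin 2) F)) :
    fieldHom p α = fieldPart p α := rfl

theorem fieldHom_conj_mul_tau (g : ProjectiveSpecialLinearGroup (Fin 2) F) (σ : F ≃+* F) (c : Fˣ) :
    fieldHom p (MulAut.conj g * tau σ c) = σ := by
  rw [fieldHom_apply]
  exact fieldPart_eq p rfl

theorem fieldHom_tau (σ : F ≃+* F) (c : Fˣ) : fieldHom p (tau σ c) = σ := by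
  have := fieldHom_conj_mul_tau p 1 σ c
  rwa [map_one, one_mul] at this

theorem fieldHom_conj (g : ProjectiveSpecialLinearGroup (Fin 2) F) :
    fieldHom p (MulAut.conj g) = 1 := by
  have := fieldHom_conj_mul_tau p g 1 1
  rwa [tau_one_one, mul_one] at this

theorem inn_le_ker :
    Cfsg.Inn (ProjectiveSpecialLinearGroup (Fin 2) F) ≤ (fieldHom p).ker := by
  rintro _ ⟨g, rfl⟩
  exact fieldHom_conj p g

/-- the field automorphism part of an outer automorphism -/
noncomputable def outHom : Cfsg.Out (ProjectiveSpecialLinearGroup (Fin 2) F) →* (F ≃+* F) :=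
  QuotientGroup.lift (Cfsg.Inn (ProjectiveSpecialLinearGroup (Fin 2) F)) (fieldHom p)
    (inn_le_ker p)

theorem outHom_mk (α : MulAut (ProjectiveSpecialLinearGroup (Fin 2) F)) :
    outHom p (QuotientGroup.mk α) = fieldHom p α := rfl

theorem outHom_surjective : Function.Surjective (outHom (F := F) p) := by
  intro σ
  exact ⟨QuotientGroup.mk (tau σ 1), by rw [outHom_mk, fieldHom_tau]⟩

theorem ker_outHom : (outHom (F := F) p).ker = (diagOut (F := F)).range := by
  ext x
  constructor
  · intro hx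
    obtain ⟨α, rfl⟩ := QuotientGroup.mk_surjective x
    rw [MonoidHom.mem_ker, outHom_mk, fieldHom_apply] at hx
    obtain ⟨g, c, h⟩ := fieldPart_spec p α
    rw [hx] at h
    refine ⟨c, ?_⟩
    rw [diagOut_apply, h, QuotientGroup.mk_mul, mk_conj, one_mul]
  · rintro ⟨c, rfl⟩
    rw [MonoidHom.mem_ker, diagOut_apply, outHom_mk, fieldHom_tau]

theorem isCyclic_ker_outHom : IsCyclic (outHom (F := F) p).ker := by
  rw [ker_outHom]
  exact isCyclic_of_surjective (diagOut (F := F)).rangeRestrict
    (MonoidHom.rangeRestrict_surjective _)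

theorem card_ker_outHom :
    Nat.card (outHom (F := F) p).ker = Nat.gcd 2 (Fintype.card F - 1) := by
  rw [ker_outHom, ← Subgroup.index_ker, ker_diagOut, IsCyclic.index_powMonoidHom_range,
    Nat.card_units, Nat.card_eq_fintype_card, Nat.gcd_comm]

end main

/-- the structure of the outer automorphism group of `PSL₂(F)` -/
theorem out_structure [Fintype F] {p f : ℕ} [Fact p.Prime] (hF : Fintype.card F = p ^ f) :
    ∃ φ : Cfsg.Out (ProjectiveSpecialLinearGroup (Fin 2) F) →* Multiplicative (ZMod f),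
      Function.Surjective φ ∧ IsCyclic φ.ker ∧ Nat.card φ.ker = Nat.gcd 2 (p ^ f - 1) := by
  have : CharP F p := charP_of_card_eq_prime_pow hF
  have hcard := Cfsg.Agent.Helper7.FieldAutCard.card_ringAut p f hF
  have hcyc : IsCyclic (F ≃+* F) := isCyclic_ringAut'
  obtain ⟨e⟩ : Nonempty ((F ≃+* F) ≃* Multiplicative (ZMod f)) := by
    rw [← hcard]
    exact ⟨(zmodCyclicMulEquiv hcyc).symm⟩
  have hker : ((e : (F ≃+* F) →* Multiplicative (ZMod f)).comp (outHom p)).ker =
      (outHom (F := F) p).ker := MonoidHom.ker_mulEquiv_comp _ e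
  refine ⟨(e : (F ≃+* F) →* Multiplicative (ZMod f)).comp (outHom p), ?_, ?_, ?_⟩
  · exact e.surjective.comp (outHom_surjective p)
  · rw [hker]
    exact isCyclic_ker_outHom p
  · rw [hker, card_ker_outHom, hF]

end Cfsg.Agent.Helper8.AutPSL2
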