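import Mathlib
import Cfsg.Agent.Helper8.AutSLnP
import Cfsg.Agent.Helper8.AutPSL2E
import Cfsg.Prelude.Def_KGroupFacts

set_option autoImplicit false

/-!
The automorphisms of `PSL_n(F)`, part Q: the outer automorphism group for `n ≥ 3`.
-/

namespace Cfsg.Agent.Helper8.AutSLn

open Matrix

variable {F : Type*} [Field F]

section general

variable {m : Type*} [Fintype m] [DecidableEq m]

/-- diagonal matrices, as a homomorphism -/
def diagGLHom : (m → Fˣ) →* GL m F where
  toFun := diagGL
  map_one' := by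
    apply Units.ext
    rw [diagGL_coe]
    simp
  map_mul' d d' := by
    apply Units.ext
    rw [Units.val_mul, diagGL_coe, diagGL_coe, diagGL_coe, Matrix.diagonal_mul_diagonal]
    rfl

/-- the matrices `diag(c, 1, …, 1)` -/
def diag1 (i₀ : m) : Fˣ →* GL m F := diagGLHom.comp (MonoidHom.mulSingle (fun _ => Fˣ) i₀)

theorem det_diag1 (i₀ : m) (c : Fˣ) : Matrix.GeneralLinearGroup.det (diag1 i₀ c) = c := by
  apply Units.ext
  rw [Matrix.GeneralLinearGroup.val_det_apply]
  show (Matrix.diagonal fun i => ((Pi.mulSingle i₀ c : m → Fˣ) i : F)).det = c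
  rw [Matrix.det_diagonal, Finset.prod_eq_single i₀]
  · rw [Pi.mulSingle_eq_same]
  · intro b _ hb
    rw [Pi.mulSingle_eq_of_ne hb, Units.val_one]
  · intro h
    exact absurd (Finset.mem_univ _) h

/-- an element of `GL` of determinant one comes from `SL` -/
theorem exists_toGL_eq {g : GL m F} (h : Matrix.GeneralLinearGroup.det g = 1) :
    ∃ s : SpecialLinearGroup m F, Matrix.SpecialLinearGroup.toGL s = g := by
  have h1 : (g : Matrix m m F).det = 1 := by
    have := congrArg Units.val h
    rwa [Matrix.GeneralLinearGroup.val_det_apply, Units.val_one] at this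
  exact ⟨⟨g, h1⟩, Units.ext rfl⟩

theorem pslConj_toGL_mem_inn (s : SpecialLinearGroup m F) :
    pslConj (Matrix.SpecialLinearGroup.toGL s) ∈ Cfsg.Inn (ProjectiveSpecialLinearGroup m F) :=
  ⟨QuotientGroup.mk s, conj_mk_eq_pslConj s⟩

theorem inn_le_range_pslConj :
    Cfsg.Inn (ProjectiveSpecialLinearGroup m F) ≤
      (pslConj : GL m F →* MulAut (ProjectiveSpecialLinearGroup m F)).range := by
  rintro _ ⟨x, rfl⟩
  obtain ⟨s, rfl⟩ := QuotientGroup.mk_surjective x
  exact ⟨Matrix.SpecialLinearGroup.toGL s, (conj_mk_eq_pslConj s).symm⟩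

/-- the diagonal outer automorphisms -/
noncomputable def diagOutHom (i₀ : m) : Fˣ →* Cfsg.Out (ProjectiveSpecialLinearGroup m F) :=
  (QuotientGroup.mk' (Cfsg.Inn (ProjectiveSpecialLinearGroup m F))).comp
    (pslConj.comp (diag1 i₀))

theorem diagOutHom_apply (i₀ : m) (c : Fˣ) :
    diagOutHom i₀ c = QuotientGroup.mk' (Cfsg.Inn (ProjectiveSpecialLinearGroup m F))
      (pslConj (diag1 i₀ c)) := rfl

/-- the image of the diagonal outer automorphisms is the image of the inner-diagonal group -/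
theorem range_diagOutHom (i₀ : m) :
    (diagOutHom (F := F) i₀).range =
      ((pslConj : GL m F →* MulAut (ProjectiveSpecialLinearGroup m F)).range).map
        (QuotientGroup.mk' (Cfsg.Inn (ProjectiveSpecialLinearGroup m F))) := by
  ext x
  constructor
  · rintro ⟨c, rfl⟩
    exact ⟨_, ⟨diag1 i₀ c, rfl⟩, rfl⟩
  · rintro ⟨_, ⟨g, rfl⟩, rfl⟩
    refine ⟨Matrix.GeneralLinearGroup.det g, ?_⟩
    obtain ⟨s, hs⟩ := exists_toGL_eq (g := g * (diag1 i₀ (Matrix.GeneralLinearGroup.det g))⁻¹)
      (by rw [map_mul, map_inv, det_diag1, mul_inv_cancel])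
    have hg : g = Matrix.SpecialLinearGroup.toGL s * diag1 i₀ (Matrix.GeneralLinearGroup.det g) := by
      rw [hs, inv_mul_cancel_right]
    rw [diagOutHom_apply]
    conv_rhs => rw [hg, map_mul, map_mul]
    rw [QuotientGroup.mk'_apply, QuotientGroup.mk'_apply,
      (QuotientGroup.eq_one_iff _).mpr (pslConj_toGL_mem_inn s), one_mul]

/-- the diagonal outer automorphism of `c` is trivial iff `c` is a power -/
theorem ker_diagOutHom [Nontrivial m] (i₀ : m) :
    (diagOutHom (F := F) i₀).ker = (powMonoidHom (Fintype.card m) : Fˣ →* Fˣ).range := by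
  ext c
  rw [MonoidHom.mem_ker, diagOutHom_apply, QuotientGroup.mk'_apply, QuotientGroup.eq_one_iff]
  constructor
  · rintro ⟨x, hx⟩
    obtain ⟨s, rfl⟩ := QuotientGroup.mk_surjective x
    rw [conj_mk_eq_pslConj] at hx
    have h1 : (Matrix.SpecialLinearGroup.toGL s)⁻¹ * diag1 i₀ c ∈
        (pslConj : GL m F →* MulAut (ProjectiveSpecialLinearGroup m F)).ker := by
      rw [MonoidHom.mem_ker, map_mul, map_inv, hx, inv_mul_cancel]
    rw [ker_pslConj, Matrix.GeneralLinearGroup.center_eq_range_scalar] at h1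
    obtain ⟨u, hu⟩ := h1
    refine ⟨u, ?_⟩
    have h2 := congrArg Matrix.GeneralLinearGroup.det hu
    rw [Matrix.GeneralLinearGroup.det_scalar, map_mul, map_inv, det_diag1,
      Matrix.SpecialLinearGroup.coeToGL_det, inv_one, one_mul] at h2
    exact h2
  · rintro ⟨u, rfl⟩
    obtain ⟨s, hs⟩ := exists_toGL_eq
      (g := Matrix.GeneralLinearGroup.scalar m u⁻¹ * diag1 i₀ (powMonoidHom (Fintype.card m) u))
      (by rw [map_mul, det_diag1, Matrix.GeneralLinearGroup.det_scalar, powMonoidHom_apply,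
        inv_pow, inv_mul_cancel])
    have h1 : pslConj (Matrix.GeneralLinearGroup.scalar m u⁻¹) =
        (1 : MulAut (ProjectiveSpecialLinearGroup m F)) := by
      rw [← MonoidHom.mem_ker, ker_pslConj, Matrix.GeneralLinearGroup.center_eq_range_scalar]
      exact ⟨_, rfl⟩
    have h2 : pslConj (diag1 i₀ (powMonoidHom (Fintype.card m) u)) =
        pslConj (Matrix.SpecialLinearGroup.toGL s) := by
      rw [hs, map_mul, h1, one_mul]
    rw [h2]
    exact pslConj_toGL_mem_inn s

end general

section main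

variable {n : ℕ} [Fintype F] [Fact (2 ≤ n)]

/-- the structure homomorphism on the outer automorphism group -/
noncomputable def outStructHom (hn : 3 ≤ n) :
    Cfsg.Out (ProjectiveSpecialLinearGroup (Fin n) F) →* (F ≃+* F) × Multiplicative (ZMod 2) :=
  QuotientGroup.lift (Cfsg.Inn (ProjectiveSpecialLinearGroup (Fin n) F)) (structHom hn)
    (by rw [ker_structHom]; exact inn_le_range_pslConj)

theorem outStructHom_mk (hn : 3 ≤ n) (β : MulAut (ProjectiveSpecialLinearGroup (Fin n) F)) :
    outStructHom hn (QuotientGroup.mk' _ β) = structHom hn β := rfl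

theorem outStructHom_surjective (hn : 3 ≤ n) : Function.Surjective (outStructHom (F := F) hn) := by
  intro y
  obtain ⟨β, hβ⟩ := structHom_surjective hn y
  exact ⟨QuotientGroup.mk' _ β, hβ⟩

theorem ker_outStructHom (hn : 3 ≤ n) (i₀ : Fin n) :
    (outStructHom (F := F) hn).ker = (diagOutHom i₀).range := by
  rw [range_diagOutHom]
  ext x
  obtain ⟨β, rfl⟩ := QuotientGroup.mk'_surjective _ x
  rw [MonoidHom.mem_ker, outStructHom_mk, ← MonoidHom.mem_ker, ker_structHom]
  constructor
  · intro h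
    exact ⟨β, h, rfl⟩
  · rintro ⟨β', hβ', h⟩
    rw [QuotientGroup.mk'_apply, QuotientGroup.mk'_apply, QuotientGroup.eq] at h
    have h1 : β = β' * (β'⁻¹ * β) := by rw [mul_inv_cancel_left]
    rw [h1]
    exact mul_mem hβ' (inn_le_range_pslConj h)

theorem isCyclic_ker_outStructHom (hn : 3 ≤ n) : IsCyclic (outStructHom (F := F) hn).ker := by
  have i₀ : Fin n := ⟨0, by omega⟩
  rw [ker_outStructHom hn i₀]
  exact isCyclic_of_surjective (diagOutHom (F := F) i₀).rangeRestrict
    (MonoidHom.rangeRestrict_surjective _)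

theorem card_ker_outStructHom (hn : 3 ≤ n) :
    Nat.card (outStructHom (F := F) hn).ker = Nat.gcd n (Fintype.card F - 1) := by
  have i₀ : Fin n := ⟨0, by omega⟩
  have : Nontrivial (Fin n) := Fin.nontrivial_iff_two_le.mpr (by omega)
  rw [ker_outStructHom hn i₀, ← Subgroup.index_ker, ker_diagOutHom, IsCyclic.index_powMonoidHom_range,
    Nat.card_units, Nat.card_eq_fintype_card, Fintype.card_fin, Nat.gcd_comm]

/-- **the structure of the outer automorphism group of `PSL_n(F)`, `n ≥ 3`** -/
theorem out_structure_PSL {p f : ℕ} [Fact p.Prime] (hF : Fintype.card F = p ^ f) (hn : 3 ≤ n) :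
    ∃ φ : Cfsg.Out (ProjectiveSpecialLinearGroup (Fin n) F) →* Multiplicative (ZMod f × ZMod 2),
      Function.Surjective φ ∧ IsCyclic φ.ker ∧ Nat.card φ.ker = Nat.gcd n (p ^ f - 1) := by
  have : CharP F p := charP_of_card_eq_prime_pow hF
  have hcard := Cfsg.Agent.Helper7.FieldAutCard.card_ringAut p f hF
  have hcyc : IsCyclic (F ≃+* F) := Cfsg.Agent.Helper8.AutPSL2.isCyclic_ringAut'
  obtain ⟨e⟩ : Nonempty ((F ≃+* F) ≃* Multiplicative (ZMod f)) := by
    rw [← hcard]
    exact ⟨(zmodCyclicMulEquiv hcyc).symm⟩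
  obtain ⟨E, hE⟩ : ∃ E : (F ≃+* F) × Multiplicative (ZMod 2) ≃* Multiplicative (ZMod f × ZMod 2),
      True :=
    ⟨(MulEquiv.prodCongr e (MulEquiv.refl _)).trans (MulEquiv.prodMultiplicative _ _).symm, trivial⟩
  have hker : ((E : _ →* Multiplicative (ZMod f × ZMod 2)).comp (outStructHom hn)).ker =
      (outStructHom (F := F) hn).ker := MonoidHom.ker_mulEquiv_comp _ E
  refine ⟨(E : _ →* Multiplicative (ZMod f × ZMod 2)).comp (outStructHom hn), ?_, ?_, ?_⟩
  · exact E.surjective.comp (outStructHom_surjective hn)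
  · rw [hker]
    exact isCyclic_ker_outStructHom hn
  · rw [hker, card_ker_outStructHom, hF]

end main

end Cfsg.Agent.Helper8.AutSLn
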