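import Mathlib
import Cfsg.Agent.Helper8.AutSLnW
import Cfsg.Agent.Helper8.AutSLnQ

set_option autoImplicit false

/-!
The automorphisms of `PSL_n(F)`, part X: the index of `Inn · C(field automorphism)` in the
inner-diagonal group.
-/

namespace Cfsg.Agent.Helper8.AutSLn

open Matrix

section cyclic

variable {C : Type*} [CommGroup C] [IsCyclic C] [Finite C]

/-- a subgroup of a finite cyclic group is the group of the powers of its index -/
theorem eq_range_pow_index (T : Subgroup C) : T = (powMonoidHom T.index : C →* C).range := by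
  symm
  apply Subgroup.eq_of_le_of_card_ge
  · rintro _ ⟨y, rfl⟩
    exact T.pow_index_mem y
  · rw [IsCyclic.card_powMonoidHom_range, Nat.gcd_eq_right T.index_dvd_card]
    have := T.card_mul_index
    rw [← this, Nat.mul_div_cancel _ (Nat.pos_of_ne_zero T.index_ne_zero_of_finite)]

theorem range_pow_sup_range_pow (a b : ℕ) :
    (powMonoidHom a : C →* C).range ⊔ (powMonoidHom b : C →* C).range =
      (powMonoidHom (Nat.gcd a b) : C →* C).range := by
  apply le_antisymm
  · rw [sup_le_iff]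
    constructor
    · rintro _ ⟨y, rfl⟩
      obtain ⟨k, hk⟩ := Nat.gcd_dvd_left a b
      refine ⟨y ^ k, ?_⟩
      rw [powMonoidHom_apply, powMonoidHom_apply, ← pow_mul, mul_comm, ← hk]
    · rintro _ ⟨y, rfl⟩
      obtain ⟨k, hk⟩ := Nat.gcd_dvd_right a b
      refine ⟨y ^ k, ?_⟩
      rw [powMonoidHom_apply, powMonoidHom_apply, ← pow_mul, mul_comm, ← hk]
  · rintro _ ⟨y, rfl⟩
    rw [powMonoidHom_apply, ← zpow_natCast, Nat.gcd_eq_gcd_ab, _root_.zpow_add, mul_comm (a : ℤ),
      mul_comm (b : ℤ), _root_.zpow_mul, _root_.zpow_mul, zpow_natCast, zpow_natCast]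
    exact Subgroup.mul_mem_sup ⟨_, rfl⟩ ⟨_, rfl⟩

/-- the index of the join of the `n`-th powers and a subgroup -/
theorem index_range_pow_sup (n : ℕ) (T : Subgroup C) :
    ((powMonoidHom n : C →* C).range ⊔ T).index = Nat.gcd n T.index := by
  conv_lhs => rw [eq_range_pow_index T]
  rw [range_pow_sup_range_pow, IsCyclic.index_powMonoidHom_range, ← Nat.gcd_assoc,
    Nat.gcd_comm (Nat.card C), Nat.gcd_assoc, Nat.gcd_eq_right T.index_dvd_card]

end cyclic

variable {F : Type*} [Field F]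

/-- the fixed units are the units of the fixed field -/
theorem card_fixU [Finite F] (σ : F ≃+* F) : Nat.card (fixU σ) = Nat.card (fixField σ) - 1 := by
  rw [← Nat.card_units]
  obtain ⟨φ, hφ⟩ : ∃ φ : (fixField σ)ˣ → fixU σ, ∀ u, ((φ u : Fˣ) : F) = ((u : fixField σ) : F) :=
    ⟨fun u => ⟨Units.map ((fixField σ).subtype : fixField σ →* F) u, by
      rw [mem_fixU]
      ext
      exact (u : fixField σ).2⟩, fun _ => rfl⟩
  apply (Nat.card_eq_of_bijective φ ⟨?_, ?_⟩).symm
  · intro u v h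
    ext
    rw [← hφ, ← hφ, h]
  · rintro ⟨c, hc⟩
    rw [mem_fixU] at hc
    have h1 : σ (c : F) = c := congrArg Units.val hc
    have h2 : σ ((c⁻¹ : Fˣ) : F) = ((c⁻¹ : Fˣ) : F) := by
      have : unitsAut σ c⁻¹ = c⁻¹ := by rw [map_inv, hc]
      exact congrArg Units.val this
    refine ⟨⟨⟨c, h1⟩, ⟨((c⁻¹ : Fˣ) : F), h2⟩, ?_, ?_⟩, ?_⟩
    · ext
      show (c : F) * ((c⁻¹ : Fˣ) : F) = 1
      rw [← Units.val_mul, mul_inv_cancel, Units.val_one]
    · ext
      show ((c⁻¹ : Fˣ) : F) * (c : F) = 1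
      rw [← Units.val_mul, inv_mul_cancel, Units.val_one]
    · ext
      rw [hφ]

/-- the index of the join of the `n`-th powers and the fixed units -/
theorem index_pow_sup_fixU [Fintype F] {p f : ℕ} [Fact p.Prime] (hF : Fintype.card F = p ^ f)
    (σ : F ≃+* F) {r : ℕ} (hr : 0 < r) (hσ : orderOf σ = r) (n : ℕ) :
    ((powMonoidHom n : Fˣ →* Fˣ).range ⊔ fixU σ).index =
      Nat.gcd n ((p ^ f - 1) / (p ^ (f / r) - 1)) := by
  rw [index_range_pow_sup]
  congr 1
  have h1 := (fixU σ).card_mul_index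
  rw [card_fixU, (card_fixField hF σ hr hσ).2, Nat.card_units, Nat.card_eq_fintype_card, hF] at h1
  rw [← h1]
  have h2 : 0 < p ^ (f / r) - 1 := by
    have := Nat.one_lt_pow (n := f / r) (a := p) ?_ (Fact.out : p.Prime).one_lt
    · omega
    · obtain ⟨k, hk⟩ := (card_fixField hF σ hr hσ).1
      intro h0
      rw [h0, pow_zero] at h1
      have h3 : Nat.card (fixField σ) = 1 := by
        rw [(card_fixField hF σ hr hσ).2, h0, pow_zero]
      have : Nontrivial (fixField σ) := inferInstance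
      have h4 := Finite.one_lt_card (α := fixField σ)
      omega
  rw [Nat.mul_div_cancel_left _ h2]

section GLpart

variable {m : Type*} [Fintype m] [DecidableEq m]

theorem det_gls (σ : F ≃+* F) (g : GL m F) :
    Matrix.GeneralLinearGroup.det (gls σ g) = unitsAut σ (Matrix.GeneralLinearGroup.det g) :=
  Matrix.GeneralLinearGroup.map_det (σ : F →+* F) g

theorem gls_diag1 (σ : F ≃+* F) (i₀ : m) (c : Fˣ) :
    gls σ (diag1 i₀ c) = diag1 i₀ (unitsAut σ c) := by
  apply Units.ext
  ext i j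
  show σ ((Matrix.diagonal fun i => ((Pi.mulSingle i₀ c : m → Fˣ) i : F)) i j) =
    (Matrix.diagonal fun i => ((Pi.mulSingle i₀ (unitsAut σ c) : m → Fˣ) i : F)) i j
  rw [Matrix.diagonal_apply, Matrix.diagonal_apply]
  by_cases hij : i = j
  · rw [if_pos hij, if_pos hij]
    by_cases hi : i = i₀
    · subst hi
      rw [Pi.mulSingle_eq_same, Pi.mulSingle_eq_same]
      rfl
    · rw [Pi.mulSingle_eq_of_ne hi, Pi.mulSingle_eq_of_ne hi, Units.val_one, map_one]
  · rw [if_neg hij, if_neg hij, map_zero]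

/-- the preimage in `GL` of `Inn · C(field automorphism)` is given by a condition on the determinant -/
theorem comap_inn_sup_centralizer [Nontrivial m] (σ : F ≃+* F) {r : ℕ} (hr : 0 < r)
    (hσr : σ ^ r = 1) (hσ : ∀ i j : Fin r, σ ^ (i : ℕ) = σ ^ (j : ℕ) → i = j) :
    (Cfsg.Inn (ProjectiveSpecialLinearGroup m F) ⊔
      ((pslConj : GL m F →* MulAut (ProjectiveSpecialLinearGroup m F)).range ⊓
        Subgroup.centralizer {pslField σ})).comap pslConj =
      ((powMonoidHom (Fintype.card m) : Fˣ →* Fˣ).range ⊔ fixU σ).comap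
        Matrix.GeneralLinearGroup.det := by
  ext g
  rw [Subgroup.mem_comap, Subgroup.mem_comap]
  constructor
  · intro h
    rw [← SetLike.mem_coe, Subgroup.normal_mul, Set.mem_mul] at h
    obtain ⟨a, ha, b, hb, e⟩ := h
    obtain ⟨x, rfl⟩ := ha
    obtain ⟨s, rfl⟩ := QuotientGroup.mk_surjective x
    obtain ⟨⟨g₁, rfl⟩, hbC⟩ := hb
    obtain ⟨ν, hν⟩ := (commute_pslField_iff σ hr hσr hσ g₁).mp
      (Subgroup.mem_centralizer_iff.mp hbC _ rfl)
    rw [conj_mk_eq_pslConj, ← map_mul] at e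
    have h1 : (Matrix.SpecialLinearGroup.toGL s * g₁)⁻¹ * g ∈
        (pslConj : GL m F →* MulAut (ProjectiveSpecialLinearGroup m F)).ker := by
      rw [MonoidHom.mem_ker, map_mul, map_inv, e, inv_mul_cancel]
    rw [ker_pslConj, Matrix.GeneralLinearGroup.center_eq_range_scalar] at h1
    obtain ⟨z, hz⟩ := h1
    have h2 : g = Matrix.SpecialLinearGroup.toGL s * g₁ * Matrix.GeneralLinearGroup.scalar m z := by
      rw [hz, mul_inv_cancel_left]
    have h3 := congrArg Matrix.GeneralLinearGroup.det hν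
    rw [det_gls, map_mul, Matrix.GeneralLinearGroup.det_scalar] at h3
    have h4 : Matrix.GeneralLinearGroup.det g =
        powMonoidHom (Fintype.card m) (z * ν⁻¹) *
          (ν ^ Fintype.card m * Matrix.GeneralLinearGroup.det g₁) := by
      rw [h2, map_mul, map_mul, Matrix.SpecialLinearGroup.coeToGL_det, one_mul,
        Matrix.GeneralLinearGroup.det_scalar, powMonoidHom_apply, mul_pow, inv_pow]
      rw [mul_comm, mul_assoc, inv_mul_cancel_left]
    rw [h4]
    exact Subgroup.mul_mem_sup ⟨_, rfl⟩ h3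
  · intro h
    rw [Subgroup.mem_sup] at h
    obtain ⟨_, ⟨u, rfl⟩, κ, hκ, e⟩ := h
    rw [powMonoidHom_apply] at e
    obtain ⟨i₀⟩ := (inferInstance : Nonempty m)
    obtain ⟨s, hs⟩ := exists_toGL_eq
      (g := Matrix.GeneralLinearGroup.scalar m u⁻¹ * g * (diag1 i₀ κ)⁻¹)
      (by rw [map_mul, map_mul, map_inv Matrix.GeneralLinearGroup.det (diag1 i₀ κ), det_diag1,
        Matrix.GeneralLinearGroup.det_scalar, ← e, inv_pow, inv_mul_cancel_left, mul_inv_cancel])
    have h1 : pslConj g = (pslConj (Matrix.SpecialLinearGroup.toGL s) * pslConj (diag1 i₀ κ) :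
        MulAut (ProjectiveSpecialLinearGroup m F)) := by
      rw [hs, ← map_mul, inv_mul_cancel_right, pslConj_scalar_mul]
    rw [h1]
    refine Subgroup.mul_mem_sup (pslConj_toGL_mem_inn s) ⟨⟨_, rfl⟩, ?_⟩
    apply Subgroup.mem_centralizer_iff.mpr
    intro y hy
    rw [Set.mem_singleton_iff] at hy
    subst hy
    rw [commute_pslField_iff σ hr hσr hσ]
    refine ⟨1, ?_⟩
    rw [map_one, one_mul, gls_diag1, (mem_fixU σ κ).mp hκ]

/-- **the index of `Inn · C(field automorphism)` in the inner-diagonal group** -/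
theorem relIndex_inn_sup_centralizer [Nontrivial m] (σ : F ≃+* F) {r : ℕ} (hr : 0 < r)
    (hσr : σ ^ r = 1) (hσ : ∀ i j : Fin r, σ ^ (i : ℕ) = σ ^ (j : ℕ) → i = j) :
    (Cfsg.Inn (ProjectiveSpecialLinearGroup m F) ⊔
      ((pslConj : GL m F →* MulAut (ProjectiveSpecialLinearGroup m F)).range ⊓
        Subgroup.centralizer {pslField σ})).relIndex
          (pslConj : GL m F →* MulAut (ProjectiveSpecialLinearGroup m F)).range =
      ((powMonoidHom (Fintype.card m) : Fˣ →* Fˣ).range ⊔ fixU σ).index := by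
  rw [← Subgroup.index_comap, comap_inn_sup_centralizer σ hr hσr hσ]
  apply Subgroup.index_comap_of_surjective
  intro c
  obtain ⟨i₀⟩ := (inferInstance : Nonempty m)
  exact ⟨diag1 i₀ c, det_diag1 i₀ c⟩

end GLpart

end Cfsg.Agent.Helper8.AutSLn
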