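import Mathlib
import Cfsg.Agent.Helper8.AutSLnX
import Cfsg.Prelude.Def_LieClassical

set_option autoImplicit false

/-!
The automorphisms of `PSL_n(F)`, graph-field part (a): involutory field automorphisms are Frobenius
powers; the unitary group as the group of the matrices with `g g* = 1`; the centraliser condition.
-/

namespace Cfsg.Agent.Helper8.AutSLn

open Matrix

variable {F : Type*} [Field F]

/-- an involutory automorphism of a finite field of order `p ^ f` is the `p ^ (f / 2)`-th power map -/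
theorem involution_eq_frob [Fintype F] {p f : ℕ} [Fact p.Prime] (hF : Fintype.card F = p ^ f)
    (σ : F ≃+* F) (hσ : orderOf σ = 2) : Even f ∧ ∀ a : F, σ a = a ^ (p ^ (f / 2)) := by
  classical
  obtain ⟨h2f, hK⟩ := card_fixField hF σ two_pos hσ
  refine ⟨even_iff_two_dvd.mpr h2f, ?_⟩
  have : CharP F p := charP_of_card_eq_prime_pow hF
  have hσ2 : ∀ a : F, σ (σ a) = a := by
    intro a
    have : σ ^ 2 = 1 := by rw [← hσ, pow_orderOf_eq_one]
    exact RingEquiv.congr_fun (by rw [← pow_two, this] : σ * σ = 1) a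
  obtain ⟨q₀, hq₀⟩ : ∃ q₀, q₀ = p ^ (f / 2) := ⟨_, rfl⟩
  rw [← hq₀] at hK ⊢
  have : Fintype (fixField σ) := Fintype.ofFinite _
  -- elements of the fixed field satisfy `b ^ q₀ = b`
  have hfix : ∀ b : F, σ b = b → b ^ q₀ = b := by
    intro b hb
    have h1 := FiniteField.pow_card (⟨b, hb⟩ : fixField σ)
    rw [← Nat.card_eq_fintype_card, hK] at h1
    exact congrArg Subtype.val h1
  -- conversely
  have hq₀1 : 1 < q₀ := by
    have h1 := Finite.one_lt_card (α := fixField σ)
    rw [hK] at h1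
    exact h1
  have hconv : ∀ b : F, b ^ q₀ = b → σ b = b := by
    intro b hb
    by_cases hb0 : b = 0
    · rw [hb0, map_zero]
    -- the units with `u ^ (q₀ - 1) = 1`
    have h1 := IsCyclic.card_pow_eq_one_le (α := Fˣ) (n := q₀ - 1) (by omega)
    have h2 : (Finset.univ.filter fun u : Fˣ => u ∈ fixU σ) ⊆
        Finset.univ.filter fun u : Fˣ => u ^ (q₀ - 1) = 1 := by
      intro u hu
      rw [Finset.mem_filter] at hu ⊢
      refine ⟨Finset.mem_univ _, ?_⟩
      have h3 := hfix u (congrArg Units.val ((mem_fixU σ u).mp hu.2))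
      ext
      rw [Units.val_pow_eq_pow_val, Units.val_one]
      have h4 : (u : F) ^ (q₀ - 1) * u = 1 * u := by
        rw [← pow_succ, Nat.sub_add_cancel hq₀1.le, h3, one_mul]
      exact mul_right_cancel₀ u.ne_zero h4
    have h5 : (Finset.univ.filter fun u : Fˣ => u ∈ fixU σ).card = q₀ - 1 := by
      rw [← Fintype.card_subtype, ← Nat.card_eq_fintype_card]
      have := card_fixU σ
      rw [hK] at this
      exact this
    have h6 := Finset.eq_of_subset_of_card_le h2 (by rw [h5]; exact h1)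
    have h7 : Units.mk0 b hb0 ∈ Finset.univ.filter fun u : Fˣ => u ∈ fixU σ := by
      rw [h6, Finset.mem_filter]
      refine ⟨Finset.mem_univ _, ?_⟩
      ext
      rw [Units.val_pow_eq_pow_val, Units.val_one, Units.val_mk0]
      have h4 : b ^ (q₀ - 1) * b = 1 * b := by
        rw [← pow_succ, Nat.sub_add_cancel hq₀1.le, hb, one_mul]
      exact mul_right_cancel₀ hb0 h4
    rw [Finset.mem_filter] at h7
    exact congrArg Units.val ((mem_fixU σ _).mp h7.2)
  intro a
  have ht : (a + σ a) ^ q₀ = a + σ a := hfix _ (by rw [map_add, hσ2, add_comm])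
  have hn : (a * σ a) ^ q₀ = a * σ a := hfix _ (by rw [map_mul, hσ2, mul_comm])
  have hadd : (a + σ a) ^ q₀ = a ^ q₀ + (σ a) ^ q₀ := by
    rw [hq₀]
    exact add_pow_char_pow a (σ a) p (f / 2)
  rw [hadd] at ht
  rw [mul_pow] at hn
  have h1 : (a ^ q₀ - a) * (a ^ q₀ - σ a) = 0 := by
    have e1 : (σ a) ^ q₀ = a + σ a - a ^ q₀ := by rw [← ht]; ring
    rw [e1] at hn
    linear_combination (-1 : F) * hn
  rcases mul_eq_zero.mp h1 with h | h
  · have h3 := hconv a (sub_eq_zero.mp h)
    rw [h3, sub_eq_zero.mp h]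
  · exact (sub_eq_zero.mp h).symm


theorem nrmF_two (σ : F ≃+* F) (c : Fˣ) : nrmF σ c 2 = c * unitsAut σ c := by
  show c * unitsAut σ (c * unitsAut σ 1) = c * unitsAut σ c
  rw [map_one, mul_one]

theorem hinj_two (σ : F ≃+* F) (hσ : σ ≠ 1) :
    ∀ i j : Fin 2, σ ^ (i : ℕ) = σ ^ (j : ℕ) → i = j := by
  intro i j e
  fin_cases i <;> fin_cases j
  · rfl
  · exfalso
    apply hσ
    simpa using e.symm
  · exfalso
    apply hσ
    simpa using e
  · rfl

section GLpart

variable {m : Type*} [Fintype m] [DecidableEq m]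

theorem det_glStar (σ : F ≃+* F) (g : GL m F) :
    Matrix.GeneralLinearGroup.det (glStar σ g) = unitsAut σ (Matrix.GeneralLinearGroup.det g) := by
  rw [glStar, det_gls]
  congr 1
  ext
  rw [Matrix.GeneralLinearGroup.val_det_apply, Matrix.GeneralLinearGroup.val_det_apply,
    glInvTr_inv_coe, Matrix.det_transpose]

theorem glStar_diag1 (σ : F ≃+* F) (i₀ : m) (c : Fˣ) :
    glStar σ (diag1 i₀ c) = diag1 i₀ (unitsAut σ c) := by
  rw [← gls_diag1]
  apply Units.ext
  ext i j
  rw [glStar_apply]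
  show σ ((Matrix.diagonal fun i => ((Pi.mulSingle i₀ c : m → Fˣ) i : F)) j i) =
    σ ((Matrix.diagonal fun i => ((Pi.mulSingle i₀ c : m → Fˣ) i : F)) i j)
  rw [Matrix.diagonal_apply, Matrix.diagonal_apply]
  by_cases hij : i = j
  · subst hij
    rfl
  · rw [if_neg hij, if_neg (Ne.symm hij)]

/-- moving an inner-diagonal automorphism across the graph-field automorphism -/
theorem graphField_mul_pslConj (σ : F ≃+* F) (g : GL m F) :
    (pslField σ * pslInvTr) * pslConj g =
      (pslConj (glStar σ g)⁻¹ * (pslField σ * pslInvTr) :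
        MulAut (ProjectiveSpecialLinearGroup m F)) := by
  rw [mul_assoc, pslInvTr_mul_pslConj, ← mul_assoc, pslField_mul_pslConj, mul_assoc]
  congr 2

/-- the centraliser condition -/
theorem commute_graphField_iff [Nontrivial m] (σ : F ≃+* F) (g : GL m F) :
    ((pslField σ * pslInvTr) * pslConj g =
      (pslConj g * (pslField σ * pslInvTr) : MulAut (ProjectiveSpecialLinearGroup m F))) ↔
      g * glStar σ g ∈ Subgroup.center (GL m F) := by
  rw [graphField_mul_pslConj, mul_left_inj, ← ker_pslConj, MonoidHom.mem_ker, map_mul, map_inv,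
    mul_eq_one_iff_eq_inv, eq_comm]

/-- a unitary similitude is a scalar multiple of a unitary matrix -/
theorem exists_unitary_scalar [Finite F] [Nonempty m] (σ : F ≃+* F) (hσ : σ ≠ 1)
    (hσ2 : σ * σ = 1) (g : GL m F) (c : Fˣ)
    (hg : g * glStar σ g = Matrix.GeneralLinearGroup.scalar m c) :
    ∃ μ : Fˣ, c = μ * unitsAut σ μ ∧
      (Matrix.GeneralLinearGroup.scalar m μ⁻¹ * g) *
        glStar σ (Matrix.GeneralLinearGroup.scalar m μ⁻¹ * g) = 1 := by
  have hc : unitsAut σ c = c := by
    have h1 : glStar σ (g * glStar σ g) = g * glStar σ g := by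
      rw [glStar_mul, glStar_glStar σ hσ2]
    rw [hg, glStar_scalar] at h1
    exact scalar_injective h1
  have hσ2' : σ ^ 2 = 1 := by rw [pow_two, hσ2]
  obtain ⟨μ, hμ⟩ := exists_nrmF_eq σ two_pos hσ2' (hinj_two σ hσ) c hc
  rw [nrmF_two] at hμ
  refine ⟨μ, hμ.symm, ?_⟩
  rw [glStar_mul, glStar_scalar, mul_assoc, ← mul_assoc g, hg, ← map_mul, ← map_mul, ← hμ,
    ← map_one (Matrix.GeneralLinearGroup.scalar m)]
  congr 1
  rw [map_inv, mul_inv_cancel_right, inv_mul_cancel]

end GLpart

/-- the general unitary group consists of the matrices with `g g* = 1` -/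
theorem mem_GU_iff {n q₀ : ℕ} (σ : F ≃+* F) (hσq : ∀ a : F, σ a = a ^ q₀) (g : GL (Fin n) F) :
    g ∈ Cfsg.GU n F q₀ ↔ g * glStar σ g = 1 := by
  have hform : ∀ u v : Fin n → F, Cfsg.hermForm n F q₀ u v = u ⬝ᵥ (σ ∘ v) := by
    intro u v
    show ∑ i, u i * (v i) ^ q₀ = ∑ i, u i * σ (v i)
    simp only [hσq]
  have hmem : g ∈ Cfsg.GU n F q₀ ↔ ∀ u v : Fin n → F,
      Cfsg.hermForm n F q₀ ((g : Matrix (Fin n) (Fin n) F) *ᵥ u)
        ((g : Matrix (Fin n) (Fin n) F) *ᵥ v) = Cfsg.hermForm n F q₀ u v := Iff.rfl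
  have hkey : ∀ u v : Fin n → F,
      ((g : Matrix (Fin n) (Fin n) F) *ᵥ u) ⬝ᵥ (σ ∘ ((g : Matrix (Fin n) (Fin n) F) *ᵥ v)) =
      u ⬝ᵥ (((g : Matrix (Fin n) (Fin n) F).transpose *
        (g : Matrix (Fin n) (Fin n) F).map σ) *ᵥ (σ ∘ v)) := by
    intro u v
    rw [← map_mulVec_comp, dotProduct_comm, Matrix.dotProduct_mulVec, ← Matrix.mulVec_transpose,
      dotProduct_comm, Matrix.mulVec_mulVec]
  have hone : (g : Matrix (Fin n) (Fin n) F).transpose * (g : Matrix (Fin n) (Fin n) F).map σ = 1 ↔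
      g * glStar σ g = 1 := by
    rw [mul_eq_one_iff_eq_inv, ← mul_eq_one_iff_eq_inv']
    constructor
    · intro h
      apply Units.ext
      have h1 := congrArg Matrix.transpose h
      rw [Matrix.transpose_mul, Matrix.transpose_transpose, Matrix.transpose_one] at h1
      rw [Units.val_mul, glStar_coe, Units.val_one, Matrix.transpose_map]
      exact h1
    · intro h
      have h1 := congrArg (fun x : GL (Fin n) F => (x : Matrix (Fin n) (Fin n) F).transpose) h
      simp only [Units.val_mul, glStar_coe, Units.val_one, Matrix.transpose_mul,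
        Matrix.transpose_one, Matrix.transpose_map, Matrix.transpose_transpose] at h1
      exact h1
  rw [hmem, ← hone]
  constructor
  · intro h
    have h1 : ∀ w : Fin n → F, ((g : Matrix (Fin n) (Fin n) F).transpose *
        (g : Matrix (Fin n) (Fin n) F).map σ) *ᵥ w = w := by
      intro w
      obtain ⟨v, rfl⟩ : ∃ v : Fin n → F, σ ∘ v = w := ⟨σ.symm ∘ w, by ext i; simp⟩
      apply dotProduct_eq
      intro u
      rw [dotProduct_comm, ← hkey, ← hform, h, hform, dotProduct_comm]
    ext i j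
    have h2 := congrFun (h1 (Pi.single j 1)) i
    rw [Matrix.mulVec_single_one] at h2
    rw [Matrix.one_apply]
    exact h2.trans (Pi.single_apply j 1 i)
  · intro h u v
    rw [hform, hform, hkey, h, Matrix.one_mulVec]

end Cfsg.Agent.Helper8.AutSLn
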