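import Mathlib
import Cfsg.Agent.Helper8.AutSUza

set_option autoImplicit false
set_option linter.unusedSectionVars false

/-! Automorphisms of `PSU_n(q)`: an automorphism fixing the root groups of `e` and `f` and acting
trivially on the unipotent radical modulo its centre fixes the unipotent radical (helper8). -/

namespace Cfsg.Agent.Helper8.AutSU

open Matrix Cfsg Cfsg.Agent.Helper7.Herm Cfsg.Agent.Helper8.GUOrder Cfsg.Agent.Helper8.SURoot
open scoped Pointwise

variable {F : Type*} [Field F] [Fintype F] {q k N : ℕ} [hF : Fact (Fintype.card F = q ^ 2)]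

theorem lact_zero (l : SU (k + 2) F q) : lact l (0 : Fin k → F) = 0 := by
  have := Frame.lact_smul (l := l) (0 : F) (0 : Fin k → F)
  rw [zero_smul, zero_smul] at this
  exact this

namespace Frame

variable {fr : Frame F q k}

theorem fix_TU (p : ℕ) [Fact p.Prime] [CharP F p] (hk : 1 ≤ k) {β : MulAut (PSU (k + 2) F q)}
    (hrel : ∀ w, fr.Rel β w w) {s : F} (hs : s ^ q + s = 0) :
    β (pr (TU q fr.e s)) = pr (TU q fr.e s) := by
  obtain ⟨z, hz⟩ := exists_im hs
  have h1 := Rel_comm p (hrel (z • Pi.single ⟨0, hk⟩ 1)) (hrel (Pi.single ⟨0, hk⟩ 1))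
  rw [hermForm_smul_left, hermForm_smul_right, h_single_single, mul_one, mul_one, hz] at h1
  exact h1

theorem exists_z {β : MulAut (PSU (k + 2) F q)} (hβ : fr.Fixes β) (hrel : ∀ w, fr.Rel β w w)
    (hT : ∀ s : F, s ^ q + s = 0 → β (pr (TU q fr.e s)) = pr (TU q fr.e s)) (w : Fin k → F) :
    ∃ d : F, d ^ q + d = 0 ∧ ∀ a, Val q w a → β (pr (fr.sgt w a)) = pr (fr.sgt w (a + d)) := by
  obtain ⟨a₀, ha₀⟩ := exists_Val (q := q) w
  obtain ⟨a₁, ha₁, he⟩ := Rel_spec hβ.hE (hrel w) ha₀
  refine ⟨a₁ - a₀, Val_diff ha₀ ha₁, fun a ha => ?_⟩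
  have hs := Val_diff ha₀ ha
  have h2 : fr.sgt w a = fr.sgt w a₀ * TU q fr.e (a - a₀) := by
    rw [fr.sgt_mul_TU ha₀ hs]
    congr 1
    ring
  rw [h2, map_mul, map_mul, he, hT _ hs, ← map_mul, fr.sgt_mul_TU ha₁ hs]
  congr 2
  ring

/-- the automorphism fixes the image of the unipotent radical elementwise -/
theorem fix_Qb (p : ℕ) [Fact p.Prime] [CharP F p] (hk : 1 ≤ k) (hkq : ¬ (k = 1 ∧ q = 2))
    {β : MulAut (PSU (k + 2) F q)} (hβ : fr.Fixes β) (hrel : ∀ w, fr.Rel β w w) :
    ∀ x ∈ fr.Qb, β x = x := by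
  classical
  have hq := two_le_q hF.out
  have hT : ∀ s : F, s ^ q + s = 0 → β (pr (TU q fr.e s)) = pr (TU q fr.e s) :=
    fun s hs => fix_TU p hk hrel hs
  choose z hz1 hz2 using exists_z hβ hrel hT
  have huniq : ∀ (w : Fin k → F) (a d' : F), Val q w a → d' ^ q + d' = 0 →
      β (pr (fr.sgt w a)) = pr (fr.sgt w (a + d')) → d' = z w := by
    intro w a d' ha hd' he
    have h1 := (fr.pr_sgt_inj p (Val_add_tz ha hd') (Val_add_tz ha (hz1 w))
      (he.symm.trans (hz2 w a ha))).2
    exact add_left_cancel h1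
  have hzadd : ∀ w w', z (w + w') = z w + z w' := by
    intro w w'
    obtain ⟨a, ha⟩ := exists_Val (q := q) w
    obtain ⟨a', ha'⟩ := exists_Val (q := q) w'
    symm
    apply huniq (w + w') _ _ (Val_add ha ha') (tz_add (hz1 w) (hz1 w'))
    rw [← fr.sgt_mul ha ha', map_mul, map_mul, hz2 w a ha, hz2 w' a' ha', ← map_mul,
      fr.sgt_mul (Val_add_tz ha (hz1 w)) (Val_add_tz ha' (hz1 w'))]
    congr 2
    ring
  have hz0 : z 0 = 0 := by
    have := hzadd 0 0
    rw [add_zero] at this
    exact left_eq_add.mp this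
  -- equivariance
  have hequi : ∀ l ∈ fr.Lv, fr.lt l * (fr.lt l) ^ q = 1 → ∀ w, z (fr.Lam l w) = z w := by
    intro l hl hN w
    obtain ⟨l', hl', hll⟩ : ∃ l' ∈ fr.Lv, β (pr l) = pr l' := by
      obtain ⟨l', hl', h⟩ := map_Lb p hβ.hE hβ.hEf (fr.mem_Lb_iff.mpr hl)
      exact ⟨l', hl', h.symm⟩
    have hE1 : ∀ w, fr.Lam l' w = fr.Lam l w := fun w =>
      Rel_unique p hβ.hE (Rel_conj hl hl' hll (hrel w)) (hrel (fr.Lam l w))
    have hN' : fr.lt l' * (fr.lt l') ^ q = 1 := by
      obtain ⟨s, hs0, hs⟩ := exists_tz_ne_zero (F := F) (q := q)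
      have hv : Val q (0 : Fin k → F) s := Val_zero_iff.mpr hs
      have h1 : β (pr (l * fr.sgt 0 s * l⁻¹)) = pr (l' * fr.sgt 0 s * l'⁻¹) := by
        rw [map_mul, map_mul, map_inv, map_mul, map_mul, map_inv, hll, fr.sgt_zero_left hs, hT s hs,
          map_mul, map_mul, map_inv]
      rw [fr.conj_sgt hl hv, fr.conj_sgt hl' hv, lact_zero, lact_zero, smul_zero, smul_zero, hN,
        one_mul, fr.sgt_zero_left hs, hT s hs, ← fr.sgt_zero_left hs] at h1
      have h2 := (fr.pr_sgt_inj p hv (by
        have := fr.Val_conj hl' hv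
        rw [lact_zero, smul_zero] at this
        exact this) h1).2
      have h3 : (fr.lt l' * (fr.lt l') ^ q - 1) * s = 0 := by linear_combination -h2
      exact sub_eq_zero.mp ((mul_eq_zero.mp h3).resolve_right hs0)
    obtain ⟨a, ha⟩ := exists_Val (q := q) w
    symm
    have hva := fr.Val_conj hl ha
    rw [hN, one_mul] at hva
    apply huniq (fr.Lam l w) a (z w) hva (hz1 w)
    have h1 : β (pr (l * fr.sgt w a * l⁻¹)) = pr (l' * fr.sgt w (a + z w) * l'⁻¹) := by
      rw [map_mul, map_mul, map_inv, map_mul, map_mul, map_inv, hll, hz2 w a ha, map_mul, map_mul,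
        map_inv]
    rw [fr.conj_sgt hl ha, fr.conj_sgt hl' (Val_add_tz ha (hz1 w)), hN, hN', one_mul, one_mul] at h1
    exact h1.trans (by rw [← hE1 w]; rfl)
  -- `z` vanishes on the coordinate lines
  have hzline : ∀ (j : Fin k) (c : F), z (Pi.single j c) = 0 := by
    intro j
    obtain ⟨i, u, hu, hρ⟩ : ∃ (i : Fin k) (u : F), u * u ^ q = 1 ∧
        u ^ q * (if j = i then u ^ q / u else 1) ≠ 1 := by
      by_cases h2 : 2 ≤ k
      · obtain ⟨i, hij⟩ : ∃ i : Fin k, j ≠ i := by
          by_cases h0 : j.val = 0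
          · refine ⟨⟨1, by omega⟩, ?_⟩
            intro h
            have := congrArg Fin.val h
            simp at this
            omega
          · refine ⟨⟨0, by omega⟩, ?_⟩
            intro h
            have := congrArg Fin.val h
            simp at this
            omega
        obtain ⟨u, hu, hu1⟩ := exists_zeta hF.out (K := F)
        refine ⟨i, u, hu, ?_⟩
        rw [if_neg hij, mul_one]
        intro h
        apply hu1
        rw [h, mul_one] at hu
        exact hu
      · have hk1 : k = 1 := by omega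
        have hq2 : q ≠ 2 := fun h => hkq ⟨hk1, h⟩
        obtain ⟨u, hu, hu3⟩ := exists_zeta_pow (F := F) (q := q) (m := 3) (by norm_num) (by omega)
        refine ⟨j, u, hu, ?_⟩
        rw [if_pos rfl]
        have hu0 : u ≠ 0 := by
          rintro rfl
          rw [zero_mul] at hu
          exact zero_ne_one hu
        intro h
        apply hu3
        have h1 : u ^ q = u⁻¹ := eq_inv_of_mul_eq_one_right hu
        rw [h1] at h
        field_simp at h
        exact h.symm
    have hu0 : u ≠ 0 := by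
      rintro rfl
      rw [zero_mul] at hu
      exact zero_ne_one hu
    set ρ := u ^ q * (if j = i then u ^ q / u else 1) with hρdef
    have h1 : ∀ c : F, z (Pi.single j (ρ * c)) = z (Pi.single j c) := by
      intro c
      have h2 := hequi _ (fr.dg_mem_Lv hu0 i) (by rw [fr.lt_dg]; exact hu) (Pi.single j c)
      unfold Lam at h2
      rw [fr.lt_dg, fr.lact_dg, dgD_single, single_smul'] at h2
      rw [← h2]
      congr 2
      rw [hρdef]
      by_cases hji : j = i
      · rw [if_pos hji, if_pos hji]; ring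
      · rw [if_neg hji, if_neg hji]; ring
    intro c
    have hρ1 : ρ - 1 ≠ 0 := sub_ne_zero.mpr hρ
    have h2 := h1 (c / (ρ - 1))
    have h3 : Pi.single j (ρ * (c / (ρ - 1))) =
        (Pi.single j c : Fin k → F) + Pi.single j (c / (ρ - 1)) := by
      rw [← Pi.single_add]
      congr 1
      field_simp
      ring
    rw [h3, hzadd] at h2
    exact add_eq_right.mp h2
  have hzall : ∀ w, z w = 0 := by
    intro w
    let z' : (Fin k → F) →+ F := AddMonoidHom.mk' z hzadd
    have h1 : z' w = ∑ j, z' (Pi.single j (w j)) := by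
      rw [← map_sum, Finset.univ_sum_single]
    have h2 : ∀ j, z' (Pi.single j (w j)) = 0 := fun j => hzline j (w j)
    simp only [h2, Finset.sum_const_zero] at h1
    exact h1
  intro x hx
  obtain ⟨w, a, ha, rfl⟩ := fr.mem_Qb_iff.mp hx
  rw [hz2 w a ha, hzall, add_zero]

end Frame

end Cfsg.Agent.Helper8.AutSU
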