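import Mathlib
import Cfsg.Agent.Helper8.AutSUzb

set_option autoImplicit false
set_option linter.unusedSectionVars false

/-! Automorphisms of `PSU_n(q)`: an automorphism fixing the root groups of `e`, `f` and the
unipotent radical elementwise is trivial (helper8). -/

namespace Cfsg.Agent.Helper8.AutSU

open Matrix Cfsg Cfsg.Agent.Helper7.Herm Cfsg.Agent.Helper8.GUOrder Cfsg.Agent.Helper8.SURoot
open Cfsg.Agent.Helper8.AutSLn (aut_mul_conj')
open scoped Pointwise

variable {F : Type*} [Field F] [Fintype F] {q k N : ℕ} [hF : Fact (Fintype.card F = q ^ 2)]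

theorem frob_inj {a b : F} (h : a ^ q = b ^ q) : a = b := by
  rw [← bb (q := q) a, ← bb (q := q) b, h]

/-- a vector whose orthogonal contains the orthogonal of `x` is a multiple of `x` -/
theorem perp_le {x x' : Fin N → F} (hx : x ≠ 0)
    (h : ∀ w, hermForm N F q w x = 0 → hermForm N F q w x' = 0) : ∃ μ : F, x' = μ • x := by
  obtain ⟨i, hi⟩ : ∃ i, x i ≠ 0 := by
    by_contra h0
    push Not at h0
    exact hx (funext h0)
  refine ⟨x' i / x i, ?_⟩
  ext j
  have hiq : x i ^ q ≠ 0 := pow_ne_zero q hi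
  have h1 := h (Pi.single j 1 - ((x j / x i) ^ q) • Pi.single i 1) (by
    rw [hermForm_sub_left, hermForm_smul_left, h_single_left, h_single_left, div_pow]
    field_simp
    ring)
  rw [hermForm_sub_left, hermForm_smul_left, h_single_left, h_single_left, ← mul_pow] at h1
  have h2 := frob_inj (sub_eq_zero.mp h1)
  rw [Pi.smul_apply, smul_eq_mul, h2]
  field_simp

namespace Frame

variable {fr : Frame F q k}

/-- isotropic vectors not orthogonal to `e` are images of `f` under the unipotent radical -/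
theorem opp_eq {v : Fin (k + 2) → F} (hv : hermForm (k + 2) F q v v = 0)
    (hne : hermForm (k + 2) F q v fr.e ≠ 0) :
    ∃ w a, Val q w a ∧ v = hermForm (k + 2) F q v fr.e • (mt (fr.sgt w a) *ᵥ fr.f) := by
  set α := hermForm (k + 2) F q v fr.f with hα
  set β₀ := hermForm (k + 2) F q v fr.e with hβ₀
  have hdec := fr.dec v
  rw [← hα, ← hβ₀] at hdec
  have h2 : α * β₀ ^ q + β₀ * α ^ q + hermForm k F q (wp v) (wp v) = 0 := by
    have := fr.h_dec v v
    rw [hv, ← hα, ← hβ₀] at this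
    exact this.symm
  have hβq0 : β₀ ^ q ≠ 0 := pow_ne_zero q hne
  have ha : Val q (β₀⁻¹ • wp v) (β₀⁻¹ * α) := by
    unfold Val
    rw [hermForm_smul_left, hermForm_smul_right, mul_pow, b_inv]
    field_simp
    linear_combination h2
  refine ⟨_, _, ha, ?_⟩
  rw [fr.sgt_f ha, iw_smul]
  conv_lhs => rw [hdec]
  rw [smul_add, smul_add, smul_smul, smul_smul, mul_inv_cancel₀ hne, one_smul, ← mul_assoc,
    mul_inv_cancel₀ hne, one_mul]
  abel

theorem smul_conj_Xb {β : MulAut (PSU (k + 2) F q)} {x : PSU (k + 2) F q} (hx : β x = x)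
    {R : Subgroup (PSU (k + 2) F q)} (hR : β • R = R) : β • (MulAut.conj x • R) = MulAut.conj x • R := by
  rw [smul_smul, aut_mul_conj', hx, ← smul_smul, hR]

/-- root groups of points not orthogonal to `e` are fixed -/
theorem fix_opp {β : MulAut (PSU (k + 2) F q)} (hβ : fr.Fixes β) (hQ : ∀ x ∈ fr.Qb, β x = x)
    {v : Fin (k + 2) → F} (hv : hermForm (k + 2) F q v v = 0)
    (hne : hermForm (k + 2) F q v fr.e ≠ 0) : β • Xb (q := q) v = Xb v := by
  obtain ⟨w, a, ha, hva⟩ := opp_eq hv hne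
  have h0 : mt (fr.sgt w a) *ᵥ fr.f ≠ 0 := mulVec_ne_zero' _ fr.f_ne_zero
  have h1 : hermForm (k + 2) F q (mt (fr.sgt w a) *ᵥ fr.f) (mt (fr.sgt w a) *ᵥ fr.f) = 0 := by
    rw [herm_mt, fr.hf]
  rw [hva, Xb_smul h0 h1 hne, ← conj_smul_Xb _ fr.f_ne_zero fr.hf]
  exact smul_conj_Xb (hQ _ (fr.mem_Qb_iff.mpr ⟨w, a, ha, rfl⟩)) hβ.hEf

end Frame

end Cfsg.Agent.Helper8.AutSU
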