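import Mathlib
import Cfsg.Agent.Helper8.AutSUzc

set_option autoImplicit false
set_option linter.unusedSectionVars false

/-! Automorphisms of `PSU_n(q)`: an automorphism fixing the root groups of `e`, `f` and the
unipotent radical elementwise is trivial, part 2 (helper8). -/

namespace Cfsg.Agent.Helper8.AutSU

open Matrix Cfsg Cfsg.Agent.Helper7.Herm Cfsg.Agent.Helper8.GUOrder Cfsg.Agent.Helper8.SURoot
open Cfsg.Agent.Helper8.AutSLn (aut_mul_conj')
open scoped Pointwise

variable {F : Type*} [Field F] [Fintype F] {q k N : ℕ} [hF : Fact (Fintype.card F = q ^ 2)]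

theorem comm_smul {G : Type*} [Group G] (β : MulAut G) (A B : Subgroup G) :
    (∀ x ∈ β • A, ∀ y ∈ β • B, x * y = y * x) ↔ (∀ x ∈ A, ∀ y ∈ B, x * y = y * x) := by
  constructor
  · intro h x hx y hy
    have h1 := h (β x) (Subgroup.smul_mem_pointwise_smul _ _ _ hx) (β y)
      (Subgroup.smul_mem_pointwise_smul _ _ _ hy)
    rw [← map_mul, ← map_mul] at h1
    exact β.injective h1
  · intro h x hx y hy
    rw [Subgroup.mem_pointwise_smul_iff_inv_smul_mem] at hx hy
    have h1 := h _ hx _ hy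
    have h2 := congrArg (fun t => β • t) h1
    simp only [smul_mul', smul_inv_smul] at h2
    exact h2

namespace Frame

variable {fr : Frame F q k}

theorem h_opp_e {w : Fin k → F} {a : F} (ha : Val q w a) :
    hermForm (k + 2) F q (mt (fr.sgt w a) *ᵥ fr.f) fr.e = 1 := by
  rw [fr.sgt_f ha, hermForm_add_left, hermForm_add_left, hermForm_smul_left, fr.hfe, fr.hwe, fr.he]
  ring

theorem h_opp_perp {w : Fin k → F} {a : F} (ha : Val q w a) {v : Fin (k + 2) → F}
    (hve : hermForm (k + 2) F q v fr.e = 0) :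
    hermForm (k + 2) F q (mt (fr.sgt w a) *ᵥ fr.f) v =
      (hermForm (k + 2) F q v fr.f) ^ q + hermForm k F q w (wp v) := by
  have hdec := fr.dec v
  rw [hve, zero_smul, add_zero] at hdec
  rw [fr.sgt_f ha]
  conv_lhs => rw [hdec]
  simp only [hermForm_add_left, h_add_right, hermForm_smul_left, hermForm_smul_right, fr.he,
    fr.hf, fr.hef, fr.hfe, fr.hwe, fr.hwf, fr.hew, fr.hfw, h_iw]
  ring

theorem par_of_perp {v v' : Fin (k + 2) → F} (hv0' : v' ≠ 0)
    (hve : hermForm (k + 2) F q v fr.e = 0) (hve' : hermForm (k + 2) F q v' fr.e = 0)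
    (hx : wp v ≠ 0)
    (H : ∀ o : Fin (k + 2) → F, hermForm (k + 2) F q o o = 0 → hermForm (k + 2) F q o fr.e ≠ 0 →
      (hermForm (k + 2) F q o v = 0 ↔ hermForm (k + 2) F q o v' = 0)) :
    ∃ c : F, c ≠ 0 ∧ v' = c • v := by
  have key : ∀ w : Fin k → F,
      ((hermForm (k + 2) F q v fr.f) ^ q + hermForm k F q w (wp v) = 0 ↔
        (hermForm (k + 2) F q v' fr.f) ^ q + hermForm k F q w (wp v') = 0) := by
    intro w
    obtain ⟨a, ha⟩ := exists_Val (q := q) w
    have h1 := H (mt (fr.sgt w a) *ᵥ fr.f) (by rw [herm_mt, fr.hf])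
      (by rw [h_opp_e ha]; exact one_ne_zero)
    rw [h_opp_perp ha hve, h_opp_perp ha hve'] at h1
    exact h1
  set α := hermForm (k + 2) F q v fr.f with hα
  set α' := hermForm (k + 2) F q v' fr.f with hα'
  obtain ⟨u, hu⟩ := exists_herm_eq_one (q := q) hx
  set w₀ := (-(α ^ q)) • u with hw₀
  have hw₀x : α ^ q + hermForm k F q w₀ (wp v) = 0 := by
    rw [hw₀, hermForm_smul_left, hu]
    ring
  have hw₀x' := (key w₀).mp hw₀x
  obtain ⟨μ, hμ⟩ := perp_le (q := q) hx (fun w₁ hw₁ => by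
    have h1 : α ^ q + hermForm k F q (w₀ + w₁) (wp v) = 0 := by
      rw [hermForm_add_left, hw₁, add_zero]
      exact hw₀x
    have h2 := (key (w₀ + w₁)).mp h1
    rw [hermForm_add_left] at h2
    linear_combination h2 - hw₀x')
  have hαμ : α' = μ * α := by
    apply frob_inj (q := q)
    rw [hμ, hermForm_smul_right] at hw₀x'
    rw [mul_pow]
    linear_combination hw₀x' - μ ^ q * hw₀x
  have hdec := fr.dec v
  have hdec' := fr.dec v'
  rw [hve, zero_smul, add_zero, ← hα] at hdec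
  rw [hve', zero_smul, add_zero, ← hα', hαμ, hμ] at hdec'
  have h3 : v' = μ • v := by
    rw [hdec', iw_smul]
    conv_rhs => rw [hdec]
    rw [smul_add, smul_smul]
  refine ⟨μ, ?_, h3⟩
  rintro rfl
  rw [zero_smul] at h3
  exact hv0' h3

/-- all root groups are fixed -/
theorem fix_all (p : ℕ) [Fact p.Prime] [CharP F p] (hk : 1 ≤ k) {β : MulAut (PSU (k + 2) F q)}
    (hβ : fr.Fixes β) (hQ : ∀ x ∈ fr.Qb, β x = x) {v : Fin (k + 2) → F} (hv0 : v ≠ 0)
    (hv : hermForm (k + 2) F q v v = 0) : β • Xb (q := q) v = Xb v := by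
  by_cases hve : hermForm (k + 2) F q v fr.e = 0
  swap
  · exact fix_opp hβ hQ hv hve
  by_cases hx : wp v = 0
  · have hdec := fr.dec v
    rw [hve, zero_smul, add_zero, hx, iw_zero, add_zero] at hdec
    have hc : hermForm (k + 2) F q v fr.f ≠ 0 := by
      intro h0
      rw [h0, zero_smul] at hdec
      exact hv0 hdec
    rw [hdec, Xb_smul fr.e_ne_zero fr.he hc]
    exact hβ.hE
  · obtain ⟨v', hv0', hv', hR⟩ := isRootU_smul p hk ⟨v, hv0, hv, rfl⟩ β
    have hN : 1 ≤ k + 2 := by omega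
    have hve' : hermForm (k + 2) F q v' fr.e = 0 := by
      apply h_eq_zero_of_swap
      rw [← comm_iff p hN fr.e_ne_zero fr.he hv0' hv', ← hR, ← hβ.hE, comm_smul,
        comm_iff p hN fr.e_ne_zero fr.he hv0 hv]
      exact h_eq_zero_of_swap hve
    obtain ⟨c, hc0, hc⟩ := par_of_perp hv0' hve hve' hx (fun o ho hoe => by
      have ho0 : o ≠ 0 := ne_zero_of_form_left hoe
      have hfo := fix_opp hβ hQ ho hoe
      rw [← comm_iff p hN ho0 ho hv0 hv, ← comm_iff p hN ho0 ho hv0' hv', ← hR]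
      conv_rhs => rw [← hfo]
      rw [comm_smul])
    rw [hR, hc, Xb_smul hv0 hv hc0]

/-- **an automorphism fixing all root groups is trivial** -/
theorem eq_one_of_fix_all (p : ℕ) [Fact p.Prime] [CharP F p] {β : MulAut (PSU (k + 2) F q)}
    (h : ∀ v : Fin (k + 2) → F, v ≠ 0 → hermForm (k + 2) F q v v = 0 → β • Xb (q := q) v = Xb v) :
    β = 1 := by
  ext x
  rw [MulAut.one_apply]
  have h1 : x⁻¹ * β x = 1 := by
    apply eq_one_of_normalizes p
    intro v hv0 hv
    obtain ⟨g, rfl⟩ := pr_surjective x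
    have h2 : MulAut.conj (pr g)⁻¹ • Xb (q := q) (mt g *ᵥ v) = Xb v := by
      rw [← conj_smul_Xb g hv0 hv, smul_smul, ← map_mul, inv_mul_cancel, map_one, one_smul]
    have h3 : MulAut.conj (β (pr g)) • Xb (q := q) v = Xb (mt g *ᵥ v) := by
      have h4 : MulAut.conj (β (pr g)) = β * MulAut.conj (pr g) * β⁻¹ := by
        rw [aut_mul_conj', mul_assoc, mul_inv_cancel, mul_one]
      rw [h4, mul_smul, mul_smul, smul_inv_Xb (h v hv0 hv), conj_smul_Xb g hv0 hv]
      exact h _ (mulVec_ne_zero' g hv0) (by rw [herm_mt, hv])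
    rw [map_mul, mul_smul, h3, h2]
  exact (inv_mul_eq_one.mp h1).symm

end Frame

end Cfsg.Agent.Helper8.AutSU
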