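import Mathlib
import Cfsg.Agent.Helper8.AutSUzd

set_option autoImplicit false
set_option linter.unusedSectionVars false

/-! Automorphisms of `PSU_n(q)`: every automorphism is induced by a unitary semilinear map
(helper8). -/

namespace Cfsg.Agent.Helper8.AutSU

open Matrix Cfsg Cfsg.Agent.Helper7.Herm Cfsg.Agent.Helper8.GUOrder Cfsg.Agent.Helper8.SURoot
open Cfsg.Agent.Helper8.AutSLn (aut_mul_conj')
open scoped Pointwise

variable {F : Type*} [Field F] [Fintype F] {q k N : ℕ} [hF : Fact (Fintype.card F = q ^ 2)]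

omit [Fintype F] hF in
theorem psuField_refl : (psuField (RingEquiv.refl F) : MulAut (PSU N F q)) = 1 := by
  have : (RingEquiv.refl F : F ≃+* F) = 1 := rfl
  rw [this, map_one]

omit [Fintype F] hF in
theorem psa_refl (g : GU N F q) : psa g (RingEquiv.refl F) = psuConj g := by
  unfold psa
  rw [psuField_refl, mul_one]

omit [Fintype F] hF in
theorem sm_refl (g : GU N F q) (v : Fin N → F) : sm g (RingEquiv.refl F) v = mg g *ᵥ v := rfl

/-- normalisation: after an inner-diagonal automorphism, the root groups of `e` and `f` are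
fixed -/
theorem exists_normalize (p : ℕ) [Fact p.Prime] [CharP F p] (hk : 1 ≤ k) (fr : Frame F q k)
    (β : MulAut (PSU (k + 2) F q)) : ∃ g : GU (k + 2) F q, fr.Fixes ((psuConj g)⁻¹ * β) := by
  have hN : 1 ≤ k + 2 := by omega
  obtain ⟨v₁, hv₁0, hv₁, h1⟩ := isRootU_smul p hk ⟨fr.e, fr.e_ne_zero, fr.he, rfl⟩ β
  obtain ⟨v₂, hv₂0, hv₂, h2⟩ := isRootU_smul p hk ⟨fr.f, fr.f_ne_zero, fr.hf, rfl⟩ β
  have hne : hermForm (k + 2) F q v₁ v₂ ≠ 0 := by
    intro h0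
    have h3 := (comm_iff p hN hv₁0 hv₁ hv₂0 hv₂).mpr h0
    rw [← h1, ← h2, comm_smul, comm_iff p hN fr.e_ne_zero fr.he fr.f_ne_zero fr.hf, fr.hef] at h3
    exact one_ne_zero h3
  set c := ((hermForm (k + 2) F q v₁ v₂)⁻¹) ^ q with hc
  have hc0 : c ≠ 0 := pow_ne_zero q (inv_ne_zero hne)
  have h12 : hermForm (k + 2) F q v₁ (c • v₂) = 1 := by
    rw [hermForm_smul_right, hc, bb, inv_mul_cancel₀ hne]
  have h22 : hermForm (k + 2) F q (c • v₂) (c • v₂) = 0 := by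
    rw [hermForm_smul_left, hermForm_smul_right, hv₂, mul_zero, mul_zero]
  obtain ⟨g, hg1, hg2⟩ := fr.exists_GU_pair hv₁ h22 h12
  refine ⟨g, ?_, ?_⟩
  · rw [mul_smul, h1, ← hg1, ← sm_refl, ← psa_smul_Xb g _ fr.e_ne_zero fr.he, psa_refl,
      inv_smul_smul]
  · rw [mul_smul, h2, ← Xb_smul hv₂0 hv₂ hc0, ← hg2, ← sm_refl,
      ← psa_smul_Xb g _ fr.f_ne_zero fr.hf, psa_refl, inv_smul_smul]

/-- **every automorphism of `PSU_n(q)` is induced by a unitary semilinear map** -/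
theorem aut_PSU_standard (p : ℕ) [Fact p.Prime] [CharP F p] (hk : 1 ≤ k)
    (hkq : ¬ (k = 1 ∧ q = 2)) (β : MulAut (PSU (k + 2) F q)) :
    ∃ (g : GU (k + 2) F q) (σ : F ≃+* F), β = psuConj g * psuField σ := by
  obtain ⟨fr⟩ := exists_frame (F := F) (q := q) k
  obtain ⟨g₁, hfix₁⟩ := exists_normalize p hk fr β
  obtain ⟨g₂, σ, hfix₂, hrel⟩ := Frame.exists_reduce p hk hkq hfix₁
  have hQ := Frame.fix_Qb p hk hkq hfix₂ hrel
  have h1 := Frame.eq_one_of_fix_all p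
    (fun v hv0 hv => Frame.fix_all p hk hfix₂ hQ hv0 hv)
  refine ⟨g₁ * g₂, σ, ?_⟩
  have h2 : β = psuConj g₁ * psa g₂ σ := by
    have h3 : (psa g₂ σ)⁻¹ * ((psuConj g₁)⁻¹ * β) = 1 := h1
    rw [inv_mul_eq_one] at h3
    rw [h3, mul_inv_cancel_left]
  rw [h2, map_mul, mul_assoc]
  rfl

end Cfsg.Agent.Helper8.AutSU
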