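import Mathlib
import Cfsg.Agent.Helper8.AutSUze

set_option autoImplicit false
set_option linter.unusedSectionVars false

/-! Automorphisms of `PSU_n(q)`: the kernel of the parametrisation by unitary semilinear maps
(helper8). -/

namespace Cfsg.Agent.Helper8.AutSU

open Matrix Cfsg Cfsg.Agent.Helper7.Herm Cfsg.Agent.Helper8.GUOrder Cfsg.Agent.Helper8.SURoot
open scoped Pointwise

variable {F : Type*} [Field F] [Fintype F] {q k N : ℕ} [hF : Fact (Fintype.card F = q ^ 2)]

/-- every field element is the `e`-coordinate of a Siegel element (rank at least one) -/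
theorem exists_Val_of (hk : 1 ≤ k) (a : F) : ∃ w : Fin k → F, Val q w a := by
  set c : F := -(a + a ^ q) with hc
  have hcq : c ^ q = c := by
    rw [hc, b_neg, b_add, bb, add_comm]
  by_cases hc0 : c = 0
  · refine ⟨0, ?_⟩
    rw [Val_zero_iff]
    have : a + a ^ q = 0 := by
      have := hc0
      rw [hc, neg_eq_zero] at this
      exact this
    rw [add_comm]
    exact this
  · obtain ⟨ζ, hζ⟩ := exists_norm hF.out hc0 hcq
    refine ⟨ζ • (Pi.single (⟨0, hk⟩ : Fin k) (1 : F) : Fin k → F), ?_⟩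
    show a + a ^ q + hermForm k F q _ _ = 0
    rw [hermForm_smul_left, hermForm_smul_right, h_single_single, mul_one, hζ, hc]
    ring

/-- a trivial semilinear automorphism fixes all the isotropic points -/
theorem sm_par_of_eq_one (p : ℕ) [Fact p.Prime] [CharP F p] (hN : 1 ≤ N) {g : GU N F q}
    {σ : F ≃+* F} (h : psuConj g * psuField σ = (1 : MulAut (PSU N F q))) {v : Fin N → F}
    (hv0 : v ≠ 0) (hv : hermForm N F q v v = 0) : ∃ c : F, sm g σ v = c • v := by
  have h1 := psa_smul_Xb g σ hv0 hv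
  have h2 : psa g σ = 1 := h
  rw [h2, one_smul] at h1
  have hv' : hermForm N F q (sm g σ v) (sm g σ v) = 0 := by rw [h_sm, hv, map_zero]
  obtain ⟨c, _, hc⟩ := par_of_Xb_eq p hN (sm_ne_zero g σ hv0) hv' hv0 hv h1.symm
  exact ⟨c, hc⟩

omit [Fintype F] hF in
theorem sm_one (g : GU N F q) (v : Fin N → F) : sm g (1 : F ≃+* F) v = mg g *ᵥ v := rfl

/-- **the kernel of the parametrisation**: a trivial semilinear automorphism has trivial field
part and scalar linear part -/
theorem eq_one_of_psa_eq_one (p : ℕ) [Fact p.Prime] [CharP F p] (hk : 1 ≤ k)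
    {g : GU (k + 2) F q} {σ : F ≃+* F}
    (h : psuConj g * psuField σ = (1 : MulAut (PSU (k + 2) F q))) :
    σ = 1 ∧ ∃ c : F, ∀ v, mg g *ᵥ v = c • v := by
  obtain ⟨fr⟩ := exists_frame (F := F) (q := q) k
  have hN : 1 ≤ k + 2 := by omega
  obtain ⟨a₀, ha₀⟩ := sm_par_of_eq_one p hN h fr.e_ne_zero fr.he
  obtain ⟨b₀, hb₀⟩ := sm_par_of_eq_one p hN h fr.f_ne_zero fr.hf
  have ha₀0 : a₀ ≠ 0 := by
    rintro rfl
    rw [zero_smul] at ha₀
    exact sm_ne_zero g σ fr.e_ne_zero ha₀
  have hb₀0 : b₀ ≠ 0 := by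
    rintro rfl
    rw [zero_smul] at hb₀
    exact sm_ne_zero g σ fr.f_ne_zero hb₀
  -- the images of the vectors of `W` are orthogonal to `e` and `f`
  have hwe : ∀ w : Fin k → F, hermForm (k + 2) F q (sm g σ (iw w)) fr.e = 0 := by
    intro w
    have h1 : hermForm (k + 2) F q (sm g σ (iw w)) (sm g σ fr.e) = 0 := by
      rw [h_sm, fr.hwe, map_zero]
    rw [ha₀, hermForm_smul_right] at h1
    rcases mul_eq_zero.mp h1 with h2 | h2
    · exact absurd h2 (pow_ne_zero _ ha₀0)
    · exact h2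
  have hwf : ∀ w : Fin k → F, hermForm (k + 2) F q (sm g σ (iw w)) fr.f = 0 := by
    intro w
    have h1 : hermForm (k + 2) F q (sm g σ (iw w)) (sm g σ fr.f) = 0 := by
      rw [h_sm, fr.hwf, map_zero]
    rw [hb₀, hermForm_smul_right] at h1
    rcases mul_eq_zero.mp h1 with h2 | h2
    · exact absurd h2 (pow_ne_zero _ hb₀0)
    · exact h2
  have key : ∀ a : F, σ a * a₀ = b₀ * a := by
    intro a
    obtain ⟨w, hw⟩ := exists_Val_of (q := q) hk a
    have hx : hermForm (k + 2) F q (fr.f + iw w + a • fr.e) (fr.f + iw w + a • fr.e) = 0 := by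
      rw [← fr.sg_f hw, herm_mt, fr.hf]
    have hx0 : fr.f + iw w + a • fr.e ≠ 0 := by
      rw [← fr.sg_f hw]
      exact mulVec_ne_zero' _ fr.f_ne_zero
    obtain ⟨d, hd⟩ := sm_par_of_eq_one p hN h hx0 hx
    rw [sm_add, sm_add, sm_smul, ha₀, hb₀] at hd
    have h1 := congrArg (fun x => hermForm (k + 2) F q x fr.e) hd
    have h2 := congrArg (fun x => hermForm (k + 2) F q x fr.f) hd
    simp only [hermForm_add_left, hermForm_smul_left, fr.hfe, fr.he, hwe, fr.hwe, fr.hef, fr.hf,
      hwf, fr.hwf, mul_zero, mul_one, add_zero, zero_add] at h1 h2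
    rw [← h1] at h2
    exact h2
  have hab : a₀ = b₀ := by
    have := key 1
    rw [map_one, one_mul, mul_one] at this
    exact this
  have hσ : σ = 1 := by
    ext a
    have := key a
    rw [hab, mul_comm] at this
    exact mul_left_cancel₀ hb₀0 this
  refine ⟨hσ, ?_⟩
  subst hσ
  apply scalar_of_fix_points (q := q)
  intro x hx0 hx
  obtain ⟨d, hd⟩ := sm_par_of_eq_one p hN h hx0 hx
  exact ⟨d, hd⟩

end Cfsg.Agent.Helper8.AutSU
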