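import Mathlib
import Cfsg.Agent.Helper8.AutSUzf
import Cfsg.Agent.Helper8.AutSLnN
import Cfsg.Agent.Helper8.SUCenter
import Cfsg.Agent.Helper7.FieldAutCard

set_option autoImplicit false
set_option linter.unusedSectionVars false

/-! Automorphisms of `PSU_n(q)`: relations between the standard automorphisms, the scalars, and
the order of the automorphism group (helper8). -/

namespace Cfsg.Agent.Helper8.AutSU

open Matrix Cfsg Cfsg.Agent.Helper7.Herm Cfsg.Agent.Helper8.GUOrder Cfsg.Agent.Helper8.SURoot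
open Cfsg.Agent.Helper8.AutSLn (slConj slConj_coe slField slField_coe slField_mul_slConj)
open scoped Pointwise

variable {F : Type*} [Field F] [Fintype F] {q k N : ℕ} [hF : Fact (Fintype.card F = q ^ 2)]

/-- a field automorphism applied to the entries of a unitary matrix -/
def guField (σ : F ≃+* F) (g : GU N F q) : GU N F q :=
  ⟨Matrix.GeneralLinearGroup.map (σ : F →+* F) (g : GL (Fin N) F), by
    intro u v
    show hermForm N F q ((mg g).map σ *ᵥ u) ((mg g).map σ *ᵥ v) = _
    rw [map_mulVec', map_mulVec', h_sv, herm_mg, ← h_sv, sv_sv_symm, sv_sv_symm]⟩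

omit [Fintype F] hF in
theorem mg_guField (σ : F ≃+* F) (g : GU N F q) : mg (guField σ g) = (mg g).map σ := rfl

omit [Fintype F] hF in
theorem suField_mul_suConj (σ : F ≃+* F) (g : GU N F q) :
    (suField σ * suConj g : MulAut (SU N F q)) = suConj (guField σ g) * suField σ := by
  ext s : 1
  apply Subtype.ext
  have h := DFunLike.congr_fun (slField_mul_slConj σ (g : GL (Fin N) F)) s.1
  exact h

omit [Fintype F] hF in
theorem psuField_mul_psuConj (σ : F ≃+* F) (g : GU N F q) :
    (psuField σ * psuConj g : MulAut (PSU N F q)) = psuConj (guField σ g) * psuField σ := by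
  show psuLift (suField σ) * psuLift (suConj g) = psuLift (suConj _) * psuLift (suField σ)
  rw [← map_mul, suField_mul_suConj, map_mul]

omit [Fintype F] hF in
/-- the product of two semilinear automorphisms -/
theorem psa_mul (g g' : GU N F q) (σ σ' : F ≃+* F) :
    psa g σ * psa g' σ' = psa (g * guField σ g') (σ * σ') := by
  unfold psa
  rw [map_mul, map_mul, mul_assoc, ← mul_assoc (psuField σ), psuField_mul_psuConj]
  simp only [mul_assoc]

/-- the special unitary matrices as unitary matrices -/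
def toGU : SU N F q →* GU N F q where
  toFun s := ⟨Matrix.SpecialLinearGroup.toGL s.1, fun u v => s.2 u v⟩
  map_one' := by
    apply Subtype.ext
    exact map_one _
  map_mul' s t := by
    apply Subtype.ext
    exact map_mul _ s.1 t.1

omit [Fintype F] hF in
theorem mg_toGU (s : SU N F q) : mg (toGU s) = mt s := rfl

omit [Fintype F] hF in
theorem suConj_toGU (s t : SU N F q) : suConj (toGU s) t = s * t * s⁻¹ := by
  rw [eq_mul_inv_iff_mul_eq]
  apply ext_mulVec
  intro v
  rw [mt_mul_mulVec, suConj_mulVec, ← mg_toGU s, mg_inv_mulVec', mt_mul_mulVec, mg_toGU]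

omit [Fintype F] hF in
theorem psuConj_toGU (s : SU N F q) :
    (psuConj (toGU s) : MulAut (PSU N F q)) = MulAut.conj (pr s) := by
  ext x
  obtain ⟨t, rfl⟩ := pr_surjective x
  rw [psuConj_pr, suConj_toGU, MulAut.conj_apply, map_mul, map_mul, map_inv]

omit [Fintype F] hF in
theorem psuConj_eq_one_of_scalar {g : GU N F q} {c : F} (h : ∀ v, mg g *ᵥ v = c • v) :
    (psuConj g : MulAut (PSU N F q)) = 1 := by
  ext x
  obtain ⟨t, rfl⟩ := pr_surjective x
  rw [psuConj_pr, MulAut.one_apply]
  congr 1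
  apply ext_mulVec
  intro v
  rw [suConj_mulVec, h, ← mulVec_smul, ← h, mg_inv_mulVec]

theorem mem_ker_psuConj_iff (p : ℕ) [Fact p.Prime] [CharP F p] (hk : 1 ≤ k)
    {g : GU (k + 2) F q} :
    g ∈ (psuConj : GU (k + 2) F q →* MulAut (PSU (k + 2) F q)).ker ↔
      ∃ c : F, ∀ v, mg g *ᵥ v = c • v := by
  rw [MonoidHom.mem_ker]
  constructor
  · intro h
    exact (eq_one_of_psa_eq_one p hk (σ := 1) (by rw [map_one, mul_one, h])).2
  · rintro ⟨c, hc⟩
    exact psuConj_eq_one_of_scalar hc

/-- the scalar unitary matrices -/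
def scalGU (N : ℕ) (ζ : F) (hζ : ζ * ζ ^ q = 1) : GU N F q := ⟨SG N ζ hζ, SG_mem ζ hζ⟩

omit hF in
theorem scalGU_mulVec (ζ : F) (hζ : ζ * ζ ^ q = 1) (v : Fin N → F) :
    mg (scalGU N ζ hζ : GU N F q) *ᵥ v = ζ • v := SG_mulVec ζ hζ v

/-- the kernel of the inner-diagonal automorphisms has `q + 1` elements -/
theorem card_ker_psuConj (p : ℕ) [Fact p.Prime] [CharP F p] (hk : 1 ≤ k) :
    Nat.card (psuConj : GU (k + 2) F q →* MulAut (PSU (k + 2) F q)).ker = q + 1 := by
  have h1 : Nat.card (powMonoidHom (q + 1) : Fˣ →* Fˣ).ker = q + 1 := by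
    rw [IsCyclic.card_powMonoidHom_ker, card_units_K hF.out, qsq_sub_one hF.out,
      Nat.gcd_eq_right (Dvd.intro_left _ rfl)]
  rw [← h1]
  symm
  obtain ⟨fr⟩ := exists_frame (F := F) (q := q) k
  have key : ∀ u : Fˣ, u ∈ (powMonoidHom (q + 1) : Fˣ →* Fˣ).ker → (u : F) * (u : F) ^ q = 1 := by
    intro u hu
    rw [MonoidHom.mem_ker, powMonoidHom_apply] at hu
    have := congrArg Units.val hu
    rwa [Units.val_pow_eq_pow_val, Units.val_one, pow_succ'] at this
  refine Nat.card_congr (Equiv.ofBijective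
    (fun u : (powMonoidHom (q + 1) : Fˣ →* Fˣ).ker =>
      (⟨scalGU (k + 2) (u.1 : F) (key u.1 u.2),
        (mem_ker_psuConj_iff p hk).mpr ⟨(u.1 : F), scalGU_mulVec _ _⟩⟩ :
        (psuConj : GU (k + 2) F q →* MulAut (PSU (k + 2) F q)).ker)) ⟨?_, ?_⟩)
  · intro u v h
    have h2 : mg (scalGU (k + 2) (u.1 : F) (key u.1 u.2) : GU (k + 2) F q) *ᵥ fr.e =
        mg (scalGU (k + 2) (v.1 : F) (key v.1 v.2) : GU (k + 2) F q) *ᵥ fr.e := by
      have := congrArg (fun x : (psuConj : GU (k + 2) F q →* MulAut (PSU (k + 2) F q)).ker =>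
        mg x.1 *ᵥ fr.e) h
      exact this
    rw [scalGU_mulVec, scalGU_mulVec] at h2
    have h3 : ((u.1 : F) - (v.1 : F)) • fr.e = 0 := by rw [sub_smul, h2, sub_self]
    rcases smul_eq_zero.mp h3 with h4 | h4
    · exact Subtype.ext (Units.ext (sub_eq_zero.mp h4))
    · exact absurd h4 fr.e_ne_zero
  · rintro ⟨g, hg⟩
    obtain ⟨c, hc⟩ := (mem_ker_psuConj_iff p hk).mp hg
    have hcc : c * c ^ q = 1 := by
      have := herm_mg g fr.e fr.f
      rw [hc, hc, hermForm_smul_left, hermForm_smul_right, fr.hef, mul_one] at this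
      exact this
    have hc0 : c ≠ 0 := by
      rintro rfl
      rw [zero_mul] at hcc
      exact zero_ne_one hcc
    have hmem : Units.mk0 c hc0 ∈ (powMonoidHom (q + 1) : Fˣ →* Fˣ).ker := by
      rw [MonoidHom.mem_ker, powMonoidHom_apply]
      apply Units.ext
      rw [Units.val_pow_eq_pow_val, Units.val_mk0, Units.val_one, pow_succ']
      exact hcc
    refine ⟨⟨Units.mk0 c hc0, hmem⟩, ?_⟩
    apply Subtype.ext
    apply Subtype.ext
    apply Units.ext
    apply Matrix.ext_iff_mulVec.mpr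
    intro v
    show mg (scalGU (k + 2) c _ : GU (k + 2) F q) *ᵥ v = mg g *ᵥ v
    rw [hc]
    exact scalGU_mulVec c _ v

end Cfsg.Agent.Helper8.AutSU
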