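import Mathlib
import Cfsg.Agent.Helper8.AutSUzg

set_option autoImplicit false
set_option linter.unusedSectionVars false

/-! Automorphisms of `PSU_n(q)`: the order of the automorphism group (helper8). -/

namespace Cfsg.Agent.Helper8.AutSU

open Matrix Cfsg Cfsg.Agent.Helper7.Herm Cfsg.Agent.Helper8.GUOrder Cfsg.Agent.Helper8.SURoot
open scoped Pointwise

variable {F : Type*} [Field F] [Fintype F] {q k N : ℕ} [hF : Fact (Fintype.card F = q ^ 2)]

/-- uniqueness of the parameters of a semilinear automorphism -/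
theorem psa_unique (p : ℕ) [Fact p.Prime] [CharP F p] (hk : 1 ≤ k) {g g' : GU (k + 2) F q}
    {σ σ' : F ≃+* F}
    (h : (psuConj g * psuField σ : MulAut (PSU (k + 2) F q)) = psuConj g' * psuField σ') :
    σ = σ' ∧ g'⁻¹ * g ∈ (psuConj : GU (k + 2) F q →* MulAut (PSU (k + 2) F q)).ker := by
  have h2 : (psuConj (g'⁻¹ * g) * psuField (σ * σ'⁻¹) : MulAut (PSU (k + 2) F q)) = 1 := by
    rw [map_mul, map_mul, map_inv, map_inv, mul_assoc, ← mul_assoc (psuConj g), h]
    group
  obtain ⟨h3, h4⟩ := eq_one_of_psa_eq_one p hk h2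
  exact ⟨mul_inv_eq_one.mp h3, (mem_ker_psuConj_iff p hk).mpr h4⟩

/-- the inner-diagonal automorphisms, on the quotient by the scalars -/
noncomputable def psuConjBar (N : ℕ) (F : Type*) [Field F] (q : ℕ) :
    GU N F q ⧸ (psuConj : GU N F q →* MulAut (PSU N F q)).ker →* MulAut (PSU N F q) :=
  QuotientGroup.kerLift psuConj

omit [Fintype F] hF in
theorem psuConjBar_mk (g : GU N F q) : psuConjBar N F q (QuotientGroup.mk g) = psuConj g := rfl

/-- the order of the automorphism group, first form -/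
theorem card_aut_PSU_aux (p : ℕ) [Fact p.Prime] [CharP F p] (hk : 1 ≤ k)
    (hkq : ¬ (k = 1 ∧ q = 2)) :
    Nat.card (MulAut (PSU (k + 2) F q)) =
      Nat.card (GU (k + 2) F q ⧸
        (psuConj : GU (k + 2) F q →* MulAut (PSU (k + 2) F q)).ker) * Nat.card (F ≃+* F) := by
  rw [← Nat.card_prod]
  symm
  apply Nat.card_eq_of_bijective
    (fun x : (GU (k + 2) F q ⧸ (psuConj : GU (k + 2) F q →* MulAut (PSU (k + 2) F q)).ker) ×
      (F ≃+* F) => psuConjBar (k + 2) F q x.1 * psuField x.2)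
  constructor
  · rintro ⟨x, σ⟩ ⟨x', σ'⟩ h
    obtain ⟨g, rfl⟩ := QuotientGroup.mk_surjective x
    obtain ⟨g', rfl⟩ := QuotientGroup.mk_surjective x'
    have h1 : (psuConj g * psuField σ : MulAut (PSU (k + 2) F q)) = psuConj g' * psuField σ' := h
    obtain ⟨h2, h3⟩ := psa_unique p hk h1
    rw [h2]
    congr 1
    exact (QuotientGroup.eq.mpr h3).symm
  · intro β
    obtain ⟨g, σ, rfl⟩ := aut_PSU_standard p hk hkq β
    exact ⟨(QuotientGroup.mk g, σ), rfl⟩

theorem card_quot_ker (p : ℕ) [Fact p.Prime] [CharP F p] (hk : 1 ≤ k) :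
    Nat.card (GU (k + 2) F q ⧸
      (psuConj : GU (k + 2) F q →* MulAut (PSU (k + 2) F q)).ker) =
      Nat.card (SU (k + 2) F q) := by
  have h1 := Subgroup.card_eq_card_quotient_mul_card_subgroup
    (psuConj : GU (k + 2) F q →* MulAut (PSU (k + 2) F q)).ker
  rw [card_ker_psuConj p hk, ← card_SU hF.out (by omega : 1 ≤ k + 2), mul_comm] at h1
  exact (Nat.eq_of_mul_eq_mul_right (Nat.succ_pos q) h1).symm

theorem card_SU_eq (hN : 1 ≤ N) :
    Nat.card (SU N F q) = Nat.gcd N (q + 1) * Nat.card (PSU N F q) := by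
  rw [Subgroup.card_eq_card_quotient_mul_card_subgroup (Subgroup.center (SU N F q)),
    Cfsg.Agent.Helper8.SUCenter.card_center hF.out hN, mul_comm]

/-- **the order of the automorphism group of `PSU_n(q)`** -/
theorem card_aut_PSU (p f : ℕ) [Fact p.Prime] (hq : q = p ^ f) (hk : 1 ≤ k)
    (hkq : ¬ (k = 1 ∧ q = 2)) :
    Nat.card (MulAut (PSU (k + 2) F q)) =
      Nat.gcd (k + 2) (q + 1) * (2 * f) * Nat.card (PSU (k + 2) F q) := by
  have hF' : Fintype.card F = p ^ (2 * f) := by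
    rw [hF.out, hq, ← pow_mul, mul_comm]
  have : CharP F p := charP_of_card_eq_prime_pow hF'
  rw [card_aut_PSU_aux p hk hkq, card_quot_ker p hk, card_SU_eq (by omega : 1 ≤ k + 2),
    Cfsg.Agent.Helper7.FieldAutCard.card_ringAut p (2 * f) hF']
  ring

end Cfsg.Agent.Helper8.AutSU
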