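import Mathlib
import Cfsg.Prelude.Def_KGroupFacts
import Cfsg.Agent.Helper8.AutSUzh
import Cfsg.Agent.Helper8.AutPSL2E

set_option autoImplicit false
set_option linter.unusedSectionVars false

/-! Automorphisms of `PSU_n(q)`: the outer automorphism group (helper8). -/

namespace Cfsg.Agent.Helper8.AutSU

open Matrix Cfsg Cfsg.Agent.Helper7.Herm Cfsg.Agent.Helper8.GUOrder Cfsg.Agent.Helper8.SURoot
open scoped Pointwise

variable {F : Type*} [Field F] [Fintype F] {q k N : ℕ} [hF : Fact (Fintype.card F = q ^ 2)]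

/-- the inner-diagonal outer automorphisms -/
noncomputable def diagOut (N : ℕ) (F : Type*) [Field F] (q : ℕ) :
    GU N F q →* Cfsg.Out (PSU N F q) :=
  (QuotientGroup.mk' (Cfsg.Inn (PSU N F q))).comp psuConj

omit [Fintype F] hF in
theorem diagOut_apply (g : GU N F q) :
    diagOut N F q g = (QuotientGroup.mk (psuConj g) : Cfsg.Out (PSU N F q)) := rfl

omit [Fintype F] hF in
theorem mk_conj_eq_one (x : PSU N F q) :
    (QuotientGroup.mk (MulAut.conj x) : Cfsg.Out (PSU N F q)) = 1 :=
  (QuotientGroup.eq_one_iff _).mpr ⟨x, rfl⟩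

omit [Fintype F] hF in
theorem detGU_ker_le : (detGU N F q).ker ≤ (diagOut N F q).ker := by
  intro g hg
  have h1 : toGU ((suEquiv N F q).symm ⟨g, hg⟩) = g := by
    apply Subtype.ext
    apply Units.ext
    rfl
  rw [MonoidHom.mem_ker, diagOut_apply, ← h1, psuConj_toGU]
  exact mk_conj_eq_one _

omit [Fintype F] hF in
theorem isCyclic_range_diagOut [Finite F] : IsCyclic (diagOut N F q).range := by
  have h1 : IsCyclic (GU N F q ⧸ (detGU N F q).ker) :=
    isCyclic_of_surjective (QuotientGroup.quotientKerEquivRange (detGU N F q)).symm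
      (MulEquiv.surjective _)
  let ψ : GU N F q ⧸ (detGU N F q).ker →* Cfsg.Out (PSU N F q) :=
    QuotientGroup.lift (detGU N F q).ker (diagOut N F q) detGU_ker_le
  have h2 : ψ.range = (diagOut N F q).range := by
    ext x
    constructor
    · rintro ⟨y, rfl⟩
      obtain ⟨g, rfl⟩ := QuotientGroup.mk_surjective y
      exact ⟨g, rfl⟩
    · rintro ⟨g, rfl⟩
      exact ⟨QuotientGroup.mk g, rfl⟩
  rw [← h2]
  exact isCyclic_of_surjective ψ.rangeRestrict (MonoidHom.rangeRestrict_surjective _)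

section main

variable (p : ℕ) [Fact p.Prime] [CharP F p] (hk : 1 ≤ k) (hkq : ¬ (k = 1 ∧ q = 2))

include p hk hkq

theorem exists_fieldPart (α : MulAut (PSU (k + 2) F q)) :
    ∃ σ : F ≃+* F, ∃ g : GU (k + 2) F q, α = psuConj g * psuField σ := by
  obtain ⟨g, σ, h⟩ := aut_PSU_standard p hk hkq α
  exact ⟨σ, g, h⟩

/-- the field automorphism part of an automorphism of `PSU_n(q)` -/
noncomputable def fieldPart (α : MulAut (PSU (k + 2) F q)) : F ≃+* F :=
  Classical.choose (exists_fieldPart p hk hkq α)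

theorem fieldPart_spec (α : MulAut (PSU (k + 2) F q)) :
    ∃ g : GU (k + 2) F q, α = psuConj g * psuField (fieldPart p hk hkq α) :=
  Classical.choose_spec (exists_fieldPart p hk hkq α)

theorem fieldPart_eq {α : MulAut (PSU (k + 2) F q)} {g : GU (k + 2) F q} {σ : F ≃+* F}
    (h : α = psuConj g * psuField σ) : fieldPart p hk hkq α = σ := by
  obtain ⟨g', h'⟩ := fieldPart_spec p hk hkq α
  exact (psa_unique p hk (h'.symm.trans h)).1

/-- the field automorphism part, as a homomorphism -/
noncomputable def fieldHom : MulAut (PSU (k + 2) F q) →* (F ≃+* F) :=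
  MonoidHom.mk' (fieldPart p hk hkq) (fun α β => by
    obtain ⟨g, h⟩ := fieldPart_spec p hk hkq α
    obtain ⟨g', h'⟩ := fieldPart_spec p hk hkq β
    have key := psa_mul g g' (fieldPart p hk hkq α) (fieldPart p hk hkq β)
    unfold psa at key
    rw [← h, ← h'] at key
    exact fieldPart_eq p hk hkq key)

theorem fieldHom_apply (α : MulAut (PSU (k + 2) F q)) :
    fieldHom p hk hkq α = fieldPart p hk hkq α := rfl

theorem fieldHom_psa (g : GU (k + 2) F q) (σ : F ≃+* F) :
    fieldHom p hk hkq (psuConj g * psuField σ) = σ := by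
  rw [fieldHom_apply]
  exact fieldPart_eq p hk hkq rfl

theorem fieldHom_psuField (σ : F ≃+* F) : fieldHom p hk hkq (psuField σ) = σ := by
  have := fieldHom_psa p hk hkq 1 σ
  rwa [map_one, one_mul] at this

theorem fieldHom_psuConj (g : GU (k + 2) F q) : fieldHom p hk hkq (psuConj g) = 1 := by
  have := fieldHom_psa p hk hkq g 1
  rwa [map_one, mul_one] at this

theorem inn_le_ker_fieldHom : Cfsg.Inn (PSU (k + 2) F q) ≤ (fieldHom p hk hkq).ker := by
  rintro _ ⟨x, rfl⟩
  obtain ⟨s, rfl⟩ := pr_surjective x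
  rw [MonoidHom.mem_ker, ← psuConj_toGU]
  exact fieldHom_psuConj p hk hkq _

/-- the field automorphism part of an outer automorphism -/
noncomputable def outHom : Cfsg.Out (PSU (k + 2) F q) →* (F ≃+* F) :=
  QuotientGroup.lift (Cfsg.Inn (PSU (k + 2) F q)) (fieldHom p hk hkq)
    (inn_le_ker_fieldHom p hk hkq)

theorem outHom_mk (α : MulAut (PSU (k + 2) F q)) :
    outHom p hk hkq (QuotientGroup.mk α) = fieldHom p hk hkq α := rfl

theorem outHom_surjective : Function.Surjective (outHom (F := F) (q := q) p hk hkq) := by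
  intro σ
  exact ⟨QuotientGroup.mk (psuField σ), by rw [outHom_mk, fieldHom_psuField]⟩

theorem ker_outHom :
    (outHom (F := F) (q := q) p hk hkq).ker = (diagOut (k + 2) F q).range := by
  ext x
  constructor
  · intro hx
    obtain ⟨α, rfl⟩ := QuotientGroup.mk_surjective x
    rw [MonoidHom.mem_ker, outHom_mk, fieldHom_apply] at hx
    obtain ⟨g, h⟩ := fieldPart_spec p hk hkq α
    rw [hx, map_one, mul_one] at h
    exact ⟨g, by rw [diagOut_apply, h]⟩
  · rintro ⟨g, rfl⟩
    rw [MonoidHom.mem_ker, diagOut_apply, outHom_mk, fieldHom_psuConj]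

theorem isCyclic_ker_outHom : IsCyclic (outHom (F := F) (q := q) p hk hkq).ker := by
  rw [ker_outHom]
  exact isCyclic_range_diagOut

omit hkq in
theorem conj_injective :
    Function.Injective (MulAut.conj : PSU (k + 2) F q →* MulAut (PSU (k + 2) F q)) := by
  rw [injective_iff_map_eq_one]
  intro x hx
  apply eq_one_of_normalizes p
  intro v _ _
  rw [hx, one_smul]

omit hkq in
theorem card_inn : Nat.card (Cfsg.Inn (PSU (k + 2) F q)) = Nat.card (PSU (k + 2) F q) :=
  (Nat.card_congr (MonoidHom.ofInjective (conj_injective p hk)).toEquiv).symm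

theorem card_ker_outHom (f : ℕ) (hf : 1 ≤ f) (hq : q = p ^ f) :
    Nat.card (outHom (F := F) (q := q) p hk hkq).ker = Nat.gcd (k + 2) (q + 1) := by
  have hF' : Fintype.card F = p ^ (2 * f) := by
    rw [hF.out, hq, ← pow_mul, mul_comm]
  have h1 := Subgroup.card_mul_index (outHom (F := F) (q := q) p hk hkq).ker
  rw [Subgroup.index_ker, MonoidHom.range_eq_top.mpr (outHom_surjective p hk hkq),
    Subgroup.card_top, Cfsg.Agent.Helper7.FieldAutCard.card_ringAut p (2 * f) hF'] at h1
  have h2 := Subgroup.card_eq_card_quotient_mul_card_subgroup (Cfsg.Inn (PSU (k + 2) F q))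
  rw [card_inn p hk, card_aut_PSU p f hq hk hkq] at h2
  have h3 : Nat.card (Cfsg.Out (PSU (k + 2) F q)) =
      Nat.card (MulAut (PSU (k + 2) F q) ⧸ Cfsg.Inn (PSU (k + 2) F q)) := rfl
  rw [← h3, ← h1] at h2
  have hpos : 0 < Nat.card (PSU (k + 2) F q) := Nat.card_pos
  have h4 := Nat.eq_of_mul_eq_mul_right hpos h2
  exact (Nat.eq_of_mul_eq_mul_right (by omega : 0 < 2 * f) h4).symm

end main

/-- **the structure of the outer automorphism group of `PSU_n(q)`** -/
theorem out_structure_PSU (p f : ℕ) [Fact p.Prime] (hf : 1 ≤ f) (hq : q = p ^ f) (hk : 1 ≤ k)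
    (hkq : ¬ (k = 1 ∧ q = 2)) :
    ∃ φ : Cfsg.Out (PSU (k + 2) F q) →* Multiplicative (ZMod (2 * f)),
      Function.Surjective φ ∧ IsCyclic φ.ker ∧ Nat.card φ.ker = Nat.gcd (k + 2) (q + 1) := by
  have hF' : Fintype.card F = p ^ (2 * f) := by
    rw [hF.out, hq, ← pow_mul, mul_comm]
  have : CharP F p := charP_of_card_eq_prime_pow hF'
  have hcard := Cfsg.Agent.Helper7.FieldAutCard.card_ringAut p (2 * f) hF'
  have hcyc : IsCyclic (F ≃+* F) := Cfsg.Agent.Helper8.AutPSL2.isCyclic_ringAut'
  obtain ⟨e⟩ : Nonempty ((F ≃+* F) ≃* Multiplicative (ZMod (2 * f))) := by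
    rw [← hcard]
    exact ⟨(zmodCyclicMulEquiv hcyc).symm⟩
  have hker : ((e : (F ≃+* F) →* Multiplicative (ZMod (2 * f))).comp (outHom p hk hkq)).ker =
      (outHom (F := F) (q := q) p hk hkq).ker := MonoidHom.ker_mulEquiv_comp _ e
  refine ⟨(e : (F ≃+* F) →* Multiplicative (ZMod (2 * f))).comp (outHom p hk hkq), ?_, ?_, ?_⟩
  · exact e.surjective.comp (outHom_surjective p hk hkq)
  · rw [hker]
    exact isCyclic_ker_outHom p hk hkq
  · rw [hker, card_ker_outHom p hk hkq f hf hq]

end Cfsg.Agent.Helper8.AutSU
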