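import Mathlib
import Cfsg.Agent.Helper8.AutSLnGFa
import Cfsg.Agent.Helper8.AutSLnW

set_option autoImplicit false

/-!
Automorphisms of `PSU_n(q)`: descent along a field automorphism commuting with an involution
(general linear level): Hilbert's Theorem 90 for unitary groups (helper8).
-/

namespace Cfsg.Agent.Helper8.AutSLn

open Matrix

variable {F : Type*} [Field F] {F₀ : Type*} [Field F₀]

/-- the data of the descent: a field automorphism `τ` of `F` commuting with an involution `φ`, and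
the fixed field of `τ`, realised as `ι : F₀ → F`, with the restriction `φ₀` of `φ` -/
structure Descent (τ φ : F ≃+* F) (ι : F₀ →+* F) (φ₀ : F₀ ≃+* F₀) : Prop where
  comm : ∀ a, τ (φ a) = φ (τ a)
  hφ2 : φ * φ = 1
  hφ1 : φ ≠ 1
  fix : ∀ a, τ (ι a) = ι a
  surj : ∀ b, τ b = b → ∃ a, ι a = b
  compat : ∀ a, ι (φ₀ a) = φ (ι a)
  hφ₀2 : φ₀ * φ₀ = 1
  hφ₀1 : φ₀ ≠ 1

namespace Descent

variable {τ φ : F ≃+* F} {ι : F₀ →+* F} {φ₀ : F₀ ≃+* F₀}

section units

theorem unitsAut_comm (D : Descent τ φ ι φ₀) (c : Fˣ) :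
    unitsAut τ (unitsAut φ c) = unitsAut φ (unitsAut τ c) := by
  ext
  exact D.comm _

theorem nrmF_unitsAut_comm (D : Descent τ φ ι φ₀) (c : Fˣ) (k : ℕ) :
    nrmF τ (unitsAut φ c) k = unitsAut φ (nrmF τ c k) := by
  induction k with
  | zero => exact (map_one _).symm
  | succ k ih =>
    have h1 : ∀ d : Fˣ, nrmF τ d (k + 1) = d * unitsAut τ (nrmF τ d k) := fun _ => rfl
    rw [h1, h1, ih, map_mul, D.unitsAut_comm]

theorem quotHom_unitsAut_comm (D : Descent τ φ ι φ₀) (c : Fˣ) :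
    quotHom τ (unitsAut φ c) = unitsAut φ (quotHom τ c) := by
  rw [quotHom_apply, quotHom_apply, map_mul, map_inv, D.unitsAut_comm]

theorem quotHom_unitsAut_comm' (D : Descent τ φ ι φ₀) (c : Fˣ) :
    quotHom φ (unitsAut τ c) = unitsAut τ (quotHom φ c) := by
  rw [quotHom_apply, quotHom_apply, map_mul, map_inv, D.unitsAut_comm]

theorem unitsAut_unitsAut (D : Descent τ φ ι φ₀) (c : Fˣ) : unitsAut φ (unitsAut φ c) = c := by
  ext
  exact RingEquiv.congr_fun D.hφ2 _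

/-- the units of the fixed field -/
def um (ι : F₀ →+* F) : F₀ˣ →* Fˣ := Units.map (ι : F₀ →* F)

theorem um_coe (u : F₀ˣ) : ((um ι u : Fˣ) : F) = ι (u : F₀) := rfl

theorem um_injective : Function.Injective (um ι) := by
  intro a b h
  apply Units.ext
  apply ι.injective
  have := congrArg (fun x : Fˣ => (x : F)) h
  exact this

theorem unitsAut_um (D : Descent τ φ ι φ₀) (u : F₀ˣ) : unitsAut τ (um ι u) = um ι u := by
  ext
  exact D.fix _

theorem um_unitsAut (D : Descent τ φ ι φ₀) (u : F₀ˣ) :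
    um ι (unitsAut φ₀ u) = unitsAut φ (um ι u) := by
  ext
  exact D.compat _

theorem exists_um_eq (D : Descent τ φ ι φ₀) (u : Fˣ) (hu : unitsAut τ u = u) :
    ∃ u₀ : F₀ˣ, um ι u₀ = u := by
  have h1 : τ (u : F) = u := congrArg (fun x : Fˣ => (x : F)) hu
  obtain ⟨a, ha⟩ := D.surj _ h1
  have ha0 : a ≠ 0 := by
    rintro rfl
    rw [map_zero] at ha
    exact u.ne_zero ha.symm
  exact ⟨Units.mk0 a ha0, Units.ext ha⟩

theorem hφ₀pow (D : Descent τ φ ι φ₀) : φ₀ ^ 2 = 1 := by rw [pow_two, D.hφ₀2]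

theorem hφpow (D : Descent τ φ ι φ₀) : φ ^ 2 = 1 := by rw [pow_two, D.hφ2]

/-- norms from the fixed field of `τ` -/
theorem exists_norm_fixed [Finite F₀] (D : Descent τ φ ι φ₀) (t : Fˣ) (ht : unitsAut τ t = t)
    (ht' : unitsAut φ t = t) : ∃ w : Fˣ, unitsAut τ w = w ∧ w * unitsAut φ w = t := by
  obtain ⟨t₀, rfl⟩ := D.exists_um_eq t ht
  have h1 : unitsAut φ₀ t₀ = t₀ := by
    apply um_injective (ι := ι)
    rw [D.um_unitsAut, ht']
  obtain ⟨w₀, hw₀⟩ := exists_nrmF_eq φ₀ two_pos D.hφ₀pow (hinj_two φ₀ D.hφ₀1) t₀ h1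
  rw [nrmF_two] at hw₀
  refine ⟨um ι w₀, D.unitsAut_um w₀, ?_⟩
  rw [← D.um_unitsAut, ← map_mul, hw₀]

/-- Hilbert 90 in the fixed field of `τ` -/
theorem exists_quot_fixed (D : Descent τ φ ι φ₀) (u : Fˣ) (hu : unitsAut τ u = u)
    (hu' : u * unitsAut φ u = 1) : ∃ w : Fˣ, unitsAut τ w = w ∧ u = w * (unitsAut φ w)⁻¹ := by
  obtain ⟨u₀, rfl⟩ := D.exists_um_eq u hu
  have h1 : nrmF φ₀ u₀ 2 = 1 := by
    rw [nrmF_two]
    apply um_injective (ι := ι)
    rw [map_mul, D.um_unitsAut, hu', map_one]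
  obtain ⟨w₀, hw₀⟩ := hilbert90_units φ₀ two_pos D.hφ₀pow (hinj_two φ₀ D.hφ₀1) u₀ h1
  refine ⟨um ι w₀, D.unitsAut_um w₀, ?_⟩
  rw [← D.um_unitsAut, ← map_inv, ← map_mul, ← hw₀]

variable {r : ℕ}

/-- Hilbert 90 for the elements of norm one under `φ` -/
theorem hilbert90_norm_one [Finite F₀] (D : Descent τ φ ι φ₀) (hr : 0 < r) (hτr : τ ^ r = 1)
    (hτ : ∀ i j : Fin r, τ ^ (i : ℕ) = τ ^ (j : ℕ) → i = j) (c : Fˣ)
    (hc : c * unitsAut φ c = 1) (hN : nrmF τ c r = 1) :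
    ∃ d : Fˣ, d * unitsAut φ d = 1 ∧ c = d * (unitsAut τ d)⁻¹ := by
  obtain ⟨e, he⟩ := hilbert90_units τ hr hτr hτ c hN
  have he' : c = quotHom τ e := he
  -- `t = e φ(e)` is fixed by `τ` and `φ`
  have ht : unitsAut τ (e * unitsAut φ e) = e * unitsAut φ e := by
    have h1 : quotHom τ (e * unitsAut φ e) = 1 := by
      rw [map_mul, D.quotHom_unitsAut_comm, ← he', hc]
    rw [← MonoidHom.mem_ker, ker_quotHom, mem_fixU] at h1
    exact h1
  have ht' : unitsAut φ (e * unitsAut φ e) = e * unitsAut φ e := by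
    rw [map_mul, D.unitsAut_unitsAut, mul_comm]
  obtain ⟨w, hw, hwt⟩ := D.exists_norm_fixed _ ht ht'
  refine ⟨e * w⁻¹, ?_, ?_⟩
  · rw [map_mul, map_inv, mul_mul_mul_comm, ← mul_inv, hwt, mul_inv_cancel]
  · rw [map_mul, map_inv, hw, mul_inv, inv_inv, mul_mul_mul_comm, inv_mul_cancel, mul_one]
    exact he

/-- the norm under `τ` on the elements of norm one under `φ` -/
theorem exists_norm_eq_of_norm_one [Finite F] [Finite F₀] (D : Descent τ φ ι φ₀) (hr : 0 < r)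
    (hτr : τ ^ r = 1) (hτ : ∀ i j : Fin r, τ ^ (i : ℕ) = τ ^ (j : ℕ) → i = j) (μ : Fˣ)
    (hμ : unitsAut τ μ = μ) (hμ' : μ * unitsAut φ μ = 1) :
    ∃ c : Fˣ, c * unitsAut φ c = 1 ∧ nrmF τ c r = μ := by
  obtain ⟨d, hd⟩ := exists_nrmF_eq τ hr hτr hτ μ hμ
  -- `t = d φ(d)` has norm one
  have ht1 : nrmF τ (d * unitsAut φ d) r = 1 := by
    rw [nrmF_mul, D.nrmF_unitsAut_comm, hd, hμ']
  obtain ⟨e, he⟩ := hilbert90_units τ hr hτr hτ _ ht1
  have he' : d * unitsAut φ d = quotHom τ e := he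
  have htφ : unitsAut φ (d * unitsAut φ d) = d * unitsAut φ d := by
    rw [map_mul, D.unitsAut_unitsAut, mul_comm]
  -- `u = e / φ(e)` is fixed by `τ` and has norm one
  have hu : unitsAut τ (quotHom φ e) = quotHom φ e := by
    have h1 : quotHom τ (quotHom φ e) = 1 := by
      rw [quotHom_apply φ, map_mul, map_inv, D.quotHom_unitsAut_comm, ← he', htφ, mul_inv_cancel]
    rw [← MonoidHom.mem_ker, ker_quotHom, mem_fixU] at h1
    exact h1
  have hu' : quotHom φ e * unitsAut φ (quotHom φ e) = 1 := by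
    rw [quotHom_apply, map_mul, map_inv, D.unitsAut_unitsAut, mul_assoc, inv_mul_cancel_left,
      mul_inv_cancel]
  obtain ⟨w, hw, hwu⟩ := D.exists_quot_fixed _ hu hu'
  -- `e' = e / w` is fixed by `φ`
  have he'φ : unitsAut φ (e * w⁻¹) = e * w⁻¹ := by
    have h1 : quotHom φ (e * w⁻¹) = 1 := by
      rw [map_mul, map_inv, hwu]
      exact mul_inv_cancel _
    rw [← MonoidHom.mem_ker, ker_quotHom, mem_fixU] at h1
    exact h1
  have he'τ : quotHom τ (e * w⁻¹) = d * unitsAut φ d := by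
    rw [map_mul, map_inv, he']
    have : quotHom τ w = 1 := by
      rw [← MonoidHom.mem_ker, ker_quotHom, mem_fixU]
      exact hw
    rw [this, inv_one, mul_one]
  obtain ⟨a, ha⟩ := exists_nrmF_eq φ two_pos D.hφpow (hinj_two φ D.hφ1) _ he'φ
  rw [nrmF_two] at ha
  refine ⟨d * (quotHom τ a)⁻¹, ?_, ?_⟩
  · rw [map_mul, map_inv, mul_mul_mul_comm, ← mul_inv, ← D.quotHom_unitsAut_comm, ← map_mul, ha,
      he'τ, mul_inv_cancel]
  · rw [nrmF_mul, nrmF_inv, hd]
    have h1 : quotHom τ a ∈ (nrmHom τ r).ker := by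
      rw [← range_quotHom τ hr hτr hτ]
      exact ⟨a, rfl⟩
    rw [MonoidHom.mem_ker, nrmHom_apply] at h1
    rw [h1, inv_one, mul_one]

end units

section GLpart

variable {m : Type*} [Fintype m] [DecidableEq m]

theorem gls_glStar_comm (D : Descent τ φ ι φ₀) (g : GL m F) :
    gls τ (glStar φ g) = glStar φ (gls τ g) := by
  apply Units.ext
  ext i j
  exact D.comm _

theorem map_glStar (D : Descent τ φ ι φ₀) (g₀ : GL m F₀) :
    Matrix.GeneralLinearGroup.map ι (glStar φ₀ g₀) =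
      glStar φ (Matrix.GeneralLinearGroup.map ι g₀) := by
  apply Units.ext
  ext i j
  exact D.compat _

theorem gls_map (D : Descent τ φ ι φ₀) (g₀ : GL m F₀) :
    gls τ (Matrix.GeneralLinearGroup.map ι g₀) = Matrix.GeneralLinearGroup.map ι g₀ := by
  apply Units.ext
  ext i j
  exact D.fix _

theorem map_injective (ι : F₀ →+* F) :
    Function.Injective (Matrix.GeneralLinearGroup.map (n := m) ι) := by
  intro a b h
  apply Units.ext
  ext i j
  apply ι.injective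
  have := congrArg (fun x : GL m F => (x : Matrix m m F) i j) h
  exact this

/-- a Hermitian matrix fixed by `τ` is `k k*` with `k` fixed by `τ` -/
theorem herm_descent [Finite F₀] (D : Descent τ φ ι φ₀) (A : GL m F) (hA : gls τ A = A)
    (hA' : glStar φ A = A) : ∃ k : GL m F, gls τ k = k ∧ A = k * glStar φ k := by
  obtain ⟨A₀, rfl⟩ := exists_map_eq τ ι D.surj A hA
  have h1 : glStar φ₀ A₀ = A₀ := by
    apply map_injective ι
    rw [D.map_glStar, hA']
  obtain ⟨k₀, hk₀⟩ := herm_decomp φ₀ D.hφ₀1 D.hφ₀2 A₀ h1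
  refine ⟨Matrix.GeneralLinearGroup.map ι k₀, D.gls_map k₀, ?_⟩
  rw [← D.map_glStar, ← map_mul, ← hk₀]

variable {r : ℕ}

/-- **Hilbert's Theorem 90 for the unitary group** -/
theorem hilbert90_unitary [Finite F₀] (D : Descent τ φ ι φ₀) (hr : 0 < r) (hτr : τ ^ r = 1)
    (hτ : ∀ i j : Fin r, τ ^ (i : ℕ) = τ ^ (j : ℕ) → i = j) (g : GL m F)
    (hg : g * glStar φ g = 1) (hN : nrmGL τ g r = 1) :
    ∃ h : GL m F, h * glStar φ h = 1 ∧ g = h * (gls τ h)⁻¹ := by
  obtain ⟨h₁, hh₁⟩ := hilbert90_GL τ hr hτr hτ g hN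
  have hg' : glStar φ g * g = 1 :=
    mul_eq_one_iff_inv_eq.mpr (mul_eq_one_iff_eq_inv.mp hg).symm
  -- `A = h₁* h₁` is Hermitian and fixed by `τ`
  have hA' : glStar φ (glStar φ h₁ * h₁) = glStar φ h₁ * h₁ := by
    rw [glStar_mul, glStar_glStar φ D.hφ2]
  have hA : gls τ (glStar φ h₁ * h₁) = glStar φ h₁ * h₁ := by
    rw [hh₁, glStar_mul, glStar_inv] at hg'
    rw [map_mul, D.gls_glStar_comm]
    have h2 : glStar φ h₁ * h₁ = glStar φ (gls τ h₁) * gls τ h₁ := by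
      calc glStar φ h₁ * h₁ = glStar φ (gls τ h₁) *
            ((glStar φ (gls τ h₁))⁻¹ * glStar φ h₁ * (h₁ * (gls τ h₁)⁻¹)) * gls τ h₁ := by group
        _ = glStar φ (gls τ h₁) * gls τ h₁ := by rw [hg', mul_one]
    exact h2.symm
  obtain ⟨k, hk, hAk⟩ := D.herm_descent _ hA hA'
  have hks : gls τ (glStar φ k) = glStar φ k := by rw [D.gls_glStar_comm, hk]
  refine ⟨h₁ * (glStar φ k)⁻¹, ?_, ?_⟩
  · rw [mul_eq_one_iff_eq_inv, ← mul_eq_one_iff_eq_inv']
    rw [glStar_mul, glStar_inv, glStar_glStar φ D.hφ2]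
    have : k⁻¹ * glStar φ h₁ * (h₁ * (glStar φ k)⁻¹) =
        k⁻¹ * (glStar φ h₁ * h₁) * (glStar φ k)⁻¹ := by simp only [mul_assoc]
    rw [this, hAk]
    group
  · rw [map_mul, map_inv, hks, _root_.mul_inv_rev, inv_inv, mul_assoc, inv_mul_cancel_left]
    exact hh₁

end GLpart

end Descent

end Cfsg.Agent.Helper8.AutSLn
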