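import Mathlib
import Cfsg.Prelude.Def_LieTypeDatum
import Cfsg.Agent.Helper8.AutSUzi
import Cfsg.Agent.Helper8.AutSUzj

set_option autoImplicit false
set_option linter.unusedSectionVars false

/-! Automorphisms of `PSU_n(q)`: the inner-diagonal group, the general linear description of the
unitary group, norms and powers of semilinear automorphisms (helper8). -/

namespace Cfsg.Agent.Helper8.AutSU

open Matrix Cfsg Cfsg.Agent.Helper7.Herm Cfsg.Agent.Helper8.GUOrder Cfsg.Agent.Helper8.SURoot
open Cfsg.Agent.Helper8.AutSLn (gls glStar nrmGL nrmF unitsAut)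
open scoped Pointwise

variable {F : Type*} [Field F] [Fintype F] {q k N : ℕ} [hF : Fact (Fintype.card F = q ^ 2)]

/-- the `q`-power map as a field automorphism -/
def frobE (F : Type*) [Field F] [Fintype F] (q : ℕ) [hF : Fact (Fintype.card F = q ^ 2)] :
    F ≃+* F :=
  { frobq F q with
    invFun := fun x => x ^ q
    left_inv := fun x => bb x
    right_inv := fun x => bb x }

theorem frobE_apply (x : F) : frobE F q x = x ^ q := rfl

theorem frobE_mul_self : frobE F q * frobE F q = 1 := by
  ext x
  exact bb x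

theorem frobE_ne_one : frobE F q ≠ 1 := by
  obtain ⟨a, ha⟩ := exists_not_fixed hF.out
  intro h
  apply ha
  have := RingEquiv.congr_fun h a
  exact this

/-- the unitary group in terms of the conjugate transpose -/
theorem mem_GU_iff_star (g : GL (Fin N) F) : g ∈ GU N F q ↔ g * glStar (frobE F q) g = 1 :=
  Cfsg.Agent.Helper8.AutSLn.mem_GU_iff (frobE F q) frobE_apply g

omit [Fintype F] hF in
theorem coe_guField (σ : F ≃+* F) (g : GU N F q) :
    ((guField σ g : GU N F q) : GL (Fin N) F) = gls σ (g : GL (Fin N) F) := rfl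

omit [Fintype F] hF in
theorem guField_mul (σ : F ≃+* F) (g h : GU N F q) :
    guField σ (g * h) = guField σ g * guField σ h := by
  apply Subtype.ext
  rw [coe_guField, Subgroup.coe_mul, map_mul]
  rfl

omit [Fintype F] hF in
theorem guField_inv (σ : F ≃+* F) (g : GU N F q) : guField σ g⁻¹ = (guField σ g)⁻¹ := by
  apply Subtype.ext
  rw [coe_guField, Subgroup.coe_inv, map_inv]
  rfl

omit [Fintype F] hF in
theorem guField_one (σ : F ≃+* F) : guField σ (1 : GU N F q) = 1 := by
  apply Subtype.ext
  rw [coe_guField, Subgroup.coe_one, map_one]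

/-- the norm products in the unitary group -/
def nrmGU (σ : F ≃+* F) (g : GU N F q) : ℕ → GU N F q
  | 0 => 1
  | k + 1 => g * guField σ (nrmGU σ g k)

omit [Fintype F] hF in
theorem coe_nrmGU (σ : F ≃+* F) (g : GU N F q) (k : ℕ) :
    ((nrmGU σ g k : GU N F q) : GL (Fin N) F) = nrmGL σ (g : GL (Fin N) F) k := by
  induction k with
  | zero => rfl
  | succ k ih =>
    show ((g * guField σ (nrmGU σ g k) : GU N F q) : GL (Fin N) F) = _
    rw [Subgroup.coe_mul, coe_guField, ih]
    rfl

omit [Fintype F] hF in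
/-- the powers of a semilinear automorphism -/
theorem psa_pow (g : GU N F q) (σ : F ≃+* F) (k : ℕ) :
    (psuConj g * psuField σ : MulAut (PSU N F q)) ^ k =
      psuConj (nrmGU σ g k) * psuField (σ ^ k) := by
  induction k with
  | zero =>
    rw [pow_zero, pow_zero, map_one]
    show (1 : MulAut (PSU N F q)) = psuConj 1 * 1
    rw [map_one, one_mul]
  | succ k ih =>
    rw [pow_succ', ih]
    have := psa_mul (N := N) (q := q) g (nrmGU σ g k) σ (σ ^ k)
    unfold psa at this
    rw [this, ← pow_succ']
    rfl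

/-- the inner-diagonal group is the image of the unitary group -/
theorem inndiagPSU_eq :
    Cfsg.inndiagPSU N F q = (psuConj : GU N F q →* MulAut (PSU N F q)).range := by
  have h1 : {β : MulAut (PSU N F q) | Cfsg.IsInnerDiagonalAutPSU β} =
      ((psuConj : GU N F q →* MulAut (PSU N F q)).range : Set (MulAut (PSU N F q))) := by
    ext β
    constructor
    · rintro ⟨g, hg, h⟩
      refine ⟨⟨g, hg⟩, ?_⟩
      ext x
      induction x using QuotientGroup.induction_on with
      | H s => exact (h s (suConj ⟨g, hg⟩ s) rfl).symm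
    · rintro ⟨g, rfl⟩
      exact isInnerDiagonal_psuConj g
  show Subgroup.closure _ = _
  rw [h1, Subgroup.closure_eq]

omit [Fintype F] hF in
theorem eq_psuField_of_isFieldAut {σ : F ≃+* F} {β : MulAut (PSU N F q)}
    (h : Cfsg.IsFieldAutPSUOf σ β) : β = psuField σ := by
  ext x
  induction x using QuotientGroup.induction_on with
  | H s => exact h s (suField σ s) rfl

theorem psuField_injective (p : ℕ) [Fact p.Prime] [CharP F p] (hk : 1 ≤ k) :
    Function.Injective (psuField : (F ≃+* F) →* MulAut (PSU (k + 2) F q)) := by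
  rw [injective_iff_map_eq_one]
  intro σ h
  exact (eq_one_of_psa_eq_one p hk (g := 1) (by rw [map_one, one_mul, h])).1

/-- the kernel of the inner-diagonal automorphisms consists of the scalar matrices -/
theorem mem_ker_psuConj_iff_scalar (p : ℕ) [Fact p.Prime] [CharP F p] (hk : 1 ≤ k)
    {g : GU (k + 2) F q} :
    g ∈ (psuConj : GU (k + 2) F q →* MulAut (PSU (k + 2) F q)).ker ↔
      ∃ μ : Fˣ, (g : GL (Fin (k + 2)) F) = Matrix.GeneralLinearGroup.scalar (Fin (k + 2)) μ := by
  rw [mem_ker_psuConj_iff p hk]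
  constructor
  · rintro ⟨c, hc⟩
    have hc0 : c ≠ 0 := by
      rintro rfl
      obtain ⟨fr⟩ := exists_frame (F := F) (q := q) k
      have := herm_mg g fr.e fr.f
      rw [hc, hc, zero_smul, hermForm_zero_left, fr.hef] at this
      exact zero_ne_one this
    refine ⟨Units.mk0 c hc0, ?_⟩
    apply Units.ext
    apply Matrix.ext_iff_mulVec.mpr
    intro v
    rw [Matrix.GeneralLinearGroup.coe_scalar, Units.val_mk0, Matrix.scalar_apply,
      ← Matrix.smul_one_eq_diagonal, Matrix.smul_mulVec, Matrix.one_mulVec]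
    exact hc v
  · rintro ⟨μ, hμ⟩
    refine ⟨(μ : F), fun v => ?_⟩
    show ((g : GL (Fin (k + 2)) F) : Matrix (Fin (k + 2)) (Fin (k + 2)) F) *ᵥ v = _
    rw [hμ, Matrix.GeneralLinearGroup.coe_scalar, Matrix.scalar_apply,
      ← Matrix.smul_one_eq_diagonal, Matrix.smul_mulVec, Matrix.one_mulVec]

/-- the inner-diagonal group is normal in the automorphism group -/
theorem range_psuConj_normal (p : ℕ) [Fact p.Prime] [CharP F p] (hk : 1 ≤ k)
    (hkq : ¬ (k = 1 ∧ q = 2)) :
    ((psuConj : GU (k + 2) F q →* MulAut (PSU (k + 2) F q)).range).Normal := by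
  constructor
  rintro _ ⟨h, rfl⟩ β
  obtain ⟨g, σ, e⟩ := aut_PSU_standard p hk hkq β
  refine ⟨g * guField σ h * g⁻¹, ?_⟩
  have h1 := psuField_mul_psuConj (N := k + 2) (q := q) σ h
  rw [e, map_mul, map_mul, map_inv, _root_.mul_inv_rev]
  calc psuConj g * psuConj (guField σ h) * (psuConj g)⁻¹
      = psuConj g * (psuConj (guField σ h) * psuField σ) * ((psuField σ)⁻¹ * (psuConj g)⁻¹) := by
        group
    _ = psuConj g * psuField σ * psuConj h * ((psuField σ)⁻¹ * (psuConj g)⁻¹) := by
        rw [← h1]
        simp only [mul_assoc]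

end Cfsg.Agent.Helper8.AutSU
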