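import Mathlib
import Cfsg.Agent.Helper8.AutSUzk
import Cfsg.Agent.Helper8.AutSLnV

set_option autoImplicit false
set_option linter.unusedSectionVars false

/-! Automorphisms of `PSU_n(q)`: elements of prime order in the coset of a field automorphism
(helper8). -/

namespace Cfsg.Agent.Helper8.AutSU

open Matrix Cfsg Cfsg.Agent.Helper7.Herm Cfsg.Agent.Helper8.GUOrder Cfsg.Agent.Helper8.SURoot
open Cfsg.Agent.Helper8.AutSLn (gls glStar nrmGL nrmF unitsAut Descent)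
open scoped Pointwise

variable {F : Type*} [Field F] [Fintype F] {q k N : ℕ} [hF : Fact (Fintype.card F = q ^ 2)]

theorem pow_pow_even {x : F} {q₀ : ℕ} (hx : x ^ (q₀ ^ 2) = x) (j : ℕ) : x ^ (q₀ ^ (2 * j)) = x := by
  induction j with
  | zero => rw [mul_zero, pow_zero, pow_one]
  | succ j ih =>
    rw [mul_add, mul_one, pow_add, pow_mul x, ih, hx]

theorem pow_pow_odd {x : F} {q₀ : ℕ} (hx : x ^ (q₀ ^ 2) = x) {r : ℕ} (hr : Odd r) :
    x ^ (q₀ ^ r) = x ^ q₀ := by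
  obtain ⟨j, rfl⟩ := hr
  rw [pow_succ, pow_mul x, pow_pow_even hx]

/-- the descent data attached to a field automorphism of odd order -/
theorem exists_descent (p f : ℕ) [Fact p.Prime] (hq : q = p ^ f) (τ : F ≃+* F) {r : ℕ}
    (hr : 0 < r) (hro : Odd r) (hτ : orderOf τ = r) :
    r ∣ f ∧ ∀ (F₀ : Type*) [Field F₀] [Fintype F₀] [hF₀ : Fact (Fintype.card F₀ = (p ^ (f / r)) ^ 2)],
      ∃ ι : F₀ →+* F, Descent τ (frobE F q) ι (frobE F₀ (p ^ (f / r))) := by
  have hF' : Fintype.card F = p ^ (2 * f) := by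
    rw [hF.out, hq, ← pow_mul, mul_comm]
  obtain ⟨h1, -⟩ := Cfsg.Agent.Helper8.AutSLn.card_fixField hF' τ hr hτ
  have hrf : r ∣ f := by
    have hc : Nat.Coprime r 2 := Nat.Coprime.symm (Nat.coprime_two_left.mpr hro)
    exact hc.dvd_of_dvd_mul_left h1
  refine ⟨hrf, ?_⟩
  intro F₀ _ _ hF₀
  have hF₀' : Fintype.card F₀ = p ^ (2 * f / r) := by
    rw [hF₀.out, ← pow_mul, Nat.mul_div_assoc 2 hrf, mul_comm]
  obtain ⟨ι, hι1, hι2⟩ := Cfsg.Agent.Helper8.AutSLn.exists_embedding hF' τ hr hτ F₀ hF₀'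
  have hqq : q = (p ^ (f / r)) ^ r := by
    rw [hq, ← pow_mul, Nat.div_mul_cancel hrf]
  refine ⟨ι, ⟨?_, frobE_mul_self, frobE_ne_one, hι1, hι2, ?_, frobE_mul_self, frobE_ne_one⟩⟩
  · intro a
    rw [frobE_apply, frobE_apply, map_pow]
  · intro a
    rw [frobE_apply, frobE_apply, map_pow, hqq]
    have hx : (ι a) ^ ((p ^ (f / r)) ^ 2) = ι a := by
      rw [← map_pow, ← hF₀.out, FiniteField.pow_card]
    exact (pow_pow_odd hx hro).symm

theorem scalar_mem_GU {c : Fˣ} (hc : c * unitsAut (frobE F q) c = 1) :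
    Matrix.GeneralLinearGroup.scalar (Fin N) c ∈ GU N F q := by
  rw [mem_GU_iff_star, Cfsg.Agent.Helper8.AutSLn.glStar_scalar, ← map_mul, hc, map_one]

/-- **the field-automorphism case**: an element of the coset of `psuField τ` whose `r`-th power is
trivial is conjugate to `psuField τ` under the inner-diagonal group -/
theorem psu_field_case (p : ℕ) [Fact p.Prime] [CharP F p] (hk : 1 ≤ k) {F₀ : Type*} [Field F₀]
    [Finite F₀] {ι : F₀ →+* F} {φ₀ : F₀ ≃+* F₀} (τ : F ≃+* F) (D : Descent τ (frobE F q) ι φ₀)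
    {r : ℕ} (hr : 0 < r) (hτr : τ ^ r = 1)
    (hτ : ∀ i j : Fin r, τ ^ (i : ℕ) = τ ^ (j : ℕ) → i = j) (g : GU (k + 2) F q)
    (hy : (psuConj g * psuField τ : MulAut (PSU (k + 2) F q)) ^ r = 1) :
    ∃ h : GU (k + 2) F q, (psuConj g * psuField τ : MulAut (PSU (k + 2) F q)) =
      psuConj h * psuField τ * (psuConj h)⁻¹ := by
  rw [psa_pow, hτr, map_one, mul_one, ← MonoidHom.mem_ker, mem_ker_psuConj_iff_scalar p hk,
    coe_nrmGU] at hy
  obtain ⟨μ, hμ⟩ := hy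
  have h2 : unitsAut τ μ = μ := by
    have e1 := Cfsg.Agent.Helper8.AutSLn.nrmGL_succ τ (g : GL (Fin (k + 2)) F) r
    have e2 := Cfsg.Agent.Helper8.AutSLn.nrmGL_succ' τ (g : GL (Fin (k + 2)) F) r
    have e3 : gls (1 : F ≃+* F) (g : GL (Fin (k + 2)) F) = g := by
      apply Units.ext
      ext i j
      rfl
    rw [hτr, e3, e1, hμ, Cfsg.Agent.Helper8.AutSLn.gls_scalar,
      Matrix.GeneralLinearGroup.scalar_commute μ (g : GL (Fin (k + 2)) F)] at e2
    exact Cfsg.Agent.Helper8.AutSLn.scalar_injective (mul_left_cancel e2)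
  have h3 : μ * unitsAut (frobE F q) μ = 1 := by
    have e1 := (mem_GU_iff_star _).mp (nrmGU τ g r).2
    rw [coe_nrmGU, hμ, Cfsg.Agent.Helper8.AutSLn.glStar_scalar, ← map_mul,
      ← map_one (Matrix.GeneralLinearGroup.scalar (Fin (k + 2)))] at e1
    exact Cfsg.Agent.Helper8.AutSLn.scalar_injective e1
  obtain ⟨c, hc1, hc2⟩ := D.exists_norm_eq_of_norm_one hr hτr hτ μ h2 h3
  have hc1' : c⁻¹ * unitsAut (frobE F q) c⁻¹ = 1 := by
    rw [map_inv, ← mul_inv, hc1, inv_one]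
  -- the corrected element
  obtain ⟨g', hg'⟩ : ∃ g' : GU (k + 2) F q, (g' : GL (Fin (k + 2)) F) =
      Matrix.GeneralLinearGroup.scalar (Fin (k + 2)) c⁻¹ * (g : GL (Fin (k + 2)) F) :=
    ⟨⟨_, scalar_mem_GU hc1'⟩ * g, rfl⟩
  have hgg' : (psuConj g' : MulAut (PSU (k + 2) F q)) = psuConj g := by
    have e1 : g' = ⟨_, scalar_mem_GU (N := k + 2) hc1'⟩ * g := Subtype.ext hg'
    have e2 : (⟨_, scalar_mem_GU (N := k + 2) hc1'⟩ : GU (k + 2) F q) ∈
        (psuConj : GU (k + 2) F q →* MulAut (PSU (k + 2) F q)).ker :=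
      (mem_ker_psuConj_iff_scalar p hk).mpr ⟨c⁻¹, rfl⟩
    rw [e1, map_mul, MonoidHom.mem_ker.mp e2, one_mul]
  have hN : nrmGL τ (g' : GL (Fin (k + 2)) F) r = 1 := by
    rw [hg', Cfsg.Agent.Helper8.AutSLn.nrmGL_scalar_mul, Cfsg.Agent.Helper8.AutSLn.nrmF_inv, hc2,
      hμ, ← map_mul, inv_mul_cancel, map_one]
  obtain ⟨h, hh1, hh2⟩ := D.hilbert90_unitary hr hτr hτ (g' : GL (Fin (k + 2)) F)
    ((mem_GU_iff_star _).mp g'.2) hN
  refine ⟨⟨h, (mem_GU_iff_star h).mpr hh1⟩, ?_⟩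
  have e1 : g' = ⟨h, (mem_GU_iff_star h).mpr hh1⟩ *
      (guField τ ⟨h, (mem_GU_iff_star h).mpr hh1⟩)⁻¹ := Subtype.ext hh2
  rw [← hgg', e1, map_mul, map_inv, mul_assoc, mul_assoc]
  congr 1
  rw [← map_inv, ← map_inv, ← guField_inv, psuField_mul_psuConj]

section main

variable (p : ℕ) [Fact p.Prime] [CharP F p] (hk : 1 ≤ k) (hkq : ¬ (k = 1 ∧ q = 2))

include p hk hkq

/-- **the elements of prime order in the coset of a field automorphism of `PSU_n(q)`** -/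
theorem coset_conj_psu (f : ℕ) (hq : q = p ^ f) (x δ : MulAut (PSU (k + 2) F q))
    (hx : Cfsg.IsFieldAutClassPSU x) {r : ℕ} (hr : r.Prime) (hxr : orderOf x = r)
    (hδ : δ ∈ Cfsg.inndiagPSU (k + 2) F q) :
    orderOf (δ * x) = r ↔ Cfsg.IsConjUnder (Cfsg.inndiagPSU (k + 2) F q) x (δ * x) := by
  constructor
  · intro hord
    rw [inndiagPSU_eq] at hδ ⊢
    have := range_psuConj_normal (F := F) (q := q) p hk hkq
    obtain ⟨α, φ', σ, -, hodd, hφ', e⟩ := hx
    have e1 := eq_psuField_of_isFieldAut hφ'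
    rw [e1] at e
    have hσ : orderOf σ = r := by
      rw [← orderOf_injective _ (psuField_injective (F := F) (q := q) p hk) σ, ← e, ← hxr]
      exact MulEquiv.orderOf_eq (MulAut.conj α) x
    refine Cfsg.Agent.Helper8.AutSLn.conj_reduce _ α x δ _ e hδ ?_ hord
    rintro _ ⟨g, rfl⟩ ho
    have hσr : σ ^ r = 1 := by rw [← hσ, pow_orderOf_eq_one]
    have hinj : ∀ i j : Fin r, σ ^ (i : ℕ) = σ ^ (j : ℕ) → i = j := by
      intro i j e
      apply Fin.ext
      apply pow_injOn_Iio_orderOf (x := σ) _ _ e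
      · rw [hσ]
        exact i.2
      · rw [hσ]
        exact j.2
    rw [hσ] at hodd
    obtain ⟨hrf, hD⟩ := exists_descent p f hq σ hr.pos hodd hσ
    -- a model of the fixed field
    have hF' : Fintype.card F = p ^ (2 * f) := by
      rw [hF.out, hq, ← pow_mul, mul_comm]
    haveI : Fintype (Cfsg.Agent.Helper8.AutSLn.fixField σ) := Fintype.ofFinite _
    have : Fact (Fintype.card (Cfsg.Agent.Helper8.AutSLn.fixField σ) = (p ^ (f / r)) ^ 2) := by
      constructor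
      rw [← Nat.card_eq_fintype_card, (Cfsg.Agent.Helper8.AutSLn.card_fixField hF' σ hr.pos hσ).2,
        ← pow_mul, Nat.mul_div_assoc 2 hrf, mul_comm]
    obtain ⟨ι, D⟩ := hD (Cfsg.Agent.Helper8.AutSLn.fixField σ)
    have hy : (psuConj g * psuField σ : MulAut (PSU (k + 2) F q)) ^ r = 1 := by
      rw [← ho, pow_orderOf_eq_one]
    obtain ⟨h, hh⟩ := psu_field_case p hk σ D hr.pos hσr hinj g hy
    exact ⟨psuConj h, ⟨h, rfl⟩, hh⟩
  · rintro ⟨h, _, e⟩
    rw [e, ← hxr]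
    exact MulEquiv.orderOf_eq (MulAut.conj h) x

end main

end Cfsg.Agent.Helper8.AutSU
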