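import Mathlib
import Cfsg.Agent.Helper8.AutSUzl

set_option autoImplicit false
set_option linter.unusedSectionVars false

/-! Automorphisms of `PSU_n(q)`: the centraliser of a field automorphism of odd order in the
inner-diagonal group is the projective general unitary group over the fixed field (helper8). -/

namespace Cfsg.Agent.Helper8.AutSU

open Matrix Cfsg Cfsg.Agent.Helper7.Herm Cfsg.Agent.Helper8.GUOrder Cfsg.Agent.Helper8.SURoot
open Cfsg.Agent.Helper8.AutSLn (gls glStar nrmGL nrmF unitsAut Descent)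
open scoped Pointwise

variable {F : Type*} [Field F] [Fintype F] {q k N : ℕ} [hF : Fact (Fintype.card F = q ^ 2)]
variable {F₀ : Type*} [Field F₀] [Fintype F₀] {q₀ : ℕ} [hF₀ : Fact (Fintype.card F₀ = q₀ ^ 2)]
variable {τ : F ≃+* F} {ι : F₀ →+* F}

/-- the unitary matrices over the fixed field, as unitary matrices over the big field -/
def guMap (D : Descent τ (frobE F q) ι (frobE F₀ q₀)) (N : ℕ) : GU N F₀ q₀ →* GU N F q where
  toFun g := ⟨Matrix.GeneralLinearGroup.map ι (g : GL (Fin N) F₀), by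
    rw [mem_GU_iff_star, ← D.map_glStar, ← map_mul, (mem_GU_iff_star _).mp g.2, map_one]⟩
  map_one' := by
    apply Subtype.ext
    exact map_one _
  map_mul' a b := by
    apply Subtype.ext
    exact map_mul _ _ _

theorem coe_guMap (D : Descent τ (frobE F q) ι (frobE F₀ q₀)) (g : GU N F₀ q₀) :
    ((guMap D N g : GU N F q) : GL (Fin N) F) =
      Matrix.GeneralLinearGroup.map ι (g : GL (Fin N) F₀) := rfl

theorem guField_guMap (D : Descent τ (frobE F q) ι (frobE F₀ q₀)) (g : GU N F₀ q₀) :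
    guField τ (guMap D N g) = guMap D N g := by
  apply Subtype.ext
  rw [coe_guField, coe_guMap, D.gls_map]

/-- the unitary group over the fixed field acting on `PSU` -/
noncomputable def subHom (D : Descent τ (frobE F q) ι (frobE F₀ q₀)) (N : ℕ) :
    GU N F₀ q₀ →* MulAut (PSU N F q) :=
  psuConj.comp (guMap D N)

theorem subHom_apply (D : Descent τ (frobE F q) ι (frobE F₀ q₀)) (g : GU N F₀ q₀) :
    subHom D N g = (psuConj (guMap D N g) : MulAut (PSU N F q)) := rfl

theorem ker_subHom (p : ℕ) [Fact p.Prime] [CharP F p] (hk : 1 ≤ k)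
    (D : Descent τ (frobE F q) ι (frobE F₀ q₀)) :
    (subHom D (k + 2)).ker =
      (Cfsg.Geo.scalars (Fin (k + 2)) F₀).subgroupOf (GU (k + 2) F₀ q₀) := by
  ext g
  rw [MonoidHom.mem_ker, Subgroup.mem_subgroupOf, subHom_apply, ← MonoidHom.mem_ker,
    mem_ker_psuConj_iff_scalar p hk, coe_guMap]
  constructor
  · rintro ⟨c, hc⟩
    have h1 : ∀ i j, ι (((g : GL (Fin (k + 2)) F₀) : Matrix (Fin (k + 2)) (Fin (k + 2)) F₀) i j) =
        (Matrix.scalar (Fin (k + 2)) (c : F)) i j := by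
      intro i j
      have := congrArg (fun x : GL (Fin (k + 2)) F => (x : Matrix (Fin (k + 2)) (Fin (k + 2)) F) i j) hc
      exact this
    have h00 := h1 0 0
    rw [Matrix.scalar_apply, Matrix.diagonal_apply_eq] at h00
    have hne : ((g : GL (Fin (k + 2)) F₀) : Matrix (Fin (k + 2)) (Fin (k + 2)) F₀) 0 0 ≠ 0 := by
      intro h0
      rw [h0, map_zero] at h00
      exact c.ne_zero h00.symm
    refine ⟨Units.mk0 _ hne, ?_⟩
    apply Units.ext
    ext i j
    apply ι.injective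
    rw [h1]
    show ι ((Matrix.scalar (Fin (k + 2)) (((g : GL (Fin (k + 2)) F₀) : Matrix (Fin (k + 2)) (Fin (k + 2)) F₀) 0 0)) i j) = _
    rw [Matrix.scalar_apply, Matrix.scalar_apply, Matrix.diagonal_apply, Matrix.diagonal_apply]
    by_cases hij : i = j
    · rw [if_pos hij, if_pos hij, h00]
    · rw [if_neg hij, if_neg hij, map_zero]
  · rintro ⟨c, hc⟩
    refine ⟨Descent.um ι c, ?_⟩
    rw [← hc]
    apply Units.ext
    ext i j
    show ι ((Matrix.scalar (Fin (k + 2)) (c : F₀)) i j) = (Matrix.scalar (Fin (k + 2)) (ι c)) i j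
    rw [Matrix.scalar_apply, Matrix.scalar_apply, Matrix.diagonal_apply, Matrix.diagonal_apply]
    by_cases hij : i = j
    · rw [if_pos hij, if_pos hij]
    · rw [if_neg hij, if_neg hij, map_zero]

/-- a unitary matrix whose automorphism commutes with the field automorphism is, up to a unitary
scalar, fixed by the field automorphism -/
theorem exists_fixed_of_commute (p : ℕ) [Fact p.Prime] [CharP F p] (hk : 1 ≤ k)
    (D : Descent τ (frobE F q) ι (frobE F₀ q₀)) {r : ℕ} (hr : 0 < r) (hτr : τ ^ r = 1)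
    (hτ : ∀ i j : Fin r, τ ^ (i : ℕ) = τ ^ (j : ℕ) → i = j) (g : GU (k + 2) F q)
    (h : (psuField τ * psuConj g : MulAut (PSU (k + 2) F q)) = psuConj g * psuField τ) :
    ∃ d : Fˣ, d * unitsAut (frobE F q) d = 1 ∧
      gls τ (Matrix.GeneralLinearGroup.scalar (Fin (k + 2)) d * (g : GL (Fin (k + 2)) F)) =
        Matrix.GeneralLinearGroup.scalar (Fin (k + 2)) d * (g : GL (Fin (k + 2)) F) := by
  rw [psuField_mul_psuConj, mul_left_inj] at h
  have h1 : guField τ g * g⁻¹ ∈ (psuConj : GU (k + 2) F q →* MulAut (PSU (k + 2) F q)).ker := by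
    rw [MonoidHom.mem_ker, map_mul, map_inv, h, mul_inv_cancel]
  obtain ⟨c, hc⟩ := (mem_ker_psuConj_iff_scalar p hk).mp h1
  have h2 : gls τ (g : GL (Fin (k + 2)) F) =
      Matrix.GeneralLinearGroup.scalar (Fin (k + 2)) c * (g : GL (Fin (k + 2)) F) := by
    rw [← hc, Subgroup.coe_mul, Subgroup.coe_inv, inv_mul_cancel_right, coe_guField]
  have hc1 : c * unitsAut (frobE F q) c = 1 := by
    have e1 := (mem_GU_iff_star _).mp (guField τ g * g⁻¹).2
    rw [hc, Cfsg.Agent.Helper8.AutSLn.glStar_scalar, ← map_mul,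
      ← map_one (Matrix.GeneralLinearGroup.scalar (Fin (k + 2)))] at e1
    exact Cfsg.Agent.Helper8.AutSLn.scalar_injective e1
  have hc2 : nrmF τ c r = 1 := by
    have h3 := Cfsg.Agent.Helper8.AutSLn.gls_pow_of_gls_eq τ (g : GL (Fin (k + 2)) F) c h2 r
    have h4 : gls (τ ^ r) (g : GL (Fin (k + 2)) F) = g := by
      rw [hτr]
      apply Units.ext
      ext i j
      rfl
    rw [h4] at h3
    apply Cfsg.Agent.Helper8.AutSLn.scalar_injective (m := Fin (k + 2))
    rw [map_one]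
    exact (mul_right_cancel (h3.symm.trans (one_mul _).symm))
  obtain ⟨d, hd1, hd2⟩ := D.hilbert90_norm_one hr hτr hτ c hc1 hc2
  refine ⟨d, hd1, ?_⟩
  rw [map_mul, Cfsg.Agent.Helper8.AutSLn.gls_scalar, h2, ← mul_assoc, ← map_mul, hd2,
    mul_comm d, mul_inv_cancel_left]

theorem range_subHom (p : ℕ) [Fact p.Prime] [CharP F p] (hk : 1 ≤ k)
    (D : Descent τ (frobE F q) ι (frobE F₀ q₀)) {r : ℕ} (hr : 0 < r) (hτr : τ ^ r = 1)
    (hτ : ∀ i j : Fin r, τ ^ (i : ℕ) = τ ^ (j : ℕ) → i = j) :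
    (subHom D (k + 2)).range =
      (psuConj : GU (k + 2) F q →* MulAut (PSU (k + 2) F q)).range ⊓
        Subgroup.centralizer {psuField τ} := by
  ext β
  constructor
  · rintro ⟨g₀, rfl⟩
    refine ⟨⟨_, rfl⟩, ?_⟩
    apply Subgroup.mem_centralizer_iff.mpr
    intro y hy
    rw [Set.mem_singleton_iff] at hy
    subst hy
    rw [subHom_apply, psuField_mul_psuConj, guField_guMap]
  · rintro ⟨⟨g, rfl⟩, h2⟩
    replace h2 := Subgroup.mem_centralizer_iff.mp h2 _ rfl
    obtain ⟨d, hd1, hd2⟩ := exists_fixed_of_commute p hk D hr hτr hτ g h2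
    obtain ⟨g₀, hg₀⟩ := Cfsg.Agent.Helper8.AutSLn.exists_map_eq τ ι D.surj _ hd2
    have hmem : Matrix.GeneralLinearGroup.scalar (Fin (k + 2)) d * (g : GL (Fin (k + 2)) F) ∈
        GU (k + 2) F q := Subgroup.mul_mem _ (scalar_mem_GU hd1) g.2
    have hg₀mem : g₀ ∈ GU (k + 2) F₀ q₀ := by
      rw [mem_GU_iff_star]
      apply Descent.map_injective ι
      rw [map_mul, D.map_glStar, hg₀, map_one]
      exact (mem_GU_iff_star _).mp hmem
    refine ⟨⟨g₀, hg₀mem⟩, ?_⟩
    rw [subHom_apply]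
    have e1 : guMap D (k + 2) ⟨g₀, hg₀mem⟩ = ⟨_, scalar_mem_GU (N := k + 2) hd1⟩ * g :=
      Subtype.ext hg₀
    have e2 : (⟨_, scalar_mem_GU (N := k + 2) hd1⟩ : GU (k + 2) F q) ∈
        (psuConj : GU (k + 2) F q →* MulAut (PSU (k + 2) F q)).ker :=
      (mem_ker_psuConj_iff_scalar p hk).mpr ⟨d, rfl⟩
    rw [e1, map_mul, MonoidHom.mem_ker.mp e2, one_mul]

/-- **the centraliser of the field automorphism in the inner-diagonal group** -/
theorem nonempty_centralizer_equiv_PGU (p : ℕ) [Fact p.Prime] [CharP F p] (hk : 1 ≤ k)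
    (D : Descent τ (frobE F q) ι (frobE F₀ q₀)) {r : ℕ} (hr : 0 < r) (hτr : τ ^ r = 1)
    (hτ : ∀ i j : Fin r, τ ^ (i : ℕ) = τ ^ (j : ℕ) → i = j) :
    Nonempty (↥((psuConj : GU (k + 2) F q →* MulAut (PSU (k + 2) F q)).range ⊓
        Subgroup.centralizer {psuField τ}) ≃* Cfsg.PGU (k + 2) F₀ q₀) := by
  have e1 := QuotientGroup.quotientKerEquivRange (subHom D (k + 2))
  have e2 := QuotientGroup.quotientMulEquivOfEq (ker_subHom p hk D)
  have e3 := MulEquiv.subgroupCongr (range_subHom p hk D hr hτr hτ)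
  exact ⟨(e3.symm.trans e1.symm).trans e2⟩

end Cfsg.Agent.Helper8.AutSU
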