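import Mathlib
import Cfsg.Agent.Helper8.AutSUzm
import Cfsg.Agent.Helper8.AutSLnX
import Cfsg.Agent.Helper8.AutSLnGFa

set_option autoImplicit false
set_option linter.unusedSectionVars false

/-! Automorphisms of `PSU_n(q)`: the index of `Inn · C(field automorphism)` in the inner-diagonal
group (helper8). -/

namespace Cfsg.Agent.Helper8.AutSU

open Matrix Cfsg Cfsg.Agent.Helper7.Herm Cfsg.Agent.Helper8.GUOrder Cfsg.Agent.Helper8.SURoot
open Cfsg.Agent.Helper8.AutSLn (gls glStar nrmGL nrmF unitsAut Descent fixU mem_fixU diag1 det_diag1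
  gls_diag1 glStar_diag1 det_gls)
open scoped Pointwise

variable {F : Type*} [Field F] [Fintype F] {q k N : ℕ} [hF : Fact (Fintype.card F = q ^ 2)]
variable {F₀ : Type*} [Field F₀] [Fintype F₀] {q₀ : ℕ} [hF₀ : Fact (Fintype.card F₀ = q₀ ^ 2)]
variable {τ : F ≃+* F} {ι : F₀ →+* F}

/-- the unitary scalars -/
abbrev U1 (F : Type*) [Field F] (q : ℕ) : Subgroup Fˣ := (powMonoidHom (q + 1) : Fˣ →* Fˣ).ker

theorem mem_U1_iff (c : Fˣ) : c ∈ U1 F q ↔ c * unitsAut (frobE F q) c = 1 := by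
  rw [MonoidHom.mem_ker, powMonoidHom_apply, pow_succ']
  constructor
  · intro h
    rw [← h]
    congr 1
  · intro h
    rw [← h]
    congr 1

theorem card_U1 : Nat.card (U1 F q) = q + 1 := by
  rw [IsCyclic.card_powMonoidHom_ker, card_units_K hF.out, qsq_sub_one hF.out,
    Nat.gcd_eq_right (Dvd.intro_left _ rfl)]

theorem detGU_range (hN : 1 ≤ N) : (detGU N F q).range = U1 F q :=
  le_antisymm (detGU_range_le hF.out) (le_detGU_range hF.out hN)

theorem detGU_mem_U1 (g : GU N F q) : detGU N F q g ∈ U1 F q :=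
  detGU_range_le hF.out ⟨g, rfl⟩

omit [Fintype F] hF in
theorem detGU_apply (g : GU N F q) :
    detGU N F q g = Matrix.GeneralLinearGroup.det (g : GL (Fin N) F) := rfl

theorem diag1_mem_GU (i₀ : Fin N) {c : Fˣ} (hc : c ∈ U1 F q) : diag1 i₀ c ∈ GU N F q := by
  rw [mem_GU_iff_star, glStar_diag1, ← map_mul, (mem_U1_iff c).mp hc, map_one]

theorem scalar_mem_U1 {z : Fˣ} (hz : Matrix.GeneralLinearGroup.scalar (Fin (k + 2)) z ∈
    GU (k + 2) F q) : z ∈ U1 F q := by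
  rw [mem_U1_iff]
  have e1 := (mem_GU_iff_star _).mp hz
  rw [Cfsg.Agent.Helper8.AutSLn.glStar_scalar, ← map_mul,
    ← map_one (Matrix.GeneralLinearGroup.scalar (Fin (k + 2)))] at e1
  exact Cfsg.Agent.Helper8.AutSLn.scalar_injective e1

omit [Fintype F] hF in
theorem inn_le_range_psuConj :
    Cfsg.Inn (PSU N F q) ≤ (psuConj : GU N F q →* MulAut (PSU N F q)).range := by
  rintro _ ⟨x, rfl⟩
  obtain ⟨s, rfl⟩ := pr_surjective x
  exact ⟨toGU s, psuConj_toGU s⟩

omit [Fintype F] hF in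
theorem exists_toGU_eq {g : GU N F q} (hg : detGU N F q g = 1) : ∃ s : SU N F q, toGU s = g := by
  refine ⟨(suEquiv N F q).symm ⟨g, hg⟩, ?_⟩
  apply Subtype.ext
  apply Units.ext
  rfl

/-- the preimage in `GU` of `Inn · C(field automorphism)` is given by a condition on the
determinant -/
theorem comap_inn_sup_centralizer_psu (p : ℕ) [Fact p.Prime] [CharP F p] (hk : 1 ≤ k)
    (D : Descent τ (frobE F q) ι (frobE F₀ q₀)) {r : ℕ} (hr : 0 < r) (hτr : τ ^ r = 1)
    (hτ : ∀ i j : Fin r, τ ^ (i : ℕ) = τ ^ (j : ℕ) → i = j) :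
    (Cfsg.Inn (PSU (k + 2) F q) ⊔
      ((psuConj : GU (k + 2) F q →* MulAut (PSU (k + 2) F q)).range ⊓
        Subgroup.centralizer {psuField τ})).comap psuConj =
      ((U1 F q).map (powMonoidHom (k + 2) : Fˣ →* Fˣ) ⊔ (U1 F q ⊓ fixU τ)).comap
        (detGU (k + 2) F q) := by
  ext g
  rw [Subgroup.mem_comap, Subgroup.mem_comap]
  constructor
  · intro h
    rw [← SetLike.mem_coe, Subgroup.normal_mul, Set.mem_mul] at h
    obtain ⟨a, ha, b, hb, e⟩ := h
    obtain ⟨x, rfl⟩ := ha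
    obtain ⟨s, rfl⟩ := pr_surjective x
    obtain ⟨⟨g₁, rfl⟩, hbC⟩ := hb
    obtain ⟨d, hd1, hd2⟩ := exists_fixed_of_commute p hk D hr hτr hτ g₁
      (Subgroup.mem_centralizer_iff.mp hbC _ rfl)
    rw [← psuConj_toGU, ← map_mul] at e
    have h1 : (toGU s * g₁)⁻¹ * g ∈
        (psuConj : GU (k + 2) F q →* MulAut (PSU (k + 2) F q)).ker := by
      rw [MonoidHom.mem_ker, map_mul, map_inv, e, inv_mul_cancel]
    obtain ⟨z, hz⟩ := (mem_ker_psuConj_iff_scalar p hk).mp h1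
    have hzU : z ∈ U1 F q := by
      apply scalar_mem_U1 (k := k)
      rw [← hz]
      exact ((toGU s * g₁)⁻¹ * g).2
    have hdU : d ∈ U1 F q := (mem_U1_iff d).mpr hd1
    have h2 : (g : GL (Fin (k + 2)) F) = (toGU s : GL (Fin (k + 2)) F) * g₁ *
        Matrix.GeneralLinearGroup.scalar (Fin (k + 2)) z := by
      rw [← hz, Subgroup.coe_mul, Subgroup.coe_inv, Subgroup.coe_mul, mul_inv_cancel_left]
    -- the determinant of the fixed matrix
    have hmem : Matrix.GeneralLinearGroup.scalar (Fin (k + 2)) d * (g₁ : GL (Fin (k + 2)) F) ∈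
        GU (k + 2) F q := Subgroup.mul_mem _ (scalar_mem_GU hd1) g₁.2
    have h3 : Matrix.GeneralLinearGroup.det
        (Matrix.GeneralLinearGroup.scalar (Fin (k + 2)) d * (g₁ : GL (Fin (k + 2)) F)) ∈
        U1 F q ⊓ fixU τ := by
      refine ⟨detGU_mem_U1 ⟨_, hmem⟩, ?_⟩
      show _ ∈ fixU τ
      rw [mem_fixU, ← det_gls, hd2]
    rw [map_mul, Matrix.GeneralLinearGroup.det_scalar, Fintype.card_fin] at h3
    have h4 : detGU (k + 2) F q g = powMonoidHom (k + 2) (z * d⁻¹) *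
        (d ^ (k + 2) * Matrix.GeneralLinearGroup.det (g₁ : GL (Fin (k + 2)) F)) := by
      rw [detGU_apply, h2, map_mul, map_mul, Matrix.GeneralLinearGroup.det_scalar, Fintype.card_fin,
        powMonoidHom_apply, mul_pow, inv_pow]
      have hs : Matrix.GeneralLinearGroup.det ((toGU s : GU (k + 2) F q) : GL (Fin (k + 2)) F) =
          1 := Matrix.SpecialLinearGroup.coeToGL_det s.1
      rw [hs, one_mul, mul_comm, mul_assoc, inv_mul_cancel_left]
    rw [h4]
    exact Subgroup.mul_mem_sup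
      (Subgroup.mem_map_of_mem _ (Subgroup.mul_mem _ hzU (Subgroup.inv_mem _ hdU))) h3
  · intro h
    rw [Subgroup.mem_sup] at h
    obtain ⟨_, ⟨u, hu, rfl⟩, κ, hκ, e⟩ := h
    rw [powMonoidHom_apply] at e
    have huinv : u⁻¹ * unitsAut (frobE F q) u⁻¹ = 1 := by
      rw [map_inv, ← mul_inv, (mem_U1_iff u).mp hu, inv_one]
    obtain ⟨zU, hzU⟩ : ∃ zU : GU (k + 2) F q, (zU : GL (Fin (k + 2)) F) =
        Matrix.GeneralLinearGroup.scalar (Fin (k + 2)) u⁻¹ := ⟨⟨_, scalar_mem_GU huinv⟩, rfl⟩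
    obtain ⟨g₀, hg₀⟩ : ∃ g₀ : GU (k + 2) F q, (g₀ : GL (Fin (k + 2)) F) = diag1 0 κ :=
      ⟨⟨_, diag1_mem_GU 0 hκ.1⟩, rfl⟩
    have hdet : detGU (k + 2) F q (zU * g * g₀⁻¹) = 1 := by
      rw [map_mul, map_mul, map_inv, detGU_apply zU, detGU_apply g₀, hzU, hg₀, det_diag1,
        Matrix.GeneralLinearGroup.det_scalar, Fintype.card_fin, ← e, inv_pow, inv_mul_cancel_left,
        mul_inv_cancel]
    obtain ⟨s, hs⟩ := exists_toGU_eq hdet
    have hzker : zU ∈ (psuConj : GU (k + 2) F q →* MulAut (PSU (k + 2) F q)).ker :=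
      (mem_ker_psuConj_iff_scalar p hk).mpr ⟨u⁻¹, hzU⟩
    have h1 : (psuConj g : MulAut (PSU (k + 2) F q)) = psuConj (toGU s) * psuConj g₀ := by
      rw [hs, ← map_mul, inv_mul_cancel_right, map_mul, MonoidHom.mem_ker.mp hzker, one_mul]
    rw [h1, psuConj_toGU]
    refine Subgroup.mul_mem_sup ⟨_, rfl⟩ ⟨⟨_, rfl⟩, ?_⟩
    apply Subgroup.mem_centralizer_iff.mpr
    intro y hy
    rw [Set.mem_singleton_iff] at hy
    subst hy
    rw [psuField_mul_psuConj]
    congr 2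
    apply Subtype.ext
    rw [coe_guField, hg₀, gls_diag1, (mem_fixU τ κ).mp hκ.2]

/-- the index of `Inn · C(field automorphism)` in the inner-diagonal group, first form -/
theorem relIndex_inn_sup_centralizer_psu (p : ℕ) [Fact p.Prime] [CharP F p] (hk : 1 ≤ k)
    (D : Descent τ (frobE F q) ι (frobE F₀ q₀)) {r : ℕ} (hr : 0 < r) (hτr : τ ^ r = 1)
    (hτ : ∀ i j : Fin r, τ ^ (i : ℕ) = τ ^ (j : ℕ) → i = j) :
    (Cfsg.Inn (PSU (k + 2) F q) ⊔
      ((psuConj : GU (k + 2) F q →* MulAut (PSU (k + 2) F q)).range ⊓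
        Subgroup.centralizer {psuField τ})).relIndex
          (psuConj : GU (k + 2) F q →* MulAut (PSU (k + 2) F q)).range =
      ((U1 F q).map (powMonoidHom (k + 2) : Fˣ →* Fˣ) ⊔ (U1 F q ⊓ fixU τ)).relIndex (U1 F q) := by
  rw [← Subgroup.index_comap, comap_inn_sup_centralizer_psu p hk D hr hτr hτ, Subgroup.index_comap,
    detGU_range (by omega)]

end Cfsg.Agent.Helper8.AutSU
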