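import Mathlib
import Cfsg.Agent.Helper7.Ex27UG
set_option autoImplicit false
set_option linter.unusedSectionVars false

/-! Elements of order two modulo scalars of `SU_n(q)` and their invariant non-degenerate and
totally isotropic subspaces: general lemmas on subspaces of the unitary space (helper8). -/

namespace Cfsg.Agent.Helper8.HermTwo

open Matrix Module Cfsg Cfsg.Agent.Helper7.Herm Cfsg.Agent.Helper8.GUOrder Cfsg.Agent.Helper8.AutSU
  Cfsg.Agent.Helper7.SUNd Cfsg.Agent.Helper8.SURoot Cfsg.Agent.Helper7.Ex27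

variable {F : Type*} [Field F] [Fintype F] {q N : ℕ} [hF : Fact (Fintype.card F = q ^ 2)]

theorem herm_lincomb_left {k : ℕ} (c : Fin k → F) (b : Fin k → (Fin N → F)) (v : Fin N → F) :
    hermForm N F q (∑ i, c i • b i) v = ∑ i, c i * hermForm N F q (b i) v := by
  rw [herm_sum_left]
  exact Finset.sum_congr rfl fun i _ => hermForm_smul_left _ _ _

theorem herm_lincomb_right {k : ℕ} (c : Fin k → F) (b : Fin k → (Fin N → F)) (v : Fin N → F) :
    hermForm N F q v (∑ i, c i • b i) = ∑ i, c i ^ q * hermForm N F q v (b i) := by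
  rw [herm_sum_right]
  exact Finset.sum_congr rfl fun i _ => hermForm_smul_right _ _ _

/-- coefficients with respect to an orthonormal family -/
theorem herm_lincomb_onb {k : ℕ} {b : Fin k → (Fin N → F)}
    (hb : ∀ i j, hermForm N F q (b i) (b j) = if i = j then 1 else 0) (c : Fin k → F) (j : Fin k) :
    hermForm N F q (∑ i, c i • b i) (b j) = c j := by
  rw [herm_lincomb_left, Finset.sum_eq_single j]
  · rw [hb, if_pos rfl, mul_one]
  · intro i _ hij
    rw [hb, if_neg hij, mul_zero]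
  · intro h
    exact absurd (Finset.mem_univ j) h

theorem ndeg_span_onb {k : ℕ} {b : Fin k → (Fin N → F)}
    (hb : ∀ i j, hermForm N F q (b i) (b j) = if i = j then 1 else 0) :
    NDeg q (Submodule.span F (Set.range b)) := by
  intro w hw hw0
  obtain ⟨c, rfl⟩ := (Submodule.mem_span_range_iff_exists_fun F).mp hw
  have hex : ∃ j, c j ≠ 0 := by
    by_contra hcon
    push Not at hcon
    apply hw0
    apply Finset.sum_eq_zero
    intro i _
    rw [hcon i, zero_smul]
  obtain ⟨j, hj⟩ := hex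
  refine ⟨b j, Submodule.subset_span ⟨j, rfl⟩, ?_⟩
  rw [herm_lincomb_onb hb]
  exact hj

theorem finrank_span_onb {k : ℕ} {b : Fin k → (Fin N → F)}
    (hb : ∀ i j, hermForm N F q (b i) (b j) = if i = j then 1 else 0) :
    finrank F (Submodule.span F (Set.range b)) = k := by
  rw [finrank_span_eq_card (linearIndependent_of_onb hb), Fintype.card_fin]

theorem onb_comp {k m : ℕ} {b : Fin k → (Fin N → F)}
    (hb : ∀ i j, hermForm N F q (b i) (b j) = if i = j then 1 else 0) (f : Fin m → Fin k)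
    (hf : Function.Injective f) (i j : Fin m) :
    hermForm N F q (b (f i)) (b (f j)) = if i = j then 1 else 0 := by
  rw [hb]
  by_cases hij : i = j
  · rw [if_pos hij, if_pos (by rw [hij])]
  · rw [if_neg hij, if_neg (fun h => hij (hf h))]

theorem span_onb_eq {k : ℕ} {W : Submodule F (Fin N → F)} (hk : finrank F W = k)
    {b : Fin k → (Fin N → F)} (hbW : ∀ i, b i ∈ W)
    (hb : ∀ i j, hermForm N F q (b i) (b j) = if i = j then 1 else 0) :
    Submodule.span F (Set.range b) = W := by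
  apply Submodule.eq_of_le_of_finrank_eq
  · rw [Submodule.span_le]
    rintro _ ⟨i, rfl⟩
    exact hbW i
  · rw [finrank_span_onb hb, hk]

/-- non-degenerate subspaces of every smaller dimension -/
theorem exists_ndeg_le {E : Submodule F (Fin N → F)} (hE : NDeg q E) {e m : ℕ}
    (he : finrank F E = e) (hm : m ≤ e) :
    ∃ W : Submodule F (Fin N → F), W ≤ E ∧ NDeg q W ∧ finrank F W = m := by
  obtain ⟨b, hbE, hb⟩ := exists_onb e E hE he
  have hb' := onb_comp hb (Fin.castLE hm) (Fin.castLE_injective hm)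
  refine ⟨Submodule.span F (Set.range (fun i => b (Fin.castLE hm i))), ?_, ndeg_span_onb hb',
    finrank_span_onb hb'⟩
  rw [Submodule.span_le]
  rintro _ ⟨i, rfl⟩
  exact hbE _

theorem ndeg_bot : NDeg q (⊥ : Submodule F (Fin N → F)) := by
  intro w hw hw0
  exact absurd ((Submodule.mem_bot F).mp hw) hw0

/-- orthogonal sums of non-degenerate subspaces -/
theorem ndeg_sup {W₁ W₂ : Submodule F (Fin N → F)} (h₁ : NDeg q W₁) (h₂ : NDeg q W₂)
    (hp : ∀ u ∈ W₁, ∀ v ∈ W₂, hermForm N F q u v = 0) : NDeg q (W₁ ⊔ W₂) := by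
  intro w hw hw0
  obtain ⟨w₁, hw₁, w₂, hw₂, rfl⟩ := Submodule.mem_sup.mp hw
  by_cases h10 : w₁ = 0
  · have h20 : w₂ ≠ 0 := by
      rintro rfl
      apply hw0
      rw [h10, add_zero]
    obtain ⟨x, hx, hne⟩ := h₂ w₂ hw₂ h20
    refine ⟨x, Submodule.mem_sup_right hx, ?_⟩
    rw [h10, zero_add]
    exact hne
  · obtain ⟨x, hx, hne⟩ := h₁ w₁ hw₁ h10
    refine ⟨x, Submodule.mem_sup_left hx, ?_⟩
    rw [hermForm_add_left, h_eq_zero_of_swap (hp x hx w₂ hw₂), add_zero]
    exact hne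

theorem finrank_sup_perp {W₁ W₂ : Submodule F (Fin N → F)} (h₁ : NDeg q W₁)
    (hp : ∀ u ∈ W₁, ∀ v ∈ W₂, hermForm N F q u v = 0) :
    finrank F ↥(W₁ ⊔ W₂) = finrank F W₁ + finrank F W₂ := by
  have hinf : W₁ ⊓ W₂ = ⊥ := by
    rw [eq_bot_iff]
    rintro x ⟨hx1, hx2⟩
    by_contra hx0
    obtain ⟨y, hy, hne⟩ := h₁ x hx1 hx0
    exact hne (h_eq_zero_of_swap (hp y hy x hx2))
  have h := Submodule.finrank_sup_add_finrank_inf_eq W₁ W₂
  rw [hinf, finrank_bot, add_zero] at h
  exact h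

/-- the part of `E` orthogonal to `W` -/
def perpIn (q : ℕ) (E W : Submodule F (Fin N → F)) : Submodule F (Fin N → F) where
  carrier := {x | x ∈ E ∧ ∀ w ∈ W, hermForm N F q x w = 0}
  add_mem' := by
    rintro a b ⟨ha, ha'⟩ ⟨hb, hb'⟩
    exact ⟨E.add_mem ha hb, fun w hw => by rw [hermForm_add_left, ha' w hw, hb' w hw, add_zero]⟩
  zero_mem' := ⟨E.zero_mem, fun w _ => hermForm_zero_left _⟩
  smul_mem' := by
    rintro c a ⟨ha, ha'⟩
    exact ⟨E.smul_mem c ha, fun w hw => by rw [hermForm_smul_left, ha' w hw, mul_zero]⟩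

theorem mem_perpIn {E W : Submodule F (Fin N → F)} {x : Fin N → F} :
    x ∈ perpIn q E W ↔ x ∈ E ∧ ∀ w ∈ W, hermForm N F q x w = 0 := Iff.rfl

/-- orthogonal projection to a non-degenerate subspace -/
theorem exists_proj {W : Submodule F (Fin N → F)} (hW : NDeg q W) (v : Fin N → F) :
    ∃ w ∈ W, ∀ x ∈ W, hermForm N F q (v - w) x = 0 := by
  obtain ⟨b, hbW, hb⟩ := exists_onb _ W hW rfl
  have hspan := span_onb_eq rfl hbW hb
  refine ⟨∑ i, hermForm N F q v (b i) • b i, W.sum_mem (fun i _ => W.smul_mem _ (hbW i)), ?_⟩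
  intro x hx
  rw [← hspan] at hx
  obtain ⟨c, rfl⟩ := (Submodule.mem_span_range_iff_exists_fun F).mp hx
  rw [herm_lincomb_right]
  apply Finset.sum_eq_zero
  intro j _
  rw [hermForm_sub_left, herm_lincomb_onb hb, sub_self, mul_zero]

theorem sup_perpIn {E W : Submodule F (Fin N → F)} (hW : NDeg q W) (hWE : W ≤ E) :
    W ⊔ perpIn q E W = E := by
  apply le_antisymm
  · exact sup_le hWE (fun x hx => hx.1)
  · intro v hv
    obtain ⟨w, hw, hperp⟩ := exists_proj hW v
    have : v = w + (v - w) := by abel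
    rw [this]
    exact Submodule.add_mem_sup hw ⟨E.sub_mem hv (hWE hw), hperp⟩

theorem finrank_perpIn {E W : Submodule F (Fin N → F)} (hW : NDeg q W) (hWE : W ≤ E) :
    finrank F W + finrank F (perpIn q E W) = finrank F E := by
  have h := finrank_sup_perp (q := q) (W₁ := W) (W₂ := perpIn q E W) hW
    (fun u hu v hv => h_eq_zero_of_swap (hv.2 u hu))
  rw [sup_perpIn hW hWE] at h
  exact h.symm

theorem ndeg_perpIn {E W : Submodule F (Fin N → F)} (hE : NDeg q E) (hW : NDeg q W)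
    (hWE : W ≤ E) : NDeg q (perpIn q E W) := by
  intro x hx hx0
  obtain ⟨y, hyE, hne⟩ := hE x hx.1 hx0
  obtain ⟨w, hw, hperp⟩ := exists_proj hW y
  refine ⟨y - w, ⟨E.sub_mem hyE (hWE hw), hperp⟩, ?_⟩
  rw [h_sub_right, h_eq_zero_of_swap (h_eq_zero_of_swap (hx.2 w hw)), sub_zero]
  exact hne

/-- the orthogonal of an invariant subspace is invariant -/
theorem perpIn_invt {E W : Submodule F (Fin N → F)} (X : Matrix (Fin N) (Fin N) F)
    (hXU : ∀ u v, hermForm N F q (X *ᵥ u) (X *ᵥ v) = hermForm N F q u v)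
    (hE : ∀ v ∈ E, X *ᵥ v ∈ E) (hWs : ∀ w ∈ W, ∃ w' ∈ W, X *ᵥ w' = w) :
    ∀ v ∈ perpIn q E W, X *ᵥ v ∈ perpIn q E W := by
  intro v hv
  refine ⟨hE v hv.1, fun w hw => ?_⟩
  obtain ⟨w', hw', rfl⟩ := hWs w hw
  rw [hXU]
  exact hv.2 w' hw'

end Cfsg.Agent.Helper8.HermTwo
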