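import Mathlib
import Cfsg.Agent.Helper8.HermTwoA
set_option autoImplicit false
set_option linter.unusedSectionVars false

/-! Involutions of the unitary group in characteristic two: invariant non-degenerate subspaces
(helper8). -/

namespace Cfsg.Agent.Helper8.HermTwo

open Matrix Module Cfsg Cfsg.Agent.Helper7.Herm Cfsg.Agent.Helper8.GUOrder Cfsg.Agent.Helper8.AutSU
  Cfsg.Agent.Helper7.SUNd Cfsg.Agent.Helper8.SURoot Cfsg.Agent.Helper7.Ex27

variable {F : Type*} [Field F] [Fintype F] {q N : ℕ} [hF : Fact (Fintype.card F = q ^ 2)]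

/-- the operator `X - 1` on vectors -/
def nv (X : Matrix (Fin N) (Fin N) F) (v : Fin N → F) : Fin N → F := X *ᵥ v - v

omit [Fintype F] hF in
theorem nv_add (X : Matrix (Fin N) (Fin N) F) (u v : Fin N → F) :
    nv X (u + v) = nv X u + nv X v := by
  unfold nv
  rw [Matrix.mulVec_add]
  abel

omit [Fintype F] hF in
theorem nv_smul (X : Matrix (Fin N) (Fin N) F) (a : F) (v : Fin N → F) :
    nv X (a • v) = a • nv X v := by
  unfold nv
  rw [Matrix.mulVec_smul, smul_sub]

omit [Fintype F] hF in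
theorem mulVec_eq_add_nv (X : Matrix (Fin N) (Fin N) F) (v : Fin N → F) :
    X *ᵥ v = v + nv X v := by
  unfold nv
  abel

omit [Fintype F] hF in
theorem nv_nv (h2 : (2 : F) = 0) {X : Matrix (Fin N) (Fin N) F} (hXX : X * X = 1)
    (v : Fin N → F) : nv X (nv X v) = 0 := by
  have hYY : X *ᵥ (X *ᵥ v) = v := by rw [Matrix.mulVec_mulVec, hXX, Matrix.one_mulVec]
  have : nv X (nv X v) = (2 : F) • (v - X *ᵥ v) := by
    unfold nv
    rw [Matrix.mulVec_sub, hYY]
    module
  rw [this, h2, zero_smul]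

theorem herm_nv_aux {X : Matrix (Fin N) (Fin N) F}
    (hXU : ∀ u v, hermForm N F q (X *ᵥ u) (X *ᵥ v) = hermForm N F q u v) (u v : Fin N → F) :
    hermForm N F q (nv X u) v + hermForm N F q u (nv X v) + hermForm N F q (nv X u) (nv X v)
      = 0 := by
  have h := hXU u v
  rw [mulVec_eq_add_nv X u, mulVec_eq_add_nv X v, hermForm_add_left, h_add_right, h_add_right]
    at h
  linear_combination h

theorem herm_nv_nv (h2 : (2 : F) = 0) {X : Matrix (Fin N) (Fin N) F} (hXX : X * X = 1)
    (hXU : ∀ u v, hermForm N F q (X *ᵥ u) (X *ᵥ v) = hermForm N F q u v) (u v : Fin N → F) :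
    hermForm N F q (nv X u) (nv X v) = 0 := by
  have h := herm_nv_aux hXU (nv X u) v
  rw [nv_nv h2 hXX, hermForm_zero_left, hermForm_zero_left] at h
  linear_combination h

theorem herm_nv_swap (h2 : (2 : F) = 0) {X : Matrix (Fin N) (Fin N) F} (hXX : X * X = 1)
    (hXU : ∀ u v, hermForm N F q (X *ᵥ u) (X *ᵥ v) = hermForm N F q u v) (u v : Fin N → F) :
    hermForm N F q (nv X u) v = hermForm N F q u (nv X v) := by
  have h := herm_nv_aux hXU u v
  rw [herm_nv_nv h2 hXX hXU] at h
  linear_combination h - h2 * hermForm N F q u (nv X v)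

/-- a nontrivial unitary involution in characteristic two moves some vector non-orthogonally -/
theorem exists_nv_aniso (h2 : (2 : F) = 0) {X : Matrix (Fin N) (Fin N) F} (hXX : X * X = 1)
    (hXU : ∀ u v, hermForm N F q (X *ᵥ u) (X *ᵥ v) = hermForm N F q u v)
    {E : Submodule F (Fin N → F)} (hE : NDeg q E) (hEX : ∀ v ∈ E, X *ᵥ v ∈ E)
    {u₀ : Fin N → F} (hu₀ : u₀ ∈ E) (hne : X *ᵥ u₀ ≠ u₀) :
    ∃ u ∈ E, hermForm N F q (nv X u) u ≠ 0 := by
  by_contra hcon
  push Not at hcon
  have hnvE : ∀ u ∈ E, nv X u ∈ E := fun u hu => E.sub_mem (hEX u hu) hu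
  -- the form `h (nv u) w` has trace zero
  have htr : ∀ u ∈ E, ∀ w ∈ E, hermForm N F q (nv X u) w + (hermForm N F q (nv X u) w) ^ q = 0 := by
    intro u hu w hw
    have h1 := hcon (u + w) (E.add_mem hu hw)
    rw [nv_add, hermForm_add_left, h_add_right, h_add_right, hcon u hu, hcon w hw] at h1
    have h3 : hermForm N F q (nv X w) u = (hermForm N F q (nv X u) w) ^ q := by
      rw [herm_nv_swap h2 hXX hXU, h_swap]
    rw [h3] at h1
    linear_combination h1
  have hzero : ∀ u ∈ E, ∀ w ∈ E, hermForm N F q (nv X u) w = 0 := by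
    intro u hu w hw
    by_contra ht
    obtain ⟨μ, hμ⟩ := exists_trace (F := F) (q := q) (c := 1) (one_pow q)
    have h1 := htr ((μ / hermForm N F q (nv X u) w) • u) (E.smul_mem _ hu) w hw
    rw [nv_smul, hermForm_smul_left, div_mul_cancel₀ _ ht] at h1
    rw [add_comm] at h1
    rw [hμ] at h1
    exact one_ne_zero h1
  apply hne
  have h0 : nv X u₀ = 0 := by
    by_contra hn0
    obtain ⟨x, hx, hxne⟩ := hE (nv X u₀) (hnvE u₀ hu₀) hn0
    exact hxne (hzero u₀ hu₀ x hx)
  unfold nv at h0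
  exact sub_eq_zero.mp h0

end Cfsg.Agent.Helper8.HermTwo
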