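import Mathlib
import Cfsg.Agent.Helper8.HermTwoB
set_option autoImplicit false
set_option linter.unusedSectionVars false

namespace Cfsg.Agent.Helper8.HermTwo

open Matrix Module Cfsg Cfsg.Agent.Helper7.Herm Cfsg.Agent.Helper8.GUOrder Cfsg.Agent.Helper8.AutSU
  Cfsg.Agent.Helper7.SUNd Cfsg.Agent.Helper8.SURoot Cfsg.Agent.Helper7.Ex27

variable {F : Type*} [Field F] [Fintype F] {q N : ℕ} [hF : Fact (Fintype.card F = q ^ 2)]

/-- the invariant plane spanned by `u` and `(X - 1) u` -/
theorem plane_props (h2 : (2 : F) = 0) {X : Matrix (Fin N) (Fin N) F} (hXX : X * X = 1)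
    (hXU : ∀ u v, hermForm N F q (X *ᵥ u) (X *ᵥ v) = hermForm N F q u v)
    {u : Fin N → F} (hb : hermForm N F q (nv X u) u ≠ 0) :
    NDeg q (Submodule.span F (Set.range ![u, nv X u])) ∧
    finrank F (Submodule.span F (Set.range ![u, nv X u])) = 2 ∧
    ∀ w ∈ Submodule.span F (Set.range ![u, nv X u]),
      X *ᵥ w ∈ Submodule.span F (Set.range ![u, nv X u]) := by
  have hb' : hermForm N F q u (nv X u) ≠ 0 := by
    rw [h_swap]
    exact pow_ne_zero q hb
  have hnn : hermForm N F q (nv X u) (nv X u) = 0 := herm_nv_nv h2 hXX hXU u u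
  have hmemu : u ∈ Submodule.span F (Set.range ![u, nv X u]) :=
    Submodule.subset_span ⟨0, rfl⟩
  have hmemn : nv X u ∈ Submodule.span F (Set.range ![u, nv X u]) :=
    Submodule.subset_span ⟨1, rfl⟩
  refine ⟨?_, ?_, ?_⟩
  · intro w hw hw0
    obtain ⟨c, rfl⟩ := (Submodule.mem_span_range_iff_exists_fun F).mp hw
    rw [Fin.sum_univ_two] at hw0 ⊢
    simp only [Matrix.cons_val_zero, Matrix.cons_val_one] at hw0 ⊢
    by_cases h0 : c 0 = 0
    · have h1 : c 1 ≠ 0 := by
        intro h1
        apply hw0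
        rw [h0, h1, zero_smul, zero_smul, add_zero]
      refine ⟨u, hmemu, ?_⟩
      rw [h0, zero_smul, zero_add, hermForm_smul_left]
      exact mul_ne_zero h1 hb
    · refine ⟨nv X u, hmemn, ?_⟩
      rw [hermForm_add_left, hermForm_smul_left, hermForm_smul_left, hnn, mul_zero, add_zero]
      exact mul_ne_zero h0 hb'
  · have hli : LinearIndependent F ![u, nv X u] := by
      rw [LinearIndependent.pair_iff]
      intro s t hst
      have h1 := congrArg (fun x => hermForm N F q x (nv X u)) hst
      beta_reduce at h1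
      rw [hermForm_add_left, hermForm_smul_left, hermForm_smul_left, hnn, mul_zero, add_zero,
        hermForm_zero_left] at h1
      have hs : s = 0 := (mul_eq_zero.mp h1).resolve_right hb'
      refine ⟨hs, ?_⟩
      rw [hs, zero_smul, zero_add] at hst
      have h3 := congrArg (fun x => hermForm N F q x u) hst
      beta_reduce at h3
      rw [hermForm_smul_left, hermForm_zero_left] at h3
      exact (mul_eq_zero.mp h3).resolve_right hb
    rw [finrank_span_eq_card hli, Fintype.card_fin]
  · intro w hw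
    obtain ⟨c, rfl⟩ := (Submodule.mem_span_range_iff_exists_fun F).mp hw
    rw [Fin.sum_univ_two]
    simp only [Matrix.cons_val_zero, Matrix.cons_val_one]
    rw [Matrix.mulVec_add, Matrix.mulVec_smul, Matrix.mulVec_smul, mulVec_eq_add_nv X u,
      mulVec_eq_add_nv X (nv X u), nv_nv h2 hXX, add_zero]
    exact Submodule.add_mem _ (Submodule.smul_mem _ _ (Submodule.add_mem _ hmemu hmemn))
      (Submodule.smul_mem _ _ hmemn)

/-- **invariant non-degenerate subspaces of a unitary involution in characteristic two** -/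
theorem exists_invt_ndeg_char2 (h2 : (2 : F) = 0) {X : Matrix (Fin N) (Fin N) F}
    (hXX : X * X = 1)
    (hXU : ∀ u v, hermForm N F q (X *ᵥ u) (X *ᵥ v) = hermForm N F q u v) :
    ∀ (e : ℕ) (E : Submodule F (Fin N → F)), NDeg q E → finrank F E = e →
      (∀ v ∈ E, X *ᵥ v ∈ E) → ∀ m : ℕ, m ≤ e → (Odd e ∨ Even m) →
      ∃ W : Submodule F (Fin N → F), W ≤ E ∧ NDeg q W ∧ finrank F W = m ∧
        ∀ w ∈ W, X *ᵥ w ∈ W := by
  intro e
  induction e using Nat.strong_induction_on with
  | _ e ih =>
    intro E hE he hEX m hm hpar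
    by_cases htriv : ∀ v ∈ E, X *ᵥ v = v
    · obtain ⟨W, hWE, hW, hWm⟩ := exists_ndeg_le hE he hm
      exact ⟨W, hWE, hW, hWm, fun w hw => by rw [htriv w (hWE hw)]; exact hw⟩
    · push Not at htriv
      obtain ⟨u₀, hu₀, hne⟩ := htriv
      obtain ⟨u, hu, hb⟩ := exists_nv_aniso h2 hXX hXU hE hEX hu₀ hne
      obtain ⟨hP, hP2, hPX⟩ := plane_props h2 hXX hXU hb
      set P := Submodule.span F (Set.range ![u, nv X u]) with hPdef
      have hPE : P ≤ E := by
        rw [hPdef, Submodule.span_le]
        rintro _ ⟨i, rfl⟩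
        fin_cases i
        · exact hu
        · exact E.sub_mem (hEX u hu) hu
      have hPs : ∀ w ∈ P, ∃ w' ∈ P, X *ᵥ w' = w := by
        intro w hw
        refine ⟨X *ᵥ w, hPX w hw, ?_⟩
        rw [Matrix.mulVec_mulVec, hXX, Matrix.one_mulVec]
      have hE' := ndeg_perpIn hE hP hPE
      have hfr := finrank_perpIn (q := q) hP hPE
      have hE'X := perpIn_invt X hXU hEX hPs
      have he2 : finrank F (perpIn q E P) = e - 2 := by omega
      have hlt : e - 2 < e := by omega
      rcases Nat.lt_or_ge m 2 with hm2 | hm2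
      · rcases Nat.eq_zero_or_pos m with hm0 | hm0
        · refine ⟨⊥, bot_le, ndeg_bot, by rw [finrank_bot, hm0], fun w hw => ?_⟩
          rw [(Submodule.mem_bot F).mp hw, Matrix.mulVec_zero]
          exact Submodule.zero_mem _
        · have hm1 : m = 1 := by omega
          have hodd : Odd e := by
            rcases hpar with h | h
            · exact h
            · rw [hm1] at h
              exact absurd h (by decide)
          obtain ⟨t, ht⟩ := hodd
          obtain ⟨W, hWE, hW, hWm, hWX⟩ := ih (e - 2) hlt (perpIn q E P) hE' he2 hE'X m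
            (by omega) (Or.inl ⟨t - 1, by omega⟩)
          exact ⟨W, fun x hx => (hWE hx).1, hW, hWm, hWX⟩
      · have hpar' : Odd (e - 2) ∨ Even (m - 2) := by
          rcases hpar with ⟨t, ht⟩ | ⟨t, ht⟩
          · exact Or.inl ⟨t - 1, by omega⟩
          · exact Or.inr ⟨t - 1, by omega⟩
        obtain ⟨W, hWE, hW, hWm, hWX⟩ := ih (e - 2) hlt (perpIn q E P) hE' he2 hE'X (m - 2)
          (by omega) hpar'
        have hperp : ∀ a ∈ W, ∀ b ∈ P, hermForm N F q a b = 0 := fun a ha b hb' =>
          (hWE ha).2 b hb'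
        refine ⟨W ⊔ P, sup_le (fun x hx => (hWE hx).1) hPE, ndeg_sup hW hP hperp, ?_, ?_⟩
        · rw [finrank_sup_perp hW hperp, hWm, hP2]
          omega
        · intro w hw
          obtain ⟨w₁, hw₁, w₂, hw₂, rfl⟩ := Submodule.mem_sup.mp hw
          rw [Matrix.mulVec_add]
          exact Submodule.add_mem_sup (hWX w₁ hw₁) (hPX w₂ hw₂)

end Cfsg.Agent.Helper8.HermTwo
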