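import Mathlib
import Cfsg.Agent.Helper8.HermTwoC
set_option autoImplicit false
set_option linter.unusedSectionVars false

/-! The fixed-point-free coordinate involution: a unitary involution in characteristic two with no
invariant non-degenerate subspace of odd dimension (helper8). -/

namespace Cfsg.Agent.Helper8.HermTwo

open Matrix Module Cfsg Cfsg.Agent.Helper7.Herm Cfsg.Agent.Helper8.GUOrder Cfsg.Agent.Helper8.AutSU
  Cfsg.Agent.Helper7.SUNd Cfsg.Agent.Helper8.SURoot Cfsg.Agent.Helper7.Ex27

variable {F : Type*} [Field F] [Fintype F] {q N : ℕ} [hF : Fact (Fintype.card F = q ^ 2)]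

/-- the fixed space of a matrix -/
def fixSp (X : Matrix (Fin N) (Fin N) F) : Submodule F (Fin N → F) where
  carrier := {v | X *ᵥ v = v}
  add_mem' := by
    intro a b ha hb
    show X *ᵥ (a + b) = a + b
    rw [Matrix.mulVec_add, ha, hb]
  zero_mem' := Matrix.mulVec_zero X
  smul_mem' := by
    intro c a ha
    show X *ᵥ (c • a) = c • a
    rw [Matrix.mulVec_smul, ha]

omit [Fintype F] hF in
theorem mem_fixSp {X : Matrix (Fin N) (Fin N) F} {v : Fin N → F} : v ∈ fixSp X ↔ X *ᵥ v = v :=
  Iff.rfl

omit [Fintype F] hF in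
/-- an invariant subspace of an involution in characteristic two is at most twice its fixed part -/
theorem finrank_le_two_mul_fix (h2 : (2 : F) = 0) {X : Matrix (Fin N) (Fin N) F} (hXX : X * X = 1)
    {U : Submodule F (Fin N → F)} (hU : ∀ v ∈ U, X *ᵥ v ∈ U) :
    finrank F U ≤ 2 * finrank F ↥(U ⊓ fixSp X) := by
  have hU' : ∀ x ∈ U, (Matrix.toLin' X - 1) x ∈ U := by
    intro x hx
    rw [LinearMap.sub_apply, Matrix.toLin'_apply, Module.End.one_apply]
    exact U.sub_mem (hU x hx) hx
  set φ : ↥U →ₗ[F] ↥U := LinearMap.restrict (Matrix.toLin' X - 1) hU' with hφ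
  have hφv : ∀ v : ↥U, ((φ v : ↥U) : Fin N → F) = nv X (v : Fin N → F) := by
    intro v
    rw [hφ, LinearMap.coe_restrict_apply, LinearMap.sub_apply, Matrix.toLin'_apply,
      Module.End.one_apply]
    rfl
  have hrk : LinearMap.range φ ≤ LinearMap.ker φ := by
    rintro _ ⟨v, rfl⟩
    rw [LinearMap.mem_ker]
    apply Subtype.ext
    rw [hφv, hφv, nv_nv h2 hXX]
    rfl
  have h1 := LinearMap.finrank_range_add_finrank_ker φ
  have h2' := Submodule.finrank_mono hrk
  have h3 : finrank F (LinearMap.ker φ) ≤ finrank F ↥(U ⊓ fixSp X) := by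
    rw [← Submodule.finrank_map_subtype_eq U (LinearMap.ker φ)]
    apply Submodule.finrank_mono
    intro x hx
    obtain ⟨v, hv, rfl⟩ := Submodule.mem_map.mp hx
    refine ⟨v.2, ?_⟩
    rw [LinearMap.mem_ker] at hv
    have := congrArg Subtype.val hv
    rw [hφv] at this
    show X *ᵥ (v : Fin N → F) = v
    exact sub_eq_zero.mp this
  omega

/-- the partner of a coordinate -/
def partner (k : ℕ) : Fin (k + k) → Fin (k + k) := fun i =>
  ⟨if (i : ℕ) % 2 = 0 then i + 1 else i - 1, by have := i.2; split_ifs <;> omega⟩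

theorem partner_partner (k : ℕ) (i : Fin (k + k)) : partner k (partner k i) = i := by
  apply Fin.ext
  simp only [partner]
  split_ifs <;> omega

theorem partner_bijective (k : ℕ) : Function.Bijective (partner k) :=
  Function.Involutive.bijective (partner_partner k)

/-- the coordinate involution exchanging `2j` and `2j+1` -/
def pairMat (F : Type*) [Field F] (k : ℕ) : Matrix (Fin (k + k)) (Fin (k + k)) F :=
  Matrix.of fun i j => if j = partner k i then 1 else 0

omit [Fintype F] hF in
theorem pairMat_mulVec (k : ℕ) (v : Fin (k + k) → F) (i : Fin (k + k)) :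
    (pairMat F k *ᵥ v) i = v (partner k i) := by
  simp [pairMat, Matrix.mulVec, dotProduct]

omit [Fintype F] hF in
theorem pairMat_sq (k : ℕ) : pairMat F k * pairMat F k = 1 := by
  apply Cfsg.Agent.Helper8.ReflMatrix.matrix_ext
  intro v
  rw [← Matrix.mulVec_mulVec, Matrix.one_mulVec]
  funext i
  rw [pairMat_mulVec, pairMat_mulVec, partner_partner]

omit [Fintype F] hF in
theorem pairMat_herm (k : ℕ) (u v : Fin (k + k) → F) :
    hermForm (k + k) F q (pairMat F k *ᵥ u) (pairMat F k *ᵥ v) = hermForm (k + k) F q u v := by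
  unfold hermForm
  simp only [pairMat_mulVec]
  exact Function.Bijective.sum_comp (partner_bijective k) (fun i => u i * v i ^ q)

omit [Fintype F] hF in
theorem finrank_fixSp_pairMat (k : ℕ) : finrank F (fixSp (pairMat F k)) ≤ k := by
  let ψ : ↥(fixSp (pairMat F k)) →ₗ[F] (Fin k → F) :=
    { toFun := fun v j => (v : Fin (k + k) → F) ⟨2 * j, by have := j.2; omega⟩
      map_add' := fun a b => rfl
      map_smul' := fun c a => rfl }
  have hinj : Function.Injective ψ := by
    intro a b hab
    apply Subtype.ext
    funext i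
    have ha := a.2
    have hb := b.2
    rw [mem_fixSp] at ha hb
    by_cases hi : (i : ℕ) % 2 = 0
    · have h1 := congrFun hab ⟨(i : ℕ) / 2, by have := i.2; omega⟩
      have hidx : (⟨2 * ((i : ℕ) / 2), by have := i.2; omega⟩ : Fin (k + k)) = i :=
        Fin.ext (by simp only; omega)
      simp only [ψ, LinearMap.coe_mk, AddHom.coe_mk] at h1
      rw [hidx] at h1
      exact h1
    · have h1 := congrFun hab ⟨(i : ℕ) / 2, by have := i.2; omega⟩
      have hidx : (⟨2 * ((i : ℕ) / 2), by have := i.2; omega⟩ : Fin (k + k)) = partner k i := by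
        apply Fin.ext
        simp only [partner]
        rw [if_neg hi]
        omega
      simp only [ψ, LinearMap.coe_mk, AddHom.coe_mk] at h1
      rw [hidx] at h1
      have ha' := congrFun ha i
      have hb' := congrFun hb i
      rw [pairMat_mulVec] at ha' hb'
      rw [← ha', ← hb']
      exact h1
  have := LinearMap.finrank_le_finrank_of_injective hinj
  rw [Module.finrank_fin_fun] at this
  exact this

end Cfsg.Agent.Helper8.HermTwo
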