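import Mathlib
import Cfsg.Agent.Helper8.HermTwoD
set_option autoImplicit false
set_option linter.unusedSectionVars false

/-! Elements of order two modulo scalars of `SU_n(q)`, `q` even, and invariant non-degenerate
subspaces (helper8). -/

namespace Cfsg.Agent.Helper8.HermTwo

open Matrix Module Cfsg Cfsg.Agent.Helper7.Herm Cfsg.Agent.Helper8.GUOrder Cfsg.Agent.Helper8.AutSU
  Cfsg.Agent.Helper7.SUNd Cfsg.Agent.Helper8.SURoot Cfsg.Agent.Helper7.Ex27

variable {F : Type*} [Field F] [Fintype F] {q N : ℕ} [hF : Fact (Fintype.card F = q ^ 2)]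

/-- the coordinate involution has no invariant non-degenerate subspace of odd dimension -/
theorem no_invt_ndeg_odd_pairMat (h2 : (2 : F) = 0) (k m : ℕ) (hm : Odd m)
    (W : Submodule F (Fin (k + k) → F)) (hW : NDeg q W) (hWm : finrank F W = m)
    (hWX : ∀ w ∈ W, pairMat F k *ᵥ w ∈ W) : False := by
  have hXX := pairMat_sq (F := F) k
  have hWs : ∀ w ∈ W, ∃ w' ∈ W, pairMat F k *ᵥ w' = w := by
    intro w hw
    refine ⟨pairMat F k *ᵥ w, hWX w hw, ?_⟩
    rw [Matrix.mulVec_mulVec, hXX, Matrix.one_mulVec]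
  have hW'X := perpIn_invt (q := q) (E := ⊤) (W := W) (pairMat F k) (pairMat_herm k)
    (fun _ _ => Submodule.mem_top) hWs
  have hfr := finrank_perpIn (q := q) (E := ⊤) hW le_top
  rw [finrank_top, Module.finrank_fin_fun] at hfr
  have ha := finrank_le_two_mul_fix h2 hXX hWX
  have hb := finrank_le_two_mul_fix h2 hXX hW'X
  have hfix := finrank_fixSp_pairMat (F := F) k
  have hinf : (W ⊓ fixSp (pairMat F k)) ⊓ (perpIn q ⊤ W ⊓ fixSp (pairMat F k)) = ⊥ := by
    rw [eq_bot_iff]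
    rintro x ⟨⟨hx1, _⟩, ⟨hx2, _⟩⟩
    by_contra hx0
    obtain ⟨y, hy, hne⟩ := hW x hx1 hx0
    exact hne (hx2.2 y hy)
  have hsup : (W ⊓ fixSp (pairMat F k)) ⊔ (perpIn q ⊤ W ⊓ fixSp (pairMat F k)) ≤
      fixSp (pairMat F k) := sup_le inf_le_right inf_le_right
  have h3 := Submodule.finrank_sup_add_finrank_inf_eq (W ⊓ fixSp (pairMat F k))
    (perpIn q ⊤ W ⊓ fixSp (pairMat F k))
  rw [hinf, finrank_bot, add_zero] at h3
  have h4 := Submodule.finrank_mono hsup
  obtain ⟨s, hs⟩ := hm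
  omega

omit [Fintype F] hF in
theorem det_eq_one_of_sq (h2 : (2 : F) = 0) {X : Matrix (Fin N) (Fin N) F} (hXX : X * X = 1) :
    X.det = 1 := by
  have hd : X.det * X.det = 1 := by rw [← Matrix.det_mul, hXX, Matrix.det_one]
  have h0 : (X.det - 1) * (X.det - 1) = 0 := by linear_combination hd + (1 - X.det) * h2
  have := mul_self_eq_zero.mp h0
  exact sub_eq_zero.mp this

/-- the coordinate involution as an element of `SU` -/
def pairSU (h2 : (2 : F) = 0) (k : ℕ) : Matrix.SpecialLinearGroup (Fin (k + k)) F :=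
  ⟨pairMat F k, det_eq_one_of_sq h2 (pairMat_sq k)⟩

omit [Fintype F] hF in
theorem pairSU_mem (h2 : (2 : F) = 0) (k : ℕ) : pairSU h2 k ∈ SU (k + k) F q :=
  fun u v => pairMat_herm k u v

omit [Fintype F] hF in
theorem pairMat_not_scalar (k : ℕ) (hk : 1 ≤ k) (z : F) :
    pairMat F k ≠ z • (1 : Matrix (Fin (k + k)) (Fin (k + k)) F) := by
  intro h
  have h1 := congrFun (congrArg (fun M => M *ᵥ (Pi.single ⟨0, by omega⟩ (1 : F))) h) ⟨1, by omega⟩
  simp only [pairMat_mulVec, Matrix.smul_mulVec, Matrix.one_mulVec, Pi.smul_apply] at h1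
  have hp : partner k ⟨1, by omega⟩ = ⟨0, by omega⟩ := by
    apply Fin.ext
    simp [partner]
  rw [hp, Pi.single_eq_same, Pi.single_eq_of_ne (by intro h; simpa using congrArg Fin.val h)]
    at h1
  simp at h1

/-- scalars of the unitary group have norm one -/
theorem scalar_norm_one (hN : 1 ≤ N) {X : Matrix (Fin N) (Fin N) F}
    (hXU : ∀ u v, hermForm N F q (X *ᵥ u) (X *ᵥ v) = hermForm N F q u v) {z : F}
    (hz : X * X = z • (1 : Matrix (Fin N) (Fin N) F)) : z * z ^ q = 1 := by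
  have h1 := hXU (X *ᵥ Pi.single ⟨0, by omega⟩ 1) (X *ᵥ Pi.single ⟨0, by omega⟩ 1)
  have h3 := hXU (Pi.single ⟨0, by omega⟩ 1) (Pi.single ⟨0, by omega⟩ 1)
  rw [h3, Matrix.mulVec_mulVec, hz, Matrix.smul_mulVec, Matrix.one_mulVec, hermForm_smul_left,
    hermForm_smul_right, h_single_single] at h1
  linear_combination h1

/-- **characteristic two**: every element of order two modulo scalars has an invariant
non-degenerate `m`-space iff `n` is odd or `m` is even -/
theorem nd_two_char2 (h2 : (2 : F) = 0) (hsq : ∀ a : F, ∃ c : F, c * c = a) (n m : ℕ)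
    (hn : 3 ≤ n) (hmn : m ≤ n) :
    (∀ x : Matrix.SpecialLinearGroup (Fin n) F, x ∈ SU n F q →
      (∃ z : F, ((x ^ 2 : Matrix.SpecialLinearGroup (Fin n) F) : Matrix (Fin n) (Fin n) F) =
        z • (1 : Matrix (Fin n) (Fin n) F)) →
      (∀ z : F, (x : Matrix (Fin n) (Fin n) F) ≠ z • (1 : Matrix (Fin n) (Fin n) F)) →
      ∃ W : Submodule F (Fin n → F), finrank F W = m ∧
        (∀ u ∈ W, u ≠ 0 → ∃ v ∈ W, hermForm n F q u v ≠ 0) ∧
        W.map (Matrix.toLin' (x : Matrix (Fin n) (Fin n) F)) ≤ W) ↔ (Odd n ∨ Even m) := by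
  constructor
  · intro hall
    by_contra hcon
    rw [not_or, Nat.not_odd_iff_even, Nat.not_even_iff_odd] at hcon
    obtain ⟨⟨k, rfl⟩, hmo⟩ := hcon
    obtain ⟨W, hWm, hW, hWX⟩ := hall (pairSU h2 k) (pairSU_mem h2 k)
      ⟨1, by
        rw [pow_two, one_smul]
        exact pairMat_sq k⟩
      (fun z => pairMat_not_scalar k (by omega) z)
    refine no_invt_ndeg_odd_pairMat (q := q) h2 k m hmo W hW hWm (fun w hw => ?_)
    apply hWX
    exact ⟨w, hw, Matrix.toLin'_apply _ _⟩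
  · intro hpar x hx hz _
    obtain ⟨z, hz⟩ := hz
    set X : Matrix (Fin n) (Fin n) F := (x : Matrix (Fin n) (Fin n) F) with hXdef
    have hXX : X * X = z • (1 : Matrix (Fin n) (Fin n) F) := by
      rw [← hz, pow_two]
      rfl
    have hXU : ∀ u v, hermForm n F q (X *ᵥ u) (X *ᵥ v) = hermForm n F q u v := fun u v => hx u v
    have hzz := scalar_norm_one (by omega) hXU hXX
    obtain ⟨c, hc⟩ := hsq z
    have hz0 : z ≠ 0 := by
      rintro rfl
      rw [zero_mul] at hzz
      exact zero_ne_one hzz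
    have hc0 : c ≠ 0 := by
      rintro rfl
      rw [mul_zero] at hc
      exact hz0 hc.symm
    have hcc : c * c ^ q = 1 := by
      have h1 : (c * c ^ q) * (c * c ^ q) = 1 := by
        rw [← hzz, ← hc, mul_pow]
        ring
      have h0 : (c * c ^ q - 1) * (c * c ^ q - 1) = 0 := by
        linear_combination h1 + (1 - c * c ^ q) * h2
      exact sub_eq_zero.mp (mul_self_eq_zero.mp h0)
    set Y : Matrix (Fin n) (Fin n) F := c⁻¹ • X with hYdef
    have hYY : Y * Y = 1 := by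
      rw [hYdef, Matrix.smul_mul, Matrix.mul_smul, hXX, smul_smul, smul_smul, ← hc]
      rw [show c⁻¹ * c⁻¹ * (c * c) = 1 by field_simp, one_smul]
    have hYU : ∀ u v, hermForm n F q (Y *ᵥ u) (Y *ᵥ v) = hermForm n F q u v := by
      intro u v
      rw [hYdef, Matrix.smul_mulVec, Matrix.smul_mulVec, hermForm_smul_left, hermForm_smul_right,
        hXU, inv_pow, ← mul_assoc, ← mul_inv, hcc, inv_one, one_mul]
    obtain ⟨W, -, hW, hWm, hWY⟩ := exists_invt_ndeg_char2 h2 hYY hYU n ⊤ ndeg_top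
      (by rw [finrank_top, Module.finrank_fin_fun]) (fun _ _ => Submodule.mem_top) m hmn hpar
    refine ⟨W, hWm, hW, ?_⟩
    rintro _ ⟨w, hw, rfl⟩
    rw [Matrix.toLin'_apply]
    have h1 := hWY w hw
    rw [hYdef, Matrix.smul_mulVec] at h1
    have h3 := W.smul_mem c h1
    rw [smul_smul, mul_inv_cancel₀ hc0, one_smul] at h3
    exact h3

end Cfsg.Agent.Helper8.HermTwo
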