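import Mathlib
import Cfsg.Agent.Helper8.HermTwoE
import Cfsg.Agent.Helper7.PolK
set_option autoImplicit false
set_option linter.unusedSectionVars false

/-! Elements of order two modulo scalars of `GU_n(q)`, `q` odd: the two types, with adapted
orthonormal bases resp. hyperbolic frames (helper8). -/

namespace Cfsg.Agent.Helper8.HermTwo

open Matrix Module Cfsg Cfsg.Agent.Helper7.Herm Cfsg.Agent.Helper8.GUOrder Cfsg.Agent.Helper8.AutSU
  Cfsg.Agent.Helper7.SUNd Cfsg.Agent.Helper8.SURoot Cfsg.Agent.Helper7.Ex27 Cfsg.Agent.Helper7.Pol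
  Cfsg.Agent.Helper7.SUPair Cfsg.Agent.Helper7.Invol

variable {F : Type*} [Field F] [Fintype F] {q N : ℕ} [hF : Fact (Fintype.card F = q ^ 2)]

theorem odd_q (h2 : (2 : F) ≠ 0) : Odd q := by
  by_contra hcon
  rw [Nat.not_odd_iff_even] at hcon
  apply h2
  have h1 : Fintype.card F % 2 = 0 := by
    rw [hF.out]
    obtain ⟨s, hs⟩ := hcon
    rw [hs]
    have : (s + s) ^ 2 = 2 * (2 * s * s) := by ring
    omega
  have h3 := FiniteField.even_card_iff_char_two.mpr h1
  have h4 := ringChar.Nat.cast_ringChar (R := F)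
  rw [h3] at h4
  exact_mod_cast h4

theorem neg_one_pow_succ (h2 : (2 : F) ≠ 0) : (-1 : F) ^ (q + 1) = 1 := by
  obtain ⟨s, hs⟩ := odd_q (q := q) h2
  have : Even (q + 1) := ⟨s + 1, by omega⟩
  exact this.neg_one_pow

/-- a square root of the scalar, of norm `1` or `-1`. -/
theorem exists_sqrt_scalar (h2 : (2 : F) ≠ 0) {z : F} (hzq : z * z ^ q = 1) :
    ∃ c : F, c ≠ 0 ∧ c * c = z ∧ (c * c ^ q = 1 ∨ c * c ^ q = -1) := by
  have hqodd := odd_q (q := q) h2
  have hz0 : z ≠ 0 := by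
    rintro rfl
    rw [zero_mul] at hzq
    exact zero_ne_one hzq
  obtain ⟨c, hc⟩ : IsSquare z := by
    have hchar : ringChar F ≠ 2 := by
      intro h
      apply h2
      have := ringChar.Nat.cast_ringChar (R := F)
      rw [h] at this
      exact_mod_cast this
    rw [FiniteField.isSquare_iff hchar hz0, hF.out]
    obtain ⟨s, hs⟩ := hqodd
    have : q ^ 2 / 2 = (q + 1) * s := by
      rw [hs]
      have : (2 * s + 1) ^ 2 = 2 * ((2 * s + 1 + 1) * s) + 1 := by ring
      omega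
    rw [this, pow_mul, pow_succ', hzq, one_pow]
  have hc0 : c ≠ 0 := by
    rintro rfl
    rw [mul_zero] at hc
    exact hz0 hc
  have hcq2 : (c * c ^ q) ^ 2 = 1 := by
    have : (c * c ^ q) ^ 2 = (c * c) * (c * c) ^ q := by ring
    rw [this, ← hc, hzq]
  refine ⟨c, hc0, hc.symm, ?_⟩
  have : (c * c ^ q - 1) * (c * c ^ q + 1) = 0 := by linear_combination hcq2
  rcases mul_eq_zero.mp this with h | h
  · left; linear_combination h
  · right; linear_combination h

/-- **type A**: an orthonormal basis of eigenvectors. -/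
theorem typeA_onb (h2 : (2 : F) ≠ 0) (X : Matrix (Fin N) (Fin N) F)
    (hXU : ∀ u v, hermForm N F q (X *ᵥ u) (X *ᵥ v) = hermForm N F q u v) {c : F} (hc0 : c ≠ 0)
    (hXX : X * X = (c * c) • (1 : Matrix (Fin N) (Fin N) F)) (hc1 : c * c ^ q = 1) :
    ∃ (b : Fin N → (Fin N → F)) (e : Fin N → Fin 2),
      (∀ i j, hermForm N F q (b i) (b j) = if i = j then 1 else 0) ∧
      (∀ i, X *ᵥ b i = (c * pm F (e i)) • b i) ∧
      X.det = c ^ N * (-1) ^ (Finset.univ.filter (fun i => e i = 1)).card := by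
  classical
  have hm1 := neg_one_pow_succ (q := q) h2
  obtain ⟨Y, hYdef⟩ : ∃ Y : Matrix (Fin N) (Fin N) F, Y = c⁻¹ • X := ⟨_, rfl⟩
  have hYY : Y * Y = 1 := by
    rw [hYdef, smul_mul_smul_comm, hXX, smul_smul]
    have : c⁻¹ * c⁻¹ * (c * c) = 1 := by field_simp
    rw [this, one_smul]
  have hXY : ∀ v, X *ᵥ v = c • (Y *ᵥ v) := by
    intro v
    rw [hYdef, Matrix.smul_mulVec, smul_smul, mul_inv_cancel₀ hc0, one_smul]
  have hcinv : c⁻¹ * (c⁻¹) ^ q = 1 := by
    rw [inv_pow, ← mul_inv, hc1, inv_one]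
  have hYU : ∀ u v, hermForm N F q (Y *ᵥ u) (Y *ᵥ v) = hermForm N F q u v := by
    intro u v
    rw [hYdef, Matrix.smul_mulVec, Matrix.smul_mulVec, hermForm_smul_left, hermForm_smul_right,
      ← mul_assoc, hcinv, one_mul, hXU]
  obtain ⟨b, e, hb, hYb⟩ := exists_onb_eigen_top (q := q) Y hYU (pm F)
    (pm_unitary_ne h2 hm1) (invol_decomp Y h2 hYY)
  have hXb : ∀ i, X *ᵥ b i = (c * pm F (e i)) • b i := by
    intro i
    rw [hXY, hYb, smul_smul]
  obtain ⟨bb, hbb⟩ := exists_basis_of_onb_gen (q := q) b hb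
  have hdet := det_of_diag_basis X bb (fun i => c * pm F (e i)) (fun i => by rw [hbb]; exact hXb i)
  rw [Finset.prod_mul_distrib, Finset.prod_const, Finset.card_univ, Fintype.card_fin, prod_pm] at hdet
  exact ⟨b, e, hb, hXb, hdet⟩

/-- **type B**: a hyperbolic frame of eigenvectors. -/
theorem typeB_frame (h2 : (2 : F) ≠ 0) (X : Matrix (Fin N) (Fin N) F)
    (hXU : ∀ u v, hermForm N F q (X *ᵥ u) (X *ᵥ v) = hermForm N F q u v) {c : F} (hc0 : c ≠ 0)
    (hXX : X * X = (c * c) • (1 : Matrix (Fin N) (Fin N) F)) (hc1 : c * c ^ q = -1) :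
    ∃ (k : ℕ) (u w : Fin k → (Fin N → F)), N = k + k ∧ HFrame q u w ∧
      (∀ i, X *ᵥ u i = c • u i) ∧ (∀ i, X *ᵥ w i = (-c) • w i) ∧ X.det = c ^ k * (-c) ^ k := by
  classical
  obtain ⟨Y, hYdef⟩ : ∃ Y : Matrix (Fin N) (Fin N) F, Y = c⁻¹ • X := ⟨_, rfl⟩
  have hYY : Y * Y = 1 := by
    rw [hYdef, smul_mul_smul_comm, hXX, smul_smul]
    have : c⁻¹ * c⁻¹ * (c * c) = 1 := by field_simp
    rw [this, one_smul]
  have hXY : ∀ v, X *ᵥ v = c • (Y *ᵥ v) := by
    intro v
    rw [hYdef, Matrix.smul_mulVec, smul_smul, mul_inv_cancel₀ hc0, one_smul]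
  have hfixY : ∀ v, v ∈ fixS Y → X *ᵥ v = c • v := by
    intro v hv
    rw [hXY, mem_fixS.mp hv]
  have hfixY' : ∀ v, v ∈ fixS (-Y) → X *ᵥ v = (-c) • v := by
    intro v hv
    have h1 : Y *ᵥ v = -v := by
      have := mem_fixS.mp hv
      rw [Matrix.neg_mulVec] at this
      exact neg_eq_iff_eq_neg.mp this
    rw [hXY, h1, smul_neg, neg_smul]
  have hts' : ∀ (c' : F), c' * c' ^ q = -1 → ∀ u v : Fin N → F, X *ᵥ u = c' • u →
      X *ᵥ v = c' • v → hermForm N F q u v = 0 := by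
    intro c' hc' u v hu hv
    have h1 := hXU u v
    rw [hu, hv, hermForm_smul_left, hermForm_smul_right, ← mul_assoc, hc'] at h1
    have h3 : (2 : F) * hermForm N F q u v = 0 := by linear_combination -h1
    exact (mul_eq_zero.mp h3).resolve_left h2
  have hc1' : (-c) * (-c) ^ q = -1 := by
    rw [neg_pow_q hF.out]
    linear_combination hc1
  have hdY : LPair q (fixS Y) (fixS (-Y)) := by
    refine ⟨fun u hu v hv => hts' c hc1 u v (hfixY u hu) (hfixY v hv),
      fun u hu v hv => hts' (-c) hc1' u v (hfixY' u hu) (hfixY' v hv), ?_, ?_⟩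
    · rw [Submodule.eq_bot_iff]
      rintro v ⟨h1, h3⟩
      have h4 := mem_fixS.mp h1
      have h5 := mem_fixS.mp h3
      rw [Matrix.neg_mulVec, h4] at h5
      have h6 : (2 : F) • v = 0 := by
        rw [two_smul]
        nth_rewrite 1 [← h5]
        exact neg_add_cancel v
      exact (smul_eq_zero.mp h6).resolve_left h2
    · rw [eq_top_iff]
      intro v _
      obtain ⟨c', hc', hsum', -⟩ := invol_decomp Y h2 hYY v
      rw [Fin.sum_univ_two] at hsum'
      rw [hsum']
      apply Submodule.add_mem_sup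
      · rw [mem_fixS, hc' 0]
        simp [pm]
      · rw [mem_fixS, Matrix.neg_mulVec, hc' 1]
        simp [pm]
  have hdim : finrank F (fixS Y) + finrank F (fixS (-Y)) = N := by
    have h1 := Submodule.finrank_sup_add_finrank_inf_eq (fixS Y) (fixS (-Y))
    rw [hdY.sup, hdY.inf, finrank_top, finrank_bot, Module.finrank_fin_fun] at h1
    omega
  obtain ⟨u₁, w₁, hfr₁, -, -⟩ := exists_frame_of_paired (q := q) _ (fixS Y) (fixS (-Y))
    hdY.paired rfl
  obtain ⟨u₂, w₂, hfr₂, -, -⟩ := exists_frame_of_paired (q := q) _ (fixS (-Y)) (fixS Y)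
    hdY.symm.paired rfl
  have hle₁ := hfr₁.two_mul_le
  have hle₂ := hfr₂.two_mul_le
  obtain ⟨u, w, hfr, hu, hw⟩ := exists_frame_of_paired (q := q) (finrank F (fixS Y)) (fixS Y)
    (fixS (-Y)) hdY.paired rfl
  have hNk : N = finrank F (fixS Y) + finrank F (fixS Y) := by omega
  obtain ⟨bb, hbb⟩ := hfr.exists_basis hNk
  have hdet := det_of_diag_basis X bb
    (Fin.append (fun _ : Fin (finrank F (fixS Y)) => c) (fun _ : Fin (finrank F (fixS Y)) => -c))
    (fun i => by
      rw [hbb]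
      refine Fin.addCases (fun a => ?_) (fun a => ?_) i
      · rw [Fin.append_left, Fin.append_left]
        exact hfixY _ (hu a)
      · rw [Fin.append_right, Fin.append_right]
        exact hfixY' _ (hw a))
  rw [Fin.prod_univ_add] at hdet
  simp only [Fin.append_left, Fin.append_right, Finset.prod_const, Finset.card_univ,
    Fintype.card_fin] at hdet
  exact ⟨finrank F (fixS Y), u, w, hNk, hfr, fun i => hfixY _ (hu i), fun i => hfixY' _ (hw i), hdet⟩

end Cfsg.Agent.Helper8.HermTwo
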