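import Mathlib
import Cfsg.Agent.Helper8.HermTwoF
set_option autoImplicit false
set_option linter.unusedSectionVars false

/-! Subspaces spanned by parts of hyperbolic frames and of orthonormal bases; invariant
non-degenerate subspaces for elements of order two modulo scalars, `q` odd (helper8). -/

namespace Cfsg.Agent.Helper8.HermTwo

open Matrix Module Cfsg Cfsg.Agent.Helper7.Herm Cfsg.Agent.Helper8.GUOrder Cfsg.Agent.Helper8.AutSU
  Cfsg.Agent.Helper7.SUNd Cfsg.Agent.Helper8.SURoot Cfsg.Agent.Helper7.Ex27 Cfsg.Agent.Helper7.Pol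
  Cfsg.Agent.Helper7.SUPair Cfsg.Agent.Helper7.Invol

variable {F : Type*} [Field F] [Fintype F] {q N : ℕ} [hF : Fact (Fintype.card F = q ^ 2)]

theorem frame_sub {k j : ℕ} {u w : Fin k → (Fin N → F)} (h : HFrame q u w) (hj : j ≤ k) :
    HFrame q (fun i => u (Fin.castLE hj i)) (fun i => w (Fin.castLE hj i)) := by
  refine ⟨fun a b => h.uu _ _, fun a b => h.ww _ _, fun a b => ?_⟩
  rw [h.uw]
  by_cases hab : a = b
  · rw [if_pos hab, if_pos (by rw [hab])]
  · rw [if_neg hab, if_neg (fun h' => hab (Fin.castLE_injective hj h'))]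

/-- the span of a hyperbolic frame is non-degenerate of dimension `k + k`. -/
theorem frame_span_ndeg {k : ℕ} {u w : Fin k → (Fin N → F)} (h : HFrame q u w) :
    NDeg q (Submodule.span F (Set.range (Fin.append u w))) ∧
      finrank F (Submodule.span F (Set.range (Fin.append u w))) = k + k := by
  refine ⟨?_, by rw [finrank_span_eq_card h.li, Fintype.card_fin]⟩
  intro v hv hv0
  obtain ⟨g, rfl⟩ := (Submodule.mem_span_range_iff_exists_fun F).mp hv
  have h1 : ∀ a, hermForm N F q (∑ i, g i • Fin.append u w i) (w a) = g (Fin.castAdd k a) := by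
    intro a
    rw [herm_lincomb_left, Fin.sum_univ_add]
    simp only [Fin.append_left, Fin.append_right, h.uw, h.ww, mul_zero, Finset.sum_const_zero,
      add_zero, mul_ite, mul_one, Finset.sum_ite_eq', Finset.mem_univ, if_true]
  have h3 : ∀ a, hermForm N F q (∑ i, g i • Fin.append u w i) (u a) = g (Fin.natAdd k a) := by
    intro a
    rw [herm_lincomb_left, Fin.sum_univ_add]
    simp only [Fin.append_left, Fin.append_right, h.uu, h.wu, mul_zero, Finset.sum_const_zero,
      zero_add, mul_ite, mul_one, Finset.sum_ite_eq', Finset.mem_univ, if_true]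
  have hex : ∃ i, g i ≠ 0 := by
    by_contra hcon
    push Not at hcon
    apply hv0
    apply Finset.sum_eq_zero
    intro i _
    rw [hcon i, zero_smul]
  obtain ⟨i, hi⟩ := hex
  revert hi
  refine Fin.addCases (fun a => ?_) (fun a => ?_) i
  · intro hi
    refine ⟨w a, Submodule.subset_span ⟨Fin.natAdd k a, by rw [Fin.append_right]⟩, ?_⟩
    rw [h1]
    exact hi
  · intro hi
    refine ⟨u a, Submodule.subset_span ⟨Fin.castAdd k a, by rw [Fin.append_left]⟩, ?_⟩
    rw [h3]
    exact hi

/-- the span of one half of a hyperbolic frame is totally isotropic of dimension `k`. -/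
theorem frame_span_ti {k : ℕ} {u w : Fin k → (Fin N → F)} (h : HFrame q u w) :
    (∀ x ∈ Submodule.span F (Set.range u), ∀ y ∈ Submodule.span F (Set.range u),
      hermForm N F q x y = 0) ∧ finrank F (Submodule.span F (Set.range u)) = k := by
  constructor
  · intro x hx y hy
    obtain ⟨g, rfl⟩ := (Submodule.mem_span_range_iff_exists_fun F).mp hx
    obtain ⟨g', rfl⟩ := (Submodule.mem_span_range_iff_exists_fun F).mp hy
    rw [herm_lincomb_left]
    apply Finset.sum_eq_zero
    intro i _
    rw [herm_lincomb_right]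
    simp only [h.uu, mul_zero, Finset.sum_const_zero]
  · have hli : LinearIndependent F u := by
      have := h.li.comp (Fin.castAdd k) (Fin.castAdd_injective k k)
      have h1 : Fin.append u w ∘ Fin.castAdd k = u := by
        funext a
        simp
      rwa [h1] at this
    rw [finrank_span_eq_card hli, Fintype.card_fin]

omit [Fintype F] hF in
/-- a span of eigenvectors is invariant. -/
theorem span_invt {ι : Type*} (X : Matrix (Fin N) (Fin N) F) (b : ι → (Fin N → F)) (lam : ι → F)
    (hX : ∀ i, X *ᵥ b i = lam i • b i) :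
    ∀ v ∈ Submodule.span F (Set.range b), X *ᵥ v ∈ Submodule.span F (Set.range b) := by
  intro v hv
  induction hv using Submodule.span_induction with
  | mem x hx =>
    obtain ⟨i, rfl⟩ := hx
    rw [hX]
    exact Submodule.smul_mem _ _ (Submodule.subset_span ⟨i, rfl⟩)
  | zero => rw [Matrix.mulVec_zero]; exact Submodule.zero_mem _
  | add x y _ _ hx hy => rw [Matrix.mulVec_add]; exact Submodule.add_mem _ hx hy
  | smul a x _ hx => rw [Matrix.mulVec_smul]; exact Submodule.smul_mem _ _ hx

omit [Fintype F] hF in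
/-- there is no element of type B with determinant one when `q ≡ 3 (mod 4)` and the 2-part of `N` is at
most that of `q + 1`. -/
theorem no_typeB (h2 : (2 : F) ≠ 0) {k : ℕ} (hk : 1 ≤ k) {c : F} (hc1 : c * c ^ q = -1)
    (hdet : c ^ k * (-c) ^ k = 1) (hq4 : q % 4 = 3)
    (hv : padicValNat 2 (k + k) ≤ padicValNat 2 (q + 1)) : False := by
  obtain ⟨a, t, ht, hqat⟩ := Nat.exists_eq_two_pow_mul_odd (show q + 1 ≠ 0 by omega)
  have hav : padicValNat 2 (q + 1) = a := by
    rw [hqat, padicValNat.mul (by positivity) (by rintro rfl; simp at ht),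
      padicValNat.prime_pow, padicValNat.eq_zero_of_not_dvd, add_zero]
    rw [Nat.two_dvd_ne_zero]
    exact Nat.odd_iff.mp ht
  have ha2 : 2 ≤ a := by
    by_contra hcon
    push Not at hcon
    have h4 : 4 ∣ q + 1 := by omega
    rw [hqat] at h4
    interval_cases a
    · rw [pow_zero, one_mul] at h4
      obtain ⟨s, hs⟩ := ht
      omega
    · rw [pow_one] at h4
      obtain ⟨s, hs⟩ := ht
      omega
  have hne : (-1 : F) ≠ 1 := by
    intro h
    apply h2
    linear_combination (-1 : F) * h
  have hcq : c ^ (q + 1) = -1 := by rw [pow_succ']; exact hc1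
  have hd : (c ^ t) ^ 2 ^ a = -1 := by
    rw [← pow_mul, mul_comm, ← hqat, hcq]
  have hord : orderOf (c ^ t) = 2 ^ (a + 1) := by
    apply orderOf_eq_prime_pow
    · rw [hd]
      exact hne
    · rw [pow_succ, pow_mul, hd]
      norm_num
  have hck : c ^ (k + k) = (-1) ^ k := by
    have h1 : c ^ k * (-c) ^ k = (-1) ^ k * c ^ (k + k) := by
      rw [neg_pow, pow_add]
      ring
    rw [h1] at hdet
    have h3 : ((-1 : F) ^ k) * ((-1) ^ k) = 1 := by
      rw [← mul_pow]
      norm_num
    calc c ^ (k + k) = ((-1) ^ k * (-1) ^ k) * c ^ (k + k) := by rw [h3, one_mul]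
      _ = (-1) ^ k * ((-1) ^ k * c ^ (k + k)) := by ring
      _ = (-1) ^ k := by rw [hdet, mul_one]
  rw [hav] at hv
  rcases Nat.even_or_odd k with hke | hko
  · have h1 : (c ^ t) ^ (k + k) = 1 := by
      rw [← pow_mul, mul_comm, pow_mul, hck, hke.neg_one_pow, one_pow]
    have h3 := orderOf_dvd_of_pow_eq_one h1
    rw [hord] at h3
    have h4 := (padicValNat_dvd_iff_le (p := 2) (show k + k ≠ 0 by omega)).mp h3
    omega
  · have h1 : (c ^ t) ^ (2 * (k + k)) = 1 := by
      have : (c ^ t) ^ (2 * (k + k)) = ((c ^ (k + k)) ^ 2) ^ t := by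
        rw [← pow_mul, ← pow_mul, ← pow_mul]
        congr 1
        ring
      rw [this, hck, hko.neg_one_pow]
      norm_num
    have h3 := orderOf_dvd_of_pow_eq_one h1
    rw [hord] at h3
    have h4 := (padicValNat_dvd_iff_le (p := 2) (show 2 * (k + k) ≠ 0 by omega)).mp h3
    have h5 : padicValNat 2 (2 * (k + k)) = 2 := by
      have : 2 * (k + k) = 2 ^ 2 * k := by ring
      rw [this, padicValNat.mul (by positivity) (by omega), padicValNat.prime_pow,
        padicValNat.eq_zero_of_not_dvd, add_zero]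
      rw [Nat.two_dvd_ne_zero]
      exact Nat.odd_iff.mp hko
    omega

/-- **existence of invariant non-degenerate subspaces**, `q` odd. -/
theorem nd_fix_odd (h2 : (2 : F) ≠ 0) {n m : ℕ} (hn : 1 ≤ n) (hmn : m ≤ n)
    (hcond : Odd n ∨ Even m ∨ (padicValNat 2 n ≤ padicValNat 2 (q + 1) ∧ q % 4 = 3))
    (X : Matrix (Fin n) (Fin n) F)
    (hXU : ∀ u v, hermForm n F q (X *ᵥ u) (X *ᵥ v) = hermForm n F q u v) (hdet : X.det = 1)
    {z : F} (hXX : X * X = z • (1 : Matrix (Fin n) (Fin n) F)) :
    ∃ W : Submodule F (Fin n → F), finrank F W = m ∧ NDeg q W ∧ ∀ w ∈ W, X *ᵥ w ∈ W := by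
  have hzq := scalar_norm_one hn hXU hXX
  obtain ⟨c, hc0, hcc, hcase⟩ := exists_sqrt_scalar (q := q) h2 hzq
  rw [← hcc] at hXX
  rcases hcase with hc1 | hc1
  · obtain ⟨b, e, hb, hXb, -⟩ := typeA_onb h2 X hXU hc0 hXX hc1
    have hb' := onb_comp hb (Fin.castLE hmn) (Fin.castLE_injective hmn)
    exact ⟨Submodule.span F (Set.range (fun i => b (Fin.castLE hmn i))), finrank_span_onb hb',
      ndeg_span_onb hb', span_invt X _ (fun i => c * pm F (e (Fin.castLE hmn i))) (fun i => hXb _)⟩
  · obtain ⟨k, u, w, hNk, hfr, hu, hw, hdetB⟩ := typeB_frame h2 X hXU hc0 hXX hc1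
    rcases hcond with hodd | hev | ⟨hv, hq4⟩
    · exfalso
      obtain ⟨s, hs⟩ := hodd
      omega
    · obtain ⟨j, rfl⟩ := hev
      have hj : j ≤ k := by omega
      have hfr' := frame_sub hfr hj
      obtain ⟨hnd, hdim⟩ := frame_span_ndeg hfr'
      refine ⟨_, hdim, hnd, span_invt X _ (Fin.append (fun _ : Fin j => c) (fun _ : Fin j => -c)) ?_⟩
      intro i
      refine Fin.addCases (fun a => ?_) (fun a => ?_) i
      · rw [Fin.append_left, Fin.append_left]
        exact hu _
      · rw [Fin.append_right, Fin.append_right]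
        exact hw _
    · exfalso
      rw [hNk] at hv
      rw [hdetB] at hdet
      exact no_typeB h2 (by omega) hc1 hdet hq4 hv

end Cfsg.Agent.Helper8.HermTwo
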