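import Mathlib
import Cfsg.Agent.Helper8.HermTwoG
set_option autoImplicit false
set_option linter.unusedSectionVars false

/-! Elements of type B of `SU_n(q)`, `q` odd: their invariant non-degenerate subspaces have even
dimension; existence of such elements (helper8). -/

namespace Cfsg.Agent.Helper8.HermTwo

open Matrix Module Cfsg Cfsg.Agent.Helper7.Herm Cfsg.Agent.Helper8.GUOrder Cfsg.Agent.Helper8.AutSU
  Cfsg.Agent.Helper7.SUNd Cfsg.Agent.Helper8.SURoot Cfsg.Agent.Helper7.Ex27 Cfsg.Agent.Helper7.Pol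
  Cfsg.Agent.Helper7.SUPair Cfsg.Agent.Helper7.Invol

variable {F : Type*} [Field F] [Fintype F] {q N : ℕ} [hF : Fact (Fintype.card F = q ^ 2)]

/-- dually paired totally isotropic subspaces: the first is not larger than the second. -/
theorem paired_finrank_le {E E' : Submodule F (Fin N → F)} (h : Paired q E E') :
    finrank F E ≤ finrank F E' := by
  obtain ⟨u, w, hfr, -, hw⟩ := exists_frame_of_paired (q := q) (finrank F E) E E' h rfl
  have h1 := (frame_span_ti hfr.symm).2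
  rw [← h1]
  apply Submodule.finrank_mono
  rw [Submodule.span_le]
  rintro _ ⟨i, rfl⟩
  exact hw i

/-- **an invariant non-degenerate subspace of an element of type B has even dimension.** -/
theorem typeB_invt_even (h2 : (2 : F) ≠ 0) (X : Matrix (Fin N) (Fin N) F)
    (hXU : ∀ u v, hermForm N F q (X *ᵥ u) (X *ᵥ v) = hermForm N F q u v) {c : F} (hc0 : c ≠ 0)
    (hXX : X * X = (c * c) • (1 : Matrix (Fin N) (Fin N) F)) (hc1 : c * c ^ q = -1)
    (W : Submodule F (Fin N → F)) (hW : NDeg q W) (hWX : ∀ w ∈ W, X *ᵥ w ∈ W) :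
    Even (finrank F W) := by
  classical
  have h22 : (2 : F)⁻¹ * 2 = 1 := inv_mul_cancel₀ h2
  have hXXv : ∀ v, X *ᵥ (X *ᵥ v) = (c * c) • v := by
    intro v
    rw [Matrix.mulVec_mulVec, hXX, Matrix.smul_mulVec, Matrix.one_mulVec]
  have hc1' : (-c) * (-c) ^ q = -1 := by
    rw [neg_pow_q hF.out]
    linear_combination hc1
  have hts' : ∀ (c' : F), c' * c' ^ q = -1 → ∀ u v : Fin N → F, X *ᵥ u = c' • u →
      X *ᵥ v = c' • v → hermForm N F q u v = 0 := by
    intro c' hc' u v hu hv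
    have h1 := hXU u v
    rw [hu, hv, hermForm_smul_left, hermForm_smul_right, ← mul_assoc, hc'] at h1
    have h3 : (2 : F) * hermForm N F q u v = 0 := by linear_combination -h1
    exact (mul_eq_zero.mp h3).resolve_left h2
  -- the two eigenspaces inside `W`
  obtain ⟨Wp, hWp⟩ : ∃ Wp : Submodule F (Fin N → F), ∀ v, v ∈ Wp ↔ v ∈ W ∧ X *ᵥ v = c • v :=
    ⟨{ carrier := {v | v ∈ W ∧ X *ᵥ v = c • v}
       add_mem' := fun {a b} ha hb => ⟨W.add_mem ha.1 hb.1, by
         rw [Matrix.mulVec_add, ha.2, hb.2, smul_add]⟩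
       zero_mem' := ⟨W.zero_mem, by rw [Matrix.mulVec_zero, smul_zero]⟩
       smul_mem' := fun a v hv => ⟨W.smul_mem a hv.1, by
         rw [Matrix.mulVec_smul, hv.2, smul_comm]⟩ }, fun v => Iff.rfl⟩
  obtain ⟨Wm, hWm⟩ : ∃ Wm : Submodule F (Fin N → F), ∀ v, v ∈ Wm ↔ v ∈ W ∧ X *ᵥ v = (-c) • v :=
    ⟨{ carrier := {v | v ∈ W ∧ X *ᵥ v = (-c) • v}
       add_mem' := fun {a b} ha hb => ⟨W.add_mem ha.1 hb.1, by
         rw [Matrix.mulVec_add, ha.2, hb.2, smul_add]⟩
       zero_mem' := ⟨W.zero_mem, by rw [Matrix.mulVec_zero, smul_zero]⟩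
       smul_mem' := fun a v hv => ⟨W.smul_mem a hv.1, by
         rw [Matrix.mulVec_smul, hv.2, smul_comm]⟩ }, fun v => Iff.rfl⟩
  -- the decomposition of a vector of `W`
  have hdec : ∀ v ∈ W, ∃ a ∈ Wp, ∃ b ∈ Wm, v = a + b := by
    intro v hv
    have e1 : c⁻¹ • ((c * c) • v) = c • v := by
      rw [smul_smul]
      congr 1
      field_simp
    have e2 : c • (c⁻¹ • X *ᵥ v) = X *ᵥ v := by
      rw [smul_smul, mul_inv_cancel₀ hc0, one_smul]
    refine ⟨(2 : F)⁻¹ • (v + c⁻¹ • X *ᵥ v), (hWp _).mpr ⟨?_, ?_⟩,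
      (2 : F)⁻¹ • (v - c⁻¹ • X *ᵥ v), (hWm _).mpr ⟨?_, ?_⟩, ?_⟩
    · exact W.smul_mem _ (W.add_mem hv (W.smul_mem _ (hWX v hv)))
    · rw [Matrix.mulVec_smul, Matrix.mulVec_add, Matrix.mulVec_smul, hXXv, e1, smul_comm c, smul_add c, e2,
        add_comm]
    · exact W.smul_mem _ (W.sub_mem hv (W.smul_mem _ (hWX v hv)))
    · rw [Matrix.mulVec_smul, Matrix.mulVec_sub, Matrix.mulVec_smul, hXXv, e1, smul_comm (-c), neg_smul,
        smul_sub c, e2, neg_sub]
    · rw [← smul_add]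
      have : v + c⁻¹ • X *ᵥ v + (v - c⁻¹ • X *ᵥ v) = (2 : F) • v := by
        rw [two_smul]
        abel
      rw [this, smul_smul, h22, one_smul]
  have htp : ∀ x ∈ Wp, ∀ y ∈ Wp, hermForm N F q x y = 0 := fun x hx y hy =>
    hts' c hc1 x y ((hWp x).mp hx).2 ((hWp y).mp hy).2
  have htm : ∀ x ∈ Wm, ∀ y ∈ Wm, hermForm N F q x y = 0 := fun x hx y hy =>
    hts' (-c) hc1' x y ((hWm x).mp hx).2 ((hWm y).mp hy).2
  have hndp : ∀ e ∈ Wp, (∀ f ∈ Wm, hermForm N F q e f = 0) → e = 0 := by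
    intro e he hef
    by_contra hne
    obtain ⟨v, hv, hv'⟩ := hW e ((hWp e).mp he).1 hne
    obtain ⟨a, ha, b, hb, rfl⟩ := hdec v hv
    apply hv'
    rw [h_add_right, htp e he a ha, hef b hb, add_zero]
  have hndm : ∀ f ∈ Wm, (∀ e ∈ Wp, hermForm N F q e f = 0) → f = 0 := by
    intro f hf hef
    by_contra hne
    obtain ⟨v, hv, hv'⟩ := hW f ((hWm f).mp hf).1 hne
    obtain ⟨a, ha, b, hb, rfl⟩ := hdec v hv
    apply hv'
    rw [h_add_right, htm f hf b hb, h_eq_zero_of_swap (hef a ha), add_zero]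
  have hP : Paired q Wp Wm := ⟨htp, htm, hndp, hndm⟩
  have hP' : Paired q Wm Wp := ⟨htm, htp,
    fun f hf h => hndm f hf (fun e he => h_eq_zero_of_swap (h e he)),
    fun e he h => hndp e he (fun f hf => h_eq_zero_of_swap (h f hf))⟩
  have hle := paired_finrank_le hP
  have hle' := paired_finrank_le hP'
  have hsup : Wp ⊔ Wm = W := by
    apply le_antisymm
    · exact sup_le (fun v hv => ((hWp v).mp hv).1) (fun v hv => ((hWm v).mp hv).1)
    · intro v hv
      obtain ⟨a, ha, b, hb, rfl⟩ := hdec v hv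
      exact Submodule.add_mem_sup ha hb
  have hinf : Wp ⊓ Wm = ⊥ := by
    rw [Submodule.eq_bot_iff]
    rintro v ⟨h1, h3⟩
    have h4 := ((hWp v).mp h1).2
    have h5 := ((hWm v).mp h3).2
    rw [h4] at h5
    have h6 : (2 * c) • v = 0 := by
      rw [two_mul, add_smul]
      nth_rewrite 1 [h5]
      rw [neg_smul, neg_add_cancel]
    exact (smul_eq_zero.mp h6).resolve_left (mul_ne_zero h2 hc0)
  have hdim := Submodule.finrank_sup_add_finrank_inf_eq Wp Wm
  rw [hsup, hinf, finrank_bot, add_zero] at hdim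
  exact ⟨finrank F Wp, by omega⟩

end Cfsg.Agent.Helper8.HermTwo
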