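import Mathlib
import Cfsg.Agent.Helper8.HermTwoH
set_option autoImplicit false
set_option linter.unusedSectionVars false
set_option linter.unusedVariables false

/-! Existence of elements of type B in `SU_n(q)`, `q` odd, and the resulting criterion for invariant
non-degenerate subspaces (helper8). -/

namespace Cfsg.Agent.Helper8.HermTwo

open Matrix Module Cfsg Cfsg.Agent.Helper7.Herm Cfsg.Agent.Helper8.GUOrder Cfsg.Agent.Helper8.AutSU
  Cfsg.Agent.Helper7.SUNd Cfsg.Agent.Helper8.SURoot Cfsg.Agent.Helper7.Ex27 Cfsg.Agent.Helper7.Pol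
  Cfsg.Agent.Helper7.SUPair Cfsg.Agent.Helper7.Invol

variable {F : Type*} [Field F] [Fintype F] {q N : ℕ} [hF : Fact (Fintype.card F = q ^ 2)]

/-- the scalar of an element of type B of determinant one. -/
theorem exists_typeB_scalar (h2 : (2 : F) ≠ 0) {k : ℕ} (hk : 1 ≤ k)
    (hcond : q % 4 = 1 ∨ padicValNat 2 (q + 1) < padicValNat 2 (k + k)) :
    ∃ c : F, c * c ^ q = -1 ∧ c ^ k * (-c) ^ k = 1 := by
  classical
  have hq := two_le_q hF.out
  have hqodd := odd_q (q := q) h2
  obtain ⟨a, t, ht, hqat⟩ := Nat.exists_eq_two_pow_mul_odd (show q + 1 ≠ 0 by omega)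
  have hav : padicValNat 2 (q + 1) = a := by
    rw [hqat, padicValNat.mul (by positivity) (by rintro rfl; simp at ht),
      padicValNat.prime_pow, padicValNat.eq_zero_of_not_dvd, add_zero]
    rw [Nat.two_dvd_ne_zero]
    exact Nat.odd_iff.mp ht
  have ha1 : 1 ≤ a := by
    by_contra hcon
    have ha0 : a = 0 := by omega
    rw [ha0, pow_zero, one_mul] at hqat
    obtain ⟨s, hs⟩ := hqodd
    obtain ⟨s', hs'⟩ := ht
    omega
  have hcard : Nat.card Fˣ = (q - 1) * (q + 1) := by
    rw [card_units_K hF.out, qsq_sub_one hF.out]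
  have hdvd' : 2 ^ (a + 1) ∣ Nat.card Fˣ := by
    rw [hcard, hqat, pow_succ]
    obtain ⟨s, hs⟩ := hqodd
    have : q - 1 = 2 * s := by omega
    rw [this]
    exact ⟨s * t, by ring⟩
  obtain ⟨g, hg⟩ := IsCyclic.exists_ofOrder_eq_natCard (α := Fˣ)
  obtain ⟨r, hr⟩ := hdvd'
  have hr0 : r ≠ 0 := by
    rintro rfl
    rw [mul_zero] at hr
    rw [hcard] at hr
    have : 0 < (q - 1) * (q + 1) := Nat.mul_pos (by omega) (by omega)
    omega
  have hord : orderOf (g ^ r) = 2 ^ (a + 1) := by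
    rw [orderOf_pow_of_dvd hr0 (by rw [hg, hr]; exact Dvd.intro_left _ rfl), hg, hr,
      Nat.mul_div_cancel _ (Nat.pos_of_ne_zero hr0)]
  obtain ⟨ζ, hζ⟩ : ∃ ζ : Fˣ, ζ = g ^ r := ⟨_, rfl⟩
  rw [← hζ] at hord
  have hne : (-1 : F) ≠ 1 := by
    intro h
    apply h2
    linear_combination (-1 : F) * h
  -- a unit of square one which is not one is `-1`
  have hsq : ∀ y : Fˣ, y ^ 2 = 1 → y ≠ 1 → (y : F) = -1 := by
    intro y hy hy1
    have h1 : ((y : F)) ^ 2 = 1 := by
      have := congrArg Units.val hy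
      rwa [Units.val_pow_eq_pow_val, Units.val_one] at this
    have h3 : ((y : F) - 1) * ((y : F) + 1) = 0 := by linear_combination h1
    rcases mul_eq_zero.mp h3 with h4 | h4
    · exfalso
      apply hy1
      apply Units.ext
      rw [Units.val_one]
      linear_combination h4
    · linear_combination h4
  have h1 : (ζ ^ (q + 1)) ^ 2 = 1 := by
    rw [← pow_mul, ← orderOf_dvd_iff_pow_eq_one, hord, hqat]
    exact ⟨t, by ring⟩
  have h1ne : ζ ^ (q + 1) ≠ 1 := by
    intro h
    have h3 := orderOf_dvd_of_pow_eq_one h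
    rw [hord, hqat, pow_succ] at h3
    have h4 := Nat.dvd_of_mul_dvd_mul_left (by positivity) h3
    obtain ⟨s, hs⟩ := ht
    omega
  have hcq : (ζ : F) ^ (q + 1) = -1 := by
    have := hsq _ h1 h1ne
    rwa [Units.val_pow_eq_pow_val] at this
  refine ⟨(ζ : F), by rw [← pow_succ']; exact hcq, ?_⟩
  have hexp : (ζ : F) ^ k * (-(ζ : F)) ^ k = (-1) ^ k * (ζ : F) ^ (k + k) := by
    rw [neg_pow, pow_add]
    ring
  rw [hexp]
  rcases hcond with h4 | hv
  · have ha : a = 1 := by
      by_contra hne'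
      obtain ⟨a', rfl⟩ : ∃ a', a = a' + 2 := ⟨a - 2, by omega⟩
      have : 4 ∣ q + 1 := ⟨2 ^ a' * t, by rw [hqat]; ring⟩
      omega
    subst ha
    have hz2 : (ζ : F) ^ 2 = -1 := by
      have h5 : (ζ ^ 2) ^ 2 = 1 := by
        rw [← pow_mul, ← orderOf_dvd_iff_pow_eq_one, hord]
        norm_num
      have h6 : ζ ^ 2 ≠ 1 := by
        intro h
        have h7 := orderOf_dvd_of_pow_eq_one h
        rw [hord] at h7
        have := Nat.le_of_dvd (by norm_num) h7
        norm_num at this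
      have := hsq _ h5 h6
      rwa [Units.val_pow_eq_pow_val] at this
    rw [← two_mul, pow_mul, hz2, ← mul_pow]
    norm_num
  · rw [hav] at hv
    have hdk : 2 ^ (a + 1) ∣ k + k := (padicValNat_dvd_iff_le (by omega)).mpr hv
    have hζk : (ζ : F) ^ (k + k) = 1 := by
      have h5 : ζ ^ (k + k) = 1 := by
        rw [← orderOf_dvd_iff_pow_eq_one, hord]
        exact hdk
      have := congrArg Units.val h5
      rwa [Units.val_pow_eq_pow_val, Units.val_one] at this
    have hkeven : Even k := by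
      obtain ⟨s, hs⟩ := hdk
      obtain ⟨a', rfl⟩ : ∃ a', a = a' + 1 := ⟨a - 1, by omega⟩
      have : k + k = 4 * (2 ^ a' * s) := by rw [hs]; ring
      exact ⟨2 ^ a' * s, by omega⟩
    rw [hkeven.neg_one_pow, one_mul, hζk]

/-- a hyperbolic frame which is a basis of `F^(k+k)`. -/
theorem exists_std_frame (h2 : (2 : F) ≠ 0) (k : ℕ) :
    ∃ u w : Fin k → (Fin (k + k) → F), HFrame q u w := by
  classical
  obtain ⟨a, ha⟩ := exists_norm_neg_one (F := F) (q := q)
  have hb : ∀ i j : Fin (k + k), hermForm (k + k) F q (Pi.single i (1 : F)) (Pi.single j 1) =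
      if i = j then 1 else 0 := by
    intro i j
    by_cases hij : i = j
    · rw [if_pos hij, hij, h_single_single]
    · rw [if_neg hij, h_single_ne hij]
  exact ⟨_, _, frame_of_onb (q := q) (fun i : Fin (k + k) => (Pi.single i (1 : F) : Fin (k + k) → F)) hb
    (Fin.castAdd k) (Fin.natAdd k) (Fin.castAdd_injective k k) (Fin.natAdd_injective k k)
    (fun i j h => by
      have := congrArg Fin.val h
      simp at this
      omega) a ha h2⟩

/-- **an element of type B** in `SU_{2k}(q)`. -/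
theorem exists_typeB (h2 : (2 : F) ≠ 0) {k : ℕ} (hk : 1 ≤ k)
    (hcond : q % 4 = 1 ∨ padicValNat 2 (q + 1) < padicValNat 2 (k + k)) :
    ∃ x : Matrix.SpecialLinearGroup (Fin (k + k)) F, x ∈ SU (k + k) F q ∧
      (∃ c : F, c ≠ 0 ∧ c * c ^ q = -1 ∧
        (x : Matrix (Fin (k + k)) (Fin (k + k)) F) * (x : Matrix (Fin (k + k)) (Fin (k + k)) F) =
          (c * c) • (1 : Matrix (Fin (k + k)) (Fin (k + k)) F)) ∧
      ∀ z : F, (x : Matrix (Fin (k + k)) (Fin (k + k)) F) ≠
        z • (1 : Matrix (Fin (k + k)) (Fin (k + k)) F) := by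
  classical
  obtain ⟨c, hc1, hcdet⟩ := exists_typeB_scalar (q := q) h2 hk hcond
  have hc0 : c ≠ 0 := by
    rintro rfl
    rw [zero_mul] at hc1
    exact one_ne_zero (show (1 : F) = 0 by linear_combination hc1)
  obtain ⟨u, w, hfr⟩ := exists_std_frame (F := F) (q := q) h2 k
  obtain ⟨lam, hlam⟩ : ∃ lam : Fin (k + k) → F,
      lam = Fin.append (fun _ : Fin k => c) (fun _ : Fin k => -c) := ⟨_, rfl⟩
  have hlam0 : ∀ i, lam i ≠ 0 := by
    intro i
    rw [hlam]
    refine Fin.addCases (fun a => ?_) (fun a => ?_) i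
    · rw [Fin.append_left]; exact hc0
    · rw [Fin.append_right]; exact neg_ne_zero.mpr hc0
  have hlamsq : ∀ i, lam i * lam i = c * c := by
    intro i
    rw [hlam]
    refine Fin.addCases (fun a => ?_) (fun a => ?_) i
    · rw [Fin.append_left]
    · rw [Fin.append_right]; ring
  have hcq' : c * (-c) ^ q = 1 := by
    rw [neg_pow_q hF.out]
    linear_combination -hc1
  have hcq'' : (-c) * c ^ q = 1 := by linear_combination -hc1
  have hli : LinearIndependent F (fun i => lam i • Fin.append u w i) := by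
    have := hfr.li.units_smul (fun i => Units.mk0 (lam i) (hlam0 i))
    exact this
  have hgram : ∀ i j, hermForm (k + k) F q (Fin.append u w i) (Fin.append u w j) =
      hermForm (k + k) F q (lam i • Fin.append u w i) (lam j • Fin.append u w j) := by
    intro i j
    rw [hermForm_smul_left, hermForm_smul_right, hlam]
    refine Fin.addCases (fun a => ?_) (fun a => ?_) i <;>
      refine Fin.addCases (fun b => ?_) (fun b => ?_) j <;>
      simp only [Fin.append_left, Fin.append_right, hfr.uu, hfr.ww, hfr.uw, hfr.wu, mul_zero]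
    · rw [← mul_assoc, hcq', one_mul]
    · rw [← mul_assoc, hcq'', one_mul]
  obtain ⟨g, hg⟩ := exists_GU_of_families (q := q) (Fin.append u w)
    (fun i => lam i • Fin.append u w i) hfr.li hli hgram
  obtain ⟨bb, hbb⟩ := hfr.exists_basis rfl
  have hgb : ∀ i, mg g *ᵥ bb i = lam i • bb i := by
    intro i
    rw [hbb]
    exact hg i
  have hdet : (mg g).det = 1 := by
    rw [det_of_diag_basis (mg g) bb lam hgb, hlam, Fin.prod_univ_add]
    simp only [Fin.append_left, Fin.append_right, Finset.prod_const, Finset.card_univ, Fintype.card_fin]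
    exact hcdet
  have hXX : mg g * mg g = (c * c) • (1 : Matrix (Fin (k + k)) (Fin (k + k)) F) := by
    apply Matrix.toLin'.injective
    apply bb.ext
    intro i
    rw [Matrix.toLin'_apply, Matrix.toLin'_apply, ← Matrix.mulVec_mulVec, hgb, Matrix.mulVec_smul, hgb,
      smul_smul, hlamsq, Matrix.smul_mulVec, Matrix.one_mulVec]
  refine ⟨⟨mg g, hdet⟩, fun a b => g.2 a b, ⟨c, hc0, hc1, hXX⟩, ?_⟩
  intro z hz
  have hz' : mg g = z • (1 : Matrix (Fin (k + k)) (Fin (k + k)) F) := hz
  have h1 := hg (Fin.castAdd k ⟨0, hk⟩)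
  have h3 := hg (Fin.natAdd k ⟨0, hk⟩)
  rw [hz', Matrix.smul_mulVec, Matrix.one_mulVec, hlam, Fin.append_left, Fin.append_left] at h1
  rw [hz', Matrix.smul_mulVec, Matrix.one_mulVec, hlam, Fin.append_right, Fin.append_right] at h3
  have hu0 : u ⟨0, hk⟩ ≠ 0 := by
    intro h
    have := hfr.uw ⟨0, hk⟩ ⟨0, hk⟩
    rw [h, hermForm_zero_left, if_pos rfl] at this
    exact zero_ne_one this
  have hw0 : w ⟨0, hk⟩ ≠ 0 := by
    intro h
    have := hfr.uw ⟨0, hk⟩ ⟨0, hk⟩
    rw [h, hermForm_zero_right, if_pos rfl] at this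
    exact zero_ne_one this
  have h5 : z = c := by
    have : (z - c) • u ⟨0, hk⟩ = 0 := by rw [sub_smul, h1, sub_self]
    rcases smul_eq_zero.mp this with h | h
    · exact sub_eq_zero.mp h
    · exact absurd h hu0
  have h6 : z = -c := by
    have : (z - -c) • w ⟨0, hk⟩ = 0 := by rw [sub_smul, h3, sub_self]
    rcases smul_eq_zero.mp this with h | h
    · exact sub_eq_zero.mp h
    · exact absurd h hw0
  rw [h5] at h6
  have : (2 : F) * c = 0 := by linear_combination h6
  exact (mul_ne_zero h2 hc0) this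

end Cfsg.Agent.Helper8.HermTwo

namespace Cfsg.Agent.Helper8.HermTwo

open Matrix Module Cfsg Cfsg.Agent.Helper7.Herm Cfsg.Agent.Helper8.GUOrder Cfsg.Agent.Helper8.AutSU
  Cfsg.Agent.Helper7.SUNd Cfsg.Agent.Helper8.SURoot Cfsg.Agent.Helper7.Ex27 Cfsg.Agent.Helper7.Pol
  Cfsg.Agent.Helper7.SUPair Cfsg.Agent.Helper7.Invol

/-- **(T1) elements of order two modulo scalars of `SU_n(q)` and non-degenerate `m`-spaces.** -/
theorem nd_two {F : Type*} [Field F] [Fintype F] {p : ℕ} [Fact p.Prime] [CharP F p] {q : ℕ}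
    (hq : Fintype.card F = q ^ 2) (n m : ℕ) (hn : 3 ≤ n) (hm : 1 ≤ m) (hmn : m ≤ n) :
    (∀ x : Matrix.SpecialLinearGroup (Fin n) F, x ∈ Cfsg.SU n F q →
      (∃ z : F, ((x ^ 2 : Matrix.SpecialLinearGroup (Fin n) F) : Matrix (Fin n) (Fin n) F) =
        z • (1 : Matrix (Fin n) (Fin n) F)) →
      (∀ z : F, (x : Matrix (Fin n) (Fin n) F) ≠ z • (1 : Matrix (Fin n) (Fin n) F)) →
      ∃ W : Submodule F (Fin n → F), Module.finrank F ↥W = m ∧
        (∀ u ∈ W, u ≠ 0 → ∃ v ∈ W, Cfsg.hermForm n F q u v ≠ 0) ∧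
        W.map (Matrix.toLin' (x : Matrix (Fin n) (Fin n) F)) ≤ W) ↔
    ((p = 2 ∧ (Odd n ∨ Even m)) ∨
      (p ≠ 2 ∧ (Odd n ∨ Even m ∨ (padicValNat 2 n ≤ padicValNat 2 (q + 1) ∧ q % 4 = 3)))) := by
  have : Fact (Fintype.card F = q ^ 2) := ⟨hq⟩
  by_cases hp : p = 2
  · subst hp
    have h2 : (2 : F) = 0 := by
      have := CharP.cast_eq_zero F 2
      exact_mod_cast this
    have hsq : ∀ a : F, ∃ c : F, c * c = a := by
      intro a
      obtain ⟨c, hc⟩ := FiniteField.isSquare_of_char_two (ringChar.eq F 2) a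
      exact ⟨c, hc.symm⟩
    rw [nd_two_char2 (q := q) h2 hsq n m hn hmn]
    constructor
    · intro h
      exact Or.inl ⟨rfl, h⟩
    · rintro (⟨-, h⟩ | ⟨h, -⟩)
      · exact h
      · exact absurd rfl h
  · have h2 : (2 : F) ≠ 0 := by
      intro h
      have h1 : ((2 : ℕ) : F) = 0 := by exact_mod_cast h
      rw [CharP.cast_eq_zero_iff F p] at h1
      exact hp ((Nat.prime_dvd_prime_iff_eq Fact.out Nat.prime_two).mp h1)
    constructor
    · intro hall
      refine Or.inr ⟨hp, ?_⟩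
      by_contra hcon
      rw [not_or, not_or, Nat.not_odd_iff_even, Nat.not_even_iff_odd] at hcon
      obtain ⟨⟨k, rfl⟩, hmo, hc3⟩ := hcon
      have hqodd := odd_q (F := F) (q := q) h2
      have hcond : q % 4 = 1 ∨ padicValNat 2 (q + 1) < padicValNat 2 (k + k) := by
        by_cases h4 : q % 4 = 1
        · exact Or.inl h4
        · right
          have h3 : q % 4 = 3 := by
            obtain ⟨s, hs⟩ := hqodd
            omega
          by_contra hle
          push Not at hle
          exact hc3 ⟨hle, h3⟩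
      obtain ⟨x, hxSU, ⟨c, hc0, hc1, hXX⟩, hns⟩ := exists_typeB (F := F) (q := q) h2 (k := k) (by omega) hcond
      obtain ⟨W, hWm, hW, hWX⟩ := hall x hxSU ⟨c * c, by rw [pow_two]; exact hXX⟩ hns
      have hev := typeB_invt_even (q := q) h2 (x : Matrix (Fin (k + k)) (Fin (k + k)) F)
        (fun u v => hxSU u v) hc0 hXX hc1 W hW (fun w hw => by
          apply hWX
          exact ⟨w, hw, Matrix.toLin'_apply _ _⟩)
      rw [hWm] at hev
      exact (Nat.not_even_iff_odd.mpr hmo) hev
    · rintro (⟨hp2, -⟩ | ⟨-, hcond⟩)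
      · exact absurd hp2 hp
      · intro x hx ⟨z, hz⟩ _
        have hXX : (x : Matrix (Fin n) (Fin n) F) * (x : Matrix (Fin n) (Fin n) F) =
            z • (1 : Matrix (Fin n) (Fin n) F) := by
          rw [← hz, pow_two]
          rfl
        obtain ⟨W, hWm, hW, hWX⟩ := nd_fix_odd (q := q) h2 (by omega) hmn hcond
          (x : Matrix (Fin n) (Fin n) F) (fun u v => hx u v) x.2 hXX
        refine ⟨W, hWm, hW, ?_⟩
        rintro _ ⟨w, hw, rfl⟩
        rw [Matrix.toLin'_apply]
        exact hWX w hw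

end Cfsg.Agent.Helper8.HermTwo
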