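import Mathlib
import Cfsg.Agent.Helper8.HermTwoI
set_option autoImplicit false
set_option linter.unusedSectionVars false
set_option linter.unusedVariables false

/-! Elements of order two modulo scalars of `SU_n(q)`, `q` odd, and invariant totally isotropic
subspaces; the dimension of the orthogonal complement for the Hermitian form (helper8). -/

namespace Cfsg.Agent.Helper8.HermTwo

open Matrix Module Cfsg Cfsg.Agent.Helper7.Herm Cfsg.Agent.Helper8.GUOrder Cfsg.Agent.Helper8.AutSU
  Cfsg.Agent.Helper7.SUNd Cfsg.Agent.Helper8.SURoot Cfsg.Agent.Helper7.Ex27 Cfsg.Agent.Helper7.Pol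
  Cfsg.Agent.Helper7.SUPair Cfsg.Agent.Helper7.Invol Cfsg.Agent.Helper7.SUMax

variable {F : Type*} [Field F] [Fintype F] {q N : ℕ} [hF : Fact (Fintype.card F = q ^ 2)]

/-- the orthogonal complement for the Hermitian form. -/
def hperp (q : ℕ) (W : Submodule F (Fin N → F)) : Submodule F (Fin N → F) where
  carrier := {x | ∀ w ∈ W, hermForm N F q x w = 0}
  add_mem' := by
    intro a b ha hb w hw
    rw [hermForm_add_left, ha w hw, hb w hw, add_zero]
  zero_mem' := fun w _ => hermForm_zero_left _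
  smul_mem' := by
    intro c x hx w hw
    rw [hermForm_smul_left, hx w hw, mul_zero]

theorem mem_hperp {W : Submodule F (Fin N → F)} {x : Fin N → F} :
    x ∈ hperp q W ↔ ∀ w ∈ W, hermForm N F q x w = 0 := Iff.rfl

/-- **the dimension of the orthogonal complement.** -/
theorem finrank_hperp (W : Submodule F (Fin N → F)) :
    finrank F (hperp q W) + finrank F W = N := by
  classical
  obtain ⟨m, hm⟩ : ∃ m, finrank F W = m := ⟨_, rfl⟩
  let b : Basis (Fin m) F W := Module.finBasisOfFinrankEq F W hm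
  -- the evaluation map
  let Φ : (Fin N → F) →ₗ[F] (Fin m → F) :=
    { toFun := fun v i => hermForm N F q v (b i : Fin N → F)
      map_add' := fun v v' => by
        funext i
        exact hermForm_add_left _ _ _
      map_smul' := fun c v => by
        funext i
        exact hermForm_smul_left _ _ _ }
  have hΦ : ∀ v i, Φ v i = hermForm N F q v (b i : Fin N → F) := fun _ _ => rfl
  have hker : LinearMap.ker Φ = hperp q W := by
    ext v
    rw [LinearMap.mem_ker, mem_hperp]
    constructor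
    · intro hv w hw
      have h1 := b.sum_repr ⟨w, hw⟩
      have h3 : w = ∑ i, (b.repr ⟨w, hw⟩ i) • (b i : Fin N → F) := by
        have := congrArg Subtype.val h1
        rw [Submodule.coe_sum] at this
        simp only [Submodule.coe_smul] at this
        exact this.symm
      rw [h3, herm_lincomb_right]
      apply Finset.sum_eq_zero
      intro i _
      have := congrFun hv i
      rw [hΦ] at this
      rw [this]
      simp
    · intro hv
      funext i
      rw [hΦ]
      exact hv _ (b i).2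
  have hli : LinearIndependent F (fun i => (b i : Fin N → F)) :=
    b.linearIndependent.map' W.subtype (Submodule.ker_subtype W)
  have hsurj : LinearMap.range Φ = ⊤ := by
    rw [eq_top_iff]
    intro y _
    have hy : y = ∑ i, y i • (Pi.single i (1 : F) : Fin m → F) := by
      funext j
      rw [Finset.sum_apply]
      simp [Pi.single_apply]
    rw [hy]
    apply Submodule.sum_mem
    intro i _
    apply Submodule.smul_mem
    have hnot : (b i : Fin N → F) ∉ Submodule.span F ((fun j => (b j : Fin N → F)) '' {j | j ≠ i}) :=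
      hli.notMem_span_image (by simp)
    obtain ⟨x, hx1, hx2⟩ := exists_perp_of_not_mem (q := q) _ hnot
    refine ⟨x, ?_⟩
    funext j
    rw [hΦ, h_swap]
    by_cases hji : j = i
    · rw [hji, hx2, one_pow, Pi.single_eq_same]
    · rw [hx1 _ (Submodule.subset_span ⟨j, hji, rfl⟩), Pi.single_eq_of_ne hji, b_zero]
  have hrn := LinearMap.finrank_range_add_finrank_ker Φ
  rw [hsurj, hker, finrank_top, Module.finrank_fin_fun, Module.finrank_fin_fun] at hrn
  omega

/-- a subset of even size with an even number of elements of colour `1`. -/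
theorem exists_even_subset {ι : Type*} [Fintype ι] [DecidableEq ι] (e : ι → Fin 2) (m : ℕ)
    (h : m + m < Fintype.card ι ∨
      (m + m = Fintype.card ι ∧ Even (Finset.univ.filter (fun i => e i = 1)).card)) :
    ∃ S : Finset ι, S.card = m + m ∧ Even (S.filter (fun i => e i = 1)).card := by
  classical
  rcases h with h | ⟨h, hev⟩
  · have hsum := Finset.card_filter_add_card_filter_not (s := (Finset.univ : Finset ι))
      (fun i => e i = 1)
    rw [Finset.card_univ] at hsum
    obtain ⟨n₁, hn₁⟩ : ∃ n₁, (Finset.univ.filter (fun i => e i = 1)).card = n₁ := ⟨_, rfl⟩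
    obtain ⟨n₀, hn₀⟩ : ∃ n₀, (Finset.univ.filter (fun i => ¬ e i = 1)).card = n₀ := ⟨_, rfl⟩
    rw [hn₁, hn₀] at hsum
    obtain ⟨j₁, hj₁, hj₁e, hj₀⟩ : ∃ j₁, j₁ ≤ n₁ ∧ Even j₁ ∧ j₁ ≤ m + m ∧ m + m - j₁ ≤ n₀ := by
      by_cases hc : 2 * (n₁ / 2) ≤ m + m
      · exact ⟨2 * (n₁ / 2), by omega, ⟨n₁ / 2, by ring⟩, hc, by omega⟩
      · exact ⟨m + m, by omega, ⟨m, rfl⟩, le_refl _, by omega⟩
    obtain ⟨T₁, hT₁s, hT₁c⟩ := Finset.exists_subset_card_eq (s := Finset.univ.filter (fun i => e i = 1))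
      (n := j₁) (by rw [hn₁]; exact hj₁)
    obtain ⟨T₀, hT₀s, hT₀c⟩ := Finset.exists_subset_card_eq
      (s := Finset.univ.filter (fun i => ¬ e i = 1)) (n := m + m - j₁) (by rw [hn₀]; exact hj₀.2)
    have hT₁ : ∀ i ∈ T₁, e i = 1 := fun i hi => (Finset.mem_filter.mp (hT₁s hi)).2
    have hT₀ : ∀ i ∈ T₀, ¬ e i = 1 := fun i hi => (Finset.mem_filter.mp (hT₀s hi)).2
    have hdisj : Disjoint T₁ T₀ := by
      rw [Finset.disjoint_left]
      intro i hi hi'
      exact hT₀ i hi' (hT₁ i hi)
    refine ⟨T₁ ∪ T₀, ?_, ?_⟩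
    · rw [Finset.card_union_of_disjoint hdisj, hT₁c, hT₀c]
      omega
    · have : (T₁ ∪ T₀).filter (fun i => e i = 1) = T₁ := by
        ext i
        rw [Finset.mem_filter, Finset.mem_union]
        constructor
        · rintro ⟨hi | hi, hei⟩
          · exact hi
          · exact absurd hei (hT₀ i hi)
        · intro hi
          exact ⟨Or.inl hi, hT₁ i hi⟩
      rw [this, hT₁c]
      exact hj₁e
  · exact ⟨Finset.univ, by rw [Finset.card_univ, h], hev⟩

/-- **existence of invariant totally isotropic subspaces**, `q` odd. -/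
theorem ti_fix_odd (h2 : (2 : F) ≠ 0) {n m : ℕ} (hn : 1 ≤ n) (hmn : m + m ≤ n)
    (hcond : m + m < n ∨ padicValNat 2 (q + 1) ≤ padicValNat 2 n)
    (X : Matrix (Fin n) (Fin n) F)
    (hXU : ∀ u v, hermForm n F q (X *ᵥ u) (X *ᵥ v) = hermForm n F q u v) (hdet : X.det = 1)
    {z : F} (hXX : X * X = z • (1 : Matrix (Fin n) (Fin n) F)) :
    ∃ W : Submodule F (Fin n → F), finrank F W = m ∧
      (∀ u ∈ W, ∀ v ∈ W, hermForm n F q u v = 0) ∧ ∀ w ∈ W, X *ᵥ w ∈ W := by
  classical
  have hzq := scalar_norm_one hn hXU hXX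
  obtain ⟨c, hc0, hcc, hcase⟩ := exists_sqrt_scalar (q := q) h2 hzq
  rw [← hcc] at hXX
  rcases hcase with hc1 | hc1
  · obtain ⟨b, e, hb, hXb, hdetA⟩ := typeA_onb h2 X hXU hc0 hXX hc1
    have hsel : m + m < Fintype.card (Fin n) ∨
        (m + m = Fintype.card (Fin n) ∧ Even (Finset.univ.filter (fun i => e i = 1)).card) := by
      rw [Fintype.card_fin]
      rcases Nat.lt_or_ge (m + m) n with hlt | hge
      · exact Or.inl hlt
      · right
        refine ⟨by omega, ?_⟩
        by_contra hodd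
        rw [Nat.not_even_iff_odd] at hodd
        rw [hdet, hodd.neg_one_pow] at hdetA
        have hcn : c ^ n = -1 := by linear_combination hdetA
        have hcq : c ^ (q + 1) = 1 := by rw [pow_succ']; exact hc1
        have := v2_lt_of_pow (q := q) h2 (by omega) hcq hcn
        rcases hcond with h | h
        · omega
        · omega
    obtain ⟨S, hS, hev⟩ := exists_even_subset e m hsel
    obtain ⟨α, β, -, -, hα, hβ, hαβ, heq⟩ := exists_matching e m S hS hev
    obtain ⟨a, ha⟩ := exists_norm_neg_one (F := F) (q := q)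
    have hfr := frame_of_onb (q := q) b hb α β hα hβ hαβ a ha h2
    obtain ⟨hti, hdim⟩ := frame_span_ti hfr
    refine ⟨_, hdim, hti, span_invt X _ (fun i => c * pm F (e (α i))) ?_⟩
    intro i
    show X *ᵥ (b (α i) + a • b (β i)) = _
    rw [Matrix.mulVec_add, Matrix.mulVec_smul, hXb, hXb, ← heq i, smul_add, smul_comm]
  · obtain ⟨k, u, w, hNk, hfr, hu, hw, -⟩ := typeB_frame h2 X hXU hc0 hXX hc1
    have hmk : m ≤ k := by omega
    have hfr' := frame_sub hfr hmk
    obtain ⟨hti, hdim⟩ := frame_span_ti hfr'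
    exact ⟨_, hdim, hti, span_invt X _ (fun _ => c) (fun i => hu _)⟩

/-- **a derangement on the totally isotropic subspaces of half the dimension.** -/
theorem exists_ti_derangement (h2 : (2 : F) ≠ 0) {n m : ℕ} (hn : 2 ≤ n) (hmn : m + m = n)
    (hv : padicValNat 2 n < padicValNat 2 (q + 1)) :
    ∃ x : Matrix.SpecialLinearGroup (Fin n) F, x ∈ SU n F q ∧
      (∃ z : F, (x : Matrix (Fin n) (Fin n) F) * (x : Matrix (Fin n) (Fin n) F) =
        z • (1 : Matrix (Fin n) (Fin n) F)) ∧
      (∀ z : F, (x : Matrix (Fin n) (Fin n) F) ≠ z • (1 : Matrix (Fin n) (Fin n) F)) ∧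
      ∀ W : Submodule F (Fin n → F), finrank F W = m →
        (∀ u ∈ W, ∀ v ∈ W, hermForm n F q u v = 0) →
        (∀ w ∈ W, (x : Matrix (Fin n) (Fin n) F) *ᵥ w ∈ W) → False := by
  classical
  obtain ⟨c, hcq, hcn⟩ := exists_norm_one_pow_eq_neg_one (F := F) (q := q) (N := n) (by omega) hv
  have hc1 : c * c ^ q = 1 := by rw [← pow_succ']; exact hcq
  have hc0 : c ≠ 0 := by
    rintro rfl
    rw [zero_mul] at hc1
    exact zero_ne_one hc1
  obtain ⟨i₀, hi₀⟩ : ∃ i₀ : Fin n, i₀ = ⟨0, by omega⟩ := ⟨_, rfl⟩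
  obtain ⟨i₁, hi₁⟩ : ∃ i₁ : Fin n, i₁ = ⟨1, by omega⟩ := ⟨_, rfl⟩
  have h01 : i₁ ≠ i₀ := by
    rw [hi₀, hi₁]
    intro h
    have := congrArg Fin.val h
    simp at this
  obtain ⟨d, hd⟩ : ∃ d : Fin n → F, d = fun i => c * (if i = i₀ then -1 else 1) := ⟨_, rfl⟩
  have hd0 : d i₀ = -c := by rw [hd]; simp
  have hd1 : ∀ i, i ≠ i₀ → d i = c := by
    intro i hi
    rw [hd]
    simp [hi]
  have hdd : ∀ i, d i * d i = c * c := by
    intro i
    by_cases hi : i = i₀
    · rw [hi, hd0]; ring
    · rw [hd1 i hi]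
  have hdq : ∀ i, d i * d i ^ q = 1 := by
    intro i
    by_cases hi : i = i₀
    · rw [hi, hd0, neg_pow_q hF.out]
      linear_combination hc1
    · rw [hd1 i hi, hc1]
  have hXv : ∀ v : Fin n → F, Matrix.diagonal d *ᵥ v = fun i => d i * v i := by
    intro v
    funext i
    rw [Matrix.mulVec_diagonal]
  have hdet : (Matrix.diagonal d).det = 1 := by
    rw [Matrix.det_diagonal, hd, Finset.prod_mul_distrib, Finset.prod_const, Finset.card_univ,
      Fintype.card_fin, hcn, Finset.prod_ite_eq' Finset.univ i₀ (fun _ => (-1 : F))]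
    simp
  have hXX : Matrix.diagonal d * Matrix.diagonal d = (c * c) • (1 : Matrix (Fin n) (Fin n) F) := by
    rw [Matrix.diagonal_mul_diagonal]
    ext i j
    rw [Matrix.smul_apply, Matrix.one_apply, Matrix.diagonal_apply]
    by_cases hij : i = j
    · rw [if_pos hij, if_pos hij, hdd, smul_eq_mul, mul_one]
    · rw [if_neg hij, if_neg hij, smul_zero]
  refine ⟨⟨Matrix.diagonal d, hdet⟩, ?_, ⟨c * c, hXX⟩, ?_, ?_⟩
  · intro u v
    show hermForm n F q (Matrix.diagonal d *ᵥ u) (Matrix.diagonal d *ᵥ v) = hermForm n F q u v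
    rw [hXv, hXv]
    unfold hermForm
    apply Finset.sum_congr rfl
    intro i _
    have := hdq i
    rw [mul_pow]
    linear_combination (u i * v i ^ q) * this
  · intro z hz
    have hz' : Matrix.diagonal d = z • (1 : Matrix (Fin n) (Fin n) F) := hz
    have h1 := congrFun (congrFun hz' i₀) i₀
    have h3 := congrFun (congrFun hz' i₁) i₁
    rw [Matrix.diagonal_apply_eq, Matrix.smul_apply, Matrix.one_apply_eq, smul_eq_mul, mul_one] at h1 h3
    rw [hd0] at h1
    rw [hd1 i₁ h01] at h3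
    have : (2 : F) * c = 0 := by linear_combination h3 - h1
    exact mul_ne_zero h2 hc0 this
  · intro W hWm hWti hWX
    have hXW : ∀ w ∈ W, Matrix.diagonal d *ᵥ w ∈ W := hWX
    -- vectors of `W` vanish at `i₀`
    have hsingle : (Pi.single i₀ (1 : F) : Fin n → F) ∉ W := by
      intro h
      have := hWti _ h _ h
      rw [h_single_single] at this
      exact one_ne_zero this
    have hW0 : ∀ w ∈ W, w i₀ = 0 := by
      intro w hw
      by_contra hne
      apply hsingle
      have h1 : c • w - Matrix.diagonal d *ᵥ w ∈ W := W.sub_mem (W.smul_mem _ hw) (hXW w hw)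
      have h3 : c • w - Matrix.diagonal d *ᵥ w = (2 * c * w i₀) • (Pi.single i₀ (1 : F) : Fin n → F) := by
        rw [hXv]
        funext i
        rw [Pi.sub_apply, Pi.smul_apply, Pi.smul_apply, smul_eq_mul, smul_eq_mul]
        by_cases hi : i = i₀
        · rw [hi, hd0, Pi.single_eq_same]
          ring
        · rw [hd1 i hi, Pi.single_eq_of_ne hi]
          ring
      rw [h3] at h1
      have h5 := W.smul_mem (2 * c * w i₀)⁻¹ h1
      rwa [smul_smul, inv_mul_cancel₀ (mul_ne_zero (mul_ne_zero h2 hc0) hne), one_smul] at h5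
    have hle : W ≤ hperp q W := fun w hw => mem_hperp.mpr (fun w' hw' => hWti w hw w' hw')
    have hfr := finrank_hperp (q := q) W
    have heq : W = hperp q W := Submodule.eq_of_le_of_finrank_eq hle (by omega)
    apply hsingle
    rw [heq, mem_hperp]
    intro w hw
    rw [h_single_left, hW0 w hw, b_zero]

end Cfsg.Agent.Helper8.HermTwo

namespace Cfsg.Agent.Helper8.HermTwo

open Matrix Module Cfsg Cfsg.Agent.Helper7.Herm Cfsg.Agent.Helper8.GUOrder Cfsg.Agent.Helper8.AutSU
  Cfsg.Agent.Helper7.SUNd Cfsg.Agent.Helper8.SURoot Cfsg.Agent.Helper7.Ex27 Cfsg.Agent.Helper7.Pol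
  Cfsg.Agent.Helper7.SUPair Cfsg.Agent.Helper7.Invol

/-- **(T2) elements of order two modulo scalars of `SU_n(q)`, `q` odd, and totally isotropic
`m`-spaces.** -/
theorem ti_two {F : Type*} [Field F] [Fintype F] {p : ℕ} [Fact p.Prime] [CharP F p] {q : ℕ}
    (hq : Fintype.card F = q ^ 2) (n m : ℕ) (hn : 3 ≤ n) (hm : 1 ≤ m) (hmn : 2 * m ≤ n)
    (hp : p ≠ 2) :
    (∀ x : Matrix.SpecialLinearGroup (Fin n) F, x ∈ Cfsg.SU n F q →
      (∃ z : F, ((x ^ 2 : Matrix.SpecialLinearGroup (Fin n) F) : Matrix (Fin n) (Fin n) F) =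
        z • (1 : Matrix (Fin n) (Fin n) F)) →
      (∀ z : F, (x : Matrix (Fin n) (Fin n) F) ≠ z • (1 : Matrix (Fin n) (Fin n) F)) →
      ∃ W : Submodule F (Fin n → F), Module.finrank F ↥W = m ∧
        (∀ u ∈ W, ∀ v ∈ W, Cfsg.hermForm n F q u v = 0) ∧
        W.map (Matrix.toLin' (x : Matrix (Fin n) (Fin n) F)) ≤ W) ↔
    (2 * m < n ∨ padicValNat 2 (q + 1) ≤ padicValNat 2 n) := by
  have : Fact (Fintype.card F = q ^ 2) := ⟨hq⟩
  have h2 : (2 : F) ≠ 0 := by
    intro h
    have h1 : ((2 : ℕ) : F) = 0 := by exact_mod_cast h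
    rw [CharP.cast_eq_zero_iff F p] at h1
    exact hp ((Nat.prime_dvd_prime_iff_eq Fact.out Nat.prime_two).mp h1)
  constructor
  · intro hall
    by_contra hcon
    rw [not_or] at hcon
    obtain ⟨h1, h3⟩ := hcon
    push Not at h3
    obtain ⟨x, hxSU, ⟨z, hXX⟩, hns, hno⟩ := exists_ti_derangement (F := F) (q := q) h2 (n := n) (m := m)
      (by omega) (by omega) h3
    obtain ⟨W, hWm, hW, hWX⟩ := hall x hxSU ⟨z, by rw [pow_two]; exact hXX⟩ hns
    refine hno W hWm hW (fun w hw => ?_)
    apply hWX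
    exact ⟨w, hw, Matrix.toLin'_apply _ _⟩
  · intro hcond x hx ⟨z, hz⟩ _
    have hXX : (x : Matrix (Fin n) (Fin n) F) * (x : Matrix (Fin n) (Fin n) F) =
        z • (1 : Matrix (Fin n) (Fin n) F) := by
      rw [← hz, pow_two]
      rfl
    obtain ⟨W, hWm, hW, hWX⟩ := ti_fix_odd (q := q) h2 (n := n) (m := m) (by omega) (by omega)
      (by rcases hcond with h | h
          · exact Or.inl (by omega)
          · exact Or.inr h)
      (x : Matrix (Fin n) (Fin n) F) (fun u v => hx u v) x.2 hXX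
    refine ⟨W, hWm, hW, ?_⟩
    rintro _ ⟨w, hw, rfl⟩
    rw [Matrix.toLin'_apply]
    exact hWX w hw

end Cfsg.Agent.Helper8.HermTwo
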