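import Mathlib
import Cfsg.Agent.Helper8.HermTwoJ
import Cfsg.Agent.Helper7.SpUnD
set_option autoImplicit false
set_option linter.unusedSectionVars false

/-! Unipotent isometries of the unitary space: the adjoint of `T - 1`, the top form and the
cyclic blocks (helper8). -/

namespace Cfsg.Agent.Helper8.HermUni

open Matrix Module Cfsg Cfsg.Agent.Helper7.Herm Cfsg.Agent.Helper8.GUOrder Cfsg.Agent.Helper8.AutSU
  Cfsg.Agent.Helper7.SUNd Cfsg.Agent.Helper8.SURoot Cfsg.Agent.Helper7.Ex27
  Cfsg.Agent.Helper8.HermTwo Cfsg.Agent.Helper7.SpUn Cfsg.Agent.Helper8.UJ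
  Cfsg.Agent.Helper7.POrd Cfsg.Agent.Helper8.SpU

variable {F : Type*} [Field F] [Fintype F] {q N : ℕ} [hF : Fact (Fintype.card F = q ^ 2)]
  {T : Module.End F (Fin N → F)}

theorem adj_N (hiso : ∀ u v, hermForm N F q (T u) (T v) = hermForm N F q u v) (u v : Fin N → F) :
    hermForm N F q ((T - 1) u) v = - hermForm N F q (T u) ((T - 1) v) := by
  rw [LinearMap.sub_apply, LinearMap.sub_apply, Module.End.one_apply, Module.End.one_apply,
    GUOrder.hermForm_sub_left, h_sub_right, hiso]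
  ring

theorem adj_N_pow (hiso : ∀ u v, hermForm N F q (T u) (T v) = hermForm N F q u v) (j : ℕ) :
    ∀ u v : Fin N → F, hermForm N F q (((T - 1) ^ j) u) v =
      (-1) ^ j * hermForm N F q ((T ^ j) u) (((T - 1) ^ j) v) := by
  induction j with
  | zero => intro u v; simp
  | succ j ih =>
    intro u v
    have e1 : ((T - 1) ^ (j + 1)) u = (T - 1) (((T - 1) ^ j) u) := by
      rw [pow_succ', Module.End.mul_apply]
    have e2 : ((T - 1) ^ (j + 1)) v = ((T - 1) ^ j) ((T - 1) v) := by
      rw [pow_succ, Module.End.mul_apply]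
    have e3 : (T ^ (j + 1)) u = (T ^ j) (T u) := by rw [pow_succ, Module.End.mul_apply]
    rw [e1, e2, e3, adj_N hiso, comm_T_N, ih]
    ring

theorem iso_pow (hiso : ∀ u v, hermForm N F q (T u) (T v) = hermForm N F q u v) (n : ℕ)
    (u v : Fin N → F) : hermForm N F q ((T ^ n) u) ((T ^ n) v) = hermForm N F q u v := by
  induction n with
  | zero => simp
  | succ n ih => rw [pow_succ', Module.End.mul_apply, Module.End.mul_apply, hiso, ih]

/-- the orthogonal complement inside an invariant subspace of an invariant subspace is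
invariant. -/
theorem perpIn_invt_end (hiso : ∀ u v, hermForm N F q (T u) (T v) = hermForm N F q u v) {r : ℕ}
    (hr : 0 < r) (hTr : T ^ r = 1) {E W : Submodule F (Fin N → F)}
    (hE : E ∈ Module.End.invtSubmodule T) (hW : W ∈ Module.End.invtSubmodule T) :
    perpIn q E W ∈ Module.End.invtSubmodule T := by
  rw [Module.End.mem_invtSubmodule]
  intro v hv
  rw [Submodule.mem_comap]
  refine ⟨(Module.End.mem_invtSubmodule T).mp hE hv.1, fun w hw => ?_⟩
  have h1 : T ((T ^ (r - 1)) w) = w := by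
    rw [← Module.End.mul_apply, ← pow_succ', show r - 1 + 1 = r by omega, hTr,
      Module.End.one_apply]
  rw [← h1, hiso]
  exact hv.2 _ (invt_pow_apply hW hw (r - 1))

/-- a sesquilinear form `h(M·,·)` which vanishes on the diagonal of a subspace vanishes on
the subspace. -/
theorem exists_norm_ne (M : Module.End F (Fin N → F)) {U : Submodule F (Fin N → F)}
    {u₀ v₀ : Fin N → F} (hu₀ : u₀ ∈ U) (hv₀ : v₀ ∈ U) (hne : hermForm N F q (M u₀) v₀ ≠ 0) :
    ∃ v ∈ U, hermForm N F q (M v) v ≠ 0 := by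
  by_contra hcon
  push Not at hcon
  have hexp : ∀ c : F, c ^ q * hermForm N F q (M u₀) v₀ + c * hermForm N F q (M v₀) u₀ = 0 := by
    intro c
    have h1 := hcon (u₀ + c • v₀) (U.add_mem hu₀ (U.smul_mem c hv₀))
    rw [map_add, map_smul, hermForm_add_left, h_add_right, h_add_right, hermForm_smul_left,
      hermForm_smul_left, hermForm_smul_right, hermForm_smul_right, hcon u₀ hu₀,
      hcon v₀ hv₀] at h1
    linear_combination h1
  have h1 := hexp 1
  rw [one_pow, one_mul, one_mul] at h1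
  obtain ⟨c, hc⟩ := exists_not_fixed hF.out (K := F)
  have h2 := hexp c
  have h3 : (c ^ q - c) * hermForm N F q (M u₀) v₀ = 0 := by linear_combination h2 - c * h1
  rcases mul_eq_zero.mp h3 with h | h
  · exact hc (sub_eq_zero.mp h)
  · exact hne h

/-- **the cyclic block** of a vector whose top form is anisotropic. -/
theorem cyc_block (hiso : ∀ u v, hermForm N F q (T u) (T v) = hermForm N F q u v) {r : ℕ}
    (hr : 0 < r) (hTr : T ^ r = 1) (hnil : IsNilpotent (T - 1)) {U : Submodule F (Fin N → F)}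
    (hU : U ∈ Module.End.invtSubmodule T) {k : ℕ} (hk : 1 ≤ k)
    (hNk : ∀ u ∈ U, ((T - 1) ^ k) u = 0) {y : Fin N → F} (hy : y ∈ U)
    (hyy : hermForm N F q (((T - 1) ^ (k - 1)) y) y ≠ 0) :
    ∃ C : Submodule F (Fin N → F), C ≤ U ∧ C ∈ Module.End.invtSubmodule T ∧ NDeg q C ∧
      ∀ j, rprof (T - 1) C j = k - j := by
  classical
  obtain ⟨Nn, hN⟩ : ∃ Nn : Module.End F (Fin N → F), Nn = T - 1 := ⟨_, rfl⟩
  rw [← hN] at hnil hNk hyy ⊢
  have hUN : U ∈ Module.End.invtSubmodule Nn := by rw [hN]; exact invt_sub_one hU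
  obtain ⟨gen, hgen⟩ : ∃ gen : Fin k → (Fin N → F), gen = fun i : Fin k => (Nn ^ (i : ℕ)) y := ⟨_, rfl⟩
  obtain ⟨C, hCdef⟩ : ∃ C : Submodule F (Fin N → F), C = Submodule.span F (Set.range gen) :=
    ⟨_, rfl⟩
  have hgenC : ∀ i, gen i ∈ C := fun i => by rw [hCdef]; exact Submodule.subset_span ⟨i, rfl⟩
  have hyC : y ∈ C := by
    have := hgenC ⟨0, hk⟩
    rw [hgen] at this
    simpa using this
  have hCU : C ≤ U := by
    rw [hCdef, Submodule.span_le]
    rintro _ ⟨i, rfl⟩
    rw [hgen]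
    exact invt_pow_apply hUN hy _
  have hCN : C ∈ Module.End.invtSubmodule Nn := by
    rw [Module.End.mem_invtSubmodule, ← Submodule.map_le_iff_le_comap, hCdef, Submodule.map_span,
      Submodule.span_le]
    rintro _ ⟨_, ⟨i, rfl⟩, rfl⟩
    rw [← hCdef]
    by_cases hp : (i : ℕ) + 1 < k
    · have := hgenC ⟨(i : ℕ) + 1, hp⟩
      rw [hgen] at this ⊢
      simp only at this ⊢
      rw [← Module.End.mul_apply, ← pow_succ']
      exact this
    · rw [hgen]
      simp only
      rw [← Module.End.mul_apply, ← pow_succ']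
      rw [pow_add_apply_eq_zero (hNk _ hy) (by omega)]
      exact C.zero_mem
  have hCT : C ∈ Module.End.invtSubmodule T := by
    apply invt_of_sub_one
    rw [← hN]
    exact hCN
  -- the leading term
  have hcore : ∀ c : Fin k → F, c ≠ 0 →
      ∃ j : ℕ, hermForm N F q ((Nn ^ j) (∑ i, c i • gen i)) y ≠ 0 := by
    intro c hc
    obtain ⟨i₀, hi₀⟩ := Function.ne_iff.mp hc
    have hex : ∃ i, ∃ h : i < k, c ⟨i, h⟩ ≠ 0 := ⟨(i₀ : ℕ), i₀.2, hi₀⟩
    obtain ⟨s, ⟨hsk, hs₀⟩, hmin'⟩ : ∃ s, (∃ h : s < k, c ⟨s, h⟩ ≠ 0) ∧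
        ∀ i < s, ¬ (∃ h : i < k, c ⟨i, h⟩ ≠ 0) :=
      ⟨Nat.find hex, Nat.find_spec hex, fun i hi => Nat.find_min hex hi⟩
    have hmin : ∀ i, i < s → ∀ h : i < k, c ⟨i, h⟩ = 0 := by
      intro i hi h
      by_contra hne
      exact hmin' i hi ⟨h, hne⟩
    have hsum : (Nn ^ (k - 1 - s)) (∑ i, c i • gen i) = c ⟨s, hsk⟩ • (Nn ^ (k - 1)) y := by
      rw [map_sum, Finset.sum_eq_single (⟨s, hsk⟩ : Fin k)]
      · rw [map_smul, hgen]
        simp only
        rw [← Module.End.mul_apply, ← pow_add]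
        congr 3
        omega
      · intro i _ hi
        rw [map_smul, hgen]
        simp only
        rcases Nat.lt_or_ge (i : ℕ) s with hlt | hge
        · rw [hmin i hlt i.2, zero_smul]
        · have hgt : s < (i : ℕ) := by
            rcases Nat.lt_or_ge s (i : ℕ) with h | h
            · exact h
            · exact absurd (Fin.ext (by simp; omega)) hi
          rw [← Module.End.mul_apply, ← pow_add, pow_add_apply_eq_zero (hNk _ hy) (by omega),
            smul_zero]
      · intro h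
        exact absurd (Finset.mem_univ _) h
    refine ⟨k - 1 - s, ?_⟩
    rw [hsum, hermForm_smul_left]
    exact mul_ne_zero hs₀ hyy
  have hperpT : perpIn q ⊤ C ∈ Module.End.invtSubmodule T :=
    perpIn_invt_end hiso hr hTr (Module.End.invtSubmodule.top_mem T) hCT
  have hperpN : perpIn q ⊤ C ∈ Module.End.invtSubmodule Nn := by
    rw [hN]; exact invt_sub_one hperpT
  have hCnd : NDeg q C := by
    intro w hwC hw
    by_contra hcon
    push Not at hcon
    have hwP : w ∈ perpIn q ⊤ C := ⟨Submodule.mem_top, hcon⟩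
    rw [hCdef] at hwC
    obtain ⟨c, hcw⟩ := (Submodule.mem_span_range_iff_exists_fun F).mp hwC
    have hc : c ≠ 0 := by
      intro h
      apply hw
      rw [← hcw, h]
      simp
    obtain ⟨j, hjb⟩ := hcore c hc
    rw [hcw] at hjb
    apply hjb
    have h1 : (Nn ^ j) w ∈ perpIn q ⊤ C := invt_pow_apply hperpN hwP j
    exact h1.2 y hyC
  refine ⟨C, hCU, hCT, hCnd, ?_⟩
  obtain ⟨κ, hκpos, hκ⟩ := exists_type hnil hCN
  have hκle : ∀ a ∈ κ, a ≤ k := by
    rw [← mprof_eq_zero_iff, ← hκ]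
    unfold rprof
    have : C.map (Nn ^ k) = ⊥ := by
      rw [eq_bot_iff]
      rintro _ ⟨u, hu, rfl⟩
      rw [hNk u (hCU hu)]
      exact Submodule.zero_mem _
    rw [this, finrank_bot]
  have hκsum : κ.sum ≤ 1 * k := by
    rw [← mprof_zero_eq, ← hκ, rprof_zero, hCdef, one_mul]
    have := finrank_range_le_card (R := F) gen
    rw [Fintype.card_fin] at this
    exact this
  have hκcnt : 1 ≤ mprof κ (k - 1) := by
    rw [← hκ]
    unfold rprof
    have hne : (Nn ^ (k - 1)) y ≠ 0 := by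
      intro h
      apply hyy
      rw [h, hermForm_zero_left]
    have hmem : (Nn ^ (k - 1)) y ∈ C.map (Nn ^ (k - 1)) := ⟨y, hyC, rfl⟩
    by_contra hlt
    have h0 : finrank F ↥(C.map (Nn ^ (k - 1))) = 0 := by omega
    rw [Submodule.finrank_eq_zero] at h0
    rw [h0] at hmem
    exact hne ((Submodule.mem_bot F).mp hmem)
  have hκeq := eq_replicate_of hk hκpos hκle hκsum hκcnt
  intro j
  rw [hκ, hκeq, mprof_replicate, one_mul]

end Cfsg.Agent.Helper8.HermUni
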