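import Mathlib
import Cfsg.Agent.Helper8.HermUniA
set_option autoImplicit false
set_option linter.unusedSectionVars false

/-! Unipotent isometries of the unitary space: peeling off a cyclic block of the largest size,
and non-degenerate invariant subspaces of prescribed type (helper8). -/

namespace Cfsg.Agent.Helper8.HermUni

open Matrix Module Cfsg Cfsg.Agent.Helper7.Herm Cfsg.Agent.Helper8.GUOrder Cfsg.Agent.Helper8.AutSU
  Cfsg.Agent.Helper7.SUNd Cfsg.Agent.Helper8.SURoot Cfsg.Agent.Helper7.Ex27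
  Cfsg.Agent.Helper8.HermTwo Cfsg.Agent.Helper7.SpUn Cfsg.Agent.Helper8.UJ
  Cfsg.Agent.Helper7.POrd Cfsg.Agent.Helper8.SpU

variable {F : Type*} [Field F] [Fintype F] {q N : ℕ} [hF : Fact (Fintype.card F = q ^ 2)]
  {T : Module.End F (Fin N → F)}

theorem disjoint_perpIn {E W : Submodule F (Fin N → F)} (hW : NDeg q W) :
    Disjoint W (perpIn q E W) := by
  rw [Submodule.disjoint_def]
  intro x hx hxp
  by_contra hx0
  obtain ⟨y, hy, hne⟩ := hW x hx hx0
  exact hne (hxp.2 y hy)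

/-- **peeling**: a cyclic block of the largest size splits off. -/
theorem exists_peel (hiso : ∀ u v, hermForm N F q (T u) (T v) = hermForm N F q u v) {r : ℕ}
    (hr : 0 < r) (hTr : T ^ r = 1) (hnil : IsNilpotent (T - 1)) {U : Submodule F (Fin N → F)}
    (hU : U ∈ Module.End.invtSubmodule T) (hUnd : NDeg q U) {μ : Multiset ℕ}
    (hμpos : ∀ a ∈ μ, 1 ≤ a) (hμ : ∀ j, rprof (T - 1) U j = mprof μ j) (hμ0 : μ ≠ 0) :
    ∃ (C : Submodule F (Fin N → F)) (k : ℕ) (κ' : Multiset ℕ), 1 ≤ k ∧ C ≤ U ∧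
      C ∈ Module.End.invtSubmodule T ∧ NDeg q C ∧ finrank F ↥C = k ∧
      perpIn q U C ∈ Module.End.invtSubmodule T ∧ NDeg q (perpIn q U C) ∧
      finrank F ↥(perpIn q U C) < finrank F ↥U ∧ (∀ a ∈ κ', 1 ≤ a) ∧
      (∀ j, rprof (T - 1) (perpIn q U C) j = mprof κ' j) ∧ μ = Multiset.replicate 1 k + κ' := by
  obtain ⟨k, hkμ, hkmax⟩ := Multiset.exists_max_image id hμ0
  simp only [id] at hkmax
  have hk : 1 ≤ k := hμpos k hkμ
  have hUN : U ∈ Module.End.invtSubmodule (T - 1) := invt_sub_one hU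
  have hNk : ∀ u ∈ U, ((T - 1) ^ k) u = 0 := by
    apply map_eq_bot_of_rprof
    rw [hμ, mprof_eq_zero_iff]
    exact hkmax
  have hNk' : ∃ u ∈ U, ((T - 1) ^ (k - 1)) u ≠ 0 := by
    by_contra hcon
    push Not at hcon
    have h0 : rprof (T - 1) U (k - 1) = 0 := by
      unfold rprof
      have : U.map ((T - 1) ^ (k - 1)) = ⊥ := by
        rw [eq_bot_iff]
        rintro _ ⟨u, hu, rfl⟩
        rw [hcon u hu]
        exact Submodule.zero_mem _
      rw [this, finrank_bot]
    rw [hμ, mprof_eq_zero_iff] at h0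
    have := h0 k hkμ
    omega
  obtain ⟨u₀, hu₀, hu₀'⟩ := hNk'
  obtain ⟨v₀, hv₀, hv₀'⟩ := hUnd _ (invt_pow_apply hUN hu₀ (k - 1)) hu₀'
  obtain ⟨y, hy, hyy⟩ := exists_norm_ne ((T - 1) ^ (k - 1)) hu₀ hv₀ hv₀'
  obtain ⟨C, hCU, hCT, hCnd, hCprof⟩ := cyc_block hiso hr hTr hnil hU hk hNk hy hyy
  have hCd : finrank F ↥C = k := by
    rw [← rprof_zero (T - 1) C, hCprof, Nat.sub_zero]
  have hU'T : perpIn q U C ∈ Module.End.invtSubmodule T := perpIn_invt_end hiso hr hTr hU hCT
  have hU'nd : NDeg q (perpIn q U C) := ndeg_perpIn hUnd hCnd hCU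
  have hdim := finrank_perpIn (q := q) hCnd hCU
  have hlt : finrank F ↥(perpIn q U C) < finrank F ↥U := by omega
  obtain ⟨κ', hκ'pos, hκ'⟩ := exists_type hnil (invt_sub_one hU'T)
  refine ⟨C, k, κ', hk, hCU, hCT, hCnd, hCd, hU'T, hU'nd, hlt, hκ'pos, hκ', ?_⟩
  apply eq_of_mprof_eq _ _ hμpos
  · intro a ha
    rcases Multiset.mem_add.mp ha with h | h
    · rw [Multiset.eq_of_mem_replicate h]; exact hk
    · exact hκ'pos a h
  · intro j
    rw [← hμ, mprof_add, mprof_replicate, one_mul, ← hCprof, ← hκ']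
    conv_lhs => rw [← sup_perpIn (q := q) hCnd hCU]
    exact rprof_sup (invt_sub_one hCT) (invt_sub_one hU'T) (disjoint_perpIn hCnd) j

/-- **sub-types are realised**: every sub-multiset of the type is the type of a non-degenerate
invariant subspace; here only its dimension is recorded. -/
theorem exists_nd_invt_of_le (hiso : ∀ u v, hermForm N F q (T u) (T v) = hermForm N F q u v)
    {r : ℕ} (hr : 0 < r) (hTr : T ^ r = 1) (hnil : IsNilpotent (T - 1)) :
    ∀ (n : ℕ) (U : Submodule F (Fin N → F)), finrank F ↥U = n →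
      U ∈ Module.End.invtSubmodule T → NDeg q U →
      ∀ μ : Multiset ℕ, (∀ a ∈ μ, 1 ≤ a) → (∀ j, rprof (T - 1) U j = mprof μ j) →
      ∀ ν : Multiset ℕ, ν ≤ μ →
      ∃ W : Submodule F (Fin N → F), W ≤ U ∧ W ∈ Module.End.invtSubmodule T ∧ NDeg q W ∧
        finrank F ↥W = ν.sum := by
  intro n
  induction n using Nat.strong_induction_on with
  | _ n ih =>
    intro U hn hU hUnd μ hμpos hμ ν hνμ
    by_cases hμ0 : μ = 0
    · rw [hμ0] at hνμ
      have hν0 : ν = 0 := Multiset.le_zero.mp hνμ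
      refine ⟨⊥, bot_le, Module.End.invtSubmodule.bot_mem T, ndeg_bot, ?_⟩
      rw [hν0, finrank_bot, Multiset.sum_zero]
    obtain ⟨C, k, κ', hk, hCU, hCT, hCnd, hCd, hU'T, hU'nd, hlt, hκ'pos, hκ', hμeq⟩ :=
      exists_peel hiso hr hTr hnil hU hUnd hμpos hμ hμ0
    by_cases hcnt : 1 ≤ ν.count k
    · have hrep : Multiset.replicate 1 k ≤ ν := Multiset.le_count_iff_replicate_le.mp hcnt
      have hν'le : ν - Multiset.replicate 1 k ≤ κ' := by
        rw [tsub_le_iff_left, ← hμeq]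
        exact hνμ
      obtain ⟨W', hW'le, hW'T, hW'nd, hW'd⟩ :=
        ih _ (by rw [← hn]; exact hlt) _ rfl hU'T hU'nd κ' hκ'pos hκ' _ hν'le
      have hperp : ∀ u ∈ C, ∀ v ∈ W', hermForm N F q u v = 0 := fun u hu v hv =>
        h_eq_zero_of_swap ((hW'le hv).2 u hu)
      refine ⟨C ⊔ W', sup_le hCU (fun v hv => (hW'le hv).1),
        Module.End.invtSubmodule.sup_mem hCT hW'T, ndeg_sup hCnd hW'nd hperp, ?_⟩
      rw [finrank_sup_perp hCnd hperp, hCd, hW'd]
      have h1 : ν = (ν - Multiset.replicate 1 k) + Multiset.replicate 1 k :=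
        (tsub_add_cancel_of_le hrep).symm
      conv_rhs => rw [h1, Multiset.sum_add, Multiset.sum_replicate, smul_eq_mul]
      ring
    · have hc0 : ν.count k = 0 := by omega
      have hνle : ν ≤ κ' := by
        rw [Multiset.le_iff_count]
        intro a
        have h1 := Multiset.le_iff_count.mp hνμ a
        rw [hμeq, Multiset.count_add, Multiset.count_replicate] at h1
        by_cases hka : k = a
        · rw [← hka, hc0]
          exact Nat.zero_le _
        · rw [if_neg hka] at h1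
          omega
      obtain ⟨W', hW'le, hW'T, hW'nd, hW'd⟩ :=
        ih _ (by rw [← hn]; exact hlt) _ rfl hU'T hU'nd κ' hκ'pos hκ' _ hνle
      exact ⟨W', fun v hv => (hW'le hv).1, hW'T, hW'nd, hW'd⟩

end Cfsg.Agent.Helper8.HermUni
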