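import Mathlib
import Cfsg.Agent.Helper8.HermUniB
set_option autoImplicit false
set_option linter.unusedSectionVars false

/-! Elements of order `p` modulo scalars of the unitary group in characteristic `p`:
existence of invariant non-degenerate subspaces (helper8). -/

namespace Cfsg.Agent.Helper8.HermUni

open Matrix Module Cfsg Cfsg.Agent.Helper7.Herm Cfsg.Agent.Helper8.GUOrder Cfsg.Agent.Helper8.AutSU
  Cfsg.Agent.Helper7.SUNd Cfsg.Agent.Helper8.SURoot Cfsg.Agent.Helper7.Ex27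
  Cfsg.Agent.Helper8.HermTwo Cfsg.Agent.Helper7.SpUn Cfsg.Agent.Helper8.UJ
  Cfsg.Agent.Helper7.POrd Cfsg.Agent.Helper8.SpU

variable {F : Type*} [Field F] [Fintype F] {q N : ℕ} [hF : Fact (Fintype.card F = q ^ 2)]

theorem pow_unitary {X : Matrix (Fin N) (Fin N) F}
    (hXU : ∀ u v, hermForm N F q (X *ᵥ u) (X *ᵥ v) = hermForm N F q u v) (j : ℕ)
    (u v : Fin N → F) : hermForm N F q ((X ^ j) *ᵥ u) ((X ^ j) *ᵥ v) = hermForm N F q u v := by
  induction j with
  | zero => rw [pow_zero, Matrix.one_mulVec, Matrix.one_mulVec]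
  | succ j ih => rw [pow_succ', ← Matrix.mulVec_mulVec, ← Matrix.mulVec_mulVec, hXU, ih]

/-- a scalar power of a unitary matrix has norm one -/
theorem scalar_pow_norm_one (hN : 1 ≤ N) {X : Matrix (Fin N) (Fin N) F}
    (hXU : ∀ u v, hermForm N F q (X *ᵥ u) (X *ᵥ v) = hermForm N F q u v) {z : F} {j : ℕ}
    (hz : X ^ j = z • (1 : Matrix (Fin N) (Fin N) F)) : z * z ^ q = 1 := by
  have h1 := pow_unitary hXU j (Pi.single ⟨0, by omega⟩ 1) (Pi.single ⟨0, by omega⟩ 1)
  rw [hz, Matrix.smul_mulVec, Matrix.one_mulVec, hermForm_smul_left,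
    hermForm_smul_right, h_single_single] at h1
  linear_combination h1

theorem smul_unitary {X : Matrix (Fin N) (Fin N) F}
    (hXU : ∀ u v, hermForm N F q (X *ᵥ u) (X *ᵥ v) = hermForm N F q u v) {c : F}
    (hc : c * c ^ q = 1) (u v : Fin N → F) :
    hermForm N F q ((c • X) *ᵥ u) ((c • X) *ᵥ v) = hermForm N F q u v := by
  rw [Matrix.smul_mulVec, Matrix.smul_mulVec, hermForm_smul_left, hermForm_smul_right, hXU,
    ← mul_assoc, hc, one_mul]

variable {p : ℕ} [Fact p.Prime] [CharP F p]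

/-- `p`-th roots of scalars of norm one -/
theorem exists_root_norm_one {z : F} (hz : z * z ^ q = 1) : ∃ c : F, c ^ p = z ∧ c * c ^ q = 1 := by
  have hinj : Function.Injective (frobenius F p) := frobenius_inj F p
  have hsurj : Function.Surjective (frobenius F p) := Finite.injective_iff_surjective.mp hinj
  obtain ⟨c, hc⟩ := hsurj z
  rw [frobenius_def] at hc
  refine ⟨c, hc, ?_⟩
  apply hinj
  rw [frobenius_def, frobenius_def, mul_pow, ← pow_mul, mul_comm q p, pow_mul, hc, hz, one_pow]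

/-- **`r = p`, existence**: if every admissible type has a sub-multiset of sum `m`, then every
unitary matrix whose `p`-th power is scalar has an invariant non-degenerate `m`-space. -/
theorem exists_nd_invt_p {n m : ℕ} (hn : 1 ≤ n)
    (hcond : ∀ μ : Multiset ℕ, (∀ a ∈ μ, 0 < a ∧ a ≤ p) → μ.sum = n →
      ∃ ν : Multiset ℕ, ν ≤ μ ∧ ν.sum = m)
    (X : Matrix (Fin n) (Fin n) F)
    (hXU : ∀ u v, hermForm n F q (X *ᵥ u) (X *ᵥ v) = hermForm n F q u v) {z : F}
    (hz : X ^ p = z • (1 : Matrix (Fin n) (Fin n) F)) :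
    ∃ W : Submodule F (Fin n → F), finrank F ↥W = m ∧
      (∀ u ∈ W, u ≠ 0 → ∃ v ∈ W, hermForm n F q u v ≠ 0) ∧ W.map (Matrix.toLin' X) ≤ W := by
  have hp : p.Prime := Fact.out
  have hz1 := scalar_pow_norm_one hn hXU hz
  obtain ⟨c, hcp, hc1⟩ := exists_root_norm_one (p := p) hz1
  have hc0 : c ≠ 0 := by
    rintro rfl
    rw [zero_mul] at hc1
    exact zero_ne_one hc1
  have hci : c⁻¹ * c⁻¹ ^ q = 1 := by
    rw [inv_pow, ← mul_inv, hc1, inv_one]
  obtain ⟨Y, hYdef⟩ : ∃ Y : Matrix (Fin n) (Fin n) F, Y = c⁻¹ • X := ⟨_, rfl⟩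
  have hYU : ∀ u v, hermForm n F q (Y *ᵥ u) (Y *ᵥ v) = hermForm n F q u v := by
    rw [hYdef]
    exact smul_unitary hXU hci
  have hYp : Y ^ p = 1 := by
    rw [hYdef, _root_.smul_pow, hz, smul_smul, inv_pow, hcp, inv_mul_cancel₀, one_smul]
    rw [← hcp]
    exact pow_ne_zero _ hc0
  have hXY : X = c • Y := by
    rw [hYdef, smul_smul, mul_inv_cancel₀ hc0, one_smul]
  obtain ⟨T, hTdef⟩ : ∃ T : Module.End F (Fin n → F), T = Matrix.toLin' Y := ⟨_, rfl⟩
  have hT : T ^ p = 1 := by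
    rw [hTdef, ← Matrix.toLin'_pow, hYp, Matrix.toLin'_one]
    rfl
  have hisoT : ∀ u v, hermForm n F q (T u) (T v) = hermForm n F q u v := by
    intro u v
    rw [hTdef, Matrix.toLin'_apply, Matrix.toLin'_apply]
    exact hYU u v
  have hNp : (T - 1) ^ p = 0 := by
    rw [hTdef]
    exact nilpotent_toLin'_sub_one hYp
  have hnil : IsNilpotent (T - 1) := ⟨p, hNp⟩
  have htop : (⊤ : Submodule F (Fin n → F)) ∈ Module.End.invtSubmodule T :=
    Module.End.invtSubmodule.top_mem _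
  obtain ⟨μ, hμpos, hμ⟩ := exists_type hnil (invt_sub_one htop)
  have hμsum : μ.sum = n := by
    rw [← mprof_zero_eq, ← hμ, rprof_zero, finrank_top, Module.finrank_fintype_fun_eq_card,
      Fintype.card_fin]
  have hμle : ∀ a ∈ μ, a ≤ p := by
    rw [← mprof_eq_zero_iff, ← hμ]
    unfold rprof
    rw [hNp, Submodule.map_zero, finrank_bot]
  obtain ⟨ν, hνle, hνsum⟩ := hcond μ (fun a ha => ⟨hμpos a ha, hμle a ha⟩) hμsum
  have htopnd : NDeg q (⊤ : Submodule F (Fin n → F)) := ndeg_top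
  obtain ⟨W, -, hWT, hWnd, hWd⟩ := exists_nd_invt_of_le hisoT hp.pos hT hnil _ ⊤ rfl htop
    htopnd μ hμpos hμ ν hνle
  refine ⟨W, by rw [hWd, hνsum], hWnd, ?_⟩
  rw [hXY, map_smul, Submodule.map_smul _ W c hc0, ← hTdef, Submodule.map_le_iff_le_comap]
  exact (Module.End.mem_invtSubmodule _).mp hWT

end Cfsg.Agent.Helper8.HermUni
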