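import Mathlib
import Cfsg.Agent.Helper8.HermUniC
set_option autoImplicit false
set_option linter.unusedSectionVars false

/-! Hermitian matrices over a finite field are of the form `Pᵀ P^σ`; conjugating isometries of
a Hermitian matrix to unitary matrices (helper8). -/

namespace Cfsg.Agent.Helper8.HermUni

open Matrix Module Cfsg Cfsg.Agent.Helper7.Herm Cfsg.Agent.Helper8.GUOrder Cfsg.Agent.Helper8.AutSU
  Cfsg.Agent.Helper7.SUNd Cfsg.Agent.Helper8.SURoot Cfsg.Agent.Helper7.Ex27
  Cfsg.Agent.Helper8.HermTwo Cfsg.Agent.Helper7.SpUn Cfsg.Agent.Helper8.UJ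
  Cfsg.Agent.Helper7.POrd Cfsg.Agent.Helper8.SpU Cfsg.Agent.Helper7.Pol

variable {F : Type*} [Field F] [Fintype F] {q : ℕ} [hF : Fact (Fintype.card F = q ^ 2)]

/-- **every non-singular Hermitian matrix is a Gram matrix of a basis of the standard unitary
space.** -/
theorem exists_herm_factor (h2 : (2 : F) ≠ 0) {k : ℕ} (G : Matrix (Fin k) (Fin k) F)
    (hG : ∀ i j, G j i = (G i j) ^ q) (hdet : G.det ≠ 0) :
    ∃ P : Matrix (Fin k) (Fin k) F, Pᵀ * P.map (· ^ q) = G := by
  classical
  obtain ⟨u, w, hfr⟩ := exists_std_frame (F := F) (q := q) h2 k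
  have h2q : ((2 : F)⁻¹) ^ q = (2 : F)⁻¹ := by rw [inv_pow, two_pow_q]
  obtain ⟨a, ha⟩ : ∃ a : Fin k → Fin k → F, a = fun i j => (2 : F)⁻¹ * G i j := ⟨_, rfl⟩
  obtain ⟨e, he⟩ : ∃ e : Fin k → (Fin (k + k) → F), e = fun i => u i + ∑ j, a i j • w j :=
    ⟨_, rfl⟩
  have hgram : ∀ i l, hermForm (k + k) F q (e i) (e l) = G i l := by
    intro i l
    have h1 : hermForm (k + k) F q (u i) (∑ j, a l j • w j) = (a l i) ^ q := by
      rw [herm_lincomb_right, Finset.sum_eq_single i]
      · rw [hfr.uw, if_pos rfl, mul_one]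
      · intro j _ hj
        rw [hfr.uw, if_neg (Ne.symm hj), mul_zero]
      · intro h; exact absurd (Finset.mem_univ i) h
    have h3 : hermForm (k + k) F q (∑ j, a i j • w j) (u l) = a i l := by
      rw [herm_lincomb_left, Finset.sum_eq_single l]
      · rw [hfr.wu, if_pos rfl, mul_one]
      · intro j _ hj
        rw [hfr.wu, if_neg hj, mul_zero]
      · intro h; exact absurd (Finset.mem_univ l) h
    have h4 : hermForm (k + k) F q (∑ j, a i j • w j) (∑ j, a l j • w j) = 0 := by
      rw [herm_lincomb_left]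
      apply Finset.sum_eq_zero
      intro j _
      rw [herm_lincomb_right, Finset.sum_eq_zero, mul_zero]
      intro m _
      rw [hfr.ww, mul_zero]
    rw [he]
    simp only
    rw [hermForm_add_left, h_add_right, h_add_right, hfr.uu, h1, h3, h4, ha]
    simp only
    rw [mul_pow, h2q, ← hG l i, zero_add, add_zero, ← two_mul, ← mul_assoc, mul_inv_cancel₀ h2,
      one_mul]
  have hker : ∀ c : Fin k → F, (∀ l, ∑ i, c i * G i l = 0) → c = 0 := by
    intro c hc
    apply Matrix.eq_zero_of_vecMul_eq_zero hdet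
    ext l
    exact hc l
  have hli : LinearIndependent F e := by
    rw [Fintype.linearIndependent_iff]
    intro c hc
    have h0 := hker c (fun l => by
      have h := congrArg (fun x => hermForm (k + k) F q x (e l)) hc
      beta_reduce at h
      rw [herm_lincomb_left, hermForm_zero_left] at h
      rw [← h]
      exact Finset.sum_congr rfl fun i _ => by rw [hgram])
    intro i
    rw [h0]
    rfl
  obtain ⟨W, hWdef⟩ : ∃ W : Submodule F (Fin (k + k) → F), W = Submodule.span F (Set.range e) :=
    ⟨_, rfl⟩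
  have heW : ∀ i, e i ∈ W := fun i => by rw [hWdef]; exact Submodule.subset_span ⟨i, rfl⟩
  have hWdim : finrank F W = k := by rw [hWdef, finrank_span_eq_card hli, Fintype.card_fin]
  have hWnd : NDeg q W := by
    intro x hx hx0
    rw [hWdef] at hx
    obtain ⟨c, rfl⟩ := (Submodule.mem_span_range_iff_exists_fun F).mp hx
    by_contra hcon
    push Not at hcon
    apply hx0
    have hc0 := hker c (fun l => by
      have h := hcon (e l) (heW l)
      rw [herm_lincomb_left] at h
      rw [← h]
      exact Finset.sum_congr rfl fun i _ => by rw [hgram])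
    rw [hc0]
    simp
  obtain ⟨b, hbW, hb⟩ := exists_onb k W hWnd hWdim
  have hspan := span_onb_eq hWdim hbW hb
  have hexp : ∀ i, e i = ∑ j, hermForm (k + k) F q (e i) (b j) • b j := by
    intro i
    have hei : e i ∈ Submodule.span F (Set.range b) := by rw [hspan]; exact heW i
    obtain ⟨c, hc⟩ := (Submodule.mem_span_range_iff_exists_fun F).mp hei
    have hcj : ∀ j, hermForm (k + k) F q (e i) (b j) = c j := by
      intro j
      rw [← hc, herm_lincomb_onb hb]
    simp only [hcj]
    exact hc.symm
  refine ⟨Matrix.of fun j i => hermForm (k + k) F q (e i) (b j), ?_⟩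
  ext i l
  rw [Matrix.mul_apply, ← hgram i l]
  conv_rhs => rw [hexp i, hexp l]
  rw [herm_lincomb_left]
  apply Finset.sum_congr rfl
  intro j _
  rw [herm_lincomb_right, Finset.sum_eq_single j]
  · rw [hb, if_pos rfl, mul_one]
    rfl
  · intro m _ hm
    rw [hb, if_neg (Ne.symm hm), mul_zero]
  · intro h; exact absurd (Finset.mem_univ j) h

end Cfsg.Agent.Helper8.HermUni
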