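import Mathlib
import Cfsg.Agent.Helper8.UJSp
set_option autoImplicit false

/-! Unipotent isometries of quadratic forms `v ↦ v ⬝ G v`: realisability of rank profiles. -/

namespace Cfsg.Agent.Helper8.UJ

open Matrix Module

variable {F : Type*} [Field F]

section
variable {ι : Type*}

/-- alternating matrices -/
def IsAltM (K : Matrix ι ι F) : Prop := Kᵀ = -K ∧ ∀ i, K i i = 0

theorem IsAltM.dot_eq_zero [Fintype ι] {K : Matrix ι ι F} (h : IsAltM K) (v : ι → F) :
    v ⬝ᵥ (K *ᵥ v) = 0 := by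
  have h1 : v ⬝ᵥ (K *ᵥ v) = ∑ p : ι × ι, v p.1 * K p.1 p.2 * v p.2 := by
    rw [Fintype.sum_prod_type]
    simp only [dotProduct, Matrix.mulVec, Finset.mul_sum, mul_assoc]
  rw [h1]
  apply Finset.sum_involution (fun p _ => (p.2, p.1))
  · intro p _
    have h2 : K p.2 p.1 = -K p.1 p.2 := by
      have := congrFun (congrFun h.1 p.1) p.2
      rwa [Matrix.transpose_apply, Matrix.neg_apply] at this
    simp only
    rw [h2]
    ring
  · intro p _ hp hpp
    apply hp
    have h3 : p.2 = p.1 := congrArg Prod.fst hpp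
    rw [h3, h.2, mul_zero, zero_mul]
  · intro p _
    exact Finset.mem_univ _
  · intro p _
    rfl

theorem isAltM_zero : IsAltM (0 : Matrix ι ι F) := ⟨by simp, fun _ => rfl⟩

end

/-- realisability of a rank profile by a unipotent isometry of a quadratic form `v ↦ v ⬝ G v`
with nondegenerate polar form `G + Gᵀ` -/
def OReal (F : Type*) [Field F] (ν : Multiset ℕ) : Prop :=
  ∃ (ι : Type) (_ : Fintype ι) (_ : DecidableEq ι) (G A : Matrix ι ι F),
    (G + Gᵀ).det ≠ 0 ∧ IsAltM (Aᵀ * G * A - G) ∧ ∀ j, ((A - 1) ^ j).rank = mprof ν j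

theorem oReal_zero : OReal F 0 := by
  refine ⟨Fin 0, inferInstance, inferInstance, 0, 1, ?_, ?_, fun j => ?_⟩
  · simp
  · simp only [Matrix.transpose_one, Matrix.one_mul, Matrix.mul_one, sub_self]
    exact isAltM_zero
  · rw [mprof_zero]
    have := Matrix.rank_le_card_width (((1 : Matrix (Fin 0) (Fin 0) F) - 1) ^ j)
    simp only [Fintype.card_fin] at this
    omega

theorem oReal_add (ν₁ ν₂ : Multiset ℕ) (h₁ : OReal F ν₁) (h₂ : OReal F ν₂) :
    OReal F (ν₁ + ν₂) := by
  obtain ⟨ι₁, _, _, G₁, A₁, hd₁, ha₁, hr₁⟩ := h₁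
  obtain ⟨ι₂, _, _, G₂, A₂, hd₂, ha₂, hr₂⟩ := h₂
  refine ⟨ι₁ ⊕ ι₂, inferInstance, inferInstance, fromBlocks G₁ 0 0 G₂, fromBlocks A₁ 0 0 A₂,
    ?_, ?_, fun j => ?_⟩
  · rw [Matrix.fromBlocks_transpose, Matrix.fromBlocks_add]
    simp only [Matrix.transpose_zero, add_zero]
    rw [Matrix.det_fromBlocks_zero₂₁]
    exact mul_ne_zero hd₁ hd₂
  · rw [Matrix.fromBlocks_transpose, Matrix.fromBlocks_multiply, Matrix.fromBlocks_multiply,
      fromBlocks_sub']
    simp only [Matrix.transpose_zero, Matrix.zero_mul, Matrix.mul_zero, add_zero, zero_add,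
      sub_self]
    constructor
    · rw [Matrix.fromBlocks_transpose, Matrix.fromBlocks_neg, ha₁.1, ha₂.1]
      simp
    · rintro (i | i)
      · exact ha₁.2 i
      · exact ha₂.2 i
  · rw [fromBlocks_diag_sub_one, rank_pow_fromBlocks, mprof_add, hr₁ j, hr₂ j]

theorem oReal_pair (a : ℕ) : OReal F {a, a} := by
  have hnil : IsNilpotent (Zs (F := F) a) := ⟨a, Zs_pow_self a⟩
  obtain ⟨u, hu⟩ := hnil.isUnit_one_add
  set W : Matrix (Fin a) (Fin a) F := ((u⁻¹ : (Matrix (Fin a) (Fin a) F)ˣ) : Matrix (Fin a) (Fin a) F)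
    with hW
  have h1 : (1 + Zs a) * W = 1 := by rw [← hu, hW]; exact Units.mul_inv u
  have h2 : W * (1 + Zs a) = 1 := by rw [← hu, hW]; exact Units.inv_mul u
  refine ⟨Fin a ⊕ Fin a, inferInstance, inferInstance,
    fromBlocks (0 : Matrix (Fin a) (Fin a) F) (1 : Matrix (Fin a) (Fin a) F)
      (0 : Matrix (Fin a) (Fin a) F) (0 : Matrix (Fin a) (Fin a) F),
    fromBlocks (1 + Zs a) 0 0 Wᵀ, ?_, ?_, fun j => ?_⟩
  · rw [Matrix.fromBlocks_transpose, Matrix.fromBlocks_add]
    simp only [Matrix.transpose_zero, Matrix.transpose_one, add_zero, zero_add]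
    have h3 : (fromBlocks (0 : Matrix (Fin a) (Fin a) F) (1 : Matrix (Fin a) (Fin a) F)
        (1 : Matrix (Fin a) (Fin a) F) (0 : Matrix (Fin a) (Fin a) F)) * fromBlocks 0 1 1 0 = 1 := by
      rw [Matrix.fromBlocks_multiply]
      simp [Matrix.fromBlocks_one]
    intro h0
    have := congrArg Matrix.det h3
    rw [Matrix.det_mul, h0, zero_mul, Matrix.det_one] at this
    exact zero_ne_one this
  · have h3 : (fromBlocks (1 + Zs a) 0 0 Wᵀ)ᵀ * fromBlocks (0 : Matrix (Fin a) (Fin a) F) 1 0 0 *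
        fromBlocks (1 + Zs a) 0 0 Wᵀ = fromBlocks 0 1 0 0 := by
      rw [Matrix.fromBlocks_transpose, Matrix.fromBlocks_multiply, Matrix.fromBlocks_multiply]
      simp only [Matrix.transpose_zero, Matrix.zero_mul, Matrix.mul_zero, add_zero, zero_add,
        Matrix.mul_one, Matrix.transpose_transpose]
      congr 1
      rw [← Matrix.transpose_mul, h2, Matrix.transpose_one]
    rw [h3, sub_self]
    exact isAltM_zero
  · rw [fromBlocks_diag_sub_one, rank_pow_fromBlocks, rank_transpose_sub_one_pow,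
      rank_inv_sub_one_pow _ _ h1 h2, add_sub_cancel_left, rank_Zs_pow, mprof_pair]

end Cfsg.Agent.Helper8.UJ
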