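import Mathlib

set_option autoImplicit false

/-!
# Automorphisms induced on `H / Z(H)` by a normalising group; images and indices (helper8)
-/

namespace Cfsg.Agent.Helper8.AutImage

section Generic

variable {G : Type*} [Group G]

theorem mem_of_characteristic (H : Subgroup G) [hH : H.Characteristic] (φ : MulAut G) {h : G}
    (hh : h ∈ H) : φ h ∈ H := by
  have := hH.fixed φ
  have h2 : h ∈ H.comap φ.toMonoidHom := by rw [this]; exact hh
  exact h2

/-- restriction of automorphisms to a characteristic subgroup. -/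
def restrictChar (H : Subgroup G) [hH : H.Characteristic] : MulAut G →* MulAut H where
  toFun φ :=
    { toFun := fun h => ⟨φ (h : G), mem_of_characteristic H φ h.2⟩
      invFun := fun h => ⟨φ⁻¹ (h : G), mem_of_characteristic H φ⁻¹ h.2⟩
      left_inv := fun h => Subtype.ext (by simp)
      right_inv := fun h => Subtype.ext (by simp)
      map_mul' := fun a b => Subtype.ext (map_mul φ (a : G) (b : G)) }
  map_one' := by ext; rfl
  map_mul' φ ψ := by ext; rfl

theorem restrictChar_apply (H : Subgroup G) [hH : H.Characteristic] (φ : MulAut G) (h : H) :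
    ((restrictChar H φ h : H) : G) = φ h := rfl

theorem map_center (φ : MulAut G) :
    (Subgroup.center G).map (φ : G ≃* G).toMonoidHom = Subgroup.center G :=
  Subgroup.characteristic_iff_map_eq.mp inferInstance φ

/-- automorphisms induced on the quotient by the centre. -/
noncomputable def quotCenter : MulAut G →* MulAut (G ⧸ Subgroup.center G) where
  toFun φ := QuotientGroup.congr (Subgroup.center G) (Subgroup.center G) φ (map_center φ)
  map_one' := by
    ext x
    induction x using QuotientGroup.induction_on with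
    | H g => rfl
  map_mul' φ ψ := by
    ext x
    induction x using QuotientGroup.induction_on with
    | H g => rfl

theorem quotCenter_mk (φ : MulAut G) (g : G) :
    quotCenter φ (QuotientGroup.mk g) = QuotientGroup.mk (φ g) := rfl

theorem quotCenter_conj (g : G) :
    quotCenter (MulAut.conj g) = MulAut.conj (QuotientGroup.mk g : G ⧸ Subgroup.center G) := by
  ext x
  induction x using QuotientGroup.induction_on with
  | H s =>
    rw [quotCenter_mk, MulAut.conj_apply, MulAut.conj_apply, QuotientGroup.mk_mul,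
      QuotientGroup.mk_mul, QuotientGroup.mk_inv]

/-- for a perfect group, an automorphism inducing the identity modulo the centre is the
identity. -/
theorem eq_one_of_quotCenter_eq_one (hperf : commutator G = ⊤) (φ : MulAut G)
    (h : quotCenter φ = 1) : φ = 1 := by
  have hz : ∀ s : G, s⁻¹ * φ s ∈ Subgroup.center G := by
    intro s
    have h1 : quotCenter φ (QuotientGroup.mk s) = (QuotientGroup.mk s : G ⧸ Subgroup.center G) := by
      rw [h]; rfl
    rw [quotCenter_mk] at h1
    exact QuotientGroup.eq.mp h1.symm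
  have hmul : ∀ s t : G, (s * t)⁻¹ * φ (s * t) = (s⁻¹ * φ s) * (t⁻¹ * φ t) := by
    intro s t
    have hc := Subgroup.mem_center_iff.mp (hz s) t⁻¹
    calc (s * t)⁻¹ * φ (s * t) = t⁻¹ * (s⁻¹ * φ s) * φ t := by rw [map_mul]; group
      _ = (s⁻¹ * φ s) * t⁻¹ * φ t := by rw [hc]
      _ = (s⁻¹ * φ s) * (t⁻¹ * φ t) := by group
  obtain ⟨κ, hκ⟩ : ∃ κ : G →* G, ∀ s, κ s = s⁻¹ * φ s :=
    ⟨MonoidHom.mk' (fun s => s⁻¹ * φ s) hmul, fun s => rfl⟩
  have hker : commutator G ≤ κ.ker := by
    rw [commutator_eq_closure, Subgroup.closure_le]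
    rintro _ ⟨a, b, rfl⟩
    rw [SetLike.mem_coe, MonoidHom.mem_ker, map_commutatorElement,
      commutatorElement_eq_one_iff_commute]
    have := hz a
    rw [← hκ a] at this
    exact (Subgroup.mem_center_iff.mp this (κ b)).symm
  rw [hperf] at hker
  ext s
  have hs : s ∈ κ.ker := hker (Subgroup.mem_top s)
  rw [MonoidHom.mem_ker, hκ] at hs
  rw [MulAut.one_apply]
  exact (inv_mul_eq_one.mp hs).symm

end Generic

section Lift

variable {A B C : Type*} [Group A] [Group B] [Group C]

/-- descending a surjection through a homomorphism onto its range. -/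
theorem exists_hom_of_range (Φ : A →* B) (R : Subgroup B) (hR : R = Φ.range) (ψ : A →* C)
    (hψ : Function.Surjective ψ) (K : Subgroup A) (hker : ψ.ker = K ⊔ Φ.ker) :
    ∃ φ : ↥R →* C, Function.Surjective φ ∧ φ.ker = (K.map Φ).subgroupOf R := by
  subst hR
  have hle : Φ.rangeRestrict.ker ≤ ψ.ker := by
    rw [MonoidHom.ker_rangeRestrict, hker]
    exact le_sup_right
  let φ : ↥Φ.range →* C :=
    Φ.rangeRestrict.liftOfSurjective Φ.rangeRestrict_surjective ⟨ψ, hle⟩
  have hφ : ∀ a, φ (Φ.rangeRestrict a) = ψ a := fun a =>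
    MonoidHom.liftOfRightInverse_comp_apply _ _ _ ⟨ψ, hle⟩ a
  refine ⟨φ, ?_, ?_⟩
  · intro c
    obtain ⟨a, rfl⟩ := hψ c
    exact ⟨Φ.rangeRestrict a, hφ a⟩
  · ext x
    obtain ⟨a, rfl⟩ := Φ.rangeRestrict_surjective x
    rw [MonoidHom.mem_ker, hφ, Subgroup.mem_subgroupOf, ← MonoidHom.mem_ker, hker]
    show a ∈ K ⊔ Φ.ker ↔ Φ a ∈ K.map Φ
    constructor
    · intro ha
      have : Φ a ∈ (K ⊔ Φ.ker).map Φ := Subgroup.mem_map_of_mem _ ha
      rw [Subgroup.map_sup, (MonoidHom.ker Φ).map_eq_bot_iff.mpr le_rfl, sup_bot_eq] at this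
      exact this
    · rintro ⟨k, hk, hka⟩
      have : k⁻¹ * a ∈ Φ.ker := by
        rw [MonoidHom.mem_ker, map_mul, map_inv, hka, inv_mul_cancel]
      have h2 : a = k * (k⁻¹ * a) := by group
      rw [h2]
      exact Subgroup.mul_mem_sup hk this

end Lift

end Cfsg.Agent.Helper8.AutImage
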