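import Mathlib
import Cfsg.Prelude.Def_LieTypeDatum
import Cfsg.Agent.Helper8.AutImage

set_option autoImplicit false

/-!
# The images of the conformal, full and special orthogonal groups in `Aut(PΩ)` (helper8)
-/

namespace Cfsg.Agent.Helper8.AutImageOrth

open Cfsg Cfsg.Agent.Helper8.AutImage
open scoped Matrix

variable {F : Type*} [Field F] {ι : Type} [Fintype ι] [DecidableEq ι] (Q : (ι → F) → F)

theorem mem_isometryGroup_iff' (g : GL ι F) :
    g ∈ isometryGroup F Q ↔ ∀ v, Q ((g : Matrix ι ι F) *ᵥ v) = Q v :=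
  ⟨fun h v => h v v, fun h u _ => h u⟩

theorem isometry_le_similarity : isometryGroup F Q ≤ Geo.quadSimilarityGroup (F := F) Q := by
  intro g hg
  refine ⟨1, fun v => ?_⟩
  rw [Units.val_one, one_mul]
  exact (mem_isometryGroup_iff' Q g).mp hg v

theorem conj_mem {g : GL ι F} (hg : g ∈ Geo.quadSimilarityGroup (F := F) Q) {s : GL ι F}
    (hs : s ∈ isometryGroup F Q) : g * s * g⁻¹ ∈ isometryGroup F Q := by
  obtain ⟨c, hc⟩ := hg
  rw [mem_isometryGroup_iff'] at hs ⊢
  intro u
  rw [Units.val_mul, Units.val_mul, ← Matrix.mulVec_mulVec, ← Matrix.mulVec_mulVec, hc, hs]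
  have h2 := hc (((g⁻¹ : GL ι F) : Matrix ι ι F) *ᵥ u)
  rw [Matrix.mulVec_mulVec, ← Units.val_mul, mul_inv_cancel, Units.val_one, Matrix.one_mulVec] at h2
  rw [← h2]

theorem similarity_le_normalizer :
    Geo.quadSimilarityGroup (F := F) Q ≤ Subgroup.normalizer (isometryGroup F Q : Set (GL ι F)) := by
  intro g hg
  rw [Subgroup.mem_normalizer_iff]
  intro s
  constructor
  · exact fun hs => conj_mem Q hg hs
  · intro hs
    have h1 := conj_mem Q (inv_mem hg) hs
    have h2 : g⁻¹ * (g * s * g⁻¹) * g⁻¹⁻¹ = s := by group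
    rw [h2] at h1
    exact h1

/-- conjugation by a similarity, as an automorphism of `Ω`. -/
noncomputable def conjOmega : ↥(Geo.quadSimilarityGroup (F := F) Q) →* MulAut ↥(Omega F Q) :=
  (restrictChar (Omega F Q)).comp
    ((isometryGroup F Q).normalizerMonoidHom.comp (Subgroup.inclusion (similarity_le_normalizer Q)))

theorem conjOmega_val (g : ↥(Geo.quadSimilarityGroup (F := F) Q)) (s : ↥(Omega F Q)) :
    (((conjOmega Q g s : ↥(Omega F Q)) : ↥(isometryGroup F Q)) : GL ι F)
      = (g : GL ι F) * ((s : ↥(isometryGroup F Q)) : GL ι F) * (g : GL ι F)⁻¹ := rfl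

/-- the automorphism of `PΩ` induced by conjugation by a similarity. -/
noncomputable def Phi : ↥(Geo.quadSimilarityGroup (F := F) Q) →* MulAut (POmega F Q) :=
  quotCenter.comp (conjOmega Q)

theorem Phi_mk (g : ↥(Geo.quadSimilarityGroup (F := F) Q)) (s : ↥(Omega F Q)) :
    Phi Q g (QuotientGroup.mk s) = QuotientGroup.mk (conjOmega Q g s) := rfl

theorem map_refl (M : Matrix ι ι F) : M.map (RingEquiv.refl F) = M := by
  ext i j
  rfl

theorem induced_iff {g : GL ι F} (hg : g ∈ Geo.quadSimilarityGroup (F := F) Q)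
    (β : POmega F Q ≃* POmega F Q) :
    IsInducedBySemilinearPOmega Q g (RingEquiv.refl F) β ↔ β = Phi Q ⟨g, hg⟩ := by
  constructor
  · intro h
    ext x
    induction x using QuotientGroup.induction_on with
    | H s =>
      rw [Phi_mk]
      apply h s (conjOmega Q ⟨g, hg⟩ s)
      rw [conjOmega_val, map_refl, Units.val_mul, Units.val_mul]
  · rintro rfl s s' hmat
    rw [Phi_mk]
    congr 1
    apply Subtype.ext
    apply Subtype.ext
    apply Units.ext
    rw [conjOmega_val, hmat, map_refl, Units.val_mul, Units.val_mul]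

theorem autSub_eq_map (S : Subgroup (GL ι F)) (hS : S ≤ Geo.quadSimilarityGroup (F := F) Q) :
    autSubgroupOf (fun β : POmega F Q ≃* POmega F Q =>
        ∃ g : GL ι F, g ∈ S ∧ IsInducedBySemilinearPOmega Q g (RingEquiv.refl F) β)
      = (S.subgroupOf (Geo.quadSimilarityGroup (F := F) Q)).map (Phi Q) := by
  unfold autSubgroupOf
  have hset : {β : MulAut (POmega F Q) |
      ∃ g : GL ι F, g ∈ S ∧ IsInducedBySemilinearPOmega Q g (RingEquiv.refl F) β}
      = (((S.subgroupOf (Geo.quadSimilarityGroup (F := F) Q)).map (Phi Q) :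
        Subgroup (MulAut (POmega F Q))) : Set (MulAut (POmega F Q))) := by
    ext β
    constructor
    · rintro ⟨g, hgS, hind⟩
      rw [induced_iff Q (hS hgS)] at hind
      exact ⟨⟨g, hS hgS⟩, hgS, hind.symm⟩
    · rintro ⟨g, hgS, rfl⟩
      exact ⟨g.1, hgS, (induced_iff Q g.2 _).mpr rfl⟩
  rw [hset, Subgroup.closure_eq]

theorem pgoAut_eq : pgoAut F Q = (Phi Q).range := by
  have h := autSub_eq_map Q (Geo.quadSimilarityGroup (F := F) Q) le_rfl
  rw [Subgroup.subgroupOf_self, ← MonoidHom.range_eq_map] at h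
  exact h

theorem poAut_eq : poAut F Q
    = ((isometryGroup F Q).subgroupOf (Geo.quadSimilarityGroup (F := F) Q)).map (Phi Q) :=
  autSub_eq_map Q (isometryGroup F Q) (isometry_le_similarity Q)

theorem special_le_similarity :
    specialIsometryGL F Q ≤ Geo.quadSimilarityGroup (F := F) Q :=
  le_trans inf_le_left (isometry_le_similarity Q)

theorem psoAut_eq : psoAut F Q
    = ((specialIsometryGL F Q).subgroupOf (Geo.quadSimilarityGroup (F := F) Q)).map (Phi Q) :=
  autSub_eq_map Q (specialIsometryGL F Q) (special_le_similarity Q)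

end Cfsg.Agent.Helper8.AutImageOrth
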