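import Mathlib
import Cfsg.Prelude.Def_Classical
import Cfsg.Agent.Helper8.UJOrth
import Cfsg.Agent.Helper8.AutImageOrth
set_option autoImplicit false

/-! From realisability to the statement about quadratic forms on `Fin n → F`, and the converse
(necessity of the parity condition). -/

namespace Cfsg.Agent.Helper8.UJ

open Matrix Module
open Cfsg.Agent.Helper8.SpS

variable {F : Type*} [Field F]

theorem oReal_fin (ν : Multiset ℕ) (h : OReal F ν) :
    ∃ (n : ℕ) (G A : Matrix (Fin n) (Fin n) F),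
      (G + Gᵀ).det ≠ 0 ∧ IsAltM (Aᵀ * G * A - G) ∧ ∀ j, ((A - 1) ^ j).rank = mprof ν j := by
  obtain ⟨ι, _, _, G, A, hdet, halt, hr⟩ := h
  let e : ι ≃ Fin (Fintype.card ι) := Fintype.equivFin ι
  refine ⟨Fintype.card ι, Matrix.reindex e e G, Matrix.reindex e e A, ?_, ?_, fun j => ?_⟩
  · have h1 : Matrix.reindex e e G + (Matrix.reindex e e G)ᵀ = Matrix.reindex e e (G + Gᵀ) := by
      ext i j
      simp
    rw [h1, Matrix.det_reindex_self]
    exact hdet
  · have h1 : (Matrix.reindex e e A)ᵀ * Matrix.reindex e e G * Matrix.reindex e e A -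
        Matrix.reindex e e G = Matrix.reindex e e (Aᵀ * G * A - G) := by
      simp only [Matrix.reindex_apply, Matrix.transpose_submatrix, Matrix.submatrix_mul_equiv,
        Matrix.submatrix_sub]
      rfl
    rw [h1]
    constructor
    · simp only [Matrix.reindex_apply, Matrix.transpose_submatrix, halt.1, Matrix.submatrix_neg]
      rfl
    · intro i
      simp only [Matrix.reindex_apply, Matrix.submatrix_apply]
      exact halt.2 _
  · rw [rank_reindex_sub_one_pow, hr j]

theorem quad_invariant {n : ℕ} (G A : Matrix (Fin n) (Fin n) F)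
    (halt : IsAltM (Aᵀ * G * A - G)) (v : Fin n → F) :
    (A *ᵥ v) ⬝ᵥ (G *ᵥ (A *ᵥ v)) = v ⬝ᵥ (G *ᵥ v) := by
  have h1 := halt.dot_eq_zero v
  rw [Matrix.sub_mulVec, dotProduct_sub, sub_eq_zero] at h1
  rw [← h1, ← Matrix.mulVec_mulVec, ← Matrix.mulVec_mulVec, Matrix.dotProduct_mulVec v,
    Matrix.vecMul_transpose]

theorem bform_add_flip {n : ℕ} (G : Matrix (Fin n) (Fin n) F) :
    bform G + (bform G).flip = bform (G + Gᵀ) := by
  apply LinearMap.ext₂
  intro u v
  simp only [LinearMap.add_apply, LinearMap.flip_apply, bform, Matrix.toLinearMap₂'_apply']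
  rw [Matrix.add_mulVec, dotProduct_add, Matrix.dotProduct_mulVec u Gᵀ, Matrix.vecMul_transpose,
    dotProduct_comm (G *ᵥ u) v]

theorem isUnit_of_sub_one_nilpotent {ι : Type*} [Fintype ι] [DecidableEq ι] (A : Matrix ι ι F)
    (h : IsNilpotent (A - 1)) : IsUnit A := by
  have := h.isUnit_one_add
  rwa [add_sub_cancel] at this

theorem orth_backward {n t : ℕ} (d : Fin t → ℕ) (hsum : ∑ k, d k = n)
    (h : OReal F (Finset.univ.val.map d)) :
    ∃ Q : QuadraticForm F (Fin n → F), (QuadraticMap.polarBilin Q).Nondegenerate ∧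
      ∃ e : ((k : Fin t) × Fin (d k)) ≃ Fin n, ∃ A : ↥(Cfsg.isometryGroup F ⇑Q),
        IsConj (Matrix.reindex e e (Cfsg.jordanTypeMatrix d F))
          ((A : Matrix.GeneralLinearGroup (Fin n) F) : Matrix (Fin n) (Fin n) F) := by
  obtain ⟨n', G, A, hdet, halt, hr⟩ := oReal_fin _ h
  have hn : n' = n := by
    have h0 := hr 0
    rw [pow_zero, Matrix.rank_one, mprof_map, Fintype.card_fin] at h0
    simp only [Nat.sub_zero] at h0
    omega
  subst hn
  refine ⟨LinearMap.BilinMap.toQuadraticMap (bform G), ?_, ?_⟩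
  · rw [LinearMap.BilinMap.polarBilin_toQuadraticMap, bform_add_flip]
    exact (Matrix.nondegenerate_of_det_ne_zero hdet).toLinearMap₂'
  have hcard : Fintype.card ((k : Fin t) × Fin (d k)) = Fintype.card (Fin n') := by
    rw [Fintype.card_sigma, Fintype.card_fin]
    simp only [Fintype.card_fin]
    exact hsum
  let e := Fintype.equivOfCardEq hcard
  have hnil : IsNilpotent (A - 1) := by
    refine ⟨n', eq_zero_of_rank_eq_zero _ ?_⟩
    rw [hr, mprof_map]
    apply Finset.sum_eq_zero
    intro k _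
    have : d k ≤ ∑ k, d k :=
      Finset.single_le_sum (f := d) (fun i _ => Nat.zero_le _) (Finset.mem_univ k)
    omega
  obtain ⟨g, hg⟩ := isUnit_of_sub_one_nilpotent A hnil
  have hmem : g ∈ Cfsg.isometryGroup F ⇑(LinearMap.BilinMap.toQuadraticMap (bform G)) := by
    rw [AutImageOrth.mem_isometryGroup_iff']
    intro v
    rw [hg, LinearMap.BilinMap.toQuadraticMap_apply, LinearMap.BilinMap.toQuadraticMap_apply, bform,
      Matrix.toLinearMap₂'_apply', Matrix.toLinearMap₂'_apply']
    exact quad_invariant G A halt v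
  refine ⟨e, ⟨g, hmem⟩, ?_⟩
  change IsConj _ (g : Matrix (Fin n') (Fin n') F)
  rw [hg]
  apply isConj_of_rank_pow_eq _ _ (isNilpotent_reindex_jordanType d e)
  intro j
  rw [rank_reindex_jordanType_pow, hr j, mprof_map]

theorem polar_invariant {n : ℕ} (Q : QuadraticForm F (Fin n → F))
    (A : ↥(Cfsg.isometryGroup F ⇑Q)) (a b : Fin n → F) :
    QuadraticMap.polarBilin Q
      (Matrix.toLin' ((A : Matrix.GeneralLinearGroup (Fin n) F) : Matrix (Fin n) (Fin n) F) a)
      (Matrix.toLin' ((A : Matrix.GeneralLinearGroup (Fin n) F) : Matrix (Fin n) (Fin n) F) b) =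
      QuadraticMap.polarBilin Q a b := by
  have hA := (AutImageOrth.mem_isometryGroup_iff' (⇑Q) A.1).mp A.2
  simp only [QuadraticMap.polarBilin_apply_apply, QuadraticMap.polar, Matrix.toLin'_apply]
  rw [← Matrix.mulVec_add, hA, hA, hA]

theorem hN_of_inv {V : Type*} [AddCommGroup V] [Module F V] (B : LinearMap.BilinForm F V)
    (u : Module.End F V) (hu : ∀ a b, B (u a) (u b) = B a b) (a b : V) :
    B ((u - 1) a) b + B a ((u - 1) b) + B ((u - 1) a) ((u - 1) b) = 0 := by
  have h := hu a b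
  simp only [LinearMap.sub_apply, Module.End.one_apply, map_sub, LinearMap.sub_apply]
  rw [h]
  abel

theorem orth_forward_symm {n t : ℕ} (h2 : (2 : F) ≠ 0) (Q : QuadraticForm F (Fin n → F))
    (hnd : (QuadraticMap.polarBilin Q).Nondegenerate) (d : Fin t → ℕ)
    (e : ((k : Fin t) × Fin (d k)) ≃ Fin n) (A : ↥(Cfsg.isometryGroup F ⇑Q))
    (h : IsConj (Matrix.reindex e e (Cfsg.jordanTypeMatrix d F))
      ((A : Matrix.GeneralLinearGroup (Fin n) F) : Matrix (Fin n) (Fin n) F))
    (j : ℕ) (hj : Even j) (hj0 : 0 < j) :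
    Even (Finset.univ.filter (fun k : Fin t => d k = j)).card := by
  have hS : LinearMap.BilinForm.IsSymm (QuadraticMap.polarBilin Q) :=
    ⟨fun x y => QuadraticMap.polar_comm Q x y⟩
  have hu := polar_invariant Q A
  apply even_card_of_isometry (QuadraticMap.polarBilin Q) hnd hS.isRefl _ hu d _ j hj0
  · exact alt_of_symm _ _ hS h2 (hN_of_inv _ _ hu) j hj hj0
  · intro i
    rw [finrank_range_toLin'_sub_one_pow, rank_pow_of_isConj _ _ h, rank_reindex_jordanType_pow]

theorem orth_forward_alt {n t : ℕ} [CharP F 2] (Q : QuadraticForm F (Fin n → F))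
    (hnd : (QuadraticMap.polarBilin Q).Nondegenerate) (d : Fin t → ℕ)
    (e : ((k : Fin t) × Fin (d k)) ≃ Fin n) (A : ↥(Cfsg.isometryGroup F ⇑Q))
    (h : IsConj (Matrix.reindex e e (Cfsg.jordanTypeMatrix d F))
      ((A : Matrix.GeneralLinearGroup (Fin n) F) : Matrix (Fin n) (Fin n) F))
    (j : ℕ) (hj : Odd j) :
    Even (Finset.univ.filter (fun k : Fin t => d k = j)).card := by
  have hA : (QuadraticMap.polarBilin Q).IsAlt := by
    intro x
    rw [QuadraticMap.polarBilin_apply_apply, QuadraticMap.polar_self, two_smul,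
      CharTwo.add_self_eq_zero]
  have hu := polar_invariant Q A
  have hj1 : 1 ≤ j := by
    obtain ⟨i, rfl⟩ := hj
    omega
  apply even_card_of_isometry (QuadraticMap.polarBilin Q) hnd hA.isRefl _ hu d _ j hj1
  · exact alt_of_alt _ _ hA (hN_of_inv _ _ hu) j hj
  · intro i
    rw [finrank_range_toLin'_sub_one_pow, rank_pow_of_isConj _ _ h, rank_reindex_jordanType_pow]

end Cfsg.Agent.Helper8.UJ
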