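import Mathlib
import Cfsg.Agent.Helper8.UJOrth
import Cfsg.Agent.Helper8.UJOrthMain
set_option autoImplicit false

/-! Regular unipotent isometries of a symmetric form in odd dimension and odd characteristic, via
the Cayley transform. -/

namespace Cfsg.Agent.Helper8.UJ

open Matrix Module

variable {F : Type*} [Field F]

section cayley
variable {ι : Type*} [Fintype ι] [DecidableEq ι]

theorem pow_transpose_mul (G T : Matrix ι ι F) (hskew : Tᵀ * G + G * T = 0) (i : ℕ) :
    (Tᵀ) ^ i * G = G * (-T) ^ i := by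
  have h1 : Tᵀ * G = G * (-T) := by
    rw [Matrix.mul_neg]
    exact eq_neg_of_add_eq_zero_left hskew
  induction i with
  | zero => simp
  | succ i ih =>
    rw [pow_succ, Matrix.mul_assoc, h1, ← Matrix.mul_assoc, ih, Matrix.mul_assoc, ← pow_succ]

/-- the Cayley transform of a nilpotent skew-adjoint matrix is an isometry -/
theorem cayley (G T : Matrix ι ι F) (n : ℕ) (hT : T ^ n = 0) (hskew : Tᵀ * G + G * T = 0) :
    ∃ U V : Matrix ι ι F, Uᵀ * G * U = G ∧ U - 1 = T * ((2 : F) • V) ∧ Commute T V ∧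
      V * (1 - T) = 1 ∧ (1 - T) * V = 1 := by
  set V : Matrix ι ι F := ∑ i ∈ Finset.range n, T ^ i with hV
  set V' : Matrix ι ι F := ∑ i ∈ Finset.range n, (-T) ^ i with hV'
  have hnegpow : (-T) ^ n = 0 := by rw [neg_pow, hT, mul_zero]
  have e1 : (1 - T) * V = 1 := by rw [hV, mul_neg_geom_sum, hT, sub_zero]
  have e2 : V * (1 - T) = 1 := by rw [hV, geom_sum_mul_neg, hT, sub_zero]
  have e3 : V' * (1 + T) = 1 := by
    have : (1 + T) = 1 - (-T) := by rw [sub_neg_eq_add]
    rw [this, hV', geom_sum_mul_neg, hnegpow, sub_zero]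
  have cTV : Commute T V := by
    rw [hV]
    exact Commute.sum_right _ _ _ (fun i _ => (Commute.refl T).pow_right i)
  have hVG : Vᵀ * G = G * V' := by
    rw [hV, hV', Matrix.transpose_sum, Finset.sum_mul, Finset.mul_sum]
    apply Finset.sum_congr rfl
    intro i _
    rw [Matrix.transpose_pow]
    exact pow_transpose_mul G T hskew i
  have h1 : (1 + Tᵀ) * G = G * (1 - T) := by
    rw [Matrix.add_mul, Matrix.mul_sub, Matrix.one_mul, Matrix.mul_one]
    have : Tᵀ * G = -(G * T) := eq_neg_of_add_eq_zero_left hskew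
    rw [this]
    abel
  refine ⟨(1 + T) * V, V, ?_, ?_, cTV, e2, e1⟩
  · have hc : (1 + T) * V = V * (1 + T) := by
      rw [Matrix.add_mul, Matrix.mul_add, Matrix.one_mul, Matrix.mul_one, cTV.eq]
    have hc2 : (1 - T) * (1 + T) = (1 + T) * (1 - T) := by noncomm_ring
    calc ((1 + T) * V)ᵀ * G * ((1 + T) * V)
        = Vᵀ * ((1 + Tᵀ) * G) * ((1 + T) * V) := by
          rw [Matrix.transpose_mul, Matrix.transpose_add, Matrix.transpose_one]
          simp only [Matrix.mul_assoc]
      _ = Vᵀ * G * ((1 - T) * (1 + T) * V) := by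
          rw [h1]
          simp only [Matrix.mul_assoc]
      _ = Vᵀ * G * ((1 + T) * ((1 - T) * V)) := by
          rw [hc2]
          simp only [Matrix.mul_assoc]
      _ = G * (V' * (1 + T)) := by
          rw [e1, Matrix.mul_one, hVG, Matrix.mul_assoc]
      _ = G := by rw [e3, Matrix.mul_one]
  · have : (1 + T) * V - 1 = (1 + T) * V - (1 - T) * V := by rw [e1]
    rw [this, ← Matrix.sub_mul, Matrix.mul_smul, ← Matrix.smul_mul]
    congr 1
    rw [two_smul]
    abel

end cayley

theorem Zs_transpose_mul_apply (k : ℕ) (M : Matrix (Fin k) (Fin k) F) (i l : Fin k) :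
    ((Zs (F := F) k)ᵀ * M) i l = if h : (i : ℕ) + 1 < k then M ⟨i + 1, h⟩ l else 0 := by
  rw [Matrix.mul_apply]
  by_cases h : (i : ℕ) + 1 < k
  · rw [dif_pos h, Finset.sum_eq_single (⟨i + 1, h⟩ : Fin k)]
    · simp [Zs]
    · intro b _ hb
      simp only [Zs, Matrix.transpose_apply, Matrix.of_apply]
      rw [if_neg, zero_mul]
      intro h'
      exact hb (Fin.ext h')
    · intro h'
      exact absurd (Finset.mem_univ _) h'
  · rw [dif_neg h]
    apply Finset.sum_eq_zero
    intro b _
    simp only [Zs, Matrix.transpose_apply, Matrix.of_apply]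
    rw [if_neg, zero_mul]
    have := b.2
    omega

theorem mul_Zs_apply (k : ℕ) (M : Matrix (Fin k) (Fin k) F) (i l : Fin k) :
    (M * Zs (F := F) k) i l = if h : (l : ℕ) + 1 < k then M i ⟨l + 1, h⟩ else 0 := by
  rw [Matrix.mul_apply]
  by_cases h : (l : ℕ) + 1 < k
  · rw [dif_pos h, Finset.sum_eq_single (⟨l + 1, h⟩ : Fin k)]
    · simp [Zs]
    · intro b _ hb
      simp only [Zs, Matrix.of_apply]
      rw [if_neg, mul_zero]
      intro h'
      exact hb (Fin.ext h')
    · intro h'
      exact absurd (Finset.mem_univ _) h'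
  · rw [dif_neg h]
    apply Finset.sum_eq_zero
    intro b _
    simp only [Zs, Matrix.of_apply]
    rw [if_neg, mul_zero]
    have := b.2
    omega

/-- the anti-diagonal form with alternating signs -/
def Gs (n : ℕ) : Matrix (Fin n) (Fin n) F :=
  Matrix.of fun i j => if (i : ℕ) + (j : ℕ) + 1 = n then (-1) ^ (i : ℕ) else 0

theorem Gs_skew (n : ℕ) : (Zs (F := F) n)ᵀ * Gs n + Gs n * Zs n = 0 := by
  ext i l
  rw [Matrix.add_apply, Zs_transpose_mul_apply, mul_Zs_apply, Matrix.zero_apply]
  have hi := i.2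
  have hl := l.2
  by_cases h : (i : ℕ) + (l : ℕ) + 2 = n
  · rw [dif_pos (by omega), dif_pos (by omega)]
    simp only [Gs, Matrix.of_apply]
    rw [if_pos (by omega), if_pos (by omega), pow_succ]
    ring
  · have h1 : (if h : (i : ℕ) + 1 < n then Gs (F := F) n ⟨i + 1, h⟩ l else 0) = 0 := by
      split_ifs with h'
      · simp only [Gs, Matrix.of_apply]
        rw [if_neg (by omega)]
      · rfl
    have h2 : (if h : (l : ℕ) + 1 < n then Gs (F := F) n i ⟨l + 1, h⟩ else 0) = 0 := by
      split_ifs with h'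
      · simp only [Gs, Matrix.of_apply]
        rw [if_neg (by omega)]
      · rfl
    rw [h1, h2, add_zero]

theorem Gs_transpose (n : ℕ) (hn : Odd n) : (Gs (F := F) n)ᵀ = Gs n := by
  ext i j
  simp only [Gs, Matrix.transpose_apply, Matrix.of_apply]
  by_cases h : (i : ℕ) + (j : ℕ) + 1 = n
  · rw [if_pos h, if_pos (by omega)]
    obtain ⟨m, hm⟩ := hn
    have hij : (j : ℕ) + (i : ℕ) = 2 * m := by omega
    rcases Nat.even_or_odd (i : ℕ) with hi | hi
    · have hj : Even (j : ℕ) := by
        obtain ⟨a, ha⟩ := hi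
        exact ⟨m - a, by omega⟩
      rw [hi.neg_one_pow, hj.neg_one_pow]
    · have hj : Odd (j : ℕ) := by
        obtain ⟨a, ha⟩ := hi
        exact ⟨m - a - 1, by omega⟩
      rw [hi.neg_one_pow, hj.neg_one_pow]
  · rw [if_neg h, if_neg (by omega)]

theorem Gs_mul_Gs (n : ℕ) (hn : Odd n) : Gs (F := F) n * Gs n = 1 := by
  ext i l
  rw [Matrix.mul_apply, Matrix.one_apply, Finset.sum_eq_single (Fin.rev i)]
  · simp only [Gs, Matrix.of_apply, Fin.val_rev]
    have hi := i.2
    have hl := l.2
    rw [if_pos (by omega)]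
    by_cases h : i = l
    · subst h
      rw [if_pos rfl, if_pos (by omega), ← pow_add]
      obtain ⟨m, hm⟩ := hn
      have : (i : ℕ) + (n - ((i : ℕ) + 1)) = 2 * m := by omega
      rw [this, pow_mul]
      simp
    · rw [if_neg h, if_neg, mul_zero]
      intro h'
      apply h
      apply Fin.ext
      omega
  · intro b _ hb
    simp only [Gs, Matrix.of_apply]
    rw [if_neg, zero_mul]
    intro h
    apply hb
    apply Fin.ext
    rw [Fin.val_rev]
    omega
  · intro h
    exact absurd (Finset.mem_univ _) h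

/-- a single odd block is realised by an isometry of a symmetric form in odd characteristic -/
theorem oReal_single_odd (h2 : (2 : F) ≠ 0) (n : ℕ) (hn : Odd n) : OReal F {n} := by
  obtain ⟨U, V, hU, hU1, cTV, e2, e1⟩ := cayley (Gs (F := F) n) (Zs n) n (Zs_pow_self n) (Gs_skew n)
  refine ⟨Fin n, inferInstance, inferInstance, Gs n, U, ?_, ?_, fun j => ?_⟩
  · rw [Gs_transpose n hn]
    have h3 : Gs (F := F) n + Gs n = (2 : F) • Gs n := by rw [two_smul]
    rw [h3, Matrix.det_smul]
    apply mul_ne_zero (pow_ne_zero _ h2)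
    intro h0
    have := congrArg Matrix.det (Gs_mul_Gs (F := F) n hn)
    rw [Matrix.det_mul, h0, zero_mul, Matrix.det_one] at this
    exact zero_ne_one this
  · rw [hU, sub_self]
    exact isAltM_zero
  · have hu : IsUnit ((2 : F) • V) := by
      refine ⟨⟨(2 : F) • V, (2 : F)⁻¹ • (1 - Zs n), ?_, ?_⟩, rfl⟩
      · rw [Matrix.smul_mul, Matrix.mul_smul, e2, smul_smul, mul_inv_cancel₀ h2, one_smul]
      · rw [Matrix.smul_mul, Matrix.mul_smul, e1, smul_smul, inv_mul_cancel₀ h2, one_smul]
    rw [hU1, rank_pow_mul_unit _ _ (cTV.smul_right _) hu, rank_Zs_pow, mprof_singleton]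

theorem oReal_of_even_odd (h2 : (2 : F) ≠ 0) {t : ℕ} (d : Fin t → ℕ) (hd : ∀ k, 1 ≤ d k)
    (hev : ∀ j : ℕ, Even j → 0 < j → Even (Finset.univ.filter (fun k : Fin t => d k = j)).card) :
    OReal F (Finset.univ.val.map d) := by
  have hpos : ∀ a ∈ Finset.univ.val.map d, 1 ≤ a := by
    intro a ha
    rw [Multiset.mem_map] at ha
    obtain ⟨k, _, rfl⟩ := ha
    exact hd k
  apply multiset_induction (OReal F) (fun a => Odd a) oReal_zero oReal_add
  · intro a _ hgood
    exact oReal_single_odd h2 a hgood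
  · intro a _
    exact oReal_pair a
  · exact hpos
  · intro a ha
    rw [count_map_univ]
    rcases Nat.eq_zero_or_pos a with rfl | ha0
    · have : Finset.univ.filter (fun k : Fin t => d k = 0) = ∅ := by
        apply Finset.filter_eq_empty_iff.mpr
        intro k _ hk
        have := hd k
        omega
      rw [this]
      simp
    · exact hev a (Nat.not_odd_iff_even.mp ha) ha0

end Cfsg.Agent.Helper8.UJ
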