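import Mathlib
import Cfsg.Agent.Helper8.HermUniD
import Cfsg.Agent.Helper8.UJOrthOdd
set_option autoImplicit false
set_option linter.unusedSectionVars false

/-! A regular unipotent unitary matrix of every size (helper8). -/

namespace Cfsg.Agent.Helper8.HermUni

open Matrix Module Cfsg Cfsg.Agent.Helper7.Herm Cfsg.Agent.Helper8.GUOrder Cfsg.Agent.Helper8.AutSU
  Cfsg.Agent.Helper7.SUNd Cfsg.Agent.Helper8.SURoot Cfsg.Agent.Helper7.Ex27
  Cfsg.Agent.Helper8.HermTwo Cfsg.Agent.Helper7.SpUn Cfsg.Agent.Helper8.UJ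
  Cfsg.Agent.Helper7.POrd Cfsg.Agent.Helper8.SpU Cfsg.Agent.Helper7.Pol

variable {F : Type*} [Field F] [Fintype F] {q : ℕ} [hF : Fact (Fintype.card F = q ^ 2)]

section gen
variable {ι : Type*} [Fintype ι] [DecidableEq ι]

/-- the entrywise `q`-th power is the entrywise Frobenius homomorphism -/
theorem map_frob (M : Matrix ι ι F) : M.map (· ^ q) = (frobq F q).mapMatrix M := rfl

/-- conjugating an isometry of the Hermitian matrix `G = Pᵀ P^σ` by `P` gives a unitary
matrix -/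
theorem unitary_of_factor (P Pi U G : Matrix ι ι F) (hPG : Pᵀ * P.map (· ^ q) = G)
    (hP1 : P * Pi = 1) (hU : Uᵀ * G * U.map (· ^ q) = G) :
    (P * U * Pi)ᵀ * (P * U * Pi).map (· ^ q) = 1 := by
  rw [map_frob] at hPG hU ⊢
  rw [map_mul, map_mul, Matrix.transpose_mul, Matrix.transpose_mul]
  have h1 : Piᵀ * Pᵀ = 1 := by rw [← Matrix.transpose_mul, hP1, Matrix.transpose_one]
  have h2 : (frobq F q).mapMatrix P * (frobq F q).mapMatrix Pi = 1 := by
    rw [← map_mul, hP1, map_one]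
  calc Piᵀ * (Uᵀ * Pᵀ) * ((frobq F q).mapMatrix P * (frobq F q).mapMatrix U *
        (frobq F q).mapMatrix Pi)
      = Piᵀ * (Uᵀ * (Pᵀ * (frobq F q).mapMatrix P) * (frobq F q).mapMatrix U) *
          (frobq F q).mapMatrix Pi := by simp only [Matrix.mul_assoc]
    _ = Piᵀ * (Pᵀ * (frobq F q).mapMatrix P) * (frobq F q).mapMatrix Pi := by rw [hPG, hU]
    _ = (Piᵀ * Pᵀ) * ((frobq F q).mapMatrix P * (frobq F q).mapMatrix Pi) := by
        simp only [Matrix.mul_assoc]
    _ = 1 := by rw [h1, h2, Matrix.one_mul]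

end gen

/-- from the matrix identity to the invariance of the form -/
theorem unitary_of_matrix {n : ℕ} (A : Matrix (Fin n) (Fin n) F)
    (hA : Aᵀ * A.map (· ^ q) = 1) (u v : Fin n → F) :
    hermForm n F q (A *ᵥ u) (A *ᵥ v) = hermForm n F q u v := by
  rw [hermForm_mulVec_mulVec hF.out, hA, Matrix.one_mulVec, hermForm_eq_dot]

theorem Gs_mul_Gs_gen (n : ℕ) : Gs (F := F) n * Gs n = ((-1 : F) ^ (n + 1)) • 1 := by
  ext i l
  rw [Matrix.mul_apply, Matrix.smul_apply, Matrix.one_apply, Finset.sum_eq_single (Fin.rev i)]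
  · simp only [Gs, Matrix.of_apply, Fin.val_rev]
    have hi := i.2
    have hl := l.2
    rw [if_pos (by omega)]
    by_cases h : i = l
    · subst h
      rw [if_pos rfl, if_pos (by omega), ← pow_add, smul_eq_mul, mul_one]
      have : n + 1 = (i : ℕ) + (n - ((i : ℕ) + 1)) + 2 := by omega
      rw [this, pow_add _ _ 2, neg_one_sq, mul_one]
    · rw [if_neg h, if_neg, mul_zero, smul_zero]
      intro h'
      apply h
      apply Fin.ext
      omega
  · intro b _ hb
    simp only [Gs, Matrix.of_apply]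
    rw [if_neg, zero_mul]
    intro h
    apply hb
    apply Fin.ext
    rw [Fin.val_rev]
    omega
  · intro h
    exact absurd (Finset.mem_univ _) h

/-- a scalar which is fixed or negated by the involution according to the parity of `k` -/
theorem exists_eps (k : ℕ) : ∃ ε : F, ε ≠ 0 ∧ ε ^ q = (-1) ^ (k + 1) * ε := by
  rcases Nat.even_or_odd k with hk | hk
  · obtain ⟨a, ha⟩ := exists_not_fixed hF.out (K := F)
    refine ⟨a - a ^ q, fun h => ha (sub_eq_zero.mp h).symm, ?_⟩
    rw [b_sub, bb, hk.add_one.neg_one_pow]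
    ring
  · refine ⟨1, one_ne_zero, ?_⟩
    rw [one_pow, hk.add_one.neg_one_pow, one_mul]

/-- **a regular unipotent unitary matrix.** -/
theorem exists_block (h2 : (2 : F) ≠ 0) (k : ℕ) :
    ∃ A : Matrix (Fin k) (Fin k) F, Aᵀ * A.map (· ^ q) = 1 ∧ ∀ j, ((A - 1) ^ j).rank = k - j := by
  classical
  have hq0 : q ≠ 0 := by
    have := two_le_q hF.out
    omega
  obtain ⟨ε, hε0, hεq⟩ := exists_eps (F := F) (q := q) k
  obtain ⟨G, hGdef⟩ : ∃ G : Matrix (Fin k) (Fin k) F, G = ε • Gs k := ⟨_, rfl⟩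
  have hG : ∀ i j, G j i = (G i j) ^ q := by
    intro i j
    rw [hGdef, Matrix.smul_apply, Matrix.smul_apply, smul_eq_mul, smul_eq_mul]
    simp only [Gs, Matrix.of_apply]
    by_cases h : (i : ℕ) + (j : ℕ) + 1 = k
    · rw [if_pos h, if_pos (by omega), mul_pow, hεq, ← pow_mul, mul_comm (i : ℕ) q, pow_mul,
        neg_one_pow_q hF.out]
      have h1 : (-1 : F) ^ (j : ℕ) = (-1) ^ (k + 1) * (-1) ^ (i : ℕ) := by
        rw [← pow_add]
        have : k + 1 + (i : ℕ) = (j : ℕ) + 2 * ((i : ℕ) + 1) := by omega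
        rw [this, pow_add, pow_mul]
        simp
      rw [h1]
      ring
    · rw [if_neg h, if_neg (by omega), mul_zero, zero_pow hq0]
  have hdet : G.det ≠ 0 := by
    apply Matrix.det_ne_zero_of_right_inverse (B := (ε⁻¹ * (-1) ^ (k + 1)) • Gs k)
    rw [hGdef, Matrix.smul_mul, Matrix.mul_smul, Gs_mul_Gs_gen, smul_smul, smul_smul]
    have : ε * (ε⁻¹ * (-1) ^ (k + 1)) * (-1) ^ (k + 1) = 1 := by
      rw [mul_assoc, mul_assoc, ← pow_add, ← two_mul, pow_mul]
      simp [hε0]
    rw [this, one_smul]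
  have hskew : (Zs (F := F) k)ᵀ * G + G * Zs k = 0 := by
    rw [hGdef, Matrix.mul_smul, Matrix.smul_mul, ← smul_add, Gs_skew, smul_zero]
  obtain ⟨U, V, hU, hU1, cTV, e2, e1⟩ := cayley G (Zs k) k (Zs_pow_self k) hskew
  -- invariance under the Frobenius
  have hσT : (frobq F q).mapMatrix (Zs (F := F) k) = Zs k := by
    ext i j
    rw [RingHom.mapMatrix_apply, Matrix.map_apply, frobq_apply]
    simp only [Zs, Matrix.of_apply]
    split_ifs
    · exact one_pow q
    · exact zero_pow hq0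
  have hσV : (frobq F q).mapMatrix V = V := by
    have h1 : (1 - Zs k) * (frobq F q).mapMatrix V = 1 := by
      have := congrArg (frobq F q).mapMatrix e1
      rw [map_mul, map_sub, map_one, hσT] at this
      exact this
    calc (frobq F q).mapMatrix V = (V * (1 - Zs k)) * (frobq F q).mapMatrix V := by
          rw [e2, Matrix.one_mul]
      _ = V := by rw [Matrix.mul_assoc, h1, Matrix.mul_one]
  have hUeq : U = 1 + Zs k * (V + V) := by
    rw [← two_smul F V, ← hU1]
    abel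
  have hσU : (frobq F q).mapMatrix U = U := by
    rw [hUeq, map_add, map_one, map_mul, map_add, hσT, hσV]
  have hU' : Uᵀ * G * U.map (· ^ q) = G := by
    rw [map_frob, hσU]
    exact hU
  obtain ⟨P, hP⟩ := exists_herm_factor (q := q) h2 G hG hdet
  have hdetP : P.det ≠ 0 := by
    intro h0
    apply hdet
    rw [← hP, Matrix.det_mul, Matrix.det_transpose, h0, zero_mul]
  have hPu : IsUnit P.det := isUnit_iff_ne_zero.mpr hdetP
  have hPQ : P * P⁻¹ = 1 := Matrix.mul_nonsing_inv P hPu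
  have hQP : P⁻¹ * P = 1 := Matrix.nonsing_inv_mul P hPu
  refine ⟨P * U * P⁻¹, unitary_of_factor P P⁻¹ U G hP hPQ hU', fun j => ?_⟩
  have hA1 : P * U * P⁻¹ - 1 = P * (U - 1) * P⁻¹ := by
    rw [Matrix.mul_sub, Matrix.sub_mul, Matrix.mul_one, hPQ]
  have hu : IsUnit ((2 : F) • V) := by
    refine ⟨⟨(2 : F) • V, (2 : F)⁻¹ • (1 - Zs k), ?_, ?_⟩, rfl⟩
    · rw [Matrix.smul_mul, Matrix.mul_smul, e2, smul_smul, mul_inv_cancel₀ h2, one_smul]
    · rw [Matrix.smul_mul, Matrix.mul_smul, e1, smul_smul, inv_mul_cancel₀ h2, one_smul]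
  rw [hA1, rank_pow_conj P P⁻¹ (U - 1) hPQ hQP, hU1, rank_pow_mul_unit _ _ (cTV.smul_right _) hu,
    rank_Zs_pow]

end Cfsg.Agent.Helper8.HermUni
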