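import Mathlib
import Cfsg.Agent.Helper8.HermUniE
import Cfsg.Agent.Helper7.SUNdB
set_option autoImplicit false
set_option linter.unusedSectionVars false

/-! Unipotent unitary matrices of every type, and the elements of order `p` modulo scalars of
`SU_n(q)` in characteristic `p`: invariant non-degenerate subspaces (helper8). -/

namespace Cfsg.Agent.Helper8.HermUni

open Matrix Module Cfsg Cfsg.Agent.Helper7.Herm Cfsg.Agent.Helper8.GUOrder Cfsg.Agent.Helper8.AutSU
  Cfsg.Agent.Helper7.SUNd Cfsg.Agent.Helper8.SURoot Cfsg.Agent.Helper7.Ex27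
  Cfsg.Agent.Helper8.HermTwo Cfsg.Agent.Helper7.SpUn Cfsg.Agent.Helper8.UJ
  Cfsg.Agent.Helper7.POrd Cfsg.Agent.Helper8.SpU Cfsg.Agent.Helper7.Pol

variable {F : Type*} [Field F] [Fintype F] {q : ℕ} [hF : Fact (Fintype.card F = q ^ 2)]

/-- realisability of a rank profile by a unipotent unitary matrix -/
def UReal (F : Type*) [Field F] (q : ℕ) (ν : Multiset ℕ) : Prop :=
  ∃ (n : ℕ) (A : Matrix (Fin n) (Fin n) F),
    (∀ u v, hermForm n F q (A *ᵥ u) (A *ᵥ v) = hermForm n F q u v) ∧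
    ∀ j, ((A - 1) ^ j).rank = mprof ν j

theorem uReal_zero : UReal F q 0 := by
  refine ⟨0, 1, fun u v => by rw [Matrix.one_mulVec, Matrix.one_mulVec], fun j => ?_⟩
  rw [mprof_zero]
  have := Matrix.rank_le_card_width (((1 : Matrix (Fin 0) (Fin 0) F) - 1) ^ j)
  simp only [Fintype.card_fin] at this
  omega

theorem uReal_add (ν₁ ν₂ : Multiset ℕ) (h₁ : UReal F q ν₁) (h₂ : UReal F q ν₂) :
    UReal F q (ν₁ + ν₂) := by
  obtain ⟨a, A, hAU, hA⟩ := h₁
  obtain ⟨b, B, hBU, hB⟩ := h₂
  refine ⟨a + b, bdM A B, fun u v => ?_, fun j => ?_⟩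
  · rw [← apv_p u, ← apv_p v, bdM_mulVec, bdM_mulVec, herm_apv, herm_apv, hAU, hBU]
  · have h : bdM A B = Matrix.reindex finSumFinEquiv finSumFinEquiv (fromBlocks A 0 0 B) := rfl
    rw [h, rank_reindex_sub_one_pow, fromBlocks_diag_sub_one, rank_pow_fromBlocks, mprof_add,
      hA, hB]

theorem uReal_single (h2 : (2 : F) ≠ 0) (k : ℕ) : UReal F q {k} := by
  obtain ⟨A, hA, hr⟩ := exists_block (q := q) h2 k
  exact ⟨k, A, unitary_of_matrix A hA, fun j => by rw [hr, mprof_singleton]⟩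

/-- **every type is realised by a unipotent unitary matrix.** -/
theorem uReal_of (h2 : (2 : F) ≠ 0) (μ : Multiset ℕ) : UReal F q μ := by
  induction μ using Multiset.induction_on with
  | empty => exact uReal_zero
  | cons a μ ih =>
    rw [← Multiset.singleton_add]
    exact uReal_add _ _ (uReal_single h2 a) ih

variable {p : ℕ} [Fact p.Prime] [CharP F p]

/-- **`r = p` odd, necessity.** -/
theorem cond_of_forall_p (h2 : (2 : F) ≠ 0) {n m : ℕ} (hmn : m ≤ n)
    (hall : ∀ x : Matrix.SpecialLinearGroup (Fin n) F, x ∈ SU n F q →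
      (∃ z : F, ((x ^ p : Matrix.SpecialLinearGroup (Fin n) F) : Matrix (Fin n) (Fin n) F) =
        z • (1 : Matrix (Fin n) (Fin n) F)) →
      (∀ z : F, (x : Matrix (Fin n) (Fin n) F) ≠ z • (1 : Matrix (Fin n) (Fin n) F)) →
      ∃ W : Submodule F (Fin n → F), finrank F ↥W = m ∧
        (∀ u ∈ W, u ≠ 0 → ∃ v ∈ W, hermForm n F q u v ≠ 0) ∧
        W.map (Matrix.toLin' (x : Matrix (Fin n) (Fin n) F)) ≤ W)
    (μ : Multiset ℕ) (hμ : ∀ a ∈ μ, 0 < a ∧ a ≤ p) (hμsum : μ.sum = n) :
    ∃ ν : Multiset ℕ, ν ≤ μ ∧ ν.sum = m := by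
  classical
  have hp : p.Prime := Fact.out
  have hμpos : ∀ a ∈ μ, 1 ≤ a := fun a ha => (hμ a ha).1
  by_cases hones : ∀ a ∈ μ, a = 1
  · have hμeq : μ = Multiset.replicate n 1 := by
      have h1 := Multiset.eq_replicate_card.mpr hones
      have h3 : Multiset.card μ = n := by
        rw [← hμsum]
        conv_rhs => rw [h1]
        rw [Multiset.sum_replicate, smul_eq_mul, mul_one]
      rw [h3] at h1
      exact h1
    refine ⟨Multiset.replicate m 1, ?_, ?_⟩
    · rw [hμeq, Multiset.replicate_le_replicate]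
      exact hmn
    · rw [Multiset.sum_replicate, smul_eq_mul, mul_one]
  push Not at hones
  obtain ⟨a₀, ha₀, ha₀1⟩ := hones
  have ha₀2 : 2 ≤ a₀ := by have := hμpos a₀ ha₀; omega
  obtain ⟨n', A, hAU, hA⟩ := uReal_of (F := F) (q := q) h2 μ
  have hn' : n' = n := by
    have := hA 0
    rw [pow_zero, Matrix.rank_one, mprof_zero_eq, hμsum, Fintype.card_fin] at this
    exact this
  subst hn'
  have hNp0 : (A - 1) ^ p = 0 := by
    apply eq_zero_of_rank_eq_zero
    rw [hA, mprof_eq_zero_iff]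
    exact fun a ha => (hμ a ha).2
  have hApm : A ^ p = 1 := by
    have h5 := sub_one_pow_char p A
    rw [hNp0] at h5
    exact (sub_eq_zero.mp h5.symm)
  have hdet : A.det = 1 := by
    have hinj : Function.Injective (frobenius F p) := frobenius_inj F p
    apply hinj
    rw [frobenius_def, frobenius_def, ← Matrix.det_pow, hApm, Matrix.det_one, one_pow]
  have h1ne : mprof μ 1 ≠ 0 := by
    intro h
    have := (mprof_eq_zero_iff μ 1).mp h a₀ ha₀
    omega
  have hns : ∀ z : F, A ≠ z • (1 : Matrix (Fin n') (Fin n') F) := by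
    intro z hz
    have h3 : ((z - 1) ^ p) • (1 : Matrix (Fin n') (Fin n') F) = 0 := by
      have h4 : A - 1 = (z - 1) • (1 : Matrix (Fin n') (Fin n') F) := by
        rw [hz, sub_smul, one_smul]
      have h5 := hNp0
      rw [h4, _root_.smul_pow, one_pow] at h5
      exact h5
    have hd0 : 1 ≤ n' := by
      by_contra hcon
      have : n' = 0 := by omega
      rw [this] at hμsum
      have := Multiset.le_sum_of_mem ha₀
      omega
    have h6 := congrFun (congrFun h3 ⟨0, hd0⟩) ⟨0, hd0⟩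
    rw [Matrix.smul_apply, Matrix.one_apply_eq, smul_eq_mul, mul_one, Matrix.zero_apply] at h6
    have hz1 : z = 1 := by
      have := pow_eq_zero_iff (hp.ne_zero) |>.mp h6
      exact sub_eq_zero.mp this
    apply h1ne
    rw [← hA 1, pow_one, hz, hz1, one_smul, sub_self, Matrix.rank_zero]
  obtain ⟨x, hx⟩ : ∃ x : Matrix.SpecialLinearGroup (Fin n') F,
      (x : Matrix (Fin n') (Fin n') F) = A := ⟨⟨A, hdet⟩, rfl⟩
  obtain ⟨W, hWd, hWnd, hWinv'⟩ := hall x (fun a b => by
      change hermForm n' F q ((x : Matrix (Fin n') (Fin n') F) *ᵥ a)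
        ((x : Matrix (Fin n') (Fin n') F) *ᵥ b) = hermForm n' F q a b
      rw [hx]
      exact hAU a b)
    ⟨1, by rw [Matrix.SpecialLinearGroup.coe_pow, one_smul, hx, hApm]⟩ (by rw [hx]; exact hns)
  rw [hx] at hWinv'
  obtain ⟨T, hTdef⟩ : ∃ T : Module.End F (Fin n' → F), T = Matrix.toLin' A := ⟨_, rfl⟩
  have hWT : W ∈ Module.End.invtSubmodule T := by
    rw [Module.End.mem_invtSubmodule, ← Submodule.map_le_iff_le_comap, hTdef]
    exact hWinv'
  have hisoT : ∀ u v, hermForm n' F q (T u) (T v) = hermForm n' F q u v := by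
    intro u v
    rw [hTdef, Matrix.toLin'_apply, Matrix.toLin'_apply]
    exact hAU u v
  have hT : T ^ p = 1 := by
    rw [hTdef, ← Matrix.toLin'_pow, hApm, Matrix.toLin'_one]
    rfl
  have hNp : (T - 1) ^ p = 0 := by
    rw [hTdef]
    exact nilpotent_toLin'_sub_one hApm
  have hnil : IsNilpotent (T - 1) := ⟨p, hNp⟩
  have htopprof : ∀ j, rprof (T - 1) ⊤ j = mprof μ j := by
    intro j
    unfold rprof
    rw [Submodule.map_top, hTdef, finrank_range_toLin'_sub_one_pow, hA]
  have hW'T : perpIn q ⊤ W ∈ Module.End.invtSubmodule T :=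
    perpIn_invt_end hisoT hp.pos hT (Module.End.invtSubmodule.top_mem T) hWT
  obtain ⟨ν, hνpos, hν⟩ := exists_type hnil (invt_sub_one hWT)
  obtain ⟨ν', hν'pos, hν'⟩ := exists_type hnil (invt_sub_one hW'T)
  have hμeq : μ = ν + ν' := by
    apply eq_of_mprof_eq _ _ hμpos
    · intro a ha
      rcases Multiset.mem_add.mp ha with h | h
      · exact hνpos a h
      · exact hν'pos a h
    · intro j
      rw [← htopprof, ← sup_perpIn (q := q) hWnd le_top,
        rprof_sup (invt_sub_one hWT) (invt_sub_one hW'T) (disjoint_perpIn hWnd), hν, hν', mprof_add]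
  refine ⟨ν, ?_, ?_⟩
  · rw [hμeq]
    exact Multiset.le_add_right ν ν'
  · rw [← mprof_zero_eq, ← hν, rprof_zero, hWd]

end Cfsg.Agent.Helper8.HermUni
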