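import Mathlib
import Cfsg.Agent.Helper8.HermUniF
set_option autoImplicit false
set_option linter.unusedSectionVars false

/-! Elements of order `p` modulo scalars of `SU_n(q)` in odd characteristic `p` and their
invariant non-degenerate subspaces: the criterion (helper8). -/

namespace Cfsg.Agent.Helper8.HermUni

open Matrix Module Cfsg

/-- **`r = p` odd**: every non-scalar element of `SU_n(q)` whose `p`-th power is scalar has an
invariant non-degenerate `m`-space iff every multiset of parts in `[1, p]` of sum `n` has a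
sub-multiset of sum `m`. -/
theorem nd_p {F : Type*} [Field F] [Fintype F] {p : ℕ} [Fact p.Prime] [CharP F p] {q : ℕ}
    (hq : Fintype.card F = q ^ 2) (hp2 : 2 < p) (n m : ℕ) (hn : 3 ≤ n) (hm : 1 ≤ m)
    (hmn : 2 * m < n) :
    (∀ x : Matrix.SpecialLinearGroup (Fin n) F, x ∈ Cfsg.SU n F q →
      (∃ z : F, ((x ^ p : Matrix.SpecialLinearGroup (Fin n) F) : Matrix (Fin n) (Fin n) F) =
        z • (1 : Matrix (Fin n) (Fin n) F)) →
      (∀ z : F, (x : Matrix (Fin n) (Fin n) F) ≠ z • (1 : Matrix (Fin n) (Fin n) F)) →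
      ∃ W : Submodule F (Fin n → F), Module.finrank F ↥W = m ∧
        (∀ u ∈ W, u ≠ 0 → ∃ v ∈ W, Cfsg.hermForm n F q u v ≠ 0) ∧
        W.map (Matrix.toLin' (x : Matrix (Fin n) (Fin n) F)) ≤ W) ↔
    (∀ μ : Multiset ℕ, (∀ a ∈ μ, 0 < a ∧ a ≤ p) → μ.sum = n →
      ∃ ν : Multiset ℕ, ν ≤ μ ∧ ν.sum = m) := by
  have : Fact (Fintype.card F = q ^ 2) := ⟨hq⟩
  have hp : p.Prime := Fact.out
  have h2 : (2 : F) ≠ 0 := by
    intro h
    have h1 : ((2 : ℕ) : F) = 0 := by rw [Nat.cast_ofNat]; exact h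
    rw [CharP.cast_eq_zero_iff F p 2] at h1
    have := (Nat.prime_dvd_prime_iff_eq hp Nat.prime_two).mp h1
    omega
  constructor
  · intro hall μ hμ hμsum
    exact cond_of_forall_p h2 (by omega) hall μ hμ hμsum
  · intro hcond x hx hz _
    obtain ⟨z, hz⟩ := hz
    rw [Matrix.SpecialLinearGroup.coe_pow] at hz
    exact exists_nd_invt_p (by omega) hcond (x : Matrix (Fin n) (Fin n) F) (fun u v => hx u v) hz

end Cfsg.Agent.Helper8.HermUni
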