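import Mathlib
import Cfsg.Agent.Helper8.HermUniG
set_option autoImplicit false
set_option linter.unusedSectionVars false

/-! A regular unipotent isometry of the unitary space fixes exactly one totally isotropic
`m`-space; hence the number of totally isotropic `m`-spaces is `1` modulo `p` (helper8). -/

namespace Cfsg.Agent.Helper8.HermReg

open Matrix Module Cfsg Cfsg.Agent.Helper7.Herm Cfsg.Agent.Helper8.GUOrder Cfsg.Agent.Helper8.AutSU
  Cfsg.Agent.Helper7.SUNd Cfsg.Agent.Helper8.SURoot Cfsg.Agent.Helper7.Ex27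
  Cfsg.Agent.Helper8.HermTwo Cfsg.Agent.Helper7.SpUn Cfsg.Agent.Helper8.UJ
  Cfsg.Agent.Helper7.POrd Cfsg.Agent.Helper8.SpU Cfsg.Agent.Helper8.HermUni

variable {F : Type*} [Field F] [Fintype F] {q N : ℕ} [hF : Fact (Fintype.card F = q ^ 2)]
  {T : Module.End F (Fin N → F)}

/-- the totally isotropic `m`-spaces -/
abbrev TIm (F : Type*) [Field F] (q N m : ℕ) : Type _ :=
  {W : Submodule F (Fin N → F) // finrank F ↥W = m ∧
    (∀ u ∈ W, ∀ v ∈ W, hermForm N F q u v = 0)}

/-- the action of an injective isometry on the totally isotropic `m`-spaces -/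
noncomputable def act (T : Module.End F (Fin N → F)) (hinj : Function.Injective T)
    (hiso : ∀ u v, hermForm N F q (T u) (T v) = hermForm N F q u v) (m : ℕ) :
    Function.End (TIm F q N m) := fun W =>
  ⟨W.1.map T, by
    rw [← (Submodule.equivMapOfInjective T hinj W.1).finrank_eq]
    exact W.2.1, by
    rintro _ ⟨u, hu, rfl⟩ _ ⟨v, hv, rfl⟩
    rw [hiso]
    exact W.2.2 u hu v hv⟩

theorem act_pow_val (hinj : Function.Injective T)
    (hiso : ∀ u v, hermForm N F q (T u) (T v) = hermForm N F q u v) (m k : ℕ)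
    (W : TIm F q N m) : (((act T hinj hiso m) ^ k) W).1 = W.1.map (T ^ k) := by
  induction k with
  | zero =>
    rw [pow_zero, pow_zero, Module.End.one_eq_id, Submodule.map_id]
    rfl
  | succ k ih =>
    rw [pow_succ']
    change (((act T hinj hiso m) ^ k) W).1.map T = _
    rw [ih, ← Submodule.map_comp, pow_succ']
    rfl

/-- `T - 1` is regular nilpotent: the ranks of its powers drop by one -/
def IsReg (T : Module.End F (Fin N → F)) : Prop :=
  ∀ j, finrank F ↥(LinearMap.range ((T - 1) ^ j)) = N - j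

theorem IsReg.pow_eq_zero (hreg : IsReg T) : (T - 1) ^ N = 0 := by
  have h := hreg N
  rw [Nat.sub_self, Submodule.finrank_eq_zero, LinearMap.range_eq_bot] at h
  exact h

theorem IsReg.finrank_ker (hreg : IsReg T) {j : ℕ} (hj : j ≤ N) :
    finrank F ↥(LinearMap.ker ((T - 1) ^ j)) = j := by
  have h := LinearMap.finrank_range_add_finrank_ker ((T - 1) ^ j)
  rw [hreg j, Module.finrank_fintype_fun_eq_card, Fintype.card_fin] at h
  omega

/-- an invariant `m`-space of a regular unipotent map is the kernel of `(T - 1)^m` -/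
theorem IsReg.eq_ker (hreg : IsReg T) {m : ℕ} (hm : m ≤ N) {W : Submodule F (Fin N → F)}
    (hW : W ∈ Module.End.invtSubmodule T) (hWm : finrank F ↥W = m) :
    W = LinearMap.ker ((T - 1) ^ m) := by
  have hnil : IsNilpotent (T - 1) := ⟨N, hreg.pow_eq_zero⟩
  obtain ⟨κ, hκpos, hκ⟩ := exists_type hnil (invt_sub_one hW)
  have hκsum : κ.sum = m := by rw [← mprof_zero_eq, ← hκ, rprof_zero, hWm]
  have h0 : rprof (T - 1) W m = 0 := by
    rw [hκ, mprof_eq_zero_iff]
    intro a ha
    rw [← hκsum]
    exact Multiset.le_sum_of_mem ha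
  have hle : W ≤ LinearMap.ker ((T - 1) ^ m) := fun u hu =>
    LinearMap.mem_ker.mpr (map_eq_bot_of_rprof h0 u hu)
  exact Submodule.eq_of_le_of_finrank_eq hle (by rw [hWm, hreg.finrank_ker hm])

theorem ker_invt (m : ℕ) : LinearMap.ker ((T - 1) ^ m) ∈ Module.End.invtSubmodule T := by
  rw [Module.End.mem_invtSubmodule]
  intro u hu
  rw [Submodule.mem_comap, LinearMap.mem_ker, ← comm_T_N, LinearMap.mem_ker.mp hu, map_zero]

/-- the kernel of `(T - 1)^m` is totally isotropic for `2 m ≤ N` -/
theorem IsReg.ker_ti (hreg : IsReg T)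
    (hiso : ∀ u v, hermForm N F q (T u) (T v) = hermForm N F q u v) {m : ℕ} (hmn : 2 * m ≤ N)
    (u : Fin N → F) (hu : u ∈ LinearMap.ker ((T - 1) ^ m)) (v : Fin N → F)
    (hv : v ∈ LinearMap.ker ((T - 1) ^ m)) : hermForm N F q u v = 0 := by
  have hle : LinearMap.range ((T - 1) ^ (N - m)) ≤ LinearMap.ker ((T - 1) ^ m) := by
    rintro _ ⟨x, rfl⟩
    rw [LinearMap.mem_ker, ← Module.End.mul_apply, ← pow_add, show m + (N - m) = N by omega,
      hreg.pow_eq_zero, LinearMap.zero_apply]
  have heq : LinearMap.range ((T - 1) ^ (N - m)) = LinearMap.ker ((T - 1) ^ m) :=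
    Submodule.eq_of_le_of_finrank_eq hle (by
      rw [hreg (N - m), hreg.finrank_ker (by omega)]
      omega)
  rw [← heq] at hu
  obtain ⟨x, rfl⟩ := hu
  rw [adj_N_pow hiso]
  have h1 : ((T - 1) ^ (N - m)) v = 0 := by
    rw [show N - m = (N - 2 * m) + m by omega, pow_add, Module.End.mul_apply,
      LinearMap.mem_ker.mp hv, map_zero]
  rw [h1, h_zero_right, mul_zero]

variable {p : ℕ} [hp : Fact p.Prime]

/-- **the number of totally isotropic `m`-spaces is `1` modulo `p`** as soon as there is a
regular unipotent isometry of `p`-power order. -/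
theorem card_ti_modEq_one (hreg : IsReg T)
    (hiso : ∀ u v, hermForm N F q (T u) (T v) = hermForm N F q u v) {a : ℕ}
    (hTa : T ^ p ^ a = 1) {m : ℕ} (hmn : 2 * m ≤ N) :
    Nat.card (TIm F q N m) ≡ 1 [MOD p] := by
  classical
  have hinj : Function.Injective T := by
    have h1 : T ^ (p ^ a - 1) * T = 1 := by
      rw [← pow_succ, show p ^ a - 1 + 1 = p ^ a from Nat.sub_add_cancel
        (Nat.one_le_pow _ _ hp.out.pos), hTa]
    intro x y hxy
    have := congrArg (T ^ (p ^ a - 1)) hxy
    rw [← Module.End.mul_apply, ← Module.End.mul_apply, h1] at this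
    exact this
  have : Fintype (TIm F q N m) := Fintype.ofFinite _
  rw [Nat.card_eq_fintype_card]
  have hfa : (act T hinj hiso m) ^ p ^ a = 1 := by
    funext W
    apply Subtype.ext
    rw [act_pow_val, hTa, Module.End.one_eq_id, Submodule.map_id]
    rfl
  have h1 := Equiv.Perm.card_fixedPoints_modEq hfa
  have hKm : finrank F ↥(LinearMap.ker ((T - 1) ^ m)) = m := hreg.finrank_ker (by omega)
  have h2 : ∀ inst : Fintype ↥(Function.fixedPoints (act T hinj hiso m)),
      @Fintype.card _ inst = 1 := by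
    intro inst
    rw [Fintype.card_eq_one_iff]
    refine ⟨⟨⟨LinearMap.ker ((T - 1) ^ m), hKm, hreg.ker_ti hiso hmn⟩, ?_⟩, ?_⟩
    · apply Subtype.ext
      change (LinearMap.ker ((T - 1) ^ m)).map T = LinearMap.ker ((T - 1) ^ m)
      apply Submodule.eq_of_le_of_finrank_eq
      · rw [Submodule.map_le_iff_le_comap]
        exact (Module.End.mem_invtSubmodule T).mp (ker_invt m)
      · rw [← (Submodule.equivMapOfInjective T hinj _).finrank_eq]
    · rintro ⟨W, hW⟩
      apply Subtype.ext
      apply Subtype.ext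
      change W.1 = LinearMap.ker ((T - 1) ^ m)
      have hW' : W.1.map T = W.1 := congrArg Subtype.val hW
      apply hreg.eq_ker (by omega) _ W.2.1
      rw [Module.End.mem_invtSubmodule, ← Submodule.map_le_iff_le_comap, hW']
  rw [h2] at h1
  exact h1

end Cfsg.Agent.Helper8.HermReg
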