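import Mathlib
import Cfsg.Agent.Helper8.HermRegA
set_option autoImplicit false
set_option linter.unusedSectionVars false

/-! The number of totally isotropic `m`-spaces of the unitary space is prime to the
characteristic: from a regular unipotent unitary matrix (helper8). -/

namespace Cfsg.Agent.Helper8.HermReg

open Matrix Module Cfsg Cfsg.Agent.Helper7.Herm Cfsg.Agent.Helper8.GUOrder Cfsg.Agent.Helper8.AutSU
  Cfsg.Agent.Helper7.SUNd Cfsg.Agent.Helper8.SURoot Cfsg.Agent.Helper7.Ex27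
  Cfsg.Agent.Helper8.HermTwo Cfsg.Agent.Helper7.SpUn Cfsg.Agent.Helper8.UJ
  Cfsg.Agent.Helper7.POrd Cfsg.Agent.Helper8.SpU Cfsg.Agent.Helper8.HermUni

variable {F : Type*} [Field F] [Fintype F] {q : ℕ} [hF : Fact (Fintype.card F = q ^ 2)]
  {p : ℕ} [hp : Fact p.Prime] [CharP F p]

theorem sub_one_pow_char_pow {ι : Type*} [Fintype ι] [DecidableEq ι] (A : Matrix ι ι F) (a : ℕ) :
    (A - 1) ^ p ^ a = A ^ p ^ a - 1 := by
  induction a with
  | zero => rw [pow_zero, pow_one, pow_one]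
  | succ a ih => rw [pow_succ, pow_mul, ih, sub_one_pow_char p, ← pow_mul]

/-- a regular unipotent unitary matrix shows that `p` does not divide the number of totally
isotropic `m`-spaces -/
theorem not_dvd_of_block {n m : ℕ} (hmn : 2 * m ≤ n) (A : Matrix (Fin n) (Fin n) F)
    (hA : Aᵀ * A.map (· ^ q) = 1) (hr : ∀ j, ((A - 1) ^ j).rank = n - j) :
    ¬ p ∣ Nat.card (TIm F q n m) := by
  obtain ⟨T, hTdef⟩ : ∃ T : Module.End F (Fin n → F), T = Matrix.toLin' A := ⟨_, rfl⟩
  have hreg : IsReg T := by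
    intro j
    rw [hTdef, finrank_range_toLin'_sub_one_pow, hr]
  have hiso : ∀ u v, hermForm n F q (T u) (T v) = hermForm n F q u v := by
    intro u v
    rw [hTdef, Matrix.toLin'_apply, Matrix.toLin'_apply]
    exact unitary_of_matrix A hA u v
  have hAn : (A - 1) ^ n = 0 := by
    apply eq_zero_of_rank_eq_zero
    rw [hr, Nat.sub_self]
  have hAp : A ^ p ^ n = 1 := by
    have h1 : (A - 1) ^ p ^ n = 0 :=
      pow_eq_zero_of_le (Nat.lt_pow_self hp.out.one_lt).le hAn
    rw [sub_one_pow_char_pow] at h1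
    exact sub_eq_zero.mp h1
  have hTa : T ^ p ^ n = 1 := by
    rw [hTdef, ← Matrix.toLin'_pow, hAp, Matrix.toLin'_one]
    rfl
  have h1 := card_ti_modEq_one (p := p) hreg hiso hTa hmn
  intro hdvd
  have h2 : Nat.card (TIm F q n m) ≡ 0 [MOD p] := (Nat.modEq_zero_iff_dvd).mpr hdvd
  have h3 : 1 ≡ 0 [MOD p] := h1.symm.trans h2
  have h4 := (Nat.modEq_zero_iff_dvd).mp h3
  exact hp.out.one_lt.ne' (Nat.dvd_one.mp h4)

/-- **odd characteristic**: `p` does not divide the number of totally isotropic `m`-spaces. -/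
theorem not_dvd_card_ti_odd (h2 : (2 : F) ≠ 0) (n m : ℕ) (hmn : 2 * m ≤ n) :
    ¬ p ∣ Nat.card {W : Submodule F (Fin n → F) // finrank F ↥W = m ∧
      (∀ u ∈ W, ∀ v ∈ W, hermForm n F q u v = 0)} := by
  obtain ⟨A, hA, hr⟩ := exists_block (q := q) h2 n
  exact not_dvd_of_block hmn A hA hr

end Cfsg.Agent.Helper8.HermReg
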