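import Cfsg.Agent.Helper8.SUSemiB
import Cfsg.Agent.Helper8.HermRegC
import Cfsg.Agent.Helper7.TensNMJ
import Cfsg.Prelude.Def_GeometricClasses

set_option autoImplicit false
set_option linter.unusedSectionVars false

/-!
Similarity groups of unitary forms over the field with `q ^ 2` elements: every non-degenerate
unitary form is equivalent to the standard one, so its similarity group is a conjugate of the
group of matrices `Y` with `st Y * Y` a non-zero scalar.
-/

namespace Cfsg.Agent.Helper8.SLU

open Polynomial Matrix Cfsg Cfsg.Geo Cfsg.Agent.Helper8.GUOrder Cfsg.Agent.Helper8.AutSU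
  Cfsg.Agent.Helper8.PSUSing Cfsg.Agent.Helper8.SUSemi Cfsg.Agent.Helper7.TensNM

variable {K : Type*} [Field K] [Fintype K] {q : ℕ} [hF : Fact (Fintype.card K = q ^ 2)] {n : ℕ}

/-- the sesquilinear form of a matrix -/
def sesq (G : Matrix (Fin n) (Fin n) K) (x y : Fin n → K) : K :=
  ∑ a, ∑ b, x a * G a b * (y b) ^ q

theorem sesq_single (G : Matrix (Fin n) (Fin n) K) (a b : Fin n) :
    sesq (q := q) G (Pi.single a 1) (Pi.single b 1) = G a b := by
  unfold sesq
  rw [Finset.sum_eq_single a, Finset.sum_eq_single b]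
  · simp
  · intro c _ hc
    rw [Pi.single_eq_of_ne hc, zero_pow (by have := two_le_q hF.out (K := K); omega), mul_zero]
  · intro h; exact absurd (Finset.mem_univ b) h
  · intro c _ hc
    apply Finset.sum_eq_zero
    intro d _
    rw [Pi.single_eq_of_ne hc, zero_mul, zero_mul]
  · intro h; exact absurd (Finset.mem_univ a) h

theorem sesq_smul (c : K) (G : Matrix (Fin n) (Fin n) K) (x y : Fin n → K) :
    sesq (q := q) (c • G) x y = c * sesq (q := q) G x y := by
  unfold sesq
  rw [Finset.mul_sum]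
  refine Finset.sum_congr rfl fun a _ => ?_
  rw [Finset.mul_sum]
  refine Finset.sum_congr rfl fun b _ => ?_
  rw [Matrix.smul_apply, smul_eq_mul]
  ring

theorem sesq_eq_dot (G : Matrix (Fin n) (Fin n) K) (x y : Fin n → K) :
    sesq (q := q) G x y = x ⬝ᵥ (G *ᵥ (fun b => (y b) ^ q)) := by
  unfold sesq
  simp only [dotProduct, Matrix.mulVec, Finset.mul_sum, mul_assoc]

theorem pow_mulVec (M : Matrix (Fin n) (Fin n) K) (v : Fin n → K) :
    (fun b => ((M *ᵥ v) b) ^ q) = (M.map (· ^ q)) *ᵥ (fun b => (v b) ^ q) := by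
  funext b
  simp only [Matrix.mulVec, dotProduct, Matrix.map_apply]
  have h := map_sum (frobq K q) (fun i => M b i * v i) Finset.univ
  simp only [frobq_apply] at h
  rw [h]
  refine Finset.sum_congr rfl fun i _ => ?_
  rw [mul_pow]

theorem sesq_mulVec (G M : Matrix (Fin n) (Fin n) K) (u v : Fin n → K) :
    sesq (q := q) G (M *ᵥ u) (M *ᵥ v) = sesq (q := q) (Mᵀ * G * M.map (· ^ q)) u v := by
  rw [sesq_eq_dot, sesq_eq_dot, pow_mulVec, Matrix.dotProduct_mulVec, Matrix.vecMul_mulVec,
    ← Matrix.dotProduct_mulVec, Matrix.mulVec_mulVec]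

section form

variable {f : (Fin n → K) → (Fin n → K) → K}

theorem form_eq_sesq (hf : IsUnitaryFormPow q f) (x y : Fin n → K) :
    f x y = sesq (q := q) (gramMatrix f) x y := by
  rw [unitary_eq_gram hF.out hf]
  rfl

theorem gram_herm (hf : IsUnitaryFormPow q f) (i j : Fin n) :
    gramMatrix f j i = (gramMatrix f i j) ^ q := hf.herm _ _

theorem gram_det_ne_zero (hf : IsUnitaryFormPow q f) : (gramMatrix f).det ≠ 0 := by
  intro h0
  obtain ⟨v, hv0, hv⟩ := Matrix.exists_mulVec_eq_zero_iff.mpr h0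
  have hq := two_le_q hF.out (K := K)
  have hw0 : (fun b => (v b) ^ q) ≠ 0 := by
    intro h
    apply hv0
    funext b
    have := congrFun h b
    simp only [Pi.zero_apply] at this ⊢
    exact pow_eq_zero_iff (by omega) |>.mp this
  obtain ⟨x, hx⟩ := (hf.nondegenerate _ hw0).1
  apply hx
  rw [form_eq_sesq hf, sesq_eq_dot]
  have : (fun b => ((fun b => (v b) ^ q) b) ^ q) = v := by
    funext b
    have := frobq_frobq (K := K) (q := q) (v b)
    simpa only [frobq_apply] using this
  rw [this, hv, dotProduct_zero]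

theorem mem_sim_iff_gram (hf : IsUnitaryFormPow q f) (g : GL (Fin n) K) :
    g ∈ similarityGroup f ↔ ∃ c : K, c ≠ 0 ∧
      (g : Matrix (Fin n) (Fin n) K)ᵀ * gramMatrix f * (g : Matrix (Fin n) (Fin n) K).map (· ^ q)
        = c • gramMatrix f := by
  constructor
  · rintro ⟨c, hc⟩
    refine ⟨(c : K), c.ne_zero, ?_⟩
    ext a b
    have h := hc (Pi.single a 1) (Pi.single b 1)
    rw [form_eq_sesq hf, form_eq_sesq hf, sesq_mulVec, sesq_single, sesq_single] at h
    rw [h, Matrix.smul_apply, smul_eq_mul]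
  · rintro ⟨c, hc0, hc⟩
    refine ⟨Units.mk0 c hc0, fun u v => ?_⟩
    rw [form_eq_sesq hf, form_eq_sesq hf, sesq_mulVec, hc, sesq_smul, Units.val_mk0]

end form

theorem map_pow_mul (A B : Matrix (Fin n) (Fin n) K) :
    (A * B).map (· ^ q) = A.map (· ^ q) * B.map (· ^ q) :=
  Matrix.map_mul (f := frobq K q)

theorem map_pow_one : (1 : Matrix (Fin n) (Fin n) K).map (· ^ q) = 1 := by
  have := Matrix.map_one (frobq K q) (map_zero _) (map_one _) (n := Fin n)
  exact this

theorem st_mul_self_eq_iff (Y : Matrix (Fin n) (Fin n) K) (c : K) :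
    st (q := q) Y * Y = c • 1 ↔ Yᵀ * Y.map (· ^ q) = c • 1 := by
  unfold st
  constructor
  · intro h
    have := congrArg Matrix.transpose h
    rw [Matrix.transpose_mul, Matrix.transpose_transpose, Matrix.transpose_smul,
      Matrix.transpose_one] at this
    exact this
  · intro h
    have := congrArg Matrix.transpose h
    rw [Matrix.transpose_mul, Matrix.transpose_smul, Matrix.transpose_one] at this
    exact this

/-- **the model**: the similarity group of a unitary form is conjugate to the group of matrices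
`Y` with `st Y * Y` a non-zero scalar. -/
theorem exists_model {f : (Fin n → K) → (Fin n → K) → K} (hf : IsUnitaryFormPow q f) :
    ∃ P Pi : Matrix (Fin n) (Fin n) K, P * Pi = 1 ∧ Pi * P = 1 ∧
      ∀ g : GL (Fin n) K, g ∈ similarityGroup f ↔ ∃ c : K, c ≠ 0 ∧
        st (q := q) (P * (g : Matrix (Fin n) (Fin n) K) * Pi) *
          (P * (g : Matrix (Fin n) (Fin n) K) * Pi) = c • 1 := by
  obtain ⟨P, hP⟩ := Cfsg.Agent.Helper8.HermReg.exists_herm_factor_gen (q := q) (gramMatrix f)
    (fun i j => gram_herm hf i j) (gram_det_ne_zero hf)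
  have hdet : P.det ≠ 0 := by
    intro h0
    apply gram_det_ne_zero hf
    rw [← hP, Matrix.det_mul, Matrix.det_transpose, h0, zero_mul]
  have h1 : P * P⁻¹ = 1 := Matrix.mul_nonsing_inv P (isUnit_iff_ne_zero.mpr hdet)
  have h2 : P⁻¹ * P = 1 := Matrix.nonsing_inv_mul P (isUnit_iff_ne_zero.mpr hdet)
  refine ⟨P, P⁻¹, h1, h2, fun g => ?_⟩
  generalize P⁻¹ = Pi at h1 h2
  have t1 : Piᵀ * Pᵀ = 1 := by rw [← Matrix.transpose_mul, h1, Matrix.transpose_one]
  have t2 : Pᵀ * Piᵀ = 1 := by rw [← Matrix.transpose_mul, h2, Matrix.transpose_one]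
  have s1 : P.map (· ^ q) * Pi.map (· ^ q) = 1 := by rw [← map_pow_mul, h1, map_pow_one]
  have s2 : Pi.map (· ^ q) * P.map (· ^ q) = 1 := by rw [← map_pow_mul, h2, map_pow_one]
  rw [mem_sim_iff_gram hf]
  generalize (g : Matrix (Fin n) (Fin n) K) = X
  refine exists_congr fun c => and_congr_right fun _ => ?_
  rw [st_mul_self_eq_iff, map_pow_mul, map_pow_mul, Matrix.transpose_mul, Matrix.transpose_mul,
    ← hP]
  generalize Pᵀ = A at *
  generalize Piᵀ = A' at *
  generalize P.map (· ^ q) = B at *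
  generalize Pi.map (· ^ q) = B' at *
  generalize Xᵀ = X1
  generalize X.map (· ^ q) = X2
  constructor
  · intro h
    calc A' * (X1 * A) * (B * X2 * B') = A' * (X1 * (A * B) * X2) * B' := by
          simp only [Matrix.mul_assoc]
      _ = A' * (c • (A * B)) * B' := by rw [h]
      _ = c • ((A' * A) * (B * B')) := by
          simp only [Matrix.mul_assoc, Matrix.mul_smul, Matrix.smul_mul]
      _ = c • 1 := by rw [t1, s1, Matrix.mul_one]
  · intro h
    calc X1 * (A * B) * X2 = (A * A') * X1 * (A * B) * X2 * (B' * B) := by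
          rw [t2, s2, Matrix.one_mul, Matrix.mul_one]
      _ = A * (A' * (X1 * A) * (B * X2 * B')) * B := by simp only [Matrix.mul_assoc]
      _ = c • (A * B) := by
          rw [h]
          simp only [Matrix.mul_smul, Matrix.smul_mul, Matrix.mul_one]

end Cfsg.Agent.Helper8.SLU
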