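import Mathlib
import Cfsg.Agent.Helper7.ChevWeyl
import Cfsg.Agent.Helper7.ChevLevi2

set_option autoImplicit false
set_option linter.unusedSectionVars false
set_option linter.unusedVariables false

/-!
Weyl action on real linear functionals of the root lattice of a Chevalley datum (table level).

A functional is parametrised by `lam : ℕ → ℝ` (only the values `lam i`, `i < rank`, matter):
`btw_phi D lam r = Σ_{i<rank} lam i * cartan i r`, the pairing of the root `r` with the coweight
`Σ lam i • (p_i)^∨`.  The fundamental reflection `s_i` acts by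
`btw_sref D i lam = lam - phi(p_i) • e_i`, and `phi (s_i lam) r = phi lam (s_i r)`.
-/

namespace Cfsg.Agent.Helper8.BTW

open Cfsg Cfsg.Lie Cfsg.Agent.Helper7.Chev

variable {D : ChevalleyDatum}

/-- The value on the root `r` of the functional with parameter `lam`. -/
noncomputable def btw_phi (D : ChevalleyDatum) (lam : ℕ → ℝ) (r : ℕ) : ℝ :=
  ∑ i ∈ Finset.range D.rank, lam i * ((D.cartan i r : ℤ) : ℝ)

theorem btw_phi_add (lam mu : ℕ → ℝ) (r : ℕ) :
    btw_phi D (fun i => lam i + mu i) r = btw_phi D lam r + btw_phi D mu r := by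
  unfold btw_phi
  rw [← Finset.sum_add_distrib]
  exact Finset.sum_congr rfl (fun i _ => by ring)

theorem btw_phi_smul (c : ℝ) (lam : ℕ → ℝ) (r : ℕ) :
    btw_phi D (fun i => c * lam i) r = c * btw_phi D lam r := by
  unfold btw_phi
  rw [Finset.mul_sum]
  exact Finset.sum_congr rfl (fun i _ => by ring)

theorem btw_phi_zero (r : ℕ) : btw_phi D (fun _ => 0) r = 0 := by
  unfold btw_phi
  simp

theorem btw_phi_congr {lam mu : ℕ → ℝ} (h : ∀ i < D.rank, lam i = mu i) (r : ℕ) :
    btw_phi D lam r = btw_phi D mu r := by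
  unfold btw_phi
  exact Finset.sum_congr rfl (fun i hi => by rw [h i (Finset.mem_range.mp hi)])

section good

variable (hG : Good2 D)

include hG in
theorem btw_phi_neg (lam : ℕ → ℝ) {r : ℕ} (hr : r < D.nroots) :
    btw_phi D lam (D.neg r) = - btw_phi D lam r := by
  unfold btw_phi
  rw [← Finset.sum_neg_distrib]
  apply Finset.sum_congr rfl
  intro i hi
  rw [Finset.mem_range] at hi
  rw [hG.toGood1.cartan_neg hr hi]
  push_cast
  ring

include hG in
/-- Additivity along chains. -/
theorem btw_phi_chain (lam : ℕ → ℝ) {r s : ℕ} (hr : r < D.nroots) (hs : s < D.nroots)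
    {q : (ℕ × ℤ) × ℕ} (hq : q ∈ (D.chainEntry r s).zipIdx) :
    btw_phi D lam q.1.1 = btw_phi D lam s + ((q.2 + 1 : ℕ) : ℝ) * btw_phi D lam r := by
  unfold btw_phi
  rw [Finset.mul_sum, ← Finset.sum_add_distrib]
  apply Finset.sum_congr rfl
  intro i hi
  rw [Finset.mem_range] at hi
  have := hG.t15 r hr s hs i hi q hq
  have h2 : D.cartan i q.1.1 = D.cartan i s + ((q.2 + 1 : ℕ) : ℤ) * D.cartan i r := this
  rw [h2]
  push_cast
  ring

include hG in
/-- The functional on a reflected root. -/
theorem btw_phi_refl (lam : ℕ → ℝ) {i : ℕ} (hi : i < D.rank) {s : ℕ} (hs : s < D.nroots) :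
    btw_phi D lam ((tabOf D).refl (D.simple i) s) =
      btw_phi D lam s - ((D.cartan i s : ℤ) : ℝ) * btw_phi D lam (D.simple i) := by
  unfold btw_phi
  rw [Finset.mul_sum, ← Finset.sum_sub_distrib]
  apply Finset.sum_congr rfl
  intro j hj
  rw [Finset.mem_range] at hj
  rw [hG.cartan_refl hi hs hj]
  push_cast
  ring

end good

/-- The fundamental reflection `s_i` on parameters. -/
noncomputable def btw_sref (D : ChevalleyDatum) (i : ℕ) (lam : ℕ → ℝ) : ℕ → ℝ :=
  fun j => if j = i then lam i - btw_phi D lam (D.simple i) else lam j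

theorem btw_phi_sref_raw (lam : ℕ → ℝ) {i : ℕ} (hi : i < D.rank) (s : ℕ) :
    btw_phi D (btw_sref D i lam) s =
      btw_phi D lam s - ((D.cartan i s : ℤ) : ℝ) * btw_phi D lam (D.simple i) := by
  have h1 : btw_phi D (btw_sref D i lam) s =
      ∑ j ∈ Finset.range D.rank, (lam j * ((D.cartan j s : ℤ) : ℝ) -
        if j = i then btw_phi D lam (D.simple i) * ((D.cartan i s : ℤ) : ℝ) else 0) := by
    show (∑ j ∈ Finset.range D.rank, btw_sref D i lam j * ((D.cartan j s : ℤ) : ℝ)) = _
    apply Finset.sum_congr rfl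
    intro j _
    by_cases hji : j = i
    · subst hji
      simp only [btw_sref, if_true]
      ring
    · simp only [btw_sref, if_neg hji]
      ring
  rw [h1, Finset.sum_sub_distrib, Finset.sum_ite_eq' (Finset.range D.rank) i,
    if_pos (Finset.mem_range.mpr hi)]
  show (∑ j ∈ Finset.range D.rank, lam j * ((D.cartan j s : ℤ) : ℝ)) - _ =
    (∑ j ∈ Finset.range D.rank, lam j * ((D.cartan j s : ℤ) : ℝ)) - _
  ring

section good2

variable (hG : Good2 D)

include hG in
/-- `phi (s_i lam) s = phi lam (s_i s)`. -/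
theorem btw_phi_sref (lam : ℕ → ℝ) {i : ℕ} (hi : i < D.rank) {s : ℕ} (hs : s < D.nroots) :
    btw_phi D (btw_sref D i lam) s = btw_phi D lam ((tabOf D).refl (D.simple i) s) := by
  rw [btw_phi_sref_raw lam hi s, btw_phi_refl hG lam hi hs]

include hG in
theorem btw_phi_sref_refl (lam : ℕ → ℝ) {i : ℕ} (hi : i < D.rank) {s : ℕ} (hs : s < D.nroots) :
    btw_phi D (btw_sref D i lam) ((tabOf D).refl (D.simple i) s) = btw_phi D lam s := by
  rw [btw_phi_sref hG lam hi (hG.refl_lt hi hs), hG.refl_refl hi hs]

include hG in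
/-- `s_i` is an involution on functionals. -/
theorem btw_phi_sref_sref (lam : ℕ → ℝ) {i : ℕ} (hi : i < D.rank) {s : ℕ} (hs : s < D.nroots) :
    btw_phi D (btw_sref D i (btw_sref D i lam)) s = btw_phi D lam s := by
  rw [btw_phi_sref hG _ hi hs, btw_phi_sref hG _ hi (hG.refl_lt hi hs), hG.refl_refl hi hs]

include hG in
theorem btw_phi_sref_simple (lam : ℕ → ℝ) {i : ℕ} (hi : i < D.rank) :
    btw_phi D (btw_sref D i lam) (D.simple i) = - btw_phi D lam (D.simple i) := by
  rw [btw_phi_sref_raw lam hi, hG.cartan_simple_self hi]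
  push_cast
  ring

end good2

/-- The squared norm of a parameter: the sum of the squares of the values on all roots. -/
noncomputable def btw_nsq (D : ChevalleyDatum) (lam : ℕ → ℝ) : ℝ :=
  ∑ r ∈ Finset.range D.nroots, (btw_phi D lam r) ^ 2

theorem btw_nsq_nonneg (lam : ℕ → ℝ) : 0 ≤ btw_nsq D lam :=
  Finset.sum_nonneg (fun _ _ => sq_nonneg _)

section good3

variable (hG : Good2 D)

include hG in
/-- The norm is invariant under the fundamental reflections. -/
theorem btw_nsq_sref (lam : ℕ → ℝ) {i : ℕ} (hi : i < D.rank) :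
    btw_nsq D (btw_sref D i lam) = btw_nsq D lam := by
  unfold btw_nsq
  apply Finset.sum_nbij' (fun r => (tabOf D).refl (D.simple i) r)
    (fun r => (tabOf D).refl (D.simple i) r)
  · intro r hr
    rw [Finset.mem_range] at hr ⊢
    exact hG.refl_lt hi hr
  · intro r hr
    rw [Finset.mem_range] at hr ⊢
    exact hG.refl_lt hi hr
  · intro r hr
    rw [Finset.mem_range] at hr
    exact hG.refl_refl hi hr
  · intro r hr
    rw [Finset.mem_range] at hr
    exact hG.refl_refl hi hr
  · intro r hr
    rw [Finset.mem_range] at hr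
    rw [btw_phi_sref hG lam hi hr]

end good3

/-- The action of a word in the fundamental reflections on parameters (first letter applied last). -/
noncomputable def btw_wact (D : ChevalleyDatum) : List ℕ → (ℕ → ℝ) → (ℕ → ℝ)
  | [], lam => lam
  | i :: w, lam => btw_sref D i (btw_wact D w lam)

section good4

variable (hG : Good2 D)

include hG in
theorem btw_nsq_wact (lam : ℕ → ℝ) {w : List ℕ} (hw : ∀ i ∈ w, i < D.rank) :
    btw_nsq D (btw_wact D w lam) = btw_nsq D lam := by
  induction w with
  | nil => rfl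
  | cons i w ih =>
    have hi : i < D.rank := hw i (List.mem_cons_self)
    have hw' : ∀ j ∈ w, j < D.rank := fun j hj => hw j (List.mem_cons_of_mem _ hj)
    change btw_nsq D (btw_sref D i (btw_wact D w lam)) = _
    rw [btw_nsq_sref hG _ hi, ih hw']

end good4

/-- The weight on the coordinate index set attached to a function on root indices: the Cartan
coordinates have weight `0`, the root coordinate `e_s` has weight `psi s`. -/
def btw_wtI (D : ChevalleyDatum) (psi : ℕ → ℝ) : D.Idx → ℝ :=
  Sum.elim (fun _ => 0) (fun s => psi s.val)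

@[simp] theorem btw_wtI_inl (psi : ℕ → ℝ) (j : Fin D.rank) : btw_wtI D psi (Sum.inl j) = 0 := rfl

@[simp] theorem btw_wtI_inr (psi : ℕ → ℝ) (s : Fin D.nroots) :
    btw_wtI D psi (Sum.inr s) = psi s.val := rfl

/-- The transform of a function on root indices by a word in the fundamental reflections:
`btw_car w psi` is the weight to which the element `n_w` of `N` carries `psi`. -/
def btw_car (D : ChevalleyDatum) : List ℕ → (ℕ → ℝ) → (ℕ → ℝ)
  | [], psi => psi
  | i :: w, psi => fun s => btw_car D w psi ((tabOf D).refl (D.simple i) s)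

theorem btw_car_nil (psi : ℕ → ℝ) : btw_car D [] psi = psi := rfl

theorem btw_car_cons (i : ℕ) (w : List ℕ) (psi : ℕ → ℝ) (s : ℕ) :
    btw_car D (i :: w) psi s = btw_car D w psi ((tabOf D).refl (D.simple i) s) := rfl

section good5

variable (hG : Good2 D)

include hG in
/-- The functional of the transformed parameter is the transformed functional. -/
theorem btw_phi_wact (lam : ℕ → ℝ) {w : List ℕ} (hw : ∀ i ∈ w, i < D.rank) {s : ℕ}
    (hs : s < D.nroots) :
    btw_phi D (btw_wact D w lam) s = btw_car D w (btw_phi D lam) s := by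
  induction w generalizing s with
  | nil => rfl
  | cons i w ih =>
    have hi : i < D.rank := hw i (List.mem_cons_self)
    have hw' : ∀ j ∈ w, j < D.rank := fun j hj => hw j (List.mem_cons_of_mem _ hj)
    change btw_phi D (btw_sref D i (btw_wact D w lam)) s = _
    rw [btw_phi_sref hG _ hi hs, btw_car_cons, ih hw' (hG.refl_lt hi hs)]

end good5

end Cfsg.Agent.Helper8.BTW
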