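import Mathlib
import Cfsg.Prelude.Def_CaseTheorems
import Cfsg.Agent.Lead.BswDefs
import Cfsg.Agent.Helper1.BsdDefs1

set_option autoImplicit false

/-!
S0508, PART 1 (architect helper1), pieces I8 `dat1_easy`, I9 `dat1_sup`, I9b `dat1_cases` (helper8).
-/

namespace Cfsg.Agent.Helper1.Bsd

variable {G : Type*} [Group G]

section FromDat

variable {t s : G} {S O Z : Subgroup G}

/-- `O` is abelian, being inverted by `s`. -/
theorem h8_O_comm (D : Dat1 t S O Z s) (a b : G) (ha : a ∈ O) (hb : b ∈ O) : a * b = b * a := by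
  have h1 := D.hsinvO a ha
  have h2 := D.hsinvO b hb
  have h3 := D.hsinvO (a * b) (O.mul_mem ha hb)
  have h4 : s * (a * b) * s⁻¹ = (s * a * s⁻¹) * (s * b * s⁻¹) := by group
  rw [h4, h1, h2, mul_inv_rev] at h3
  -- h3 : a⁻¹ * b⁻¹ = b⁻¹ * a⁻¹
  have h5 : (a⁻¹ * b⁻¹)⁻¹ = (b⁻¹ * a⁻¹)⁻¹ := by rw [h3]
  have h6 : b * a = a * b := by simpa [mul_inv_rev] using h5
  exact h6.symm

theorem h8_K_comm (D : Dat1 t S O Z s) (x y : G) (hx : x ∈ mulSub O Z D.hZO)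
    (hy : y ∈ mulSub O Z D.hZO) : x * y = y * x := by
  obtain ⟨o, ho, z, hz, rfl⟩ := hx
  obtain ⟨o', ho', z', hz', rfl⟩ := hy
  have e1 : z * o' = o' * z := (D.hZO o' ho' z hz).symm
  have e2 : z' * o = o * z' := (D.hZO o ho z' hz').symm
  have e3 : o * o' = o' * o := h8_O_comm D o o' ho ho'
  have e4 : z * z' = z' * z := D.hZc z hz z' hz'
  calc o * z * (o' * z') = o * (z * o') * z' := by group
    _ = o * (o' * z) * z' := by rw [e1]
    _ = (o * o') * (z * z') := by group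
    _ = (o' * o) * (z' * z) := by rw [e3, e4]
    _ = o' * (o * z') * z := by group
    _ = o' * (z' * o) * z := by rw [e2]
    _ = o' * z' * (o * z) := by group

/-- P8: the easy fields -/
theorem dat1_easy (D : Dat1 t S O Z s) :
    IsMulCommutative ↥(mulSub O Z D.hZO) ∧
    mulSub O Z D.hZO ≤ Subgroup.centralizer ({t} : Set G) ∧ t ∈ mulSub O Z D.hZO ∧
    s ∈ Subgroup.centralizer ({t} : Set G) ∧ s ∉ mulSub O Z D.hZO ∧
    (∀ x ∈ mulSub O Z D.hZO, s * x * s⁻¹ = x⁻¹) := by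
  refine ⟨⟨⟨fun a b => Subtype.ext (h8_K_comm D a.1 b.1 a.2 b.2)⟩⟩, ?_, ?_, ?_, ?_, ?_⟩
  · rintro x ⟨o, ho, z, hz, rfl⟩
    exact Subgroup.mul_mem _ (D.hOC ho) (D.hSC (D.hZS hz))
  · exact ⟨1, O.one_mem, t, D.htZ, by simp⟩
  · exact D.hSC D.hsS
  · rintro ⟨o, ho, z, hz, hsoz⟩
    have h1 : o = s * z⁻¹ := by rw [hsoz]; group
    have h2 : o ∈ S := by
      rw [h1]
      exact S.mul_mem D.hsS (S.inv_mem (D.hZS hz))
    have h3 : o = 1 := D.hOS o ho h2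
    apply D.hsZ
    rw [hsoz, h3, one_mul]
    exact hz
  · rintro x ⟨o, ho, z, hz, rfl⟩
    have h1 := D.hsinvO o ho
    have h2 := D.hsinvZ z hz
    have h4 : s * (o * z) * s⁻¹ = (s * o * s⁻¹) * (s * z * s⁻¹) := by group
    rw [h4, h1, h2, mul_inv_rev]
    exact D.hZO o⁻¹ (O.inv_mem ho) z⁻¹ (Z.inv_mem hz)

/-- P9b: elementwise form: every element of `C_G(t)` is in `K` or in `K s` -/
theorem dat1_cases (D : Dat1 t S O Z s) (c : G) (hc : c ∈ Subgroup.centralizer ({t} : Set G)) :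
    c ∈ mulSub O Z D.hZO ∨ ∃ k ∈ mulSub O Z D.hZO, c = k * s := by
  obtain ⟨o, ho, x, hx, rfl⟩ := D.hfact c hc
  by_cases hxZ : x ∈ Z
  · left
    exact ⟨o, ho, x, hxZ, rfl⟩
  · right
    refine ⟨o * (x * s⁻¹), ⟨o, ho, x * s⁻¹, D.hidx x hx hxZ, rfl⟩, ?_⟩
    group

/-- P9: `K⟨s⟩ = C_G(t)` -/
theorem dat1_sup (D : Dat1 t S O Z s) :
    mulSub O Z D.hZO ⊔ Subgroup.zpowers s = Subgroup.centralizer ({t} : Set G) := by
  obtain ⟨_, hK, _, hs, _, _⟩ := dat1_easy D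
  apply le_antisymm
  · apply sup_le hK
    rw [Subgroup.zpowers_le]
    exact hs
  · intro c hc
    rcases dat1_cases D c hc with h | ⟨k, hk, rfl⟩
    · exact (le_sup_left : mulSub O Z D.hZO ≤ _) h
    · exact Subgroup.mul_mem _ ((le_sup_left : mulSub O Z D.hZO ≤ _) hk)
        ((le_sup_right : Subgroup.zpowers s ≤ _) (Subgroup.mem_zpowers s))

end FromDat

end Cfsg.Agent.Helper1.Bsd
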