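import Mathlib
import Cfsg.Prelude.Def_CaseTheorems
import Cfsg.Agent.Lead.BswDefs
import Cfsg.Agent.Helper1.BsdDefs1

set_option autoImplicit false

/-!
S0508, PART 1 (architect helper1), pieces I4 `cyclic_facts` and I4b `relIndex_two_mul` (helper8).
-/

namespace Cfsg.Agent.Helper1.Bsd

variable {G : Type*} [Group G]

theorem h8_zmod_two_torsion (n : ℕ) (x y : ZMod n) (hx : x + x = 0) (hy : y + y = 0)
    (hx0 : x ≠ 0) (hy0 : y ≠ 0) : x = y := by
  rcases n with _ | k
  · exfalso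
    apply hx0
    have h1 : ∀ z : ℤ, z + z = 0 → z = 0 := by intro z hz; omega
    exact h1 x hx
  · have key : ∀ z : ZMod (k + 1), z + z = 0 → z ≠ 0 → z.val + z.val = k + 1 := by
      intro z hz hz0
      have h1 := congrArg ZMod.val hz
      rw [ZMod.val_add, ZMod.val_zero] at h1
      have h2 : z.val < k + 1 := ZMod.val_lt z
      have h3 : z.val ≠ 0 := fun h => hz0 ((ZMod.val_eq_zero z).mp h)
      have h4 : k + 1 ∣ z.val + z.val := Nat.dvd_of_mod_eq_zero h1
      exact Nat.eq_of_dvd_of_lt_two_mul (by omega) h4 (by omega)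
    apply ZMod.val_injective
    have h1 := key x hx hx0
    have h2 := key y hy hy0
    omega

/-- P4: a cyclic subgroup is commutative and has at most one involution. -/
theorem cyclic_facts (Z : Subgroup G) (hZ : IsCyclic ↥Z) :
    (∀ a ∈ Z, ∀ b ∈ Z, a * b = b * a) ∧
    (∀ a ∈ Z, ∀ b ∈ Z, a * a = 1 → b * b = 1 → a ≠ 1 → b ≠ 1 → a = b) := by
  constructor
  · intro a ha b hb
    have hc : IsMulCommutative ↥Z := IsCyclic.isMulCommutative
    have h := hc.is_comm.comm ⟨a, ha⟩ ⟨b, hb⟩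
    exact congrArg Subtype.val h
  · intro a ha b hb haa hbb ha1 hb1
    let e := zmodCyclicMulEquiv hZ
    have hex : ∀ c : ↥Z, c * c = 1 → c ≠ 1 →
        (Multiplicative.toAdd (e.symm c)) + (Multiplicative.toAdd (e.symm c)) = 0 ∧
        Multiplicative.toAdd (e.symm c) ≠ 0 := by
      intro c hcc hc1
      constructor
      · have h1 : e.symm (c * c) = 1 := by rw [hcc, map_one]
        rw [map_mul] at h1
        exact congrArg Multiplicative.toAdd h1
      · intro h0
        apply hc1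
        have h1 : e.symm c = 1 := by
          apply Multiplicative.toAdd.injective
          rw [h0]; rfl
        have := congrArg e h1
        rwa [MulEquiv.apply_symm_apply, map_one] at this
    have hA := hex ⟨a, ha⟩ (Subtype.ext haa) (fun h => ha1 (congrArg Subtype.val h))
    have hB := hex ⟨b, hb⟩ (Subtype.ext hbb) (fun h => hb1 (congrArg Subtype.val h))
    have h := h8_zmod_two_torsion _ _ _ hA.1 hB.1 hA.2 hB.2
    have h2 : e.symm ⟨a, ha⟩ = e.symm ⟨b, hb⟩ := Multiplicative.toAdd.injective h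
    have h3 := e.symm.injective h2
    exact congrArg Subtype.val h3

/-- P4b: index 2. -/
theorem relIndex_two_mul (S Z : Subgroup G) (hZS : Z ≤ S) (hi : Z.relIndex S = 2) (x s : G)
    (hx : x ∈ S) (hs : s ∈ S) (hxZ : x ∉ Z) (hsZ : s ∉ Z) : x * s⁻¹ ∈ Z := by
  have hidx : (Z.subgroupOf S).index = 2 := hi
  have h := Subgroup.mul_mem_iff_of_index_two hidx (a := (⟨x, hx⟩ : ↥S)) (b := (⟨s, hs⟩ : ↥S)⁻¹)
  have h1 : (⟨x, hx⟩ : ↥S) ∉ Z.subgroupOf S := fun h => hxZ (Subgroup.mem_subgroupOf.mp h)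
  have h2 : (⟨s, hs⟩ : ↥S)⁻¹ ∉ Z.subgroupOf S := by
    intro h
    rw [inv_mem_iff] at h
    exact hsZ (Subgroup.mem_subgroupOf.mp h)
  have h3 : (⟨x, hx⟩ : ↥S) * (⟨s, hs⟩ : ↥S)⁻¹ ∈ Z.subgroupOf S :=
    h.mpr ⟨fun h => absurd h h1, fun h => absurd h h2⟩
  exact Subgroup.mem_subgroupOf.mp h3

end Cfsg.Agent.Helper1.Bsd
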