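import Mathlib
import Cfsg.Prelude.Def_Characters
import Cfsg.Agent.Helper1.BswChDefs

/-!
# S3282 (abstract Brauer-Suzuki-Wall), character side, block HU: the dual group of `K`.
-/

set_option autoImplicit false

namespace Cfsg.Agent.Helper1.BswCh

open scoped ComplexConjugate Classical
open Cfsg.Agent.Lead.Bsw (F nInv)

universe u

variable {G : Type u} [Group G]

/-! ## U0 -/

/-- U0 -/
theorem lam_mul {K : Subgroup G} (l : Dual K) (x y : ↥K) : lam l (x * y) = lam l x * lam l y := by
  rw [lam_apply, lam_apply, lam_apply, map_mul, Units.val_mul]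

theorem lam_one_right {K : Subgroup G} (l : Dual K) : lam l 1 = 1 := by
  rw [lam_apply, map_one, Units.val_one]

theorem lam_one_left {K : Subgroup G} (x : ↥K) : lam (1 : Dual K) x = 1 := by
  rw [lam_apply, MonoidHom.one_apply, Units.val_one]

theorem lam_mul_left {K : Subgroup G} (l m : Dual K) (x : ↥K) : lam (l * m) x = lam l x * lam m x := by
  rw [lam_apply, lam_apply, lam_apply, MonoidHom.mul_apply, Units.val_mul]

theorem h8_lam_norm [Finite G] {K : Subgroup G} (l : Dual K) (x : ↥K) : ‖lam l x‖ = 1 := by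
  have h1 : x ^ Nat.card ↥K = 1 := pow_card_eq_one'
  have h2 : lam l x ^ Nat.card ↥K = 1 := by
    rw [lam_apply, ← Units.val_pow_eq_pow_val, ← map_pow, h1, map_one, Units.val_one]
  exact Complex.norm_eq_one_of_pow_eq_one h2 Nat.card_pos.ne'

theorem lam_inv [Finite G] {K : Subgroup G} (l : Dual K) (x : ↥K) :
    lam l x⁻¹ = conj (lam l x) ∧ lam l⁻¹ x = conj (lam l x) := by
  have h := Complex.inv_eq_conj (h8_lam_norm l x)
  constructor
  · rw [← h, lam_apply, lam_apply, map_inv, Units.val_inv_eq_inv_val]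
  · rw [← h, lam_apply, lam_apply, MonoidHom.inv_apply, Units.val_inv_eq_inv_val]

theorem lam_injective {K : Subgroup G} : Function.Injective (lam : Dual K → ↥K → ℂ) := by
  intro l m h
  apply MonoidHom.ext
  intro x
  apply Units.ext
  exact congrFun h x

/-! ## the commutative group structure on `K` and Mathlib's duality -/

/-- The commutative group structure on an abelian subgroup. -/
@[reducible] def h8_commGroup (K : Subgroup G) (hc : ∀ a ∈ K, ∀ b ∈ K, a * b = b * a) :
    CommGroup ↥K :=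
  { (inferInstance : Group ↥K) with mul_comm := fun a b => Subtype.ext (hc a a.2 b b.2) }

theorem h8_dual_equiv [Finite G] (K : Subgroup G) (hc : ∀ a ∈ K, ∀ b ∈ K, a * b = b * a) :
    Nonempty (Dual K ≃* ↥K) := by
  let _ : CommGroup ↥K := h8_commGroup K hc
  have : NeZero ((Monoid.exponent ↥K : ℕ) : ℂ) :=
    ⟨by exact_mod_cast Monoid.exponent_ne_zero_of_finite⟩
  exact CommGroup.monoidHom_mulEquiv_of_hasEnoughRootsOfUnity ↥K ℂ

theorem h8_exists_ne_one [Finite G] (K : Subgroup G) (hc : ∀ a ∈ K, ∀ b ∈ K, a * b = b * a)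
    {a : ↥K} (ha : a ≠ 1) : ∃ φ : Dual K, φ a ≠ 1 := by
  let _ : CommGroup ↥K := h8_commGroup K hc
  have : NeZero ((Monoid.exponent ↥K : ℕ) : ℂ) :=
    ⟨by exact_mod_cast Monoid.exponent_ne_zero_of_finite⟩
  exact CommGroup.exists_apply_ne_one_of_hasEnoughRootsOfUnity ↥K ℂ ha

/-! ## U1 - U9 -/

/-- U1 -/
theorem dual_card [Finite G] {t : G} {K : Subgroup G} (I : Inp t K) :
    Fintype.card (Dual K) = Nat.card K := by
  obtain ⟨e⟩ := h8_dual_equiv K I.comm
  rw [← Nat.card_eq_fintype_card]
  exact Nat.card_congr e.toEquiv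

/-- U2: column orthogonality -/
theorem sum_dual_apply [Finite G] {t : G} {K : Subgroup G} (I : Inp t K) (x : ↥K) (hx : x ≠ 1) :
    ∑ l : Dual K, lam l x = 0 := by
  obtain ⟨m, hm⟩ := h8_exists_ne_one K I.comm hx
  have h1 : lam m x * ∑ l : Dual K, lam l x = ∑ l : Dual K, lam l x := by
    rw [Finset.mul_sum]
    have : ∀ l : Dual K, lam m x * lam l x = lam (m * l) x := fun l => (lam_mul_left m l x).symm
    simp_rw [this]
    exact Fintype.sum_equiv (Equiv.mulLeft m) _ _ (fun l => rfl)
  have h2 : lam m x ≠ 1 := by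
    intro h
    apply hm
    apply Units.ext
    rw [Units.val_one]
    exact h
  have h3 : (lam m x - 1) * ∑ l : Dual K, lam l x = 0 := by
    rw [sub_mul, h1, one_mul, sub_self]
  rcases mul_eq_zero.mp h3 with h | h
  · exact absurd (sub_eq_zero.mp h) h2
  · exact h

theorem h8_lam_mul_conj [Finite G] {K : Subgroup G} (l : Dual K) (x : ↥K) :
    lam l x * conj (lam l x) = 1 := by
  rw [← (lam_inv l x).1, ← lam_mul, mul_inv_cancel, lam_one_right]

/-- U3: row orthogonality -/
theorem dual_orth [Fintype G] {K : Subgroup G} (l m : Dual K) :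
    (Nat.card K : ℂ)⁻¹ * ∑ x : ↥K, lam l x * conj (lam m x) = if l = m then 1 else 0 := by
  have hk : (Nat.card K : ℂ) ≠ 0 := by
    have : Nat.card K ≠ 0 := Nat.card_pos.ne'
    exact_mod_cast this
  by_cases hlm : l = m
  · subst hlm
    rw [if_pos rfl]
    have : ∀ x : ↥K, lam l x * conj (lam l x) = 1 := fun x => h8_lam_mul_conj l x
    simp_rw [this]
    rw [Finset.sum_const, Finset.card_univ, nsmul_eq_mul, mul_one, ← Nat.card_eq_fintype_card]
    exact inv_mul_cancel₀ hk
  · rw [if_neg hlm]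
    have h1 : ∀ x : ↥K, lam l x * conj (lam m x) = ((Units.coeHom ℂ).comp (l * m⁻¹)) x := by
      intro x
      rw [← (lam_inv m x).2, ← lam_mul_left]
      rfl
    simp_rw [h1]
    have hne : (Units.coeHom ℂ).comp (l * m⁻¹) ≠ 1 := by
      intro h
      apply hlm
      have h2 : l * m⁻¹ = 1 := by
        apply MonoidHom.ext
        intro x
        apply Units.ext
        have := DFunLike.congr_fun h x
        simpa using this
      exact mul_inv_eq_one.mp h2
    rw [sum_hom_units_eq_zero _ hne, mul_zero]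

/-- U4: the unique element of order 2 of the dual group -/
theorem exists_l0 [Finite G] {t : G} {K : Subgroup G} (I : Inp t K) :
    ∃ l0 : Dual K, l0 ≠ 1 ∧ l0 * l0 = 1 ∧ (∀ l : Dual K, l * l = 1 → l = 1 ∨ l = l0) := by
  obtain ⟨e⟩ := h8_dual_equiv K I.comm
  have htt : t * t = 1 := by
    have := pow_orderOf_eq_one t
    rwa [I.ht, pow_two] at this
  have ht1 : t ≠ 1 := by
    intro h
    have := I.ht
    rw [h, orderOf_one] at this
    omega
  refine ⟨e.symm ⟨t, I.htK⟩, ?_, ?_, ?_⟩
  · intro h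
    have h1 : e (e.symm ⟨t, I.htK⟩) = e 1 := congrArg e h
    rw [e.apply_symm_apply, map_one] at h1
    exact ht1 (congrArg Subtype.val h1)
  · rw [← map_mul]
    have : (⟨t, I.htK⟩ : ↥K) * ⟨t, I.htK⟩ = 1 := Subtype.ext htt
    rw [this, map_one]
  · intro l hl
    by_cases h1 : e l = 1
    · left
      have := congrArg e.symm h1
      rwa [e.symm_apply_apply, map_one] at this
    · right
      have h2 : e l * e l = 1 := by rw [← map_mul, hl, map_one]
      have h3 : ((e l : ↥K) : G) * ((e l : ↥K) : G) = 1 := congrArg Subtype.val h2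
      have h4 : ((e l : ↥K) : G) ≠ 1 := fun h => h1 (Subtype.ext h)
      have h5 : orderOf ((e l : ↥K) : G) = 2 := by
        apply orderOf_eq_prime
        · rw [pow_two]; exact h3
        · exact h4
      have h6 := I.uniq _ (e l).2 h5
      have h7 : e l = ⟨t, I.htK⟩ := Subtype.ext h6
      rw [← h7, e.symm_apply_apply]

/-- U5: Fourier inversion on `K` -/
theorem fourier_inv [Fintype G] {t : G} {K : Subgroup G} (I : Inp t K) (f : ↥K → ℂ) (x : ↥K) :
    f x = ∑ l : Dual K, ((Nat.card K : ℂ)⁻¹ * ∑ y : ↥K, f y * conj (lam l y)) * lam l x := by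
  have hk : (Nat.card K : ℂ) ≠ 0 := by
    have : Nat.card K ≠ 0 := Nat.card_pos.ne'
    exact_mod_cast this
  have h1 : ∀ l : Dual K, ((Nat.card K : ℂ)⁻¹ * ∑ y : ↥K, f y * conj (lam l y)) * lam l x =
      (Nat.card K : ℂ)⁻¹ * ∑ y : ↥K, f y * lam l (x * y⁻¹) := by
    intro l
    rw [mul_assoc, Finset.sum_mul]
    congr 1
    apply Finset.sum_congr rfl
    intro y _
    rw [lam_mul, (lam_inv l y).1]
    ring
  simp_rw [h1]
  rw [← Finset.mul_sum, Finset.sum_comm]
  have h2 : ∀ y : ↥K, ∑ l : Dual K, f y * lam l (x * y⁻¹) =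
      if y = x then f x * (Nat.card K : ℂ) else 0 := by
    intro y
    rw [← Finset.mul_sum]
    by_cases hyx : y = x
    · subst hyx
      rw [if_pos rfl, mul_inv_cancel]
      simp_rw [lam_one_right]
      rw [Finset.sum_const, Finset.card_univ, nsmul_eq_mul, mul_one, dual_card I]
    · rw [if_neg hyx, sum_dual_apply I (x * y⁻¹), mul_zero]
      intro h
      apply hyx
      have := mul_inv_eq_one.mp h
      exact this.symm
  simp_rw [h2]
  rw [Finset.sum_ite_eq' Finset.univ x, if_pos (Finset.mem_univ x)]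
  field_simp

/-- U6: values at the involution -/
theorem lam_t [Finite G] {t : G} {K : Subgroup G} (I : Inp t K) (l : Dual K) :
    lam l ⟨t, I.htK⟩ = 1 ∨ lam l ⟨t, I.htK⟩ = -1 := by
  have htt : t * t = 1 := by
    have := pow_orderOf_eq_one t
    rwa [I.ht, pow_two] at this
  have h1 : lam l ⟨t, I.htK⟩ * lam l ⟨t, I.htK⟩ = 1 := by
    rw [← lam_mul]
    have : (⟨t, I.htK⟩ : ↥K) * ⟨t, I.htK⟩ = 1 := Subtype.ext htt
    rw [this, lam_one_right]
  exact mul_self_eq_one_iff.mp h1

/-- U7: splitting a sum over the dual group -/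
theorem sum_dual_split [Finite G] {K : Subgroup G} (l0 : Dual K) (hl0 : l0 ≠ 1 ∧ l0 * l0 = 1)
    (hl0u : ∀ l : Dual K, l * l = 1 → l = 1 ∨ l = l0) (g : Dual K → ℂ) :
    ∑ l : Dual K, g l = g 1 + g l0 + ∑ l : Dual K, (if l * l = 1 then 0 else g l) := by
  have h1 : ∀ l : Dual K, g l = (if l * l = 1 then g l else 0) + (if l * l = 1 then 0 else g l) := by
    intro l
    by_cases h : l * l = 1
    · rw [if_pos h, if_pos h, add_zero]
    · rw [if_neg h, if_neg h, zero_add]
  have h2 : ∑ l : Dual K, g l = ∑ l : Dual K, (if l * l = 1 then g l else 0) +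
      ∑ l : Dual K, (if l * l = 1 then 0 else g l) := by
    rw [← Finset.sum_add_distrib]
    exact Finset.sum_congr rfl (fun l _ => h1 l)
  rw [h2]
  congr 1
  rw [← Finset.sum_filter]
  have h3 : Finset.filter (fun l : Dual K => l * l = 1) Finset.univ = {1, l0} := by
    ext l
    simp only [Finset.mem_filter, Finset.mem_univ, true_and, Finset.mem_insert,
      Finset.mem_singleton]
    constructor
    · exact hl0u l
    · rintro (rfl | rfl)
      · exact one_mul (1 : Dual K)
      · exact hl0.2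
  rw [h3, Finset.sum_pair (Ne.symm hl0.1)]

/-- U8: the number of `l` with `l² ≠ 1` is `k - 2` -/
theorem sum_sq_ne_one_const [Finite G] {t : G} {K : Subgroup G} (I : Inp t K) (l0 : Dual K)
    (hl0 : l0 ≠ 1 ∧ l0 * l0 = 1) (hl0u : ∀ l : Dual K, l * l = 1 → l = 1 ∨ l = l0) (c : ℂ) :
    ∑ l : Dual K, (if l * l = 1 then (0 : ℂ) else c) = ((Nat.card K : ℂ) - 2) * c := by
  have h1 := sum_dual_split l0 hl0 hl0u (fun _ => c)
  rw [Finset.sum_const, Finset.card_univ, nsmul_eq_mul, dual_card I] at h1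
  linear_combination -h1

/-- U9: there is `m` with `m² ≠ 1` -/
theorem exists_sq_ne_one [Finite G] {t : G} {K : Subgroup G} (I : Inp t K) :
    ∃ m : Dual K, m * m ≠ 1 := by
  by_contra hcon
  push Not at hcon
  obtain ⟨l0, _, _, hl0u⟩ := exists_l0 I
  have h1 : (Finset.univ : Finset (Dual K)) ⊆ {1, l0} := by
    intro l _
    rcases hl0u l (hcon l) with h | h
    · rw [h]; exact Finset.mem_insert_self _ _
    · rw [h]; exact Finset.mem_insert_of_mem (Finset.mem_singleton_self _)
  have h2 := Finset.card_le_card h1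
  rw [Finset.card_univ, dual_card I] at h2
  have h3 : ({1, l0} : Finset (Dual K)).card ≤ 2 := Finset.card_le_two
  have := I.k4
  omega

end Cfsg.Agent.Helper1.BswCh
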