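import Mathlib
import Cfsg.Prelude.Def_Characters
import Cfsg.Agent.Helper1.BswChDefs
import Cfsg.Agent.Helper6.IndFun
import Cfsg.Agent.Helper8.BswCh_HU
import Cfsg.Agent.Helper6.BswCh_HC
import Cfsg.Agent.Helper4.BswCh_HC7_8

/-!
# S3282 (abstract Brauer-Suzuki-Wall), character side, block HM: the Gram matrix of the `D_l`.
-/

set_option autoImplicit false

namespace Cfsg.Agent.Helper1.BswCh

open scoped ComplexConjugate Classical
open Cfsg.Agent.Lead.Bsw (F nInv)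

universe u

variable {G : Type u} [Group G]

/-- M0 -/
theorem Dl_one [Fintype G] (K : Subgroup G) : Dl K (1 : Dual K) = 0 := by
  rw [Dl_def]
  have : (fun x : ↥K => 1 - lam (1 : Dual K) x) = 0 := by
    funext x
    rw [lam_one_left, sub_self]
    rfl
  rw [this]
  exact Cfsg.Agent.Helper6.indFun_zero K

/-- M0' -/
theorem ai_one_left [Fintype G] (K : Subgroup G) (ψ : Cfsg.IrrCharacter G) :
    ai K (1 : Dual K) ψ = 0 := by
  rw [ai_def, Dl_one]
  have : Cfsg.classInner (0 : G → ℂ) (ψ : G → ℂ) = 0 := by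
    unfold Cfsg.classInner
    simp
  rw [this]
  simp

theorem h8_card_ne_zero [Finite G] (K : Subgroup G) : (Nat.card K : ℂ) ≠ 0 := by
  have : Nat.card K ≠ 0 := Nat.card_pos.ne'
  exact_mod_cast this

/-- `k⁻¹ ∑ λ_l = [l = 1]`. -/
theorem h8_sum_lam [Fintype G] {K : Subgroup G} (l : Dual K) :
    (Nat.card K : ℂ)⁻¹ * ∑ x : ↥K, lam l x = if l = 1 then 1 else 0 := by
  have := dual_orth l (1 : Dual K)
  simp_rw [lam_one_left, map_one, mul_one] at this
  exact this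

/-- `k⁻¹ ∑ 1 = 1`. -/
theorem h8_sum_one [Fintype G] (K : Subgroup G) :
    (Nat.card K : ℂ)⁻¹ * ∑ _x : ↥K, (1 : ℂ) = 1 := by
  rw [Finset.sum_const, Finset.card_univ, nsmul_eq_mul, mul_one, ← Nat.card_eq_fintype_card]
  exact inv_mul_cancel₀ (h8_card_ne_zero K)

/-- M1 -/
theorem gram [Fintype G] [Fintype (Cfsg.IrrCharacter G)] {t : G} {K : Subgroup G} (I : Inp t K)
    (l m : Dual K) (hl : l ≠ 1) (hm : m ≠ 1) :
    ∑ ψ : Cfsg.IrrCharacter G, ai K l ψ * ai K m ψ = 2 + kd l m + kd l m⁻¹ := by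
  have h1 := Dl_parseval K l m
  rw [classInner_Dl K l (Dl K m) (Dl_isClassFunction K m)] at h1
  have hpt : ∀ x : ↥K, (1 - lam l x) * conj (Dl K m (x : G)) =
      2 * (lam (1 : Dual K) x * conj (lam (1 : Dual K) x)) - lam (1 : Dual K) x * conj (lam m x)
        - lam m x * conj (lam (1 : Dual K) x) - 2 * (lam l x * conj (lam (1 : Dual K) x))
        + lam l x * conj (lam m⁻¹ x) + lam l x * conj (lam m x) := by
    intro x
    rw [Dl_apply_mem I m x, (lam_inv m x).1, (lam_inv m x).2, lam_one_left]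
    simp only [map_add, map_sub, map_one, Complex.conj_conj]
    ring
  have hsum : ∑ x : ↥K, (1 - lam l x) * conj (Dl K m (x : G)) =
      2 * (∑ x : ↥K, lam (1 : Dual K) x * conj (lam (1 : Dual K) x))
        - (∑ x : ↥K, lam (1 : Dual K) x * conj (lam m x))
        - (∑ x : ↥K, lam m x * conj (lam (1 : Dual K) x))
        - 2 * (∑ x : ↥K, lam l x * conj (lam (1 : Dual K) x))
        + (∑ x : ↥K, lam l x * conj (lam m⁻¹ x)) + ∑ x : ↥K, lam l x * conj (lam m x) := by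
    simp only [Finset.mul_sum, ← Finset.sum_sub_distrib, ← Finset.sum_add_distrib]
    exact Finset.sum_congr rfl (fun x _ => hpt x)
  have hval : (Nat.card K : ℂ)⁻¹ * ∑ x : ↥K, (1 - lam l x) * conj (Dl K m (x : G)) =
      2 + (if l = m⁻¹ then 1 else 0) + (if l = m then 1 else 0) := by
    rw [hsum]
    have e : (Nat.card K : ℂ)⁻¹ *
        (2 * (∑ x : ↥K, lam (1 : Dual K) x * conj (lam (1 : Dual K) x))
        - (∑ x : ↥K, lam (1 : Dual K) x * conj (lam m x))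
        - (∑ x : ↥K, lam m x * conj (lam (1 : Dual K) x))
        - 2 * (∑ x : ↥K, lam l x * conj (lam (1 : Dual K) x))
        + (∑ x : ↥K, lam l x * conj (lam m⁻¹ x)) + ∑ x : ↥K, lam l x * conj (lam m x)) =
        2 * ((Nat.card K : ℂ)⁻¹ * ∑ x : ↥K, lam (1 : Dual K) x * conj (lam (1 : Dual K) x))
        - ((Nat.card K : ℂ)⁻¹ * ∑ x : ↥K, lam (1 : Dual K) x * conj (lam m x))
        - ((Nat.card K : ℂ)⁻¹ * ∑ x : ↥K, lam m x * conj (lam (1 : Dual K) x))
        - 2 * ((Nat.card K : ℂ)⁻¹ * ∑ x : ↥K, lam l x * conj (lam (1 : Dual K) x))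
        + ((Nat.card K : ℂ)⁻¹ * ∑ x : ↥K, lam l x * conj (lam m⁻¹ x))
        + ((Nat.card K : ℂ)⁻¹ * ∑ x : ↥K, lam l x * conj (lam m x)) := by ring
    rw [e, dual_orth (1 : Dual K) 1, dual_orth (1 : Dual K) m, dual_orth m 1, dual_orth l 1,
      dual_orth l m⁻¹, dual_orth l m, if_pos rfl, if_neg (Ne.symm hm), if_neg hm, if_neg hl]
    ring
  rw [hval] at h1
  have h2 : ((∑ ψ : Cfsg.IrrCharacter G, ai K l ψ * ai K m ψ : ℤ) : ℂ) =
      ((2 + kd l m + kd l m⁻¹ : ℤ) : ℂ) := by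
    rw [← h1, kd_def, kd_def]
    push_cast
    ring
  exact_mod_cast h2

/-- M2 -/
theorem ai_one [Fintype G] {t : G} {K : Subgroup G} (I : Inp t K) (l : Dual K) (hl : l ≠ 1)
    (o : Cfsg.IrrCharacter G) (ho : (o : G → ℂ) = fun _ => 1) : ai K l o = 1 := by
  have h1 := classInner_Dl_eq_ai K l o
  have hcl : Cfsg.IsClassFunction G (o : G → ℂ) := by
    rw [ho]
    intro g h
    rfl
  rw [classInner_Dl K l (o : G → ℂ) hcl, ho] at h1
  have h2 : (Nat.card K : ℂ)⁻¹ * ∑ x : ↥K, (1 - lam l x) * conj ((fun _ : G => (1 : ℂ)) (x : G)) =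
      1 := by
    simp only [map_one, mul_one]
    rw [Finset.sum_sub_distrib, mul_sub, h8_sum_one K, h8_sum_lam l, if_neg hl, sub_zero]
  rw [h2] at h1
  exact_mod_cast h1.symm

/-- M3 -/
theorem ai_deg [Fintype G] [Fintype (Cfsg.IrrCharacter G)] {t : G} {K : Subgroup G} (I : Inp t K)
    (l : Dual K) : ∑ ψ : Cfsg.IrrCharacter G, ai K l ψ * dg ψ = 0 := by
  have h1 := Dl_expand K l (1 : G)
  have h2 := Dl_apply_mem I l (1 : ↥K)
  rw [inv_one, lam_one_right, sub_self, add_zero] at h2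
  have h3 : Dl K l (1 : G) = 0 := h2
  rw [h3] at h1
  have h4 : ((∑ ψ : Cfsg.IrrCharacter G, ai K l ψ * dg ψ : ℤ) : ℂ) = 0 := by
    rw [h1]
    push_cast
    apply Finset.sum_congr rfl
    intro ψ _
    rw [(dg_spec ψ).1]
  exact_mod_cast h4

/-- `D_{l⁻¹} = D_l`. -/
theorem h8_Dl_inv [Fintype G] {t : G} {K : Subgroup G} (I : Inp t K) (l : Dual K) :
    Dl K l⁻¹ = Dl K l := by
  funext y
  by_cases hy : ConjInto K y
  · obtain ⟨g, hg⟩ := hy
    have h1 := Dl_isClassFunction K l⁻¹ y g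
    have h2 := Dl_isClassFunction K l y g
    rw [← h1, ← h2]
    have h3 := Dl_apply_mem I l⁻¹ ⟨g * y * g⁻¹, hg⟩
    have h4 := Dl_apply_mem I l ⟨g * y * g⁻¹, hg⟩
    rw [h3, h4, (lam_inv l⁻¹ _).1, (lam_inv l _).1, (lam_inv l _).2, Complex.conj_conj]
    ring
  · rw [Dl_apply_not_conj K l⁻¹ hy, Dl_apply_not_conj K l hy]

/-- M4 -/
theorem ai_inv [Fintype G] {t : G} {K : Subgroup G} (I : Inp t K) (l : Dual K)
    (ψ : Cfsg.IrrCharacter G) : ai K l⁻¹ ψ = ai K l ψ := by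
  rw [ai_def, ai_def, h8_Dl_inv I l]

end Cfsg.Agent.Helper1.BswCh
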