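import Mathlib
import Cfsg.Prelude.Def_Characters
import Cfsg.Agent.Helper1.BswChDefs
import Cfsg.Agent.Helper6.IndFun
import Cfsg.Agent.Helper8.BswCh_HU
import Cfsg.Agent.Helper8.BswCh_HM
import Cfsg.Agent.Helper6.BswCh_HC
import Cfsg.Agent.Helper4.BswCh_HC7_8
import Cfsg.Agent.Helper4.BswCh_HC9

/-!
# S3282 (abstract Brauer-Suzuki-Wall), character side, pieces HV1 (values of the irreducible
characters on `K ∖ 1`) and HE (the structure equations).
-/

set_option autoImplicit false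

namespace Cfsg.Agent.Helper1.BswCh

open scoped ComplexConjugate Classical
open Cfsg.Agent.Lead.Bsw (F nInv)

universe u

variable {G : Type u} [Group G]

/-- V1: values of the irreducible characters on `K ∖ 1` -/
theorem irr_apply_mem [Fintype G] {t : G} {K : Subgroup G} (I : Inp t K)
    (ψ : Cfsg.IrrCharacter G) (x : ↥K) (hx : x ≠ 1) :
    (ψ : G → ℂ) (x : G) = - ∑ l : Dual K, (ai K l ψ : ℂ) * lam l x := by
  have hF := fourier_inv I (fun y : ↥K => (ψ : G → ℂ) (y : G)) x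
  have hcl : ∀ l : Dual K,
      (Nat.card K : ℂ)⁻¹ * ∑ y : ↥K, (ψ : G → ℂ) (y : G) * conj (lam l y) =
      (Nat.card K : ℂ)⁻¹ * ∑ y : ↥K, (ψ : G → ℂ) (y : G) - (ai K l ψ : ℂ) := by
    intro l
    have h1 := classInner_Dl_eq_ai K l ψ
    rw [classInner_Dl K l (ψ : G → ℂ) (irr_isClassFunction ψ)] at h1
    have h2 := congrArg conj h1
    rw [map_mul, map_inv₀, map_natCast, map_sum, map_intCast] at h2
    have h3 : ∀ y : ↥K, conj ((1 - lam l y) * conj ((ψ : G → ℂ) (y : G))) =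
        (ψ : G → ℂ) (y : G) - (ψ : G → ℂ) (y : G) * conj (lam l y) := by
      intro y
      rw [map_mul, map_sub, map_one, Complex.conj_conj]
      ring
    simp_rw [h3] at h2
    rw [Finset.sum_sub_distrib, mul_sub] at h2
    linear_combination -h2
  rw [hF]
  simp_rw [hcl, sub_mul]
  rw [Finset.sum_sub_distrib, ← Finset.mul_sum, sum_dual_apply I x hx, mul_zero, zero_sub]

theorem h8_nInv_ne_zero [Finite G] {t : G} {K : Subgroup G} (I : Inp t K) : (nInv G : ℂ) ≠ 0 := by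
  have h : nInv G ≠ 0 := by
    intro h0
    have := I.hn
    rw [h0, Nat.zero_mod] at this
    omega
  exact_mod_cast h

/-- E: the structure equations -/
theorem struct_eq [Fintype G] [Fintype (Cfsg.IrrCharacter G)] {t : G} {K : Subgroup G}
    (I : Inp t K) (l : Dual K) (hl : l ≠ 1) :
    ∑ ψ : Cfsg.IrrCharacter G, (ai K l ψ : ℂ) * ((ψ : G → ℂ) t) ^ 2 / (ψ : G → ℂ) 1 =
      2 * (Nat.card K : ℂ) ^ 2 / (nInv G : ℂ) := by
  have hk0 : (Nat.card K : ℂ) ≠ 0 := h8_card_ne_zero K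
  have hn0 : (nInv G : ℂ) ≠ 0 := h8_nInv_ne_zero I
  have hG0 : (Nat.card G : ℂ) ≠ 0 := by
    have : Nat.card G ≠ 0 := Nat.card_pos.ne'
    exact_mod_cast this
  -- first computation
  have hX1 : Cfsg.classInner (Dl K l) (fun y => (F y : ℂ)) = (Nat.card K : ℂ) := by
    rw [classInner_Dl K l _ F_isClassFunction]
    have hpt : ∀ x : ↥K, (1 - lam l x) * conj ((fun y => (F y : ℂ)) (x : G)) =
        (1 - lam l x) * (Nat.card K : ℂ) := by
      intro x
      by_cases hx : x = 1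
      · subst hx
        rw [lam_one_right, sub_self, zero_mul, zero_mul]
      · have hx' : (x : G) ≠ 1 := fun h => hx (Subtype.ext h)
        simp only []
        rw [I.hF x x.2 hx', map_natCast]
    simp_rw [hpt]
    rw [← Finset.sum_mul, Finset.sum_sub_distrib, ← mul_assoc, mul_sub, h8_sum_one K, h8_sum_lam l,
      if_neg hl, sub_zero, one_mul]
  -- second computation
  have hX2 : Cfsg.classInner (Dl K l) (fun y => (F y : ℂ)) =
      (nInv G : ℂ) ^ 2 / (Nat.card G : ℂ) *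
        ∑ ψ : Cfsg.IrrCharacter G, (ai K l ψ : ℂ) * ((ψ : G → ℂ) t) ^ 2 / (ψ : G → ℂ) 1 := by
    have hpt : ∀ y : G, Dl K l y * conj ((fun y => (F y : ℂ)) y) =
        (nInv G : ℂ) ^ 2 / (Nat.card G : ℂ) * ∑ ψ : Cfsg.IrrCharacter G,
          (((ψ : G → ℂ) t) ^ 2 / (ψ : G → ℂ) 1) * (Dl K l y * conj ((ψ : G → ℂ) y)) := by
      intro y
      simp only []
      rw [map_natCast, F_eq_sum I y, mul_left_comm, Finset.mul_sum]
      congr 1
      apply Finset.sum_congr rfl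
      intro ψ _
      ring
    unfold Cfsg.classInner
    simp_rw [hpt]
    rw [← Finset.mul_sum, Finset.sum_comm, mul_left_comm]
    congr 1
    rw [Finset.mul_sum]
    apply Finset.sum_congr rfl
    intro ψ _
    rw [← Finset.mul_sum, mul_left_comm]
    have h1 := classInner_Dl_eq_ai K l ψ
    unfold Cfsg.classInner at h1
    rw [h1]
    ring
  rw [hX1] at hX2
  have hG : (Nat.card G : ℂ) = 2 * (Nat.card K : ℂ) * (nInv G : ℂ) := by
    have := I.hG
    exact_mod_cast this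
  rw [hG] at hX2
  have h3 : ((nInv G : ℂ) ^ 2 / (2 * (Nat.card K : ℂ) * (nInv G : ℂ)) *
      ∑ ψ : Cfsg.IrrCharacter G, (ai K l ψ : ℂ) * ((ψ : G → ℂ) t) ^ 2 / (ψ : G → ℂ) 1) *
      (2 * (Nat.card K : ℂ) * (nInv G : ℂ)) = (nInv G : ℂ) ^ 2 *
      ∑ ψ : Cfsg.IrrCharacter G, (ai K l ψ : ℂ) * ((ψ : G → ℂ) t) ^ 2 / (ψ : G → ℂ) 1 := by
    generalize (∑ ψ : Cfsg.IrrCharacter G, (ai K l ψ : ℂ) * ((ψ : G → ℂ) t) ^ 2 /
      (ψ : G → ℂ) 1) = S
    field_simp
  rw [← hX2] at h3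
  rw [eq_div_iff hn0]
  apply mul_left_cancel₀ hn0
  linear_combination -h3

end Cfsg.Agent.Helper1.BswCh
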