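import Cfsg.Agent.Helper8.HallPetrescu
import Cfsg.Agent.Helper1.PGroup

/-!
# Regular `p`-groups (P. Hall), part A

Everything is stated for subgroups `H` of an ambient finite `p`-group `G`.
`RegSub p H`: `H` is regular.  Main result `subProp_of_regSub`: in a regular `H`,
`a ^ p = b ^ p ↔ (a⁻¹ * b) ^ p = 1`, and `a ^ p * b ^ p` is a `p`-th power of an element
of `⟨a, b⟩` (Huppert III.10.5, 10.6 for `n = 1`).
-/

set_option autoImplicit false

namespace Cfsg.Agent.Helper8.HP

open scoped commutatorElement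
open Subgroup

variable {G : Type*} [Group G]

/-- `H` is a regular `p`-group (P. Hall): `(ab)^p ≡ a^p b^p` modulo `℧₁(⟨a,b⟩')`. -/
def RegSub (p : ℕ) (H : Subgroup G) : Prop :=
  ∀ a ∈ H, ∀ b ∈ H, (a ^ p * b ^ p)⁻¹ * (a * b) ^ p ∈
    agemo p ⁅closure ({a, b} : Set G), closure ({a, b} : Set G)⁆

theorem RegSub.mono {p : ℕ} {H K : Subgroup G} (h : K ≤ H) (hH : RegSub p H) : RegSub p K :=
  fun a ha b hb => hH a (h ha) b (h hb)

theorem closure_pair_le {H : Subgroup G} {a b : G} (ha : a ∈ H) (hb : b ∈ H) :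
    closure ({a, b} : Set G) ≤ H := by
  rw [closure_le]
  intro z hz
  rcases hz with rfl | rfl
  · exact ha
  · exact hb

theorem left_mem_closure_pair (a b : G) : a ∈ closure ({a, b} : Set G) :=
  subset_closure (by simp)

theorem right_mem_closure_pair (a b : G) : b ∈ closure ({a, b} : Set G) :=
  subset_closure (by simp)

theorem commutator_self_le (K : Subgroup G) : ⁅K, K⁆ ≤ K :=
  commutator_le.2 fun g₁ h₁ g₂ h₂ => by
    rw [commutatorElement_def]
    exact mul_mem (mul_mem (mul_mem h₁ h₂) (inv_mem h₁)) (inv_mem h₂)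

/-- Groups of class `< p` are regular. -/
theorem regSub_of_lcs_eq_bot {p : ℕ} (hp : p.Prime) {H : Subgroup G}
    (h : H.lowerCentralSeries (p - 1) = ⊥) : RegSub p H := by
  intro a ha b hb
  set L := closure ({a, b} : Set G)
  have hL : L ≤ H := closure_pair_le ha hb
  have h1 := mul_pow_mod hp (L := L) (left_mem_closure_pair a b) (right_mem_closure_pair a b)
  have h2 : L.lowerCentralSeries (p - 1) = ⊥ :=
    le_bot_iff.1 (h ▸ Subgroup.lowerCentralSeries_mono (p - 1) hL)
  rw [hpMod, h2, sup_bot_eq] at h1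
  exact h1

/-- If `N` is normalized by `K = ⟨a, b⟩` and contains `⁅a, b⁆`, it contains `K'`. -/
theorem commutator_closure_pair_le {a b : G} {N : Subgroup G}
    (hN : ∀ k ∈ closure ({a, b} : Set G), ∀ n ∈ N, k * n * k⁻¹ ∈ N) (hab : ⁅a, b⁆ ∈ N) :
    ⁅closure ({a, b} : Set G), closure ({a, b} : Set G)⁆ ≤ N := by
  set K := closure ({a, b} : Set G) with hK
  have hba : ⁅b, a⁆ ∈ N := by rw [← commutatorElement_inv]; exact inv_mem hab
  have key : ∀ g : G, ⁅a, g⁆ ∈ N → ⁅b, g⁆ ∈ N → ∀ x ∈ K, ⁅x, g⁆ ∈ N := by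
    intro g hag hbg x hx
    induction hx using closure_induction with
    | mem x hx =>
      rcases hx with rfl | rfl
      · exact hag
      · exact hbg
    | one => simp
    | mul x y hx hy ihx ihy =>
      have : ⁅x * y, g⁆ = x * ⁅y, g⁆ * x⁻¹ * ⁅x, g⁆ := by
        simp only [commutatorElement_def]; group
      rw [this]
      exact mul_mem (hN x hx _ ihy) ihx
    | inv x hx ihx =>
      have : ⁅x⁻¹, g⁆ = x⁻¹ * ⁅x, g⁆⁻¹ * x⁻¹⁻¹ := by
        simp only [commutatorElement_def]; group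
      rw [this]
      exact hN x⁻¹ (inv_mem hx) _ (inv_mem ihx)
  have h1 : ∀ x ∈ K, ⁅x, a⁆ ∈ N := key a (by simp) hba
  have h2 : ∀ x ∈ K, ⁅x, b⁆ ∈ N := key b hab (by simp)
  rw [commutator_le]
  intro x hx y hy
  induction hy using closure_induction with
  | mem y hy =>
    rcases hy with rfl | rfl
    · exact h1 x hx
    · exact h2 x hx
  | one => simp
  | mul y z hy hz ihy ihz =>
    have : ⁅x, y * z⁆ = ⁅x, y⁆ * (y * ⁅x, z⁆ * y⁻¹) := by
      simp only [commutatorElement_def]; group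
    rw [this]
    exact mul_mem ihy (hN y hy _ ihz)
  | inv y hy ihy =>
    have : ⁅x, y⁻¹⁆ = y⁻¹ * ⁅x, y⁆⁻¹ * y⁻¹⁻¹ := by
      simp only [commutatorElement_def]; group
    rw [this]
    exact hN y⁻¹ (inv_mem hy) _ (inv_mem ihy)

/-- In a finite `p`-group, `⟨x⟩ P' = P` forces `P` to be abelian. -/
theorem comm_of_closure_sup_commutator_eq_top {P : Type*} [Group P] [Finite P] {p : ℕ}
    [Fact p.Prime] (hP : IsPGroup p P) (x : P) (h : closure {x} ⊔ commutator P = ⊤) :
    ∀ u v : P, u * v = v * u := by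
  have h1 : closure {x} ⊔ frattini P = ⊤ := by
    rw [eq_top_iff, ← h]
    exact sup_le_sup_left (Cfsg.Agent.Helper1.IsPGroup.commutator_le_frattini hP) _
  have h2 : closure {x} = ⊤ := frattini_nongenerating h1
  intro u v
  have hu : u ∈ closure {x} := h2 ▸ mem_top u
  have hv : v ∈ closure {x} := h2 ▸ mem_top v
  rw [mem_closure_singleton] at hu hv
  obtain ⟨m, rfl⟩ := hu
  obtain ⟨n, rfl⟩ := hv
  exact (Commute.zpow_zpow_self x m n).eq

/-- Ambient version: a `p`-subgroup `K` with `K ≤ ⟨x⟩ K'` is abelian. -/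
theorem comm_of_le_closure_sup_commutator [Finite G] {p : ℕ} [Fact p.Prime] (hG : IsPGroup p G)
    {K : Subgroup G} {x : G} (hx : x ∈ K) (h : K ≤ closure {x} ⊔ ⁅K, K⁆) :
    ∀ u ∈ K, ∀ v ∈ K, u * v = v * u := by
  have hK : IsPGroup p K := hG.to_subgroup K
  have h1 : closure {(⟨x, hx⟩ : K)} ⊔ commutator K = ⊤ := by
    apply map_injective K.subtype_injective
    rw [Subgroup.map_sup, MonoidHom.map_closure, map_subtype_commutator, ← MonoidHom.range_eq_map,
      K.range_subtype]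
    apply le_antisymm
    · exact sup_le ((closure_le K).2 (by simpa using hx)) (commutator_self_le K)
    · simpa using h
  intro u hu v hv
  have := comm_of_closure_sup_commutator_eq_top hK ⟨x, hx⟩ h1 ⟨u, hu⟩ ⟨v, hv⟩
  exact congrArg Subtype.val this

/-- The conclusions of the regular theory for a pair. -/
def PairProp (p : ℕ) (a b : G) : Prop :=
  (a ^ p = b ^ p ↔ (a⁻¹ * b) ^ p = 1) ∧ ∃ c ∈ closure ({a, b} : Set G), a ^ p * b ^ p = c ^ p

/-- The conclusions of the regular theory for all pairs of a subgroup. -/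
def SubProp (p : ℕ) (H : Subgroup G) : Prop := ∀ a ∈ H, ∀ b ∈ H, PairProp p a b

theorem SubProp.mono {p : ℕ} {H K : Subgroup G} (h : K ≤ H) (hH : SubProp p H) : SubProp p K :=
  fun a ha b hb => hH a (h ha) b (h hb)

/-- Under `SubProp`, the elements of order dividing `p` form a subgroup. -/
def SubProp.omegaSub {p : ℕ} {H : Subgroup G} (hH : SubProp p H) : Subgroup G where
  carrier := {x | x ∈ H ∧ x ^ p = 1}
  one_mem' := ⟨one_mem H, one_pow p⟩
  inv_mem' := by
    rintro x ⟨hx, hx1⟩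
    exact ⟨inv_mem hx, by rw [inv_pow, hx1, inv_one]⟩
  mul_mem' := by
    rintro x y ⟨hx, hx1⟩ ⟨hy, hy1⟩
    refine ⟨mul_mem hx hy, ?_⟩
    have := (hH x⁻¹ (inv_mem hx) y hy).1.1 (by rw [inv_pow, hx1, hy1, inv_one])
    simpa using this

theorem SubProp.mem_omegaSub {p : ℕ} {H : Subgroup G} (hH : SubProp p H) {x : G} :
    x ∈ hH.omegaSub ↔ x ∈ H ∧ x ^ p = 1 := Iff.rfl

/-- Under `SubProp`, a subgroup generated by elements of order dividing `p` has exponent `p`. -/
theorem SubProp.pow_eq_one_of_closure {p : ℕ} {H : Subgroup G} (hH : SubProp p H) {S : Set G}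
    (hS : ∀ s ∈ S, s ∈ H ∧ s ^ p = 1) {x : G} (hx : x ∈ closure S) : x ^ p = 1 := by
  have : closure S ≤ hH.omegaSub := (closure_le _).2 fun s hs => hS s hs
  exact (this hx).2

/-- Under `SubProp`, `℧₁(H)` is the set of `p`-th powers. -/
theorem SubProp.mem_agemo_iff {p : ℕ} {H : Subgroup G} (hH : SubProp p H) {x : G} :
    x ∈ agemo p H ↔ ∃ h ∈ H, x = h ^ p := by
  constructor
  · intro hx
    induction hx using closure_induction with
    | mem x hx => exact hx
    | one => exact ⟨1, one_mem H, (one_pow p).symm⟩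
    | mul x y _ _ ihx ihy =>
      obtain ⟨h₁, hh₁, rfl⟩ := ihx
      obtain ⟨h₂, hh₂, rfl⟩ := ihy
      obtain ⟨c, hc, e⟩ := (hH h₁ hh₁ h₂ hh₂).2
      exact ⟨c, closure_pair_le hh₁ hh₂ hc, e⟩
    | inv x _ ihx =>
      obtain ⟨h, hh, rfl⟩ := ihx
      exact ⟨h⁻¹, inv_mem hh, (inv_pow h p).symm⟩
  · rintro ⟨h, hh, rfl⟩
    exact pow_mem_agemo p hh

theorem agemo_eq_bot_of_pow_eq_one {p : ℕ} {K : Subgroup G} (h : ∀ x ∈ K, x ^ p = 1) :
    agemo p K = ⊥ := by
  rw [eq_bot_iff, agemo, closure_le]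
  rintro y ⟨k, hk, rfl⟩
  simpa using h k hk

end Cfsg.Agent.Helper8.HP
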