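import Cfsg.Agent.Helper8.HallPetrescuB
import Cfsg.Agent.Helper4.ThreeSubgroups

/-!
# The Hall–Petrescu formula and its consequences modulo `p`

* `hall_petrescu_top` / `hall_petrescu`: `x ^ n * y ^ n = (x * y) ^ n * c₂ ^ C(n,2) * ⋯ * cₙ ^ C(n,n)`
  with `c i ∈ γ_i(⟨x, y⟩)` independent of `n` (as `tprod c n (n + 1)` with `c 0 = 1`, `c 1 = x * y`).
* `agemo p K`: the subgroup generated by the `p`-th powers of the elements of `K`.
* `mul_pow_mod`: `(x ^ p * y ^ p)⁻¹ * (x * y) ^ p ∈ ℧₁(γ₂ L) ⊔ γ_p L` when `x, y ∈ L`.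
* `commutator_pow_mod`: `(⁅x, y⁆ ^ p)⁻¹ * ⁅x ^ p, y⁆ ∈ ℧₁(γ₂ L) ⊔ γ_p L` when `x, ⁅x, y⁆ ∈ L`.
-/

set_option autoImplicit false

namespace Cfsg.Agent.Helper8.HP

open scoped commutatorElement

variable {G : Type*} [Group G]

/-- The lower central filtration `γ_i`, with `γ_0 = γ_1 = ⊤`. -/
def lcsFilt (G : Type*) [Group G] (i : ℕ) : Subgroup G := (⊤ : Subgroup G).lowerCentralSeries (i - 1)

theorem lcs_comm_le (G : Type*) [Group G] (i j : ℕ) :
    ⁅(⊤ : Subgroup G).lowerCentralSeries i, (⊤ : Subgroup G).lowerCentralSeries j⁆ ≤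
      (⊤ : Subgroup G).lowerCentralSeries (i + j + 1) :=
  Cfsg.Agent.Helper4.commutator_lowerCentralSeries_le
    (fun i => (⊤ : Subgroup G).lowerCentralSeries i) (fun _ => inferInstance) ⊤
    (fun i => le_of_eq (Subgroup.lowerCentralSeries_succ ⊤ i).symm) j i

theorem isFilt_lcsFilt (G : Type*) [Group G] : IsFilt (lcsFilt G) where
  anti := fun i j hij =>
    (⊤ : Subgroup G).lowerCentralSeries_antitone (Nat.sub_le_sub_right hij 1)
  comm := by
    intro i j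
    have hnorm : ∀ i, (lcsFilt G i).Normal := fun i => by unfold lcsFilt; infer_instance
    rcases Nat.eq_zero_or_pos i with rfl | hi
    · have := hnorm j
      simpa [lcsFilt] using Subgroup.commutator_le_right (⊤ : Subgroup G) (lcsFilt G j)
    rcases Nat.eq_zero_or_pos j with rfl | hj
    · have := hnorm i
      simpa [lcsFilt] using Subgroup.commutator_le_left (lcsFilt G i) (⊤ : Subgroup G)
    obtain ⟨i, rfl⟩ : ∃ i', i = i' + 1 := ⟨i - 1, by omega⟩
    obtain ⟨j, rfl⟩ : ∃ j', j = j' + 1 := ⟨j - 1, by omega⟩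
    have := lcs_comm_le G i j
    simpa [lcsFilt, show i + 1 + (j + 1) - 1 = i + j + 1 by omega] using this

/-- **Hall–Petrescu** in a group, with respect to its own lower central series. -/
theorem hall_petrescu_top (x y : G) :
    ∃ c : ℕ → G, c 0 = 1 ∧ c 1 = x * y ∧
      (∀ i, c i ∈ (⊤ : Subgroup G).lowerCentralSeries (i - 1)) ∧
      ∀ n, x ^ n * y ^ n = tprod c n (n + 1) := by
  have hF := isFilt_lcsFilt G
  have hx : IsPolyAll (lcsFilt G) 0 (fun n => x ^ n) :=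
    isPolyAll_pow hF.anti (by simp [lcsFilt])
  have hy : IsPolyAll (lcsFilt G) 0 (fun n => y ^ n) :=
    isPolyAll_pow hF.anti (by simp [lcsFilt])
  have hf := hx.mul hF hy
  obtain ⟨h1, h2⟩ := taylor hF hf
  refine ⟨coeff ((fun n => x ^ n) * fun n => y ^ n), ?_, ?_, h1, fun n => h2 n⟩
  · simp [coeff, rem]
  · simp [coeff, rem]

/-- **Hall–Petrescu**: for `x y : G` there are `c i ∈ γ_i(⟨x, y⟩)` (`c 0 = 1`, `c 1 = x * y`) with
`x ^ n * y ^ n = c 0 ^ C(n,0) * c 1 ^ C(n,1) * ⋯ * c n ^ C(n,n)` for all `n`. -/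
theorem hall_petrescu (x y : G) :
    ∃ c : ℕ → G, c 0 = 1 ∧ c 1 = x * y ∧
      (∀ i, c i ∈ (Subgroup.closure {x, y}).lowerCentralSeries (i - 1)) ∧
      ∀ n, x ^ n * y ^ n = tprod c n (n + 1) := by
  set L := Subgroup.closure ({x, y} : Set G) with hL
  have hxL : x ∈ L := Subgroup.subset_closure (by simp)
  have hyL : y ∈ L := Subgroup.subset_closure (by simp)
  obtain ⟨c, h0, h1, hc, hn⟩ := hall_petrescu_top (⟨x, hxL⟩ : L) ⟨y, hyL⟩
  have hmap : ∀ (n m : ℕ), ((tprod c n m : L) : G) = tprod (fun i => (c i : G)) n m := by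
    intro n m
    induction m with
    | zero => simp
    | succ m ih => simp [tprod_succ, ih]
  refine ⟨fun i => (c i : G), by simp [h0], by simp [h1], fun i => ?_, fun n => ?_⟩
  · rw [← Subgroup.top_subtype_lowerCentralSeries]
    exact Subgroup.mem_map_of_mem L.subtype (hc i)
  · have := congrArg (fun z : L => (z : G)) (hn n)
    simpa [hmap] using this

/-- `℧₁`: the subgroup generated by the `p`-th powers of the elements of `K`. -/
def agemo (p : ℕ) (K : Subgroup G) : Subgroup G :=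
  Subgroup.closure {y : G | ∃ h ∈ K, y = h ^ p}

theorem pow_mem_agemo (p : ℕ) {K : Subgroup G} {h : G} (hh : h ∈ K) : h ^ p ∈ agemo p K :=
  Subgroup.subset_closure ⟨h, hh, rfl⟩

theorem agemo_mono (p : ℕ) {K K' : Subgroup G} (h : K ≤ K') : agemo p K ≤ agemo p K' :=
  Subgroup.closure_mono fun _ ⟨k, hk, e⟩ => ⟨k, h hk, e⟩

theorem agemo_le (p : ℕ) (K : Subgroup G) : agemo p K ≤ K :=
  (Subgroup.closure_le K).2 fun _ ⟨_, hk, e⟩ => e ▸ pow_mem hk p

/-- `℧₁(γ₂ L) ⊔ γ_p L`, the modulus in the mod-`p` consequences of Hall–Petrescu. -/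
def hpMod (p : ℕ) (L : Subgroup G) : Subgroup G :=
  agemo p (L.lowerCentralSeries 1) ⊔ L.lowerCentralSeries (p - 1)

theorem hpMod_mono (p : ℕ) {L L' : Subgroup G} (h : L ≤ L') : hpMod p L ≤ hpMod p L' :=
  sup_le_sup (agemo_mono p (Subgroup.lowerCentralSeries_mono 1 h))
    (Subgroup.lowerCentralSeries_mono (p - 1) h)

theorem tprod_two_mul (c : ℕ → G) (n : ℕ) {N : Subgroup G} (m : ℕ)
    (h : ∀ i, 2 ≤ i → i < m + 2 → c i ^ (n.choose i) ∈ N) :
    (tprod c n 2)⁻¹ * tprod c n (m + 2) ∈ N := by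
  induction m with
  | zero => simp
  | succ m ih =>
    rw [show m + 1 + 2 = (m + 2) + 1 by omega, tprod_succ c n (m + 2), ← mul_assoc]
    exact mul_mem (ih fun i h2 hi => h i h2 (by omega)) (h (m + 2) (by omega) (by omega))

/-- Hall–Petrescu modulo `p`: `x ^ p * y ^ p ≡ (x * y) ^ p` modulo `℧₁(γ₂ L) γ_p(L)`. -/
theorem mul_pow_mod {p : ℕ} (hp : p.Prime) {L : Subgroup G} {x y : G} (hx : x ∈ L) (hy : y ∈ L) :
    (x ^ p * y ^ p)⁻¹ * (x * y) ^ p ∈ hpMod p L := by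
  have hle : Subgroup.closure ({x, y} : Set G) ≤ L := by
    rw [Subgroup.closure_le]
    intro z hz
    rcases hz with rfl | rfl
    · exact hx
    · exact hy
  refine hpMod_mono p hle ?_
  set M := Subgroup.closure ({x, y} : Set G)
  obtain ⟨c, h0, h1, hc, hn⟩ := hall_petrescu x y
  have h2 : tprod c p 2 = (x * y) ^ p := by
    simp [tprod_succ, h0, h1]
  have key : (tprod c p 2)⁻¹ * tprod c p ((p - 1) + 2) ∈ hpMod p M := by
    apply tprod_two_mul
    intro i hi2 hip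
    rcases Nat.lt_or_ge i p with hlt | hge
    · obtain ⟨m, hm⟩ := hp.dvd_choose_self (by omega : i ≠ 0) hlt
      rw [hm, mul_comm, pow_mul]
      refine Subgroup.mem_sup_left (pow_mem_agemo p (pow_mem ?_ m))
      exact M.lowerCentralSeries_antitone (by omega : 1 ≤ i - 1) (hc i)
    · obtain rfl : i = p := by omega
      rw [Nat.choose_self, pow_one]
      exact Subgroup.mem_sup_right (hc i)
  rw [h2, show p - 1 + 2 = p + 1 by have := hp.two_le; omega, ← hn p] at key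
  have := inv_mem key
  simpa [mul_inv_rev] using this

/-- Hall–Petrescu modulo `p` for commutators: `⁅x ^ p, y⁆ ≡ ⁅x, y⁆ ^ p` modulo
`℧₁(γ₂ L) γ_p(L)` where `L` contains `x` and `⁅x, y⁆`. -/
theorem commutator_pow_mod {p : ℕ} (hp : p.Prime) {L : Subgroup G} {x y : G} (hx : x ∈ L)
    (hxy : ⁅x, y⁆ ∈ L) : (⁅x, y⁆ ^ p)⁻¹ * ⁅x ^ p, y⁆ ∈ hpMod p L := by
  have h := mul_pow_mod hp (inv_mem hx) hxy
  have e1 : x⁻¹ * ⁅x, y⁆ = y * x⁻¹ * y⁻¹ := by
    rw [commutatorElement_def]; group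
  have e2 : (x⁻¹ * ⁅x, y⁆) ^ p = y * (x ^ p)⁻¹ * y⁻¹ := by
    rw [e1, ← inv_pow]
    exact conj_pow
  have e3 : ⁅x ^ p, y⁆ = x ^ p * (x⁻¹ * ⁅x, y⁆) ^ p := by
    rw [e2, commutatorElement_def]; group
  rw [e3]
  have e4 : (⁅x, y⁆ ^ p)⁻¹ * (x ^ p * (x⁻¹ * ⁅x, y⁆) ^ p) =
      ((x⁻¹) ^ p * ⁅x, y⁆ ^ p)⁻¹ * (x⁻¹ * ⁅x, y⁆) ^ p := by
    rw [inv_pow]; group
  rw [e4]; exact h

end Cfsg.Agent.Helper8.HP
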