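import Cfsg.Agent.Helper8.PolySymbol2
import Cfsg.Agent.Helper8.HallPetrescu

/-!
# Blackburn project, PIECE A: power calculus

* `coeff_mod_iterate_D` (Lemma T): Taylor coefficients are iterated derivatives at `0` up to one
  level deeper.
* `norm_formula` (Theorem A): the first-order norm formula.
-/

set_option autoImplicit false

namespace Cfsg.Agent.Helper8.MC

open scoped commutatorElement
open Cfsg.Agent.Helper8.HP

/-- Lemma T: for a polynomial sequence of shift `d ≥ 1` the Taylor coefficients are the iterated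
derivatives at `0`, up to one level deeper. -/
theorem coeff_mod_iterate_D {G : Type*} [Group G] {F : ℕ → Subgroup G} (hF : IsFilt F) {d : ℕ}
    (hd : 1 ≤ d) {f : ℕ → G} (hf : IsPolyAll F d f) (m : ℕ) :
    (coeff f m)⁻¹ * (D^[m] f) 0 ∈ F (m + d + 1) := by
  have h := inv_mem ((taylor_symbol' hF hd hf).2.1 m)
  rw [mul_inv_rev, inv_inv] at h
  rwa [show m + d + 1 = d + m + 1 by omega]

/-- The filtration `Θ 0 = Θ 1 = Θ 2 = T 1`, `Θ m = T (m - 1)`. -/
def thetaF {G : Type*} [Group G] (T : ℕ → Subgroup G) (m : ℕ) : Subgroup G :=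
  if m ≤ 1 then T 1 else T (m - 1)

theorem thetaF_of_two_le {G : Type*} [Group G] (T : ℕ → Subgroup G) {m : ℕ} (hm : 2 ≤ m) :
    thetaF T m = T (m - 1) := by
  have : ¬ m ≤ 1 := by omega
  simp [thetaF, this]

theorem thetaF_succ {G : Type*} [Group G] (T : ℕ → Subgroup G) {m : ℕ} (hm : 1 ≤ m) :
    thetaF T (m + 1) = T m := by
  rw [thetaF_of_two_le T (by omega)]; rfl

theorem thetaF_of_le_one {G : Type*} [Group G] (T : ℕ → Subgroup G) {m : ℕ} (hm : m ≤ 1) :
    thetaF T m = T 1 := by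
  simp [thetaF, hm]

theorem thetaF_eq {G : Type*} [Group G] (T : ℕ → Subgroup G) (m : ℕ) :
    thetaF T m = T (max (m - 1) 1) := by
  rcases Nat.lt_or_ge m 2 with h | h
  · rw [thetaF_of_le_one T (by omega), show max (m - 1) 1 = 1 by omega]
  · rw [thetaF_of_two_le T h, show max (m - 1) 1 = m - 1 by omega]

theorem isFilt_thetaF {G : Type*} [Group G] {T : ℕ → Subgroup G} (hanti : Antitone T)
    (hcomm : ∀ i j, 1 ≤ i → 1 ≤ j → ⁅T i, T j⁆ ≤ T (i + j + 1)) : IsFilt (thetaF T) where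
  anti := by
    intro i j hij
    rw [thetaF_eq, thetaF_eq]
    exact hanti (by omega)
  comm := by
    intro i j
    rw [thetaF_eq, thetaF_eq, thetaF_eq]
    refine (hcomm _ _ (le_max_right _ _) (le_max_right _ _)).trans (hanti ?_)
    omega

/-- `s ^ n * u * s ^ (-n) ∈ T j` for `u ∈ T j`. -/
theorem conjSeq_mem {G : Type*} [Group G] {T : ℕ → Subgroup G} {s : G}
    (hs : ∀ j, 1 ≤ j → ∀ x ∈ T j, ⁅s, x⁆ ∈ T (j + 1)) (hanti : Antitone T) {j : ℕ} (hj : 1 ≤ j)
    {u : G} (hu : u ∈ T j) (n : ℕ) : conjSeq s u n ∈ T j := by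
  induction n with
  | zero => simpa using hu
  | succ n ih =>
    have e : conjSeq s u (n + 1) = ⁅s, conjSeq s u n⁆ * conjSeq s u n := by
      simp only [conjSeq_apply, commutatorElement_def, pow_succ']; group
    rw [e]
    exact mul_mem (hanti (Nat.le_succ j) (hs j hj _ ih)) ih

theorem isPoly_conjSeq_theta {G : Type*} [Group G] {T : ℕ → Subgroup G} {s : G}
    (hs : ∀ j, 1 ≤ j → ∀ x ∈ T j, ⁅s, x⁆ ∈ T (j + 1)) (hanti : Antitone T) (k : ℕ) :
    ∀ (j : ℕ), 1 ≤ j → ∀ u ∈ T j, IsPoly (thetaF T) (j + 1) k (conjSeq s u) := by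
  induction k with
  | zero =>
    intro j hj u hu n
    rw [thetaF_succ T hj]
    exact conjSeq_mem hs hanti hj hu n
  | succ k ih =>
    intro j hj u hu
    refine ⟨fun n => ?_, ?_⟩
    · rw [thetaF_succ T hj]
      exact conjSeq_mem hs hanti hj hu n
    · rw [D_conjSeq]
      exact ih (j + 1) (by omega) _ (hs j hj u hu)

/-- The norm sequence `n ↦ s ^ n * (s⁻¹ * t) ^ n`. -/
def normSeq {G : Type*} [Group G] (s t : G) : ℕ → G := fun n => s ^ n * (s⁻¹ * t) ^ n

theorem D_normSeq {G : Type*} [Group G] (s t : G) : D (normSeq s t) = conjSeq s t := by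
  funext n
  simp only [D_apply, normSeq, conjSeq_apply]
  rw [pow_succ' (s⁻¹ * t) n, mul_inv_rev]
  generalize (s⁻¹ * t) ^ n = w
  group

theorem normSeq_succ {G : Type*} [Group G] (s t : G) (n : ℕ) :
    normSeq s t (n + 1) = conjSeq s t n * normSeq s t n := by
  rw [← D_normSeq]; simp [D_apply]

/-- Theorem A (first-order norm formula). `T 1 ≥ T 2 ≥ ⋯` with `⁅T i, T j⁆ ≤ T (i+j+1)`,
`⁅s, T j⁆ ⊆ T (j+1)`. Then `s^p (s⁻¹ t)^p = (s^(p-1) t s^-(p-1)) ⋯ (s t s⁻¹) t` equals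
`t^p * a * (⁅s,⁅s,…,⁅s,t⁆⁆⁆ * e)` (`p - 1` brackets) with `a ∈ ℧₁(T 2)`, `e ∈ T (p+1)`. -/
theorem norm_formula {G : Type*} [Group G] {p : ℕ} (hp : p.Prime) (T : ℕ → Subgroup G) (s : G)
    (hanti : Antitone T) (hcomm : ∀ i j, 1 ≤ i → 1 ≤ j → ⁅T i, T j⁆ ≤ T (i + j + 1))
    (hs : ∀ j, 1 ≤ j → ∀ x ∈ T j, ⁅s, x⁆ ∈ T (j + 1))
    (hbot : ∃ L, T L = ⊥) {t : G} (ht : t ∈ T 1) :
    ∃ a ∈ agemo p (T 2), ∃ e ∈ T (p + 1),
      s ^ p * (s⁻¹ * t) ^ p = t ^ p * a * ((fun x => ⁅s, x⁆)^[p - 1] t * e) := by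
  have _ := hbot
  have hF := isFilt_thetaF hanti hcomm
  have h2 := hp.two_le
  -- the norm sequence is polynomial of shift 1
  have hval : ∀ n, normSeq s t n ∈ T 1 := by
    intro n
    induction n with
    | zero => simp [normSeq]
    | succ n ih =>
      rw [normSeq_succ]
      exact mul_mem (conjSeq_mem hs hanti le_rfl ht n) ih
  have hpoly : IsPolyAll (thetaF T) 1 (normSeq s t) := by
    intro k
    cases k with
    | zero => intro n; rw [thetaF_of_le_one T le_rfl]; exact hval n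
    | succ k =>
      refine ⟨fun n => by rw [thetaF_of_le_one T le_rfl]; exact hval n, ?_⟩
      rw [D_normSeq]
      exact isPoly_conjSeq_theta hs hanti k 1 le_rfl t ht
  obtain ⟨hc1, hc2, hc3⟩ := taylor_symbol' hF le_rfl hpoly
  set c := coeff (normSeq s t) with hc
  have hc0 : c 0 = 1 := by simp [hc, coeff, rem, normSeq]
  have hc1' : c 1 = t := by simp [hc, coeff, rem, normSeq]
  have hcm : ∀ m, 1 ≤ m → c m ∈ T m := by
    intro m hm
    have := hc1 m
    rwa [show 1 + m = m + 1 by omega, thetaF_succ T hm] at this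
  -- the top coefficient
  have hDp : (D^[p] (normSeq s t)) 0 = (fun x => ⁅s, x⁆)^[p - 1] t := by
    obtain ⟨q, rfl⟩ : ∃ q, p = q + 1 := ⟨p - 1, by omega⟩
    rw [Function.iterate_succ_apply, D_normSeq, iterate_D_conjSeq]
    simp [adIter]
  have he : ((fun x => ⁅s, x⁆)^[p - 1] t)⁻¹ * c p ∈ T (p + 1) := by
    have := hc2 p
    rwa [hDp, show 1 + p + 1 = (p + 1) + 1 by omega, thetaF_succ T (by omega)] at this
  -- the middle part
  have hmid : (tprod c p 2)⁻¹ * tprod c p ((p - 2) + 2) ∈ agemo p (T 2) := by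
    apply tprod_two_mul
    intro i hi2 hip
    obtain ⟨m, hm⟩ := hp.dvd_choose_self (by omega : i ≠ 0) (by omega : i < p)
    rw [hm, mul_comm, pow_mul]
    exact pow_mem_agemo p (pow_mem (hanti hi2 (hcm i (by omega))) m)
  have h22 : tprod c p 2 = t ^ p := by
    simp [tprod_succ, hc0, hc1']
  rw [show p - 2 + 2 = p by omega, h22] at hmid
  refine ⟨_, hmid, _, he, ?_⟩
  have hN : s ^ p * (s⁻¹ * t) ^ p = tprod c p (p + 1) := hc3 p
  rw [hN, tprod_succ, Nat.choose_self, pow_one]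
  group

end Cfsg.Agent.Helper8.MC
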