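import Cfsg.Agent.Helper4.MCDefs
import Cfsg.Agent.Helper8.MCA

/-!
# Blackburn project, PIECE C2: the anchor `x ∈ γ_{n-p} ∖ γ_{n-p+1} ⇒ x ^ p ≠ 1`

`anchor_of` is the statement with the facts from pieces B2 (`IsUniform.mul_pow`,
`IsUniform.comm_lev` for `s⁻¹`) and C1 (`agemo_gam_le`) as explicit hypotheses.
-/

set_option autoImplicit false

namespace Cfsg.Agent.Helper8.MC

open scoped commutatorElement
open Cfsg.Agent.Helper8.HP (agemo)
open Cfsg.Agent.Helper4.MC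

section basics
variable {G : Type*} [Group G]

theorem gam_anti' : Antitone (gam G) := fun _ _ hij =>
  (⊤ : Subgroup G).lowerCentralSeries_antitone (Nat.sub_le_sub_right hij 1)

theorem gam_comm_le' {i j : ℕ} (hi : 1 ≤ i) (hj : 1 ≤ j) :
    ⁅gam G i, gam G j⁆ ≤ gam G (i + j) := by
  obtain ⟨i, rfl⟩ : ∃ i', i = i' + 1 := ⟨i - 1, by omega⟩
  obtain ⟨j, rfl⟩ : ∃ j', j = j' + 1 := ⟨j - 1, by omega⟩
  have := Cfsg.Agent.Helper8.HP.lcs_comm_le G i j
  simpa [gam, show i + 1 + (j + 1) - 1 = i + j + 1 by omega] using this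

theorem comm_mem_gam_succ' {i : ℕ} (hi : 1 ≤ i) (g : G) {x : G} (hx : x ∈ gam G i) :
    ⁅g, x⁆ ∈ gam G (i + 1) := by
  obtain ⟨i, rfl⟩ : ∃ i', i = i' + 1 := ⟨i - 1, by omega⟩
  have h1 : ⁅x, g⁆ ∈ (⊤ : Subgroup G).lowerCentralSeries (i + 1) :=
    Subgroup.commutator_mem_commutator hx (Subgroup.mem_top g)
  have h2 := inv_mem h1
  rwa [commutatorElement_inv] at h2

theorem gam_eq_bot' [Finite G] {p n : ℕ} [Fact p.Prime] (hG : IsMC p n G) {i : ℕ}
    (hi : n ≤ i) : gam G i = ⊥ := by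
  have hP : IsPGroup p G := IsPGroup.of_card hG.card
  have hnil : Group.IsNilpotent G := hP.isNilpotent
  have h3 := hG.three_le
  have h1 : (⊤ : Subgroup G).lowerCentralSeries (n - 1) = ⊥ :=
    Subgroup.lowerCentralSeries_eq_bot_iff_nilpotencyClass_le.2 (le_of_eq hG.cls)
  exact le_bot_iff.1 (h1 ▸ (⊤ : Subgroup G).lowerCentralSeries_antitone (by omega : n - 1 ≤ i - 1))

end basics

section anchor
variable {G : Type*} [Group G] [Finite G] {p n : ℕ} [hp : Fact p.Prime]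

/-- PIECE C2 with the inputs from B2 and C1 as hypotheses. -/
theorem anchor_of (hG : IsMC p n G) (hn : p + 2 ≤ n) {s : G}
    (h_mul_pow : ∀ {x : G}, x ∈ gam G 2 → (s * x) ^ p = s ^ p)
    (h_comm_lev : ∀ {i : ℕ}, 1 ≤ i → i + 2 ≤ n → ∀ {x : G}, x ∈ lev G i → x ∉ lev G (i + 1) →
      ⁅s⁻¹, x⁆ ∈ lev G (i + 1) ∧ ⁅s⁻¹, x⁆ ∉ lev G (i + 2))
    (h_agemo : ∀ i, 2 ≤ i → agemo p (gam G i) ≤ gam G (i + p - 1))
    {x : G} (hx : x ∈ gam G (n - p)) (hx' : x ∉ gam G (n - p + 1)) : x ^ p ≠ 1 := by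
  have h2 := hp.out.two_le
  intro hxp
  set a := n - p - 1 with ha
  have ha1 : 1 ≤ a := by omega
  let T : ℕ → Subgroup G := fun j => gam G (a + max j 1)
  have hanti : Antitone T := fun i j hij => gam_anti' (by
    have : max i 1 ≤ max j 1 := max_le_max hij le_rfl
    omega)
  have hcomm : ∀ i j, 1 ≤ i → 1 ≤ j → ⁅T i, T j⁆ ≤ T (i + j + 1) := by
    intro i j hi hj
    refine (gam_comm_le' (by omega) (by omega)).trans (gam_anti' ?_)
    rw [max_eq_left hi, max_eq_left hj, max_eq_left (by omega : 1 ≤ i + j + 1)]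
    omega
  have hs' : ∀ j, 1 ≤ j → ∀ y ∈ T j, ⁅s⁻¹, y⁆ ∈ T (j + 1) := by
    intro j hj y hy
    have := comm_mem_gam_succ' (G := G) (i := a + max j 1) (by omega) s⁻¹ hy
    have e : a + max (j + 1) 1 = a + max j 1 + 1 := by
      rw [max_eq_left hj, max_eq_left (by omega : 1 ≤ j + 1)]; omega
    show ⁅s⁻¹, y⁆ ∈ gam G (a + max (j + 1) 1)
    rwa [e]
  have hTbot : T (p + 1) = ⊥ := by
    show gam G (a + max (p + 1) 1) = ⊥
    exact gam_eq_bot' hG (by rw [max_eq_left (by omega : 1 ≤ p + 1)]; omega)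
  have hT1 : T 1 = gam G (n - p) := by
    show gam G (a + max 1 1) = gam G (n - p)
    rw [max_self]; congr 1; omega
  have hT2 : T 2 = gam G (a + 2) := rfl
  have ht : x ∈ T 1 := by rw [hT1]; exact hx
  obtain ⟨a', ha', e, he, hform⟩ :=
    norm_formula hp.out T s⁻¹ hanti hcomm hs' ⟨p + 1, hTbot⟩ ht
  -- a' = 1, e = 1
  have ha'1 : a' = 1 := by
    have h1 : agemo p (T 2) ≤ gam G (a + 2 + p - 1) := by
      rw [hT2]; exact h_agemo (a + 2) (by omega)
    have h3 : gam G (a + 2 + p - 1) = ⊥ := gam_eq_bot' hG (by omega)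
    rw [h3] at h1
    exact (Subgroup.mem_bot).1 (h1 ha')
  have he1 : e = 1 := by
    rw [hTbot] at he; exact (Subgroup.mem_bot).1 he
  -- left side is 1
  have hx2 : x ∈ gam G 2 := gam_anti' (by omega : 2 ≤ n - p) hx
  have hL : (s⁻¹) ^ p * ((s⁻¹)⁻¹ * x) ^ p = 1 := by
    rw [inv_inv, h_mul_pow hx2, inv_pow, inv_mul_cancel]
  rw [hL, ha'1, he1, hxp, one_mul, mul_one, one_mul] at hform
  -- but the iterated commutator is nontrivial
  have key : ∀ k, k ≤ p - 1 →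
      (fun y => ⁅s⁻¹, y⁆)^[k] x ∈ lev G (n - p + k) ∧
      (fun y => ⁅s⁻¹, y⁆)^[k] x ∉ lev G (n - p + k + 1) := by
    intro k
    induction k with
    | zero =>
      intro _
      rw [lev_of_two_le G (by omega : 2 ≤ n - p + 0), lev_of_two_le G (by omega : 2 ≤ n - p + 0 + 1)]
      exact ⟨hx, hx'⟩
    | succ k ih =>
      intro hk
      obtain ⟨h1, h1'⟩ := ih (by omega)
      have := h_comm_lev (i := n - p + k) (by omega) (by omega) h1 h1'
      rw [Function.iterate_succ_apply']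
      rwa [show n - p + (k + 1) = n - p + k + 1 by omega,
        show n - p + k + 1 + 1 = n - p + k + 2 by omega]
  have hlast := (key (p - 1) le_rfl).2
  rw [lev_of_two_le G (by omega : 2 ≤ n - p + (p - 1) + 1),
    gam_eq_bot' hG (by omega : n ≤ n - p + (p - 1) + 1)] at hlast
  exact hlast ((Subgroup.mem_bot).2 hform.symm)

end anchor

end Cfsg.Agent.Helper8.MC
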