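import Cfsg.Agent.Helper8.RegularPC

/-!
# Regular `p`-groups: user-facing statements

For a subgroup `H` of a finite `p`-group `G` with `RegSub p H` (`H` regular in the sense of
P. Hall):

* `RegSub.pow_eq_pow_iff`: `a ^ p = b ^ p ↔ (a⁻¹ * b) ^ p = 1`;
* `RegSub.mem_omega_iff`: `Ω₁(H) = {x ∈ H | x ^ p = 1}`;
* `RegSub.mem_agemo_iff`: `℧₁(H) = {h ^ p | h ∈ H}`;
* `RegSub.card_agemo_mul_card_omega`, `RegSub.relIndex_agemo`: `|H : ℧₁(H)| = |Ω₁(H)|`;
* `RegSub.commutator_pow_eq_one_iff`: `⁅a ^ p, b⁆ = 1 ↔ ⁅a, b⁆ ^ p = 1`.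

Sources of regularity: `regSub_of_lcs_eq_bot` (class `< p`), `regSub_of_card_le`
(order `≤ p ^ p`), `regSub_of_pow_eq_one` (exponent `p`), `RegSub.mono` (subgroups).
-/

set_option autoImplicit false

namespace Cfsg.Agent.Helper8.HP

open scoped commutatorElement
open Subgroup

variable {G : Type*} [Group G] [Finite G] {p : ℕ} [Fact p.Prime] {H : Subgroup G}

theorem RegSub.subProp (hG : IsPGroup p G) (hH : RegSub p H) : SubProp p H :=
  subProp_of_regSub hG H hH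

theorem RegSub.pow_eq_pow_iff (hG : IsPGroup p G) (hH : RegSub p H) {a b : G} (ha : a ∈ H)
    (hb : b ∈ H) : a ^ p = b ^ p ↔ (a⁻¹ * b) ^ p = 1 :=
  ((hH.subProp hG) a ha b hb).1

theorem RegSub.exists_pow_eq_mul (hG : IsPGroup p G) (hH : RegSub p H) {a b : G} (ha : a ∈ H)
    (hb : b ∈ H) : ∃ c ∈ closure ({a, b} : Set G), a ^ p * b ^ p = c ^ p :=
  ((hH.subProp hG) a ha b hb).2

theorem RegSub.mem_omega_iff (hG : IsPGroup p G) (hH : RegSub p H) {x : G} :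
    x ∈ omega p H ↔ x ∈ H ∧ x ^ p = 1 :=
  (hH.subProp hG).mem_omega_iff

theorem RegSub.mem_agemo_iff (hG : IsPGroup p G) (hH : RegSub p H) {x : G} :
    x ∈ agemo p H ↔ ∃ h ∈ H, x = h ^ p :=
  (hH.subProp hG).mem_agemo_iff

theorem RegSub.card_agemo_mul_card_omega (hG : IsPGroup p G) (hH : RegSub p H) :
    Nat.card (agemo p H) * Nat.card (omega p H) = Nat.card H :=
  (hH.subProp hG).card_agemo_mul_card_omega

theorem RegSub.relIndex_agemo (hG : IsPGroup p G) (hH : RegSub p H) :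
    (agemo p H).relIndex H = Nat.card (omega p H) :=
  (hH.subProp hG).relIndex_agemo

theorem RegSub.commutator_pow_eq_one_iff (hG : IsPGroup p G) (hH : RegSub p H) {a b : G}
    (ha : a ∈ H) (hb : b ∈ H) : ⁅a ^ p, b⁆ = 1 ↔ ⁅a, b⁆ ^ p = 1 :=
  (hH.subProp hG).commutator_pow_eq_one_iff ha hb

/-- For regular `H` and `K ≤ H`: `|K : ℧₁(K)| = |Ω₁(K)| ≤ |Ω₁(H)| = |H : ℧₁(H)|`. -/
theorem RegSub.relIndex_agemo_le (hG : IsPGroup p G) (hH : RegSub p H) {K : Subgroup G}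
    (hK : K ≤ H) : (agemo p K).relIndex K ≤ (agemo p H).relIndex H := by
  rw [hH.relIndex_agemo hG, (hH.mono hK).relIndex_agemo hG]
  exact Subgroup.card_le_of_le (omega_mono p hK)

end Cfsg.Agent.Helper8.HP
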