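import Mathlib

set_option autoImplicit false

/-!
# S4274 (groups of order 175560): definitions shared by all pieces (definitions only)
-/

namespace Cfsg.Agent.Helper8.Ord19

/-- the number of Sylow `r`-subgroups of `G` -/
noncomputable def nS (G : Type*) [Group G] (r : ℕ) : ℕ := Nat.card (Sylow r G)

/-- the order of the centralizer of a Sylow `r`-subgroup of `G` (the default one; they are all
conjugate) -/
noncomputable def cZ (G : Type*) [Group G] (r : ℕ) : ℕ :=
  Nat.card (Subgroup.centralizer (((default : Sylow r G) : Subgroup G) : Set G))

end Cfsg.Agent.Helper8.Ord19
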