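import Mathlib.GroupTheory.SchurZassenhaus
import Mathlib.GroupTheory.Sylow
import Mathlib.GroupTheory.Index
import Mathlib.GroupTheory.PGroup

/-!
# S4807 (relative McKay), batch 2: the three Mathlib-only group theory pieces

`SY2_normal_p_section_le`, `SZ1_exists_complement`, `SZ2_exists_normal_p_complement`, with the
exact signatures of `notes/helper6_S4807_skeleton2.lean.txt`.
-/

set_option autoImplicit false

namespace Cfsg.Agent.Helper8.RMcK

universe u

variable {Γ : Type u} [Group Γ] [Finite Γ]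


/-- In a finite group, if `K` is normal then `[K ⊔ A : A] = [K : K ⊓ A]`. -/
theorem relIndex_sup_of_normal {X : Type u} [Group X] [Finite X] (K A : Subgroup X) [K.Normal] :
    A.relIndex (A ⊔ K) = A.relIndex K := by
  have h1 : K.relIndex (A ⊔ K) = K.relIndex A := Subgroup.relIndex_sup_right A K
  -- cardinalities
  have c1 : K.relIndex (A ⊔ K) * Nat.card K = Nat.card ↥(A ⊔ K) := by
    have := Subgroup.relIndex_mul_relIndex (H := (⊥ : Subgroup X)) (K := K) (L := A ⊔ K) bot_le le_sup_right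
    rw [Subgroup.relIndex_bot_left, Subgroup.relIndex_bot_left] at this
    rw [mul_comm]; exact this
  have c2 : A.relIndex (A ⊔ K) * Nat.card A = Nat.card ↥(A ⊔ K) := by
    have := Subgroup.relIndex_mul_relIndex (H := (⊥ : Subgroup X)) (K := A) (L := A ⊔ K) bot_le le_sup_left
    rw [Subgroup.relIndex_bot_left, Subgroup.relIndex_bot_left] at this
    rw [mul_comm]; exact this
  have c3 : K.relIndex A * Nat.card ↥(K ⊓ A) = Nat.card A := by
    have := Subgroup.relIndex_mul_relIndex (H := (⊥ : Subgroup X)) (K := K ⊓ A) (L := A) bot_le inf_le_right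
    rw [Subgroup.relIndex_bot_left, Subgroup.relIndex_bot_left, Subgroup.inf_relIndex_right] at this
    rw [mul_comm]; exact this
  have c4 : A.relIndex K * Nat.card ↥(K ⊓ A) = Nat.card K := by
    have := Subgroup.relIndex_mul_relIndex (H := (⊥ : Subgroup X)) (K := K ⊓ A) (L := K) bot_le inf_le_left
    rw [Subgroup.relIndex_bot_left, Subgroup.relIndex_bot_left, Subgroup.inf_relIndex_left] at this
    rw [mul_comm]; exact this
  have hpos : 0 < Nat.card ↥(K ⊓ A) := Nat.card_pos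
  have hposA : 0 < Nat.card A := Nat.card_pos
  have hKA : 0 < K.relIndex A := by
    rcases Nat.eq_zero_or_pos (K.relIndex A) with h | h
    · rw [h, zero_mul] at c3; omega
    · exact h
  have : A.relIndex (A ⊔ K) * (K.relIndex A * Nat.card ↥(K ⊓ A))
      = A.relIndex K * (K.relIndex A * Nat.card ↥(K ⊓ A)) := by
    rw [c3, c2, ← c1, h1, ← c4, ← c3]; ring
  exact Nat.eq_of_mul_eq_mul_right (Nat.mul_pos hKA hpos) this

theorem not_dvd_of_dvd_pow_of_dvd {p a b m : ℕ} (hp : p.Prime) (h1 : a ∣ p ^ m) (h2 : a ∣ b)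
    (hb : ¬ p ∣ b) : a = 1 := by
  obtain ⟨j, _, rfl⟩ := (Nat.dvd_prime_pow hp).1 h1
  rcases Nat.eq_zero_or_pos j with rfl | hj
  · simp
  · exact absurd ((dvd_pow_self p hj.ne').trans h2) hb

/-- SY2 inside a group where `K`, `L` are normal. -/
theorem SY2_aux {X : Type u} [Group X] [Finite X] (p : ℕ) [Fact p.Prime] (K L S : Subgroup X)
    [K.Normal] [L.Normal] (hKL : ∃ m : ℕ, L.relIndex K = p ^ m)
    (hSyl : ¬ p ∣ S.index) : K ≤ L ⊔ S := by
  obtain ⟨m, hm⟩ := hKL
  set A := L ⊔ S with hA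
  have hAB : A.relIndex (A ⊔ K) = 1 := by
    apply not_dvd_of_dvd_pow_of_dvd (Fact.out : p.Prime) (m := m) (b := S.index) _ _ hSyl
    · rw [relIndex_sup_of_normal K A, ← hm]
      exact Subgroup.relIndex_dvd_of_le_left K le_sup_left
    · have h1 : A.relIndex (A ⊔ K) ∣ S.relIndex (A ⊔ K) :=
        Subgroup.relIndex_dvd_of_le_left (A ⊔ K) le_sup_right
      exact h1.trans (Subgroup.relIndex_dvd_index_of_le (le_sup_right.trans le_sup_left))
  exact le_sup_right.trans (Subgroup.relIndex_eq_one.1 hAB)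

theorem SY2_normal_p_section_le (p : ℕ) [Fact p.Prime] (G K L S : Subgroup Γ) (hLK : L ≤ K)
    (hKG : K ≤ G) (hGL : G ≤ Subgroup.normalizer (L : Set Γ))
    (hGK : G ≤ Subgroup.normalizer (K : Set Γ)) (hKL : ∃ m : ℕ, L.relIndex K = p ^ m)
    (hSG : S ≤ G) (hS : IsPGroup p S) (hSyl : ¬ p ∣ S.relIndex G) : K ≤ L ⊔ S := by
  have _ := hS
  have hK : (K.subgroupOf G).Normal := Subgroup.normal_subgroupOf_iff_le_normalizer hKG |>.2 hGK
  have hL : (L.subgroupOf G).Normal :=
    Subgroup.normal_subgroupOf_iff_le_normalizer (hLK.trans hKG) |>.2 hGL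
  have hrel : (L.subgroupOf G).relIndex (K.subgroupOf G) = L.relIndex K := by
    rw [Subgroup.relIndex_subgroupOf hKG]
  have key := SY2_aux p (K.subgroupOf G) (L.subgroupOf G) (S.subgroupOf G)
    (by rw [hrel]; exact hKL) hSyl
  intro k hk
  have hkG : k ∈ G := hKG hk
  have h1 : (⟨k, hkG⟩ : G) ∈ L.subgroupOf G ⊔ S.subgroupOf G := key (by
    rw [Subgroup.mem_subgroupOf]; exact hk)
  have h2 : G.subtype ⟨k, hkG⟩ ∈ (L.subgroupOf G ⊔ S.subgroupOf G).map G.subtype :=
    Subgroup.mem_map_of_mem _ h1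
  rw [Subgroup.map_sup, Subgroup.subgroupOf_map_subtype, Subgroup.subgroupOf_map_subtype,
    inf_of_le_left (hLK.trans hKG), inf_of_le_left hSG] at h2
  exact h2



theorem coprime_of_not_dvd {p n : ℕ} (hp : p.Prime) (h : ¬ p ∣ n) : n.Coprime p :=
  ((Nat.Prime.coprime_iff_not_dvd hp).2 h).symm

theorem not_dvd_of_coprime {p n : ℕ} (hp : p.Prime) (h : n.Coprime p) : ¬ p ∣ n :=
  (Nat.Prime.coprime_iff_not_dvd hp).1 h.symm

/-- SZ1 inside a group where `S`, `C` are normal. -/
theorem SZ1_aux {X : Type u} [Group X] [Finite X] (p : ℕ) [Fact p.Prime] (S C : Subgroup X)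
    [S.Normal] [C.Normal] (hS : IsPGroup p S) (hSyl : ¬ p ∣ S.index)
    (hC : (Nat.card C).Coprime p) :
    ∃ H₀ : Subgroup X, (Nat.card H₀).Coprime p ∧ S ⊔ H₀ = ⊤ ∧ C ≤ H₀ := by
  have hp : p.Prime := Fact.out
  obtain ⟨k, hk⟩ := hS.exists_card_eq
  have hcop : Nat.Coprime (Nat.card S) S.index := by
    rw [hk]; exact Nat.Coprime.pow_left _ ((Nat.Prime.coprime_iff_not_dvd hp).2 hSyl)
  obtain ⟨H, hH⟩ := Subgroup.exists_right_complement'_of_coprime hcop
  have hHcard : Nat.card H = S.index := by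
    have h1 := hH.card_mul_card
    have h2 := S.card_mul_index
    have hpos : 0 < Nat.card S := Nat.card_pos
    exact Nat.eq_of_mul_eq_mul_left hpos (h1.trans h2.symm)
  refine ⟨C ⊔ H, ?_, ?_, le_sup_left⟩
  · -- |C ⊔ H| = |C| * C.relIndex H
    have c1 : Nat.card C * C.relIndex (C ⊔ H) = Nat.card ↥(C ⊔ H) := by
      have := Subgroup.relIndex_mul_relIndex (H := (⊥ : Subgroup X)) (K := C) (L := C ⊔ H)
        bot_le le_sup_left
      rw [Subgroup.relIndex_bot_left, Subgroup.relIndex_bot_left] at this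
      exact this
    rw [Subgroup.relIndex_sup_left] at c1
    rw [← c1]
    apply Nat.Coprime.mul_left hC
    apply coprime_of_not_dvd hp
    intro hdvd
    have : p ∣ Nat.card H := hdvd.trans (Subgroup.relIndex_dvd_card C H)
    rw [hHcard] at this
    exact hSyl this
  · apply top_le_iff.1
    rw [← hH.sup_eq_top]
    exact sup_le_sup_left le_sup_right S

theorem SZ1_exists_complement (p : ℕ) [Fact p.Prime] (N₁ S C : Subgroup Γ) (hSN : S ≤ N₁)
    (hN₁S : N₁ ≤ Subgroup.normalizer (S : Set Γ)) (hS : IsPGroup p S)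
    (hSyl : ¬ p ∣ S.relIndex N₁) (hCN : C ≤ N₁)
    (hN₁C : N₁ ≤ Subgroup.normalizer (C : Set Γ)) (hC : (Nat.card C).Coprime p) :
    ∃ H₀ : Subgroup Γ, H₀ ≤ N₁ ∧ (Nat.card H₀).Coprime p ∧ N₁ ≤ S ⊔ H₀ ∧ C ≤ H₀ := by
  have hSn : (S.subgroupOf N₁).Normal :=
    Subgroup.normal_subgroupOf_iff_le_normalizer hSN |>.2 hN₁S
  have hCn : (C.subgroupOf N₁).Normal :=
    Subgroup.normal_subgroupOf_iff_le_normalizer hCN |>.2 hN₁C
  have hS' : IsPGroup p (S.subgroupOf N₁) := hS.comap_subtype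
  have hC' : (Nat.card (C.subgroupOf N₁)).Coprime p := by
    rw [Nat.card_congr (Subgroup.subgroupOfEquivOfLe hCN).toEquiv]; exact hC
  obtain ⟨H, h1, h2, h3⟩ := SZ1_aux p (S.subgroupOf N₁) (C.subgroupOf N₁) hS' hSyl hC'
  refine ⟨H.map N₁.subtype, ?_, ?_, ?_, ?_⟩
  · rintro _ ⟨x, -, rfl⟩; exact x.2
  · rw [Subgroup.card_map_of_injective N₁.subtype_injective]; exact h1
  · intro n hn
    have : N₁.subtype ⟨n, hn⟩ ∈ (S.subgroupOf N₁ ⊔ H).map N₁.subtype := by
      rw [h2]; exact Subgroup.mem_map_of_mem _ (Subgroup.mem_top _)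
    rw [Subgroup.map_sup, Subgroup.subgroupOf_map_subtype, inf_of_le_left hSN] at this
    exact this
  · intro c hc
    exact ⟨⟨c, hCN hc⟩, h3 (by rw [Subgroup.mem_subgroupOf]; exact hc), rfl⟩



/-- SZ2 in a group `X` with a central subgroup `L` of index prime to `p`: there is a subgroup
`W` of order prime to `p` and `p`-power index which contains every element `y` with
`y ^ |W| = 1`. -/
theorem SZ2_aux {X : Type u} [Group X] [Finite X] (p : ℕ) [Fact p.Prime] (L : Subgroup X)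
    (hLZ : ∀ l ∈ L, ∀ x : X, l * x = x * l) (hL : L.index.Coprime p) :
    ∃ W : Subgroup X, (Nat.card W).Coprime p ∧ (∃ m : ℕ, W.index = p ^ m) ∧
      ∀ y : X, y ^ Nat.card W = 1 → y ∈ W := by
  have hp : p.Prime := Fact.out
  have hLn : L.Normal := ⟨fun l hl g => by rw [← hLZ l hl g, mul_inv_cancel_right]; exact hl⟩
  obtain ⟨Q⟩ : Nonempty (Sylow p X) := Sylow.nonempty
  -- `Q ≤ L`
  have hQL : (Q : Subgroup X) ≤ L := by
    obtain ⟨k, hk⟩ := Q.2.exists_card_eq
    have h1 : L.relIndex Q = 1 := by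
      apply not_dvd_of_dvd_pow_of_dvd hp (m := k) (b := L.index) _
        (Subgroup.relIndex_dvd_index_of_normal L Q) (not_dvd_of_coprime hp hL)
      rw [← hk]; exact Subgroup.relIndex_dvd_card L Q
    exact Subgroup.relIndex_eq_one.1 h1
  have hQZ : ∀ q ∈ (Q : Subgroup X), ∀ x : X, q * x = x * q := fun q hq x => hLZ q (hQL hq) x
  have hQn : (Q : Subgroup X).Normal :=
    ⟨fun l hl g => by rw [← hQZ l hl g, mul_inv_cancel_right]; exact hl⟩
  obtain ⟨W, hW⟩ := Subgroup.exists_right_complement'_of_coprime Q.card_coprime_index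
  have hWcard : Nat.card W = (Q : Subgroup X).index := by
    have h1 := hW.card_mul_card
    have h2 := (Q : Subgroup X).card_mul_index
    have hpos : 0 < Nat.card (Q : Subgroup X) := Nat.card_pos
    exact Nat.eq_of_mul_eq_mul_left hpos (h1.trans h2.symm)
  have hWcop : (Nat.card W).Coprime p := by
    rw [hWcard]; exact coprime_of_not_dvd hp Q.not_dvd_index
  refine ⟨W, hWcop, ?_, ?_⟩
  · obtain ⟨k, hk⟩ := Q.2.exists_card_eq
    exact ⟨k, by rw [hW.index_eq_card, hk]⟩
  · intro y hy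
    obtain ⟨⟨a, w⟩, hx, -⟩ := (Subgroup.isComplement'_def.1 hW).existsUnique y
    simp only at hx
    have hcomm : Commute (a : X) (w : X) := hQZ a a.2 w
    have hw : (w : X) ^ Nat.card W = 1 := by
      have := pow_card_eq_one' (G := W) (x := w)
      exact_mod_cast congrArg Subtype.val this
    have ha : (a : X) ^ Nat.card W = 1 := by
      have := hy
      rw [← hx, hcomm.mul_pow, hw, mul_one] at this
      exact this
    -- `a` is a `p`-element
    obtain ⟨j, hj⟩ := Q.2 a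
    have ha' : (a : X) ^ p ^ j = 1 := by exact_mod_cast congrArg Subtype.val hj
    have h1 : orderOf (a : X) ∣ Nat.card W := orderOf_dvd_of_pow_eq_one ha
    have h2 : orderOf (a : X) ∣ p ^ j := orderOf_dvd_of_pow_eq_one ha'
    have h3 : orderOf (a : X) = 1 :=
      not_dvd_of_dvd_pow_of_dvd hp h2 h1 (not_dvd_of_coprime hp hWcop)
    rw [orderOf_eq_one_iff] at h3
    rw [← hx, h3, one_mul]; exact w.2



theorem SZ2_exists_normal_p_complement (p : ℕ) [Fact p.Prime] (G K L : Subgroup Γ) (hLK : L ≤ K)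
    (hKG : K ≤ G) (hGK : G ≤ Subgroup.normalizer (K : Set Γ))
    (hLZ : ∀ l ∈ L, ∀ g ∈ G, l * g = g * l) (hKL : (L.relIndex K).Coprime p) :
    ∃ W : Subgroup Γ, W ≤ K ∧ G ≤ Subgroup.normalizer (W : Set Γ) ∧ (Nat.card W).Coprime p ∧
      ∃ m : ℕ, W.relIndex K = p ^ m := by
  have _ := hLK
  obtain ⟨W', hW1, ⟨m, hm⟩, hW3⟩ := SZ2_aux p (L.subgroupOf K)
    (fun l hl x => Subtype.ext (hLZ l.1 (Subgroup.mem_subgroupOf.1 hl) x.1 (hKG x.2))) hKL
  have hcard : Nat.card (W'.map K.subtype) = Nat.card W' :=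
    Subgroup.card_map_of_injective K.subtype_injective
  have hWK : W'.map K.subtype ≤ K := by rintro _ ⟨x, -, rfl⟩; exact x.2
  -- conjugation by elements of `G` maps `W` into `W`
  have hconj : ∀ g ∈ G, ∀ x ∈ W'.map K.subtype, g * x * g⁻¹ ∈ W'.map K.subtype := by
    rintro g hg _ ⟨x, hx, rfl⟩
    have hyK : g * (K.subtype x) * g⁻¹ ∈ K :=
      (Subgroup.mem_normalizer_iff.1 (hGK hg) _).1 x.2
    have hxpow : (x : Γ) ^ Nat.card W' = 1 := by
      have := pow_card_eq_one' (G := W') (x := ⟨x, hx⟩)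
      have h2 : x ^ Nat.card W' = 1 := by
        have h3 := congrArg Subtype.val this
        rw [Subgroup.coe_pow, Subgroup.coe_one] at h3
        exact h3
      have h4 := congrArg Subtype.val h2
      rw [Subgroup.coe_pow, Subgroup.coe_one] at h4
      exact h4
    have hypow : (⟨g * (K.subtype x) * g⁻¹, hyK⟩ : K) ^ Nat.card W' = 1 := by
      apply Subtype.ext
      simp only [Subgroup.coe_pow, Subgroup.coe_one, Subgroup.subtype_apply]
      rw [conj_pow, hxpow, mul_one, mul_inv_cancel]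
    exact ⟨⟨_, hyK⟩, hW3 _ hypow, rfl⟩
  refine ⟨W'.map K.subtype, hWK, ?_, ?_, m, ?_⟩
  · intro g hg
    rw [Subgroup.mem_normalizer_iff]
    intro h
    refine ⟨hconj g hg h, fun hh => ?_⟩
    have := hconj g⁻¹ (G.inv_mem hg) _ hh
    simpa [mul_assoc] using this
  · rw [hcard]; exact hW1
  · rw [← hm]
    show ((W'.map K.subtype).comap K.subtype).index = _
    rw [Subgroup.comap_map_eq_self_of_injective K.subtype_injective]

end Cfsg.Agent.Helper8.RMcK
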