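import Mathlib
import Cfsg.Agent.Helper8.DkIdx
import Cfsg.Agent.Helper4.HallConverseC
import Cfsg.Agent.Helper4.L2pPSL

set_option autoImplicit false

/-!
Solvability of the local subgroups of `PSL₂(F)`, and non-solvability of `PSL₂(K)` for `|K| ≥ 4`.
-/

namespace Cfsg.Agent.Helper8.Dk

open Matrix Cfsg.Agent.Helper7.SL2 Cfsg.Agent.Helper8.SL2C Subgroup
open scoped Matrix

/-- a group whose commutators lie in an abelian subgroup is solvable -/
theorem isSolvable_of_commutators_mem {N : Type*} [Group N] (A : Subgroup N)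
    (hA : ∀ a ∈ A, ∀ b ∈ A, a * b = b * a) (h : ∀ x y : N, x * y * x⁻¹ * y⁻¹ ∈ A) :
    Group.IsSolvable N := by
  rw [Group.isSolvable_def]
  refine ⟨2, ?_⟩
  have h1 : derivedSeries N 1 ≤ A := by
    rw [derivedSeries_succ, derivedSeries_zero, Subgroup.commutator_le]
    intro x _ y _
    exact h x y
  rw [derivedSeries_succ, eq_bot_iff]
  refine (Subgroup.commutator_mono h1 h1).trans ?_
  rw [Subgroup.commutator_le]
  intro a ha b hb
  rw [Subgroup.mem_bot, commutatorElement_def, hA a ha b hb]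
  group

theorem isSolvable_of_card_dvd_24 {H : Type*} [Group H] [Finite H] (h : Nat.card H ∣ 24) :
    Group.IsSolvable H := by
  apply Cfsg.Agent.Helper4.isSolvable_of_two_primes 2 3 Nat.prime_two Nat.prime_three (by norm_num)
  intro l hl hdvd
  have h1 : l ∣ 2 ^ 3 * 3 := hdvd.trans h
  rcases (Nat.Prime.dvd_mul hl).mp h1 with h2 | h2
  · left
    exact (Nat.prime_dvd_prime_iff_eq hl Nat.prime_two).mp (hl.dvd_of_dvd_pow h2)
  · right
    exact (Nat.prime_dvd_prime_iff_eq hl Nat.prime_three).mp h2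

theorem not_isSolvable_of_simple {G : Type*} [Group G] [IsSimpleGroup G]
    (h : ∃ a b : G, a * b ≠ b * a) : ¬ Group.IsSolvable G := by
  intro hs
  obtain ⟨a, b, hab⟩ := h
  exact hab (IsSimpleGroup.comm_iff_isSolvable.mpr hs a b)

theorem not_isSolvable_A5 : ¬ Group.IsSolvable (alternatingGroup (Fin 5)) := by
  haveI := alternatingGroup.isSimpleGroup_five
  intro hs
  have hc := IsSimpleGroup.comm_iff_isSolvable.mpr hs
  letI : CommGroup (alternatingGroup (Fin 5)) :=
    { (inferInstance : Group (alternatingGroup (Fin 5))) with mul_comm := hc }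
  have := IsSimpleGroup.prime_card (α := alternatingGroup (Fin 5))
  rw [card_A5] at this
  norm_num at this

variable {F : Type*} [Field F]

/-- `PSL₂(F)` is never commutative -/
theorem exists_not_comm_PSL2 :
    ∃ a b : ProjectiveSpecialLinearGroup (Fin 2) F, a * b ≠ b * a := by
  refine ⟨pmk (up 1), pmk (lo 1), ?_⟩
  intro h
  rw [pmk_mul, pmk_mul, pmk_eq_iff] at h
  rcases h with h | h
  · have e00 := congrArg (fun g : SpecialLinearGroup (Fin 2) F => (g : Matrix (Fin 2) (Fin 2) F) 0 0) h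
    simp only [coe_mul_apply, up_00, up_01, up_10, up_11, lo_00, lo_01, lo_10, lo_11] at e00
    have : (1 : F) = 0 := by linear_combination e00
    exact one_ne_zero this
  · have e00 := congrArg (fun g : SpecialLinearGroup (Fin 2) F => (g : Matrix (Fin 2) (Fin 2) F) 0 0) h
    have e01 := congrArg (fun g : SpecialLinearGroup (Fin 2) F => (g : Matrix (Fin 2) (Fin 2) F) 0 1) h
    simp only [coe_mul_apply, SL2C.neg_apply, up_00, up_01, up_10, up_11, lo_00, lo_01, lo_10,
      lo_11] at e00 e01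
    have : (1 : F) = 0 := by linear_combination e00 - e01
    exact one_ne_zero this

theorem exists_sq_ne_one [Fintype F] (h : 4 ≤ Fintype.card F) : ∃ x : F, x ≠ 0 ∧ x ^ 2 ≠ 1 := by
  classical
  by_contra hcon
  push Not at hcon
  have hsub : (Finset.univ : Finset F) ⊆ {0, 1, -1} := by
    intro x _
    by_cases hx : x = 0
    · simp [hx]
    · have h1 := hcon x hx
      have h2 : (x - 1) * (x + 1) = 0 := by linear_combination h1
      rcases mul_eq_zero.mp h2 with h3 | h3
      · have : x = 1 := by linear_combination h3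
        simp [this]
      · have : x = -1 := by linear_combination h3
        simp [this]
  have := Finset.card_le_card hsub
  rw [Finset.card_univ] at this
  have h3 : ({0, 1, -1} : Finset F).card ≤ 3 := Finset.card_le_three
  omega

theorem isSimpleGroup_PSL2_of_card [Fintype F] (h : 4 ≤ Fintype.card F) :
    IsSimpleGroup (ProjectiveSpecialLinearGroup (Fin 2) F) :=
  Cfsg.Agent.Helper4.L2p.isSimpleGroup_PSL2 (exists_sq_ne_one h)

theorem not_isSolvable_PSL2 [Fintype F] (h : 4 ≤ Fintype.card F) :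
    ¬ Group.IsSolvable (ProjectiveSpecialLinearGroup (Fin 2) F) := by
  haveI := isSimpleGroup_PSL2_of_card h
  exact not_isSolvable_of_simple exists_not_comm_PSL2

/-! ### local subgroups -/

theorem GT_commutator_mem {M : Subgroup (ProjectiveSpecialLinearGroup (Fin 2) F)} (hM : M ∈ GT F)
    {x y : ProjectiveSpecialLinearGroup (Fin 2) F}
    (hx : x ∈ normalizer (M : Set (ProjectiveSpecialLinearGroup (Fin 2) F)))
    (hy : y ∈ normalizer (M : Set (ProjectiveSpecialLinearGroup (Fin 2) F))) :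
    x * y * x⁻¹ * y⁻¹ ∈ M := by
  by_cases hxM : x ∈ M
  · have h1 : y * x⁻¹ * y⁻¹ ∈ M := (mem_normalizer_iff.mp hy x⁻¹).mp (M.inv_mem hxM)
    have := M.mul_mem hxM h1
    have e : x * (y * x⁻¹ * y⁻¹) = x * y * x⁻¹ * y⁻¹ := by group
    rwa [e] at this
  · by_cases hyM : y ∈ M
    · have h1 : x * y * x⁻¹ ∈ M := (mem_normalizer_iff.mp hx y).mp hyM
      exact M.mul_mem h1 (M.inv_mem hyM)
    · have h1 := (GT_tor_norm M hM x hx y hy hxM hyM).1
      have hx' : x⁻¹ ∉ M := fun h => hxM (by simpa using M.inv_mem h)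
      have hy' : y⁻¹ ∉ M := fun h => hyM (by simpa using M.inv_mem h)
      have h2 := (GT_tor_norm M hM x⁻¹ (Subgroup.inv_mem _ hx) y⁻¹ (Subgroup.inv_mem _ hy) hx' hy').1
      have := M.mul_mem h1 h2
      have e : x * y * (x⁻¹ * y⁻¹) = x * y * x⁻¹ * y⁻¹ := by group
      rwa [e] at this

theorem B_commutator_mem {x y : SpecialLinearGroup (Fin 2) F} (hx : x ∈ B F) (hy : y ∈ B F) :
    x * y * x⁻¹ * y⁻¹ ∈ ZU F := by
  have hmem : x * y * x⁻¹ * y⁻¹ ∈ B F :=
    (B F).mul_mem ((B F).mul_mem ((B F).mul_mem hx hy) ((B F).inv_mem hx)) ((B F).inv_mem hy)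
  apply mem_ZU_of_chi_sq hmem
  have h1 : chi F (⟨x, hx⟩ * ⟨y, hy⟩ * (⟨x, hx⟩ : B F)⁻¹ * (⟨y, hy⟩ : B F)⁻¹) = 1 := by
    rw [map_mul, map_mul, map_mul, map_inv, map_inv]
    rw [mul_comm (chi F ⟨x, hx⟩), mul_inv_cancel_right, mul_inv_cancel]
  have h2 := congrArg (fun u : Fˣ => (u : F)) h1
  simp only [Units.val_one] at h2
  rw [chi_apply] at h2
  have h3 : ((⟨x, hx⟩ * ⟨y, hy⟩ * (⟨x, hx⟩ : B F)⁻¹ * (⟨y, hy⟩ : B F)⁻¹ : B F) :
      SpecialLinearGroup (Fin 2) F) = x * y * x⁻¹ * y⁻¹ := rfl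
  rw [h3] at h2
  rw [h2, one_pow]

theorem GU_commutator_mem {M : Subgroup (ProjectiveSpecialLinearGroup (Fin 2) F)} (hM : M ∈ GU F)
    {x y : ProjectiveSpecialLinearGroup (Fin 2) F}
    (hx : x ∈ normalizer (M : Set (ProjectiveSpecialLinearGroup (Fin 2) F)))
    (hy : y ∈ normalizer (M : Set (ProjectiveSpecialLinearGroup (Fin 2) F))) :
    x * y * x⁻¹ * y⁻¹ ∈ M := by
  obtain ⟨A, ⟨c, rfl⟩, rfl⟩ := hM
  obtain ⟨u, rfl⟩ := pmk_surjective x
  obtain ⟨v, rfl⟩ := pmk_surjective y
  have hc := center_le_cj c (center_le_ZU (F := F))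
  rw [pmk_mem_normalizer_iff hc, normalizer_cj, normalizer_ZU, mem_cj] at hx hy
  have h1 := B_commutator_mem hx hy
  have h2 : u * v * u⁻¹ * v⁻¹ ∈ cj c (ZU F) := by
    rw [mem_cj]
    have e : c⁻¹ * (u * v * u⁻¹ * v⁻¹) * c =
        c⁻¹ * u * c * (c⁻¹ * v * c) * (c⁻¹ * u * c)⁻¹ * (c⁻¹ * v * c)⁻¹ := by group
    rw [e]; exact h1
  exact Subgroup.mem_map_of_mem (ph F) h2

/-- the normalisers of the members are solvable -/
theorem isSolvable_normalizer {M : Subgroup (ProjectiveSpecialLinearGroup (Fin 2) F)}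
    (hM : M ∈ GM F) :
    Group.IsSolvable (normalizer (M : Set (ProjectiveSpecialLinearGroup (Fin 2) F))) := by
  apply isSolvable_of_commutators_mem
    (M.subgroupOf (normalizer (M : Set (ProjectiveSpecialLinearGroup (Fin 2) F))))
  · intro a ha b hb
    rw [mem_subgroupOf] at ha hb
    exact Subtype.ext (GM_comm M hM a ha b hb)
  · intro x y
    rw [mem_subgroupOf]
    rcases mem_GM_iff.mp hM with hU | hT
    · exact GU_commutator_mem hU x.2 y.2
    · exact GT_commutator_mem hT x.2 y.2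

theorem isSolvable_of_le_normalizer {M H : Subgroup (ProjectiveSpecialLinearGroup (Fin 2) F)}
    (hM : M ∈ GM F) (hH : H ≤ normalizer (M : Set (ProjectiveSpecialLinearGroup (Fin 2) F))) :
    Group.IsSolvable H := by
  haveI := isSolvable_normalizer hM
  exact Group.isSolvable_of_isSolvable_injective (Subgroup.inclusion_injective hH)

end Cfsg.Agent.Helper8.Dk
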