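import Mathlib

/-!
# Quadratic extension data `F_q < F_{q^2}`

For finite fields `F`, `K` with `q` and `q^2` elements we produce an embedding `ι : F →+* K`,
an element `θ` with `θ^q ≠ θ`, and coordinate functions `re`, `im : K → F` with
`x = ι (re x) + θ * ι (im x)`.
-/

set_option autoImplicit false

namespace Cfsg.Agent.Helper8.QuadExt

open Module Polynomial

theorem exists_data {K F : Type*} [Field K] [Fintype K] [Field F] [Fintype F] {q : ℕ}
    (hK : Fintype.card K = q ^ 2) (hF : Fintype.card F = q) :
    ∃ (ι : F →+* K) (θ : K), (∀ a, (ι a) ^ q = ι a) ∧ θ ^ q ≠ θ ∧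
      (∀ x y : K, (x + y) ^ q = x ^ q + y ^ q) ∧ (∀ x : K, (x ^ q) ^ q = x) ∧
      (∀ x : K, x ^ q = x → ∃ a, ι a = x) := by
  classical
  obtain ⟨p, hp⟩ := CharP.exists F
  haveI := hp
  haveI hpp : Fact p.Prime := ⟨CharP.char_is_prime F p⟩
  obtain ⟨f, _, hf⟩ := FiniteField.card F p
  obtain ⟨p', hp'⟩ := CharP.exists K
  haveI := hp'
  haveI hpp' : Fact p'.Prime := ⟨CharP.char_is_prime K p'⟩
  obtain ⟨k, _, hk⟩ := FiniteField.card K p'
  have hq : q = p ^ (f : ℕ) := by rw [← hF, hf]
  have hpp'eq : p' = p := by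
    have h1 : p' ∣ (p ^ (f : ℕ)) ^ 2 := by
      rw [← hq, ← hK, hk]
      exact dvd_pow_self p' k.ne_zero
    have h2 := hpp'.out.dvd_of_dvd_pow h1
    have h3 := hpp'.out.dvd_of_dvd_pow h2
    exact (Nat.prime_dvd_prime_iff_eq hpp'.out hpp.out).mp h3
  subst hpp'eq
  letI : Algebra (ZMod p') F := ZMod.algebra F p'
  letI : Algebra (ZMod p') K := ZMod.algebra K p'
  have hfrF : finrank (ZMod p') F = f := by
    have h1 := Module.card_eq_pow_finrank (K := ZMod p') (V := F)
    rw [ZMod.card, hf] at h1
    exact (Nat.pow_right_injective hpp.out.two_le h1).symm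
  have hfrK : finrank (ZMod p') K = 2 * f := by
    have h1 := Module.card_eq_pow_finrank (K := ZMod p') (V := K)
    rw [ZMod.card, hK, hq, ← pow_mul] at h1
    have := (Nat.pow_right_injective hpp.out.two_le h1).symm
    rw [this, mul_comm]
  have hdvd : finrank (ZMod p') F ∣ finrank (ZMod p') K := by
    rw [hfrF, hfrK]
    exact dvd_mul_left _ _
  obtain ⟨ι'⟩ := FiniteField.nonempty_algHom_of_finrank_dvd hdvd
  let ι : F →+* K := ι'.toRingHom
  have hq2 : 2 ≤ q := by
    rw [← hF]
    exact Fintype.one_lt_card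
  have hfix : ∀ a, (ι a) ^ q = ι a := by
    intro a
    rw [← map_pow, ← hF, FiniteField.pow_card]
  have hadd : ∀ x y : K, (x + y) ^ q = x ^ q + y ^ q := by
    intro x y
    rw [hq]
    exact add_pow_char_pow x y p' f
  have hinv : ∀ x : K, (x ^ q) ^ q = x := by
    intro x
    rw [← pow_mul, ← sq, ← hK, FiniteField.pow_card]
  -- fixed points
  let S : Finset K := Finset.univ.filter (fun x : K => x ^ q = x)
  have hSle : S.card ≤ q := by
    have hdeg : (X ^ q - X : K[X]).natDegree = q := FiniteField.X_pow_card_sub_X_natDegree_eq K (by omega)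
    have hne : (X ^ q - X : K[X]) ≠ 0 := by
      intro h
      rw [h, natDegree_zero] at hdeg
      omega
    have hsub : S ⊆ (X ^ q - X : K[X]).roots.toFinset := by
      intro x hx
      rw [Multiset.mem_toFinset, mem_roots hne]
      simp only [S, Finset.mem_filter, Finset.mem_univ, true_and] at hx
      simp [hx]
    calc S.card ≤ (X ^ q - X : K[X]).roots.toFinset.card := Finset.card_le_card hsub
      _ ≤ Multiset.card (X ^ q - X : K[X]).roots := Multiset.toFinset_card_le _
      _ ≤ (X ^ q - X : K[X]).natDegree := card_roots' _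
      _ = q := hdeg
  have himg : Finset.univ.image ι ⊆ S := by
    intro x hx
    rw [Finset.mem_image] at hx
    obtain ⟨a, _, rfl⟩ := hx
    simp only [S, Finset.mem_filter, Finset.mem_univ, true_and]
    exact hfix a
  have hcardimg : (Finset.univ.image ι).card = q := by
    rw [Finset.card_image_of_injective _ ι.injective, Finset.card_univ, hF]
  have hSeq : Finset.univ.image ι = S :=
    Finset.eq_of_subset_of_card_le himg (by rw [hcardimg]; exact hSle)
  have hrange : ∀ x : K, x ^ q = x → ∃ a, ι a = x := by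
    intro x hx
    have : x ∈ S := by
      simp only [S, Finset.mem_filter, Finset.mem_univ, true_and]
      exact hx
    rw [← hSeq, Finset.mem_image] at this
    obtain ⟨a, _, ha⟩ := this
    exact ⟨a, ha⟩
  have hθ : ∃ θ : K, θ ^ q ≠ θ := by
    by_contra h
    push Not at h
    have hS : S = Finset.univ := by
      apply Finset.eq_univ_of_forall
      intro x
      simp only [S, Finset.mem_filter, Finset.mem_univ, true_and]
      exact h x
    have : S.card = q ^ 2 := by rw [hS, Finset.card_univ, hK]
    rw [this] at hSle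
    nlinarith
  obtain ⟨θ, hθ⟩ := hθ
  exact ⟨ι, θ, hfix, hθ, hadd, hinv, hrange⟩

/-- bundled data of a quadratic extension of finite fields -/
structure Data (K F : Type*) [Field K] [Field F] [Algebra F K] (q : ℕ) where
  θ : K
  fix : ∀ a : F, (algebraMap F K a) ^ q = algebraMap F K a
  θ_ne : θ ^ q ≠ θ
  add : ∀ x y : K, (x + y) ^ q = x ^ q + y ^ q
  invol : ∀ x : K, (x ^ q) ^ q = x
  range : ∀ x : K, x ^ q = x → ∃ a : F, algebraMap F K a = x

theorem nonempty_data {K F : Type*} [Field K] [Fintype K] [Field F] [Fintype F] {q : ℕ}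
    (hK : Fintype.card K = q ^ 2) (hF : Fintype.card F = q) :
    ∃ (alg : Algebra F K), Nonempty (@Data K F _ _ alg q) := by
  obtain ⟨ι, θ, h1, h2, h3, h4, h5⟩ := exists_data hK hF
  refine ⟨ι.toAlgebra, ⟨?_⟩⟩
  letI : Algebra F K := ι.toAlgebra
  exact ⟨θ, h1, h2, h3, h4, h5⟩

namespace Data

variable {K F : Type*} [Field K] [Field F] [Algebra F K] {q : ℕ} (d : Data K F q)

include d in
lemma sub_pow (x y : K) : (x - y) ^ q = x ^ q - y ^ q := by
  have := d.add (x - y) y
  rw [sub_add_cancel] at this
  rw [this, add_sub_cancel_right]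

/-- `θ - θ^q` -/
def lam : K := d.θ - d.θ ^ q

lemma lam_ne : d.lam ≠ 0 := by
  unfold lam
  intro h
  exact d.θ_ne (sub_eq_zero.mp h).symm

lemma lam_pow : d.lam ^ q = - d.lam := by
  unfold lam
  rw [d.sub_pow, d.invol]
  ring

/-- imaginary part in `K` -/
noncomputable def imK (x : K) : K := (x - x ^ q) / d.lam

/-- real part in `K` -/
noncomputable def reK (x : K) : K := x - d.θ * d.imK x

lemma imK_fix (x : K) : (d.imK x) ^ q = d.imK x := by
  unfold imK
  rw [div_pow, d.sub_pow, d.invol, d.lam_pow]
  have := d.lam_ne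
  field_simp
  ring

lemma reK_fix (x : K) : (d.reK x) ^ q = d.reK x := by
  unfold reK
  rw [d.sub_pow, mul_pow, d.imK_fix]
  have h : d.lam * d.imK x = x - x ^ q := by
    unfold imK
    have := d.lam_ne
    field_simp
  unfold lam at h
  linear_combination h

/-- imaginary coordinate -/
noncomputable def im (x : K) : F := Classical.choose (d.range _ (d.imK_fix x))

/-- real coordinate -/
noncomputable def re (x : K) : F := Classical.choose (d.range _ (d.reK_fix x))

lemma alg_im (x : K) : algebraMap F K (d.im x) = d.imK x := Classical.choose_spec (d.range _ (d.imK_fix x))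

lemma alg_re (x : K) : algebraMap F K (d.re x) = d.reK x := Classical.choose_spec (d.range _ (d.reK_fix x))

lemma decomp (x : K) : algebraMap F K (d.re x) + d.θ * algebraMap F K (d.im x) = x := by
  rw [d.alg_re, d.alg_im]
  unfold reK
  ring

lemma unique {a b a' b' : F} (h : algebraMap F K a + d.θ * algebraMap F K b = algebraMap F K a' + d.θ * algebraMap F K b') :
    a = a' ∧ b = b' := by
  have hb : b = b' := by
    by_contra hne
    have hne' : algebraMap F K (b - b') ≠ 0 := by
      rw [Ne, map_eq_zero, sub_eq_zero]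
      exact hne
    have hθ : d.θ = algebraMap F K ((a' - a) / (b - b')) := by
      rw [map_div₀, eq_div_iff hne', map_sub, map_sub]
      linear_combination h
    apply d.θ_ne
    rw [hθ]
    exact d.fix _
  subst hb
  refine ⟨?_, rfl⟩
  apply (algebraMap F K).injective
  linear_combination h

lemma re_eq {x : K} {a b : F} (h : algebraMap F K a + d.θ * algebraMap F K b = x) : d.re x = a :=
  (d.unique ((d.decomp x).trans h.symm)).1

lemma im_eq {x : K} {a b : F} (h : algebraMap F K a + d.θ * algebraMap F K b = x) : d.im x = b :=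
  (d.unique ((d.decomp x).trans h.symm)).2

lemma re_add (x y : K) : d.re (x + y) = d.re x + d.re y := by
  apply d.re_eq (b := d.im x + d.im y)
  rw [map_add, map_add]
  linear_combination d.decomp x + d.decomp y

lemma im_add (x y : K) : d.im (x + y) = d.im x + d.im y := by
  apply d.im_eq (a := d.re x + d.re y)
  rw [map_add, map_add]
  linear_combination d.decomp x + d.decomp y

lemma re_smul (a : F) (x : K) : d.re (algebraMap F K a * x) = a * d.re x := by
  apply d.re_eq (b := a * d.im x)
  rw [map_mul, map_mul]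
  linear_combination algebraMap F K a * d.decomp x

lemma im_smul (a : F) (x : K) : d.im (algebraMap F K a * x) = a * d.im x := by
  apply d.im_eq (a := a * d.re x)
  rw [map_mul, map_mul]
  linear_combination algebraMap F K a * d.decomp x

lemma re_zero : d.re 0 = 0 := by
  apply d.re_eq (b := 0)
  simp

lemma im_zero : d.im 0 = 0 := by
  apply d.im_eq (a := 0)
  simp

lemma re_sum {ι' : Type*} (s : Finset ι') (f : ι' → K) : d.re (∑ i ∈ s, f i) = ∑ i ∈ s, d.re (f i) := by
  classical
  induction s using Finset.induction_on with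
  | empty => simp [d.re_zero]
  | insert a s ha ih => rw [Finset.sum_insert ha, Finset.sum_insert ha, d.re_add, ih]

lemma im_sum {ι' : Type*} (s : Finset ι') (f : ι' → K) : d.im (∑ i ∈ s, f i) = ∑ i ∈ s, d.im (f i) := by
  classical
  induction s using Finset.induction_on with
  | empty => simp [d.im_zero]
  | insert a s ha ih => rw [Finset.sum_insert ha, Finset.sum_insert ha, d.im_add, ih]

/-- the key identity for the alternating form attached to the hermitian form -/
lemma herm_alt (u v : K) :
    u * v ^ q - v * u ^ q = d.lam * algebraMap F K (d.im u * d.re v - d.re u * d.im v) := by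
  have hu := d.decomp u
  have hv := d.decomp v
  have huq : u ^ q = algebraMap F K (d.re u) + d.θ ^ q * algebraMap F K (d.im u) := by
    conv_lhs => rw [← hu]
    rw [d.add, mul_pow, d.fix, d.fix]
  have hvq : v ^ q = algebraMap F K (d.re v) + d.θ ^ q * algebraMap F K (d.im v) := by
    conv_lhs => rw [← hv]
    rw [d.add, mul_pow, d.fix, d.fix]
  have key : ∀ (a b c e : F), (algebraMap F K a + d.θ * algebraMap F K b) * (algebraMap F K c + d.θ ^ q * algebraMap F K e)
      - (algebraMap F K c + d.θ * algebraMap F K e) * (algebraMap F K a + d.θ ^ q * algebraMap F K b)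
      = (d.θ - d.θ ^ q) * algebraMap F K (b * c - a * e) := by
    intro a b c e
    simp only [map_sub, map_mul]
    ring
  have := key (d.re u) (d.im u) (d.re v) (d.im v)
  rw [hu, hv, ← huq, ← hvq] at this
  exact this

lemma trace_fix : (d.θ + d.θ ^ q) ^ q = d.θ + d.θ ^ q := by
  rw [d.add, d.invol]
  ring

lemma norm_fix : (d.θ * d.θ ^ q) ^ q = d.θ * d.θ ^ q := by
  rw [mul_pow, d.invol]
  ring

/-- trace of `θ` -/
noncomputable def tau : F := Classical.choose (d.range _ d.trace_fix)

/-- norm of `θ` -/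
noncomputable def nu : F := Classical.choose (d.range _ d.norm_fix)

lemma alg_tau : algebraMap F K d.tau = d.θ + d.θ ^ q := Classical.choose_spec (d.range _ d.trace_fix)

lemma alg_nu : algebraMap F K d.nu = d.θ * d.θ ^ q := Classical.choose_spec (d.range _ d.norm_fix)

lemma theta_sq : d.θ ^ 2 = algebraMap F K d.tau * d.θ - algebraMap F K d.nu := by
  rw [d.alg_tau, d.alg_nu]
  ring

lemma mul_decomp (x y : K) :
    x * y = algebraMap F K (d.re x * d.re y - d.nu * (d.im x * d.im y)) +
      d.θ * algebraMap F K (d.re x * d.im y + d.im x * (d.re y + d.tau * d.im y)) := by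
  have hx := d.decomp x
  have hy := d.decomp y
  have h2 := d.theta_sq
  simp only [map_sub, map_mul, map_add]
  linear_combination (-1 : K) * (algebraMap F K (d.re y) + d.θ * algebraMap F K (d.im y)) * hx
    - x * hy + algebraMap F K (d.im x) * algebraMap F K (d.im y) * h2

lemma im_mul (x y : K) :
    d.im (x * y) = d.re x * d.im y + d.im x * (d.re y + d.tau * d.im y) :=
  d.im_eq (d.mul_decomp x y).symm

lemma re_mul (x y : K) :
    d.re (x * y) = d.re x * d.re y - d.nu * (d.im x * d.im y) :=
  d.re_eq (d.mul_decomp x y).symm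

lemma im_sub (x y : K) : d.im (x - y) = d.im x - d.im y := by
  have := d.im_add (x - y) y
  rw [sub_add_cancel] at this
  rw [this, add_sub_cancel_right]

lemma pow_q_decomp (x : K) :
    x ^ q = algebraMap F K (d.re x) + d.θ ^ q * algebraMap F K (d.im x) := by
  conv_lhs => rw [← d.decomp x]
  rw [d.add, mul_pow, d.fix, d.fix]

lemma mul_pow_q (x y : K) : (x * y) ^ q = x ^ q * y ^ q := mul_pow x y q

/-- the trace to `F` -/
noncomputable def trF (z : K) : F := 2 * d.re z + d.tau * d.im z

lemma alg_trF (z : K) : algebraMap F K (d.trF z) = z + z ^ q := by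
  unfold trF
  rw [d.pow_q_decomp z]
  simp only [map_add, map_mul, map_ofNat, d.alg_tau]
  have := d.decomp z
  linear_combination this

lemma trF_add (x y : K) : d.trF (x + y) = d.trF x + d.trF y := by
  unfold trF
  rw [d.re_add, d.im_add]
  ring

lemma trF_smul (a : F) (x : K) : d.trF (algebraMap F K a * x) = a * d.trF x := by
  unfold trF
  rw [d.re_smul, d.im_smul]
  ring

/-- an element of trace one -/
noncomputable def kap : K := d.θ / d.lam

lemma kap_trace : d.kap + d.kap ^ q = 1 := by
  unfold kap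
  rw [div_pow, d.lam_pow]
  have h := d.lam_ne
  unfold lam at h ⊢
  field_simp
  ring

lemma eq_zero_of_re_im {x : K} (h1 : d.re x = 0) (h2 : d.im x = 0) : x = 0 := by
  rw [← d.decomp x, h1, h2]
  simp

lemma eq_zero_of_trF {w : K} (h1 : d.trF w = 0) (h2 : d.trF (d.θ ^ q * w) = 0) : w = 0 := by
  have e1 := d.alg_trF w
  have e2 := d.alg_trF (d.θ ^ q * w)
  rw [h1, map_zero] at e1
  rw [h2, map_zero, mul_pow, d.invol] at e2
  have h3 : d.lam * w = 0 := by
    unfold lam
    linear_combination (-d.θ) * e1 + e2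
  rcases mul_eq_zero.mp h3 with h | h
  · exact absurd h d.lam_ne
  · exact h

end Data

theorem exists_norm_neg_one {K F : Type*} [Field K] [Fintype K] [Field F] [Fintype F] [Algebra F K]
    {q : ℕ} (hK : Fintype.card K = q ^ 2) (hF : Fintype.card F = q) :
    ∃ ε : K, ε * ε ^ q = -1 := by
  obtain ⟨ε, hε⟩ := FiniteField.norm_surjective F K (-1)
  have h := FiniteField.algebraMap_norm_eq_pow (K := F) (K' := K) (x := ε)
  rw [hε, Nat.card_eq_fintype_card, Nat.card_eq_fintype_card, hK, hF] at h
  have hq2 : 2 ≤ q := by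
    rw [← hF]
    exact Fintype.one_lt_card
  have hdiv : (q ^ 2 - 1) / (q - 1) = q + 1 := by
    have h1 : q ^ 2 - 1 = (q - 1) * (q + 1) := by
      obtain ⟨r, rfl⟩ : ∃ r, q = r + 2 := ⟨q - 2, by omega⟩
      have : (r + 2) ^ 2 - 1 = (r + 1) * (r + 3) := by
        have : (r + 2) ^ 2 = (r + 1) * (r + 3) + 1 := by ring
        omega
      simpa using this
    rw [h1, Nat.mul_div_cancel_left _ (by omega)]
  rw [hdiv] at h
  refine ⟨ε, ?_⟩
  rw [← pow_succ', ← h]
  simp

/-- an anisotropic binary form `z₁² + a z₁ z₂ + b z₂²` over `F` has a "root" in `K` -/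
theorem exists_root {K F : Type*} [Field K] [Fintype K] [Field F] [Fintype F] [Algebra F K]
    {q : ℕ} (hK : Fintype.card K = q ^ 2) (hF : Fintype.card F = q) (a b : F)
    (hab : ∀ z₁ z₂ : F, z₁ ^ 2 + a * z₁ * z₂ + b * z₂ ^ 2 = 0 → z₁ = 0 ∧ z₂ = 0) :
    ∃ η : K, η ^ 2 - algebraMap F K a * η + algebraMap F K b = 0 := by
  classical
  set f : F[X] := C 1 * X ^ 2 + C (-a) * X + C b with hf
  have hdeg : f.natDegree = 2 := natDegree_quadratic one_ne_zero
  have hnoroot : ∀ x, ¬ IsRoot f x := by
    intro x hx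
    rw [IsRoot.def, hf] at hx
    simp only [eval_add, eval_mul, eval_C, eval_pow, eval_X] at hx
    have := hab (-x) 1 (by linear_combination hx)
    exact one_ne_zero this.2
  have hirr : Irreducible f :=
    irreducible_of_degree_le_three_of_not_isRoot (by rw [hdeg]; decide) hnoroot
  have hdvd : f ∣ X ^ (Nat.card F) ^ 2 - X :=
    (hirr.natDegree_dvd_iff_dvd_X_pow_card_pow_sub_X (n := 2)).mp (by rw [hdeg])
  have hdvd' : f.map (algebraMap F K) ∣ (X ^ (Nat.card F) ^ 2 - X : F[X]).map (algebraMap F K) :=
    Polynomial.map_dvd _ hdvd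
  have hcard : (Nat.card F) ^ 2 = Fintype.card K := by
    rw [Nat.card_eq_fintype_card, hF, hK]
  rw [hcard] at hdvd'
  have hsplit : Splits ((X ^ Fintype.card K - X : F[X]).map (algebraMap F K)) :=
    (FiniteField.isSplittingField_sub K F).splits
  have hne : (X ^ Fintype.card K - X : F[X]).map (algebraMap F K) ≠ 0 := by
    apply Polynomial.map_ne_zero
    exact FiniteField.X_pow_card_sub_X_ne_zero F Fintype.one_lt_card
  have hsplitf : Splits (f.map (algebraMap F K)) := hsplit.of_dvd hne hdvd'
  have hdegf : (f.map (algebraMap F K)).degree ≠ 0 := by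
    rw [degree_map]
    intro h
    have := natDegree_eq_of_degree_eq_some h
    rw [hdeg] at this
    norm_num at this
  obtain ⟨η, hη⟩ := hsplitf.exists_eval_eq_zero hdegf
  refine ⟨η, ?_⟩
  rw [hf] at hη
  simp only [Polynomial.map_add, Polynomial.map_mul, Polynomial.map_pow, Polynomial.map_C,
    Polynomial.map_X, Polynomial.map_one, Polynomial.map_neg, eval_add,
    eval_mul, eval_C, eval_pow, eval_X, eval_one, eval_neg, map_one, map_neg, C_1, C_neg] at hη
  linear_combination hη

namespace Data

variable {K F : Type*} [Field K] [Field F] [Algebra F K] {q : ℕ} (d : Data K F q)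

include d in
/-- properties of a root `η` of an anisotropic form -/
lemma root_props (a b : F)
    (hab : ∀ z₁ z₂ : F, z₁ ^ 2 + a * z₁ * z₂ + b * z₂ ^ 2 = 0 → z₁ = 0 ∧ z₂ = 0)
    (η : K) (hη : η ^ 2 - algebraMap F K a * η + algebraMap F K b = 0) :
    η ^ q ≠ η ∧ η + η ^ q = algebraMap F K a ∧ η * η ^ q = algebraMap F K b := by
  have hne : η ^ q ≠ η := by
    intro h
    obtain ⟨r, hr⟩ := d.range η h
    rw [← hr] at hη
    have h2 : r ^ 2 - a * r + b = 0 := by
      apply (algebraMap F K).injective
      simp only [map_add, map_sub, map_mul, map_pow, map_zero]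
      exact hη
    have := hab (-r) 1 (by linear_combination h2)
    exact one_ne_zero this.2
  have hq : (η ^ q) ^ 2 - algebraMap F K a * η ^ q + algebraMap F K b = 0 := by
    have h0 : (η ^ 2 - algebraMap F K a * η + algebraMap F K b) ^ q = (0 : K) ^ q :=
      congrArg (fun z => z ^ q) hη
    rw [d.add, d.sub_pow, mul_pow, d.fix, d.fix, ← pow_mul, mul_comm 2 q, pow_mul] at h0
    have hq0 : q ≠ 0 := by
      intro hq0
      apply hne
      have := d.invol η
      rw [hq0, pow_zero] at this
      subst hq0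
      rw [pow_zero]
      exact this
    rw [zero_pow hq0] at h0
    exact h0
  have hsum : η + η ^ q = algebraMap F K a := by
    have h1 : (η - η ^ q) * (η + η ^ q - algebraMap F K a) = 0 := by
      linear_combination hη - hq
    rcases mul_eq_zero.mp h1 with h | h
    · exact absurd (sub_eq_zero.mp h).symm hne
    · exact sub_eq_zero.mp h
  refine ⟨hne, hsum, ?_⟩
  linear_combination (-1 : K) * hη + η * hsum

/-- change the distinguished element -/
def withTheta (η : K) (hη : η ^ q ≠ η) : Data K F q :=
  { θ := η, fix := d.fix, θ_ne := hη, add := d.add, invol := d.invol, range := d.range }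

end Data

section Restrict

open scoped Matrix

variable {K F : Type*} [Field K] [Field F] [Algebra F K]
variable {I J : Type*} [Fintype I] [DecidableEq I] [Fintype J] [DecidableEq J]

/-- `mulVec` as an `F`-linear map -/
def mulVecF (g : Matrix I I K) : (I → K) →ₗ[F] (I → K) := (Matrix.toLin' g).restrictScalars F

lemma mulVecF_apply (g : Matrix I I K) (u : I → K) : mulVecF (F := F) g u = g *ᵥ u := rfl

/-- restriction of scalars of a matrix along an `F`-linear equivalence `E` -/
noncomputable def Phi (E : (I → K) ≃ₗ[F] (J → F)) (g : Matrix I I K) : Matrix J J F :=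
  LinearMap.toMatrix' ((E : (I → K) →ₗ[F] (J → F)) ∘ₗ mulVecF g ∘ₗ (E.symm : (J → F) →ₗ[F] (I → K)))

lemma Phi_mulVec (E : (I → K) ≃ₗ[F] (J → F)) (g : Matrix I I K) (u : I → K) :
    Phi E g *ᵥ E u = E (g *ᵥ u) := by
  unfold Phi
  rw [LinearMap.toMatrix'_mulVec]
  simp [mulVecF_apply]

lemma Phi_mul (E : (I → K) ≃ₗ[F] (J → F)) (g h : Matrix I I K) :
    Phi E (g * h) = Phi E g * Phi E h := by
  apply Matrix.toLin'.injective
  apply LinearMap.ext
  intro w
  obtain ⟨u, rfl⟩ := E.surjective w
  rw [Matrix.toLin'_apply, Matrix.toLin'_apply, ← Matrix.mulVec_mulVec, Phi_mulVec, Phi_mulVec,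
    Phi_mulVec, Matrix.mulVec_mulVec]

lemma Phi_one (E : (I → K) ≃ₗ[F] (J → F)) : Phi E (1 : Matrix I I K) = 1 := by
  apply Matrix.toLin'.injective
  apply LinearMap.ext
  intro w
  obtain ⟨u, rfl⟩ := E.surjective w
  rw [Matrix.toLin'_apply, Phi_mulVec, Matrix.one_mulVec, Matrix.toLin'_apply, Matrix.one_mulVec]

lemma Phi_injective (E : (I → K) ≃ₗ[F] (J → F)) : Function.Injective (Phi E (I := I)) := by
  intro g h hgh
  apply Matrix.toLin'.injective
  apply LinearMap.ext
  intro u
  rw [Matrix.toLin'_apply, Matrix.toLin'_apply]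
  apply E.injective
  rw [← Phi_mulVec, ← Phi_mulVec, hgh]

/-- a matrix is determined by its bilinear form -/
lemma matrix_ext_of_form {R : Type*} [CommRing R] (M M' : Matrix J J R)
    (h : ∀ x y : J → R, x ⬝ᵥ (M *ᵥ y) = x ⬝ᵥ (M' *ᵥ y)) : M = M' := by
  ext i j
  have := h (Pi.single i 1) (Pi.single j 1)
  simpa using this

/-- if `A` preserves the form of `M` then `Aᵀ M A = M` -/
lemma transpose_mul_mul_of_form {R : Type*} [CommRing R] (A M : Matrix J J R)
    (h : ∀ x y : J → R, (A *ᵥ x) ⬝ᵥ (M *ᵥ (A *ᵥ y)) = x ⬝ᵥ (M *ᵥ y)) : A.transpose * M * A = M := by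
  apply matrix_ext_of_form
  intro x y
  rw [← h x y, ← Matrix.mulVec_mulVec, ← Matrix.mulVec_mulVec, Matrix.dotProduct_mulVec,
    Matrix.vecMul_transpose]

/-- the coordinate equivalence `K^I ≃ F^I ⊕ F^I` -/
noncomputable def E1 {q : ℕ} (d : Data K F q) (I : Type*) : (I → K) ≃ₗ[F] (I ⊕ I → F) where
  toFun u := Sum.elim (fun i => d.re (u i)) (fun i => d.im (u i))
  map_add' := by
    intro u v
    ext (i | i) <;> simp [d.re_add, d.im_add]
  map_smul' := by
    intro a u
    ext (i | i) <;> simp [Algebra.smul_def, d.re_smul, d.im_smul]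
  invFun w := fun i => algebraMap F K (w (Sum.inl i)) + d.θ * algebraMap F K (w (Sum.inr i))
  left_inv := by
    intro u
    ext i
    exact d.decomp (u i)
  right_inv := by
    intro w
    ext (i | i)
    · exact d.re_eq rfl
    · exact d.im_eq rfl

lemma E1_inl {q : ℕ} (d : Data K F q) (u : I → K) (i : I) : E1 d I u (Sum.inl i) = d.re (u i) := rfl

lemma E1_inr {q : ℕ} (d : Data K F q) (u : I → K) (i : I) : E1 d I u (Sum.inr i) = d.im (u i) := rfl

end Restrict

section PolarExt

/-! Two quadratic forms with the same polar form and the same values on a spanning set are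
equal. -/

variable {F V : Type*} [CommRing F] [AddCommGroup V] [Module F V]

theorem ext_of_polar (Q Q' : QuadraticForm F V) (S : Set V) (hS : Submodule.span F S = ⊤)
    (hp : ∀ u v, QuadraticMap.polar Q u v = QuadraticMap.polar Q' u v)
    (hb : ∀ s ∈ S, Q s = Q' s) : Q = Q' := by
  ext v
  have hv : v ∈ Submodule.span F S := by rw [hS]; trivial
  induction hv using Submodule.span_induction with
  | mem x hx => exact hb x hx
  | zero => rw [map_zero, map_zero]
  | add x y _ _ hx hy =>
    rw [QuadraticMap.map_add (⇑Q) x y, QuadraticMap.map_add (⇑Q') x y, hx, hy, hp]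
  | smul a x _ hx =>
    rw [QuadraticMap.map_smul, QuadraticMap.map_smul, hx]

/-- version for the standard basis of `ι → F`. -/
theorem ext_of_polar_pi {ι : Type*} [Fintype ι] [DecidableEq ι] (Q Q' : QuadraticForm F (ι → F))
    (hp : ∀ u v, QuadraticMap.polar Q u v = QuadraticMap.polar Q' u v)
    (hb : ∀ i, Q (Pi.single i 1) = Q' (Pi.single i 1)) : Q = Q' := by
  refine ext_of_polar Q Q' (Set.range (Pi.basisFun F ι)) (Pi.basisFun F ι).span_eq hp ?_
  rintro _ ⟨i, rfl⟩
  rw [Pi.basisFun_apply]
  exact hb i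

end PolarExt

end Cfsg.Agent.Helper8.QuadExt
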