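import Mathlib
import Cfsg.Agent.Helper8.StdForms
import Cfsg.Agent.Helper8.QuadExt

set_option autoImplicit false

/-!
A quadratic form with a hyperbolic (resp. elliptic) basis is carried to the standard plus (resp.
minus) form by the coordinate map of the basis.
-/

namespace Cfsg.Agent.Helper8.StdTransfer

open Module Cfsg Cfsg.Agent.Helper8.StdForms

variable {F V : Type*} [Field F] [AddCommGroup V] [Module F V]

theorem polar_ext {ι : Type*} [Fintype ι] [DecidableEq ι] (b : Basis ι F V) (Q Q' : QuadraticForm F V)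
    (h : ∀ r s, QuadraticMap.polar Q (b r) (b s) = QuadraticMap.polar Q' (b r) (b s)) :
    ∀ u v, QuadraticMap.polar Q u v = QuadraticMap.polar Q' u v := by
  have : QuadraticMap.polarBilin Q = QuadraticMap.polarBilin Q' :=
    LinearMap.ext_basis b b (fun r s => h r s)
  intro u v
  exact LinearMap.congr_fun (LinearMap.congr_fun this u) v

theorem polar_comp_equivFun {ι : Type*} [Fintype ι] [DecidableEq ι] (b : Basis ι F V)
    (Q₀ : QuadraticForm F (ι → F)) (u v : V) :
    QuadraticMap.polar (Q₀.comp (b.equivFun : V →ₗ[F] (ι → F))) u v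
      = QuadraticMap.polar Q₀ (b.equivFun u) (b.equivFun v) := by
  unfold QuadraticMap.polar
  simp only [QuadraticMap.comp_apply, LinearEquiv.coe_coe, map_add]

theorem equivFun_basis {ι : Type*} [Fintype ι] [DecidableEq ι] (b : Basis ι F V) (i : ι) :
    b.equivFun (b i) = Pi.single i 1 := by
  funext j
  rw [Basis.equivFun_self, Pi.single_apply]
  by_cases h : i = j
  · rw [if_pos h, if_pos h.symm]
  · rw [if_neg h, if_neg (Ne.symm h)]

theorem plus_transfer {m : ℕ} (Q : QuadraticForm F V) (b : Basis (Fin m ⊕ Fin m) F V)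
    (h1 : ∀ i, Q (b (Sum.inl i)) = 0 ∧ Q (b (Sum.inr i)) = 0)
    (h2 : ∀ i j, QuadraticMap.polar ⇑Q (b (Sum.inl i)) (b (Sum.inr j)) = if i = j then 1 else 0)
    (h3 : ∀ i j, QuadraticMap.polar ⇑Q (b (Sum.inl i)) (b (Sum.inl j)) = 0 ∧
      QuadraticMap.polar ⇑Q (b (Sum.inr i)) (b (Sum.inr j)) = 0) :
    ∀ v, plusForm F m (b.equivFun v) = Q v := by
  classical
  have key : (plusForm F m).comp (b.equivFun : V →ₗ[F] (Fin m ⊕ Fin m → F)) = Q := by
    refine QuadExt.ext_of_polar _ _ (Set.range b) b.span_eq (polar_ext b _ _ ?_) ?_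
    · intro r s
      rw [polar_comp_equivFun, equivFun_basis, equivFun_basis, polar_plusForm]
      rcases r with i | i <;> rcases s with j | j
      · rw [(h3 i j).1]; simp
      · rw [h2 i j]; simp [Pi.single_apply, eq_comm]
      · rw [QuadraticMap.polar_comm, h2 j i]; simp [Pi.single_apply, eq_comm]
      · rw [(h3 i j).2]; simp
    · rintro _ ⟨r, rfl⟩
      rw [QuadraticMap.comp_apply, LinearEquiv.coe_coe, equivFun_basis, plusForm_apply]
      unfold quadFormPlus
      rcases r with i | i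
      · rw [(h1 i).1]; simp
      · rw [(h1 i).2]; simp
  intro v
  have := congrArg (fun Q' : QuadraticForm F V => Q' v) key
  exact this

theorem minus_transfer {m : ℕ} (Q : QuadraticForm F V) (b : Basis ((Fin m ⊕ Fin m) ⊕ Fin 2) F V)
    (ζ : F)
    (h1 : ∀ i, Q (b (Sum.inl (Sum.inl i))) = 0 ∧ Q (b (Sum.inl (Sum.inr i))) = 0)
    (h2 : ∀ i j, QuadraticMap.polar ⇑Q (b (Sum.inl (Sum.inl i))) (b (Sum.inl (Sum.inr j)))
      = if i = j then 1 else 0)
    (h3 : ∀ i j, QuadraticMap.polar ⇑Q (b (Sum.inl (Sum.inl i))) (b (Sum.inl (Sum.inl j))) = 0 ∧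
      QuadraticMap.polar ⇑Q (b (Sum.inl (Sum.inr i))) (b (Sum.inl (Sum.inr j))) = 0)
    (h4 : ∀ i (c : Fin 2), QuadraticMap.polar ⇑Q (b (Sum.inl (Sum.inl i))) (b (Sum.inr c)) = 0 ∧
      QuadraticMap.polar ⇑Q (b (Sum.inl (Sum.inr i))) (b (Sum.inr c)) = 0)
    (h5 : Q (b (Sum.inr 0)) = 1) (h6 : QuadraticMap.polar ⇑Q (b (Sum.inr 0)) (b (Sum.inr 1)) = 1)
    (h7 : Q (b (Sum.inr 1)) = ζ) :
    ∀ v, minusForm F m 1 ζ (b.equivFun v) = Q v := by
  classical
  have hself : ∀ x : V, QuadraticMap.polar ⇑Q x x = 2 * Q x := by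
    intro x
    rw [QuadraticMap.polar_self, two_smul, two_mul]
  have key : (minusForm F m 1 ζ).comp (b.equivFun : V →ₗ[F] ((Fin m ⊕ Fin m) ⊕ Fin 2 → F)) = Q := by
    refine QuadExt.ext_of_polar _ _ (Set.range b) b.span_eq (polar_ext b _ _ ?_) ?_
    · intro r s
      rw [polar_comp_equivFun, equivFun_basis, equivFun_basis, polar_minusForm]
      rcases r with (i | i) | c <;> rcases s with (j | j) | d
      · rw [(h3 i j).1]; simp
      · rw [h2 i j]; simp [Pi.single_apply, eq_comm]
      · rw [(h4 i d).1]; simp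
      · rw [QuadraticMap.polar_comm, h2 j i]; simp [Pi.single_apply, eq_comm]
      · rw [(h3 i j).2]; simp
      · rw [(h4 i d).2]; simp
      · rw [QuadraticMap.polar_comm, (h4 j c).1]; simp
      · rw [QuadraticMap.polar_comm, (h4 j c).2]; simp
      · fin_cases c <;> fin_cases d
        · show _ = QuadraticMap.polar ⇑Q (b (Sum.inr 0)) (b (Sum.inr 0))
          rw [hself, h5]; simp
        · show _ = QuadraticMap.polar ⇑Q (b (Sum.inr 0)) (b (Sum.inr 1))
          rw [h6]; simp
        · show _ = QuadraticMap.polar ⇑Q (b (Sum.inr 1)) (b (Sum.inr 0))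
          rw [QuadraticMap.polar_comm, h6]; simp
        · show _ = QuadraticMap.polar ⇑Q (b (Sum.inr 1)) (b (Sum.inr 1))
          rw [hself, h7]; simp
    · rintro _ ⟨r, rfl⟩
      rw [QuadraticMap.comp_apply, LinearEquiv.coe_coe, equivFun_basis, minusForm_apply]
      unfold quadFormMinus
      rcases r with (i | i) | c
      · rw [(h1 i).1]; simp
      · rw [(h1 i).2]; simp
      · fin_cases c
        · show _ = Q (b (Sum.inr 0))
          rw [h5]; simp
        · show _ = Q (b (Sum.inr 1))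
          rw [h7]; simp
  intro v
  have := congrArg (fun Q' : QuadraticForm F V => Q' v) key
  exact this

end Cfsg.Agent.Helper8.StdTransfer
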