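import Mathlib
import Cfsg.Agent.Helper8.Sp2Iso
set_option autoImplicit false

/-! Frames with a table: symplectic families on which a self-adjoint square-zero operator acts by a
prescribed partial map.  Bases, rank, isometries. -/

namespace Cfsg.Agent.Helper8.Sp2

open Module Cfsg.Agent.Helper8.SpS

universe u v

variable {F : Type v} [Field F]
variable {V : Type u} [AddCommGroup V] [Module F V]

/-- the value prescribed by a table -/
def tbl {K : ℕ} (τ : Fin K → Option (Fin K)) (Fv : Fin K → V) (i : Fin K) : V :=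
  (τ i).elim 0 Fv

theorem tbl_some {K : ℕ} {τ : Fin K → Option (Fin K)} (Fv : Fin K → V) {i j : Fin K}
    (h : τ i = some j) : tbl τ Fv i = Fv j := by
  rw [tbl, h]; rfl

theorem tbl_none {K : ℕ} {τ : Fin K → Option (Fin K)} (Fv : Fin K → V) {i : Fin K}
    (h : τ i = none) : tbl τ Fv i = 0 := by
  rw [tbl, h]; rfl

/-- a frame with table `τ` -/
def IsFrame (B : V →ₗ[F] V →ₗ[F] F) (N : Module.End F V) {K : ℕ} (τ : Fin K → Option (Fin K))
    (E Fv : Fin K → V) : Prop :=
  IsSympFam B E Fv ∧ (∀ i, N (Fv i) = 0) ∧ (∀ i, N (E i) = tbl τ Fv i)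

section basis
variable [FiniteDimensional F V]

/-- the basis of a frame -/
noncomputable def IsFrame.basis {B : V →ₗ[F] V →ₗ[F] F} {N : Module.End F V} {K : ℕ}
    {τ : Fin K → Option (Fin K)} {E Fv : Fin K → V} (h : IsFrame B N τ E Fv) (hAlt : Alt B)
    (hK : finrank F V = 2 * K) : Basis (Fin K ⊕ Fin K) F V :=
  basisOfLinearIndependentOfCardEqFinrank' (Sum.elim E Fv)
    (linearIndependent_family B hAlt E Fv h.1.1 h.1.2.1 h.1.2.2)
    (by rw [Fintype.card_sum, Fintype.card_fin, hK]; ring)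

theorem IsFrame.basis_apply {B : V →ₗ[F] V →ₗ[F] F} {N : Module.End F V} {K : ℕ}
    {τ : Fin K → Option (Fin K)} {E Fv : Fin K → V} (h : IsFrame B N τ E Fv) (hAlt : Alt B)
    (hK : finrank F V = 2 * K) (x : Fin K ⊕ Fin K) :
    h.basis hAlt hK x = Sum.elim E Fv x := by
  rw [IsFrame.basis, coe_basisOfLinearIndependentOfCardEqFinrank']

theorem IsFrame.span_eq {B : V →ₗ[F] V →ₗ[F] F} {N : Module.End F V} {K : ℕ}
    {τ : Fin K → Option (Fin K)} {E Fv : Fin K → V} (h : IsFrame B N τ E Fv) (hAlt : Alt B)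
    (hK : finrank F V = 2 * K) (x : V) :
    x ∈ Submodule.span F (Set.range E ∪ Set.range Fv) := by
  have h1 := (h.basis hAlt hK).span_eq
  have h2 : Set.range (h.basis hAlt hK) = Set.range E ∪ Set.range Fv := by
    have : ⇑(h.basis hAlt hK) = Sum.elim E Fv := funext (h.basis_apply hAlt hK)
    rw [this, Set.Sum.elim_range]
  rw [← h2, h1]
  exact Submodule.mem_top

/-- the rank of `N` from a frame with an injective table -/
theorem IsFrame.finrank_range {B : V →ₗ[F] V →ₗ[F] F} {N : Module.End F V} {K : ℕ}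
    {τ : Fin K → Option (Fin K)} {E Fv : Fin K → V} (h : IsFrame B N τ E Fv) (hAlt : Alt B)
    (hK : finrank F V = 2 * K) (hinj : ∀ i j k, τ i = some k → τ j = some k → i = j) :
    finrank F (LinearMap.range N) = Fintype.card {i : Fin K // (τ i).isSome} := by
  obtain ⟨hS, hNF, hNE⟩ := h
  have hli := linearIndependent_family B hAlt E Fv hS.1 hS.2.1 hS.2.2
  set g : {i : Fin K // (τ i).isSome} → V := fun i => Fv ((τ i.1).get i.2) with hg
  have hgli : LinearIndependent F g := by
    have h1 : g = Sum.elim E Fv ∘ (fun i : {i : Fin K // (τ i).isSome} =>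
        Sum.inr ((τ i.1).get i.2)) := rfl
    rw [h1]
    apply hli.comp
    intro i j hij
    have h2 : (τ i.1).get i.2 = (τ j.1).get j.2 := Sum.inr_injective hij
    apply Subtype.ext
    exact hinj i.1 j.1 _ (Option.some_get i.2).symm (by rw [h2]; exact (Option.some_get j.2).symm)
  have hrange : LinearMap.range N = Submodule.span F (Set.range g) := by
    apply le_antisymm
    · rintro _ ⟨x, rfl⟩
      have hx := IsFrame.span_eq ⟨hS, hNF, hNE⟩ hAlt hK x
      rw [← Submodule.mem_comap]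
      revert hx
      suffices Submodule.span F (Set.range E ∪ Set.range Fv) ≤
          Submodule.comap N (Submodule.span F (Set.range g)) from fun hx => this hx
      rw [Submodule.span_le]
      rintro _ (⟨i, rfl⟩ | ⟨i, rfl⟩)
      · rw [SetLike.mem_coe, Submodule.mem_comap, hNE i]
        rcases hτ : τ i with _ | j
        · rw [tbl_none Fv hτ]
          exact Submodule.zero_mem _
        · rw [tbl_some Fv hτ]
          have hi : (τ i).isSome := by rw [hτ]; rfl
          refine Submodule.subset_span ⟨⟨i, hi⟩, ?_⟩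
          simp only [hg]
          congr 1
          simp [hτ]
      · rw [SetLike.mem_coe, Submodule.mem_comap, hNF i]
        exact Submodule.zero_mem _
    · rw [Submodule.span_le]
      rintro _ ⟨i, rfl⟩
      refine ⟨E i.1, ?_⟩
      rw [hNE, tbl_some Fv (Option.some_get i.2).symm]
  rw [hrange, finrank_span_eq_card hgli]


omit [FiniteDimensional F V] in
theorem map_tbl {V₂ : Type*} [AddCommGroup V₂] [Module F V₂] {K : ℕ}
    (τ : Fin K → Option (Fin K)) (Fv : Fin K → V) (z : V →ₗ[F] V₂) (i : Fin K) :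
    z (tbl τ Fv i) = tbl τ (fun j => z (Fv j)) i := by
  rcases hτ : τ i with _ | j
  · rw [tbl_none Fv hτ, tbl_none _ hτ, map_zero]
  · rw [tbl_some Fv hτ, tbl_some _ hτ]

variable {V₂ : Type u} [AddCommGroup V₂] [Module F V₂]

/-- two frames with the same table are related by an isometry -/
theorem exists_iso_of_frames {B₁ : V →ₗ[F] V →ₗ[F] F} {N₁ : Module.End F V}
    {B₂ : V₂ →ₗ[F] V₂ →ₗ[F] F} {N₂ : Module.End F V₂} (hAlt₁ : Alt B₁) (hAlt₂ : Alt B₂)
    {K : ℕ} (hK : finrank F V = 2 * K) {τ : Fin K → Option (Fin K)}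
    {E₁ F₁ : Fin K → V} {E₂ F₂ : Fin K → V₂}
    (h₁ : IsFrame B₁ N₁ τ E₁ F₁) (h₂ : IsFrame B₂ N₂ τ E₂ F₂) :
    ∃ z : V →ₗ[F] V₂, (∀ u v, B₂ (z u) (z v) = B₁ u v) ∧ (∀ u, z (N₁ u) = N₂ (z u)) ∧
      (∀ i, z (E₁ i) = E₂ i) ∧ (∀ i, z (F₁ i) = F₂ i) := by
  set b₁ := h₁.basis hAlt₁ hK with hb₁
  set z : V →ₗ[F] V₂ := b₁.constr F (Sum.elim E₂ F₂) with hz
  have hzb : ∀ x, z (b₁ x) = Sum.elim E₂ F₂ x := fun x => Basis.constr_basis _ _ _ _
  have hb₁x : ∀ x, b₁ x = Sum.elim E₁ F₁ x := fun x => h₁.basis_apply hAlt₁ hK x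
  have hzE : ∀ i, z (E₁ i) = E₂ i := by
    intro i
    have := hzb (Sum.inl i)
    rwa [hb₁x] at this
  have hzF : ∀ i, z (F₁ i) = F₂ i := by
    intro i
    have := hzb (Sum.inr i)
    rwa [hb₁x] at this
  refine ⟨z, ?_, ?_, hzE, hzF⟩
  · have h3 : B₂.compl₁₂ z z = B₁ := by
      apply LinearMap.ext_basis b₁ b₁
      intro x y
      rw [LinearMap.compl₁₂_apply, hzb, hzb, hb₁x, hb₁x,
        gram_family B₂ hAlt₂ E₂ F₂ h₂.1.1 h₂.1.2.1 h₂.1.2.2,
        gram_family B₁ hAlt₁ E₁ F₁ h₁.1.1 h₁.1.2.1 h₁.1.2.2]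
    intro u v
    rw [← h3]
    rfl
  · have h4 : z ∘ₗ N₁ = N₂ ∘ₗ z := by
      apply b₁.ext
      intro x
      rw [LinearMap.comp_apply, LinearMap.comp_apply, hzb, hb₁x]
      rcases x with i | i
      · simp only [Sum.elim_inl]
        rw [h₁.2.2 i, h₂.2.2 i, map_tbl]
        congr 1
        funext j
        exact hzF j
      · simp only [Sum.elim_inr]
        rw [h₁.2.1 i, h₂.2.1 i, map_zero]
    intro u
    exact congrArg (fun f : V →ₗ[F] V₂ => f u) h4

/-- the isometries commuting with `N` -/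
def AutSet (B : V →ₗ[F] V →ₗ[F] F) (N : Module.End F V) : Type u :=
  {z : Module.End F V // (∀ u v, B (z u) (z v) = B u v) ∧ ∀ u, z (N u) = N (z u)}

/-- the frames with a given table -/
def FrameSet (B : V →ₗ[F] V →ₗ[F] F) (N : Module.End F V) {K : ℕ}
    (τ : Fin K → Option (Fin K)) : Type u :=
  {p : (Fin K → V) × (Fin K → V) // IsFrame B N τ p.1 p.2}

/-- the isometries commuting with `N` act simply transitively on the frames -/
theorem card_autSet_eq {B : V →ₗ[F] V →ₗ[F] F} {N : Module.End F V} (hAlt : Alt B) {K : ℕ}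
    (hK : finrank F V = 2 * K) {τ : Fin K → Option (Fin K)} (hne : Nonempty (FrameSet B N τ)) :
    Nat.card (AutSet B N) = Nat.card (FrameSet B N τ) := by
  obtain ⟨⟨⟨E₀, F₀⟩, h₀⟩⟩ := hne
  simp only at h₀
  apply Nat.card_eq_of_bijective
    (fun z : AutSet B N => (⟨(fun i => z.1 (E₀ i), fun i => z.1 (F₀ i)), by
      refine ⟨⟨fun i j => ?_, fun i j => ?_, fun i j => ?_⟩, fun i => ?_, fun i => ?_⟩
      · simp only; rw [z.2.1]; exact h₀.1.1 i j
      · simp only; rw [z.2.1]; exact h₀.1.2.1 i j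
      · simp only; rw [z.2.1]; exact h₀.1.2.2 i j
      · simp only; rw [← z.2.2, h₀.2.1, map_zero]
      · simp only; rw [← z.2.2, h₀.2.2, map_tbl]⟩ : FrameSet B N τ))
  constructor
  · intro z z' hzz'
    have h1 := congrArg Subtype.val hzz'
    simp only [Prod.mk.injEq] at h1
    apply Subtype.ext
    apply (h₀.basis hAlt hK).ext
    intro x
    rw [h₀.basis_apply hAlt hK]
    rcases x with i | i
    · exact congrFun h1.1 i
    · exact congrFun h1.2 i
  · rintro ⟨⟨E, Fv⟩, h⟩
    simp only at h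
    obtain ⟨z, hzB, hzN, hzE, hzF⟩ := exists_iso_of_frames hAlt hAlt hK h₀ h
    refine ⟨⟨z, hzB, hzN⟩, ?_⟩
    apply Subtype.ext
    simp only [Prod.mk.injEq]
    exact ⟨funext hzE, funext hzF⟩

end basis

section chartwo
variable [CharP F 2] [FiniteDimensional F V]

/-- a frame whose table has no fixed point is of alternating type -/
theorem IsFrame.alt_of_no_fixed {B : V →ₗ[F] V →ₗ[F] F} {N : Module.End F V} {K : ℕ}
    {τ : Fin K → Option (Fin K)} {E Fv : Fin K → V} (h : IsFrame B N τ E Fv) (hAlt : Alt B)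
    (hsa : ∀ u v, B (N u) v = B u (N v))
    (hK : finrank F V = 2 * K) (hfix : ∀ i, τ i ≠ some i) (x : V) : B x (N x) = 0 := by
  let S : Submodule F V :=
    { carrier := {x | B x (N x) = 0}
      add_mem' := by
        intro a b ha hb
        show B (a + b) (N (a + b)) = 0
        rw [Q_add hAlt hsa, ha, hb, add_zero]
      zero_mem' := by
        show B 0 (N 0) = 0
        rw [map_zero, LinearMap.zero_apply]
      smul_mem' := by
        intro c a ha
        show B (c • a) (N (c • a)) = 0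
        rw [Q_smul, ha, mul_zero] }
  have hle : Submodule.span F (Set.range E ∪ Set.range Fv) ≤ S := by
    rw [Submodule.span_le]
    rintro _ (⟨i, rfl⟩ | ⟨i, rfl⟩)
    · show B (E i) (N (E i)) = 0
      rw [h.2.2 i]
      rcases hτ : τ i with _ | j
      · rw [tbl_none Fv hτ, map_zero]
      · rw [tbl_some Fv hτ, h.1.2.2 i j, if_neg]
        rintro rfl
        exact hfix i hτ
    · show B (Fv i) (N (Fv i)) = 0
      rw [h.2.1 i, map_zero]
  exact hle (h.span_eq hAlt hK x)

end chartwo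

end Cfsg.Agent.Helper8.Sp2
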