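import Mathlib
import Cfsg.Agent.Helper8.Sp2Frame
set_option autoImplicit false

/-! Peeling the first part of a frame: the fibres of the map to first parts. -/

namespace Cfsg.Agent.Helper8.Sp2

open Module Cfsg.Agent.Helper8.SpS

universe u v

/-- counting by fibres of constant size over a subset -/
theorem card_eq_mul_of_fibers {α β : Type*} [Finite α] [Finite β] (π : α → β) (S : Set β) (c : ℕ)
    (h1 : ∀ b ∈ S, Nat.card {a // π a = b} = c) (h0 : ∀ a, π a ∈ S) :
    Nat.card α = Nat.card S * c := by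
  classical
  let _ : Fintype β := Fintype.ofFinite β
  let _ : Fintype S := Fintype.ofFinite S
  let π' : α → S := fun a => ⟨π a, h0 a⟩
  have e := Equiv.sigmaFiberEquiv π'
  rw [← Nat.card_congr e, Nat.card_sigma]
  have h2 : ∀ b : S, Nat.card {a // π' a = b} = c := by
    intro b
    rw [← h1 b.1 b.2]
    apply Nat.card_congr
    exact Equiv.subtypeEquivRight (fun a => by
      constructor
      · intro h; exact congrArg Subtype.val h
      · intro h; exact Subtype.ext h)
  simp only [h2, Finset.sum_const, Finset.card_univ, smul_eq_mul, Nat.card_eq_fintype_card]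

variable {F : Type v} [Field F]
variable {V : Type u} [AddCommGroup V] [Module F V]

/-- the table of an appended frame -/
def appendTbl {k₀ K' : ℕ} (τ₀ : Fin k₀ → Option (Fin k₀)) (τ' : Fin K' → Option (Fin K')) :
    Fin (k₀ + K') → Option (Fin (k₀ + K')) :=
  Fin.append (fun i => (τ₀ i).map (Fin.castAdd K')) (fun i => (τ' i).map (Fin.natAdd k₀))

theorem tbl_append_left {k₀ K' : ℕ} (τ₀ : Fin k₀ → Option (Fin k₀))
    (τ' : Fin K' → Option (Fin K')) (f₀ : Fin k₀ → V) (F' : Fin K' → V) (i : Fin k₀) :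
    tbl (appendTbl τ₀ τ') (Fin.append f₀ F') (Fin.castAdd K' i) = tbl τ₀ f₀ i := by
  rw [tbl, appendTbl, Fin.append_left]
  rcases hτ : τ₀ i with _ | j
  · rw [tbl_none f₀ hτ]; rfl
  · rw [tbl_some f₀ hτ]
    simp only [Option.map_some, Option.elim_some, Fin.append_left]

theorem tbl_append_right {k₀ K' : ℕ} (τ₀ : Fin k₀ → Option (Fin k₀))
    (τ' : Fin K' → Option (Fin K')) (f₀ : Fin k₀ → V) (F' : Fin K' → V) (i : Fin K') :
    tbl (appendTbl τ₀ τ') (Fin.append f₀ F') (Fin.natAdd k₀ i) = tbl τ' F' i := by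
  rw [tbl, appendTbl, Fin.append_right]
  rcases hτ : τ' i with _ | j
  · rw [tbl_none F' hτ]; rfl
  · rw [tbl_some F' hτ]
    simp only [Option.map_some, Option.elim_some, Fin.append_right]

/-- the complement of a partial frame is `N`-stable -/
theorem IsFrame.N_mem_perp {B : V →ₗ[F] V →ₗ[F] F} {N : Module.End F V} {k₀ : ℕ}
    {τ₀ : Fin k₀ → Option (Fin k₀)} {e₀ f₀ : Fin k₀ → V} (h : IsFrame B N τ₀ e₀ f₀)
    (hsa : ∀ u v, B (N u) v = B u (N v)) (x : V) (hx : x ∈ perpFam B e₀ f₀) :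
    N x ∈ perpFam B e₀ f₀ := by
  intro i
  constructor
  · rw [← hsa, h.2.2 i]
    rcases hτ : τ₀ i with _ | j
    · rw [tbl_none f₀ hτ, map_zero, LinearMap.zero_apply]
    · rw [tbl_some f₀ hτ]
      exact (hx j).2
  · rw [← hsa, h.2.1 i, map_zero, LinearMap.zero_apply]


/-- the restricted form -/
def resB (B : V →ₗ[F] V →ₗ[F] F) (H : Submodule F V) : ↥H →ₗ[F] ↥H →ₗ[F] F :=
  B.compl₁₂ H.subtype H.subtype

/-- the restricted operator -/
def resN (N : Module.End F V) (H : Submodule F V) (hNH : ∀ x ∈ H, N x ∈ H) : Module.End F ↥H :=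
  N.restrict hNH

theorem resB_apply (B : V →ₗ[F] V →ₗ[F] F) (H : Submodule F V) (a b : ↥H) :
    resB B H a b = B (a : V) (b : V) := rfl

theorem resN_apply (N : Module.End F V) (H : Submodule F V) (hNH : ∀ x ∈ H, N x ∈ H) (a : ↥H) :
    ((resN N H hNH a : ↥H) : V) = N (a : V) := rfl

omit [AddCommGroup V] [Module F V] in
theorem append_eq {k₀ K' : ℕ} (E : Fin (k₀ + K') → V) :
    Fin.append (fun i => E (Fin.castAdd K' i)) (fun i => E (Fin.natAdd k₀ i)) = E := by
  funext i
  refine Fin.addCases (fun i' => ?_) (fun i' => ?_) i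
  · rw [Fin.append_left]
  · rw [Fin.append_right]

/-- the tail of a frame is a frame of the complement of the first part -/
theorem IsFrame.tail {B : V →ₗ[F] V →ₗ[F] F} {N : Module.End F V} (hAlt : Alt B) {k₀ K' : ℕ}
    {τ₀ : Fin k₀ → Option (Fin k₀)} {τ' : Fin K' → Option (Fin K')}
    {E Fv : Fin (k₀ + K') → V} (h : IsFrame B N (appendTbl τ₀ τ') E Fv) :
    (∀ i, E (Fin.natAdd k₀ i) ∈ perpFam B (fun j => E (Fin.castAdd K' j))
        (fun j => Fv (Fin.castAdd K' j)) ∧
      Fv (Fin.natAdd k₀ i) ∈ perpFam B (fun j => E (Fin.castAdd K' j))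
        (fun j => Fv (Fin.castAdd K' j))) ∧
    IsFrame B N τ₀ (fun j => E (Fin.castAdd K' j)) (fun j => Fv (Fin.castAdd K' j)) ∧
    IsFrame B N τ' (fun j => E (Fin.natAdd k₀ j)) (fun j => Fv (Fin.natAdd k₀ j)) := by
  obtain ⟨⟨hE, hF, hEF⟩, hNF, hNE⟩ := h
  have hne : ∀ (i : Fin K') (j : Fin k₀), Fin.natAdd k₀ i ≠ Fin.castAdd K' j := by
    intro i j h
    have := congrArg Fin.val h
    simp only [Fin.val_castAdd, Fin.val_natAdd] at this
    have := j.2
    omega
  refine ⟨fun i => ⟨fun j => ⟨hE _ _, ?_⟩, fun j => ⟨?_, hF _ _⟩⟩, ?_, ?_⟩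
  · exact hAlt.eq_zero_of_swap (by rw [hEF, if_neg (hne i j)])
  · rw [hEF, if_neg (Ne.symm (hne i j))]
  · refine ⟨⟨fun i j => hE _ _, fun i j => hF _ _, fun i j => ?_⟩, fun i => hNF _, fun i => ?_⟩
    · rw [hEF]
      simp only [Fin.castAdd_inj]
    · rw [hNE]
      conv_lhs => rw [← append_eq Fv]
      rw [tbl_append_left]
  · refine ⟨⟨fun i j => hE _ _, fun i j => hF _ _, fun i j => ?_⟩, fun i => hNF _, fun i => ?_⟩
    · rw [hEF]
      simp only [Fin.natAdd_inj]
    · rw [hNE]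
      conv_lhs => rw [← append_eq Fv]
      rw [tbl_append_right]

/-- appending a frame of the complement to a partial frame -/
theorem IsFrame.append {B : V →ₗ[F] V →ₗ[F] F} {N : Module.End F V} (hAlt : Alt B) {k₀ K' : ℕ}
    {τ₀ : Fin k₀ → Option (Fin k₀)} {τ' : Fin K' → Option (Fin K')}
    {e₀ f₀ : Fin k₀ → V} {E' F' : Fin K' → V} (h₀ : IsFrame B N τ₀ e₀ f₀)
    (h' : IsFrame B N τ' E' F')
    (hmem : ∀ j, E' j ∈ perpFam B e₀ f₀ ∧ F' j ∈ perpFam B e₀ f₀) :
    IsFrame B N (appendTbl τ₀ τ') (Fin.append e₀ E') (Fin.append f₀ F') := by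
  refine ⟨append_symp B hAlt e₀ f₀ h₀.1 E' F' h'.1 hmem, fun i => ?_, fun i => ?_⟩
  · refine Fin.addCases (fun i' => ?_) (fun i' => ?_) i
    · rw [Fin.append_left]; exact h₀.2.1 i'
    · rw [Fin.append_right]; exact h'.2.1 i'
  · refine Fin.addCases (fun i' => ?_) (fun i' => ?_) i
    · rw [Fin.append_left, tbl_append_left]; exact h₀.2.2 i'
    · rw [Fin.append_right, tbl_append_right]; exact h'.2.2 i'

/-- the fibre of the first-part map -/
theorem card_fiber {B : V →ₗ[F] V →ₗ[F] F} {N : Module.End F V} (hAlt : Alt B)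
    (hsa : ∀ u v, B (N u) v = B u (N v)) {k₀ K' : ℕ}
    (τ₀ : Fin k₀ → Option (Fin k₀)) (τ' : Fin K' → Option (Fin K'))
    (e₀ f₀ : Fin k₀ → V) (h₀ : IsFrame B N τ₀ e₀ f₀) :
    Nat.card {p : FrameSet B N (appendTbl τ₀ τ') //
        (fun i => p.1.1 (Fin.castAdd K' i)) = e₀ ∧ (fun i => p.1.2 (Fin.castAdd K' i)) = f₀} =
      Nat.card (FrameSet (resB B (perpFam B e₀ f₀))
        (resN N (perpFam B e₀ f₀) (h₀.N_mem_perp hsa)) τ') := by
  set H := perpFam B e₀ f₀ with hH
  apply Nat.card_congr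
  refine
    { toFun := fun p => ⟨(fun i => ⟨p.1.1.1 (Fin.natAdd k₀ i), by
          have := ((p.1.2.tail hAlt).1 i).1
          rw [p.2.1, p.2.2] at this
          exact this⟩,
        fun i => ⟨p.1.1.2 (Fin.natAdd k₀ i), by
          have := ((p.1.2.tail hAlt).1 i).2
          rw [p.2.1, p.2.2] at this
          exact this⟩), ?_⟩
      invFun := fun p' => ⟨⟨(Fin.append e₀ (fun i => (p'.1.1 i : V)),
          Fin.append f₀ (fun i => (p'.1.2 i : V))), ?_⟩, ?_, ?_⟩
      left_inv := ?_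
      right_inv := ?_ }
  · -- the tail is a frame of the complement
    have ht := (p.1.2.tail hAlt).2.2
    refine ⟨⟨fun i j => ?_, fun i j => ?_, fun i j => ?_⟩, fun i => ?_, fun i => ?_⟩
    · exact ht.1.1 i j
    · exact ht.1.2.1 i j
    · exact ht.1.2.2 i j
    · apply Subtype.ext
      exact ht.2.1 i
    · apply Subtype.ext
      rw [resN_apply]
      simp only
      rw [ht.2.2 i]
      have := map_tbl τ' (fun i => (⟨p.1.1.2 (Fin.natAdd k₀ i), by
          have := ((p.1.2.tail hAlt).1 i).2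
          rw [p.2.1, p.2.2] at this
          exact this⟩ : ↥H)) H.subtype i
      exact this.symm
  · -- appended frame
    have h' : IsFrame B N τ' (fun i => (p'.1.1 i : V)) (fun i => (p'.1.2 i : V)) := by
      obtain ⟨⟨hE, hF, hEF⟩, hNF, hNE⟩ := p'.2
      refine ⟨⟨fun i j => hE i j, fun i j => hF i j, fun i j => hEF i j⟩, fun i => ?_, fun i => ?_⟩
      · exact congrArg Subtype.val (hNF i)
      · have h1 := congrArg Subtype.val (hNE i)
        rw [resN_apply] at h1
        rw [h1]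
        exact map_tbl τ' p'.1.2 H.subtype i
    exact h₀.append hAlt h' (fun j => ⟨(p'.1.1 j).2, (p'.1.2 j).2⟩)
  · funext i
    simp only [Fin.append_left]
  · funext i
    simp only [Fin.append_left]
  · rintro ⟨⟨⟨E, Fv⟩, hp⟩, h1, h2⟩
    apply Subtype.ext
    apply Subtype.ext
    simp only at h1 h2 ⊢
    rw [← h1, ← h2, append_eq, append_eq]
  · rintro ⟨⟨E', F'⟩, hp'⟩
    apply Subtype.ext
    simp only [Fin.append_right]

end Cfsg.Agent.Helper8.Sp2
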