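import Mathlib
import Cfsg.Agent.Helper8.Sp2Peel
set_option autoImplicit false

/-! Counting solutions of affine-linear conditions over a finite field. -/

namespace Cfsg.Agent.Helper8.Sp2

open Module Cfsg.Agent.Helper8.SpS

variable {F : Type*} [Field F] [Fintype F]
variable {V : Type*} [AddCommGroup V] [Module F V] [FiniteDimensional F V]

theorem natCard_eq_pow : Nat.card V = Fintype.card F ^ finrank F V := by
  have : Finite V := Module.finite_of_finite F
  let _ : Fintype V := Fintype.ofFinite V
  rw [Nat.card_eq_fintype_card, Module.card_eq_pow_finrank (K := F) (V := V)]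

/-- the fibres of a surjective linear map -/
theorem card_fiber_mul {W : Type*} [AddCommGroup W] [Module F W] [FiniteDimensional F W]
    (f : V →ₗ[F] W) (hf : Function.Surjective f) (y : W) :
    Nat.card {x // f x = y} * Nat.card W = Nat.card V := by
  have : Finite V := Module.finite_of_finite F
  have : Finite W := Module.finite_of_finite F
  have h1 : ∀ y' : W, Nat.card {x // f x = y'} = Nat.card {x // f x = y} := by
    intro y'
    obtain ⟨x₀, hx₀⟩ := hf (y - y')
    apply Nat.card_congr
    exact
      { toFun := fun x => ⟨x.1 + x₀, by rw [map_add, x.2, hx₀]; abel⟩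
        invFun := fun x => ⟨x.1 - x₀, by rw [map_sub, x.2, hx₀]; abel⟩
        left_inv := fun x => Subtype.ext (by simp)
        right_inv := fun x => Subtype.ext (by simp) }
  have h2 := card_eq_mul_of_fibers (fun x : V => f x) Set.univ (Nat.card {x // f x = y})
    (fun b _ => h1 b) (fun a => Set.mem_univ _)
  rw [h2, Nat.card_congr (Equiv.Set.univ W), mul_comm]

/-- solutions of one inhomogeneous condition -/
theorem card_one_cond (B : V →ₗ[F] V →ₗ[F] F) (hND : Nondeg B) {a : V} (ha : a ≠ 0) (α : F)
    {n : ℕ} (hn : finrank F V = n + 1) :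
    Nat.card {w : V // B a w = α} = Fintype.card F ^ n := by
  obtain ⟨w₀, hw₀⟩ : ∃ w₀, B a w₀ ≠ 0 := by
    by_contra hcon
    rw [not_exists] at hcon
    exact ha (hND a (fun w => not_not.mp (hcon w)))
  have hsurj : Function.Surjective (B a) := by
    intro y
    refine ⟨(y * (B a w₀)⁻¹) • w₀, ?_⟩
    rw [map_smul, smul_eq_mul, mul_assoc, inv_mul_cancel₀ hw₀, mul_one]
  have h1 := card_fiber_mul (B a) hsurj α
  rw [natCard_eq_pow (F := F) (V := V), hn, Nat.card_eq_fintype_card (α := F), pow_succ] at h1
  exact Nat.eq_of_mul_eq_mul_right Fintype.card_pos h1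

/-- solutions of two inhomogeneous conditions with dual vectors -/
theorem card_two_cond (B : V →ₗ[F] V →ₗ[F] F) {a b w₁ w₂ : V}
    (h11 : B a w₁ = 1) (h12 : B a w₂ = 0) (h21 : B b w₁ = 0) (h22 : B b w₂ = 1) (α β : F)
    {n : ℕ} (hn : finrank F V = n + 2) :
    Nat.card {w : V // B a w = α ∧ B b w = β} = Fintype.card F ^ n := by
  set f : V →ₗ[F] F × F := (B a).prod (B b) with hf
  have hsurj : Function.Surjective f := by
    rintro ⟨y₁, y₂⟩
    refine ⟨y₁ • w₁ + y₂ • w₂, ?_⟩
    have e1 : f (y₁ • w₁ + y₂ • w₂) = (B a (y₁ • w₁ + y₂ • w₂), B b (y₁ • w₁ + y₂ • w₂)) := rfl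
    rw [e1]
    simp only [map_add, map_smul, h11, h12, h21, h22, smul_eq_mul, mul_one, mul_zero, add_zero,
      zero_add]
  have h1 := card_fiber_mul f hsurj (α, β)
  rw [natCard_eq_pow (F := F) (V := V), hn, Nat.card_prod, Nat.card_eq_fintype_card (α := F),
    pow_succ, pow_succ, mul_assoc] at h1
  have h2 : Nat.card {x // f x = (α, β)} = Nat.card {w : V // B a w = α ∧ B b w = β} := by
    apply Nat.card_congr
    exact Equiv.subtypeEquivRight (fun w => by
      have e1 : f w = (B a w, B b w) := rfl
      rw [e1, Prod.mk.injEq])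
  rw [← h2]
  exact Nat.eq_of_mul_eq_mul_right (Nat.mul_pos Fintype.card_pos Fintype.card_pos) h1

/-- the kernel of an operator of given rank -/
theorem card_ker (N : Module.End F V) {n s : ℕ} (hn : finrank F V = n)
    (hs : finrank F (LinearMap.range N) = s) :
    Nat.card (LinearMap.ker N) = Fintype.card F ^ (n - s) := by
  rw [natCard_eq_pow (F := F) (V := LinearMap.ker N)]
  congr 1
  have := LinearMap.finrank_range_add_finrank_ker N
  omega

omit [Fintype F] [FiniteDimensional F V] in
/-- a coset of the kernel -/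
theorem card_coset_ker (N : Module.End F V) (u : V) :
    Nat.card {v : V // N v = N u} = Nat.card (LinearMap.ker N) := by
  apply Nat.card_congr
  exact
    { toFun := fun v => ⟨v.1 - u, by rw [LinearMap.mem_ker, map_sub, v.2, sub_self]⟩
      invFun := fun k => ⟨k.1 + u, by rw [map_add, LinearMap.mem_ker.mp k.2, zero_add]⟩
      left_inv := fun v => Subtype.ext (by simp)
      right_inv := fun k => Subtype.ext (by simp) }

end Cfsg.Agent.Helper8.Sp2
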