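import Mathlib
import Cfsg.Agent.Helper8.Sp2Lin
set_option autoImplicit false

/-! The restricted structure on the complement of a symplectic family, and its dimension. -/

namespace Cfsg.Agent.Helper8.Sp2

open Module Cfsg.Agent.Helper8.SpS

universe u v

variable {F : Type v} [Field F]
variable {V : Type u} [AddCommGroup V] [Module F V]

theorem alt_resB {B : V →ₗ[F] V →ₗ[F] F} (hAlt : Alt B) (H : Submodule F V) : Alt (resB B H) :=
  fun a => hAlt (a : V)

theorem nondeg_resB {B : V →ₗ[F] V →ₗ[F] F} (hAlt : Alt B) (hND : Nondeg B) {k : ℕ}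
    {e f : Fin k → V} (h : IsSympFam B e f) : Nondeg (resB B (perpFam B e f)) :=
  nondeg_perpFam B hAlt hND e f h

theorem sq_resN {N : Module.End F V} (hsq : ∀ v, N (N v) = 0) (H : Submodule F V)
    (hNH : ∀ x ∈ H, N x ∈ H) (a : ↥H) : resN N H hNH (resN N H hNH a) = 0 :=
  Subtype.ext (hsq (a : V))

theorem sa_resN {B : V →ₗ[F] V →ₗ[F] F} {N : Module.End F V}
    (hsa : ∀ u v, B (N u) v = B u (N v)) (H : Submodule F V)
    (hNH : ∀ x ∈ H, N x ∈ H) (a b : ↥H) :
    resB B H (resN N H hNH a) b = resB B H a (resN N H hNH b) := hsa (a : V) (b : V)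

variable [FiniteDimensional F V]

/-- the dimension of the complement of a symplectic family -/
theorem finrank_perpFam {B : V →ₗ[F] V →ₗ[F] F} (hAlt : Alt B) (hND : Nondeg B) {k₀ : ℕ}
    {e₀ f₀ : Fin k₀ → V} (h₀ : IsSympFam B e₀ f₀) :
    finrank F ↥(perpFam B e₀ f₀) + 2 * k₀ = finrank F V := by
  set H := perpFam B e₀ f₀ with hH
  obtain ⟨k, b, hb⟩ := exists_symp_basis (resB B H) (alt_resB hAlt H) (nondeg_resB hAlt hND h₀)
  have h₁ : IsSympFam B (fun i => (b (Sum.inl i) : V)) (fun i => (b (Sum.inr i) : V)) := by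
    refine ⟨fun i j => ?_, fun i j => ?_, fun i j => ?_⟩
    · exact hb (Sum.inl i) (Sum.inl j)
    · exact hb (Sum.inr i) (Sum.inr j)
    · exact hb (Sum.inl i) (Sum.inr j)
  have hmem : ∀ j, (b (Sum.inl j) : V) ∈ H ∧ (b (Sum.inr j) : V) ∈ H :=
    fun j => ⟨(b (Sum.inl j)).2, (b (Sum.inr j)).2⟩
  have hsp : ∀ x ∈ H, x ∈ Submodule.span F (Set.range (fun i => (b (Sum.inl i) : V)) ∪
      Set.range (fun i => (b (Sum.inr i) : V))) := by
    intro x hx
    have h4 : (⟨x, hx⟩ : ↥H) ∈ Submodule.span F (Set.range b) := by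
      rw [b.span_eq]; exact Submodule.mem_top
    have h5 : Submodule.map H.subtype (Submodule.span F (Set.range b)) ≤
        Submodule.span F (Set.range (fun i => (b (Sum.inl i) : V)) ∪
          Set.range (fun i => (b (Sum.inr i) : V))) := by
      rw [Submodule.map_span, Submodule.span_le]
      rintro _ ⟨y, ⟨x', rfl⟩, rfl⟩
      rcases x' with i | i
      · exact Submodule.subset_span (Or.inl ⟨i, rfl⟩)
      · exact Submodule.subset_span (Or.inr ⟨i, rfl⟩)
    exact h5 ⟨⟨x, hx⟩, h4, rfl⟩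
  have hS := append_symp B hAlt e₀ f₀ h₀ _ _ h₁ hmem
  have hspan := append_span B hAlt e₀ f₀ h₀ _ _ hsp
  have hli := linearIndependent_family B hAlt _ _ hS.1 hS.2.1 hS.2.2
  have hsp' : ⊤ ≤ Submodule.span F (Set.range (Sum.elim
      (Fin.append e₀ (fun i => (b (Sum.inl i) : V)))
      (Fin.append f₀ (fun i => (b (Sum.inr i) : V))))) := by
    intro x _
    have := hspan x
    rwa [← Set.Sum.elim_range] at this
  have h6 := Module.finrank_eq_card_basis (Basis.mk hli hsp')
  have h7 := Module.finrank_eq_card_basis b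
  rw [Fintype.card_sum, Fintype.card_fin] at h6 h7
  omega

end Cfsg.Agent.Helper8.Sp2
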