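import Mathlib
import Cfsg.Agent.Helper8.Sp2Dim
set_option autoImplicit false

/-! The distinguished vector `u` of a non-alternating type: `B x (N x) = (B (N u) x)^2`. -/

namespace Cfsg.Agent.Helper8.Sp2

open Module Cfsg.Agent.Helper8.SpS

universe u v

variable {F : Type v} [Field F]
variable {V : Type u} [AddCommGroup V] [Module F V]

/-- the diagonal table -/
def tbl1 (K s : ℕ) : Fin K → Option (Fin K) := fun i => if (i : ℕ) < s then some i else none

/-- a normal form of non-alternating type is a frame with the diagonal table -/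
theorem NF.isFrame1 {B : V →ₗ[F] V →ₗ[F] F} {N : Module.End F V} {K s : ℕ} {E Fv : Fin K → V}
    (h : NF B N K s E Fv) (htype : (∃ v, B v (N v) ≠ 0) ∨ (∀ x, N x = 0)) :
    IsFrame B N (tbl1 K s) E Fv := by
  obtain ⟨hS, -, hNF, hsK, hNE, ht1, -⟩ := h
  refine ⟨hS, hNF, fun i => ?_⟩
  rcases Nat.lt_or_ge (i : ℕ) s with hi | hi
  · rw [ht1 htype i hi, tbl_some Fv (show tbl1 K s i = some i by rw [tbl1, if_pos hi])]
  · rw [hNE i hi, tbl_none Fv (show tbl1 K s i = none by rw [tbl1, if_neg (by omega)])]

variable [CharP F 2] [FiniteDimensional F V]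

/-- the vector `u` of a frame with the diagonal table -/
def uVec {K : ℕ} (s : ℕ) (E : Fin K → V) : V := ∑ i : Fin K, if (i : ℕ) < s then E i else 0

omit [CharP F 2] [FiniteDimensional F V] in
theorem N_uVec {B : V →ₗ[F] V →ₗ[F] F} {N : Module.End F V} {K s : ℕ} {E Fv : Fin K → V}
    (h : IsFrame B N (tbl1 K s) E Fv) :
    N (uVec s E) = ∑ i : Fin K, if (i : ℕ) < s then Fv i else 0 := by
  rw [uVec, map_sum]
  apply Finset.sum_congr rfl
  intro i _
  by_cases hi : (i : ℕ) < s
  · rw [if_pos hi, if_pos hi, h.2.2 i,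
      tbl_some Fv (show tbl1 K s i = some i by rw [tbl1, if_pos hi])]
  · rw [if_neg hi, if_neg hi, map_zero]

/-- the quadratic map is the square of a linear functional -/
theorem Q_eq_sq {B : V →ₗ[F] V →ₗ[F] F} {N : Module.End F V} {K s : ℕ} {E Fv : Fin K → V}
    (h : IsFrame B N (tbl1 K s) E Fv) (hAlt : Alt B) (hsa : ∀ u v, B (N u) v = B u (N v))
    (hK : finrank F V = 2 * K) (x : V) :
    B x (N x) = (B (N (uVec s E)) x) ^ 2 := by
  set w := N (uVec s E) with hw
  have hwE : ∀ j, B w (E j) = if (j : ℕ) < s then 1 else 0 := by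
    intro j
    rw [hw, N_uVec h, map_sum, LinearMap.sum_apply]
    have : ∀ i : Fin K, B (if (i : ℕ) < s then Fv i else 0) (E j) =
        if i = j then (if (j : ℕ) < s then 1 else 0) else 0 := by
      intro i
      by_cases hi : (i : ℕ) < s
      · rw [if_pos hi, alt_symm2 hAlt, h.1.2.2 j i]
        by_cases hij : i = j
        · subst hij; rw [if_pos rfl, if_pos rfl, if_pos hi]
        · rw [if_neg hij, if_neg (Ne.symm hij)]
      · rw [if_neg hi, map_zero, LinearMap.zero_apply]
        by_cases hij : i = j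
        · subst hij; rw [if_pos rfl, if_neg hi]
        · rw [if_neg hij]
    simp only [this]
    rw [Finset.sum_ite_eq' Finset.univ j, if_pos (Finset.mem_univ _)]
  have hwF : ∀ j, B w (Fv j) = 0 := by
    intro j
    rw [hw, N_uVec h, map_sum, LinearMap.sum_apply]
    apply Finset.sum_eq_zero
    intro i _
    by_cases hi : (i : ℕ) < s
    · rw [if_pos hi, h.1.2.1 i j]
    · rw [if_neg hi, map_zero, LinearMap.zero_apply]
  let S : Submodule F V :=
    { carrier := {x | B x (N x) = (B w x) ^ 2}
      add_mem' := by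
        intro a b ha hb
        show B (a + b) (N (a + b)) = (B w (a + b)) ^ 2
        rw [Q_add hAlt hsa, ha, hb, map_add, CharTwo.add_sq]
      zero_mem' := by
        show B 0 (N 0) = (B w 0) ^ 2
        rw [map_zero, LinearMap.zero_apply, map_zero, zero_pow two_ne_zero]
      smul_mem' := by
        intro c a ha
        show B (c • a) (N (c • a)) = (B w (c • a)) ^ 2
        rw [Q_smul, ha, map_smul, smul_eq_mul]
        ring }
  have hle : Submodule.span F (Set.range E ∪ Set.range Fv) ≤ S := by
    rw [Submodule.span_le]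
    rintro _ (⟨i, rfl⟩ | ⟨i, rfl⟩)
    · show B (E i) (N (E i)) = (B w (E i)) ^ 2
      rw [hwE i, h.2.2 i]
      by_cases hi : (i : ℕ) < s
      · rw [tbl_some Fv (show tbl1 K s i = some i by rw [tbl1, if_pos hi]), h.1.2.2 i i,
          if_pos rfl, if_pos hi, one_pow]
      · rw [tbl_none Fv (show tbl1 K s i = none by rw [tbl1, if_neg hi]), map_zero, if_neg hi,
          zero_pow two_ne_zero]
    · show B (Fv i) (N (Fv i)) = (B w (Fv i)) ^ 2
      rw [hwF i, h.2.1 i, map_zero, zero_pow two_ne_zero]
  exact hle (h.span_eq hAlt hK x)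

omit [FiniteDimensional F V] in
/-- the value of the functional at `u` -/
theorem B_N_uVec_uVec {B : V →ₗ[F] V →ₗ[F] F} {N : Module.End F V} {K s : ℕ}
    {E Fv : Fin K → V} (h : IsFrame B N (tbl1 K s) E Fv) (hAlt : Alt B) (hsK : s ≤ K) :
    B (N (uVec s E)) (uVec s E) = (s : F) := by
  rw [N_uVec h, map_sum, LinearMap.sum_apply]
  unfold uVec
  have : ∀ i : Fin K, B (if (i : ℕ) < s then Fv i else 0)
      (∑ j : Fin K, if (j : ℕ) < s then E j else 0) = if (i : ℕ) < s then 1 else 0 := by
    intro i
    by_cases hi : (i : ℕ) < s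
    · rw [if_pos hi, if_pos hi, map_sum, Finset.sum_eq_single i]
      · rw [if_pos hi, alt_symm2 hAlt, h.1.2.2 i i, if_pos rfl]
      · intro j _ hji
        by_cases hj : (j : ℕ) < s
        · rw [if_pos hj, alt_symm2 hAlt, h.1.2.2 j i, if_neg hji]
        · rw [if_neg hj, map_zero]
      · intro hne
        exact absurd (Finset.mem_univ i) hne
    · rw [if_neg hi, if_neg hi, map_zero, LinearMap.zero_apply]
  simp only [this]
  rw [Finset.sum_ite, Finset.sum_const_zero, add_zero, Finset.sum_const, nsmul_eq_mul, mul_one]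
  congr 1
  have e : (Finset.univ.filter (fun i : Fin K => (i : ℕ) < s)) =
      Finset.univ.map (Fin.castLEEmb hsK) := by
    ext i
    simp only [Finset.mem_filter, Finset.mem_univ, true_and, Finset.mem_map, Fin.castLEEmb_apply]
    constructor
    · intro hi
      exact ⟨⟨i, hi⟩, rfl⟩
    · rintro ⟨j, rfl⟩
      exact j.2
  rw [e, Finset.card_map, Finset.card_univ, Fintype.card_fin]


omit [FiniteDimensional F V] in
/-- the admissible first vectors of odd non-alternating type form a coset of the kernel -/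
theorem adm_iff {B : V →ₗ[F] V →ₗ[F] F} {N : Module.End F V} (hAlt : Alt B) (hND : Nondeg B)
    (hsq : ∀ v, N (N v) = 0) (hsa : ∀ u v, B (N u) v = B u (N v)) (u : V)
    (hU : ∀ x, B x (N x) = (B (N u) x) ^ 2) (hQu : B u (N u) = 1) (v : V) :
    (B v (N v) = 1 ∧ ∀ x ∈ perpFam B ![v] ![N v], B x (N x) = 0) ↔ N v = N u := by
  constructor
  · rintro ⟨hQv, hH⟩
    have hsymp := isSympFam_one B hAlt v (N v) hQv
    have key : ∀ x, B (N u) x = B (N v) x := by
      intro x
      have h1 := hH _ (proj_mem_perpFam B hAlt _ _ hsymp x)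
      rw [Fin.sum_univ_one] at h1
      simp only [Matrix.cons_val_zero] at h1
      rw [Q_add hAlt hsa, sub_eq_add_neg, Q_add hAlt hsa, Q_smul, hQv, ← neg_smul, Q_smul, hsq,
        map_zero, mul_zero, add_zero, mul_one, hU x] at h1
      have h2 : (B (N u) x) ^ 2 = (B (N v) x) ^ 2 := by
        have := CharTwo.add_self_eq_zero ((B (N v) x) ^ 2)
        linear_combination h1 - this
      exact CharTwo.sq_injective h2
    have h3 : N u - N v = 0 := by
      apply hND
      intro x
      rw [map_sub, LinearMap.sub_apply, key x, sub_self]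
    exact (sub_eq_zero.mp h3).symm
  · intro hNv
    have hk : N (v - u) = 0 := by rw [map_sub, hNv, sub_self]
    refine ⟨?_, ?_⟩
    · have h1 : v = u + (v - u) := by abel
      rw [h1, Q_add hAlt hsa, hQu, hk, map_zero, add_zero]
    · intro x hx
      rw [mem_perpFam_one] at hx
      rw [hU x, ← hNv, hx.2, zero_pow two_ne_zero]

end Cfsg.Agent.Helper8.Sp2
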