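import Mathlib
import Cfsg.Agent.Helper8.Sp2U
set_option autoImplicit false

/-! Tables built by iterated appending: the kinds `T0`, `TA`, `TB`, `TC`. -/

namespace Cfsg.Agent.Helper8.Sp2

/-- the number of defined entries of a table -/
def somes {K : ℕ} (τ : Fin K → Option (Fin K)) : ℕ := Fintype.card {i : Fin K // (τ i).isSome}

/-- injectivity of a table on its domain -/
def TblInj {K : ℕ} (τ : Fin K → Option (Fin K)) : Prop :=
  ∀ i j k, τ i = some k → τ j = some k → i = j

/-- a table without fixed points -/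
def TblFpf {K : ℕ} (τ : Fin K → Option (Fin K)) : Prop := ∀ i, τ i ≠ some i

theorem appendTbl_left {k₀ K' : ℕ} (τ₀ : Fin k₀ → Option (Fin k₀))
    (τ' : Fin K' → Option (Fin K')) (i : Fin k₀) :
    appendTbl τ₀ τ' (Fin.castAdd K' i) = (τ₀ i).map (Fin.castAdd K') := by
  rw [appendTbl, Fin.append_left]

theorem appendTbl_right {k₀ K' : ℕ} (τ₀ : Fin k₀ → Option (Fin k₀))
    (τ' : Fin K' → Option (Fin K')) (i : Fin K') :
    appendTbl τ₀ τ' (Fin.natAdd k₀ i) = (τ' i).map (Fin.natAdd k₀) := by
  rw [appendTbl, Fin.append_right]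

theorem somes_appendTbl {k₀ K' : ℕ} (τ₀ : Fin k₀ → Option (Fin k₀))
    (τ' : Fin K' → Option (Fin K')) :
    somes (appendTbl τ₀ τ') = somes τ₀ + somes τ' := by
  unfold somes
  rw [← Fintype.card_sum]
  apply Fintype.card_congr
  refine
    { toFun := fun x => Fin.addCases (motive := fun i => (appendTbl τ₀ τ' i).isSome →
          {i : Fin k₀ // (τ₀ i).isSome} ⊕ {i : Fin K' // (τ' i).isSome})
        (fun i h => Sum.inl ⟨i, by
          rw [appendTbl_left] at h
          simpa using h⟩)
        (fun i h => Sum.inr ⟨i, by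
          rw [appendTbl_right] at h
          simpa using h⟩) x.1 x.2
      invFun := fun y => Sum.elim
        (fun i => ⟨Fin.castAdd K' i.1, by rw [appendTbl_left]; simpa using i.2⟩)
        (fun i => ⟨Fin.natAdd k₀ i.1, by rw [appendTbl_right]; simpa using i.2⟩) y
      left_inv := ?_
      right_inv := ?_ }
  · rintro ⟨x, hx⟩
    revert hx
    refine Fin.addCases (fun i => ?_) (fun i => ?_) x
    · intro hx
      simp only [Fin.addCases_left, Sum.elim_inl]
    · intro hx
      simp only [Fin.addCases_right, Sum.elim_inr]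
  · rintro (⟨i, hi⟩ | ⟨i, hi⟩)
    · simp only [Sum.elim_inl, Fin.addCases_left]
    · simp only [Sum.elim_inr, Fin.addCases_right]

theorem tblInj_appendTbl {k₀ K' : ℕ} {τ₀ : Fin k₀ → Option (Fin k₀)}
    {τ' : Fin K' → Option (Fin K')} (h₀ : TblInj τ₀) (h' : TblInj τ') :
    TblInj (appendTbl τ₀ τ') := by
  intro i j k
  refine Fin.addCases (fun i' => ?_) (fun i' => ?_) i <;>
    refine Fin.addCases (fun j' => ?_) (fun j' => ?_) j
  · rw [appendTbl_left, appendTbl_left]
    intro hi hj
    rcases hτi : τ₀ i' with _ | a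
    · rw [hτi] at hi; simp at hi
    rcases hτj : τ₀ j' with _ | b
    · rw [hτj] at hj; simp at hj
    rw [hτi] at hi
    rw [hτj] at hj
    simp only [Option.map_some, Option.some.injEq] at hi hj
    have hab : a = b := Fin.castAdd_injective _ _ (hi.trans hj.symm)
    rw [h₀ i' j' a hτi (hab ▸ hτj)]
  · rw [appendTbl_left, appendTbl_right]
    intro hi hj
    rcases hτi : τ₀ i' with _ | a
    · rw [hτi] at hi; simp at hi
    rcases hτj : τ' j' with _ | b
    · rw [hτj] at hj; simp at hj
    rw [hτi] at hi
    rw [hτj] at hj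
    simp only [Option.map_some, Option.some.injEq] at hi hj
    have := congrArg Fin.val (hi.trans hj.symm)
    simp only [Fin.val_castAdd, Fin.val_natAdd] at this
    have := a.2
    omega
  · rw [appendTbl_right, appendTbl_left]
    intro hi hj
    rcases hτi : τ' i' with _ | a
    · rw [hτi] at hi; simp at hi
    rcases hτj : τ₀ j' with _ | b
    · rw [hτj] at hj; simp at hj
    rw [hτi] at hi
    rw [hτj] at hj
    simp only [Option.map_some, Option.some.injEq] at hi hj
    have := congrArg Fin.val (hi.trans hj.symm)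
    simp only [Fin.val_castAdd, Fin.val_natAdd] at this
    have := b.2
    omega
  · rw [appendTbl_right, appendTbl_right]
    intro hi hj
    rcases hτi : τ' i' with _ | a
    · rw [hτi] at hi; simp at hi
    rcases hτj : τ' j' with _ | b
    · rw [hτj] at hj; simp at hj
    rw [hτi] at hi
    rw [hτj] at hj
    simp only [Option.map_some, Option.some.injEq] at hi hj
    have hab : a = b := Fin.natAdd_injective _ _ (hi.trans hj.symm)
    rw [h' i' j' a hτi (hab ▸ hτj)]

theorem tblFpf_appendTbl {k₀ K' : ℕ} {τ₀ : Fin k₀ → Option (Fin k₀)}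
    {τ' : Fin K' → Option (Fin K')} (h₀ : TblFpf τ₀) (h' : TblFpf τ') :
    TblFpf (appendTbl τ₀ τ') := by
  intro i
  refine Fin.addCases (fun i' => ?_) (fun i' => ?_) i
  · rw [appendTbl_left]
    intro h
    rcases hτ : τ₀ i' with _ | a
    · rw [hτ] at h; simp at h
    · rw [hτ] at h
      simp only [Option.map_some, Option.some.injEq] at h
      exact h₀ i' (by rw [hτ, Fin.castAdd_injective _ _ h])
  · rw [appendTbl_right]
    intro h
    rcases hτ : τ' i' with _ | a
    · rw [hτ] at h; simp at h
    · rw [hτ] at h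
      simp only [Option.map_some, Option.some.injEq] at h
      exact h' i' (by rw [hτ, Fin.natAdd_injective _ _ h])


/-- a table with its size -/
abbrev Tbl := Σ K : ℕ, (Fin K → Option (Fin K))

/-- prepending a block to a table -/
def Tbl.cons {k₀ : ℕ} (τ₀ : Fin k₀ → Option (Fin k₀)) (T : Tbl) : Tbl :=
  ⟨k₀ + T.1, appendTbl τ₀ T.2⟩

/-- a hyperbolic pair on which `N` vanishes -/
def none1 : Fin 1 → Option (Fin 1) := fun _ => none

/-- a pair `v, N v` -/
def one0 : Fin 1 → Option (Fin 1) := fun _ => some 0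

/-- a block `v, w, N w, N v` -/
def swapTbl : Fin 2 → Option (Fin 2) := ![some 1, some 0]

theorem somes_none1 : somes none1 = 0 := by decide
theorem somes_one0 : somes one0 = 1 := by decide
theorem somes_swapTbl : somes swapTbl = 2 := by decide

theorem tblInj_none1 : TblInj none1 := by
  intro i j k h
  simp [none1] at h

theorem tblInj_one0 : TblInj one0 := by
  intro i j k _ _
  exact Subsingleton.elim i j

theorem tblInj_swapTbl : TblInj swapTbl := by
  intro i j k
  fin_cases i <;> fin_cases j <;> fin_cases k <;> simp [swapTbl]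

theorem tblFpf_none1 : TblFpf none1 := by
  intro i h
  simp [none1] at h

theorem tblFpf_swapTbl : TblFpf swapTbl := by
  intro i
  fin_cases i <;> simp [swapTbl]

/-- symplectic frames -/
def T0 : ℕ → Tbl
  | 0 => ⟨0, Fin.elim0⟩
  | r + 1 => Tbl.cons none1 (T0 r)

/-- alternating type -/
def TA : ℕ → ℕ → Tbl
  | 0, r => T0 r
  | l + 1, r => Tbl.cons swapTbl (TA l r)

/-- non-alternating type of odd rank -/
def TB (l r : ℕ) : Tbl := Tbl.cons one0 (TA l r)

/-- non-alternating type of even rank -/
def TC (l r : ℕ) : Tbl := Tbl.cons one0 (TB l r)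

theorem T0_fst (r : ℕ) : (T0 r).1 = r := by
  induction r with
  | zero => rfl
  | succ r ih =>
    show 1 + (T0 r).1 = r + 1
    rw [ih, add_comm]

theorem T0_somes (r : ℕ) : somes (T0 r).2 = 0 := by
  induction r with
  | zero =>
    unfold somes
    rw [Fintype.card_eq_zero_iff]
    exact ⟨fun x => x.1.elim0⟩
  | succ r ih =>
    show somes (appendTbl none1 (T0 r).2) = 0
    rw [somes_appendTbl, ih, somes_none1]

theorem T0_inj (r : ℕ) : TblInj (T0 r).2 := by
  induction r with
  | zero => intro i; exact i.elim0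
  | succ r ih => exact tblInj_appendTbl tblInj_none1 ih

theorem T0_fpf (r : ℕ) : TblFpf (T0 r).2 := by
  induction r with
  | zero => intro i; exact i.elim0
  | succ r ih => exact tblFpf_appendTbl tblFpf_none1 ih

theorem TA_fst (l r : ℕ) : (TA l r).1 = 2 * l + r := by
  induction l with
  | zero => show (T0 r).1 = _; rw [T0_fst]; omega
  | succ l ih =>
    show 2 + (TA l r).1 = _
    rw [ih]; ring

theorem TA_somes (l r : ℕ) : somes (TA l r).2 = 2 * l := by
  induction l with
  | zero => exact T0_somes r
  | succ l ih =>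
    show somes (appendTbl swapTbl (TA l r).2) = _
    rw [somes_appendTbl, ih, somes_swapTbl]; ring

theorem TA_inj (l r : ℕ) : TblInj (TA l r).2 := by
  induction l with
  | zero => exact T0_inj r
  | succ l ih => exact tblInj_appendTbl tblInj_swapTbl ih

theorem TA_fpf (l r : ℕ) : TblFpf (TA l r).2 := by
  induction l with
  | zero => exact T0_fpf r
  | succ l ih => exact tblFpf_appendTbl tblFpf_swapTbl ih

theorem TB_fst (l r : ℕ) : (TB l r).1 = 1 + (2 * l + r) := by
  show 1 + (TA l r).1 = _
  rw [TA_fst]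

theorem TB_somes (l r : ℕ) : somes (TB l r).2 = 2 * l + 1 := by
  show somes (appendTbl one0 (TA l r).2) = _
  rw [somes_appendTbl, TA_somes, somes_one0]; ring

theorem TB_inj (l r : ℕ) : TblInj (TB l r).2 := tblInj_appendTbl tblInj_one0 (TA_inj l r)

theorem TC_fst (l r : ℕ) : (TC l r).1 = 2 + (2 * l + r) := by
  show 1 + (TB l r).1 = _
  rw [TB_fst]; ring

theorem TC_somes (l r : ℕ) : somes (TC l r).2 = 2 * l + 2 := by
  show somes (appendTbl one0 (TB l r).2) = _
  rw [somes_appendTbl, TB_somes, somes_one0]; ring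

theorem TC_inj (l r : ℕ) : TblInj (TC l r).2 := tblInj_appendTbl tblInj_one0 (TB_inj l r)

end Cfsg.Agent.Helper8.Sp2
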