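import Mathlib
import Cfsg.Agent.Helper8.Sp2Tbl
set_option autoImplicit false

/-! The generic counting step: frames of an appended table, counted by first parts. -/

namespace Cfsg.Agent.Helper8.Sp2

open Module Cfsg.Agent.Helper8.SpS

universe u v

variable {F : Type v} [Field F]
variable {V : Type u} [AddCommGroup V] [Module F V]

/-- a frame of the restricted structure, viewed in the ambient space -/
theorem IsFrame.coe {B : V →ₗ[F] V →ₗ[F] F} {N : Module.End F V} {H : Submodule F V}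
    {hNH : ∀ x ∈ H, N x ∈ H} {K' : ℕ} {τ' : Fin K' → Option (Fin K')} {E' F' : Fin K' → ↥H}
    (h : IsFrame (resB B H) (resN N H hNH) τ' E' F') :
    IsFrame B N τ' (fun i => (E' i : V)) (fun i => (F' i : V)) := by
  obtain ⟨⟨hE, hF, hEF⟩, hNF, hNE⟩ := h
  refine ⟨⟨fun i j => hE i j, fun i j => hF i j, fun i j => hEF i j⟩, fun i => ?_, fun i => ?_⟩
  · exact congrArg Subtype.val (hNF i)
  · have h1 := congrArg Subtype.val (hNE i)
    rw [resN_apply] at h1
    rw [h1]
    exact map_tbl τ' F' H.subtype i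

/-- the property that all nonempty frame sets of a table have `c` elements -/
def CountProp (F : Type v) [Field F] (T : Tbl) (c : ℕ) : Prop :=
  ∀ (V : Type u) [AddCommGroup V] [Module F V] [FiniteDimensional F V]
    (B : V →ₗ[F] V →ₗ[F] F) (N : Module.End F V),
    Alt B → Nondeg B → (∀ v, N (N v) = 0) → (∀ u v, B (N u) v = B u (N v)) →
    finrank F V = 2 * T.1 → Nonempty (FrameSet B N T.2) → Nat.card (FrameSet B N T.2) = c

variable [Fintype F] [FiniteDimensional F V]

theorem finite_frameSet (B : V →ₗ[F] V →ₗ[F] F) (N : Module.End F V) {K : ℕ}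
    (τ : Fin K → Option (Fin K)) : Finite (FrameSet B N τ) := by
  have : Finite V := Module.finite_of_finite F
  exact Subtype.finite

/-- the first part of a frame -/
def firstPart {B : V →ₗ[F] V →ₗ[F] F} {N : Module.End F V} (hAlt : Alt B) {k₀ K' : ℕ}
    (τ₀ : Fin k₀ → Option (Fin k₀)) (τ' : Fin K' → Option (Fin K'))
    (p : FrameSet B N (appendTbl τ₀ τ')) : FrameSet B N τ₀ :=
  ⟨(fun i => p.1.1 (Fin.castAdd K' i), fun i => p.1.2 (Fin.castAdd K' i)), (p.2.tail hAlt).2.1⟩

/-- counting frames by first parts -/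
theorem card_frameSet_cons {B : V →ₗ[F] V →ₗ[F] F} {N : Module.End F V} (hAlt : Alt B)
    (hND : Nondeg B) (hsq : ∀ v, N (N v) = 0) (hsa : ∀ u v, B (N u) v = B u (N v))
    {k₀ : ℕ} (τ₀ : Fin k₀ → Option (Fin k₀)) (T : Tbl) (hK : finrank F V = 2 * (k₀ + T.1))
    (c : ℕ) (hc : CountProp.{u} F T c) (S : Set (FrameSet B N τ₀))
    (hS1 : ∀ a : FrameSet B N τ₀, a ∈ S →
      Nonempty (FrameSet (resB B (perpFam B a.1.1 a.1.2))
        (resN N (perpFam B a.1.1 a.1.2) (a.2.N_mem_perp hsa)) T.2))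
    (hS0 : ∀ p : FrameSet B N (appendTbl τ₀ T.2), firstPart hAlt τ₀ T.2 p ∈ S) :
    Nat.card (FrameSet B N (appendTbl τ₀ T.2)) = Nat.card S * c := by
  have := finite_frameSet B N (appendTbl τ₀ T.2)
  have := finite_frameSet B N τ₀
  apply card_eq_mul_of_fibers (firstPart hAlt τ₀ T.2) S c _ hS0
  intro a ha
  have h1 : Nat.card {p : FrameSet B N (appendTbl τ₀ T.2) // firstPart hAlt τ₀ T.2 p = a} =
      Nat.card {p : FrameSet B N (appendTbl τ₀ T.2) //
        (fun i => p.1.1 (Fin.castAdd T.1 i)) = a.1.1 ∧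
        (fun i => p.1.2 (Fin.castAdd T.1 i)) = a.1.2} := by
    apply Nat.card_congr
    exact Equiv.subtypeEquivRight (fun p => by
      constructor
      · intro h
        have h' := congrArg Subtype.val h
        exact ⟨congrArg Prod.fst h', congrArg Prod.snd h'⟩
      · rintro ⟨h1, h2⟩
        exact Subtype.ext (Prod.ext h1 h2))
  rw [h1, card_fiber hAlt hsa τ₀ T.2 a.1.1 a.1.2 a.2]
  have h2 := finrank_perpFam hAlt hND a.2.1
  exact hc _ _ _ (alt_resB hAlt _) (nondeg_resB hAlt hND a.2.1) (sq_resN hsq _ _)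
    (sa_resN hsa _ _) (by omega) (hS1 a ha)

end Cfsg.Agent.Helper8.Sp2
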