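import Mathlib
import Cfsg.Agent.Helper8.Sp2PeelCount
set_option autoImplicit false

/-! Existence of frames of the kinds `T0`, `TA`, `TB`, `TC`. -/

namespace Cfsg.Agent.Helper8.Sp2

open Module Cfsg.Agent.Helper8.SpS

universe u v

variable {F : Type v} [Field F]

/-- existence of symplectic frames when `N = 0` -/
theorem exists_frame_T0 (r : ℕ) : ∀ (V : Type u) [AddCommGroup V] [Module F V]
    [FiniteDimensional F V] (B : V →ₗ[F] V →ₗ[F] F) (N : Module.End F V),
    Alt B → Nondeg B → (∀ x, N x = 0) → finrank F V = 2 * r →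
    Nonempty (FrameSet B N (T0 r).2) := by
  induction r with
  | zero =>
    intro V _ _ _ B N hAlt hND hN0 hn
    refine ⟨⟨(Fin.elim0, Fin.elim0), ⟨fun i => i.elim0, fun i => i.elim0, fun i => i.elim0⟩,
      fun i => i.elim0, fun i => i.elim0⟩⟩
  | succ r ih =>
    intro V _ _ _ B N hAlt hND hN0 hn
    have hV : ∃ v : V, v ≠ 0 := by
      by_contra hcon
      rw [not_exists] at hcon
      have : Subsingleton V := ⟨fun a b => by
        rw [not_not.mp (hcon a), not_not.mp (hcon b)]⟩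
      rw [finrank_zero_of_subsingleton] at hn
      omega
    obtain ⟨v, hv⟩ := hV
    obtain ⟨w', hw'⟩ : ∃ w', B v w' ≠ 0 := by
      by_contra hcon
      rw [not_exists] at hcon
      exact hv (hND v (fun w' => not_not.mp (hcon w')))
    obtain ⟨w, hvw⟩ : ∃ w, B v w = 1 :=
      ⟨(B v w')⁻¹ • w', by rw [map_smul, smul_eq_mul, inv_mul_cancel₀ hw']⟩
    have hsa : ∀ u v, B (N u) v = B u (N v) := by
      intro u v
      rw [hN0, hN0, map_zero, map_zero, LinearMap.zero_apply]
    have h₀ : IsFrame B N none1 ![v] ![w] :=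
      ⟨isSympFam_one B hAlt v w hvw, fun i => hN0 _, fun i => by
        rw [hN0, tbl_none _ (show none1 i = none from rfl)]⟩
    have h2 := finrank_perpFam hAlt hND h₀.1
    obtain ⟨⟨⟨E', F'⟩, hp'⟩⟩ := ih ↥(perpFam B ![v] ![w]) (resB B _)
      (resN N _ (h₀.N_mem_perp hsa))
      (alt_resB hAlt _) (nondeg_resB hAlt hND h₀.1) (fun x => Subtype.ext (hN0 x.1)) (by omega)
    simp only at hp'
    show Nonempty (FrameSet B N (appendTbl none1 (T0 r).2))
    exact ⟨⟨(_, _), h₀.append hAlt hp'.coe (fun j => ⟨(E' j).2, (F' j).2⟩)⟩⟩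


variable [CharP F 2]

/-- the first part of an alternating block -/
theorem isFrame_swap {V : Type u} [AddCommGroup V] [Module F V] {B : V →ₗ[F] V →ₗ[F] F}
    {N : Module.End F V} (hAlt : Alt B) (hsq : ∀ v, N (N v) = 0)
    (hsa : ∀ u v, B (N u) v = B u (N v)) (halt : ∀ x, B x (N x) = 0) {v w : V}
    (hvw : B v w = 0) (hvNw : B v (N w) = 1) :
    IsFrame B N swapTbl ![v, w] ![N w, N v] := by
  have hwNv : B w (N v) = 1 := by rw [alt_symm2 hAlt, hsa]; exact hvNw
  have hNwNv : B (N w) (N v) = 0 := by rw [hsa, hsq, map_zero]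
  refine ⟨⟨?_, ?_, ?_⟩, ?_, ?_⟩
  · intro i j
    fin_cases i <;> fin_cases j
    · exact hAlt v
    · exact hvw
    · exact hAlt.eq_zero_of_swap hvw
    · exact hAlt w
  · intro i j
    fin_cases i <;> fin_cases j
    · exact hAlt _
    · exact hNwNv
    · exact hAlt.eq_zero_of_swap hNwNv
    · exact hAlt _
  · intro i j
    fin_cases i <;> fin_cases j
    · exact hvNw
    · exact halt v
    · exact halt w
    · exact hwNv
  · intro i
    fin_cases i
    · exact hsq w
    · exact hsq v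
  · intro i
    fin_cases i
    · rfl
    · rfl

/-- existence of frames of alternating type -/
theorem exists_frame_TA (n : ℕ) : ∀ (V : Type u) [AddCommGroup V] [Module F V]
    [FiniteDimensional F V] (B : V →ₗ[F] V →ₗ[F] F) (N : Module.End F V),
    Alt B → Nondeg B → (∀ v, N (N v) = 0) → (∀ u v, B (N u) v = B u (N v)) →
    (∀ x, B x (N x) = 0) → finrank F V = n →
    ∃ l r : ℕ, finrank F V = 2 * (TA l r).1 ∧ Nonempty (FrameSet B N (TA l r).2) := by
  induction n using Nat.strong_induction_on with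
  | _ n ih =>
    intro V _ _ _ B N hAlt hND hsq hsa halt hn
    by_cases hN0 : ∀ x, N x = 0
    · obtain ⟨k, b, -⟩ := exists_symp_basis B hAlt hND
      have hk : finrank F V = 2 * k := by
        rw [Module.finrank_eq_card_basis b, Fintype.card_sum, Fintype.card_fin]; ring
      refine ⟨0, k, ?_, exists_frame_T0 k V B N hAlt hND hN0 hk⟩
      show finrank F V = 2 * (T0 k).1
      rw [T0_fst, hk]
    rw [not_forall] at hN0
    obtain ⟨v₀, hv₀⟩ := hN0
    obtain ⟨w', hw'⟩ : ∃ w', B (N v₀) w' ≠ 0 := by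
      by_contra hcon
      rw [not_exists] at hcon
      exact hv₀ (hND _ (fun w => not_not.mp (hcon w)))
    obtain ⟨w, hw⟩ : ∃ w, w = (B (N v₀) w')⁻¹ • w' := ⟨_, rfl⟩
    have hNv₀w : B (N v₀) w = 1 := by
      rw [hw, map_smul, smul_eq_mul, inv_mul_cancel₀ hw']
    obtain ⟨v, hv⟩ : ∃ v, v = v₀ + B v₀ w • N v₀ := ⟨_, rfl⟩
    have hNv : N v = N v₀ := by
      rw [hv, map_add, map_smul, hsq, smul_zero, add_zero]
    have hvw : B v w = 0 := by
      rw [hv, map_add, LinearMap.add_apply, map_smul, LinearMap.smul_apply, hNv₀w, smul_eq_mul,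
        mul_one]
      exact CharTwo.add_self_eq_zero _
    have hvNw : B v (N w) = 1 := by rw [← hsa, hNv]; exact hNv₀w
    have h₀ := isFrame_swap hAlt hsq hsa halt hvw hvNw
    have h2 := finrank_perpFam hAlt hND h₀.1
    obtain ⟨l, r, hlr, ⟨⟨⟨E', F'⟩, hp'⟩⟩⟩ := ih (finrank F ↥(perpFam B ![v, w] ![N w, N v]))
      (by omega) ↥(perpFam B ![v, w] ![N w, N v]) (resB B _)
      (resN N _ (h₀.N_mem_perp hsa))
      (alt_resB hAlt _) (nondeg_resB hAlt hND h₀.1) (sq_resN hsq _ _) (sa_resN hsa _ _)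
      (fun x => halt x.1) rfl
    simp only at hp'
    refine ⟨l + 1, r, ?_, ?_⟩
    · show finrank F V = 2 * (2 + (TA l r).1)
      omega
    · show Nonempty (FrameSet B N (appendTbl swapTbl (TA l r).2))
      exact ⟨⟨(_, _), h₀.append hAlt hp'.coe (fun j => ⟨(E' j).2, (F' j).2⟩)⟩⟩


omit [CharP F 2] in
theorem somes_tbl1 {K s : ℕ} (hs : s ≤ K) : somes (tbl1 K s) = s := by
  unfold somes
  have e : {i : Fin K // (tbl1 K s i).isSome} ≃ Fin s :=
    { toFun := fun x => ⟨x.1, by
        have := x.2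
        by_contra h
        rw [tbl1, if_neg h] at this
        exact absurd this (by simp)⟩
      invFun := fun y => ⟨⟨y, lt_of_lt_of_le y.2 hs⟩, by
        rw [tbl1, if_pos y.2]
        rfl⟩
      left_inv := fun x => rfl
      right_inv := fun y => rfl }
  rw [Fintype.card_congr e, Fintype.card_fin]

omit [CharP F 2] in
theorem tblInj_tbl1 (K s : ℕ) : TblInj (tbl1 K s) := by
  intro i j k hi hj
  unfold tbl1 at hi hj
  by_cases h1 : (i : ℕ) < s
  · by_cases h2 : (j : ℕ) < s
    · rw [if_pos h1] at hi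
      rw [if_pos h2] at hj
      rw [Option.some.injEq] at hi hj
      rw [hi, hj]
    · rw [if_neg h2] at hj
      exact absurd hj (by simp)
  · rw [if_neg h1] at hi
    exact absurd hi (by simp)

omit [CharP F 2] in
theorem isFrame_one0 {V : Type u} [AddCommGroup V] [Module F V] {B : V →ₗ[F] V →ₗ[F] F}
    {N : Module.End F V} (hAlt : Alt B) (hsq : ∀ v, N (N v) = 0) {v : V}
    (hQv : B v (N v) = 1) : IsFrame B N one0 ![v] ![N v] := by
  refine ⟨isSympFam_one B hAlt v (N v) hQv, fun i => ?_, fun i => ?_⟩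
  · rw [Subsingleton.elim i 0]
    exact hsq v
  · rw [Subsingleton.elim i 0]
    rfl

/-- existence of frames of odd non-alternating type -/
theorem exists_frame_TB {V : Type u} [AddCommGroup V] [Module F V] [FiniteDimensional F V]
    {B : V →ₗ[F] V →ₗ[F] F} {N : Module.End F V} (hAlt : Alt B) (hND : Nondeg B)
    (hsq : ∀ v, N (N v) = 0) (hsa : ∀ u v, B (N u) v = B u (N v)) {K s : ℕ}
    {E Fv : Fin K → V} (h : IsFrame B N (tbl1 K s) E Fv) (hK : finrank F V = 2 * K)
    (hsK : s ≤ K) (hodd : Odd s) :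
    ∃ l r : ℕ, finrank F V = 2 * (TB l r).1 ∧ Nonempty (FrameSet B N (TB l r).2) := by
  set u := uVec s E with hu
  have hU := Q_eq_sq h hAlt hsa hK
  have hQu : B u (N u) = 1 := by
    rw [hU u, B_N_uVec_uVec h hAlt hsK]
    obtain ⟨t, ht⟩ := hodd
    rw [ht]
    push_cast
    rw [CharTwo.two_eq_zero, zero_mul, zero_add, one_pow]
  have h₀ := isFrame_one0 hAlt hsq hQu
  have hHalt := ((adm_iff hAlt hND hsq hsa u hU hQu u).mpr rfl).2
  have h2 := finrank_perpFam hAlt hND h₀.1
  obtain ⟨l, r, hlr, ⟨⟨⟨E', F'⟩, hp'⟩⟩⟩ := exists_frame_TA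
    (finrank F ↥(perpFam B ![u] ![N u])) ↥(perpFam B ![u] ![N u]) (resB B _)
    (resN N _ (h₀.N_mem_perp hsa))
    (alt_resB hAlt _) (nondeg_resB hAlt hND h₀.1) (sq_resN hsq _ _) (sa_resN hsa _ _)
    (fun x => hHalt x.1 x.2) rfl
  simp only at hp'
  refine ⟨l, r, ?_, ?_⟩
  · show finrank F V = 2 * (1 + (TA l r).1)
    omega
  · show Nonempty (FrameSet B N (appendTbl one0 (TA l r).2))
    exact ⟨⟨(_, _), h₀.append hAlt hp'.coe (fun j => ⟨(E' j).2, (F' j).2⟩)⟩⟩


/-- the complement of a first vector in even non-alternating type is of odd non-alternating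
type -/
theorem exists_frame_perp_TB (hperf : ∀ c : F, ∃ d, d * d = c)
    {V : Type u} [AddCommGroup V] [Module F V] [FiniteDimensional F V]
    {B : V →ₗ[F] V →ₗ[F] F} {N : Module.End F V} (hAlt : Alt B) (hND : Nondeg B)
    (hsq : ∀ v, N (N v) = 0) (hsa : ∀ u v, B (N u) v = B u (N v)) {K s : ℕ}
    {E Fv : Fin K → V} (h : IsFrame B N (tbl1 K s) E Fv) (hK : finrank F V = 2 * K)
    (hsK : s ≤ K) (heven : Even s) {e₀ f₀ : Fin 1 → V} (h₀ : IsFrame B N one0 e₀ f₀) :
    ∃ l r : ℕ, finrank F ↥(perpFam B e₀ f₀) = 2 * (TB l r).1 ∧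
      Nonempty (FrameSet (resB B (perpFam B e₀ f₀))
        (resN N (perpFam B e₀ f₀) (h₀.N_mem_perp hsa)) (TB l r).2) ∧ 2 * l + 2 = s := by
  have hrank : finrank F (LinearMap.range N) = s := by
    rw [h.finrank_range hAlt hK (tblInj_tbl1 K s)]
    exact somes_tbl1 hsK
  have h2 := finrank_perpFam hAlt hND h₀.1
  have hAlt' := alt_resB hAlt (perpFam B e₀ f₀)
  have hND' := nondeg_resB hAlt hND h₀.1
  have hsq' := sq_resN hsq (perpFam B e₀ f₀) (h₀.N_mem_perp hsa)
  have hsa' := sa_resN hsa (perpFam B e₀ f₀) (h₀.N_mem_perp hsa)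
  by_cases htype : (∃ a : ↥(perpFam B e₀ f₀), resB B _ a (resN N _ (h₀.N_mem_perp hsa) a) ≠ 0) ∨
      (∀ a : ↥(perpFam B e₀ f₀), resN N _ (h₀.N_mem_perp hsa) a = 0)
  · obtain ⟨K', s', E', F', hNF⟩ := exists_NF hperf _ ↥(perpFam B e₀ f₀) (resB B _)
      (resN N _ (h₀.N_mem_perp hsa)) hAlt' hND' hsq' hsa' rfl
    have hf1 := hNF.isFrame1 htype
    have hK' := hNF.finrank_eq hAlt'
    have hs'K' : s' ≤ K' := hNF.2.2.2.1
    have hrank' := hNF.finrank_range hAlt'
    have happ := h₀.append hAlt hf1.coe (fun j => ⟨(E' j).2, (F' j).2⟩)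
    have hr2 := happ.finrank_range hAlt (by omega)
      (tblInj_appendTbl tblInj_one0 (tblInj_tbl1 K' s'))
    have hs' : s' + 1 = s := by
      have e1 : Fintype.card {i : Fin (1 + K') // (appendTbl one0 (tbl1 K' s') i).isSome} =
          somes (appendTbl one0 (tbl1 K' s')) := rfl
      rw [e1, somes_appendTbl, somes_one0, somes_tbl1 hs'K', hrank] at hr2
      omega
    have hodd : Odd s' := by
      rcases Nat.even_or_odd s' with he | ho
      · exfalso
        have : Odd s := by rw [← hs']; exact he.add_one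
        exact (Nat.not_even_iff_odd.mpr this) heven
      · exact ho
    obtain ⟨l, r, hlr, hfr⟩ := exists_frame_TB hAlt' hND' hsq' hsa' hf1 hK' hs'K' hodd
    refine ⟨l, r, hlr, hfr, ?_⟩
    obtain ⟨⟨⟨E'', F''⟩, hp''⟩⟩ := hfr
    simp only at hp''
    have hr3 := hp''.finrank_range hAlt' hlr (TB_inj l r)
    have e2 : Fintype.card {i : Fin (TB l r).1 // ((TB l r).2 i).isSome} = somes (TB l r).2 := rfl
    rw [e2, TB_somes, hrank'] at hr3
    omega
  · exfalso
    rw [not_or, not_exists] at htype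
    have halt' : ∀ a : ↥(perpFam B e₀ f₀), resB B _ a (resN N _ (h₀.N_mem_perp hsa) a) = 0 :=
      fun a => not_not.mp (htype.1 a)
    obtain ⟨l, r, hlr, ⟨⟨⟨E', F'⟩, hp'⟩⟩⟩ := exists_frame_TA _ ↥(perpFam B e₀ f₀) (resB B _)
      (resN N _ (h₀.N_mem_perp hsa)) hAlt' hND' hsq' hsa' halt' rfl
    simp only at hp'
    have happ := h₀.append hAlt hp'.coe (fun j => ⟨(E' j).2, (F' j).2⟩)
    have hr2 := happ.finrank_range hAlt (by omega) (TB_inj l r)
    have e1 : Fintype.card {i : Fin (1 + (TA l r).1) //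
        (appendTbl one0 (TA l r).2 i).isSome} = somes (TB l r).2 := rfl
    rw [e1, TB_somes, hrank] at hr2
    obtain ⟨t, ht⟩ := heven
    omega

end Cfsg.Agent.Helper8.Sp2
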