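import Mathlib
import Cfsg.Agent.Helper8.Sp2Exist
set_option autoImplicit false

/-! Counting tools for the peeling recursion: pairs, vectors outside the kernel, first parts. -/

namespace Cfsg.Agent.Helper8.Sp2

open Module Cfsg.Agent.Helper8.SpS

universe u v

/-- counting pairs by the first coordinate -/
theorem card_pairs {α β : Type*} [Finite α] [Finite β] (P : α → Prop) (Q : α → β → Prop) (c : ℕ)
    (h : ∀ a, P a → Nat.card {b // Q a b} = c) :
    Nat.card {p : α × β // P p.1 ∧ Q p.1 p.2} = Nat.card {a // P a} * c := by
  have h1 := card_eq_mul_of_fibers (fun p : {p : α × β // P p.1 ∧ Q p.1 p.2} => p.1.1)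
    {a | P a} c ?_ (fun p => p.2.1)
  · exact h1
  · intro a ha
    rw [← h a ha]
    apply Nat.card_congr
    exact
      { toFun := fun p => ⟨p.1.1.2, by
          have h2 := p.1.2.2
          have h3 : p.1.1.1 = a := p.2
          rw [h3] at h2
          exact h2⟩
        invFun := fun b => ⟨⟨(a, b.1), ha, b.2⟩, rfl⟩
        left_inv := by
          rintro ⟨⟨⟨a', b'⟩, hp⟩, rfl⟩
          rfl
        right_inv := fun b => rfl }

variable {F : Type v} [Field F] [Fintype F]
variable {V : Type u} [AddCommGroup V] [Module F V] [FiniteDimensional F V]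

/-- the vectors outside the kernel -/
theorem card_not_ker (N : Module.End F V) {n s : ℕ} (hn : finrank F V = n)
    (hs : finrank F (LinearMap.range N) = s) :
    Nat.card {v : V // N v ≠ 0} = Fintype.card F ^ n - Fintype.card F ^ (n - s) := by
  classical
  have : Finite V := Module.finite_of_finite F
  let _ : Fintype V := Fintype.ofFinite V
  have h1 : Nat.card (LinearMap.ker N) = Fintype.card F ^ (n - s) := card_ker N hn hs
  have h2 : Nat.card V = Fintype.card F ^ n := by rw [natCard_eq_pow (F := F) (V := V), hn]
  rw [← h1, ← h2, Nat.card_eq_fintype_card, Nat.card_eq_fintype_card, Nat.card_eq_fintype_card,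
    Fintype.card_subtype_compl]
  rfl

/-- the nonzero vectors -/
theorem card_ne_zero {n : ℕ} (hn : finrank F V = n) :
    Nat.card {v : V // v ≠ 0} = Fintype.card F ^ n - 1 := by
  classical
  have : Finite V := Module.finite_of_finite F
  let _ : Fintype V := Fintype.ofFinite V
  have h2 : Nat.card V = Fintype.card F ^ n := by rw [natCard_eq_pow (F := F) (V := V), hn]
  rw [← h2, Nat.card_eq_fintype_card, Nat.card_eq_fintype_card, Fintype.card_subtype_compl,
    Fintype.card_subtype_eq]

end Cfsg.Agent.Helper8.Sp2
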