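import Mathlib
import Cfsg.Agent.Helper8.Sp2CntBase
set_option autoImplicit false

/-! The sets of first parts of the three kinds, and their sizes. -/

namespace Cfsg.Agent.Helper8.Sp2

open Module Cfsg.Agent.Helper8.SpS

universe u v

variable {F : Type v} [Field F]
variable {V : Type u} [AddCommGroup V] [Module F V]

/-- the shape of a first part of kind `one0` -/
theorem IsFrame.one0_eq {B : V →ₗ[F] V →ₗ[F] F} {N : Module.End F V} {e f : Fin 1 → V}
    (h : IsFrame B N one0 e f) :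
    e = ![e 0] ∧ f = ![N (e 0)] ∧ B (e 0) (N (e 0)) = 1 := by
  have h1 : N (e 0) = f 0 := by
    rw [h.2.2 0]
    rfl
  refine ⟨?_, ?_, ?_⟩
  · funext i
    rw [Subsingleton.elim i 0]
    rfl
  · funext i
    rw [Subsingleton.elim i 0, h1]
    rfl
  · rw [h1, h.1.2.2 0 0, if_pos rfl]

/-- the shape of a first part of kind `swapTbl` -/
theorem IsFrame.swap_eq {B : V →ₗ[F] V →ₗ[F] F} {N : Module.End F V} {e f : Fin 2 → V}
    (h : IsFrame B N swapTbl e f) :
    e = ![e 0, e 1] ∧ f = ![N (e 1), N (e 0)] ∧ B (e 0) (e 1) = 0 ∧ B (e 0) (N (e 1)) = 1 := by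
  have h0 : N (e 0) = f 1 := by
    rw [h.2.2 0]
    rfl
  have h1 : N (e 1) = f 0 := by
    rw [h.2.2 1]
    rfl
  refine ⟨?_, ?_, h.1.1 0 1, ?_⟩
  · funext i
    fin_cases i <;> rfl
  · funext i
    fin_cases i
    · exact h1.symm
    · exact h0.symm
  · rw [h1, h.1.2.2 0 0, if_pos rfl]

/-- the shape of a first part of kind `none1` -/
theorem IsFrame.none1_eq {B : V →ₗ[F] V →ₗ[F] F} {N : Module.End F V} {e f : Fin 1 → V}
    (h : IsFrame B N none1 e f) :
    e = ![e 0] ∧ f = ![f 0] ∧ B (e 0) (f 0) = 1 := by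
  refine ⟨?_, ?_, ?_⟩
  · funext i
    rw [Subsingleton.elim i 0]
    rfl
  · funext i
    rw [Subsingleton.elim i 0]
    rfl
  · rw [h.1.2.2 0 0, if_pos rfl]

variable [Fintype F] [FiniteDimensional F V]

/-- the first parts of kind `none1` when `N = 0` -/
theorem card_first_none1 {B : V →ₗ[F] V →ₗ[F] F} {N : Module.End F V} (hAlt : Alt B)
    (hND : Nondeg B) (hN0 : ∀ x, N x = 0) {n : ℕ} (hn : finrank F V = n + 1) :
    Nat.card (FrameSet B N none1) =
      (Fintype.card F ^ (n + 1) - 1) * Fintype.card F ^ n := by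
  have : Finite V := Module.finite_of_finite F
  have h1 : Nat.card (FrameSet B N none1) =
      Nat.card {p : V × V // p.1 ≠ 0 ∧ B p.1 p.2 = 1} := by
    apply Nat.card_congr
    refine
      { toFun := fun a => ⟨(a.1.1 0, a.1.2 0), ?_, a.2.none1_eq.2.2⟩
        invFun := fun p => ⟨(![p.1.1], ![p.1.2]), isSympFam_one B hAlt _ _ p.2.2,
          fun i => hN0 _, fun i => by rw [hN0, tbl_none _ (show none1 i = none from rfl)]⟩
        left_inv := ?_
        right_inv := ?_ }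
    · intro h0
      have h2 := a.2.none1_eq.2.2
      simp only at h0
      rw [h0, map_zero, LinearMap.zero_apply] at h2
      exact zero_ne_one h2
    · rintro ⟨⟨e, f⟩, ha⟩
      apply Subtype.ext
      simp only at ha ⊢
      rw [← ha.none1_eq.1, ← ha.none1_eq.2.1]
    · rintro ⟨⟨v, w⟩, hp⟩
      rfl
  rw [h1, card_pairs (fun v : V => v ≠ 0) (fun v w => B v w = 1) (Fintype.card F ^ n)
    (fun a ha => card_one_cond B hND ha 1 hn), card_ne_zero hn]

variable [CharP F 2]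

/-- the first parts of kind `swapTbl` in alternating type -/
theorem card_first_swap {B : V →ₗ[F] V →ₗ[F] F} {N : Module.End F V} (hAlt : Alt B)
    (hND : Nondeg B) (hsq : ∀ v, N (N v) = 0) (hsa : ∀ u v, B (N u) v = B u (N v))
    (halt : ∀ x, B x (N x) = 0) {n s : ℕ} (hn : finrank F V = n + 2)
    (hs : finrank F (LinearMap.range N) = s) :
    Nat.card (FrameSet B N swapTbl) =
      (Fintype.card F ^ (n + 2) - Fintype.card F ^ (n + 2 - s)) * Fintype.card F ^ n := by
  have : Finite V := Module.finite_of_finite F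
  have h1 : Nat.card (FrameSet B N swapTbl) =
      Nat.card {p : V × V // N p.1 ≠ 0 ∧ (B p.1 p.2 = 0 ∧ B (N p.1) p.2 = 1)} := by
    apply Nat.card_congr
    refine
      { toFun := fun a => ⟨(a.1.1 0, a.1.1 1), ?_, a.2.swap_eq.2.2.1, ?_⟩
        invFun := fun p => ⟨(![p.1.1, p.1.2], ![N p.1.2, N p.1.1]),
          isFrame_swap hAlt hsq hsa halt p.2.2.1 (by rw [← hsa]; exact p.2.2.2)⟩
        left_inv := ?_
        right_inv := ?_ }
    · intro h0
      have h2 := a.2.swap_eq.2.2.2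
      simp only at h0
      rw [← hsa, h0, map_zero, LinearMap.zero_apply] at h2
      exact zero_ne_one h2
    · simp only
      rw [hsa]
      exact a.2.swap_eq.2.2.2
    · rintro ⟨⟨e, f⟩, ha⟩
      apply Subtype.ext
      simp only at ha ⊢
      rw [← ha.swap_eq.1, ← ha.swap_eq.2.1]
    · rintro ⟨⟨v, w⟩, hp⟩
      rfl
  rw [h1, card_pairs (fun v : V => N v ≠ 0) (fun v w => B v w = 0 ∧ B (N v) w = 1)
    (Fintype.card F ^ n) ?_, card_not_ker N hn hs]
  intro v hv
  obtain ⟨w', hw'⟩ : ∃ w', B (N v) w' ≠ 0 := by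
    by_contra hcon
    rw [not_exists] at hcon
    exact hv (hND _ (fun w => not_not.mp (hcon w)))
  obtain ⟨w, hw⟩ : ∃ w, B (N v) w = 1 :=
    ⟨(B (N v) w')⁻¹ • w', by rw [map_smul, smul_eq_mul, inv_mul_cancel₀ hw']⟩
  have hvNw : B v (N w) = 1 := by rw [← hsa]; exact hw
  refine card_two_cond B (a := v) (b := N v) (w₁ := N w) (w₂ := w + B v w • N w)
    hvNw ?_ ?_ ?_ 0 1 hn
  · rw [map_add, map_smul, hvNw, smul_eq_mul, mul_one]
    exact CharTwo.add_self_eq_zero _
  · rw [hsa, hsq, map_zero]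
  · rw [map_add, map_smul, hw, hsa v, hsq, map_zero, smul_zero, add_zero]

/-- the first parts of kind `one0` -/
theorem card_first_one0 {B : V →ₗ[F] V →ₗ[F] F} {N : Module.End F V} (hAlt : Alt B)
    (hND : Nondeg B) (hsq : ∀ v, N (N v) = 0) (w : V)
    (hU : ∀ x, B x (N x) = (B w x) ^ 2) (hw : w ≠ 0) {n : ℕ}
    (hn : finrank F V = n + 1) :
    Nat.card (FrameSet B N one0) = Fintype.card F ^ n := by
  rw [← card_one_cond B hND hw 1 hn]
  apply Nat.card_congr
  refine
    { toFun := fun a => ⟨a.1.1 0, ?_⟩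
      invFun := fun v => ⟨(![v.1], ![N v.1]), isFrame_one0 hAlt hsq (by
        rw [hU, v.2, one_pow])⟩
      left_inv := ?_
      right_inv := ?_ }
  · have h2 := a.2.one0_eq.2.2
    rw [hU] at h2
    have h3 : (B w (a.1.1 0)) ^ 2 = 1 ^ 2 := by rw [h2, one_pow]
    exact CharTwo.sq_injective h3
  · rintro ⟨⟨e, f⟩, ha⟩
    apply Subtype.ext
    simp only at ha ⊢
    rw [← ha.one0_eq.1, ← ha.one0_eq.2.1]
  · rintro ⟨v, hv⟩
    rfl

/-- the admissible first parts of kind `one0` in odd non-alternating type -/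
theorem card_first_one0_adm {B : V →ₗ[F] V →ₗ[F] F} {N : Module.End F V} (hAlt : Alt B)
    (hND : Nondeg B) (hsq : ∀ v, N (N v) = 0) (hsa : ∀ u v, B (N u) v = B u (N v)) (u : V)
    (hU : ∀ x, B x (N x) = (B (N u) x) ^ 2) (hQu : B u (N u) = 1) {n s : ℕ}
    (hn : finrank F V = n) (hs : finrank F (LinearMap.range N) = s) :
    Nat.card ({a : FrameSet B N one0 | ∀ x ∈ perpFam B a.1.1 a.1.2, B x (N x) = 0} :
      Set (FrameSet B N one0)) = Fintype.card F ^ (n - s) := by
  rw [← card_ker N hn hs, ← card_coset_ker N u]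
  apply Nat.card_congr
  refine
    { toFun := fun a => ⟨a.1.1.1 0, ?_⟩
      invFun := fun v => ⟨⟨(![v.1], ![N v.1]), isFrame_one0 hAlt hsq
        ((adm_iff hAlt hND hsq hsa u hU hQu v.1).mpr v.2).1⟩,
        ((adm_iff hAlt hND hsq hsa u hU hQu v.1).mpr v.2).2⟩
      left_inv := ?_
      right_inv := ?_ }
  · apply (adm_iff hAlt hND hsq hsa u hU hQu _).mp
    refine ⟨a.1.2.one0_eq.2.2, ?_⟩
    have h2 := a.2
    change ∀ x ∈ perpFam B a.1.1.1 a.1.1.2, B x (N x) = 0 at h2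
    rw [a.1.2.one0_eq.1, a.1.2.one0_eq.2.1] at h2
    exact h2
  · rintro ⟨⟨⟨e, f⟩, ha⟩, hS⟩
    apply Subtype.ext
    apply Subtype.ext
    simp only at ha ⊢
    rw [← ha.one0_eq.1, ← ha.one0_eq.2.1]
  · rintro ⟨v, hv⟩
    rfl

end Cfsg.Agent.Helper8.Sp2
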