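import Mathlib
import Cfsg.Agent.Helper8.Sp2CntFirst
set_option autoImplicit false

/-! The numbers of frames of the kinds `T0`, `TA`, `TB`, `TC`. -/

namespace Cfsg.Agent.Helper8.Sp2

open Module Cfsg.Agent.Helper8.SpS

universe u v

/-- the order of the symplectic group -/
def spCard (q r : ℕ) : ℕ := q ^ (r ^ 2) * ∏ i : Fin r, (q ^ (2 * ((i : ℕ) + 1)) - 1)

/-- the number of frames of kind `TA` -/
def cntA (q : ℕ) : ℕ → ℕ → ℕ
  | 0, r => spCard q r
  | l + 1, r => (q ^ (2 * (2 * (l + 1) + r)) - q ^ (2 * (2 * (l + 1) + r) - 2 * (l + 1))) *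
      q ^ (2 * (2 * l + r) + 2) * cntA q l r

/-- the number of frames of kind `TB` -/
def cntB (q l r : ℕ) : ℕ := q ^ (2 * l + 2 * r + 1) * cntA q l r

/-- the number of frames of kind `TC` -/
def cntC (q l r : ℕ) : ℕ := q ^ (2 * (2 * l + r) + 3) * cntB q l r

variable {F : Type v} [Field F]
variable {V : Type u} [AddCommGroup V] [Module F V]

/-- a frame inside an `N`-stable subspace is a frame of the restricted structure -/
theorem IsFrame.restrict {B : V →ₗ[F] V →ₗ[F] F} {N : Module.End F V} {H : Submodule F V}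
    (hNH : ∀ x ∈ H, N x ∈ H) {K' : ℕ} {τ' : Fin K' → Option (Fin K')} {E' F' : Fin K' → V}
    (h : IsFrame B N τ' E' F') (hE : ∀ i, E' i ∈ H) (hF : ∀ i, F' i ∈ H) :
    IsFrame (resB B H) (resN N H hNH) τ' (fun i => (⟨E' i, hE i⟩ : ↥H))
      (fun i => (⟨F' i, hF i⟩ : ↥H)) := by
  obtain ⟨⟨h1, h2, h3⟩, hNF, hNE⟩ := h
  refine ⟨⟨fun i j => h1 i j, fun i j => h2 i j, fun i j => h3 i j⟩, fun i => ?_, fun i => ?_⟩
  · apply Subtype.ext
    exact hNF i
  · apply Subtype.ext
    rw [resN_apply]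
    simp only
    rw [hNE i]
    exact (map_tbl τ' (fun i => (⟨F' i, hF i⟩ : ↥H)) H.subtype i).symm

variable [FiniteDimensional F V]

/-- the rank of a frame set's operator -/
theorem rank_of_frame {B : V →ₗ[F] V →ₗ[F] F} {N : Module.End F V} (hAlt : Alt B) (T : Tbl)
    (hinj : TblInj T.2) (hK : finrank F V = 2 * T.1) (hne : Nonempty (FrameSet B N T.2)) :
    finrank F (LinearMap.range N) = somes T.2 := by
  obtain ⟨⟨⟨E, Fv⟩, hp⟩⟩ := hne
  exact hp.finrank_range hAlt hK hinj

theorem TA_unique {B : V →ₗ[F] V →ₗ[F] F} {N : Module.End F V} (hAlt : Alt B) {l r l' r' : ℕ}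
    (hd1 : finrank F V = 2 * (TA l r).1) (h1 : Nonempty (FrameSet B N (TA l r).2))
    (hd2 : finrank F V = 2 * (TA l' r').1) (h2 : Nonempty (FrameSet B N (TA l' r').2)) :
    l' = l ∧ r' = r := by
  have e1 := rank_of_frame hAlt (TA l r) (TA_inj l r) hd1 h1
  have e2 := rank_of_frame hAlt (TA l' r') (TA_inj l' r') hd2 h2
  rw [TA_somes] at e1 e2
  rw [TA_fst] at hd1 hd2
  omega

theorem TB_unique {B : V →ₗ[F] V →ₗ[F] F} {N : Module.End F V} (hAlt : Alt B) {l r l' r' : ℕ}
    (hd1 : finrank F V = 2 * (TB l r).1) (h1 : Nonempty (FrameSet B N (TB l r).2))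
    (hd2 : finrank F V = 2 * (TB l' r').1) (h2 : Nonempty (FrameSet B N (TB l' r').2)) :
    l' = l ∧ r' = r := by
  have e1 := rank_of_frame hAlt (TB l r) (TB_inj l r) hd1 h1
  have e2 := rank_of_frame hAlt (TB l' r') (TB_inj l' r') hd2 h2
  rw [TB_somes] at e1 e2
  rw [TB_fst] at hd1 hd2
  omega

variable [Fintype F]

/-- the number of symplectic frames -/
theorem count_T0 (r : ℕ) : CountProp.{u} F (T0 r) (spCard (Fintype.card F) r) := by
  induction r with
  | zero =>
    intro V _ _ _ B N hAlt hND hsq hsa hfr hne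
    have hsub : Subsingleton (FrameSet B N (T0 0).2) := by
      constructor
      rintro ⟨⟨e, f⟩, _⟩ ⟨⟨e', f'⟩, _⟩
      apply Subtype.ext
      exact Prod.ext (funext fun i => i.elim0) (funext fun i => i.elim0)
    have h1 : Nat.card (FrameSet B N (T0 0).2) = 1 := by
      rw [Nat.card_eq_one_iff_unique]
      exact ⟨hsub, hne⟩
    rw [h1, spCard]
    simp
  | succ r ih =>
    intro V _ _ _ B N hAlt hND hsq hsa hfr hne
    have hrank := rank_of_frame hAlt (T0 (r + 1)) (T0_inj (r + 1)) hfr hne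
    rw [T0_somes] at hrank
    have hN0 : ∀ x, N x = 0 := by
      intro x
      have h1 : LinearMap.range N = ⊥ := Submodule.finrank_eq_zero.mp hrank
      have h2 : N x ∈ LinearMap.range N := ⟨x, rfl⟩
      rw [h1] at h2
      exact (Submodule.mem_bot F).mp h2
    have hK : finrank F V = 2 * (1 + (T0 r).1) := hfr
    have hcount := card_frameSet_cons hAlt hND hsq hsa none1 (T0 r) hK _ ih Set.univ
      (fun a _ => by
        have h2 := finrank_perpFam hAlt hND a.2.1
        exact exists_frame_T0 r _ _ _ (alt_resB hAlt _) (nondeg_resB hAlt hND a.2.1)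
          (fun x => Subtype.ext (hN0 x.1)) (by rw [T0_fst] at hK; omega))
      (fun p => Set.mem_univ _)
    have hgoal : Nat.card (FrameSet B N (T0 (r + 1)).2) =
        Nat.card (FrameSet B N (appendTbl none1 (T0 r).2)) := rfl
    rw [hgoal, hcount, Nat.card_congr (Equiv.Set.univ _)]
    rw [T0_fst] at hK
    rw [card_first_none1 hAlt hND hN0 (n := 2 * r + 1) (by omega)]
    set q := Fintype.card F
    unfold spCard
    rw [Fin.prod_univ_castSucc]
    simp only [Fin.val_castSucc, Fin.val_last]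
    have e1 : (r + 1) ^ 2 = r ^ 2 + (2 * r + 1) := by ring
    have e2 : 2 * r + 1 + 1 = 2 * (r + 1) := by ring
    rw [e2, e1, pow_add q (r ^ 2) (2 * r + 1)]
    ring

variable [CharP F 2]

omit [FiniteDimensional F V] in
theorem hperf' (c : F) : ∃ d, d * d = c := by
  obtain ⟨d, hd⟩ := isSquare_of_charTwo' c
  exact ⟨d, hd.symm⟩

/-- the number of frames of alternating type -/
theorem count_TA (l r : ℕ) : CountProp.{u} F (TA l r) (cntA (Fintype.card F) l r) := by
  induction l with
  | zero => exact count_T0 r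
  | succ l ih =>
    intro V _ _ _ B N hAlt hND hsq hsa hfr hne
    have hrank := rank_of_frame hAlt (TA (l + 1) r) (TA_inj (l + 1) r) hfr hne
    rw [TA_somes] at hrank
    have halt : ∀ x, B x (N x) = 0 := by
      obtain ⟨⟨⟨E, Fv⟩, hp⟩⟩ := hne
      exact hp.alt_of_no_fixed hAlt hsa hfr (TA_fpf (l + 1) r)
    have hK : finrank F V = 2 * (2 + (TA l r).1) := hfr
    have hcount := card_frameSet_cons hAlt hND hsq hsa swapTbl (TA l r) hK _ ih Set.univ
      (fun a _ => by
        have h2 := finrank_perpFam hAlt hND a.2.1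
        obtain ⟨l', r', hd', ⟨⟨⟨E', F'⟩, hp'⟩⟩⟩ := exists_frame_TA _ ↥(perpFam B a.1.1 a.1.2)
          (resB B _) (resN N _ (a.2.N_mem_perp hsa)) (alt_resB hAlt _)
          (nondeg_resB hAlt hND a.2.1) (sq_resN hsq _ _) (sa_resN hsa _ _)
          (fun x => halt x.1) rfl
        simp only at hp'
        have happ := a.2.append hAlt hp'.coe (fun j => ⟨(E' j).2, (F' j).2⟩)
        have hne' : Nonempty (FrameSet B N (TA (l' + 1) r').2) := ⟨⟨(_, _), happ⟩⟩
        have hd2 : finrank F V = 2 * (TA (l' + 1) r').1 := by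
          show finrank F V = 2 * (2 + (TA l' r').1)
          omega
        obtain ⟨e1, e2⟩ := TA_unique hAlt hfr hne hd2 hne'
        have e3 : l' = l := by omega
        subst e3 e2
        exact ⟨⟨(E', F'), hp'⟩⟩)
      (fun p => Set.mem_univ _)
    have hgoal : Nat.card (FrameSet B N (TA (l + 1) r).2) =
        Nat.card (FrameSet B N (appendTbl swapTbl (TA l r).2)) := rfl
    rw [hgoal, hcount, Nat.card_congr (Equiv.Set.univ _)]
    rw [TA_fst] at hK
    rw [card_first_swap hAlt hND hsq hsa halt (n := 2 * (2 * l + r) + 2) (by omega) hrank]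
    have e1 : 2 * (2 * l + r) + 2 + 2 = 2 * (2 * (l + 1) + r) := by ring
    rw [e1]
    rfl

/-- the number of frames of odd non-alternating type -/
theorem count_TB (l r : ℕ) : CountProp.{u} F (TB l r) (cntB (Fintype.card F) l r) := by
  intro V _ _ _ B N hAlt hND hsq hsa hfr hne
  have hrank := rank_of_frame hAlt (TB l r) (TB_inj l r) hfr hne
  rw [TB_somes] at hrank
  have hK : finrank F V = 2 * (1 + (TA l r).1) := hfr
  -- the distinguished vector
  obtain ⟨u, hU, hQu⟩ : ∃ u : V, (∀ x, B x (N x) = (B (N u) x) ^ 2) ∧ B u (N u) = 1 := by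
    obtain ⟨p₀⟩ := hne
    have hQ0 := (firstPart hAlt one0 (TA l r).2 p₀).2.one0_eq.2.2
    obtain ⟨K', s', E, Fv, hNF⟩ := exists_NF hperf' _ V B N hAlt hND hsq hsa rfl
    have hf1 := hNF.isFrame1 (Or.inl ⟨_, by rw [hQ0]; exact one_ne_zero⟩)
    have hK' := hNF.finrank_eq hAlt
    have hs' := hNF.finrank_range hAlt
    refine ⟨uVec s' E, Q_eq_sq hf1 hAlt hsa hK', ?_⟩
    rw [Q_eq_sq hf1 hAlt hsa hK', B_N_uVec_uVec hf1 hAlt hNF.2.2.2.1]
    have : s' = 2 * l + 1 := by omega
    rw [this]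
    push_cast
    rw [CharTwo.two_eq_zero, zero_mul, zero_add, one_pow]
  have hcount := card_frameSet_cons hAlt hND hsq hsa one0 (TA l r) hK _ (count_TA l r)
    {a : FrameSet B N one0 | ∀ x ∈ perpFam B a.1.1 a.1.2, B x (N x) = 0}
    (fun a ha => by
      have h2 := finrank_perpFam hAlt hND a.2.1
      obtain ⟨l', r', hd', ⟨⟨⟨E', F'⟩, hp'⟩⟩⟩ := exists_frame_TA _ ↥(perpFam B a.1.1 a.1.2)
        (resB B _) (resN N _ (a.2.N_mem_perp hsa)) (alt_resB hAlt _)
        (nondeg_resB hAlt hND a.2.1) (sq_resN hsq _ _) (sa_resN hsa _ _)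
        (fun x => ha x.1 x.2) rfl
      simp only at hp'
      have happ := a.2.append hAlt hp'.coe (fun j => ⟨(E' j).2, (F' j).2⟩)
      have hne' : Nonempty (FrameSet B N (TB l' r').2) := ⟨⟨(_, _), happ⟩⟩
      have hd2 : finrank F V = 2 * (TB l' r').1 := by
        show finrank F V = 2 * (1 + (TA l' r').1)
        omega
      obtain ⟨e1, e2⟩ := TB_unique hAlt hfr hne hd2 hne'
      subst e1 e2
      exact ⟨⟨(E', F'), hp'⟩⟩)
    (fun p => by
      have ht := p.2.tail hAlt
      have h2 := finrank_perpFam hAlt hND ht.2.1.1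
      have hres := ht.2.2.restrict (ht.2.1.N_mem_perp hsa) (fun i => (ht.1 i).1)
        (fun i => (ht.1 i).2)
      have halt' := hres.alt_of_no_fixed (alt_resB hAlt _) (sa_resN hsa _ _) (by omega)
        (TA_fpf l r)
      intro x hx
      exact halt' ⟨x, hx⟩)
  have hgoal : Nat.card (FrameSet B N (TB l r).2) =
      Nat.card (FrameSet B N (appendTbl one0 (TA l r).2)) := rfl
  rw [hgoal, hcount]
  rw [TA_fst] at hK
  rw [card_first_one0_adm hAlt hND hsq hsa u hU hQu hK hrank]
  have e1 : 2 * (1 + (2 * l + r)) - (2 * l + 1) = 2 * l + 2 * r + 1 := by omega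
  rw [e1]
  rfl

/-- the number of frames of even non-alternating type -/
theorem count_TC (l r : ℕ) : CountProp.{u} F (TC l r) (cntC (Fintype.card F) l r) := by
  intro V _ _ _ B N hAlt hND hsq hsa hfr hne
  have hrank := rank_of_frame hAlt (TC l r) (TC_inj l r) hfr hne
  rw [TC_somes] at hrank
  have hK : finrank F V = 2 * (1 + (TB l r).1) := hfr
  obtain ⟨p₀⟩ := hne
  have hQ0 := (firstPart hAlt one0 (TB l r).2 p₀).2.one0_eq.2.2
  obtain ⟨K', s', E, Fv, hNF⟩ := exists_NF hperf' _ V B N hAlt hND hsq hsa rfl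
  have hf1 := hNF.isFrame1 (Or.inl ⟨_, by rw [hQ0]; exact one_ne_zero⟩)
  have hK' := hNF.finrank_eq hAlt
  have hs' := hNF.finrank_range hAlt
  have hs'K' : s' ≤ K' := hNF.2.2.2.1
  have hU := Q_eq_sq hf1 hAlt hsa hK'
  have hs'2 : s' = 2 * l + 2 := by omega
  have hcount := card_frameSet_cons hAlt hND hsq hsa one0 (TB l r) hK _ (count_TB l r) Set.univ
    (fun a _ => by
      have h2 := finrank_perpFam hAlt hND a.2.1
      obtain ⟨l', r', hd', hne', hl'⟩ := exists_frame_perp_TB hperf' hAlt hND hsq hsa hf1 hK'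
        hs'K' ⟨l + 1, by omega⟩ a.2
      have e1 : l' = l := by omega
      subst e1
      have e2 : r' = r := by
        rw [TB_fst] at hd' hK
        omega
      subst e2
      exact hne')
    (fun p => Set.mem_univ _)
  have hgoal : Nat.card (FrameSet B N (TC l r).2) =
      Nat.card (FrameSet B N (appendTbl one0 (TB l r).2)) := rfl
  rw [hgoal, hcount, Nat.card_congr (Equiv.Set.univ _)]
  rw [TB_fst] at hK
  have hw : N (uVec s' E) ≠ 0 := by
    intro h0
    have h1 := hU ((firstPart hAlt one0 (TB l r).2 p₀).1.1 0)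
    rw [hQ0, h0, map_zero, LinearMap.zero_apply, zero_pow two_ne_zero] at h1
    exact one_ne_zero h1
  rw [card_first_one0 hAlt hND hsq _ hU hw (n := 2 * (2 * l + r) + 3) (by omega)]
  rfl

end Cfsg.Agent.Helper8.Sp2
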