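import Mathlib
import Cfsg.Agent.Helper8.Sp2CntProp
import Cfsg.Agent.Helper8.WittQuad
set_option autoImplicit false

/-! Conjugacy of involutions in orthogonal groups in characteristic two: the normal form of the
symplectic theory together with Witt's lemma. -/

namespace Cfsg.Agent.Helper8.O2

open Module Cfsg.Agent.Helper8.SpS Cfsg.Agent.Helper8.Sp2 Cfsg.Agent.Helper8.WittQuad

universe u v

variable {F : Type v} [Field F]
variable {V : Type u} [AddCommGroup V] [Module F V]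

/-- the operator of a normal form in terms of its frame -/
theorem NF.N_eq [FiniteDimensional F V] {B : V →ₗ[F] V →ₗ[F] F} {N : Module.End F V} {K s : ℕ}
    {E Fv : Fin K → V} (h : NF B N K s E Fv) (hAlt : Alt B) (x : V) :
    N x = ∑ i : Fin K, B x (Fv i) • N (E i) := by
  have key : N = ∑ i : Fin K, (B.flip (Fv i)).smulRight (N (E i)) := by
    apply (h.basis hAlt).ext
    intro y
    rw [h.basis_apply hAlt, LinearMap.sum_apply]
    obtain ⟨hS, hsp, hNF, hsK, hNE, ht1, ht2⟩ := h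
    rcases y with k | k
    · simp only [Sum.elim_inl, LinearMap.smulRight_apply, LinearMap.flip_apply]
      rw [Finset.sum_eq_single k]
      · rw [hS.2.2 k k, if_pos rfl, one_smul]
      · intro i _ hik
        rw [hS.2.2 k i, if_neg (Ne.symm hik), zero_smul]
      · intro hk
        exact absurd (Finset.mem_univ k) hk
    · simp only [Sum.elim_inr, LinearMap.smulRight_apply, LinearMap.flip_apply]
      rw [hNF k]
      symm
      apply Finset.sum_eq_zero
      intro i _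
      rw [hS.2.1 k i, zero_smul]
  conv_lhs => rw [key]
  rw [LinearMap.sum_apply]
  rfl

variable [Fintype F] [CharP F 2] [FiniteDimensional F V]

omit [Fintype F] [FiniteDimensional F V] in
theorem alt_polar (Q : QuadraticForm F V) : Alt (QuadraticMap.polarBilin Q) := by
  intro v
  show QuadraticMap.polar Q v v = 0
  rw [Cfsg.Agent.Helper8.QuadForm.polar_self', CharTwo.two_eq_zero, zero_mul]

omit [Fintype F] [CharP F 2] [FiniteDimensional F V] in
theorem nondeg_polar (Q : QuadraticForm F V) (hQ : (QuadraticMap.polarBilin Q).Nondegenerate) :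
    Nondeg (QuadraticMap.polarBilin Q) := fun u hu => hQ.1 u hu

/-- involutions of an orthogonal group with the same rank and type are conjugate -/
theorem orth_conj (Q : QuadraticForm F V) (hQ : (QuadraticMap.polarBilin Q).Nondegenerate)
    (N₁ N₂ : Module.End F V) (hsq₁ : ∀ v, N₁ (N₁ v) = 0) (hsq₂ : ∀ v, N₂ (N₂ v) = 0)
    (hsa₁ : ∀ u v, QuadraticMap.polar Q (N₁ u) v = QuadraticMap.polar Q u (N₁ v))
    (hsa₂ : ∀ u v, QuadraticMap.polar Q (N₂ u) v = QuadraticMap.polar Q u (N₂ v))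
    (hQN₁ : ∀ v, Q (N₁ v) = QuadraticMap.polar Q v (N₁ v))
    (hQN₂ : ∀ v, Q (N₂ v) = QuadraticMap.polar Q v (N₂ v))
    (hrank : finrank F (LinearMap.range N₁) = finrank F (LinearMap.range N₂))
    (htype : (∀ v, QuadraticMap.polar Q v (N₁ v) = 0) ↔
      (∀ v, QuadraticMap.polar Q v (N₂ v) = 0)) :
    ∃ g : V ≃ₗ[F] V, (∀ v, Q (g v) = Q v) ∧ ∀ v, g (N₁ v) = N₂ (g v) := by
  set B : V →ₗ[F] V →ₗ[F] F := QuadraticMap.polarBilin Q with hB
  have hBp : ∀ u v, B u v = QuadraticMap.polar Q u v := fun u v => rfl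
  have hAlt : Alt B := alt_polar Q
  have hND : Nondeg B := nondeg_polar Q hQ
  obtain ⟨K₁, s₁, E₁, F₁, h₁⟩ := exists_NF hperf' _ V B N₁ hAlt hND hsq₁ hsa₁ rfl
  obtain ⟨K₂, s₂, E₂, F₂, h₂⟩ := exists_NF hperf' _ V B N₂ hAlt hND hsq₂ hsa₂ rfl
  have hK : K₁ = K₂ := by
    have e1 := h₁.finrank_eq hAlt
    have e2 := h₂.finrank_eq hAlt
    omega
  have hs : s₁ = s₂ := by
    rw [← h₁.finrank_range hAlt, ← h₂.finrank_range hAlt]
    exact hrank
  subst hK hs
  have hN₁ := NF.N_eq h₁ hAlt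
  have hN₂ := NF.N_eq h₂ hAlt
  obtain ⟨hS₁, hsp₁, hNF₁, hsK, hNE₁, ht1₁, ht2₁⟩ := h₁
  obtain ⟨hS₂, hsp₂, hNF₂, -, hNE₂, ht1₂, ht2₂⟩ := h₂
  -- the two families spanning the images
  have hli₁ := linearIndependent_family B hAlt E₁ F₁ hS₁.1 hS₁.2.1 hS₁.2.2
  have hli₂ := linearIndependent_family B hAlt E₂ F₂ hS₂.1 hS₂.2.1 hS₂.2.2
  have hinj : Function.Injective (fun i : Fin s₁ => (Sum.inr (Fin.castLE hsK i) : Fin K₁ ⊕ Fin K₁)) := by
    intro i j hij
    have := Sum.inr_injective hij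
    exact Fin.castLE_injective hsK this
  have hx : LinearIndependent F (fun i : Fin s₁ => F₁ (Fin.castLE hsK i)) := hli₁.comp _ hinj
  have hy : LinearIndependent F (fun i : Fin s₁ => F₂ (Fin.castLE hsK i)) := hli₂.comp _ hinj
  -- the values of `Q` on the families
  have hQF : ∀ i : Fin s₁, Q (F₁ (Fin.castLE hsK i)) = Q (F₂ (Fin.castLE hsK i)) := by
    intro i
    have hi : ((Fin.castLE hsK i : Fin K₁) : ℕ) < s₁ := i.2
    by_cases halt : ∀ v, B v (N₁ v) = 0
    · obtain ⟨hev, htab₁⟩ := ht2₁ halt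
      obtain ⟨-, htab₂⟩ := ht2₂ (htype.mp halt)
      obtain ⟨j, hj, hij, hne⟩ := exists_partner hev hsK (Fin.castLE hsK i) hi
      have e1 := htab₁ j (Fin.castLE hsK i) hj hij.symm (Ne.symm hne)
      have e2 := htab₂ j (Fin.castLE hsK i) hj hij.symm (Ne.symm hne)
      rw [← e1, ← e2, hQN₁, hQN₂]
      exact (halt _).trans ((htype.mp halt) _).symm
    · have halt₂ : ¬ ∀ v, B v (N₂ v) = 0 := fun h => halt (htype.mpr h)
      rw [not_forall] at halt halt₂
      have e1 := ht1₁ (Or.inl halt) _ hi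
      have e2 := ht1₂ (Or.inl halt₂) _ hi
      rw [← e1, ← e2, hQN₁, hQN₂, e1, e2]
      show B _ _ = B _ _
      rw [hS₁.2.2, hS₂.2.2]
  obtain ⟨g, hg1, hg2⟩ := witt_family Q hQ s₁ _ _ hx hy hQF (fun i j => by
    show B _ _ = B _ _
    rw [hS₁.2.1, hS₂.2.1])
  refine ⟨g, hg1, fun v => ?_⟩
  have hgF : ∀ i : Fin K₁, (i : ℕ) < s₁ → g (F₁ i) = F₂ i := by
    intro i hi
    exact hg2 ⟨i, hi⟩
  have hgNE : ∀ i : Fin K₁, g (N₁ (E₁ i)) = N₂ (E₂ i) := by
    intro i
    rcases Nat.lt_or_ge (i : ℕ) s₁ with hi | hi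
    · by_cases halt : ∀ v, B v (N₁ v) = 0
      · obtain ⟨hev, htab₁⟩ := ht2₁ halt
        obtain ⟨-, htab₂⟩ := ht2₂ (htype.mp halt)
        obtain ⟨j, hj, hij, hne⟩ := exists_partner hev hsK i hi
        rw [htab₁ i j hi hij hne, htab₂ i j hi hij hne]
        exact hgF j hj
      · have halt₂ : ¬ ∀ v, B v (N₂ v) = 0 := fun h => halt (htype.mpr h)
        rw [not_forall] at halt halt₂
        rw [ht1₁ (Or.inl halt) i hi, ht1₂ (Or.inl halt₂) i hi]
        exact hgF i hi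
    · rw [hNE₁ i hi, hNE₂ i hi, map_zero]
  rw [hN₁ v, hN₂ (g v), map_sum]
  apply Finset.sum_congr rfl
  intro i _
  rw [map_smul, hgNE i]
  rcases Nat.lt_or_ge (i : ℕ) s₁ with hi | hi
  · congr 1
    rw [← hgF i hi]
    exact (polar_isometry Q g hg1 v (F₁ i)).symm
  · rw [hNE₂ i hi, smul_zero, smul_zero]

end Cfsg.Agent.Helper8.O2
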