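import Mathlib
import Cfsg.Agent.Helper8.O2Conj
import Cfsg.Agent.Helper8.ReflMatrix
set_option autoImplicit false

/-! Involutions of the matrix isometry group of a quadratic form in characteristic two. -/

namespace Cfsg.Agent.Helper8.O2

open Module Matrix Cfsg.Agent.Helper8.SpS Cfsg.Agent.Helper8.Sp2 Cfsg.Agent.Helper8.WittQuad
  Cfsg.Agent.Helper8.OrthOrder Cfsg.Agent.Helper8.ReflMatrix

variable {F : Type*} [Field F] {ι : Type} [Fintype ι] [DecidableEq ι]
variable (Q : QuadraticForm F (ι → F))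

/-- the operator `t - 1` -/
noncomputable def opN (t : ↥(Cfsg.isometryGroup F ⇑Q)) : Module.End F (ι → F) :=
  Matrix.toLin' (((t : GL ι F) : Matrix ι ι F) - 1)

theorem opN_apply (t : ↥(Cfsg.isometryGroup F ⇑Q)) (v : ι → F) :
    opN Q t v = ((t : GL ι F) : Matrix ι ι F) *ᵥ v - v := by
  rw [opN, Matrix.toLin'_apply, Matrix.sub_mulVec, Matrix.one_mulVec]

theorem Q_mulVec (t : ↥(Cfsg.isometryGroup F ⇑Q)) (v : ι → F) :
    Q (((t : GL ι F) : Matrix ι ι F) *ᵥ v) = Q v := t.2 v v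

theorem polar_mulVec (t : ↥(Cfsg.isometryGroup F ⇑Q)) (u v : ι → F) :
    QuadraticMap.polar Q (((t : GL ι F) : Matrix ι ι F) *ᵥ u)
      (((t : GL ι F) : Matrix ι ι F) *ᵥ v) = QuadraticMap.polar Q u v := by
  unfold QuadraticMap.polar
  rw [← Matrix.mulVec_add, Q_mulVec, Q_mulVec, Q_mulVec]

theorem coe_sq (t : ↥(Cfsg.isometryGroup F ⇑Q)) (ht : t ^ 2 = 1) :
    ((t : GL ι F) : Matrix ι ι F) * ((t : GL ι F) : Matrix ι ι F) = 1 := by
  have h : ((t ^ 2 : ↥(Cfsg.isometryGroup F ⇑Q)) : GL ι F) = (t : GL ι F) * (t : GL ι F) := by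
    rw [pow_two]; rfl
  have h2 := congrArg (fun g : GL ι F => (g : Matrix ι ι F)) h
  simp only [ht] at h2
  exact h2.symm

theorem opN_sa (t : ↥(Cfsg.isometryGroup F ⇑Q)) (ht : t ^ 2 = 1) (u v : ι → F) :
    QuadraticMap.polar Q (opN Q t u) v = QuadraticMap.polar Q u (opN Q t v) := by
  rw [opN_apply, opN_apply, QuadraticMap.polar_sub_left, QuadraticMap.polar_sub_right]
  congr 1
  have h1 := polar_mulVec Q t u (((t : GL ι F) : Matrix ι ι F) *ᵥ v)
  rw [Matrix.mulVec_mulVec, coe_sq Q t ht, Matrix.one_mulVec] at h1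
  exact h1

theorem rank_eq_finrank (t : ↥(Cfsg.isometryGroup F ⇑Q)) :
    (((t : GL ι F) : Matrix ι ι F) - 1).rank = finrank F (LinearMap.range (opN Q t)) := by
  rw [opN, Matrix.toLin'_apply']
  rfl

variable [CharP F 2]

theorem opN_sq (t : ↥(Cfsg.isometryGroup F ⇑Q)) (ht : t ^ 2 = 1) (v : ι → F) :
    opN Q t (opN Q t v) = 0 := by
  rw [opN_apply, opN_apply, Matrix.mulVec_sub, Matrix.mulVec_mulVec, coe_sq Q t ht,
    Matrix.one_mulVec]
  have : ∀ x : ι → F, x + x = 0 := fun x => by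
    ext i
    exact CharTwo.add_self_eq_zero (x i)
  have h2 := this (((t : GL ι F) : Matrix ι ι F) *ᵥ v)
  have h3 := this v
  have h4 : v - ((t : GL ι F) : Matrix ι ι F) *ᵥ v - (((t : GL ι F) : Matrix ι ι F) *ᵥ v - v) =
      (v + v) - (((t : GL ι F) : Matrix ι ι F) *ᵥ v + ((t : GL ι F) : Matrix ι ι F) *ᵥ v) := by
    abel
  rw [h4, h2, h3, sub_zero]

theorem polar_opN (t : ↥(Cfsg.isometryGroup F ⇑Q)) (v : ι → F) :
    QuadraticMap.polar Q v (opN Q t v) =
      QuadraticMap.polar Q v (((t : GL ι F) : Matrix ι ι F) *ᵥ v) := by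
  rw [opN_apply, QuadraticMap.polar_sub_right, Cfsg.Agent.Helper8.QuadForm.polar_self',
    CharTwo.two_eq_zero, zero_mul, sub_zero]

theorem Q_opN (t : ↥(Cfsg.isometryGroup F ⇑Q)) (v : ι → F) :
    Q (opN Q t v) = QuadraticMap.polar Q v (opN Q t v) := by
  have h1 : ((t : GL ι F) : Matrix ι ι F) *ᵥ v = v + opN Q t v := by
    rw [opN_apply]; abel
  have h2 := Q_mulVec Q t v
  rw [h1] at h2
  have h3 : Q (v + opN Q t v) = Q v + Q (opN Q t v) + QuadraticMap.polar Q v (opN Q t v) := by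
    unfold QuadraticMap.polar
    ring
  rw [h3] at h2
  have h4 := CharTwo.add_self_eq_zero (QuadraticMap.polar Q v (opN Q t v))
  linear_combination h2 - h4

variable [Fintype F]

/-- involutions with the same rank and type are conjugate in the isometry group -/
theorem conj_of_rank_type (hQ : (QuadraticMap.polarBilin Q).Nondegenerate)
    (t s : ↥(Cfsg.isometryGroup F ⇑Q)) (ht : t ^ 2 = 1) (hs : s ^ 2 = 1)
    (hrank : (((t : GL ι F) : Matrix ι ι F) - 1).rank = (((s : GL ι F) : Matrix ι ι F) - 1).rank)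
    (htype : (∀ v, QuadraticMap.polar Q v (((t : GL ι F) : Matrix ι ι F) *ᵥ v) = 0) ↔
      (∀ v, QuadraticMap.polar Q v (((s : GL ι F) : Matrix ι ι F) *ᵥ v) = 0)) :
    IsConj t s := by
  obtain ⟨g, hg1, hg2⟩ := orth_conj Q hQ (opN Q t) (opN Q s) (opN_sq Q t ht) (opN_sq Q s hs)
    (opN_sa Q t ht) (opN_sa Q s hs) (Q_opN Q t) (Q_opN Q s)
    (by rw [← rank_eq_finrank, ← rank_eq_finrank]; exact hrank)
    (by
      constructor
      · intro h v
        rw [polar_opN]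
        exact htype.mp (fun w => by rw [← polar_opN]; exact h w) v
      · intro h v
        rw [polar_opN]
        exact htype.mpr (fun w => by rw [← polar_opN]; exact h w) v)
  set γ : ↥(Cfsg.isometryGroup F ⇑Q) := (isomEquiv Q).symm ⟨g, (mem_Isom Q g).mpr hg1⟩ with hγ
  have hγv : ∀ v, ((γ : GL ι F) : Matrix ι ι F) *ᵥ v = g v := by
    intro v
    rw [← isomEquiv_apply, hγ, MulEquiv.apply_symm_apply]
  rw [isConj_iff]
  refine ⟨γ, ?_⟩
  rw [mul_inv_eq_iff_eq_mul]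
  apply Subtype.ext
  apply Units.ext
  apply matrix_ext
  intro v
  show (((γ : GL ι F) : Matrix ι ι F) * ((t : GL ι F) : Matrix ι ι F)) *ᵥ v =
    (((s : GL ι F) : Matrix ι ι F) * ((γ : GL ι F) : Matrix ι ι F)) *ᵥ v
  rw [← Matrix.mulVec_mulVec, ← Matrix.mulVec_mulVec, hγv, hγv]
  have h1 : ((t : GL ι F) : Matrix ι ι F) *ᵥ v = v + opN Q t v := by
    rw [opN_apply]; abel
  have h2 : ((s : GL ι F) : Matrix ι ι F) *ᵥ (g v) = g v + opN Q s (g v) := by
    rw [opN_apply]; abel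
  rw [h1, h2, map_add, hg2]

end Cfsg.Agent.Helper8.O2
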