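import Mathlib
import Cfsg.Agent.Helper8.O2Mat
set_option autoImplicit false

/-! Conjugacy of involutions of an orthogonal group in characteristic two is detected in the
symplectic group of the polar form. -/

namespace Cfsg.Agent.Helper8.O2

open Module Matrix Cfsg.Agent.Helper8.ReflMatrix

variable {F : Type*} [Field F] {ι : Type} [Fintype ι] [DecidableEq ι]
variable (Q : QuadraticForm F (ι → F))

theorem sq_of_orderOf {G : Type*} [Group G] {t : G} (ht : orderOf t = 2) : t ^ 2 = 1 := by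
  rw [← ht]; exact pow_orderOf_eq_one t

/-- invariants of conjugacy under a matrix preserving the polar form -/
theorem rank_type_of_polar_conj (t s : ↥(Cfsg.isometryGroup F ⇑Q)) (g : GL ι F)
    (hg : g ∈ Cfsg.preserving (Units.coeHom (Matrix ι ι F)) (fun u v => Q (u + v) - Q u - Q v))
    (hgts : g * (t : GL ι F) * g⁻¹ = (s : GL ι F)) :
    (((t : GL ι F) : Matrix ι ι F) - 1).rank = (((s : GL ι F) : Matrix ι ι F) - 1).rank ∧
    ((∀ v, QuadraticMap.polar Q v (((t : GL ι F) : Matrix ι ι F) *ᵥ v) = 0) →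
      (∀ v, QuadraticMap.polar Q v (((s : GL ι F) : Matrix ι ι F) *ᵥ v) = 0)) := by
  have hgg : (g : Matrix ι ι F) * ((g⁻¹ : GL ι F) : Matrix ι ι F) = 1 := by
    rw [← Units.val_mul, mul_inv_cancel]; rfl
  have hgg' : ((g⁻¹ : GL ι F) : Matrix ι ι F) * (g : Matrix ι ι F) = 1 := by
    rw [← Units.val_mul, inv_mul_cancel]; rfl
  have hmat : (g : Matrix ι ι F) * ((t : GL ι F) : Matrix ι ι F) * ((g⁻¹ : GL ι F) : Matrix ι ι F) =
      ((s : GL ι F) : Matrix ι ι F) := by
    rw [← hgts]; rfl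
  have hgt : (g : Matrix ι ι F) * ((t : GL ι F) : Matrix ι ι F) =
      ((s : GL ι F) : Matrix ι ι F) * (g : Matrix ι ι F) := by
    rw [← hmat, Matrix.mul_assoc, hgg', Matrix.mul_one]
  constructor
  · have hb : ((s : GL ι F) : Matrix ι ι F) - 1 =
        (g : Matrix ι ι F) * (((t : GL ι F) : Matrix ι ι F) - 1) * ((g⁻¹ : GL ι F) : Matrix ι ι F) := by
      rw [Matrix.mul_sub, Matrix.sub_mul, Matrix.mul_one, hgg, hmat]
    have hdet : IsUnit (g : Matrix ι ι F).det := by
      have := (Matrix.isUnit_iff_isUnit_det _).mp g.isUnit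
      exact this
    have hdet' : IsUnit ((g⁻¹ : GL ι F) : Matrix ι ι F).det := by
      have := (Matrix.isUnit_iff_isUnit_det _).mp (g⁻¹).isUnit
      exact this
    rw [hb, Matrix.rank_mul_eq_left_of_isUnit_det _ _ hdet',
      Matrix.rank_mul_eq_right_of_isUnit_det _ _ hdet]
  · intro h w
    have hp : ∀ u v, QuadraticMap.polar Q ((g : Matrix ι ι F) *ᵥ u) ((g : Matrix ι ι F) *ᵥ v) =
        QuadraticMap.polar Q u v := fun u v => hg u v
    obtain ⟨x, rfl⟩ : ∃ x, w = (g : Matrix ι ι F) *ᵥ x :=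
      ⟨((g⁻¹ : GL ι F) : Matrix ι ι F) *ᵥ w, by
        rw [Matrix.mulVec_mulVec, hgg, Matrix.one_mulVec]⟩
    rw [Matrix.mulVec_mulVec, ← hgt, ← Matrix.mulVec_mulVec, hp]
    exact h x

variable [Fintype F] [CharP F 2]

/-- conjugacy of involutions in the orthogonal group is the same as in the symplectic group -/
theorem conj_iff_polar_conj (hQ : (QuadraticMap.polarBilin Q).Nondegenerate)
    (t s : ↥(Cfsg.isometryGroup F ⇑Q)) (ht : orderOf t = 2) (hs : orderOf s = 2) :
    IsConj t s ↔ ∃ g ∈ Cfsg.preserving (Units.coeHom (Matrix ι ι F))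
        (fun u v => Q (u + v) - Q u - Q v), g * (t : GL ι F) * g⁻¹ = (s : GL ι F) := by
  constructor
  · intro h
    obtain ⟨c, hc⟩ := isConj_iff.mp h
    refine ⟨(c : GL ι F), fun u v => polar_mulVec Q c u v, ?_⟩
    have := congrArg Subtype.val hc
    exact this
  · rintro ⟨g, hg, hgts⟩
    have hgts' : g⁻¹ * (s : GL ι F) * g⁻¹⁻¹ = (t : GL ι F) := by rw [← hgts]; group
    obtain ⟨h1, h2⟩ := rank_type_of_polar_conj Q t s g hg hgts
    obtain ⟨-, h3⟩ := rank_type_of_polar_conj Q s t g⁻¹ (Subgroup.inv_mem _ hg) hgts'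
    exact conj_of_rank_type Q hQ t s (sq_of_orderOf ht) (sq_of_orderOf hs) h1 ⟨h2, h3⟩

end Cfsg.Agent.Helper8.O2
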