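import Mathlib
import Cfsg.Agent.Helper8.O2Sp
import Cfsg.Agent.Helper8.UJRank
set_option autoImplicit false

/-! Counting the classes of involutions of an orthogonal group in characteristic two by the
invariants rank and type. -/

namespace Cfsg.Agent.Helper8.O2

open Module Matrix Cfsg.Agent.Helper8.SpS Cfsg.Agent.Helper8.Sp2 Cfsg.Agent.Helper8.ReflMatrix

variable {F : Type*} [Field F] {ι : Type} [Fintype ι] [DecidableEq ι]
variable (Q : QuadraticForm F (ι → F))

/-- the type of an isometry: alternating if `polar v (t v) = 0` for all `v` -/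
def IsAltType (t : ↥(Cfsg.isometryGroup F ⇑Q)) : Prop :=
  ∀ v, QuadraticMap.polar Q v (((t : GL ι F) : Matrix ι ι F) *ᵥ v) = 0

/-- the rank of `t - 1` -/
noncomputable def rk (t : ↥(Cfsg.isometryGroup F ⇑Q)) : ℕ :=
  (((t : GL ι F) : Matrix ι ι F) - 1).rank

theorem rk_type_of_isConj (t s : ↥(Cfsg.isometryGroup F ⇑Q)) (h : IsConj t s) :
    rk Q t = rk Q s ∧ (IsAltType Q t ↔ IsAltType Q s) := by
  obtain ⟨c, hc⟩ := isConj_iff.mp h
  have hc1 : (c : GL ι F) * (t : GL ι F) * (c : GL ι F)⁻¹ = (s : GL ι F) :=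
    congrArg Subtype.val hc
  have hc2 : (c : GL ι F)⁻¹ * (s : GL ι F) * (c : GL ι F)⁻¹⁻¹ = (t : GL ι F) := by
    rw [← hc1]; group
  have hmem : (c : GL ι F) ∈ Cfsg.preserving (Units.coeHom (Matrix ι ι F))
      (fun u v => Q (u + v) - Q u - Q v) := fun u v => polar_mulVec Q c u v
  obtain ⟨h1, h2⟩ := rank_type_of_polar_conj Q t s c hmem hc1
  obtain ⟨-, h3⟩ := rank_type_of_polar_conj Q s t (c : GL ι F)⁻¹ (Subgroup.inv_mem _ hmem) hc2
  exact ⟨h1, h2, h3⟩

theorem rk_pos (t : ↥(Cfsg.isometryGroup F ⇑Q)) (ht : t ≠ 1) : 1 ≤ rk Q t := by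
  by_contra h
  have h0 : (((t : GL ι F) : Matrix ι ι F) - 1).rank = 0 := by
    unfold rk at h
    omega
  have h1 := UJ.eq_zero_of_rank_eq_zero _ h0
  apply ht
  apply Subtype.ext
  apply Units.ext
  exact sub_eq_zero.mp h1

theorem rk_one : rk Q (1 : ↥(Cfsg.isometryGroup F ⇑Q)) = 0 := by
  unfold rk
  have : (((1 : ↥(Cfsg.isometryGroup F ⇑Q)) : GL ι F) : Matrix ι ι F) = 1 := rfl
  rw [this, sub_self, Matrix.rank_zero]

variable [CharP F 2]

omit [DecidableEq ι] [CharP F 2] in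
theorem finrank_pi : finrank F (ι → F) = Fintype.card ι := Module.finrank_fintype_fun_eq_card F

theorem two_mul_rk_le (t : ↥(Cfsg.isometryGroup F ⇑Q)) (ht : t ^ 2 = 1) :
    2 * rk Q t ≤ Fintype.card ι := by
  unfold rk
  rw [rank_eq_finrank]
  have h1 := LinearMap.finrank_range_add_finrank_ker (opN Q t)
  have h2 : finrank F (LinearMap.range (opN Q t)) ≤ finrank F (LinearMap.ker (opN Q t)) := by
    apply Submodule.finrank_mono
    rintro _ ⟨x, rfl⟩
    rw [LinearMap.mem_ker]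
    exact opN_sq Q t ht x
  rw [finrank_pi] at h1
  omega

variable [Fintype F]

theorem even_rk_of_alt (hQ : (QuadraticMap.polarBilin Q).Nondegenerate)
    (t : ↥(Cfsg.isometryGroup F ⇑Q)) (ht : t ^ 2 = 1) (halt : IsAltType Q t) :
    Even (rk Q t) := by
  obtain ⟨K, s, E, Fv, h⟩ := exists_NF hperf' _ (ι → F) (QuadraticMap.polarBilin Q) (opN Q t)
    (alt_polar Q) (nondeg_polar Q hQ) (opN_sq Q t ht) (opN_sa Q t ht) rfl
  unfold rk
  rw [rank_eq_finrank, h.finrank_range (alt_polar Q)]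
  exact (h.2.2.2.2.2.2 (fun v => by
    show QuadraticMap.polar Q v (opN Q t v) = 0
    rw [polar_opN]; exact halt v)).1

/-- counting classes of involutions by rank and type -/
theorem card_classes_eq (hQ : (QuadraticMap.polarBilin Q).Nondegenerate)
    {X : Type} [Fintype X] (rep : X → ↥(Cfsg.isometryGroup F ⇑Q))
    (hord : ∀ x, orderOf (rep x) = 2)
    (hinj : ∀ x y, rk Q (rep x) = rk Q (rep y) →
      (IsAltType Q (rep x) ↔ IsAltType Q (rep y)) → x = y)
    (hsurj : ∀ g : ↥(Cfsg.isometryGroup F ⇑Q), orderOf g = 2 →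
      ∃ x, rk Q (rep x) = rk Q g ∧ (IsAltType Q (rep x) ↔ IsAltType Q g)) :
    Nat.card {C : ConjClasses ↥(Cfsg.isometryGroup F ⇑Q) //
      ∃ g : ↥(Cfsg.isometryGroup F ⇑Q), ConjClasses.mk g = C ∧ orderOf g = 2} =
      Fintype.card X := by
  rw [← Nat.card_eq_fintype_card]
  symm
  apply Nat.card_eq_of_bijective
    (fun x : X => (⟨ConjClasses.mk (rep x), rep x, rfl, hord x⟩ :
      {C : ConjClasses ↥(Cfsg.isometryGroup F ⇑Q) //
        ∃ g : ↥(Cfsg.isometryGroup F ⇑Q), ConjClasses.mk g = C ∧ orderOf g = 2}))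
  constructor
  · intro x y hxy
    have h1 : ConjClasses.mk (rep x) = ConjClasses.mk (rep y) := congrArg Subtype.val hxy
    rw [ConjClasses.mk_eq_mk_iff_isConj] at h1
    obtain ⟨h2, h3⟩ := rk_type_of_isConj Q _ _ h1
    exact hinj x y h2 h3
  · rintro ⟨C, g, rfl, hg⟩
    obtain ⟨x, hx1, hx2⟩ := hsurj g hg
    refine ⟨x, ?_⟩
    apply Subtype.ext
    simp only
    rw [ConjClasses.mk_eq_mk_iff_isConj]
    exact conj_of_rank_type Q hQ _ _ (sq_of_orderOf (hord x)) (sq_of_orderOf hg) hx1 hx2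

end Cfsg.Agent.Helper8.O2
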