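import Mathlib
import Cfsg.Agent.Helper8.O2Count
import Cfsg.Agent.Helper8.Sp2Reps
import Cfsg.Agent.Helper8.StdForms
set_option autoImplicit false

/-! The classes of involutions of `O⁺_2m(F)` in characteristic two. -/

namespace Cfsg.Agent.Helper8.O2

open Module Matrix Cfsg.Agent.Helper8.SpS Cfsg.Agent.Helper8.Sp2 Cfsg.Agent.Helper8.StdForms

variable {F : Type*} [Field F] {m : ℕ}

/-- an isometry from a matrix of square one preserving the form -/
def mkIso {ι : Type} [Fintype ι] [DecidableEq ι] (Q : QuadraticForm F (ι → F)) (M : Matrix ι ι F)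
    (hM : M * M = 1) (hQM : ∀ v, Q (M *ᵥ v) = Q v) : ↥(Cfsg.isometryGroup F ⇑Q) :=
  ⟨⟨M, M, hM, hM⟩, fun u _ => hQM u⟩

theorem mkIso_val {ι : Type} [Fintype ι] [DecidableEq ι] (Q : QuadraticForm F (ι → F))
    (M : Matrix ι ι F) (hM : M * M = 1) (hQM : ∀ v, Q (M *ᵥ v) = Q v) :
    (((mkIso Q M hM hQM : ↥(Cfsg.isometryGroup F ⇑Q)) : GL ι F) : Matrix ι ι F) = M := rfl

theorem mkIso_sq {ι : Type} [Fintype ι] [DecidableEq ι] (Q : QuadraticForm F (ι → F))
    (M : Matrix ι ι F) (hM : M * M = 1) (hQM : ∀ v, Q (M *ᵥ v) = Q v) :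
    mkIso Q M hM hQM ^ 2 = 1 := by
  rw [pow_two]
  apply Subtype.ext
  apply Units.ext
  exact hM

theorem orderOf_mkIso {ι : Type} [Fintype ι] [DecidableEq ι] (Q : QuadraticForm F (ι → F))
    (M : Matrix ι ι F) (hM : M * M = 1) (hQM : ∀ v, Q (M *ᵥ v) = Q v)
    (hr : (M - 1).rank ≠ 0) : orderOf (mkIso Q M hM hQM) = 2 := by
  apply orderOf_eq_prime (mkIso_sq Q M hM hQM)
  intro h
  apply hr
  have h1 := rk_one Q
  rw [← h] at h1
  exact h1

/-- the indicator of the first `s` indices -/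
def delta (F : Type*) [Field F] (m s : ℕ) : Fin m → F := fun i => if (i : ℕ) < s then 1 else 0

/-- the interchange of the first `s` hyperbolic pairs -/
def swapMat (F : Type*) [Field F] (m s : ℕ) : Matrix (Fin m ⊕ Fin m) (Fin m ⊕ Fin m) F :=
  fromBlocks (diagonal (fun i => 1 - delta F m s i)) (diagonal (delta F m s))
    (diagonal (delta F m s)) (diagonal (fun i => 1 - delta F m s i))

theorem swapMat_mulVec_inl (s : ℕ) (v : Fin m ⊕ Fin m → F) (i : Fin m) :
    (swapMat F m s *ᵥ v) (Sum.inl i) =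
      (1 - delta F m s i) * v (Sum.inl i) + delta F m s i * v (Sum.inr i) := by
  rw [swapMat, Matrix.fromBlocks_mulVec]
  simp only [Sum.elim_inl, Pi.add_apply, Matrix.mulVec_diagonal, Function.comp_apply]

theorem swapMat_mulVec_inr (s : ℕ) (v : Fin m ⊕ Fin m → F) (i : Fin m) :
    (swapMat F m s *ᵥ v) (Sum.inr i) =
      delta F m s i * v (Sum.inl i) + (1 - delta F m s i) * v (Sum.inr i) := by
  rw [swapMat, Matrix.fromBlocks_mulVec]
  simp only [Sum.elim_inr, Pi.add_apply, Matrix.mulVec_diagonal, Function.comp_apply]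

theorem delta_cases (s : ℕ) (i : Fin m) : delta F m s i = 0 ∨ delta F m s i = 1 := by
  unfold delta
  split_ifs
  · exact Or.inr rfl
  · exact Or.inl rfl

theorem swapMat_sq (s : ℕ) : swapMat F m s * swapMat F m s = 1 := by
  apply Cfsg.Agent.Helper8.ReflMatrix.matrix_ext
  intro v
  rw [← Matrix.mulVec_mulVec, Matrix.one_mulVec]
  funext x
  rcases x with i | i
  · rw [swapMat_mulVec_inl, swapMat_mulVec_inl, swapMat_mulVec_inr]
    rcases delta_cases (F := F) s i with h | h <;> rw [h] <;> ring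
  · rw [swapMat_mulVec_inr, swapMat_mulVec_inl, swapMat_mulVec_inr]
    rcases delta_cases (F := F) s i with h | h <;> rw [h] <;> ring

theorem plusForm_swapMat (s : ℕ) (v : Fin m ⊕ Fin m → F) :
    plusForm F m (swapMat F m s *ᵥ v) = plusForm F m v := by
  rw [plusForm_apply, plusForm_apply]
  unfold Cfsg.quadFormPlus
  apply Finset.sum_congr rfl
  intro i _
  rw [swapMat_mulVec_inl, swapMat_mulVec_inr]
  rcases delta_cases (F := F) s i with h | h <;> rw [h] <;> ring

theorem plusForm_tMat [CharP F 2] (D : Matrix (Fin m) (Fin m) F) (hD : Dᵀ = D)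
    (hd : ∀ i, D i i = 0) (v : Fin m ⊕ Fin m → F) :
    plusForm F m (tMat D *ᵥ v) = plusForm F m v := by
  rw [plusForm_apply, plusForm_apply]
  unfold Cfsg.quadFormPlus
  have h1 : ∀ i, (tMat D *ᵥ v) (Sum.inl i) = v (Sum.inl i) + (D *ᵥ (v ∘ Sum.inr)) i := by
    intro i
    rw [tMat, Matrix.fromBlocks_mulVec]
    simp
  have h2 : ∀ i, (tMat D *ᵥ v) (Sum.inr i) = v (Sum.inr i) := by
    intro i
    rw [tMat, Matrix.fromBlocks_mulVec]
    simp
  simp only [h1, h2, add_mul, Finset.sum_add_distrib]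
  have h3 := dot_mulVec_self D hD hd (v ∘ Sum.inr)
  rw [dotProduct_comm] at h3
  simp only [dotProduct, Function.comp_apply] at h3
  rw [h3, add_zero]

variable [CharP F 2]

theorem swapMat_sub_one (s : ℕ) :
    swapMat F m s - 1 = fromBlocks (dMat F m s) (dMat F m s) (dMat F m s) (dMat F m s) := by
  have h1 : (diagonal (fun i => 1 - delta F m s i) - 1 : Matrix (Fin m) (Fin m) F) =
      dMat F m s := by
    rw [dMat, ← Matrix.diagonal_one, Matrix.diagonal_sub]
    congr 1
    funext i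
    show 1 - delta F m s i - 1 = _
    unfold delta
    rw [sub_sub_cancel_left, CharTwo.neg_eq]
  have h2 : (diagonal (delta F m s) : Matrix (Fin m) (Fin m) F) = dMat F m s := rfl
  have h3 : swapMat F m s - 1 = fromBlocks (diagonal (fun i => 1 - delta F m s i) - 1)
      (diagonal (delta F m s)) (diagonal (delta F m s))
      (diagonal (fun i => 1 - delta F m s i) - 1) := by
    rw [swapMat]
    ext (i | i) (j | j) <;> simp [Matrix.one_apply, Matrix.sub_apply]
  rw [h3, h1, h2]

theorem rank_swapMat_sub_one {s : ℕ} (hs : s ≤ m) : (swapMat F m s - 1).rank = s := by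
  rw [swapMat_sub_one]
  set d := dMat F m s with hd
  have hdd : d + d = 0 := by
    ext i j
    exact CharTwo.add_self_eq_zero (d i j)
  have h11 : (1 : Matrix (Fin m) (Fin m) F) + 1 = 0 := by
    ext i j
    exact CharTwo.add_self_eq_zero _
  set P₁ : Matrix (Fin m ⊕ Fin m) (Fin m ⊕ Fin m) F := fromBlocks 1 0 1 1 with hP₁
  set P₂ : Matrix (Fin m ⊕ Fin m) (Fin m ⊕ Fin m) F := fromBlocks 1 1 0 1 with hP₂
  have hP₁sq : P₁ * P₁ = 1 := by
    rw [hP₁, Matrix.fromBlocks_multiply]
    simp [h11, Matrix.fromBlocks_one]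
  have hP₂sq : P₂ * P₂ = 1 := by
    rw [hP₂, Matrix.fromBlocks_multiply]
    simp [h11, Matrix.fromBlocks_one]
  have hdet₁ : IsUnit P₁.det := by
    have := congrArg Matrix.det hP₁sq
    rw [Matrix.det_mul, Matrix.det_one] at this
    exact IsUnit.of_mul_eq_one _ this
  have hdet₂ : IsUnit P₂.det := by
    have := congrArg Matrix.det hP₂sq
    rw [Matrix.det_mul, Matrix.det_one] at this
    exact IsUnit.of_mul_eq_one _ this
  have h1 : P₁ * fromBlocks d d d d * P₂ = fromBlocks d 0 0 0 := by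
    rw [hP₁, hP₂, Matrix.fromBlocks_multiply, Matrix.fromBlocks_multiply]
    simp [hdd]
  rw [← Matrix.rank_mul_eq_right_of_isUnit_det P₁ _ hdet₁,
    ← Matrix.rank_mul_eq_left_of_isUnit_det P₂ _ hdet₂, h1, UJ.rank_fromBlocks_diag,
    Matrix.rank_zero, add_zero, hd, rank_dMat hs]

omit [CharP F 2] in
theorem not_alt_swapMat {s : ℕ} (hs : 1 ≤ s) (hm : 0 < m) :
    ¬ ∀ v, QuadraticMap.polar (plusForm F m) v (swapMat F m s *ᵥ v) = 0 := by
  classical
  intro h
  have h1 := h (Pi.single (Sum.inl ⟨0, hm⟩) 1)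
  rw [polar_plusForm] at h1
  simp only [swapMat_mulVec_inl, swapMat_mulVec_inr, Pi.single_apply, Sum.inl.injEq,
    reduceCtorEq, if_false, mul_zero, add_zero, Finset.sum_const_zero] at h1
  rw [Finset.sum_eq_single (⟨0, hm⟩ : Fin m)] at h1
  · have : delta F m s ⟨0, hm⟩ = 1 := by
      unfold delta
      rw [if_pos (by simp only; omega)]
    rw [this] at h1
    simp at h1
  · intro b _ hb
    rw [if_neg hb, zero_mul]
  · intro h2
    exact absurd (Finset.mem_univ _) h2

theorem alt_tMat (D : Matrix (Fin m) (Fin m) F) (hD : Dᵀ = D) (hd : ∀ i, D i i = 0)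
    (v : Fin m ⊕ Fin m → F) : QuadraticMap.polar (plusForm F m) v (tMat D *ᵥ v) = 0 := by
  have h1 : ∀ i, (tMat D *ᵥ v) (Sum.inl i) = v (Sum.inl i) + (D *ᵥ (v ∘ Sum.inr)) i := by
    intro i
    rw [tMat, Matrix.fromBlocks_mulVec]
    simp
  have h2 : ∀ i, (tMat D *ᵥ v) (Sum.inr i) = v (Sum.inr i) := by
    intro i
    rw [tMat, Matrix.fromBlocks_mulVec]
    simp
  rw [polar_plusForm]
  simp only [h1, h2, add_mul, Finset.sum_add_distrib]
  have h3 := dot_mulVec_self D hD hd (v ∘ Sum.inr)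
  rw [dotProduct_comm] at h3
  simp only [dotProduct, Function.comp_apply] at h3
  rw [h3, add_zero]
  exact CharTwo.add_self_eq_zero _

/-- the representatives -/
noncomputable def repPlus (F : Type*) [Field F] [CharP F 2] (m : ℕ) :
    Fin m ⊕ Fin (m / 2) → ↥(Cfsg.isometryGroup F ⇑(plusForm F m))
  | Sum.inl i => mkIso _ (swapMat F m (i + 1)) (swapMat_sq _) (plusForm_swapMat _)
  | Sum.inr j => mkIso _ (tMat (aMat F m (2 * (j + 1)))) (tMat_sq _)
      (plusForm_tMat _ (aMat_transpose (even_two_mul _)) (aMat_diag _))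

theorem rk_repPlus_inl (i : Fin m) : rk _ (repPlus F m (Sum.inl i)) = i + 1 := by
  show (swapMat F m (i + 1) - 1).rank = _
  exact rank_swapMat_sub_one (by have := i.2; omega)

theorem rk_repPlus_inr (j : Fin (m / 2)) : rk _ (repPlus F m (Sum.inr j)) = 2 * (j + 1) := by
  show (tMat (aMat F m (2 * (j + 1))) - 1).rank = _
  rw [rank_tMat_sub_one, rank_aMat (even_two_mul _) (by have := j.2; omega)]

theorem alt_repPlus_inr (j : Fin (m / 2)) : IsAltType _ (repPlus F m (Sum.inr j)) :=
  fun v => alt_tMat _ (aMat_transpose (even_two_mul _)) (aMat_diag _) v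

theorem not_alt_repPlus_inl (i : Fin m) : ¬ IsAltType _ (repPlus F m (Sum.inl i)) :=
  not_alt_swapMat (by omega) (by have := i.2; omega)

theorem orderOf_repPlus (x : Fin m ⊕ Fin (m / 2)) : orderOf (repPlus F m x) = 2 := by
  rcases x with i | j
  · apply orderOf_mkIso
    have := rk_repPlus_inl (F := F) i
    change (swapMat F m (i + 1) - 1).rank = _ at this
    omega
  · apply orderOf_mkIso
    have := rk_repPlus_inr (F := F) j
    change (tMat (aMat F m (2 * (j + 1))) - 1).rank = _ at this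
    omega

variable [Fintype F]

theorem card_classes_plus :
    Nat.card {C : ConjClasses ↥(Cfsg.isometryGroup F ⇑(plusForm F m)) //
      ∃ g : ↥(Cfsg.isometryGroup F ⇑(plusForm F m)), ConjClasses.mk g = C ∧ orderOf g = 2} =
      m + m / 2 := by
  have hQ := plusForm_nondeg F m
  rw [card_classes_eq (plusForm F m) hQ (repPlus F m) orderOf_repPlus]
  · rw [Fintype.card_sum, Fintype.card_fin, Fintype.card_fin]
  · intro x y h1 h2
    rcases x with i | j <;> rcases y with i' | j'
    · rw [rk_repPlus_inl, rk_repPlus_inl] at h1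
      congr 1
      apply Fin.ext
      omega
    · exact absurd (h2.mpr (alt_repPlus_inr j')) (not_alt_repPlus_inl i)
    · exact absurd (h2.mp (alt_repPlus_inr j)) (not_alt_repPlus_inl i')
    · rw [rk_repPlus_inr, rk_repPlus_inr] at h1
      congr 1
      apply Fin.ext
      omega
  · intro g hg
    have hg2 : g ^ 2 = 1 := sq_of_orderOf hg
    have hg1 : g ≠ 1 := by
      rintro rfl
      rw [orderOf_one] at hg
      omega
    have hpos := rk_pos _ g hg1
    have hle := two_mul_rk_le _ g hg2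
    rw [Fintype.card_sum, Fintype.card_fin] at hle
    by_cases halt : IsAltType _ g
    · obtain ⟨t, ht⟩ := even_rk_of_alt _ hQ g hg2 halt
      have htm : t - 1 < m / 2 := by omega
      refine ⟨Sum.inr ⟨t - 1, htm⟩, ?_, ?_⟩
      · rw [rk_repPlus_inr, ht]
        simp only
        omega
      · exact ⟨fun _ => halt, fun _ => alt_repPlus_inr _⟩
    · have hsm : rk _ g - 1 < m := by omega
      refine ⟨Sum.inl ⟨_, hsm⟩, ?_, ?_⟩
      · rw [rk_repPlus_inl]
        simp only
        omega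
      · exact ⟨fun h => absurd h (not_alt_repPlus_inl _), fun h => absurd h halt⟩

end Cfsg.Agent.Helper8.O2
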