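import Mathlib
import Cfsg.Agent.Helper8.O2Plus
set_option autoImplicit false

/-! The classes of involutions of `O⁻_2m(F)` in characteristic two. -/

namespace Cfsg.Agent.Helper8.O2

open Module Matrix Cfsg.Agent.Helper8.SpS Cfsg.Agent.Helper8.Sp2 Cfsg.Agent.Helper8.StdForms
  Cfsg.Agent.Helper8.WittQuad

variable {F : Type*} [Field F] {k : ℕ}

local notation "MI" k => (Fin k ⊕ Fin k) ⊕ Fin 2

/-- the binary part -/
def binForm (a b : F) (z : Fin 2 → F) : F := z 0 ^ 2 + a * z 0 * z 1 + b * z 1 ^ 2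

theorem minusForm_split (a b : F) (v : (MI k) → F) :
    minusForm F k a b v = plusForm F k (v ∘ Sum.inl) + binForm a b (v ∘ Sum.inr) := by
  rw [minusForm_apply, plusForm_apply]
  rfl

/-- block matrices -/
def blockMat (A : Matrix (Fin k ⊕ Fin k) (Fin k ⊕ Fin k) F) (R : Matrix (Fin 2) (Fin 2) F) :
    Matrix (MI k) (MI k) F := fromBlocks A 0 0 R

theorem blockMat_mulVec_inl (A : Matrix (Fin k ⊕ Fin k) (Fin k ⊕ Fin k) F)
    (R : Matrix (Fin 2) (Fin 2) F) (v : (MI k) → F) :
    (blockMat A R *ᵥ v) ∘ Sum.inl = A *ᵥ (v ∘ Sum.inl) := by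
  rw [blockMat, Matrix.fromBlocks_mulVec]
  funext x
  simp

theorem blockMat_mulVec_inr (A : Matrix (Fin k ⊕ Fin k) (Fin k ⊕ Fin k) F)
    (R : Matrix (Fin 2) (Fin 2) F) (v : (MI k) → F) :
    (blockMat A R *ᵥ v) ∘ Sum.inr = R *ᵥ (v ∘ Sum.inr) := by
  rw [blockMat, Matrix.fromBlocks_mulVec]
  funext x
  simp

theorem blockMat_sq (A : Matrix (Fin k ⊕ Fin k) (Fin k ⊕ Fin k) F)
    (R : Matrix (Fin 2) (Fin 2) F) (hA : A * A = 1) (hR : R * R = 1) :
    blockMat A R * blockMat A R = 1 := by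
  rw [blockMat, Matrix.fromBlocks_multiply]
  simp [hA, hR, Matrix.fromBlocks_one]

theorem minusForm_blockMat (a b : F) (A : Matrix (Fin k ⊕ Fin k) (Fin k ⊕ Fin k) F)
    (R : Matrix (Fin 2) (Fin 2) F) (hA : ∀ x, plusForm F k (A *ᵥ x) = plusForm F k x)
    (hR : ∀ z, binForm a b (R *ᵥ z) = binForm a b z) (v : (MI k) → F) :
    minusForm F k a b (blockMat A R *ᵥ v) = minusForm F k a b v := by
  rw [minusForm_split, minusForm_split, blockMat_mulVec_inl, blockMat_mulVec_inr, hA, hR]

theorem rank_blockMat_sub_one (A : Matrix (Fin k ⊕ Fin k) (Fin k ⊕ Fin k) F)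
    (R : Matrix (Fin 2) (Fin 2) F) :
    (blockMat A R - 1).rank = (A - 1).rank + (R - 1).rank := by
  have h : blockMat A R - 1 = fromBlocks (A - 1) 0 0 (R - 1) := by
    rw [blockMat]
    ext (i | i) (j | j) <;> simp [Matrix.one_apply, Matrix.sub_apply]
  rw [h, UJ.rank_fromBlocks_diag]

theorem polar_minusForm_split (a b : F) (u v : (MI k) → F) :
    QuadraticMap.polar (minusForm F k a b) u v =
      QuadraticMap.polar (plusForm F k) (u ∘ Sum.inl) (v ∘ Sum.inl) +
        (2 * u (Sum.inr 0) * v (Sum.inr 0)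
        + a * (u (Sum.inr 0) * v (Sum.inr 1) + v (Sum.inr 0) * u (Sum.inr 1))
        + 2 * b * u (Sum.inr 1) * v (Sum.inr 1)) := by
  rw [polar_minusForm, polar_plusForm]
  rfl

/-- the reflection in the first vector of the binary part -/
def reflBin (a : F) : Matrix (Fin 2) (Fin 2) F := !![1, a; 0, 1]

variable [CharP F 2]

theorem reflBin_sq (a : F) : reflBin a * reflBin a = 1 := by
  have h := CharTwo.add_self_eq_zero a
  ext i j
  fin_cases i <;> fin_cases j <;> simp [reflBin, Matrix.mul_apply, Fin.sum_univ_two, h]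

theorem binForm_reflBin (a b : F) (z : Fin 2 → F) :
    binForm a b (reflBin a *ᵥ z) = binForm a b z := by
  unfold binForm reflBin
  simp only [Matrix.mulVec, dotProduct, Fin.sum_univ_two, Matrix.of_apply, Matrix.cons_val_zero,
    Matrix.cons_val_one, Matrix.cons_val', Matrix.cons_val_fin_one]
  have h := CharTwo.add_self_eq_zero (a ^ 2 * z 1 ^ 2)
  have h2 : (2 : F) = 0 := CharTwo.two_eq_zero
  linear_combination h + (z 0 * a * z 1) * h2

omit [CharP F 2] in
theorem rank_reflBin_sub_one {a : F} (ha : a ≠ 0) : (reflBin a - 1).rank = 1 := by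
  have h : reflBin a - 1 = Matrix.vecMulVec ![a, 0] ![0, 1] := by
    ext i j
    fin_cases i <;> fin_cases j <;> simp [reflBin, Matrix.vecMulVec_apply]
  apply le_antisymm
  · rw [h]
    exact Matrix.rank_vecMulVec_le _ _
  · by_contra hcon
    have h0 : (reflBin a - 1).rank = 0 := by omega
    have h1 := UJ.eq_zero_of_rank_eq_zero _ h0
    have h2 := congrFun (congrFun h1 0) 1
    simp [reflBin] at h2
    exact ha h2

/-- the representatives -/
noncomputable def repMinus (F : Type*) [Field F] [CharP F 2] (k : ℕ) (a b : F) :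
    Fin (k + 1) ⊕ Fin (k / 2) → ↥(Cfsg.isometryGroup F ⇑(minusForm F k a b))
  | Sum.inl i => mkIso _ (blockMat (swapMat F k i) (reflBin a))
      (blockMat_sq _ _ (swapMat_sq _) (reflBin_sq a))
      (minusForm_blockMat a b _ _ (plusForm_swapMat _) (binForm_reflBin a b))
  | Sum.inr j => mkIso _ (blockMat (tMat (aMat F k (2 * (j + 1)))) 1)
      (blockMat_sq _ _ (tMat_sq _) (one_mul 1))
      (minusForm_blockMat a b _ _
        (plusForm_tMat _ (aMat_transpose (even_two_mul _)) (aMat_diag _))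
        (fun z => by rw [Matrix.one_mulVec]))

theorem rk_repMinus_inl {a : F} (ha : a ≠ 0) (b : F) (i : Fin (k + 1)) :
    rk _ (repMinus F k a b (Sum.inl i)) = i + 1 := by
  show (blockMat (swapMat F k i) (reflBin a) - 1).rank = _
  rw [rank_blockMat_sub_one, rank_swapMat_sub_one (by have := i.2; omega),
    rank_reflBin_sub_one ha]

theorem rk_repMinus_inr (a b : F) (j : Fin (k / 2)) :
    rk _ (repMinus F k a b (Sum.inr j)) = 2 * (j + 1) := by
  show (blockMat (tMat (aMat F k (2 * (j + 1)))) 1 - 1).rank = _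
  rw [rank_blockMat_sub_one, rank_tMat_sub_one, rank_aMat (even_two_mul _)
    (by have := j.2; omega), sub_self, Matrix.rank_zero, add_zero]

theorem alt_repMinus_inr (a b : F) (j : Fin (k / 2)) :
    IsAltType _ (repMinus F k a b (Sum.inr j)) := by
  intro v
  show QuadraticMap.polar (minusForm F k a b) v
    (blockMat (tMat (aMat F k (2 * (j + 1)))) 1 *ᵥ v) = 0
  have h1 := blockMat_mulVec_inr (tMat (aMat F k (2 * (j + 1)))) 1 v
  rw [Matrix.one_mulVec] at h1
  have h10 := congrFun h1 0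
  have h11 := congrFun h1 1
  simp only [Function.comp_apply] at h10 h11
  rw [polar_minusForm_split, blockMat_mulVec_inl,
    alt_tMat _ (aMat_transpose (even_two_mul _)) (aMat_diag _), h10, h11]
  have h2 : (2 : F) = 0 := CharTwo.two_eq_zero
  rw [h2]
  have := CharTwo.add_self_eq_zero (v (Sum.inr 0) * v (Sum.inr 1))
  linear_combination a * this

theorem not_alt_repMinus_inl {a : F} (ha : a ≠ 0) (b : F) (i : Fin (k + 1)) :
    ¬ IsAltType _ (repMinus F k a b (Sum.inl i)) := by
  classical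
  intro h
  have h1 := h (Pi.single (Sum.inr 1) 1)
  change QuadraticMap.polar (minusForm F k a b) _
    (blockMat (swapMat F k i) (reflBin a) *ᵥ _) = 0 at h1
  have h2 := blockMat_mulVec_inr (swapMat F k i) (reflBin a) (Pi.single (Sum.inr 1) 1)
  have h3 : ((Pi.single (Sum.inr 1) 1 : (MI k) → F) ∘ Sum.inr) = ![0, 1] := by
    funext x
    fin_cases x <;> simp
  have h4 : ((Pi.single (Sum.inr 1) 1 : (MI k) → F) ∘ Sum.inl) = 0 := by
    funext x
    simp
  rw [h3] at h2
  have e0 : (reflBin a *ᵥ ![0, 1]) 0 = a := by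
    simp [reflBin, Matrix.mulVec, dotProduct, Fin.sum_univ_two]
  have e1 : (reflBin a *ᵥ ![0, 1]) 1 = 1 := by
    simp [reflBin, Matrix.mulVec, dotProduct, Fin.sum_univ_two]
  have h20 : (blockMat (swapMat F k i) (reflBin a) *ᵥ Pi.single (Sum.inr 1) 1) (Sum.inr 0) = a :=
    (congrFun h2 0).trans e0
  have h21 : (blockMat (swapMat F k i) (reflBin a) *ᵥ Pi.single (Sum.inr 1) 1) (Sum.inr 1) = 1 :=
    (congrFun h2 1).trans e1
  rw [polar_minusForm_split, h4, QuadraticMap.polar_zero_left, h20, h21] at h1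
  simp only [Pi.single_apply, Sum.inr.injEq] at h1
  have h5 : (2 : F) = 0 := CharTwo.two_eq_zero
  rw [h5] at h1
  simp at h1
  exact ha h1

theorem orderOf_repMinus {a : F} (ha : a ≠ 0) (b : F) (x : Fin (k + 1) ⊕ Fin (k / 2)) :
    orderOf (repMinus F k a b x) = 2 := by
  rcases x with i | j
  · apply orderOf_mkIso
    have := rk_repMinus_inl (F := F) ha b i
    change (blockMat (swapMat F k i) (reflBin a) - 1).rank = _ at this
    omega
  · apply orderOf_mkIso
    have := rk_repMinus_inr (F := F) a b j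
    change (blockMat (tMat (aMat F k (2 * (j + 1)))) 1 - 1).rank = _ at this
    omega

end Cfsg.Agent.Helper8.O2
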