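import Mathlib
import Cfsg.Agent.Helper8.O2Minus
set_option autoImplicit false

/-! The Witt index of the minus-type form and the count of classes of involutions of
`O⁻_2m(F)` in characteristic two. -/

namespace Cfsg.Agent.Helper8.O2

open Module Matrix Cfsg.Agent.Helper8.SpS Cfsg.Agent.Helper8.Sp2 Cfsg.Agent.Helper8.StdForms
  Cfsg.Agent.Helper8.WittQuad

variable {F : Type*} [Field F] {k : ℕ}

local notation "MI" k => (Fin k ⊕ Fin k) ⊕ Fin 2

/-- the standard singular vectors -/
def eVec (F : Type*) [Field F] (k : ℕ) (i : Fin k) : (MI k) → F :=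
  Pi.single (Sum.inl (Sum.inl i)) 1

theorem minusForm_eVec (a b : F) (i : Fin k) : minusForm F k a b (eVec F k i) = 0 := by
  rw [minusForm_apply]
  unfold Cfsg.quadFormMinus eVec
  simp [Pi.single_apply]

theorem polar_eVec (a b : F) (w : (MI k) → F) (i : Fin k) :
    QuadraticMap.polar (minusForm F k a b) w (eVec F k i) = w (Sum.inl (Sum.inr i)) := by
  rw [polar_minusForm]
  unfold eVec
  simp [Pi.single_apply]

theorem linearIndependent_eVec : LinearIndependent F (eVec F k) := by
  have h := (Pi.basisFun F (MI k)).linearIndependent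
  have h2 : eVec F k = (Pi.basisFun F (MI k)) ∘ (fun i : Fin k => Sum.inl (Sum.inl i)) := by
    funext i
    simp [eVec, Pi.basisFun_apply]
  rw [h2]
  apply h.comp
  intro i j hij
  exact Sum.inl_injective (Sum.inl_injective hij)

/-- totally singular subspaces of a minus-type space have dimension at most `k` -/
theorem ts_finrank_le [Finite F] {a b : F}
    (hab : ∀ z₁ z₂ : F, z₁ ^ 2 + a * z₁ * z₂ + b * z₂ ^ 2 = 0 → z₁ = 0 ∧ z₂ = 0)
    (U : Submodule F ((MI k) → F)) (hU : ∀ u ∈ U, minusForm F k a b u = 0) :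
    finrank F U ≤ k := by
  by_contra hcon
  have hk : k + 1 ≤ finrank F U := by omega
  set Q := minusForm F k a b with hQdef
  have hQ := minusForm_nondeg F k hab
  let bU := Module.finBasis F U
  set u : Fin (k + 1) → ((MI k) → F) := fun i => (bU (Fin.castLE hk i) : (MI k) → F) with hu
  have huU : ∀ i, u i ∈ U := fun i => (bU (Fin.castLE hk i)).2
  have hli : LinearIndependent F u := by
    have h1 : LinearIndependent F (fun i : Fin (k + 1) => bU (Fin.castLE hk i)) :=
      bU.linearIndependent.comp _ (Fin.castLE_injective hk)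
    exact h1.map' U.subtype (Submodule.ker_subtype U)
  obtain ⟨hx, hlast⟩ := linearIndependent_finSucc'.mp hli
  have hpol : ∀ x ∈ U, ∀ y ∈ U, QuadraticMap.polar Q x y = 0 := by
    intro x hx y hy
    unfold QuadraticMap.polar
    rw [hU _ (U.add_mem hx hy), hU x hx, hU y hy]
    ring
  obtain ⟨g, hg1, hg2⟩ := witt_family Q hQ k (Fin.init u) (eVec F k) hx linearIndependent_eVec
    (fun i => by
      have e1 : Q (Fin.init u i) = 0 := hU _ (huU _)
      rw [e1, minusForm_eVec])
    (fun i j => by
      have e1 : QuadraticMap.polar Q (Fin.init u i) (Fin.init u j) = 0 :=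
        hpol _ (huU _) _ (huU _)
      rw [e1, polar_eVec]
      simp [eVec])
  set w := g (u (Fin.last k)) with hw
  have hQw : Q w = 0 := by rw [hw, hg1, hU _ (huU _)]
  have hwlr : ∀ i, w (Sum.inl (Sum.inr i)) = 0 := by
    intro i
    rw [← polar_eVec a b w i, ← hg2 i, hw, polar_isometry Q g hg1]
    exact hpol _ (huU _) _ (huU _)
  have hwr : w (Sum.inr 0) = 0 ∧ w (Sum.inr 1) = 0 := by
    apply hab
    have h1 := hQw
    rw [hQdef, minusForm_apply] at h1
    unfold Cfsg.quadFormMinus at h1
    simp only [hwlr, mul_zero, Finset.sum_const_zero, zero_add] at h1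
    exact h1
  have hwsum : w = ∑ i : Fin k, w (Sum.inl (Sum.inl i)) • eVec F k i := by
    classical
    funext x
    rw [Finset.sum_apply]
    simp only [Pi.smul_apply, eVec, Pi.single_apply, smul_eq_mul, mul_ite, mul_one, mul_zero]
    rcases x with (j | j) | j
    · simp
    · simp [hwlr j]
    · fin_cases j
      · simp [hwr.1]
      · simp [hwr.2]
  apply hlast
  have h3 : u (Fin.last k) = ∑ i : Fin k, w (Sum.inl (Sum.inl i)) • Fin.init u i := by
    apply g.injective
    rw [map_sum]
    simp only [map_smul, hg2]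
    exact hwsum
  rw [h3]
  apply Submodule.sum_mem
  intro i _
  exact Submodule.smul_mem _ _ (Submodule.subset_span ⟨i, rfl⟩)

variable [CharP F 2] [Fintype F]

theorem rk_le_of_alt {a b : F}
    (hab : ∀ z₁ z₂ : F, z₁ ^ 2 + a * z₁ * z₂ + b * z₂ ^ 2 = 0 → z₁ = 0 ∧ z₂ = 0)
    (g : ↥(Cfsg.isometryGroup F ⇑(minusForm F k a b))) (halt : IsAltType _ g) :
    rk _ g ≤ k := by
  unfold rk
  rw [rank_eq_finrank]
  apply ts_finrank_le hab
  rintro _ ⟨v, rfl⟩
  rw [Q_opN, polar_opN]
  exact halt v

theorem card_classes_minus {a b : F}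
    (hab : ∀ z₁ z₂ : F, z₁ ^ 2 + a * z₁ * z₂ + b * z₂ ^ 2 = 0 → z₁ = 0 ∧ z₂ = 0) :
    Nat.card {C : ConjClasses ↥(Cfsg.isometryGroup F ⇑(minusForm F k a b)) //
      ∃ g : ↥(Cfsg.isometryGroup F ⇑(minusForm F k a b)),
        ConjClasses.mk g = C ∧ orderOf g = 2} = (k + 1) + k / 2 := by
  have hQ := minusForm_nondeg F k hab
  have ha : a ≠ 0 := by
    intro ha
    obtain ⟨c, hc⟩ := hperf' b
    have := (hab c 1 (by
      rw [ha, ← hc]
      have := CharTwo.add_self_eq_zero (c * c)
      linear_combination this)).2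
    exact one_ne_zero this
  rw [card_classes_eq (minusForm F k a b) hQ (repMinus F k a b) (orderOf_repMinus ha b)]
  · rw [Fintype.card_sum, Fintype.card_fin, Fintype.card_fin]
  · intro x y h1 h2
    rcases x with i | j <;> rcases y with i' | j'
    · rw [rk_repMinus_inl ha, rk_repMinus_inl ha] at h1
      congr 1
      apply Fin.ext
      omega
    · exact absurd (h2.mpr (alt_repMinus_inr a b j')) (not_alt_repMinus_inl ha b i)
    · exact absurd (h2.mp (alt_repMinus_inr a b j)) (not_alt_repMinus_inl ha b i')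
    · rw [rk_repMinus_inr, rk_repMinus_inr] at h1
      congr 1
      apply Fin.ext
      omega
  · intro g hg
    have hg2 : g ^ 2 = 1 := sq_of_orderOf hg
    have hg1 : g ≠ 1 := by
      rintro rfl
      rw [orderOf_one] at hg
      omega
    have hpos := rk_pos _ g hg1
    have hle := two_mul_rk_le _ g hg2
    simp only [Fintype.card_sum, Fintype.card_fin] at hle
    by_cases halt : IsAltType _ g
    · obtain ⟨t, ht⟩ := even_rk_of_alt _ hQ g hg2 halt
      have hle' := rk_le_of_alt hab g halt
      have htm : t - 1 < k / 2 := by omega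
      refine ⟨Sum.inr ⟨t - 1, htm⟩, ?_, ?_⟩
      · rw [rk_repMinus_inr, ht]
        simp only
        omega
      · exact ⟨fun _ => halt, fun _ => alt_repMinus_inr _ _ _⟩
    · have hsm : rk _ g - 1 < k + 1 := by omega
      refine ⟨Sum.inl ⟨_, hsm⟩, ?_, ?_⟩
      · rw [rk_repMinus_inl ha]
        simp only
        omega
      · exact ⟨fun h => absurd h (not_alt_repMinus_inl ha b _), fun h => absurd h halt⟩

end Cfsg.Agent.Helper8.O2
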