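import Mathlib
import Cfsg.Agent.Helper8.MaxSingular
import Cfsg.Agent.Helper8.Reflections
import Cfsg.Agent.Helper8.QuadForm

/-!
# The Dickson invariant in characteristic two (helper8)

For a quadratic form `Q` with nondegenerate polar form over a field of characteristic two the map
`g ↦ (-1) ^ rank (g - 1)` is a homomorphism from the isometry group to `{±1}`; it sends every
reflection (orthogonal transvection) to `-1`.  The proof: the graphs `{(g x, x)}` of isometries
are maximal totally singular subspaces of `Q ⊕ Q`, and the parity theorem for those applies.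
-/

set_option autoImplicit false

namespace Cfsg.Agent.Helper8.Dickson

open Module Cfsg.Agent.Helper8.QuadForm Cfsg.Agent.Helper8.MaxSingular
  Cfsg.Agent.Helper8.OrthOrder Cfsg.Agent.Helper8.Reflections

variable {F V : Type*} [Field F] [AddCommGroup V] [Module F V]

/-- the graph `{(g x, x)}` of a linear endomorphism. -/
def graph (g : V →ₗ[F] V) : Submodule F (V × V) :=
  LinearMap.range (LinearMap.prod g LinearMap.id)

theorem mem_graph (g : V →ₗ[F] V) (p : V × V) : p ∈ graph g ↔ p.1 = g p.2 := by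
  constructor
  · rintro ⟨x, rfl⟩
    rfl
  · intro h
    exact ⟨p.2, Prod.ext h.symm rfl⟩

theorem prod_id_injective (g : V →ₗ[F] V) :
    Function.Injective (LinearMap.prod g (LinearMap.id : V →ₗ[F] V)) :=
  fun _ _ h => congrArg Prod.snd h

theorem finrank_graph [FiniteDimensional F V] (g : V →ₗ[F] V) :
    finrank F ↥(graph g) = finrank F V :=
  LinearMap.finrank_range_of_inj (prod_id_injective g)

theorem graph_inf (g k : V →ₗ[F] V) :
    graph g ⊓ graph k = (LinearMap.ker (g - k)).map (LinearMap.prod g LinearMap.id) := by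
  ext p
  constructor
  · rintro ⟨hg, hk⟩
    rw [SetLike.mem_coe, mem_graph] at hg hk
    refine ⟨p.2, ?_, Prod.ext hg.symm rfl⟩
    rw [SetLike.mem_coe, LinearMap.mem_ker, LinearMap.sub_apply, ← hg, ← hk, sub_self]
  · rintro ⟨x, hx, rfl⟩
    rw [SetLike.mem_coe, LinearMap.mem_ker, LinearMap.sub_apply, sub_eq_zero] at hx
    refine ⟨(mem_graph g _).2 rfl, (mem_graph k _).2 ?_⟩
    exact hx

theorem finrank_graph_inf [FiniteDimensional F V] (g k : V →ₗ[F] V) :
    finrank F ↥(graph g ⊓ graph k) = finrank F ↥(LinearMap.ker (g - k)) := by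
  rw [graph_inf]
  exact (Submodule.equivMapOfInjective _ (prod_id_injective g) _).finrank_eq.symm

theorem prod_nondeg {Q : QuadraticForm F V}
    (hQ : LinearMap.BilinForm.Nondegenerate (QuadraticMap.polarBilin Q)) :
    LinearMap.BilinForm.Nondegenerate (QuadraticMap.polarBilin (Q.prod Q)) := by
  have hnd := (nondeg_iff Q).mp hQ
  apply (nondeg_iff (Q.prod Q)).mpr
  intro v hv
  apply Prod.ext
  · apply hnd
    intro w
    have := hv (w, 0)
    rw [QuadraticMap.polar_prod] at this
    simpa using this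
  · apply hnd
    intro w
    have := hv (0, w)
    rw [QuadraticMap.polar_prod] at this
    simpa using this

theorem isMTS_graph [FiniteDimensional F V] (h2 : (2 : F) = 0) {Q : QuadraticForm F V}
    {g : V →ₗ[F] V} (hg : ∀ x, Q (g x) = Q x) :
    IsMTS (Q.prod Q) (finrank F V) (graph g) := by
  refine ⟨finrank_graph g, ?_⟩
  rintro _ ⟨x, rfl⟩
  show Q (g x) + Q x = 0
  rw [hg, ← two_mul, h2, zero_mul]

/-- **Parity of the ranks of differences of isometries** in characteristic two. -/
theorem even_rank_sub [FiniteDimensional F V] (h2 : (2 : F) = 0) {Q : QuadraticForm F V}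
    (hQ : LinearMap.BilinForm.Nondegenerate (QuadraticMap.polarBilin Q))
    {g k l : V →ₗ[F] V} (hg : ∀ x, Q (g x) = Q x) (hk : ∀ x, Q (k x) = Q x)
    (hl : ∀ x, Q (l x) = Q x) :
    Even (finrank F ↥(LinearMap.range (g - k)) + finrank F ↥(LinearMap.range (k - l))
      + finrank F ↥(LinearMap.range (g - l))) := by
  have hV : finrank F (V × V) = 2 * finrank F V := by
    rw [Module.finrank_prod]; ring
  have hp := parity (prod_nondeg hQ) hV (isMTS_graph h2 hg) (isMTS_graph h2 hk)
    (isMTS_graph h2 hl)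
  rw [finrank_graph_inf, finrank_graph_inf, finrank_graph_inf] at hp
  have e1 := LinearMap.finrank_range_add_finrank_ker (g - k)
  have e2 := LinearMap.finrank_range_add_finrank_ker (k - l)
  have e3 := LinearMap.finrank_range_add_finrank_ker (g - l)
  have f1 : finrank F V - finrank F ↥(LinearMap.ker (g - k))
      = finrank F ↥(LinearMap.range (g - k)) := by omega
  have f2 : finrank F V - finrank F ↥(LinearMap.ker (k - l))
      = finrank F ↥(LinearMap.range (k - l)) := by omega
  have f3 : finrank F V - finrank F ↥(LinearMap.ker (g - l))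
      = finrank F ↥(LinearMap.range (g - l)) := by omega
  rw [f1, f2, f3] at hp
  exact hp

/-- the residual rank `rank (g - 1)`. -/
noncomputable def res (g : V ≃ₗ[F] V) : ℕ :=
  finrank F ↥(LinearMap.range ((g : V →ₗ[F] V) - LinearMap.id))

theorem res_one : res (1 : V ≃ₗ[F] V) = 0 := by
  unfold res
  have : ((1 : V ≃ₗ[F] V) : V →ₗ[F] V) - LinearMap.id = 0 := by
    ext x
    simp
  rw [this, LinearMap.range_zero, finrank_bot]

theorem even_res_mul [FiniteDimensional F V] (h2 : (2 : F) = 0) {Q : QuadraticForm F V}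
    (hQ : LinearMap.BilinForm.Nondegenerate (QuadraticMap.polarBilin Q))
    {g h : V ≃ₗ[F] V} (hg : g ∈ Isom Q) (hh : h ∈ Isom Q) :
    Even (res h + res g + res (g * h)) := by
  have hgh : g * h ∈ Isom Q := (Isom Q).mul_mem hg hh
  have key := even_rank_sub h2 hQ (g := ((g * h : V ≃ₗ[F] V) : V →ₗ[F] V))
    (k := (g : V →ₗ[F] V)) (l := LinearMap.id) (fun x => hgh x) (fun x => hg x) (fun x => rfl)
  have e : ((g * h : V ≃ₗ[F] V) : V →ₗ[F] V) - (g : V →ₗ[F] V)
      = (g : V →ₗ[F] V) ∘ₗ ((h : V →ₗ[F] V) - LinearMap.id) := by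
    ext x
    simp
  have e2 : finrank F ↥(LinearMap.range (((g * h : V ≃ₗ[F] V) : V →ₗ[F] V) - (g : V →ₗ[F] V)))
      = res h := by
    rw [e, LinearMap.range_comp]
    exact LinearEquiv.finrank_map_eq g _
  rw [e2] at key
  exact key

/-- the **Dickson invariant** as a homomorphism to `{±1}`. -/
noncomputable def dickson [FiniteDimensional F V] (h2 : (2 : F) = 0) (Q : QuadraticForm F V)
    (hQ : LinearMap.BilinForm.Nondegenerate (QuadraticMap.polarBilin Q)) : ↥(Isom Q) →* ℤˣ where
  toFun g := (-1) ^ res (g : V ≃ₗ[F] V)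
  map_one' := by
    show (-1 : ℤˣ) ^ res ((1 : V ≃ₗ[F] V)) = 1
    rw [res_one, pow_zero]
  map_mul' g h := by
    show (-1 : ℤˣ) ^ res ((g : V ≃ₗ[F] V) * (h : V ≃ₗ[F] V)) = (-1) ^ res (g : V ≃ₗ[F] V) *
      (-1) ^ res (h : V ≃ₗ[F] V)
    have key := even_res_mul h2 hQ g.2 h.2
    have h1 := key.neg_one_pow (α := ℤˣ)
    rw [pow_add, pow_add] at h1
    have h3 := eq_inv_of_mul_eq_one_left h1
    rw [Int.units_inv_eq_self] at h3
    rw [← h3, mul_comm]

theorem dickson_apply [FiniteDimensional F V] (h2 : (2 : F) = 0) (Q : QuadraticForm F V)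
    (hQ : LinearMap.BilinForm.Nondegenerate (QuadraticMap.polarBilin Q)) (g : ↥(Isom Q)) :
    dickson h2 Q hQ g = (-1) ^ res (g : V ≃ₗ[F] V) := rfl

theorem res_refl (Q : QuadraticForm F V)
    (hQ : LinearMap.BilinForm.Nondegenerate (QuadraticMap.polarBilin Q)) {z : V} (hz : Q z ≠ 0) :
    res (refl Q z) = 1 := by
  have hnd := (nondeg_iff Q).mp hQ
  have hz0 : z ≠ 0 := by
    rintro rfl
    exact hz (map_zero _)
  have hrange : LinearMap.range (((refl Q z : V ≃ₗ[F] V) : V →ₗ[F] V) - LinearMap.id)
      = Submodule.span F {z} := by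
    apply le_antisymm
    · rintro _ ⟨x, rfl⟩
      rw [LinearMap.sub_apply, LinearEquiv.coe_coe, refl_apply, LinearMap.id_apply,
        sub_sub_cancel_left]
      exact Submodule.neg_mem _ (Submodule.smul_mem _ _ (Submodule.mem_span_singleton_self z))
    · rw [Submodule.span_singleton_le_iff_mem]
      obtain ⟨x, hx⟩ : ∃ x, QuadraticMap.polar Q z x ≠ 0 := by
        by_contra hcon
        push_neg at hcon
        exact hz0 (hnd z hcon)
      refine ⟨(-(Q z / QuadraticMap.polar Q z x)) • x, ?_⟩
      rw [LinearMap.sub_apply, LinearEquiv.coe_coe, refl_apply, LinearMap.id_apply,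
        sub_sub_cancel_left, QuadraticMap.polar_smul_right, smul_eq_mul, ← neg_smul]
      have : -(-(Q z / QuadraticMap.polar Q z x) * QuadraticMap.polar Q z x / Q z) = 1 := by
        field_simp
      rw [this, one_smul]
  unfold res
  rw [hrange, finrank_span_singleton hz0]

theorem dickson_refl [FiniteDimensional F V] (h2 : (2 : F) = 0) (Q : QuadraticForm F V)
    (hQ : LinearMap.BilinForm.Nondegenerate (QuadraticMap.polarBilin Q)) {z : V} (hz : Q z ≠ 0) :
    dickson h2 Q hQ ⟨refl Q z, refl_mem Q z⟩ = -1 := by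
  rw [dickson_apply]
  show (-1 : ℤˣ) ^ res (refl Q z) = -1
  rw [res_refl Q hQ hz, pow_one]

end Cfsg.Agent.Helper8.Dickson
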