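import Mathlib
import Cfsg.Agent.Helper8.SpSCore
import Cfsg.Agent.Helper8.WittQuad
set_option autoImplicit false

/-!
Two nondegenerate quadratic forms invariant under the same semisimple operator of odd order
without fixed vectors are isometric by an operator commuting with it.
-/

namespace Cfsg.Agent.Helper8.OWall

open Polynomial Module
open Cfsg.Agent.Helper8.SpS

universe u v

variable {F : Type v} [Field F]
variable {V : Type u} [AddCommGroup V] [Module F V]

theorem inv_polarBilin (Q : QuadraticForm F V) (A : Module.End F V) (h : ∀ v, Q (A v) = Q v) :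
    Inv (QuadraticMap.polarBilin Q) A := by
  intro x y
  change QuadraticMap.polar Q (A x) (A y) = QuadraticMap.polar Q x y
  unfold QuadraticMap.polar
  rw [← map_add, h, h, h]

/-- the value of an invariant quadratic form on `w - A w` -/
theorem map_sub_apply (Q : QuadraticForm F V) (A : Module.End F V) (h : ∀ v, Q (A v) = Q v)
    (w : V) : Q (w - A w) = QuadraticMap.polar Q w (w - A w) := by
  have h1 : QuadraticMap.polar Q w (-(A w)) = Q (w - A w) - Q w - Q (A w) := by
    unfold QuadraticMap.polar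
    rw [QuadraticMap.map_neg, ← sub_eq_add_neg]
  rw [QuadraticMap.polar_sub_right, QuadraticMap.polar_self]
  rw [QuadraticMap.polar_neg_right] at h1
  rw [h] at h1
  linear_combination (-1 : F) * h1

theorem pow_apply_of_neg (A : Module.End F V) (v : V) (hv : A v = -v) (k : ℕ) :
    (A ^ k) v = (-1 : F) ^ k • v := by
  induction k with
  | zero => simp
  | succ k ih =>
    rw [pow_succ', Module.End.mul_apply, ih, map_smul, hv, pow_succ]
    rw [smul_neg, mul_neg_one, neg_smul]

variable [Fintype F] [FiniteDimensional F V]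

theorem equivariant_isometry (N : ℕ) (hN : (N : F) ≠ 0) (hodd : Odd N)
    (A A' : Module.End F V) (hAA' : A * A' = 1) (hA'A : A' * A = 1) (hAN : A ^ N = 1)
    (hfix : ∀ v, A v = v → v = 0)
    (Q₁ Q₂ : QuadraticForm F V) (h₁ : ∀ v, Q₁ (A v) = Q₁ v) (h₂ : ∀ v, Q₂ (A v) = Q₂ v)
    (hnd₁ : Nondeg (QuadraticMap.polarBilin Q₁)) (hnd₂ : Nondeg (QuadraticMap.polarBilin Q₂)) :
    ∃ z : Module.End F V, z * A = A * z ∧ ∀ v, Q₂ v = Q₁ (z v) := by
  have hAA'v : ∀ v, A (A' v) = v := fun v => by
    rw [← Module.End.mul_apply, hAA', Module.End.one_apply]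
  have hA'Av : ∀ v, A' (A v) = v := fun v => by
    rw [← Module.End.mul_apply, hA'A, Module.End.one_apply]
  -- `A + 1` is injective
  have hplus : ∀ v, A v = -v → v = 0 := by
    intro v hv
    have h1 := pow_apply_of_neg A v hv N
    rw [hAN, Module.End.one_apply, hodd.neg_one_pow, neg_one_smul] at h1
    have h2 : (2 : F) • v = 0 := by
      rw [two_smul]
      nth_rewrite 1 [h1]
      exact neg_add_cancel v
    rcases smul_eq_zero.mp h2 with h3 | h3
    · apply hfix
      rw [hv, neg_eq_iff_add_eq_zero, ← two_smul F v, h3, zero_smul]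
    · exact h3
  set D : Module.End F V := A - A' with hD
  have hDA : D * A = A * D := by
    rw [hD, sub_mul, mul_sub, hA'A, hAA']
  have hDinj : Function.Injective D := by
    rw [← LinearMap.ker_eq_bot, LinearMap.ker_eq_bot']
    intro v hv
    rw [hD, LinearMap.sub_apply, sub_eq_zero] at hv
    -- `A (A v) = v`
    have h1 : A (A v) = v := by rw [hv, hAA'v]
    -- `(A + 1) (A v - v) = 0`
    have h2 : A (A v - v) = -(A v - v) := by
      rw [map_sub, h1]
      abel
    have h3 := hplus _ h2
    exact hfix v (sub_eq_zero.mp h3)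
  have hDsurj : Function.Surjective D := LinearMap.surjective_of_injective hDinj
  have hEinj : Function.Injective (1 - A : Module.End F V) := by
    rw [← LinearMap.ker_eq_bot, LinearMap.ker_eq_bot']
    intro v hv
    rw [LinearMap.sub_apply, Module.End.one_apply, sub_eq_zero] at hv
    exact hfix v hv.symm
  have hEsurj : Function.Surjective (1 - A : Module.End F V) :=
    LinearMap.surjective_of_injective hEinj
  set β₁ := QuadraticMap.polarBilin Q₁ with hβ₁
  set β₂ := QuadraticMap.polarBilin Q₂ with hβ₂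
  have hI₁ : Inv β₁ A := inv_polarBilin Q₁ A h₁
  have hI₂ : Inv β₂ A := inv_polarBilin Q₂ A h₂
  have hsymm₁ : ∀ x y, β₁ x y = β₁ y x := fun x y => QuadraticMap.polar_comm Q₁ x y
  have hsymm₂ : ∀ x y, β₂ x y = β₂ y x := fun x y => QuadraticMap.polar_comm Q₂ x y
  -- the twisted alternating forms
  have halt : ∀ β : V →ₗ[F] V →ₗ[F] F, Inv β A → (∀ x y, β x y = β y x) →
      Alt (β.compl₁₂ D LinearMap.id) := by
    intro β hI hs x
    rw [LinearMap.compl₁₂_apply, LinearMap.id_apply, hD, LinearMap.sub_apply, map_sub,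
      LinearMap.sub_apply]
    have h1 : β (A' x) x = β x (A x) := by
      have := hI (A' x) x
      rw [hAA'v] at this
      exact this.symm
    rw [h1, hs x (A x), sub_self]
  have hinv : ∀ β : V →ₗ[F] V →ₗ[F] F, Inv β A → Inv (β.compl₁₂ D LinearMap.id) A := by
    intro β hI x y
    rw [LinearMap.compl₁₂_apply, LinearMap.compl₁₂_apply, LinearMap.id_apply, LinearMap.id_apply]
    have h1 : D (A x) = A (D x) := by
      rw [← Module.End.mul_apply, hDA, Module.End.mul_apply]
    rw [h1, hI]
  have hnd : ∀ β : V →ₗ[F] V →ₗ[F] F, Nondeg β → Nondeg (β.compl₁₂ D LinearMap.id) := by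
    intro β hn x hx
    have h1 : D x = 0 := hn (D x) (fun y => by
      have := hx y
      rw [LinearMap.compl₁₂_apply, LinearMap.id_apply] at this
      exact this)
    exact hDinj (h1.trans (map_zero D).symm)
  obtain ⟨z, hzA, hz⟩ := core N hN (finrank F V) V A A' hAA' hA'A hAN
    (β₁.compl₁₂ D LinearMap.id) (β₂.compl₁₂ D LinearMap.id)
    (halt β₁ hI₁ hsymm₁) (hnd β₁ hnd₁) (hinv β₁ hI₁)
    (halt β₂ hI₂ hsymm₂) (hnd β₂ hnd₂) (hinv β₂ hI₂) rfl
  refine ⟨z, hzA, ?_⟩
  have hzAv : ∀ v, z (A v) = A (z v) := fun v => by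
    rw [← Module.End.mul_apply, hzA, Module.End.mul_apply]
  have hzA'v : ∀ v, z (A' v) = A' (z v) := by
    intro v
    have h1 : A (z (A' v)) = A (A' (z v)) := by
      rw [← hzAv, hAA'v, hAA'v]
    have hAinj : Function.Injective A := by
      intro x y hxy
      rw [← hA'Av x, ← hA'Av y, hxy]
    exact hAinj h1
  have hzD : ∀ v, z (D v) = D (z v) := by
    intro v
    rw [hD, LinearMap.sub_apply, LinearMap.sub_apply, map_sub, hzAv, hzA'v]
  have hβ : ∀ x y, β₂ x y = β₁ (z x) (z y) := by
    intro x y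
    obtain ⟨x', rfl⟩ := hDsurj x
    have := hz x' y
    rw [LinearMap.compl₁₂_apply, LinearMap.compl₁₂_apply, LinearMap.id_apply,
      LinearMap.id_apply] at this
    rw [this, hzD]
  intro v
  obtain ⟨w, rfl⟩ := hEsurj v
  rw [LinearMap.sub_apply, Module.End.one_apply, map_sub z w (A w), hzAv, map_sub_apply Q₂ A h₂,
    map_sub_apply Q₁ A h₁]
  have := hβ w (w - A w)
  rw [map_sub z w (A w), hzAv] at this
  exact this

end Cfsg.Agent.Helper8.OWall
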