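import Mathlib
import Cfsg.Agent.Helper8.OWallA
set_option autoImplicit false

/-!
An invariant nondegenerate quadratic form for a symplectic isometry of odd order without fixed
vectors: `Q v = ω ((1 - t)⁻¹ v) v` (any characteristic).
-/

namespace Cfsg.Agent.Helper8.OrR

open Cfsg.Agent.Helper8.SpS Cfsg.Agent.Helper8.OWall

universe u v

variable {F : Type v} [Field F]
variable {V : Type u} [AddCommGroup V] [Module F V]

/-- the quadratic form `v ↦ ω (s v) v` -/
noncomputable def qOf (ω : V →ₗ[F] V →ₗ[F] F) (s : Module.End F V) : QuadraticForm F V :=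
  LinearMap.BilinMap.toQuadraticMap (ω ∘ₗ s)

theorem qOf_apply (ω : V →ₗ[F] V →ₗ[F] F) (s : Module.End F V) (v : V) :
    qOf ω s v = ω (s v) v := rfl

theorem polar_qOf (ω : V →ₗ[F] V →ₗ[F] F) (s : Module.End F V) (u v : V) :
    QuadraticMap.polar (qOf ω s) u v = ω (s u) v + ω (s v) u := by
  unfold QuadraticMap.polar
  rw [qOf_apply, qOf_apply, qOf_apply, map_add, map_add, map_add, LinearMap.add_apply, LinearMap.add_apply]
  ring

theorem exists_quadratic_of_symplectic (ω : V →ₗ[F] V →ₗ[F] F) (hAlt : Alt ω) (hND : Nondeg ω)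
    (t t' s : Module.End F V) (htt' : t * t' = 1) (hI : Inv ω t)
    (hs1 : s * (1 - t) = 1) (hs2 : (1 - t) * s = 1) (N : ℕ) (hodd : Odd N) (htN : t ^ N = 1) :
    ∃ Q : QuadraticForm F V, (∀ v, Q (t v) = Q v) ∧ (QuadraticMap.polarBilin Q).Nondegenerate := by
  have hst : s * t = t * s := by
    calc s * t = s * (t * ((1 - t) * s)) := by rw [hs2, mul_one]
      _ = s * ((1 - t) * (t * s)) := by
          congr 1
          rw [← mul_assoc, ← mul_assoc]
          congr 1
          rw [mul_sub, sub_mul, mul_one, one_mul]
      _ = (s * (1 - t)) * (t * s) := by rw [mul_assoc]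
      _ = t * s := by rw [hs1, one_mul]
  have hstv : ∀ v, s (t v) = t (s v) := fun v => by
    rw [← Module.End.mul_apply, hst, Module.End.mul_apply]
  have hs1v : ∀ v, s (v - t v) = v := fun v => by
    have := congrArg (fun f : Module.End F V => f v) hs1
    simpa using this
  have hs2v : ∀ v, s v - t (s v) = v := fun v => by
    have := congrArg (fun f : Module.End F V => f v) hs2
    simpa using this
  have htt'v : ∀ v, t (t' v) = v := fun v => by
    rw [← Module.End.mul_apply, htt', Module.End.one_apply]
  refine ⟨qOf ω s, fun v => ?_, ?_⟩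
  · rw [qOf_apply, qOf_apply, hstv, hI]
  · rw [QuadForm.nondeg_iff]
    intro u hu
    have key : ∀ x, ω (s u - t' (s u) - u) x = 0 := by
      intro x
      have h1 := hu (x - t x)
      rw [polar_qOf, hs1v, map_sub, hAlt.skew x u] at h1
      have h2 : ω (s u) (t x) = ω (t' (s u)) x := by
        conv_lhs => rw [← htt'v (s u)]
        rw [hI]
      rw [h2] at h1
      rw [map_sub, map_sub, LinearMap.sub_apply, LinearMap.sub_apply]
      linear_combination h1
    have h3 := hND _ key
    have h4 : t u = -u := by
      have h5 := congrArg t h3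
      rw [map_zero, map_sub, map_sub, htt'v] at h5
      have h6 := hs2v u
      have e2 : t u = -(t (s u) - s u - t u) - (s u - t (s u)) := by abel
      rw [e2, h5, h6]
      abel
    have h7 : (t ^ N) u = (-1 : F) ^ N • u := pow_apply_of_neg t u h4 N
    rw [htN, Module.End.one_apply, hodd.neg_one_pow, neg_smul, one_smul] at h7
    have h8 : t u = u := by rw [h4, ← h7]
    have h9 := hs1v u
    rw [h8, sub_self, map_zero] at h9
    exact h9.symm

end Cfsg.Agent.Helper8.OrR
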