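import Mathlib
import Cfsg.Agent.Helper8.OrRFormA
import Cfsg.Agent.Helper8.SpSMat
import Cfsg.Agent.Helper8.ReflMatrix
set_option autoImplicit false

/-!
Orthogonal elements from symplectic elements of odd order without fixed vectors: the
orthogonal sum of a trivial block and the symplectic block with its invariant quadratic form.
-/

namespace Cfsg.Agent.Helper8.OrR

open Polynomial Module Matrix
open Cfsg.Agent.Helper8.SpS Cfsg.Agent.Helper8.QuadForm Cfsg.Agent.Helper8.OrthOrder
  Cfsg.Agent.Helper8.ReflMatrix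

universe u v

variable {F : Type v} [Field F]

section sumHom

variable {U W V : Type*} [AddCommGroup U] [Module F U] [AddCommGroup W] [Module F W]
  [AddCommGroup V] [Module F V]

/-- extend an automorphism of `W` by the identity on `U` and transport along `S`. -/
noncomputable def sumHom (S : (U × W) ≃ₗ[F] V) : (W ≃ₗ[F] W) →* (V ≃ₗ[F] V) where
  toFun T := S.symm.trans ((LinearEquiv.prodCongr (LinearEquiv.refl F U) T).trans S)
  map_one' := by
    ext v
    simp
  map_mul' T T' := by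
    ext v
    simp [LinearEquiv.mul_apply]

theorem sumHom_apply (S : (U × W) ≃ₗ[F] V) (T : W ≃ₗ[F] W) (v : V) :
    sumHom S T v = S ((S.symm v).1, T (S.symm v).2) := rfl

theorem sumHom_toLinearMap (S : (U × W) ≃ₗ[F] V) (T : W ≃ₗ[F] W) :
    ((sumHom S T : V ≃ₗ[F] V) : V →ₗ[F] V)
      = S.conj (LinearMap.prodMap (LinearMap.id : U →ₗ[F] U) (T : W →ₗ[F] W)) := by
  apply LinearMap.ext
  intro v
  rw [LinearEquiv.conj_apply]
  rfl

theorem charpoly_sumHom [FiniteDimensional F U] [FiniteDimensional F W] [FiniteDimensional F V]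
    (S : (U × W) ≃ₗ[F] V) (T : W ≃ₗ[F] W) :
    ((sumHom S T : V ≃ₗ[F] V) : V →ₗ[F] V).charpoly
      = (X - 1) ^ finrank F U * (T : W →ₗ[F] W).charpoly := by
  rw [sumHom_toLinearMap, LinearEquiv.charpoly_conj, LinearMap.charpoly_prodMap]
  congr 1
  exact LinearMap.charpoly_one

theorem sumHom_mem (S : (U × W) ≃ₗ[F] V) (Q₀ : QuadraticForm F V) (QU : QuadraticForm F U)
    (QW : QuadraticForm F W) (c : F) (hS : ∀ x, Q₀ (S x) = c * (QU.prod QW) x)
    (T : W ≃ₗ[F] W) (hT : ∀ w, QW (T w) = QW w) : sumHom S T ∈ Isom Q₀ := by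
  intro v
  rw [sumHom_apply, hS]
  conv_rhs => rw [← S.apply_symm_apply v, hS]
  rw [QuadraticMap.prod_apply, QuadraticMap.prod_apply, hT]

theorem nondeg_prod (QU : QuadraticForm F U) (QW : QuadraticForm F W) (hU : Nondeg QU)
    (hW : Nondeg QW) : Nondeg (QU.prod QW) := by
  intro x hx
  have h1 : x.1 = 0 := by
    apply hU
    intro u
    have := hx (u, 0)
    rw [QuadraticMap.polar_prod] at this
    simpa using this
  have h2 : x.2 = 0 := by
    apply hW
    intro w
    have := hx (0, w)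
    rw [QuadraticMap.polar_prod] at this
    simpa using this
  exact Prod.ext h1 h2

end sumHom

section sp

theorem neg_mul_one_sub {R : Type*} [Ring R] (x y : R) : -x * (1 - y) = x * (y - 1) := by
  rw [neg_mul, ← mul_neg, neg_sub]

theorem one_sub_mul_neg {R : Type*} [Ring R] (x y : R) : (1 - y) * -x = (y - 1) * x := by
  rw [mul_neg, ← neg_mul, neg_sub]

variable {k : ℕ}

/-- the symplectic group as a group of linear automorphisms. -/
noncomputable def spLin : symplecticGroup (Fin k) F →* ((Fin k ⊕ Fin k → F) ≃ₗ[F] (Fin k ⊕ Fin k → F)) :=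
  (glEquiv (F := F) (ι := Fin k ⊕ Fin k)).toMonoidHom.comp
    ((Units.map (symplecticGroup (Fin k) F).subtype).comp
      (toUnits (G := symplecticGroup (Fin k) F)).toMonoidHom)

theorem spLin_apply (g : symplecticGroup (Fin k) F) (v : Fin k ⊕ Fin k → F) :
    spLin g v = g.1 *ᵥ v := rfl

theorem spLin_toLinearMap (g : symplecticGroup (Fin k) F) :
    ((spLin g : (Fin k ⊕ Fin k → F) ≃ₗ[F] (Fin k ⊕ Fin k → F)) :
      (Fin k ⊕ Fin k → F) →ₗ[F] (Fin k ⊕ Fin k → F)) = Matrix.toLin' g.1 := by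
  apply LinearMap.ext
  intro v
  rw [Matrix.toLin'_apply]
  rfl

/-- an invariant nondegenerate quadratic form for a symplectic matrix of odd order without
eigenvalue `1`. -/
theorem exists_quadratic_of_sp (g : symplecticGroup (Fin k) F) (N : ℕ) (hodd : Odd N)
    (hgN : g ^ N = 1) (hcop : IsCoprime (X - 1 : F[X]) g.1.charpoly) :
    ∃ Q : QuadraticForm F (Fin k ⊕ Fin k → F), (∀ v, Q (spLin g v) = Q v) ∧ Nondeg Q := by
  set J := Matrix.J (Fin k) F with hJ
  have hJdet : J.det ≠ 0 := (Matrix.isUnit_det_J (Fin k) F).ne_zero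
  set t : Module.End F (Fin k ⊕ Fin k → F) := Matrix.toLin' g.1 with ht
  set t' : Module.End F (Fin k ⊕ Fin k → F) := Matrix.toLin' (g⁻¹).1 with ht'
  have hΦ : ∀ X Y : Matrix (Fin k ⊕ Fin k) (Fin k ⊕ Fin k) F,
      (Matrix.toLin' X : Module.End F (Fin k ⊕ Fin k → F)) * Matrix.toLin' Y
        = Matrix.toLin' (X * Y) := fun X Y => (Matrix.toLin'_mul X Y).symm
  have hone : (Matrix.toLin' (1 : Matrix (Fin k ⊕ Fin k) (Fin k ⊕ Fin k) F) :
      Module.End F (Fin k ⊕ Fin k → F)) = 1 := by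
    rw [Matrix.toLin'_one]
    rfl
  have htt' : t * t' = 1 := by
    have : (g * g⁻¹).1 = g.1 * (g⁻¹).1 := rfl
    rw [ht, ht', hΦ, ← this, mul_inv_cancel]
    exact hone
  have htN : t ^ N = 1 := by
    have h1 : (g ^ N).1 = g.1 ^ N := SubmonoidClass.coe_pow g N
    have h2 : t ^ N = Matrix.toLin' (g.1 ^ N) :=
      (map_pow (Matrix.toLinAlgEquiv' (R := F) (n := Fin k ⊕ Fin k)) g.1 N).symm
    rw [h2, ← h1, hgN]
    exact hone
  obtain ⟨a, b, hab⟩ := hcop
  have hχ : aeval t g.1.charpoly = 0 := by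
    have := LinearMap.aeval_self_charpoly t
    rwa [ht, Matrix.charpoly_toLin'] at this
  have h1 : aeval t a * (t - 1) = 1 := by
    have := congrArg (aeval t) hab
    rw [map_add, map_mul, map_mul, hχ, mul_zero, add_zero, map_sub, aeval_X, map_one] at this
    exact this
  have hcomm : aeval t a * (t - 1) = (t - 1) * aeval t a := by
    have h3 : t - 1 = aeval t (X - 1 : F[X]) := by rw [map_sub, aeval_X, map_one]
    rw [h3, ← map_mul, ← map_mul, mul_comm]
  obtain ⟨Q, hQ1, hQ2⟩ := exists_quadratic_of_symplectic (bform J) alt_bform_J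
    (nondeg_bform J hJdet) t t' (-(aeval t a)) htt'
    (inv_bform J g.1 (transpose_J_mul g.2))
    (by
      rw [neg_mul_one_sub, h1])
    (by
      rw [one_sub_mul_neg, ← hcomm, h1]) N hodd htN
  refine ⟨Q, fun v => ?_, (nondeg_iff Q).mp hQ2⟩
  rw [spLin_apply, ← Matrix.toLin'_apply]
  exact hQ1 v

end sp

section main

variable {ι : Type} [Fintype ι] [DecidableEq ι] {k : ℕ}
  {U : Type*} [AddCommGroup U] [Module F U] [FiniteDimensional F U]

/-- the orthogonal element built from a symplectic element `g` of odd order without eigenvalue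
`1`, provided the orthogonal sum of `QU` and any `g`-invariant form is similar to `Q₀`. -/
theorem exists_orth_of_sum (Q₀ : QuadraticForm F (ι → F)) (QU : QuadraticForm F U)
    (g : symplecticGroup (Fin k) F) (N : ℕ) (hodd : Odd N)
    (hgN : g ^ N = 1) (hcop : IsCoprime (X - 1 : F[X]) g.1.charpoly)
    (hsim : ∀ QW : QuadraticForm F (Fin k ⊕ Fin k → F), Nondeg QW →
      (∀ v, QW (spLin g v) = QW v) →
      ∃ (c : F) (S : (U × (Fin k ⊕ Fin k → F)) ≃ₗ[F] (ι → F)),
        ∀ x, Q₀ (S x) = c * (QU.prod QW) x) :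
    ∃ h : ↥(Cfsg.isometryGroup F ⇑Q₀), h ^ N = 1 ∧
      ((h : GL ι F) : Matrix ι ι F).charpoly = (X - 1) ^ finrank F U * g.1.charpoly := by
  obtain ⟨QW, hQW1, hQW2⟩ := exists_quadratic_of_sp g N hodd hgN hcop
  obtain ⟨c, S, hS⟩ := hsim QW hQW2 hQW1
  set L := sumHom S (spLin g) with hL
  have hLmem : L ∈ Isom Q₀ := sumHom_mem S Q₀ QU QW c hS (spLin g) hQW1
  have hLN : L ^ N = 1 := by
    rw [hL, ← map_pow, ← map_pow, hgN, map_one, map_one]
  refine ⟨(isomEquiv Q₀).symm ⟨L, hLmem⟩, ?_, ?_⟩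
  · rw [← map_pow]
    have : (⟨L, hLmem⟩ : ↥(Isom Q₀)) ^ N = 1 := by
      apply Subtype.ext
      rw [Subgroup.coe_pow]
      exact hLN
    rw [this, map_one]
  · set h := (isomEquiv Q₀).symm ⟨L, hLmem⟩ with hh
    have h1 : Matrix.toLin' ((h : GL ι F) : Matrix ι ι F) = (L : (ι → F) →ₗ[F] (ι → F)) := by
      apply LinearMap.ext
      intro v
      rw [Matrix.toLin'_apply, ← isomEquiv_apply, hh, MulEquiv.apply_symm_apply]
      rfl
    rw [← Matrix.charpoly_toLin', h1, hL, charpoly_sumHom, spLin_toLinearMap,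
      Matrix.charpoly_toLin']

end main

end Cfsg.Agent.Helper8.OrR
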