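import Mathlib
set_option autoImplicit false

/-!
Level sets of quadratic forms over finite fields: sizes of fibres, orthogonal sums.
-/

namespace Cfsg.Agent.Helper8.OrT

open Module

variable {F : Type*} [Field F] [Fintype F]
variable {V : Type*} [AddCommGroup V] [Module F V]
variable {V₁ : Type*} [AddCommGroup V₁] [Module F V₁]
variable {V₂ : Type*} [AddCommGroup V₂] [Module F V₂]

/-- the number of vectors of value `c` -/
noncomputable def lev (Q : QuadraticForm F V) (c : F) : ℕ := Nat.card {v : V // Q v = c}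

theorem sum_lev [FiniteDimensional F V] (Q : QuadraticForm F V) :
    ∑ c : F, lev Q c = Fintype.card F ^ finrank F V := by
  classical
  have : Finite V := Module.finite_of_finite F
  have : Fintype V := Fintype.ofFinite V
  have htot : Nat.card V = ∑ c : F, Nat.card {v : V // Q v = c} := by
    rw [← Nat.card_sigma]
    exact Nat.card_congr (Equiv.sigmaFiberEquiv Q).symm
  unfold lev
  rw [← htot, Nat.card_eq_fintype_card, Module.card_eq_pow_finrank (K := F)]

omit [Fintype F] in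
theorem lev_congr {Q₁ : QuadraticForm F V₁} {Q₂ : QuadraticForm F V₂} (φ : V₁ ≃ₗ[F] V₂)
    (h : ∀ v, Q₂ (φ v) = Q₁ v) (c : F) : lev Q₁ c = lev Q₂ c := by
  unfold lev
  refine Nat.card_congr (Equiv.subtypeEquiv φ.toEquiv (fun v => ?_))
  show Q₁ v = c ↔ Q₂ (φ v) = c
  rw [h]

omit [Fintype F] in
theorem lev_similar {Q₁ : QuadraticForm F V₁} {Q₂ : QuadraticForm F V₂} (φ : V₁ ≃ₗ[F] V₂)
    (a : F) (ha : a ≠ 0) (h : ∀ v, Q₂ (φ v) = a * Q₁ v) (c : F) :
    lev Q₁ c = lev Q₂ (a * c) := by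
  unfold lev
  refine Nat.card_congr (Equiv.subtypeEquiv φ.toEquiv (fun v => ?_))
  show Q₁ v = c ↔ Q₂ (φ v) = a * c
  rw [h]
  constructor
  · intro h1
    rw [h1]
  · intro h1
    exact mul_left_cancel₀ ha h1

omit [Fintype F] in
theorem lev_neg (Q : QuadraticForm F V) (c : F) : lev (-Q) c = lev Q (-c) := by
  unfold lev
  refine Nat.card_congr (Equiv.subtypeEquivRight (fun v => ?_))
  show -Q v = c ↔ Q v = -c
  constructor
  · intro h
    rw [← h, neg_neg]
  · intro h
    rw [h, neg_neg]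

theorem lev_prod [FiniteDimensional F V₁] [FiniteDimensional F V₂] (Q₁ : QuadraticForm F V₁)
    (Q₂ : QuadraticForm F V₂) (c : F) :
    lev (Q₁.prod Q₂) c = ∑ d : F, lev Q₁ d * lev Q₂ (c - d) := by
  classical
  have : Finite V₁ := Module.finite_of_finite F
  have : Finite V₂ := Module.finite_of_finite F
  unfold lev
  have h1 : ∀ d : F, Nat.card {v : V₁ // Q₁ v = d} * Nat.card {v : V₂ // Q₂ v = c - d}
      = Nat.card ({v : V₁ // Q₁ v = d} × {v : V₂ // Q₂ v = c - d}) :=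
    fun d => (Nat.card_prod _ _).symm
  rw [Finset.sum_congr rfl (fun d _ => h1 d), ← Nat.card_sigma]
  apply Nat.card_congr
  refine ⟨fun p => ⟨Q₁ p.1.1, ⟨p.1.1, rfl⟩, ⟨p.1.2, ?_⟩⟩,
    fun s => ⟨(s.2.1.1, s.2.2.1), ?_⟩, ?_, ?_⟩
  · have h2 : Q₁ p.1.1 + Q₂ p.1.2 = c := by
      have := p.2
      rwa [QuadraticMap.prod_apply] at this
    show Q₂ p.1.2 = c - Q₁ p.1.1
    linear_combination h2
  · rw [QuadraticMap.prod_apply]
    show Q₁ s.2.1.1 + Q₂ s.2.2.1 = c
    rw [s.2.1.2, s.2.2.2]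
    ring
  · intro p
    rfl
  · rintro ⟨d, ⟨v₁, rfl⟩, v₂⟩
    rfl

end Cfsg.Agent.Helper8.OrT
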