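import Mathlib
import Cfsg.Agent.Helper8.OrTLev
import Cfsg.Agent.Helper8.StdTransfer
import Cfsg.Agent.Helper8.StdForms
import Cfsg.Agent.S0289
import Cfsg.Agent.S0290
set_option autoImplicit false

/-!
The two types of nondegenerate quadratic forms in even dimension over a finite field, recognised
by the number of singular vectors.
-/

namespace Cfsg.Agent.Helper8.OrT

open Module
open Cfsg.Agent.Helper8.QuadForm Cfsg.Agent.Helper8.StdForms Cfsg.Agent.Helper8.StdTransfer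

universe u v

variable {F : Type v} [Field F] [Fintype F]
variable {V : Type u} [AddCommGroup V] [Module F V]
variable {V₁ : Type*} [AddCommGroup V₁] [Module F V₁]
variable {V₂ : Type*} [AddCommGroup V₂] [Module F V₂]

/-- a form in dimension `2(k+1)` has `q^(2k+1) + s (q^(k+1) - q^k)` singular vectors -/
def NuS (s : ℤ) (Q : QuadraticForm F V) (k : ℕ) : Prop :=
  (lev Q 0 : ℤ) = (Fintype.card F : ℤ) ^ (2 * k + 1)
    + s * ((Fintype.card F : ℤ) ^ (k + 1) - (Fintype.card F : ℤ) ^ k)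

theorem two_le_q : 2 ≤ Fintype.card F := Fintype.one_lt_card

theorem pow_sub_pow_ne_zero (k : ℕ) :
    (Fintype.card F : ℤ) ^ (k + 1) - (Fintype.card F : ℤ) ^ k ≠ 0 := by
  have hq : (2 : ℤ) ≤ (Fintype.card F : ℤ) := by exact_mod_cast two_le_q (F := F)
  have h1 : (0 : ℤ) < (Fintype.card F : ℤ) ^ k := by positivity
  have h2 : (Fintype.card F : ℤ) ^ (k + 1) - (Fintype.card F : ℤ) ^ k
      = (Fintype.card F : ℤ) ^ k * ((Fintype.card F : ℤ) - 1) := by ring
  rw [h2]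
  have h3 : (0 : ℤ) < (Fintype.card F : ℤ) - 1 := by linarith
  exact (mul_pos h1 h3).ne'

theorem NuS.unique {s s' : ℤ} {Q : QuadraticForm F V} {k : ℕ} (h : NuS s Q k) (h' : NuS s' Q k) :
    s = s' := by
  unfold NuS at h h'
  rw [h] at h'
  have h1 := add_left_cancel h'
  exact mul_right_cancel₀ (pow_sub_pow_ne_zero k) h1

theorem NuS.congr {s : ℤ} {Q₁ : QuadraticForm F V₁} {Q₂ : QuadraticForm F V₂} {k : ℕ}
    (φ : V₁ ≃ₗ[F] V₂) (h : ∀ v, Q₂ (φ v) = Q₁ v) (h1 : NuS s Q₁ k) : NuS s Q₂ k := by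
  unfold NuS at h1 ⊢
  rw [← lev_congr φ h 0]
  exact h1

theorem nuS_plusForm (k : ℕ) : NuS 1 (plusForm F (k + 1)) k := by
  have hq := two_le_q (F := F)
  have h0 := Cfsg.Agent.S0289.result (F := F) rfl (k + 1) (by omega)
  have h1 : lev (plusForm F (k + 1)) 0
      = Fintype.card F ^ (2 * (k + 1) - 1) + Fintype.card F ^ (k + 1)
        - Fintype.card F ^ (k + 1 - 1) := by
    rw [← h0]
    unfold lev
    apply Nat.card_congr
    apply Equiv.subtypeEquivRight
    intro v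
    rw [plusForm_apply]
  have e1 : 2 * (k + 1) - 1 = 2 * k + 1 := by omega
  have e2 : k + 1 - 1 = k := by omega
  rw [e1, e2] at h1
  have hle : Fintype.card F ^ k ≤ Fintype.card F ^ (2 * k + 1) + Fintype.card F ^ (k + 1) :=
    le_trans (Nat.pow_le_pow_right (by omega) (by omega)) (Nat.le_add_left _ _)
  unfold NuS
  rw [h1, Nat.cast_sub hle]
  push_cast
  ring

theorem nuS_minusForm (k : ℕ) (a b : F)
    (hab : ∀ z₁ z₂ : F, z₁ ^ 2 + a * z₁ * z₂ + b * z₂ ^ 2 = 0 → z₁ = 0 ∧ z₂ = 0) :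
    NuS (-1) (minusForm F k a b) k := by
  have hq := two_le_q (F := F)
  have h0 := Cfsg.Agent.S0290.result (F := F) rfl (k + 1) (by omega) a b hab
  have h1 : lev (minusForm F k a b) 0
      = Fintype.card F ^ (2 * (k + 1) - 1) + Fintype.card F ^ (k + 1 - 1)
        - Fintype.card F ^ (k + 1) := by
    rw [← h0]
    unfold lev
    apply Nat.card_congr
    apply Equiv.subtypeEquivRight
    intro v
    rw [minusForm_apply]
    rfl
  have e1 : 2 * (k + 1) - 1 = 2 * k + 1 := by omega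
  have e2 : k + 1 - 1 = k := by omega
  rw [e1, e2] at h1
  have hle : Fintype.card F ^ (k + 1) ≤ Fintype.card F ^ (2 * k + 1) + Fintype.card F ^ k :=
    le_trans (Nat.pow_le_pow_right (by omega) (by omega)) (Nat.le_add_right _ _)
  unfold NuS
  rw [h1, Nat.cast_sub hle]
  push_cast
  ring

/-- elliptic data: a hyperbolic family and an orthogonal anisotropic pair -/
def IsEll (Q : QuadraticForm F V) {k : ℕ} (e f : Fin k → V) (x y : V) : Prop :=
  IsHyp Q e f ∧
    (∀ i, QuadraticMap.polar Q (e i) x = 0 ∧ QuadraticMap.polar Q (f i) x = 0) ∧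
    (∀ i, QuadraticMap.polar Q (e i) y = 0 ∧ QuadraticMap.polar Q (f i) y = 0) ∧
    Q x = 1 ∧ QuadraticMap.polar Q x y = 1 ∧ ∀ t : F, t ^ 2 + t + Q y ≠ 0

omit [Fintype F] in
theorem aniso_of_irred {ζ : F} (hζ : ∀ t : F, t ^ 2 + t + ζ ≠ 0) (z₁ z₂ : F)
    (h : z₁ ^ 2 + 1 * z₁ * z₂ + ζ * z₂ ^ 2 = 0) : z₁ = 0 ∧ z₂ = 0 := by
  have hz2 : z₂ = 0 := by
    by_contra hne
    apply hζ (z₁ / z₂)
    field_simp
    linear_combination h
  rw [hz2] at h
  refine ⟨?_, hz2⟩
  have : z₁ ^ 2 = 0 := by linear_combination h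
  exact pow_eq_zero_iff (two_ne_zero) |>.mp this

variable [FiniteDimensional F V]

omit [Fintype F] in
theorem IsEll.transfer {Q : QuadraticForm F V} {k : ℕ} {e f : Fin k → V} {x y : V}
    (h : IsEll Q e f x y) (hV : finrank F V = 2 * k + 2) :
    ∃ φ : V ≃ₗ[F] ((Fin k ⊕ Fin k) ⊕ Fin 2 → F), ∀ v, minusForm F k 1 (Q y) (φ v) = Q v := by
  obtain ⟨hhyp, hpx, hpy, hx, hxy, hζ⟩ := h
  obtain ⟨b, hb⟩ := exists_elliptic_basis Q hhyp hV hpx hpy hx hxy hζ
  obtain ⟨h1, h2, h3⟩ := hhyp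
  refine ⟨b.equivFun, minus_transfer Q b (Q y) ?_ ?_ ?_ ?_ ?_ ?_ ?_⟩
  · intro i
    rw [hb]
    exact h1 i
  · intro i j
    rw [hb]
    exact h2 i j
  · intro i j
    rw [hb]
    exact h3 i j
  · intro i c
    rw [hb]
    fin_cases c
    · exact hpx i
    · exact hpy i
  · rw [hb]
    exact hx
  · rw [hb]
    exact hxy
  · rw [hb]
    rfl

theorem IsEll.nuS {Q : QuadraticForm F V} {k : ℕ} {e f : Fin k → V} {x y : V}
    (h : IsEll Q e f x y) (hV : finrank F V = 2 * k + 2) : NuS (-1) Q k := by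
  obtain ⟨φ, hφ⟩ := h.transfer hV
  have h1 := nuS_minusForm (F := F) k 1 (Q y) (aniso_of_irred h.2.2.2.2.2)
  exact NuS.congr φ.symm (fun v => by rw [← hφ, LinearEquiv.apply_symm_apply]) h1

/-- **dichotomy**: a nondegenerate form in dimension `2(k+1)` is hyperbolic or elliptic -/
theorem dichotomy (k : ℕ) (hV : finrank F V = 2 * (k + 1)) (Q : QuadraticForm F V)
    (hQ : Nondeg Q) :
    (NuS 1 Q k ∧ ∃ φ : V ≃ₗ[F] (Fin (k + 1) ⊕ Fin (k + 1) → F),
        ∀ v, plusForm F (k + 1) (φ v) = Q v) ∨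
    (NuS (-1) Q k ∧ ∃ (e f : Fin k → V) (x y : V), IsEll Q e f x y) := by
  rcases exists_std_family k hV Q hQ with ⟨e, f, hhyp⟩ | ⟨e, f, x, y, h⟩
  · left
    obtain ⟨b, hb⟩ := hhyp.exists_basis Q hV
    obtain ⟨h1, h2, h3⟩ := hhyp
    have hφ : ∀ v, plusForm F (k + 1) (b.equivFun v) = Q v := by
      refine plus_transfer Q b ?_ ?_ ?_
      · intro i
        rw [hb]
        exact h1 i
      · intro i j
        rw [hb]
        exact h2 i j
      · intro i j
        rw [hb]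
        exact h3 i j
    refine ⟨?_, b.equivFun, hφ⟩
    exact NuS.congr b.equivFun.symm
      (fun v => by rw [← hφ, LinearEquiv.apply_symm_apply]) (nuS_plusForm k)
  · right
    have h' : IsEll Q e f x y := h
    exact ⟨h'.nuS (by rw [hV]; ring), e, f, x, y, h'⟩

end Cfsg.Agent.Helper8.OrT
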