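import Mathlib
import Cfsg.Agent.Helper8.OrTNu
import Cfsg.Agent.Helper8.OrthAniso
import Cfsg.Agent.Helper8.OrRSum
set_option autoImplicit false

/-!
Anisotropic planes over a finite field: level sets, and any two of them are isometric.
-/

namespace Cfsg.Agent.Helper8.OrT

open Module
open Cfsg.Agent.Helper8.QuadForm Cfsg.Agent.Helper8.StdForms Cfsg.Agent.Helper8.OrthAniso
  Cfsg.Agent.Helper8.OrR

universe u v

variable {F : Type v} [Field F] [Fintype F]

section plane

variable {V : Type u} [AddCommGroup V] [Module F V] [FiniteDimensional F V]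

/-- level sets of an anisotropic plane -/
theorem lev_plane (Q : QuadraticForm F V) (hnd : Nondeg Q) (hV : finrank F V = 2)
    (han : ∀ v, Q v = 0 → v = 0) :
    lev Q 0 = 1 ∧ ∀ c : F, c ≠ 0 → lev Q c = Fintype.card F + 1 := by
  classical
  obtain ⟨x, -, y, -, hx, hxy, hζ⟩ := exists_elliptic_pair Q (W := ⊤) (by rw [finrank_top, hV])
    (fun w _ hw => hnd w (fun w' => hw w' Submodule.mem_top)) (fun w _ hw => han w hw)
  have hli : LinearIndependent F ![x, y] :=
    linearIndependent_of_dual Q ![x, y] ![y - (2 * Q y) • x, x - (2 : F) • y]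
      (fun _ => 1 - 4 * Q y) (fun _ => one_sub_four_ne_zero hζ) (dual_ell Q hx hxy)
  obtain ⟨b, hb⟩ := exists_basis_of_li hli (by simp [hV])
  constructor
  · unfold lev
    have : Unique {v : V // Q v = 0} :=
      ⟨⟨⟨0, map_zero Q⟩⟩, fun v => Subtype.ext (han v.1 v.2)⟩
    exact Nat.card_unique
  · intro c hc
    obtain ⟨g, hg⟩ := exists_similarity_plane Q hx hxy b hb hnd hζ hc
    have h1 := lev_similar g c hc hg 1
    rw [mul_one] at h1
    rw [← h1]
    exact card_norm_one Q hx hxy b hb hnd hV han hζ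

end plane

section two

variable {V₁ : Type u} [AddCommGroup V₁] [Module F V₁] [FiniteDimensional F V₁]
variable {V₂ : Type u} [AddCommGroup V₂] [Module F V₂] [FiniteDimensional F V₂]

omit [Fintype F] [FiniteDimensional F V₂] in
theorem nondeg_neg (Q : QuadraticForm F V₂) (h : Nondeg Q) : Nondeg (-Q) := by
  intro v hv
  apply h v
  intro w
  have h1 : QuadraticMap.polar (-⇑Q) v w = 0 := hv w
  rw [QuadraticMap.polar_neg] at h1
  exact neg_eq_zero.mp h1

/-- the orthogonal sum of an anisotropic plane and the negative of another is hyperbolic -/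
theorem nuS_plane_sum (Q₁ : QuadraticForm F V₁) (Q₂ : QuadraticForm F V₂) (h₁ : Nondeg Q₁)
    (h₂ : Nondeg Q₂) (hV₁ : finrank F V₁ = 2) (hV₂ : finrank F V₂ = 2)
    (han₁ : ∀ v, Q₁ v = 0 → v = 0) (han₂ : ∀ v, Q₂ v = 0 → v = 0) :
    NuS 1 (Q₁.prod (-Q₂)) 1 := by
  classical
  obtain ⟨h10, h1c⟩ := lev_plane Q₁ h₁ hV₁ han₁
  obtain ⟨h20, h2c⟩ := lev_plane Q₂ h₂ hV₂ han₂
  have hsum : lev (Q₁.prod (-Q₂)) 0
      = 1 + (Fintype.card F - 1) * ((Fintype.card F + 1) * (Fintype.card F + 1)) := by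
    rw [lev_prod]
    have hterm : ∀ d : F, lev Q₁ d * lev (-Q₂) (0 - d) = lev Q₁ d * lev Q₂ d := by
      intro d
      rw [lev_neg, zero_sub, neg_neg]
    rw [Finset.sum_congr rfl (fun d _ => hterm d),
      ← Finset.add_sum_erase Finset.univ _ (Finset.mem_univ (0 : F)), h10, h20, one_mul]
    congr 1
    rw [Finset.sum_congr rfl (fun c hc => by
      rw [h1c c (Finset.ne_of_mem_erase hc), h2c c (Finset.ne_of_mem_erase hc)]),
      Finset.sum_const, Finset.card_erase_of_mem (Finset.mem_univ _), Finset.card_univ,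
      smul_eq_mul]
  have hq := two_le_q (F := F)
  unfold NuS
  rw [hsum]
  have h1 : ((Fintype.card F - 1 : ℕ) : ℤ) = (Fintype.card F : ℤ) - 1 := by
    rw [Nat.cast_sub (by omega)]
    simp
  push_cast
  rw [h1]
  ring

/-- **any two anisotropic planes over a finite field are isometric** -/
theorem exists_isometry_plane (Q₁ : QuadraticForm F V₁) (Q₂ : QuadraticForm F V₂)
    (h₁ : Nondeg Q₁) (h₂ : Nondeg Q₂) (hV₁ : finrank F V₁ = 2) (hV₂ : finrank F V₂ = 2)
    (han₁ : ∀ v, Q₁ v = 0 → v = 0) (han₂ : ∀ v, Q₂ v = 0 → v = 0) :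
    ∃ φ : V₁ ≃ₗ[F] V₂, ∀ v, Q₂ (φ v) = Q₁ v := by
  classical
  have hnu := nuS_plane_sum Q₁ Q₂ h₁ h₂ hV₁ hV₂ han₁ han₂
  have hnd : Nondeg (Q₁.prod (-Q₂)) := nondeg_prod _ _ h₁ (nondeg_neg Q₂ h₂)
  have hV : finrank F (V₁ × V₂) = 2 * (1 + 1) := by
    rw [Module.finrank_prod, hV₁, hV₂]
  rcases dichotomy 1 hV (Q₁.prod (-Q₂)) hnd with ⟨-, φ, hφ⟩ | ⟨hm, -⟩
  swap
  · exact absurd (hnu.unique hm) (by norm_num)
  -- the totally singular plane of vectors supported on the first half of the coordinates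
  set Q₄ := Q₁.prod (-Q₂) with hQ₄
  let ι₀ : (Fin (1 + 1) → F) →ₗ[F] (Fin (1 + 1) ⊕ Fin (1 + 1) → F) :=
    { toFun := fun c => Sum.elim c 0
      map_add' := by
        intro c d
        funext x
        rcases x with x | x <;> simp
      map_smul' := by
        intro a c
        funext x
        rcases x with x | x <;> simp }
  have hι₀ : Function.Injective ι₀ := by
    intro c d hcd
    funext j
    have := congrFun hcd (Sum.inl j)
    exact this
  let A : (Fin (1 + 1) → F) →ₗ[F] V₁ × V₂ :=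
    (φ.symm : (Fin (1 + 1) ⊕ Fin (1 + 1) → F) →ₗ[F] V₁ × V₂) ∘ₗ ι₀
  have hA : Function.Injective A := φ.symm.injective.comp hι₀
  have hQA : ∀ c, Q₁ (A c).1 = Q₂ (A c).2 := by
    intro c
    have h1 : Q₄ (A c) = 0 := by
      rw [← hφ]
      change plusForm F (1 + 1) (φ (φ.symm (ι₀ c))) = 0
      rw [LinearEquiv.apply_symm_apply, plusForm_apply]
      unfold Cfsg.quadFormPlus
      apply Finset.sum_eq_zero
      intro j _
      change c j * 0 = 0
      rw [mul_zero]
    rw [hQ₄, QuadraticMap.prod_apply] at h1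
    change Q₁ (A c).1 + -Q₂ (A c).2 = 0 at h1
    linear_combination h1
  let f₁ : (Fin (1 + 1) → F) →ₗ[F] V₁ := LinearMap.fst F V₁ V₂ ∘ₗ A
  let f₂ : (Fin (1 + 1) → F) →ₗ[F] V₂ := LinearMap.snd F V₁ V₂ ∘ₗ A
  have hf₁ : Function.Injective f₁ := by
    rw [injective_iff_map_eq_zero]
    intro c hc
    have hc1 : (A c).1 = 0 := hc
    have h2 : (A c).2 = 0 := by
      apply han₂
      rw [← hQA, hc1, map_zero]
    apply hA
    rw [map_zero]
    exact Prod.ext hc1 h2
  have hf₂ : Function.Injective f₂ := by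
    rw [injective_iff_map_eq_zero]
    intro c hc
    have hc2 : (A c).2 = 0 := hc
    have h1 : (A c).1 = 0 := by
      apply han₁
      rw [hQA, hc2, map_zero]
    apply hA
    rw [map_zero]
    exact Prod.ext h1 hc2
  have hd : finrank F (Fin (1 + 1) → F) = 2 := by
    rw [Module.finrank_fintype_fun_eq_card, Fintype.card_fin]
  let E₁ := LinearMap.linearEquivOfInjective f₁ hf₁ (by rw [hd, hV₁])
  let E₂ := LinearMap.linearEquivOfInjective f₂ hf₂ (by rw [hd, hV₂])
  refine ⟨E₁.symm.trans E₂, fun v => ?_⟩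
  obtain ⟨c, rfl⟩ := E₁.surjective v
  rw [LinearEquiv.trans_apply, LinearEquiv.symm_apply_apply]
  change Q₂ (f₂ c) = Q₁ (f₁ c)
  exact (hQA c).symm

end two

end Cfsg.Agent.Helper8.OrT
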