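import Mathlib
import Cfsg.Agent.Helper8.OrTPlane
set_option autoImplicit false

/-!
Nondegenerate quadratic forms of the same even dimension and the same number of singular vectors
over a finite field are isometric.
-/

namespace Cfsg.Agent.Helper8.OrT

open Module
open Cfsg.Agent.Helper8.QuadForm Cfsg.Agent.Helper8.StdForms

universe u v

variable {F : Type v} [Field F]

/-- the binary form `z₀² + z₀ z₁ + ζ z₁²` -/
noncomputable def nForm (ζ : F) : QuadraticForm F (Fin 2 → F) :=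
  QuadraticMap.proj (R := F) (A := F) 0 0 + QuadraticMap.proj (R := F) (A := F) 0 1
    + ζ • QuadraticMap.proj (R := F) (A := F) 1 1

theorem nForm_apply (ζ : F) (z : Fin 2 → F) :
    nForm ζ z = z 0 ^ 2 + z 0 * z 1 + ζ * z 1 ^ 2 := by
  unfold nForm
  rw [QuadraticMap.add_apply, QuadraticMap.add_apply, QuadraticMap.smul_apply,
    QuadraticMap.proj_apply, QuadraticMap.proj_apply, QuadraticMap.proj_apply, smul_eq_mul]
  ring

theorem nForm_aniso {ζ : F} (hζ : ∀ t : F, t ^ 2 + t + ζ ≠ 0) (z : Fin 2 → F)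
    (h : nForm ζ z = 0) : z = 0 := by
  rw [nForm_apply] at h
  have := aniso_of_irred hζ (z 0) (z 1) (by linear_combination h)
  funext j
  fin_cases j
  · exact this.1
  · exact this.2

theorem polar_nForm (ζ : F) (z w : Fin 2 → F) :
    QuadraticMap.polar (nForm ζ) z w
      = 2 * z 0 * w 0 + z 0 * w 1 + z 1 * w 0 + 2 * ζ * z 1 * w 1 := by
  unfold QuadraticMap.polar
  rw [nForm_apply, nForm_apply, nForm_apply, Pi.add_apply, Pi.add_apply]
  ring

theorem nForm_nondeg {ζ : F} (hζ : ∀ t : F, t ^ 2 + t + ζ ≠ 0) : Nondeg (nForm ζ) := by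
  intro z hz
  have h1 := hz ![1, 0]
  have h2 := hz ![0, 1]
  rw [polar_nForm] at h1 h2
  simp only [Matrix.cons_val_zero, Matrix.cons_val_one, mul_one, mul_zero,
    add_zero, zero_add] at h1 h2
  have h3 : (1 - 4 * ζ) * z 1 = 0 := by linear_combination h1 - 2 * h2
  have hz1 : z 1 = 0 := (mul_eq_zero.mp h3).resolve_left (one_sub_four_ne_zero hζ)
  have hz0 : z 0 = 0 := by
    rw [hz1] at h2
    linear_combination h2
  funext j
  fin_cases j
  · exact hz0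
  · exact hz1

theorem minusForm_split (k : ℕ) (ζ : F) (w : (Fin k ⊕ Fin k) ⊕ Fin 2 → F) :
    minusForm F k 1 ζ w = plusForm F k (fun j => w (Sum.inl j)) + nForm ζ (fun j => w (Sum.inr j)) := by
  rw [minusForm_apply, plusForm_apply, nForm_apply]
  unfold Cfsg.quadFormMinus Cfsg.quadFormPlus
  ring

variable [Fintype F]

/-- the standard elliptic forms with different parameters are isometric -/
theorem exists_isometry_minusForm (k : ℕ) {ζ₁ ζ₂ : F} (h₁ : ∀ t : F, t ^ 2 + t + ζ₁ ≠ 0)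
    (h₂ : ∀ t : F, t ^ 2 + t + ζ₂ ≠ 0) :
    ∃ ψ : ((Fin k ⊕ Fin k) ⊕ Fin 2 → F) ≃ₗ[F] ((Fin k ⊕ Fin k) ⊕ Fin 2 → F),
      ∀ w, minusForm F k 1 ζ₂ (ψ w) = minusForm F k 1 ζ₁ w := by
  have hd : finrank F (Fin 2 → F) = 2 := by
    rw [Module.finrank_fintype_fun_eq_card, Fintype.card_fin]
  obtain ⟨θ, hθ⟩ := exists_isometry_plane (nForm ζ₁) (nForm ζ₂) (nForm_nondeg h₁)
    (nForm_nondeg h₂) hd hd (nForm_aniso h₁) (nForm_aniso h₂)
  let S := LinearEquiv.sumArrowLequivProdArrow (Fin k ⊕ Fin k) (Fin 2) F F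
  refine ⟨S.trans ((LinearEquiv.prodCongr (LinearEquiv.refl F _) θ).trans S.symm), fun w => ?_⟩
  rw [minusForm_split, minusForm_split]
  congr 1
  exact hθ _

section main

variable {V₁ : Type u} [AddCommGroup V₁] [Module F V₁] [FiniteDimensional F V₁]
variable {V₂ : Type u} [AddCommGroup V₂] [Module F V₂] [FiniteDimensional F V₂]

/-- **isometry from the number of singular vectors** -/
theorem exists_isometry_of_nuS (k : ℕ) (hV₁ : finrank F V₁ = 2 * (k + 1))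
    (hV₂ : finrank F V₂ = 2 * (k + 1)) (Q₁ : QuadraticForm F V₁) (Q₂ : QuadraticForm F V₂)
    (h₁ : Nondeg Q₁) (h₂ : Nondeg Q₂) (s : ℤ) (hs₁ : NuS s Q₁ k) (hs₂ : NuS s Q₂ k) :
    ∃ φ : V₁ ≃ₗ[F] V₂, ∀ v, Q₂ (φ v) = Q₁ v := by
  rcases dichotomy k hV₁ Q₁ h₁ with ⟨hp₁, φ₁, hφ₁⟩ | ⟨hm₁, e, f, x, y, hell₁⟩
  · rcases dichotomy k hV₂ Q₂ h₂ with ⟨hp₂, φ₂, hφ₂⟩ | ⟨hm₂, -⟩
    · refine ⟨φ₁.trans φ₂.symm, fun v => ?_⟩
      rw [← hφ₂, LinearEquiv.trans_apply, LinearEquiv.apply_symm_apply, hφ₁]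
    · exfalso
      have e1 := hs₁.unique hp₁
      have e2 := hs₂.unique hm₂
      rw [e1] at e2
      norm_num at e2
  · rcases dichotomy k hV₂ Q₂ h₂ with ⟨hp₂, -⟩ | ⟨hm₂, e', f', x', y', hell₂⟩
    · exfalso
      have e1 := hs₁.unique hm₁
      have e2 := hs₂.unique hp₂
      rw [e1] at e2
      norm_num at e2
    · obtain ⟨φ₁, hφ₁⟩ := hell₁.transfer (by rw [hV₁]; ring)
      obtain ⟨φ₂, hφ₂⟩ := hell₂.transfer (by rw [hV₂]; ring)
      obtain ⟨ψ, hψ⟩ := exists_isometry_minusForm k hell₁.2.2.2.2.2 hell₂.2.2.2.2.2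
      refine ⟨φ₁.trans (ψ.trans φ₂.symm), fun v => ?_⟩
      rw [← hφ₂, LinearEquiv.trans_apply, LinearEquiv.trans_apply, LinearEquiv.apply_symm_apply,
        hψ, hφ₁]

/-- similitudes with arbitrary multiplier -/
theorem exists_similitude (k : ℕ) (hV₁ : finrank F V₁ = 2 * (k + 1)) (Q₁ : QuadraticForm F V₁)
    (h₁ : Nondeg Q₁) {c : F} (hc : c ≠ 0) :
    ∃ φ : V₁ ≃ₗ[F] V₁, ∀ v, Q₁ (φ v) = c * Q₁ v := by
  have hnd : Nondeg (c • Q₁) := by
    intro v hv
    apply h₁ v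
    intro w
    have h1 : QuadraticMap.polar (c • ⇑Q₁) v w = 0 := hv w
    rw [QuadraticMap.polar_smul, smul_eq_mul] at h1
    exact (mul_eq_zero.mp h1).resolve_left hc
  have hlev : lev (c • Q₁) 0 = lev Q₁ 0 := by
    unfold lev
    refine Nat.card_congr (Equiv.subtypeEquivRight (fun v => ?_))
    show c * Q₁ v = 0 ↔ Q₁ v = 0
    constructor
    · intro h
      exact (mul_eq_zero.mp h).resolve_left hc
    · intro h
      rw [h, mul_zero]
  rcases dichotomy k hV₁ Q₁ h₁ with ⟨hp, -⟩ | ⟨hm, -⟩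
  · have hp' : NuS 1 (c • Q₁) k := by
      unfold NuS at hp ⊢
      rw [hlev]
      exact hp
    obtain ⟨φ, hφ⟩ := exists_isometry_of_nuS k hV₁ hV₁ (c • Q₁) Q₁ hnd h₁ 1 hp' hp
    exact ⟨φ, fun v => hφ v⟩
  · have hm' : NuS (-1) (c • Q₁) k := by
      unfold NuS at hm ⊢
      rw [hlev]
      exact hm
    obtain ⟨φ, hφ⟩ := exists_isometry_of_nuS k hV₁ hV₁ (c • Q₁) Q₁ hnd h₁ (-1) hm' hm
    exact ⟨φ, fun v => hφ v⟩

/-- the level sets of a form of type `s` -/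
theorem lev_of_nuS (k : ℕ) (hV₁ : finrank F V₁ = 2 * (k + 1)) (Q₁ : QuadraticForm F V₁)
    (h₁ : Nondeg Q₁) (s : ℤ) (hs : NuS s Q₁ k) {c : F} (hc : c ≠ 0) :
    (lev Q₁ c : ℤ) = (Fintype.card F : ℤ) ^ (2 * k + 1) - s * (Fintype.card F : ℤ) ^ k := by
  classical
  have heq : ∀ d : F, d ≠ 0 → lev Q₁ d = lev Q₁ c := by
    intro d hd
    obtain ⟨φ, hφ⟩ := exists_similitude k hV₁ Q₁ h₁ (c := d / c) (div_ne_zero hd hc)
    have := lev_similar φ (d / c) (div_ne_zero hd hc) hφ c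
    rw [div_mul_cancel₀ _ hc] at this
    exact this.symm
  have htot := sum_lev Q₁
  rw [← Finset.add_sum_erase Finset.univ _ (Finset.mem_univ (0 : F)),
    Finset.sum_congr rfl (fun d hd => heq d (Finset.ne_of_mem_erase hd)), Finset.sum_const,
    Finset.card_erase_of_mem (Finset.mem_univ _), Finset.card_univ, smul_eq_mul, hV₁] at htot
  have hq := two_le_q (F := F)
  have h1 : ((Fintype.card F - 1 : ℕ) : ℤ) = (Fintype.card F : ℤ) - 1 := by
    rw [Nat.cast_sub (by omega)]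
    simp
  have htot' : (lev Q₁ 0 : ℤ) + ((Fintype.card F : ℤ) - 1) * (lev Q₁ c : ℤ)
      = (Fintype.card F : ℤ) ^ (2 * (k + 1)) := by
    rw [← h1]
    exact_mod_cast htot
  unfold NuS at hs
  rw [hs] at htot'
  have hq1 : ((Fintype.card F : ℤ) - 1) ≠ 0 := by
    have : (2 : ℤ) ≤ (Fintype.card F : ℤ) := by exact_mod_cast hq
    intro h
    linarith
  apply mul_left_cancel₀ hq1
  have e1 : (Fintype.card F : ℤ) ^ (2 * (k + 1)) = (Fintype.card F : ℤ) ^ (2 * k + 1) * (Fintype.card F : ℤ) := by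
    rw [← pow_succ]
    congr 1
  rw [e1] at htot'
  have e2 : (Fintype.card F : ℤ) ^ (k + 1) = (Fintype.card F : ℤ) ^ k * (Fintype.card F : ℤ) := pow_succ _ _
  rw [e2] at htot'
  linear_combination htot'

end main

end Cfsg.Agent.Helper8.OrT
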