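import Mathlib
import Cfsg.Agent.Helper8.OrTIso
import Cfsg.Agent.Helper8.OrthOrder
set_option autoImplicit false

/-!
The type of a nondegenerate even-dimensional quadratic space admitting an isometry of prime order
`r` (not the characteristic) without nonzero fixed vectors: `q ^ (dim / 2) ≡ s (mod r)`.
-/

namespace Cfsg.Agent.Helper8.OrT

open Module
open Cfsg.Agent.Helper8.QuadForm Cfsg.Agent.Helper8.OrthOrder

universe u v

variable {F : Type v} [Field F] [Fintype F]
variable {V : Type u} [AddCommGroup V] [Module F V]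

/-- the action of the isometry group on a level set -/
noncomputable def levPerm (Q : QuadraticForm F V) (c : F) :
    ↥(Isom Q) →* Equiv.Perm {v : V // Q v = c} where
  toFun g :=
    { toFun := fun v => ⟨g.1 v.1, by rw [g.2 v.1, v.2]⟩
      invFun := fun v => ⟨(g⁻¹).1 v.1, by rw [(g⁻¹).2 v.1, v.2]⟩
      left_inv := by
        intro v
        apply Subtype.ext
        change (g⁻¹).1 (g.1 v.1) = v.1
        rw [← LinearEquiv.mul_apply, ← Subgroup.coe_mul, inv_mul_cancel]
        rfl
      right_inv := by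
        intro v
        apply Subtype.ext
        change g.1 ((g⁻¹).1 v.1) = v.1
        rw [← LinearEquiv.mul_apply, ← Subgroup.coe_mul, mul_inv_cancel]
        rfl }
  map_one' := by
    ext v
    rfl
  map_mul' a b := by
    ext v
    rfl

omit [Fintype F] in
theorem levPerm_apply (Q : QuadraticForm F V) (c : F) (g : ↥(Isom Q)) (v : {v : V // Q v = c}) :
    (levPerm Q c g v : V) = g.1 v.1 := rfl

variable [FiniteDimensional F V]

theorem dvd_lev_of_isometry (Q : QuadraticForm F V) (r : ℕ) [hr : Fact r.Prime]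
    (g : V ≃ₗ[F] V) (hg : ∀ v, Q (g v) = Q v) (hgr : g ^ r = 1) (hfix : ∀ v, g v = v → v = 0) :
    r ∣ lev Q 1 := by
  classical
  have : Finite V := Module.finite_of_finite F
  have : Fintype {v : V // Q v = 1} := Fintype.ofFinite _
  set σ := levPerm Q 1 ⟨g, hg⟩ with hσ
  have hσr : σ ^ r ^ 1 = 1 := by
    rw [pow_one, hσ, ← map_pow]
    have : (⟨g, hg⟩ : ↥(Isom Q)) ^ r = 1 := by
      apply Subtype.ext
      rw [Subgroup.coe_pow]
      exact hgr
    rw [this, map_one]
  have h1 := Equiv.Perm.card_compl_support_modEq hσr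
  have hsupp : (Equiv.Perm.support σ)ᶜ = ∅ := by
    rw [Finset.compl_eq_empty_iff]
    apply Finset.eq_univ_of_forall
    intro v
    rw [Equiv.Perm.mem_support]
    intro hv
    have h2 : g v.1 = v.1 := by
      have := congrArg Subtype.val hv
      exact this
    have h3 := hfix v.1 h2
    have h4 := v.2
    rw [h3, map_zero] at h4
    exact zero_ne_one h4
  rw [hsupp, Finset.card_empty] at h1
  unfold lev
  rw [Nat.card_eq_fintype_card]
  exact (Nat.modEq_zero_iff_dvd.mp h1.symm)

theorem pow_eq_of_isometry (k : ℕ) (hV : finrank F V = 2 * (k + 1)) (Q : QuadraticForm F V)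
    (hQ : Nondeg Q) (s : ℤ) (hs : NuS s Q k) (r : ℕ) [hr : Fact r.Prime]
    (hrq : ¬ r ∣ Fintype.card F)
    (g : V ≃ₗ[F] V) (hg : ∀ v, Q (g v) = Q v) (hgr : g ^ r = 1) (hfix : ∀ v, g v = v → v = 0) :
    ((Fintype.card F : ℕ) : ZMod r) ^ (k + 1) = (s : ZMod r) := by
  have h1 := dvd_lev_of_isometry Q r g hg hgr hfix
  have h2 := lev_of_nuS k hV Q hQ s hs (one_ne_zero (α := F))
  have h3 : ((lev Q 1 : ℕ) : ZMod r) = 0 := (ZMod.natCast_eq_zero_iff _ _).mpr h1
  have h4 : (((lev Q 1 : ℕ) : ℤ) : ZMod r)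
      = ((Fintype.card F : ℕ) : ZMod r) ^ (2 * k + 1) - (s : ZMod r) * ((Fintype.card F : ℕ) : ZMod r) ^ k := by
    rw [h2]
    push_cast
    ring
  rw [Int.cast_natCast, h3] at h4
  have hq0 : ((Fintype.card F : ℕ) : ZMod r) ≠ 0 := by
    intro h
    exact hrq ((ZMod.natCast_eq_zero_iff _ _).mp h)
  have h5 : ((Fintype.card F : ℕ) : ZMod r) ^ k *
      (((Fintype.card F : ℕ) : ZMod r) ^ (k + 1) - (s : ZMod r)) = 0 := by
    have e : 2 * k + 1 = k + (k + 1) := by ring
    rw [e, pow_add] at h4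
    linear_combination -h4
  rcases mul_eq_zero.mp h5 with h | h
  · exact absurd (pow_eq_zero_iff (n := k) (by
      intro hk
      subst hk
      simp at h) |>.mp h) hq0
  · exact sub_eq_zero.mp h

end Cfsg.Agent.Helper8.OrT
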