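import Mathlib
import Cfsg.Agent.Helper8.OrTIso
set_option autoImplicit false

/-!
The type of an orthogonal sum of two nondegenerate even-dimensional quadratic spaces over a finite
field is the product of the types.
-/

namespace Cfsg.Agent.Helper8.OrT

open Module
open Cfsg.Agent.Helper8.QuadForm

universe u v

variable {F : Type v} [Field F] [Fintype F]
variable {V₁ : Type u} [AddCommGroup V₁] [Module F V₁] [FiniteDimensional F V₁]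
variable {V₂ : Type u} [AddCommGroup V₂] [Module F V₂] [FiniteDimensional F V₂]

theorem nuS_prod (k₁ k₂ : ℕ) (hV₁ : finrank F V₁ = 2 * (k₁ + 1))
    (hV₂ : finrank F V₂ = 2 * (k₂ + 1)) (Q₁ : QuadraticForm F V₁) (Q₂ : QuadraticForm F V₂)
    (h₁ : Nondeg Q₁) (h₂ : Nondeg Q₂) (s₁ s₂ : ℤ) (hs₁ : NuS s₁ Q₁ k₁) (hs₂ : NuS s₂ Q₂ k₂) :
    NuS (s₁ * s₂) (Q₁.prod Q₂) (k₁ + k₂ + 1) := by
  classical
  have hq := two_le_q (F := F)
  have hl₁ : ∀ c : F, c ≠ 0 → (lev Q₁ c : ℤ)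
      = (Fintype.card F : ℤ) ^ (2 * k₁ + 1) - s₁ * (Fintype.card F : ℤ) ^ k₁ :=
    fun c hc => lev_of_nuS k₁ hV₁ Q₁ h₁ s₁ hs₁ hc
  have hl₂ : ∀ c : F, c ≠ 0 → (lev Q₂ c : ℤ)
      = (Fintype.card F : ℤ) ^ (2 * k₂ + 1) - s₂ * (Fintype.card F : ℤ) ^ k₂ :=
    fun c hc => lev_of_nuS k₂ hV₂ Q₂ h₂ s₂ hs₂ hc
  have hsum : (lev (Q₁.prod Q₂) 0 : ℤ) = (lev Q₁ 0 : ℤ) * (lev Q₂ 0 : ℤ)
      + ((Fintype.card F : ℤ) - 1) *
        (((Fintype.card F : ℤ) ^ (2 * k₁ + 1) - s₁ * (Fintype.card F : ℤ) ^ k₁) *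
          ((Fintype.card F : ℤ) ^ (2 * k₂ + 1) - s₂ * (Fintype.card F : ℤ) ^ k₂)) := by
    rw [lev_prod]
    push_cast
    rw [← Finset.add_sum_erase Finset.univ _ (Finset.mem_univ (0 : F)), sub_zero]
    congr 1
    have hterm : ∀ d ∈ Finset.univ.erase (0 : F),
        (lev Q₁ d : ℤ) * (lev Q₂ (0 - d) : ℤ)
          = ((Fintype.card F : ℤ) ^ (2 * k₁ + 1) - s₁ * (Fintype.card F : ℤ) ^ k₁) *
          ((Fintype.card F : ℤ) ^ (2 * k₂ + 1) - s₂ * (Fintype.card F : ℤ) ^ k₂) := by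
      intro d hd
      have hd0 : d ≠ 0 := Finset.ne_of_mem_erase hd
      rw [hl₁ d hd0, hl₂ (0 - d) (by rw [zero_sub]; exact neg_ne_zero.mpr hd0)]
    rw [Finset.sum_congr rfl hterm, Finset.sum_const, Finset.card_erase_of_mem (Finset.mem_univ _),
      Finset.card_univ, nsmul_eq_mul, Nat.cast_sub (by omega)]
    simp
  unfold NuS at hs₁ hs₂ ⊢
  rw [hsum, hs₁, hs₂]
  have e1 : (Fintype.card F : ℤ) ^ (2 * (k₁ + k₂ + 1) + 1)
      = (Fintype.card F : ℤ) ^ (2 * k₁ + 1) * (Fintype.card F : ℤ) ^ (2 * k₂ + 1)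
        * (Fintype.card F : ℤ) := by
    rw [← pow_add, ← pow_succ]
    congr 1
    ring
  have e2 : (Fintype.card F : ℤ) ^ (k₁ + k₂ + 1 + 1)
      = (Fintype.card F : ℤ) ^ k₁ * (Fintype.card F : ℤ) ^ k₂ * (Fintype.card F : ℤ) ^ 2 := by
    rw [← pow_add, ← pow_add]
  have e3 : (Fintype.card F : ℤ) ^ (k₁ + k₂ + 1)
      = (Fintype.card F : ℤ) ^ k₁ * (Fintype.card F : ℤ) ^ k₂ * (Fintype.card F : ℤ) := by
    rw [← pow_add, ← pow_succ]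
  have e4 : (Fintype.card F : ℤ) ^ (k₁ + 1) = (Fintype.card F : ℤ) ^ k₁ * (Fintype.card F : ℤ) :=
    pow_succ _ _
  have e5 : (Fintype.card F : ℤ) ^ (k₂ + 1) = (Fintype.card F : ℤ) ^ k₂ * (Fintype.card F : ℤ) :=
    pow_succ _ _
  rw [e1, e2, e3, e4, e5]
  ring

end Cfsg.Agent.Helper8.OrT
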