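import Mathlib
import Cfsg.Agent.Helper8.OrTSum
import Cfsg.Agent.Helper8.OrTModR
import Cfsg.Agent.Helper8.OrRSum
set_option autoImplicit false

/-!
Even-dimensional orthogonal groups: the type forced by an element of odd prime order without
fixed vectors, and the construction of orthogonal elements from symplectic ones.
-/

namespace Cfsg.Agent.Helper8.OrR

open Polynomial Module Matrix
open Cfsg.Agent.Helper8.QuadForm Cfsg.Agent.Helper8.StdForms Cfsg.Agent.Helper8.OrT
  Cfsg.Agent.Helper8.OrthOrder Cfsg.Agent.Helper8.ReflMatrix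

universe v

variable {F : Type v} [Field F]

section fixed

variable {n : Type*} [Fintype n] [DecidableEq n]

theorem no_fixed_of_coprime (A : Matrix n n F) (h : IsCoprime (X - 1 : F[X]) A.charpoly)
    (v : n → F) (hv : A *ᵥ v = v) : v = 0 := by
  obtain ⟨a, b, hab⟩ := h
  have h1 := congrArg (aeval A) hab
  rw [map_add, map_mul, map_mul, Matrix.aeval_self_charpoly, mul_zero, add_zero, map_sub,
    aeval_X, map_one] at h1
  have h2 : (aeval A a * (A - 1)) *ᵥ v = v := by rw [h1, Matrix.one_mulVec]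
  rw [← Matrix.mulVec_mulVec, Matrix.sub_mulVec, hv, Matrix.one_mulVec, sub_self,
    Matrix.mulVec_zero] at h2
  exact h2.symm

end fixed

/-- the type of the form forced by the exponents -/
def typ (i S : ℕ) : ℤ := if Odd i ∨ Even S then 1 else -1

theorem typ_eq (i S : ℕ) : typ i S = 1 ∨ typ i S = -1 := by
  unfold typ
  split_ifs
  · exact Or.inl rfl
  · exact Or.inr rfl

theorem typ_mul_self (i S : ℕ) : typ i S * typ i S = 1 := by
  rcases typ_eq i S with h | h <;> rw [h] <;> norm_num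

variable [Fintype F]

theorem exists_irred : ∃ ζ : F, ∀ t : F, t ^ 2 + t + ζ ≠ 0 := by
  have hni : ¬ Function.Injective (fun t : F => -(t ^ 2 + t)) := by
    intro hinj
    have h1 : (fun t : F => -(t ^ 2 + t)) 0 = (fun t : F => -(t ^ 2 + t)) (-1) := by
      simp
    have := hinj h1
    have h2 : (1 : F) = 0 := by linear_combination this
    exact one_ne_zero h2
  have hns : ¬ Function.Surjective (fun t : F => -(t ^ 2 + t)) :=
    fun hs => hni (Finite.injective_iff_surjective.mpr hs)
  rw [Function.Surjective] at hns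
  push Not at hns
  obtain ⟨ζ, hζ⟩ := hns
  refine ⟨ζ, fun t ht => hζ t ?_⟩
  change -(t ^ 2 + t) = ζ
  linear_combination -ht

section typ

variable {V : Type*} [AddCommGroup V] [Module F V] [FiniteDimensional F V]

/-- the type of a quadratic space with an isometry of order `r` without fixed vectors whose
characteristic polynomial is a product of `S` factors of degree `i` -/
theorem typ_of_isometry (k : ℕ) (hV : finrank F V = 2 * (k + 1)) (Q : QuadraticForm F V)
    (hQ : Nondeg Q) (s : ℤ) (hs1 : s = 1 ∨ s = -1) (hs : NuS s Q k) (r : ℕ) (hr : r.Prime)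
    (hr2 : r ≠ 2) (hrq : ¬ r ∣ Fintype.card F)
    (g : V ≃ₗ[F] V) (hg : ∀ v, Q (g v) = Q v) (hgr : g ^ r = 1) (hfix : ∀ v, g v = v → v = 0)
    (i S : ℕ) (hi : i = orderOf ((Fintype.card F : ℕ) : ZMod r)) (hi0 : 0 < i)
    (hdim : 2 * (k + 1) = S * i) (hS : Odd i → Even S) : s = typ i S := by
  have : Fact r.Prime := ⟨hr⟩
  have h1 := pow_eq_of_isometry k hV Q hQ s hs r hrq g hg hgr hfix
  have hneg : (-1 : ZMod r) ≠ 1 := by
    intro h
    have h2 : ((2 : ℕ) : ZMod r) = 0 := by
      push_cast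
      linear_combination -h
    rw [ZMod.natCast_eq_zero_iff] at h2
    have := (Nat.prime_dvd_prime_iff_eq hr Nat.prime_two).mp h2
    exact hr2 this
  have hqi : ((Fintype.card F : ℕ) : ZMod r) ^ i = 1 := by
    rw [hi]
    exact pow_orderOf_eq_one _
  unfold typ
  by_cases hodd : Odd i
  · rw [if_pos (Or.inl hodd)]
    obtain ⟨S', hS'⟩ := hS hodd
    have hk : k + 1 = i * S' := by
      rw [hS'] at hdim
      have : 2 * (k + 1) = 2 * (i * S') := by rw [hdim]; ring
      omega
    rw [hk, pow_mul, hqi, one_pow] at h1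
    rcases hs1 with h | h
    · exact h
    · exfalso
      rw [h] at h1
      push_cast at h1
      exact hneg h1.symm
  · have heven : Even i := Nat.not_odd_iff_even.mp hodd
    obtain ⟨d, hd⟩ := heven
    have hd0 : 0 < d := by omega
    have hqd : ((Fintype.card F : ℕ) : ZMod r) ^ d = -1 := by
      have h2 : (((Fintype.card F : ℕ) : ZMod r) ^ d) * (((Fintype.card F : ℕ) : ZMod r) ^ d) = 1 := by
        rw [← pow_add, ← hd, hqi]
      rcases mul_self_eq_one_iff.mp h2 with h3 | h3
      · exfalso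
        have h4 := orderOf_dvd_of_pow_eq_one h3
        rw [← hi] at h4
        have := Nat.le_of_dvd hd0 h4
        omega
      · exact h3
    have hk : k + 1 = d * S := by
      rw [hd] at hdim
      have : 2 * (k + 1) = 2 * (d * S) := by rw [hdim]; ring
      omega
    rw [hk, pow_mul, hqd] at h1
    by_cases hSe : Even S
    · rw [if_pos (Or.inr hSe)]
      rw [hSe.neg_one_pow] at h1
      rcases hs1 with h | h
      · exact h
      · exfalso
        rw [h] at h1
        push_cast at h1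
        exact hneg h1.symm
    · rw [if_neg (by tauto)]
      rw [(Nat.not_even_iff_odd.mp hSe).neg_one_pow] at h1
      rcases hs1 with h | h
      · exfalso
        rw [h] at h1
        push_cast at h1
        exact hneg h1
      · exact h

end typ

section construct

variable {ι : Type} [Fintype ι] [DecidableEq ι]

/-- construction without eigenvalue one -/
theorem exists_orth_even_zero (Q₀ : QuadraticForm F (ι → F)) (hQ₀ : Nondeg Q₀) (k : ℕ)
    (hι : finrank F (ι → F) = 2 * (k + 1)) (ε : ℤ) (hν : NuS ε Q₀ k)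
    (g : symplecticGroup (Fin (k + 1)) F) (N : ℕ) (hodd : Odd N) (hgN : g ^ N = 1)
    (hcop : IsCoprime (X - 1 : F[X]) g.1.charpoly)
    (htyp : ∀ QW : QuadraticForm F (Fin (k + 1) ⊕ Fin (k + 1) → F), Nondeg QW →
      (∀ v, QW (spLin g v) = QW v) → NuS ε QW k) :
    ∃ h : ↥(Cfsg.isometryGroup F ⇑Q₀), h ^ N = 1 ∧
      ((h : GL ι F) : Matrix ι ι F).charpoly = g.1.charpoly := by
  have key := exists_orth_of_sum Q₀ (0 : QuadraticForm F (Fin 0 → F)) g N hodd hgN hcop ?_
  · obtain ⟨h, h1, h2⟩ := key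
    refine ⟨h, h1, ?_⟩
    rw [h2, Module.finrank_fintype_fun_eq_card, Fintype.card_fin, pow_zero, one_mul]
  · intro QW hQW1 hQW2
    obtain ⟨φ, hφ⟩ := exists_isometry_of_nuS k (finrank_plus F (k + 1)) hι QW Q₀ hQW1 hQ₀ ε
      (htyp QW hQW1 hQW2) hν
    refine ⟨1, (LinearEquiv.uniqueProd (R := F) (M := (Fin (k + 1) ⊕ Fin (k + 1) → F))
      (M₂ := (Fin 0 → F))).trans φ, fun x => ?_⟩
    rw [LinearEquiv.trans_apply, hφ, QuadraticMap.prod_apply, one_mul]
    change QW x.2 = (0 : F) + QW x.2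
    rw [zero_add]

/-- construction with eigenvalue one -/
theorem exists_orth_even_pos (Q₀ : QuadraticForm F (ι → F)) (hQ₀ : Nondeg Q₀)
    {U : Type v} [AddCommGroup U] [Module F U] [FiniteDimensional F U] (QU : QuadraticForm F U)
    (hU : Nondeg QU) (k' : ℕ) (hUdim : finrank F U = 2 * (k' + 1)) (sU : ℤ) (hsU : NuS sU QU k')
    (k : ℕ) (g : symplecticGroup (Fin (k + 1)) F) (N : ℕ) (hodd : Odd N) (hgN : g ^ N = 1)
    (hcop : IsCoprime (X - 1 : F[X]) g.1.charpoly) (sW : ℤ)
    (htyp : ∀ QW : QuadraticForm F (Fin (k + 1) ⊕ Fin (k + 1) → F), Nondeg QW →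
      (∀ v, QW (spLin g v) = QW v) → NuS sW QW k)
    (k₀ : ℕ) (hk₀ : k₀ = k' + k + 1) (hι : finrank F (ι → F) = 2 * (k₀ + 1))
    (hν : NuS (sU * sW) Q₀ k₀) :
    ∃ h : ↥(Cfsg.isometryGroup F ⇑Q₀), h ^ N = 1 ∧
      ((h : GL ι F) : Matrix ι ι F).charpoly = (X - 1) ^ (2 * (k' + 1)) * g.1.charpoly := by
  have key := exists_orth_of_sum Q₀ QU g N hodd hgN hcop ?_
  · rw [hUdim] at key
    exact key
  · intro QW hQW1 hQW2
    have hW : finrank F (Fin (k + 1) ⊕ Fin (k + 1) → F) = 2 * (k + 1) := finrank_plus F (k + 1)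
    have h1 := nuS_prod k' k hUdim hW QU QW hU hQW1 sU sW hsU (htyp QW hQW1 hQW2)
    rw [← hk₀] at h1
    have hdim : finrank F (U × (Fin (k + 1) ⊕ Fin (k + 1) → F)) = 2 * (k₀ + 1) := by
      rw [Module.finrank_prod, hUdim, hW, hk₀]
      ring
    obtain ⟨φ, hφ⟩ := exists_isometry_of_nuS k₀ hdim hι (QU.prod QW) Q₀
      (nondeg_prod _ _ hU hQW1) hQ₀ (sU * sW) h1 hν
    exact ⟨1, φ, fun x => by rw [hφ, one_mul]⟩

end construct

end Cfsg.Agent.Helper8.OrR
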