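import Cfsg.Agent.Helper8.SemiSSLClasses
set_option autoImplicit false

namespace Cfsg.Agent.Helper8.SemiS

open Polynomial Module Matrix

/-- Abstract counting principle: classes of elements with a conjugation-invariant property `P`,
classified by an invariant `inv`, are counted by the values of the invariant. -/
theorem card_classes_of_invariant {G : Type*} [Group G] {T : Type*} (P : G → Prop) (inv : G → T)
    (Q : T → Prop)
    (hiff : ∀ g g', P g → P g' → (IsConj g g' ↔ inv g = inv g'))
    (hPQ : ∀ g, P g → Q (inv g))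
    (hsurj : ∀ t, Q t → ∃ g, P g ∧ inv g = t) :
    Nat.card {C : ConjClasses G // ∃ g : G, ConjClasses.mk g = C ∧ P g} = Nat.card {t // Q t} := by
  classical
  apply Nat.card_congr
  let rep : {C : ConjClasses G // ∃ g : G, ConjClasses.mk g = C ∧ P g} → G :=
    fun C => Classical.choose C.2
  have hrep1 : ∀ C, ConjClasses.mk (rep C) = C.1 := fun C => (Classical.choose_spec C.2).1
  have hrep2 : ∀ C, P (rep C) := fun C => (Classical.choose_spec C.2).2
  refine Equiv.ofBijective (fun C => ⟨inv (rep C), hPQ _ (hrep2 C)⟩) ⟨?_, ?_⟩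
  · intro C C' h
    have h0 : inv (rep C) = inv (rep C') := congrArg Subtype.val h
    apply Subtype.ext
    rw [← hrep1 C, ← hrep1 C', ConjClasses.mk_eq_mk_iff_isConj]
    exact (hiff _ _ (hrep2 C) (hrep2 C')).mpr h0
  · rintro ⟨t, ht⟩
    obtain ⟨g, hg1, hg2⟩ := hsurj t ht
    let C : {C : ConjClasses G // ∃ g : G, ConjClasses.mk g = C ∧ P g} :=
      ⟨ConjClasses.mk g, g, rfl, hg1⟩
    refine ⟨C, ?_⟩
    apply Subtype.ext
    change inv (rep C) = t
    rw [← hg2]
    have h3 : IsConj (rep C) g := ConjClasses.mk_eq_mk_iff_isConj.mp (hrep1 C)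
    exact (hiff _ _ (hrep2 C) hg1).mp h3

variable {F : Type*} [Field F]

theorem aeval_mulX_apply' (M : Type*) [AddCommGroup M] [Module F[X] M] [Module F M]
    [IsScalarTower F F[X] M] (h : F[X]) (m : M) : (aeval (mulX F M) h) m = h • m := by
  induction h using Polynomial.induction_on' with
  | add p q hp hq => rw [map_add, LinearMap.add_apply, hp, hq, add_smul]
  | monomial k c =>
    rw [← C_mul_X_pow_eq_monomial, map_mul, aeval_C, map_pow, aeval_X, Module.End.mul_apply,
      mulX_pow_apply, Module.algebraMap_end_apply, mul_smul, ← IsScalarTower.algebraMap_smul F[X] c,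
      Polynomial.algebraMap_apply, Algebra.algebraMap_self_apply]

/-- realize a family of monic polynomials dividing `h` by a matrix killed by `h` -/
theorem exists_matrix_of_family {d : ℕ} (P : Fin d → F[X]) (hP : ∀ i, (P i).Monic)
    (n : ℕ) (hn : ∑ i, (P i).natDegree = n) (h : F[X]) (hdvd : ∀ i, P i ∣ h) :
    ∃ A : Matrix (Fin n) (Fin n) F, A.charpoly = ∏ i, P i ∧ aeval A h = 0 := by
  have : ∀ i, Fact (P i).Monic := fun i => ⟨hP i⟩
  let M := ∀ i, F[X] ⧸ (F[X] ∙ P i)
  have hfin : finrank F M = finrank F (Fin n → F) := by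
    rw [Module.finrank_pi_fintype, Module.finrank_fin_fun]
    simp only [finrank_quot]
    exact hn
  let θ : M ≃ₗ[F] (Fin n → F) := LinearEquiv.ofFinrankEq _ _ hfin
  let φ : Module.End F (Fin n → F) := θ.conj (mulX F M)
  let A : Matrix (Fin n) (Fin n) F := LinearMap.toMatrix' φ
  have hA : Matrix.toLin' A = φ := Matrix.toLin'_toMatrix' φ
  refine ⟨A, ?_, ?_⟩
  · rw [← Matrix.charpoly_toLin', hA, LinearEquiv.charpoly_conj, charpoly_mulX_pi]
  · apply Matrix.toLin'.injective
    have h1 := Polynomial.aeval_algHom_apply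
      (Matrix.toLinAlgEquiv' (R := F) (n := Fin n)).toAlgHom A h
    change aeval (Matrix.toLin' A) h = Matrix.toLin' (aeval A h) at h1
    rw [← h1, hA, map_zero]
    have h2 := Polynomial.aeval_algHom_apply (θ.conjAlgEquiv F).toAlgHom (mulX F M) h
    change aeval (θ.conj (mulX F M)) h = θ.conjAlgEquiv F (aeval (mulX F M) h) at h2
    change aeval (θ.conj (mulX F M)) h = 0
    rw [h2]
    have h3 : aeval (mulX F M) h = 0 := by
      apply LinearMap.ext
      intro y
      rw [aeval_mulX_apply', LinearMap.zero_apply]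
      funext i
      change h • y i = 0
      obtain ⟨c, hc⟩ := hdvd i
      obtain ⟨z, hz⟩ := Submodule.Quotient.mk_surjective _ (y i)
      rw [← hz, ← Submodule.Quotient.mk_smul, Submodule.Quotient.mk_eq_zero,
        Submodule.mem_span_singleton]
      exact ⟨c * z, by rw [hc, smul_eq_mul, smul_eq_mul]; ring⟩
    rw [h3, map_zero]

variable {V : Type*} [AddCommGroup V] [Module F V] [FiniteDimensional F V]

/-- `exists_model` together with the divisibility of the factors -/
theorem exists_model' (φ : Module.End F V) (g : F[X]) (hg : Squarefree g) (hφ : aeval φ g = 0) :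
    ∃ (d : ℕ) (P : Fin d → F[X]), (∀ i, (P i).Monic ∧ Irreducible (P i)) ∧ (∀ i, P i ∣ g) ∧
      Nonempty (AEval' φ ≃ₗ[F[X]] (∀ i : Fin d, F[X] ⧸ (F[X] ∙ P i))) := by
  classical
  obtain ⟨d, P, hP, ⟨Ψ⟩⟩ := exists_model φ g hg hφ
  refine ⟨d, P, hP, ?_, ⟨Ψ⟩⟩
  intro i
  have hkill : ∀ m : AEval' φ, g • m = 0 := by
    intro m
    obtain ⟨v, rfl⟩ := (AEval'.of φ).surjective m
    change g • (AEval'.of φ) v = 0
    rw [← AEval.of_aeval_smul, hφ]
    simp
  have h1 : g • Ψ.symm (Pi.single i (Submodule.Quotient.mk 1)) = 0 := hkill _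
  rw [← map_smul, LinearEquiv.map_eq_zero_iff] at h1
  have h2 := congrFun h1 i
  rw [Pi.smul_apply, Pi.single_eq_same, Pi.zero_apply, ← Submodule.Quotient.mk_smul, smul_eq_mul,
    mul_one, Submodule.Quotient.mk_eq_zero, Submodule.mem_span_singleton] at h2
  obtain ⟨c, hc⟩ := h2
  exact ⟨c, by rw [← hc, smul_eq_mul, mul_comm]⟩

/-- the characteristic polynomial of a matrix killed by a squarefree polynomial `g` is a product
of monic irreducible divisors of `g`. -/
theorem exists_family_of_matrix {n : ℕ} (A : Matrix (Fin n) (Fin n) F) (g : F[X])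
    (hg : Squarefree g) (hA : aeval A g = 0) :
    ∃ (d : ℕ) (P : Fin d → F[X]), (∀ i, (P i).Monic ∧ Irreducible (P i)) ∧ (∀ i, P i ∣ g) ∧
      A.charpoly = ∏ i, P i := by
  have k1 : aeval (Matrix.toLin' A) g = 0 := by
    have := Polynomial.aeval_algHom_apply (Matrix.toLinAlgEquiv' (R := F) (n := Fin n)).toAlgHom A g
    change aeval (Matrix.toLin' A) g = Matrix.toLin' (aeval A g) at this
    rw [this, hA, map_zero]
  obtain ⟨d, P, hP, hdvd, ⟨Ψ⟩⟩ := exists_model' (Matrix.toLin' A) g hg k1
  have : ∀ i, Fact (P i).Monic := fun i => ⟨(hP i).1⟩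
  refine ⟨d, P, hP, hdvd, ?_⟩
  rw [← Matrix.charpoly_toLin']
  exact charpoly_eq_prod (Matrix.toLin' A) P Ψ

end Cfsg.Agent.Helper8.SemiS
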