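import Cfsg.Agent.Helper8.SemiSDet
set_option autoImplicit false

namespace Cfsg.Agent.Helper8.SemiS

open Polynomial Module Matrix

variable {F : Type*} [Field F] [Fintype F]

theorem semisimple_of_coprime_SL (p : ℕ) [Fact p.Prime] [CharP F p] {n : ℕ}
    (g : Matrix.SpecialLinearGroup (Fin n) F)
    (hg : (orderOf g).Coprime p) :
    ∃ h : F[X], Squarefree h ∧ aeval (g : Matrix (Fin n) (Fin n) F) h = 0 := by
  have hp : p.Prime := Fact.out
  refine ⟨X ^ orderOf g - 1, ?_, ?_⟩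
  · have hm : ((orderOf g : ℕ) : F) ≠ 0 := by
      intro h0
      have h1 := (CharP.cast_eq_zero_iff F p (orderOf g)).mp h0
      have h2 : p ∣ Nat.gcd (orderOf g) p := Nat.dvd_gcd h1 dvd_rfl
      rw [hg] at h2
      exact hp.one_lt.ne' (Nat.dvd_one.mp h2)
    have := Polynomial.separable_X_pow_sub_C (1 : F) hm one_ne_zero
    rw [map_one] at this
    exact this.squarefree
  · rw [map_sub, map_pow, aeval_X, map_one, ← Matrix.SpecialLinearGroup.coe_pow,
      pow_orderOf_eq_one, Matrix.SpecialLinearGroup.coe_one, sub_self]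

theorem sl_isConj_of_charpoly_eq (p : ℕ) [Fact p.Prime] [CharP F p] (n : ℕ)
    (g h : Matrix.SpecialLinearGroup (Fin n) F) (hg : (orderOf g).Coprime p)
    (hh : (orderOf h).Coprime p)
    (hc : (g : Matrix (Fin n) (Fin n) F).charpoly = (h : Matrix (Fin n) (Fin n) F).charpoly) :
    IsConj g h := by
  rcases Nat.eq_zero_or_pos n with rfl | hn
  · have : g = h := by
      apply Matrix.SpecialLinearGroup.ext
      intro i
      exact i.elim0
    rw [this]
  obtain ⟨k, hk1, hk2⟩ := semisimple_of_coprime_SL p g hg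
  obtain ⟨k', hk1', hk2'⟩ := semisimple_of_coprime_SL p h hh
  obtain ⟨x, hx⟩ := exists_conj_of_charpoly_eq _ _ k k' hk1 hk1' hk2 hk2' hc
  have hxdet : (x : Matrix (Fin n) (Fin n) F).det ≠ 0 :=
    ((Matrix.isUnit_iff_isUnit_det (x : Matrix (Fin n) (Fin n) F)).mp ⟨x, rfl⟩).ne_zero
  obtain ⟨y, hy1, hy2⟩ := exists_centralizer_det hn (g : Matrix (Fin n) (Fin n) F) k hk1 hk2
    ((x : Matrix (Fin n) (Fin n) F).det)⁻¹ (inv_ne_zero hxdet)
  -- s = x * y
  have hsdet : ((x : Matrix (Fin n) (Fin n) F) * (y : Matrix (Fin n) (Fin n) F)).det = 1 := by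
    rw [Matrix.det_mul, hy2, mul_inv_cancel₀ hxdet]
  let s : Matrix.SpecialLinearGroup (Fin n) F :=
    ⟨(x : Matrix (Fin n) (Fin n) F) * (y : Matrix (Fin n) (Fin n) F), hsdet⟩
  rw [isConj_iff]
  refine ⟨s, ?_⟩
  rw [mul_inv_eq_iff_eq_mul]
  apply Subtype.ext
  change (x : Matrix (Fin n) (Fin n) F) * (y : Matrix (Fin n) (Fin n) F) * (g : Matrix (Fin n) (Fin n) F)
    = (h : Matrix (Fin n) (Fin n) F) * ((x : Matrix (Fin n) (Fin n) F) * (y : Matrix (Fin n) (Fin n) F))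
  rw [Matrix.mul_assoc, hy1, ← hx]
  have hxx : ((x⁻¹ : GL (Fin n) F) : Matrix (Fin n) (Fin n) F) * (x : Matrix (Fin n) (Fin n) F) = 1 := by
    rw [← Units.val_mul, inv_mul_cancel, Units.val_one]
  rw [Matrix.mul_assoc _ _ ((x : Matrix (Fin n) (Fin n) F) * _), ← Matrix.mul_assoc _ (x : Matrix (Fin n) (Fin n) F),
    hxx, Matrix.one_mul, Matrix.mul_assoc]

end Cfsg.Agent.Helper8.SemiS
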