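import Cfsg.Agent.Helper8.SemiSFam
set_option autoImplicit false

namespace Cfsg.Agent.Helper8.SemiS

open Polynomial Module Matrix

variable {F : Type*} [Field F]

section expo

variable {ι : Type*} [Fintype ι] [DecidableEq ι] (Q : ι → F[X])

open scoped Classical in
theorem normalizedFactors_prod_pow (hQ : ∀ j, (Q j).Monic ∧ Irreducible (Q j)) (a : ι → ℕ) :
    UniqueFactorizationMonoid.normalizedFactors (∏ j, Q j ^ a j) =
      ∑ j, Multiset.replicate (a j) (Q j) := by
  classical
  rw [Finset.prod_eq_multiset_prod, UniqueFactorizationMonoid.normalizedFactors_multiset_prod,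
    Multiset.map_map, Finset.sum_eq_multiset_sum]
  · congr 1
    apply Multiset.map_congr rfl
    intro j _
    rw [Function.comp_apply, (hQ j).2.normalizedFactors_pow, (hQ j).1.normalize_eq_self]
  · intro h0
    rw [Multiset.mem_map] at h0
    obtain ⟨j, _, hj⟩ := h0
    exact pow_ne_zero _ (hQ j).1.ne_zero hj

open scoped Classical in
theorem count_prod_pow (hQ : ∀ j, (Q j).Monic ∧ Irreducible (Q j)) (hinj : Function.Injective Q)
    (a : ι → ℕ) (k : ι) :
    (UniqueFactorizationMonoid.normalizedFactors (∏ j, Q j ^ a j)).count (Q k) = a k := by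
  rw [normalizedFactors_prod_pow Q hQ, Multiset.count_sum']
  have : ∀ j ∈ Finset.univ, Multiset.count (Q k) (Multiset.replicate (a j) (Q j)) =
      if j = k then a j else 0 := by
    intro j _
    rw [Multiset.count_replicate]
    by_cases hjk : j = k
    · subst hjk; simp
    · rw [if_neg hjk, if_neg]
      intro h
      exact hjk (hinj h)
  rw [Finset.sum_congr rfl this, Finset.sum_ite_eq' Finset.univ k a, if_pos (Finset.mem_univ k)]

theorem prod_pow_injective (hQ : ∀ j, (Q j).Monic ∧ Irreducible (Q j))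
    (hinj : Function.Injective Q) :
    Function.Injective (fun a : ι → ℕ => ∏ j, Q j ^ a j) := by
  classical
  intro a b hab
  funext k
  rw [← count_prod_pow Q hQ hinj a k, ← count_prod_pow Q hQ hinj b k]
  exact congrArg (fun f => (UniqueFactorizationMonoid.normalizedFactors f).count (Q k)) hab

theorem natDegree_prod_pow (hQ : ∀ j, (Q j).Monic) (a : ι → ℕ) :
    (∏ j, Q j ^ a j).natDegree = ∑ j, a j * (Q j).natDegree := by
  rw [Polynomial.natDegree_prod_of_monic _ _ (fun j _ => (hQ j).pow (a j))]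
  apply Finset.sum_congr rfl
  intro j _
  exact (hQ j).natDegree_pow (a j)

/-- a family of polynomials taken from `Q` has product a monomial in `Q` -/
theorem exists_expo_of_family {d : ℕ} (P : Fin d → F[X]) (hP : ∀ i, ∃ j, P i = Q j) :
    ∃ a : ι → ℕ, ∏ i, P i = ∏ j, Q j ^ a j := by
  choose σ hσ using hP
  refine ⟨fun j => (Finset.univ.filter (fun i => σ i = j)).card, ?_⟩
  rw [← Finset.prod_fiberwise Finset.univ σ P]
  apply Finset.prod_congr rfl
  intro j _
  rw [← Finset.prod_const]
  apply Finset.prod_congr rfl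
  intro i hi
  rw [Finset.mem_filter] at hi
  rw [hσ i, hi.2]

/-- the product of a monomial in `Q` is the product of a family taken from `Q` -/
theorem exists_family_of_expo (a : ι → ℕ) :
    ∃ (d : ℕ) (P : Fin d → F[X]), (∀ i, ∃ j, a j ≠ 0 ∧ P i = Q j) ∧ ∏ i, P i = ∏ j, Q j ^ a j := by
  let κ := Σ j : ι, Fin (a j)
  let e : κ ≃ Fin (Fintype.card κ) := Fintype.equivFin κ
  refine ⟨Fintype.card κ, fun i => Q (e.symm i).1, ?_, ?_⟩
  · intro i
    refine ⟨(e.symm i).1, ?_, rfl⟩
    intro h0
    have := (e.symm i).2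
    rw [h0] at this
    exact this.elim0
  · rw [← Equiv.prod_comp e (fun i => Q (e.symm i).1)]
    simp only [Equiv.symm_apply_apply]
    rw [Fintype.prod_sigma]
    apply Finset.prod_congr rfl
    intro j _
    simp only [Finset.prod_const, Finset.card_univ, Fintype.card_fin]

variable {n : ℕ}

/-- matrices killed by a squarefree `h` have characteristic polynomial a monomial in the monic
irreducible factors of `h`. -/
theorem expo_of_killed (h : F[X]) (hsq : Squarefree h)
    (hQh : ∀ P : F[X], P.Monic → Irreducible P → P ∣ h → ∃ j, P = Q j)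
    (hQ : ∀ j, (Q j).Monic)
    (A : Matrix (Fin n) (Fin n) F) (hA : aeval A h = 0) :
    ∃ a : ι → ℕ, A.charpoly = ∏ j, Q j ^ a j ∧ ∑ j, a j * (Q j).natDegree = n := by
  obtain ⟨d, P, hP, hdvd, hchar⟩ := exists_family_of_matrix A h hsq hA
  obtain ⟨a, ha⟩ := exists_expo_of_family Q P (fun i => hQh (P i) (hP i).1 (hP i).2 (hdvd i))
  refine ⟨a, hchar.trans ha, ?_⟩
  rw [← natDegree_prod_pow Q hQ, ← ha, ← hchar, Matrix.charpoly_natDegree_eq_dim, Fintype.card_fin]

/-- every monomial of the right degree in divisors of `h` is the characteristic polynomial of a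
matrix killed by `h` -/
theorem matrix_of_expo (h : F[X]) (hQ : ∀ j, (Q j).Monic) (a : ι → ℕ)
    (hdvd : ∀ j, a j ≠ 0 → Q j ∣ h)
    (hn : ∑ j, a j * (Q j).natDegree = n) :
    ∃ A : Matrix (Fin n) (Fin n) F, A.charpoly = ∏ j, Q j ^ a j ∧ aeval A h = 0 := by
  obtain ⟨d, P, hP, hprod⟩ := exists_family_of_expo Q a
  have hmon : ∀ i, (P i).Monic := by
    intro i
    obtain ⟨j, _, hj⟩ := hP i
    rw [hj]; exact hQ j
  have hdeg : ∑ i, (P i).natDegree = n := by
    rw [← Polynomial.natDegree_prod_of_monic _ _ (fun i _ => hmon i), hprod,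
      natDegree_prod_pow Q hQ, hn]
  obtain ⟨A, hA1, hA2⟩ := exists_matrix_of_family P hmon n hdeg h (by
    intro i
    obtain ⟨j, hj0, hj⟩ := hP i
    rw [hj]; exact hdvd j hj0)
  exact ⟨A, hA1.trans hprod, hA2⟩

theorem card_image_expo (hQ : ∀ j, (Q j).Monic ∧ Irreducible (Q j))
    (hinj : Function.Injective Q) (R : (ι → ℕ) → Prop) :
    Nat.card {f : F[X] // ∃ a : ι → ℕ, R a ∧ f = ∏ j, Q j ^ a j} = Nat.card {a : ι → ℕ // R a} := by
  symm
  apply Nat.card_congr
  refine Equiv.ofBijective (fun a => ⟨∏ j, Q j ^ a.1 j, a.1, a.2, rfl⟩) ⟨?_, ?_⟩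
  · intro a b hab
    apply Subtype.ext
    exact prod_pow_injective Q hQ hinj (congrArg Subtype.val hab)
  · rintro ⟨f, a, ha, rfl⟩
    exact ⟨⟨a, ha⟩, rfl⟩

end expo

end Cfsg.Agent.Helper8.SemiS
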