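import Mathlib
import Cfsg.Agent.Helper8.DkOutT

set_option autoImplicit false

/-!
Subgroups of `PSL₂(F)` of order prime to the characteristic: cyclic, dihedral, `A₄`, `S₄` or `A₅`.
-/

namespace Cfsg.Agent.Helper8.Dk

open Matrix Cfsg.Agent.Helper7.SL2 Cfsg.Agent.Helper8.SL2C Subgroup
open scoped Matrix

/-- A nontrivial intersection with a `p`-subgroup forces `p` to divide the order. -/
theorem dvd_card_of_inf_pgroup {G : Type*} [Group G] [Finite G] (p : ℕ) [Fact p.Prime]
    {M H : Subgroup G} (hM : IsPGroup p M) (hne : M ⊓ H ≠ ⊥) : p ∣ Nat.card H := by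
  have hp : IsPGroup p (M ⊓ H : Subgroup G) := hM.to_le inf_le_left
  obtain ⟨n, hn⟩ := IsPGroup.iff_card.mp hp
  have hn0 : n ≠ 0 := by
    rintro rfl
    rw [pow_zero] at hn
    exact hne (Subgroup.card_eq_one.mp hn)
  have h1 : p ∣ Nat.card (M ⊓ H : Subgroup G) := by
    rw [hn]; exact dvd_pow_self p hn0
  exact h1.trans (Subgroup.card_dvd_of_le inf_le_right)

/-- Subgroups of `PSL₂(F)` of order prime to the characteristic `p` of `F`. -/
theorem psl2_coprime_subgroup {F : Type*} [Field F] [Fintype F] (p : ℕ) [Fact p.Prime] [CharP F p]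
    (H : Subgroup (Matrix.ProjectiveSpecialLinearGroup (Fin 2) F)) (hp : ¬ p ∣ Nat.card H) :
    IsCyclic H ∨ (∃ k : ℕ, Nonempty (H ≃* DihedralGroup k)) ∨ Nonempty (H ≃* alternatingGroup (Fin 4)) ∨
      Nonempty (H ≃* Equiv.Perm (Fin 4)) ∨ Nonempty (H ≃* alternatingGroup (Fin 5)) := by
  classical
  rcases dickson_first (F := F) p H with h1 | ⟨M, hM, hne, hN⟩ | h4 | h5 | h6 | ⟨M, hM, a, k, ha, hcard, _, _, _⟩
  · left
    have : Subsingleton H := (Nat.card_eq_one_iff_unique.mp h1).1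
    exact isCyclic_of_subsingleton
  · rcases mem_GM_iff.mp hM with hU | hT
    · exact absurd (dvd_card_of_inf_pgroup p (GU_pgroup p M hU) hne) hp
    · obtain ⟨k, _, hk⟩ := out_toral (F := F) rfl H hT hN
      rcases hk with ⟨hc, _⟩ | hd
      · exact Or.inl hc
      · exact Or.inr (Or.inl ⟨k, hd⟩)
  · exact Or.inr (Or.inr (Or.inl h4))
  · exact Or.inr (Or.inr (Or.inr (Or.inl h5)))
  · exact Or.inr (Or.inr (Or.inr (Or.inr h6)))
  · exfalso
    apply hp
    have hne : M ⊓ H ≠ ⊥ := by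
      intro h
      rw [h, Subgroup.card_bot] at hcard
      omega
    exact dvd_card_of_inf_pgroup p (GU_pgroup p M hM) hne

end Cfsg.Agent.Helper8.Dk
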