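import Mathlib
import Cfsg.Agent.Helper8.DkCoprime

set_option autoImplicit false
set_option linter.unusedSectionVars false

/-!
Double covers of subgroups of `PSL₂`: a finite subgroup of `SL₂(E)` of order prime to the characteristic and with at most
one involution is abelian or a double cover of a dihedral group, of `A₄`, of `S₄` or of `A₅`; orders of elements in
the quotient.
-/

namespace Cfsg.Agent.Helper8.ZasL

open Cfsg.Agent.Helper8.Dk Cfsg.Agent.Helper8.SL2C

/-- `K` maps onto `X` with a kernel of order two. -/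
def CoverT (K : Type*) [Group K] (X : Type*) [Group X] : Prop :=
  ∃ f : K →* X, Function.Surjective f ∧ Nat.card f.ker = 2

section orders

variable {K : Type*} [Group K] {X : Type*} [Group X] (f : K →* X)
  (huniq : ∀ s t : K, orderOf s = 2 → orderOf t = 2 → s = t) (hker : Nat.card f.ker = 2)

include hker in
theorem ker_sq {g : K} (hg : g ∈ f.ker) : g ^ 2 = 1 := by
  have := Subgroup.orderOf_dvd_natCard f.ker hg
  rw [hker] at this
  exact orderOf_dvd_iff_pow_eq_one.mp this

include hker in
theorem exists_ker_invol : ∃ z ∈ f.ker, orderOf z = 2 := by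
  have hne : f.ker ≠ ⊥ := by
    intro h
    rw [← Subgroup.card_eq_one, hker] at h
    exact absurd h (by norm_num)
  obtain ⟨z, hz1⟩ := (Subgroup.ne_bot_iff_exists_ne_one).mp hne
  refine ⟨z.1, z.2, ?_⟩
  have : Fact (Nat.Prime 2) := ⟨Nat.prime_two⟩
  refine orderOf_eq_prime (ker_sq f hker z.2) ?_
  intro h
  exact hz1 (Subtype.ext h)

include huniq hker in
theorem invol_mem_ker {t : K} (ht : orderOf t = 2) : t ∈ f.ker := by
  obtain ⟨z, hz, hz2⟩ := exists_ker_invol f hker
  rw [huniq t z ht hz2]
  exact hz

include huniq hker in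
theorem ker_le_center : f.ker ≤ Subgroup.center K := by
  intro g hg
  rw [Subgroup.mem_center_iff]
  intro h
  by_cases hg1 : g = 1
  · rw [hg1, mul_one, one_mul]
  have : Fact (Nat.Prime 2) := ⟨Nat.prime_two⟩
  have h2 : orderOf g = 2 := orderOf_eq_prime (ker_sq f hker hg) hg1
  have h3 : orderOf (h * g * h⁻¹) = 2 := by
    have hc : h * g * h⁻¹ = MulAut.conj h g := by simp [MulAut.conj_apply]
    rw [hc, MulEquiv.orderOf_eq, h2]
  have := huniq _ _ h3 h2
  calc h * g = h * g * h⁻¹ * h := by group
    _ = g * h := by rw [this]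

include hker in
/-- elements of odd order keep their order -/
theorem orderOf_map_of_odd {g : K} (hodd : Odd (orderOf g)) : orderOf (f g) = orderOf g := by
  apply Nat.dvd_antisymm (orderOf_map_dvd f g)
  have h1 : g ^ orderOf (f g) ∈ f.ker := by
    rw [MonoidHom.mem_ker, map_pow, pow_orderOf_eq_one]
  have h2 := ker_sq f hker h1
  rw [← pow_mul] at h2
  have h3 : orderOf g ∣ orderOf (f g) * 2 := orderOf_dvd_of_pow_eq_one h2
  exact (Nat.Coprime.dvd_mul_right (Nat.Coprime.symm (Nat.coprime_two_left.mpr hodd))).mp h3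

include huniq hker in
theorem orderOf_map_of_four {x : K} (hx : orderOf x = 4) : orderOf (f x) = 2 := by
  have : Fact (Nat.Prime 2) := ⟨Nat.prime_two⟩
  have h2 : orderOf (x ^ 2) = 2 := by
    rw [orderOf_pow' x (by norm_num : (2 : ℕ) ≠ 0), hx]
    decide
  have hk := invol_mem_ker f huniq hker h2
  refine orderOf_eq_prime ?_ ?_
  · rw [← map_pow]; exact hk
  · intro h
    have := ker_sq f hker (MonoidHom.mem_ker.mpr h)
    have := orderOf_dvd_of_pow_eq_one this
    rw [hx] at this
    exact absurd this (by norm_num)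

include huniq hker in
theorem orderOf_map_of_eight {x : K} (hx : orderOf x = 8) : orderOf (f x) = 4 := by
  have : Fact (Nat.Prime 2) := ⟨Nat.prime_two⟩
  have h2 : orderOf (x ^ 4) = 2 := by
    rw [orderOf_pow' x (by norm_num : (4 : ℕ) ≠ 0), hx]
    decide
  have hk := invol_mem_ker f huniq hker h2
  have : orderOf (f x) = 2 ^ (1 + 1) := by
    refine orderOf_eq_prime_pow ?_ ?_
    · intro h
      have h' : x ^ 2 ∈ f.ker := by
        rw [MonoidHom.mem_ker, map_pow]; simpa using h
      have := ker_sq f hker h'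
      rw [← pow_mul] at this
      have := orderOf_dvd_of_pow_eq_one this
      rw [hx] at this
      exact absurd this (by norm_num)
    · rw [← map_pow]; exact hk
  simpa using this

include huniq hker in
/-- if the images commute and one of the elements has odd order, the elements commute -/
theorem commute_of_map_commute {a b : K} (hodd : Odd (orderOf b)) (hc : Commute (f a) (f b)) : Commute a b := by
  set c : K := a * b * a⁻¹ * b⁻¹ with hcdef
  have hck : c ∈ f.ker := by
    rw [MonoidHom.mem_ker, hcdef, map_mul, map_mul, map_mul, map_inv, map_inv, hc.eq]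
    group
  have hcc := ker_le_center f huniq hker hck
  have hcb : Commute c b := (Subgroup.mem_center_iff.mp hcc b).symm
  have e : a * b * a⁻¹ = c * b := by rw [hcdef]; group
  have h1 : (a * b * a⁻¹) ^ orderOf b = 1 := by rw [conj_pow, pow_orderOf_eq_one]; group
  rw [e, hcb.mul_pow, pow_orderOf_eq_one, mul_one] at h1
  obtain ⟨m, hm⟩ := hodd
  rw [hm, pow_succ, pow_mul, ker_sq f hker hck, one_pow, one_mul] at h1
  have : a * b * a⁻¹ = b := by rw [e, h1, one_mul]
  have h2 : a * b = b * a := by
    calc a * b = a * b * a⁻¹ * a := by group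
      _ = b * a := by rw [this]
  exact h2

end orders

section alternatives

variable {K : Type*} [Group K] [Finite K] {E : Type*} [Field E] [Finite E]

/-- a surjection with kernel of order at most two onto a group with two involutions is a double cover, if the
source has at most one involution -/
theorem coverT_of_two_invol {X : Type*} [Group X] (huniq : ∀ s t : K, orderOf s = 2 → orderOf t = 2 → s = t)
    (f : K →* X) (hf : Function.Surjective f) (hk : Nat.card f.ker ≤ 2) {s t : X} (hs : orderOf s = 2)
    (ht : orderOf t = 2) (hst : s ≠ t) : CoverT K X := by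
  refine ⟨f, hf, ?_⟩
  have hpos : 0 < Nat.card f.ker := Nat.card_pos
  have h12 : Nat.card f.ker = 1 ∨ Nat.card f.ker = 2 := by omega
  rcases h12 with h1 | h2
  · exfalso
    rw [Subgroup.card_eq_one, MonoidHom.ker_eq_bot_iff] at h1
    obtain ⟨s', rfl⟩ := hf s
    obtain ⟨t', rfl⟩ := hf t
    rw [orderOf_injective f h1] at hs ht
    exact hst (congrArg f (huniq s' t' hs ht))
  · exact h2

theorem invol_alt4 : ∃ s t : alternatingGroup (Fin 4), orderOf s = 2 ∧ orderOf t = 2 ∧ s ≠ t := by
  have : Fact (Nat.Prime 2) := ⟨Nat.prime_two⟩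
  refine ⟨⟨Equiv.swap 0 1 * Equiv.swap 2 3, Equiv.Perm.mem_alternatingGroup.mpr (by decide)⟩,
    ⟨Equiv.swap 0 2 * Equiv.swap 1 3, Equiv.Perm.mem_alternatingGroup.mpr (by decide)⟩,
    orderOf_eq_prime (by decide) (by decide), orderOf_eq_prime (by decide) (by decide), by decide⟩

theorem invol_sym4 : ∃ s t : Equiv.Perm (Fin 4), orderOf s = 2 ∧ orderOf t = 2 ∧ s ≠ t := by
  have : Fact (Nat.Prime 2) := ⟨Nat.prime_two⟩
  refine ⟨Equiv.swap 0 1, Equiv.swap 2 3,
    orderOf_eq_prime (by decide) (by decide), orderOf_eq_prime (by decide) (by decide), by decide⟩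

theorem invol_alt5 : ∃ s t : alternatingGroup (Fin 5), orderOf s = 2 ∧ orderOf t = 2 ∧ s ≠ t := by
  have : Fact (Nat.Prime 2) := ⟨Nat.prime_two⟩
  refine ⟨⟨Equiv.swap 0 1 * Equiv.swap 2 3, Equiv.Perm.mem_alternatingGroup.mpr (by decide)⟩,
    ⟨Equiv.swap 0 2 * Equiv.swap 1 3, Equiv.Perm.mem_alternatingGroup.mpr (by decide)⟩,
    orderOf_eq_prime (by decide) (by decide), orderOf_eq_prime (by decide) (by decide), by decide⟩

/-- A finite subgroup of `SL₂(E)` of order prime to the characteristic and with at most one involution is abelian or a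
double cover of a dihedral group, of `A₄`, of `S₄` or of `A₅`. -/
theorem psl_alternatives (Ψ : K →* Matrix.SpecialLinearGroup (Fin 2) E) (hΨ : Function.Injective Ψ)
    (hp : ¬ ringChar E ∣ Nat.card K) (huniq : ∀ s t : K, orderOf s = 2 → orderOf t = 2 → s = t) :
    (∀ x y : K, x * y = y * x) ∨ (∃ k : ℕ, CoverT K (DihedralGroup k)) ∨ CoverT K (alternatingGroup (Fin 4)) ∨
      CoverT K (Equiv.Perm (Fin 4)) ∨ CoverT K (alternatingGroup (Fin 5)) := by
  classical
  let _ : Fintype E := Fintype.ofFinite E
  have hcp : CharP E (ringChar E) := ringChar.charP E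
  have hprime : Fact (ringChar E).Prime := ⟨CharP.char_is_prime E (ringChar E)⟩
  set f₀ : K →* Matrix.ProjectiveSpecialLinearGroup (Fin 2) E := (ph E).comp Ψ with hf₀
  set f₁ : K →* f₀.range := f₀.rangeRestrict with hf₁
  have hf₁s : Function.Surjective f₁ := MonoidHom.rangeRestrict_surjective f₀
  have hker_mem : ∀ g : K, g ∈ f₁.ker ↔ Ψ g = 1 ∨ Ψ g = -1 := by
    intro g
    rw [hf₁, MonoidHom.ker_rangeRestrict, MonoidHom.mem_ker, hf₀, MonoidHom.comp_apply, ph_apply, pmk_eq_one_iff]
  have hkc : f₁.ker ≤ Subgroup.center K := by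
    intro g hg
    rw [Subgroup.mem_center_iff]
    intro h
    apply hΨ
    have hgc : Ψ g ∈ Subgroup.center (Matrix.SpecialLinearGroup (Fin 2) E) :=
      mem_center_iff'.mpr ((hker_mem g).mp hg)
    rw [map_mul, map_mul]
    exact Subgroup.mem_center_iff.mp hgc (Ψ h)
  have hk2 : Nat.card f₁.ker ≤ 2 := by
    have hinj : Function.Injective (fun g : f₁.ker => decide (Ψ g.1 = 1)) := by
      intro g g' hgg
      apply Subtype.ext
      apply hΨ
      have h1 := (hker_mem g.1).mp g.2
      have h2 := (hker_mem g'.1).mp g'.2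
      simp only [decide_eq_decide] at hgg
      rcases h1 with h1 | h1
      · rw [h1, hgg.mp h1]
      · rcases h2 with h2 | h2
        · rw [h2, hgg.mpr h2]
        · rw [h1, h2]
    have := Nat.card_le_card_of_injective _ hinj
    simpa using this
  have hp' : ¬ ringChar E ∣ Nat.card f₀.range := by
    intro h
    exact hp (h.trans (Subgroup.card_dvd_of_surjective f₁ hf₁s))
  -- transport along an isomorphism of the image
  have htrans : ∀ {X : Type} [Group X] (e : f₀.range ≃* X),
      ∃ f : K →* X, Function.Surjective f ∧ Nat.card f.ker ≤ 2 ∧ f.ker ≤ Subgroup.center K := by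
    intro X _ e
    have : (e.toMonoidHom.comp f₁).ker = f₁.ker := by
      ext g
      simp [MonoidHom.mem_ker]
    refine ⟨e.toMonoidHom.comp f₁, e.surjective.comp hf₁s, ?_, ?_⟩
    · rw [this]
      exact hk2
    · rw [this]
      exact hkc
  rcases psl2_coprime_subgroup (ringChar E) f₀.range hp' with hcyc | ⟨k, ⟨e⟩⟩ | ⟨⟨e⟩⟩ | ⟨⟨e⟩⟩ | ⟨⟨e⟩⟩
  · left
    have := MonoidHom.isMulCommutative_of_isCyclic_of_ker_le_center f₁ hkc
    intro x y
    exact this.is_comm.comm x y
  · obtain ⟨f, hf, hk, hfc⟩ := htrans e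
    by_cases hk1 : k = 1
    · left
      subst hk1
      have : Fact (Nat.Prime 2) := ⟨Nat.prime_two⟩
      have hc : IsCyclic (DihedralGroup 1) := isCyclic_of_prime_card (p := 2) (by rw [DihedralGroup.nat_card])
      have := MonoidHom.isMulCommutative_of_isCyclic_of_ker_le_center f hfc
      intro x y
      exact this.is_comm.comm x y
    · right; left
      refine ⟨k, ?_⟩
      have : Nontrivial (ZMod k) := ZMod.nontrivial_iff.mpr hk1
      exact coverT_of_two_invol huniq f hf hk (DihedralGroup.orderOf_sr 0) (DihedralGroup.orderOf_sr 1)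
        (by
          intro h
          exact zero_ne_one (DihedralGroup.sr.inj h))
  · right; right; left
    obtain ⟨f, hf, hk, -⟩ := htrans e
    obtain ⟨s, t, hs, ht, hst⟩ := invol_alt4
    exact coverT_of_two_invol huniq f hf hk hs ht hst
  · right; right; right; left
    obtain ⟨f, hf, hk, -⟩ := htrans e
    obtain ⟨s, t, hs, ht, hst⟩ := invol_sym4
    exact coverT_of_two_invol huniq f hf hk hs ht hst
  · right; right; right; right
    obtain ⟨f, hf, hk, -⟩ := htrans e
    obtain ⟨s, t, hs, ht, hst⟩ := invol_alt5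
    exact coverT_of_two_invol huniq f hf hk hs ht hst

end alternatives

end Cfsg.Agent.Helper8.ZasL
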