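import Mathlib
import Cfsg.Agent.Helper8.ZasLF

set_option autoImplicit false
set_option linter.unusedSectionVars false

/-!
Double covers of subgroups of `PSL₂`: the groups generated by two elements of order three, by an element of order four
and one of order three, by an element of order eight and one of order three.
-/

namespace Cfsg.Agent.Helper8.ZasL

open DihedralGroup

theorem dihedral_exists_r {k : ℕ} {g : DihedralGroup k} (hg : orderOf g ≠ 2) : ∃ i, g = r i := by
  cases g with
  | r i => exact ⟨i, rfl⟩
  | sr i => exact absurd (orderOf_sr i) hg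

theorem dihedral_r_commute {k : ℕ} (i j : ZMod k) : Commute (r i) (r j) := by
  show r i * r j = r j * r i
  rw [r_mul_r, r_mul_r, add_comm]

/-- a finite dihedral group generated by a reflection and a rotation of order three has degree three -/
theorem dihedral_three {k : ℕ} [Finite (DihedralGroup k)] (i j : ZMod k) (h3 : orderOf (r i) = 3)
    (hgen : Subgroup.closure ({sr j, r i} : Set (DihedralGroup k)) = ⊤) : k = 3 := by
  have hN : (Subgroup.zpowers (r i)).Normal := by
    constructor
    intro n hn g
    obtain ⟨m, rfl⟩ := Subgroup.mem_zpowers_iff.mp hn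
    rw [← conj_zpow]
    apply Subgroup.zpow_mem
    cases g with
    | r l =>
      rw [inv_r, r_mul_r, r_mul_r]
      have : l + i + -l = i := by ring
      rw [this]
      exact Subgroup.mem_zpowers _
    | sr l =>
      rw [inv_sr, sr_mul_r, sr_mul_sr]
      have : l - (l + i) = -i := by ring
      rw [this, ← inv_r]
      exact Subgroup.inv_mem _ (Subgroup.mem_zpowers _)
  set N := Subgroup.zpowers (r i) with hNdef
  have hcardN : Nat.card N = 3 := by rw [hNdef, Nat.card_zpowers, h3]
  set π := QuotientGroup.mk' N with hπ
  have hπs : Function.Surjective π := QuotientGroup.mk'_surjective N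
  have htop : Subgroup.zpowers (π (sr j)) = ⊤ := by
    have h1 : Subgroup.map π ⊤ = ⊤ := by
      rw [← MonoidHom.range_eq_map, MonoidHom.range_eq_top]
      exact hπs
    rw [← hgen, MonoidHom.map_closure, Set.image_pair] at h1
    have h2 : π (r i) = 1 := by
      rw [hπ, QuotientGroup.mk'_apply, QuotientGroup.eq_one_iff]
      exact Subgroup.mem_zpowers _
    rw [h2] at h1
    rw [← h1, Subgroup.zpowers_eq_closure]
    apply le_antisymm
    · exact Subgroup.closure_mono (by simp)
    · rw [Subgroup.closure_le]
      intro x hx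
      rcases hx with rfl | rfl
      · exact Subgroup.subset_closure rfl
      · exact Subgroup.one_mem _
  have hQ : Nat.card (DihedralGroup k ⧸ N) ∣ 2 := by
    have : Nat.card (DihedralGroup k ⧸ N) = orderOf (π (sr j)) := by
      rw [← Nat.card_zpowers, htop, Subgroup.card_top]
    rw [this]
    apply orderOf_dvd_of_pow_eq_one
    rw [← map_pow, pow_two, sr_mul_self, map_one]
  have hcard := Subgroup.card_eq_card_quotient_mul_card_subgroup N
  rw [nat_card, hcardN] at hcard
  have hQ' : Nat.card (DihedralGroup k ⧸ N) = 1 ∨ Nat.card (DihedralGroup k ⧸ N) = 2 :=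
    (Nat.dvd_prime Nat.prime_two).mp hQ
  rcases hQ' with h | h <;> rw [h] at hcard <;> omega

theorem sign_eq_one_of_orderOf_three {σ : Equiv.Perm (Fin 4)} (h : orderOf σ = 3) : Equiv.Perm.sign σ = 1 := by
  have h3 : σ ^ 3 = 1 := by rw [← h]; exact pow_orderOf_eq_one σ
  have := congrArg Equiv.Perm.sign h3
  rw [map_pow, map_one] at this
  rcases Int.units_eq_one_or (Equiv.Perm.sign σ) with h1 | h1
  · exact h1
  · rw [h1] at this
    exact absurd this (by decide)

theorem alt_no_order_four {n : ℕ}
    (hdec : ∀ σ : Equiv.Perm (Fin n), Equiv.Perm.sign σ = 1 → σ ^ 4 = 1 → σ ^ 2 = 1)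
    (g : alternatingGroup (Fin n)) : orderOf g ≠ 4 := by
  intro h
  have h4 : g ^ 4 = 1 := by rw [← h]; exact pow_orderOf_eq_one g
  have h4' : (g : Equiv.Perm (Fin n)) ^ 4 = 1 := by
    have := congrArg Subtype.val h4
    simpa using this
  have h2 := hdec g.1 (Equiv.Perm.mem_alternatingGroup.mp g.2) h4'
  have h2' : g ^ 2 = 1 := by
    apply Subtype.ext
    simpa using h2
  have := orderOf_dvd_of_pow_eq_one h2'
  rw [h] at this
  exact absurd this (by norm_num)

set_option maxRecDepth 100000 in
theorem alt4_no_order_four (g : alternatingGroup (Fin 4)) : orderOf g ≠ 4 :=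
  alt_no_order_four (by decide) g

set_option maxRecDepth 100000 in
theorem alt5_no_order_four (g : alternatingGroup (Fin 5)) : orderOf g ≠ 4 :=
  alt_no_order_four (by decide) g

section abs

variable {K : Type*} [Group K] [Finite K] {E : Type*} [Field E] [Finite E]
  (Ψ : K →* Matrix.SpecialLinearGroup (Fin 2) E) (hΨ : Function.Injective Ψ)
  (hp : ¬ ringChar E ∣ Nat.card K) (huniq : ∀ s t : K, orderOf s = 2 → orderOf t = 2 → s = t)

include hΨ hp huniq in
/-- two elements of order three -/
theorem f1_abs {a b : K} (hgen : Subgroup.closure ({a, b} : Set K) = ⊤) (ha : orderOf a = 3)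
    (hb : orderOf b = 3) :
    Commute a b ∨ CoverT K (alternatingGroup (Fin 4)) ∨ CoverT K (alternatingGroup (Fin 5)) := by
  have hodd3 : Odd 3 := by decide
  rcases psl_alternatives Ψ hΨ hp huniq with h | ⟨k, f, hf, hk⟩ | h | ⟨f, hf, hk⟩ | h
  · left; exact h a b
  · left
    have hoa : orderOf (f a) = 3 := by rw [orderOf_map_of_odd f hk (by rw [ha]; exact hodd3), ha]
    have hob : orderOf (f b) = 3 := by rw [orderOf_map_of_odd f hk (by rw [hb]; exact hodd3), hb]
    obtain ⟨i, hi⟩ := dihedral_exists_r (g := f a) (by rw [hoa]; norm_num)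
    obtain ⟨j, hj⟩ := dihedral_exists_r (g := f b) (by rw [hob]; norm_num)
    apply commute_of_map_commute f huniq hk (by rw [hb]; exact hodd3)
    rw [hi, hj]
    exact dihedral_r_commute i j
  · right; left; exact h
  · exfalso
    have hoa : orderOf (f a) = 3 := by rw [orderOf_map_of_odd f hk (by rw [ha]; exact hodd3), ha]
    have hob : orderOf (f b) = 3 := by rw [orderOf_map_of_odd f hk (by rw [hb]; exact hodd3), hb]
    set g : K →* ℤˣ := Equiv.Perm.sign.comp f with hg
    have hle : Subgroup.closure ({a, b} : Set K) ≤ g.ker := by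
      rw [Subgroup.closure_le]
      intro x hx
      rcases hx with rfl | rfl
      · exact MonoidHom.mem_ker.mpr (sign_eq_one_of_orderOf_three hoa)
      · exact MonoidHom.mem_ker.mpr (sign_eq_one_of_orderOf_three hob)
    rw [hgen] at hle
    obtain ⟨x, hx⟩ := hf (Equiv.swap 0 1)
    have h1 : g x = 1 := MonoidHom.mem_ker.mp (hle (Subgroup.mem_top x))
    rw [hg, MonoidHom.comp_apply, hx] at h1
    exact absurd h1 (by decide)
  · right; right; exact h

include hΨ hp huniq in
/-- an element of order four and an element of order three -/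
theorem f2_abs {x a : K} (hgen : Subgroup.closure ({x, a} : Set K) = ⊤) (hx : orderOf x = 4)
    (ha : orderOf a = 3) :
    Commute x a ∨ CoverT K (DihedralGroup 3) ∨ CoverT K (alternatingGroup (Fin 4)) ∨
      CoverT K (Equiv.Perm (Fin 4)) ∨ CoverT K (alternatingGroup (Fin 5)) := by
  have hodd3 : Odd 3 := by decide
  rcases psl_alternatives Ψ hΨ hp huniq with h | ⟨k, f, hf, hk⟩ | h | h | h
  · left; exact h x a
  · have hoa : orderOf (f a) = 3 := by rw [orderOf_map_of_odd f hk (by rw [ha]; exact hodd3), ha]
    have hox : orderOf (f x) = 2 := orderOf_map_of_four f huniq hk hx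
    obtain ⟨i, hi⟩ := dihedral_exists_r (g := f a) (by rw [hoa]; norm_num)
    rcases hfx : f x with j | j
    · left
      apply commute_of_map_commute f huniq hk (by rw [ha]; exact hodd3)
      rw [hi, hfx]
      exact dihedral_r_commute j i
    · right; left
      have hfin : Finite (DihedralGroup k) := Finite.of_surjective f hf
      have hgen' : Subgroup.closure ({sr j, r i} : Set (DihedralGroup k)) = ⊤ := by
        have h1 : Subgroup.map f ⊤ = ⊤ := by
          rw [← MonoidHom.range_eq_map, MonoidHom.range_eq_top]
          exact hf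
        rw [← hgen, MonoidHom.map_closure, Set.image_pair, hfx, hi] at h1
        exact h1
      have hk3 : k = 3 := dihedral_three i j (by rw [← hi]; exact hoa) hgen'
      subst hk3
      exact ⟨f, hf, hk⟩
  · right; right; left; exact h
  · right; right; right; left; exact h
  · right; right; right; right; exact h

include hΨ hp huniq in
/-- an element of order eight and an element of order three -/
theorem dk_abs {y a : K} (hy : orderOf y = 8) (ha : orderOf a = 3) :
    Commute y a ∨ CoverT K (Equiv.Perm (Fin 4)) := by
  have hodd3 : Odd 3 := by decide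
  rcases psl_alternatives Ψ hΨ hp huniq with h | ⟨k, f, hf, hk⟩ | ⟨f, hf, hk⟩ | h | ⟨f, hf, hk⟩
  · left; exact h y a
  · left
    have hoa : orderOf (f a) = 3 := by rw [orderOf_map_of_odd f hk (by rw [ha]; exact hodd3), ha]
    have hoy : orderOf (f y) = 4 := orderOf_map_of_eight f huniq hk hy
    obtain ⟨i, hi⟩ := dihedral_exists_r (g := f a) (by rw [hoa]; norm_num)
    obtain ⟨j, hj⟩ := dihedral_exists_r (g := f y) (by rw [hoy]; norm_num)
    apply commute_of_map_commute f huniq hk (by rw [ha]; exact hodd3)
    rw [hi, hj]
    exact dihedral_r_commute j i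
  · exact absurd (orderOf_map_of_eight f huniq hk hy) (alt4_no_order_four _)
  · right; exact h
  · exact absurd (orderOf_map_of_eight f huniq hk hy) (alt5_no_order_four _)

end abs

end Cfsg.Agent.Helper8.ZasL
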