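import Mathlib
import Cfsg.Agent.Helper6.ZasDefs

set_option autoImplicit false

/-!
Fixed-point-free linear groups over a field with enough eigenvectors: basic facts (involutions act as `-1`, abelian
subgroups are cyclic, subgroups of order `pq` are cyclic).
-/

namespace Cfsg.Agent.Helper8.ZasL

open Cfsg.Agent.Helper6.Zas

variable {H : Type*} [Group H] {E : Type*} [Field E] {V : Type*} [AddCommGroup V] [Module E V]
  (ρ : H →* (V →ₗ[E] V))

theorem rho_mul (g h : H) (v : V) : ρ (g * h) v = ρ g (ρ h v) := by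
  rw [map_mul]; rfl

theorem rho_one (v : V) : ρ 1 v = v := by
  rw [map_one]; rfl

theorem rho_inv_left (g : H) (v : V) : ρ g⁻¹ (ρ g v) = v := by
  rw [← rho_mul, inv_mul_cancel, rho_one]

theorem rho_inv_right (g : H) (v : V) : ρ g (ρ g⁻¹ v) = v := by
  rw [← rho_mul, mul_inv_cancel, rho_one]

theorem rho_injective (g : H) : Function.Injective (ρ g) := by
  intro v w h
  have := congrArg (ρ g⁻¹) h
  rwa [rho_inv_left, rho_inv_left] at this

theorem rho_eq_zero {g : H} {v : V} (h : ρ g v = 0) : v = 0 := by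
  apply rho_injective ρ g
  rw [h, map_zero]

theorem rho_pow (g : H) (n : ℕ) (v : V) : ρ (g ^ n) v = (ρ g ^ n) v := by
  rw [map_pow]

/-- A subspace stable under a set of group elements. -/
def Inv (S : Set H) (U : Submodule E V) : Prop := ∀ g ∈ S, ∀ u ∈ U, ρ g u ∈ U

variable {ρ}

theorem Inv.mono {S T : Set H} {U : Submodule E V} (h : Inv ρ T U) (hST : S ⊆ T) : Inv ρ S U :=
  fun g hg u hu => h g (hST hg) u hu

theorem inv_top (S : Set H) : Inv ρ S (⊤ : Submodule E V) := fun _ _ _ _ => Submodule.mem_top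

/-- The inverse of an element stabilizing a finite-dimensional subspace stabilizes it. -/
theorem inv_mem_of_stable [FiniteDimensional E V] {g : H} {U : Submodule E V}
    (h : ∀ u ∈ U, ρ g u ∈ U) : ∀ u ∈ U, ρ g⁻¹ u ∈ U := by
  intro u hu
  let φ : U →ₗ[E] U := (ρ g).restrict h
  have hinj : Function.Injective φ := by
    intro x y hxy
    apply Subtype.ext
    apply rho_injective ρ g
    have := congrArg Subtype.val hxy
    simpa [φ] using this
  have hsurj : Function.Surjective φ := LinearMap.surjective_of_injective hinj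
  obtain ⟨⟨u', hu'⟩, hφ⟩ := hsurj ⟨u, hu⟩
  have e : ρ g u' = u := by
    have := congrArg Subtype.val hφ
    simpa [φ] using this
  rw [← e, rho_inv_left]
  exact hu'

/-- Stability under a set extends to the subgroup it generates. -/
theorem inv_closure [FiniteDimensional E V] {S : Set H} {U : Submodule E V} (h : Inv ρ S U) :
    Inv ρ (Subgroup.closure S : Set H) U := by
  intro g hg
  induction hg using Subgroup.closure_induction with
  | mem x hx => exact h x hx
  | one => intro u hu; rw [rho_one]; exact hu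
  | mul x y _ _ hx hy => intro u hu; rw [rho_mul]; exact hx _ (hy u hu)
  | inv x _ hx => exact inv_mem_of_stable hx

/-- A minimal nonzero stable subspace inside a given nonzero stable subspace. -/
theorem exists_minimal_inv [FiniteDimensional E V] (S : Set H) {U₀ : Submodule E V} (h0 : U₀ ≠ ⊥)
    (hU₀ : Inv ρ S U₀) :
    ∃ U : Submodule E V, U ≤ U₀ ∧ U ≠ ⊥ ∧ Inv ρ S U ∧
      ∀ U' : Submodule E V, U' ≤ U → U' ≠ ⊥ → Inv ρ S U' → U' = U := by
  have hwf : WellFounded ((· < ·) : Submodule E V → Submodule E V → Prop) := wellFounded_lt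
  let T : Set (Submodule E V) := {U | U ≤ U₀ ∧ U ≠ ⊥ ∧ Inv ρ S U}
  have hT : T.Nonempty := ⟨U₀, le_refl _, h0, hU₀⟩
  obtain ⟨U, ⟨hle, hne, hinv⟩, hmin⟩ := hwf.has_min T hT
  refine ⟨U, hle, hne, hinv, fun U' hU' hne' hinv' => ?_⟩
  by_contra hcon
  exact hmin U' ⟨hU'.trans hle, hne', hinv'⟩ (lt_of_le_of_ne hU' hcon)

section fpf

variable (hfpf : Fpf ρ)

include hfpf in
theorem eq_one_of_fix {g : H} {v : V} (hv : v ≠ 0) (h : ρ g v = v) : g = 1 := by
  by_contra hg
  exact hv (hfpf g hg v h)

include hfpf in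
theorem rho_faithful [Nontrivial V] {g h : H} (e : ρ g = ρ h) : g = h := by
  obtain ⟨v, hv⟩ := exists_ne (0 : V)
  have : ρ (h⁻¹ * g) v = v := by
    rw [rho_mul, e, rho_inv_left]
  have := eq_one_of_fix hfpf hv this
  rw [inv_mul_eq_one] at this
  exact this.symm

include hfpf in
/-- The sum of the powers of a nontrivial element vanishes. -/
theorem sum_pow_eq_zero {g : H} (hg : g ≠ 1) {n : ℕ} (hn : g ^ n = 1) (v : V) :
    ∑ i ∈ Finset.range n, ρ (g ^ i) v = 0 := by
  apply hfpf g hg
  rw [map_sum]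
  have e : ∀ i, ρ g (ρ (g ^ i) v) = ρ (g ^ (i + 1)) v := fun i => by rw [← rho_mul, pow_succ']
  simp only [e]
  have h1 := Finset.sum_range_succ' (fun i => ρ (g ^ i) v) n
  have h2 := Finset.sum_range_succ (fun i => ρ (g ^ i) v) n
  simp only [pow_zero, hn] at h1 h2
  rw [h2] at h1
  exact (add_right_cancel h1).symm

end fpf

end Cfsg.Agent.Helper8.ZasL
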