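import Mathlib
import Cfsg.Agent.Helper8.ZasLA

set_option autoImplicit false

/-!
Fixed-point-free linear groups: involutions act as `-1`, abelian subgroups are cyclic, subgroups of order `pq` are
cyclic.
-/

namespace Cfsg.Agent.Helper8.ZasL

open Cfsg.Agent.Helper6.Zas

variable {H : Type*} [Group H] {E : Type*} [Field E] {V : Type*} [AddCommGroup V] [Module E V]
  {ρ : H →* (V →ₗ[E] V)} (hfpf : Fpf ρ)

include hfpf in
/-- An involution acts as `-1`. -/
theorem rho_invol {s : H} (hs : orderOf s = 2) (v : V) : ρ s v = -v := by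
  have hs1 : s ≠ 1 := by
    rintro rfl
    rw [orderOf_one] at hs
    exact absurd hs (by norm_num)
  have hs2 : s * s = 1 := by
    have := pow_orderOf_eq_one s
    rwa [hs, pow_two] at this
  have hw : ρ s (ρ s v + v) = ρ s v + v := by
    rw [map_add, ← rho_mul, hs2, rho_one, add_comm]
  have := hfpf s hs1 _ hw
  exact eq_neg_of_add_eq_zero_left this

include hfpf in
/-- There is at most one involution. -/
theorem invol_unique [Nontrivial V] {s t : H} (hs : orderOf s = 2) (ht : orderOf t = 2) : s = t := by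
  apply rho_faithful hfpf
  ext v
  rw [rho_invol hfpf hs, rho_invol hfpf ht]

section cyclic

variable [FiniteDimensional E V] [Nontrivial V] (heig : HasEig ρ)

include hfpf heig in
/-- Abelian subgroups are cyclic. -/
theorem comm_cyclic [Finite H] (A : Subgroup H) (hA : ∀ x ∈ A, ∀ y ∈ A, x * y = y * x) : IsCyclic A := by
  classical
  have htop : (⊤ : Submodule E V) ≠ ⊥ := top_ne_bot
  obtain ⟨U, -, hne, hinv, hmin⟩ := exists_minimal_inv (ρ := ρ) (A : Set H) htop (inv_top _)
  -- every element of `A` is a scalar on `U`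
  have hscal : ∀ g ∈ A, ∃ μ : E, ∀ u ∈ U, ρ g u = μ • u := by
    intro g hg
    obtain ⟨v, hvU, hv0, μ, hμ⟩ := heig g U hne (hinv g hg)
    refine ⟨μ, ?_⟩
    let U' : Submodule E V := U ⊓ LinearMap.ker (ρ g - μ • LinearMap.id)
    have hmem : ∀ u, u ∈ U' ↔ u ∈ U ∧ ρ g u = μ • u := by
      intro u
      simp only [U', Submodule.mem_inf, LinearMap.mem_ker, LinearMap.sub_apply, LinearMap.smul_apply,
        LinearMap.id_apply, sub_eq_zero]
    have hU'le : U' ≤ U := inf_le_left
    have hU'ne : U' ≠ ⊥ := by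
      intro h
      have : v ∈ U' := (hmem v).mpr ⟨hvU, hμ⟩
      rw [h, Submodule.mem_bot] at this
      exact hv0 this
    have hU'inv : Inv ρ (A : Set H) U' := by
      intro h hh u hu
      obtain ⟨hu1, hu2⟩ := (hmem u).mp hu
      refine (hmem _).mpr ⟨hinv h hh u hu1, ?_⟩
      rw [← rho_mul, hA g hg h hh, rho_mul, hu2, map_smul]
    have := hmin U' hU'le hU'ne hU'inv
    intro u hu
    rw [← this] at hu
    exact ((hmem u).mp hu).2
  obtain ⟨u₀, hu₀U, hu₀⟩ := Submodule.exists_mem_ne_zero_of_ne_bot hne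
  choose χ hχ using hscal
  let f : A →* E :=
    { toFun := fun g => χ g.1 g.2
      map_one' := by
        have h1 := hχ 1 A.one_mem u₀ hu₀U
        rw [rho_one] at h1
        have : (1 : E) • u₀ = χ 1 A.one_mem • u₀ := by rw [one_smul]; exact h1
        exact (smul_left_injective E hu₀ this).symm
      map_mul' := by
        intro g h
        have h1 := hχ (g.1 * h.1) (A.mul_mem g.2 h.2) u₀ hu₀U
        rw [rho_mul, hχ h.1 h.2 u₀ hu₀U, map_smul, hχ g.1 g.2 u₀ hu₀U, smul_smul] at h1
        have h2 : (χ h.1 h.2 * χ g.1 g.2) • u₀ = χ (g.1 * h.1) (A.mul_mem g.2 h.2) • u₀ := h1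
        have := smul_left_injective E hu₀ h2
        change χ (g.1 * h.1) _ = χ g.1 g.2 * χ h.1 h.2
        rw [← this, mul_comm] }
  have hf : Function.Injective f := by
    intro g h hgh
    have hgh' : χ g.1 g.2 = χ h.1 h.2 := hgh
    apply Subtype.ext
    have : ρ (h.1⁻¹ * g.1) u₀ = u₀ := by
      rw [rho_mul, hχ g.1 g.2 u₀ hu₀U, hgh', ← hχ h.1 h.2 u₀ hu₀U, rho_inv_left]
    have := eq_one_of_fix hfpf hu₀ this
    rw [inv_mul_eq_one] at this
    exact this.symm
  exact isCyclic_of_injective_ringHom f hf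

end cyclic

end Cfsg.Agent.Helper8.ZasL
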