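import Mathlib
import Cfsg.Agent.Helper8.ZasLB

set_option autoImplicit false
set_option linter.unusedSectionVars false

/-!
Fixed-point-free linear groups: subgroups of order `pq` are cyclic.
-/

namespace Cfsg.Agent.Helper8.ZasL

open Cfsg.Agent.Helper6.Zas

variable {H : Type*} [Group H] {E : Type*} [Field E] {V : Type*} [AddCommGroup V] [Module E V]
  {ρ : H →* (V →ₗ[E] V)} (hfpf : Fpf ρ)

section

variable [FiniteDimensional E V] [Nontrivial V] (heig : HasEig ρ)

include hfpf heig in
/-- An element of prime order `p` normalizing the group generated by `b` commutes with `b`. -/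
theorem commute_of_normalizes {a b : H} {p : ℕ} (hp : p.Prime) (ha : orderOf a = p)
    (hnorm : ∀ i : ℕ, (a ^ i)⁻¹ * b * a ^ i ∈ Subgroup.zpowers b) : Commute a b := by
  classical
  by_contra hcom
  have ha1 : a ≠ 1 := by
    rintro rfl
    exact hcom (Commute.one_left b)
  have hap : a ^ p = 1 := by rw [← ha]; exact pow_orderOf_eq_one a
  obtain ⟨v, -, hv0, lam, hlam⟩ := heig b ⊤ top_ne_bot (fun u _ => Submodule.mem_top)
  -- the conjugates of `b` act on `v` by scalars
  have hsc : ∀ c ∈ Subgroup.zpowers b, ∃ μ : E, ρ c v = μ • v := by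
    intro c hc
    obtain ⟨k, rfl⟩ := Subgroup.mem_zpowers_iff.mp hc
    induction k using Int.induction_on with
    | zero => exact ⟨1, by rw [zpow_zero, rho_one, one_smul]⟩
    | succ k ih =>
      obtain ⟨μ, hμ⟩ := ih (Subgroup.zpow_mem_zpowers b _)
      refine ⟨lam * μ, ?_⟩
      rw [zpow_add_one, rho_mul, hlam, map_smul, hμ, smul_smul, mul_comm]
    | pred k ih =>
      obtain ⟨μ, hμ⟩ := ih (Subgroup.zpow_mem_zpowers b _)
      have hl0 : lam ≠ 0 := by
        rintro rfl
        rw [zero_smul] at hlam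
        exact hv0 (rho_eq_zero ρ hlam)
      refine ⟨lam⁻¹ * μ, ?_⟩
      have hbinv : ρ b⁻¹ v = lam⁻¹ • v := by
        have : ρ b⁻¹ (lam • v) = v := by rw [← hlam, rho_inv_left]
        rw [map_smul] at this
        rw [← this, smul_smul, inv_mul_cancel₀ hl0, one_smul]
        exact this.symm ▸ rfl
      rw [zpow_sub_one, rho_mul, hbinv, map_smul, hμ, smul_smul, mul_comm]
  choose μf hμf using fun i : ℕ => hsc _ (hnorm i)
  -- the vectors `a ^ i v` are eigenvectors of `b`
  have heigv : ∀ i : ℕ, ρ b (ρ (a ^ i) v) = μf i • ρ (a ^ i) v := by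
    intro i
    have e : b * a ^ i = a ^ i * ((a ^ i)⁻¹ * b * a ^ i) := by group
    rw [← rho_mul, e, rho_mul, hμf i, map_smul]
  -- the eigenvalues are pairwise distinct for `i < p`
  have hdist : ∀ i j : ℕ, i < j → j < p → μf i ≠ μf j := by
    intro i j hij hjp heq
    have h1 : ρ ((a ^ i)⁻¹ * b * a ^ i) v = ρ ((a ^ j)⁻¹ * b * a ^ j) v := by
      rw [hμf i, hμf j, heq]
    have h2 : ρ (((a ^ j)⁻¹ * b * a ^ j)⁻¹ * ((a ^ i)⁻¹ * b * a ^ i)) v = v := by
      rw [rho_mul, h1, rho_inv_left]
    have h3 := eq_one_of_fix hfpf hv0 h2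
    rw [inv_mul_eq_one] at h3
    -- `a ^ (j - i)` commutes with `b`
    have h4 : Commute (a ^ (j - i)) b := by
      have hj : a ^ j = a ^ i * a ^ (j - i) := by rw [← pow_add]; congr 1; omega
      have hda : Commute (a ^ (j - i)) (a ^ i) := (Commute.refl a).pow_pow _ _
      have hdc : Commute (a ^ (j - i)) ((a ^ i)⁻¹ * b * a ^ i) := by
        have e : (a ^ (j - i))⁻¹ * ((a ^ i)⁻¹ * b * a ^ i) * a ^ (j - i) = (a ^ i)⁻¹ * b * a ^ i := by
          calc (a ^ (j - i))⁻¹ * ((a ^ i)⁻¹ * b * a ^ i) * a ^ (j - i)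
              = (a ^ i * a ^ (j - i))⁻¹ * b * (a ^ i * a ^ (j - i)) := by group
            _ = (a ^ j)⁻¹ * b * a ^ j := by rw [← hj]
            _ = (a ^ i)⁻¹ * b * a ^ i := h3
        have e' : a ^ (j - i) * ((a ^ i)⁻¹ * b * a ^ i) = ((a ^ i)⁻¹ * b * a ^ i) * a ^ (j - i) := by
          calc a ^ (j - i) * ((a ^ i)⁻¹ * b * a ^ i)
              = a ^ (j - i) * ((a ^ (j - i))⁻¹ * ((a ^ i)⁻¹ * b * a ^ i) * a ^ (j - i)) := by rw [e]
            _ = ((a ^ i)⁻¹ * b * a ^ i) * a ^ (j - i) := by group
        exact e'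
      have hb : b = a ^ i * ((a ^ i)⁻¹ * b * a ^ i) * (a ^ i)⁻¹ := by group
      rw [hb]
      exact (hda.mul_right hdc).mul_right hda.inv_right
    -- hence `a` commutes with `b`
    have hcop : Nat.Coprime (j - i) p := by
      rw [Nat.coprime_comm, Nat.Prime.coprime_iff_not_dvd hp]
      intro hd
      have := Nat.le_of_dvd (by omega) hd
      omega
    obtain ⟨m, -, hm⟩ := Nat.exists_mul_mod_eq_one_of_coprime hcop (hp.one_lt)
    have h6 : a = (a ^ (j - i)) ^ m := by
      rw [← pow_mul, ← pow_mod_orderOf, ha, hm, pow_one]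
    apply hcom
    rw [h6]
    exact h4.pow_left m
  -- linear independence of the eigenvectors contradicts the vanishing of the sum
  have hinj : Function.Injective (fun i : Fin p => μf i.val) := by
    intro i j hij
    by_contra hne
    rcases lt_or_gt_of_ne (fun h => hne (Fin.ext h)) with h | h
    · exact hdist i.val j.val h j.2 hij
    · exact hdist j.val i.val h i.2 hij.symm
  have hli : LinearIndependent E (fun i : Fin p => ρ (a ^ i.val) v) := by
    apply Module.End.eigenvectors_linearIndependent' (ρ b) (fun i : Fin p => μf i.val) hinj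
    intro i
    refine ⟨?_, ?_⟩
    · rw [Module.End.mem_eigenspace_iff]
      exact heigv i.val
    · intro h0
      exact hv0 (rho_eq_zero ρ h0)
  have hsum : ∑ i : Fin p, (1 : E) • ρ (a ^ i.val) v = 0 := by
    simp only [one_smul]
    rw [Fin.sum_univ_eq_sum_range (fun i => ρ (a ^ i) v) p]
    exact sum_pow_eq_zero hfpf ha1 hap v
  have := Fintype.linearIndependent_iff.mp hli (fun _ => 1) hsum ⟨0, hp.pos⟩
  exact one_ne_zero this

include hfpf in
theorem fpf_comp {K : Type*} [Group K] (φ : K →* H) (hφ : Function.Injective φ) : Fpf (ρ.comp φ) := by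
  intro g hg v hv
  apply hfpf (φ g) _ v hv
  intro h
  apply hg
  apply hφ
  rw [h, map_one]

include heig in
theorem hasEig_comp {K : Type*} [Group K] (φ : K →* H) : HasEig (ρ.comp φ) :=
  fun g U hU hinv => heig (φ g) U hU hinv

include hfpf heig in
/-- A fixed-point-free group of order `pq` with `p < q` is cyclic. -/
theorem pq_cyclic_top [Finite H] {p q : ℕ} (hp : p.Prime) (hq : q.Prime) (hpq : p < q)
    (hcard : Nat.card H = p * q) : IsCyclic H := by
  classical
  have : Fact p.Prime := ⟨hp⟩
  have : Fact q.Prime := ⟨hq⟩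
  obtain ⟨a, ha⟩ := exists_prime_orderOf_dvd_card' (G := H) p (by rw [hcard]; exact dvd_mul_right p q)
  obtain ⟨b, hb⟩ := exists_prime_orderOf_dvd_card' (G := H) q (by rw [hcard]; exact dvd_mul_left q p)
  -- the subgroup generated by `b` is normal
  have hQcard : Nat.card (Subgroup.zpowers b) = q := by rw [Nat.card_zpowers, hb]
  have hidx : (Subgroup.zpowers b).index = p := by
    have h := (Subgroup.zpowers b).card_mul_index
    rw [hQcard, hcard, mul_comm p q] at h
    exact Nat.eq_of_mul_eq_mul_left hq.pos h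
  have hmin : (Nat.card H).minFac = p := by
    rw [hcard]
    have h1 : (p * q).minFac ∣ p * q := Nat.minFac_dvd _
    have h2 : (p * q).minFac.Prime := Nat.minFac_prime (by
      have := hp.one_lt; have := hq.one_lt; nlinarith)
    have h3 : (p * q).minFac ≤ p := Nat.minFac_le_of_dvd hp.two_le (dvd_mul_right p q)
    rcases (Nat.Prime.dvd_mul h2).mp h1 with h | h
    · exact (Nat.prime_dvd_prime_iff_eq h2 hp).mp h
    · have := (Nat.prime_dvd_prime_iff_eq h2 hq).mp h
      omega
  have hnormal : (Subgroup.zpowers b).Normal :=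
    Subgroup.normal_of_index_eq_minFac_card (by rw [hidx, hmin])
  have hnorm : ∀ i : ℕ, (a ^ i)⁻¹ * b * a ^ i ∈ Subgroup.zpowers b := by
    intro i
    have := hnormal.conj_mem b (Subgroup.mem_zpowers b) ((a ^ i)⁻¹)
    rwa [inv_inv] at this
  have hcom : Commute a b := commute_of_normalizes hfpf heig hp ha hnorm
  have hord : orderOf (a * b) = p * q := by
    rw [hcom.orderOf_mul_eq_mul_orderOf_of_coprime, ha, hb]
    rw [ha, hb]
    exact (Nat.coprime_primes hp hq).mpr (ne_of_lt hpq)
  exact isCyclic_of_orderOf_eq_card (a * b) (by rw [hord, hcard])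

include hfpf heig in
/-- Subgroups of order `pq` are cyclic. -/
theorem pq_cyclic [Finite H] (A : Subgroup H) (p q : ℕ) (hp : p.Prime) (hq : q.Prime)
    (hA : Nat.card A = p * q) : IsCyclic A := by
  have hf := fpf_comp hfpf A.subtype A.subtype_injective
  have he := hasEig_comp heig A.subtype
  rcases lt_trichotomy p q with h | h | h
  · exact pq_cyclic_top hf he hp hq h hA
  · subst h
    have : Fact p.Prime := ⟨hp⟩
    have hc := IsPGroup.isMulCommutative_of_card_eq_prime_sq (G := A) (p := p) (by rw [hA, pow_two])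
    apply comm_cyclic hfpf heig A
    intro x hx y hy
    have := hc.is_comm.comm ⟨x, hx⟩ ⟨y, hy⟩
    exact congrArg Subtype.val this
  · exact pq_cyclic_top hf he hq hp h (by rw [hA, mul_comm])

end

end Cfsg.Agent.Helper8.ZasL
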