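import Mathlib
import Cfsg.Agent.Helper8.ZasLC

set_option autoImplicit false
set_option linter.unusedSectionVars false

/-!
Fixed-point-free linear groups: the eigenvector trick for a pair of quadratic elements (a nonzero invariant subspace
contains a nonzero invariant subspace of dimension at most two).
-/

namespace Cfsg.Agent.Helper8.ZasL

open Cfsg.Agent.Helper6.Zas

variable {H : Type*} [Group H] {E : Type*} [Field E] {V : Type*} [AddCommGroup V] [Module E V]
  {ρ : H →* (V →ₗ[E] V)}

/-- An element of order three is quadratic with parameter `-1`. -/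
theorem quad_of_order_three (hfpf : Fpf ρ) {a : H} (ha : orderOf a = 3) : Quad ρ a (-1) := by
  intro v
  have ha1 : a ≠ 1 := by
    rintro rfl
    rw [orderOf_one] at ha
    exact absurd ha (by norm_num)
  have ha3 : a ^ 3 = 1 := by rw [← ha]; exact pow_orderOf_eq_one a
  have h := sum_pow_eq_zero hfpf ha1 ha3 v
  rw [Finset.sum_range_succ, Finset.sum_range_succ, Finset.sum_range_one, pow_zero, pow_one, rho_one, pow_two,
    rho_mul] at h
  rw [neg_one_smul]
  have : ρ a (ρ a v) = -(v + ρ a v) := eq_neg_of_add_eq_zero_right h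
  rw [this]; abel

/-- An element of order four is quadratic with parameter `0`. -/
theorem quad_of_order_four (hfpf : Fpf ρ) {x : H} (hx : orderOf x = 4) : Quad ρ x 0 := by
  intro v
  have h2 : orderOf (x ^ 2) = 2 := by
    rw [orderOf_pow' x (by norm_num : (2 : ℕ) ≠ 0), hx]
    decide
  have := rho_invol hfpf h2 v
  rw [pow_two, rho_mul] at this
  rw [this, zero_smul, zero_sub]

/-- The inverse of a quadratic element in terms of the element. -/
theorem Quad.inv_apply {g : H} {θ : E} (hg : Quad ρ g θ) (v : V) : ρ g⁻¹ v = θ • v - ρ g v := by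
  apply rho_injective ρ g
  rw [rho_inv_right, map_sub, map_smul, hg v]
  abel

/-- `g` is quadratic with parameter `θ` on the subspace `U`. -/
def QuadOn (ρ : H →* (V →ₗ[E] V)) (g : H) (θ : E) (U : Submodule E V) : Prop :=
  ∀ v ∈ U, ρ g (ρ g v) = θ • ρ g v - v

theorem Quad.on {g : H} {θ : E} (hg : Quad ρ g θ) (U : Submodule E V) : QuadOn ρ g θ U := fun v _ => hg v

theorem QuadOn.mono {g : H} {θ : E} {U U' : Submodule E V} (hg : QuadOn ρ g θ U) (h : U' ≤ U) :
    QuadOn ρ g θ U' := fun v hv => hg v (h hv)

section lemmaA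

variable [FiniteDimensional E V] (heig : HasEig ρ)

include heig in
/-- **Lemma A**: a nonzero subspace stable under two elements that are quadratic on it contains a nonzero stable
subspace of dimension at most two. -/
theorem exists_inv_finrank_le_two {a b : H} {θa θb : E} {U₀ : Submodule E V} (ha : QuadOn ρ a θa U₀)
    (hb : QuadOn ρ b θb U₀) (h0 : U₀ ≠ ⊥) (hU₀ : Inv ρ {a, b} U₀) :
    ∃ U : Submodule E V, U ≤ U₀ ∧ U ≠ ⊥ ∧ Inv ρ {a, b} U ∧ Module.finrank E U ≤ 2 := by
  classical
  have hUa : ∀ u ∈ U₀, ρ a u ∈ U₀ := hU₀ a (by simp)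
  have hUb : ∀ u ∈ U₀, ρ b u ∈ U₀ := hU₀ b (by simp)
  have hab : ∀ u ∈ U₀, ρ (a * b) u ∈ U₀ := fun u hu => by rw [rho_mul]; exact hUa _ (hUb u hu)
  obtain ⟨v, hvU, hv0, lam, hlam⟩ := heig (a * b) U₀ h0 hab
  have hl0 : lam ≠ 0 := by
    rintro rfl
    rw [zero_smul] at hlam
    exact hv0 (rho_eq_zero ρ hlam)
  set w : V := ρ b v with hw
  have haw : ρ a w = lam • v := by rw [hw, ← rho_mul, hlam]
  have hbw : ρ b w = θb • w - v := hb v hvU
  have hav : ρ a v = θa • v - lam⁻¹ • w := by
    have h1 := ha w (hUb v hvU)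
    rw [haw, map_smul] at h1
    -- `lam • ρ a v = θa • lam • v - w`
    have h2 : ρ a v = lam⁻¹ • (θa • lam • v - w) := by
      rw [← h1, smul_smul, inv_mul_cancel₀ hl0, one_smul]
    rw [h2, smul_sub, smul_smul, smul_smul]
    congr 1
    congr 1
    field_simp
  refine ⟨Submodule.span E {v, w}, ?_, ?_, ?_, ?_⟩
  · rw [Submodule.span_le]
    intro x hx
    rcases hx with rfl | rfl
    · exact hvU
    · exact hUb v hvU
  · intro h
    have : v ∈ Submodule.span E ({v, w} : Set V) := Submodule.subset_span (by simp)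
    rw [h, Submodule.mem_bot] at this
    exact hv0 this
  · have hvS : v ∈ Submodule.span E ({v, w} : Set V) := Submodule.subset_span (by simp)
    have hwS : w ∈ Submodule.span E ({v, w} : Set V) := Submodule.subset_span (by simp)
    have key : ∀ g : H, ρ g v ∈ Submodule.span E ({v, w} : Set V) →
        ρ g w ∈ Submodule.span E ({v, w} : Set V) →
        ∀ u ∈ Submodule.span E ({v, w} : Set V), ρ g u ∈ Submodule.span E ({v, w} : Set V) := by
      intro g h1 h2 u hu
      have : (Submodule.span E ({v, w} : Set V)).map (ρ g) ≤ Submodule.span E ({v, w} : Set V) := by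
        rw [Submodule.map_span, Submodule.span_le]
        rintro x ⟨y, hy, rfl⟩
        rcases hy with rfl | rfl
        · exact h1
        · exact h2
      exact this (Submodule.mem_map_of_mem hu)
    intro g hg
    rcases hg with rfl | rfl
    · apply key
      · rw [hav]
        exact Submodule.sub_mem _ (Submodule.smul_mem _ _ hvS) (Submodule.smul_mem _ _ hwS)
      · rw [haw]
        exact Submodule.smul_mem _ _ hvS
    · apply key
      · exact hwS
      · rw [hbw]
        exact Submodule.sub_mem _ (Submodule.smul_mem _ _ hwS) hvS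
  · have := finrank_span_finset_le_card (R := E) ({v, w} : Finset V)
    have h2 : ({v, w} : Finset V).card ≤ 2 := Finset.card_le_two
    have e : ((({v, w} : Finset V) : Set V)) = ({v, w} : Set V) := by simp
    rw [e] at this
    exact this.trans h2

end lemmaA

end Cfsg.Agent.Helper8.ZasL
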