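import Mathlib
import Cfsg.Agent.Helper8.ZasLD

set_option autoImplicit false
set_option linter.unusedSectionVars false

/-!
Fixed-point-free linear groups: a group generated by two quadratic elements is abelian or embeds in `SL₂(E)`.
-/

namespace Cfsg.Agent.Helper8.ZasL

open Cfsg.Agent.Helper6.Zas

variable {H : Type*} [Group H] {E : Type*} [Field E] {V : Type*} [AddCommGroup V] [Module E V]
  {ρ : H →* (V →ₗ[E] V)}

/-- The action of a subgroup on a stable subspace. -/
def resHom (K : Subgroup H) (U : Submodule E V) (hU : Inv ρ (K : Set H) U) : K →* Module.End E U where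
  toFun g := (ρ g.1).restrict (hU g.1 g.2)
  map_one' := by
    ext u
    simp
  map_mul' := by
    intro g h
    ext u
    simp

theorem resHom_apply (K : Subgroup H) (U : Submodule E V) (hU : Inv ρ (K : Set H) U) (g : K) (u : U) :
    ((resHom K U hU g u : U) : V) = ρ g.1 u.1 := rfl

/-- A `2 × 2` matrix with `A² = θ A - 1` is a scalar or has determinant one. -/
theorem scalar_or_det_one (A : Matrix (Fin 2) (Fin 2) E) (θ : E) (h : A * A = θ • A - 1) :
    (∃ c : E, A = c • (1 : Matrix (Fin 2) (Fin 2) E)) ∨ A.det = 1 := by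
  have hCH : A * A = (A 0 0 + A 1 1) • A - A.det • (1 : Matrix (Fin 2) (Fin 2) E) := by
    rw [Matrix.det_fin_two]
    ext i j
    fin_cases i <;> fin_cases j <;>
      simp only [Matrix.mul_apply, Fin.sum_univ_two, Matrix.sub_apply, Matrix.smul_apply,
        Matrix.one_apply, smul_eq_mul, Fin.zero_eta, Fin.mk_one, Fin.isValue, if_true, if_false,
        zero_ne_one, one_ne_zero] <;> ring
  have hkey : (θ - (A 0 0 + A 1 1)) • A = (1 - A.det) • (1 : Matrix (Fin 2) (Fin 2) E) := by
    have : θ • A - 1 = (A 0 0 + A 1 1) • A - A.det • (1 : Matrix (Fin 2) (Fin 2) E) := by rw [← h, hCH]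
    rw [sub_smul, sub_smul, one_smul]
    have h2 : θ • A - (A 0 0 + A 1 1) • A = 1 - A.det • (1 : Matrix (Fin 2) (Fin 2) E) := by
      have e : θ • A = (A 0 0 + A 1 1) • A - A.det • (1 : Matrix (Fin 2) (Fin 2) E) + 1 := by
        rw [← this]; abel
      rw [e]; abel
    exact h2
  by_cases hθ : θ - (A 0 0 + A 1 1) = 0
  · right
    rw [hθ, zero_smul] at hkey
    have := congrArg (fun M : Matrix (Fin 2) (Fin 2) E => M 0 0) hkey
    simp only [Matrix.zero_apply, Matrix.smul_apply, Matrix.one_apply_eq, smul_eq_mul, mul_one] at this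
    exact (sub_eq_zero.mp this.symm).symm
  · left
    refine ⟨(θ - (A 0 0 + A 1 1))⁻¹ * (1 - A.det), ?_⟩
    rw [← smul_smul, ← hkey, smul_smul, inv_mul_cancel₀ hθ, one_smul]

section main

variable [FiniteDimensional E V] [Nontrivial V] (hfpf : Fpf ρ) (heig : HasEig ρ)

include hfpf heig in
/-- A group generated by two elements that are quadratic on a common nonzero stable subspace is abelian or
embeds in `SL₂(E)`. -/
theorem sl2_embedding_on {a b : H} {θa θb : E} {V₁ : Submodule E V} (hV₁ : V₁ ≠ ⊥)
    (hinv₁ : Inv ρ ({a, b} : Set H) V₁) (ha : QuadOn ρ a θa V₁) (hb : QuadOn ρ b θb V₁) :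
    Commute a b ∨ ∃ Ψ : ↥(Subgroup.closure ({a, b} : Set H)) →* Matrix.SpecialLinearGroup (Fin 2) E,
      Function.Injective Ψ := by
  classical
  set K : Subgroup H := Subgroup.closure ({a, b} : Set H) with hKdef
  have haK : a ∈ K := Subgroup.subset_closure (by simp)
  have hbK : b ∈ K := Subgroup.subset_closure (by simp)
  obtain ⟨U, hUV₁, hne, hinv, hmin⟩ := exists_minimal_inv (ρ := ρ) ({a, b} : Set H) hV₁ hinv₁
  have ha : QuadOn ρ a θa U := ha.mono hUV₁
  have hb : QuadOn ρ b θb U := hb.mono hUV₁
  have hfr : Module.finrank E U ≤ 2 := by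
    obtain ⟨U', hle, hne', hinv', hfr'⟩ := exists_inv_finrank_le_two heig ha hb hne hinv
    rw [← hmin U' hle hne' hinv']
    exact hfr'
  have hK : Inv ρ (K : Set H) U := inv_closure hinv
  obtain ⟨u₀, hu₀U, hu₀⟩ := Submodule.exists_mem_ne_zero_of_ne_bot hne
  -- an element acting trivially on `U` is trivial
  have hfaith : ∀ g : H, (∀ u ∈ U, ρ g u = u) → g = 1 := fun g hg => eq_one_of_fix hfpf hu₀ (hg u₀ hu₀U)
  -- an element acting as a scalar on `U` commutes with everything stabilizing `U`
  have hscal_comm : ∀ g h : H, (∃ c : E, ∀ u ∈ U, ρ g u = c • u) → (∀ u ∈ U, ρ h u ∈ U) → Commute g h := by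
    rintro g h ⟨c, hc⟩ hh
    have : (h * g)⁻¹ * (g * h) = 1 := by
      apply hfaith
      intro u hu
      have e1 : ρ (g * h) u = ρ (h * g) u := by
        rw [rho_mul, rho_mul, hc u hu, hc _ (hh u hu), map_smul]
      rw [rho_mul, e1, rho_inv_left]
    have := inv_mul_eq_one.mp this
    exact this.symm
  have hfr0 : Module.finrank E U ≠ 0 := by
    intro h
    exact hne (Submodule.finrank_eq_zero.mp h)
  have hfr12 : Module.finrank E U = 1 ∨ Module.finrank E U = 2 := by omega
  rcases hfr12 with h1 | h2
  · -- dimension one: every element is a scalar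
    left
    obtain ⟨⟨w, hwU⟩, hw0, hw⟩ := finrank_eq_one_iff'.mp h1
    apply hscal_comm a b _ (hinv b (by simp))
    obtain ⟨c, hc⟩ := hw ⟨ρ a w, hinv a (by simp) w hwU⟩
    refine ⟨c, fun u hu => ?_⟩
    obtain ⟨d, hd⟩ := hw ⟨u, hu⟩
    have hd' : d • w = u := congrArg Subtype.val hd
    have hc' : c • w = ρ a w := congrArg Subtype.val hc
    rw [← hd', map_smul, ← hc', smul_smul, smul_smul, mul_comm]
  · -- dimension two
    let 𝔟 : Module.Basis (Fin 2) E U := Module.finBasisOfFinrankEq E U h2
    let R : K →* Module.End E U := resHom K U hK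
    let T : Module.End E U →* Matrix (Fin 2) (Fin 2) E :=
      (LinearMap.toMatrixAlgEquiv 𝔟).toRingEquiv.toMulEquiv.toMonoidHom
    let M : K →* Matrix (Fin 2) (Fin 2) E := T.comp R
    have hTinj : Function.Injective T := (LinearMap.toMatrixAlgEquiv 𝔟).injective
    -- scalar matrices come from scalar actions
    have hscal : ∀ g : K, (∃ c : E, M g = c • (1 : Matrix (Fin 2) (Fin 2) E)) →
        ∃ c : E, ∀ u ∈ U, ρ g.1 u = c • u := by
      rintro g ⟨c, hc⟩
      refine ⟨c, fun u hu => ?_⟩
      have e : R g = c • (1 : Module.End E U) := by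
        apply hTinj
        change M g = (LinearMap.toMatrixAlgEquiv 𝔟) (c • (1 : Module.End E U))
        rw [hc, map_smul, map_one]
      have := congrArg (fun φ : Module.End E U => ((φ ⟨u, hu⟩ : U) : V)) e
      simpa [R, resHom_apply] using this
    -- the quadratic relation for matrices
    have hquad : ∀ (g : K) (θ : E), QuadOn ρ g.1 θ U → M g * M g = θ • M g - 1 := by
      intro g θ hg
      have e : R g * R g = θ • R g - 1 := by
        ext u
        simp only [Module.End.mul_apply, LinearMap.sub_apply, LinearMap.smul_apply, Module.End.one_apply,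
          Submodule.coe_sub, Submodule.coe_smul, R, resHom_apply]
        exact hg u.1 u.2
      change T (R g) * T (R g) = θ • T (R g) - 1
      rw [← map_mul, e]
      change (LinearMap.toMatrixAlgEquiv 𝔟) (θ • R g - 1) = θ • (LinearMap.toMatrixAlgEquiv 𝔟) (R g) - 1
      rw [map_sub, map_smul, map_one]
    rcases scalar_or_det_one (M ⟨a, haK⟩) θa (hquad ⟨a, haK⟩ θa ha) with hsa | hda
    · left
      exact hscal_comm a b (hscal ⟨a, haK⟩ hsa) (hinv b (by simp))
    rcases scalar_or_det_one (M ⟨b, hbK⟩) θb (hquad ⟨b, hbK⟩ θb hb) with hsb | hdb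
    · left
      exact (hscal_comm b a (hscal ⟨b, hbK⟩ hsb) (hinv a (by simp))).symm
    right
    -- all determinants are one
    let dh : K →* E := Matrix.detMonoidHom.comp M
    have hgen : Subgroup.closure (((↑) : K → H) ⁻¹' ({a, b} : Set H)) = ⊤ :=
      Subgroup.closure_closure_coe_preimage
    have hker : dh.ker = ⊤ := by
      rw [eq_top_iff, ← hgen, Subgroup.closure_le]
      intro g hg
      rw [Set.mem_preimage] at hg
      rw [SetLike.mem_coe, MonoidHom.mem_ker]
      rcases hg with hg | hg
      · have : g = ⟨a, haK⟩ := Subtype.ext hg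
        rw [this]; exact hda
      · have : g = ⟨b, hbK⟩ := Subtype.ext hg
        rw [this]; exact hdb
    have hdet : ∀ g : K, (M g).det = 1 := by
      intro g
      have : g ∈ dh.ker := by rw [hker]; trivial
      exact MonoidHom.mem_ker.mp this
    let Ψ : K →* Matrix.SpecialLinearGroup (Fin 2) E :=
      { toFun := fun g => ⟨M g, hdet g⟩
        map_one' := by
          apply Subtype.ext
          change M 1 = 1
          exact map_one M
        map_mul' := by
          intro g h
          apply Subtype.ext
          change M (g * h) = M g * M h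
          exact map_mul M g h }
    refine ⟨Ψ, ?_⟩
    rw [injective_iff_map_eq_one]
    intro g hg
    have hMg : M g = 1 := congrArg Subtype.val hg
    have hRg : R g = 1 := by
      apply hTinj
      change M g = T 1
      rw [hMg, map_one]
    apply Subtype.ext
    apply hfaith
    intro u hu
    have := congrArg (fun φ : Module.End E U => ((φ ⟨u, hu⟩ : U) : V)) hRg
    simpa [R, resHom_apply] using this

include hfpf heig in
/-- A group generated by two quadratic elements is abelian or embeds in `SL₂(E)`. -/
theorem sl2_embedding {a b : H} {θa θb : E} (ha : Quad ρ a θa) (hb : Quad ρ b θb) :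
    Commute a b ∨ ∃ Ψ : ↥(Subgroup.closure ({a, b} : Set H)) →* Matrix.SpecialLinearGroup (Fin 2) E,
      Function.Injective Ψ :=
  sl2_embedding_on hfpf heig top_ne_bot (inv_top _) (Quad.on ha _) (Quad.on hb _)

end main

end Cfsg.Agent.Helper8.ZasL
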