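import Mathlib
import Cfsg.Agent.Helper8.ZasLE

set_option autoImplicit false
set_option linter.unusedSectionVars false

/-!
Fixed-point-free linear groups: the characteristic does not divide the order; for a group generated by two quadratic
elements, `ρ h + ρ h⁻¹` commutes with the generators.
-/

namespace Cfsg.Agent.Helper8.ZasL

open Cfsg.Agent.Helper6.Zas

variable {H : Type*} [Group H] {E : Type*} [Field E] {V : Type*} [AddCommGroup V] [Module E V]
  {ρ : H →* (V →ₗ[E] V)}

theorem rho_pow_eigen {g : H} {v : V} {μ : E} (hμ : ρ g v = μ • v) (n : ℕ) : ρ (g ^ n) v = μ ^ n • v := by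
  induction n with
  | zero => rw [pow_zero, rho_one, pow_zero, one_smul]
  | succ n ih => rw [pow_succ, rho_mul, hμ, map_smul, ih, smul_smul, pow_succ, mul_comm]

section coprime

variable [Finite H] [Nontrivial V] (hfpf : Fpf ρ) (heig : HasEig ρ)

include hfpf heig in
theorem not_dvd_card_aux (p : ℕ) [hp : Fact p.Prime] [CharP E p] : ¬ p ∣ Nat.card H := by
  intro hdvd
  obtain ⟨g, hg⟩ := exists_prime_orderOf_dvd_card' p hdvd
  have hg1 : g ≠ 1 := by
    rintro rfl
    rw [orderOf_one] at hg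
    exact hp.out.one_lt.ne hg
  obtain ⟨v, -, hv0, μ, hμ⟩ := heig g ⊤ top_ne_bot (fun _ _ => Submodule.mem_top)
  have h1 : μ ^ p = 1 := by
    have := rho_pow_eigen hμ p
    rw [← hg, pow_orderOf_eq_one, rho_one] at this
    by_contra hne
    have h0 : (μ ^ orderOf g - 1) • v = 0 := by rw [sub_smul, one_smul, ← this, sub_self]
    rcases smul_eq_zero.mp h0 with h | h
    · rw [hg] at h
      exact hne (sub_eq_zero.mp h)
    · exact hv0 h
  have h2 : (μ - 1) ^ p = 0 := by rw [sub_pow_char, h1, one_pow, sub_self]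
  have h3 : μ = 1 := sub_eq_zero.mp ((pow_eq_zero_iff hp.out.ne_zero).mp h2)
  rw [h3, one_smul] at hμ
  exact hv0 (hfpf g hg1 v hμ)

include hfpf heig in
/-- The characteristic does not divide the order of a fixed-point-free group. -/
theorem not_dvd_card [Finite E] : ¬ ringChar E ∣ Nat.card H := by
  have hcp : CharP E (ringChar E) := ringChar.charP E
  have hprime : Fact (ringChar E).Prime := ⟨CharP.char_is_prime E (ringChar E)⟩
  exact not_dvd_card_aux hfpf heig (ringChar E)

include hfpf heig in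
theorem not_dvd_card_subgroup [Finite E] (K : Subgroup H) : ¬ ringChar E ∣ Nat.card K := fun h =>
  not_dvd_card hfpf heig (h.trans (Subgroup.card_subgroup_dvd_card K))

include hfpf heig in
/-- The eigenvectors of `ρ g` span the space. -/
theorem span_eigenvectors [Finite E] [FiniteDimensional E V] (g : H) :
    Submodule.span E {v : V | ∃ μ : E, ρ g v = μ • v} = ⊤ := by
  classical
  have hcp : CharP E (ringChar E) := ringChar.charP E
  have hn0 : ((orderOf g : ℕ) : E) ≠ 0 := by
    intro h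
    rw [CharP.cast_eq_zero_iff E (ringChar E)] at h
    exact not_dvd_card hfpf heig (h.trans (orderOf_dvd_natCard g))
  have hss : Module.End.IsSemisimple (ρ g) := by
    apply Module.End.isSemisimple_of_squarefree_aeval_eq_zero
      (p := Polynomial.X ^ orderOf g - Polynomial.C (1 : E))
    · exact (Polynomial.separable_X_pow_sub_C 1 hn0 one_ne_zero).squarefree
    · rw [map_sub, map_pow, Polynomial.aeval_X, Polynomial.aeval_C, map_one, ← map_pow, pow_orderOf_eq_one,
        map_one, sub_self]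
  set W := Submodule.span E {v : V | ∃ μ : E, ρ g v = μ • v} with hW
  have hWinv : W ∈ Module.End.invtSubmodule (ρ g) := by
    rw [Module.End.mem_invtSubmodule, hW, Submodule.span_le]
    rintro v ⟨μ, hμ⟩
    rw [SetLike.mem_coe, Submodule.mem_comap, hμ]
    exact Submodule.smul_mem _ _ (Submodule.subset_span ⟨μ, hμ⟩)
  obtain ⟨q, hq, hcompl⟩ := Module.End.isSemisimple_iff.mp hss W hWinv
  by_contra hne
  have hq0 : q ≠ ⊥ := by
    intro h
    rw [h] at hcompl
    exact hne (eq_top_of_isCompl_bot hcompl)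
  rw [Module.End.mem_invtSubmodule] at hq
  obtain ⟨v, hvq, hv0, μ, hμ⟩ := heig g q hq0 (fun u hu => hq hu)
  have hvW : v ∈ W := Submodule.subset_span ⟨μ, hμ⟩
  have : v ∈ W ⊓ q := ⟨hvW, hvq⟩
  rw [hcompl.inf_eq_bot, Submodule.mem_bot] at this
  exact hv0 this

end coprime

section theta

/-- the action of the first of two quadratic elements on an eigenvector of the product -/
theorem quad_pair_apply {a b : H} {θa : E} (ha : Quad ρ a θa) {v : V} {lam : E} (hl0 : lam ≠ 0)
    (hlam : ρ (a * b) v = lam • v) : ρ a v = θa • v - lam⁻¹ • ρ b v := by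
  have haw : ρ a (ρ b v) = lam • v := by rw [← rho_mul, hlam]
  have h1 := ha (ρ b v)
  rw [haw, map_smul] at h1
  have h2 : ρ a v = lam⁻¹ • (θa • lam • v - ρ b v) := by
    rw [← h1, smul_smul, inv_mul_cancel₀ hl0, one_smul]
  rw [h2, smul_sub, smul_smul, smul_smul]
  congr 1
  congr 1
  field_simp

/-- The elements of a group generated by two quadratic elements act on the span of `v, b v` (with `v` an eigenvector
of the product) by a matrix, the inverse acting by the adjugate matrix. -/
theorem pair_matrix {a b : H} {θa θb : E} (ha : Quad ρ a θa) (hb : Quad ρ b θb) {v : V} {lam : E}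
    (hl0 : lam ≠ 0) (hlam : ρ (a * b) v = lam • v) {h : H} (hh : h ∈ Subgroup.closure ({a, b} : Set H)) :
    ∃ α β γ δ : E, ρ h v = α • v + γ • ρ b v ∧ ρ h (ρ b v) = β • v + δ • ρ b v ∧
      ρ h⁻¹ v = δ • v - γ • ρ b v ∧ ρ h⁻¹ (ρ b v) = -β • v + α • ρ b v := by
  have hav := quad_pair_apply ha hl0 hlam
  have haw : ρ a (ρ b v) = lam • v := by rw [← rho_mul, hlam]
  induction hh using Subgroup.closure_induction with
  | mem x hx =>
    rcases hx with rfl | rfl
    · refine ⟨θa, lam, -lam⁻¹, 0, ?_, ?_, ?_, ?_⟩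
      · rw [hav]; module
      · rw [haw]; module
      · rw [Quad.inv_apply ha, hav]; module
      · rw [Quad.inv_apply ha, haw]; module
    · refine ⟨0, -1, 1, θb, ?_, ?_, ?_, ?_⟩
      · module
      · rw [hb v]; module
      · rw [Quad.inv_apply hb]; module
      · rw [rho_inv_left]; module
  | one =>
    refine ⟨1, 0, 0, 1, ?_, ?_, ?_, ?_⟩
    · rw [rho_one]; module
    · rw [rho_one]; module
    · rw [inv_one, rho_one]; module
    · rw [inv_one, rho_one]; module
  | mul x y _ _ hx hy =>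
    obtain ⟨α₁, β₁, γ₁, δ₁, e1, e2, e3, e4⟩ := hx
    obtain ⟨α₂, β₂, γ₂, δ₂, f1, f2, f3, f4⟩ := hy
    refine ⟨α₁ * α₂ + β₁ * γ₂, α₁ * β₂ + β₁ * δ₂, γ₁ * α₂ + δ₁ * γ₂, γ₁ * β₂ + δ₁ * δ₂, ?_, ?_, ?_, ?_⟩
    · rw [rho_mul, f1, map_add, map_smul, map_smul, e1, e2]; module
    · rw [rho_mul, f2, map_add, map_smul, map_smul, e1, e2]; module
    · rw [mul_inv_rev, rho_mul, e3, map_sub, map_smul, map_smul, f3, f4]; module
    · rw [mul_inv_rev, rho_mul, e4, map_add, map_smul, map_smul, f3, f4]; module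
  | inv x _ hx =>
    obtain ⟨α, β, γ, δ, e1, e2, e3, e4⟩ := hx
    refine ⟨δ, -β, -γ, α, ?_, ?_, ?_, ?_⟩
    · rw [e3]; module
    · exact e4
    · rw [inv_inv, e1]; module
    · rw [inv_inv, e2]; module

variable [Finite H] [Finite E] [FiniteDimensional E V] [Nontrivial V] (hfpf : Fpf ρ) (heig : HasEig ρ)

include hfpf heig in
/-- In a group generated by two quadratic elements, `ρ h + ρ h⁻¹` commutes with the generators. -/
theorem theta_comm {a b : H} {θa θb : E} (ha : Quad ρ a θa) (hb : Quad ρ b θb) {h : H}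
    (hh : h ∈ Subgroup.closure ({a, b} : Set H)) :
    (ρ h + ρ h⁻¹) ∘ₗ ρ a = ρ a ∘ₗ (ρ h + ρ h⁻¹) ∧ (ρ h + ρ h⁻¹) ∘ₗ ρ b = ρ b ∘ₗ (ρ h + ρ h⁻¹) := by
  have key : ∀ v : V, (∃ μ : E, ρ (a * b) v = μ • v) →
      (ρ h + ρ h⁻¹) (ρ a v) = ρ a ((ρ h + ρ h⁻¹) v) ∧ (ρ h + ρ h⁻¹) (ρ b v) = ρ b ((ρ h + ρ h⁻¹) v) := by
    rintro v ⟨lam, hlam⟩
    by_cases hv0 : v = 0
    · subst hv0
      simp
    have hl0 : lam ≠ 0 := by
      rintro rfl
      rw [zero_smul] at hlam
      exact hv0 (rho_eq_zero ρ hlam)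
    obtain ⟨α, β, γ, δ, e1, e2, e3, e4⟩ := pair_matrix ha hb hl0 hlam hh
    have hav := quad_pair_apply ha hl0 hlam
    have hTv : (ρ h + ρ h⁻¹) v = (α + δ) • v := by
      rw [LinearMap.add_apply, e1, e3]; module
    have hTw : (ρ h + ρ h⁻¹) (ρ b v) = (α + δ) • ρ b v := by
      rw [LinearMap.add_apply, e2, e4]; module
    constructor
    · rw [hTv, map_smul, hav, map_sub, map_smul, map_smul, hTv, hTw]; module
    · rw [hTw, hTv, map_smul]
  have hspan := span_eigenvectors hfpf heig (a * b)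
  constructor
  · apply LinearMap.ext_on hspan
    intro v hv
    exact (key v hv).1
  · apply LinearMap.ext_on hspan
    intro v hv
    exact (key v hv).2

end theta

end Cfsg.Agent.Helper8.ZasL
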