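import Mathlib
import Cfsg.Agent.Helper8.ZasLG
import Cfsg.Agent.Helper8.ZasLH

set_option autoImplicit false
set_option linter.unusedSectionVars false

/-!
Fixed-point-free linear groups: the group-theoretic consequences used in the proof of the theorem of Zassenhaus on
perfect complements.
-/

namespace Cfsg.Agent.Helper8.ZasL

open Cfsg.Agent.Helper6.Zas

variable {H : Type*} [Group H] [Finite H] {E : Type*} [Field E] [Finite E] {V : Type*} [AddCommGroup V]
  [Module E V] [FiniteDimensional E V] [Nontrivial V] {ρ : H →* (V →ₗ[E] V)} (hfpf : Fpf ρ) (heig : HasEig ρ)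

include hfpf in
theorem invol_unique_subgroup (K : Subgroup H) (s t : K) (hs : orderOf s = 2) (ht : orderOf t = 2) : s = t := by
  apply Subtype.ext
  apply invol_unique hfpf
  · rw [Subgroup.orderOf_coe]; exact hs
  · rw [Subgroup.orderOf_coe]; exact ht

theorem closure_pair_top (a b : H) :
    Subgroup.closure ({⟨a, Subgroup.subset_closure (by simp)⟩, ⟨b, Subgroup.subset_closure (by simp)⟩} :
      Set ↥(Subgroup.closure ({a, b} : Set H))) = ⊤ := by
  have h := Subgroup.closure_closure_coe_preimage (k := ({a, b} : Set H))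
  rw [← h]
  congr 1
  ext x
  simp only [Set.mem_insert_iff, Set.mem_singleton_iff, Set.mem_preimage]
  constructor
  · rintro (rfl | rfl)
    · left; rfl
    · right; rfl
  · rintro (h | h)
    · left; exact Subtype.ext h
    · right; exact Subtype.ext h

include hfpf heig in
/-- two elements of order three -/
theorem f1_of_fpf {a b : H} (ha : orderOf a = 3) (hb : orderOf b = 3) :
    Commute a b ∨ Cover (Subgroup.closure {a, b}) (alternatingGroup (Fin 4)) ∨
      Cover (Subgroup.closure {a, b}) (alternatingGroup (Fin 5)) := by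
  rcases sl2_embedding hfpf heig (quad_of_order_three hfpf ha) (quad_of_order_three hfpf hb) with h | ⟨Ψ, hΨ⟩
  · left; exact h
  · have := f1_abs Ψ hΨ (not_dvd_card_subgroup hfpf heig _) (invol_unique_subgroup hfpf _)
      (closure_pair_top a b) ((Subgroup.orderOf_mk a _).trans ha) ((Subgroup.orderOf_mk b _).trans hb)
    rcases this with h | h | h
    · left
      exact congrArg Subtype.val h.eq
    · right; left; exact h
    · right; right; exact h

include hfpf heig in
/-- an element of order four and an element of order three -/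
theorem f2_of_fpf {x a : H} (hx : orderOf x = 4) (ha : orderOf a = 3) :
    Commute x a ∨ Cover (Subgroup.closure {x, a}) (DihedralGroup 3) ∨
      Cover (Subgroup.closure {x, a}) (alternatingGroup (Fin 4)) ∨
      Cover (Subgroup.closure {x, a}) (Equiv.Perm (Fin 4)) ∨
      Cover (Subgroup.closure {x, a}) (alternatingGroup (Fin 5)) := by
  rcases sl2_embedding hfpf heig (quad_of_order_four hfpf hx) (quad_of_order_three hfpf ha) with h | ⟨Ψ, hΨ⟩
  · left; exact h
  · have := f2_abs Ψ hΨ (not_dvd_card_subgroup hfpf heig _) (invol_unique_subgroup hfpf _)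
      (closure_pair_top x a) ((Subgroup.orderOf_mk x _).trans hx) ((Subgroup.orderOf_mk a _).trans ha)
    rcases this with h | h | h | h | h
    · left
      exact congrArg Subtype.val h.eq
    · right; left; exact h
    · right; right; left; exact h
    · right; right; right; left; exact h
    · right; right; right; right; exact h

include hfpf heig in
/-- propagation of quadraticity -/
theorem dk_of_fpf {x₁ a₁ x₂ a₂ y a : H} (hx₁ : orderOf x₁ = 4) (ha₁ : orderOf a₁ = 3) (hx₂ : orderOf x₂ = 4)
    (ha₂ : orderOf a₂ = 3) (hy : orderOf y = 8) (hy₁ : y ∈ Subgroup.closure ({x₁, a₁} : Set H))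
    (hy₂ : y ∈ Subgroup.closure ({x₂, a₂} : Set H))
    (haL : a ∈ Subgroup.closure ({x₁, a₁, x₂, a₂} : Set H)) (ha : orderOf a = 3) :
    Commute y a ∨ Cover (Subgroup.closure {y, a}) (Equiv.Perm (Fin 4)) := by
  classical
  set S : Set H := {x₁, a₁, x₂, a₂} with hS
  obtain ⟨V₁, -, hne, hinv, hmin⟩ := exists_minimal_inv (ρ := ρ) S top_ne_bot (inv_top S)
  have hL : Inv ρ (Subgroup.closure S : Set H) V₁ := inv_closure hinv
  have hyL : y ∈ Subgroup.closure S := by
    have : Subgroup.closure ({x₁, a₁} : Set H) ≤ Subgroup.closure S := by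
      apply Subgroup.closure_mono
      intro g hg
      rcases hg with rfl | rfl
      · simp [hS]
      · simp [hS]
    exact this hy₁
  set T : V →ₗ[E] V := ρ y + ρ y⁻¹ with hT
  -- `T` commutes with the four generators
  have hx₁q := quad_of_order_four hfpf hx₁
  have ha₁q := quad_of_order_three hfpf ha₁
  have hx₂q := quad_of_order_four hfpf hx₂
  have ha₂q := quad_of_order_three hfpf ha₂
  obtain ⟨c1, c2⟩ := theta_comm hfpf heig hx₁q ha₁q hy₁
  obtain ⟨c3, c4⟩ := theta_comm hfpf heig hx₂q ha₂q hy₂
  have hcomm : ∀ g ∈ S, ∀ v : V, T (ρ g v) = ρ g (T v) := by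
    intro g hg v
    rcases hg with rfl | rfl | rfl | rfl
    · exact LinearMap.congr_fun c1 v
    · exact LinearMap.congr_fun c2 v
    · exact LinearMap.congr_fun c3 v
    · exact LinearMap.congr_fun c4 v
  -- an eigenvector of `y` in `V₁`
  obtain ⟨v, hvV₁, hv0, lam, hlam⟩ := heig y V₁ hne (hL y hyL)
  have hl0 : lam ≠ 0 := by
    rintro rfl
    rw [zero_smul] at hlam
    exact hv0 (rho_eq_zero ρ hlam)
  have hlam' : ρ y⁻¹ v = lam⁻¹ • v := by
    apply rho_injective ρ y
    rw [rho_inv_right, map_smul, hlam, smul_smul, inv_mul_cancel₀ hl0, one_smul]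
  set μ : E := lam + lam⁻¹ with hμ
  have hTv : T v = μ • v := by
    rw [hT, LinearMap.add_apply, hlam, hlam', hμ, add_smul]
  -- the eigenspace of `T` in `V₁`
  set W : Submodule E V := V₁ ⊓ LinearMap.ker (T - μ • LinearMap.id) with hW
  have hmemW : ∀ u : V, u ∈ W ↔ u ∈ V₁ ∧ T u = μ • u := by
    intro u
    rw [hW, Submodule.mem_inf, LinearMap.mem_ker, LinearMap.sub_apply, LinearMap.smul_apply, LinearMap.id_apply,
      sub_eq_zero]
  have hWV₁ : W = V₁ := by
    apply hmin W inf_le_left
    · intro h
      have : v ∈ W := (hmemW v).mpr ⟨hvV₁, hTv⟩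
      rw [h, Submodule.mem_bot] at this
      exact hv0 this
    · intro g hg u hu
      rw [hmemW] at hu ⊢
      refine ⟨hinv g hg u hu.1, ?_⟩
      rw [hcomm g hg u, hu.2, map_smul]
  have hTV₁ : ∀ u ∈ V₁, ρ y u + ρ y⁻¹ u = μ • u := by
    intro u hu
    rw [← hWV₁] at hu
    exact ((hmemW u).mp hu).2
  have hyq : QuadOn ρ y μ V₁ := by
    intro u hu
    have := hTV₁ (ρ y u) (hL y hyL u hu)
    rw [rho_inv_left] at this
    rw [← this]
    abel
  have haq : QuadOn ρ a (-1) V₁ := Quad.on (quad_of_order_three hfpf ha) V₁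
  have hinv' : Inv ρ ({y, a} : Set H) V₁ := by
    intro g hg
    rcases hg with rfl | rfl
    · exact hL _ hyL
    · exact hL _ haL
  rcases sl2_embedding_on hfpf heig hne hinv' hyq haq with h | ⟨Ψ, hΨ⟩
  · left; exact h
  · have := dk_abs Ψ hΨ (not_dvd_card_subgroup hfpf heig _) (invol_unique_subgroup hfpf _)
      (y := ⟨y, Subgroup.subset_closure (by simp)⟩) (a := ⟨a, Subgroup.subset_closure (by simp)⟩)
      ((Subgroup.orderOf_mk y _).trans hy) ((Subgroup.orderOf_mk a _).trans ha)
    rcases this with h | h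
    · left
      exact congrArg Subtype.val h.eq
    · right; exact h

end Cfsg.Agent.Helper8.ZasL
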