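import Mathlib
import Cfsg.Agent.Helper8.ZasLI

set_option autoImplicit false

/-!
Fixed-point-free linear groups: the group-theoretic data used in the proof of the theorem of Zassenhaus on perfect
complements (piece L of the project of helper6).
-/

namespace Cfsg.Agent.Helper8.ZasL

open Cfsg.Agent.Helper6.Zas

/-- PIECE L: a finite group with a fixed-point-free linear action over a finite field, all of whose elements have their
eigenvalues in the field, satisfies the conditions `ZData`. -/
theorem zdata_of_fpf {G₀ : Type*} [Group G₀] [Finite G₀] {E : Type*} [Field E] [Finite E]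
    {V : Type*} [AddCommGroup V] [Module E V] [FiniteDimensional E V] [Nontrivial V]
    (ρ : G₀ →* (V →ₗ[E] V)) (hfpf : Fpf ρ) (heig : HasEig ρ) : ZData G₀ where
  comm_cyclic := fun A hA => comm_cyclic hfpf heig A hA
  pq_cyclic := fun A p q hp hq hA => pq_cyclic hfpf heig A p q hp hq hA
  invol := fun _ _ hs ht => invol_unique hfpf hs ht
  f1 := fun _ _ ha hb => f1_of_fpf hfpf heig ha hb
  f2 := fun _ _ hx ha => f2_of_fpf hfpf heig hx ha
  dk := fun _ _ _ _ _ _ hx₁ ha₁ hx₂ ha₂ hr hr₁ hr₂ haL ha =>
    dk_of_fpf hfpf heig hx₁ ha₁ hx₂ ha₂ hr hr₁ hr₂ haL ha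

end Cfsg.Agent.Helper8.ZasL
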