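import Mathlib
import Cfsg.Agent.S0948
import Cfsg.Agent.S4479
import Cfsg.Agent.Helper6.PowCongr

set_option autoImplicit false

/-!
The Brauer endgame of the Klein case in the proof of the theorem of Zassenhaus (piece Br of the project of helper6): a
group of order `4u(16u² - 1)` with Klein four Sylow `2`-subgroups, one class of involutions, involution centralizers of
order `4u` and self-centralizing Sylow `2`-subgroups has `u = 1`.
-/

namespace Cfsg.Agent.Helper8.ZasBr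

/-- the case `ε = 1`: the Brauer quotient is smaller than one -/
theorem alpha_lt_one {a b c : ℚ} (ha : 1 ≤ a) (hb : 1 ≤ b) (hc : c = 1 + a + b) :
    a * b * c < (a + 1) * (b + 1) * (c - 1) := by
  subst hc
  nlinarith [mul_pos (by linarith : (0 : ℚ) < a) (by linarith : (0 : ℚ) < b)]

/-- the case `ε = -1`: the Brauer quotient is at most `15/8` -/
theorem alpha_le {a b c : ℚ} (hb : 3 ≤ b) (hc : 3 ≤ c) (ha : a = b + c - 1) :
    8 * (a * b * c) ≤ 15 * ((a + 1) * (b - 1) * (c - 1)) := by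
  subst ha
  obtain ⟨s, rfl⟩ : ∃ s, b = 3 + s := ⟨b - 3, by ring⟩
  obtain ⟨t, rfl⟩ : ∃ t, c = 3 + t := ⟨c - 3, by ring⟩
  have hs : 0 ≤ s := by linarith
  have ht : 0 ≤ t := by linarith
  have hst : 0 ≤ s * t := mul_nonneg hs ht
  have h1 : 0 ≤ (s + t) * (s * t) := mul_nonneg (by linarith) hst
  nlinarith [sq_nonneg (s + t)]

/-- PIECE Br (Brauer endgame: S0948 + S4479). -/
theorem klein_brauer_endgame {S : Type*} [Group S] [Finite S] (P : Sylow 2 S) (hP : IsKleinFour (P : Subgroup S))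
    (hone : ∀ s t : S, orderOf s = 2 → orderOf t = 2 → IsConj s t)
    (u : ℕ) (hu : Odd u) (hcard : Nat.card S = 4 * u * (16 * u ^ 2 - 1))
    (hnc : ¬ ∃ N : Subgroup S, N.Normal ∧ Nat.card N = u * (16 * u ^ 2 - 1))
    (t : S) (ht : t ∈ (P : Subgroup S)) (ht2 : orderOf t = 2)
    (hCt : Nat.card (Subgroup.centralizer ({t} : Set S)) = 4 * u)
    (hCP : Nat.card (Subgroup.centralizer ((P : Subgroup S) : Set S)) = 4) : u = 1 := by
  classical
  obtain ⟨M, hM⟩ := Cfsg.Agent.Helper6.exists_isPModular 2 Nat.prime_two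
  obtain ⟨ζ₂, ζ₃, ζ₄, ε, hε, hne2, hne3, h23, h24, h34, hB, hval, hd2, hd3, hd4, hrel⟩ :=
    Cfsg.Agent.S0948.result M hM P hP hone
  obtain ⟨v2, v3, v4⟩ := hval t ht2
  have hne4 : (ζ₄ : S → ℂ) ≠ (fun _ => 1) := by
    intro h
    rw [h] at v4
    norm_num at v4
  have hu1 : 1 ≤ u := hu.pos
  have hw : 1 ≤ 16 * u ^ 2 := by nlinarith
  have hg₀ : Odd (u * (16 * u ^ 2 - 1)) := by
    apply hu.mul
    rw [Nat.odd_iff]
    omega
  have hG : Nat.card S = 4 * (u * (16 * u ^ 2 - 1)) := by rw [hcard, mul_assoc]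
  have hform := Cfsg.Agent.S4479.result M hM (u * (16 * u ^ 2 - 1)) hg₀ hG hnc P t ht ht2 ζ₂ ζ₃ ζ₄ 1 ε (-1) hB
    ⟨hne2, hne3, hne4, h23, h24, h34⟩ ⟨Or.inl rfl, hε, Or.inr rfl⟩
    ⟨by rw [v2]; norm_num, v3, by rw [v4]; norm_num⟩
  -- the degrees
  have e2 := Cfsg.Agent.Helper6.charDegree_cast_of_isCharacter (Cfsg.Agent.Helper6.IsIrrCharacter.isCharacter ζ₂.2)
  have e3 := Cfsg.Agent.Helper6.charDegree_cast_of_isCharacter (Cfsg.Agent.Helper6.IsIrrCharacter.isCharacter ζ₃.2)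
  have e4 := Cfsg.Agent.Helper6.charDegree_cast_of_isCharacter (Cfsg.Agent.Helper6.IsIrrCharacter.isCharacter ζ₄.2)
  have p2 : Cfsg.charDegree (ζ₂ : S → ℂ) ≠ 0 := by
    intro h
    have := Cfsg.Agent.Helper6.IsIrrCharacter.apply_one_ne_zero ζ₂.2
    rw [← e2, h] at this
    exact this (by norm_num)
  have p3 : Cfsg.charDegree (ζ₃ : S → ℂ) ≠ 0 := by
    intro h
    have := Cfsg.Agent.Helper6.IsIrrCharacter.apply_one_ne_zero ζ₃.2
    rw [← e3, h] at this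
    exact this (by norm_num)
  have p4 : Cfsg.charDegree (ζ₄ : S → ℂ) ≠ 0 := by
    intro h
    have := Cfsg.Agent.Helper6.IsIrrCharacter.apply_one_ne_zero ζ₄.2
    rw [← e4, h] at this
    exact this (by norm_num)
  -- the relation between the degrees
  have hrel1 := hrel 1 (by rw [orderOf_one]; exact odd_one)
  rw [← e2, ← e3, ← e4] at hrel1
  set a : ℕ := Cfsg.charDegree (ζ₂ : S → ℂ) with ha
  set b : ℕ := Cfsg.charDegree (ζ₃ : S → ℂ) with hb
  set c : ℕ := Cfsg.charDegree (ζ₄ : S → ℂ) with hc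
  have hrelZ : 1 + (a : ℤ) + ε * b - c = 0 := by
    have : ((1 + (a : ℤ) + ε * b - c : ℤ) : ℂ) = 0 := by
      push_cast
      exact hrel1
    exact_mod_cast this
  rw [hCt, hCP, hcard] at hform
  have hwq : ((16 * u ^ 2 - 1 : ℕ) : ℚ) = 16 * (u : ℚ) ^ 2 - 1 := by
    rw [Nat.cast_sub hw]
    push_cast
    ring
  have huq : (1 : ℚ) ≤ u := by exact_mod_cast hu1
  have haq : (1 : ℚ) ≤ a := by exact_mod_cast Nat.one_le_iff_ne_zero.mpr p2
  have hbq : (1 : ℚ) ≤ b := by exact_mod_cast Nat.one_le_iff_ne_zero.mpr p3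
  have hcq : (1 : ℚ) ≤ c := by exact_mod_cast Nat.one_le_iff_ne_zero.mpr p4
  have ha1 : 1 ≤ (a : ℤ) := by exact_mod_cast Nat.one_le_iff_ne_zero.mpr p2
  have hb1 : 1 ≤ (b : ℤ) := by exact_mod_cast Nat.one_le_iff_ne_zero.mpr p3
  have hc1 : 1 ≤ (c : ℤ) := by exact_mod_cast Nat.one_le_iff_ne_zero.mpr p4
  push_cast at hform
  rw [hwq] at hform
  rcases hε with rfl | rfl
  · -- `ε = 1`
    exfalso
    have hcz : (c : ℤ) = 1 + a + b := by linarith
    have hcq' : (c : ℚ) = 1 + a + b := by exact_mod_cast hcz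
    have hlt := alpha_lt_one haq hbq hcq'
    have hden : (0 : ℚ) < ((a : ℚ) + 1) * ((b : ℚ) + 1) * ((c : ℚ) - 1) := by
      apply mul_pos (mul_pos (by linarith) (by linarith))
      rw [hcq']; linarith
    have hform' : 4 * (u : ℚ) * (16 * (u : ℚ) ^ 2 - 1) * (((a : ℚ) + 1) * ((b : ℚ) + 1) * ((c : ℚ) - 1)) =
        32 * (u : ℚ) ^ 3 * ((a : ℚ) * b * c) := by
      have h := hform
      simp only [Int.cast_one] at h
      have e1 : ((a : ℚ) + 1) * ((b : ℚ) + 1) * ((c : ℚ) + -1) = ((a : ℚ) + 1) * ((b : ℚ) + 1) * ((c : ℚ) - 1) := by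
        ring
      rw [e1] at h
      obtain ⟨D, hD⟩ : ∃ D : ℚ, D = ((a : ℚ) + 1) * ((b : ℚ) + 1) * ((c : ℚ) - 1) := ⟨_, rfl⟩
      rw [← hD] at h hden ⊢
      have hDne : D ≠ 0 := hden.ne'
      rw [h]
      field_simp
      ring
    have hu3 : (0 : ℚ) < 32 * (u : ℚ) ^ 3 := by positivity
    have h1 : 4 * (u : ℚ) * (16 * (u : ℚ) ^ 2 - 1) * (((a : ℚ) + 1) * ((b : ℚ) + 1) * ((c : ℚ) - 1)) <
        32 * (u : ℚ) ^ 3 * (((a : ℚ) + 1) * ((b : ℚ) + 1) * ((c : ℚ) - 1)) := by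
      rw [hform']
      exact mul_lt_mul_of_pos_left hlt hu3
    have h2 : 4 * (u : ℚ) * (16 * (u : ℚ) ^ 2 - 1) < 32 * (u : ℚ) ^ 3 := lt_of_mul_lt_mul_right h1 hden.le
    nlinarith [sq_nonneg ((u : ℚ)), mul_pos (by linarith : (0 : ℚ) < u) (by linarith : (0 : ℚ) < u)]
  · -- `ε = -1`
    have hb3 : 3 ≤ (b : ℤ) := by
      obtain ⟨k, hk⟩ := hd3
      omega
    have hc3 : 3 ≤ (c : ℤ) := by
      obtain ⟨k, hk⟩ := hd4
      omega
    have haz : (a : ℤ) = b + c - 1 := by linarith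
    have haq' : (a : ℚ) = b + c - 1 := by exact_mod_cast haz
    have hb3q : (3 : ℚ) ≤ b := by exact_mod_cast hb3
    have hc3q : (3 : ℚ) ≤ c := by exact_mod_cast hc3
    have hle := alpha_le hb3q hc3q haq'
    have hden : (0 : ℚ) < ((a : ℚ) + 1) * ((b : ℚ) - 1) * ((c : ℚ) - 1) := by
      apply mul_pos (mul_pos (by linarith) (by linarith))
      linarith
    have hform' : 4 * (u : ℚ) * (16 * (u : ℚ) ^ 2 - 1) * (((a : ℚ) + 1) * ((b : ℚ) - 1) * ((c : ℚ) - 1)) =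
        32 * (u : ℚ) ^ 3 * ((a : ℚ) * b * c) := by
      have h := hform
      simp only [Int.cast_one, Int.cast_neg] at h
      have e1 : ((a : ℚ) + 1) * ((b : ℚ) + -1) * ((c : ℚ) + -1) = ((a : ℚ) + 1) * ((b : ℚ) - 1) * ((c : ℚ) - 1) := by
        ring
      rw [e1] at h
      obtain ⟨D, hD⟩ : ∃ D : ℚ, D = ((a : ℚ) + 1) * ((b : ℚ) - 1) * ((c : ℚ) - 1) := ⟨_, rfl⟩
      rw [← hD] at h hden ⊢
      have hDne : D ≠ 0 := hden.ne'
      rw [h]
      field_simp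
      ring
    have hu3 : (0 : ℚ) < 4 * (u : ℚ) ^ 3 := by positivity
    have h1 : 8 * (4 * (u : ℚ) * (16 * (u : ℚ) ^ 2 - 1) * (((a : ℚ) + 1) * ((b : ℚ) - 1) * ((c : ℚ) - 1))) ≤
        15 * (32 * (u : ℚ) ^ 3) * (((a : ℚ) + 1) * ((b : ℚ) - 1) * ((c : ℚ) - 1)) := by
      rw [hform']
      have := mul_le_mul_of_nonneg_left hle hu3.le
      linarith
    have h2 : 8 * (4 * (u : ℚ) * (16 * (u : ℚ) ^ 2 - 1)) ≤ 15 * (32 * (u : ℚ) ^ 3) := by
      have h1' : 8 * (4 * (u : ℚ) * (16 * (u : ℚ) ^ 2 - 1)) * (((a : ℚ) + 1) * ((b : ℚ) - 1) * ((c : ℚ) - 1)) ≤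
          15 * (32 * (u : ℚ) ^ 3) * (((a : ℚ) + 1) * ((b : ℚ) - 1) * ((c : ℚ) - 1)) := by linarith
      exact le_of_mul_le_mul_right h1' hden
    -- `u³ ≤ u`
    have h3 : (u : ℚ) ^ 3 ≤ u := by nlinarith
    have h4 : (u : ℚ) ^ 2 ≤ 1 := by
      have hupos : (0 : ℚ) < u := by linarith
      have : (u : ℚ) ^ 2 * u ≤ 1 * u := by nlinarith
      exact le_of_mul_le_mul_right this hupos
    have h5 : (u : ℚ) ≤ 1 := by nlinarith
    have h6 : u ≤ 1 := by exact_mod_cast h5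
    omega

end Cfsg.Agent.Helper8.ZasBr
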