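import Mathlib
import Cfsg.Agent.S3378

/-!
# Zassenhaus project, piece G2 (`perfect_reduction`), part A: generic group theory

Homomorphisms from perfect groups to solvable groups, cyclic and quaternion normal subgroups of
perfect groups, perfect cores, a transfer lemma.
-/

set_option autoImplicit false

namespace Cfsg.Agent.Helper8.ZasG2

open QuaternionGroup
open scoped commutatorElement

universe u

section generic

variable {Γ : Type u} [Group Γ]

theorem card_lt_of_lt [Finite Γ] {H K : Subgroup Γ} (h : H < K) : Nat.card H < Nat.card K := by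
  have hle := Subgroup.card_le_of_le h.le
  rcases hle.lt_or_eq with h1 | h1
  · exact h1
  · exact absurd (Subgroup.eq_of_le_of_card_ge h.le h1.ge) h.ne

/-- the derived series of a perfect group is constant -/
theorem derivedSeries_eq_top_of_perfect (hperf : commutator Γ = ⊤) (n : ℕ) :
    derivedSeries Γ n = ⊤ := by
  induction n with
  | zero => exact derivedSeries_zero Γ
  | succ n ih => rw [derivedSeries_succ, ih, ← commutator_def, hperf]

/-- (L1) a homomorphism from a perfect group to a solvable group is trivial -/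
theorem hom_trivial_of_solvable (hperf : commutator Γ = ⊤) {P : Type*} [Group P]
    [hP : Group.IsSolvable P] (f : Γ →* P) (g : Γ) : f g = 1 := by
  obtain ⟨n, hn⟩ := hP.solvable
  have h1 : f g ∈ (derivedSeries Γ n).map f := by
    rw [derivedSeries_eq_top_of_perfect hperf n]
    exact Subgroup.mem_map_of_mem f (Subgroup.mem_top g)
  have h2 := map_derivedSeries_le_derivedSeries f n h1
  rw [hn] at h2
  exact Subgroup.mem_bot.1 h2

/-- a normal subgroup on which conjugation is trivial is central -/
theorem le_center_of_conjNormal_trivial (N : Subgroup Γ) [hN : N.Normal]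
    (h : ∀ g : Γ, (MulAut.conjNormal g : MulAut N) = 1) : N ≤ Subgroup.center Γ := by
  intro a ha
  rw [Subgroup.mem_center_iff]
  intro g
  have h2 : ((MulAut.conjNormal g : MulAut N) ⟨a, ha⟩ : Γ) = g * a * g⁻¹ :=
    MulAut.conjNormal_apply g ⟨a, ha⟩
  rw [h g] at h2
  have h3 : a = g * a * g⁻¹ := h2
  calc g * a = g * a * g⁻¹ * g := by group
    _ = a * g := by rw [← h3]

/-- (L2) a cyclic normal subgroup of a perfect group is central -/
theorem le_center_of_cyclic_normal (hperf : commutator Γ = ⊤) (A : Subgroup Γ) [hA : A.Normal]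
    (hc : IsCyclic A) : A ≤ Subgroup.center Γ := by
  let _ : CommGroup (MulAut A) :=
    (hc.mulAutMulEquiv _).toMonoidHom.commGroupOfInjective (hc.mulAutMulEquiv _).injective
  exact le_center_of_conjNormal_trivial A
    (fun g => hom_trivial_of_solvable hperf (MulAut.conjNormal (H := A)) g)

/-- a perfect group has no subgroup of index 2 -/
theorem index_ne_two_of_perfect (hperf : commutator Γ = ⊤) (K : Subgroup Γ) : K.index ≠ 2 := by
  intro h2
  have hK : commutator Γ ≤ K := by
    rw [commutator_eq_closure, Subgroup.closure_le]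
    rintro _ ⟨a, b, rfl⟩
    rw [SetLike.mem_coe, commutatorElement_def]
    have e : a * b * a⁻¹ * b⁻¹ = (a * b) * (a⁻¹ * b⁻¹) := by group
    rw [e, Subgroup.mul_mem_iff_of_index_two h2, Subgroup.mul_mem_iff_of_index_two h2,
      Subgroup.mul_mem_iff_of_index_two h2, inv_mem_iff, inv_mem_iff]
  rw [hperf, top_le_iff] at hK
  rw [hK, Subgroup.index_top] at h2
  omega

/-- the derived series of a finite group stabilizes -/
theorem exists_derivedSeries_stable (X : Type u) [Group X] [Finite X] :
    ∃ n, ⁅derivedSeries X n, derivedSeries X n⁆ = derivedSeries X n := by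
  by_contra hcon
  push Not at hcon
  have hlt : ∀ n, derivedSeries X (n + 1) < derivedSeries X n := fun n =>
    lt_of_le_of_ne (Subgroup.commutator_le_self _) (hcon n)
  have hcard : ∀ n, Nat.card (derivedSeries X n) + n ≤ Nat.card X := by
    intro n
    induction n with
    | zero => simpa using Subgroup.card_le_card_group (derivedSeries X 0)
    | succ n ih =>
      have := card_lt_of_lt (hlt n)
      omega
  have := hcard (Nat.card X + 1)
  omega

/-- perfect core of a normal subgroup: a perfect normal subgroup `D ≤ N` of `Γ` such that `N` is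
solvable when `D` is trivial -/
theorem exists_perfect_core [Finite Γ] (N : Subgroup Γ) [hN : N.Normal] :
    ∃ D : Subgroup Γ, D.Normal ∧ D ≤ N ∧ ⁅D, D⁆ = D ∧ (D = ⊥ → Group.IsSolvable N) := by
  obtain ⟨n, hn⟩ := exists_derivedSeries_stable N
  refine ⟨(derivedSeries N n).map N.subtype, ?_, ?_, ?_, ?_⟩
  · exact ConjAct.normal_of_characteristic_of_normal
  · exact Subgroup.map_subtype_le _
  · rw [← Subgroup.map_commutator, hn]
  · intro h
    rw [Subgroup.map_eq_bot_iff_of_injective _ N.subtype_injective] at h
    exact ⟨⟨n, h⟩⟩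

/-- a subgroup containing a Sylow `p`-subgroup for every prime `p` is everything -/
theorem eq_top_of_sylow_le {X : Type u} [Group X] [Finite X] (M : Subgroup X)
    (h : ∀ (p : ℕ) [Fact p.Prime], ∃ P : Sylow p X, (P : Subgroup X) ≤ M) : M = ⊤ := by
  by_contra hM
  have h1 : M.index ≠ 1 := fun h1 => hM (Subgroup.index_eq_one.1 h1)
  obtain ⟨p, hp, hpd⟩ := Nat.exists_prime_and_dvd h1
  have : Fact p.Prime := ⟨hp⟩
  obtain ⟨P, hP⟩ := h p
  exact P.not_dvd_index (hpd.trans (Subgroup.index_dvd_of_le hP))

open scoped IsMulCommutative in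
/-- transfer into an abelian subgroup: central elements of a perfect group are killed by the
index -/
theorem pow_index_eq_one_of_mem_center [Finite Γ] (hperf : commutator Γ = ⊤) (P : Subgroup Γ)
    (hP : ∀ x ∈ P, ∀ y ∈ P, x * y = y * x) (x : Γ) (hx : x ∈ Subgroup.center Γ) :
    x ^ P.index = 1 := by
  have : IsMulCommutative P := ⟨⟨fun a b => Subtype.ext (hP a a.2 b b.2)⟩⟩
  have key : ∀ (k : ℕ) (g₀ : Γ), g₀⁻¹ * x ^ k * g₀ ∈ P → g₀⁻¹ * x ^ k * g₀ = x ^ k := by
    intro k g₀ _
    have hc : x ^ k ∈ Subgroup.center Γ := Subgroup.pow_mem _ hx k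
    rw [Subgroup.mem_center_iff] at hc
    rw [mul_assoc, ← hc g₀, ← mul_assoc, inv_mul_cancel, one_mul]
  have h1 := MonoidHom.transfer_eq_pow (MonoidHom.id P) x key
  have h2 := hom_trivial_of_solvable hperf (MonoidHom.transfer (MonoidHom.id P)) x
  rw [h2] at h1
  have h3 := congrArg (fun y : P => (y : Γ)) h1
  simpa using h3.symm

end generic

section quaternion

/-- (L5) central elements of a generalized quaternion group square to 1 -/
theorem quat_central_sq {m : ℕ} (hm : 2 ≤ m) (c : QuaternionGroup m)
    (hc : ∀ q : QuaternionGroup m, c * q = q * c) : c * c = 1 := by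
  have hne : NeZero m := ⟨by omega⟩
  cases c with
  | a i =>
    have h := hc (xa 0)
    rw [a_mul_xa, xa_mul_a] at h
    have h2 : (0 : ZMod (2 * m)) - i = 0 + i := by
      injection h
    rw [a_mul_a, one_def]
    congr 1
    have : i + i = (0 + i) - (0 - i) := by ring
    rw [this, h2]; ring
  | xa i =>
    exfalso
    have h := hc (a 1)
    rw [xa_mul_a, a_mul_xa] at h
    have h2 : i + 1 = i - 1 := by injection h
    have h3 : ((2 : ℕ) : ZMod (2 * m)) = 0 := by
      have : (2 : ZMod (2 * m)) = (i + 1) - (i - 1) := by ring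
      push_cast
      rw [this, h2]; ring
    rw [ZMod.natCast_eq_zero_iff] at h3
    have := Nat.le_of_dvd (by norm_num) h3
    omega

/-- if the commutator of the two generators is central, the quaternion group is small -/
theorem quat_le_two {m : ℕ} (hm : 1 ≤ m)
    (h : ⁅(xa 0 : QuaternionGroup m), (a 1 : QuaternionGroup m)⁆ * xa 0 =
      xa 0 * ⁅(xa 0 : QuaternionGroup m), (a 1 : QuaternionGroup m)⁆) :
    m ≤ 2 := by
  have hne : NeZero m := ⟨by omega⟩
  have hc : ⁅(xa 0 : QuaternionGroup m), (a 1 : QuaternionGroup m)⁆ = a (-2) := by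
    rw [commutatorElement_def]
    have e1 : (xa 0 : QuaternionGroup m)⁻¹ = xa (m + 0) := rfl
    have e2 : (a 1 : QuaternionGroup m)⁻¹ = a (-1) := rfl
    rw [e1, e2, xa_mul_a, xa_mul_xa, a_mul_a]
    congr 1
    have : ((m : ZMod (2 * m)) + m) = 0 := by
      have : ((2 * m : ℕ) : ZMod (2 * m)) = 0 := ZMod.natCast_self _
      push_cast at this
      rw [← this]; ring
    linear_combination this
  rw [hc, a_mul_xa, xa_mul_a] at h
  have h2 : (0 : ZMod (2 * m)) - -2 = 0 + -2 := by injection h
  have h3 : ((4 : ℕ) : ZMod (2 * m)) = 0 := by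
    push_cast
    linear_combination h2
  rw [ZMod.natCast_eq_zero_iff] at h3
  have := Nat.le_of_dvd (by norm_num) h3
  omega

theorem card_quat_order_four :
    Fintype.card {q : QuaternionGroup 2 // q ^ 4 = 1 ∧ q ^ 2 ≠ 1} = 6 := by
  decide +kernel

theorem quat_hom_ext {m : ℕ} [NeZero m] {X : Type*} [Group X] (φ ψ : QuaternionGroup m →* X)
    (h1 : φ (a 1) = ψ (a 1)) (h2 : φ (xa 0) = ψ (xa 0)) (q : QuaternionGroup m) : φ q = ψ q := by
  have ha : ∀ i : ZMod (2 * m), φ (a i) = ψ (a i) := by
    intro i
    have : (a i : QuaternionGroup m) = (a 1) ^ i.val := by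
      rw [a_one_pow, ZMod.natCast_zmod_val]
    rw [this, map_pow, map_pow, h1]
  cases q with
  | a i => exact ha i
  | xa i =>
    have : (xa i : QuaternionGroup m) = xa 0 * a i := by rw [xa_mul_a, zero_add]
    rw [this, map_mul, map_mul, ha, h2]

/-- the automorphism group of the quaternion group of order 8 is solvable -/
theorem solvable_mulAut_quat : Group.IsSolvable (MulAut (QuaternionGroup 2)) := by
  let S := {q : QuaternionGroup 2 // q ^ 4 = 1 ∧ q ^ 2 ≠ 1}
  let Φ : MulAut (QuaternionGroup 2) → S × QuaternionGroup 2 := fun φ =>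
    (⟨φ (a 1), by
      constructor
      · rw [← map_pow]
        have : (a 1 : QuaternionGroup 2) ^ 4 = 1 := by decide +kernel
        rw [this, map_one]
      · rw [← map_pow]
        intro h
        have h1 : (a 1 : QuaternionGroup 2) ^ 2 = 1 := by
          apply φ.injective
          rw [h, map_one]
        revert h1
        decide +kernel⟩, φ (xa 0))
  have hinj : Function.Injective Φ := by
    intro φ ψ h
    have h1 : φ (a 1) = ψ (a 1) := congrArg (fun p => (p.1 : QuaternionGroup 2)) h
    have h2 : φ (xa 0) = ψ (xa 0) := congrArg Prod.snd h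
    apply MulEquiv.ext
    intro q
    exact quat_hom_ext φ.toMonoidHom ψ.toMonoidHom h1 h2 q
  have hfin : Finite (MulAut (QuaternionGroup 2)) := Finite.of_injective Φ hinj
  have hcard : Nat.card (MulAut (QuaternionGroup 2)) ≤ 48 := by
    have h := Nat.card_le_card_of_injective Φ hinj
    have h2 : Nat.card (S × QuaternionGroup 2) = 48 := by
      rw [Nat.card_prod, Nat.card_eq_fintype_card, Nat.card_eq_fintype_card,
        card_quat_order_four, QuaternionGroup.card]
    omega
  exact Cfsg.Agent.S3378.solvable_of_card_lt _ (by omega) _ rfl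

/-- a normal quaternion subgroup of order 8 of a perfect group is central -/
theorem le_center_of_quat_normal {Γ : Type u} [Group Γ] (hperf : commutator Γ = ⊤)
    (N : Subgroup Γ) [hN : N.Normal] (e : N ≃* QuaternionGroup 2) : N ≤ Subgroup.center Γ := by
  have hs : Group.IsSolvable (MulAut N) := by
    have := solvable_mulAut_quat
    exact Group.isSolvable_of_isSolvable_injective (f := (MulAut.congr e).toMonoidHom)
      (MulAut.congr e).injective
  exact le_center_of_conjNormal_trivial N
    (fun g => hom_trivial_of_solvable hperf (MulAut.conjNormal (H := N)) g)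

end quaternion

end Cfsg.Agent.Helper8.ZasG2
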