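import Mathlib
import Cfsg.Agent.Helper6.ZasDefs
import Cfsg.Agent.Helper6.ZasGDefs
import Cfsg.Agent.Helper1.ZasG3B
import Cfsg.Agent.Helper3.ZasOut
import Cfsg.Agent.Helper8.ZasG2A
import Cfsg.Agent.S0016

/-!
# Zassenhaus project, piece G2 (`perfect_reduction`), part B: the reduction for a type

`Γ` perfect, nontrivial, with `ZData`, all of whose proper perfect subgroups have order 1 or 120:
there is a central involution `z` such that every normal subgroup is inside `⟨z⟩` or everything.
-/

set_option autoImplicit false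
set_option linter.unusedSectionVars false

namespace Cfsg.Agent.Helper8.ZasG2

open Cfsg.Agent.Helper6.Zas Cfsg.Agent.Helper6.ZasG Cfsg.Agent.Helper1.ZasG
open QuaternionGroup
open scoped commutatorElement

universe u

variable {Γ : Type u} [Group Γ] [Finite Γ]

/-- (B4) `p`-subgroups are cyclic or generalized quaternion -/
theorem pgroup_structure (hZ : ZData Γ) {p : ℕ} [hp : Fact p.Prime] (Q : Subgroup Γ)
    (hQ : IsPGroup p Q) :
    IsCyclic Q ∨ (p = 2 ∧ ∃ n : ℕ, Nonempty (Q ≃* QuaternionGroup (2 ^ n))) :=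
  Cfsg.Agent.S0016.result p hQ (fun H K hH hK => unique_order_p hZ Q hQ H K hH hK)

/-- a perfect nontrivial group is not solvable -/
theorem not_solvable_of_perfect (hperf : commutator Γ = ⊤) [Nontrivial Γ] :
    ¬ Group.IsSolvable Γ := by
  intro hs
  have := Group.IsSolvable.commutator_lt_top_of_nontrivial Γ
  rw [hperf] at this
  exact lt_irrefl _ this

/-- Sylow 2-subgroups of a perfect nontrivial group are not cyclic -/
theorem not_cyclic_sylow_two (hZ : ZData Γ) (hperf : commutator Γ = ⊤) [Nontrivial Γ]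
    (Q : Sylow 2 Γ) : ¬ IsCyclic (Q : Subgroup Γ) := by
  intro hc
  have hz : IsZGroup Γ := by
    refine ⟨fun p hp P => ?_⟩
    have : Fact p.Prime := ⟨hp⟩
    rcases eq_or_ne p 2 with rfl | hp2
    · exact isCyclic_of_surjective (Q.equiv P) (Q.equiv P).surjective
    · exact sylow_cyclic_of_odd hZ hp2 P
  exact not_solvable_of_perfect hperf inferInstance

/-- Sylow 2-subgroups of a perfect nontrivial group are generalized quaternion -/
theorem sylow_two_quat (hZ : ZData Γ) (hperf : commutator Γ = ⊤) [Nontrivial Γ]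
    (Q : Sylow 2 Γ) : ∃ m : ℕ, 2 ≤ m ∧ Nonempty ((Q : Subgroup Γ) ≃* QuaternionGroup m) := by
  have : Fact (Nat.Prime 2) := ⟨Nat.prime_two⟩
  rcases pgroup_structure hZ (Q : Subgroup Γ) Q.isPGroup' with hc | ⟨_, n, ⟨e⟩⟩
  · exact absurd hc (not_cyclic_sylow_two hZ hperf Q)
  · rcases Nat.eq_zero_or_pos n with rfl | hn
    · exfalso
      apply not_cyclic_sylow_two hZ hperf Q
      have := quaternionGroup_one_isCyclic
      exact isCyclic_of_surjective e.symm e.symm.surjective
    · refine ⟨2 ^ n, ?_, ⟨e⟩⟩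
      calc 2 = 2 ^ 1 := by norm_num
        _ ≤ 2 ^ n := Nat.pow_le_pow_right (by norm_num) hn

/-- the central involution -/
theorem exists_central_involution (hZ : ZData Γ) (hperf : commutator Γ = ⊤) [Nontrivial Γ] :
    ∃ z : Γ, orderOf z = 2 ∧ ∀ g : Γ, g * z = z * g := by
  have : Fact (Nat.Prime 2) := ⟨Nat.prime_two⟩
  obtain ⟨m, hm, ⟨e⟩⟩ := sylow_two_quat hZ hperf (default : Sylow 2 Γ)
  have hne : NeZero m := ⟨by omega⟩
  have hcard : Nat.card ((default : Sylow 2 Γ) : Subgroup Γ) = 4 * m := by
    rw [Nat.card_congr e.toEquiv, Nat.card_eq_fintype_card, QuaternionGroup.card]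
  have h2 : 2 ∣ Nat.card Γ := by
    have := Subgroup.card_subgroup_dvd_card ((default : Sylow 2 Γ) : Subgroup Γ)
    rw [hcard] at this
    exact (Dvd.intro (2 * m) (by ring)).trans this
  obtain ⟨z, hz⟩ := exists_prime_orderOf_dvd_card' 2 h2
  refine ⟨z, hz, fun g => ?_⟩
  have h3 : orderOf (g * z * g⁻¹) = 2 := by
    have := (MulAut.conj g).orderOf_eq z
    rw [MulAut.conj_apply] at this
    rw [this, hz]
  have h4 := hZ.invol _ _ h3 hz
  calc g * z = g * z * g⁻¹ * g := by group
    _ = z * g := by rw [h4]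

/-- a normal generalized quaternion subgroup with central derived subgroup, in a perfect group,
is central -/
theorem le_center_of_quat_normal' (hperf : commutator Γ = ⊤) (N : Subgroup Γ) [hN : N.Normal]
    (hN' : ⁅N, N⁆ ≤ Subgroup.center Γ) {m : ℕ} (hm : 1 ≤ m) (hc : m = 1 → IsCyclic N)
    (e : N ≃* QuaternionGroup m) :
    N ≤ Subgroup.center Γ := by
  have hm2 : m ≤ 2 := by
    apply quat_le_two hm
    set u : N := e.symm (xa 0) with hu
    set v : N := e.symm (a 1) with hv
    have hcN : ((⁅u, v⁆ : N) : Γ) ∈ ⁅N, N⁆ := by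
      have : ((⁅u, v⁆ : N) : Γ) = ⁅(u : Γ), (v : Γ)⁆ := by
        simp [commutatorElement_def]
      rw [this]
      exact Subgroup.commutator_mem_commutator u.2 v.2
    have hcc := hN' hcN
    rw [Subgroup.mem_center_iff] at hcc
    have h1 : ⁅u, v⁆ * u = u * ⁅u, v⁆ := by
      apply Subtype.ext
      have := hcc (u : Γ)
      simpa using this.symm
    have h2 := congrArg e h1
    rw [map_mul, map_mul, map_commutatorElement, hu, hv, e.apply_symm_apply,
      e.apply_symm_apply] at h2
    exact h2
  rcases (by omega : m = 1 ∨ m = 2) with rfl | rfl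
  · exact le_center_of_cyclic_normal hperf N (hc rfl)
  · exact le_center_of_quat_normal hperf N e

theorem solvable_of_le {H K : Subgroup Γ} (h : H ≤ K) (hK : Group.IsSolvable K) :
    Group.IsSolvable H :=
  Group.isSolvable_of_isSolvable_injective (f := Subgroup.inclusion h)
    (Subgroup.inclusion_injective h)

/-- (B2) solvable normal subgroups of a perfect group with `ZData` are central -/
theorem solvable_normal_le_center (hZ : ZData Γ) (hperf : commutator Γ = ⊤) :
    ∀ (n : ℕ) (N : Subgroup Γ), N.Normal → Group.IsSolvable N → Nat.card N = n →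
      N ≤ Subgroup.center Γ := by
  intro n
  induction n using Nat.strong_induction_on with
  | _ n ih =>
    intro N hN hs hcard
    rcases eq_or_ne N ⊥ with rfl | hne
    · exact bot_le
    have hnt : Nontrivial N := (Subgroup.nontrivial_iff_ne_bot N).2 hne
    have hlt : ⁅N, N⁆ < N := by
      have h1 := Group.IsSolvable.commutator_lt_top_of_nontrivial N
      have h2 := (Subgroup.map_subtype_lt_map_subtype (G' := N)).2 h1
      rwa [Subgroup.map_subtype_commutator, ← MonoidHom.range_eq_map, Subgroup.range_subtype] at h2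
    have hN'n : (⁅N, N⁆).Normal := Subgroup.commutator_normal N N
    have hN'c : ⁅N, N⁆ ≤ Subgroup.center Γ :=
      ih _ (hcard ▸ card_lt_of_lt hlt) ⁅N, N⁆ hN'n (solvable_of_le hlt.le hs) rfl
    by_cases hp : ∃ p : ℕ, p.Prime ∧ IsPGroup p N
    · obtain ⟨p, hp, hpN⟩ := hp
      have : Fact p.Prime := ⟨hp⟩
      rcases pgroup_structure hZ N hpN with hc | ⟨_, k, ⟨e⟩⟩
      · exact le_center_of_cyclic_normal hperf N hc
      · refine le_center_of_quat_normal' hperf N hN'c (Nat.one_le_two_pow) ?_ e
        intro h1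
        have := quaternionGroup_one_isCyclic
        rw [h1] at e
        exact isCyclic_of_surjective e.symm e.symm.surjective
    · have hcc : commutator N ≤ Subgroup.center N := by
        intro x hx
        rw [Subgroup.mem_center_iff]
        intro y
        apply Subtype.ext
        have hxN' : (x : Γ) ∈ ⁅N, N⁆ := by
          rw [← Subgroup.map_subtype_commutator]
          exact Subgroup.mem_map_of_mem N.subtype hx
        have := hN'c hxN'
        rw [Subgroup.mem_center_iff] at this
        exact this y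
      have hnil : Group.IsNilpotent N :=
        Subgroup.isNilpotent_of_ker_le_center (Abelianization.of (G := N))
          (by rw [Abelianization.ker_of]; exact hcc)
      have htop : (Subgroup.center Γ).subgroupOf N = ⊤ := by
        apply eq_top_of_sylow_le
        intro p _
        let P : Sylow p N := default
        refine ⟨P, ?_⟩
        have hPn : (P : Subgroup N).Normal := inferInstance
        have hPc : (P : Subgroup N).Characteristic := P.characteristic_of_normal hPn
        have hP'n : ((P : Subgroup N).map N.subtype).Normal :=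
          ConjAct.normal_of_characteristic_of_normal
        have hP'le : (P : Subgroup N).map N.subtype ≤ N := Subgroup.map_subtype_le _
        have hP'lt : Nat.card ((P : Subgroup N).map N.subtype) < n := by
          rw [← hcard]
          apply card_lt_of_lt
          refine lt_of_le_of_ne hP'le ?_
          intro heq
          apply hp
          refine ⟨p, Fact.out, ?_⟩
          have hPtop : (P : Subgroup N) = ⊤ := by
            apply Subgroup.map_injective N.subtype_injective
            rw [heq, ← MonoidHom.range_eq_map, Subgroup.range_subtype]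
          have h1 := P.isPGroup'
          rw [hPtop] at h1
          exact h1.of_equiv Subgroup.topEquiv
        have := ih _ hP'lt _ hP'n (solvable_of_le hP'le hs) rfl
        intro x hx
        rw [Subgroup.mem_subgroupOf]
        exact this (Subgroup.mem_map_of_mem _ hx)
      exact Subgroup.subgroupOf_eq_top.1 htop

/-- (C1) no central element of odd prime order -/
theorem no_central_odd (hZ : ZData Γ) (hperf : commutator Γ = ⊤) {p : ℕ} (hp : p.Prime)
    (hp2 : p ≠ 2) (x : Γ) (hx : x ∈ Subgroup.center Γ) (hxo : orderOf x = p) : False := by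
  have : Fact p.Prime := ⟨hp⟩
  let P : Sylow p Γ := default
  have hc : IsCyclic (P : Subgroup Γ) := sylow_cyclic_of_odd hZ hp2 P
  have hcomm : ∀ a ∈ (P : Subgroup Γ), ∀ b ∈ (P : Subgroup Γ), a * b = b * a := by
    intro a ha b hb
    let _ : CommGroup (P : Subgroup Γ) := IsCyclic.commGroup
    have := mul_comm (⟨a, ha⟩ : (P : Subgroup Γ)) ⟨b, hb⟩
    exact congrArg Subtype.val this
  have h1 := pow_index_eq_one_of_mem_center hperf (P : Subgroup Γ) hcomm x hx
  have h2 := orderOf_dvd_of_pow_eq_one h1
  rw [hxo] at h2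
  exact P.not_dvd_index h2

/-- (C2) no central element of order 4 -/
theorem no_central_four (hZ : ZData Γ) (hperf : commutator Γ = ⊤) [Nontrivial Γ]
    (x : Γ) (hx : x ∈ Subgroup.center Γ) (hxo : orderOf x = 4) : False := by
  have : Fact (Nat.Prime 2) := ⟨Nat.prime_two⟩
  have hpz : IsPGroup 2 (Subgroup.zpowers x) := by
    apply IsPGroup.of_card (n := 2)
    rw [Nat.card_zpowers, hxo]; norm_num
  obtain ⟨Q, hQ⟩ := hpz.exists_le_sylow
  have hxQ : x ∈ (Q : Subgroup Γ) := hQ (Subgroup.mem_zpowers x)
  obtain ⟨m, hm, ⟨e⟩⟩ := sylow_two_quat hZ hperf Q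
  rw [Subgroup.mem_center_iff] at hx
  have hcen : ∀ q : QuaternionGroup m, e ⟨x, hxQ⟩ * q = q * e ⟨x, hxQ⟩ := by
    intro q
    have h1 : (⟨x, hxQ⟩ : (Q : Subgroup Γ)) * e.symm q = e.symm q * ⟨x, hxQ⟩ := by
      apply Subtype.ext
      exact (hx _).symm
    have h2 := congrArg e h1
    rwa [map_mul, map_mul, e.apply_symm_apply] at h2
  have h3 := quat_central_sq hm _ hcen
  rw [← map_mul, ← map_one e] at h3
  have h4 := e.injective h3
  have h5 : x * x = 1 := congrArg Subtype.val h4
  have h6 : orderOf x ∣ 2 := orderOf_dvd_of_pow_eq_one (by rw [pow_two]; exact h5)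
  rw [hxo] at h6
  omega

/-- (B3) the center of a perfect group with `ZData` is contained in `⟨z⟩` -/
theorem center_le_zpowers (hZ : ZData Γ) (hperf : commutator Γ = ⊤) [Nontrivial Γ]
    (z : Γ) (hz : orderOf z = 2) : Subgroup.center Γ ≤ Subgroup.zpowers z := by
  intro x hx
  have ho : orderOf x ≠ 0 := (orderOf_pos x).ne'
  have hprime : ∀ {d : ℕ}, d.Prime → d ∣ orderOf x → d = 2 := by
    intro d hd hdvd
    by_contra hd2
    have h1 : orderOf (x ^ (orderOf x / d)) = d := orderOf_pow_orderOf_div ho hdvd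
    exact no_central_odd hZ hperf hd hd2 _ (Subgroup.pow_mem _ hx _) h1
  have h4 : ¬ 4 ∣ orderOf x := by
    intro hdvd
    have h1 : orderOf (x ^ (orderOf x / 4)) = 4 := orderOf_pow_orderOf_div ho hdvd
    exact no_central_four hZ hperf _ (Subgroup.pow_mem _ hx _) h1
  have hpow := Nat.eq_prime_pow_of_unique_prime_dvd ho hprime
  set k := (orderOf x).primeFactorsList.length with hk
  have hk1 : k ≤ 1 := by
    by_contra hk2
    push Not at hk2
    apply h4
    rw [hpow]
    exact pow_dvd_pow 2 (by omega : 2 ≤ k)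
  rcases (by omega : k = 0 ∨ k = 1) with h0 | h1
  · rw [h0, pow_zero, orderOf_eq_one_iff] at hpow
    rw [hpow]; exact Subgroup.one_mem _
  · rw [h1, pow_one] at hpow
    rw [hZ.invol x z hpow hz]
    exact Subgroup.mem_zpowers z

theorem commutator_eq_top_of_perfect' (L : Subgroup Γ) (hperf : ⁅L, L⁆ = L) :
    commutator ↥L = ⊤ := by
  have h1 := Subgroup.map_subtype_commutator L
  rw [hperf] at h1
  apply Subgroup.map_injective L.subtype_injective
  rw [h1, ← MonoidHom.range_eq_map, Subgroup.range_subtype]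

/-- Case A: a proper normal perfect subgroup of order 120 is impossible -/
theorem false_of_normal_120 (hZ : ZData Γ) (hperf : commutator Γ = ⊤)
    (hIH : ∀ H : Subgroup Γ, H ≠ ⊤ → ⁅H, H⁆ = H → Nat.card H = 1 ∨ Nat.card H = 120)
    (hQ : ∀ L : Subgroup Γ, ⁅L, L⁆ = L → Nat.card L = 120 →
      ∀ P : Sylow 2 L, Nonempty ((P : Subgroup L) ≃* QuaternionGroup 2))
    (L : Subgroup Γ) [hLn : L.Normal] (hLperf : ⁅L, L⁆ = L) (hL : Nat.card L = 120)
    (hLtop : L ≠ ⊤) : False := by
  obtain ⟨hidx2, hidx0⟩ :=
    Cfsg.Agent.Helper3.ZasOut.index_le_two_of_normal_120 L hL hLperf (hQ L hLperf hL)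
  set C : Subgroup Γ := Subgroup.centralizer (L : Set Γ) with hC
  have hidxne2 := index_ne_two_of_perfect hperf (L ⊔ C)
  have hsup : L ⊔ C = ⊤ := Subgroup.index_eq_one.1 (by omega)
  have hLp : commutator ↥L = ⊤ := commutator_eq_top_of_perfect' L hLperf
  have hLnt : Nontrivial L := by
    rw [← Finite.one_lt_card_iff_nontrivial, hL]; norm_num
  -- the center of `L` has order at most 2
  have hcenL : ∀ b : L, b ∈ Subgroup.center L → orderOf b = 5 → False := by
    intro b hb hbo
    have h0 : Subgroup.center L ≠ ⊥ := by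
      intro h
      rw [h, Subgroup.mem_bot] at hb
      rw [hb, orderOf_one] at hbo
      omega
    have h1 : Subgroup.center L ≠ ⊤ := by
      intro h
      have hcomm : Group.IsSolvable L := by
        apply Group.isSolvable_of_comm
        intro x y
        have hy : y ∈ Subgroup.center L := by rw [h]; exact Subgroup.mem_top y
        rw [Subgroup.mem_center_iff] at hy
        exact (hy x)
      have := Group.IsSolvable.commutator_lt_top_of_nontrivial L
      rw [hLp] at this
      exact lt_irrefl _ this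
    have h2 := Cfsg.Agent.Helper3.ZasOut.card_normal_eq_two hL hLp (Subgroup.center L) h0 h1
    have h3 : orderOf (⟨b, hb⟩ : Subgroup.center L) ∣ 2 := h2 ▸ orderOf_dvd_natCard _
    rw [Subgroup.orderOf_mk, hbo] at h3
    omega
  have hCtop : C ≠ ⊤ := by
    intro h
    have h5 : 5 ∣ Nat.card L := by rw [hL]; norm_num
    have : Fact (Nat.Prime 5) := ⟨by norm_num⟩
    obtain ⟨b, hb⟩ := exists_prime_orderOf_dvd_card' 5 h5
    refine hcenL b ?_ hb
    rw [Subgroup.mem_center_iff]
    intro g
    apply Subtype.ext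
    have hbC : (b : Γ) ∈ C := by rw [h]; exact Subgroup.mem_top _
    rw [hC, Subgroup.mem_centralizer_iff] at hbC
    exact hbC g g.2
  obtain ⟨D, hDn, hDC, hDperf, hDsol⟩ := exists_perfect_core C
  have hDtop : D ≠ ⊤ := fun h => hCtop (top_le_iff.1 (h ▸ hDC))
  rcases hIH D hDtop hDperf with hD1 | hD120
  · -- `C` solvable, so `Γ ⧸ L` is solvable
    have hCs : Group.IsSolvable C := hDsol (Subgroup.card_eq_one.1 hD1)
    have hsurj : Function.Surjective ((QuotientGroup.mk' L).comp C.subtype) := by
      rw [← MonoidHom.range_eq_top, MonoidHom.range_comp, Subgroup.range_subtype]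
      have h1 : (L ⊔ C).map (QuotientGroup.mk' L) = ⊤ := by
        rw [hsup, ← MonoidHom.range_eq_map, MonoidHom.range_eq_top]
        exact QuotientGroup.mk'_surjective L
      rwa [Subgroup.map_sup, QuotientGroup.map_mk'_self, bot_sup_eq] at h1
    have hqs : Group.IsSolvable (Γ ⧸ L) := Group.isSolvable_of_surjective hsurj
    exact Cfsg.Agent.Helper3.ZasOut.not_solvable_quotient hperf L hLtop hqs
  · -- two commuting elements of order 5
    have : Fact (Nat.Prime 5) := ⟨by norm_num⟩
    obtain ⟨a, ha⟩ := exists_prime_orderOf_dvd_card' (G := L) 5 (by rw [hL]; norm_num)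
    obtain ⟨b, hb⟩ := exists_prime_orderOf_dvd_card' (G := D) 5 (by rw [hD120]; norm_num)
    have hbC : (b : Γ) ∈ C := hDC b.2
    have hab : (a : Γ) * (b : Γ) = (b : Γ) * (a : Γ) := by
      rw [hC, Subgroup.mem_centralizer_iff] at hbC
      exact hbC a a.2
    have hbz : (b : Γ) ∈ Subgroup.zpowers (a : Γ) :=
      mem_zpowers_of_commute hZ (by norm_num : Nat.Prime 5) hab
        (by rw [Subgroup.orderOf_coe]; exact ha) (by rw [Subgroup.orderOf_coe]; exact hb)
    have hbL : (b : Γ) ∈ L := (Subgroup.zpowers_le.2 a.2) hbz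
    refine hcenL ⟨b, hbL⟩ ?_ (by rw [Subgroup.orderOf_mk, Subgroup.orderOf_coe]; exact hb)
    rw [Subgroup.mem_center_iff]
    intro g
    apply Subtype.ext
    rw [hC, Subgroup.mem_centralizer_iff] at hbC
    exact hbC g g.2

/-- `perfect_reduction` for a type -/
theorem perfect_reduction_type (hZ : ZData Γ) (hperf : commutator Γ = ⊤) [Nontrivial Γ]
    (hIH : ∀ H : Subgroup Γ, H ≠ ⊤ → ⁅H, H⁆ = H → Nat.card H = 1 ∨ Nat.card H = 120)
    (hQ : ∀ L : Subgroup Γ, ⁅L, L⁆ = L → Nat.card L = 120 →
      ∀ P : Sylow 2 L, Nonempty ((P : Subgroup L) ≃* QuaternionGroup 2)) :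
    ∃ z : Γ, orderOf z = 2 ∧ (∀ g : Γ, g * z = z * g) ∧
      ∀ N : Subgroup Γ, N.Normal → N ≤ Subgroup.zpowers z ∨ N = ⊤ := by
  obtain ⟨z, hz, hzc⟩ := exists_central_involution hZ hperf
  refine ⟨z, hz, hzc, fun N hN => ?_⟩
  by_cases hNtop : N = ⊤
  · exact Or.inr hNtop
  left
  obtain ⟨D, hDn, hDN, hDperf, hDsol⟩ := exists_perfect_core N
  have hDtop : D ≠ ⊤ := fun h => hNtop (top_le_iff.1 (h ▸ hDN))
  rcases hIH D hDtop hDperf with hD1 | hD120
  · have hNs : Group.IsSolvable N := hDsol (Subgroup.card_eq_one.1 hD1)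
    exact (solvable_normal_le_center hZ hperf _ N hN hNs rfl).trans
      (center_le_zpowers hZ hperf z hz)
  · exact (false_of_normal_120 hZ hperf hIH hQ D hDperf hD120 hDtop).elim

end Cfsg.Agent.Helper8.ZasG2
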