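import Mathlib
import Cfsg.Agent.Helper6.ZasDefs
import Cfsg.Agent.Helper6.ZasGDefs
import Cfsg.Agent.Helper1.ZasG3A
import Cfsg.Agent.Helper5.ZasG4A
import Cfsg.Agent.Helper8.ZasG2B

/-!
# Zassenhaus project, piece G2: `perfect_reduction` (exact stub of helper6's blueprint)
-/

set_option autoImplicit false

namespace Cfsg.Agent.Helper8.ZasG2

open Cfsg.Agent.Helper6.Zas Cfsg.Agent.Helper6.ZasG

/-- PIECE G2 (perfect case: reduction to a quasisimple group with centre of order 2). -/
theorem perfect_reduction {G₀ : Type*} [Group G₀] [Finite G₀] (hZ : ZData G₀) (G : Subgroup G₀)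
    (hperf : ⁅G, G⁆ = G) (hne : G ≠ ⊥) (hIH : ∀ H : Subgroup G₀, H < G → ZProp H) :
    Nat.card G = 120 ∨ ∃ z : G₀, QSimple G z := by
  right
  have hZ' : ZData G := Cfsg.Agent.Helper1.ZasG.zdata_subgroup hZ G
  have hperf' : commutator ↥G = ⊤ := commutator_eq_top_of_perfect' G hperf
  have hnt : Nontrivial G := (Subgroup.nontrivial_iff_ne_bot G).2 hne
  have hIH' : ∀ H : Subgroup G, H ≠ ⊤ → ⁅H, H⁆ = H → Nat.card H = 1 ∨ Nat.card H = 120 := by
    intro H hH hHp
    have hlt : H.map G.subtype < G := by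
      have h1 : H < ⊤ := lt_top_iff_ne_top.2 hH
      have h2 := (Subgroup.map_subtype_lt_map_subtype (G' := G)).2 h1
      rwa [← MonoidHom.range_eq_map G.subtype, Subgroup.range_subtype] at h2
    have hp : ⁅H.map G.subtype, H.map G.subtype⁆ = H.map G.subtype := by
      rw [← Subgroup.map_commutator, hHp]
    have h3 := hIH _ hlt hp
    have hc : Nat.card (H.map G.subtype) = Nat.card H :=
      Nat.card_congr (Subgroup.equivMapOfInjective H G.subtype G.subtype_injective).toEquiv.symm
    rwa [hc] at h3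
  have hQ : ∀ L : Subgroup G, ⁅L, L⁆ = L → Nat.card L = 120 →
      ∀ P : Sylow 2 L, Nonempty ((P : Subgroup L) ≃* QuaternionGroup 2) :=
    fun L hL hc P => Cfsg.Agent.Helper5.ZasG4.sylow_two_quaternion hZ' L hL hc P
  obtain ⟨z, hz, hzc, hN⟩ := perfect_reduction_type hZ' hperf' hIH' hQ
  refine ⟨(z : G₀), z.2, ?_, ?_, ?_⟩
  · rw [Subgroup.orderOf_coe]; exact hz
  · intro g hg
    exact congrArg Subtype.val (hzc ⟨g, hg⟩)
  · intro N hNG hNn
    have hnormal : (N.subgroupOf G).Normal := by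
      refine ⟨fun n hn g => ?_⟩
      rw [Subgroup.mem_subgroupOf] at hn ⊢
      exact hNn g g.2 n hn
    rcases hN (N.subgroupOf G) hnormal with h | h
    · left
      intro n hn
      have h1 : (⟨n, hNG hn⟩ : G) ∈ N.subgroupOf G := by
        rw [Subgroup.mem_subgroupOf]; exact hn
      have h2 := h h1
      rw [Subgroup.mem_zpowers_iff] at h2 ⊢
      obtain ⟨k, hk⟩ := h2
      refine ⟨k, ?_⟩
      have := congrArg Subtype.val hk
      simpa using this
    · right
      exact le_antisymm hNG (Subgroup.subgroupOf_eq_top.1 h)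

end Cfsg.Agent.Helper8.ZasG2
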