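import Mathlib
import Cfsg.Agent.Helper8.SiegelSimple

set_option autoImplicit false
set_option linter.unusedSectionVars false

/-!
# Overgroups of the unitary group inside the orthogonal group (S5700), abstract core, part A (helper8)

A quadratic extension `F[ε]`, `ε ^ 2 = t ε - N`, acts on a quadratic space `(V, Q)` by similarities, the adjoint for the
polar form being the conjugation `ε ↦ t - ε`.  For a subgroup `M` of the isometry group and a vector `z`, `AS Q M z` is the
subspace of the vectors `w` orthogonal to `z` all of whose Siegel transformations `siegG Q z (c • w)` lie in `M`.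

* `UStr`: the data;  `UStr.indep`, `UStr.polar_eps_eps`, ...: the calculus;
* `AS`, `mem_AS_symm`, `self_mem_AS`;
* `CR`: the commutator rule;
* `R`: the rule for the lines of the extension.
-/

namespace Cfsg.Agent.Helper8.ExtO

open Module Cfsg.Agent.Helper8.QuadForm Cfsg.Agent.Helper8.Siegel Cfsg.Agent.Helper8.SiegelGroup
  Cfsg.Agent.Helper8.SiegelSimple Cfsg.Agent.Helper8.OrthOrder

variable {F : Type*} [Field F] {V : Type*} [AddCommGroup V] [Module F V]

/-- the data of a quadratic extension `F[ε]`, `ε ^ 2 = t ε - N`, acting on the quadratic space by similarities, the adjoint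
for the polar form being the conjugation. -/
structure UStr (Q : QuadraticForm F V) (ε : V →ₗ[F] V) (t N : F) : Prop where
  sq : ∀ x, ε (ε x) = t • ε x - N • x
  adj : ∀ x y, QuadraticMap.polar Q (ε x) y
    = t * QuadraticMap.polar Q x y - QuadraticMap.polar Q x (ε y)
  quad : ∀ x, Q (ε x) = N * Q x
  self : ∀ x, QuadraticMap.polar Q x (ε x) = t * Q x
  aniso : ∀ a b : F, a * a + t * a * b + N * b * b = 0 → a = 0 ∧ b = 0

section calculus

variable {Q : QuadraticForm F V} {ε : V →ₗ[F] V} {t N : F} (h : UStr Q ε t N)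

include h

theorem UStr.adj' (x y : V) : QuadraticMap.polar Q x (ε y)
    = t * QuadraticMap.polar Q x y - QuadraticMap.polar Q (ε x) y := by
  rw [h.adj]; ring

theorem UStr.polar_eps_eps (x y : V) :
    QuadraticMap.polar Q (ε x) (ε y) = N * QuadraticMap.polar Q x y := by
  rw [h.adj, h.sq, QuadraticMap.polar_sub_right, QuadraticMap.polar_smul_right,
    QuadraticMap.polar_smul_right]
  simp only [smul_eq_mul]
  ring

theorem UStr.self' (x : V) : QuadraticMap.polar Q (ε x) x = t * Q x := by
  rw [QuadraticMap.polar_comm, h.self]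

theorem UStr.N_ne_zero : N ≠ 0 := by
  intro hN
  have := h.aniso 0 1 (by rw [hN]; ring)
  exact one_ne_zero this.2

/-- the norm of `a + b ε`. -/
theorem UStr.norm_ne_zero {a b : F} (hab : ¬ (a = 0 ∧ b = 0)) :
    a * a + t * a * b + N * b * b ≠ 0 := fun h0 => hab (h.aniso a b h0)

/-- `x` and `ε x` are linearly independent. -/
theorem UStr.indep {a b : F} {x : V} (hx : x ≠ 0) (hab : a • x + b • ε x = 0) : a = 0 ∧ b = 0 := by
  by_contra hne
  have hn := h.norm_ne_zero hne
  -- apply `(a + b t) - b ε`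
  have h1 : (a + b * t) • (a • x + b • ε x) - b • ε (a • x + b • ε x)
      = (a * a + t * a * b + N * b * b) • x := by
    rw [map_add, map_smul, map_smul, h.sq]
    module
  rw [hab, map_zero, smul_zero, smul_zero, sub_zero] at h1
  rcases smul_eq_zero.mp h1.symm with h2 | h2
  · exact hn h2
  · exact hx h2

theorem UStr.eps_ne_zero {x : V} (hx : x ≠ 0) : ε x ≠ 0 := by
  intro h0
  have := h.indep hx (a := 0) (b := 1) (by rw [zero_smul, one_smul, zero_add, h0])
  exact one_ne_zero this.2

/-- the line of a singular vector is totally singular. -/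
theorem UStr.Q_line {x : V} (hx : Q x = 0) (a b : F) : Q (a • x + b • ε x) = 0 := by
  rw [QuadraticMap.map_add Q, QuadraticMap.map_smul, QuadraticMap.map_smul, h.quad, hx,
    QuadraticMap.polar_smul_left, QuadraticMap.polar_smul_right, h.self, hx]
  simp

theorem UStr.Q_eps {x : V} (hx : Q x = 0) : Q (ε x) = 0 := by
  rw [h.quad, hx, mul_zero]

theorem UStr.polar_self_eps {x : V} (hx : Q x = 0) : QuadraticMap.polar Q x (ε x) = 0 := by
  rw [h.self, hx, mul_zero]

theorem UStr.polar_eps_self {x : V} (hx : Q x = 0) : QuadraticMap.polar Q (ε x) x = 0 := by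
  rw [h.self', hx, mul_zero]

/-- the relation `x ⊥ z, x ⊥ ε z` is symmetric. -/
theorem UStr.kperp_symm {x z : V} (h1 : QuadraticMap.polar Q z x = 0)
    (h2 : QuadraticMap.polar Q (ε z) x = 0) :
    QuadraticMap.polar Q x z = 0 ∧ QuadraticMap.polar Q (ε x) z = 0 := by
  have h3 : QuadraticMap.polar Q x z = 0 := by rw [QuadraticMap.polar_comm]; exact h1
  refine ⟨h3, ?_⟩
  rw [h.adj, h3, QuadraticMap.polar_comm, h2]
  ring

end calculus

/-! ### the subspace `AS` -/

/-- the vectors `w ⊥ z` all of whose Siegel transformations at `z` lie in `M`. -/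
def AS (Q : QuadraticForm F V) (M : Subgroup ↥(Isom Q)) (z : V) : Submodule F V where
  carrier := {w | QuadraticMap.polar Q z w = 0 ∧ ∀ c : F, siegG Q z (c • w) ∈ M}
  add_mem' := by
    rintro a b ⟨ha, ha'⟩ ⟨hb, hb'⟩
    refine ⟨by rw [QuadraticMap.polar_add_right, ha, hb, add_zero], fun c => ?_⟩
    rw [smul_add, ← siegG_mul' Q (by rw [QuadraticMap.polar_smul_right, ha, smul_zero])
      (by rw [QuadraticMap.polar_smul_right, hb, smul_zero])]
    exact M.mul_mem (ha' c) (hb' c)
  zero_mem' := ⟨QuadraticMap.polar_zero_right _ _, fun c => by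
    rw [smul_zero, siegG_zero]; exact M.one_mem⟩
  smul_mem' := by
    rintro c a ⟨ha, ha'⟩
    refine ⟨by rw [QuadraticMap.polar_smul_right, ha, smul_zero], fun c' => ?_⟩
    rw [smul_smul]
    exact ha' _

theorem mem_AS (Q : QuadraticForm F V) (M : Subgroup ↥(Isom Q)) (z w : V) :
    w ∈ AS Q M z ↔ QuadraticMap.polar Q z w = 0 ∧ ∀ c : F, siegG Q z (c • w) ∈ M := Iff.rfl

theorem siegG_mem_of_mem_AS (Q : QuadraticForm F V) {M : Subgroup ↥(Isom Q)} {z w : V}
    (hw : w ∈ AS Q M z) : siegG Q z w ∈ M := by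
  have := hw.2 1
  rwa [one_smul] at this

/-- exchanging the two singular parameters of a Siegel transformation. -/
theorem siegG_swap (Q : QuadraticForm F V) {z x : V} (hz : Q z = 0) (hx : Q x = 0)
    (hzx : QuadraticMap.polar Q z x = 0) : siegG Q z x = siegG Q x (-z) := by
  have hxz : QuadraticMap.polar Q x (-z) = 0 := by
    rw [QuadraticMap.polar_neg_right, QuadraticMap.polar_comm, hzx, neg_zero]
  apply Subtype.ext
  apply LinearEquiv.ext
  intro y
  show siegE Q z x y = siegE Q x (-z) y
  rw [siegE_apply Q hz hzx, siegE_apply Q hx hxz, sieg_apply, sieg_apply, hx,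
    QuadraticMap.map_neg, hz, QuadraticMap.polar_neg_right]
  module

theorem mem_AS_symm (Q : QuadraticForm F V) {M : Subgroup ↥(Isom Q)} {z x : V} (hz : Q z = 0)
    (hx : Q x = 0) (hxz : x ∈ AS Q M z) : z ∈ AS Q M x := by
  have hzx : QuadraticMap.polar Q z x = 0 := hxz.1
  refine ⟨by rw [QuadraticMap.polar_comm]; exact hzx, fun c => ?_⟩
  have h1 : QuadraticMap.polar Q x (c • z) = 0 := by
    rw [QuadraticMap.polar_smul_right, QuadraticMap.polar_comm, hzx, smul_zero]
  have h2 : siegG Q x (c • z) = siegG Q z ((-c) • x) := by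
    rw [siegG_swap Q hx (by rw [QuadraticMap.map_smul, hz, smul_zero] : Q (c • z) = 0) h1,
      siegG_smul_left' Q c (by
        rw [QuadraticMap.polar_neg_right, hzx, neg_zero]), smul_neg, neg_smul]
  rw [h2]
  exact hxz.2 _

theorem self_mem_AS (Q : QuadraticForm F V) (M : Subgroup ↥(Isom Q)) {z : V} (hz : Q z = 0) :
    z ∈ AS Q M z := by
  have hzz : QuadraticMap.polar Q z z = 0 := by rw [polar_self', hz, mul_zero]
  refine ⟨hzz, fun c => ?_⟩
  have : siegG Q z (c • z) = 1 := by
    apply Subtype.ext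
    show siegE Q z (c • z) = 1
    have h1 := siegE_smul_add Q hz (QuadraticMap.polar_zero_right _ _ : QuadraticMap.polar Q z 0 = 0) c
    rw [zero_add] at h1
    rw [h1, siegE_zero]
  rw [this]
  exact M.one_mem

/-- **the commutator rule**: conjugating the root elements `siegG Q u (c • w)` by `siegG Q x y`. -/
theorem CR (Q : QuadraticForm F V) {M : Subgroup ↥(Isom Q)} {u w x y : V}
    (hx : Q x = 0) (hw : w ∈ AS Q M u) (hy : y ∈ AS Q M x)
    (hux : QuadraticMap.polar Q u x = 0) (huy : QuadraticMap.polar Q u y = 0)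
    (hwx : QuadraticMap.polar Q w x = 0) (hwy : QuadraticMap.polar Q w y ≠ 0) :
    x ∈ AS Q M u := by
  refine ⟨hux, fun c => ?_⟩
  have hxy : QuadraticMap.polar Q x y = 0 := hy.1
  have huw : QuadraticMap.polar Q u w = 0 := hw.1
  set β := QuadraticMap.polar Q w y with hβ
  set g := siegG Q x y with hg
  have hgM : g ∈ M := siegG_mem_of_mem_AS Q hy
  -- the image of `u` and `w`
  have hgu : (g : V ≃ₗ[F] V) u = u := by
    rw [hg, siegG_val]
    exact siegE_fix Q hux huy
  have hgw : (g : V ≃ₗ[F] V) w = w + β • x := by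
    rw [hg, siegG_val, siegE_apply Q hx hxy, sieg_apply, hwx, ← hβ]
    simp
  have hconj := siegG_conj Q g u ((c / β) • w)
  rw [hgu, map_smul, hgw, smul_add, smul_smul, div_mul_cancel₀ _ hwy] at hconj
  have h1 : QuadraticMap.polar Q u ((c / β) • w) = 0 := by
    rw [QuadraticMap.polar_smul_right, huw, smul_zero]
  have h2 : QuadraticMap.polar Q u (c • x) = 0 := by
    rw [QuadraticMap.polar_smul_right, hux, smul_zero]
  rw [← siegG_mul' Q h1 h2] at hconj
  have h3 : g * siegG Q u ((c / β) • w) * g⁻¹ ∈ M :=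
    M.mul_mem (M.mul_mem hgM (hw.2 _)) (M.inv_mem hgM)
  rw [hconj] at h3
  have h4 := M.mul_mem (M.inv_mem (hw.2 (c / β))) h3
  rwa [inv_mul_cancel_left] at h4

/-- **the rule for the lines of the extension.** -/
theorem R {Q : QuadraticForm F V} {ε : V →ₗ[F] V} {t N : F} (h : UStr Q ε t N)
    {M : Subgroup ↥(Isom Q)} (H1 : ∀ u, Q u = 0 → ∀ c : F, siegG Q u (c • ε u) ∈ M)
    {x y u : V} (hx : Q x = 0) (hu : Q u = 0) (hy : y ∈ AS Q M x)
    (hux : QuadraticMap.polar Q u x = 0) (heux : QuadraticMap.polar Q (ε u) x = 0)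
    (huy : QuadraticMap.polar Q u y = 0) (heuy : QuadraticMap.polar Q (ε u) y ≠ 0) :
    u ∈ AS Q M x := by
  have h1 : ε u ∈ AS Q M u := ⟨h.polar_self_eps hu, H1 u hu⟩
  exact mem_AS_symm Q hu hx (CR Q hx h1 hy hux huy heux heuy)

end Cfsg.Agent.Helper8.ExtO
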