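import Cfsg.Agent.Helper8.TensG
import Cfsg.Agent.Helper3.TensOmA1

set_option autoImplicit false
set_option linter.unusedSectionVars false
set_option linter.unusedVariables false

/-! Tensor decompositions with forms (helper8), part SA: the framework for `Sp ⊗ Sp < Ω⁺`
(S5704).  On top of the abstract tensor map `t : U →ₗ W →ₗ V` (`TensA`) and of helper3's
hypotheses `Hyp t Q f₁ f₂ M` (`M ≤ Isom Q` contains the symplectic transvections of both
factors): the root elements `yB`, `yA`, the underlying subgroup `XM M` of `V ≃ₗ V`, the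
perpendicular space `Sperp` of a fibre, the notions `IsRootS`, `RootHypS`, and the tensor
product `tl A B` of two endomorphisms. -/

namespace Cfsg.Agent.Helper8.Tens

open Module Cfsg.Agent.Helper7.ExtF Cfsg.Agent.Helper8.OrthOrder Cfsg.Agent.Helper8.ExtO
  Cfsg.Agent.Helper8.Siegel Cfsg.Agent.Helper8.SiegelGroup Cfsg.Agent.Helper3.TensOm

variable {F : Type*} [Field F] {U W V : Type*} [AddCommGroup U] [Module F U]
  [AddCommGroup W] [Module F W] [AddCommGroup V] [Module F V]
  {t : U →ₗ[F] W →ₗ[F] V} {Q : QuadraticForm F V} {f₁ : LinearMap.BilinForm F U}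
  {f₂ : LinearMap.BilinForm F W} {M : Subgroup ↥(Isom Q)}

/-- the subgroup of `V ≃ₗ V` underlying a subgroup of the isometry group. -/
def XM (M : Subgroup ↥(Isom Q)) : Subgroup (V ≃ₗ[F] V) := M.map (Isom Q).subtype

theorem mem_XM {g : V ≃ₗ[F] V} : g ∈ XM M ↔ ∃ h : g ∈ Isom Q, (⟨g, h⟩ : ↥(Isom Q)) ∈ M := by
  constructor
  · rintro ⟨x, hx, rfl⟩
    exact ⟨x.2, hx⟩
  · rintro ⟨h, hm⟩
    exact ⟨⟨g, h⟩, hm, rfl⟩

theorem coe_mem_XM {g : ↥(Isom Q)} (hg : g ∈ M) : (g : V ≃ₗ[F] V) ∈ XM M :=
  ⟨g, hg, rfl⟩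

theorem isom_of_mem_XM {g : V ≃ₗ[F] V} (hg : g ∈ XM M) (v : V) : Q (g v) = Q v := by
  obtain ⟨h, -⟩ := mem_XM.mp hg
  exact h v

theorem polar_of_mem_XM {g : V ≃ₗ[F] V} (hg : g ∈ XM M) (v v' : V) :
    QuadraticMap.polar Q (g v) (g v') = QuadraticMap.polar Q v v' :=
  Cfsg.Agent.Helper8.WittQuad.polar_isometry Q g (isom_of_mem_XM hg) v v'

/-- the functional `c • f (·, w)`. -/
def lw (f : LinearMap.BilinForm F W) (w : W) (c : F) : Module.Dual F W := c • f.flip w

@[simp] theorem lw_apply (f : LinearMap.BilinForm F W) (w : W) (c : F) (w' : W) :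
    lw f w c w' = c * f w' w := by
  simp [lw]

theorem lw_self {f : LinearMap.BilinForm F W} (halt : ∀ w, f w w = 0) (w : W) (c : F) :
    lw f w c w = 0 := by
  rw [lw_apply, halt, mul_zero]

/-- the root element `1 ⊗ t_w(c)` of the second factor. -/
noncomputable def yB (ht : IsTensorProduct t) (f₂ : LinearMap.BilinForm F W)
    (halt₂ : ∀ w, f₂ w w = 0) (w : W) (c : F) : V ≃ₗ[F] V :=
  xB ht w (lw f₂ w c) (lw_self halt₂ w c)

/-- the root element `t_u(c) ⊗ 1` of the first factor. -/
noncomputable def yA (ht : IsTensorProduct t) (f₁ : LinearMap.BilinForm F U)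
    (halt₁ : ∀ u, f₁ u u = 0) (u : U) (c : F) : V ≃ₗ[F] V :=
  xA ht u (lw f₁ u c) (lw_self halt₁ u c)

theorem yB_t (ht : IsTensorProduct t) (halt₂ : ∀ w, f₂ w w = 0) (w : W) (c : F) (u : U)
    (w' : W) : yB ht f₂ halt₂ w c (t u w') = t u (w' + (c * f₂ w' w) • w) := by
  rw [yB, xB_t, lw_apply]

theorem yA_t (ht : IsTensorProduct t) (halt₁ : ∀ u, f₁ u u = 0) (u : U) (c : F) (u' : U)
    (w : W) : yA ht f₁ halt₁ u c (t u' w) = t (u' + (c * f₁ u' u) • u) w := by
  rw [yA, xA_t, lw_apply]

theorem yB_apply (ht : IsTensorProduct t) (halt₂ : ∀ w, f₂ w w = 0) (w : W) (c : F) (v : V) :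
    yB ht f₂ halt₂ w c v = v + t (ev ht (lw f₂ w c) v) w := rfl

theorem yA_apply (ht : IsTensorProduct t) (halt₁ : ∀ u, f₁ u u = 0) (u : U) (c : F) (v : V) :
    yA ht f₁ halt₁ u c v = v + t u (evU ht (lw f₁ u c) v) := rfl

/-- the root elements of the second factor lie in `M`. -/
theorem yB_mem (ht : IsTensorProduct t) (h : Hyp t Q f₁ f₂ M) (w : W) (c : F) :
    yB ht f₂ h.alt₂ w c ∈ XM M := by
  obtain ⟨g, hg, e⟩ := h.movB w c
  have : (g : V ≃ₗ[F] V) = yB ht f₂ h.alt₂ w c := by
    apply equiv_ext_pure ht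
    intro u w'
    rw [e, yB_t]
  rw [← this]
  exact coe_mem_XM hg

/-- the root elements of the first factor lie in `M`. -/
theorem yA_mem (ht : IsTensorProduct t) (h : Hyp t Q f₁ f₂ M) (u : U) (c : F) :
    yA ht f₁ h.alt₁ u c ∈ XM M := by
  obtain ⟨g, hg, e⟩ := h.movA u c
  have : (g : V ≃ₗ[F] V) = yA ht f₁ h.alt₁ u c := by
    apply equiv_ext_pure ht
    intro u' w
    rw [e, yA_t]
  rw [← this]
  exact coe_mem_XM hg

/-- a (non-trivial) symplectic root element of the second factor. -/
def IsRootS (ht : IsTensorProduct t) (f₂ : LinearMap.BilinForm F W) (halt₂ : ∀ w, f₂ w w = 0)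
    (x : V ≃ₗ[F] V) : Prop :=
  ∃ (w : W) (c : F), w ≠ 0 ∧ c ≠ 0 ∧ x = yB ht f₂ halt₂ w c

/-- the hypothesis of the max-intersection argument, symplectic version: a conjugate (in `X`) of
a symplectic root element that stabilises a fibre is a symplectic root element. -/
def RootHypS (ht : IsTensorProduct t) (f₂ : LinearMap.BilinForm F W) (halt₂ : ∀ w, f₂ w w = 0)
    (X : Subgroup (V ≃ₗ[F] V)) : Prop :=
  ∀ g ∈ X, ∀ x, IsRootS ht f₂ halt₂ x → ∀ w : W, w ≠ 0 →
    img (g * x * g⁻¹) (fib t w) = fib t w → IsRootS ht f₂ halt₂ (g * x * g⁻¹)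

/-- the perpendicular space of the fibre of `w₀`. -/
noncomputable def Sperp (ht : IsTensorProduct t) (f₂ : LinearMap.BilinForm F W) (w₀ : W) :
    Submodule F V := LinearMap.ker (ev ht (f₂.flip w₀))

theorem mem_Sperp (ht : IsTensorProduct t) {w₀ : W} {x : V} :
    x ∈ Sperp ht f₂ w₀ ↔ ev ht (f₂.flip w₀) x = 0 := LinearMap.mem_ker

/-- the polar form against a pure tensor. -/
theorem polar_pure (ht : IsTensorProduct t) (h : Hyp t Q f₁ f₂ M) (x : V) (u : U) (w : W) :
    QuadraticMap.polar Q x (t u w) = f₁ (ev ht (f₂.flip w) x) u := by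
  refine ht.inductionOn x ?_ ?_ ?_
  · simp
  · intro u' w'
    rw [h.pol, ev_t, map_smul, LinearMap.smul_apply, smul_eq_mul]
    show f₁ u' u * f₂ w' w = f₂ w' w * f₁ u' u
    ring
  · intro x y hx hy
    rw [QuadraticMap.polar_add_left, hx, hy, map_add, map_add, LinearMap.add_apply]

theorem mem_Sperp_iff (ht : IsTensorProduct t) (h : Hyp t Q f₁ f₂ M) {w₀ : W} {x : V} :
    x ∈ Sperp ht f₂ w₀ ↔ ∀ u, QuadraticMap.polar Q x (t u w₀) = 0 := by
  rw [mem_Sperp]
  constructor
  · intro hx u
    rw [polar_pure ht h, hx, map_zero, LinearMap.zero_apply]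
  · intro hx
    apply h.nd₁
    intro u
    rw [← polar_pure ht h]
    exact hx u

theorem t_mem_Sperp (ht : IsTensorProduct t) {w₀ w : W} (hw : f₂ w w₀ = 0) (u : U) :
    t u w ∈ Sperp ht f₂ w₀ := by
  rw [mem_Sperp, ev_t]
  show f₂ w w₀ • u = 0
  rw [hw, zero_smul]

theorem fib_le_Sperp (ht : IsTensorProduct t) (halt₂ : ∀ w, f₂ w w = 0) (w₀ : W) :
    fib t w₀ ≤ Sperp ht f₂ w₀ := by
  intro x hx
  obtain ⟨u, rfl⟩ := mem_fib.mp hx
  exact t_mem_Sperp ht (halt₂ w₀) u

/-- the tensor product of two endomorphisms. -/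
noncomputable def tl (ht : IsTensorProduct t) (A : Module.End F U) (B : Module.End F W) :
    Module.End F V := ht.map ht A B

@[simp] theorem tl_t (ht : IsTensorProduct t) (A : Module.End F U) (B : Module.End F W) (u : U)
    (w : W) : tl ht A B (t u w) = t (A u) (B w) := by
  rw [tl, IsTensorProduct.map_eq]

theorem tl_mul (ht : IsTensorProduct t) (A A' : Module.End F U) (B B' : Module.End F W) :
    tl ht A B * tl ht A' B' = tl ht (A * A') (B * B') := by
  apply ext_pure ht
  intro u w
  simp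

theorem tl_add_left (ht : IsTensorProduct t) (A A' : Module.End F U) (B : Module.End F W) :
    tl ht (A + A') B = tl ht A B + tl ht A' B := by
  apply ext_pure ht
  intro u w
  simp

theorem tl_add_right (ht : IsTensorProduct t) (A : Module.End F U) (B B' : Module.End F W) :
    tl ht A (B + B') = tl ht A B + tl ht A B' := by
  apply ext_pure ht
  intro u w
  simp

theorem tl_smul_left (ht : IsTensorProduct t) (c : F) (A : Module.End F U) (B : Module.End F W) :
    tl ht (c • A) B = c • tl ht A B := by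
  apply ext_pure ht
  intro u w
  simp

theorem tl_smul_right (ht : IsTensorProduct t) (c : F) (A : Module.End F U)
    (B : Module.End F W) : tl ht A (c • B) = c • tl ht A B := by
  apply ext_pure ht
  intro u w
  simp

theorem tl_neg_left (ht : IsTensorProduct t) (A : Module.End F U) (B : Module.End F W) :
    tl ht (-A) B = - tl ht A B := by
  apply ext_pure ht
  intro u w
  simp

theorem tl_zero_left (ht : IsTensorProduct t) (B : Module.End F W) :
    tl ht (0 : Module.End F U) B = 0 := by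
  apply ext_pure ht
  intro u w
  simp

theorem tl_zero_right (ht : IsTensorProduct t) (A : Module.End F U) :
    tl ht A (0 : Module.End F W) = 0 := by
  apply ext_pure ht
  intro u w
  simp

theorem tl_one (ht : IsTensorProduct t) : tl ht (1 : Module.End F U) (1 : Module.End F W) = 1 := by
  apply ext_pure ht
  intro u w
  simp

/-- an endomorphism of `V` preserving `Q` on the pure tensors and the polar form between pure
tensors preserves `Q`. -/
theorem isom_of_pure (ht : IsTensorProduct t) (g : V →ₗ[F] V)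
    (h1 : ∀ u w, Q (g (t u w)) = Q (t u w))
    (h2 : ∀ u w u' w', QuadraticMap.polar Q (g (t u w)) (g (t u' w'))
      = QuadraticMap.polar Q (t u w) (t u' w')) (x : V) : Q (g x) = Q x := by
  have hp : ∀ x y, QuadraticMap.polar Q (g x) (g y) = QuadraticMap.polar Q x y := by
    intro x y
    refine ht.inductionOn x ?_ ?_ ?_
    · simp
    · intro u w
      refine ht.inductionOn y ?_ ?_ ?_
      · simp
      · intro u' w'
        exact h2 u w u' w'
      · intro y y' hy hy'
        rw [map_add, QuadraticMap.polar_add_right, hy, hy', QuadraticMap.polar_add_right]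
    · intro x x' hx hx'
      rw [map_add, QuadraticMap.polar_add_left, hx, hx', QuadraticMap.polar_add_left]
  refine ht.inductionOn x ?_ ?_ ?_
  · simp
  · intro u w
    exact h1 u w
  · intro x y hx hy
    have e1 : Q (g x + g y) = Q (g x) + Q (g y) + QuadraticMap.polar Q (g x) (g y) := by
      unfold QuadraticMap.polar; ring
    have e2 : Q (x + y) = Q x + Q y + QuadraticMap.polar Q x y := by
      unfold QuadraticMap.polar; ring
    rw [map_add, e1, e2, hx, hy, hp]

end Cfsg.Agent.Helper8.Tens
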