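import Cfsg.Agent.Helper8.SpEvenG

/-!
# Characteristic 2: `tensor_even_false`

An irreducible group of isometries of a symplectic form in characteristic `2` preserves no tensor
decomposition `B ⊗ G` of the form with a factor of odd dimension.
-/

set_option autoImplicit false
set_option linter.unusedSectionVars false

namespace Cfsg.Agent.Helper8.SpEven

open Cfsg Cfsg.Geo Matrix
open scoped Kronecker

variable {n : ℕ} {F : Type*} [Field F]

/-- the linear map `x ↦ P (x ∘ eqv)` -/
noncomputable def tauLin {e d : ℕ} (eqv : Fin n ≃ Fin e × Fin d) (P : GL (Fin n) F) :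
    (Fin e × Fin d → F) →ₗ[F] (Fin n → F) :=
  (Matrix.toLin' (P : Matrix (Fin n) (Fin n) F)).comp (LinearMap.funLeft F F eqv)

theorem tauLin_apply {e d : ℕ} (eqv : Fin n ≃ Fin e × Fin d) (P : GL (Fin n) F)
    (x : Fin e × Fin d → F) :
    tauLin eqv P x = (P : Matrix (Fin n) (Fin n) F) *ᵥ (x ∘ eqv) := rfl

theorem tauLin_injective {e d : ℕ} (eqv : Fin n ≃ Fin e × Fin d) (P : GL (Fin n) F) :
    Function.Injective (tauLin eqv P) := by
  intro x y hxy
  rw [tauLin_apply, tauLin_apply] at hxy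
  have h1 := congrArg (fun w => ((P⁻¹ : GL (Fin n) F) : Matrix (Fin n) (Fin n) F) *ᵥ w) hxy
  simp only [Matrix.mulVec_mulVec] at h1
  rw [← Units.val_mul, inv_mul_cancel, Units.val_one, Matrix.one_mulVec, Matrix.one_mulVec] at h1
  funext p
  have := congrFun h1 (eqv.symm p)
  simpa using this

/-- an element of the tensor product subgroup acts on `P (x ∘ eqv)` through a Kronecker product -/
theorem exists_kron_of_mem {e d : ℕ} {eqv : Fin n ≃ Fin e × Fin d} {P h : GL (Fin n) F}
    (hmem : h ∈ tensorProductSubgroup e d eqv P) :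
    ∃ (a : GL (Fin e) F) (b : GL (Fin d) F), ∀ x : Fin e × Fin d → F,
      (h : Matrix (Fin n) (Fin n) F) *ᵥ tauLin eqv P x =
        tauLin eqv P (((a : Matrix (Fin e) (Fin e) F) ⊗ₖ (b : Matrix (Fin d) (Fin d) F)) *ᵥ x) := by
  obtain ⟨y, hy, hyg⟩ := hmem
  obtain ⟨k, ⟨a, b, hab⟩, rfl⟩ := hy
  simp only [MulEquiv.coe_toMonoidHom, MulAut.conj_apply] at hyg
  refine ⟨a, b, fun x => ?_⟩
  have hP : ((P⁻¹ : GL (Fin n) F) : Matrix (Fin n) (Fin n) F) * (P : Matrix (Fin n) (Fin n) F) = 1 := by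
    rw [← Units.val_mul, inv_mul_cancel, Units.val_one]
  rw [tauLin_apply, tauLin_apply, ← hyg, Units.val_mul, Units.val_mul, Matrix.mulVec_mulVec,
    Matrix.mul_assoc, hP, Matrix.mul_one,
    ← Matrix.mulVec_mulVec, Cfsg.Agent.Helper9.AschComp.glReindex_val, ← hab]
  congr 1
  show (Matrix.submatrix (k : Matrix (Fin e × Fin d) (Fin e × Fin d) F) eqv.symm.symm eqv.symm.symm) *ᵥ
    (x ∘ eqv) = _
  rw [Equiv.symm_symm, Matrix.submatrix_mulVec_equiv]
  congr 2
  funext p
  simp

/-- column `c` of a Kronecker product applied to `x` -/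
theorem kron_mulVec_col {e d : ℕ} (a : Matrix (Fin e) (Fin e) F) (b : Matrix (Fin d) (Fin d) F)
    (x : Fin e × Fin d → F) (c : Fin d) :
    (fun i => ((a ⊗ₖ b) *ᵥ x) (i, c)) = ∑ c', b c c' • (a *ᵥ fun j => x (j, c')) := by
  funext i
  rw [Finset.sum_apply]
  simp only [Matrix.mulVec, dotProduct, Pi.smul_apply, smul_eq_mul, Finset.mul_sum]
  rw [Fintype.sum_prod_type, Finset.sum_comm]
  refine Finset.sum_congr rfl fun c' _ => Finset.sum_congr rfl fun j _ => ?_
  rw [Matrix.kroneckerMap_apply]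
  ring

theorem tensor_even_core [Fintype F] (h2 : (2 : F) = 0) {f : (Fin n → F) → (Fin n → F) → F}
    (hf : IsSymplecticForm f) {H : Subgroup (GL (Fin n) F)} (hH : ActsIrreducibly (matrixSet H))
    (hfix : FixesForm (matrixSet H) f) {d e : ℕ} (he : 2 ≤ e) (hd : 1 ≤ d) (hodd : Odd e)
    (eqv : Fin n ≃ Fin e × Fin d) (P : GL (Fin n) F) (hHt : H ≤ tensorProductSubgroup e d eqv P)
    (B : Matrix (Fin e) (Fin e) F) (G : Matrix (Fin d) (Fin d) F) (hB : IsUnit B.det)
    (hG : IsUnit G.det)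
    (hform : ∀ x y : Fin e × Fin d → F,
      f ((P : Matrix (Fin n) (Fin n) F) *ᵥ (x ∘ eqv)) ((P : Matrix (Fin n) (Fin n) F) *ᵥ (y ∘ eqv)) =
        formOfGram id (B ⊗ₖ G) x y) : False := by
  classical
  have hform' : ∀ x y, f (tauLin eqv P x) (tauLin eqv P y) = formOfGram id (B ⊗ₖ G) x y := hform
  have hne : Nonempty (Fin e) := ⟨⟨0, by omega⟩⟩
  have hnd : Nonempty (Fin d) := ⟨⟨0, by omega⟩⟩
  have hB0 : B ≠ 0 := by
    rintro rfl
    rw [Matrix.det_zero] at hB
    exact not_isUnit_zero hB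
  have hG0 : G ≠ 0 := by
    rintro rfl
    rw [Matrix.det_zero] at hG
    exact not_isUnit_zero hG
  have hS : ∀ i j a b, B i j * G a b = B j i * G b a := by
    intro i j a b
    have h1 := hform' (Pi.single (i, a) 1) (Pi.single (j, b) 1)
    have h1' := hform' (Pi.single (j, b) 1) (Pi.single (i, a) 1)
    rw [formOfGram_single, Matrix.kroneckerMap_apply] at h1 h1'
    rw [hf.skew, h1', neg_eq_self_of_two h2] at h1
    exact h1.symm
  obtain ⟨hBs, hGs⟩ := symm_of_kron_symm h2 hB0 hG0 hS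
  obtain ⟨i₀, hi₀⟩ := exists_diag_ne_zero h2 hBs hB (by rwa [Fintype.card_fin])
  set N := gramN h2 hBs with hNdef
  let W' : Submodule F (Fin e × Fin d → F) :=
    { carrier := {x | ∀ c, N (fun i => x (i, c)) = 0}
      add_mem' := by
        intro x y hx hy c
        have : (fun i => (x + y) (i, c)) = (fun i => x (i, c)) + (fun i => y (i, c)) := rfl
        rw [this, map_add, hx c, hy c, add_zero]
      zero_mem' := fun c => by
        have : (fun i => (0 : Fin e × Fin d → F) (i, c)) = 0 := rfl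
        rw [this, map_zero]
      smul_mem' := by
        intro r x hx c
        have : (fun i => (r • x) (i, c)) = r • (fun i => x (i, c)) := rfl
        rw [this, gramN_smul, hx c, mul_zero] }
  have hW'mem : ∀ x, x ∈ W' ↔ ∀ c, N (fun i => x (i, c)) = 0 := fun x => Iff.rfl
  let W := W'.map (tauLin eqv P)
  have hWinv : ∀ s ∈ matrixSet H, W.map (Matrix.toLin' s) ≤ W := by
    rintro s ⟨h, hh, rfl⟩ _ ⟨_, ⟨x, hx, rfl⟩, rfl⟩
    obtain ⟨a, b, hab⟩ := exists_kron_of_mem (hHt hh)
    rw [Matrix.toLin'_apply, hab]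
    refine ⟨_, ?_, rfl⟩
    set A : Matrix (Fin e) (Fin e) F := (a : Matrix (Fin e) (Fin e) F) with hA
    set Bb : Matrix (Fin d) (Fin d) F := (b : Matrix (Fin d) (Fin d) F) with hBb
    have hiso : ∀ x y, formOfGram id (B ⊗ₖ G) ((A ⊗ₖ Bb) *ᵥ x) ((A ⊗ₖ Bb) *ᵥ y) =
        formOfGram id (B ⊗ₖ G) x y := by
      intro x y
      rw [← hform', ← hab, ← hab, hfix _ ⟨h, hh, rfl⟩, hform']
    have hmat : (A ⊗ₖ Bb)ᵀ * (B ⊗ₖ G) * (A ⊗ₖ Bb) = B ⊗ₖ G :=
      gram_ext (fun x y => by rw [← formOfGram_mulVec, hiso])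
    have hmat' : (Aᵀ * B * A) ⊗ₖ (Bbᵀ * G * Bb) = B ⊗ₖ G := by
      rw [Matrix.mul_kronecker_mul, Matrix.mul_kronecker_mul, Matrix.kroneckerMap_transpose]
      exact hmat
    obtain ⟨a₁, b₁, hG1⟩ : ∃ a b, G a b ≠ 0 := by
      by_contra hall
      push Not at hall
      exact hG0 (Matrix.ext hall)
    set μ : F := (Bbᵀ * G * Bb) a₁ b₁ with hμdef
    have hentry : ∀ i j, (Aᵀ * B * A) i j * μ = B i j * G a₁ b₁ := by
      intro i j
      have := congrFun (congrFun hmat' (i, a₁)) (j, b₁)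
      rwa [Matrix.kroneckerMap_apply, Matrix.kroneckerMap_apply] at this
    have hN : ∀ z : Fin e → F, μ * N (A *ᵥ z) = G a₁ b₁ * N z := by
      intro z
      rw [hNdef, gramN_apply, gramN_apply, formOfGram_mulVec]
      unfold formOfGram
      rw [Finset.mul_sum, Finset.mul_sum]
      refine Finset.sum_congr rfl fun i _ => ?_
      rw [Finset.mul_sum, Finset.mul_sum]
      refine Finset.sum_congr rfl fun j _ => ?_
      have := hentry i j
      simp only [id]
      linear_combination (z i * z j) * this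
    have hμ : μ ≠ 0 := by
      intro h0
      have := hN (Pi.single i₀ 1)
      rw [h0, zero_mul, hNdef, gramN_single] at this
      exact mul_ne_zero hG1 hi₀ this.symm
    show ∀ c, N (fun i => ((A ⊗ₖ Bb) *ᵥ x) (i, c)) = 0
    intro c
    rw [kron_mulVec_col, map_sum]
    refine Finset.sum_eq_zero fun c' _ => ?_
    rw [hNdef, gramN_smul, ← hNdef]
    have := hN (fun j => x (j, c'))
    rw [(hW'mem x).mp hx c', mul_zero] at this
    rw [(mul_eq_zero.mp this).resolve_left hμ, mul_zero]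
  let c₀ : Fin d := ⟨0, by omega⟩
  rcases hH W hWinv with hW | hW
  · obtain ⟨x₀, hx₀, hNx₀⟩ := exists_gramN_eq_zero h2 hBs (by rwa [Fintype.card_fin])
    let x : Fin e × Fin d → F := fun p => if p.2 = c₀ then x₀ p.1 else 0
    have hxW : x ∈ W' := by
      rw [hW'mem]
      intro c
      by_cases hc : c = c₀
      · have : (fun i => x (i, c)) = x₀ := by
          funext i
          simp [x, hc]
        rw [this, hNdef, hNx₀]
      · have : (fun i => x (i, c)) = 0 := by
          funext i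
          simp [x, hc]
        rw [this, map_zero]
    have hmem : tauLin eqv P x ∈ W := ⟨x, hxW, rfl⟩
    rw [hW, Submodule.mem_bot] at hmem
    have hx0 : x = 0 := tauLin_injective eqv P (by rw [hmem, map_zero])
    apply hx₀
    funext i
    have := congrFun hx0 (i, c₀)
    simpa [x] using this
  · have hmem : tauLin eqv P (Pi.single (i₀, c₀) 1) ∈ W := by
      rw [hW]
      exact Submodule.mem_top
    obtain ⟨x, hx, hxe⟩ := hmem
    have hxs := tauLin_injective eqv P hxe
    subst hxs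
    have h1 := (hW'mem _).mp hx c₀
    have hcol : (fun i => (Pi.single (i₀, c₀) (1 : F) : Fin e × Fin d → F) (i, c₀)) =
        Pi.single i₀ 1 := by
      funext i
      by_cases hi : i = i₀
      · subst hi
        simp
      · rw [Pi.single_apply, Pi.single_apply, if_neg hi, if_neg]
        intro h
        exact hi (congrArg Prod.fst h)
    rw [hcol, hNdef, gramN_single] at h1
    exact hi₀ h1

theorem formOfGram_kron_swap {e d : ℕ} (B : Matrix (Fin e) (Fin e) F) (G : Matrix (Fin d) (Fin d) F)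
    (x y : Fin d × Fin e → F) :
    formOfGram id (B ⊗ₖ G) (x ∘ Equiv.prodComm (Fin e) (Fin d)) (y ∘ Equiv.prodComm (Fin e) (Fin d)) =
      formOfGram id (G ⊗ₖ B) x y := by
  unfold formOfGram
  refine Fintype.sum_equiv (Equiv.prodComm (Fin e) (Fin d)) _ _ fun p => ?_
  refine Fintype.sum_equiv (Equiv.prodComm (Fin e) (Fin d)) _ _ fun q => ?_
  rw [Matrix.kroneckerMap_apply, Matrix.kroneckerMap_apply]
  simp only [Function.comp_apply, Equiv.prodComm_apply, Prod.fst_swap, Prod.snd_swap, id]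
  ring

/-- **`tensor_even_false`**: in characteristic `2`, an irreducible group of isometries of a
symplectic form preserves no tensor decomposition of the form with a factor of odd dimension. -/
theorem tensor_even_false [Fintype F] (h2 : (2 : F) = 0) {f : (Fin n → F) → (Fin n → F) → F}
    (hf : IsSymplecticForm f) {H : Subgroup (GL (Fin n) F)} (hH : ActsIrreducibly (matrixSet H))
    (hfix : FixesForm (matrixSet H) f) {d e : ℕ} (he : 2 ≤ e) (hd : 2 ≤ d) (hodd : Odd e ∨ Odd d)
    (eqv : Fin n ≃ Fin e × Fin d) (P : GL (Fin n) F) (hHt : H ≤ tensorProductSubgroup e d eqv P)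
    (B : Matrix (Fin e) (Fin e) F) (G : Matrix (Fin d) (Fin d) F) (hB : IsUnit B.det)
    (hG : IsUnit G.det)
    (hform : ∀ x y : Fin e × Fin d → F,
      f ((P : Matrix (Fin n) (Fin n) F) *ᵥ (x ∘ eqv)) ((P : Matrix (Fin n) (Fin n) F) *ᵥ (y ∘ eqv)) =
        formOfGram id (B ⊗ₖ G) x y) : False := by
  rcases hodd with ho | ho
  · exact tensor_even_core h2 hf hH hfix he (by omega) ho eqv P hHt B G hB hG hform
  · refine tensor_even_core h2 hf hH hfix hd (by omega) ho
      (eqv.trans (Equiv.prodComm (Fin e) (Fin d))) P ?_ G B hG hB ?_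
    · rw [← Cfsg.Agent.Helper9.AschComp.tensorProductSubgroup_swap]
      exact hHt
    · intro x y
      have := hform (x ∘ Equiv.prodComm (Fin e) (Fin d)) (y ∘ Equiv.prodComm (Fin e) (Fin d))
      rw [formOfGram_kron_swap] at this
      exact this

end Cfsg.Agent.Helper8.SpEven
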