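import Mathlib
import Cfsg.Prelude.Def_GeometricClasses
import Cfsg.Agent.Lead.AschOmB
import Cfsg.Agent.Helper8.QuadForm
import Cfsg.Agent.Helper8.SiegelGeom

/-!
# ASCH-OM, M5c/M5d core (helper8): a matrix commuting with the long root elements of `Ω(Q)` (dimension at
least eight) has every non-zero singular vector as an eigenvector; the singular vectors span.
-/

set_option autoImplicit false

namespace Cfsg.Agent.Helper8.AschOm

open Cfsg Cfsg.Geo Cfsg.Agent.Lead.AschOm Cfsg.Agent.Helper8.QuadForm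
open scoped MatrixGroups Matrix

variable {n : ℕ} {F : Type*} [Field F] [Fintype F]

/-- `g` is the long root element `x ↦ x + (B(x,z) u − B(x,u) z)` of the totally singular pair `u, z`. -/
def IsLongRoot (Q : (Fin n → F) → F) (g : GL (Fin n) F) (u z : Fin n → F) : Prop :=
  Q u = 0 ∧ Q z = 0 ∧ QuadraticMap.polar Q u z = 0 ∧
    ∀ x : Fin n → F, (g : Matrix (Fin n) (Fin n) F) *ᵥ x =
      x + (QuadraticMap.polar Q x z • u - QuadraticMap.polar Q x u • z)

theorem exists_longRoot (hn : 5 ≤ n) (Q : (Fin n → F) → F) (hQ : IsNondegenerateQuadraticForm Q)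
    (u z : Fin n → F) (hu : Q u = 0) (hz : Q z = 0) (huz : QuadraticMap.polar Q u z = 0) :
    ∃ g ∈ omegaGL Q, IsLongRoot Q g u z := by
  obtain ⟨g, hg, hgx⟩ := longRoot_mem_omegaGL (ι := Fin n) (by rw [Fintype.card_fin]; exact hn) Q hQ u z
    hu hz huz 1
  refine ⟨g, hg, hu, hz, huz, fun x => ?_⟩
  rw [hgx x, one_smul]

omit [Fintype F] in
/-- the image of `g - 1` lies in the span of the pair -/
theorem IsLongRoot.sub_mem {Q : (Fin n → F) → F} {g : GL (Fin n) F} {u z : Fin n → F}
    (h : IsLongRoot Q g u z) (x : Fin n → F) :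
    ((g : Matrix (Fin n) (Fin n) F) - 1) *ᵥ x ∈ Submodule.span F ({u, z} : Set (Fin n → F)) := by
  rw [Matrix.sub_mulVec, Matrix.one_mulVec, h.2.2.2 x, add_sub_cancel_left]
  refine Submodule.sub_mem _ (Submodule.smul_mem _ _ (Submodule.subset_span ?_))
    (Submodule.smul_mem _ _ (Submodule.subset_span ?_))
  · exact Set.mem_insert _ _
  · exact Set.mem_insert_of_mem _ rfl

omit [Fintype F] in
theorem rank_le_two_of_range {A : Matrix (Fin n) (Fin n) F} {u z : Fin n → F}
    (h : ∀ x, A *ᵥ x ∈ Submodule.span F ({u, z} : Set (Fin n → F))) : A.rank ≤ 2 := by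
  classical
  have hle : LinearMap.range A.mulVecLin ≤ Submodule.span F ({u, z} : Set (Fin n → F)) := by
    rintro _ ⟨x, rfl⟩
    exact h x
  have h1 : A.rank ≤ Module.finrank F (Submodule.span F ({u, z} : Set (Fin n → F))) :=
    Submodule.finrank_mono hle
  have h2 : Module.finrank F (Submodule.span F ({u, z} : Set (Fin n → F))) ≤ 2 := by
    have h3 := finrank_span_le_card (R := F) ({u, z} : Set (Fin n → F))
    have h4 : ({u, z} : Set (Fin n → F)).toFinset.card ≤ 2 := by
      rw [Set.toFinset_insert, Set.toFinset_singleton]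
      exact Finset.card_le_two
    omega
  omega

omit [Fintype F] in
theorem IsLongRoot.rank_le {Q : (Fin n → F) → F} {g : GL (Fin n) F} {u z : Fin n → F}
    (h : IsLongRoot Q g u z) : ((g : Matrix (Fin n) (Fin n) F) - 1).rank ≤ 2 :=
  rank_le_two_of_range h.sub_mem

/-- **core**: a matrix commuting with all long root elements of `Ω(Q)`, `n ≥ 8`, has every non-zero singular vector
as an eigenvector. -/
theorem eigen_of_commute (hn : 8 ≤ n) (Q : (Fin n → F) → F) (hQ : IsNondegenerateQuadraticForm Q)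
    (m : Matrix (Fin n) (Fin n) F)
    (hm : ∀ g ∈ omegaGL Q, ∀ u z : Fin n → F, IsLongRoot Q g u z →
      (g : Matrix (Fin n) (Fin n) F) * m = m * (g : Matrix (Fin n) (Fin n) F))
    (u : Fin n → F) (hu : Q u = 0) (hu0 : u ≠ 0) : ∃ c : F, m *ᵥ u = c • u := by
  classical
  set Q' := toQF Q hQ with hQ'
  have hnd : Nondeg Q' := toQF_nondeg Q hQ
  obtain ⟨f, hf, huf⟩ := exists_hyperbolic_pair Q' hnd hu0 hu
  have hWnd := perpPair_nondeg Q' hnd (e := u) (f := f) hu hf huf
  have hWdim := finrank_perpPair Q' (e := u) (f := f) hu hf huf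
  rw [Module.finrank_fin_fun] at hWdim
  set W := perpPair Q' u f with hW
  have hnd' : Nondeg (Q'.comp W.subtype) := (nondeg_comp_subtype_iff Q' W).2 hWnd
  obtain ⟨e', f', -, hhyp, -, -, -⟩ := exists_hyp_family (F := F) 2 (Q'.comp W.subtype) hnd' (n - 6)
    (by omega) (by omega)
  obtain ⟨hsing, hdual, horth⟩ := hhyp
  -- the polar form of `Q`
  have hB := hQ.polar_bilinear
  have hsymm : ∀ x y, QuadraticMap.polar Q x y = QuadraticMap.polar Q y x := fun x y =>
    QuadraticMap.polar_comm Q x y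
  have key : ∀ i : Fin 2, ∃ a b : F, m *ᵥ u = a • u - b • (e' i : Fin n → F) := by
    intro i
    have hz : Q (e' i : Fin n → F) = 0 := (hsing i).1
    have hperp := (mem_perpPair Q' u f _).1 (e' i).2
    have huz : QuadraticMap.polar Q u (e' i : Fin n → F) = 0 := hperp.1
    obtain ⟨g, hg, hlr⟩ := exists_longRoot (by omega) Q hQ u (e' i : Fin n → F) hu hz huz
    have hc := hm g hg u _ hlr
    have h1 : (g : Matrix (Fin n) (Fin n) F) *ᵥ (m *ᵥ (f' i : Fin n → F)) =
        m *ᵥ ((g : Matrix (Fin n) (Fin n) F) *ᵥ (f' i : Fin n → F)) := by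
      rw [Matrix.mulVec_mulVec, Matrix.mulVec_mulVec, hc]
    have hfz : QuadraticMap.polar Q (f' i : Fin n → F) (e' i : Fin n → F) = 1 := by
      rw [hsymm]
      have := hdual i i
      rw [polar_comp_subtype, if_pos rfl] at this
      exact this
    have hfu : QuadraticMap.polar Q (f' i : Fin n → F) u = 0 := by
      rw [hsymm]
      exact ((mem_perpPair Q' u f _).1 (f' i).2).1
    rw [hlr.2.2.2, hlr.2.2.2, hfz, hfu, one_smul, zero_smul, sub_zero, Matrix.mulVec_add] at h1
    have h2 := add_left_cancel h1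
    exact ⟨_, _, h2.symm⟩
  obtain ⟨a₀, b₀, h0⟩ := key 0
  obtain ⟨a₁, b₁, h1⟩ := key 1
  have h2 : a₀ • u - b₀ • (e' 0 : Fin n → F) = a₁ • u - b₁ • (e' 1 : Fin n → F) := by
    rw [← h0, ← h1]
  have h3 := congrArg (fun v => QuadraticMap.polar Q v (f' 0 : Fin n → F)) h2
  beta_reduce at h3
  have huf0 : QuadraticMap.polar Q u (f' 0 : Fin n → F) = 0 :=
    ((mem_perpPair Q' u f _).1 (f' 0).2).1
  have h00 : QuadraticMap.polar Q (e' 0 : Fin n → F) (f' 0 : Fin n → F) = 1 := by
    have := hdual 0 0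
    rw [polar_comp_subtype, if_pos rfl] at this
    exact this
  have h10 : QuadraticMap.polar Q (e' 1 : Fin n → F) (f' 0 : Fin n → F) = 0 := by
    have := hdual 1 0
    rw [polar_comp_subtype, if_neg (by decide)] at this
    exact this
  have hsub : ∀ x y v, QuadraticMap.polar Q (x - y) v =
      QuadraticMap.polar Q x v - QuadraticMap.polar Q y v := by
    intro x y v
    have := hB.add_left (x - y) y v
    rw [sub_add_cancel] at this
    rw [this, add_sub_cancel_right]
  rw [hsub, hsub, hB.smul_left, hB.smul_left, hB.smul_left, hB.smul_left, huf0, h00, h10] at h3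
  have hb0 : b₀ = 0 := by
    have : -b₀ = 0 := by linear_combination h3
    exact neg_eq_zero.mp this
  refine ⟨a₀, ?_⟩
  rw [h0, hb0, zero_smul, sub_zero]

/-- the singular vectors span (dimension at least three) -/
theorem eq_zero_of_singular_kernel (hn : 3 ≤ n) (Q : (Fin n → F) → F) (hQ : IsNondegenerateQuadraticForm Q)
    (m : Matrix (Fin n) (Fin n) F) (hm : ∀ u : Fin n → F, Q u = 0 → m *ᵥ u = 0) : m = 0 := by
  classical
  set Q' := toQF Q hQ with hQ'
  have hnd : Nondeg Q' := toQF_nondeg Q hQ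
  have h3 : 3 ≤ Module.finrank F (Fin n → F) := by rw [Module.finrank_fin_fun]; exact hn
  obtain ⟨u, hu0, hu⟩ := exists_singular Q' h3
  obtain ⟨f, hf, huf⟩ := exists_hyperbolic_pair Q' hnd hu0 hu
  have hker : ∀ x : Fin n → F, m *ᵥ x = 0 := by
    intro x
    have hx := Cfsg.Agent.Helper8.SiegelGeom.mem_span_singular Q' ⊤ (Submodule.mem_top (x := u))
      (Submodule.mem_top (x := f)) hu hf huf (Submodule.mem_top (x := x))
    have hle : Submodule.span F {c : Fin n → F | c ∈ (⊤ : Submodule F (Fin n → F)) ∧ Q' c = 0} ≤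
        LinearMap.ker m.mulVecLin := by
      rw [Submodule.span_le]
      rintro c ⟨-, hc⟩
      exact hm c hc
    exact hle hx
  ext i j
  have := congrFun (hker (Pi.single j 1)) i
  rw [Matrix.mulVec_single_one] at this
  exact this

end Cfsg.Agent.Helper8.AschOm
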