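import Mathlib
import Cfsg.Prelude.Def_GeometricClasses
import Cfsg.Agent.Helper8.AschOmM5A
import Cfsg.Agent.Helper7.FExB

/-!
# ASCH-OM, M5c (helper8): `Ω(Q)`, `n ≥ 8`, does not normalise a field of degree at least two
-/

set_option autoImplicit false

namespace Cfsg.Agent.Helper8.AschOm

open Cfsg Cfsg.Geo Cfsg.Agent.Lead.AschOm Cfsg.Agent.Helper8.QuadForm
open scoped MatrixGroups Matrix

variable {n : ℕ} {F : Type*} [Field F] [Fintype F]

/-- M5c -/
theorem not_le_subalgebraNormalizer_omega_gen (hn : 8 ≤ n) (Q : (Fin n → F) → F)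
    (hQ : IsNondegenerateQuadraticForm Q) (r : ℕ) (hr : 2 ≤ r) (K : Subalgebra F (Matrix (Fin n) (Fin n) F))
    (hK : IsFieldSubalgebra r K) : ¬ omegaGL Q ≤ subalgebraNormalizer K := by
  classical
  intro hle
  obtain ⟨κ, hκK, hκ⟩ := Cfsg.Agent.Helper7.FEx.exists_nonscalar hr K hK
  have hm : ∀ g ∈ omegaGL Q, ∀ u z : Fin n → F, IsLongRoot Q g u z →
      (g : Matrix (Fin n) (Fin n) F) * κ = κ * (g : Matrix (Fin n) (Fin n) F) := by
    intro g hg u z hlr
    have hrank : 2 * ((g : Matrix (Fin n) (Fin n) F) - 1).rank < Fintype.card (Fin n) := by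
      have := hlr.rank_le
      rw [Fintype.card_fin]
      omega
    exact Cfsg.Agent.Helper7.FEx.commute_of_rank_lt hK g (hle hg) hrank κ hκK
  have h3 : 3 ≤ Module.finrank F (Fin n → F) := by rw [Module.finrank_fin_fun]; omega
  obtain ⟨u, hu0, hu⟩ := exists_singular (toQF Q hQ) h3
  obtain ⟨c, hc⟩ := eigen_of_commute hn Q hQ κ hm u hu hu0
  have h4 : (κ - c • (1 : Matrix (Fin n) (Fin n) F)) *ᵥ u = 0 := by
    rw [Matrix.sub_mulVec, hc, Matrix.smul_mulVec, Matrix.one_mulVec, sub_self]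
  have hmemK : κ - c • (1 : Matrix (Fin n) (Fin n) F) ∈ K := by
    refine K.sub_mem hκK ?_
    rw [← Algebra.algebraMap_eq_smul_one]
    exact K.algebraMap_mem c
  exact hu0 (Cfsg.Agent.Helper7.FEx.mulVec_eq_zero hK hmemK (sub_ne_zero.mpr (hκ c)) h4)

end Cfsg.Agent.Helper8.AschOm
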