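import Cfsg.Agent.Helper8.SpEvenB

/-!
# Symplectic groups in characteristic two: containments in orthogonal groups, part C

Over the field with two elements the stabiliser of an orthogonal decomposition into non-degenerate
planes preserves a quadratic form.
-/

set_option autoImplicit false
set_option linter.unusedSectionVars false

namespace Cfsg.Agent.Helper8.SpEven

open Cfsg Cfsg.Geo Matrix

variable {ι : Type} [Fintype ι] [DecidableEq ι] {F : Type*} [Field F]

theorem eq_zero_or_one_of_card_two [Fintype F] (hq : Fintype.card F = 2) (x : F) :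
    x = 0 ∨ x = 1 := by
  classical
  by_contra h
  push Not at h
  have h3 : ({0, 1, x} : Finset F).card = 3 := by
    rw [Finset.card_insert_of_notMem, Finset.card_insert_of_notMem, Finset.card_singleton]
    · simp [h.2.symm]
    · simp [h.1.symm]
  have := Finset.card_le_univ ({0, 1, x} : Finset F)
  omega

theorem two_eq_zero_of_card_two [Fintype F] (hq : Fintype.card F = 2) : (2 : F) = 0 := by
  have h := card_nsmul_eq_zero' (G := F) (x := 1)
  rw [Nat.card_eq_fintype_card, hq] at h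
  simpa using h

section basisQ

variable {t : ℕ} (𝔟 : Module.Basis (Σ _ : Fin t, Fin 2) F (ι → F))

/-- The quadratic form `Σ (a² + a b + b²)` in the coordinates of the basis `𝔟`. -/
noncomputable def blockQ (x : ι → F) : F :=
  ∑ i : Fin t, ((𝔟.repr x ⟨i, 0⟩) ^ 2 + 𝔟.repr x ⟨i, 0⟩ * 𝔟.repr x ⟨i, 1⟩ + (𝔟.repr x ⟨i, 1⟩) ^ 2)

theorem blockQ_smul (c : F) (x : ι → F) : blockQ 𝔟 (c • x) = c ^ 2 * blockQ 𝔟 x := by
  unfold blockQ
  rw [Finset.mul_sum]
  apply Finset.sum_congr rfl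
  intro i _
  rw [map_smul, Finsupp.smul_apply, Finsupp.smul_apply, smul_eq_mul, smul_eq_mul]
  ring

/-- The polar form of `blockQ` in characteristic two. -/
noncomputable def blockB : LinearMap.BilinForm F (ι → F) :=
  ∑ i : Fin t, (LinearMap.BilinForm.linMulLin (𝔟.coord ⟨i, 0⟩) (𝔟.coord ⟨i, 1⟩) +
    LinearMap.BilinForm.linMulLin (𝔟.coord ⟨i, 1⟩) (𝔟.coord ⟨i, 0⟩))

theorem blockB_apply (x y : ι → F) : blockB 𝔟 x y =
    ∑ i : Fin t, (𝔟.repr x ⟨i, 0⟩ * 𝔟.repr y ⟨i, 1⟩ + 𝔟.repr x ⟨i, 1⟩ * 𝔟.repr y ⟨i, 0⟩) := by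
  unfold blockB
  simp [LinearMap.sum_apply, LinearMap.add_apply, LinearMap.BilinForm.linMulLin_apply,
    Module.Basis.coord_apply]

theorem blockQ_polar (h2 : (2 : F) = 0) (x y : ι → F) :
    QuadraticMap.polar (blockQ 𝔟) x y = blockB 𝔟 x y := by
  unfold QuadraticMap.polar
  rw [blockB_apply]
  unfold blockQ
  rw [← Finset.sum_sub_distrib, ← Finset.sum_sub_distrib]
  apply Finset.sum_congr rfl
  intro i _
  rw [map_add, Finsupp.add_apply, Finsupp.add_apply]
  generalize 𝔟.repr x ⟨i, 0⟩ = a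
  generalize 𝔟.repr x ⟨i, 1⟩ = b
  generalize 𝔟.repr y ⟨i, 0⟩ = a'
  generalize 𝔟.repr y ⟨i, 1⟩ = b'
  have e : (a + a') ^ 2 + (a + a') * (b + b') + (b + b') ^ 2 - (a ^ 2 + a * b + b ^ 2) -
      (a' ^ 2 + a' * b' + b' ^ 2) = a * b' + b * a' + 2 * (a * a' + b * b') := by ring
  rw [e, h2, zero_mul, add_zero]

theorem blockB_basis_zero (i : Fin t) (y : ι → F) :
    blockB 𝔟 (𝔟 ⟨i, 0⟩) y = 𝔟.repr y ⟨i, 1⟩ := by
  rw [blockB_apply, Finset.sum_eq_single i]
  · simp
  · intro j _ hji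
    have h1 : (⟨i, 0⟩ : Σ _ : Fin t, Fin 2) ≠ ⟨j, 0⟩ := by
      intro h; exact hji (congrArg Sigma.fst h).symm
    have h2 : (⟨i, 0⟩ : Σ _ : Fin t, Fin 2) ≠ ⟨j, 1⟩ := by
      intro h; exact hji (congrArg Sigma.fst h).symm
    simp [h1]
  · simp

theorem blockB_basis_one (i : Fin t) (y : ι → F) :
    blockB 𝔟 (𝔟 ⟨i, 1⟩) y = 𝔟.repr y ⟨i, 0⟩ := by
  rw [blockB_apply, Finset.sum_eq_single i]
  · simp
  · intro j _ hji
    have h1 : (⟨i, 1⟩ : Σ _ : Fin t, Fin 2) ≠ ⟨j, 0⟩ := by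
      intro h; exact hji (congrArg Sigma.fst h).symm
    have h2 : (⟨i, 1⟩ : Σ _ : Fin t, Fin 2) ≠ ⟨j, 1⟩ := by
      intro h; exact hji (congrArg Sigma.fst h).symm
    simp [h2]
  · simp

end basisQ

/-- A symplectic form as a Mathlib bilinear form. -/
noncomputable def toBilin {f : (ι → F) → (ι → F) → F} (hf : IsBilinearForm f) :
    LinearMap.BilinForm F (ι → F) :=
  LinearMap.mk₂ F f hf.add_left (fun c x v => by rw [hf.smul_left, smul_eq_mul])
    hf.add_right (fun c v x => by rw [hf.smul_right, smul_eq_mul])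

theorem toBilin_apply {f : (ι → F) → (ι → F) → F} (hf : IsBilinearForm f) (x y : ι → F) :
    toBilin hf x y = f x y := rfl

/-- Two quadratic maps with the same polar form which agree on a family of subspaces spanning the
whole space are equal. -/
theorem quad_eq_of_polar_eq {Q Q' : (ι → F) → F}
    (hQ : ∀ (c : F) (v : ι → F), Q (c • v) = c ^ 2 * Q v)
    (hQ' : ∀ (c : F) (v : ι → F), Q' (c • v) = c ^ 2 * Q' v)
    (hpol : ∀ u v, QuadraticMap.polar Q u v = QuadraticMap.polar Q' u v)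
    {t : ℕ} (D : Fin t → Submodule F (ι → F)) (hD : iSup D = ⊤)
    (hag : ∀ i, ∀ w ∈ D i, Q w = Q' w) : ∀ v, Q v = Q' v := by
  have h0 : Q 0 = Q' 0 := by
    have := hQ 0 0
    have h' := hQ' 0 0
    rw [smul_zero] at this h'
    rw [this, h']
    ring
  let S : Submodule F (ι → F) :=
    { carrier := {v | Q v = Q' v}
      add_mem' := by
        intro a b ha hb
        have h := hpol a b
        unfold QuadraticMap.polar at h
        have ha' : Q a = Q' a := ha
        have hb' : Q b = Q' b := hb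
        show Q (a + b) = Q' (a + b)
        rw [ha', hb'] at h
        linear_combination h
      zero_mem' := h0
      smul_mem' := by
        intro c a ha
        have ha' : Q a = Q' a := ha
        show Q (c • a) = Q' (c • a)
        rw [hQ, hQ', ha'] }
  have hle : iSup D ≤ S := iSup_le (fun i w hw => hag i w hw)
  rw [hD] at hle
  intro v
  exact hle (Submodule.mem_top : v ∈ ⊤)

/-- **E3.** Over the field with two elements, the stabiliser of an orthogonal decomposition into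
non-degenerate planes in the isometry group of a symplectic form `f` preserves a non-degenerate
quadratic form polarising to `f`. -/
theorem quad_of_two_decomp [Fintype F] (hq : Fintype.card F = 2) {f : (ι → F) → (ι → F) → F}
    (hf : IsSymplecticForm f) {t : ℕ} (D : Fin t → Submodule F (ι → F))
    (hD : IsNondegenerateMDecomposition f 2 D) :
    ∃ Q : (ι → F) → F, IsNondegenerateQuadraticForm Q ∧
      (∀ u v, QuadraticMap.polar Q u v = f u v) ∧
      ∀ g ∈ decompositionStabilizer D,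
        (∀ u v, f ((g : Matrix ι ι F) *ᵥ u) ((g : Matrix ι ι F) *ᵥ v) = f u v) →
        ∀ v, Q ((g : Matrix ι ι F) *ᵥ v) = Q v := by
  classical
  have h2 : (2 : F) = 0 := two_eq_zero_of_card_two hq
  have h01 := eq_zero_or_one_of_card_two hq
  have hint : DirectSum.IsInternal D :=
    (DirectSum.isInternal_submodule_iff_iSupIndep_and_iSup_eq_top D).2
      ⟨hD.decomp.indep, hD.decomp.iSup_eq_top⟩
  let v : ∀ i, Module.Basis (Fin 2) F (D i) := fun i =>
    Module.finBasisOfFinrankEq F (D i) (hD.decomp.finrank_eq i)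
  set 𝔟 : Module.Basis (Σ _ : Fin t, Fin 2) F (ι → F) := hint.collectedBasis v with h𝔟
  have hmem : ∀ a : Σ _ : Fin t, Fin 2, 𝔟 a ∈ D a.1 := fun a => hint.collectedBasis_mem v a
  have hzero : ∀ {x : ι → F} {k j : Fin t} (ε : Fin 2), x ∈ D k → k ≠ j → 𝔟.repr x ⟨j, ε⟩ = 0 := by
    intro x k j ε hx hkj
    exact hint.collectedBasis_repr_of_mem_ne v hkj hx
  have horth : ∀ (i j : Fin t) (ε δ : Fin 2), i ≠ j → f (𝔟 ⟨i, ε⟩) (𝔟 ⟨j, δ⟩) = 0 :=
    fun i j ε δ hij => hD.orthogonal i j hij _ (hmem ⟨i, ε⟩) _ (hmem ⟨j, δ⟩)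
  -- the value on a hyperbolic pair
  have hkey : ∀ i : Fin t, f (𝔟 ⟨i, 0⟩) (𝔟 ⟨i, 1⟩) = 1 := by
    intro i
    rcases h01 (f (𝔟 ⟨i, 0⟩) (𝔟 ⟨i, 1⟩)) with h0 | h1
    · exfalso
      have hne : 𝔟 ⟨i, 1⟩ ≠ 0 := 𝔟.ne_zero _
      obtain ⟨x, hx⟩ := (hf.nondegenerate _ hne).1
      apply hx
      have hfun : (toBilin hf.bilinear).flip (𝔟 ⟨i, 1⟩) = 0 := by
        apply 𝔟.ext
        rintro ⟨j, ε⟩
        show f (𝔟 ⟨j, ε⟩) (𝔟 ⟨i, 1⟩) = 0
        by_cases hij : j = i
        · subst hij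
          fin_cases ε
          · exact h0
          · exact hf.alternating _
        · exact horth j i ε 1 hij
      have := congrArg (fun φ : (ι → F) →ₗ[F] F => φ x) hfun
      exact this
    · exact h1
  have hBB : blockB 𝔟 = toBilin hf.bilinear := by
    apply LinearMap.ext_basis 𝔟 𝔟
    rintro ⟨i, ε⟩ ⟨j, δ⟩
    rw [toBilin_apply]
    fin_cases ε
    · rw [show (⟨i, (⟨0, by decide⟩ : Fin 2)⟩ : Σ _ : Fin t, Fin 2) = ⟨i, 0⟩ from rfl,
        blockB_basis_zero, Module.Basis.repr_self]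
      by_cases hij : i = j
      · subst hij
        fin_cases δ
        · rw [show (⟨i, (⟨0, by decide⟩ : Fin 2)⟩ : Σ _ : Fin t, Fin 2) = ⟨i, 0⟩ from rfl,
            hf.alternating]
          rw [Finsupp.single_apply, if_neg]
          intro h
          have := (Sigma.mk.inj_iff.mp h).2
          simp at this
        · rw [show (⟨i, (⟨1, by decide⟩ : Fin 2)⟩ : Σ _ : Fin t, Fin 2) = ⟨i, 1⟩ from rfl,
            hkey i, Finsupp.single_eq_same]
      · rw [horth i j _ _ hij, Finsupp.single_apply, if_neg]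
        intro h
        exact hij (Sigma.mk.inj_iff.mp h).1.symm
    · rw [show (⟨i, (⟨1, by decide⟩ : Fin 2)⟩ : Σ _ : Fin t, Fin 2) = ⟨i, 1⟩ from rfl,
        blockB_basis_one, Module.Basis.repr_self]
      by_cases hij : i = j
      · subst hij
        fin_cases δ
        · rw [show (⟨i, (⟨0, by decide⟩ : Fin 2)⟩ : Σ _ : Fin t, Fin 2) = ⟨i, 0⟩ from rfl,
            hf.skew, hkey i, neg_eq_self_of_two h2, Finsupp.single_eq_same]
        · rw [show (⟨i, (⟨1, by decide⟩ : Fin 2)⟩ : Σ _ : Fin t, Fin 2) = ⟨i, 1⟩ from rfl,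
            hf.alternating]
          rw [Finsupp.single_apply, if_neg]
          intro h
          have := (Sigma.mk.inj_iff.mp h).2
          simp at this
      · rw [horth i j _ _ hij, Finsupp.single_apply, if_neg]
        intro h
        exact hij (Sigma.mk.inj_iff.mp h).1.symm
  have hpolar : ∀ x y, QuadraticMap.polar (blockQ 𝔟) x y = f x y := by
    intro x y
    rw [blockQ_polar 𝔟 h2, hBB, toBilin_apply]
  -- the value one on non-zero vectors of the blocks
  have hone : ∀ i, ∀ w ∈ D i, w ≠ 0 → blockQ 𝔟 w = 1 := by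
    intro i w hw hw0
    unfold blockQ
    rw [Finset.sum_eq_single i]
    · have hne : ¬ (𝔟.repr w ⟨i, 0⟩ = 0 ∧ 𝔟.repr w ⟨i, 1⟩ = 0) := by
        rintro ⟨ha, hb⟩
        apply hw0
        apply 𝔟.repr.map_eq_zero_iff.mp
        ext ⟨j, ε⟩
        rw [Finsupp.zero_apply]
        by_cases hij : i = j
        · subst hij
          fin_cases ε
          · exact ha
          · exact hb
        · exact hzero ε hw hij
      rcases h01 (𝔟.repr w ⟨i, 0⟩) with ha | ha <;> rcases h01 (𝔟.repr w ⟨i, 1⟩) with hb | hb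
      · exact absurd ⟨ha, hb⟩ hne
      · rw [ha, hb]; ring
      · rw [ha, hb]; ring
      · rw [ha, hb]
        have : (1 : F) ^ 2 + 1 * 1 + 1 ^ 2 = 1 + 2 := by ring
        rw [this, h2, add_zero]
    · intro j _ hji
      rw [hzero 0 hw (Ne.symm hji), hzero 1 hw (Ne.symm hji)]
      ring
    · intro h
      exact absurd (Finset.mem_univ i) h
  refine ⟨blockQ 𝔟, isNondegenerateQuadraticForm_of_polar hf (blockQ_smul 𝔟) hpolar, hpolar, ?_⟩
  rintro g ⟨σ, hσ⟩ hg
  have hmap : ∀ i, ∀ x ∈ D i, (g : Matrix ι ι F) *ᵥ x ∈ D (σ i) := by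
    intro i x hx
    rw [← hσ i]
    exact ⟨x, hx, Matrix.toLin'_apply _ _⟩
  have hginj : ∀ x, (g : Matrix ι ι F) *ᵥ x = 0 → x = 0 := by
    intro x hx
    have := congrArg (fun w => ((g⁻¹ : GL ι F) : Matrix ι ι F) *ᵥ w) hx
    simpa [Matrix.mulVec_mulVec] using this
  apply quad_eq_of_polar_eq (Q := fun v => blockQ 𝔟 ((g : Matrix ι ι F) *ᵥ v)) (Q' := blockQ 𝔟)
    (fun c v => by
      show blockQ 𝔟 ((g : Matrix ι ι F) *ᵥ (c • v)) = c ^ 2 * blockQ 𝔟 ((g : Matrix ι ι F) *ᵥ v)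
      rw [Matrix.mulVec_smul, blockQ_smul])
    (blockQ_smul 𝔟) ?_ D hD.decomp.iSup_eq_top ?_
  · intro u w
    rw [hpolar]
    show blockQ 𝔟 ((g : Matrix ι ι F) *ᵥ (u + w)) - blockQ 𝔟 ((g : Matrix ι ι F) *ᵥ u) -
      blockQ 𝔟 ((g : Matrix ι ι F) *ᵥ w) = f u w
    rw [Matrix.mulVec_add]
    have := hpolar ((g : Matrix ι ι F) *ᵥ u) ((g : Matrix ι ι F) *ᵥ w)
    unfold QuadraticMap.polar at this
    rw [this, hg]
  · intro i w hw
    show blockQ 𝔟 ((g : Matrix ι ι F) *ᵥ w) = blockQ 𝔟 w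
    by_cases hw0 : w = 0
    · rw [hw0, Matrix.mulVec_zero]
    · rw [hone i w hw hw0, hone (σ i) _ (hmap i w hw) (fun h => hw0 (hginj w h))]

end Cfsg.Agent.Helper8.SpEven
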