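import Cfsg.Agent.Helper8.AschSpDvd
import Cfsg.Agent.Helper9.AschCompNotSL

/-!
# Characteristic 2: an irreducible group of isometries of a symplectic form preserves no tensor
decomposition with a factor of odd dimension

If `f ≅ B ⊗ G` with `f` alternating in characteristic `2`, then `B` and `G` are symmetric and one of
them is alternating; a factor of odd dimension is not alternating, so its "norm" `x ↦ B(x, x)` is a
non-zero additive semilinear map whose kernel gives an invariant subspace.
-/

set_option autoImplicit false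
set_option linter.unusedSectionVars false

namespace Cfsg.Agent.Helper8.SpEven

open Cfsg Cfsg.Geo Matrix
open scoped Kronecker

section gram

variable {κ : Type} [Fintype κ] [DecidableEq κ] {F : Type*} [Field F]

theorem formOfGram_eq_dot (M : Matrix κ κ F) (x y : κ → F) :
    formOfGram id M x y = x ⬝ᵥ (M *ᵥ y) := by
  unfold formOfGram
  simp only [dotProduct, Matrix.mulVec, id, Finset.mul_sum, mul_assoc]

theorem formOfGram_bilinear (M : Matrix κ κ F) : IsBilinearForm (formOfGram id M) := by
  refine ⟨fun x y v => ?_, fun a x v => ?_, fun v x y => ?_, fun a v x => ?_⟩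
  · rw [formOfGram_eq_dot, formOfGram_eq_dot, formOfGram_eq_dot, add_dotProduct]
  · rw [formOfGram_eq_dot, formOfGram_eq_dot, smul_dotProduct, smul_eq_mul]
  · rw [formOfGram_eq_dot, formOfGram_eq_dot, formOfGram_eq_dot, Matrix.mulVec_add, dotProduct_add]
  · rw [formOfGram_eq_dot, formOfGram_eq_dot, Matrix.mulVec_smul, dotProduct_smul, smul_eq_mul]

theorem formOfGram_single (M : Matrix κ κ F) (a b : κ) :
    formOfGram id M (Pi.single a 1) (Pi.single b 1) = M a b := by
  rw [formOfGram_eq_dot, Matrix.mulVec_single_one, single_one_dotProduct]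
  rfl

theorem formOfGram_mulVec (M a : Matrix κ κ F) (x y : κ → F) :
    formOfGram id M (a *ᵥ x) (a *ᵥ y) = formOfGram id (aᵀ * M * a) x y := by
  rw [formOfGram_eq_dot, formOfGram_eq_dot, ← Matrix.mulVec_mulVec, ← Matrix.mulVec_mulVec,
    Matrix.dotProduct_mulVec x, Matrix.vecMul_transpose]

theorem gram_ext {M M' : Matrix κ κ F}
    (h : ∀ x y, formOfGram id M x y = formOfGram id M' x y) : M = M' := by
  ext a b
  rw [← formOfGram_single M, ← formOfGram_single M', h]

theorem formOfGram_symm {B : Matrix κ κ F} (hB : Bᵀ = B) (x y : κ → F) :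
    formOfGram id B x y = formOfGram id B y x := by
  rw [formOfGram_eq_dot, formOfGram_eq_dot, Matrix.dotProduct_mulVec, ← hB, Matrix.vecMul_transpose,
    hB, dotProduct_comm]

/-- the "norm" of a symmetric Gram matrix in characteristic `2`, as an additive map -/
noncomputable def gramN (h2 : (2 : F) = 0) {B : Matrix κ κ F} (hB : Bᵀ = B) : (κ → F) →+ F where
  toFun x := formOfGram id B x x
  map_zero' := by
    have := (formOfGram_bilinear B).smul_left 0 0 0
    rw [zero_smul, zero_mul] at this
    exact this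
  map_add' x y := by
    have hb := formOfGram_bilinear B
    rw [hb.add_left, hb.add_right, hb.add_right, formOfGram_symm hB y x]
    have : formOfGram id B x y + formOfGram id B x y = 0 := by
      rw [← two_mul, h2, zero_mul]
    linear_combination this

theorem gramN_apply (h2 : (2 : F) = 0) {B : Matrix κ κ F} (hB : Bᵀ = B) (x : κ → F) :
    gramN h2 hB x = formOfGram id B x x := rfl

theorem gramN_smul (h2 : (2 : F) = 0) {B : Matrix κ κ F} (hB : Bᵀ = B) (c : F) (x : κ → F) :
    gramN h2 hB (c • x) = c ^ 2 * gramN h2 hB x := by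
  rw [gramN_apply, gramN_apply, (formOfGram_bilinear B).smul_left,
    (formOfGram_bilinear B).smul_right]
  ring

theorem gramN_single (h2 : (2 : F) = 0) {B : Matrix κ κ F} (hB : Bᵀ = B) (i : κ) :
    gramN h2 hB (Pi.single i 1) = B i i := by
  rw [gramN_apply, formOfGram_single]

theorem gramN_eq_sum (h2 : (2 : F) = 0) {B : Matrix κ κ F} (hB : Bᵀ = B) (x : κ → F) :
    gramN h2 hB x = ∑ i, x i ^ 2 * B i i := by
  have hx : x = ∑ i, x i • (Pi.single i 1 : κ → F) := by
    funext j
    rw [Finset.sum_apply]
    simp [Pi.single_apply]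
  conv_lhs => rw [hx]
  rw [map_sum]
  refine Finset.sum_congr rfl fun i _ => ?_
  rw [gramN_smul, gramN_single]

/-- every element of a finite field of characteristic `2` is a square -/
theorem exists_sq [Fintype F] (h2 : (2 : F) = 0) (a : F) : ∃ s : F, s * s = a := by
  have hinj : Function.Injective (fun x : F => x * x) := by
    intro x y hxy
    have hxy' : x * x = y * y := hxy
    have h0 : (x - y) * (x - y) = 0 := by
      have e : (x - y) * (x - y) = x * x + y * y - 2 * (x * y) := by ring
      rw [e, h2, zero_mul, sub_zero, hxy', ← two_mul, h2, zero_mul]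
    exact sub_eq_zero.mp (mul_self_eq_zero.mp h0)
  exact (Finite.injective_iff_surjective.mp hinj) a

/-- a symplectic form over a finite field lives in even dimension -/
theorem even_card_of_symplectic {ι : Type} [Fintype ι] [DecidableEq ι] [Fintype F]
    {f : (ι → F) → (ι → F) → F} (hf : IsSymplecticForm f) : Even (Fintype.card ι) := by
  rcases isEmpty_or_nonempty ι with hι | hι
  · rw [Fintype.card_eq_zero]
    exact ⟨0, rfl⟩
  have hK : IsFieldSubalgebra 1 (⊥ : Subalgebra F (Matrix ι ι F)) := by
    refine ⟨?_, ?_, Subalgebra.finrank_bot⟩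
    · intro x hx y hy
      obtain ⟨a, rfl⟩ := Algebra.mem_bot.mp hx
      exact Algebra.commutes a y
    · intro x hx hx0
      obtain ⟨a, rfl⟩ := Algebra.mem_bot.mp hx
      have ha : a ≠ 0 := by
        rintro rfl
        exact hx0 (map_zero _)
      refine ⟨algebraMap F _ a⁻¹, Algebra.mem_bot.mpr ⟨a⁻¹, rfl⟩, ?_⟩
      rw [← map_mul, mul_inv_cancel₀ ha, map_one]
  have hmv : ∀ (a : F) (v : ι → F), (algebraMap F (Matrix ι ι F) a) *ᵥ v = a • v := by
    intro a v
    rw [Algebra.algebraMap_eq_smul_one, Matrix.smul_mulVec, Matrix.one_mulVec]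
  have h := Cfsg.Agent.Helper8.AschSp.two_mul_dvd_of_selfAdjoint hf hK
    (by
      intro k hk u v
      obtain ⟨a, rfl⟩ := Algebra.mem_bot.mp hk
      rw [hmv, hmv, hf.bilinear.smul_left, hf.bilinear.smul_right])
    (by
      intro k hk v
      obtain ⟨a, rfl⟩ := Algebra.mem_bot.mp hk
      rw [hmv, hf.bilinear.smul_left, hf.alternating, mul_zero])
  rw [mul_one] at h
  exact even_iff_two_dvd.mpr h

/-- an invertible symmetric matrix of odd size in characteristic `2` has a non-zero diagonal
entry -/
theorem exists_diag_ne_zero [Fintype F] (h2 : (2 : F) = 0) {B : Matrix κ κ F} (hB : Bᵀ = B)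
    (hdet : IsUnit B.det) (hodd : Odd (Fintype.card κ)) : ∃ i, B i i ≠ 0 := by
  by_contra hcon
  push Not at hcon
  have hb := formOfGram_bilinear B
  have hnd : ∀ v : κ → F, v ≠ 0 → ∃ x, formOfGram id B x v ≠ 0 := by
    intro v hv
    have hBv : B *ᵥ v ≠ 0 := fun h =>
      hv (Matrix.eq_zero_of_mulVec_eq_zero hdet.ne_zero h)
    obtain ⟨j, hj⟩ : ∃ j, (B *ᵥ v) j ≠ 0 := by
      by_contra hall
      push Not at hall
      exact hBv (funext hall)
    refine ⟨Pi.single j 1, ?_⟩
    rw [formOfGram_eq_dot, single_one_dotProduct]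
    exact hj
  have hsymp : IsSymplecticForm (formOfGram id B) := by
    refine ⟨hb, fun v w => ?_, fun v => ?_, fun v hv => ⟨hnd v hv, ?_⟩⟩
    · rw [neg_eq_self_of_two h2, formOfGram_symm hB]
    · rw [← gramN_apply h2 hB, gramN_eq_sum]
      refine Finset.sum_eq_zero fun i _ => ?_
      rw [hcon i, mul_zero]
    · obtain ⟨x, hx⟩ := hnd v hv
      exact ⟨x, by rwa [formOfGram_symm hB]⟩
  have := even_card_of_symplectic hsymp
  exact (Nat.not_even_iff_odd.mpr hodd) this

/-- in dimension at least `2` the norm of a symmetric matrix has a non-zero isotropic vector -/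
theorem exists_gramN_eq_zero [Fintype F] (h2 : (2 : F) = 0) {B : Matrix κ κ F} (hB : Bᵀ = B)
    (hcard : 2 ≤ Fintype.card κ) : ∃ x : κ → F, x ≠ 0 ∧ gramN h2 hB x = 0 := by
  obtain ⟨i, j, hij⟩ := Fintype.exists_pair_of_one_lt_card (by omega : 1 < Fintype.card κ)
  by_cases hj : B j j = 0
  · refine ⟨Pi.single j 1, ?_, by rw [gramN_single, hj]⟩
    intro h
    have := congrFun h j
    simp at this
  · by_cases hi : B i i = 0
    · refine ⟨Pi.single i 1, ?_, by rw [gramN_single, hi]⟩
      intro h
      have := congrFun h i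
      simp at this
    · obtain ⟨s, hs⟩ := exists_sq h2 (B j j / B i i)
      refine ⟨s • Pi.single i 1 + Pi.single j 1, ?_, ?_⟩
      · intro h
        have := congrFun h j
        simp [hij] at this
      · rw [map_add, gramN_smul, gramN_single, gramN_single, pow_two, hs, div_mul_cancel₀ _ hi,
          ← two_mul, h2, zero_mul]

/-- if `B ⊗ G` is symmetric (`B, G ≠ 0`, characteristic `2`), so are `B` and `G` -/
theorem symm_of_kron_symm {κ' : Type} [Fintype κ'] [DecidableEq κ'] (h2 : (2 : F) = 0)
    {B : Matrix κ κ F} {G : Matrix κ' κ' F} (hB0 : B ≠ 0) (hG0 : G ≠ 0)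
    (h : ∀ i j a b, B i j * G a b = B j i * G b a) : Bᵀ = B ∧ Gᵀ = G := by
  obtain ⟨i₀, j₀, hB1⟩ : ∃ i j, B i j ≠ 0 := by
    by_contra hall
    push Not at hall
    exact hB0 (Matrix.ext hall)
  obtain ⟨a₀, b₀, hG1⟩ : ∃ a b, G a b ≠ 0 := by
    by_contra hall
    push Not at hall
    exact hG0 (Matrix.ext hall)
  -- `B i j = l * B j i` with `l = G b₀ a₀ / G a₀ b₀`
  set l : F := G b₀ a₀ / G a₀ b₀ with hl
  have hBl : ∀ i j, B i j = l * B j i := by
    intro i j
    have := h i j a₀ b₀
    rw [hl]
    field_simp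
    linear_combination this
  have hl2 : l * l = 1 := by
    have e1 := hBl i₀ j₀
    have e2 := hBl j₀ i₀
    rw [e2, ← mul_assoc] at e1
    have : (l * l) * B i₀ j₀ = 1 * B i₀ j₀ := by rw [one_mul]; exact e1.symm
    exact mul_right_cancel₀ hB1 this
  have hl1 : l = 1 := by
    have h0 : (l - 1) * (l - 1) = 0 := by
      have e : (l - 1) * (l - 1) = l * l + 1 - 2 * l := by ring
      rw [e, hl2, h2, zero_mul, sub_zero, ← two_mul, h2, zero_mul]
    exact sub_eq_zero.mp (mul_self_eq_zero.mp h0)
  have hBs : ∀ i j, B i j = B j i := by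
    intro i j
    rw [hBl i j, hl1, one_mul]
  refine ⟨Matrix.ext fun i j => (hBs i j).symm, Matrix.ext fun a b => ?_⟩
  have := h i₀ j₀ b a
  rw [← hBs i₀ j₀] at this
  exact mul_left_cancel₀ hB1 this

end gram

end Cfsg.Agent.Helper8.SpEven
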