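import Cfsg.Agent.S2564

set_option autoImplicit false
open Cfsg

/-!
Quadratic forms over the field of two elements polarizing to the standard hyperbolic form:
character sums, parametrization by vectors, the plus and the minus form.
-/

namespace Cfsg.Agent.Helper8.QuadF2
open Cfsg.Agent.S2564 Matrix

/-- the plus form -/
abbrev Q0 (m : ℕ) : V m → ZMod 2 := Cfsg.quadFormPlus m (ZMod 2)

/-- the space of the minus form -/
abbrev V' (m : ℕ) := (Fin m ⊕ Fin m) ⊕ Fin 2 → ZMod 2

/-- the minus form -/
abbrev Qm (m : ℕ) : V' m → ZMod 2 := Cfsg.quadFormMinus m (ZMod 2) 1 1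

theorem sq_self : ∀ x : ZMod 2, x * x = x := by decide

theorem pol_comm (m : ℕ) (u v : V m) : pol m u v = pol m v u := by
  unfold pol
  rw [add_comm u v]
  ring

theorem hQ0 (m : ℕ) (u v : V m) : Q0 m (u + v) = Q0 m u + Q0 m v + pol m u v := by
  unfold pol
  ring

theorem Q0_zero (m : ℕ) : Q0 m 0 = 0 := by simp [Cfsg.quadFormPlus]

theorem pol_single_inl (m : ℕ) (v : V m) (i : Fin m) :
    pol m v (Pi.single (Sum.inl i) 1) = v (Sum.inr i) := by
  rw [pol_comm, pol_eq, single_dotProduct, one_mul, hyp_mulVec_inl]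

theorem pol_single_inr (m : ℕ) (v : V m) (i : Fin m) :
    pol m v (Pi.single (Sum.inr i) 1) = v (Sum.inl i) := by
  rw [pol_comm, pol_eq, single_dotProduct, one_mul, hyp_mulVec_inr]

theorem pol_zero_left (m : ℕ) (u : V m) : pol m 0 u = 0 := by
  rw [pol_comm, pol_zero_right]

/-- the form `Q0 + pol(·, w)` -/
def qw (m : ℕ) (w : V m) : V m → ZMod 2 := fun v => Q0 m v + pol m v w

theorem hqw (m : ℕ) (w u v : V m) : qw m w (u + v) = qw m w u + qw m w v + pol m u v := by
  unfold qw
  rw [hQ0, pol_add_left]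
  ring

theorem qw_injective (m : ℕ) : Function.Injective (qw m) := by
  intro w w' h
  by_contra hne
  have hne' : w + w' ≠ 0 := by
    intro h0
    apply hne
    have : w = -w' := eq_neg_of_add_eq_zero_left h0
    rw [this]
    funext k
    simp
  obtain ⟨u₀, hu₀⟩ := exists_pol_eq_one m (w + w') hne'
  have h1 := congrFun h u₀
  unfold qw at h1
  rw [pol_add_right] at hu₀
  have h2 : pol m u₀ w = pol m u₀ w' := add_left_cancel h1
  rw [h2, CharTwo.add_self_eq_zero] at hu₀
  exact zero_ne_one hu₀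

/-- every form polarizing to `pol` is `qw w` for some `w` -/
theorem exists_qw (m : ℕ) (q : V m → ZMod 2) (hq : ∀ u v, q (u + v) = q u + q v + pol m u v) :
    ∃ w, q = qw m w := by
  classical
  let lam0 : V m → ZMod 2 := fun v => q v + Q0 m v
  have hadd : ∀ u v, lam0 (u + v) = lam0 u + lam0 v := by
    intro u v
    simp only [lam0]
    rw [hq, hQ0]
    have : pol m u v + pol m u v = 0 := CharTwo.add_self_eq_zero _
    linear_combination this
  let lam : V m →ₗ[ZMod 2] ZMod 2 := (AddMonoidHom.mk' lam0 hadd).toZModLinearMap 2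
  have hlam : ∀ v, lam v = q v + Q0 m v := fun v => rfl
  let w : V m := fun k => Sum.elim (fun i => lam (Pi.single (Sum.inr i) 1))
    (fun i => lam (Pi.single (Sum.inl i) 1)) k
  refine ⟨w, ?_⟩
  funext v
  have h1 : lam v = pol m v w := by
    rw [LinearMap.pi_apply_eq_sum_univ lam v, pol_eq, dotProduct, Fintype.sum_sum_type,
      Fintype.sum_sum_type]
    congr 1
    · apply Finset.sum_congr rfl
      intro i _
      rw [hyp_mulVec_inl, smul_eq_mul]
      congr 2
      funext j
      simp [Pi.single_apply, eq_comm]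
    · apply Finset.sum_congr rfl
      intro i _
      rw [hyp_mulVec_inr, smul_eq_mul]
      congr 2
      funext j
      simp [Pi.single_apply, eq_comm]
  unfold qw
  rw [← h1, hlam]
  have : Q0 m v + Q0 m v = 0 := CharTwo.add_self_eq_zero _
  linear_combination -this

/-- shifting a form by `pol(·, w)` multiplies the character sum by `chi (q w)` -/
theorem S_shift (m : ℕ) (q : V m → ZMod 2) (hq : ∀ u v, q (u + v) = q u + q v + pol m u v)
    (w : V m) : ∑ v : V m, chi (q v + pol m v w) = chi (q w) * S m q := by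
  unfold S
  rw [Finset.mul_sum, ← Equiv.sum_comp (Equiv.addRight w) (fun v => chi (q w) * chi (q v))]
  apply Finset.sum_congr rfl
  intro v _
  simp only [Equiv.coe_addRight]
  rw [← chi_add, hq v w]
  congr 1
  have : q w + (q v + q w + pol m v w) = (q w + q w) + (q v + pol m v w) := by ring
  rw [this, CharTwo.add_self_eq_zero, zero_add]

theorem sum_chi_dot (m : ℕ) (x : Fin m → ZMod 2) :
    ∑ y : Fin m → ZMod 2, chi (∑ i, x i * y i) = if x = 0 then (2 : ℤ) ^ m else 0 := by
  by_cases hx : x = 0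
  · rw [if_pos hx, hx]
    simp [chi_zero]
  · rw [if_neg hx]
    obtain ⟨k, hk⟩ := Function.ne_iff.mp hx
    have hk1 : x k = 1 := zmod2_eq_one_of_ne_zero _ hk
    have h1 : ∑ y : Fin m → ZMod 2, chi (∑ i, x i * y i) =
        ∑ y : Fin m → ZMod 2, chi (∑ i, x i * (y + Pi.single k (1 : ZMod 2) : Fin m → ZMod 2) i) :=
      (Equiv.sum_comp (Equiv.addRight (Pi.single k (1 : ZMod 2)))
        (fun y : Fin m → ZMod 2 => chi (∑ i, x i * y i))).symm
    have h2 : ∑ y : Fin m → ZMod 2, chi (∑ i, x i * (y + Pi.single k (1 : ZMod 2) : Fin m → ZMod 2) i) =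
        - ∑ y : Fin m → ZMod 2, chi (∑ i, x i * y i) := by
      rw [← Finset.sum_neg_distrib]
      apply Finset.sum_congr rfl
      intro y _
      have : ∑ i, x i * (y + Pi.single k (1 : ZMod 2) : Fin m → ZMod 2) i = (∑ i, x i * y i) + 1 := by
        simp only [Pi.add_apply, mul_add, Finset.sum_add_distrib]
        congr 1
        rw [Finset.sum_eq_single k]
        · simp [hk1]
        · intro b _ hb
          simp [hb]
        · intro h
          exact absurd (Finset.mem_univ _) h
      rw [this, chi_add, chi_one]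
      ring
    linarith

/-- the character sum of the plus form -/
theorem S_plus (m : ℕ) : S m (Q0 m) = 2 ^ m := by
  unfold S
  rw [← Equiv.sum_comp (Equiv.sumArrowEquivProdArrow (Fin m) (Fin m) (ZMod 2)).symm
    (fun v => chi (Q0 m v)), Fintype.sum_prod_type]
  have h1 : ∀ x : Fin m → ZMod 2, ∑ y : Fin m → ZMod 2,
      chi (Q0 m ((Equiv.sumArrowEquivProdArrow (Fin m) (Fin m) (ZMod 2)).symm (x, y))) =
      if x = 0 then (2 : ℤ) ^ m else 0 := by
    intro x
    rw [← sum_chi_dot m x]
    apply Finset.sum_congr rfl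
    intro y _
    rfl
  rw [Finset.sum_congr rfl (fun x _ => h1 x)]
  simp

/-- number of zeros of a function from its character sum -/
theorem card_zeros (m : ℕ) (q : V m → ZMod 2) :
    (2 : ℤ) * (Nat.card {w : V m // q w = 0} : ℤ) = (2 : ℤ) ^ (2 * m) + S m q := by
  classical
  rw [Nat.card_eq_fintype_card, Fintype.card_subtype]
  have h1 : S m q = ((Finset.univ.filter (fun w : V m => q w = 0)).card : ℤ) -
      ((Finset.univ.filter (fun w : V m => ¬ q w = 0)).card : ℤ) := by
    unfold S chi
    rw [Finset.sum_ite, Finset.sum_const, Finset.sum_const]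
    simp
    ring
  have h2 := Finset.card_filter_add_card_filter_not (s := (Finset.univ : Finset (V m)))
    (fun w : V m => q w = 0)
  have h3 : (Finset.univ : Finset (V m)).card = 2 ^ (2 * m) := by
    rw [Finset.card_univ, Fintype.card_fun, Fintype.card_sum, Fintype.card_fin, ZMod.card]
    ring_nf
  rw [h3] at h2
  have h2' : ((Finset.univ.filter (fun w : V m => q w = 0)).card : ℤ) +
      ((Finset.univ.filter (fun w : V m => ¬ q w = 0)).card : ℤ) = (2 : ℤ) ^ (2 * m) := by
    exact_mod_cast h2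
  rw [h1]
  linarith

/-- identification of the index types -/
def eI (m : ℕ) : (Fin m ⊕ Fin m) ⊕ Fin 2 ≃ Fin (m + 1) ⊕ Fin (m + 1) where
  toFun := Sum.elim (Sum.elim (fun i => Sum.inl i.castSucc) (fun i => Sum.inr i.castSucc))
    (fun z => if z = 0 then Sum.inl (Fin.last m) else Sum.inr (Fin.last m))
  invFun := Sum.elim
    (fun j => Fin.lastCases (Sum.inr 0) (fun i => Sum.inl (Sum.inl i)) j)
    (fun j => Fin.lastCases (Sum.inr 1) (fun i => Sum.inl (Sum.inr i)) j)
  left_inv := by
    rintro ((i | i) | z)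
    · simp
    · simp
    · fin_cases z <;> simp
  right_inv := by
    rintro (j | j)
    · induction j using Fin.lastCases with
      | last => simp
      | cast i => simp
    · induction j using Fin.lastCases with
      | last => simp
      | cast i => simp

/-- identification of the spaces of the plus and the minus form -/
def hEquiv (m : ℕ) : V (m + 1) ≃ₗ[ZMod 2] V' m := LinearEquiv.funCongrLeft (ZMod 2) (ZMod 2) (eI m)

theorem hEquiv_apply (m : ℕ) (v : V (m + 1)) (k : (Fin m ⊕ Fin m) ⊕ Fin 2) :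
    hEquiv m v k = v (eI m k) := rfl

/-- the special vector -/
def w0 (m : ℕ) : V (m + 1) := Pi.single (Sum.inl (Fin.last m)) 1 + Pi.single (Sum.inr (Fin.last m)) 1

theorem pol_w0 (m : ℕ) (v : V (m + 1)) :
    pol (m + 1) v (w0 m) = v (Sum.inr (Fin.last m)) + v (Sum.inl (Fin.last m)) := by
  unfold w0
  rw [pol_add_right, pol_single_inl, pol_single_inr]

theorem Q0_w0 (m : ℕ) : Q0 (m + 1) (w0 m) = 1 := by
  show Cfsg.quadFormPlus (m + 1) (ZMod 2) (w0 m) = 1
  unfold Cfsg.quadFormPlus
  rw [Finset.sum_eq_single (Fin.last m)]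
  · simp [w0]
  · intro b _ hb
    simp [w0, hb]
  · intro h
    exact absurd (Finset.mem_univ _) h

/-- the minus form is `Q0 + pol(·, w0)` in the coordinates of the plus form -/
theorem Qm_hEquiv (m : ℕ) (v : V (m + 1)) : Qm m (hEquiv m v) = qw (m + 1) (w0 m) v := by
  show Cfsg.quadFormMinus m (ZMod 2) 1 1 (hEquiv m v) = Cfsg.quadFormPlus (m + 1) (ZMod 2) v + pol (m + 1) v (w0 m)
  rw [pol_w0]
  unfold Cfsg.quadFormMinus Cfsg.quadFormPlus
  rw [Fin.sum_univ_castSucc]
  simp only [hEquiv_apply]
  have e1 : ∀ i : Fin m, eI m (Sum.inl (Sum.inl i)) = Sum.inl i.castSucc := fun i => rfl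
  have e2 : ∀ i : Fin m, eI m (Sum.inl (Sum.inr i)) = Sum.inr i.castSucc := fun i => rfl
  have e3 : eI m (Sum.inr 0) = Sum.inl (Fin.last m) := rfl
  have e4 : eI m (Sum.inr 1) = Sum.inr (Fin.last m) := rfl
  simp only [e1, e2, e3, e4]
  have hx := sq_self (v (Sum.inl (Fin.last m)))
  have hy := sq_self (v (Sum.inr (Fin.last m)))
  linear_combination hx + hy

/-- character sum of the minus form -/
theorem S_minus (m : ℕ) : ∑ v : V' m, chi (Qm m v) = -(2 : ℤ) ^ (m + 1) := by
  rw [← Equiv.sum_comp (hEquiv m).toEquiv (fun v => chi (Qm m v))]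
  have h1 : ∀ v : V (m + 1), chi (Qm m ((hEquiv m).toEquiv v)) = chi (Q0 (m + 1) v + pol (m + 1) v (w0 m)) := by
    intro v
    show chi (Qm m (hEquiv m v)) = _
    rw [Qm_hEquiv]
    rfl
  rw [Finset.sum_congr rfl (fun v _ => h1 v), S_shift (m + 1) (Q0 (m + 1)) (hQ0 (m + 1)) (w0 m),
    Q0_w0, chi_one, S_plus]
  ring

end Cfsg.Agent.Helper8.QuadF2
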