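import Cfsg.Agent.Helper8.QuadF2

set_option autoImplicit false
open Cfsg

/-!
Totally singular subspaces of quadratic forms over the field of two elements, via character sums.
-/

namespace Cfsg.Agent.Helper8.QuadF2
open Cfsg.Agent.S2564 Matrix

theorem add_self_V (m : ℕ) (u : V m) : u + u = 0 := by
  funext k
  exact CharTwo.add_self_eq_zero (u k)

section ts
variable (m : ℕ) (U : Submodule (ZMod 2) (V m))

open Classical in
/-- the elements of `U`, as a finset -/
noncomputable def UF : Finset (V m) := Finset.univ.filter (fun u => u ∈ U)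

theorem mem_UF (u : V m) : u ∈ UF m U ↔ u ∈ U := by
  unfold UF
  simp

/-- the character sum of `pol(v, ·)` over `U` -/
noncomputable def T (v : V m) : ℤ := ∑ u ∈ UF m U, chi (pol m v u)

theorem T_of_forall (v : V m) (h : ∀ u ∈ U, pol m v u = 0) : T m U v = ((UF m U).card : ℤ) := by
  unfold T
  rw [Finset.sum_congr rfl (fun u hu => by rw [h u ((mem_UF m U u).mp hu), chi_zero])]
  simp

theorem T_of_exists (v : V m) (h : ∃ u ∈ U, pol m v u ≠ 0) : T m U v = 0 := by
  obtain ⟨u₀, hu₀U, hu₀⟩ := h
  have hu₀1 : pol m v u₀ = 1 := zmod2_eq_one_of_ne_zero _ hu₀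
  unfold T
  have h1 : ∑ u ∈ UF m U, chi (pol m v u) = ∑ u ∈ UF m U, chi (pol m v (u + u₀)) := by
    apply Finset.sum_bij' (fun u _ => u + u₀) (fun u _ => u + u₀)
    · intro u hu
      rw [mem_UF] at hu ⊢
      exact U.add_mem hu hu₀U
    · intro u hu
      rw [mem_UF] at hu ⊢
      exact U.add_mem hu hu₀U
    · intro u _
      rw [add_assoc, add_self_V, add_zero]
    · intro u _
      rw [add_assoc, add_self_V, add_zero]
    · intro u _
      rw [add_assoc, add_self_V, add_zero]
  have h2 : ∑ u ∈ UF m U, chi (pol m v (u + u₀)) = - ∑ u ∈ UF m U, chi (pol m v u) := by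
    rw [← Finset.sum_neg_distrib]
    apply Finset.sum_congr rfl
    intro u _
    rw [pol_add_right, hu₀1, chi_add, chi_one]
    ring
  linarith

theorem T_nonneg (v : V m) : 0 ≤ T m U v := by
  by_cases h : ∃ u ∈ U, pol m v u ≠ 0
  · rw [T_of_exists m U v h]
  · push Not at h
    rw [T_of_forall m U v h]
    positivity

theorem sum_T : ∑ v : V m, T m U v = (2 : ℤ) ^ (2 * m) := by
  unfold T
  rw [Finset.sum_comm]
  simp_rw [sum_chi_pol]
  rw [Finset.sum_ite_eq' (UF m U) (0 : V m)]
  rw [if_pos ((mem_UF m U 0).mpr U.zero_mem)]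
  rw [Fintype.card_fun, Fintype.card_sum, Fintype.card_fin, ZMod.card]
  push_cast
  ring_nf

variable (q : V m → ZMod 2) (hq : ∀ u v, q (u + v) = q u + q v + pol m u v)
  (hU : ∀ u ∈ U, q u = 0)

include hq hU in
theorem T_of_mem (v : V m) (hv : v ∈ U) : T m U v = ((UF m U).card : ℤ) := by
  apply T_of_forall
  intro u hu
  have h1 := hq v u
  rw [hU v hv, hU u hu, hU (v + u) (U.add_mem hv hu)] at h1
  rw [zero_add, zero_add] at h1
  exact h1.symm

include hq hU in
theorem S_mul_card : S m q * ((UF m U).card : ℤ) = ∑ v : V m, chi (q v) * T m U v := by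
  have h1 : S m q * ((UF m U).card : ℤ) = ∑ u ∈ UF m U, S m q := by
    rw [Finset.sum_const]
    simp [mul_comm]
  rw [h1]
  have h2 : ∀ u ∈ UF m U, S m q = ∑ v : V m, chi (q v) * chi (pol m v u) := by
    intro u hu
    rw [mem_UF] at hu
    unfold S
    rw [← Equiv.sum_comp (Equiv.addRight u) (fun v => chi (q v))]
    apply Finset.sum_congr rfl
    intro v _
    simp only [Equiv.coe_addRight]
    rw [hq v u, hU u hu, add_zero, chi_add]
  rw [Finset.sum_congr rfl h2, Finset.sum_comm]
  apply Finset.sum_congr rfl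
  intro v _
  unfold T
  rw [Finset.mul_sum]

include hq hU in
/-- a totally singular subspace has at most `2^m` elements -/
theorem card_sq_le : ((UF m U).card : ℤ) * ((UF m U).card : ℤ) ≤ (2 : ℤ) ^ (2 * m) := by
  classical
  rw [← sum_T m U]
  calc ((UF m U).card : ℤ) * ((UF m U).card : ℤ)
      = ∑ v ∈ UF m U, ((UF m U).card : ℤ) := by rw [Finset.sum_const]; simp
    _ = ∑ v ∈ UF m U, T m U v := by
        apply Finset.sum_congr rfl
        intro v hv
        rw [T_of_mem m U q hq hU v ((mem_UF m U v).mp hv)]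
    _ ≤ ∑ v : V m, T m U v := by
        apply Finset.sum_le_sum_of_subset_of_nonneg (Finset.subset_univ _)
        intro v _ _
        exact T_nonneg m U v

include hq hU in
/-- the key inequality relating the character sum and a totally singular subspace -/
theorem S_mul_card_ge :
    2 * (((UF m U).card : ℤ) * ((UF m U).card : ℤ)) - (2 : ℤ) ^ (2 * m) ≤ S m q * ((UF m U).card : ℤ) := by
  classical
  rw [S_mul_card m U q hq hU]
  have h1 : ∀ v : V m, (if v ∈ UF m U then 2 * ((UF m U).card : ℤ) else 0) - T m U v ≤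
      chi (q v) * T m U v := by
    intro v
    by_cases hv : v ∈ UF m U
    · rw [if_pos hv]
      have hvU := (mem_UF m U v).mp hv
      rw [T_of_mem m U q hq hU v hvU, hU v hvU, chi_zero]
      linarith
    · rw [if_neg hv]
      have h0 := T_nonneg m U v
      have hchi : chi (q v) = 1 ∨ chi (q v) = -1 := by
        unfold chi
        split_ifs
        · exact Or.inl rfl
        · exact Or.inr rfl
      rcases hchi with h | h <;> rw [h] <;> linarith
  calc 2 * (((UF m U).card : ℤ) * ((UF m U).card : ℤ)) - (2 : ℤ) ^ (2 * m)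
      = ∑ v : V m, ((if v ∈ UF m U then 2 * ((UF m U).card : ℤ) else 0) - T m U v) := by
        rw [Finset.sum_sub_distrib, sum_T, Finset.sum_ite_mem, Finset.univ_inter, Finset.sum_const]
        simp
        ring
    _ ≤ ∑ v : V m, chi (q v) * T m U v := Finset.sum_le_sum (fun v _ => h1 v)

/-- cardinality of a subspace in terms of its dimension -/
theorem card_UF : (UF m U).card = 2 ^ Module.finrank (ZMod 2) U := by
  classical
  have h1 : (UF m U).card = Fintype.card U := by
    unfold UF
    rw [Fintype.card_subtype]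
  rw [h1, Module.card_eq_pow_finrank (K := ZMod 2) (V := U), ZMod.card]

end ts

end Cfsg.Agent.Helper8.QuadF2
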