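import Mathlib
import Cfsg.Prelude.Def_GeometricClasses
import Cfsg.Agent.Lead.AschOBase
import Cfsg.Agent.Helper8.AschSpDvd
import Cfsg.Agent.Helper9.AschCompForms
import Cfsg.Agent.Helper3.AschOmE1A

/-!
# ASCH-OM part 3 (helper8), piece N2, part A: fields of degree two inside the isometry group of a quadratic form

* `four_dvd_of_selfAdjoint_two_even`: characteristic two, a self-adjoint field of degree two forces `4 ∣ n`;
* `similarity_of_adjointClosed_two`: an adjoint-closed, not self-adjoint field of degree two normalised by an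
  irreducible group of isometries acts by similarities of `Q`.
-/

set_option autoImplicit false

namespace Cfsg.Agent.Helper8.AschOm

open Cfsg Cfsg.Geo Cfsg.Agent.Lead.AschO
open scoped MatrixGroups Matrix

variable {n : ℕ} {F : Type*} [Field F]

/-- **N2a**: in characteristic two a field of degree two that is self-adjoint for the polar form exists only when
`4 ∣ n`. -/
theorem four_dvd_of_selfAdjoint_two_even [Fintype F] (heven : ¬ Odd (Fintype.card F)) (Q : (Fin n → F) → F)
    (hQ : IsNondegenerateQuadraticForm Q) (K : Subalgebra F (Matrix (Fin n) (Fin n) F))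
    (hK : IsFieldSubalgebra 2 K) (hsa : IsSelfAdjointFor (QuadraticMap.polar Q) K) : 4 ∣ n := by
  have hf := Cfsg.Agent.Helper9.AschCompK.polar_symplectic_of_even heven Q hQ
  have h := Cfsg.Agent.Helper8.AschSp.dvdOfSelfAdj _ hf 2 K hK hsa
    (Cfsg.Agent.Helper8.SpEven.selfAdjoint_alt hf hK hsa)
  simpa using h

/-- the polar form of a quadratic form is symmetric -/
theorem polar_symm' (Q : (Fin n → F) → F) (u v : Fin n → F) :
    QuadraticMap.polar Q u v = QuadraticMap.polar Q v u := QuadraticMap.polar_comm Q u v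

theorem polar_self' (Q : (Fin n → F) → F) (hQ : IsNondegenerateQuadraticForm Q) (v : Fin n → F) :
    QuadraticMap.polar Q v v = 2 * Q v := by
  unfold QuadraticMap.polar
  have h := hQ.smul 2 v
  rw [two_smul] at h
  rw [h]
  ring

theorem quad_add' (Q : (Fin n → F) → F) (u v : Fin n → F) :
    Q (u + v) = Q u + Q v + QuadraticMap.polar Q u v := by
  unfold QuadraticMap.polar
  ring

/-- a matrix annihilated by the polar form is zero -/
theorem eq_zero_of_polar_eq_zero (Q : (Fin n → F) → F) (hQ : IsNondegenerateQuadraticForm Q)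
    (M : Matrix (Fin n) (Fin n) F) (h : ∀ u v, QuadraticMap.polar Q u (M *ᵥ v) = 0) : M = 0 := by
  have hv : ∀ v, M *ᵥ v = 0 := by
    intro v
    by_contra hne
    obtain ⟨x, hx⟩ := (hQ.nondegenerate _ hne).1
    exact hx (h x v)
  apply Matrix.toLin'.injective
  apply LinearMap.ext
  intro v
  rw [Matrix.toLin'_apply, hv, map_zero, LinearMap.zero_apply]

/-- the data of an adjoint-closed, not self-adjoint field of degree two: a generator `θ` with adjoint `θ'`, trace `t`
and norm `ν` -/
theorem exists_generator_two (Q : (Fin n → F) → F) (hQ : IsNondegenerateQuadraticForm Q)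
    (K : Subalgebra F (Matrix (Fin n) (Fin n) F)) (hK : IsFieldSubalgebra 2 K)
    (hac : IsAdjointClosedFor (QuadraticMap.polar Q) K) (hnsa : ¬ IsSelfAdjointFor (QuadraticMap.polar Q) K) :
    ∃ (θ θ' : Matrix (Fin n) (Fin n) F) (t ν : F), θ ∈ K ∧ θ' ∈ K ∧
      (∀ u v, QuadraticMap.polar Q (θ *ᵥ u) v = QuadraticMap.polar Q u (θ' *ᵥ v)) ∧
      θ + θ' = t • (1 : Matrix (Fin n) (Fin n) F) ∧ θ * θ' = ν • (1 : Matrix (Fin n) (Fin n) F) ∧
      (∀ k ∈ K, ∃ a b : F, k = a • (1 : Matrix (Fin n) (Fin n) F) + b • θ) := by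
  classical
  unfold IsSelfAdjointFor at hnsa
  push Not at hnsa
  obtain ⟨θ, hθK, u₀, v₀, hθ⟩ := hnsa
  obtain ⟨θ', hθ'K, hadj⟩ := hac θ hθK
  have hB := hQ.polar_bilinear
  -- adjoint of `θ'` is `θ`
  have hadj' : ∀ u v, QuadraticMap.polar Q (θ' *ᵥ u) v = QuadraticMap.polar Q u (θ *ᵥ v) := by
    intro u v
    rw [polar_symm', ← hadj, polar_symm']
  -- `1, θ` span `K`
  have hspan : ∀ k ∈ K, ∃ a b : F, k = a • (1 : Matrix (Fin n) (Fin n) F) + b • θ := by
    have hli : LinearIndependent F ![(⟨1, K.one_mem⟩ : K), ⟨θ, hθK⟩] := by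
      rw [LinearIndependent.pair_iff]
      intro a b hab
      have hab' : a • (1 : Matrix (Fin n) (Fin n) F) + b • θ = 0 := by
        have := congrArg Subtype.val hab
        simpa using this
      by_cases hb : b = 0
      · subst hb
        rw [zero_smul, add_zero] at hab'
        refine ⟨?_, rfl⟩
        by_contra ha
        have h1 : (1 : Matrix (Fin n) (Fin n) F) = 0 := by
          have := congrArg (fun M => a⁻¹ • M) hab'
          simpa [smul_smul, inv_mul_cancel₀ ha] using this
        apply hθ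
        have hθ0 : θ = 0 := by rw [← Matrix.mul_one θ, h1, Matrix.mul_zero]
        rw [hθ0, Matrix.zero_mulVec, Matrix.zero_mulVec]
        have e1 := hB.smul_left 0 0 v₀
        have e2 := hB.smul_right 0 u₀ 0
        rw [zero_smul, zero_mul] at e1 e2
        rw [e1, e2]
      · exfalso
        apply hθ
        have hθe : θ = (-(b⁻¹ * a)) • (1 : Matrix (Fin n) (Fin n) F) := by
          have h1 : b • θ = -(a • (1 : Matrix (Fin n) (Fin n) F)) := eq_neg_of_add_eq_zero_right hab'
          have := congrArg (fun M => b⁻¹ • M) h1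
          simp only [smul_smul, inv_mul_cancel₀ hb, one_smul, smul_neg] at this
          rw [this, neg_smul]
        rw [hθe, Matrix.smul_mulVec, Matrix.smul_mulVec, Matrix.one_mulVec, Matrix.one_mulVec,
          hB.smul_left, hB.smul_right]
    have hcard : Fintype.card (Fin 2) = Module.finrank F K := by rw [hK.finrank_eq]; rfl
    have hsp := hli.span_eq_top_of_card_eq_finrank' hcard
    intro k hk
    have hmem : (⟨k, hk⟩ : K) ∈ Submodule.span F (Set.range ![(⟨1, K.one_mem⟩ : K), ⟨θ, hθK⟩]) := by
      rw [hsp]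
      trivial
    rw [Matrix.range_cons, Matrix.range_cons, Matrix.range_empty, Set.union_empty] at hmem
    obtain ⟨a, b, hab⟩ := Submodule.mem_span_pair.1 hmem
    refine ⟨a, b, ?_⟩
    have := congrArg Subtype.val hab
    simpa using this.symm
  -- self-adjoint elements of `K` are scalar
  have hscal : ∀ s ∈ K, (∀ u v, QuadraticMap.polar Q (s *ᵥ u) v = QuadraticMap.polar Q u (s *ᵥ v)) →
      ∃ c : F, s = c • (1 : Matrix (Fin n) (Fin n) F) := by
    intro s hs hsa
    obtain ⟨a, b, rfl⟩ := hspan s hs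
    by_cases hb : b = 0
    · exact ⟨a, by rw [hb, zero_smul, add_zero]⟩
    · exfalso
      apply hθ
      have h1 := hsa u₀ v₀
      rw [Matrix.add_mulVec, Matrix.add_mulVec, Matrix.smul_mulVec, Matrix.smul_mulVec, Matrix.smul_mulVec,
        Matrix.smul_mulVec, Matrix.one_mulVec, Matrix.one_mulVec, hB.add_left, hB.add_right, hB.smul_left,
        hB.smul_left, hB.smul_right, hB.smul_right] at h1
      have h2 : b * QuadraticMap.polar Q (θ *ᵥ u₀) v₀ = b * QuadraticMap.polar Q u₀ (θ *ᵥ v₀) := by
        linear_combination h1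
      exact mul_left_cancel₀ hb h2
  obtain ⟨t, ht⟩ := hscal (θ + θ') (K.add_mem hθK hθ'K) (by
    intro u v
    rw [Matrix.add_mulVec, Matrix.add_mulVec, hB.add_left, hB.add_right, hadj, hadj']
    ring)
  obtain ⟨ν, hν⟩ := hscal (θ * θ') (K.mul_mem hθK hθ'K) (by
    intro u v
    rw [← Matrix.mulVec_mulVec, ← Matrix.mulVec_mulVec, hadj, hadj'])
  exact ⟨θ, θ', t, ν, hθK, hθ'K, hadj, ht, hν, hspan⟩

end Cfsg.Agent.Helper8.AschOm
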