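import Mathlib
import Cfsg.Agent.Helper8.OmegaEven

set_option autoImplicit false

/-!
Characteristic two: the commutator subgroup of the orthogonal group is the set of products of an
even number of reflections (helper8).
-/

namespace Cfsg.Agent.Helper8.EvenRefl

open Module Cfsg.Agent.Helper8.QuadForm Cfsg.Agent.Helper8.OrthOrder
  Cfsg.Agent.Helper8.Reflections Cfsg.Agent.Helper8.ReflMatrix Cfsg.Agent.Helper8.OmegaOdd
  Cfsg.Agent.Helper8.ReflGen Cfsg.Agent.Helper8.Dickson Cfsg.Agent.Helper8.OmegaEven

variable {F : Type*} [Field F] {ι : Type} [Fintype ι] [DecidableEq ι]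
  (Q : QuadraticForm F (ι → F))

/-- every isometry is a product of a list of reflections (all characteristics). -/
theorem exists_list_reflElt_all [Fintype F] (hQ : (QuadraticMap.polarBilin Q).Nondegenerate)
    (hexc : Fintype.card F ≠ 2 ∨ Fintype.card ι ≠ 4)
    (g : ↥(Cfsg.isometryGroup F ⇑Q)) :
    ∃ l : List (ι → F), (∀ z ∈ l, Q z ≠ 0) ∧ g = (l.map (reflElt Q)).prod := by
  have hg : g ∈ Subgroup.closure {g : ↥(Cfsg.isometryGroup F ⇑Q) | ∃ z, Q z ≠ 0 ∧ g = reflElt Q z} := by
    rw [closure_reflElt_all Q hQ hexc]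
    exact Subgroup.mem_top g
  rw [← Subgroup.mem_toSubmonoid, Subgroup.closure_toSubmonoid] at hg
  obtain ⟨l', hl', hprod⟩ := Submonoid.exists_list_of_mem_closure hg
  have hl'' : ∀ x ∈ l', ∃ z, Q z ≠ 0 ∧ x = reflElt Q z := by
    intro x hx
    rcases hl' x hx with h | h
    · exact h
    · obtain ⟨z, hz, hxz⟩ := h
      refine ⟨z, hz, ?_⟩
      rw [← inv_inv x, hxz, reflElt_inv]
  clear hl' hg
  induction l' generalizing g with
  | nil =>
    refine ⟨[], by simp, ?_⟩
    rw [← hprod]
    simp
  | cons a t ih =>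
    obtain ⟨z, hz, haz⟩ := hl'' a (by simp)
    obtain ⟨l, hl, hlprod⟩ := ih t.prod rfl (fun x hx => hl'' x (by simp [hx]))
    refine ⟨z :: l, ?_, ?_⟩
    · intro w hw
      rcases List.mem_cons.mp hw with rfl | hw
      · exact hz
      · exact hl w hw
    · rw [← hprod, List.prod_cons, List.map_cons, List.prod_cons, haz, hlprod]

theorem dicksonMat_prod_reflElt (h2 : (2 : F) = 0)
    (hQ : (QuadraticMap.polarBilin Q).Nondegenerate) (l : List (ι → F))
    (hl : ∀ z ∈ l, Q z ≠ 0) :
    dicksonMat Q h2 hQ (l.map (reflElt Q)).prod = (-1) ^ l.length := by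
  induction l with
  | nil => simp
  | cons z t ih =>
    rw [List.map_cons, List.prod_cons, map_mul, dicksonMat_reflElt Q h2 hQ (hl z (by simp)),
      ih (fun w hw => hl w (by simp [hw])), List.length_cons, pow_succ, mul_comm]

/-- the set of products of two reflections. -/
def pairs : Set ↥(Cfsg.isometryGroup F ⇑Q) :=
  {g | ∃ u v : ι → F, Q u ≠ 0 ∧ Q v ≠ 0 ∧ g = reflElt Q u * reflElt Q v}

theorem prod_mem_closure_pairs :
    ∀ (n : ℕ) (l : List (ι → F)), l.length = 2 * n → (∀ z ∈ l, Q z ≠ 0) →
      (l.map (reflElt Q)).prod ∈ Subgroup.closure (pairs Q) := by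
  intro n
  induction n with
  | zero =>
    intro l hlen _
    have : l = [] := List.length_eq_zero_iff.mp (by omega)
    subst this
    simp
  | succ n ih =>
    intro l hlen hl
    match l, hlen, hl with
    | [], hlen, _ => simp at hlen
    | [x], hlen, _ => simp at hlen; omega
    | x :: y :: t, hlen, hl =>
      rw [List.map_cons, List.map_cons, List.prod_cons, List.prod_cons, ← mul_assoc]
      apply Subgroup.mul_mem
      · apply Subgroup.subset_closure
        exact ⟨x, y, hl x (by simp), hl y (by simp), rfl⟩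
      · apply ih t
        · simp only [List.length_cons] at hlen
          omega
        · intro z hz
          exact hl z (by simp [hz])

/-- **Ω is the group of products of an even number of reflections** (characteristic two). -/
theorem commutator_eq_closure_pairs [Fintype F] (h2 : (2 : F) = 0)
    (hQ : (QuadraticMap.polarBilin Q).Nondegenerate)
    (hn : 2 ≤ Fintype.card ι) (hex : Fintype.card F ≠ 2 ∨ Fintype.card ι ≠ 4) :
    commutator ↥(Cfsg.isometryGroup F ⇑Q) = Subgroup.closure (pairs Q) := by
  have hmem := (commutator_eq Q h2 hQ hn hex).2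
  apply le_antisymm
  · intro g hg
    have hD := (hmem g).mp hg
    obtain ⟨l, hl, rfl⟩ := exists_list_reflElt_all Q hQ hex g
    rw [dicksonMat_prod_reflElt Q h2 hQ l hl] at hD
    have heven : Even l.length := by
      by_contra hodd
      rw [Nat.not_even_iff_odd] at hodd
      rw [hodd.neg_one_pow] at hD
      exact absurd hD (by decide)
    obtain ⟨n, hn⟩ := heven
    exact prod_mem_closure_pairs Q n l (by omega) hl
  · rw [Subgroup.closure_le]
    rintro _ ⟨u, v, hu, hv, rfl⟩
    rw [SetLike.mem_coe, hmem, map_mul, dicksonMat_reflElt Q h2 hQ hu,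
      dicksonMat_reflElt Q h2 hQ hv]
    rfl

end Cfsg.Agent.Helper8.EvenRefl
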