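import Mathlib

set_option autoImplicit false

/-!
Arithmetic for the maximality of the normalisers of the tori of `PSL₂(q)`.
-/

namespace Cfsg.Agent.Helper8.Dk

theorem gcd_two_cases (q : ℕ) (hq : 1 ≤ q) :
    (q % 2 = 0 ∧ Nat.gcd 2 (q - 1) = 1) ∨ (q % 2 = 1 ∧ Nat.gcd 2 (q - 1) = 2) := by
  rcases Nat.even_or_odd q with h | h
  · left
    obtain ⟨j, hj⟩ := h
    refine ⟨by omega, ?_⟩
    have : q - 1 = 2 * (j - 1) + 1 := by omega
    rw [this]
    simp
  · right
    obtain ⟨j, hj⟩ := h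
    refine ⟨by omega, ?_⟩
    have : q - 1 = 2 * j := by omega
    rw [this]
    exact Nat.gcd_eq_left (dvd_mul_right 2 j)

theorem sq_sub_one_eq'' (q : ℕ) (hq : 1 ≤ q) : q ^ 2 - 1 = (q - 1) * (q + 1) := by
  obtain ⟨j, rfl⟩ : ∃ j, q = j + 1 := ⟨q - 1, by omega⟩
  rw [Nat.add_sub_cancel]
  apply Nat.sub_eq_of_eq_add; ring

/-- the generic case, when `a = q` -/
theorem arith_gen_top {q d G a k : ℕ} (hq : 2 ≤ q)
    (hd : (q % 2 = 0 ∧ d = 1) ∨ (q % 2 = 1 ∧ d = 2))
    (hG : d * G = q * (q ^ 2 - 1)) (ha : a = q) (hk : k = a - 1 ∨ 2 * k = a - 1)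
    (hdvd : (a + 1) * (a * k) ∣ G) : (a + 1) * (a * k) = G := by
  subst ha
  rw [sq_sub_one_eq'' a (by omega)] at hG
  have hGpos : 0 < G := by
    rcases Nat.eq_zero_or_pos G with h | h
    · exfalso
      rw [h, mul_zero] at hG
      have : 0 < a * ((a - 1) * (a + 1)) := by
        apply Nat.mul_pos (by omega) (Nat.mul_pos (by omega) (by omega))
      omega
    · exact h
  have hle := Nat.le_of_dvd hGpos hdvd
  rcases hk with hk | hk
  · -- `(a+1) a (a-1) = d G`
    have h1 : (a + 1) * (a * k) = d * G := by rw [hG, hk]; ring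
    rcases hd with ⟨-, rfl⟩ | ⟨-, rfl⟩
    · rw [h1, one_mul]
    · exfalso; omega
  · rcases hd with ⟨hpar, rfl⟩ | ⟨-, rfl⟩
    · exfalso; omega
    · have h1 : 2 * ((a + 1) * (a * k)) = 2 * G := by
        rw [hG, ← hk]; ring
      omega

theorem arith_plus {q d m G : ℕ} (hq4 : 4 ≤ q) (hq7 : q ≠ 7) (hq9 : q ≠ 9)
    (hd : d = Nat.gcd 2 (q - 1)) (hm : d * m = q + 1) (hG : d * G = q * (q ^ 2 - 1)) :
    3 ≤ m ∧ 2 * m ≠ G ∧ (24 ∣ G → 2 * m ∣ 24 → 2 * m = 24) ∧
    (60 ∣ G → (m = 3 ∨ m = 5) → G = 60) ∧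
    (∀ a k : ℕ, 2 ≤ a → a ∣ q → (k = a - 1 ∨ 2 * k = a - 1) →
      (a + 1) * (a * k) ∣ G → (a + 1) * (a * k) ≠ G → m ≤ a + 1 →
      2 * m ∣ (a + 1) * (a * k) → 2 * m = (a + 1) * (a * k)) := by
  have hd' : (q % 2 = 0 ∧ d = 1) ∨ (q % 2 = 1 ∧ d = 2) := by
    rw [hd]; exact gcd_two_cases q (by omega)
  have hG' : d * G = q * (q - 1) * (d * m) := by
    rw [hG, sq_sub_one_eq'' q (by omega), hm]; ring
  have hdpos : 0 < d := by rcases hd' with ⟨-, rfl⟩ | ⟨-, rfl⟩ <;> norm_num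
  have hGm : G = q * (q - 1) * m := by
    apply Nat.eq_of_mul_eq_mul_left hdpos
    rw [hG']; ring
  have hm3 : 3 ≤ m := by
    rcases hd' with ⟨-, rfl⟩ | ⟨-, rfl⟩ <;> omega
  have hqq : 12 ≤ q * (q - 1) := by
    have : 3 ≤ q - 1 := by omega
    calc 12 = 4 * 3 := by norm_num
      _ ≤ q * (q - 1) := Nat.mul_le_mul hq4 this
  refine ⟨hm3, ?_, ?_, ?_, ?_⟩
  · rw [hGm]
    intro h
    have : 12 * m ≤ q * (q - 1) * m := Nat.mul_le_mul_right _ hqq
    omega
  · intro h24 hdvd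
    have hmle : 2 * m ≤ 24 := Nat.le_of_dvd (by norm_num) hdvd
    have hq23 : q ≤ 23 := by
      rcases hd' with ⟨-, rfl⟩ | ⟨-, rfl⟩ <;> omega
    rw [hGm] at h24
    rcases hd' with ⟨hpar, rfl⟩ | ⟨hpar, rfl⟩
    · have hmq : m = q + 1 := by omega
      subst hmq
      interval_cases q <;> omega
    · have hmv : m = (q + 1) / 2 := by omega
      subst hmv
      interval_cases q <;> omega
  · intro h60 h35
    rw [hGm] at h60 ⊢
    rcases hd' with ⟨hpar, rfl⟩ | ⟨hpar, rfl⟩
    · rcases h35 with rfl | rfl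
      · omega
      · have : q = 4 := by omega
        subst this
        norm_num
    · rcases h35 with rfl | rfl
      · have : q = 5 := by omega
        subst this
        norm_num
      · omega
  · intro a k ha hadvd hk hdvdG hneG hle hdvd
    exfalso
    obtain ⟨j, hj⟩ := hadvd
    have hjpos : 1 ≤ j := by
      rcases Nat.eq_zero_or_pos j with h | h
      · rw [h, mul_zero] at hj; omega
      · exact h
    by_cases hj1 : j = 1
    · rw [hj1, mul_one] at hj
      exact hneG (arith_gen_top (by omega) hd' hG hj.symm hk hdvdG)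
    · have hj2 : 2 ≤ j := by omega
      rcases hd' with ⟨hpar, rfl⟩ | ⟨hpar, rfl⟩
      · have : 2 * a ≤ q := by rw [hj]; nlinarith
        omega
      · have hj3 : 3 ≤ j := by
          by_contra hcon
          have : j = 2 := by omega
          rw [this] at hj
          omega
        have : 3 * a ≤ q := by rw [hj]; nlinarith
        omega

theorem arith_minus {q d m G : ℕ} (hq4 : 4 ≤ q) (hq5 : q ≠ 5) (hq7 : q ≠ 7) (hq9 : q ≠ 9)
    (hq11 : q ≠ 11)
    (hd : d = Nat.gcd 2 (q - 1)) (hm : d * m = q - 1) (hG : d * G = q * (q ^ 2 - 1)) :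
    3 ≤ m ∧ 2 * m ≠ G ∧ (24 ∣ G → 2 * m ∣ 24 → 2 * m = 24) ∧
    (60 ∣ G → (m = 3 ∨ m = 5) → G = 60) ∧
    (∀ a k : ℕ, 2 ≤ a → a ∣ q → (k = a - 1 ∨ 2 * k = a - 1) →
      (a + 1) * (a * k) ∣ G → (a + 1) * (a * k) ≠ G → m ≤ a + 1 →
      2 * m ∣ (a + 1) * (a * k) → 2 * m = (a + 1) * (a * k)) := by
  have hd' : (q % 2 = 0 ∧ d = 1) ∨ (q % 2 = 1 ∧ d = 2) := by
    rw [hd]; exact gcd_two_cases q (by omega)
  have hG' : d * G = q * (q + 1) * (d * m) := by
    rw [hG, sq_sub_one_eq'' q (by omega), hm]; ring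
  have hdpos : 0 < d := by rcases hd' with ⟨-, rfl⟩ | ⟨-, rfl⟩ <;> norm_num
  have hGm : G = q * (q + 1) * m := by
    apply Nat.eq_of_mul_eq_mul_left hdpos
    rw [hG']; ring
  have hm3 : 3 ≤ m := by
    rcases hd' with ⟨-, rfl⟩ | ⟨-, rfl⟩ <;> omega
  have hqq : 20 ≤ q * (q + 1) := by
    calc 20 = 4 * 5 := by norm_num
      _ ≤ q * (q + 1) := Nat.mul_le_mul hq4 (by omega)
  refine ⟨hm3, ?_, ?_, ?_, ?_⟩
  · rw [hGm]
    intro h
    have : 20 * m ≤ q * (q + 1) * m := Nat.mul_le_mul_right _ hqq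
    omega
  · intro h24 hdvd
    have hmle : 2 * m ≤ 24 := Nat.le_of_dvd (by norm_num) hdvd
    have hq25 : q ≤ 25 := by
      rcases hd' with ⟨-, rfl⟩ | ⟨-, rfl⟩ <;> omega
    rw [hGm] at h24
    rcases hd' with ⟨hpar, rfl⟩ | ⟨hpar, rfl⟩
    · have hmq : m = q - 1 := by omega
      subst hmq
      interval_cases q <;> omega
    · have hmv : m = (q - 1) / 2 := by omega
      subst hmv
      interval_cases q <;> omega
  · intro h60 h35
    rw [hGm] at h60 ⊢
    rcases hd' with ⟨hpar, rfl⟩ | ⟨hpar, rfl⟩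
    · rcases h35 with rfl | rfl
      · have : q = 4 := by omega
        subst this
        norm_num
      · have : q = 6 := by omega
        subst this
        omega
    · rcases h35 with rfl | rfl
      · omega
      · omega
  · intro a k ha hadvd hk hdvdG hneG hle hdvd
    obtain ⟨j, hj⟩ := hadvd
    have hjpos : 1 ≤ j := by
      rcases Nat.eq_zero_or_pos j with h | h
      · rw [h, mul_zero] at hj; omega
      · exact h
    by_cases hj1 : j = 1
    · exfalso
      rw [hj1, mul_one] at hj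
      exact hneG (arith_gen_top (by omega) hd' hG hj.symm hk hdvdG)
    · have hj2 : 2 ≤ j := by omega
      rcases hd' with ⟨hpar, rfl⟩ | ⟨hpar, rfl⟩
      · have h2a : 2 * a ≤ q := by rw [hj]; nlinarith
        have ha2 : a = 2 := by omega
        have hq4' : q = 4 := by omega
        subst ha2
        have hm3' : m = 3 := by omega
        have hk1 : k = 1 := by omega
        rw [hm3', hk1]
      · exfalso
        have hj3 : 3 ≤ j := by
          by_contra hcon
          have : j = 2 := by omega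
          rw [this] at hj
          omega
        have h3a : 3 * a ≤ q := by rw [hj]; nlinarith
        have ha3 : a ≤ 3 := by omega
        have : a = 3 := by
          by_contra hcon
          have : a = 2 := by omega
          rw [this] at hj
          omega
        omega

end Cfsg.Agent.Helper8.Dk
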