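import Mathlib
import Cfsg.Agent.Helper8.DkPartE

set_option autoImplicit false

/-!
Inequalities from the class equation of a partition: a toral member with a normaliser of twice its
order, in a group of "generic" shape, has order at most `a + 1`.
-/

namespace Cfsg.Agent.Helper8.Dk

open Subgroup MulAction

namespace Part

variable {H : Type*} [Group H] {p : ℕ} (Pt : Part H p) [Finite H]

theorem index_normalizer_cj (h : H) (A : Subgroup H) :
    (normalizer ((cj h A : Subgroup H) : Set H)).index = (normalizer (A : Set H)).index := by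
  rw [normalizer_cj]
  exact Subgroup.index_map_of_bijective (MulAut.conj h).bijective _

theorem index_normalizer_rep_cls (A : Pt.mem) :
    (normalizer ((Pt.rep (Pt.cls A) : Subgroup H) : Set H)).index =
      (normalizer ((A.1 : Subgroup H) : Set H)).index := by
  obtain ⟨h, hh⟩ := Pt.exists_cj_rep A
  rw [← hh, index_normalizer_cj]

theorem card_rep_cls' (A : Pt.mem) : Nat.card (Pt.rep (Pt.cls A)) = Nat.card A.1 := by
  obtain ⟨h, hh⟩ := Pt.exists_cj_rep A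
  rw [← hh, card_cj]

/-- two non-conjugate members -/
theorem class_ineq_two (A B : Pt.mem) (hAB : Pt.cls A ≠ Pt.cls B) :
    (normalizer ((A.1 : Subgroup H) : Set H)).index * (Nat.card A.1 - 1) +
      (normalizer ((B.1 : Subgroup H) : Set H)).index * (Nat.card B.1 - 1) ≤ Nat.card H - 1 := by
  classical
  haveI : Fintype Pt.Cls := Fintype.ofFinite _
  rw [← Pt.class_eq]
  have hsub : ({Pt.cls A, Pt.cls B} : Finset Pt.Cls) ⊆ Finset.univ := Finset.subset_univ _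
  refine le_trans ?_ (Finset.sum_le_sum_of_subset hsub)
  rw [Finset.sum_pair hAB, Pt.index_normalizer_rep_cls, Pt.index_normalizer_rep_cls,
    Pt.card_rep_cls', Pt.card_rep_cls']

/-- three pairwise non-conjugate members -/
theorem class_ineq_three (A B C : Pt.mem) (hAB : Pt.cls A ≠ Pt.cls B) (hAC : Pt.cls A ≠ Pt.cls C)
    (hBC : Pt.cls B ≠ Pt.cls C) :
    (normalizer ((A.1 : Subgroup H) : Set H)).index * (Nat.card A.1 - 1) +
      (normalizer ((B.1 : Subgroup H) : Set H)).index * (Nat.card B.1 - 1) +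
      (normalizer ((C.1 : Subgroup H) : Set H)).index * (Nat.card C.1 - 1) ≤ Nat.card H - 1 := by
  classical
  haveI : Fintype Pt.Cls := Fintype.ofFinite _
  rw [← Pt.class_eq]
  have hsub : ({Pt.cls A, Pt.cls B, Pt.cls C} : Finset Pt.Cls) ⊆ Finset.univ :=
    Finset.subset_univ _
  refine le_trans ?_ (Finset.sum_le_sum_of_subset hsub)
  rw [Finset.sum_insert (by simp [hAB, hAC]), Finset.sum_pair hBC, Pt.index_normalizer_rep_cls,
    Pt.index_normalizer_rep_cls, Pt.index_normalizer_rep_cls, Pt.card_rep_cls', Pt.card_rep_cls',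
    Pt.card_rep_cls', add_assoc]

end Part

/-- arithmetic: three classes -/
theorem arith_three {T a k m cA cB nB : ℕ} (ha : 2 ≤ a) (hk2 : 2 ≤ k) (hk : k ≤ a - 1)
    (hm : 1 ≤ m) (hT : T = a * k * (a + 1)) (hA : m * 2 * cA = T) (hB : k * nB * cB = T)
    (hnB : nB ≤ 2)
    (hsum : (a + 1) * (a - 1) + cA * (m - 1) + cB * (k - 1) ≤ T - 1) : m ≤ a + 1 := by
  obtain ⟨a', rfl⟩ : ∃ a', a = a' + 2 := ⟨a - 2, by omega⟩
  obtain ⟨k', rfl⟩ : ∃ k', k = k' + 2 := ⟨k - 2, by omega⟩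
  obtain ⟨m', rfl⟩ : ∃ m', m = m' + 1 := ⟨m - 1, by omega⟩
  have hTpos : 0 < T := by rw [hT]; positivity
  have e1 : a' + 2 - 1 = a' + 1 := by omega
  have e2 : m' + 1 - 1 = m' := by omega
  have e3 : k' + 2 - 1 = k' + 1 := by omega
  rw [e1, e2, e3] at hsum
  rw [e1] at hk
  have hsum' : (a' + 2 + 1) * (a' + 1) + cA * m' + cB * (k' + 1) + 1 ≤ T := by omega
  -- `2 k cB ≥ T`
  have hB2 : T ≤ 2 * (k' + 2) * cB := by
    rw [← hB]
    calc (k' + 2) * nB * cB = nB * ((k' + 2) * cB) := by ring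
      _ ≤ 2 * ((k' + 2) * cB) := Nat.mul_le_mul_right _ hnB
      _ = 2 * (k' + 2) * cB := by ring
  by_contra hcon
  have hm4 : a' + 3 ≤ m' := by omega
  -- multiply the inequality by `2 m k`
  have h1 : 2 * (m' + 1) * (k' + 2) * ((a' + 2 + 1) * (a' + 1) + cA * m' + cB * (k' + 1) + 1) ≤
      2 * (m' + 1) * (k' + 2) * T := Nat.mul_le_mul_left _ hsum'
  have h2 : 2 * (m' + 1) * (k' + 2) * (cA * m') = (k' + 2) * m' * T := by
    rw [← hA]; ring
  have h3 : (m' + 1) * (k' + 1) * T ≤ 2 * (m' + 1) * (k' + 2) * (cB * (k' + 1)) := by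
    calc (m' + 1) * (k' + 1) * T ≤ (m' + 1) * (k' + 1) * (2 * (k' + 2) * cB) :=
          Nat.mul_le_mul_left _ hB2
      _ = 2 * (m' + 1) * (k' + 2) * (cB * (k' + 1)) := by ring
  -- `2 m k a² ≤ (k + m) T`
  have h4 : 2 * (m' + 1) * (k' + 2) * ((a' + 2 + 1) * (a' + 1) + 1) + (k' + 2) * m' * T +
      (m' + 1) * (k' + 1) * T ≤ 2 * (m' + 1) * (k' + 2) * T := by
    calc 2 * (m' + 1) * (k' + 2) * ((a' + 2 + 1) * (a' + 1) + 1) + (k' + 2) * m' * T +
        (m' + 1) * (k' + 1) * T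
        ≤ 2 * (m' + 1) * (k' + 2) * ((a' + 2 + 1) * (a' + 1) + 1) +
          2 * (m' + 1) * (k' + 2) * (cA * m') + 2 * (m' + 1) * (k' + 2) * (cB * (k' + 1)) := by
          rw [h2]; omega
      _ = 2 * (m' + 1) * (k' + 2) * ((a' + 2 + 1) * (a' + 1) + cA * m' + cB * (k' + 1) + 1) := by
          ring
      _ ≤ _ := h1
  have h5 : 2 * (m' + 1) * (k' + 2) * ((a' + 2) * (a' + 2)) ≤ ((k' + 2) + (m' + 1)) * T := by
    have e : (a' + 2 + 1) * (a' + 1) + 1 = (a' + 2) * (a' + 2) := by ring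
    rw [e] at h4
    have e2 : 2 * (m' + 1) * (k' + 2) * T =
        (k' + 2) * m' * T + (m' + 1) * (k' + 1) * T + ((k' + 2) + (m' + 1)) * T := by ring
    rw [e2] at h4
    omega
  rw [hT] at h5
  -- divide by `a k`
  have h6 : 2 * (m' + 1) * (a' + 2) ≤ ((k' + 2) + (m' + 1)) * (a' + 2 + 1) := by
    have hpos : 0 < (a' + 2) * (k' + 2) := by positivity
    apply Nat.le_of_mul_le_mul_left _ hpos
    calc (a' + 2) * (k' + 2) * (2 * (m' + 1) * (a' + 2))
        = 2 * (m' + 1) * (k' + 2) * ((a' + 2) * (a' + 2)) := by ring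
      _ ≤ ((k' + 2) + (m' + 1)) * ((a' + 2) * (k' + 2) * (a' + 2 + 1)) := h5
      _ = (a' + 2) * (k' + 2) * (((k' + 2) + (m' + 1)) * (a' + 2 + 1)) := by ring
  nlinarith

/-- arithmetic: two classes, `k = 1` -/
theorem arith_two {T a m cA : ℕ} (ha : 2 ≤ a) (hm : 1 ≤ m) (hT : T = a * (a + 1))
    (hA : m * 2 * cA = T) (hsum : (a + 1) * (a - 1) + cA * (m - 1) ≤ T - 1) : m ≤ a + 1 := by
  obtain ⟨a', rfl⟩ : ∃ a', a = a' + 2 := ⟨a - 2, by omega⟩
  obtain ⟨m', rfl⟩ : ∃ m', m = m' + 1 := ⟨m - 1, by omega⟩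
  have hTpos : 0 < T := by rw [hT]; positivity
  have e1 : a' + 2 - 1 = a' + 1 := by omega
  have e2 : m' + 1 - 1 = m' := by omega
  rw [e1, e2] at hsum
  have hsum' : (a' + 2 + 1) * (a' + 1) + cA * m' + 1 ≤ T := by omega
  by_contra hcon
  have hm4 : a' + 3 ≤ m' := by omega
  rw [hT] at hsum' hA
  have h1 : cA * m' ≤ a' + 2 := by nlinarith
  have h2 : 2 * (m' + 1) * (cA * m') ≤ 2 * (m' + 1) * (a' + 2) := Nat.mul_le_mul_left _ h1
  have h3 : 2 * (m' + 1) * (cA * m') = m' * ((a' + 2) * (a' + 2 + 1)) := by rw [← hA]; ring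
  rw [h3] at h2
  nlinarith

namespace Part

variable {H : Type*} [Group H] {p : ℕ} (Pt : Part H p) [Finite H] [hp : Fact p.Prime]

/-- in a group of generic shape, a toral member of index two in its normaliser has order at most
`a + 1` -/
theorem tor_card_le {Q : Subgroup H} (hQ : Q ∈ Pt.unip) {a k : ℕ} (ha : Nat.card Q = a)
    (ha2 : 2 ≤ a) (hidx : (normalizer (Q : Set H)).index = a + 1)
    (hrel : Q.relIndex (normalizer (Q : Set H)) = k) (hk : k ≤ a - 1)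
    {A : Subgroup H} (hA : A ∈ Pt.mem) (hAu : A ∉ Pt.unip)
    (hrelA : A.relIndex (normalizer (A : Set H)) = 2) : Nat.card A ≤ a + 1 := by
  have hT : Nat.card H = a * k * (a + 1) := by
    rw [← anc Q, ha, hrel, hidx]
  have hTA := anc A
  rw [hrelA] at hTA
  have hm1 : 1 ≤ Nat.card A := Nat.card_pos
  have hk1 : 1 ≤ k := hrel ▸ one_le_relIndex Q
  have hQA : Pt.cls ⟨Q, Pt.unip_sub hQ⟩ ≠ Pt.cls ⟨A, hA⟩ := by
    intro h
    exact hAu (Pt.unip_of_cls_eq (A := ⟨A, hA⟩) (B := ⟨Q, Pt.unip_sub hQ⟩) h.symm hQ)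
  by_cases hk2 : 2 ≤ k
  · obtain ⟨B, hB, hBu, hBc⟩ := Pt.unip_tor Q hQ (by rw [hrel]; exact hk2)
    rw [hrel] at hBc
    by_cases hAB : Pt.cls ⟨A, hA⟩ = Pt.cls ⟨B, hB⟩
    · obtain ⟨h, hh⟩ := (Pt.cls_eq_iff ⟨A, hA⟩ ⟨B, hB⟩).mp hAB
      have : Nat.card A = k := by
        rw [← hBc]
        show Nat.card ((⟨A, hA⟩ : Pt.mem).1) = Nat.card ((⟨B, hB⟩ : Pt.mem).1)
        rw [← hh, card_cj]
      omega
    · have hQB : Pt.cls ⟨Q, Pt.unip_sub hQ⟩ ≠ Pt.cls ⟨B, hB⟩ := by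
        intro h
        exact hBu (Pt.unip_of_cls_eq (A := ⟨B, hB⟩) (B := ⟨Q, Pt.unip_sub hQ⟩) h.symm hQ)
      have hsum := Pt.class_ineq_three ⟨Q, Pt.unip_sub hQ⟩ ⟨A, hA⟩ ⟨B, hB⟩ hQA hQB hAB
      simp only [] at hsum
      rw [hidx, ha, hBc] at hsum
      have hTB := anc B
      rw [hBc] at hTB
      have hnB : B.relIndex (normalizer (B : Set H)) ≤ 2 := Pt.tor_norm B hB hBu
      exact arith_three ha2 hk2 hk hm1 hT hTA hTB hnB hsum
  · have hk1' : k = 1 := by omega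
    rw [hk1', mul_one] at hT
    have hsum := Pt.class_ineq_two ⟨Q, Pt.unip_sub hQ⟩ ⟨A, hA⟩ hQA
    simp only [] at hsum
    rw [hidx, ha] at hsum
    exact arith_two ha2 hm1 hT hTA hsum

end Part

end Cfsg.Agent.Helper8.Dk
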