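import Mathlib
import Cfsg.Agent.Helper8.DkMaxA
import Cfsg.Agent.Helper8.DkGPart

set_option autoImplicit false

/-!
The bound for a toral member inside a subgroup of generic shape, for a partitioned group.
-/

namespace Cfsg.Agent.Helper8.Dk

open Subgroup

namespace GPart

variable {G : Type*} [Group G] {p : ℕ} (P : GPart G p) (H : Subgroup G)

theorem tor_card_le [hp : Fact p.Prime] [Finite G] {M' : Subgroup G} (hM' : M' ∈ P.unip)
    {a k : ℕ} (ha2 : 2 ≤ a) (hQ : Nat.card (M' ⊓ H : Subgroup G) = a)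
    (hN : Nat.card (normalizer (M' : Set G) ⊓ H : Subgroup G) = a * k)
    (hH : Nat.card H = (a + 1) * (a * k)) (hk : k ≤ a - 1)
    {M : Subgroup G} (hM : M ∈ P.mem) (hMu : M ∉ P.unip) (hM1 : M ≠ ⊥)
    (hNH : normalizer (M : Set G) ≤ H)
    (hcard : Nat.card (normalizer (M : Set G)) = 2 * Nat.card M) : Nat.card M ≤ a + 1 := by
  have hQne : M'.subgroupOf H ≠ ⊥ := by
    rw [← Subgroup.one_lt_card_iff_ne_bot, card_subgroupOf', hQ]
    omega
  have hQu : M'.subgroupOf H ∈ (P.restrict H).unip := ⟨hQne, M', hM', rfl⟩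
  have hQc : Nat.card (M'.subgroupOf H) = a := by rw [card_subgroupOf', hQ]
  have hNQ := P.normalizer_subgroupOf H (P.unip_sub hM') hQne
  have hakpos : 0 < a * k := by
    rw [← hN]; exact Nat.card_pos
  have hidx : (normalizer ((M'.subgroupOf H : Subgroup H) : Set H)).index = a + 1 := by
    have h1 := Subgroup.card_mul_index (normalizer ((M'.subgroupOf H : Subgroup H) : Set H))
    rw [hNQ, card_subgroupOf', hN, hH] at h1
    rw [hNQ]
    have h2 : a * k * ((normalizer (M' : Set G)).subgroupOf H).index = a * k * (a + 1) := by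
      rw [h1]; ring
    exact Nat.eq_of_mul_eq_mul_left hakpos h2
  have hrel : (M'.subgroupOf H).relIndex (normalizer ((M'.subgroupOf H : Subgroup H) : Set H)) =
      k := by
    have h1 := card_mul_relIndex (Subgroup.le_normalizer (H := M'.subgroupOf H))
    rw [hQc, hNQ, card_subgroupOf', hN] at h1
    rw [hNQ]
    exact Nat.eq_of_mul_eq_mul_left (by omega) h1
  -- the toral member
  have hMH : M ≤ H := le_trans Subgroup.le_normalizer hNH
  have hAc : Nat.card (M.subgroupOf H) = Nat.card M := by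
    rw [card_subgroupOf', inf_eq_left.mpr hMH]
  have hAne : M.subgroupOf H ≠ ⊥ := by
    rw [← Subgroup.one_lt_card_iff_ne_bot, hAc, Subgroup.one_lt_card_iff_ne_bot]
    exact hM1
  have hAm : M.subgroupOf H ∈ (P.restrict H).mem := ⟨hAne, M, hM, rfl⟩
  have hAu : M.subgroupOf H ∉ (P.restrict H).unip := by
    rintro ⟨-, M'', hM'', hMM⟩
    apply hMu
    rw [P.eq_of_subgroupOf_eq H hM (P.unip_sub hM'') hAne hMM]
    exact hM''
  have hNA := P.normalizer_subgroupOf H hM hAne
  have hrelA : (M.subgroupOf H).relIndex (normalizer ((M.subgroupOf H : Subgroup H) : Set H)) =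
      2 := by
    have h1 := card_mul_relIndex (Subgroup.le_normalizer (H := M.subgroupOf H))
    rw [hAc, hNA, card_subgroupOf', inf_eq_left.mpr hNH, hcard, mul_comm] at h1
    rw [hNA]
    have hpos : 0 < Nat.card M := Nat.card_pos
    exact Nat.eq_of_mul_eq_mul_right hpos h1
  have := (P.restrict H).tor_card_le hQu hQc ha2 hidx hrel hk hAm hAu hrelA
  rwa [hAc] at this

end GPart

end Cfsg.Agent.Helper8.Dk
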