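import Mathlib
import Cfsg.Agent.Helper8.DkMaxB
import Cfsg.Agent.Helper8.DkSolv
import Cfsg.Agent.S3448

set_option autoImplicit false

/-!
The normaliser of a torus of `PSL₂(F)` is a maximal subgroup, under arithmetic conditions.
-/

namespace Cfsg.Agent.Helper8.Dk

open Matrix Cfsg.Agent.Helper7.SL2 Cfsg.Agent.Helper8.SL2C Subgroup
open scoped Matrix

theorem A4_pow : ∀ b : alternatingGroup (Fin 4), b ^ 2 = 1 ∨ b ^ 3 = 1 := by
  decide +kernel

set_option maxRecDepth 100000 in
theorem A4_no_invert : ∀ a b : alternatingGroup (Fin 4), b ^ 3 = 1 → b ≠ 1 →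
    a * b * a⁻¹ ≠ b⁻¹ := by
  decide +kernel

variable {F : Type*} [Field F]

/-- an element of the normaliser of a torus, outside the torus, inverts the torus -/
theorem GT_inverts {M : Subgroup (ProjectiveSpecialLinearGroup (Fin 2) F)} (hM : M ∈ GT F)
    {w g : ProjectiveSpecialLinearGroup (Fin 2) F}
    (hw : w ∈ normalizer (M : Set (ProjectiveSpecialLinearGroup (Fin 2) F))) (hwM : w ∉ M)
    (hg : g ∈ M) : w * g * w⁻¹ = g⁻¹ := by
  have hgN : g ∈ normalizer (M : Set (ProjectiveSpecialLinearGroup (Fin 2) F)) :=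
    Subgroup.le_normalizer hg
  have hwg : w * g ∉ M := by
    intro h
    apply hwM
    have := M.mul_mem h (M.inv_mem hg)
    rwa [mul_inv_cancel_right] at this
  have h1 := (GT_tor_norm M hM (w * g) (Subgroup.mul_mem _ hw hgN) (w * g)
    (Subgroup.mul_mem _ hw hgN) hwg hwg).2
  have h2 := (GT_tor_norm M hM w hw w hw hwM hwM).2
  have hwinv : w⁻¹ = w := inv_eq_of_mul_eq_one_left h2
  rw [hwinv]
  have h3 : w * g * w * g = 1 := by rw [← h1]; group
  exact eq_inv_of_mul_eq_one_left h3

variable [Fintype F]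

/-- a member whose normaliser contains the normaliser of a torus of order at least three is that
torus -/
theorem overgroup_local {M : Subgroup (ProjectiveSpecialLinearGroup (Fin 2) F)} (hM : M ∈ GT F)
    (h3 : 3 ≤ Nat.card M)
    (hN : Nat.card (normalizer (M : Set (ProjectiveSpecialLinearGroup (Fin 2) F))) =
      2 * Nat.card M)
    {M' : Subgroup (ProjectiveSpecialLinearGroup (Fin 2) F)} (hM' : M' ∈ GM F)
    (h : normalizer (M : Set (ProjectiveSpecialLinearGroup (Fin 2) F)) ≤
      normalizer (M' : Set (ProjectiveSpecialLinearGroup (Fin 2) F))) : M' = M := by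
  haveI := isCyclic_of_mem_GT hM
  obtain ⟨g, hg⟩ := IsCyclic.exists_generator (α := M)
  have hord : orderOf (g : ProjectiveSpecialLinearGroup (Fin 2) F) = Nat.card M := by
    rw [Subgroup.orderOf_coe]
    exact orderOf_eq_card_of_forall_mem_zpowers hg
  have hgg : (g : ProjectiveSpecialLinearGroup (Fin 2) F) *
      (g : ProjectiveSpecialLinearGroup (Fin 2) F) ≠ 1 := by
    intro h1
    have : orderOf (g : ProjectiveSpecialLinearGroup (Fin 2) F) ∣ 2 := by
      apply orderOf_dvd_of_pow_eq_one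
      rw [pow_two, h1]
    have := Nat.le_of_dvd (by norm_num) this
    omega
  have hgN : (g : ProjectiveSpecialLinearGroup (Fin 2) F) ∈
      normalizer (M : Set (ProjectiveSpecialLinearGroup (Fin 2) F)) := Subgroup.le_normalizer g.2
  rcases mem_GM_iff.mp hM' with hU | hT
  · exfalso
    -- an element of the normaliser outside `M`
    have hex : ∃ w ∈ normalizer (M : Set (ProjectiveSpecialLinearGroup (Fin 2) F)), w ∉ M := by
      by_contra hcon
      push Not at hcon
      have hle : normalizer (M : Set (ProjectiveSpecialLinearGroup (Fin 2) F)) ≤ M := hcon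
      have := Subgroup.card_le_of_le hle
      have hpos : 0 < Nat.card M := Nat.card_pos
      omega
    obtain ⟨w, hw, hwM⟩ := hex
    have hc := GU_commutator_mem hU (h hw) (h hgN)
    rw [GT_inverts hM hw hwM g.2] at hc
    have hc2 : (g : ProjectiveSpecialLinearGroup (Fin 2) F) *
        (g : ProjectiveSpecialLinearGroup (Fin 2) F) ∈ M' := by
      have := M'.inv_mem hc
      rwa [_root_.mul_inv_rev, inv_inv] at this
    have heq := GM_ti M (GT_sub_GM hM) M' hM' _ hgg (M.mul_mem g.2 g.2) hc2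
    have hg1 : (g : ProjectiveSpecialLinearGroup (Fin 2) F) ≠ 1 := by
      intro h1
      apply hgg
      rw [h1, mul_one]
    exact not_mem_GU_of_mem_GT hM g.2 hg1 (heq ▸ hU)
  · by_cases hgM' : (g : ProjectiveSpecialLinearGroup (Fin 2) F) ∈ M'
    · have hg1 : (g : ProjectiveSpecialLinearGroup (Fin 2) F) ≠ 1 := by
        intro h1
        apply hgg
        rw [h1, mul_one]
      exact (GM_ti M (GT_sub_GM hM) M' hM' _ hg1 g.2 hgM').symm
    · exfalso
      exact hgg (GT_tor_norm M' hT _ (h hgN) _ (h hgN) hgM' hgM').2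

/-- the normaliser of a torus is maximal, under arithmetic conditions -/
theorem normalizer_GT_isCoatom (p : ℕ) [Fact p.Prime] [CharP F p]
    {M : Subgroup (ProjectiveSpecialLinearGroup (Fin 2) F)} (hM : M ∈ GT F)
    (hN : Nat.card (normalizer (M : Set (ProjectiveSpecialLinearGroup (Fin 2) F))) =
      2 * Nat.card M)
    (h3 : 3 ≤ Nat.card M)
    (hne : 2 * Nat.card M ≠ Nat.card (ProjectiveSpecialLinearGroup (Fin 2) F))
    (hS4 : 24 ∣ Nat.card (ProjectiveSpecialLinearGroup (Fin 2) F) → 2 * Nat.card M ∣ 24 →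
      2 * Nat.card M = 24)
    (hA5 : 60 ∣ Nat.card (ProjectiveSpecialLinearGroup (Fin 2) F) →
      (Nat.card M = 3 ∨ Nat.card M = 5) →
      Nat.card (ProjectiveSpecialLinearGroup (Fin 2) F) = 60)
    (hgen : ∀ a k : ℕ, 2 ≤ a → a ∣ Fintype.card F → (k = a - 1 ∨ 2 * k = a - 1) →
      (a + 1) * (a * k) ∣ Nat.card (ProjectiveSpecialLinearGroup (Fin 2) F) →
      (a + 1) * (a * k) ≠ Nat.card (ProjectiveSpecialLinearGroup (Fin 2) F) →
      Nat.card M ≤ a + 1 → 2 * Nat.card M ∣ (a + 1) * (a * k) →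
      2 * Nat.card M = (a + 1) * (a * k)) :
    IsCoatom (normalizer (M : Set (ProjectiveSpecialLinearGroup (Fin 2) F))) := by
  refine ⟨?_, fun X hX => ?_⟩
  · intro htop
    apply hne
    rw [← hN, htop, Subgroup.card_top]
  by_contra hXtop
  have hNX : normalizer (M : Set (ProjectiveSpecialLinearGroup (Fin 2) F)) ≤ X := hX.le
  have hXne : X ≠ normalizer (M : Set (ProjectiveSpecialLinearGroup (Fin 2) F)) := hX.ne'
  have hcardne : ∀ n : ℕ, Nat.card X = n → 2 * Nat.card M ≠ n := by
    intro n hn h2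
    apply hXne
    symm
    apply Subgroup.eq_of_le_of_card_ge hNX
    rw [hN, h2, hn]
  have hdvdX : 2 * Nat.card M ∣ Nat.card X := hN ▸ Subgroup.card_dvd_of_le hNX
  have hXG : Nat.card X ∣ Nat.card (ProjectiveSpecialLinearGroup (Fin 2) F) :=
    Subgroup.card_subgroup_dvd_card X
  have hXGne : Nat.card X ≠ Nat.card (ProjectiveSpecialLinearGroup (Fin 2) F) :=
    fun h => hXtop (Subgroup.eq_top_of_card_eq X h)
  -- a generator and an inverting element
  haveI := isCyclic_of_mem_GT hM
  obtain ⟨g, hg⟩ := IsCyclic.exists_generator (α := M)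
  have hord : orderOf (g : ProjectiveSpecialLinearGroup (Fin 2) F) = Nat.card M := by
    rw [Subgroup.orderOf_coe]
    exact orderOf_eq_card_of_forall_mem_zpowers hg
  have hgN : (g : ProjectiveSpecialLinearGroup (Fin 2) F) ∈
      normalizer (M : Set (ProjectiveSpecialLinearGroup (Fin 2) F)) := Subgroup.le_normalizer g.2
  have hex : ∃ w ∈ normalizer (M : Set (ProjectiveSpecialLinearGroup (Fin 2) F)), w ∉ M := by
    by_contra hcon
    push Not at hcon
    have hle : normalizer (M : Set (ProjectiveSpecialLinearGroup (Fin 2) F)) ≤ M := hcon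
    have := Subgroup.card_le_of_le hle
    have hpos : 0 < Nat.card M := Nat.card_pos
    omega
  obtain ⟨w, hw, hwM⟩ := hex
  have hinv := GT_inverts hM hw hwM g.2
  have hM1 : M ≠ ⊥ := by
    rw [← Subgroup.one_lt_card_iff_ne_bot]; omega
  rcases dickson_first p X with h | ⟨M', hM', -, hXM'⟩ | ⟨⟨e⟩⟩ | ⟨⟨e⟩⟩ | ⟨⟨e⟩⟩ |
    ⟨M', hM', a, k, ha, hQ, hNa, hcard, hk⟩
  · have := Nat.le_of_dvd (by rw [h]; norm_num) hdvdX
    omega
  · have := overgroup_local hM h3 hN hM' (hNX.trans hXM')
    rw [this] at hXM'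
    exact hXne (le_antisymm hXM' hNX)
  · -- `A₄`
    set b := e ⟨g, hNX hgN⟩ with hb
    set a := e ⟨w, hNX hw⟩ with ha'
    have hordb : orderOf b = Nat.card M := by
      rw [hb, MulEquiv.orderOf_eq, ← hord]
      exact (Subgroup.orderOf_coe (⟨g, hNX hgN⟩ : X)).symm
    have hb1 : b ≠ 1 := by
      intro h1
      rw [h1, orderOf_one] at hordb
      omega
    have hb3 : b ^ 3 = 1 := by
      rcases A4_pow b with h2 | h3'
      · exfalso
        have := Nat.le_of_dvd (by norm_num) (orderOf_dvd_of_pow_eq_one h2)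
        omega
      · exact h3'
    apply A4_no_invert a b hb3 hb1
    rw [hb, ha', ← map_inv, ← map_inv, ← map_mul, ← map_mul]
    congr 1
    apply Subtype.ext
    exact hinv
  · -- `S₄`
    have hc : Nat.card X = 24 := by rw [Nat.card_congr e.toEquiv, card_S4]
    rw [hc] at hXG hdvdX
    exact hcardne 24 hc (hS4 hXG hdvdX)
  · -- `A₅`
    have hc : Nat.card X = 60 := by rw [Nat.card_congr e.toEquiv, card_A5]
    set b := e ⟨g, hNX hgN⟩ with hb
    have hordb : orderOf b = Nat.card M := by
      rw [hb, MulEquiv.orderOf_eq, ← hord]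
      exact (Subgroup.orderOf_coe (⟨g, hNX hgN⟩ : X)).symm
    have h35 : Nat.card M = 3 ∨ Nat.card M = 5 := by
      rcases Cfsg.Agent.S3448.a5_order b with h | h | h | h <;> rw [hordb] at h <;> omega
    rw [hc] at hXG hXGne
    exact hXGne (hA5 hXG h35).symm
  · -- the generic case
    have hadvd : a ∣ Fintype.card F := by
      rw [← hQ, ← card_GU hM']
      exact Subgroup.card_dvd_of_le inf_le_left
    have hk' : k ≤ a - 1 := by omega
    have hle := (gpart (F := F) p).tor_card_le X hM' ha hQ hNa hcard hk' (GT_sub_GM hM)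
      (not_mem_GU_of_mem_GT hM g.2 (by
        intro h1
        rw [h1, orderOf_one] at hord
        omega)) hM1 hNX hN
    rw [hcard] at hXG hXGne hdvdX
    exact hcardne _ hcard (hgen a k ha hadvd hk hXG hXGne hle hdvdX)

end Cfsg.Agent.Helper8.Dk
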