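import Mathlib
import Cfsg.Agent.Helper8.DkMaxC
import Cfsg.Agent.Helper8.DkMaxArith
import Cfsg.Agent.Helper8.DkOrd

set_option autoImplicit false

/-!
The normalisers of the standard tori of `PSL₂(F)`: orders, dihedral structure, maximality.
-/

namespace Cfsg.Agent.Helper8.Dk

open Matrix Cfsg.Agent.Helper7.SL2 Cfsg.Agent.Helper8.SL2C Subgroup
open scoped Matrix

variable {F : Type*} [Field F]

theorem Tc_map_mem_GT {t : F} (ht : t ^ 2 ≠ 4) : (Tc t).map (ph F) ∈ GT F :=
  ⟨Tc t, ⟨1, t, ht, (cj_one _).symm⟩, rfl⟩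

/-- a split parameter, with its inverting element -/
theorem exists_split [Fintype F] (h4 : 4 ≤ Fintype.card F) :
    ∃ t : F, t ^ 2 ≠ 4 ∧ ¬ Ellt t ∧ ∃ w : SpecialLinearGroup (Fin 2) F, IsW t w := by
  obtain ⟨l, hl0, hl1⟩ := exists_sq_ne_one h4
  have hll : l - l⁻¹ ≠ 0 := by
    intro h
    apply hl1
    have : l = l⁻¹ := by linear_combination h
    field_simp at this
    linear_combination this
  refine ⟨l + l⁻¹, ?_, ?_, ?_⟩
  · intro h
    apply hll
    have h1 : (l - l⁻¹) ^ 2 = 0 := by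
      have e : (l - l⁻¹) ^ 2 = (l + l⁻¹) ^ 2 - 4 * (l * l⁻¹) := by ring
      rw [e, mul_inv_cancel₀ hl0, h]; ring
    exact pow_eq_zero_iff (two_ne_zero) |>.mp h1
  · intro h
    apply h l
    have e : l ^ 2 - (l + l⁻¹) * l + 1 = 1 - l⁻¹ * l := by ring
    rw [e, inv_mul_cancel₀ hl0, sub_self]
  · set c : F := 2 / (l - l⁻¹) with hc
    set a : F := 1 - l * c with ha
    have hkey : a ^ 2 + (l + l⁻¹) * a * c + c ^ 2 = -1 := by
      have e1 : a ^ 2 + (l + l⁻¹) * a * c + c ^ 2 = (a + l * c) * (a + l⁻¹ * c) +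
          (1 - l * l⁻¹) * c ^ 2 := by ring
      have e2 : a + l * c = 1 := by rw [ha]; ring
      have e3 : a + l⁻¹ * c = 1 - (l - l⁻¹) * c := by rw [ha]; ring
      have e4 : (l - l⁻¹) * c = 2 := by rw [hc]; field_simp
      rw [e1, e2, e3, e4, mul_inv_cancel₀ hl0]; ring
    exact ⟨mk' a ((l + l⁻¹) * a + c) c (-a) (by linear_combination -hkey), rfl, rfl⟩

variable [Fintype F]

/-- the normaliser of the image of the torus, given an inverting element -/
theorem card_normalizer_Tc_map {t : F} (ht : t ^ 2 ≠ 4) {w : SpecialLinearGroup (Fin 2) F}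
    (hw : IsW t w) :
    Nat.card (normalizer (((Tc t).map (ph F) :
      Subgroup (ProjectiveSpecialLinearGroup (Fin 2) F)) :
        Set (ProjectiveSpecialLinearGroup (Fin 2) F))) = 2 * Nat.card ((Tc t).map (ph F)) := by
  have hM := Tc_map_mem_GT ht
  have hc := center_le_Tc t
  have h1 := card_normalizer_GT_dvd hM
  have hwN : pmk w ∈ normalizer (((Tc t).map (ph F) :
      Subgroup (ProjectiveSpecialLinearGroup (Fin 2) F)) :
        Set (ProjectiveSpecialLinearGroup (Fin 2) F)) := by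
    rw [pmk_mem_normalizer_iff hc, mem_normalizer_Tc_iff ht]
    exact Or.inr hw
  have hwM : pmk w ∉ (Tc t).map (ph F) := by
    rw [pmk_mem_map_iff hc]
    intro h
    exact not_isW_of_mem_Tc ht h hw
  have h2 : Nat.card ((Tc t).map (ph F)) ∣ Nat.card (normalizer (((Tc t).map (ph F) :
      Subgroup (ProjectiveSpecialLinearGroup (Fin 2) F)) :
        Set (ProjectiveSpecialLinearGroup (Fin 2) F))) :=
    Subgroup.card_dvd_of_le Subgroup.le_normalizer
  have h3 : Nat.card ((Tc t).map (ph F)) ≠ Nat.card (normalizer (((Tc t).map (ph F) :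
      Subgroup (ProjectiveSpecialLinearGroup (Fin 2) F)) :
        Set (ProjectiveSpecialLinearGroup (Fin 2) F))) := by
    intro h
    apply hwM
    have := Subgroup.eq_of_le_of_card_ge (Subgroup.le_normalizer (H := (Tc t).map (ph F))) h.ge
    rw [this]
    exact hwN
  obtain ⟨x, hx⟩ := h2
  obtain ⟨y, hy⟩ := h1
  have hpos : 0 < Nat.card ((Tc t).map (ph F)) := Nat.card_pos
  rw [hx] at hy h3 ⊢
  have hxy : x * y = 2 := by
    have : Nat.card ((Tc t).map (ph F)) * 2 = Nat.card ((Tc t).map (ph F)) * (x * y) := by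
      rw [mul_comm _ 2, hy]; ring
    exact (Nat.eq_of_mul_eq_mul_left hpos this).symm
  have hx2 : x ∣ 2 := ⟨y, hxy.symm⟩
  rcases (Nat.dvd_prime Nat.prime_two).mp hx2 with rfl | rfl
  · exfalso; apply h3; rw [mul_one]
  · ring

theorem card_Tc_map (t : F) :
    Nat.card (center (SpecialLinearGroup (Fin 2) F)) * Nat.card ((Tc t).map (ph F)) =
      Nat.card (Tc t) := by
  have h1 := card_comap_of_surjective (ph F) ph_surjective ((Tc t).map (ph F))
  rw [comap_map_of_center_le (center_le_Tc t), ker_ph] at h1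
  exact h1.symm

/-- the normaliser of a torus is dihedral -/
theorem normalizer_GT_dihedral {M : Subgroup (ProjectiveSpecialLinearGroup (Fin 2) F)}
    (hM : M ∈ GT F)
    (hN : Nat.card (normalizer (M : Set (ProjectiveSpecialLinearGroup (Fin 2) F))) =
      2 * Nat.card M) :
    Nonempty (normalizer (M : Set (ProjectiveSpecialLinearGroup (Fin 2) F)) ≃*
      DihedralGroup (Nat.card M)) := by
  haveI := isCyclic_of_mem_GT hM
  have hinf : M ⊓ normalizer (M : Set (ProjectiveSpecialLinearGroup (Fin 2) F)) = M :=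
    inf_eq_left.mpr Subgroup.le_normalizer
  rcases cyclic_or_dihedral M (normalizer (M : Set (ProjectiveSpecialLinearGroup (Fin 2) F)))
    le_rfl (GT_tor_norm M hM) with ⟨-, h⟩ | h
  · exfalso
    rw [hinf, hN] at h
    have hpos : 0 < Nat.card M := Nat.card_pos
    omega
  · rwa [hinf] at h

end Cfsg.Agent.Helper8.Dk
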