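import Mathlib
import Cfsg.Agent.Helper8.DkMaxD
import Cfsg.Agent.Helper8.DkIdx

set_option autoImplicit false

/-!
The dihedral maximal subgroups of `PSL₂(F)`.
-/

namespace Cfsg.Agent.Helper8.Dk

open Matrix Cfsg.Agent.Helper7.SL2 Cfsg.Agent.Helper8.SL2C Subgroup
open scoped Matrix

theorem isCoatom_of_card {G : Type*} [Group G] [Finite G] (N : Subgroup G)
    (hne : Nat.card N ≠ Nat.card G)
    (h : ∀ x : ℕ, Nat.card N ∣ x → x ∣ Nat.card G → x = Nat.card N ∨ x = Nat.card G) :
    IsCoatom N := by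
  refine ⟨?_, fun X hX => ?_⟩
  · intro htop
    apply hne
    rw [htop, Subgroup.card_top]
  · rcases h (Nat.card X) (Subgroup.card_dvd_of_le hX.le) (Subgroup.card_subgroup_dvd_card X)
      with h1 | h1
    · exfalso
      exact hX.ne (Subgroup.eq_of_le_of_card_ge hX.le h1.le)
    · exact Subgroup.eq_top_of_card_eq X h1

variable {F : Type*} [Field F] [Fintype F]

/-- the dihedral maximal subgroup of order `2(q+1)/d` -/
theorem exists_dihedral_plus (hq2 : Fintype.card F ≠ 2) (hq7 : Fintype.card F ≠ 7)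
    (hq9 : Fintype.card F ≠ 9) :
    ∃ H : Subgroup (ProjectiveSpecialLinearGroup (Fin 2) F), IsCoatom H ∧
      Nonempty (H ≃* DihedralGroup ((Fintype.card F + 1) / Nat.gcd 2 (Fintype.card F - 1))) := by
  obtain ⟨p, hpF⟩ := CharP.exists F
  haveI hp : Fact p.Prime := ⟨CharP.char_is_prime F p⟩
  obtain ⟨t, ht⟩ := exists_ellt (F := F)
  have ht4 := ellt_sq_ne ht
  obtain ⟨w, hw⟩ := exists_isW ht
  have hM : (Tc t).map (ph F) ∈ GT F := Tc_map_mem_GT ht4
  have hN := card_normalizer_Tc_map ht4 hw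
  have hcard := card_Tc_map t
  rw [card_Tc ht] at hcard
  have hd : Nat.card (center (SpecialLinearGroup (Fin 2) F)) =
      Nat.gcd 2 (Fintype.card F - 1) := card_center_SL2
  have hG := card_center_mul_card_PSL2 (F := F)
  have hgpos : 0 < Nat.gcd 2 (Fintype.card F - 1) := Nat.gcd_pos_of_pos_left _ (by norm_num)
  have hm : (Fintype.card F + 1) / Nat.gcd 2 (Fintype.card F - 1) =
      Nat.card ((Tc t).map (ph F)) := by
    apply Nat.div_eq_of_eq_mul_right hgpos
    rw [← hd, hcard]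
  have hq1 : 2 ≤ Fintype.card F := Fintype.one_lt_card
  refine ⟨normalizer (((Tc t).map (ph F) : Subgroup (ProjectiveSpecialLinearGroup (Fin 2) F)) :
    Set (ProjectiveSpecialLinearGroup (Fin 2) F)), ?_, ?_⟩
  · by_cases hq3 : Fintype.card F = 3
    · rw [hd, hq3] at hG hcard
      have e1 : Nat.gcd 2 (3 - 1) = 2 := by norm_num
      rw [e1] at hG hcard
      have hG12 : Nat.card (ProjectiveSpecialLinearGroup (Fin 2) F) = 12 := by omega
      have hM2 : Nat.card ((Tc t).map (ph F)) = 2 := by omega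
      rw [hM2] at hN
      apply isCoatom_of_card
      · rw [hN, hG12]; norm_num
      · rw [hN, hG12]
        intro x hx1 hx2
        have hx12 : x ≤ 12 := Nat.le_of_dvd (by norm_num) hx2
        interval_cases x <;> omega
    · have hq4 : 4 ≤ Fintype.card F := by omega
      obtain ⟨h3, hne, hS4, hA5, hgen⟩ := arith_plus hq4 hq7 hq9 hd hcard hG
      exact normalizer_GT_isCoatom p hM hN h3 hne hS4 hA5 hgen
  · rw [hm]
    exact normalizer_GT_dihedral hM hN

/-- the dihedral maximal subgroup of order `2(q-1)/d` -/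
theorem exists_dihedral_minus (hq4 : 4 ≤ Fintype.card F) (hq5 : Fintype.card F ≠ 5)
    (hq7 : Fintype.card F ≠ 7) (hq9 : Fintype.card F ≠ 9) (hq11 : Fintype.card F ≠ 11) :
    ∃ H : Subgroup (ProjectiveSpecialLinearGroup (Fin 2) F), IsCoatom H ∧
      Nonempty (H ≃* DihedralGroup ((Fintype.card F - 1) / Nat.gcd 2 (Fintype.card F - 1))) := by
  obtain ⟨p, hpF⟩ := CharP.exists F
  haveI hp : Fact p.Prime := ⟨CharP.char_is_prime F p⟩
  obtain ⟨t, ht4, ht, w, hw⟩ := exists_split hq4
  have hM : (Tc t).map (ph F) ∈ GT F := Tc_map_mem_GT ht4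
  have hN := card_normalizer_Tc_map ht4 hw
  have hcard := card_Tc_map t
  rw [card_Tc_split ht4 ht] at hcard
  have hd : Nat.card (center (SpecialLinearGroup (Fin 2) F)) =
      Nat.gcd 2 (Fintype.card F - 1) := card_center_SL2
  have hG := card_center_mul_card_PSL2 (F := F)
  have hgpos : 0 < Nat.gcd 2 (Fintype.card F - 1) := Nat.gcd_pos_of_pos_left _ (by norm_num)
  have hm : (Fintype.card F - 1) / Nat.gcd 2 (Fintype.card F - 1) =
      Nat.card ((Tc t).map (ph F)) := by
    apply Nat.div_eq_of_eq_mul_right hgpos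
    rw [← hd, hcard]
  refine ⟨normalizer (((Tc t).map (ph F) : Subgroup (ProjectiveSpecialLinearGroup (Fin 2) F)) :
    Set (ProjectiveSpecialLinearGroup (Fin 2) F)), ?_, ?_⟩
  · obtain ⟨h3, hne, hS4, hA5, hgen⟩ := arith_minus hq4 hq5 hq7 hq9 hq11 hd hcard hG
    exact normalizer_GT_isCoatom p hM hN h3 hne hS4 hA5 hgen
  · rw [hm]
    exact normalizer_GT_dihedral hM hN

end Cfsg.Agent.Helper8.Dk
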