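import Mathlib
import Cfsg.Agent.Helper8.PSL2Cent

set_option autoImplicit false

/-!
Products of two conjugates of a semisimple element of `SL₂(q)`.
-/

namespace Cfsg.Agent.Helper8.SL2C

open Matrix Cfsg.Agent.Helper7.SL2
open scoped Matrix

variable {F : Type*} [Field F]

theorem conj_of_tr_eq [Finite F] {X Y : SpecialLinearGroup (Fin 2) F} (h : tr X ^ 2 ≠ 4)
    (hY : tr Y = tr X) : ∃ c : SpecialLinearGroup (Fin 2) F, Y = c * X * c⁻¹ := by
  have h1 := isConj_comp_of_tr_sq_ne h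
  have h2 := isConj_comp_of_tr_sq_ne (g := Y) (by rw [hY]; exact h)
  rw [hY] at h2
  obtain ⟨c, hc⟩ := isConj_iff.mp (h1.trans h2.symm)
  exact ⟨c, hc.symm⟩

/-- a nondegenerate binary quadratic form `u² - τ u v + v²` over a finite field is universal. -/
theorem exists_quad_repr [Finite F] {τ : F} (hτ : τ ^ 2 ≠ 4) (ρ : F) :
    ∃ u v : F, u ^ 2 - τ * u * v + v ^ 2 = ρ := by
  rcases exists_binary (1 : F) (-τ) 1 ρ with ⟨x, y, h⟩ | ⟨x, y, hxy, h⟩
  · exact ⟨x, y, by linear_combination h⟩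
  · have hy : y ≠ 0 := by
      intro hy
      rw [hy] at h
      have : x ^ 2 = 0 := by linear_combination h
      have hx := pow_eq_zero_iff (two_ne_zero) |>.mp this
      rcases hxy with h' | h'
      · exact h' hx
      · exact h' hy
    obtain ⟨l, hl⟩ : ∃ l, l = x / y := ⟨_, rfl⟩
    have hroot : l ^ 2 - τ * l + 1 = 0 := by
      rw [hl]
      field_simp
      linear_combination h
    have hne : τ - l - l ≠ 0 := by
      intro h0
      apply hτ
      have : τ = 2 * l := by linear_combination h0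
      rw [this] at hroot ⊢
      linear_combination (-4 : F) * hroot
    obtain ⟨v, hv⟩ : ∃ v, v * (τ - l - l) = ρ - 1 := ⟨(ρ - 1) / (τ - l - l), div_mul_cancel₀ _ hne⟩
    refine ⟨1 + (τ - l) * v, v, ?_⟩
    linear_combination (v ^ 2) * hroot + hv

/-- `comp τ` as a product of two elements of trace `s`. -/
theorem exists_factor_comp [Finite F] (s : F) {τ : F} (hτ : τ ^ 2 ≠ 4) :
    ∃ Y Y' : SpecialLinearGroup (Fin 2) F, tr Y = s ∧ tr Y' = s ∧ Y * Y' = comp τ := by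
  have h2τ : 2 + τ ≠ 0 := by
    intro h
    apply hτ
    have : τ = -2 := by linear_combination h
    rw [this]; ring
  obtain ⟨u, v, huv⟩ := exists_quad_repr hτ (s ^ 2 / (2 + τ) - 1)
  obtain ⟨a, ha⟩ : ∃ a, a = s / (2 + τ) + u := ⟨_, rfl⟩
  obtain ⟨b, hb⟩ : ∃ b, b = -(s / (2 + τ)) + v := ⟨_, rfl⟩
  have hdet : a * (s - a) - b * (s + b - a * τ) = 1 := by
    rw [ha, hb]
    field_simp
    field_simp at huv
    linear_combination (-(2 + τ)) * huv
  obtain ⟨Y, hY⟩ : ∃ Y, Y = mk' a b (s + b - a * τ) (s - a) hdet := ⟨_, rfl⟩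
  have hYtr : tr Y = s := by
    rw [hY]; unfold tr; rw [mk'_00, mk'_11]; ring
  obtain ⟨i00, i01, i10, i11⟩ := coe_inv_apply Y
  refine ⟨Y, Y⁻¹ * comp τ, hYtr, ?_, by group⟩
  unfold tr
  simp only [coe_mul_apply, i00, i01, i10, i11, comp_00, comp_01, comp_10, comp_11]
  rw [hY, mk'_00, mk'_01, mk'_10]
  ring

/-- `-up β` as a product of two elements of trace `s ≠ 0`, odd characteristic. -/
theorem exists_factor_neg_up (h2 : (2 : F) ≠ 0) {s β : F} (hs : s ≠ 0) (hβ : β ≠ 0) :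
    ∃ Y Y' : SpecialLinearGroup (Fin 2) F, tr Y = s ∧ tr Y' = s ∧ Y * Y' = -up β := by
  have hdet : (0 : F) * s - (-(β / (2 * s))) * (2 * s / β) = 1 := by
    field_simp
    ring
  obtain ⟨Y, hY⟩ : ∃ Y, Y = mk' 0 (-(β / (2 * s))) (2 * s / β) s hdet := ⟨_, rfl⟩
  have hYtr : tr Y = s := by
    rw [hY]; unfold tr; rw [mk'_00, mk'_11]; ring
  obtain ⟨i00, i01, i10, i11⟩ := coe_inv_apply Y
  refine ⟨Y, Y⁻¹ * -up β, hYtr, ?_, by group⟩
  unfold tr
  simp only [coe_mul_apply, i00, i01, i10, i11, neg_apply, up_00, up_01, up_10, up_11]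
  rw [hY, mk'_00, mk'_10, mk'_11]
  field_simp
  ring

/-- `up β` as a product of two elements of trace `a + a⁻¹`. -/
theorem exists_factor_up_split (a : Fˣ) (β : F) :
    ∃ Y Y' : SpecialLinearGroup (Fin 2) F, tr Y = tr (tor a) ∧ tr Y' = tr (tor a) ∧ Y * Y' = up β := by
  obtain ⟨i00, i01, i10, i11⟩ := coe_inv_apply (tor a)
  refine ⟨tor a, (tor a)⁻¹ * up β, rfl, ?_, by group⟩
  unfold tr
  simp only [coe_mul_apply, i00, i01, i10, i11, up_00, up_01, up_10, up_11, tor_00, tor_01, tor_10,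
    tor_11]
  ring

/-- transporting a factorisation to `PSL₂`. -/
theorem exists_pmk_prod [Finite F] {X : SpecialLinearGroup (Fin 2) F} (h4 : tr X ^ 2 ≠ 4)
    {G P Y Y' : SpecialLinearGroup (Fin 2) F} (hY : tr Y = tr X) (hY' : tr Y' = tr X)
    (hG : G = P * (Y * Y') * P⁻¹) :
    ∃ u v : ProjectiveSpecialLinearGroup (Fin 2) F,
      pmk G = (u * pmk X * u⁻¹) * (v * pmk X * v⁻¹) := by
  obtain ⟨c₁, hc₁⟩ := conj_of_tr_eq h4 hY
  obtain ⟨c₂, hc₂⟩ := conj_of_tr_eq h4 hY'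
  refine ⟨pmk (P * c₁), pmk (P * c₂), ?_⟩
  rw [pmk_inv, pmk_inv, pmk_mul, pmk_mul, pmk_mul, pmk_mul, pmk_mul, hG, hc₁, hc₂]
  congr 1
  group

end Cfsg.Agent.Helper8.SL2C
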