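import Mathlib
import Cfsg.Agent.Helper8.SL2Products
import Cfsg.Agent.Helper8.PSL2ClassSize

set_option autoImplicit false

/-!
Elements and subgroups of order 4 in `SL₂(q)`, `q` odd.
-/

namespace Cfsg.Agent.Helper8.SL2C

open Matrix Cfsg.Agent.Helper7.SL2
open scoped Matrix

variable {F : Type*} [Field F]

theorem pow_four_eq' {G : Type*} [Monoid G] (x : G) : x ^ 4 = (x * x) * (x * x) := by
  rw [show 4 = 2 + 2 from rfl, pow_add, pow_two]

theorem zpow_four_eq' {G : Type*} [Group G] (x : G) : x ^ (4 : ℤ) = (x * x) * (x * x) := by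
  rw [show (4 : ℤ) = 2 + 2 from rfl, _root_.zpow_add, zpow_two]

theorem zpow_three_eq' {G : Type*} [Group G] (x : G) : x ^ (3 : ℤ) = (x * x) * x := by
  rw [show (3 : ℤ) = 2 + 1 from rfl, _root_.zpow_add, zpow_two, zpow_one]

theorem tr_eq_zero_of_sq {x : SpecialLinearGroup (Fin 2) F} (h : x * x = -1) : tr x = 0 := by
  have e00 := congrArg (fun g : SpecialLinearGroup (Fin 2) F => (g : Matrix (Fin 2) (Fin 2) F) 0 0) h
  have e01 := congrArg (fun g : SpecialLinearGroup (Fin 2) F => (g : Matrix (Fin 2) (Fin 2) F) 0 1) h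
  have e10 := congrArg (fun g : SpecialLinearGroup (Fin 2) F => (g : Matrix (Fin 2) (Fin 2) F) 1 0) h
  simp only [coe_mul_apply, neg_apply, one_00, one_01, one_10, neg_zero] at e00 e01 e10
  have hd := det_eq x
  unfold tr
  by_contra hs
  have h01 : (x : Matrix (Fin 2) (Fin 2) F) 0 1 = 0 := by
    have : (x : Matrix (Fin 2) (Fin 2) F) 0 1 *
        ((x : Matrix (Fin 2) (Fin 2) F) 0 0 + (x : Matrix (Fin 2) (Fin 2) F) 1 1) = 0 := by
      linear_combination e01
    exact (mul_eq_zero.mp this).resolve_right hs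
  rw [h01, zero_mul, add_zero] at e00
  rw [h01, zero_mul, sub_zero] at hd
  apply hs
  have h0 : (x : Matrix (Fin 2) (Fin 2) F) 0 0 ≠ 0 := by
    intro h0; rw [h0, zero_mul] at hd; exact zero_ne_one hd
  apply mul_left_cancel₀ h0
  linear_combination e00 + hd

theorem sq_eq_neg_one_of_order_four (h2 : (2 : F) ≠ 0) {x : SpecialLinearGroup (Fin 2) F}
    (hx : orderOf x = 4) : x * x = -1 := by
  have h4 : x ^ 4 = 1 := by rw [← hx]; exact pow_orderOf_eq_one x
  have h22 : (x * x) * (x * x) = 1 := by rw [← h4, pow_four_eq']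
  rcases eq_one_or_neg_one_of_sq h2 h22 with h | h
  · exfalso
    have : x ^ 2 = 1 := by rw [pow_two]; exact h
    have := orderOf_dvd_of_pow_eq_one this
    rw [hx] at this
    omega
  · exact h

theorem orderOf_eq_four_of_sq (h2 : (2 : F) ≠ 0) {x : SpecialLinearGroup (Fin 2) F}
    (h : x * x = -1) : orderOf x = 4 := by
  have h4 : x ^ 4 = 1 := by
    rw [pow_four_eq', h, neg_one_mul_neg_one]
  have hd : orderOf x ∣ 4 := orderOf_dvd_of_pow_eq_one h4
  have hn2 : ¬ orderOf x ∣ 2 := by
    intro hd2
    have := orderOf_dvd_iff_pow_eq_one.mp hd2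
    rw [pow_two, h] at this
    exact neg_one_ne_one h2 this
  have : orderOf x ∈ Nat.divisors 4 := Nat.mem_divisors.mpr ⟨hd, by norm_num⟩
  have hdiv : Nat.divisors 4 = {1, 2, 4} := by decide
  rw [hdiv] at this
  simp only [Finset.mem_insert, Finset.mem_singleton] at this
  rcases this with h1 | h1 | h1
  · exfalso; apply hn2; rw [h1]; norm_num
  · exfalso; apply hn2; rw [h1]
  · exact h1

/-- a subgroup of order 4 is generated by an element with square `-1`. -/
theorem exists_gen_of_card_four [Finite F] (h2 : (2 : F) ≠ 0)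
    (A : Subgroup (SpecialLinearGroup (Fin 2) F)) (hA : Nat.card A = 4) :
    ∃ x : SpecialLinearGroup (Fin 2) F, x * x = -1 ∧ A = Subgroup.zpowers x := by
  have hex : ∃ x ∈ A, x * x ≠ 1 := by
    by_contra hcon
    push Not at hcon
    have hsub : ∀ a : A, a = ⟨1, A.one_mem⟩ ∨ (a : SpecialLinearGroup (Fin 2) F) = -1 := by
      rintro ⟨a, ha⟩
      rcases eq_one_or_neg_one_of_sq h2 (hcon a ha) with h | h
      · left; exact Subtype.ext h
      · right; exact h
    have hle : Nat.card A ≤ 2 := by
      haveI : Fintype A := Fintype.ofFinite A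
      classical
      rw [Nat.card_eq_fintype_card]
      by_cases hm : (-1 : SpecialLinearGroup (Fin 2) F) ∈ A
      · have : (Finset.univ : Finset A) ⊆ {⟨1, A.one_mem⟩, ⟨-1, hm⟩} := by
          intro a _
          rcases hsub a with h | h
          · rw [h]; simp
          · have : a = ⟨-1, hm⟩ := Subtype.ext h
            rw [this]; simp
        exact (Finset.card_le_card this).trans Finset.card_le_two
      · have : (Finset.univ : Finset A) ⊆ {⟨1, A.one_mem⟩} := by
          intro a _
          rcases hsub a with h | h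
          · rw [h]; simp
          · exfalso; apply hm; rw [← h]; exact a.2
        have := Finset.card_le_card this
        rw [Finset.card_singleton] at this
        exact this.trans (by norm_num)
    omega
  obtain ⟨x, hxA, hx1⟩ := hex
  have hxo : orderOf x ∣ 4 := by
    have := Subgroup.orderOf_dvd_natCard A hxA
    rwa [hA] at this
  have hxo4 : orderOf x = 4 := by
    have : orderOf x ∈ Nat.divisors 4 := Nat.mem_divisors.mpr ⟨hxo, by norm_num⟩
    have hdiv : Nat.divisors 4 = {1, 2, 4} := by decide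
    rw [hdiv] at this
    simp only [Finset.mem_insert, Finset.mem_singleton] at this
    rcases this with h1 | h1 | h1
    · exfalso; apply hx1
      rw [orderOf_eq_one_iff] at h1
      rw [h1, one_mul]
    · exfalso; apply hx1
      have := pow_orderOf_eq_one x
      rw [h1, pow_two] at this
      exact this
    · exact h1
  refine ⟨x, sq_eq_neg_one_of_order_four h2 hxo4, ?_⟩
  symm
  apply Subgroup.eq_of_le_of_card_ge
  · rw [Subgroup.zpowers_le]; exact hxA
  · rw [Nat.card_zpowers, hxo4, hA]

/-- the normaliser of the subgroup generated by an element with square `-1`. -/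
theorem normalizer_zpowers_eq_Cstar (h2 : (2 : F) ≠ 0) {x : SpecialLinearGroup (Fin 2) F}
    (hx : x * x = -1) :
    Subgroup.normalizer ((Subgroup.zpowers x : Subgroup (SpecialLinearGroup (Fin 2) F)) :
      Set (SpecialLinearGroup (Fin 2) F)) = Cstar x := by
  have hxinv : x⁻¹ = -x := by
    have : x * (-x) = 1 := by rw [mul_neg', hx, neg_neg]
    exact inv_eq_of_mul_eq_one_right this
  have hnegmem : -x ∈ Subgroup.zpowers x := by
    rw [← hxinv]; exact Subgroup.inv_mem _ (Subgroup.mem_zpowers x)
  ext g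
  rw [mem_Cstar]
  constructor
  · intro hg
    rw [Subgroup.mem_normalizer_iff] at hg
    have h1 := (hg x).mp (Subgroup.mem_zpowers x)
    have ho : orderOf (g * x * g⁻¹) = 4 := by
      rw [← orderOf_eq_four_of_sq h2 hx]
      exact (orderOf_eq_of_isConj (isConj_iff.mpr ⟨g, rfl⟩)).symm
    obtain ⟨k, hk⟩ := Subgroup.mem_zpowers_iff.mp h1
    -- `g x g⁻¹ = x ^ k` has trace `± tr x`...
    have hsq : (g * x * g⁻¹) * (g * x * g⁻¹) = -1 := sq_eq_neg_one_of_order_four h2 ho
    -- x ^ k for k mod 4
    have hx4 : x ^ (4 : ℤ) = 1 := by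
      rw [zpow_four_eq', hx, neg_one_mul_neg_one]
    have hkmod : x ^ k = x ^ (k % 4) := zpow_eq_zpow_emod k hx4
    have hk4 : 0 ≤ k % 4 ∧ k % 4 < 4 := ⟨Int.emod_nonneg _ (by norm_num), Int.emod_lt_of_pos _ (by norm_num)⟩
    have hcases : k % 4 = 0 ∨ k % 4 = 1 ∨ k % 4 = 2 ∨ k % 4 = 3 := by omega
    rw [hkmod] at hk
    rcases hcases with h | h | h | h
    · exfalso
      rw [h, zpow_zero] at hk
      rw [← hk, one_mul] at hsq
      exact neg_one_ne_one h2 hsq.symm
    · left
      rw [h, zpow_one] at hk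
      have : g * x = (g * x * g⁻¹) * g := by group
      rw [this, ← hk]
    · exfalso
      rw [h] at hk
      rw [zpow_two, hx] at hk
      rw [← hk, neg_one_mul_neg_one] at hsq
      exact neg_one_ne_one h2 hsq.symm
    · right
      rw [h] at hk
      rw [zpow_three_eq', hx, ← neg_eq_neg_one_mul] at hk
      have : g * x = (g * x * g⁻¹) * g := by group
      rw [this, ← hk, neg_mul']
  · intro hg
    have key : ∀ g : SpecialLinearGroup (Fin 2) F, (g * x = x * g ∨ g * x = -(x * g)) →
        ∀ h ∈ Subgroup.zpowers x, g * h * g⁻¹ ∈ Subgroup.zpowers x := by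
      intro g hg h hh
      have hgx : g * x * g⁻¹ ∈ Subgroup.zpowers x := by
        rcases hg with e | e
        · rw [e]
          have : x * g * g⁻¹ = x := by group
          rw [this]; exact Subgroup.mem_zpowers x
        · rw [e, neg_mul']
          have : x * g * g⁻¹ = x := by group
          rw [this]; exact hnegmem
      obtain ⟨k, rfl⟩ := Subgroup.mem_zpowers_iff.mp hh
      have : g * x ^ k * g⁻¹ = (g * x * g⁻¹) ^ k := by
        have := (MulAut.conj g).toMonoidHom.map_zpow x k
        exact this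
      rw [this]
      exact Subgroup.zpow_mem _ hgx k
    rw [Subgroup.mem_normalizer_iff]
    intro h
    constructor
    · exact key g hg h
    · intro hh
      have hg' : g⁻¹ * x = x * g⁻¹ ∨ g⁻¹ * x = -(x * g⁻¹) := by
        rcases hg with e | e
        · left
          have : g⁻¹ * (g * x) * g⁻¹ = g⁻¹ * (x * g) * g⁻¹ := by rw [e]
          have e1 : g⁻¹ * (g * x) * g⁻¹ = x * g⁻¹ := by group
          have e2 : g⁻¹ * (x * g) * g⁻¹ = g⁻¹ * x := by group
          rw [e1, e2] at this
          exact this.symm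
        · right
          have : g⁻¹ * (g * x) * g⁻¹ = g⁻¹ * (-(x * g)) * g⁻¹ := by rw [e]
          have e1 : g⁻¹ * (g * x) * g⁻¹ = x * g⁻¹ := by group
          rw [e1, mul_neg', neg_mul'] at this
          have e2 : g⁻¹ * (x * g) * g⁻¹ = g⁻¹ * x := by group
          rw [e2] at this
          rw [this, neg_neg]
      have := key g⁻¹ hg' _ hh
      have e : g⁻¹ * (g * h * g⁻¹) * g⁻¹⁻¹ = h := by group
      rwa [e] at this

end Cfsg.Agent.Helper8.SL2C
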