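import Mathlib

set_option autoImplicit false

/-!
# A group of order eight with a non-central involution is dihedral (helper8)
-/

namespace Cfsg.Agent.Helper8.Dihedral8

variable {E : Type*} [Group E]

theorem comm_of_sq_eq_one (h : ∀ g : E, g * g = 1) (x y : E) : x * y = y * x := by
  have h1 := h (x * y)
  have hx : x⁻¹ = x := inv_eq_of_mul_eq_one_right (h x)
  have hy : y⁻¹ = y := inv_eq_of_mul_eq_one_right (h y)
  have h2 : x * y = (x * y)⁻¹ := (inv_eq_of_mul_eq_one_right h1).symm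
  rw [h2, mul_inv_rev, hx, hy]

theorem exists_order_four (hcard : Nat.card E = 8) (hnc : ∃ x y : E, x * y ≠ y * x) :
    ∃ a : E, orderOf a = 4 := by
  by_contra hno
  push Not at hno
  obtain ⟨x, y, hxy⟩ := hnc
  apply hxy
  apply comm_of_sq_eq_one
  intro g
  have hdvd : orderOf g ∣ 8 := hcard ▸ orderOf_dvd_natCard g
  have hmem : orderOf g ∈ Nat.divisors 8 := Nat.mem_divisors.mpr ⟨hdvd, by norm_num⟩
  have hdiv : Nat.divisors 8 = {1, 2, 4, 8} := by decide
  rw [hdiv] at hmem
  simp only [Finset.mem_insert, Finset.mem_singleton] at hmem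
  rcases hmem with h | h | h | h
  · rw [orderOf_eq_one_iff] at h
    rw [h, mul_one]
  · rw [← sq, ← h]
    exact pow_orderOf_eq_one g
  · exact absurd h (hno g)
  · exfalso
    apply hno (g ^ 2)
    rw [orderOf_pow' g (by norm_num : (2 : ℕ) ≠ 0), h]
    rfl

/-- the elements of a cyclic group of order four. -/
theorem mem_zpowers_four {a y : E} (ha : orderOf a = 4) (hy : y ∈ Subgroup.zpowers a) :
    y = 1 ∨ y = a ∨ y = a ^ 2 ∨ y = a ^ 3 := by
  obtain ⟨k, rfl⟩ := Subgroup.mem_zpowers_iff.mp hy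
  rw [← zpow_mod_orderOf, ha]
  have h0 : 0 ≤ k % (4 : ℤ) := Int.emod_nonneg k (by norm_num)
  have h4 : k % (4 : ℤ) < 4 := Int.emod_lt_of_pos k (by norm_num)
  obtain ⟨j, hj⟩ : ∃ j : ℕ, (j : ℤ) = k % (4 : ℤ) := ⟨(k % 4).toNat, Int.toNat_of_nonneg h0⟩
  rw [Nat.cast_ofNat, ← hj, zpow_natCast]
  have hj4 : j < 4 := by omega
  interval_cases j
  · left; exact pow_zero a
  · right; left; exact pow_one a
  · right; right; left; rfl
  · right; right; right; rfl

theorem pow_four {a : E} (ha : orderOf a = 4) : a ^ 4 = 1 := by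
  rw [← ha]; exact pow_orderOf_eq_one a

theorem sq_ne_one {a : E} (ha : orderOf a = 4) : a ^ 2 ≠ 1 := by
  intro h
  have := orderOf_dvd_of_pow_eq_one h
  rw [ha] at this
  omega

theorem cube_eq_inv {a : E} (ha : orderOf a = 4) : a ^ 3 = a⁻¹ := by
  rw [eq_inv_iff_mul_eq_one, ← pow_succ]
  exact pow_four ha

/-- an element of order four in `⟨a⟩` is `a` or `a⁻¹`. -/
theorem eq_or_eq_inv {a y : E} (ha : orderOf a = 4) (hy : y ∈ Subgroup.zpowers a)
    (hy4 : orderOf y = 4) : y = a ∨ y = a⁻¹ := by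
  rcases mem_zpowers_four ha hy with h | h | h | h
  · rw [h, orderOf_one] at hy4
    omega
  · exact Or.inl h
  · exfalso
    have : y ^ 2 = 1 := by rw [h, ← pow_mul]; exact pow_four ha
    exact sq_ne_one hy4 this
  · right
    rw [h, cube_eq_inv ha]

/-- **a group of order eight with a non-central involution is dihedral.** -/
theorem exists_mulEquiv (hcard : Nat.card E = 8) (x t : E) (hx : x * x = 1)
    (hxt : t * x * t⁻¹ ≠ x) : Nonempty (E ≃* DihedralGroup 4) := by
  haveI : Finite E := Nat.finite_of_card_ne_zero (by rw [hcard]; norm_num)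
  have hnc : ∃ x y : E, x * y ≠ y * x :=
    ⟨t, x, fun h => hxt (by rw [h, mul_inv_cancel_right])⟩
  obtain ⟨a, ha⟩ := exists_order_four hcard hnc
  have ha4 := pow_four ha
  have hAcard : Nat.card (Subgroup.zpowers a) = 4 := by rw [Nat.card_zpowers, ha]
  have hAidx : (Subgroup.zpowers a).index = 2 := by
    have := Subgroup.card_mul_index (Subgroup.zpowers a)
    rw [hAcard, hcard] at this
    omega
  haveI hAn : (Subgroup.zpowers a).Normal := Subgroup.normal_of_index_eq_two hAidx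
  have hconj : ∀ g : E, g * a * g⁻¹ = a ∨ g * a * g⁻¹ = a⁻¹ := by
    intro g
    apply eq_or_eq_inv ha (hAn.conj_mem a (Subgroup.mem_zpowers a) g)
    have : g * a * g⁻¹ = MulAut.conj g a := rfl
    rw [this, MulEquiv.orderOf_eq]
    exact ha
  have hinv2 : (a⁻¹) ^ 2 = a ^ 2 := by
    rw [inv_pow, inv_eq_iff_mul_eq_one, ← pow_add]
    exact ha4
  have hcen : ∀ g : E, g * a ^ 2 * g⁻¹ = a ^ 2 := by
    intro g
    rw [← conj_pow]
    rcases hconj g with h | h
    · rw [h]
    · rw [h, hinv2]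
  have hx1 : x ≠ 1 := by
    rintro rfl
    apply hxt
    group
  have hxinv : x⁻¹ = x := inv_eq_of_mul_eq_one_right hx
  have hxA : x ∉ Subgroup.zpowers a := by
    intro hmem
    rcases mem_zpowers_four ha hmem with h | h | h | h
    · exact hx1 h
    · rw [h, ← sq] at hx
      exact sq_ne_one ha hx
    · apply hxt
      rw [h]
      exact hcen t
    · rw [h, ← pow_add] at hx
      have : a ^ (3 + 3) = a ^ 4 * a ^ 2 := by rw [← pow_add]
      rw [this, ha4, one_mul] at hx
      exact sq_ne_one ha hx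
  have hxa : x * a * x⁻¹ = a⁻¹ := by
    rcases hconj x with h | h
    · exfalso
      have hc : Commute x a := mul_inv_eq_iff_eq_mul.mp h
      have hcA : ∀ a' ∈ Subgroup.zpowers a, Commute x a' := by
        intro a' ha'
        obtain ⟨k, rfl⟩ := Subgroup.mem_zpowers_iff.mp ha'
        exact hc.zpow_right k
      by_cases htA : t ∈ Subgroup.zpowers a
      · apply hxt
        have := (hcA t htA).eq
        rw [← this, mul_inv_cancel_right]
      · have h3 := Subgroup.mul_mem_iff_of_index_two hAidx (a := x⁻¹) (b := t)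
        have hxiA : x⁻¹ ∉ Subgroup.zpowers a := by rw [hxinv]; exact hxA
        have h4 : x⁻¹ * t ∈ Subgroup.zpowers a :=
          h3.mpr ⟨fun h => absurd h hxiA, fun h => absurd h htA⟩
        obtain ⟨a', ha', hta'⟩ : ∃ a', a' ∈ Subgroup.zpowers a ∧ t = x * a' :=
          ⟨x⁻¹ * t, h4, by group⟩
        have hc' := (hcA _ ha').eq
        apply hxt
        calc t * x * t⁻¹ = x * (a' * x) * (a'⁻¹ * x⁻¹) := by rw [hta']; group
          _ = x * (x * a') * (a'⁻¹ * x⁻¹) := by rw [hc']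
          _ = x := by group
    · exact h
  obtain ⟨pw, hpw⟩ : ∃ pw : ZMod 4 → E, ∀ i, pw i = a ^ i.val := ⟨fun i => a ^ i.val, fun _ => rfl⟩
  have K1 : ∀ i j, pw (i + j) = pw i * pw j := by
    intro i j
    rw [hpw, hpw, hpw, ZMod.val_add, ← pow_add]
    have := pow_mod_orderOf a (i.val + j.val)
    rw [ha] at this
    exact this
  have K2 : ∀ i j, pw (j - i) = (pw i)⁻¹ * pw j := by
    intro i j
    have h := K1 i (j - i)
    rw [add_sub_cancel] at h
    rw [h, inv_mul_cancel_left]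
  have hconjpw : ∀ i, x * pw i * x⁻¹ = (pw i)⁻¹ := by
    intro i
    rw [hpw, ← conj_pow, hxa, inv_pow]
  have K3 : ∀ i, pw i * x = x * (pw i)⁻¹ := by
    intro i
    have h := hconjpw i
    have h2 : x * (pw i)⁻¹ * x⁻¹ = pw i := by
      calc x * (pw i)⁻¹ * x⁻¹ = (x * pw i * x⁻¹)⁻¹ := by group
        _ = ((pw i)⁻¹)⁻¹ := by rw [h]
        _ = pw i := inv_inv _
    exact (mul_inv_eq_iff_eq_mul.mp h2).symm
  obtain ⟨f, hfr, hfs⟩ : ∃ f : DihedralGroup 4 → E,
      (∀ i, f (DihedralGroup.r i) = pw i) ∧ (∀ i, f (DihedralGroup.sr i) = x * pw i) :=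
    ⟨fun g => match g with
      | DihedralGroup.r i => pw i
      | DihedralGroup.sr i => x * pw i, fun _ => rfl, fun _ => rfl⟩
  have hmul : ∀ g h : DihedralGroup 4, f (g * h) = f g * f h := by
    intro g h
    rcases g with i | i <;> rcases h with j | j
    · rw [DihedralGroup.r_mul_r, hfr, hfr, hfr, K1]
    · rw [DihedralGroup.r_mul_sr, hfs, hfr, hfs, K2, ← mul_assoc (pw i), K3, mul_assoc]
    · rw [DihedralGroup.sr_mul_r, hfs, hfs, hfr, K1, mul_assoc]
    · rw [DihedralGroup.sr_mul_sr, hfr, hfs, hfs, K2, mul_assoc x, ← mul_assoc (pw i), K3,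
        mul_assoc x, ← mul_assoc x, hx, one_mul]
  obtain ⟨φ, hφ⟩ : ∃ φ : DihedralGroup 4 →* E, ∀ g, φ g = f g := ⟨MonoidHom.mk' f hmul, fun _ => rfl⟩
  have hinj : Function.Injective φ := by
    rw [injective_iff_map_eq_one]
    intro g hg
    rw [hφ] at hg
    rcases g with i | i
    · rw [hfr, hpw] at hg
      have hd := orderOf_dvd_of_pow_eq_one hg
      rw [ha] at hd
      have hlt : i.val < 4 := ZMod.val_lt i
      have h0 : i.val = 0 := by
        obtain ⟨c, hc⟩ := hd
        omega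
      have : i = 0 := (ZMod.val_eq_zero i).mp h0
      rw [this]
      rfl
    · exfalso
      rw [hfs] at hg
      apply hxA
      have : x = (pw i)⁻¹ := eq_inv_of_mul_eq_one_left hg
      rw [this, hpw]
      exact Subgroup.inv_mem _ (Subgroup.pow_mem _ (Subgroup.mem_zpowers a) _)
  have hbij : Function.Bijective φ := by
    apply hinj.bijective_of_nat_card_le
    rw [hcard, DihedralGroup.nat_card]
  exact ⟨(MulEquiv.ofBijective φ hbij).symm⟩

/-- quotient form: a homomorphism onto `D₈` from the range of `Φ` with prescribed kernel. -/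
theorem exists_hom_of_quot {A B : Type*} [Group A] [Group B] (Φ : A →* B) (I : Subgroup B)
    [I.Normal] (hidx : I.relIndex Φ.range = 8) (r d : A) (hrr : r * r = 1)
    (hnc : Φ (r⁻¹ * (d * r * d⁻¹)) ∉ I) :
    ∃ φ : ↥Φ.range →* DihedralGroup 4, Function.Surjective φ ∧ φ.ker = I.subgroupOf Φ.range := by
  obtain ⟨N, hN⟩ : ∃ N : Subgroup ↥Φ.range, N = I.subgroupOf Φ.range := ⟨_, rfl⟩
  haveI hNn : N.Normal := by rw [hN]; infer_instance
  have hcardE : Nat.card (↥Φ.range ⧸ N) = 8 := by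
    rw [← Subgroup.index_eq_card, hN]
    exact hidx
  obtain ⟨π, hπ⟩ : ∃ π : A →* (↥Φ.range ⧸ N), π = (QuotientGroup.mk' N).comp Φ.rangeRestrict :=
    ⟨_, rfl⟩
  have hπ1 : ∀ g, π g = 1 → Φ g ∈ I := by
    intro g hg
    rw [hπ, MonoidHom.comp_apply, QuotientGroup.mk'_apply, QuotientGroup.eq_one_iff, hN,
      Subgroup.mem_subgroupOf] at hg
    exact hg
  have hx2 : π r * π r = 1 := by rw [← map_mul, hrr, map_one]
  have hne : π d * π r * (π d)⁻¹ ≠ π r := by
    intro hcon
    have h1 : π (r⁻¹ * (d * r * d⁻¹)) = 1 := by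
      rw [map_mul, map_inv, map_mul, map_mul, map_inv, hcon, inv_mul_cancel]
    exact hnc (hπ1 _ h1)
  obtain ⟨E8⟩ := exists_mulEquiv hcardE (π r) (π d) hx2 hne
  refine ⟨E8.toMonoidHom.comp (QuotientGroup.mk' N), ?_, ?_⟩
  · rw [MonoidHom.coe_comp]
    exact E8.surjective.comp (QuotientGroup.mk'_surjective N)
  · ext g
    rw [MonoidHom.mem_ker, MonoidHom.comp_apply]
    show E8 (QuotientGroup.mk' N g) = 1 ↔ _
    rw [E8.map_eq_one_iff, QuotientGroup.mk'_apply, QuotientGroup.eq_one_iff, hN]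

end Cfsg.Agent.Helper8.Dihedral8
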