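import Mathlib

set_option autoImplicit false

/-! General lemmas on the conjugation action of a finite group on its Sylow subgroups:
fixed-point congruences for commuting subgroups, the parity of involutions in simple groups,
and bookkeeping for normalizers. -/

namespace Cfsg.Agent.Helper8.SylAct

open Subgroup MulAction

/-- the sign of an involution. -/
theorem sign_of_mul_self {α : Type*} [Fintype α] [DecidableEq α] (σ : Equiv.Perm α)
    (hσ : σ * σ = 1) :
    Equiv.Perm.sign σ = (-1) ^ (σ.support.card / 2) ∧ Even σ.support.card := by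
  by_cases h1 : σ = 1
  · subst h1
    simp
  · have hord : orderOf σ = 2 := orderOf_eq_prime (by rw [pow_two]; exact hσ) h1
    obtain ⟨n, hn⟩ := Equiv.Perm.cycleType_prime_order (σ := σ) (by rw [hord]; exact Nat.prime_two)
    rw [hord] at hn
    have hsum : σ.support.card = 2 * (n + 1) := by
      rw [← Equiv.Perm.sum_cycleType, hn, Multiset.sum_replicate, smul_eq_mul, mul_comm]
    refine ⟨?_, ?_⟩
    · rw [Equiv.Perm.sign_of_cycleType, hn, Multiset.sum_replicate, Multiset.card_replicate, hsum,
        smul_eq_mul]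
      have e1 : 2 * (n + 1) / 2 = n + 1 := by omega
      rw [e1, pow_add, mul_comm (n + 1) 2, pow_mul]
      simp
    · rw [hsum]
      exact even_two_mul _

variable {G : Type*} [Group G]

/-- In a simple group of order more than two, an involution moves a multiple of four points. -/
theorem card_eq_card_fixedBy_add [Finite G] [IsSimpleGroup G] (hG : 2 < Nat.card G)
    (Ω : Type*) [MulAction G Ω] [Finite Ω] (t : G) (ht : t * t = 1) :
    ∃ k, Nat.card Ω = Nat.card (fixedBy Ω t) + 4 * k := by
  classical
  have : Fintype Ω := Fintype.ofFinite Ω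
  set π : Equiv.Perm Ω := MulAction.toPermHom G Ω t with hπ
  have hππ : π * π = 1 := by
    rw [hπ, ← map_mul, ht, map_one]
  obtain ⟨hsign, heven⟩ := sign_of_mul_self π hππ
  -- the sign character is trivial
  have hker : (Equiv.Perm.sign.comp (MulAction.toPermHom G Ω)).ker = ⊤ := by
    rcases (MonoidHom.normal_ker (Equiv.Perm.sign.comp (MulAction.toPermHom G Ω))).eq_bot_or_eq_top
      with h0 | h0
    · exfalso
      have hinj : Function.Injective (Equiv.Perm.sign.comp (MulAction.toPermHom G Ω)) :=
        (MonoidHom.ker_eq_bot_iff _).mp h0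
      have := Nat.card_le_card_of_injective _ hinj
      rw [Nat.card_eq_fintype_card (α := ℤˣ), Fintype.card_units_int] at this
      omega
    · exact h0
  have hs1 : Equiv.Perm.sign π = 1 := by
    have : t ∈ (Equiv.Perm.sign.comp (MulAction.toPermHom G Ω)).ker := by rw [hker]; trivial
    exact MonoidHom.mem_ker.mp this
  rw [hs1] at hsign
  have hev2 : Even (π.support.card / 2) := by
    rw [← neg_one_pow_eq_one_iff_even (R := ℤˣ) (by decide)]
    exact hsign.symm
  obtain ⟨a, ha⟩ := hev2
  obtain ⟨b, hb⟩ := heven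
  have h4 : π.support.card = 4 * a := by omega
  refine ⟨a, ?_⟩
  have hfix : (fixedBy Ω t : Set Ω) = ((π.supportᶜ : Finset Ω) : Set Ω) := by
    ext x
    simp only [mem_fixedBy, Finset.coe_compl, Set.mem_compl_iff, Finset.mem_coe,
      Equiv.Perm.mem_support, not_not, hπ, MulAction.toPermHom_apply, MulAction.toPerm_apply]
  have hcard : Nat.card (fixedBy Ω t) = π.supportᶜ.card := by
    rw [Nat.card_coe_set_eq, hfix, Set.ncard_coe_finset]
  rw [hcard, Finset.card_compl, ← h4, Nat.card_eq_fintype_card]
  have := Finset.card_le_univ π.support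
  omega

/-- If the `p`-group `P` commutes elementwise with `K`, the number of fixed points of `K` is
congruent mod `p` to the number of common fixed points. -/
theorem card_fixedPoints_modEq_of_commute {p : ℕ} [Fact p.Prime] (Ω : Type*) [MulAction G Ω]
    [Finite Ω] (P K : Subgroup G) (hP : IsPGroup p P)
    (hcomm : ∀ x ∈ P, ∀ k ∈ K, x * k = k * x) :
    Nat.card (fixedPoints K Ω) ≡
      Nat.card ↥(fixedPoints K Ω ∩ fixedPoints P Ω) [MOD p] := by
  let inst : MulAction P (fixedPoints K Ω) :=
    { smul := fun x ω => ⟨(x : G) • (ω : Ω), fun k => by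
        change (k : G) • ((x : G) • (ω : Ω)) = (x : G) • (ω : Ω)
        rw [← mul_smul, ← hcomm x x.2 k k.2, mul_smul]
        exact congrArg _ (ω.2 k)⟩
      one_smul := fun ω => Subtype.ext (one_smul G (ω : Ω))
      mul_smul := fun x y ω => Subtype.ext (mul_smul (x : G) (y : G) (ω : Ω)) }
  have h1 := hP.card_modEq_card_fixedPoints (fixedPoints K Ω)
  have e : fixedPoints P (fixedPoints K Ω) ≃ ↥(fixedPoints K Ω ∩ fixedPoints P Ω) :=
    { toFun := fun ω => ⟨((ω : fixedPoints K Ω) : Ω), (ω : fixedPoints K Ω).2,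
        fun x => congrArg Subtype.val (ω.2 x)⟩
      invFun := fun ω => ⟨⟨(ω : Ω), ω.2.1⟩, fun x => Subtype.ext (ω.2.2 x)⟩
      left_inv := fun ω => rfl
      right_inv := fun ω => rfl }
  rw [Nat.card_congr e] at h1
  exact h1

/-- A Sylow subgroup normalizes no other Sylow subgroup. -/
theorem fixedPoints_sylow {p : ℕ} [Fact p.Prime] (P : Sylow p G) :
    fixedPoints (P : Subgroup G) (Sylow p G) = {P} := by
  ext R
  rw [mem_fixedPoints, Set.mem_singleton_iff]
  constructor
  · intro h
    have hle : (P : Subgroup G) ≤ normalizer ((R : Subgroup G) : Set G) := by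
      intro x hx
      exact Sylow.smul_eq_iff_mem_normalizer.mp (h ⟨x, hx⟩)
    have hinf : (P : Subgroup G) ⊓ normalizer ((R : Subgroup G) : Set G) =
        (P : Subgroup G) ⊓ (R : Subgroup G) := IsPGroup.inf_normalizer_sylow P.2 R
    have hPR : (P : Subgroup G) ≤ (R : Subgroup G) := by
      have : (P : Subgroup G) ⊓ normalizer ((R : Subgroup G) : Set G) = (P : Subgroup G) :=
        inf_eq_left.mpr hle
      rw [this] at hinf
      exact inf_eq_left.mp hinf.symm
    exact (Sylow.ext (P.is_maximal' R.2 hPR)).symm ▸ rfl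
  · rintro rfl x
    exact Sylow.smul_eq_iff_mem_normalizer.mpr (le_normalizer x.2)

/-- For `K` centralizing the Sylow subgroup `P`, the number of Sylow subgroups normalized by `K`
is `1` modulo `p`. -/
theorem card_fixedPoints_sylow_modEq_one [Finite G] {p : ℕ} [Fact p.Prime] (P : Sylow p G)
    (K : Subgroup G) (hK : K ≤ centralizer ((P : Subgroup G) : Set G)) :
    Nat.card (fixedPoints K (Sylow p G)) ≡ 1 [MOD p] := by
  have h1 := card_fixedPoints_modEq_of_commute (Sylow p G) (P : Subgroup G) K P.2
    (fun x hx k hk => (mem_centralizer_iff.mp (hK hk) x hx))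
  have hP : P ∈ fixedPoints K (Sylow p G) := by
    intro k
    exact Sylow.smul_eq_iff_mem_normalizer.mpr (centralizer_le_normalizer _ (hK k.2))
  have h2 : fixedPoints K (Sylow p G) ∩ fixedPoints (P : Subgroup G) (Sylow p G) = {P} := by
    rw [fixedPoints_sylow P]
    ext R
    simp only [Set.mem_inter_iff, Set.mem_singleton_iff]
    constructor
    · exact fun h => h.2
    · rintro rfl
      exact ⟨hP, rfl⟩
  rw [h2] at h1
  simpa using h1

/-- The conjugation action of a simple group on its Sylow subgroups is faithful, unless they are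
normal. -/
theorem ker_toPermHom_sylow [IsSimpleGroup G] {p : ℕ} [Fact p.Prime] (P : Sylow p G)
    (hP : normalizer ((P : Subgroup G) : Set G) ≠ ⊤) :
    (MulAction.toPermHom G (Sylow p G)).ker = ⊥ := by
  rcases (MonoidHom.normal_ker (MulAction.toPermHom G (Sylow p G))).eq_bot_or_eq_top with h0 | h0
  · exact h0
  · exfalso
    apply hP
    rw [eq_top_iff]
    intro g _
    have hg : g ∈ (MulAction.toPermHom G (Sylow p G)).ker := by rw [h0]; trivial
    rw [MonoidHom.mem_ker] at hg
    have := congrArg (fun σ : Equiv.Perm (Sylow p G) => σ P) hg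
    exact Sylow.smul_eq_iff_mem_normalizer.mp this

/-- An element fixing every Sylow subgroup of a simple group is trivial. -/
theorem eq_one_of_forall_smul_eq [IsSimpleGroup G] {p : ℕ} [Fact p.Prime] (P : Sylow p G)
    (hP : normalizer ((P : Subgroup G) : Set G) ≠ ⊤) (a : G)
    (h : ∀ R : Sylow p G, a • R = R) : a = 1 := by
  have hker : a ∈ (MulAction.toPermHom G (Sylow p G)).ker := by
    rw [MonoidHom.mem_ker]
    apply Equiv.Perm.ext
    intro R
    exact h R
  rw [ker_toPermHom_sylow P hP, mem_bot] at hker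
  exact hker

/-- A nontrivial element of a Sylow subgroup of prime order normalizes no other Sylow
subgroup. -/
theorem eq_one_of_smul_eq [Finite G] {p : ℕ} [hp : Fact p.Prime] (P R : Sylow p G)
    (hcard : Nat.card (P : Subgroup G) = p) (hRP : R ≠ P) (x : G) (hx : x ∈ (P : Subgroup G))
    (hfix : x • R = R) : x = 1 := by
  by_contra hne
  have hxN : x ∈ normalizer ((R : Subgroup G) : Set G) := Sylow.smul_eq_iff_mem_normalizer.mp hfix
  have hinf : (P : Subgroup G) ⊓ normalizer ((R : Subgroup G) : Set G) =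
      (P : Subgroup G) ⊓ (R : Subgroup G) := IsPGroup.inf_normalizer_sylow P.2 R
  have hxPR : x ∈ (P : Subgroup G) ⊓ (R : Subgroup G) := by
    rw [← hinf]
    exact ⟨hx, hxN⟩
  have hd : Nat.card ((P : Subgroup G) ⊓ (R : Subgroup G) : Subgroup G) ∣ p := by
    have := card_dvd_of_le (inf_le_left : (P : Subgroup G) ⊓ (R : Subgroup G) ≤ (P : Subgroup G))
    rwa [hcard] at this
  rcases (Nat.dvd_prime hp.out).mp hd with h1 | h7
  · rw [card_eq_one] at h1
    rw [h1, mem_bot] at hxPR
    exact hne hxPR
  · have hPinf : (P : Subgroup G) ⊓ (R : Subgroup G) = (P : Subgroup G) :=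
      eq_of_le_of_card_ge inf_le_left (by rw [h7, hcard])
    have hPR : (P : Subgroup G) ≤ (R : Subgroup G) := by
      rw [← hPinf]
      exact inf_le_right
    exact hRP (Sylow.ext (P.is_maximal' R.2 hPR))

/-- If `H` contains the normalizer of the Sylow subgroup `P`, then `|H| = k |N(P)|` with
`k ≡ 1 (mod p)`. -/
theorem card_eq_mul_of_normalizer_le [Finite G] {p : ℕ} [Fact p.Prime] (P : Sylow p G)
    (H : Subgroup G) (hN : normalizer ((P : Subgroup G) : Set G) ≤ H) :
    ∃ k, k ≡ 1 [MOD p] ∧
      Nat.card H = k * Nat.card (normalizer ((P : Subgroup G) : Set G)) := by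
  have hPH : (P : Subgroup G) ≤ H := le_normalizer.trans hN
  have e1 : Nat.card (Sylow p H) =
      (normalizer (((P.subtype hPH : Sylow p H) : Subgroup H) : Set H)).index :=
    Sylow.card_eq_index_normalizer (P.subtype hPH)
  rw [Sylow.coe_subtype, ← subgroupOf_normalizer_eq hPH] at e1
  have hmod := card_sylow_modEq_one p H
  rw [e1] at hmod
  refine ⟨_, hmod, ?_⟩
  have h2 := relIndex_mul_relIndex ⊥ (normalizer ((P : Subgroup G) : Set G)) H bot_le hN
  rw [relIndex_bot_left, relIndex_bot_left] at h2
  rw [← h2, mul_comm]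
  rfl

/-- Fixed points of a cyclic group. -/
theorem fixedPoints_zpowers_eq (Ω : Type*) [MulAction G Ω] (a : G) :
    fixedPoints (zpowers a) Ω = fixedBy Ω a := by
  ext R
  rw [mem_fixedPoints, mem_fixedBy]
  constructor
  · intro h
    exact h ⟨a, mem_zpowers a⟩
  · rintro h ⟨m, hm⟩
    have : m ∈ stabilizer G R := (zpowers_le.mpr (mem_stabilizer_iff.mpr h)) hm
    exact mem_stabilizer_iff.mp this

/-- Conjugating an element of the centralizer by an element of the normalizer. -/
theorem conj_mem_centralizer (H : Subgroup G) {n c : G} (hn : n ∈ normalizer (H : Set G))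
    (hc : c ∈ centralizer (H : Set G)) : n * c * n⁻¹ ∈ centralizer (H : Set G) := by
  rw [mem_centralizer_iff]
  intro q hq
  have hq' : n⁻¹ * q * n ∈ H := (mem_normalizer_iff''.mp hn q).mp hq
  have h1 := (mem_centralizer_iff.mp hc) (n⁻¹ * q * n) hq'
  calc q * (n * c * n⁻¹) = n * ((n⁻¹ * q * n) * c) * n⁻¹ := by group
    _ = n * (c * (n⁻¹ * q * n)) * n⁻¹ := by rw [h1]
    _ = n * c * n⁻¹ * q := by group

/-- If `C(t) = N(P)` then `C(g t g⁻¹) = N(g • P)`. -/
theorem centralizer_conj_eq {p : ℕ} [Fact p.Prime] (P : Sylow p G) (t g : G)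
    (h : centralizer ({t} : Set G) = normalizer ((P : Subgroup G) : Set G)) :
    centralizer ({g * t * g⁻¹} : Set G) = normalizer (((g • P : Sylow p G) : Subgroup G) : Set G) := by
  ext n
  have h0 : n ∈ normalizer (((g • P : Sylow p G) : Subgroup G) : Set G) ↔ n • g • P = g • P :=
    Sylow.smul_eq_iff_mem_normalizer.symm
  have h1 : n • g • P = g • P ↔ (g⁻¹ * n * g) • P = P := by
    rw [mul_smul, mul_smul, inv_smul_eq_iff]
  have h3 : (g⁻¹ * n * g) • P = P ↔ g⁻¹ * n * g ∈ centralizer ({t} : Set G) := by
    rw [h]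
    exact Sylow.smul_eq_iff_mem_normalizer
  rw [mem_centralizer_singleton_iff, h0, h1, h3, mem_centralizer_singleton_iff]
  constructor
  · intro h2
    calc g⁻¹ * n * g * t = g⁻¹ * (n * (g * t * g⁻¹)) * g := by group
      _ = g⁻¹ * ((g * t * g⁻¹) * n) * g := by rw [h2]
      _ = t * (g⁻¹ * n * g) := by group
  · intro h2
    calc n * (g * t * g⁻¹) = g * ((g⁻¹ * n * g) * t) * g⁻¹ := by group
      _ = g * (t * (g⁻¹ * n * g)) * g⁻¹ := by rw [h2]
      _ = g * t * g⁻¹ * n := by group

end Cfsg.Agent.Helper8.SylAct
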