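import Cfsg.Agent.Helper8.TensD

set_option autoImplicit false
set_option linter.unusedSectionVars false
set_option linter.unusedVariables false

/-! Tensor decompositions (helper8), part F: stabilisers of fibres.  If the group `G` meets the
unipotent radical of the stabiliser of every fibre only in the root group (`¬ QQ'`), then an
element of `G` stabilising a fibre preserves the tensor decomposition. -/

namespace Cfsg.Agent.Helper8.Tens

open Module Cfsg.Agent.Helper7.ExtF

variable {F : Type*} [Field F] {U W V : Type*} [AddCommGroup U] [Module F U]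
  [AddCommGroup W] [Module F W] [AddCommGroup V] [Module F V]
  {t : U →ₗ[F] W →ₗ[F] V}

/-- the hypothesis (Q): the group meets the unipotent radical of the stabiliser of a fibre in more
than the root group. -/
def QQ' (ht : IsTensorProduct t) (G : Subgroup (V ≃ₗ[F] V)) : Prop :=
  ∃ g ∈ G, ∃ w₀ : W, w₀ ≠ 0 ∧ (∀ x, g x - x ∈ fib t w₀) ∧ (∀ x ∈ fib t w₀, g x = x) ∧
    ¬ ∃ δ : Module.Dual F W, ∀ x, g x = x + t (ev ht δ x) w₀

section

variable [FiniteDimensional F U] [FiniteDimensional F W] [FiniteDimensional F V]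

/-- the evaluations separate the points. -/
theorem eq_zero_of_ev (ht : IsTensorProduct t) {x : V} (h : ∀ l : Module.Dual F W, ev ht l x = 0) :
    x = 0 := by
  classical
  set b := Module.finBasis F W with hb
  have key : ∀ x : V, x = ∑ j, t (ev ht (b.coord j) x) (b j) := by
    intro x
    refine ht.inductionOn x ?_ ?_ ?_
    · simp
    · intro u w
      simp only [ev_t, Basis.coord_apply, map_smul, LinearMap.smul_apply]
      conv_lhs => rw [← b.sum_repr w]
      rw [map_sum]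
      refine Finset.sum_congr rfl fun j _ => ?_
      rw [map_smul]
    · intro x y hx hy
      simp only [map_add, LinearMap.add_apply, Finset.sum_add_distrib]
      rw [← hx, ← hy]
  rw [key x]
  simp [h]

/-- membership in a fibre in terms of the evaluations. -/
theorem mem_fib_iff_ev (ht : IsTensorProduct t) {w₀ : W} (hw₀ : w₀ ≠ 0) {x : V} :
    x ∈ fib t w₀ ↔ ∀ l : Module.Dual F W, l w₀ = 0 → ev ht l x = 0 := by
  constructor
  · intro hx l hl
    exact ev_eq_zero_of_mem_fib ht hl hx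
  · intro h
    obtain ⟨l₀, hl₀⟩ := exists_dual_eq_one (F := F) hw₀
    have hx : x - t (ev ht l₀ x) w₀ = 0 := by
      apply eq_zero_of_ev ht
      intro l
      have h1 : (l - l w₀ • l₀) w₀ = 0 := by
        rw [LinearMap.sub_apply, LinearMap.smul_apply, hl₀, smul_eq_mul, mul_one, sub_self]
      have h2 : ev ht l x = l w₀ • ev ht l₀ x := by
        have : ev ht l = ev ht (l - l w₀ • l₀) + l w₀ • ev ht l₀ := by
          rw [← ev_smul, ← ev_add]; congr 1; abel
        rw [this, LinearMap.add_apply, h _ h1, zero_add, LinearMap.smul_apply]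
      rw [map_sub, ev_t, h2, sub_self]
    rw [sub_eq_zero] at hx
    rw [hx]; exact t_mem_fib _ _

/-- `det (1 + P N) = 1` when `N P = 0`. -/
theorem det_one_add_comp (P : U →ₗ[F] V) (N : V →ₗ[F] U) (h : N.comp P = 0) :
    LinearMap.det (1 + P.comp N) = 1 := by
  classical
  set bU := Module.finBasis F U
  set bV := Module.finBasis F V
  rw [← LinearMap.det_toMatrix bV, map_add, LinearMap.toMatrix_comp bV bU bV]
  have h1 : LinearMap.toMatrix bV bV (1 : V →ₗ[F] V) = 1 := LinearMap.toMatrix_one bV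
  rw [h1, Matrix.det_one_add_mul_comm, ← LinearMap.toMatrix_comp bU bV bU, h, map_zero, add_zero,
    Matrix.det_one]

/-- the image of a fibre under a root element. -/
theorem img_xB_fib (ht : IsTensorProduct t) (w₁ : W) (l : Module.Dual F W) (h : l w₁ = 0) (w : W) :
    img (xB ht w₁ l h) (fib t w) = fib t (w + l w • w₁) := by
  rw [xB_eq_tmap]
  have := map_fib_tmap ht (LinearEquiv.refl F U) (LinearEquiv.transvection h) w
  rw [LinearEquiv.transvection.apply] at this
  exact this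

/-- the automorphism of `U` induced by an element stabilising a fibre. -/
theorem exists_A (ht : IsTensorProduct t) {g : V ≃ₗ[F] V} {w₀ : W} (hw₀ : w₀ ≠ 0)
    (hS : img g (fib t w₀) = fib t w₀) : ∃ A : U ≃ₗ[F] U, ∀ u, g (t u w₀) = t (A u) w₀ := by
  obtain ⟨l₀, hl₀⟩ := exists_dual_eq_one (F := F) hw₀
  set A₀ : U →ₗ[F] U := (ev ht l₀).comp ((g : V →ₗ[F] V).comp (t.flip w₀)) with hA₀
  have hA : ∀ u, g (t u w₀) = t (A₀ u) w₀ := by
    intro u
    have hmem : g (t u w₀) ∈ fib t w₀ := by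
      rw [← hS]; exact apply_mem_img (t_mem_fib u w₀)
    obtain ⟨u', hu'⟩ := mem_fib.mp hmem
    have : A₀ u = u' := by
      rw [hA₀, LinearMap.comp_apply, LinearMap.comp_apply, LinearMap.flip_apply,
        LinearEquiv.coe_coe, ← hu', ev_t, hl₀, one_smul]
    rw [this, hu']
  have hinj : Function.Injective A₀ := by
    rw [injective_iff_map_eq_zero]
    intro u hu
    have := hA u
    rw [hu, LinearMap.map_zero₂] at this
    have h2 : t u w₀ = 0 := by
      have h3 : g (t u w₀) = g 0 := by rw [this, map_zero]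
      exact g.injective h3
    rcases (t_eq_zero_iff ht).mp h2 with h4 | h4
    · exact h4
    · exact absurd h4 hw₀
  refine ⟨LinearEquiv.ofInjectiveEndo A₀ hinj, fun u => ?_⟩
  rw [hA u]; rfl

/-- the relation between the evaluations before and after an element stabilising a fibre. -/
theorem exists_ev_rel (ht : IsTensorProduct t) (G : Subgroup (V ≃ₗ[F] V))
    (hz : ∀ w l h, xB ht w l h ∈ G) (hQ : ¬ QQ' ht G) {g : V ≃ₗ[F] V} (hg : g ∈ G) {w₀ : W}
    (hw₀ : w₀ ≠ 0) (hS : img g (fib t w₀) = fib t w₀) {A : U ≃ₗ[F] U}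
    (hA : ∀ u, g (t u w₀) = t (A u) w₀) {β : Module.Dual F W} (hβ : β w₀ = 0) :
    ∃ δ : Module.Dual F W, ∀ y, ev ht δ (g y) = A (ev ht β y) := by
  set g' := g * xB ht w₀ β hβ * g⁻¹ with hg'
  have hg'G : g' ∈ G := G.mul_mem (G.mul_mem hg (hz _ _ _)) (G.inv_mem hg)
  have hS' : img g⁻¹ (fib t w₀) = fib t w₀ := by
    conv_lhs => rw [← hS]
    rw [img_inv_img]
  have happ : ∀ x, g' x = x + g (t (ev ht β (g⁻¹ x)) w₀) := by
    intro x
    rw [hg', LinearEquiv.mul_apply, LinearEquiv.mul_apply, xB_apply, map_add]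
    congr 1
    rw [← LinearEquiv.mul_apply g g⁻¹, mul_inv_cancel]; rfl
  have h1 : ∀ x, g' x - x ∈ fib t w₀ := by
    intro x
    rw [happ, add_sub_cancel_left, hA]; exact t_mem_fib _ _
  have h2 : ∀ x ∈ fib t w₀, g' x = x := by
    intro x hx
    have : g⁻¹ x ∈ fib t w₀ := by rw [← hS']; exact apply_mem_img hx
    rw [happ, ev_eq_zero_of_mem_fib ht hβ this, LinearMap.map_zero₂, map_zero, add_zero]
  have h3 : ∃ δ : Module.Dual F W, ∀ x, g' x = x + t (ev ht δ x) w₀ := by
    by_contra hcon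
    exact hQ ⟨g', hg'G, w₀, hw₀, h1, h2, hcon⟩
  obtain ⟨δ, hδ⟩ := h3
  refine ⟨δ, fun y => ?_⟩
  have h4 := hδ (g y)
  rw [happ] at h4
  have e : g⁻¹ (g y) = y := by
    rw [← LinearEquiv.mul_apply g⁻¹ g, inv_mul_cancel]; rfl
  rw [e, hA] at h4
  have h5 := add_left_cancel h4
  exact (t_left_injective ht hw₀ h5).symm

/-- **[STAB]**: an element of `G` stabilising a fibre preserves the tensor decomposition. -/
theorem stab_abstract (ht : IsTensorProduct t) (hU : 1 ≤ finrank F U)
    (G : Subgroup (V ≃ₗ[F] V)) (hz : ∀ w l h, xB ht w l h ∈ G)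
    (hM : ∀ (A : U ≃ₗ[F] U) (B : W ≃ₗ[F] W),
      LinearMap.det ((tmap ht A B : V ≃ₗ[F] V) : V →ₗ[F] V) = 1 → tmap ht A B ∈ G)
    (hdet : ∀ g ∈ G, LinearMap.det ((g : V ≃ₗ[F] V) : V →ₗ[F] V) = 1)
    (hQ : ¬ QQ' ht G) {g : V ≃ₗ[F] V} (hg : g ∈ G) {w₀ : W} (hw₀ : w₀ ≠ 0)
    (hS : img g (fib t w₀) = fib t w₀) : IsTens t g := by
  obtain ⟨A, hA⟩ := exists_A ht hw₀ hS
  have hS' : img g⁻¹ (fib t w₀) = fib t w₀ := by
    conv_lhs => rw [← hS]
    rw [img_inv_img]
  obtain ⟨A', hA'⟩ := exists_A ht hw₀ hS'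
  have hAA' : ∀ u, A (A' u) = u := by
    intro u
    have h1 : g (g⁻¹ (t u w₀)) = t u w₀ := by
      rw [← LinearEquiv.mul_apply g g⁻¹, mul_inv_cancel]; rfl
    rw [hA', hA] at h1
    exact t_left_injective ht hw₀ h1
  -- (**): every `δ ⊥ w₀` comes from some `β`
  have hstar : ∀ δ : Module.Dual F W, δ w₀ = 0 →
      ∃ β : Module.Dual F W, ∀ y, ev ht δ (g y) = A (ev ht β y) := by
    intro δ hδ
    obtain ⟨β, hβ⟩ := exists_ev_rel ht G hz hQ (G.inv_mem hg) hw₀ hS' hA' hδ
    refine ⟨β, fun y => ?_⟩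
    have := hβ (g y)
    have e : g⁻¹ (g y) = y := by
      rw [← LinearEquiv.mul_apply g⁻¹ g, inv_mul_cancel]; rfl
    rw [e] at this
    rw [this, hAA']
  obtain ⟨u₀, hu₀⟩ := exists_ne_zero_of_one_le (F := F) (M := U) hU
  have hAu₀ : A u₀ ≠ 0 := by
    intro h; apply hu₀
    have : A u₀ = A 0 := by rw [h, map_zero]
    exact A.injective this
  obtain ⟨α₁, hα₁⟩ := exists_dual_eq_one (F := F) hAu₀
  set B₀ : W →ₗ[F] W := (evU ht α₁).comp ((g : V →ₗ[F] V).comp (t u₀)) with hB₀
  have hB₀app : ∀ w, B₀ w = evU ht α₁ (g (t u₀ w)) := fun w => rfl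
  -- C1
  have hC1 : ∀ u w, g (t u w) - t (A u) (B₀ w) ∈ fib t w₀ := by
    intro u w
    rw [mem_fib_iff_ev ht hw₀]
    intro δ hδ
    obtain ⟨β, hβ⟩ := hstar δ hδ
    have h1 : δ (B₀ w) = β w := by
      rw [hB₀app, ← ev_evU, hβ, ev_t, map_smul, map_smul, hα₁, smul_eq_mul, mul_one]
    rw [map_sub, hβ, ev_t, ev_t, h1, map_smul, sub_self]
  have hB₀w₀ : B₀ w₀ = w₀ := by
    rw [hB₀app, hA, evU_t, hα₁, one_smul]
  have hB₀inj : Function.Injective B₀ := by
    rw [injective_iff_map_eq_zero]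
    intro w hw
    have h1 : g (t u₀ w) ∈ fib t w₀ := by
      have := hC1 u₀ w
      rw [hw, map_zero, sub_zero] at this
      exact this
    have h2 : t u₀ w ∈ fib t w₀ := by
      have := apply_mem_img (g := g⁻¹) h1
      rw [hS'] at this
      have e : g⁻¹ (g (t u₀ w)) = t u₀ w := by
        rw [← LinearEquiv.mul_apply g⁻¹ g, inv_mul_cancel]; rfl
      rwa [e] at this
    obtain ⟨c, hc⟩ := span_of_t_mem_fib ht hu₀ h2
    rw [hc, map_smul, hB₀w₀] at hw
    rcases smul_eq_zero.mp hw with h3 | h3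
    · rw [hc, h3, zero_smul]
    · exact absurd h3 hw₀
  set B : W ≃ₗ[F] W := LinearEquiv.ofInjectiveEndo B₀ hB₀inj with hB
  have hBapp : ∀ w, B w = B₀ w := fun w => rfl
  set mm := tmap ht A B with hmm
  have hgm : ∀ x, g x - mm x ∈ fib t w₀ := by
    intro x
    refine ht.inductionOn x ?_ ?_ ?_
    · simp
    · intro u w
      rw [hmm, tmap_t, hBapp]; exact hC1 u w
    · intro x y hx hy
      have : g (x + y) - mm (x + y) = (g x - mm x) + (g y - mm y) := by
        rw [map_add, map_add]; abel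
      rw [this]; exact Submodule.add_mem _ hx hy
  have hmmS : img mm⁻¹ (fib t w₀) = fib t w₀ := by
    have h1 : img mm (fib t w₀) = fib t w₀ := by
      have := map_fib_tmap ht A B w₀
      rw [hBapp, hB₀w₀] at this
      exact this
    conv_lhs => rw [← h1]
    rw [img_inv_img]
  set q := mm⁻¹ * g with hq
  have hq1 : ∀ x, q x - x ∈ fib t w₀ := by
    intro x
    have e : q x - x = mm⁻¹ (g x - mm x) := by
      rw [hq, LinearEquiv.mul_apply, map_sub]
      congr 1
      rw [← LinearEquiv.mul_apply mm⁻¹ mm, inv_mul_cancel]; rfl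
    rw [e, ← hmmS]; exact apply_mem_img (hgm x)
  have hq2 : ∀ x ∈ fib t w₀, q x = x := by
    intro x hx
    obtain ⟨u, rfl⟩ := mem_fib.mp hx
    have h1 : g (t u w₀) = mm (t u w₀) := by
      rw [hA, hmm, tmap_t, hBapp, hB₀w₀]
    rw [hq, LinearEquiv.mul_apply, h1, ← LinearEquiv.mul_apply mm⁻¹ mm, inv_mul_cancel]; rfl
  -- determinant of `q`
  obtain ⟨l₀, hl₀⟩ := exists_dual_eq_one (F := F) hw₀
  have hdetq : LinearMap.det ((q : V ≃ₗ[F] V) : V →ₗ[F] V) = 1 := by
    set Φ : V →ₗ[F] V := (q : V →ₗ[F] V) - 1 with hΦ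
    set P : U →ₗ[F] V := t.flip w₀ with hP
    set N : V →ₗ[F] U := (ev ht l₀).comp Φ with hN
    have hPN : P.comp N = Φ := by
      apply LinearMap.ext; intro x
      have hx : Φ x ∈ fib t w₀ := hq1 x
      obtain ⟨u, hu⟩ := mem_fib.mp hx
      rw [LinearMap.comp_apply, hN, LinearMap.comp_apply, ← hu, ev_t, hl₀, one_smul, hP,
        LinearMap.flip_apply]
    have hNP : N.comp P = 0 := by
      apply LinearMap.ext; intro u
      have : Φ (t u w₀) = 0 := by
        rw [hΦ, LinearMap.sub_apply, LinearEquiv.coe_coe, hq2 _ (t_mem_fib u w₀),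
          Module.End.one_apply, sub_self]
      rw [LinearMap.comp_apply, hN, LinearMap.comp_apply, hP, LinearMap.flip_apply, this,
        map_zero, LinearMap.zero_apply]
    have := det_one_add_comp P N hNP
    rw [hPN, hΦ] at this
    simpa using this
  have hdetmm : LinearMap.det ((mm : V ≃ₗ[F] V) : V →ₗ[F] V) = 1 := by
    have h1 : (g : V →ₗ[F] V) = (mm : V →ₗ[F] V) * (q : V →ₗ[F] V) := by
      rw [← toLin_mul, hq, mul_inv_cancel_left]
    have h2 := hdet g hg
    rw [h1, map_mul, hdetq, mul_one] at h2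
    exact h2
  have hmmG : mm ∈ G := hM A B hdetmm
  have hqG : q ∈ G := G.mul_mem (G.inv_mem hmmG) hg
  have h3 : ∃ δ : Module.Dual F W, ∀ x, q x = x + t (ev ht δ x) w₀ := by
    by_contra hcon
    exact hQ ⟨q, hqG, w₀, hw₀, hq1, hq2, hcon⟩
  obtain ⟨δ, hδ⟩ := h3
  have hδw₀ : δ w₀ = 0 := by
    have h4 := hδ (t u₀ w₀)
    rw [hq2 _ (t_mem_fib u₀ w₀), ev_t] at h4
    have h5 : t (δ w₀ • u₀) w₀ = 0 := by
      have := h4.symm
      rwa [add_eq_left] at this
    rcases (t_eq_zero_iff ht).mp h5 with h6 | h6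
    · rcases smul_eq_zero.mp h6 with h7 | h7
      · exact h7
      · exact absurd h7 hu₀
    · exact absurd h6 hw₀
  have hqx : q = xB ht w₀ δ hδw₀ := by
    apply LinearEquiv.ext; intro x
    rw [hδ, xB_apply]
  have hqT : IsTens t q := by
    rw [hqx, xB_eq_tmap]; exact isTens_tmap ht _ _
  have hgq : g = mm * q := by rw [hq, mul_inv_cancel_left]
  rw [hgq]
  exact (isTens_tmap ht A B).mul ht hqT

end

end Cfsg.Agent.Helper8.Tens
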