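import Cfsg.Agent.Helper8.TensSB

set_option autoImplicit false
set_option linter.unusedSectionVars false
set_option linter.unusedVariables false

/-! Tensor decompositions with forms (helper8), part SC: rank-one calculus for an alternating
form.  `P f a b : x ↦ f x b • a`, the products `P a b * P c d = f c b • P a d`, the symmetric
and alternating combinations `sv`, `av`, conjugation by a transvection, adjoints. -/

namespace Cfsg.Agent.Helper8.Tens

open Module Cfsg.Agent.Helper3.TensOm

variable {F : Type*} [Field F] {X : Type*} [AddCommGroup X] [Module F X]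

/-- the rank-one endomorphism `x ↦ f x b • a`. -/
def P (f : LinearMap.BilinForm F X) (a b : X) : Module.End F X := (f.flip b).smulRight a

@[simp] theorem P_apply (f : LinearMap.BilinForm F X) (a b x : X) : P f a b x = f x b • a := rfl

theorem P_mul (f : LinearMap.BilinForm F X) (a b c d : X) :
    P f a b * P f c d = f c b • P f a d := by
  apply LinearMap.ext; intro x
  simp [smul_smul, mul_comm]

theorem P_add_left (f : LinearMap.BilinForm F X) (a a' b : X) :
    P f (a + a') b = P f a b + P f a' b := by
  apply LinearMap.ext; intro x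
  simp

theorem P_add_right (f : LinearMap.BilinForm F X) (a b b' : X) :
    P f a (b + b') = P f a b + P f a b' := by
  apply LinearMap.ext; intro x
  simp [add_smul]

theorem P_smul_left (f : LinearMap.BilinForm F X) (c : F) (a b : X) :
    P f (c • a) b = c • P f a b := by
  apply LinearMap.ext; intro x
  rw [P_apply, LinearMap.smul_apply, P_apply, smul_comm]

theorem P_smul_right (f : LinearMap.BilinForm F X) (c : F) (a b : X) :
    P f a (c • b) = c • P f a b := by
  apply LinearMap.ext; intro x
  rw [P_apply, LinearMap.smul_apply, P_apply, map_smul, smul_eq_mul, smul_smul, mul_comm]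

theorem P_sq {f : LinearMap.BilinForm F X} (halt : ∀ x, f x x = 0) (a : X) :
    P f a a * P f a a = 0 := by
  rw [P_mul, halt, zero_smul]

/-- `u ∨ v : x ↦ f x v • u + f x u • v`. -/
def sv (f : LinearMap.BilinForm F X) (u v : X) : Module.End F X := P f u v + P f v u

/-- `w ∧ z : x ↦ f x z • w - f x w • z`. -/
def av (f : LinearMap.BilinForm F X) (w z : X) : Module.End F X := P f w z - P f z w

@[simp] theorem sv_apply (f : LinearMap.BilinForm F X) (u v x : X) :
    sv f u v x = f x v • u + f x u • v := rfl

@[simp] theorem av_apply (f : LinearMap.BilinForm F X) (w z x : X) :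
    av f w z x = f x z • w - f x w • z := rfl

theorem sv_sq {f : LinearMap.BilinForm F X} (halt : ∀ x, f x x = 0) {u v : X} (h : f u v = 0) :
    sv f u v * sv f u v = 0 := by
  have h' : f v u = 0 := alt_perp_symm f halt h
  unfold sv
  rw [mul_add, add_mul, add_mul, P_mul, P_mul, P_mul, P_mul, h, h', halt, halt]
  simp

theorem av_sq {f : LinearMap.BilinForm F X} (halt : ∀ x, f x x = 0) {w z : X} (h : f w z = 0) :
    av f w z * av f w z = 0 := by
  have h' : f z w = 0 := alt_perp_symm f halt h
  unfold av
  rw [mul_sub, sub_mul, sub_mul, P_mul, P_mul, P_mul, P_mul, h, h', halt, halt]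
  simp

/-- the transvection `1 + c • P e e` as an endomorphism. -/
def Tv (f : LinearMap.BilinForm F X) (e : X) (c : F) : Module.End F X := 1 + c • P f e e

@[simp] theorem Tv_apply (f : LinearMap.BilinForm F X) (e : X) (c : F) (x : X) :
    Tv f e c x = x + (c * f x e) • e := by
  simp [Tv, smul_smul]

theorem Tv_mul_neg {f : LinearMap.BilinForm F X} (halt : ∀ x, f x x = 0) (e : X) (c : F) :
    Tv f e c * Tv f e (-c) = 1 := by
  apply LinearMap.ext; intro x
  simp [halt]

theorem Tv_isom {f : LinearMap.BilinForm F X} (halt : ∀ x, f x x = 0) (e : X) (c : F) (x y : X) :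
    f (Tv f e c x) (Tv f e c y) = f x y := by
  rw [Tv_apply, Tv_apply]
  simp only [map_add, LinearMap.add_apply, map_smul, LinearMap.smul_apply, smul_eq_mul, halt]
  rw [alt_skew f halt e y]
  ring

/-- conjugation of a rank-one endomorphism by a transvection. -/
theorem Tv_conj_P {f : LinearMap.BilinForm F X} (halt : ∀ x, f x x = 0) (e : X) (c : F)
    (a b : X) : Tv f e c * P f a b * Tv f e (-c) = P f (Tv f e c a) (Tv f e c b) := by
  apply LinearMap.ext; intro x
  have h1 : f (Tv f e (-c) x) b = f x (Tv f e c b) := by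
    have := Tv_isom halt e c (Tv f e (-c) x) b
    rw [← this]
    have h2 : Tv f e c (Tv f e (-c) x) = x := LinearMap.congr_fun (Tv_mul_neg halt e c) x
    rw [h2]
  rw [Module.End.mul_apply, Module.End.mul_apply, P_apply, map_smul, h1, P_apply]

theorem Tv_conj_sv {f : LinearMap.BilinForm F X} (halt : ∀ x, f x x = 0) (e : X) (c : F)
    (a b : X) : Tv f e c * sv f a b * Tv f e (-c) = sv f (Tv f e c a) (Tv f e c b) := by
  unfold sv
  rw [mul_add, add_mul, Tv_conj_P halt, Tv_conj_P halt]

theorem Tv_conj_av {f : LinearMap.BilinForm F X} (halt : ∀ x, f x x = 0) (e : X) (c : F)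
    (a b : X) : Tv f e c * av f a b * Tv f e (-c) = av f (Tv f e c a) (Tv f e c b) := by
  unfold av
  rw [mul_sub, sub_mul, Tv_conj_P halt, Tv_conj_P halt]

/-- adjoint pairs for `f`. -/
def IsAdj (f : LinearMap.BilinForm F X) (C C' : Module.End F X) : Prop :=
  ∀ x y, f (C x) y = f x (C' y)

theorem IsAdj.symm' {f : LinearMap.BilinForm F X} (halt : ∀ x, f x x = 0) {C C' : Module.End F X}
    (h : IsAdj f C C') (x y : X) : f x (C y) = f (C' x) y := by
  rw [alt_skew f halt, h, alt_skew f halt y]
  simp

theorem isAdj_P {f : LinearMap.BilinForm F X} (halt : ∀ x, f x x = 0) (a b : X) :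
    IsAdj f (P f a b) (- P f b a) := by
  intro x y
  simp only [P_apply, map_smul, LinearMap.smul_apply, smul_eq_mul, LinearMap.neg_apply, map_neg]
  rw [alt_skew f halt a y]
  ring

theorem isAdj_sv {f : LinearMap.BilinForm F X} (halt : ∀ x, f x x = 0) (a b : X) :
    IsAdj f (sv f a b) (- sv f a b) := by
  intro x y
  simp only [sv_apply, map_add, map_smul, LinearMap.add_apply, LinearMap.smul_apply, smul_eq_mul,
    LinearMap.neg_apply, map_neg]
  rw [alt_skew f halt a y, alt_skew f halt b y]
  ring

theorem IsAdj.add {f : LinearMap.BilinForm F X} {C C' D D' : Module.End F X}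
    (h : IsAdj f C C') (h' : IsAdj f D D') : IsAdj f (C + D) (C' + D') := by
  intro x y
  simp only [LinearMap.add_apply, map_add, h x y, h' x y]

theorem IsAdj.sub {f : LinearMap.BilinForm F X} {C C' D D' : Module.End F X}
    (h : IsAdj f C C') (h' : IsAdj f D D') : IsAdj f (C - D) (C' - D') := by
  intro x y
  simp only [LinearMap.sub_apply, map_sub, h x y, h' x y]

theorem IsAdj.smul {f : LinearMap.BilinForm F X} {C C' : Module.End F X}
    (h : IsAdj f C C') (c : F) : IsAdj f (c • C) (c • C') := by
  intro x y
  simp only [LinearMap.smul_apply, map_smul, smul_eq_mul, h x y]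

theorem IsAdj.mul {f : LinearMap.BilinForm F X} {C C' D D' : Module.End F X}
    (h : IsAdj f C C') (h' : IsAdj f D D') : IsAdj f (C * D) (D' * C') := by
  intro x y
  simp only [Module.End.mul_apply, h _ _, h' _ _]

theorem isAdj_one (f : LinearMap.BilinForm F X) : IsAdj f 1 1 := fun _ _ => rfl

theorem isAdj_Tv {f : LinearMap.BilinForm F X} (halt : ∀ x, f x x = 0) (e : X) (c : F) :
    IsAdj f (Tv f e c) (Tv f e (-c)) := by
  intro x y
  have := Tv_isom halt e c x (Tv f e (-c) y)
  rw [← this]
  have h2 : Tv f e c (Tv f e (-c) y) = y := LinearMap.congr_fun (Tv_mul_neg halt e c) y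
  rw [h2]

/-- existence of the adjoint for a non-degenerate alternating form in finite dimension. -/
theorem exists_adj [FiniteDimensional F X] {f : LinearMap.BilinForm F X}
    (halt : ∀ x, f x x = 0) (hnd : ∀ x, (∀ y, f x y = 0) → x = 0) (C : Module.End F X) :
    ∃ C' : Module.End F X, IsAdj f C C' := by
  have hnd' : f.Nondegenerate := by
    refine ⟨hnd, fun y hy => hnd y (fun x => ?_)⟩
    rw [alt_skew f halt, hy, neg_zero]
  refine ⟨f.leftAdjointOfNondegenerate hnd' C, fun x y => ?_⟩
  have h := LinearMap.BilinForm.isAdjointPairLeftAdjointOfNondegenerate f hnd' C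
  have h1 : f (f.leftAdjointOfNondegenerate hnd' C y) x = f y (C x) := h y x
  rw [alt_skew f halt, ← h1, alt_skew f halt]
  simp

end Cfsg.Agent.Helper8.Tens
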