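import Mathlib
import Cfsg.Prelude.Def_Characters
import Cfsg.Prelude.Def_Blocks
import Cfsg.Agent.Helper6.RobC
import Cfsg.Agent.Helper6.ColumnOrth
import Cfsg.Agent.Helper6.KleinFourB
import Cfsg.Agent.Helper6.BlockPart

/-!
# M11 cluster, INV-ID: the two involution identities in abstract form

`u` an involution, `s` an element with two exceptional characters `Λ₁, Λ₂` taking the irrational
conjugate values `ε x, ε y` (`x + y = -1`) at `s`, all other irreducible characters being integral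
at `s`, and no product of two conjugates of `u` equal to `s`.  Then `Λ₁(u) = Λ₂(u) = ℓ` and the
two linear/quadratic relations between the values at `u` hold.
-/

set_option autoImplicit false
set_option linter.style.haveILetI false

namespace Cfsg.Agent.Helper2.M11

open scoped ComplexConjugate
open Cfsg.Agent.Helper6

universe u

theorem inv_identities {G : Type u} [Group G] [Fintype G] [Fintype (Cfsg.IrrCharacter G)]
    (u s : G) (hu : orderOf u = 2) (hus : ¬ IsConj u s)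
    (hprod : ∀ x y : G, IsConj u x → IsConj u y → x * y ≠ s)
    (Λ₁ Λ₂ : Cfsg.IrrCharacter G) (hΛ : Λ₁ ≠ Λ₂) (hdeg : (Λ₁ : G → ℂ) 1 = (Λ₂ : G → ℂ) 1)
    (c : Cfsg.IrrCharacter G → ℤ)
    (hc : ∀ χ : Cfsg.IrrCharacter G, χ ≠ Λ₁ → χ ≠ Λ₂ → (χ : G → ℂ) s = (c χ : ℂ))
    (x y : ℂ) (ε : ℤ) (hε : ε = 1 ∨ ε = -1) (h1 : (Λ₁ : G → ℂ) s = ε * x)
    (h2 : (Λ₂ : G → ℂ) s = ε * y) (hxy : x + y = -1) (hirr : ∀ r : ℚ, x ≠ r) :
    ∃ (a : Cfsg.IrrCharacter G → ℤ) (ℓ : ℤ),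
      (∀ χ : Cfsg.IrrCharacter G, (χ : G → ℂ) u = (a χ : ℂ)) ∧ a Λ₁ = ℓ ∧ a Λ₂ = ℓ ∧
      ∑ χ ∈ Finset.univ.filter (fun χ : Cfsg.IrrCharacter G => χ ≠ Λ₁ ∧ χ ≠ Λ₂), c χ * a χ
        = ε * ℓ ∧
      ∑ χ ∈ Finset.univ.filter (fun χ : Cfsg.IrrCharacter G => χ ≠ Λ₁ ∧ χ ≠ Λ₂),
          (c χ : ℚ) * (a χ : ℚ) ^ 2 / (Cfsg.charDegree (χ : G → ℂ) : ℚ)
        = (ε : ℚ) * (ℓ : ℚ) ^ 2 / (Cfsg.charDegree (Λ₁ : G → ℂ) : ℚ) := by
  classical
  have hex : ∀ χ : Cfsg.IrrCharacter G, ∃ v : ℤ, (χ : G → ℂ) u = (v : ℂ) :=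
    fun χ => char_involution_int (IsIrrCharacter.isCharacter χ.2) u hu
  choose a ha using hex
  set F : Finset (Cfsg.IrrCharacter G) :=
    Finset.univ.filter (fun χ : Cfsg.IrrCharacter G => χ ≠ Λ₁ ∧ χ ≠ Λ₂) with hF
  have hFc : Finset.univ.filter (fun χ : Cfsg.IrrCharacter G => ¬ (χ ≠ Λ₁ ∧ χ ≠ Λ₂)) =
      {Λ₁, Λ₂} := by
    ext χ
    simp only [Finset.mem_filter, Finset.mem_univ, true_and, Finset.mem_insert,
      Finset.mem_singleton]
    tauto
  have hsplit : ∀ f : Cfsg.IrrCharacter G → ℂ, ∑ χ, f χ = ∑ χ ∈ F, f χ + f Λ₁ + f Λ₂ := by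
    intro f
    rw [← Finset.sum_filter_add_sum_filter_not Finset.univ
      (fun χ : Cfsg.IrrCharacter G => χ ≠ Λ₁ ∧ χ ≠ Λ₂) f, hFc, Finset.sum_pair hΛ, add_assoc]
  have hFmem : ∀ χ ∈ F, χ ≠ Λ₁ ∧ χ ≠ Λ₂ := fun χ hχ => (Finset.mem_filter.mp hχ).2
  have hεsq : (ε : ℂ) * (ε : ℂ) = 1 := by
    rcases hε with h | h <;> rw [h] <;> norm_num
  have hε0 : (ε : ℂ) ≠ 0 := by
    rcases hε with h | h <;> rw [h] <;> norm_num
  -- conjugates
  set X : ℂ := conj x with hX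
  have hY : conj y = -1 - X := by
    have : conj (x + y) = conj (-1 : ℂ) := by rw [hxy]
    rw [map_add, map_neg, map_one] at this
    rw [hX]
    linear_combination this
  have hXirr : ∀ r : ℚ, X ≠ r := by
    intro r hr
    apply hirr r
    have : conj X = conj (r : ℂ) := by rw [hr]
    rw [hX, Complex.conj_conj, map_ratCast] at this
    exact this
  -- column (u, s)
  have hcol := column_orthogonality_aux u s
  rw [if_neg hus, hsplit] at hcol
  have hcolF : ∑ χ ∈ F, (χ : G → ℂ) u * conj ((χ : G → ℂ) s) =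
      ((∑ χ ∈ F, c χ * a χ : ℤ) : ℂ) := by
    push_cast
    apply Finset.sum_congr rfl
    intro χ hχ
    obtain ⟨n1, n2⟩ := hFmem χ hχ
    rw [ha χ, hc χ n1 n2, map_intCast]
    ring
  rw [hcolF, ha Λ₁, ha Λ₂, h1, h2, map_mul, map_mul, map_intCast, hY] at hcol
  set A : ℤ := ∑ χ ∈ F, c χ * a χ with hA
  -- (A - ε a₂) + ε (a₁ - a₂) X = 0
  have hlin : ((A - ε * a Λ₂ : ℤ) : ℂ) + ((ε * (a Λ₁ - a Λ₂) : ℤ) : ℂ) * X = 0 := by
    push_cast
    linear_combination hcol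
  have haeq : a Λ₁ = a Λ₂ := by
    by_contra hne
    have hk : (ε * (a Λ₁ - a Λ₂) : ℤ) ≠ 0 := by
      apply mul_ne_zero
      · rcases hε with h | h <;> rw [h] <;> norm_num
      · exact sub_ne_zero.mpr hne
    have hkC : ((ε * (a Λ₁ - a Λ₂) : ℤ) : ℂ) ≠ 0 := by exact_mod_cast hk
    have hkC' : ((ε : ℂ) * ((a Λ₁ : ℂ) - (a Λ₂ : ℂ))) ≠ 0 := by
      have := hkC
      push_cast at this
      exact this
    apply hXirr ((-(A - ε * a Λ₂ : ℤ) : ℚ) / ((ε * (a Λ₁ - a Λ₂) : ℤ) : ℚ))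
    push_cast
    rw [eq_div_iff hkC']
    push_cast at hlin
    linear_combination hlin
  have hAeq : A = ε * a Λ₂ := by
    rw [haeq, sub_self, mul_zero] at hlin
    have : ((A - ε * a Λ₂ : ℤ) : ℂ) = 0 := by
      simpa using hlin
    have h0 : A - ε * a Λ₂ = 0 := by exact_mod_cast this
    linarith
  refine ⟨a, a Λ₂, ha, haeq, rfl, hAeq, ?_⟩
  -- class multiplication
  have hcm := Rob.class_mult_count' u u s
  have hzero : ∑ x ∈ classFinset u, ∑ y ∈ classFinset u,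
      (if x * y = s then (1 : ℂ) else 0) = 0 := by
    apply Finset.sum_eq_zero
    intro x hx
    apply Finset.sum_eq_zero
    intro y hy
    rw [if_neg (hprod x y ((mem_classFinset u x).mp hx) ((mem_classFinset u y).mp hy))]
  rw [hzero] at hcm
  have hidx : ((Subgroup.centralizer ({u} : Set G)).index : ℂ) ≠ 0 := by
    have : (Subgroup.centralizer ({u} : Set G)).index ≠ 0 := Subgroup.index_ne_zero_of_finite
    exact_mod_cast this
  have hG0 : (Nat.card G : ℂ) ≠ 0 := by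
    have : 0 < Nat.card G := Nat.card_pos
    exact_mod_cast this.ne'
  have hone : ∀ χ : Cfsg.IrrCharacter G, (χ : G → ℂ) 1 ≠ 0 :=
    fun χ => IsIrrCharacter.apply_one_ne_zero χ.2
  have hsum0 : ∑ χ : Cfsg.IrrCharacter G,
      (χ : G → ℂ) u * (χ : G → ℂ) u * conj ((χ : G → ℂ) s) / (χ : G → ℂ) 1 = 0 := by
    have hrew : ∑ χ : Cfsg.IrrCharacter G, (χ : G → ℂ) 1 *
        (Cfsg.centralChar (χ : G → ℂ) u * Cfsg.centralChar (χ : G → ℂ) u *
          conj ((χ : G → ℂ) s)) =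
        ((Subgroup.centralizer ({u} : Set G)).index : ℂ) ^ 2 *
          ∑ χ : Cfsg.IrrCharacter G,
            (χ : G → ℂ) u * (χ : G → ℂ) u * conj ((χ : G → ℂ) s) / (χ : G → ℂ) 1 := by
      rw [Finset.mul_sum]
      apply Finset.sum_congr rfl
      intro χ _
      unfold Cfsg.centralChar
      have := hone χ
      field_simp
    rw [hrew] at hcm
    rcases mul_eq_zero.mp hcm.symm with h | h
    · exact absurd h (inv_ne_zero hG0)
    · rcases mul_eq_zero.mp h with h' | h'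
      · exact absurd h' (pow_ne_zero 2 hidx)
      · exact h'
  rw [hsplit] at hsum0
  have hd : ∀ χ : Cfsg.IrrCharacter G, (χ : G → ℂ) 1 = (Cfsg.charDegree (χ : G → ℂ) : ℂ) :=
    fun χ => (charDegree_cast_of_isCharacter (IsIrrCharacter.isCharacter χ.2)).symm
  have hd1 : (Cfsg.charDegree (Λ₁ : G → ℂ) : ℂ) ≠ 0 := by
    rw [← hd]
    exact IsIrrCharacter.apply_one_ne_zero Λ₁.2
  set B : ℚ := ∑ χ ∈ F, (c χ : ℚ) * (a χ : ℚ) ^ 2 / (Cfsg.charDegree (χ : G → ℂ) : ℚ) with hB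
  have hsumF : ∑ χ ∈ F, (χ : G → ℂ) u * (χ : G → ℂ) u * conj ((χ : G → ℂ) s) / (χ : G → ℂ) 1 =
      (B : ℂ) := by
    rw [hB]
    push_cast
    apply Finset.sum_congr rfl
    intro χ hχ
    obtain ⟨n1, n2⟩ := hFmem χ hχ
    rw [ha χ, hc χ n1 n2, map_intCast, hd χ]
    ring
  rw [hsumF, ha Λ₁, ha Λ₂, h1, h2, map_mul, map_mul, map_intCast, hY, ← hdeg, hd Λ₁, haeq,
    ← hX] at hsum0
  have hfin : (B : ℂ) =
      (((ε : ℚ) * (a Λ₂ : ℚ) ^ 2 / (Cfsg.charDegree (Λ₁ : G → ℂ) : ℚ) : ℚ) : ℂ) := by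
    push_cast
    field_simp
    field_simp at hsum0
    linear_combination hsum0
  exact_mod_cast hfin

end Cfsg.Agent.Helper2.M11
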