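import Mathlib
import Cfsg.Prelude.Def_Characters
import Cfsg.Prelude.Def_Blocks
import Cfsg.Agent.Helper2.M11_Case
import Cfsg.Agent.Helper8.M11_InvId
import Cfsg.Agent.Helper6.OddDegRealA

/-!
# M11 cluster, INV-A: the involution identities in Case A

Specialisation of `inv_identities` to the interface structure `CaseA`.  The three small glue
lemmas `h8_hprod_of_hinv`, `h8_irrational_of_hxy`, `h8_sum_five` are stated generically so that
Case B can use them as well.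
-/

set_option autoImplicit false
set_option linter.style.haveILetI false

namespace Cfsg.Agent.Helper2.M11

open scoped ComplexConjugate
open Cfsg.Agent.Helper6

universe u

/-- if no involution inverts `s` then `s` is not a product of two conjugates of the
involution `u` -/
theorem h8_hprod_of_hinv {G : Type u} [Group G] (s u : G) (hu : orderOf u = 2)
    (hinv : ∀ g : G, orderOf g = 2 → g * s * g⁻¹ ≠ s⁻¹) :
    ∀ x y : G, IsConj u x → IsConj u y → x * y ≠ s := by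
  intro x y hx hy hxy
  have hord : ∀ z : G, IsConj u z → orderOf z = 2 := by
    intro z hz
    obtain ⟨c, hc⟩ := hz
    rw [← hc.orderOf_eq]
    exact hu
  have hox := hord x hx
  have hoy := hord y hy
  have hy2 : y * y = 1 := by
    have := pow_orderOf_eq_one y
    rw [hoy, pow_two] at this
    exact this
  have hx2 : x * x = 1 := by
    have := pow_orderOf_eq_one x
    rw [hox, pow_two] at this
    exact this
  apply hinv x hox
  rw [← hxy, mul_inv_rev]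
  have hyi : y⁻¹ = y := inv_eq_of_mul_eq_one_right hy2
  rw [hyi, ← mul_assoc, hx2, one_mul]

/-- the exceptional values are irrational: `x + y = -1`, `x x̄ + y ȳ = 6` has no rational
solution since `11` is not a square -/
theorem h8_irrational_of_hxy (x y : ℂ) (hxy : x + y = -1)
    (hxy2 : x * conj x + y * conj y = 6) : ∀ r : ℚ, x ≠ r := by
  intro r hr
  have hy : y = ((-1 - r : ℚ) : ℂ) := by
    push_cast
    rw [← hr]
    linear_combination hxy
  rw [hr, hy] at hxy2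
  simp only [map_ratCast] at hxy2
  have h : (r * r + (-1 - r) * (-1 - r) : ℚ) = 6 := by exact_mod_cast hxy2
  have h11 : (2 * r + 1) * (2 * r + 1) = 11 := by linear_combination 2 * h
  have h1 : IsSquare (11 : ℚ) := ⟨2 * r + 1, h11.symm⟩
  have h2 : IsSquare ((11 : ℕ) : ℚ) := by exact_mod_cast h1
  rw [Rat.isSquare_natCast_iff] at h2
  obtain ⟨k, hk⟩ := h2
  have hk4 : k < 4 := by nlinarith
  interval_cases k <;> omega

/-- a sum over a finset of a function supported on five distinct points -/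
theorem h8_sum_five {ι M : Type*} [DecidableEq ι] [AddCommMonoid M] (F : Finset ι)
    (t y x1 x2 x3 : ι) (hnd : [t, y, x1, x2, x3].Nodup)
    (hF : ∀ z ∈ [t, y, x1, x2, x3], z ∈ F) (f : ι → M)
    (hf : ∀ χ ∈ F, χ ∉ [t, y, x1, x2, x3] → f χ = 0) :
    ∑ χ ∈ F, f χ = f t + f y + f x1 + f x2 + f x3 := by
  have hsub : [t, y, x1, x2, x3].toFinset ⊆ F := by
    intro z hz
    exact hF z (List.mem_toFinset.mp hz)
  rw [← Finset.sum_subset hsub (fun χ hχ hχ' => hf χ hχ (fun h => hχ' (List.mem_toFinset.mpr h))),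
    List.sum_toFinset _ hnd]
  simp [add_assoc]

theorem inv_caseA {G : Type u} [Group G] [Fintype G] [Fintype (Cfsg.IrrCharacter G)]
    {K : Subgroup G} (A : CaseA K) (s : G) (hsK : s ∈ K) (hs11 : orderOf s = 11)
    (hinv : ∀ g : G, orderOf g = 2 → g * s * g⁻¹ ≠ s⁻¹) (u : G) (hu : orderOf u = 2) :
    ∃ a₁ a₂ a₃ b ℓ : ℤ, (A.X₁ : G → ℂ) u = a₁ ∧ (A.X₂ : G → ℂ) u = a₂ ∧
      (A.X₃ : G → ℂ) u = a₃ ∧ (A.Y : G → ℂ) u = b ∧ (A.Λ₀ : G → ℂ) u = ℓ ∧
      (A.Λ₁ : G → ℂ) u = ℓ ∧ b = a₁ + a₂ + a₃ + ℓ - 1 ∧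
      720 + 16 * b ^ 2 = 72 * (a₁ ^ 2 + a₂ ^ 2 + a₃ ^ 2) + 45 * ℓ ^ 2 ∧
      Even a₁ ∧ Even a₂ ∧ Even a₃ ∧ Odd b ∧ Even ℓ := by
  classical
  have hs1 : s ≠ 1 := by
    rintro rfl
    simp at hs11
  have hus : ¬ IsConj u s := by
    intro h
    obtain ⟨c, hc⟩ := h
    have : orderOf s = 2 := by rw [← hc.orderOf_eq]; exact hu
    omega
  have hnd := A.nodup
  simp only [List.nodup_cons, List.mem_cons, List.not_mem_nil, or_false, not_or,
    List.nodup_nil, and_true, not_false_eq_true] at hnd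
  obtain ⟨⟨h01, h02, h03, h04, h05, h06⟩, ⟨h12, h13, h14, h15, h16⟩, ⟨h23, h24, h25, h26⟩,
    ⟨h34, h35, h36⟩, ⟨h45, h46⟩, h56⟩ := hnd
  have hd : ∀ χ : Cfsg.IrrCharacter G, (χ : G → ℂ) 1 = (Cfsg.charDegree (χ : G → ℂ) : ℂ) :=
    fun χ => (charDegree_cast_of_isCharacter (IsIrrCharacter.isCharacter χ.2)).symm
  set c : Cfsg.IrrCharacter G → ℤ := fun χ =>
    if χ = triv G then 1 else if χ = A.Y then 1 else if χ = A.X₁ then -1
    else if χ = A.X₂ then -1 else if χ = A.X₃ then -1 else 0 with hcdef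
  have hc : ∀ χ : Cfsg.IrrCharacter G, χ ≠ A.Λ₀ → χ ≠ A.Λ₁ → (χ : G → ℂ) s = (c χ : ℂ) := by
    intro χ hχ0 hχ1
    simp only [hcdef]
    split_ifs with e1 e2 e3 e4 e5
    · subst e1; simp [triv]
    · subst e2; simpa using A.valY s hsK hs1
    · subst e3; simpa using A.valX₁ s hsK hs1
    · subst e4; simpa using A.valX₂ s hsK hs1
    · subst e5; simpa using A.valX₃ s hsK hs1
    · have hnot : χ ∉ [triv G, A.Λ₀, A.Λ₁, A.Y, A.X₁, A.X₂, A.X₃] := by
        simp [e1, e2, e3, e4, e5, hχ0, hχ1]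
      simpa using (A.rest χ hnot).1 s hsK hs1
  obtain ⟨a, ℓ, ha, haΛ₀, haΛ₁, hi, hiv⟩ := inv_identities u s hu hus
    (h8_hprod_of_hinv s u hu hinv) A.Λ₀ A.Λ₁ h12
    (by rw [hd, hd, A.degΛ₀, A.degΛ₁]) c hc (A.x s) (A.y s) 1 (Or.inl rfl)
    (by rw [A.valΛ₀ s hsK hs1]; push_cast; ring) (by rw [A.valΛ₁ s hsK hs1]; push_cast; ring)
    (A.hxy s hsK hs1) (h8_irrational_of_hxy _ _ (A.hxy s hsK hs1) (A.hxy2 s hsK hs1))
  have hat : a (triv G) = 1 := by
    have := ha (triv G)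
    simp only [triv] at this
    exact_mod_cast this.symm
  -- the five-point sums
  have hnd5 : [triv G, A.Y, A.X₁, A.X₂, A.X₃].Nodup := by
    simp [h03, h04, h05, h06, h34, h35, h36, h45, h46, h56]
  have hF5 : ∀ z ∈ [triv G, A.Y, A.X₁, A.X₂, A.X₃],
      z ∈ Finset.univ.filter (fun χ : Cfsg.IrrCharacter G => χ ≠ A.Λ₀ ∧ χ ≠ A.Λ₁) := by
    intro z hz
    simp only [List.mem_cons, List.not_mem_nil, or_false] at hz
    simp only [Finset.mem_filter, Finset.mem_univ, true_and]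
    rcases hz with rfl | rfl | rfl | rfl | rfl
    · exact ⟨h01, h02⟩
    · exact ⟨(Ne.symm h13), (Ne.symm h23)⟩
    · exact ⟨(Ne.symm h14), (Ne.symm h24)⟩
    · exact ⟨(Ne.symm h15), (Ne.symm h25)⟩
    · exact ⟨(Ne.symm h16), (Ne.symm h26)⟩
  have hc0 : ∀ χ : Cfsg.IrrCharacter G, χ ∉ [triv G, A.Y, A.X₁, A.X₂, A.X₃] → c χ = 0 := by
    intro χ hχ
    simp only [List.mem_cons, List.not_mem_nil, or_false, not_or] at hχ
    simp [hcdef, hχ.1, hχ.2.1, hχ.2.2.1, hχ.2.2.2.1, hχ.2.2.2.2]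
  have hct : c (triv G) = 1 := by simp [hcdef]
  have hcY : c A.Y = 1 := by simp [hcdef, (Ne.symm h03)]
  have hcX₁ : c A.X₁ = -1 := by simp [hcdef, (Ne.symm h04), (Ne.symm h34)]
  have hcX₂ : c A.X₂ = -1 := by simp [hcdef, (Ne.symm h05), (Ne.symm h35), (Ne.symm h45)]
  have hcX₃ : c A.X₃ = -1 := by simp [hcdef, (Ne.symm h06), (Ne.symm h36), (Ne.symm h46), (Ne.symm h56)]
  rw [h8_sum_five _ _ _ _ _ _ hnd5 hF5 (fun χ => c χ * a χ)
    (fun χ _ hχ => by simp [hc0 χ hχ])] at hi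
  rw [h8_sum_five _ _ _ _ _ _ hnd5 hF5
    (fun χ => (c χ : ℚ) * (a χ : ℚ) ^ 2 / (Cfsg.charDegree (χ : G → ℂ) : ℚ))
    (fun χ _ hχ => by simp [hc0 χ hχ])] at hiv
  simp only [hct, hcY, hcX₁, hcX₂, hcX₃, hat] at hi hiv
  have hdt : Cfsg.charDegree ((triv G : Cfsg.IrrCharacter G) : G → ℂ) = 1 := by
    have := hd (triv G)
    simp only [triv] at this
    exact_mod_cast this.symm
  rw [hdt, A.degY, A.degX₁, A.degX₂, A.degX₃, A.degΛ₀] at hiv
  -- parities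
  have hpar : ∀ χ : Cfsg.IrrCharacter G, ∃ m : ℤ, a χ = Cfsg.charDegree (χ : G → ℂ) + 2 * m := by
    intro χ
    obtain ⟨m, hm⟩ := char_involution_parity (IsIrrCharacter.isCharacter χ.2) u hu
    refine ⟨m, ?_⟩
    rw [ha χ, hd χ] at hm
    exact_mod_cast hm
  refine ⟨a A.X₁, a A.X₂, a A.X₃, a A.Y, ℓ, ha _, ha _, ha _, ha _, ?_, ?_, ?_, ?_, ?_, ?_, ?_,
    ?_, ?_⟩
  · rw [ha, haΛ₀]
  · rw [ha, haΛ₁]
  · linarith
  · have h720 : (720 : ℚ) + 16 * (a A.Y : ℚ) ^ 2 =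
        72 * ((a A.X₁ : ℚ) ^ 2 + (a A.X₂ : ℚ) ^ 2 + (a A.X₃ : ℚ) ^ 2) + 45 * (ℓ : ℚ) ^ 2 := by
      push_cast at hiv
      field_simp at hiv
      linarith
    exact_mod_cast h720
  · obtain ⟨m, hm⟩ := hpar A.X₁
    rw [A.degX₁] at hm
    exact ⟨5 + m, by rw [hm]; push_cast; ring⟩
  · obtain ⟨m, hm⟩ := hpar A.X₂
    rw [A.degX₂] at hm
    exact ⟨5 + m, by rw [hm]; push_cast; ring⟩
  · obtain ⟨m, hm⟩ := hpar A.X₃
    rw [A.degX₃] at hm
    exact ⟨5 + m, by rw [hm]; push_cast; ring⟩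
  · obtain ⟨m, hm⟩ := hpar A.Y
    rw [A.degY] at hm
    exact ⟨22 + m, by rw [hm]; push_cast; ring⟩
  · obtain ⟨m, hm⟩ := hpar A.Λ₀
    rw [A.degΛ₀, haΛ₀] at hm
    exact ⟨8 + m, by rw [hm]; push_cast; ring⟩

end Cfsg.Agent.Helper2.M11
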