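import Mathlib

set_option autoImplicit false

/-! Arithmetic of the `r`-part of `|GL_n(q)|` for a prime `r > n`, `r ∤ q`. -/

namespace Cfsg.Agent.Helper8.SylLarge

open Polynomial

variable {r : ℕ} [hr : Fact r.Prime] {q : ℕ}

omit hr in
theorem one_le_pow_q (hrq : ¬ r ∣ q) (i : ℕ) : 1 ≤ q ^ i := by
  have hq0 : q ≠ 0 := by
    rintro rfl
    exact hrq (dvd_zero r)
  exact Nat.one_le_pow _ _ (Nat.pos_of_ne_zero hq0)

theorem ord_pos (hrq : ¬ r ∣ q) : 0 < orderOf (q : ZMod r) := by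
  have hu : IsUnit (q : ZMod r) := by
    rw [ZMod.isUnit_iff_coprime]
    exact ((Nat.Prime.coprime_iff_not_dvd hr.out).mpr hrq).symm
  obtain ⟨u, hu⟩ := hu
  rw [← hu, orderOf_units]
  exact orderOf_pos u

/-- `r ∣ q^i - 1` iff the order of `q` mod `r` divides `i`. -/
theorem dvd_pow_sub_one_iff (hrq : ¬ r ∣ q) (i : ℕ) :
    r ∣ q ^ i - 1 ↔ orderOf (q : ZMod r) ∣ i := by
  rw [orderOf_dvd_iff_pow_eq_one, ← ZMod.natCast_eq_zero_iff, Nat.cast_sub (one_le_pow_q hrq i),
    sub_eq_zero]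
  push_cast
  rfl

/-- The `r`-part of `Φ_d(q)` is the `r`-part of `q^d - 1`, `d` the order of `q` mod `r`. -/
theorem padicVal_cyclotomic (hrq : ¬ r ∣ q) (hq2 : 2 ≤ q) :
    padicValNat r ((cyclotomic (orderOf (q : ZMod r)) ℤ).eval (q : ℤ)).natAbs
      = padicValNat r (q ^ orderOf (q : ZMod r) - 1) := by
  set d := orderOf (q : ZMod r) with hd
  have hdpos : 0 < d := ord_pos hrq
  have h1 : ((q : ℤ) ^ d - 1) = ∏ i ∈ d.divisors, (cyclotomic i ℤ).eval (q : ℤ) := by
    have := congrArg (Polynomial.eval (q : ℤ)) (prod_cyclotomic_eq_X_pow_sub_one hdpos ℤ)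
    rw [Polynomial.eval_prod] at this
    rw [this]
    simp
  rw [← Nat.insert_self_properDivisors hdpos.ne', Finset.prod_insert Nat.self_notMem_properDivisors]
    at h1
  have hne : ((q : ℤ) ^ d - 1) ≠ 0 := by
    have : (2 : ℤ) ^ d ≤ (q : ℤ) ^ d := by
      apply pow_le_pow_left₀ (by norm_num)
      exact_mod_cast hq2
    have h2 : (2 : ℤ) ≤ 2 ^ d := by
      calc (2 : ℤ) = 2 ^ 1 := by norm_num
        _ ≤ 2 ^ d := pow_le_pow_right₀ (by norm_num) hdpos
    omega
  have hnat : (q ^ d - 1 : ℕ) = ((q : ℤ) ^ d - 1).natAbs := by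
    have : ((q ^ d - 1 : ℕ) : ℤ) = (q : ℤ) ^ d - 1 := by
      rw [Nat.cast_sub (one_le_pow_q hrq d)]
      push_cast
      rfl
    rw [← this, Int.natAbs_natCast]
  rw [hnat, h1, Int.natAbs_mul]
  rw [h1] at hne
  have hA : ((cyclotomic d ℤ).eval (q : ℤ)).natAbs ≠ 0 := by
    rw [Int.natAbs_ne_zero]
    exact left_ne_zero_of_mul hne
  have hB : (∏ i ∈ d.properDivisors, (cyclotomic i ℤ).eval (q : ℤ)).natAbs ≠ 0 := by
    rw [Int.natAbs_ne_zero]
    exact right_ne_zero_of_mul hne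
  rw [padicValNat.mul hA hB]
  have hB0 : padicValNat r (∏ i ∈ d.properDivisors, (cyclotomic i ℤ).eval (q : ℤ)).natAbs = 0 := by
    apply padicValNat.eq_zero_of_not_dvd
    intro hdvd
    have hdvd' : (r : ℤ) ∣ ∏ i ∈ d.properDivisors, (cyclotomic i ℤ).eval (q : ℤ) := by
      rw [Int.natCast_dvd]
      exact hdvd
    have hrp : Prime (r : ℤ) := Nat.prime_iff_prime_int.mp hr.out
    rw [Prime.dvd_finsetProd_iff hrp] at hdvd'
    obtain ⟨i, hi, hri⟩ := hdvd'
    rw [Nat.mem_properDivisors] at hi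
    have h3 : (cyclotomic i ℤ).eval (q : ℤ) ∣ (q : ℤ) ^ i - 1 := by
      have := Polynomial.eval_dvd (x := (q : ℤ)) (cyclotomic.dvd_X_pow_sub_one i ℤ)
      simpa using this
    have h4 : (r : ℤ) ∣ ((q ^ i - 1 : ℕ) : ℤ) := by
      rw [Nat.cast_sub (one_le_pow_q hrq i)]
      push_cast
      exact hri.trans h3
    have h5 : r ∣ q ^ i - 1 := by exact_mod_cast h4
    rw [dvd_pow_sub_one_iff hrq] at h5
    have hipos : 0 < i := Nat.pos_of_dvd_of_pos hi.1 hdpos
    exact absurd (Nat.le_of_dvd hipos h5) (not_le.mpr hi.2)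
  rw [hB0, add_zero]

/-- For `0 < k < r`, the `r`-part of `q^(d k) - 1` is that of `q^d - 1`. -/
theorem padicVal_pow_mul (hrq : ¬ r ∣ q) (hq2 : 2 ≤ q) (k : ℕ) (hk0 : 0 < k) (hkr : k < r) :
    padicValNat r (q ^ (orderOf (q : ZMod r) * k) - 1)
      = padicValNat r (q ^ orderOf (q : ZMod r) - 1) := by
  set d := orderOf (q : ZMod r) with hd
  have hdpos : 0 < d := ord_pos hrq
  set y := q ^ d - 1 with hy
  have hxy : q ^ d = y + 1 := by
    have := one_le_pow_q hrq d
    omega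
  have hgeom := geom_sum_mul_add y k
  rw [← hxy, ← pow_mul] at hgeom
  have hS : q ^ (d * k) - 1 = (∑ i ∈ Finset.range k, (q ^ d) ^ i) * y := by
    omega
  rw [hS]
  have hy0 : y ≠ 0 := by
    have : 2 ^ d ≤ q ^ d := Nat.pow_le_pow_left hq2 d
    have h2 : 2 ≤ 2 ^ d := by
      calc 2 = 2 ^ 1 := by norm_num
        _ ≤ 2 ^ d := Nat.pow_le_pow_right (by norm_num) hdpos
    omega
  have hSr : ¬ r ∣ ∑ i ∈ Finset.range k, (q ^ d) ^ i := by
    rw [← ZMod.natCast_eq_zero_iff]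
    push_cast
    have : ((q : ZMod r)) ^ d = 1 := by
      rw [hd]
      exact pow_orderOf_eq_one _
    rw [this]
    simp only [one_pow, Finset.sum_const, Finset.card_range, nsmul_eq_mul, mul_one]
    rw [ZMod.natCast_eq_zero_iff]
    intro h
    exact absurd (Nat.le_of_dvd hk0 h) (not_le.mpr hkr)
  have hS0 : (∑ i ∈ Finset.range k, (q ^ d) ^ i) ≠ 0 := by
    intro h
    rw [h] at hSr
    exact hSr (dvd_zero r)
  rw [padicValNat.mul hS0 hy0, padicValNat.eq_zero_of_not_dvd hSr, zero_add]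

/-- For `1 ≤ i < r`, the `r`-part of `q^i - 1`. -/
theorem padicVal_pow_sub_one (hrq : ¬ r ∣ q) (hq2 : 2 ≤ q) (i : ℕ) (hi0 : 0 < i) (hir : i < r) :
    padicValNat r (q ^ i - 1)
      = if orderOf (q : ZMod r) ∣ i then
          padicValNat r ((cyclotomic (orderOf (q : ZMod r)) ℤ).eval (q : ℤ)).natAbs else 0 := by
  split_ifs with h
  · obtain ⟨k, rfl⟩ := h
    have hk0 : 0 < k := by
      rcases Nat.eq_zero_or_pos k with h | h
      · rw [h, mul_zero] at hi0
        exact absurd hi0 (lt_irrefl 0)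
      · exact h
    have hkr : k < r := by
      have hdpos : 0 < orderOf (q : ZMod r) := ord_pos hrq
      calc k ≤ orderOf (q : ZMod r) * k := Nat.le_mul_of_pos_left k hdpos
        _ < r := hir
    rw [padicVal_pow_mul hrq hq2 k hk0 hkr, padicVal_cyclotomic hrq hq2]
  · apply padicValNat.eq_zero_of_not_dvd
    rw [dvd_pow_sub_one_iff hrq]
    exact h

/-- The `r`-part of `∏_{i<n} (q^n - q^i)`. -/
theorem factorization_prod (hrq : ¬ r ∣ q) (hq2 : 2 ≤ q) (n : ℕ) (hnr : n < r) :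
    (∏ i : Fin n, (q ^ n - q ^ (i : ℕ))).factorization r
      = padicValNat r ((cyclotomic (orderOf (q : ZMod r)) ℤ).eval (q : ℤ)).natAbs
        * (n / orderOf (q : ZMod r)) := by
  set e := padicValNat r ((cyclotomic (orderOf (q : ZMod r)) ℤ).eval (q : ℤ)).natAbs with he
  set d := orderOf (q : ZMod r) with hd
  have hq0 : q ≠ 0 := by omega
  have hterm : ∀ i : ℕ, i < n → q ^ n - q ^ i = q ^ i * (q ^ (n - i) - 1) := by
    intro i hi
    have : q ^ n = q ^ i * q ^ (n - i) := by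
      rw [← pow_add]
      congr 1
      omega
    rw [this, Nat.mul_sub, mul_one]
  have hne : ∀ i ∈ (Finset.univ : Finset (Fin n)), q ^ n - q ^ (i : ℕ) ≠ 0 := by
    intro i _
    have : q ^ (i : ℕ) < q ^ n := Nat.pow_lt_pow_right (by omega) i.2
    omega
  rw [Nat.factorization_prod hne, Finsupp.finsetSum_apply]
  have hval : ∀ i : Fin n, (q ^ n - q ^ (i : ℕ)).factorization r
      = if d ∣ n - (i : ℕ) then e else 0 := by
    intro i
    rw [Nat.factorization_def _ hr.out, hterm i i.2]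
    have h1 : q ^ (i : ℕ) ≠ 0 := pow_ne_zero _ hq0
    have h2 : q ^ (n - (i : ℕ)) - 1 ≠ 0 := by
      have : 2 ^ (n - (i : ℕ)) ≤ q ^ (n - (i : ℕ)) := Nat.pow_le_pow_left hq2 _
      have h2 : 2 ≤ 2 ^ (n - (i : ℕ)) := by
        calc 2 = 2 ^ 1 := by norm_num
          _ ≤ 2 ^ (n - (i : ℕ)) := Nat.pow_le_pow_right (by norm_num) (by have := i.2; omega)
      omega
    rw [padicValNat.mul h1 h2]
    have h3 : padicValNat r (q ^ (i : ℕ)) = 0 := by
      apply padicValNat.eq_zero_of_not_dvd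
      intro h
      exact hrq (hr.out.dvd_of_dvd_pow h)
    rw [h3, zero_add]
    exact padicVal_pow_sub_one hrq hq2 (n - (i : ℕ)) (by have := i.2; omega) (by omega)
  rw [Finset.sum_congr rfl (fun i _ => hval i)]
  rw [Fin.sum_univ_eq_sum_range (fun i => if d ∣ n - i then e else 0) n]
  have hrefl := Finset.sum_range_reflect (fun j => if d ∣ j + 1 then e else 0) n
  have hcongr : ∑ j ∈ Finset.range n, (if d ∣ n - 1 - j + 1 then e else 0)
      = ∑ j ∈ Finset.range n, (if d ∣ n - j then e else 0) := by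
    apply Finset.sum_congr rfl
    intro j hj
    rw [Finset.mem_range] at hj
    have : n - 1 - j + 1 = n - j := by omega
    rw [this]
  rw [← hcongr, hrefl, ← Finset.sum_filter, Finset.sum_const, Nat.card_multiples, smul_eq_mul,
    mul_comm]

end Cfsg.Agent.Helper8.SylLarge
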