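import Mathlib
import Cfsg.Agent.Helper8.SylLargeArith

set_option autoImplicit false

/-! Sylow `r`-subgroups of `GL_n(q)` for a prime `r > n`, `r ∤ q`: construction of a torus. -/

namespace Cfsg.Agent.Helper8.SylLarge

open Polynomial

/-- If an injective hom `A →* G` has `|A| = r^(v_r |G|)`, then every Sylow `r`-subgroup of `G` is
isomorphic to `A`. -/
theorem sylow_equiv_of_injective {G A : Type*} [Group G] [Finite G] [Group A] (r : ℕ)
    [Fact r.Prime] (φ : A →* G) (hφ : Function.Injective φ)
    (hcard : Nat.card A = r ^ (Nat.card G).factorization r) (P : Sylow r G) :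
    Nonempty (↥(P : Subgroup G) ≃* A) := by
  have h1 : Nat.card φ.range = r ^ (Nat.card G).factorization r := by
    rw [← hcard]
    exact Nat.card_congr (MonoidHom.ofInjective hφ).toEquiv.symm
  let Q : Sylow r G := Sylow.ofCard φ.range h1
  have e1 : ↥(P : Subgroup G) ≃* ↥(Q : Subgroup G) := Sylow.equiv P Q
  have e2 : ↥(Q : Subgroup G) ≃* A := (MonoidHom.ofInjective hφ).symm
  exact ⟨e1.trans e2⟩

section torus

variable (F : Type*) [Field F] (K : Type*) [Field K] [Algebra F K] (a b : ℕ)

/-- The torus `(Kˣ)^a` acting on `K^a × F^b`. -/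
def theta : (Fin a → Kˣ) →* Module.End F ((Fin a → K) × (Fin b → F)) where
  toFun u :=
    { toFun := fun v => (fun i => (u i : K) * v.1 i, v.2)
      map_add' := by
        intro v w
        ext i
        · simp [mul_add]
        · simp
      map_smul' := by
        intro c v
        ext i
        · simp
        · simp }
  map_one' := by
    ext v i
    · simp
    · simp
    · simp
    · simp
  map_mul' := by
    intro u w
    ext v i
    · simp [mul_assoc]
    · simp
    · simp
    · simp

theorem theta_apply (u : Fin a → Kˣ) (v : (Fin a → K) × (Fin b → F)) :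
    theta F K a b u v = (fun i => (u i : K) * v.1 i, v.2) := rfl

theorem theta_injective : Function.Injective (theta F K a b) := by
  intro u w h
  funext i
  have := congrArg (fun f => (f ((fun _ => 1, 0) : (Fin a → K) × (Fin b → F))).1 i) h
  simp only [theta_apply, mul_one] at this
  exact Units.ext this

end torus

section main

variable {F : Type*} [Field F] [Fintype F]

theorem card_mulZMod (m : ℕ) (a : ℕ) :
    Nat.card (Fin a → Multiplicative (ZMod m)) = m ^ a := by
  rw [Nat.card_fun, Nat.card_eq_fintype_card (α := Fin a), Fintype.card_fin]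
  congr 1
  exact (Nat.card_congr Multiplicative.toAdd).trans (Nat.card_zmod m)

/-- Given an element of order `m` in `Kˣ`, `K/F` of degree `d`, and `a * d + b = n`, an injective
hom `(C_m)^a →* GL_n(F)`. -/
theorem exists_torus_hom (K : Type*) [Field K] [Algebra F K] [Module.Finite F K]
    (d : ℕ) (hd : Module.finrank F K = d) (m : ℕ) [NeZero m] (x : Kˣ) (hx : orderOf x = m)
    (a b n : ℕ) (hn : a * d + b = n) :
    ∃ φ : (Fin a → Multiplicative (ZMod m)) →* GL (Fin n) F, Function.Injective φ := by
  classical
  -- the cyclic group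
  have hcard : Nat.card (Multiplicative (ZMod m)) = Nat.card (Subgroup.zpowers x) := by
    rw [Nat.card_zpowers, hx]
    exact (Nat.card_congr Multiplicative.toAdd).trans (Nat.card_zmod m)
  let ε : Multiplicative (ZMod m) ≃* Subgroup.zpowers x := mulEquivOfCyclicCardEq hcard
  let ι : Multiplicative (ZMod m) →* Kˣ := (Subgroup.zpowers x).subtype.comp ε.toMonoidHom
  have hι : Function.Injective ι := by
    intro s t h
    apply ε.injective
    exact Subtype.ext h
  let ιp : (Fin a → Multiplicative (ZMod m)) →* (Fin a → Kˣ) :=
    MonoidHom.pi (fun i => ι.comp (Pi.evalMonoidHom _ i))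
  have hιp : Function.Injective ιp := by
    intro s t h
    funext i
    apply hι
    exact congrFun h i
  -- the basis
  have hfr : Module.finrank F ((Fin a → K) × (Fin b → F)) = n := by
    rw [Module.finrank_prod, Module.finrank_pi_fintype, Module.finrank_fin_fun]
    simp only [hd, Finset.sum_const, Finset.card_univ, Fintype.card_fin, smul_eq_mul]
    exact hn
  let bV : Module.Basis (Fin n) F ((Fin a → K) × (Fin b → F)) :=
    Module.finBasisOfFinrankEq F _ hfr
  let M : Module.End F ((Fin a → K) × (Fin b → F)) →* Matrix (Fin n) (Fin n) F :=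
    ((LinearMap.toMatrixAlgEquiv bV : Module.End F ((Fin a → K) × (Fin b → F)) ≃ₐ[F]
      Matrix (Fin n) (Fin n) F) : Module.End F ((Fin a → K) × (Fin b → F)) →*
      Matrix (Fin n) (Fin n) F)
  have hM : Function.Injective M := (LinearMap.toMatrixAlgEquiv bV).injective
  let ψ : (Fin a → Multiplicative (ZMod m)) →* Matrix (Fin n) (Fin n) F :=
    (M.comp (theta F K a b)).comp ιp
  have hψ : Function.Injective ψ := by
    intro s t h
    exact hιp (theta_injective F K a b (hM h))
  refine ⟨ψ.toHomUnits, ?_⟩
  intro s t h
  apply hψ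
  have := congrArg (fun u : GL (Fin n) F => (u : Matrix (Fin n) (Fin n) F)) h
  simpa only [MonoidHom.coe_toHomUnits] using this

end main

end Cfsg.Agent.Helper8.SylLarge
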