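import Mathlib
import Cfsg.Agent.Helper8.SylLargeGL

set_option autoImplicit false

/-! Sylow `r`-subgroups of `GL_n(q)` for a prime `r > n`, `r ∤ q`: main theorem. -/

namespace Cfsg.Agent.Helper8.SylLarge

open Polynomial

/-- In a finite cyclic group, there is an element of each order dividing the group order. -/
theorem exists_orderOf_eq_of_dvd {G : Type*} [Group G] [Finite G] [IsCyclic G] (m : ℕ)
    (hm : m ∣ Nat.card G) : ∃ x : G, orderOf x = m := by
  obtain ⟨g, hg⟩ := IsCyclic.exists_ofOrder_eq_natCard (α := G)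
  have hpos : 0 < Nat.card G := Nat.card_pos
  obtain ⟨k, hk⟩ := hm
  have hk0 : k ≠ 0 := by
    rintro rfl
    rw [mul_zero] at hk
    omega
  refine ⟨g ^ k, ?_⟩
  rw [orderOf_pow_of_dvd hk0 (by rw [hg, hk]; exact dvd_mul_left k m), hg, hk]
  exact Nat.mul_div_cancel m (Nat.pos_of_ne_zero hk0)

variable {F : Type*} [Field F] [Fintype F]

/-- In the degree-`d` extension of `F`, an element of order the `r`-part of `q^d - 1`. -/
theorem exists_field_elt {q : ℕ} (hq : Fintype.card F = q) (r : ℕ) [Fact r.Prime]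
    (hrq : ¬ r ∣ q) :
    ∃ (K : Type) (_ : Field K) (_ : Algebra F K) (_ : Module.Finite F K),
      Module.finrank F K = orderOf (q : ZMod r) ∧
      ∃ x : Kˣ, orderOf x
        = r ^ padicValNat r ((cyclotomic (orderOf (q : ZMod r)) ℤ).eval (q : ℤ)).natAbs := by
  have hq2 : 2 ≤ q := by
    rw [← hq]
    exact Fintype.one_lt_card
  obtain ⟨p, hp⟩ := CharP.exists F
  haveI : CharP F p := hp
  haveI : Fact p.Prime := ⟨CharP.char_is_prime F p⟩
  have hdpos : 0 < orderOf (q : ZMod r) := ord_pos hrq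
  haveI : NeZero (orderOf (q : ZMod r)) := ⟨hdpos.ne'⟩
  refine ⟨FiniteField.Extension F p (orderOf (q : ZMod r)), inferInstance, inferInstance,
    inferInstance, FiniteField.finrank_extension F p _, ?_⟩
  have hcard : Nat.card (FiniteField.Extension F p (orderOf (q : ZMod r)))ˣ
      = q ^ orderOf (q : ZMod r) - 1 := by
    rw [Nat.card_units, FiniteField.natCard_extension, Nat.card_eq_fintype_card, hq]
  apply exists_orderOf_eq_of_dvd
  rw [hcard, padicVal_cyclotomic hrq hq2]
  exact pow_padicValNat_dvd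

/-- Sylow `r`-subgroups of `GL_n(q)` for a prime `r > n` not dividing `q`. -/
theorem sylow_GL {q : ℕ} (hq : Fintype.card F = q) (n : ℕ)
    (r : ℕ) [Fact r.Prime] (hrn : n < r) (hrq : ¬ r ∣ q) (P : Sylow r (GL (Fin n) F)) :
    Nonempty (↥(P : Subgroup (GL (Fin n) F)) ≃*
      (Fin (n / orderOf (q : ZMod r)) →
        Multiplicative (ZMod (r ^ padicValNat r
          ((cyclotomic (orderOf (q : ZMod r)) ℤ).eval (q : ℤ)).natAbs)))) := by
  have hq2 : 2 ≤ q := by
    rw [← hq]
    exact Fintype.one_lt_card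
  obtain ⟨K, _, _, _, hfr, x, hx⟩ := exists_field_elt hq r hrq
  set d := orderOf (q : ZMod r) with hd
  set e := padicValNat r ((cyclotomic d ℤ).eval (q : ℤ)).natAbs with he
  haveI : NeZero (r ^ e) := ⟨pow_ne_zero _ (Fact.out : r.Prime).ne_zero⟩
  obtain ⟨φ, hφ⟩ := exists_torus_hom (F := F) K d hfr (r ^ e) x hx (n / d) (n % d) n
    (Nat.div_add_mod' n d)
  apply sylow_equiv_of_injective r φ hφ
  rw [card_mulZMod, Matrix.card_GL_field, hq, factorization_prod hrq hq2 n hrn, ← pow_mul]

end Cfsg.Agent.Helper8.SylLarge
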