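import Mathlib
import Cfsg.Agent.Helper8.SylLargeGLMain
import Cfsg.Agent.Helper7.LinearCard

set_option autoImplicit false

/-! Sylow `r`-subgroups of `SL_n(q)` for a prime `r > n`, `r ∤ q`. -/

namespace Cfsg.Agent.Helper8.SylLarge

open Polynomial

/-- An element of order `m` gives an injective hom from `(C_m)^a`. -/
theorem exists_pi_cyclic_hom {G : Type*} [Group G] (m : ℕ) [NeZero m] (x : G)
    (hx : orderOf x = m) (a : ℕ) :
    ∃ φ : (Fin a → Multiplicative (ZMod m)) →* (Fin a → G), Function.Injective φ := by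
  have hcard : Nat.card (Multiplicative (ZMod m)) = Nat.card (Subgroup.zpowers x) := by
    rw [Nat.card_zpowers, hx]
    exact (Nat.card_congr Multiplicative.toAdd).trans (Nat.card_zmod m)
  let ε : Multiplicative (ZMod m) ≃* Subgroup.zpowers x := mulEquivOfCyclicCardEq hcard
  let ι : Multiplicative (ZMod m) →* G := (Subgroup.zpowers x).subtype.comp ε.toMonoidHom
  have hι : Function.Injective ι := by
    intro s t h
    apply ε.injective
    exact Subtype.ext h
  refine ⟨MonoidHom.pi (fun i => ι.comp (Pi.evalMonoidHom _ i)), ?_⟩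
  intro s t h
  funext i
  apply hι
  exact congrFun h i

section diag

variable (F : Type*) [Field F] (k : ℕ)

/-- The vector `(w⁻¹, u_1, …, u_k)` with `w = ∏ u_i`. -/
def dvec (u : Fin k → Fˣ) : Fin (k + 1) → Fˣ := Fin.cons (∏ i, u i)⁻¹ u

theorem dvec_zero (u : Fin k → Fˣ) : dvec F k u 0 = (∏ i, u i)⁻¹ := rfl

theorem dvec_succ (u : Fin k → Fˣ) (i : Fin k) : dvec F k u i.succ = u i := by
  unfold dvec
  rw [Fin.cons_succ]

theorem dvec_one : dvec F k 1 = 1 := by
  funext j
  refine Fin.cases ?_ (fun i => ?_) j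
  · rw [dvec_zero]
    simp
  · rw [dvec_succ]
    rfl

theorem dvec_mul (u w : Fin k → Fˣ) : dvec F k (u * w) = dvec F k u * dvec F k w := by
  funext j
  refine Fin.cases ?_ (fun i => ?_) j
  · rw [Pi.mul_apply, dvec_zero, dvec_zero, dvec_zero]
    simp only [Pi.mul_apply]
    rw [Finset.prod_mul_distrib, mul_inv]
  · rw [Pi.mul_apply, dvec_succ, dvec_succ, dvec_succ]
    rfl

theorem prod_dvec (u : Fin k → Fˣ) : ∏ j, dvec F k u j = 1 := by
  rw [Fin.prod_univ_succ, dvec_zero]
  simp only [dvec_succ]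
  exact inv_mul_cancel _

/-- The diagonal torus `(Fˣ)^k →* SL_{k+1}(F)`. -/
def diagSL : (Fin k → Fˣ) →* Matrix.SpecialLinearGroup (Fin (k + 1)) F where
  toFun u := ⟨Matrix.diagonal (fun j => ((dvec F k u j : Fˣ) : F)), by
    rw [Matrix.det_diagonal, ← Units.coe_prod, prod_dvec]
    rfl⟩
  map_one' := by
    apply Subtype.ext
    show Matrix.diagonal (fun j => ((dvec F k 1 j : Fˣ) : F)) = 1
    rw [dvec_one]
    simp
  map_mul' := by
    intro u w
    apply Subtype.ext
    show Matrix.diagonal (fun j => ((dvec F k (u * w) j : Fˣ) : F))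
      = Matrix.diagonal (fun j => ((dvec F k u j : Fˣ) : F))
        * Matrix.diagonal (fun j => ((dvec F k w j : Fˣ) : F))
    rw [Matrix.diagonal_mul_diagonal, dvec_mul]
    rfl

theorem diagSL_apply (u : Fin k → Fˣ) (i j : Fin (k + 1)) :
    (diagSL F k u : Matrix (Fin (k + 1)) (Fin (k + 1)) F) i j
      = Matrix.diagonal (fun j => ((dvec F k u j : Fˣ) : F)) i j := rfl

theorem diagSL_injective : Function.Injective (diagSL F k) := by
  intro u w h
  funext i
  have h1 := congrArg (fun g : Matrix.SpecialLinearGroup (Fin (k + 1)) F =>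
    (g : Matrix (Fin (k + 1)) (Fin (k + 1)) F) i.succ i.succ) h
  simp only [diagSL_apply, Matrix.diagonal_apply_eq, dvec_succ] at h1
  exact Units.ext h1

end diag

end Cfsg.Agent.Helper8.SylLarge
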