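import Mathlib
import Cfsg.Agent.Helper8.SylLargeArith

set_option autoImplicit false

/-! Arithmetic of the `r`-part of `|Sp_{2n}(q)|` for an odd prime `r > n`, `r ∤ q`. -/

namespace Cfsg.Agent.Helper8.SylLarge

open Polynomial

variable {r : ℕ} [hr : Fact r.Prime] {q : ℕ}

/-- For `r ∤ k`, the `r`-part of `q^(d k) - 1` is that of `q^d - 1`. -/
theorem padicVal_pow_mul' (hrq : ¬ r ∣ q) (hq2 : 2 ≤ q) (k : ℕ) (hkr : ¬ r ∣ k) :
    padicValNat r (q ^ (orderOf (q : ZMod r) * k) - 1)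
      = padicValNat r (q ^ orderOf (q : ZMod r) - 1) := by
  set d := orderOf (q : ZMod r) with hd
  have hdpos : 0 < d := ord_pos hrq
  set y := q ^ d - 1 with hy
  have hxy : q ^ d = y + 1 := by
    have := one_le_pow_q hrq d
    omega
  have hgeom := geom_sum_mul_add y k
  rw [← hxy, ← pow_mul] at hgeom
  have hS : q ^ (d * k) - 1 = (∑ i ∈ Finset.range k, (q ^ d) ^ i) * y := by
    omega
  rw [hS]
  have hy0 : y ≠ 0 := by
    have : 2 ^ d ≤ q ^ d := Nat.pow_le_pow_left hq2 d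
    have h2 : 2 ≤ 2 ^ d := by
      calc 2 = 2 ^ 1 := by norm_num
        _ ≤ 2 ^ d := Nat.pow_le_pow_right (by norm_num) hdpos
    omega
  have hSr : ¬ r ∣ ∑ i ∈ Finset.range k, (q ^ d) ^ i := by
    rw [← ZMod.natCast_eq_zero_iff]
    push_cast
    have : ((q : ZMod r)) ^ d = 1 := by
      rw [hd]
      exact pow_orderOf_eq_one _
    rw [this]
    simp only [one_pow, Finset.sum_const, Finset.card_range, nsmul_eq_mul, mul_one]
    rw [ZMod.natCast_eq_zero_iff]
    exact hkr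
  have hS0 : (∑ i ∈ Finset.range k, (q ^ d) ^ i) ≠ 0 := by
    intro h
    rw [h] at hSr
    exact hSr (dvd_zero r)
  rw [padicValNat.mul hS0 hy0, padicValNat.eq_zero_of_not_dvd hSr, zero_add]

/-- The `r`-part of `q^j - 1` when `r ∤ j / d`. -/
theorem padicVal_pow_sub_one' (hrq : ¬ r ∣ q) (hq2 : 2 ≤ q) (j : ℕ)
    (hj : orderOf (q : ZMod r) ∣ j → ¬ r ∣ j / orderOf (q : ZMod r)) :
    padicValNat r (q ^ j - 1)
      = if orderOf (q : ZMod r) ∣ j then
          padicValNat r ((cyclotomic (orderOf (q : ZMod r)) ℤ).eval (q : ℤ)).natAbs else 0 := by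
  split_ifs with h
  · have h2 := hj h
    obtain ⟨k, rfl⟩ := h
    rw [Nat.mul_div_cancel_left k (ord_pos hrq)] at h2
    rw [padicVal_pow_mul' hrq hq2 k h2, padicVal_cyclotomic hrq hq2]
  · apply padicValNat.eq_zero_of_not_dvd
    rw [dvd_pow_sub_one_iff hrq]
    exact h

/-- For odd `r` and `0 < i < r`: if `d ∣ 2 i` then `r ∤ 2 i / d`. -/
theorem not_dvd_two_mul_div (hr2 : r ≠ 2) (d i : ℕ) (hi0 : 0 < i) (hir : i < r)
    (hd : d ∣ 2 * i) : ¬ r ∣ 2 * i / d := by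
  intro h
  have h1 : r ∣ 2 * i := h.trans (Nat.div_dvd_of_dvd hd)
  rcases (Nat.Prime.dvd_mul hr.out).mp h1 with h2 | h2
  · have := (Nat.prime_dvd_prime_iff_eq hr.out Nat.prime_two).mp h2
    exact hr2 this
  · exact absurd (Nat.le_of_dvd hi0 h2) (not_le.mpr hir)

/-- The `r`-part of `q^(n²) ∏_{i<n} (q^(2(i+1)) - 1)`. -/
theorem factorization_sp (hr2 : r ≠ 2) (hrq : ¬ r ∣ q) (hq2 : 2 ≤ q) (n : ℕ) (hnr : n < r) :
    (q ^ (n ^ 2) * ∏ i ∈ Finset.range n, (q ^ (2 * (i + 1)) - 1)).factorization r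
      = padicValNat r ((cyclotomic (orderOf (q : ZMod r)) ℤ).eval (q : ℤ)).natAbs
        * ((Finset.Icc 1 n).filter (fun i => orderOf (q : ZMod r) ∣ 2 * i)).card := by
  set e := padicValNat r ((cyclotomic (orderOf (q : ZMod r)) ℤ).eval (q : ℤ)).natAbs with he
  set d := orderOf (q : ZMod r) with hd
  have hq0 : q ≠ 0 := by omega
  have hne : ∀ i ∈ Finset.range n, q ^ (2 * (i + 1)) - 1 ≠ 0 := by
    intro i _
    have : 2 ^ (2 * (i + 1)) ≤ q ^ (2 * (i + 1)) := Nat.pow_le_pow_left hq2 _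
    have h2 : 2 ≤ 2 ^ (2 * (i + 1)) := by
      calc 2 = 2 ^ 1 := by norm_num
        _ ≤ 2 ^ (2 * (i + 1)) := Nat.pow_le_pow_right (by norm_num) (by omega)
    omega
  have hprod : ∏ i ∈ Finset.range n, (q ^ (2 * (i + 1)) - 1) ≠ 0 :=
    Finset.prod_ne_zero_iff.mpr hne
  rw [Nat.factorization_mul (pow_ne_zero _ hq0) hprod, Finsupp.add_apply,
    Nat.factorization_prod hne, Finsupp.finsetSum_apply]
  have h0 : (q ^ (n ^ 2)).factorization r = 0 := by
    rw [Nat.factorization_def _ hr.out]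
    apply padicValNat.eq_zero_of_not_dvd
    intro h
    exact hrq (hr.out.dvd_of_dvd_pow h)
  rw [h0, zero_add]
  have hval : ∀ i ∈ Finset.range n, (q ^ (2 * (i + 1)) - 1).factorization r
      = if d ∣ 2 * (1 + i) then e else 0 := by
    intro i hi
    rw [Finset.mem_range] at hi
    rw [Nat.factorization_def _ hr.out, add_comm 1 i]
    exact padicVal_pow_sub_one' hrq hq2 (2 * (i + 1))
      (fun h => not_dvd_two_mul_div hr2 d (i + 1) (by omega) (by omega) h)
  rw [Finset.sum_congr rfl hval]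
  have h1 : Finset.Icc 1 n = Finset.Ico 1 (n + 1) := by
    ext x
    simp only [Finset.mem_Icc, Finset.mem_Ico]
    omega
  rw [Finset.card_filter, h1, Finset.sum_Ico_eq_sum_range, Nat.add_sub_cancel, Finset.mul_sum]
  apply Finset.sum_congr rfl
  intro i _
  split_ifs <;> simp

/-- The "field degree" `c`: `d ∣ 2 i ↔ c ∣ i`. -/
theorem exists_half (d : ℕ) (hd : 0 < d) :
    ∃ c, 0 < c ∧ (∀ i, d ∣ 2 * i ↔ c ∣ i) ∧ ((c = d ∧ Odd d) ∨ 2 * c = d) := by
  rcases Nat.even_or_odd d with h | h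
  · obtain ⟨c, hc⟩ := h
    refine ⟨c, by omega, ?_, Or.inr (by omega)⟩
    intro i
    have : d = 2 * c := by omega
    rw [this]
    exact Nat.mul_dvd_mul_iff_left (by norm_num)
  · refine ⟨d, hd, ?_, Or.inl ⟨rfl, h⟩⟩
    intro i
    have hcop : Nat.Coprime d 2 := by
      rw [Nat.coprime_two_right]
      exact h
    exact hcop.dvd_mul_left

theorem count_sp (n d c : ℕ) (h : ∀ i, d ∣ 2 * i ↔ c ∣ i) :
    ((Finset.Icc 1 n).filter (fun i => d ∣ 2 * i)).card = n / c := by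
  rw [← Nat.Ioc_filter_dvd_card_eq_div n c]
  congr 1
  ext x
  simp only [Finset.mem_filter, Finset.mem_Icc, Finset.mem_Ioc, h]
  omega

end Cfsg.Agent.Helper8.SylLarge
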