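import Mathlib

set_option autoImplicit false

/-! `SL₂(R)` embeds in `Sp_{2n}(F)` for a commutative `F`-algebra `R` of rank `n` with a
nondegenerate trace-like functional. -/

namespace Cfsg.Agent.Helper8.SympTorus

open Matrix Module

variable {F R : Type*} [Field F] [CommRing R] [Algebra F R]

/-- The action of a `2 × 2` matrix over `R` on `R × R`, as an `F`-linear map. -/
def act (g : Matrix (Fin 2) (Fin 2) R) : Module.End F (R × R) where
  toFun v := (g 0 0 * v.1 + g 0 1 * v.2, g 1 0 * v.1 + g 1 1 * v.2)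
  map_add' := by
    intro v w
    ext
    · simp only [Prod.fst_add, Prod.snd_add]
      ring
    · simp only [Prod.fst_add, Prod.snd_add]
      ring
  map_smul' := by
    intro c v
    ext
    · simp only [Prod.smul_fst, Prod.smul_snd, RingHom.id_apply, mul_smul_comm, smul_add]
    · simp only [Prod.smul_fst, Prod.smul_snd, RingHom.id_apply, mul_smul_comm, smul_add]

theorem act_apply (g : Matrix (Fin 2) (Fin 2) R) (v : R × R) :
    act (F := F) g v = (g 0 0 * v.1 + g 0 1 * v.2, g 1 0 * v.1 + g 1 1 * v.2) := rfl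

theorem act_one : act (F := F) (1 : Matrix (Fin 2) (Fin 2) R) = 1 := by
  apply LinearMap.ext
  intro v
  rw [act_apply]
  simp

theorem act_mul (g h : Matrix (Fin 2) (Fin 2) R) :
    act (F := F) (g * h) = act g * act h := by
  apply LinearMap.ext
  intro v
  rw [Module.End.mul_apply, act_apply, act_apply, act_apply]
  simp only [Matrix.mul_apply, Fin.sum_univ_two]
  ext
  · simp only
    ring
  · simp only
    ring

theorem act_injective : Function.Injective (act (F := F) (R := R)) := by
  intro g h hgh
  have h1 := congrArg (fun f : Module.End F (R × R) => f (1, 0)) hgh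
  have h2 := congrArg (fun f : Module.End F (R × R) => f (0, 1)) hgh
  simp only [act_apply, mul_one, mul_zero, add_zero, zero_add, Prod.mk.injEq] at h1 h2
  ext i j
  fin_cases i <;> fin_cases j
  · exact h1.1
  · exact h2.1
  · exact h1.2
  · exact h2.2

/-- The alternating form `T (v₁ w₂ - v₂ w₁)` on `R × R`. -/
def omega (T : R →ₗ[F] F) : LinearMap.BilinForm F (R × R) :=
  LinearMap.mk₂ F (fun v w => T (v.1 * w.2 - v.2 * w.1))
    (by
      intro v v' w
      rw [← map_add]
      congr 1
      simp only [Prod.fst_add, Prod.snd_add]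
      ring)
    (by
      intro c v w
      rw [← map_smul]
      congr 1
      simp only [Prod.smul_fst, Prod.smul_snd, smul_mul_assoc, smul_sub])
    (by
      intro v w w'
      rw [← map_add]
      congr 1
      simp only [Prod.fst_add, Prod.snd_add]
      ring)
    (by
      intro c v w
      rw [← map_smul]
      congr 1
      simp only [Prod.smul_fst, Prod.smul_snd, mul_smul_comm, smul_sub])

theorem omega_apply (T : R →ₗ[F] F) (v w : R × R) :
    omega T v w = T (v.1 * w.2 - v.2 * w.1) := rfl

theorem omega_act (T : R →ₗ[F] F) (g : Matrix (Fin 2) (Fin 2) R) (hg : g.det = 1) (v w : R × R) :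
    omega T (act (F := F) g v) (act (F := F) g w) = omega T v w := by
  rw [omega_apply, omega_apply, act_apply, act_apply]
  congr 1
  rw [Matrix.det_fin_two] at hg
  simp only
  linear_combination (v.1 * w.2 - v.2 * w.1) * hg

variable {n : ℕ}

theorem gram (T : R →ₗ[F] F) (β₁ β₂ : Basis (Fin n) F R)
    (h : ∀ i j, T (β₁ i * β₂ j) = if i = j then 1 else 0) :
    LinearMap.BilinForm.toMatrix (β₁.prod β₂) (omega T) = - Matrix.J (Fin n) F := by
  ext i j
  rw [LinearMap.BilinForm.toMatrix_apply, omega_apply, Matrix.neg_apply]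
  rcases i with i | i <;> rcases j with j | j
  · simp [Matrix.J, Basis.prod_apply]
  · simp [Matrix.J, Basis.prod_apply, h, Matrix.one_apply]
  · simp only [Basis.prod_apply, Sum.elim_inr, Function.comp_apply, LinearMap.coe_inr,
      Sum.elim_inl, LinearMap.coe_inl, zero_mul, zero_sub, map_neg, Matrix.J,
      Matrix.fromBlocks_apply₂₁, Matrix.one_apply]
    rw [mul_comm, h]
    simp only [eq_comm]
  · simp [Matrix.J, Basis.prod_apply]

theorem mem_symplectic (T : R →ₗ[F] F) (β₁ β₂ : Basis (Fin n) F R)
    (h : ∀ i j, T (β₁ i * β₂ j) = if i = j then 1 else 0)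
    (g : Matrix (Fin 2) (Fin 2) R) (hg : g.det = 1) :
    LinearMap.toMatrix (β₁.prod β₂) (β₁.prod β₂) (act (F := F) g)
      ∈ Matrix.symplecticGroup (Fin n) F := by
  rw [SymplecticGroup.mem_iff']
  have h1 : (omega T).comp (act (F := F) g) (act (F := F) g) = omega T := by
    apply LinearMap.ext
    intro v
    apply LinearMap.ext
    intro w
    exact omega_act T g hg v w
  have h2 := LinearMap.BilinForm.toMatrix_comp (β₁.prod β₂) (β₁.prod β₂) (omega T)
    (act (F := F) g) (act (F := F) g)
  rw [h1, gram T β₁ β₂ h] at h2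
  have h3 : -((LinearMap.toMatrix (β₁.prod β₂) (β₁.prod β₂) (act (F := F) g)).transpose
      * Matrix.J (Fin n) F * LinearMap.toMatrix (β₁.prod β₂) (β₁.prod β₂) (act (F := F) g))
      = - Matrix.J (Fin n) F := by
    rw [h2]
    simp only [Matrix.mul_neg, Matrix.neg_mul]
  exact neg_injective h3

/-- `SL₂(R) →* Sp_{2n}(F)`. -/
noncomputable def toSp (T : R →ₗ[F] F) (β₁ β₂ : Basis (Fin n) F R)
    (h : ∀ i j, T (β₁ i * β₂ j) = if i = j then 1 else 0) :
    Matrix.SpecialLinearGroup (Fin 2) R →* ↥(Matrix.symplecticGroup (Fin n) F) where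
  toFun g := ⟨LinearMap.toMatrix (β₁.prod β₂) (β₁.prod β₂)
    (act (F := F) (g : Matrix (Fin 2) (Fin 2) R)), mem_symplectic T β₁ β₂ h _ g.2⟩
  map_one' := by
    apply Subtype.ext
    show LinearMap.toMatrix (β₁.prod β₂) (β₁.prod β₂)
      (act (F := F) ((1 : Matrix.SpecialLinearGroup (Fin 2) R) : Matrix (Fin 2) (Fin 2) R)) = 1
    rw [Matrix.SpecialLinearGroup.coe_one, act_one, LinearMap.toMatrix_one]
  map_mul' := by
    intro g k
    apply Subtype.ext
    show LinearMap.toMatrix (β₁.prod β₂) (β₁.prod β₂)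
      (act (F := F) ((g * k : Matrix.SpecialLinearGroup (Fin 2) R) : Matrix (Fin 2) (Fin 2) R))
      = LinearMap.toMatrix (β₁.prod β₂) (β₁.prod β₂) (act (F := F) (g : Matrix (Fin 2) (Fin 2) R))
        * LinearMap.toMatrix (β₁.prod β₂) (β₁.prod β₂) (act (F := F) (k : Matrix (Fin 2) (Fin 2) R))
    rw [Matrix.SpecialLinearGroup.coe_mul, act_mul, LinearMap.toMatrix_mul]

theorem toSp_injective (T : R →ₗ[F] F) (β₁ β₂ : Basis (Fin n) F R)
    (h : ∀ i j, T (β₁ i * β₂ j) = if i = j then 1 else 0) :
    Function.Injective (toSp T β₁ β₂ h) := by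
  intro g k hgk
  have h1 := congrArg Subtype.val hgk
  have h2 : LinearMap.toMatrix (β₁.prod β₂) (β₁.prod β₂)
      (act (F := F) (g : Matrix (Fin 2) (Fin 2) R))
      = LinearMap.toMatrix (β₁.prod β₂) (β₁.prod β₂)
        (act (F := F) (k : Matrix (Fin 2) (Fin 2) R)) := h1
  apply Subtype.ext
  exact act_injective ((LinearMap.toMatrix (β₁.prod β₂) (β₁.prod β₂)).injective h2)

/-- General statement: a nondegenerate trace-like functional on a rank-`n` algebra gives an
embedding `SL₂(R) →* Sp_{2n}(F)`. -/
theorem exists_toSp [Module.Finite F R] (hn : finrank F R = n) (T : R →ₗ[F] F)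
    (hT : ∀ x : R, (∀ y : R, T (x * y) = 0) → x = 0) :
    ∃ φ : Matrix.SpecialLinearGroup (Fin 2) R →* ↥(Matrix.symplecticGroup (Fin n) F),
      Function.Injective φ := by
  classical
  let τ : LinearMap.BilinForm F R := LinearMap.mk₂ F (fun x y => T (x * y))
    (by intro x x' y; rw [add_mul, map_add])
    (by intro c x y; rw [smul_mul_assoc, map_smul])
    (by intro x y y'; rw [mul_add, map_add])
    (by intro c x y; rw [mul_smul_comm, map_smul])
  have hτ : τ.Nondegenerate := by
    constructor
    · intro x hx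
      exact hT x hx
    · intro y hy
      apply hT y
      intro x
      rw [mul_comm]
      exact hy x
  let β₁ : Basis (Fin n) F R := Module.finBasisOfFinrankEq F R hn
  let β₂ : Basis (Fin n) F R := τ.dualBasis hτ β₁
  have h : ∀ i j, T (β₁ i * β₂ j) = if i = j then 1 else 0 := by
    intro i j
    have := LinearMap.BilinForm.apply_dualBasis_left hτ β₁ j i
    rw [mul_comm]
    exact this
  exact ⟨toSp T β₁ β₂ h, toSp_injective T β₁ β₂ h⟩

end Cfsg.Agent.Helper8.SympTorus
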