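import Mathlib
import Cfsg.Agent.Helper8.SympTorusGen

set_option autoImplicit false

/-! The ring `L^a × F^b` and the torus `SL₂(L)^a` inside `Sp_{2n}(F)`. -/

namespace Cfsg.Agent.Helper8.SympTorus

open Matrix Module

variable (F L : Type*) [Field F] [Field L] [Algebra F L] (a b : ℕ)

/-- The trace-like functional on `L^a × F^b`. -/
noncomputable def TT : ((Fin a → L) × (Fin b → F)) →ₗ[F] F where
  toFun x := ∑ i, Algebra.trace F L (x.1 i) + ∑ j, x.2 j
  map_add' := by
    intro x y
    simp only [Prod.fst_add, Prod.snd_add, Pi.add_apply, map_add, Finset.sum_add_distrib]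
    ring
  map_smul' := by
    intro c x
    simp only [Prod.smul_fst, Prod.smul_snd, Pi.smul_apply, map_smul, smul_eq_mul,
      RingHom.id_apply, mul_add, Finset.mul_sum]

theorem TT_apply (x : (Fin a → L) × (Fin b → F)) :
    TT F L a b x = ∑ i, Algebra.trace F L (x.1 i) + ∑ j, x.2 j := rfl

theorem TT_nondeg [FiniteDimensional F L] [Algebra.IsSeparable F L]
    (x : (Fin a → L) × (Fin b → F)) (hx : ∀ y, TT F L a b (x * y) = 0) : x = 0 := by
  classical
  ext i
  · -- L components
    have h1 : ∀ z : L, Algebra.traceForm F L (x.1 i) z = 0 := by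
      intro z
      have := hx (Pi.single i z, 0)
      rw [TT_apply] at this
      simp only [Prod.fst_mul, Prod.snd_mul, Pi.mul_apply, mul_zero, Pi.zero_apply,
        Finset.sum_const_zero, add_zero] at this
      rw [Finset.sum_eq_single i] at this
      · rw [Pi.single_eq_same] at this
        exact this
      · intro k _ hk
        rw [Pi.single_eq_of_ne hk, mul_zero, map_zero]
      · intro h
        exact absurd (Finset.mem_univ i) h
    exact (traceForm_nondegenerate F L).1 (x.1 i) h1
  · have := hx (0, Pi.single i 1)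
    rw [TT_apply] at this
    simp only [Prod.fst_mul, Prod.snd_mul, Pi.mul_apply, mul_zero, Pi.zero_apply, map_zero,
      Finset.sum_const_zero, zero_add] at this
    rw [Finset.sum_eq_single i] at this
    · rw [Pi.single_eq_same, mul_one] at this
      exact this
    · intro k _ hk
      rw [Pi.single_eq_of_ne hk, mul_zero]
    · intro h
      exact absurd (Finset.mem_univ i) h

theorem finrank_RR [FiniteDimensional F L] :
    finrank F ((Fin a → L) × (Fin b → F)) = a * finrank F L + b := by
  rw [Module.finrank_prod, Module.finrank_pi_fintype, Module.finrank_fin_fun]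
  simp only [Finset.sum_const, Finset.card_univ, Fintype.card_fin, smul_eq_mul]

/-- Assemble a matrix over `L^a × F^b`. -/
def mk2 (A : Fin a → Matrix (Fin 2) (Fin 2) L) :
    Matrix (Fin 2) (Fin 2) ((Fin a → L) × (Fin b → F)) :=
  fun j k => (fun i => A i j k, fun _ => (1 : Matrix (Fin 2) (Fin 2) F) j k)

theorem mk2_apply (A : Fin a → Matrix (Fin 2) (Fin 2) L) (j k : Fin 2) :
    mk2 F L a b A j k = (fun i => A i j k, fun _ => (1 : Matrix (Fin 2) (Fin 2) F) j k) := rfl

theorem mk2_one : mk2 F L a b (fun _ => 1) = 1 := by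
  ext j k i
  · rw [mk2_apply]
    by_cases h : j = k
    · subst h
      simp
    · simp [Matrix.one_apply_ne h]
  · rw [mk2_apply]
    by_cases h : j = k
    · subst h
      simp
    · simp [Matrix.one_apply_ne h]

theorem mk2_mul (A B : Fin a → Matrix (Fin 2) (Fin 2) L) :
    mk2 F L a b (fun i => A i * B i) = mk2 F L a b A * mk2 F L a b B := by
  ext j k i
  · rw [Matrix.mul_apply, Fin.sum_univ_two, mk2_apply, mk2_apply, mk2_apply, mk2_apply, mk2_apply]
    simp only [Prod.fst_add, Prod.fst_mul, Pi.add_apply, Pi.mul_apply, Matrix.mul_apply,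
      Fin.sum_univ_two]
  · rw [Matrix.mul_apply, Fin.sum_univ_two, mk2_apply, mk2_apply, mk2_apply, mk2_apply, mk2_apply]
    simp only [Prod.snd_add, Prod.snd_mul, Pi.add_apply, Pi.mul_apply]
    have := congrFun (congrFun (one_mul (1 : Matrix (Fin 2) (Fin 2) F)) j) k
    rw [Matrix.mul_apply, Fin.sum_univ_two] at this
    exact this.symm

theorem mk2_det (A : Fin a → Matrix (Fin 2) (Fin 2) L) (hA : ∀ i, (A i).det = 1) :
    (mk2 F L a b A).det = 1 := by
  rw [Matrix.det_fin_two]
  ext i
  · simp only [mk2_apply, Prod.fst_sub, Prod.fst_mul, Pi.sub_apply, Pi.mul_apply, Prod.fst_one,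
      Pi.one_apply]
    rw [← hA i, Matrix.det_fin_two]
  · simp only [mk2_apply, Prod.snd_sub, Prod.snd_mul, Pi.sub_apply, Pi.mul_apply, Prod.snd_one,
      Pi.one_apply]
    simp

/-- `SL₂(L)^a →* SL₂(L^a × F^b)`. -/
def piSL : (Fin a → Matrix.SpecialLinearGroup (Fin 2) L) →*
    Matrix.SpecialLinearGroup (Fin 2) ((Fin a → L) × (Fin b → F)) where
  toFun g := ⟨mk2 F L a b (fun i => (g i : Matrix (Fin 2) (Fin 2) L)),
    mk2_det F L a b _ (fun i => (g i).2)⟩
  map_one' := by
    apply Subtype.ext
    exact mk2_one F L a b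
  map_mul' := by
    intro g h
    apply Subtype.ext
    exact mk2_mul F L a b _ _

theorem piSL_injective : Function.Injective (piSL F L a b) := by
  intro g h hgh
  funext i
  apply Subtype.ext
  ext j k
  have h1 := congrArg (fun M : Matrix.SpecialLinearGroup (Fin 2) ((Fin a → L) × (Fin b → F)) =>
    ((M : Matrix (Fin 2) (Fin 2) ((Fin a → L) × (Fin b → F))) j k).1 i) hgh
  exact h1

/-- The torus `SL₂(L)^a` inside `Sp_{2n}(F)`, `n = a [L:F] + b`. -/
theorem exists_piSL_toSp [FiniteDimensional F L] [Algebra.IsSeparable F L] (n : ℕ)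
    (hn : a * finrank F L + b = n) :
    ∃ φ : (Fin a → Matrix.SpecialLinearGroup (Fin 2) L) →*
      ↥(Matrix.symplecticGroup (Fin n) F), Function.Injective φ := by
  obtain ⟨φ, hφ⟩ := exists_toSp (F := F) (R := (Fin a → L) × (Fin b → F)) (n := n)
    ((finrank_RR F L a b).trans hn) (TT F L a b) (TT_nondeg F L a b)
  exact ⟨φ.comp (piSL F L a b), hφ.comp (piSL_injective F L a b)⟩

end Cfsg.Agent.Helper8.SympTorus
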