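import Mathlib
import Cfsg.Agent.Helper8.SylLargeSpArith
import Cfsg.Agent.Helper8.SylLargeSL
import Cfsg.Agent.Helper8.SympTorusRing
import Cfsg.Agent.Helper8.SL2Ell2
import Cfsg.Agent.Helper8.SpOrder

set_option autoImplicit false

/-! Sylow `r`-subgroups of `Sp_{2n}(q)` for an odd prime `r > n`, `r ∤ q`. -/

namespace Cfsg.Agent.Helper8.SylLarge

open Polynomial Module

/-- `Kˣ →* SL₂(K)`, `u ↦ diag(u, u⁻¹)`. -/
def diag2 (K : Type*) [Field K] : Kˣ →* Matrix.SpecialLinearGroup (Fin 2) K where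
  toFun u := ⟨!![(u : K), 0; 0, ((u⁻¹ : Kˣ) : K)], by
    rw [Matrix.det_fin_two_of]
    simp⟩
  map_one' := by
    apply Subtype.ext
    ext i j
    fin_cases i <;> fin_cases j <;> simp
  map_mul' := by
    intro u w
    apply Subtype.ext
    show !![((u * w : Kˣ) : K), 0; 0, (((u * w)⁻¹ : Kˣ) : K)]
      = !![(u : K), 0; 0, ((u⁻¹ : Kˣ) : K)] * !![(w : K), 0; 0, ((w⁻¹ : Kˣ) : K)]
    rw [Matrix.mul_fin_two]
    simp [mul_comm]

theorem diag2_injective (K : Type*) [Field K] : Function.Injective (diag2 K) := by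
  intro u w h
  have h1 := congrArg (fun g : Matrix.SpecialLinearGroup (Fin 2) K =>
    (g : Matrix (Fin 2) (Fin 2) K) 0 0) h
  have h2 : ∀ v : Kˣ, ((diag2 K v : Matrix.SpecialLinearGroup (Fin 2) K) :
      Matrix (Fin 2) (Fin 2) K) 0 0 = (v : K) := fun v => rfl
  simp only [h2] at h1
  exact Units.ext h1

variable {F : Type*} [Field F] [Fintype F]

/-- A field `L` of degree `c` over `F` with an element of order `r^e` in `SL₂(L)`. -/
theorem exists_SL2_elt {q : ℕ} (hq : Fintype.card F = q) (r : ℕ) [hr : Fact r.Prime]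
    (hrq : ¬ r ∣ q) (c : ℕ)
    (hc : (c = orderOf (q : ZMod r) ∧ Odd (orderOf (q : ZMod r))) ∨ 2 * c = orderOf (q : ZMod r)) :
    ∃ (L : Type) (_ : Field L) (_ : Algebra F L) (_ : Module.Finite F L),
      Module.finrank F L = c ∧
      ∃ x : Matrix.SpecialLinearGroup (Fin 2) L, orderOf x
        = r ^ padicValNat r ((cyclotomic (orderOf (q : ZMod r)) ℤ).eval (q : ℤ)).natAbs := by
  have hq2 : 2 ≤ q := by
    rw [← hq]
    exact Fintype.one_lt_card
  rcases hc with ⟨hc, _⟩ | hc
  · obtain ⟨K, _, _, _, hfr, x, hx⟩ := exists_field_elt hq r hrq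
    refine ⟨K, inferInstance, inferInstance, inferInstance, hfr.trans hc.symm, diag2 K x, ?_⟩
    rw [orderOf_injective (diag2 K) (diag2_injective K), hx]
  · set d := orderOf (q : ZMod r) with hd
    set e := padicValNat r ((cyclotomic d ℤ).eval (q : ℤ)).natAbs with he
    have hdpos : 0 < d := ord_pos hrq
    have hcpos : 0 < c := by omega
    obtain ⟨p, hp⟩ := CharP.exists F
    haveI : CharP F p := hp
    haveI : Fact p.Prime := ⟨CharP.char_is_prime F p⟩
    haveI : NeZero c := ⟨hcpos.ne'⟩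
    refine ⟨FiniteField.Extension F p c, inferInstance, inferInstance, inferInstance,
      FiniteField.finrank_extension F p c, ?_⟩
    haveI : Fintype (FiniteField.Extension F p c) := Fintype.ofFinite _
    have hcardL : Fintype.card (FiniteField.Extension F p c) = q ^ c := by
      rw [← Nat.card_eq_fintype_card, FiniteField.natCard_extension, Nat.card_eq_fintype_card, hq]
    obtain ⟨t, ht⟩ := SL2C.exists_ellt (F := FiniteField.Extension F p c)
    haveI := SL2C.isCyclic_Tc (SL2C.ellt_sq_ne ht)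
    have hcardT := SL2C.card_Tc ht
    rw [hcardL] at hcardT
    -- r^e ∣ q^c + 1
    have hdvd : r ^ e ∣ q ^ c + 1 := by
      have h1 : r ^ e ∣ q ^ d - 1 := by
        rw [he, padicVal_cyclotomic hrq hq2]
        exact pow_padicValNat_dvd
      have h2 : q ^ d - 1 = (q ^ c + 1) * (q ^ c - 1) := by
        have h3 : 1 ≤ q ^ c := one_le_pow_q hrq c
        have h4 : q ^ d = q ^ c * q ^ c := by
          rw [← pow_add]
          congr 1
          omega
        rw [h4]
        zify [h3, Nat.one_le_iff_ne_zero.mpr (Nat.mul_ne_zero (by omega) (by omega) :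
          q ^ c * q ^ c ≠ 0)]
        ring
      rw [h2] at h1
      have h5 : ¬ r ∣ q ^ c - 1 := by
        rw [dvd_pow_sub_one_iff hrq]
        intro h
        have := Nat.le_of_dvd hcpos h
        omega
      have hcop : Nat.Coprime (r ^ e) (q ^ c - 1) :=
        Nat.Coprime.pow_left e ((Nat.Prime.coprime_iff_not_dvd hr.out).mpr h5)
      exact hcop.dvd_of_dvd_mul_right h1
    obtain ⟨x, hx⟩ := exists_orderOf_eq_of_dvd (G := SL2C.Tc t) (r ^ e) (by rw [hcardT]; exact hdvd)
    exact ⟨(x : Matrix.SpecialLinearGroup (Fin 2) (FiniteField.Extension F p c)), by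
      rw [Subgroup.orderOf_coe, hx]⟩

/-- Sylow `r`-subgroups of `Sp_{2n}(q)` for an odd prime `r > n` not dividing `q`. -/
theorem sylow_Sp {q : ℕ} (hq : Fintype.card F = q) (n : ℕ)
    (r : ℕ) [hr : Fact r.Prime] (hr2 : r ≠ 2) (hrn : n < r) (hrq : ¬ r ∣ q)
    (P : Sylow r ↥(Matrix.symplecticGroup (Fin n) F)) :
    Nonempty (↥(P : Subgroup ↥(Matrix.symplecticGroup (Fin n) F)) ≃*
      (Fin ((Finset.Icc 1 n).filter (fun i => orderOf (q : ZMod r) ∣ 2 * i)).card →
        Multiplicative (ZMod (r ^ padicValNat r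
          ((cyclotomic (orderOf (q : ZMod r)) ℤ).eval (q : ℤ)).natAbs)))) := by
  have hq2 : 2 ≤ q := by
    rw [← hq]
    exact Fintype.one_lt_card
  obtain ⟨c, hcpos, hciff, hc⟩ := exists_half (orderOf (q : ZMod r)) (ord_pos hrq)
  have hcount := count_sp n (orderOf (q : ZMod r)) c hciff
  obtain ⟨L, _, _, _, hfr, x, hx⟩ := exists_SL2_elt hq r hrq c hc
  set d := orderOf (q : ZMod r) with hd
  set e := padicValNat r ((cyclotomic d ℤ).eval (q : ℤ)).natAbs with he
  haveI : NeZero (r ^ e) := ⟨pow_ne_zero _ hr.out.ne_zero⟩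
  obtain ⟨φ, hφ⟩ := SympTorus.exists_piSL_toSp F L (n / c) (n % c) n
    (by rw [hfr]; exact Nat.div_add_mod' n c)
  obtain ⟨ψ, hψ⟩ := exists_pi_cyclic_hom (r ^ e) x hx (n / c)
  rw [hcount]
  apply sylow_equiv_of_injective r (φ.comp ψ) (hφ.comp hψ)
  rw [card_mulZMod, Cfsg.Agent.Helper8.SpOrder.card_symp, hq,
    factorization_sp hr2 hrq hq2 n hrn, hcount, ← pow_mul]

end Cfsg.Agent.Helper8.SylLarge
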