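import Mathlib
import Cfsg.Agent.Helper8.SylLargeSp
import Cfsg.Agent.Helper8.SL2Parab
import Cfsg.Agent.Helper8.SpGSum
set_option autoImplicit false

/-! Elements of prescribed orders in `Sp_{2c}(q)`. -/

namespace Cfsg.Agent.Helper8.SpG

open Matrix

variable {F : Type*} [Field F] [Fintype F]

theorem exists_sl2_elt (L : Type*) [Field L] [Fintype L] (m : ℕ)
    (hm : m ∣ Fintype.card L - 1 ∨ m ∣ Fintype.card L + 1) :
    ∃ y : Matrix.SpecialLinearGroup (Fin 2) L, orderOf y = m := by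
  rcases hm with hm | hm
  · obtain ⟨u, hu⟩ := Cfsg.Agent.Helper8.SylLarge.exists_orderOf_eq_of_dvd (G := Lˣ) m (by
      rw [Nat.card_units, Nat.card_eq_fintype_card]; exact hm)
    exact ⟨Cfsg.Agent.Helper8.SylLarge.diag2 L u, by
      rw [orderOf_injective _ (Cfsg.Agent.Helper8.SylLarge.diag2_injective L), hu]⟩
  · obtain ⟨t, ht⟩ := Cfsg.Agent.Helper8.SL2C.exists_ellt (F := L)
    haveI := Cfsg.Agent.Helper8.SL2C.isCyclic_Tc (Cfsg.Agent.Helper8.SL2C.ellt_sq_ne ht)
    have hcardT := Cfsg.Agent.Helper8.SL2C.card_Tc ht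
    obtain ⟨x, hx⟩ := Cfsg.Agent.Helper8.SylLarge.exists_orderOf_eq_of_dvd
      (G := Cfsg.Agent.Helper8.SL2C.Tc t) m (by rw [hcardT]; exact hm)
    exact ⟨(x : Matrix.SpecialLinearGroup (Fin 2) L), by rw [Subgroup.orderOf_coe, hx]⟩

theorem orderOf_const {G : Type*} [Group G] (y : G) :
    orderOf (fun _ : Fin 1 => y) = orderOf y := by
  have hinj : Function.Injective (MonoidHom.pi (fun _ : Fin 1 => MonoidHom.id G)) := by
    intro a b h
    exact congrFun h 0
  exact orderOf_injective (MonoidHom.pi (fun _ : Fin 1 => MonoidHom.id G)) hinj y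

/-- elements of order dividing `q^c ± 1` in `Sp_{2c}(q)` -/
theorem exists_sp_elt (p : ℕ) [Fact p.Prime] [CharP F p] (c : ℕ) (hc : 0 < c) (m : ℕ)
    (hm : m ∣ Fintype.card F ^ c - 1 ∨ m ∣ Fintype.card F ^ c + 1) :
    ∃ x : Matrix.symplecticGroup (Fin c) F, orderOf x = m := by
  haveI : NeZero c := ⟨hc.ne'⟩
  have hfr : Module.finrank F (FiniteField.Extension F p c) = c :=
    FiniteField.finrank_extension F p c
  haveI : Fintype (FiniteField.Extension F p c) := Fintype.ofFinite _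
  have hcardL : Fintype.card (FiniteField.Extension F p c) = Fintype.card F ^ c := by
    rw [← Nat.card_eq_fintype_card, FiniteField.natCard_extension, Nat.card_eq_fintype_card]
  obtain ⟨φ, hφ⟩ := Cfsg.Agent.Helper8.SympTorus.exists_piSL_toSp F
    (FiniteField.Extension F p c) 1 0 c (by rw [hfr]; ring)
  obtain ⟨y, hy⟩ := exists_sl2_elt (FiniteField.Extension F p c) m (by rw [hcardL]; exact hm)
  exact ⟨φ (fun _ => y), by rw [orderOf_injective φ hφ, orderOf_const, hy]⟩

/-- an element of order `p` in `Sp_2(q)` -/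
theorem exists_sp_unip (p : ℕ) [Fact p.Prime] [CharP F p] :
    ∃ x : Matrix.symplecticGroup (Fin 1) F, orderOf x = p := by
  obtain ⟨φ, hφ⟩ := Cfsg.Agent.Helper8.SympTorus.exists_piSL_toSp F F 1 0 1
    (by rw [Module.finrank_self])
  exact ⟨φ (fun _ => Cfsg.Agent.Helper7.SL2.up (1 : F)), by
    rw [orderOf_injective φ hφ, orderOf_const,
      Cfsg.Agent.Helper8.SL2C.orderOf_up p one_ne_zero]⟩

end Cfsg.Agent.Helper8.SpG
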