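import Mathlib
import Cfsg.Prelude.Def_Classical
import Cfsg.Agent.S0246
set_option autoImplicit false

/-! Element orders in `PSp` versus `Sp`. -/

namespace Cfsg.Agent.Helper8.SpG

open Matrix

variable {F : Type*} [Field F]

theorem central_sq_eq_one {n : ℕ} (hn : 1 ≤ n) (z : Matrix.symplecticGroup (Fin n) F)
    (hz : z ∈ Subgroup.center (Matrix.symplecticGroup (Fin n) F)) : z ^ 2 = 1 := by
  rcases Cfsg.Agent.S0246.central_eq hn z hz with h | h
  · rw [h, one_pow]
  · rw [h]
    apply Subtype.ext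
    change ((-1 : Matrix (Fin n ⊕ Fin n) (Fin n ⊕ Fin n) F)) ^ 2 = 1
    rw [neg_one_sq]

theorem central_eq_one_of_two {n : ℕ} (hn : 1 ≤ n) (h2 : (2 : F) = 0)
    (z : Matrix.symplecticGroup (Fin n) F)
    (hz : z ∈ Subgroup.center (Matrix.symplecticGroup (Fin n) F)) : z = 1 := by
  rcases Cfsg.Agent.S0246.central_eq hn z hz with h | h
  · exact h
  · rw [h]
    apply Subtype.ext
    change ((-1 : Matrix (Fin n ⊕ Fin n) (Fin n ⊕ Fin n) F)) = 1
    have h1 : (-1 : F) = 1 := by
      rw [neg_eq_iff_add_eq_zero, one_add_one_eq_two]; exact h2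
    ext i j
    rw [Matrix.neg_apply, Matrix.one_apply]
    split_ifs
    · exact h1
    · exact neg_zero

theorem dvd_of_odd_of_dvd_two_mul {m j : ℕ} (hm : Odd m) (h : m ∣ 2 * j) : m ∣ j :=
  (Nat.Coprime.dvd_mul_left (Nat.coprime_two_right.mpr hm)).mp h

theorem psp_range_iff (n : ℕ) (hn : 1 ≤ n) (m : ℕ) (hm : Odd m ∨ (2 : F) = 0) :
    m ∈ Set.range (orderOf : Cfsg.PSp n F → ℕ) ↔
      m ∈ Set.range (orderOf : Matrix.symplecticGroup (Fin n) F → ℕ) := by
  set Z := Subgroup.center (Matrix.symplecticGroup (Fin n) F) with hZ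
  have hmk : ∀ (g : Matrix.symplecticGroup (Fin n) F) (j : ℕ),
      (QuotientGroup.mk g : Cfsg.PSp n F) ^ j = 1 ↔ g ^ j ∈ Z := by
    intro g j
    rw [← QuotientGroup.mk_pow, QuotientGroup.eq_one_iff]
  by_cases h2 : (2 : F) = 0
  · -- trivial centre
    have hinj : ∀ (g : Matrix.symplecticGroup (Fin n) F),
        orderOf (QuotientGroup.mk g : Cfsg.PSp n F) = orderOf g := by
      intro g
      apply Nat.dvd_antisymm
      · exact orderOf_dvd_of_pow_eq_one (by rw [← QuotientGroup.mk_pow, pow_orderOf_eq_one]; rfl)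
      · apply orderOf_dvd_of_pow_eq_one
        have h3 := (hmk g _).mp (pow_orderOf_eq_one (QuotientGroup.mk g : Cfsg.PSp n F))
        exact central_eq_one_of_two hn h2 _ h3
    constructor
    · rintro ⟨x, rfl⟩
      obtain ⟨g, rfl⟩ := QuotientGroup.mk_surjective x
      exact ⟨g, (hinj g).symm⟩
    · rintro ⟨g, rfl⟩
      exact ⟨QuotientGroup.mk g, hinj g⟩
  · have hodd : Odd m := hm.resolve_right h2
    constructor
    · rintro ⟨x, hx⟩
      obtain ⟨g, rfl⟩ := QuotientGroup.mk_surjective x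
      refine ⟨g ^ 2, ?_⟩
      apply Nat.dvd_antisymm
      · apply orderOf_dvd_of_pow_eq_one
        rw [← pow_mul, mul_comm, pow_mul]
        apply central_sq_eq_one hn
        rw [← hmk, ← hx, pow_orderOf_eq_one]
      · apply dvd_of_odd_of_dvd_two_mul hodd
        rw [← hx]
        apply orderOf_dvd_of_pow_eq_one
        rw [hmk, pow_mul, pow_orderOf_eq_one]
        exact one_mem _
    · rintro ⟨g, hg⟩
      refine ⟨QuotientGroup.mk g, ?_⟩
      apply Nat.dvd_antisymm
      · rw [← hg]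
        exact orderOf_dvd_of_pow_eq_one (by rw [← QuotientGroup.mk_pow, pow_orderOf_eq_one]; rfl)
      · apply dvd_of_odd_of_dvd_two_mul hodd
        rw [← hg]
        apply orderOf_dvd_of_pow_eq_one
        have h3 := (hmk g _).mp (pow_orderOf_eq_one (QuotientGroup.mk g : Cfsg.PSp n F))
        have h4 := central_sq_eq_one hn _ h3
        rw [mul_comm, pow_mul]
        exact h4

end Cfsg.Agent.Helper8.SpG
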