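import Mathlib
import Cfsg.Prelude.Def_Characters
import Cfsg.Prelude.Def_BlockLocal
import Cfsg.Prelude.Def_Blocks
import Cfsg.Prelude.Def_CharExt
import Cfsg.Agent.Helper6.RMcKCnt
import Cfsg.Agent.Helper6.RMcKGlC
import Cfsg.Agent.Helper6.RelGlaubB
import Cfsg.Agent.Helper3.RMcKD4B

/-!
# S4807, piece PM: the relation between `Irr_{p'}(W S)` and `Irr_{p'}(C S)`

Definitions (`homFun`, `IsCanon`, `PMRel`) and the basic tools: extension of homomorphisms from
a complement, and the ambient forms of "two extensions differ by a linear character".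
-/

set_option autoImplicit false
set_option linter.style.haveILetI false
set_option linter.unusedSimpArgs false

namespace Cfsg.Agent.Helper8.RMcK

open Cfsg.Agent.Helper6 Cfsg.Agent.Helper6.RMcK
open scoped ComplexConjugate

universe u

section GroupTheory

variable {Γ : Type u} [Group Γ]

/-- two homomorphisms on `A ⊔ B` which agree on `A` and on `B` are equal -/
theorem hom_eq_of_sup {A B X : Subgroup Γ} (hAX : A ≤ X) (hBX : B ≤ X) (hX : X ≤ A ⊔ B)
    {Y : Type*} [Group Y] (μ₁ μ₂ : X →* Y)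
    (hA : ∀ a : A, μ₁ (Subgroup.inclusion hAX a) = μ₂ (Subgroup.inclusion hAX a))
    (hB : ∀ b : B, μ₁ (Subgroup.inclusion hBX b) = μ₂ (Subgroup.inclusion hBX b)) : μ₁ = μ₂ := by
  have hle : X ≤ (μ₁.eqLocus μ₂).map X.subtype := by
    refine hX.trans (sup_le ?_ ?_)
    · intro a ha
      exact ⟨⟨a, hAX ha⟩, hA ⟨a, ha⟩, rfl⟩
    · intro b hb
      exact ⟨⟨b, hBX hb⟩, hB ⟨b, hb⟩, rfl⟩
  ext x
  obtain ⟨y, hy, hyx⟩ := hle x.2
  have : y = x := Subtype.ext hyx
  rw [← this]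
  exact hy

/-- a homomorphism on `B` extends to `A ⊔ B`, trivially on `A`, when `B` normalizes `A` and
`A ⊓ B = ⊥` -/
theorem exists_hom_ext {A B X : Subgroup Γ} (hAX : A ≤ X) (hBX : B ≤ X) (hX : X = A ⊔ B)
    (hBA : B ≤ Subgroup.normalizer (A : Set Γ)) (hdisj : A ⊓ B = ⊥)
    {Y : Type*} [Group Y] (σ : B →* Y) :
    ∃ μ : X →* Y, (∀ a : A, μ (Subgroup.inclusion hAX a) = 1) ∧
      ∀ b : B, μ (Subgroup.inclusion hBX b) = σ b := by
  have hXA : X ≤ Subgroup.normalizer (A : Set Γ) := by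
    rw [hX]; exact sup_le Subgroup.le_normalizer hBA
  have hn : (A.subgroupOf X).Normal := (Subgroup.normal_subgroupOf_iff_le_normalizer hAX).2 hXA
  have hcompl : Subgroup.IsComplement' (B.subgroupOf X) (A.subgroupOf X) := by
    apply Subgroup.isComplement'_of_disjoint_and_mul_eq_univ
    · rw [disjoint_iff, eq_bot_iff]
      intro x hx
      rw [Subgroup.mem_inf, Subgroup.mem_subgroupOf, Subgroup.mem_subgroupOf] at hx
      have : (x : Γ) ∈ A ⊓ B := ⟨hx.2, hx.1⟩
      rw [hdisj, Subgroup.mem_bot] at this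
      rw [Subgroup.mem_bot]
      exact Subtype.ext this
    · rw [← Subgroup.mul_normal, Set.eq_univ_iff_forall]
      intro x
      have hx : (x : Γ) ∈ B ⊔ A := by rw [sup_comm, ← hX]; exact x.2
      have h2 : X.subtype x ∈ (B.subgroupOf X ⊔ A.subgroupOf X).map X.subtype := by
        rw [Subgroup.map_sup, Subgroup.subgroupOf_map_subtype, Subgroup.subgroupOf_map_subtype,
          inf_of_le_left hAX, inf_of_le_left hBX]
        exact hx
      obtain ⟨y, hy, hyx⟩ := h2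
      have : y = x := Subtype.ext hyx
      rw [← this]; exact hy
  let e := hcompl.QuotientMulEquiv
  let eB : B.subgroupOf X ≃* B := Subgroup.subgroupOfEquivOfLe hBX
  refine ⟨(σ.comp eB.toMonoidHom).comp (e.toMonoidHom.comp (QuotientGroup.mk' (A.subgroupOf X))),
    ?_, ?_⟩
  · intro a
    have : QuotientGroup.mk' (A.subgroupOf X) (Subgroup.inclusion hAX a) = 1 := by
      rw [QuotientGroup.mk'_apply, QuotientGroup.eq_one_iff, Subgroup.mem_subgroupOf]
      exact a.2
    simp only [MonoidHom.comp_apply, this, map_one]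
  · intro b
    have hb' : Subgroup.inclusion hBX b ∈ B.subgroupOf X := by
      rw [Subgroup.mem_subgroupOf]; exact b.2
    have h1 : e (QuotientGroup.mk' (A.subgroupOf X) (Subgroup.inclusion hBX b)) =
        ⟨Subgroup.inclusion hBX b, hb'⟩ := by
      apply e.symm.injective
      rw [MulEquiv.symm_apply_apply]
      rfl
    simp only [MonoidHom.comp_apply, MulEquiv.coe_toMonoidHom, h1]
    congr 1

end GroupTheory

variable {Γ : Type u} [Group Γ] [Finite Γ]

/-- the function on `B` attached to a homomorphism `B →* ℂˣ` -/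
def homFun {B : Subgroup Γ} (μ : B →* ℂˣ) : B → ℂ := fun b => ((μ b : ℂˣ) : ℂ)

omit [Finite Γ] in
theorem homFun_apply {B : Subgroup Γ} (μ : B →* ℂˣ) (b : B) : homFun μ b = ((μ b : ℂˣ) : ℂ) := rfl

/-- two extensions of an irreducible character differ by a linear character (ambient form) -/
theorem amb_exists_hom {A B : Subgroup Γ} (h : A ≤ B)
    (hBA : B ≤ Subgroup.normalizer (A : Set Γ)) (θ : A → ℂ) (hθ : Cfsg.IsIrrCharacter A θ)
    (χ₀ ψ : B → ℂ) (hχ₀ : Cfsg.IsIrrCharacter B χ₀) (hψ : Cfsg.IsIrrCharacter B ψ)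
    (h₀ : res h χ₀ = θ) (h₁ : res h ψ = θ) :
    ∃ μ : B →* ℂˣ, (∀ a : A, μ (Subgroup.inclusion h a) = 1) ∧ ψ = χ₀ * homFun μ := by
  classical
  haveI := Fintype.ofFinite B
  haveI hn : (A.subgroupOf B).Normal := (Subgroup.normal_subgroupOf_iff_le_normalizer h).2 hBA
  set e := Subgroup.subgroupOfEquivOfLe h with he
  have hθ' := irr_subgroupOf h hθ
  obtain ⟨μ, hμ, hψμ⟩ := RelGlaub.exists_hom_of_extensions (A.subgroupOf B) (θ ∘ e) hθ' χ₀ ψ
    hχ₀ hψ (fun n => by rw [← h₀]; rfl) (fun n => by rw [← h₁]; rfl)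
  refine ⟨μ, fun a => ?_, hψμ⟩
  exact hμ _ (by rw [Subgroup.mem_subgroupOf]; exact a.2)

/-- uniqueness of the linear character in `amb_exists_hom` -/
theorem amb_hom_unique {A B : Subgroup Γ} (h : A ≤ B)
    (hBA : B ≤ Subgroup.normalizer (A : Set Γ))
    (χ₀ : B → ℂ) (hχ₀ : Cfsg.IsIrrCharacter B χ₀) (hres : Cfsg.IsIrrCharacter A (res h χ₀))
    (μ₁ μ₂ : B →* ℂˣ) (h1 : ∀ a : A, μ₁ (Subgroup.inclusion h a) = 1)
    (h2 : ∀ a : A, μ₂ (Subgroup.inclusion h a) = 1)
    (heq : χ₀ * homFun μ₁ = χ₀ * homFun μ₂) : μ₁ = μ₂ := by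
  classical
  haveI := Fintype.ofFinite B
  haveI := Fintype.ofFinite (A.subgroupOf B)
  haveI hn : (A.subgroupOf B).Normal := (Subgroup.normal_subgroupOf_iff_le_normalizer h).2 hBA
  set e := Subgroup.subgroupOfEquivOfLe h with he
  have hres' : Cfsg.IsIrrCharacter (A.subgroupOf B) (fun n : A.subgroupOf B => χ₀ n) :=
    irr_subgroupOf h hres
  have key : μ₁⁻¹ * μ₂ = 1 := by
    apply hom_eq_one_of_mul_eq (A.subgroupOf B) χ₀ hχ₀ hres'
    · intro n hn'
      have hn'' : (n : Γ) ∈ A := Subgroup.mem_subgroupOf.1 hn'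
      have e1 := h1 ⟨n, hn''⟩
      have e2 := h2 ⟨n, hn''⟩
      have : Subgroup.inclusion h ⟨(n : Γ), hn''⟩ = n := rfl
      rw [this] at e1 e2
      rw [MonoidHom.mul_apply, MonoidHom.inv_apply, e1, e2, inv_one, one_mul]
    · intro g
      have hg := congrFun heq g
      simp only [Pi.mul_apply, homFun_apply] at hg
      rw [MonoidHom.mul_apply, MonoidHom.inv_apply, Units.val_mul, ← mul_assoc,
        mul_comm (χ₀ g), mul_assoc, ← hg, ← mul_assoc, mul_comm _ (χ₀ g), mul_assoc,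
        ← Units.val_mul, inv_mul_cancel, Units.val_one, mul_one]
  apply MonoidHom.ext
  intro g
  have h3 := congrArg (fun ν : B →* ℂˣ => ν g) key
  simp only [MonoidHom.mul_apply, MonoidHom.inv_apply, MonoidHom.one_apply] at h3
  exact inv_mul_eq_one.mp h3

/-- `ηh` is the canonical extension of `η` from `W` to `M ≥ W, S`: irreducible, extends `η`, and
its determinant is trivial on `S` (cf. `D4a_canon_ext`). -/
def IsCanon {W S M : Subgroup Γ} (hWM : W ≤ M) (hSM : S ≤ M) (η : W → ℂ) (ηh : M → ℂ) : Prop :=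
  Cfsg.IsIrrCharacter M ηh ∧ res hWM ηh = η ∧
    ∀ s : S, Cfsg.detChar ηh (Subgroup.inclusion hSM s) = 1

/-- The correspondence of piece PM: `τ = ηh * μ` and `τ' = βh * μ|M'`, where `η`, `β` are
Glauberman correspondents, `ηh`, `βh` their canonical extensions to `M = W ⊔ S`, `M' = C ⊔ S`,
and `μ` is a linear character of `M` trivial on `W`. -/
def PMRel (p : ℕ) {W S C M M' : Subgroup Γ} (hWM : W ≤ M) (hSM : S ≤ M) (hCM' : C ≤ M')
    (hSM' : S ≤ M') (hM'M : M' ≤ M) (hCW : C ≤ W) (τ : M → ℂ) (τ' : M' → ℂ) : Prop :=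
  ∃ (η : W → ℂ) (β : C → ℂ) (ηh : M → ℂ) (βh : M' → ℂ) (μ : M →* ℂˣ),
    Cfsg.IsIrrCharacter W η ∧ Cfsg.IsIrrCharacter C β ∧ S ≤ inertia W η ∧ GlC p hCW η β ∧
    IsCanon hWM hSM η ηh ∧ IsCanon hCM' hSM' β βh ∧
    (∀ w : W, μ (Subgroup.inclusion hWM w) = 1) ∧
    τ = ηh * homFun μ ∧ τ' = βh * homFun (μ.comp (Subgroup.inclusion hM'M))

end Cfsg.Agent.Helper8.RMcK
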