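import Mathlib

set_option autoImplicit false

/-!
Sylow subgroups contained in an abelian subgroup of index prime to `ℓ` which is the centraliser of
each of its elements of order `ℓ`: centraliser and normaliser of the Sylow subgroup.
-/

namespace Cfsg.Agent.Helper8.SylowTorus

variable {G : Type*} [Group G]

theorem normalizer_le_normalizer_centralizer (H : Subgroup G) :
    Subgroup.normalizer (H : Set G) ≤
      Subgroup.normalizer ((Subgroup.centralizer (H : Set G) : Subgroup G) : Set G) := by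
  have key : ∀ g ∈ Subgroup.normalizer (H : Set G), ∀ c ∈ Subgroup.centralizer (H : Set G),
      g * c * g⁻¹ ∈ Subgroup.centralizer (H : Set G) := by
    intro g hg c hc h hh
    have h1 : g⁻¹ * h * g ∈ H := by
      have := (Subgroup.mem_normalizer_iff.mp (Subgroup.inv_mem _ hg) h).mp hh
      rwa [inv_inv] at this
    have h2 := hc _ h1
    have e1 : h * (g * c * g⁻¹) = g * ((g⁻¹ * h * g) * c) * g⁻¹ := by group
    have e2 : g * c * g⁻¹ * h = g * (c * (g⁻¹ * h * g)) * g⁻¹ := by group
    rw [e1, e2, h2]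
  intro g hg
  rw [Subgroup.mem_normalizer_iff]
  intro c
  constructor
  · exact key g hg c
  · intro hc
    have := key g⁻¹ (Subgroup.inv_mem _ hg) _ hc
    have e : g⁻¹ * (g * c * g⁻¹) * g⁻¹⁻¹ = c := by group
    rwa [e] at this

theorem centralizer_map_conj (H : Subgroup G) (g : G) :
    Subgroup.centralizer ((H.map (MulAut.conj g).toMonoidHom : Subgroup G) : Set G) =
      (Subgroup.centralizer (H : Set G)).map (MulAut.conj g).toMonoidHom := by
  ext x
  constructor
  · intro hx
    refine ⟨g⁻¹ * x * g, ?_, ?_⟩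
    · intro h hh
      have h1 : g * h * g⁻¹ ∈ H.map (MulAut.conj g).toMonoidHom := ⟨h, hh, rfl⟩
      have h2 := hx _ h1
      have e1 : h * (g⁻¹ * x * g) = g⁻¹ * ((g * h * g⁻¹) * x) * g := by group
      have e2 : g⁻¹ * x * g * h = g⁻¹ * (x * (g * h * g⁻¹)) * g := by group
      rw [e1, e2, h2]
    · change g * (g⁻¹ * x * g) * g⁻¹ = x
      group
  · rintro ⟨c, hc, rfl⟩
    rintro _ ⟨h, hh, rfl⟩
    change g * h * g⁻¹ * (g * c * g⁻¹) = g * c * g⁻¹ * (g * h * g⁻¹)
    have h2 := hc h hh
    have e1 : g * h * g⁻¹ * (g * c * g⁻¹) = g * (h * c) * g⁻¹ := by group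
    have e2 : g * c * g⁻¹ * (g * h * g⁻¹) = g * (c * h) * g⁻¹ := by group
    rw [e1, e2, h2]

variable [Finite G]

/-- a Sylow subgroup inside `A`. -/
theorem exists_sylow_le (ℓ : ℕ) [Fact ℓ.Prime] (A : Subgroup G) (hidx : ¬ ℓ ∣ A.index) :
    ∃ Q : Sylow ℓ G, (Q : Subgroup G) ≤ A := by
  have hr : ℓ.Prime := Fact.out
  obtain ⟨n, hn⟩ : ∃ n, n = (Nat.card G).factorization ℓ := ⟨_, rfl⟩
  have hdvd : ℓ ^ n ∣ Nat.card A := by
    have h1 : ℓ ^ n ∣ Nat.card A * A.index := by
      rw [Subgroup.card_mul_index, hn]; exact Nat.ordProj_dvd _ _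
    exact (Nat.Coprime.pow_left n ((Nat.Prime.coprime_iff_not_dvd hr).mpr hidx)).dvd_of_dvd_mul_right h1
  obtain ⟨K, hK⟩ := Sylow.exists_subgroup_card_pow_prime ℓ hdvd
  have hcard : Nat.card (K.map A.subtype) = ℓ ^ (Nat.card G).factorization ℓ := by
    rw [Subgroup.card_map_of_injective A.subtype_injective, hK, hn]
  refine ⟨Sylow.ofCard (K.map A.subtype) hcard, ?_⟩
  rw [Sylow.coe_ofCard]
  exact Subgroup.map_subtype_le K

theorem sylow_cent_norm_of_le (ℓ : ℕ) [Fact ℓ.Prime] (A : Subgroup G)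
    (hab : ∀ a ∈ A, ∀ b ∈ A, a * b = b * a) (hdvd : ℓ ∣ Nat.card A)
    (hcent : ∀ x ∈ A, orderOf x = ℓ → Subgroup.centralizer ({x} : Set G) = A)
    (Q : Sylow ℓ G) (hQ : (Q : Subgroup G) ≤ A) :
    Subgroup.centralizer ((Q : Subgroup G) : Set G) = A ∧
      Subgroup.normalizer ((Q : Subgroup G) : Set G) = Subgroup.normalizer (A : Set G) := by
  have hr : ℓ.Prime := Fact.out
  have hcQ : Subgroup.centralizer ((Q : Subgroup G) : Set G) = A := by
    have hdvdQ : ℓ ∣ Nat.card (Q : Subgroup G) := by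
      rw [Sylow.card_eq_multiplicity]
      have hG : ℓ ∣ Nat.card G := hdvd.trans (Subgroup.card_subgroup_dvd_card A)
      have : 0 < (Nat.card G).factorization ℓ :=
        hr.factorization_pos_of_dvd Nat.card_pos.ne' hG
      exact dvd_pow_self ℓ this.ne'
    obtain ⟨x, hx⟩ := exists_prime_orderOf_dvd_card' ℓ hdvdQ
    have hxA : (x : G) ∈ A := hQ x.2
    have hox : orderOf (x : G) = ℓ := by rw [Subgroup.orderOf_coe, hx]
    apply le_antisymm
    · rw [← hcent _ hxA hox]
      apply Subgroup.centralizer_le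
      intro y hy
      rw [Set.mem_singleton_iff] at hy
      rw [hy]
      exact x.2
    · intro a ha q hq
      exact hab q (hQ hq) a ha
  refine ⟨hcQ, ?_⟩
  apply le_antisymm
  · have := normalizer_le_normalizer_centralizer (Q : Subgroup G)
    rwa [hcQ] at this
  · have key : ∀ g ∈ Subgroup.normalizer (A : Set G), ∀ q ∈ (Q : Subgroup G),
        g * q * g⁻¹ ∈ (Q : Subgroup G) := by
      intro g hg q hq
      obtain ⟨Q', hQ'⟩ : ∃ Q', Q' = (Q : Subgroup G).map (MulAut.conj g).toMonoidHom := ⟨_, rfl⟩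
      have hQ'A : Q' ≤ A := by
        rw [hQ']
        rintro _ ⟨y, hy, rfl⟩
        exact (Subgroup.mem_normalizer_iff.mp hg y).mp (hQ hy)
      have hp' : IsPGroup ℓ Q' := by rw [hQ']; exact Q.isPGroup'.map _
      have hnorm : (Q : Subgroup G) ≤ Subgroup.normalizer (Q' : Set G) := by
        intro a ha
        rw [Subgroup.mem_normalizer_iff]
        intro h
        constructor
        · intro hh
          have : a * h * a⁻¹ = h := by
            rw [hab a (hQ ha) h (hQ'A hh)]; group
          rwa [this]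
        · intro hh
          have hc := hab (a * h * a⁻¹) (hQ'A hh) a (hQ ha)
          have e1 : a * h * a⁻¹ * a = a * h := by group
          rw [e1] at hc
          have : h = a * h * a⁻¹ := mul_left_cancel hc
          rwa [← this] at hh
      have hsup := IsPGroup.to_sup_of_normal_right' Q.isPGroup' hp' hnorm
      have heq := Q.is_maximal' hsup le_sup_left
      have : Q' ≤ (Q : Subgroup G) := by rw [← heq]; exact le_sup_right
      apply this
      rw [hQ']
      exact ⟨q, hq, rfl⟩
    intro g hg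
    rw [Subgroup.mem_normalizer_iff]
    intro h
    constructor
    · exact key g hg h
    · intro hh
      have := key g⁻¹ (Subgroup.inv_mem _ hg) _ hh
      have e : g⁻¹ * (g * h * g⁻¹) * g⁻¹⁻¹ = h := by group
      rwa [e] at this

/-- centraliser and normaliser of an arbitrary Sylow `ℓ`-subgroup. -/
theorem sylow_cent_norm (ℓ : ℕ) [Fact ℓ.Prime] (A : Subgroup G)
    (hab : ∀ a ∈ A, ∀ b ∈ A, a * b = b * a) (hidx : ¬ ℓ ∣ A.index) (hdvd : ℓ ∣ Nat.card A)
    (hcent : ∀ x ∈ A, orderOf x = ℓ → Subgroup.centralizer ({x} : Set G) = A) (P : Sylow ℓ G) :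
    ∃ g : G, Subgroup.centralizer ((P : Subgroup G) : Set G) = A.map (MulAut.conj g).toMonoidHom ∧
      Subgroup.normalizer ((P : Subgroup G) : Set G) =
        (Subgroup.normalizer (A : Set G)).map (MulAut.conj g).toMonoidHom := by
  obtain ⟨Q, hQ⟩ := exists_sylow_le ℓ A hidx
  obtain ⟨hc, hn⟩ := sylow_cent_norm_of_le ℓ A hab hdvd hcent Q hQ
  obtain ⟨g, hg⟩ := MulAction.exists_smul_eq G Q P
  have hP : (P : Subgroup G) = (Q : Subgroup G).map (MulAut.conj g).toMonoidHom := by
    rw [← hg, Sylow.smul_def, Sylow.pointwise_smul_def, Subgroup.pointwise_smul_def]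
    rfl
  refine ⟨g, ?_, ?_⟩
  · rw [hP, centralizer_map_conj, hc]
  · rw [hP, ← Subgroup.map_normalizer_eq_of_bijective _ (MulAut.conj g).bijective, hn]

theorem card_map_conj (H : Subgroup G) (g : G) :
    Nat.card (H.map (MulAut.conj g).toMonoidHom) = Nat.card H :=
  Subgroup.card_map_of_injective (MulAut.conj g).injective

theorem isCyclic_map_conj (H : Subgroup G) [IsCyclic H] (g : G) :
    IsCyclic (H.map (MulAut.conj g).toMonoidHom) := by
  have e := H.equivMapOfInjective (MulAut.conj g).toMonoidHom (MulAut.conj g).injective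
  exact isCyclic_of_surjective e e.surjective

end Cfsg.Agent.Helper8.SylowTorus
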