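import Mathlib
import Cfsg.Agent.Helper8.SylowTorus

set_option autoImplicit false

/-!
Sylow `2`-subgroups of a finite group with a "dicyclic" torus normaliser: `T` is abelian,
self-centralising on its elements of order `> 2`, inverted by `N(T) \ T`, with central involutions,
and a Sylow `2`-subgroup `S` of order twice the `2`-part of `|T|` meets `T` in a cyclic group
`⟨a₀⟩` of order `2 ^ k`, `k ≥ 2`.  Then `C(S) = Z(G)`; `N(S) = S` if `k ≥ 3`; `|N(S)| ∈ {|S|, 3|S|}`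
if `k = 2`.
-/

namespace Cfsg.Agent.Helper8.SylTwoTorus

variable {G : Type*} [Group G]

/-- the hypotheses. -/
structure Setup (T : Subgroup G) (S : Sylow 2 G) (a₀ : G) (k m : ℕ) : Prop where
  comm : ∀ a ∈ T, ∀ b ∈ T, a * b = b * a
  cent : ∀ a ∈ T, a * a ≠ 1 → ∀ g : G, g * a = a * g → g ∈ T
  inv : ∀ g ∈ Subgroup.normalizer (T : Set G), g ∉ T → ∀ a ∈ T, g * a * g⁻¹ = a⁻¹
  central : ∀ c ∈ T, c * c = 1 → c ∈ Subgroup.center G
  cardT : Nat.card T = 2 ^ k * m
  oddm : Odd m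
  cardS : Nat.card S = 2 ^ (k + 1)
  hk : 2 ≤ k
  memT : a₀ ∈ T
  memS : a₀ ∈ S
  ord : orderOf a₀ = 2 ^ k

variable {T : Subgroup G} {S : Sylow 2 G} {a₀ : G} {k m : ℕ}

namespace Setup

theorem four_le (h : Setup T S a₀ k m) : 4 ≤ 2 ^ k := by
  calc 4 = 2 ^ 2 := by norm_num
    _ ≤ 2 ^ k := Nat.pow_le_pow_right (by norm_num) h.hk

theorem sq_ne_one (h : Setup T S a₀ k m) : a₀ * a₀ ≠ 1 := by
  intro e
  have h1 : orderOf a₀ ∣ 2 := orderOf_dvd_of_pow_eq_one (by rw [pow_two, e])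
  have h2 := Nat.le_of_dvd (by norm_num) h1
  have := h.four_le
  rw [h.ord] at h2
  omega

theorem pow_ne_one (h : Setup T S a₀ k m) (hk3 : 3 ≤ k) : a₀ ^ 4 ≠ 1 := by
  intro e
  have h1 : orderOf a₀ ∣ 4 := orderOf_dvd_of_pow_eq_one e
  have h2 := Nat.le_of_dvd (by norm_num) h1
  have : 8 ≤ 2 ^ k := by
    calc 8 = 2 ^ 3 := by norm_num
      _ ≤ 2 ^ k := Nat.pow_le_pow_right (by norm_num) hk3
  rw [h.ord] at h2
  omega

variable [Finite G]

theorem inf_eq (h : Setup T S a₀ k m) : (S : Subgroup G) ⊓ T = Subgroup.zpowers a₀ := by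
  symm
  apply Subgroup.eq_of_le_of_card_ge
  · rw [Subgroup.zpowers_le]
    exact ⟨h.memS, h.memT⟩
  · rw [Nat.card_zpowers, h.ord]
    have hp : IsPGroup 2 ((S : Subgroup G) ⊓ T : Subgroup G) := S.isPGroup'.to_le inf_le_left
    obtain ⟨j, hj⟩ := hp.exists_card_eq
    have hd : Nat.card ((S : Subgroup G) ⊓ T : Subgroup G) ∣ Nat.card T :=
      Subgroup.card_dvd_of_le inf_le_right
    rw [hj, h.cardT] at hd
    have hc : Nat.Coprime (2 ^ j) m := Nat.Coprime.pow_left j h.oddm.coprime_two_left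
    have := hc.dvd_of_dvd_mul_right hd
    rw [hj]
    exact Nat.le_of_dvd (by positivity) this

theorem card_zpowers (h : Setup T S a₀ k m) : Nat.card (Subgroup.zpowers a₀) = 2 ^ k := by
  rw [Nat.card_zpowers, h.ord]

theorem zpowers_le (h : Setup T S a₀ k m) : Subgroup.zpowers a₀ ≤ (S : Subgroup G) := by
  rw [Subgroup.zpowers_le]; exact h.memS

theorem zpowers_le_T (h : Setup T S a₀ k m) : Subgroup.zpowers a₀ ≤ T := by
  rw [Subgroup.zpowers_le]; exact h.memT

theorem index_eq (h : Setup T S a₀ k m) :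
    ((Subgroup.zpowers a₀).subgroupOf (S : Subgroup G)).index = 2 := by
  have h1 := Subgroup.card_mul_index ((Subgroup.zpowers a₀).subgroupOf (S : Subgroup G))
  rw [Nat.card_congr (Subgroup.subgroupOfEquivOfLe h.zpowers_le).toEquiv, h.card_zpowers] at h1
  have h2 : Nat.card (S : Subgroup G) = 2 ^ (k + 1) := h.cardS
  rw [h2, pow_succ] at h1
  exact Nat.eq_of_mul_eq_mul_left (by positivity) h1

theorem sq_mem (h : Setup T S a₀ k m) {s : G} (hs : s ∈ S) : s * s ∈ Subgroup.zpowers a₀ := by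
  have := Subgroup.mul_self_mem_of_index_two h.index_eq ⟨s, hs⟩
  rwa [Subgroup.mem_subgroupOf] at this

theorem conj_mem (h : Setup T S a₀ k m) {s : G} (hs : s ∈ S) {a : G}
    (ha : a ∈ Subgroup.zpowers a₀) : s * a * s⁻¹ ∈ Subgroup.zpowers a₀ := by
  have := Subgroup.normal_of_index_eq_two h.index_eq
  have h1 : (⟨a, h.zpowers_le ha⟩ : (S : Subgroup G)) ∈
      (Subgroup.zpowers a₀).subgroupOf (S : Subgroup G) := by
    rw [Subgroup.mem_subgroupOf]; exact ha
  have := Subgroup.Normal.conj_mem this _ h1 ⟨s, hs⟩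
  rwa [Subgroup.mem_subgroupOf] at this

theorem mem_or (h : Setup T S a₀ k m) {s s' : G} (hs : s ∈ S) (hs' : s' ∈ S)
    (hn : s ∉ Subgroup.zpowers a₀) (hn' : s' ∉ Subgroup.zpowers a₀) :
    s * s' ∈ Subgroup.zpowers a₀ := by
  have := Subgroup.mul_mem_iff_of_index_two h.index_eq (a := ⟨s, hs⟩) (b := ⟨s', hs'⟩)
  simp only [Subgroup.mem_subgroupOf] at this
  exact this.mpr ⟨fun x => absurd x hn, fun x => absurd x hn'⟩

theorem mem_zpowers_iff (h : Setup T S a₀ k m) {s : G} (hs : s ∈ S) :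
    s ∈ Subgroup.zpowers a₀ ↔ s ∈ T := by
  rw [← h.inf_eq]
  exact ⟨fun x => x.2, fun x => ⟨hs, x⟩⟩

/-- the key: conjugating `a₀` into `T` forces normalising `T`. -/
theorem key (h : Setup T S a₀ k m) {g : G} (hg : g * a₀ * g⁻¹ ∈ T) :
    g ∈ Subgroup.normalizer (T : Set G) := by
  have hb : (g * a₀ * g⁻¹) * (g * a₀ * g⁻¹) ≠ 1 := by
    intro e
    apply h.sq_ne_one
    have e1 : (g * a₀ * g⁻¹) * (g * a₀ * g⁻¹) = g * (a₀ * a₀) * g⁻¹ := by group
    rw [e1] at e
    have : g⁻¹ * (g * (a₀ * a₀) * g⁻¹) * g = g⁻¹ * 1 * g := by rw [e]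
    have e2 : g⁻¹ * (g * (a₀ * a₀) * g⁻¹) * g = a₀ * a₀ := by group
    rw [e2] at this
    rw [this]; group
  rw [Subgroup.mem_normalizer_iff]
  intro x
  constructor
  · intro hx
    apply h.cent _ hg hb
    have e1 : g * x * g⁻¹ * (g * a₀ * g⁻¹) = g * (x * a₀) * g⁻¹ := by group
    have e2 : g * a₀ * g⁻¹ * (g * x * g⁻¹) = g * (a₀ * x) * g⁻¹ := by group
    rw [e1, e2, h.comm x hx a₀ h.memT]
  · intro hx
    apply h.cent _ h.memT h.sq_ne_one
    have e := h.comm _ hx _ hg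
    have e1 : g * x * g⁻¹ * (g * a₀ * g⁻¹) = g * (x * a₀) * g⁻¹ := by group
    have e2 : g * a₀ * g⁻¹ * (g * x * g⁻¹) = g * (a₀ * x) * g⁻¹ := by group
    rw [e1, e2] at e
    have : g⁻¹ * (g * (x * a₀) * g⁻¹) * g = g⁻¹ * (g * (a₀ * x) * g⁻¹) * g := by rw [e]
    have e3 : g⁻¹ * (g * (x * a₀) * g⁻¹) * g = x * a₀ := by group
    have e4 : g⁻¹ * (g * (a₀ * x) * g⁻¹) * g = a₀ * x := by group
    rw [e3, e4] at this
    exact this

theorem le_normalizer (h : Setup T S a₀ k m) :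
    (S : Subgroup G) ≤ Subgroup.normalizer (T : Set G) := by
  intro s hs
  apply h.key
  exact h.zpowers_le_T (h.conj_mem hs (Subgroup.mem_zpowers a₀))

theorem exists_not_mem (h : Setup T S a₀ k m) : ∃ s₀ ∈ S, s₀ ∉ T := by
  by_contra hcon
  push Not at hcon
  have h1 : (S : Subgroup G) ⊓ T = S := inf_eq_left.mpr hcon
  have h2 := h.card_zpowers
  rw [← h.inf_eq, h1] at h2
  have h3 : Nat.card (S : Subgroup G) = 2 ^ (k + 1) := h.cardS
  rw [h2, pow_succ] at h3
  have : 0 < 2 ^ k := by positivity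
  omega

theorem invS (h : Setup T S a₀ k m) {s : G} (hs : s ∈ S) (hn : s ∉ T) {a : G} (ha : a ∈ T) :
    s * a * s⁻¹ = a⁻¹ := h.inv s (h.le_normalizer hs) hn a ha

theorem centralizer_eq (h : Setup T S a₀ k m) :
    Subgroup.centralizer ((S : Subgroup G) : Set G) = Subgroup.center G := by
  apply le_antisymm
  · intro g hg
    rw [Subgroup.mem_centralizer_iff] at hg
    have hgT : g ∈ T := h.cent a₀ h.memT h.sq_ne_one g (hg a₀ h.memS).symm
    obtain ⟨s₀, hs₀, hn⟩ := h.exists_not_mem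
    have e1 := h.invS hs₀ hn hgT
    rw [hg s₀ hs₀, mul_inv_cancel_right] at e1
    apply h.central g hgT
    nth_rewrite 2 [e1]
    exact mul_inv_cancel g
  · exact Subgroup.center_le_centralizer _

theorem mem_of_pow (S : Sylow 2 G) {g : G} (hg : g ∈ Subgroup.normalizer ((S : Subgroup G) : Set G))
    {j : ℕ} (hj : g ^ 2 ^ j = 1) : g ∈ S := by
  have h1 : orderOf g ∣ 2 ^ j := orderOf_dvd_of_pow_eq_one hj
  obtain ⟨i, -, hi⟩ := (Nat.dvd_prime_pow Nat.prime_two).mp h1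
  have hp : IsPGroup 2 (Subgroup.zpowers g) := IsPGroup.of_card (n := i) (by rw [Nat.card_zpowers, hi])
  have hle : Subgroup.zpowers g ≤ Subgroup.normalizer ((S : Subgroup G) : Set G) := by
    rw [Subgroup.zpowers_le]; exact hg
  have h2 := hp.to_sup_of_normal_right' S.isPGroup' hle
  have h3 := S.is_maximal' h2 le_sup_right
  have : Subgroup.zpowers g ≤ (S : Subgroup G) := by
    rw [← h3]; exact le_sup_left
  exact this (Subgroup.mem_zpowers g)

theorem claim_T (h : Setup T S a₀ k m) {g : G}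
    (hg : g ∈ Subgroup.normalizer ((S : Subgroup G) : Set G)) (hgT : g ∈ T) : g ∈ S := by
  obtain ⟨s₀, hs₀, hn⟩ := h.exists_not_mem
  have h1 : g * s₀ * g⁻¹ ∈ (S : Subgroup G) := (Subgroup.mem_normalizer_iff.mp hg s₀).mp hs₀
  have h2 : g * s₀ * g⁻¹ * s₀⁻¹ ∈ (S : Subgroup G) := Subgroup.mul_mem _ h1 (Subgroup.inv_mem _ hs₀)
  have e1 := h.invS hs₀ hn (Subgroup.inv_mem _ hgT)
  rw [inv_inv] at e1
  have e2 : g * s₀ * g⁻¹ * s₀⁻¹ = g * (s₀ * g⁻¹ * s₀⁻¹) := by group
  rw [e2, e1] at h2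
  have h3 : g * g ∈ Subgroup.zpowers a₀ := by
    rw [← h.inf_eq]; exact ⟨h2, Subgroup.mul_mem _ hgT hgT⟩
  obtain ⟨n, hn'⟩ := Subgroup.mem_zpowers_iff.mp h3
  apply mem_of_pow S hg (j := k + 1)
  rw [pow_succ', pow_mul, pow_two, ← hn', ← zpow_natCast, ← zpow_mul, mul_comm, zpow_mul,
    zpow_natCast, ← h.ord, pow_orderOf_eq_one, one_zpow]

theorem claim (h : Setup T S a₀ k m) {g : G}
    (hg : g ∈ Subgroup.normalizer ((S : Subgroup G) : Set G))
    (hgT : g ∈ Subgroup.normalizer (T : Set G)) : g ∈ S := by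
  by_cases hT : g ∈ T
  · exact h.claim_T hg hT
  · obtain ⟨s₀, hs₀, hn⟩ := h.exists_not_mem
    have hs₀' : s₀⁻¹ ∈ (S : Subgroup G) := Subgroup.inv_mem _ hs₀
    have hn' : s₀⁻¹ ∉ T := fun x => hn (by simpa using Subgroup.inv_mem _ x)
    have e1 := h.invS hs₀' hn' h.memT
    rw [inv_inv] at e1
    have e2 := h.inv g hgT hT _ (Subgroup.inv_mem _ h.memT)
    rw [inv_inv] at e2
    have hc : (g * s₀⁻¹) * a₀ = a₀ * (g * s₀⁻¹) := by
      have e3 : (g * s₀⁻¹) * a₀ = g * (s₀⁻¹ * a₀ * s₀) * g⁻¹ * (g * s₀⁻¹) := by group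
      rw [e3, e1, e2]
    have hT' : g * s₀⁻¹ ∈ T := h.cent a₀ h.memT h.sq_ne_one _ hc
    have hN : g * s₀⁻¹ ∈ Subgroup.normalizer ((S : Subgroup G) : Set G) :=
      Subgroup.mul_mem _ hg (Subgroup.le_normalizer hs₀')
    have := Subgroup.mul_mem _ (h.claim_T hN hT') hs₀
    rwa [inv_mul_cancel_right] at this

theorem normalizer_eq (h : Setup T S a₀ k m) (hk3 : 3 ≤ k) :
    Subgroup.normalizer ((S : Subgroup G) : Set G) = S := by
  apply le_antisymm _ Subgroup.le_normalizer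
  intro g hg
  apply h.claim hg
  apply h.key
  have hb : g * a₀ * g⁻¹ ∈ (S : Subgroup G) := (Subgroup.mem_normalizer_iff.mp hg a₀).mp h.memS
  by_contra hbT
  have hsq := h.zpowers_le_T (h.sq_mem hb)
  have e1 := h.invS hb hbT hsq
  have e2 : g * a₀ * g⁻¹ * (g * a₀ * g⁻¹ * (g * a₀ * g⁻¹)) * (g * a₀ * g⁻¹)⁻¹ =
      g * (a₀ * a₀) * g⁻¹ := by group
  have e3 : (g * a₀ * g⁻¹ * (g * a₀ * g⁻¹))⁻¹ = g * (a₀ * a₀)⁻¹ * g⁻¹ := by group
  rw [e2, e3] at e1
  have e4 : a₀ * a₀ = (a₀ * a₀)⁻¹ := by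
    have : g⁻¹ * (g * (a₀ * a₀) * g⁻¹) * g = g⁻¹ * (g * (a₀ * a₀)⁻¹ * g⁻¹) * g := by rw [e1]
    have e5 : g⁻¹ * (g * (a₀ * a₀) * g⁻¹) * g = a₀ * a₀ := by group
    have e6 : g⁻¹ * (g * (a₀ * a₀)⁻¹ * g⁻¹) * g = (a₀ * a₀)⁻¹ := by group
    rw [e5, e6] at this
    exact this
  apply h.pow_ne_one hk3
  have : a₀ ^ 4 = (a₀ * a₀) * (a₀ * a₀) := by
    rw [show (4 : ℕ) = 2 + 2 from rfl, pow_add, pow_two]
  rw [this]
  nth_rewrite 2 [e4]
  exact mul_inv_cancel _

theorem conj_ne (h : Setup T S a₀ k m) (g : G) :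
    g * a₀ * g⁻¹ ≠ 1 ∧ (k = 2 → g * a₀ * g⁻¹ ≠ a₀ * a₀) := by
  constructor
  · intro e
    apply h.sq_ne_one
    have : a₀ = g⁻¹ * (g * a₀ * g⁻¹) * g := by group
    rw [this, e]; group
  · intro hk2 e
    have h4 : a₀ ^ 4 = 1 := by
      have := pow_orderOf_eq_one a₀
      rwa [h.ord, hk2] at this
    have h5 : a₀ ^ 4 = (a₀ * a₀) * (a₀ * a₀) := by
      rw [show (4 : ℕ) = 2 + 2 from rfl, pow_add, pow_two]
    rw [h5] at h4
    rw [← e] at h4
    have e1 : g * a₀ * g⁻¹ * (g * a₀ * g⁻¹) = g * (a₀ * a₀) * g⁻¹ := by group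
    rw [e1] at h4
    apply h.sq_ne_one
    have : a₀ * a₀ = g⁻¹ * (g * (a₀ * a₀) * g⁻¹) * g := by group
    rw [this, h4]; group

theorem card_normalizer_le (h : Setup T S a₀ k m) (hk2 : k = 2) :
    Nat.card (Subgroup.normalizer ((S : Subgroup G) : Set G)) ≤ 24 := by
  classical
  haveI := Fintype.ofFinite G
  let Nf : Finset G := Finset.univ.filter (· ∈ Subgroup.normalizer ((S : Subgroup G) : Set G))
  let Sf : Finset G := Finset.univ.filter (· ∈ (S : Subgroup G))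
  let Af : Finset G := Finset.univ.filter (· ∈ Subgroup.zpowers a₀)
  have cN : Nf.card = Nat.card (Subgroup.normalizer ((S : Subgroup G) : Set G)) := by
    rw [Nat.card_eq_fintype_card, Fintype.card_subtype]
  have cS : Sf.card = 8 := by
    have : Nat.card (S : Subgroup G) = 2 ^ (k + 1) := h.cardS
    rw [Nat.card_eq_fintype_card, Fintype.card_subtype, hk2] at this
    exact this
  have cA : Af.card = 4 := by
    have := h.card_zpowers
    rw [Nat.card_eq_fintype_card, Fintype.card_subtype, hk2] at this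
    exact this
  let f : G → G := fun g => g * a₀ * g⁻¹
  have h1 : Nf.card ≤ 4 * (Nf.image f).card := by
    apply Finset.card_le_mul_card_image
    intro b hb
    obtain ⟨g₀, hg₀, rfl⟩ := Finset.mem_image.mp hb
    rw [← cA]
    apply Finset.card_le_card_of_injOn (fun g => g₀⁻¹ * g)
    · intro g hg
      rw [Finset.mem_coe, Finset.mem_filter] at hg
      obtain ⟨hgN, hfg⟩ := hg
      have hgN' : g ∈ Subgroup.normalizer ((S : Subgroup G) : Set G) := (Finset.mem_filter.mp hgN).2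
      have hg₀' : g₀ ∈ Subgroup.normalizer ((S : Subgroup G) : Set G) := (Finset.mem_filter.mp hg₀).2
      have hfg' : g * a₀ * g⁻¹ = g₀ * a₀ * g₀⁻¹ := hfg
      have hc : (g₀⁻¹ * g) * a₀ = a₀ * (g₀⁻¹ * g) := by
        have e1 : (g₀⁻¹ * g) * a₀ = g₀⁻¹ * (g * a₀ * g⁻¹) * g := by group
        rw [e1, hfg']; group
      have hT : g₀⁻¹ * g ∈ T := h.cent a₀ h.memT h.sq_ne_one _ hc
      have hN : g₀⁻¹ * g ∈ Subgroup.normalizer ((S : Subgroup G) : Set G) :=
        Subgroup.mul_mem _ (Subgroup.inv_mem _ hg₀') hgN'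
      have hS : g₀⁻¹ * g ∈ (S : Subgroup G) := h.claim_T hN hT
      rw [Finset.mem_coe, Finset.mem_filter]
      refine ⟨Finset.mem_univ _, ?_⟩
      rw [← h.inf_eq]
      exact ⟨hS, hT⟩
    · intro x _ y _ hxy
      exact mul_left_cancel hxy
  have h2 : (Nf.image f).card ≤ 6 := by
    have hsub : Nf.image f ⊆ (Sf.erase 1).erase (a₀ * a₀) := by
      intro b hb
      obtain ⟨g, hg, rfl⟩ := Finset.mem_image.mp hb
      have hg' : g ∈ Subgroup.normalizer ((S : Subgroup G) : Set G) := (Finset.mem_filter.mp hg).2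
      have hb : g * a₀ * g⁻¹ ∈ (S : Subgroup G) := (Subgroup.mem_normalizer_iff.mp hg' a₀).mp h.memS
      rw [Finset.mem_erase, Finset.mem_erase, Finset.mem_filter]
      exact ⟨(h.conj_ne g).2 hk2, (h.conj_ne g).1, Finset.mem_univ _, hb⟩
    have h1S : (1 : G) ∈ Sf := Finset.mem_filter.mpr ⟨Finset.mem_univ _, Subgroup.one_mem _⟩
    have h2S : a₀ * a₀ ∈ Sf.erase 1 := by
      rw [Finset.mem_erase, Finset.mem_filter]
      exact ⟨h.sq_ne_one, Finset.mem_univ _, Subgroup.mul_mem _ h.memS h.memS⟩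
    calc (Nf.image f).card ≤ ((Sf.erase 1).erase (a₀ * a₀)).card := Finset.card_le_card hsub
      _ = 6 := by rw [Finset.card_erase_of_mem h2S, Finset.card_erase_of_mem h1S, cS]
      _ ≤ 6 := le_refl _
  rw [← cN]
  omega

theorem card_normalizer (h : Setup T S a₀ k m) (hk2 : k = 2)
    (hex : ∃ g ∈ Subgroup.normalizer ((S : Subgroup G) : Set G), g ∉ S) :
    Nat.card (Subgroup.normalizer ((S : Subgroup G) : Set G)) = 3 * Nat.card S := by
  have hle := h.card_normalizer_le hk2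
  have hS : Nat.card (S : Subgroup G) = 8 := by
    have : Nat.card (S : Subgroup G) = 2 ^ (k + 1) := h.cardS
    rw [this, hk2]; norm_num
  have hd : Nat.card (S : Subgroup G) ∣
      Nat.card (Subgroup.normalizer ((S : Subgroup G) : Set G)) :=
    Subgroup.card_dvd_of_le Subgroup.le_normalizer
  obtain ⟨j, hj⟩ := hd
  have hj1 : j ≠ 1 := by
    intro e
    rw [e, mul_one] at hj
    have := Subgroup.eq_of_le_of_card_ge (Subgroup.le_normalizer (H := (S : Subgroup G)))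
      (le_of_eq hj)
    obtain ⟨g, hg, hn⟩ := hex
    apply hn
    change g ∈ (S : Subgroup G)
    rw [this]; exact hg
  have hj2 : j ≠ 2 := by
    intro e
    have hp : IsPGroup 2 (Subgroup.normalizer ((S : Subgroup G) : Set G)) :=
      IsPGroup.of_card (n := 4) (by rw [hj, hS, e]; norm_num)
    have := S.is_maximal' hp Subgroup.le_normalizer
    rw [this, hS, e] at hj
    omega
  have hSS : Nat.card S = 8 := hS
  rw [hS] at hj
  rw [hSS, hj]
  rw [hj] at hle
  have hpos : 0 < Nat.card (Subgroup.normalizer ((S : Subgroup G) : Set G)) := Nat.card_pos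
  rw [hj] at hpos
  have : j = 3 := by omega
  rw [this]

theorem exists_of_conj (h : Setup T S a₀ k m) {g s₀ : G} (hs₀ : s₀ ∈ S) (hn : s₀ ∉ T)
    (h1 : g * a₀ * g⁻¹ ∈ S) (h2 : g * s₀ * g⁻¹ ∈ S) (h3 : g * a₀ * g⁻¹ ∉ T) :
    ∃ g ∈ Subgroup.normalizer ((S : Subgroup G) : Set G), g ∉ S := by
  refine ⟨g, ?_, ?_⟩
  · apply Subgroup.mem_normalizer_fintype
    intro s hs
    have hs' : s ∈ (S : Subgroup G) := hs
    let K : Subgroup G := (S : Subgroup G).comap (MulAut.conj g).toMonoidHom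
    have hK : ∀ x, x ∈ K ↔ g * x * g⁻¹ ∈ (S : Subgroup G) := fun x => Iff.rfl
    have hA : Subgroup.zpowers a₀ ≤ K := by
      rw [Subgroup.zpowers_le, hK]; exact h1
    have hs₀K : s₀ ∈ K := (hK _).mpr h2
    change s ∈ K
    by_cases hsA : s ∈ Subgroup.zpowers a₀
    · exact hA hsA
    · have hn' : s₀⁻¹ ∉ Subgroup.zpowers a₀ := by
        intro x
        apply hn
        have := h.zpowers_le_T (Subgroup.inv_mem _ x)
        rwa [inv_inv] at this
      have := h.mem_or (Subgroup.inv_mem _ hs₀) hs' hn' hsA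
      have := K.mul_mem hs₀K (hA this)
      rwa [mul_inv_cancel_left] at this
  · intro hg
    apply h3
    exact h.zpowers_le_T (h.conj_mem hg (Subgroup.mem_zpowers a₀))

end Setup

/-- transport of the three conclusions between Sylow subgroups. -/
theorem transport [Finite G] (S₀ S : Sylow 2 G) :
    (Subgroup.centralizer ((S₀ : Subgroup G) : Set G) = Subgroup.center G →
      Subgroup.centralizer ((S : Subgroup G) : Set G) = Subgroup.center G) ∧
    (Subgroup.normalizer ((S₀ : Subgroup G) : Set G) = S₀ →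
      Subgroup.normalizer ((S : Subgroup G) : Set G) = S) ∧
    (∀ c : ℕ, Nat.card (Subgroup.normalizer ((S₀ : Subgroup G) : Set G)) = c * Nat.card S₀ →
      Nat.card (Subgroup.normalizer ((S : Subgroup G) : Set G)) = c * Nat.card S) := by
  obtain ⟨g, hg⟩ := MulAction.exists_smul_eq G S₀ S
  have hS : (S : Subgroup G) = (S₀ : Subgroup G).map (MulAut.conj g).toMonoidHom := by
    rw [← hg, Sylow.coe_subgroup_smul, Subgroup.pointwise_smul_def]
    rfl
  have hinj : Function.Injective (MulAut.conj g).toMonoidHom := (MulAut.conj g).injective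
  have hN : Subgroup.normalizer ((S : Subgroup G) : Set G) =
      (Subgroup.normalizer ((S₀ : Subgroup G) : Set G)).map (MulAut.conj g).toMonoidHom := by
    rw [hS, Subgroup.map_equiv_normalizer_eq]
  refine ⟨?_, ?_, ?_⟩
  · intro h0
    rw [hS, Cfsg.Agent.Helper8.SylowTorus.centralizer_map_conj, h0]
    ext x
    constructor
    · rintro ⟨c, hc, rfl⟩
      have hc' : c ∈ Subgroup.center G := hc
      have : (MulAut.conj g).toMonoidHom c = c := by
        change g * c * g⁻¹ = c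
        rw [Subgroup.mem_center_iff] at hc'
        rw [hc' g, mul_inv_cancel_right]
      rw [this]; exact hc'
    · intro hx
      refine ⟨x, hx, ?_⟩
      change g * x * g⁻¹ = x
      rw [Subgroup.mem_center_iff] at hx
      rw [hx g, mul_inv_cancel_right]
  · intro h0
    rw [hN, h0, hS]
  · intro c h0
    have e1 : Nat.card S = Nat.card S₀ := by
      change Nat.card (S : Subgroup G) = Nat.card (S₀ : Subgroup G)
      rw [hS, Subgroup.card_map_of_injective hinj]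
    rw [hN, Subgroup.card_map_of_injective hinj, h0, e1]

end Cfsg.Agent.Helper8.SylTwoTorus
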