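import Mathlib
import Cfsg.Agent.Helper8.SylTwoTorus
import Cfsg.Agent.Helper8.SL2Order4
import Cfsg.Agent.Helper8.PSL2Basic
import Cfsg.Agent.Helper8.SL2HermOmega

set_option autoImplicit false

/-!
Sylow `2`-subgroups of `SL₂(F)`, `F` finite of odd order: centraliser and normaliser.
-/

namespace Cfsg.Agent.Helper8.SL2C

open Matrix Cfsg.Agent.Helper7.SL2 Cfsg.Agent.Helper8.SylTwoTorus
open scoped Matrix

variable {F : Type*} [Field F]

section Quat

variable {X Y : Matrix (Fin 2) (Fin 2) F}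

theorem quat_conj1 (hX : X * X = -1) (hY : Y * Y = -1) (hXY : Y * X = -(X * Y)) :
    (1 + X + Y + X * Y) * X = Y * (1 + X + Y + X * Y) := by
  have e1 : X * Y * X = Y := by
    rw [mul_assoc, hXY, mul_neg, ← mul_assoc, hX, neg_mul, one_mul, neg_neg]
  have e2 : Y * (X * Y) = X := by
    rw [← mul_assoc, hXY, neg_mul, mul_assoc, hY, mul_neg, mul_one, neg_neg]
  rw [add_mul, add_mul, add_mul, one_mul, hX, hXY, e1, mul_add, mul_add, mul_add, mul_one, hXY,
    hY, e2]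
  abel

theorem quat_conj2 (hX : X * X = -1) (hY : Y * Y = -1) (hXY : Y * X = -(X * Y)) :
    (1 + X + Y + X * Y) * Y = (X * Y) * (1 + X + Y + X * Y) := by
  have e1 : X * Y * X = Y := by
    rw [mul_assoc, hXY, mul_neg, ← mul_assoc, hX, neg_mul, one_mul, neg_neg]
  have e3 : X * Y * Y = -X := by
    rw [mul_assoc, hY, mul_neg, mul_one]
  have e4 : X * Y * (X * Y) = -1 := by
    rw [← mul_assoc, e1, hY]
  rw [add_mul, add_mul, add_mul, one_mul, hY, e3, mul_add, mul_add, mul_add, mul_one, e1, e3, e4]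
  abel

theorem quat_det {x y : SpecialLinearGroup (Fin 2) F} (hx : x * x = -1) (hy : y * y = -1) :
    (1 + (x : Matrix (Fin 2) (Fin 2) F) + (y : Matrix (Fin 2) (Fin 2) F) +
      (x : Matrix (Fin 2) (Fin 2) F) * (y : Matrix (Fin 2) (Fin 2) F)).det = 4 := by
  have hx11 : (x : Matrix (Fin 2) (Fin 2) F) 1 1 = -(x : Matrix (Fin 2) (Fin 2) F) 0 0 := by
    have := tr_eq_zero_of_sq hx
    unfold tr at this
    linear_combination this
  have hy11 : (y : Matrix (Fin 2) (Fin 2) F) 1 1 = -(y : Matrix (Fin 2) (Fin 2) F) 0 0 := by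
    have := tr_eq_zero_of_sq hy
    unfold tr at this
    linear_combination this
  have hdx := det_eq x
  have hdy := det_eq y
  rw [hx11] at hdx
  rw [hy11] at hdy
  rw [Matrix.det_fin_two]
  simp only [Matrix.add_apply, Matrix.mul_apply, Fin.sum_univ_two, Matrix.one_fin_two,
    Matrix.of_apply, Matrix.cons_val', Matrix.cons_val_zero, Matrix.cons_val_one,
    Matrix.cons_val_fin_one, hx11, hy11]
  linear_combination
    -((y : Matrix (Fin 2) (Fin 2) F) 0 0 ^ 2 +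
      (y : Matrix (Fin 2) (Fin 2) F) 0 1 * (y : Matrix (Fin 2) (Fin 2) F) 1 0 - 1) * hdx + 2 * hdy

theorem exists_conj_quat (h2 : (2 : F) ≠ 0) {x y : SpecialLinearGroup (Fin 2) F}
    (hx : x * x = -1) (hy : y * y = -1) (hxy : y * x = -(x * y)) :
    ∃ g : SpecialLinearGroup (Fin 2) F, g * x * g⁻¹ = y ∧ g * y * g⁻¹ = x * y := by
  have hX : (x : Matrix (Fin 2) (Fin 2) F) * (x : Matrix (Fin 2) (Fin 2) F) = -1 :=
    congrArg (fun g : SpecialLinearGroup (Fin 2) F => (g : Matrix (Fin 2) (Fin 2) F)) hx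
  have hY : (y : Matrix (Fin 2) (Fin 2) F) * (y : Matrix (Fin 2) (Fin 2) F) = -1 :=
    congrArg (fun g : SpecialLinearGroup (Fin 2) F => (g : Matrix (Fin 2) (Fin 2) F)) hy
  have hXY : (y : Matrix (Fin 2) (Fin 2) F) * (x : Matrix (Fin 2) (Fin 2) F) =
      -((x : Matrix (Fin 2) (Fin 2) F) * (y : Matrix (Fin 2) (Fin 2) F)) :=
    congrArg (fun g : SpecialLinearGroup (Fin 2) F => (g : Matrix (Fin 2) (Fin 2) F)) hxy
  have hdet := quat_det hx hy
  have hd : ((2⁻¹ : F) • (1 + (x : Matrix (Fin 2) (Fin 2) F) + (y : Matrix (Fin 2) (Fin 2) F) +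
      (x : Matrix (Fin 2) (Fin 2) F) * (y : Matrix (Fin 2) (Fin 2) F))).det = 1 := by
    rw [Matrix.det_smul, Fintype.card_fin, hdet]
    field_simp
    norm_num
  let g : SpecialLinearGroup (Fin 2) F := ⟨_, hd⟩
  have hgx : g * x = y * g := by
    apply Subtype.ext
    change ((2⁻¹ : F) • (1 + (x : Matrix (Fin 2) (Fin 2) F) + (y : Matrix (Fin 2) (Fin 2) F) +
      (x : Matrix (Fin 2) (Fin 2) F) * (y : Matrix (Fin 2) (Fin 2) F))) * (x : Matrix (Fin 2) (Fin 2) F) =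
      (y : Matrix (Fin 2) (Fin 2) F) * ((2⁻¹ : F) • (1 + (x : Matrix (Fin 2) (Fin 2) F) +
      (y : Matrix (Fin 2) (Fin 2) F) + (x : Matrix (Fin 2) (Fin 2) F) * (y : Matrix (Fin 2) (Fin 2) F)))
    rw [Matrix.smul_mul, Matrix.mul_smul, quat_conj1 hX hY hXY]
  have hgy : g * y = (x * y) * g := by
    apply Subtype.ext
    change ((2⁻¹ : F) • (1 + (x : Matrix (Fin 2) (Fin 2) F) + (y : Matrix (Fin 2) (Fin 2) F) +
      (x : Matrix (Fin 2) (Fin 2) F) * (y : Matrix (Fin 2) (Fin 2) F))) * (y : Matrix (Fin 2) (Fin 2) F) =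
      ((x : Matrix (Fin 2) (Fin 2) F) * (y : Matrix (Fin 2) (Fin 2) F)) * ((2⁻¹ : F) •
      (1 + (x : Matrix (Fin 2) (Fin 2) F) +
      (y : Matrix (Fin 2) (Fin 2) F) + (x : Matrix (Fin 2) (Fin 2) F) * (y : Matrix (Fin 2) (Fin 2) F)))
    rw [Matrix.smul_mul, Matrix.mul_smul, quat_conj2 hX hY hXY]
  exact ⟨g, by rw [hgx, mul_inv_cancel_right], by rw [hgy, mul_inv_cancel_right]⟩

end Quat

section Tori

theorem sq_eq_one_of_entry {a : SpecialLinearGroup (Fin 2) F} (ha : a ∈ D F)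
    (h1 : (a : Matrix (Fin 2) (Fin 2) F) 0 0 ^ 2 = 1) : a * a = 1 := by
  have hd := diag_of_mem_D ha
  have h11 : (a : Matrix (Fin 2) (Fin 2) F) 1 1 = (a : Matrix (Fin 2) (Fin 2) F) 0 0 := by
    have h0 : (a : Matrix (Fin 2) (Fin 2) F) 0 0 ≠ 0 := by
      intro h0; rw [h0, zero_mul] at hd; exact zero_ne_one hd
    apply mul_left_cancel₀ h0
    rw [hd, ← sq, h1]
  apply ext'
  · rw [coe_mul_apply, ha.1, one_00]; linear_combination h1
  · rw [coe_mul_apply, ha.1, one_01]; ring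
  · rw [coe_mul_apply, ha.2, one_10]; ring
  · rw [coe_mul_apply, ha.2, h11, one_11]; linear_combination h1

theorem D_cent {a : SpecialLinearGroup (Fin 2) F} (ha : a ∈ D F) (haa : a * a ≠ 1)
    {g : SpecialLinearGroup (Fin 2) F} (hg : g * a = a * g) : g ∈ D F := by
  have hne : (a : Matrix (Fin 2) (Fin 2) F) 0 0 ^ 2 ≠ 1 := fun h1 => haa (sq_eq_one_of_entry ha h1)
  rw [← centralizer_diag ha hne, Subgroup.mem_centralizer_singleton_iff]
  exact hg

theorem D_inv [Fintype F] (hq : 4 ≤ Fintype.card F) {g : SpecialLinearGroup (Fin 2) F}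
    (hg : g ∈ Subgroup.normalizer (D F : Set (SpecialLinearGroup (Fin 2) F))) (hgD : g ∉ D F)
    {a : SpecialLinearGroup (Fin 2) F} (ha : a ∈ D F) : g * a * g⁻¹ = a⁻¹ := by
  obtain ⟨c, hc0, hc1⟩ := Cfsg.Agent.Helper8.SL2HermOmega.exists_sq_ne_one hq
  have hex : ∃ d ∈ D F, (d : Matrix (Fin 2) (Fin 2) F) 0 0 ^ 2 ≠ 1 :=
    ⟨tor (Units.mk0 c hc0), tor_mem_D _, by rw [tor_00]; exact hc1⟩
  rw [normalizer_D hex] at hg
  rcases hg with hg | ⟨g00, g11⟩
  · exact absurd hg hgD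
  · have e : g * a = a⁻¹ * g := by
      obtain ⟨i00, i01, i10, i11⟩ := coe_inv_apply a
      apply ext' <;> simp only [coe_mul_apply, i00, i01, i10, i11, g00, g11, ha.1, ha.2] <;> ring
    rw [e, mul_inv_cancel_right]

theorem Tc_cent {t : F} {a : SpecialLinearGroup (Fin 2) F} (ha : a ∈ Tc t) (haa : a * a ≠ 1)
    {g : SpecialLinearGroup (Fin 2) F} (hg : g * a = a * g) : g ∈ Tc t := by
  have hz : (a : Matrix (Fin 2) (Fin 2) F) 1 0 ≠ 0 := by
    intro hz
    apply haa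
    rcases eq_one_or_neg_one_of_mem_Tc ha hz with h | h
    · rw [h, mul_one]
    · rw [h, neg_one_mul_neg_one]
  rw [← centralizer_of_mem_Tc ha hz, Subgroup.mem_centralizer_singleton_iff]
  exact hg

theorem Tc_inv {t : F} (ht : t ^ 2 ≠ 4) {g : SpecialLinearGroup (Fin 2) F}
    (hg : g ∈ Subgroup.normalizer ((Tc t : Subgroup (SpecialLinearGroup (Fin 2) F)) :
      Set (SpecialLinearGroup (Fin 2) F))) (hgT : g ∉ Tc t)
    {a : SpecialLinearGroup (Fin 2) F} (ha : a ∈ Tc t) : g * a * g⁻¹ = a⁻¹ := by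
  rcases (mem_normalizer_Tc_iff ht).mp hg with hg | ⟨g11, g01⟩
  · exact absurd hg hgT
  · have e : g * a = a⁻¹ * g := by
      obtain ⟨i00, i01, i10, i11⟩ := coe_inv_apply a
      apply ext' <;> simp only [coe_mul_apply, i00, i01, i10, i11, g11, g01, ha.1, ha.2] <;> ring
    rw [e, mul_inv_cancel_right]

end Tori

section Main

variable [Fintype F]

theorem exists_normalizer_not_mem (h2 : (2 : F) ≠ 0) {T : Subgroup (SpecialLinearGroup (Fin 2) F)}
    {S : Sylow 2 (SpecialLinearGroup (Fin 2) F)} {a₀ : SpecialLinearGroup (Fin 2) F} {m : ℕ}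
    (h : Setup T S a₀ 2 m) :
    ∃ g ∈ Subgroup.normalizer ((S : Subgroup (SpecialLinearGroup (Fin 2) F)) :
      Set (SpecialLinearGroup (Fin 2) F)), g ∉ S := by
  classical
  have ha : a₀ * a₀ = -1 := sq_eq_neg_one_of_order_four h2 (by rw [h.ord]; norm_num)
  obtain ⟨s₀, hs₀, hn⟩ := h.exists_not_mem
  have hsq : s₀ * s₀ ∈ T := h.zpowers_le_T (h.sq_mem hs₀)
  have e1 := h.invS hs₀ hn hsq
  have e2 : s₀ * (s₀ * s₀) * s₀⁻¹ = s₀ * s₀ := by group
  rw [e2] at e1
  have e3 : (s₀ * s₀) * (s₀ * s₀) = 1 := by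
    nth_rewrite 2 [e1]
    exact mul_inv_cancel _
  have hs : s₀ * s₀ = -1 := by
    rcases eq_one_or_neg_one_of_sq h2 e3 with h1 | h1
    · exfalso
      rcases eq_one_or_neg_one_of_sq h2 h1 with h0 | h0
      · apply hn; rw [h0]; exact T.one_mem
      · apply hn; rw [h0, ← ha]; exact T.mul_mem h.memT h.memT
    · exact h1
  have hinv : a₀⁻¹ = -a₀ := by
    apply inv_eq_of_mul_eq_one_right
    rw [mul_neg', ha, neg_neg]
  have e4 := h.invS hs₀ hn h.memT
  have hxy : s₀ * a₀ = -(a₀ * s₀) := by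
    have : s₀ * a₀ = (s₀ * a₀ * s₀⁻¹) * s₀ := by group
    rw [this, e4, hinv, neg_mul']
  obtain ⟨g, hg1, hg2⟩ := exists_conj_quat h2 ha hs hxy
  apply h.exists_of_conj hs₀ hn (g := g)
  · rw [hg1]; exact hs₀
  · rw [hg2]; exact Subgroup.mul_mem _ h.memS hs₀
  · rw [hg1]; exact hn

/-- Sylow `2`-subgroups of `SL₂(F)` from a cyclic torus of order `n` divisible by `4`. -/
theorem sylow_two_of_torus (h2 : (2 : F) ≠ 0) (T : Subgroup (SpecialLinearGroup (Fin 2) F))
    (hT : IsCyclic T) (n r : ℕ) (hn : Nat.card T = n) (h4 : 4 ∣ n) (hr : Odd r)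
    (hG : Nat.card (SpecialLinearGroup (Fin 2) F) = 2 * n * r)
    (comm : ∀ a ∈ T, ∀ b ∈ T, a * b = b * a)
    (cent : ∀ a ∈ T, a * a ≠ 1 → ∀ g : SpecialLinearGroup (Fin 2) F, g * a = a * g → g ∈ T)
    (inv : ∀ g ∈ Subgroup.normalizer (T : Set (SpecialLinearGroup (Fin 2) F)), g ∉ T →
      ∀ a ∈ T, g * a * g⁻¹ = a⁻¹)
    (S : Sylow 2 (SpecialLinearGroup (Fin 2) F)) :
    Subgroup.centralizer ((S : Subgroup (SpecialLinearGroup (Fin 2) F)) :
        Set (SpecialLinearGroup (Fin 2) F)) = Subgroup.center (SpecialLinearGroup (Fin 2) F) ∧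
    (8 ∣ n → Subgroup.normalizer ((S : Subgroup (SpecialLinearGroup (Fin 2) F)) :
        Set (SpecialLinearGroup (Fin 2) F)) = S) ∧
    (¬ 8 ∣ n → Nat.card (Subgroup.normalizer ((S : Subgroup (SpecialLinearGroup (Fin 2) F)) :
        Set (SpecialLinearGroup (Fin 2) F))) = 3 * Nat.card S) := by
  classical
  haveI := hT
  have hn0 : n ≠ 0 := by
    rw [← hn]; exact Nat.card_pos.ne'
  obtain ⟨k, m, hm, hnk⟩ := Nat.exists_eq_two_pow_mul_odd hn0
  have hm0 : m ≠ 0 := by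
    rintro rfl
    exact (Nat.not_odd_iff_even.mpr (by decide : Even 0)) hm
  have hcop : ∀ j : ℕ, Nat.Coprime (2 ^ j) m := fun j =>
    Nat.Coprime.pow_left j hm.coprime_two_left
  have hdvd_iff : ∀ j : ℕ, 2 ^ j ∣ n ↔ j ≤ k := by
    intro j
    rw [hnk]
    constructor
    · intro hd
      have := (hcop j).dvd_of_dvd_mul_right hd
      exact (Nat.pow_dvd_pow_iff_le_right (by norm_num)).mp this
    · intro hj
      exact Dvd.dvd.mul_right (pow_dvd_pow 2 hj) m
  have hk : 2 ≤ k := (hdvd_iff 2).mp (by simpa using h4)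
  obtain ⟨t₀, ht₀⟩ := IsCyclic.exists_ofOrder_eq_natCard (α := T)
  have hord : orderOf (((t₀ ^ m : T)) : SpecialLinearGroup (Fin 2) F) = 2 ^ k := by
    rw [Subgroup.orderOf_coe, orderOf_pow_of_dvd hm0 (by rw [ht₀, hn, hnk]; exact Dvd.intro_left _ rfl),
      ht₀, hn, hnk, Nat.mul_div_cancel _ (Nat.pos_of_ne_zero hm0)]
  set a₀ : SpecialLinearGroup (Fin 2) F := ((t₀ ^ m : T) : SpecialLinearGroup (Fin 2) F) with ha₀
  have hpg : IsPGroup 2 (Subgroup.zpowers a₀) :=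
    IsPGroup.of_card (n := k) (by rw [Nat.card_zpowers, hord])
  obtain ⟨S₀, hS₀⟩ := hpg.exists_le_sylow
  have hcardS₀ : Nat.card S₀ = 2 ^ (k + 1) := by
    rw [S₀.card_eq_multiplicity, hG, hnk]
    congr 1
    have e : 2 * (2 ^ k * m) * r = 2 ^ (k + 1) * (m * r) := by ring
    have hr0 : r ≠ 0 := by
      rintro rfl
      exact (Nat.not_odd_iff_even.mpr (by decide : Even 0)) hr
    have hmr : ¬ 2 ∣ m * r := by
      rw [Nat.Prime.dvd_mul Nat.prime_two]
      rintro (h | h)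
      · exact (Nat.not_even_iff_odd.mpr hm) (even_iff_two_dvd.mpr h)
      · exact (Nat.not_even_iff_odd.mpr hr) (even_iff_two_dvd.mpr h)
    rw [e, Nat.factorization_mul (by positivity) (Nat.mul_ne_zero hm0 hr0), Finsupp.add_apply,
      Nat.factorization_eq_zero_of_not_dvd hmr, add_zero, Nat.Prime.factorization_pow Nat.prime_two,
      Finsupp.single_eq_same]
  have hsetup : Setup T S₀ a₀ k m :=
    { comm := comm
      cent := cent
      inv := inv
      central := by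
        intro c _ hcc
        rw [mem_center_iff']
        exact eq_one_or_neg_one_of_sq h2 hcc
      cardT := by rw [hn, hnk]
      oddm := hm
      cardS := hcardS₀
      hk := hk
      memT := (t₀ ^ m : T).2
      memS := hS₀ (Subgroup.mem_zpowers a₀)
      ord := hord }
  obtain ⟨tr1, tr2, tr3⟩ := transport S₀ S
  refine ⟨tr1 hsetup.centralizer_eq, ?_, ?_⟩
  · intro h8
    have hk3 : 3 ≤ k := (hdvd_iff 3).mp (by simpa using h8)
    exact tr2 (hsetup.normalizer_eq hk3)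
  · intro h8
    have hk2 : k = 2 := by
      by_contra hne
      have hk3 : 3 ≤ k := by omega
      exact h8 (by simpa using (hdvd_iff 3).mpr hk3)
    subst hk2
    exact tr3 3 (hsetup.card_normalizer rfl (exists_normalizer_not_mem h2 hsetup))

end Main

end Cfsg.Agent.Helper8.SL2C
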