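import Cfsg.Agent.Helper8.TensSE

set_option autoImplicit false
set_option linter.unusedSectionVars false
set_option linter.unusedVariables false

/-! Tensor decompositions with forms (helper8), part SF: consequences of the pairing (`C + C'`
acts as a scalar on every vector, unless `SG Q ≤ M`), the commutator of an element of the
radical with a root element of the first factor, and the elements `θ`. -/

namespace Cfsg.Agent.Helper8.Tens

open Module Cfsg.Agent.Helper7.ExtF Cfsg.Agent.Helper8.OrthOrder Cfsg.Agent.Helper3.TensOm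
  Cfsg.Agent.Helper8.SiegelGroup

variable {F : Type*} [Field F] {U W V : Type*} [AddCommGroup U] [Module F U]
  [AddCommGroup W] [Module F W] [AddCommGroup V] [Module F V]
  {t : U →ₗ[F] W →ₗ[F] V} {Q : QuadraticForm F V} {f₁ : LinearMap.BilinForm F U}
  {f₂ : LinearMap.BilinForm F W} {M : Subgroup ↥(Isom Q)}

/-- a central element of the radical in `M` has a parameter acting as a scalar on every vector,
unless `SG Q ≤ M` (helper3's centre lemma). -/
theorem central_scalar (ht : IsTensorProduct t) (h : Hyp t Q f₁ f₂ M) (hno : ¬ SG Q ≤ M)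
    {w₀ : W} (hw₀ : w₀ ≠ 0) {N : Module.End F U} (hN : nN ht h.alt₂ N w₀ ∈ XM M) (u : U) :
    ∃ a : F, N u = a • u := by
  by_contra hcon
  push Not at hcon
  apply hno
  obtain ⟨hi, hm⟩ := mem_XM.mp hN
  exact h.SG_le_of_centre hw₀ N hm (fun u' w' => nN_t ht h.alt₂ N w₀ u' w') hcon

/-- **(★)**: for an element of the radical in `M`, the component `C` at `z` and its adjoint
satisfy: `C + C'` acts as a scalar on every vector (unless `SG Q ≤ M`). -/
theorem star (ht : IsTensorProduct t) (h : Hyp t Q f₁ f₂ M) (hno : ¬ SG Q ≤ M)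
    {w₀ z z' : W} (hw₀ : w₀ ≠ 0) {q : V ≃ₗ[F] V}
    (hqM : q ∈ XM M) (hq : InRS t f₂ w₀ q) (hz : f₂ z w₀ = 0) (hz' : f₂ z' w₀ = 0)
    (hzz' : f₂ z z' ≠ 0) {C C' : Module.End F U}
    (hC : ∀ u, q (t u z) = t u z + t (C u) w₀) (hadj : IsAdj f₁ C C') (u : U) :
    ∃ a : F, (C + C') u = a • u := by
  have h1 := Xi_mem ht h hqM hq hz hC hadj 1
  have h2 := zeta_mem ht h hz' 1
  have h3 := pairing ht h.alt₂ C C' hz hz' 1 1
  have h4 : nN ht h.alt₂ ((-(1 * 1 * f₂ z z')) • (C + C')) w₀ ∈ XM M := by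
    rw [← h3]
    exact (XM M).mul_mem ((XM M).mul_mem ((XM M).mul_mem h1 h2) ((XM M).inv_mem h1))
      ((XM M).inv_mem h2)
  obtain ⟨a, ha⟩ := central_scalar ht h hno hw₀ h4 u
  refine ⟨(-(f₂ z z'))⁻¹ * a, ?_⟩
  rw [LinearMap.smul_apply, one_mul, one_mul] at ha
  rw [mul_smul, ← ha, smul_smul, inv_mul_cancel₀ (neg_ne_zero.mpr hzz'), one_smul]

theorem yA_t' (ht : IsTensorProduct t) (halt₁ : ∀ u, f₁ u u = 0) (e : U) (c : F) (u : U) (w : W) :
    yA ht f₁ halt₁ e c (t u w) = t (Tv f₁ e c u) w := by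
  rw [yA_t, Tv_apply]

theorem Tv_Tv_neg {X : Type*} [AddCommGroup X] [Module F X] {f : LinearMap.BilinForm F X}
    (halt : ∀ x, f x x = 0) (e : X) (c : F) (x : X) : Tv f e c (Tv f e (-c) x) = x :=
  LinearMap.congr_fun (Tv_mul_neg halt e c) x

theorem yA_inv (ht : IsTensorProduct t) (halt₁ : ∀ u, f₁ u u = 0) (e : U) (c : F) :
    (yA ht f₁ halt₁ e c)⁻¹ = yA ht f₁ halt₁ e (-c) := by
  apply inv_eq_of_mul_eq_one_right
  apply equiv_ext_pure ht
  intro u w
  rw [LinearEquiv.mul_apply, yA_t', yA_t', Tv_Tv_neg halt₁]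
  rfl

theorem yA_inv_t (ht : IsTensorProduct t) (halt₁ : ∀ u, f₁ u u = 0) (e : U) (c : F) (u : U)
    (w : W) : (yA ht f₁ halt₁ e c)⁻¹ (t u w) = t (Tv f₁ e (-c) u) w := by
  rw [yA_inv, yA_t']

theorem yB_t' (ht : IsTensorProduct t) (halt₂ : ∀ w, f₂ w w = 0) (e : W) (c : F) (u : U) (w : W) :
    yB ht f₂ halt₂ e c (t u w) = t u (Tv f₂ e c w) := by
  rw [yB_t, Tv_apply]

theorem yB_inv (ht : IsTensorProduct t) (halt₂ : ∀ w, f₂ w w = 0) (e : W) (c : F) :
    (yB ht f₂ halt₂ e c)⁻¹ = yB ht f₂ halt₂ e (-c) := by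
  apply inv_eq_of_mul_eq_one_right
  apply equiv_ext_pure ht
  intro u w
  rw [LinearEquiv.mul_apply, yB_t', yB_t', Tv_Tv_neg halt₂]
  rfl

theorem yB_inv_t (ht : IsTensorProduct t) (halt₂ : ∀ w, f₂ w w = 0) (e : W) (c : F) (u : U)
    (w : W) : (yB ht f₂ halt₂ e c)⁻¹ (t u w) = t u (Tv f₂ e (-c) w) := by
  rw [yB_inv, yB_t']

/-- the commutator of a root element of the first factor with an element of the radical. -/
theorem conj_step (ht : IsTensorProduct t) (h : Hyp t Q f₁ f₂ M) {w₀ z : W} {q : V ≃ₗ[F] V}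
    (hqM : q ∈ XM M) (hq : InRS t f₂ w₀ q) (hz : f₂ z w₀ = 0) {C : Module.End F U}
    (hC : ∀ u, q (t u z) = t u z + t (C u) w₀) (e : U) (c : F) :
    yA ht f₁ h.alt₁ e c * q * (yA ht f₁ h.alt₁ e c)⁻¹ * q⁻¹ ∈ XM M ∧
    InRS t f₂ w₀ (yA ht f₁ h.alt₁ e c * q * (yA ht f₁ h.alt₁ e c)⁻¹ * q⁻¹) ∧
    ∀ u, (yA ht f₁ h.alt₁ e c * q * (yA ht f₁ h.alt₁ e c)⁻¹ * q⁻¹) (t u z)
      = t u z + t ((Tv f₁ e c * C * Tv f₁ e (-c) - C) u) w₀ := by
  set y := yA ht f₁ h.alt₁ e c with hy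
  have hyM : y ∈ XM M := yA_mem ht h e c
  have hyq : InRS t f₂ w₀ (y * q * y⁻¹) := by
    refine ⟨fun u => ?_, fun u z' hz' => ?_⟩
    · rw [LinearEquiv.mul_apply, LinearEquiv.mul_apply, hy, yA_inv_t, hq.1, yA_t', Tv_Tv_neg h.alt₁]
    · rw [LinearEquiv.mul_apply, LinearEquiv.mul_apply, hy, yA_inv_t]
      obtain ⟨u', hu'⟩ := mem_fib.mp (hq.2 (Tv f₁ e (-c) u) z' hz')
      have e1 : q (t (Tv f₁ e (-c) u) z') = t (Tv f₁ e (-c) u) z' + t u' w₀ := by
        rw [hu']; abel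
      rw [e1, map_add, yA_t', yA_t', Tv_Tv_neg h.alt₁, add_sub_cancel_left]
      exact t_mem_fib _ _
  refine ⟨(XM M).mul_mem ((XM M).mul_mem ((XM M).mul_mem hyM hqM) ((XM M).inv_mem hyM))
    ((XM M).inv_mem hqM), hyq.mul hq.inv, fun u => ?_⟩
  have hqinv : q⁻¹ (t u z) = t u z - t (C u) w₀ := by
    have h1 : q (t u z - t (C u) w₀) = t u z := by
      rw [map_sub, hC, hq.1]; abel
    rw [← h1, inv_apply_self, h1]
  rw [LinearEquiv.mul_apply, hqinv, LinearEquiv.mul_apply, LinearEquiv.mul_apply, map_sub, hy,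
    yA_inv_t, yA_inv_t, map_sub, hC, hq.1, map_sub, map_add, yA_t', yA_t', yA_t']
  simp only [Tv_Tv_neg h.alt₁, LinearMap.sub_apply, Module.End.mul_apply, map_sub]
  abel

/-- the algebra of the two commutators. -/
theorem two_step {X : Type*} [AddCommGroup X] [Module F X] {f : LinearMap.BilinForm F X}
    (halt : ∀ x, f x x = 0) {C C' : Module.End F X} (hadj : IsAdj f C C') {u u' : X} {a : F}
    (ha : (C + C') u = a • u) (huu' : f u u' = 0) (hu' : f u' (C u) = 1) (c₁ c₂ : F) :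
    Tv f u' c₂ * (Tv f u c₁ * C * Tv f u (-c₁) - C) * Tv f u' (-c₂)
      - (Tv f u c₁ * C * Tv f u (-c₁) - C) = (c₁ * c₂) • sv f u u' := by
  have hu'u : f u' u = 0 := alt_perp_symm f halt huu'
  have hC'u : C' u = a • u - C u := by
    rw [← ha, LinearMap.add_apply]; abel
  -- the first commutator
  have hD₁ : Tv f u c₁ * C * Tv f u (-c₁) - C
      = c₁ • (P f u (C' u) - P f (C u) u) - (c₁ * c₁ * f (C u) u) • P f u u := by
    apply LinearMap.ext; intro x
    simp only [LinearMap.sub_apply, Module.End.mul_apply, Tv_apply, map_add, map_smul,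
      LinearMap.smul_apply, P_apply, LinearMap.add_apply, map_neg, neg_mul, neg_smul, map_sub,
      smul_eq_mul]
    rw [hadj x u]
    module
  have e1 : Tv f u' c₂ u = u := by rw [Tv_apply, huu', mul_zero, zero_smul, add_zero]
  have e2 : Tv f u' c₂ (C u) = C u - c₂ • u' := by
    rw [Tv_apply, alt_skew f halt, hu']; module
  have e3 : Tv f u' c₂ (C' u) = C' u + c₂ • u' := by
    rw [Tv_apply, hC'u, map_sub, LinearMap.sub_apply, map_smul, LinearMap.smul_apply, huu',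
      alt_skew f halt (C u) u', hu']
    module
  rw [hD₁, mul_sub, sub_mul, mul_smul_comm, smul_mul_assoc, mul_sub, sub_mul, Tv_conj_P halt,
    Tv_conj_P halt, mul_smul_comm, smul_mul_assoc, Tv_conj_P halt, e1, e2, e3]
  apply LinearMap.ext; intro x
  simp only [LinearMap.sub_apply, LinearMap.smul_apply, LinearMap.add_apply, P_apply, sv_apply,
    map_add, map_sub, map_smul, smul_eq_mul]
  module

end Cfsg.Agent.Helper8.Tens
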