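import Cfsg.Agent.Helper8.TensSG

set_option autoImplicit false
set_option linter.unusedSectionVars false
set_option linter.unusedVariables false

/-! Tensor decompositions with forms (helper8), part SH: from a non-scalar component of an
element of the radical to an element `θ` of `M`. -/

namespace Cfsg.Agent.Helper8.Tens

open Module Cfsg.Agent.Helper7.ExtF Cfsg.Agent.Helper8.OrthOrder Cfsg.Agent.Helper3.TensOm
  Cfsg.Agent.Helper8.SiegelGroup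

variable {F : Type*} [Field F] {U W V : Type*} [AddCommGroup U] [Module F U]
  [AddCommGroup W] [Module F W] [AddCommGroup V] [Module F V]
  {t : U →ₗ[F] W →ₗ[F] V} {Q : QuadraticForm F V} {f₁ : LinearMap.BilinForm F U}
  {f₂ : LinearMap.BilinForm F W} {M : Subgroup ↥(Isom Q)}

/-- from a component `C` at `z` with `f₁ u' (C u) = 1`, `u ⊥ u'`, to the elements `θ`. -/
theorem exists_theta [FiniteDimensional F U] (ht : IsTensorProduct t) (h : Hyp t Q f₁ f₂ M)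
    (hno : ¬ SG Q ≤ M) {w₀ z : W} (hw₀ : w₀ ≠ 0) {q : V ≃ₗ[F] V} (hqM : q ∈ XM M)
    (hq : InRS t f₂ w₀ q) (hz : f₂ z w₀ = 0) (hzw : ∀ a : F, z ≠ a • w₀)
    {C : Module.End F U} (hC : ∀ u, q (t u z) = t u z + t (C u) w₀) {u u' : U}
    (hu : f₁ u u' = 0) (hu' : f₁ u' (C u) = 1) (κ : F) :
    theta ht h.alt₁ h.alt₂ hu (alt_perp_symm f₂ h.alt₂ hz) κ ∈ XM M := by
  obtain ⟨C', hadj⟩ := exists_adj h.alt₁ h.nd₁ C
  obtain ⟨z', hz'1, hz'2⟩ := exists_perp_not_perp f₂ h.nd₂ hw₀ hzw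
  have hz' : f₂ z' w₀ = 0 := alt_perp_symm f₂ h.alt₂ hz'1
  obtain ⟨a, ha⟩ := star ht h hno hw₀ hqM hq hz hz' hz'2 hC hadj u
  obtain ⟨hq₁M, hq₁, hC₁⟩ := conj_step ht h hqM hq hz hC u 1
  obtain ⟨hq₂M, hq₂, hC₂⟩ := conj_step ht h hq₁M hq₁ hz hC₁ u' 1
  have h2 := two_step h.alt₁ hadj ha hu hu' 1 1
  rw [h2] at hC₂
  have hadj₂ : IsAdj f₁ ((1 * 1 : F) • sv f₁ u u') (-((1 * 1 : F) • sv f₁ u u')) := by
    have := (isAdj_sv h.alt₁ u u').smul (1 * 1 : F)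
    rwa [smul_neg] at this
  have h3 := Xi_mem ht h hq₂M hq₂ hz hC₂ hadj₂ κ
  rw [Xi_sv ht h.alt₁ h.alt₂ hu hz] at h3
  rwa [mul_one, mul_one] at h3

end Cfsg.Agent.Helper8.Tens
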