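import Cfsg.Agent.Helper8.TensSH
import Cfsg.Agent.Helper2.TensSC

set_option autoImplicit false
set_option linter.unusedSectionVars false
set_option linter.unusedVariables false

/-! Tensor decompositions with forms (helper8), part SI: an element of the radical all of whose
components are scalars lies in the tensor-product group (unless `SG Q ≤ M`). -/

namespace Cfsg.Agent.Helper8.Tens

open Module Cfsg.Agent.Helper7.ExtF Cfsg.Agent.Helper8.OrthOrder Cfsg.Agent.Helper3.TensOm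
  Cfsg.Agent.Helper8.SiegelGroup

variable {F : Type*} [Field F] {U W V : Type*} [AddCommGroup U] [Module F U]
  [AddCommGroup W] [Module F W] [AddCommGroup V] [Module F V]
  {t : U →ₗ[F] W →ₗ[F] V} {Q : QuadraticForm F V} {f₁ : LinearMap.BilinForm F U}
  {f₂ : LinearMap.BilinForm F W} {M : Subgroup ↥(Isom Q)}

/-- an endomorphism mapping every vector to a multiple of itself is a scalar. -/
theorem scalar_of_forall {X : Type*} [AddCommGroup X] [Module F X] {C : Module.End F X}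
    (hC : ∀ u, ∃ a : F, C u = a • u) : ∃ c : F, C = c • 1 := by
  apply LinearMap.exists_eq_smul_id_of_forall_notLinearIndependent
  intro v hli
  obtain ⟨a, ha⟩ := hC v
  have := (LinearIndependent.pair_iff.mp hli) a (-1) (by
    rw [ha]; simp)
  exact one_ne_zero (neg_eq_zero.mp this.2)

theorem isTens_yB (ht : IsTensorProduct t) (halt₂ : ∀ w, f₂ w w = 0) (w : W) (c : F) :
    IsTens t (yB ht f₂ halt₂ w c) := by
  rw [yB, xB_eq_tmap]
  exact isTens_tmap ht _ _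

theorem isTens_zeta (ht : IsTensorProduct t) (halt₂ : ∀ w, f₂ w w = 0) {w₀ d : W}
    (hd : f₂ d w₀ = 0) (c : F) : IsTens t (Xi ht halt₂ 1 1 hd c) := by
  rw [← zeta_eq ht halt₂ hd c]
  exact (isTens_yB ht halt₂ _ _).mul ht (isTens_yB ht halt₂ _ _)

section

variable [FiniteDimensional F U] [FiniteDimensional F W] [FiniteDimensional F V]

/-- **the scalar case of (Q-S)**. -/
theorem isTens_of_scalar (ht : IsTensorProduct t) (h : Hyp t Q f₁ f₂ M) (hno : ¬ SG Q ≤ M)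
    (hU : 1 ≤ finrank F U) {w₀ : W} (hw₀ : w₀ ≠ 0) {q : V ≃ₗ[F] V} (hqM : q ∈ XM M)
    (hq : InRS t f₂ w₀ q) {l₀ : Module.Dual F W} (hl₀ : l₀ w₀ = 1)
    (hsc : ∀ z, f₂ z w₀ = 0 → ∀ u, ∃ a : F, Cz ht l₀ q z u = a • u) : IsTens t q := by
  obtain ⟨u₁, hu₁⟩ := exists_ne_zero_of_one_le (F := F) (M := U) hU
  obtain ⟨α₁, hα₁⟩ := exists_dual_eq_one (F := F) hu₁
  -- the functional `Λ`
  set Λ : Module.Dual F W :=
    α₁.comp ((ev ht l₀).comp (((q : V →ₗ[F] V) - 1).comp (t u₁))) with hΛ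
  have hΛapp : ∀ z, Λ z = α₁ (Cz ht l₀ q z u₁) := fun z => rfl
  have hCz : ∀ z, f₂ z w₀ = 0 → Cz ht l₀ q z = Λ z • 1 := by
    intro z hz
    obtain ⟨c, hc⟩ := scalar_of_forall (hsc z hz)
    rw [hΛapp, hc, LinearMap.smul_apply, Module.End.one_apply, map_smul, hα₁, smul_eq_mul, mul_one]
  obtain ⟨d, hd⟩ := exists_flip_eq h Λ
  have hdΛ : ∀ w, f₂ w d = Λ w := fun w => by rw [← hd]; rfl
  have hΛw₀ : Λ w₀ = 0 := by
    rw [hΛapp]
    have : Cz ht l₀ q w₀ u₁ = 0 := by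
      show ev ht l₀ (q (t u₁ w₀) - t u₁ w₀) = 0
      rw [hq.1, sub_self, map_zero]
    rw [this, map_zero]
  have hdw₀ : f₂ d w₀ = 0 := by
    rw [skew₂ h, hdΛ, hΛw₀, neg_zero]
  set ζ := Xi ht h.alt₂ 1 1 hdw₀ 1 with hζ
  have hζM : ζ ∈ XM M := zeta_mem ht h hdw₀ 1
  -- `ζ` and `q` agree on the pure tensors of `S^⊥`
  have hagree : ∀ u z, f₂ z w₀ = 0 → ζ (t u z) = q (t u z) := by
    intro u z hz
    rw [hζ, Xi_t, Cz_spec ht hl₀ hq hz, hCz z hz, hz, hdΛ]
    simp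
  set q' := ζ⁻¹ * q with hq'
  have hq'M : q' ∈ XM M := (XM M).mul_mem ((XM M).inv_mem hζM) hqM
  have hq'fix : ∀ u z, f₂ z w₀ = 0 → q' (t u z) = t u z := by
    intro u z hz
    rw [hq', LinearEquiv.mul_apply, ← hagree u z hz, inv_apply_self]
  obtain ⟨N, hN⟩ := centre_form' ht h hw₀ (isom_of_mem_XM hq'M) hq'fix
  have hq'N : q' = nN ht h.alt₂ N w₀ := by
    apply equiv_ext_pure ht
    intro u w
    rw [hN, nN_t]
  rw [hq'N] at hq'M
  obtain ⟨c, hc⟩ := scalar_of_forall (central_scalar ht h hno hw₀ hq'M)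
  have hq'y : q' = yB ht f₂ h.alt₂ w₀ c := by
    rw [hq'N]
    apply equiv_ext_pure ht
    intro u w
    rw [nN_t, yB_t, hc, LinearMap.smul_apply, Module.End.one_apply, map_add, map_smul,
      map_smul, LinearMap.smul_apply, smul_smul, mul_comm]
  have hqe : q = ζ * q' := by rw [hq']; group
  rw [hqe, hq'y]
  exact (isTens_zeta ht h.alt₂ hdw₀ 1).mul ht (isTens_yB ht h.alt₂ w₀ c)

end

end Cfsg.Agent.Helper8.Tens
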