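import Cfsg.Agent.Helper8.TensSA

set_option autoImplicit false
set_option linter.unusedSectionVars false
set_option linter.unusedVariables false

/-! Tensor decompositions with forms (helper8), part SB: the max-intersection argument for the
symplectic root elements.  If `X` contains the root elements `1 ⊗ t_w(c)` and every `X`-conjugate
of such a root element stabilising a fibre is again one, then `X` permutes the fibres
(`dim U + 2 ≤ dim W`). -/

namespace Cfsg.Agent.Helper8.Tens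

open Module Cfsg.Agent.Helper7.ExtF Cfsg.Agent.Helper8.OrthOrder Cfsg.Agent.Helper3.TensOm

variable {F : Type*} [Field F] {U W V : Type*} [AddCommGroup U] [Module F U]
  [AddCommGroup W] [Module F W] [AddCommGroup V] [Module F V]
  {t : U →ₗ[F] W →ₗ[F] V} {f₂ : LinearMap.BilinForm F W}

theorem lw_ne_zero (halt₂ : ∀ w, f₂ w w = 0) (hnd₂ : ∀ w, (∀ y, f₂ w y = 0) → w = 0) {w : W}
    (hw : w ≠ 0) {c : F} (hc : c ≠ 0) : lw f₂ w c ≠ 0 := by
  intro h0
  obtain ⟨y, hy⟩ := exists_pair f₂ hnd₂ hw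
  have := LinearMap.congr_fun h0 y
  rw [lw_apply, alt_skew f₂ halt₂, hy] at this
  simp at this
  exact hc this

section

variable [FiniteDimensional F U] [FiniteDimensional F W] [FiniteDimensional F V]

theorem disp_yB (ht : IsTensorProduct t) (halt₂ : ∀ w, f₂ w w = 0)
    (hnd₂ : ∀ w, (∀ y, f₂ w y = 0) → w = 0) {w : W} (hw : w ≠ 0) {c : F} (hc : c ≠ 0) :
    disp (yB ht f₂ halt₂ w c) = fib t w :=
  disp_xB ht (lw_self halt₂ w c) (lw_ne_zero halt₂ hnd₂ hw hc)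

/-- the key lemma: a symplectic root element cannot stabilise a non-fibre of the orbit. -/
theorem no_stab_S (ht : IsTensorProduct t) (hU : 1 ≤ finrank F U) (halt₂ : ∀ w, f₂ w w = 0)
    (hnd₂ : ∀ w, (∀ y, f₂ w y = 0) → w = 0)
    (X : Subgroup (V ≃ₗ[F] V)) (hXB : ∀ w c, yB ht f₂ halt₂ w c ∈ X)
    (hyp : RootHypS ht f₂ halt₂ X)
    {g : V ≃ₗ[F] V} (hg : g ∈ X) {w₀ : W} (hw₀ : w₀ ≠ 0)
    (hR : ∀ w' : W, w' ≠ 0 → img g (fib t w₀) ≠ fib t w')
    {w : W} {c : F} (hw : w ≠ 0) (hc : c ≠ 0)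
    (hst : img (yB ht f₂ halt₂ w c) (img g (fib t w₀)) = img g (fib t w₀)) : False := by
  set x := yB ht f₂ halt₂ w c with hx
  have hxr : IsRootS ht f₂ halt₂ x := ⟨w, c, hw, hc, rfl⟩
  have hx'st : img (g⁻¹ * x * g⁻¹⁻¹) (fib t w₀) = fib t w₀ := by
    rw [inv_inv, img_mul, img_mul, hst, img_inv_img]
  obtain ⟨w'', c'', hw'', hc'', hx'⟩ := hyp g⁻¹ (X.inv_mem hg) x hxr w₀ hw₀ hx'st
  rw [hx'] at hx'st
  have hl''w₀ : lw f₂ w'' c'' w₀ = 0 :=
    dual_eq_zero_of_stab ht hU (lw_self halt₂ w'' c'') hw'' hw₀ hx'st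
  have hperp : f₂ w₀ w'' = 0 := by
    rw [lw_apply] at hl''w₀
    rcases mul_eq_zero.mp hl''w₀ with h | h
    · exact absurd h hc''
    · exact h
  set x₀ := yB ht f₂ halt₂ w₀ 1 with hx₀
  have hcomm : x₀ * yB ht f₂ halt₂ w'' c'' = yB ht f₂ halt₂ w'' c'' * x₀ := by
    apply xB_commute ht (lw_self halt₂ w₀ 1) (lw_self halt₂ w'' c'')
    · rw [lw_apply, alt_skew f₂ halt₂, hperp]; simp
    · exact hl''w₀
  set y := g * x₀ * g⁻¹ with hy
  have hxg : x = g * yB ht f₂ halt₂ w'' c'' * g⁻¹ := by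
    rw [← hx']; group
  have hyx : y * x = x * y := by
    rw [hxg, hy]; exact conj_commute g _ _ hcomm
  have hyst : img y (fib t w) = fib t w := by
    have := img_disp_of_commute hyx
    rwa [hx, disp_yB ht halt₂ hnd₂ hw hc] at this
  have hx₀r : IsRootS ht f₂ halt₂ x₀ := ⟨w₀, 1, hw₀, one_ne_zero, rfl⟩
  obtain ⟨w₃, c₃, hw₃, hc₃, hy₃⟩ := hyp g hg x₀ hx₀r w hw hyst
  have hd : disp y = img g (fib t w₀) := by
    rw [hy, disp_conj, hx₀, disp_yB ht halt₂ hnd₂ hw₀ one_ne_zero]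
  have hy₃' : y = yB ht f₂ halt₂ w₃ c₃ := hy₃
  rw [hy₃', disp_yB ht halt₂ hnd₂ hw₃ hc₃] at hd
  exact hR w₃ hw₃ hd.symm

/-- Step 1 of the max-intersection argument, symplectic version. -/
theorem step1_S (ht : IsTensorProduct t) (hU : 1 ≤ finrank F U) (halt₂ : ∀ w, f₂ w w = 0)
    (hnd₂ : ∀ w, (∀ y, f₂ w y = 0) → w = 0)
    (X : Subgroup (V ≃ₗ[F] V)) (hXB : ∀ w c, yB ht f₂ halt₂ w c ∈ X)
    (hyp : RootHypS ht f₂ halt₂ X) {d : ℕ}
    (hmax : ∀ n, PD t X n → n ≤ d) {w : W} (hw : w ≠ 0) {R : Submodule F V} (hR : R ∈ Orb t X)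
    (hRn : NonFib t R) (hd : finrank F ↥(fib t w ⊓ R) = d) {w' : W} (hw' : w' ≠ 0)
    (hww' : f₂ w w' = 0) {r : V} (hr : r ∈ R)
    (hNr : t (ev ht (lw f₂ w' 1) r) w' ∈ R) : r ∈ fib t w := by
  set x := yB ht f₂ halt₂ w' 1 with hx
  have hxX : x ∈ X := hXB w' 1
  have hR'O : img x R ∈ Orb t X := img_mem_Orb hxX hR
  have hne : img x R ≠ R := by
    intro hst
    obtain ⟨g, hg, w₀, hw₀, rfl⟩ := hR
    exact no_stab_S ht hU halt₂ hnd₂ X hXB hyp hg hw₀ hRn hw' one_ne_zero hst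
  have hle := max_le ht hmax hR hR'O hne
  have hfix : ∀ v ∈ fib t w, x v = v := by
    intro v hv
    obtain ⟨u, rfl⟩ := mem_fib.mp hv
    rw [hx, yB_t, hww', mul_zero, zero_smul, add_zero]
  have hDle : fib t w ⊓ R ≤ R ⊓ img x R := by
    rintro v ⟨hv1, hv2⟩
    refine ⟨hv2, ?_⟩
    rw [← hfix v hv1]; exact apply_mem_img hv2
  have hDeq : fib t w ⊓ R = R ⊓ img x R := eq_of_le_of_finrank hDle (by rw [hd]; exact hle)
  have hxr : x r ∈ fib t w ⊓ R := by
    rw [hDeq]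
    refine ⟨?_, apply_mem_img hr⟩
    rw [hx, yB_apply]; exact R.add_mem hr hNr
  have : x (x r) = x r := hfix _ hxr.1
  have hxr' : x r = r := x.injective this
  rw [← hxr']; exact hxr.1

/-- the max-intersection theorem, symplectic version: `X` permutes the fibres. -/
theorem fibres_permuted_S (ht : IsTensorProduct t) (hU : 1 ≤ finrank F U)
    (hab : finrank F U + 2 ≤ finrank F W) (halt₂ : ∀ w, f₂ w w = 0)
    (hnd₂ : ∀ w, (∀ y, f₂ w y = 0) → w = 0)
    (X : Subgroup (V ≃ₗ[F] V)) (hXB : ∀ w c, yB ht f₂ halt₂ w c ∈ X)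
    (hyp : RootHypS ht f₂ halt₂ X) :
    ∀ g ∈ X, ∀ w : W, w ≠ 0 → ∃ w' : W, w' ≠ 0 ∧ img g (fib t w) = fib t w' := by
  classical
  by_contra hcon
  push Not at hcon
  obtain ⟨g₁, hg₁, w₁, hw₁, hnf₁⟩ := hcon
  set R₁ := img g₁ (fib t w₁) with hR₁
  have hR₁O : R₁ ∈ Orb t X := ⟨g₁, hg₁, w₁, hw₁, rfl⟩
  have hR₁n : NonFib t R₁ := fun w' hw' => hnf₁ w' hw'
  have hbound : ∀ n, PD t X n → n ≤ finrank F U := by
    rintro n ⟨w, hw, R, hR, -, rfl⟩
    rw [← finrank_fib ht hw]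
    exact Submodule.finrank_mono inf_le_left
  have hP0 : PD t X (finrank F ↥(fib t w₁ ⊓ R₁)) := ⟨w₁, hw₁, R₁, hR₁O, hR₁n, rfl⟩
  set d := Nat.findGreatest (PD t X) (finrank F U) with hd
  have hPd : PD t X d := Nat.findGreatest_spec (hbound _ hP0) hP0
  have hmax : ∀ n, PD t X n → n ≤ d := fun n hn => Nat.le_findGreatest (hbound n hn) hn
  obtain ⟨w, hw, R, hR, hRn, hdR⟩ := hPd
  -- a vector of `R` outside the fibre
  have hex : ∃ r₀ ∈ R, r₀ ∉ fib t w := by
    by_contra hcon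
    push Not at hcon
    have hle : R ≤ fib t w := hcon
    have := eq_of_le_of_finrank hle (by rw [finrank_fib ht hw, finrank_Orb ht hR])
    exact hRn w hw this
  obtain ⟨r₀, hr₀, hr₀w⟩ := hex
  -- the linear map `w' ↦ ev (f₂(·, w')) r₀`
  set L : W →ₗ[F] U := (evAt ht r₀).comp f₂.flip with hL
  have hLapp : ∀ w', L w' = ev ht (lw f₂ w' 1) r₀ := by
    intro w'
    rw [hL, LinearMap.comp_apply, evAt_apply, lw, one_smul]
  set K : Submodule F W := LinearMap.ker (f₂ w) with hK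
  have hinj : Function.Injective (L.domRestrict K) := by
    rw [injective_iff_map_eq_zero]
    rintro ⟨w', hw'K⟩ hker
    rw [LinearMap.domRestrict_apply] at hker
    by_contra hne
    have hw'0 : w' ≠ 0 := fun h0 => hne (Subtype.ext h0)
    have hww' : f₂ w w' = 0 := LinearMap.mem_ker.mp hw'K
    apply hr₀w
    apply step1_S ht hU halt₂ hnd₂ X hXB hyp hmax hw hR hRn hdR hw'0 hww' hr₀
    rw [← hLapp, hker, LinearMap.map_zero₂]
    exact R.zero_mem
  have h1 := LinearMap.finrank_le_finrank_of_injective hinj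
  have hne0 : f₂ w ≠ 0 := by
    intro h0
    apply hw
    apply hnd₂
    intro y
    rw [h0, LinearMap.zero_apply]
  have h2 : finrank F ↥K + 1 = finrank F W := by
    have h3 := LinearMap.finrank_range_add_finrank_ker (f₂ w)
    have h4 : finrank F ↥(LinearMap.range (f₂ w)) = 1 := by
      have hsurj : LinearMap.range (f₂ w) = ⊤ := by
        rw [LinearMap.range_eq_top]
        exact LinearMap.surjective hne0
      rw [hsurj, finrank_top, finrank_self]
    rw [hK]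
    omega
  omega

end

end Cfsg.Agent.Helper8.Tens
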