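import Mathlib
import Cfsg.Agent.Helper7.UTyA

set_option autoImplicit false
set_option linter.unusedSectionVars false
set_option linter.unusedVariables false
set_option linter.unusedSimpArgs false

/-! # Unitary-type structures, part A: restriction, unit vectors and frames -/

namespace Cfsg.Agent.Helper8.UTy

open Module Cfsg.Agent.Helper7.SpOrd Cfsg.Agent.Helper7.UTy

universe u

variable {F : Type*} [Field F] {V : Type u} [AddCommGroup V] [Module F V]
variable {B : LinearMap.BilinForm F V} {δ : Module.End F V} {z : F}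

theorem swap (h : US B δ z) (u v : V) : B u v = -B v u :=
  (LinearMap.IsAlt.neg h.alt v u).symm

theorem isRefl (h : US B δ z) : B.IsRefl := h.alt.isRefl

/-- The form `(u, v) ↦ B (δ u) v` is symmetric. -/
theorem g_symm (h : US B δ z) (u v : V) : B (δ u) v = B (δ v) u := by
  rw [h.skew u v, swap h u (δ v), neg_neg]

theorem delta_delta (h : US B δ z) (u v : V) : B (δ u) (δ v) = -(z * B u v) := by
  rw [h.skew, h.sq, map_smul, smul_eq_mul]

theorem nrm_delta_self (h : US B δ z) (v : V) : B (δ v) (δ v) = 0 := h.alt _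

theorem self_zero (h : US B δ z) (v : V) : B v v = 0 := h.alt _

theorem nrm_add (h : US B δ z) {u w : V} (huw : B (δ u) w = 0) :
    nrm B δ (u + w) = nrm B δ u + nrm B δ w := by
  unfold nrm
  simp only [map_add, LinearMap.add_apply]
  rw [huw, g_symm h w u, huw]
  ring

theorem nrm_comb (h : US B δ z) (a b : F) (v : V) :
    nrm B δ (a • v + b • δ v) = (a * a - z * b * b) * nrm B δ v := by
  unfold nrm
  simp only [map_add, map_smul, LinearMap.add_apply, LinearMap.smul_apply, smul_eq_mul, h.sq]
  rw [nrm_delta_self h, self_zero h, swap h v (δ v)]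
  ring

/-! ### Restriction to an invariant nondegenerate subspace -/

theorem US.restrict (h : US B δ z) {W : Submodule F V} (hmaps : ∀ x ∈ W, δ x ∈ W) (hnd : ND B W) :
    US (B.restrict W) (δ.restrict hmaps) z where
  alt := fun x => h.alt (x : V)
  nd := by
    intro u _ hu
    have hu' : (u : V) ≠ 0 := fun h0 => hu (Subtype.ext h0)
    obtain ⟨v, hv, hv'⟩ := hnd u u.2 hu'
    exact ⟨⟨v, hv⟩, Submodule.mem_top, hv'⟩
  sq := fun v => Subtype.ext (h.sq (v : V))
  skew := fun u v => h.skew (u : V) (v : V)
  nsq := h.nsq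

theorem perp_maps (h : US B δ z) {W : Submodule F V} (hmaps : ∀ x ∈ W, δ x ∈ W) :
    ∀ x ∈ B.orthogonal W, δ x ∈ B.orthogonal W := by
  intro x hx
  rw [mem_perp] at hx ⊢
  intro w hw
  rw [swap h, h.skew, neg_neg, swap h, hx _ (hmaps w hw), neg_zero]

theorem nd_perp [FiniteDimensional F V] (h : US B δ z) {W : Submodule F V} (hnd : ND B W) :
    ND B (B.orthogonal W) := by
  have := nd_perp_inf (isRefl h) hnd h.nd le_top
  rwa [inf_top_eq] at this

theorem finrank_perp [FiniteDimensional F V] (h : US B δ z) {W : Submodule F V} (hnd : ND B W) :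
    finrank F ↥W + finrank F ↥(B.orthogonal W) = finrank F V := by
  have := finrank_perp_inf (isRefl h) hnd (le_top : W ≤ ⊤)
  rwa [inf_top_eq, finrank_top] at this

/-! ### The plane of a non-isotropic vector -/

/-- The `δ`-invariant plane spanned by `v` and `δ v`. -/
def plane (δ : Module.End F V) (v : V) : Submodule F V := Submodule.span F {v, δ v}

theorem mem_plane_self (v : V) : v ∈ plane δ v := Submodule.subset_span (by simp)

theorem delta_mem_plane (v : V) : δ v ∈ plane δ v := Submodule.subset_span (by simp)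

theorem mem_plane_iff {v x : V} : x ∈ plane δ v ↔ ∃ a b : F, x = a • v + b • δ v := by
  unfold plane
  rw [Submodule.mem_span_pair]
  constructor
  · rintro ⟨a, b, rfl⟩; exact ⟨a, b, rfl⟩
  · rintro ⟨a, b, rfl⟩; exact ⟨a, b, rfl⟩

theorem plane_maps (h : US B δ z) (v : V) : ∀ x ∈ plane δ v, δ x ∈ plane δ v := by
  intro x hx
  obtain ⟨a, b, rfl⟩ := mem_plane_iff.1 hx
  rw [map_add, map_smul, map_smul, h.sq]
  exact add_mem (Submodule.smul_mem _ _ (delta_mem_plane v))
    (Submodule.smul_mem _ _ (Submodule.smul_mem _ _ (mem_plane_self v)))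

theorem plane_nd (h : US B δ z) {v : V} (hv : nrm B δ v ≠ 0) : ND B (plane δ v) := by
  intro u hu hu0
  obtain ⟨a, b, rfl⟩ := mem_plane_iff.1 hu
  by_cases hb : b = 0
  · have ha : a ≠ 0 := by
      rintro rfl
      apply hu0
      rw [hb, zero_smul, zero_smul, add_zero]
    refine ⟨δ v, delta_mem_plane v, ?_⟩
    rw [hb, zero_smul, add_zero, map_smul, LinearMap.smul_apply, smul_eq_mul, swap h]
    exact mul_ne_zero ha (neg_ne_zero.2 hv)
  · refine ⟨v, mem_plane_self v, ?_⟩
    rw [map_add, map_smul, map_smul, LinearMap.add_apply, LinearMap.smul_apply,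
      LinearMap.smul_apply, self_zero h, smul_zero, zero_add, smul_eq_mul]
    exact mul_ne_zero hb hv

theorem plane_finrank [FiniteDimensional F V] (h : US B δ z) {v : V} (hv : nrm B δ v ≠ 0) :
    finrank F ↥(plane δ v) = 2 := by
  classical
  have hle : finrank F ↥(plane δ v) ≤ 2 := by
    unfold plane
    refine (finrank_span_le_card ({v, δ v} : Set V)).trans ?_
    rw [Set.toFinset_insert, Set.toFinset_singleton]
    exact Finset.card_le_two
  have heven : Even (finrank F ↥(plane δ v)) :=
    even_finrank_of_invt h.sq h.nsq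
      ((Module.End.mem_invtSubmodule δ).2 (fun x hx => plane_maps h v x hx))
  have hne : finrank F ↥(plane δ v) ≠ 0 := by
    intro h0
    have hbot : plane δ v = ⊥ := Submodule.finrank_eq_zero.1 h0
    have hv0 : v = 0 := by
      have := mem_plane_self (δ := δ) v
      rwa [hbot, Submodule.mem_bot] at this
    apply hv
    unfold nrm
    simp [hv0]
  obtain ⟨m, hm⟩ := heven
  omega

/-! ### Existence of unit vectors -/

/-- The norm form of a finite field of odd order represents every element. -/
theorem exists_norm_eq [Fintype F] (hq : Odd (Fintype.card F)) {z : F} (hz : z ≠ 0) (c : F) :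
    ∃ a b : F, a * a - z * b * b = c := by
  classical
  have hf : (Polynomial.X ^ 2 - Polynomial.C c : Polynomial F).degree = 2 :=
    Polynomial.degree_X_pow_sub_C (by norm_num) c
  have hg : (Polynomial.C (-z) * Polynomial.X ^ 2 : Polynomial F).degree = 2 := by
    rw [Polynomial.degree_C_mul (neg_ne_zero.2 hz), Polynomial.degree_X_pow]
    rfl
  obtain ⟨a, b, hab⟩ := FiniteField.exists_root_sum_quadratic hf hg (Nat.odd_iff.1 hq)
  refine ⟨a, b, ?_⟩
  simp only [Polynomial.eval_sub, Polynomial.eval_pow, Polynomial.eval_X, Polynomial.eval_C,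
    Polynomial.eval_mul] at hab
  linear_combination hab

theorem two_ne_zero_of_odd [Fintype F] (hq : Odd (Fintype.card F)) : (2 : F) ≠ 0 := by
  intro h2
  have hchar : ringChar F = 2 := by
    have hdvd : ringChar F ∣ 2 := (ringChar.spec F 2).1 (by exact_mod_cast h2)
    rcases (Nat.dvd_prime Nat.prime_two).1 hdvd with h | h
    · exact absurd h (CharP.ringChar_ne_one)
    · exact h
  have := FiniteField.even_card_of_char_two hchar
  rw [Nat.odd_iff] at hq
  omega

theorem exists_nrm_ne_zero [Fintype F] (hq : Odd (Fintype.card F)) (h : US B δ z)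
    (hV : ∃ v : V, v ≠ 0) : ∃ v : V, nrm B δ v ≠ 0 := by
  by_contra hcon
  push Not at hcon
  have h2 := two_ne_zero_of_odd hq
  have hall : ∀ u v : V, B (δ u) v = 0 := by
    intro u v
    have h1 := hcon (u + v)
    unfold nrm at h1
    simp only [map_add, LinearMap.add_apply] at h1
    have hu := hcon u
    have hv := hcon v
    unfold nrm at hu hv
    rw [hu, hv, g_symm h v u] at h1
    have : (2 : F) * B (δ u) v = 0 := by linear_combination h1
    rcases mul_eq_zero.1 this with h3 | h3
    · exact absurd h3 h2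
    · exact h3
  obtain ⟨u, hu⟩ := hV
  have hδu : δ u ≠ 0 := by
    intro h0
    apply hu
    apply h.injective
    rw [h0, map_zero]
  obtain ⟨v, _, hv⟩ := h.nd (δ u) Submodule.mem_top hδu
  exact hv (hall u v)

/-- (b) unit vectors exist in a nonzero space. -/
theorem exists_unit [Fintype F] (hq : Odd (Fintype.card F)) (h : US B δ z)
    (hV : ∃ v : V, v ≠ 0) : ∃ v : V, nrm B δ v = 1 := by
  obtain ⟨v, hv⟩ := exists_nrm_ne_zero hq h hV
  obtain ⟨a, b, hab⟩ := exists_norm_eq hq h.z_ne_zero (nrm B δ v)⁻¹
  refine ⟨a • v + b • δ v, ?_⟩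
  rw [nrm_comb h, hab, inv_mul_cancel₀ hv]

/-! ### Frames -/

theorem isFrame_cons (h : US B δ z) {d : ℕ} {v₀ : V} (hv₀ : nrm B δ v₀ = 1)
    {w : Fin d → ↥(B.orthogonal (plane δ v₀))}
    (hw : IsFrame (B.restrict (B.orthogonal (plane δ v₀)))
      ((δ : Module.End F V).restrict (perp_maps h (plane_maps h v₀))) w) :
    IsFrame B δ (Fin.cons v₀ (fun i => (w i : V)) : Fin (d + 1) → V) := by
  have hperp : ∀ i, ∀ p ∈ plane δ v₀, B p (w i : V) = 0 := fun i p hp =>
    mem_perp.1 (w i).2 p hp
  constructor
  · intro i j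
    refine Fin.cases ?_ (fun i' => ?_) i <;> refine Fin.cases ?_ (fun j' => ?_) j
    · simp only [Fin.cons_zero]; exact self_zero h _
    · simp only [Fin.cons_zero, Fin.cons_succ]; exact hperp j' _ (mem_plane_self v₀)
    · simp only [Fin.cons_zero, Fin.cons_succ]
      rw [swap h, hperp i' _ (mem_plane_self v₀), neg_zero]
    · simp only [Fin.cons_succ]; exact hw.1 i' j'
  · intro i j
    refine Fin.cases ?_ (fun i' => ?_) i <;> refine Fin.cases ?_ (fun j' => ?_) j
    · simp only [Fin.cons_zero, if_true]; exact hv₀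
    · simp only [Fin.cons_zero, Fin.cons_succ]
      rw [hperp j' _ (delta_mem_plane v₀), if_neg (Fin.succ_ne_zero j').symm]
    · simp only [Fin.cons_zero, Fin.cons_succ]
      rw [h.skew, swap h, neg_neg, hperp i' _ (delta_mem_plane v₀), if_neg (Fin.succ_ne_zero i')]
    · simp only [Fin.cons_succ]
      have := hw.2 i' j'
      simp only [Fin.succ_inj]
      exact this

/-- (c) frames exist. -/
theorem exists_frame [Fintype F] (hq : Odd (Fintype.card F)) :
    ∀ (d : ℕ) {V : Type u} [AddCommGroup V] [Module F V] [Finite V]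
      {B : LinearMap.BilinForm F V} {δ : Module.End F V} {z : F},
      US B δ z → finrank F V = 2 * d → ∃ v : Fin d → V, IsFrame B δ v
  | 0, V, _, _, _, B, δ, z, h, hd => ⟨Fin.elim0, fun i => i.elim0, fun i => i.elim0⟩
  | d + 1, V, _, _, _, B, δ, z, h, hd => by
    have hV : ∃ v : V, v ≠ 0 := by
      by_contra hcon
      push Not at hcon
      have : Subsingleton V := ⟨fun a b => by rw [hcon a, hcon b]⟩
      rw [finrank_zero_of_subsingleton] at hd
      omega
    obtain ⟨v₀, hv₀⟩ := exists_unit hq h hV
    have hv₀' : nrm B δ v₀ ≠ 0 := by rw [hv₀]; exact one_ne_zero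
    have hnd := plane_nd h hv₀'
    have hfr := finrank_perp h hnd
    rw [plane_finrank h hv₀', hd] at hfr
    have hd' : finrank F ↥(B.orthogonal (plane δ v₀)) = 2 * d := by omega
    obtain ⟨w, hw⟩ := exists_frame hq d
      (US.restrict h (perp_maps h (plane_maps h v₀)) (nd_perp h hnd)) hd'
    exact ⟨_, isFrame_cons h hv₀ hw⟩

end Cfsg.Agent.Helper8.UTy
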