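import Mathlib
import Cfsg.Agent.Lead.BswDefs
import Cfsg.Agent.Lead.BswDefs2
import Cfsg.Agent.Lead.Bsw_F4_9
import Cfsg.Agent.Lead.Bsw_F1_9
import Cfsg.Agent.Helper6.Bsw_A29_30
import Cfsg.Agent.Helper7.Bsw_A31_35

/-!
# S3282 (abstract Brauer-Suzuki-Wall), pieces F11, F12, F13a-d (endgame `e = -1`):
the conjugates of `Q = C(x)` for a non-real element `x`.
-/

set_option autoImplicit false

namespace Cfsg.Agent.Lead.Bsw

variable {G : Type*} [Group G]

/-! ### general helpers -/

theorem h8_mem_cent_conj (g x y : G) :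
    y ∈ Subgroup.centralizer ({g * x * g⁻¹} : Set G) ↔
      g⁻¹ * y * g ∈ Subgroup.centralizer ({x} : Set G) := by
  rw [Subgroup.mem_centralizer_singleton_iff, Subgroup.mem_centralizer_singleton_iff]
  constructor
  · intro h
    calc g⁻¹ * y * g * x = g⁻¹ * (y * (g * x * g⁻¹)) * g := by group
      _ = g⁻¹ * ((g * x * g⁻¹) * y) * g := by rw [h]
      _ = x * (g⁻¹ * y * g) := by group
  · intro h
    calc y * (g * x * g⁻¹) = g * ((g⁻¹ * y * g) * x) * g⁻¹ := by group
      _ = g * (x * (g⁻¹ * y * g)) * g⁻¹ := by rw [h]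
      _ = g * x * g⁻¹ * y := by group

theorem h8_map_conj_cent (g x : G) :
    (Subgroup.centralizer ({x} : Set G)).map (MulAut.conj g).toMonoidHom =
      Subgroup.centralizer ({g * x * g⁻¹} : Set G) := by
  ext y
  rw [h8_mem_cent_conj, Subgroup.mem_map]
  constructor
  · rintro ⟨a, ha, rfl⟩
    have : g⁻¹ * (MulAut.conj g).toMonoidHom a * g = a := by
      simp [MulAut.conj_apply, mul_assoc]
    rw [this]
    exact ha
  · intro h
    exact ⟨g⁻¹ * y * g, h, by simp [MulAut.conj_apply, mul_assoc]⟩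

theorem h8_cent_conj_eq_iff (x g g' : G) :
    Subgroup.centralizer ({g * x * g⁻¹} : Set G) = Subgroup.centralizer ({g' * x * g'⁻¹} : Set G) ↔
      g⁻¹ * g' ∈ Subgroup.normalizer ((Subgroup.centralizer ({x} : Set G) : Subgroup G) : Set G) := by
  rw [Subgroup.mem_normalizer_iff]
  constructor
  · intro hE y
    have h1 := h8_mem_cent_conj g x (g' * y * g'⁻¹)
    have h2 := h8_mem_cent_conj g' x (g' * y * g'⁻¹)
    rw [hE] at h1
    have e1 : g'⁻¹ * (g' * y * g'⁻¹) * g' = y := by group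
    have e2 : g⁻¹ * (g' * y * g'⁻¹) * g = g⁻¹ * g' * y * (g⁻¹ * g')⁻¹ := by group
    rw [e1] at h2
    rw [e2] at h1
    exact h2.symm.trans h1
  · intro hN
    ext y'
    rw [h8_mem_cent_conj, h8_mem_cent_conj]
    have h1 := hN (g'⁻¹ * y' * g')
    have e : g⁻¹ * g' * (g'⁻¹ * y' * g') * (g⁻¹ * g')⁻¹ = g⁻¹ * y' * g := by group
    rw [e] at h1
    exact h1.symm

/-- Orbit-stabilizer in function form. -/
theorem h8_card_range_mul {α : Type*} (f : G → α) (N : Subgroup G)
    (hf : ∀ g g' : G, f g = f g' ↔ g⁻¹ * g' ∈ N) :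
    Nat.card (Set.range f) * Nat.card N = Nat.card G := by
  have e : G ⧸ N ≃ Set.range f := Equiv.ofBijective
    (Quotient.lift (s := QuotientGroup.leftRel N) (fun g => (⟨f g, g, rfl⟩ : Set.range f)) (by
      intro a b hab
      apply Subtype.ext
      exact (hf a b).mpr (QuotientGroup.leftRel_apply.mp hab)))
    ⟨by
      intro a b
      induction a using Quotient.inductionOn
      induction b using Quotient.inductionOn
      intro h
      apply Quotient.sound
      exact QuotientGroup.leftRel_apply.mpr ((hf _ _).mp (congrArg Subtype.val h)),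
     by
      rintro ⟨_, g, rfl⟩
      exact ⟨Quotient.mk _ g, rfl⟩⟩
  rw [← Nat.card_congr e]
  exact (Subgroup.card_eq_card_quotient_mul_card_subgroup N).symm

/-- Counting by fibres of constant size. -/
theorem h8_card_fiberwise {α β : Type*} [Finite α] [Finite β] (f : α → β) (c : ℕ)
    (hc : ∀ b : β, Nat.card {a : α // f a = b} = c) : Nat.card α = Nat.card β * c := by
  classical
  have : Fintype β := Fintype.ofFinite β
  rw [← Nat.card_congr (Equiv.sigmaFiberEquiv f), Nat.card_sigma]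
  simp only [hc, Finset.sum_const, Finset.card_univ, smul_eq_mul, Nat.card_eq_fintype_card]

theorem h8_sq_of_order_two {v : G} (hv : orderOf v = 2) : v * v = 1 := by
  have := pow_orderOf_eq_one v
  rwa [hv, pow_two] at this

theorem h8_inv_of_order_two {v : G} (hv : orderOf v = 2) : v⁻¹ = v :=
  inv_eq_of_mul_eq_one_left (h8_sq_of_order_two hv)

variable [Finite G] {t s : G} {K : Subgroup G}

/-- In the minus case `|G| = 2k(2k-1)(k-1)`, and a centralizer of order `2k - 1` is proper. -/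
theorem h8_cent_ne_top (hm : HypMinus t K s) {x : G} (hx : IsNR x) :
    Subgroup.centralizer ({x} : Set G) ≠ ⊤ := by
  intro htop
  have h1 := minus_NR_cent_card hm hx
  rw [htop, Subgroup.card_top, card_G hm.h, hm.hn] at h1
  have hk := hm.hk
  generalize Nat.card K = k at h1 hk
  obtain ⟨j, rfl⟩ : ∃ j, k = j + 4 := ⟨k - 4, by omega⟩
  have e1 : 2 * (j + 4) - 1 = 2 * j + 7 := by omega
  have e2 : j + 4 - 1 = j + 3 := by omega
  rw [e1, e2] at h1
  have h2 : (2 * j + 7) * (2 * (j + 4) * (j + 3)) = (2 * j + 7) * 1 := by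
    have e3 : (2 * j + 7) * (2 * (j + 4) * (j + 3)) = 2 * (j + 4) * ((2 * j + 7) * (j + 3)) := by
      ring
    rw [e3, h1, mul_one]
  have h3 := Nat.eq_of_mul_eq_mul_left (by omega) h2
  nlinarith [h3]

/-- An element with the same centralizer as an `NR` element is `NR`. -/
theorem h8_NR_of_cent_eq (hm : HypMinus t K s) {x a : G} (hx : IsNR x)
    (ha : Subgroup.centralizer ({a} : Set G) = Subgroup.centralizer ({x} : Set G)) : IsNR a := by
  have ha1 : a ≠ 1 := by
    rintro rfl
    apply h8_cent_ne_top hm hx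
    rw [← ha, eq_top_iff]
    intro g _
    rw [Subgroup.mem_centralizer_singleton_iff, mul_one, one_mul]
  have hmem : a ∈ Subgroup.centralizer ({x} : Set G) := by
    rw [← ha, Subgroup.mem_centralizer_singleton_iff]
  exact NR_cent hm.h hx hmem ha1

/-! ### F11 -/

-- F11
theorem minus_inf_conj_inv (hm : HypMinus t K s) {x v : G} (hx : IsNR x) (hv : orderOf v = 2) :
    Subgroup.centralizer ({x} : Set G) ⊓ Subgroup.centralizer ({v * x * v⁻¹} : Set G) = ⊥ := by
  by_contra hne
  have hSNR : ∀ a ∈ Subgroup.centralizer ({x} : Set G) ⊓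
      Subgroup.centralizer ({v * x * v⁻¹} : Set G), a ≠ 1 → IsNR a :=
    fun a ha ha1 => NR_cent hm.h hx (Subgroup.mem_inf.mp ha).1 ha1
  have hvinv : v⁻¹ = v := h8_inv_of_order_two hv
  have hvN : v ∈ Subgroup.normalizer ((Subgroup.centralizer ({x} : Set G) ⊓
      Subgroup.centralizer ({v * x * v⁻¹} : Set G) : Subgroup G) : Set G) := by
    rw [Subgroup.mem_normalizer_iff]
    intro a
    rw [Subgroup.mem_inf, Subgroup.mem_inf, h8_mem_cent_conj v x (v * a * v⁻¹),
      h8_mem_cent_conj v x a]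
    have e1 : v⁻¹ * (v * a * v⁻¹) * v = a := by group
    have e2 : v⁻¹ * a * v = v * a * v⁻¹ := by rw [hvinv]
    rw [e1, e2]
    exact and_comm
  exact NR_subgroup_no_inv hm.h hSNR hne hv hvN

/-! ### F12 -/

-- F12 : the conjugates of Q = C(x) by involutions
theorem minus_inv_conjugates (hm : HypMinus t K s) {x : G} (hx : IsNR x) :
    nInv G * Nat.card (Subgroup.centralizer ({x} : Set G)) ≤
      Nat.card {Q₁ : Subgroup G // ∃ v : G, orderOf v = 2 ∧ Q₁ = Subgroup.centralizer ({v * x * v⁻¹} : Set G)} *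
      Nat.card (Subgroup.normalizer ((Subgroup.centralizer ({x} : Set G) : Subgroup G) : Set G)) := by
  classical
  have hrep : ∀ Q₁ : {Q₁ : Subgroup G // ∃ v : G, orderOf v = 2 ∧
      Q₁ = Subgroup.centralizer ({v * x * v⁻¹} : Set G)},
      orderOf (Classical.choose Q₁.2) = 2 ∧ Q₁.1 = Subgroup.centralizer
        ({Classical.choose Q₁.2 * x * (Classical.choose Q₁.2)⁻¹} : Set G) :=
    fun Q₁ => Classical.choose_spec Q₁.2
  let φ : {v : G // orderOf v = 2} → {Q₁ : Subgroup G // ∃ v : G, orderOf v = 2 ∧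
      Q₁ = Subgroup.centralizer ({v * x * v⁻¹} : Set G)} :=
    fun v => ⟨Subgroup.centralizer ({v.1 * x * v.1⁻¹} : Set G), v.1, v.2, rfl⟩
  have hmemN : ∀ (v : {v : G // orderOf v = 2}) (a : Subgroup.centralizer ({x} : Set G)),
      (Classical.choose (φ v).2)⁻¹ * v.1 * a.1 ∈
        Subgroup.normalizer ((Subgroup.centralizer ({x} : Set G) : Subgroup G) : Set G) := by
    intro v a
    have h1 := (hrep (φ v)).2
    have h2 : (Classical.choose (φ v).2)⁻¹ * v.1 ∈
        Subgroup.normalizer ((Subgroup.centralizer ({x} : Set G) : Subgroup G) : Set G) :=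
      (h8_cent_conj_eq_iff x _ _).mp h1.symm
    exact mul_mem h2 (Subgroup.le_normalizer a.2)
  let Ψ : {v : G // orderOf v = 2} × Subgroup.centralizer ({x} : Set G) →
      {Q₁ : Subgroup G // ∃ v : G, orderOf v = 2 ∧
        Q₁ = Subgroup.centralizer ({v * x * v⁻¹} : Set G)} ×
      Subgroup.normalizer ((Subgroup.centralizer ({x} : Set G) : Subgroup G) : Set G) :=
    fun p => (φ p.1, ⟨(Classical.choose (φ p.1).2)⁻¹ * p.1.1 * p.2.1, hmemN p.1 p.2⟩)
  have hΨ : Function.Injective Ψ := by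
    rintro ⟨v, a⟩ ⟨v', a'⟩ hp
    have h1 : φ v = φ v' := congrArg Prod.fst hp
    have h2 : (Classical.choose (φ v).2)⁻¹ * v.1 * a.1 = (Classical.choose (φ v').2)⁻¹ * v'.1 * a'.1 :=
      congrArg (fun q => (q.2 : G)) hp
    rw [← h1] at h2
    have h3 : v.1 * a.1 = v'.1 * a'.1 := by
      have := congrArg (fun q => Classical.choose (φ v).2 * q) h2
      simpa [mul_assoc] using this
    have hv'inv : v'.1⁻¹ = v'.1 := h8_inv_of_order_two v'.2
    have hvinv : v.1⁻¹ = v.1 := h8_inv_of_order_two v.2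
    have h4 : v'.1 * v.1 = a'.1 * a.1⁻¹ := by
      calc v'.1 * v.1 = v'.1⁻¹ * (v.1 * a.1) * a.1⁻¹ := by rw [hv'inv]; group
        _ = v'.1⁻¹ * (v'.1 * a'.1) * a.1⁻¹ := by rw [h3]
        _ = a'.1 * a.1⁻¹ := by group
    have h5 : v'.1 * v.1 ∈ Subgroup.centralizer ({x} : Set G) := by
      rw [h4]
      exact mul_mem a'.2 (inv_mem a.2)
    have h6 : v'.1 * v.1 = 1 := by
      by_contra hne
      have hNR := NR_cent hm.h hx h5 hne
      apply hNR.2.2
      refine ⟨v.1, v.2, ?_⟩
      rw [mul_inv_rev, hvinv, hv'inv]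
      have := h8_sq_of_order_two v.2
      calc v.1 * (v'.1 * v.1) * v.1 = v.1 * v'.1 * (v.1 * v.1) := by group
        _ = v.1 * v'.1 := by rw [this, mul_one]
    have h7 : v.1 = v'.1 := by
      have := eq_inv_of_mul_eq_one_right h6
      rw [this, hv'inv]
    have h8 : a.1 = a'.1 := by
      rw [h7] at h3
      exact mul_left_cancel h3
    exact Prod.ext (Subtype.ext h7) (Subtype.ext h8)
  have := Nat.card_le_card_of_injective Ψ hΨ
  rwa [Nat.card_prod, Nat.card_prod] at this

/-! ### F13 -/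

-- F13a : all classes {a | C(a) = C(x)} have the same size
theorem minus_card_cls (hm : HypMinus t K s) {x x' : G} (hx : IsNR x) (hx' : IsNR x') :
    Nat.card {a : G // Subgroup.centralizer ({a} : Set G) = Subgroup.centralizer ({x} : Set G)} =
    Nat.card {a : G // Subgroup.centralizer ({a} : Set G) = Subgroup.centralizer ({x'} : Set G)} := by
  obtain ⟨g, hg⟩ := minus_NR_cent_conj hm hx hx'
  rw [h8_map_conj_cent] at hg
  apply Nat.card_congr
  refine
    { toFun := fun a => ⟨g * a.1 * g⁻¹, by rw [← h8_map_conj_cent, a.2, h8_map_conj_cent, hg]⟩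
      invFun := fun a => ⟨g⁻¹ * a.1 * g, ?_⟩
      left_inv := fun a => Subtype.ext (by simp [mul_assoc])
      right_inv := fun a => Subtype.ext (by simp [mul_assoc]) }
  have h1 := h8_map_conj_cent g⁻¹ a.1
  have h2 := h8_map_conj_cent g⁻¹ (g * x * g⁻¹)
  rw [inv_inv] at h1 h2
  rw [← h1, a.2, hg, h2]
  congr 2
  group

-- F13b
theorem minus_count_all (hm : HypMinus t K s) {x : G} (hx : IsNR x) :
    Nat.card {Q₁ : Subgroup G // ∃ x' : G, IsNR x' ∧ Q₁ = Subgroup.centralizer ({x'} : Set G)} *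
      Nat.card {a : G // Subgroup.centralizer ({a} : Set G) = Subgroup.centralizer ({x} : Set G)} =
    4 * Nat.card K * (Nat.card K - 1) := by
  rw [← minus_card_NR hm]
  symm
  apply h8_card_fiberwise
    (fun a : {y : G // IsNR y} => (⟨Subgroup.centralizer ({a.1} : Set G), a.1, a.2, rfl⟩ :
      {Q₁ : Subgroup G // ∃ x' : G, IsNR x' ∧ Q₁ = Subgroup.centralizer ({x'} : Set G)}))
  rintro ⟨Q₁, x', hx', rfl⟩
  rw [minus_card_cls hm hx hx']
  apply Nat.card_congr
  exact
    { toFun := fun a => ⟨a.1.1, congrArg Subtype.val a.2⟩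
      invFun := fun a => ⟨⟨a.1, h8_NR_of_cent_eq hm hx' a.2⟩, Subtype.ext a.2⟩
      left_inv := fun a => rfl
      right_inv := fun a => rfl }

-- F13c
theorem minus_count_in_Q (hm : HypMinus t K s) {x : G} (hx : IsNR x) :
    Nat.card {Q₁ : Subgroup G // ∃ y ∈ Subgroup.centralizer ({x} : Set G), y ≠ 1 ∧
        Q₁ = Subgroup.centralizer ({y} : Set G)} *
      Nat.card {a : G // Subgroup.centralizer ({a} : Set G) = Subgroup.centralizer ({x} : Set G)} =
    2 * Nat.card K - 2 := by
  classical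
  have hcardQ := minus_NR_cent_card hm hx
  have hα : Nat.card {a : G // a ∈ Subgroup.centralizer ({x} : Set G) ∧ a ≠ 1} =
      2 * Nat.card K - 2 := by
    have e : {a : G // a ∈ Subgroup.centralizer ({x} : Set G) ∧ a ≠ 1} ≃
        {a : Subgroup.centralizer ({x} : Set G) // a ≠ 1} :=
      { toFun := fun a => ⟨⟨a.1, a.2.1⟩, fun h => a.2.2 (congrArg Subtype.val h)⟩
        invFun := fun a => ⟨a.1.1, a.1.2, fun h => a.2 (Subtype.ext h)⟩
        left_inv := fun a => rfl
        right_inv := fun a => rfl }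
    rw [Nat.card_congr e]
    have : Fintype (Subgroup.centralizer ({x} : Set G)) := Fintype.ofFinite _
    rw [Nat.card_eq_fintype_card, Fintype.card_subtype_compl, Fintype.card_subtype_eq,
      ← Nat.card_eq_fintype_card, hcardQ]
    omega
  rw [← hα]
  symm
  apply h8_card_fiberwise
    (fun a : {a : G // a ∈ Subgroup.centralizer ({x} : Set G) ∧ a ≠ 1} =>
      (⟨Subgroup.centralizer ({a.1} : Set G), a.1, a.2.1, a.2.2, rfl⟩ :
      {Q₁ : Subgroup G // ∃ y ∈ Subgroup.centralizer ({x} : Set G), y ≠ 1 ∧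
        Q₁ = Subgroup.centralizer ({y} : Set G)}))
  rintro ⟨Q₁, y, hy, hy1, rfl⟩
  have hyNR : IsNR y := NR_cent hm.h hx hy hy1
  rw [minus_card_cls hm hx hyNR]
  apply Nat.card_congr
  refine
    { toFun := fun a => ⟨a.1.1, congrArg Subtype.val a.2⟩
      invFun := fun a => ⟨⟨a.1, ?_, (h8_NR_of_cent_eq hm hyNR a.2).1⟩, Subtype.ext a.2⟩
      left_inv := fun a => rfl
      right_inv := fun a => rfl }
  -- `a ∈ C(x)` as `x ∈ C(y) = C(a)`
  have hxy : x ∈ Subgroup.centralizer ({y} : Set G) := by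
    rw [Subgroup.mem_centralizer_singleton_iff]
    exact ((Subgroup.mem_centralizer_singleton_iff).mp hy).symm
  rw [← a.2, Subgroup.mem_centralizer_singleton_iff] at hxy
  rw [Subgroup.mem_centralizer_singleton_iff]
  exact hxy.symm

-- F13d
theorem minus_count_orbit (hm : HypMinus t K s) {x : G} (hx : IsNR x) :
    Nat.card {Q₁ : Subgroup G // ∃ x' : G, IsNR x' ∧ Q₁ = Subgroup.centralizer ({x'} : Set G)} *
      Nat.card (Subgroup.normalizer ((Subgroup.centralizer ({x} : Set G) : Subgroup G) : Set G)) =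
    Nat.card G := by
  rw [← h8_card_range_mul (fun g : G => Subgroup.centralizer ({g * x * g⁻¹} : Set G))
    (Subgroup.normalizer ((Subgroup.centralizer ({x} : Set G) : Subgroup G) : Set G))
    (fun g g' => h8_cent_conj_eq_iff x g g')]
  congr 1
  apply Nat.card_congr
  apply Equiv.subtypeEquivRight
  intro Q₁
  constructor
  · rintro ⟨x', hx', rfl⟩
    obtain ⟨g, hg⟩ := minus_NR_cent_conj hm hx hx'
    rw [h8_map_conj_cent] at hg
    exact ⟨g, hg.symm⟩
  · rintro ⟨g, rfl⟩
    exact ⟨g * x * g⁻¹, (isNR_conj g x).mpr hx, rfl⟩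

end Cfsg.Agent.Lead.Bsw
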