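import Mathlib
import Cfsg.Agent.Lead.BswDefs
import Cfsg.Agent.Lead.BswDefs2
import Cfsg.Agent.Lead.Bsw_F4_9
import Cfsg.Agent.Lead.Bsw_F1_9
import Cfsg.Agent.Helper6.Bsw_A29_30
import Cfsg.Agent.Helper7.Bsw_A31_35
import Cfsg.Agent.Helper8.Bsw_F11_13

/-!
# S3282 (abstract Brauer-Suzuki-Wall), pieces F14, F15a-d (endgame `e = -1`):
the key counting step, `Q = C(x)` is abelian, `|N(Q)| = q (k - 1)`, there are `2k` conjugates.
-/

set_option autoImplicit false

namespace Cfsg.Agent.Lead.Bsw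

/-- The arithmetic behind F14. -/
theorem h8_arith_F14 (j d c Nc NQ Ni N : ℕ) (hN : N = (2 * j + 7) * d)
    (h12 : (2 * j + 7) * (j + 3) * (2 * j + 7) ≤ Ni * N)
    (h13d : Nc * N = 2 * (j + 4) * ((2 * j + 7) * (j + 3)))
    (h13b : Nc * c = 4 * (j + 4) * (j + 3))
    (h13c : NQ * c = 2 * j + 6) : Nc ≤ NQ + Ni := by
  subst hN
  have hd : 0 < d := by
    rcases Nat.eq_zero_or_pos d with h0 | h0
    · exfalso
      rw [h0, mul_zero, mul_zero] at h13d
      have : 0 < 2 * (j + 4) * ((2 * j + 7) * (j + 3)) := by positivity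
      omega
    · exact h0
  have e1 : Nc * d = 2 * (j + 4) * (j + 3) := by
    have : (2 * j + 7) * (Nc * d) = (2 * j + 7) * (2 * (j + 4) * (j + 3)) := by
      calc (2 * j + 7) * (Nc * d) = Nc * ((2 * j + 7) * d) := by ring
        _ = 2 * (j + 4) * ((2 * j + 7) * (j + 3)) := h13d
        _ = (2 * j + 7) * (2 * (j + 4) * (j + 3)) := by ring
    exact Nat.eq_of_mul_eq_mul_left (by omega) this
  have hNc : 0 < Nc := by
    rcases Nat.eq_zero_or_pos Nc with h0 | h0
    · exfalso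
      rw [h0, zero_mul] at e1
      have : 0 < 2 * (j + 4) * (j + 3) := by positivity
      omega
    · exact h0
  have e2 : c = 2 * d := by
    have : Nc * c = Nc * (2 * d) := by
      calc Nc * c = 4 * (j + 4) * (j + 3) := h13b
        _ = 2 * (2 * (j + 4) * (j + 3)) := by ring
        _ = 2 * (Nc * d) := by rw [e1]
        _ = Nc * (2 * d) := by ring
    exact Nat.eq_of_mul_eq_mul_left hNc this
  have e3 : NQ * d = j + 3 := by
    rw [e2] at h13c
    have : 2 * (NQ * d) = 2 * (j + 3) := by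
      calc 2 * (NQ * d) = NQ * (2 * d) := by ring
        _ = 2 * j + 6 := h13c
        _ = 2 * (j + 3) := by ring
    exact Nat.eq_of_mul_eq_mul_left (by norm_num) this
  have e4 : (2 * j + 7) * (j + 3) ≤ Ni * d := by
    have : (2 * j + 7) * ((2 * j + 7) * (j + 3)) ≤ (2 * j + 7) * (Ni * d) := by
      calc (2 * j + 7) * ((2 * j + 7) * (j + 3)) = (2 * j + 7) * (j + 3) * (2 * j + 7) := by ring
        _ ≤ Ni * ((2 * j + 7) * d) := h12
        _ = (2 * j + 7) * (Ni * d) := by ring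
    exact Nat.le_of_mul_le_mul_left this (by omega)
  have e5 : Nc * d ≤ (NQ + Ni) * d := by
    rw [e1, add_mul, e3]
    have : 2 * (j + 4) * (j + 3) = (j + 3) + (2 * j + 7) * (j + 3) := by ring
    rw [this]
    exact Nat.add_le_add_left e4 _
  exact Nat.le_of_mul_le_mul_right e5 hd

variable {G : Type*} [Group G] [Finite G] {t s : G} {K : Subgroup G}

-- F14 : the key counting consequence
theorem minus_meet (hm : HypMinus t K s) {x x' : G} (hx : IsNR x) (hx' : IsNR x')
    (hne : Subgroup.centralizer ({x} : Set G) ⊓ Subgroup.centralizer ({x'} : Set G) ≠ ⊥) :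
    ∃ y ∈ Subgroup.centralizer ({x} : Set G), y ≠ 1 ∧
      Subgroup.centralizer ({x'} : Set G) = Subgroup.centralizer ({y} : Set G) := by
  classical
  -- the three families of subgroups
  have hsubQ : {Q₁ : Subgroup G | ∃ y ∈ Subgroup.centralizer ({x} : Set G), y ≠ 1 ∧
        Q₁ = Subgroup.centralizer ({y} : Set G)} ⊆
      {Q₁ : Subgroup G | ∃ x' : G, IsNR x' ∧ Q₁ = Subgroup.centralizer ({x'} : Set G)} := by
    rintro Q₁ ⟨y, hy, hy1, rfl⟩
    exact ⟨y, NR_cent hm.h hx hy hy1, rfl⟩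
  have hsubI : {Q₁ : Subgroup G | ∃ v : G, orderOf v = 2 ∧
        Q₁ = Subgroup.centralizer ({v * x * v⁻¹} : Set G)} ⊆
      {Q₁ : Subgroup G | ∃ x' : G, IsNR x' ∧ Q₁ = Subgroup.centralizer ({x'} : Set G)} := by
    rintro Q₁ ⟨v, _, rfl⟩
    exact ⟨v * x * v⁻¹, (isNR_conj v x).mpr hx, rfl⟩
  have hdisj : Disjoint {Q₁ : Subgroup G | ∃ y ∈ Subgroup.centralizer ({x} : Set G), y ≠ 1 ∧
        Q₁ = Subgroup.centralizer ({y} : Set G)}
      {Q₁ : Subgroup G | ∃ v : G, orderOf v = 2 ∧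
        Q₁ = Subgroup.centralizer ({v * x * v⁻¹} : Set G)} := by
    rw [Set.disjoint_left]
    rintro Q₁ ⟨y, hy, hy1, rfl⟩ ⟨v, hv, hEq⟩
    apply hy1
    have h1 : y ∈ Subgroup.centralizer ({y} : Set G) := by
      rw [Subgroup.mem_centralizer_singleton_iff]
    rw [hEq] at h1
    have h2 : y ∈ Subgroup.centralizer ({x} : Set G) ⊓
        Subgroup.centralizer ({v * x * v⁻¹} : Set G) := Subgroup.mem_inf.mpr ⟨hy, h1⟩
    rw [minus_inf_conj_inv hm hx hv, Subgroup.mem_bot] at h2
    exact h2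
  -- the counts
  have h12 := minus_inv_conjugates hm hx
  have h13b := minus_count_all hm hx
  have h13c := minus_count_in_Q hm hx
  have h13d := minus_count_orbit hm hx
  have hq := minus_NR_cent_card hm hx
  have hQN : Nat.card (Subgroup.centralizer ({x} : Set G)) ∣
      Nat.card (Subgroup.normalizer ((Subgroup.centralizer ({x} : Set G) : Subgroup G) : Set G)) :=
    Subgroup.card_dvd_of_le Subgroup.le_normalizer
  obtain ⟨d, hd⟩ := hQN
  rw [card_G hm.h, hm.hn] at h13d
  rw [hm.hn, hq] at h12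
  rw [hq] at hd
  have hk := hm.hk
  have hcQ : Nat.card {Q₁ : Subgroup G // ∃ y ∈ Subgroup.centralizer ({x} : Set G), y ≠ 1 ∧
        Q₁ = Subgroup.centralizer ({y} : Set G)} =
      ({Q₁ : Subgroup G | ∃ y ∈ Subgroup.centralizer ({x} : Set G), y ≠ 1 ∧
        Q₁ = Subgroup.centralizer ({y} : Set G)}).ncard := Nat.card_coe_set_eq _
  have hcI : Nat.card {Q₁ : Subgroup G // ∃ v : G, orderOf v = 2 ∧
        Q₁ = Subgroup.centralizer ({v * x * v⁻¹} : Set G)} =
      ({Q₁ : Subgroup G | ∃ v : G, orderOf v = 2 ∧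
        Q₁ = Subgroup.centralizer ({v * x * v⁻¹} : Set G)}).ncard := Nat.card_coe_set_eq _
  have hcA : Nat.card {Q₁ : Subgroup G // ∃ x' : G, IsNR x' ∧
        Q₁ = Subgroup.centralizer ({x'} : Set G)} =
      ({Q₁ : Subgroup G | ∃ x' : G, IsNR x' ∧
        Q₁ = Subgroup.centralizer ({x'} : Set G)}).ncard := Nat.card_coe_set_eq _
  rw [hcQ] at h13c
  rw [hcI] at h12
  rw [hcA] at h13b h13d
  have hle : ({Q₁ : Subgroup G | ∃ x' : G, IsNR x' ∧
        Q₁ = Subgroup.centralizer ({x'} : Set G)}).ncard ≤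
      ({Q₁ : Subgroup G | ∃ y ∈ Subgroup.centralizer ({x} : Set G), y ≠ 1 ∧
        Q₁ = Subgroup.centralizer ({y} : Set G)}).ncard +
      ({Q₁ : Subgroup G | ∃ v : G, orderOf v = 2 ∧
        Q₁ = Subgroup.centralizer ({v * x * v⁻¹} : Set G)}).ncard := by
    generalize ({Q₁ : Subgroup G | ∃ x' : G, IsNR x' ∧
        Q₁ = Subgroup.centralizer ({x'} : Set G)}).ncard = Nc at h13b h13d
    generalize ({Q₁ : Subgroup G | ∃ y ∈ Subgroup.centralizer ({x} : Set G), y ≠ 1 ∧
        Q₁ = Subgroup.centralizer ({y} : Set G)}).ncard = NQ at h13c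
    generalize ({Q₁ : Subgroup G | ∃ v : G, orderOf v = 2 ∧
        Q₁ = Subgroup.centralizer ({v * x * v⁻¹} : Set G)}).ncard = Ni at h12
    generalize Nat.card {a : G // Subgroup.centralizer ({a} : Set G) =
      Subgroup.centralizer ({x} : Set G)} = c at h13b h13c
    generalize Nat.card (Subgroup.normalizer
      ((Subgroup.centralizer ({x} : Set G) : Subgroup G) : Set G)) = N at h12 h13d hd
    generalize Nat.card K = k at h12 h13b h13c h13d hd hk
    obtain ⟨j, rfl⟩ : ∃ j, k = j + 4 := ⟨k - 4, by omega⟩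
    have e1 : 2 * (j + 4) - 1 = 2 * j + 7 := by omega
    have e2 : j + 4 - 1 = j + 3 := by omega
    have e3 : 2 * (j + 4) - 2 = 2 * j + 6 := by omega
    rw [e1, e2] at h12 h13d
    rw [e1] at hd
    rw [e2] at h13b
    rw [e3] at h13c
    exact h8_arith_F14 j d c Nc NQ Ni N hd h12 h13d h13b h13c
  have hunion := Set.ncard_union_eq hdisj (Set.toFinite _) (Set.toFinite _)
  have heq : {Q₁ : Subgroup G | ∃ y ∈ Subgroup.centralizer ({x} : Set G), y ≠ 1 ∧
        Q₁ = Subgroup.centralizer ({y} : Set G)} ∪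
      {Q₁ : Subgroup G | ∃ v : G, orderOf v = 2 ∧
        Q₁ = Subgroup.centralizer ({v * x * v⁻¹} : Set G)} =
      {Q₁ : Subgroup G | ∃ x' : G, IsNR x' ∧ Q₁ = Subgroup.centralizer ({x'} : Set G)} := by
    apply Set.eq_of_subset_of_ncard_le (Set.union_subset hsubQ hsubI) _ (Set.toFinite _)
    rw [hunion]
    exact hle
  have hmem : Subgroup.centralizer ({x'} : Set G) ∈
      {Q₁ : Subgroup G | ∃ x' : G, IsNR x' ∧ Q₁ = Subgroup.centralizer ({x'} : Set G)} :=
    ⟨x', hx', rfl⟩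
  rw [← heq] at hmem
  rcases hmem with ⟨y, hy, hy1, hEq⟩ | ⟨v, hv, hEq⟩
  · exact ⟨y, hy, hy1, hEq⟩
  · exfalso
    apply hne
    rw [hEq]
    exact minus_inf_conj_inv hm hx hv

-- F15a : Q = C(x) is abelian
theorem minus_Q_comm (hm : HypMinus t K s) {x : G} (hx : IsNR x) :
    ∀ a ∈ Subgroup.centralizer ({x} : Set G), ∀ b ∈ Subgroup.centralizer ({x} : Set G), a * b = b * a := by
  intro a ha b hb
  by_cases ha1 : a = 1
  · rw [ha1, one_mul, mul_one]
  by_cases hb1 : b = 1
  · rw [hb1, one_mul, mul_one]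
  have haNR := NR_cent hm.h hx ha ha1
  have hbNR := NR_cent hm.h hx hb hb1
  have hne : Subgroup.centralizer ({a} : Set G) ⊓ Subgroup.centralizer ({b} : Set G) ≠ ⊥ := by
    intro h0
    have hxm : x ∈ Subgroup.centralizer ({a} : Set G) ⊓ Subgroup.centralizer ({b} : Set G) := by
      rw [Subgroup.mem_inf, Subgroup.mem_centralizer_singleton_iff,
        Subgroup.mem_centralizer_singleton_iff]
      exact ⟨((Subgroup.mem_centralizer_singleton_iff).mp ha).symm,
        ((Subgroup.mem_centralizer_singleton_iff).mp hb).symm⟩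
    rw [h0, Subgroup.mem_bot] at hxm
    exact hx.1 hxm
  obtain ⟨y, hy, _, hEq⟩ := minus_meet hm haNR hbNR hne
  have h1 : a ∈ Subgroup.centralizer ({y} : Set G) := by
    rw [Subgroup.mem_centralizer_singleton_iff]
    exact ((Subgroup.mem_centralizer_singleton_iff).mp hy).symm
  rw [← hEq] at h1
  exact (Subgroup.mem_centralizer_singleton_iff).mp h1

-- F15b
theorem minus_Q_cent (hm : HypMinus t K s) {x y : G} (hx : IsNR x)
    (hy : y ∈ Subgroup.centralizer ({x} : Set G)) (hy1 : y ≠ 1) :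
    Subgroup.centralizer ({y} : Set G) = Subgroup.centralizer ({x} : Set G) := by
  have hyNR := NR_cent hm.h hx hy hy1
  have hle : Subgroup.centralizer ({x} : Set G) ≤ Subgroup.centralizer ({y} : Set G) := by
    intro a ha
    rw [Subgroup.mem_centralizer_singleton_iff]
    exact minus_Q_comm hm hx a ha y hy
  exact (Subgroup.eq_of_le_of_card_ge hle
    (by rw [minus_NR_cent_card hm hx, minus_NR_cent_card hm hyNR])).symm

/-- The family `{C(y) : y ∈ Q \ 1}` is the singleton `{Q}`. -/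
theorem h8_card_TQ (hm : HypMinus t K s) {x : G} (hx : IsNR x) :
    Nat.card {Q₁ : Subgroup G // ∃ y ∈ Subgroup.centralizer ({x} : Set G), y ≠ 1 ∧
        Q₁ = Subgroup.centralizer ({y} : Set G)} = 1 := by
  rw [Nat.card_eq_one_iff_unique]
  constructor
  · constructor
    rintro ⟨Q₁, y, hy, hy1, rfl⟩ ⟨Q₂, y', hy', hy1', rfl⟩
    apply Subtype.ext
    change Subgroup.centralizer ({y} : Set G) = Subgroup.centralizer ({y'} : Set G)
    rw [minus_Q_cent hm hx hy hy1, minus_Q_cent hm hx hy' hy1']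
  · exact ⟨⟨Subgroup.centralizer ({x} : Set G), x,
      by rw [Subgroup.mem_centralizer_singleton_iff], hx.1, rfl⟩⟩

-- F15d : number of conjugates of Q is 2k
theorem minus_card_conjugates (hm : HypMinus t K s) {x : G} (hx : IsNR x) :
    Nat.card {Q₁ : Subgroup G // ∃ x' : G, IsNR x' ∧ Q₁ = Subgroup.centralizer ({x'} : Set G)} =
      2 * Nat.card K := by
  have h13b := minus_count_all hm hx
  have h13c := minus_count_in_Q hm hx
  rw [h8_card_TQ hm hx, one_mul] at h13c
  rw [h13c] at h13b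
  have hk := hm.hk
  generalize Nat.card {Q₁ : Subgroup G // ∃ x' : G, IsNR x' ∧
    Q₁ = Subgroup.centralizer ({x'} : Set G)} = Nc at h13b ⊢
  generalize Nat.card K = k at h13b hk ⊢
  obtain ⟨j, rfl⟩ : ∃ j, k = j + 4 := ⟨k - 4, by omega⟩
  have e2 : j + 4 - 1 = j + 3 := by omega
  have e3 : 2 * (j + 4) - 2 = 2 * j + 6 := by omega
  rw [e2, e3] at h13b
  have : (2 * j + 6) * Nc = (2 * j + 6) * (2 * (j + 4)) := by
    calc (2 * j + 6) * Nc = Nc * (2 * j + 6) := by ring
      _ = 4 * (j + 4) * (j + 3) := h13b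
      _ = (2 * j + 6) * (2 * (j + 4)) := by ring
  exact Nat.eq_of_mul_eq_mul_left (by omega) this

-- F15c : |N(Q)| = q (k-1)
theorem minus_card_normalizer (hm : HypMinus t K s) {x : G} (hx : IsNR x) :
    Nat.card (Subgroup.normalizer ((Subgroup.centralizer ({x} : Set G) : Subgroup G) : Set G)) =
      (2 * Nat.card K - 1) * (Nat.card K - 1) := by
  have h13d := minus_count_orbit hm hx
  rw [minus_card_conjugates hm hx, card_G hm.h, hm.hn] at h13d
  have hk := hm.hk
  exact Nat.eq_of_mul_eq_mul_left (by omega) h13d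

end Cfsg.Agent.Lead.Bsw
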