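import Mathlib
import Cfsg.Prelude.Def_SteinbergCover
set_option autoImplicit false

/-! The group presented by Steinberg's relators (R1), (R2) is perfect: generic part. -/

namespace Cfsg.Agent.Helper8.StP

open Cfsg.Lie
open scoped commutatorElement

variable (D : ChevalleyDatum) {K : Type*} [Field K]

theorem comm_form_mem {G : Type*} [Group G] (g h : G) : g⁻¹ * h⁻¹ * g * h ∈ commutator G := by
  have h1 : g⁻¹ * h⁻¹ * g * h = ⁅g⁻¹, h⁻¹⁆ := by
    rw [commutatorElement_def, inv_inv, inv_inv]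
  rw [h1]
  exact Subgroup.commutator_mem_commutator (Subgroup.mem_top _) (Subgroup.mem_top _)

theorem scGen_add (r : ℕ) (t₁ t₂ : K) :
    D.scGen K r t₁ * D.scGen K r t₂ = D.scGen K r (t₁ + t₂) := by
  by_cases hr : r < D.nroots
  · have hmem : D.stX r t₁ * D.stX r t₂ * (D.stX r (t₁ + t₂))⁻¹ ∈ D.steinbergRelsAB K :=
      Or.inl ⟨r, t₁, t₂, hr, rfl⟩
    have h1 := PresentedGroup.one_of_mem hmem
    rw [map_mul, map_mul, map_inv, mul_inv_eq_one] at h1
    exact h1
  · unfold ChevalleyDatum.scGen ChevalleyDatum.stX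
    rw [dif_neg hr, dif_neg hr, dif_neg hr, map_one, mul_one]

theorem scGen_zero (r : ℕ) : D.scGen K r (0 : K) = 1 := by
  have h := scGen_add D r (0 : K) 0
  rw [add_zero] at h
  exact mul_eq_left.mp h

theorem scGen_neg (r : ℕ) (t : K) : (D.scGen K r t)⁻¹ = D.scGen K r (-t) := by
  rw [inv_eq_iff_mul_eq_one, scGen_add, add_neg_cancel, scGen_zero]

theorem mk_stWord (w : List (ℕ × K)) :
    PresentedGroup.mk (D.steinbergRelsAB K) (D.stWord w) = (w.map fun p => D.scGen K p.1 p.2).prod := by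
  unfold ChevalleyDatum.stWord
  rw [map_list_prod, List.map_map]
  rfl

theorem comm_rel (r s : ℕ) (hr : r < D.nroots) (hs : s < D.nroots) (hsr : s ≠ r)
    (hsn : s ≠ D.neg r) (t u : K) :
    (D.scGen K s u)⁻¹ * (D.scGen K r t)⁻¹ * D.scGen K s u * D.scGen K r t =
      ((D.commWord K r s t u).map fun p => D.scGen K p.1 p.2).prod := by
  have hmem : (D.stX s u)⁻¹ * (D.stX r t)⁻¹ * D.stX s u * D.stX r t *
      (D.stWord (D.commWord K r s t u))⁻¹ ∈ D.steinbergRelsAB K :=
    Or.inr ⟨r, s, t, u, hr, hs, hsr, hsn, rfl⟩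
  have h1 := PresentedGroup.one_of_mem hmem
  rw [map_mul, map_inv, mul_inv_eq_one, mk_stWord] at h1
  rw [← h1]
  simp only [map_mul, map_inv]
  rfl

/-- the commutator word lies in the commutator subgroup -/
theorem commWord_mem (r s : ℕ) (hr : r < D.nroots) (hs : s < D.nroots) (hsr : s ≠ r)
    (hsn : s ≠ D.neg r) (t u : K) :
    ((D.commWord K r s t u).map fun p => D.scGen K p.1 p.2).prod ∈
      commutator (D.SteinbergCover K) := by
  rw [← comm_rel D r s hr hs hsr hsn t u]
  exact comm_form_mem _ _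

/-- one-term pairs -/
def good1 (a : ℕ) (w : ℕ × ℕ) : Bool :=
  decide (w.1 < D.nroots ∧ w.2 < D.nroots ∧ w.2 ≠ w.1 ∧ w.2 ≠ D.neg w.1 ∧
    (D.commTerms w.1 w.2 = [(a, 1, 1, 1)] ∨ D.commTerms w.1 w.2 = [(a, -1, 1, 1)]))

theorem mem_of_good1 (a : ℕ) (w : ℕ × ℕ) (h : good1 D a w = true) (v : K) :
    D.scGen K a v ∈ commutator (D.SteinbergCover K) := by
  unfold good1 at h
  rw [decide_eq_true_eq] at h
  obtain ⟨hr, hs, hsr, hsn, hct⟩ := h
  rcases hct with hct | hct
  · have h1 := commWord_mem D w.1 w.2 hr hs hsr hsn (-v) (1 : K)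
    unfold ChevalleyDatum.commWord at h1
    rw [hct] at h1
    simp only [List.map_cons, List.map_nil, List.prod_cons, List.prod_nil, mul_one] at h1
    have h2 : ((1 : ℤ) : K) * (- -v) ^ 1 * (1 : K) ^ 1 = v := by
      push_cast; ring
    rwa [h2] at h1
  · have h1 := commWord_mem D w.1 w.2 hr hs hsr hsn v (1 : K)
    unfold ChevalleyDatum.commWord at h1
    rw [hct] at h1
    simp only [List.map_cons, List.map_nil, List.prod_cons, List.prod_nil, mul_one] at h1
    have h2 : ((-1 : ℤ) : K) * (-v) ^ 1 * (1 : K) ^ 1 = v := by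
      push_cast; ring
    rwa [h2] at h1

/-- perfectness from membership of the generators -/
theorem perfect_of_gens (h : ∀ (a : ℕ) (v : K), a < D.nroots →
    D.scGen K a v ∈ commutator (D.SteinbergCover K)) :
    commutator (D.SteinbergCover K) = ⊤ := by
  rw [eq_top_iff]
  intro x _
  apply PresentedGroup.generated_by
  rintro ⟨⟨a, ha⟩, v⟩
  have h1 := h a v ha
  unfold ChevalleyDatum.scGen ChevalleyDatum.stX at h1
  rw [dif_pos ha] at h1
  exact h1

theorem perfect_of_good1 (wit : Array (ℕ × ℕ))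
    (h : ∀ a < D.nroots, good1 D a (wit.getD a (0, 0)) = true) :
    commutator (D.SteinbergCover K) = ⊤ :=
  perfect_of_gens D (fun a v ha => mem_of_good1 D a _ (h a ha) v)

end Cfsg.Agent.Helper8.StP
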