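import Mathlib
import Cfsg.Agent.Helper8.StPerfect
set_option autoImplicit false

/-! The group presented by Steinberg's relators (R1), (R2) is perfect: two-term pairs. -/

namespace Cfsg.Agent.Helper8.StP

open Cfsg.Lie
open scoped commutatorElement

variable (D : ChevalleyDatum) {K : Type*} [Field K]

/-- two-term pairs (with a tail of roots already known to lie in the commutator subgroup) -/
def good2 (r s a₁ a₂ : ℕ) (L : List ℕ) : Bool :=
  decide (r < D.nroots) && decide (s < D.nroots) && decide (s ≠ r) && decide (s ≠ D.neg r) &&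
  match D.commTerms r s with
  | (b₁, e₁, i₁, j₁) :: (b₂, e₂, i₂, j₂) :: rest =>
      decide (b₁ = a₁) && decide (b₂ = a₂) && decide (e₁ = 1 ∨ e₁ = -1) &&
      decide (e₂ = 1 ∨ e₂ = -1) && decide (i₁ = 1) && decide (j₁ = 1) && decide (i₂ = 2) &&
      decide (j₂ = 1) && rest.all (fun c => decide (c.1 ∈ L))
  | _ => false

theorem prod_mem_of_all (L : List ℕ)
    (hL : ∀ b ∈ L, ∀ v : K, D.scGen K b v ∈ commutator (D.SteinbergCover K))
    (rest : List (ℕ × ℤ × ℕ × ℕ)) (hrest : rest.all (fun c => decide (c.1 ∈ L)) = true) (t u : K) :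
    ((rest.map fun c => (c.1, (c.2.1 : K) * (-t) ^ c.2.2.1 * u ^ c.2.2.2)).map
      fun p => D.scGen K p.1 p.2).prod ∈ commutator (D.SteinbergCover K) := by
  induction rest with
  | nil => simp
  | cons c rest ih =>
    rw [List.all_cons, Bool.and_eq_true, decide_eq_true_eq] at hrest
    rw [List.map_cons, List.map_cons, List.prod_cons]
    exact Subgroup.mul_mem _ (hL c.1 hrest.1 _) (ih hrest.2)

theorem mem_of_good2 (r s a₁ a₂ : ℕ) (L : List ℕ) (h : good2 D r s a₁ a₂ L = true)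
    (hL : ∀ b ∈ L, ∀ v : K, D.scGen K b v ∈ commutator (D.SteinbergCover K))
    (x : K) (hx0 : x ≠ 0) (hx1 : x ≠ 1) (v : K) :
    D.scGen K a₁ v ∈ commutator (D.SteinbergCover K) ∧
      D.scGen K a₂ v ∈ commutator (D.SteinbergCover K) := by
  unfold good2 at h
  simp only [Bool.and_eq_true, decide_eq_true_eq] at h
  obtain ⟨⟨⟨⟨hr, hs⟩, hsr⟩, hsn⟩, hm⟩ := h
  split at hm
  · rename_i b₁ e₁ i₁ j₁ b₂ e₂ i₂ j₂ rest hct
    simp only [Bool.and_eq_true, decide_eq_true_eq] at hm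
    obtain ⟨⟨⟨⟨⟨⟨⟨⟨hb₁, hb₂⟩, he₁⟩, he₂⟩, hi₁⟩, hj₁⟩, hi₂⟩, hj₂⟩, hrest⟩ := hm
    subst hb₁ hb₂ hi₁ hj₁ hi₂ hj₂
    set N := commutator (D.SteinbergCover K) with hN
    have hε₁ : ((e₁ : ℤ) : K) * ((e₁ : ℤ) : K) = 1 := by
      rcases he₁ with h | h <;> rw [h] <;> push_cast <;> ring
    have hε₂ : ((e₂ : ℤ) : K) * ((e₂ : ℤ) : K) = 1 := by
      rcases he₂ with h | h <;> rw [h] <;> push_cast <;> ring
    have key : ∀ t u : K, D.scGen K b₁ ((e₁ : K) * (-t) ^ 1 * u ^ 1) *
        D.scGen K b₂ ((e₂ : K) * (-t) ^ 2 * u ^ 1) ∈ N := by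
      intro t u
      have h1 := commWord_mem D r s hr hs hsr hsn t u
      unfold ChevalleyDatum.commWord at h1
      rw [hct, List.map_cons, List.map_cons, List.map_cons, List.map_cons, List.prod_cons,
        List.prod_cons, ← mul_assoc] at h1
      have h2 := prod_mem_of_all D L hL rest hrest t u
      have h3 := Subgroup.mul_mem _ h1 (Subgroup.inv_mem _ h2)
      rwa [mul_inv_cancel_right] at h3
    have hx1' : x - 1 ≠ 0 := sub_ne_zero.mpr hx1
    have hB : ∀ w : K, D.scGen K b₂ w ∈ N := by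
      intro w
      set u := (e₂ : K) * w / (x - 1) with hu
      have h1 := key 1 u
      have h2 := key x (u / x)
      have e1 : (e₁ : K) * (-x) ^ 1 * (u / x) ^ 1 = (e₁ : K) * (-1) ^ 1 * u ^ 1 := by
        field_simp
      rw [e1] at h2
      have h3 := Subgroup.mul_mem _ (Subgroup.inv_mem _ h1) h2
      rw [mul_inv_rev, mul_assoc, inv_mul_cancel_left, scGen_neg, scGen_add] at h3
      have e2 : -((e₂ : K) * (-1) ^ 2 * u ^ 1) + (e₂ : K) * (-x) ^ 2 * (u / x) ^ 1 = w := by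
        rw [hu]
        field_simp
        have : (e₂ : K) ^ 2 = 1 := by rw [pow_two]; exact hε₂
        linear_combination (w * (x - 1)) * this
      rwa [e2] at h3
    refine ⟨?_, hB v⟩
    have h1 := key 1 (-(e₁ : K) * v)
    have e1 : (e₁ : K) * (-1) ^ 1 * (-(e₁ : K) * v) ^ 1 = v := by
      have : (e₁ : K) ^ 2 = 1 := by rw [pow_two]; exact hε₁
      linear_combination v * this
    rw [e1] at h1
    have h2 := Subgroup.mul_mem _ h1 (Subgroup.inv_mem _ (hB ((e₂ : K) * (-1) ^ 2 * (-(e₁ : K) * v) ^ 1)))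
    rwa [mul_inv_cancel_right] at h2
  · exact absurd hm (by simp)

end Cfsg.Agent.Helper8.StP
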