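import Mathlib
import Cfsg.Prelude.Def_ChevE8
import Cfsg.Prelude.Def_ChevE7
import Cfsg.Prelude.Def_ChevE6
import Cfsg.Prelude.Def_ChevD4
import Cfsg.Prelude.Def_ChevF4
import Cfsg.Prelude.Def_ChevG2
import Cfsg.Prelude.Def_ChevB2
import Cfsg.Agent.Helper8.StPerfect2
set_option autoImplicit false

/-! Witness tables for the perfectness of the Steinberg covers. -/

namespace Cfsg.Agent.Helper8.StP

open Cfsg.Lie

variable {K : Type*} [Field K]

def witD4 : Array (ℕ × ℕ) := #[(1, 9), (0, 14), (0, 15), (0, 16), (0, 17), (1, 17), (0, 19), (0, 20), (0, 21), (0, 22), (1, 20), (1, 21), (2, 22), (3, 22), (1, 23), (2, 23), (3, 23), (4, 23), (6, 22), (6, 23), (7, 23), (8, 23), (9, 23), (14, 22)]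

set_option maxRecDepth 100000 in
theorem good_D4 : ∀ a < chevD4.nroots, good1 chevD4 a (witD4.getD a (0, 0)) = true := by
  decide +kernel

theorem perfect_D4 : commutator (chevD4.SteinbergCover K) = ⊤ :=
  perfect_of_good1 chevD4 witD4 good_D4

def witF4 : Array (ℕ × ℕ) := #[(1, 23), (0, 24), (0, 26), (7, 14), (0, 31), (0, 32), (1, 32), (3, 33), (3, 34), (3, 35), (3, 36), (3, 37), (3, 38), (3, 39), (3, 40), (0, 42), (0, 43), (1, 43), (7, 37), (7, 38), (7, 39), (0, 45), (1, 45), (0, 46), (1, 47), (2, 46), (2, 47), (8, 40), (9, 40), (10, 40), (4, 46), (4, 47), (5, 47), (7, 44), (8, 44), (9, 44), (10, 44), (11, 44), (12, 44), (13, 44), (14, 44), (15, 46), (15, 47), (16, 47), (33, 40), (21, 47), (23, 47), (24, 46)]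

set_option maxRecDepth 100000 in
theorem good_F4 : ∀ a < chevF4.nroots, good1 chevF4 a (witF4.getD a (0, 0)) = true := by
  decide +kernel

theorem perfect_F4 : commutator (chevF4.SteinbergCover K) = ⊤ :=
  perfect_of_good1 chevF4 witF4 good_F4

def witE6 : Array (ℕ × ℕ) := #[(1, 25), (0, 46), (0, 47), (0, 48), (0, 49), (0, 50), (0, 51), (0, 52), (0, 53), (0, 54), (0, 55), (1, 53), (1, 54), (1, 55), (2, 55), (5, 55), (0, 61), (0, 62), (0, 63), (0, 64), (0, 65), (0, 66), (0, 67), (0, 68), (0, 69), (0, 70), (1, 64), (1, 65), (1, 66), (2, 66), (1, 67), (1, 68), (1, 69), (2, 67), (2, 68), (3, 67), (4, 68), (3, 69), (4, 69), (2, 70), (3, 70), (4, 70), (5, 69), (5, 70), (6, 70), (7, 70), (1, 71), (2, 71), (3, 71), (4, 71), (5, 71), (6, 71), (7, 71), (8, 71), (9, 71), (10, 71), (16, 66), (16, 69), (16, 70), (17, 70), (18, 70), (16, 71), (17, 71), (18, 71), (19, 71), (20, 71), (21, 71), (22, 71), (23, 71), (24, 71), (25, 71), (46, 70)]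

set_option maxRecDepth 100000 in
theorem good_E6 : ∀ a < chevE6.nroots, good1 chevE6 a (witE6.getD a (0, 0)) = true := by
  decide +kernel

theorem perfect_E6 : commutator (chevE6.SteinbergCover K) = ⊤ :=
  perfect_of_good1 chevE6 witE6 good_E6

def witE7 : Array (ℕ × ℕ) := #[(1, 32), (0, 93), (0, 94), (0, 95), (0, 96), (0, 97), (0, 98), (0, 99), (0, 100), (0, 101), (0, 102), (0, 103), (0, 104), (0, 105), (0, 106), (0, 107), (0, 108), (0, 109), (0, 110), (0, 111), (0, 112), (0, 113), (0, 114), (0, 115), (0, 116), (0, 117), (0, 118), (0, 119), (0, 120), (0, 121), (0, 122), (0, 123), (0, 124), (1, 109), (1, 110), (1, 111), (1, 112), (1, 113), (1, 114), (1, 115), (1, 116), (1, 117), (1, 118), (2, 115), (2, 116), (2, 117), (2, 118), (3, 118), (1, 119), (1, 120), (1, 121), (1, 122), (1, 123), (2, 119), (2, 120), (2, 121), (2, 122), (3, 119), (3, 120), (3, 121), (4, 119), (4, 120), (5, 119), (6, 120), (5, 121), (6, 121), (4, 122), (5, 122), (6, 122), (3, 123), (4,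 123), (5, 123), (6, 123), (2, 124), (3, 124), (4, 124), (5, 124), (6, 124), (7, 122), (7, 123), (8, 123), (9, 123), (10, 123), (7, 124), (8, 124), (9, 124), (10, 124), (11, 124), (12, 124), (13, 124), (14, 124), (15, 124), (16, 124), (1, 125), (2, 125), (3, 125), (4, 125), (5, 125), (6, 125), (7, 125), (8, 125), (9, 125), (10, 125), (11, 125), (12, 125), (13, 125), (14, 125), (15, 125), (16, 125), (17, 125), (18, 125), (19, 125), (20, 125), (21, 125), (22, 125), (23, 125), (24, 125), (25, 125), (26, 125), (27, 125), (28, 125), (29, 125), (30, 125), (31, 125), (32, 125), (93, 124)]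

set_option maxRecDepth 100000 in
theorem good_E7 : ∀ a < chevE7.nroots, good1 chevE7 a (witE7.getD a (0, 0)) = true := by
  decide +kernel

theorem perfect_E7 : commutator (chevE7.SteinbergCover K) = ⊤ :=
  perfect_of_good1 chevE7 witE7 good_E7

def witE8 : Array (ℕ × ℕ) := #[(1, 119), (0, 120), (0, 122), (0, 125), (0, 129), (0, 134), (0, 140), (0, 146), (0, 151), (0, 155), (0, 158), (0, 160), (0, 161), (1, 161), (0, 168), (0, 173), (0, 177), (0, 180), (0, 182), (0, 183), (1, 183), (0, 187), (0, 190), (0, 192), (0, 193), (1, 193), (0, 196), (0, 198), (0, 199), (1, 199), (0, 201), (0, 202), (1, 202), (0, 203), (1, 203), (2, 203), (0, 206), (0, 208), (0, 209), (1, 209), (0, 211), (0, 212), (1, 212), (0, 213), (1, 213), (2, 213), (0, 215), (0, 216), (1, 216), (0, 217), (1, 217), (2, 217), (0, 218), (1, 218), (2, 218), (3, 218), (0, 220), (0, 221), (1, 221), (0, 222), (1, 222), (2, 222), (0, 223), (1, 223), (2, 223), (3, 223), (0, 224), (1, 224), (2, 224), (3, 224),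 (4, 224), (0, 225), (1, 225), (2, 225), (3, 225), (4, 225), (5, 225), (6, 225), (0, 227), (0, 228), (1, 228), (0, 229), (1, 229), (2, 229), (0, 230), (1, 230), (2, 230), (3, 230), (0, 231), (1, 231), (2, 231), (3, 231), (4, 231), (0, 232), (1, 232), (2, 232), (3, 232), (4, 232), (5, 232), (0, 233), (1, 233), (2, 233), (3, 233), (4, 233), (5, 233), (0, 234), (1, 234), (2, 234), (3, 234), (4, 234), (0, 235), (1, 235), (2, 235), (3, 235), (0, 236), (1, 236), (2, 236), (0, 237), (1, 237), (0, 238), (1, 239), (2, 238), (2, 239), (3, 237), (3, 238), (3, 239), (4, 236), (4, 237), (4, 238), (4, 239), (5, 235), (5, 236), (5, 237), (5, 238), (5, 239), (6, 234), (6, 235), (6, 236), (6, 237), (6, 238), (6, 239), (7, 234), (7, 235), (7, 236), (7, 237), (7, 238), (7, 239), (8, 235), (8, 236), (8, 237), (8, 238), (8, 239), (9, 236), (9, 237), (9, 238), (9, 239), (10, 237), (10, 238), (10, 239), (11, 238), (11, 239), (12, 239), (14, 233), (14, 234), (14, 235), (14, 236), (14,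 237), (14, 238), (14, 239), (15, 235), (15, 236), (15, 237), (15, 238), (15, 239), (16, 236), (16, 237), (16, 238), (16, 239), (17, 237), (17, 238), (17, 239), (18, 238), (18, 239), (19, 239), (21, 236), (21, 237), (21, 238), (21, 239), (22, 237), (22, 238), (22, 239), (23, 238), (23, 239), (24, 239), (26, 237), (26, 238), (26, 239), (27, 238), (27, 239), (28, 239), (30, 238), (30, 239), (31, 239), (33, 239), (36, 237), (36, 238), (36, 239), (37, 238), (37, 239), (38, 239), (40, 238), (40, 239), (41, 239), (43, 239), (46, 238), (46, 239), (47, 239), (49, 239), (52, 239), (56, 238), (56, 239), (57, 239), (59, 239), (62, 239), (66, 239), (71, 239), (78, 238), (78, 239), (79, 239), (81, 239), (84, 239), (88, 239), (93, 239), (99, 239), (105, 239), (110, 239), (114, 239), (117, 239), (119, 239), (120, 238)]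

set_option maxRecDepth 100000 in
theorem good_E8 : ∀ a < chevE8.nroots, good1 chevE8 a (witE8.getD a (0, 0)) = true := by
  decide +kernel

theorem perfect_E8 : commutator (chevE8.SteinbergCover K) = ⊤ :=
  perfect_of_good1 chevE8 witE8 good_E8

/-- `(r, s, a₁, a₂)` for each root of `B₂` -/
def witB2 : Array (ℕ × ℕ × ℕ × ℕ) :=
  #[(1, 4, 2, 0), (2, 3, 1, 0), (1, 4, 2, 0), (1, 7, 5, 3), (2, 7, 6, 4), (1, 7, 5, 3), (2, 7, 6, 4),
    (5, 4, 6, 7)]

theorem good_B2 : ∀ a < chevB2.nroots,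
    (good2 chevB2 (witB2.getD a (0, 0, 0, 0)).1 (witB2.getD a (0, 0, 0, 0)).2.1
      (witB2.getD a (0, 0, 0, 0)).2.2.1 (witB2.getD a (0, 0, 0, 0)).2.2.2 [] &&
      (decide (a = (witB2.getD a (0, 0, 0, 0)).2.2.1) ||
        decide (a = (witB2.getD a (0, 0, 0, 0)).2.2.2))) = true := by
  decide +kernel

theorem perfect_B2 (x : K) (hx0 : x ≠ 0) (hx1 : x ≠ 1) :
    commutator (chevB2.SteinbergCover K) = ⊤ := by
  apply perfect_of_gens
  intro a v ha
  have h := good_B2 a ha
  rw [Bool.and_eq_true, Bool.or_eq_true, decide_eq_true_eq, decide_eq_true_eq] at h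
  obtain ⟨h1, h2⟩ := h
  have h3 := mem_of_good2 chevB2 _ _ _ _ [] h1 (fun b hb => absurd hb (by simp)) x hx0 hx1 v
  rcases h2 with h2 | h2
  · rw [h2]; exact h3.1
  · rw [h2]; exact h3.2

def longG2 : List ℕ := [0, 1, 5, 6, 10, 11]

def witG2a : Array (ℕ × ℕ) :=
  #[(1, 5), (0, 6), (0, 0), (0, 0), (0, 0), (0, 10), (1, 11), (0, 0), (0, 0), (0, 0), (5, 11), (6, 10)]

theorem good_G2a : ∀ a ∈ longG2, good1 chevG2 a (witG2a.getD a (0, 0)) = true := by
  decide +kernel

/-- `(r, s, a₁, a₂)` for each short root of `G₂` -/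
def witG2b : Array (ℕ × ℕ × ℕ × ℕ) :=
  #[(0, 0, 0, 0), (0, 0, 0, 0), (3, 6, 4, 2), (2, 10, 7, 3), (2, 11, 8, 4), (0, 0, 0, 0), (0, 0, 0, 0),
    (2, 10, 7, 3), (2, 11, 8, 4), (3, 11, 9, 7), (0, 0, 0, 0), (0, 0, 0, 0)]

theorem good_G2b : ∀ a < chevG2.nroots, a ∉ longG2 →
    (good2 chevG2 (witG2b.getD a (0, 0, 0, 0)).1 (witG2b.getD a (0, 0, 0, 0)).2.1
      (witG2b.getD a (0, 0, 0, 0)).2.2.1 (witG2b.getD a (0, 0, 0, 0)).2.2.2 longG2 &&
      (decide (a = (witG2b.getD a (0, 0, 0, 0)).2.2.1) ||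
        decide (a = (witG2b.getD a (0, 0, 0, 0)).2.2.2))) = true := by
  decide +kernel

theorem perfect_G2 (x : K) (hx0 : x ≠ 0) (hx1 : x ≠ 1) :
    commutator (chevG2.SteinbergCover K) = ⊤ := by
  have hlong : ∀ b ∈ longG2, ∀ v : K, chevG2.scGen K b v ∈ commutator (chevG2.SteinbergCover K) :=
    fun b hb v => mem_of_good1 chevG2 b _ (good_G2a b hb) v
  apply perfect_of_gens
  intro a v ha
  by_cases hal : a ∈ longG2
  · exact hlong a hal v
  · have h := good_G2b a ha hal
    rw [Bool.and_eq_true, Bool.or_eq_true, decide_eq_true_eq, decide_eq_true_eq] at h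
    obtain ⟨h1, h2⟩ := h
    have h3 := mem_of_good2 chevG2 _ _ _ _ longG2 h1 hlong x hx0 hx1 v
    rcases h2 with h2 | h2
    · rw [h2]; exact h3.1
    · rw [h2]; exact h3.2

end Cfsg.Agent.Helper8.StP
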