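import Mathlib
import Cfsg.Agent.Helper8.DkMaxE

set_option autoImplicit false

/-!
The normalisers of all the tori of `PSL₂(F)`; maximal subgroups normalising a member.
-/

namespace Cfsg.Agent.Helper8.Dk

open Matrix Cfsg.Agent.Helper7.SL2 Cfsg.Agent.Helper8.SL2C Subgroup
open scoped Matrix

variable {F : Type*} [Field F]

/-- an inverting element for every torus -/
theorem exists_isW' [Finite F] {t : F} (ht : t ^ 2 ≠ 4) :
    ∃ w : SpecialLinearGroup (Fin 2) F, IsW t w := by
  by_cases hE : Ellt t
  · exact exists_isW hE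
  · unfold Ellt at hE
    push Not at hE
    obtain ⟨l, hl⟩ := hE
    have hl0 : l ≠ 0 := by
      rintro rfl
      simp at hl
    have hinv : l⁻¹ = t - l := by
      field_simp
      linear_combination hl
    have ht' : t = l + l⁻¹ := by rw [hinv]; ring
    have hll : l - l⁻¹ ≠ 0 := by
      intro h
      apply ht
      have h1 : (l - l⁻¹) ^ 2 = t ^ 2 - 4 := by
        have e : (l - l⁻¹) ^ 2 = (l + l⁻¹) ^ 2 - 4 * (l * l⁻¹) := by ring
        rw [e, mul_inv_cancel₀ hl0, ← ht']; ring
      rw [h, zero_pow (two_ne_zero)] at h1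
      linear_combination -h1
    set c : F := 2 / (l - l⁻¹) with hc
    set a : F := 1 - l * c with ha
    have hkey : a ^ 2 + t * a * c + c ^ 2 = -1 := by
      have e1 : a ^ 2 + t * a * c + c ^ 2 = (a + l * c) * (a + l⁻¹ * c) +
          (1 - l * l⁻¹) * c ^ 2 := by rw [ht']; ring
      have e2 : a + l * c = 1 := by rw [ha]; ring
      have e3 : a + l⁻¹ * c = 1 - (l - l⁻¹) * c := by rw [ha]; ring
      have e4 : (l - l⁻¹) * c = 2 := by rw [hc]; exact mul_div_cancel₀ 2 hll
      rw [e1, e2, e3, e4, mul_inv_cancel₀ hl0]; ring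
    exact ⟨mk' a (t * a + c) c (-a) (by linear_combination -hkey), rfl, rfl⟩

variable [Fintype F]

/-- the normaliser of a torus has twice its order -/
theorem card_normalizer_GT {M : Subgroup (ProjectiveSpecialLinearGroup (Fin 2) F)}
    (hM : M ∈ GT F) :
    Nat.card (normalizer (M : Set (ProjectiveSpecialLinearGroup (Fin 2) F))) = 2 * Nat.card M := by
  obtain ⟨A, ⟨c, t, ht, rfl⟩, rfl⟩ := hM
  obtain ⟨w, hw⟩ := exists_isW' ht
  rw [map_cj, normalizer_cj, card_cj, card_cj]
  exact card_normalizer_Tc_map ht hw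

theorem card_lt_of_mem_GM (h4 : 4 ≤ Fintype.card F)
    {M : Subgroup (ProjectiveSpecialLinearGroup (Fin 2) F)} (hM : M ∈ GM F) :
    Nat.card (normalizer (M : Set (ProjectiveSpecialLinearGroup (Fin 2) F))) <
      Nat.card (ProjectiveSpecialLinearGroup (Fin 2) F) := by
  have hG := card_center_mul_card_PSL2 (F := F)
  have hd1 : 1 ≤ Nat.card (center (SpecialLinearGroup (Fin 2) F)) := Nat.card_pos
  obtain ⟨q, hq⟩ : ∃ q, q = Fintype.card F := ⟨_, rfl⟩
  obtain ⟨d, hd⟩ : ∃ d, d = Nat.card (center (SpecialLinearGroup (Fin 2) F)) := ⟨_, rfl⟩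
  rw [← hq, ← hd] at hG
  rw [← hq] at h4
  rw [← hd] at hd1
  rw [sq_sub_one_eq q (by omega)] at hG
  have hkey : ∀ n : ℕ, d * n ≤ q * (q - 1) ∨ d * n ≤ 2 * (q + 1) →
      n < Nat.card (ProjectiveSpecialLinearGroup (Fin 2) F) := by
    intro n hn
    have h1 : d * n < d * Nat.card (ProjectiveSpecialLinearGroup (Fin 2) F) := by
      rw [hG]
      rcases hn with hn | hn
      · have : q * (q - 1) * 1 < q * (q - 1) * (q + 1) := by
          apply Nat.mul_lt_mul_of_pos_left (by omega)
          exact Nat.mul_pos (by omega) (by omega)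
        calc d * n ≤ q * (q - 1) := hn
          _ = q * (q - 1) * 1 := (mul_one _).symm
          _ < q * (q - 1) * (q + 1) := this
          _ = q * ((q - 1) * (q + 1)) := by ring
      · have : 2 * (q + 1) < q * (q - 1) * (q + 1) := by
          apply Nat.mul_lt_mul_of_pos_right _ (by omega)
          have : 4 * 3 ≤ q * (q - 1) := Nat.mul_le_mul h4 (by omega)
          omega
        calc d * n ≤ 2 * (q + 1) := hn
          _ < q * (q - 1) * (q + 1) := this
          _ = q * ((q - 1) * (q + 1)) := by ring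
    exact Nat.lt_of_mul_lt_mul_left h1
  apply hkey
  rcases mem_GM_iff.mp hM with hU | hT
  · left
    have := card_normalizer_GU hU
    rw [← hq, ← hd] at this
    exact this.le
  · right
    rw [card_normalizer_GT hT]
    rcases card_mul_mem_GT hT with h | h <;> rw [← hq, ← hd] at h
    · calc d * (2 * Nat.card M) = 2 * (d * Nat.card M) := by ring
        _ = 2 * (q + 1) := by rw [h]
        _ ≤ 2 * (q + 1) := le_rfl
    · calc d * (2 * Nat.card M) = 2 * (d * Nat.card M) := by ring
        _ = 2 * (q - 1) := by rw [h]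
        _ ≤ 2 * (q + 1) := by omega

/-- a maximal subgroup normalising a member is the normaliser of the member -/
theorem coatom_eq_normalizer (h4 : 4 ≤ Fintype.card F)
    {H : Subgroup (ProjectiveSpecialLinearGroup (Fin 2) F)} (hH : IsCoatom H)
    {M : Subgroup (ProjectiveSpecialLinearGroup (Fin 2) F)} (hM : M ∈ GM F)
    (hle : H ≤ normalizer (M : Set (ProjectiveSpecialLinearGroup (Fin 2) F))) :
    H = normalizer (M : Set (ProjectiveSpecialLinearGroup (Fin 2) F)) := by
  rcases eq_or_lt_of_le hle with h | h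
  · exact h
  · exfalso
    have htop := hH.2 _ h
    have := card_lt_of_mem_GM h4 hM
    rw [htop, Subgroup.card_top] at this
    exact lt_irrefl _ this

/-- the possible shapes of a maximal subgroup normalising a member -/
theorem coatom_local (h4 : 4 ≤ Fintype.card F)
    {H : Subgroup (ProjectiveSpecialLinearGroup (Fin 2) F)} (hH : IsCoatom H)
    {M : Subgroup (ProjectiveSpecialLinearGroup (Fin 2) F)} (hM : M ∈ GM F)
    (hle : H ≤ normalizer (M : Set (ProjectiveSpecialLinearGroup (Fin 2) F))) :
    Nat.card (center (SpecialLinearGroup (Fin 2) F)) * Nat.card H =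
      Fintype.card F * (Fintype.card F - 1) ∨
    ∃ k : ℕ, (Nat.card (center (SpecialLinearGroup (Fin 2) F)) * k = Fintype.card F + 1 ∨
      Nat.card (center (SpecialLinearGroup (Fin 2) F)) * k = Fintype.card F - 1) ∧
      Nonempty (H ≃* DihedralGroup k) := by
  have heq := coatom_eq_normalizer h4 hH hM hle
  rcases mem_GM_iff.mp hM with hU | hT
  · left
    rw [heq]
    exact card_normalizer_GU hU
  · right
    refine ⟨Nat.card M, card_mul_mem_GT hT, ?_⟩
    rw [heq]
    exact normalizer_GT_dihedral hT (card_normalizer_GT hT)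

end Cfsg.Agent.Helper8.Dk
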