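import Mathlib
import Cfsg.Agent.Helper8.DkSolv
import Cfsg.Agent.Helper8.DkGenH
import Cfsg.Agent.Lead.PSL2SubF

set_option autoImplicit false

/-!
The proper subgroups of `PSL₂(F)`; when `PSL₂(F)` is a minimal simple group.
-/

namespace Cfsg.Agent.Helper8.Dk

open Matrix Cfsg.Agent.Helper7.SL2 Cfsg.Agent.Helper8.SL2C Subgroup
open scoped Matrix

variable {F : Type*} [Field F] [Fintype F]

/-- Dickson's list for the proper subgroups: the subfield subgroups come from proper subfields -/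
theorem proper_cases (p : ℕ) [Fact p.Prime] [CharP F p]
    (H : Subgroup (ProjectiveSpecialLinearGroup (Fin 2) F)) (hH : H ≠ ⊤) :
    Nat.card H = 1 ∨ (∃ M ∈ GM F, M ⊓ H ≠ ⊥ ∧
      H ≤ normalizer (M : Set (ProjectiveSpecialLinearGroup (Fin 2) F))) ∨
    Nonempty (H ≃* alternatingGroup (Fin 4)) ∨ Nonempty (H ≃* Equiv.Perm (Fin 4)) ∨
    Nonempty (H ≃* alternatingGroup (Fin 5)) ∨
    ∃ (K : Type) (_ : Field K) (_ : Fintype K) (m : ℕ), 2 ≤ m ∧
      Fintype.card K ^ m = Fintype.card F ∧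
      (Nonempty (H ≃* Matrix.ProjectiveSpecialLinearGroup (Fin 2) K) ∨
        Nonempty (H ≃* Matrix.ProjGenLinGroup (Fin 2) K)) := by
  obtain ⟨q, hqF⟩ : ∃ q, q = Fintype.card F := ⟨_, rfl⟩
  obtain ⟨d, hd⟩ : ∃ d, d = Nat.card (center (SpecialLinearGroup (Fin 2) F)) := ⟨_, rfl⟩
  have hdgcd : d = Nat.gcd 2 (q - 1) := by rw [hd, hqF]; exact card_center_SL2
  have hd1 : 1 ≤ d := hd ▸ Nat.card_pos
  have hG := card_center_mul_card_PSL2 (F := F)
  rw [← hqF, ← hd] at hG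
  have hq2 : 2 ≤ q := hqF ▸ Fintype.one_lt_card
  have hHdvd : Nat.card H ∣ Nat.card (ProjectiveSpecialLinearGroup (Fin 2) F) :=
    Subgroup.card_subgroup_dvd_card H
  have hHne : Nat.card H ≠ Nat.card (ProjectiveSpecialLinearGroup (Fin 2) F) :=
    fun h => hH (Subgroup.eq_top_of_card_eq H h)
  rcases dickson_first p H with h | h | h | h | h | ⟨M, hM, a, k, ha, hQ, hN, hcard, hk⟩
  · exact Or.inl h
  · exact Or.inr (Or.inl h)
  · exact Or.inr (Or.inr (Or.inl h))
  · exact Or.inr (Or.inr (Or.inr (Or.inl h)))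
  · exact Or.inr (Or.inr (Or.inr (Or.inr (Or.inl h))))
  · right; right; right; right; right
    obtain ⟨K, iK, iK', m, hm, hiso⟩ := out_generic p H hM ha hQ hN hcard hk
    refine ⟨K, iK, iK', m, ?_, hm, hiso⟩
    rw [← hqF] at hm
    obtain ⟨r, hr⟩ : ∃ r, r = Fintype.card K := ⟨_, rfl⟩
    rw [← hr] at hm
    have hr2 : 2 ≤ r := hr ▸ Fintype.one_lt_card
    have hcardH : Nat.card H = r * (r ^ 2 - 1) ∨
        Nat.gcd 2 (r - 1) * Nat.card H = r * (r ^ 2 - 1) := by
      rcases hiso with ⟨⟨e⟩⟩ | ⟨⟨e⟩⟩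
      · have h1 := Cfsg.Agent.Lead.PSL2Sub.card_mul (F := K) rfl
        rw [← hr, ← Nat.card_congr e.toEquiv] at h1
        exact Or.inr h1
      · have h1 := Cfsg.Agent.Lead.PSL2Sub.card_PGL2 (K := K)
        rw [← hr, ← Nat.card_congr e.toEquiv] at h1
        exact Or.inl h1
    by_contra hm1
    have hm1 : m ≤ 1 := by omega
    interval_cases m
    · rw [pow_zero] at hm; omega
    · rw [pow_one] at hm
      subst hm
      rcases hcardH with h | h
      · -- PGL₂(F) is too big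
        have h1 : Nat.card H ≤ Nat.card (ProjectiveSpecialLinearGroup (Fin 2) F) :=
          Nat.le_of_dvd Nat.card_pos hHdvd
        have h2 : d * Nat.card (ProjectiveSpecialLinearGroup (Fin 2) F) = Nat.card H := by
          rw [hG, h]
        have h3 : Nat.card (ProjectiveSpecialLinearGroup (Fin 2) F) ≤
            d * Nat.card (ProjectiveSpecialLinearGroup (Fin 2) F) :=
          Nat.le_mul_of_pos_left _ hd1
        exact hHne (by omega)
      · rw [← hdgcd, ← hG] at h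
        exact hHne (Nat.eq_of_mul_eq_mul_left hd1 h)

/-- solvability of the proper subgroups, under arithmetic conditions on `q` -/
theorem isSolvable_of_proper (p : ℕ) [Fact p.Prime] [CharP F p]
    (hA5 : 5 ∣ Fintype.card F * (Fintype.card F ^ 2 - 1) →
      Nat.card (ProjectiveSpecialLinearGroup (Fin 2) F) = 60)
    (hsub : ∀ r m : ℕ, 2 ≤ m → r ^ m = Fintype.card F → r ≤ 3)
    (H : Subgroup (ProjectiveSpecialLinearGroup (Fin 2) F)) (hH : H ≠ ⊤) :
    Group.IsSolvable H := by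
  rcases proper_cases p H hH with h | ⟨M, hM, -, hHM⟩ | ⟨⟨e⟩⟩ | ⟨⟨e⟩⟩ | ⟨⟨e⟩⟩ |
    ⟨K, _, _, m, hm2, hm, hiso⟩
  · exact isSolvable_of_card_dvd_24 (by rw [h]; norm_num)
  · exact isSolvable_of_le_normalizer hM hHM
  · exact isSolvable_of_card_dvd_24 (by rw [Nat.card_congr e.toEquiv, card_A4]; norm_num)
  · exact isSolvable_of_card_dvd_24 (by rw [Nat.card_congr e.toEquiv, card_S4])
  · exfalso
    have hc : Nat.card H = 60 := by rw [Nat.card_congr e.toEquiv, card_A5]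
    have hHdvd : Nat.card H ∣ Nat.card (ProjectiveSpecialLinearGroup (Fin 2) F) :=
      Subgroup.card_subgroup_dvd_card H
    have hG := card_center_mul_card_PSL2 (F := F)
    have h5 : 5 ∣ Fintype.card F * (Fintype.card F ^ 2 - 1) := by
      rw [← hG]
      apply Dvd.dvd.mul_left
      rw [hc] at hHdvd
      exact Dvd.dvd.trans (by norm_num) hHdvd
    apply hH
    apply Subgroup.eq_top_of_card_eq
    rw [hc, hA5 h5]
  · obtain ⟨r, hr⟩ : ∃ r, r = Fintype.card K := ⟨_, rfl⟩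
    rw [← hr] at hm
    have hr2 : 2 ≤ r := hr ▸ Fintype.one_lt_card
    have hr3 : r ≤ 3 := hsub r m hm2 hm
    apply isSolvable_of_card_dvd_24
    rcases hiso with ⟨⟨e⟩⟩ | ⟨⟨e⟩⟩
    · have h1 := Cfsg.Agent.Lead.PSL2Sub.card_mul (F := K) rfl
      rw [← hr, ← Nat.card_congr e.toEquiv] at h1
      interval_cases r
      · have : Nat.card H = 6 := by
          have e1 : Nat.gcd 2 (2 - 1) = 1 := by norm_num
          rw [e1] at h1; omega
        rw [this]; norm_num
      · have : Nat.card H = 12 := by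
          have e1 : Nat.gcd 2 (3 - 1) = 2 := by norm_num
          rw [e1] at h1; omega
        rw [this]; norm_num
    · have h1 := Cfsg.Agent.Lead.PSL2Sub.card_PGL2 (K := K)
      rw [← hr, ← Nat.card_congr e.toEquiv] at h1
      interval_cases r
      · rw [h1]; norm_num
      · rw [h1]; norm_num

theorem isMinimalSimple_PSL2 (p : ℕ) [Fact p.Prime] [CharP F p] (hq : 4 ≤ Fintype.card F)
    (hA5 : 5 ∣ Fintype.card F * (Fintype.card F ^ 2 - 1) →
      Nat.card (ProjectiveSpecialLinearGroup (Fin 2) F) = 60)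
    (hsub : ∀ r m : ℕ, 2 ≤ m → r ^ m = Fintype.card F → r ≤ 3) :
    Cfsg.IsMinimalSimple (ProjectiveSpecialLinearGroup (Fin 2) F) := by
  refine ⟨isSimpleGroup_PSL2_of_card hq, ?_, fun H hH => isSolvable_of_proper p hA5 hsub H hH⟩
  intro hc
  obtain ⟨a, b, hab⟩ := exists_not_comm_PSL2 (F := F)
  exact hab (hc.is_comm.comm a b)

/-! ### necessary conditions -/

omit [Fintype F] in
theorem isSolvable_of_minimal_of_ne_top
    (hmin : Cfsg.IsMinimalSimple (ProjectiveSpecialLinearGroup (Fin 2) F))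
    (H : Subgroup (ProjectiveSpecialLinearGroup (Fin 2) F)) (hH : ¬ Group.IsSolvable H) :
    H = ⊤ := by
  by_contra h
  exact hH (hmin.2.2 H h)

theorem four_le_of_minimal
    (hmin : Cfsg.IsMinimalSimple (ProjectiveSpecialLinearGroup (Fin 2) F)) :
    4 ≤ Fintype.card F := by
  by_contra hq
  have hq2 : 2 ≤ Fintype.card F := Fintype.one_lt_card
  have hG := Cfsg.Agent.Lead.PSL2Sub.card_mul (F := F) rfl
  have hs : Group.IsSolvable (ProjectiveSpecialLinearGroup (Fin 2) F) := by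
    apply isSolvable_of_card_dvd_24
    obtain ⟨q, hqF⟩ : ∃ q, q = Fintype.card F := ⟨_, rfl⟩
    rw [← hqF] at hG hq hq2
    have : q = 2 ∨ q = 3 := by omega
    rcases this with rfl | rfl
    · have e1 : Nat.gcd 2 (2 - 1) = 1 := by norm_num
      rw [e1] at hG
      have : Nat.card (ProjectiveSpecialLinearGroup (Fin 2) F) = 6 := by omega
      rw [this]; norm_num
    · have e1 : Nat.gcd 2 (3 - 1) = 2 := by norm_num
      rw [e1] at hG
      have : Nat.card (ProjectiveSpecialLinearGroup (Fin 2) F) = 12 := by omega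
      rw [this]; norm_num
  have := hmin.1
  apply hmin.2.1
  exact ⟨⟨fun a b => IsSimpleGroup.comm_iff_isSolvable.mpr hs a b⟩⟩

theorem card_le_three_of_minimal
    (hmin : Cfsg.IsMinimalSimple (ProjectiveSpecialLinearGroup (Fin 2) F))
    {K : Type*} [Field K] [Fintype K] (m : ℕ) (hm : 2 ≤ m)
    (hK : Fintype.card K ^ m = Fintype.card F) : Fintype.card K ≤ 3 := by
  by_contra hr
  have hr4 : 4 ≤ Fintype.card K := by omega
  obtain ⟨f⟩ := Cfsg.Agent.Lead.PSL2Sub.exists_ringHom (F := F) (K := K) m hK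
  obtain ⟨H, ⟨e⟩⟩ := Cfsg.Agent.Lead.PSL2Sub.exists_PSL2_sub f
  have hns : ¬ Group.IsSolvable H := by
    intro hs
    apply not_isSolvable_PSL2 hr4
    exact Group.isSolvable_of_isSolvable_injective (f := e.symm.toMonoidHom) e.symm.injective
  have htop := isSolvable_of_minimal_of_ne_top hmin H hns
  have hcard : Nat.card (ProjectiveSpecialLinearGroup (Fin 2) K) =
      Nat.card (ProjectiveSpecialLinearGroup (Fin 2) F) := by
    rw [← Nat.card_congr e.toEquiv, htop, Subgroup.card_top]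
  have h1 := Cfsg.Agent.Lead.PSL2Sub.card_mul (F := K) rfl
  have h2 := Cfsg.Agent.Lead.PSL2Sub.card_mul (F := F) rfl
  obtain ⟨r, hrK⟩ : ∃ r, r = Fintype.card K := ⟨_, rfl⟩
  obtain ⟨q, hqF⟩ : ∃ q, q = Fintype.card F := ⟨_, rfl⟩
  obtain ⟨c, hc⟩ : ∃ c, c = Nat.card (ProjectiveSpecialLinearGroup (Fin 2) F) := ⟨_, rfl⟩
  rw [← hrK] at h1 hK hr4
  rw [← hqF] at h2 hK
  rw [hcard, ← hc] at h1
  rw [← hc] at h2
  have hd1 : 1 ≤ Nat.gcd 2 (r - 1) := Nat.gcd_pos_of_pos_left _ (by norm_num)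
  have hd2 : Nat.gcd 2 (q - 1) ≤ 2 := Nat.le_of_dvd (by norm_num) (Nat.gcd_dvd_left 2 _)
  have h3 : c ≤ r * (r ^ 2 - 1) := by rw [← h1]; exact Nat.le_mul_of_pos_left _ hd1
  have h4 : q * (q ^ 2 - 1) ≤ 2 * c := by rw [← h2]; exact Nat.mul_le_mul_right _ hd2
  have hrq : r ^ 2 ≤ q := by
    rw [← hK]
    exact Nat.pow_le_pow_right (by omega) hm
  have h5 : r ^ 2 * ((r ^ 2) ^ 2 - 1) ≤ q * (q ^ 2 - 1) :=
    Nat.mul_le_mul hrq (Nat.sub_le_sub_right (Nat.pow_le_pow_left hrq 2) 1)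
  have h6 : 2 * (r * (r ^ 2 - 1)) < r ^ 2 * ((r ^ 2) ^ 2 - 1) := by
    obtain ⟨j, rfl⟩ : ∃ j, r = j + 4 := ⟨r - 4, by omega⟩
    have e1 : (j + 4) ^ 2 - 1 = j ^ 2 + 8 * j + 15 := by
      apply Nat.sub_eq_of_eq_add; ring
    have e2 : ((j + 4) ^ 2) ^ 2 - 1 = (j ^ 2 + 8 * j + 15) * ((j + 4) ^ 2 + 1) := by
      apply Nat.sub_eq_of_eq_add; ring
    rw [e1, e2]
    nlinarith [Nat.zero_le j, Nat.zero_le (j ^ 2), Nat.zero_le (j ^ 3)]
  omega

theorem card_le_of_minimal_of_five_dvd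
    (hmin : Cfsg.IsMinimalSimple (ProjectiveSpecialLinearGroup (Fin 2) F))
    (h5 : 5 ∣ Fintype.card F * (Fintype.card F ^ 2 - 1)) :
    Fintype.card F * (Fintype.card F ^ 2 - 1) ≤ 120 := by
  obtain ⟨H, ⟨e⟩⟩ := (Cfsg.Agent.Lead.PSL2Sub.s0804 (F := F) rfl).mpr h5
  have hns : ¬ Group.IsSolvable H := by
    intro hs
    apply not_isSolvable_A5
    exact Group.isSolvable_of_isSolvable_injective (f := e.symm.toMonoidHom) e.symm.injective
  have htop := isSolvable_of_minimal_of_ne_top hmin H hns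
  have hcard : Nat.card (ProjectiveSpecialLinearGroup (Fin 2) F) = 60 := by
    rw [← card_A5, ← Nat.card_congr e.toEquiv, htop, Subgroup.card_top]
  have h2 := Cfsg.Agent.Lead.PSL2Sub.card_mul (F := F) rfl
  rw [hcard] at h2
  have hd2 : Nat.gcd 2 (Fintype.card F - 1) ≤ 2 :=
    Nat.le_of_dvd (by norm_num) (Nat.gcd_dvd_left 2 _)
  rw [← h2]
  omega

end Cfsg.Agent.Helper8.Dk
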