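import Mathlib

set_option autoImplicit false

/-! A double coset criterion for 2-transitivity of the action on cosets. -/

namespace Cfsg.Agent.Helper8.TwoTrans

variable {G : Type*} [Group G]

theorem two_pretransitive_of_double_coset (H : Subgroup G)
    (h : ∀ g₁ g₂ : G, g₁ ∉ H → g₂ ∉ H → ∃ h₁ ∈ H, ∃ h₂ ∈ H, g₂ = h₁ * g₁ * h₂) :
    MulAction.IsMultiplyPretransitive G (G ⧸ H) 2 := by
  rw [MulAction.is_two_pretransitive_iff]
  intro a b c d hab hcd
  obtain ⟨x, rfl⟩ := QuotientGroup.mk_surjective a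
  obtain ⟨y, rfl⟩ := QuotientGroup.mk_surjective b
  obtain ⟨z, rfl⟩ := QuotientGroup.mk_surjective c
  obtain ⟨w, rfl⟩ := QuotientGroup.mk_surjective d
  have h1 : x⁻¹ * y ∉ H := fun hh => hab (QuotientGroup.eq.mpr hh)
  have h2 : z⁻¹ * w ∉ H := fun hh => hcd (QuotientGroup.eq.mpr hh)
  obtain ⟨h₁, hh₁, h₂, hh₂, heq⟩ := h _ _ h1 h2
  refine ⟨z * h₁ * x⁻¹, ?_, ?_⟩
  · show ((z * h₁ * x⁻¹ * x : G) : G ⧸ H) = (z : G ⧸ H)
    rw [QuotientGroup.eq]
    have : (z * h₁ * x⁻¹ * x)⁻¹ * z = h₁⁻¹ := by group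
    rw [this]
    exact H.inv_mem hh₁
  · show ((z * h₁ * x⁻¹ * y : G) : G ⧸ H) = (w : G ⧸ H)
    rw [QuotientGroup.eq]
    have : (z * h₁ * x⁻¹ * y)⁻¹ * w = (x⁻¹ * y)⁻¹ * h₁⁻¹ * (z⁻¹ * w) := by group
    rw [this, heq]
    have : (x⁻¹ * y)⁻¹ * h₁⁻¹ * (h₁ * (x⁻¹ * y) * h₂) = h₂ := by group
    rw [this]
    exact hh₂

theorem double_coset_of_card [Finite G] (H : Subgroup G) (g₀ : G) (hg₀ : g₀ ∉ H) (k : ℕ)
    (hk : Nat.card {h : H // g₀⁻¹ * (h : G) * g₀ ∈ H} ≤ k)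
    (hcard : k * (H.index - 1) ≤ Nat.card H) :
    ∀ g : G, g ∉ H → ∃ h₁ ∈ H, ∃ h₂ ∈ H, g = h₁ * g₀ * h₂ := by
  classical
  set x₀ : G ⧸ H := (g₀ : G ⧸ H) with hx₀
  -- the stabilizer
  have hstab : Nat.card (MulAction.stabilizer H x₀) ≤ k := by
    refine le_trans ?_ hk
    apply Nat.card_le_card_of_injective
      (fun s : MulAction.stabilizer H x₀ => (⟨s.1, by
        have hs := s.2
        rw [MulAction.mem_stabilizer_iff] at hs
        have hs' : (((s.1 : H) : G) * g₀ : G ⧸ H) = (g₀ : G ⧸ H) := hs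
        rw [QuotientGroup.eq] at hs'
        have : g₀⁻¹ * ((s.1 : H) : G) * g₀ = ((((s.1 : H) : G) * g₀)⁻¹ * g₀)⁻¹ := by group
        rw [this]
        exact H.inv_mem hs'⟩ : {h : H // g₀⁻¹ * (h : G) * g₀ ∈ H}))
    intro s t hst
    apply Subtype.ext
    exact congrArg (fun u : {h : H // g₀⁻¹ * (h : G) * g₀ ∈ H} => u.1) hst
  -- orbit-stabilizer
  have hos : (MulAction.orbit H x₀).ncard * Nat.card (MulAction.stabilizer H x₀) = Nat.card H := by
    rw [← MulAction.index_stabilizer, mul_comm]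
    exact Subgroup.card_mul_index _
  have hspos : 0 < Nat.card (MulAction.stabilizer H x₀) := Nat.card_pos
  -- the orbit avoids the base point
  have hsub : MulAction.orbit H x₀ ⊆ ({((1 : G) : G ⧸ H)} : Set (G ⧸ H))ᶜ := by
    rintro _ ⟨s, rfl⟩ hmem
    rw [Set.mem_singleton_iff] at hmem
    have hmem' : (((s : H) : G) * g₀ : G ⧸ H) = ((1 : G) : G ⧸ H) := hmem
    rw [QuotientGroup.eq] at hmem'
    apply hg₀
    have : g₀ = ((s : H) : G)⁻¹ * ((((s : H) : G) * g₀)⁻¹ * 1)⁻¹ := by group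
    rw [this]
    exact H.mul_mem (H.inv_mem s.2) (H.inv_mem hmem')
  have hcompl : (({((1 : G) : G ⧸ H)} : Set (G ⧸ H))ᶜ).ncard = H.index - 1 := by
    rw [Set.ncard_compl, Set.ncard_singleton, Subgroup.index_eq_card]
  have hle : (({((1 : G) : G ⧸ H)} : Set (G ⧸ H))ᶜ).ncard ≤ (MulAction.orbit H x₀).ncard := by
    rw [hcompl]
    by_contra hlt
    push Not at hlt
    have h1 : (MulAction.orbit H x₀).ncard * Nat.card (MulAction.stabilizer H x₀)
        < (H.index - 1) * k := by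
      calc (MulAction.orbit H x₀).ncard * Nat.card (MulAction.stabilizer H x₀)
          ≤ (MulAction.orbit H x₀).ncard * k := Nat.mul_le_mul_left _ hstab
        _ < (H.index - 1) * k := by
          apply Nat.mul_lt_mul_of_pos_right hlt
          exact lt_of_lt_of_le hspos hstab
    rw [hos, mul_comm] at h1
    omega
  have heq : MulAction.orbit H x₀ = ({((1 : G) : G ⧸ H)} : Set (G ⧸ H))ᶜ :=
    Set.eq_of_subset_of_ncard_le hsub hle (Set.toFinite _)
  intro g hg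
  have hgm : ((g : G) : G ⧸ H) ∈ MulAction.orbit H x₀ := by
    rw [heq, Set.mem_compl_iff, Set.mem_singleton_iff]
    intro hh
    rw [QuotientGroup.eq] at hh
    apply hg
    have : g = (g⁻¹ * 1)⁻¹ := by group
    rw [this]
    exact H.inv_mem hh
  obtain ⟨s, hs⟩ := hgm
  have hs' : (((s : H) : G) * g₀ : G ⧸ H) = (g : G ⧸ H) := hs
  rw [QuotientGroup.eq] at hs'
  refine ⟨s, s.2, _, hs', ?_⟩
  group

end Cfsg.Agent.Helper8.TwoTrans
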