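import Mathlib
import Cfsg.Agent.S3377
import Cfsg.Agent.Helper7.LinearCard
import Cfsg.Agent.Helper7.SL2Sylow
import Cfsg.Agent.Helper8.PSL2Basic
import Cfsg.Agent.Helper8.TwoTransCoset

set_option autoImplicit false

/-! `A₅` inside `PSL₂(11)`, of index 11, with the double coset property. -/

namespace Cfsg.Agent.Helper8.PSL211

open Matrix Cfsg.Agent.Helper3.CosetCert Cfsg.Agent.S3377 Cfsg.Agent.Helper8.SL2C

instance fact11 : Fact (Nat.Prime 11) := ⟨by norm_num⟩

abbrev S := Matrix.SpecialLinearGroup (Fin 2) (ZMod 11)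
abbrev P := Matrix.ProjectiveSpecialLinearGroup (Fin 2) (ZMod 11)

def xs : S := ⟨!![0, -1; 1, -1], by decide⟩
def ys : S := ⟨!![0, 2; 5, 8], by decide⟩
def gS : Fin 2 → S := fun i => if i = 0 then xs else ys
def W (ω : Fin 60) : S := prodL gS (word ω)
def g0 : S := ⟨!![1, 1; 0, 1], by decide⟩

theorem xs_pow : xs ^ 3 = 1 := by decide +kernel
theorem ys_pow : ys ^ 5 = 1 ∨ ys ^ 5 = -1 := by decide +kernel
theorem xy_pow : (xs * ys) ^ 2 = 1 ∨ (xs * ys) ^ 2 = -1 := by decide +kernel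
theorem xs_ne : ¬ (xs = 1 ∨ xs = -1) := by decide +kernel

def stabP (ω : Fin 60) : Prop :=
  ∃ ω' : Fin 60, g0⁻¹ * W ω * g0 = W ω' ∨ g0⁻¹ * W ω * g0 = -W ω'

instance : DecidablePred stabP := fun ω => by unfold stabP; infer_instance

theorem g0_notin : ∀ ω : Fin 60, ¬ (g0 = W ω ∨ g0 = -W ω) := by decide +kernel

theorem stab_count : (Finset.univ.filter stabP).card ≤ 6 := by decide +kernel

/-- The generators in `PSL₂(11)`. -/
def gP : Fin 2 → P := fun i => pmk (gS i)

theorem gP_rels : ∀ r ∈ rels, FreeGroup.lift gP r = 1 := by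
  intro r hr
  simp only [rels, Set.mem_insert_iff, Set.mem_singleton_iff] at hr
  rcases hr with rfl | rfl | rfl
  · rw [map_pow, FreeGroup.lift_apply_of]
    show pmk xs ^ 3 = 1
    rw [pmk_pow, xs_pow]
    rfl
  · rw [map_pow, FreeGroup.lift_apply_of]
    show pmk ys ^ 5 = 1
    rw [pmk_pow, pmk_eq_one_iff]
    exact ys_pow
  · rw [map_pow, map_mul, FreeGroup.lift_apply_of, FreeGroup.lift_apply_of]
    show (pmk xs * pmk ys) ^ 2 = 1
    rw [pmk_mul, pmk_pow, pmk_eq_one_iff]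
    exact xy_pow

/-- The homomorphism from the presented group. -/
def psi : PresentedGroup rels →* P := PresentedGroup.toGroup gP_rels

theorem psi_prodL (l : List (Fin 2)) : psi (prodL gens l) = pmk (prodL gS l) := by
  induction l with
  | nil => simp [prodL]
  | cons s l ih =>
    rw [prodL_cons, prodL_cons, map_mul, ih, ← pmk_mul]
    congr 1
    exact PresentedGroup.toGroup.of gP_rels

theorem psi_injective : Function.Injective psi := by
  obtain ⟨e⟩ := Cfsg.Agent.S3377.result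
  haveI : IsSimpleGroup (alternatingGroup (Fin 5)) := alternatingGroup.isSimpleGroup (by simp)
  haveI : IsSimpleGroup (PresentedGroup rels) := (MulEquiv.isSimpleGroup_congr e).mpr inferInstance
  rw [← MonoidHom.ker_eq_bot_iff]
  rcases Subgroup.Normal.eq_bot_or_eq_top (MonoidHom.normal_ker psi) with h | h
  · exact h
  · exfalso
    have h1 : gens 0 ∈ psi.ker := by rw [h]; exact Subgroup.mem_top _
    rw [MonoidHom.mem_ker] at h1
    have h2 : psi (gens 0) = pmk xs := by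
      have := psi_prodL [0]
      simpa [prodL, gS] using this
    rw [h2, pmk_eq_one_iff] at h1
    exact xs_ne h1

/-- The subgroup `A₅`. -/
def H : Subgroup P := psi.range

theorem mem_H_iff (g : P) : g ∈ H ↔ ∃ ω : Fin 60, g = pmk (W ω) := by
  constructor
  · rintro ⟨a, rfl⟩
    obtain ⟨ω, hω⟩ := surj a
    refine ⟨ω, ?_⟩
    rw [← hω]
    exact psi_prodL (word ω)
  · rintro ⟨ω, rfl⟩
    exact ⟨prodL gens (word ω), psi_prodL (word ω)⟩

theorem card_A5 : Nat.card (alternatingGroup (Fin 5)) = 60 := by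
  rw [nat_card_alternatingGroup, Nat.card_fin]
  decide

theorem H_equiv : Nonempty (H ≃* alternatingGroup (Fin 5)) := by
  obtain ⟨e⟩ := Cfsg.Agent.S3377.result
  exact ⟨(MonoidHom.ofInjective psi_injective).symm.trans e⟩

theorem card_H : Nat.card H = 60 := by
  obtain ⟨e⟩ := H_equiv
  rw [Nat.card_congr e.toEquiv, card_A5]

theorem card_P : Nat.card P = 660 := by
  have h1 := Cfsg.Agent.Helper7.card_center_mul_card_PSL (F := ZMod 11) 2 (by norm_num)
  rw [Cfsg.Agent.Helper7.SL2.card_SL2, ZMod.card] at h1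
  have e1 : Nat.gcd 2 (11 - 1) = 2 := by decide
  rw [e1] at h1
  have h2 : 11 * (11 ^ 2 - 1) = 1320 := by norm_num
  have h3 : 2 * Nat.card P = 1320 := by
    rw [← h2]
    exact h1
  omega

theorem index_H : H.index = 11 := by
  have h := Subgroup.card_mul_index H
  rw [card_H, card_P] at h
  omega

theorem g0_notMem : pmk g0 ∉ H := by
  rw [mem_H_iff]
  rintro ⟨ω, hω⟩
  rw [pmk_eq_iff] at hω
  exact g0_notin ω hω

theorem card_stab : Nat.card {h : H // (pmk g0)⁻¹ * (h : P) * pmk g0 ∈ H} ≤ 6 := by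
  classical
  refine le_trans ?_ stab_count
  have hch : ∀ h : H, ∃ ω : Fin 60, (h : P) = pmk (W ω) := fun h => (mem_H_iff _).mp h.2
  choose f hf using hch
  have hinj : Function.Injective
      (fun u : {h : H // (pmk g0)⁻¹ * (h : P) * pmk g0 ∈ H} => f u.1) := by
    intro u v huv
    apply Subtype.ext
    apply Subtype.ext
    rw [hf u.1, hf v.1]
    exact congrArg (fun ω => pmk (W ω)) huv
  have hmem : ∀ u : {h : H // (pmk g0)⁻¹ * (h : P) * pmk g0 ∈ H},
      f u.1 ∈ Finset.univ.filter stabP := by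
    intro u
    rw [Finset.mem_filter]
    refine ⟨Finset.mem_univ _, ?_⟩
    have h1 : (pmk g0)⁻¹ * pmk (W (f u.1)) * pmk g0 ∈ H := by
      rw [← hf u.1]
      exact u.2
    generalize f u.1 = ω at h1 ⊢
    rw [mem_H_iff] at h1
    obtain ⟨ω', hω'⟩ := h1
    rw [pmk_inv, pmk_mul, pmk_mul, pmk_eq_iff] at hω'
    exact ⟨ω', hω'⟩
  have : Nat.card {h : H // (pmk g0)⁻¹ * (h : P) * pmk g0 ∈ H}
      ≤ Nat.card ↥(Finset.univ.filter stabP) :=
    Nat.card_le_card_of_injective
      (fun u => (⟨f u.1, hmem u⟩ : ↥(Finset.univ.filter stabP)))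
      (fun u v huv => hinj (congrArg Subtype.val huv))
  rw [Nat.card_eq_finsetCard] at this
  exact this

theorem double_coset (g₁ g₂ : P) (h₁ : g₁ ∉ H) (h₂ : g₂ ∉ H) :
    ∃ a ∈ H, ∃ b ∈ H, g₂ = a * g₁ * b := by
  haveI : Finite P := Nat.finite_of_card_ne_zero (by rw [card_P]; norm_num)
  have key := TwoTrans.double_coset_of_card H (pmk g0) g0_notMem 6 card_stab
    (by rw [index_H, card_H])
  obtain ⟨a₁, ha₁, b₁, hb₁, e₁⟩ := key g₁ h₁
  obtain ⟨a₂, ha₂, b₂, hb₂, e₂⟩ := key g₂ h₂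
  refine ⟨a₂ * a₁⁻¹, H.mul_mem ha₂ (H.inv_mem ha₁), b₁⁻¹ * b₂, H.mul_mem (H.inv_mem hb₁) hb₂, ?_⟩
  rw [e₁, e₂]
  group

end Cfsg.Agent.Helper8.PSL211
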