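import Mathlib
import Cfsg.Agent.Helper8.QuadForm

set_option autoImplicit false

/-!
In a nondegenerate quadratic space of dimension at least five over a finite field of odd
characteristic, the orthogonal complement of two vectors, one of them nonsingular, represents every
scalar.
-/

namespace Cfsg.Agent.Helper8.PerpRepr

open Module Cfsg.Agent.Helper8.QuadForm

variable {F : Type*} [Field F] {V : Type*} [AddCommGroup V] [Module F V]

theorem exists_perp_repr [Finite F] [FiniteDimensional F V] (h2 : (2 : F) ≠ 0)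
    (Q : QuadraticForm F V) (hQ : Nondeg Q) {a b : V} (ha : Q a ≠ 0)
    (hdim : 5 ≤ finrank F V ∨ (4 ≤ finrank F V ∧ QuadraticMap.polar Q a b = 0 ∧ Q b ≠ 0))
    (d : F) :
    ∃ z, QuadraticMap.polar Q a z = 0 ∧ QuadraticMap.polar Q b z = 0 ∧ Q z = d := by
  have haa : QuadraticMap.polar Q a a ≠ 0 := by
    rw [polar_self']
    exact mul_ne_zero h2 ha
  obtain ⟨W₁, hW₁⟩ : ∃ W₁, W₁ = perpVec Q a := ⟨_, rfl⟩
  have hnd₁ : Nondeg (Q.comp W₁.subtype) := by
    rw [nondeg_comp_subtype_iff, hW₁]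
    exact perpVec_nondeg Q hQ haa
  have hdim₁ : finrank F W₁ + 1 = finrank F V := by
    rw [hW₁]; exact finrank_perpVec Q haa
  have hmem₁ : ∀ z, z ∈ W₁ ↔ QuadraticMap.polar Q a z = 0 := by
    intro z; rw [hW₁]; exact mem_perpVec Q a z
  obtain ⟨α, hα⟩ : ∃ α, α = QuadraticMap.polar Q a b / QuadraticMap.polar Q a a := ⟨_, rfl⟩
  obtain ⟨p, hp⟩ : ∃ p, p = b - α • a := ⟨_, rfl⟩
  have hpW : p ∈ W₁ := by
    rw [hmem₁, hp, QuadraticMap.polar_sub_right, QuadraticMap.polar_smul_right, smul_eq_mul, hα,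
      div_mul_cancel₀ _ haa, sub_self]
  have hb : b = p + α • a := by rw [hp]; abel
  have hbz : ∀ z, z ∈ W₁ → QuadraticMap.polar Q b z = QuadraticMap.polar Q p z := by
    intro z hz
    rw [hb, QuadraticMap.polar_add_left, QuadraticMap.polar_smul_left, (hmem₁ z).mp hz, smul_zero,
      add_zero]
  by_cases hp0 : p = 0
  · -- `b` is a multiple of `a`
    obtain ⟨z, hz⟩ := exists_repr (Q.comp W₁.subtype) hnd₁ (by rcases hdim with h | h <;> omega) d
    refine ⟨(z : V), (hmem₁ _).mp z.2, ?_, hz⟩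
    rw [hbz _ z.2, hp0, QuadraticMap.polar_zero_left]
  by_cases hQp : Q p = 0
  · -- singular case
    have h5 : 5 ≤ finrank F V := by
      rcases hdim with h | ⟨_, h0, hb0⟩
      · exact h
      · exfalso
        apply hb0
        have : α = 0 := by rw [hα, h0, zero_div]
        rw [hb, this, zero_smul, add_zero]
        exact hQp
    have hp'0 : (⟨p, hpW⟩ : W₁) ≠ 0 := fun h => hp0 (congrArg Subtype.val h)
    obtain ⟨f, hf, hpf⟩ := exists_hyperbolic_pair (Q.comp W₁.subtype) hnd₁ hp'0 hQp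
    obtain ⟨W₂, hW₂⟩ : ∃ W₂, W₂ = perpPair (Q.comp W₁.subtype) ⟨p, hpW⟩ f := ⟨_, rfl⟩
    have hnd₂ : Nondeg ((Q.comp W₁.subtype).comp W₂.subtype) := by
      rw [nondeg_comp_subtype_iff, hW₂]
      exact perpPair_nondeg _ hnd₁ hQp hf hpf
    have hdim₂ : finrank F W₂ + 2 = finrank F W₁ := by
      rw [hW₂]; exact finrank_perpPair _ hQp hf hpf
    obtain ⟨z, hz⟩ := exists_repr _ hnd₂ (by omega) d
    refine ⟨((z : W₁) : V), (hmem₁ _).mp (z : W₁).2, ?_, hz⟩
    rw [hbz _ (z : W₁).2]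
    have hz2 : (z : W₁) ∈ perpPair (Q.comp W₁.subtype) ⟨p, hpW⟩ f := by rw [← hW₂]; exact z.2
    rw [mem_perpPair] at hz2
    exact hz2.1
  · -- nonsingular case
    have hpp : QuadraticMap.polar (Q.comp W₁.subtype) (⟨p, hpW⟩ : W₁) ⟨p, hpW⟩ ≠ 0 := by
      rw [polar_self']
      exact mul_ne_zero h2 hQp
    obtain ⟨W₂, hW₂⟩ : ∃ W₂, W₂ = perpVec (Q.comp W₁.subtype) ⟨p, hpW⟩ := ⟨_, rfl⟩
    have hnd₂ : Nondeg ((Q.comp W₁.subtype).comp W₂.subtype) := by
      rw [nondeg_comp_subtype_iff, hW₂]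
      exact perpVec_nondeg _ hnd₁ hpp
    have hdim₂ : finrank F W₂ + 1 = finrank F W₁ := by
      rw [hW₂]; exact finrank_perpVec _ hpp
    obtain ⟨z, hz⟩ := exists_repr _ hnd₂ (by rcases hdim with h | h <;> omega) d
    refine ⟨((z : W₁) : V), (hmem₁ _).mp (z : W₁).2, ?_, hz⟩
    rw [hbz _ (z : W₁).2]
    have hz2 : (z : W₁) ∈ perpVec (Q.comp W₁.subtype) ⟨p, hpW⟩ := by rw [← hW₂]; exact z.2
    rw [mem_perpVec] at hz2
    exact hz2

end Cfsg.Agent.Helper8.PerpRepr
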