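import Mathlib
import Cfsg.Agent.Helper8.OmegaEven

/-!
# The Dickson invariant of a matrix isometry via the rank of `g - 1` (helper8)
-/

set_option autoImplicit false

namespace Cfsg.Agent.Helper8.DicksonRank

open Module Cfsg.Agent.Helper8.QuadForm Cfsg.Agent.Helper8.OrthOrder
  Cfsg.Agent.Helper8.Reflections Cfsg.Agent.Helper8.ReflMatrix Cfsg.Agent.Helper8.Dickson
  Cfsg.Agent.Helper8.OmegaEven

variable {F : Type*} [Field F] {ι : Type} [Fintype ι] [DecidableEq ι]
  (Q : QuadraticForm F (ι → F))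

theorem res_isomEquiv (g : ↥(Cfsg.isometryGroup F ⇑Q)) :
    res ((isomEquiv Q g).1) = (((g : GL ι F) : Matrix ι ι F) - 1).rank := by
  unfold res Matrix.rank
  have : (((isomEquiv Q g).1 : (ι → F) ≃ₗ[F] (ι → F)) : (ι → F) →ₗ[F] (ι → F)) - LinearMap.id
      = Matrix.mulVecLin (((g : GL ι F) : Matrix ι ι F) - 1) := by
    apply LinearMap.ext
    intro v
    rw [LinearMap.sub_apply, LinearEquiv.coe_coe, isomEquiv_apply, LinearMap.id_apply,
      Matrix.mulVecLin_apply, Matrix.sub_mulVec, Matrix.one_mulVec]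
  rw [this]

theorem dicksonMat_eq (h2 : (2 : F) = 0) (hQ : (QuadraticMap.polarBilin Q).Nondegenerate)
    (g : ↥(Cfsg.isometryGroup F ⇑Q)) :
    dicksonMat Q h2 hQ g = (-1) ^ (((g : GL ι F) : Matrix ι ι F) - 1).rank := by
  rw [← res_isomEquiv]
  rfl

/-- **characteristic two**: `g ∈ Ω` iff `g - 1` has even rank. -/
theorem mem_commutator_iff_even_rank [Fintype F] (h2 : (2 : F) = 0)
    (hQ : (QuadraticMap.polarBilin Q).Nondegenerate)
    (hn : 2 ≤ Fintype.card ι) (hex : Fintype.card F ≠ 2 ∨ Fintype.card ι ≠ 4)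
    (g : ↥(Cfsg.isometryGroup F ⇑Q)) :
    g ∈ commutator ↥(Cfsg.isometryGroup F ⇑Q) ↔
      Even (((g : GL ι F) : Matrix ι ι F) - 1).rank := by
  rw [(commutator_eq Q h2 hQ hn hex).2, dicksonMat_eq]
  have hne : (-1 : ℤˣ) ≠ 1 := by decide
  rw [neg_one_pow_eq_one_iff_even hne]

end Cfsg.Agent.Helper8.DicksonRank
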