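import Mathlib
import Cfsg.Prelude.Def_SporadicB
import Cfsg.Agent.Helper8.OmegaOdd
import Cfsg.Agent.Helper8.Dickson
import Cfsg.Agent.Helper8.DicksonRank
import Cfsg.Agent.Helper8.ReflGen

set_option autoImplicit false

/-!
Over the field with two elements the orthogonal transvections (the isometries `g` with
`rank (g - 1) = 1`) of a nondegenerate quadratic form in dimension different from four form a
generating conjugacy class of 3-transpositions.
-/

namespace Cfsg.Agent.Helper8.ThreeTransp

open Module Cfsg.Agent.Helper8.QuadForm Cfsg.Agent.Helper8.OrthOrder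
  Cfsg.Agent.Helper8.Reflections Cfsg.Agent.Helper8.ReflMatrix Cfsg.Agent.Helper8.Dickson
  Cfsg.Agent.Helper8.DicksonRank Cfsg.Agent.Helper8.OmegaOdd Cfsg.Agent.Helper8.ReflGen

section abstract

variable {F : Type*} [Field F] {V : Type*} [AddCommGroup V] [Module F V]

theorem two_eq_zero (h01 : ∀ a : F, a = 0 ∨ a = 1) : (2 : F) = 0 := by
  rcases h01 2 with h | h
  · exact h
  · exfalso
    have : (1 : F) + 1 = 1 := by rw [one_add_one_eq_two]; exact h
    have h1 : (1 : F) = 0 := by linear_combination this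
    exact one_ne_zero h1

/-- the action of a reflection in a vector of norm one in characteristic two. -/
theorem refl_apply_one (h2 : (2 : F) = 0) (Q : QuadraticForm F V) {z : V} (hz : Q z = 1) (x : V) :
    refl Q z x = x + QuadraticMap.polar Q z x • z := by
  rw [refl_apply, hz, div_one, sub_eq_add_neg, ← neg_smul]
  congr 2
  have : QuadraticMap.polar Q z x + QuadraticMap.polar Q z x = 0 := by
    rw [← two_mul, h2, zero_mul]
  exact neg_eq_of_add_eq_zero_left this

/-- an isometry of residual rank one over the field with two elements is a reflection. -/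
theorem eq_refl_of_res_one [FiniteDimensional F V] (h01 : ∀ a : F, a = 0 ∨ a = 1)
    (Q : QuadraticForm F V) (hQ : Nondeg Q) (g : V ≃ₗ[F] V) (hg : ∀ x, Q (g x) = Q x)
    (hres : res g = 1) : ∃ w, Q w = 1 ∧ g = refl Q w := by
  have h2 := two_eq_zero h01
  have hneg : ∀ a : F, -a = a := fun a => by
    have : a + a = 0 := by rw [← two_mul, h2, zero_mul]
    exact neg_eq_of_add_eq_zero_left this
  unfold res at hres
  obtain ⟨⟨w, hwR⟩, hw0, hspan⟩ := finrank_eq_one_iff'.mp hres
  have hw0' : w ≠ 0 := fun h => hw0 (Subtype.ext h)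
  -- every `g v - v` is `0` or `w`
  have hcase : ∀ v, g v = v ∨ g v = v + w := by
    intro v
    obtain ⟨c, hc⟩ := hspan ⟨(((g : V →ₗ[F] V) - LinearMap.id : V →ₗ[F] V) v),
      LinearMap.mem_range_self _ v⟩
    have hc' : c • w = g v - v := by
      have := congrArg Subtype.val hc
      simpa using this
    rcases h01 c with rfl | rfl
    · left
      rw [zero_smul] at hc'
      exact (sub_eq_zero.mp hc'.symm)
    · right
      rw [one_smul] at hc'
      rw [hc']; abel
  -- a moved vector
  obtain ⟨v₀, hv₀⟩ : ∃ v₀, g v₀ = v₀ + w := by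
    obtain ⟨v₀, hv₀⟩ := hwR
    refine ⟨v₀, ?_⟩
    have : g v₀ - v₀ = w := by simpa using hv₀
    rw [← this]; abel
  have hmoved : ∀ v, g v = v + w → QuadraticMap.polar Q v w = Q w := by
    intro v hv
    have h1 := hg v
    rw [hv, QuadraticMap.map_add Q] at h1
    have : QuadraticMap.polar Q v w = -Q w := by linear_combination h1
    rw [this, hneg]
  have hfixed : ∀ v, g v = v → QuadraticMap.polar Q v w = 0 := by
    intro v hv
    have h1 : g (v + v₀) = (v + v₀) + w := by rw [map_add, hv, hv₀]; abel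
    have h2' := hmoved _ h1
    rw [QuadraticMap.polar_add_left, hmoved v₀ hv₀] at h2'
    linear_combination h2'
  have hQw : Q w = 1 := by
    rcases h01 (Q w) with h | h
    · exfalso
      apply hw0'
      apply hQ w
      intro v
      rw [QuadraticMap.polar_comm]
      rcases hcase v with hv | hv
      · exact hfixed v hv
      · rw [hmoved v hv, h]
    · exact h
  refine ⟨w, hQw, ?_⟩
  apply LinearEquiv.ext
  intro v
  rw [refl_apply_one h2 Q hQw, QuadraticMap.polar_comm]
  rcases hcase v with hv | hv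
  · rw [hfixed v hv, zero_smul, add_zero, hv]
  · rw [hmoved v hv, hQw, one_smul, hv]

/-- commuting reflections. -/
theorem refl_comm_of_perp (Q : QuadraticForm F V) {u v : V}
    (huv : QuadraticMap.polar Q u v = 0) :
    refl Q u * refl Q v * (refl Q u * refl Q v) = 1 := by
  have h1 : refl Q u * refl Q v * (refl Q u)⁻¹ = refl Q v := by
    rw [refl_conj Q (refl Q u) (Q_refl Q u) v, refl_of_perp Q huv]
  rw [refl_inv] at h1
  calc refl Q u * refl Q v * (refl Q u * refl Q v)
      = (refl Q u * refl Q v * refl Q u) * refl Q v := by group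
    _ = refl Q v * refl Q v := by rw [h1]
    _ = 1 := refl_mul_self Q v

/-- braid relation. -/
theorem refl_braid (h2 : (2 : F) = 0) (Q : QuadraticForm F V) {u v : V} (hu : Q u = 1)
    (hv : Q v = 1) (huv : QuadraticMap.polar Q u v = 1) :
    (refl Q u * refl Q v) ^ 3 = 1 := by
  have h1 : refl Q u * refl Q v * (refl Q u)⁻¹ = refl Q (v + u) := by
    rw [refl_conj Q (refl Q u) (Q_refl Q u) v, refl_apply_one h2 Q hu, huv, one_smul]
  have h3 : refl Q v * refl Q u * (refl Q v)⁻¹ = refl Q (v + u) := by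
    rw [refl_conj Q (refl Q v) (Q_refl Q v) u, refl_apply_one h2 Q hv, QuadraticMap.polar_comm,
      huv, one_smul, add_comm]
  rw [refl_inv] at h1 h3
  calc (refl Q u * refl Q v) ^ 3
      = (refl Q u * refl Q v * refl Q u) * (refl Q v * refl Q u * refl Q v) := by
        simp only [pow_succ, pow_zero, one_mul, mul_assoc]
    _ = refl Q (v + u) * refl Q (v + u) := by rw [h1, h3]
    _ = 1 := refl_mul_self Q (v + u)

end abstract

section matrix

variable {F : Type*} [Field F] [Fintype F] {ι : Type} [Fintype ι] [DecidableEq ι]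
  (Q : QuadraticForm F (ι → F))

/-- the set of orthogonal transvections. -/
def transv : Set ↥(Cfsg.isometryGroup F ⇑Q) :=
  {g | (((g : GL ι F) : Matrix ι ι F) - 1).rank = 1}

theorem mem_transv_iff (h01 : ∀ a : F, a = 0 ∨ a = 1)
    (hQ : (QuadraticMap.polarBilin Q).Nondegenerate) (g : ↥(Cfsg.isometryGroup F ⇑Q)) :
    g ∈ transv Q ↔ ∃ z, Q z = 1 ∧ g = reflElt Q z := by
  have hnd := (nondeg_iff Q).mp hQ
  constructor
  · intro hg
    have hres : res ((isomEquiv Q g).1) = 1 := by rw [res_isomEquiv]; exact hg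
    obtain ⟨w, hw, hgw⟩ := eq_refl_of_res_one h01 Q hnd (isomEquiv Q g).1 (isomEquiv Q g).2 hres
    refine ⟨w, hw, ?_⟩
    apply (isomEquiv Q).injective
    rw [isomEquiv_reflElt]
    exact Subtype.ext hgw
  · rintro ⟨z, hz, rfl⟩
    show ((((reflElt Q z : ↥(Cfsg.isometryGroup F ⇑Q)) : GL ι F) : Matrix ι ι F) - 1).rank = 1
    rw [← res_isomEquiv, isomEquiv_reflElt]
    exact res_refl Q hQ (by rw [hz]; exact one_ne_zero)

theorem isThreeTranspositionClass (h01 : ∀ a : F, a = 0 ∨ a = 1)
    (hQ : (QuadraticMap.polarBilin Q).Nondegenerate) (hn : 2 ≤ Fintype.card ι)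
    (h4 : Fintype.card ι ≠ 4) : Cfsg.IsThreeTranspositionClass (transv Q) := by
  have h2 := two_eq_zero h01
  have hnd := (nondeg_iff Q).mp hQ
  have hmem := mem_transv_iff Q h01 hQ
  have hnorm : ∀ z, Q z ≠ 0 → Q z = 1 := fun z hz => (h01 (Q z)).resolve_left hz
  refine ⟨⟨?_, ?_⟩, ?_, ?_⟩
  · -- order two
    intro d hd
    obtain ⟨z, hz, rfl⟩ := (hmem d).mp hd
    refine orderOf_eq_prime (by rw [pow_two]; exact reflElt_mul_self Q z) ?_
    intro h1
    have hrank : ((((reflElt Q z : ↥(Cfsg.isometryGroup F ⇑Q)) : GL ι F) : Matrix ι ι F) - 1).rank = 1 := hd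
    rw [h1] at hrank
    simp at hrank
  · -- products
    intro d hd e he
    obtain ⟨u, hu, rfl⟩ := (hmem d).mp hd
    obtain ⟨v, hv, rfl⟩ := (hmem e).mp he
    rcases h01 (QuadraticMap.polar Q u v) with huv | huv
    · left
      apply (isomEquiv Q).injective
      rw [map_pow, map_mul, isomEquiv_reflElt, isomEquiv_reflElt, map_one, pow_two]
      exact Subtype.ext (refl_comm_of_perp Q huv)
    · right
      apply (isomEquiv Q).injective
      rw [map_pow, map_mul, isomEquiv_reflElt, isomEquiv_reflElt, map_one]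
      apply Subtype.ext
      have := refl_braid h2 Q hu hv huv
      simpa using this
  · -- a single class
    have hdim : 2 ≤ finrank F (ι → F) := by rw [Module.finrank_fintype_fun_eq_card]; exact hn
    obtain ⟨z₀, hz₀⟩ := exists_repr Q hnd hdim 1
    refine ⟨reflElt Q z₀, (hmem _).mpr ⟨z₀, hz₀, rfl⟩, ?_⟩
    ext g
    show g ∈ transv Q ↔ IsConj (reflElt Q z₀) g
    rw [isConj_iff]
    constructor
    · intro hg
      obtain ⟨z, hz, rfl⟩ := (hmem g).mp hg
      obtain ⟨c, hc⟩ := reflElt_conj Q hQ (z := z) (a := z₀) (t := 1) one_ne_zero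
        (by rw [hz]; exact one_ne_zero) (by rw [hz, hz₀]; ring)
      exact ⟨c, hc⟩
    · rintro ⟨c, rfl⟩
      rw [hmem]
      refine ⟨(isomEquiv Q c).1 z₀, ?_, ?_⟩
      · rw [(isomEquiv Q c).2 z₀, hz₀]
      · apply (isomEquiv Q).injective
        rw [map_mul, map_mul, map_inv, isomEquiv_reflElt, isomEquiv_reflElt]
        apply Subtype.ext
        exact refl_conj Q (isomEquiv Q c).1 (isomEquiv Q c).2 z₀
  · -- generation
    have hgen := closure_reflElt_all Q hQ (Or.inr h4)
    rw [eq_top_iff, ← hgen]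
    apply Subgroup.closure_mono
    rintro g ⟨z, hz, rfl⟩
    exact (hmem _).mpr ⟨z, hnorm z hz, rfl⟩

end matrix

end Cfsg.Agent.Helper8.ThreeTransp
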