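import Mathlib
import Cfsg.Prelude.Def_SporadicB
import Cfsg.Prelude.Def_FischerSpaces
import Cfsg.Agent.Helper8.OmegaOdd
import Cfsg.Agent.Helper8.OmegaEven
import Cfsg.Agent.Helper8.ThreeTransp
import Cfsg.Agent.Helper8.PerpRepr

set_option autoImplicit false

/-!
Reflections of a fixed norm over the field with three elements: they form a class of
3-transpositions in the subgroup they generate (dimension at least four), which has index two in
the isometry group (dimension at least five).
-/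

namespace Cfsg.Agent.Helper8.ReflF3

open Module Cfsg.Agent.Helper8.QuadForm Cfsg.Agent.Helper8.OrthOrder
  Cfsg.Agent.Helper8.Reflections Cfsg.Agent.Helper8.ReflMatrix Cfsg.Agent.Helper8.OmegaOdd
  Cfsg.Agent.Helper8.ThreeTransp Cfsg.Agent.Helper8.PerpRepr

theorem sq_eq_one {t : ZMod 3} (ht : t ≠ 0) : t * t = 1 := by
  revert t; decide

theorem two_ne : (2 : ZMod 3) ≠ 0 := by decide

theorem three_eq : (3 : ZMod 3) = 0 := by decide

section abstract

variable {V : Type*} [AddCommGroup V] [Module (ZMod 3) V]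

/-- the two conjugates of the reflections in `u`, `v` coincide. -/
theorem refl_refl_eq (Q : QuadraticForm (ZMod 3) V) {u v : V} {c : ZMod 3} (hc : c ≠ 0)
    (hu : Q u = c) (hv : Q v = c) (huv : QuadraticMap.polar Q u v ≠ 0) :
    refl Q (refl Q u v) = refl Q (refl Q v u) := by
  obtain ⟨t, ht⟩ : ∃ t, t = QuadraticMap.polar Q u v / c := ⟨_, rfl⟩
  have ht0 : t ≠ 0 := by rw [ht]; exact div_ne_zero huv hc
  have htt := sq_eq_one ht0
  have h1 : refl Q u v = v - t • u := by rw [refl_apply, hu, ht]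
  have h2 : refl Q v u = u - t • v := by
    rw [refl_apply, hv, QuadraticMap.polar_comm, ht]
  have h3 : u - t • v = (-t) • (v - t • u) := by
    rw [smul_sub, smul_smul, neg_mul, htt]
    module
  rw [h1, h2, h3, refl_smul Q (neg_ne_zero.mpr ht0)]

theorem refl_braid3 (Q : QuadraticForm (ZMod 3) V) {u v : V} {c : ZMod 3} (hc : c ≠ 0)
    (hu : Q u = c) (hv : Q v = c) (huv : QuadraticMap.polar Q u v ≠ 0) :
    refl Q u * refl Q v * refl Q u = refl Q v * refl Q u * refl Q v := by
  have h1 : refl Q u * refl Q v * (refl Q u)⁻¹ = refl Q (refl Q u v) :=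
    refl_conj Q (refl Q u) (Q_refl Q u) v
  have h2 : refl Q v * refl Q u * (refl Q v)⁻¹ = refl Q (refl Q v u) :=
    refl_conj Q (refl Q v) (Q_refl Q v) u
  rw [refl_inv] at h1 h2
  rw [h1, h2, refl_refl_eq Q hc hu hv huv]

/-- the product of the reflections in two orthogonal vectors of norm `d` is the product of the
reflections in their sum and difference, which have norm `-d`. -/
theorem refl_mul_refl_of_perp (Q : QuadraticForm (ZMod 3) V) {w w' : V} {d : ZMod 3} (hd : d ≠ 0)
    (hw : Q w = d) (hw' : Q w' = d) (hww' : QuadraticMap.polar Q w w' = 0) :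
    Q (w + w') = -d ∧ Q (w - w') = -d ∧
      refl Q w * refl Q w' = refl Q (w + w') * refl Q (w - w') := by
  have h3 := three_eq
  have hp : Q (w + w') = -d := by
    rw [QuadraticMap.map_add Q, hw, hw', hww']
    linear_combination d * h3
  have hm : Q (w - w') = -d := by
    rw [sub_eq_add_neg, QuadraticMap.map_add Q, QuadraticMap.map_neg, QuadraticMap.polar_neg_right,
      hw, hw', hww']
    linear_combination d * h3
  refine ⟨hp, hm, ?_⟩
  have hw'w : QuadraticMap.polar Q w' w = 0 := by rw [QuadraticMap.polar_comm]; exact hww'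
  have hself : QuadraticMap.polar Q w w = 2 * d := by rw [polar_self', hw]
  have hself' : QuadraticMap.polar Q w' w' = 2 * d := by rw [polar_self', hw']
  apply LinearEquiv.ext
  intro x
  show refl Q w (refl Q w' x) = refl Q (w + w') (refl Q (w - w') x)
  obtain ⟨a, ha⟩ : ∃ a, a = QuadraticMap.polar Q w x := ⟨_, rfl⟩
  obtain ⟨b, hb⟩ : ∃ b, b = QuadraticMap.polar Q w' x := ⟨_, rfl⟩
  have e1 : refl Q w (refl Q w' x) = x - (a / d) • w - (b / d) • w' := by
    rw [refl_apply Q w' x, hw', ← hb, refl_apply, hw, QuadraticMap.polar_sub_right,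
      QuadraticMap.polar_smul_right, hww', smul_zero, sub_zero, ← ha]
    abel
  have hpm : QuadraticMap.polar Q (w + w') (w - w') = 0 := by
    rw [QuadraticMap.polar_add_left, QuadraticMap.polar_sub_right, QuadraticMap.polar_sub_right,
      hself, hself', hww', hw'w]
    ring
  have hpx : QuadraticMap.polar Q (w + w') x = a + b := by
    rw [QuadraticMap.polar_add_left, ← ha, ← hb]
  have hmx : QuadraticMap.polar Q (w - w') x = a - b := by
    rw [QuadraticMap.polar_sub_left, ← ha, ← hb]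
  have e2 : refl Q (w + w') (refl Q (w - w') x)
      = x - ((a - b) / (-d)) • (w - w') - ((a + b) / (-d)) • (w + w') := by
    rw [refl_apply Q (w - w') x, hm, hmx, refl_apply, hp, QuadraticMap.polar_sub_right,
      QuadraticMap.polar_smul_right, hpm, hpx, smul_zero, sub_zero]
  rw [e1, e2]
  have c1 : (a - b) / (-d) + (a + b) / (-d) = a / d := by
    field_simp
    linear_combination (-a) * h3
  have c2 : (a + b) / (-d) - (a - b) / (-d) = b / d := by
    field_simp
    linear_combination (-b) * h3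
  rw [← c1, ← c2]
  module

end abstract

section matrix

variable {ι : Type} [Fintype ι] [DecidableEq ι] (Q : QuadraticForm (ZMod 3) (ι → ZMod 3))

theorem mem_reflectionsOfNorm (c : ZMod 3) (g : ↥(Cfsg.isometryGroup (ZMod 3) ⇑Q)) :
    g ∈ Cfsg.reflectionsOfNorm ⇑Q c ↔ ∃ v, Q v = c ∧ g = reflElt Q v := by
  constructor
  · rintro ⟨v, hv, hg⟩
    exact ⟨v, hv, eq_reflElt Q hg⟩
  · rintro ⟨v, hv, rfl⟩
    exact ⟨v, hv, reflElt_val Q v⟩

theorem reflElt_mem (c : ZMod 3) {v : ι → ZMod 3} (hv : Q v = c) :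
    reflElt Q v ∈ Cfsg.reflectionSubgroup ⇑Q c :=
  Subgroup.subset_closure ((mem_reflectionsOfNorm Q c _).mpr ⟨v, hv, rfl⟩)

/-- transport of identities between linear reflections to the matrix group. -/
theorem eq_of_isomEquiv {g h : ↥(Cfsg.isometryGroup (ZMod 3) ⇑Q)}
    (e : (isomEquiv Q g).1 = (isomEquiv Q h).1) : g = h :=
  (isomEquiv Q).injective (Subtype.ext e)

theorem isomEquiv_reflElt_val (z : ι → ZMod 3) : (isomEquiv Q (reflElt Q z)).1 = refl Q z := by
  rw [isomEquiv_reflElt]

theorem reflElt_braid {u v : ι → ZMod 3} {c : ZMod 3} (hc : c ≠ 0) (hu : Q u = c) (hv : Q v = c)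
    (huv : QuadraticMap.polar Q u v ≠ 0) :
    reflElt Q u * reflElt Q v * reflElt Q u = reflElt Q v * reflElt Q u * reflElt Q v := by
  apply eq_of_isomEquiv
  rw [map_mul, map_mul, map_mul, map_mul]
  show (isomEquiv Q (reflElt Q u)).1 * (isomEquiv Q (reflElt Q v)).1 * (isomEquiv Q (reflElt Q u)).1
    = (isomEquiv Q (reflElt Q v)).1 * (isomEquiv Q (reflElt Q u)).1 * (isomEquiv Q (reflElt Q v)).1
  rw [isomEquiv_reflElt_val, isomEquiv_reflElt_val]
  exact refl_braid3 Q hc hu hv huv

theorem reflElt_comm {u v : ι → ZMod 3} (huv : QuadraticMap.polar Q u v = 0) :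
    reflElt Q u * reflElt Q v * (reflElt Q u * reflElt Q v) = 1 := by
  apply eq_of_isomEquiv
  rw [map_mul, map_mul, map_one]
  show (isomEquiv Q (reflElt Q u)).1 * (isomEquiv Q (reflElt Q v)).1
    * ((isomEquiv Q (reflElt Q u)).1 * (isomEquiv Q (reflElt Q v)).1) = 1
  rw [isomEquiv_reflElt_val, isomEquiv_reflElt_val]
  exact refl_comm_of_perp Q huv

theorem reflElt_ne_one {v : ι → ZMod 3} (hv : Q v ≠ 0) : reflElt Q v ≠ 1 := by
  intro h
  have h1 : (isomEquiv Q (reflElt Q v)).1 v = v := by rw [h, map_one]; rfl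
  rw [isomEquiv_reflElt_val, refl_self Q hv] at h1
  have hv0 : v ≠ 0 := by
    rintro rfl
    exact hv (map_zero _)
  apply hv0
  have h2 : (2 : ZMod 3) • v = 0 := by
    rw [two_smul]
    nth_rewrite 1 [← h1]
    exact neg_add_cancel v
  rcases smul_eq_zero.mp h2 with h | h
  · exact absurd h two_ne
  · exact h

/-- conjugacy of two non-orthogonal reflections of norm `c` inside the reflection subgroup. -/
theorem conj_step {c : ZMod 3} (hc : c ≠ 0) {u v : ι → ZMod 3} (hu : Q u = c) (hv : Q v = c)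
    (huv : QuadraticMap.polar Q u v ≠ 0) :
    IsConj (⟨reflElt Q u, reflElt_mem Q c hu⟩ : ↥(Cfsg.reflectionSubgroup ⇑Q c))
      ⟨reflElt Q v, reflElt_mem Q c hv⟩ := by
  rw [isConj_iff]
  refine ⟨⟨reflElt Q u, reflElt_mem Q c hu⟩ * ⟨reflElt Q v, reflElt_mem Q c hv⟩, ?_⟩
  apply Subtype.ext
  show reflElt Q u * reflElt Q v * reflElt Q u * (reflElt Q u * reflElt Q v)⁻¹ = reflElt Q v
  rw [mul_inv_rev, reflElt_inv, reflElt_inv, reflElt_braid Q hc hu hv huv]
  have hvv := reflElt_mul_self Q v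
  have huu := reflElt_mul_self Q u
  calc reflElt Q v * reflElt Q u * reflElt Q v * (reflElt Q v * reflElt Q u)
      = reflElt Q v * reflElt Q u * (reflElt Q v * reflElt Q v) * reflElt Q u := by group
    _ = reflElt Q v := by rw [hvv, mul_one, mul_assoc, huu, mul_one]

theorem conj_all (hQ : (QuadraticMap.polarBilin Q).Nondegenerate) (hn : 4 ≤ Fintype.card ι)
    {c : ZMod 3} (hc : c ≠ 0) {u v : ι → ZMod 3} (hu : Q u = c) (hv : Q v = c) :
    IsConj (⟨reflElt Q u, reflElt_mem Q c hu⟩ : ↥(Cfsg.reflectionSubgroup ⇑Q c))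
      ⟨reflElt Q v, reflElt_mem Q c hv⟩ := by
  by_cases huv : QuadraticMap.polar Q u v = 0
  · have hnd := (nondeg_iff Q).mp hQ
    have hdim : 4 ≤ finrank (ZMod 3) (ι → ZMod 3) := by
      rw [Module.finrank_fintype_fun_eq_card]; exact hn
    obtain ⟨z, hzu, hzv, hz⟩ := exists_perp_repr two_ne Q hnd (a := u) (b := v)
      (by rw [hu]; exact hc) (Or.inr ⟨hdim, huv, by rw [hv]; exact hc⟩) (-c)
    have h3 := three_eq
    have hvu : QuadraticMap.polar Q v u = 0 := by rw [QuadraticMap.polar_comm]; exact huv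
    have hw : Q (u + v + z) = c := by
      rw [QuadraticMap.map_add Q, QuadraticMap.map_add Q, hu, hv, hz, huv,
        QuadraticMap.polar_add_left, QuadraticMap.polar_comm Q u z, QuadraticMap.polar_comm Q v z]
      rw [QuadraticMap.polar_comm Q z u, QuadraticMap.polar_comm Q z v, hzu, hzv]
      ring
    have h1 : QuadraticMap.polar Q u (u + v + z) ≠ 0 := by
      rw [QuadraticMap.polar_add_right, QuadraticMap.polar_add_right, huv, hzu, polar_self', hu,
        add_zero, add_zero]
      exact mul_ne_zero two_ne hc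
    have h2 : QuadraticMap.polar Q (u + v + z) v ≠ 0 := by
      rw [QuadraticMap.polar_comm, QuadraticMap.polar_add_right, QuadraticMap.polar_add_right,
        hvu, hzv, polar_self', hv, zero_add, add_zero]
      exact mul_ne_zero two_ne hc
    exact (conj_step Q hc hu hw h1).trans (conj_step Q hc hw hv h2)
  · exact conj_step Q hc hu hv huv

/-- **S5357**. -/
theorem isThreeTranspositionClass (hQ : (QuadraticMap.polarBilin Q).Nondegenerate)
    (hn : 4 ≤ Fintype.card ι) {c : ZMod 3} (hc : c ≠ 0) :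
    Cfsg.IsThreeTranspositionClass
      {g : ↥(Cfsg.reflectionSubgroup ⇑Q c) |
        (g : ↥(Cfsg.isometryGroup (ZMod 3) ⇑Q)) ∈ Cfsg.reflectionsOfNorm ⇑Q c} := by
  have hnd := (nondeg_iff Q).mp hQ
  have hdim : 2 ≤ finrank (ZMod 3) (ι → ZMod 3) := by
    rw [Module.finrank_fintype_fun_eq_card]; omega
  refine ⟨⟨?_, ?_⟩, ?_, ?_⟩
  · rintro ⟨d, hdR⟩ hd
    obtain ⟨v, hv, rfl⟩ := (mem_reflectionsOfNorm Q c d).mp hd
    refine orderOf_eq_prime ?_ ?_
    · apply Subtype.ext
      rw [pow_two]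
      exact reflElt_mul_self Q v
    · intro h1
      exact reflElt_ne_one Q (by rw [hv]; exact hc) (congrArg Subtype.val h1)
  · rintro ⟨d, hdR⟩ hd ⟨e, heR⟩ he
    obtain ⟨u, hu, rfl⟩ := (mem_reflectionsOfNorm Q c d).mp hd
    obtain ⟨v, hv, rfl⟩ := (mem_reflectionsOfNorm Q c e).mp he
    by_cases huv : QuadraticMap.polar Q u v = 0
    · left
      apply Subtype.ext
      rw [pow_two]
      exact reflElt_comm Q huv
    · right
      apply Subtype.ext
      show (reflElt Q u * reflElt Q v) ^ 3 = 1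
      have hb := reflElt_braid Q hc hu hv huv
      calc (reflElt Q u * reflElt Q v) ^ 3
          = (reflElt Q u * reflElt Q v * reflElt Q u) * (reflElt Q v * reflElt Q u * reflElt Q v) := by
            simp only [pow_succ, pow_zero, one_mul, mul_assoc]
        _ = (reflElt Q v * reflElt Q u * reflElt Q v) * (reflElt Q v * reflElt Q u * reflElt Q v) := by
            rw [hb]
        _ = reflElt Q v * reflElt Q u * (reflElt Q v * reflElt Q v) * reflElt Q u * reflElt Q v := by
            group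
        _ = 1 := by
            rw [reflElt_mul_self, mul_one, mul_assoc (reflElt Q v), reflElt_mul_self, mul_one,
              reflElt_mul_self]
  · obtain ⟨v₀, hv₀⟩ := exists_repr Q hnd hdim c
    refine ⟨⟨reflElt Q v₀, reflElt_mem Q c hv₀⟩, (mem_reflectionsOfNorm Q c _).mpr ⟨v₀, hv₀, rfl⟩, ?_⟩
    ext ⟨g, hgR⟩
    show g ∈ Cfsg.reflectionsOfNorm ⇑Q c ↔
      IsConj (⟨reflElt Q v₀, reflElt_mem Q c hv₀⟩ : ↥(Cfsg.reflectionSubgroup ⇑Q c)) ⟨g, hgR⟩
    constructor
    · intro hg
      obtain ⟨v, hv, rfl⟩ := (mem_reflectionsOfNorm Q c g).mp hg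
      exact conj_all Q hQ hn hc hv₀ hv
    · intro hconj
      rw [isConj_iff] at hconj
      obtain ⟨⟨ρ, hρ⟩, hρg⟩ := hconj
      have hρg' : ρ * reflElt Q v₀ * ρ⁻¹ = g := congrArg Subtype.val hρg
      rw [mem_reflectionsOfNorm]
      refine ⟨(isomEquiv Q ρ).1 v₀, ?_, ?_⟩
      · rw [(isomEquiv Q ρ).2 v₀, hv₀]
      · rw [← hρg']
        apply eq_of_isomEquiv
        rw [map_mul, map_mul, map_inv, isomEquiv_reflElt_val]
        show (isomEquiv Q ρ).1 * (isomEquiv Q (reflElt Q v₀)).1 * ((isomEquiv Q ρ).1)⁻¹ = _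
        rw [isomEquiv_reflElt_val]
        exact refl_conj Q (isomEquiv Q ρ).1 (isomEquiv Q ρ).2 v₀
  · exact Subgroup.closure_closure_coe_preimage

end matrix

end Cfsg.Agent.Helper8.ReflF3
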