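import Cfsg.Agent.Helper8.TensB

set_option autoImplicit false
set_option linter.unusedSectionVars false
set_option linter.unusedVariables false

/-! Tensor decompositions (helper8), part C: the max-intersection argument.  If `X` contains the
root elements of the second factor and every `X`-conjugate of a root element stabilising a fibre
is a root element, then `X` permutes the fibres (`dim U < dim W`, `dim W ≥ 3`). -/

namespace Cfsg.Agent.Helper8.Tens

open Module Cfsg.Agent.Helper7.ExtF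

variable {F : Type*} [Field F] {U W V : Type*} [AddCommGroup U] [Module F U]
  [AddCommGroup W] [Module F W] [AddCommGroup V] [Module F V]
  {t : U →ₗ[F] W →ₗ[F] V}

/-- the orbit of the fibres under `X`. -/
def Orb (t : U →ₗ[F] W →ₗ[F] V) (X : Subgroup (V ≃ₗ[F] V)) : Set (Submodule F V) :=
  {R | ∃ g ∈ X, ∃ w : W, w ≠ 0 ∧ R = img g (fib t w)}

/-- not a fibre. -/
def NonFib (t : U →ₗ[F] W →ₗ[F] V) (R : Submodule F V) : Prop := ∀ w' : W, w' ≠ 0 → R ≠ fib t w'

theorem img_mem_Orb {X : Subgroup (V ≃ₗ[F] V)} {z : V ≃ₗ[F] V} (hz : z ∈ X) {R : Submodule F V}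
    (hR : R ∈ Orb t X) : img z R ∈ Orb t X := by
  obtain ⟨g, hg, w, hw, rfl⟩ := hR
  exact ⟨z * g, X.mul_mem hz hg, w, hw, by rw [img_mul]⟩

theorem fib_mem_Orb (X : Subgroup (V ≃ₗ[F] V)) {w : W} (hw : w ≠ 0) : fib t w ∈ Orb t X :=
  ⟨1, X.one_mem, w, hw, by rw [img_one]⟩

/-- the intersection numbers of a fibre with a non-fibre of the orbit. -/
def PD (t : U →ₗ[F] W →ₗ[F] V) (X : Subgroup (V ≃ₗ[F] V)) (n : ℕ) : Prop :=
  ∃ w : W, w ≠ 0 ∧ ∃ R ∈ Orb t X, NonFib t R ∧ finrank F ↥(fib t w ⊓ R) = n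

section

variable [FiniteDimensional F U] [FiniteDimensional F W] [FiniteDimensional F V]

theorem finrank_Orb (ht : IsTensorProduct t) {X : Subgroup (V ≃ₗ[F] V)} {R : Submodule F V}
    (hR : R ∈ Orb t X) : finrank F ↥R = finrank F U := by
  obtain ⟨g, hg, w, hw, rfl⟩ := hR
  rw [finrank_img, finrank_fib ht hw]

/-- maximality of `d` for all pairs of the orbit. -/
theorem max_le (ht : IsTensorProduct t) {X : Subgroup (V ≃ₗ[F] V)} {d : ℕ}
    (hmax : ∀ n, PD t X n → n ≤ d) {R R' : Submodule F V} (hR : R ∈ Orb t X)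
    (hR' : R' ∈ Orb t X) (hne : R' ≠ R) : finrank F ↥(R ⊓ R') ≤ d := by
  obtain ⟨g, hg, w₀, hw₀, rfl⟩ := hR
  set R'' := img g⁻¹ R' with hR''
  have hR''O : R'' ∈ Orb t X := img_mem_Orb (X.inv_mem hg) hR'
  have e : finrank F ↥(img g (fib t w₀) ⊓ R') = finrank F ↥(fib t w₀ ⊓ R'') := by
    rw [← finrank_img g⁻¹, img_inf, img_inv_img]
  rw [e]
  by_cases hnf : NonFib t R''
  · exact hmax _ ⟨w₀, hw₀, R'', hR''O, hnf, rfl⟩
  · unfold NonFib at hnf
    push Not at hnf
    obtain ⟨w'', hw'', hw''R⟩ := hnf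
    have hne' : fib t w₀ ≠ fib t w'' := by
      intro heq
      apply hne
      have : img g R'' = img g (fib t w₀) := by rw [hw''R, heq]
      rw [hR'', ← img_mul, mul_inv_cancel, img_one] at this
      exact this
    rw [hw''R, fib_inf_fib ht hw₀ hw'' hne', finrank_bot]
    exact Nat.zero_le _

/-- Step 1 of the max-intersection argument. -/
theorem step1 (ht : IsTensorProduct t) (hU : 1 ≤ finrank F U) (h3 : 3 ≤ finrank F W)
    (X : Subgroup (V ≃ₗ[F] V)) (hXB : ∀ w l h, xB ht w l h ∈ X) (hyp : RootHyp ht X) {d : ℕ}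
    (hmax : ∀ n, PD t X n → n ≤ d) {w : W} (hw : w ≠ 0) {R : Submodule F V} (hR : R ∈ Orb t X)
    (hRn : NonFib t R) (hd : finrank F ↥(fib t w ⊓ R) = d) {l : Module.Dual F W} (hl : l ≠ 0)
    (hlw : l w = 0) {r : V} (hr : r ∈ R) (hNr : NB ht w l r ∈ R) : r ∈ fib t w := by
  set x := xB ht w l hlw with hx
  have hxX : x ∈ X := hXB w l hlw
  have hR'O : img x R ∈ Orb t X := img_mem_Orb hxX hR
  have hne : img x R ≠ R := by
    intro hst
    obtain ⟨g, hg, w₀, hw₀, rfl⟩ := hR
    exact no_stab ht hU h3 X hXB hyp hg hw₀ hRn hlw hw hl hst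
  have hle := max_le ht hmax hR hR'O hne
  -- `x` fixes the fibre of `w` pointwise
  have hfix : ∀ v ∈ fib t w, x v = v := by
    intro v hv
    rw [hx, xB_apply, ev_eq_zero_of_mem_fib ht hlw hv, map_zero, LinearMap.zero_apply, add_zero]
  have hDle : fib t w ⊓ R ≤ R ⊓ img x R := by
    rintro v ⟨hv1, hv2⟩
    refine ⟨hv2, ?_⟩
    rw [← hfix v hv1]; exact apply_mem_img hv2
  have hDeq : fib t w ⊓ R = R ⊓ img x R := eq_of_le_of_finrank hDle (by rw [hd]; exact hle)
  have hxr : x r ∈ fib t w ⊓ R := by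
    rw [hDeq]
    refine ⟨?_, apply_mem_img hr⟩
    rw [hx, xB_apply]; exact R.add_mem hr hNr
  have : x (x r) = x r := hfix _ hxr.1
  have hxr' : x r = r := x.injective this
  rw [← hxr']; exact hxr.1

/-- Step 2: the dimension count. -/
theorem step2 (ht : IsTensorProduct t) (hU : 1 ≤ finrank F U) (h3 : 3 ≤ finrank F W)
    (X : Subgroup (V ≃ₗ[F] V)) (hXB : ∀ w l h, xB ht w l h ∈ X) (hyp : RootHyp ht X) {d : ℕ}
    (hmax : ∀ n, PD t X n → n ≤ d) {w : W} (hw : w ≠ 0) {R : Submodule F V} (hR : R ∈ Orb t X)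
    (hRn : NonFib t R) (hd : finrank F ↥(fib t w ⊓ R) = d) :
    finrank F W + d ≤ finrank F U + 1 := by
  -- a vector of `R` outside the fibre
  have hex : ∃ r₀ ∈ R, r₀ ∉ fib t w := by
    by_contra hcon
    push Not at hcon
    have hle : R ≤ fib t w := hcon
    have := eq_of_le_of_finrank hle (by rw [finrank_fib ht hw, finrank_Orb ht hR])
    exact hRn w hw this
  obtain ⟨r₀, hr₀, hr₀w⟩ := hex
  set L : Module.Dual F W →ₗ[F] V := (t.flip w).comp (evAt ht r₀) with hL
  have hLapp : ∀ l, L l = NB ht w l r₀ := fun l => rfl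
  set P : Submodule F V := (annih F w).map L with hP
  have key : ∀ l ∈ annih F w, L l ∈ R → l = 0 := by
    intro l hl hlR
    by_contra hl0
    exact hr₀w (step1 ht hU h3 X hXB hyp hmax hw hR hRn hd hl0 (mem_annih.mp hl) hr₀
      (by rw [← hLapp]; exact hlR))
  have hinj : Function.Injective (L.domRestrict (annih F w)) := by
    rw [injective_iff_map_eq_zero]
    rintro ⟨l, hl⟩ hker
    rw [LinearMap.domRestrict_apply] at hker
    have := key l hl (by rw [hker]; exact R.zero_mem)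
    exact Subtype.ext this
  have hPrank : finrank F ↥P = finrank F ↥(annih F w) := by
    have h1 : P = LinearMap.range (L.domRestrict (annih F w)) := by
      rw [hP, LinearMap.range_domRestrict]
    rw [h1, LinearMap.finrank_range_of_inj hinj]
  have hPle : P ≤ fib t w := by
    rintro v ⟨l, hl, rfl⟩
    rw [hLapp, NB_apply]; exact t_mem_fib _ _
  have hdisj : P ⊓ (fib t w ⊓ R) = ⊥ := by
    rw [eq_bot_iff]
    rintro v ⟨⟨l, hl, rfl⟩, -, hvR⟩
    rw [key l hl hvR, map_zero]; exact Submodule.zero_mem _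
  have hsum : finrank F ↥(P ⊔ (fib t w ⊓ R)) ≤ finrank F ↥(fib t w) :=
    Submodule.finrank_mono (sup_le hPle inf_le_left)
  have hadd := Submodule.finrank_sup_add_finrank_inf_eq P (fib t w ⊓ R)
  rw [hdisj, finrank_bot, add_zero, hPrank, hd] at hadd
  have ha := finrank_annih (F := F) hw
  rw [finrank_fib ht hw] at hsum
  omega

/-- the max-intersection theorem: `X` permutes the fibres. -/
theorem fibres_permuted (ht : IsTensorProduct t) (hU : 1 ≤ finrank F U)
    (hab : finrank F U < finrank F W) (h3 : 3 ≤ finrank F W)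
    (X : Subgroup (V ≃ₗ[F] V)) (hXB : ∀ w l h, xB ht w l h ∈ X) (hyp : RootHyp ht X) :
    ∀ g ∈ X, ∀ w : W, w ≠ 0 → ∃ w' : W, w' ≠ 0 ∧ img g (fib t w) = fib t w' := by
  classical
  by_contra hcon
  push Not at hcon
  obtain ⟨g₁, hg₁, w₁, hw₁, hnf₁⟩ := hcon
  set R₁ := img g₁ (fib t w₁) with hR₁
  have hR₁O : R₁ ∈ Orb t X := ⟨g₁, hg₁, w₁, hw₁, rfl⟩
  have hR₁n : NonFib t R₁ := fun w' hw' => hnf₁ w' hw'
  -- the maximum `d`
  have hbound : ∀ n, PD t X n → n ≤ finrank F U := by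
    rintro n ⟨w, hw, R, hR, -, rfl⟩
    rw [← finrank_fib ht hw]
    exact Submodule.finrank_mono inf_le_left
  have hP0 : PD t X (finrank F ↥(fib t w₁ ⊓ R₁)) := ⟨w₁, hw₁, R₁, hR₁O, hR₁n, rfl⟩
  set d := Nat.findGreatest (PD t X) (finrank F U) with hd
  have hPd : PD t X d := Nat.findGreatest_spec (hbound _ hP0) hP0
  have hmax : ∀ n, PD t X n → n ≤ d := fun n hn => Nat.le_findGreatest (hbound n hn) hn
  obtain ⟨w, hw, R, hR, hRn, hdR⟩ := hPd
  have h2 := step2 ht hU h3 X hXB hyp hmax hw hR hRn hdR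
  have hd0 : d = 0 := by omega
  -- Step 3: every fibre meets `R` trivially, so all evaluations are injective on `R`
  have hR0 : ∃ r₀ ∈ R, r₀ ≠ 0 := by
    have : 0 < finrank F ↥R := by rw [finrank_Orb ht hR]; omega
    rw [Module.finrank_pos_iff_exists_ne_zero] at this
    obtain ⟨⟨r₀, hr₀⟩, hne⟩ := this
    exact ⟨r₀, hr₀, fun h => hne (Subtype.ext h)⟩
  obtain ⟨r₀, hr₀, hr₀0⟩ := hR0
  have hinj : Function.Injective (evAt ht r₀) := by
    rw [injective_iff_map_eq_zero]
    intro l hl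
    rw [evAt_apply] at hl
    by_contra hl0
    obtain ⟨w', hw', hlw'⟩ := exists_ker_ne_zero (by omega) l
    have hd' : finrank F ↥(fib t w' ⊓ R) = d := by
      have := hmax _ ⟨w', hw', R, hR, hRn, rfl⟩
      omega
    have hmem : r₀ ∈ fib t w' := by
      apply step1 ht hU h3 X hXB hyp hmax hw' hR hRn hd' hl0 hlw' hr₀
      rw [NB_apply, hl, LinearMap.map_zero₂]; exact R.zero_mem
    have hzero : fib t w' ⊓ R = ⊥ := by
      apply Submodule.finrank_eq_zero.mp
      rw [hd', hd0]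
    have : r₀ ∈ fib t w' ⊓ R := ⟨hmem, hr₀⟩
    rw [hzero, Submodule.mem_bot] at this
    exact hr₀0 this
  have := LinearMap.finrank_le_finrank_of_injective hinj
  rw [Subspace.dual_finrank_eq] at this
  omega

end

end Cfsg.Agent.Helper8.Tens
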