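import Cfsg.Agent.Helper8.TensD
import Cfsg.Agent.Helper4.TPBase

set_option autoImplicit false
set_option linter.unusedSectionVars false
set_option linter.unusedVariables false

/-! Tensor decompositions (helper8), part E: the bridge to helper4's concrete model
`V = (m × n → F)` (`Cfsg.Agent.Helper4.TP`), and the main theorem `main` in that model. -/

namespace Cfsg.Agent.Helper8.Tens

open Module Cfsg.Agent.Helper7.ExtF TensorProduct
open Cfsg.Agent.Helper4

variable {F : Type*} [Field F] {m n : Type} [Fintype m] [DecidableEq m] [Fintype n]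
  [DecidableEq n]

/-- helper4's `tmul` makes `(m × n → F)` the tensor product. -/
theorem isTP : IsTensorProduct (TP.tmul (F := F) (m := m) (n := n)) := by
  have hsurj : Function.Surjective
      (TensorProduct.lift (TP.tmul (F := F) (m := m) (n := n))) := by
    intro x
    refine ⟨∑ j, (TP.con (TP.pr j) x) ⊗ₜ[F] (Pi.single j (1 : F)), ?_⟩
    rw [map_sum]
    conv_rhs => rw [TP.sum_tmul_con x]
    refine Finset.sum_congr rfl fun j _ => ?_
    rw [TensorProduct.lift.tmul]
  refine ⟨?_, hsurj⟩
  have hfin : finrank F ((m → F) ⊗[F] (n → F)) = finrank F (m × n → F) := by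
    rw [Module.finrank_tensorProduct, Module.finrank_fintype_fun_eq_card,
      Module.finrank_fintype_fun_eq_card, Module.finrank_fintype_fun_eq_card, Fintype.card_prod]
  exact (LinearMap.injective_iff_surjective_of_finrank_eq_finrank hfin).mpr hsurj

theorem ev_eq_con (β : Module.Dual F (n → F)) :
    ev (isTP (F := F) (m := m) (n := n)) β = TP.con β := by
  apply ext_pure isTP; intro u w
  rw [ev_t, TP.con_tmul]

theorem fib_eq (w : n → F) : fib (TP.tmul (F := F) (m := m) (n := n)) w = TP.fib w := rfl

theorem xB_eq_zz (w : n → F) (β : Module.Dual F (n → F)) (h : β w = 0) :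
    xB (isTP (F := F) (m := m) (n := n)) w β h = TP.zz w β h := by
  apply LinearEquiv.ext; intro x
  rw [xB_apply, TP.zz_apply, ev_eq_con]

theorem isTens_tt (A : GL m F) (B : GL n F) :
    IsTens (TP.tmul (F := F) (m := m) (n := n)) (TP.tt A B) := by
  refine ⟨(TP.thetaG (F := F) (ι := m) A), (TP.thetaG (F := F) (ι := n) B), ?_⟩
  intro u w
  rw [TP.tt_tmul, TP.thetaG_apply, TP.thetaG_apply]

/-- **MAIN** (max-intersection theorem) in helper4's model: a group containing the root elements
`zz w β` in which the stabiliser of every fibre consists of elements `A ⊗ B` maps every fibre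
onto a fibre. -/
theorem main (ha : 1 ≤ Fintype.card m) (hab : Fintype.card m < Fintype.card n)
    (hb : 3 ≤ Fintype.card n) (G : Subgroup ((m × n → F) ≃ₗ[F] (m × n → F)))
    (hz : ∀ (w : n → F) (β : Module.Dual F (n → F)) (h : β w = 0), TP.zz w β h ∈ G)
    (hstab : ∀ g ∈ G, ∀ w : n → F, w ≠ 0 → img g (TP.fib w) = TP.fib w →
      ∃ (A : GL m F) (B : GL n F), g = TP.tt A B) :
    ∀ g ∈ G, ∀ w : n → F, w ≠ 0 → TP.FibTo g w := by
  have hfm : finrank F (m → F) = Fintype.card m := Module.finrank_fintype_fun_eq_card F
  have hfn : finrank F (n → F) = Fintype.card n := Module.finrank_fintype_fun_eq_card F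
  have key := fibres_permuted_of_stab (isTP (F := F) (m := m) (n := n)) (by rw [hfm]; exact ha)
    (by rw [hfm, hfn]; exact hab) (by rw [hfn]; exact hb) G
    (fun w l h => by rw [xB_eq_zz]; exact hz w l h)
    (fun g hg w hw hst => by
      obtain ⟨A, B, rfl⟩ := hstab g hg w hw hst
      exact isTens_tt A B)
  intro g hg w hw
  obtain ⟨w', hw', h⟩ := key g hg w hw
  exact ⟨w', hw', h⟩

end Cfsg.Agent.Helper8.Tens
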