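import Cfsg.Agent.Helper8.TensF
import Cfsg.Agent.Helper8.TensE

set_option autoImplicit false
set_option linter.unusedSectionVars false
set_option linter.unusedVariables false

/-! Tensor decompositions (helper8), part G: [STAB] in helper4's concrete model: `zz_mem'`, `stab`,
`fibTo_of_not_QQ` with the signatures of `notes/helper4_S5637_stubs.lean.txt`. -/

namespace Cfsg.Agent.Helper8.Tens

open Module Cfsg.Agent.Helper7.ExtF
open Cfsg.Agent.Helper4

section abstract

variable {F : Type*} [Field F] {U W V : Type*} [AddCommGroup U] [Module F U]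
  [AddCommGroup W] [Module F W] [AddCommGroup V] [Module F V]
  {t : U →ₗ[F] W →ₗ[F] V}
  [FiniteDimensional F U] [FiniteDimensional F W] [FiniteDimensional F V]

/-- an element of the group of root elements moving one fibre onto another. -/
theorem exists_move_fib (ht : IsTensorProduct t) (G : Subgroup (V ≃ₗ[F] V))
    (hz : ∀ w l h, xB ht w l h ∈ G) {w w' : W} (hw : w ≠ 0) (hw' : w' ≠ 0) :
    ∃ h ∈ G, IsTens t h ∧ img h (fib t w') = fib t w := by
  by_cases hdep : w ∈ Submodule.span F {w'}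
  · obtain ⟨c, hc⟩ := Submodule.mem_span_singleton.mp hdep
    have hc0 : c ≠ 0 := by
      rintro rfl; rw [zero_smul] at hc; exact hw hc.symm
    refine ⟨1, G.one_mem, ⟨1, 1, fun u w => rfl⟩, ?_⟩
    rw [img_one, ← hc, fib_smul hc0]
  · have hK : KInd (K := F) w' w := ⟨hw', hdep⟩
    obtain ⟨l, hl1, hl2⟩ := exists_kfunc_two hK 1 1
    have h0 : l (w - w') = 0 := by rw [map_sub, hl1, hl2, sub_self]
    refine ⟨xB ht (w - w') l h0, hz _ _ _, ?_, ?_⟩
    · rw [xB_eq_tmap]; exact isTens_tmap ht _ _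
    · rw [img_xB_fib, hl1, one_smul]
      congr 1; abel

/-- **[STAB']**: an element of `G` mapping one fibre onto a fibre preserves the tensor
decomposition. -/
theorem isTens_of_fibTo (ht : IsTensorProduct t) (hU : 1 ≤ finrank F U)
    (G : Subgroup (V ≃ₗ[F] V)) (hz : ∀ w l h, xB ht w l h ∈ G)
    (hM : ∀ (A : U ≃ₗ[F] U) (B : W ≃ₗ[F] W),
      LinearMap.det ((tmap ht A B : V ≃ₗ[F] V) : V →ₗ[F] V) = 1 → tmap ht A B ∈ G)
    (hdet : ∀ g ∈ G, LinearMap.det ((g : V ≃ₗ[F] V) : V →ₗ[F] V) = 1)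
    (hQ : ¬ QQ' ht G) {g : V ≃ₗ[F] V} (hg : g ∈ G) {w w' : W} (hw : w ≠ 0) (hw' : w' ≠ 0)
    (hS : img g (fib t w) = fib t w') : IsTens t g := by
  obtain ⟨h, hhG, hhT, hh⟩ := exists_move_fib ht G hz hw hw'
  have hst : img (h * g) (fib t w) = fib t w := by rw [img_mul, hS, hh]
  have hT := stab_abstract ht hU G hz hM hdet hQ (G.mul_mem hhG hg) hw hst
  have : g = h⁻¹ * (h * g) := by rw [inv_mul_cancel_left]
  rw [this]
  exact (hhT.inv ht).mul ht hT

end abstract

variable {F : Type*} [Field F] {m n : Type} [Fintype m] [DecidableEq m] [Fintype n]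
  [DecidableEq n]

/-- the abstract tensor map of two automorphisms is helper4's `tt` of their matrices. -/
theorem tmap_eq_tt (A : (m → F) ≃ₗ[F] (m → F)) (B : (n → F) ≃ₗ[F] (n → F)) :
    tmap (isTP (F := F) (m := m) (n := n)) A B =
      TP.tt (TP.thetaG.symm A) (TP.thetaG.symm B) := by
  apply equiv_ext_pure isTP; intro u w
  rw [tmap_t, TP.tt_tmul, ← TP.thetaG_apply, ← TP.thetaG_apply, MulEquiv.apply_symm_apply,
    MulEquiv.apply_symm_apply]

theorem isTens_iff_tt {g : (m × n → F) ≃ₗ[F] (m × n → F)} :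
    IsTens (TP.tmul (F := F) (m := m) (n := n)) g ↔ ∃ (A : GL m F) (B : GL n F), g = TP.tt A B := by
  constructor
  · intro h
    obtain ⟨A, B, rfl⟩ := h.eq_tmap isTP
    exact ⟨_, _, tmap_eq_tt A B⟩
  · rintro ⟨A, B, rfl⟩
    exact isTens_tt A B

theorem det_kr_eq (A : GL m F) (B : GL n F) :
    ((TP.kr A B : GL (m × n) F) : Matrix (m × n) (m × n) F).det =
      LinearMap.det ((TP.tt A B : (m × n → F) ≃ₗ[F] (m × n → F)) :
        (m × n → F) →ₗ[F] (m × n → F)) := by
  rw [TP.det_tt, TP.det_kr]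

theorem qq_iff (G : Subgroup ((m × n → F) ≃ₗ[F] (m × n → F))) :
    QQ' (isTP (F := F) (m := m) (n := n)) G ↔ TP.QQ G := by
  unfold QQ' TP.QQ
  simp only [ev_eq_con, fib_eq]

section

variable (G : Subgroup ((m × n → F) ≃ₗ[F] (m × n → F)))
  (hM : ∀ (A : GL m F) (B : GL n F),
    ((TP.kr A B : GL (m × n) F) : Matrix (m × n) (m × n) F).det = 1 → TP.tt A B ∈ G)

include hM

theorem tmap_mem_of_det (A : (m → F) ≃ₗ[F] (m → F)) (B : (n → F) ≃ₗ[F] (n → F))
    (h : LinearMap.det ((tmap (isTP (F := F) (m := m) (n := n)) A B :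
      (m × n → F) ≃ₗ[F] (m × n → F)) : (m × n → F) →ₗ[F] (m × n → F)) = 1) :
    tmap (isTP (F := F) (m := m) (n := n)) A B ∈ G := by
  rw [tmap_eq_tt] at h ⊢
  apply hM
  rw [det_kr_eq]; exact h

/-- the root elements are in `G` (helper4's stub `zz_mem`). -/
theorem zz_mem' (w : n → F) (β : Module.Dual F (n → F)) (h : β w = 0) : TP.zz w β h ∈ G := by
  rw [← xB_eq_zz, xB_eq_tmap, tmap_eq_tt]
  apply hM
  rw [TP.det_kr]
  have h1 : ((TP.thetaG.symm (LinearEquiv.refl F (m → F)) : GL m F) : Matrix m m F).det = 1 := by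
    rw [← TP.det_thetaG, MulEquiv.apply_symm_apply]
    exact LinearMap.det_id
  have h2 : ((TP.thetaG.symm (LinearEquiv.transvection h) : GL n F) : Matrix n n F).det = 1 := by
    rw [← TP.det_thetaG, MulEquiv.apply_symm_apply, LinearEquiv.transvection.coe_toLinearMap,
      LinearMap.transvection.det, h, add_zero]
  rw [h1, h2, one_pow, one_pow, mul_one]

/-- **[STAB]** (helper4's stub `stab`). -/
theorem stab (ha : 2 ≤ Fintype.card m) (hb : 2 ≤ Fintype.card n)
    (hdet : ∀ g ∈ G, LinearMap.det ((g : (m × n → F) ≃ₗ[F] (m × n → F)) :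
      (m × n → F) →ₗ[F] (m × n → F)) = 1)
    (hQ : ¬ TP.QQ G) {g : (m × n → F) ≃ₗ[F] (m × n → F)} (hg : g ∈ G) {w₀ : n → F} (hw₀ : w₀ ≠ 0)
    (hS : img g (TP.fib w₀) = TP.fib w₀) : ∃ (A : GL m F) (B : GL n F), g = TP.tt A B := by
  rw [← isTens_iff_tt]
  have hfm : finrank F (m → F) = Fintype.card m := Module.finrank_fintype_fun_eq_card F
  refine stab_abstract (isTP (F := F) (m := m) (n := n)) (by rw [hfm]; omega) G
    (fun w l h => by rw [xB_eq_zz]; exact zz_mem' G hM w l h) (tmap_mem_of_det G hM) hdet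
    (by rw [qq_iff]; exact hQ) hg hw₀ hS

/-- **[STAB']** (helper4's stub `fibTo_of_not_QQ`). -/
theorem fibTo_of_not_QQ (ha : 2 ≤ Fintype.card m) (hb : 2 ≤ Fintype.card n)
    (hdet : ∀ g ∈ G, LinearMap.det ((g : (m × n → F) ≃ₗ[F] (m × n → F)) :
      (m × n → F) →ₗ[F] (m × n → F)) = 1)
    (hQ : ¬ TP.QQ G) {g : (m × n → F) ≃ₗ[F] (m × n → F)} (hg : g ∈ G)
    (h : ∃ w : n → F, w ≠ 0 ∧ TP.FibTo g w) : ∃ (A : GL m F) (B : GL n F), g = TP.tt A B := by
  obtain ⟨w, hw, w', hw', hS⟩ := h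
  rw [← isTens_iff_tt]
  have hfm : finrank F (m → F) = Fintype.card m := Module.finrank_fintype_fun_eq_card F
  exact isTens_of_fibTo (isTP (F := F) (m := m) (n := n)) (by rw [hfm]; omega) G
    (fun w l h => by rw [xB_eq_zz]; exact zz_mem' G hM w l h) (tmap_mem_of_det G hM) hdet
    (by rw [qq_iff]; exact hQ) hg hw hw' hS

end

end Cfsg.Agent.Helper8.Tens
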