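import Mathlib

set_option autoImplicit false

/-!
helper8: subgroups of `Perm α` generated by three-cycles; a transitive one is the alternating
group (Jordan).
-/

namespace Cfsg.Agent.Helper8.Jd

open Equiv Equiv.Perm MulAction
open scoped Pointwise

variable {α : Type*} [Fintype α] [DecidableEq α]

theorem three_pow_eq_one {s : Perm α} (hs : s.IsThreeCycle) : s ^ 3 = 1 := by
  rw [← hs.orderOf]; exact pow_orderOf_eq_one s

theorem three_apply {s : Perm α} (hs : s.IsThreeCycle) (x : α) : s (s (s x)) = x := by
  have h := three_pow_eq_one hs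
  have : (s ^ 3) x = x := by rw [h]; rfl
  simpa [pow_succ] using this

/-- the points moved by a three-cycle are `x`, `s x`, `s (s x)` -/
theorem three_cycle_cases {s : Perm α} (hs : s.IsThreeCycle) {x y : α} (hx : s x ≠ x)
    (hy : s y ≠ y) : y = x ∨ y = s x ∨ y = s (s x) := by
  obtain ⟨i, hi⟩ := hs.isCycle.exists_pow_eq hx hy
  have h3 := three_pow_eq_one hs
  have h : s ^ i = s ^ (i % 3) := by
    conv_lhs => rw [← Nat.div_add_mod i 3, pow_add, pow_mul, h3, one_pow, one_mul]
  rw [h] at hi
  have hlt : i % 3 < 3 := Nat.mod_lt _ (by norm_num)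
  interval_cases (i % 3)
  · left; simpa using hi.symm
  · right; left; simpa using hi.symm
  · right; right; simpa [pow_succ] using hi.symm

/-- A transitive subgroup generated by three-cycles is primitive. -/
theorem isPreprimitive_of_threeCycles (S : Set (Perm α)) (hS : ∀ s ∈ S, s.IsThreeCycle)
    (G : Subgroup (Perm α)) (hG : G = Subgroup.closure S) [hT : IsPretransitive G α] :
    IsPreprimitive G α := by
  refine { isTrivialBlock_of_isBlock := ?_ }
  intro B hB
  by_contra hnt
  unfold IsTrivialBlock at hnt
  push Not at hnt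
  obtain ⟨hns, hnu⟩ := hnt
  obtain ⟨x, hx, y, hy, hxy⟩ := hns
  obtain ⟨z, hz⟩ : ∃ z, z ∉ B := by
    by_contra h
    push Not at h
    exact hnu (Set.eq_univ_of_forall h)
  -- some generator moves the block
  have hex : ∃ s ∈ S, (s : Perm α) • B ≠ B := by
    by_contra h
    push Not at h
    have hle : G ≤ MulAction.stabilizer (Perm α) B := by
      rw [hG, Subgroup.closure_le]
      intro s hs
      exact MulAction.mem_stabilizer_iff.mpr (h s hs)
    obtain ⟨g, hg⟩ := hT.exists_smul_eq x z
    have h1 : ((g : Perm α)) • B = B := MulAction.mem_stabilizer_iff.mp (hle g.2)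
    apply hz
    rw [← h1, ← hg]
    exact Set.smul_mem_smul_set hx
  obtain ⟨s, hsS, hsB⟩ := hex
  have hsG : s ∈ G := by rw [hG]; exact Subgroup.subset_closure hsS
  have hmove : ∀ a ∈ B, s a ∉ B := by
    intro a ha hsa
    apply hsB
    have := (isBlock_iff_smul_eq_of_mem.mp hB) (g := ⟨s, hsG⟩) (a := a) ha hsa
    exact this
  have h3 := hS s hsS
  have hsx : s x ≠ x := fun h => hmove x hx (by rw [h]; exact hx)
  have hsy : s y ≠ y := fun h => hmove y hy (by rw [h]; exact hy)
  rcases three_cycle_cases h3 hsx hsy with h | h | h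
  · exact hxy h.symm
  · exact hmove x hx (by rw [← h]; exact hy)
  · apply hmove y hy
    rw [h, three_apply h3]
    exact hx

/-- **Jordan** for three-cycles: a transitive subgroup generated by a nonempty set of
three-cycles is the alternating group. -/
theorem eq_alternatingGroup_of_threeCycles (S : Set (Perm α)) (hS : ∀ s ∈ S, s.IsThreeCycle)
    (hne : S.Nonempty) (G : Subgroup (Perm α)) (hG : G = Subgroup.closure S)
    [hT : IsPretransitive G α] : G = alternatingGroup α := by
  apply le_antisymm
  · rw [hG, Subgroup.closure_le]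
    intro s hs
    exact (hS s hs).mem_alternatingGroup
  · obtain ⟨s, hs⟩ := hne
    have hp := isPreprimitive_of_threeCycles S hS G hG
    exact alternatingGroup_le_of_isPreprimitive_of_isThreeCycle_mem hp (hS s hs)
      (by rw [hG]; exact Subgroup.subset_closure hs)

end Cfsg.Agent.Helper8.Jd
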