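import Mathlib
import Cfsg.Agent.Helper8.QuadTypeD

/-!
# Types of quadratic spaces in all characteristics (helper8), part H

* `hyp_of_sub_isometry`: isometric subspaces have the same type;
* `hyp_biSup_iff`: the type of an orthogonal sum of `t` non-degenerate even-dimensional blocks of a common type `p`:
  plus type iff `t` is even or `p`.
-/

set_option autoImplicit false

namespace Cfsg.Agent.Helper8.QuadType

open Module Cfsg.Agent.Helper8.QuadForm Cfsg.Agent.Helper7.QTy Cfsg.Agent.Helper7.SpOrd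
  Cfsg.Agent.Helper7.SpUn

variable {F : Type*} [Field F] {V : Type*} [AddCommGroup V] [Module F V]

/-- isometric subspaces have the same type (one direction) -/
theorem hyp_of_sub_isometry {Q : QuadraticForm F V} {W W' : Submodule F V} (e : W ≃ₗ[F] W')
    (he : ∀ w : W, Q ((e w : W') : V) = Q (w : V)) (h : Hyp Q W) : Hyp Q W' := by
  obtain ⟨U, hUW, hU, hd⟩ := h
  have hf : Function.Injective (W'.subtype ∘ₗ e.toLinearMap) := W'.injective_subtype.comp e.injective
  refine ⟨(U.comap W.subtype).map (W'.subtype ∘ₗ e.toLinearMap), ?_, ?_, ?_⟩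
  · rintro _ ⟨w, -, rfl⟩
    exact (e w).2
  · rintro _ ⟨w, hw, rfl⟩
    show Q ((e w : W') : V) = 0
    rw [he]
    exact hU _ hw
  · rw [LinearEquiv.finrank_eq (Submodule.equivMapOfInjective _ hf _).symm,
      (Submodule.comapSubtypeEquivOfLe hUW).finrank_eq, hd, e.finrank_eq]

/-- isometric subspaces have the same type -/
theorem hyp_iff_of_sub_isometry {Q : QuadraticForm F V} {W W' : Submodule F V} (e : W ≃ₗ[F] W')
    (he : ∀ w : W, Q ((e w : W') : V) = Q (w : V)) : Hyp Q W ↔ Hyp Q W' := by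
  refine ⟨hyp_of_sub_isometry e he, hyp_of_sub_isometry e.symm fun w => ?_⟩
  have := he (e.symm w)
  rw [LinearEquiv.apply_symm_apply] at this
  exact this.symm

/-- **T2'**: the orthogonal sum of the blocks `D i`, `i ∈ s`, all non-degenerate of even dimension and of the same
type `p`, is of plus type iff `s.card` is even or `p`. -/
theorem hyp_biSup_iff [Fintype F] [FiniteDimensional F V] {Q : QuadraticForm F V}
    (hV : ND (QuadraticMap.polarBilin Q) ⊤) {ι : Type*} [DecidableEq ι] (D : ι → Submodule F V) (p : Prop)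
    (hnd : ∀ i, ND (QuadraticMap.polarBilin Q) (D i))
    (horth : ∀ i j, i ≠ j → D j ≤ LinearMap.BilinForm.orthogonal (QuadraticMap.polarBilin Q) (D i))
    (hev : ∀ i, Even (finrank F ↥(D i))) (hp : ∀ i, Hyp Q (D i) ↔ p) (s : Finset ι) :
    ND (QuadraticMap.polarBilin Q) (⨆ i ∈ s, D i) ∧ Even (finrank F ↥(⨆ i ∈ s, D i)) ∧
      (Hyp Q (⨆ i ∈ s, D i) ↔ (Even s.card ∨ p)) := by
  induction s using Finset.induction_on with
  | empty =>
    have h0 : (⨆ i ∈ (∅ : Finset ι), D i) = ⊥ := by simp
    rw [h0, Finset.card_empty]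
    refine ⟨nd_bot _, by rw [finrank_bot]; exact Even.zero, ?_⟩
    constructor
    · intro _
      exact Or.inl Even.zero
    · intro _
      exact hyp_bot Q
  | insert a s ha ih =>
    obtain ⟨ih1, ih2, ih3⟩ := ih
    have hle : (⨆ i ∈ s, D i) ≤ LinearMap.BilinForm.orthogonal (QuadraticMap.polarBilin Q) (D a) := by
      refine iSup₂_le fun i hi => horth a i ?_
      rintro rfl
      exact ha hi
    rw [Finset.iSup_insert, Finset.card_insert_of_notMem ha]
    refine ⟨nd_sup (pB_refl Q) (hnd a) ih1 hle, ?_, ?_⟩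
    · rw [finrank_sup_of_le_perp (pB_refl Q) (hnd a) hle]
      exact (hev a).add ih2
    · rw [hyp_sup_iff hV (hnd a) ih1 hle (hev a) ih2, hp a, ih3, Nat.even_add_one]
      by_cases h1 : p <;> by_cases h2 : Even s.card <;> simp [h1, h2]

/-- `hyp_biSup_iff` for a family indexed by `Fin t` -/
theorem hyp_iSup_iff [Fintype F] [FiniteDimensional F V] {Q : QuadraticForm F V}
    (hV : ND (QuadraticMap.polarBilin Q) ⊤) {t : ℕ} (D : Fin t → Submodule F V) (p : Prop)
    (hnd : ∀ i, ND (QuadraticMap.polarBilin Q) (D i))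
    (horth : ∀ i j, i ≠ j → D j ≤ LinearMap.BilinForm.orthogonal (QuadraticMap.polarBilin Q) (D i))
    (hev : ∀ i, Even (finrank F ↥(D i))) (hp : ∀ i, Hyp Q (D i) ↔ p) :
    Hyp Q (⨆ i, D i) ↔ (Even t ∨ p) := by
  have h := (hyp_biSup_iff hV D p hnd horth hev hp Finset.univ).2.2
  simpa using h

end Cfsg.Agent.Helper8.QuadType
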