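import Cfsg.Agent.Helper8.AschSpO2A
import Cfsg.Agent.Helper8.AschSpTensE

/-!
# ASCH-COMP-Sp, second round: `tensor_O2_exit`

`q` odd, `f ≅ f₁ ⊗ f₂` with `f₁` symplectic on `F^{n₁}` and `f₂` symmetric on `F^2`: a group of
isometries of `f` inside the tensor product subgroup stabilises a pair of complementary totally
isotropic subspaces (`O_2^+`) or normalises a non-self-adjoint field of degree `2` (`O_2^-`).
-/

set_option autoImplicit false
set_option linter.unusedSectionVars false

namespace Cfsg.Agent.Helper8.AschSp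

open Cfsg Cfsg.Geo Matrix Cfsg.Agent.Helper8.SpEven
open scoped Kronecker

section gramfacts

variable {κ : Type} [Fintype κ] [DecidableEq κ] {F : Type*} [Field F]

/-- a bilinear form is the form of its Gram matrix -/
theorem bilin_eq_formOfGram {f : (κ → F) → (κ → F) → F} (hf : IsBilinearForm f) (x y : κ → F) :
    f x y = formOfGram id (gramMatrix f) x y := by
  have h : SpEven.toBilin hf = SpEven.toBilin (formOfGram_bilinear (gramMatrix f)) := by
    apply LinearMap.ext_basis (Pi.basisFun F κ) (Pi.basisFun F κ)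
    intro i j
    rw [Pi.basisFun_apply, Pi.basisFun_apply, SpEven.toBilin_apply, SpEven.toBilin_apply,
      formOfGram_single]
    rfl
  have h1 : SpEven.toBilin hf x y = SpEven.toBilin (formOfGram_bilinear (gramMatrix f)) x y := by
    rw [h]
  rwa [SpEven.toBilin_apply, SpEven.toBilin_apply] at h1

theorem det_gramMatrix_ne_zero {f : (κ → F) → (κ → F) → F} (hf : IsBilinearForm f)
    (hnd : IsNondegenerateForm f) : (gramMatrix f).det ≠ 0 := by
  intro h
  obtain ⟨v, hv, hGv⟩ := Matrix.exists_mulVec_eq_zero_iff.mpr h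
  obtain ⟨x, hx⟩ := (hnd v hv).1
  apply hx
  rw [bilin_eq_formOfGram hf, formOfGram_eq_dot, hGv, dotProduct_zero]

theorem formOfGram_mulVec_left (M k : Matrix κ κ F) (x y : κ → F) :
    formOfGram id M (k *ᵥ x) y = formOfGram id (kᵀ * M) x y := by
  rw [formOfGram_eq_dot, formOfGram_eq_dot, ← Matrix.mulVec_mulVec, Matrix.dotProduct_mulVec x,
    Matrix.vecMul_transpose]

theorem formOfGram_mulVec_right (M k : Matrix κ κ F) (x y : κ → F) :
    formOfGram id M x (k *ᵥ y) = formOfGram id (M * k) x y := by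
  rw [formOfGram_eq_dot, formOfGram_eq_dot, ← Matrix.mulVec_mulVec]

theorem formOfGram_neg_mat (M : Matrix κ κ F) (x y : κ → F) :
    formOfGram id (-M) x y = - formOfGram id M x y := by
  unfold formOfGram
  rw [← Finset.sum_neg_distrib]
  refine Finset.sum_congr rfl fun a _ => ?_
  rw [← Finset.sum_neg_distrib]
  refine Finset.sum_congr rfl fun b _ => ?_
  rw [Matrix.neg_apply]
  ring

end gramfacts

section twobytwo

variable {F : Type*} [Field F]

/-- the standard alternating `2 × 2` matrix -/
def J2 (F : Type*) [Field F] : Matrix (Fin 2) (Fin 2) F := !![0, 1; -1, 0]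

theorem J2_identity (M : Matrix (Fin 2) (Fin 2) F) : Mᵀ * J2 F * M = M.det • J2 F := by
  ext i j
  fin_cases i <;> fin_cases j <;>
    simp [J2, Matrix.mul_apply, Fin.sum_univ_two, Matrix.det_fin_two] <;> ring

theorem J2_mul_self : J2 F * J2 F = -1 := by
  ext i j
  fin_cases i <;> fin_cases j <;> simp [J2, Matrix.mul_apply, Fin.sum_univ_two]

theorem J2_transpose : (J2 F)ᵀ = - J2 F := by
  ext i j
  fin_cases i <;> fin_cases j <;> simp [J2]

/-- the skew-adjoint operator of a binary symmetric form -/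
noncomputable def theta2 (G : Matrix (Fin 2) (Fin 2) F) : Matrix (Fin 2) (Fin 2) F :=
  (G.det)⁻¹ • (G.adjugate * J2 F)

theorem mul_theta2 {G : Matrix (Fin 2) (Fin 2) F} (hG : G.det ≠ 0) : G * theta2 G = J2 F := by
  unfold theta2
  rw [Matrix.mul_smul, ← Matrix.mul_assoc, Matrix.mul_adjugate, Matrix.smul_mul, Matrix.one_mul,
    smul_smul, inv_mul_cancel₀ hG, one_smul]

theorem theta2_transpose_mul {G : Matrix (Fin 2) (Fin 2) F} (hG : G.det ≠ 0) (hGs : Gᵀ = G) :
    (theta2 G)ᵀ * G = - J2 F := by
  unfold theta2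
  rw [Matrix.transpose_smul, Matrix.transpose_mul, Matrix.adjugate_transpose, hGs, Matrix.smul_mul,
    Matrix.mul_assoc, Matrix.adjugate_mul, Matrix.mul_smul, Matrix.mul_one, smul_smul,
    inv_mul_cancel₀ hG, one_smul, J2_transpose]

theorem theta2_mul_self {G : Matrix (Fin 2) (Fin 2) F} (hG : G.det ≠ 0) (hGs : Gᵀ = G) :
    theta2 G * theta2 G = (-(G.det)⁻¹) • (1 : Matrix (Fin 2) (Fin 2) F) := by
  have hadj : G.adjugateᵀ = G.adjugate := by rw [Matrix.adjugate_transpose, hGs]
  have h1 : G.adjugate * J2 F * G.adjugate = G.det • J2 F := by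
    have := J2_identity G.adjugate
    rw [hadj, Matrix.det_adjugate] at this
    simpa using this
  unfold theta2
  rw [Matrix.smul_mul, Matrix.mul_smul, smul_smul, ← Matrix.mul_assoc, h1, Matrix.smul_mul,
    J2_mul_self, smul_smul]
  rw [smul_neg, neg_smul]
  congr 2
  field_simp

/-- a similarity of a binary symmetric form commutes with its skew-adjoint operator up to sign -/
theorem theta2_comm {G C : Matrix (Fin 2) (Fin 2) F} (hG : G.det ≠ 0) {μ : F}
    (hμ : μ ≠ 0) (hC : Cᵀ * G * C = μ • G) :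
    ∃ ε : F, ε * ε = 1 ∧ theta2 G * C = ε • (C * theta2 G) := by
  have hdet : C.det * C.det = μ * μ := by
    have := congrArg Matrix.det hC
    rw [Matrix.det_mul, Matrix.det_mul, Matrix.det_transpose, Matrix.det_smul, Fintype.card_fin]
      at this
    have h2 : (C.det * C.det - μ * μ) * G.det = 0 := by linear_combination this
    exact sub_eq_zero.mp ((mul_eq_zero.mp h2).resolve_right hG)
  have hCdet : C.det ≠ 0 := by
    intro h0
    rw [h0, zero_mul] at hdet
    exact hμ (mul_self_eq_zero.mp hdet.symm)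
  refine ⟨C.det / μ, by field_simp; linear_combination hdet, ?_⟩
  -- cancel `X = Cᵀ G` on the left
  set X : Matrix (Fin 2) (Fin 2) F := Cᵀ * G with hX
  have hXdet : IsUnit X.det := by
    rw [hX, Matrix.det_mul, Matrix.det_transpose]
    exact (mul_ne_zero hCdet hG).isUnit
  have e1 : X * (theta2 G * C) = C.det • J2 F := by
    rw [hX, Matrix.mul_assoc, ← Matrix.mul_assoc G, mul_theta2 hG, ← Matrix.mul_assoc, J2_identity]
  have e2 : X * ((C.det / μ) • (C * theta2 G)) = C.det • J2 F := by
    rw [Matrix.mul_smul, ← Matrix.mul_assoc, hX, hC, Matrix.smul_mul, mul_theta2 hG, smul_smul]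
    congr 1
    field_simp
  have hcancel : ∀ Y : Matrix (Fin 2) (Fin 2) F, X⁻¹ * (X * Y) = Y := by
    intro Y
    rw [← Matrix.mul_assoc, Matrix.nonsing_inv_mul X hXdet, Matrix.one_mul]
  rw [← hcancel (theta2 G * C), e1, ← e2, hcancel]

end twobytwo

end Cfsg.Agent.Helper8.AschSp
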