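import Mathlib
import Cfsg.Prelude.Def_Characters
import Cfsg.Prelude.Def_Blocks
import Cfsg.Agent.Helper6.GaloisChar
import Cfsg.Agent.Helper6.ColumnOrth
import Cfsg.Agent.Helper6.SchurB
import Cfsg.Agent.Helper6.BlockPart
import Cfsg.Agent.Helper6.Linear

/-!
# M11 cluster, piece B5: the rational 5-column

A self-centralizing element `q` of order 5 which is conjugate to its square: all irreducible
characters take values in `{0, 1, -1}` at `q`, with the usual orthogonality and congruence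
relations.
-/

set_option autoImplicit false
set_option linter.style.haveILetI false

namespace Cfsg.Agent.Helper2.M11

open scoped ComplexConjugate
open Cfsg.Agent.Helper6 Module

universe u

variable {G : Type u} [Group G]

theorem h8_isConj_two_pow {q : G} (h : IsConj q (q ^ 2)) (k : ℕ) : IsConj q (q ^ (2 ^ k)) := by
  induction k with
  | zero => simpa using IsConj.refl q
  | succ k ih =>
    obtain ⟨c, hc⟩ := isConj_iff.mp ih
    have h2 : IsConj (q ^ 2) (q ^ (2 ^ (k + 1))) := by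
      rw [isConj_iff]
      refine ⟨c, ?_⟩
      rw [← conj_pow, hc, ← pow_mul, pow_succ]
    exact h.trans h2

theorem h8_isConj_pow_of_five {q : G} (hq : q ^ 5 = 1) (h : IsConj q (q ^ 2)) (m : ℕ)
    (hm : m % 5 ≠ 0) : IsConj q (q ^ m) := by
  have hmod : q ^ m = q ^ (m % 5) := by
    conv_lhs => rw [← Nat.div_add_mod m 5, pow_add, pow_mul, hq, one_pow, one_mul]
  rw [hmod]
  have hlt : m % 5 < 5 := Nat.mod_lt _ (by norm_num)
  interval_cases hr : m % 5
  · exact absurd rfl hm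
  · simpa using IsConj.refl q
  · exact h
  · have := h8_isConj_two_pow h 3
    have h8 : q ^ (2 ^ 3) = q ^ 3 := by
      have : (2 : ℕ) ^ 3 = 5 + 3 := by norm_num
      rw [this, pow_add, hq, one_mul]
    rwa [h8] at this
  · have := h8_isConj_two_pow h 2
    simpa using this

theorem h8_geom_sum_five {μ : ℂ} (hμ : μ ^ 5 = 1) :
    ∑ k ∈ Finset.range 5, μ ^ k = if μ = 1 then 5 else 0 := by
  by_cases h1 : μ = 1
  · rw [if_pos h1, h1]
    simp
  · rw [if_neg h1]
    have h2 : (∑ k ∈ Finset.range 5, μ ^ k) * (μ - 1) = 0 := by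
      rw [geom_sum_mul, hμ, sub_self]
    rcases mul_eq_zero.mp h2 with h3 | h3
    · exact h3
    · exact absurd (sub_eq_zero.mp h3) h1

/-- values of one irreducible character at `q` -/
theorem h8_col5_one [Finite G] (q : G) (hq : orderOf q = 5) (hconj : IsConj q (q ^ 2))
    (χ : G → ℂ) (hχ : Cfsg.IsIrrCharacter G χ) :
    ∃ v : ℤ, χ q = (v : ℂ) ∧ (5 : ℤ) ∣ (Cfsg.charDegree χ : ℤ) - v := by
  classical
  have hq5 : q ^ 5 = 1 := by rw [← hq]; exact pow_orderOf_eq_one q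
  have hchar : Cfsg.IsCharacter G χ := IsIrrCharacter.isCharacter hχ
  have hcf : Cfsg.IsClassFunction G χ := IsCharacter.isClassFunction hchar
  have hpow : ∀ m : ℕ, m % 5 ≠ 0 → χ (q ^ m) = χ q := by
    intro m hm
    obtain ⟨c, hc⟩ := isConj_iff.mp (h8_isConj_pow_of_five hq5 hconj m hm)
    rw [← hc]
    exact hcf q c
  have hdeg : (Cfsg.charDegree χ : ℂ) = χ 1 := charDegree_cast_of_isCharacter hchar
  obtain ⟨n, ρ, -, hρ⟩ := hχ
  haveI : NeZero (5 : ℕ) := ⟨by norm_num⟩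
  haveI : Fact (1 < 5) := ⟨by norm_num⟩
  obtain ⟨-, -, hC, -⟩ := char_galois_facts ρ q 5 hq5
  have hrat : ∃ r : ℚ, ρ.character q = r := by
    rw [← hC]
    intro k
    rw [hρ]
    apply hpow
    intro h0
    have hk : ((k : ZMod 5).val : ZMod 5) = (k : ZMod 5) := ZMod.natCast_zmod_val _
    have : (k : ZMod 5) = 0 := by
      rw [← hk]
      rw [(ZMod.natCast_eq_zero_iff _ 5)]
      exact Nat.dvd_of_mod_eq_zero h0
    exact k.ne_zero this
  obtain ⟨r, hr⟩ := hrat
  obtain ⟨v, hv⟩ := exists_int_of_rat_isIntegral (isIntegral_char ρ q) r hr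
  rw [hρ] at hv
  refine ⟨v, hv, ?_⟩
  -- eigenvalue count
  obtain ⟨ι, hι, b, μ, h1, h2, -⟩ := exists_eigenbasis_rep ρ q
  have hμ5 : ∀ i, μ i ^ 5 = 1 := by
    intro i
    have := h2 i
    rwa [hq] at this
  have hsum : ∀ k : ℕ, χ (q ^ k) = ∑ i, μ i ^ k := by
    intro k
    rw [← hρ]
    exact char_pow_eq_sum ρ q b μ h1 k
  have htot : ∑ k ∈ Finset.range 5, χ (q ^ k) =
      5 * ((Finset.univ.filter (fun i => μ i = 1)).card : ℂ) := by
    simp_rw [hsum]
    rw [Finset.sum_comm]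
    simp_rw [h8_geom_sum_five (hμ5 _)]
    rw [Finset.sum_ite, Finset.sum_const_zero, add_zero, Finset.sum_const, nsmul_eq_mul]
    ring
  have hleft : ∑ k ∈ Finset.range 5, χ (q ^ k) = χ 1 + 4 * (v : ℂ) := by
    rw [Finset.sum_range_succ, Finset.sum_range_succ, Finset.sum_range_succ,
      Finset.sum_range_succ, Finset.sum_range_one, pow_zero,
      hpow 1 (by norm_num), hpow 2 (by norm_num), hpow 3 (by norm_num), hpow 4 (by norm_num), hv]
    ring
  rw [hleft, ← hdeg] at htot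
  set N := (Finset.univ.filter (fun i => μ i = 1)).card with hN
  have hZ : (Cfsg.charDegree χ : ℤ) + 4 * v = 5 * (N : ℤ) := by
    have : (((Cfsg.charDegree χ : ℤ) + 4 * v : ℤ) : ℂ) = ((5 * (N : ℤ) : ℤ) : ℂ) := by
      push_cast
      exact htot
    exact_mod_cast this
  refine ⟨(N : ℤ) - v, ?_⟩
  linarith

theorem h8_abs_le_one_of_sq {a : ℤ} (h : a ^ 2 ≤ 1) : a = 0 ∨ a = 1 ∨ a = -1 := by
  have h1 : a ≤ 1 := by nlinarith
  have h2 : -1 ≤ a := by nlinarith
  interval_cases a <;> simp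

/-- **B5**: the rational 5-column. -/
theorem col5 {G : Type u} [Group G] [Fintype G] [Fintype (Cfsg.IrrCharacter G)]
    (q : G) (hq : orderOf q = 5)
    (hC : Nat.card (Subgroup.centralizer ({q} : Set G)) = 5)
    (hconj : IsConj q (q ^ 2)) :
    ∃ v : Cfsg.IrrCharacter G → ℤ,
      (∀ χ : Cfsg.IrrCharacter G, (χ : G → ℂ) q = (v χ : ℂ)) ∧
      (∀ χ : Cfsg.IrrCharacter G, v χ = 0 ∨ v χ = 1 ∨ v χ = -1) ∧
      ∑ χ : Cfsg.IrrCharacter G, v χ ^ 2 = 5 ∧
      (∀ χ : Cfsg.IrrCharacter G, (5 : ℤ) ∣ (Cfsg.charDegree (χ : G → ℂ) : ℤ) - v χ) ∧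
      ∑ χ : Cfsg.IrrCharacter G, (Cfsg.charDegree (χ : G → ℂ) : ℤ) * v χ = 0 := by
  classical
  have hex : ∀ χ : Cfsg.IrrCharacter G, ∃ v : ℤ, (χ : G → ℂ) q = (v : ℂ) ∧
      (5 : ℤ) ∣ (Cfsg.charDegree (χ : G → ℂ) : ℤ) - v :=
    fun χ => h8_col5_one q hq hconj χ.1 χ.2
  choose v hv hdvd using hex
  have hq1 : q ≠ 1 := by
    intro h
    rw [h, orderOf_one] at hq
    norm_num at hq
  -- column orthogonality (q, q)
  have hsq : ∑ χ : Cfsg.IrrCharacter G, v χ ^ 2 = 5 := by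
    have h := column_orthogonality_aux q q
    rw [if_pos (IsConj.refl q), hC] at h
    simp only [Nat.cast_ofNat] at h
    have h2 : ((∑ χ : Cfsg.IrrCharacter G, v χ ^ 2 : ℤ) : ℂ) = ((5 : ℤ) : ℂ) := by
      push_cast
      rw [← h]
      apply Finset.sum_congr rfl
      intro χ _
      rw [hv χ, map_intCast]
      ring
    exact_mod_cast h2
  -- column orthogonality (1, q)
  have hdv : ∑ χ : Cfsg.IrrCharacter G, (Cfsg.charDegree (χ : G → ℂ) : ℤ) * v χ = 0 := by
    have h := column_orthogonality_aux (1 : G) q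
    have hnc : ¬ IsConj (1 : G) q := by
      intro hc
      exact hq1 (isConj_one_left.mp hc.symm)
    rw [if_neg hnc] at h
    have h2 : ((∑ χ : Cfsg.IrrCharacter G, (Cfsg.charDegree (χ : G → ℂ) : ℤ) * v χ : ℤ) : ℂ) =
        ((0 : ℤ) : ℂ) := by
      push_cast
      rw [← h]
      apply Finset.sum_congr rfl
      intro χ _
      rw [hv χ, map_intCast,
        charDegree_cast_of_isCharacter (IsIrrCharacter.isCharacter χ.2)]
    exact_mod_cast h2
  refine ⟨v, hv, ?_, hsq, hdvd, hdv⟩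
  -- the trivial character
  set χ₁ : Cfsg.IrrCharacter G := ⟨fun _ => (1 : ℂ), by
    have := isIrrCharacter_of_hom (1 : G →* ℂˣ)
    simpa using this⟩ with hχ₁
  have hv1 : v χ₁ = 1 := by
    have := hv χ₁
    have h1 : ((1 : ℤ) : ℂ) = (v χ₁ : ℂ) := by
      rw [← this]
      simp [hχ₁]
    exact_mod_cast h1.symm
  have hd1 : (Cfsg.charDegree (χ₁ : G → ℂ) : ℤ) = 1 := by
    have : (Cfsg.charDegree (χ₁ : G → ℂ) : ℂ) = ((1 : ℕ) : ℂ) := by
      rw [charDegree_cast_of_isCharacter (IsIrrCharacter.isCharacter χ₁.2)]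
      simp [hχ₁]
    have h2 : Cfsg.charDegree (χ₁ : G → ℂ) = 1 := by exact_mod_cast this
    rw [h2]
    rfl
  intro χ
  by_cases hχ : χ = χ₁
  · rw [hχ, hv1]
    simp
  · -- v χ ^ 2 + 1 ≤ 5
    have hle : v χ ^ 2 + v χ₁ ^ 2 ≤ 5 := by
      rw [← hsq]
      have hsub : ({χ, χ₁} : Finset (Cfsg.IrrCharacter G)) ⊆ Finset.univ := Finset.subset_univ _
      calc v χ ^ 2 + v χ₁ ^ 2 = ∑ ψ ∈ ({χ, χ₁} : Finset (Cfsg.IrrCharacter G)), v ψ ^ 2 := by
            rw [Finset.sum_pair hχ]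
        _ ≤ ∑ ψ, v ψ ^ 2 :=
            Finset.sum_le_sum_of_subset_of_nonneg hsub (fun ψ _ _ => sq_nonneg _)
    rw [hv1] at hle
    by_contra hcon
    -- |v χ| = 2, all others vanish
    have h4 : v χ ^ 2 = 4 := by
      have h1 : v χ ^ 2 ≤ 4 := by linarith
      have hb1 : v χ ≤ 2 := by nlinarith
      have hb2 : -2 ≤ v χ := by nlinarith
      have : v χ = 2 ∨ v χ = -2 := by
        interval_cases hvx : v χ
        · right; rfl
        · exact absurd (Or.inr (Or.inr rfl)) hcon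
        · exact absurd (Or.inl rfl) hcon
        · exact absurd (Or.inr (Or.inl rfl)) hcon
        · left; rfl
      rcases this with h | h <;> rw [h] <;> norm_num
    have hrest : ∀ ψ, ψ ≠ χ → ψ ≠ χ₁ → v ψ = 0 := by
      intro ψ h1 h2
      have h3 : v ψ ^ 2 + (v χ ^ 2 + v χ₁ ^ 2) ≤ 5 := by
        rw [← hsq]
        have hsub : ({ψ, χ, χ₁} : Finset (Cfsg.IrrCharacter G)) ⊆ Finset.univ :=
          Finset.subset_univ _
        calc v ψ ^ 2 + (v χ ^ 2 + v χ₁ ^ 2)
              = ∑ φ ∈ ({ψ, χ, χ₁} : Finset (Cfsg.IrrCharacter G)), v φ ^ 2 := by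
                rw [Finset.sum_insert (by simp [h1, h2]), Finset.sum_pair hχ]
          _ ≤ ∑ φ, v φ ^ 2 :=
              Finset.sum_le_sum_of_subset_of_nonneg hsub (fun φ _ _ => sq_nonneg _)
      rw [h4, hv1] at h3
      have : v ψ ^ 2 ≤ 0 := by linarith
      have : v ψ ^ 2 = 0 := le_antisymm this (sq_nonneg _)
      exact pow_eq_zero_iff (by norm_num) |>.mp this
    -- Σ d v = d χ * v χ + 1 = 0
    have hsum2 : ∑ ψ : Cfsg.IrrCharacter G, (Cfsg.charDegree (ψ : G → ℂ) : ℤ) * v ψ =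
        (Cfsg.charDegree (χ : G → ℂ) : ℤ) * v χ + 1 := by
      have hsub : ({χ, χ₁} : Finset (Cfsg.IrrCharacter G)) ⊆ Finset.univ := Finset.subset_univ _
      rw [← Finset.sum_subset hsub]
      · rw [Finset.sum_pair hχ, hd1, hv1]
        ring
      · intro ψ _ hψ
        have h1 : ψ ≠ χ := fun h => hψ (by simp [h])
        have h2 : ψ ≠ χ₁ := fun h => hψ (by simp [h])
        rw [hrest ψ h1 h2, mul_zero]
    rw [hdv] at hsum2
    -- parity contradiction
    have hb1 : v χ ≤ 2 := by nlinarith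
    have hb2 : -2 ≤ v χ := by nlinarith
    have : v χ = 2 ∨ v χ = -2 := by
      rcases (show v χ = 2 ∨ v χ = -2 from by
        have h5 : (v χ - 2) * (v χ + 2) = 0 := by nlinarith
        rcases mul_eq_zero.mp h5 with h | h
        · left; linarith
        · right; linarith) with h | h
      · exact Or.inl h
      · exact Or.inr h
    rcases this with h | h <;> rw [h] at hsum2 <;> omega

end Cfsg.Agent.Helper2.M11
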