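import Mathlib

/-!
# M11 cluster: the arithmetic core of DEG (defect-zero degrees `11 m`)
-/

set_option autoImplicit false

namespace Cfsg.Agent.Helper2.M11

/-- The defect-zero part: `Σ m² = 42`, `Σ v² = 2`, `Σ m v = -3`, `m ≡ v (5)`, `v ∈ {0, ±1}`
force exactly three indices with `(m, v) = (1, 1), (4, -1), (5, 0)`. -/
theorem h8_deg_arith {R : Type*} [Fintype R] [DecidableEq R] (m : R → ℕ) (v : R → ℤ)
    (hm : ∀ r, 1 ≤ m r) (hv : ∀ r, v r = 0 ∨ v r = 1 ∨ v r = -1)
    (hcong : ∀ r, (5 : ℤ) ∣ (m r : ℤ) - v r)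
    (hsq : ∑ r, (m r) ^ 2 = 42) (hv2 : ∑ r, v r ^ 2 = 2)
    (hmv : ∑ r, (m r : ℤ) * v r = -3) :
    ∃ y y' z : R, y ≠ y' ∧ y ≠ z ∧ y' ≠ z ∧ (∀ r, r = y ∨ r = y' ∨ r = z) ∧
      m y = 1 ∧ v y = 1 ∧ m y' = 4 ∧ v y' = -1 ∧ m z = 5 ∧ v z = 0 := by
  classical
  set F : Finset R := Finset.univ.filter (fun r => v r ≠ 0) with hF
  have hsqv : ∀ r, v r ^ 2 = if v r ≠ 0 then 1 else 0 := by
    intro r
    rcases hv r with h | h | h <;> rw [h] <;> norm_num
  have hFcard : F.card = 2 := by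
    have h1 : ∑ r, v r ^ 2 = (F.card : ℤ) := by
      simp_rw [hsqv]
      rw [Finset.sum_ite, Finset.sum_const_zero, add_zero, Finset.sum_const, nsmul_eq_mul,
        mul_one]
    rw [hv2] at h1
    exact_mod_cast h1.symm
  obtain ⟨a, b, hab, hFab⟩ := Finset.card_eq_two.mp hFcard
  have haF : a ∈ F := by rw [hFab]; simp
  have hbF : b ∈ F := by rw [hFab]; simp
  have hva : v a ≠ 0 := (Finset.mem_filter.mp haF).2
  have hvb : v b ≠ 0 := (Finset.mem_filter.mp hbF).2
  have hv0 : ∀ r, r ≠ a → r ≠ b → v r = 0 := by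
    intro r hra hrb
    by_contra h
    have : r ∈ F := Finset.mem_filter.mpr ⟨Finset.mem_univ _, h⟩
    rw [hFab] at this
    simp at this
    tauto
  -- Σ m v over {a, b}
  have hsub : ({a, b} : Finset R) ⊆ Finset.univ := Finset.subset_univ _
  have hmv2 : (m a : ℤ) * v a + (m b : ℤ) * v b = -3 := by
    rw [← hmv, ← Finset.sum_subset hsub, Finset.sum_pair hab]
    intro r _ hr
    have hra : r ≠ a := fun h => hr (by simp [h])
    have hrb : r ≠ b := fun h => hr (by simp [h])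
    rw [hv0 r hra hrb, mul_zero]
  set C : Finset R := Finset.univ \ {a, b} with hC
  have hsq2 : m a ^ 2 + m b ^ 2 + ∑ r ∈ C, m r ^ 2 = 42 := by
    have h := Finset.sum_sdiff hsub (f := fun r => m r ^ 2)
    rw [Finset.sum_pair hab] at h
    rw [← hsq, ← h]
    ring
  have hva' : v a = 1 ∨ v a = -1 := by
    rcases hv a with h | h | h
    · exact absurd h hva
    · exact Or.inl h
    · exact Or.inr h
  have hvb' : v b = 1 ∨ v b = -1 := by
    rcases hv b with h | h | h
    · exact absurd h hvb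
    · exact Or.inl h
    · exact Or.inr h
  have hma1 := hm a
  have hmb1 := hm b
  have hma6 : m a ≤ 6 := by nlinarith [Nat.zero_le (∑ r ∈ C, m r ^ 2)]
  have hmb6 : m b ≤ 6 := by nlinarith [Nat.zero_le (∑ r ∈ C, m r ^ 2)]
  have hca := hcong a
  have hcb := hcong b
  -- the two non-zero ones
  have key : (m a = 1 ∧ v a = 1 ∧ m b = 4 ∧ v b = -1) ∨ (m a = 4 ∧ v a = -1 ∧ m b = 1 ∧ v b = 1) := by
    rcases hva' with ha | ha <;> rcases hvb' with hb | hb <;> rw [ha] at hca hmv2 <;>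
      rw [hb] at hcb hmv2 <;> interval_cases m a <;> interval_cases m b <;> omega
  have hCsum : ∑ r ∈ C, m r ^ 2 = 25 := by
    rcases key with ⟨h1, -, h2, -⟩ | ⟨h1, -, h2, -⟩ <;> rw [h1, h2] at hsq2 <;> omega
  have hCge : ∀ r ∈ C, 25 ≤ m r ^ 2 := by
    intro r hr
    rw [hC, Finset.mem_sdiff] at hr
    have hra : r ≠ a := fun h => hr.2 (by simp [h])
    have hrb : r ≠ b := fun h => hr.2 (by simp [h])
    have h0 := hv0 r hra hrb
    have hc := hcong r
    rw [h0, sub_zero] at hc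
    have h5 : 5 ∣ m r := by exact_mod_cast hc
    have : 5 ≤ m r := Nat.le_of_dvd (hm r) h5
    nlinarith
  have hCcard : C.card = 1 := by
    have h1 : C.card * 25 ≤ ∑ r ∈ C, m r ^ 2 := by
      rw [← smul_eq_mul, ← Finset.sum_const]
      exact Finset.sum_le_sum hCge
    rw [hCsum] at h1
    have h2 : C.card ≠ 0 := by
      intro h0
      rw [Finset.card_eq_zero] at h0
      rw [h0, Finset.sum_empty] at hCsum
      omega
    omega
  obtain ⟨z, hz⟩ := Finset.card_eq_one.mp hCcard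
  have hzC : z ∈ C := by rw [hz]; simp
  have hzab : z ≠ a ∧ z ≠ b := by
    rw [hC, Finset.mem_sdiff] at hzC
    constructor
    · exact fun h => hzC.2 (by simp [h])
    · exact fun h => hzC.2 (by simp [h])
  have hmz : m z = 5 := by
    rw [hz, Finset.sum_singleton] at hCsum
    nlinarith [hm z]
  have hvz : v z = 0 := hv0 z hzab.1 hzab.2
  have hall : ∀ r, r = a ∨ r = b ∨ r = z := by
    intro r
    by_cases hra : r = a
    · exact Or.inl hra
    by_cases hrb : r = b
    · exact Or.inr (Or.inl hrb)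
    have : r ∈ C := by
      rw [hC, Finset.mem_sdiff]
      refine ⟨Finset.mem_univ _, ?_⟩
      simp [hra, hrb]
    rw [hz, Finset.mem_singleton] at this
    exact Or.inr (Or.inr this)
  rcases key with ⟨h1, h2, h3, h4⟩ | ⟨h1, h2, h3, h4⟩
  · exact ⟨a, b, z, hab, hzab.1.symm, hzab.2.symm, hall, h1, h2, h3, h4, hmz, hvz⟩
  · refine ⟨b, a, z, hab.symm, hzab.2.symm, hzab.1.symm, ?_, h3, h4, h1, h2, hmz, hvz⟩
    intro r
    rcases hall r with h | h | h
    · exact Or.inr (Or.inl h)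
    · exact Or.inl h
    · exact Or.inr (Or.inr h)

end Cfsg.Agent.Helper2.M11
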