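import Mathlib
import Cfsg.Agent.Helper8.M11_DegArith

/-!
# M11 cluster: DEG core (combinatorial form, no characters)

From the seven characters found by the 11-block analysis (case A) and the rational 5-column,
the degree equation `∑ d² = 7920` produces the full enumeration of the ten irreducible characters.
-/

set_option autoImplicit false
set_option maxHeartbeats 1000000
set_option linter.unusedSimpArgs false

namespace Cfsg.Agent.Helper2.M11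

theorem h8_deg_core {ι : Type*} [Fintype ι] [DecidableEq ι] (d : ι → ℕ) (v : ι → ℤ)
    (hpos : ∀ x, 0 < d x) (hsum : ∑ x, d x ^ 2 = 7920)
    (hv01 : ∀ x, v x = 0 ∨ v x = 1 ∨ v x = -1) (hvsq : ∑ x, v x ^ 2 = 5)
    (hvdvd : ∀ x, (5 : ℤ) ∣ (d x : ℤ) - v x) (hvdeg : ∑ x, (d x : ℤ) * v x = 0)
    (χ₁ Λ₁ Λ₂ Y X₁ X₂ X₃ : ι) (h1 : d χ₁ = 1) (hΛ₁ : d Λ₁ = 16) (hΛ₂ : d Λ₂ = 16)
    (hΛ : Λ₁ ≠ Λ₂) (hY : d Y = 45) (hX₁ : d X₁ = 10) (hX₂ : d X₂ = 10) (hX₃ : d X₃ = 10)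
    (h12 : X₁ ≠ X₂) (h13 : X₁ ≠ X₃) (h23 : X₂ ≠ X₃)
    (hrest : ∀ x, x ≠ χ₁ → x ≠ Λ₁ → x ≠ Λ₂ → x ≠ Y → x ≠ X₁ → x ≠ X₂ → x ≠ X₃ → 11 ∣ d x) :
    ∃ e : Fin 10 ≃ ι,
      (∀ i, d (e i) = (![1, 10, 10, 10, 11, 16, 16, 44, 45, 55] : Fin 10 → ℕ) i) ∧
      (∀ i, v (e i) = (![1, 0, 0, 0, 1, 1, 1, -1, 0, 0] : Fin 10 → ℤ) i) ∧
      e 0 = χ₁ ∧ e 1 = X₁ ∧ e 2 = X₂ ∧ e 3 = X₃ ∧ e 5 = Λ₁ ∧ e 6 = Λ₂ ∧ e 8 = Y := by
  classical
  have hne_of : ∀ x y : ι, d x ≠ d y → x ≠ y := fun x y h e => h (e ▸ rfl)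
  have n01 : χ₁ ≠ X₁ := hne_of _ _ (by rw [h1, hX₁]; norm_num)
  have n02 : χ₁ ≠ X₂ := hne_of _ _ (by rw [h1, hX₂]; norm_num)
  have n03 : χ₁ ≠ X₃ := hne_of _ _ (by rw [h1, hX₃]; norm_num)
  have n05 : χ₁ ≠ Λ₁ := hne_of _ _ (by rw [h1, hΛ₁]; norm_num)
  have n06 : χ₁ ≠ Λ₂ := hne_of _ _ (by rw [h1, hΛ₂]; norm_num)
  have n08 : χ₁ ≠ Y := hne_of _ _ (by rw [h1, hY]; norm_num)
  have n12 : X₁ ≠ X₂ := h12
  have n13 : X₁ ≠ X₃ := h13
  have n15 : X₁ ≠ Λ₁ := hne_of _ _ (by rw [hX₁, hΛ₁]; norm_num)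
  have n16 : X₁ ≠ Λ₂ := hne_of _ _ (by rw [hX₁, hΛ₂]; norm_num)
  have n18 : X₁ ≠ Y := hne_of _ _ (by rw [hX₁, hY]; norm_num)
  have n23 : X₂ ≠ X₃ := h23
  have n25 : X₂ ≠ Λ₁ := hne_of _ _ (by rw [hX₂, hΛ₁]; norm_num)
  have n26 : X₂ ≠ Λ₂ := hne_of _ _ (by rw [hX₂, hΛ₂]; norm_num)
  have n28 : X₂ ≠ Y := hne_of _ _ (by rw [hX₂, hY]; norm_num)
  have n35 : X₃ ≠ Λ₁ := hne_of _ _ (by rw [hX₃, hΛ₁]; norm_num)
  have n36 : X₃ ≠ Λ₂ := hne_of _ _ (by rw [hX₃, hΛ₂]; norm_num)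
  have n38 : X₃ ≠ Y := hne_of _ _ (by rw [hX₃, hY]; norm_num)
  have n56 : Λ₁ ≠ Λ₂ := hΛ
  have n58 : Λ₁ ≠ Y := hne_of _ _ (by rw [hΛ₁, hY]; norm_num)
  have n68 : Λ₂ ≠ Y := hne_of _ _ (by rw [hΛ₂, hY]; norm_num)
  set S : Finset ι := {χ₁, X₁, X₂, X₃, Λ₁, Λ₂, Y} with hS
  have hSsum : ∀ f : ι → ℤ, ∑ x ∈ S, f x = f χ₁ + f X₁ + f X₂ + f X₃ + f Λ₁ + f Λ₂ + f Y := by
    intro f
    rw [hS, Finset.sum_insert (by simp [n01, n02, n03, n05, n06, n08, n12, n13, n15, n16, n18, n23, n25, n26, n28, n35, n36, n38, n56, n58, n68, n01.symm, n02.symm, n03.symm, n05.symm, n06.symm, n08.symm, n12.symm, n13.symm, n15.symm, n16.symm, n18.symm, n23.symm, n25.symm, n26.symm, n28.symm, n35.symm, n36.symm, n38.symm, n56.symm, n58.symm, n68.symm]),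
      Finset.sum_insert (by simp [n01, n02, n03, n05, n06, n08, n12, n13, n15, n16, n18, n23, n25, n26, n28, n35, n36, n38, n56, n58, n68, n01.symm, n02.symm, n03.symm, n05.symm, n06.symm, n08.symm, n12.symm, n13.symm, n15.symm, n16.symm, n18.symm, n23.symm, n25.symm, n26.symm, n28.symm, n35.symm, n36.symm, n38.symm, n56.symm, n58.symm, n68.symm]),
      Finset.sum_insert (by simp [n01, n02, n03, n05, n06, n08, n12, n13, n15, n16, n18, n23, n25, n26, n28, n35, n36, n38, n56, n58, n68, n01.symm, n02.symm, n03.symm, n05.symm, n06.symm, n08.symm, n12.symm, n13.symm, n15.symm, n16.symm, n18.symm, n23.symm, n25.symm, n26.symm, n28.symm, n35.symm, n36.symm, n38.symm, n56.symm, n58.symm, n68.symm]),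
      Finset.sum_insert (by simp [n01, n02, n03, n05, n06, n08, n12, n13, n15, n16, n18, n23, n25, n26, n28, n35, n36, n38, n56, n58, n68, n01.symm, n02.symm, n03.symm, n05.symm, n06.symm, n08.symm, n12.symm, n13.symm, n15.symm, n16.symm, n18.symm, n23.symm, n25.symm, n26.symm, n28.symm, n35.symm, n36.symm, n38.symm, n56.symm, n58.symm, n68.symm]),
      Finset.sum_insert (by simp [n01, n02, n03, n05, n06, n08, n12, n13, n15, n16, n18, n23, n25, n26, n28, n35, n36, n38, n56, n58, n68, n01.symm, n02.symm, n03.symm, n05.symm, n06.symm, n08.symm, n12.symm, n13.symm, n15.symm, n16.symm, n18.symm, n23.symm, n25.symm, n26.symm, n28.symm, n35.symm, n36.symm, n38.symm, n56.symm, n58.symm, n68.symm]),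
      Finset.sum_insert (by simp [n01, n02, n03, n05, n06, n08, n12, n13, n15, n16, n18, n23, n25, n26, n28, n35, n36, n38, n56, n58, n68, n01.symm, n02.symm, n03.symm, n05.symm, n06.symm, n08.symm, n12.symm, n13.symm, n15.symm, n16.symm, n18.symm, n23.symm, n25.symm, n26.symm, n28.symm, n35.symm, n36.symm, n38.symm, n56.symm, n58.symm, n68.symm]), Finset.sum_singleton]
    ring
  have hmemS : ∀ x, x ∉ S → x ≠ χ₁ ∧ x ≠ Λ₁ ∧ x ≠ Λ₂ ∧ x ≠ Y ∧ x ≠ X₁ ∧ x ≠ X₂ ∧ x ≠ X₃ := by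
    intro x hx
    rw [hS] at hx
    simp only [Finset.mem_insert, Finset.mem_singleton, not_or] at hx
    tauto
  -- the values of v on S
  have hvχ₁ : v χ₁ = 1 := by
    have := hvdvd χ₁; rw [h1] at this
    rcases hv01 χ₁ with h | h | h <;> rw [h] at this ⊢ <;> omega
  have hvΛ₁ : v Λ₁ = 1 := by
    have := hvdvd Λ₁; rw [hΛ₁] at this
    rcases hv01 Λ₁ with h | h | h <;> rw [h] at this ⊢ <;> omega
  have hvΛ₂ : v Λ₂ = 1 := by
    have := hvdvd Λ₂; rw [hΛ₂] at this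
    rcases hv01 Λ₂ with h | h | h <;> rw [h] at this ⊢ <;> omega
  have hvY : v Y = 0 := by
    have := hvdvd Y; rw [hY] at this
    rcases hv01 Y with h | h | h <;> rw [h] at this ⊢ <;> omega
  have hvX₁ : v X₁ = 0 := by
    have := hvdvd X₁; rw [hX₁] at this
    rcases hv01 X₁ with h | h | h <;> rw [h] at this ⊢ <;> omega
  have hvX₂ : v X₂ = 0 := by
    have := hvdvd X₂; rw [hX₂] at this
    rcases hv01 X₂ with h | h | h <;> rw [h] at this ⊢ <;> omega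
  have hvX₃ : v X₃ = 0 := by
    have := hvdvd X₃; rw [hX₃] at this
    rcases hv01 X₃ with h | h | h <;> rw [h] at this ⊢ <;> omega
  -- the rest
  let R := {x : ι // x ∉ S}
  have hsplit : ∀ f : ι → ℤ, ∑ x, f x = ∑ x ∈ S, f x + ∑ r : R, f r := by
    intro f
    rw [← Finset.sum_add_sum_compl S f]
    congr 1
    exact Finset.sum_subtype (Sᶜ) (fun x => by simp) f
  have hdvdR : ∀ r : R, 11 ∣ d r := by
    intro r
    obtain ⟨a1, a2, a3, a4, a5, a6, a7⟩ := hmemS r.1 r.2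
    exact hrest r.1 a1 a2 a3 a4 a5 a6 a7
  set m : R → ℕ := fun r => d r / 11 with hm
  have hdm : ∀ r : R, d r = 11 * m r := fun r => (Nat.mul_div_cancel' (hdvdR r)).symm
  have hm1 : ∀ r : R, 1 ≤ m r := by
    intro r
    have := hpos r.1
    rw [hdm r] at this
    omega
  have hsumZ : ∑ x, ((d x : ℤ)) ^ 2 = 7920 := by
    have : ((∑ x, d x ^ 2 : ℕ) : ℤ) = 7920 := by rw [hsum]; norm_num
    push_cast at this
    exact this
  have hA : ∑ r : R, (m r) ^ 2 = 42 := by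
    have h := hsplit (fun x => (d x : ℤ) ^ 2)
    rw [hsumZ, hSsum, h1, hX₁, hX₂, hX₃, hΛ₁, hΛ₂, hY] at h
    have h2 : ∑ r : R, ((d r : ℤ)) ^ 2 = 121 * ∑ r : R, ((m r : ℤ)) ^ 2 := by
      rw [Finset.mul_sum]
      apply Finset.sum_congr rfl
      intro r _
      rw [hdm r]
      push_cast
      ring
    rw [h2] at h
    have h3 : ∑ r : R, ((m r : ℤ)) ^ 2 = 42 := by
      norm_num at h
      linarith
    exact_mod_cast h3
  have hB : ∑ r : R, v r ^ 2 = 2 := by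
    have h := hsplit (fun x => v x ^ 2)
    rw [hvsq, hSsum, hvχ₁, hvX₁, hvX₂, hvX₃, hvΛ₁, hvΛ₂, hvY] at h
    norm_num at h
    linarith
  have hC : ∑ r : R, (m r : ℤ) * v r = -3 := by
    have h := hsplit (fun x => (d x : ℤ) * v x)
    rw [hvdeg, hSsum, hvχ₁, hvX₁, hvX₂, hvX₃, hvΛ₁, hvΛ₂, hvY, h1, hΛ₁, hΛ₂] at h
    have h2 : ∑ r : R, (d r : ℤ) * v r = 11 * ∑ r : R, (m r : ℤ) * v r := by
      rw [Finset.mul_sum]
      apply Finset.sum_congr rfl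
      intro r _
      rw [hdm r]
      push_cast
      ring
    rw [h2] at h
    norm_num at h
    linarith
  have hD : ∀ r : R, (5 : ℤ) ∣ (m r : ℤ) - v r := by
    intro r
    have := hvdvd r.1
    rw [hdm r] at this
    push_cast at this
    have h10 : (5 : ℤ) ∣ 10 * (m r : ℤ) := Dvd.dvd.mul_right (by norm_num) _
    have : (5 : ℤ) ∣ (11 * (m r : ℤ) - v r) - 10 * (m r : ℤ) := dvd_sub this h10
    have e : (11 * (m r : ℤ) - v r) - 10 * (m r : ℤ) = (m r : ℤ) - v r := by ring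
    rwa [e] at this
  obtain ⟨y, y', z, hyy', hyz, hy'z, hall, hmy, hvy, hmy', hvy', hmz, hvz⟩ :=
    h8_deg_arith m (fun r => v r) hm1 (fun r => hv01 r) hD hA hB hC
  have hdy : d y = 11 := by rw [hdm y, hmy]
  have hdy' : d y' = 44 := by rw [hdm y', hmy']
  have hdz : d z = 55 := by rw [hdm z, hmz]
  -- the enumeration
  set f : Fin 10 → ι := ![χ₁, X₁, X₂, X₃, y, Λ₁, Λ₂, y', Y, z] with hf
  have hyS := hmemS y.1 y.2
  have hy'S := hmemS y'.1 y'.2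
  have hzS := hmemS z.1 z.2
  have hyy'v : (y : ι) ≠ (y' : ι) := fun h => hyy' (Subtype.ext h)
  have hyzv : (y : ι) ≠ (z : ι) := fun h => hyz (Subtype.ext h)
  have hy'zv : (y' : ι) ≠ (z : ι) := fun h => hy'z (Subtype.ext h)
  have hsurj : Function.Surjective f := by
    intro x
    by_cases hx : x ∈ S
    · rw [hS] at hx
      simp only [Finset.mem_insert, Finset.mem_singleton] at hx
      rcases hx with h | h | h | h | h | h | h
      · exact ⟨0, by rw [h]; rfl⟩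
      · exact ⟨1, by rw [h]; rfl⟩
      · exact ⟨2, by rw [h]; rfl⟩
      · exact ⟨3, by rw [h]; rfl⟩
      · exact ⟨5, by rw [h]; rfl⟩
      · exact ⟨6, by rw [h]; rfl⟩
      · exact ⟨8, by rw [h]; rfl⟩
    · rcases hall ⟨x, hx⟩ with h | h | h
      · exact ⟨4, show (y : ι) = x from (congrArg Subtype.val h).symm⟩
      · exact ⟨7, show (y' : ι) = x from (congrArg Subtype.val h).symm⟩
      · exact ⟨9, show (z : ι) = x from (congrArg Subtype.val h).symm⟩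
  have hdf : ∀ i, d (f i) = (![1, 10, 10, 10, 11, 16, 16, 44, 45, 55] : Fin 10 → ℕ) i := by
    intro i
    fin_cases i
    · exact h1
    · exact hX₁
    · exact hX₂
    · exact hX₃
    · exact hdy
    · exact hΛ₁
    · exact hΛ₂
    · exact hdy'
    · exact hY
    · exact hdz
  have hvf : ∀ i, v (f i) = (![1, 0, 0, 0, 1, 1, 1, -1, 0, 0] : Fin 10 → ℤ) i := by
    intro i
    fin_cases i
    · exact hvχ₁
    · exact hvX₁
    · exact hvX₂
    · exact hvX₃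
    · exact hvy
    · exact hvΛ₁
    · exact hvΛ₂
    · exact hvy'
    · exact hvY
    · exact hvz
  have hinj : Function.Injective f := by
    intro i j hij
    have hd := hdf i
    have hd' := hdf j
    rw [hij] at hd
    have hdeq : (![1, 10, 10, 10, 11, 16, 16, 44, 45, 55] : Fin 10 → ℕ) i =
        (![1, 10, 10, 10, 11, 16, 16, 44, 45, 55] : Fin 10 → ℕ) j := by rw [← hd, ← hd']
    have hcases : ∀ i j : Fin 10, (![1, 10, 10, 10, 11, 16, 16, 44, 45, 55] : Fin 10 → ℕ) i =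
        (![1, 10, 10, 10, 11, 16, 16, 44, 45, 55] : Fin 10 → ℕ) j →
        i = j ∨ (i = 1 ∧ j = 2) ∨ (i = 2 ∧ j = 1) ∨ (i = 1 ∧ j = 3) ∨ (i = 3 ∧ j = 1) ∨
          (i = 2 ∧ j = 3) ∨ (i = 3 ∧ j = 2) ∨ (i = 5 ∧ j = 6) ∨ (i = 6 ∧ j = 5) := by decide
    rcases hcases i j hdeq with h | ⟨a, b⟩ | ⟨a, b⟩ | ⟨a, b⟩ | ⟨a, b⟩ | ⟨a, b⟩ | ⟨a, b⟩ |
      ⟨a, b⟩ | ⟨a, b⟩
    · exact h
    · rw [a, b] at hij; exact absurd hij h12
    · rw [a, b] at hij; exact absurd hij h12.symm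
    · rw [a, b] at hij; exact absurd hij h13
    · rw [a, b] at hij; exact absurd hij h13.symm
    · rw [a, b] at hij; exact absurd hij h23
    · rw [a, b] at hij; exact absurd hij h23.symm
    · rw [a, b] at hij; exact absurd hij hΛ
    · rw [a, b] at hij; exact absurd hij hΛ.symm
  exact ⟨Equiv.ofBijective f ⟨hinj, hsurj⟩, hdf, hvf, rfl, rfl, rfl, rfl, rfl, rfl, rfl⟩

end Cfsg.Agent.Helper2.M11
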