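import Mathlib
import Cfsg.Prelude.Def_Characters
import Cfsg.Prelude.Def_Blocks
import Cfsg.Agent.Helper6.IrrCount
import Cfsg.Agent.Helper6.BlockPart
import Cfsg.Agent.Helper8.M11_DegCore

/-!
# M11 cluster: DEG for characters (case A of the 11-block analysis + the rational 5-column)
-/

set_option autoImplicit false

namespace Cfsg.Agent.Helper2.M11

open Cfsg.Agent.Helper6

universe u

theorem h8_sum_charDegree_sq {G : Type u} [Group G] [Fintype G] [Fintype (Cfsg.IrrCharacter G)] :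
    ∑ χ : Cfsg.IrrCharacter G, Cfsg.charDegree (χ : G → ℂ) ^ 2 = Nat.card G := by
  have h := sum_sq_degrees (G := G)
  have h2 : ((∑ χ : Cfsg.IrrCharacter G, Cfsg.charDegree (χ : G → ℂ) ^ 2 : ℕ) : ℂ) =
      ((Nat.card G : ℕ) : ℂ) := by
    push_cast
    rw [← h]
    apply Finset.sum_congr rfl
    intro χ _
    rw [charDegree_cast_of_isCharacter (IsIrrCharacter.isCharacter χ.2)]
  exact_mod_cast h2

theorem h8_charDegree_pos {G : Type u} [Group G] [Finite G] (χ : Cfsg.IrrCharacter G) :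
    0 < Cfsg.charDegree (χ : G → ℂ) := by
  rw [Nat.pos_iff_ne_zero]
  intro h0
  have h1 := charDegree_cast_of_isCharacter (IsIrrCharacter.isCharacter χ.2)
  rw [h0] at h1
  exact IsIrrCharacter.apply_one_ne_zero χ.2 (by simpa using h1.symm)

/-- **DEG (case A)**: from the seven characters of the principal 11-block (degrees
`1, 16, 16, 45, 10, 10, 10`, all other degrees divisible by 11) and the output `v` of `col5`,
an enumeration of all irreducible characters with degrees `1,10,10,10,11,16,16,44,45,55` and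
values `1,0,0,0,1,1,1,-1,0,0` at the 5-elements. -/
theorem deg_caseA {G : Type u} [Group G] [Fintype G] [Fintype (Cfsg.IrrCharacter G)]
    (hG : Nat.card G = 7920) (v : Cfsg.IrrCharacter G → ℤ)
    (hv01 : ∀ χ : Cfsg.IrrCharacter G, v χ = 0 ∨ v χ = 1 ∨ v χ = -1)
    (hvsq : ∑ χ : Cfsg.IrrCharacter G, v χ ^ 2 = 5)
    (hvdvd : ∀ χ : Cfsg.IrrCharacter G, (5 : ℤ) ∣ (Cfsg.charDegree (χ : G → ℂ) : ℤ) - v χ)
    (hvdeg : ∑ χ : Cfsg.IrrCharacter G, (Cfsg.charDegree (χ : G → ℂ) : ℤ) * v χ = 0)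
    (χ₁ Λ₁ Λ₂ Y X₁ X₂ X₃ : Cfsg.IrrCharacter G)
    (h1 : Cfsg.charDegree (χ₁ : G → ℂ) = 1)
    (hΛ₁ : Cfsg.charDegree (Λ₁ : G → ℂ) = 16) (hΛ₂ : Cfsg.charDegree (Λ₂ : G → ℂ) = 16)
    (hΛ : Λ₁ ≠ Λ₂) (hY : Cfsg.charDegree (Y : G → ℂ) = 45)
    (hX₁ : Cfsg.charDegree (X₁ : G → ℂ) = 10) (hX₂ : Cfsg.charDegree (X₂ : G → ℂ) = 10)
    (hX₃ : Cfsg.charDegree (X₃ : G → ℂ) = 10)
    (h12 : X₁ ≠ X₂) (h13 : X₁ ≠ X₃) (h23 : X₂ ≠ X₃)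
    (hrest : ∀ χ : Cfsg.IrrCharacter G, χ ≠ χ₁ → χ ≠ Λ₁ → χ ≠ Λ₂ → χ ≠ Y → χ ≠ X₁ → χ ≠ X₂ →
      χ ≠ X₃ → 11 ∣ Cfsg.charDegree (χ : G → ℂ)) :
    ∃ e : Fin 10 ≃ Cfsg.IrrCharacter G,
      (∀ i, Cfsg.charDegree ((e i : Cfsg.IrrCharacter G) : G → ℂ) =
        (![1, 10, 10, 10, 11, 16, 16, 44, 45, 55] : Fin 10 → ℕ) i) ∧
      (∀ i, v (e i) = (![1, 0, 0, 0, 1, 1, 1, -1, 0, 0] : Fin 10 → ℤ) i) ∧
      e 0 = χ₁ ∧ e 1 = X₁ ∧ e 2 = X₂ ∧ e 3 = X₃ ∧ e 5 = Λ₁ ∧ e 6 = Λ₂ ∧ e 8 = Y := by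
  classical
  exact h8_deg_core (fun χ : Cfsg.IrrCharacter G => Cfsg.charDegree (χ : G → ℂ)) v
    (fun χ => h8_charDegree_pos χ) (by rw [h8_sum_charDegree_sq, hG]) hv01 hvsq hvdvd hvdeg
    χ₁ Λ₁ Λ₂ Y X₁ X₂ X₃ h1 hΛ₁ hΛ₂ hΛ hY hX₁ hX₂ hX₃ h12 h13 h23 hrest

end Cfsg.Agent.Helper2.M11
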