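import Mathlib
import Cfsg.Prelude.Def_Characters
import Cfsg.Prelude.Def_Blocks

/-!
# M11 cluster: the final count for S4429 from an enumeration of the irreducible characters
-/

set_option autoImplicit false

namespace Cfsg.Agent.Helper2.M11

universe u

/-- the degree vector of a simple group of order 7920 -/
def h8_degVec : Fin 10 → ℕ := ![1, 10, 10, 10, 11, 16, 16, 44, 45, 55]

theorem h8_card_filter_degVec (n : ℕ) :
    (Finset.univ.filter (fun i : Fin 10 => h8_degVec i = n)).card =
      (if n = 1 ∨ n = 11 ∨ n = 44 ∨ n = 45 ∨ n = 55 then 1 else if n = 10 then 3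
        else if n = 16 then 2 else 0) := by
  by_cases h1 : n = 1
  · subst h1; decide
  by_cases h2 : n = 11
  · subst h2; decide
  by_cases h3 : n = 44
  · subst h3; decide
  by_cases h4 : n = 45
  · subst h4; decide
  by_cases h5 : n = 55
  · subst h5; decide
  by_cases h6 : n = 10
  · subst h6; decide
  by_cases h7 : n = 16
  · subst h7; decide
  rw [if_neg (by tauto), if_neg h6, if_neg h7, Finset.card_eq_zero, Finset.filter_eq_empty_iff]
  intro i _
  fin_cases i <;> simp [h8_degVec] <;> omega

/-- From an enumeration of a type by `Fin 10` with the degree vector `1,10,10,10,11,16,16,44,45,55`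
to the multiplicity statement. -/
theorem h8_count_of_equiv {ι : Type u} (d : ι → ℕ) (e : Fin 10 ≃ ι)
    (hdeg : ∀ i, d (e i) = h8_degVec i) :
    Nat.card ι = 10 ∧ ∀ n : ℕ, Nat.card {x : ι // d x = n} =
      (if n = 1 ∨ n = 11 ∨ n = 44 ∨ n = 45 ∨ n = 55 then 1 else if n = 10 then 3
        else if n = 16 then 2 else 0) := by
  constructor
  · rw [← Nat.card_congr e]
    simp
  · intro n
    have e2 : {i : Fin 10 // h8_degVec i = n} ≃ {x : ι // d x = n} :=
      e.subtypeEquiv (fun i => by rw [hdeg i])
    rw [← Nat.card_congr e2, Nat.card_eq_fintype_card, Fintype.card_subtype]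
    exact h8_card_filter_degVec n

/-- **COUNT**: the conclusion of S4429 from an enumeration of the irreducible characters. -/
theorem count_of_enumeration {G : Type u} [Group G] (e : Fin 10 ≃ Cfsg.IrrCharacter G)
    (hdeg : ∀ i, Cfsg.charDegree ((e i : Cfsg.IrrCharacter G) : G → ℂ) =
      (![1, 10, 10, 10, 11, 16, 16, 44, 45, 55] : Fin 10 → ℕ) i) :
    Nat.card (Cfsg.IrrCharacter G) = 10 ∧
      ∀ n : ℕ, Nat.card {χ : Cfsg.IrrCharacter G // Cfsg.charDegree (χ : G → ℂ) = n} =
        (if n = 1 ∨ n = 11 ∨ n = 44 ∨ n = 45 ∨ n = 55 then 1 else if n = 10 then 3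
          else if n = 16 then 2 else 0) :=
  h8_count_of_equiv (fun χ : Cfsg.IrrCharacter G => Cfsg.charDegree (χ : G → ℂ)) e hdeg

end Cfsg.Agent.Helper2.M11
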