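import Mathlib
import Cfsg.Prelude.Def_Characters
import Cfsg.Prelude.Def_Blocks
import Cfsg.Prelude.Def_Sporadic
import Cfsg.Agent.Helper2.M11_Case
import Cfsg.Agent.Helper7.M11_Ord5
import Cfsg.Agent.Helper8.M11_B5
import Cfsg.Agent.Helper8.M11_Deg8
import Cfsg.Agent.Helper8.M11_Count

/-!
# M11 cluster: assembly of the degree statement from the interface structures

`caseB_false`: Case B is incompatible with the rational `5`-column.
`enum_of_caseA`: Case A plus the rational `5`-column gives the enumeration of the ten characters.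
`s4429_of_case`: the degree statement from `CaseA ∨ CaseB` and `C(Q) = Q` for Sylow `5`-subgroups.
-/

set_option autoImplicit false
set_option linter.style.haveILetI false

namespace Cfsg.Agent.Helper2.M11

open scoped ComplexConjugate
open Cfsg.Agent.Helper6

universe u

/-- Case B dies by the rational `5`-column: `12 ≢ 0, ±1 mod 5`. -/
theorem caseB_false {G : Type u} [Group G] {K : Subgroup G} (B : CaseB K)
    (v : Cfsg.IrrCharacter G → ℤ)
    (hv01 : ∀ χ : Cfsg.IrrCharacter G, v χ = 0 ∨ v χ = 1 ∨ v χ = -1)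
    (hvdvd : ∀ χ : Cfsg.IrrCharacter G, (5 : ℤ) ∣ (Cfsg.charDegree (χ : G → ℂ) : ℤ) - v χ) :
    False := by
  have h := hvdvd B.Y₁
  rw [B.degY₁] at h
  rcases hv01 B.Y₁ with h0 | h0 | h0 <;> rw [h0] at h <;> omega

/-- Case A plus an element `q` of order `5` with `|C(q)| = 5`, `q ~ q²`: the ten characters. -/
theorem enum_of_caseA {G : Type u} [Group G] [Fintype G] [Fintype (Cfsg.IrrCharacter G)]
    (hG : Nat.card G = 7920) {K : Subgroup G} (A : CaseA K)
    (q : G) (hq : orderOf q = 5)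
    (hC : Nat.card (Subgroup.centralizer ({q} : Set G)) = 5) (hconj : IsConj q (q ^ 2)) :
    ∃ e : Fin 10 ≃ Cfsg.IrrCharacter G,
      (∀ i, Cfsg.charDegree ((e i : Cfsg.IrrCharacter G) : G → ℂ) =
        (![1, 10, 10, 10, 11, 16, 16, 44, 45, 55] : Fin 10 → ℕ) i) ∧
      (∀ i, ((e i : Cfsg.IrrCharacter G) : G → ℂ) q =
        (((![1, 0, 0, 0, 1, 1, 1, -1, 0, 0] : Fin 10 → ℤ) i : ℤ) : ℂ)) ∧
      e 0 = triv G ∧ e 1 = A.X₁ ∧ e 2 = A.X₂ ∧ e 3 = A.X₃ ∧ e 5 = A.Λ₀ ∧ e 6 = A.Λ₁ ∧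
      e 8 = A.Y := by
  classical
  obtain ⟨v, hv, hv01, hvsq, hvdvd, hvdeg⟩ := col5 q hq hC hconj
  have hnd := A.nodup
  simp only [List.nodup_cons, List.mem_cons, List.not_mem_nil, or_false, not_or,
    List.nodup_nil, and_true, not_false_eq_true] at hnd
  obtain ⟨⟨h01, h02, h03, h04, h05, h06⟩, ⟨h12, h13, h14, h15, h16⟩, ⟨h23, h24, h25, h26⟩,
    ⟨h34, h35, h36⟩, ⟨h45, h46⟩, h56⟩ := hnd
  have hdt : Cfsg.charDegree ((triv G : Cfsg.IrrCharacter G) : G → ℂ) = 1 := by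
    have := charDegree_cast_of_isCharacter
      (IsIrrCharacter.isCharacter (triv G : Cfsg.IrrCharacter G).2)
    simp only [triv] at this
    exact_mod_cast this
  obtain ⟨e, hdeg, hve, e0, e1, e2, e3, e5, e6, e8⟩ := deg_caseA hG v hv01 hvsq hvdvd hvdeg
    (triv G) A.Λ₀ A.Λ₁ A.Y A.X₁ A.X₂ A.X₃ hdt A.degΛ₀ A.degΛ₁ h12 A.degY A.degX₁ A.degX₂
    A.degX₃ h45 h46 h56
    (fun χ c0 c1 c2 c3 c4 c5 c6 => (A.rest χ (by
      simp only [List.mem_cons, List.not_mem_nil, or_false, not_or]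
      exact ⟨c0, c1, c2, c3, c4, c5, c6⟩)).2)
  refine ⟨e, hdeg, fun i => ?_, e0, e1, e2, e3, e5, e6, e8⟩
  rw [hv (e i), hve i]

/-- the degree statement from the interface: either case of the principal `11`-block together
with self-centralizing Sylow `5`-subgroups. -/
theorem s4429_of_case {G : Type u} [Group G] [Fintype G] [Fintype (Cfsg.IrrCharacter G)]
    (hG : Cfsg.IsM11 G) {K : Subgroup G}
    (hcase : Nonempty (CaseA K) ∨ Nonempty (CaseB K))
    (hC : ∀ Q : Sylow 5 G,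
      Subgroup.centralizer ((Q : Subgroup G) : Set G) = (Q : Subgroup G)) :
    Nat.card (Cfsg.IrrCharacter G) = 10 ∧
      ∀ n : ℕ, Nat.card {χ : Cfsg.IrrCharacter G // Cfsg.charDegree (χ : G → ℂ) = n} =
        (if n = 1 ∨ n = 11 ∨ n = 44 ∨ n = 45 ∨ n = 55 then 1 else if n = 10 then 3
          else if n = 16 then 2 else 0) := by
  classical
  have hcard : Nat.card G = 7920 := hG.2
  haveI : Fact (Nat.Prime 5) := ⟨by norm_num⟩
  obtain ⟨q, hq⟩ := exists_prime_orderOf_dvd_card' (G := G) 5 (by rw [hcard]; norm_num)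
  obtain ⟨hCq, hconj⟩ := order5_facts hG hC q hq
  rcases hcase with ⟨⟨A⟩⟩ | ⟨⟨B⟩⟩
  · obtain ⟨e, hdeg, -⟩ := enum_of_caseA hcard A q hq hCq hconj
    exact count_of_enumeration e hdeg
  · obtain ⟨v, -, hv01, -, hvdvd, -⟩ := col5 q hq hCq hconj
    exact (caseB_false B v hv01 hvdvd).elim

end Cfsg.Agent.Helper2.M11
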