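import Mathlib
import Cfsg.Agent.Helper5.SaDefs

/-!
# S4025 piece N1: counting the 2-dimensional subspaces of a finite vector space (helper8)
-/

set_option autoImplicit false

namespace Cfsg.Agent.Helper5.Sa

/-- the dimension from the cardinality -/
theorem h8_finrank_of_card (p : ℕ) [Fact p.Prime] {V : Type*} [AddCommGroup V]
    [Module (ZMod p) V] [Finite V] {k : ℕ} (h : Nat.card V = p ^ k) :
    Module.finrank (ZMod p) V = k := by
  have : Fintype V := Fintype.ofFinite V
  have h1 := Module.card_eq_pow_finrank (K := ZMod p) (V := V)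
  rw [ZMod.card, ← Nat.card_eq_fintype_card, h] at h1
  exact (Nat.pow_right_injective (Fact.out : p.Prime).two_le h1).symm

/-- the cardinality from the dimension -/
theorem h8_card_of_finrank (p : ℕ) [Fact p.Prime] {V : Type*} [AddCommGroup V]
    [Module (ZMod p) V] [Finite V] :
    Nat.card V = p ^ Module.finrank (ZMod p) V := by
  have : Fintype V := Fintype.ofFinite V
  have h1 := Module.card_eq_pow_finrank (K := ZMod p) (V := V)
  rw [ZMod.card, ← Nat.card_eq_fintype_card] at h1
  exact h1

/-- the number of linearly independent pairs -/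
theorem h8_card_pairs (p : ℕ) [Fact p.Prime] {V : Type*} [AddCommGroup V]
    [Module (ZMod p) V] [Finite V] {n : ℕ} (hn : 2 ≤ n) (hV : Nat.card V = p ^ n) :
    Nat.card {s : Fin 2 → V // LinearIndependent (ZMod p) s} = (p ^ n - 1) * (p ^ n - p) := by
  have hfr : Module.finrank (ZMod p) V = n := h8_finrank_of_card p hV
  have h1 := card_linearIndependent (K := ZMod p) (V := V) (k := 2) (by rw [hfr]; exact hn)
  rw [Fin.prod_univ_two, hfr, ZMod.card] at h1
  simpa using h1

theorem count_two (p n : ℕ) [Fact p.Prime] (hn : 2 ≤ n) {V : Type*} [AddCommGroup V]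
    [Module (ZMod p) V] [Finite V] (hV : Nat.card V = p ^ n) :
    Nat.card {W : Submodule (ZMod p) V // Nat.card W = p ^ 2} * ((p ^ 2 - 1) * (p ^ 2 - p)) =
      (p ^ n - 1) * (p ^ n - p) := by
  classical
  have hfinS : Fintype {W : Submodule (ZMod p) V // Nat.card W = p ^ 2} := Fintype.ofFinite _
  -- the span map
  have hspan : ∀ s : {s : Fin 2 → V // LinearIndependent (ZMod p) s},
      Nat.card (Submodule.span (ZMod p) (Set.range s.1)) = p ^ 2 := by
    intro s
    rw [h8_card_of_finrank p, finrank_span_eq_card s.2, Fintype.card_fin]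
  let f : {s : Fin 2 → V // LinearIndependent (ZMod p) s} →
      {W : Submodule (ZMod p) V // Nat.card W = p ^ 2} :=
    fun s => ⟨Submodule.span (ZMod p) (Set.range s.1), hspan s⟩
  -- the fibres
  have hfib : ∀ W : {W : Submodule (ZMod p) V // Nat.card W = p ^ 2},
      Nat.card {x : {s : Fin 2 → V // LinearIndependent (ZMod p) s} // f x = W} =
        (p ^ 2 - 1) * (p ^ 2 - p) := by
    intro W
    rw [← h8_card_pairs p (le_refl 2) W.2]
    have hW2 : Module.finrank (ZMod p) W.1 = 2 := h8_finrank_of_card p W.2
    refine Nat.card_congr ⟨fun x => ⟨fun i => ⟨x.1.1 i, ?_⟩, ?_⟩, fun t => ⟨⟨fun i => (t.1 i : V), ?_⟩, ?_⟩,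
      ?_, ?_⟩
    · have h1 := congrArg Subtype.val x.2
      change Submodule.span (ZMod p) (Set.range x.1.1) = W.1 at h1
      rw [← h1]
      exact Submodule.subset_span (Set.mem_range_self i)
    · apply LinearIndependent.of_comp W.1.subtype
      exact x.1.2
    · exact t.2.map' W.1.subtype (Submodule.ker_subtype _)
    · apply Subtype.ext
      change Submodule.span (ZMod p) (Set.range fun i => (t.1 i : V)) = W.1
      have h1 : (Set.range fun i => (t.1 i : V)) = W.1.subtype '' Set.range t.1 := by
        rw [← Set.range_comp]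
        rfl
      rw [h1, ← Submodule.map_span,
        t.2.span_eq_top_of_card_eq_finrank' (by rw [Fintype.card_fin, hW2]),
        Submodule.map_subtype_top]
    · intro x
      rfl
    · intro t
      rfl
  rw [← h8_card_pairs p hn hV, Nat.card_congr (Equiv.sigmaFiberEquiv f).symm, Nat.card_sigma,
    Finset.sum_congr rfl (fun W _ => hfib W), Finset.sum_const, Finset.card_univ, smul_eq_mul,
    Nat.card_eq_fintype_card]

end Cfsg.Agent.Helper5.Sa
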