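import Mathlib
import Cfsg.Agent.Helper5.SaDefs

/-!
# S4025 piece N2: the number of subspaces of a given size times `p - 1` divides `|Ã|` (helper8)
-/

set_option autoImplicit false

namespace Cfsg.Agent.Helper5.Sa

variable {p : ℕ} [Fact p.Prime] {V : Type*} [AddCommGroup V] [Module (ZMod p) V]

/-- images of subspaces under linear automorphisms keep their cardinality -/
theorem h8_card_map (g : V ≃ₗ[ZMod p] V) (W : Submodule (ZMod p) V) :
    Nat.card (W.map (g : V →ₗ[ZMod p] V)) = Nat.card W :=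
  (Nat.card_congr (Submodule.equivMapOfInjective (g : V →ₗ[ZMod p] V) g.injective W).toEquiv).symm

/-- the action of a group of linear automorphisms on the subspaces of a given cardinality -/
@[reducible] def h8_subspaceAction (A : Subgroup (V ≃ₗ[ZMod p] V)) (m : ℕ) :
    MulAction A {W : Submodule (ZMod p) V // Nat.card W = m} where
  smul g W := ⟨W.1.map ((g : V ≃ₗ[ZMod p] V) : V →ₗ[ZMod p] V), by rw [h8_card_map]; exact W.2⟩
  one_smul W := by
    apply Subtype.ext
    change W.1.map (((1 : A) : V ≃ₗ[ZMod p] V) : V →ₗ[ZMod p] V) = W.1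
    ext v
    simp
  mul_smul g g' W := by
    apply Subtype.ext
    change W.1.map (((g * g' : A) : V ≃ₗ[ZMod p] V) : V →ₗ[ZMod p] V) =
      (W.1.map ((g' : V ≃ₗ[ZMod p] V) : V →ₗ[ZMod p] V)).map
        ((g : V ≃ₗ[ZMod p] V) : V →ₗ[ZMod p] V)
    rw [← Submodule.map_comp]
    rfl

/-- the scalar automorphisms, as a homomorphism -/
def h8_scalarHom (p : ℕ) [Fact p.Prime] (V : Type*) [AddCommGroup V] [Module (ZMod p) V] :
    (ZMod p)ˣ →* (V ≃ₗ[ZMod p] V) where
  toFun c := LinearEquiv.smulOfUnit c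
  map_one' := by
    ext v
    simp [LinearEquiv.smulOfUnit]
  map_mul' c c' := by
    ext v
    simp [LinearEquiv.smulOfUnit, mul_smul]

theorem h8_scalarHom_apply (c : (ZMod p)ˣ) (v : V) :
    h8_scalarHom p V c v = (c : ZMod p) • v := rfl

theorem h8_scalarHom_injective [Nontrivial V] : Function.Injective (h8_scalarHom p V) := by
  rw [injective_iff_map_eq_one]
  intro c hc
  obtain ⟨v, hv⟩ := exists_ne (0 : V)
  have h1 : (c : ZMod p) • v = v := by
    rw [← h8_scalarHom_apply, hc]
    rfl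
  have h2 : ((c : ZMod p) - 1) • v = 0 := by rw [sub_smul, one_smul, h1, sub_self]
  rcases smul_eq_zero.mp h2 with h3 | h3
  · exact Units.ext (sub_eq_zero.mp h3)
  · exact absurd h3 hv

theorem h8_map_scalar (c : (ZMod p)ˣ) (W : Submodule (ZMod p) V) :
    W.map ((h8_scalarHom p V c : V ≃ₗ[ZMod p] V) : V →ₗ[ZMod p] V) = W := by
  ext v
  rw [Submodule.mem_map]
  constructor
  · rintro ⟨w, hw, rfl⟩
    exact W.smul_mem _ hw
  · intro hv
    refine ⟨((c⁻¹ : (ZMod p)ˣ) : ZMod p) • v, W.smul_mem _ hv, ?_⟩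
    change (c : ZMod p) • (((c⁻¹ : (ZMod p)ˣ) : ZMod p) • v) = v
    rw [smul_smul, ← Units.val_mul, mul_inv_cancel, Units.val_one, one_smul]

theorem orbit_dvd (p : ℕ) [Fact p.Prime] {V : Type*} [AddCommGroup V]
    [Module (ZMod p) V] [Finite V] [Nontrivial V] {X : Type*} [Group X]
    (ρ₀ : X →* (V ≃ₗ[ZMod p] V)) (k : ℕ)
    (h : ∀ W W' : Submodule (ZMod p) V, Nat.card W = Nat.card W' →
      ∃ x : X, W.map ((ρ₀ x : V ≃ₗ[ZMod p] V) : V →ₗ[ZMod p] V) = W')
    (hex : ∃ W : Submodule (ZMod p) V, Nat.card W = p ^ k) :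
    Nat.card {W : Submodule (ZMod p) V // Nat.card W = p ^ k} * (p - 1) ∣
      Nat.card (tildeA ρ₀) := by
  classical
  obtain ⟨W₀, hW₀⟩ := hex
  let _ : MulAction (tildeA ρ₀) {W : Submodule (ZMod p) V // Nat.card W = p ^ k} :=
    h8_subspaceAction (tildeA ρ₀) (p ^ k)
  have hsmul : ∀ (g : tildeA ρ₀) (W : {W : Submodule (ZMod p) V // Nat.card W = p ^ k}),
      (g • W).1 = W.1.map ((g : V ≃ₗ[ZMod p] V) : V →ₗ[ZMod p] V) := fun _ _ => rfl
  have hfinA : Finite (V ≃ₗ[ZMod p] V) := Finite.of_injective (fun g => (g : V → V))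
    (fun g g' hgg' => LinearEquiv.ext (fun v => congrFun hgg' v))
  have hfinS : Finite {W : Submodule (ZMod p) V // Nat.card W = p ^ k} := inferInstance
  have : Fintype (tildeA ρ₀) := Fintype.ofFinite _
  have : Fintype {W : Submodule (ZMod p) V // Nat.card W = p ^ k} := Fintype.ofFinite _
  let w₀ : {W : Submodule (ZMod p) V // Nat.card W = p ^ k} := ⟨W₀, hW₀⟩
  -- transitivity
  have horb : MulAction.orbit (tildeA ρ₀) w₀ = Set.univ := by
    rw [Set.eq_univ_iff_forall]
    intro W
    obtain ⟨x, hx⟩ := h W₀ W.1 (hW₀.trans W.2.symm)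
    refine ⟨⟨ρ₀ x, mem_tildeA.mpr ⟨x, 1, fun v => by rw [Units.val_one, one_smul]⟩⟩, ?_⟩
    apply Subtype.ext
    change (_ • w₀).1 = W.1
    rw [hsmul]
    exact hx
  have hos := MulAction.card_orbit_mul_card_stabilizer_eq_card_group (tildeA ρ₀) w₀
  have horbc : Fintype.card (MulAction.orbit (tildeA ρ₀) w₀) =
      Nat.card {W : Submodule (ZMod p) V // Nat.card W = p ^ k} := by
    rw [← Nat.card_eq_fintype_card, horb, Nat.card_congr (Equiv.Set.univ _)]
  -- the scalars lie in the stabilizer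
  let φ : (ZMod p)ˣ →* MulAction.stabilizer (tildeA ρ₀) w₀ :=
    { toFun := fun c => ⟨⟨h8_scalarHom p V c, mem_tildeA.mpr ⟨1, c, fun v => by
          rw [map_one]; rfl⟩⟩, by
        rw [MulAction.mem_stabilizer_iff]
        apply Subtype.ext
        rw [hsmul]
        exact h8_map_scalar c _⟩
      map_one' := by
        apply Subtype.ext
        apply Subtype.ext
        exact map_one _
      map_mul' := fun c c' => by
        apply Subtype.ext
        apply Subtype.ext
        exact map_mul _ c c' }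
  have hφ : Function.Injective φ := by
    intro c c' hcc'
    apply h8_scalarHom_injective (p := p) (V := V)
    exact congrArg (fun s => ((s : MulAction.stabilizer (tildeA ρ₀) w₀) : tildeA ρ₀).1) hcc'
  have hdvd := Subgroup.card_dvd_of_injective φ hφ
  rw [Nat.card_eq_fintype_card, ZMod.card_units, Nat.card_eq_fintype_card] at hdvd
  rw [Nat.card_eq_fintype_card (α := tildeA ρ₀), ← hos, horbc]
  exact Nat.mul_dvd_mul_left _ hdvd

end Cfsg.Agent.Helper5.Sa
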