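import Mathlib

set_option autoImplicit false

/-! Two character-free lemmas for helper6's S4460 (three character degrees). -/

namespace Cfsg.Agent.Helper8.Cd3Grp

/-- dual fixed-point-freeness: a linear character of `N` trivial on `K` and invariant under
an element `x` acting fixed-point-freely on `N/K` (abelian) is trivial. -/
theorem hom_eq_one_of_fpf {G : Type*} [Group G] [Finite G] (K N : Subgroup G) [K.Normal] [N.Normal]
    (hKN : K ≤ N) (hab : ∀ a ∈ N, ∀ b ∈ N, a * b * a⁻¹ * b⁻¹ ∈ K)
    (x : G) (hfpf : ∀ y ∈ N, x * y * x⁻¹ * y⁻¹ ∈ K → y ∈ K)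
    (μ : N →* ℂˣ) (hμK : ∀ k : N, (k : G) ∈ K → μ k = 1)
    (hinv : ∀ (y : N) (hy : x * (y : G) * x⁻¹ ∈ N), μ ⟨x * y * x⁻¹, hy⟩ = μ y) :
    ∀ y : N, μ y = 1 := by
  classical
  have _ := hKN
  let K' : Subgroup N := K.subgroupOf N
  have hK'n : K'.Normal := by
    show (K.subgroupOf N).Normal
    infer_instance
  have hmemK' : ∀ y : N, y ∈ K' ↔ (y : G) ∈ K := fun y => Subgroup.mem_subgroupOf
  -- the quotient is commutative
  have hcomm : ∀ a b : N ⧸ K', a * b = b * a := by
    intro a b
    induction a using QuotientGroup.induction_on with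
    | H a =>
      induction b using QuotientGroup.induction_on with
      | H b =>
        rw [← QuotientGroup.mk_mul, ← QuotientGroup.mk_mul, QuotientGroup.eq, hmemK']
        have := hab (b : G)⁻¹ (inv_mem b.2) (a : G)⁻¹ (inv_mem a.2)
        simpa [mul_assoc] using this
  -- conjugation by x on N
  have hconj : ∀ y : N, x * (y : G) * x⁻¹ ∈ N := fun y => ‹N.Normal›.conj_mem _ y.2 x
  let cj : N → N := fun y => ⟨x * (y : G) * x⁻¹, hconj y⟩
  have hcj_mul : ∀ a b : N, cj (a * b) = cj a * cj b := by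
    intro a b
    apply Subtype.ext
    show x * ((a : G) * (b : G)) * x⁻¹ = (x * (a : G) * x⁻¹) * (x * (b : G) * x⁻¹)
    group
  -- the commutator map to the quotient
  let f : N →* N ⧸ K' := MonoidHom.mk'
    (fun y => (QuotientGroup.mk (cj y) : N ⧸ K') * (QuotientGroup.mk y : N ⧸ K')⁻¹) (by
      intro a b
      show (QuotientGroup.mk (cj (a * b)) : N ⧸ K') * (QuotientGroup.mk (a * b) : N ⧸ K')⁻¹ =
        (QuotientGroup.mk (cj a) * (QuotientGroup.mk a)⁻¹) *
          (QuotientGroup.mk (cj b) * (QuotientGroup.mk b)⁻¹)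
      rw [hcj_mul, QuotientGroup.mk_mul, QuotientGroup.mk_mul, mul_inv_rev]
      set A : N ⧸ K' := QuotientGroup.mk (cj a)
      set B : N ⧸ K' := QuotientGroup.mk (cj b)
      set a' : N ⧸ K' := QuotientGroup.mk a
      set b' : N ⧸ K' := QuotientGroup.mk b
      have h1 : B * b'⁻¹ * a'⁻¹ = a'⁻¹ * (B * b'⁻¹) := hcomm _ _
      calc A * B * (b'⁻¹ * a'⁻¹) = A * (B * b'⁻¹ * a'⁻¹) := by group
        _ = A * (a'⁻¹ * (B * b'⁻¹)) := by rw [h1]
        _ = A * a'⁻¹ * (B * b'⁻¹) := by group)
  have hf_apply : ∀ y : N, f y = (QuotientGroup.mk (cj y * y⁻¹) : N ⧸ K') := by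
    intro y
    show (QuotientGroup.mk (cj y) : N ⧸ K') * (QuotientGroup.mk y : N ⧸ K')⁻¹ = _
    rw [QuotientGroup.mk_mul, QuotientGroup.mk_inv]
  have hf_ker : ∀ y : N, f y = 1 → y ∈ K' := by
    intro y hy
    rw [hf_apply, QuotientGroup.eq_one_iff, hmemK'] at hy
    rw [hmemK']
    apply hfpf (y : G) y.2
    simpa using hy
  have hf_K' : ∀ k ∈ K', f k = 1 := by
    intro k hk
    rw [hf_apply, QuotientGroup.eq_one_iff]
    apply K'.mul_mem _ (K'.inv_mem hk)
    rw [hmemK']
    exact ‹K.Normal›.conj_mem _ ((hmemK' k).mp hk) x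
  let g : N ⧸ K' →* N ⧸ K' := QuotientGroup.lift K' f hf_K'
  have hg_inj : Function.Injective g := by
    rw [injective_iff_map_eq_one]
    intro a ha
    induction a using QuotientGroup.induction_on with
    | H a =>
      rw [QuotientGroup.eq_one_iff]
      apply hf_ker
      change f a = 1 at ha
      exact ha
  have hg_surj : Function.Surjective g := Finite.injective_iff_surjective.mp hg_inj
  intro n
  obtain ⟨a, ha⟩ := hg_surj (QuotientGroup.mk n)
  induction a using QuotientGroup.induction_on with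
  | H y =>
    have h1 : f y = (QuotientGroup.mk n : N ⧸ K') := by
      change f y = _ at ha
      exact ha
    rw [hf_apply, QuotientGroup.eq] at h1
    -- n = (cj y * y⁻¹) * k
    set k : N := (cj y * y⁻¹)⁻¹ * n with hk
    have hkK : (k : G) ∈ K := (hmemK' k).mp h1
    have hn : n = cj y * y⁻¹ * k := by rw [hk]; group
    rw [hn, map_mul, map_mul, map_inv, hμK k hkK, mul_one]
    have : μ (cj y) = μ y := hinv y (hconj y)
    rw [this, mul_inv_cancel]

/-- intersection of a family of normal `r`-complements containing the derived subgroup. -/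
theorem exists_normal_compl_of_family {G : Type*} [Group G] [Finite G] (c : ℕ) (hc : c ≠ 0)
    (h : ∀ r : ℕ, r.Prime → r ∣ c → ∃ R : Subgroup G, R.Normal ∧ commutator G ≤ R ∧
      (Nat.card R).Coprime r ∧ ∃ k : ℕ, R.index = r ^ k) :
    ∃ R : Subgroup G, R.Normal ∧ commutator G ≤ R ∧ (Nat.card R).Coprime c ∧
      ∀ q : ℕ, q.Prime → q ∣ R.index → q ∣ c := by
  classical
  -- general statement over finsets of prime factors
  have key : ∀ s : Finset ℕ, s ⊆ c.primeFactors →
      ∃ R : Subgroup G, R.Normal ∧ commutator G ≤ R ∧ (∀ r ∈ s, (Nat.card R).Coprime r) ∧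
        ∀ q : ℕ, q.Prime → q ∣ R.index → q ∈ s := by
    intro s
    induction s using Finset.induction_on with
    | empty =>
      intro _
      refine ⟨⊤, inferInstance, le_top, by simp, ?_⟩
      intro q hq hqd
      rw [Subgroup.index_top] at hqd
      exact absurd (Nat.dvd_one.mp hqd) hq.one_lt.ne'
    | insert r s hrs ih =>
      intro hsub
      obtain ⟨R, hRn, hRc, hRcop, hRidx⟩ := ih (fun a ha => hsub (Finset.mem_insert_of_mem ha))
      have hr := hsub (Finset.mem_insert_self r s)
      obtain ⟨Rr, hRrn, hRrc, hRrcop, k, hRrk⟩ :=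
        h r (Nat.prime_of_mem_primeFactors hr) (Nat.dvd_of_mem_primeFactors hr)
      have := hRn
      have := hRrn
      refine ⟨R ⊓ Rr, inferInstance, le_inf hRc hRrc, ?_, ?_⟩
      · intro t ht
        rcases Finset.mem_insert.mp ht with rfl | ht
        · exact Nat.Coprime.coprime_dvd_left (Subgroup.card_dvd_of_le inf_le_right) hRrcop
        · exact Nat.Coprime.coprime_dvd_left (Subgroup.card_dvd_of_le inf_le_left) (hRcop t ht)
      · intro q hq hqd
        have h1 : (R ⊓ Rr).relIndex R * R.index = (R ⊓ Rr).index :=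
          Subgroup.relIndex_mul_index inf_le_left
        rw [← h1, Subgroup.inf_relIndex_left] at hqd
        rcases (Nat.Prime.dvd_mul hq).mp hqd with h2 | h2
        · have h3 : q ∣ Rr.index := dvd_trans h2 (Subgroup.relIndex_dvd_index_of_normal Rr R)
          rw [hRrk] at h3
          have h4 := hq.dvd_of_dvd_pow h3
          have h5 := (Nat.prime_dvd_prime_iff_eq hq (Nat.prime_of_mem_primeFactors hr)).mp h4
          rw [h5]
          exact Finset.mem_insert_self r s
        · exact Finset.mem_insert_of_mem (hRidx q hq h2)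
  obtain ⟨R, hRn, hRc, hRcop, hRidx⟩ := key c.primeFactors (Finset.Subset.refl _)
  refine ⟨R, hRn, hRc, ?_, ?_⟩
  · by_contra hnc
    obtain ⟨p, hp, hp1, hp2⟩ := Nat.Prime.not_coprime_iff_dvd.mp hnc
    have hmem : p ∈ c.primeFactors := Nat.mem_primeFactors.mpr ⟨hp, hp2, hc⟩
    have := hRcop p hmem
    exact (Nat.Prime.coprime_iff_not_dvd hp).mp this.symm hp1
  · intro q hq hqd
    exact Nat.dvd_of_mem_primeFactors (hRidx q hq hqd)

end Cfsg.Agent.Helper8.Cd3Grp
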