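import Mathlib
import Cfsg.Agent.Helper6.KuDefs
import Cfsg.Agent.Helper6.CovPrim
import Cfsg.Agent.Helper3.Ku_LinIndRed

/-!
# S4607 piece G2a: reduction modulo the maximal ideal preserves the dimension of `A E`
for an idempotent `E` of the local group algebra (helper8)
-/

set_option autoImplicit false

namespace Cfsg.Agent.Helper6.Ku

open Cfsg.Agent.Helper6 Cfsg.Agent.Helper6.Cov

section pure
variable {F : Type*} [Field F] {A : Type*} [Ring A] [Algebra F A]

/-- complement: `dim A i + dim A (1 - i) = dim A` -/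
theorem h8_finrank_leftIdeal_add [FiniteDimensional F A] (i : A) (hi : IsIdempotentElem i) :
    Module.finrank F (leftIdeal F i) + Module.finrank F (leftIdeal F (1 - i)) =
      Module.finrank F A := by
  have hker : LinearMap.ker (LinearMap.mulRight F i) = leftIdeal F (1 - i) := by
    ext x
    rw [LinearMap.mem_ker, LinearMap.mulRight_apply, mem_leftIdeal]
    constructor
    · intro h
      exact ⟨x, by rw [mul_sub, mul_one, h, sub_zero]⟩
    · rintro ⟨y, rfl⟩
      rw [mul_assoc, sub_mul, one_mul, hi.eq, sub_self, mul_zero]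
  have := LinearMap.finrank_range_add_finrank_ker (LinearMap.mulRight F i)
  rw [hker] at this
  exact this

theorem h8_isIdempotentElem_one_sub {i : A} (hi : i * i = i) : (1 - i) * (1 - i) = 1 - i := by
  rw [mul_sub, mul_one, sub_mul, one_mul, hi, sub_self, sub_zero]

end pure

section coeff

/-- the coefficient functions of an element of a group algebra, as a linear map -/
noncomputable def h8_coeffFun (k : Type*) [Field k] (G : Type*) [Group G] [Finite G] :
    MonoidAlgebra k G →ₗ[k] (G → k) :=
  (Finsupp.linearEquivFunOnFinite k k G).toLinearMap ∘ₗ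
    (MonoidAlgebra.coeffLinearEquiv k).toLinearMap

theorem h8_coeffFun_apply (k : Type*) [Field k] (G : Type*) [Group G] [Finite G]
    (x : MonoidAlgebra k G) (g : G) : h8_coeffFun k G x g = x.coeff g := rfl

theorem h8_coeffFun_ker (k : Type*) [Field k] (G : Type*) [Group G] [Finite G] :
    LinearMap.ker (h8_coeffFun k G) = ⊥ := by
  unfold h8_coeffFun
  rw [LinearMap.ker_comp, LinearEquiv.ker, Submodule.comap_bot, LinearEquiv.ker]

theorem h8_finrank_groupAlgebra (k : Type*) [Field k] (G : Type*) [Group G] [Finite G] :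
    Module.finrank k (MonoidAlgebra k G) = Nat.card G := by
  have : Fintype G := Fintype.ofFinite G
  rw [Module.finrank_eq_card_basis (MonoidAlgebra.basis G k), Nat.card_eq_fintype_card]

instance h8_finite_groupAlgebra (k : Type*) [Field k] (G : Type*) [Group G] [Finite G] :
    Module.Finite k (MonoidAlgebra k G) :=
  Module.Finite.of_basis (MonoidAlgebra.basis G k)

end coeff

section ga

universe u
variable {G : Type u} [Group G] {M : Ideal Cfsg.AlgInt}

theorem h8_finrank_leftIdeal_red_le [Finite G] (hM : M.IsMaximal)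
    (E : MonoidAlgebra (Rloc hM) G) (hE : E * E = E) :
    Module.finrank (Fres hM) (leftIdeal (Fres hM) (gaRed hM G E)) ≤
      Module.finrank ℂ (leftIdeal ℂ (gaEmb hM G E)) := by
  classical
  have hfin : Fintype G := Fintype.ofFinite G
  set m := Module.finrank (Fres hM) (leftIdeal (Fres hM) (gaRed hM G E)) with hm
  let b := Module.finBasis (Fres hM) (leftIdeal (Fres hM) (gaRed hM G E))
  let Y : Fin m → MonoidAlgebra (Rloc hM) G :=
    fun k => gaSec hM ((b k : leftIdeal (Fres hM) (gaRed hM G E)) : MonoidAlgebra (Fres hM) G) * E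
  have hY : ∀ k, gaRed hM G (Y k) =
      ((b k : leftIdeal (Fres hM) (gaRed hM G E)) : MonoidAlgebra (Fres hM) G) := by
    intro k
    obtain ⟨z, hz⟩ := (mem_leftIdeal (Fres hM)).mp (b k).2
    rw [map_mul, gaRed_gaSec, ← hz, mul_assoc, ← map_mul, hE]
  have h1 : LinearIndependent (Fres hM) (fun k : Fin m => fun j : G =>
      (Ideal.Quotient.mk (Mloc hM)) ((Y k).coeff j)) := by
    have h2 := (b.linearIndependent.map' (Submodule.subtype _) (Submodule.ker_subtype _)).map'
      (h8_coeffFun (Fres hM) G) (h8_coeffFun_ker _ _)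
    have heq : (fun k : Fin m => fun j : G =>
        (Ideal.Quotient.mk (Mloc hM)) ((Y k).coeff j)) =
        (h8_coeffFun (Fres hM) G) ∘ (Submodule.subtype _) ∘ b := by
      funext k j
      rw [Function.comp_apply, Function.comp_apply, h8_coeffFun_apply, Submodule.subtype_apply,
        ← hY k, gaRed_coeff]
    rw [heq]
    exact h2
  have h3 := linearIndependent_of_red hM (fun k j => (Y k).coeff j) h1
  have h4 : LinearIndependent ℂ (fun k : Fin m => gaEmb hM G (Y k)) := by
    apply LinearIndependent.of_comp (h8_coeffFun ℂ G)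
    have heq : (h8_coeffFun ℂ G) ∘ (fun k : Fin m => gaEmb hM G (Y k)) =
        (fun k j => (((Y k).coeff j : Rloc hM) : ℂ)) := by
      funext k j
      rw [Function.comp_apply, h8_coeffFun_apply, gaEmb_coeff]
    rw [heq]
    exact h3
  have hmem : ∀ k, gaEmb hM G (Y k) ∈ leftIdeal ℂ (gaEmb hM G E) := by
    intro k
    rw [mem_leftIdeal]
    exact ⟨gaEmb hM G (gaSec hM _), (map_mul _ _ _).symm⟩
  have h5 : LinearIndependent ℂ (fun k : Fin m =>
      (⟨gaEmb hM G (Y k), hmem k⟩ : leftIdeal ℂ (gaEmb hM G E))) := by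
    apply LinearIndependent.of_comp (Submodule.subtype _)
    exact h4
  have h6 := h5.fintype_card_le_finrank
  rwa [Fintype.card_fin] at h6

/-- G2a -/
theorem finrank_leftIdeal_red [Finite G] (hM : M.IsMaximal) (E : MonoidAlgebra (Rloc hM) G)
    (hE : E * E = E) :
    Module.finrank (Fres hM) (leftIdeal (Fres hM) (gaRed hM G E)) =
      Module.finrank ℂ (leftIdeal ℂ (gaEmb hM G E)) := by
  have h1 := h8_finrank_leftIdeal_red_le hM E hE
  have h2 := h8_finrank_leftIdeal_red_le hM (1 - E) (h8_isIdempotentElem_one_sub hE)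
  rw [map_sub, map_one, map_sub, map_one] at h2
  have h3 := h8_finrank_leftIdeal_add (F := Fres hM) (gaRed hM G E)
    (by rw [IsIdempotentElem, ← map_mul, hE])
  have h4 := h8_finrank_leftIdeal_add (F := ℂ) (gaEmb hM G E)
    (by rw [IsIdempotentElem, ← map_mul, hE])
  rw [h8_finrank_groupAlgebra] at h3 h4
  omega

end ga

end Cfsg.Agent.Helper6.Ku
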