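import Mathlib
import Cfsg.Agent.Helper6.KuDefs

/-!
# S4607 piece K2: the semisimple quotient of a "two-character" symmetric algebra is a full
matrix algebra (helper8)
-/

set_option autoImplicit false

namespace Cfsg.Agent.Helper6.Ku

variable {F : Type*} [Field F] {A : Type*} [Ring A] [Algebra F A]

/-- a symmetric form kills the span of the commutators -/
theorem h8_lam_commSpan (lam : A →ₗ[F] F) (hlam : IsSymForm F lam) {x : A}
    (hx : x ∈ commSpan F A) : lam x = 0 := by
  unfold commSpan at hx
  induction hx using Submodule.span_induction with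
  | mem x h =>
    obtain ⟨a, b, rfl⟩ := h
    rw [map_sub, hlam.symm a b, sub_self]
  | zero => exact map_zero _
  | add x y _ _ hx hy => rw [map_add, hx, hy, add_zero]
  | smul c x _ hx => rw [map_smul, hx, smul_zero]

/-- own copy of K1: the centre is the orthogonal of the commutator space -/
theorem h8_finrank_center_add_commSpan [FiniteDimensional F A] (lam : A →ₗ[F] F)
    (hlam : IsSymForm F lam) :
    Module.finrank F (Subalgebra.center F A) + Module.finrank F (commSpan F A) =
      Module.finrank F A := by
  let B : LinearMap.BilinForm F A := (LinearMap.mul F A).compr₂ lam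
  have hB : ∀ a b, B a b = lam (a * b) := fun a b => rfl
  have hnd : B.Nondegenerate := by
    refine ⟨?_, ?_⟩
    · intro a ha
      exact hlam.nondeg a (fun b => by rw [← hB]; exact ha b)
    · intro a ha
      exact hlam.nondeg a (fun b => by rw [hlam.symm, ← hB]; exact ha b)
  have horth : B.orthogonal (commSpan F A) =
      Subalgebra.toSubmodule (Subalgebra.center F A) := by
    ext z
    rw [LinearMap.BilinForm.mem_orthogonal_iff, Subalgebra.mem_toSubmodule,
      Subalgebra.mem_center_iff]
    constructor
    · intro h b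
      have h2 : ∀ a : A, lam ((b * z - z * b) * a) = 0 := by
        intro a
        have h3 := h (a * b - b * a)
          (Submodule.subset_span ⟨a, b, rfl⟩)
        rw [hB, sub_mul, map_sub] at h3
        have h4 : lam (b * a * z) = lam (a * z * b) := by
          rw [mul_assoc b a z, hlam.symm b (a * z)]
        rw [h4] at h3
        have h5 : (b * z - z * b) * a = b * z * a - z * b * a := sub_mul _ _ _
        rw [h5, map_sub, hlam.symm (b * z) a, hlam.symm (z * b) a]
        rw [← mul_assoc, ← mul_assoc]
        rw [mul_assoc a b z] at h3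
        rw [mul_assoc a b z]
        rw [mul_assoc a z b] at h3 ⊢
        exact h3
      have := hlam.nondeg _ h2
      exact sub_eq_zero.mp this
    · intro h k hk
      rw [hB]
      unfold commSpan at hk
      induction hk using Submodule.span_induction with
      | mem x hx =>
        obtain ⟨a, b, rfl⟩ := hx
        rw [sub_mul, map_sub, mul_assoc b a z, hlam.symm b (a * z), mul_assoc a z b, ← h b,
          mul_assoc a b z, sub_self]
      | zero => rw [zero_mul, map_zero]
      | add x y _ _ hx hy => rw [add_mul, map_add, hx, hy, add_zero]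
      | smul c x _ hx => rw [smul_mul_assoc, map_smul, hx, smul_zero]
  have h1 := LinearMap.BilinForm.finrank_orthogonal hnd (commSpan F A)
  rw [horth] at h1
  have h2 : Module.finrank F (commSpan F A) ≤ Module.finrank F A := Submodule.finrank_le _
  have h3 : Module.finrank F (Subalgebra.center F A) =
      Module.finrank F (Subalgebra.toSubmodule (Subalgebra.center F A)) := rfl
  omega

/-- K2: the semisimple quotient is a single full matrix algebra. -/
theorem exists_matrix_quotient [IsAlgClosed F] [FiniteDimensional F A] [Nontrivial A]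
    (lam : A →ₗ[F] F) (hlam : IsSymForm F lam)
    (hprim : ∀ e : A, IsIdempotentElem e → (∀ x : A, e * x = x * e) → e = 0 ∨ e = 1)
    (hZ : Module.finrank F (Subalgebra.center F A) ≤ 2) :
    ∃ n : ℕ, 0 < n ∧ Nonempty ((A ⧸ Ring.jacobson A) ≃ₐ[F] Matrix (Fin n) (Fin n) F) := by
  have hArt : IsArtinianRing A := IsArtinianRing.of_finite F A
  obtain ⟨l, d, hd, ⟨ψ⟩⟩ :=
    IsSemisimpleRing.exists_algEquiv_pi_matrix_of_isAlgClosed F (A ⧸ Ring.jacobson A)
  -- the quotient map
  let q : A →ₐ[F] A ⧸ Ring.jacobson A := Ideal.Quotient.mkₐ F (Ring.jacobson A)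
  have hq : Function.Surjective q := Ideal.Quotient.mkₐ_surjective F _
  have hqJ : ∀ x ∈ Ring.jacobson A, q x = 0 := fun x hx =>
    Ideal.Quotient.eq_zero_iff_mem.mpr hx
  have hqJ' : ∀ x, q x = 0 → x ∈ Ring.jacobson A := fun x hx =>
    Ideal.Quotient.eq_zero_iff_mem.mp hx
  -- the trace map
  let T : A →ₗ[F] (Fin l → F) := LinearMap.pi (fun k =>
    (Matrix.traceLinearMap (Fin (d k)) F F) ∘ₗ (LinearMap.proj k) ∘ₗ ψ.toLinearMap ∘ₗ
      q.toLinearMap)
  have hT : ∀ x k, T x k = Matrix.trace (ψ (q x) k) := fun x k => rfl
  have hTK : commSpan F A ≤ LinearMap.ker T := by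
    unfold commSpan
    rw [Submodule.span_le]
    rintro x ⟨a, b, rfl⟩
    rw [SetLike.mem_coe, LinearMap.mem_ker]
    ext k
    rw [hT, map_sub, map_mul, map_mul, map_sub, map_mul, map_mul, Pi.sub_apply, Pi.mul_apply,
      Pi.mul_apply, Matrix.trace_sub, Matrix.trace_mul_comm, sub_self]
    rfl
  have hTs : Function.Surjective T := by
    intro c
    obtain ⟨x, hx⟩ := hq (ψ.symm (fun k => c k • Matrix.single (0 : Fin (d k)) 0 (1 : F)))
    refine ⟨x, ?_⟩
    ext k
    rw [hT, hx, AlgEquiv.apply_symm_apply, Matrix.trace_smul, Matrix.trace_single_eq_same,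
      smul_eq_mul, mul_one]
  have hrange : Module.finrank F (LinearMap.range T) = l := by
    rw [LinearMap.range_eq_top.mpr hTs, finrank_top, Module.finrank_fin_fun]
  have hrk := LinearMap.finrank_range_add_finrank_ker T
  have hK1 := h8_finrank_center_add_commSpan lam hlam
  have hmono := Submodule.finrank_mono hTK
  obtain rfl | rfl | rfl : l = 0 ∨ l = 1 ∨ l = 2 := by omega
  · -- l = 0: the quotient is trivial
    exfalso
    have hsub : Subsingleton (A ⧸ Ring.jacobson A) := ψ.injective.subsingleton
    have htop : Ring.jacobson A = ⊤ := Ideal.Quotient.subsingleton_iff.mp hsub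
    rw [← Ideal.jacobson_bot, Ideal.jacobson_eq_top_iff] at htop
    exact bot_ne_top htop
  · -- l = 1
    refine ⟨d 0, Nat.pos_of_ne_zero (hd 0).out, ⟨ψ.trans ?_⟩⟩
    exact AlgEquiv.ofBijective (Pi.evalAlgHom F (fun k : Fin 1 => Matrix (Fin (d k)) (Fin (d k)) F) 0)
      ⟨fun x y hxy => by
        funext k
        obtain rfl : k = 0 := Subsingleton.elim _ _
        exact hxy,
       fun y => ⟨fun k => by
        obtain rfl : k = 0 := Subsingleton.elim _ _
        exact y, rfl⟩⟩
  · -- l = 2
    exfalso
    have hker : commSpan F A = LinearMap.ker T :=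
      Submodule.eq_of_le_of_finrank_le hTK (by omega)
    have hJ0 : ∀ x ∈ Ring.jacobson A, x = 0 := by
      intro x hx
      apply hlam.nondeg
      intro b
      apply h8_lam_commSpan lam hlam
      rw [hker, LinearMap.mem_ker]
      ext k
      rw [hT, hqJ _ (Ideal.mul_mem_right _ _ hx), map_zero]
      simp
    have hqinj : Function.Injective q := by
      rw [injective_iff_map_eq_zero]
      intro x hx
      exact hJ0 x (hqJ' x hx)
    obtain ⟨e, he⟩ := hq (ψ.symm (Pi.single 0 1))
    have he1 : IsIdempotentElem e := by
      apply hqinj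
      rw [map_mul, he, ← map_mul, ← Pi.single_mul, one_mul]
    have he2 : ∀ x, e * x = x * e := by
      intro x
      apply hqinj
      rw [map_mul, map_mul, he]
      apply ψ.injective
      rw [map_mul, map_mul, AlgEquiv.apply_symm_apply]
      funext k
      by_cases hk : k = 0
      · subst hk
        simp
      · simp [Pi.single_eq_of_ne hk]
    rcases hprim e he1 he2 with h | h
    · have h1 : ψ (q e) = 0 := by rw [h, map_zero, map_zero]
      rw [he, AlgEquiv.apply_symm_apply] at h1
      have h2 := congrFun h1 0
      rw [Pi.single_eq_same] at h2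
      exact one_ne_zero h2
    · have h1 : ψ (q e) = 1 := by rw [h, map_one, map_one]
      rw [he, AlgEquiv.apply_symm_apply] at h1
      have h2 := congrFun h1 1
      rw [Pi.single_eq_of_ne (by decide)] at h2
      exact zero_ne_one h2

end Cfsg.Agent.Helper6.Ku
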