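import Mathlib
import Cfsg.Prelude.Def_Characters
import Cfsg.Prelude.Def_BlockLocal
import Cfsg.Prelude.Def_Blocks
import Cfsg.Prelude.Def_CharExt
import Cfsg.Agent.Helper8.RMcKPMa

/-!
# S4807, piece PM: the standing hypotheses and their first consequences
-/

set_option autoImplicit false
set_option linter.style.haveILetI false
set_option linter.unusedSimpArgs false

namespace Cfsg.Agent.Helper8.RMcK

open Cfsg.Agent.Helper6 Cfsg.Agent.Helper6.RMcK
open scoped ComplexConjugate

universe u

variable {Γ : Type u} [Group Γ] [Finite Γ]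

/-- the standing hypotheses of piece PM -/
structure PMCtx (p : ℕ) (W S C M M' : Subgroup Γ) : Prop where
  hS : IsPGroup p S
  hW : (Nat.card W).Coprime p
  hSW : S ≤ Subgroup.normalizer (W : Set Γ)
  hC : C = fixC W S
  hM : M = W ⊔ S
  hM' : M' = C ⊔ S

namespace PMCtx

variable {p : ℕ} [hp : Fact p.Prime] {W S C M M' : Subgroup Γ}

omit [Finite Γ] hp in
theorem hWM (h : PMCtx p W S C M M') : W ≤ M := by rw [h.hM]; exact le_sup_left

omit [Finite Γ] hp in
theorem hSM (h : PMCtx p W S C M M') : S ≤ M := by rw [h.hM]; exact le_sup_right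

omit [Finite Γ] hp in
theorem hCM' (h : PMCtx p W S C M M') : C ≤ M' := by rw [h.hM']; exact le_sup_left

omit [Finite Γ] hp in
theorem hSM' (h : PMCtx p W S C M M') : S ≤ M' := by rw [h.hM']; exact le_sup_right

omit [Finite Γ] hp in
theorem hCW (h : PMCtx p W S C M M') : C ≤ W := by rw [h.hC]; exact fixC_le W S

omit [Finite Γ] hp in
theorem hM'M (h : PMCtx p W S C M M') : M' ≤ M := by
  rw [h.hM', h.hM]; exact sup_le_sup_right h.hCW S

omit [Finite Γ] hp in
theorem hCcop (h : PMCtx p W S C M M') : (Nat.card C).Coprime p :=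
  Nat.Coprime.coprime_dvd_left (Subgroup.card_dvd_of_le h.hCW) h.hW

omit [Finite Γ] hp in
/-- elements of `S` commute with elements of `C` -/
theorem comm (h : PMCtx p W S C M M') {s c : Γ} (hs : s ∈ S) (hc : c ∈ C) : s * c = c * s := by
  have hc' : c ∈ fixC W S := by rw [← h.hC]; exact hc
  exact ((mem_fixC W S c).1 hc').2 s hs

omit [Finite Γ] hp in
theorem hSC (h : PMCtx p W S C M M') : S ≤ Subgroup.normalizer (C : Set Γ) := by
  intro s hs
  rw [Subgroup.mem_normalizer_iff]
  intro c
  constructor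
  · intro hc
    rw [h.comm hs hc, mul_inv_cancel_right]; exact hc
  · intro hc
    have h1 := h.comm (S.inv_mem hs) hc
    have h2 : c = s⁻¹ * (s * c * s⁻¹) * s := by group
    rw [h2, h1, inv_mul_cancel_right]; exact hc

omit [Finite Γ] hp in
/-- every function on `C` is `S`-invariant -/
theorem le_inertia_C (h : PMCtx p W S C M M') (β : C → ℂ) : S ≤ inertia C β := by
  intro s hs
  refine ⟨h.hSC hs, ?_⟩
  intro k k' hk
  have : k' = k := by
    apply Subtype.ext
    rw [hk, h.comm hs k.2, mul_inv_cancel_right]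
  rw [this]

theorem disjW (h : PMCtx p W S C M M') : W ⊓ S = ⊥ :=
  disjoint_iff.1 (Subgroup.disjoint_of_coprime_natCard (coprime_card_of_pgroup h.hS h.hW))

theorem disjC (h : PMCtx p W S C M M') : C ⊓ S = ⊥ :=
  disjoint_iff.1 (Subgroup.disjoint_of_coprime_natCard (coprime_card_of_pgroup h.hS h.hCcop))

omit [Finite Γ] hp in
theorem hMW (h : PMCtx p W S C M M') : M ≤ Subgroup.normalizer (W : Set Γ) := by
  rw [h.hM]; exact sup_le Subgroup.le_normalizer h.hSW

omit [Finite Γ] hp in
theorem hM'C (h : PMCtx p W S C M M') : M' ≤ Subgroup.normalizer (C : Set Γ) := by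
  rw [h.hM']; exact sup_le Subgroup.le_normalizer h.hSC

omit [Finite Γ] hp in
/-- the context for the pair `(C, S)` in place of `(W, S)` -/
theorem ctxC (h : PMCtx p W S C M M') : PMCtx p C S C M' M' where
  hS := h.hS
  hW := h.hCcop
  hSW := h.hSC
  hC := by
    apply le_antisymm
    · intro c hc
      rw [mem_fixC]
      exact ⟨hc, fun s hs => h.comm hs hc⟩
    · exact fixC_le C S
  hM := h.hM'
  hM' := h.hM'

end PMCtx

end Cfsg.Agent.Helper8.RMcK
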