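import Mathlib
import Cfsg.Prelude.Def_Characters
import Cfsg.Prelude.Def_BlockLocal
import Cfsg.Prelude.Def_Blocks
import Cfsg.Prelude.Def_CharExt
import Cfsg.Agent.Helper8.RMcKPMb

/-!
# S4807, piece PM: clauses (3), (4), (5) for the relation `PMRel`
-/

set_option autoImplicit false
set_option linter.style.haveILetI false
set_option linter.unusedSimpArgs false

namespace Cfsg.Agent.Helper8.RMcK

open Cfsg.Agent.Helper6 Cfsg.Agent.Helper6.RMcK Cfsg.Agent.Helper3.RMcK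
open scoped ComplexConjugate

universe u

variable {Γ : Type u} [Group Γ] [Finite Γ]

omit [Finite Γ] in
theorem homFun_one_apply {B : Subgroup Γ} (μ : B →* ℂˣ) : homFun μ 1 = 1 := by
  rw [homFun_apply, map_one, Units.val_one]

omit [Finite Γ] in
/-- restriction of `χ * homFun μ` to a subgroup on which `μ` is trivial -/
theorem res_mul_homFun {A B : Subgroup Γ} (h : A ≤ B) (χ : B → ℂ) (μ : B →* ℂˣ)
    (hμ : ∀ a : A, μ (Subgroup.inclusion h a) = 1) : res h (χ * homFun μ) = res h χ := by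
  funext a
  show χ (Subgroup.inclusion h a) * homFun μ (Subgroup.inclusion h a) = χ (Subgroup.inclusion h a)
  rw [homFun_apply, hμ a, Units.val_one, mul_one]

omit [Finite Γ] in
theorem charDegree_mul_homFun {B : Subgroup Γ} (χ : B → ℂ) (μ : B →* ℂˣ) :
    Cfsg.charDegree (χ * homFun μ) = Cfsg.charDegree χ := by
  unfold Cfsg.charDegree
  rw [Pi.mul_apply, homFun_one_apply, mul_one]

omit [Finite Γ] in
theorem charDegree_res {A B : Subgroup Γ} (h : A ≤ B) (χ : B → ℂ) :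
    Cfsg.charDegree (res h χ) = Cfsg.charDegree χ := rfl

theorem not_dvd_charDegree {p : ℕ} [hp : Fact p.Prime] {A : Subgroup Γ}
    (hA : (Nat.card A).Coprime p) {θ : A → ℂ} (hθ : Cfsg.IsIrrCharacter A θ) :
    ¬ p ∣ Cfsg.charDegree θ := by
  intro hdvd
  have h1 : p ∣ Nat.card A := hdvd.trans (charDegree_dvd_card hθ)
  have h2 : p ∣ Nat.gcd (Nat.card A) p := Nat.dvd_gcd h1 dvd_rfl
  rw [hA] at h2
  exact hp.out.one_lt.ne' (Nat.dvd_one.1 h2)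


variable {p : ℕ} [hp : Fact p.Prime] {W S C M M' : Subgroup Γ}

/-- uniqueness of the canonical extension -/
theorem IsCanon.unique (h : PMCtx p W S C M M') {η : W → ℂ} (hη : Cfsg.IsIrrCharacter W η)
    (hinv : S ≤ inertia W η) {ηh₁ ηh₂ : M → ℂ} (h1 : IsCanon h.hWM h.hSM η ηh₁)
    (h2 : IsCanon h.hWM h.hSM η ηh₂) : ηh₁ = ηh₂ :=
  (D4a_canon_ext p W S M h.hWM h.hSM h.hM h.hS h.hW h.hSW η hη hinv).unique h1 h2

/-- existence of the canonical extension -/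
theorem IsCanon.exists (h : PMCtx p W S C M M') {η : W → ℂ} (hη : Cfsg.IsIrrCharacter W η)
    (hinv : S ≤ inertia W η) : ∃ ηh : M → ℂ, IsCanon h.hWM h.hSM η ηh :=
  (D4a_canon_ext p W S M h.hWM h.hSM h.hM h.hS h.hW h.hSW η hη hinv).exists

/-- clause (5) of PM -/
theorem PMRel.props (h : PMCtx p W S C M M') {τ : M → ℂ} {τ' : M' → ℂ}
    (hR : PMRel p h.hWM h.hSM h.hCM' h.hSM' h.hM'M h.hCW τ τ') :
    ¬ p ∣ Cfsg.charDegree τ ∧ ¬ p ∣ Cfsg.charDegree τ' ∧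
      ∃ (η : Cfsg.IrrCharacter W) (β : Cfsg.IrrCharacter C),
        res h.hWM τ = (η : W → ℂ) ∧ res h.hCM' τ' = (β : C → ℂ) ∧
        S ≤ inertia W (η : W → ℂ) ∧ GlC p h.hCW (η : W → ℂ) (β : C → ℂ) := by
  obtain ⟨η, β, ηh, βh, μ, hη, hβ, hinv, hgl, hc1, hc2, hμ, rfl, rfl⟩ := hR
  have hμ' : ∀ c : C, (μ.comp (Subgroup.inclusion h.hM'M)) (Subgroup.inclusion h.hCM' c) = 1 := by
    intro c
    exact hμ ⟨c, h.hCW c.2⟩
  have r1 : res h.hWM (ηh * homFun μ) = η := by rw [res_mul_homFun h.hWM ηh μ hμ, hc1.2.1]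
  have r2 : res h.hCM' (βh * homFun (μ.comp (Subgroup.inclusion h.hM'M))) = β := by
    rw [res_mul_homFun h.hCM' βh _ hμ', hc2.2.1]
  refine ⟨?_, ?_, ⟨η, hη⟩, ⟨β, hβ⟩, r1, r2, hinv, hgl⟩
  · rw [← charDegree_res h.hWM, r1]
    exact not_dvd_charDegree h.hW hη
  · rw [← charDegree_res h.hCM', r2]
    exact not_dvd_charDegree h.hCcop hβ


/-- clause (3) of PM: the relation is functional -/
theorem PMRel.functional (h : PMCtx p W S C M M') {τ : M → ℂ} {τ₁' τ₂' : M' → ℂ}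
    (hR₁ : PMRel p h.hWM h.hSM h.hCM' h.hSM' h.hM'M h.hCW τ τ₁')
    (hR₂ : PMRel p h.hWM h.hSM h.hCM' h.hSM' h.hM'M h.hCW τ τ₂') : τ₁' = τ₂' := by
  obtain ⟨η₁, β₁, ηh₁, βh₁, μ₁, hη₁, hβ₁, hinv₁, hgl₁, hc1, hc1', hμ₁, hτ₁, rfl⟩ := hR₁
  obtain ⟨η₂, β₂, ηh₂, βh₂, μ₂, hη₂, hβ₂, hinv₂, hgl₂, hc2, hc2', hμ₂, hτ₂, rfl⟩ := hR₂
  have r1 : res h.hWM τ = η₁ := by rw [hτ₁, res_mul_homFun h.hWM ηh₁ μ₁ hμ₁, hc1.2.1]
  have r2 : res h.hWM τ = η₂ := by rw [hτ₂, res_mul_homFun h.hWM ηh₂ μ₂ hμ₂, hc2.2.1]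
  have hηeq : η₁ = η₂ := r1.symm.trans r2
  subst hηeq
  have hηh : ηh₁ = ηh₂ := IsCanon.unique h hη₁ hinv₁ hc1 hc2
  subst hηh
  have hμeq : μ₁ = μ₂ := by
    apply amb_hom_unique h.hWM h.hMW ηh₁ hc1.1 (by rw [hc1.2.1]; exact hη₁) μ₁ μ₂ hμ₁ hμ₂
    rw [← hτ₁, ← hτ₂]
  subst hμeq
  have hβeq : (⟨β₁, hβ₁⟩ : Cfsg.IrrCharacter C) = ⟨β₂, hβ₂⟩ :=
    gl_unique W S C h.hSW h.hS h.hW h.hC h.hCW η₁ hη₁ hinv₁ ⟨β₁, hβ₁⟩ ⟨β₂, hβ₂⟩ hgl₁ hgl₂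
  have hβeq' : β₁ = β₂ := congrArg Subtype.val hβeq
  subst hβeq'
  have hβh : βh₁ = βh₂ := IsCanon.unique h.ctxC hβ₁ (h.le_inertia_C β₁) hc1' hc2'
  rw [hβh]

/-- clause (4) of PM: the relation is injective -/
theorem PMRel.injective (h : PMCtx p W S C M M') {τ₁ τ₂ : M → ℂ} {τ' : M' → ℂ}
    (hR₁ : PMRel p h.hWM h.hSM h.hCM' h.hSM' h.hM'M h.hCW τ₁ τ')
    (hR₂ : PMRel p h.hWM h.hSM h.hCM' h.hSM' h.hM'M h.hCW τ₂ τ') : τ₁ = τ₂ := by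
  obtain ⟨η₁, β₁, ηh₁, βh₁, μ₁, hη₁, hβ₁, hinv₁, hgl₁, hc1, hc1', hμ₁, rfl, hτ₁⟩ := hR₁
  obtain ⟨η₂, β₂, ηh₂, βh₂, μ₂, hη₂, hβ₂, hinv₂, hgl₂, hc2, hc2', hμ₂, rfl, hτ₂⟩ := hR₂
  have hμ₁' : ∀ c : C, (μ₁.comp (Subgroup.inclusion h.hM'M)) (Subgroup.inclusion h.hCM' c) = 1 :=
    fun c => hμ₁ ⟨c, h.hCW c.2⟩
  have hμ₂' : ∀ c : C, (μ₂.comp (Subgroup.inclusion h.hM'M)) (Subgroup.inclusion h.hCM' c) = 1 :=
    fun c => hμ₂ ⟨c, h.hCW c.2⟩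
  have r1 : res h.hCM' τ' = β₁ := by rw [hτ₁, res_mul_homFun h.hCM' βh₁ _ hμ₁', hc1'.2.1]
  have r2 : res h.hCM' τ' = β₂ := by rw [hτ₂, res_mul_homFun h.hCM' βh₂ _ hμ₂', hc2'.2.1]
  have hβeq : β₁ = β₂ := r1.symm.trans r2
  subst hβeq
  have hβh : βh₁ = βh₂ := IsCanon.unique h.ctxC hβ₁ (h.le_inertia_C β₁) hc1' hc2'
  subst hβh
  have hνeq : μ₁.comp (Subgroup.inclusion h.hM'M) = μ₂.comp (Subgroup.inclusion h.hM'M) := by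
    apply amb_hom_unique h.hCM' h.hM'C βh₁ hc1'.1 (by rw [hc1'.2.1]; exact hβ₁) _ _ hμ₁' hμ₂'
    rw [← hτ₁, ← hτ₂]
  have hμeq : μ₁ = μ₂ := by
    apply hom_eq_of_sup h.hWM h.hSM (le_of_eq h.hM) μ₁ μ₂
    · intro w; rw [hμ₁ w, hμ₂ w]
    · intro s
      have := congrArg (fun ν : M' →* ℂˣ => ν (Subgroup.inclusion h.hSM' s)) hνeq
      exact this
  subst hμeq
  have hηeq : η₁ = η₂ :=
    gl_injective W S C h.hSW h.hS h.hW h.hC h.hCW η₁ η₂ hη₁ hη₂ hinv₁ hinv₂ ⟨β₁, hβ₁⟩ hgl₁ hgl₂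
  subst hηeq
  have hηh : ηh₁ = ηh₂ := IsCanon.unique h hη₁ hinv₁ hc1 hc2
  rw [hηh]

end Cfsg.Agent.Helper8.RMcK
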