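import Mathlib
import Cfsg.Prelude.Def_Characters
import Cfsg.Prelude.Def_BlockLocal
import Cfsg.Prelude.Def_Blocks
import Cfsg.Prelude.Def_CharExt
import Cfsg.Agent.Helper8.RMcKPMc
import Cfsg.Agent.Helper1.RMcKMI

/-!
# S4807, piece PM: restriction to `W`, and clauses (1), (2) for the relation `PMRel`
-/

set_option autoImplicit false
set_option linter.style.haveILetI false
set_option linter.unusedSimpArgs false

namespace Cfsg.Agent.Helper8.RMcK

open Cfsg.Agent.Helper6 Cfsg.Agent.Helper6.RMcK Cfsg.Agent.Helper3.RMcK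
open scoped ComplexConjugate

universe u

section GroupTheory

variable {Γ : Type u} [Group Γ]

/-- the index of `A` in `A ⊔ B` is the order of `B`, when `B` normalizes `A` and `A ⊓ B = ⊥` -/
theorem relIndex_eq_card_of_disjoint {A B X : Subgroup Γ} (hAX : A ≤ X) (hBX : B ≤ X)
    (hX : X = A ⊔ B) (hBA : B ≤ Subgroup.normalizer (A : Set Γ)) (hdisj : A ⊓ B = ⊥) :
    A.relIndex X = Nat.card B := by
  have hXA : X ≤ Subgroup.normalizer (A : Set Γ) := by
    rw [hX]; exact sup_le Subgroup.le_normalizer hBA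
  have hn : (A.subgroupOf X).Normal := (Subgroup.normal_subgroupOf_iff_le_normalizer hAX).2 hXA
  have hcompl : Subgroup.IsComplement' (B.subgroupOf X) (A.subgroupOf X) := by
    apply Subgroup.isComplement'_of_disjoint_and_mul_eq_univ
    · rw [disjoint_iff, eq_bot_iff]
      intro x hx
      rw [Subgroup.mem_inf, Subgroup.mem_subgroupOf, Subgroup.mem_subgroupOf] at hx
      have : (x : Γ) ∈ A ⊓ B := ⟨hx.2, hx.1⟩
      rw [hdisj, Subgroup.mem_bot] at this
      rw [Subgroup.mem_bot]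
      exact Subtype.ext this
    · rw [← Subgroup.mul_normal, Set.eq_univ_iff_forall]
      intro x
      have hx : (x : Γ) ∈ B ⊔ A := by rw [sup_comm, ← hX]; exact x.2
      have h2 : X.subtype x ∈ (B.subgroupOf X ⊔ A.subgroupOf X).map X.subtype := by
        rw [Subgroup.map_sup, Subgroup.subgroupOf_map_subtype, Subgroup.subgroupOf_map_subtype,
          inf_of_le_left hAX, inf_of_le_left hBX]
        exact hx
      obtain ⟨y, hy, hyx⟩ := h2
      have : y = x := Subtype.ext hyx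
      rw [← this]; exact hy
  show (A.subgroupOf X).index = Nat.card B
  rw [hcompl.index_eq_card]
  exact Nat.card_congr (Subgroup.subgroupOfEquivOfLe hBX).toEquiv

end GroupTheory

variable {Γ : Type u} [Group Γ] [Finite Γ]

variable {p : ℕ} [hp : Fact p.Prime] {W S C M M' : Subgroup Γ}

theorem PMCtx.relIndex_W (h : PMCtx p W S C M M') : ∃ k : ℕ, W.relIndex M = p ^ k := by
  rw [relIndex_eq_card_of_disjoint h.hWM h.hSM h.hM h.hSW h.disjW]
  exact IsPGroup.iff_card.mp h.hS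

/-- an irreducible character of `M = W ⊔ S` of degree prime to `p` restricts irreducibly to `W`,
and the restriction is `S`-invariant -/
theorem PMCtx.res_irr (h : PMCtx p W S C M M') {τ : M → ℂ} (hτ : Cfsg.IsIrrCharacter M τ)
    (hdeg : ¬ p ∣ Cfsg.charDegree τ) :
    Cfsg.IsIrrCharacter W (res h.hWM τ) ∧ S ≤ inertia W (res h.hWM τ) := by
  obtain ⟨η, hov, hinv⟩ := Cfsg.Agent.Helper1.RMcK.PB1_of_CL2 Cfsg.Agent.Helper1.RMcK.cl2Stmt p M W S
    h.hWM h.hMW h.hSM h.hS τ hτ hdeg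
  have hMin : M ≤ inertia W (η : W → ℂ) := by
    rw [h.hM]
    exact sup_le (le_inertia_of_isClassFunction W _
      (IsCharacter.isClassFunction (IsIrrCharacter.isCharacter η.2))) hinv
  obtain ⟨f, hf0, hres, -, hfdvd⟩ := res_eq_smul_of_invariant h.hWM η η.2 hMin τ hτ hov
  obtain ⟨k, hk⟩ := h.relIndex_W
  have hfdeg : f ∣ Cfsg.charDegree τ := by
    have h1 : τ 1 = (f : ℂ) * (η : W → ℂ) 1 := by
      have := congrFun hres 1
      rw [res_one, Pi.smul_apply, smul_eq_mul] at this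
      exact this
    have h2 := charDegree_cast_of_isCharacter (IsIrrCharacter.isCharacter hτ)
    have h3 := charDegree_cast_of_isCharacter (IsIrrCharacter.isCharacter η.2)
    have h4 : (Cfsg.charDegree τ : ℂ) = ((f * Cfsg.charDegree (η : W → ℂ) : ℕ) : ℂ) := by
      rw [h2, h1, Nat.cast_mul, h3]
    have h5 : Cfsg.charDegree τ = f * Cfsg.charDegree (η : W → ℂ) := by exact_mod_cast h4
    exact ⟨_, h5⟩
  have hf1 : f = 1 := by
    rw [hk] at hfdvd
    obtain ⟨j, -, rfl⟩ := (Nat.dvd_prime_pow hp.out).1 hfdvd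
    rcases Nat.eq_zero_or_pos j with rfl | hj
    · simp
    · exact absurd ((dvd_pow_self p hj.ne').trans hfdeg) hdeg
  have hres' : res h.hWM τ = (η : W → ℂ) := by rw [hres, hf1, Nat.cast_one, one_smul]
  rw [hres']
  exact ⟨η.2, hinv⟩


theorem isIrr_mul_homFun {B : Subgroup Γ} {χ : B → ℂ} (hχ : Cfsg.IsIrrCharacter B χ)
    (μ : B →* ℂˣ) : Cfsg.IsIrrCharacter B (χ * homFun μ) := by
  haveI := Fintype.ofFinite B
  exact IsIrrCharacter.mul_hom μ hχ

/-- clause (1) of PM: the relation is total on characters of degree prime to `p` -/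
theorem PMRel.total (h : PMCtx p W S C M M') (τ : Cfsg.IrrCharacter M)
    (hdeg : ¬ p ∣ Cfsg.charDegree (τ : M → ℂ)) :
    ∃ τ' : Cfsg.IrrCharacter M',
      PMRel p h.hWM h.hSM h.hCM' h.hSM' h.hM'M h.hCW (τ : M → ℂ) (τ' : M' → ℂ) := by
  obtain ⟨hη, hinv⟩ := h.res_irr τ.2 hdeg
  obtain ⟨ηh, hc⟩ := IsCanon.exists h hη hinv
  obtain ⟨μ, hμ, hτμ⟩ := amb_exists_hom h.hWM h.hMW _ hη ηh τ hc.1 τ.2 hc.2.1 rfl
  obtain ⟨β, hgl, -⟩ := gl_exists W S C h.hSW h.hS h.hW h.hC h.hCW _ hη hinv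
  obtain ⟨βh, hc'⟩ := IsCanon.exists h.ctxC β.2 (h.le_inertia_C β)
  refine ⟨⟨βh * homFun (μ.comp (Subgroup.inclusion h.hM'M)), isIrr_mul_homFun hc'.1 _⟩, ?_⟩
  exact ⟨_, β, ηh, βh, μ, hη, β.2, hinv, hgl, hc, hc', hμ, hτμ, rfl⟩

/-- clause (2) of PM: the relation is onto the characters of degree prime to `p` -/
theorem PMRel.onto (h : PMCtx p W S C M M') (τ' : Cfsg.IrrCharacter M')
    (hdeg : ¬ p ∣ Cfsg.charDegree (τ' : M' → ℂ)) :
    ∃ τ : Cfsg.IrrCharacter M,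
      PMRel p h.hWM h.hSM h.hCM' h.hSM' h.hM'M h.hCW (τ : M → ℂ) (τ' : M' → ℂ) := by
  obtain ⟨hβ, -⟩ := h.ctxC.res_irr τ'.2 hdeg
  obtain ⟨βh, hc'⟩ := IsCanon.exists h.ctxC hβ (h.le_inertia_C _)
  obtain ⟨ν, hν, hτν⟩ := amb_exists_hom h.hCM' h.hM'C _ hβ βh τ' hc'.1 τ'.2 hc'.2.1 rfl
  obtain ⟨η, hη, hinv, hgl⟩ := gl_surjective W S C h.hSW h.hS h.hW h.hC h.hCW ⟨_, hβ⟩
  obtain ⟨ηh, hc⟩ := IsCanon.exists h hη hinv
  obtain ⟨μ, hμW, hμS⟩ := exists_hom_ext h.hWM h.hSM h.hM h.hSW h.disjW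
    (ν.comp (Subgroup.inclusion h.hSM'))
  have hμν : μ.comp (Subgroup.inclusion h.hM'M) = ν := by
    apply hom_eq_of_sup h.hCM' h.hSM' (le_of_eq h.hM')
    · intro c
      rw [hν c]
      exact hμW ⟨c, h.hCW c.2⟩
    · intro s
      exact hμS s
  refine ⟨⟨ηh * homFun μ, isIrr_mul_homFun hc.1 _⟩, ?_⟩
  refine ⟨η, _, ηh, βh, μ, hη, hβ, hinv, hgl, hc, hc', hμW, rfl, ?_⟩
  rw [hμν]
  exact hτν
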