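import Mathlib
import Cfsg.Prelude.Def_Characters
import Cfsg.Prelude.Def_BlockLocal
import Cfsg.Prelude.Def_Blocks
import Cfsg.Prelude.Def_CharExt
import Cfsg.Agent.Helper8.RMcKPMd

/-!
# S4807, piece PM: assembly of `PM_exists_corr` from the clauses
-/

set_option autoImplicit false
set_option linter.style.haveILetI false
set_option linter.unusedSimpArgs false

namespace Cfsg.Agent.Helper8.RMcK

open Cfsg.Agent.Helper6 Cfsg.Agent.Helper6.RMcK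
open scoped ComplexConjugate

universe u

variable (Γ : Type u) [Group Γ] [Finite Γ]

/-- the statement of clause (6), as in `notes/helper8_S4807_PM_skeleton.lean.txt` -/
def PM6Stmt (p : ℕ) : Prop :=
  ∀ (W S C M M' : Subgroup Γ) (_hS : IsPGroup p S)
    (_hW : (Nat.card W).Coprime p) (_hSW : S ≤ Subgroup.normalizer (W : Set Γ))
    (_hC : C = fixC W S) (_hM : M = W ⊔ S) (_hM' : M' = C ⊔ S) (hWM : W ≤ M) (hSM : S ≤ M)
    (hCM' : C ≤ M') (hSM' : S ≤ M') (hM'M : M' ≤ M) (hCW : C ≤ W)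
    (τ : M → ℂ) (τ' : M' → ℂ) (a : Γ)
    (_haW : a ∈ Subgroup.normalizer (W : Set Γ)) (_haS : a ∈ Subgroup.normalizer (S : Set Γ))
    (haM : a ∈ Subgroup.normalizer (M : Set Γ)) (haM' : a ∈ Subgroup.normalizer (M' : Set Γ))
    (_h : PMRel p hWM hSM hCM' hSM' hM'M hCW τ τ'),
    PMRel p hWM hSM hCM' hSM' hM'M hCW (cjc M a haM τ) (cjc M' a haM' τ')

/-- the statement of clause (7), as in `notes/helper8_S4807_PM_skeleton.lean.txt` -/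
def PM7Stmt (p : ℕ) : Prop :=
  ∀ (W S C M M' : Subgroup Γ) (_hS : IsPGroup p S)
    (_hW : (Nat.card W).Coprime p) (_hSW : S ≤ Subgroup.normalizer (W : Set Γ))
    (_hC : C = fixC W S) (_hM : M = W ⊔ S) (_hM' : M' = C ⊔ S) (hWM : W ≤ M) (hSM : S ≤ M)
    (hCM' : C ≤ M') (hSM' : S ≤ M') (hM'M : M' ≤ M) (hCW : C ≤ W)
    (τ : M → ℂ) (τ' : M' → ℂ) (_h : PMRel p hWM hSM hCM' hSM' hM'M hCW τ τ')
    (L : Subgroup Γ) (hLM' : L ≤ M') (_hLZ : ∀ l ∈ L, ∀ m ∈ M, l * m = m * l) (ν : L → ℂ)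
    (_hν : Cfsg.IsIrrCharacter L ν),
    Ov (hLM'.trans hM'M) τ ν ↔ Ov hLM' τ' ν

variable {Γ}

/-- piece PM, from clauses (6) and (7) -/
theorem PM_of_clauses (p : ℕ) [Fact p.Prime] (h6 : PM6Stmt Γ p) (h7 : PM7Stmt Γ p)
    (W S C M M' : Subgroup Γ) (hS : IsPGroup p S)
    (hW : (Nat.card W).Coprime p) (hSW : S ≤ Subgroup.normalizer (W : Set Γ))
    (hC : C = fixC W S) (hM : M = W ⊔ S) (hM' : M' = C ⊔ S) (hWM : W ≤ M) (hCM' : C ≤ M')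
    (hM'M : M' ≤ M) (hCW : C ≤ W) :
    ∃ R : Cfsg.IrrCharacter M → Cfsg.IrrCharacter M' → Prop,
      (∀ τ : Cfsg.IrrCharacter M, ¬ p ∣ Cfsg.charDegree (τ : M → ℂ) → ∃ τ', R τ τ') ∧
      (∀ τ' : Cfsg.IrrCharacter M', ¬ p ∣ Cfsg.charDegree (τ' : M' → ℂ) → ∃ τ, R τ τ') ∧
      (∀ τ τ₁' τ₂', R τ τ₁' → R τ τ₂' → τ₁' = τ₂') ∧
      (∀ τ₁ τ₂ τ', R τ₁ τ' → R τ₂ τ' → τ₁ = τ₂) ∧
      (∀ τ τ', R τ τ' → ¬ p ∣ Cfsg.charDegree (τ : M → ℂ) ∧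
        ¬ p ∣ Cfsg.charDegree (τ' : M' → ℂ) ∧
        ∃ (η : Cfsg.IrrCharacter W) (β : Cfsg.IrrCharacter C),
          res hWM (τ : M → ℂ) = (η : W → ℂ) ∧ res hCM' (τ' : M' → ℂ) = (β : C → ℂ) ∧
          S ≤ inertia W (η : W → ℂ) ∧ GlC p hCW (η : W → ℂ) (β : C → ℂ)) ∧
      (∀ (τ : Cfsg.IrrCharacter M) (τ' : Cfsg.IrrCharacter M') (a : Γ)
        (_haW : a ∈ Subgroup.normalizer (W : Set Γ)) (_haS : a ∈ Subgroup.normalizer (S : Set Γ))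
        (haM : a ∈ Subgroup.normalizer (M : Set Γ))
        (haM' : a ∈ Subgroup.normalizer (M' : Set Γ)), R τ τ' →
        R ⟨cjc M a haM (τ : M → ℂ), cjc_isIrr M a haM τ.2⟩
          ⟨cjc M' a haM' (τ' : M' → ℂ), cjc_isIrr M' a haM' τ'.2⟩) ∧
      (∀ (L : Subgroup Γ) (hLM' : L ≤ M') (_hLZ : ∀ l ∈ L, ∀ m ∈ M, l * m = m * l) (ν : L → ℂ)
        (_hν : Cfsg.IsIrrCharacter L ν) (τ : Cfsg.IrrCharacter M) (τ' : Cfsg.IrrCharacter M'),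
        R τ τ' → (Ov (hLM'.trans hM'M) (τ : M → ℂ) ν ↔ Ov hLM' (τ' : M' → ℂ) ν)) := by
  have h : PMCtx p W S C M M' := ⟨hS, hW, hSW, hC, hM, hM'⟩
  refine ⟨fun τ τ' => PMRel p h.hWM h.hSM h.hCM' h.hSM' h.hM'M h.hCW (τ : M → ℂ) (τ' : M' → ℂ),
    ?_, ?_, ?_, ?_, ?_, ?_, ?_⟩
  · exact fun τ hdeg => PMRel.total h τ hdeg
  · exact fun τ' hdeg => PMRel.onto h τ' hdeg
  · exact fun τ τ₁' τ₂' h1 h2 => Subtype.ext (PMRel.functional h h1 h2)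
  · exact fun τ₁ τ₂ τ' h1 h2 => Subtype.ext (PMRel.injective h h1 h2)
  · exact fun τ τ' hR => PMRel.props h hR
  · intro τ τ' a haW haS haM haM' hR
    exact h6 W S C M M' hS hW hSW hC hM hM' h.hWM h.hSM h.hCM' h.hSM' h.hM'M h.hCW _ _ a haW haS
      haM haM' hR
  · intro L hLM' hLZ ν hν τ τ' hR
    exact h7 W S C M M' hS hW hSW hC hM hM' h.hWM h.hSM h.hCM' h.hSM' h.hM'M h.hCW _ _ hR L hLM'
      hLZ ν hν

end Cfsg.Agent.Helper8.RMcK
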