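import Mathlib
import Cfsg.Prelude.Def_Characters
import Cfsg.Prelude.Def_BlockLocal
import Cfsg.Prelude.Def_Blocks
import Cfsg.Prelude.Def_CharExt
import Cfsg.Agent.Helper8.RMcKPMe
import Cfsg.Agent.Helper9.RMcKPM6
import Cfsg.Agent.Helper3.RMcKPM7
import Cfsg.Agent.Helper6.RMcKStmts2

/-!
# S4807, piece PM: the correspondence between `Irr_{p'}(W S)` and `Irr_{p'}(C S)`

`PM_exists_corr`, with the exact statement of `notes/helper6_S4807_skeleton2.lean.txt`.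
Clauses (1)–(5) are in `Helper8/RMcKPMc`, `RMcKPMd`; clause (6) is `Helper9.RMcK.PM6_equivariant`,
clause (7) is `Helper3.RMcK.PM7_central`.
-/

set_option autoImplicit false

namespace Cfsg.Agent.Helper8.RMcK

open Cfsg.Agent.Helper6 Cfsg.Agent.Helper6.RMcK

universe u

variable {Γ : Type u} [Group Γ] [Finite Γ]

theorem pm6Stmt (p : ℕ) [Fact p.Prime] : PM6Stmt Γ p :=
  fun W S C M M' hS hW hSW hC hM hM' hWM hSM hCM' hSM' hM'M hCW τ τ' a haW haS haM haM' h =>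
    Cfsg.Agent.Helper9.RMcK.PM6_equivariant p W S C M M' hS hW hSW hC hM hM' hWM hSM hCM' hSM'
      hM'M hCW τ τ' a haW haS haM haM' h

theorem pm7Stmt (p : ℕ) [Fact p.Prime] : PM7Stmt Γ p :=
  fun W S C M M' hS hW hSW hC hM hM' hWM hSM hCM' hSM' hM'M hCW τ τ' h L hLM' hLZ ν hν =>
    Cfsg.Agent.Helper3.RMcK.PM7_central p W S C M M' hS hW hSW hC hM hM' hWM hSM hCM' hSM'
      hM'M hCW τ τ' h L hLM' hLZ ν hν

/-- **PM**: the correspondence between `Irr_{p'}(W S)` and `Irr_{p'}(C S)`. -/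
theorem PM_exists_corr (p : ℕ) [Fact p.Prime] (W S C M M' : Subgroup Γ) (hS : IsPGroup p S)
    (hW : (Nat.card W).Coprime p) (hSW : S ≤ Subgroup.normalizer (W : Set Γ))
    (hC : C = fixC W S) (hM : M = W ⊔ S) (hM' : M' = C ⊔ S) (hWM : W ≤ M) (hCM' : C ≤ M')
    (hM'M : M' ≤ M) (hCW : C ≤ W) :
    ∃ R : Cfsg.IrrCharacter M → Cfsg.IrrCharacter M' → Prop,
      (∀ τ : Cfsg.IrrCharacter M, ¬ p ∣ Cfsg.charDegree (τ : M → ℂ) → ∃ τ', R τ τ') ∧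
      (∀ τ' : Cfsg.IrrCharacter M', ¬ p ∣ Cfsg.charDegree (τ' : M' → ℂ) → ∃ τ, R τ τ') ∧
      (∀ τ τ₁' τ₂', R τ τ₁' → R τ τ₂' → τ₁' = τ₂') ∧
      (∀ τ₁ τ₂ τ', R τ₁ τ' → R τ₂ τ' → τ₁ = τ₂) ∧
      (∀ τ τ', R τ τ' → ¬ p ∣ Cfsg.charDegree (τ : M → ℂ) ∧
        ¬ p ∣ Cfsg.charDegree (τ' : M' → ℂ) ∧
        ∃ (η : Cfsg.IrrCharacter W) (β : Cfsg.IrrCharacter C),
          res hWM (τ : M → ℂ) = (η : W → ℂ) ∧ res hCM' (τ' : M' → ℂ) = (β : C → ℂ) ∧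
          S ≤ inertia W (η : W → ℂ) ∧ GlC p hCW (η : W → ℂ) (β : C → ℂ)) ∧
      (∀ (τ : Cfsg.IrrCharacter M) (τ' : Cfsg.IrrCharacter M') (a : Γ)
        (_haW : a ∈ Subgroup.normalizer (W : Set Γ)) (_haS : a ∈ Subgroup.normalizer (S : Set Γ))
        (haM : a ∈ Subgroup.normalizer (M : Set Γ))
        (haM' : a ∈ Subgroup.normalizer (M' : Set Γ)), R τ τ' →
        R ⟨cjc M a haM (τ : M → ℂ), cjc_isIrr M a haM τ.2⟩
          ⟨cjc M' a haM' (τ' : M' → ℂ), cjc_isIrr M' a haM' τ'.2⟩) ∧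
      (∀ (L : Subgroup Γ) (hLM' : L ≤ M') (_hLZ : ∀ l ∈ L, ∀ m ∈ M, l * m = m * l) (ν : L → ℂ)
        (_hν : Cfsg.IsIrrCharacter L ν) (τ : Cfsg.IrrCharacter M) (τ' : Cfsg.IrrCharacter M'),
        R τ τ' → (Ov (hLM'.trans hM'M) (τ : M → ℂ) ν ↔ Ov hLM' (τ' : M' → ℂ) ν)) :=
  PM_of_clauses p (pm6Stmt p) (pm7Stmt p) W S C M M' hS hW hSW hC hM hM' hWM hCM' hM'M hCW

/-- piece PM in the form `PMStmt` of `Helper6/RMcKStmts2` -/
theorem pmStmt (p : ℕ) [Fact p.Prime] : PMStmt Γ p :=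
  fun W S C M M' hS hW hSW hC hM hM' hWM hCM' hM'M hCW =>
    PM_exists_corr p W S C M M' hS hW hSW hC hM hM' hWM hCM' hM'M hCW

end Cfsg.Agent.Helper8.RMcK
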