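import Mathlib
import Cfsg.Prelude.Def_GeometricClasses
import Cfsg.Agent.Helper8.AschOmM5A
import Cfsg.Agent.Helper7.AschNotGenA
import Cfsg.Agent.Helper9.AschCompNotSL

/-!
# ASCH-OM, M5d (helper8): `Ω(Q)`, `n ≥ 8`, lies in no tensor product subgroup with both factors of dimension at
least two
-/

set_option autoImplicit false

namespace Cfsg.Agent.Helper8.AschOm

open Cfsg Cfsg.Geo Cfsg.Agent.Lead.AschOm Cfsg.Agent.Helper8.QuadForm
open scoped MatrixGroups Matrix Kronecker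

variable {n : ℕ} {F : Type*} [Field F]

/-- the linear map `x ↦ P (x ∘ e)` -/
noncomputable def tauT {n₁ n₂ : ℕ} (e : Fin n ≃ Fin n₁ × Fin n₂) (P : GL (Fin n) F) :
    (Fin n₁ × Fin n₂ → F) →ₗ[F] (Fin n → F) :=
  (Matrix.toLin' (P : Matrix (Fin n) (Fin n) F)).comp (LinearMap.funLeft F F e)

theorem tauT_apply {n₁ n₂ : ℕ} (e : Fin n ≃ Fin n₁ × Fin n₂) (P : GL (Fin n) F)
    (x : Fin n₁ × Fin n₂ → F) :
    tauT e P x = (P : Matrix (Fin n) (Fin n) F) *ᵥ (x ∘ e) := rfl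

theorem tauT_injective {n₁ n₂ : ℕ} (e : Fin n ≃ Fin n₁ × Fin n₂) (P : GL (Fin n) F) :
    Function.Injective (tauT e P) := by
  intro x y hxy
  rw [tauT_apply, tauT_apply] at hxy
  have h1 := congrArg (fun w => ((P⁻¹ : GL (Fin n) F) : Matrix (Fin n) (Fin n) F) *ᵥ w) hxy
  simp only [Matrix.mulVec_mulVec] at h1
  rw [← Units.val_mul, inv_mul_cancel, Units.val_one, Matrix.one_mulVec, Matrix.one_mulVec] at h1
  funext p
  have := congrFun h1 (e.symm p)
  simpa using this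

theorem tauT_surjective {n₁ n₂ : ℕ} (e : Fin n ≃ Fin n₁ × Fin n₂) (P : GL (Fin n) F) :
    Function.Surjective (tauT e P) := by
  have hfr : Module.finrank F (Fin n₁ × Fin n₂ → F) = Module.finrank F (Fin n → F) := by
    rw [Module.finrank_pi, Module.finrank_pi, Fintype.card_congr e]
  exact (LinearMap.injective_iff_surjective_of_finrank_eq_finrank hfr).1 (tauT_injective e P)

/-- the conjugate by `P` of a reindexed matrix acts on `P (x ∘ e)` through the matrix -/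
theorem conj_submatrix_tauT {n₁ n₂ : ℕ} (e : Fin n ≃ Fin n₁ × Fin n₂) (P : GL (Fin n) F)
    (k : Matrix (Fin n₁ × Fin n₂) (Fin n₁ × Fin n₂) F) (x : Fin n₁ × Fin n₂ → F) :
    ((P : Matrix (Fin n) (Fin n) F) * k.submatrix e e *
      ((P⁻¹ : GL (Fin n) F) : Matrix (Fin n) (Fin n) F)) *ᵥ tauT e P x =
      tauT e P (k *ᵥ x) := by
  have hP : ((P⁻¹ : GL (Fin n) F) : Matrix (Fin n) (Fin n) F) * (P : Matrix (Fin n) (Fin n) F) = 1 := by
    rw [← Units.val_mul, inv_mul_cancel, Units.val_one]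
  rw [tauT_apply, tauT_apply, Matrix.mulVec_mulVec, Matrix.mul_assoc, hP, Matrix.mul_one,
    ← Matrix.mulVec_mulVec]
  congr 1
  rw [Matrix.submatrix_mulVec_equiv]
  congr 2
  funext p
  simp

/-- an element of the tensor product subgroup acts on `P (x ∘ e)` through a Kronecker product -/
theorem exists_kron_tauT {n₁ n₂ : ℕ} {e : Fin n ≃ Fin n₁ × Fin n₂} {P h : GL (Fin n) F}
    (hmem : h ∈ tensorProductSubgroup n₁ n₂ e P) :
    ∃ (a : GL (Fin n₁) F) (b : GL (Fin n₂) F), ∀ x : Fin n₁ × Fin n₂ → F,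
      (h : Matrix (Fin n) (Fin n) F) *ᵥ tauT e P x =
        tauT e P (((a : Matrix (Fin n₁) (Fin n₁) F) ⊗ₖ (b : Matrix (Fin n₂) (Fin n₂) F)) *ᵥ x) := by
  obtain ⟨y, hy, hyg⟩ := hmem
  obtain ⟨k, ⟨a, b, hab⟩, rfl⟩ := hy
  simp only [MulEquiv.coe_toMonoidHom, MulAut.conj_apply] at hyg
  refine ⟨a, b, fun x => ?_⟩
  rw [← hab, ← conj_submatrix_tauT e P _ x, ← hyg, Units.val_mul, Units.val_mul,
    Cfsg.Agent.Helper9.AschComp.glReindex_val]
  rfl

/-- the pure tensor `x ⊗ y` -/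
def pureT {n₁ n₂ : ℕ} (x : Fin n₁ → F) (y : Fin n₂ → F) : Fin n₁ × Fin n₂ → F := fun p => x p.1 * y p.2

theorem kron_mulVec_pureT {n₁ n₂ : ℕ} (a : Matrix (Fin n₁) (Fin n₁) F) (b : Matrix (Fin n₂) (Fin n₂) F)
    (x : Fin n₁ → F) (y : Fin n₂ → F) : (a ⊗ₖ b) *ᵥ pureT x y = pureT (a *ᵥ x) (b *ᵥ y) := by
  funext p
  obtain ⟨i, k⟩ := p
  change _ = (a *ᵥ x) i * (b *ᵥ y) k
  rw [Cfsg.Agent.Helper7.AschGen.mulVec_mul_mulVec]
  simp only [Matrix.mulVec, dotProduct]
  rw [Fintype.sum_prod_type]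
  refine Finset.sum_congr rfl fun j _ => Finset.sum_congr rfl fun l _ => ?_
  rw [Matrix.kroneckerMap_apply]
  rfl

theorem finrank_span_pair_le (u z : Fin n → F) :
    Module.finrank F (Submodule.span F ({u, z} : Set (Fin n → F))) ≤ 2 := by
  classical
  have h3 := finrank_span_le_card (R := F) ({u, z} : Set (Fin n → F))
  have h4 : ({u, z} : Set (Fin n → F)).toFinset.card ≤ 2 := by
    rw [Set.toFinset_insert, Set.toFinset_singleton]
    exact Finset.card_le_two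
  omega

/-- if `(g - 1)` has image in a span of two vectors and `g` acts as `a ⊗ b` with `n₂ ≥ 3`, then `a` is scalar -/
theorem left_scalar_of_range {n₁ n₂ : ℕ} (h2 : 3 ≤ n₂) (e : Fin n ≃ Fin n₁ × Fin n₂) (P : GL (Fin n) F)
    (g : Matrix (Fin n) (Fin n) F) (u z : Fin n → F)
    (hg : ∀ x, (g - 1) *ᵥ x ∈ Submodule.span F ({u, z} : Set (Fin n → F)))
    (a : Matrix (Fin n₁) (Fin n₁) F) (b : Matrix (Fin n₂) (Fin n₂) F)
    (hab : ∀ x : Fin n₁ × Fin n₂ → F, g *ᵥ tauT e P x = tauT e P ((a ⊗ₖ b) *ᵥ x)) :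
    ∃ α : F, a = α • (1 : Matrix (Fin n₁) (Fin n₁) F) := by
  classical
  apply Cfsg.Agent.Helper7.AschGen.scalar_of_forall_eigen
  intro x₁ hx₁
  by_contra hno
  push Not at hno
  -- the map `y ↦ (g - 1) τ(x₁ ⊗ y)`
  let L : (Fin n₂ → F) →ₗ[F] (Fin n → F) :=
    { toFun := fun y => tauT e P (pureT (a *ᵥ x₁) (b *ᵥ y) - pureT x₁ y)
      map_add' := by
        intro y y'
        rw [← map_add]
        congr 1
        funext p
        simp only [pureT, Pi.add_apply, Pi.sub_apply, Matrix.mulVec_add]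
        ring
      map_smul' := by
        intro c y
        rw [← map_smul]
        congr 1
        funext p
        simp only [pureT, Pi.smul_apply, Pi.sub_apply, Matrix.mulVec_smul, smul_eq_mul, RingHom.id_apply]
        ring }
  have hL : ∀ y, L y = (g - 1) *ᵥ tauT e P (pureT x₁ y) := by
    intro y
    rw [Matrix.sub_mulVec, Matrix.one_mulVec, hab, kron_mulVec_pureT, ← map_sub]
    rfl
  have hinj : Function.Injective L := by
    rw [← LinearMap.ker_eq_bot, LinearMap.ker_eq_bot']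
    intro y hy
    have h0 : pureT (a *ᵥ x₁) (b *ᵥ y) - pureT x₁ y = 0 := by
      apply tauT_injective e P
      rw [map_zero]
      exact hy
    by_contra hy0
    obtain ⟨l, hl⟩ : ∃ l, y l ≠ 0 := by
      by_contra hall
      push Not at hall
      exact hy0 (funext hall)
    have h1 : ∀ i, (a *ᵥ x₁) i * (b *ᵥ y) l = x₁ i * y l := by
      intro i
      have := congrFun h0 (i, l)
      simp only [pureT, Pi.sub_apply, Pi.zero_apply] at this
      exact sub_eq_zero.mp this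
    by_cases hbl : (b *ᵥ y) l = 0
    · apply hx₁
      funext i
      have := h1 i
      rw [hbl, mul_zero] at this
      rcases mul_eq_zero.mp this.symm with h | h
      · exact h
      · exact absurd h hl
    · apply hno (y l * ((b *ᵥ y) l)⁻¹)
      funext i
      have := h1 i
      rw [Pi.smul_apply, smul_eq_mul]
      field_simp
      linear_combination this
  have hrange : LinearMap.range L ≤ Submodule.span F ({u, z} : Set (Fin n → F)) := by
    rintro _ ⟨y, rfl⟩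
    rw [hL]
    exact hg _
  have h3 := LinearMap.finrank_range_of_inj hinj
  have h4 := Submodule.finrank_mono hrange
  have h5 := finrank_span_pair_le u z
  rw [Module.finrank_fin_fun] at h3
  omega

variable [Fintype F]

/-- the case `n₂ ≥ 3` -/
theorem not_le_tensor_core (hn : 8 ≤ n) (Q : (Fin n → F) → F) (hQ : IsNondegenerateQuadraticForm Q)
    (n₁ n₂ : ℕ) (h1 : 2 ≤ n₁) (h2 : 3 ≤ n₂) (e : Fin n ≃ Fin n₁ × Fin n₂) (P : GL (Fin n) F) :
    ¬ omegaGL Q ≤ tensorProductSubgroup n₁ n₂ e P := by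
  classical
  intro hle
  set i0 : Fin n₁ := ⟨0, by omega⟩ with hi0
  set i1 : Fin n₁ := ⟨1, by omega⟩ with hi1
  set l0 : Fin n₂ := ⟨0, by omega⟩ with hl0
  have hi01 : i1 ≠ i0 := by
    intro h
    have := congrArg Fin.val h
    simp [hi0, hi1] at this
  set E : Matrix (Fin n₁) (Fin n₁) F := Matrix.single i0 i1 1 with hE
  have hEE : E * E = 0 := by
    rw [hE, Matrix.single_mul_single_of_ne (c := (1 : F)) i0 i1 i0 hi01 (1 : F)]
  set k : Matrix (Fin n₁ × Fin n₂) (Fin n₁ × Fin n₂) F := E ⊗ₖ (1 : Matrix (Fin n₂) (Fin n₂) F) with hk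
  have hkk : k * k = 0 := by
    rw [hk, ← Matrix.mul_kronecker_mul, hEE, Matrix.zero_kronecker]
  obtain ⟨m, hmτ⟩ : ∃ m : Matrix (Fin n) (Fin n) F, ∀ x, m *ᵥ tauT e P x = tauT e P (k *ᵥ x) :=
    ⟨_, conj_submatrix_tauT e P k⟩
  have hcomm : ∀ g ∈ omegaGL Q, ∀ u z : Fin n → F, IsLongRoot Q g u z →
      (g : Matrix (Fin n) (Fin n) F) * m = m * (g : Matrix (Fin n) (Fin n) F) := by
    intro g hg u z hlr
    obtain ⟨a, b, hab⟩ := exists_kron_tauT (hle hg)
    obtain ⟨α, hα⟩ := left_scalar_of_range h2 e P (g : Matrix (Fin n) (Fin n) F) u z hlr.sub_mem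
      (a : Matrix (Fin n₁) (Fin n₁) F) (b : Matrix (Fin n₂) (Fin n₂) F) hab
    have hkc : ((a : Matrix (Fin n₁) (Fin n₁) F) ⊗ₖ (b : Matrix (Fin n₂) (Fin n₂) F)) * k =
        k * ((a : Matrix (Fin n₁) (Fin n₁) F) ⊗ₖ (b : Matrix (Fin n₂) (Fin n₂) F)) := by
      rw [hk, hα, ← Matrix.mul_kronecker_mul, ← Matrix.mul_kronecker_mul, Matrix.mul_one, Matrix.one_mul,
        Matrix.smul_mul, Matrix.mul_smul, Matrix.one_mul, Matrix.mul_one]
    apply Matrix.mulVec_injective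
    funext v
    obtain ⟨x, rfl⟩ := tauT_surjective e P v
    rw [← Matrix.mulVec_mulVec, ← Matrix.mulVec_mulVec, hmτ, hab, hab, hmτ, Matrix.mulVec_mulVec,
      Matrix.mulVec_mulVec, hkc]
  have hkill : ∀ u : Fin n → F, Q u = 0 → m *ᵥ u = 0 := by
    intro u hu
    by_cases hu0 : u = 0
    · rw [hu0, Matrix.mulVec_zero]
    obtain ⟨c, hc⟩ := eigen_of_commute hn Q hQ m hcomm u hu hu0
    have hmm : m *ᵥ (m *ᵥ u) = 0 := by
      obtain ⟨x, rfl⟩ := tauT_surjective e P u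
      rw [hmτ, hmτ, Matrix.mulVec_mulVec, hkk, Matrix.zero_mulVec, map_zero]
    rw [hc, Matrix.mulVec_smul, hc, smul_smul] at hmm
    have hcc : c * c = 0 := by
      by_contra h
      exact hu0 ((smul_eq_zero.mp hmm).resolve_left h)
    have hc0 : c = 0 := mul_self_eq_zero.mp hcc
    rw [hc, hc0, zero_smul]
  have hm0 := eq_zero_of_singular_kernel (by omega) Q hQ m hkill
  have hk0 : k *ᵥ (Pi.single (i1, l0) 1) = 0 := by
    apply tauT_injective e P
    rw [← hmτ, hm0, Matrix.zero_mulVec, map_zero]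
  have h00 := congrFun hk0 (i0, l0)
  rw [Matrix.mulVec_single_one] at h00
  simp [hk, hE, Matrix.kroneckerMap_apply] at h00

/-- M5d -/
theorem not_le_tensorProductSubgroup_omega_gen (hn : 8 ≤ n) (Q : (Fin n → F) → F)
    (hQ : IsNondegenerateQuadraticForm Q) (n₁ n₂ : ℕ) (h1 : 2 ≤ n₁) (h2 : 2 ≤ n₂) (e : Fin n ≃ Fin n₁ × Fin n₂)
    (P : GL (Fin n) F) : ¬ omegaGL Q ≤ tensorProductSubgroup n₁ n₂ e P := by
  have hcard : n = n₁ * n₂ := by
    have := Fintype.card_congr e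
    simpa using this
  by_cases h3 : 3 ≤ n₂
  · exact not_le_tensor_core hn Q hQ n₁ n₂ h1 h3 e P
  · have hn₂ : n₂ = 2 := by omega
    subst hn₂
    have h3' : 3 ≤ n₁ := by omega
    rw [Cfsg.Agent.Helper9.AschComp.tensorProductSubgroup_swap]
    exact not_le_tensor_core hn Q hQ 2 n₁ h2 h3' _ P

end Cfsg.Agent.Helper8.AschOm
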