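import Mathlib
import Cfsg.Agent.Helper7.FHDefs

/-!
# S1142 piece G2: a finite group generated by two distinct involutions is dihedral
-/

set_option autoImplicit false

namespace Cfsg.Agent.Helper7.FH

theorem h8_alt_add_two {M : Type*} [Monoid M] (k : ℕ) (x y : M) :
    alt (k + 2) x y = x * y * alt k x y := by
  rw [alt_succ, alt_succ, mul_assoc]

theorem h8_alt_even {M : Type*} [Monoid M] (i : ℕ) (x y : M) :
    alt (2 * i) x y = (x * y) ^ i := by
  induction i with
  | zero => simp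
  | succ i ih => rw [show 2 * (i + 1) = 2 * i + 2 by ring, h8_alt_add_two, ih, pow_succ']

theorem h8_alt_odd {M : Type*} [Monoid M] (i : ℕ) (x y : M) :
    alt (2 * i + 1) x y = (x * y) ^ i * x := by
  induction i with
  | zero => simp [alt_succ]
  | succ i ih =>
    rw [show 2 * (i + 1) + 1 = (2 * i + 1) + 2 by ring, h8_alt_add_two, ih, pow_succ']
    simp only [mul_assoc]

section invol

variable {W : Type*} [Group W]

theorem h8_inv_of_sq {x : W} (hx : x * x = 1) : x⁻¹ = x :=
  inv_eq_of_mul_eq_one_left hx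

theorem h8_yx_eq {x y : W} (hx : x * x = 1) (hy : y * y = 1) : y * x = (x * y)⁻¹ := by
  rw [mul_inv_rev, h8_inv_of_sq hx, h8_inv_of_sq hy]

theorem h8_x_mul_zpow {x y : W} (hx : x * x = 1) (hy : y * y = 1) (e : ℤ) :
    x * (x * y) ^ e = (x * y) ^ (-e) * x := by
  have h1 : x * (x * y) * x⁻¹ = (x * y)⁻¹ := by
    rw [h8_inv_of_sq hx, mul_inv_rev, h8_inv_of_sq hx, h8_inv_of_sq hy]
    rw [← mul_assoc, hx, one_mul]
  have h2 : x * (x * y) ^ e * x⁻¹ = (x * y) ^ (-e) := by
    have := map_zpow (MulAut.conj x) (x * y) e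
    simp only [MulAut.conj_apply] at this
    rw [this, h1, inv_zpow, zpow_neg]
  rw [← h2, inv_mul_cancel_right]

/-- `alt` words as `r ^ e` or `r ^ e * x`, with integer exponents. -/
theorem h8_alt_xy_even (x y : W) (i : ℕ) : alt (2 * i) x y = (x * y) ^ (i : ℤ) := by
  rw [h8_alt_even, zpow_natCast]

theorem h8_alt_xy_odd (x y : W) (i : ℕ) : alt (2 * i + 1) x y = (x * y) ^ (i : ℤ) * x := by
  rw [h8_alt_odd, zpow_natCast]

theorem h8_alt_yx_even {x y : W} (hx : x * x = 1) (hy : y * y = 1) (i : ℕ) :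
    alt (2 * i) y x = (x * y) ^ (-(i : ℤ)) := by
  rw [h8_alt_even, h8_yx_eq hx hy, inv_pow, zpow_neg, zpow_natCast]

theorem h8_alt_yx_odd {x y : W} (hx : x * x = 1) (hy : y * y = 1) (i : ℕ) :
    alt (2 * i + 1) y x = (x * y) ^ (-((i : ℤ) + 1)) * x := by
  have hy' : (x * y) ^ (-1 : ℤ) * x = y := by
    rw [zpow_neg, zpow_one, mul_inv_rev, h8_inv_of_sq hx, h8_inv_of_sq hy, mul_assoc, hx, mul_one]
  rw [h8_alt_odd, h8_yx_eq hx hy, inv_pow, ← zpow_natCast, ← zpow_neg]
  rw [neg_add, zpow_add, mul_assoc, hy']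

theorem h8_zpow_eq_one_cases {r : W} {e : ℤ} (h : r ^ e = 1) (h0 : 0 ≤ e)
    (hn : e ≤ orderOf r) : e = 0 ∨ e = orderOf r := by
  have hd : (orderOf r : ℤ) ∣ e := orderOf_dvd_iff_zpow_eq_one.mpr h
  rcases eq_or_lt_of_le h0 with h0' | h0'
  · left; exact h0'.symm
  · right
    exact le_antisymm hn (Int.le_of_dvd h0' hd)

theorem h8_zpow_inj {r : W} {e f : ℤ} (h : r ^ e = r ^ f) (he0 : 0 ≤ e) (hf0 : 0 ≤ f)
    (he : e < orderOf r) (hf : f < orderOf r) : e = f := by
  have h1 : r ^ (e - f) = 1 := by rw [zpow_sub, h, mul_inv_cancel]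
  have hd : (orderOf r : ℤ) ∣ e - f := orderOf_dvd_iff_zpow_eq_one.mpr h1
  have := Int.eq_zero_of_abs_lt_dvd hd (by rw [abs_lt]; constructor <;> omega)
  omega

/-- words in `x`, `y` starting with `x`, lengths `≤ orderOf (x * y)`, are distinct -/
theorem h8_words_same {x y : W} (hxH : x ∉ Subgroup.zpowers (x * y))
    (hn : 1 ≤ orderOf (x * y)) (k l : ℕ) (hk : k ≤ orderOf (x * y)) (hl : l ≤ orderOf (x * y))
    (h : alt k x y = alt l x y) : k = l := by
  obtain ⟨i, rfl | rfl⟩ := Nat.even_or_odd' k <;> obtain ⟨j, rfl | rfl⟩ := Nat.even_or_odd' l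
  · rw [h8_alt_xy_even, h8_alt_xy_even] at h
    have := h8_zpow_inj h (by omega) (by omega) (by omega) (by omega)
    omega
  · exfalso
    rw [h8_alt_xy_even, h8_alt_xy_odd] at h
    apply hxH
    have hmem : ((x * y) ^ (j : ℤ))⁻¹ * (x * y) ^ (i : ℤ) ∈ Subgroup.zpowers (x * y) :=
      Subgroup.mul_mem _ (Subgroup.inv_mem _ (Subgroup.zpow_mem_zpowers _ _))
        (Subgroup.zpow_mem_zpowers _ _)
    rwa [h, inv_mul_cancel_left] at hmem
  · exfalso
    rw [h8_alt_xy_even, h8_alt_xy_odd] at h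
    apply hxH
    have hmem : ((x * y) ^ (i : ℤ))⁻¹ * (x * y) ^ (j : ℤ) ∈ Subgroup.zpowers (x * y) :=
      Subgroup.mul_mem _ (Subgroup.inv_mem _ (Subgroup.zpow_mem_zpowers _ _))
        (Subgroup.zpow_mem_zpowers _ _)
    rwa [← h, inv_mul_cancel_left] at hmem
  · rw [h8_alt_xy_odd, h8_alt_xy_odd] at h
    have h' := mul_right_cancel h
    have := h8_zpow_inj h' (by omega) (by omega) (by omega) (by omega)
    omega

/-- comparison of words starting with `x` and words starting with `y` -/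
theorem h8_words_cross {x y : W} (hx : x * x = 1) (hy : y * y = 1)
    (hxH : x ∉ Subgroup.zpowers (x * y))
    (k l : ℕ) (hk : k ≤ orderOf (x * y)) (hl : l ≤ orderOf (x * y))
    (h : alt k x y = alt l y x) : k = l ∧ (k = 0 ∨ k = orderOf (x * y)) := by
  obtain ⟨i, rfl | rfl⟩ := Nat.even_or_odd' k <;> obtain ⟨j, rfl | rfl⟩ := Nat.even_or_odd' l
  · rw [h8_alt_xy_even, h8_alt_yx_even hx hy] at h
    have h1 : (x * y) ^ ((i : ℤ) + j) = 1 := by
      rw [zpow_add, h, ← zpow_add, neg_add_cancel, zpow_zero]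
    rcases h8_zpow_eq_one_cases h1 (by omega) (by omega) with h0 | h0
    · refine ⟨by omega, Or.inl (by omega)⟩
    · refine ⟨by omega, Or.inr (by omega)⟩
  · exfalso
    rw [h8_alt_xy_even, h8_alt_yx_odd hx hy] at h
    apply hxH
    have hmem : ((x * y) ^ (-((j : ℤ) + 1)))⁻¹ * (x * y) ^ (i : ℤ) ∈ Subgroup.zpowers (x * y) :=
      Subgroup.mul_mem _ (Subgroup.inv_mem _ (Subgroup.zpow_mem_zpowers _ _))
        (Subgroup.zpow_mem_zpowers _ _)
    rwa [h, inv_mul_cancel_left] at hmem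
  · exfalso
    rw [h8_alt_xy_odd, h8_alt_yx_even hx hy] at h
    apply hxH
    have hmem : ((x * y) ^ (i : ℤ))⁻¹ * (x * y) ^ (-(j : ℤ)) ∈ Subgroup.zpowers (x * y) :=
      Subgroup.mul_mem _ (Subgroup.inv_mem _ (Subgroup.zpow_mem_zpowers _ _))
        (Subgroup.zpow_mem_zpowers _ _)
    rwa [← h, inv_mul_cancel_left] at hmem
  · rw [h8_alt_xy_odd, h8_alt_yx_odd hx hy] at h
    have h' := mul_right_cancel h
    have h1 : (x * y) ^ ((i : ℤ) + (j + 1)) = 1 := by
      rw [zpow_add, h', ← zpow_add, neg_add_cancel, zpow_zero]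
    rcases h8_zpow_eq_one_cases h1 (by omega) (by omega) with h0 | h0
    · omega
    · refine ⟨by omega, Or.inr (by omega)⟩

theorem h8_words_top {x y : W} (hx : x * x = 1) (hy : y * y = 1) :
    alt (orderOf (x * y)) x y = alt (orderOf (x * y)) y x := by
  obtain ⟨i, hi | hi⟩ := Nat.even_or_odd' (orderOf (x * y))
  · have h1 : (x * y) ^ ((i : ℤ) + i) = 1 := by
      have : ((i : ℤ) + i) = ((orderOf (x * y) : ℕ) : ℤ) := by omega
      rw [this, zpow_natCast, pow_orderOf_eq_one]
    rw [hi, h8_alt_xy_even, h8_alt_yx_even hx hy]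
    rw [zpow_add] at h1
    rw [zpow_neg]
    exact eq_inv_of_mul_eq_one_left h1
  · have h1 : (x * y) ^ ((i : ℤ) + (i + 1)) = 1 := by
      have : ((i : ℤ) + (i + 1)) = ((orderOf (x * y) : ℕ) : ℤ) := by omega
      rw [this, zpow_natCast, pow_orderOf_eq_one]
    rw [hi, h8_alt_xy_odd, h8_alt_yx_odd hx hy]
    rw [zpow_add] at h1
    rw [zpow_neg]
    rw [eq_inv_of_mul_eq_one_left h1]

end invol

theorem two_invol_words {W : Type*} [Group W] [Finite W] (σ τ : W) (hσ : σ * σ = 1)
    (hτ : τ * τ = 1) (hne : σ ≠ τ) (hσ1 : σ ≠ 1) (hτ1 : τ ≠ 1)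
    (hgen : Subgroup.closure {σ, τ} = ⊤) :
    ∃ m : ℕ, 2 ≤ m ∧ Nat.card W = 2 * m ∧
      (∀ k l, k ≤ m → l ≤ m → alt k σ τ = alt l σ τ → k = l) ∧
      (∀ k l, k ≤ m → l ≤ m → alt k τ σ = alt l τ σ → k = l) ∧
      (∀ k l, k ≤ m → l ≤ m → alt k σ τ = alt l τ σ → k = l ∧ (k = 0 ∨ k = m)) ∧
      alt m σ τ = alt m τ σ := by
  classical
  set ρ := σ * τ with hρ
  set H := Subgroup.zpowers ρ with hH
  have hτσ : τ * σ = ρ⁻¹ := h8_yx_eq hσ hτ
  have hord : orderOf (τ * σ) = orderOf ρ := by rw [hτσ, orderOf_inv]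
  have hm1 : 1 ≤ orderOf ρ := orderOf_pos ρ
  -- `τ = σ * ρ`
  have hτρ : τ = σ * ρ := by rw [hρ, ← mul_assoc, hσ, one_mul]
  -- conjugation by `σ` preserves `H`
  have hconj : ∀ h ∈ H, σ * h * σ ∈ H := by
    intro h hh
    obtain ⟨e, rfl⟩ := Subgroup.mem_zpowers_iff.mp hh
    rw [h8_x_mul_zpow hσ hτ, mul_assoc, hσ, mul_one]
    exact Subgroup.zpow_mem_zpowers _ _
  -- every element lies in `H ∪ H σ`
  have hcover : ∀ b : W, b ∈ H ∨ b * σ ∈ H := by
    intro b
    have hb : b ∈ Subgroup.closure {σ, τ} := by rw [hgen]; exact Subgroup.mem_top b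
    induction hb using Subgroup.closure_induction with
    | mem x hx =>
      rcases hx with rfl | hx
      · right; rw [hσ]; exact H.one_mem
      · rw [Set.mem_singleton_iff] at hx
        subst hx
        right; rw [hτσ]; exact H.inv_mem (Subgroup.mem_zpowers ρ)
    | one => left; exact H.one_mem
    | mul x y _ _ hx hy =>
      rcases hx with hx | hx <;> rcases hy with hy | hy
      · left; exact H.mul_mem hx hy
      · right; rw [mul_assoc]; exact H.mul_mem hx hy
      · right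
        have : x * y * σ = (x * σ) * (σ * y * σ) := by
          simp only [mul_assoc]
          rw [← mul_assoc σ σ, hσ, one_mul]
        rw [this]
        exact H.mul_mem hx (hconj y hy)
      · left
        have : x * y = (x * σ) * (σ * (y * σ) * σ) := by
          simp only [mul_assoc]
          rw [hσ, mul_one, ← mul_assoc σ σ, hσ, one_mul]
        rw [this]
        exact H.mul_mem hx (hconj _ hy)
    | inv x _ hx =>
      rcases hx with hx | hx
      · left; exact H.inv_mem hx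
      · right
        have h1 : σ * x⁻¹ ∈ H := by
          have := H.inv_mem hx
          rwa [mul_inv_rev, h8_inv_of_sq hσ] at this
        have := hconj _ h1
        rwa [← mul_assoc, hσ, one_mul] at this
  -- `σ ∉ H`
  have hσH : σ ∉ H := by
    intro hσH
    have hτH : τ ∈ H := by rw [hτρ]; exact H.mul_mem hσH (Subgroup.mem_zpowers ρ)
    have htop : H = ⊤ := by
      apply top_le_iff.mp
      rw [← hgen, Subgroup.closure_le]
      intro z hz
      rcases hz with rfl | hz
      · exact hσH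
      · rw [Set.mem_singleton_iff] at hz; subst hz; exact hτH
    have hcyc : IsCyclic W := ⟨⟨ρ, fun z => by
      have : z ∈ H := by rw [htop]; exact Subgroup.mem_top z
      exact this⟩⟩
    have hoσ : orderOf σ = 2 := orderOf_eq_prime (by rw [pow_two]; exact hσ) hσ1
    have hoτ : orderOf τ = 2 := orderOf_eq_prime (by rw [pow_two]; exact hτ) hτ1
    let _ : Fintype W := Fintype.ofFinite W
    have h2 : 2 ∣ Fintype.card W := by
      rw [← hoσ]; exact orderOf_dvd_card
    have hcard := IsCyclic.card_orderOf_eq_totient (α := W) h2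
    rw [Nat.totient_two, Finset.card_eq_one] at hcard
    obtain ⟨z, hz⟩ := hcard
    have h1 : σ ∈ ({z} : Finset W) := by rw [← hz]; simp [hoσ]
    have h2 : τ ∈ ({z} : Finset W) := by rw [← hz]; simp [hoτ]
    rw [Finset.mem_singleton] at h1 h2
    exact hne (h1.trans h2.symm)
  have hτH : τ ∉ Subgroup.zpowers (τ * σ) := by
    rw [hτσ, Subgroup.zpowers_inv]
    intro h
    apply hσH
    have : σ = τ * ρ⁻¹ := by rw [← hτσ, ← mul_assoc, hτ, one_mul]
    rw [this]
    exact H.mul_mem h (H.inv_mem (Subgroup.mem_zpowers ρ))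
  -- the index of `H`
  have hidx : H.index = 2 := by
    rw [Subgroup.index_eq_two_iff]
    refine ⟨σ, fun b => ?_⟩
    rcases hcover b with hb | hb
    · right
      refine ⟨hb, fun hbσ => hσH ?_⟩
      have := H.mul_mem (H.inv_mem hb) hbσ
      rwa [inv_mul_cancel_left] at this
    · left
      refine ⟨hb, fun hb' => hσH ?_⟩
      have := H.mul_mem (H.inv_mem hb') hb
      rwa [inv_mul_cancel_left] at this
  have hcard : Nat.card W = 2 * orderOf ρ := by
    rw [← Subgroup.index_mul_card H, hidx, Nat.card_zpowers]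
  have hm2 : 2 ≤ orderOf ρ := by
    rcases Nat.lt_or_ge (orderOf ρ) 2 with h | h
    · exfalso
      have h1 : orderOf ρ = 1 := by omega
      rw [orderOf_eq_one_iff] at h1
      apply hne
      have : τ = σ⁻¹ := eq_inv_of_mul_eq_one_right h1
      rw [this, h8_inv_of_sq hσ]
    · exact h
  refine ⟨orderOf ρ, hm2, hcard, ?_, ?_, ?_, ?_⟩
  · intro k l hk hl h
    exact h8_words_same hσH hm1 k l hk hl h
  · intro k l hk hl h
    exact h8_words_same hτH (by rw [hord]; exact hm1) k l (by rw [hord]; exact hk)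
      (by rw [hord]; exact hl) h
  · intro k l hk hl h
    exact h8_words_cross hσ hτ hσH k l hk hl h
  · exact h8_words_top hσ hτ

end Cfsg.Agent.Helper7.FH
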