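import Mathlib
import Cfsg.Agent.Helper7.FHDefs
import Cfsg.Agent.Helper6.Fh_L11
import Cfsg.Agent.Helper5.Fh_L14a

/-!
# S1142 piece L14: evaluation of the sum in the trace trick, `m` odd
-/

set_option autoImplicit false

namespace Cfsg.Agent.Helper7.FH

open Finset

theorem h8_sum_range_two_mul (f : ℕ → ℝ) (n : ℕ) :
    ∑ k ∈ range (2 * n), f k = ∑ i ∈ range n, f (2 * i) + ∑ i ∈ range n, f (2 * i + 1) := by
  induction n with
  | zero => simp
  | succ n ih =>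
    rw [show 2 * (n + 1) = 2 * n + 1 + 1 by ring, sum_range_succ, sum_range_succ, ih,
      sum_range_succ, sum_range_succ]
    ring

theorem h8_sum_Ico_one_odd (g : ℕ → ℝ) (n : ℕ) :
    ∑ k ∈ Ico 1 (2 * n + 1), g k =
      ∑ i ∈ Ico 1 (n + 1), g (2 * i) + ∑ i ∈ range n, g (2 * i + 1) := by
  induction n with
  | zero => simp
  | succ n ih =>
    have hL : ∑ k ∈ Ico 1 (2 * (n + 1) + 1), g k =
        ∑ k ∈ Ico 1 (2 * n + 1), g k + g (2 * n + 1) + g (2 * n + 2) := by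
      rw [show 2 * (n + 1) + 1 = (2 * n + 1) + 1 + 1 by ring,
        Finset.sum_Ico_succ_top (by omega), Finset.sum_Ico_succ_top (by omega)]
    have hR : ∑ i ∈ Ico 1 (n + 1 + 1), g (2 * i) =
        ∑ i ∈ Ico 1 (n + 1), g (2 * i) + g (2 * n + 2) := by
      rw [Finset.sum_Ico_succ_top (by omega)]
      rw [show 2 * (n + 1) = 2 * n + 2 by ring]
    rw [hL, hR, ih, sum_range_succ]
    ring

theorem chi_sum_odd (q : ℝ) (hq : 0 < q) (d' j : ℕ) (hj : 1 ≤ j) (hjd : j ≤ d') :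
    ∑ k ∈ Finset.range (2 * d' + 1 + 1),
        (chi q q (2 * q * Real.cos (2 * Real.pi * j / (2 * d' + 1))) k) ^ 2 /
          (q ^ ((k + 1) / 2) * q ^ (k / 2)) +
      ∑ k ∈ Finset.Ico 1 (2 * d' + 1),
        (chi q q (2 * q * Real.cos (2 * Real.pi * j / (2 * d' + 1))) k) ^ 2 /
          (q ^ ((k + 1) / 2) * q ^ (k / 2)) =
      (2 * d' + 1 : ℝ) * (q ^ 2 + 1 - 2 * q * Real.cos (2 * Real.pi * j / (2 * d' + 1))) /
        (q * (1 - Real.cos (2 * Real.pi * j / (2 * d' + 1)))) := by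
  set θ : ℝ := 2 * Real.pi * j / (2 * d' + 1) with hθ
  have hM0 : (0 : ℝ) < 2 * (d' : ℝ) + 1 := by positivity
  have hj0 : (0 : ℝ) < (j : ℝ) := by exact_mod_cast (by omega : 0 < j)
  have hjd' : 2 * (j : ℝ) < 2 * (d' : ℝ) + 1 := by exact_mod_cast (by omega : 2 * j < 2 * d' + 1)
  have hθ0 : 0 < θ := by rw [hθ]; positivity
  have hθπ : θ < Real.pi := by
    rw [hθ, div_lt_iff₀ hM0]
    nlinarith [Real.pi_pos]
  have hs : 0 < Real.sin θ := Real.sin_pos_of_pos_of_lt_pi hθ0 hθπ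
  have hc1 : Real.cos θ < 1 := by
    have := Real.cos_lt_cos_of_nonneg_of_le_pi (le_refl 0) hθπ.le hθ0
    rwa [Real.cos_zero] at this
  have hc2 : -1 < Real.cos θ := by
    have := Real.cos_lt_cos_of_nonneg_of_le_pi hθ0.le (le_refl Real.pi) hθπ
    rwa [Real.cos_pi] at this
  have hsq : Real.sqrt (q * q) = q := Real.sqrt_mul_self hq.le
  -- the summand
  set f : ℕ → ℝ := fun k =>
    (chi q q (2 * q * Real.cos θ) k) ^ 2 / (q ^ ((k + 1) / 2) * q ^ (k / 2)) with hf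
  have hfe : ∀ i : ℕ, f (2 * i) = (2 * Real.cos (i * θ)) ^ 2 := by
    intro i
    have h1 := (chi_closed q q θ hq hq i).1
    rw [hsq] at h1
    simp only [hf]
    rw [h1, show (2 * i + 1) / 2 = i by omega, show 2 * i / 2 = i by omega]
    have : q ^ i ≠ 0 := pow_ne_zero _ hq.ne'
    field_simp
  set K : ℝ := (q - 1) ^ 2 / (q * Real.sin θ ^ 2) with hK
  have hfo : ∀ i : ℕ, f (2 * i + 1) =
      K * (Real.sin (i * θ) + Real.sin ((i + 1) * θ)) ^ 2 := by
    intro i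
    have h2 := (chi_closed q q θ hq hq i).2
    rw [hsq] at h2
    have h3 : chi q q (2 * q * Real.cos θ) (2 * i + 1) =
        q ^ i * (q * (q - 1) / q * Real.sin (i * θ) + (q - 1) * Real.sin ((i + 1) * θ)) /
          Real.sin θ := by
      rw [← h2]; field_simp
    simp only [hf]
    rw [h3, show (2 * i + 1 + 1) / 2 = i + 1 by omega, show (2 * i + 1) / 2 = i by omega, hK]
    have : q ^ i ≠ 0 := pow_ne_zero _ hq.ne'
    field_simp
    ring
  obtain ⟨hT1, hT2⟩ := trig_odd d' j hj hjd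
  rw [← hθ] at hT1 hT2
  -- split the sums by parity
  have e1 : ∑ k ∈ Finset.range (2 * d' + 1 + 1), f k =
      ∑ i ∈ range (d' + 1), (2 * Real.cos (i * θ)) ^ 2 +
        K * ∑ i ∈ range (d' + 1), (Real.sin (i * θ) + Real.sin ((i + 1) * θ)) ^ 2 := by
    rw [show 2 * d' + 1 + 1 = 2 * (d' + 1) by ring, h8_sum_range_two_mul, Finset.mul_sum]
    congr 1
    · exact Finset.sum_congr rfl fun i _ => hfe i
    · exact Finset.sum_congr rfl fun i _ => hfo i
  have e2 : ∑ k ∈ Finset.Ico 1 (2 * d' + 1), f k =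
      ∑ i ∈ Ico 1 (d' + 1), (2 * Real.cos (i * θ)) ^ 2 +
        K * ∑ i ∈ range d', (Real.sin (i * θ) + Real.sin ((i + 1) * θ)) ^ 2 := by
    rw [h8_sum_Ico_one_odd, Finset.mul_sum]
    congr 1
    · exact Finset.sum_congr rfl fun i _ => hfe i
    · exact Finset.sum_congr rfl fun i _ => hfo i
  have hmain : ∑ k ∈ Finset.range (2 * d' + 1 + 1), f k + ∑ k ∈ Finset.Ico 1 (2 * d' + 1), f k =
      2 * (2 * (d' : ℝ) + 1) + K * ((2 * (d' : ℝ) + 1) * (1 + Real.cos θ)) := by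
    rw [e1, e2, ← hT1, ← hT2]
    ring
  rw [hmain, hK]
  have hsin2 : Real.sin θ ^ 2 = (1 - Real.cos θ) * (1 + Real.cos θ) := by
    have := Real.sin_sq_add_cos_sq θ
    nlinarith
  rw [hsin2]
  have h1 : (1 - Real.cos θ) ≠ 0 := by linarith
  have h2 : (1 + Real.cos θ) ≠ 0 := by linarith
  field_simp
  ring

end Cfsg.Agent.Helper7.FH
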