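import Mathlib
import Cfsg.Agent.Helper7.FHDefs

/-!
# S1142 piece L2: traces on an eigenspace of `C`
-/

set_option autoImplicit false

namespace Cfsg.Agent.Helper7.FH

open Matrix

section aux

variable {F : Type*} [Fintype F] [DecidableEq F]

/-- the trace of an idempotent real matrix is a natural number -/
theorem h8_trace_idem_nat (P : Matrix F F ℝ) (hP : P * P = P) : ∃ d : ℕ, Matrix.trace P = d := by
  have he : IsIdempotentElem (Matrix.toLin' P) := by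
    unfold IsIdempotentElem
    rw [Module.End.mul_eq_comp, ← Matrix.toLin'_mul, hP]
  refine ⟨Module.finrank ℝ (LinearMap.range (Matrix.toLin' P)), ?_⟩
  rw [← Matrix.trace_toLin'_eq]
  exact (LinearMap.IsIdempotentElem.isProj_range _ he).trace

/-- a nonzero symmetric idempotent real matrix has positive trace -/
theorem h8_trace_pos (E : Matrix F F ℝ) (hidem : E * E = E) (hsymm : E.transpose = E)
    (hne : E ≠ 0) : 0 < Matrix.trace E := by
  have h1 : Matrix.trace E = ∑ i, ∑ j, E i j * E i j := by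
    conv_lhs => rw [← hidem]
    rw [Matrix.trace]
    apply Finset.sum_congr rfl
    intro i _
    rw [Matrix.diag_apply, Matrix.mul_apply]
    apply Finset.sum_congr rfl
    intro j _
    have : E j i = E i j := by
      have := congrFun (congrFun hsymm i) j
      rwa [Matrix.transpose_apply] at this
    rw [this]
  rw [h1]
  have hnn : ∀ i, 0 ≤ ∑ j, E i j * E i j :=
    fun i => Finset.sum_nonneg fun j _ => mul_self_nonneg _
  obtain ⟨i, j, hij⟩ : ∃ i j, E i j ≠ 0 := by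
    by_contra hcon
    push Not at hcon
    apply hne
    ext i j
    exact hcon i j
  have hpos : 0 < ∑ j, E i j * E i j :=
    lt_of_lt_of_le (mul_self_pos.mpr hij)
      (Finset.single_le_sum (f := fun j => E i j * E i j) (fun j _ => mul_self_nonneg _)
        (Finset.mem_univ j))
  exact lt_of_lt_of_le hpos
    (Finset.single_le_sum (f := fun i => ∑ j, E i j * E i j) (fun i _ => hnn i)
      (Finset.mem_univ i))

variable (D : FHData F)

theorem h8_p₁_idem : D.p₁ * D.p₁ = D.p₁ := by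
  have ha : ((D.a : ℝ) + 1) ≠ 0 := by positivity
  have hsq : (1 + D.T₁) * (1 + D.T₁) = ((D.a : ℝ) + 1) • (1 + D.T₁) := by
    have : (1 + D.T₁) * (1 + D.T₁) = 1 + (2 : ℝ) • D.T₁ + D.T₁ * D.T₁ := by
      rw [two_smul]; noncomm_ring
    rw [this, D.sq₁]
    module
  unfold FHData.p₁
  rw [Matrix.smul_mul, Matrix.mul_smul, hsq, smul_smul, smul_smul]
  congr 1
  field_simp

theorem h8_p₂_idem : D.p₂ * D.p₂ = D.p₂ := by
  have hb : ((D.b : ℝ) + 1) ≠ 0 := by positivity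
  have hsq : (1 + D.T₂) * (1 + D.T₂) = ((D.b : ℝ) + 1) • (1 + D.T₂) := by
    have : (1 + D.T₂) * (1 + D.T₂) = 1 + (2 : ℝ) • D.T₂ + D.T₂ * D.T₂ := by
      rw [two_smul]; noncomm_ring
    rw [this, D.sq₂]
    module
  unfold FHData.p₂
  rw [Matrix.smul_mul, Matrix.mul_smul, hsq, smul_smul, smul_smul]
  congr 1
  field_simp

theorem h8_C_eq : D.C = D.p₁ + D.p₂ - D.p₁ * D.p₂ - D.p₂ * D.p₁ := by
  unfold FHData.C
  have h1 := h8_p₁_idem D
  have h2 := h8_p₂_idem D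
  calc (D.p₁ - D.p₂) * (D.p₁ - D.p₂)
      = D.p₁ * D.p₁ + D.p₂ * D.p₂ - D.p₁ * D.p₂ - D.p₂ * D.p₁ := by noncomm_ring
    _ = D.p₁ + D.p₂ - D.p₁ * D.p₂ - D.p₂ * D.p₁ := by rw [h1, h2]

theorem h8_comm_p₁ {E : Matrix F F ℝ} (hc : E * D.T₁ = D.T₁ * E) : E * D.p₁ = D.p₁ * E := by
  unfold FHData.p₁
  rw [Matrix.mul_smul, Matrix.smul_mul, mul_add, add_mul, hc, mul_one, one_mul]

theorem h8_comm_p₂ {E : Matrix F F ℝ} (hc : E * D.T₂ = D.T₂ * E) : E * D.p₂ = D.p₂ * E := by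
  unfold FHData.p₂
  rw [Matrix.mul_smul, Matrix.smul_mul, mul_add, add_mul, hc, mul_one, one_mul]

end aux

section main

variable {F : Type*} [Fintype F] [DecidableEq F] (D : FHData F)

theorem eig_traces {E : Matrix F F ℝ} {lam : ℝ} (h : D.Eig E lam) :
    E * D.p₁ * D.p₂ * D.p₁ = lam • (E * D.p₁) ∧ E * D.p₂ * D.p₁ * D.p₂ = lam • (E * D.p₂) ∧
    E * (D.p₁ * D.p₂ + D.p₂ * D.p₁) = E * D.p₁ + E * D.p₂ - (1 - lam) • E ∧
    ∃ d : ℕ, 0 < d ∧ Matrix.trace (E * D.p₁) = d ∧ Matrix.trace (E * D.p₂) = d ∧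
      Matrix.trace E = 2 * d ∧ Matrix.trace (E * D.p₁ * D.p₂) = lam * d := by
  have hp1 := h8_p₁_idem D
  have hp2 := h8_p₂_idem D
  have hC := h8_C_eq D
  have hc1 : E * D.p₁ = D.p₁ * E := h8_comm_p₁ D h.comm₁
  have hc2 : E * D.p₂ = D.p₂ * E := h8_comm_p₂ D h.comm₂
  have hCE : D.C * E = (1 - lam) • E := h.eig
  -- `E` commutes with `C`
  have hEC : E * D.C = (1 - lam) • E := by
    rw [← hCE, hC]
    simp only [mul_sub, mul_add, sub_mul, add_mul]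
    rw [← mul_assoc E D.p₁ D.p₂, hc1, mul_assoc D.p₁ E D.p₂, hc2, ← mul_assoc D.p₁ D.p₂ E,
      ← mul_assoc E D.p₂ D.p₁, hc2, mul_assoc D.p₂ E D.p₁, hc1, ← mul_assoc D.p₂ D.p₁ E]
  -- (3)
  have h3 : E * (D.p₁ * D.p₂ + D.p₂ * D.p₁) = E * D.p₁ + E * D.p₂ - (1 - lam) • E := by
    have : D.p₁ * D.p₂ + D.p₂ * D.p₁ = D.p₁ + D.p₂ - D.C := by rw [hC]; abel
    rw [this, mul_sub, mul_add, hEC]
  -- `p₁ * C = p₁ - p₁ p₂ p₁`
  have hp1C : D.p₁ * D.C = D.p₁ - D.p₁ * D.p₂ * D.p₁ := by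
    rw [hC]
    simp only [mul_sub, mul_add]
    rw [hp1, ← mul_assoc D.p₁ D.p₁ D.p₂, hp1, ← mul_assoc]
    abel
  have hp2C : D.p₂ * D.C = D.p₂ - D.p₂ * D.p₁ * D.p₂ := by
    rw [hC]
    simp only [mul_sub, mul_add]
    rw [hp2, ← mul_assoc D.p₂ D.p₂ D.p₁, hp2, ← mul_assoc]
    abel
  have h1 : E * D.p₁ * D.p₂ * D.p₁ = lam • (E * D.p₁) := by
    have e1 : E * D.p₁ * D.p₂ * D.p₁ = E * (D.p₁ * D.p₂ * D.p₁) := by
      simp only [mul_assoc]
    have e2 : D.p₁ * D.p₂ * D.p₁ = D.p₁ - D.p₁ * D.C := by rw [hp1C]; abel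
    rw [e1, e2, mul_sub, ← mul_assoc E D.p₁ D.C, hc1, mul_assoc D.p₁ E D.C, hEC, Matrix.mul_smul]
    module
  have h2 : E * D.p₂ * D.p₁ * D.p₂ = lam • (E * D.p₂) := by
    have e1 : E * D.p₂ * D.p₁ * D.p₂ = E * (D.p₂ * D.p₁ * D.p₂) := by
      simp only [mul_assoc]
    have e2 : D.p₂ * D.p₁ * D.p₂ = D.p₂ - D.p₂ * D.C := by rw [hp2C]; abel
    rw [e1, e2, mul_sub, ← mul_assoc E D.p₂ D.C, hc2, mul_assoc D.p₂ E D.C, hEC, Matrix.mul_smul]
    module
  refine ⟨h1, h2, h3, ?_⟩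
  -- traces
  have hidem1 : (E * D.p₁) * (E * D.p₁) = E * D.p₁ := by
    calc (E * D.p₁) * (E * D.p₁) = E * (D.p₁ * E) * D.p₁ := by simp only [mul_assoc]
      _ = E * (E * D.p₁) * D.p₁ := by rw [hc1]
      _ = (E * E) * (D.p₁ * D.p₁) := by simp only [mul_assoc]
      _ = E * D.p₁ := by rw [h.idem, hp1]
  obtain ⟨d, hd⟩ := h8_trace_idem_nat (E * D.p₁) hidem1
  -- `tr (E p₁ p₂ p₁) = tr (E p₁ p₂)`
  have t1 : Matrix.trace (E * D.p₁ * D.p₂ * D.p₁) = Matrix.trace (E * D.p₁ * D.p₂) := by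
    rw [Matrix.trace_mul_comm (E * D.p₁ * D.p₂) D.p₁]
    have : D.p₁ * (E * D.p₁ * D.p₂) = E * D.p₁ * D.p₂ := by
      calc D.p₁ * (E * D.p₁ * D.p₂) = (D.p₁ * E) * D.p₁ * D.p₂ := by simp only [mul_assoc]
        _ = (E * D.p₁) * D.p₁ * D.p₂ := by rw [hc1]
        _ = E * (D.p₁ * D.p₁) * D.p₂ := by simp only [mul_assoc]
        _ = E * D.p₁ * D.p₂ := by rw [hp1]
    rw [this]
  have t2 : Matrix.trace (E * D.p₂ * D.p₁ * D.p₂) = Matrix.trace (E * D.p₁ * D.p₂) := by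
    rw [Matrix.trace_mul_comm (E * D.p₂ * D.p₁) D.p₂]
    have : D.p₂ * (E * D.p₂ * D.p₁) = E * D.p₂ * D.p₁ := by
      calc D.p₂ * (E * D.p₂ * D.p₁) = (D.p₂ * E) * D.p₂ * D.p₁ := by simp only [mul_assoc]
        _ = (E * D.p₂) * D.p₂ * D.p₁ := by rw [hc2]
        _ = E * (D.p₂ * D.p₂) * D.p₁ := by simp only [mul_assoc]
        _ = E * D.p₂ * D.p₁ := by rw [hp2]
    rw [this, Matrix.trace_mul_comm (E * D.p₂) D.p₁, ← mul_assoc, ← hc1]
  have e12 : Matrix.trace (E * D.p₁ * D.p₂) = lam * d := by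
    rw [← t1, h1, Matrix.trace_smul, hd, smul_eq_mul]
  have e2 : Matrix.trace (E * D.p₂) = d := by
    have : lam * Matrix.trace (E * D.p₂) = lam * d := by
      rw [← e12, ← t2, h2, Matrix.trace_smul, smul_eq_mul]
    exact mul_left_cancel₀ h.lam0 this
  have e21 : Matrix.trace (E * D.p₂ * D.p₁) = lam * d := by
    rw [Matrix.trace_mul_comm (E * D.p₂) D.p₁, ← mul_assoc, ← hc1, e12]
  have eE : Matrix.trace E = 2 * d := by
    have := congrArg Matrix.trace h3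
    rw [mul_add, Matrix.trace_add, Matrix.trace_sub, Matrix.trace_add, Matrix.trace_smul,
      ← mul_assoc, ← mul_assoc, e12, e21, hd, e2, smul_eq_mul] at this
    have hl : (1 - lam) ≠ 0 := sub_ne_zero.mpr (Ne.symm h.lam1)
    have h' : (1 - lam) * Matrix.trace E = (1 - lam) * (2 * d) := by linarith
    exact mul_left_cancel₀ hl h'
  have hpos : 0 < Matrix.trace E := h8_trace_pos E h.idem h.symm h.ne
  refine ⟨d, ?_, hd, e2, eE, e12⟩
  rw [eE] at hpos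
  have : (0 : ℝ) < d := by linarith
  exact_mod_cast this

end main

end Cfsg.Agent.Helper7.FH
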