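import Mathlib
import Cfsg.Agent.Helper7.FHDefs

/-!
# S1142 piece L4: traces of the alternating words on an eigenspace
-/

set_option autoImplicit false

namespace Cfsg.Agent.Helper7.FH

open Matrix

section aux

variable {F : Type*} [Fintype F] [DecidableEq F]

theorem h8_alt_add_two' {M : Type*} [Monoid M] (k : ℕ) (x y : M) :
    alt (k + 2) x y = x * y * alt k x y := by
  rw [alt_succ, alt_succ, mul_assoc]

/-- the generic recursion for the traces of alternating words -/
theorem h8_eig_chi_aux (E T U : Matrix F F ℝ) (a b t d : ℝ)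
    (h0 : Matrix.trace E = d * 2) (h1 : Matrix.trace (E * T) = d * (a - 1))
    (h2 : Matrix.trace (E * (T * U)) = d * t)
    (h3 : Matrix.trace (E * (T * U * T)) = d * (a * (b - 1) + (a - 1) * t))
    (hq : E * (T * U) * (T * U) = t • (E * (T * U)) - (a * b) • E) :
    ∀ k : ℕ, Matrix.trace (E * alt k T U) = d * chi a b t k := by
  intro k
  induction k using Nat.strong_induction_on with
  | _ k ih =>
    match k, ih with
    | 0, _ => simpa [alt, chi] using h0
    | 1, _ => simpa [alt, chi] using h1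
    | 2, _ => simpa [alt, chi] using h2
    | 3, _ =>
      have : alt 3 T U = T * U * T := by simp [alt, mul_assoc]
      rw [this, h3]
      simp [chi]
    | k + 4, ih =>
      have e1 : alt (k + 4) T U = T * U * (T * U * alt k T U) := by
        rw [show k + 4 = (k + 2) + 2 by ring, h8_alt_add_two', h8_alt_add_two']
      have e2 : E * (T * U * (T * U * alt k T U)) = E * (T * U) * (T * U) * alt k T U := by
        simp only [mul_assoc]
      have e3 : E * (T * U) * alt k T U = E * alt (k + 2) T U := by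
        rw [h8_alt_add_two']; simp only [mul_assoc]
      rw [e1, e2, hq, sub_mul, Matrix.smul_mul, Matrix.smul_mul, e3, Matrix.trace_sub,
        Matrix.trace_smul, Matrix.trace_smul, ih (k + 2) (by omega), ih k (by omega)]
      simp only [smul_eq_mul]
      rw [show chi a b t (k + 4) = t * chi a b t (k + 2) - a * b * chi a b t k by rw [chi]]
      ring

variable (D : FHData F)

theorem h8_T₁_eq : D.T₁ = ((D.a : ℝ) + 1) • D.p₁ - 1 := by
  have ha : ((D.a : ℝ) + 1) ≠ 0 := by positivity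
  unfold FHData.p₁
  rw [smul_smul, mul_inv_cancel₀ ha, one_smul]
  abel

theorem h8_T₂_eq : D.T₂ = ((D.b : ℝ) + 1) • D.p₂ - 1 := by
  have hb : ((D.b : ℝ) + 1) ≠ 0 := by positivity
  unfold FHData.p₂
  rw [smul_smul, mul_inv_cancel₀ hb, one_smul]
  abel

end aux

section main

variable {F : Type*} [Fintype F] [DecidableEq F] (D : FHData F)

theorem eig_chi {E : Matrix F F ℝ} {lam : ℝ} (h : D.Eig E lam) (d : ℕ)
    (hd1 : Matrix.trace (E * D.p₁) = d) (hd2 : Matrix.trace (E * D.p₂) = d)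
    (hd : Matrix.trace E = 2 * d) (hd12 : Matrix.trace (E * D.p₁ * D.p₂) = lam * d)
    (hq1 : E * (D.T₁ * D.T₂) * (D.T₁ * D.T₂) =
      D.t lam • (E * (D.T₁ * D.T₂)) - ((D.a : ℝ) * D.b) • E)
    (hq2 : E * (D.T₂ * D.T₁) * (D.T₂ * D.T₁) =
      D.t lam • (E * (D.T₂ * D.T₁)) - ((D.a : ℝ) * D.b) • E) (k : ℕ) :
    Matrix.trace (E * D.A k) = d * chi D.a D.b (D.t lam) k ∧
    Matrix.trace (E * D.B k) = d * chi D.b D.a (D.t lam) k := by
  have hT1 := h8_T₁_eq D
  have hT2 := h8_T₂_eq D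
  -- traces of `E T₁`, `E T₂`
  have t1 : Matrix.trace (E * D.T₁) = d * ((D.a : ℝ) - 1) := by
    rw [hT1, mul_sub, Matrix.mul_smul, mul_one, Matrix.trace_sub, Matrix.trace_smul, hd1, hd,
      smul_eq_mul]
    ring
  have t2 : Matrix.trace (E * D.T₂) = d * ((D.b : ℝ) - 1) := by
    rw [hT2, mul_sub, Matrix.mul_smul, mul_one, Matrix.trace_sub, Matrix.trace_smul, hd2, hd,
      smul_eq_mul]
    ring
  -- trace of `E T₁ T₂`
  have t12 : Matrix.trace (E * (D.T₁ * D.T₂)) = d * D.t lam := by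
    have e : E * (D.T₁ * D.T₂) =
        (((D.a : ℝ) + 1) * ((D.b : ℝ) + 1)) • (E * D.p₁ * D.p₂) - ((D.a : ℝ) + 1) • (E * D.p₁)
          - ((D.b : ℝ) + 1) • (E * D.p₂) + E := by
      rw [hT1, hT2]
      simp only [mul_sub, sub_mul, Matrix.mul_smul, Matrix.smul_mul, mul_one, one_mul,
        smul_smul, mul_assoc]
      module
    rw [e, Matrix.trace_add, Matrix.trace_sub, Matrix.trace_sub, Matrix.trace_smul,
      Matrix.trace_smul, Matrix.trace_smul, hd12, hd1, hd2, hd]
    simp only [smul_eq_mul, FHData.t]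
    ring
  have t21 : Matrix.trace (E * (D.T₂ * D.T₁)) = d * D.t lam := by
    rw [← t12, ← mul_assoc, Matrix.trace_mul_comm, ← mul_assoc, ← h.comm₁, mul_assoc]
  -- traces of `E T₁ T₂ T₁` and `E T₂ T₁ T₂`
  have t121 : Matrix.trace (E * (D.T₁ * D.T₂ * D.T₁)) =
      d * ((D.a : ℝ) * ((D.b : ℝ) - 1) + ((D.a : ℝ) - 1) * D.t lam) := by
    have e : Matrix.trace (E * (D.T₁ * D.T₂ * D.T₁)) =
        Matrix.trace (E * (D.T₁ * D.T₁) * D.T₂) := by
      rw [← mul_assoc E, Matrix.trace_mul_comm, ← mul_assoc, ← mul_assoc, ← h.comm₁]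
      simp only [mul_assoc]
    rw [e, D.sq₁, mul_add, Matrix.mul_smul, Matrix.mul_smul, mul_one, add_mul, Matrix.smul_mul,
      Matrix.smul_mul, Matrix.trace_add, Matrix.trace_smul, Matrix.trace_smul, t2, mul_assoc, t12]
    simp only [smul_eq_mul]
    ring
  have t212 : Matrix.trace (E * (D.T₂ * D.T₁ * D.T₂)) =
      d * ((D.b : ℝ) * ((D.a : ℝ) - 1) + ((D.b : ℝ) - 1) * D.t lam) := by
    have e : Matrix.trace (E * (D.T₂ * D.T₁ * D.T₂)) =
        Matrix.trace (E * (D.T₂ * D.T₂) * D.T₁) := by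
      rw [← mul_assoc E, Matrix.trace_mul_comm, ← mul_assoc, ← mul_assoc, ← h.comm₂]
      simp only [mul_assoc]
    rw [e, D.sq₂, mul_add, Matrix.mul_smul, Matrix.mul_smul, mul_one, add_mul, Matrix.smul_mul,
      Matrix.smul_mul, Matrix.trace_add, Matrix.trace_smul, Matrix.trace_smul, t1, mul_assoc, t21]
    simp only [smul_eq_mul]
    ring
  have h0 : Matrix.trace E = (d : ℝ) * 2 := by rw [hd]; ring
  have hq2' : E * (D.T₂ * D.T₁) * (D.T₂ * D.T₁) =
      D.t lam • (E * (D.T₂ * D.T₁)) - ((D.b : ℝ) * D.a) • E := by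
    rw [hq2, mul_comm (D.b : ℝ)]
  exact ⟨h8_eig_chi_aux E D.T₁ D.T₂ D.a D.b (D.t lam) d h0 t1 t12 t121 hq1 k,
    h8_eig_chi_aux E D.T₂ D.T₁ D.b D.a (D.t lam) d h0 t2 t21 t212 hq2' k⟩

end main

end Cfsg.Agent.Helper7.FH
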