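import Mathlib
import Cfsg.Agent.Helper7.FHDefs
import Cfsg.Agent.Helper7.Fh_L0

/-!
# S1142 piece L7: `1` is not an eigenvalue of `C` when `m` is odd
-/

set_option autoImplicit false

namespace Cfsg.Agent.Helper7.FH

open Matrix

section aux

variable {F : Type*} [Fintype F] [DecidableEq F]

/-- alternating words act by scalars on a common eigenvector -/
theorem h8_alt_mulVec (v : F → ℝ) :
    ∀ (k : ℕ) (T U : Matrix F F ℝ) (α β : ℝ), T.mulVec v = α • v → U.mulVec v = β • v →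
      (alt k T U).mulVec v = (α ^ ((k + 1) / 2) * β ^ (k / 2)) • v := by
  intro k
  induction k with
  | zero =>
    intro T U α β _ _
    simp
  | succ k ih =>
    intro T U α β hT hU
    rw [alt_succ, ← Matrix.mulVec_mulVec, ih U T β α hU hT, Matrix.mulVec_smul, hT, smul_smul]
    congr 1
    have : (k + 1 + 1) / 2 = k / 2 + 1 := by omega
    rw [this, pow_succ]
    ring

/-- a symmetric matrix is self-adjoint for the dot product -/
theorem h8_dot_symm (p : Matrix F F ℝ) (hp : p.transpose = p) (x y : F → ℝ) :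
    x ⬝ᵥ p.mulVec y = p.mulVec x ⬝ᵥ y := by
  rw [Matrix.dotProduct_mulVec, ← Matrix.vecMul_transpose, hp]

/-- the key step: a vector fixed by `C` and by the symmetric idempotent `p`, with
`p C = p - p p' p`, is killed by `p'`. -/
theorem h8_killed (p p' C : Matrix F F ℝ) (_hp : p * p = p) (hp' : p' * p' = p')
    (hpt : p.transpose = p) (hpt' : p'.transpose = p') (hpC : p * C = p - p * p' * p)
    (w : F → ℝ) (hCw : C.mulVec w = w) (hpw : p.mulVec w = w) : p'.mulVec w = 0 := by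
  have h1 : (p * p').mulVec w = 0 := by
    have := congrArg (fun M => Matrix.mulVec M w) hpC
    beta_reduce at this
    rw [← Matrix.mulVec_mulVec, hCw, hpw, Matrix.sub_mulVec, hpw, ← Matrix.mulVec_mulVec, hpw]
      at this
    have h2 : (p * p').mulVec w = w - w := by
      rw [sub_self]
      have := sub_eq_self.mp this.symm
      exact this
    rw [h2, sub_self]
  have h2 : p'.mulVec w ⬝ᵥ p'.mulVec w = 0 := by
    rw [← h8_dot_symm p' hpt', Matrix.mulVec_mulVec, hp']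
    nth_rewrite 1 [← hpw]
    rw [← h8_dot_symm p hpt, Matrix.mulVec_mulVec, h1, dotProduct_zero]
  exact dotProduct_self_eq_zero.mp h2

end aux

section main

variable {F : Type*} [Fintype F] [DecidableEq F] (D : FHData F)

theorem no_eig_one_of_odd (hodd : Odd D.m) (v : F → ℝ) (hv : v ≠ 0) (h : D.C.mulVec v = v) :
    False := by
  obtain ⟨hp1, hp2, hpt1, hpt2, hT1, hT2, _, _⟩ := p_facts D
  obtain ⟨hC, _, hCp1, hCp2, _, _, _, hp1C, hp2C⟩ := C_facts D
  obtain ⟨d', hd'⟩ := hodd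
  have ha : (0 : ℝ) < D.a := by
    have := D.ha
    positivity
  have hb : (0 : ℝ) < D.b := by
    have := D.hb
    positivity
  have hm1 : (D.m + 1) / 2 = d' + 1 := by omega
  have hm2 : D.m / 2 = d' := by omega
  -- `v₁ = p₁ v = 0`
  have hv1 : D.p₁.mulVec v = 0 := by
    set v₁ := D.p₁.mulVec v with hv₁
    have hCv1 : D.C.mulVec v₁ = v₁ := by
      rw [hv₁, Matrix.mulVec_mulVec, hCp1, ← Matrix.mulVec_mulVec, h]
    have hpv1 : D.p₁.mulVec v₁ = v₁ := by
      rw [hv₁, Matrix.mulVec_mulVec, hp1]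
    have hk : D.p₂.mulVec v₁ = 0 := h8_killed D.p₁ D.p₂ D.C hp1 hp2 hpt1 hpt2 hp1C v₁ hCv1 hpv1
    have e1 : D.T₁.mulVec v₁ = (D.a : ℝ) • v₁ := by
      rw [hT1, Matrix.sub_mulVec, Matrix.smul_mulVec, hpv1, Matrix.one_mulVec]
      module
    have e2 : D.T₂.mulVec v₁ = (-1 : ℝ) • v₁ := by
      rw [hT2, Matrix.sub_mulVec, Matrix.smul_mulVec, hk, Matrix.one_mulVec]
      module
    have b1 := h8_alt_mulVec v₁ D.m D.T₁ D.T₂ _ _ e1 e2
    have b2 := h8_alt_mulVec v₁ D.m D.T₂ D.T₁ _ _ e2 e1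
    rw [D.braid, b2, hm1, hm2] at b1
    have : (((-1 : ℝ) ^ (d' + 1) * (D.a : ℝ) ^ d') - ((D.a : ℝ) ^ (d' + 1) * (-1) ^ d')) • v₁
        = 0 := by
      rw [sub_smul, b1, sub_self]
    rcases smul_eq_zero.mp this with h0 | h0
    · exfalso
      have : ((-1 : ℝ) ^ (d' + 1) * (D.a : ℝ) ^ d') - ((D.a : ℝ) ^ (d' + 1) * (-1) ^ d')
          = -((-1 : ℝ) ^ d' * (D.a : ℝ) ^ d' * ((D.a : ℝ) + 1)) := by ring
      rw [this, neg_eq_zero] at h0
      have h1 : ((-1 : ℝ) ^ d') ≠ 0 := pow_ne_zero _ (by norm_num)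
      have h2 : ((D.a : ℝ) ^ d') ≠ 0 := pow_ne_zero _ ha.ne'
      have h3 : ((D.a : ℝ) + 1) ≠ 0 := by positivity
      exact mul_ne_zero (mul_ne_zero h1 h2) h3 h0
    · exact h0
  -- `v₂ = p₂ v = 0`
  have hv2 : D.p₂.mulVec v = 0 := by
    set v₂ := D.p₂.mulVec v with hv₂
    have hCv2 : D.C.mulVec v₂ = v₂ := by
      rw [hv₂, Matrix.mulVec_mulVec, hCp2, ← Matrix.mulVec_mulVec, h]
    have hpv2 : D.p₂.mulVec v₂ = v₂ := by
      rw [hv₂, Matrix.mulVec_mulVec, hp2]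
    have hk : D.p₁.mulVec v₂ = 0 := h8_killed D.p₂ D.p₁ D.C hp2 hp1 hpt2 hpt1 hp2C v₂ hCv2 hpv2
    have e2 : D.T₂.mulVec v₂ = (D.b : ℝ) • v₂ := by
      rw [hT2, Matrix.sub_mulVec, Matrix.smul_mulVec, hpv2, Matrix.one_mulVec]
      module
    have e1 : D.T₁.mulVec v₂ = (-1 : ℝ) • v₂ := by
      rw [hT1, Matrix.sub_mulVec, Matrix.smul_mulVec, hk, Matrix.one_mulVec]
      module
    have b1 := h8_alt_mulVec v₂ D.m D.T₁ D.T₂ _ _ e1 e2
    have b2 := h8_alt_mulVec v₂ D.m D.T₂ D.T₁ _ _ e2 e1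
    rw [D.braid, b2, hm1, hm2] at b1
    have : (((D.b : ℝ) ^ (d' + 1) * (-1) ^ d') - ((-1 : ℝ) ^ (d' + 1) * (D.b : ℝ) ^ d')) • v₂
        = 0 := by
      rw [sub_smul, b1, sub_self]
    rcases smul_eq_zero.mp this with h0 | h0
    · exfalso
      have : ((D.b : ℝ) ^ (d' + 1) * (-1) ^ d') - ((-1 : ℝ) ^ (d' + 1) * (D.b : ℝ) ^ d')
          = ((-1 : ℝ) ^ d' * (D.b : ℝ) ^ d' * ((D.b : ℝ) + 1)) := by ring
      rw [this] at h0
      have h1 : ((-1 : ℝ) ^ d') ≠ 0 := pow_ne_zero _ (by norm_num)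
      have h2 : ((D.b : ℝ) ^ d') ≠ 0 := pow_ne_zero _ hb.ne'
      have h3 : ((D.b : ℝ) + 1) ≠ 0 := by positivity
      exact mul_ne_zero (mul_ne_zero h1 h2) h3 h0
    · exact h0
  -- conclusion
  apply hv
  rw [← h, hC]
  simp only [Matrix.sub_mulVec, Matrix.add_mulVec, ← Matrix.mulVec_mulVec, hv1, hv2,
    Matrix.mulVec_zero, add_zero, sub_zero]

end main

end Cfsg.Agent.Helper7.FH
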