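import Mathlib
import Cfsg.Prelude.Def_Solvable

/-!
Two separable pieces for helper7's S5075 (McLaughlin's theorem over the prime field):
`exists_transvection_of_order` (an element of order `p` whose fixed space is a hyperplane is a
transvection) and `eq_one_of_stab_flag` (an element of `H` acting trivially on `Y` and on `V / Y`
is trivial when `O_p(H) = 1`).
-/

set_option autoImplicit false

namespace Cfsg.Agent.Helper8.McL

open Module

theorem one_app {R V : Type*} [CommRing R] [AddCommGroup V] [Module R V] (x : V) :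
    (1 : V ≃ₗ[R] V) x = x := rfl

theorem pow_apply_of_transvection {R V : Type*} [CommRing R] [AddCommGroup V] [Module R V]
    (t : V ≃ₗ[R] V) (φ : Dual R V) (v : V)
    (he : (t : V →ₗ[R] V) = LinearMap.transvection φ v) (n : ℕ) :
    (t ^ n) v = (1 + φ v) ^ n • v := by
  induction n with
  | zero => simp
  | succ k ih =>
    rw [pow_succ', LinearEquiv.mul_apply, ih, map_smul]
    have h1 : t v = (1 + φ v) • v := by
      have := LinearMap.congr_fun he v
      rw [LinearEquiv.coe_coe, LinearMap.transvection.apply] at this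
      rw [this, add_smul, one_smul]
    rw [h1, smul_smul, pow_succ]

theorem exists_transvection_of_order {p : ℕ} [Fact p.Prime] {V : Type*} [AddCommGroup V]
    [Module (ZMod p) V] [Finite V] (t : V ≃ₗ[ZMod p] V) (ho : orderOf t = p)
    (hr : Module.finrank (ZMod p) ↥(LinearMap.ker ((t : V →ₗ[ZMod p] V) - LinearMap.id)) + 1 =
      Module.finrank (ZMod p) V) :
    ∃ (φ : Module.Dual (ZMod p) V) (v : V) (h : φ v = 0), t = LinearEquiv.transvection h := by
  have hp : p.Prime := Fact.out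
  have hfin : Module.Finite (ZMod p) V := Module.Finite.of_finite
  have hrn := LinearMap.finrank_range_add_finrank_ker ((t : V →ₗ[ZMod p] V) - LinearMap.id)
  have hrange : Module.finrank (ZMod p)
      ↥(LinearMap.range ((t : V →ₗ[ZMod p] V) - LinearMap.id)) ≤ 1 := by omega
  obtain ⟨φ, v, he⟩ := LinearEquiv.mem_dilatransvections_iff_finrank.mpr hrange
  have hv : v ≠ 0 := by
    rintro rfl
    have h1 : t = 1 := by
      ext x
      have := LinearMap.congr_fun he x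
      rw [LinearEquiv.coe_coe, LinearMap.transvection.apply] at this
      simpa using this
    rw [h1, orderOf_one] at ho
    exact hp.one_lt.ne ho
  have hpow := pow_apply_of_transvection t φ v he p
  have htp : t ^ p = 1 := by
    have := pow_orderOf_eq_one t
    rwa [ho] at this
  rw [htp, one_app, ZMod.pow_card] at hpow
  have hφ : φ v = 0 := by
    have h2 : ((1 + φ v) - 1) • v = 0 := by
      rw [sub_smul, one_smul, ← hpow, sub_self]
    rcases smul_eq_zero.mp h2 with h | h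
    · simpa using h
    · exact absurd h hv
  refine ⟨φ, v, hφ, ?_⟩
  ext x
  have := LinearMap.congr_fun he x
  rw [LinearEquiv.coe_coe] at this
  rw [this]
  rfl

theorem pow_apply_of_sq_zero {R V : Type*} [CommRing R] [AddCommGroup V] [Module R V]
    (g : V ≃ₗ[R] V) (hsq : ∀ x, g (g x - x) = g x - x) (n : ℕ) (x : V) :
    (g ^ n) x = x + n • (g x - x) := by
  induction n with
  | zero => simp
  | succ k ih =>
    rw [pow_succ', LinearEquiv.mul_apply, ih, map_add, map_nsmul, hsq, succ_nsmul]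
    abel

theorem eq_one_of_stab_flag {p : ℕ} [Fact p.Prime] {V : Type*} [AddCommGroup V]
    [Module (ZMod p) V] [Finite V] (H : Subgroup (V ≃ₗ[ZMod p] V))
    (hOp : Cfsg.pCore p ↥H = ⊥) (Y : Submodule (ZMod p) V)
    (hY : ∀ h ∈ H, ∀ y ∈ Y, h y ∈ Y) (g : V ≃ₗ[ZMod p] V) (hg : g ∈ H)
    (h1 : ∀ y ∈ Y, g y = y) (h2 : ∀ x, g x - x ∈ Y) : g = 1 := by
  have hYinv : ∀ h ∈ H, ∀ y ∈ Y, h⁻¹ y ∈ Y := fun h hh y hy => hY h⁻¹ (H.inv_mem hh) y hy
  let N : Subgroup ↥H :=
    { carrier := {k | (∀ y ∈ Y, (k : V ≃ₗ[ZMod p] V) y = y) ∧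
        ∀ x, (k : V ≃ₗ[ZMod p] V) x - x ∈ Y}
      one_mem' := by
        refine ⟨fun y _ => rfl, fun x => ?_⟩
        simp
      mul_mem' := by
        rintro a b ⟨ha1, ha2⟩ ⟨hb1, hb2⟩
        refine ⟨fun y hy => ?_, fun x => ?_⟩
        · show (a : V ≃ₗ[ZMod p] V) ((b : V ≃ₗ[ZMod p] V) y) = y
          rw [hb1 y hy, ha1 y hy]
        · show (a : V ≃ₗ[ZMod p] V) ((b : V ≃ₗ[ZMod p] V) x) - x ∈ Y
          have e : (a : V ≃ₗ[ZMod p] V) ((b : V ≃ₗ[ZMod p] V) x) - x =
              ((a : V ≃ₗ[ZMod p] V) ((b : V ≃ₗ[ZMod p] V) x) - (b : V ≃ₗ[ZMod p] V) x) +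
                ((b : V ≃ₗ[ZMod p] V) x - x) := by abel
          rw [e]
          exact Y.add_mem (ha2 _) (hb2 _)
      inv_mem' := by
        rintro a ⟨ha1, ha2⟩
        have hinv : ∀ y ∈ Y, ((a : V ≃ₗ[ZMod p] V)⁻¹) y = y := by
          intro y hy
          have := ha1 y hy
          calc ((a : V ≃ₗ[ZMod p] V)⁻¹) y = ((a : V ≃ₗ[ZMod p] V)⁻¹) ((a : V ≃ₗ[ZMod p] V) y) := by
                rw [this]
            _ = y := by
                rw [← LinearEquiv.mul_apply, inv_mul_cancel, one_app]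
        refine ⟨hinv, fun x => ?_⟩
        show ((a : V ≃ₗ[ZMod p] V)⁻¹) x - x ∈ Y
        have hx : x = (a : V ≃ₗ[ZMod p] V) (((a : V ≃ₗ[ZMod p] V)⁻¹) x) := by
          rw [← LinearEquiv.mul_apply, mul_inv_cancel, one_app]
        have := ha2 (((a : V ≃ₗ[ZMod p] V)⁻¹) x)
        rw [← hx] at this
        have e : ((a : V ≃ₗ[ZMod p] V)⁻¹) x - x = -(x - ((a : V ≃ₗ[ZMod p] V)⁻¹) x) := by abel
        rw [e]
        exact Y.neg_mem this }
  have hNn : N.Normal := by
    constructor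
    rintro a ⟨ha1, ha2⟩ h
    refine ⟨fun y hy => ?_, fun x => ?_⟩
    · show (h : V ≃ₗ[ZMod p] V) ((a : V ≃ₗ[ZMod p] V) (((h : V ≃ₗ[ZMod p] V)⁻¹) y)) = y
      rw [ha1 _ (hYinv h h.2 y hy), ← LinearEquiv.mul_apply, mul_inv_cancel, one_app]
    · show (h : V ≃ₗ[ZMod p] V) ((a : V ≃ₗ[ZMod p] V) (((h : V ≃ₗ[ZMod p] V)⁻¹) x)) - x ∈ Y
      have hx : x = (h : V ≃ₗ[ZMod p] V) (((h : V ≃ₗ[ZMod p] V)⁻¹) x) := by
        rw [← LinearEquiv.mul_apply, mul_inv_cancel, one_app]
      have e : (h : V ≃ₗ[ZMod p] V) ((a : V ≃ₗ[ZMod p] V) (((h : V ≃ₗ[ZMod p] V)⁻¹) x)) - x =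
          (h : V ≃ₗ[ZMod p] V) ((a : V ≃ₗ[ZMod p] V) (((h : V ≃ₗ[ZMod p] V)⁻¹) x) -
            ((h : V ≃ₗ[ZMod p] V)⁻¹) x) := by
        rw [map_sub, ← hx]
      rw [e]
      exact hY h h.2 _ (ha2 _)
  have hNp : IsPGroup p N := by
    rintro ⟨a, ha1, ha2⟩
    refine ⟨1, ?_⟩
    rw [pow_one]
    apply Subtype.ext
    apply Subtype.ext
    show ((a ^ p : ↥H) : V ≃ₗ[ZMod p] V) = 1
    rw [Subgroup.coe_pow]
    ext x
    have hsq : ∀ x, (a : V ≃ₗ[ZMod p] V) ((a : V ≃ₗ[ZMod p] V) x - x) =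
        (a : V ≃ₗ[ZMod p] V) x - x := fun x => ha1 _ (ha2 x)
    rw [pow_apply_of_sq_zero _ hsq, one_app]
    have : (p : ℕ) • ((a : V ≃ₗ[ZMod p] V) x - x) = 0 := by
      rw [← Nat.cast_smul_eq_nsmul (ZMod p), ZMod.natCast_self, zero_smul]
    rw [this, add_zero]
  have hle : N ≤ Cfsg.pCore p ↥H := le_sSup ⟨hNn, hNp⟩
  rw [hOp] at hle
  have hmem : (⟨g, hg⟩ : ↥H) ∈ N := ⟨h1, h2⟩
  have := hle hmem
  rw [Subgroup.mem_bot] at this
  exact congrArg Subtype.val this

end Cfsg.Agent.Helper8.McL
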