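import Mathlib
import Cfsg.Agent.Helper8.O2Count
import Cfsg.Agent.Helper8.DicksonRank
import Cfsg.Agent.Helper8.MaxSingular
set_option autoImplicit false

/-! Involutions of the commutator subgroup of an orthogonal group in characteristic two:
classes that do not split. -/

namespace Cfsg.Agent.Helper8.O2

open Module Matrix Cfsg.Agent.Helper8.SpS Cfsg.Agent.Helper8.Sp2 Cfsg.Agent.Helper8.ReflMatrix
  Cfsg.Agent.Helper8.Reflections Cfsg.Agent.Helper8.OmegaEven Cfsg.Agent.Helper8.DicksonRank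

variable {F : Type*} [Field F] {ι : Type} [Fintype ι] [DecidableEq ι]
variable (Q : QuadraticForm F (ι → F))

/-- the reflection in a fixed vector commutes -/
theorem reflElt_comm (t : ↥(Cfsg.isometryGroup F ⇑Q)) {z : ι → F}
    (hz : ((t : GL ι F) : Matrix ι ι F) *ᵥ z = z) :
    reflElt Q z * t = t * reflElt Q z := by
  apply Subtype.ext
  apply Units.ext
  show (((reflElt Q z : ↥(Cfsg.isometryGroup F ⇑Q)) : GL ι F) : Matrix ι ι F) *
      ((t : GL ι F) : Matrix ι ι F) = ((t : GL ι F) : Matrix ι ι F) *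
      (((reflElt Q z : ↥(Cfsg.isometryGroup F ⇑Q)) : GL ι F) : Matrix ι ι F)
  rw [reflElt_val]
  apply matrix_ext
  intro x
  rw [← Matrix.mulVec_mulVec, ← Matrix.mulVec_mulVec, reflectionMatrix_mulVec,
    reflectionMatrix_mulVec, refl_apply, refl_apply, Matrix.mulVec_sub, Matrix.mulVec_smul, hz]
  congr 3
  conv_lhs => rw [← hz]
  exact polar_mulVec Q t z x

variable [CharP F 2]

theorem two_eq_zero' : (2 : F) = 0 := by
  have := CharP.cast_eq_zero F 2
  exact_mod_cast this

/-- a non-alternating involution fixes a nonsingular vector -/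
theorem exists_fixed_of_not_alt (t : ↥(Cfsg.isometryGroup F ⇑Q)) (ht : t ^ 2 = 1)
    (hna : ¬ IsAltType Q t) :
    ∃ z, Q z ≠ 0 ∧ ((t : GL ι F) : Matrix ι ι F) *ᵥ z = z := by
  unfold IsAltType at hna
  push Not at hna
  obtain ⟨v, hv⟩ := hna
  refine ⟨opN Q t v, ?_, ?_⟩
  · rw [Q_opN, polar_opN]
    exact hv
  · have h := opN_sq Q t ht v
    rw [opN_apply] at h
    exact sub_eq_zero.mp h

omit [CharP F 2] in
/-- an involution whose fixed space is too large to be totally singular fixes a nonsingular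
vector -/
theorem exists_fixed_of_large (t : ↥(Cfsg.isometryGroup F ⇑Q)) {k : ℕ}
    (hk : ∀ U : Submodule F (ι → F), (∀ u ∈ U, Q u = 0) → finrank F U ≤ k)
    (hlt : k + rk Q t < Fintype.card ι) :
    ∃ z, Q z ≠ 0 ∧ ((t : GL ι F) : Matrix ι ι F) *ᵥ z = z := by
  by_contra hcon
  push Not at hcon
  have h1 := hk (LinearMap.ker (opN Q t)) (by
    intro u hu
    by_contra hne
    apply hcon u hne
    rw [LinearMap.mem_ker, opN_apply] at hu
    exact sub_eq_zero.mp hu)
  have h2 := LinearMap.finrank_range_add_finrank_ker (opN Q t)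
  rw [finrank_pi, ← rank_eq_finrank] at h2
  unfold rk at hlt
  omega

/-- if an involution `t` fixes a nonsingular vector, every conjugate of `t` is a conjugate under
the kernel of the Dickson invariant -/
theorem exists_dickson_conj (hQ : (QuadraticMap.polarBilin Q).Nondegenerate)
    (t s : ↥(Cfsg.isometryGroup F ⇑Q)) (hconj : IsConj t s)
    (hz : ∃ z, Q z ≠ 0 ∧ ((t : GL ι F) : Matrix ι ι F) *ᵥ z = z) :
    ∃ g : ↥(Cfsg.isometryGroup F ⇑Q), dicksonMat Q two_eq_zero' hQ g = 1 ∧ g * t * g⁻¹ = s := by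
  obtain ⟨g₀, hg₀⟩ := isConj_iff.mp hconj
  obtain ⟨z, hz, htz⟩ := hz
  rcases Int.units_eq_one_or (dicksonMat Q two_eq_zero' hQ g₀) with h | h
  · exact ⟨g₀, h, hg₀⟩
  · refine ⟨g₀ * reflElt Q z, ?_, ?_⟩
    · rw [map_mul, h, dicksonMat_reflElt Q _ hQ hz]
      rfl
    · rw [_root_.mul_inv_rev, reflElt_inv, ← hg₀]
      have hc := reflElt_comm Q t htz
      calc g₀ * reflElt Q z * t * (reflElt Q z * g₀⁻¹)
          = g₀ * (reflElt Q z * t) * reflElt Q z * g₀⁻¹ := by group
        _ = g₀ * (t * reflElt Q z) * reflElt Q z * g₀⁻¹ := by rw [hc]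
        _ = g₀ * t * (reflElt Q z * reflElt Q z) * g₀⁻¹ := by group
        _ = g₀ * t * g₀⁻¹ := by rw [reflElt_mul_self, mul_one]

end Cfsg.Agent.Helper8.O2
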