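import Mathlib
import Cfsg.Agent.Helper8.OmegaEven
import Cfsg.Agent.Helper8.DicksonRank
set_option autoImplicit false

/-!
The commutator subgroup of an orthogonal group in characteristic two, with the weaker
non-exceptionality hypothesis (no totally singular plane), which covers `O₄⁻(2)` (helper8).
-/

namespace Cfsg.Agent.Helper8.OmegaEven

open Module Cfsg.Agent.Helper8.QuadForm Cfsg.Agent.Helper8.WittQuad Cfsg.Agent.Helper8.OrthOrder
  Cfsg.Agent.Helper8.Reflections Cfsg.Agent.Helper8.ReflMatrix Cfsg.Agent.Helper8.OmegaOdd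
  Cfsg.Agent.Helper8.ReflGen Cfsg.Agent.Helper8.Dickson Cfsg.Agent.Helper8.ReflChar2

variable {F : Type*} [Field F] {ι : Type} [Fintype ι] [DecidableEq ι]
  (Q : QuadraticForm F (ι → F))

/-- generation by reflections when there is no totally singular plane -/
theorem closure_reflElt_of_no_plane [Fintype F] (h2 : (2 : F) = 0)
    (hQ : (QuadraticMap.polarBilin Q).Nondegenerate)
    (hT : ¬ ∃ T : Submodule F (ι → F), finrank F T = 2 ∧ ∀ t ∈ T, Q t = 0) :
    Subgroup.closure {g : ↥(Cfsg.isometryGroup F ⇑Q) | ∃ z, Q z ≠ 0 ∧ g = reflElt Q z} = ⊤ := by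
  apply closure_reflElt_of
  intro g hg
  have hnd := (nondeg_iff Q).mp hQ
  have h := stab_le_closure h2 (exists_sqrt_of_char_two h2) Q
    (finrank F (⊤ : Submodule F (ι → F))) ⊤ le_rfl
    (fun w _ hw => hnd w (fun w' => hw w' Submodule.mem_top))
    (by
      refine Or.inr (Or.inr ?_)
      rintro ⟨T, -, hT1, hT2⟩
      exact hT ⟨T, hT1, hT2⟩)
    (show g ∈ stab Q ⊤ from ⟨hg, fun w => ⟨fun _ => Submodule.mem_top, fun _ => Submodule.mem_top⟩,
      fun x hx => by
        have : x = 0 := hnd x (fun w => hx w Submodule.mem_top)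
        rw [this, map_zero]⟩)
  refine Subgroup.closure_mono ?_ h
  rintro r ⟨z, -, hz, rfl⟩
  exact ⟨z, hz, rfl⟩

variable [Fintype F]

/-- **The commutator subgroup of the orthogonal group** in characteristic two, given generation by
reflections. -/
theorem commutator_eq_of_gen (h2 : (2 : F) = 0) (hQ : (QuadraticMap.polarBilin Q).Nondegenerate)
    (hn : 2 ≤ Fintype.card ι)
    (hgen : Subgroup.closure
      {g : ↥(Cfsg.isometryGroup F ⇑Q) | ∃ z, Q z ≠ 0 ∧ g = reflElt Q z} = ⊤) :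
    (commutator ↥(Cfsg.isometryGroup F ⇑Q)).index = 2 ∧
    ∀ g : ↥(Cfsg.isometryGroup F ⇑Q), g ∈ commutator ↥(Cfsg.isometryGroup F ⇑Q) ↔
      dicksonMat Q h2 hQ g = 1 := by
  classical
  have hnd := (nondeg_iff Q).mp hQ
  have hdim : 2 ≤ finrank F (ι → F) := by rw [Module.finrank_fintype_fun_eq_card]; exact hn
  obtain ⟨a, ha⟩ := exists_repr Q hnd hdim 1
  have ha0 : Q a ≠ 0 := by rw [ha]; exact one_ne_zero
  have hDa : dicksonMat Q h2 hQ (reflElt Q a) = -1 := dicksonMat_reflElt Q h2 hQ ha0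
  obtain ⟨φ, hφ⟩ : ∃ φ : ↥(Cfsg.isometryGroup F ⇑Q) →* ℤˣ, φ = dicksonMat Q h2 hQ := ⟨_, rfl⟩
  have hφsurj : Function.Surjective φ := by
    intro p
    rcases Int.units_eq_one_or p with rfl | rfl
    · exact ⟨1, map_one φ⟩
    · exact ⟨reflElt Q a, by rw [hφ, hDa]⟩
  have hker_index : φ.ker.index = 2 := by
    rw [Subgroup.index_ker, MonoidHom.range_eq_top.mpr hφsurj,
      Nat.card_congr Subgroup.topEquiv.toEquiv, Nat.card_eq_fintype_card]
    rfl
  have hle : commutator ↥(Cfsg.isometryGroup F ⇑Q) ≤ φ.ker := Abelianization.commutator_subset_ker φ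
  have hcard : Nat.card (Abelianization ↥(Cfsg.isometryGroup F ⇑Q)) ≤ 2 := by
    apply card_le_two (Abelianization.of (reflElt Q a))
    · rw [← map_mul, reflElt_mul_self, map_one]
    · rw [eq_top_iff]
      have h3 : (⊤ : Subgroup (Abelianization ↥(Cfsg.isometryGroup F ⇑Q)))
          = (Subgroup.closure {g : ↥(Cfsg.isometryGroup F ⇑Q) | ∃ z, Q z ≠ 0 ∧ g = reflElt Q z}).map
            Abelianization.of := by
        rw [hgen, ← MonoidHom.range_eq_map]
        symm
        rw [MonoidHom.range_eq_top]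
        exact QuotientGroup.mk_surjective
      rw [h3, MonoidHom.map_closure]
      apply Subgroup.closure_mono
      rintro _ ⟨g, ⟨z, hz, rfl⟩, rfl⟩
      obtain ⟨t, ht⟩ := exists_sqrt_of_char_two h2 (Q z)
      have ht0 : t ≠ 0 := by
        rintro rfl
        rw [mul_zero] at ht
        exact hz ht.symm
      obtain ⟨g, hg⟩ := reflElt_conj Q hQ (z := z) (a := a) ht0 hz (by rw [ha, mul_one, ht])
      rw [Set.mem_singleton_iff, ← hg, map_mul, map_mul, map_inv, mul_comm, ← mul_assoc,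
        inv_mul_cancel, one_mul]
  have hindex : (commutator ↥(Cfsg.isometryGroup F ⇑Q)).index = 2 := by
    have h3 : (commutator ↥(Cfsg.isometryGroup F ⇑Q)).index ≤ 2 := hcard
    have h4 : 2 ∣ (commutator ↥(Cfsg.isometryGroup F ⇑Q)).index := by
      rw [← hker_index]
      exact Subgroup.index_dvd_of_le hle
    have h5 : (commutator ↥(Cfsg.isometryGroup F ⇑Q)).index ≠ 0 := Subgroup.index_ne_zero_of_finite
    obtain ⟨r, hr⟩ := h4
    omega
  refine ⟨hindex, ?_⟩
  have heq : commutator ↥(Cfsg.isometryGroup F ⇑Q) = φ.ker := by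
    apply Subgroup.eq_of_le_of_card_ge hle
    have h6 := Subgroup.card_mul_index (commutator ↥(Cfsg.isometryGroup F ⇑Q))
    have h7 := Subgroup.card_mul_index φ.ker
    rw [hindex] at h6
    rw [hker_index] at h7
    omega
  intro g
  rw [heq, MonoidHom.mem_ker, hφ]

/-- `g ∈ Ω` iff the Dickson invariant is trivial, when either the usual non-exceptionality holds or
there is no totally singular plane. -/
theorem mem_commutator_iff_dickson (h2 : (2 : F) = 0)
    (hQ : (QuadraticMap.polarBilin Q).Nondegenerate) (hn : 2 ≤ Fintype.card ι)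
    (hex : Fintype.card F ≠ 2 ∨ Fintype.card ι ≠ 4 ∨
      ¬ ∃ T : Submodule F (ι → F), finrank F T = 2 ∧ ∀ t ∈ T, Q t = 0)
    (g : ↥(Cfsg.isometryGroup F ⇑Q)) :
    g ∈ commutator ↥(Cfsg.isometryGroup F ⇑Q) ↔ dicksonMat Q h2 hQ g = 1 := by
  rcases hex with h | h | h
  · exact (commutator_eq Q h2 hQ hn (Or.inl h)).2 g
  · exact (commutator_eq Q h2 hQ hn (Or.inr h)).2 g
  · exact (commutator_eq_of_gen Q h2 hQ hn (closure_reflElt_of_no_plane Q h2 hQ h)).2 g

theorem mem_commutator_iff_even_rank' (h2 : (2 : F) = 0)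
    (hQ : (QuadraticMap.polarBilin Q).Nondegenerate) (hn : 2 ≤ Fintype.card ι)
    (hex : Fintype.card F ≠ 2 ∨ Fintype.card ι ≠ 4 ∨
      ¬ ∃ T : Submodule F (ι → F), finrank F T = 2 ∧ ∀ t ∈ T, Q t = 0)
    (g : ↥(Cfsg.isometryGroup F ⇑Q)) :
    g ∈ commutator ↥(Cfsg.isometryGroup F ⇑Q) ↔
      Even (((g : GL ι F) : Matrix ι ι F) - 1).rank := by
  rw [mem_commutator_iff_dickson Q h2 hQ hn hex, DicksonRank.dicksonMat_eq]
  have hne : (-1 : ℤˣ) ≠ 1 := by decide
  rw [neg_one_pow_eq_one_iff_even hne]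

end Cfsg.Agent.Helper8.OmegaEven
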