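import Mathlib
import Cfsg.Agent.Helper8.O2Omega
import Cfsg.Agent.Helper8.OmegaEven2
import Cfsg.Agent.Helper8.O2MinusCount
set_option autoImplicit false

/-! Involutions of `Ω⁻` in characteristic two: no class of `O⁻` splits. -/

namespace Cfsg.Agent.Helper8.O2

open Module Matrix Cfsg.Agent.Helper8.SpS Cfsg.Agent.Helper8.Sp2 Cfsg.Agent.Helper8.StdForms
  Cfsg.Agent.Helper8.ReflMatrix Cfsg.Agent.Helper8.OmegaEven

variable {F : Type*} [Field F] [Fintype F] [CharP F 2] {k : ℕ}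

local notation "MI" k => (Fin k ⊕ Fin k) ⊕ Fin 2

theorem card_MI : Fintype.card (MI k) = 2 * k + 2 := by
  simp only [Fintype.card_sum, Fintype.card_fin]
  ring

theorem mem_omega_minus_iff {a b : F}
    (hab : ∀ z₁ z₂ : F, z₁ ^ 2 + a * z₁ * z₂ + b * z₂ ^ 2 = 0 → z₁ = 0 ∧ z₂ = 0)
    (g : ↥(Cfsg.isometryGroup F ⇑(minusForm F k a b))) :
    g ∈ commutator ↥(Cfsg.isometryGroup F ⇑(minusForm F k a b)) ↔
      dicksonMat (minusForm F k a b) two_eq_zero' (minusForm_nondeg F k hab) g = 1 := by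
  apply mem_commutator_iff_dickson
  · rw [card_MI]; omega
  · by_cases hk : k = 1
    · right; right
      rintro ⟨T, hT1, hT2⟩
      have := ts_finrank_le hab T hT2
      omega
    · right; left
      rw [card_MI]; omega

theorem mem_omega_minus_iff_even {a b : F}
    (hab : ∀ z₁ z₂ : F, z₁ ^ 2 + a * z₁ * z₂ + b * z₂ ^ 2 = 0 → z₁ = 0 ∧ z₂ = 0)
    (g : ↥(Cfsg.isometryGroup F ⇑(minusForm F k a b))) :
    g ∈ commutator ↥(Cfsg.isometryGroup F ⇑(minusForm F k a b)) ↔ Even (rk _ g) := by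
  rw [mem_omega_minus_iff hab, DicksonRank.dicksonMat_eq]
  have hne : (-1 : ℤˣ) ≠ 1 := by decide
  rw [neg_one_pow_eq_one_iff_even hne]
  rfl

theorem exists_fixed_minus {a b : F}
    (hab : ∀ z₁ z₂ : F, z₁ ^ 2 + a * z₁ * z₂ + b * z₂ ^ 2 = 0 → z₁ = 0 ∧ z₂ = 0)
    (t : ↥(Cfsg.isometryGroup F ⇑(minusForm F k a b))) (ht : t ^ 2 = 1) :
    ∃ z, minusForm F k a b z ≠ 0 ∧ ((t : GL (MI k) F) : Matrix (MI k) (MI k) F) *ᵥ z = z := by
  apply exists_fixed_of_large _ t (k := k) (fun U hU => ts_finrank_le hab U hU)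
  have := two_mul_rk_le _ t ht
  rw [card_MI] at this ⊢
  omega

/-- involutions conjugate in `O⁻` are conjugate under `Ω⁻` -/
theorem omega_conj_minus {a b : F}
    (hab : ∀ z₁ z₂ : F, z₁ ^ 2 + a * z₁ * z₂ + b * z₂ ^ 2 = 0 → z₁ = 0 ∧ z₂ = 0)
    (t s : ↥(Cfsg.isometryGroup F ⇑(minusForm F k a b))) (ht : t ^ 2 = 1) (hconj : IsConj t s) :
    ∃ g ∈ commutator ↥(Cfsg.isometryGroup F ⇑(minusForm F k a b)), g * t * g⁻¹ = s := by
  obtain ⟨g, hg1, hg2⟩ := exists_dickson_conj _ (minusForm_nondeg F k hab) t s hconj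
    (exists_fixed_minus hab t ht)
  exact ⟨g, (mem_omega_minus_iff hab g).mpr hg1, hg2⟩

end Cfsg.Agent.Helper8.O2
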