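import Mathlib
import Cfsg.Agent.Helper8.StdForms
set_option autoImplicit false

/-! Counting nonsingular points of the hyperbolic quadric, and a fixed-point-free matrix of prime
order (Singer) (helper8). -/

namespace Cfsg.Agent.Helper8.O2P

open Module Matrix Cfsg.Agent.Helper8.StdForms

section points

variable {F : Type*} [Field F] [Fintype F] {V : Type*} [AddCommGroup V] [Module F V]
  [FiniteDimensional F V]

/-- vectors with a homogeneous property versus points -/
theorem card_vectors_eq_mul_points (P : V → Prop) (h0 : ¬ P 0)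
    (hP : ∀ (c : F) (v : V), c ≠ 0 → (P (c • v) ↔ P v)) :
    Nat.card {v : V // P v} = (Fintype.card F - 1) *
      Nat.card {W : Submodule F V // finrank F W = 1 ∧ ∃ v ∈ W, P v} := by
  classical
  have hfin : Finite V := Module.finite_of_finite F
  have hfinS : Finite (Submodule F V) :=
    Finite.of_injective (fun W : Submodule F V => (W : Set V)) SetLike.coe_injective
  have := Fintype.ofFinite {W : Submodule F V // finrank F W = 1 ∧ ∃ v ∈ W, P v}
  have hne : ∀ v : V, P v → v ≠ 0 := fun v hv h => h0 (h ▸ hv)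
  let f : {v : V // P v} → {W : Submodule F V // finrank F W = 1 ∧ ∃ v ∈ W, P v} :=
    fun v => ⟨Submodule.span F {v.1}, finrank_span_singleton (hne v.1 v.2),
      v.1, Submodule.mem_span_singleton_self v.1, v.2⟩
  rw [Nat.card_congr (Equiv.sigmaFiberEquiv f).symm, Nat.card_sigma]
  have hfib : ∀ W : {W : Submodule F V // finrank F W = 1 ∧ ∃ v ∈ W, P v},
      Nat.card {v : {v : V // P v} // f v = W} = Fintype.card F - 1 := by
    rintro ⟨W, hW1, w₀, hw₀W, hw₀⟩
    have hw₀0 := hne w₀ hw₀
    have hWspan : W = Submodule.span F {w₀} := by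
      symm
      apply Submodule.eq_of_le_of_finrank_eq
      · rw [Submodule.span_singleton_le_iff_mem]; exact hw₀W
      · rw [finrank_span_singleton hw₀0, hW1]
    rw [← Fintype.card_units, ← Nat.card_eq_fintype_card]
    symm
    apply Nat.card_congr
    refine Equiv.ofBijective (fun c : Fˣ => ⟨⟨(c : F) • w₀, (hP c w₀ c.ne_zero).mpr hw₀⟩, ?_⟩) ?_
    · apply Subtype.ext
      show Submodule.span F {(c : F) • w₀} = W
      rw [hWspan, Submodule.span_singleton_smul_eq c.isUnit]
    · constructor
      · intro c c' h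
        have h1 : (c : F) • w₀ = (c' : F) • w₀ := congrArg (fun x => x.1.1) h
        apply Units.ext
        exact smul_left_injective F hw₀0 h1
      · rintro ⟨⟨v, hv⟩, hvW⟩
        have h1 : Submodule.span F {v} = W := congrArg Subtype.val hvW
        have h2 : v ∈ Submodule.span F {w₀} := by
          rw [← hWspan, ← h1]; exact Submodule.mem_span_singleton_self v
        obtain ⟨c, rfl⟩ := Submodule.mem_span_singleton.mp h2
        have hc : c ≠ 0 := by
          rintro rfl
          rw [zero_smul] at hv
          exact h0 hv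
        exact ⟨Units.mk0 c hc, rfl⟩
  rw [Finset.sum_congr rfl (fun W _ => hfib W), Finset.sum_const, smul_eq_mul, mul_comm,
    Finset.card_univ, Nat.card_eq_fintype_card]

end points

section count

variable {F : Type*} [Field F] [Fintype F]

theorem card_dot_ne_zero {n : ℕ} (w : Fin n → F) (hw : w ≠ 0) :
    Nat.card {u : Fin n → F // u ⬝ᵥ w ≠ 0} = (Fintype.card F - 1) * Fintype.card F ^ (n - 1) := by
  classical
  obtain ⟨i, hi⟩ : ∃ i, w i ≠ 0 := by
    by_contra h
    push Not at h
    exact hw (funext h)
  have hn : 1 ≤ n := by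
    have := i.2
    omega
  let φ : (Fin n → F) →ₗ[F] F :=
    { toFun := fun u => u ⬝ᵥ w
      map_add' := fun u v => add_dotProduct u v w
      map_smul' := fun c u => smul_dotProduct c u w }
  have hsurj : Function.Surjective φ := by
    intro c
    refine ⟨Pi.single i (c / w i), ?_⟩
    show Pi.single i (c / w i) ⬝ᵥ w = c
    rw [single_dotProduct]
    field_simp
  have hker : finrank F (LinearMap.ker φ) = n - 1 := by
    have h1 := LinearMap.finrank_range_add_finrank_ker φ
    rw [LinearMap.range_eq_top.mpr hsurj, finrank_top, Module.finrank_self,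
      Module.finrank_fintype_fun_eq_card, Fintype.card_fin] at h1
    omega
  have h0 : Nat.card {u : Fin n → F // u ⬝ᵥ w = 0} = Fintype.card F ^ (n - 1) := by
    have h1 : Nat.card {u : Fin n → F // u ⬝ᵥ w = 0} = Nat.card ↥(LinearMap.ker φ) :=
      Nat.card_congr (Equiv.subtypeEquivRight (fun a => (LinearMap.mem_ker (f := φ)).symm))
    rw [h1, Module.natCard_eq_pow_finrank (K := F), Nat.card_eq_fintype_card, hker]
  have h2 := Fintype.card_subtype_compl (fun u : Fin n → F => u ⬝ᵥ w = 0)
  rw [Nat.card_eq_fintype_card] at h0 ⊢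
  rw [h2, h0, Fintype.card_fun, Fintype.card_fin]
  obtain ⟨k, rfl⟩ : ∃ k, n = k + 1 := ⟨n - 1, by omega⟩
  rw [Nat.add_sub_cancel, pow_succ, Nat.sub_mul, one_mul, mul_comm]

theorem card_nonsingular_plus (d : ℕ) :
    Nat.card {v : Fin d ⊕ Fin d → F // plusForm F d v ≠ 0} =
      (Fintype.card F ^ d - 1) * ((Fintype.card F - 1) * Fintype.card F ^ (d - 1)) := by
  classical
  have e : {v : Fin d ⊕ Fin d → F // plusForm F d v ≠ 0} ≃
      Σ w : Fin d → F, {u : Fin d → F // u ⬝ᵥ w ≠ 0} :=
    { toFun := fun v => ⟨v.1 ∘ Sum.inr, ⟨v.1 ∘ Sum.inl, by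
        have := v.2
        rw [plusForm_apply] at this
        exact this⟩⟩
      invFun := fun p => ⟨Sum.elim p.2.1 p.1, by
        rw [plusForm_apply]
        exact p.2.2⟩
      left_inv := by
        intro v
        apply Subtype.ext
        funext j
        rcases j with j | j <;> rfl
      right_inv := by
        rintro ⟨w, u, hu⟩
        rfl }
  rw [Nat.card_congr e, Nat.card_sigma,
    ← Finset.add_sum_erase Finset.univ _ (Finset.mem_univ (0 : Fin d → F))]
  have h0 : Nat.card {u : Fin d → F // u ⬝ᵥ (0 : Fin d → F) ≠ 0} = 0 := by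
    rw [Nat.card_eq_zero]
    left
    constructor
    rintro ⟨u, hu⟩
    exact hu (dotProduct_zero u)
  have h1 : ∀ w ∈ Finset.univ.erase (0 : Fin d → F),
      Nat.card {u : Fin d → F // u ⬝ᵥ w ≠ 0} =
        (Fintype.card F - 1) * Fintype.card F ^ (d - 1) :=
    fun w hw => card_dot_ne_zero w (Finset.ne_of_mem_erase hw)
  rw [h0, zero_add, Finset.sum_congr rfl h1, Finset.sum_const,
    Finset.card_erase_of_mem (Finset.mem_univ _), Finset.card_univ, Fintype.card_fun,
    Fintype.card_fin, smul_eq_mul]

/-- the number of nonsingular points of the hyperbolic quadric -/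
theorem card_nonsingular_points_plus (d : ℕ) :
    Nat.card {W : Submodule F (Fin d ⊕ Fin d → F) //
      finrank F W = 1 ∧ ∃ v ∈ W, plusForm F d v ≠ 0} =
      (Fintype.card F ^ d - 1) * Fintype.card F ^ (d - 1) := by
  have h1 := card_vectors_eq_mul_points (F := F) (fun v : Fin d ⊕ Fin d → F => plusForm F d v ≠ 0)
    (by
      intro h
      exact h (map_zero _))
    (by
      intro c v hc
      rw [QuadraticMap.map_smul, smul_eq_mul]
      constructor
      · intro h h'
        exact h (by rw [h', mul_zero])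
      · intro h
        exact mul_ne_zero (mul_ne_zero hc hc) h)
  rw [card_nonsingular_plus] at h1
  have hq : 0 < Fintype.card F - 1 := by
    have := Fintype.one_lt_card (α := F)
    omega
  apply Nat.eq_of_mul_eq_mul_left hq
  rw [← h1]
  ring

end count

section singer

variable {F : Type*} [Field F] [Fintype F]

/-- a matrix of prime order `r ∣ q^d - 1` without nonzero fixed vectors -/
theorem exists_fpf_matrix (p : ℕ) [Fact p.Prime] [CharP F p] (d : ℕ) (hd : 1 ≤ d) (r : ℕ)
    [Fact r.Prime] (hr : r ∣ Fintype.card F ^ d - 1) :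
    ∃ A : Matrix (Fin d) (Fin d) F, A ^ r = 1 ∧ ∀ v, A *ᵥ v = v → v = 0 := by
  classical
  have : NeZero d := ⟨by omega⟩
  let K := FiniteField.Extension F p d
  have := Fintype.ofFinite K
  have hcardK : Nat.card Kˣ = Fintype.card F ^ d - 1 := by
    rw [Nat.card_eq_fintype_card, Fintype.card_units, ← Nat.card_eq_fintype_card,
      FiniteField.natCard_extension, Nat.card_eq_fintype_card]
  obtain ⟨ζ, hζ⟩ := exists_prime_orderOf_dvd_card' (G := Kˣ) r (by rw [hcardK]; exact hr)
  have hζr : (ζ : K) ^ r = 1 := by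
    rw [← Units.val_pow_eq_pow_val, ← hζ, pow_orderOf_eq_one, Units.val_one]
  have hζ1 : (ζ : K) ≠ 1 := by
    intro h
    have : ζ = 1 := Units.ext h
    rw [this, orderOf_one] at hζ
    exact (Fact.out : r.Prime).one_lt.ne hζ
  let b : Basis (Fin d) F K := Module.finBasisOfFinrankEq F K (FiniteField.finrank_extension F p d)
  refine ⟨LinearMap.toMatrixAlgEquiv b (Algebra.lmul F K (ζ : K)), ?_, ?_⟩
  · rw [← map_pow, ← map_pow, hζr, map_one, map_one]
  · intro v hv
    obtain ⟨w, rfl⟩ : ∃ w : K, b.equivFun w = v := ⟨b.equivFun.symm v, LinearEquiv.apply_symm_apply _ _⟩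
    have h1 : LinearMap.toMatrixAlgEquiv b (Algebra.lmul F K (ζ : K)) *ᵥ b.equivFun w =
        b.equivFun ((ζ : K) * w) := by
      have := LinearMap.toMatrix_mulVec_repr b b (Algebra.lmul F K (ζ : K)) w
      exact this
    rw [h1] at hv
    have h2 : (ζ : K) * w = w := b.equivFun.injective hv
    have h3 : ((ζ : K) - 1) * w = 0 := by rw [sub_mul, h2, one_mul, sub_self]
    rcases mul_eq_zero.mp h3 with h | h
    · exact absurd (sub_eq_zero.mp h) hζ1
    · rw [h, map_zero]

end singer

end Cfsg.Agent.Helper8.O2P
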