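import Mathlib
import Cfsg.Agent.Helper8.MaxSingular
import Cfsg.Agent.Helper8.Reflections

/-!
# Reflections and the two families of maximal totally singular subspaces (helper8)

A reflection moves an `m`-dimensional totally singular subspace to an adjacent one, hence a product
of `k` reflections changes the family iff `k` is odd.
-/

set_option autoImplicit false

namespace Cfsg.Agent.Helper8.MaxSingular

open Module Cfsg.Agent.Helper8.OrthOrder Cfsg.Agent.Helper8.Reflections

variable {F V : Type*} [Field F] [AddCommGroup V] [Module F V] {Q : QuadraticForm F V}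

theorem isMTS_map {m : ℕ} {U : Submodule F V} (hU : IsMTS Q m U) (e : V ≃ₗ[F] V)
    (he : ∀ v, Q (e v) = Q v) : IsMTS Q m (U.map (e : V →ₗ[F] V)) := by
  refine ⟨by rw [LinearEquiv.finrank_map_eq, hU.1], ?_⟩
  rintro w ⟨u, hu, rfl⟩
  rw [LinearEquiv.coe_coe, he, hU.2 u hu]

variable [FiniteDimensional F V] {m : ℕ}
  (hB : LinearMap.BilinForm.Nondegenerate (QuadraticMap.polarBilin Q))
  (hV : finrank F V = 2 * m)

include hB hV

/-- a reflection moves `U` to an adjacent subspace. -/
theorem finrank_inf_map_refl {U : Submodule F V} (hU : IsMTS Q m U) {z : V} (hz : Q z ≠ 0) :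
    finrank F ↥(U ⊓ U.map (refl Q z : V →ₗ[F] V)) + 1 = m := by
  have hzU : z ∉ U := fun h => hz (hU.2 z h)
  have hz0 : z ≠ 0 := fun h => hzU (h ▸ U.zero_mem)
  have h1 : U ⊓ U.map (refl Q z : V →ₗ[F] V) = U ⊓ orth Q (Submodule.span F {z}) := by
    apply le_antisymm
    · rintro u ⟨hu, u', hu', rfl⟩
      refine ⟨hu, ?_⟩
      rw [SetLike.mem_coe, LinearEquiv.coe_coe, refl_apply] at hu
      rw [LinearEquiv.coe_coe, refl_apply]
      have hc : (QuadraticMap.polar Q z u' / Q z) • z ∈ U := by
        have := U.sub_mem hu' hu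
        simpa using this
      have hc0 : QuadraticMap.polar Q z u' / Q z = 0 := by
        by_contra hne
        exact hzU ((U.smul_mem_iff hne).1 hc)
      rw [hc0, zero_smul, sub_zero]
      have hp : QuadraticMap.polar Q z u' = 0 := by
        rcases div_eq_zero_iff.1 hc0 with h | h
        · exact h
        · exact absurd h hz
      intro y hy
      obtain ⟨a, rfl⟩ := Submodule.mem_span_singleton.1 hy
      change QuadraticMap.polar Q (a • z) u' = 0
      rw [QuadraticMap.polar_smul_left, hp]; simp
    · rintro u ⟨hu, hperp⟩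
      refine ⟨hu, u, hu, ?_⟩
      rw [LinearEquiv.coe_coe]
      exact refl_of_perp Q (hperp z (Submodule.mem_span_singleton_self z))
  rw [h1]
  have := finrank_inf_orth hB hV hU (Submodule.span F {z})
  rw [finrank_span_singleton hz0, (Submodule.disjoint_span_singleton_of_notMem hzU).eq_bot,
    finrank_bot] at this
  omega

/-- a product of `k` reflections moves `U` to a subspace whose intersection with `U` has codimension
congruent to `k` modulo 2. -/
theorem parity_prod_refl (l : List V) (hl : ∀ z ∈ l, Q z ≠ 0) :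
    ∀ U : Submodule F V, IsMTS Q m U →
      (m - finrank F ↥(U ⊓ U.map (((l.map (refl Q)).prod : V ≃ₗ[F] V) : V →ₗ[F] V))) % 2
        = l.length % 2 := by
  induction l with
  | nil =>
    intro U hU
    have : U.map (((1 : V ≃ₗ[F] V)) : V →ₗ[F] V) = U := by
      ext x
      simp
    rw [List.map_nil, List.prod_nil, this, inf_idem, hU.1]
    simp
  | cons z t ih =>
    intro U hU
    have hmem : (t.map (refl Q)).prod ∈ Isom Q := by
      apply Subgroup.list_prod_mem
      intro x hx
      obtain ⟨w, -, rfl⟩ := List.mem_map.1 hx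
      exact refl_mem Q w
    obtain ⟨g', hg'⟩ : ∃ g', g' = (t.map (refl Q)).prod := ⟨_, rfl⟩
    rw [← hg'] at hmem
    have hU' := isMTS_map hU g' hmem
    have hmap : U.map ((refl Q z * g' : V ≃ₗ[F] V) : V →ₗ[F] V)
        = (U.map (g' : V →ₗ[F] V)).map (refl Q z : V →ₗ[F] V) := by
      rw [← Submodule.map_comp]; rfl
    have h1 := ih (fun w hw => hl w (List.mem_cons_of_mem _ hw)) U hU
    rw [← hg'] at h1
    have h2 := finrank_inf_map_refl hB hV hU' (hl z (by simp))
    have h3 := parity hB hV hU hU' (isMTS_map hU' (refl Q z) (Q_refl Q z))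
    rw [List.map_cons, List.prod_cons, ← hg', hmap, List.length_cons]
    have hle1 := finrank_inf_le (W := U.map (g' : V →ₗ[F] V)) hU
    have hle2 := finrank_inf_le
      (W := (U.map (g' : V →ₗ[F] V)).map (refl Q z : V →ₗ[F] V)) hU
    rw [Nat.even_iff] at h3
    omega

end Cfsg.Agent.Helper8.MaxSingular
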