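import Mathlib
import Cfsg.Agent.Helper8.O2Omega
import Cfsg.Agent.Helper8.O2Plus
import Cfsg.Agent.Helper8.EvenRefl
import Cfsg.Agent.Helper8.MaxSingularRefl
import Cfsg.Agent.S2629
set_option autoImplicit false

/-! Involutions of `Ω⁺` in characteristic two: which classes of `O⁺` split. -/

namespace Cfsg.Agent.Helper8.O2

open Module Matrix Cfsg.Agent.Helper8.SpS Cfsg.Agent.Helper8.Sp2 Cfsg.Agent.Helper8.StdForms
  Cfsg.Agent.Helper8.ReflMatrix Cfsg.Agent.Helper8.OmegaEven Cfsg.Agent.Helper8.MaxSingular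
  Cfsg.Agent.Helper8.EvenRefl Cfsg.Agent.Helper8.Reflections

section generic

variable {F : Type*} [Field F] {ι : Type} [Fintype ι] [DecidableEq ι]
variable (Q : QuadraticForm F (ι → F))

theorem mul_mulVec_eq (g t s : ↥(Cfsg.isometryGroup F ⇑Q)) (h : g * t * g⁻¹ = s) (u : ι → F) :
    ((s : GL ι F) : Matrix ι ι F) *ᵥ (((g : GL ι F) : Matrix ι ι F) *ᵥ u) =
      ((g : GL ι F) : Matrix ι ι F) *ᵥ (((t : GL ι F) : Matrix ι ι F) *ᵥ u) := by
  have h1 : s * g = g * t := by rw [← h]; group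
  have h2 : ((s : GL ι F) : Matrix ι ι F) * ((g : GL ι F) : Matrix ι ι F) =
      ((g : GL ι F) : Matrix ι ι F) * ((t : GL ι F) : Matrix ι ι F) := by
    have := congrArg (fun x : ↥(Cfsg.isometryGroup F ⇑Q) => ((x : GL ι F) : Matrix ι ι F)) h1
    exact this
  rw [Matrix.mulVec_mulVec, Matrix.mulVec_mulVec, h2]

theorem mulVec_inv_mulVec (g : ↥(Cfsg.isometryGroup F ⇑Q)) (v : ι → F) :
    ((g : GL ι F) : Matrix ι ι F) *ᵥ (((g⁻¹ : ↥(Cfsg.isometryGroup F ⇑Q)) : GL ι F) : Matrix ι ι F) *ᵥ v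
      = v := by
  have h1 : g * g⁻¹ = 1 := mul_inv_cancel g
  have h2 : ((g : GL ι F) : Matrix ι ι F) *
      (((g⁻¹ : ↥(Cfsg.isometryGroup F ⇑Q)) : GL ι F) : Matrix ι ι F) = 1 := by
    have := congrArg (fun x : ↥(Cfsg.isometryGroup F ⇑Q) => ((x : GL ι F) : Matrix ι ι F)) h1
    exact this
  rw [Matrix.mulVec_mulVec, h2, Matrix.one_mulVec]

/-- the image of `s - 1` for a conjugate `s = g t g⁻¹` -/
theorem range_opN_conj (g t s : ↥(Cfsg.isometryGroup F ⇑Q)) (h : g * t * g⁻¹ = s) :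
    LinearMap.range (opN Q s) =
      (LinearMap.range (opN Q t)).map (Matrix.mulVecLin ((g : GL ι F) : Matrix ι ι F)) := by
  ext w
  constructor
  · rintro ⟨v, rfl⟩
    refine ⟨opN Q t ((((g⁻¹ : ↥(Cfsg.isometryGroup F ⇑Q)) : GL ι F) : Matrix ι ι F) *ᵥ v),
      ⟨_, rfl⟩, ?_⟩
    rw [Matrix.mulVecLin_apply, opN_apply, opN_apply, Matrix.mulVec_sub, ← mul_mulVec_eq Q g t s h,
      mulVec_inv_mulVec]
  · rintro ⟨_, ⟨u, rfl⟩, rfl⟩
    refine ⟨((g : GL ι F) : Matrix ι ι F) *ᵥ u, ?_⟩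
    rw [Matrix.mulVecLin_apply, opN_apply, opN_apply, Matrix.mulVec_sub, mul_mulVec_eq Q g t s h]

variable [CharP F 2]

theorem alt_iff_Q_add (t : ↥(Cfsg.isometryGroup F ⇑Q)) :
    IsAltType Q t ↔ ∀ v, Q (v + ((t : GL ι F) : Matrix ι ι F) *ᵥ v) = 0 := by
  unfold IsAltType
  apply forall_congr'
  intro v
  rw [← polar_opN, ← Q_opN, opN_apply]
  have : ((t : GL ι F) : Matrix ι ι F) *ᵥ v - v = v + ((t : GL ι F) : Matrix ι ι F) *ᵥ v := by
    ext i
    rw [Pi.sub_apply, Pi.add_apply, sub_eq_add_neg, CharTwo.neg_eq, add_comm]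
  rw [this]

/-- the image of `t - 1` is totally singular of dimension `rk t` for alternating `t` -/
theorem isMTS_range_opN (t : ↥(Cfsg.isometryGroup F ⇑Q)) (halt : IsAltType Q t) :
    IsMTS Q (rk Q t) (LinearMap.range (opN Q t)) := by
  refine ⟨(rank_eq_finrank Q t).symm, ?_⟩
  rintro _ ⟨v, rfl⟩
  rw [Q_opN, polar_opN]
  exact halt v

end generic

variable {F : Type*} [Field F] [Fintype F] [CharP F 2] {m : ℕ}

theorem card_PI : Fintype.card (Fin m ⊕ Fin m) = 2 * m := by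
  simp only [Fintype.card_sum, Fintype.card_fin]
  ring

omit [Field F] [CharP F 2] in
theorem hex_plus (hex : Fintype.card F ≠ 2 ∨ m ≠ 2) :
    Fintype.card F ≠ 2 ∨ Fintype.card (Fin m ⊕ Fin m) ≠ 4 := by
  rcases hex with h | h
  · exact Or.inl h
  · right; rw [card_PI]; omega

theorem mem_omega_plus_iff (hm : 1 ≤ m) (hex : Fintype.card F ≠ 2 ∨ m ≠ 2)
    (g : ↥(Cfsg.isometryGroup F ⇑(plusForm F m))) :
    g ∈ commutator ↥(Cfsg.isometryGroup F ⇑(plusForm F m)) ↔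
      dicksonMat (plusForm F m) two_eq_zero' (plusForm_nondeg F m) g = 1 :=
  (commutator_eq (plusForm F m) two_eq_zero' (plusForm_nondeg F m)
    (by rw [card_PI]; omega) (hex_plus hex)).2 g

theorem mem_omega_plus_iff_even (hm : 1 ≤ m) (hex : Fintype.card F ≠ 2 ∨ m ≠ 2)
    (g : ↥(Cfsg.isometryGroup F ⇑(plusForm F m))) :
    g ∈ commutator ↥(Cfsg.isometryGroup F ⇑(plusForm F m)) ↔ Even (rk _ g) := by
  rw [mem_omega_plus_iff hm hex, DicksonRank.dicksonMat_eq]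
  have hne : (-1 : ℤˣ) ≠ 1 := by decide
  rw [neg_one_pow_eq_one_iff_even hne]
  rfl

omit [Fintype F] [CharP F 2] in
theorem ts_finrank_le_plus (U : Submodule F (Fin m ⊕ Fin m → F))
    (hU : ∀ u ∈ U, plusForm F m u = 0) : finrank F U ≤ m := by
  have h1 := Submodule.finrank_mono (le_orth_of_ts hU)
  rw [LinearMap.BilinForm.finrank_orthogonal (plusForm_nondeg F m), finrank_plus] at h1
  have h2 := Submodule.finrank_le U
  rw [finrank_plus] at h2
  omega

omit [Fintype F] in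
theorem exists_fixed_plus (t : ↥(Cfsg.isometryGroup F ⇑(plusForm F m))) (ht : t ^ 2 = 1)
    (h : ¬ (rk _ t = m ∧ IsAltType _ t)) :
    ∃ z, plusForm F m z ≠ 0 ∧
      ((t : GL (Fin m ⊕ Fin m) F) : Matrix (Fin m ⊕ Fin m) (Fin m ⊕ Fin m) F) *ᵥ z = z := by
  by_cases halt : IsAltType _ t
  · apply exists_fixed_of_large _ t (k := m) (fun U hU => ts_finrank_le_plus U hU)
    have h1 := two_mul_rk_le _ t ht
    rw [card_PI] at h1 ⊢
    have h2 : rk _ t ≠ m := fun h' => h ⟨h', halt⟩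
    omega
  · exact exists_fixed_of_not_alt _ t ht halt

/-- involutions conjugate in `O⁺` are conjugate under `Ω⁺`, except for type `a_m` -/
theorem omega_conj_plus (hm : 1 ≤ m) (hex : Fintype.card F ≠ 2 ∨ m ≠ 2)
    (t s : ↥(Cfsg.isometryGroup F ⇑(plusForm F m))) (ht : t ^ 2 = 1) (hconj : IsConj t s)
    (h : ¬ (rk _ t = m ∧ IsAltType _ t)) :
    ∃ g ∈ commutator ↥(Cfsg.isometryGroup F ⇑(plusForm F m)), g * t * g⁻¹ = s := by
  obtain ⟨g, hg1, hg2⟩ := exists_dickson_conj _ (plusForm_nondeg F m) t s hconj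
    (exists_fixed_plus t ht h)
  exact ⟨g, (mem_omega_plus_iff hm hex g).mpr hg1, hg2⟩

/-- `Ω⁺` is the stabiliser of the family of any maximal totally singular subspace -/
theorem mem_omega_plus_iff_inf (hm : 1 ≤ m) (hex : Fintype.card F ≠ 2 ∨ m ≠ 2)
    (U : Submodule F (Fin m ⊕ Fin m → F)) (hU : IsMTS (plusForm F m) m U)
    (g : ↥(Cfsg.isometryGroup F ⇑(plusForm F m))) :
    g ∈ commutator ↥(Cfsg.isometryGroup F ⇑(plusForm F m)) ↔
      Even (m - finrank F ↥(U ⊓ U.map (Matrix.mulVecLin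
        ((g : GL (Fin m ⊕ Fin m) F) : Matrix (Fin m ⊕ Fin m) (Fin m ⊕ Fin m) F)))) := by
  rw [mem_omega_plus_iff hm hex]
  obtain ⟨l, hl, rfl⟩ := exists_list_reflElt_all (plusForm F m) (plusForm_nondeg F m)
    (hex_plus hex) g
  rw [dicksonMat_prod_reflElt _ _ _ l hl, Cfsg.Agent.S2629.mulVecLin_prod_reflElt]
  have hne : (-1 : ℤˣ) ≠ 1 := by decide
  rw [neg_one_pow_eq_one_iff_even hne]
  have := parity_prod_refl (plusForm_nondeg F m) (finrank_plus F m) l hl U hU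
  rw [Nat.even_iff, Nat.even_iff, this]

/-- the class of type `a_m`: conjugacy under `Ω⁺` is detected by the parity of the intersection of
the images -/
theorem omega_conj_plus_iff (hm : 1 ≤ m) (hex : Fintype.card F ≠ 2 ∨ m ≠ 2)
    (t s : ↥(Cfsg.isometryGroup F ⇑(plusForm F m)))
    (htO : t ∈ commutator ↥(Cfsg.isometryGroup F ⇑(plusForm F m))) (hconj : IsConj t s)
    (hrk : rk _ t = m) (halt : IsAltType _ t) :
    (∃ g ∈ commutator ↥(Cfsg.isometryGroup F ⇑(plusForm F m)), g * t * g⁻¹ = s) ↔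
      Even (finrank F ↥(LinearMap.range (opN _ t) ⊓ LinearMap.range (opN _ s))) := by
  have hU : IsMTS (plusForm F m) m (LinearMap.range (opN _ t)) := by
    have := isMTS_range_opN _ t halt
    rw [hrk] at this
    exact this
  have hmeven : Even m := by
    rw [← hrk]
    exact (mem_omega_plus_iff_even hm hex t).mp htO
  have hpar : ∀ g : ↥(Cfsg.isometryGroup F ⇑(plusForm F m)), g * t * g⁻¹ = s →
      (g ∈ commutator ↥(Cfsg.isometryGroup F ⇑(plusForm F m)) ↔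
        Even (finrank F ↥(LinearMap.range (opN _ t) ⊓ LinearMap.range (opN _ s)))) := by
    intro g hg
    rw [mem_omega_plus_iff_inf hm hex _ hU g, range_opN_conj _ g t s hg]
    have hle := finrank_inf_le (W := (LinearMap.range (opN _ t)).map (Matrix.mulVecLin
        ((g : GL (Fin m ⊕ Fin m) F) : Matrix (Fin m ⊕ Fin m) (Fin m ⊕ Fin m) F))) hU
    rw [Nat.even_sub hle]
    exact ⟨fun h => h.mp hmeven, fun h => ⟨fun _ => h, fun _ => hmeven⟩⟩
  constructor
  · rintro ⟨g, hgO, hg⟩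
    exact (hpar g hg).mp hgO
  · intro h
    obtain ⟨g₀, hg₀⟩ := isConj_iff.mp hconj
    exact ⟨g₀, (hpar g₀ hg₀).mpr h, hg₀⟩

end Cfsg.Agent.Helper8.O2
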