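import Mathlib
import Cfsg.Agent.Helper8.O2OmegaMinus
set_option autoImplicit false

/-! Counting the classes of involutions of `Ω⁻` in characteristic two. -/

namespace Cfsg.Agent.Helper8.O2

open Module Matrix Cfsg.Agent.Helper8.SpS Cfsg.Agent.Helper8.Sp2 Cfsg.Agent.Helper8.StdForms
  Cfsg.Agent.Helper8.ReflMatrix Cfsg.Agent.Helper8.OmegaEven

/-- counting classes of involutions of a subgroup via a system of representatives -/
theorem card_classes_sub {G : Type*} [Group G] (H : Subgroup G) {X : Type} [Fintype X]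
    (rep : X → G) (hmem : ∀ x, rep x ∈ H) (hord : ∀ x, orderOf (rep x) = 2)
    (hinj : ∀ x y, (∃ g ∈ H, g * rep x * g⁻¹ = rep y) → x = y)
    (hsurj : ∀ g ∈ H, orderOf g = 2 → ∃ x, ∃ h ∈ H, h * rep x * h⁻¹ = g) :
    Nat.card {C : ConjClasses ↥H // ∃ g : ↥H, ConjClasses.mk g = C ∧ orderOf g = 2} =
      Fintype.card X := by
  rw [← Nat.card_eq_fintype_card]
  symm
  apply Nat.card_eq_of_bijective
    (fun x : X => (⟨ConjClasses.mk (⟨rep x, hmem x⟩ : ↥H), ⟨rep x, hmem x⟩, rfl, by
      rw [← Subgroup.orderOf_coe]; exact hord x⟩ :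
      {C : ConjClasses ↥H // ∃ g : ↥H, ConjClasses.mk g = C ∧ orderOf g = 2}))
  constructor
  · intro x y hxy
    have h1 : ConjClasses.mk (⟨rep x, hmem x⟩ : ↥H) = ConjClasses.mk (⟨rep y, hmem y⟩ : ↥H) :=
      congrArg Subtype.val hxy
    rw [ConjClasses.mk_eq_mk_iff_isConj, isConj_iff] at h1
    obtain ⟨c, hc⟩ := h1
    apply hinj x y
    refine ⟨c.1, c.2, ?_⟩
    have := congrArg Subtype.val hc
    exact this
  · rintro ⟨C, g, rfl, hg⟩
    rw [← Subgroup.orderOf_coe] at hg
    obtain ⟨x, h, hh, hx⟩ := hsurj g.1 g.2 hg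
    refine ⟨x, ?_⟩
    apply Subtype.ext
    simp only
    rw [ConjClasses.mk_eq_mk_iff_isConj, isConj_iff]
    refine ⟨⟨h, hh⟩, ?_⟩
    apply Subtype.ext
    exact hx

variable {F : Type*} [Field F] [Fintype F] [CharP F 2] {k : ℕ}

local notation "MI" k => (Fin k ⊕ Fin k) ⊕ Fin 2

/-- representatives of the classes of involutions of `Ω⁻` -/
noncomputable def repOmegaMinus (F : Type*) [Field F] [CharP F 2] (k : ℕ) (a b : F) :
    Fin ((k + 1) / 2) ⊕ Fin (k / 2) → ↥(Cfsg.isometryGroup F ⇑(minusForm F k a b))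
  | Sum.inl i => repMinus F k a b (Sum.inl ⟨2 * (i : ℕ) + 1, by have := i.2; omega⟩)
  | Sum.inr j => repMinus F k a b (Sum.inr j)

theorem card_classes_omega_minus {a b : F}
    (hab : ∀ z₁ z₂ : F, z₁ ^ 2 + a * z₁ * z₂ + b * z₂ ^ 2 = 0 → z₁ = 0 ∧ z₂ = 0) :
    Nat.card {C : ConjClasses ↥(commutator ↥(Cfsg.isometryGroup F ⇑(minusForm F k a b))) //
      ∃ g : ↥(commutator ↥(Cfsg.isometryGroup F ⇑(minusForm F k a b))),
        ConjClasses.mk g = C ∧ orderOf g = 2} = (k + 1) / 2 + k / 2 := by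
  have hQ := minusForm_nondeg F k hab
  have ha : a ≠ 0 := by
    intro ha
    obtain ⟨c, hc⟩ := hperf' b
    have := (hab c 1 (by
      rw [ha, ← hc]
      have := CharTwo.add_self_eq_zero (c * c)
      linear_combination this)).2
    exact one_ne_zero this
  have hrk_inl : ∀ i : Fin ((k + 1) / 2), rk _ (repOmegaMinus F k a b (Sum.inl i)) = 2 * (i + 1) := by
    intro i
    show rk _ (repMinus F k a b _) = _
    rw [rk_repMinus_inl ha]
    simp only
    ring
  have hrk_inr : ∀ j : Fin (k / 2), rk _ (repOmegaMinus F k a b (Sum.inr j)) = 2 * (j + 1) :=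
    fun j => rk_repMinus_inr a b j
  have halt_inr : ∀ j : Fin (k / 2), IsAltType _ (repOmegaMinus F k a b (Sum.inr j)) :=
    fun j => alt_repMinus_inr a b j
  have hna_inl : ∀ i : Fin ((k + 1) / 2), ¬ IsAltType _ (repOmegaMinus F k a b (Sum.inl i)) :=
    fun i => not_alt_repMinus_inl ha b _
  have hord : ∀ x, orderOf (repOmegaMinus F k a b x) = 2 := by
    rintro (i | j)
    · exact orderOf_repMinus ha b _
    · exact orderOf_repMinus ha b _
  have hmem : ∀ x, repOmegaMinus F k a b x ∈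
      commutator ↥(Cfsg.isometryGroup F ⇑(minusForm F k a b)) := by
    rintro (i | j)
    · rw [mem_omega_minus_iff_even hab, hrk_inl]
      exact even_two_mul _
    · rw [mem_omega_minus_iff_even hab, hrk_inr]
      exact even_two_mul _
  rw [card_classes_sub _ (repOmegaMinus F k a b) hmem hord]
  · rw [Fintype.card_sum, Fintype.card_fin, Fintype.card_fin]
  · rintro x y ⟨g, -, hg⟩
    obtain ⟨h1, h2⟩ := rk_type_of_isConj _ _ _ (isConj_iff.mpr ⟨g, hg⟩)
    rcases x with i | j <;> rcases y with i' | j'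
    · rw [hrk_inl, hrk_inl] at h1
      congr 1
      apply Fin.ext
      omega
    · exact absurd (h2.mpr (halt_inr j')) (hna_inl i)
    · exact absurd (h2.mp (halt_inr j)) (hna_inl i')
    · rw [hrk_inr, hrk_inr] at h1
      congr 1
      apply Fin.ext
      omega
  · intro g hgO hg
    have hg2 : g ^ 2 = 1 := sq_of_orderOf hg
    have hg1 : g ≠ 1 := by
      rintro rfl
      rw [orderOf_one] at hg
      omega
    have hpos := rk_pos _ g hg1
    have hle := two_mul_rk_le _ g hg2
    simp only [Fintype.card_sum, Fintype.card_fin] at hle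
    obtain ⟨t, ht⟩ := (mem_omega_minus_iff_even hab g).mp hgO
    have key : ∃ x, rk _ (repOmegaMinus F k a b x) = rk _ g ∧
        (IsAltType _ (repOmegaMinus F k a b x) ↔ IsAltType _ g) := by
      by_cases halt : IsAltType _ g
      · have hle' := rk_le_of_alt hab g halt
        have htm : t - 1 < k / 2 := by omega
        refine ⟨Sum.inr ⟨t - 1, htm⟩, ?_, ?_⟩
        · rw [hrk_inr, ht]
          simp only
          omega
        · exact ⟨fun _ => halt, fun _ => halt_inr _⟩
      · have htm : t - 1 < (k + 1) / 2 := by omega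
        refine ⟨Sum.inl ⟨t - 1, htm⟩, ?_, ?_⟩
        · rw [hrk_inl, ht]
          simp only
          omega
        · exact ⟨fun h => absurd h (hna_inl _), fun h => absurd h halt⟩
    obtain ⟨x, hx1, hx2⟩ := key
    refine ⟨x, ?_⟩
    apply omega_conj_minus hab _ _ (sq_of_orderOf (hord x))
    exact conj_of_rank_type _ hQ _ _ (sq_of_orderOf (hord x)) hg2 hx1 hx2

end Cfsg.Agent.Helper8.O2
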