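import Mathlib
import Cfsg.Agent.Helper8.O2OmegaPlus
import Cfsg.Agent.Helper8.O2OmegaCount
set_option autoImplicit false

/-! Counting the classes of involutions of `Ω⁺` in characteristic two. -/

namespace Cfsg.Agent.Helper8.O2

open Module Matrix Cfsg.Agent.Helper8.SpS Cfsg.Agent.Helper8.Sp2 Cfsg.Agent.Helper8.StdForms
  Cfsg.Agent.Helper8.ReflMatrix Cfsg.Agent.Helper8.OmegaEven Cfsg.Agent.Helper8.MaxSingular
  Cfsg.Agent.Helper8.QuadForm

variable {F : Type*} [Field F] [CharP F 2] {m : ℕ}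

/-- the representative of type `a_m` (for even `m ≥ 2`) -/
noncomputable def topAlt (F : Type*) [Field F] [CharP F 2] (m : ℕ) :
    ↥(Cfsg.isometryGroup F ⇑(plusForm F m)) :=
  if h : 0 < m / 2 then repPlus F m (Sum.inr ⟨m / 2 - 1, by omega⟩) else 1

theorem topAlt_eq (h : 0 < m / 2) :
    topAlt F m = repPlus F m (Sum.inr ⟨m / 2 - 1, by omega⟩) := dif_pos h

theorem rk_topAlt (hm : 1 ≤ m) (he : Even m) : rk _ (topAlt F m) = m := by
  obtain ⟨c, hc⟩ := he
  have h : 0 < m / 2 := by omega
  rw [topAlt_eq h, rk_repPlus_inr]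
  simp only
  omega

theorem alt_topAlt (hm : 1 ≤ m) (he : Even m) : IsAltType _ (topAlt F m) := by
  obtain ⟨c, hc⟩ := he
  have h : 0 < m / 2 := by omega
  rw [topAlt_eq h]
  exact alt_repPlus_inr _

theorem orderOf_topAlt (hm : 1 ≤ m) (he : Even m) : orderOf (topAlt F m) = 2 := by
  obtain ⟨c, hc⟩ := he
  have h : 0 < m / 2 := by omega
  rw [topAlt_eq h]
  exact orderOf_repPlus _

/-- representatives of the classes of involutions of `Ω⁺`; `z` is a nonsingular vector -/
noncomputable def repOmegaPlus (F : Type*) [Field F] [CharP F 2] (m : ℕ)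
    (z : Fin m ⊕ Fin m → F) :
    (Fin (m / 2) ⊕ Fin (m / 2)) ⊕ Fin (if Even m then 1 else 0) →
      ↥(Cfsg.isometryGroup F ⇑(plusForm F m))
  | Sum.inl (Sum.inl i) => repPlus F m (Sum.inl ⟨2 * (i : ℕ) + 1, by have := i.2; omega⟩)
  | Sum.inl (Sum.inr j) => repPlus F m (Sum.inr j)
  | Sum.inr _ => reflElt _ z * topAlt F m * (reflElt _ z)⁻¹

theorem even_of_fin (e : Fin (if Even m then 1 else 0)) : Even m := by
  have hpos := e.pos
  by_contra h
  rw [if_neg h] at hpos
  omega

variable [Fintype F]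

theorem card_classes_omega_plus (hm : 1 ≤ m) (hex : Fintype.card F ≠ 2 ∨ m ≠ 2) :
    Nat.card {C : ConjClasses ↥(commutator ↥(Cfsg.isometryGroup F ⇑(plusForm F m))) //
      ∃ g : ↥(commutator ↥(Cfsg.isometryGroup F ⇑(plusForm F m))),
        ConjClasses.mk g = C ∧ orderOf g = 2} = 2 * (m / 2) + (if Even m then 1 else 0) := by
  classical
  have hQ := plusForm_nondeg F m
  have hnd := (nondeg_iff (plusForm F m)).mp hQ
  obtain ⟨z, hz1⟩ := exists_repr (plusForm F m) hnd (by rw [finrank_plus]; omega) 1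
  have hz : plusForm F m z ≠ 0 := by rw [hz1]; exact one_ne_zero
  obtain ⟨r, hr⟩ : ∃ r, r = reflElt (plusForm F m) z := ⟨_, rfl⟩
  have hrD : dicksonMat _ two_eq_zero' hQ r = -1 := by
    rw [hr]; exact dicksonMat_reflElt _ _ hQ hz
  have hrO : r ∉ commutator ↥(Cfsg.isometryGroup F ⇑(plusForm F m)) := by
    rw [mem_omega_plus_iff hm hex, hrD]
    decide
  have hrk1 : ∀ i : Fin (m / 2), rk _ (repOmegaPlus F m z (Sum.inl (Sum.inl i))) = 2 * (i + 1) := by
    intro i
    show rk _ (repPlus F m _) = _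
    rw [rk_repPlus_inl]
    simp only
    ring
  have hrk2 : ∀ j : Fin (m / 2), rk _ (repOmegaPlus F m z (Sum.inl (Sum.inr j))) = 2 * (j + 1) :=
    fun j => rk_repPlus_inr j
  have halt2 : ∀ j : Fin (m / 2), IsAltType _ (repOmegaPlus F m z (Sum.inl (Sum.inr j))) :=
    fun j => alt_repPlus_inr j
  have hna1 : ∀ i : Fin (m / 2), ¬ IsAltType _ (repOmegaPlus F m z (Sum.inl (Sum.inl i))) :=
    fun i => not_alt_repPlus_inl _
  have h3eq : ∀ e, repOmegaPlus F m z (Sum.inr e) = r * topAlt F m * r⁻¹ := by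
    intro e
    rw [hr]
    rfl
  have h3conj : ∀ e, IsConj (topAlt F m) (repOmegaPlus F m z (Sum.inr e)) := by
    intro e
    rw [h3eq, isConj_iff]
    exact ⟨r, rfl⟩
  have hrk3 : ∀ e, rk _ (repOmegaPlus F m z (Sum.inr e)) = m := by
    intro e
    rw [← (rk_type_of_isConj _ _ _ (h3conj e)).1]
    exact rk_topAlt hm (even_of_fin e)
  have halt3 : ∀ e, IsAltType _ (repOmegaPlus F m z (Sum.inr e)) := by
    intro e
    rw [← (rk_type_of_isConj _ _ _ (h3conj e)).2]
    exact alt_topAlt hm (even_of_fin e)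
  have hord : ∀ x, orderOf (repOmegaPlus F m z x) = 2 := by
    rintro ((i | j) | e)
    · exact orderOf_repPlus _
    · exact orderOf_repPlus _
    · rw [h3eq]
      have := MulEquiv.orderOf_eq (MulAut.conj r) (topAlt F m)
      rw [MulAut.conj_apply] at this
      rw [this]
      exact orderOf_topAlt hm (even_of_fin e)
  have hmem : ∀ x, repOmegaPlus F m z x ∈
      commutator ↥(Cfsg.isometryGroup F ⇑(plusForm F m)) := by
    rintro ((i | j) | e)
    · rw [mem_omega_plus_iff_even hm hex, hrk1]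
      exact even_two_mul _
    · rw [mem_omega_plus_iff_even hm hex, hrk2]
      exact even_two_mul _
    · rw [mem_omega_plus_iff_even hm hex, hrk3]
      exact even_of_fin e
  -- `topAlt` and its conjugate under `r` are not conjugate under `Ω`
  have hnot : ∀ (j : Fin (m / 2)) (e : Fin (if Even m then 1 else 0)),
      2 * ((j : ℕ) + 1) = m →
      ∀ g ∈ commutator ↥(Cfsg.isometryGroup F ⇑(plusForm F m)),
        ¬ (g * repOmegaPlus F m z (Sum.inl (Sum.inr j)) * g⁻¹ = repOmegaPlus F m z (Sum.inr e) ∨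
          g * repOmegaPlus F m z (Sum.inr e) * g⁻¹ = repOmegaPlus F m z (Sum.inl (Sum.inr j))) := by
    intro j e hj g hgO hg
    have hm2 : 0 < m / 2 := by omega
    have hjt : repOmegaPlus F m z (Sum.inl (Sum.inr j)) = topAlt F m := by
      rw [topAlt_eq hm2]
      show repPlus F m (Sum.inr j) = _
      congr 2
      apply Fin.ext
      simp only
      omega
    rw [hjt, h3eq] at hg
    -- in both cases some `g' ∈ Ω` with `g' * topAlt * g'⁻¹ = r * topAlt * r⁻¹`
    obtain ⟨g', hg'O, hg'⟩ : ∃ g' ∈ commutator ↥(Cfsg.isometryGroup F ⇑(plusForm F m)),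
        g' * topAlt F m * g'⁻¹ = r * topAlt F m * r⁻¹ := by
      rcases hg with hg | hg
      · exact ⟨g, hgO, hg⟩
      · refine ⟨g⁻¹, inv_mem hgO, ?_⟩
        calc g⁻¹ * topAlt F m * g⁻¹⁻¹
            = g⁻¹ * (g * (r * topAlt F m * r⁻¹) * g⁻¹) * g⁻¹⁻¹ := by rw [hg]
          _ = r * topAlt F m * r⁻¹ := by group
    have hU : IsMTS (plusForm F m) m (LinearMap.range (opN _ (topAlt F m))) := by
      have := isMTS_range_opN _ (topAlt F m) (alt_topAlt hm (even_of_fin e))
      rw [rk_topAlt hm (even_of_fin e)] at this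
      exact this
    have h1 := (mem_omega_plus_iff_inf hm hex _ hU g').mp hg'O
    rw [← range_opN_conj _ g' (topAlt F m) _ hg', range_opN_conj _ r (topAlt F m) _ rfl,
      ← mem_omega_plus_iff_inf hm hex _ hU r] at h1
    exact hrO h1
  rw [card_classes_sub _ (repOmegaPlus F m z) hmem hord]
  · rw [Fintype.card_sum, Fintype.card_sum, Fintype.card_fin, Fintype.card_fin]
    ring
  · rintro x y ⟨g, hgO, hg⟩
    obtain ⟨h1, h2⟩ := rk_type_of_isConj _ _ _ (isConj_iff.mpr ⟨g, hg⟩)
    rcases x with (i | j) | e <;> rcases y with (i' | j') | e'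
    · rw [hrk1, hrk1] at h1
      congr 2
      apply Fin.ext
      omega
    · exact absurd (h2.mpr (halt2 j')) (hna1 i)
    · exact absurd (h2.mpr (halt3 e')) (hna1 i)
    · exact absurd (h2.mp (halt2 j)) (hna1 i')
    · rw [hrk2, hrk2] at h1
      congr 2
      apply Fin.ext
      omega
    · rw [hrk2, hrk3] at h1
      exact absurd (Or.inl hg) (hnot j e' h1 g hgO)
    · exact absurd (h2.mp (halt3 e)) (hna1 i')
    · rw [hrk3, hrk2] at h1
      exact absurd (Or.inr hg) (hnot j' e h1.symm g hgO)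
    · congr 1
      apply Fin.ext
      have h1 : (e : ℕ) < 1 := lt_of_lt_of_eq e.2 (if_pos (even_of_fin e))
      have h2 : (e' : ℕ) < 1 := lt_of_lt_of_eq e'.2 (if_pos (even_of_fin e))
      omega
  · intro g hgO hg
    have hg2 : g ^ 2 = 1 := sq_of_orderOf hg
    have hg1 : g ≠ 1 := by
      rintro rfl
      rw [orderOf_one] at hg
      omega
    have hpos := rk_pos _ g hg1
    have hle := two_mul_rk_le _ g hg2
    rw [card_PI] at hle
    obtain ⟨t, ht⟩ := (mem_omega_plus_iff_even hm hex g).mp hgO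
    by_cases halt : IsAltType _ g
    · by_cases hrkm : rk _ g = m
      · -- type `a_m`
        have hme : Even m := ⟨t, by omega⟩
        have hc : IsConj (topAlt F m) g :=
          conj_of_rank_type _ hQ _ _ (sq_of_orderOf (orderOf_topAlt hm hme)) hg2
            ((rk_topAlt hm hme).trans hrkm.symm)
            ⟨fun _ => halt, fun _ => alt_topAlt hm hme⟩
        obtain ⟨h, hh⟩ := isConj_iff.mp hc
        have hm2 : 0 < m / 2 := by omega
        by_cases hhO : h ∈ commutator ↥(Cfsg.isometryGroup F ⇑(plusForm F m))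
        · refine ⟨Sum.inl (Sum.inr ⟨m / 2 - 1, by omega⟩), h, hhO, ?_⟩
          rw [← hh, topAlt_eq hm2]
          rfl
        · have he : 0 < (if Even m then 1 else 0) := by rw [if_pos hme]; omega
          refine ⟨Sum.inr ⟨0, he⟩, h * r⁻¹, ?_, ?_⟩
          · rw [mem_omega_plus_iff hm hex] at hhO ⊢
            rw [map_mul, map_inv, hrD]
            rcases Int.units_eq_one_or (dicksonMat _ two_eq_zero' hQ h) with h' | h'
            · exact absurd h' hhO
            · rw [h']; rfl
          · rw [h3eq, ← hh]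
            group
      · have htm : t - 1 < m / 2 := by omega
        obtain ⟨x, hx1, hx2⟩ : ∃ x, rk _ (repOmegaPlus F m z x) = rk _ g ∧
            (IsAltType _ (repOmegaPlus F m z x) ↔ IsAltType _ g) := by
          refine ⟨Sum.inl (Sum.inr ⟨t - 1, htm⟩), ?_, ?_⟩
          · rw [hrk2, ht]
            simp only
            omega
          · exact ⟨fun _ => halt, fun _ => halt2 _⟩
        refine ⟨x, ?_⟩
        apply omega_conj_plus hm hex _ _ (sq_of_orderOf (hord x))
          (conj_of_rank_type _ hQ _ _ (sq_of_orderOf (hord x)) hg2 hx1 hx2)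
        rintro ⟨h1, -⟩
        rw [hx1] at h1
        exact hrkm h1
    · have htm : t - 1 < m / 2 := by omega
      obtain ⟨x, hx1, hx2⟩ : ∃ x, rk _ (repOmegaPlus F m z x) = rk _ g ∧
          (IsAltType _ (repOmegaPlus F m z x) ↔ IsAltType _ g) := by
        refine ⟨Sum.inl (Sum.inl ⟨t - 1, htm⟩), ?_, ?_⟩
        · rw [hrk1, ht]
          simp only
          omega
        · exact ⟨fun h => absurd h (hna1 _), fun h => absurd h halt⟩
      refine ⟨x, ?_⟩
      apply omega_conj_plus hm hex _ _ (sq_of_orderOf (hord x))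
        (conj_of_rank_type _ hQ _ _ (sq_of_orderOf (hord x)) hg2 hx1 hx2)
      rintro ⟨-, h2⟩
      exact halt (hx2.mp h2)

end Cfsg.Agent.Helper8.O2
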