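import Mathlib
import Cfsg.Agent.Helper8.O2Pts
import Cfsg.Agent.Helper8.O2OmegaPlusCount
set_option autoImplicit false

/-! Elements of prime order of `Ω⁺_2d(q)`, `q` even, and fixed nonsingular points (helper8). -/

namespace Cfsg.Agent.Helper8.O2P

open Module Matrix Cfsg.Agent.Helper8.StdForms Cfsg.Agent.Helper8.O2 Cfsg.Agent.Helper8.OmegaEven
  Cfsg.Agent.Helper8.ReflMatrix

variable {F : Type*} [Field F] {d : ℕ}

local notation "PI" d => Fin d ⊕ Fin d

theorem plusForm_eq_dot (v : (PI d) → F) :
    plusForm F d v = (v ∘ Sum.inl) ⬝ᵥ (v ∘ Sum.inr) := by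
  rw [plusForm_apply]
  rfl

/-- the block-diagonal matrix `diag(A, B)` -/
def bd (A B : Matrix (Fin d) (Fin d) F) : Matrix (PI d) (PI d) F := fromBlocks A 0 0 B

theorem bd_mul (A B A' B' : Matrix (Fin d) (Fin d) F) : bd A B * bd A' B' = bd (A * A') (B * B') := by
  unfold bd
  rw [fromBlocks_multiply]
  simp

theorem bd_one : bd (1 : Matrix (Fin d) (Fin d) F) 1 = 1 := fromBlocks_one

theorem bd_pow (A B : Matrix (Fin d) (Fin d) F) (n : ℕ) : bd A B ^ n = bd (A ^ n) (B ^ n) := by
  induction n with
  | zero => rw [pow_zero, pow_zero, pow_zero, bd_one]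
  | succ n ih => rw [pow_succ, ih, bd_mul, ← pow_succ, ← pow_succ]

theorem bd_mulVec_inl (A B : Matrix (Fin d) (Fin d) F) (v : (PI d) → F) :
    (bd A B *ᵥ v) ∘ Sum.inl = A *ᵥ (v ∘ Sum.inl) := by
  funext i
  rw [bd, Matrix.fromBlocks_mulVec]
  simp

theorem bd_mulVec_inr (A B : Matrix (Fin d) (Fin d) F) (v : (PI d) → F) :
    (bd A B *ᵥ v) ∘ Sum.inr = B *ᵥ (v ∘ Sum.inr) := by
  funext i
  rw [bd, Matrix.fromBlocks_mulVec]
  simp

theorem plusForm_bd (A B : Matrix (Fin d) (Fin d) F) (hAB : Aᵀ * B = 1) (v : (PI d) → F) :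
    plusForm F d (bd A B *ᵥ v) = plusForm F d v := by
  rw [plusForm_eq_dot, plusForm_eq_dot, bd_mulVec_inl, bd_mulVec_inr, ← vecMul_transpose,
    ← dotProduct_mulVec, mulVec_mulVec, hAB, one_mulVec]

/-- a fixed-point-free isometry of order `r` -/
theorem exists_fpf_isometry [Fintype F] (p : ℕ) [Fact p.Prime] [CharP F p] (hd : 1 ≤ d) (r : ℕ)
    [Fact r.Prime] (hr : r ∣ Fintype.card F ^ d - 1) :
    ∃ t : ↥(Cfsg.isometryGroup F ⇑(plusForm F d)), t ^ r = 1 ∧
      ∀ v, ((t : GL (PI d) F) : Matrix (PI d) (PI d) F) *ᵥ v = v → v ∘ Sum.inl = 0 := by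
  obtain ⟨A, hAr, hAfix⟩ := exists_fpf_matrix (F := F) p d hd r hr
  have hr1 : 1 ≤ r := (Fact.out : r.Prime).one_le
  have hAA' : A * A ^ (r - 1) = 1 := by
    rw [← pow_succ', Nat.sub_add_cancel hr1, hAr]
  have hA'A : A ^ (r - 1) * A = 1 := by
    rw [← pow_succ, Nat.sub_add_cancel hr1, hAr]
  have h1 : bd A (A ^ (r - 1))ᵀ * bd (A ^ (r - 1)) Aᵀ = 1 := by
    rw [bd_mul, hAA', ← transpose_mul, hAA', transpose_one, bd_one]
  have h2 : bd (A ^ (r - 1)) Aᵀ * bd A (A ^ (r - 1))ᵀ = 1 := by
    rw [bd_mul, hA'A, ← transpose_mul, hA'A, transpose_one, bd_one]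
  refine ⟨⟨⟨bd A (A ^ (r - 1))ᵀ, bd (A ^ (r - 1)) Aᵀ, h1, h2⟩, fun u _ => ?_⟩, ?_, ?_⟩
  · exact plusForm_bd A _ (by rw [← transpose_mul, hA'A, transpose_one]) u
  · apply Subtype.ext
    apply Units.ext
    show bd A (A ^ (r - 1))ᵀ ^ r = 1
    rw [bd_pow, hAr, ← transpose_pow, ← pow_mul, mul_comm, pow_mul, hAr, one_pow, transpose_one,
      bd_one]
  · intro v hv
    apply hAfix
    have : bd A (A ^ (r - 1))ᵀ *ᵥ v = v := hv
    rw [← bd_mulVec_inl, this]

variable [Fintype F] [CharP F 2]

omit [Fintype F] in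
theorem eq_one_of_mul_self_eq_one {c : F} (h : c * c = 1) : c = 1 := by
  have h2 : (2 : F) = 0 := CharTwo.two_eq_zero
  have h6 : (c - 1) * (c - 1) = 0 := by linear_combination h + (1 - c) * h2
  rcases mul_eq_zero.mp h6 with h | h <;> exact sub_eq_zero.mp h

/-- the criterion -/
theorem nonsingular_point_iff (hd : 4 ≤ d) (r : ℕ)
    [Fact r.Prime]
    (hrΩ : r ∣ Nat.card {W : Submodule F ((PI d) → F) //
      finrank F W = 1 ∧ ∃ v ∈ W, plusForm F d v ≠ 0}) :
    (∀ t : ↥(Cfsg.isometryGroup F ⇑(plusForm F d)),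
      t ∈ commutator ↥(Cfsg.isometryGroup F ⇑(plusForm F d)) →
      (∃ z : F, (((t : GL (PI d) F) ^ r : GL (PI d) F) : Matrix (PI d) (PI d) F) =
        z • (1 : Matrix (PI d) (PI d) F)) →
      (∀ z : F, ((t : GL (PI d) F) : Matrix (PI d) (PI d) F) ≠ z • (1 : Matrix (PI d) (PI d) F)) →
      ∃ W : Submodule F ((PI d) → F), (finrank F W = 1 ∧ ∃ v ∈ W, plusForm F d v ≠ 0) ∧
        W.map (Matrix.toLin' ((t : GL (PI d) F) : Matrix (PI d) (PI d) F)) ≤ W) ↔
      (r = 2 ∧ Odd d) := by
  have hm1 : 1 ≤ d := by omega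
  have hex : Fintype.card F ≠ 2 ∨ d ≠ 2 := Or.inr (by omega)
  have hQ := plusForm_nondeg F d
  -- a fixed nonsingular point gives a fixed nonsingular vector
  have hfixvec : ∀ t : ↥(Cfsg.isometryGroup F ⇑(plusForm F d)),
      (∃ W : Submodule F ((PI d) → F), (finrank F W = 1 ∧ ∃ v ∈ W, plusForm F d v ≠ 0) ∧
        W.map (Matrix.toLin' ((t : GL (PI d) F) : Matrix (PI d) (PI d) F)) ≤ W) →
      ∃ v, plusForm F d v ≠ 0 ∧ ((t : GL (PI d) F) : Matrix (PI d) (PI d) F) *ᵥ v = v := by
    rintro t ⟨W, ⟨hW1, v, hvW, hv⟩, hWt⟩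
    refine ⟨v, hv, ?_⟩
    have hv0 : v ≠ 0 := fun h => hv (by rw [h, map_zero])
    have hWspan : W = Submodule.span F {v} := by
      symm
      apply Submodule.eq_of_le_of_finrank_eq
      · rw [Submodule.span_singleton_le_iff_mem]; exact hvW
      · rw [finrank_span_singleton hv0, hW1]
    have h1 : Matrix.toLin' ((t : GL (PI d) F) : Matrix (PI d) (PI d) F) v ∈ W :=
      hWt ⟨v, hvW, rfl⟩
    rw [hWspan, Matrix.toLin'_apply] at h1
    obtain ⟨c, hc⟩ := Submodule.mem_span_singleton.mp h1
    have h2 := Q_mulVec (plusForm F d) t v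
    rw [← hc, QuadraticMap.map_smul, smul_eq_mul] at h2
    have h3 : c * c = 1 := by
      have h4 : (c * c - 1) * plusForm F d v = 0 := by linear_combination h2
      rcases mul_eq_zero.mp h4 with h | h
      · exact sub_eq_zero.mp h
      · exact absurd h hv
    have h5 : c = 1 := eq_one_of_mul_self_eq_one h3
    rw [← hc, h5, one_smul]
  constructor
  · intro hA
    by_cases hr2 : r = 2
    · refine ⟨hr2, ?_⟩
      by_contra hodd
      rw [Nat.not_odd_iff_even] at hodd
      -- the involution of type `a_d`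
      have hrk := rk_topAlt (F := F) hm1 hodd
      have halt := alt_topAlt (F := F) hm1 hodd
      have hord := orderOf_topAlt (F := F) hm1 hodd
      have hsq : topAlt F d ^ 2 = 1 := sq_of_orderOf hord
      have hmem : topAlt F d ∈ commutator ↥(Cfsg.isometryGroup F ⇑(plusForm F d)) := by
        rw [mem_omega_plus_iff_even hm1 hex, hrk]
        exact hodd
      obtain ⟨v, hv, htv⟩ := hfixvec _ (hA (topAlt F d) hmem (by
          refine ⟨1, ?_⟩
          rw [hr2, one_smul]
          have := congrArg (fun y : ↥(Cfsg.isometryGroup F ⇑(plusForm F d)) =>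
            ((y : GL (PI d) F) : Matrix (PI d) (PI d) F)) hsq
          exact this) (by
          intro z hz
          have h1 : rk (plusForm F d) (topAlt F d) = 0 := by
            unfold rk
            rw [hz]
            by_cases hz1 : z = 1
            · rw [hz1, one_smul, sub_self, Matrix.rank_zero]
            · exfalso
              have h2 := coe_sq (plusForm F d) (topAlt F d) hsq
              rw [hz, smul_mul_smul_comm, mul_one] at h2
              have h3 := congrFun (congrFun h2 (Sum.inl ⟨0, by omega⟩)) (Sum.inl ⟨0, by omega⟩)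
              rw [Matrix.smul_apply, Matrix.one_apply_eq, smul_eq_mul, mul_one] at h3
              exact hz1 (eq_one_of_mul_self_eq_one h3)
          omega))
      -- `v` lies in the kernel of `t - 1`, which equals its image, totally singular
      have hker : opN (plusForm F d) (topAlt F d) v = 0 := by
        rw [opN_apply, htv, sub_self]
      have hle : LinearMap.range (opN (plusForm F d) (topAlt F d)) ≤
          LinearMap.ker (opN (plusForm F d) (topAlt F d)) := by
        rintro _ ⟨x, rfl⟩
        rw [LinearMap.mem_ker]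
        exact opN_sq _ _ hsq x
      have heq : LinearMap.range (opN (plusForm F d) (topAlt F d)) =
          LinearMap.ker (opN (plusForm F d) (topAlt F d)) := by
        apply Submodule.eq_of_le_of_finrank_eq hle
        have h1 := LinearMap.finrank_range_add_finrank_ker (opN (plusForm F d) (topAlt F d))
        have h2 : finrank F (LinearMap.range (opN (plusForm F d) (topAlt F d))) = d := by
          rw [← rank_eq_finrank]; exact hrk
        rw [finrank_plus] at h1
        omega
      have hvr : v ∈ LinearMap.range (opN (plusForm F d) (topAlt F d)) := by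
        rw [heq, LinearMap.mem_ker]; exact hker
      exact hv ((isMTS_range_opN _ _ halt).2 v hvr)
    · exfalso
      -- `r` is odd and divides `q^d - 1`
      have hrp : r.Prime := Fact.out
      rw [card_nonsingular_points_plus] at hrΩ
      have hrdvd : r ∣ Fintype.card F ^ d - 1 := by
        rcases (Nat.Prime.dvd_mul hrp).mp hrΩ with h | h
        · exact h
        · exfalso
          have h1 := hrp.dvd_of_dvd_pow h
          obtain ⟨n, hn⟩ := FiniteField.card F 2
          rw [hn.2] at h1
          have h2 := hrp.dvd_of_dvd_pow h1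
          exact hr2 ((Nat.prime_dvd_prime_iff_eq hrp Nat.prime_two).mp h2)
      have : Fact (Nat.Prime 2) := ⟨Nat.prime_two⟩
      obtain ⟨t, htr, htfix⟩ := exists_fpf_isometry (F := F) 2 hm1 r hrdvd
      have hrodd : Odd r := hrp.odd_of_ne_two hr2
      have hmem : t ∈ commutator ↥(Cfsg.isometryGroup F ⇑(plusForm F d)) := by
        rw [mem_omega_plus_iff hm1 hex]
        have h1 : (dicksonMat (plusForm F d) two_eq_zero' hQ t) ^ r = 1 := by
          rw [← map_pow, htr, map_one]
        rcases Int.units_eq_one_or (dicksonMat (plusForm F d) two_eq_zero' hQ t) with h | h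
        · exact h
        · rw [h, hrodd.neg_one_pow] at h1
          exact absurd h1 (by decide)
      have hfixzero : ∀ v, ((t : GL (PI d) F) : Matrix (PI d) (PI d) F) *ᵥ v = v →
          plusForm F d v = 0 := by
        intro v hv
        rw [plusForm_eq_dot, htfix v hv, zero_dotProduct]
      obtain ⟨v, hv, htv⟩ := hfixvec t (hA t hmem (by
          refine ⟨1, ?_⟩
          rw [one_smul]
          have := congrArg (fun y : ↥(Cfsg.isometryGroup F ⇑(plusForm F d)) =>
            ((y : GL (PI d) F) : Matrix (PI d) (PI d) F)) htr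
          exact this) (by
          intro z hz
          -- a scalar isometry fixes a nonsingular vector after all
          obtain ⟨w, hw⟩ := Cfsg.Agent.Helper8.QuadForm.exists_repr (plusForm F d)
            ((Cfsg.Agent.Helper8.QuadForm.nondeg_iff (plusForm F d)).mp hQ)
            (by rw [finrank_plus]; omega) 1
          have hw0 : plusForm F d w ≠ 0 := by rw [hw]; exact one_ne_zero
          have h2 := Q_mulVec (plusForm F d) t w
          rw [hz, Matrix.smul_mulVec, Matrix.one_mulVec, QuadraticMap.map_smul, smul_eq_mul,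
            hw, mul_one] at h2
          have h5 : z = 1 := eq_one_of_mul_self_eq_one h2
          apply hw0
          apply hfixzero
          rw [hz, h5, one_smul, Matrix.one_mulVec]))
      exact hv (hfixzero v htv)
  · rintro ⟨hr2, hodd⟩ t htO ⟨z, hz⟩ hns
    -- `t` is an involution of `Ω`, not of type `a_d`
    have hsq : t ^ 2 = 1 := by
      obtain ⟨w, hw⟩ := Cfsg.Agent.Helper8.QuadForm.exists_repr (plusForm F d)
        ((Cfsg.Agent.Helper8.QuadForm.nondeg_iff (plusForm F d)).mp hQ)
        (by rw [finrank_plus]; omega) 1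
      have h1 := Q_mulVec (plusForm F d) (t ^ 2) w
      have h2 : (((t ^ 2 : ↥(Cfsg.isometryGroup F ⇑(plusForm F d))) : GL (PI d) F) :
          Matrix (PI d) (PI d) F) = z • 1 := by
        rw [← hz, hr2]
        rfl
      rw [h2, Matrix.smul_mulVec, Matrix.one_mulVec, QuadraticMap.map_smul, smul_eq_mul, hw,
        mul_one] at h1
      have h5 : z = 1 := eq_one_of_mul_self_eq_one h1
      apply Subtype.ext
      apply Units.ext
      rw [h2, h5, one_smul]
      rfl
    have hrk_even := (mem_omega_plus_iff_even hm1 hex t).mp htO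
    obtain ⟨v, hv, htv⟩ := exists_fixed_plus t hsq (by
      rintro ⟨h1, -⟩
      rw [h1] at hrk_even
      exact (Nat.not_even_iff_odd.mpr hodd) hrk_even)
    have hv0 : v ≠ 0 := fun h => hv (by rw [h, map_zero])
    refine ⟨Submodule.span F {v}, ⟨finrank_span_singleton hv0, v,
      Submodule.mem_span_singleton_self v, hv⟩, ?_⟩
    rw [Submodule.map_span_le]
    intro w hw
    rw [Set.mem_singleton_iff] at hw
    rw [hw, Matrix.toLin'_apply, htv]
    exact Submodule.mem_span_singleton_self v

end Cfsg.Agent.Helper8.O2P
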