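import Mathlib
import Cfsg.Agent.Helper8.QuadExt

set_option autoImplicit false

/-!
The second elementary symmetric polynomial `e₂(v) = Σ_{i<j} v_i v_j` as a quadratic form on `ι → F`.
-/

namespace Cfsg.Agent.Helper8.E2Form

open Matrix

variable (F : Type*) [CommRing F] (ι : Type*) [Fintype ι] [LinearOrder ι]

/-- the strictly upper triangular all-ones matrix. -/
def U : Matrix ι ι F := Matrix.of fun i j => if i < j then 1 else 0

/-- `e₂` as a quadratic form. -/
noncomputable def e2 : QuadraticForm F (ι → F) := (Matrix.toBilin' (U F ι)).toQuadraticMap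

variable {F ι}

theorem bil_apply (u v : ι → F) :
    Matrix.toBilin' (U F ι) u v = ∑ i, ∑ j, if i < j then u i * v j else 0 := by
  rw [Matrix.toBilin'_apply]
  refine Finset.sum_congr rfl (fun i _ => Finset.sum_congr rfl (fun j _ => ?_))
  unfold U
  rw [Matrix.of_apply]
  split_ifs <;> simp

theorem e2_apply (v : ι → F) : e2 F ι v = ∑ i, ∑ j, if i < j then v i * v j else 0 := by
  unfold e2
  rw [LinearMap.BilinMap.toQuadraticMap_apply, bil_apply]

theorem polar_e2 (u v : ι → F) :
    QuadraticMap.polar (e2 F ι) u v = (∑ i, u i) * (∑ i, v i) - ∑ i, u i * v i := by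
  unfold e2
  rw [LinearMap.BilinMap.polar_toQuadraticMap, bil_apply, bil_apply]
  rw [Finset.sum_comm (f := fun i j => if i < j then v i * u j else 0)]
  rw [Finset.sum_mul_sum, ← Finset.sum_add_distrib, ← Finset.sum_sub_distrib]
  refine Finset.sum_congr rfl (fun i _ => ?_)
  rw [← Finset.sum_add_distrib]
  have h1 : u i * v i = ∑ j, if i = j then u i * v j else 0 := by
    rw [Finset.sum_ite_eq]; simp
  rw [h1, ← Finset.sum_sub_distrib]
  refine Finset.sum_congr rfl (fun j _ => ?_)
  rcases lt_trichotomy i j with h | h | h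
  · rw [if_pos h, if_neg (not_lt.mpr h.le), if_neg h.ne]; ring
  · subst h; simp
  · rw [if_neg (not_lt.mpr h.le), if_pos h, if_neg h.ne']; ring

theorem e2_single [DecidableEq ι] (a : ι) (c : F) : e2 F ι (Pi.single a c) = 0 := by
  rw [e2_apply]
  refine Finset.sum_eq_zero (fun i _ => Finset.sum_eq_zero (fun j _ => ?_))
  split_ifs with h
  · by_cases hi : i = a
    · have hj : j ≠ a := by rintro rfl; exact absurd h (by rw [hi]; exact lt_irrefl _)
      rw [Pi.single_eq_of_ne hj, mul_zero]
    · rw [Pi.single_eq_of_ne hi, zero_mul]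
  · rfl

/-- `e₂` is invariant under permutations of the coordinates. -/
theorem e2_comp_perm [DecidableEq ι] (σ : Equiv.Perm ι) (v : ι → F) :
    e2 F ι (v ∘ ⇑σ) = e2 F ι v := by
  have key : (e2 F ι).comp (LinearMap.funLeft F F ⇑σ) = e2 F ι := by
    refine QuadExt.ext_of_polar_pi _ _ ?_ ?_
    · intro u w
      have : QuadraticMap.polar (⇑((e2 F ι).comp (LinearMap.funLeft F F ⇑σ))) u w
          = QuadraticMap.polar (⇑(e2 F ι)) (u ∘ ⇑σ) (w ∘ ⇑σ) := by
        unfold QuadraticMap.polar
        simp only [QuadraticMap.comp_apply]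
        rfl
      rw [this, polar_e2, polar_e2]
      have h1 : ∑ i, (u ∘ ⇑σ) i = ∑ i, u i := Equiv.sum_comp σ u
      have h2 : ∑ i, (w ∘ ⇑σ) i = ∑ i, w i := Equiv.sum_comp σ w
      have h3 : ∑ i, (u ∘ ⇑σ) i * (w ∘ ⇑σ) i = ∑ i, u i * w i :=
        Equiv.sum_comp σ (fun i => u i * w i)
      rw [h1, h2, h3]
    · intro a
      rw [QuadraticMap.comp_apply, e2_single]
      have : (LinearMap.funLeft F F ⇑σ) (Pi.single a 1) = Pi.single (σ.symm a) (1 : F) := by
        funext i
        rw [LinearMap.funLeft_apply]
        by_cases h : i = σ.symm a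
        · subst h; simp
        · rw [Pi.single_eq_of_ne h, Pi.single_eq_of_ne]
          intro h'
          exact h (by rw [← h', Equiv.symm_apply_apply])
      rw [this, e2_single]
  have := congrArg (fun Q : QuadraticForm F (ι → F) => Q v) key
  exact this

/-- the value of `e₂` on the indicator vector of a finite set. -/
theorem e2_indicator [DecidableEq ι] (S : Finset ι) :
    e2 F ι (fun i => if i ∈ S then 1 else 0) = ((S.card.choose 2 : ℕ) : F) := by
  induction S using Finset.induction_on with
  | empty =>
    have : (fun i : ι => if i ∈ (∅ : Finset ι) then (1 : F) else 0) = 0 := by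
      funext i; simp
    rw [this, map_zero]; simp
  | insert a S ha ih =>
    have hsplit : (fun i : ι => if i ∈ insert a S then (1 : F) else 0)
        = (fun i => if i ∈ S then 1 else 0) + Pi.single a 1 := by
      funext i
      rw [Pi.add_apply]
      by_cases hi : i = a
      · subst hi; simp [ha]
      · rw [Pi.single_eq_of_ne hi, add_zero]
        simp [Finset.mem_insert, hi]
    rw [hsplit, QuadraticMap.map_add (⇑(e2 F ι)), ih, e2_single, polar_e2, Finset.card_insert_of_notMem ha]
    have h1 : ∑ i, (if i ∈ S then (1 : F) else 0) = (S.card : F) := by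
      rw [Finset.sum_ite_mem, Finset.univ_inter]; simp
    have h2 : ∑ i, (Pi.single a (1 : F) : ι → F) i = 1 := by
      rw [Finset.sum_pi_single']; simp
    have h3 : ∑ i, (if i ∈ S then (1 : F) else 0) * (Pi.single a (1 : F) : ι → F) i = 0 := by
      refine Finset.sum_eq_zero (fun i _ => ?_)
      by_cases hi : i = a
      · subst hi; simp [ha]
      · rw [Pi.single_eq_of_ne hi, mul_zero]
    rw [h1, h2, h3]
    have : (S.card + 1).choose 2 = S.card.choose 2 + S.card := by
      rw [Nat.choose_succ_succ' S.card 1, Nat.choose_one_right]; ring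
    rw [this]; push_cast; ring

end Cfsg.Agent.Helper8.E2Form
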