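import Mathlib
import Cfsg.Agent.Helper7.SymSp
import Cfsg.Agent.Helper7.SympTransitive
import Cfsg.Agent.Helper8.E2Form
import Cfsg.Agent.Helper8.QuadForm

set_option autoImplicit false

/-!
The quadratic form `x ↦ e₂(ι x)` on the coordinate space of helper7's embedding of the symmetric
group into the symplectic group in characteristic two: it is preserved by the symmetric group when
the degree is divisible by four, and it is diagonal (an orthogonal sum of binary forms) in the
coordinates.
-/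

namespace Cfsg.Agent.Helper8.SymOrth

open Matrix Cfsg Cfsg.Agent.Helper7.SymSp Cfsg.Agent.Helper8.E2Form

variable {F : Type*} [Field F] (k : ℕ)

/-- the quadratic form. -/
noncomputable def Qs : QuadraticForm F (Fin k ⊕ Fin k → F) :=
  (e2 F (Fin (2 * k + 2))).comp ((E F k)ᵀ).mulVecLin

theorem Qs_apply (x : Fin k ⊕ Fin k → F) : Qs k x = e2 F (Fin (2 * k + 2)) (iota k x) := rfl

theorem sum_eq_ones_dot (v : Fin (2 * k + 2) → F) : ∑ i, v i = ones F k ⬝ᵥ v := by
  unfold ones dotProduct
  simp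

section char2

variable [CharP F 2]

theorem sum_iota (x : Fin k ⊕ Fin k → F) : ∑ i, iota k x i = 0 := by
  rw [sum_eq_ones_dot, ones_dot_iota]

theorem iota_dot_iota (x y : Fin k ⊕ Fin k → F) : iota k x ⬝ᵥ iota k y = sympForm k F x y := by
  have := sform_proj k (iota k x) (iota k y) (ones_dot_iota k x) (ones_dot_iota k y)
  rw [proj_iota, proj_iota] at this
  exact this.symm

theorem polar_Qs (x y : Fin k ⊕ Fin k → F) :
    QuadraticMap.polar (Qs k) x y = sympForm k F x y := by
  have h : QuadraticMap.polar (⇑(Qs (F := F) k)) x y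
      = QuadraticMap.polar (⇑(e2 F (Fin (2 * k + 2)))) (iota k x) (iota k y) := by
    unfold QuadraticMap.polar
    rw [Qs_apply, Qs_apply, Qs_apply]
    unfold iota
    rw [Matrix.mulVec_add]
  rw [h, polar_e2, sum_iota, sum_iota, zero_mul, zero_sub]
  have : ∑ i, iota k x i * iota k y i = iota k x ⬝ᵥ iota k y := rfl
  rw [this, iota_dot_iota]
  exact CharTwo.neg_eq _

theorem Qs_nondeg : (QuadraticMap.polarBilin (Qs (F := F) k)).Nondegenerate := by
  rw [Cfsg.Agent.Helper8.QuadForm.nondeg_iff]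
  intro x hx
  by_contra hne
  obtain ⟨y, hy⟩ := Cfsg.Agent.Helper7.Symp.exists_sympForm_ne_zero hne
  apply hy
  have := hx y
  rw [polar_Qs] at this
  exact this

/-- the symmetric group preserves the form when `C(2k+2, 2)` is even. -/
theorem Qs_M (hn : (((2 * k + 2).choose 2 : ℕ) : F) = 0) (σ : Equiv.Perm (Fin (2 * k + 2)))
    (x : Fin k ⊕ Fin k → F) : Qs k (M F k σ *ᵥ x) = Qs k x := by
  rw [Qs_apply, Qs_apply, M_mulVec]
  obtain ⟨w, hw⟩ : ∃ w, w = iota k x ∘ ⇑σ⁻¹ := ⟨_, rfl⟩
  rw [← hw]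
  have hw0 : ones F k ⬝ᵥ w = 0 := by rw [hw, ones_dot_comp, ones_dot_iota]
  obtain ⟨c, hc⟩ := iota_proj k w hw0
  rw [hc, QuadraticMap.map_add (⇑(e2 F (Fin (2 * k + 2)))), QuadraticMap.map_smul, polar_e2]
  have hones : e2 F (Fin (2 * k + 2)) (ones F k) = 0 := by
    have := e2_indicator (F := F) (Finset.univ : Finset (Fin (2 * k + 2)))
    rw [Finset.card_univ, Fintype.card_fin, hn] at this
    rw [← this]
    congr 1
    funext i
    simp [ones]
  have h1 : ∑ i, w i = 0 := by rw [sum_eq_ones_dot, hw0]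
  have h2 : ∑ i, w i * (c • ones F k) i = 0 := by
    have : ∀ i, w i * (c • ones F k) i = c * w i := by
      intro i
      simp [ones, mul_comm]
    simp only [this]
    rw [← Finset.mul_sum, h1, mul_zero]
  rw [hones, h1, h2, smul_zero, zero_mul, sub_zero, add_zero, add_zero, hw]
  exact e2_comp_perm σ⁻¹ (iota k x)

omit [CharP F 2] in
theorem iota_single (r : Fin k ⊕ Fin k) :
    iota k (Pi.single r (1 : F)) = fun i => if i ∈ rowSupp k r then 1 else 0 := by
  unfold iota
  rw [Matrix.mulVec_single_one]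
  funext i
  rw [Matrix.col_apply, Matrix.transpose_apply, E_apply]

theorem Qs_single (r : Fin k ⊕ Fin k) :
    Qs k (Pi.single r (1 : F)) = (((rowSupp k r).card.choose 2 : ℕ) : F) := by
  rw [Qs_apply, iota_single, e2_indicator]

theorem Qs_single_inl (t : Fin k) : Qs k (Pi.single (Sum.inl t) (1 : F)) = 1 := by
  rw [Qs_single]
  have : (rowSupp k (Sum.inl t)).card = 2 := by
    show (suppA k t).card = 2
    unfold suppA
    rw [Finset.card_pair]
    intro h; simp [Fin.ext_iff] at h
  rw [this]; simp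

theorem Qs_single_inr (t : Fin k) :
    Qs k (Pi.single (Sum.inr t) (1 : F)) = ((t.val + 1 : ℕ) : F) := by
  rw [Qs_single]
  have : (rowSupp k (Sum.inr t)).card = 2 * t.val + 2 := card_suppB k t
  rw [this]
  have h2 : (2 : F) = 0 := by
    have := CharP.cast_eq_zero F 2
    exact_mod_cast this
  have : (2 * t.val + 2).choose 2 = (t.val + 1) * (2 * t.val + 1) := by
    rw [Nat.choose_two_right]
    have : (2 * t.val + 2) * (2 * t.val + 2 - 1) = 2 * ((t.val + 1) * (2 * t.val + 1)) := by
      have : 2 * t.val + 2 - 1 = 2 * t.val + 1 := by omega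
      rw [this]; ring
    rw [this, Nat.mul_div_cancel_left _ (by norm_num : 0 < 2)]
  rw [this]
  push_cast
  rw [h2]; ring

/-- the diagonal form. -/
noncomputable def Qd : QuadraticForm F (Fin k ⊕ Fin k → F) :=
  ∑ t : Fin k, (QuadraticMap.linMulLin (LinearMap.proj (Sum.inl t)) (LinearMap.proj (Sum.inl t))
    + QuadraticMap.linMulLin (LinearMap.proj (Sum.inl t)) (LinearMap.proj (Sum.inr t))
    + ((t.val + 1 : ℕ) : F) • QuadraticMap.linMulLin (LinearMap.proj (Sum.inr t))
        (LinearMap.proj (Sum.inr t)))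

omit [CharP F 2] in
theorem Qd_apply (x : Fin k ⊕ Fin k → F) :
    Qd k x = ∑ t : Fin k, (x (Sum.inl t) * x (Sum.inl t) + x (Sum.inl t) * x (Sum.inr t)
      + ((t.val + 1 : ℕ) : F) * (x (Sum.inr t) * x (Sum.inr t))) := by
  unfold Qd
  rw [QuadraticMap.sum_apply]
  rfl

theorem sympForm_eq (x y : Fin k ⊕ Fin k → F) :
    sympForm k F x y = ∑ t : Fin k, (x (Sum.inl t) * y (Sum.inr t) + y (Sum.inl t) * x (Sum.inr t)) := by
  unfold sympForm
  simp only [Matrix.J, Matrix.fromBlocks_mulVec, dotProduct, Fintype.sum_sum_type, Sum.elim_inl,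
    Sum.elim_inr, Matrix.zero_mulVec, Matrix.neg_mulVec, Matrix.one_mulVec, zero_add, add_zero,
    Pi.neg_apply, Function.comp_apply]
  rw [← Finset.sum_add_distrib]
  refine Finset.sum_congr rfl (fun t _ => ?_)
  rw [mul_neg, CharTwo.neg_eq]; ring

theorem polar_Qd (x y : Fin k ⊕ Fin k → F) :
    QuadraticMap.polar (Qd k) x y = sympForm k F x y := by
  have h2 : (2 : F) = 0 := by
    have := CharP.cast_eq_zero F 2
    exact_mod_cast this
  unfold QuadraticMap.polar
  rw [Qd_apply, Qd_apply, Qd_apply, sympForm_eq, ← Finset.sum_sub_distrib, ← Finset.sum_sub_distrib]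
  refine Finset.sum_congr rfl (fun t _ => ?_)
  simp only [Pi.add_apply]
  linear_combination (x (Sum.inl t) * y (Sum.inl t)
    + ((t.val + 1 : ℕ) : F) * x (Sum.inr t) * y (Sum.inr t)) * h2

theorem Qs_eq_Qd : Qs (F := F) k = Qd k := by
  classical
  refine QuadExt.ext_of_polar_pi _ _ (fun u v => by rw [polar_Qs, polar_Qd]) ?_
  rintro (t | t)
  · rw [Qs_single_inl, Qd_apply]
    rw [Finset.sum_eq_single t]
    · simp
    · intro s _ hs
      have h1 : (Pi.single (Sum.inl t) (1 : F) : Fin k ⊕ Fin k → F) (Sum.inl s) = 0 :=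
        Pi.single_eq_of_ne (by simpa using hs) _
      have h2 : (Pi.single (Sum.inl t) (1 : F) : Fin k ⊕ Fin k → F) (Sum.inr s) = 0 :=
        Pi.single_eq_of_ne (by simp) _
      rw [h1, h2]; ring
    · intro h; exact absurd (Finset.mem_univ t) h
  · rw [Qs_single_inr, Qd_apply]
    rw [Finset.sum_eq_single t]
    · simp
    · intro s _ hs
      have h1 : (Pi.single (Sum.inr t) (1 : F) : Fin k ⊕ Fin k → F) (Sum.inl s) = 0 :=
        Pi.single_eq_of_ne (by simp) _
      have h2 : (Pi.single (Sum.inr t) (1 : F) : Fin k ⊕ Fin k → F) (Sum.inr s) = 0 :=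
        Pi.single_eq_of_ne (by simpa using hs) _
      rw [h1, h2]; ring
    · intro h; exact absurd (Finset.mem_univ t) h

end char2

end Cfsg.Agent.Helper8.SymOrth
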