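import Mathlib
import Cfsg.Agent.Helper8.SU3IConj
import Cfsg.Agent.Helper8.UJRank
set_option autoImplicit false

/-! Block-diagonal unitary matrices `diag(A, T)` with a `2 × 2` block. -/

namespace Cfsg.Agent.Helper8.SUEven

open Matrix Cfsg Cfsg.Agent.Helper7.Herm Cfsg.Agent.Helper8.GUOrder Cfsg.Agent.Helper8.SUCenter
open Cfsg.Agent.Helper8.SU3I

variable {K : Type*} [Field K] [Fintype K] {q : ℕ} {m : ℕ}

/-- the block matrix `diag(A, T)` -/
def blk (A : Matrix (Fin m) (Fin m) K) (T : Matrix (Fin 2) (Fin 2) K) :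
    Matrix (Fin (m + 2)) (Fin (m + 2)) K :=
  (fromBlocks A 0 0 T).submatrix finSumFinEquiv.symm finSumFinEquiv.symm

omit [Fintype K] in
theorem blk_sig (A : Matrix (Fin m) (Fin m) K) (T : Matrix (Fin 2) (Fin 2) K) :
    (blk A T).submatrix finSumFinEquiv finSumFinEquiv = fromBlocks A 0 0 T := by
  ext i j; simp [blk]

omit [Fintype K] in
theorem blk_mul (A B : Matrix (Fin m) (Fin m) K) (T S : Matrix (Fin 2) (Fin 2) K) :
    blk A T * blk B S = blk (A * B) (T * S) := by
  unfold blk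
  rw [Matrix.submatrix_mul_equiv, Matrix.fromBlocks_multiply]
  congr 2 <;> simp

omit [Fintype K] in
theorem blk_one : blk (1 : Matrix (Fin m) (Fin m) K) 1 = 1 := by
  unfold blk
  rw [Matrix.fromBlocks_one, Matrix.submatrix_one_equiv]

omit [Fintype K] [Field K] in
theorem submatrix_fsf2_injective :
    Function.Injective (fun X : Matrix (Fin (m + 2)) (Fin (m + 2)) K =>
      X.submatrix (finSumFinEquiv : Fin m ⊕ Fin 2 ≃ Fin (m + 2)) finSumFinEquiv) := by
  intro X Y h
  ext i j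
  have := congrFun (congrFun h (finSumFinEquiv.symm i)) (finSumFinEquiv.symm j)
  simpa using this

omit [Fintype K] in
theorem blk_injective {A B : Matrix (Fin m) (Fin m) K} {T S : Matrix (Fin 2) (Fin 2) K}
    (h : blk A T = blk B S) : A = B ∧ T = S := by
  have h2 := congrArg (fun X => X.submatrix (finSumFinEquiv : Fin m ⊕ Fin 2 ≃ Fin (m + 2))
    finSumFinEquiv) h
  simp only [blk_sig] at h2
  have h3 := Matrix.fromBlocks_inj.mp h2
  exact ⟨h3.1, h3.2.2.2⟩

omit [Fintype K] in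
theorem det_blk (A : Matrix (Fin m) (Fin m) K) (T : Matrix (Fin 2) (Fin 2) K) :
    (blk A T).det = A.det * T.det := by
  unfold blk
  rw [Matrix.det_submatrix_equiv_self, Matrix.det_fromBlocks_zero₂₁]

omit [Fintype K] in
theorem unitary_iff_sig2 (M : Matrix (Fin (m + 2)) (Fin (m + 2)) K) :
    Mᵀ * M.map (· ^ q) = 1 ↔
      (M.submatrix (finSumFinEquiv : Fin m ⊕ Fin 2 ≃ Fin (m + 2)) finSumFinEquiv)ᵀ *
        (M.submatrix (finSumFinEquiv : Fin m ⊕ Fin 2 ≃ Fin (m + 2)) finSumFinEquiv).map (· ^ q)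
        = 1 := by
  rw [← Matrix.submatrix_map, Matrix.transpose_submatrix, Matrix.submatrix_mul_equiv]
  constructor
  · intro h; rw [h, Matrix.submatrix_one_equiv]
  · intro h
    apply submatrix_fsf2_injective (m := m)
    show _ = (1 : Matrix (Fin (m + 2)) (Fin (m + 2)) K).submatrix
      (finSumFinEquiv : Fin m ⊕ Fin 2 ≃ Fin (m + 2)) finSumFinEquiv
    rw [Matrix.submatrix_one_equiv]; exact h

theorem blk_unitary_iff (hK : Fintype.card K = q ^ 2) (A : Matrix (Fin m) (Fin m) K)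
    (T : Matrix (Fin 2) (Fin 2) K) :
    (blk A T)ᵀ * (blk A T).map (· ^ q) = 1 ↔
      Aᵀ * A.map (· ^ q) = 1 ∧ Tᵀ * T.map (· ^ q) = 1 := by
  rw [unitary_iff_sig2, blk_sig, Matrix.fromBlocks_transpose, Matrix.fromBlocks_map,
    Matrix.fromBlocks_multiply, map_zero_q hK, map_zero_q hK, ← Matrix.fromBlocks_one]
  simp only [Matrix.transpose_zero, Matrix.mul_zero, Matrix.zero_mul, add_zero, zero_add]
  rw [Matrix.fromBlocks_inj]
  constructor
  · rintro ⟨h1, -, -, h4⟩
    exact ⟨h1, h4⟩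
  · rintro ⟨h1, h2⟩
    exact ⟨h1, rfl, rfl, h2⟩

omit [Fintype K] in
theorem rank_blk_sub_one (A : Matrix (Fin m) (Fin m) K) (T : Matrix (Fin 2) (Fin 2) K) :
    (blk A T - 1).rank = (A - 1).rank + (T - 1).rank := by
  have h1 : blk A T - 1 = blk (A - 1) (T - 1) := by
    apply submatrix_fsf2_injective (m := m)
    show (blk A T - 1).submatrix finSumFinEquiv finSumFinEquiv =
      (blk (A - 1) (T - 1)).submatrix finSumFinEquiv finSumFinEquiv
    rw [blk_sig]
    have hne : ∀ (i : Fin m) (j : Fin 2), Fin.castAdd 2 i ≠ Fin.natAdd m j := by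
      intro i j h
      have h2 := congrArg Fin.val h
      simp at h2
      omega
    ext (i | i) (j | j) <;> simp [blk, Matrix.one_apply, hne, (hne _ _).symm]
  rw [h1]
  unfold blk
  rw [Matrix.rank_submatrix, Cfsg.Agent.Helper8.UJ.rank_fromBlocks_diag]

/-- the last two basis vectors -/
def eps (m : ℕ) (i : Fin 2) : Fin (m + 2) → K :=
  Pi.single ((finSumFinEquiv : Fin m ⊕ Fin 2 ≃ Fin (m + 2)) (Sum.inr i)) 1

omit [Fintype K] in
theorem mulVec_eps (M : Matrix (Fin (m + 2)) (Fin (m + 2)) K) (i : Fin 2)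
    (k : Fin m ⊕ Fin 2) :
    (M *ᵥ eps m i) (finSumFinEquiv k) =
      (M.submatrix (finSumFinEquiv : Fin m ⊕ Fin 2 ≃ Fin (m + 2)) finSumFinEquiv) k (Sum.inr i) := by
  unfold eps
  rw [Matrix.mulVec_single_one]
  rfl

omit [Fintype K] in
theorem eps_apply (i : Fin 2) (k : Fin m ⊕ Fin 2) :
    (eps m i : Fin (m + 2) → K) (finSumFinEquiv k) = if k = Sum.inr i then 1 else 0 := by
  unfold eps
  rw [Pi.single_apply]
  simp only [EmbeddingLike.apply_eq_iff_eq]

omit [Fintype K] in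
theorem blk_mulVec_eps (A : Matrix (Fin m) (Fin m) K) (T : Matrix (Fin 2) (Fin 2) K)
    (i : Fin 2) : blk A T *ᵥ eps m i = ∑ j, T j i • eps m j := by
  ext k
  obtain ⟨k, rfl⟩ := (finSumFinEquiv : Fin m ⊕ Fin 2 ≃ Fin (m + 2)).surjective k
  rw [mulVec_eps, blk_sig, Finset.sum_apply]
  simp only [Pi.smul_apply, eps_apply, smul_eq_mul, Fin.sum_univ_two]
  rcases k with k | k
  · simp
  · fin_cases k <;> simp

/-- a unitary matrix fixing the last two basis vectors is block diagonal -/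
theorem shape (hK : Fintype.card K = q ^ 2) (M : Matrix (Fin (m + 2)) (Fin (m + 2)) K)
    (hM : Mᵀ * M.map (· ^ q) = 1) (h0 : M *ᵥ eps m 0 = eps m 0) (h1 : M *ᵥ eps m 1 = eps m 1) :
    ∃ A : Matrix (Fin m) (Fin m) K, Aᵀ * A.map (· ^ q) = 1 ∧ M = blk A 1 := by
  set M' := M.submatrix (finSumFinEquiv : Fin m ⊕ Fin 2 ≃ Fin (m + 2)) finSumFinEquiv with hM'
  have hdec := Matrix.fromBlocks_toBlocks M'
  have hfix : ∀ i : Fin 2, M *ᵥ eps m i = eps m i := by
    intro i; fin_cases i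
    · exact h0
    · exact h1
  have h12 : M'.toBlocks₁₂ = 0 := by
    ext x i
    have := congrFun (hfix i) (finSumFinEquiv (Sum.inl x))
    rw [mulVec_eps, eps_apply, if_neg (by simp)] at this
    exact this
  have h22 : M'.toBlocks₂₂ = 1 := by
    ext x i
    have := congrFun (hfix i) (finSumFinEquiv (Sum.inr x))
    rw [mulVec_eps, eps_apply] at this
    rw [Matrix.one_apply]
    simp only [Sum.inr.injEq] at this
    exact this
  rw [h12, h22] at hdec
  set A := M'.toBlocks₁₁ with hA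
  set C := M'.toBlocks₂₁ with hC
  rw [unitary_iff_sig2, ← hM', ← hdec] at hM
  rw [Matrix.fromBlocks_transpose, Matrix.fromBlocks_map, Matrix.fromBlocks_multiply,
    map_zero_q hK, map_one_q hK] at hM
  simp only [Matrix.transpose_zero, Matrix.transpose_one, Matrix.mul_zero, Matrix.zero_mul,
    zero_add, Matrix.one_mul, Matrix.mul_one] at hM
  rw [← Matrix.fromBlocks_one] at hM
  obtain ⟨h11, h12', -, -⟩ := Matrix.fromBlocks_inj.mp hM
  have hC0 : C = 0 := by
    have := congrArg Matrix.transpose h12'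
    rwa [Matrix.transpose_transpose, Matrix.transpose_zero] at this
  rw [hC0, Matrix.transpose_zero, Matrix.zero_mul, add_zero] at h11
  refine ⟨A, h11, ?_⟩
  apply submatrix_fsf2_injective (m := m)
  show M' = (blk A 1).submatrix finSumFinEquiv finSumFinEquiv
  rw [blk_sig, ← hdec, hC0]

end Cfsg.Agent.Helper8.SUEven
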