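import Mathlib
import Cfsg.Agent.Helper8.SUEvenBlk
set_option autoImplicit false

/-! Transitivity of the unitary matrices on orthonormal pairs. -/

namespace Cfsg.Agent.Helper8.SUEven

open Matrix Cfsg Cfsg.Agent.Helper7.Herm Cfsg.Agent.Helper8.GUOrder Cfsg.Agent.Helper8.SUCenter
open Cfsg.Agent.Helper8.SU3I

variable {K : Type*} [Field K] [Fintype K] {q : ℕ} {n : ℕ}

theorem exists_refl_fix (hK : Fintype.card K = q ^ 2) {u v : Fin n → K}
    (hu : hermForm n K q u u = 1) (hv : hermForm n K q v v = 1) (hne : hermForm n K q u v ≠ 1) :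
    ∃ g : Matrix (Fin n) (Fin n) K, gᵀ * g.map (· ^ q) = 1 ∧ g *ᵥ u = v ∧
      ∀ x, hermForm n K q x u = 0 → hermForm n K q x v = 0 → g *ᵥ x = x := by
  set α := hermForm n K q u v with hα
  have hvu : hermForm n K q v u = α ^ q := hermForm_swap hK v u
  have hd0 : 1 - α ≠ 0 := fun h => hne (by linear_combination -h)
  have hdq : (1 - α) ^ q = 1 - α ^ q := by rw [sub_pow_q hK, one_pow]
  have hdq0 : 1 - α ^ q ≠ 0 := by rw [← hdq]; exact pow_ne_zero _ hd0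
  have huw : hermForm n K q u (u - v) = 1 - α := by rw [hermForm_sub_right hK, hu]
  have hww : hermForm n K q (u - v) (u - v) = (1 - α) + (1 - α ^ q) := by
    rw [hermForm_sub_left, huw, hermForm_sub_right hK, hvu, hv]; ring
  have hcq : (-(1 - α)⁻¹) ^ q = -(1 - α ^ q)⁻¹ := by
    rw [neg_pow_q hK, inv_pow, hdq]
  have hc : (-(1 - α)⁻¹) ^ q + (-(1 - α)⁻¹) + (-(1 - α)⁻¹) * (-(1 - α)⁻¹) ^ q *
      hermForm n K q (u - v) (u - v) = 0 := by
    rw [hcq, hww]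
    field_simp
    ring
  refine ⟨unitaryTransvection n q (u - v) (-(1 - α)⁻¹),
    (mem_GU_iff hK _).mp (TG_mem hK _ _ hc), ?_, ?_⟩
  · rw [unitaryTransvection_mulVec, huw, neg_mul, inv_mul_cancel₀ hd0, neg_smul, one_smul]
    abel
  · intro x hxu hxv
    rw [unitaryTransvection_mulVec, hermForm_sub_right hK, hxu, hxv, sub_zero, mul_zero, zero_smul,
      add_zero]

theorem exists_unitary_fix (hK : Fintype.card K = q ^ 2) {u v : Fin n → K}
    (hu : hermForm n K q u u = 1) (hv : hermForm n K q v v = 1) :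
    ∃ g : Matrix (Fin n) (Fin n) K, gᵀ * g.map (· ^ q) = 1 ∧ g *ᵥ u = v ∧
      ∀ x, hermForm n K q x u = 0 → hermForm n K q x v = 0 → g *ᵥ x = x := by
  by_cases hne : hermForm n K q u v = 1
  · obtain ⟨ζ, hζ, hζ1⟩ := exists_zeta hK
    have hζ0 : ζ ≠ 0 := by
      rintro rfl
      rw [zero_mul] at hζ
      exact zero_ne_one hζ
    have hζq : ζ ^ q ≠ 1 := by
      intro h
      rw [h, mul_one] at hζ
      exact hζ1 hζ
    have hz : hermForm n K q (ζ • v) (ζ • v) = 1 := by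
      rw [hermForm_smul_left, hermForm_smul_right, ← mul_assoc, hζ, one_mul, hv]
    have h1 : hermForm n K q u (ζ • v) ≠ 1 := by
      rw [hermForm_smul_right, hne, mul_one]; exact hζq
    have h2 : hermForm n K q (ζ • v) v ≠ 1 := by
      rw [hermForm_smul_left, hv, mul_one]; exact hζ1
    obtain ⟨g₁, hg₁, e₁, f₁⟩ := exists_refl_fix hK hu hz h1
    obtain ⟨g₂, hg₂, e₂, f₂⟩ := exists_refl_fix hK hz hv h2
    refine ⟨g₂ * g₁, unitary_mul hK hg₂ hg₁, ?_, ?_⟩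
    · rw [← Matrix.mulVec_mulVec, e₁, e₂]
    · intro x hxu hxv
      have hxz : hermForm n K q x (ζ • v) = 0 := by rw [hermForm_smul_right, hxv, mul_zero]
      rw [← Matrix.mulVec_mulVec, f₁ x hxu hxz, f₂ x hxz hxv]
  · exact exists_refl_fix hK hu hv hne

/-- transitivity on orthonormal pairs -/
theorem exists_unitary_pair (hK : Fintype.card K = q ^ 2) {x₁ x₂ y₁ y₂ : Fin n → K}
    (hx₁ : hermForm n K q x₁ x₁ = 1) (hx₂ : hermForm n K q x₂ x₂ = 1)
    (hx : hermForm n K q x₁ x₂ = 0)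
    (hy₁ : hermForm n K q y₁ y₁ = 1) (hy₂ : hermForm n K q y₂ y₂ = 1)
    (hy : hermForm n K q y₁ y₂ = 0) :
    ∃ g : Matrix (Fin n) (Fin n) K, gᵀ * g.map (· ^ q) = 1 ∧ g *ᵥ x₁ = y₁ ∧ g *ᵥ x₂ = y₂ := by
  have hq0 : q ≠ 0 := by have := two_le_q hK; omega
  obtain ⟨g₁, hg₁, e₁, -⟩ := exists_unitary_fix hK hx₁ hy₁
  have hz : hermForm n K q (g₁ *ᵥ x₂) (g₁ *ᵥ x₂) = 1 := by
    rw [hermForm_unitary hK g₁ hg₁, hx₂]
  have hzy : hermForm n K q y₁ (g₁ *ᵥ x₂) = 0 := by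
    rw [← e₁, hermForm_unitary hK g₁ hg₁, hx]
  obtain ⟨g₂, hg₂, e₂, f₂⟩ := exists_unitary_fix hK hz hy₂
  refine ⟨g₂ * g₁, unitary_mul hK hg₂ hg₁, ?_, ?_⟩
  · rw [← Matrix.mulVec_mulVec, e₁, f₂ y₁ hzy hy]
  · rw [← Matrix.mulVec_mulVec, e₂]

end Cfsg.Agent.Helper8.SUEven
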