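import Mathlib
import Cfsg.Agent.Helper8.SUEvenPair
set_option autoImplicit false

/-! A unitary involution in characteristic two swaps an orthonormal pair. -/

namespace Cfsg.Agent.Helper8.SUEven

open Matrix Cfsg Cfsg.Agent.Helper7.Herm Cfsg.Agent.Helper8.GUOrder Cfsg.Agent.Helper8.SUCenter
open Cfsg.Agent.Helper8.SU3I

variable {K : Type*} [Field K] [Fintype K] [CharP K 2] {q : ℕ} {n : ℕ}

omit [Fintype K] in
theorem vadd_self (x : Fin n → K) : x + x = 0 := by
  ext i
  simp [CharTwo.add_self_eq_zero]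

/-- surjectivity of the trace -/
theorem trace_surj (hK : Fintype.card K = q ^ 2) (τ : K) (hτ : τ ^ q = τ) :
    ∃ c : K, c + c ^ q = τ := by
  obtain ⟨t, ht⟩ := exists_not_fixed hK
  have hs : t + t ^ q ≠ 0 := by
    intro h
    apply ht
    have : t ^ q = -t := by linear_combination h
    rw [this, CharTwo.neg_eq]
  have hsq : (t + t ^ q) ^ q = t + t ^ q := by
    rw [add_pow_q hK, pow_q_pow_q hK, add_comm]
  refine ⟨τ / (t + t ^ q) * t, ?_⟩
  rw [mul_pow, div_pow, hτ, hsq]
  field_simp

omit [CharP K 2] in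
/-- unitary involutions are self-adjoint -/
theorem selfadj (hK : Fintype.card K = q ^ 2) (A : Matrix (Fin n) (Fin n) K)
    (hU : Aᵀ * A.map (· ^ q) = 1) (hA2 : A * A = 1) (x y : Fin n → K) :
    hermForm n K q (A *ᵥ x) y = hermForm n K q x (A *ᵥ y) := by
  have : y = A *ᵥ (A *ᵥ y) := by rw [Matrix.mulVec_mulVec, hA2, Matrix.one_mulVec]
  conv_lhs => rw [this]
  exact hermForm_unitary hK A hU x (A *ᵥ y)

theorem swap_of_unit (hK : Fintype.card K = q ^ 2) (A : Matrix (Fin n) (Fin n) K)
    (hU : Aᵀ * A.map (· ^ q) = 1) (hA2 : A * A = 1) (u : Fin n → K)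
    (hu : hermForm n K q u (A *ᵥ u + u) = 1) :
    ∃ x : Fin n → K, hermForm n K q x x = 1 ∧ hermForm n K q x (A *ᵥ x) = 0 := by
  set w := A *ᵥ u + u with hw
  have hAw : A *ᵥ w = w := by
    rw [hw, Matrix.mulVec_add, Matrix.mulVec_mulVec, hA2, Matrix.one_mulVec, add_comm]
  have hwu : hermForm n K q w u = 1 := by
    rw [hermForm_swap hK, hu, one_pow]
  have huu : hermForm n K q u u ^ q = hermForm n K q u u := (hermForm_swap hK u u).symm
  have hww : hermForm n K q w w = 0 := by
    have h1 : hermForm n K q (A *ᵥ u) w = hermForm n K q u w := by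
      rw [selfadj hK A hU hA2, hAw]
    have : hermForm n K q w w = hermForm n K q (A *ᵥ u) w + hermForm n K q u w := by
      conv_lhs => rw [hw]
      rw [hermForm_add_left]
    rw [this, h1]
    exact CharTwo.add_self_eq_zero _
  obtain ⟨c, hc⟩ := trace_surj hK (1 + hermForm n K q u u) (by rw [add_pow_q hK, one_pow, huu])
  refine ⟨u + c • w, ?_, ?_⟩
  · rw [hermForm_add_left, hermForm_add_right hK, hermForm_add_right hK, hermForm_smul_right,
      hermForm_smul_left, hermForm_smul_left, hermForm_smul_right, hu, hwu, hww]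
    have : hermForm n K q u u + c ^ q * 1 + (c * 1 + c * (c ^ q * 0)) =
        hermForm n K q u u + (c + c ^ q) := by ring
    rw [this, hc]
    have h2 := CharTwo.add_self_eq_zero (hermForm n K q u u)
    linear_combination h2
  · have hAx : A *ᵥ (u + c • w) = (u + c • w) + w := by
      rw [Matrix.mulVec_add, Matrix.mulVec_smul, hAw, hw]
      have := vadd_self u
      have h3 : A *ᵥ u = (A *ᵥ u + u) + u := by rw [add_assoc, this, add_zero]
      nth_rewrite 1 [h3]
      abel
    rw [hAx, hermForm_add_right hK]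
    have h1 : hermForm n K q (u + c • w) (u + c • w) = 1 := by
      rw [hermForm_add_left, hermForm_add_right hK, hermForm_add_right hK, hermForm_smul_right,
        hermForm_smul_left, hermForm_smul_left, hermForm_smul_right, hu, hwu, hww]
      have : hermForm n K q u u + c ^ q * 1 + (c * 1 + c * (c ^ q * 0)) =
          hermForm n K q u u + (c + c ^ q) := by ring
      rw [this, hc]
      have h2 := CharTwo.add_self_eq_zero (hermForm n K q u u)
      linear_combination h2
    rw [h1, hermForm_add_left, hermForm_smul_left, hu, hww, mul_zero, add_zero]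
    exact CharTwo.add_self_eq_zero _

theorem exists_swap_vector (hK : Fintype.card K = q ^ 2) (A : Matrix (Fin n) (Fin n) K)
    (hU : Aᵀ * A.map (· ^ q) = 1) (hA2 : A * A = 1) (hA : A ≠ 1) :
    ∃ x : Fin n → K, hermForm n K q x x = 1 ∧ hermForm n K q x (A *ᵥ x) = 0 := by
  have hq0 : q ≠ 0 := by have := two_le_q hK; omega
  -- the hermitian form `φ(x, y) = h(x, Ay + y)`
  have hφ : ∀ x y : Fin n → K, hermForm n K q x (A *ᵥ y + y) =
      (hermForm n K q y (A *ᵥ x + x)) ^ q := by
    intro x y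
    rw [hermForm_add_right hK, hermForm_add_right hK, add_pow_q hK, ← hermForm_swap hK,
      ← hermForm_swap hK, selfadj hK A hU hA2]
  -- a pair with nonzero value
  obtain ⟨y, hy⟩ : ∃ y : Fin n → K, A *ᵥ y + y ≠ 0 := by
    by_contra hcon
    push Not at hcon
    apply hA
    apply Matrix.toLin'.injective
    apply LinearMap.ext
    intro x
    rw [Matrix.toLin'_apply, Matrix.toLin'_one, LinearMap.id_apply]
    have h1 := hcon x
    have h2 : A *ᵥ x = (A *ᵥ x + x) + x := by rw [add_assoc, vadd_self, add_zero]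
    rw [h2, h1, zero_add]
  obtain ⟨z, hz⟩ : ∃ z, hermForm n K q (A *ᵥ y + y) z ≠ 0 := by
    by_contra hcon
    push Not at hcon
    exact hy (hermForm_nondeg hK _ hcon)
  have hzy : hermForm n K q z (A *ᵥ y + y) ≠ 0 := by
    rw [hermForm_swap hK]
    exact pow_ne_zero _ hz
  -- a vector with nonzero value
  obtain ⟨u, hu⟩ : ∃ u : Fin n → K, hermForm n K q u (A *ᵥ u + u) ≠ 0 := by
    by_cases h1 : hermForm n K q y (A *ᵥ y + y) ≠ 0
    · exact ⟨y, h1⟩
    by_cases h2 : hermForm n K q z (A *ᵥ z + z) ≠ 0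
    · exact ⟨z, h2⟩
    push Not at h1 h2
    set a := hermForm n K q z (A *ᵥ y + y) with ha
    have hyz : hermForm n K q y (A *ᵥ z + z) = a ^ q := by rw [hφ y z]
    obtain ⟨t, ht⟩ := exists_not_fixed hK
    have hs : t + t ^ q ≠ 0 := by
      intro h
      apply ht
      have : t ^ q = -t := by linear_combination h
      rw [this, CharTwo.neg_eq]
    have haq : a ^ q ≠ 0 := pow_ne_zero _ hzy
    refine ⟨z + (t / a ^ q) • y, ?_⟩
    have e1 : A *ᵥ (z + (t / a ^ q) • y) + (z + (t / a ^ q) • y) =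
        (A *ᵥ z + z) + (t / a ^ q) • (A *ᵥ y + y) := by
      rw [Matrix.mulVec_add, Matrix.mulVec_smul, smul_add]
      abel
    have key : ∀ (wz wy : Fin n → K) (s : K), hermForm n K q (z + s • y) (wz + s • wy) =
        hermForm n K q z wz + s ^ q * hermForm n K q z wy + s * hermForm n K q y wz +
          s * s ^ q * hermForm n K q y wy := by
      intro wz wy s
      rw [hermForm_add_left, hermForm_add_right hK, hermForm_add_right hK, hermForm_smul_right,
        hermForm_smul_left, hermForm_smul_left, hermForm_smul_right]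
      ring
    rw [e1, key, h1, h2, hyz, ← ha, div_pow, pow_q_pow_q hK]
    have : (0 : K) + (t ^ q / a) * a + t / a ^ q * a ^ q + t / a ^ q * (t ^ q / a) * 0 =
        t + t ^ q := by
      field_simp
      ring
    rw [this]
    exact hs
  -- normalise
  set c₀ := hermForm n K q u (A *ᵥ u + u) with hc₀
  have hc₀q : c₀ ^ q = c₀ := by rw [hc₀, ← hφ u u]
  obtain ⟨μ, hμ⟩ := exists_norm hK hu hc₀q
  have hμ0 : μ ≠ 0 := by
    rintro rfl
    rw [zero_mul] at hμ
    exact hu hμ.symm
  apply swap_of_unit hK A hU hA2 (μ⁻¹ • u)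
  have e1 : A *ᵥ (μ⁻¹ • u) + μ⁻¹ • u = μ⁻¹ • (A *ᵥ u + u) := by
    rw [Matrix.mulVec_smul, smul_add]
  rw [e1, hermForm_smul_left, hermForm_smul_right, ← hc₀, ← hμ, inv_pow]
  have : μ ^ q ≠ 0 := pow_ne_zero _ hμ0
  field_simp

end Cfsg.Agent.Helper8.SUEven
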