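import Mathlib
import Cfsg.Agent.Helper8.SUEvenStep
set_option autoImplicit false

/-! Unitary involutions in characteristic two: conjugacy is detected by the rank of `a - 1`. -/

namespace Cfsg.Agent.Helper8.SUEven

open Matrix Cfsg Cfsg.Agent.Helper7.Herm Cfsg.Agent.Helper8.GUOrder Cfsg.Agent.Helper8.SUCenter
open Cfsg.Agent.Helper8.SU3I

variable {K : Type*} [Field K] [Fintype K] {q : ℕ} {n m : ℕ}

/-- the conjugate transpose, inverse of a unitary matrix -/
def star' (q : ℕ) (g : Matrix (Fin n) (Fin n) K) : Matrix (Fin n) (Fin n) K := (g.map (· ^ q))ᵀ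

omit [Fintype K] in
theorem star_mul_self {g : Matrix (Fin n) (Fin n) K} (hg : gᵀ * g.map (· ^ q) = 1) :
    star' q g * g = 1 := by
  have h3 := congrArg Matrix.transpose hg
  rw [Matrix.transpose_mul, Matrix.transpose_transpose, Matrix.transpose_one] at h3
  exact h3

omit [Fintype K] in
theorem self_mul_star {g : Matrix (Fin n) (Fin n) K} (hg : gᵀ * g.map (· ^ q) = 1) :
    g * star' q g = 1 := mul_eq_one_comm.mp (star_mul_self hg)

theorem star_unitary (hK : Fintype.card K = q ^ 2) {g : Matrix (Fin n) (Fin n) K}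
    (hg : gᵀ * g.map (· ^ q) = 1) : (star' q g)ᵀ * (star' q g).map (· ^ q) = 1 := by
  have h1 := ((guEquiv hK).symm ⟨g, hg⟩)⁻¹.2
  exact (mem_GU_iff hK _).mp h1

omit [Fintype K] in
theorem det_star_mul {g : Matrix (Fin n) (Fin n) K} (hg : gᵀ * g.map (· ^ q) = 1) :
    (star' q g).det * g.det = 1 := by
  rw [← Matrix.det_mul, star_mul_self hg, Matrix.det_one]

/-- the swap matrix -/
def sw2 : Matrix (Fin 2) (Fin 2) K := !![0, 1; 1, 0]

omit [Fintype K] in
theorem sw2_mul_self : (sw2 : Matrix (Fin 2) (Fin 2) K) * sw2 = 1 := by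
  unfold sw2
  ext i j
  fin_cases i <;> fin_cases j <;> simp [Matrix.mul_apply, Fin.sum_univ_two]

theorem sw2_unitary (hK : Fintype.card K = q ^ 2) :
    (sw2 : Matrix (Fin 2) (Fin 2) K)ᵀ * (sw2 : Matrix (Fin 2) (Fin 2) K).map (· ^ q) = 1 := by
  have hq0 : q ≠ 0 := by have := two_le_q hK; omega
  unfold sw2
  ext i j
  fin_cases i <;> fin_cases j <;> simp [Matrix.mul_apply, Fin.sum_univ_two, hq0]

omit [Fintype K] in
theorem hermForm_eps (hq0 : q ≠ 0) (i j : Fin 2) :
    hermForm (m + 2) K q (eps m i) (eps m j) = if i = j then 1 else 0 := by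
  unfold hermForm eps
  rw [Finset.sum_eq_single ((finSumFinEquiv : Fin m ⊕ Fin 2 ≃ Fin (m + 2)) (Sum.inr i))]
  · rw [Pi.single_eq_same, one_mul, Pi.single_apply]
    by_cases h : i = j
    · subst h; simp
    · rw [if_neg h, if_neg, zero_pow hq0]
      intro h'
      apply h
      have := (finSumFinEquiv : Fin m ⊕ Fin 2 ≃ Fin (m + 2)).injective h'
      exact Sum.inr.inj this
  · intro k _ hk
    rw [Pi.single_eq_of_ne hk, zero_mul]
  · intro h
    exact absurd (Finset.mem_univ _) h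

/-- peeling off a swapped orthonormal pair -/
theorem peel [CharP K 2] (hK : Fintype.card K = q ^ 2) (A : Matrix (Fin (m + 2)) (Fin (m + 2)) K)
    (hU : Aᵀ * A.map (· ^ q) = 1) (hA2 : A * A = 1) (hA : A ≠ 1) :
    ∃ (g : Matrix (Fin (m + 2)) (Fin (m + 2)) K) (A' : Matrix (Fin m) (Fin m) K),
      gᵀ * g.map (· ^ q) = 1 ∧ A'ᵀ * A'.map (· ^ q) = 1 ∧ A' * A' = 1 ∧
        g * A = blk A' sw2 * g := by
  have hq0 : q ≠ 0 := by have := two_le_q hK; omega
  obtain ⟨x, hx1, hx2⟩ := exists_swap_vector hK A hU hA2 hA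
  have hAx : hermForm (m + 2) K q (A *ᵥ x) (A *ᵥ x) = 1 := by
    rw [hermForm_unitary hK A hU, hx1]
  obtain ⟨g, hg, e1, e2⟩ := exists_unitary_pair hK hx1 hAx hx2
    (hermForm_eps (K := K) (m := m) hq0 0 0) (hermForm_eps (K := K) (m := m) hq0 1 1)
    (hermForm_eps (K := K) (m := m) hq0 0 1)
  have hgs := star_mul_self hg
  have hsg := self_mul_star hg
  have hx : star' q g *ᵥ eps m 0 = x := by
    rw [← e1, Matrix.mulVec_mulVec, hgs, Matrix.one_mulVec]
  have hx' : star' q g *ᵥ eps m 1 = A *ᵥ x := by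
    rw [← e2, Matrix.mulVec_mulVec, hgs, Matrix.one_mulVec]
  set A₁ := g * A * star' q g with hA₁
  have hA₁U : A₁ᵀ * A₁.map (· ^ q) = 1 :=
    unitary_mul hK (unitary_mul hK hg hU) (star_unitary hK hg)
  have h10 : A₁ *ᵥ eps m 0 = eps m 1 := by
    rw [hA₁, ← Matrix.mulVec_mulVec, ← Matrix.mulVec_mulVec, hx, e2]
  have h11 : A₁ *ᵥ eps m 1 = eps m 0 := by
    have hAAx : A *ᵥ (A *ᵥ x) = x := by rw [Matrix.mulVec_mulVec, hA2, Matrix.one_mulVec]
    rw [hA₁, ← Matrix.mulVec_mulVec, ← Matrix.mulVec_mulVec, hx', hAAx, e1]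
  have hs0 : blk (1 : Matrix (Fin m) (Fin m) K) sw2 *ᵥ eps m 0 = eps m 1 := by
    rw [blk_mulVec_eps, Fin.sum_univ_two]
    simp [sw2]
  have hs1 : blk (1 : Matrix (Fin m) (Fin m) K) sw2 *ᵥ eps m 1 = eps m 0 := by
    rw [blk_mulVec_eps, Fin.sum_univ_two]
    simp [sw2]
  have hsU : (blk (1 : Matrix (Fin m) (Fin m) K) sw2)ᵀ *
      (blk (1 : Matrix (Fin m) (Fin m) K) sw2).map (· ^ q) = 1 := by
    rw [blk_unitary_iff hK]
    refine ⟨?_, sw2_unitary hK⟩
    rw [map_one_q hK, Matrix.transpose_one, Matrix.one_mul]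
  have hss : blk (1 : Matrix (Fin m) (Fin m) K) sw2 * blk 1 sw2 = 1 := by
    rw [blk_mul, sw2_mul_self, Matrix.one_mul, blk_one]
  obtain ⟨A', hA'U, hA'⟩ := shape hK (A₁ * blk 1 sw2) (unitary_mul hK hA₁U hsU)
    (by rw [← Matrix.mulVec_mulVec, hs0, h11]) (by rw [← Matrix.mulVec_mulVec, hs1, h10])
  have hA₁' : A₁ = blk A' sw2 := by
    calc A₁ = A₁ * blk 1 sw2 * blk 1 sw2 := by rw [Matrix.mul_assoc, hss, Matrix.mul_one]
      _ = blk A' sw2 := by rw [hA', blk_mul, Matrix.mul_one, Matrix.one_mul]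
  have hA₁2 : A₁ * A₁ = 1 := by
    rw [hA₁]
    calc g * A * star' q g * (g * A * star' q g)
        = g * A * (star' q g * g) * A * star' q g := by noncomm_ring
      _ = g * (A * A) * star' q g := by rw [hgs]; noncomm_ring
      _ = 1 := by rw [hA2, Matrix.mul_one, hsg]
  refine ⟨g, A', hg, hA'U, ?_, ?_⟩
  · rw [hA₁', blk_mul, sw2_mul_self] at hA₁2
    have h3 : blk (A' * A') (1 : Matrix (Fin 2) (Fin 2) K) = blk 1 1 := by rw [hA₁2, blk_one]
    exact (blk_injective h3).1
  · rw [← hA₁', hA₁, Matrix.mul_assoc, hgs, Matrix.mul_one]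

omit [Fintype K] in
theorem eq_one_of_rank (A : Matrix (Fin n) (Fin n) K) (h : (A - 1).rank = 0) : A = 1 := by
  have := Cfsg.Agent.Helper8.UJ.eq_zero_of_rank_eq_zero (A - 1) h
  exact sub_eq_zero.mp this

omit [Fintype K] in
/-- in dimension at most one there is no unitary involution in characteristic two -/
theorem small_dim [CharP K 2] (hn : n < 2) (A : Matrix (Fin n) (Fin n) K) (hA2 : A * A = 1) :
    A = 1 := by
  interval_cases n
  · exact Subsingleton.elim _ _
  · ext i j
    have hi : i = 0 := Subsingleton.elim _ _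
    have hj : j = 0 := Subsingleton.elim _ _
    subst hi hj
    have h1 := congrFun (congrFun hA2 0) 0
    rw [Matrix.mul_apply, Fin.sum_univ_one, Matrix.one_apply_eq] at h1
    rw [Matrix.one_apply_eq]
    have h2 : (A 0 0 + 1) * (A 0 0 + 1) = 0 := by
      have h3 := CharTwo.add_self_eq_zero (A 0 0)
      have h4 := CharTwo.add_self_eq_zero (1 : K)
      linear_combination h1 + h3 + h4
    have h5 : A 0 0 + 1 = 0 := by
      rcases mul_eq_zero.mp h2 with h | h <;> exact h
    have h6 : A 0 0 = -1 := by linear_combination h5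
    rw [h6, CharTwo.neg_eq]

/-- unitary involutions with the same rank of `a - 1` are conjugate under a unitary matrix -/
theorem conj_all [CharP K 2] (hK : Fintype.card K = q ^ 2) : ∀ (n : ℕ)
    (A B : Matrix (Fin n) (Fin n) K), Aᵀ * A.map (· ^ q) = 1 → A * A = 1 →
    Bᵀ * B.map (· ^ q) = 1 → B * B = 1 → (A - 1).rank = (B - 1).rank →
    ∃ g : Matrix (Fin n) (Fin n) K, gᵀ * g.map (· ^ q) = 1 ∧ g * A = B * g := by
  intro n
  induction n using Nat.strong_induction_on with
  | _ n ih =>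
    intro A B hAU hA2 hBU hB2 hr
    by_cases hA : A = 1
    · have hB : B = 1 := by
        apply eq_one_of_rank
        rw [← hr, hA, sub_self, Matrix.rank_zero]
      refine ⟨1, ?_, by rw [hA, hB]⟩
      rw [map_one_q hK, Matrix.transpose_one, Matrix.one_mul]
    have hB : B ≠ 1 := by
      intro hB
      apply hA
      apply eq_one_of_rank
      rw [hr, hB, sub_self, Matrix.rank_zero]
    have hn : 2 ≤ n := by
      by_contra hlt
      exact hA (small_dim (by omega) A hA2)
    obtain ⟨m, rfl⟩ : ∃ m, n = m + 2 := ⟨n - 2, by omega⟩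
    obtain ⟨gA, A', hgA, hA'U, hA'2, eA⟩ := peel hK A hAU hA2 hA
    obtain ⟨gB, B', hgB, hB'U, hB'2, eB⟩ := peel hK B hBU hB2 hB
    -- ranks
    have hAconj : A = star' q gA * blk A' sw2 * gA := by
      rw [Matrix.mul_assoc, ← eA, ← Matrix.mul_assoc, star_mul_self hgA, Matrix.one_mul]
    have hBconj : B = star' q gB * blk B' sw2 * gB := by
      rw [Matrix.mul_assoc, ← eB, ← Matrix.mul_assoc, star_mul_self hgB, Matrix.one_mul]
    have hrank : ∀ (g : Matrix (Fin (m + 2)) (Fin (m + 2)) K) (X : Matrix (Fin m) (Fin m) K),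
        gᵀ * g.map (· ^ q) = 1 →
        (star' q g * blk X sw2 * g - 1).rank = (X - 1).rank + ((sw2 : Matrix (Fin 2) (Fin 2) K) - 1).rank := by
      intro g X hg
      have hdet : IsUnit g.det :=
        IsUnit.of_mul_eq_one _ (by rw [mul_comm]; exact det_star_mul hg)
      have hdet' : IsUnit (star' q g).det := IsUnit.of_mul_eq_one _ (det_star_mul hg)
      have e : star' q g * blk X sw2 * g - 1 = star' q g * (blk X sw2 - 1) * g := by
        rw [Matrix.mul_sub, Matrix.sub_mul, Matrix.mul_one, star_mul_self hg]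
      rw [e, Matrix.rank_mul_eq_left_of_isUnit_det _ _ hdet,
        Matrix.rank_mul_eq_right_of_isUnit_det _ _ hdet', rank_blk_sub_one]
    have hr' : (A' - 1).rank = (B' - 1).rank := by
      rw [hAconj, hBconj, hrank gA A' hgA, hrank gB B' hgB] at hr
      exact Nat.add_right_cancel hr
    obtain ⟨g', hg', e'⟩ := ih m (by omega) A' B' hA'U hA'2 hB'U hB'2 hr'
    have hblkU : (blk g' (1 : Matrix (Fin 2) (Fin 2) K))ᵀ *
        (blk g' (1 : Matrix (Fin 2) (Fin 2) K)).map (· ^ q) = 1 := by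
      rw [blk_unitary_iff hK]
      refine ⟨hg', ?_⟩
      rw [map_one_q hK, Matrix.transpose_one, Matrix.one_mul]
    refine ⟨star' q gB * blk g' 1 * gA,
      unitary_mul hK (unitary_mul hK (star_unitary hK hgB) hblkU) hgA, ?_⟩
    have e2 : blk g' (1 : Matrix (Fin 2) (Fin 2) K) * blk A' sw2 = blk B' sw2 * blk g' 1 := by
      rw [blk_mul, blk_mul, e', Matrix.one_mul, Matrix.mul_one]
    calc star' q gB * blk g' 1 * gA * A = star' q gB * blk g' 1 * (gA * A) := by noncomm_ring
      _ = star' q gB * (blk g' 1 * blk A' sw2) * gA := by rw [eA]; noncomm_ring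
      _ = star' q gB * blk B' sw2 * gB * (star' q gB * blk g' 1 * gA) := by
          rw [e2]
          have := self_mul_star hgB
          calc star' q gB * (blk B' sw2 * blk g' 1) * gA
              = star' q gB * blk B' sw2 * 1 * blk g' 1 * gA := by noncomm_ring
            _ = star' q gB * blk B' sw2 * (gB * star' q gB) * blk g' 1 * gA := by rw [this]
            _ = _ := by noncomm_ring
      _ = B * (star' q gB * blk g' 1 * gA) := by rw [← hBconj]

theorem q_even [CharP K 2] (hK : Fintype.card K = q ^ 2) : Even q := by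
  obtain ⟨p, k, hp, hc, rfl⟩ := exists_char_pow hK
  have hp2 : p = 2 := CharP.eq K hc ‹CharP K 2›
  subst hp2
  have hq := two_le_q hK
  have hk : k ≠ 0 := by
    rintro rfl
    simp at hq
  exact (Nat.even_pow.mpr ⟨even_two, hk⟩)

/-- the centraliser of a unitary involution contains unitary matrices of every determinant -/
theorem exists_cent_det [CharP K 2] (hK : Fintype.card K = q ^ 2) (A : Matrix (Fin n) (Fin n) K)
    (hU : Aᵀ * A.map (· ^ q) = 1) (hA2 : A * A = 1) (hA : A ≠ 1) (δ : K) (hδ : δ * δ ^ q = 1) :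
    ∃ z : Matrix (Fin n) (Fin n) K, zᵀ * z.map (· ^ q) = 1 ∧ z * A = A * z ∧ z.det = δ := by
  have hn : 2 ≤ n := by
    by_contra hlt
    exact hA (small_dim (by omega) A hA2)
  obtain ⟨m, rfl⟩ : ∃ m, n = m + 2 := ⟨n - 2, by omega⟩
  obtain ⟨g, A', hg, hA'U, hA'2, eA⟩ := peel hK A hU hA2 hA
  obtain ⟨k, hk⟩ := q_even hK
  have hδ1 : δ ^ (q + 1) = 1 := by rw [pow_succ', hδ]
  set l := δ ^ (k + 1) with hl
  have hll : l * l = δ := by
    rw [hl, ← pow_add]
    have : k + 1 + (k + 1) = (q + 1) + 1 := by omega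
    rw [this, pow_succ, hδ1, one_mul]
  have hlq : l * l ^ q = 1 := by
    rw [← pow_succ', hl, ← pow_mul, mul_comm, pow_mul, hδ1, one_pow]
  have hz0U : (blk (1 : Matrix (Fin m) (Fin m) K) (l • (1 : Matrix (Fin 2) (Fin 2) K)))ᵀ *
      (blk (1 : Matrix (Fin m) (Fin m) K) (l • (1 : Matrix (Fin 2) (Fin 2) K))).map (· ^ q) = 1 := by
    rw [blk_unitary_iff hK]
    refine ⟨?_, smul_one_unitary hK hlq⟩
    rw [map_one_q hK, Matrix.transpose_one, Matrix.one_mul]
  have hAconj : A = star' q g * blk A' sw2 * g := by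
    rw [Matrix.mul_assoc, ← eA, ← Matrix.mul_assoc, star_mul_self hg, Matrix.one_mul]
  have hcomm : blk (1 : Matrix (Fin m) (Fin m) K) (l • (1 : Matrix (Fin 2) (Fin 2) K)) * blk A' sw2 =
      blk A' sw2 * blk 1 (l • 1) := by
    rw [blk_mul, blk_mul]
    simp
  refine ⟨star' q g * blk 1 (l • 1) * g,
    unitary_mul hK (unitary_mul hK (star_unitary hK hg) hz0U) hg, ?_, ?_⟩
  · have hsg := self_mul_star hg
    rw [hAconj]
    calc star' q g * blk 1 (l • 1) * g * (star' q g * blk A' sw2 * g)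
        = star' q g * blk 1 (l • 1) * (g * star' q g) * blk A' sw2 * g := by noncomm_ring
      _ = star' q g * (blk 1 (l • 1) * blk A' sw2) * g := by rw [hsg]; noncomm_ring
      _ = star' q g * blk A' sw2 * (g * star' q g) * blk 1 (l • 1) * g := by
          rw [hcomm, hsg]; noncomm_ring
      _ = _ := by noncomm_ring
  · rw [Matrix.det_mul, Matrix.det_mul, mul_comm (star' q g).det, mul_assoc,
      det_star_mul hg, mul_one, det_blk, Matrix.det_one, one_mul, Matrix.det_smul, Matrix.det_one,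
      Fintype.card_fin, mul_one, pow_two, hll]

end Cfsg.Agent.Helper8.SUEven
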