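import Mathlib
import Cfsg.Agent.Helper8.StdForms
import Cfsg.Agent.Helper8.ReflMatrix

set_option autoImplicit false

/-!
The Klein correspondence: the action of `SL₄(F)` on the alternating `4 × 4` matrices by
`N ↦ g N gᵀ`, in the coordinates of the quadratic form `x₀ y₀ + x₁ y₁ + x₂ y₂ = Pf`.
-/

namespace Cfsg.Agent.Helper8.SL4Klein

open Matrix Cfsg Cfsg.Agent.Helper8.StdForms Cfsg.Agent.Helper8.OrthOrder
  Cfsg.Agent.Helper8.ReflMatrix

variable {F : Type*} [Field F]

/-- the index type of the six-dimensional space. -/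
abbrev I6 := Fin 3 ⊕ Fin 3

/-- coordinates to alternating matrices. -/
def toMat : (I6 → F) →ₗ[F] Matrix (Fin 4) (Fin 4) F where
  toFun v := !![0, v (.inl 0), v (.inl 1), v (.inl 2);
    -v (.inl 0), 0, v (.inr 2), -v (.inr 1);
    -v (.inl 1), -v (.inr 2), 0, v (.inr 0);
    -v (.inl 2), v (.inr 1), -v (.inr 0), 0]
  map_add' u v := by
    ext i j
    fin_cases i <;> fin_cases j <;> simp [add_comm]
  map_smul' c v := by
    ext i j
    fin_cases i <;> fin_cases j <;> simp

theorem toMat_apply (v : I6 → F) :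
    toMat v = !![0, v (.inl 0), v (.inl 1), v (.inl 2);
    -v (.inl 0), 0, v (.inr 2), -v (.inr 1);
    -v (.inl 1), -v (.inr 2), 0, v (.inr 0);
    -v (.inl 2), v (.inr 1), -v (.inr 0), 0] := rfl

/-- matrices to coordinates. -/
def fromMat : Matrix (Fin 4) (Fin 4) F →ₗ[F] (I6 → F) where
  toFun N := Sum.elim ![N 0 1, N 0 2, N 0 3] ![N 2 3, -N 1 3, N 1 2]
  map_add' M N := by
    funext i
    rcases i with i | i <;> fin_cases i <;> simp [add_comm]
  map_smul' c N := by
    funext i
    rcases i with i | i <;> fin_cases i <;> simp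

theorem fromMat_toMat (v : I6 → F) : fromMat (toMat v) = v := by
  funext i
  rcases i with i | i <;> fin_cases i <;> simp [fromMat, toMat]

theorem toMat_injective : Function.Injective (toMat (F := F)) := by
  intro u v h
  rw [← fromMat_toMat u, h, fromMat_toMat]

/-- alternating matrices. -/
def IsAlt (N : Matrix (Fin 4) (Fin 4) F) : Prop := (∀ i, N i i = 0) ∧ ∀ i j, N j i = -N i j

theorem toMat_fromMat {N : Matrix (Fin 4) (Fin 4) F} (hN : IsAlt N) : toMat (fromMat N) = N := by
  obtain ⟨h1, h2⟩ := hN
  ext i j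
  fin_cases i <;> fin_cases j <;> simp [fromMat, toMat, h1] <;>
    first
    | exact (h2 _ _).symm
    | exact h2 _ _

theorem isAlt_toMat (v : I6 → F) : IsAlt (toMat v) := by
  constructor
  · intro i
    fin_cases i <;> simp [toMat]
  · intro i j
    fin_cases i <;> fin_cases j <;> simp [toMat]

/-- the Pfaffian. -/
def pf (A : Matrix (Fin 4) (Fin 4) F) : F := A 0 1 * A 2 3 - A 0 2 * A 1 3 + A 0 3 * A 1 2

set_option maxHeartbeats 4000000 in
theorem pf_conj (g : Matrix (Fin 4) (Fin 4) F) (v : I6 → F) :
    pf (g * toMat v * gᵀ) = g.det * pf (toMat v) := by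
  rw [Matrix.det_succ_row_zero]
  simp only [Fin.sum_univ_succ, Matrix.det_fin_three, pf, toMat_apply, Matrix.mul_apply,
    Matrix.transpose_apply]
  simp [Fin.succAbove, Matrix.submatrix_apply]
  ring

theorem isAlt_conj (g : Matrix (Fin 4) (Fin 4) F) (v : I6 → F) : IsAlt (g * toMat v * gᵀ) := by
  constructor
  · intro i
    simp only [Matrix.mul_apply, Fin.sum_univ_four, toMat_apply, Matrix.transpose_apply]
    simp
    ring
  · intro i j
    simp only [Matrix.mul_apply, Fin.sum_univ_four, toMat_apply, Matrix.transpose_apply]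
    simp
    ring

theorem quadFormPlus_eq (v : I6 → F) : Cfsg.quadFormPlus 3 F v = pf (toMat v) := by
  unfold Cfsg.quadFormPlus pf
  rw [Fin.sum_univ_three, toMat_apply]
  simp

/-- the action `N ↦ g N gᵀ`. -/
def act (g : SpecialLinearGroup (Fin 4) F) (N : Matrix (Fin 4) (Fin 4) F) :
    Matrix (Fin 4) (Fin 4) F :=
  g.1 * N * g.1ᵀ

theorem isAlt_act (g : SpecialLinearGroup (Fin 4) F) (v : I6 → F) : IsAlt (act g (toMat v)) :=
  isAlt_conj g.1 v

theorem pf_act (g : SpecialLinearGroup (Fin 4) F) (v : I6 → F) :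
    pf (act g (toMat v)) = pf (toMat v) := by
  unfold act
  rw [pf_conj, g.2, one_mul]

theorem act_mul (g h : SpecialLinearGroup (Fin 4) F) (N : Matrix (Fin 4) (Fin 4) F) :
    act (g * h) N = act g (act h N) := by
  unfold act
  show g.1 * h.1 * N * (g.1 * h.1)ᵀ = _
  rw [Matrix.transpose_mul]
  simp only [Matrix.mul_assoc]

theorem act_one (N : Matrix (Fin 4) (Fin 4) F) : act (1 : SpecialLinearGroup (Fin 4) F) N = N := by
  unfold act
  show (1 : Matrix (Fin 4) (Fin 4) F) * N * (1 : Matrix (Fin 4) (Fin 4) F)ᵀ = N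
  rw [Matrix.transpose_one, Matrix.one_mul, Matrix.mul_one]

/-- the action on coordinates. -/
def L (g : SpecialLinearGroup (Fin 4) F) : (I6 → F) →ₗ[F] (I6 → F) where
  toFun v := fromMat (act g (toMat v))
  map_add' u v := by
    unfold act
    rw [map_add, Matrix.mul_add, Matrix.add_mul, map_add]
  map_smul' c v := by
    unfold act
    rw [map_smul, Matrix.mul_smul, Matrix.smul_mul, map_smul]
    rfl

theorem L_apply (g : SpecialLinearGroup (Fin 4) F) (v : I6 → F) :
    L g v = fromMat (act g (toMat v)) := rfl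

theorem toMat_L (g : SpecialLinearGroup (Fin 4) F) (v : I6 → F) :
    toMat (L g v) = act g (toMat v) := by
  rw [L_apply, toMat_fromMat (isAlt_act g v)]

theorem L_mul (g h : SpecialLinearGroup (Fin 4) F) (v : I6 → F) : L (g * h) v = L g (L h v) := by
  apply toMat_injective
  rw [toMat_L, toMat_L, toMat_L, act_mul]

theorem L_one (v : I6 → F) : L (1 : SpecialLinearGroup (Fin 4) F) v = v := by
  apply toMat_injective
  rw [toMat_L, act_one]

theorem quadFormPlus_L (g : SpecialLinearGroup (Fin 4) F) (v : I6 → F) :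
    Cfsg.quadFormPlus 3 F (L g v) = Cfsg.quadFormPlus 3 F v := by
  rw [quadFormPlus_eq, quadFormPlus_eq, toMat_L, pf_act]

/-- the action as a linear equivalence. -/
def Lequiv (g : SpecialLinearGroup (Fin 4) F) : (I6 → F) ≃ₗ[F] (I6 → F) :=
  LinearEquiv.ofLinear (L g) (L g⁻¹)
    (LinearMap.ext fun v => by
      rw [LinearMap.comp_apply, ← L_mul, mul_inv_cancel, L_one]
      rfl)
    (LinearMap.ext fun v => by
      rw [LinearMap.comp_apply, ← L_mul, inv_mul_cancel, L_one]
      rfl)

theorem Lequiv_apply (g : SpecialLinearGroup (Fin 4) F) (v : I6 → F) : Lequiv g v = L g v := rfl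

/-- the homomorphism to the isometries of the form `x₀ y₀ + x₁ y₁ + x₂ y₂`. -/
noncomputable def rhoIsom : SpecialLinearGroup (Fin 4) F →* ↥(Isom (plusForm F 3)) where
  toFun g := ⟨Lequiv g, fun v => by
    rw [Lequiv_apply, plusForm_apply, plusForm_apply, quadFormPlus_L]⟩
  map_one' := by
    apply Subtype.ext
    apply LinearEquiv.ext
    intro v
    exact L_one v
  map_mul' g h := by
    apply Subtype.ext
    apply LinearEquiv.ext
    intro v
    exact L_mul g h v

theorem rhoIsom_apply (g : SpecialLinearGroup (Fin 4) F) (v : I6 → F) :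
    (rhoIsom g).1 v = L g v := rfl

/-- the homomorphism to the matrix isometry group. -/
noncomputable def rho : SpecialLinearGroup (Fin 4) F →* ↥(Cfsg.isometryGroup F ⇑(plusForm F 3)) :=
  (isomEquiv (plusForm F 3)).symm.toMonoidHom.comp rhoIsom

theorem isomEquiv_rho (g : SpecialLinearGroup (Fin 4) F) :
    isomEquiv (plusForm F 3) (rho g) = rhoIsom g := by
  unfold rho
  rw [MonoidHom.comp_apply]
  exact MulEquiv.apply_symm_apply _ _

theorem rho_eq_one_iff (g : SpecialLinearGroup (Fin 4) F) :
    rho g = 1 ↔ ∀ N : Matrix (Fin 4) (Fin 4) F, IsAlt N → act g N = N := by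
  constructor
  · intro h N hN
    have := isomEquiv_rho g
    rw [h, map_one] at this
    have h1 : L g (fromMat N) = fromMat N := by
      rw [← rhoIsom_apply, ← this]
      rfl
    have h2 := congrArg toMat h1
    rwa [toMat_L, toMat_fromMat hN] at h2
  · intro h
    apply (isomEquiv (plusForm F 3)).injective
    rw [isomEquiv_rho, map_one]
    apply Subtype.ext
    apply LinearEquiv.ext
    intro v
    show L g v = v
    apply toMat_injective
    rw [toMat_L, h _ (isAlt_toMat v)]

/-- the elementary alternating matrices. -/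
def wedge (i j : Fin 4) : Matrix (Fin 4) (Fin 4) F :=
  fun k l => (if k = i then 1 else 0) * (if l = j then 1 else 0)
    - (if k = j then 1 else 0) * (if l = i then 1 else 0)

theorem isAlt_wedge (i j : Fin 4) : IsAlt (wedge (F := F) i j) := by
  constructor
  · intro k
    unfold wedge
    ring
  · intro k l
    unfold wedge
    ring

theorem wedge_apply (i j k l : Fin 4) :
    wedge (F := F) i j k l = (if k = i then 1 else 0) * (if l = j then 1 else 0)
    - (if k = j then 1 else 0) * (if l = i then 1 else 0) := rfl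

theorem act_wedge (g : SpecialLinearGroup (Fin 4) F) (i j k l : Fin 4) :
    act g (wedge i j) k l = g.1 k i * g.1 l j - g.1 k j * g.1 l i := by
  have h1 : ∀ (A : Matrix (Fin 4) (Fin 4) F),
      (g.1 * A * g.1ᵀ) k l = ∑ a, ∑ b, g.1 k a * A a b * g.1 l b := by
    intro A
    simp only [Matrix.mul_apply, Matrix.transpose_apply, Finset.sum_mul]
    exact Finset.sum_comm
  unfold act
  rw [h1]
  simp only [wedge_apply, mul_sub, sub_mul, Finset.sum_sub_distrib]
  congr 1
  · simp [mul_ite, ite_mul, Finset.sum_ite_eq', Finset.sum_ite_eq]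
  · simp [mul_ite, ite_mul, Finset.sum_ite_eq', Finset.sum_ite_eq]

/-- the kernel consists of the scalars `±1`. -/
theorem rho_eq_one_iff' (g : SpecialLinearGroup (Fin 4) F) :
    rho g = 1 ↔ ∃ r : F, r ^ 2 = 1 ∧ Matrix.scalar (Fin 4) r = g.1 := by
  rw [rho_eq_one_iff]
  constructor
  · intro h
    have key : ∀ i j k l : Fin 4, g.1 k i * g.1 l j - g.1 k j * g.1 l i
        = (if k = i then 1 else 0) * (if l = j then 1 else 0)
          - (if k = j then 1 else 0) * (if l = i then 1 else 0) := by
      intro i j k l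
      rw [← act_wedge, h _ (isAlt_wedge i j)]
      rfl
    have hpick : ∀ i k : Fin 4, ∃ j, j ≠ i ∧ j ≠ k := by decide
    have hoff : ∀ i k : Fin 4, k ≠ i → g.1 k i = 0 := by
      intro i k hki
      obtain ⟨j, hji, hjk⟩ := hpick i k
      have eq1 := key i j k i
      have eq2 := key i j k j
      have eq3 := key i j i j
      rw [if_neg hki, if_neg hjk.symm] at eq1
      rw [if_neg hki, if_neg hjk.symm] at eq2
      rw [if_pos rfl, if_pos rfl, if_neg hji.symm] at eq3
      linear_combination -(g.1 k i) * eq3 + (g.1 i i) * eq2 - (g.1 j i) * eq1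
    have hdiag : ∀ i j : Fin 4, i ≠ j → g.1 i i * g.1 j j = 1 := by
      intro i j hij
      have eq3 := key i j i j
      rw [if_pos rfl, if_pos rfl, if_neg hij, hoff i j hij.symm] at eq3
      linear_combination eq3
    have hall : ∀ i : Fin 4, g.1 i i = g.1 0 0 := by
      intro i
      by_cases hi : i = 0
      · rw [hi]
      · obtain ⟨k, hki, hk0⟩ := hpick i 0
        have e1 := hdiag i k hki.symm
        have e2 := hdiag 0 k hk0.symm
        have hk : g.1 k k ≠ 0 := by
          intro h0
          rw [h0, mul_zero] at e1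
          exact zero_ne_one e1
        have : (g.1 i i - g.1 0 0) * g.1 k k = 0 := by linear_combination e1 - e2
        rcases mul_eq_zero.mp this with h | h
        · exact sub_eq_zero.mp h
        · exact absurd h hk
    refine ⟨g.1 0 0, ?_, ?_⟩
    · have := hdiag 0 1 (by decide)
      rw [hall 1] at this
      rw [pow_two]
      exact this
    · ext i j
      by_cases hij : i = j
      · subst hij
        simp [hall i]
      · simp [Matrix.scalar_apply, Matrix.diagonal_apply, hij, hoff j i hij]
  · rintro ⟨r, hr, hr'⟩ N _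
    unfold act
    have hg : g.1 = r • (1 : Matrix (Fin 4) (Fin 4) F) := by
      rw [← hr']
      ext i j
      simp [Matrix.scalar_apply, Matrix.diagonal_apply, Matrix.one_apply]
    rw [hg, Matrix.transpose_smul, Matrix.transpose_one, Matrix.smul_mul, Matrix.one_mul,
      Matrix.mul_smul, Matrix.mul_one, smul_smul, ← pow_two, hr, one_smul]

end Cfsg.Agent.Helper8.SL4Klein
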