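import Mathlib
import Cfsg.Agent.Helper8.HermRegC
set_option autoImplicit false
set_option linter.unusedSectionVars false

/-! The unitary Cayley transform, regular unipotent unitary matrices in every characteristic,
and the number of totally isotropic `m`-spaces modulo the characteristic (helper8). -/

namespace Cfsg.Agent.Helper8.HermReg

open Matrix Module Cfsg Cfsg.Agent.Helper7.Herm Cfsg.Agent.Helper8.GUOrder Cfsg.Agent.Helper8.AutSU
  Cfsg.Agent.Helper7.SUNd Cfsg.Agent.Helper8.SURoot Cfsg.Agent.Helper7.Ex27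
  Cfsg.Agent.Helper8.HermTwo Cfsg.Agent.Helper7.SpUn Cfsg.Agent.Helper8.UJ
  Cfsg.Agent.Helper7.POrd Cfsg.Agent.Helper8.SpU Cfsg.Agent.Helper8.HermUni Cfsg.Agent.Helper7.Pol

variable {F : Type*} [Field F] [Fintype F] {q : ℕ} [hF : Fact (Fintype.card F = q ^ 2)]

section gen
variable {ι : Type*} [Fintype ι] [DecidableEq ι]

theorem mapMatrix_smul (c : F) (M : Matrix ι ι F) :
    (frobq F q).mapMatrix (c • M) = (c ^ q) • (frobq F q).mapMatrix M := by
  ext i j
  rw [RingHom.mapMatrix_apply, Matrix.map_apply, Matrix.smul_apply, Matrix.smul_apply,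
    RingHom.mapMatrix_apply, Matrix.map_apply, smul_eq_mul, smul_eq_mul, map_mul, frobq_apply]

/-- **the unitary Cayley transform** of a nilpotent matrix which is skew-adjoint for `G` and
fixed by the Frobenius map. -/
theorem ucayley (G T : Matrix ι ι F) (n : ℕ) (hT : T ^ n = 0) (hskew : Tᵀ * G + G * T = 0)
    (hσT : (frobq F q).mapMatrix T = T) (a : F) :
    ∃ U V : Matrix ι ι F, Uᵀ * G * (frobq F q).mapMatrix U = G ∧
      U - 1 = T * ((a + a ^ q) • V) ∧ Commute T V ∧ V * (1 - a ^ q • T) = 1 ∧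
      (1 - a ^ q • T) * V = 1 := by
  obtain ⟨S, hS⟩ : ∃ S : Matrix ι ι F, S = a ^ q • T := ⟨_, rfl⟩
  have hSn : S ^ n = 0 := by rw [hS, smul_pow, hT, smul_zero]
  set V : Matrix ι ι F := ∑ i ∈ Finset.range n, S ^ i with hV
  have e1 : (1 - S) * V = 1 := by rw [hV, mul_neg_geom_sum, hSn, sub_zero]
  have e2 : V * (1 - S) = 1 := by rw [hV, geom_sum_mul_neg, hSn, sub_zero]
  have cTS : Commute T S := by
    rw [hS]
    exact (Commute.refl T).smul_right _
  have cTV : Commute T V := by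
    rw [hV]
    exact Commute.sum_right _ _ _ (fun i _ => cTS.pow_right i)
  obtain ⟨X, hX⟩ : ∃ X : Matrix ι ι F, X = 1 - a • T := ⟨_, rfl⟩
  obtain ⟨Y, hY⟩ : ∃ Y : Matrix ι ι F, Y = 1 + a ^ q • T := ⟨_, rfl⟩
  have hTG : Tᵀ * G = -(G * T) := eq_neg_of_add_eq_zero_left hskew
  -- the Frobenius image of `V` inverts `X`
  have hσS : (frobq F q).mapMatrix S = a • T := by
    rw [hS, mapMatrix_smul, hσT, bb]
  have hXV : X * (frobq F q).mapMatrix V = 1 := by
    have := congrArg (frobq F q).mapMatrix e1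
    rw [map_mul, map_sub, map_one, hσS] at this
    rw [hX]
    exact this
  -- the transpose of `V`
  have hVG : Vᵀ * G * Y = G := by
    have h1 : Vᵀ * (1 - Sᵀ) = 1 := by
      have := congrArg Matrix.transpose e1
      rw [Matrix.transpose_mul, Matrix.transpose_sub, Matrix.transpose_one] at this
      exact this
    have h3 : (1 - Sᵀ) * G = G * Y := by
      rw [hS, hY, Matrix.transpose_smul, Matrix.sub_mul, Matrix.one_mul, Matrix.smul_mul, hTG,
        Matrix.mul_add, Matrix.mul_one, Matrix.mul_smul]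
      rw [smul_neg, sub_neg_eq_add]
    rw [Matrix.mul_assoc, ← h3, ← Matrix.mul_assoc, h1, Matrix.one_mul]
  have hAG : (1 + a • T)ᵀ * G = G * X := by
    rw [hX, Matrix.transpose_add, Matrix.transpose_one, Matrix.transpose_smul, Matrix.add_mul,
      Matrix.one_mul, Matrix.smul_mul, hTG, Matrix.mul_sub, Matrix.mul_one, Matrix.mul_smul,
      smul_neg, sub_eq_add_neg]
  have cXY : X * Y = Y * X := by
    rw [hX, hY]
    have h1 : Commute (a • T) (a ^ q • T) :=
      ((Commute.refl T).smul_right _).smul_left _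
    have h2 : Commute (a • T) (1 + a ^ q • T) := (Commute.one_right _).add_right h1
    have h3 : Commute (1 - a • T) (1 + a ^ q • T) := (Commute.one_left _).sub_left h2
    exact h3.eq
  refine ⟨(1 + a • T) * V, V, ?_, ?_, cTV, by rw [← hS]; exact e2, by rw [← hS]; exact e1⟩
  · have hσU : (frobq F q).mapMatrix ((1 + a • T) * V) = Y * (frobq F q).mapMatrix V := by
      rw [map_mul, map_add, map_one, mapMatrix_smul, hσT, hY]
    rw [hσU, Matrix.transpose_mul]
    calc Vᵀ * (1 + a • T)ᵀ * G * (Y * (frobq F q).mapMatrix V)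
        = Vᵀ * ((1 + a • T)ᵀ * G) * Y * (frobq F q).mapMatrix V := by
          simp only [Matrix.mul_assoc]
      _ = Vᵀ * G * (X * Y) * (frobq F q).mapMatrix V := by
          rw [hAG]
          simp only [Matrix.mul_assoc]
      _ = (Vᵀ * G * Y) * (X * (frobq F q).mapMatrix V) := by
          rw [cXY]
          simp only [Matrix.mul_assoc]
      _ = G := by rw [hVG, hXV, Matrix.mul_one]
  · have h1 : (1 + a • T) * V - 1 = (1 + a • T) * V - (1 - S) * V := by rw [e1]
    rw [h1, ← Matrix.sub_mul, hS, Matrix.mul_smul, ← Matrix.smul_mul]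
    congr 1
    rw [add_smul]
    abel

end gen

/-- **a regular unipotent unitary matrix**, in every characteristic. -/
theorem exists_block_gen (k : ℕ) :
    ∃ A : Matrix (Fin k) (Fin k) F, Aᵀ * A.map (· ^ q) = 1 ∧ ∀ j, ((A - 1) ^ j).rank = k - j := by
  classical
  have hq0 : q ≠ 0 := by
    have := two_le_q hF.out
    omega
  obtain ⟨ε, hε0, hεq⟩ := exists_eps (F := F) (q := q) k
  obtain ⟨t, ht⟩ := exists_trace_one (F := F) (q := q)
  obtain ⟨G, hGdef⟩ : ∃ G : Matrix (Fin k) (Fin k) F, G = ε • Gs k := ⟨_, rfl⟩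
  have hG : ∀ i j, G j i = (G i j) ^ q := by
    intro i j
    rw [hGdef, Matrix.smul_apply, Matrix.smul_apply, smul_eq_mul, smul_eq_mul]
    simp only [Gs, Matrix.of_apply]
    by_cases h : (i : ℕ) + (j : ℕ) + 1 = k
    · rw [if_pos h, if_pos (by omega), mul_pow, hεq, ← pow_mul, mul_comm (i : ℕ) q, pow_mul,
        neg_one_pow_q hF.out]
      have h1 : (-1 : F) ^ (j : ℕ) = (-1) ^ (k + 1) * (-1) ^ (i : ℕ) := by
        rw [← pow_add]
        have : k + 1 + (i : ℕ) = (j : ℕ) + 2 * ((i : ℕ) + 1) := by omega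
        rw [this, pow_add, pow_mul]
        simp
      rw [h1]
      ring
    · rw [if_neg h, if_neg (by omega), mul_zero, zero_pow hq0]
  have hdet : G.det ≠ 0 := by
    apply Matrix.det_ne_zero_of_right_inverse (B := (ε⁻¹ * (-1) ^ (k + 1)) • Gs k)
    rw [hGdef, Matrix.smul_mul, Matrix.mul_smul, Gs_mul_Gs_gen, smul_smul, smul_smul]
    have : ε * (ε⁻¹ * (-1) ^ (k + 1)) * (-1) ^ (k + 1) = 1 := by
      rw [mul_assoc, mul_assoc, ← pow_add, ← two_mul, pow_mul]
      simp [hε0]
    rw [this, one_smul]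
  have hskew : (Zs (F := F) k)ᵀ * G + G * Zs k = 0 := by
    rw [hGdef, Matrix.mul_smul, Matrix.smul_mul, ← smul_add, Gs_skew, smul_zero]
  have hσT : (frobq F q).mapMatrix (Zs (F := F) k) = Zs k := by
    ext i j
    rw [RingHom.mapMatrix_apply, Matrix.map_apply, frobq_apply]
    simp only [Zs, Matrix.of_apply]
    split_ifs
    · exact one_pow q
    · exact zero_pow hq0
  obtain ⟨U, V, hU, hU1, cTV, e2, e1⟩ := ucayley G (Zs k) k (Zs_pow_self k) hskew hσT t
  rw [ht, one_smul] at hU1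
  obtain ⟨P, hP⟩ := exists_herm_factor_gen (q := q) G hG hdet
  have hdetP : P.det ≠ 0 := by
    intro h0
    apply hdet
    rw [← hP, Matrix.det_mul, Matrix.det_transpose, h0, zero_mul]
  have hPu : IsUnit P.det := isUnit_iff_ne_zero.mpr hdetP
  have hPQ : P * P⁻¹ = 1 := Matrix.mul_nonsing_inv P hPu
  have hQP : P⁻¹ * P = 1 := Matrix.nonsing_inv_mul P hPu
  refine ⟨P * U * P⁻¹, unitary_of_factor P P⁻¹ U G hP hPQ hU, fun j => ?_⟩
  have hA1 : P * U * P⁻¹ - 1 = P * (U - 1) * P⁻¹ := by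
    rw [Matrix.mul_sub, Matrix.sub_mul, Matrix.mul_one, hPQ]
  have hu : IsUnit V := ⟨⟨V, 1 - t ^ q • Zs k, e2, e1⟩, rfl⟩
  rw [hA1, rank_pow_conj P P⁻¹ (U - 1) hPQ hQP, hU1, rank_pow_mul_unit _ _ cTV hu, rank_Zs_pow]

variable {p : ℕ} [hp : Fact p.Prime] [CharP F p]

/-- **`p` does not divide the number of totally isotropic `m`-spaces** of the unitary
`n`-space, `2 m ≤ n`. -/
theorem not_dvd_card_ti' (n m : ℕ) (hmn : 2 * m ≤ n) :
    ¬ p ∣ Nat.card {W : Submodule F (Fin n → F) // finrank F ↥W = m ∧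
      (∀ u ∈ W, ∀ v ∈ W, hermForm n F q u v = 0)} := by
  obtain ⟨A, hA, hr⟩ := exists_block_gen (F := F) (q := q) n
  exact not_dvd_of_block hmn A hA hr

end Cfsg.Agent.Helper8.HermReg

namespace Cfsg.Agent.Helper8.HermReg

/-- **`p` does not divide the number of totally isotropic `m`-spaces** (statement form). -/
theorem not_dvd_card_ti {F : Type*} [Field F] [Fintype F] {p : ℕ} [Fact p.Prime] [CharP F p]
    {q : ℕ} (hq : Fintype.card F = q ^ 2) (n m : ℕ) (hmn : 2 * m ≤ n) :
    ¬ p ∣ Nat.card {W : Submodule F (Fin n → F) // Module.finrank F ↥W = m ∧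
      (∀ u ∈ W, ∀ v ∈ W, Cfsg.hermForm n F q u v = 0)} := by
  have : Fact (Fintype.card F = q ^ 2) := ⟨hq⟩
  exact not_dvd_card_ti' n m hmn

end Cfsg.Agent.Helper8.HermReg
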