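import Mathlib
import Cfsg.Agent.Helper8.HermRegD
import Cfsg.Agent.Helper7.UBlkH
import Cfsg.Agent.Helper7.SpTIN
set_option autoImplicit false
set_option linter.unusedSectionVars false

/-! Totally isotropic invariant subspaces of isometries of the unitary space: the Hermitian
Chevalley–Warning argument over the fixed field of the involution (helper8). -/

namespace Cfsg.Agent.Helper8.UTI

open Matrix Module Cfsg Cfsg.Agent.Helper7.Herm Cfsg.Agent.Helper8.GUOrder Cfsg.Agent.Helper8.AutSU
  Cfsg.Agent.Helper7.SUNd Cfsg.Agent.Helper8.SURoot Cfsg.Agent.Helper8.HermTwo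

variable {F : Type*} [Field F] [Fintype F] {q N : ℕ} [hF : Fact (Fintype.card F = q ^ 2)]

/-- the fixed field of the involution `a ↦ a ^ q` -/
def fixK (F : Type*) [Field F] [Fintype F] (q : ℕ) [hF : Fact (Fintype.card F = q ^ 2)] :
    Subfield F where
  carrier := {a | a ^ q = a}
  mul_mem' := by
    intro a b ha hb
    change (a * b) ^ q = a * b
    rw [mul_pow, ha, hb]
  one_mem' := one_pow q
  add_mem' := by
    intro a b ha hb
    change (a + b) ^ q = a + b
    rw [b_add, ha, hb]
  zero_mem' := b_zero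
  neg_mem' := by
    intro a ha
    change (-a) ^ q = -a
    rw [b_neg, ha]
  inv_mem' := by
    intro a ha
    change a⁻¹ ^ q = a⁻¹
    rw [inv_pow, ha]

theorem mem_fixK {a : F} : a ∈ fixK F q ↔ a ^ q = a := Iff.rfl

theorem two_le_finrank_fixK : 2 ≤ finrank ↥(fixK F q) F := by
  by_contra hcon
  have hpos : 0 < finrank ↥(fixK F q) F := Module.finrank_pos
  have h1 : finrank ↥(fixK F q) F = 1 := by omega
  obtain ⟨v, hv0, hv⟩ := finrank_eq_one_iff'.mp h1
  obtain ⟨a, ha⟩ := exists_not_fixed hF.out (K := F)
  apply ha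
  obtain ⟨c1, hc1⟩ := hv 1
  obtain ⟨ca, hca⟩ := hv a
  have hvK : v ∈ fixK F q := by
    have hc10 : (c1 : F) ≠ 0 := by
      intro h
      rw [Subfield.smul_def, h, zero_smul] at hc1
      exact zero_ne_one hc1
    have : v = (c1 : F)⁻¹ := by
      rw [Subfield.smul_def, smul_eq_mul] at hc1
      field_simp
      rw [mul_comm]
      exact hc1
    rw [this]
    exact (fixK F q).inv_mem c1.2
  have haK : a ∈ fixK F q := by
    rw [← hca, Subfield.smul_def, smul_eq_mul]
    exact (fixK F q).mul_mem ca.2 hvK
  exact haK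

/-- the trace to the fixed field -/
def trK (a : F) : ↥(fixK F q) := ⟨a + a ^ q, by rw [mem_fixK, b_add, bb, add_comm]⟩

theorem trK_val (a : F) : ((trK a : ↥(fixK F q)) : F) = a + a ^ q := rfl

theorem trK_add (a b : F) : (trK (a + b) : ↥(fixK F q)) = trK a + trK b := by
  apply Subtype.ext
  change (a + b) + (a + b) ^ q = (a + a ^ q) + (b + b ^ q)
  rw [b_add]
  ring

theorem trK_mul (x : ↥(fixK F q)) (a : F) : (trK ((x : F) * a) : ↥(fixK F q)) = x * trK a := by
  apply Subtype.ext
  change (x : F) * a + ((x : F) * a) ^ q = (x : F) * (a + a ^ q)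
  rw [mul_pow, mem_fixK.mp x.2]
  ring

/-- the bilinear form `(u, v) ↦ tr (c h(u, S v))` over the fixed field -/
noncomputable def trForm (U : Submodule F (Fin N → F)) (c : F) (S : Module.End F (Fin N → F)) :
    LinearMap.BilinForm ↥(fixK F q) ↥U :=
  LinearMap.mk₂ ↥(fixK F q)
    (fun u v => trK (c * hermForm N F q (u : Fin N → F) (S (v : Fin N → F))))
    (by
      intro u u' v
      rw [Submodule.coe_add, hermForm_add_left, mul_add, trK_add])
    (by
      intro x u v
      have h1 : ((x • u : ↥U) : Fin N → F) = (x : F) • (u : Fin N → F) := rfl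
      rw [h1, hermForm_smul_left, smul_eq_mul, ← trK_mul]
      congr 1
      ring)
    (by
      intro u v v'
      rw [Submodule.coe_add, map_add, h_add_right, mul_add, trK_add])
    (by
      intro x u v
      have h1 : ((x • v : ↥U) : Fin N → F) = (x : F) • (v : Fin N → F) := rfl
      rw [h1, map_smul, hermForm_smul_right, mem_fixK.mp x.2, smul_eq_mul, ← trK_mul]
      congr 1
      ring)

theorem trForm_apply (U : Submodule F (Fin N → F)) (c : F) (S : Module.End F (Fin N → F))
    (u v : ↥U) : (trForm (q := q) U c S u v : F) =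
      c * hermForm N F q (u : Fin N → F) (S (v : Fin N → F)) +
        (c * hermForm N F q (u : Fin N → F) (S (v : Fin N → F))) ^ q := rfl

/-- Chevalley–Warning for a finite family of bilinear forms indexed by a finite type -/
theorem exists_common_zero_fintype {K : Type*} [Field K] [Finite K] {U : Type*} [AddCommGroup U]
    [Module K U] [FiniteDimensional K U] {ι : Type*} [Fintype ι] (A : ι → LinearMap.BilinForm K U)
    (hdim : 2 * Fintype.card ι < finrank K U) : ∃ u : U, u ≠ 0 ∧ ∀ j, A j u u = 0 := by
  obtain ⟨u, hu0, hu⟩ := Cfsg.Agent.Helper7.SpTI.exists_common_zero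
    (fun k : Fin (Fintype.card ι) => A ((Fintype.equivFin ι).symm k)) hdim
  refine ⟨u, hu0, fun j => ?_⟩
  have := hu (Fintype.equivFin ι j)
  rw [Equiv.symm_apply_apply] at this
  exact this

/-- **Hermitian Chevalley–Warning**: in a subspace of dimension more than `2 e + 1` there is a
nonzero isotropic vector `u` orthogonal to `S_j u` for `e` given linear maps `S_j`. -/
theorem herm_exists_common_zero {U : Submodule F (Fin N → F)} {e : ℕ}
    (S : Fin e → Module.End F (Fin N → F)) (hdim : 2 * e + 1 < finrank F ↥U) :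
    ∃ u ∈ U, u ≠ 0 ∧ hermForm N F q u u = 0 ∧ ∀ j, hermForm N F q u (S j u) = 0 := by
  classical
  obtain ⟨t, ht⟩ := Cfsg.Agent.Helper8.HermReg.exists_trace_one (F := F) (q := q)
  obtain ⟨ω, hω⟩ := exists_not_fixed hF.out (K := F)
  have hfd : FiniteDimensional ↥(fixK F q) ↥U := Module.Finite.of_finite
  have hfin : Finite ↥(fixK F q) := inferInstance
  obtain ⟨A, hA⟩ : ∃ A : Unit ⊕ (Fin e × Bool) → LinearMap.BilinForm ↥(fixK F q) ↥U,
      A = fun i => match i with
        | Sum.inl _ => trForm U t 1
        | Sum.inr (j, false) => trForm U 1 (S j)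
        | Sum.inr (j, true) => trForm U ω (S j) := ⟨_, rfl⟩
  have hcard : Fintype.card (Unit ⊕ (Fin e × Bool)) = 2 * e + 1 := by
    rw [Fintype.card_sum, Fintype.card_prod, Fintype.card_unit, Fintype.card_fin, Fintype.card_bool]
    ring
  have hdimK : 2 * Fintype.card (Unit ⊕ (Fin e × Bool)) < finrank ↥(fixK F q) ↥U := by
    rw [hcard, ← Module.finrank_mul_finrank ↥(fixK F q) F ↥U]
    have h2 := two_le_finrank_fixK (F := F) (q := q)
    calc 2 * (2 * e + 1) < 2 * finrank F ↥U := by omega
      _ ≤ finrank ↥(fixK F q) F * finrank F ↥U := Nat.mul_le_mul_right _ h2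
  obtain ⟨u, hu0, hu⟩ := exists_common_zero_fintype A hdimK
  refine ⟨(u : Fin N → F), u.2, fun h => hu0 (Subtype.ext h), ?_, fun j => ?_⟩
  · have h1 := congrArg Subtype.val (hu (Sum.inl ()))
    rw [hA] at h1
    simp only at h1
    rw [trForm_apply, Module.End.one_apply, mul_pow, h_self_fixed] at h1
    have h3 : (t + t ^ q) * hermForm N F q (u : Fin N → F) (u : Fin N → F) = 0 := by
      rw [add_mul]
      exact h1
    rw [ht, one_mul] at h3
    exact h3
  · have h1 := congrArg Subtype.val (hu (Sum.inr (j, false)))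
    have h3 := congrArg Subtype.val (hu (Sum.inr (j, true)))
    rw [hA] at h1 h3
    simp only at h1 h3
    rw [trForm_apply, one_mul] at h1
    rw [trForm_apply, mul_pow] at h3
    have h1' : hermForm N F q (u : Fin N → F) (S j (u : Fin N → F)) +
        hermForm N F q (u : Fin N → F) (S j (u : Fin N → F)) ^ q = 0 := h1
    have h3' : ω * hermForm N F q (u : Fin N → F) (S j (u : Fin N → F)) +
        ω ^ q * hermForm N F q (u : Fin N → F) (S j (u : Fin N → F)) ^ q = 0 := h3
    have h4 : (ω - ω ^ q) * hermForm N F q (u : Fin N → F) (S j (u : Fin N → F)) = 0 := by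
      linear_combination h3' - ω ^ q * h1'
    rcases mul_eq_zero.mp h4 with h | h
    · exact absurd (sub_eq_zero.mp h).symm hω
    · exact h

end Cfsg.Agent.Helper8.UTI
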