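import Mathlib
import Cfsg.Agent.Helper8.UTIA
set_option autoImplicit false
set_option linter.unusedSectionVars false

/-! Totally isotropic invariant subspaces of isometries of the unitary space: the window
argument and totally isotropic cyclic subspaces (helper8). -/

namespace Cfsg.Agent.Helper8.UTI

open Matrix Module Polynomial Cfsg Cfsg.Agent.Helper7.Herm Cfsg.Agent.Helper8.GUOrder
  Cfsg.Agent.Helper8.AutSU Cfsg.Agent.Helper7.SUNd Cfsg.Agent.Helper8.SURoot
  Cfsg.Agent.Helper8.HermTwo Cfsg.Agent.Helper7.POrd Cfsg.Agent.Helper7.SpOrd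
  Cfsg.Agent.Helper7.UBlk

variable {F : Type*} [Field F] [Fintype F] {q N : ℕ} [hF : Fact (Fintype.card F = q ^ 2)]
  {T : Module.End F (Fin N → F)}

theorem herm_finset_sum_right {ι : Type*} (s : Finset ι) (f : ι → (Fin N → F)) (u : Fin N → F) :
    hermForm N F q u (∑ i ∈ s, f i) = ∑ i ∈ s, hermForm N F q u (f i) := by
  classical
  induction s using Finset.induction_on with
  | empty => rw [Finset.sum_empty, Finset.sum_empty, h_zero_right]
  | insert a s ha ih => rw [Finset.sum_insert ha, Finset.sum_insert ha, h_add_right, ih]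

/-- a span of pairwise orthogonal isotropic vectors is totally isotropic. -/
theorem tiso_span {S : Set (Fin N → F)} (h : ∀ a ∈ S, ∀ b ∈ S, hermForm N F q a b = 0) :
    TIso q (Submodule.span F S) := by
  intro x hx y hy
  have h1 : ∀ a ∈ S, hermForm N F q a y = 0 := by
    intro a ha
    refine Submodule.span_induction (p := fun v _ => hermForm N F q a v = 0) ?_ ?_ ?_ ?_ hy
    · intro b hb
      exact h a ha b hb
    · exact h_zero_right a
    · intro v w _ _ hv hw
      rw [h_add_right, hv, hw, add_zero]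
    · intro c v _ hv
      rw [hermForm_smul_right, hv, mul_zero]
  refine Submodule.span_induction (p := fun v _ => hermForm N F q v y = 0) ?_ ?_ ?_ ?_ hx
  · intro a ha
    exact h1 a ha
  · exact hermForm_zero_left y
  · intro v w _ _ hv hw
    rw [hermForm_add_left, hv, hw, add_zero]
  · intro c v _ hv
    rw [hermForm_smul_left, hv, mul_zero]

theorem tiso_bot : TIso q (⊥ : Submodule F (Fin N → F)) := by
  intro u hu v _
  rw [(Submodule.mem_bot F).mp hu, hermForm_zero_left]

theorem tiso_mono {L L' : Submodule F (Fin N → F)} (h : TIso q L) (hle : L' ≤ L) : TIso q L' :=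
  fun u hu v hv => h u (hle hu) v (hle hv)

/-- the sum of two orthogonal totally isotropic subspaces. -/
theorem tiso_sup {L₁ L₂ : Submodule F (Fin N → F)} (h₁ : TIso q L₁) (h₂ : TIso q L₂)
    (h12 : ∀ u ∈ L₁, ∀ v ∈ L₂, hermForm N F q u v = 0) : TIso q (L₁ ⊔ L₂) := by
  intro x hx y hy
  obtain ⟨x₁, hx₁, x₂, hx₂, rfl⟩ := Submodule.mem_sup.mp hx
  obtain ⟨y₁, hy₁, y₂, hy₂, rfl⟩ := Submodule.mem_sup.mp hy
  rw [hermForm_add_left, h_add_right, h_add_right, h₁ x₁ hx₁ y₁ hy₁, h₂ x₂ hx₂ y₂ hy₂,
    h12 x₁ hx₁ y₂ hy₂, h_eq_zero_of_swap (h12 y₁ hy₁ x₂ hx₂)]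
  ring

/-- shifting both arguments by a power of an isometry. -/
theorem uiso_shift (hiso : ∀ u v, hermForm N F q (T u) (T v) = hermForm N F q u v)
    (u : Fin N → F) (s s' : ℕ) :
    hermForm N F q ((T ^ s) u) ((T ^ (s + s')) u) = hermForm N F q u ((T ^ s') u) := by
  induction s with
  | zero => simp
  | succ s ih =>
    have h1 : s + 1 + s' = (s + s') + 1 := by ring
    rw [h1, pow_succ', pow_succ', Module.End.mul_apply, Module.End.mul_apply, hiso, ih]

/-- **the window argument**: if `g(T) u = 0` with `g` monic of degree at most `2e + 1`, and `u`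
is orthogonal to `T^j u` for `0 ≤ j ≤ e`, then `u` is orthogonal to all `T^j u`. -/
theorem forall_pow_isotropic (hiso : ∀ u v, hermForm N F q (T u) (T v) = hermForm N F q u v)
    {g : F[X]} (hg : g.Monic) {e : ℕ} (hdeg : g.natDegree ≤ 2 * e + 1) {u : Fin N → F}
    (hgu : aeval T g u = 0) (h : ∀ j, j ≤ e → hermForm N F q u ((T ^ j) u) = 0) :
    ∀ j, hermForm N F q u ((T ^ j) u) = 0 := by
  intro j
  induction j using Nat.strong_induction_on with
  | _ j ih =>
    by_cases hje : j ≤ e
    · exact h j hje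
    rw [not_le] at hje
    obtain ⟨D, hD⟩ : ∃ D, D = g.natDegree := ⟨_, rfl⟩
    have h0 : hermForm N F q ((T ^ D) u) ((T ^ j) (aeval T g u)) = 0 := by
      rw [hgu, map_zero, h_zero_right]
    rw [aeval_eq_sum_range, LinearMap.sum_apply, map_sum, herm_finset_sum_right, ← hD,
      Finset.sum_range_succ] at h0
    have hlast : hermForm N F q ((T ^ D) u) ((T ^ j) ((g.coeff D • T ^ D) u)) =
        hermForm N F q u ((T ^ j) u) := by
      rw [hD, coeff_natDegree, hg.leadingCoeff, one_smul, ← Module.End.mul_apply, ← pow_add,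
        add_comm j, uiso_shift hiso]
    have hrest : ∀ l ∈ Finset.range D,
        hermForm N F q ((T ^ D) u) ((T ^ j) ((g.coeff l • T ^ l) u)) = 0 := by
      intro l hl
      have hl' : l < D := Finset.mem_range.mp hl
      rw [LinearMap.smul_apply, map_smul, hermForm_smul_right, ← Module.End.mul_apply, ← pow_add]
      by_cases hc : D ≤ j + l
      · have h1 : j + l = D + (j + l - D) := by omega
        rw [h1, uiso_shift hiso, ih (j + l - D) (by omega), mul_zero]
      · rw [not_le] at hc
        have h1 : D = (j + l) + (D - (j + l)) := by omega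
        have h3 : hermForm N F q ((T ^ (j + l)) u) ((T ^ D) u) = 0 := by
          rw [h1, uiso_shift hiso]
          exact ih _ (by omega)
        rw [h_eq_zero_of_swap h3, mul_zero]
    rw [Finset.sum_eq_zero hrest, zero_add, hlast] at h0
    exact h0

/-- **key lemma**: an invariant subspace killed by an irreducible polynomial `g` of degree at
most `2e + 1`, of dimension more than `2e + 1`, contains a totally isotropic invariant subspace
of dimension `deg g`. -/
theorem exists_ti_irred (hiso : ∀ u v, hermForm N F q (T u) (T v) = hermForm N F q u v)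
    {g : F[X]} (hg : Irreducible g) (hgm : g.Monic) {e : ℕ} (hdeg : g.natDegree ≤ 2 * e + 1)
    {U : Submodule F (Fin N → F)} (hU : U ∈ Module.End.invtSubmodule T)
    (hUg : ∀ u ∈ U, aeval T g u = 0) (hdim : 2 * e + 1 < finrank F ↥U) :
    ∃ L : Submodule F (Fin N → F), L ≤ U ∧ L ∈ Module.End.invtSubmodule T ∧ TIso q L ∧
      finrank F ↥L = g.natDegree := by
  obtain ⟨u, huU, hu0, huu, hu⟩ := herm_exists_common_zero (q := q) (U := U)
    (fun j : Fin e => T ^ ((j : ℕ) + 1)) hdim
  have hgu : aeval T g u = 0 := hUg _ huU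
  have h1 : ∀ j, j ≤ e → hermForm N F q u ((T ^ j) u) = 0 := by
    intro j hje
    rcases Nat.eq_zero_or_pos j with rfl | hj
    · rw [pow_zero, Module.End.one_apply]
      exact huu
    · have := hu ⟨j - 1, by omega⟩
      simp only at this
      rw [show j - 1 + 1 = j by omega] at this
      exact this
  have hall := forall_pow_isotropic hiso hgm hdeg hgu h1
  refine ⟨cyc T u g.natDegree, cyc_le hU huU _, cyc_invt T _ g hg.ne_zero hgu, ?_,
    Cfsg.Agent.Helper7.SpTI.finrank_cyc_of_irred hg hgu hu0⟩
  unfold cyc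
  apply tiso_span
  rintro _ ⟨s, rfl⟩ _ ⟨s', rfl⟩
  rcases le_total (s : ℕ) (s' : ℕ) with hss | hss
  · obtain ⟨k, hk⟩ := Nat.exists_eq_add_of_le hss
    simp only
    rw [hk, uiso_shift hiso, hall]
  · obtain ⟨k, hk⟩ := Nat.exists_eq_add_of_le hss
    simp only
    apply h_eq_zero_of_swap
    rw [hk, uiso_shift hiso, hall]

end Cfsg.Agent.Helper8.UTI
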