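import Mathlib
import Cfsg.Agent.Helper8.UTIB
set_option autoImplicit false
set_option linter.unusedSectionVars false

/-! Totally isotropic invariant subspaces of isometries of the unitary space: hyperbolic
splitting, ladders, and the moved space of an isometry of odd prime order (helper8). -/

namespace Cfsg.Agent.Helper8.UTI

open Matrix Module Polynomial Cfsg Cfsg.Agent.Helper7.Herm Cfsg.Agent.Helper8.GUOrder
  Cfsg.Agent.Helper8.AutSU Cfsg.Agent.Helper7.SUNd Cfsg.Agent.Helper8.SURoot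
  Cfsg.Agent.Helper8.HermTwo Cfsg.Agent.Helper7.POrd Cfsg.Agent.Helper7.SpOrd
  Cfsg.Agent.Helper7.UBlk

variable {F : Type*} [Field F] [Fintype F] {q N : ℕ} [hF : Fact (Fintype.card F = q ^ 2)]
  {T : Module.End F (Fin N → F)}

theorem hperp_le {L M : Submodule F (Fin N → F)} (hLM : L ≤ M) : hperp q M ≤ hperp q L :=
  fun _ hx w hw => hx w (hLM hw)

/-- the dimension of a relative orthogonal complement inside a nondegenerate subspace. -/
theorem finrank_perpIn_gen {L M : Submodule F (Fin N → F)} (hM : NDeg q M) (hLM : L ≤ M) :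
    finrank F ↥L + finrank F ↥(perpIn q M L) = finrank F ↥M := by
  have h1 := finrank_hperp (q := q) L
  have h2 := finrank_hperp (q := q) M
  have hsup : hperp q M ⊔ perpIn q M L = hperp q L := by
    apply le_antisymm
    · apply sup_le (hperp_le hLM)
      intro x hx
      exact hx.2
    · intro x hx
      obtain ⟨w, hw, hpw⟩ := exists_proj hM x
      have hxw : x - w ∈ hperp q M := hpw
      have h3 : x = (x - w) + w := by abel
      rw [h3]
      refine Submodule.add_mem_sup hxw ⟨hw, ?_⟩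
      have h4 : w = x - (x - w) := by abel
      rw [h4]
      exact ((hperp q L).sub_mem hx (hperp_le hLM hxw))
  have hdisj : hperp q M ⊓ perpIn q M L = ⊥ := by
    rw [eq_bot_iff]
    rintro x ⟨hx1, hx2⟩
    rw [Submodule.mem_bot]
    by_contra hx0
    obtain ⟨y, hy, hne⟩ := hM x hx2.1 hx0
    exact hne (hx1 y hy)
  have h3 := Submodule.finrank_sup_add_finrank_inf_eq (hperp q M) (perpIn q M L)
  rw [hsup, hdisj, finrank_bot, add_zero] at h3
  omega

/-- **hyperbolic splitting**: a totally isotropic invariant subspace of a nondegenerate invariant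
subspace lies in a nondegenerate invariant subspace of twice the dimension. -/
theorem exists_hyp (hiso : ∀ u v, hermForm N F q (T u) (T v) = hermForm N F q u v) {n : ℕ}
    (hn : 0 < n) (hTn : T ^ n = 1) (hss : T.IsSemisimple) {M L : Submodule F (Fin N → F)}
    (hM : M ∈ Module.End.invtSubmodule T) (hMnd : NDeg q M)
    (hL : L ∈ Module.End.invtSubmodule T) (hLM : L ≤ M) (hLti : TIso q L) :
    ∃ H : Submodule F (Fin N → F), L ≤ H ∧ H ≤ M ∧ H ∈ Module.End.invtSubmodule T ∧ NDeg q H ∧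
      finrank F ↥H = 2 * finrank F ↥L := by
  obtain ⟨K, hK⟩ : ∃ K, K = perpIn q M L := ⟨_, rfl⟩
  have hKinv : K ∈ Module.End.invtSubmodule T := by
    rw [hK]
    exact uperp_invt hiso hn hTn hM hL
  have hLK : L ≤ K := by
    rw [hK]
    intro x hx
    exact ⟨hLM hx, fun w hw => hLti x hx w hw⟩
  have hKM : K ≤ M := by rw [hK]; exact fun x hx => hx.1
  obtain ⟨Q, hQinv, hQ⟩ := (Module.End.isSemisimple_iff.mp hss) K hKinv
  obtain ⟨L', hL'⟩ : ∃ L', L' = Q ⊓ M := ⟨_, rfl⟩
  have hL'inv : L' ∈ Module.End.invtSubmodule T := by rw [hL']; exact inf_invt hQinv hM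
  have hL'M : L' ≤ M := by rw [hL']; exact inf_le_right
  have hKL' : K ⊓ L' = ⊥ := by
    rw [eq_bot_iff, ← hQ.inf_eq_bot, hL']
    exact inf_le_inf_left _ inf_le_left
  have hsup : K ⊔ L' = M := by
    rw [hL', ← sup_inf_assoc_of_le Q hKM, hQ.sup_eq_top, top_inf_eq]
  have hdK := finrank_perpIn_gen (q := q) hMnd hLM
  rw [← hK] at hdK
  have h3 := Submodule.finrank_sup_add_finrank_inf_eq K L'
  rw [hsup, hKL', finrank_bot, add_zero] at h3
  have hdL' : finrank F ↥L' = finrank F ↥L := by omega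
  have hLL' : L ⊓ L' = ⊥ := by
    rw [eq_bot_iff, ← hKL']
    exact inf_le_inf_right _ hLK
  refine ⟨L ⊔ L', le_sup_left, sup_le hLM hL'M, sup_invt hL hL'inv, ?_, ?_⟩
  · intro u hu hu0
    by_contra hcon
    push Not at hcon
    obtain ⟨a, ha, a', ha', rfl⟩ := Submodule.mem_sup.mp hu
    have ha'0 : a' = 0 := by
      have : a' ∈ K ⊓ L' := by
        refine ⟨?_, ha'⟩
        rw [hK]
        refine ⟨hL'M ha', fun w hw => ?_⟩
        have h1 := hcon w (Submodule.mem_sup_left hw)
        rw [hermForm_add_left, hLti a ha w hw, zero_add] at h1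
        exact h1
      rw [hKL', Submodule.mem_bot] at this
      exact this
    rw [ha'0, add_zero] at hu0 hcon
    obtain ⟨v, hv, hv'⟩ := hMnd a (hLM ha) hu0
    apply hv'
    rw [← hsup] at hv
    obtain ⟨k, hk, l', hl', rfl⟩ := Submodule.mem_sup.mp hv
    rw [h_add_right, hcon l' (Submodule.mem_sup_right hl'), add_zero]
    rw [hK] at hk
    exact h_eq_zero_of_swap (hk.2 a ha)
  · have h4 := Submodule.finrank_sup_add_finrank_inf_eq L L'
    rw [hLL', finrank_bot, add_zero] at h4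
    omega

/-- **the ladder**: iterating a splitting step produces totally isotropic invariant subspaces of
dimension `D b`. -/
theorem exists_ti_ladder (hiso : ∀ u v, hermForm N F q (T u) (T v) = hermForm N F q u v) {n : ℕ}
    (hn : 0 < n) (hTn : T ^ n = 1) {D τ : ℕ}
    (step : ∀ M' : Submodule F (Fin N → F), M' ∈ Module.End.invtSubmodule T → NDeg q M' →
      M' ⊓ fixS T = ⊥ → τ < finrank F ↥M' →
      ∃ H L : Submodule F (Fin N → F), H ≤ M' ∧ H ∈ Module.End.invtSubmodule T ∧ NDeg q H ∧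
        finrank F ↥H = 2 * D ∧ L ≤ H ∧ L ∈ Module.End.invtSubmodule T ∧ TIso q L ∧
        finrank F ↥L = D) :
    ∀ (b : ℕ) (M : Submodule F (Fin N → F)), M ∈ Module.End.invtSubmodule T → NDeg q M →
      M ⊓ fixS T = ⊥ → τ + 2 * D * b < finrank F ↥M + 2 * D →
      ∃ L : Submodule F (Fin N → F), L ≤ M ∧ L ∈ Module.End.invtSubmodule T ∧ TIso q L ∧
        finrank F ↥L = D * b := by
  intro b
  induction b with
  | zero =>
    intro M _ _ _ _
    exact ⟨⊥, bot_le, Module.End.invtSubmodule.bot_mem T, tiso_bot, by simp⟩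
  | succ b ih =>
    intro M hM hMnd hfix hdim
    have hτ : τ < finrank F ↥M := by
      have : 2 * D * (b + 1) = 2 * D * b + 2 * D := by ring
      omega
    obtain ⟨H, L₁, hHM, hHinv, hHnd, hHd, hL₁H, hL₁inv, hL₁ti, hL₁d⟩ := step M hM hMnd hfix hτ
    obtain ⟨M', hM'⟩ : ∃ M', M' = perpIn q M H := ⟨_, rfl⟩
    have hM'inv : M' ∈ Module.End.invtSubmodule T := by
      rw [hM']; exact uperp_invt hiso hn hTn hM hHinv
    have hM'nd : NDeg q M' := by rw [hM']; exact ndeg_perpIn hMnd hHnd hHM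
    have hM'd := finrank_perpIn (q := q) hHnd hHM
    rw [← hM'] at hM'd
    have hM'M : M' ≤ M := by rw [hM']; exact fun x hx => hx.1
    have hM'fix : M' ⊓ fixS T = ⊥ := by
      rw [eq_bot_iff, ← hfix]
      exact inf_le_inf_right _ hM'M
    have hdim' : τ + 2 * D * b < finrank F ↥M' + 2 * D := by
      have : 2 * D * (b + 1) = 2 * D * b + 2 * D := by ring
      omega
    obtain ⟨L', hL'M', hL'inv, hL'ti, hL'd⟩ := ih M' hM'inv hM'nd hM'fix hdim'
    have hL'H : ∀ u ∈ H, ∀ v ∈ L', hermForm N F q u v = 0 := by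
      intro u hu v hv
      have hv' := hL'M' hv
      rw [hM'] at hv'
      exact h_eq_zero_of_swap (hv'.2 u hu)
    refine ⟨L₁ ⊔ L', sup_le (hL₁H.trans hHM) (hL'M'.trans hM'M), sup_invt hL₁inv hL'inv,
      tiso_sup hL₁ti hL'ti (fun u hu v hv => hL'H u (hL₁H hu) v hv), ?_⟩
    have hdisj : L₁ ⊓ L' = ⊥ := by
      rw [eq_bot_iff]
      rintro x ⟨hx1, hx2⟩
      rw [Submodule.mem_bot]
      by_contra hx0
      obtain ⟨y, hy, hne⟩ := hHnd x (hL₁H hx1) hx0
      exact hne (h_eq_zero_of_swap (hL'H y hy x hx2))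
    have h4 := Submodule.finrank_sup_add_finrank_inf_eq L₁ L'
    rw [hdisj, finrank_bot, add_zero] at h4
    rw [h4, hL₁d, hL'd]
    ring

variable {p : ℕ} [Fact p.Prime] [CharP F p] {r : ℕ} [Fact r.Prime]

/-- the splitting step in the self-dual case. -/
theorem step_sd (hrp : r ≠ p) (hiso : ∀ u v, hermForm N F q (T u) (T v) = hermForm N F q u v)
    (hT : T ^ r = 1) (hsd : SD F q r) (M' : Submodule F (Fin N → F))
    (hM' : M' ∈ Module.End.invtSubmodule T) (hnd : NDeg q M') (hfix : M' ⊓ fixS T = ⊥)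
    (hbig : r - 1 < finrank F ↥M') :
    ∃ H L : Submodule F (Fin N → F), H ≤ M' ∧ H ∈ Module.End.invtSubmodule T ∧ NDeg q H ∧
      finrank F ↥H = 2 * orderOf ((Fintype.card F : ℕ) : ZMod r) ∧ L ≤ H ∧
      L ∈ Module.End.invtSubmodule T ∧ TIso q L ∧
      finrank F ↥L = orderOf ((Fintype.card F : ℕ) : ZMod r) := by
  have hr : r.Prime := Fact.out
  obtain ⟨g, hg, hgm, hgd, hgbig⟩ :=
    Cfsg.Agent.Helper7.SpTI.exists_big_component hrp hT hM' hfix hbig
  obtain ⟨e, he⟩ := hsd.1
  have hUinv : M' ⊓ LinearMap.ker (aeval T g) ∈ Module.End.invtSubmodule T :=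
    inf_invt hM' (ker_aeval_invt T g)
  obtain ⟨L, hLU, hLinv, hLti, hLd⟩ := exists_ti_irred hiso hg hgm (e := e) (by omega) hUinv
    (fun u hu => LinearMap.mem_ker.mp hu.2) (by omega)
  have hLM : L ≤ M' := hLU.trans inf_le_left
  obtain ⟨H, hLH, hHM, hHinv, hHnd, hHd⟩ := exists_hyp hiso hr.pos hT
    (isSemisimple_of_pow_eq_one hrp hT) hM' hnd hLinv hLM hLti
  exact ⟨H, L, hHM, hHinv, hHnd, by rw [hHd, hLd, hgd], hLH, hLinv, hLti, by rw [hLd, hgd]⟩

/-- **totally isotropic invariant subspaces of the moved space.** -/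
theorem exists_ti_mov (hrp : r ≠ p)
    (hiso : ∀ u v, hermForm N F q (T u) (T v) = hermForm N F q u v) (hT : T ^ r = 1) (b : ℕ)
    (hb1 : SD F q r → (r - 1) + 2 * orderOf ((Fintype.card F : ℕ) : ZMod r) * b <
          finrank F ↥(movS r T) + 2 * orderOf ((Fintype.card F : ℕ) : ZMod r))
    (hb2 : ¬ SD F q r →
      2 * orderOf ((Fintype.card F : ℕ) : ZMod r) * b ≤ finrank F ↥(movS r T)) :
    ∃ L : Submodule F (Fin N → F), L ≤ movS r T ∧ L ∈ Module.End.invtSubmodule T ∧ TIso q L ∧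
      finrank F ↥L = orderOf ((Fintype.card F : ℕ) : ZMod r) * b := by
  have hr : r.Prime := Fact.out
  have hrF : (r : F) ≠ 0 := natCast_ne_zero_of_ne hrp
  have hipos : 0 < orderOf ((Fintype.card F : ℕ) : ZMod r) := orderOf_q_pos hrp
  have hMinv := movS_invt r T
  have hMnd : NDeg q (movS r T) := by
    have := und_inf_mov hiso hrF hT (Module.End.invtSubmodule.top_mem T) (ndeg_top (q := q))
    rwa [top_inf_eq] at this
  have hMfix : movS r T ⊓ fixS T = ⊥ := by
    rw [inf_comm]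
    exact (disjoint_fix_mov hrF T).eq_bot
  by_cases hsd : SD F q r
  · have hb := hb1 hsd
    exact exists_ti_ladder hiso hr.pos hT (D := orderOf ((Fintype.card F : ℕ) : ZMod r))
      (τ := r - 1) (fun M' h1 h2 h3 h4 => step_sd hrp hiso hT hsd M' h1 h2 h3 h4) b _ hMinv hMnd
      hMfix hb
  · have hb := hb2 hsd
    refine exists_ti_ladder hiso hr.pos hT (D := orderOf ((Fintype.card F : ℕ) : ZMod r))
      (τ := 0) (fun M' h1 h2 h3 h4 => ?_) b _ hMinv hMnd hMfix (by omega)
    have hne : M' ≠ ⊥ := by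
      intro h
      rw [h, finrank_bot] at h4
      exact lt_irrefl _ h4
    exact exists_nd_pair hrp hiso hT hsd h1 h2 h3 hne

end Cfsg.Agent.Helper8.UTI
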