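import Mathlib
import Cfsg.Agent.Helper8.UTIC
set_option autoImplicit false
set_option linter.unusedSectionVars false

/-! Every isometry of odd prime order of the unitary space fixes a totally isotropic subspace of
the right dimension, under the arithmetic conditions (helper8). -/

namespace Cfsg.Agent.Helper8.UTI

open Matrix Module Polynomial Cfsg Cfsg.Agent.Helper7.Herm Cfsg.Agent.Helper8.GUOrder
  Cfsg.Agent.Helper8.AutSU Cfsg.Agent.Helper7.SUNd Cfsg.Agent.Helper8.SURoot
  Cfsg.Agent.Helper8.HermTwo Cfsg.Agent.Helper7.POrd Cfsg.Agent.Helper7.SpOrd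
  Cfsg.Agent.Helper7.UBlk Cfsg.Agent.Helper7.Pol

variable {F : Type*} [Field F] [Fintype F] {q N : ℕ} [hF : Fact (Fintype.card F = q ^ 2)]
  {T : Module.End F (Fin N → F)}

/-- totally isotropic subspaces of every dimension up to half the dimension of a nondegenerate
subspace, in every characteristic. -/
theorem exists_ti_le {E : Submodule F (Fin N → F)} (hE : NDeg q E) {a : ℕ}
    (ha : 2 * a ≤ finrank F ↥E) :
    ∃ L : Submodule F (Fin N → F), L ≤ E ∧ TIso q L ∧ finrank F ↥L = a := by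
  classical
  obtain ⟨b, hbE, hb⟩ := exists_onb _ E hE rfl
  obtain ⟨c, hc⟩ := exists_norm_neg_one (F := F) (q := q)
  obtain ⟨t, ht⟩ := Cfsg.Agent.Helper8.HermReg.exists_trace_one (F := F) (q := q)
  obtain ⟨α, hα⟩ : ∃ α : Fin a → Fin (finrank F ↥E), α = fun i => ⟨2 * (i : ℕ), by
    have := i.2; omega⟩ := ⟨_, rfl⟩
  obtain ⟨β, hβ⟩ : ∃ β : Fin a → Fin (finrank F ↥E), β = fun i => ⟨2 * (i : ℕ) + 1, by
    have := i.2; omega⟩ := ⟨_, rfl⟩
  have hαinj : Function.Injective α := by
    intro i j hij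
    rw [hα] at hij
    have := congrArg Fin.val hij
    simp only at this
    exact Fin.ext (by omega)
  have hβinj : Function.Injective β := by
    intro i j hij
    rw [hβ] at hij
    have := congrArg Fin.val hij
    simp only at this
    exact Fin.ext (by omega)
  have hαβ : ∀ i j, α i ≠ β j := by
    intro i j hij
    rw [hα, hβ] at hij
    have := congrArg Fin.val hij
    simp only at this
    omega
  have hfr := Cfsg.Agent.Helper8.HermReg.frame_of_onb_gen (q := q) b hb α β hαinj hβinj hαβ c hc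
    t ht
  obtain ⟨u, hu⟩ : ∃ u : Fin a → (Fin N → F), u = fun i => b (α i) + c • b (β i) := ⟨_, rfl⟩
  rw [← hu] at hfr
  have hli : LinearIndependent F u := by
    have h1 := hfr.li
    have h3 := h1.comp (Fin.castAdd a) (Fin.castAdd_injective a a)
    have h4 : Fin.append u (fun i => t • b (α i) - (t ^ q * c) • b (β i)) ∘ Fin.castAdd a = u := by
      funext i
      rw [Function.comp_apply, Fin.append_left]
    rw [h4] at h3
    exact h3
  refine ⟨Submodule.span F (Set.range u), ?_, ?_, ?_⟩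
  · rw [Submodule.span_le]
    rintro _ ⟨i, rfl⟩
    rw [hu]
    exact E.add_mem (hbE _) (E.smul_mem _ (hbE _))
  · apply tiso_span
    rintro _ ⟨i, rfl⟩ _ ⟨j, rfl⟩
    exact hfr.uu i j
  · rw [finrank_span_eq_card hli, Fintype.card_fin]

variable {p : ℕ} [Fact p.Prime] [CharP F p] {r : ℕ} [Fact r.Prime]

/-- **existence**: an isometry of odd prime order `r ≠ p` of the unitary space of dimension `N`
fixes a totally isotropic subspace of dimension `m`, under the arithmetic conditions. -/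
theorem exists_ti_invt_aux (hrp : r ≠ p)
    (hiso : ∀ u v, hermForm N F q (T u) (T v) = hermForm N F q u v) (hT : T ^ r = 1) {m : ℕ}
    (hm : 2 * m ≤ N)
    (h1 : 2 * (m % orderOf ((Fintype.card F : ℕ) : ZMod r)) ≤ N % cU F q r)
    (h2 : ¬ SD F q r ∨
      (r - 1) / orderOf ((Fintype.card F : ℕ) : ZMod r) +
        2 * (m / orderOf ((Fintype.card F : ℕ) : ZMod r)) ≤
        N / orderOf ((Fintype.card F : ℕ) : ZMod r)) :
    ∃ W : Submodule F (Fin N → F), W ∈ Module.End.invtSubmodule T ∧ TIso q W ∧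
      finrank F ↥W = m := by
  have hr : r.Prime := Fact.out
  have hrF : (r : F) ≠ 0 := natCast_ne_zero_of_ne hrp
  obtain ⟨i, hi⟩ : ∃ i, i = orderOf ((Fintype.card F : ℕ) : ZMod r) := ⟨_, rfl⟩
  rw [← hi] at h1 h2
  have hipos : 0 < i := by rw [hi]; exact orderOf_q_pos hrp
  have hmovnd : NDeg q (movS r T) := by
    have := und_inf_mov hiso hrF hT (Module.End.invtSubmodule.top_mem T) (ndeg_top (q := q))
    rwa [top_inf_eq] at this
  have hfixnd : NDeg q (fixS T) := by
    have := und_inf_fix hiso hrF hT (Module.End.invtSubmodule.top_mem T) (ndeg_top (q := q))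
    rwa [top_inf_eq] at this
  have hmovfix : movS r T ⊓ fixS T = ⊥ := by
    rw [inf_comm]
    exact (disjoint_fix_mov hrF T).eq_bot
  have hc := cU_dvd_finrank hrp hiso hT _ _ rfl (movS_invt r T) hmovnd hmovfix
  have hsum := finrank_fix_add_mov hrF hT
  rw [Module.finrank_fintype_fun_eq_card, Fintype.card_fin] at hsum
  have hkf : N % cU F q r ≤ finrank F ↥(fixS T) := by
    obtain ⟨l, hl⟩ := hc
    have h3 : N = finrank F ↥(fixS T) + cU F q r * l := by omega
    conv_lhs => rw [h3, Nat.add_mul_mod_self_left]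
    exact Nat.mod_le _ _
  -- the choice of the dimensions
  have hchoice : ∃ b e', m = i * b + e' ∧ 2 * e' ≤ finrank F ↥(fixS T) ∧
      (b = 0 ∨ ((SD F q r → (r - 1) + 2 * i * b < finrank F ↥(movS r T) + 2 * i) ∧
        (¬ SD F q r → 2 * i * b ≤ finrank F ↥(movS r T)))) := by
    by_cases hsd : SD F q r
    · have hcU : cU F q r = i := by unfold cU; rw [if_pos hsd, hi]
      rw [hcU] at hc h1 hkf
      have h2' : (r - 1) / i + 2 * (m / i) ≤ N / i := by
        rcases h2 with h | h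
        · exact absurd hsd h
        · exact h
      have hR : (r - 1) / i * i = r - 1 := by
        apply Nat.div_mul_cancel
        rw [hi]
        exact Cfsg.Agent.Helper7.SpTI.orderOf_q_dvd hrp
      obtain ⟨b, e', hb1, hb2, hb3⟩ :=
        Cfsg.Agent.Helper7.SpTI.arith_even hipos hR hsum hc h1 hkf h2'
      refine ⟨b, e', hb1, hb2, ?_⟩
      rcases hb3 with h | h
      · exact Or.inl h
      · exact Or.inr ⟨fun _ => h, fun h' => absurd hsd h'⟩
    · have hcU : cU F q r = 2 * i := by unfold cU; rw [if_neg hsd, hi]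
      rw [hcU] at hc h1 hkf
      obtain ⟨b, e', hb1, hb2, hb3⟩ := Cfsg.Agent.Helper7.SpTI.arith_odd hsum hm hc
        (by omega : 2 * (m % i) ≤ finrank F ↥(fixS T))
      exact ⟨b, e', hb1, hb2, Or.inr ⟨fun h' => absurd h' hsd, fun _ => hb3⟩⟩
  obtain ⟨b, e', hmb, he', hb⟩ := hchoice
  -- the moved part
  have hL : ∃ L : Submodule F (Fin N → F), L ≤ movS r T ∧ L ∈ Module.End.invtSubmodule T ∧
      TIso q L ∧ finrank F ↥L = i * b := by
    rcases hb with hb0 | hb
    · exact ⟨⊥, bot_le, Module.End.invtSubmodule.bot_mem T, tiso_bot,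
        by rw [hb0, finrank_bot, mul_zero]⟩
    · rw [hi] at hb ⊢
      exact exists_ti_mov hrp hiso hT b hb.1 hb.2
  obtain ⟨L, hLmov, hLinv, hLti, hLd⟩ := hL
  -- the fixed part
  obtain ⟨L₀, hL₀fix, hL₀ti, hL₀d⟩ := exists_ti_le hfixnd he'
  have hL₀inv : L₀ ∈ Module.End.invtSubmodule T := invt_of_le_fixS hL₀fix
  have hperp : ∀ u ∈ L, ∀ v ∈ L₀, hermForm N F q u v = 0 :=
    fun u hu v hv => umov_perp_fix hiso hrF (hLmov hu) (hL₀fix hv)
  refine ⟨L ⊔ L₀, sup_invt hLinv hL₀inv, tiso_sup hLti hL₀ti hperp, ?_⟩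
  have hdisj : L ⊓ L₀ = ⊥ := by
    rw [eq_bot_iff, ← hmovfix]
    exact inf_le_inf hLmov hL₀fix
  have h4 := Submodule.finrank_sup_add_finrank_inf_eq L L₀
  rw [hdisj, finrank_bot, add_zero] at h4
  rw [h4, hLd, hL₀d, hmb]

/-- **existence, matrix form**: a unitary matrix with `X ^ r = 1`, `r ≠ p` an odd prime, fixes a
totally isotropic `m`-space under the arithmetic conditions. -/
theorem exists_ti_invt_odd (hrp : r ≠ p) {n m : ℕ} (hmn : 2 * m ≤ n)
    (h1 : 2 * (m % orderOf ((Fintype.card F : ℕ) : ZMod r)) ≤ n % cU F q r)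
    (h2 : ¬ SD F q r ∨
      (r - 1) / orderOf ((Fintype.card F : ℕ) : ZMod r) +
        2 * (m / orderOf ((Fintype.card F : ℕ) : ZMod r)) ≤
        n / orderOf ((Fintype.card F : ℕ) : ZMod r))
    (X : Matrix (Fin n) (Fin n) F)
    (hXU : ∀ u v, hermForm n F q (X *ᵥ u) (X *ᵥ v) = hermForm n F q u v) (hX : X ^ r = 1) :
    ∃ W : Submodule F (Fin n → F), finrank F ↥W = m ∧
      (∀ u ∈ W, ∀ v ∈ W, hermForm n F q u v = 0) ∧ W.map (Matrix.toLin' X) ≤ W := by
  obtain ⟨T, hTdef⟩ : ∃ T : Module.End F (Fin n → F), T = Matrix.toLin' X := ⟨_, rfl⟩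
  have hT : T ^ r = 1 := by
    rw [hTdef, ← Matrix.toLin'_pow, hX, Matrix.toLin'_one]
    rfl
  have hiso : ∀ u v, hermForm n F q (T u) (T v) = hermForm n F q u v := by
    intro u v
    rw [hTdef, Matrix.toLin'_apply, Matrix.toLin'_apply]
    exact hXU u v
  obtain ⟨W, hWinv, hWti, hWd⟩ := exists_ti_invt_aux hrp hiso hT hmn h1 h2
  refine ⟨W, hWd, hWti, ?_⟩
  rw [← hTdef, Submodule.map_le_iff_le_comap]
  exact (Module.End.mem_invtSubmodule _).mp hWinv

end Cfsg.Agent.Helper8.UTI
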