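import Mathlib
import Cfsg.Agent.Helper8.UTyA

set_option autoImplicit false
set_option linter.unusedSectionVars false
set_option linter.unusedVariables false
set_option linter.unusedSimpArgs false

/-! # Unitary-type structures, part B: counting vectors of given norm -/

namespace Cfsg.Agent.Helper8.UTy

open Module Cfsg.Agent.Helper7.SpOrd Cfsg.Agent.Helper7.UTy

universe u

variable {F : Type*} [Field F] {V : Type u} [AddCommGroup V] [Module F V]
variable {B : LinearMap.BilinForm F V} {δ : Module.End F V} {z : F}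

/-- The number of vectors of norm `c`. -/
noncomputable def NN (B : LinearMap.BilinForm F V) (δ : Module.End F V) (c : F) : ℕ :=
  Nat.card {v : V // nrm B δ v = c}

theorem conj_comb (h : US B δ z) (a b : F) (v : V) :
    a • (a • v + b • δ v) - b • δ (a • v + b • δ v) = (a * a - z * b * b) • v := by
  rw [map_add, map_smul, map_smul, h.sq]
  module

theorem comb_conj (h : US B δ z) (a b : F) (v : V) :
    a • (a • v - b • δ v) + b • δ (a • v - b • δ v) = (a * a - z * b * b) • v := by
  rw [map_sub, map_smul, map_smul, h.sq]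
  module

theorem nrm_smul (c : F) (v : V) : nrm B δ (c • v) = c * c * nrm B δ v := by
  unfold nrm
  rw [map_smul, map_smul, map_smul, LinearMap.smul_apply, smul_eq_mul, smul_eq_mul]
  ring

/-- All nonzero norms are attained equally often. -/
theorem NN_eq_one [Fintype F] (hq : Odd (Fintype.card F)) (h : US B δ z) {c : F} (hc : c ≠ 0) :
    NN B δ c = NN B δ 1 := by
  obtain ⟨a, b, hab⟩ := exists_norm_eq hq h.z_ne_zero c
  unfold NN
  symm
  refine Nat.card_congr ⟨fun v => ⟨a • v.1 + b • δ v.1, ?_⟩,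
    fun w => ⟨c⁻¹ • (a • w.1 - b • δ w.1), ?_⟩, fun v => ?_, fun w => ?_⟩
  · rw [nrm_comb h, v.2, hab, mul_one]
  · have h1 : nrm B δ (a • w.1 - b • δ w.1) = (a * a - z * b * b) * nrm B δ w.1 := by
      have := nrm_comb h a (-b) w.1
      rw [neg_smul, ← sub_eq_add_neg] at this
      rw [this]; ring
    rw [nrm_smul, h1, hab, w.2]
    field_simp
  · apply Subtype.ext
    show c⁻¹ • (a • (a • v.1 + b • δ v.1) - b • δ (a • v.1 + b • δ v.1)) = v.1
    rw [conj_comb h, hab, smul_smul, inv_mul_cancel₀ hc, one_smul]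
  · apply Subtype.ext
    show a • (c⁻¹ • (a • w.1 - b • δ w.1)) + b • δ (c⁻¹ • (a • w.1 - b • δ w.1)) = w.1
    rw [map_smul, smul_comm a c⁻¹, smul_comm b c⁻¹, ← smul_add, comb_conj h, hab, smul_smul,
      inv_mul_cancel₀ hc, one_smul]

/-- The total count. -/
theorem NN_total [Fintype F] [Finite V] (hq : Odd (Fintype.card F)) (h : US B δ z) :
    NN B δ 0 + (Fintype.card F - 1) * NN B δ 1 = Nat.card V := by
  classical
  have h1 : Nat.card V = ∑ c : F, NN B δ c := by
    rw [Nat.card_congr (Equiv.sigmaFiberEquiv (fun v : V => nrm B δ v)).symm, Nat.card_sigma]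
    rfl
  have h3 : ∀ c : F, NN B δ c =
      (if c = 0 then NN B δ 0 else 0) + (if c ≠ 0 then NN B δ 1 else 0) := by
    intro c
    by_cases hc0 : c = 0
    · subst hc0
      rw [if_pos rfl, if_neg (by simp), add_zero]
    · rw [if_neg hc0, zero_add, if_pos hc0, NN_eq_one hq h hc0]
  rw [h1, Finset.sum_congr rfl (fun c _ => h3 c), Finset.sum_add_distrib,
    Finset.sum_ite_eq' Finset.univ (0 : F), if_pos (Finset.mem_univ _), Finset.sum_ite,
    Finset.sum_const, Finset.sum_const_zero, add_zero, smul_eq_mul]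
  congr 2
  rw [Finset.filter_ne' Finset.univ (0 : F), Finset.card_erase_of_mem (Finset.mem_univ _),
    Finset.card_univ]

theorem card_eq_pow [Fintype F] [Finite V] {d : ℕ} (hd : finrank F V = d) :
    Nat.card V = Fintype.card F ^ d := by
  have := Fintype.ofFinite V
  rw [Nat.card_eq_fintype_card, Module.card_eq_pow_finrank (K := F), hd]

/-- On the plane of a unit vector only the zero vector has norm zero. -/
theorem nrm_plane_eq_zero (h : US B δ z) {v₀ : V} (hv₀ : nrm B δ v₀ = 1) {p : V}
    (hp : p ∈ plane δ v₀) (h0 : nrm B δ p = 0) : p = 0 := by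
  obtain ⟨a, b, rfl⟩ := mem_plane_iff.1 hp
  rw [nrm_comb h, hv₀, mul_one] at h0
  have hb : b = 0 := by
    by_contra hb
    apply h.nsq
    refine ⟨a / b, ?_⟩
    field_simp
    linear_combination (-1 : F) * h0
  rw [hb] at h0
  have ha : a = 0 := by
    have : a * a = 0 := by linear_combination h0
    exact mul_self_eq_zero.1 this
  rw [ha, hb, zero_smul, zero_smul, add_zero]

/-- The recursion for the number of isotropic vectors. -/
theorem NN_zero_rec [Fintype F] [Finite V] (hq : Odd (Fintype.card F)) (h : US B δ z) {v₀ : V}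
    (hv₀ : nrm B δ v₀ = 1) :
    NN B δ 0 = NN (B.restrict (B.orthogonal (plane δ v₀)))
        ((δ : Module.End F V).restrict (perp_maps h (plane_maps h v₀))) 0 +
      (Fintype.card F ^ 2 - 1) * NN (B.restrict (B.orthogonal (plane δ v₀)))
        ((δ : Module.End F V).restrict (perp_maps h (plane_maps h v₀))) 1 := by
  classical
  have hv₀' : nrm B δ v₀ ≠ 0 := by rw [hv₀]; exact one_ne_zero
  have hnd := plane_nd h hv₀'
  set P := plane δ v₀ with hP
  set Q := B.orthogonal P with hQ
  set BQ := B.restrict Q with hBQ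
  set δQ := (δ : Module.End F V).restrict (perp_maps h (plane_maps h v₀)) with hδQ
  have hSQ : US BQ δQ z := US.restrict h _ (nd_perp h hnd)
  have hcompl : IsCompl P Q := isCompl_perp (isRefl h) hnd
  have hnrmQ : ∀ w : Q, nrm BQ δQ w = nrm B δ (w : V) := fun w => rfl
  have hadd : ∀ (p : P) (w : Q), nrm B δ ((p : V) + (w : V)) = nrm B δ (p : V) + nrm B δ (w : V) := by
    intro p w
    apply nrm_add h
    exact mem_perp.1 w.2 _ (plane_maps h v₀ _ p.2)
  have e1 : {v : V // nrm B δ v = 0} ≃ {pw : P × Q // nrm BQ δQ pw.2 = -nrm B δ (pw.1 : V)} := by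
    refine (Equiv.subtypeEquiv (Submodule.prodEquivOfIsCompl P Q hcompl).symm.toEquiv
      (fun v => ?_))
    obtain ⟨pw, rfl⟩ := (Submodule.prodEquivOfIsCompl P Q hcompl).surjective v
    rw [LinearEquiv.coe_toEquiv, LinearEquiv.symm_apply_apply,
      Submodule.coe_prodEquivOfIsCompl', hadd, hnrmQ]
    constructor
    · intro h1; linear_combination h1
    · intro h1; linear_combination h1
  have := Fintype.ofFinite P
  have h1 : NN B δ 0 = ∑ p : P, NN BQ δQ (-nrm B δ (p : V)) := by
    unfold NN
    rw [Nat.card_congr e1, Nat.card_congr (Equiv.subtypeProdEquivSigmaSubtype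
      (fun (p : P) (w : Q) => nrm BQ δQ w = -nrm B δ (p : V))), Nat.card_sigma]
  have h3 : ∀ p : P, NN BQ δQ (-nrm B δ (p : V)) =
      (if p = 0 then NN BQ δQ 0 else 0) + (if p ≠ 0 then NN BQ δQ 1 else 0) := by
    intro p
    by_cases hp : p = 0
    · subst hp
      rw [if_pos rfl, if_neg (by simp), add_zero]
      have : nrm B δ ((0 : P) : V) = 0 := by
        unfold nrm; simp
      rw [this, neg_zero]
    · rw [if_neg hp, zero_add, if_pos hp]
      apply NN_eq_one hq hSQ
      rw [neg_ne_zero]
      intro h0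
      exact hp (Subtype.ext (nrm_plane_eq_zero h hv₀ p.2 h0))
  have hcardP : Fintype.card P = Fintype.card F ^ 2 := by
    rw [Module.card_eq_pow_finrank (K := F), hP, plane_finrank h hv₀']
  rw [h1, Finset.sum_congr rfl (fun c _ => h3 c), Finset.sum_add_distrib,
    Finset.sum_ite_eq' Finset.univ (0 : P), if_pos (Finset.mem_univ _), Finset.sum_ite,
    Finset.sum_const, Finset.sum_const_zero, add_zero, smul_eq_mul]
  congr 2
  rw [Finset.filter_ne' Finset.univ (0 : P), Finset.card_erase_of_mem (Finset.mem_univ _),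
    Finset.card_univ, hcardP]

theorem NN_zero_of_subsingleton [Subsingleton V] : NN B δ 0 = 1 := by
  unfold NN
  have : Unique {v : V // nrm B δ v = 0} :=
    { default := ⟨0, by unfold nrm; simp⟩
      uniq := fun v => Subtype.ext (Subsingleton.elim _ _) }
  exact Nat.card_unique

/-- Closed forms, over `ℤ`. -/
theorem NN_closed [Fintype F] (hq : Odd (Fintype.card F)) :
    ∀ (d : ℕ) {V : Type u} [AddCommGroup V] [Module F V] [Finite V]
      {B : LinearMap.BilinForm F V} {δ : Module.End F V} {z : F},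
      US B δ z → finrank F V = 2 * d →
      ((Fintype.card F : ℤ) * NN B δ 0 = (Fintype.card F : ℤ) ^ (2 * d) +
          (-(Fintype.card F : ℤ)) ^ d * ((Fintype.card F : ℤ) - 1)) ∧
        ((Fintype.card F : ℤ) * NN B δ 1 = (Fintype.card F : ℤ) ^ (2 * d) -
          (-(Fintype.card F : ℤ)) ^ d) := by
  set q := Fintype.card F with hqdef
  have hq2 : 2 ≤ q := Fintype.one_lt_card
  have hq1 : ((q : ℤ) - 1) ≠ 0 := by
    have : (2 : ℤ) ≤ q := by exact_mod_cast hq2
    omega
  have htot : ∀ (m : ℕ) {V : Type u} [AddCommGroup V] [Module F V] [Finite V]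
      {B : LinearMap.BilinForm F V} {δ : Module.End F V} {z : F}, US B δ z →
      finrank F V = 2 * m →
      (NN B δ 0 : ℤ) + ((q : ℤ) - 1) * NN B δ 1 = (q : ℤ) ^ (2 * m) := by
    intro m V _ _ _ B δ z h hd
    have := NN_total hq h
    rw [card_eq_pow hd] at this
    have h2 : ((q - 1 : ℕ) : ℤ) = (q : ℤ) - 1 := by
      rw [Nat.cast_sub (by omega)]; simp
    rw [← h2]
    exact_mod_cast this
  have hz : ∀ (m : ℕ) {V : Type u} [AddCommGroup V] [Module F V] [Finite V]
      {B : LinearMap.BilinForm F V} {δ : Module.End F V} {z : F}, US B δ z →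
      finrank F V = 2 * m →
      (q : ℤ) * NN B δ 0 = (q : ℤ) ^ (2 * m) + (-(q : ℤ)) ^ m * ((q : ℤ) - 1) →
      (q : ℤ) * NN B δ 1 = (q : ℤ) ^ (2 * m) - (-(q : ℤ)) ^ m := by
    intro m V _ _ _ B δ z h hd h0
    have h2 := htot m h hd
    apply mul_left_cancel₀ hq1
    have : ((q : ℤ) - 1) * ((q : ℤ) * NN B δ 1) = (q : ℤ) * ((q : ℤ) ^ (2 * m) - NN B δ 0) := by
      rw [← h2]; ring
    rw [this, mul_sub, h0]
    ring
  have hzero : ∀ (m : ℕ) {V : Type u} [AddCommGroup V] [Module F V] [Finite V]
      {B : LinearMap.BilinForm F V} {δ : Module.End F V} {z : F}, US B δ z →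
      finrank F V = 2 * m →
      (q : ℤ) * NN B δ 0 = (q : ℤ) ^ (2 * m) + (-(q : ℤ)) ^ m * ((q : ℤ) - 1) := by
    intro m
    induction m with
    | zero =>
      intro V _ _ _ B δ z h hd
      have : Subsingleton V := by
        have hfin : finrank F V = 0 := by omega
        exact (finrank_zero_iff (R := F)).1 hfin
      rw [NN_zero_of_subsingleton]; simp
    | succ m ih =>
      intro V _ _ _ B δ z h hd
      have hV : ∃ v : V, v ≠ 0 := by
        by_contra hcon
        push Not at hcon
        have : Subsingleton V := ⟨fun a b => by rw [hcon a, hcon b]⟩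
        rw [finrank_zero_of_subsingleton] at hd
        omega
      obtain ⟨v₀, hv₀⟩ := exists_unit hq h hV
      have hv₀' : nrm B δ v₀ ≠ 0 := by rw [hv₀]; exact one_ne_zero
      have hnd := plane_nd h hv₀'
      have hfr := finrank_perp h hnd
      rw [plane_finrank h hv₀', hd] at hfr
      have hd' : finrank F ↥(B.orthogonal (plane δ v₀)) = 2 * m := by omega
      have hSQ := US.restrict h (perp_maps h (plane_maps h v₀)) (nd_perp h hnd)
      have h1 := NN_zero_rec hq h hv₀
      have h2 : ((q ^ 2 - 1 : ℕ) : ℤ) = (q : ℤ) ^ 2 - 1 := by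
        rw [Nat.cast_sub (Nat.one_le_pow _ _ (by omega))]; simp
      have ih0 := ih hSQ hd'
      have ih1 := hz m hSQ hd' ih0
      have h3 : (NN B δ 0 : ℤ) = NN (B.restrict (B.orthogonal (plane δ v₀)))
          ((δ : Module.End F V).restrict (perp_maps h (plane_maps h v₀))) 0 + ((q : ℤ) ^ 2 - 1) *
          NN (B.restrict (B.orthogonal (plane δ v₀)))
            ((δ : Module.End F V).restrict (perp_maps h (plane_maps h v₀))) 1 := by
        rw [← h2]; exact_mod_cast h1
      rw [h3, mul_add, ih0]
      have : (q : ℤ) * (((q : ℤ) ^ 2 - 1) * NN (B.restrict (B.orthogonal (plane δ v₀)))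
            ((δ : Module.End F V).restrict (perp_maps h (plane_maps h v₀))) 1) =
          ((q : ℤ) ^ 2 - 1) * ((q : ℤ) * NN (B.restrict (B.orthogonal (plane δ v₀)))
            ((δ : Module.End F V).restrict (perp_maps h (plane_maps h v₀))) 1) := by
        ring
      rw [this, ih1]
      ring
  intro d V _ _ _ B δ z h hd
  exact ⟨hzero d h hd, hz d h hd (hzero d h hd)⟩

/-- (d) the number of unit vectors (dimension `2 (n + 1)`). -/
theorem card_unit_succ [Fintype F] [Finite V] (hq : Odd (Fintype.card F)) (h : US B δ z) {n : ℕ}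
    (hd : finrank F V = 2 * (n + 1)) :
    Nat.card {v : V // nrm B δ v = 1} = Fintype.card F ^ n *
      (if Even n then Fintype.card F ^ (n + 1) + 1 else Fintype.card F ^ (n + 1) - 1) := by
  set q := Fintype.card F with hqdef
  have hq2 : 2 ≤ q := Fintype.one_lt_card
  have hcl := (NN_closed hq (n + 1) h hd).2
  rw [← hqdef] at hcl
  have hq0 : (q : ℤ) ≠ 0 := by
    have : (2 : ℤ) ≤ q := by exact_mod_cast hq2
    omega
  have key : (NN B δ 1 : ℤ) =
      ((q ^ n * (if Even n then q ^ (n + 1) + 1 else q ^ (n + 1) - 1) : ℕ) : ℤ) := by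
    apply mul_left_cancel₀ hq0
    rw [hcl]
    by_cases hn : Even n
    · rw [if_pos hn]
      have : (-(q : ℤ)) ^ (n + 1) = -((q : ℤ) ^ (n + 1)) := by
        rw [pow_succ, Even.neg_pow hn]; ring
      rw [this]
      push_cast
      ring
    · rw [if_neg hn]
      have hodd : Odd n := Nat.not_even_iff_odd.mp hn
      have : (-(q : ℤ)) ^ (n + 1) = (q : ℤ) ^ (n + 1) := by
        rw [pow_succ, Odd.neg_pow hodd]; ring
      rw [this, Nat.cast_mul, Nat.cast_sub (Nat.one_le_pow _ _ (by omega))]
      push_cast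
      ring
  have : NN B δ 1 = q ^ n * (if Even n then q ^ (n + 1) + 1 else q ^ (n + 1) - 1) := by
    exact_mod_cast key
  exact this

/-- (d) the number of unit vectors, in the shape `q^(d-1) (q^d - (-1)^d)`. -/
theorem card_unit [Fintype F] [Finite V] (hq : Odd (Fintype.card F)) (h : US B δ z) {d : ℕ}
    (hd1 : 1 ≤ d) (hd : finrank F V = 2 * d) :
    Nat.card {v : V // nrm B δ v = 1} = Fintype.card F ^ (d - 1) *
      (if Even d then Fintype.card F ^ d - 1 else Fintype.card F ^ d + 1) := by
  obtain ⟨n, rfl⟩ : ∃ n, d = n + 1 := ⟨d - 1, by omega⟩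
  rw [card_unit_succ hq h hd, Nat.add_sub_cancel]
  by_cases hn : Even n
  · have : ¬ Even (n + 1) := by
      rw [Nat.even_add_one]; exact not_not.2 hn
    rw [if_pos hn, if_neg this]
  · have : Even (n + 1) := by
      rw [Nat.even_add_one]; exact hn
    rw [if_neg hn, if_pos this]

end Cfsg.Agent.Helper8.UTy
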