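import Mathlib
import Cfsg.Agent.Helper8.UTyB
import Cfsg.Agent.Helper3.UTyA
import Cfsg.Agent.Helper8.SpOrder

set_option autoImplicit false
set_option linter.unusedSectionVars false
set_option linter.unusedVariables false
set_option linter.unusedSimpArgs false

/-! # Unitary-type structures, part C: counting frames and the centraliser -/

namespace Cfsg.Agent.Helper8.UTy

open Module Cfsg.Agent.Helper7.SpOrd Cfsg.Agent.Helper7.UTy

universe u

variable {F : Type*} [Field F] {V : Type u} [AddCommGroup V] [Module F V]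
variable {B : LinearMap.BilinForm F V} {δ : Module.End F V} {z : F}

/-- The later members of a frame lie in the orthogonal complement of the plane of the first. -/
theorem frame_succ_mem (h : US B δ z) {d : ℕ} {v : Fin (d + 1) → V} (hv : IsFrame B δ v)
    (i : Fin d) : v i.succ ∈ B.orthogonal (plane δ (v 0)) := by
  rw [mem_perp]
  intro p hp
  obtain ⟨a, b, rfl⟩ := mem_plane_iff.1 hp
  rw [map_add, map_smul, map_smul, LinearMap.add_apply, LinearMap.smul_apply,
    LinearMap.smul_apply, hv.1 0 i.succ, hv.2 0 i.succ, if_neg (Fin.succ_ne_zero i).symm]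
  simp

theorem frame_tail (h : US B δ z) {d : ℕ} {v : Fin (d + 1) → V} (hv : IsFrame B δ v) :
    IsFrame (B.restrict (B.orthogonal (plane δ (v 0))))
      ((δ : Module.End F V).restrict (perp_maps h (plane_maps h (v 0))))
      (fun i => (⟨v i.succ, frame_succ_mem h hv i⟩ : ↥(B.orthogonal (plane δ (v 0))))) := by
  constructor
  · intro i j
    exact hv.1 i.succ j.succ
  · intro i j
    have := hv.2 i.succ j.succ
    simp only [Fin.succ_inj] at this
    exact this

/-- Frames of length `d + 1` correspond to a unit vector and a frame of its orthogonal complement. -/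
noncomputable def frameEquiv (h : US B δ z) (d : ℕ) :
    {v : Fin (d + 1) → V // IsFrame B δ v} ≃
      Σ v₀ : {v : V // nrm B δ v = 1},
        {w : Fin d → ↥(B.orthogonal (plane δ v₀.1)) //
          IsFrame (B.restrict (B.orthogonal (plane δ v₀.1)))
            ((δ : Module.End F V).restrict (perp_maps h (plane_maps h v₀.1))) w} where
  toFun v := ⟨⟨v.1 0, by have := v.2.2 0 0; rwa [if_pos rfl] at this⟩,
    ⟨fun i => ⟨v.1 i.succ, frame_succ_mem h v.2 i⟩, frame_tail h v.2⟩⟩
  invFun p := ⟨Fin.cons p.1.1 (fun i => (p.2.1 i : V)), isFrame_cons h p.1.2 p.2.2⟩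
  left_inv v := by
    apply Subtype.ext
    funext i
    refine Fin.cases ?_ (fun i' => ?_) i
    · simp
    · simp
  right_inv p := by
    obtain ⟨⟨v₀, hv₀⟩, ⟨w, hw⟩⟩ := p
    rfl

/-- (e) the number of frames. -/
theorem card_frames [Fintype F] (hq : Odd (Fintype.card F)) :
    ∀ (d : ℕ) {V : Type u} [AddCommGroup V] [Module F V] [Finite V]
      {B : LinearMap.BilinForm F V} {δ : Module.End F V} {z : F},
      US B δ z → finrank F V = 2 * d →
      Nat.card {v : Fin d → V // IsFrame B δ v} = ∏ j ∈ Finset.range d, (Fintype.card F ^ j *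
        (if Even j then Fintype.card F ^ (j + 1) + 1 else Fintype.card F ^ (j + 1) - 1))
  | 0, V, _, _, _, B, δ, z, h, hd => by
    have : Unique {v : Fin 0 → V // IsFrame B δ v} :=
      { default := ⟨Fin.elim0, fun i => i.elim0, fun i => i.elim0⟩
        uniq := fun v => Subtype.ext (Subsingleton.elim _ _) }
    rw [Nat.card_unique]
    simp
  | d + 1, V, _, _, _, B, δ, z, h, hd => by
    classical
    have := Fintype.ofFinite {v : V // nrm B δ v = 1}
    rw [Nat.card_congr (frameEquiv h d), Nat.card_sigma]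
    have hfib : ∀ v₀ : {v : V // nrm B δ v = 1},
        Nat.card {w : Fin d → ↥(B.orthogonal (plane δ v₀.1)) //
          IsFrame (B.restrict (B.orthogonal (plane δ v₀.1)))
            ((δ : Module.End F V).restrict (perp_maps h (plane_maps h v₀.1))) w} =
        ∏ j ∈ Finset.range d, (Fintype.card F ^ j *
          (if Even j then Fintype.card F ^ (j + 1) + 1 else Fintype.card F ^ (j + 1) - 1)) := by
      intro v₀
      have hv₀' : nrm B δ v₀.1 ≠ 0 := by rw [v₀.2]; exact one_ne_zero
      have hnd := plane_nd h hv₀'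
      have hfr := finrank_perp h hnd
      rw [plane_finrank h hv₀', hd] at hfr
      have hd' : finrank F ↥(B.orthogonal (plane δ v₀.1)) = 2 * d := by omega
      exact card_frames hq d
        (US.restrict h (perp_maps h (plane_maps h v₀.1)) (nd_perp h hnd)) hd'
    rw [Finset.sum_congr rfl (fun v₀ _ => hfib v₀), Finset.sum_const, smul_eq_mul,
      Finset.card_univ, ← Nat.card_eq_fintype_card, card_unit_succ hq h hd,
      Finset.prod_range_succ]
    ring

/-- (f) the centraliser of `δ` in the isometry group acts regularly on frames. -/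
theorem card_centralizer [Fintype F] [Finite V] (hq : Odd (Fintype.card F)) (h : US B δ z)
    {d : ℕ} (hd : finrank F V = 2 * d) :
    Nat.card {T : V ≃ₗ[F] V // (∀ u v, B (T u) (T v) = B u v) ∧ ∀ v, T (δ v) = δ (T v)} =
      Nat.card {v : Fin d → V // IsFrame B δ v} := by
  obtain ⟨vz, hvz⟩ := exists_frame hq d h hd
  set b := Cfsg.Agent.Helper3.UTy.frameBasis h hd hvz with hb
  let φ : {T : V ≃ₗ[F] V // (∀ u v, B (T u) (T v) = B u v) ∧ ∀ v, T (δ v) = δ (T v)} →
      {v : Fin d → V // IsFrame B δ v} := fun T =>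
    ⟨fun i => T.1 (vz i), by
      constructor
      · intro i j
        rw [T.2.1, hvz.1]
      · intro i j
        rw [← T.2.2, T.2.1, hvz.2]⟩
  apply Nat.card_congr
  refine Equiv.ofBijective φ ⟨?_, ?_⟩
  · intro T T' hTT
    have h1 : ∀ i, T.1 (vz i) = T'.1 (vz i) := fun i => congrFun (congrArg Subtype.val hTT) i
    apply Subtype.ext
    apply LinearEquiv.toLinearMap_injective
    apply b.ext
    intro x
    rw [hb, Cfsg.Agent.Helper3.UTy.frameBasis_apply]
    rcases x with i | i
    · exact h1 i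
    · show T.1 (δ (vz i)) = T'.1 (δ (vz i))
      rw [T.2.2, T'.2.2, h1 i]
  · intro w
    obtain ⟨g, hg1, hg2, hg3⟩ := Cfsg.Agent.Helper3.UTy.exists_conj_of_frames h h hd hvz w.2
    refine ⟨⟨g, hg1, hg2⟩, ?_⟩
    apply Subtype.ext
    funext i
    exact hg3 i

/-! ### The arithmetic corollary -/

theorem factor_mul (q j : ℕ) (hq : 1 ≤ q) :
    (if Even j then q ^ (j + 1) + 1 else q ^ (j + 1) - 1) *
      (if Even j then q ^ (j + 1) - 1 else q ^ (j + 1) + 1) = q ^ (2 * (j + 1)) - 1 := by
  have h1 : 1 ≤ q ^ (j + 1) := Nat.one_le_pow _ _ hq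
  have h2 : q ^ (2 * (j + 1)) = q ^ (j + 1) * q ^ (j + 1) := by
    rw [two_mul, pow_add]
  obtain ⟨x, hx⟩ : ∃ x, q ^ (j + 1) = x + 1 := ⟨q ^ (j + 1) - 1, by omega⟩
  rw [h2, hx]
  by_cases hj : Even j
  · rw [if_pos hj, if_pos hj, Nat.add_sub_cancel]
    have : (x + 1) * (x + 1) - 1 = (x + 1 + 1) * x := by
      have : (x + 1) * (x + 1) = (x + 1 + 1) * x + 1 := by ring
      omega
    rw [this]
  · rw [if_neg hj, if_neg hj, Nat.add_sub_cancel]
    have : (x + 1) * (x + 1) - 1 = x * (x + 1 + 1) := by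
      have : (x + 1) * (x + 1) = x * (x + 1 + 1) + 1 := by ring
      omega
    rw [this]

/-- (g) a prime not dividing `q` that divides the index of the centraliser divides one of the
complementary factors. -/
theorem exists_dvd_of_dvd_index [Fintype F] (d : ℕ) {r : ℕ} (hr : r.Prime)
    (hrq : ¬ r ∣ Fintype.card F)
    (hdvd : r ∣ Nat.card (Matrix.symplecticGroup (Fin d) F) /
      (∏ j ∈ Finset.range d, (Fintype.card F ^ j *
        (if Even j then Fintype.card F ^ (j + 1) + 1 else Fintype.card F ^ (j + 1) - 1)))) :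
    ∃ j < d, r ∣ (if Even j then Fintype.card F ^ (j + 1) - 1 else Fintype.card F ^ (j + 1) + 1) := by
  set q := Fintype.card F with hqdef
  have hq1 : 1 ≤ q := Fintype.card_pos
  have hsum : ∑ j ∈ Finset.range d, j ≤ d ^ 2 := by
    calc ∑ j ∈ Finset.range d, j ≤ ∑ j ∈ Finset.range d, d :=
          Finset.sum_le_sum (fun j hj => (Finset.mem_range.1 hj).le)
      _ = d ^ 2 := by rw [Finset.sum_const, Finset.card_range, smul_eq_mul, sq]
  have hD : (∏ j ∈ Finset.range d, (q ^ j *
      (if Even j then q ^ (j + 1) + 1 else q ^ (j + 1) - 1))) =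
      q ^ (∑ j ∈ Finset.range d, j) *
        ∏ j ∈ Finset.range d, (if Even j then q ^ (j + 1) + 1 else q ^ (j + 1) - 1) := by
    rw [Finset.prod_mul_distrib, Finset.prod_pow_eq_pow_sum]
  have hSp : Nat.card (Matrix.symplecticGroup (Fin d) F) =
      (∏ j ∈ Finset.range d, (q ^ j *
        (if Even j then q ^ (j + 1) + 1 else q ^ (j + 1) - 1))) *
      (q ^ (d ^ 2 - ∑ j ∈ Finset.range d, j) *
        ∏ j ∈ Finset.range d, (if Even j then q ^ (j + 1) - 1 else q ^ (j + 1) + 1)) := by
    rw [Cfsg.Agent.Helper8.SpOrder.card_symp, hD]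
    have h1 : ∏ i ∈ Finset.range d, (q ^ (2 * (i + 1)) - 1) =
        (∏ j ∈ Finset.range d, (if Even j then q ^ (j + 1) + 1 else q ^ (j + 1) - 1)) *
        ∏ j ∈ Finset.range d, (if Even j then q ^ (j + 1) - 1 else q ^ (j + 1) + 1) := by
      rw [← Finset.prod_mul_distrib]
      exact Finset.prod_congr rfl (fun j _ => (factor_mul q j hq1).symm)
    have h2 : q ^ d ^ 2 = q ^ (∑ j ∈ Finset.range d, j) * q ^ (d ^ 2 - ∑ j ∈ Finset.range d, j) := by
      rw [← pow_add, Nat.add_sub_cancel' hsum]
    rw [h1, h2]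
    ring
  have hDpos : 0 < ∏ j ∈ Finset.range d, (q ^ j *
      (if Even j then q ^ (j + 1) + 1 else q ^ (j + 1) - 1)) := by
    apply Finset.prod_pos
    intro j _
    apply Nat.mul_pos (Nat.pow_pos hq1)
    by_cases hj : Even j
    · rw [if_pos hj]; omega
    · rw [if_neg hj]
      have hj1 : 1 ≤ j := by
        rcases Nat.eq_zero_or_pos j with h0 | h0
        · exact absurd (h0 ▸ Even.zero) hj
        · exact h0
      have hq2 : 2 ≤ q := Fintype.one_lt_card
      have : 2 ^ (j + 1) ≤ q ^ (j + 1) := Nat.pow_le_pow_left hq2 _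
      have : 2 ≤ 2 ^ (j + 1) := by
        calc 2 = 2 ^ 1 := by norm_num
          _ ≤ 2 ^ (j + 1) := Nat.pow_le_pow_right (by norm_num) (by omega)
      omega
  rw [hSp, Nat.mul_div_cancel_left _ hDpos] at hdvd
  rcases (Nat.Prime.dvd_mul hr).1 hdvd with h1 | h1
  · exact absurd (hr.dvd_of_dvd_pow h1) hrq
  · obtain ⟨j, hj, hjd⟩ := (Prime.dvd_finsetProd_iff hr.prime _).1 h1
    exact ⟨j, Finset.mem_range.1 hj, hjd⟩

end Cfsg.Agent.Helper8.UTy
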