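import Mathlib

set_option autoImplicit false

/-!
Computational facts on the alternating group of degree 6 and their transfer to a group
isomorphic to it.
-/

namespace Cfsg.Agent.Helper8.A6Syl

open Equiv Equiv.Perm

theorem a0 : ∀ z : Perm (Fin 6), sign z = 1 →
    z ^ 2 = 1 ∨ z ^ 3 = 1 ∨ z ^ 4 = 1 ∨ z ^ 5 = 1 := by
  decide +kernel

theorem a1 : ∀ t : Perm (Fin 6), sign t = 1 → t ^ 2 = 1 → t ≠ 1 →
    (Finset.univ.filter (fun z : Perm (Fin 6) => sign z = 1 ∧ z * t = t * z)).card = 8 := by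
  decide +kernel

theorem a3c : (Finset.univ.filter
    (fun z : Perm (Fin 6) => sign z = 1 ∧ (z ≠ 1 ∧ z ^ 3 = 1))).card = 80 := by
  decide +kernel

theorem a3z : ∀ y : Perm (Fin 6), sign y = 1 → y ^ 3 = 1 → y ≠ 1 →
    (Finset.univ.filter (fun z : Perm (Fin 6) => sign z = 1 ∧ z * y = y * z)).card = 9 := by
  decide +kernel

theorem a5c : (Finset.univ.filter
    (fun z : Perm (Fin 6) => sign z = 1 ∧ (z ≠ 1 ∧ z ^ 5 = 1))).card = 144 := by
  decide +kernel

/-- a fixed 5-cycle -/
def y5 : Perm (Fin 6) := swap 0 1 * swap 1 2 * swap 2 3 * swap 3 4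

theorem y5_pow : y5 ^ 5 = 1 := by decide

theorem y5_ne : y5 ≠ 1 := by decide

theorem a5y : (Finset.univ.filter
    (fun z : Perm (Fin 6) => sign z = 1 ∧ z * y5 = y5 * z)).card = 5 := by
  decide +kernel

theorem cycleType_of_orderOf_five (σ : Perm (Fin 6)) (h : orderOf σ = 5) : σ.cycleType = {5} := by
  have hc : σ.IsCycle :=
    Perm.isCycle_of_prime_order' (by rw [h]; norm_num) (by rw [h]; simp)
  rw [hc.cycleType, ← hc.orderOf, h]

theorem comm_card_conj (σ τ g : Perm (Fin 6)) (h : g * σ = τ * g) :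
    (Finset.univ.filter (fun z : Perm (Fin 6) => sign z = 1 ∧ z * σ = σ * z)).card =
      (Finset.univ.filter (fun z : Perm (Fin 6) => sign z = 1 ∧ z * τ = τ * z)).card := by
  have hτ : τ = g * σ * g⁻¹ := by rw [h]; group
  apply Finset.card_bij (fun z _ => g * z * g⁻¹)
  · intro z hz
    rw [Finset.mem_filter] at hz ⊢
    refine ⟨Finset.mem_univ _, ?_, ?_⟩
    · rw [Perm.sign_mul, Perm.sign_mul, Perm.sign_inv, hz.2.1, mul_one, Int.units_mul_self]
    · rw [hτ]
      calc g * z * g⁻¹ * (g * σ * g⁻¹) = g * (z * σ) * g⁻¹ := by group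
        _ = g * (σ * z) * g⁻¹ := by rw [hz.2.2]
        _ = g * σ * g⁻¹ * (g * z * g⁻¹) := by group
  · intro a _ b _ hab
    have := congrArg (fun w => g⁻¹ * w * g) hab
    simpa [mul_assoc] using this
  · intro w hw
    rw [Finset.mem_filter] at hw
    refine ⟨g⁻¹ * w * g, ?_, by group⟩
    rw [Finset.mem_filter]
    refine ⟨Finset.mem_univ _, ?_, ?_⟩
    · rw [Perm.sign_mul, Perm.sign_mul, Perm.sign_inv, hw.2.1, mul_one, Int.units_mul_self]
    · have hσ : σ = g⁻¹ * τ * g := by rw [hτ]; group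
      rw [hσ]
      calc g⁻¹ * w * g * (g⁻¹ * τ * g) = g⁻¹ * (w * τ) * g := by group
        _ = g⁻¹ * (τ * w) * g := by rw [hw.2.2]
        _ = g⁻¹ * τ * g * (g⁻¹ * w * g) := by group

theorem a5z : ∀ y : Perm (Fin 6), sign y = 1 → y ^ 5 = 1 → y ≠ 1 →
    (Finset.univ.filter (fun z : Perm (Fin 6) => sign z = 1 ∧ z * y = y * z)).card = 5 := by
  intro y _ hy5 hy1
  haveI : Fact (Nat.Prime 5) := ⟨by norm_num⟩
  have ho : orderOf y = 5 := orderOf_eq_prime hy5 hy1
  have ho5 : orderOf y5 = 5 := orderOf_eq_prime y5_pow y5_ne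
  have hc : IsConj y y5 := by
    rw [Equiv.Perm.isConj_iff_cycleType_eq, cycleType_of_orderOf_five y ho,
      cycleType_of_orderOf_five y5 ho5]
  obtain ⟨g, hg⟩ := hc
  have hg' : (g : Perm (Fin 6)) * y = y5 * g := hg
  rw [comm_card_conj y y5 g hg', a5y]

section transfer

variable {N : Type*} [Group N] (e : N ≃* alternatingGroup (Fin 6))

include e

/-- the embedding into the symmetric group -/
def emb : N →* Perm (Fin 6) := (alternatingGroup (Fin 6)).subtype.comp e.toMonoidHom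

theorem emb_apply (z : N) : emb e z = ((e z : alternatingGroup (Fin 6)) : Perm (Fin 6)) := rfl

theorem emb_injective : Function.Injective (emb e) := by
  intro a b h
  apply e.injective
  exact Subtype.ext h

theorem sign_emb (z : N) : sign (emb e z) = 1 :=
  mem_alternatingGroup.1 (e z).2

theorem emb_eq_one_iff (z : N) : emb e z = 1 ↔ z = 1 := by
  rw [← map_one (emb e)]
  exact (emb_injective e).eq_iff

/-- transfer of cardinalities -/
noncomputable def transferEquiv (P : Perm (Fin 6) → Prop) :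
    {z : N // P (emb e z)} ≃ {w : Perm (Fin 6) // sign w = 1 ∧ P w} where
  toFun z := ⟨emb e z.1, sign_emb e z.1, z.2⟩
  invFun w := ⟨e.symm ⟨w.1, mem_alternatingGroup.2 w.2.1⟩, by
    have : emb e (e.symm ⟨w.1, mem_alternatingGroup.2 w.2.1⟩) = w.1 := by
      rw [emb_apply, MulEquiv.apply_symm_apply]
    rw [this]
    exact w.2.2⟩
  left_inv z := by
    apply Subtype.ext
    apply emb_injective e
    show emb e (e.symm ⟨emb e z.1, _⟩) = emb e z.1
    rw [emb_apply, MulEquiv.apply_symm_apply]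
  right_inv w := by
    apply Subtype.ext
    show emb e (e.symm ⟨w.1, _⟩) = w.1
    rw [emb_apply, MulEquiv.apply_symm_apply]

theorem card_transfer (P : Perm (Fin 6) → Prop) [DecidablePred P] :
    Nat.card {z : N // P (emb e z)} =
      (Finset.univ.filter (fun w : Perm (Fin 6) => sign w = 1 ∧ P w)).card := by
  rw [Nat.card_congr (transferEquiv e P), Nat.card_eq_fintype_card, Fintype.card_subtype]

theorem n0 (z : N) : z ^ 2 = 1 ∨ z ^ 3 = 1 ∨ z ^ 4 = 1 ∨ z ^ 5 = 1 := by
  have h := a0 (emb e z) (sign_emb e z)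
  simp only [← map_pow, emb_eq_one_iff] at h
  exact h

theorem card_comm (y : N) :
    Nat.card {z : N // z * y = y * z} =
      (Finset.univ.filter (fun w : Perm (Fin 6) => sign w = 1 ∧ w * emb e y = emb e y * w)).card := by
  rw [← card_transfer e (fun w => w * emb e y = emb e y * w)]
  apply Nat.card_congr
  apply Equiv.subtypeEquivRight
  intro z
  rw [← map_mul, ← map_mul]
  exact (emb_injective e).eq_iff.symm

theorem n1 (t : N) (ht : t ≠ 1) (ht2 : t ^ 2 = 1) : Nat.card {z : N // z * t = t * z} = 8 := by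
  rw [card_comm e t]
  apply a1 _ (sign_emb e t)
  · rw [← map_pow, ht2, map_one]
  · rwa [Ne, emb_eq_one_iff]

theorem n3z (y : N) (hy : y ≠ 1) (hy3 : y ^ 3 = 1) : Nat.card {z : N // z * y = y * z} = 9 := by
  rw [card_comm e y]
  apply a3z _ (sign_emb e y)
  · rw [← map_pow, hy3, map_one]
  · rwa [Ne, emb_eq_one_iff]

theorem n5z (y : N) (hy : y ≠ 1) (hy5 : y ^ 5 = 1) : Nat.card {z : N // z * y = y * z} = 5 := by
  rw [card_comm e y]
  apply a5z _ (sign_emb e y)
  · rw [← map_pow, hy5, map_one]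
  · rwa [Ne, emb_eq_one_iff]

theorem n3c : Nat.card {z : N // z ≠ 1 ∧ z ^ 3 = 1} = 80 := by
  rw [← a3c, ← card_transfer e (fun w => w ≠ 1 ∧ w ^ 3 = 1)]
  apply Nat.card_congr
  apply Equiv.subtypeEquivRight
  intro z
  rw [← map_pow, Ne, Ne, emb_eq_one_iff, emb_eq_one_iff]

theorem n5c : Nat.card {z : N // z ≠ 1 ∧ z ^ 5 = 1} = 144 := by
  rw [← a5c, ← card_transfer e (fun w => w ≠ 1 ∧ w ^ 5 = 1)]
  apply Nat.card_congr
  apply Equiv.subtypeEquivRight
  intro z
  rw [← map_pow, Ne, Ne, emb_eq_one_iff, emb_eq_one_iff]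

theorem card_N : Nat.card N = 360 := by
  rw [Nat.card_congr e.toEquiv, nat_card_alternatingGroup, Nat.card_eq_fintype_card,
    Fintype.card_fin]
  decide

end transfer

end Cfsg.Agent.Helper8.A6Syl
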