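import Mathlib
import Cfsg.Agent.Helper8.A6SylA

set_option autoImplicit false

/-!
Any two Sylow 2-subgroups of a group `G` with a normal subgroup `N ≅ A₆` of index 4
intersect nontrivially.
-/

namespace Cfsg.Agent.Helper8.A6Syl

open scoped Pointwise

section main

variable {G : Type*} [Group G] [Finite G]

/-- conjugation action of a subgroup on a normal subgroup -/
def conjMulAction (H N : Subgroup G) [hN : N.Normal] : MulAction H N where
  smul h n := ⟨h * n * (h : G)⁻¹, hN.conj_mem n n.2 h⟩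
  one_smul n := by
    apply Subtype.ext
    show ((1 : H) : G) * n * ((1 : H) : G)⁻¹ = n
    simp
  mul_smul a b n := by
    apply Subtype.ext
    show ((a * b : H) : G) * n * ((a * b : H) : G)⁻¹ = a * (b * n * (b : G)⁻¹) * (a : G)⁻¹
    simp [mul_assoc]

theorem card_eq_of_relIndex (C N : Subgroup G) :
    Nat.card (C ⊓ N : Subgroup G) * N.relIndex C = Nat.card C := by
  have h := Subgroup.relIndex_mul_relIndex (⊥ : Subgroup G) (C ⊓ N) C bot_le inf_le_left
  rw [Subgroup.relIndex_bot_left, Subgroup.relIndex_bot_left, inf_comm,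
    Subgroup.inf_relIndex_right] at h
  rw [inf_comm]
  exact h

/-- the centralizer of `y ∈ N` intersected with `N`, as a subtype of `N` -/
def centInfEquiv (N : Subgroup G) (y : N) :
    (Subgroup.centralizer {(y : G)} ⊓ N : Subgroup G) ≃ {z : N // z * y = y * z} where
  toFun c := ⟨⟨c.1, c.2.2⟩, by
    apply Subtype.ext
    have h : (c : G) ∈ Subgroup.centralizer {(y : G)} := c.2.1
    rw [Subgroup.mem_centralizer_singleton_iff] at h
    exact h⟩
  invFun z := ⟨z.1.1, by
    refine ⟨?_, z.1.2⟩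
    show (z.1 : G) ∈ Subgroup.centralizer {(y : G)}
    rw [Subgroup.mem_centralizer_singleton_iff]
    exact congrArg Subtype.val z.2⟩
  left_inv _ := rfl
  right_inv _ := rfl

theorem relIndex_cases (N C : Subgroup G) [N.Normal] (hidx : N.index = 4) :
    N.relIndex C = 1 ∨ N.relIndex C = 2 ∨ N.relIndex C = 4 := by
  have h := Subgroup.relIndex_dvd_index_of_normal N C
  rw [hidx] at h
  have hle : N.relIndex C ≤ 4 := Nat.le_of_dvd (by norm_num) h
  have hpos : 0 < N.relIndex C := Nat.pos_of_dvd_of_pos h (by norm_num)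
  interval_cases hk : N.relIndex C
  · exact Or.inl rfl
  · exact Or.inr (Or.inl rfl)
  · exfalso; norm_num at h
  · exact Or.inr (Or.inr rfl)

/-- the index of a centralizer is at most the number of elements with the same property -/
theorem index_centralizer_le (N : Subgroup G) [hN : N.Normal] (y : G) (hy : y ∈ N) (p : ℕ)
    (hy1 : y ≠ 1) (hyp : y ^ p = 1) :
    (Subgroup.centralizer {y}).index ≤ Nat.card {z : N // z ≠ 1 ∧ z ^ p = 1} := by
  classical
  let f : G → {z : N // z ≠ 1 ∧ z ^ p = 1} := fun g =>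
    ⟨⟨g * y * g⁻¹, hN.conj_mem y hy g⟩, by
      constructor
      · intro h
        have h' : g * y * g⁻¹ = 1 := congrArg Subtype.val h
        apply hy1
        have : y = g⁻¹ * (g * y * g⁻¹) * g := by group
        rw [this, h']; group
      · apply Subtype.ext
        show (g * y * g⁻¹) ^ p = 1
        rw [conj_pow, hyp]; group⟩
  have hf : ∀ a b : G, QuotientGroup.leftRel (Subgroup.centralizer {y}) a b → f a = f b := by
    intro a b hab
    rw [QuotientGroup.leftRel_apply, Subgroup.mem_centralizer_singleton_iff] at hab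
    apply Subtype.ext
    apply Subtype.ext
    show a * y * a⁻¹ = b * y * b⁻¹
    have h1 : y * (a⁻¹ * b) = a⁻¹ * b * y := hab.symm
    calc a * y * a⁻¹ = a * (y * (a⁻¹ * b)) * b⁻¹ := by group
      _ = a * (a⁻¹ * b * y) * b⁻¹ := by rw [h1]
      _ = b * y * b⁻¹ := by group
  let F : G ⧸ Subgroup.centralizer {y} → {z : N // z ≠ 1 ∧ z ^ p = 1} :=
    fun q => Quotient.liftOn' q f hf
  have hF : Function.Injective F := by
    intro q1 q2
    induction q1 using Quotient.inductionOn' with
    | h a =>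
      induction q2 using Quotient.inductionOn' with
      | h b =>
        intro h
        have h' : f a = f b := h
        have h'' : a * y * a⁻¹ = b * y * b⁻¹ := congrArg (fun z => ((z.1 : N) : G)) h'
        apply Quotient.sound'
        rw [QuotientGroup.leftRel_apply, Subgroup.mem_centralizer_singleton_iff]
        calc a⁻¹ * b * y = a⁻¹ * (b * y * b⁻¹) * b := by group
          _ = a⁻¹ * (a * y * a⁻¹) * b := by rw [h'']
          _ = y * (a⁻¹ * b) := by group
  exact Nat.card_le_card_of_injective F hF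

/-- the centralizer of an element of order 3 or 5 of `N` has even order -/
theorem even_card_centralizer (N : Subgroup G) [hN : N.Normal]
    (e : N ≃* alternatingGroup (Fin 6)) (hidx : N.index = 4) (y : G) (hy : y ∈ N) (hy1 : y ≠ 1)
    (hy35 : y ^ 3 = 1 ∨ y ^ 5 = 1) : 2 ∣ Nat.card (Subgroup.centralizer {y}) := by
  have hG : Nat.card G = 1440 := by
    rw [← Subgroup.card_mul_index N, hidx, card_N e]
  have hC := card_eq_of_relIndex (Subgroup.centralizer {y}) N
  have hCN : Nat.card (Subgroup.centralizer {y} ⊓ N : Subgroup G) =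
      Nat.card {z : N // z * (⟨y, hy⟩ : N) = ⟨y, hy⟩ * z} :=
    Nat.card_congr (centInfEquiv N ⟨y, hy⟩)
  have hy1' : (⟨y, hy⟩ : N) ≠ 1 := fun h => hy1 (congrArg Subtype.val h)
  rcases relIndex_cases N (Subgroup.centralizer {y}) hidx with h | h | h
  · exfalso
    rw [h, mul_one, hCN] at hC
    have hI := Subgroup.card_mul_index (Subgroup.centralizer {y})
    rw [hG] at hI
    rcases hy35 with h3 | h5
    · have hz := n3z e ⟨y, hy⟩ hy1' (Subtype.ext h3)
      have hle := index_centralizer_le N y hy 3 hy1 h3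
      rw [n3c e] at hle
      rw [← hC, hz] at hI
      omega
    · have hz := n5z e ⟨y, hy⟩ hy1' (Subtype.ext h5)
      have hle := index_centralizer_le N y hy 5 hy1 h5
      rw [n5c e] at hle
      rw [← hC, hz] at hI
      omega
  · rw [h] at hC
    exact ⟨_, by rw [← hC, mul_comm]⟩
  · rw [h] at hC
    exact ⟨Nat.card (Subgroup.centralizer {y} ⊓ N : Subgroup G) * 2, by rw [← hC]; ring⟩

/-- an involution normalizing a subgroup of even order centralizes a nontrivial element -/
theorem exists_fixed (C : Subgroup G) (hC : 2 ∣ Nat.card C) (t : G) (ht : t ^ 2 = 1)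
    (hn : ∀ c ∈ C, t * c * t⁻¹ ∈ C) : ∃ u ∈ C, u ≠ 1 ∧ t * u * t⁻¹ = u := by
  classical
  haveI : Fact (Nat.Prime 2) := ⟨Nat.prime_two⟩
  have htinv : t⁻¹ = t := by
    rw [inv_eq_iff_mul_eq_one, ← pow_two, ht]
  let σ : Equiv.Perm C :=
    { toFun := fun c => ⟨t * c * t⁻¹, hn c c.2⟩
      invFun := fun c => ⟨t * c * t⁻¹, hn c c.2⟩
      left_inv := fun c => by
        apply Subtype.ext
        show t * (t * c * t⁻¹) * t⁻¹ = c
        rw [htinv]
        calc t * (t * c * t) * t = (t ^ 2) * c * (t ^ 2) := by rw [pow_two]; group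
          _ = c := by rw [ht]; group
      right_inv := fun c => by
        apply Subtype.ext
        show t * (t * c * t⁻¹) * t⁻¹ = c
        rw [htinv]
        calc t * (t * c * t) * t = (t ^ 2) * c * (t ^ 2) := by rw [pow_two]; group
          _ = c := by rw [ht]; group }
  have hσ : σ ^ 2 ^ 1 = 1 := by
    ext c : 1
    rw [pow_one, pow_two, Equiv.Perm.mul_apply, Equiv.Perm.one_apply]
    exact σ.left_inv c
  haveI := Fintype.ofFinite C
  have hmod := Equiv.Perm.card_compl_support_modEq hσ
  rw [← Nat.card_eq_fintype_card] at hmod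
  have h2 : 2 ∣ (σ.supportᶜ).card := by
    rcases hC with ⟨k, hk⟩
    unfold Nat.ModEq at hmod
    omega
  have h1mem : (1 : C) ∈ σ.supportᶜ := by
    rw [Finset.mem_compl, Equiv.Perm.notMem_support]
    apply Subtype.ext
    show t * ((1 : C) : G) * t⁻¹ = ((1 : C) : G)
    simp
  have hcard : 1 < (σ.supportᶜ).card := by
    have hpos : 0 < (σ.supportᶜ).card := Finset.card_pos.2 ⟨1, h1mem⟩
    rcases h2 with ⟨k, hk⟩
    omega
  obtain ⟨u, hu, hu1⟩ := Finset.exists_mem_ne hcard (1 : C)
  rw [Finset.mem_compl, Equiv.Perm.notMem_support] at hu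
  refine ⟨u.1, u.2, fun h => hu1 (Subtype.ext h), ?_⟩
  exact congrArg Subtype.val hu

/-- two involutions of `N` are centralized by a common nontrivial element -/
theorem exists_common (N : Subgroup G) [hN : N.Normal]
    (e : N ≃* alternatingGroup (Fin 6)) (hidx : N.index = 4) (t s : G) (ht : t ∈ N) (hs : s ∈ N)
    (ht1 : t ≠ 1) (ht2 : t ^ 2 = 1) (hs2 : s ^ 2 = 1) :
    ∃ u : G, u ≠ 1 ∧ u * t = t * u ∧ u * s = s * u := by
  have htinv : t⁻¹ = t := by rw [inv_eq_iff_mul_eq_one, ← pow_two, ht2]
  have hsinv : s⁻¹ = s := by rw [inv_eq_iff_mul_eq_one, ← pow_two, hs2]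
  set y : G := t * s with hy
  have hyN : y ∈ N := N.mul_mem ht hs
  have hty : t * y * t⁻¹ = y⁻¹ := by
    rw [hy, mul_inv_rev, hsinv, htinv]
    calc t * (t * s) * t = t ^ 2 * s * t := by rw [pow_two]; group
      _ = s * t := by rw [ht2, one_mul]
  have hsy : s * y * s⁻¹ = y⁻¹ := by
    rw [hy, mul_inv_rev, hsinv, htinv]
    calc s * (t * s) * s = s * t * s ^ 2 := by rw [pow_two]; group
      _ = s * t := by rw [hs2, mul_one]
  -- powers of `y` that are involutions commute with `t` and `s`
  have hinvol : ∀ u : G, u ^ 2 = 1 → (∃ k : ℕ, u = y ^ k) → u * t = t * u ∧ u * s = s * u := by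
    rintro u hu2 ⟨k, rfl⟩
    have huinv : (y ^ k)⁻¹ = y ^ k := by rw [inv_eq_iff_mul_eq_one, ← pow_two, hu2]
    constructor
    · have : t * y ^ k * t⁻¹ = y ^ k := by
        rw [← conj_pow, hty, inv_pow, huinv]
      calc y ^ k * t = (t * y ^ k * t⁻¹) * t := by rw [this]
        _ = t * y ^ k := by group
    · have : s * y ^ k * s⁻¹ = y ^ k := by
        rw [← conj_pow, hsy, inv_pow, huinv]
      calc y ^ k * s = (s * y ^ k * s⁻¹) * s := by rw [this]
        _ = s * y ^ k := by group
  by_cases hy1 : y = 1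
  · -- `s = t`
    have hst : s = t := by
      have : s = t⁻¹ * y := by rw [hy]; group
      rw [this, hy1, mul_one, htinv]
    exact ⟨t, ht1, rfl, by rw [hst]⟩
  have hpow := n0 e (⟨y, hyN⟩ : N)
  have hpow' : y ^ 2 = 1 ∨ y ^ 3 = 1 ∨ y ^ 4 = 1 ∨ y ^ 5 = 1 := by
    rcases hpow with h | h | h | h
    · exact Or.inl (congrArg Subtype.val h)
    · exact Or.inr (Or.inl (congrArg Subtype.val h))
    · exact Or.inr (Or.inr (Or.inl (congrArg Subtype.val h)))
    · exact Or.inr (Or.inr (Or.inr (congrArg Subtype.val h)))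
  have odd_case : (y ^ 3 = 1 ∨ y ^ 5 = 1) → ∃ u : G, u ≠ 1 ∧ u * t = t * u ∧ u * s = s * u := by
    intro h35
    have hev := even_card_centralizer N e hidx y hyN hy1 h35
    have hn : ∀ c ∈ Subgroup.centralizer {y}, t * c * t⁻¹ ∈ Subgroup.centralizer {y} := by
      intro c hc
      rw [Subgroup.mem_centralizer_singleton_iff] at hc ⊢
      -- `c` commutes with `y`, hence with `y⁻¹`, and conjugating by `t` gives the claim
      have hc' : c * y⁻¹ = y⁻¹ * c := by
        calc c * y⁻¹ = y⁻¹ * (y * c) * y⁻¹ := by group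
          _ = y⁻¹ * (c * y) * y⁻¹ := by rw [← hc]
          _ = y⁻¹ * c := by group
      have hyt : y = t * y⁻¹ * t⁻¹ := by
        have h := congrArg Inv.inv hty
        rw [inv_inv] at h
        calc y = (t * y * t⁻¹)⁻¹ := h.symm
          _ = t * y⁻¹ * t⁻¹ := by group
      calc t * c * t⁻¹ * y = t * c * t⁻¹ * (t * y⁻¹ * t⁻¹) := by rw [← hyt]
        _ = t * (c * y⁻¹) * t⁻¹ := by group
        _ = t * (y⁻¹ * c) * t⁻¹ := by rw [hc']
        _ = (t * y⁻¹ * t⁻¹) * (t * c * t⁻¹) := by group
        _ = y * (t * c * t⁻¹) := by rw [← hyt]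
    obtain ⟨u, huC, hu1, hut⟩ := exists_fixed (Subgroup.centralizer {y}) hev t ht2 hn
    rw [Subgroup.mem_centralizer_singleton_iff] at huC
    have hut' : u * t = t * u := by
      calc u * t = (t * u * t⁻¹) * t := by rw [hut]
        _ = t * u := by group
    refine ⟨u, hu1, hut', ?_⟩
    have hs' : s = t⁻¹ * y := by rw [hy]; group
    have hut'' : u * t⁻¹ = t⁻¹ * u := by
      calc u * t⁻¹ = t⁻¹ * (t * u) * t⁻¹ := by group
        _ = t⁻¹ * (u * t) * t⁻¹ := by rw [hut']
        _ = t⁻¹ * u := by group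
    rw [hs']
    calc u * (t⁻¹ * y) = (u * t⁻¹) * y := by group
      _ = (t⁻¹ * u) * y := by rw [hut'']
      _ = t⁻¹ * (y * u) := by rw [mul_assoc, huC]
      _ = t⁻¹ * y * u := by group
  rcases hpow' with h2 | h3 | h4 | h5
  · exact ⟨y, hy1, hinvol y h2 ⟨1, (pow_one y).symm⟩⟩
  · exact odd_case (Or.inl h3)
  · by_cases hy2 : y ^ 2 = 1
    · exact ⟨y, hy1, hinvol y hy2 ⟨1, (pow_one y).symm⟩⟩
    · refine ⟨y ^ 2, hy2, hinvol (y ^ 2) ?_ ⟨2, rfl⟩⟩
      rw [← pow_mul]; exact h4
  · exact odd_case (Or.inr h5)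

theorem main (N : Subgroup G) [hN : N.Normal] (e : N ≃* alternatingGroup (Fin 6))
    (hidx : N.index = 4) (H : Sylow 2 G) (x : G) :
    (H : Subgroup G) ⊓ MulAut.conj x • (H : Subgroup G) ≠ ⊥ := by
  classical
  haveI : Fact (Nat.Prime 2) := ⟨Nat.prime_two⟩
  have hG : Nat.card G = 1440 := by
    rw [← Subgroup.card_mul_index N, hidx, card_N e]
  have hH : Nat.card (H : Subgroup G) = 32 := by
    rw [Sylow.card_eq_multiplicity, hG]
    have h1 : (1440 : ℕ) = 2 ^ 5 * 45 := by norm_num
    have h2 : (45 : ℕ).factorization 2 = 0 :=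
      Nat.factorization_eq_zero_of_not_dvd (by norm_num)
    have h3 : ((2 : ℕ) ^ 5).factorization 2 = 5 := by
      rw [Nat.Prime.factorization_pow Nat.prime_two]; simp
    have h4 : (1440 : ℕ).factorization 2 = 5 := by
      rw [h1, Nat.factorization_mul (by norm_num) (by norm_num), Finsupp.add_apply, h3, h2]
    rw [h4]; norm_num
  -- an involution `t` of `N` centralized by `H`
  obtain ⟨t, htN, ht1, ht2, htH⟩ : ∃ t : G, t ∈ N ∧ t ≠ 1 ∧ t ^ 2 = 1 ∧
      ∀ h ∈ (H : Subgroup G), h * t = t * h := by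
    letI := conjMulAction (H : Subgroup G) N
    have hp : IsPGroup 2 (H : Subgroup G) := H.isPGroup'
    have hmod := hp.card_modEq_card_fixedPoints N
    rw [card_N e] at hmod
    -- the fixed points form a subgroup
    let F : Subgroup G :=
      { carrier := {n | n ∈ N ∧ ∀ h ∈ (H : Subgroup G), h * n = n * h}
        one_mem' := ⟨N.one_mem, fun h _ => by simp⟩
        mul_mem' := fun {a b} ha hb => ⟨N.mul_mem ha.1 hb.1, fun h hh => by
          rw [← mul_assoc, ha.2 h hh, mul_assoc, hb.2 h hh, mul_assoc]⟩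
        inv_mem' := fun {a} ha => ⟨N.inv_mem ha.1, fun h hh => by
          have := ha.2 h hh
          calc h * a⁻¹ = a⁻¹ * (a * h) * a⁻¹ := by group
            _ = a⁻¹ * (h * a) * a⁻¹ := by rw [this]
            _ = a⁻¹ * h := by group⟩ }
    have hFe : MulAction.fixedPoints (H : Subgroup G) N ≃ F :=
      { toFun := fun n => ⟨n.1.1, n.1.2, fun h hh => by
          have := n.2 ⟨h, hh⟩
          have h' : h * (n.1 : G) * h⁻¹ = n.1 := congrArg Subtype.val this
          calc h * (n.1 : G) = (h * (n.1 : G) * h⁻¹) * h := by group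
            _ = n.1 * h := by rw [h']⟩
        invFun := fun f => ⟨⟨f.1, f.2.1⟩, fun h => by
          apply Subtype.ext
          show (h : G) * f.1 * (h : G)⁻¹ = f.1
          rw [f.2.2 h h.2]; group⟩
        left_inv := fun _ => rfl
        right_inv := fun _ => rfl }
    rw [Nat.card_congr hFe] at hmod
    have h2F : 2 ∣ Nat.card F := by
      unfold Nat.ModEq at hmod
      omega
    obtain ⟨t, ht⟩ := exists_prime_orderOf_dvd_card' (G := F) 2 h2F
    refine ⟨t.1, t.2.1, ?_, ?_, fun h hh => t.2.2 h hh⟩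
    · intro h
      have : t = 1 := Subtype.ext h
      rw [this, orderOf_one] at ht
      omega
    · have := pow_orderOf_eq_one t
      rw [ht] at this
      exact congrArg Subtype.val this
  -- `H` is the centralizer of `t`
  have hHC : (H : Subgroup G) = Subgroup.centralizer {t} := by
    have hle : (H : Subgroup G) ≤ Subgroup.centralizer {t} := by
      intro h hh
      rw [Subgroup.mem_centralizer_singleton_iff]
      exact htH h hh
    apply Subgroup.eq_of_le_of_card_ge hle
    have hC := card_eq_of_relIndex (Subgroup.centralizer {t}) N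
    have hCN : Nat.card (Subgroup.centralizer {t} ⊓ N : Subgroup G) = 8 := by
      rw [Nat.card_congr (centInfEquiv N ⟨t, htN⟩)]
      exact n1 e ⟨t, htN⟩ (fun h => ht1 (congrArg Subtype.val h)) (Subtype.ext ht2)
    rw [hCN] at hC
    rw [hH, ← hC]
    rcases relIndex_cases N (Subgroup.centralizer {t}) hidx with h | h | h <;> rw [h] <;> norm_num
  -- the conjugate
  set s : G := x * t * x⁻¹ with hs
  have hsN : s ∈ N := hN.conj_mem t htN x
  have hs2 : s ^ 2 = 1 := by rw [hs, conj_pow, ht2]; group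
  obtain ⟨u, hu1, hut, hus⟩ := exists_common N e hidx t s htN hsN ht1 ht2 hs2
  intro hbot
  apply hu1
  have hmem : u ∈ (H : Subgroup G) ⊓ MulAut.conj x • (H : Subgroup G) := by
    constructor
    · show u ∈ (H : Subgroup G)
      rw [hHC, Subgroup.mem_centralizer_singleton_iff]
      exact hut
    · show u ∈ MulAut.conj x • (H : Subgroup G)
      rw [Subgroup.mem_pointwise_smul_iff_inv_smul_mem, hHC,
        Subgroup.mem_centralizer_singleton_iff]
      have hsm : (MulAut.conj x)⁻¹ • u = x⁻¹ * u * x := by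
        rw [MulAut.smul_def, ← map_inv, MulAut.conj_apply, inv_inv]
      rw [hsm]
      have hus' : u * (x * t * x⁻¹) = (x * t * x⁻¹) * u := hus
      calc x⁻¹ * u * x * t = x⁻¹ * (u * (x * t * x⁻¹)) * x := by group
        _ = x⁻¹ * ((x * t * x⁻¹) * u) * x := by rw [hus']
        _ = t * (x⁻¹ * u * x) := by group
  rw [hbot, Subgroup.mem_bot] at hmem
  exact hmem

end main

end Cfsg.Agent.Helper8.A6Syl
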