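import Mathlib

set_option autoImplicit false

/-!
An abstract counting lemma: a group of order 2520 acting on 15 points so that elements of
order 7 fix at most one point, elements of order 5 fix none and involutions act nontrivially
is 2-transitive.
-/

namespace Cfsg.Agent.Helper8.A7GL4

open MulAction

section abstract

variable {H : Type*} [Group H]

theorem mem_fixed_zpowers_iff (x : H) {α : Type*} [MulAction H α] (a : α) :
    a ∈ fixedPoints (Subgroup.zpowers x) α ↔ x • a = a := by
  constructor
  · intro h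
    exact h ⟨x, Subgroup.mem_zpowers x⟩
  · intro h g
    obtain ⟨g, hg⟩ := g
    have hx : x ∈ stabilizer H a := h
    have hle : Subgroup.zpowers x ≤ stabilizer H a := by
      rw [Subgroup.zpowers_le]; exact hx
    exact hle hg

theorem card_modEq_fixed (x : H) (p : ℕ) [Fact p.Prime] (hx : orderOf x = p)
    (α : Type*) [MulAction H α] [Finite α] :
    Nat.card α ≡ Nat.card {a : α // x • a = a} [MOD p] := by
  have hP : IsPGroup p (Subgroup.zpowers x) :=
    IsPGroup.of_card (n := 1) (by rw [Nat.card_zpowers, hx, pow_one])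
  have h := hP.card_modEq_card_fixedPoints α
  have e : (fixedPoints (Subgroup.zpowers x) α) ≃ {a : α // x • a = a} :=
    Equiv.subtypeEquivRight (fun a => mem_fixed_zpowers_iff x a)
  rwa [Nat.card_congr e] at h

theorem card_orbit_mul [Finite H] {α : Type*} [MulAction H α] (a : α) :
    Nat.card (orbit H a) * Nat.card (stabilizer H a) = Nat.card H := by
  rw [Nat.card_congr (orbitEquivQuotientStabilizer H a),
    ← Subgroup.card_eq_card_quotient_mul_card_subgroup]

variable {X : Type*} [Finite H] [Finite X] [MulAction H X]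

theorem two_trans (hH : Nat.card H = 2520) (hX : Nat.card X = 15)
    (h7 : ∀ x : H, orderOf x = 7 → ∀ a b : X, x • a = a → x • b = b → a = b)
    (h5 : ∀ x : H, orderOf x = 5 → ∀ a : X, x • a ≠ a)
    (h2 : ∀ x : H, orderOf x = 2 → ∃ a : X, x • a ≠ a)
    (v w v' w' : X) (hvw : v ≠ w) (hvw' : v' ≠ w') : ∃ g : H, g • v = v' ∧ g • w = w' := by
  classical
  have : Fact (Nat.Prime 7) := ⟨by norm_num⟩
  have : Fact (Nat.Prime 5) := ⟨by norm_num⟩
  have : Fact (Nat.Prime 2) := ⟨by norm_num⟩
  obtain ⟨x7, hx7⟩ := exists_prime_orderOf_dvd_card' (G := H) 7 (by rw [hH]; norm_num)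
  obtain ⟨x5, hx5⟩ := exists_prime_orderOf_dvd_card' (G := H) 5 (by rw [hH]; norm_num)
  obtain ⟨x2, hx2⟩ := exists_prime_orderOf_dvd_card' (G := H) 2 (by rw [hH]; norm_num)
  -- step 1: all orbits on X have 15 elements
  have horb : ∀ a : X, Nat.card (orbit H a) = 15 := by
    intro a
    have hle : Nat.card (orbit H a) ≤ 15 :=
      hX ▸ Nat.card_le_card_of_injective (Subtype.val : orbit H a → X) Subtype.val_injective
    have : Nonempty (orbit H a) := ⟨⟨a, mem_orbit_self a⟩⟩
    have hpos : 0 < Nat.card (orbit H a) := Nat.card_pos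
    have m5 := card_modEq_fixed x5 5 hx5 (orbit H a)
    have m7 := card_modEq_fixed x7 7 hx7 (orbit H a)
    have e5 : Nat.card {b : orbit H a // x5 • b = b} = 0 := by
      rw [Nat.card_eq_zero]
      left
      constructor
      rintro ⟨b, hb⟩
      exact h5 x5 hx5 b.1 (congrArg Subtype.val hb)
    have e7 : Nat.card {b : orbit H a // x7 • b = b} ≤ 1 := by
      apply Finite.card_le_one_iff_subsingleton.2
      constructor
      rintro ⟨b, hb⟩ ⟨c, hc⟩
      apply Subtype.ext
      apply Subtype.ext
      exact h7 x7 hx7 b.1 c.1 (congrArg Subtype.val hb) (congrArg Subtype.val hc)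
    rw [e5] at m5
    unfold Nat.ModEq at m5 m7
    have h3 : Nat.card (orbit H a) = 5 ∨ Nat.card (orbit H a) = 10 ∨
        Nat.card (orbit H a) = 15 := by omega
    rcases h3 with h | h | h
    · rw [h] at m7; omega
    · rw [h] at m7; omega
    · exact h
  -- step 2: the pair orbit
  obtain ⟨a, ha⟩ := h2 x2 hx2
  set b : X := x2 • a with hb
  have hba : x2 • b = a := by
    rw [hb, ← mul_smul, ← pow_two, ← hx2, pow_orderOf_eq_one, one_smul]
  set D : Set (X × X) := orbit H ((a, b) : X × X) with hD
  have hDne : ∀ p ∈ D, p.1 ≠ p.2 := by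
    rintro p ⟨g, rfl⟩ h
    apply ha
    have : g • a = g • b := h
    exact (smul_left_cancel g this).symm
  have hswap : ∀ p ∈ D, p.swap ∈ D := by
    rintro p ⟨g, rfl⟩
    refine ⟨g * x2, ?_⟩
    show (g * x2) • ((a, b) : X × X) = (g • ((a, b) : X × X)).swap
    rw [mul_smul]
    have : x2 • ((a, b) : X × X) = (b, a) := by
      rw [Prod.smul_mk, hba]
    rw [this]
    rfl
  -- cardinality bound
  have hoff : ({p : X × X | p.1 ≠ p.2} : Set (X × X)).ncard = 210 := by
    haveI := Fintype.ofFinite X
    have : ({p : X × X | p.1 ≠ p.2} : Set (X × X)) = ((Finset.univ : Finset X).offDiag : Set (X × X)) := by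
      ext p
      simp
    rw [this, Set.ncard_coe_finset, Finset.offDiag_card, Finset.card_univ,
      ← Nat.card_eq_fintype_card, hX]
  have hDsub : D ⊆ {p : X × X | p.1 ≠ p.2} := fun p hp => hDne p hp
  have hDle : Nat.card D ≤ 210 := by
    rw [Nat.card_coe_set_eq, ← hoff]
    exact Set.ncard_le_ncard hDsub (Set.toFinite _)
  have : Nonempty D := ⟨⟨(a, b), mem_orbit_self _⟩⟩
  have hDpos : 0 < Nat.card D := Nat.card_pos
  -- 7 ∣ card D
  have d7 : 7 ∣ Nat.card D := by
    have m7 := card_modEq_fixed x7 7 hx7 (orbit H ((a, b) : X × X))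
    have e7 : Nat.card {p : orbit H ((a, b) : X × X) // x7 • p = p} = 0 := by
      rw [Nat.card_eq_zero]
      left
      constructor
      rintro ⟨p, hp⟩
      have hp' : x7 • (p : X × X) = p := congrArg Subtype.val hp
      have h1 : x7 • (p : X × X).1 = (p : X × X).1 := congrArg Prod.fst hp'
      have h2' : x7 • (p : X × X).2 = (p : X × X).2 := congrArg Prod.snd hp'
      exact hDne p.1 p.2 (h7 x7 hx7 _ _ h1 h2')
    rw [e7] at m7
    exact (Nat.modEq_zero_iff_dvd).1 m7
  -- 2 ∣ card D
  have d2 : 2 ∣ Nat.card D := by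
    haveI := Fintype.ofFinite D
    let σ : Equiv.Perm D :=
      { toFun := fun p => ⟨p.1.swap, hswap p.1 p.2⟩
        invFun := fun p => ⟨p.1.swap, hswap p.1 p.2⟩
        left_inv := fun p => Subtype.ext (Prod.swap_swap _)
        right_inv := fun p => Subtype.ext (Prod.swap_swap _) }
    have hσ2 : σ ^ 2 = 1 := by
      ext p : 1
      rw [pow_two, Equiv.Perm.mul_apply, Equiv.Perm.one_apply]
      exact Subtype.ext (Prod.swap_swap _)
    have hsupp : σ.support = Finset.univ := by
      rw [Finset.eq_univ_iff_forall]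
      intro p
      rw [Equiv.Perm.mem_support]
      intro h
      have h' : (p : X × X).swap = p := congrArg Subtype.val h
      apply hDne p.1 p.2
      have := congrArg Prod.fst h'
      simpa using this.symm
    have := Equiv.Perm.two_dvd_card_support hσ2
    rwa [hsupp, Finset.card_univ, ← Nat.card_eq_fintype_card] at this
  -- 15 ∣ card D
  have d15 : 15 ∣ Nat.card D := by
    have h1 := card_orbit_mul (H := H) ((a, b) : X × X)
    have h2' := card_orbit_mul (H := H) a
    rw [horb a, hH] at h2'
    rw [hH] at h1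
    have hle : stabilizer H ((a, b) : X × X) ≤ stabilizer H a := by
      intro g hg
      rw [mem_stabilizer_iff] at hg ⊢
      exact congrArg Prod.fst hg
    obtain ⟨k, hk⟩ := Subgroup.card_dvd_of_le hle
    have hs : Nat.card (stabilizer H a) = 168 := by omega
    rw [hs] at hk
    have hspos : 0 < Nat.card (stabilizer H ((a, b) : X × X)) := Nat.card_pos
    refine ⟨k, ?_⟩
    have : Nat.card D * Nat.card (stabilizer H ((a, b) : X × X))
        = (15 * k) * Nat.card (stabilizer H ((a, b) : X × X)) := by
      rw [h1]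
      calc 2520 = 15 * 168 := by norm_num
        _ = 15 * (Nat.card (stabilizer H ((a, b) : X × X)) * k) := by rw [hk]
        _ = _ := by ring
    exact Nat.eq_of_mul_eq_mul_right hspos this
  have hDcard : Nat.card D = 210 := by omega
  have hDeq : D = {p : X × X | p.1 ≠ p.2} := by
    apply Set.eq_of_subset_of_ncard_le hDsub _ (Set.toFinite _)
    rw [hoff, ← Nat.card_coe_set_eq, hDcard]
  have m1 : ((v, w) : X × X) ∈ D := by rw [hDeq]; exact hvw
  have m2 : ((v', w') : X × X) ∈ D := by rw [hDeq]; exact hvw'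
  obtain ⟨g1, hg1⟩ := m1
  obtain ⟨g2, hg2⟩ := m2
  refine ⟨g2 * g1⁻¹, ?_⟩
  have hg1' : g1 • ((a, b) : X × X) = (v, w) := hg1
  have hg2' : g2 • ((a, b) : X × X) = (v', w') := hg2
  have key : (g2 * g1⁻¹) • ((v, w) : X × X) = (v', w') := by
    rw [← hg1', ← mul_smul, inv_mul_cancel_right, hg2']
  exact ⟨congrArg Prod.fst key, congrArg Prod.snd key⟩

end abstract

end Cfsg.Agent.Helper8.A7GL4
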