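import Mathlib
import Cfsg.Agent.S0256
import Cfsg.Agent.Helper8.A7GL4A

set_option autoImplicit false

/-!
Subgroups of `GL₄(2)` isomorphic to `A₇` are 2-transitive on nonzero vectors.
-/

namespace Cfsg.Agent.Helper8.A7GL4

open MulAction

section concrete

variable {F : Type*} [Field F]

/-- nonzero vectors of `F⁴` -/
structure NZ (F : Type*) [Field F] where
  val : Fin 4 → F
  ne : val ≠ 0

theorem NZ.ext' {v w : NZ F} (h : v.val = w.val) : v = w := by
  cases v; cases w; cases h; rfl

theorem inv_mul_coe (g : GL (Fin 4) F) :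
    ((g⁻¹ : GL (Fin 4) F) : Matrix (Fin 4) (Fin 4) F) * (g : Matrix (Fin 4) (Fin 4) F) = 1 := by
  rw [← Units.val_mul, inv_mul_cancel, Units.val_one]

instance : MulAction (GL (Fin 4) F) (NZ F) where
  smul g v := ⟨(g : Matrix (Fin 4) (Fin 4) F).mulVec v.val, fun h => v.ne (by
    have := congrArg ((g⁻¹ : GL (Fin 4) F) : Matrix (Fin 4) (Fin 4) F).mulVec h
    rwa [Matrix.mulVec_mulVec, inv_mul_coe, Matrix.one_mulVec, Matrix.mulVec_zero] at this)⟩
  one_smul v := NZ.ext' (Matrix.one_mulVec _)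
  mul_smul g h v := NZ.ext' (by
    show ((g * h : GL (Fin 4) F) : Matrix (Fin 4) (Fin 4) F).mulVec v.val
      = (g : Matrix (Fin 4) (Fin 4) F).mulVec ((h : Matrix (Fin 4) (Fin 4) F).mulVec v.val)
    rw [Matrix.mulVec_mulVec, Units.val_mul])

theorem smul_val (g : GL (Fin 4) F) (v : NZ F) :
    (g • v).val = (g : Matrix (Fin 4) (Fin 4) F).mulVec v.val := rfl

/-- `NZ F` as a subtype -/
def nzEquiv : NZ F ≃ {v : Fin 4 → F // v ≠ 0} where
  toFun v := ⟨v.val, v.ne⟩
  invFun v := ⟨v.1, v.2⟩
  left_inv _ := rfl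
  right_inv _ := rfl

variable [Fintype F]

instance : Finite (NZ F) := Finite.of_equiv _ nzEquiv.symm

theorem card_vec (hF : Fintype.card F = 2) : Nat.card (Fin 4 → F) = 16 := by
  rw [Nat.card_eq_fintype_card, Fintype.card_fun, hF, Fintype.card_fin]
  norm_num

theorem card_ne_zero_sub {A : Type*} [AddGroup A] [Finite A] :
    Nat.card {v : A // v ≠ 0} + 1 = Nat.card A := by
  classical
  haveI := Fintype.ofFinite A
  rw [Nat.card_eq_fintype_card, Nat.card_eq_fintype_card]
  have h := Fintype.card_subtype_compl (fun v : A => v = 0)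
  have h1 : Fintype.card {v : A // v = 0} = 1 := Fintype.card_subtype_eq 0
  rw [h1] at h
  have hpos : 0 < Fintype.card A := Fintype.card_pos
  have : Fintype.card {v : A // v ≠ 0} = Fintype.card {v : A // ¬ v = 0} := rfl
  omega

theorem card_NZ (hF : Fintype.card F = 2) : Nat.card (NZ F) = 15 := by
  rw [Nat.card_congr nzEquiv]
  have := card_ne_zero_sub (A := Fin 4 → F)
  rw [card_vec hF] at this
  omega

/-- the additive group of fixed vectors -/
def fixSub (g : GL (Fin 4) F) : AddSubgroup (Fin 4 → F) where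
  carrier := {v | (g : Matrix (Fin 4) (Fin 4) F).mulVec v = v}
  zero_mem' := Matrix.mulVec_zero _
  add_mem' := fun {a b} ha hb => by
    show (g : Matrix (Fin 4) (Fin 4) F).mulVec (a + b) = a + b
    rw [Matrix.mulVec_add, ha, hb]
  neg_mem' := fun {a} ha => by
    show (g : Matrix (Fin 4) (Fin 4) F).mulVec (-a) = -a
    rw [Matrix.mulVec_neg, ha]

theorem mem_fixSub (g : GL (Fin 4) F) (v : Fin 4 → F) :
    v ∈ fixSub g ↔ (g : Matrix (Fin 4) (Fin 4) F).mulVec v = v := Iff.rfl

/-- nonzero fixed vectors -/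
def fixEquiv (g : GL (Fin 4) F) : {v : NZ F // g • v = v} ≃ {w : fixSub g // w ≠ 0} where
  toFun v := ⟨⟨v.1.val, congrArg NZ.val v.2⟩, fun h => v.1.ne (congrArg Subtype.val h)⟩
  invFun w := ⟨⟨w.1.1, fun h => w.2 (Subtype.ext h)⟩, NZ.ext' w.1.2⟩
  left_inv _ := rfl
  right_inv _ := rfl

theorem fix_card_dvd (hF : Fintype.card F = 2) (g : GL (Fin 4) F) :
    (Nat.card {v : NZ F // g • v = v} + 1) ∣ 16 := by
  rw [Nat.card_congr (fixEquiv g), card_ne_zero_sub, ← card_vec hF]
  exact AddSubgroup.card_addSubgroup_dvd_card _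

theorem eq_one_of_fix_all (g : GL (Fin 4) F) (h : ∀ v : NZ F, g • v = v) : g = 1 := by
  apply Units.ext
  apply Matrix.mulVec_injective
  funext v
  rw [Units.val_one, Matrix.one_mulVec]
  by_cases hv : v = 0
  · rw [hv, Matrix.mulVec_zero]
  · exact congrArg NZ.val (h ⟨v, hv⟩)

theorem fix_card_lt (hF : Fintype.card F = 2) (g : GL (Fin 4) F) (hg : g ≠ 1) :
    Nat.card {v : NZ F // g • v = v} ≠ 15 := by
  intro h
  apply hg
  apply eq_one_of_fix_all
  intro v
  by_contra hv
  -- the fixed set is a proper subset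
  have hlt : Nat.card {v : NZ F // g • v = v} < Nat.card (NZ F) := by
    haveI := Fintype.ofFinite (NZ F)
    classical
    rw [Nat.card_eq_fintype_card, Nat.card_eq_fintype_card]
    exact Fintype.card_subtype_lt hv
  rw [card_NZ hF] at hlt
  omega

theorem fix_seven (hF : Fintype.card F = 2) (g : GL (Fin 4) F) (hg : orderOf g = 7)
    (a b : NZ F) (ha : g • a = a) (hb : g • b = b) : a = b := by
  haveI : Fact (Nat.Prime 7) := ⟨by norm_num⟩
  have m := card_modEq_fixed g 7 hg (NZ F)
  rw [card_NZ hF] at m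
  have hd := fix_card_dvd hF g
  have hne : g ≠ 1 := by
    rintro rfl
    rw [orderOf_one] at hg
    omega
  have hlt := fix_card_lt hF g hne
  have hle : Nat.card {v : NZ F // g • v = v} ≤ 1 := by
    obtain ⟨k, hk, hk2⟩ := (Nat.dvd_prime_pow Nat.prime_two (i := Nat.card {v : NZ F // g • v = v} + 1) (m := 4)).1
      (by norm_num; exact hd)
    unfold Nat.ModEq at m
    interval_cases k <;> omega
  have hsub := Finite.card_le_one_iff_subsingleton.1 hle
  have := hsub.elim ⟨a, ha⟩ ⟨b, hb⟩
  exact congrArg Subtype.val this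

theorem fix_five (hF : Fintype.card F = 2) (g : GL (Fin 4) F) (hg : orderOf g = 5)
    (a : NZ F) : g • a ≠ a := by
  haveI : Fact (Nat.Prime 5) := ⟨by norm_num⟩
  intro ha
  have m := card_modEq_fixed g 5 hg (NZ F)
  rw [card_NZ hF] at m
  have hd := fix_card_dvd hF g
  have hne : g ≠ 1 := by
    rintro rfl
    rw [orderOf_one] at hg
    omega
  have hlt := fix_card_lt hF g hne
  have hle : Nat.card {v : NZ F // g • v = v} = 0 := by
    obtain ⟨k, hk, hk2⟩ := (Nat.dvd_prime_pow Nat.prime_two (i := Nat.card {v : NZ F // g • v = v} + 1) (m := 4)).1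
      (by norm_num; exact hd)
    unfold Nat.ModEq at m
    interval_cases k <;> omega
  rw [Nat.card_eq_zero] at hle
  rcases hle with h | h
  · exact h.false ⟨a, ha⟩
  · exact h.false.elim

theorem fix_two (g : GL (Fin 4) F) (hg : orderOf g = 2) : ∃ a : NZ F, g • a ≠ a := by
  by_contra h
  push Not at h
  have := eq_one_of_fix_all g h
  rw [this, orderOf_one] at hg
  omega

theorem card_A7 : Nat.card (alternatingGroup (Fin 7)) = 2520 := by
  rw [nat_card_alternatingGroup, Nat.card_eq_fintype_card, Fintype.card_fin]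
  decide

theorem two_trans_sub (hF : Fintype.card F = 2) (H : Subgroup (GL (Fin 4) F))
    (e : H ≃* alternatingGroup (Fin 7)) (v w v' w' : Fin 4 → F) (hv : v ≠ 0) (hw : w ≠ 0)
    (hvw : v ≠ w) (hv' : v' ≠ 0) (hw' : w' ≠ 0) (hvw' : v' ≠ w') :
    ∃ g ∈ H, (g : Matrix (Fin 4) (Fin 4) F).mulVec v = v' ∧
      (g : Matrix (Fin 4) (Fin 4) F).mulVec w = w' := by
  haveI : Finite H := Finite.of_equiv _ e.symm.toEquiv
  have hH : Nat.card H = 2520 := by rw [Nat.card_congr e.toEquiv, card_A7]
  have key := two_trans (H := H) (X := NZ F) hH (card_NZ hF)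
    (fun x hx a b ha hb => fix_seven hF (x : GL (Fin 4) F) (by rwa [Subgroup.orderOf_coe]) a b ha hb)
    (fun x hx a => fix_five hF (x : GL (Fin 4) F) (by rwa [Subgroup.orderOf_coe]) a)
    (fun x hx => fix_two (x : GL (Fin 4) F) (by rwa [Subgroup.orderOf_coe]))
    ⟨v, hv⟩ ⟨w, hw⟩ ⟨v', hv'⟩ ⟨w', hw'⟩
    (fun h => hvw (congrArg NZ.val h)) (fun h => hvw' (congrArg NZ.val h))
  obtain ⟨g, h1, h2⟩ := key
  exact ⟨g.1, g.2, congrArg NZ.val h1, congrArg NZ.val h2⟩

end concrete

section existence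

variable {F : Type*} [Field F] [Fintype F]

theorem center_SL_eq_bot (hF : Fintype.card F = 2) :
    Subgroup.center (Matrix.SpecialLinearGroup (Fin 4) F) = ⊥ := by
  classical
  rw [eq_bot_iff]
  intro A hA
  rw [Matrix.SpecialLinearGroup.mem_center_iff] at hA
  obtain ⟨r, hr, hA⟩ := hA
  have hr0 : r ≠ 0 := by
    rintro rfl
    simp at hr
  have hu : Fintype.card Fˣ = 1 := by rw [Fintype.card_units, hF]
  have hr1 : r = 1 := by
    have hsub : Subsingleton Fˣ := Fintype.card_le_one_iff_subsingleton.1 hu.le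
    have := hsub.elim (Units.mk0 r hr0) 1
    exact congrArg Units.val this
  rw [Subgroup.mem_bot]
  apply Subtype.ext
  rw [← hA, hr1]
  simp

/-- `A₇ → A₈` -/
noncomputable def altEmb : alternatingGroup (Fin 7) →* alternatingGroup (Fin 8) :=
  ((Equiv.Perm.extendDomainHom (finSuccAboveEquiv (Fin.last 7))).comp
    (alternatingGroup (Fin 7)).subtype).codRestrict (alternatingGroup (Fin 8)) (by
      intro x
      rw [Equiv.Perm.mem_alternatingGroup]
      show Equiv.Perm.sign (Equiv.Perm.extendDomain (x : Equiv.Perm (Fin 7)) _) = 1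
      rw [Equiv.Perm.sign_extendDomain]
      exact Equiv.Perm.mem_alternatingGroup.1 x.2)

theorem altEmb_injective : Function.Injective altEmb := by
  intro x y h
  have h' := congrArg Subtype.val h
  apply Subtype.ext
  exact Equiv.Perm.extendDomainHom_injective _ h'

theorem exists_A7 (hF : Fintype.card F = 2) :
    ∃ H : Subgroup (GL (Fin 4) F), Nonempty (H ≃* alternatingGroup (Fin 7)) := by
  obtain ⟨e⟩ := Cfsg.Agent.S0256.result (F := F) hF
  have hbij : Function.Bijective
      (QuotientGroup.mk' (Subgroup.center (Matrix.SpecialLinearGroup (Fin 4) F))) := by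
    refine ⟨?_, QuotientGroup.mk'_surjective _⟩
    rw [← MonoidHom.ker_eq_bot_iff, QuotientGroup.ker_mk', center_SL_eq_bot hF]
  let q : Matrix.SpecialLinearGroup (Fin 4) F ≃*
      Matrix.ProjectiveSpecialLinearGroup (Fin 4) F := MulEquiv.ofBijective _ hbij
  let φ : alternatingGroup (Fin 7) →* GL (Fin 4) F :=
    (Matrix.SpecialLinearGroup.toGL).comp
      (q.symm.toMonoidHom.comp (e.symm.toMonoidHom.comp altEmb))
  have hφ : Function.Injective φ := by
    intro x y h
    apply altEmb_injective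
    apply e.symm.injective
    apply q.symm.injective
    apply Matrix.SpecialLinearGroup.toGL_injective
    exact h
  exact ⟨φ.range, ⟨(MonoidHom.ofInjective hφ).symm⟩⟩

end existence

end Cfsg.Agent.Helper8.A7GL4
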