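import Cfsg.Agent.Lead.AbAltC
set_option autoImplicit false

/-!
Arithmetic of the bounding function `g` for abelian subgroups of alternating groups:
strict inequalities needed for the analysis of the case of equality.
-/

namespace Cfsg.Agent.Helper8.AbConj

open Cfsg.Agent.Lead.AbAlt

/-- induction in steps of three, with base cases below nine -/
theorem ind9 {P : ℕ → Prop} (hbase : ∀ n, n < 9 → P n) (hstep : ∀ n, 6 ≤ n → P n → P (n + 3)) :
    ∀ n, P n := by
  intro n
  induction n using Nat.strong_induction_on with
  | _ n ih =>
    rcases Nat.lt_or_ge n 9 with h | h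
    · exact hbase n h
    · obtain ⟨k, rfl⟩ : ∃ k, n = k + 3 := ⟨n - 3, by omega⟩
      exact hstep k (by omega) (ih k (by omega))

theorem g_lt_succ : ∀ n, 2 ≤ n → g n < g (n + 1) := by
  apply ind9
  · intro n hn h2
    interval_cases n <;> decide
  · intro n hn ih _
    have h1 := g_add_three hn
    have h2 := g_add_three (n := n + 1) (by omega)
    have e : n + 3 + 1 = n + 1 + 3 := by ring
    rw [e, h1, h2]
    have := ih (by omega)
    omega

theorem g_strictMono {a b : ℕ} (ha : 2 ≤ a) (hab : a < b) : g a < g b := by
  induction b with
  | zero => omega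
  | succ b ih =>
    rcases Nat.lt_or_ge a b with h | h
    · exact lt_trans (ih h) (g_lt_succ b (by omega))
    · have : a = b := by omega
      subst this
      exact g_lt_succ a ha

theorem five_mul_g_lt : ∀ m, 1 ≤ m → 5 * g m < g (m + 5) := by
  apply ind9
  · intro n hn h2
    interval_cases n <;> decide
  · intro n hn ih _
    have h1 := g_add_three hn
    have h2 := g_add_three (n := n + 5) (by omega)
    have e : n + 3 + 5 = n + 5 + 3 := by ring
    rw [e, h1, h2]
    have := ih (by omega)
    omega

theorem f_lt_two_g : ∀ n, 3 ≤ n → f n < 2 * g n := by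
  apply ind9
  · intro n hn h2
    interval_cases n <;> decide
  · intro n hn ih _
    rw [g_add_three hn, f_add_three (by omega)]
    have := ih (by omega)
    omega

theorem lt_g : ∀ n, 6 ≤ n → n < g n := by
  apply ind9
  · intro n hn h2
    interval_cases n <;> decide
  · intro n hn ih _
    rw [g_add_three hn]
    have := ih hn
    omega

theorem g_eq_self {a : ℕ} (ha : 1 ≤ a) (h : g a = a) : a = 1 ∨ a = 3 ∨ a = 4 ∨ a = 5 := by
  rcases Nat.lt_or_ge a 6 with h6 | h6
  · interval_cases a
    · left; rfl
    · exfalso; revert h; decide
    · right; left; rfl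
    · right; right; left; rfl
    · right; right; right; rfl
  · have := lt_g a h6
    omega

theorem g_three : g 3 = 3 := by decide
theorem g_four : g 4 = 4 := by decide
theorem g_five : g 5 = 5 := by decide
theorem g_le_two {n : ℕ} (hn : n ≤ 2) : g n = 1 := by
  interval_cases n <;> decide

end Cfsg.Agent.Helper8.AbConj
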