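import Cfsg.Agent.Helper8.AbConjA
set_option autoImplicit false

/-!
Abelian groups of even permutations of the largest possible order: the splitting along an orbit.
-/

namespace Cfsg.Agent.Helper8.AbConj

open Cfsg.Agent.Lead.AbAlt Cfsg.Agent.Lead.NilpSym Cfsg.Agent.Lead.NilpAlt Equiv

variable {α β : Type}

/-- evenness of a permutation of a finite type, stated without instances -/
def Ev (σ : Perm α) : Prop := ∃ (_ : Fintype α) (_ : DecidableEq α), Perm.sign σ = 1

theorem ev_iff [i1 : Fintype α] [i2 : DecidableEq α] (σ : Perm α) : Ev σ ↔ Perm.sign σ = 1 := by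
  constructor
  · rintro ⟨j1, j2, h⟩
    have e1 : j1 = i1 := Subsingleton.elim _ _
    have e2 : j2 = i2 := Subsingleton.elim _ _
    subst e1
    subst e2
    exact h
  · intro h
    exact ⟨i1, i2, h⟩

/-- an abelian group of even permutations of the largest possible order -/
structure Mx (A : Subgroup (Perm α)) : Prop where
  even : ∀ g ∈ A, Ev g
  comm : ∀ a ∈ A, ∀ b ∈ A, a * b = b * a
  card : Nat.card A = g (Nat.card α)

/-- transport along a bijection -/
theorem Mx.map [Finite α] {A : Subgroup (Perm α)} (hA : Mx A) (e : α ≃ β) :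
    Mx (A.map e.permCongrHom.toMonoidHom) := by
  classical
  have : Fintype α := Fintype.ofFinite α
  have : Finite β := Finite.of_equiv α e
  have : Fintype β := Fintype.ofFinite β
  refine ⟨?_, ?_, ?_⟩
  · rintro _ ⟨a, ha, rfl⟩
    rw [ev_iff]
    show Perm.sign (e.permCongr a) = 1
    rw [Perm.sign_permCongr]
    exact (ev_iff a).mp (hA.even a ha)
  · rintro _ ⟨a, ha, rfl⟩ _ ⟨b, hb, rfl⟩
    rw [← map_mul, ← map_mul, hA.comm a ha b hb]
  · rw [Subgroup.card_map_of_injective e.permCongrHom.injective, hA.card, Nat.card_congr e]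

theorem mem_map_permCongr {A : Subgroup (Perm α)} (e : α ≃ β) (σ : Perm α) :
    e.permCongr σ ∈ A.map e.permCongrHom.toMonoidHom ↔ σ ∈ A := by
  constructor
  · rintro ⟨a, ha, h⟩
    have : a = σ := e.permCongrHom.injective h
    rw [← this]
    exact ha
  · intro h
    exact ⟨σ, h, rfl⟩

/-- restriction to the orbit of `x` -/
def R1 (A : Subgroup (Perm α)) (x : α) : A →* Perm {z // orbPred A x z} :=
  resHom A (orbPred A x) (orbPred_inv A x)

theorem orbPred_inv' (A : Subgroup (Perm α)) (x : α) :
    ∀ g ∈ A, ∀ z, ¬ orbPred A x (g z) ↔ ¬ orbPred A x z :=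
  fun g hg z => not_congr (orbPred_inv A x g hg z)

/-- restriction to the complement of the orbit of `x` -/
def R2 (A : Subgroup (Perm α)) (x : α) : A →* Perm {z // ¬ orbPred A x z} :=
  resHom A (fun z => ¬ orbPred A x z) (orbPred_inv' A x)

theorem R1_apply (A : Subgroup (Perm α)) (x : α) (g : A) (z : {z // orbPred A x z}) :
    ((R1 A x g z : {z // orbPred A x z}) : α) = (g : Perm α) z := rfl

theorem R2_apply (A : Subgroup (Perm α)) (x : α) (g : A) (z : {z // ¬ orbPred A x z}) :
    ((R2 A x g z : {z // ¬ orbPred A x z}) : α) = (g : Perm α) z := rfl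

theorem eq_of_R (A : Subgroup (Perm α)) (x : α) {σ τ : A} (h1 : R1 A x σ = R1 A x τ)
    (h2 : R2 A x σ = R2 A x τ) : σ = τ := by
  apply Subtype.ext
  ext z
  by_cases hz : orbPred A x z
  · have := congrArg (fun f : Perm {z // orbPred A x z} => ((f ⟨z, hz⟩ : {z // orbPred A x z}) : α)) h1
    exact this
  · have := congrArg
      (fun f : Perm {z // ¬ orbPred A x z} => ((f ⟨z, hz⟩ : {z // ¬ orbPred A x z}) : α)) h2
    exact this

theorem R1_transitive (A : Subgroup (Perm α)) (x : α) (z w : {z // orbPred A x z}) :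
    ∃ u ∈ (R1 A x).range, u z = w := by
  obtain ⟨a, ha, hz⟩ := z.2
  obtain ⟨b, hb, hw⟩ := w.2
  refine ⟨R1 A x ⟨b * a⁻¹, A.mul_mem hb (A.inv_mem ha)⟩, ⟨_, rfl⟩, ?_⟩
  apply Subtype.ext
  rw [R1_apply]
  show (b * a⁻¹) (z : α) = w
  rw [← hz, ← hw]
  simp

theorem pos_of_mul_eq {x y X Y : ℕ} (hx : x ≤ X) (hy : y ≤ Y) (h : X * Y ≤ x * y) (hX : 0 < X)
    (hY : 0 < Y) : x = X ∧ y = Y := by
  constructor
  · by_contra hne
    have hlt : x < X := lt_of_le_of_ne hx hne
    have : x * y < X * Y := by
      calc x * y ≤ x * Y := Nat.mul_le_mul_left _ hy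
        _ < X * Y := Nat.mul_lt_mul_of_pos_right hlt hY
    omega
  · by_contra hne
    have hlt : y < Y := lt_of_le_of_ne hy hne
    have : x * y < X * Y := by
      calc x * y ≤ X * y := Nat.mul_le_mul_right _ hx
        _ < X * Y := Nat.mul_lt_mul_of_pos_left hlt hX
    omega

/-- the splitting of a largest abelian group of even permutations along an orbit -/
theorem split [Finite α] {A : Subgroup (Perm α)} (hA : Mx A) (hn : 3 ≤ Nat.card α) (x y : α)
    (hxy : ¬ orbPred A x y) :
    Mx (R1 A x).range ∧ Mx (R2 A x).range ∧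
      (∀ u ∈ (R1 A x).range, ∀ v ∈ (R2 A x).range, ∃ σ : A, R1 A x σ = u ∧ R2 A x σ = v) ∧
      g (Nat.card {z // orbPred A x z}) * g (Nat.card {z // ¬ orbPred A x z}) =
        g (Nat.card α) := by
  classical
  have : Fintype α := Fintype.ofFinite α
  set n := Nat.card α with hndef
  have hsum : Nat.card {z // orbPred A x z} + Nat.card {z // ¬ orbPred A x z} = n := by
    rw [hndef, ← Nat.card_sum]
    exact Nat.card_congr (Equiv.sumCompl (orbPred A x))
  have h1 : 0 < Nat.card {z // orbPred A x z} := by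
    have : Nonempty {z // orbPred A x z} := ⟨⟨x, orbPred_self A x⟩⟩
    exact Nat.card_pos
  have h2 : 0 < Nat.card {z // ¬ orbPred A x z} := by
    have : Nonempty {z // ¬ orbPred A x z} := ⟨⟨y, hxy⟩⟩
    exact Nat.card_pos
  set f1 := R1 A x with hf1
  set f2 := R2 A x with hf2
  let φ : A →* f1.range × f2.range := f1.rangeRestrict.prod f2.rangeRestrict
  have hφ1 : ∀ σ : A, ((φ σ).1 : Perm {z // orbPred A x z}) = f1 σ := fun σ => rfl
  have hφ2 : ∀ σ : A, ((φ σ).2 : Perm {z // ¬ orbPred A x z}) = f2 σ := fun σ => rfl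
  have hinj : Function.Injective φ := by
    intro σ τ h
    apply eq_of_R A x
    · have := congrArg (fun z : f1.range × f2.range => (z.1 : Perm {z // orbPred A x z})) h
      exact this
    · have := congrArg (fun z : f1.range × f2.range => (z.2 : Perm {z // ¬ orbPred A x z})) h
      exact this
  have hle := Nat.card_le_card_of_injective _ hinj
  rw [Nat.card_prod] at hle
  have c1 := range_comm A hA.comm f1
  have c2 := range_comm A hA.comm f2
  have hs : Function.Surjective φ := by
    by_contra hs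
    have hr : φ.range ≠ ⊤ := by rwa [Ne, MonoidHom.range_eq_top]
    have h2' := two_mul_card_le_of_ne_top φ.range hr
    have hcard : Nat.card A = Nat.card φ.range :=
      Nat.card_congr (MonoidHom.ofInjective hinj).toEquiv
    rw [Nat.card_prod] at h2'
    have b1 : Nat.card f1.range ≤ f (Nat.card {z // orbPred A x z}) :=
      card_le_f _ _ rfl f1.range c1
    have b2 : Nat.card f2.range ≤ f (Nat.card {z // ¬ orbPred A x z}) :=
      card_le_f _ _ rfl f2.range c2
    have h3 : 2 * Nat.card A ≤ f n := by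
      calc 2 * Nat.card A = 2 * Nat.card φ.range := by rw [hcard]
        _ ≤ _ := h2'
        _ ≤ f (Nat.card {z // orbPred A x z}) * f (Nat.card {z // ¬ orbPred A x z}) :=
            Nat.mul_le_mul b1 b2
        _ ≤ f (Nat.card {z // orbPred A x z} + Nat.card {z // ¬ orbPred A x z}) :=
            f_supermul _ _
        _ = f n := by rw [hsum]
    have h4 := f_lt_two_g n hn
    rw [hA.card, ← hndef] at h3
    omega
  have sgn : ∀ g ∈ A, Perm.sign g = 1 := fun g hg => (ev_iff g).mp (hA.even g hg)
  have alt1 : ∀ g ∈ f1.range, Perm.sign g = 1 := by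
    intro g₁ hg₁
    obtain ⟨σ, hσ⟩ := hs (⟨g₁, hg₁⟩, 1)
    have e1 : f1 σ = g₁ := by
      have := congrArg (fun z : f1.range × f2.range => (z.1 : Perm {z // orbPred A x z})) hσ
      exact this
    have e2 : f2 σ = 1 := by
      have := congrArg (fun z : f1.range × f2.range => (z.2 : Perm {z // ¬ orbPred A x z})) hσ
      exact this
    have hfix : ∀ z, (σ : Perm α) z ≠ z → orbPred A x z := by
      intro z hz
      by_contra hnz
      apply hz
      have := congrArg
        (fun f : Perm {z // ¬ orbPred A x z} => ((f ⟨z, hnz⟩ : {z // ¬ orbPred A x z}) : α)) e2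
      exact this
    rw [← e1]
    have := Perm.sign_subtypePerm (σ : Perm α) (fun z => orbPred_inv A x σ σ.2 z) hfix
    rw [show f1 σ = (σ : Perm α).subtypePerm (fun z => orbPred_inv A x σ σ.2 z) from rfl, this]
    exact sgn σ σ.2
  have alt2 : ∀ g ∈ f2.range, Perm.sign g = 1 := by
    intro g₂ hg₂
    obtain ⟨σ, hσ⟩ := hs (1, ⟨g₂, hg₂⟩)
    have e1 : f1 σ = 1 := by
      have := congrArg (fun z : f1.range × f2.range => (z.1 : Perm {z // orbPred A x z})) hσ
      exact this
    have e2 : f2 σ = g₂ := by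
      have := congrArg (fun z : f1.range × f2.range => (z.2 : Perm {z // ¬ orbPred A x z})) hσ
      exact this
    have hfix : ∀ z, (σ : Perm α) z ≠ z → ¬ orbPred A x z := by
      intro z hz hnz
      apply hz
      have := congrArg
        (fun f : Perm {z // orbPred A x z} => ((f ⟨z, hnz⟩ : {z // orbPred A x z}) : α)) e1
      exact this
    rw [← e2]
    have := Perm.sign_subtypePerm (σ : Perm α) (fun z => orbPred_inv' A x σ σ.2 z) hfix
    rw [show f2 σ = (σ : Perm α).subtypePerm (fun z => orbPred_inv' A x σ σ.2 z) from rfl, this]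
    exact sgn σ σ.2
  have b1 : Nat.card f1.range ≤ g (Nat.card {z // orbPred A x z}) :=
    card_le_g _ _ rfl f1.range alt1 c1
  have b2 : Nat.card f2.range ≤ g (Nat.card {z // ¬ orbPred A x z}) :=
    card_le_g _ _ rfl f2.range alt2 c2
  have hsm : g (Nat.card {z // orbPred A x z}) * g (Nat.card {z // ¬ orbPred A x z}) ≤ g n := by
    have := g_supermul _ _ h1 h2
    rw [hsum] at this
    exact this
  rw [hA.card, ← hndef] at hle
  have hkey := pos_of_mul_eq b1 b2 (le_trans hsm hle) (g_pos _) (g_pos _)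
  refine ⟨⟨fun u hu => (ev_iff u).mpr (alt1 u hu), c1, hkey.1⟩,
    ⟨fun u hu => (ev_iff u).mpr (alt2 u hu), c2, hkey.2⟩, ?_, ?_⟩
  · intro u hu v hv
    obtain ⟨σ, hσ⟩ := hs (⟨u, hu⟩, ⟨v, hv⟩)
    refine ⟨σ, ?_, ?_⟩
    · have := congrArg (fun z : f1.range × f2.range => (z.1 : Perm {z // orbPred A x z})) hσ
      exact this
    · have := congrArg (fun z : f1.range × f2.range => (z.2 : Perm {z // ¬ orbPred A x z})) hσ
      exact this
  · apply le_antisymm hsm
    calc g n ≤ Nat.card f1.range * Nat.card f2.range := hle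
      _ ≤ _ := Nat.mul_le_mul b1 b2

end Cfsg.Agent.Helper8.AbConj
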