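import Cfsg.Agent.Helper8.AbConjB
set_option autoImplicit false

/-!
Abelian groups of even permutations of the largest possible order: orbit sizes, uniqueness in
degrees three and four, conjugacy in degree five.
-/

namespace Cfsg.Agent.Helper8.AbConj

open Cfsg.Agent.Lead.AbAlt Cfsg.Agent.Lead.NilpSym Cfsg.Agent.Lead.NilpAlt Equiv

variable {α β : Type}

theorem card_of_transitive [Finite α] {A : Subgroup (Perm α)} (hA : Mx A) (a₀ : α)
    (htr : ∀ y, orbPred A a₀ y) : g (Nat.card α) = Nat.card α := by
  have htr' : ∀ x y : α, ∃ g ∈ A, g x = y := by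
    intro x y
    obtain ⟨a, ha, hx⟩ := htr x
    obtain ⟨b, hb, hy⟩ := htr y
    refine ⟨b * a⁻¹, A.mul_mem hb (A.inv_mem ha), ?_⟩
    rw [← hx, ← hy]
    simp
  have h1 := trans_card_le A hA.comm htr' a₀
  have h2 : Nat.card α ≤ Nat.card A := by
    apply Nat.card_le_card_of_surjective (fun σ : A => (σ : Perm α) a₀)
    intro y
    obtain ⟨a, ha, hy⟩ := htr y
    exact ⟨⟨a, ha⟩, hy⟩
  rw [hA.card] at h1 h2
  omega

theorem orbit_card [Finite α] {A : Subgroup (Perm α)} (hA : Mx A) (hn : 6 ≤ Nat.card α) (x : α) :
    (Nat.card {z // orbPred A x z} = 3 ∨ Nat.card {z // orbPred A x z} = 4) ∧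
      ∃ y, ¬ orbPred A x y := by
  classical
  have hnt : ∃ y, ¬ orbPred A x y := by
    by_contra hcon
    push Not at hcon
    have := card_of_transitive hA x hcon
    have := lt_g _ hn
    omega
  refine ⟨?_, hnt⟩
  obtain ⟨y, hy⟩ := hnt
  obtain ⟨m1, m2, -, hg⟩ := split hA (by omega) x y hy
  have hsum : Nat.card {z // orbPred A x z} + Nat.card {z // ¬ orbPred A x z} = Nat.card α := by
    rw [← Nat.card_sum]
    exact Nat.card_congr (Equiv.sumCompl (orbPred A x))
  have h1 : 0 < Nat.card {z // orbPred A x z} := by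
    have : Nonempty {z // orbPred A x z} := ⟨⟨x, orbPred_self A x⟩⟩
    exact Nat.card_pos
  have htr : ∀ w : {z // orbPred A x z},
      orbPred (R1 A x).range (⟨x, orbPred_self A x⟩ : {z // orbPred A x z}) w := by
    intro w
    exact R1_transitive A x _ w
  have ha := card_of_transitive m1 _ htr
  set a := Nat.card {z // orbPred A x z} with hadef
  set b := Nat.card {z // ¬ orbPred A x z} with hbdef
  rcases g_eq_self h1 ha with h | h | h | h
  · exfalso
    rw [h] at hg hsum
    have e1 : g 1 = 1 := by decide
    rw [e1, one_mul] at hg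
    have := g_strictMono (a := b) (b := Nat.card α) (by omega) (by omega)
    omega
  · left; exact h
  · right; exact h
  · exfalso
    rw [h] at hg hsum
    rw [g_five] at hg
    have := five_mul_g_lt b (by omega)
    rw [show b + 5 = Nat.card α by omega] at this
    omega

theorem le_alt [Fintype α] [DecidableEq α] {A : Subgroup (Perm α)} (hA : Mx A) :
    A ≤ alternatingGroup α := by
  intro σ hσ
  rw [Perm.mem_alternatingGroup]
  exact (ev_iff σ).mp (hA.even σ hσ)

theorem card_alt [Fintype α] [DecidableEq α] (h2 : 2 ≤ Nat.card α) :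
    2 * Nat.card (alternatingGroup α) = (Nat.card α).factorial := by
  have : Nontrivial α := by
    rw [← Finite.one_lt_card_iff_nontrivial]
    omega
  rw [two_mul_nat_card_alternatingGroup, Nat.card_perm]

/-- uniqueness in degrees three and four -/
theorem uniq [Finite α] {A B : Subgroup (Perm α)} (hA : Mx A) (hB : Mx B)
    (h : Nat.card α = 3 ∨ Nat.card α = 4) : A = B := by
  classical
  have : Fintype α := Fintype.ofFinite α
  rcases h with h | h
  · have hc := card_alt (α := α) (by omega)
    rw [h] at hc
    have hc' : Nat.card (alternatingGroup α) = 3 := by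
      have : (3 : ℕ).factorial = 6 := by decide
      omega
    have eA : A = alternatingGroup α := by
      apply Subgroup.eq_of_le_of_card_ge (le_alt hA)
      rw [hA.card, h, hc', g_three]
    have eB : B = alternatingGroup α := by
      apply Subgroup.eq_of_le_of_card_ge (le_alt hB)
      rw [hB.card, h, hc', g_three]
    rw [eA, eB]
  · have : Fact (Nat.Prime 2) := ⟨Nat.prime_two⟩
    have hc := card_alt (α := α) (by omega)
    rw [h] at hc
    have hc' : Nat.card (alternatingGroup α) = 12 := by
      have : (4 : ℕ).factorial = 24 := by decide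
      omega
    have key : ∀ C : Subgroup (Perm α), Mx C →
        C.subgroupOf (alternatingGroup α) = alternatingGroup.kleinFour α := by
      intro C hC
      have hcard : Nat.card (C.subgroupOf (alternatingGroup α)) = 4 := by
        rw [Nat.card_congr (Subgroup.subgroupOfEquivOfLe (le_alt hC)).toEquiv, hC.card, h, g_four]
      have hp : IsPGroup 2 (C.subgroupOf (alternatingGroup α)) :=
        IsPGroup.of_card (n := 2) (by rw [hcard]; norm_num)
      have hidx : ¬ 2 ∣ (C.subgroupOf (alternatingGroup α)).index := by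
        have := (C.subgroupOf (alternatingGroup α)).card_mul_index
        rw [hcard, hc'] at this
        omega
      have := alternatingGroup.two_sylow_eq_kleinFour_of_card_eq_four h (hp.toSylow hidx)
      exact this
    have e := (key A hA).trans (key B hB).symm
    rw [Subgroup.subgroupOf_inj, inf_eq_left.mpr (le_alt hA), inf_eq_left.mpr (le_alt hB)] at e
    exact e

/-- conjugacy in degree five -/
theorem conj_five [Finite α] {A B : Subgroup (Perm α)} (hA : Mx A) (hB : Mx B)
    (h : Nat.card α = 5) :
    ∃ c : Perm α, Ev c ∧ ∀ σ : Perm α, σ ∈ A ↔ c * σ * c⁻¹ ∈ B := by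
  classical
  have : Fintype α := Fintype.ofFinite α
  have : Fact (Nat.Prime 5) := ⟨by norm_num⟩
  have hc := card_alt (α := α) (by omega)
  rw [h] at hc
  have hc' : Nat.card (alternatingGroup α) = 60 := by
    have : (5 : ℕ).factorial = 120 := by decide
    omega
  have key : ∀ C : Subgroup (Perm α), Mx C →
      ∃ P : Sylow 5 (alternatingGroup α), (P : Subgroup (alternatingGroup α)) =
        C.subgroupOf (alternatingGroup α) := by
    intro C hC
    have hcard : Nat.card (C.subgroupOf (alternatingGroup α)) = 5 := by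
      rw [Nat.card_congr (Subgroup.subgroupOfEquivOfLe (le_alt hC)).toEquiv, hC.card, h, g_five]
    have hp : IsPGroup 5 (C.subgroupOf (alternatingGroup α)) :=
      IsPGroup.of_card (n := 1) (by rw [hcard]; norm_num)
    have hidx : ¬ 5 ∣ (C.subgroupOf (alternatingGroup α)).index := by
      have := (C.subgroupOf (alternatingGroup α)).card_mul_index
      rw [hcard, hc'] at this
      omega
    exact ⟨hp.toSylow hidx, rfl⟩
  obtain ⟨P, hP⟩ := key A hA
  obtain ⟨Q, hQ⟩ := key B hB
  obtain ⟨c, hcPQ⟩ := MulAction.exists_smul_eq (alternatingGroup α) P Q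
  refine ⟨(c : Perm α), (ev_iff _).mpr (Perm.mem_alternatingGroup.mp c.2), ?_⟩
  have hmem : ∀ σ : alternatingGroup α, σ ∈ (P : Subgroup (alternatingGroup α)) ↔
      c * σ * c⁻¹ ∈ (Q : Subgroup (alternatingGroup α)) := by
    intro σ
    rw [← hcPQ, Sylow.coe_subgroup_smul, Subgroup.mem_pointwise_smul_iff_inv_smul_mem]
    simp [MulAut.smul_def, mul_assoc]
  have hcard : Nat.card A = Nat.card B := by rw [hA.card, hB.card]
  have hsub : A.map (MulAut.conj (c : Perm α)).toMonoidHom ≤ B := by
    rintro _ ⟨σ, hσ, rfl⟩
    have h1 : (⟨σ, le_alt hA hσ⟩ : alternatingGroup α) ∈ (P : Subgroup (alternatingGroup α)) := by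
      rw [hP, Subgroup.mem_subgroupOf]
      exact hσ
    have h2 := (hmem _).mp h1
    rw [hQ, Subgroup.mem_subgroupOf] at h2
    exact h2
  have heq : A.map (MulAut.conj (c : Perm α)).toMonoidHom = B := by
    apply Subgroup.eq_of_le_of_card_ge hsub
    rw [Subgroup.card_map_of_injective (MulAut.conj (c : Perm α)).injective, hcard]
  intro σ
  rw [← heq]
  constructor
  · intro hσ
    exact ⟨σ, hσ, rfl⟩
  · rintro ⟨τ, hτ, hτσ⟩
    have : τ = σ := (MulAut.conj (c : Perm α)).injective hτσ
    rw [← this]
    exact hτ

end Cfsg.Agent.Helper8.AbConj
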