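import Cfsg.Agent.Helper8.AbConjC
set_option autoImplicit false

/-!
Abelian groups of even permutations of the largest possible order: any two of them, on sets of
the same size, are carried to each other by a bijection.
-/

namespace Cfsg.Agent.Helper8.AbConj

open Cfsg.Agent.Lead.AbAlt Cfsg.Agent.Lead.NilpSym Cfsg.Agent.Lead.NilpAlt Equiv

variable {α β : Type}

section glue

variable {p : α → Prop} {q : β → Prop}

open Classical in
/-- gluing two bijections along complementary predicates -/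
noncomputable def glueEquiv (e₁ : {a // p a} ≃ {b // q b}) (e₂ : {a // ¬ p a} ≃ {b // ¬ q b}) :
    α ≃ β :=
  (Equiv.sumCompl p).symm.trans ((Equiv.sumCongr e₁ e₂).trans (Equiv.sumCompl q))

variable (e₁ : {a // p a} ≃ {b // q b}) (e₂ : {a // ¬ p a} ≃ {b // ¬ q b})

theorem glueEquiv_pos (a : α) (h : p a) : glueEquiv e₁ e₂ a = e₁ ⟨a, h⟩ := by
  classical
  unfold glueEquiv
  simp [Equiv.sumCompl_symm_apply_of_pos, h]

theorem glueEquiv_neg (a : α) (h : ¬ p a) : glueEquiv e₁ e₂ a = e₂ ⟨a, h⟩ := by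
  classical
  unfold glueEquiv
  simp [Equiv.sumCompl_symm_apply_of_neg, h]

theorem glueEquiv_symm_pos (b : β) (h : q b) : (glueEquiv e₁ e₂).symm b = e₁.symm ⟨b, h⟩ := by
  rw [Equiv.symm_apply_eq, glueEquiv_pos e₁ e₂ _ (e₁.symm ⟨b, h⟩).2]
  simp

theorem glueEquiv_symm_neg (b : β) (h : ¬ q b) : (glueEquiv e₁ e₂).symm b = e₂.symm ⟨b, h⟩ := by
  rw [Equiv.symm_apply_eq, glueEquiv_neg e₁ e₂ _ (e₂.symm ⟨b, h⟩).2]
  simp

theorem glueEquiv_mem_iff (a : α) : q (glueEquiv e₁ e₂ a) ↔ p a := by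
  by_cases h : p a
  · rw [glueEquiv_pos e₁ e₂ a h]
    exact iff_of_true (e₁ ⟨a, h⟩).2 h
  · rw [glueEquiv_neg e₁ e₂ a h]
    exact iff_of_false (e₂ ⟨a, h⟩).2 h

theorem glueEquiv_symm_mem_iff (b : β) : p ((glueEquiv e₁ e₂).symm b) ↔ q b := by
  rw [← glueEquiv_mem_iff e₁ e₂, Equiv.apply_symm_apply]

end glue

theorem mem_iff_of_split {A : Subgroup (Perm α)} (x : α)
    (hsur : ∀ u ∈ (R1 A x).range, ∀ v ∈ (R2 A x).range, ∃ σ : A, R1 A x σ = u ∧ R2 A x σ = v)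
    (σ : Perm α) :
    σ ∈ A ↔ ∃ (h : ∀ z, orbPred A x (σ z) ↔ orbPred A x z),
      σ.subtypePerm h ∈ (R1 A x).range ∧
        σ.subtypePerm (fun z => not_congr (h z)) ∈ (R2 A x).range := by
  constructor
  · intro hσ
    exact ⟨orbPred_inv A x σ hσ, ⟨⟨σ, hσ⟩, rfl⟩, ⟨⟨σ, hσ⟩, rfl⟩⟩
  · rintro ⟨h, h1, h2⟩
    obtain ⟨τ, hτ1, hτ2⟩ := hsur _ h1 _ h2
    have : (τ : Perm α) = σ := by
      ext z
      by_cases hz : orbPred A x z
      · have := congrArg
          (fun f : Perm {z // orbPred A x z} => ((f ⟨z, hz⟩ : {z // orbPred A x z}) : α)) hτ1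
        exact this
      · have := congrArg
          (fun f : Perm {z // ¬ orbPred A x z} => ((f ⟨z, hz⟩ : {z // ¬ orbPred A x z}) : α)) hτ2
        exact this
    rw [← this]
    exact τ.2

theorem map_eq_of_forall [Finite α] [Finite β] {A : Subgroup (Perm α)} {B : Subgroup (Perm β)}
    (e : α ≃ β) (hA : Mx A) (hB : Mx B) (h : ∀ σ ∈ A, e.permCongr σ ∈ B) :
    A.map e.permCongrHom.toMonoidHom = B := by
  have : Finite (Perm β) := inferInstance
  apply Subgroup.eq_of_le_of_card_ge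
  · rintro _ ⟨σ, hσ, rfl⟩
    exact h σ hσ
  · rw [Subgroup.card_map_of_injective e.permCongrHom.injective, hA.card, hB.card,
      Nat.card_congr e]

/-- the gluing step -/
theorem step [Finite α] [Finite β] {A : Subgroup (Perm α)} {B : Subgroup (Perm β)}
    (hA : Mx A) (hB : Mx B) (x : α) (y : β)
    (hsur : ∀ u ∈ (R1 B y).range, ∀ v ∈ (R2 B y).range, ∃ σ : B, R1 B y σ = u ∧ R2 B y σ = v)
    (e₁ : {z // orbPred A x z} ≃ {z // orbPred B y z})
    (e₂ : {z // ¬ orbPred A x z} ≃ {z // ¬ orbPred B y z})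
    (h1 : (R1 A x).range.map e₁.permCongrHom.toMonoidHom = (R1 B y).range)
    (h2 : (R2 A x).range.map e₂.permCongrHom.toMonoidHom = (R2 B y).range) :
    A.map (glueEquiv e₁ e₂).permCongrHom.toMonoidHom = B := by
  apply map_eq_of_forall _ hA hB
  intro σ hσ
  have hp := orbPred_inv A x σ hσ
  rw [mem_iff_of_split y hsur]
  have hq : ∀ w, orbPred B y ((glueEquiv e₁ e₂).permCongr σ w) ↔ orbPred B y w := by
    intro w
    show orbPred B y (glueEquiv e₁ e₂ (σ ((glueEquiv e₁ e₂).symm w))) ↔ _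
    exact (glueEquiv_mem_iff e₁ e₂ _).trans ((hp _).trans (glueEquiv_symm_mem_iff e₁ e₂ w))
  refine ⟨hq, ?_, ?_⟩
  · have e1 : ((glueEquiv e₁ e₂).permCongr σ).subtypePerm hq =
        e₁.permCongr (σ.subtypePerm hp) := by
      ext ⟨w, hw⟩
      show glueEquiv e₁ e₂ (σ ((glueEquiv e₁ e₂).symm w)) =
        ((e₁ ((σ.subtypePerm hp) (e₁.symm ⟨w, hw⟩)) : {z // orbPred B y z}) : β)
      rw [glueEquiv_symm_pos e₁ e₂ w hw,
        glueEquiv_pos e₁ e₂ _ ((hp _).mpr (e₁.symm ⟨w, hw⟩).2)]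
      rfl
    rw [e1, ← h1]
    exact ⟨σ.subtypePerm hp, ⟨⟨σ, hσ⟩, rfl⟩, rfl⟩
  · have e2 : ((glueEquiv e₁ e₂).permCongr σ).subtypePerm (fun z => not_congr (hq z)) =
        e₂.permCongr (σ.subtypePerm (fun z => not_congr (hp z))) := by
      ext ⟨w, hw⟩
      show glueEquiv e₁ e₂ (σ ((glueEquiv e₁ e₂).symm w)) =
        ((e₂ ((σ.subtypePerm (fun z => not_congr (hp z))) (e₂.symm ⟨w, hw⟩)) :
          {z // ¬ orbPred B y z}) : β)
      rw [glueEquiv_symm_neg e₁ e₂ w hw,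
        glueEquiv_neg e₁ e₂ _ ((not_congr (hp _)).mpr (e₂.symm ⟨w, hw⟩).2)]
      rfl
    rw [e2, ← h2]
    exact ⟨σ.subtypePerm (fun z => not_congr (hp z)), ⟨⟨σ, hσ⟩, rfl⟩, rfl⟩

end Cfsg.Agent.Helper8.AbConj
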