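import Cfsg.Agent.Helper8.AbConjD
set_option autoImplicit false

/-!
Abelian groups of even permutations of the largest possible order: the main induction.
-/

namespace Cfsg.Agent.Helper8.AbConj

open Cfsg.Agent.Lead.AbAlt Cfsg.Agent.Lead.NilpSym Cfsg.Agent.Lead.NilpAlt Equiv

variable {α β : Type}

theorem permCongr_trans_perm (e₀ : α ≃ β) (c : Perm β) (σ : Perm α) :
    (e₀.trans c).permCongr σ = c * e₀.permCongr σ * c⁻¹ := by
  ext w
  simp [Equiv.permCongr_apply, Perm.mul_apply]

theorem sub_card_sum (p : α → Prop) [Finite α] :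
    Nat.card {z // p z} + Nat.card {z // ¬ p z} = Nat.card α := by
  classical
  rw [← Nat.card_sum]
  exact Nat.card_congr (Equiv.sumCompl p)

/-- an element of prime order in the group restricts to an element of the same order on any orbit
that it moves -/
theorem dvd_orbit_card [Finite α] {B : Subgroup (Perm α)} (hB : Mx B) (p : ℕ) [Fact p.Prime]
    (b : Perm α) (hb : b ∈ B) (hbp : b ^ p = 1) (y : α) (hy : b y ≠ y)
    (hcard : Nat.card (R1 B y).range = Nat.card {z // orbPred B y z}) :
    p ∣ Nat.card {z // orbPred B y z} := by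
  set b₁ : (R1 B y).range := ⟨R1 B y ⟨b, hb⟩, ⟨_, rfl⟩⟩ with hb₁
  have h1 : b₁ ^ p = 1 := by
    apply Subtype.ext
    show (R1 B y ⟨b, hb⟩) ^ p = 1
    rw [← map_pow]
    have : (⟨b, hb⟩ : B) ^ p = 1 := Subtype.ext hbp
    rw [this, map_one]
  have h2 : b₁ ≠ 1 := by
    intro h
    apply hy
    have h' : R1 B y ⟨b, hb⟩ = 1 := congrArg Subtype.val h
    have := congrArg
      (fun f : Perm {z // orbPred B y z} =>
        ((f ⟨y, orbPred_self B y⟩ : {z // orbPred B y z}) : α)) h'
    exact this
  have h3 : orderOf b₁ = p := orderOf_eq_prime h1 h2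
  rw [← hcard, ← h3]
  exact orderOf_dvd_natCard b₁

/-- **the main induction**: two largest abelian groups of even permutations, on sets of the same
size, are carried to each other by a bijection of the sets -/
theorem exists_equiv : ∀ n : ℕ, ∀ (α β : Type) [Finite α] [Finite β], Nat.card α = n →
    Nat.card β = n → ∀ (A : Subgroup (Perm α)) (B : Subgroup (Perm β)), Mx A → Mx B →
      ∃ e : α ≃ β, A.map e.permCongrHom.toMonoidHom = B := by
  intro n
  induction n using Nat.strong_induction_on with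
  | _ n ih =>
  intro α β _ _ hα hβ A B hA hB
  classical
  obtain ⟨e₀⟩ : Nonempty (α ≃ β) := Finite.card_eq.mp (hα.trans hβ.symm)
  have hA₀ := hA.map e₀
  rcases Nat.lt_or_ge n 3 with h3 | h3
  · -- trivial groups
    refine ⟨e₀, ?_⟩
    have e1 : Nat.card (A.map e₀.permCongrHom.toMonoidHom) = 1 := by
      rw [hA₀.card, hβ, g_le_two (by omega)]
    have e2 : Nat.card B = 1 := by rw [hB.card, hβ, g_le_two (by omega)]
    rw [Subgroup.card_eq_one.mp e1, Subgroup.card_eq_one.mp e2]
  rcases Nat.lt_or_ge n 5 with h5 | h5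
  · exact ⟨e₀, uniq hA₀ hB (by omega)⟩
  rcases Nat.lt_or_ge n 6 with h6 | h6
  · have hn5 : n = 5 := by omega
    obtain ⟨c, -, hc⟩ := conj_five hA₀ hB (by omega)
    refine ⟨e₀.trans c, ?_⟩
    apply map_eq_of_forall _ hA hB
    intro σ hσ
    rw [permCongr_trans_perm]
    exact (hc _).mp ((mem_map_permCongr e₀ σ).mpr hσ)
  -- the general case
  have hne : Nonempty α := by
    rw [← Finite.card_pos_iff]
    omega
  obtain ⟨x⟩ := hne
  obtain ⟨ha, y, hy⟩ := orbit_card hA (by omega) x
  obtain ⟨m1, m2, hsur, hg⟩ := split hA (by omega) x y hy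
  have hsumA := sub_card_sum (orbPred A x)
  -- the prime
  obtain ⟨p, hp, hpa, hp3, hp4⟩ : ∃ p : ℕ, p.Prime ∧ p ∣ Nat.card {z // orbPred A x z} ∧
      (Nat.card {z // orbPred A x z} = 3 → ¬ p ∣ 4) ∧
      (Nat.card {z // orbPred A x z} = 4 → ¬ p ∣ 3) := by
    rcases ha with ha | ha
    · refine ⟨3, by norm_num, by rw [ha], fun _ => by norm_num, fun h => by omega⟩
    · refine ⟨2, by norm_num, by rw [ha]; norm_num, fun h => by omega, fun _ => by norm_num⟩
  have : Fact p.Prime := ⟨hp⟩
  have hpB : p ∣ Nat.card B := by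
    rw [hB.card, hβ, ← hα, ← hg]
    apply Dvd.dvd.mul_right
    rcases ha with ha | ha
    · rw [ha, g_three]
      rw [ha] at hpa
      exact hpa
    · rw [ha, g_four]
      rw [ha] at hpa
      exact hpa
  obtain ⟨b, hb⟩ := exists_prime_orderOf_dvd_card' (G := B) p hpB
  have hbp : (b : Perm β) ^ p = 1 := by
    have : b ^ p = 1 := by rw [← hb]; exact pow_orderOf_eq_one b
    exact congrArg Subtype.val this
  have hb1 : (b : Perm β) ≠ 1 := by
    intro h
    have : b = 1 := Subtype.ext h
    rw [this, orderOf_one] at hb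
    exact hp.one_lt.ne hb
  obtain ⟨y', hy'⟩ : ∃ y', (b : Perm β) y' ≠ y' := by
    by_contra hcon
    push Not at hcon
    exact hb1 (Equiv.ext hcon)
  obtain ⟨ha', y'', hy''⟩ := orbit_card hB (by omega) y'
  obtain ⟨m1', m2', hsur', hg'⟩ := split hB (by omega) y' y'' hy''
  have hsumB := sub_card_sum (orbPred B y')
  have hc1' : Nat.card (R1 B y').range = Nat.card {z // orbPred B y' z} := by
    rw [m1'.card]
    rcases ha' with h | h
    · rw [h, g_three]
    · rw [h, g_four]
  have hdvd := dvd_orbit_card hB p b b.2 hbp y' hy' hc1'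
  have haa : Nat.card {z // orbPred A x z} = Nat.card {z // orbPred B y' z} := by
    rcases ha with ha | ha <;> rcases ha' with ha' | ha'
    · rw [ha, ha']
    · exfalso
      rw [ha'] at hdvd
      exact hp3 ha hdvd
    · exfalso
      rw [ha'] at hdvd
      exact hp4 ha hdvd
    · rw [ha, ha']
  obtain ⟨e₁⟩ : Nonempty ({z // orbPred A x z} ≃ {z // orbPred B y' z}) := Finite.card_eq.mp haa
  have h1 : (R1 A x).range.map e₁.permCongrHom.toMonoidHom = (R1 B y').range :=
    uniq (m1.map e₁) m1' ha'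
  have hlt : Nat.card {z // ¬ orbPred A x z} < n := by
    have : 0 < Nat.card {z // orbPred A x z} := by
      rcases ha with h | h <;> omega
    omega
  obtain ⟨e₂, h2⟩ := ih _ hlt {z // ¬ orbPred A x z} {z // ¬ orbPred B y' z} rfl (by omega)
    (R2 A x).range (R2 B y').range m2 m2'
  exact ⟨glueEquiv e₁ e₂, step hA hB x y' hsur' e₁ e₂ h1 h2⟩

end Cfsg.Agent.Helper8.AbConj
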