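import Cfsg.Agent.Helper8.AbConjE
set_option autoImplicit false

/-!
Abelian groups of even permutations of the largest possible order: an odd permutation normalising
such a group, and the groups attaining the bound in every degree.
-/

namespace Cfsg.Agent.Helper8.AbConj

open Cfsg.Agent.Lead.AbAlt Cfsg.Agent.Lead.NilpSym Cfsg.Agent.Lead.NilpAlt Equiv

variable {α β : Type}

theorem conj_mem_of_forall [Finite α] {A : Subgroup (Perm α)} (τ : Perm α)
    (h : ∀ σ ∈ A, τ * σ * τ⁻¹ ∈ A) : A.map (MulAut.conj τ).toMonoidHom = A := by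
  apply Subgroup.eq_of_le_of_card_ge
  · rintro _ ⟨σ, hσ, rfl⟩
    exact h σ hσ
  · rw [Subgroup.card_map_of_injective (MulAut.conj τ).injective]

/-- an odd permutation normalising the group -/
theorem exists_odd_normalizing [Finite α] {A : Subgroup (Perm α)} (hA : Mx A)
    (hn : 6 ≤ Nat.card α) : ∃ τ : Perm α, ¬ Ev τ ∧ ∀ σ ∈ A, τ * σ * τ⁻¹ ∈ A := by
  classical
  have : Fintype α := Fintype.ofFinite α
  have hne : Nonempty α := by
    rw [← Finite.card_pos_iff]
    omega
  obtain ⟨x⟩ := hne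
  obtain ⟨ha, y, hy⟩ := orbit_card hA hn x
  obtain ⟨m1, m2, hsur, hg⟩ := split hA (by omega) x y hy
  -- a second point of the orbit
  have hnt : Nontrivial {z // orbPred A x z} := by
    rw [← Finite.one_lt_card_iff_nontrivial]
    rcases ha with h | h <;> omega
  obtain ⟨⟨x₂, hx₂⟩, hne⟩ := exists_ne (⟨x, orbPred_self A x⟩ : {z // orbPred A x z})
  have hxx : x ≠ x₂ := fun h => hne (Subtype.ext h.symm)
  set τ : Perm α := Equiv.swap x x₂ with hτ
  have hτinv : τ⁻¹ = τ := by rw [hτ, Equiv.swap_inv]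
  have hτp : ∀ z, orbPred A x (τ z) ↔ orbPred A x z := by
    intro z
    by_cases h1 : z = x
    · rw [h1, hτ, Equiv.swap_apply_left]
      exact iff_of_true hx₂ (orbPred_self A x)
    · by_cases h2 : z = x₂
      · rw [h2, hτ, Equiv.swap_apply_right]
        exact iff_of_true (orbPred_self A x) hx₂
      · rw [hτ, Equiv.swap_apply_of_ne_of_ne h1 h2]
  have hτfix : ∀ z, ¬ orbPred A x z → τ z = z := by
    intro z hz
    have h1 : z ≠ x := fun h => hz (h ▸ orbPred_self A x)
    have h2 : z ≠ x₂ := fun h => hz (h ▸ hx₂)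
    rw [hτ, Equiv.swap_apply_of_ne_of_ne h1 h2]
  refine ⟨τ, ?_, ?_⟩
  · rw [ev_iff, hτ, Perm.sign_swap hxx]
    decide
  · intro σ hσ
    have hp := orbPred_inv A x σ hσ
    rw [mem_iff_of_split x hsur]
    have hq : ∀ z, orbPred A x ((τ * σ * τ⁻¹) z) ↔ orbPred A x z := by
      intro z
      rw [hτinv, Perm.mul_apply, Perm.mul_apply, hτp, hp, hτp]
    refine ⟨hq, ?_, ?_⟩
    · set τ₁ : Perm {z // orbPred A x z} := τ.subtypePerm hτp with hτ₁
      have e1 : (τ * σ * τ⁻¹).subtypePerm hq =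
          (τ₁ : {z // orbPred A x z} ≃ {z // orbPred A x z}).permCongr (σ.subtypePerm hp) := by
        ext ⟨w, hw⟩
        rfl
      have hu := uniq (m1.map (τ₁ : {z // orbPred A x z} ≃ {z // orbPred A x z})) m1 ha
      rw [e1, ← hu]
      exact ⟨σ.subtypePerm hp, ⟨⟨σ, hσ⟩, rfl⟩, rfl⟩
    · have e2 : (τ * σ * τ⁻¹).subtypePerm (p := fun z => ¬ orbPred A x z)
          (fun z => not_congr (hq z)) =
          σ.subtypePerm (p := fun z => ¬ orbPred A x z) (fun z => not_congr (hp z)) := by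
        ext ⟨w, hw⟩
        show (τ * σ * τ⁻¹) w = σ w
        rw [hτinv, Perm.mul_apply, Perm.mul_apply, hτfix w hw,
          hτfix (σ w) ((not_congr (hp w)).mpr hw)]
      rw [e2]
      exact ⟨⟨σ, hσ⟩, rfl⟩

theorem ach_bot (n : ℕ) : Ach n 1 := by
  refine ⟨⊥, ?_, ?_, by simp⟩
  · intro g hg; rw [Subgroup.mem_bot] at hg; subst hg; simp
  · intro a ha b hb
    rw [Subgroup.mem_bot] at ha hb; subst ha; subst hb; rfl

theorem ach_five : Ach 5 5 := by
  have hpow : (finRotate 5) ^ 5 = 1 := by decide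
  have hne : finRotate 5 ≠ 1 := by decide
  have : Fact (Nat.Prime 5) := ⟨by norm_num⟩
  refine ⟨Subgroup.zpowers (finRotate 5), ?_, ?_, ?_⟩
  · rintro _ ⟨k, rfl⟩
    rw [map_zpow, sign_finRotate]
    norm_num
  · rintro _ ⟨k, rfl⟩ _ ⟨l, rfl⟩
    exact (Commute.zpow_zpow_self _ k l).eq
  · rw [Nat.card_zpowers]
    exact orderOf_eq_prime hpow hne

/-- the bound is attained in every degree -/
theorem ach_all (n : ℕ) : Ach n (g n) := by
  rcases Nat.lt_or_ge n 6 with h6 | h6
  · interval_cases n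
    · exact ach_zero
    · exact ach_bot 1
    · exact ach_bot 2
    · exact ach_three
    · exact ach_four
    · exact ach_five
  · obtain ⟨k, hk⟩ : ∃ k, n = 3 * k ∨ n = 3 * k + 1 ∨ n = 3 * k + 2 := ⟨n / 3, by omega⟩
    rcases hk with rfl | rfl | rfl
    · rw [g_three_mul (by omega)]
      exact ach_three_mul k
    · rw [g_three_mul_add_one (by omega)]
      exact ach_three_mul_add_one (by omega)
    · rw [g_three_mul_add_two (by omega)]
      exact ach_three_mul_add_two (by omega)

end Cfsg.Agent.Helper8.AbConj
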