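import Cfsg.Agent.Helper8.AbConjF
set_option autoImplicit false

/-!
Any two abelian subgroups of the largest possible order of an alternating group are conjugate.
-/

namespace Cfsg.Agent.Helper8.AbConj

open Cfsg.Agent.Lead.AbAlt Cfsg.Agent.Lead.NilpSym Cfsg.Agent.Lead.NilpAlt Equiv
open scoped Pointwise

/-- the image in the symmetric group of a largest abelian subgroup of the alternating group -/
theorem mx_of_max (n : ℕ) (A : Subgroup (alternatingGroup (Fin n))) (hA : IsMulCommutative A)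
    (hAmax : ∀ C : Subgroup (alternatingGroup (Fin n)), IsMulCommutative C →
      Nat.card C ≤ Nat.card A) :
    Mx (A.map (alternatingGroup (Fin n)).subtype) := by
  have hinj : Function.Injective (alternatingGroup (Fin n)).subtype := Subtype.coe_injective
  have hcard : Nat.card A = g n := by
    apply le_antisymm (alt_le_g n A hA)
    obtain ⟨C, hC, hc⟩ := ach_to_alt (ach_all n)
    rw [← hc]
    exact hAmax C hC
  refine ⟨?_, ?_, ?_⟩
  · rintro _ ⟨a, -, rfl⟩
    rw [ev_iff]
    exact Perm.mem_alternatingGroup.mp a.2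
  · rintro _ ⟨a, ha, rfl⟩ _ ⟨b, hb, rfl⟩
    rw [← map_mul, ← map_mul]
    congr 1
    have := hA.is_comm.comm ⟨a, ha⟩ ⟨b, hb⟩
    exact congrArg Subtype.val this
  · rw [Subgroup.card_map_of_injective hinj, hcard, Nat.card_eq_fintype_card, Fintype.card_fin]

/-- an even permutation carrying one group into the other -/
theorem exists_even_conj (n : ℕ) {A B : Subgroup (Perm (Fin n))} (hA : Mx A) (hB : Mx B) :
    ∃ c : Perm (Fin n), Perm.sign c = 1 ∧ ∀ σ ∈ A, c * σ * c⁻¹ ∈ B := by
  have hn : Nat.card (Fin n) = n := by rw [Nat.card_eq_fintype_card, Fintype.card_fin]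
  rcases Nat.lt_or_ge n 3 with h3 | h3
  · refine ⟨1, Perm.sign_one, ?_⟩
    intro σ hσ
    have e1 : Nat.card A = 1 := by rw [hA.card, hn, g_le_two (by omega)]
    rw [Subgroup.card_eq_one] at e1
    rw [e1, Subgroup.mem_bot] at hσ
    rw [hσ]
    simp
  rcases Nat.lt_or_ge n 5 with h5 | h5
  · refine ⟨1, Perm.sign_one, ?_⟩
    intro σ hσ
    rw [← uniq hA hB (by omega)]
    simpa using hσ
  rcases Nat.lt_or_ge n 6 with h6 | h6
  · obtain ⟨c, hc, h⟩ := conj_five hA hB (by omega)
    exact ⟨c, (ev_iff c).mp hc, fun σ hσ => (h σ).mp hσ⟩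
  · obtain ⟨e, he⟩ := exists_equiv n (Fin n) (Fin n) hn hn A B hA hB
    have hmem : ∀ σ ∈ A, e * σ * e⁻¹ ∈ B := by
      intro σ hσ
      rw [← he, ← Equiv.permCongr_eq_mul]
      exact ⟨σ, hσ, rfl⟩
    by_cases hs : Perm.sign e = 1
    · exact ⟨e, hs, hmem⟩
    · obtain ⟨τ, hτ, hτA⟩ := exists_odd_normalizing hA (by omega)
      have hs' : Perm.sign e = -1 := (Int.units_eq_one_or _).resolve_left hs
      have hτ' : Perm.sign τ = -1 :=
        (Int.units_eq_one_or _).resolve_left (fun h => hτ ((ev_iff τ).mpr h))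
      refine ⟨e * τ, by rw [Perm.sign_mul, hs', hτ']; decide, ?_⟩
      intro σ hσ
      have := hmem _ (hτA σ hσ)
      rw [mul_inv_rev]
      simpa [mul_assoc] using this

/-- **conjugacy of the largest abelian subgroups of an alternating group** -/
theorem main (n : ℕ) (A B : Subgroup (alternatingGroup (Fin n))) (hA : IsMulCommutative A)
    (hB : IsMulCommutative B)
    (hAmax : ∀ C : Subgroup (alternatingGroup (Fin n)), IsMulCommutative C →
      Nat.card C ≤ Nat.card A)
    (hBmax : ∀ C : Subgroup (alternatingGroup (Fin n)), IsMulCommutative C →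
      Nat.card C ≤ Nat.card B) :
    ∃ g : alternatingGroup (Fin n), B = MulAut.conj g • A := by
  have mA := mx_of_max n A hA hAmax
  have mB := mx_of_max n B hB hBmax
  obtain ⟨c, hc, hmem⟩ := exists_even_conj n mA mB
  refine ⟨⟨c, Perm.mem_alternatingGroup.mpr hc⟩, ?_⟩
  symm
  apply Subgroup.eq_of_le_of_card_ge
  · intro b hb
    obtain ⟨a, ha, rfl⟩ := (Subgroup.mem_smul_pointwise_iff_exists _ _ _).mp hb
    rw [MulAut.smul_def, MulAut.conj_apply]
    obtain ⟨b', hb', hbb⟩ := hmem a ⟨a, ha, rfl⟩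
    have : b' = ⟨c, Perm.mem_alternatingGroup.mpr hc⟩ * a *
        (⟨c, Perm.mem_alternatingGroup.mpr hc⟩ : alternatingGroup (Fin n))⁻¹ :=
      Subtype.ext hbb
    rw [← this]
    exact hb'
  · rw [← Nat.card_congr (Subgroup.equivSMul (MulAut.conj
      (⟨c, Perm.mem_alternatingGroup.mpr hc⟩ : alternatingGroup (Fin n))) A).toEquiv]
    exact hAmax B hB

end Cfsg.Agent.Helper8.AbConj
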