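import Mathlib

set_option autoImplicit false

/-!
Abelian permutation groups of degree `n` have order at most the largest product of a partition
of `n`, which is `3^k`, `4·3^(k-1)`, `2·3^k` for `n = 3k, 3k+1, 3k+2`.
-/

namespace Cfsg.Agent.Helper8.AbelianPerm

/-- the largest product of the parts of a partition of `n`. -/
def f : ℕ → ℕ
  | 0 => 1
  | 1 => 1
  | 2 => 2
  | 3 => 3
  | 4 => 4
  | (n + 5) => 3 * f (n + 2)

theorem f_add_five (n : ℕ) : f (n + 5) = 3 * f (n + 2) := by rw [f]

theorem f_add_three {n : ℕ} (hn : 2 ≤ n) : f (n + 3) = 3 * f n := by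
  obtain ⟨m, rfl⟩ := Nat.exists_eq_add_of_le hn
  rw [show 2 + m + 3 = m + 5 by ring, f_add_five, add_comm 2 m]

theorem ind3 {P : ℕ → Prop} (h0 : P 0) (h1 : P 1) (h2 : P 2) (h3 : P 3) (h4 : P 4)
    (hs : ∀ n, P (n + 2) → P (n + 5)) : ∀ n, P n
  | 0 => h0
  | 1 => h1
  | 2 => h2
  | 3 => h3
  | 4 => h4
  | (n + 5) => hs n (ind3 h0 h1 h2 h3 h4 hs (n + 2))

theorem f5 : f 5 = 6 := by rw [show 5 = 0 + 5 from rfl, f_add_five]; rfl
theorem f6 : f 6 = 9 := by rw [show 6 = 1 + 5 from rfl, f_add_five]; rfl
theorem f7 : f 7 = 12 := by rw [show 7 = 2 + 5 from rfl, f_add_five]; rfl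
theorem f8 : f 8 = 18 := by rw [show 8 = 3 + 5 from rfl, f_add_five, f5]

theorem f_pos (n : ℕ) : 0 < f n := by
  induction n using ind3 with
  | h0 => decide
  | h1 => decide
  | h2 => decide
  | h3 => decide
  | h4 => decide
  | hs n ih => rw [f_add_five]; omega

theorem K1 (n : ℕ) : f n ≤ f (n + 1) := by
  induction n using ind3 with
  | h0 => decide
  | h1 => decide
  | h2 => decide
  | h3 => decide
  | h4 => rw [f5]; decide
  | hs n ih =>
    rw [f_add_five, show n + 5 + 1 = (n + 1) + 5 by ring, f_add_five]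
    have : n + 1 + 2 = n + 2 + 1 := by ring
    rw [this]; omega

theorem K2 (n : ℕ) : 2 * f n ≤ f (n + 2) := by
  induction n using ind3 with
  | h0 => decide
  | h1 => decide
  | h2 => decide
  | h3 => rw [f5]; decide
  | h4 => rw [f6]; decide
  | hs n ih =>
    rw [f_add_five, show n + 5 + 2 = (n + 2) + 5 by ring, f_add_five]
    omega

theorem K3 (n : ℕ) : 3 * f n ≤ f (n + 3) := by
  induction n using ind3 with
  | h0 => decide
  | h1 => decide
  | h2 => rw [f5]; decide
  | h3 => rw [f6]; decide
  | h4 => rw [f7]; decide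
  | hs n ih =>
    rw [f_add_five, show n + 5 + 3 = (n + 3) + 5 by ring, f_add_five,
      show n + 3 + 2 = n + 5 by ring, f_add_five]

theorem K4 (n : ℕ) : 4 * f n ≤ f (n + 4) := by
  induction n using ind3 with
  | h0 => decide
  | h1 => rw [f5]; decide
  | h2 => rw [f6]; decide
  | h3 => rw [f7]; decide
  | h4 => rw [f8]; decide
  | hs n ih =>
    rw [f_add_five, show n + 5 + 4 = (n + 4) + 5 by ring, f_add_five,
      show n + 4 + 2 = n + 2 + 4 by ring]
    omega

theorem K : ∀ m : ℕ, 1 ≤ m → ∀ n : ℕ, m * f n ≤ f (m + n) := by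
  intro m
  induction m using Nat.strong_induction_on with
  | _ m ih =>
    intro hm n
    by_cases h1 : m = 1
    · subst h1; rw [one_mul, add_comm]; exact K1 n
    by_cases h2 : m = 2
    · subst h2; rw [add_comm]; exact K2 n
    by_cases h3 : m = 3
    · subst h3; rw [add_comm]; exact K3 n
    by_cases h4 : m = 4
    · subst h4; rw [add_comm]; exact K4 n
    have hm5 : 5 ≤ m := by omega
    have h := ih (m - 3) (by omega) (by omega) n
    have h' := K3 (m - 3 + n)
    have e : m - 3 + n + 3 = m + n := by omega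
    rw [e] at h'
    calc m * f n ≤ 3 * ((m - 3) * f n) := by
          rw [← mul_assoc]
          exact Nat.mul_le_mul_right _ (by omega)
      _ ≤ 3 * f (m - 3 + n) := Nat.mul_le_mul_left _ h
      _ ≤ f (m + n) := h'

theorem f_three_mul (k : ℕ) : f (3 * k) = 3 ^ k := by
  induction k with
  | zero => rfl
  | succ k ih =>
    rcases Nat.eq_zero_or_pos k with rfl | hk
    · rfl
    · rw [show 3 * (k + 1) = 3 * k + 3 by ring, f_add_three (by omega), ih, pow_succ, mul_comm]

theorem f_three_mul_add_one {k : ℕ} (hk : 1 ≤ k) : f (3 * k + 1) = 4 * 3 ^ (k - 1) := by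
  induction k with
  | zero => omega
  | succ k ih =>
    rcases Nat.eq_zero_or_pos k with rfl | hk'
    · rfl
    · rw [show 3 * (k + 1) + 1 = (3 * k + 1) + 3 by ring, f_add_three (by omega), ih hk',
        show k + 1 - 1 = (k - 1) + 1 by omega, pow_succ]
      ring

theorem f_three_mul_add_two (k : ℕ) : f (3 * k + 2) = 2 * 3 ^ k := by
  induction k with
  | zero => rfl
  | succ k ih =>
    rw [show 3 * (k + 1) + 2 = (3 * k + 2) + 3 by ring, f_add_three (by omega), ih, pow_succ]
    ring

universe u v

/-- an abelian group acting faithfully on `n` points has order at most `f n`. -/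
theorem card_le : ∀ (n : ℕ) (A : Type u) [Group A] [Finite A] (_ : ∀ a b : A, a * b = b * a)
    (Ω : Type v) [Finite Ω] [MulAction A Ω] [FaithfulSMul A Ω], Nat.card Ω = n →
    Nat.card A ≤ f n := by
  intro n
  induction n using Nat.strong_induction_on with
  | _ n ih =>
    intro A _ _ hcomm Ω _ _ _ hcard
    classical
    by_cases hΩ : IsEmpty Ω
    · have : Subsingleton A :=
        ⟨fun a b => eq_of_smul_eq_smul (α := Ω) (fun x => (hΩ.false x).elim)⟩
      rw [Nat.card_unique]
      exact f_pos n
    · obtain ⟨x⟩ := not_isEmpty_iff.mp hΩ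
      have hK : ∀ k ∈ MulAction.stabilizer A x, ∀ y ∈ MulAction.orbit A x, k • y = y := by
        rintro k hk _ ⟨a, rfl⟩
        change k • a • x = a • x
        rw [smul_smul, hcomm k a, ← smul_smul, MulAction.mem_stabilizer_iff.mp hk]
      let S : SubMulAction A Ω :=
        { carrier := (MulAction.orbit A x)ᶜ
          smul_mem' := by
            rintro a y hy ⟨b, hb⟩
            apply hy
            refine ⟨a⁻¹ * b, ?_⟩
            change (a⁻¹ * b) • x = y
            have hb' : b • x = a • y := hb
            rw [← smul_smul, hb', smul_smul, inv_mul_cancel, one_smul] }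
      haveI : FaithfulSMul (MulAction.stabilizer A x) S :=
        ⟨fun {k k'} h => Subtype.ext (eq_of_smul_eq_smul (α := Ω) fun y => by
          by_cases hy : y ∈ MulAction.orbit A x
          · rw [hK k k.2 y hy, hK k' k'.2 y hy]
          · have := h ⟨y, hy⟩
            exact congrArg Subtype.val this)⟩
      have hA : Nat.card (MulAction.orbit A x) * Nat.card (MulAction.stabilizer A x) =
          Nat.card A := by
        rw [← Nat.card_prod]
        exact Nat.card_congr (MulAction.orbitProdStabilizerEquivGroup A x)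
      have hsum : Nat.card (MulAction.orbit A x) + Nat.card S = n := by
        rw [← hcard, ← Nat.card_sum]
        exact Nat.card_congr (Equiv.Set.sumCompl (MulAction.orbit A x))
      have hpos : 0 < Nat.card (MulAction.orbit A x) := by
        haveI : Nonempty (MulAction.orbit A x) := ⟨⟨x, MulAction.mem_orbit_self x⟩⟩
        exact Nat.card_pos
      have hlt : Nat.card S < n := by omega
      have h1 := ih (Nat.card S) hlt (MulAction.stabilizer A x)
        (fun a b => Subtype.ext (hcomm a b)) S rfl
      rw [← hA, ← hsum]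
      calc Nat.card (MulAction.orbit A x) * Nat.card (MulAction.stabilizer A x)
          ≤ Nat.card (MulAction.orbit A x) * f (Nat.card S) := Nat.mul_le_mul_left _ h1
        _ ≤ f (Nat.card (MulAction.orbit A x) + Nat.card S) := K _ hpos _

/-- abelian subgroups of the symmetric group of degree `n` have order at most `f n`. -/
theorem card_le_perm {n : ℕ} (A : Subgroup (Equiv.Perm (Fin n))) (hA : IsMulCommutative A) :
    Nat.card A ≤ f n := by
  haveI : FaithfulSMul A (Fin n) :=
    ⟨fun {a b} h => Subtype.ext (Equiv.ext h)⟩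
  apply card_le n A (fun a b => hA.is_comm.comm a b) (Fin n)
  rw [Nat.card_eq_fintype_card, Fintype.card_fin]

/-- there is an abelian subgroup of order `c` in the symmetric group of degree `n`. -/
def E (n c : ℕ) : Prop :=
  ∃ A : Subgroup (Equiv.Perm (Fin n)), IsMulCommutative A ∧ Nat.card A = c

theorem E_cyc (m : ℕ) : E (m + 2) (m + 2) := by
  refine ⟨Subgroup.zpowers (finRotate (m + 2)), inferInstance, ?_⟩
  rw [Nat.card_zpowers, (isCycle_finRotate (n := m)).orderOf, support_finRotate,
    Finset.card_univ, Fintype.card_fin]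

theorem E_add {a b c d : ℕ} (h1 : E a c) (h2 : E b d) : E (a + b) (c * d) := by
  obtain ⟨A, hA, rfl⟩ := h1
  obtain ⟨B, hB, rfl⟩ := h2
  let φ : Equiv.Perm (Fin a) × Equiv.Perm (Fin b) →* Equiv.Perm (Fin (a + b)) :=
    (finSumFinEquiv.permCongrHom).toMonoidHom.comp (Equiv.Perm.sumCongrHom (Fin a) (Fin b))
  have hφ : Function.Injective φ :=
    (finSumFinEquiv.permCongrHom).injective.comp Equiv.Perm.sumCongrHom_injective
  haveI : IsMulCommutative (A.prod B) :=
    ⟨⟨fun x y => Subtype.ext (Prod.ext
      (congrArg Subtype.val (hA.is_comm.comm ⟨x.1.1, x.2.1⟩ ⟨y.1.1, y.2.1⟩))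
      (congrArg Subtype.val (hB.is_comm.comm ⟨x.1.2, x.2.2⟩ ⟨y.1.2, y.2.2⟩)))⟩⟩
  refine ⟨(A.prod B).map φ, inferInstance, ?_⟩
  rw [Subgroup.card_map_of_injective hφ, Nat.card_congr (Subgroup.prodEquiv A B).toEquiv,
    Nat.card_prod]

theorem E_cast {n n' c c' : ℕ} (hn : n = n') (hc : c = c') (h : E n c) : E n' c' := by
  subst hn; subst hc; exact h

theorem E_three_mul {k : ℕ} (hk : 1 ≤ k) : E (3 * k) (3 ^ k) := by
  induction k with
  | zero => omega
  | succ k ih =>
    rcases Nat.eq_zero_or_pos k with rfl | hk'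
    · exact E_cyc 1
    · exact E_cast (by ring) (by ring) (E_add (ih hk') (E_cyc 1))

theorem E_three_mul_add_one {k : ℕ} (hk : 1 ≤ k) : E (3 * k + 1) (4 * 3 ^ (k - 1)) := by
  rcases Nat.lt_or_ge k 2 with h | h
  · have : k = 1 := by omega
    subst this
    exact E_cyc 2
  · have h1 := E_add (E_cyc 2) (E_three_mul (k := k - 1) (by omega))
    exact E_cast (by omega) rfl h1

theorem E_three_mul_add_two {k : ℕ} (hk : 1 ≤ k) : E (3 * k + 2) (2 * 3 ^ k) :=
  E_cast (by ring) rfl (E_add (E_cyc 0) (E_three_mul hk))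

/-- the largest order of an abelian subgroup of the symmetric group of degree `n`. -/
theorem isGreatest {n c : ℕ} (h1 : E n c) (h2 : f n = c) :
    IsGreatest {c : ℕ | ∃ A : Subgroup (Equiv.Perm (Fin n)), IsMulCommutative A ∧ Nat.card A = c}
      c := by
  constructor
  · exact h1
  · rintro _ ⟨A, hA, rfl⟩
    rw [← h2]
    exact card_le_perm A hA

end Cfsg.Agent.Helper8.AbelianPerm
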