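import Mathlib
import Cfsg.Agent.Helper8.Reflections
import Cfsg.Agent.Helper8.QuadForm

/-!
# The element `diag(a, a⁻¹)` of a hyperbolic plane as a product of two reflections (helper8)
-/

set_option autoImplicit false

namespace Cfsg.Agent.Helper8.HypElt

open Module Cfsg.Agent.Helper8.QuadForm Cfsg.Agent.Helper8.OrthOrder
  Cfsg.Agent.Helper8.Reflections

variable {F V : Type*} [Field F] [AddCommGroup V] [Module F V] (Q : QuadraticForm F V)

section

variable {e f : V} (he : Q e = 0) (hf : Q f = 0) (hef : QuadraticMap.polar Q e f = 1)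

include he hf hef

theorem Q_sub_smul (a : F) : Q (e - a • f) = -a := by
  rw [sub_eq_add_neg, QuadraticMap.map_add Q, QuadraticMap.map_neg, QuadraticMap.map_smul,
    QuadraticMap.polar_neg_right, QuadraticMap.polar_smul_right, he, hf, hef]
  simp

theorem Q_sub : Q (e - f) = -1 := by
  have := Q_sub_smul Q he hf hef 1
  rwa [one_smul] at this

theorem polar_sub_smul (a : F) (x : V) :
    QuadraticMap.polar Q (e - a • f) x = QuadraticMap.polar Q e x - a * QuadraticMap.polar Q f x := by
  rw [QuadraticMap.polar_sub_left, QuadraticMap.polar_smul_left, smul_eq_mul]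

/-- the product of the reflections in `e - f` and `e - a f` is `diag(a, a⁻¹)` on `⟨e, f⟩` and the
identity on its orthogonal complement. -/
theorem refl_refl_apply {a : F} (ha : a ≠ 0) (x : V) :
    refl Q (e - f) (refl Q (e - a • f) x)
      = x + ((a - 1) * QuadraticMap.polar Q f x) • e
        + ((a⁻¹ - 1) * QuadraticMap.polar Q e x) • f := by
  have hfe : QuadraticMap.polar Q f e = 1 := by rw [QuadraticMap.polar_comm]; exact hef
  have hee : QuadraticMap.polar Q e e = 0 := by rw [polar_self', he, mul_zero]
  have hff : QuadraticMap.polar Q f f = 0 := by rw [polar_self', hf, mul_zero]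
  have h1 := polar_sub_smul Q he hf hef 1
  simp only [one_smul, one_mul] at h1
  rw [refl_apply Q (e - a • f) x, refl_apply Q (e - f), Q_sub Q he hf hef,
    Q_sub_smul Q he hf hef a, h1, polar_sub_smul Q he hf hef a x]
  simp only [QuadraticMap.polar_sub_right, QuadraticMap.polar_smul_right, smul_eq_mul, hee, hff,
    hfe, hef]
  obtain ⟨α, hα⟩ : ∃ α, α = QuadraticMap.polar Q f x := ⟨_, rfl⟩
  obtain ⟨β, hβ⟩ : ∃ β, β = QuadraticMap.polar Q e x := ⟨_, rfl⟩
  rw [← hα, ← hβ]
  match_scalars <;> field_simp <;> ring

end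

end Cfsg.Agent.Helper8.HypElt
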