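import Mathlib
import Cfsg.Agent.Helper8.HypElt
import Cfsg.Agent.Helper8.OmegaCrit
import Cfsg.Agent.Helper8.OmegaEven

/-!
# Moving an isometry into `Ω` without changing its effect on a subspace (helper8)
-/

set_option autoImplicit false

namespace Cfsg.Agent.Helper8.Adjust

open Module Cfsg.Agent.Helper8.QuadForm Cfsg.Agent.Helper8.OrthOrder
  Cfsg.Agent.Helper8.Reflections Cfsg.Agent.Helper8.ReflMatrix Cfsg.Agent.Helper8.OmegaOdd
  Cfsg.Agent.Helper8.OmegaCrit Cfsg.Agent.Helper8.HypElt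

variable {F : Type*} [Field F] {ι : Type} [Fintype ι] [DecidableEq ι]
  (Q : QuadraticForm F (ι → F))

/-- the action of the matrix isometry group on subspaces. -/
def act (g : ↥(Cfsg.isometryGroup F ⇑Q)) (U : Submodule F (ι → F)) : Submodule F (ι → F) :=
  U.map (Matrix.mulVecLin ((g : GL ι F) : Matrix ι ι F))

theorem act_def (g : ↥(Cfsg.isometryGroup F ⇑Q)) (U : Submodule F (ι → F)) :
    act Q g U = U.map (Matrix.mulVecLin ((g : GL ι F) : Matrix ι ι F)) := rfl

theorem act_eq_map (g : ↥(Cfsg.isometryGroup F ⇑Q)) (U : Submodule F (ι → F)) :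
    act Q g U = U.map (((isomEquiv Q g).1 : (ι → F) ≃ₗ[F] (ι → F)) : (ι → F) →ₗ[F] (ι → F)) :=
  rfl

theorem act_mul (g h : ↥(Cfsg.isometryGroup F ⇑Q)) (U : Submodule F (ι → F)) :
    act Q (g * h) U = act Q g (act Q h U) := by
  unfold act
  rw [Subgroup.coe_mul, Units.val_mul, Matrix.mulVecLin_mul, Submodule.map_comp]

theorem act_one (U : Submodule F (ι → F)) : act Q 1 U = U := by
  unfold act
  rw [Subgroup.coe_one, Units.val_one, Matrix.mulVecLin_one, Submodule.map_id]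

theorem act_eq_of_le (g : ↥(Cfsg.isometryGroup F ⇑Q)) (U : Submodule F (ι → F))
    (h : ∀ u ∈ U, (isomEquiv Q g).1 u ∈ U) : act Q g U = U := by
  apply Submodule.eq_of_le_of_finrank_eq
  · rw [act_eq_map]
    rintro _ ⟨u, hu, rfl⟩
    exact h u hu
  · rw [act_eq_map]
    exact LinearEquiv.finrank_map_eq _ U

theorem act_reflElt_of_mem {U : Submodule F (ι → F)} {z : ι → F} (hz : z ∈ U) :
    act Q (reflElt Q z) U = U := by
  apply act_eq_of_le
  intro u hu
  rw [isomEquiv_reflElt]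
  show refl Q z u ∈ U
  rw [refl_apply]
  exact U.sub_mem hu (U.smul_mem _ hz)

theorem act_reflElt_of_perp {U : Submodule F (ι → F)} {z : ι → F}
    (hz : ∀ u ∈ U, QuadraticMap.polar Q z u = 0) :
    act Q (reflElt Q z) U = U := by
  apply act_eq_of_le
  intro u hu
  rw [isomEquiv_reflElt]
  show refl Q z u ∈ U
  rw [refl_of_perp Q (hz u hu)]
  exact hu

theorem act_symm_apply (k : (ι → F) ≃ₗ[F] (ι → F)) (hk : k ∈ Isom Q) (U : Submodule F (ι → F)) :
    act Q ((isomEquiv Q).symm ⟨k, hk⟩) U = U.map (k : (ι → F) →ₗ[F] (ι → F)) := by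
  rw [act_eq_map, MulEquiv.apply_symm_apply]

/-- the element `diag(a, a⁻¹)` of a hyperbolic plane. -/
noncomputable def hypElt (e f : ι → F) (a : F) : ↥(Cfsg.isometryGroup F ⇑Q) :=
  reflElt Q (e - f) * reflElt Q (e - a • f)

theorem hypElt_apply {e f : ι → F} (he : Q e = 0) (hf : Q f = 0)
    (hef : QuadraticMap.polar Q e f = 1) {a : F} (ha : a ≠ 0) (x : ι → F) :
    (isomEquiv Q (hypElt Q e f a)).1 x = x + ((a - 1) * QuadraticMap.polar Q f x) • e
        + ((a⁻¹ - 1) * QuadraticMap.polar Q e x) • f := by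
  unfold hypElt
  rw [map_mul, isomEquiv_reflElt, isomEquiv_reflElt]
  exact refl_refl_apply Q he hf hef ha x

/-- `diag(a, a⁻¹)` stabilises every totally singular subspace containing `e`. -/
theorem act_hypElt {e f : ι → F} (he : Q e = 0) (hf : Q f = 0)
    (hef : QuadraticMap.polar Q e f = 1) {a : F} (ha : a ≠ 0) {U : Submodule F (ι → F)}
    (hU : ∀ u ∈ U, Q u = 0) (heU : e ∈ U) : act Q (hypElt Q e f a) U = U := by
  apply act_eq_of_le
  intro u hu
  rw [hypElt_apply Q he hf hef ha]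
  have hp : QuadraticMap.polar Q e u = 0 := by
    unfold QuadraticMap.polar
    rw [hU _ (U.add_mem heU hu), hU _ heU, hU _ hu]
    simp
  rw [hp, mul_zero, zero_smul, add_zero]
  exact U.add_mem hu (U.smul_mem _ heU)

section odd

variable [Fintype F]

/-- the values of the sign characters on `diag(a, a⁻¹)`, `a` a nonsquare. -/
theorem chi_hypElt (h2 : (2 : F) ≠ 0) {e f : ι → F} (he : Q e = 0) (hf : Q f = 0)
    (hef : QuadraticMap.polar Q e f = 1) {a : F} (ha : ¬ IsSquare a) {c : F} (hc : c ≠ 0) :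
    chi Q c (hypElt Q e f a) = -1 := by
  have ha0 : a ≠ 0 := by
    rintro rfl
    exact ha IsSquare.zero
  have hQ1 : Q (e - f) = -1 := Q_sub Q he hf hef
  have hQ2 : Q (e - a • f) = -a := Q_sub_smul Q he hf hef a
  have hz1 : Q (e - f) ≠ 0 := by rw [hQ1]; exact neg_ne_zero.mpr one_ne_zero
  have hz2 : Q (e - a • f) ≠ 0 := by rw [hQ2]; exact neg_ne_zero.mpr ha0
  unfold hypElt
  rw [map_mul]
  have hc1 : c * -1 ≠ 0 := mul_ne_zero hc (neg_ne_zero.mpr one_ne_zero)
  by_cases hsq : IsSquare (c * Q (e - f))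
  · -- then `c * Q (e - a f)` is a nonsquare
    have hns : ¬ IsSquare (c * Q (e - a • f)) := by
      rw [hQ2]
      rw [hQ1] at hsq
      have : c * -a = (c * -1) * a := by ring
      rw [this, isSquare_mul_iff hc1 hsq]
      exact ha
    rw [(chi_reflElt Q h2 hc hz1).1 hsq, (chi_reflElt Q h2 hc hz2).2 hns]
    rfl
  · have hs : IsSquare (c * Q (e - a • f)) := by
      rw [hQ2]
      rw [hQ1] at hsq
      have : c * -a = (c * -1) * a := by ring
      rw [this]
      exact isSquare_mul_of_not hc1 hsq ha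
    rw [(chi_reflElt Q h2 hc hz1).2 hsq, (chi_reflElt Q h2 hc hz2).1 hs]
    rfl

/-- **adjustment in odd characteristic**: if the stabiliser of `U` contains a reflection and an
element on which both sign characters are `-1`, every isometry can be moved into `Ω` without
changing the image of `U`. -/
theorem exists_adjust_odd (h2 : (2 : F) ≠ 0) (hQ : (QuadraticMap.polarBilin Q).Nondegenerate)
    (hn : 2 ≤ Fintype.card ι) (U : Submodule F (ι → F)) {z : ι → F} (hz : Q z ≠ 0)
    (hzU : act Q (reflElt Q z) U = U) {e : F} (he : ¬ IsSquare e)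
    (s : ↥(Cfsg.isometryGroup F ⇑Q)) (hsU : act Q s U = U)
    (hs1 : chi Q 1 s = -1) (hse : chi Q e s = -1) (g₀ : ↥(Cfsg.isometryGroup F ⇑Q)) :
    ∃ g : ↥(Cfsg.isometryGroup F ⇑Q), g ∈ commutator ↥(Cfsg.isometryGroup F ⇑Q) ∧
      act Q g U = act Q g₀ U := by
  have he0 : e ≠ 0 := by
    rintro rfl
    exact he IsSquare.zero
  have hmem := (commutator_eq Q h2 hQ hn he).2
  -- first make the two characters agree
  obtain ⟨g₁, hg₁U, hg₁⟩ : ∃ g₁ : ↥(Cfsg.isometryGroup F ⇑Q), act Q g₁ U = act Q g₀ U ∧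
      chi Q 1 g₁ = chi Q e g₁ := by
    by_cases heq : chi Q 1 g₀ = chi Q e g₀
    · exact ⟨g₀, rfl, heq⟩
    · refine ⟨g₀ * reflElt Q z, by rw [act_mul, hzU], ?_⟩
      rw [map_mul, map_mul]
      have hr1 := chi_reflElt Q h2 one_ne_zero hz
      have hre := chi_reflElt Q h2 he0 hz
      by_cases hsq : IsSquare (Q z)
      · have hns : ¬ IsSquare (e * Q z) := by
          rw [mul_comm]
          exact not_isSquare_mul hz hsq he
        rw [hr1.1 (by rw [one_mul]; exact hsq), hre.2 hns]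
        rcases Int.units_eq_one_or (chi Q 1 g₀) with h | h <;>
          rcases Int.units_eq_one_or (chi Q e g₀) with h' | h' <;> rw [h, h'] at heq ⊢ <;>
          first | exact absurd rfl heq | decide
      · have hs : IsSquare (e * Q z) := by
          rw [mul_comm]
          exact isSquare_mul_of_not hz hsq he
        rw [hr1.2 (by rw [one_mul]; exact hsq), hre.1 hs]
        rcases Int.units_eq_one_or (chi Q 1 g₀) with h | h <;>
          rcases Int.units_eq_one_or (chi Q e g₀) with h' | h' <;> rw [h, h'] at heq ⊢ <;>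
          first | exact absurd rfl heq | decide
  rcases Int.units_eq_one_or (chi Q 1 g₁) with h | h
  · refine ⟨g₁, ?_, hg₁U⟩
    rw [hmem]
    exact ⟨h, by rw [← hg₁]; exact h⟩
  · refine ⟨g₁ * s, ?_, by rw [act_mul, hsU, hg₁U]⟩
    rw [hmem, map_mul, map_mul, hs1, hse, ← hg₁, h]
    exact ⟨rfl, rfl⟩

/-- variant when the two characters already agree on `g₀`. -/
theorem exists_adjust_odd' (h2 : (2 : F) ≠ 0) (hQ : (QuadraticMap.polarBilin Q).Nondegenerate)
    (hn : 2 ≤ Fintype.card ι) (U : Submodule F (ι → F)) {e : F} (he : ¬ IsSquare e)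
    (s : ↥(Cfsg.isometryGroup F ⇑Q)) (hsU : act Q s U = U)
    (hs1 : chi Q 1 s = -1) (hse : chi Q e s = -1) (g₁ : ↥(Cfsg.isometryGroup F ⇑Q))
    (hg₁ : chi Q 1 g₁ = chi Q e g₁) :
    ∃ g : ↥(Cfsg.isometryGroup F ⇑Q), g ∈ commutator ↥(Cfsg.isometryGroup F ⇑Q) ∧
      act Q g U = act Q g₁ U := by
  have hmem := (commutator_eq Q h2 hQ hn he).2
  rcases Int.units_eq_one_or (chi Q 1 g₁) with h | h
  · refine ⟨g₁, ?_, rfl⟩
    rw [hmem]
    exact ⟨h, by rw [← hg₁]; exact h⟩
  · refine ⟨g₁ * s, ?_, by rw [act_mul, hsU]⟩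
    rw [hmem, map_mul, map_mul, hs1, hse, ← hg₁, h]
    exact ⟨rfl, rfl⟩

/-- **adjustment in characteristic two**. -/
theorem exists_adjust_even (h2 : (2 : F) = 0) (hQ : (QuadraticMap.polarBilin Q).Nondegenerate)
    (hn : 2 ≤ Fintype.card ι) (hex : Fintype.card F ≠ 2 ∨ Fintype.card ι ≠ 4)
    (U : Submodule F (ι → F)) {z : ι → F} (hz : Q z ≠ 0)
    (hzU : act Q (reflElt Q z) U = U) (g₀ : ↥(Cfsg.isometryGroup F ⇑Q)) :
    ∃ g : ↥(Cfsg.isometryGroup F ⇑Q), g ∈ commutator ↥(Cfsg.isometryGroup F ⇑Q) ∧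
      act Q g U = act Q g₀ U := by
  have hmem := (Cfsg.Agent.Helper8.OmegaEven.commutator_eq Q h2 hQ hn hex).2
  rcases Int.units_eq_one_or (Cfsg.Agent.Helper8.OmegaEven.dicksonMat Q h2 hQ g₀) with h | h
  · exact ⟨g₀, (hmem g₀).mpr h, rfl⟩
  · refine ⟨g₀ * reflElt Q z, ?_, by rw [act_mul, hzU]⟩
    rw [hmem, map_mul, h, Cfsg.Agent.Helper8.OmegaEven.dicksonMat_reflElt Q h2 hQ hz]
    rfl

end odd

end Cfsg.Agent.Helper8.Adjust
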