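import Mathlib
import Cfsg.Agent.Helper8.Adjust

/-!
# Adjusting by reflections in a nondegenerate subspace of dimension at least two (helper8)
-/

set_option autoImplicit false

namespace Cfsg.Agent.Helper8.Adjust

open Module Cfsg.Agent.Helper8.QuadForm Cfsg.Agent.Helper8.OrthOrder
  Cfsg.Agent.Helper8.Reflections Cfsg.Agent.Helper8.ReflMatrix Cfsg.Agent.Helper8.OmegaOdd
  Cfsg.Agent.Helper8.OmegaCrit

variable {F : Type*} [Field F] [Fintype F] {ι : Type} [Fintype ι] [DecidableEq ι]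
  (Q : QuadraticForm F (ι → F))

theorem exists_adjust_of_nondegOn (hQ : (QuadraticMap.polarBilin Q).Nondegenerate)
    (hn : 2 ≤ Fintype.card ι) (hex : Fintype.card F ≠ 2 ∨ Fintype.card ι ≠ 4)
    (U N : Submodule F (ι → F)) (hN : NondegOn Q N) (hdim : 2 ≤ finrank F N)
    (hstab : ∀ z ∈ N, act Q (reflElt Q z) U = U) (g₀ : ↥(Cfsg.isometryGroup F ⇑Q)) :
    ∃ g : ↥(Cfsg.isometryGroup F ⇑Q), g ∈ commutator ↥(Cfsg.isometryGroup F ⇑Q) ∧
      act Q g U = act Q g₀ U := by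
  have hN' : Nondeg (Q.comp N.subtype) := (nondeg_comp_subtype_iff Q N).2 hN
  obtain ⟨z₁, hz₁⟩ := exists_repr (Q.comp N.subtype) hN' hdim 1
  have hz₁' : Q (z₁ : ι → F) = 1 := hz₁
  have hz₁0 : Q (z₁ : ι → F) ≠ 0 := by rw [hz₁']; exact one_ne_zero
  by_cases h2 : (2 : F) = 0
  · exact exists_adjust_even Q h2 hQ hn hex U hz₁0 (hstab _ z₁.2) g₀
  · obtain ⟨e, he⟩ := exists_nonsquare (F := F) h2
    have he0 : e ≠ 0 := by
      rintro rfl
      exact he IsSquare.zero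
    obtain ⟨z₂, hz₂⟩ := exists_repr (Q.comp N.subtype) hN' hdim e
    have hz₂' : Q (z₂ : ι → F) = e := hz₂
    have hz₂0 : Q (z₂ : ι → F) ≠ 0 := by rw [hz₂']; exact he0
    have h11 : chi Q 1 (reflElt Q (z₁ : ι → F)) = -1 :=
      (chi_reflElt Q h2 one_ne_zero hz₁0).1 (by rw [hz₁', one_mul]; exact IsSquare.one)
    have h12 : chi Q 1 (reflElt Q (z₂ : ι → F)) = 1 :=
      (chi_reflElt Q h2 one_ne_zero hz₂0).2 (by rw [hz₂', one_mul]; exact he)
    have he1 : chi Q e (reflElt Q (z₁ : ι → F)) = 1 :=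
      (chi_reflElt Q h2 he0 hz₁0).2 (by rw [hz₁', mul_one]; exact he)
    have he2 : chi Q e (reflElt Q (z₂ : ι → F)) = -1 :=
      (chi_reflElt Q h2 he0 hz₂0).1 (by rw [hz₂']; exact ⟨e, rfl⟩)
    refine exists_adjust_odd Q h2 hQ hn U hz₁0 (hstab _ z₁.2) he
      (reflElt Q (z₁ : ι → F) * reflElt Q (z₂ : ι → F)) ?_ ?_ ?_ g₀
    · rw [act_mul, hstab _ z₂.2, hstab _ z₁.2]
    · rw [map_mul, h11, h12]
      rfl
    · rw [map_mul, he1, he2]
      rfl

end Cfsg.Agent.Helper8.Adjust
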