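import Mathlib
import Cfsg.Agent.Helper8.Adjust

/-!
# On products of an even number of reflections the two sign characters agree (helper8)
-/

set_option autoImplicit false

namespace Cfsg.Agent.Helper8.Adjust

open Module Cfsg.Agent.Helper8.QuadForm Cfsg.Agent.Helper8.OrthOrder
  Cfsg.Agent.Helper8.Reflections Cfsg.Agent.Helper8.ReflMatrix Cfsg.Agent.Helper8.OmegaOdd
  Cfsg.Agent.Helper8.OmegaCrit

variable {F : Type*} [Field F] [Fintype F] {ι : Type} [Fintype ι] [DecidableEq ι]
  (Q : QuadraticForm F (ι → F))

theorem chi_eq_of_even_length (h2 : (2 : F) ≠ 0) {e : F} (he : ¬ IsSquare e) (l : List (ι → F))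
    (hl : ∀ z ∈ l, Q z ≠ 0) (hlen : Even l.length) :
    chi Q 1 (l.map (reflElt Q)).prod = chi Q e (l.map (reflElt Q)).prod := by
  classical
  rw [(chi_prod Q h2 he l hl).1, (chi_prod Q h2 he l hl).2]
  have hlen' := List.length_eq_countP_add_countP (fun z => decide (IsSquare (Q z))) (l := l)
  have hcongr : l.countP (fun a => decide ¬decide (IsSquare (Q a)) = true)
      = l.countP (fun z => decide (¬ IsSquare (Q z))) := by
    apply List.countP_congr
    intro z _
    simp
  rw [hcongr] at hlen'
  rw [hlen', Nat.even_add] at hlen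
  by_cases hev : Even (l.countP (fun z => decide (IsSquare (Q z))))
  · rw [hev.neg_one_pow, (hlen.mp hev).neg_one_pow]
  · have hod := Nat.not_even_iff_odd.mp hev
    have hod' := Nat.not_even_iff_odd.mp (fun h => hev (hlen.mpr h))
    rw [hod.neg_one_pow, hod'.neg_one_pow]

end Cfsg.Agent.Helper8.Adjust
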