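import Mathlib
import Cfsg.Agent.Helper8.SiegelGroup

set_option autoImplicit false

/-!
# A criterion for a subgroup to contain the Siegel group (helper8)

A singular vector `u` is *full* for a subgroup `H` of the isometry group when every Siegel
transformation at `u` lies in `H`.  Two full vectors that are not orthogonal force `H` to
contain the whole Siegel group.
-/

namespace Cfsg.Agent.Helper8.OGenA

open Module Cfsg.Agent.Helper8.QuadForm Cfsg.Agent.Helper8.WittQuad Cfsg.Agent.Helper8.OrthOrder
  Cfsg.Agent.Helper8.Siegel Cfsg.Agent.Helper8.SiegelGroup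

variable {F : Type*} [Field F] {V : Type*} [AddCommGroup V] [Module F V]

theorem siegG_apply (Q : QuadraticForm F V) {u w : V} (hu : Q u = 0)
    (huw : QuadraticMap.polar Q u w = 0) (x : V) :
    ((siegG Q u w : ↥(Isom Q)) : V ≃ₗ[F] V) x
      = x + QuadraticMap.polar Q x w • u - QuadraticMap.polar Q x u • w
        - (Q w * QuadraticMap.polar Q x u) • u := by
  show siegE Q u w x = _
  rw [siegE_apply Q hu huw, sieg_apply]

theorem siegG_fix (Q : QuadraticForm F V) {u w x : V} (hxu : QuadraticMap.polar Q x u = 0)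
    (hxw : QuadraticMap.polar Q x w = 0) : ((siegG Q u w : ↥(Isom Q)) : V ≃ₗ[F] V) x = x :=
  siegE_fix Q hxu hxw

theorem siegG_smul_self (Q : QuadraticForm F V) {u : V} (hu : Q u = 0) (c : F) :
    siegG Q u (c • u) = 1 := by
  apply Subtype.ext
  show siegE Q u (c • u) = 1
  have h1 := siegE_smul_add Q hu (QuadraticMap.polar_zero_right _ u) c
  rw [zero_add] at h1
  rw [h1, siegE_zero]

theorem siegG_smul_left (Q : QuadraticForm F V) {u w : V} (hu : Q u = 0)
    (huw : QuadraticMap.polar Q u w = 0) (c : F) : siegG Q (c • u) w = siegG Q u (c • w) := by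
  apply Subtype.ext
  exact siegE_smul_left Q hu huw c

theorem siegG_pow (Q : QuadraticForm F V) {u w : V} (hu : Q u = 0)
    (huw : QuadraticMap.polar Q u w = 0) (n : ℕ) : (siegG Q u w) ^ n = siegG Q u (n • w) := by
  induction n with
  | zero => rw [pow_zero, zero_smul, siegG_zero]
  | succ n ih =>
    rw [pow_succ, ih, siegG_mul Q hu
      (by rw [← Nat.cast_smul_eq_nsmul F, QuadraticMap.polar_smul_right, huw, smul_zero]) huw,
      succ_nsmul]

/-- for two orthogonal singular vectors the roles in a Siegel transformation can be swapped. -/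
theorem siegG_symm (Q : QuadraticForm F V) {u w : V} (hu : Q u = 0) (hw : Q w = 0)
    (huw : QuadraticMap.polar Q u w = 0) : siegG Q u w = siegG Q w (-u) := by
  have hwu : QuadraticMap.polar Q w u = 0 := by rw [QuadraticMap.polar_comm]; exact huw
  apply Subtype.ext
  apply LinearEquiv.ext
  intro x
  show siegE Q u w x = siegE Q w (-u) x
  rw [siegE_apply Q hu huw, siegE_apply Q hw (by rw [QuadraticMap.polar_neg_right, hwu, neg_zero]),
    sieg_apply, sieg_apply, hw, QuadraticMap.map_neg, hu, QuadraticMap.polar_neg_right]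
  module

/-- `u` is *full* for `H`: all Siegel transformations at the singular vector `u` lie in `H`. -/
def Full (Q : QuadraticForm F V) (H : Subgroup ↥(Isom Q)) (u : V) : Prop :=
  Q u = 0 ∧ ∀ w, QuadraticMap.polar Q u w = 0 → siegG Q u w ∈ H

variable {Q : QuadraticForm F V} {H : Subgroup ↥(Isom Q)}

theorem full_zero : Full Q H 0 := by
  refine ⟨map_zero Q, fun w _ => ?_⟩
  rw [siegG_zero_left]
  exact H.one_mem

theorem Full.conj {u : V} (hu : Full Q H u) {g : ↥(Isom Q)} (hg : g ∈ H) :
    Full Q H ((g : V ≃ₗ[F] V) u) := by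
  refine ⟨by rw [g.2 u]; exact hu.1, fun w hw => ?_⟩
  have e1 : (g : V ≃ₗ[F] V) ((g : V ≃ₗ[F] V).symm w) = w := (g : V ≃ₗ[F] V).apply_symm_apply w
  have hw' : QuadraticMap.polar Q u ((g : V ≃ₗ[F] V).symm w) = 0 := by
    rw [← polar_isometry Q g g.2, e1]
    exact hw
  have h1 := siegG_conj Q g u ((g : V ≃ₗ[F] V).symm w)
  rw [e1] at h1
  rw [← h1]
  exact H.mul_mem (H.mul_mem hg (hu.2 _ hw')) (H.inv_mem hg)

theorem Full.smul {u : V} (hu : Full Q H u) (c : F) : Full Q H (c • u) := by
  refine ⟨by rw [QuadraticMap.map_smul, hu.1, smul_zero], fun w hw => ?_⟩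
  by_cases hc : c = 0
  · rw [hc, zero_smul, siegG_zero_left]
    exact H.one_mem
  · rw [QuadraticMap.polar_smul_left, smul_eq_mul] at hw
    have huw : QuadraticMap.polar Q u w = 0 := (mul_eq_zero.mp hw).resolve_left hc
    rw [siegG_smul_left Q hu.1 huw]
    exact hu.2 _ (by rw [QuadraticMap.polar_smul_right, huw, smul_zero])

/-- from a pair of non-orthogonal full vectors, fullness spreads to every singular vector not
orthogonal to the first one. -/
theorem Full.opp {a b z : V} (ha : Full Q H a) (hb : Full Q H b)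
    (hab : QuadraticMap.polar Q a b ≠ 0) (hz : Q z = 0) (haz : QuadraticMap.polar Q a z ≠ 0) :
    Full Q H z := by
  set s := QuadraticMap.polar Q a b with hs
  set t := QuadraticMap.polar Q a z with ht
  set r := QuadraticMap.polar Q b z with hr
  have hba : QuadraticMap.polar Q b a = s := by rw [QuadraticMap.polar_comm]
  have hza : QuadraticMap.polar Q z a = t := by rw [QuadraticMap.polar_comm]
  have hzb : QuadraticMap.polar Q z b = r := by rw [QuadraticMap.polar_comm]
  have haa : QuadraticMap.polar Q a a = 0 := by rw [polar_self', ha.1, mul_zero]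
  have hbb : QuadraticMap.polar Q b b = 0 := by rw [polar_self', hb.1, mul_zero]
  have hzz : QuadraticMap.polar Q z z = 0 := by rw [polar_self', hz, mul_zero]
  set μ := s / t with hμ
  have hμ0 : μ ≠ 0 := div_ne_zero hab haz
  set w := s⁻¹ • (b + (-μ) • z) with hw
  have haw : QuadraticMap.polar Q a w = 0 := by
    rw [hw, QuadraticMap.polar_smul_right, QuadraticMap.polar_add_right,
      QuadraticMap.polar_smul_right, ← hs, ← ht, hμ]
    simp only [smul_eq_mul]
    field_simp
    ring
  have hbw : QuadraticMap.polar Q b w = s⁻¹ * (-μ * r) := by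
    rw [hw, QuadraticMap.polar_smul_right, QuadraticMap.polar_add_right,
      QuadraticMap.polar_smul_right, hbb, ← hr]
    simp only [smul_eq_mul]
    ring
  have hQw : Q w = s⁻¹ * s⁻¹ * (-μ * r) := by
    rw [hw, QuadraticMap.map_smul, QuadraticMap.map_add Q, QuadraticMap.map_smul, hb.1, hz,
      QuadraticMap.polar_smul_right, ← hr]
    simp only [smul_eq_mul]
    ring
  have hgb : ((siegG Q a w : ↥(Isom Q)) : V ≃ₗ[F] V) b = μ • z := by
    rw [siegG_apply Q ha.1 haw, hbw, hba, hQw, hw]
    match_scalars <;> field_simp <;> ring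
  have h1 : Full Q H (μ • z) := by
    rw [← hgb]
    exact hb.conj (ha.2 w haw)
  have h2 := h1.smul μ⁻¹
  rwa [smul_smul, inv_mul_cancel₀ hμ0, one_smul] at h2

/-- **two non-orthogonal full vectors force the whole Siegel group.** -/
theorem SG_le_of_full (hQ : Nondeg Q) {a b : V} (ha : Full Q H a) (hb : Full Q H b)
    (hab : QuadraticMap.polar Q a b ≠ 0) : SG Q ≤ H := by
  have hba : QuadraticMap.polar Q b a ≠ 0 := by rw [QuadraticMap.polar_comm]; exact hab
  have key : ∀ c, Q c = 0 → Full Q H c := by
    intro c hc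
    by_cases hc0 : c = 0
    · rw [hc0]; exact full_zero
    by_cases hac : QuadraticMap.polar Q a c = 0
    swap
    · exact ha.opp hb hab hc hac
    by_cases hbc : QuadraticMap.polar Q b c = 0
    swap
    · exact hb.opp ha hba hc hbc
    obtain ⟨f, hf, hcf⟩ := exists_hyperbolic_pair Q hQ hc0 hc
    have hcc : QuadraticMap.polar Q c c = 0 := by rw [polar_self', hc, mul_zero]
    have hca : QuadraticMap.polar Q c a = 0 := by rw [QuadraticMap.polar_comm]; exact hac
    have hcb : QuadraticMap.polar Q c b = 0 := by rw [QuadraticMap.polar_comm]; exact hbc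
    -- a singular vector `z` with `B(a, z) ≠ 0` and `B(c, z) ≠ 0`
    obtain ⟨z, hz, haz, hcz⟩ : ∃ z, Q z = 0 ∧ QuadraticMap.polar Q a z ≠ 0 ∧
        QuadraticMap.polar Q c z ≠ 0 := by
      by_cases haf : QuadraticMap.polar Q a f = 0
      swap
      · exact ⟨f, hf, haf, by rw [hcf]; exact one_ne_zero⟩
      refine ⟨f + b + (-QuadraticMap.polar Q f b) • c, ?_, ?_, ?_⟩
      · rw [QuadraticMap.map_add Q, QuadraticMap.map_add Q, QuadraticMap.map_smul, hf, hb.1, hc,
          QuadraticMap.polar_smul_right, QuadraticMap.polar_add_left,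
          QuadraticMap.polar_comm Q f c, hcf, hbc]
        simp only [smul_eq_mul]
        ring
      · rw [QuadraticMap.polar_add_right, QuadraticMap.polar_add_right,
          QuadraticMap.polar_smul_right, haf, hac]
        simpa using hab
      · rw [QuadraticMap.polar_add_right, QuadraticMap.polar_add_right,
          QuadraticMap.polar_smul_right, hcf, hcb, hcc]
        simp
    have hzf : Full Q H z := ha.opp hb hab hz haz
    have hza : QuadraticMap.polar Q z a ≠ 0 := by rw [QuadraticMap.polar_comm]; exact haz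
    have hzc : QuadraticMap.polar Q z c ≠ 0 := by rw [QuadraticMap.polar_comm]; exact hcz
    exact hzf.opp ha hza hc hzc
  unfold SG SGW
  rw [Subgroup.closure_le]
  rintro g ⟨c, -, w, -, hc, hcw, rfl⟩
  exact (key c hc).2 w hcw

end Cfsg.Agent.Helper8.OGenA
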