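import Mathlib
import Cfsg.Agent.Helper8.OGenA

set_option autoImplicit false

/-!
# The Levi embedding of `SL_r` attached to a family of hyperbolic pairs (helper8)

For hyperbolic pairs `(e i, f i)`, `i : Fin r`, in a quadratic space, a matrix `M` of
determinant one acts by `M` on the span of the `e i`, by the inverse transpose on the span of
the `f i`, and trivially on the orthogonal complement.  Elementary transvections go to Siegel
transformations.
-/

namespace Cfsg.Agent.Helper8.OGenB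

open Module Matrix Cfsg.Agent.Helper8.QuadForm Cfsg.Agent.Helper8.WittQuad
  Cfsg.Agent.Helper8.OrthOrder Cfsg.Agent.Helper8.Siegel Cfsg.Agent.Helper8.SiegelGroup
  Cfsg.Agent.Helper8.OGenA

variable {F : Type*} [Field F] {V : Type*} [AddCommGroup V] [Module F V] {r : ℕ}

/-- the coordinates `i ↦ B(b i, v)` against a family. -/
noncomputable def co (Q : QuadraticForm F V) (b : Fin r → V) : V →ₗ[F] (Fin r → F) :=
  LinearMap.pi (fun i => QuadraticMap.polarBilin Q (b i))

theorem co_apply (Q : QuadraticForm F V) (b : Fin r → V) (v : V) (i : Fin r) :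
    co Q b v i = QuadraticMap.polar Q (b i) v := rfl

/-- linear combinations of a family. -/
noncomputable def lc (b : Fin r → V) : (Fin r → F) →ₗ[F] V := Fintype.linearCombination F b

theorem lc_apply (b : Fin r → V) (a : Fin r → F) : lc b a = ∑ i, a i • b i := rfl

theorem lc_single (b : Fin r → V) (i : Fin r) (c : F) : lc b (Pi.single i c) = c • b i :=
  Fintype.linearCombination_apply_single F b i c

theorem polar_lc (Q : QuadraticForm F V) (b : Fin r → V) (a : Fin r → F) (v : V) :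
    QuadraticMap.polar Q v (lc b a) = ∑ i, a i * QuadraticMap.polar Q v (b i) := by
  show (QuadraticMap.polarBilin Q v) (∑ i, a i • b i) = _
  rw [map_sum]
  apply Finset.sum_congr rfl
  intro i _
  rw [map_smul]
  rfl

theorem Q_sum_eq_zero (Q : QuadraticForm F V) (b : Fin r → V) (hb : ∀ i, Q (b i) = 0)
    (hbb : ∀ i j, QuadraticMap.polar Q (b i) (b j) = 0) (a : Fin r → F) (s : Finset (Fin r)) :
    Q (∑ i ∈ s, a i • b i) = 0 ∧ ∀ j, QuadraticMap.polar Q (b j) (∑ i ∈ s, a i • b i) = 0 := by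
  classical
  induction s using Finset.induction_on with
  | empty => simp
  | insert i s hi ih =>
    rw [Finset.sum_insert hi]
    have h2 : ∀ j, QuadraticMap.polar Q (b j) (a i • b i + ∑ i ∈ s, a i • b i) = 0 := by
      intro j
      rw [QuadraticMap.polar_add_right, QuadraticMap.polar_smul_right, hbb, ih.2 j]
      simp
    refine ⟨?_, h2⟩
    rw [QuadraticMap.map_add Q, QuadraticMap.map_smul, hb, ih.1, QuadraticMap.polar_smul_left,
      ih.2 i]
    simp

section frame

variable {Q : QuadraticForm F V} {e f : Fin r → V}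

theorem Q_lc_e (hyp : IsHyp Q e f) (a : Fin r → F) : Q (lc e a) = 0 :=
  (Q_sum_eq_zero Q e (fun i => (hyp.1 i).1) (fun i j => (hyp.2.2 i j).1) a Finset.univ).1

theorem Q_lc_f (hyp : IsHyp Q e f) (a : Fin r → F) : Q (lc f a) = 0 :=
  (Q_sum_eq_zero Q f (fun i => (hyp.1 i).2) (fun i j => (hyp.2.2 i j).2) a Finset.univ).1

theorem polar_fe (hyp : IsHyp Q e f) (i j : Fin r) :
    QuadraticMap.polar Q (f i) (e j) = if i = j then 1 else 0 := by
  rw [QuadraticMap.polar_comm, hyp.2.1 j i]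
  simp only [eq_comm]

theorem co_f_lc_e (hyp : IsHyp Q e f) (a : Fin r → F) : co Q f (lc e a) = a := by
  funext i
  rw [co_apply, polar_lc]
  simp only [polar_fe hyp, mul_ite, mul_one, mul_zero]
  rw [Finset.sum_ite_eq, if_pos (Finset.mem_univ _)]

theorem co_f_lc_f (hyp : IsHyp Q e f) (a : Fin r → F) : co Q f (lc f a) = 0 := by
  funext i
  rw [co_apply, polar_lc]
  simp only [(hyp.2.2 _ _).2, mul_zero, Finset.sum_const_zero, Pi.zero_apply]

theorem co_e_lc_e (hyp : IsHyp Q e f) (a : Fin r → F) : co Q e (lc e a) = 0 := by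
  funext i
  rw [co_apply, polar_lc]
  simp only [(hyp.2.2 _ _).1, mul_zero, Finset.sum_const_zero, Pi.zero_apply]

theorem co_e_lc_f (hyp : IsHyp Q e f) (a : Fin r → F) : co Q e (lc f a) = a := by
  funext i
  rw [co_apply, polar_lc]
  simp only [hyp.2.1, mul_ite, mul_one, mul_zero]
  rw [Finset.sum_ite_eq, if_pos (Finset.mem_univ _)]

theorem polar_right_lc_e (v : V) (a : Fin r → F) :
    QuadraticMap.polar Q v (lc e a) = a ⬝ᵥ co Q e v := by
  rw [polar_lc]
  apply Finset.sum_congr rfl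
  intro i _
  rw [co_apply, QuadraticMap.polar_comm]

theorem polar_right_lc_f (v : V) (a : Fin r → F) :
    QuadraticMap.polar Q v (lc f a) = a ⬝ᵥ co Q f v := by
  rw [polar_lc]
  apply Finset.sum_congr rfl
  intro i _
  rw [co_apply, QuadraticMap.polar_comm]

variable (Q e f)

/-- the linear map attached to a pair of matrices (meaningful when `N * M = 1`). -/
noncomputable def J (M N : Matrix (Fin r) (Fin r) F) : V →ₗ[F] V :=
  LinearMap.id + (lc e) ∘ₗ (Matrix.toLin' (M - 1)) ∘ₗ (co Q f)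
    + (lc f) ∘ₗ (Matrix.toLin' (Nᵀ - 1)) ∘ₗ (co Q e)

theorem J_apply (M N : Matrix (Fin r) (Fin r) F) (v : V) :
    J Q e f M N v = v + lc e ((M - 1) *ᵥ co Q f v) + lc f ((Nᵀ - 1) *ᵥ co Q e v) := rfl

variable {Q e f}

theorem co_f_J (hyp : IsHyp Q e f) (M N : Matrix (Fin r) (Fin r) F) (v : V) :
    co Q f (J Q e f M N v) = M *ᵥ co Q f v := by
  rw [J_apply, map_add, map_add, co_f_lc_e hyp, co_f_lc_f hyp, add_zero, sub_mulVec, one_mulVec]
  abel

theorem co_e_J (hyp : IsHyp Q e f) (M N : Matrix (Fin r) (Fin r) F) (v : V) :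
    co Q e (J Q e f M N v) = Nᵀ *ᵥ co Q e v := by
  rw [J_apply, map_add, map_add, co_e_lc_e hyp, co_e_lc_f hyp, add_zero, sub_mulVec, one_mulVec]
  abel

theorem J_one : J Q e f (1 : Matrix (Fin r) (Fin r) F) 1 = LinearMap.id := by
  apply LinearMap.ext
  intro v
  rw [J_apply, transpose_one, sub_self, zero_mulVec, zero_mulVec, map_zero, map_zero, add_zero,
    add_zero]
  rfl

theorem J_comp (hyp : IsHyp Q e f) (M N M' N' : Matrix (Fin r) (Fin r) F) (v : V) :
    J Q e f M N (J Q e f M' N' v) = J Q e f (M * M') (N' * N) v := by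
  rw [J_apply Q e f M N, co_f_J hyp, co_e_J hyp, J_apply, J_apply]
  have h1 : (M * M' - 1) *ᵥ co Q f v = (M' - 1) *ᵥ co Q f v + (M - 1) *ᵥ (M' *ᵥ co Q f v) := by
    rw [mulVec_mulVec, ← add_mulVec]
    congr 1
    rw [sub_mul, one_mul]
    abel
  have h2 : ((N' * N)ᵀ - 1) *ᵥ co Q e v
      = (N'ᵀ - 1) *ᵥ co Q e v + (Nᵀ - 1) *ᵥ (N'ᵀ *ᵥ co Q e v) := by
    rw [mulVec_mulVec, ← add_mulVec, transpose_mul]
    congr 1
    rw [sub_mul, one_mul]
    abel
  rw [h1, h2, map_add, map_add]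
  abel

theorem Q_J (hyp : IsHyp Q e f) {M N : Matrix (Fin r) (Fin r) F} (hNM : N * M = 1) (v : V) :
    Q (J Q e f M N v) = Q v := by
  set x := co Q f v with hx
  set y := co Q e v with hy
  have hJ : J Q e f M N v = v + (lc e ((M - 1) *ᵥ x) + lc f ((Nᵀ - 1) *ᵥ y)) := by
    rw [J_apply, add_assoc]
  have ha : (M - 1) *ᵥ x = M *ᵥ x - x := by rw [sub_mulVec, one_mulVec]
  have hb : (Nᵀ - 1) *ᵥ y = Nᵀ *ᵥ y - y := by rw [sub_mulVec, one_mulVec]
  have hkey : (M *ᵥ x) ⬝ᵥ (Nᵀ *ᵥ y) = x ⬝ᵥ y := by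
    rw [dotProduct_mulVec, vecMul_transpose, mulVec_mulVec, hNM, one_mulVec]
  have hpol : QuadraticMap.polar Q (lc e ((M - 1) *ᵥ x)) (lc f ((Nᵀ - 1) *ᵥ y))
      = ((Nᵀ - 1) *ᵥ y) ⬝ᵥ ((M - 1) *ᵥ x) := by
    rw [polar_right_lc_f, co_f_lc_e hyp]
  have hQu : Q (lc e ((M - 1) *ᵥ x) + lc f ((Nᵀ - 1) *ᵥ y))
      = ((Nᵀ - 1) *ᵥ y) ⬝ᵥ ((M - 1) *ᵥ x) := by
    rw [QuadraticMap.map_add Q, Q_lc_e hyp, Q_lc_f hyp, hpol]
    ring
  have hvu : QuadraticMap.polar Q v (lc e ((M - 1) *ᵥ x) + lc f ((Nᵀ - 1) *ᵥ y))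
      = ((M - 1) *ᵥ x) ⬝ᵥ y + ((Nᵀ - 1) *ᵥ y) ⬝ᵥ x := by
    rw [QuadraticMap.polar_add_right, polar_right_lc_e, polar_right_lc_f]
  rw [hJ, QuadraticMap.map_add Q, hQu, hvu, ha, hb]
  simp only [sub_dotProduct, dotProduct_sub]
  rw [dotProduct_comm (Nᵀ *ᵥ y) (M *ᵥ x), hkey, dotProduct_comm (Nᵀ *ᵥ y) x, dotProduct_comm y x,
    dotProduct_comm y (M *ᵥ x)]
  ring

end frame

section hom

open Matrix.SpecialLinearGroup

variable {Q : QuadraticForm F V} {e f : Fin r → V}

theorem inv_mul_coe (A : SpecialLinearGroup (Fin r) F) :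
    ((A⁻¹ : SpecialLinearGroup (Fin r) F) : Matrix (Fin r) (Fin r) F) * (A : Matrix (Fin r) (Fin r) F) = 1 := by
  rw [← Matrix.SpecialLinearGroup.coe_mul, inv_mul_cancel, Matrix.SpecialLinearGroup.coe_one]

theorem mul_inv_coe (A : SpecialLinearGroup (Fin r) F) :
    (A : Matrix (Fin r) (Fin r) F) * ((A⁻¹ : SpecialLinearGroup (Fin r) F) : Matrix (Fin r) (Fin r) F) = 1 := by
  rw [← Matrix.SpecialLinearGroup.coe_mul, mul_inv_cancel, Matrix.SpecialLinearGroup.coe_one]

/-- the action of a matrix of determinant one, as a linear equivalence. -/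
noncomputable def jE (hyp : IsHyp Q e f) (A : SpecialLinearGroup (Fin r) F) : V ≃ₗ[F] V :=
  LinearEquiv.ofLinearMap (J Q e f (A : Matrix (Fin r) (Fin r) F) ((A⁻¹ : SpecialLinearGroup (Fin r) F) : Matrix (Fin r) (Fin r) F))
    (J Q e f ((A⁻¹ : SpecialLinearGroup (Fin r) F) : Matrix (Fin r) (Fin r) F) (A : Matrix (Fin r) (Fin r) F))
    (by
      apply LinearMap.ext
      intro v
      rw [LinearMap.comp_apply, J_comp hyp, mul_inv_coe, J_one])
    (by
      apply LinearMap.ext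
      intro v
      rw [LinearMap.comp_apply, J_comp hyp, inv_mul_coe, J_one])

theorem jE_apply (hyp : IsHyp Q e f) (A : SpecialLinearGroup (Fin r) F) (v : V) :
    jE hyp A v = J Q e f (A : Matrix (Fin r) (Fin r) F) ((A⁻¹ : SpecialLinearGroup (Fin r) F) : Matrix (Fin r) (Fin r) F) v := rfl

theorem jE_mem (hyp : IsHyp Q e f) (A : SpecialLinearGroup (Fin r) F) : jE hyp A ∈ Isom Q :=
  fun v => Q_J hyp (inv_mul_coe A) v

/-- **the Levi embedding** `SL_r → O(Q)` attached to a family of hyperbolic pairs. -/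
noncomputable def j (hyp : IsHyp Q e f) : SpecialLinearGroup (Fin r) F →* ↥(Isom Q) where
  toFun A := ⟨jE hyp A, jE_mem hyp A⟩
  map_one' := by
    apply Subtype.ext
    apply LinearEquiv.ext
    intro v
    show J Q e f ((1 : SpecialLinearGroup (Fin r) F) : Matrix (Fin r) (Fin r) F)
      (((1 : SpecialLinearGroup (Fin r) F)⁻¹ : SpecialLinearGroup (Fin r) F) : Matrix (Fin r) (Fin r) F) v = v
    rw [inv_one, Matrix.SpecialLinearGroup.coe_one, J_one]
    rfl
  map_mul' A B := by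
    apply Subtype.ext
    apply LinearEquiv.ext
    intro v
    show J Q e f ((A * B : SpecialLinearGroup (Fin r) F) : Matrix (Fin r) (Fin r) F) (((A * B)⁻¹ : SpecialLinearGroup (Fin r) F) : Matrix (Fin r) (Fin r) F) v
      = J Q e f (A : Matrix (Fin r) (Fin r) F) ((A⁻¹ : SpecialLinearGroup (Fin r) F) : Matrix (Fin r) (Fin r) F)
        (J Q e f (B : Matrix (Fin r) (Fin r) F) ((B⁻¹ : SpecialLinearGroup (Fin r) F) : Matrix (Fin r) (Fin r) F) v)
    rw [J_comp hyp, _root_.mul_inv_rev, Matrix.SpecialLinearGroup.coe_mul, Matrix.SpecialLinearGroup.coe_mul]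

theorem j_apply (hyp : IsHyp Q e f) (A : SpecialLinearGroup (Fin r) F) (v : V) :
    ((j hyp A : ↥(Isom Q)) : V ≃ₗ[F] V) v
      = v + lc e (((A : Matrix (Fin r) (Fin r) F) - 1) *ᵥ co Q f v)
        + lc f ((((A⁻¹ : SpecialLinearGroup (Fin r) F) : Matrix (Fin r) (Fin r) F)ᵀ - 1) *ᵥ co Q e v) := rfl

/-- vectors whose coordinates are killed by `A - 1` and `A⁻ᵀ - 1` are fixed. -/
theorem j_fix (hyp : IsHyp Q e f) (A : SpecialLinearGroup (Fin r) F) {v : V}
    (h1 : ((A : Matrix (Fin r) (Fin r) F) - 1) *ᵥ co Q f v = 0)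
    (h2 : (((A⁻¹ : SpecialLinearGroup (Fin r) F) : Matrix (Fin r) (Fin r) F)ᵀ - 1) *ᵥ co Q e v = 0) :
    ((j hyp A : ↥(Isom Q)) : V ≃ₗ[F] V) v = v := by
  rw [j_apply, h1, h2, map_zero, map_zero, add_zero, add_zero]

/-- **elementary transvections go to Siegel transformations.** -/
theorem j_transvection (hyp : IsHyp Q e f) {i k : Fin r} (hik : i ≠ k) (c : F) :
    j hyp (transvection hik c) = siegG Q (e i) (c • f k) := by
  have hei : Q (e i) = 0 := (hyp.1 i).1
  have hfk : Q (f k) = 0 := (hyp.1 k).2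
  have heifk : QuadraticMap.polar Q (e i) (c • f k) = 0 := by
    rw [QuadraticMap.polar_smul_right, hyp.2.1 i k, if_neg hik, smul_zero]
  apply Subtype.ext
  apply LinearEquiv.ext
  intro v
  rw [j_apply, siegG_apply Q hei heifk, transvection_inv, transvection_coe, transvection_coe,
    add_sub_cancel_left, transpose_add, transpose_one, add_sub_cancel_left, transpose_single,
    single_mulVec, single_mulVec]
  have e1 : lc e (Function.update (0 : Fin r → F) i (c * co Q f v k)) = (c * co Q f v k) • e i :=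
    lc_single e i _
  have e2 : lc f (Function.update (0 : Fin r → F) k (-c * co Q e v i))
      = (-c * co Q e v i) • f k := lc_single f k _
  rw [e1, e2, co_apply, co_apply, QuadraticMap.map_smul, hfk, QuadraticMap.polar_smul_right,
    QuadraticMap.polar_comm Q v (f k), QuadraticMap.polar_comm Q v (e i)]
  simp only [smul_eq_mul, mul_zero, zero_mul, zero_smul, sub_zero]
  module

end hom

end Cfsg.Agent.Helper8.OGenB
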