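import Mathlib
import Cfsg.Agent.Helper8.OGenB

set_option autoImplicit false

/-!
# From the Levi root elements and one mixing element to the whole Siegel group (helper8)
-/

namespace Cfsg.Agent.Helper8.OGenC

open Module Matrix Cfsg.Agent.Helper8.QuadForm Cfsg.Agent.Helper8.WittQuad
  Cfsg.Agent.Helper8.OrthOrder Cfsg.Agent.Helper8.Siegel Cfsg.Agent.Helper8.SiegelGroup
  Cfsg.Agent.Helper8.OGenA Cfsg.Agent.Helper8.OGenB

variable {F : Type*} [Field F] {V : Type*} [AddCommGroup V] [Module F V] {r : ℕ}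

/-- the parameters `w ⟂ u` all of whose multiples give Siegel transformations at `u` in `H`. -/
def fullSub (Q : QuadraticForm F V) (H : Subgroup ↥(Isom Q)) {u : V} (hu : Q u = 0) :
    Submodule F V where
  carrier := {w | QuadraticMap.polar Q u w = 0 ∧ ∀ c : F, siegG Q u (c • w) ∈ H}
  add_mem' := by
    intro a b ha hb
    refine ⟨by rw [QuadraticMap.polar_add_right, ha.1, hb.1, add_zero], fun c => ?_⟩
    rw [smul_add, ← siegG_mul Q hu (by rw [QuadraticMap.polar_smul_right, ha.1, smul_zero])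
      (by rw [QuadraticMap.polar_smul_right, hb.1, smul_zero])]
    exact H.mul_mem (ha.2 c) (hb.2 c)
  zero_mem' := by
    refine ⟨QuadraticMap.polar_zero_right _ _, fun c => ?_⟩
    rw [smul_zero, siegG_zero]
    exact H.one_mem
  smul_mem' := by
    intro c a ha
    refine ⟨by rw [QuadraticMap.polar_smul_right, ha.1, smul_zero], fun c' => ?_⟩
    rw [smul_smul]
    exact ha.2 (c' * c)

variable {Q : QuadraticForm F V} {H : Subgroup ↥(Isom Q)}

theorem mem_fullSub {u : V} (hu : Q u = 0) (w : V) :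
    w ∈ fullSub Q H hu ↔ QuadraticMap.polar Q u w = 0 ∧ ∀ c : F, siegG Q u (c • w) ∈ H := Iff.rfl

theorem self_mem_fullSub {u : V} (hu : Q u = 0) : u ∈ fullSub Q H hu := by
  refine ⟨by rw [polar_self', hu, mul_zero], fun c => ?_⟩
  rw [siegG_smul_self Q hu]
  exact H.one_mem

theorem conj_mem_fullSub {u : V} (hu : Q u = 0) {h : ↥(Isom Q)} (hh : h ∈ H)
    (hfix : (h : V ≃ₗ[F] V) u = u) {w : V} (hw : w ∈ fullSub Q H hu) :
    (h : V ≃ₗ[F] V) w ∈ fullSub Q H hu := by
  refine ⟨?_, fun c => ?_⟩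
  · have := polar_isometry Q h h.2 u w
    rw [hfix] at this
    rw [this]
    exact hw.1
  · have h1 := siegG_conj Q h u (c • w)
    rw [hfix, map_smul] at h1
    rw [← h1]
    exact H.mul_mem (H.mul_mem hh (hw.2 c)) (H.inv_mem hh)

theorem full_of_fullSub {u : V} (hu : Q u = 0)
    (h : ∀ w, QuadraticMap.polar Q u w = 0 → w ∈ fullSub Q H hu) : Full Q H u := by
  refine ⟨hu, fun w hw => ?_⟩
  have := (h w hw).2 1
  rwa [one_smul] at this

section frame

variable {e f : Fin r → V}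

/-- the part of a vector orthogonal to all the hyperbolic pairs. -/
theorem decomp (hyp : IsHyp Q e f) (v : V) :
    co Q e (v - lc e (co Q f v) - lc f (co Q e v)) = 0 ∧
      co Q f (v - lc e (co Q f v) - lc f (co Q e v)) = 0 := by
  constructor
  · rw [map_sub, map_sub, co_e_lc_e hyp, co_e_lc_f hyp]
    simp
  · rw [map_sub, map_sub, co_f_lc_e hyp, co_f_lc_f hyp]
    simp

/-- **the seeds lemma.**  If `H` contains the root elements `siegG (e i) (c • f k)` of the Levi
subgroup and one element `g` mixing `e i2`, `f i2` and the anisotropic part in a suitable way,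
then `H` contains the Siegel group. -/
theorem SG_le_of_seeds (hQ : Nondeg Q) (hyp : IsHyp Q e f) {i0 i1 i2 : Fin r} (h01 : i0 ≠ i1)
    (h02 : i0 ≠ i2) (h12 : i1 ≠ i2)
    (hroot : ∀ i k : Fin r, i ≠ k → ∀ c : F, siegG Q (e i) (c • f k) ∈ H)
    {g : ↥(Isom Q)} (hg : g ∈ H) (hg0 : (g : V ≃ₗ[F] V) (e i0) = e i0)
    {α' β'' α β' : F} {γ' γ : V}
    (hgf : (g : V ≃ₗ[F] V) (f i2) = α' • e i2 + β'' • f i2 + γ') (hα' : α' ≠ 0)
    (hγ'1 : QuadraticMap.polar Q (e i1) γ' = 0)
    (hγ'2 : QuadraticMap.polar Q (f i2) γ' = 0)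
    (hge : (g : V ≃ₗ[F] V) (e i2) = α • e i2 + β' • f i2 + γ) (hβ' : β' ≠ 0)
    (hγ2 : QuadraticMap.polar Q (e i2) γ = 0)
    (hA : ∀ w, co Q e w = 0 → co Q f w = 0 → ∃ c d : F, w = c • γ' + d • γ) :
    SG Q ≤ H := by
  have he : ∀ i, Q (e i) = 0 := fun i => (hyp.1 i).1
  have hf : ∀ i, Q (f i) = 0 := fun i => (hyp.1 i).2
  have hee : ∀ i k, QuadraticMap.polar Q (e i) (e k) = 0 := fun i k => (hyp.2.2 i k).1
  have hff : ∀ i k, QuadraticMap.polar Q (f i) (f k) = 0 := fun i k => (hyp.2.2 i k).2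
  have hef : ∀ i k, QuadraticMap.polar Q (e i) (f k) = if i = k then 1 else 0 := hyp.2.1
  have hfe : ∀ i k, QuadraticMap.polar Q (f i) (e k) = if i = k then 1 else 0 := polar_fe hyp
  set S := fullSub Q H (he i0) with hS
  -- (i) the `f k`, `k ≠ i0`
  have hSf : ∀ k, k ≠ i0 → f k ∈ S := by
    intro k hk
    refine ⟨by rw [hef, if_neg (Ne.symm hk)], fun c => hroot i0 k (Ne.symm hk) c⟩
  -- (ii) `e i0`
  have hSe0 : e i0 ∈ S := self_mem_fullSub (he i0)
  -- (iii) `g (f i2)` and `α' • e i2 + γ'`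
  have hSgf : (g : V ≃ₗ[F] V) (f i2) ∈ S := conj_mem_fullSub (he i0) hg hg0 (hSf i2 (Ne.symm h02))
  have hv1 : α' • e i2 + γ' ∈ S := by
    have : α' • e i2 + γ' = (g : V ≃ₗ[F] V) (f i2) - β'' • f i2 := by rw [hgf]; abel
    rw [this]
    exact S.sub_mem hSgf (S.smul_mem _ (hSf i2 (Ne.symm h02)))
  -- (v) `e i1`
  have hSe1 : e i1 ∈ S := by
    have ht : siegG Q (e i1) ((1 : F) • f i2) ∈ H := hroot i1 i2 h12 1
    have htfix : ((siegG Q (e i1) ((1 : F) • f i2) : ↥(Isom Q)) : V ≃ₗ[F] V) (e i0) = e i0 := by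
      apply siegG_fix
      · exact hee i0 i1
      · rw [QuadraticMap.polar_smul_right, hef, if_neg h02, smul_zero]
    have h1 := conj_mem_fullSub (he i0) ht htfix hv1
    have hcomp : ((siegG Q (e i1) ((1 : F) • f i2) : ↥(Isom Q)) : V ≃ₗ[F] V) (α' • e i2 + γ')
        = (α' • e i2 + γ') + α' • e i1 := by
      have hp : QuadraticMap.polar Q (e i1) ((1 : F) • f i2) = 0 := by
        rw [QuadraticMap.polar_smul_right, hef, if_neg h12, smul_zero]
      rw [siegG_apply Q (he i1) hp, one_smul, hf, QuadraticMap.polar_add_left,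
        QuadraticMap.polar_add_left, QuadraticMap.polar_smul_left, QuadraticMap.polar_smul_left,
        hef, if_pos rfl, hee, QuadraticMap.polar_comm Q γ' (f i2), hγ'2,
        QuadraticMap.polar_comm Q γ' (e i1), hγ'1]
      simp only [smul_eq_mul, mul_one, mul_zero, add_zero, zero_smul, sub_zero]
    rw [hcomp] at h1
    have h2 : α' • e i1 ∈ S := by
      have : α' • e i1 = (α' • e i2 + γ' + α' • e i1) - (α' • e i2 + γ') := by abel
      rw [this]
      exact S.sub_mem h1 hv1
    have h3 := S.smul_mem α'⁻¹ h2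
    rwa [smul_smul, inv_mul_cancel₀ hα', one_smul] at h3
  -- (vi) all `e k`
  have hSe : ∀ k, e k ∈ S := by
    intro k
    by_cases hk0 : k = i0
    · rw [hk0]; exact hSe0
    by_cases hk1 : k = i1
    · rw [hk1]; exact hSe1
    have ht : siegG Q (e k) ((1 : F) • f i1) ∈ H := hroot k i1 hk1 1
    have htfix : ((siegG Q (e k) ((1 : F) • f i1) : ↥(Isom Q)) : V ≃ₗ[F] V) (e i0) = e i0 := by
      apply siegG_fix
      · exact hee i0 k
      · rw [QuadraticMap.polar_smul_right, hef, if_neg h01, smul_zero]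
    have h1 := conj_mem_fullSub (he i0) ht htfix hSe1
    have hcomp : ((siegG Q (e k) ((1 : F) • f i1) : ↥(Isom Q)) : V ≃ₗ[F] V) (e i1)
        = e i1 + e k := by
      have hp : QuadraticMap.polar Q (e k) ((1 : F) • f i1) = 0 := by
        rw [QuadraticMap.polar_smul_right, hef, if_neg hk1, smul_zero]
      rw [siegG_apply Q (he k) hp, one_smul, hf, hef, if_pos rfl, hee]
      simp
    rw [hcomp] at h1
    have : e k = (e i1 + e k) - e i1 := by abel
    rw [this]
    exact S.sub_mem h1 hSe1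
  -- (vii) `γ'`
  have hSγ' : γ' ∈ S := by
    have : γ' = (α' • e i2 + γ') - α' • e i2 := by abel
    rw [this]
    exact S.sub_mem hv1 (S.smul_mem _ (hSe i2))
  -- (viii) `γ`
  have hSγ : γ ∈ S := by
    have h1 := conj_mem_fullSub (he i0) hg hg0 (hSe i2)
    have : γ = (g : V ≃ₗ[F] V) (e i2) - α • e i2 - β' • f i2 := by rw [hge]; abel
    rw [this]
    exact S.sub_mem (S.sub_mem h1 (S.smul_mem _ (hSe i2))) (S.smul_mem _ (hSf i2 (Ne.symm h02)))
  -- (ix) fullness of `e i0`
  have hfull0 : Full Q H (e i0) := by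
    apply full_of_fullSub (he i0)
    intro w hw
    obtain ⟨hd1, hd2⟩ := decomp hyp w
    obtain ⟨c, d, hcd⟩ := hA _ hd1 hd2
    have hwdec : w = lc e (co Q f w) + lc f (co Q e w) + (c • γ' + d • γ) := by
      rw [← hcd]; abel
    rw [hwdec]
    refine S.add_mem (S.add_mem ?_ ?_) (S.add_mem (S.smul_mem _ hSγ') (S.smul_mem _ hSγ))
    · rw [lc_apply]
      exact S.sum_mem (fun i _ => S.smul_mem _ (hSe i))
    · rw [lc_apply]
      refine S.sum_mem (fun i _ => ?_)
      by_cases hi : i = i0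
      · rw [hi, co_apply, hw, zero_smul]
        exact S.zero_mem
      · exact S.smul_mem _ (hSf i hi)
  -- (x) fullness of `e i2` and of `g (e i2)`
  have hfull2 : Full Q H (e i2) := by
    have hp1 : QuadraticMap.polar Q (e i2) ((1 : F) • f i0) = 0 := by
      rw [QuadraticMap.polar_smul_right, hef, if_neg (Ne.symm h02), smul_zero]
    have hp2 : QuadraticMap.polar Q (e i0) ((-1 : F) • f i2) = 0 := by
      rw [QuadraticMap.polar_smul_right, hef, if_neg h02, smul_zero]
    have h1 := hfull0.conj (hroot i2 i0 (Ne.symm h02) 1)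
    have e1 : ((siegG Q (e i2) ((1 : F) • f i0) : ↥(Isom Q)) : V ≃ₗ[F] V) (e i0)
        = e i0 + e i2 := by
      rw [siegG_apply Q (he i2) hp1, one_smul, hf, hef, if_pos rfl, hee]
      simp
    rw [e1] at h1
    have h2 := h1.conj (hroot i0 i2 h02 (-1))
    have e2 : ((siegG Q (e i0) ((-1 : F) • f i2) : ↥(Isom Q)) : V ≃ₗ[F] V) (e i0 + e i2)
        = e i2 := by
      rw [siegG_apply Q (he i0) hp2, QuadraticMap.map_smul, hf, QuadraticMap.polar_smul_right,
        QuadraticMap.polar_add_left, QuadraticMap.polar_add_left, hef, hef, if_neg h02,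
        if_pos rfl, hee, hee]
      simp
    rwa [e2] at h2
  have hfullg := hfull2.conj hg
  refine SG_le_of_full hQ hfull2 hfullg ?_
  rw [hge, QuadraticMap.polar_add_right, QuadraticMap.polar_add_right,
    QuadraticMap.polar_smul_right, QuadraticMap.polar_smul_right, hee, hef, if_pos rfl, hγ2]
  simpa using hβ'

end frame

end Cfsg.Agent.Helper8.OGenC
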