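import Mathlib
import Cfsg.Agent.Helper7.Transvections

set_option autoImplicit false

/-!
# The Steinberg generators of `SL_{n+1}` as elements, and a centre-removal lemma (helper8)
-/

namespace Cfsg.Agent.Helper8.OGenD

open Matrix
open scoped commutatorElement

variable {K : Type*} [Field K]

/-- the Coxeter monomial matrix of the Steinberg pair. -/
def wMat (K : Type*) [Field K] (n : ℕ) : Matrix (Fin (n + 1)) (Fin (n + 1)) K :=
  Matrix.of (fun i j => if j.val = i.val + 1 then 1 else if i.val = n ∧ j.val = 0 then (-1) ^ n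
    else 0)

/-- the diagonal entries used to write `wMat` as a permuted diagonal matrix. -/
def dvec (K : Type*) [Field K] (n : ℕ) : Fin (n + 1) → K := fun j => if j.val = 0 then (-1) ^ n else 1

theorem wMat_eq (n : ℕ) :
    wMat K n = (Matrix.diagonal (dvec K n)).submatrix (finRotate (n + 1)) id := by
  ext i j
  rw [Matrix.submatrix_apply, id, Matrix.diagonal_apply, finRotate_apply]
  unfold wMat dvec
  rw [Matrix.of_apply]
  have hv := Fin.val_add_one i
  have hj := j.isLt
  have hi := i.isLt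
  by_cases hil : i = Fin.last n
  · rw [if_pos hil] at hv
    have hin : i.val = n := by rw [hil]; rfl
    rw [if_neg (by omega), hv, if_pos rfl]
    by_cases hj0 : j.val = 0
    · rw [if_pos ⟨hin, hj0⟩, if_pos (Fin.ext (by rw [hv, hj0]))]
    · rw [if_neg (fun h => hj0 h.2), if_neg (fun h => hj0 (by rw [← h, hv]))]
  · rw [if_neg hil] at hv
    have hin : i.val ≠ n := fun h => hil (Fin.ext h)
    rw [if_neg (by omega : ¬ (i + 1).val = 0)]
    by_cases hji : j.val = i.val + 1
    · rw [if_pos hji, if_pos (Fin.ext (by rw [hv, hji]))]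
    · rw [if_neg hji, if_neg (fun h => hin h.1), if_neg (fun h => hji (by rw [← h, hv]))]

theorem det_wMat (n : ℕ) : (wMat K n).det = 1 := by
  rw [wMat_eq, Matrix.det_permute, Matrix.det_diagonal, sign_finRotate, Fin.prod_univ_succ]
  have h1 : ∀ i : Fin n, dvec K n i.succ = 1 := by
    intro i
    unfold dvec
    rw [if_neg (by simp)]
  simp only [h1, Finset.prod_const_one, mul_one]
  unfold dvec
  rw [if_pos (by simp)]
  simp only [Nat.add_sub_cancel, Units.val_pow_eq_pow_val, Units.val_neg, Units.val_one,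
    Int.cast_pow, Int.cast_neg, Int.cast_one]
  rw [← mul_pow]
  simp

/-- the Coxeter element of `SL_{n+1}`. -/
def wSL (K : Type*) [Field K] (n : ℕ) : SpecialLinearGroup (Fin (n + 1)) K := ⟨wMat K n, det_wMat n⟩

theorem wSL_coe (n : ℕ) : ((wSL K n : SpecialLinearGroup (Fin (n + 1)) K) :
    Matrix (Fin (n + 1)) (Fin (n + 1)) K) = wMat K n := rfl

theorem comm_central_left {G : Type*} [Group G] (a z y : G) (hz : z ∈ Subgroup.center G) :
    ⁅a * z, y⁆ = ⁅a, y⁆ := by
  have h1 : z * y = y * z := (Subgroup.mem_center_iff.mp hz y).symm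
  rw [commutatorElement_def, commutatorElement_def, _root_.mul_inv_rev]
  calc a * z * y * (z⁻¹ * a⁻¹) * y⁻¹ = a * (z * y) * z⁻¹ * a⁻¹ * y⁻¹ := by group
    _ = a * (y * z) * z⁻¹ * a⁻¹ * y⁻¹ := by rw [h1]
    _ = a * y * a⁻¹ * y⁻¹ := by group

theorem comm_central_right {G : Type*} [Group G] (a b z : G) (hz : z ∈ Subgroup.center G) :
    ⁅a, b * z⁆ = ⁅a, b⁆ := by
  have h1 : z * a⁻¹ = a⁻¹ * z := (Subgroup.mem_center_iff.mp hz a⁻¹).symm
  rw [commutatorElement_def, commutatorElement_def, _root_.mul_inv_rev]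
  calc a * (b * z) * a⁻¹ * (z⁻¹ * b⁻¹) = a * b * (z * a⁻¹) * z⁻¹ * b⁻¹ := by group
    _ = a * b * (a⁻¹ * z) * z⁻¹ * b⁻¹ := by rw [h1]
    _ = a * b * a⁻¹ * b⁻¹ := by group

/-- a subgroup generating `SL_n`, `n ≥ 3`, modulo the centre contains every transvection. -/
theorem transvection_mem_of_sup_center {n : ℕ} (hn : 3 ≤ n)
    (K' : Subgroup (SpecialLinearGroup (Fin n) K))
    (h : K' ⊔ Subgroup.center (SpecialLinearGroup (Fin n) K) = ⊤) {i k : Fin n} (hik : i ≠ k)
    (c : K) : SpecialLinearGroup.transvection hik c ∈ K' := by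
  obtain ⟨l, hli, hlk⟩ : ∃ l : Fin n, l ≠ i ∧ l ≠ k := by
    by_contra hcon
    push Not at hcon
    have hsub : (Finset.univ : Finset (Fin n)) ⊆ {i, k} := by
      intro l _
      rw [Finset.mem_insert, Finset.mem_singleton]
      by_cases hl : l = i
      · exact Or.inl hl
      · exact Or.inr (hcon l hl)
    have h1 := Finset.card_le_card hsub
    have h2 : ({i, k} : Finset (Fin n)).card ≤ 2 := Finset.card_le_two
    rw [Finset.card_univ, Fintype.card_fin] at h1
    omega
  have hcomm := Cfsg.Agent.Helper7.Transv.commutator_transvection (F := K) hik (Ne.symm hli) hlk c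
  have hx : SpecialLinearGroup.transvection (Ne.symm hli) c
      ∈ K' ⊔ Subgroup.center (SpecialLinearGroup (Fin n) K) := by rw [h]; trivial
  have hy : SpecialLinearGroup.transvection hlk (1 : K)
      ∈ K' ⊔ Subgroup.center (SpecialLinearGroup (Fin n) K) := by rw [h]; trivial
  obtain ⟨a, ha, z, hz, haz⟩ := Subgroup.mem_sup_of_normal_right.mp hx
  obtain ⟨b, hb, z', hz', hbz⟩ := Subgroup.mem_sup_of_normal_right.mp hy
  rw [← hcomm, ← haz, ← hbz, comm_central_left _ _ _ hz, comm_central_right _ _ _ hz']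
  exact K'.mul_mem (K'.mul_mem (K'.mul_mem ha hb) (K'.inv_mem ha)) (K'.inv_mem hb)

end Cfsg.Agent.Helper8.OGenD
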