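import Mathlib
import Cfsg.Agent.Helper8.OGenC
import Cfsg.Agent.Helper8.OGenD
import Cfsg.Agent.S2402

set_option autoImplicit false

/-!
# Two generators for the Siegel group: the fields with more than three elements (helper8)
-/

namespace Cfsg.Agent.Helper8.OGenE

open Module Matrix Cfsg.Agent.Helper8.QuadForm Cfsg.Agent.Helper8.WittQuad
  Cfsg.Agent.Helper8.OrthOrder Cfsg.Agent.Helper8.Siegel Cfsg.Agent.Helper8.SiegelGroup
  Cfsg.Agent.Helper8.OGenA Cfsg.Agent.Helper8.OGenB Cfsg.Agent.Helper8.OGenC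
  Cfsg.Agent.Helper8.OGenD

variable {F : Type*} [Field F] {V : Type*} [AddCommGroup V] [Module F V]

/-- two commuting elements of coprime orders lie in every subgroup containing their product. -/
theorem mem_of_commute_coprime {G : Type*} [Group G] {x y : G} (hc : Commute x y) {k p : ℕ}
    (hx : x ^ k = 1) (hy : y ^ p = 1) (hkp : k.Coprime p) (H : Subgroup G) (hxy : x * y ∈ H) :
    x ∈ H ∧ y ∈ H := by
  have h1 : x ^ p ∈ H := by
    have := H.pow_mem hxy p
    rwa [hc.mul_pow, hy, mul_one] at this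
  have h2 : y ^ k ∈ H := by
    have := H.pow_mem hxy k
    rwa [hc.mul_pow, hx, one_mul] at this
  have hco : IsCoprime (k : ℤ) (p : ℤ) := Nat.isCoprime_iff_coprime.mpr hkp
  obtain ⟨a, b, hab⟩ := hco
  constructor
  · have e : x = (x ^ p) ^ b := by
      have e1 : x = x ^ (a * (k : ℤ) + b * (p : ℤ)) := by rw [hab, zpow_one]
      rw [_root_.zpow_add, mul_comm a, mul_comm b, _root_.zpow_mul, _root_.zpow_mul,
        zpow_natCast, zpow_natCast, hx, _root_.one_zpow, one_mul] at e1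
      exact e1
    rw [e]
    exact H.zpow_mem h1 b
  · have e : y = (y ^ k) ^ a := by
      have e1 : y = y ^ (a * (k : ℤ) + b * (p : ℤ)) := by rw [hab, zpow_one]
      rw [_root_.zpow_add, mul_comm a, mul_comm b, _root_.zpow_mul, _root_.zpow_mul,
        zpow_natCast, zpow_natCast, hy, _root_.one_zpow, mul_one] at e1
      exact e1
    rw [e]
    exact H.zpow_mem h2 a

section frame

variable {Q : QuadraticForm F V} {r : ℕ} {e f : Fin r → V}

/-- the Levi embedding lands in the Siegel group. -/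
theorem j_mem_SG (hyp : IsHyp Q e f) (hr : 2 ≤ r) (A : SpecialLinearGroup (Fin r) F) :
    j hyp A ∈ SG Q := by
  have : Nontrivial (Fin r) := Fin.nontrivial_iff_two_le.mpr hr
  refine Cfsg.Agent.Helper7.Transv.transvection_induction (fun A => j hyp A ∈ SG Q) ?_ ?_ A
  · intro i k hik c
    show j hyp (SpecialLinearGroup.transvection hik c) ∈ SG Q
    rw [j_transvection]
    apply siegG_mem_SG Q (hyp.1 i).1
    rw [QuadraticMap.polar_smul_right, hyp.2.1 i k, if_neg hik, smul_zero]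
  · intro A B hA hB
    show j hyp (A * B) ∈ SG Q
    rw [map_mul]
    exact (SG Q).mul_mem hA hB

/-- the root elements of the Levi subgroup lie in a subgroup whose preimage generates `SL_r`
modulo the centre. -/
theorem root_mem_of_sup_center (hyp : IsHyp Q e f) (hr : 3 ≤ r) (H : Subgroup ↥(Isom Q))
    (h : H.comap (j hyp) ⊔ Subgroup.center (SpecialLinearGroup (Fin r) F) = ⊤)
    (i k : Fin r) (hik : i ≠ k) (c : F) : siegG Q (e i) (c • f k) ∈ H := by
  have h1 := transvection_mem_of_sup_center hr (H.comap (j hyp)) h hik c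
  rw [Subgroup.mem_comap, j_transvection] at h1
  exact h1

/-- a diagonal matrix fixes the vectors whose coordinates vanish where the matrix is not one. -/
theorem j_fix_diag (hyp : IsHyp Q e f) (A : SpecialLinearGroup (Fin r) F) (d : Fin r → F)
    (hA : (A : Matrix (Fin r) (Fin r) F) = Matrix.diagonal d) {v : V}
    (hv : ∀ i, d i = 1 ∨ (QuadraticMap.polar Q (f i) v = 0 ∧ QuadraticMap.polar Q (e i) v = 0)) :
    ((j hyp A : ↥(Isom Q)) : V ≃ₗ[F] V) v = v := by
  have h1 : (A : Matrix (Fin r) (Fin r) F) *ᵥ co Q f v = co Q f v := by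
    funext i
    rw [hA, mulVec_diagonal, co_apply]
    rcases hv i with h | h
    · rw [h, one_mul]
    · rw [h.1, mul_zero]
  have h2 : (A : Matrix (Fin r) (Fin r) F)ᵀ *ᵥ co Q e v = co Q e v := by
    funext i
    rw [hA, diagonal_transpose, mulVec_diagonal, co_apply]
    rcases hv i with h | h
    · rw [h, one_mul]
    · rw [h.2, mul_zero]
  have h3 : ((A⁻¹ : SpecialLinearGroup (Fin r) F) : Matrix (Fin r) (Fin r) F)ᵀ *ᵥ co Q e v
      = co Q e v := by
    conv_lhs => rw [← h2]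
    rw [mulVec_mulVec, ← transpose_mul, mul_inv_coe, transpose_one, one_mulVec]
  apply j_fix hyp
  · rw [sub_mulVec, one_mulVec, h1, sub_self]
  · rw [sub_mulVec, one_mulVec, h3, sub_self]

end frame

section large

variable {Q : QuadraticForm F V} {n : ℕ} {e f : Fin (n + 1) → V}

theorem fin_one_val (hn : 1 ≤ n) : ((1 : Fin (n + 1)) : ℕ) = 1 := by
  rw [Fin.val_one']
  exact Nat.mod_eq_of_lt (by omega)

theorem fin_zero_ne_one (hn : 1 ≤ n) : (0 : Fin (n + 1)) ≠ 1 := by
  intro h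
  have := congrArg Fin.val h
  rw [fin_one_val hn] at this
  simp at this

/-- the mixing element used for the large fields, and its basic properties. -/
theorem mix_props (hyp : IsHyp Q e f) {i0 i1 i2 : Fin (n + 1)} (h02 : i0 ≠ i2) (h12 : i1 ≠ i2)
    (a₀ a₁ : V)
    (ha₀ : ∀ i : Fin (n + 1), i = i0 ∨ i = i1 ∨ i = i2 →
      QuadraticMap.polar Q (e i) a₀ = 0 ∧ QuadraticMap.polar Q (f i) a₀ = 0)
    (ha₁ : ∀ i : Fin (n + 1), i = i0 ∨ i = i1 ∨ i = i2 →
      QuadraticMap.polar Q (e i) a₁ = 0 ∧ QuadraticMap.polar Q (f i) a₁ = 0) :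
    let p := e i2 + a₁ + (-Q a₁) • f i2
    let w := a₀ + (-QuadraticMap.polar Q a₀ a₁) • f i2
    Q p = 0 ∧ QuadraticMap.polar Q p w = 0 ∧
    (∀ i, i = i0 ∨ i = i1 → (QuadraticMap.polar Q (e i) p = 0 ∧ QuadraticMap.polar Q (f i) p = 0
      ∧ QuadraticMap.polar Q (e i) w = 0 ∧ QuadraticMap.polar Q (f i) w = 0)) ∧
    ((siegG Q p w : ↥(Isom Q)) : V ≃ₗ[F] V) (f i2)
      = (-Q a₀) • e i2 + (1 + QuadraticMap.polar Q a₀ a₁ + Q a₀ * Q a₁) • f i2
        + (-(a₀ + Q a₀ • a₁)) ∧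
    ((siegG Q p w : ↥(Isom Q)) : V ≃ₗ[F] V) (e i2)
      = (1 + Q a₀ * Q a₁ - QuadraticMap.polar Q a₀ a₁) • e i2 + (-(Q a₀ * Q a₁ * Q a₁)) • f i2
        + (Q a₁ • a₀ + (Q a₀ * Q a₁ - QuadraticMap.polar Q a₀ a₁) • a₁) := by
  intro p w
  have he : ∀ i, Q (e i) = 0 := fun i => (hyp.1 i).1
  have hf : ∀ i, Q (f i) = 0 := fun i => (hyp.1 i).2
  have hee : ∀ i k, QuadraticMap.polar Q (e i) (e k) = 0 := fun i k => (hyp.2.2 i k).1
  have hff : ∀ i k, QuadraticMap.polar Q (f i) (f k) = 0 := fun i k => (hyp.2.2 i k).2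
  have hef : ∀ i k, QuadraticMap.polar Q (e i) (f k) = if i = k then 1 else 0 := hyp.2.1
  have hfe : ∀ i k, QuadraticMap.polar Q (f i) (e k) = if i = k then 1 else 0 := polar_fe hyp
  have h2a₀ := ha₀ i2 (Or.inr (Or.inr rfl))
  have h2a₁ := ha₁ i2 (Or.inr (Or.inr rfl))
  have ha₀e2 : QuadraticMap.polar Q a₀ (e i2) = 0 := by rw [QuadraticMap.polar_comm]; exact h2a₀.1
  have ha₀f2 : QuadraticMap.polar Q a₀ (f i2) = 0 := by rw [QuadraticMap.polar_comm]; exact h2a₀.2
  have ha₁e2 : QuadraticMap.polar Q a₁ (e i2) = 0 := by rw [QuadraticMap.polar_comm]; exact h2a₁.1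
  have ha₁f2 : QuadraticMap.polar Q a₁ (f i2) = 0 := by rw [QuadraticMap.polar_comm]; exact h2a₁.2
  have ha₁a₀ : QuadraticMap.polar Q a₁ a₀ = QuadraticMap.polar Q a₀ a₁ := QuadraticMap.polar_comm _ _ _
  have hQp : Q p = 0 := by
    show Q (e i2 + a₁ + (-Q a₁) • f i2) = 0
    rw [QuadraticMap.map_add Q, QuadraticMap.map_add Q, QuadraticMap.map_smul, he, hf,
      QuadraticMap.polar_smul_right, QuadraticMap.polar_add_left, hef, if_pos rfl, ha₁f2, h2a₁.1]
    simp only [smul_eq_mul]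
    ring
  have hpw : QuadraticMap.polar Q p w = 0 := by
    show QuadraticMap.polar Q (e i2 + a₁ + (-Q a₁) • f i2)
      (a₀ + (-QuadraticMap.polar Q a₀ a₁) • f i2) = 0
    simp only [QuadraticMap.polar_add_left, QuadraticMap.polar_add_right,
      QuadraticMap.polar_smul_left, QuadraticMap.polar_smul_right, hef, hff, h2a₀.1, h2a₀.2,
      ha₁f2, ha₁a₀, if_true, smul_eq_mul]
    ring
  have hQw : Q w = Q a₀ := by
    show Q (a₀ + (-QuadraticMap.polar Q a₀ a₁) • f i2) = Q a₀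
    rw [QuadraticMap.map_add Q, QuadraticMap.map_smul, hf, QuadraticMap.polar_smul_right, ha₀f2]
    simp
  have hf2w : QuadraticMap.polar Q (f i2) w = 0 := by
    show QuadraticMap.polar Q (f i2) (a₀ + (-QuadraticMap.polar Q a₀ a₁) • f i2) = 0
    rw [QuadraticMap.polar_add_right, QuadraticMap.polar_smul_right, hff, h2a₀.2]
    simp
  have hf2p : QuadraticMap.polar Q (f i2) p = 1 := by
    show QuadraticMap.polar Q (f i2) (e i2 + a₁ + (-Q a₁) • f i2) = 1
    rw [QuadraticMap.polar_add_right, QuadraticMap.polar_add_right, QuadraticMap.polar_smul_right,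
      hff, hfe, if_pos rfl, h2a₁.2]
    simp
  have he2w : QuadraticMap.polar Q (e i2) w = -QuadraticMap.polar Q a₀ a₁ := by
    show QuadraticMap.polar Q (e i2) (a₀ + (-QuadraticMap.polar Q a₀ a₁) • f i2) = _
    rw [QuadraticMap.polar_add_right, QuadraticMap.polar_smul_right, hef, if_pos rfl, h2a₀.1]
    simp
  have he2p : QuadraticMap.polar Q (e i2) p = -Q a₁ := by
    show QuadraticMap.polar Q (e i2) (e i2 + a₁ + (-Q a₁) • f i2) = _
    rw [QuadraticMap.polar_add_right, QuadraticMap.polar_add_right, QuadraticMap.polar_smul_right,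
      hee, hef, if_pos rfl, h2a₁.1]
    simp
  refine ⟨hQp, hpw, ?_, ?_, ?_⟩
  · intro i hi
    have hi2 : i ≠ i2 := by
      rcases hi with h | h
      · rw [h]; exact h02
      · rw [h]; exact h12
    have hia₀ := ha₀ i (by rcases hi with h | h; exact Or.inl h; exact Or.inr (Or.inl h))
    have hia₁ := ha₁ i (by rcases hi with h | h; exact Or.inl h; exact Or.inr (Or.inl h))
    refine ⟨?_, ?_, ?_, ?_⟩
    · show QuadraticMap.polar Q (e i) (e i2 + a₁ + (-Q a₁) • f i2) = 0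
      rw [QuadraticMap.polar_add_right, QuadraticMap.polar_add_right,
        QuadraticMap.polar_smul_right, hee, hef, if_neg hi2, hia₁.1]
      simp
    · show QuadraticMap.polar Q (f i) (e i2 + a₁ + (-Q a₁) • f i2) = 0
      rw [QuadraticMap.polar_add_right, QuadraticMap.polar_add_right,
        QuadraticMap.polar_smul_right, hff, hfe, if_neg hi2, hia₁.2]
      simp
    · show QuadraticMap.polar Q (e i) (a₀ + (-QuadraticMap.polar Q a₀ a₁) • f i2) = 0
      rw [QuadraticMap.polar_add_right, QuadraticMap.polar_smul_right, hef, if_neg hi2, hia₀.1]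
      simp
    · show QuadraticMap.polar Q (f i) (a₀ + (-QuadraticMap.polar Q a₀ a₁) • f i2) = 0
      rw [QuadraticMap.polar_add_right, QuadraticMap.polar_smul_right, hff, hia₀.2]
      simp
  · rw [siegG_apply Q hQp hpw, hf2w, hf2p, hQw]
    show f i2 + (0 : F) • (e i2 + a₁ + (-Q a₁) • f i2)
      - (1 : F) • (a₀ + (-QuadraticMap.polar Q a₀ a₁) • f i2)
      - (Q a₀ * 1) • (e i2 + a₁ + (-Q a₁) • f i2) = _
    module
  · rw [siegG_apply Q hQp hpw, he2w, he2p, hQw]
    show e i2 + (-QuadraticMap.polar Q a₀ a₁) • (e i2 + a₁ + (-Q a₁) • f i2)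
      - (-Q a₁) • (a₀ + (-QuadraticMap.polar Q a₀ a₁) • f i2)
      - (Q a₀ * -Q a₁) • (e i2 + a₁ + (-Q a₁) • f i2) = _
    module

/-- **two generators of the Siegel group over a field with more than three elements.** -/
theorem two_gen_large [Fintype F] (hF : 3 < Fintype.card F) (hQ : Nondeg Q) (hn : 2 ≤ n)
    (hyp : IsHyp Q e f) (a₀ a₁ : V)
    (ha₀ : ∀ i : Fin (n + 1), i.val ≤ 2 →
      QuadraticMap.polar Q (e i) a₀ = 0 ∧ QuadraticMap.polar Q (f i) a₀ = 0)
    (ha₁ : ∀ i : Fin (n + 1), i.val ≤ 2 →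
      QuadraticMap.polar Q (e i) a₁ = 0 ∧ QuadraticMap.polar Q (f i) a₁ = 0)
    (hQ₀ : Q a₀ ≠ 0) (hQ₁ : Q a₁ ≠ 0)
    (hA : ∀ w, co Q e w = 0 → co Q f w = 0 → ∃ c d : F,
      w = c • (a₀ + Q a₀ • a₁)
        + d • (Q a₁ • a₀ + (Q a₀ * Q a₁ - QuadraticMap.polar Q a₀ a₁) • a₁)) :
    ∃ a b : ↥(Isom Q), a ∈ SG Q ∧ b ∈ SG Q ∧
      Subgroup.closure ({a, b} : Set ↥(Isom Q)) = SG Q := by
  classical
  have h1v : ((1 : Fin (n + 1)) : ℕ) = 1 := fin_one_val (by omega)
  have h01 : (0 : Fin (n + 1)) ≠ 1 := fin_zero_ne_one (by omega)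
  obtain ⟨i2, hi2⟩ : ∃ i2 : Fin (n + 1), i2.val = 2 := ⟨⟨2, by omega⟩, rfl⟩
  have h02 : (0 : Fin (n + 1)) ≠ i2 := by
    intro h
    have := congrArg Fin.val h
    rw [hi2] at this
    simp at this
  have h12 : (1 : Fin (n + 1)) ≠ i2 := by
    intro h
    have := congrArg Fin.val h
    rw [hi2, h1v] at this
    omega
  have hidx : ∀ i : Fin (n + 1), i = 0 ∨ i = 1 ∨ i = i2 → i.val ≤ 2 := by
    rintro i (h | h | h)
    · rw [h]; simp
    · rw [h, h1v]; omega
    · rw [h, hi2]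
  obtain ⟨hQp, hpw, hperp, hgf, hge⟩ := mix_props hyp h02 h12 a₀ a₁
    (fun i hi => ha₀ i (hidx i hi)) (fun i hi => ha₁ i (hidx i hi))
  set p := e i2 + a₁ + (-Q a₁) • f i2 with hp
  set w := a₀ + (-QuadraticMap.polar Q a₀ a₁) • f i2 with hw
  -- the elements of `SL_{n+1}`
  obtain ⟨k, hk⟩ := IsCyclic.exists_generator (α := Fˣ)
  have hk0 : (k : F) ≠ 0 := k.ne_zero
  set d : Fin (n + 1) → F := fun i => if i = 0 then (k : F) else if i = 1 then (k : F)⁻¹ else 1
    with hd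
  have hh₀ : ((SpecialLinearGroup.diag2n h01 (k : F) hk0 : SpecialLinearGroup (Fin (n + 1)) F) :
      Matrix (Fin (n + 1)) (Fin (n + 1)) F) = Matrix.diagonal d := rfl
  set h₀ := SpecialLinearGroup.diag2n h01 (k : F) hk0 with hh₀def
  set x₀ : SpecialLinearGroup (Fin (n + 1)) F := SpecialLinearGroup.transvection h01 (1 : F)
    with hx₀
  have hS := Cfsg.Agent.S2402.result hF n (by omega) k hk h₀ x₀ (wSL F n)
    (by
      rw [hh₀]
      congr 1
      funext i
      have e0 : i = 0 ↔ i.val = 0 := by rw [Fin.ext_iff]; rfl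
      have e1 : i = 1 ↔ i.val = 1 := by rw [Fin.ext_iff, h1v]
      simp only [hd, e0, e1, Units.val_inv_eq_inv_val]) rfl rfl
  have hgSG : siegG Q p w ∈ SG Q := siegG_mem_SG Q hQp hpw
  refine ⟨j hyp h₀ * siegG Q p w, j hyp (x₀ * wSL F n),
    (SG Q).mul_mem (j_mem_SG hyp (by omega) _) hgSG, j_mem_SG hyp (by omega) _, ?_⟩
  apply le_antisymm
  · rw [Subgroup.closure_le]
    intro x hx
    rcases hx with rfl | rfl
    · exact (SG Q).mul_mem (j_mem_SG hyp (by omega) _) hgSG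
    · exact j_mem_SG hyp (by omega) _
  set H := Subgroup.closure ({j hyp h₀ * siegG Q p w, j hyp (x₀ * wSL F n)} : Set ↥(Isom Q))
    with hH
  have haH : j hyp h₀ * siegG Q p w ∈ H := Subgroup.subset_closure (Set.mem_insert _ _)
  have hbH : j hyp (x₀ * wSL F n) ∈ H :=
    Subgroup.subset_closure (Set.mem_insert_of_mem _ rfl)
  -- `j h₀` fixes `p` and `w`
  have hfix : ∀ v : V, (∀ i : Fin (n + 1), i = 0 ∨ i = 1 →
      QuadraticMap.polar Q (f i) v = 0 ∧ QuadraticMap.polar Q (e i) v = 0) →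
      ((j hyp h₀ : ↥(Isom Q)) : V ≃ₗ[F] V) v = v := by
    intro v hv
    apply j_fix_diag hyp h₀ d hh₀
    intro i
    by_cases hi0 : i = 0
    · exact Or.inr (hv i (Or.inl hi0))
    by_cases hi1 : i = 1
    · exact Or.inr (hv i (Or.inr hi1))
    left
    simp only [hd, if_neg hi0, if_neg hi1]
  have hfp : ((j hyp h₀ : ↥(Isom Q)) : V ≃ₗ[F] V) p = p :=
    hfix p (fun i hi => ⟨(hperp i hi).2.1, (hperp i hi).1⟩)
  have hfw : ((j hyp h₀ : ↥(Isom Q)) : V ≃ₗ[F] V) w = w :=
    hfix w (fun i hi => ⟨(hperp i hi).2.2.2, (hperp i hi).2.2.1⟩)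
  have hcomm : Commute (j hyp h₀) (siegG Q p w) := by
    have h1 := siegG_conj Q (j hyp h₀) p w
    rw [hfp, hfw] at h1
    exact mul_inv_eq_iff_eq_mul.mp h1
  -- orders
  have hpow1 : (j hyp h₀) ^ (Fintype.card F - 1) = 1 := by
    rw [← map_pow]
    have : h₀ ^ (Fintype.card F - 1) = 1 := by
      apply Subtype.ext
      rw [Matrix.SpecialLinearGroup.coe_pow, hh₀, Matrix.diagonal_pow,
        Matrix.SpecialLinearGroup.coe_one, ← Matrix.diagonal_one]
      congr 1
      funext i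
      simp only [Pi.pow_apply, hd, Pi.one_apply]
      split_ifs
      · exact FiniteField.pow_card_sub_one_eq_one _ hk0
      · exact FiniteField.pow_card_sub_one_eq_one _ (inv_ne_zero hk0)
      · exact one_pow _
    rw [this, map_one]
  have hpow2 : (siegG Q p w) ^ (ringChar F) = 1 := by
    rw [siegG_pow Q hQp hpw, ← Nat.cast_smul_eq_nsmul F, CharP.cast_eq_zero F (ringChar F),
      zero_smul, siegG_zero]
  obtain ⟨m, _, hq⟩ := FiniteField.card F (ringChar F)
  have hcop : (Fintype.card F - 1).Coprime (ringChar F) := by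
    have h1 : (Fintype.card F - 1).Coprime (Fintype.card F) := by
      have h2 : Fintype.card F = 1 + (Fintype.card F - 1) := by omega
      rw [h2]
      simp
    apply Nat.Coprime.coprime_dvd_right _ h1
    rw [hq]
    exact dvd_pow_self _ m.ne_zero
  obtain ⟨hh₀H, hgH⟩ := mem_of_commute_coprime hcomm hpow1 hpow2 hcop H haH
  -- the Levi root elements
  have hsup : H.comap (j hyp) ⊔ Subgroup.center (SpecialLinearGroup (Fin (n + 1)) F) = ⊤ := by
    rw [eq_top_iff, ← hS]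
    apply sup_le_sup_right
    rw [Subgroup.closure_le]
    intro x hx
    rcases hx with rfl | rfl
    · exact hh₀H
    · exact hbH
  have hroot := root_mem_of_sup_center hyp (by omega) H hsup
  have hg0 : ((siegG Q p w : ↥(Isom Q)) : V ≃ₗ[F] V) (e 0) = e 0 :=
    siegG_fix Q (hperp 0 (Or.inl rfl)).1 (hperp 0 (Or.inl rfl)).2.2.1
  have h1a₀ := ha₀ 1 (by rw [h1v]; omega)
  have h1a₁ := ha₁ 1 (by rw [h1v]; omega)
  have h2a₀ := ha₀ i2 (by rw [hi2])
  have h2a₁ := ha₁ i2 (by rw [hi2])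
  refine SG_le_of_seeds hQ hyp h01 h02 h12 hroot hgH hg0 hgf (neg_ne_zero.mpr hQ₀) ?_ ?_ hge
    (neg_ne_zero.mpr (mul_ne_zero (mul_ne_zero hQ₀ hQ₁) hQ₁)) ?_ ?_
  · rw [QuadraticMap.polar_neg_right, QuadraticMap.polar_add_right, QuadraticMap.polar_smul_right,
      h1a₀.1, h1a₁.1]
    simp
  · rw [QuadraticMap.polar_neg_right, QuadraticMap.polar_add_right, QuadraticMap.polar_smul_right,
      h2a₀.2, h2a₁.2]
    simp
  · rw [QuadraticMap.polar_add_right, QuadraticMap.polar_smul_right, QuadraticMap.polar_smul_right,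
      h2a₀.1, h2a₁.1]
    simp
  · intro v hv1 hv2
    obtain ⟨c, d', hcd⟩ := hA v hv1 hv2
    refine ⟨-c, d', ?_⟩
    rw [neg_smul_neg]
    exact hcd

end large

end Cfsg.Agent.Helper8.OGenE
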