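import Mathlib
import Cfsg.Agent.Helper8.OGenA

set_option autoImplicit false
set_option linter.unusedSimpArgs false

/-!
# An involution in the Siegel group mixing a hyperbolic pair with two further vectors (helper8)

For a hyperbolic pair `(e, f)` and vectors `a₀, a₁` orthogonal to it with `Q a₀ = 1`, the Weyl
element `nW = X Y X` (`X = siegG e a₀`, `Y = siegG f a₀`) is an involution, and so is its
conjugate `mixG = y nW y⁻¹` by `y = siegG e a₁`.
-/

namespace Cfsg.Agent.Helper8.OGenG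

open Module Cfsg.Agent.Helper8.QuadForm Cfsg.Agent.Helper8.WittQuad Cfsg.Agent.Helper8.OrthOrder
  Cfsg.Agent.Helper8.Siegel Cfsg.Agent.Helper8.SiegelGroup Cfsg.Agent.Helper8.OGenA

variable {F : Type*} [Field F] {V : Type*} [AddCommGroup V] [Module F V]

/-- the data: a hyperbolic pair and two vectors orthogonal to it, the first of norm one. -/
structure MixData (Q : QuadraticForm F V) (e f a₀ a₁ : V) : Prop where
  he : Q e = 0
  hf : Q f = 0
  hef : QuadraticMap.polar Q e f = 1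
  h0e : QuadraticMap.polar Q a₀ e = 0
  h0f : QuadraticMap.polar Q a₀ f = 0
  h1e : QuadraticMap.polar Q a₁ e = 0
  h1f : QuadraticMap.polar Q a₁ f = 0
  hQ0 : Q a₀ = 1

variable {Q : QuadraticForm F V} {e f a₀ a₁ : V}

namespace MixData

variable (D : MixData Q e f a₀ a₁)
include D

theorem hfe : QuadraticMap.polar Q f e = 1 := by rw [QuadraticMap.polar_comm]; exact D.hef
theorem he0 : QuadraticMap.polar Q e a₀ = 0 := by rw [QuadraticMap.polar_comm]; exact D.h0e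
theorem hf0 : QuadraticMap.polar Q f a₀ = 0 := by rw [QuadraticMap.polar_comm]; exact D.h0f
theorem he1 : QuadraticMap.polar Q e a₁ = 0 := by rw [QuadraticMap.polar_comm]; exact D.h1e
theorem hf1 : QuadraticMap.polar Q f a₁ = 0 := by rw [QuadraticMap.polar_comm]; exact D.h1f
theorem hee : QuadraticMap.polar Q e e = 0 := by rw [polar_self', D.he, mul_zero]
theorem hff : QuadraticMap.polar Q f f = 0 := by rw [polar_self', D.hf, mul_zero]
theorem h00 : QuadraticMap.polar Q a₀ a₀ = 2 := by rw [polar_self', D.hQ0, mul_one]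
omit D in
theorem h11 : QuadraticMap.polar Q a₁ a₁ = 2 * Q a₁ := polar_self' Q a₁
omit D in
theorem h10 : QuadraticMap.polar Q a₁ a₀ = QuadraticMap.polar Q a₀ a₁ :=
  QuadraticMap.polar_comm _ _ _

/-! ### the three root elements -/

theorem X_e : ((siegG Q e a₀ : ↥(Isom Q)) : V ≃ₗ[F] V) e = e :=
  siegG_fix Q D.hee D.he0

theorem X_f : ((siegG Q e a₀ : ↥(Isom Q)) : V ≃ₗ[F] V) f = f - a₀ - e := by
  rw [siegG_apply Q D.he D.he0, D.hf0, D.hfe, D.hQ0]
  module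

theorem X_a₀ : ((siegG Q e a₀ : ↥(Isom Q)) : V ≃ₗ[F] V) a₀ = a₀ + (2 : F) • e := by
  rw [siegG_apply Q D.he D.he0, D.h00, D.h0e]
  module

theorem Y_f : ((siegG Q f a₀ : ↥(Isom Q)) : V ≃ₗ[F] V) f = f :=
  siegG_fix Q D.hff D.hf0

theorem Y_e : ((siegG Q f a₀ : ↥(Isom Q)) : V ≃ₗ[F] V) e = e - a₀ - f := by
  rw [siegG_apply Q D.hf D.hf0, D.he0, D.hef, D.hQ0]
  module

theorem Y_a₀ : ((siegG Q f a₀ : ↥(Isom Q)) : V ≃ₗ[F] V) a₀ = a₀ + (2 : F) • f := by
  rw [siegG_apply Q D.hf D.hf0, D.h00, D.h0f]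
  module

theorem y_e : ((siegG Q e a₁ : ↥(Isom Q)) : V ≃ₗ[F] V) e = e :=
  siegG_fix Q D.hee D.he1

theorem y_f : ((siegG Q e a₁ : ↥(Isom Q)) : V ≃ₗ[F] V) f = f - a₁ - Q a₁ • e := by
  rw [siegG_apply Q D.he D.he1, D.hf1, D.hfe]
  module

theorem y_a₀ : ((siegG Q e a₁ : ↥(Isom Q)) : V ≃ₗ[F] V) a₀
    = a₀ + QuadraticMap.polar Q a₀ a₁ • e := by
  rw [siegG_apply Q D.he D.he1, D.h0e]
  module

theorem y_a₁ : ((siegG Q e a₁ : ↥(Isom Q)) : V ≃ₗ[F] V) a₁ = a₁ + (2 * Q a₁) • e := by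
  rw [siegG_apply Q D.he D.he1, h11, D.h1e]
  module

theorem yinv_f : ((siegG Q e (-a₁) : ↥(Isom Q)) : V ≃ₗ[F] V) f = f + a₁ - Q a₁ • e := by
  rw [siegG_apply Q D.he (by rw [QuadraticMap.polar_neg_right, D.he1, neg_zero]),
    QuadraticMap.polar_neg_right, D.hf1, D.hfe, QuadraticMap.map_neg]
  module

end MixData

/-- the Weyl element. -/
noncomputable def nW (Q : QuadraticForm F V) (e f a₀ : V) : ↥(Isom Q) :=
  siegG Q e a₀ * siegG Q f a₀ * siegG Q e a₀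

/-- the mixing involution. -/
noncomputable def mixG (Q : QuadraticForm F V) (e f a₀ a₁ : V) : ↥(Isom Q) :=
  siegG Q e a₁ * nW Q e f a₀ * (siegG Q e a₁)⁻¹

theorem nW_apply (v : V) : ((nW Q e f a₀ : ↥(Isom Q)) : V ≃ₗ[F] V) v
    = ((siegG Q e a₀ : ↥(Isom Q)) : V ≃ₗ[F] V) (((siegG Q f a₀ : ↥(Isom Q)) : V ≃ₗ[F] V)
      (((siegG Q e a₀ : ↥(Isom Q)) : V ≃ₗ[F] V) v)) := rfl

namespace MixData

variable (D : MixData Q e f a₀ a₁)
include D

theorem nW_e : ((nW Q e f a₀ : ↥(Isom Q)) : V ≃ₗ[F] V) e = -f := by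
  rw [nW_apply]
  simp only [map_sub, map_add, map_smul, D.X_e, D.X_f, D.X_a₀, D.Y_e, D.Y_f, D.Y_a₀]
  module

theorem nW_f : ((nW Q e f a₀ : ↥(Isom Q)) : V ≃ₗ[F] V) f = -e := by
  rw [nW_apply]
  simp only [map_sub, map_add, map_smul, D.X_e, D.X_f, D.X_a₀, D.Y_e, D.Y_f, D.Y_a₀]
  module

theorem nW_a₀ : ((nW Q e f a₀ : ↥(Isom Q)) : V ≃ₗ[F] V) a₀ = -a₀ := by
  rw [nW_apply]
  simp only [map_sub, map_add, map_smul, D.X_e, D.X_f, D.X_a₀, D.Y_e, D.Y_f, D.Y_a₀]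
  module

omit D in
theorem nW_fix {v : V} (hve : QuadraticMap.polar Q v e = 0) (hvf : QuadraticMap.polar Q v f = 0)
    (hv0 : QuadraticMap.polar Q v a₀ = 0) : ((nW Q e f a₀ : ↥(Isom Q)) : V ≃ₗ[F] V) v = v := by
  rw [nW_apply, siegG_fix Q hve hv0, siegG_fix Q hvf hv0, siegG_fix Q hve hv0]

theorem nW_mem_SG : nW Q e f a₀ ∈ SG Q :=
  (SG Q).mul_mem ((SG Q).mul_mem (siegG_mem_SG Q D.he D.he0) (siegG_mem_SG Q D.hf D.hf0))
    (siegG_mem_SG Q D.he D.he0)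

/-- the Weyl element is an involution (characteristic not two). -/
theorem nW_sq (h2 : (2 : F) ≠ 0) : nW Q e f a₀ * nW Q e f a₀ = 1 := by
  apply Subtype.ext
  apply LinearEquiv.ext
  intro v
  show ((nW Q e f a₀ : ↥(Isom Q)) : V ≃ₗ[F] V) (((nW Q e f a₀ : ↥(Isom Q)) : V ≃ₗ[F] V) v) = v
  set c₁ := QuadraticMap.polar Q f v with hc₁
  set c₂ := QuadraticMap.polar Q e v with hc₂
  set c₃ := QuadraticMap.polar Q a₀ v / 2 with hc₃
  set v' := v - c₁ • e - c₂ • f - c₃ • a₀ with hv'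
  have hv'e : QuadraticMap.polar Q v' e = 0 := by
    rw [QuadraticMap.polar_comm, hv', QuadraticMap.polar_sub_right, QuadraticMap.polar_sub_right,
      QuadraticMap.polar_sub_right, QuadraticMap.polar_smul_right, QuadraticMap.polar_smul_right,
      QuadraticMap.polar_smul_right, D.hee, D.hef, D.he0, ← hc₂]
    simp
  have hv'f : QuadraticMap.polar Q v' f = 0 := by
    rw [QuadraticMap.polar_comm, hv', QuadraticMap.polar_sub_right, QuadraticMap.polar_sub_right,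
      QuadraticMap.polar_sub_right, QuadraticMap.polar_smul_right, QuadraticMap.polar_smul_right,
      QuadraticMap.polar_smul_right, D.hfe, D.hff, D.hf0, ← hc₁]
    simp
  have hv'0 : QuadraticMap.polar Q v' a₀ = 0 := by
    rw [QuadraticMap.polar_comm, hv', QuadraticMap.polar_sub_right, QuadraticMap.polar_sub_right,
      QuadraticMap.polar_sub_right, QuadraticMap.polar_smul_right, QuadraticMap.polar_smul_right,
      QuadraticMap.polar_smul_right, D.h0e, D.h0f, D.h00, hc₃]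
    simp only [smul_eq_mul, mul_zero, sub_zero]
    field_simp
    ring
  have hv : v = c₁ • e + c₂ • f + c₃ • a₀ + v' := by rw [hv']; abel
  rw [hv]
  simp only [map_add, map_smul, D.nW_e, D.nW_f, D.nW_a₀, nW_fix hv'e hv'f hv'0, map_neg,
    neg_neg]

/-- the action of the Weyl element on the second vector. -/
theorem nW_a₁ (h2 : (2 : F) ≠ 0) : ((nW Q e f a₀ : ↥(Isom Q)) : V ≃ₗ[F] V) a₁
    = a₁ - QuadraticMap.polar Q a₀ a₁ • a₀ := by
  set b := QuadraticMap.polar Q a₀ a₁ with hb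
  set a' := a₁ - (b / 2) • a₀ with ha'
  have h1 : QuadraticMap.polar Q a' e = 0 := by
    rw [ha', QuadraticMap.polar_sub_left, QuadraticMap.polar_smul_left, D.h1e, D.h0e]
    simp
  have h2' : QuadraticMap.polar Q a' f = 0 := by
    rw [ha', QuadraticMap.polar_sub_left, QuadraticMap.polar_smul_left, D.h1f, D.h0f]
    simp
  have h3 : QuadraticMap.polar Q a' a₀ = 0 := by
    rw [ha', QuadraticMap.polar_sub_left, QuadraticMap.polar_smul_left, h10, D.h00, ← hb]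
    simp only [smul_eq_mul]
    field_simp
    ring
  have hdec : a₁ = a' + (b / 2) • a₀ := by rw [ha']; abel
  conv_lhs => rw [hdec]
  rw [map_add, map_smul, nW_fix h1 h2' h3, D.nW_a₀, ha']
  match_scalars <;> field_simp
  ring

/-! ### the mixing involution -/

theorem mixG_apply (v : V) : ((mixG Q e f a₀ a₁ : ↥(Isom Q)) : V ≃ₗ[F] V) v
    = ((siegG Q e a₁ : ↥(Isom Q)) : V ≃ₗ[F] V) (((nW Q e f a₀ : ↥(Isom Q)) : V ≃ₗ[F] V)
      (((siegG Q e (-a₁) : ↥(Isom Q)) : V ≃ₗ[F] V) v)) := by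
  unfold mixG
  rw [siegG_inv Q D.he D.he1]
  rfl

theorem mixG_mem_SG : mixG Q e f a₀ a₁ ∈ SG Q :=
  (SG Q).mul_mem ((SG Q).mul_mem (siegG_mem_SG Q D.he D.he1) D.nW_mem_SG)
    ((SG Q).inv_mem (siegG_mem_SG Q D.he D.he1))

theorem mixG_sq (h2 : (2 : F) ≠ 0) : mixG Q e f a₀ a₁ ^ 2 = 1 := by
  unfold mixG
  rw [pow_two]
  have := D.nW_sq h2
  calc siegG Q e a₁ * nW Q e f a₀ * (siegG Q e a₁)⁻¹ * (siegG Q e a₁ * nW Q e f a₀ * (siegG Q e a₁)⁻¹)
      = siegG Q e a₁ * (nW Q e f a₀ * nW Q e f a₀) * (siegG Q e a₁)⁻¹ := by group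
    _ = 1 := by rw [this]; group

theorem mixG_fix {v : V} (hve : QuadraticMap.polar Q v e = 0) (hvf : QuadraticMap.polar Q v f = 0)
    (hv0 : QuadraticMap.polar Q v a₀ = 0) (hv1 : QuadraticMap.polar Q v a₁ = 0) :
    ((mixG Q e f a₀ a₁ : ↥(Isom Q)) : V ≃ₗ[F] V) v = v := by
  rw [D.mixG_apply, siegG_fix Q hve (by rw [QuadraticMap.polar_neg_right, hv1, neg_zero]),
    nW_fix hve hvf hv0, siegG_fix Q hve hv1]

theorem mixG_e : ((mixG Q e f a₀ a₁ : ↥(Isom Q)) : V ≃ₗ[F] V) e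
    = Q a₁ • e + (-1 : F) • f + a₁ := by
  rw [D.mixG_apply, siegG_fix Q D.hee (by rw [QuadraticMap.polar_neg_right, D.he1, neg_zero]),
    D.nW_e, map_neg, D.y_f]
  module

theorem mixG_f (h2 : (2 : F) ≠ 0) : ((mixG Q e f a₀ a₁ : ↥(Isom Q)) : V ≃ₗ[F] V) f
    = (-((1 - Q a₁) ^ 2 + QuadraticMap.polar Q a₀ a₁ ^ 2)) • e + Q a₁ • f
      + ((1 - Q a₁) • a₁ - QuadraticMap.polar Q a₀ a₁ • a₀) := by
  rw [D.mixG_apply, D.yinv_f]
  simp only [map_sub, map_add, map_smul, map_neg, D.nW_f, D.nW_a₁ h2, D.nW_e, D.y_e, D.y_a₁,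
    D.y_a₀, D.y_f]
  module

end MixData

end Cfsg.Agent.Helper8.OGenG
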