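import Mathlib
import Cfsg.Agent.Helper8.OGenB

set_option autoImplicit false

/-!
# The flag of a hyperbolic frame and its stabiliser (helper8)

For a family of hyperbolic pairs `(e i, f i)`, `i : Fin r`, in a quadratic space, `E k` is the
span of the `e i` with `i < k`; the subgroup `BO` of the isometry group stabilises all of them.
-/

namespace Cfsg.Agent.Helper8.OSt

open Module Cfsg.Agent.Helper8.QuadForm Cfsg.Agent.Helper8.WittQuad Cfsg.Agent.Helper8.OrthOrder
  Cfsg.Agent.Helper8.Siegel Cfsg.Agent.Helper8.SiegelGroup Cfsg.Agent.Helper8.OGenA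
  Cfsg.Agent.Helper8.OGenB

variable {F : Type*} [Field F] {V : Type*} [AddCommGroup V] [Module F V] {r : ℕ}

section isometries

variable {Q : QuadraticForm F V}

theorem smul_def' (g : ↥(Isom Q)) (v : V) : g • v = (g : V ≃ₗ[F] V) v := rfl

theorem Q_smul (g : ↥(Isom Q)) (v : V) : Q (g • v) = Q v := g.2 v

theorem polar_smul_smul (g : ↥(Isom Q)) (u v : V) :
    QuadraticMap.polar Q (g • u) (g • v) = QuadraticMap.polar Q u v :=
  polar_isometry Q g g.2 u v

theorem polar_smul_left' (g : ↥(Isom Q)) (u v : V) :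
    QuadraticMap.polar Q (g • u) v = QuadraticMap.polar Q u (g⁻¹ • v) := by
  rw [← polar_smul_smul g u (g⁻¹ • v), smul_inv_smul]

theorem polar_smul_right' (g : ↥(Isom Q)) (u v : V) :
    QuadraticMap.polar Q u (g • v) = QuadraticMap.polar Q (g⁻¹ • u) v := by
  rw [← polar_smul_smul g (g⁻¹ • u) v, smul_inv_smul]

theorem smul_lc (g : ↥(Isom Q)) (b : Fin r → V) (a : Fin r → F) :
    g • lc b a = ∑ i, a i • g • b i := by
  rw [lc_apply, Finset.smul_sum]
  apply Finset.sum_congr rfl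
  intro i _
  rw [smul_comm]

theorem siegG_smul (Q : QuadraticForm F V) {u w : V} (hu : Q u = 0)
    (huw : QuadraticMap.polar Q u w = 0) (x : V) :
    siegG Q u w • x = x + QuadraticMap.polar Q x w • u - QuadraticMap.polar Q x u • w
        - (Q w * QuadraticMap.polar Q x u) • u :=
  siegG_apply Q hu huw x

theorem siegG_smul_fix (Q : QuadraticForm F V) {u w x : V}
    (hxu : QuadraticMap.polar Q x u = 0) (hxw : QuadraticMap.polar Q x w = 0) :
    siegG Q u w • x = x :=
  siegG_fix Q hxu hxw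

end isometries

variable {Q : QuadraticForm F V} {e f : Fin r → V}

/-! ### the flag -/

/-- the span of the `e i` with `i < k`, described by coordinates. -/
def E (Q : QuadraticForm F V) (e f : Fin r → V) (k : ℕ) : Submodule F V where
  carrier := {v | lc e (co Q f v) = v ∧ ∀ i : Fin r, k ≤ (i : ℕ) → co Q f v i = 0}
  add_mem' := by
    rintro a b ⟨ha, ha'⟩ ⟨hb, hb'⟩
    refine ⟨by rw [map_add, map_add, ha, hb], fun i hi => ?_⟩
    rw [map_add, Pi.add_apply, ha' i hi, hb' i hi, add_zero]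
  zero_mem' := ⟨by rw [map_zero, map_zero], fun i _ => by rw [map_zero, Pi.zero_apply]⟩
  smul_mem' := by
    rintro c a ⟨ha, ha'⟩
    refine ⟨by rw [map_smul, map_smul, ha], fun i hi => ?_⟩
    rw [map_smul, Pi.smul_apply, ha' i hi, smul_zero]

theorem mem_E {k : ℕ} {v : V} : v ∈ E Q e f k ↔
    lc e (co Q f v) = v ∧ ∀ i : Fin r, k ≤ (i : ℕ) → QuadraticMap.polar Q (f i) v = 0 := Iff.rfl

theorem E_mono {k l : ℕ} (h : k ≤ l) : E Q e f k ≤ E Q e f l := fun _ hv =>
  ⟨hv.1, fun i hi => hv.2 i (le_trans h hi)⟩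

theorem lc_mem_E (hyp : IsHyp Q e f) {k : ℕ} {a : Fin r → F} (ha : ∀ i : Fin r, k ≤ (i : ℕ) → a i = 0) :
    lc e a ∈ E Q e f k := by
  refine ⟨by rw [co_f_lc_e hyp], fun i hi => ?_⟩
  rw [co_f_lc_e hyp]
  exact ha i hi

theorem e_mem_E (hyp : IsHyp Q e f) {k : ℕ} {i : Fin r} (h : (i : ℕ) < k) : e i ∈ E Q e f k := by
  have := lc_mem_E (k := k) hyp (a := Pi.single i (1 : F)) (fun j hj => by
    rw [Pi.single_apply, if_neg]
    rintro rfl
    omega)
  rwa [lc_single, one_smul] at this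

theorem polar_e_of_mem_E (hyp : IsHyp Q e f) {k : ℕ} {v : V} (hv : v ∈ E Q e f k) (i : Fin r) :
    QuadraticMap.polar Q (e i) v = 0 := by
  rw [← hv.1]
  have := co_e_lc_e hyp (co Q f v)
  exact congrFun this i

theorem polar_of_mem_E {k : ℕ} {v : V} (hv : v ∈ E Q e f k) {w : V}
    (hw : ∀ i, QuadraticMap.polar Q w (e i) = 0) : QuadraticMap.polar Q w v = 0 := by
  rw [← hv.1, polar_lc]
  apply Finset.sum_eq_zero
  intro i _
  rw [hw, mul_zero]

theorem Q_of_mem_E (hyp : IsHyp Q e f) {k : ℕ} {v : V} (hv : v ∈ E Q e f k) : Q v = 0 := by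
  rw [← hv.1]
  exact Q_lc_e hyp _

theorem eq_zero_of_mem_E_zero {v : V} (hv : v ∈ E Q e f 0) : v = 0 := by
  have h : co Q f v = 0 := by
    funext i
    exact hv.2 i (Nat.zero_le _)
  rw [← hv.1, h, map_zero]

/-- a vector of `E (k+1)` whose last coordinate vanishes lies in `E k`. -/
theorem mem_E_of_succ {k : ℕ} {v : V} (hv : v ∈ E Q e f (k + 1))
    (h : ∀ i : Fin r, (i : ℕ) = k → QuadraticMap.polar Q (f i) v = 0) : v ∈ E Q e f k := by
  refine ⟨hv.1, fun i hi => ?_⟩
  rcases Nat.eq_or_lt_of_le hi with h1 | h1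
  · exact h i h1.symm
  · exact hv.2 i h1

/-- a linear map sending the first `k` vectors `e i` into a submodule sends `E k` there. -/
theorem smul_mem_of_mem_E {k : ℕ} (g : ↥(Isom Q)) (S : Submodule F V)
    (h : ∀ i : Fin r, (i : ℕ) < k → g • e i ∈ S) {v : V} (hv : v ∈ E Q e f k) : g • v ∈ S := by
  rw [← hv.1, smul_lc]
  apply Submodule.sum_mem
  intro i _
  by_cases hi : (i : ℕ) < k
  · exact S.smul_mem _ (h i hi)
  · rw [hv.2 i (not_lt.mp hi), zero_smul]
    exact S.zero_mem

/-! ### the stabiliser of the flag -/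

variable [FiniteDimensional F V]

/-- an isometry mapping a subspace into itself maps it onto itself. -/
theorem exists_smul_eq_of_stable (g : ↥(Isom Q)) (S : Submodule F V) (h : ∀ v ∈ S, g • v ∈ S)
    {v : V} (hv : v ∈ S) : g⁻¹ • v ∈ S := by
  let φ : S →ₗ[F] S := ((g : V ≃ₗ[F] V) : V →ₗ[F] V).restrict h
  have hinj : Function.Injective φ := by
    intro a b hab
    apply Subtype.ext
    have := congrArg Subtype.val hab
    exact (g : V ≃ₗ[F] V).injective this
  obtain ⟨u, hu⟩ := LinearMap.surjective_of_injective hinj ⟨v, hv⟩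
  have h1 : g • (u : V) = v := congrArg Subtype.val hu
  rw [← h1, inv_smul_smul]
  exact u.2

variable (Q e f)

/-- the stabiliser of the flag in the isometry group. -/
def BO : Subgroup ↥(Isom Q) where
  carrier := {g | ∀ k, ∀ v, v ∈ E Q e f k → g • v ∈ E Q e f k}
  mul_mem' := by
    intro a b ha hb k v hv
    rw [mul_smul]
    exact ha k _ (hb k v hv)
  one_mem' := by
    intro k v hv
    rwa [one_smul]
  inv_mem' := by
    intro a ha k v hv
    exact exists_smul_eq_of_stable a _ (ha k) hv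

variable {Q e f}

theorem mem_BO {g : ↥(Isom Q)} :
    g ∈ BO Q e f ↔ ∀ k, ∀ v, v ∈ E Q e f k → g • v ∈ E Q e f k := Iff.rfl

/-- membership in `BO` can be checked on the vectors `e i`. -/
theorem mem_BO_of_forall {g : ↥(Isom Q)} (h : ∀ i : Fin r, g • e i ∈ E Q e f ((i : ℕ) + 1)) :
    g ∈ BO Q e f := by
  intro k v hv
  apply smul_mem_of_mem_E g _ _ hv
  intro i hi
  exact E_mono (Nat.succ_le_of_lt hi) (h i)

theorem smul_e_mem (hyp : IsHyp Q e f) {g : ↥(Isom Q)} (hg : g ∈ BO Q e f) (i : Fin r) :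
    g • e i ∈ E Q e f ((i : ℕ) + 1) :=
  hg _ _ (e_mem_E hyp (Nat.lt_succ_self _))

/-- elements of `BO` preserve the orthogonal complements of the members of the flag. -/
theorem polar_smul_of_mem_BO {g : ↥(Isom Q)} (hg : g ∈ BO Q e f) {k : ℕ} {v : V}
    (hv : ∀ u ∈ E Q e f k, QuadraticMap.polar Q u v = 0) {u : V} (hu : u ∈ E Q e f k) :
    QuadraticMap.polar Q u (g • v) = 0 := by
  rw [polar_smul_right']
  exact hv _ ((BO Q e f).inv_mem hg k u hu)

end Cfsg.Agent.Helper8.OSt
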