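import Mathlib
import Cfsg.Agent.Helper8.OStA

set_option autoImplicit false

/-!
# Monomial isometries with respect to a hyperbolic frame (helper8)

The frame `fr = (e, f)` is indexed by `Fin r ⊕ Fin r`.  An isometry has pattern `σ` when it maps
each frame vector `fr a` to a multiple of `fr (σ a)`.  `NO` is the subgroup of the isometries
with a pattern, `TO` the subgroup of those with trivial pattern.
-/

namespace Cfsg.Agent.Helper8.OSt

open Module Cfsg.Agent.Helper8.QuadForm Cfsg.Agent.Helper8.WittQuad Cfsg.Agent.Helper8.OrthOrder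
  Cfsg.Agent.Helper8.Siegel Cfsg.Agent.Helper8.SiegelGroup Cfsg.Agent.Helper8.OGenA
  Cfsg.Agent.Helper8.OGenB

variable {F : Type*} [Field F] {V : Type*} [AddCommGroup V] [Module F V] {r : ℕ}
variable {Q : QuadraticForm F V} {e f : Fin r → V}

/-- the frame as a single family. -/
def fr (e f : Fin r → V) : Fin r ⊕ Fin r → V := Sum.elim e f

@[simp] theorem fr_inl (i : Fin r) : fr e f (Sum.inl i) = e i := rfl
@[simp] theorem fr_inr (i : Fin r) : fr e f (Sum.inr i) = f i := rfl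

theorem Q_fr (hyp : IsHyp Q e f) (a : Fin r ⊕ Fin r) : Q (fr e f a) = 0 := by
  rcases a with i | i
  · exact (hyp.1 i).1
  · exact (hyp.1 i).2

theorem polar_fr (hyp : IsHyp Q e f) (a b : Fin r ⊕ Fin r) :
    QuadraticMap.polar Q (fr e f a) (fr e f b) = if b = a.swap then 1 else 0 := by
  rcases a with i | i <;> rcases b with j | j
  · rw [fr_inl, fr_inl, (hyp.2.2 i j).1, if_neg]
    simp
  · rw [fr_inl, fr_inr, hyp.2.1 i j, Sum.swap_inl]
    by_cases h : i = j
    · rw [if_pos h, if_pos (by rw [h])]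
    · rw [if_neg h, if_neg (fun h' => h (Sum.inr.inj h').symm)]
  · rw [fr_inr, fr_inl, polar_fe hyp i j, Sum.swap_inr]
    by_cases h : i = j
    · rw [if_pos h, if_pos (by rw [h])]
    · rw [if_neg h, if_neg (fun h' => h (Sum.inl.inj h').symm)]
  · rw [fr_inr, fr_inr, (hyp.2.2 i j).2, if_neg]
    simp

theorem polar_fr_swap (hyp : IsHyp Q e f) (a : Fin r ⊕ Fin r) :
    QuadraticMap.polar Q (fr e f a) (fr e f a.swap) = 1 := by
  rw [polar_fr hyp, if_pos rfl]

theorem polar_fr_of_ne (hyp : IsHyp Q e f) {a b : Fin r ⊕ Fin r} (h : b ≠ a.swap) :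
    QuadraticMap.polar Q (fr e f a) (fr e f b) = 0 := by
  rw [polar_fr hyp, if_neg h]

theorem fr_ne_zero (hyp : IsHyp Q e f) (a : Fin r ⊕ Fin r) : fr e f a ≠ 0 := by
  intro h
  have := polar_fr_swap hyp a
  rw [h, QuadraticMap.polar_zero_left] at this
  exact zero_ne_one this

/-- a frame vector lying in `E k` is one of the first `k` vectors `e i`. -/
theorem inl_of_fr_mem_E (hyp : IsHyp Q e f) {a : Fin r ⊕ Fin r} {k : ℕ}
    (h : fr e f a ∈ E Q e f k) : ∃ j : Fin r, a = Sum.inl j ∧ (j : ℕ) < k := by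
  rcases a with j | j
  · refine ⟨j, rfl, ?_⟩
    by_contra hlt
    have h1 := h.2 j (not_lt.mp hlt)
    rw [co_apply, fr_inl, polar_fe hyp, if_pos rfl] at h1
    exact one_ne_zero h1
  · exfalso
    have h1 := polar_e_of_mem_E hyp h j
    rw [fr_inr, hyp.2.1, if_pos rfl] at h1
    exact one_ne_zero h1

/-! ### patterns -/

/-- `g` maps each frame vector `fr a` to a multiple of `fr (σ a)`. -/
def Pat (Q : QuadraticForm F V) (e f : Fin r → V) (σ : Equiv.Perm (Fin r ⊕ Fin r))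
    (g : ↥(Isom Q)) : Prop :=
  ∀ a, ∃ c : F, g • fr e f a = c • fr e f (σ a)

theorem Pat.one : Pat Q e f 1 1 := fun a => ⟨1, by rw [one_smul, one_smul, Equiv.Perm.one_apply]⟩

theorem Pat.mul {σ τ : Equiv.Perm (Fin r ⊕ Fin r)} {g h : ↥(Isom Q)} (hg : Pat Q e f σ g)
    (hh : Pat Q e f τ h) : Pat Q e f (σ * τ) (g * h) := by
  intro a
  obtain ⟨c, hc⟩ := hh a
  obtain ⟨d, hd⟩ := hg (τ a)
  refine ⟨c * d, ?_⟩
  rw [mul_smul, hc, smul_comm, hd, smul_smul, Equiv.Perm.mul_apply]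

theorem Pat.coeff_ne_zero (hyp : IsHyp Q e f) {σ : Equiv.Perm (Fin r ⊕ Fin r)} {g : ↥(Isom Q)}
    {a : Fin r ⊕ Fin r} {c : F} (hc : g • fr e f a = c • fr e f (σ a)) : c ≠ 0 := by
  rintro rfl
  rw [zero_smul] at hc
  have h1 : g⁻¹ • g • fr e f a = 0 := by rw [hc, smul_zero]
  rw [inv_smul_smul] at h1
  exact fr_ne_zero hyp a h1

theorem Pat.inv (hyp : IsHyp Q e f) {σ : Equiv.Perm (Fin r ⊕ Fin r)} {g : ↥(Isom Q)}
    (hg : Pat Q e f σ g) : Pat Q e f σ⁻¹ g⁻¹ := by
  intro a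
  obtain ⟨c, hc⟩ := hg (σ⁻¹ a)
  have hc0 := Pat.coeff_ne_zero hyp hc
  rw [show σ (σ⁻¹ a) = a from σ.apply_symm_apply a] at hc
  refine ⟨c⁻¹, ?_⟩
  rw [inv_smul_eq_iff, smul_comm, hc, smul_smul, inv_mul_cancel₀ hc0, one_smul]

/-- the pattern of an isometry commutes with the swap. -/
theorem Pat.swap (hyp : IsHyp Q e f) {σ : Equiv.Perm (Fin r ⊕ Fin r)} {g : ↥(Isom Q)}
    (hg : Pat Q e f σ g) (a : Fin r ⊕ Fin r) : σ a.swap = (σ a).swap := by
  obtain ⟨c, hc⟩ := hg a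
  obtain ⟨d, hd⟩ := hg a.swap
  have h1 := polar_smul_smul g (fr e f a) (fr e f a.swap)
  rw [hc, hd, polar_fr_swap hyp, QuadraticMap.polar_smul_left, QuadraticMap.polar_smul_right,
    polar_fr hyp] at h1
  by_contra hne
  rw [if_neg hne] at h1
  simp at h1

theorem Pat.unique (hyp : IsHyp Q e f) {σ τ : Equiv.Perm (Fin r ⊕ Fin r)} {g : ↥(Isom Q)}
    (hg : Pat Q e f σ g) (hg' : Pat Q e f τ g) : σ = τ := by
  ext a
  obtain ⟨c, hc⟩ := hg a
  obtain ⟨d, hd⟩ := hg' a
  have hc0 := Pat.coeff_ne_zero hyp hc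
  by_contra hne
  have h1 : QuadraticMap.polar Q (g • fr e f a) (fr e f (σ a).swap) = c := by
    rw [hc, QuadraticMap.polar_smul_left, polar_fr_swap hyp, smul_eq_mul, mul_one]
  rw [hd, QuadraticMap.polar_smul_left, polar_fr hyp, if_neg, smul_zero] at h1
  · exact hc0 h1.symm
  · intro h
    apply hne
    have := congrArg Sum.swap h
    rw [Sum.swap_swap, Sum.swap_swap] at this
    rw [this]

variable (Q e f)

/-- the monomial isometries. -/
def NO (hyp : IsHyp Q e f) : Subgroup ↥(Isom Q) where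
  carrier := {g | ∃ σ, Pat Q e f σ g}
  mul_mem' := by
    rintro a b ⟨σ, hσ⟩ ⟨τ, hτ⟩
    exact ⟨σ * τ, hσ.mul hτ⟩
  one_mem' := ⟨1, Pat.one⟩
  inv_mem' := by
    rintro a ⟨σ, hσ⟩
    exact ⟨σ⁻¹, hσ.inv hyp⟩

/-- the isometries fixing all the lines of the frame. -/
def TO (hyp : IsHyp Q e f) : Subgroup ↥(Isom Q) where
  carrier := {g | Pat Q e f 1 g}
  mul_mem' := by
    intro a b ha hb
    have := ha.mul hb
    rwa [mul_one] at this
  one_mem' := Pat.one
  inv_mem' := by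
    intro a ha
    have := ha.inv hyp
    rwa [inv_one] at this

variable {Q e f}

theorem mem_NO (hyp : IsHyp Q e f) {g : ↥(Isom Q)} : g ∈ NO Q e f hyp ↔ ∃ σ, Pat Q e f σ g :=
  Iff.rfl

theorem mem_TO (hyp : IsHyp Q e f) {g : ↥(Isom Q)} : g ∈ TO Q e f hyp ↔ Pat Q e f 1 g :=
  Iff.rfl

theorem TO_le_NO (hyp : IsHyp Q e f) : TO Q e f hyp ≤ NO Q e f hyp := fun _ hg => ⟨1, hg⟩

section fd

variable [FiniteDimensional F V]

theorem TO_le_BO (hyp : IsHyp Q e f) : TO Q e f hyp ≤ BO Q e f := by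
  intro g hg
  apply mem_BO_of_forall
  intro i
  obtain ⟨c, hc⟩ := hg (Sum.inl i)
  rw [fr_inl, Equiv.Perm.one_apply, fr_inl] at hc
  rw [hc]
  exact (E Q e f _).smul_mem _ (e_mem_E hyp (Nat.lt_succ_self _))

/-- a monomial isometry stabilising the flag has trivial pattern. -/
theorem pat_eq_one_of_mem_BO (hyp : IsHyp Q e f) {σ : Equiv.Perm (Fin r ⊕ Fin r)}
    {g : ↥(Isom Q)} (hg : g ∈ BO Q e f) (hσ : Pat Q e f σ g) : σ = 1 := by
  have key : ∀ n : ℕ, ∀ i : Fin r, (i : ℕ) = n → σ (Sum.inl i) = Sum.inl i := by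
    intro n
    induction n using Nat.strong_induction_on with
    | _ n ih =>
      intro i hi
      obtain ⟨c, hc⟩ := hσ (Sum.inl i)
      have hc0 := Pat.coeff_ne_zero hyp hc
      have h1 := smul_e_mem hyp hg i
      rw [fr_inl] at hc
      rw [hc] at h1
      have h2 : fr e f (σ (Sum.inl i)) ∈ E Q e f ((i : ℕ) + 1) := by
        have := (E Q e f ((i : ℕ) + 1)).smul_mem c⁻¹ h1
        rwa [smul_smul, inv_mul_cancel₀ hc0, one_smul] at this
      obtain ⟨j, hj, hlt⟩ := inl_of_fr_mem_E hyp h2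
      rcases Nat.eq_or_lt_of_le (Nat.lt_succ_iff.mp hlt) with h3 | h3
      · rw [hj, Fin.ext h3]
      · exfalso
        have h4 := ih j (by omega) j rfl
        have h5 : σ (Sum.inl j) = σ (Sum.inl i) := by rw [h4, hj]
        have h6 := Sum.inl.inj (σ.injective h5)
        rw [h6] at h3
        exact lt_irrefl _ h3
  ext a
  rw [Equiv.Perm.one_apply]
  rcases a with i | i
  · rw [key i i rfl]
  · have := hσ.swap hyp (Sum.inl i)
    rw [Sum.swap_inl] at this
    rw [this, key i i rfl, Sum.swap_inl]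

theorem BO_inf_NO_le (hyp : IsHyp Q e f) : BO Q e f ⊓ NO Q e f hyp ≤ TO Q e f hyp := by
  rintro g ⟨hgB, σ, hσ⟩
  have := pat_eq_one_of_mem_BO hyp hgB hσ
  rw [this] at hσ
  exact hσ

/-- conjugation by a monomial isometry preserves the diagonal ones. -/
theorem conj_mem_TO (hyp : IsHyp Q e f) {n t : ↥(Isom Q)} (hn : n ∈ NO Q e f hyp)
    (ht : t ∈ TO Q e f hyp) : n * t * n⁻¹ ∈ TO Q e f hyp := by
  obtain ⟨σ, hσ⟩ := hn
  have h := (hσ.mul ht).mul (hσ.inv hyp)
  rw [mul_one, mul_inv_cancel] at h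
  exact h

end fd

/-! ### the anisotropic kernel -/

variable (Q e f)

/-- the orthogonal complement of the frame. -/
def W0 : Submodule F V where
  carrier := {w | co Q e w = 0 ∧ co Q f w = 0}
  add_mem' := by
    rintro a b ⟨ha, ha'⟩ ⟨hb, hb'⟩
    exact ⟨by rw [map_add, ha, hb, add_zero], by rw [map_add, ha', hb', add_zero]⟩
  zero_mem' := ⟨map_zero _, map_zero _⟩
  smul_mem' := by
    rintro c a ⟨ha, ha'⟩
    exact ⟨by rw [map_smul, ha, smul_zero], by rw [map_smul, ha', smul_zero]⟩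

/-- the component of a vector in the orthogonal complement of the frame. -/
noncomputable def pi0 : V →ₗ[F] V :=
  LinearMap.id - (lc e) ∘ₗ (co Q f) - (lc f) ∘ₗ (co Q e)

variable {Q e f}

theorem pi0_apply (v : V) : pi0 Q e f v = v - lc e (co Q f v) - lc f (co Q e v) := rfl

theorem mem_W0 {w : V} : w ∈ W0 Q e f ↔
    (∀ i, QuadraticMap.polar Q (e i) w = 0) ∧ ∀ i, QuadraticMap.polar Q (f i) w = 0 := by
  constructor
  · rintro ⟨h1, h2⟩
    exact ⟨fun i => congrFun h1 i, fun i => congrFun h2 i⟩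
  · rintro ⟨h1, h2⟩
    exact ⟨funext h1, funext h2⟩

theorem polar_fr_of_mem_W0 {w : V} (hw : w ∈ W0 Q e f) (a : Fin r ⊕ Fin r) :
    QuadraticMap.polar Q (fr e f a) w = 0 := by
  rcases a with i | i
  · exact (mem_W0.mp hw).1 i
  · exact (mem_W0.mp hw).2 i

theorem mem_W0_of_fr {w : V} (hw : ∀ a, QuadraticMap.polar Q (fr e f a) w = 0) : w ∈ W0 Q e f :=
  mem_W0.mpr ⟨fun i => hw (Sum.inl i), fun i => hw (Sum.inr i)⟩

theorem pi0_mem_W0 (hyp : IsHyp Q e f) (v : V) : pi0 Q e f v ∈ W0 Q e f := by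
  constructor
  · rw [pi0_apply, map_sub, map_sub, co_e_lc_e hyp, co_e_lc_f hyp]
    simp
  · rw [pi0_apply, map_sub, map_sub, co_f_lc_e hyp, co_f_lc_f hyp]
    simp

theorem decomp_eq (v : V) : v = lc e (co Q f v) + lc f (co Q e v) + pi0 Q e f v := by
  rw [pi0_apply]
  abel

theorem pi0_of_mem_W0 {w : V} (hw : w ∈ W0 Q e f) : pi0 Q e f w = w := by
  rw [pi0_apply, hw.1, hw.2, map_zero, map_zero, sub_zero, sub_zero]

theorem pi0_lc_e (hyp : IsHyp Q e f) (a : Fin r → F) : pi0 Q e f (lc e a) = 0 := by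
  rw [pi0_apply, co_f_lc_e hyp, co_e_lc_e hyp, map_zero, sub_self, sub_zero]

theorem pi0_lc_f (hyp : IsHyp Q e f) (a : Fin r → F) : pi0 Q e f (lc f a) = 0 := by
  rw [pi0_apply, co_f_lc_f hyp, co_e_lc_f hyp, map_zero, sub_zero, sub_self]

/-- the vectors of `E r` are those without components along the `f i` and the kernel. -/
theorem mem_E_top_iff (hyp : IsHyp Q e f) {v : V} :
    v ∈ E Q e f r ↔ co Q e v = 0 ∧ pi0 Q e f v = 0 := by
  constructor
  · intro hv
    refine ⟨funext fun i => polar_e_of_mem_E hyp hv i, ?_⟩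
    rw [← hv.1, pi0_lc_e hyp]
  · rintro ⟨h1, h2⟩
    refine ⟨?_, fun i hi => absurd i.2 (not_lt.mpr hi)⟩
    have := decomp_eq (Q := Q) (e := e) (f := f) v
    rw [h1, h2, map_zero, add_zero, add_zero] at this
    exact this.symm

/-- monomial isometries preserve the orthogonal complement of the frame. -/
theorem smul_mem_W0 (hyp : IsHyp Q e f) {g : ↥(Isom Q)} {σ : Equiv.Perm (Fin r ⊕ Fin r)}
    (hσ : Pat Q e f σ g) {w : V} (hw : w ∈ W0 Q e f) : g • w ∈ W0 Q e f := by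
  apply mem_W0_of_fr
  intro a
  obtain ⟨c, hc⟩ := (hσ.inv hyp) a
  rw [polar_smul_right', hc, QuadraticMap.polar_smul_left, polar_fr_of_mem_W0 hw, smul_zero]

/-- an isometry fixing the frame and its orthogonal complement is the identity. -/
theorem eq_one_of_fix {g : ↥(Isom Q)} (h1 : ∀ a, g • fr e f a = fr e f a)
    (h2 : ∀ w ∈ W0 Q e f, g • w = w) (hyp : IsHyp Q e f) : g = 1 := by
  apply Subtype.ext
  apply LinearEquiv.ext
  intro v
  show g • v = v
  conv_lhs => rw [decomp_eq (Q := Q) (e := e) (f := f) v]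
  rw [smul_add, smul_add, smul_lc, smul_lc, h2 _ (pi0_mem_W0 hyp v)]
  have he : ∀ i, g • e i = e i := fun i => h1 (Sum.inl i)
  have hf : ∀ i, g • f i = f i := fun i => h1 (Sum.inr i)
  simp only [he, hf]
  exact (decomp_eq v).symm

end Cfsg.Agent.Helper8.OSt
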