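import Mathlib
import Cfsg.Agent.Helper8.OStB
import Cfsg.Agent.Lead.SpBND

set_option autoImplicit false

/-!
# Root elements of an orthogonal group and the flag stabiliser (helper8)
-/

namespace Cfsg.Agent.Helper8.OSt

open Module Cfsg.Agent.Helper8.QuadForm Cfsg.Agent.Helper8.WittQuad Cfsg.Agent.Helper8.OrthOrder
  Cfsg.Agent.Helper8.Siegel Cfsg.Agent.Helper8.SiegelGroup Cfsg.Agent.Helper8.OGenA
  Cfsg.Agent.Helper8.OGenB Cfsg.Agent.Lead.SpFus

section abstract

variable {G : Type*} [Group G] {A : Type*} [AddGroup A]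

/-- The rank one argument behind the double coset axiom, for root groups parametrised by an
additive group. -/
theorem union_of_rank_one' (B : Subgroup G) {s n b : G} (x y : A → G)
    (hx0 : x 0 = 1) (hxinv : ∀ c, (x c)⁻¹ = x (-c))
    (hclear : ∃ t, s * (b * x t) * s⁻¹ ∈ B)
    (hrank : ∀ c, c ≠ 0 → ∃ c', s * x c * y c' ∈ B)
    (hdich : (∀ c, n⁻¹ * x c * n ∈ B) ∨ (∀ c, n⁻¹ * y c * n ∈ B)) :
    s * b * n ∈ DoubleCoset.doubleCoset (s * n) (B : Set G) B ∪
      DoubleCoset.doubleCoset n (B : Set G) B := by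
  obtain ⟨t, ht⟩ := hclear
  rcases hdich with hd | hd
  · left
    rw [DoubleCoset.mem_doubleCoset]
    refine ⟨_, ht, _, hd (-t), ?_⟩
    rw [← hxinv]
    group
  · by_cases ht0 : t = 0
    · left
      rw [ht0, hx0, mul_one] at ht
      rw [DoubleCoset.mem_doubleCoset]
      refine ⟨_, ht, 1, B.one_mem, ?_⟩
      group
    · right
      have hc : -t ≠ 0 := neg_ne_zero.mpr ht0
      obtain ⟨c', hU⟩ := hrank (-t) hc
      have hy := B.inv_mem (hd c')
      rw [DoubleCoset.mem_doubleCoset]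
      refine ⟨_, B.mul_mem ht hU, _, hy, ?_⟩
      rw [← hxinv]
      group

/-- The positive case of the rank one argument. -/
theorem mem_of_pos' (B : Subgroup G) {s n b : G} (x : A → G) (hxinv : ∀ c, (x c)⁻¹ = x (-c))
    (hclear : ∃ t, s * (b * x t) * s⁻¹ ∈ B) (hd : ∀ c, n⁻¹ * x c * n ∈ B) :
    s * b * n ∈ DoubleCoset.doubleCoset (s * n) (B : Set G) B := by
  obtain ⟨t, ht⟩ := hclear
  rw [DoubleCoset.mem_doubleCoset]
  refine ⟨_, ht, _, hd (-t), ?_⟩
  rw [← hxinv]
  group

end abstract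

variable {F : Type*} [Field F] {V : Type*} [AddCommGroup V] [Module F V] {r : ℕ}
variable {Q : QuadraticForm F V} {e f : Fin r → V}

theorem polar_e_fr (hyp : IsHyp Q e f) (i : Fin r) (b : Fin r ⊕ Fin r) :
    QuadraticMap.polar Q (e i) (fr e f b) = if b = Sum.inr i then 1 else 0 := by
  have := polar_fr hyp (Sum.inl i) b
  rwa [fr_inl, Sum.swap_inl] at this

theorem rho_lt_inl {a : Fin r ⊕ Fin r} {i : Fin r} (h : rho r a < rho r (Sum.inl i)) :
    ∃ l : Fin r, a = Sum.inl l ∧ (l : ℕ) < (i : ℕ) := by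
  rcases a with l | l
  · exact ⟨l, rfl, h⟩
  · exfalso
    rw [rho_inl, rho_inr] at h
    have := l.2
    have := i.2
    omega

section fd

variable [FiniteDimensional F V]

/-- **positive long root elements stabilise the flag.** -/
theorem siegG_fr_mem_BO (hyp : IsHyp Q e f) {a b : Fin r ⊕ Fin r} (hab : b ≠ a)
    (hab' : b ≠ a.swap) (hlt : rho r a < rho r b.swap) (c : F) :
    siegG Q (fr e f a) (c • fr e f b) ∈ BO Q e f := by
  have hu : Q (fr e f a) = 0 := Q_fr hyp a
  have huw : QuadraticMap.polar Q (fr e f a) (c • fr e f b) = 0 := by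
    rw [QuadraticMap.polar_smul_right, polar_fr_of_ne hyp hab', smul_zero]
  have hQw : Q (c • fr e f b) = 0 := by rw [QuadraticMap.map_smul, Q_fr hyp, smul_zero]
  apply mem_BO_of_forall
  intro i
  rw [siegG_smul Q hu huw, hQw, zero_mul, zero_smul, sub_zero, QuadraticMap.polar_smul_right,
    polar_e_fr hyp, polar_e_fr hyp]
  have hei : e i ∈ E Q e f ((i : ℕ) + 1) := e_mem_E hyp (Nat.lt_succ_self _)
  by_cases hb : b = Sum.inr i
  · have ha : a ≠ Sum.inr i := fun h => hab (by rw [hb, h])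
    rw [if_pos hb, if_neg ha, zero_smul, sub_zero]
    rw [hb, Sum.swap_inr] at hlt
    obtain ⟨l, hl, hli⟩ := rho_lt_inl hlt
    rw [hl, fr_inl]
    exact (E Q e f _).add_mem hei ((E Q e f _).smul_mem _ (e_mem_E hyp (by omega)))
  · rw [if_neg hb, smul_zero, zero_smul, add_zero]
    by_cases ha : a = Sum.inr i
    · rw [if_pos ha, one_smul]
      have h2 : rho r b < rho r (Sum.inl i) := by
        rw [ha] at hlt
        rcases b with l | l
        · rw [Sum.swap_inl, rho_inr, rho_inr] at hlt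
          rw [rho_inl, rho_inl]
          have := l.2
          have := i.2
          omega
        · rw [Sum.swap_inr, rho_inr, rho_inl] at hlt
          have := l.2
          have := i.2
          omega
      obtain ⟨l, hl, hli⟩ := rho_lt_inl h2
      rw [hl, fr_inl]
      exact (E Q e f _).sub_mem hei ((E Q e f _).smul_mem _ (e_mem_E hyp (by omega)))
    · rw [if_neg ha, zero_smul, sub_zero]
      exact hei

/-- Siegel elements at `e i` with parameter in the kernel fix the flag vectors. -/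
theorem siegG_W0_mem_BO (hyp : IsHyp Q e f) (i : Fin r) {w : V} (hw : w ∈ W0 Q e f) :
    siegG Q (e i) w ∈ BO Q e f := by
  apply mem_BO_of_forall
  intro l
  rw [siegG_smul_fix Q ((hyp.2.2 l i).1) ((mem_W0.mp hw).1 l)]
  exact e_mem_E hyp (Nat.lt_succ_self _)

end fd

/-- conjugating a Siegel element by an isometry. -/
theorem inv_mul_siegG_mul (g : ↥(Isom Q)) (u w : V) :
    g⁻¹ * siegG Q u w * g = siegG Q (g⁻¹ • u) (g⁻¹ • w) := by
  have := siegG_conj Q g⁻¹ u w
  rwa [inv_inv] at this

theorem siegG_smul_smul {u w : V} (hu : Q u = 0) (huw : QuadraticMap.polar Q u w = 0) (c d : F) :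
    siegG Q (c • u) (d • w) = siegG Q u ((c * d) • w) := by
  rw [siegG_smul_left Q hu (by rw [QuadraticMap.polar_smul_right, huw, smul_zero]), smul_smul]

end Cfsg.Agent.Helper8.OSt
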