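import Mathlib
import Cfsg.Agent.Helper8.OStC
import Cfsg.Agent.Helper8.OGenG
import Cfsg.Agent.Helper8.OGenE

set_option autoImplicit false

/-!
# The fundamental reflections of an orthogonal group with anisotropic kernel (helper8)

The frame has `k + 1` hyperbolic pairs.  The reflections are indexed by `Option (Fin k)`:
`some i` is the image under the Levi embedding of the signed transposition of `e i` and
`e (i+1)`; `none` is the Weyl element exchanging the last pair through a vector `a₀` of norm one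
in the orthogonal complement of the frame.
-/

namespace Cfsg.Agent.Helper8.OSt

open Module Matrix Cfsg.Agent.Helper8.QuadForm Cfsg.Agent.Helper8.WittQuad
  Cfsg.Agent.Helper8.OrthOrder
  Cfsg.Agent.Helper8.Siegel Cfsg.Agent.Helper8.SiegelGroup Cfsg.Agent.Helper8.OGenA
  Cfsg.Agent.Helper8.OGenB Cfsg.Agent.Helper8.OGenG Cfsg.Agent.Lead.SpFus
  Cfsg.Agent.Lead.SpBN

variable {F : Type*} [Field F] {V : Type*} [AddCommGroup V] [Module F V]

section levi

variable {r : ℕ} {Q : QuadraticForm F V} {e f : Fin r → V}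

theorem co_f_e (hyp : IsHyp Q e f) (i : Fin r) : co Q f (e i) = Pi.single i 1 := by
  funext l
  rw [co_apply, polar_fe hyp, Pi.single_apply]

theorem co_e_f (hyp : IsHyp Q e f) (i : Fin r) : co Q e (f i) = Pi.single i 1 := by
  funext l
  rw [co_apply, hyp.2.1, Pi.single_apply]

theorem co_e_e (hyp : IsHyp Q e f) (i : Fin r) : co Q e (e i) = 0 := by
  funext l
  rw [co_apply, (hyp.2.2 l i).1, Pi.zero_apply]

theorem co_f_f (hyp : IsHyp Q e f) (i : Fin r) : co Q f (f i) = 0 := by
  funext l
  rw [co_apply, (hyp.2.2 l i).2, Pi.zero_apply]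

/-- the Levi embedding acts on the `e i` through the columns of the matrix. -/
theorem j_smul_e (hyp : IsHyp Q e f) (A : SpecialLinearGroup (Fin r) F) (i : Fin r) :
    j hyp A • e i = lc e (fun l => (A : Matrix (Fin r) (Fin r) F) l i) := by
  rw [smul_def', j_apply, co_f_e hyp, co_e_e hyp, mulVec_zero, map_zero, add_zero,
    sub_mulVec, one_mulVec, map_sub, lc_single, one_smul, mulVec_single_one]
  rw [add_sub_cancel]
  rfl

/-- the Levi embedding acts on the `f i` through the rows of the inverse matrix. -/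
theorem j_smul_f (hyp : IsHyp Q e f) (A : SpecialLinearGroup (Fin r) F) (i : Fin r) :
    j hyp A • f i
      = lc f (fun l => ((A⁻¹ : SpecialLinearGroup (Fin r) F) : Matrix (Fin r) (Fin r) F) i l) := by
  rw [smul_def', j_apply, co_f_f hyp, co_e_f hyp, mulVec_zero, map_zero, add_zero,
    sub_mulVec, one_mulVec, map_sub, lc_single, one_smul, mulVec_single_one]
  rw [add_sub_cancel]
  rfl

theorem j_smul_W0 (hyp : IsHyp Q e f) (A : SpecialLinearGroup (Fin r) F) {w : V}
    (hw : w ∈ W0 Q e f) : j hyp A • w = w := by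
  rw [smul_def', j_apply, hw.1, hw.2, mulVec_zero, mulVec_zero, map_zero, map_zero, add_zero,
    add_zero]

end levi

section mono

variable {k : ℕ} {Q : QuadraticForm F V} {e f : Fin (k + 1) → V}

open Cfsg.Agent.Lead.SLBN in
/-- the image of a monomial matrix under the Levi embedding is monomial. -/
theorem pat_j (hyp : IsHyp Q e f) {A : SpecialLinearGroup (Fin (k + 1)) F}
    {σ : Equiv.Perm (Fin (k + 1))}
    (h1 : MonoP σ (A : Matrix (Fin (k + 1)) (Fin (k + 1)) F))
    (h2 : MonoP σ⁻¹ ((A⁻¹ : SpecialLinearGroup (Fin (k + 1)) F) :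
      Matrix (Fin (k + 1)) (Fin (k + 1)) F)) :
    Pat Q e f (Equiv.sumCongr σ σ) (j hyp A) := by
  rintro (i | i)
  · refine ⟨(A : Matrix (Fin (k + 1)) (Fin (k + 1)) F) (σ i) i, ?_⟩
    rw [fr_inl, j_smul_e hyp, Equiv.sumCongr_apply, Sum.map_inl, fr_inl, lc_apply,
      Finset.sum_eq_single (σ i)]
    · intro l _ hl
      rw [h1 l i hl, zero_smul]
    · intro h
      exact absurd (Finset.mem_univ _) h
  · refine ⟨((A⁻¹ : SpecialLinearGroup (Fin (k + 1)) F) :
      Matrix (Fin (k + 1)) (Fin (k + 1)) F) i (σ i), ?_⟩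
    rw [fr_inr, j_smul_f hyp, Equiv.sumCongr_apply, Sum.map_inr, fr_inr, lc_apply,
      Finset.sum_eq_single (σ i)]
    · intro l _ hl
      rw [h2 i l, zero_smul]
      intro h
      apply hl
      rw [h, Cfsg.Agent.Lead.SLBN.perm_apply_inv]
    · intro h
      exact absurd (Finset.mem_univ _) h

end mono

/-! ### the data and the generators -/

section data

variable {k : ℕ}

/-- the data: a frame of `k + 1` hyperbolic pairs whose orthogonal complement is anisotropic
and contains a vector `a₀` of norm one. -/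
structure WData (Q : QuadraticForm F V) (e f : Fin (k + 1) → V) (a₀ : V) : Prop where
  hyp : IsHyp Q e f
  ha₀ : a₀ ∈ W0 Q e f
  hQ0 : Q a₀ = 1
  aniso : ∀ w ∈ W0 Q e f, Q w = 0 → w = 0

variable {Q : QuadraticForm F V} {e f : Fin (k + 1) → V} {a₀ : V}

namespace WData

variable (D : WData Q e f a₀)
include D

theorem mix : MixData Q (e (Fin.last k)) (f (Fin.last k)) a₀ 0 where
  he := (D.hyp.1 _).1
  hf := (D.hyp.1 _).2
  hef := by rw [D.hyp.2.1, if_pos rfl]
  h0e := by rw [QuadraticMap.polar_comm]; exact (mem_W0.mp D.ha₀).1 _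
  h0f := by rw [QuadraticMap.polar_comm]; exact (mem_W0.mp D.ha₀).2 _
  h1e := QuadraticMap.polar_zero_left _ _
  h1f := QuadraticMap.polar_zero_left _ _
  hQ0 := D.hQ0

theorem polar_fr_a₀ (a : Fin (k + 1) ⊕ Fin (k + 1)) : QuadraticMap.polar Q (fr e f a) a₀ = 0 :=
  polar_fr_of_mem_W0 D.ha₀ a

/-- the representatives of the fundamental reflections, in the isometry group. -/
noncomputable def genO : Option (Fin k) → ↥(Isom Q)
  | some i => j D.hyp (Cfsg.Agent.Lead.SLBN.sgen F i)
  | none => nW Q (e (Fin.last k)) (f (Fin.last k)) a₀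

theorem genO_some (i : Fin k) : D.genO (some i) = j D.hyp (Cfsg.Agent.Lead.SLBN.sgen F i) := rfl

theorem genO_none : D.genO none = nW Q (e (Fin.last k)) (f (Fin.last k)) a₀ := rfl

theorem genO_mem_SG (o : Option (Fin k)) : D.genO o ∈ SG Q := by
  rcases o with _ | i
  · exact D.mix.nW_mem_SG
  · exact Cfsg.Agent.Helper8.OGenE.j_mem_SG D.hyp (by have := i.2; omega) _

theorem nW_smul_e_last : nW Q (e (Fin.last k)) (f (Fin.last k)) a₀ • e (Fin.last k)
    = -f (Fin.last k) := D.mix.nW_e

theorem nW_smul_f_last : nW Q (e (Fin.last k)) (f (Fin.last k)) a₀ • f (Fin.last k)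
    = -e (Fin.last k) := D.mix.nW_f

theorem nW_smul_fr {a : Fin (k + 1) ⊕ Fin (k + 1)} (h1 : a ≠ Sum.inl (Fin.last k))
    (h2 : a ≠ Sum.inr (Fin.last k)) :
    nW Q (e (Fin.last k)) (f (Fin.last k)) a₀ • fr e f a = fr e f a := by
  apply MixData.nW_fix
  · have := polar_fr D.hyp a (Sum.inl (Fin.last k))
    rw [fr_inl] at this
    rw [this, if_neg]
    intro h
    apply h2
    have := congrArg Sum.swap h
    rw [Sum.swap_swap, Sum.swap_inl] at this
    exact this.symm
  · have := polar_fr D.hyp a (Sum.inr (Fin.last k))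
    rw [fr_inr] at this
    rw [this, if_neg]
    intro h
    apply h1
    have := congrArg Sum.swap h
    rw [Sum.swap_swap, Sum.swap_inr] at this
    exact this.symm
  · exact D.polar_fr_a₀ a

theorem pat_genO (o : Option (Fin k)) : Pat Q e f (genPat o) (D.genO o) := by
  rcases o with _ | i
  · intro a
    change ∃ c : F, nW Q (e (Fin.last k)) (f (Fin.last k)) a₀ • fr e f a
      = c • fr e f (cS (Fin.last k) a)
    unfold cS
    by_cases h1 : a = Sum.inl (Fin.last k)
    · refine ⟨-1, ?_⟩
      rw [h1, Equiv.swap_apply_left, fr_inl, fr_inr, D.nW_smul_e_last, neg_smul, one_smul]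
    · by_cases h2 : a = Sum.inr (Fin.last k)
      · refine ⟨-1, ?_⟩
        rw [h2, Equiv.swap_apply_right, fr_inl, fr_inr, D.nW_smul_f_last, neg_smul, one_smul]
      · refine ⟨1, ?_⟩
        rw [Equiv.swap_apply_of_ne_of_ne h1 h2, D.nW_smul_fr h1 h2, one_smul]
  · exact pat_j D.hyp (Cfsg.Agent.Lead.SLBN.sgen_monoP i) (Cfsg.Agent.Lead.SLBN.sgen_inv_monoP i)

theorem pat_genO_inv (o : Option (Fin k)) : Pat Q e f (genPat o) (D.genO o)⁻¹ := by
  have := (D.pat_genO o).inv D.hyp
  rwa [genPat_inv] at this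

end WData

end data

end Cfsg.Agent.Helper8.OSt
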