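import Mathlib
import Cfsg.Agent.Helper8.OStD

set_option autoImplicit false

/-!
# The short fundamental roots of an orthogonal group (helper8)

The root elements `xA i c`, `yA i c` of the root exchanging `e i` and `e (i+1)`, and the
ingredients of the double coset axiom for the corresponding reflection.
-/

namespace Cfsg.Agent.Helper8.OSt

open Module Matrix Cfsg.Agent.Helper8.QuadForm Cfsg.Agent.Helper8.WittQuad
  Cfsg.Agent.Helper8.OrthOrder
  Cfsg.Agent.Helper8.Siegel Cfsg.Agent.Helper8.SiegelGroup Cfsg.Agent.Helper8.OGenA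
  Cfsg.Agent.Helper8.OGenB Cfsg.Agent.Helper8.OGenG Cfsg.Agent.Lead.SpFus
  Cfsg.Agent.Lead.SpBN

variable {F : Type*} [Field F] {V : Type*} [AddCommGroup V] [Module F V]

section general

variable {r : ℕ} {Q : QuadraticForm F V} {e f : Fin r → V}

/-- the image of a vector of `E K` under a monomial isometry. -/
theorem smul_mem_E_of_pat (hyp : IsHyp Q e f) {n : ↥(Isom Q)} {σ : Equiv.Perm (Fin r ⊕ Fin r)}
    (hσ : Pat Q e f σ n) {K K' : ℕ} {v : V} (hv : v ∈ E Q e f K)
    (h : ∀ l : Fin r, (l : ℕ) < K → QuadraticMap.polar Q (f l) v ≠ 0 →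
      ∃ l' : Fin r, σ (Sum.inl l) = Sum.inl l' ∧ (l' : ℕ) < K') : n • v ∈ E Q e f K' := by
  rw [← hv.1, smul_lc]
  apply Submodule.sum_mem
  intro l _
  by_cases hl : (l : ℕ) < K
  · by_cases h0 : co Q f v l = 0
    · rw [h0, zero_smul]
      exact Submodule.zero_mem _
    · obtain ⟨l', hl', hlt⟩ := h l hl h0
      obtain ⟨d, hd⟩ := hσ (Sum.inl l)
      rw [fr_inl, hl', fr_inl] at hd
      rw [hd]
      exact Submodule.smul_mem _ _ (Submodule.smul_mem _ _ (e_mem_E hyp hlt))
  · rw [hv.2 l (not_lt.mp hl), zero_smul]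
    exact Submodule.zero_mem _

variable [FiniteDimensional F V]

/-- the diagonal coefficients of an element of the flag stabiliser do not vanish. -/
theorem diag_ne_zero (hyp : IsHyp Q e f) {b : ↥(Isom Q)} (hb : b ∈ BO Q e f) (m : Fin r) :
    QuadraticMap.polar Q (f m) (b • e m) ≠ 0 := by
  intro h0
  have h1 : b • e m ∈ E Q e f (m : ℕ) := by
    apply mem_E_of_succ (smul_e_mem hyp hb m)
    intro i hi
    rw [Fin.ext hi]
    exact h0
  have h2 := (BO Q e f).inv_mem hb _ _ h1
  rw [inv_smul_smul] at h2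
  have h3 : fr e f (Sum.inl m) ∈ E Q e f (m : ℕ) := h2
  obtain ⟨j, hj, hlt⟩ := inl_of_fr_mem_E hyp h3
  rw [Sum.inl.inj hj] at hlt
  exact lt_irrefl _ hlt

/-- the Levi image of an upper triangular matrix stabilises the flag. -/
theorem j_mem_BO (hyp : IsHyp Q e f) {A : SpecialLinearGroup (Fin r) F}
    (hA : (A : Matrix (Fin r) (Fin r) F).BlockTriangular id) : j hyp A ∈ BO Q e f := by
  apply mem_BO_of_forall
  intro i
  rw [j_smul_e hyp]
  apply lc_mem_E hyp
  intro l hl
  exact hA (show id i < id l from Nat.lt_of_succ_le hl)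

end general

section roots

variable {k : ℕ} {Q : QuadraticForm F V} {e f : Fin (k + 1) → V}

/-- the positive root elements of a short fundamental root. -/
noncomputable def xA (Q : QuadraticForm F V) (e f : Fin (k + 1) → V) (i : Fin k) (c : F) :
    ↥(Isom Q) := siegG Q (e i.castSucc) (c • f i.succ)

/-- the negative root elements of a short fundamental root. -/
noncomputable def yA (Q : QuadraticForm F V) (e f : Fin (k + 1) → V) (i : Fin k) (c : F) :
    ↥(Isom Q) := siegG Q (e i.succ) (c • f i.castSucc)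

theorem adj_ne' (i : Fin k) : i.castSucc ≠ i.succ := Cfsg.Agent.Lead.SLBN.adj_ne i

theorem polar_e_smul_f (hyp : IsHyp Q e f) {a b : Fin (k + 1)} (hab : a ≠ b) (c : F) :
    QuadraticMap.polar Q (e a) (c • f b) = 0 := by
  rw [QuadraticMap.polar_smul_right, hyp.2.1, if_neg hab, smul_zero]

theorem xA_eq_j (hyp : IsHyp Q e f) (i : Fin k) (c : F) :
    xA Q e f i c = j hyp (SpecialLinearGroup.transvection (adj_ne' i) c) :=
  (j_transvection hyp (adj_ne' i) c).symm

theorem yA_eq_j (hyp : IsHyp Q e f) (i : Fin k) (c : F) :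
    yA Q e f i c = j hyp (SpecialLinearGroup.transvection (adj_ne' i).symm c) :=
  (j_transvection hyp (adj_ne' i).symm c).symm

theorem xA_zero (i : Fin k) : xA Q e f i 0 = 1 := by
  unfold xA
  rw [zero_smul, siegG_zero]

theorem xA_inv (hyp : IsHyp Q e f) (i : Fin k) (c : F) : (xA Q e f i c)⁻¹ = xA Q e f i (-c) := by
  unfold xA
  rw [siegG_inv Q (hyp.1 _).1 (polar_e_smul_f hyp (adj_ne' i) c), neg_smul]

theorem xA_mem_SG (hyp : IsHyp Q e f) (i : Fin k) (c : F) : xA Q e f i c ∈ SG Q :=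
  siegG_mem_SG Q (hyp.1 _).1 (polar_e_smul_f hyp (adj_ne' i) c)

theorem yA_mem_SG (hyp : IsHyp Q e f) (i : Fin k) (c : F) : yA Q e f i c ∈ SG Q :=
  siegG_mem_SG Q (hyp.1 _).1 (polar_e_smul_f hyp (adj_ne' i).symm c)

theorem xA_smul_e_succ (hyp : IsHyp Q e f) (i : Fin k) (c : F) :
    xA Q e f i c • e i.succ = e i.succ + c • e i.castSucc := by
  unfold xA
  rw [siegG_smul Q (hyp.1 _).1 (polar_e_smul_f hyp (adj_ne' i) c), QuadraticMap.map_smul,
    (hyp.1 _).2, QuadraticMap.polar_smul_right, hyp.2.1, if_pos rfl, (hyp.2.2 _ _).1]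
  simp

theorem yA_smul_e_castSucc (hyp : IsHyp Q e f) (i : Fin k) (c : F) :
    yA Q e f i c • e i.castSucc = e i.castSucc + c • e i.succ := by
  unfold yA
  rw [siegG_smul Q (hyp.1 _).1 (polar_e_smul_f hyp (adj_ne' i).symm c), QuadraticMap.map_smul,
    (hyp.1 _).2, QuadraticMap.polar_smul_right, hyp.2.1, if_pos rfl, (hyp.2.2 _ _).1]
  simp

variable [FiniteDimensional F V]

theorem xA_mem_BO (hyp : IsHyp Q e f) (i : Fin k) (c : F) : xA Q e f i c ∈ BO Q e f := by
  have := siegG_fr_mem_BO hyp (a := Sum.inl i.castSucc) (b := Sum.inr i.succ)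
    (by simp) (by simp [(adj_ne' i).symm]) (by
      rw [Sum.swap_inr, rho_inl, rho_inl, Fin.val_succ]
      exact Nat.lt_succ_self _) c
  exact this

/-- a negative root element with non-zero parameter does not stabilise the flag. -/
theorem yA_not_mem_BO (hyp : IsHyp Q e f) (i : Fin k) {c : F} (hc : c ≠ 0) :
    yA Q e f i c ∉ BO Q e f := by
  intro h
  have h1 := smul_e_mem hyp h i.castSucc
  rw [yA_smul_e_castSucc hyp] at h1
  have h2 := h1.2 i.succ (by rw [Fin.val_succ]; exact le_refl _)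
  rw [co_apply, QuadraticMap.polar_add_right, QuadraticMap.polar_smul_right, polar_fe hyp,
    polar_fe hyp, if_neg (adj_ne' i).symm, if_pos rfl] at h2
  simp at h2
  exact hc h2

end roots

end Cfsg.Agent.Helper8.OSt
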