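import Mathlib
import Cfsg.Agent.Helper8.OStE

set_option autoImplicit false

/-!
# The double coset axiom for the short fundamental roots (helper8)
-/

namespace Cfsg.Agent.Helper8.OSt

open Module Matrix Cfsg.Agent.Helper8.QuadForm Cfsg.Agent.Helper8.WittQuad
  Cfsg.Agent.Helper8.OrthOrder
  Cfsg.Agent.Helper8.Siegel Cfsg.Agent.Helper8.SiegelGroup Cfsg.Agent.Helper8.OGenA
  Cfsg.Agent.Helper8.OGenB Cfsg.Agent.Helper8.OGenG Cfsg.Agent.Lead.SpFus
  Cfsg.Agent.Lead.SpBN

variable {F : Type*} [Field F] {V : Type*} [AddCommGroup V] [Module F V] [FiniteDimensional F V]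
variable {k : ℕ} {Q : QuadraticForm F V} {e f : Fin (k + 1) → V} {a₀ : V}

theorem genPat_some_inl (i : Fin k) (l : Fin (k + 1)) :
    genPat (some i) (Sum.inl l) = Sum.inl (Equiv.swap i.castSucc i.succ l) := rfl

theorem genPat_some_inr (i : Fin k) (l : Fin (k + 1)) :
    genPat (some i) (Sum.inr l) = Sum.inr (Equiv.swap i.castSucc i.succ l) := rfl

theorem swap_adj_val (i : Fin k) (l : Fin (k + 1)) :
    ((Equiv.swap i.castSucc i.succ l : Fin (k + 1)) : ℕ)
      = if (l : ℕ) = i then (i : ℕ) + 1 else if (l : ℕ) = (i : ℕ) + 1 then (i : ℕ) else (l : ℕ) := by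
  rw [Equiv.swap_apply_def]
  have ha : ((i.castSucc : Fin (k + 1)) : ℕ) = i := rfl
  have hb : ((i.succ : Fin (k + 1)) : ℕ) = i + 1 := Fin.val_succ i
  by_cases h1 : l = i.castSucc
  · rw [if_pos h1, if_pos (by rw [h1, ha]), hb]
  · have h1' : (l : ℕ) ≠ i := fun h => h1 (Fin.ext (by rw [h, ha]))
    rw [if_neg h1, if_neg h1']
    by_cases h2 : l = i.succ
    · rw [if_pos h2, if_pos (by rw [h2, hb]), ha]
    · have h2' : (l : ℕ) ≠ i + 1 := fun h => h2 (Fin.ext (by rw [h, hb]))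
      rw [if_neg h2, if_neg h2']

namespace WData

variable (D : WData Q e f a₀)
include D

/-- the rank one computation for a short root. -/
theorem rankA (i : Fin k) {c : F} (hc : c ≠ 0) :
    D.genO (some i) * xA Q e f i c * yA Q e f i (-c⁻¹) ∈ BO Q e f := by
  rw [D.genO_some, xA_eq_j D.hyp, yA_eq_j D.hyp, ← map_mul, ← map_mul]
  apply j_mem_BO D.hyp
  exact Cfsg.Agent.Lead.SLBN.mem_Bs.mp (Cfsg.Agent.Lead.SLBN.sl2_mem i hc)

/-- clearing the coefficient at a short root. -/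
theorem clearA (i : Fin k) {b : ↥(Isom Q)} (hb : b ∈ BO Q e f) :
    ∃ t : F, D.genO (some i) * (b * xA Q e f i t) * (D.genO (some i))⁻¹ ∈ BO Q e f := by
  have hyp := D.hyp
  obtain ⟨α, hα⟩ : ∃ α, α = QuadraticMap.polar Q (f i.castSucc) (b • e i.castSucc) := ⟨_, rfl⟩
  obtain ⟨β, hβ⟩ : ∃ β, β = QuadraticMap.polar Q (f i.castSucc) (b • e i.succ) := ⟨_, rfl⟩
  have hα0 : α ≠ 0 := by
    rw [hα]
    exact diag_ne_zero hyp hb _
  refine ⟨-β / α, ?_⟩
  obtain ⟨g, hg⟩ : ∃ g, g = b * xA Q e f i (-β / α) := ⟨_, rfl⟩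
  rw [← hg]
  have hgB : g ∈ BO Q e f := by
    rw [hg]
    exact (BO Q e f).mul_mem hb (xA_mem_BO hyp i _)
  have hg0 : QuadraticMap.polar Q (f i.castSucc) (g • e i.succ) = 0 := by
    rw [hg, mul_smul, xA_smul_e_succ hyp, smul_add, smul_comm, QuadraticMap.polar_add_right,
      QuadraticMap.polar_smul_right, ← hα, ← hβ, smul_eq_mul]
    field_simp
    ring
  have ha : ((i.castSucc : Fin (k + 1)) : ℕ) = i := rfl
  have hb' : ((i.succ : Fin (k + 1)) : ℕ) = i + 1 := Fin.val_succ i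
  apply mem_BO_of_forall
  intro m
  rw [mul_smul, mul_smul]
  obtain ⟨d, hd⟩ := D.pat_genO_inv (some i) (Sum.inl m)
  rw [fr_inl, genPat_some_inl, fr_inl] at hd
  rw [hd, smul_comm g, smul_comm (D.genO (some i))]
  apply Submodule.smul_mem
  have hv := smul_e_mem hyp hgB (Equiv.swap i.castSucc i.succ m)
  apply smul_mem_E_of_pat hyp (D.pat_genO (some i)) hv
  intro l hl hne
  refine ⟨Equiv.swap i.castSucc i.succ l, genPat_some_inl i l, ?_⟩
  rw [swap_adj_val] at hl ⊢
  by_cases hm1 : (m : ℕ) = i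
  · rw [if_pos hm1] at hl
    have hla : (l : ℕ) ≠ i := by
      intro h
      apply hne
      have e1 : Equiv.swap i.castSucc i.succ m = i.succ := by
        rw [show m = i.castSucc from Fin.ext (by rw [hm1, ha]), Equiv.swap_apply_left]
      have e2 : l = i.castSucc := Fin.ext (by rw [h, ha])
      rw [e1, e2]
      exact hg0
    rw [if_neg hla]
    split_ifs <;> omega
  · rw [if_neg hm1] at hl
    by_cases hm2 : (m : ℕ) = (i : ℕ) + 1
    · rw [if_pos hm2] at hl
      split_ifs <;> omega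
    · rw [if_neg hm2] at hl
      split_ifs <;> omega

end WData

end Cfsg.Agent.Helper8.OSt
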