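import Mathlib
import Cfsg.Agent.Helper8.OStF

set_option autoImplicit false

/-!
# Conjugating root elements by monomial isometries (helper8)
-/

namespace Cfsg.Agent.Helper8.OSt

open Module Matrix Cfsg.Agent.Helper8.QuadForm Cfsg.Agent.Helper8.WittQuad
  Cfsg.Agent.Helper8.OrthOrder
  Cfsg.Agent.Helper8.Siegel Cfsg.Agent.Helper8.SiegelGroup Cfsg.Agent.Helper8.OGenA
  Cfsg.Agent.Helper8.OGenB Cfsg.Agent.Helper8.OGenG Cfsg.Agent.Lead.SpFus
  Cfsg.Agent.Lead.SpBN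

variable {F : Type*} [Field F] {V : Type*} [AddCommGroup V] [Module F V] [FiniteDimensional F V]

section general

variable {r : ℕ} {Q : QuadraticForm F V} {e f : Fin r → V}

/-- a long root element is conjugated into the flag stabiliser by a monomial isometry whose
pattern makes the root positive. -/
theorem conj_siegG_fr_mem (hyp : IsHyp Q e f) {n : ↥(Isom Q)} {σ : Equiv.Perm (Fin r ⊕ Fin r)}
    (hσ : Pat Q e f σ n) {a b : Fin r ⊕ Fin r} (hab : b ≠ a) (hab' : b ≠ a.swap)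
    (hlt : rho r (σ⁻¹ a) < rho r (σ⁻¹ b.swap)) (c : F) :
    n⁻¹ * siegG Q (fr e f a) (c • fr e f b) * n ∈ BO Q e f := by
  have hinv := hσ.inv hyp
  obtain ⟨d, hd⟩ := hinv a
  obtain ⟨d', hd'⟩ := hinv b
  have hne : σ⁻¹ b ≠ (σ⁻¹ a).swap := by
    rw [← hinv.swap hyp]
    exact fun h => hab' (σ⁻¹.injective h)
  rw [inv_mul_siegG_mul, hd, smul_comm, hd', smul_smul,
    siegG_smul_smul (Q_fr hyp _) (polar_fr_of_ne hyp hne)]
  apply siegG_fr_mem_BO hyp (fun h => hab (σ⁻¹.injective h)) hne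
  rw [← hinv.swap hyp]
  exact hlt

/-- a Siegel element with parameter in the kernel is conjugated into the flag stabiliser by a
monomial isometry whose pattern sends its singular vector among the `e i`. -/
theorem conj_siegG_W0_mem (hyp : IsHyp Q e f) {n : ↥(Isom Q)} {σ : Equiv.Perm (Fin r ⊕ Fin r)}
    (hσ : Pat Q e f σ n) {a : Fin r ⊕ Fin r} {i : Fin r} (ha : σ⁻¹ a = Sum.inl i) {w : V}
    (hw : w ∈ W0 Q e f) : n⁻¹ * siegG Q (fr e f a) w * n ∈ BO Q e f := by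
  have hinv := hσ.inv hyp
  obtain ⟨d, hd⟩ := hinv a
  have hw' : n⁻¹ • w ∈ W0 Q e f := smul_mem_W0 hyp hinv hw
  rw [ha, fr_inl] at hd
  rw [inv_mul_siegG_mul, hd, siegG_smul_left Q (hyp.1 i).1 ((mem_W0.mp hw').1 i)]
  exact siegG_W0_mem_BO hyp i ((W0 Q e f).smul_mem _ hw')

end general

section roots

variable {k : ℕ} {Q : QuadraticForm F V} {e f : Fin (k + 1) → V}

theorem conj_xA_mem (hyp : IsHyp Q e f) {n : ↥(Isom Q)}
    {σ : Equiv.Perm (Fin (k + 1) ⊕ Fin (k + 1))} (hσ : Pat Q e f σ n) (i : Fin k)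
    (hlt : rho (k + 1) (σ⁻¹ (pos (some i)).1) < rho (k + 1) (σ⁻¹ (pos (some i)).2)) (c : F) :
    n⁻¹ * xA Q e f i c * n ∈ BO Q e f :=
  conj_siegG_fr_mem hyp hσ (a := Sum.inl i.castSucc) (b := Sum.inr i.succ) (by simp)
    (by simp [(adj_ne' i).symm]) hlt c

theorem conj_yA_mem (hyp : IsHyp Q e f) {n : ↥(Isom Q)}
    {σ : Equiv.Perm (Fin (k + 1) ⊕ Fin (k + 1))} (hσ : Pat Q e f σ n) (i : Fin k)
    (hlt : rho (k + 1) (σ⁻¹ (pos (some i)).2) < rho (k + 1) (σ⁻¹ (pos (some i)).1)) (c : F) :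
    n⁻¹ * yA Q e f i c * n ∈ BO Q e f :=
  conj_siegG_fr_mem hyp hσ (a := Sum.inl i.succ) (b := Sum.inr i.castSucc) (by simp)
    (by simp [adj_ne' i]) hlt c

/-- an index whose image under the swap has larger position is on the `e` side. -/
theorem exists_inl_of_rho_lt {r : ℕ} {a : Fin r ⊕ Fin r} (h : rho r a < rho r a.swap) :
    ∃ i, a = Sum.inl i := by
  rcases a with i | i
  · exact ⟨i, rfl⟩
  · exfalso
    rw [Sum.swap_inr, rho_inr, rho_inl] at h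
    have := i.2
    omega

theorem conj_xW_mem (hyp : IsHyp Q e f) {n : ↥(Isom Q)}
    {σ : Equiv.Perm (Fin (k + 1) ⊕ Fin (k + 1))} (hσ : Pat Q e f σ n)
    (hlt : rho (k + 1) (σ⁻¹ (pos (none : Option (Fin k))).1)
      < rho (k + 1) (σ⁻¹ (pos (none : Option (Fin k))).2)) {w : V} (hw : w ∈ W0 Q e f) :
    n⁻¹ * siegG Q (e (Fin.last k)) w * n ∈ BO Q e f := by
  have hinv := hσ.inv hyp
  have h1 : σ⁻¹ (Sum.inr (Fin.last k)) = (σ⁻¹ (Sum.inl (Fin.last k))).swap := by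
    rw [← hinv.swap hyp, Sum.swap_inl]
  change rho (k + 1) (σ⁻¹ (Sum.inl (Fin.last k))) < rho (k + 1) (σ⁻¹ (Sum.inr (Fin.last k))) at hlt
  rw [h1] at hlt
  obtain ⟨i, hi⟩ := exists_inl_of_rho_lt hlt
  exact conj_siegG_W0_mem hyp hσ (a := Sum.inl (Fin.last k)) hi hw

theorem conj_yW_mem (hyp : IsHyp Q e f) {n : ↥(Isom Q)}
    {σ : Equiv.Perm (Fin (k + 1) ⊕ Fin (k + 1))} (hσ : Pat Q e f σ n)
    (hlt : rho (k + 1) (σ⁻¹ (pos (none : Option (Fin k))).2)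
      < rho (k + 1) (σ⁻¹ (pos (none : Option (Fin k))).1)) {w : V} (hw : w ∈ W0 Q e f) :
    n⁻¹ * siegG Q (f (Fin.last k)) w * n ∈ BO Q e f := by
  have hinv := hσ.inv hyp
  have h1 : σ⁻¹ (Sum.inl (Fin.last k)) = (σ⁻¹ (Sum.inr (Fin.last k))).swap := by
    rw [← hinv.swap hyp, Sum.swap_inr]
  change rho (k + 1) (σ⁻¹ (Sum.inr (Fin.last k))) < rho (k + 1) (σ⁻¹ (Sum.inl (Fin.last k))) at hlt
  rw [h1] at hlt
  obtain ⟨i, hi⟩ := exists_inl_of_rho_lt hlt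
  exact conj_siegG_W0_mem hyp hσ (a := Sum.inr (Fin.last k)) hi hw

end roots

end Cfsg.Agent.Helper8.OSt
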