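import Mathlib
import Cfsg.Agent.Helper8.OStG

set_option autoImplicit false

/-!
# The double coset axiom for the last fundamental root (helper8)

The last root has root elements `siegG (e l) w`, `siegG (f l) w` with `l` the last index and `w`
in the anisotropic kernel.
-/

namespace Cfsg.Agent.Helper8.OSt

open Module Matrix Cfsg.Agent.Helper8.QuadForm Cfsg.Agent.Helper8.WittQuad
  Cfsg.Agent.Helper8.OrthOrder
  Cfsg.Agent.Helper8.Siegel Cfsg.Agent.Helper8.SiegelGroup Cfsg.Agent.Helper8.OGenA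
  Cfsg.Agent.Helper8.OGenB Cfsg.Agent.Helper8.OGenG Cfsg.Agent.Lead.SpFus
  Cfsg.Agent.Lead.SpBN

variable {F : Type*} [Field F] {V : Type*} [AddCommGroup V] [Module F V]

section general

variable {r : ℕ} {Q : QuadraticForm F V} {e f : Fin r → V}

theorem pi0_of_mem_E (hyp : IsHyp Q e f) {K : ℕ} {v : V} (hv : v ∈ E Q e f K) :
    pi0 Q e f v = 0 := by
  rw [← hv.1, pi0_lc_e hyp]

theorem polar_e_W0 {w : V} (hw : w ∈ W0 Q e f) (i : Fin r) : QuadraticMap.polar Q (e i) w = 0 :=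
  (mem_W0.mp hw).1 i

theorem polar_f_W0 {w : V} (hw : w ∈ W0 Q e f) (i : Fin r) : QuadraticMap.polar Q (f i) w = 0 :=
  (mem_W0.mp hw).2 i

theorem polar_W0_e {w : V} (hw : w ∈ W0 Q e f) (i : Fin r) : QuadraticMap.polar Q w (e i) = 0 := by
  rw [QuadraticMap.polar_comm]; exact polar_e_W0 hw i

theorem polar_W0_f {w : V} (hw : w ∈ W0 Q e f) (i : Fin r) : QuadraticMap.polar Q w (f i) = 0 := by
  rw [QuadraticMap.polar_comm]; exact polar_f_W0 hw i

theorem xW_smul_e (hyp : IsHyp Q e f) (l m : Fin r) {w : V} (hw : w ∈ W0 Q e f) :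
    siegG Q (e l) w • e m = e m :=
  siegG_smul_fix Q (hyp.2.2 m l).1 (polar_e_W0 hw m)

theorem xW_smul_f (hyp : IsHyp Q e f) (l : Fin r) {w : V} (hw : w ∈ W0 Q e f) :
    siegG Q (e l) w • f l = f l - w - Q w • e l := by
  rw [siegG_smul Q (hyp.1 l).1 (polar_e_W0 hw l), polar_f_W0 hw, polar_fe hyp, if_pos rfl]
  simp

theorem xW_smul_W0 (hyp : IsHyp Q e f) (l : Fin r) {w w' : V} (hw : w ∈ W0 Q e f)
    (hw' : w' ∈ W0 Q e f) :
    siegG Q (e l) w • w' = w' + QuadraticMap.polar Q w' w • e l := by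
  rw [siegG_smul Q (hyp.1 l).1 (polar_e_W0 hw l), polar_W0_e hw']
  simp

theorem yW_smul_e (hyp : IsHyp Q e f) (l : Fin r) {w : V} (hw : w ∈ W0 Q e f) :
    siegG Q (f l) w • e l = e l - w - Q w • f l := by
  rw [siegG_smul Q (hyp.1 l).2 (polar_f_W0 hw l), polar_e_W0 hw, hyp.2.1, if_pos rfl]
  simp

theorem yW_smul_e_of_ne (hyp : IsHyp Q e f) {l m : Fin r} (hml : m ≠ l) {w : V}
    (hw : w ∈ W0 Q e f) : siegG Q (f l) w • e m = e m := by
  apply siegG_smul_fix Q _ (polar_e_W0 hw m)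
  rw [hyp.2.1, if_neg hml]

end general

variable [FiniteDimensional F V]
variable {k : ℕ} {Q : QuadraticForm F V} {e f : Fin (k + 1) → V} {a₀ : V}

namespace WData

variable (D : WData Q e f a₀)
include D

theorem genO_none_smul_e {m : Fin (k + 1)} (hm : m ≠ Fin.last k) :
    D.genO none • e m = e m := by
  have := D.nW_smul_fr (a := Sum.inl m) (fun h => hm (Sum.inl.inj h)) (by simp)
  exact this

/-- the last reflection fixes the vectors of `E k`. -/
theorem genO_none_smul_E {u : V} (hu : u ∈ E Q e f k) : D.genO none • u = u := by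
  apply MixData.nW_fix
  · rw [QuadraticMap.polar_comm]
    exact polar_e_of_mem_E D.hyp hu _
  · rw [QuadraticMap.polar_comm]
    exact hu.2 (Fin.last k) (by rw [Fin.val_last])
  · rw [QuadraticMap.polar_comm]
    exact polar_of_mem_E hu (polar_W0_e D.ha₀)

theorem Q_ne_zero {w : V} (hw : w ∈ W0 Q e f) (hw0 : w ≠ 0) : Q w ≠ 0 :=
  fun h => hw0 (D.aniso w hw h)

/-- the rank one computation for the last root. -/
theorem rankW {w : V} (hw : w ∈ W0 Q e f) (hw0 : w ≠ 0) :
    D.genO none * siegG Q (e (Fin.last k)) w * siegG Q (f (Fin.last k)) ((Q w)⁻¹ • w)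
      ∈ BO Q e f := by
  have hyp := D.hyp
  have hQ := D.Q_ne_zero hw hw0
  have hw' : (Q w)⁻¹ • w ∈ W0 Q e f := (W0 Q e f).smul_mem _ hw
  apply mem_BO_of_forall
  intro m
  rw [mul_smul, mul_smul]
  by_cases hm : m = Fin.last k
  · subst hm
    have h1 : siegG Q (e (Fin.last k)) w • siegG Q (f (Fin.last k)) ((Q w)⁻¹ • w) • e (Fin.last k)
        = (-(Q w)⁻¹) • f (Fin.last k) := by
      obtain ⟨c, hc⟩ : ∃ c, c = (Q w)⁻¹ := ⟨_, rfl⟩
      have hcQ : c * Q w = 1 := by rw [hc, inv_mul_cancel₀ hQ]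
      rw [← hc] at hw' ⊢
      rw [yW_smul_e hyp _ hw', smul_sub, smul_sub, xW_smul_e hyp _ _ hw,
        smul_comm _ (Q (c • w)), xW_smul_f hyp _ hw, smul_comm _ c w, xW_smul_W0 hyp _ hw hw,
        polar_self', QuadraticMap.map_smul]
      have h1 : c * c * Q w = c := by linear_combination c * hcQ
      have h2 : c * (2 * Q w) = 2 := by linear_combination 2 * hcQ
      simp only [smul_eq_mul, h1, smul_add, smul_sub, smul_smul, h2, hcQ]
      module
    rw [h1, smul_comm, D.genO_none, D.nW_smul_f_last, smul_neg, neg_smul, neg_neg]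
    exact Submodule.smul_mem _ _ (e_mem_E hyp (Nat.lt_succ_self _))
  · rw [yW_smul_e_of_ne hyp hm hw', xW_smul_e hyp _ _ hw, D.genO_none_smul_e hm]
    exact e_mem_E hyp (Nat.lt_succ_self _)

end WData

end Cfsg.Agent.Helper8.OSt
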