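import Mathlib
import Cfsg.Agent.Helper8.OStH

set_option autoImplicit false

/-!
# Clearing at the last fundamental root (helper8)
-/

namespace Cfsg.Agent.Helper8.OSt

open Module Matrix Cfsg.Agent.Helper8.QuadForm Cfsg.Agent.Helper8.WittQuad
  Cfsg.Agent.Helper8.OrthOrder
  Cfsg.Agent.Helper8.Siegel Cfsg.Agent.Helper8.SiegelGroup Cfsg.Agent.Helper8.OGenA
  Cfsg.Agent.Helper8.OGenB Cfsg.Agent.Helper8.OGenG Cfsg.Agent.Lead.SpFus
  Cfsg.Agent.Lead.SpBN

variable {F : Type*} [Field F] {V : Type*} [AddCommGroup V] [Module F V] [FiniteDimensional F V]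
variable {k : ℕ} {Q : QuadraticForm F V} {e f : Fin (k + 1) → V} {a₀ : V}

/-- an element of the flag stabiliser acts on the kernel modulo `E (k+1)`. -/
theorem pi0_smul_pi0_inv (hyp : IsHyp Q e f) {b : ↥(Isom Q)} (hb : b ∈ BO Q e f) {w₁ : V}
    (hw₁ : w₁ ∈ W0 Q e f) : pi0 Q e f (b • pi0 Q e f (b⁻¹ • w₁)) = w₁ := by
  have hco : co Q e (b⁻¹ • w₁) = 0 := by
    funext i
    rw [co_apply, polar_smul_right', inv_inv, Pi.zero_apply, QuadraticMap.polar_comm]
    exact polar_of_mem_E (smul_e_mem hyp hb i) (polar_W0_e hw₁)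
  have hdec := decomp_eq (Q := Q) (e := e) (f := f) (b⁻¹ • w₁)
  rw [hco, map_zero, add_zero] at hdec
  have h1 : pi0 Q e f (b⁻¹ • w₁) = b⁻¹ • w₁ - lc e (co Q f (b⁻¹ • w₁)) := by
    rw [eq_sub_iff_add_eq, add_comm]
    exact hdec.symm
  have h2 : b • lc e (co Q f (b⁻¹ • w₁)) ∈ E Q e f (k + 1) :=
    hb _ _ (lc_mem_E hyp (fun i hi => absurd i.2 (not_lt.mpr hi)))
  rw [h1, smul_sub, smul_inv_smul, map_sub, pi0_of_mem_W0 hw₁, pi0_of_mem_E hyp h2, sub_zero]

namespace WData

variable (D : WData Q e f a₀)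
include D

/-- clearing the component in the kernel at the last root. -/
theorem clearW {b : ↥(Isom Q)} (hb : b ∈ BO Q e f) :
    ∃ w ∈ W0 Q e f,
      D.genO none * (b * siegG Q (e (Fin.last k)) w) * (D.genO none)⁻¹ ∈ BO Q e f := by
  have hyp := D.hyp
  obtain ⟨l, hl⟩ : ∃ l, l = Fin.last k := ⟨_, rfl⟩
  rw [← hl]
  have hlv : (l : ℕ) = k := by rw [hl, Fin.val_last]
  obtain ⟨w₁, hw₁def⟩ : ∃ w₁, w₁ = pi0 Q e f (b • f l) := ⟨_, rfl⟩
  have hw₁ : w₁ ∈ W0 Q e f := by rw [hw₁def]; exact pi0_mem_W0 hyp _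
  obtain ⟨w, hwdef⟩ : ∃ w, w = pi0 Q e f (b⁻¹ • w₁) := ⟨_, rfl⟩
  have hw : w ∈ W0 Q e f := by rw [hwdef]; exact pi0_mem_W0 hyp _
  refine ⟨w, hw, ?_⟩
  obtain ⟨g, hg⟩ : ∃ g, g = b * siegG Q (e l) w := ⟨_, rfl⟩
  rw [← hg]
  have hgB : g ∈ BO Q e f := by
    rw [hg]
    exact (BO Q e f).mul_mem hb (siegG_W0_mem_BO hyp l hw)
  have hginvB : g⁻¹ ∈ BO Q e f := (BO Q e f).inv_mem hgB
  obtain ⟨v, hv⟩ : ∃ v, v = g • f l := ⟨_, rfl⟩
  -- the component of `v` in the kernel vanishes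
  have hpi : pi0 Q e f v = 0 := by
    have h1 : pi0 Q e f (b • w) = w₁ := by
      rw [hwdef]
      exact pi0_smul_pi0_inv hyp hb hw₁
    have h2 : pi0 Q e f (b • e l) = 0 := pi0_of_mem_E hyp (smul_e_mem hyp hb l)
    have e1 : g • f l = b • f l - b • w - Q w • b • e l := by
      rw [hg, mul_smul, xW_smul_f hyp l hw, smul_sub, smul_sub, smul_comm]
    rw [hv, e1, map_sub, map_sub, LinearMap.map_smul, h1, h2, ← hw₁def, sub_self, smul_zero,
      sub_zero]
  -- the coordinates of `v` along the `f i`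
  have hcoe : ∀ i : Fin (k + 1), i ≠ l → QuadraticMap.polar Q (e i) v = 0 := by
    intro i hi
    rw [hv, polar_smul_right', QuadraticMap.polar_comm]
    have hik : (i : ℕ) < k := by
      have := i.2
      have : (i : ℕ) ≠ k := fun h => hi (Fin.ext (by rw [h, hlv]))
      omega
    exact (E_mono (Nat.succ_le_of_lt hik) (smul_e_mem hyp hginvB i)).2 l (by rw [hlv])
  obtain ⟨β, hβ⟩ : ∃ β, β = QuadraticMap.polar Q (e l) v := ⟨_, rfl⟩
  have hβ0 : β ≠ 0 := by
    rw [hβ, hv, polar_smul_right', QuadraticMap.polar_comm]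
    exact diag_ne_zero hyp hginvB l
  have hcoe' : co Q e v = Pi.single l β := by
    funext i
    rw [co_apply, Pi.single_apply]
    by_cases hi : i = l
    · rw [if_pos hi, hi, hβ]
    · rw [if_neg hi, hcoe i hi]
  have hdec : v = lc e (co Q f v) + β • f l := by
    have := decomp_eq (Q := Q) (e := e) (f := f) v
    rw [hpi, add_zero, hcoe', lc_single] at this
    exact this
  have hQv : Q v = 0 := by rw [hv, Q_smul, (hyp.1 l).2]
  have hαl : co Q f v l = 0 := by
    have h1 : Q (lc e (co Q f v) + β • f l) = β * co Q f v l := by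
      rw [QuadraticMap.map_add Q, Q_lc_e hyp, QuadraticMap.map_smul, (hyp.1 l).2,
        QuadraticMap.polar_smul_right, QuadraticMap.polar_comm]
      have : QuadraticMap.polar Q (f l) (lc e (co Q f v)) = co Q f (lc e (co Q f v)) l := rfl
      rw [this, co_f_lc_e hyp]
      simp
    rw [← hdec, hQv] at h1
    rcases mul_eq_zero.mp h1.symm with h | h
    · exact absurd h hβ0
    · exact h
  have hu : lc e (co Q f v) ∈ E Q e f k := by
    apply lc_mem_E hyp
    intro i hi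
    have : i = l := Fin.ext (by have := i.2; omega)
    rw [this]
    exact hαl
  have hsinv : (D.genO none)⁻¹ • e l = -f l := by
    rw [inv_smul_eq_iff, smul_neg, D.genO_none, hl, D.nW_smul_f_last, neg_neg]
  apply mem_BO_of_forall
  intro m
  rw [mul_smul, mul_smul]
  by_cases hm : m = l
  · rw [hm, hsinv, smul_neg, smul_neg, ← hv, hdec, smul_add, D.genO_none_smul_E hu, smul_comm,
      D.genO_none, hl, D.nW_smul_f_last]
    apply Submodule.neg_mem
    apply Submodule.add_mem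
    · exact E_mono (by rw [Fin.val_last]; exact Nat.le_succ _) hu
    · exact Submodule.smul_mem _ _ (Submodule.neg_mem _ (e_mem_E hyp (Nat.lt_succ_self _)))
  · have hmk : (m : ℕ) < k := by
      have := m.2
      have : (m : ℕ) ≠ k := fun h => hm (Fin.ext (by rw [h, hlv]))
      omega
    have h1 : (D.genO none)⁻¹ • e m = e m := by
      rw [inv_smul_eq_iff, D.genO_none_smul_e (by rw [← hl]; exact hm)]
    have h2 := smul_e_mem hyp hgB m
    rw [h1, D.genO_none_smul_E (E_mono (Nat.succ_le_of_lt hmk) h2)]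
    exact h2

end WData

end Cfsg.Agent.Helper8.OSt
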