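import Mathlib
import Cfsg.Agent.Helper8.OStI

set_option autoImplicit false

/-!
# The subgroups `B`, `N` of the Siegel group and the axioms of a `(B, N)`-pair (helper8)
-/

namespace Cfsg.Agent.Helper8.OSt

open Module Matrix Cfsg.Agent.Helper8.QuadForm Cfsg.Agent.Helper8.WittQuad
  Cfsg.Agent.Helper8.OrthOrder
  Cfsg.Agent.Helper8.Siegel Cfsg.Agent.Helper8.SiegelGroup Cfsg.Agent.Helper8.OGenA
  Cfsg.Agent.Helper8.OGenB Cfsg.Agent.Helper8.OGenG Cfsg.Agent.Lead.SpFus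
  Cfsg.Agent.Lead.SpBN

variable {F : Type*} [Field F] {V : Type*} [AddCommGroup V] [Module F V] [FiniteDimensional F V]
variable {k : ℕ} {Q : QuadraticForm F V} {e f : Fin (k + 1) → V} {a₀ : V}

namespace WData

/-- the flag stabiliser in the Siegel group. -/
def Bs (_D : WData Q e f a₀) : Subgroup ↥(SG Q) := (BO Q e f).subgroupOf (SG Q)

variable (D : WData Q e f a₀)

/-- the monomial subgroup of the Siegel group. -/
def Ns : Subgroup ↥(SG Q) := (NO Q e f D.hyp).subgroupOf (SG Q)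

/-- the representatives of the fundamental reflections. -/
noncomputable def gen (o : Option (Fin k)) : ↥(SG Q) := ⟨D.genO o, D.genO_mem_SG o⟩

/-- the set of the representatives. -/
def Ss : Set ↥(SG Q) := Set.range D.gen

theorem mem_Bs {g : ↥(SG Q)} : g ∈ D.Bs ↔ (g : ↥(Isom Q)) ∈ BO Q e f := Subgroup.mem_subgroupOf

theorem mem_Ns {g : ↥(SG Q)} : g ∈ D.Ns ↔ ∃ σ, Pat Q e f σ (g : ↥(Isom Q)) :=
  Subgroup.mem_subgroupOf

theorem gen_coe (o : Option (Fin k)) : ((D.gen o : ↥(SG Q)) : ↥(Isom Q)) = D.genO o := rfl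

theorem gen_mem_Ns (o : Option (Fin k)) : D.gen o ∈ D.Ns := D.mem_Ns.mpr ⟨_, D.pat_genO o⟩

theorem Ss_subset : D.Ss ⊆ (D.Ns : Set ↥(SG Q)) := by
  rintro _ ⟨o, rfl⟩
  exact D.gen_mem_Ns o

theorem mem_Bs_of_pat_one {g : ↥(SG Q)} (h : Pat Q e f 1 (g : ↥(Isom Q))) : g ∈ D.Bs :=
  D.mem_Bs.mpr (TO_le_BO D.hyp h)

theorem pat_one_of_mem_inf {g : ↥(SG Q)} (hg : g ∈ D.Bs ⊓ D.Ns) :
    Pat Q e f 1 (g : ↥(Isom Q)) := by
  obtain ⟨σ, hσ⟩ := D.mem_Ns.mp hg.2
  have := pat_eq_one_of_mem_BO D.hyp (D.mem_Bs.mp hg.1) hσ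
  rwa [this] at hσ

theorem mem_inf_of_pat_one {g : ↥(SG Q)} (h : Pat Q e f 1 (g : ↥(Isom Q))) : g ∈ D.Bs ⊓ D.Ns :=
  ⟨D.mem_Bs_of_pat_one h, D.mem_Ns.mpr ⟨1, h⟩⟩

theorem gen_sq_mem (o : Option (Fin k)) : D.gen o * D.gen o ∈ D.Bs := by
  apply D.mem_Bs_of_pat_one
  have h := (D.pat_genO o).mul (D.pat_genO o)
  rw [genPat_mul_self] at h
  exact h

theorem gen_inj {o o' : Option (Fin k)} (h : (D.gen o)⁻¹ * D.gen o' ∈ D.Bs) : o = o' := by
  have h1 := (D.pat_genO_inv o).mul (D.pat_genO o')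
  have h2 := pat_eq_one_of_mem_BO D.hyp (D.mem_Bs.mp h) h1
  apply genPat_injective
  have h3 : genPat o * (genPat o * genPat o') = genPat o * 1 := by rw [h2]
  rw [← mul_assoc, genPat_mul_self, one_mul, mul_one] at h3
  exact h3.symm

theorem conj_mem_Bs {n t : ↥(SG Q)} (hn : n ∈ D.Ns) (ht : t ∈ D.Bs ⊓ D.Ns) :
    n * t * n⁻¹ ∈ D.Bs := by
  apply D.mem_Bs_of_pat_one
  have := conj_mem_TO D.hyp (D.mem_Ns.mp hn) (D.pat_one_of_mem_inf ht)
  exact this

/-- `N` is generated by the representatives and `B ⊓ N`. -/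
theorem closure_sup_eq : Subgroup.closure D.Ss ⊔ (D.Bs ⊓ D.Ns) = D.Ns := by
  apply le_antisymm
  · exact sup_le ((Subgroup.closure_le _).mpr D.Ss_subset) inf_le_right
  · intro g hg
    obtain ⟨σ, h1⟩ := D.mem_Ns.mp hg
    have hσ : σ ∈ Submonoid.closure (genP k) := signed_mem_closure σ (h1.swap D.hyp)
    have key : ∀ σ ∈ Submonoid.closure (genP k), ∀ g : ↥(SG Q),
        Pat Q e f σ (g : ↥(Isom Q)) → g ∈ Subgroup.closure D.Ss ⊔ (D.Bs ⊓ D.Ns) := by
      intro σ hσ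
      induction hσ using Submonoid.closure_induction_left with
      | one =>
        intro g h1
        exact Subgroup.mem_sup_right (D.mem_inf_of_pat_one h1)
      | mul_left x hx y hy ih =>
        intro g h1
        obtain ⟨o, rfl⟩ : ∃ o : Option (Fin k), genPat o = x := by
          rcases hx with ⟨i, rfl⟩ | hx
          · exact ⟨some i, rfl⟩
          · exact ⟨none, hx.symm⟩
        have e : g = D.gen o * ((D.gen o)⁻¹ * g) := by group
        rw [e]
        apply Subgroup.mul_mem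
        · exact Subgroup.mem_sup_left (Subgroup.subset_closure ⟨o, rfl⟩)
        · apply ih
          have h3 := (D.pat_genO_inv o).mul h1
          rw [← mul_assoc, genPat_mul_self, one_mul] at h3
          exact h3
    exact key σ hσ g h1

end WData

end Cfsg.Agent.Helper8.OSt
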