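import Mathlib
import Cfsg.Agent.Helper8.OStJ

set_option autoImplicit false

/-!
# The `(B, N)`-pair of the Siegel group of a quadratic space with anisotropic kernel (helper8)
-/

namespace Cfsg.Agent.Helper8.OSt

open Module Matrix Cfsg.Agent.Helper8.QuadForm Cfsg.Agent.Helper8.WittQuad
  Cfsg.Agent.Helper8.OrthOrder
  Cfsg.Agent.Helper8.Siegel Cfsg.Agent.Helper8.SiegelGroup Cfsg.Agent.Helper8.OGenA
  Cfsg.Agent.Helper8.OGenB Cfsg.Agent.Helper8.OGenG Cfsg.Agent.Lead.SpFus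
  Cfsg.Agent.Lead.SpBN

variable {F : Type*} [Field F] {V : Type*} [AddCommGroup V] [Module F V] [FiniteDimensional F V]
variable {k : ℕ} {Q : QuadraticForm F V} {e f : Fin (k + 1) → V} {a₀ : V}

namespace WData

variable (D : WData Q e f a₀)

/-- the positive root elements of a short root, in the Siegel group. -/
noncomputable def xs (i : Fin k) (c : F) : ↥(SG Q) := ⟨xA Q e f i c, xA_mem_SG D.hyp i c⟩

/-- the negative root elements of a short root, in the Siegel group. -/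
noncomputable def ys (i : Fin k) (c : F) : ↥(SG Q) := ⟨yA Q e f i c, yA_mem_SG D.hyp i c⟩

/-- the positive root elements of the last root, in the Siegel group. -/
noncomputable def xw (w : ↥(W0 Q e f)) : ↥(SG Q) :=
  ⟨siegG Q (e (Fin.last k)) w, siegG_mem_SG Q (D.hyp.1 _).1 (polar_e_W0 w.2 _)⟩

/-- the negative root elements of the last root, in the Siegel group. -/
noncomputable def yw (w : ↥(W0 Q e f)) : ↥(SG Q) :=
  ⟨siegG Q (f (Fin.last k)) w, siegG_mem_SG Q (D.hyp.1 _).2 (polar_f_W0 w.2 _)⟩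

theorem xs_zero (i : Fin k) : D.xs i 0 = 1 := Subtype.ext (xA_zero i)

theorem xs_inv (i : Fin k) (c : F) : (D.xs i c)⁻¹ = D.xs i (-c) := Subtype.ext (xA_inv D.hyp i c)

theorem xw_zero : D.xw 0 = 1 := Subtype.ext (siegG_zero Q _)

theorem xw_inv (w : ↥(W0 Q e f)) : (D.xw w)⁻¹ = D.xw (-w) :=
  Subtype.ext (siegG_inv Q (D.hyp.1 _).1 (polar_e_W0 w.2 _))

theorem xs_mem (i : Fin k) (c : F) : D.xs i c ∈ D.Bs := D.mem_Bs.mpr (xA_mem_BO D.hyp i c)

theorem xw_mem (w : ↥(W0 Q e f)) : D.xw w ∈ D.Bs :=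
  D.mem_Bs.mpr (siegG_W0_mem_BO D.hyp _ w.2)

/-- The double coset axiom. -/
theorem mul_mem_union' (o : Option (Fin k)) {n b : ↥(SG Q)} (hn : n ∈ D.Ns) (hb : b ∈ D.Bs) :
    D.gen o * b * n ∈ DoubleCoset.doubleCoset (D.gen o * n) (D.Bs : Set ↥(SG Q)) D.Bs ∪
      DoubleCoset.doubleCoset n (D.Bs : Set ↥(SG Q)) D.Bs := by
  obtain ⟨σ, hσ⟩ := D.mem_Ns.mp hn
  have hne : rho (k + 1) (σ⁻¹ (pos o).1) ≠ rho (k + 1) (σ⁻¹ (pos o).2) := by
    intro h
    have := (σ⁻¹).injective (rho_injective _ h)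
    have hlt := pos_lt o
    rw [this] at hlt
    exact lt_irrefl _ hlt
  rcases o with _ | i
  · apply union_of_rank_one' D.Bs D.xw D.yw D.xw_zero D.xw_inv
    · obtain ⟨w, hw, h⟩ := D.clearW (D.mem_Bs.mp hb)
      exact ⟨⟨w, hw⟩, D.mem_Bs.mpr h⟩
    · intro w hw0
      refine ⟨⟨(Q (w : V))⁻¹ • (w : V), (W0 Q e f).smul_mem _ w.2⟩, D.mem_Bs.mpr ?_⟩
      exact D.rankW w.2 (fun h => hw0 (Subtype.ext h))
    · rcases lt_or_gt_of_ne hne with h | h
      · exact Or.inl (fun w => D.mem_Bs.mpr (conj_xW_mem D.hyp hσ h w.2))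
      · exact Or.inr (fun w => D.mem_Bs.mpr (conj_yW_mem D.hyp hσ h w.2))
  · apply union_of_rank_one' D.Bs (D.xs i) (D.ys i) (D.xs_zero i) (D.xs_inv i)
    · obtain ⟨t, h⟩ := D.clearA i (D.mem_Bs.mp hb)
      exact ⟨t, D.mem_Bs.mpr h⟩
    · intro c hc
      exact ⟨-c⁻¹, D.mem_Bs.mpr (D.rankA i hc)⟩
    · rcases lt_or_gt_of_ne hne with h | h
      · exact Or.inl (fun c => D.mem_Bs.mpr (conj_xA_mem D.hyp hσ i h c))
      · exact Or.inr (fun c => D.mem_Bs.mpr (conj_yA_mem D.hyp hσ i h c))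

/-- The product `s b n` lies in `B s n B` when `n⁻¹` keeps the root positive. -/
theorem mul_mem_of_lt (o : Option (Fin k)) {n b : ↥(SG Q)}
    {σ : Equiv.Perm (Fin (k + 1) ⊕ Fin (k + 1))} (hσ : Pat Q e f σ (n : ↥(Isom Q)))
    (hlt : rho (k + 1) (σ⁻¹ (pos o).1) < rho (k + 1) (σ⁻¹ (pos o).2)) (hb : b ∈ D.Bs) :
    D.gen o * b * n ∈ DoubleCoset.doubleCoset (D.gen o * n) (D.Bs : Set ↥(SG Q)) D.Bs := by
  rcases o with _ | i
  · apply mem_of_pos' D.Bs D.xw D.xw_inv
    · obtain ⟨w, hw, h⟩ := D.clearW (D.mem_Bs.mp hb)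
      exact ⟨⟨w, hw⟩, D.mem_Bs.mpr h⟩
    · exact fun w => D.mem_Bs.mpr (conj_xW_mem D.hyp hσ hlt w.2)
  · apply mem_of_pos' D.Bs (D.xs i) (D.xs_inv i)
    · obtain ⟨t, h⟩ := D.clearA i (D.mem_Bs.mp hb)
      exact ⟨t, D.mem_Bs.mpr h⟩
    · exact fun c => D.mem_Bs.mpr (conj_xA_mem D.hyp hσ i hlt c)

/-- the test element of a fundamental root: a positive root element which the reflection
conjugates out of the flag stabiliser. -/
noncomputable def testElt : Option (Fin k) → ↥(SG Q)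
  | none => D.xw ⟨a₀, D.ha₀⟩
  | some i => D.xs i 1

theorem testElt_coe_none : ((D.testElt none : ↥(SG Q)) : ↥(Isom Q))
    = siegG Q (e (Fin.last k)) a₀ := rfl

theorem testElt_coe_some (i : Fin k) : ((D.testElt (some i) : ↥(SG Q)) : ↥(Isom Q))
    = xA Q e f i 1 := rfl

theorem testElt_mem (o : Option (Fin k)) : D.testElt o ∈ D.Bs := by
  rcases o with _ | i
  · exact D.xw_mem _
  · exact D.xs_mem i 1

/-- a conjugate of a positive root element by its reflection leaves the flag stabiliser. -/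
theorem conj_testElt_not_mem (o : Option (Fin k)) :
    D.gen o * D.testElt o * (D.gen o)⁻¹ ∉ D.Bs := by
  have hyp := D.hyp
  rcases o with _ | i
  · intro h
    have h1 := D.mem_Bs.mp h
    have e1 : ((D.gen none * D.testElt none * (D.gen none)⁻¹ : ↥(SG Q)) : ↥(Isom Q))
        = siegG Q (f (Fin.last k)) a₀ := by
      change D.genO none * siegG Q (e (Fin.last k)) a₀ * (D.genO none)⁻¹ = _
      rw [siegG_conj]
      change siegG Q (D.genO none • e (Fin.last k)) (D.genO none • a₀) = _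
      rw [D.genO_none, D.nW_smul_e_last]
      have : nW Q (e (Fin.last k)) (f (Fin.last k)) a₀ • a₀ = -a₀ := D.mix.nW_a₀
      rw [this]
      have h2 : siegG Q ((-1 : F) • f (Fin.last k)) (-a₀)
          = siegG Q (f (Fin.last k)) ((-1 : F) • (-a₀)) :=
        siegG_smul_left Q (hyp.1 (Fin.last k)).2
          (by rw [QuadraticMap.polar_neg_right, polar_f_W0 D.ha₀, neg_zero]) (-1 : F)
      rw [neg_smul, one_smul, neg_smul, one_smul, neg_neg] at h2
      exact h2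
    rw [e1] at h1
    have h3 := polar_e_of_mem_E hyp (smul_e_mem hyp h1 (Fin.last k)) (Fin.last k)
    rw [yW_smul_e hyp _ D.ha₀, QuadraticMap.polar_sub_right, QuadraticMap.polar_sub_right,
      (hyp.2.2 _ _).1, polar_e_W0 D.ha₀, QuadraticMap.polar_smul_right, hyp.2.1, if_pos rfl,
      D.hQ0] at h3
    simp at h3
  · intro h
    have h1 := D.mem_Bs.mp h
    obtain ⟨d, hd⟩ := D.pat_genO (some i) (Sum.inl i.castSucc)
    obtain ⟨d', hd'⟩ := D.pat_genO (some i) (Sum.inr i.succ)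
    have hd0 := Pat.coeff_ne_zero hyp hd
    have hd'0 := Pat.coeff_ne_zero hyp hd'
    rw [genPat_some_inl, Equiv.swap_apply_left, fr_inl, fr_inl] at hd
    rw [genPat_some_inr, Equiv.swap_apply_right, fr_inr, fr_inr] at hd'
    have e1 : ((D.gen (some i) * D.testElt (some i) * (D.gen (some i))⁻¹ : ↥(SG Q)) : ↥(Isom Q))
        = yA Q e f i (d * d') := by
      change D.genO (some i) * siegG Q (e i.castSucc) ((1 : F) • f i.succ) * (D.genO (some i))⁻¹ = _
      rw [siegG_conj]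
      change siegG Q (D.genO (some i) • e i.castSucc) (D.genO (some i) • (1 : F) • f i.succ) = _
      rw [one_smul, hd, hd', ← one_smul F (d' • f i.castSucc), smul_smul,
        siegG_smul_smul (hyp.1 _).1 (by rw [hyp.2.1, if_neg (adj_ne' i).symm]), one_mul]
      rfl
    rw [e1] at h1
    exact yA_not_mem_BO hyp i (mul_ne_zero hd0 hd'0) h1

/-- `s B s ≠ B`. -/
theorem conj_ne' (o : Option (Fin k)) :
    (fun b : ↥(SG Q) => D.gen o * b * D.gen o) '' (D.Bs : Set ↥(SG Q)) ≠ (D.Bs : Set ↥(SG Q)) := by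
  intro heq
  apply D.conj_testElt_not_mem o
  have h1 : D.gen o * D.testElt o * D.gen o ∈ (D.Bs : Set ↥(SG Q)) := by
    rw [← heq]
    exact ⟨_, D.testElt_mem o, rfl⟩
  have e : D.gen o * D.testElt o * (D.gen o)⁻¹
      = (D.gen o * D.testElt o * D.gen o) * (D.gen o * D.gen o)⁻¹ := by group
  rw [e]
  exact Subgroup.mul_mem _ h1 (Subgroup.inv_mem _ (D.gen_sq_mem o))

end WData

end Cfsg.Agent.Helper8.OSt
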