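import Mathlib
import Cfsg.Agent.Helper8.OStK
import Cfsg.Prelude.Def_LieExceptional

set_option autoImplicit false

/-!
# The `(B, N)`-pair of the Siegel group: generation and the structure (helper8)
-/

namespace Cfsg.Agent.Helper8.OSt

open Module Matrix Cfsg.Agent.Helper8.QuadForm Cfsg.Agent.Helper8.WittQuad
  Cfsg.Agent.Helper8.OrthOrder
  Cfsg.Agent.Helper8.Siegel Cfsg.Agent.Helper8.SiegelGroup Cfsg.Agent.Helper8.OGenA
  Cfsg.Agent.Helper8.OGenB Cfsg.Agent.Helper8.OGenG Cfsg.Agent.Lead.SpFus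
  Cfsg.Agent.Lead.SpBN

variable {F : Type*} [Field F] {V : Type*} [AddCommGroup V] [Module F V] [FiniteDimensional F V]
variable {k : ℕ} {Q : QuadraticForm F V} {e f : Fin (k + 1) → V} {a₀ : V}

/-- Siegel elements at the first vector of the frame stabilise the flag. -/
theorem siegG_e_zero_mem_BO (hyp : IsHyp Q e f) {w : V}
    (hw : QuadraticMap.polar Q (e 0) w = 0) : siegG Q (e 0) w ∈ BO Q e f := by
  apply mem_BO_of_forall
  intro m
  rw [siegG_smul Q (hyp.1 0).1 hw, (hyp.2.2 m 0).1, zero_smul, mul_zero, zero_smul, sub_zero,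
    sub_zero]
  exact Submodule.add_mem _ (e_mem_E hyp (Nat.lt_succ_self _))
    (Submodule.smul_mem _ _ (e_mem_E hyp (by rw [Fin.val_zero]; exact Nat.succ_pos _)))

namespace WData

variable (D : WData Q e f a₀)

theorem sup_eq_top' (hQ : Nondeg Q) : D.Bs ⊔ D.Ns = ⊤ := by
  have hyp := D.hyp
  obtain ⟨H, hH⟩ : ∃ H : Subgroup ↥(Isom Q), H = (D.Bs ⊔ D.Ns).map (SG Q).subtype := ⟨_, rfl⟩
  have hgen : ∀ o, D.genO o ∈ H := by
    intro o
    rw [hH]
    exact ⟨D.gen o, Subgroup.mem_sup_right (D.gen_mem_Ns o), rfl⟩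
  have hB : ∀ g : ↥(Isom Q), g ∈ SG Q → g ∈ BO Q e f → g ∈ H := by
    intro g hg hgB
    rw [hH]
    exact ⟨⟨g, hg⟩, Subgroup.mem_sup_left (D.mem_Bs.mpr hgB), rfl⟩
  have full0 : Full Q H (e 0) :=
    ⟨(hyp.1 0).1, fun w hw => hB _ (siegG_mem_SG Q (hyp.1 0).1 hw) (siegG_e_zero_mem_BO hyp hw)⟩
  have fullE : ∀ m : Fin (k + 1), Full Q H (e m) := by
    intro m
    induction m using Fin.induction with
    | zero => exact full0
    | succ i ih =>
      have h1 := ih.conj (hgen (some i))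
      obtain ⟨d, hd⟩ := D.pat_genO (some i) (Sum.inl i.castSucc)
      have hd0 := Pat.coeff_ne_zero hyp hd
      rw [genPat_some_inl, Equiv.swap_apply_left, fr_inl, fr_inl] at hd
      have h2 : Full Q H (d • e i.succ) := by
        rw [← hd]
        exact h1
      have h3 := h2.smul d⁻¹
      rwa [smul_smul, inv_mul_cancel₀ hd0, one_smul] at h3
  have fullF : Full Q H (f (Fin.last k)) := by
    have h1 := (fullE (Fin.last k)).conj (hgen none)
    have h2 : Full Q H (-f (Fin.last k)) := by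
      rw [← D.nW_smul_e_last]
      exact h1
    have h3 := h2.smul (-1)
    rwa [neg_smul, one_smul, neg_neg] at h3
  have hle : SG Q ≤ H := SG_le_of_full hQ (fullE (Fin.last k)) fullF (by
    rw [hyp.2.1, if_pos rfl]
    exact one_ne_zero)
  rw [eq_top_iff]
  intro g _
  have := hle g.2
  rw [hH] at this
  obtain ⟨h, hh, hgh⟩ := this
  have : h = g := Subtype.ext hgh
  rw [← this]
  exact hh

/-- **the `(B, N)`-pair of the Siegel group.** -/
noncomputable def bn (hQ : Nondeg Q) : Cfsg.BNPair ↥(SG Q) where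
  B := D.Bs
  N := D.Ns
  S := D.Ss
  sup_eq_top := D.sup_eq_top' hQ
  conj_mem := fun _ hn _ ht => D.conj_mem_Bs hn ht
  subset := D.Ss_subset
  sq_mem := by
    rintro _ ⟨o, rfl⟩
    exact D.gen_sq_mem o
  inj := by
    rintro _ ⟨o, rfl⟩ _ ⟨o', rfl⟩ h
    rw [D.gen_inj h]
  closure_sup := D.closure_sup_eq
  mul_mem_union := by
    rintro _ ⟨o, rfl⟩ n hn b hb
    exact D.mul_mem_union' o hn hb
  conj_ne := by
    rintro _ ⟨o, rfl⟩
    exact D.conj_ne' o

end WData

end Cfsg.Agent.Helper8.OSt
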