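import Mathlib
import Cfsg.Agent.Helper8.OStL

set_option autoImplicit false

/-!
# The longest element and the opposite flag (helper8)
-/

namespace Cfsg.Agent.Helper8.OSt

open Module Matrix Cfsg.Agent.Helper8.QuadForm Cfsg.Agent.Helper8.WittQuad
  Cfsg.Agent.Helper8.OrthOrder
  Cfsg.Agent.Helper8.Siegel Cfsg.Agent.Helper8.SiegelGroup Cfsg.Agent.Helper8.OGenA
  Cfsg.Agent.Helper8.OGenB Cfsg.Agent.Helper8.OGenG Cfsg.Agent.Lead.SpFus
  Cfsg.Agent.Lead.SpBN

variable {F : Type*} [Field F] {V : Type*} [AddCommGroup V] [Module F V]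

section general

variable {r : ℕ} {Q : QuadraticForm F V} {e f : Fin r → V}

theorem isHyp_symm (hyp : IsHyp Q e f) : IsHyp Q f e :=
  ⟨fun i => ⟨(hyp.1 i).2, (hyp.1 i).1⟩, fun i j => polar_fe hyp i j,
    fun i j => ⟨(hyp.2.2 i j).2, (hyp.2.2 i j).1⟩⟩

/-- the image of a vector of `E K` under a monomial isometry sending the `e i` among the
`f i` lies in the opposite flag. -/
theorem smul_mem_E_opp_of_pat (hyp : IsHyp Q e f) {n : ↥(Isom Q)}
    {σ : Equiv.Perm (Fin r ⊕ Fin r)} (hσ : Pat Q e f σ n) {K K' : ℕ} {v : V}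
    (hv : v ∈ E Q e f K)
    (h : ∀ l : Fin r, (l : ℕ) < K → ∃ l' : Fin r, σ (Sum.inl l) = Sum.inr l' ∧ (l' : ℕ) < K') :
    n • v ∈ E Q f e K' := by
  rw [← hv.1, smul_lc]
  apply Submodule.sum_mem
  intro l _
  by_cases hl : (l : ℕ) < K
  · obtain ⟨l', hl', hlt⟩ := h l hl
    obtain ⟨d, hd⟩ := hσ (Sum.inl l)
    rw [fr_inl, hl', fr_inr] at hd
    rw [hd]
    exact Submodule.smul_mem _ _ (Submodule.smul_mem _ _ (e_mem_E (isHyp_symm hyp) hlt))
  · rw [hv.2 l (not_lt.mp hl), zero_smul]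
    exact Submodule.zero_mem _

variable [FiniteDimensional F V]

/-- an isometry stabilising the flag and the opposite flag fixes the lines of the frame. -/
theorem pat_one_of_mem_BO_of_mem_BO_opp (hyp : IsHyp Q e f) {b : ↥(Isom Q)}
    (hb : b ∈ BO Q e f) (hb' : b ∈ BO Q f e) : Pat Q e f 1 b := by
  have hyp' := isHyp_symm hyp
  have hbi : b⁻¹ ∈ BO Q e f := (BO Q e f).inv_mem hb
  have hbi' : b⁻¹ ∈ BO Q f e := (BO Q f e).inv_mem hb'
  have key : ∀ {e' f' : Fin r → V}, IsHyp Q e' f' → b ∈ BO Q e' f' → b⁻¹ ∈ BO Q f' e' →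
      ∀ i, ∃ c : F, b • e' i = c • e' i := by
    intro e' f' hyp1 hb1 hb2 i
    refine ⟨QuadraticMap.polar Q (f' i) (b • e' i), ?_⟩
    have h1 := smul_e_mem hyp1 hb1 i
    have h2 : co Q f' (b • e' i) = Pi.single i (QuadraticMap.polar Q (f' i) (b • e' i)) := by
      funext l
      rw [co_apply, Pi.single_apply]
      by_cases hl : l = i
      · rw [if_pos hl, hl]
      · rw [if_neg hl]
        rcases lt_or_gt_of_ne (fun h => hl (Fin.ext h)) with hlt | hgt
        · rw [polar_smul_right', QuadraticMap.polar_comm]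
          have h3 := smul_e_mem (isHyp_symm hyp1) hb2 l
          exact h3.2 i (Nat.succ_le_of_lt hlt)
        · exact h1.2 l (Nat.succ_le_of_lt hgt)
    conv_lhs => rw [← h1.1, h2, lc_single]
  intro a
  rw [Equiv.Perm.one_apply]
  rcases a with i | i
  · exact key hyp hb hbi' i
  · exact key hyp' hb' hbi i

end general

variable [FiniteDimensional F V]
variable {k : ℕ} {Q : QuadraticForm F V} {e f : Fin (k + 1) → V} {a₀ : V}

namespace WData

variable (D : WData Q e f a₀)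

/-- every signed permutation is the pattern of an element of `N`. -/
theorem exists_pat {σ : Equiv.Perm (Fin (k + 1) ⊕ Fin (k + 1))}
    (hσ : σ ∈ Submonoid.closure (genP k)) :
    ∃ n : ↥(SG Q), n ∈ D.Ns ∧ Pat Q e f σ (n : ↥(Isom Q)) := by
  induction hσ using Submonoid.closure_induction_left with
  | one => exact ⟨1, Subgroup.one_mem _, Pat.one⟩
  | mul_left x hx y hy ih =>
    obtain ⟨o, rfl⟩ : ∃ o : Option (Fin k), genPat o = x := by
      rcases hx with ⟨i, rfl⟩ | hx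
      · exact ⟨some i, rfl⟩
      · exact ⟨none, hx.symm⟩
    obtain ⟨n, hn, hp⟩ := ih
    exact ⟨D.gen o * n, Subgroup.mul_mem _ (D.gen_mem_Ns o) hn, (D.pat_genO o).mul hp⟩

/-- a representative of the longest element. -/
theorem exists_longest :
    ∃ n₀ : ↥(SG Q), n₀ ∈ D.Ns ∧ Pat Q e f (swp (k + 1)) (n₀ : ↥(Isom Q)) :=
  D.exists_pat (signed_mem_closure (swp (k + 1)) (fun _ => rfl))

/-- the elements of `B` which the longest element conjugates into `B` are those fixing the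
lines of the frame. -/
theorem conj_w0_mem_iff {n₀ : ↥(SG Q)} (h0 : Pat Q e f (swp (k + 1)) (n₀ : ↥(Isom Q)))
    {b : ↥(SG Q)} (hb : b ∈ D.Bs) :
    n₀ * b * n₀⁻¹ ∈ D.Bs ↔ Pat Q e f 1 (b : ↥(Isom Q)) := by
  have hyp := D.hyp
  have h0i : Pat Q e f (swp (k + 1)) ((n₀ : ↥(Isom Q))⁻¹) := by
    have := h0.inv hyp
    rwa [swp_inv] at this
  constructor
  · intro h
    have h1 := D.mem_Bs.mp h
    rw [Subgroup.coe_mul, Subgroup.coe_mul, Subgroup.coe_inv] at h1
    apply pat_one_of_mem_BO_of_mem_BO_opp hyp (D.mem_Bs.mp hb)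
    apply mem_BO_of_forall
    intro i
    obtain ⟨c, hc⟩ := h0 (Sum.inr i)
    rw [swp_apply, Sum.swap_inr, fr_inr, fr_inl] at hc
    have e1 : (b : ↥(Isom Q)) • f i
        = (n₀ : ↥(Isom Q))⁻¹ • ((n₀ : ↥(Isom Q)) * (b : ↥(Isom Q)) * (n₀ : ↥(Isom Q))⁻¹) •
          (n₀ : ↥(Isom Q)) • f i := by
      rw [← mul_smul, ← mul_smul]
      congr 1
      group
    rw [e1, hc, smul_comm _ c, smul_comm _ c]
    apply Submodule.smul_mem
    apply smul_mem_E_opp_of_pat hyp h0i (smul_e_mem hyp h1 i)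
    intro l hl
    exact ⟨l, rfl, hl⟩
  · intro h
    apply D.mem_Bs_of_pat_one
    have hs : swp (k + 1) * swp (k + 1) = 1 := by
      have := mul_inv_cancel (swp (k + 1))
      rwa [swp_inv] at this
    have := (h0.mul h).mul h0i
    rw [mul_one, hs] at this
    rw [Subgroup.coe_mul, Subgroup.coe_mul, Subgroup.coe_inv]
    exact this

end WData

end Cfsg.Agent.Helper8.OSt
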