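import Mathlib
import Cfsg.Agent.Helper8.OStM

set_option autoImplicit false

/-!
# The unipotent radical of the flag stabiliser (helper8)
-/

namespace Cfsg.Agent.Helper8.OSt

open Module Matrix Cfsg.Agent.Helper8.QuadForm Cfsg.Agent.Helper8.WittQuad
  Cfsg.Agent.Helper8.OrthOrder
  Cfsg.Agent.Helper8.Siegel Cfsg.Agent.Helper8.SiegelGroup Cfsg.Agent.Helper8.OGenA
  Cfsg.Agent.Helper8.OGenB

variable {F : Type*} [Field F] {V : Type*} [AddCommGroup V] [Module F V] [FiniteDimensional F V]
variable {r : ℕ} {Q : QuadraticForm F V} {e f : Fin r → V}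

variable (Q e f)

/-- the isometries stabilising the flag and acting trivially on its successive quotients. -/
def UO : Subgroup ↥(Isom Q) where
  carrier := {g | g ∈ BO Q e f ∧ (∀ K, ∀ v, v ∈ E Q e f (K + 1) → g • v - v ∈ E Q e f K) ∧
    ∀ w, w ∈ W0 Q e f → g • w - w ∈ E Q e f r}
  mul_mem' := by
    rintro a b ⟨ha, ha1, ha2⟩ ⟨hb, hb1, hb2⟩
    refine ⟨(BO Q e f).mul_mem ha hb, fun K v hv => ?_, fun w hw => ?_⟩
    · have e1 : (a * b) • v - v = a • (b • v - v) + (a • v - v) := by
        rw [mul_smul, smul_sub]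
        abel
      rw [e1]
      exact Submodule.add_mem _ (ha _ _ (hb1 K v hv)) (ha1 K v hv)
    · have e1 : (a * b) • w - w = a • (b • w - w) + (a • w - w) := by
        rw [mul_smul, smul_sub]
        abel
      rw [e1]
      exact Submodule.add_mem _ (ha _ _ (hb2 w hw)) (ha2 w hw)
  one_mem' := by
    refine ⟨(BO Q e f).one_mem, fun K v _ => ?_, fun w _ => ?_⟩
    · rw [one_smul, sub_self]
      exact Submodule.zero_mem _
    · rw [one_smul, sub_self]
      exact Submodule.zero_mem _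
  inv_mem' := by
    rintro a ⟨ha, ha1, ha2⟩
    have hai := (BO Q e f).inv_mem ha
    refine ⟨hai, fun K v hv => ?_, fun w hw => ?_⟩
    · have e1 : a⁻¹ • v - v = -(a⁻¹ • (a • v - v)) := by
        rw [smul_sub, inv_smul_smul]
        abel
      rw [e1]
      exact Submodule.neg_mem _ (hai _ _ (ha1 K v hv))
    · have e1 : a⁻¹ • w - w = -(a⁻¹ • (a • w - w)) := by
        rw [smul_sub, inv_smul_smul]
        abel
      rw [e1]
      exact Submodule.neg_mem _ (hai _ _ (ha2 w hw))

variable {Q e f}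

theorem mem_UO {g : ↥(Isom Q)} : g ∈ UO Q e f ↔
    g ∈ BO Q e f ∧ (∀ K, ∀ v, v ∈ E Q e f (K + 1) → g • v - v ∈ E Q e f K) ∧
      ∀ w, w ∈ W0 Q e f → g • w - w ∈ E Q e f r := Iff.rfl

theorem UO_le_BO : UO Q e f ≤ BO Q e f := fun _ h => h.1

/-- the root elements of the unipotent radical. -/
theorem siegG_mem_UO (hyp : IsHyp Q e f) (i : Fin r) {w : V}
    (hw : ∀ l : Fin r, (l : ℕ) ≤ i → QuadraticMap.polar Q (e l) w = 0 ∧
      QuadraticMap.polar Q (f l) w = 0) : siegG Q (e i) w ∈ UO Q e f := by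
  have hu : Q (e i) = 0 := (hyp.1 i).1
  have huw : QuadraticMap.polar Q (e i) w = 0 := (hw i (le_refl _)).1
  have hei : ∀ m : ℕ, (i : ℕ) < m → e i ∈ E Q e f m := fun m hm => e_mem_E hyp hm
  have key : ∀ K, ∀ v, v ∈ E Q e f (K + 1) →
      siegG Q (e i) w • v - v = QuadraticMap.polar Q v w • e i ∧
        (K ≤ (i : ℕ) → QuadraticMap.polar Q v w = 0) := by
    intro K v hv
    have h1 : QuadraticMap.polar Q v (e i) = 0 := by
      rw [QuadraticMap.polar_comm]
      exact polar_e_of_mem_E hyp hv i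
    constructor
    · rw [siegG_smul Q hu huw, h1]
      simp
    · intro hK
      rw [← hv.1, QuadraticMap.polar_comm, polar_lc]
      apply Finset.sum_eq_zero
      intro l _
      by_cases hl : (l : ℕ) ≤ i
      · rw [QuadraticMap.polar_comm, (hw l hl).1, mul_zero]
      · rw [hv.2 l (by omega), zero_mul]
  refine ⟨?_, fun K v hv => ?_, fun w' hw' => ?_⟩
  · apply mem_BO_of_forall
    intro m
    have h1 := key m (e m) (e_mem_E hyp (Nat.lt_succ_self _))
    have e1 : siegG Q (e i) w • e m = e m + QuadraticMap.polar Q (e m) w • e i := by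
      rw [← h1.1]
      abel
    rw [e1]
    apply Submodule.add_mem _ (e_mem_E hyp (Nat.lt_succ_self _))
    by_cases hm : (m : ℕ) ≤ i
    · rw [h1.2 hm, zero_smul]
      exact Submodule.zero_mem _
    · exact Submodule.smul_mem _ _ (hei _ (by omega))
  · obtain ⟨h1, h2⟩ := key K v hv
    rw [h1]
    by_cases hK : K ≤ (i : ℕ)
    · rw [h2 hK, zero_smul]
      exact Submodule.zero_mem _
    · exact Submodule.smul_mem _ _ (hei _ (by omega))
  · rw [siegG_smul Q hu huw, polar_W0_e hw']
    simp only [zero_smul, mul_zero, sub_zero, add_sub_cancel_left]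
    exact Submodule.smul_mem _ _ (hei _ i.2)

/-- a unipotent isometry fixing the lines of the frame is trivial. -/
theorem eq_one_of_mem_UO_of_pat_one (hyp : IsHyp Q e f) {g : ↥(Isom Q)} (hg : g ∈ UO Q e f)
    (hp : Pat Q e f 1 g) : g = 1 := by
  have he : ∀ i, g • e i = e i := by
    intro i
    obtain ⟨c, hc⟩ := hp (Sum.inl i)
    rw [Equiv.Perm.one_apply, fr_inl] at hc
    have h1 := hg.2.1 i (e i) (e_mem_E hyp (Nat.lt_succ_self _))
    have h2 := h1.2 i (le_refl _)
    rw [hc, co_apply, QuadraticMap.polar_sub_right, QuadraticMap.polar_smul_right, polar_fe hyp,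
      if_pos rfl, smul_eq_mul, mul_one] at h2
    rw [hc, sub_eq_zero.mp h2, one_smul]
  have hf : ∀ i, g • f i = f i := by
    intro i
    obtain ⟨c, hc⟩ := hp (Sum.inr i)
    rw [Equiv.Perm.one_apply, fr_inr] at hc
    have h1 := polar_smul_smul g (e i) (f i)
    rw [he, hc, QuadraticMap.polar_smul_right, hyp.2.1, if_pos rfl, smul_eq_mul, mul_one] at h1
    rw [hc, h1, one_smul]
  apply eq_one_of_fix _ _ hyp
  · rintro (i | i)
    · exact he i
    · exact hf i
  · intro w hw
    have h1 := hg.2.2 w hw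
    have h2 : g • w - w ∈ W0 Q e f := (W0 Q e f).sub_mem (smul_mem_W0 hyp hp hw) hw
    have h3 : g • w - w = 0 := by
      rw [← h1.1, h2.2, map_zero]
    exact sub_eq_zero.mp h3

end Cfsg.Agent.Helper8.OSt
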