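import Mathlib
import Cfsg.Agent.Helper8.OStN

set_option autoImplicit false

/-!
# Isometries commuting with Siegel transformations (helper8)

If an isometry `g` commutes with the Siegel transformations `siegG Q u a`, `siegG Q u b` for a
hyperbolic pair `a, b` orthogonal to the singular vector `u`, then `g` fixes the line of `u`.
-/

namespace Cfsg.Agent.Helper8.Af13

open Module Cfsg.Agent.Helper8.QuadForm Cfsg.Agent.Helper8.WittQuad
  Cfsg.Agent.Helper8.OrthOrder
  Cfsg.Agent.Helper8.Siegel Cfsg.Agent.Helper8.SiegelGroup Cfsg.Agent.Helper8.OGenA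
  Cfsg.Agent.Helper8.OGenB Cfsg.Agent.Helper8.OSt

variable {F : Type*} [Field F] {V : Type*} [AddCommGroup V] [Module F V]
variable {Q : QuadraticForm F V}

/-- commuting with a Siegel transformation, in conjugated form. -/
theorem af13_siegG_eq {g : ↥(Isom Q)} {u w : V} (h : g * siegG Q u w = siegG Q u w * g) :
    siegG Q (g • u) (g • w) = siegG Q u w := by
  have h1 := siegG_conj Q g u w
  rw [h, mul_assoc, mul_inv_cancel, mul_one] at h1
  exact h1.symm

/-- the basic identity: on vectors orthogonal to `u` and `g • u`. -/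
theorem af13_key {g : ↥(Isom Q)} {u w : V} (hu : Q u = 0) (huw : QuadraticMap.polar Q u w = 0)
    (h : g * siegG Q u w = siegG Q u w * g) {x : V} (hxu : QuadraticMap.polar Q x u = 0)
    (hxy : QuadraticMap.polar Q x (g • u) = 0) :
    QuadraticMap.polar Q x (g • w) • (g • u) = QuadraticMap.polar Q x w • u := by
  have h1 : siegG Q (g • u) (g • w) • x = siegG Q u w • x := by rw [af13_siegG_eq h]
  have hy : Q (g • u) = 0 := by rw [Q_smul, hu]
  have hyw : QuadraticMap.polar Q (g • u) (g • w) = 0 := by rw [polar_smul_smul, huw]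
  rw [siegG_smul Q hy hyw, siegG_smul Q hu huw, hxu, hxy] at h1
  simp only [zero_smul, mul_zero, sub_zero] at h1
  exact add_left_cancel h1

/-- **an isometry commuting with the Siegel transformations at `u` along a hyperbolic pair
orthogonal to `u` fixes the line of `u`.** -/
theorem af13_smul_mem_span (hQ : Nondeg Q) {g : ↥(Isom Q)} {u v a b : V} (hu : Q u = 0)
    (huv : QuadraticMap.polar Q u v = 1)
    (ha : Q a = 0) (hb : Q b = 0) (hab : QuadraticMap.polar Q a b = 1)
    (hua : QuadraticMap.polar Q u a = 0) (hub : QuadraticMap.polar Q u b = 0)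
    (hga : g * siegG Q u a = siegG Q u a * g) (hgb : g * siegG Q u b = siegG Q u b * g) :
    ∃ c : F, g • u = c • u := by
  by_contra hne
  have hu0 : u ≠ 0 := by
    intro h0
    rw [h0, QuadraticMap.polar_zero_left] at huv
    exact zero_ne_one huv
  set y : V := g • u with hy
  have hy0 : y ≠ 0 := by
    intro h0
    apply hne
    exact ⟨0, by rw [h0, zero_smul]⟩
  -- orthogonality forces vanishing
  have hvan : ∀ w, QuadraticMap.polar Q u w = 0 → g * siegG Q u w = siegG Q u w * g →
      ∀ x, QuadraticMap.polar Q x u = 0 → QuadraticMap.polar Q x y = 0 →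
        QuadraticMap.polar Q x w = 0 := by
    intro w huw hgw x hxu hxy
    by_contra hxw
    have h1 := af13_key hu huw hgw hxu hxy
    apply hne
    by_cases hc : QuadraticMap.polar Q x (g • w) = 0
    · rw [hc, zero_smul] at h1
      exact absurd (smul_eq_zero.mp h1.symm) (by push Not; exact ⟨hxw, hu0⟩)
    · refine ⟨(QuadraticMap.polar Q x (g • w))⁻¹ * QuadraticMap.polar Q x w, ?_⟩
      rw [mul_smul, ← h1, smul_smul, inv_mul_cancel₀ hc, one_smul]
  have hprop : ∀ w, QuadraticMap.polar Q u w = 0 → g * siegG Q u w = siegG Q u w * g →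
      ∀ z z', QuadraticMap.polar Q z u = 0 → QuadraticMap.polar Q z' u = 0 →
        QuadraticMap.polar Q z y * QuadraticMap.polar Q z' w =
          QuadraticMap.polar Q z' y * QuadraticMap.polar Q z w := by
    intro w huw hgw z z' hz hz'
    have h1 := hvan w huw hgw
      (QuadraticMap.polar Q z y • z' - QuadraticMap.polar Q z' y • z)
      (by
        rw [QuadraticMap.polar_sub_left, QuadraticMap.polar_smul_left,
          QuadraticMap.polar_smul_left, hz, hz']
        simp)
      (by
        rw [QuadraticMap.polar_sub_left, QuadraticMap.polar_smul_left,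
          QuadraticMap.polar_smul_left]
        simp only [smul_eq_mul]
        ring)
    rw [QuadraticMap.polar_sub_left, QuadraticMap.polar_smul_left,
      QuadraticMap.polar_smul_left] at h1
    simp only [smul_eq_mul] at h1
    linear_combination h1
  have hba : QuadraticMap.polar Q b a = 1 := by rw [QuadraticMap.polar_comm, hab]
  have haa : QuadraticMap.polar Q a a = 0 := by rw [polar_self', ha, mul_zero]
  have hbb : QuadraticMap.polar Q b b = 0 := by rw [polar_self', hb, mul_zero]
  have hau : QuadraticMap.polar Q a u = 0 := by rw [QuadraticMap.polar_comm, hua]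
  have hbu : QuadraticMap.polar Q b u = 0 := by rw [QuadraticMap.polar_comm, hub]
  have e1 : ∀ z, QuadraticMap.polar Q z u = 0 →
      QuadraticMap.polar Q z y = QuadraticMap.polar Q b y * QuadraticMap.polar Q z a := by
    intro z hz
    have := hprop a hua hga z b hz hbu
    rw [hba, mul_one] at this
    exact this
  have e2 : ∀ z, QuadraticMap.polar Q z u = 0 →
      QuadraticMap.polar Q z y = QuadraticMap.polar Q a y * QuadraticMap.polar Q z b := by
    intro z hz
    have := hprop b hub hgb z a hz hau
    rw [hab, mul_one] at this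
    exact this
  have hay : QuadraticMap.polar Q a y = 0 := by
    rw [e1 a hau, haa, mul_zero]
  have hby : QuadraticMap.polar Q b y = 0 := by
    rw [e2 b hbu, hbb, mul_zero]
  have hzy : ∀ z, QuadraticMap.polar Q z u = 0 → QuadraticMap.polar Q z y = 0 := by
    intro z hz
    rw [e1 z hz, hby, zero_mul]
  -- nondegeneracy
  apply hne
  refine ⟨QuadraticMap.polar Q v y, ?_⟩
  have hvu : QuadraticMap.polar Q v u = 1 := by rw [QuadraticMap.polar_comm, huv]
  have huu : QuadraticMap.polar Q u u = 0 := by rw [polar_self', hu, mul_zero]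
  have h0 : y - QuadraticMap.polar Q v y • u = 0 := by
    apply hQ
    intro t
    rw [QuadraticMap.polar_comm]
    set z : V := t - QuadraticMap.polar Q u t • v with hzdef
    have hz : QuadraticMap.polar Q z u = 0 := by
      rw [hzdef, QuadraticMap.polar_sub_left, QuadraticMap.polar_smul_left, hvu,
        QuadraticMap.polar_comm Q t u]
      simp
    have ht : QuadraticMap.polar Q t (y - QuadraticMap.polar Q v y • u) =
        QuadraticMap.polar Q (QuadraticMap.polar Q u t • v) (y - QuadraticMap.polar Q v y • u) +
          QuadraticMap.polar Q z (y - QuadraticMap.polar Q v y • u) := by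
      rw [← QuadraticMap.polar_add_left]
      congr 1
      rw [hzdef]
      abel
    rw [ht, QuadraticMap.polar_sub_right, QuadraticMap.polar_sub_right,
      QuadraticMap.polar_smul_left, QuadraticMap.polar_smul_left, QuadraticMap.polar_smul_right,
      QuadraticMap.polar_smul_right, hvu, hzy _ hz, hz]
    simp
  exact sub_eq_zero.mp h0

/-- the action on the orthogonal complement of `u`, modulo `u`. -/
theorem af13_smul_sub_mem {g : ↥(Isom Q)} {u v w : V} {c : F} (hu : Q u = 0)
    (hvu : QuadraticMap.polar Q v u = 1) (huw : QuadraticMap.polar Q u w = 0)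
    (hgu : g • u = c • u) (hgw : g * siegG Q u w = siegG Q u w * g) :
    ∃ d : F, c • (g • w) - w = d • u := by
  have h1 : siegG Q (g • u) (g • w) • v = siegG Q u w • v := by rw [af13_siegG_eq hgw]
  have hy : Q (g • u) = 0 := by rw [Q_smul, hu]
  have hyw : QuadraticMap.polar Q (g • u) (g • w) = 0 := by rw [polar_smul_smul, huw]
  rw [siegG_smul Q hy hyw, siegG_smul Q hu huw, hgu, QuadraticMap.polar_smul_right, hvu] at h1
  simp only [smul_eq_mul, mul_one, one_smul] at h1
  refine ⟨QuadraticMap.polar Q v (g • w) * c - Q (g • w) * c * c - QuadraticMap.polar Q v w + Q w,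
    ?_⟩
  have h2 : c • (g • w) - w = (QuadraticMap.polar Q v (g • w) • c • u
      - (Q (g • w) * c) • c • u) - (QuadraticMap.polar Q v w • u - Q w • u) := by
    have h3 : v + QuadraticMap.polar Q v (g • w) • c • u - c • g • w - (Q (g • w) * c) • c • u
        - (v + QuadraticMap.polar Q v w • u - w - Q w • u) = 0 := sub_eq_zero.mpr h1
    have h4 : c • (g • w) - w - ((QuadraticMap.polar Q v (g • w) • c • u
        - (Q (g • w) * c) • c • u) - (QuadraticMap.polar Q v w • u - Q w • u)) = 0 := by
      rw [← neg_eq_zero, ← h3]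
      abel
    exact sub_eq_zero.mp h4
  rw [h2]
  simp only [smul_smul, sub_smul, add_smul]
  abel

/-- the scalar is `±1`. -/
theorem af13_sq_eq_one {g : ↥(Isom Q)} {u w : V} {c d : F} (hu : Q u = 0)
    (huw : QuadraticMap.polar Q u w = 0) (hw : Q w = 1) (h : c • (g • w) - w = d • u) :
    c * c = 1 := by
  have h1 : c • (g • w) = w + d • u := by rw [← h]; abel
  have h2 := congrArg Q h1
  rw [QuadraticMap.map_smul, Q_smul, hw, QuadraticMap.map_add Q, QuadraticMap.map_smul, hu, hw,
    QuadraticMap.polar_smul_right, QuadraticMap.polar_comm Q w u, huw] at h2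
  simpa using h2

end Cfsg.Agent.Helper8.Af13
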