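import Mathlib
import Cfsg.Agent.Helper8.Af13A
import Cfsg.Agent.Helper8.OStH

set_option autoImplicit false

/-!
# The radical of the stabiliser of a member of the flag (helper8)

`RJ j` is the group of isometries fixing `E j` pointwise and acting trivially on
`(E j)^⊥ / E j`.  It lies in the unipotent radical `UO` of the flag stabiliser, it is normalised by
the stabiliser of `E j`, and it contains the Siegel transformations `siegG Q (e i) w`, `i < j`,
`w ⟂ E j`.
-/

namespace Cfsg.Agent.Helper8.Af13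

open Module Cfsg.Agent.Helper8.QuadForm Cfsg.Agent.Helper8.WittQuad
  Cfsg.Agent.Helper8.OrthOrder
  Cfsg.Agent.Helper8.Siegel Cfsg.Agent.Helper8.SiegelGroup Cfsg.Agent.Helper8.OGenA
  Cfsg.Agent.Helper8.OGenB Cfsg.Agent.Helper8.OSt

variable {F : Type*} [Field F] {V : Type*} [AddCommGroup V] [Module F V]
variable {r : ℕ} {Q : QuadraticForm F V} {e f : Fin r → V}

/-- the isometry `-1`. -/
noncomputable def negI (Q : QuadraticForm F V) : ↥(Isom Q) :=
  ⟨LinearEquiv.neg F, fun v => by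
    show Q (-v) = Q v
    exact QuadraticMap.map_neg Q v⟩

theorem negI_smul (v : V) : negI Q • v = -v := rfl

theorem negI_mul_comm (g : ↥(Isom Q)) : negI Q * g = g * negI Q := by
  apply Subtype.ext
  apply LinearEquiv.ext
  intro v
  show -((g : V ≃ₗ[F] V) v) = (g : V ≃ₗ[F] V) (-v)
  rw [map_neg]

theorem negI_mul_self : negI Q * negI Q = 1 := by
  apply Subtype.ext
  apply LinearEquiv.ext
  intro v
  show - -v = v
  rw [neg_neg]

/-- an isometry fixing the first `j` vectors `e i` fixes `E j` pointwise. -/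
theorem af13_smul_eq_of_mem_E {j : ℕ} {h : ↥(Isom Q)}
    (hfix : ∀ i : Fin r, (i : ℕ) < j → h • e i = e i) {v : V} (hv : v ∈ E Q e f j) :
    h • v = v := by
  have key : h • lc e (co Q f v) = lc e (co Q f v) := by
    rw [smul_lc, lc_apply]
    apply Finset.sum_congr rfl
    intro i _
    by_cases hi : (i : ℕ) < j
    · rw [hfix i hi]
    · rw [hv.2 i (not_lt.mp hi), zero_smul, zero_smul]
  rw [hv.1] at key
  exact key

/-- a vector orthogonal to the first `j` vectors `e i` is orthogonal to `E j`. -/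
theorem af13_polar_of_mem_E {j : ℕ} {w v : V}
    (hw : ∀ i : Fin r, (i : ℕ) < j → QuadraticMap.polar Q (e i) w = 0) (hv : v ∈ E Q e f j) :
    QuadraticMap.polar Q v w = 0 := by
  rw [QuadraticMap.polar_comm, ← hv.1, polar_lc]
  apply Finset.sum_eq_zero
  intro i _
  by_cases hi : (i : ℕ) < j
  · rw [QuadraticMap.polar_comm, hw i hi, mul_zero]
  · have h0 : co Q f v i = 0 := hv.2 i (not_lt.mp hi)
    rw [h0, zero_mul]

variable (Q e f)

/-- the radical of the stabiliser of `E j`. -/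
def RJ (j : ℕ) : Subgroup ↥(Isom Q) where
  carrier := {h | (∀ i : Fin r, (i : ℕ) < j → h • e i = e i) ∧
    ∀ w, (∀ i : Fin r, (i : ℕ) < j → QuadraticMap.polar Q (e i) w = 0) → h • w - w ∈ E Q e f j}
  mul_mem' := by
    rintro a b ⟨ha1, ha2⟩ ⟨hb1, hb2⟩
    refine ⟨fun i hi => by rw [mul_smul, hb1 i hi, ha1 i hi], fun w hw => ?_⟩
    have e1 : (a * b) • w - w = a • (b • w - w) + (a • w - w) := by
      rw [mul_smul, smul_sub]
      abel
    rw [e1, af13_smul_eq_of_mem_E ha1 (hb2 w hw)]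
    exact Submodule.add_mem _ (hb2 w hw) (ha2 w hw)
  one_mem' := by
    refine ⟨fun i _ => one_smul _ _, fun w _ => ?_⟩
    rw [one_smul, sub_self]
    exact Submodule.zero_mem _
  inv_mem' := by
    rintro a ⟨ha1, ha2⟩
    have hinv : ∀ i : Fin r, (i : ℕ) < j → a⁻¹ • e i = e i := fun i hi => by
      rw [inv_smul_eq_iff, ha1 i hi]
    refine ⟨hinv, fun w hw => ?_⟩
    have e1 : a⁻¹ • w - w = -(a⁻¹ • (a • w - w)) := by
      rw [smul_sub, inv_smul_smul]
      abel
    rw [e1, af13_smul_eq_of_mem_E hinv (ha2 w hw)]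
    exact Submodule.neg_mem _ (ha2 w hw)

variable {Q e f}

theorem mem_RJ {j : ℕ} {h : ↥(Isom Q)} : h ∈ RJ Q e f j ↔
    (∀ i : Fin r, (i : ℕ) < j → h • e i = e i) ∧
    ∀ w, (∀ i : Fin r, (i : ℕ) < j → QuadraticMap.polar Q (e i) w = 0) →
      h • w - w ∈ E Q e f j := Iff.rfl

/-- the Siegel transformations in the radical. -/
theorem af13_siegG_mem_RJ (hyp : IsHyp Q e f) {j : ℕ} {i : Fin r} (hi : (i : ℕ) < j) {w : V}
    (hw : ∀ l : Fin r, (l : ℕ) < j → QuadraticMap.polar Q (e l) w = 0) :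
    siegG Q (e i) w ∈ RJ Q e f j := by
  have hu : Q (e i) = 0 := (hyp.1 i).1
  have huw : QuadraticMap.polar Q (e i) w = 0 := hw i hi
  refine ⟨fun l hl => ?_, fun x hx => ?_⟩
  · apply siegG_smul_fix
    · exact (hyp.2.2 l i).1
    · exact hw l hl
  · have hxe : QuadraticMap.polar Q x (e i) = 0 := by
      rw [QuadraticMap.polar_comm]
      exact hx i hi
    rw [siegG_smul Q hu huw, hxe]
    simp only [zero_smul, mul_zero, sub_zero, add_sub_cancel_left]
    exact Submodule.smul_mem _ _ (e_mem_E hyp hi)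

section fd

variable [FiniteDimensional F V]

/-- the radical lies in the unipotent radical of the flag stabiliser. -/
theorem af13_RJ_le_UO (hyp : IsHyp Q e f) {j : ℕ} (hj : j ≤ r) : RJ Q e f j ≤ UO Q e f := by
  rintro h ⟨h1, h2⟩
  have horth : ∀ (K : ℕ) (v : V), v ∈ E Q e f K →
      ∀ i : Fin r, (i : ℕ) < j → QuadraticMap.polar Q (e i) v = 0 :=
    fun K v hv i _ => polar_e_of_mem_E hyp hv i
  have hstep : ∀ (K : ℕ) (v : V), v ∈ E Q e f (K + 1) → h • v - v ∈ E Q e f K := by
    intro K v hv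
    by_cases hK : K + 1 ≤ j
    · rw [af13_smul_eq_of_mem_E h1 (E_mono hK hv), sub_self]
      exact Submodule.zero_mem _
    · exact E_mono (by omega) (h2 v (horth _ v hv))
  refine ⟨?_, hstep, fun w hw => ?_⟩
  · apply mem_BO_of_forall
    intro i
    have hmem : e i ∈ E Q e f ((i : ℕ) + 1) := e_mem_E hyp (Nat.lt_succ_self _)
    have h3 := hstep i (e i) hmem
    have e1 : h • e i = (h • e i - e i) + e i := by abel
    rw [e1]
    exact Submodule.add_mem _ (E_mono (Nat.le_succ _) h3) hmem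
  · exact E_mono hj (h2 w (fun i _ => polar_e_W0 hw i))

variable (Q e f)

/-- the stabiliser of `E j` in the isometry group. -/
def StabJ (j : ℕ) : Subgroup ↥(Isom Q) where
  carrier := {g | ∀ v, v ∈ E Q e f j → g • v ∈ E Q e f j}
  mul_mem' := by
    intro a b ha hb v hv
    rw [mul_smul]
    exact ha _ (hb v hv)
  one_mem' := by
    intro v hv
    rwa [one_smul]
  inv_mem' := by
    intro a ha v hv
    exact exists_smul_eq_of_stable a _ ha hv

variable {Q e f}

theorem mem_StabJ {j : ℕ} {g : ↥(Isom Q)} :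
    g ∈ StabJ Q e f j ↔ ∀ v, v ∈ E Q e f j → g • v ∈ E Q e f j := Iff.rfl

/-- the stabiliser of `E j` normalises the radical. -/
theorem af13_conj_mem_RJ (hyp : IsHyp Q e f) {j : ℕ} {g h : ↥(Isom Q)} (hg : g ∈ StabJ Q e f j)
    (hh : h ∈ RJ Q e f j) : g * h * g⁻¹ ∈ RJ Q e f j := by
  have hgi : g⁻¹ ∈ StabJ Q e f j := (StabJ Q e f j).inv_mem hg
  obtain ⟨h1, h2⟩ := hh
  refine ⟨fun i hi => ?_, fun w hw => ?_⟩
  · have hmem : g⁻¹ • e i ∈ E Q e f j := hgi _ (e_mem_E hyp hi)
    rw [mul_smul, mul_smul, af13_smul_eq_of_mem_E h1 hmem, smul_inv_smul]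
  · have hw' : ∀ i : Fin r, (i : ℕ) < j → QuadraticMap.polar Q (e i) (g⁻¹ • w) = 0 := by
      intro i hi
      have h3 : QuadraticMap.polar Q (g • e i) w = 0 :=
        af13_polar_of_mem_E hw (hg _ (e_mem_E hyp hi))
      rw [← polar_smul_smul g, smul_inv_smul]
      exact h3
    have h4 := h2 _ hw'
    have e1 : (g * h * g⁻¹) • w - w = g • (h • (g⁻¹ • w) - g⁻¹ • w) := by
      rw [mul_smul, mul_smul, smul_sub, smul_inv_smul]
    rw [e1]
    exact hg _ h4

end fd

end Cfsg.Agent.Helper8.Af13
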