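import Mathlib
import Cfsg.Agent.Helper8.Af13B

set_option autoImplicit false

/-!
# The centralisers of the radicals of the point and line stabilisers (helper8)

An isometry commuting with the Siegel group elements of `RJ 1` (resp. `RJ 2`) is, up to the
sign `-1`, an element of `RJ 1` (resp. `RJ 2`).
-/

namespace Cfsg.Agent.Helper8.Af13

open Module Cfsg.Agent.Helper8.QuadForm Cfsg.Agent.Helper8.WittQuad
  Cfsg.Agent.Helper8.OrthOrder
  Cfsg.Agent.Helper8.Siegel Cfsg.Agent.Helper8.SiegelGroup Cfsg.Agent.Helper8.OGenA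
  Cfsg.Agent.Helper8.OGenB Cfsg.Agent.Helper8.OSt

variable {F : Type*} [Field F] {V : Type*} [AddCommGroup V] [Module F V]
variable {k : ℕ} {Q : QuadraticForm F V} {e f : Fin (k + 3) → V}

section indices

theorem af13_v0 : ((0 : Fin (k + 3)) : ℕ) = 0 := rfl
theorem af13_v1 : ((1 : Fin (k + 3)) : ℕ) = 1 := rfl
theorem af13_v2 : ((2 : Fin (k + 3)) : ℕ) = 2 := rfl

theorem af13_ne {i j : Fin (k + 3)} (h : (i : ℕ) ≠ (j : ℕ)) : i ≠ j := fun hij => h (by rw [hij])

theorem af13_eq_zero {i : Fin (k + 3)} (h : (i : ℕ) < 1) : i = 0 := by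
  apply Fin.ext
  show (i : ℕ) = 0
  omega

theorem af13_eq_zero_or_one {i : Fin (k + 3)} (h : (i : ℕ) < 2) : i = 0 ∨ i = 1 := by
  rcases Nat.lt_or_ge (i : ℕ) 1 with h1 | h1
  · left
    exact af13_eq_zero h1
  · right
    apply Fin.ext
    show (i : ℕ) = 1
    omega

end indices

/-- the relations of the frame used below. -/
theorem af13_pol_ee (hyp : IsHyp Q e f) (i j : Fin (k + 3)) :
    QuadraticMap.polar Q (e i) (e j) = 0 := (hyp.2.2 i j).1

theorem af13_pol_ef (hyp : IsHyp Q e f) {i j : Fin (k + 3)} (h : i ≠ j) :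
    QuadraticMap.polar Q (e i) (f j) = 0 := by rw [hyp.2.1, if_neg h]

theorem af13_pol_ef_self (hyp : IsHyp Q e f) (i : Fin (k + 3)) :
    QuadraticMap.polar Q (e i) (f i) = 1 := by rw [hyp.2.1, if_pos rfl]

theorem af13_pol_fe_self (hyp : IsHyp Q e f) (i : Fin (k + 3)) :
    QuadraticMap.polar Q (f i) (e i) = 1 := by rw [polar_fe hyp, if_pos rfl]

theorem af13_pol_fe (hyp : IsHyp Q e f) {i j : Fin (k + 3)} (h : i ≠ j) :
    QuadraticMap.polar Q (f i) (e j) = 0 := by rw [polar_fe hyp, if_neg h]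

theorem af13_Q_add (hyp : IsHyp Q e f) (i : Fin (k + 3)) : Q (e i + f i) = 1 := by
  rw [QuadraticMap.map_add Q, (hyp.1 i).1, (hyp.1 i).2, af13_pol_ef_self hyp]
  simp

/-- **the centraliser of the radical of the point stabiliser.** -/
theorem af13_centralizer_RJ_one (hyp : IsHyp Q e f) (hQ : Nondeg Q) {g : ↥(Isom Q)}
    (hg : ∀ s ∈ RJ Q e f 1, s ∈ SG Q → g * s = s * g) :
    g ∈ RJ Q e f 1 ∨ negI Q * g ∈ RJ Q e f 1 := by
  have h02 : (0 : Fin (k + 3)) ≠ 2 := af13_ne (by rw [af13_v0, af13_v2]; omega)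
  have hu : Q (e 0) = 0 := (hyp.1 0).1
  -- the Siegel transformations at `e 0`
  have hcomm : ∀ w, QuadraticMap.polar Q (e 0) w = 0 →
      g * siegG Q (e 0) w = siegG Q (e 0) w * g := by
    intro w hw
    apply hg
    · apply af13_siegG_mem_RJ hyp (i := 0) (by rw [af13_v0]; omega)
      intro l hl
      rw [af13_eq_zero hl]
      exact hw
    · exact siegG_mem_SG Q hu hw
  obtain ⟨c, hc⟩ := af13_smul_mem_span hQ hu (af13_pol_ef_self hyp 0) (hyp.1 2).1 (hyp.1 2).2
    (af13_pol_ef_self hyp 2) (af13_pol_ee hyp 0 2) (af13_pol_ef hyp h02)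
    (hcomm _ (af13_pol_ee hyp 0 2)) (hcomm _ (af13_pol_ef hyp h02))
  have hmod : ∀ w, QuadraticMap.polar Q (e 0) w = 0 → ∃ d : F, c • (g • w) - w = d • e 0 :=
    fun w hw => af13_smul_sub_mem hu (af13_pol_fe_self hyp 0) hw hc (hcomm w hw)
  have hw1 : QuadraticMap.polar Q (e 0) (e 2 + f 2) = 0 := by
    rw [QuadraticMap.polar_add_right, af13_pol_ee hyp, af13_pol_ef hyp h02, add_zero]
  obtain ⟨d1, hd1⟩ := hmod _ hw1
  have hcc : c * c = 1 := af13_sq_eq_one hu hw1 (af13_Q_add hyp 2) hd1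
  have hcases : c = 1 ∨ c = -1 := mul_self_eq_one_iff.mp hcc
  have hE1 : ∀ d : F, d • e 0 ∈ E Q e f 1 := fun d =>
    Submodule.smul_mem _ _ (e_mem_E hyp (by rw [af13_v0]; omega))
  rcases hcases with rfl | rfl
  · left
    refine ⟨fun i hi => ?_, fun w hw => ?_⟩
    · rw [af13_eq_zero hi, hc, one_smul]
    · obtain ⟨d, hd⟩ := hmod w (hw 0 (by rw [af13_v0]; omega))
      rw [one_smul] at hd
      rw [hd]
      exact hE1 d
  · right
    refine ⟨fun i hi => ?_, fun w hw => ?_⟩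
    · rw [af13_eq_zero hi, mul_smul, hc, negI_smul, neg_smul, one_smul, neg_neg]
    · obtain ⟨d, hd⟩ := hmod w (hw 0 (by rw [af13_v0]; omega))
      rw [neg_smul, one_smul] at hd
      rw [mul_smul, negI_smul, hd]
      exact hE1 d

/-- **the centraliser of the radical of the line stabiliser.** -/
theorem af13_centralizer_RJ_two (hyp : IsHyp Q e f) (hQ : Nondeg Q) {g : ↥(Isom Q)}
    (hg : ∀ s ∈ RJ Q e f 2, s ∈ SG Q → g * s = s * g) :
    g ∈ RJ Q e f 2 ∨ negI Q * g ∈ RJ Q e f 2 := by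
  have h01 : (0 : Fin (k + 3)) ≠ 1 := af13_ne (by rw [af13_v0, af13_v1]; omega)
  have h02 : (0 : Fin (k + 3)) ≠ 2 := af13_ne (by rw [af13_v0, af13_v2]; omega)
  have h12 : (1 : Fin (k + 3)) ≠ 2 := af13_ne (by rw [af13_v1, af13_v2]; omega)
  have hu0 : Q (e 0) = 0 := (hyp.1 0).1
  have hu1 : Q (e 1) = 0 := (hyp.1 1).1
  have hperp : ∀ w, QuadraticMap.polar Q (e 0) w = 0 → QuadraticMap.polar Q (e 1) w = 0 →
      ∀ l : Fin (k + 3), (l : ℕ) < 2 → QuadraticMap.polar Q (e l) w = 0 := by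
    intro w h0 h1 l hl
    rcases af13_eq_zero_or_one hl with rfl | rfl
    · exact h0
    · exact h1
  have hcomm0 : ∀ w, QuadraticMap.polar Q (e 0) w = 0 → QuadraticMap.polar Q (e 1) w = 0 →
      g * siegG Q (e 0) w = siegG Q (e 0) w * g := by
    intro w h0 h1
    apply hg
    · exact af13_siegG_mem_RJ hyp (i := 0) (by rw [af13_v0]; omega) (hperp w h0 h1)
    · exact siegG_mem_SG Q hu0 h0
  have hcomm1 : ∀ w, QuadraticMap.polar Q (e 0) w = 0 → QuadraticMap.polar Q (e 1) w = 0 →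
      g * siegG Q (e 1) w = siegG Q (e 1) w * g := by
    intro w h0 h1
    apply hg
    · exact af13_siegG_mem_RJ hyp (i := 1) (by rw [af13_v1]; omega) (hperp w h0 h1)
    · exact siegG_mem_SG Q hu1 h1
  obtain ⟨c, hc⟩ := af13_smul_mem_span hQ hu0 (af13_pol_ef_self hyp 0) (hyp.1 2).1 (hyp.1 2).2
    (af13_pol_ef_self hyp 2) (af13_pol_ee hyp 0 2) (af13_pol_ef hyp h02)
    (hcomm0 _ (af13_pol_ee hyp 0 2) (af13_pol_ee hyp 1 2))
    (hcomm0 _ (af13_pol_ef hyp h02) (af13_pol_ef hyp h12))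
  obtain ⟨c', hc'⟩ := af13_smul_mem_span hQ hu1 (af13_pol_ef_self hyp 1) (hyp.1 2).1 (hyp.1 2).2
    (af13_pol_ef_self hyp 2) (af13_pol_ee hyp 1 2) (af13_pol_ef hyp h12)
    (hcomm1 _ (af13_pol_ee hyp 0 2) (af13_pol_ee hyp 1 2))
    (hcomm1 _ (af13_pol_ef hyp h02) (af13_pol_ef hyp h12))
  have hmod0 : ∀ w, QuadraticMap.polar Q (e 0) w = 0 → QuadraticMap.polar Q (e 1) w = 0 →
      ∃ d : F, c • (g • w) - w = d • e 0 :=
    fun w h0 h1 => af13_smul_sub_mem hu0 (af13_pol_fe_self hyp 0) h0 hc (hcomm0 w h0 h1)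
  have hmod1 : ∀ w, QuadraticMap.polar Q (e 0) w = 0 → QuadraticMap.polar Q (e 1) w = 0 →
      ∃ d : F, c' • (g • w) - w = d • e 1 :=
    fun w h0 h1 => af13_smul_sub_mem hu1 (af13_pol_fe_self hyp 1) h1 hc' (hcomm1 w h0 h1)
  -- `c * c' = 1`
  have hcc' : c * c' = 1 := by
    obtain ⟨d, hd⟩ := hmod0 (e 1) (af13_pol_ee hyp 0 1) (af13_pol_ee hyp 1 1)
    rw [hc'] at hd
    have h1 := congrArg (fun x => QuadraticMap.polar Q (f 1) x) hd
    rw [QuadraticMap.polar_sub_right, QuadraticMap.polar_smul_right, QuadraticMap.polar_smul_right,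
      QuadraticMap.polar_smul_right, af13_pol_fe_self hyp, af13_pol_fe hyp h01.symm] at h1
    simp only [smul_eq_mul, mul_one, mul_zero] at h1
    exact sub_eq_zero.mp h1
  -- `c = c'`
  have hceq : c = c' := by
    obtain ⟨d, hd⟩ := hmod0 (e 2) (af13_pol_ee hyp 0 2) (af13_pol_ee hyp 1 2)
    obtain ⟨d', hd'⟩ := hmod1 (e 2) (af13_pol_ee hyp 0 2) (af13_pol_ee hyp 1 2)
    have h1 := congrArg (fun x => QuadraticMap.polar Q (f 2) x) hd
    have h2 := congrArg (fun x => QuadraticMap.polar Q (f 2) x) hd'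
    rw [QuadraticMap.polar_sub_right, QuadraticMap.polar_smul_right, QuadraticMap.polar_smul_right,
      af13_pol_fe_self hyp, af13_pol_fe hyp h02.symm] at h1
    rw [QuadraticMap.polar_sub_right, QuadraticMap.polar_smul_right, QuadraticMap.polar_smul_right,
      af13_pol_fe_self hyp, af13_pol_fe hyp h12.symm] at h2
    simp only [smul_eq_mul, mul_zero] at h1 h2
    set t := QuadraticMap.polar Q (f 2) (g • e 2) with ht
    have e1 : c * t = 1 := sub_eq_zero.mp h1
    have e2 : c' * t = 1 := sub_eq_zero.mp h2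
    calc c = c * (c' * t) := by rw [e2, mul_one]
      _ = c' * (c * t) := by ring
      _ = c' := by rw [e1, mul_one]
  have hcc : c * c = 1 := by
    rw [← hceq] at hcc'
    exact hcc'
  have hfixw : ∀ w, QuadraticMap.polar Q (e 0) w = 0 → QuadraticMap.polar Q (e 1) w = 0 →
      c • (g • w) = w := by
    intro w h0 h1
    obtain ⟨d, hd⟩ := hmod0 w h0 h1
    obtain ⟨d', hd'⟩ := hmod1 w h0 h1
    rw [← hceq, hd] at hd'
    have h3 := congrArg (fun x => QuadraticMap.polar Q (f 0) x) hd'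
    rw [QuadraticMap.polar_smul_right, QuadraticMap.polar_smul_right, af13_pol_fe_self hyp,
      af13_pol_fe hyp h01] at h3
    simp only [smul_eq_mul, mul_one, mul_zero] at h3
    rw [h3, zero_smul] at hd
    exact sub_eq_zero.mp hd
  have hcases : c = 1 ∨ c = -1 := mul_self_eq_one_iff.mp hcc
  rcases hcases with rfl | rfl
  · left
    refine ⟨fun i hi => ?_, fun w hw => ?_⟩
    · rcases af13_eq_zero_or_one hi with rfl | rfl
      · rw [hc, one_smul]
      · rw [hc', ← hceq, one_smul]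
    · have := hfixw w (hw 0 (by rw [af13_v0]; omega)) (hw 1 (by rw [af13_v1]; omega))
      rw [one_smul] at this
      rw [this, sub_self]
      exact Submodule.zero_mem _
  · right
    refine ⟨fun i hi => ?_, fun w hw => ?_⟩
    · rcases af13_eq_zero_or_one hi with rfl | rfl
      · rw [mul_smul, hc, negI_smul, neg_smul, one_smul, neg_neg]
      · rw [mul_smul, hc', ← hceq, negI_smul, neg_smul, one_smul, neg_neg]
    · have := hfixw w (hw 0 (by rw [af13_v0]; omega)) (hw 1 (by rw [af13_v1]; omega))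
      rw [neg_smul, one_smul] at this
      rw [mul_smul, negI_smul, this, sub_self]
      exact Submodule.zero_mem _

end Cfsg.Agent.Helper8.Af13
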