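import Mathlib
import Cfsg.Agent.Helper8.OStN

set_option autoImplicit false

/-!
# The flag stabiliser is the product of its unipotent radical and the diagonal subgroup (helper8)
-/

namespace Cfsg.Agent.Helper8.OSt

open Module Matrix Cfsg.Agent.Helper8.QuadForm Cfsg.Agent.Helper8.WittQuad
  Cfsg.Agent.Helper8.OrthOrder
  Cfsg.Agent.Helper8.Siegel Cfsg.Agent.Helper8.SiegelGroup Cfsg.Agent.Helper8.OGenA
  Cfsg.Agent.Helper8.OGenB

variable {F : Type*} [Field F] {V : Type*} [AddCommGroup V] [Module F V] [FiniteDimensional F V]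
variable {r : ℕ} {Q : QuadraticForm F V} {e f : Fin r → V}

theorem e_ne_zero (hyp : IsHyp Q e f) (i : Fin r) : e i ≠ 0 := fr_ne_zero hyp (Sum.inl i)

theorem f_ne_zero (hyp : IsHyp Q e f) (i : Fin r) : f i ≠ 0 := fr_ne_zero hyp (Sum.inr i)

theorem inv_smul_of_smul_eq {g : ↥(Isom Q)} {x : V} {c : F} (hx : x ≠ 0) (h : g • x = c • x) :
    c ≠ 0 ∧ g⁻¹ • x = c⁻¹ • x := by
  have hc : c ≠ 0 := by
    rintro rfl
    rw [zero_smul] at h
    have h1 : g⁻¹ • g • x = 0 := by rw [h, smul_zero]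
    rw [inv_smul_smul] at h1
    exact hx h1
  refine ⟨hc, ?_⟩
  rw [inv_smul_eq_iff, smul_comm, h, smul_smul, inv_mul_cancel₀ hc, one_smul]

/-- one step of the reduction: making the lines `F e j` and `F f j` fixed. -/
theorem exists_step (hyp : IsHyp Q e f) (i₀ : Fin r) {b : ↥(Isom Q)} (hb : b ∈ BO Q e f)
    (hfix : ∀ i : Fin r, (i : ℕ) < i₀ → (∃ c : F, b • e i = c • e i) ∧ ∃ c : F, b • f i = c • f i) :
    ∃ u, u ∈ UO Q e f ∧ u ∈ SG Q ∧
      ∀ i : Fin r, (i : ℕ) < (i₀ : ℕ) + 1 →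
        (∃ c : F, (u⁻¹ * b) • e i = c • e i) ∧ ∃ c : F, (u⁻¹ * b) • f i = c • f i := by
  have hbi : b⁻¹ ∈ BO Q e f := (BO Q e f).inv_mem hb
  -- the inverse acts by scalars on the fixed lines
  have hinv_e : ∀ i : Fin r, (i : ℕ) < i₀ → ∃ c : F, b⁻¹ • e i = c • e i := by
    intro i hi
    obtain ⟨c, hc⟩ := (hfix i hi).1
    exact ⟨c⁻¹, (inv_smul_of_smul_eq (e_ne_zero hyp i) hc).2⟩
  have hinv_f : ∀ i : Fin r, (i : ℕ) < i₀ → ∃ c : F, b⁻¹ • f i = c • f i := by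
    intro i hi
    obtain ⟨c, hc⟩ := (hfix i hi).2
    exact ⟨c⁻¹, (inv_smul_of_smul_eq (f_ne_zero hyp i) hc).2⟩
  have hne : ∀ i : Fin r, (i : ℕ) < i₀ → i ≠ i₀ := fun i hi h => by
    rw [h] at hi
    exact lt_irrefl _ hi
  -- the line `F e i₀` is already fixed
  obtain ⟨a, ha⟩ : ∃ a, a = QuadraticMap.polar Q (f i₀) (b • e i₀) := ⟨_, rfl⟩
  have ha0 : a ≠ 0 := by
    rw [ha]
    exact diag_ne_zero hyp hb i₀
  have hbe : b • e i₀ = a • e i₀ := by
    have h1 := smul_e_mem hyp hb i₀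
    have h2 : co Q f (b • e i₀) = Pi.single i₀ a := by
      funext l
      rw [co_apply, Pi.single_apply]
      by_cases hl : l = i₀
      · rw [if_pos hl, hl, ha]
      · rw [if_neg hl]
        rcases lt_or_gt_of_ne (fun h => hl (Fin.ext h)) with hlt | hgt
        · obtain ⟨c, hc⟩ := hinv_f l hlt
          rw [polar_smul_right', hc, QuadraticMap.polar_smul_left, polar_fe hyp, if_neg hl,
            smul_zero]
        · exact h1.2 l (Nat.succ_le_of_lt hgt)
    conv_lhs => rw [← h1.1, h2, lc_single]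
  -- the image of `f i₀`
  obtain ⟨v, hv⟩ : ∃ v, v = b • f i₀ := ⟨_, rfl⟩
  obtain ⟨β, hβ⟩ : ∃ β, β = QuadraticMap.polar Q (e i₀) v := ⟨_, rfl⟩
  obtain ⟨α, hα⟩ : ∃ α, α = QuadraticMap.polar Q (f i₀) v := ⟨_, rfl⟩
  have haβ : a * β = 1 := by
    have h1 := polar_smul_smul b (e i₀) (f i₀)
    rw [hbe, ← hv, QuadraticMap.polar_smul_left, ← hβ, hyp.2.1, if_pos rfl, smul_eq_mul] at h1
    exact h1
  have hβ0 : β ≠ 0 := right_ne_zero_of_mul_eq_one haβ
  obtain ⟨z, hz⟩ : ∃ z, z = v - β • f i₀ - α • e i₀ := ⟨_, rfl⟩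
  have hze : ∀ l : Fin r, (l : ℕ) ≤ i₀ → QuadraticMap.polar Q (e l) z = 0 := by
    intro l hl
    rw [hz, QuadraticMap.polar_sub_right, QuadraticMap.polar_sub_right,
      QuadraticMap.polar_smul_right, QuadraticMap.polar_smul_right, (hyp.2.2 l i₀).1, hyp.2.1]
    rcases Nat.eq_or_lt_of_le hl with h | h
    · have : l = i₀ := Fin.ext h
      rw [this, if_pos rfl, ← hβ]
      simp
    · rw [if_neg (hne l h)]
      obtain ⟨c, hc⟩ := hinv_e l h
      rw [hv, polar_smul_right', hc, QuadraticMap.polar_smul_left, hyp.2.1, if_neg (hne l h)]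
      simp
  have hzf : ∀ l : Fin r, (l : ℕ) ≤ i₀ → QuadraticMap.polar Q (f l) z = 0 := by
    intro l hl
    rw [hz, QuadraticMap.polar_sub_right, QuadraticMap.polar_sub_right,
      QuadraticMap.polar_smul_right, QuadraticMap.polar_smul_right, (hyp.2.2 l i₀).2,
      polar_fe hyp]
    rcases Nat.eq_or_lt_of_le hl with h | h
    · have : l = i₀ := Fin.ext h
      rw [this, if_pos rfl, ← hα]
      simp
    · rw [if_neg (hne l h)]
      obtain ⟨c, hc⟩ := hinv_f l h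
      rw [hv, polar_smul_right', hc, QuadraticMap.polar_smul_left, (hyp.2.2 l i₀).2]
      simp
  have hvdec : v = z + β • f i₀ + α • e i₀ := by rw [hz]; abel
  have hQz : Q z = -(α * β) := by
    have h1 : Q v = 0 := by rw [hv, Q_smul, (hyp.1 i₀).2]
    have hz1 : QuadraticMap.polar Q z (f i₀) = 0 := by
      rw [QuadraticMap.polar_comm]; exact hzf i₀ (le_refl _)
    have hz2 : QuadraticMap.polar Q z (e i₀) = 0 := by
      rw [QuadraticMap.polar_comm]; exact hze i₀ (le_refl _)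
    have h2 : Q (z + β • f i₀ + α • e i₀) = Q z + α * β := by
      simp only [QuadraticMap.map_add Q, QuadraticMap.map_smul, QuadraticMap.polar_add_left,
        QuadraticMap.polar_smul_left, QuadraticMap.polar_smul_right, hz1, hz2, (hyp.1 i₀).1,
        (hyp.1 i₀).2, polar_fe hyp, if_true, smul_eq_mul]
      ring
    rw [hvdec, h2] at h1
    linear_combination h1
  obtain ⟨w, hw⟩ : ∃ w, w = (-β⁻¹) • z := ⟨_, rfl⟩
  have hwZ : ∀ l : Fin r, (l : ℕ) ≤ i₀ → QuadraticMap.polar Q (e l) w = 0 ∧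
      QuadraticMap.polar Q (f l) w = 0 := by
    intro l hl
    rw [hw, QuadraticMap.polar_smul_right, QuadraticMap.polar_smul_right, hze l hl, hzf l hl,
      smul_zero]
    exact ⟨rfl, rfl⟩
  have hu0 : Q (e i₀) = 0 := (hyp.1 i₀).1
  have hu0w : QuadraticMap.polar Q (e i₀) w = 0 := (hwZ i₀ (le_refl _)).1
  obtain ⟨u₀, hu₀⟩ : ∃ u₀, u₀ = siegG Q (e i₀) w := ⟨_, rfl⟩
  have hu₀U : u₀ ∈ UO Q e f := by rw [hu₀]; exact siegG_mem_UO hyp i₀ hwZ
  have hu₀S : u₀ ∈ SG Q := by rw [hu₀]; exact siegG_mem_SG Q hu0 hu0w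
  -- `u₀` maps `β f i₀` to `v`
  have hu₀f : u₀ • (β • f i₀) = v := by
    rw [smul_comm, hu₀, siegG_smul Q hu0 hu0w, (hwZ i₀ (le_refl _)).2, polar_fe hyp, if_pos rfl,
      hvdec, hw, QuadraticMap.map_smul, hQz]
    match_scalars
    all_goals (try simp only [smul_eq_mul])
    all_goals field_simp
    all_goals ring
  have hfixu : ∀ x : V, QuadraticMap.polar Q x (e i₀) = 0 → QuadraticMap.polar Q x w = 0 →
      u₀⁻¹ • x = x := by
    intro x h1 h2
    rw [inv_smul_eq_iff, hu₀, siegG_smul_fix Q h1 h2]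
  refine ⟨u₀, hu₀U, hu₀S, fun i hi => ?_⟩
  rcases Nat.eq_or_lt_of_le (Nat.lt_succ_iff.mp hi) with h | h
  · have hi0 : i = i₀ := Fin.ext h
    rw [hi0]
    constructor
    · refine ⟨a, ?_⟩
      rw [mul_smul, hbe, smul_comm, hfixu _ (hyp.2.2 _ _).1 hu0w]
    · refine ⟨β, ?_⟩
      rw [mul_smul, ← hv, ← hu₀f, inv_smul_smul]
  · constructor
    · obtain ⟨c, hc⟩ := (hfix i h).1
      refine ⟨c, ?_⟩
      rw [mul_smul, hc, smul_comm, hfixu _ (hyp.2.2 _ _).1 (hwZ i (le_of_lt h)).1]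
    · obtain ⟨c, hc⟩ := (hfix i h).2
      refine ⟨c, ?_⟩
      rw [mul_smul, hc, smul_comm, hfixu _ (by rw [polar_fe hyp, if_neg (hne i h)])
        (hwZ i (le_of_lt h)).2]

/-- **the flag stabiliser is the product of the unipotent radical and the diagonal subgroup.** -/
theorem exists_UO_mul_TO (hyp : IsHyp Q e f) {b : ↥(Isom Q)} (hb : b ∈ BO Q e f) :
    ∃ u, u ∈ UO Q e f ∧ u ∈ SG Q ∧ Pat Q e f 1 (u⁻¹ * b) := by
  have key : ∀ d j : ℕ, j + d = r → ∀ b : ↥(Isom Q), b ∈ BO Q e f →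
      (∀ i : Fin r, (i : ℕ) < j → (∃ c : F, b • e i = c • e i) ∧ ∃ c : F, b • f i = c • f i) →
      ∃ u, u ∈ UO Q e f ∧ u ∈ SG Q ∧ Pat Q e f 1 (u⁻¹ * b) := by
    intro d
    induction d with
    | zero =>
      intro j hj b _ hfix
      refine ⟨1, Subgroup.one_mem _, Subgroup.one_mem _, ?_⟩
      rw [inv_one, one_mul]
      intro a
      rw [Equiv.Perm.one_apply]
      rcases a with i | i
      · exact (hfix i (by have := i.2; omega)).1
      · exact (hfix i (by have := i.2; omega)).2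
    | succ d ih =>
      intro j hj b hb hfix
      obtain ⟨u₀, hu₀U, hu₀S, hstep⟩ := exists_step hyp (⟨j, by omega⟩ : Fin r) hb hfix
      have hb' : u₀⁻¹ * b ∈ BO Q e f :=
        (BO Q e f).mul_mem ((BO Q e f).inv_mem (UO_le_BO hu₀U)) hb
      obtain ⟨u', hu'U, hu'S, hp⟩ := ih (j + 1) (by omega) (u₀⁻¹ * b) hb' hstep
      refine ⟨u₀ * u', Subgroup.mul_mem _ hu₀U hu'U, Subgroup.mul_mem _ hu₀S hu'S, ?_⟩
      rw [_root_.mul_inv_rev, mul_assoc]
      exact hp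
  exact key r 0 (zero_add r) b hb (fun i hi => absurd hi (Nat.not_lt_zero _))

end Cfsg.Agent.Helper8.OSt
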