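import Mathlib
import Cfsg.Agent.Helper8.OStO

set_option autoImplicit false

/-!
# The unipotent radical is a `p`-group (helper8)
-/

namespace Cfsg.Agent.Helper8.OSt

open Module Cfsg.Agent.Helper8.QuadForm Cfsg.Agent.Helper8.WittQuad
  Cfsg.Agent.Helper8.OrthOrder
  Cfsg.Agent.Helper8.Siegel Cfsg.Agent.Helper8.SiegelGroup Cfsg.Agent.Helper8.OGenA
  Cfsg.Agent.Helper8.OGenB

variable {F : Type*} [Field F] {V : Type*} [AddCommGroup V] [Module F V] [FiniteDimensional F V]
variable {r : ℕ} {Q : QuadraticForm F V} {e f : Fin r → V}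

/-- the nilpotent part of an isometry, as an endomorphism. -/
noncomputable def nil (g : ↥(Isom Q)) : Module.End F V :=
  ((g : V ≃ₗ[F] V) : V →ₗ[F] V) - 1

theorem nil_apply (g : ↥(Isom Q)) (v : V) : nil g v = g • v - v := rfl

theorem nil_pow_succ (g : ↥(Isom Q)) (n : ℕ) (v : V) :
    (nil g ^ (n + 1)) v = g • ((nil g ^ n) v) - (nil g ^ n) v := by
  rw [pow_succ', Module.End.mul_apply, nil_apply]

section unip

variable (hyp : IsHyp Q e f) {g : ↥(Isom Q)} (hg : g ∈ UO Q e f)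
include hyp hg

theorem polar_nil_pow (j : ℕ) (v : V) :
    ∀ u ∈ E Q e f j, QuadraticMap.polar Q u ((nil g ^ j) v) = 0 := by
  have hgi : g⁻¹ ∈ UO Q e f := (UO Q e f).inv_mem hg
  induction j with
  | zero =>
    intro u hu
    rw [eq_zero_of_mem_E_zero hu, QuadraticMap.polar_zero_left]
  | succ j ih =>
    intro u hu
    rw [nil_pow_succ, QuadraticMap.polar_sub_right, polar_smul_right', ← QuadraticMap.polar_sub_left]
    exact ih _ (hgi.2.1 j u hu)

theorem nil_pow_mem_top (v : V) : (nil g ^ (r + 1)) v ∈ E Q e f r := by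
  obtain ⟨x, hx⟩ : ∃ x, x = (nil g ^ r) v := ⟨_, rfl⟩
  have h1 : ∀ u ∈ E Q e f r, QuadraticMap.polar Q u x = 0 := by
    rw [hx]
    exact polar_nil_pow hyp hg r v
  have hco : co Q e x = 0 := by
    funext i
    rw [co_apply, Pi.zero_apply]
    exact h1 _ (e_mem_E hyp i.2)
  have hdec := decomp_eq (Q := Q) (e := e) (f := f) x
  rw [hco, map_zero, add_zero] at hdec
  have hy : lc e (co Q f x) ∈ E Q e f r :=
    lc_mem_E hyp (fun i hi => absurd i.2 (not_lt.mpr hi))
  rw [nil_pow_succ, ← hx]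
  have e1 : g • x - x = (g • lc e (co Q f x) - lc e (co Q f x))
      + (g • pi0 Q e f x - pi0 Q e f x) := by
    conv_lhs => rw [hdec]
    rw [smul_add]
    abel
  rw [e1]
  exact Submodule.add_mem _ (Submodule.sub_mem _ (hg.1 _ _ hy) hy) (hg.2.2 _ (pi0_mem_W0 hyp x))

theorem nil_pow_mem (j : ℕ) (hj : j ≤ r) (v : V) :
    (nil g ^ (r + 1 + j)) v ∈ E Q e f (r - j) := by
  induction j with
  | zero => exact nil_pow_mem_top hyp hg v
  | succ j ih =>
    have h1 := ih (by omega)
    have e1 : r - j = (r - (j + 1)) + 1 := by omega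
    rw [e1] at h1
    rw [← add_assoc, nil_pow_succ]
    exact hg.2.1 _ _ h1

theorem nil_pow_eq_zero : nil g ^ (2 * r + 1) = 0 := by
  apply LinearMap.ext
  intro v
  have h1 := nil_pow_mem hyp hg r (le_refl _) v
  rw [Nat.sub_self] at h1
  have e1 : r + 1 + r = 2 * r + 1 := by omega
  rw [e1] at h1
  rw [eq_zero_of_mem_E_zero h1]
  rfl

end unip

theorem smul_pow_eq (g : ↥(Isom Q)) (n : ℕ) (v : V) :
    (g ^ n) • v = ((((g : V ≃ₗ[F] V) : V →ₗ[F] V) : Module.End F V) ^ n) v := by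
  induction n generalizing v with
  | zero => rw [pow_zero, pow_zero, one_smul]; rfl
  | succ n ih =>
    rw [pow_succ', pow_succ', mul_smul, ih, Module.End.mul_apply]
    rfl

/-- **the unipotent radical is a `p`-group.** -/
theorem isPGroup_UO (hyp : IsHyp Q e f) [Nontrivial V] (p : ℕ) [hp : Fact p.Prime] [CharP F p] :
    IsPGroup p ↥(UO Q e f) := by
  haveI : CharP (Module.End F V) p :=
    charP_of_injective_algebraMap (algebraMap F (Module.End F V)).injective p
  intro g
  refine ⟨2 * r + 1, ?_⟩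
  apply Subtype.ext
  rw [Subgroup.coe_pow, Subgroup.coe_one]
  have h0 := nil_pow_eq_zero hyp g.2
  have hle : 2 * r + 1 ≤ p ^ (2 * r + 1) := le_of_lt (Nat.lt_pow_self hp.out.one_lt)
  have h1 : nil (g : ↥(Isom Q)) ^ p ^ (2 * r + 1) = 0 := by
    rw [← Nat.sub_add_cancel hle, pow_add, h0, mul_zero]
  unfold nil at h1
  rw [sub_pow_char_pow_of_commute p (2 * r + 1) (Commute.one_right _), one_pow, sub_eq_zero] at h1
  apply Subtype.ext
  apply LinearEquiv.ext
  intro v
  change ((g : ↥(Isom Q)) ^ p ^ (2 * r + 1)) • v = v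
  rw [smul_pow_eq, h1]
  rfl

end Cfsg.Agent.Helper8.OSt
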