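import Mathlib
import Cfsg.Agent.Helper8.Af13C
import Cfsg.Agent.Helper8.OStP
import Cfsg.Agent.Helper8.SiegelSimple
import Cfsg.Agent.LT3.Quot

set_option autoImplicit false

/-!
# Automorphisms of `PΩ(Q)` fixing a Sylow `p`-subgroup pointwise (helper8)

For a quadratic space with a hyperbolic frame of at least three pairs, the radicals `RJ 1`, `RJ 2` of
the point and line stabilisers lie in the unipotent radical `UO`, have their centralisers in
`± UO`, and their normalisers generate the Siegel group.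
-/

namespace Cfsg.Agent.Helper8.Af13

open Module Cfsg.Agent.Helper8.QuadForm Cfsg.Agent.Helper8.WittQuad
  Cfsg.Agent.Helper8.OrthOrder
  Cfsg.Agent.Helper8.Siegel Cfsg.Agent.Helper8.SiegelGroup Cfsg.Agent.Helper8.OGenA
  Cfsg.Agent.Helper8.OGenB Cfsg.Agent.Helper8.OSt Cfsg.Agent.Helper8.SiegelPrim
  Cfsg.Agent.Helper8.SiegelSimple

variable {F : Type*} [Field F] {V : Type*} [AddCommGroup V] [Module F V]
variable {k : ℕ} {Q : QuadraticForm F V} {e f : Fin (k + 3) → V}

theorem negI_pow_odd {n : ℕ} (hn : Odd n) : negI Q ^ n = negI Q := by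
  obtain ⟨m, rfl⟩ := hn
  rw [pow_succ, pow_mul, pow_two, negI_mul_self, one_pow, one_mul]

theorem negI_eq_one_of_char_two [CharP F 2] : negI Q = 1 := by
  apply Subtype.ext
  apply LinearEquiv.ext
  intro v
  show -v = v
  have h2 : (2 : F) = 0 := CharTwo.two_eq_zero
  have : v + v = 0 := by rw [← two_smul F v, h2, zero_smul]
  exact neg_eq_of_add_eq_zero_left this

section fd

variable [FiniteDimensional F V]

/-- the radicals as subgroups of the Siegel group. -/
def DJ (Q : QuadraticForm F V) (e f : Fin (k + 3) → V) (j : ℕ) : Subgroup ↥(SG Q) :=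
  (RJ Q e f j).subgroupOf (SG Q)

omit [FiniteDimensional F V] in
theorem mem_DJ {j : ℕ} {g : ↥(SG Q)} : g ∈ DJ Q e f j ↔ (g : ↥(Isom Q)) ∈ RJ Q e f j :=
  Subgroup.mem_subgroupOf

theorem af13_DJ_le (hyp : IsHyp Q e f) {j : ℕ} (hj : j ≤ k + 3) :
    DJ Q e f j ≤ (UO Q e f).subgroupOf (SG Q) := by
  intro g hg
  rw [Subgroup.mem_subgroupOf]
  exact af13_RJ_le_UO hyp hj (mem_DJ.mp hg)

/-- an element of the Siegel group which is `± ` an element of the `p`-group `UO` lies in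
`UO · Z`. -/
theorem af13_mem_sup (hyp : IsHyp Q e f) (p : ℕ) [Fact p.Prime] [CharP F p] {g : ↥(SG Q)}
    (h : (g : ↥(Isom Q)) ∈ UO Q e f ∨ negI Q * (g : ↥(Isom Q)) ∈ UO Q e f) :
    g ∈ (UO Q e f).subgroupOf (SG Q) ⊔ Subgroup.center ↥(SG Q) := by
  have : Nontrivial V := ⟨⟨e 0, 0, e_ne_zero hyp 0⟩⟩
  rcases h with h | h
  · exact Subgroup.mem_sup_left (Subgroup.mem_subgroupOf.mpr h)
  · -- `-1` lies in the Siegel group
    have hneg : negI Q ∈ SG Q := by
      by_cases hp2 : p = 2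
      · subst hp2
        rw [negI_eq_one_of_char_two]
        exact Subgroup.one_mem _
      · obtain ⟨n, hn⟩ := isPGroup_UO hyp p ⟨negI Q * (g : ↥(Isom Q)), h⟩
        have hn' : (negI Q * (g : ↥(Isom Q))) ^ p ^ n = 1 := by
          have := congrArg Subtype.val hn
          rwa [Subgroup.coe_pow, Subgroup.coe_one] at this
        have hodd : Odd (p ^ n) :=
          Odd.pow ((Fact.out : p.Prime).odd_of_ne_two hp2)
        rw [(show Commute (negI Q) (g : ↥(Isom Q)) from negI_mul_comm _).mul_pow,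
          negI_pow_odd hodd] at hn'
        have e1 : negI Q = ((g : ↥(Isom Q)) ^ p ^ n)⁻¹ := eq_inv_of_mul_eq_one_left hn'
        rw [e1]
        exact Subgroup.inv_mem _ (Subgroup.pow_mem _ g.2 _)
    have hz : (⟨negI Q, hneg⟩ : ↥(SG Q)) ∈ Subgroup.center ↥(SG Q) := by
      rw [Subgroup.mem_center_iff]
      intro x
      apply Subtype.ext
      exact (negI_mul_comm (x : ↥(Isom Q))).symm
    have hu : (⟨negI Q, hneg⟩ * g : ↥(SG Q)) ∈ (UO Q e f).subgroupOf (SG Q) :=
      Subgroup.mem_subgroupOf.mpr h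
    have e2 : g = (⟨negI Q, hneg⟩ * g : ↥(SG Q)) * ⟨negI Q, hneg⟩ := by
      apply Subtype.ext
      show (g : ↥(Isom Q)) = negI Q * (g : ↥(Isom Q)) * negI Q
      rw [negI_mul_comm, mul_assoc, negI_mul_self, mul_one]
    rw [e2]
    exact Subgroup.mul_mem_sup hu hz

/-- **the centralisers of the two radicals.** -/
theorem af13_centralizer_DJ (hyp : IsHyp Q e f) (hQ : Nondeg Q) (p : ℕ) [Fact p.Prime] [CharP F p]
    {j : ℕ} (hj : j = 1 ∨ j = 2) :
    Subgroup.centralizer (DJ Q e f j : Set ↥(SG Q)) ≤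
      (UO Q e f).subgroupOf (SG Q) ⊔ Subgroup.center ↥(SG Q) := by
  intro g hg
  have hcomm : ∀ s ∈ RJ Q e f j, s ∈ SG Q → (g : ↥(Isom Q)) * s = s * (g : ↥(Isom Q)) := by
    intro s hs hsG
    have h1 := hg ⟨s, hsG⟩ (mem_DJ.mpr hs)
    have h2 := congrArg Subtype.val h1
    exact h2.symm
  apply af13_mem_sup hyp p
  rcases hj with rfl | rfl
  · rcases af13_centralizer_RJ_one hyp hQ hcomm with h | h
    · exact Or.inl (af13_RJ_le_UO hyp (by omega) h)
    · exact Or.inr (af13_RJ_le_UO hyp (by omega) h)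
  · rcases af13_centralizer_RJ_two hyp hQ hcomm with h | h
    · exact Or.inl (af13_RJ_le_UO hyp (by omega) h)
    · exact Or.inr (af13_RJ_le_UO hyp (by omega) h)

/-- the stabiliser of `E j` in the Siegel group normalises `DJ j`. -/
theorem af13_mem_normalizer_DJ (hyp : IsHyp Q e f) {j : ℕ} {g : ↥(SG Q)}
    (hg : (g : ↥(Isom Q)) ∈ StabJ Q e f j) :
    g ∈ Subgroup.normalizer (DJ Q e f j : Set ↥(SG Q)) := by
  rw [Subgroup.mem_normalizer_iff]
  intro h
  constructor
  · intro hh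
    rw [mem_DJ] at hh ⊢
    exact af13_conj_mem_RJ hyp hg hh
  · intro hh
    rw [mem_DJ] at hh ⊢
    have h1 := af13_conj_mem_RJ hyp ((StabJ Q e f j).inv_mem hg) hh
    have e1 : (g : ↥(Isom Q))⁻¹ * ((g * h * g⁻¹ : ↥(SG Q)) : ↥(Isom Q)) * (g : ↥(Isom Q))⁻¹⁻¹
        = (h : ↥(Isom Q)) := by
      rw [Subgroup.coe_mul, Subgroup.coe_mul, Subgroup.coe_inv]
      group
    rw [e1] at h1
    exact h1

/-- membership in the stabiliser of `E j` can be checked on the `e i`. -/
theorem af13_mem_StabJ {j : ℕ} {g : ↥(Isom Q)}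
    (h : ∀ i : Fin (k + 3), (i : ℕ) < j → g • e i ∈ E Q e f j) : g ∈ StabJ Q e f j :=
  fun _ hv => smul_mem_of_mem_E g _ h hv

/-- **the normalisers of the two radicals generate the Siegel group.** -/
theorem af13_normalizer_sup [Finite F] (hyp : IsHyp Q e f) (hQ : Nondeg Q)
    (h5 : 5 ≤ finrank F V) :
    Subgroup.normalizer (DJ Q e f 1 : Set ↥(SG Q)) ⊔
      Subgroup.normalizer (DJ Q e f 2 : Set ↥(SG Q)) = ⊤ := by
  have h01 : (0 : Fin (k + 3)) ≠ 1 := af13_ne (by rw [af13_v0, af13_v1]; omega)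
  have he0 : e 0 ≠ 0 := e_ne_zero hyp 0
  have hQe0 : Q (e 0) = 0 := (hyp.1 0).1
  set x0 : SPt Q := mkPt Q (e 0) he0 hQe0 with hx0
  have := isPreprimitive Q hQ h5
  -- the space of singular points is nontrivial
  have he1 : e 1 ≠ 0 := e_ne_zero hyp 1
  have hne : mkPt Q (e 1) he1 (hyp.1 1).1 ≠ x0 := by
    intro h
    rw [hx0, mkPt_eq_iff] at h
    obtain ⟨t, _, ht⟩ := h
    have h1 := congrArg (QuadraticMap.polar Q (f 0)) ht
    rw [af13_pol_fe_self hyp, QuadraticMap.polar_smul_right, af13_pol_fe hyp h01, smul_zero] at h1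
    exact one_ne_zero h1
  have : Nontrivial (SPt Q) := ⟨⟨_, _, hne⟩⟩
  have hco : IsCoatom (MulAction.stabilizer ↥(SG Q) x0) :=
    MulAction.IsPreprimitive.isCoatom_stabilizer_of_isPreprimitive (G := ↥(SG Q)) x0
  have hE1 : ∀ d : F, d • e 0 ∈ E Q e f 1 := fun d =>
    Submodule.smul_mem _ _ (e_mem_E hyp (by rw [af13_v0]; omega))
  -- the point stabiliser normalises the first radical
  have hP1 : MulAction.stabilizer ↥(SG Q) x0 ≤
      Subgroup.normalizer (DJ Q e f 1 : Set ↥(SG Q)) := by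
    intro g hg
    apply af13_mem_normalizer_DJ hyp
    apply af13_mem_StabJ
    intro i hi
    rw [af13_eq_zero hi]
    have h1 : g • x0 = x0 := hg
    rw [Cfsg.Agent.Helper8.SiegelSimple.smul_def', hx0, smul_mkPt, mkPt_eq_iff] at h1
    obtain ⟨t, ht0, ht⟩ := h1
    have h2 : (g : ↥(Isom Q)) • e 0 = t⁻¹ • e 0 := by
      show ((g : ↥(Isom Q)) : V ≃ₗ[F] V) (e 0) = t⁻¹ • e 0
      rw [eq_inv_smul_iff₀ ht0]
      exact ht.symm
    rw [h2]
    exact hE1 _
  -- a Siegel transformation stabilising the line and moving the point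
  have hQe1 : Q (e 1) = 0 := (hyp.1 1).1
  have h10 : QuadraticMap.polar Q (e 1) (f 0) = 0 := af13_pol_ef hyp h01.symm
  set s : ↥(SG Q) := ⟨siegG Q (e 1) (f 0), siegG_mem_SG Q hQe1 h10⟩ with hs
  have hse0 : siegG Q (e 1) (f 0) • e 0 = e 0 + e 1 := by
    rw [siegG_smul Q hQe1 h10, af13_pol_ef_self hyp, af13_pol_ee hyp]
    simp
  have hse1 : siegG Q (e 1) (f 0) • e 1 = e 1 := siegE_self Q (e 1) (f 0)
  have hE2 : ∀ i : Fin (k + 3), (i : ℕ) < 2 → e i ∈ E Q e f 2 := fun i hi => e_mem_E hyp hi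
  have hs2 : s ∈ Subgroup.normalizer (DJ Q e f 2 : Set ↥(SG Q)) := by
    apply af13_mem_normalizer_DJ hyp
    apply af13_mem_StabJ
    intro i hi
    rcases af13_eq_zero_or_one hi with rfl | rfl
    · show siegG Q (e 1) (f 0) • e 0 ∈ E Q e f 2
      rw [hse0]
      exact Submodule.add_mem _ (hE2 0 (by rw [af13_v0]; omega)) (hE2 1 (by rw [af13_v1]; omega))
    · show siegG Q (e 1) (f 0) • e 1 ∈ E Q e f 2
      rw [hse1]
      exact hE2 1 (by rw [af13_v1]; omega)
  have hs1 : s ∉ MulAction.stabilizer ↥(SG Q) x0 := by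
    intro hmem
    have h1 : s • x0 = x0 := hmem
    rw [Cfsg.Agent.Helper8.SiegelSimple.smul_def', hx0, smul_mkPt, mkPt_eq_iff] at h1
    obtain ⟨t, ht0, ht⟩ := h1
    have h2 : e 0 = t • (e 0 + e 1) := by
      rw [← hse0]
      exact ht
    have h3 := congrArg (QuadraticMap.polar Q (f 1)) h2
    rw [af13_pol_fe hyp h01.symm, QuadraticMap.polar_smul_right, QuadraticMap.polar_add_right,
      af13_pol_fe hyp h01.symm, af13_pol_fe_self hyp, zero_add, smul_eq_mul, mul_one] at h3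
    exact ht0 h3.symm
  set N : Subgroup ↥(SG Q) := Subgroup.normalizer (DJ Q e f 1 : Set ↥(SG Q)) ⊔
      Subgroup.normalizer (DJ Q e f 2 : Set ↥(SG Q)) with hN
  have hle : MulAction.stabilizer ↥(SG Q) x0 ≤ N := le_trans hP1 le_sup_left
  have hsN : s ∈ N := Subgroup.mem_sup_right hs2
  have hlt : MulAction.stabilizer ↥(SG Q) x0 < N :=
    lt_of_le_not_ge hle (fun h => hs1 (h hsN))
  exact hco.2 N hlt

end fd

end Cfsg.Agent.Helper8.Af13
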