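import Mathlib
import Cfsg.Agent.Helper8.Af13D
import Cfsg.Agent.Helper8.OmegaSimple

set_option autoImplicit false

/-!
# Automorphisms of `PΩ(Q)` fixing a Sylow `p`-subgroup pointwise: the general statement (helper8)
-/

namespace Cfsg.Agent.Helper8.Af13

open Module Cfsg.Agent.Helper8.QuadForm Cfsg.Agent.Helper8.WittQuad
  Cfsg.Agent.Helper8.OrthOrder
  Cfsg.Agent.Helper8.Siegel Cfsg.Agent.Helper8.SiegelGroup Cfsg.Agent.Helper8.OGenA
  Cfsg.Agent.Helper8.OGenB Cfsg.Agent.Helper8.OSt Cfsg.Agent.Helper8.SiegelPrim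
  Cfsg.Agent.Helper8.SiegelSimple Cfsg.Agent.LT3

section central

variable {F : Type*} [Field F] {V : Type*} [AddCommGroup V] [Module F V]
variable {k : ℕ} {Q : QuadraticForm F V} {e f : Fin (k + 3) → V}

/-- an isometry commuting with the Siegel transformations and fixing `e 0` is trivial. -/
theorem af13_eq_one_of_commute (hyp : IsHyp Q e f) {z : ↥(Isom Q)}
    (hz : ∀ u w : V, Q u = 0 → QuadraticMap.polar Q u w = 0 →
      z * siegG Q u w = siegG Q u w * z) (h0 : z • e 0 = e 0) : z = 1 := by
  have h01 : (0 : Fin (k + 3)) ≠ 1 := af13_ne (by rw [af13_v0, af13_v1]; omega)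
  -- transport of fixed vectors
  have htr : ∀ (u w x : V), Q u = 0 → QuadraticMap.polar Q u w = 0 → z • x = x →
      z • (siegG Q u w • x) = siegG Q u w • x := by
    intro u w x hu huw hx
    rw [← mul_smul, hz u w hu huw, mul_smul, hx]
  have he : ∀ i : Fin (k + 3), z • e i = e i := by
    intro i
    by_cases hi : i = 0
    · rw [hi]
      exact h0
    · have hu : Q (e i) = 0 := (hyp.1 i).1
      have huw : QuadraticMap.polar Q (e i) (f 0) = 0 := af13_pol_ef hyp hi
      have h1 := htr (e i) (f 0) (e 0) hu huw h0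
      rw [siegG_smul Q hu huw, af13_pol_ef_self hyp, af13_pol_ee hyp] at h1
      simp only [one_smul, zero_smul, mul_zero, sub_zero] at h1
      rw [smul_add, h0] at h1
      exact add_left_cancel h1
  have hf' : ∀ i : Fin (k + 3), i ≠ 0 → z • f i = f i := by
    intro i hi
    have hu : Q (f i) = 0 := (hyp.1 i).2
    have huw : QuadraticMap.polar Q (f i) (f 0) = 0 := (hyp.2.2 i 0).2
    have h1 := htr (f i) (f 0) (e 0) hu huw h0
    have h2 : QuadraticMap.polar Q (e 0) (f i) = 0 := af13_pol_ef hyp (Ne.symm hi)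
    rw [siegG_smul Q hu huw, af13_pol_ef_self hyp, h2] at h1
    simp only [one_smul, zero_smul, mul_zero, sub_zero] at h1
    rw [smul_add, h0] at h1
    exact add_left_cancel h1
  have hf1 : z • f 1 = f 1 := hf' 1 h01.symm
  have hf0 : z • f 0 = f 0 := by
    have hu : Q (f 0) = 0 := (hyp.1 0).2
    have huw : QuadraticMap.polar Q (f 0) (e 1) = 0 := af13_pol_fe hyp h01
    have h1 := htr (f 0) (e 1) (f 1) hu huw hf1
    rw [siegG_smul Q hu huw, af13_pol_fe_self hyp, (hyp.2.2 1 0).2] at h1
    simp only [one_smul, zero_smul, mul_zero, sub_zero] at h1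
    rw [smul_add, hf1] at h1
    exact add_left_cancel h1
  have hf : ∀ i : Fin (k + 3), z • f i = f i := by
    intro i
    by_cases hi : i = 0
    · rw [hi]
      exact hf0
    · exact hf' i hi
  apply eq_one_of_fix _ _ hyp
  · rintro (i | i)
    · exact he i
    · exact hf i
  · intro w hw
    have hu : Q (e 1) = 0 := (hyp.1 1).1
    have huw : QuadraticMap.polar Q (e 1) w = 0 := polar_e_W0 hw 1
    have h1 := htr (e 1) w (f 1) hu huw hf1
    rw [siegG_smul Q hu huw, af13_pol_fe_self hyp, polar_f_W0 hw 1] at h1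
    simp only [one_smul, zero_smul, mul_one, add_zero] at h1
    rw [smul_sub, smul_sub, hf1, smul_comm z (Q w) (e 1), he 1] at h1
    have h2 : z • w = w := by
      have h3 : f 1 - z • w - Q w • e 1 = f 1 - w - Q w • e 1 := h1
      have h4 : z • w - w = 0 := by
        have : (f 1 - w - Q w • e 1) - (f 1 - z • w - Q w • e 1) = 0 := by rw [h3, sub_self]
        rw [← this]
        abel
      exact sub_eq_zero.mp h4
    exact h2

end central

section transfer

universe u

variable {F : Type u} [Field F] [Fintype F] {ι : Type} [Fintype ι] [DecidableEq ι]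
  (Q : QuadraticForm F (ι → F))

omit [DecidableEq ι] in
theorem af13_finite_SG : Finite ↥(SG Q) := by
  have : Finite ((ι → F) ≃ₗ[F] (ι → F)) :=
    Finite.of_injective (fun g : (ι → F) ≃ₗ[F] (ι → F) => (g : (ι → F) → (ι → F)))
      DFunLike.coe_injective
  infer_instance

/-- **automorphisms of `PΩ(Q)` of order prime to `p` fixing a Sylow `p`-subgroup pointwise are
trivial**, for a quadratic space with a hyperbolic frame of at least three pairs whose unipotent
radical is a Sylow subgroup of the Siegel group. -/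
theorem af13_POmega {k : ℕ} {e f : Fin (k + 3) → (ι → F)} (hyp : IsHyp Q e f)
    (hQ : (QuadraticMap.polarBilin Q).Nondegenerate) (h5 : 5 ≤ Fintype.card ι)
    (p : ℕ) [Fact p.Prime] [CharP F p]
    (hidx : ∀ _ : Finite ↥(SG Q), ¬ p ∣ ((UO Q e f).subgroupOf (SG Q)).index) :
    lt3q_P p (Cfsg.POmega F ⇑Q) := by
  have hQ' : Nondeg Q := (nondeg_iff Q).mp hQ
  have hfin := af13_finite_SG Q
  have hnt : Nontrivial (ι → F) := ⟨⟨e 0, 0, e_ne_zero hyp 0⟩⟩
  have h5' : 5 ≤ finrank F (ι → F) := by
    rw [Module.finrank_fintype_fun_eq_card]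
    exact h5
  -- the Sylow subgroup
  have hPG : IsPGroup p ↥((UO Q e f).subgroupOf (SG Q)) := by
    intro g
    obtain ⟨n, hn⟩ := isPGroup_UO hyp p ⟨((g : ↥(SG Q)) : ↥(Isom Q)), Subgroup.mem_subgroupOf.mp g.2⟩
    refine ⟨n, ?_⟩
    apply Subtype.ext
    apply Subtype.ext
    have := congrArg Subtype.val hn
    rw [Subgroup.coe_pow, Subgroup.coe_one] at this
    rw [Subgroup.coe_pow, Subgroup.coe_pow, Subgroup.coe_one, Subgroup.coe_one]
    exact this
  let U : Sylow p ↥(SG Q) := hPG.toSylow (hidx hfin)
  let D : Bool → Subgroup ↥(SG Q) := fun b => if b then DJ Q e f 1 else DJ Q e f 2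
  have hquot : lt3q_P p (↥(SG Q) ⧸ Subgroup.center ↥(SG Q)) := by
    refine lt3q_quot p (Subgroup.center ↥(SG Q)) le_rfl ?_ U D ?_ ?_ ?_
    · -- central `p`-elements are trivial
      intro z hz n hn
      have hcomm : ∀ s ∈ RJ Q e f 1, s ∈ SG Q → (z : ↥(Isom Q)) * s = s * (z : ↥(Isom Q)) := by
        intro s _ hsG
        have h1 := Subgroup.mem_center_iff.mp hz ⟨s, hsG⟩
        exact (congrArg Subtype.val h1).symm
      have hz0 : (z : ↥(Isom Q)) • e 0 = e 0 := by
        rcases af13_centralizer_RJ_one hyp hQ' hcomm with h | h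
        · exact h.1 0 (by rw [af13_v0]; omega)
        · have h1 : (negI Q * (z : ↥(Isom Q))) • e 0 = e 0 := h.1 0 (by rw [af13_v0]; omega)
          rw [mul_smul, negI_smul] at h1
          have h2 : (z : ↥(Isom Q)) • e 0 = -e 0 := neg_eq_iff_eq_neg.mp h1
          by_cases hp2 : p = 2
          · subst hp2
            have h3 : negI Q = 1 := negI_eq_one_of_char_two
            have h4 : -e 0 = e 0 := by
              have := congrArg (fun g : ↥(Isom Q) => g • e 0) h3
              simpa [negI_smul] using this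
            rw [h2, h4]
          · have hodd : Odd (p ^ n) := Odd.pow ((Fact.out : p.Prime).odd_of_ne_two hp2)
            have hn' : (z : ↥(Isom Q)) ^ p ^ n = 1 := by
              have := congrArg Subtype.val hn
              rwa [Subgroup.coe_pow, Subgroup.coe_one] at this
            have hpow : ∀ m : ℕ, ((z : ↥(Isom Q)) ^ m) • e 0 = (-1 : F) ^ m • e 0 := by
              intro m
              induction m with
              | zero => simp
              | succ m ih =>
                rw [pow_succ, mul_smul, h2, smul_neg, ih, pow_succ]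
                simp
            have h5 := hpow (p ^ n)
            rw [hn', one_smul, hodd.neg_one_pow, neg_smul, one_smul] at h5
            rw [h2, ← h5]
      apply Subtype.ext
      rw [Subgroup.coe_one]
      apply af13_eq_one_of_commute hyp _ hz0
      intro u w hu huw
      have h1 := Subgroup.mem_center_iff.mp hz ⟨siegG Q u w, siegG_mem_SG Q hu huw⟩
      exact (congrArg Subtype.val h1).symm
    · intro b
      cases b
      · exact af13_DJ_le hyp (by omega)
      · exact af13_DJ_le hyp (by omega)
    · intro b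
      cases b
      · exact af13_centralizer_DJ hyp hQ' p (Or.inr rfl)
      · exact af13_centralizer_DJ hyp hQ' p (Or.inl rfl)
    · rw [iSup_bool_eq]
      exact af13_normalizer_sup hyp hQ' h5'
  exact lt3q_of_iso p (Cfsg.Agent.Helper8.SL2HermOmega.quotCenterEquiv
    (Cfsg.Agent.Helper8.OmegaSimple.omegaEquiv Q hQ h5)) hquot

end transfer

end Cfsg.Agent.Helper8.Af13
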