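import Mathlib
import Cfsg.Agent.Lead.SpBND

set_option autoImplicit false

/-!
# Signed permutations of type `D` (helper8)

The patterns of the fundamental reflections of type `D_{k+2}`: the transpositions of adjacent
coordinates, and the conjugate of the last of them under the sign change at the last coordinate.
-/

namespace Cfsg.Agent.Helper8.ODt

open Cfsg.Agent.Lead.SpFus Cfsg.Agent.Lead.SpBN

variable {k : ℕ}

/-- the sign change at the last coordinate. -/
def tp (k : ℕ) : Equiv.Perm (Fin (k + 2) ⊕ Fin (k + 2)) := cS (Fin.last (k + 1))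

theorem tp_mul_self : tp k * tp k = 1 := Equiv.swap_mul_self _ _

theorem tp_inv : (tp k)⁻¹ = tp k := inv_eq_of_mul_eq_one_left tp_mul_self

theorem tp_inl_last : tp k (Sum.inl (Fin.last (k + 1))) = Sum.inr (Fin.last (k + 1)) :=
  Equiv.swap_apply_left _ _

theorem tp_inr_last : tp k (Sum.inr (Fin.last (k + 1))) = Sum.inl (Fin.last (k + 1)) :=
  Equiv.swap_apply_right _ _

theorem tp_of_ne {a : Fin (k + 2) ⊕ Fin (k + 2)} (h1 : a ≠ Sum.inl (Fin.last (k + 1)))
    (h2 : a ≠ Sum.inr (Fin.last (k + 1))) : tp k a = a :=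
  Equiv.swap_apply_of_ne_of_ne h1 h2

theorem tp_swap (a : Fin (k + 2) ⊕ Fin (k + 2)) : tp k a.swap = (tp k a).swap := by
  by_cases h1 : a = Sum.inl (Fin.last (k + 1))
  · rw [h1, Sum.swap_inl, tp_inr_last, tp_inl_last, Sum.swap_inr]
  · by_cases h2 : a = Sum.inr (Fin.last (k + 1))
    · rw [h2, Sum.swap_inr, tp_inl_last, tp_inr_last, Sum.swap_inl]
    · rw [tp_of_ne h1 h2, tp_of_ne]
      · intro h
        apply h2
        have := congrArg Sum.swap h
        rwa [Sum.swap_swap, Sum.swap_inl] at this
      · intro h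
        apply h1
        have := congrArg Sum.swap h
        rwa [Sum.swap_swap, Sum.swap_inr] at this

/-- the last index of the adjacent transpositions. -/
def i0 (k : ℕ) : Fin (k + 1) := Fin.last k

theorem i0_succ : (i0 k).succ = Fin.last (k + 1) := Fin.succ_last k

theorem i0_castSucc_val : (((i0 k).castSucc : Fin (k + 2)) : ℕ) = k := rfl

theorem i0_castSucc_ne : (i0 k).castSucc ≠ Fin.last (k + 1) := by
  intro h
  have := congrArg Fin.val h
  rw [i0_castSucc_val, Fin.val_last] at this
  omega

/-- the patterns of the fundamental reflections of type `D`. -/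
def patD : Option (Fin (k + 1)) → Equiv.Perm (Fin (k + 2) ⊕ Fin (k + 2))
  | some i => pS i
  | none => tp k * pS (i0 k) * tp k

/-- the positions of the fundamental roots of type `D`. -/
def posD : Option (Fin (k + 1)) → (Fin (k + 2) ⊕ Fin (k + 2)) × (Fin (k + 2) ⊕ Fin (k + 2))
  | some i => (Sum.inl i.castSucc, Sum.inl i.succ)
  | none => (Sum.inl (i0 k).castSucc, Sum.inr (Fin.last (k + 1)))

theorem patD_some (i : Fin (k + 1)) : patD (some i) = genPat (some i) := rfl

theorem posD_some (i : Fin (k + 1)) : posD (some i) = pos (some i) := rfl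

theorem patD_mul_self (o : Option (Fin (k + 1))) : patD o * patD o = 1 := by
  rcases o with _ | i
  · change tp k * pS (i0 k) * tp k * (tp k * pS (i0 k) * tp k) = 1
    have h1 : pS (i0 k) * pS (i0 k) = 1 := genPat_mul_self (some (i0 k))
    calc tp k * pS (i0 k) * tp k * (tp k * pS (i0 k) * tp k)
        = tp k * pS (i0 k) * (tp k * tp k) * pS (i0 k) * tp k := by group
      _ = 1 := by rw [tp_mul_self, mul_one, mul_assoc (tp k), h1, mul_one, tp_mul_self]
  · exact genPat_mul_self (some i)

theorem patD_inv (o : Option (Fin (k + 1))) : (patD o)⁻¹ = patD o :=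
  inv_eq_of_mul_eq_one_left (patD_mul_self o)

theorem pS_inl (i : Fin (k + 1)) (l : Fin (k + 2)) :
    pS i (Sum.inl l) = Sum.inl (Equiv.swap i.castSucc i.succ l) := rfl

theorem pS_inr (i : Fin (k + 1)) (l : Fin (k + 2)) :
    pS i (Sum.inr l) = Sum.inr (Equiv.swap i.castSucc i.succ l) := rfl

theorem patD_none_inl_pen :
    patD (none : Option (Fin (k + 1))) (Sum.inl (i0 k).castSucc) = Sum.inr (Fin.last (k + 1)) := by
  change tp k (pS (i0 k) (tp k (Sum.inl (i0 k).castSucc))) = _
  rw [tp_of_ne (a := Sum.inl (i0 k).castSucc) (by simp [i0_castSucc_ne]) (by simp),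
    pS_inl, Equiv.swap_apply_left, i0_succ, tp_inl_last]

theorem patD_pos (o : Option (Fin (k + 1))) : patD o (posD o).1 = (posD o).2 := by
  rcases o with _ | i
  · exact patD_none_inl_pen
  · exact genPat_pos (some i)

theorem patD_pos' (o : Option (Fin (k + 1))) : patD o (posD o).2 = (posD o).1 := by
  rw [← patD_pos, ← Equiv.Perm.mul_apply, patD_mul_self, Equiv.Perm.one_apply]

theorem posD_lt (o : Option (Fin (k + 1))) : rho (k + 2) (posD o).1 < rho (k + 2) (posD o).2 := by
  rcases o with _ | i
  · exact rho_inl_lt_inr _ _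
  · exact pos_lt (some i)

/-- the sign change at the last coordinate commutes with the other adjacent transpositions. -/
theorem tp_comm_pS {i : Fin (k + 1)} (hi : i ≠ i0 k) : tp k * pS i * tp k = pS i := by
  have h1 : i.succ ≠ Fin.last (k + 1) := by
    intro h
    apply hi
    rw [← i0_succ] at h
    exact Fin.succ_injective _ h
  have h2 : i.castSucc ≠ Fin.last (k + 1) := by
    intro h
    have := congrArg Fin.val h
    rw [Fin.val_castSucc, Fin.val_last] at this
    have := i.2
    omega
  have h3 : Equiv.swap i.castSucc i.succ (Fin.last (k + 1)) = Fin.last (k + 1) :=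
    Equiv.swap_apply_of_ne_of_ne (Ne.symm h2) (Ne.symm h1)
  have h4 : pS i * tp k = tp k * pS i := by
    unfold tp cS
    rw [Equiv.mul_swap_eq_swap_mul, pS_inl, pS_inr, h3]
  rw [mul_assoc, h4, ← mul_assoc, tp_mul_self, one_mul]

/-- the symmetry of the diagram. -/
def flipD : Option (Fin (k + 1)) → Option (Fin (k + 1))
  | some i => if i = i0 k then none else some i
  | none => some (i0 k)

theorem tp_conj_patD (o : Option (Fin (k + 1))) : tp k * patD o * tp k = patD (flipD o) := by
  rcases o with _ | i
  · change tp k * (tp k * pS (i0 k) * tp k) * tp k = pS (i0 k)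
    calc tp k * (tp k * pS (i0 k) * tp k) * tp k
        = (tp k * tp k) * pS (i0 k) * (tp k * tp k) := by group
      _ = pS (i0 k) := by rw [tp_mul_self, one_mul, mul_one]
  · change tp k * patD (some i) * tp k = patD (if i = i0 k then none else some i)
    by_cases hi : i = i0 k
    · rw [if_pos hi, hi]
      rfl
    · rw [if_neg hi]
      exact tp_comm_pS hi

/-- the Weyl group of type `D`. -/
def WD (k : ℕ) : Subgroup (Equiv.Perm (Fin (k + 2) ⊕ Fin (k + 2))) :=
  Subgroup.closure (Set.range patD)

theorem patD_mem_WD (o : Option (Fin (k + 1))) : patD o ∈ WD k :=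
  Subgroup.subset_closure ⟨o, rfl⟩

theorem tp_conj_mem_WD {w : Equiv.Perm (Fin (k + 2) ⊕ Fin (k + 2))} (hw : w ∈ WD k) :
    tp k * w * tp k ∈ WD k := by
  induction hw using Subgroup.closure_induction_left with
  | one =>
    rw [mul_one, tp_mul_self]
    exact Subgroup.one_mem _
  | mul_left x hx y hy ih =>
    obtain ⟨o, rfl⟩ := hx
    have e : tp k * (patD o * y) * tp k = (tp k * patD o * tp k) * (tp k * y * tp k) := by
      calc tp k * (patD o * y) * tp k = tp k * patD o * 1 * y * tp k := by group
        _ = tp k * patD o * (tp k * tp k) * y * tp k := by rw [tp_mul_self]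
        _ = (tp k * patD o * tp k) * (tp k * y * tp k) := by group
    rw [e, tp_conj_patD]
    exact Subgroup.mul_mem _ (patD_mem_WD _) ih
  | inv_mul_cancel x hx y hy ih =>
    obtain ⟨o, rfl⟩ := hx
    rw [patD_inv]
    have e : tp k * (patD o * y) * tp k = (tp k * patD o * tp k) * (tp k * y * tp k) := by
      calc tp k * (patD o * y) * tp k = tp k * patD o * 1 * y * tp k := by group
        _ = tp k * patD o * (tp k * tp k) * y * tp k := by rw [tp_mul_self]
        _ = (tp k * patD o * tp k) * (tp k * y * tp k) := by group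
    rw [e, tp_conj_patD]
    exact Subgroup.mul_mem _ (patD_mem_WD _) ih

/-- every signed permutation lies in the Weyl group of type `D`, up to the sign change at the
last coordinate. -/
theorem signed_mem_WD (σ : Equiv.Perm (Fin (k + 2) ⊕ Fin (k + 2)))
    (hσ : ∀ a, σ a.swap = (σ a).swap) : σ ∈ WD k ∨ σ * tp k ∈ WD k := by
  have h := signed_mem_closure σ hσ
  clear hσ
  induction h using Submonoid.closure_induction_left with
  | one => exact Or.inl (Subgroup.one_mem _)
  | mul_left x hx y hy ih =>
    rcases hx with ⟨i, rfl⟩ | hx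
    · have hp : pS i ∈ WD k := patD_mem_WD (some i)
      rcases ih with h1 | h1
      · exact Or.inl (Subgroup.mul_mem _ hp h1)
      · right
        rw [mul_assoc]
        exact Subgroup.mul_mem _ hp h1
    · have hx' : x = tp k := hx
      rw [hx']
      rcases ih with h1 | h1
      · right
        exact tp_conj_mem_WD h1
      · left
        have := tp_conj_mem_WD h1
        rwa [mul_assoc, mul_assoc, tp_mul_self, mul_one] at this

theorem swp_swap (a : Fin (k + 2) ⊕ Fin (k + 2)) : swp (k + 2) a.swap = (swp (k + 2) a).swap := rfl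

theorem swp_comm_tp : swp (k + 2) * tp k = tp k * swp (k + 2) := by
  apply Equiv.ext
  intro a
  rw [Equiv.Perm.mul_apply, Equiv.Perm.mul_apply, swp_apply, swp_apply, tp_swap]

/-- the defining property of a pattern of a longest element. -/
def IsLongD (w : Equiv.Perm (Fin (k + 2) ⊕ Fin (k + 2))) : Prop :=
  ∀ o : Option (Fin (k + 1)), rho (k + 2) (w⁻¹ (posD o).2) < rho (k + 2) (w⁻¹ (posD o).1)

theorem isLongD_swp : IsLongD (swp (k + 2)) := by
  intro o
  rw [swp_inv, swp_apply, swp_apply, rho_swap_lt]
  exact posD_lt o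

theorem rho_inl_last : rho (k + 2) (Sum.inl (Fin.last (k + 1))) = k + 1 := by
  rw [rho_inl, Fin.val_last]

theorem rho_inr_last : rho (k + 2) (Sum.inr (Fin.last (k + 1))) = k + 2 := by
  rw [rho_inr, Fin.val_last]
  omega

theorem isLongD_swp_tp : IsLongD (swp (k + 2) * tp k) := by
  intro o
  rw [mul_inv_rev, swp_inv, tp_inv, Equiv.Perm.mul_apply, Equiv.Perm.mul_apply]
  rcases o with _ | i
  · change rho (k + 2) (tp k (swp (k + 2) (Sum.inr (Fin.last (k + 1)))))
      < rho (k + 2) (tp k (swp (k + 2) (Sum.inl (i0 k).castSucc)))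
    rw [swp_apply, swp_apply, Sum.swap_inr, Sum.swap_inl, tp_inl_last,
      tp_of_ne (by simp) (by simp [i0_castSucc_ne]), rho_inr_last, rho_inr, i0_castSucc_val]
    omega
  · change rho (k + 2) (tp k (swp (k + 2) (Sum.inl i.succ)))
      < rho (k + 2) (tp k (swp (k + 2) (Sum.inl i.castSucc)))
    have h2 : i.castSucc ≠ Fin.last (k + 1) := by
      intro h
      have := congrArg Fin.val h
      rw [Fin.val_castSucc, Fin.val_last] at this
      have := i.2
      omega
    rw [swp_apply, swp_apply, Sum.swap_inl, Sum.swap_inl, tp_of_ne (a := Sum.inr i.castSucc)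
      (by simp) (by simp [h2])]
    by_cases hi : i = i0 k
    · rw [hi, i0_succ, tp_inr_last, rho_inl_last, rho_inr, i0_castSucc_val]
      omega
    · have h1 : i.succ ≠ Fin.last (k + 1) := by
        intro h
        apply hi
        rw [← i0_succ] at h
        exact Fin.succ_injective _ h
      rw [tp_of_ne (a := Sum.inr i.succ) (by simp) (by simp [h1]), rho_inr, rho_inr, Fin.val_succ,
        Fin.val_castSucc]
      have := i.2
      omega

/-- a pattern of a longest element in the Weyl group of type `D`. -/
theorem exists_longD : ∃ w : Equiv.Perm (Fin (k + 2) ⊕ Fin (k + 2)), w ∈ WD k ∧ IsLongD w ∧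
    (w = swp (k + 2) ∨ w = swp (k + 2) * tp k) := by
  rcases signed_mem_WD (swp (k + 2)) swp_swap with h | h
  · exact ⟨_, h, isLongD_swp, Or.inl rfl⟩
  · exact ⟨_, h, isLongD_swp_tp, Or.inr rfl⟩

theorem patD_injective {o o' : Option (Fin (k + 1))} (h : patD o = patD o') : o = o' := by
  rcases o with _ | i <;> rcases o' with _ | j
  · rfl
  · exfalso
    have h1 := congrArg (fun π : Equiv.Perm (Fin (k + 2) ⊕ Fin (k + 2)) =>
      π (Sum.inl (i0 k).castSucc)) h
    change patD none _ = pS j _ at h1
    rw [patD_none_inl_pen] at h1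
    rw [pS_inl] at h1
    exact Sum.inr_ne_inl h1
  · exfalso
    have h1 := congrArg (fun π : Equiv.Perm (Fin (k + 2) ⊕ Fin (k + 2)) =>
      π (Sum.inl (i0 k).castSucc)) h
    change pS i _ = patD none _ at h1
    rw [patD_none_inl_pen] at h1
    rw [pS_inl] at h1
    exact Sum.inl_ne_inr h1
  · have := genPat_injective (o := some i) (o' := some j) h
    exact this

end Cfsg.Agent.Helper8.ODt
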