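import Mathlib
import Cfsg.Agent.Helper8.SiegelGroup

set_option autoImplicit false

/-! Products of reflections in a plane: the three reflections theorem, and products of two
reflections of one norm class rewritten with the other class (helper8). -/

namespace Cfsg.Agent.Helper8.ReflClass

open Module Cfsg.Agent.Helper8.QuadForm Cfsg.Agent.Helper8.OrthOrder
  Cfsg.Agent.Helper8.Reflections Cfsg.Agent.Helper8.SiegelGroup

variable {F : Type*} [Field F] {V : Type*} [AddCommGroup V] [Module F V]

/-- **three reflections theorem**: the product of the reflections in three coplanar vectors is a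
reflection. -/
theorem three_refl (Q : QuadraticForm F V) {a b : V} (ha : Q a ≠ 0) (hb : Q b ≠ 0) (α β : F)
    (hx : Q (α • a + β • b) ≠ 0) :
    Q ((-(β * Q b)) • a + (α * Q a + β * QuadraticMap.polar Q a b) • b)
      = Q (α • a + β • b) * Q a * Q b ∧
    refl Q (α • a + β • b) * refl Q a * refl Q b
      = refl Q ((-(β * Q b)) • a + (α * Q a + β * QuadraticMap.polar Q a b) • b) := by
  have hba : QuadraticMap.polar Q b a = QuadraticMap.polar Q a b := QuadraticMap.polar_comm Q b a
  have hQx : Q (α • a + β • b) = α * α * Q a + β * β * Q b + α * β * QuadraticMap.polar Q a b := by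
    rw [QuadraticMap.map_add Q, QuadraticMap.map_smul, QuadraticMap.map_smul,
      QuadraticMap.polar_smul_left, QuadraticMap.polar_smul_right]
    simp only [smul_eq_mul]
    ring
  have hQy : Q ((-(β * Q b)) • a + (α * Q a + β * QuadraticMap.polar Q a b) • b)
      = Q (α • a + β • b) * Q a * Q b := by
    rw [hQx, QuadraticMap.map_add Q, QuadraticMap.map_smul, QuadraticMap.map_smul,
      QuadraticMap.polar_smul_left, QuadraticMap.polar_smul_right]
    simp only [smul_eq_mul]
    ring
  refine ⟨hQy, ?_⟩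
  apply LinearEquiv.ext
  intro v
  rw [LinearEquiv.mul_apply, LinearEquiv.mul_apply,
    refl_apply Q ((-(β * Q b)) • a + (α * Q a + β * QuadraticMap.polar Q a b) • b) v, hQy]
  rw [refl_apply Q b v, refl_apply Q a, refl_apply Q (α • a + β • b)]
  simp only [QuadraticMap.polar_sub_right, QuadraticMap.polar_smul_right,
    QuadraticMap.polar_add_left, QuadraticMap.polar_smul_left, polar_self', hba, smul_eq_mul]
  obtain ⟨D, hD⟩ : ∃ D : F, D = Q (α • a + β • b) := ⟨_, rfl⟩
  rw [← hD] at hx ⊢
  rw [hQx] at hD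
  match_scalars
  · ring
  · field_simp
    rw [hD]
    ring
  · field_simp
    rw [hD]
    ring

theorem Q_comb (Q : QuadraticForm F V) (w w' : V) (α β : F) :
    Q (α • w + β • w') = α ^ 2 * Q w + β ^ 2 * Q w' + α * β * QuadraticMap.polar Q w w' := by
  rw [QuadraticMap.map_add Q, QuadraticMap.map_smul, QuadraticMap.map_smul,
    QuadraticMap.polar_smul_left, QuadraticMap.polar_smul_right]
  simp only [smul_eq_mul]
  ring

/-- a nondegenerate plane spanned by two vectors of the same norm is universal. -/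
theorem exists_plane_repr [Finite F] (Q : QuadraticForm F V) {w w' : V} {κ : F} (hw : Q w = κ)
    (hw' : Q w' = κ) (hdisc : 4 * κ ^ 2 - (QuadraticMap.polar Q w w') ^ 2 ≠ 0) (c : F) :
    ∃ α β : F, Q (α • w + β • w') = c := by
  obtain ⟨L, hL⟩ : ∃ L : F × F →ₗ[F] V, ∀ p, L p = p.1 • w + p.2 • w' :=
    ⟨(LinearMap.fst F F F).smulRight w + (LinearMap.snd F F F).smulRight w', fun p => rfl⟩
  obtain ⟨B, hB⟩ : ∃ B : F, B = QuadraticMap.polar Q w w' := ⟨_, rfl⟩
  rw [← hB] at hdisc
  rcases exists_repr_or_singular (Q.comp L)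
    (by rw [Module.finrank_prod, Module.finrank_self]) c with ⟨p, hp⟩ | ⟨p, hp0, hp⟩
  · refine ⟨p.1, p.2, ?_⟩
    rw [← hL]
    exact hp
  · have hQe : p.1 ^ 2 * κ + p.2 ^ 2 * κ + p.1 * p.2 * B = 0 := by
      have : Q (L p) = 0 := hp
      rw [hL, Q_comb, hw, hw', ← hB] at this
      exact this
    by_cases h1 : 2 * p.1 * κ + p.2 * B = 0
    · by_cases h2 : p.1 * B + 2 * p.2 * κ = 0
      · exfalso
        apply hp0
        have e1 : p.1 * (4 * κ ^ 2 - B ^ 2) = 0 := by linear_combination 2 * κ * h1 - B * h2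
        have e2 : p.2 * (4 * κ ^ 2 - B ^ 2) = 0 := by linear_combination 2 * κ * h2 - B * h1
        have e1' : p.1 = 0 := (mul_eq_zero.mp e1).resolve_right hdisc
        have e2' : p.2 = 0 := (mul_eq_zero.mp e2).resolve_right hdisc
        exact Prod.ext e1' e2'
      · obtain ⟨lam, hlam⟩ : ∃ lam : F, lam * (p.1 * B + 2 * p.2 * κ) = c - κ :=
          ⟨(c - κ) / (p.1 * B + 2 * p.2 * κ), div_mul_cancel₀ _ h2⟩
        refine ⟨lam * p.1, 1 + lam * p.2, ?_⟩
        rw [Q_comb, hw, hw', ← hB]
        linear_combination lam ^ 2 * hQe + hlam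
    · obtain ⟨lam, hlam⟩ : ∃ lam : F, lam * (2 * p.1 * κ + p.2 * B) = c - κ :=
        ⟨(c - κ) / (2 * p.1 * κ + p.2 * B), div_mul_cancel₀ _ h1⟩
      refine ⟨1 + lam * p.1, lam * p.2, ?_⟩
      rw [Q_comb, hw, hw', ← hB]
      linear_combination lam ^ 2 * hQe + hlam

/-- the subgroup generated by the reflections of norm class `c`. -/
def RC (Q : QuadraticForm F V) (c : F) : Subgroup ↥(Isom Q) :=
  Subgroup.closure {g | ∃ (v : V) (t : F), t ≠ 0 ∧ Q v = c * t ^ 2 ∧ g = reflG Q v}

theorem reflG_mem_RC (Q : QuadraticForm F V) {c : F} {v : V} {t : F} (ht : t ≠ 0)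
    (hv : Q v = c * t ^ 2) : reflG Q v ∈ RC Q c :=
  Subgroup.subset_closure ⟨v, t, ht, hv, rfl⟩

theorem reflG_mul_self (Q : QuadraticForm F V) (z : V) : reflG Q z * reflG Q z = 1 :=
  Subtype.ext (refl_mul_self Q z)

/-- the product of two reflections in vectors of the same norm spanning a nondegenerate plane is
a product of two reflections of any prescribed norm class. -/
theorem pair_mem_of_disc [Finite F] (Q : QuadraticForm F V) {w w' : V} {κ : F} (hw : Q w = κ)
    (hw' : Q w' = κ) (hκ : κ ≠ 0) (hdisc : 4 * κ ^ 2 - (QuadraticMap.polar Q w w') ^ 2 ≠ 0)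
    {c : F} (hc : c ≠ 0) : reflG Q w * reflG Q w' ∈ RC Q c := by
  obtain ⟨α, β, hx⟩ := exists_plane_repr Q hw hw' hdisc c
  have hx0 : Q (α • w + β • w') ≠ 0 := by rw [hx]; exact hc
  obtain ⟨hQy, hprod⟩ := three_refl Q (a := w) (b := w') (by rw [hw]; exact hκ)
    (by rw [hw']; exact hκ) α β hx0
  have h1 : reflG Q w * reflG Q w' = reflG Q (α • w + β • w') *
      reflG Q ((-(β * Q w')) • w + (α * Q w + β * QuadraticMap.polar Q w w') • w') := by
    have h2 : reflG Q (α • w + β • w') * reflG Q w * reflG Q w' =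
        reflG Q ((-(β * Q w')) • w + (α * Q w + β * QuadraticMap.polar Q w w') • w') :=
      Subtype.ext hprod
    rw [← h2, ← mul_assoc, ← mul_assoc, reflG_mul_self, one_mul]
  rw [h1]
  apply (RC Q c).mul_mem
  · exact reflG_mem_RC Q one_ne_zero (by rw [hx]; ring)
  · apply reflG_mem_RC Q hκ
    rw [hQy, hx, hw, hw']
    ring

end Cfsg.Agent.Helper8.ReflClass
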