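import Mathlib
import Cfsg.Agent.Helper8.OStG
import Cfsg.Agent.Helper8.ODtA
import Cfsg.Agent.Helper8.ReflClassPlane

set_option autoImplicit false

/-!
# Orthogonal groups of type `D`: the rank one computations (helper8)

Generic versions (depending only on the frame) of the rank one computations for the adjacent
transpositions, the reflection exchanging the last hyperbolic pair, and the fact that it
normalises the flag stabiliser when the frame spans the space.
-/

namespace Cfsg.Agent.Helper8.ODt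

open Module Matrix Cfsg.Agent.Helper8.QuadForm Cfsg.Agent.Helper8.WittQuad
  Cfsg.Agent.Helper8.OrthOrder
  Cfsg.Agent.Helper8.Siegel Cfsg.Agent.Helper8.SiegelGroup Cfsg.Agent.Helper8.OGenA
  Cfsg.Agent.Helper8.OGenB Cfsg.Agent.Helper8.OGenG Cfsg.Agent.Lead.SpFus
  Cfsg.Agent.Lead.SpBN Cfsg.Agent.Helper8.OSt Cfsg.Agent.Helper8.Reflections
  Cfsg.Agent.Helper8.ReflClass

variable {F : Type*} [Field F] {V : Type*} [AddCommGroup V] [Module F V] [FiniteDimensional F V]

section generic

variable {k : ℕ} {Q : QuadraticForm F V} {e f : Fin (k + 1) → V}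

/-- the representative of an adjacent transposition. -/
noncomputable def sA (hyp : IsHyp Q e f) (i : Fin k) : ↥(Isom Q) :=
  j hyp (Cfsg.Agent.Lead.SLBN.sgen F i)

theorem pat_sA (hyp : IsHyp Q e f) (i : Fin k) : Pat Q e f (genPat (some i)) (sA hyp i) :=
  pat_j hyp (Cfsg.Agent.Lead.SLBN.sgen_monoP i) (Cfsg.Agent.Lead.SLBN.sgen_inv_monoP i)

theorem pat_sA_inv (hyp : IsHyp Q e f) (i : Fin k) :
    Pat Q e f (genPat (some i)) (sA hyp i)⁻¹ := by
  have := (pat_sA hyp i).inv hyp
  rwa [genPat_inv] at this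

theorem sA_mem_SG (hyp : IsHyp Q e f) (i : Fin k) : sA hyp i ∈ SG Q :=
  Cfsg.Agent.Helper8.OGenE.j_mem_SG hyp (by have := i.2; omega) _

/-- the rank one computation for an adjacent transposition. -/
theorem rankA' (hyp : IsHyp Q e f) (i : Fin k) {c : F} (hc : c ≠ 0) :
    sA hyp i * xA Q e f i c * yA Q e f i (-c⁻¹) ∈ BO Q e f := by
  unfold sA
  rw [xA_eq_j hyp, yA_eq_j hyp, ← map_mul, ← map_mul]
  apply j_mem_BO hyp
  exact Cfsg.Agent.Lead.SLBN.mem_Bs.mp (Cfsg.Agent.Lead.SLBN.sl2_mem i hc)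

/-- clearing the coefficient at an adjacent transposition. -/
theorem clearA' (hyp : IsHyp Q e f) (i : Fin k) {b : ↥(Isom Q)} (hb : b ∈ BO Q e f) :
    ∃ t : F, sA hyp i * (b * xA Q e f i t) * (sA hyp i)⁻¹ ∈ BO Q e f := by
  obtain ⟨α, hα⟩ : ∃ α, α = QuadraticMap.polar Q (f i.castSucc) (b • e i.castSucc) := ⟨_, rfl⟩
  obtain ⟨β, hβ⟩ : ∃ β, β = QuadraticMap.polar Q (f i.castSucc) (b • e i.succ) := ⟨_, rfl⟩
  have hα0 : α ≠ 0 := by
    rw [hα]
    exact diag_ne_zero hyp hb _
  refine ⟨-β / α, ?_⟩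
  obtain ⟨g, hg⟩ : ∃ g, g = b * xA Q e f i (-β / α) := ⟨_, rfl⟩
  rw [← hg]
  have hgB : g ∈ BO Q e f := by
    rw [hg]
    exact (BO Q e f).mul_mem hb (xA_mem_BO hyp i _)
  have hg0 : QuadraticMap.polar Q (f i.castSucc) (g • e i.succ) = 0 := by
    rw [hg, mul_smul, xA_smul_e_succ hyp, smul_add, smul_comm, QuadraticMap.polar_add_right,
      QuadraticMap.polar_smul_right, ← hα, ← hβ, smul_eq_mul]
    field_simp
    ring
  have ha : ((i.castSucc : Fin (k + 1)) : ℕ) = i := rfl
  have hb' : ((i.succ : Fin (k + 1)) : ℕ) = i + 1 := Fin.val_succ i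
  apply mem_BO_of_forall
  intro m
  rw [mul_smul, mul_smul]
  obtain ⟨d, hd⟩ := pat_sA_inv hyp i (Sum.inl m)
  rw [fr_inl, genPat_some_inl, fr_inl] at hd
  rw [hd, smul_comm g, smul_comm (sA hyp i)]
  apply Submodule.smul_mem
  have hv := smul_e_mem hyp hgB (Equiv.swap i.castSucc i.succ m)
  apply smul_mem_E_of_pat hyp (pat_sA hyp i) hv
  intro l hl hne
  refine ⟨Equiv.swap i.castSucc i.succ l, genPat_some_inl i l, ?_⟩
  rw [swap_adj_val] at hl ⊢
  by_cases hm1 : (m : ℕ) = i
  · rw [if_pos hm1] at hl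
    have hla : (l : ℕ) ≠ i := by
      intro h
      apply hne
      have e1 : Equiv.swap i.castSucc i.succ m = i.succ := by
        rw [show m = i.castSucc from Fin.ext (by rw [hm1, ha]), Equiv.swap_apply_left]
      have e2 : l = i.castSucc := Fin.ext (by rw [h, ha])
      rw [e1, e2]
      exact hg0
    rw [if_neg hla]
    split_ifs <;> omega
  · rw [if_neg hm1] at hl
    by_cases hm2 : (m : ℕ) = (i : ℕ) + 1
    · rw [if_pos hm2] at hl
      split_ifs <;> omega
    · rw [if_neg hm2] at hl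
      split_ifs <;> omega

/-- a conjugate of a positive root element by its reflection leaves the flag stabiliser. -/
theorem conj_testA_not_mem (hyp : IsHyp Q e f) (i : Fin k) :
    sA hyp i * xA Q e f i 1 * (sA hyp i)⁻¹ ∉ BO Q e f := by
  intro h1
  obtain ⟨d, hd⟩ := pat_sA hyp i (Sum.inl i.castSucc)
  obtain ⟨d', hd'⟩ := pat_sA hyp i (Sum.inr i.succ)
  have hd0 := Pat.coeff_ne_zero hyp hd
  have hd'0 := Pat.coeff_ne_zero hyp hd'
  rw [genPat_some_inl, Equiv.swap_apply_left, fr_inl, fr_inl] at hd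
  rw [genPat_some_inr, Equiv.swap_apply_right, fr_inr, fr_inr] at hd'
  have e1 : sA hyp i * xA Q e f i 1 * (sA hyp i)⁻¹ = yA Q e f i (d * d') := by
    change sA hyp i * siegG Q (e i.castSucc) ((1 : F) • f i.succ) * (sA hyp i)⁻¹ = _
    rw [siegG_conj]
    change siegG Q (sA hyp i • e i.castSucc) (sA hyp i • (1 : F) • f i.succ) = _
    rw [one_smul, hd, hd', ← one_smul F (d' • f i.castSucc), smul_smul,
      siegG_smul_smul (hyp.1 _).1 (by rw [hyp.2.1, if_neg (adj_ne' i).symm]), one_mul]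
    rfl
  rw [e1] at h1
  exact yA_not_mem_BO hyp i (mul_ne_zero hd0 hd'0) h1

end generic

section tau

variable {k : ℕ} {Q : QuadraticForm F V} {e f : Fin (k + 2) → V}

/-- the reflection exchanging the last hyperbolic pair. -/
noncomputable def tau (Q : QuadraticForm F V) (e f : Fin (k + 2) → V) : ↥(Isom Q) :=
  reflG Q (e (Fin.last (k + 1)) - f (Fin.last (k + 1)))

theorem Q_tau_vec (hyp : IsHyp Q e f) :
    Q (e (Fin.last (k + 1)) - f (Fin.last (k + 1))) = -1 := by
  rw [sub_eq_add_neg, QuadraticMap.map_add Q, QuadraticMap.map_neg, (hyp.1 _).1, (hyp.1 _).2,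
    QuadraticMap.polar_neg_right, hyp.2.1, if_pos rfl]
  ring

theorem tau_smul (hyp : IsHyp Q e f) (x : V) : tau Q e f • x
    = x + (QuadraticMap.polar Q (e (Fin.last (k + 1))) x
      - QuadraticMap.polar Q (f (Fin.last (k + 1))) x)
        • (e (Fin.last (k + 1)) - f (Fin.last (k + 1))) := by
  have h : tau Q e f • x = x - (QuadraticMap.polar Q (e (Fin.last (k + 1)) - f (Fin.last (k + 1))) x
      / Q (e (Fin.last (k + 1)) - f (Fin.last (k + 1))))
        • (e (Fin.last (k + 1)) - f (Fin.last (k + 1))) := refl_apply Q _ x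
  rw [h, Q_tau_vec hyp, QuadraticMap.polar_sub_left, div_neg, div_one, neg_smul, sub_neg_eq_add]

theorem tau_smul_e_last (hyp : IsHyp Q e f) :
    tau Q e f • e (Fin.last (k + 1)) = f (Fin.last (k + 1)) := by
  rw [tau_smul hyp, (hyp.2.2 _ _).1, polar_fe hyp, if_pos rfl, zero_sub, neg_smul, one_smul]
  abel

theorem tau_smul_f_last (hyp : IsHyp Q e f) :
    tau Q e f • f (Fin.last (k + 1)) = e (Fin.last (k + 1)) := by
  rw [tau_smul hyp, (hyp.2.2 _ _).2, hyp.2.1, if_pos rfl, sub_zero, one_smul]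
  abel

theorem tau_smul_of_eq (hyp : IsHyp Q e f) {x : V}
    (h : QuadraticMap.polar Q (e (Fin.last (k + 1))) x
      = QuadraticMap.polar Q (f (Fin.last (k + 1))) x) : tau Q e f • x = x := by
  rw [tau_smul hyp, h, sub_self, zero_smul, add_zero]

theorem tau_mul_self : tau Q e f * tau Q e f = 1 := reflG_mul_self Q _

theorem tau_inv : (tau Q e f)⁻¹ = tau Q e f := reflG_inv Q _

theorem tau_smul_tau_smul (x : V) : tau Q e f • tau Q e f • x = x := by
  rw [← mul_smul, tau_mul_self, one_smul]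

theorem tau_smul_fr (hyp : IsHyp Q e f) {a : Fin (k + 2) ⊕ Fin (k + 2)}
    (h1 : a ≠ Sum.inl (Fin.last (k + 1))) (h2 : a ≠ Sum.inr (Fin.last (k + 1))) :
    tau Q e f • fr e f a = fr e f a := by
  apply tau_smul_of_eq hyp
  have e1 := polar_fr hyp (Sum.inl (Fin.last (k + 1))) a
  have e2 := polar_fr hyp (Sum.inr (Fin.last (k + 1))) a
  rw [fr_inl, Sum.swap_inl, if_neg h2] at e1
  rw [fr_inr, Sum.swap_inr, if_neg h1] at e2
  rw [e1, e2]

theorem pat_tau (hyp : IsHyp Q e f) : Pat Q e f (tp k) (tau Q e f) := by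
  intro a
  refine ⟨1, ?_⟩
  rw [one_smul]
  by_cases h1 : a = Sum.inl (Fin.last (k + 1))
  · rw [h1, tp_inl_last, fr_inl, fr_inr, tau_smul_e_last hyp]
  · by_cases h2 : a = Sum.inr (Fin.last (k + 1))
    · rw [h2, tp_inr_last, fr_inl, fr_inr, tau_smul_f_last hyp]
    · rw [tp_of_ne h1 h2, tau_smul_fr hyp h1 h2]

/-- the reflection fixes the members of the flag below the top. -/
theorem tau_smul_of_mem_E (hyp : IsHyp Q e f) {K : ℕ} (hK : K ≤ k + 1) {v : V}
    (hv : v ∈ E Q e f K) : tau Q e f • v = v := by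
  apply tau_smul_of_eq hyp
  rw [polar_e_of_mem_E hyp hv]
  exact ((mem_E.mp hv).2 (Fin.last (k + 1)) (by rw [Fin.val_last]; exact hK)).symm

end tau

/-- the data of type `D`: a frame of `k + 2` hyperbolic pairs spanning the space. -/
structure DData {k : ℕ} (Q : QuadraticForm F V) (e f : Fin (k + 2) → V) : Prop where
  hyp : IsHyp Q e f
  hW0 : ∀ w ∈ W0 Q e f, w = 0

namespace DData

variable {k : ℕ} {Q : QuadraticForm F V} {e f : Fin (k + 2) → V} (D : DData Q e f)
include D

theorem eq_lc (v : V) : v = lc e (co Q f v) + lc f (co Q e v) := by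
  have h := decomp_eq (Q := Q) (e := e) (f := f) v
  rw [D.hW0 _ (pi0_mem_W0 D.hyp v), add_zero] at h
  exact h

/-- a vector orthogonal to all the `e i` lies in the top member of the flag. -/
theorem mem_E_top {v : V} (h : ∀ l, QuadraticMap.polar Q (e l) v = 0) : v ∈ E Q e f (k + 2) := by
  have h1 : co Q e v = 0 := funext h
  have h2 := D.eq_lc v
  rw [h1, map_zero, add_zero] at h2
  refine ⟨h2.symm, fun i hi => ?_⟩
  have := i.2
  omega

/-- an element of the flag stabiliser maps the last `f` into the other maximal member. -/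
theorem polar_f_last_smul_f_last {b : ↥(Isom Q)} (hb : b ∈ BO Q e f) :
    QuadraticMap.polar Q (f (Fin.last (k + 1))) (b • f (Fin.last (k + 1))) = 0 := by
  have hyp := D.hyp
  have hbi : b⁻¹ ∈ BO Q e f := (BO Q e f).inv_mem hb
  obtain ⟨v, hv⟩ : ∃ v, v = b • f (Fin.last (k + 1)) := ⟨_, rfl⟩
  rw [← hv]
  -- the coordinates of `v` against the `e l`
  have hco : ∀ l : Fin (k + 2), l ≠ Fin.last (k + 1) → QuadraticMap.polar Q (e l) v = 0 := by
    intro l hl
    rw [hv, polar_smul_right', QuadraticMap.polar_comm]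
    have h1 := smul_e_mem hyp hbi l
    apply h1.2
    rw [Fin.val_last]
    have := l.2
    have : (l : ℕ) ≠ k + 1 := fun h => hl (Fin.ext (by rw [h, Fin.val_last]))
    omega
  have hφ : QuadraticMap.polar Q (e (Fin.last (k + 1))) v ≠ 0 := by
    rw [hv, polar_smul_right', QuadraticMap.polar_comm]
    exact diag_ne_zero hyp hbi _
  have hQv : Q v = 0 := by rw [hv, Q_smul, (hyp.1 _).2]
  have hdec := D.eq_lc v
  have hQ2 : Q v = co Q e v ⬝ᵥ co Q f v := by
    conv_lhs => rw [hdec]
    rw [QuadraticMap.map_add Q, Q_lc_e hyp, Q_lc_f hyp, polar_right_lc_f, co_f_lc_e hyp]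
    ring
  rw [hQv] at hQ2
  have hsum : co Q e v ⬝ᵥ co Q f v
      = QuadraticMap.polar Q (e (Fin.last (k + 1))) v
        * QuadraticMap.polar Q (f (Fin.last (k + 1))) v := by
    unfold dotProduct
    rw [Finset.sum_eq_single (Fin.last (k + 1))]
    · rfl
    · intro l _ hl
      rw [co_apply, hco l hl, zero_mul]
    · intro h
      exact absurd (Finset.mem_univ _) h
  rw [hsum] at hQ2
  rcases mul_eq_zero.mp hQ2.symm with h | h
  · exact absurd h hφ
  · exact h

/-- **the reflection exchanging the last pair normalises the flag stabiliser.** -/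
theorem tau_conj_mem_BO {b : ↥(Isom Q)} (hb : b ∈ BO Q e f) :
    tau Q e f * b * tau Q e f ∈ BO Q e f := by
  have hyp := D.hyp
  have hbi : b⁻¹ ∈ BO Q e f := (BO Q e f).inv_mem hb
  apply mem_BO_of_forall
  intro i
  rw [mul_smul, mul_smul]
  by_cases hi : i = Fin.last (k + 1)
  · rw [hi, tau_smul_e_last hyp, Fin.val_last]
    apply D.mem_E_top
    intro l
    rw [polar_smul_right', tau_inv]
    by_cases hl : l = Fin.last (k + 1)
    · rw [hl, tau_smul_e_last hyp]
      exact D.polar_f_last_smul_f_last hb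
    · have h1 : tau Q e f • e l = e l := by
        have := tau_smul_fr hyp (a := Sum.inl l) (by simp [hl]) (by simp)
        exact this
      rw [h1, polar_smul_right', QuadraticMap.polar_comm]
      have h2 := smul_e_mem hyp hbi l
      apply h2.2
      rw [Fin.val_last]
      have := l.2
      have : (l : ℕ) ≠ k + 1 := fun h => hl (Fin.ext (by rw [h, Fin.val_last]))
      omega
  · have h1 : tau Q e f • e i = e i := by
      have := tau_smul_fr hyp (a := Sum.inl i) (by simp [hi]) (by simp)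
      exact this
    have hlt : (i : ℕ) + 1 ≤ k + 1 := by
      have := i.2
      have : (i : ℕ) ≠ k + 1 := fun h => hi (Fin.ext (by rw [h, Fin.val_last]))
      omega
    rw [h1]
    have h2 := smul_e_mem hyp hb i
    rw [tau_smul_of_mem_E hyp hlt h2]
    exact h2

theorem tau_conj_mem_BO_iff {b : ↥(Isom Q)} :
    tau Q e f * b * tau Q e f ∈ BO Q e f ↔ b ∈ BO Q e f := by
  constructor
  · intro h
    have := D.tau_conj_mem_BO h
    have e1 : tau Q e f * (tau Q e f * b * tau Q e f) * tau Q e f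
        = (tau Q e f * tau Q e f) * b * (tau Q e f * tau Q e f) := by group
    rwa [e1, tau_mul_self, one_mul, mul_one] at this
  · exact D.tau_conj_mem_BO

end DData

end Cfsg.Agent.Helper8.ODt
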