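import Mathlib
import Cfsg.Agent.Helper8.ODtB

set_option autoImplicit false

/-!
# Orthogonal groups of type `D`: the fundamental reflections and their root groups (helper8)

The data of the last fundamental root are the conjugates, under the reflection exchanging the last
hyperbolic pair, of the data of the last adjacent transposition.
-/

namespace Cfsg.Agent.Helper8.ODt

open Module Matrix Cfsg.Agent.Helper8.QuadForm Cfsg.Agent.Helper8.WittQuad
  Cfsg.Agent.Helper8.OrthOrder
  Cfsg.Agent.Helper8.Siegel Cfsg.Agent.Helper8.SiegelGroup Cfsg.Agent.Helper8.OGenA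
  Cfsg.Agent.Helper8.OGenB Cfsg.Agent.Helper8.OGenG Cfsg.Agent.Lead.SpFus
  Cfsg.Agent.Lead.SpBN Cfsg.Agent.Helper8.OSt

variable {F : Type*} [Field F] {V : Type*} [AddCommGroup V] [Module F V] [FiniteDimensional F V]
variable {k : ℕ} {Q : QuadraticForm F V} {e f : Fin (k + 2) → V}

/-- conjugation by the reflection exchanging the last pair. -/
noncomputable def tc (Q : QuadraticForm F V) (e f : Fin (k + 2) → V) : ↥(Isom Q) ≃* ↥(Isom Q) :=
  MulAut.conj (tau Q e f)

theorem tc_apply (g : ↥(Isom Q)) : tc Q e f g = tau Q e f * g * tau Q e f := by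
  unfold tc
  rw [MulAut.conj_apply, tau_inv]

theorem tc_tc (g : ↥(Isom Q)) : tc Q e f (tc Q e f g) = g := by
  rw [tc_apply, tc_apply]
  have e1 : tau Q e f * (tau Q e f * g * tau Q e f) * tau Q e f
      = (tau Q e f * tau Q e f) * g * (tau Q e f * tau Q e f) := by group
  rw [e1, tau_mul_self, one_mul, mul_one]

theorem tc_mem_SG {g : ↥(Isom Q)} (hg : g ∈ SG Q) : tc Q e f g ∈ SG Q :=
  conj_mem_SG Q hg _

theorem pat_tc (hyp : IsHyp Q e f) {σ : Equiv.Perm (Fin (k + 2) ⊕ Fin (k + 2))} {g : ↥(Isom Q)}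
    (hg : Pat Q e f σ g) : Pat Q e f (tp k * σ * tp k) (tc Q e f g) := by
  rw [tc_apply]
  exact ((pat_tau hyp).mul hg).mul (pat_tau hyp)

namespace DData

variable (D : DData Q e f)

include D in
theorem tc_mem_BO_iff {b : ↥(Isom Q)} : tc Q e f b ∈ BO Q e f ↔ b ∈ BO Q e f := by
  rw [tc_apply]
  exact D.tau_conj_mem_BO_iff

/-- the representatives of the fundamental reflections, in the isometry group. -/
noncomputable def genO : Option (Fin (k + 1)) → ↥(Isom Q)
  | some i => sA D.hyp i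
  | none => tc Q e f (sA D.hyp (i0 k))

/-- the positive root elements. -/
noncomputable def xO (_D : DData Q e f) : Option (Fin (k + 1)) → F → ↥(Isom Q)
  | some i => fun c => xA Q e f i c
  | none => fun c => tc Q e f (xA Q e f (i0 k) c)

/-- the negative root elements. -/
noncomputable def yO (_D : DData Q e f) : Option (Fin (k + 1)) → F → ↥(Isom Q)
  | some i => fun c => yA Q e f i c
  | none => fun c => tc Q e f (yA Q e f (i0 k) c)

theorem genO_mem_SG (o : Option (Fin (k + 1))) : D.genO o ∈ SG Q := by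
  rcases o with _ | i
  · exact tc_mem_SG (sA_mem_SG D.hyp _)
  · exact sA_mem_SG D.hyp i

theorem xO_mem_SG (o : Option (Fin (k + 1))) (c : F) : D.xO o c ∈ SG Q := by
  rcases o with _ | i
  · exact tc_mem_SG (xA_mem_SG D.hyp _ c)
  · exact xA_mem_SG D.hyp i c

theorem yO_mem_SG (o : Option (Fin (k + 1))) (c : F) : D.yO o c ∈ SG Q := by
  rcases o with _ | i
  · exact tc_mem_SG (yA_mem_SG D.hyp _ c)
  · exact yA_mem_SG D.hyp i c

theorem pat_genO (o : Option (Fin (k + 1))) : Pat Q e f (patD o) (D.genO o) := by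
  rcases o with _ | i
  · exact pat_tc D.hyp (pat_sA D.hyp (i0 k))
  · exact pat_sA D.hyp i

theorem pat_genO_inv (o : Option (Fin (k + 1))) : Pat Q e f (patD o) (D.genO o)⁻¹ := by
  have := (D.pat_genO o).inv D.hyp
  rwa [patD_inv] at this

theorem xO_zero (o : Option (Fin (k + 1))) : D.xO o 0 = 1 := by
  rcases o with _ | i
  · change tc Q e f (xA Q e f (i0 k) 0) = 1
    rw [xA_zero, map_one]
  · exact xA_zero i

theorem xO_inv (o : Option (Fin (k + 1))) (c : F) : (D.xO o c)⁻¹ = D.xO o (-c) := by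
  rcases o with _ | i
  · change (tc Q e f (xA Q e f (i0 k) c))⁻¹ = tc Q e f (xA Q e f (i0 k) (-c))
    rw [← map_inv, xA_inv D.hyp]
  · exact xA_inv D.hyp i c

theorem xO_mem_BO (o : Option (Fin (k + 1))) (c : F) : D.xO o c ∈ BO Q e f := by
  rcases o with _ | i
  · exact D.tc_mem_BO_iff.mpr (xA_mem_BO D.hyp _ c)
  · exact xA_mem_BO D.hyp i c

/-- the rank one computation. -/
theorem rankO (o : Option (Fin (k + 1))) {c : F} (hc : c ≠ 0) :
    D.genO o * D.xO o c * D.yO o (-c⁻¹) ∈ BO Q e f := by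
  rcases o with _ | i
  · change tc Q e f (sA D.hyp (i0 k)) * tc Q e f (xA Q e f (i0 k) c)
      * tc Q e f (yA Q e f (i0 k) (-c⁻¹)) ∈ BO Q e f
    rw [← map_mul, ← map_mul, D.tc_mem_BO_iff]
    exact rankA' D.hyp _ hc
  · exact rankA' D.hyp i hc

/-- clearing the coefficient at a fundamental root. -/
theorem clearO (o : Option (Fin (k + 1))) {b : ↥(Isom Q)} (hb : b ∈ BO Q e f) :
    ∃ t : F, D.genO o * (b * D.xO o t) * (D.genO o)⁻¹ ∈ BO Q e f := by
  rcases o with _ | i
  · obtain ⟨t, ht⟩ := clearA' D.hyp (i0 k) (D.tc_mem_BO_iff.mpr hb)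
    refine ⟨t, ?_⟩
    change tc Q e f (sA D.hyp (i0 k)) * (b * tc Q e f (xA Q e f (i0 k) t))
      * (tc Q e f (sA D.hyp (i0 k)))⁻¹ ∈ BO Q e f
    have e1 : tc Q e f (sA D.hyp (i0 k)) * (b * tc Q e f (xA Q e f (i0 k) t))
        * (tc Q e f (sA D.hyp (i0 k)))⁻¹
        = tc Q e f (sA D.hyp (i0 k) * (tc Q e f b * xA Q e f (i0 k) t) * (sA D.hyp (i0 k))⁻¹) := by
      rw [map_mul, map_mul, map_mul, map_inv, tc_tc]
    rw [e1, D.tc_mem_BO_iff]
    exact ht
  · exact clearA' D.hyp i hb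

theorem posD_none_fst_tp :
    tp k (posD (none : Option (Fin (k + 1)))).1 = (pos (some (i0 k))).1 := by
  change tp k (Sum.inl (i0 k).castSucc) = Sum.inl (i0 k).castSucc
  exact tp_of_ne (by simp [i0_castSucc_ne]) (by simp)

theorem posD_none_snd_tp :
    tp k (posD (none : Option (Fin (k + 1)))).2 = (pos (some (i0 k))).2 := by
  change tp k (Sum.inr (Fin.last (k + 1))) = Sum.inl (i0 k).succ
  rw [tp_inr_last, i0_succ]

/-- the conjugates of the positive root elements under a monomial isometry keeping the root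
positive. -/
theorem conj_xO_mem (o : Option (Fin (k + 1))) {n : ↥(Isom Q)}
    {σ : Equiv.Perm (Fin (k + 2) ⊕ Fin (k + 2))} (hσ : Pat Q e f σ n)
    (hlt : rho (k + 2) (σ⁻¹ (posD o).1) < rho (k + 2) (σ⁻¹ (posD o).2)) (c : F) :
    n⁻¹ * D.xO o c * n ∈ BO Q e f := by
  rcases o with _ | i
  · have h1 : Pat Q e f (tp k * σ) (tau Q e f * n) := (pat_tau D.hyp).mul hσ
    have h2 : rho (k + 2) ((tp k * σ)⁻¹ (pos (some (i0 k))).1)
        < rho (k + 2) ((tp k * σ)⁻¹ (pos (some (i0 k))).2) := by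
      rw [_root_.mul_inv_rev, tp_inv, Equiv.Perm.mul_apply, Equiv.Perm.mul_apply, ← posD_none_fst_tp,
        ← posD_none_snd_tp, ← Equiv.Perm.mul_apply (tp k), ← Equiv.Perm.mul_apply (tp k),
        tp_mul_self, Equiv.Perm.one_apply, Equiv.Perm.one_apply]
      exact hlt
    have h3 := conj_xA_mem D.hyp h1 (i0 k) h2 c
    have e1 : (tau Q e f * n)⁻¹ * xA Q e f (i0 k) c * (tau Q e f * n)
        = n⁻¹ * D.xO none c * n := by
      change _ = n⁻¹ * tc Q e f (xA Q e f (i0 k) c) * n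
      rw [tc_apply, _root_.mul_inv_rev, tau_inv]
      group
    rwa [e1] at h3
  · exact conj_xA_mem D.hyp hσ i hlt c

/-- the conjugates of the negative root elements under a monomial isometry making the root
negative. -/
theorem conj_yO_mem (o : Option (Fin (k + 1))) {n : ↥(Isom Q)}
    {σ : Equiv.Perm (Fin (k + 2) ⊕ Fin (k + 2))} (hσ : Pat Q e f σ n)
    (hlt : rho (k + 2) (σ⁻¹ (posD o).2) < rho (k + 2) (σ⁻¹ (posD o).1)) (c : F) :
    n⁻¹ * D.yO o c * n ∈ BO Q e f := by
  rcases o with _ | i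
  · have h1 : Pat Q e f (tp k * σ) (tau Q e f * n) := (pat_tau D.hyp).mul hσ
    have h2 : rho (k + 2) ((tp k * σ)⁻¹ (pos (some (i0 k))).2)
        < rho (k + 2) ((tp k * σ)⁻¹ (pos (some (i0 k))).1) := by
      rw [_root_.mul_inv_rev, tp_inv, Equiv.Perm.mul_apply, Equiv.Perm.mul_apply, ← posD_none_fst_tp,
        ← posD_none_snd_tp, ← Equiv.Perm.mul_apply (tp k), ← Equiv.Perm.mul_apply (tp k),
        tp_mul_self, Equiv.Perm.one_apply, Equiv.Perm.one_apply]
      exact hlt
    have h3 := conj_yA_mem D.hyp h1 (i0 k) h2 c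
    have e1 : (tau Q e f * n)⁻¹ * yA Q e f (i0 k) c * (tau Q e f * n)
        = n⁻¹ * D.yO none c * n := by
      change _ = n⁻¹ * tc Q e f (yA Q e f (i0 k) c) * n
      rw [tc_apply, _root_.mul_inv_rev, tau_inv]
      group
    rwa [e1] at h3
  · exact conj_yA_mem D.hyp hσ i hlt c

/-- a conjugate of a positive root element by its reflection leaves the flag stabiliser. -/
theorem conj_testO_not_mem (o : Option (Fin (k + 1))) :
    D.genO o * D.xO o 1 * (D.genO o)⁻¹ ∉ BO Q e f := by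
  rcases o with _ | i
  · change tc Q e f (sA D.hyp (i0 k)) * tc Q e f (xA Q e f (i0 k) 1)
      * (tc Q e f (sA D.hyp (i0 k)))⁻¹ ∉ BO Q e f
    rw [← map_inv, ← map_mul, ← map_mul, D.tc_mem_BO_iff]
    exact conj_testA_not_mem D.hyp _
  · exact conj_testA_not_mem D.hyp i

end DData

end Cfsg.Agent.Helper8.ODt
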