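import Mathlib
import Cfsg.Agent.Helper8.ODtC
import Cfsg.Agent.Helper8.OStL

set_option autoImplicit false

/-!
# The `(B, N)`-pair of the Siegel group of a hyperbolic quadratic space (type `D`) (helper8)
-/

namespace Cfsg.Agent.Helper8.ODt

open Module Matrix Cfsg.Agent.Helper8.QuadForm Cfsg.Agent.Helper8.WittQuad
  Cfsg.Agent.Helper8.OrthOrder
  Cfsg.Agent.Helper8.Siegel Cfsg.Agent.Helper8.SiegelGroup Cfsg.Agent.Helper8.OGenA
  Cfsg.Agent.Helper8.OGenB Cfsg.Agent.Helper8.OGenG Cfsg.Agent.Lead.SpFus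
  Cfsg.Agent.Lead.SpBN Cfsg.Agent.Helper8.OSt

variable {F : Type*} [Field F] {V : Type*} [AddCommGroup V] [Module F V] [FiniteDimensional F V]
variable {k : ℕ} {Q : QuadraticForm F V} {e f : Fin (k + 2) → V}

namespace DData

/-- the flag stabiliser in the Siegel group. -/
def Bs (_D : DData Q e f) : Subgroup ↥(SG Q) := (BO Q e f).subgroupOf (SG Q)

variable (D : DData Q e f)

/-- the monomial subgroup of the Siegel group, with patterns in the Weyl group of type `D`. -/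
def Ns : Subgroup ↥(SG Q) where
  carrier := {g | ∃ σ ∈ WD k, Pat Q e f σ (g : ↥(Isom Q))}
  mul_mem' := by
    rintro a b ⟨σ, hσ, h1⟩ ⟨τ, hτ, h2⟩
    exact ⟨σ * τ, Subgroup.mul_mem _ hσ hτ, by rw [Subgroup.coe_mul]; exact h1.mul h2⟩
  one_mem' := ⟨1, Subgroup.one_mem _, Pat.one⟩
  inv_mem' := by
    rintro a ⟨σ, hσ, h1⟩
    exact ⟨σ⁻¹, Subgroup.inv_mem _ hσ, by rw [Subgroup.coe_inv]; exact h1.inv D.hyp⟩

/-- the representatives of the fundamental reflections. -/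
noncomputable def gen (o : Option (Fin (k + 1))) : ↥(SG Q) := ⟨D.genO o, D.genO_mem_SG o⟩

/-- the set of the representatives. -/
def Ss : Set ↥(SG Q) := Set.range D.gen

/-- the positive root elements. -/
noncomputable def xs (o : Option (Fin (k + 1))) (c : F) : ↥(SG Q) := ⟨D.xO o c, D.xO_mem_SG o c⟩

/-- the negative root elements. -/
noncomputable def ys (o : Option (Fin (k + 1))) (c : F) : ↥(SG Q) := ⟨D.yO o c, D.yO_mem_SG o c⟩

theorem mem_Bs {g : ↥(SG Q)} : g ∈ D.Bs ↔ (g : ↥(Isom Q)) ∈ BO Q e f := Subgroup.mem_subgroupOf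

theorem mem_Ns {g : ↥(SG Q)} : g ∈ D.Ns ↔ ∃ σ ∈ WD k, Pat Q e f σ (g : ↥(Isom Q)) := Iff.rfl

theorem gen_coe (o : Option (Fin (k + 1))) : ((D.gen o : ↥(SG Q)) : ↥(Isom Q)) = D.genO o := rfl

theorem gen_mem_Ns (o : Option (Fin (k + 1))) : D.gen o ∈ D.Ns :=
  D.mem_Ns.mpr ⟨_, patD_mem_WD o, D.pat_genO o⟩

theorem Ss_subset : D.Ss ⊆ (D.Ns : Set ↥(SG Q)) := by
  rintro _ ⟨o, rfl⟩
  exact D.gen_mem_Ns o

theorem mem_Bs_of_pat_one {g : ↥(SG Q)} (h : Pat Q e f 1 (g : ↥(Isom Q))) : g ∈ D.Bs :=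
  D.mem_Bs.mpr (TO_le_BO D.hyp h)

theorem pat_one_of_mem_inf {g : ↥(SG Q)} (hg : g ∈ D.Bs ⊓ D.Ns) :
    Pat Q e f 1 (g : ↥(Isom Q)) := by
  obtain ⟨σ, -, hσ⟩ := D.mem_Ns.mp hg.2
  have := pat_eq_one_of_mem_BO D.hyp (D.mem_Bs.mp hg.1) hσ
  rwa [this] at hσ

theorem mem_inf_of_pat_one {g : ↥(SG Q)} (h : Pat Q e f 1 (g : ↥(Isom Q))) : g ∈ D.Bs ⊓ D.Ns :=
  ⟨D.mem_Bs_of_pat_one h, D.mem_Ns.mpr ⟨1, Subgroup.one_mem _, h⟩⟩

theorem gen_sq_mem (o : Option (Fin (k + 1))) : D.gen o * D.gen o ∈ D.Bs := by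
  apply D.mem_Bs_of_pat_one
  have h := (D.pat_genO o).mul (D.pat_genO o)
  rw [patD_mul_self] at h
  exact h

theorem gen_inj {o o' : Option (Fin (k + 1))} (h : (D.gen o)⁻¹ * D.gen o' ∈ D.Bs) : o = o' := by
  have h1 := (D.pat_genO_inv o).mul (D.pat_genO o')
  have h2 := pat_eq_one_of_mem_BO D.hyp (D.mem_Bs.mp h) h1
  apply patD_injective
  have h3 : patD o * (patD o * patD o') = patD o * 1 := by rw [h2]
  rw [← mul_assoc, patD_mul_self, one_mul, mul_one] at h3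
  exact h3.symm

theorem conj_mem_Bs {n t : ↥(SG Q)} (hn : n ∈ D.Ns) (ht : t ∈ D.Bs ⊓ D.Ns) :
    n * t * n⁻¹ ∈ D.Bs := by
  apply D.mem_Bs_of_pat_one
  obtain ⟨σ, -, hσ⟩ := D.mem_Ns.mp hn
  have := conj_mem_TO D.hyp ⟨σ, hσ⟩ (D.pat_one_of_mem_inf ht)
  exact this

/-- `N` is generated by the representatives and `B ⊓ N`. -/
theorem closure_sup_eq : Subgroup.closure D.Ss ⊔ (D.Bs ⊓ D.Ns) = D.Ns := by
  apply le_antisymm
  · exact sup_le ((Subgroup.closure_le _).mpr D.Ss_subset) inf_le_right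
  · intro g hg
    obtain ⟨σ, hσ, h1⟩ := D.mem_Ns.mp hg
    have key : ∀ σ ∈ WD k, ∀ g : ↥(SG Q),
        Pat Q e f σ (g : ↥(Isom Q)) → g ∈ Subgroup.closure D.Ss ⊔ (D.Bs ⊓ D.Ns) := by
      intro σ hσ
      induction hσ using Subgroup.closure_induction_left with
      | one =>
        intro g h1
        exact Subgroup.mem_sup_right (D.mem_inf_of_pat_one h1)
      | mul_left x hx y hy ih =>
        intro g h1
        obtain ⟨o, rfl⟩ := hx
        have e : g = D.gen o * ((D.gen o)⁻¹ * g) := by group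
        rw [e]
        apply Subgroup.mul_mem
        · exact Subgroup.mem_sup_left (Subgroup.subset_closure ⟨o, rfl⟩)
        · apply ih
          have h3 := (D.pat_genO_inv o).mul h1
          rw [← mul_assoc, patD_mul_self, one_mul] at h3
          exact h3
      | inv_mul_cancel x hx y hy ih =>
        intro g h1
        obtain ⟨o, rfl⟩ := hx
        rw [patD_inv] at h1
        have e : g = D.gen o * ((D.gen o)⁻¹ * g) := by group
        rw [e]
        apply Subgroup.mul_mem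
        · exact Subgroup.mem_sup_left (Subgroup.subset_closure ⟨o, rfl⟩)
        · apply ih
          have h3 := (D.pat_genO_inv o).mul h1
          rw [← mul_assoc, patD_mul_self, one_mul] at h3
          exact h3
    exact key σ hσ g h1

theorem xs_zero (o : Option (Fin (k + 1))) : D.xs o 0 = 1 := Subtype.ext (D.xO_zero o)

theorem xs_inv (o : Option (Fin (k + 1))) (c : F) : (D.xs o c)⁻¹ = D.xs o (-c) :=
  Subtype.ext (D.xO_inv o c)

theorem xs_mem (o : Option (Fin (k + 1))) (c : F) : D.xs o c ∈ D.Bs :=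
  D.mem_Bs.mpr (D.xO_mem_BO o c)

/-- The double coset axiom. -/
theorem mul_mem_union' (o : Option (Fin (k + 1))) {n b : ↥(SG Q)} (hn : n ∈ D.Ns)
    (hb : b ∈ D.Bs) :
    D.gen o * b * n ∈ DoubleCoset.doubleCoset (D.gen o * n) (D.Bs : Set ↥(SG Q)) D.Bs ∪
      DoubleCoset.doubleCoset n (D.Bs : Set ↥(SG Q)) D.Bs := by
  obtain ⟨σ, -, hσ⟩ := D.mem_Ns.mp hn
  have hne : rho (k + 2) (σ⁻¹ (posD o).1) ≠ rho (k + 2) (σ⁻¹ (posD o).2) := by
    intro h
    have := (σ⁻¹).injective (rho_injective _ h)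
    have hlt := posD_lt o
    rw [this] at hlt
    exact lt_irrefl _ hlt
  apply union_of_rank_one' D.Bs (D.xs o) (D.ys o) (D.xs_zero o) (D.xs_inv o)
  · obtain ⟨t, h⟩ := D.clearO o (D.mem_Bs.mp hb)
    exact ⟨t, D.mem_Bs.mpr h⟩
  · intro c hc
    exact ⟨-c⁻¹, D.mem_Bs.mpr (D.rankO o hc)⟩
  · rcases lt_or_gt_of_ne hne with h | h
    · exact Or.inl (fun c => D.mem_Bs.mpr (D.conj_xO_mem o hσ h c))
    · exact Or.inr (fun c => D.mem_Bs.mpr (D.conj_yO_mem o hσ h c))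

/-- The product `s b n` lies in `B s n B` when `n⁻¹` keeps the root positive. -/
theorem mul_mem_of_lt (o : Option (Fin (k + 1))) {n b : ↥(SG Q)}
    {σ : Equiv.Perm (Fin (k + 2) ⊕ Fin (k + 2))} (hσ : Pat Q e f σ (n : ↥(Isom Q)))
    (hlt : rho (k + 2) (σ⁻¹ (posD o).1) < rho (k + 2) (σ⁻¹ (posD o).2)) (hb : b ∈ D.Bs) :
    D.gen o * b * n ∈ DoubleCoset.doubleCoset (D.gen o * n) (D.Bs : Set ↥(SG Q)) D.Bs := by
  apply mem_of_pos' D.Bs (D.xs o) (D.xs_inv o)
  · obtain ⟨t, h⟩ := D.clearO o (D.mem_Bs.mp hb)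
    exact ⟨t, D.mem_Bs.mpr h⟩
  · exact fun c => D.mem_Bs.mpr (D.conj_xO_mem o hσ hlt c)

/-- the test element of a fundamental root. -/
noncomputable def testElt (o : Option (Fin (k + 1))) : ↥(SG Q) := D.xs o 1

theorem testElt_mem (o : Option (Fin (k + 1))) : D.testElt o ∈ D.Bs := D.xs_mem o 1

theorem conj_testElt_not_mem (o : Option (Fin (k + 1))) :
    D.gen o * D.testElt o * (D.gen o)⁻¹ ∉ D.Bs := by
  intro h
  have h1 := D.mem_Bs.mp h
  rw [Subgroup.coe_mul, Subgroup.coe_mul, Subgroup.coe_inv] at h1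
  exact D.conj_testO_not_mem o h1

/-- `s B s ≠ B`. -/
theorem conj_ne' (o : Option (Fin (k + 1))) :
    (fun b : ↥(SG Q) => D.gen o * b * D.gen o) '' (D.Bs : Set ↥(SG Q)) ≠ (D.Bs : Set ↥(SG Q)) := by
  intro heq
  apply D.conj_testElt_not_mem o
  have h1 : D.gen o * D.testElt o * D.gen o ∈ (D.Bs : Set ↥(SG Q)) := by
    rw [← heq]
    exact ⟨_, D.testElt_mem o, rfl⟩
  have e : D.gen o * D.testElt o * (D.gen o)⁻¹
      = (D.gen o * D.testElt o * D.gen o) * (D.gen o * D.gen o)⁻¹ := by group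
  rw [e]
  exact Subgroup.mul_mem _ h1 (Subgroup.inv_mem _ (D.gen_sq_mem o))

theorem sup_eq_top' (hQ : Nondeg Q) : D.Bs ⊔ D.Ns = ⊤ := by
  have hyp := D.hyp
  obtain ⟨H, hH⟩ : ∃ H : Subgroup ↥(Isom Q), H = (D.Bs ⊔ D.Ns).map (SG Q).subtype := ⟨_, rfl⟩
  have hgen : ∀ o, D.genO o ∈ H := by
    intro o
    rw [hH]
    exact ⟨D.gen o, Subgroup.mem_sup_right (D.gen_mem_Ns o), rfl⟩
  have hB : ∀ g : ↥(Isom Q), g ∈ SG Q → g ∈ BO Q e f → g ∈ H := by
    intro g hg hgB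
    rw [hH]
    exact ⟨⟨g, hg⟩, Subgroup.mem_sup_left (D.mem_Bs.mpr hgB), rfl⟩
  have full0 : Full Q H (e 0) :=
    ⟨(hyp.1 0).1, fun w hw => hB _ (siegG_mem_SG Q (hyp.1 0).1 hw) (siegG_e_zero_mem_BO hyp hw)⟩
  have fullE : ∀ m : Fin (k + 2), Full Q H (e m) := by
    intro m
    induction m using Fin.induction with
    | zero => exact full0
    | succ i ih =>
      have h1 := ih.conj (hgen (some i))
      obtain ⟨d, hd⟩ := D.pat_genO (some i) (Sum.inl i.castSucc)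
      have hd0 := Pat.coeff_ne_zero hyp hd
      rw [patD_some, genPat_some_inl, Equiv.swap_apply_left, fr_inl, fr_inl] at hd
      have h2 : Full Q H (d • e i.succ) := by
        rw [← hd]
        exact h1
      have h3 := h2.smul d⁻¹
      rwa [smul_smul, inv_mul_cancel₀ hd0, one_smul] at h3
  have fullF : Full Q H (f (Fin.last (k + 1))) := by
    have h1 := (fullE (i0 k).castSucc).conj (hgen none)
    obtain ⟨d, hd⟩ := D.pat_genO none (Sum.inl (i0 k).castSucc)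
    have hd0 := Pat.coeff_ne_zero hyp hd
    rw [patD_none_inl_pen, fr_inl, fr_inr] at hd
    have h2 : Full Q H (d • f (Fin.last (k + 1))) := by
      rw [← hd]
      exact h1
    have h3 := h2.smul d⁻¹
    rwa [smul_smul, inv_mul_cancel₀ hd0, one_smul] at h3
  have hle : SG Q ≤ H := SG_le_of_full hQ (fullE (Fin.last (k + 1))) fullF (by
    rw [hyp.2.1, if_pos rfl]
    exact one_ne_zero)
  rw [eq_top_iff]
  intro g _
  have := hle g.2
  rw [hH] at this
  obtain ⟨h, hh, hgh⟩ := this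
  have : h = g := Subtype.ext hgh
  rw [← this]
  exact hh

/-- **the `(B, N)`-pair of the Siegel group, type `D`.** -/
noncomputable def bn (hQ : Nondeg Q) : Cfsg.BNPair ↥(SG Q) where
  B := D.Bs
  N := D.Ns
  S := D.Ss
  sup_eq_top := D.sup_eq_top' hQ
  conj_mem := fun _ hn _ ht => D.conj_mem_Bs hn ht
  subset := D.Ss_subset
  sq_mem := by
    rintro _ ⟨o, rfl⟩
    exact D.gen_sq_mem o
  inj := by
    rintro _ ⟨o, rfl⟩ _ ⟨o', rfl⟩ h
    rw [D.gen_inj h]
  closure_sup := D.closure_sup_eq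
  mul_mem_union := by
    rintro _ ⟨o, rfl⟩ n hn b hb
    exact D.mul_mem_union' o hn hb
  conj_ne := by
    rintro _ ⟨o, rfl⟩
    exact D.conj_ne' o

end DData

end Cfsg.Agent.Helper8.ODt
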