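import Mathlib
import Cfsg.Agent.Helper8.OStP
import Cfsg.Agent.Helper7.BNParabolic
import Cfsg.Agent.Helper2.BaerSuzuki

set_option autoImplicit false

/-!
# The unipotent radical is a Sylow subgroup of the Siegel group (helper8)
-/

namespace Cfsg.Agent.Helper8.OSt

open Module Cfsg.Agent.Helper8.QuadForm Cfsg.Agent.Helper8.WittQuad
  Cfsg.Agent.Helper8.OrthOrder
  Cfsg.Agent.Helper8.Siegel Cfsg.Agent.Helper8.SiegelGroup Cfsg.Agent.Helper8.OGenA
  Cfsg.Agent.Helper8.OGenB Cfsg.Agent.Lead.SpFus Cfsg.Agent.Lead.SpBN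

variable {F : Type*} [Field F] {V : Type*} [AddCommGroup V] [Module F V] [FiniteDimensional F V]

section general

variable {r : ℕ} {Q : QuadraticForm F V} {e f : Fin r → V}

/-- the unipotent radical is normalised by the flag stabiliser. -/
theorem conj_mem_UO (hyp : IsHyp Q e f) {b u : ↥(Isom Q)} (hb : b ∈ BO Q e f)
    (hu : u ∈ UO Q e f) : b * u * b⁻¹ ∈ UO Q e f := by
  have hbi := (BO Q e f).inv_mem hb
  refine ⟨(BO Q e f).mul_mem ((BO Q e f).mul_mem hb hu.1) hbi, fun K v hv => ?_, fun w hw => ?_⟩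
  · have e1 : (b * u * b⁻¹) • v - v = b • (u • (b⁻¹ • v) - b⁻¹ • v) := by
      rw [mul_smul, mul_smul, smul_sub, smul_inv_smul]
    rw [e1]
    exact hb _ _ (hu.2.1 K _ (hbi _ _ hv))
  · have e1 : (b * u * b⁻¹) • w - w = b • (u • (b⁻¹ • w) - b⁻¹ • w) := by
      rw [mul_smul, mul_smul, smul_sub, smul_inv_smul]
    rw [e1]
    apply hb
    have hco : co Q e (b⁻¹ • w) = 0 := by
      funext i
      rw [co_apply, polar_smul_right', inv_inv, Pi.zero_apply, QuadraticMap.polar_comm]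
      exact polar_of_mem_E (smul_e_mem hyp hb i) (polar_W0_e hw)
    have hdec := decomp_eq (Q := Q) (e := e) (f := f) (b⁻¹ • w)
    rw [hco, map_zero, add_zero] at hdec
    have hy : lc e (co Q f (b⁻¹ • w)) ∈ E Q e f r :=
      lc_mem_E hyp (fun i hi => absurd i.2 (not_lt.mpr hi))
    have e2 : u • (b⁻¹ • w) - b⁻¹ • w
        = (u • lc e (co Q f (b⁻¹ • w)) - lc e (co Q f (b⁻¹ • w)))
          + (u • pi0 Q e f (b⁻¹ • w) - pi0 Q e f (b⁻¹ • w)) := by
      conv_lhs => rw [hdec]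
      rw [smul_add]
      abel
    rw [e2]
    exact Submodule.add_mem _ (Submodule.sub_mem _ (hu.1 _ _ hy) hy)
      (hu.2.2 _ (pi0_mem_W0 hyp _))

end general

variable {k : ℕ} {Q : QuadraticForm F V} {e f : Fin (k + 1) → V} {a₀ : V}

namespace WData

/-- the unipotent radical, in the Siegel group. -/
def Us (_D : WData Q e f a₀) : Subgroup ↥(SG Q) := (UO Q e f).subgroupOf (SG Q)

variable (D : WData Q e f a₀)

theorem mem_Us {g : ↥(SG Q)} : g ∈ D.Us ↔ (g : ↥(Isom Q)) ∈ UO Q e f := Subgroup.mem_subgroupOf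

theorem Us_le_Bs : D.Us ≤ D.Bs := fun _ hg => D.mem_Bs.mpr (UO_le_BO (D.mem_Us.mp hg))

theorem conj_mem_Us {b u : ↥(SG Q)} (hb : b ∈ D.Bs) (hu : u ∈ D.Us) : b * u * b⁻¹ ∈ D.Us := by
  rw [D.mem_Us, Subgroup.coe_mul, Subgroup.coe_mul, Subgroup.coe_inv]
  exact conj_mem_UO D.hyp (D.mem_Bs.mp hb) (D.mem_Us.mp hu)

include D in
theorem nontrivial_V : Nontrivial V := ⟨⟨e 0, 0, e_ne_zero D.hyp 0⟩⟩

theorem isPGroup_Us (p : ℕ) [Fact p.Prime] [CharP F p] : IsPGroup p ↥D.Us := by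
  haveI := D.nontrivial_V
  intro g
  obtain ⟨n, hn⟩ := isPGroup_UO D.hyp p ⟨((g : ↥(SG Q)) : ↥(Isom Q)), D.mem_Us.mp g.2⟩
  refine ⟨n, ?_⟩
  apply Subtype.ext
  apply Subtype.ext
  have := congrArg Subtype.val hn
  rw [Subgroup.coe_pow, Subgroup.coe_one] at this
  rw [Subgroup.coe_pow, Subgroup.coe_pow, Subgroup.coe_one, Subgroup.coe_one]
  exact this

theorem testElt_mem_Us (o : Option (Fin k)) : D.testElt o ∈ D.Us := by
  rw [D.mem_Us]
  rcases o with _ | i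
  · rw [D.testElt_coe_none]
    exact siegG_mem_UO D.hyp _ (fun l _ => ⟨polar_e_W0 D.ha₀ l, polar_f_W0 D.ha₀ l⟩)
  · rw [D.testElt_coe_some]
    unfold xA
    apply siegG_mem_UO D.hyp
    intro l hl
    have hls : l ≠ i.succ := by
      intro h
      rw [h, Fin.val_succ] at hl
      change (i : ℕ) + 1 ≤ (i : ℕ) at hl
      omega
    rw [QuadraticMap.polar_smul_right, QuadraticMap.polar_smul_right, D.hyp.2.1, if_neg hls,
      (D.hyp.2.2 _ _).2, smul_zero]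
    exact ⟨rfl, rfl⟩

/-- the decomposition of the flag stabiliser, in the Siegel group. -/
theorem exists_Us_mul_T {b : ↥(SG Q)} (hb : b ∈ D.Bs) :
    ∃ u ∈ D.Us, Pat Q e f 1 ((u⁻¹ * b : ↥(SG Q)) : ↥(Isom Q)) := by
  obtain ⟨u, huU, huS, hp⟩ := exists_UO_mul_TO D.hyp (D.mem_Bs.mp hb)
  refine ⟨⟨u, huS⟩, D.mem_Us.mpr huU, ?_⟩
  rw [Subgroup.coe_mul, Subgroup.coe_inv]
  exact hp

theorem eq_one_of_mem_Us_of_pat {g : ↥(SG Q)} (hg : g ∈ D.Us)
    (hp : Pat Q e f 1 (g : ↥(Isom Q))) : g = 1 :=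
  Subtype.ext (eq_one_of_mem_UO_of_pat_one D.hyp (D.mem_Us.mp hg) hp)

end WData

end Cfsg.Agent.Helper8.OSt
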