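import Mathlib
import Cfsg.Agent.Helper8.OStQ

set_option autoImplicit false

/-!
# The unipotent radical is a Sylow subgroup of the Siegel group, continued (helper8)
-/

namespace Cfsg.Agent.Helper8.OSt

open Module Cfsg.Agent.Helper8.QuadForm Cfsg.Agent.Helper8.WittQuad
  Cfsg.Agent.Helper8.OrthOrder
  Cfsg.Agent.Helper8.Siegel Cfsg.Agent.Helper8.SiegelGroup Cfsg.Agent.Helper8.OGenA
  Cfsg.Agent.Helper8.OGenB Cfsg.Agent.Lead.SpFus Cfsg.Agent.Lead.SpBN Cfsg.Agent.Helper7.BN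

variable {F : Type*} [Field F] {V : Type*} [AddCommGroup V] [Module F V] [FiniteDimensional F V]
variable {k : ℕ} {Q : QuadraticForm F V} {e f : Fin (k + 1) → V} {a₀ : V}

namespace WData

variable (D : WData Q e f a₀)

theorem Bs_le_normalizer_Us : D.Bs ≤ Subgroup.normalizer (D.Us : Set ↥(SG Q)) := by
  intro b hb
  rw [Subgroup.mem_normalizer_iff]
  intro h
  constructor
  · exact fun hh => D.conj_mem_Us hb hh
  · intro hh
    have := D.conj_mem_Us (D.Bs.inv_mem hb) hh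
    have e1 : b⁻¹ * (b * h * b⁻¹) * b⁻¹⁻¹ = h := by group
    rwa [e1] at this

/-- the normaliser of the unipotent radical is the flag stabiliser. -/
theorem normalizer_Us_le (hQ : Nondeg Q) :
    Subgroup.normalizer (D.Us : Set ↥(SG Q)) ≤ D.Bs := by
  intro g hg
  obtain ⟨M, hMdef⟩ : ∃ M, M = D.Bs ⊔ Subgroup.zpowers g := ⟨_, rfl⟩
  have hBM : (D.bn hQ).B ≤ M := by
    rw [hMdef]
    exact le_sup_left
  have hMN : M ≤ Subgroup.normalizer (D.Us : Set ↥(SG Q)) := by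
    rw [hMdef]
    apply sup_le D.Bs_le_normalizer_Us
    rw [Subgroup.zpowers_le]
    exact hg
  have hpar := eq_parabolic_of_le (D.bn hQ) M hBM
  have hempty : (D.bn hQ).S ∩ (M : Set ↥(SG Q)) = ∅ := by
    rw [Set.eq_empty_iff_forall_notMem]
    rintro s ⟨⟨o, rfl⟩, hsM⟩
    have h1 := (Subgroup.mem_normalizer_iff.mp (hMN hsM) (D.testElt o)).mp (D.testElt_mem_Us o)
    exact D.conj_testElt_not_mem o (D.Us_le_Bs h1)
  rw [hempty] at hpar
  have hMB : M = D.Bs := by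
    rw [hpar]
    unfold Cfsg.BNPair.parabolic
    rw [Subgroup.closure_empty, sup_bot_eq]
    rfl
  rw [← hMB, hMdef]
  exact Subgroup.mem_sup_right (Subgroup.mem_zpowers g)

/-- powers of a product of a unipotent element and an element of `B`. -/
theorem exists_pow_eq {u t : ↥(SG Q)} (hu : u ∈ D.Us) (ht : t ∈ D.Bs) (n : ℕ) :
    ∃ u' ∈ D.Us, (u * t) ^ n = u' * t ^ n := by
  induction n with
  | zero => exact ⟨1, Subgroup.one_mem _, by rw [pow_zero, pow_zero, mul_one]⟩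
  | succ n ih =>
    obtain ⟨u', hu', h⟩ := ih
    refine ⟨u' * (t ^ n * u * (t ^ n)⁻¹), Subgroup.mul_mem _ hu'
      (D.conj_mem_Us (Subgroup.pow_mem _ ht n) hu), ?_⟩
    rw [pow_succ, h, pow_succ]
    group

/-- the elements of `p`-power order of the flag stabiliser lie in the unipotent radical, when
the diagonal subgroup has no such element. -/
theorem mem_Us_of_pow_eq_one (p : ℕ)
    (hT : ∀ t : ↥(SG Q), Pat Q e f 1 (t : ↥(Isom Q)) → (∃ n : ℕ, t ^ p ^ n = 1) → t = 1)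
    {x : ↥(SG Q)} (hx : x ∈ D.Bs) {n : ℕ} (hxn : x ^ p ^ n = 1) : x ∈ D.Us := by
  obtain ⟨u, hu, hp⟩ := D.exists_Us_mul_T hx
  obtain ⟨t, ht⟩ : ∃ t, t = u⁻¹ * x := ⟨_, rfl⟩
  rw [← ht] at hp
  have htB : t ∈ D.Bs := D.mem_Bs_of_pat_one hp
  have hxu : x = u * t := by rw [ht]; group
  obtain ⟨u', hu', h⟩ := D.exists_pow_eq hu htB (p ^ n)
  rw [← hxu, hxn] at h
  have h1 : t ^ p ^ n = u'⁻¹ := eq_inv_of_mul_eq_one_right h.symm
  have h2 : t ^ p ^ n ∈ D.Us := by
    rw [h1]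
    exact Subgroup.inv_mem _ hu'
  have hpow : ∀ m : ℕ, Pat Q e f 1 ((t ^ m : ↥(SG Q)) : ↥(Isom Q)) := by
    intro m
    induction m with
    | zero =>
      rw [pow_zero]
      exact Pat.one
    | succ m ih =>
      rw [pow_succ, Subgroup.coe_mul]
      have := ih.mul hp
      rwa [mul_one] at this
  have h3 : t ^ p ^ n = 1 := D.eq_one_of_mem_Us_of_pat h2 (hpow _)
  have h4 : t = 1 := hT t hp ⟨n, h3⟩
  rw [hxu, h4, mul_one]
  exact hu

end WData

end Cfsg.Agent.Helper8.OSt
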