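import Mathlib
import Cfsg.Agent.Helper8.OStR
import Cfsg.Agent.Lead.SLBND

set_option autoImplicit false

/-!
# The Steinberg character of the Siegel group of a quadratic form (helper8)
-/

namespace Cfsg.Agent.Helper8.OSt

open Module Cfsg.Agent.Helper8.QuadForm Cfsg.Agent.Helper8.WittQuad
  Cfsg.Agent.Helper8.OrthOrder
  Cfsg.Agent.Helper8.Siegel Cfsg.Agent.Helper8.SiegelGroup Cfsg.Agent.Helper8.OGenA
  Cfsg.Agent.Helper8.OGenB Cfsg.Agent.Lead.SpFus Cfsg.Agent.Lead.SpBN Cfsg.Agent.Helper7.BN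
  Cfsg.Agent.Lead.SteinChar Cfsg.Agent.Lead.SteinBN

variable {F : Type*} [Field F] {V : Type*} [AddCommGroup V] [Module F V] [FiniteDimensional F V]
variable {k : ℕ} {Q : QuadraticForm F V} {e f : Fin (k + 1) → V} {a₀ : V}

namespace WData

variable (D : WData Q e f a₀)

/-- the unipotent radical is a Sylow subgroup. -/
theorem not_dvd_index_Us [Finite ↥(SG Q)] (hQ : Nondeg Q) (p : ℕ) [Fact p.Prime] [CharP F p]
    (hT : ∀ t : ↥(SG Q), Pat Q e f 1 (t : ↥(Isom Q)) → (∃ n : ℕ, t ^ p ^ n = 1) → t = 1) :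
    ¬ p ∣ D.Us.index := by
  let S : Sylow p ↥(SG Q) :=
    { toSubgroup := D.Us
      isPGroup' := D.isPGroup_Us p
      is_maximal' := by
        intro R hR hUR
        by_contra hne
        have hlt : D.Us < R := lt_of_le_of_ne hUR (Ne.symm hne)
        obtain ⟨r, hrR, hrU, hrN⟩ := Cfsg.Agent.Helper2.exists_mem_normalizer_notMem_of_lt hR hlt
        apply hrU
        obtain ⟨n, hn⟩ := hR ⟨r, hrR⟩
        have hn' : r ^ p ^ n = 1 := by
          have := congrArg Subtype.val hn
          simpa using this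
        exact D.mem_Us_of_pow_eq_one p hT (D.normalizer_Us_le hQ hrN) hn' }
  exact S.not_dvd_index

/-- the diagonal subgroup of `B` has the unipotent radical as a complement. -/
theorem index_eq_card_Us (T' : Subgroup ↥D.Bs)
    (hT : ∀ b : ↥D.Bs, b ∈ T' ↔ Pat Q e f 1 (((b : ↥(SG Q)) : ↥(Isom Q)))) :
    T'.index = Nat.card D.Us := by
  have hcompl : Subgroup.IsComplement' (D.Us.subgroupOf D.Bs) T' := by
    apply Subgroup.isComplement'_of_disjoint_and_mul_eq_univ
    · rw [Subgroup.disjoint_def]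
      intro x hx hxT
      rw [Subgroup.mem_subgroupOf] at hx
      rw [hT] at hxT
      apply Subtype.ext
      exact D.eq_one_of_mem_Us_of_pat hx hxT
    · rw [Set.eq_univ_iff_forall]
      intro b
      obtain ⟨u, hu, hp⟩ := D.exists_Us_mul_T b.2
      refine Set.mem_mul.mpr ⟨⟨u, D.Us_le_Bs hu⟩, ?_, ⟨u⁻¹ * b, D.mem_Bs_of_pat_one hp⟩, ?_, ?_⟩
      · rw [SetLike.mem_coe, Subgroup.mem_subgroupOf]
        exact hu
      · rw [SetLike.mem_coe, hT]
        exact hp
      · apply Subtype.ext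
        change u * (u⁻¹ * (b : ↥(SG Q))) = b
        group
  rw [hcompl.index_eq_card]
  exact Nat.card_congr (Subgroup.subgroupOfEquivOfLe D.Us_le_Bs).toEquiv

theorem center_le_Bs (hQ : Nondeg Q) : Subgroup.center ↥(SG Q) ≤ D.Bs := by
  have h := normalizer_eq_of_le (D.bn hQ) (M := D.Bs) le_rfl
  intro z hz
  have := Subgroup.center_le_normalizer (s := (D.Bs : Set ↥(SG Q))) hz
  rw [h] at this
  exact this

/-- **the Steinberg character of the Siegel group.** -/
theorem exists_steinberg_SG [Finite ↥(SG Q)] (hQ : Nondeg Q) :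
    ∃ χ : ↥(SG Q) → ℂ,
      Cfsg.IsIrrCharacter ↥(SG Q) χ ∧
      χ 1 = Nat.card D.Us ∧
      ∀ z ∈ Subgroup.center ↥(SG Q), χ z = χ 1 := by
  letI : Fintype ↥(SG Q) := Fintype.ofFinite _
  have himg : D.gen '' (((Finset.univ : Finset (Option (Fin k))) : Set (Option (Fin k)))) =
      (D.bn hQ).S := by
    rw [Finset.coe_univ, Set.image_univ]
    rfl
  have hpar : ∀ J : Finset (Option (Fin k)), J ⊆ Finset.univ →
      (fun J : Finset (Option (Fin k)) =>
        (D.bn hQ).parabolic (D.gen '' (J : Set (Option (Fin k))))) J =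
        (D.bn hQ).parabolic (D.gen '' (J : Set (Option (Fin k)))) := fun _ _ => rfl
  obtain ⟨n₀, hn0, hp0⟩ := D.exists_longest
  refine ⟨St Finset.univ (fun J : Finset (Option (Fin k)) =>
    (D.bn hQ).parabolic (D.gen '' (J : Set (Option (Fin k))))),
    isIrrCharacter_St (D.bn hQ) himg hpar, ?_, ?_⟩
  · have hn0' : n₀ ∈ (D.bn hQ).N := hn0
    have hgood : ∀ o ∈ (Finset.univ : Finset (Option (Fin k))),
        Good (D.bn hQ) (rr (D.bn hQ) D.gen o)
          (rr (D.bn hQ) D.gen o * proj (D.bn hQ) ⟨n₀, hn0'⟩) := by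
      intro o _
      have hsN : D.gen o ∈ (D.bn hQ).N := D.gen_mem_Ns o
      rw [rr_eq (D.bn hQ) hsN, ← map_mul]
      apply good_of_rep
      intro b hb
      have h1 : Pat Q e f (genPat o * swp (k + 1))
          (((D.gen o * n₀ : ↥(SG Q))) : ↥(Isom Q)) := by
        rw [Subgroup.coe_mul]
        exact (D.pat_genO o).mul hp0
      have hlt : rho (k + 1) ((genPat o * swp (k + 1))⁻¹ (pos o).1) <
          rho (k + 1) ((genPat o * swp (k + 1))⁻¹ (pos o).2) := by
        rw [_root_.mul_inv_rev, genPat_inv, swp_inv, Equiv.Perm.mul_apply, Equiv.Perm.mul_apply,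
          genPat_pos, genPat_pos', swp_apply, swp_apply, rho_swap_lt]
        exact pos_lt o
      exact D.mul_mem_of_lt o h1 hlt hb
    have key := St_apply_B_of_good (D.bn hQ) (I := Finset.univ) (s := D.gen)
      (par := fun J : Finset (Option (Fin k)) =>
        (D.bn hQ).parabolic (D.gen '' (J : Set (Option (Fin k)))))
      himg hpar ⟨n₀, hn0'⟩ hgood 1
    rw [Subgroup.coe_one, fixedPointCharacter_one] at key
    rw [key]
    congr 1
    apply D.index_eq_card_Us
    intro b
    exact (mem_stab_inv_proj (D.bn hQ) ⟨n₀, hn0'⟩ b).trans (D.conj_w0_mem_iff hp0 b.2)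
  · intro z hz
    unfold St
    apply Finset.sum_congr rfl
    intro J _
    congr 1
    exact Cfsg.Agent.Lead.SLBN.fixedPointCharacter_central _ hz
      (Subgroup.mem_sup_left (D.center_le_Bs hQ hz))

end WData

end Cfsg.Agent.Helper8.OSt
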