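import Mathlib
import Cfsg.Agent.Helper8.OStS
import Cfsg.Agent.Helper8.OmegaSimple
import Cfsg.Agent.Helper8.OmegaStd2
import Cfsg.Agent.Helper1.SUJn

set_option autoImplicit false

/-!
# The Steinberg character of `PΩ(Q)`: reduction to the diagonal subgroup (helper8)
-/

namespace Cfsg.Agent.Helper8.OSt

open Module Cfsg.Agent.Helper8.QuadForm Cfsg.Agent.Helper8.WittQuad
  Cfsg.Agent.Helper8.OrthOrder
  Cfsg.Agent.Helper8.Siegel Cfsg.Agent.Helper8.SiegelGroup Cfsg.Agent.Helper8.OGenA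
  Cfsg.Agent.Helper8.OGenB Cfsg.Agent.Lead.SpFus Cfsg.Agent.Lead.SpBN Cfsg.Agent.Helper7.BN

section general

variable {F : Type*} [Field F] {V : Type*} [AddCommGroup V] [Module F V]
variable {r : ℕ} {Q : QuadraticForm F V} {e f : Fin r → V}

theorem scalar_eq_one (p : ℕ) [Fact p.Prime] [CharP F p] {c : F} {n : ℕ}
    (h : c ^ p ^ n = 1) : c = 1 := by
  have h1 : (c - 1) ^ p ^ n = 0 := by
    rw [sub_pow_char_pow, h, one_pow, sub_self]
  exact sub_eq_zero.mp (pow_eq_zero_iff (pow_ne_zero n (Fact.out : p.Prime).ne_zero) |>.mp h1)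

theorem pow_smul_of_smul_eq {g : ↥(Isom Q)} {v : V} {c : F} (h : g • v = c • v) (j : ℕ) :
    (g ^ j) • v = c ^ j • v := by
  induction j with
  | zero => rw [pow_zero, pow_zero, one_smul, one_smul]
  | succ j ih =>
    rw [pow_succ, mul_smul, h, smul_comm, ih, smul_smul, pow_succ, mul_comm]

/-- an eigenvector of an isometry of `p`-power order is fixed. -/
theorem smul_eq_of_pow_eq_one (p : ℕ) [Fact p.Prime] [CharP F p] {g : ↥(Isom Q)} {v : V} {c : F}
    (h : g • v = c • v) (hv : v ≠ 0) {n : ℕ} (hg : g ^ p ^ n = 1) : g • v = v := by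
  have h1 := pow_smul_of_smul_eq h (p ^ n)
  rw [hg, one_smul] at h1
  have h2 : (c ^ p ^ n - 1) • v = 0 := by rw [sub_smul, one_smul, ← h1, sub_self]
  have h3 : c ^ p ^ n = 1 := by
    rcases smul_eq_zero.mp h2 with h3 | h3
    · exact sub_eq_zero.mp h3
    · exact absurd h3 hv
  rw [h, scalar_eq_one p h3, one_smul]

/-- a diagonal isometry of `p`-power order fixes the frame. -/
theorem fix_frame_of_pow_eq_one (hyp : IsHyp Q e f) (p : ℕ) [Fact p.Prime] [CharP F p]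
    {g : ↥(Isom Q)} (hp : Pat Q e f 1 g) {n : ℕ} (hg : g ^ p ^ n = 1) (a : Fin r ⊕ Fin r) :
    g • fr e f a = fr e f a := by
  obtain ⟨c, hc⟩ := hp a
  rw [Equiv.Perm.one_apply] at hc
  exact smul_eq_of_pow_eq_one p hc (fr_ne_zero hyp a) hg

/-- the criterion for the diagonal subgroup: an isometry of `p`-power order of the anisotropic
kernel is trivial. -/
theorem hT_of_W0 (hyp : IsHyp Q e f) (p : ℕ) [Fact p.Prime] [CharP F p]
    (hW : ∀ g : ↥(Isom Q), (∀ w ∈ W0 Q e f, g • w ∈ W0 Q e f) → (∃ n : ℕ, g ^ p ^ n = 1) →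
      g ∈ SG Q → (∀ a, g • fr e f a = fr e f a) → ∀ w ∈ W0 Q e f, g • w = w)
    (t : ↥(SG Q)) (hp : Pat Q e f 1 (t : ↥(Isom Q))) (ht : ∃ n : ℕ, t ^ p ^ n = 1) : t = 1 := by
  obtain ⟨n, hn⟩ := ht
  have hn' : (t : ↥(Isom Q)) ^ p ^ n = 1 := by
    rw [← Subgroup.coe_pow, hn, Subgroup.coe_one]
  apply Subtype.ext
  rw [Subgroup.coe_one]
  have hfix := fix_frame_of_pow_eq_one hyp p hp hn'
  exact eq_one_of_fix hfix
    (hW _ (fun w hw => smul_mem_W0 hyp hp hw) ⟨n, hn'⟩ t.2 hfix) hyp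

end general

section transfer

universe u

variable {F : Type u} [Field F] [Fintype F] {ι : Type} [Fintype ι] [DecidableEq ι]
  (Q : QuadraticForm F (ι → F))

/-- **the Steinberg character of `PΩ(Q)`**, from the frame data. -/
theorem steinberg_POmega {k : ℕ} {e f : Fin (k + 1) → (ι → F)} {a₀ : ι → F}
    (D : WData Q e f a₀) (hQ : (QuadraticMap.polarBilin Q).Nondegenerate)
    (h5 : 5 ≤ Fintype.card ι) (p : ℕ) [Fact p.Prime] [CharP F p]
    (hT : ∀ t : ↥(SG Q), Pat Q e f 1 (t : ↥(Isom Q)) → (∃ n : ℕ, t ^ p ^ n = 1) → t = 1) :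
    ∃ χ : Cfsg.POmega F ⇑Q → ℂ, Cfsg.IsIrrCharacter (Cfsg.POmega F ⇑Q) χ ∧
      ∀ P : Sylow p (Cfsg.POmega F ⇑Q), χ 1 = Nat.card P ∧
        ∀ x : Cfsg.POmega F ⇑Q, x ∈ P → x ≠ 1 → χ x = 0 := by
  have hQ' : Nondeg Q := (nondeg_iff Q).mp hQ
  haveI : Finite ↥(SG Q) := by
    have : Finite ((ι → F) ≃ₗ[F] (ι → F)) :=
      Finite.of_injective (fun g : (ι → F) ≃ₗ[F] (ι → F) => (g : (ι → F) → (ι → F)))
        DFunLike.coe_injective
    infer_instance
  obtain ⟨χ, hirr, h1, hz⟩ := D.exists_steinberg_SG hQ'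
  exact Cfsg.Agent.Helper1.SUJ.steinberg_of_iso
    (Cfsg.Agent.Helper8.OmegaSimple.omegaEquiv Q hQ h5) p D.Us (D.isPGroup_Us p)
    (D.not_dvd_index_Us hQ' p hT) χ hirr h1 hz

end transfer

end Cfsg.Agent.Helper8.OSt
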