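import Mathlib
import Cfsg.Agent.Helper8.ODtD
import Cfsg.Agent.Helper8.OStT

set_option autoImplicit false

/-!
# The Steinberg character of the Siegel group of a hyperbolic quadratic space (helper8)
-/

namespace Cfsg.Agent.Helper8.ODt

open Module Matrix Cfsg.Agent.Helper8.QuadForm Cfsg.Agent.Helper8.WittQuad
  Cfsg.Agent.Helper8.OrthOrder
  Cfsg.Agent.Helper8.Siegel Cfsg.Agent.Helper8.SiegelGroup Cfsg.Agent.Helper8.OGenA
  Cfsg.Agent.Helper8.OGenB Cfsg.Agent.Helper8.OGenG Cfsg.Agent.Lead.SpFus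
  Cfsg.Agent.Lead.SpBN Cfsg.Agent.Helper8.OSt Cfsg.Agent.Helper7.BN
  Cfsg.Agent.Lead.SteinChar Cfsg.Agent.Lead.SteinBN

variable {F : Type*} [Field F] {V : Type*} [AddCommGroup V] [Module F V] [FiniteDimensional F V]

section general

variable {r : ℕ} {Q : QuadraticForm F V} {e f : Fin r → V}

/-- the elements of the flag stabiliser which a monomial isometry exchanging the `e i` and the
`f i` conjugates into the flag stabiliser are those fixing the lines of the frame. -/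
theorem conj_swp_mem_iff (hyp : IsHyp Q e f) {n₀ b : ↥(Isom Q)}
    (h0 : Pat Q e f (swp r) n₀) (hb : b ∈ BO Q e f) :
    n₀ * b * n₀⁻¹ ∈ BO Q e f ↔ Pat Q e f 1 b := by
  have h0i : Pat Q e f (swp r) n₀⁻¹ := by
    have := h0.inv hyp
    rwa [swp_inv] at this
  constructor
  · intro h1
    apply pat_one_of_mem_BO_of_mem_BO_opp hyp hb
    apply mem_BO_of_forall
    intro i
    obtain ⟨c, hc⟩ := h0 (Sum.inr i)
    rw [swp_apply, Sum.swap_inr, fr_inr, fr_inl] at hc
    have e1 : b • f i = n₀⁻¹ • (n₀ * b * n₀⁻¹) • n₀ • f i := by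
      rw [← mul_smul, ← mul_smul]
      congr 1
      group
    rw [e1, hc, smul_comm _ c, smul_comm _ c]
    apply Submodule.smul_mem
    apply smul_mem_E_opp_of_pat hyp h0i (smul_e_mem hyp h1 i)
    intro l hl
    exact ⟨l, rfl, hl⟩
  · intro h
    apply TO_le_BO hyp
    have hs : swp r * swp r = 1 := by
      have := mul_inv_cancel (swp r)
      rwa [swp_inv] at this
    have := (h0.mul h).mul h0i
    rw [mul_one, hs] at this
    exact this

end general

variable {k : ℕ} {Q : QuadraticForm F V} {e f : Fin (k + 2) → V}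

namespace DData

variable (D : DData Q e f)

/-- every element of the Weyl group of type `D` is the pattern of an element of `N`. -/
theorem exists_pat {σ : Equiv.Perm (Fin (k + 2) ⊕ Fin (k + 2))} (hσ : σ ∈ WD k) :
    ∃ n : ↥(SG Q), n ∈ D.Ns ∧ Pat Q e f σ (n : ↥(Isom Q)) := by
  induction hσ using Subgroup.closure_induction_left with
  | one => exact ⟨1, Subgroup.one_mem _, Pat.one⟩
  | mul_left x hx y hy ih =>
    obtain ⟨o, rfl⟩ := hx
    obtain ⟨n, hn, hp⟩ := ih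
    exact ⟨D.gen o * n, Subgroup.mul_mem _ (D.gen_mem_Ns o) hn, (D.pat_genO o).mul hp⟩
  | inv_mul_cancel x hx y hy ih =>
    obtain ⟨o, rfl⟩ := hx
    obtain ⟨n, hn, hp⟩ := ih
    rw [patD_inv]
    exact ⟨D.gen o * n, Subgroup.mul_mem _ (D.gen_mem_Ns o) hn, (D.pat_genO o).mul hp⟩

/-- a representative of the longest element. -/
theorem exists_longest :
    ∃ (w : Equiv.Perm (Fin (k + 2) ⊕ Fin (k + 2))) (n₀ : ↥(SG Q)), n₀ ∈ D.Ns ∧
      Pat Q e f w (n₀ : ↥(Isom Q)) ∧ IsLongD w ∧ (w = swp (k + 2) ∨ w = swp (k + 2) * tp k) := by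
  obtain ⟨w, hw, hl, hor⟩ := exists_longD (k := k)
  obtain ⟨n₀, hn, hp⟩ := D.exists_pat hw
  exact ⟨w, n₀, hn, hp, hl, hor⟩

include D in
theorem pat_one_tc_iff {b : ↥(Isom Q)} : Pat Q e f 1 (tc Q e f b) ↔ Pat Q e f 1 b := by
  have key : ∀ g : ↥(Isom Q), Pat Q e f 1 g → Pat Q e f 1 (tc Q e f g) := by
    intro g hg
    have := pat_tc D.hyp hg
    rwa [mul_one, tp_mul_self] at this
  constructor
  · intro h
    have := key _ h
    rwa [tc_tc] at this
  · exact key b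

/-- the elements of `B` which the longest element conjugates into `B` are those fixing the
lines of the frame. -/
theorem conj_w0_mem_iff {w : Equiv.Perm (Fin (k + 2) ⊕ Fin (k + 2))}
    (hw : w = swp (k + 2) ∨ w = swp (k + 2) * tp k) {n₀ : ↥(SG Q)}
    (h0 : Pat Q e f w (n₀ : ↥(Isom Q))) {b : ↥(SG Q)} (hb : b ∈ D.Bs) :
    n₀ * b * n₀⁻¹ ∈ D.Bs ↔ Pat Q e f 1 (b : ↥(Isom Q)) := by
  rw [D.mem_Bs, Subgroup.coe_mul, Subgroup.coe_mul, Subgroup.coe_inv]
  rcases hw with rfl | rfl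
  · exact conj_swp_mem_iff D.hyp h0 (D.mem_Bs.mp hb)
  · have h1 : Pat Q e f (swp (k + 2)) ((n₀ : ↥(Isom Q)) * tau Q e f) := by
      have := h0.mul (pat_tau D.hyp)
      rwa [mul_assoc, tp_mul_self, mul_one] at this
    have h2 := conj_swp_mem_iff D.hyp h1 (D.tc_mem_BO_iff.mpr (D.mem_Bs.mp hb))
    rw [D.pat_one_tc_iff] at h2
    rw [← h2, tc_apply]
    have e1 : (n₀ : ↥(Isom Q)) * tau Q e f * (tau Q e f * (b : ↥(Isom Q)) * tau Q e f)
        * ((n₀ : ↥(Isom Q)) * tau Q e f)⁻¹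
        = (n₀ : ↥(Isom Q)) * (tau Q e f * tau Q e f) * (b : ↥(Isom Q)) * (n₀ : ↥(Isom Q))⁻¹ := by
      group
    rw [e1, tau_mul_self, mul_one]

/-- the unipotent radical, in the Siegel group. -/
def Us (_D : DData Q e f) : Subgroup ↥(SG Q) := (UO Q e f).subgroupOf (SG Q)

theorem mem_Us {g : ↥(SG Q)} : g ∈ D.Us ↔ (g : ↥(Isom Q)) ∈ UO Q e f := Subgroup.mem_subgroupOf

theorem Us_le_Bs : D.Us ≤ D.Bs := fun _ hg => D.mem_Bs.mpr (UO_le_BO (D.mem_Us.mp hg))

theorem conj_mem_Us {b u : ↥(SG Q)} (hb : b ∈ D.Bs) (hu : u ∈ D.Us) : b * u * b⁻¹ ∈ D.Us := by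
  rw [D.mem_Us, Subgroup.coe_mul, Subgroup.coe_mul, Subgroup.coe_inv]
  exact conj_mem_UO D.hyp (D.mem_Bs.mp hb) (D.mem_Us.mp hu)

include D in
theorem nontrivial_V : Nontrivial V := ⟨⟨e 0, 0, e_ne_zero D.hyp 0⟩⟩

theorem isPGroup_Us (p : ℕ) [Fact p.Prime] [CharP F p] : IsPGroup p ↥D.Us := by
  haveI := D.nontrivial_V
  intro g
  obtain ⟨n, hn⟩ := isPGroup_UO D.hyp p ⟨((g : ↥(SG Q)) : ↥(Isom Q)), D.mem_Us.mp g.2⟩
  refine ⟨n, ?_⟩
  apply Subtype.ext
  apply Subtype.ext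
  have := congrArg Subtype.val hn
  rw [Subgroup.coe_pow, Subgroup.coe_one] at this
  rw [Subgroup.coe_pow, Subgroup.coe_pow, Subgroup.coe_one, Subgroup.coe_one]
  exact this

theorem xO_none_eq (c : F) :
    D.xO none c = siegG Q (e (i0 k).castSucc) (c • e (Fin.last (k + 1))) := by
  change tc Q e f (xA Q e f (i0 k) c) = _
  unfold tc xA
  rw [MulAut.conj_apply, siegG_conj]
  change siegG Q (tau Q e f • e (i0 k).castSucc) (tau Q e f • c • f (i0 k).succ) = _
  have h1 : tau Q e f • e (i0 k).castSucc = e (i0 k).castSucc := by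
    have := tau_smul_fr D.hyp (a := Sum.inl (i0 k).castSucc) (by simp [i0_castSucc_ne]) (by simp)
    exact this
  rw [h1, smul_comm, i0_succ, tau_smul_f_last D.hyp]

theorem testElt_mem_Us (o : Option (Fin (k + 1))) : D.testElt o ∈ D.Us := by
  rw [D.mem_Us]
  rcases o with _ | i
  · change D.xO none 1 ∈ UO Q e f
    rw [D.xO_none_eq]
    apply siegG_mem_UO D.hyp
    intro l hl
    have hl' : l ≠ Fin.last (k + 1) := by
      intro h
      rw [h, Fin.val_last, i0_castSucc_val] at hl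
      omega
    rw [QuadraticMap.polar_smul_right, QuadraticMap.polar_smul_right, (D.hyp.2.2 _ _).1,
      polar_fe D.hyp, if_neg hl', smul_zero]
    exact ⟨rfl, rfl⟩
  · change xA Q e f i 1 ∈ UO Q e f
    unfold xA
    apply siegG_mem_UO D.hyp
    intro l hl
    have hls : l ≠ i.succ := by
      intro h
      rw [h, Fin.val_succ] at hl
      change (i : ℕ) + 1 ≤ (i : ℕ) at hl
      omega
    rw [QuadraticMap.polar_smul_right, QuadraticMap.polar_smul_right, D.hyp.2.1, if_neg hls,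
      (D.hyp.2.2 _ _).2, smul_zero]
    exact ⟨rfl, rfl⟩

/-- the decomposition of the flag stabiliser, in the Siegel group. -/
theorem exists_Us_mul_T {b : ↥(SG Q)} (hb : b ∈ D.Bs) :
    ∃ u ∈ D.Us, Pat Q e f 1 ((u⁻¹ * b : ↥(SG Q)) : ↥(Isom Q)) := by
  obtain ⟨u, huU, huS, hp⟩ := exists_UO_mul_TO D.hyp (D.mem_Bs.mp hb)
  refine ⟨⟨u, huS⟩, D.mem_Us.mpr huU, ?_⟩
  rw [Subgroup.coe_mul, Subgroup.coe_inv]
  exact hp

theorem eq_one_of_mem_Us_of_pat {g : ↥(SG Q)} (hg : g ∈ D.Us)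
    (hp : Pat Q e f 1 (g : ↥(Isom Q))) : g = 1 :=
  Subtype.ext (eq_one_of_mem_UO_of_pat_one D.hyp (D.mem_Us.mp hg) hp)

theorem Bs_le_normalizer_Us : D.Bs ≤ Subgroup.normalizer (D.Us : Set ↥(SG Q)) := by
  intro b hb
  rw [Subgroup.mem_normalizer_iff]
  intro h
  constructor
  · exact fun hh => D.conj_mem_Us hb hh
  · intro hh
    have := D.conj_mem_Us (D.Bs.inv_mem hb) hh
    have e1 : b⁻¹ * (b * h * b⁻¹) * b⁻¹⁻¹ = h := by group
    rwa [e1] at this

/-- the normaliser of the unipotent radical is the flag stabiliser. -/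
theorem normalizer_Us_le (hQ : Nondeg Q) :
    Subgroup.normalizer (D.Us : Set ↥(SG Q)) ≤ D.Bs := by
  intro g hg
  obtain ⟨M, hMdef⟩ : ∃ M, M = D.Bs ⊔ Subgroup.zpowers g := ⟨_, rfl⟩
  have hBM : (D.bn hQ).B ≤ M := by
    rw [hMdef]
    exact le_sup_left
  have hMN : M ≤ Subgroup.normalizer (D.Us : Set ↥(SG Q)) := by
    rw [hMdef]
    apply sup_le D.Bs_le_normalizer_Us
    rw [Subgroup.zpowers_le]
    exact hg
  have hpar := eq_parabolic_of_le (D.bn hQ) M hBM
  have hempty : (D.bn hQ).S ∩ (M : Set ↥(SG Q)) = ∅ := by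
    rw [Set.eq_empty_iff_forall_notMem]
    rintro s ⟨⟨o, rfl⟩, hsM⟩
    have h1 := (Subgroup.mem_normalizer_iff.mp (hMN hsM) (D.testElt o)).mp (D.testElt_mem_Us o)
    exact D.conj_testElt_not_mem o (D.Us_le_Bs h1)
  rw [hempty] at hpar
  have hMB : M = D.Bs := by
    rw [hpar]
    unfold Cfsg.BNPair.parabolic
    rw [Subgroup.closure_empty, sup_bot_eq]
    rfl
  rw [← hMB, hMdef]
  exact Subgroup.mem_sup_right (Subgroup.mem_zpowers g)

/-- powers of a product of a unipotent element and an element of `B`. -/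
theorem exists_pow_eq {u t : ↥(SG Q)} (hu : u ∈ D.Us) (ht : t ∈ D.Bs) (n : ℕ) :
    ∃ u' ∈ D.Us, (u * t) ^ n = u' * t ^ n := by
  induction n with
  | zero => exact ⟨1, Subgroup.one_mem _, by rw [pow_zero, pow_zero, mul_one]⟩
  | succ n ih =>
    obtain ⟨u', hu', h⟩ := ih
    refine ⟨u' * (t ^ n * u * (t ^ n)⁻¹), Subgroup.mul_mem _ hu'
      (D.conj_mem_Us (Subgroup.pow_mem _ ht n) hu), ?_⟩
    rw [pow_succ, h, pow_succ]
    group

include D in
/-- the diagonal subgroup has no element of order `p`. -/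
theorem hT (p : ℕ) [Fact p.Prime] [CharP F p] (t : ↥(SG Q))
    (hp : Pat Q e f 1 (t : ↥(Isom Q))) (ht : ∃ n : ℕ, t ^ p ^ n = 1) : t = 1 := by
  apply hT_of_W0 D.hyp p ?_ t hp ht
  intro g _ _ _ _ w hw
  rw [D.hW0 w hw, smul_zero]

/-- the elements of `p`-power order of the flag stabiliser lie in the unipotent radical. -/
theorem mem_Us_of_pow_eq_one (p : ℕ) [Fact p.Prime] [CharP F p]
    {x : ↥(SG Q)} (hx : x ∈ D.Bs) {n : ℕ} (hxn : x ^ p ^ n = 1) : x ∈ D.Us := by
  obtain ⟨u, hu, hp⟩ := D.exists_Us_mul_T hx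
  obtain ⟨t, ht⟩ : ∃ t, t = u⁻¹ * x := ⟨_, rfl⟩
  rw [← ht] at hp
  have htB : t ∈ D.Bs := D.mem_Bs_of_pat_one hp
  have hxu : x = u * t := by rw [ht]; group
  obtain ⟨u', hu', h⟩ := D.exists_pow_eq hu htB (p ^ n)
  rw [← hxu, hxn] at h
  have h1 : t ^ p ^ n = u'⁻¹ := eq_inv_of_mul_eq_one_right h.symm
  have h2 : t ^ p ^ n ∈ D.Us := by
    rw [h1]
    exact Subgroup.inv_mem _ hu'
  have hpow : ∀ m : ℕ, Pat Q e f 1 ((t ^ m : ↥(SG Q)) : ↥(Isom Q)) := by
    intro m
    induction m with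
    | zero =>
      rw [pow_zero]
      exact Pat.one
    | succ m ih =>
      rw [pow_succ, Subgroup.coe_mul]
      have := ih.mul hp
      rwa [mul_one] at this
  have h3 : t ^ p ^ n = 1 := D.eq_one_of_mem_Us_of_pat h2 (hpow _)
  have h4 : t = 1 := D.hT p t hp ⟨n, h3⟩
  rw [hxu, h4, mul_one]
  exact hu

/-- the unipotent radical is a Sylow subgroup. -/
theorem not_dvd_index_Us [Finite ↥(SG Q)] (hQ : Nondeg Q) (p : ℕ) [Fact p.Prime] [CharP F p] :
    ¬ p ∣ D.Us.index := by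
  let S : Sylow p ↥(SG Q) :=
    { toSubgroup := D.Us
      isPGroup' := D.isPGroup_Us p
      is_maximal' := by
        intro R hR hUR
        by_contra hne
        have hlt : D.Us < R := lt_of_le_of_ne hUR (Ne.symm hne)
        obtain ⟨r, hrR, hrU, hrN⟩ := Cfsg.Agent.Helper2.exists_mem_normalizer_notMem_of_lt hR hlt
        apply hrU
        obtain ⟨n, hn⟩ := hR ⟨r, hrR⟩
        have hn' : r ^ p ^ n = 1 := by
          have := congrArg Subtype.val hn
          simpa using this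
        exact D.mem_Us_of_pow_eq_one p (D.normalizer_Us_le hQ hrN) hn' }
  exact S.not_dvd_index

/-- the diagonal subgroup of `B` has the unipotent radical as a complement. -/
theorem index_eq_card_Us (T' : Subgroup ↥D.Bs)
    (hT : ∀ b : ↥D.Bs, b ∈ T' ↔ Pat Q e f 1 (((b : ↥(SG Q)) : ↥(Isom Q)))) :
    T'.index = Nat.card D.Us := by
  have hcompl : Subgroup.IsComplement' (D.Us.subgroupOf D.Bs) T' := by
    apply Subgroup.isComplement'_of_disjoint_and_mul_eq_univ
    · rw [Subgroup.disjoint_def]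
      intro x hx hxT
      rw [Subgroup.mem_subgroupOf] at hx
      rw [hT] at hxT
      apply Subtype.ext
      exact D.eq_one_of_mem_Us_of_pat hx hxT
    · rw [Set.eq_univ_iff_forall]
      intro b
      obtain ⟨u, hu, hp⟩ := D.exists_Us_mul_T b.2
      refine Set.mem_mul.mpr ⟨⟨u, D.Us_le_Bs hu⟩, ?_, ⟨u⁻¹ * b, D.mem_Bs_of_pat_one hp⟩, ?_, ?_⟩
      · rw [SetLike.mem_coe, Subgroup.mem_subgroupOf]
        exact hu
      · rw [SetLike.mem_coe, hT]
        exact hp
      · apply Subtype.ext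
        change u * (u⁻¹ * (b : ↥(SG Q))) = b
        group
  rw [hcompl.index_eq_card]
  exact Nat.card_congr (Subgroup.subgroupOfEquivOfLe D.Us_le_Bs).toEquiv

theorem center_le_Bs (hQ : Nondeg Q) : Subgroup.center ↥(SG Q) ≤ D.Bs := by
  have h := normalizer_eq_of_le (D.bn hQ) (M := D.Bs) le_rfl
  intro z hz
  have := Subgroup.center_le_normalizer (s := (D.Bs : Set ↥(SG Q))) hz
  rw [h] at this
  exact this

/-- **the Steinberg character of the Siegel group, type `D`.** -/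
theorem exists_steinberg_SG [Finite ↥(SG Q)] (hQ : Nondeg Q) :
    ∃ χ : ↥(SG Q) → ℂ,
      Cfsg.IsIrrCharacter ↥(SG Q) χ ∧
      χ 1 = Nat.card D.Us ∧
      ∀ z ∈ Subgroup.center ↥(SG Q), χ z = χ 1 := by
  letI : Fintype ↥(SG Q) := Fintype.ofFinite _
  have himg : D.gen '' (((Finset.univ : Finset (Option (Fin (k + 1)))) :
      Set (Option (Fin (k + 1))))) = (D.bn hQ).S := by
    rw [Finset.coe_univ, Set.image_univ]
    rfl
  have hpar : ∀ J : Finset (Option (Fin (k + 1))), J ⊆ Finset.univ →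
      (fun J : Finset (Option (Fin (k + 1))) =>
        (D.bn hQ).parabolic (D.gen '' (J : Set (Option (Fin (k + 1)))))) J =
        (D.bn hQ).parabolic (D.gen '' (J : Set (Option (Fin (k + 1))))) := fun _ _ => rfl
  obtain ⟨w, n₀, hn0, hp0, hlong, hw⟩ := D.exists_longest
  refine ⟨St Finset.univ (fun J : Finset (Option (Fin (k + 1))) =>
    (D.bn hQ).parabolic (D.gen '' (J : Set (Option (Fin (k + 1)))))),
    isIrrCharacter_St (D.bn hQ) himg hpar, ?_, ?_⟩
  · have hn0' : n₀ ∈ (D.bn hQ).N := hn0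
    have hgood : ∀ o ∈ (Finset.univ : Finset (Option (Fin (k + 1)))),
        Good (D.bn hQ) (rr (D.bn hQ) D.gen o)
          (rr (D.bn hQ) D.gen o * proj (D.bn hQ) ⟨n₀, hn0'⟩) := by
      intro o _
      have hsN : D.gen o ∈ (D.bn hQ).N := D.gen_mem_Ns o
      rw [rr_eq (D.bn hQ) hsN, ← map_mul]
      apply good_of_rep
      intro b hb
      have h1 : Pat Q e f (patD o * w)
          (((D.gen o * n₀ : ↥(SG Q))) : ↥(Isom Q)) := by
        rw [Subgroup.coe_mul]
        exact (D.pat_genO o).mul hp0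
      have hlt : rho (k + 2) ((patD o * w)⁻¹ (posD o).1) <
          rho (k + 2) ((patD o * w)⁻¹ (posD o).2) := by
        rw [_root_.mul_inv_rev, patD_inv, Equiv.Perm.mul_apply, Equiv.Perm.mul_apply,
          patD_pos, patD_pos']
        exact hlong o
      exact D.mul_mem_of_lt o h1 hlt hb
    have key := St_apply_B_of_good (D.bn hQ) (I := Finset.univ) (s := D.gen)
      (par := fun J : Finset (Option (Fin (k + 1))) =>
        (D.bn hQ).parabolic (D.gen '' (J : Set (Option (Fin (k + 1))))))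
      himg hpar ⟨n₀, hn0'⟩ hgood 1
    rw [Subgroup.coe_one, fixedPointCharacter_one] at key
    rw [key]
    congr 1
    apply D.index_eq_card_Us
    intro b
    exact (mem_stab_inv_proj (D.bn hQ) ⟨n₀, hn0'⟩ b).trans (D.conj_w0_mem_iff hw hp0 b.2)
  · intro z hz
    unfold St
    apply Finset.sum_congr rfl
    intro J _
    congr 1
    exact Cfsg.Agent.Lead.SLBN.fixedPointCharacter_central _ hz
      (Subgroup.mem_sup_left (D.center_le_Bs hQ hz))

end DData

section transfer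

universe u

variable {F : Type u} [Field F] [Fintype F] {ι : Type} [Fintype ι] [DecidableEq ι]
  (Q : QuadraticForm F (ι → F))

/-- **the Steinberg character of `PΩ(Q)`**, from a hyperbolic frame spanning the space. -/
theorem steinberg_POmega_D {k : ℕ} {e f : Fin (k + 2) → (ι → F)}
    (D : DData Q e f) (hQ : (QuadraticMap.polarBilin Q).Nondegenerate)
    (h5 : 5 ≤ Fintype.card ι) (p : ℕ) [Fact p.Prime] [CharP F p] :
    ∃ χ : Cfsg.POmega F ⇑Q → ℂ, Cfsg.IsIrrCharacter (Cfsg.POmega F ⇑Q) χ ∧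
      ∀ P : Sylow p (Cfsg.POmega F ⇑Q), χ 1 = Nat.card P ∧
        ∀ x : Cfsg.POmega F ⇑Q, x ∈ P → x ≠ 1 → χ x = 0 := by
  have hQ' : Nondeg Q := (nondeg_iff Q).mp hQ
  haveI : Finite ↥(SG Q) := by
    have : Finite ((ι → F) ≃ₗ[F] (ι → F)) :=
      Finite.of_injective (fun g : (ι → F) ≃ₗ[F] (ι → F) => (g : (ι → F) → (ι → F)))
        DFunLike.coe_injective
    infer_instance
  obtain ⟨χ, hirr, h1, hz⟩ := D.exists_steinberg_SG hQ'
  exact Cfsg.Agent.Helper1.SUJ.steinberg_of_iso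
    (Cfsg.Agent.Helper8.OmegaSimple.omegaEquiv Q hQ h5) p D.Us (D.isPGroup_Us p)
    (D.not_dvd_index_Us hQ' p) χ hirr h1 hz

end transfer

end Cfsg.Agent.Helper8.ODt
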