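import Mathlib
import Cfsg.Agent.Helper8.ODtE
import Cfsg.Agent.Helper8.OmegaStd

set_option autoImplicit false

/-!
# The Steinberg character of `PΩ⁺_{2m}(q)`, `m ≥ 3` (helper8)
-/

namespace Cfsg.Agent.Helper8.ODt

open Module Cfsg Cfsg.Agent.Helper8.QuadForm Cfsg.Agent.Helper8.WittQuad
  Cfsg.Agent.Helper8.OrthOrder
  Cfsg.Agent.Helper8.Siegel Cfsg.Agent.Helper8.SiegelGroup Cfsg.Agent.Helper8.OGenA
  Cfsg.Agent.Helper8.OGenB Cfsg.Agent.Lead.SpFus Cfsg.Agent.Lead.SpBN Cfsg.Agent.Helper7.BN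
  Cfsg.Agent.Helper8.StdForms Cfsg.Agent.Helper8.OmegaStd Cfsg.Agent.Helper8.OSt

universe u

variable (F : Type u) [Field F] (k : ℕ)

/-- the frame of the plus form. -/
def eP (j : Fin (k + 2)) : Fin (k + 2) ⊕ Fin (k + 2) → F := Pi.single (Sum.inl j) 1

def fP (j : Fin (k + 2)) : Fin (k + 2) ⊕ Fin (k + 2) → F := Pi.single (Sum.inr j) 1

theorem ddataP : DData (plusForm F (k + 2)) (eP F k) (fP F k) where
  hyp := plus_isHyp F (k + 2)
  hW0 := by
    intro w hw
    rw [mem_W0] at hw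
    funext x
    rcases x with j | j
    · have := hw.2 j
      rwa [fP, plus_polar_f] at this
    · have := hw.1 j
      rwa [eP, plus_polar_e] at this

/-- **the Steinberg character of `PΩ⁺_{2m}(q)`** for `m ≥ 3`. -/
theorem steinberg_plus [Fintype F] (p : ℕ) [Fact p.Prime] [CharP F p] (hk : 1 ≤ k) :
    ∃ χ : POmega F (quadFormPlus (k + 2) F) → ℂ,
      IsIrrCharacter (POmega F (quadFormPlus (k + 2) F)) χ ∧
      ∀ P : Sylow p (POmega F (quadFormPlus (k + 2) F)), χ 1 = Nat.card P ∧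
        ∀ x : POmega F (quadFormPlus (k + 2) F), x ∈ P → x ≠ 1 → χ x = 0 := by
  have hfun : (⇑(plusForm F (k + 2)) : (Fin (k + 2) ⊕ Fin (k + 2) → F) → F)
      = quadFormPlus (k + 2) F := funext (plusForm_apply F (k + 2))
  have h5 : 5 ≤ Fintype.card (Fin (k + 2) ⊕ Fin (k + 2)) := by
    simp only [Fintype.card_sum, Fintype.card_fin]
    omega
  have := steinberg_POmega_D (plusForm F (k + 2)) (ddataP F k) (plusForm_nondeg F (k + 2)) h5 p
  rw [hfun] at this
  exact this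

end Cfsg.Agent.Helper8.ODt
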