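import Mathlib
import Cfsg.Agent.Helper8.OStT

set_option autoImplicit false

/-!
# The Steinberg character of `PΩ_{2m+1}(q)`, `m ≥ 2` (helper8)
-/

namespace Cfsg.Agent.Helper8.OSt

open Module Cfsg Cfsg.Agent.Helper8.QuadForm Cfsg.Agent.Helper8.WittQuad
  Cfsg.Agent.Helper8.OrthOrder
  Cfsg.Agent.Helper8.Siegel Cfsg.Agent.Helper8.SiegelGroup Cfsg.Agent.Helper8.OGenA
  Cfsg.Agent.Helper8.OGenB Cfsg.Agent.Lead.SpFus Cfsg.Agent.Lead.SpBN Cfsg.Agent.Helper7.BN
  Cfsg.Agent.Helper8.StdForms Cfsg.Agent.Helper8.OmegaStd2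

universe u

variable (F : Type u) [Field F] (k : ℕ)

/-- the frame of the odd form. -/
def eB (j : Fin (k + 1)) : Unit ⊕ (Fin (k + 1) ⊕ Fin (k + 1)) → F :=
  Pi.single (Sum.inr (Sum.inl j)) 1

def fB (j : Fin (k + 1)) : Unit ⊕ (Fin (k + 1) ⊕ Fin (k + 1)) → F :=
  Pi.single (Sum.inr (Sum.inr j)) 1

def aB : Unit ⊕ (Fin (k + 1) ⊕ Fin (k + 1)) → F := Pi.single (Sum.inl ()) 1

theorem mem_W0_B {w : Unit ⊕ (Fin (k + 1) ⊕ Fin (k + 1)) → F} :
    w ∈ W0 (oddForm F (k + 1)) (eB F k) (fB F k) ↔ ∀ a, w (Sum.inr a) = 0 := by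
  rw [mem_W0]
  constructor
  · rintro ⟨h1, h2⟩ (j | j)
    · have := h2 j
      rwa [fB, odd_polar_f] at this
    · have := h1 j
      rwa [eB, odd_polar_e] at this
  · intro h
    refine ⟨fun j => ?_, fun j => ?_⟩
    · rw [eB, odd_polar_e]
      exact h _
    · rw [fB, odd_polar_f]
      exact h _

theorem eq_smul_aB {w : Unit ⊕ (Fin (k + 1) ⊕ Fin (k + 1)) → F}
    (hw : w ∈ W0 (oddForm F (k + 1)) (eB F k) (fB F k)) : w = w (Sum.inl ()) • aB F k := by
  classical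
  rw [mem_W0_B] at hw
  funext x
  rcases x with ⟨⟩ | a
  · simp [aB]
  · rw [hw a]
    simp [aB]

theorem Q_aB : oddForm F (k + 1) (aB F k) = 1 := by
  classical
  rw [oddForm_apply]
  unfold quadFormOdd aB
  simp

theorem wdataB : WData (oddForm F (k + 1)) (eB F k) (fB F k) (aB F k) where
  hyp := odd_isHyp F (k + 1)
  ha₀ := by
    classical
    rw [mem_W0_B]
    intro a
    simp [aB]
  hQ0 := Q_aB F k
  aniso := by
    intro w hw h0
    have h1 := eq_smul_aB F k hw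
    rw [h1, QuadraticMap.map_smul, Q_aB, smul_eq_mul, mul_one] at h0
    have h2 : w (Sum.inl ()) = 0 := by
      rcases mul_eq_zero.mp h0 with h | h <;> exact h
    rw [h1, h2, zero_smul]

/-- the diagonal subgroup of the odd orthogonal group has no element of order `p`. -/
theorem hT_B (p : ℕ) [Fact p.Prime] [CharP F p]
    (t : ↥(SG (oddForm F (k + 1))))
    (hp : Pat (oddForm F (k + 1)) (eB F k) (fB F k) 1 (t : ↥(Isom (oddForm F (k + 1)))))
    (ht : ∃ n : ℕ, t ^ p ^ n = 1) : t = 1 := by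
  apply hT_of_W0 (odd_isHyp F (k + 1)) p ?_ t hp ht
  rintro g hgW ⟨n, hn⟩ - - w hw
  have ha : aB F k ∈ W0 (oddForm F (k + 1)) (eB F k) (fB F k) := (wdataB F k).ha₀
  have h1 := eq_smul_aB F k (hgW _ ha)
  have hne : aB F k ≠ 0 := by
    intro h
    have := Q_aB F k
    rw [h, map_zero] at this
    exact zero_ne_one this
  have h2 := smul_eq_of_pow_eq_one p h1 hne hn
  rw [eq_smul_aB F k hw, smul_comm, h2]

/-- **the Steinberg character of `PΩ_{2m+1}(q)`** for `m ≥ 2` and `q` odd. -/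
theorem steinberg_odd [Fintype F] (p : ℕ) [Fact p.Prime] [CharP F p] (h2 : (2 : F) ≠ 0)
    (hk : 1 ≤ k) :
    ∃ χ : POmega F (quadFormOdd (k + 1) F) → ℂ,
      IsIrrCharacter (POmega F (quadFormOdd (k + 1) F)) χ ∧
      ∀ P : Sylow p (POmega F (quadFormOdd (k + 1) F)), χ 1 = Nat.card P ∧
        ∀ x : POmega F (quadFormOdd (k + 1) F), x ∈ P → x ≠ 1 → χ x = 0 := by
  have hfun : (⇑(oddForm F (k + 1)) : (Unit ⊕ (Fin (k + 1) ⊕ Fin (k + 1)) → F) → F)
      = quadFormOdd (k + 1) F := funext (oddForm_apply F (k + 1))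
  have h5 : 5 ≤ Fintype.card (Unit ⊕ (Fin (k + 1) ⊕ Fin (k + 1))) := by
    simp only [Fintype.card_sum, Fintype.card_unit, Fintype.card_fin]
    omega
  have := steinberg_POmega (oddForm F (k + 1)) (wdataB F k) (oddForm_nondeg F (k + 1) h2) h5 p
    (hT_B F k p)
  rw [hfun] at this
  exact this

end Cfsg.Agent.Helper8.OSt
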