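import Mathlib
import Cfsg.Agent.Helper8.OStA

set_option autoImplicit false

/-!
# The Dickson invariant of an isometry (helper8)

The parity of the dimension of the fixed space of an isometry of a nondegenerate quadratic space
changes when the isometry is multiplied by a reflection; so reflections do not lie in the
commutator subgroup of the isometry group when reflections generate it.
-/

namespace Cfsg.Agent.Helper8.Dickson

open Module Cfsg.Agent.Helper8.QuadForm Cfsg.Agent.Helper8.WittQuad Cfsg.Agent.Helper8.OrthOrder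
  Cfsg.Agent.Helper8.Siegel Cfsg.Agent.Helper8.SiegelGroup Cfsg.Agent.Helper8.Reflections
  Cfsg.Agent.Helper8.OSt

variable {F : Type*} [Field F] {V : Type*} [AddCommGroup V] [Module F V]
variable {Q : QuadraticForm F V}

/-- the linear map `g - 1`. -/
noncomputable def dl (g : ↥(Isom Q)) : V →ₗ[F] V :=
  ((g : V ≃ₗ[F] V) : V →ₗ[F] V) - LinearMap.id

theorem dl_apply (g : ↥(Isom Q)) (v : V) : dl g v = g • v - v := rfl

/-- the fixed space of an isometry. -/
noncomputable def fixS (g : ↥(Isom Q)) : Submodule F V := LinearMap.ker (dl g)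

theorem mem_fixS {g : ↥(Isom Q)} {v : V} : v ∈ fixS g ↔ g • v = v := by
  unfold fixS
  rw [LinearMap.mem_ker, dl_apply, sub_eq_zero]

theorem fixS_one : fixS (1 : ↥(Isom Q)) = ⊤ := by
  ext v
  rw [mem_fixS, one_smul]
  exact ⟨fun _ => Submodule.mem_top, fun _ => rfl⟩

theorem polar_dl_of_fix {g : ↥(Isom Q)} {x : V} (hx : x ∈ fixS g) (v : V) :
    QuadraticMap.polar Q (dl g v) x = 0 := by
  rw [dl_apply, QuadraticMap.polar_sub_left]
  conv_lhs => rw [← mem_fixS.mp hx]
  rw [polar_smul_smul, mem_fixS.mp hx, sub_self]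

/-- the range of `g - 1` is the orthogonal complement of the fixed space. -/
theorem exists_dl_eq [FiniteDimensional F V] (hQ : Nondeg Q) (g : ↥(Isom Q)) {u : V}
    (hu : ∀ x ∈ fixS g, QuadraticMap.polar Q u x = 0) : ∃ v, dl g v = u := by
  have hB : (QuadraticMap.polarBilin Q).Nondegenerate := (nondeg_iff Q).mpr hQ
  have hle : LinearMap.range (dl g) ≤ LinearMap.BilinForm.orthogonal (QuadraticMap.polarBilin Q) (fixS g) := by
    rintro _ ⟨v, rfl⟩
    rw [LinearMap.BilinForm.mem_orthogonal_iff]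
    intro x hx
    show QuadraticMap.polar Q x (dl g v) = 0
    rw [QuadraticMap.polar_comm]
    exact polar_dl_of_fix hx v
  have h1 := LinearMap.BilinForm.finrank_orthogonal hB (fixS g)
  have h2 := LinearMap.finrank_range_add_finrank_ker (dl g)
  have h3 : finrank F (LinearMap.range (dl g))
      = finrank F (LinearMap.BilinForm.orthogonal (QuadraticMap.polarBilin Q) (fixS g)) := by
    rw [h1]
    unfold fixS
    omega
  have h4 := Submodule.eq_of_le_of_finrank_eq hle h3
  have h5 : u ∈ LinearMap.BilinForm.orthogonal (QuadraticMap.polarBilin Q) (fixS g) := by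
    rw [LinearMap.BilinForm.mem_orthogonal_iff]
    intro x hx
    show QuadraticMap.polar Q x u = 0
    rw [QuadraticMap.polar_comm]
    exact hu x hx
  rw [← h4] at h5
  exact h5

/-- the hyperplane orthogonal to a vector. -/
noncomputable def hyp (Q : QuadraticForm F V) (u : V) : Submodule F V :=
  LinearMap.ker (QuadraticMap.polarBilin Q u)

theorem mem_hyp {u x : V} : x ∈ hyp Q u ↔ QuadraticMap.polar Q u x = 0 := by
  unfold hyp
  rw [LinearMap.mem_ker]
  rfl

/-- the intersection of a subspace with the kernel of a functional. -/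
theorem finrank_inf_ker [FiniteDimensional F V] (S : Submodule F V) (φ : V →ₗ[F] F)
    (hS : ¬ S ≤ LinearMap.ker φ) : finrank F ↥(S ⊓ LinearMap.ker φ) + 1 = finrank F S := by
  obtain ⟨s, hsS, hs⟩ := SetLike.not_le_iff_exists.mp hS
  rw [LinearMap.mem_ker] at hs
  have h1 := Submodule.finrank_sup_add_finrank_inf_eq S (LinearMap.ker φ)
  have h2 := LinearMap.finrank_range_add_finrank_ker φ
  have h3 : LinearMap.range φ = ⊤ := by
    rw [eq_top_iff]
    intro c _
    refine ⟨(c / φ s) • s, ?_⟩
    rw [map_smul, smul_eq_mul, div_mul_cancel₀ c hs]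
  have h4 : S ⊔ LinearMap.ker φ = ⊤ := by
    rw [eq_top_iff]
    intro v _
    have e1 : v = (φ v / φ s) • s + (v - (φ v / φ s) • s) := by abel
    rw [e1]
    apply Submodule.add_mem
    · exact Submodule.mem_sup_left (Submodule.smul_mem _ _ hsS)
    · apply Submodule.mem_sup_right
      rw [LinearMap.mem_ker, map_sub, map_smul, smul_eq_mul, div_mul_cancel₀ _ hs, sub_self]
  rw [h3, finrank_top, finrank_self] at h2
  rw [h4, finrank_top] at h1
  omega

theorem finrank_inf_of_le (S H : Submodule F V) (hS : S ≤ H) :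
    finrank F ↥(S ⊓ H) = finrank F S := by
  rw [inf_eq_left.mpr hS]

section refl

variable (g : ↥(Isom Q)) {u : V} (hu : Q u ≠ 0)

theorem reflG_smul_eq (x : V) :
    reflG Q u • x = x - (QuadraticMap.polar Q u x / Q u) • u := refl_apply Q u x

theorem fixS_mul_inf : fixS (g * reflG Q u) ⊓ hyp Q u = fixS g ⊓ hyp Q u := by
  ext x
  rw [Submodule.mem_inf, Submodule.mem_inf, mem_fixS, mem_fixS, mem_hyp]
  constructor
  · rintro ⟨h1, h2⟩
    refine ⟨?_, h2⟩
    rw [mul_smul, reflG_smul_eq, h2, zero_div, zero_smul, sub_zero] at h1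
    exact h1
  · rintro ⟨h1, h2⟩
    refine ⟨?_, h2⟩
    rw [mul_smul, reflG_smul_eq, h2, zero_div, zero_smul, sub_zero]
    exact h1

include hu in
theorem fixS_mul_le (h : ¬ fixS g ≤ hyp Q u) : fixS (g * reflG Q u) ≤ hyp Q u := by
  obtain ⟨x, hxS, hx⟩ := SetLike.not_le_iff_exists.mp h
  rw [mem_hyp] at hx
  intro y hy
  rw [mem_hyp]
  rw [mem_fixS, mul_smul, reflG_smul_eq, smul_sub, smul_comm] at hy
  have h1 : dl g y = (QuadraticMap.polar Q u y / Q u) • g • u := by
    rw [dl_apply]
    rw [sub_eq_iff_eq_add] at hy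
    rw [hy]
    abel
  have h2 := polar_dl_of_fix hxS y
  rw [h1, QuadraticMap.polar_smul_left, smul_eq_mul] at h2
  have h3 : QuadraticMap.polar Q (g • u) x = QuadraticMap.polar Q u x := by
    conv_lhs => rw [← mem_fixS.mp hxS]
    rw [polar_smul_smul]
  rw [h3] at h2
  rcases mul_eq_zero.mp h2 with h4 | h4
  · rcases div_eq_zero_iff.mp h4 with h5 | h5
    · exact h5
    · exact absurd h5 hu
  · exact absurd h4 hx

include hu in
theorem fixS_mul_not_le [FiniteDimensional F V] (hQ : Nondeg Q) (h : fixS g ≤ hyp Q u) :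
    ¬ fixS (g * reflG Q u) ≤ hyp Q u := by
  obtain ⟨v, hv⟩ := exists_dl_eq hQ g (u := u) (fun x hx => mem_hyp.mp (h hx))
  rw [dl_apply, sub_eq_iff_eq_add] at hv
  have h1 : QuadraticMap.polar Q v u = -Q u := by
    have := Q_smul g v
    rw [hv, QuadraticMap.map_add Q, QuadraticMap.polar_comm] at this
    linear_combination this
  have h2 : QuadraticMap.polar Q u (g • v) = Q u := by
    rw [hv, QuadraticMap.polar_add_right, polar_self', QuadraticMap.polar_comm, h1]
    ring
  intro hle
  have h3 : g • v ∈ fixS (g * reflG Q u) := by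
    rw [mem_fixS, mul_smul, reflG_smul_eq, h2, div_self hu, one_smul]
    congr 1
    rw [hv]
    abel
  have h4 := mem_hyp.mp (hle h3)
  rw [h2] at h4
  exact hu h4

include hu in
/-- multiplication by a reflection changes the parity of the dimension of the fixed space. -/
theorem finrank_fixS_mul [FiniteDimensional F V] (hQ : Nondeg Q) :
    ((finrank F (fixS (g * reflG Q u)) : ℕ) : ZMod 2) = (finrank F (fixS g) : ZMod 2) + 1 := by
  have h0 : finrank F ↥(fixS (g * reflG Q u) ⊓ hyp Q u) = finrank F ↥(fixS g ⊓ hyp Q u) := by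
    rw [fixS_mul_inf g]
  by_cases h : fixS g ≤ hyp Q u
  · have h1 := fixS_mul_not_le g hu hQ h
    have h2 := finrank_inf_ker _ _ h1
    have h3 := finrank_inf_of_le _ _ h
    have h4 : finrank F (fixS (g * reflG Q u)) = finrank F (fixS g) + 1 := by
      unfold hyp at h0 h3
      omega
    rw [h4]
    push_cast
    rfl
  · have h1 := fixS_mul_le g hu h
    have h2 := finrank_inf_ker _ _ h
    have h3 := finrank_inf_of_le _ _ h1
    have h4 : finrank F (fixS g) = finrank F (fixS (g * reflG Q u)) + 1 := by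
      unfold hyp at h0 h3
      omega
    rw [h4]
    push_cast
    rw [add_assoc, CharTwo.add_self_eq_zero, add_zero]

end refl

/-- the Dickson invariant. -/
noncomputable def dk (g : ↥(Isom Q)) : ZMod 2 := (finrank F (fixS g) : ZMod 2) + (finrank F V : ZMod 2)

theorem dk_one : dk (1 : ↥(Isom Q)) = 0 := by
  unfold dk
  rw [fixS_one, finrank_top, CharTwo.add_self_eq_zero]

theorem dk_mul_refl [FiniteDimensional F V] (hQ : Nondeg Q) (g : ↥(Isom Q)) {u : V}
    (hu : Q u ≠ 0) : dk (g * reflG Q u) = dk g + 1 := by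
  unfold dk
  rw [finrank_fixS_mul g hu hQ]
  ring

theorem dk_mul [FiniteDimensional F V] (hQ : Nondeg Q)
    (hgen : Subgroup.closure {g : ↥(Isom Q) | ∃ z, Q z ≠ 0 ∧ g = reflG Q z} = ⊤)
    (g h : ↥(Isom Q)) : dk (g * h) = dk g + dk h := by
  have hh : h ∈ Subgroup.closure {g : ↥(Isom Q) | ∃ z, Q z ≠ 0 ∧ g = reflG Q z} := by
    rw [hgen]
    exact Subgroup.mem_top h
  revert g
  induction hh using Subgroup.closure_induction_right with
  | one =>
    intro g
    rw [mul_one, dk_one, add_zero]
  | mul_right x hx y hy ih =>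
    intro g
    obtain ⟨z, hz, rfl⟩ := hy
    rw [← mul_assoc, dk_mul_refl hQ _ hz, dk_mul_refl hQ _ hz, ih, add_assoc]
  | mul_inv_cancel x hx y hy ih =>
    intro g
    obtain ⟨z, hz, rfl⟩ := hy
    rw [reflG_inv, ← mul_assoc, dk_mul_refl hQ _ hz, dk_mul_refl hQ _ hz, ih, add_assoc]

/-- the Dickson invariant, as a homomorphism. -/
noncomputable def dkHom [FiniteDimensional F V] (hQ : Nondeg Q)
    (hgen : Subgroup.closure {g : ↥(Isom Q) | ∃ z, Q z ≠ 0 ∧ g = reflG Q z} = ⊤) :
    ↥(Isom Q) →* Multiplicative (ZMod 2) where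
  toFun g := Multiplicative.ofAdd (dk g)
  map_one' := by rw [dk_one]; rfl
  map_mul' g h := by rw [dk_mul hQ hgen g h]; rfl

/-- **reflections are not commutators**. -/
theorem reflG_not_mem_commutator [FiniteDimensional F V] (hQ : Nondeg Q)
    (hgen : Subgroup.closure {g : ↥(Isom Q) | ∃ z, Q z ≠ 0 ∧ g = reflG Q z} = ⊤)
    {u : V} (hu : Q u ≠ 0) : reflG Q u ∉ commutator ↥(Isom Q) := by
  intro h
  have h1 : commutator ↥(Isom Q) ≤ (dkHom hQ hgen).ker :=
    Abelianization.commutator_subset_ker (dkHom hQ hgen)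
  have h2 := MonoidHom.mem_ker.mp (h1 h)
  have h3 : dk (reflG Q u) = 0 := by
    have : Multiplicative.ofAdd (dk (reflG Q u)) = Multiplicative.ofAdd (0 : ZMod 2) := h2
    exact Multiplicative.ofAdd.injective this
  have h4 := dk_mul_refl hQ (1 : ↥(Isom Q)) hu
  rw [one_mul, dk_one, h3, zero_add] at h4
  exact zero_ne_one h4

end Cfsg.Agent.Helper8.Dickson
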