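import Mathlib
import Cfsg.Agent.Helper8.OStT
import Cfsg.Agent.Helper8.DicksonA

set_option autoImplicit false

/-!
# The diagonal subgroup for a two-dimensional anisotropic kernel (helper8)
-/

namespace Cfsg.Agent.Helper8.OSt

open Module Cfsg.Agent.Helper8.QuadForm Cfsg.Agent.Helper8.WittQuad
  Cfsg.Agent.Helper8.OrthOrder
  Cfsg.Agent.Helper8.Siegel Cfsg.Agent.Helper8.SiegelGroup Cfsg.Agent.Helper8.OGenA
  Cfsg.Agent.Helper8.OGenB Cfsg.Agent.Lead.SpFus Cfsg.Agent.Lead.SpBN Cfsg.Agent.Helper7.BN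
  Cfsg.Agent.Helper8.Dickson Cfsg.Agent.Helper8.Reflections

variable {F : Type*} [Field F] {V : Type*} [AddCommGroup V] [Module F V]
variable {r : ℕ} {Q : QuadraticForm F V} {e f : Fin r → V}

theorem nil_pow_eq_zero_of_pow_eq_one [FiniteDimensional F V] [Nontrivial V] (p : ℕ) [Fact p.Prime] [CharP F p]
    {g : ↥(Isom Q)} {n : ℕ} (hg : g ^ p ^ n = 1) : nil g ^ p ^ n = 0 := by
  haveI : CharP (Module.End F V) p :=
    charP_of_injective_algebraMap (algebraMap F (Module.End F V)).injective p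
  unfold nil
  rw [sub_pow_char_pow_of_commute p n (Commute.one_right _), one_pow, sub_eq_zero]
  apply LinearMap.ext
  intro v
  rw [← smul_pow_eq, hg, one_smul]
  rfl

/-- an isometry of `p`-power order fixes a nonzero vector of every nonzero invariant subspace. -/
theorem exists_fixed [FiniteDimensional F V] (p : ℕ) [Fact p.Prime] [CharP F p] {g : ↥(Isom Q)} {n : ℕ}
    (hg : g ^ p ^ n = 1) (W : Submodule F V) (hW : ∀ w ∈ W, g • w ∈ W) {w₀ : V} (hw₀ : w₀ ∈ W)
    (hne : w₀ ≠ 0) : ∃ w ∈ W, w ≠ 0 ∧ g • w = w := by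
  haveI : Nontrivial V := ⟨⟨w₀, 0, hne⟩⟩
  by_contra h
  push Not at h
  have h1 : ∀ j : ℕ, (nil g ^ j) w₀ ∈ W ∧ (nil g ^ j) w₀ ≠ 0 := by
    intro j
    induction j with
    | zero =>
      rw [pow_zero]
      exact ⟨hw₀, hne⟩
    | succ j ih =>
      rw [nil_pow_succ]
      exact ⟨Submodule.sub_mem _ (hW _ ih.1) ih.1, sub_ne_zero.mpr (h _ ih.1 ih.2)⟩
  have h2 := (h1 (p ^ n)).2
  rw [nil_pow_eq_zero_of_pow_eq_one p hg] at h2
  exact h2 rfl

/-- a hyperplane section of a space of dimension at most two is spanned by one vector. -/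
theorem exists_gen_inf_ker [FiniteDimensional F V] (W : Submodule F V) (hW : finrank F W ≤ 2)
    (φ : V →ₗ[F] F) {x₀ : V} (hx₀ : x₀ ∈ W) (hφ : φ x₀ ≠ 0) :
    ∃ w' : V, w' ∈ W ∧ φ w' = 0 ∧ ∀ y ∈ W, φ y = 0 → ∃ c : F, y = c • w' := by
  have hnot : ¬ W ≤ LinearMap.ker φ := fun h => hφ (LinearMap.mem_ker.mp (h hx₀))
  have h1 := finrank_inf_ker W φ hnot
  have h2 : finrank F ↥(W ⊓ LinearMap.ker φ) ≤ 1 := by omega
  obtain ⟨v, hv⟩ := finrank_le_one_iff.mp h2
  refine ⟨v.1, v.2.1, LinearMap.mem_ker.mp v.2.2, fun y hy hy0 => ?_⟩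
  obtain ⟨c, hc⟩ := hv ⟨y, hy, LinearMap.mem_ker.mpr hy0⟩
  exact ⟨c, (congrArg Subtype.val hc).symm⟩

theorem polar_W0_eq_pi0 (hyp : IsHyp Q e f) {w : V} (hw : w ∈ W0 Q e f) (v : V) :
    QuadraticMap.polar Q w v = QuadraticMap.polar Q w (pi0 Q e f v) := by
  conv_lhs => rw [decomp_eq (Q := Q) (e := e) (f := f) v]
  rw [QuadraticMap.polar_add_right, QuadraticMap.polar_add_right, polar_right_lc_e,
    polar_right_lc_f, hw.1, hw.2]
  simp

theorem reflG_smul_of_perp {u x : V} (h : QuadraticMap.polar Q u x = 0) : reflG Q u • x = x :=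
  refl_of_perp Q h

/-- the isometries of `p`-power order of a two-dimensional anisotropic kernel, fixing the
frame. -/
theorem hW_two [FiniteDimensional F V] (hyp : IsHyp Q e f) (hQ : Nondeg Q)
    (hW2 : finrank F (W0 Q e f) ≤ 2) (aniso : ∀ w ∈ W0 Q e f, Q w = 0 → w = 0)
    {a₀ : V} (ha₀ : a₀ ∈ W0 Q e f) (hne : a₀ ≠ 0)
    (p : ℕ) [Fact p.Prime] [CharP F p]
    (hrefl : (2 : F) = 0 → ∀ u : V, Q u ≠ 0 → reflG Q u ∉ SG Q)
    (g : ↥(Isom Q)) (hgW : ∀ w ∈ W0 Q e f, g • w ∈ W0 Q e f) (hgp : ∃ n : ℕ, g ^ p ^ n = 1)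
    (hgS : g ∈ SG Q) (hfix : ∀ a, g • fr e f a = fr e f a) :
    ∀ w ∈ W0 Q e f, g • w = w := by
  obtain ⟨n, hn⟩ := hgp
  obtain ⟨w, hwW, hw0, hgw⟩ := exists_fixed p hn (W0 Q e f) hgW ha₀ hne
  have hQw : Q w ≠ 0 := fun h => hw0 (aniso w hwW h)
  obtain ⟨φ, hφ⟩ : ∃ φ : V →ₗ[F] F, φ = QuadraticMap.polarBilin Q w := ⟨_, rfl⟩
  have hφa : ∀ x, φ x = QuadraticMap.polar Q w x := fun x => by rw [hφ]; rfl
  have hφg : ∀ x, φ (g • x) = φ x := by
    intro x
    rw [hφa, hφa]
    conv_lhs => rw [← hgw]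
    rw [polar_smul_smul]
  by_cases h2 : (2 : F) = 0
  · -- characteristic two
    obtain ⟨v, hv⟩ : ∃ v, QuadraticMap.polar Q w v ≠ 0 := by
      by_contra h
      push Not at h
      exact hw0 (hQ w h)
    obtain ⟨x₀, hx₀⟩ : ∃ x₀, x₀ = pi0 Q e f v := ⟨_, rfl⟩
    have hx₀W : x₀ ∈ W0 Q e f := by rw [hx₀]; exact pi0_mem_W0 hyp v
    have hφx₀ : φ x₀ ≠ 0 := by
      rw [hφa, hx₀, ← polar_W0_eq_pi0 hyp hwW]
      exact hv
    obtain ⟨w', hw'W, hw'0, hw'⟩ := exists_gen_inf_ker (W0 Q e f) hW2 φ hx₀W hφx₀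
    have hφw : φ w = 0 := by
      rw [hφa, polar_self', h2, zero_mul]
    -- the kernel is spanned by `w`
    have hker : ∀ y ∈ W0 Q e f, φ y = 0 → ∃ c : F, y = c • w := by
      intro y hy hy0
      obtain ⟨c, hc⟩ := hw' w hwW hφw
      obtain ⟨d, hd⟩ := hw' y hy hy0
      have hc0 : c ≠ 0 := by
        rintro rfl
        rw [zero_smul] at hc
        exact hw0 hc
      refine ⟨d / c, ?_⟩
      rw [hd, hc, smul_smul, div_mul_cancel₀ d hc0]
    -- decomposition of the kernel along `x₀` and `w`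
    have hdec : ∀ x ∈ W0 Q e f, ∃ c : F, x = (φ x / φ x₀) • x₀ + c • w := by
      intro x hx
      obtain ⟨c, hc⟩ := hker (x - (φ x / φ x₀) • x₀)
        (Submodule.sub_mem _ hx (Submodule.smul_mem _ _ hx₀W))
        (by rw [map_sub, map_smul, smul_eq_mul, div_mul_cancel₀ _ hφx₀, sub_self])
      exact ⟨c, by rw [← hc]; abel⟩
    obtain ⟨l, hl⟩ := hker (g • x₀ - x₀) (Submodule.sub_mem _ (hgW _ hx₀W) hx₀W)
      (by rw [map_sub, hφg, sub_self])
    have hgx₀ : g • x₀ = x₀ + l • w := by rw [← hl]; abel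
    have hl2 : l * (QuadraticMap.polar Q w x₀ + l * Q w) = 0 := by
      have := Q_smul g x₀
      rw [hgx₀, QuadraticMap.map_add Q, QuadraticMap.map_smul, QuadraticMap.polar_smul_right,
        QuadraticMap.polar_comm, smul_eq_mul, smul_eq_mul] at this
      linear_combination this
    rcases mul_eq_zero.mp hl2 with hl0 | hl1
    · -- `g` fixes `x₀`
      intro x hx
      obtain ⟨c, hc⟩ := hdec x hx
      rw [hl0, zero_smul, add_zero] at hgx₀
      rw [hc, smul_add, smul_comm, smul_comm g c, hgx₀, hgw]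
    · -- `g` is the reflection in `w`
      exfalso
      have hrw : ∀ a, reflG Q w • fr e f a = fr e f a := by
        intro a
        apply reflG_smul_of_perp
        rw [QuadraticMap.polar_comm]
        exact polar_fr_of_mem_W0 hwW a
      have hrww : reflG Q w • w = w := by
        apply reflG_smul_of_perp
        rw [polar_self', h2, zero_mul]
      have hlval : l = QuadraticMap.polar Q w x₀ / Q w := by
        field_simp
        linear_combination hl1 - QuadraticMap.polar Q w x₀ * h2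
      have hrx : reflG Q w • g • x₀ = x₀ := by
        rw [hgx₀, smul_add, smul_comm, hrww, reflG_smul_eq, hlval]
        abel
      have h1 : reflG Q w * g = 1 := by
        apply eq_one_of_fix _ _ hyp
        · intro a
          rw [mul_smul, hfix, hrw]
        · intro x hx
          obtain ⟨c, hc⟩ := hdec x hx
          rw [mul_smul]
          conv_lhs => rw [hc]
          rw [smul_add, smul_add, smul_comm g, smul_comm (reflG Q w), hrx, smul_comm g,
            smul_comm (reflG Q w), hgw, hrww, ← hc]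
      have h3 : g = reflG Q w := by
        have := eq_inv_of_mul_eq_one_right h1
        rw [reflG_inv] at this
        exact this
      rw [h3] at hgS
      exact hrefl h2 w hQw hgS
  · -- odd characteristic
    have hφw : φ w ≠ 0 := by
      rw [hφa, polar_self']
      exact mul_ne_zero h2 hQw
    obtain ⟨w', hw'W, hw'0, hw'⟩ := exists_gen_inf_ker (W0 Q e f) hW2 φ hwW hφw
    have hgw' : g • w' = w' := by
      by_cases hz : w' = 0
      · rw [hz, smul_zero]
      · obtain ⟨c, hc⟩ := hw' (g • w') (hgW _ hw'W) (by rw [hφg, hw'0])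
        exact smul_eq_of_pow_eq_one p hc hz hn
    intro x hx
    obtain ⟨c, hc⟩ := hw' (x - (φ x / φ w) • w)
      (Submodule.sub_mem _ hx (Submodule.smul_mem _ _ hwW))
      (by rw [map_sub, map_smul, smul_eq_mul, div_mul_cancel₀ _ hφw, sub_self])
    have hx' : x = (φ x / φ w) • w + c • w' := by rw [← hc]; abel
    conv_lhs => rw [hx']
    rw [smul_add, smul_comm, smul_comm g c, hgw, hgw', ← hx']

end Cfsg.Agent.Helper8.OSt
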