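import Mathlib
import Cfsg.Agent.Helper8.OStW

set_option autoImplicit false

/-!
# The Steinberg character of `PΩ⁻_{2m+2}(q)`, `m ≥ 2` (helper8)
-/

namespace Cfsg.Agent.Helper8.OSt

open Module Cfsg Cfsg.Agent.Helper8.QuadForm Cfsg.Agent.Helper8.WittQuad
  Cfsg.Agent.Helper8.OrthOrder
  Cfsg.Agent.Helper8.Siegel Cfsg.Agent.Helper8.SiegelGroup Cfsg.Agent.Helper8.OGenA
  Cfsg.Agent.Helper8.OGenB Cfsg.Agent.Lead.SpFus Cfsg.Agent.Lead.SpBN Cfsg.Agent.Helper7.BN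
  Cfsg.Agent.Helper8.StdForms Cfsg.Agent.Helper8.OmegaStd2 Cfsg.Agent.Helper8.Dickson

universe u

variable (F : Type u) [Field F] (k : ℕ) (a b : F)

/-- the frame of the minus form. -/
def eM (j : Fin (k + 1)) : (Fin (k + 1) ⊕ Fin (k + 1)) ⊕ Fin 2 → F :=
  Pi.single (Sum.inl (Sum.inl j)) 1

def fM (j : Fin (k + 1)) : (Fin (k + 1) ⊕ Fin (k + 1)) ⊕ Fin 2 → F :=
  Pi.single (Sum.inl (Sum.inr j)) 1

def aM : (Fin (k + 1) ⊕ Fin (k + 1)) ⊕ Fin 2 → F := Pi.single (Sum.inr 0) 1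

theorem mem_W0_M {w : (Fin (k + 1) ⊕ Fin (k + 1)) ⊕ Fin 2 → F} :
    w ∈ W0 (minusForm F (k + 1) a b) (eM F k) (fM F k) ↔ ∀ x, w (Sum.inl x) = 0 := by
  rw [mem_W0]
  constructor
  · rintro ⟨h1, h2⟩ (j | j)
    · have := h2 j
      rwa [fM, minus_polar_f] at this
    · have := h1 j
      rwa [eM, minus_polar_e] at this
  · intro h
    refine ⟨fun j => ?_, fun j => ?_⟩
    · rw [eM, minus_polar_e]
      exact h _
    · rw [fM, minus_polar_f]
      exact h _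

theorem Q_of_mem_W0_M {w : (Fin (k + 1) ⊕ Fin (k + 1)) ⊕ Fin 2 → F}
    (hw : w ∈ W0 (minusForm F (k + 1) a b) (eM F k) (fM F k)) :
    minusForm F (k + 1) a b w
      = w (Sum.inr 0) ^ 2 + a * w (Sum.inr 0) * w (Sum.inr 1) + b * w (Sum.inr 1) ^ 2 := by
  rw [mem_W0_M] at hw
  rw [minusForm_apply]
  unfold quadFormMinus
  rw [Finset.sum_eq_zero, zero_add]
  intro i _
  rw [hw, zero_mul]

theorem Q_aM : minusForm F (k + 1) a b (aM F k) = 1 := by
  classical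
  rw [minusForm_apply]
  unfold quadFormMinus aM
  simp

variable {a b}

theorem wdataM (hab : ∀ z₁ z₂ : F, z₁ ^ 2 + a * z₁ * z₂ + b * z₂ ^ 2 = 0 → z₁ = 0 ∧ z₂ = 0) :
    WData (minusForm F (k + 1) a b) (eM F k) (fM F k) (aM F k) where
  hyp := minus_isHyp F (k + 1) a b
  ha₀ := by
    classical
    rw [mem_W0_M]
    intro x
    simp [aM]
  hQ0 := Q_aM F k a b
  aniso := by
    intro w hw h0
    rw [Q_of_mem_W0_M F k a b hw] at h0
    obtain ⟨h1, h2⟩ := hab _ _ h0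
    rw [mem_W0_M] at hw
    funext x
    rcases x with x | x
    · exact hw x
    · fin_cases x
      · exact h1
      · exact h2

variable (a b)

theorem finrank_W0_M : finrank F (W0 (minusForm F (k + 1) a b) (eM F k) (fM F k)) ≤ 2 := by
  obtain ⟨ψ, hψ⟩ : ∃ ψ : ↥(W0 (minusForm F (k + 1) a b) (eM F k) (fM F k)) →ₗ[F] (Fin 2 → F),
      ψ = (LinearMap.funLeft F F Sum.inr) ∘ₗ
        (W0 (minusForm F (k + 1) a b) (eM F k) (fM F k)).subtype := ⟨_, rfl⟩
  have hinj : Function.Injective ψ := by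
    rw [← LinearMap.ker_eq_bot, LinearMap.ker_eq_bot']
    intro w hw
    apply Subtype.ext
    funext x
    rcases x with x | x
    · exact (mem_W0_M F k a b).mp w.2 x
    · have := congrFun hw x
      rw [hψ] at this
      exact this
  have := LinearMap.finrank_le_finrank_of_injective hinj
  rw [Module.finrank_fintype_fun_eq_card, Fintype.card_fin] at this
  exact this

variable {a b}

/-- reflections do not lie in the Siegel group. -/
theorem reflG_not_mem_SG_M [Fintype F]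
    (hab : ∀ z₁ z₂ : F, z₁ ^ 2 + a * z₁ * z₂ + b * z₂ ^ 2 = 0 → z₁ = 0 ∧ z₂ = 0) (hk : 1 ≤ k)
    (u : (Fin (k + 1) ⊕ Fin (k + 1)) ⊕ Fin 2 → F) (hu : minusForm F (k + 1) a b u ≠ 0) :
    reflG (minusForm F (k + 1) a b) u ∉ SG (minusForm F (k + 1) a b) := by
  have hQ := minusForm_nondeg F (k + 1) hab
  have hQ' : Nondeg (minusForm F (k + 1) a b) := (nondeg_iff _).mp hQ
  have h5 : 5 ≤ Fintype.card ((Fin (k + 1) ⊕ Fin (k + 1)) ⊕ Fin 2) := by
    simp only [Fintype.card_sum, Fintype.card_fin]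
    omega
  have hgen := Cfsg.Agent.Helper8.OmegaSimple.closure_reflG (minusForm F (k + 1) a b) hQ h5
  have h5' : 5 ≤ finrank F ((Fin (k + 1) ⊕ Fin (k + 1)) ⊕ Fin 2 → F) := by
    rw [Module.finrank_fintype_fun_eq_card]
    exact h5
  rw [← commutator_eq_SG _ hQ' h5' hgen]
  exact reflG_not_mem_commutator hQ' hgen hu

/-- the diagonal subgroup of the minus type orthogonal group has no element of order `p`. -/
theorem hT_M [Fintype F] (p : ℕ) [Fact p.Prime] [CharP F p]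
    (hab : ∀ z₁ z₂ : F, z₁ ^ 2 + a * z₁ * z₂ + b * z₂ ^ 2 = 0 → z₁ = 0 ∧ z₂ = 0) (hk : 1 ≤ k)
    (t : ↥(SG (minusForm F (k + 1) a b)))
    (hp : Pat (minusForm F (k + 1) a b) (eM F k) (fM F k) 1
      (t : ↥(Isom (minusForm F (k + 1) a b))))
    (ht : ∃ n : ℕ, t ^ p ^ n = 1) : t = 1 := by
  have D := wdataM F k hab
  have hQ' : Nondeg (minusForm F (k + 1) a b) := (nondeg_iff _).mp (minusForm_nondeg F (k + 1) hab)
  have hne : aM F k ≠ 0 := by
    intro h
    have := Q_aM F k a b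
    rw [h, map_zero] at this
    exact zero_ne_one this
  apply hT_of_W0 D.hyp p ?_ t hp ht
  intro g hgW hgp hgS hfix
  exact hW_two D.hyp hQ' (finrank_W0_M F k a b) D.aniso D.ha₀ hne p
    (fun _ u hu => reflG_not_mem_SG_M F k hab hk u hu) g hgW hgp hgS hfix

/-- **the Steinberg character of `PΩ⁻_{2m+2}(q)`** for `m ≥ 2`. -/
theorem steinberg_minus [Fintype F] (p : ℕ) [Fact p.Prime] [CharP F p]
    (hab : ∀ z₁ z₂ : F, z₁ ^ 2 + a * z₁ * z₂ + b * z₂ ^ 2 = 0 → z₁ = 0 ∧ z₂ = 0) (hk : 1 ≤ k) :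
    ∃ χ : POmega F (quadFormMinus (k + 1) F a b) → ℂ,
      IsIrrCharacter (POmega F (quadFormMinus (k + 1) F a b)) χ ∧
      ∀ P : Sylow p (POmega F (quadFormMinus (k + 1) F a b)), χ 1 = Nat.card P ∧
        ∀ x : POmega F (quadFormMinus (k + 1) F a b), x ∈ P → x ≠ 1 → χ x = 0 := by
  have hfun : (⇑(minusForm F (k + 1) a b) : ((Fin (k + 1) ⊕ Fin (k + 1)) ⊕ Fin 2 → F) → F)
      = quadFormMinus (k + 1) F a b := funext (minusForm_apply F (k + 1) a b)
  have h5 : 5 ≤ Fintype.card ((Fin (k + 1) ⊕ Fin (k + 1)) ⊕ Fin 2) := by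
    simp only [Fintype.card_sum, Fintype.card_fin]
    omega
  have := steinberg_POmega (minusForm F (k + 1) a b) (wdataM F k hab)
    (minusForm_nondeg F (k + 1) hab) h5 p (hT_M F k p hab hk)
  rw [hfun] at this
  exact this

end Cfsg.Agent.Helper8.OSt
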