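import Mathlib
import Cfsg.Agent.Helper8.Af13E
import Cfsg.Agent.Helper8.ODtF
import Cfsg.Agent.Helper8.OStU
import Cfsg.Agent.Helper8.OStX

set_option autoImplicit false

/-!
# Automorphisms of `PΩ_{2m+1}(q)`, `PΩ⁺_{2m}(q)`, `PΩ⁻_{2m}(q)` fixing a Sylow `p`-subgroup (helper8)
-/

namespace Cfsg.Agent.Helper8.Af13

open Module Cfsg Cfsg.Agent.Helper8.QuadForm Cfsg.Agent.Helper8.WittQuad
  Cfsg.Agent.Helper8.OrthOrder
  Cfsg.Agent.Helper8.Siegel Cfsg.Agent.Helper8.SiegelGroup Cfsg.Agent.Helper8.OGenA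
  Cfsg.Agent.Helper8.OGenB Cfsg.Agent.Helper8.OSt Cfsg.Agent.Helper8.ODt
  Cfsg.Agent.Helper8.StdForms Cfsg.Agent.Helper8.OmegaStd Cfsg.Agent.LT3

universe u

variable (F : Type u) [Field F] [Fintype F] (p : ℕ) [Fact p.Prime] [CharP F p]

/-- **`PΩ_{2m+1}(q)`, `q` odd, `m ≥ 3`.** -/
theorem af13_odd (k : ℕ) (hodd : Odd (Fintype.card F)) :
    lt3q_P p (POmega F (quadFormOdd (k + 3) F)) := by
  have h2 : (2 : F) ≠ 0 := Cfsg.Agent.Helper8.OmegaStd.two_ne_zero_of_odd hodd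
  have hfun : (⇑(oddForm F (k + 3)) : (Unit ⊕ (Fin (k + 3) ⊕ Fin (k + 3)) → F) → F)
      = quadFormOdd (k + 3) F := funext (oddForm_apply F (k + 3))
  have h5 : 5 ≤ Fintype.card (Unit ⊕ (Fin (k + 3) ⊕ Fin (k + 3))) := by
    simp only [Fintype.card_sum, Fintype.card_unit, Fintype.card_fin]
    omega
  have D := wdataB F (k + 2)
  have hQ := oddForm_nondeg F (k + 3) h2
  have hQ' : Nondeg (oddForm F (k + 3)) := (nondeg_iff _).mp hQ
  have := af13_POmega (oddForm F (k + 3)) (e := eB F (k + 2)) (f := fB F (k + 2)) D.hyp hQ h5 p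
    (fun _ => D.not_dvd_index_Us hQ' p (hT_B F (k + 2) p))
  rw [hfun] at this
  exact this

/-- **`PΩ⁺_{2m}(q)`, `m ≥ 3`.** -/
theorem af13_plus (k : ℕ) :
    lt3q_P p (POmega F (quadFormPlus (k + 3) F)) := by
  have hfun : (⇑(plusForm F (k + 3)) : (Fin (k + 3) ⊕ Fin (k + 3) → F) → F)
      = quadFormPlus (k + 3) F := funext (plusForm_apply F (k + 3))
  have h5 : 5 ≤ Fintype.card (Fin (k + 3) ⊕ Fin (k + 3)) := by
    simp only [Fintype.card_sum, Fintype.card_fin]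
    omega
  have D := ddataP F (k + 1)
  have hQ := plusForm_nondeg F (k + 3)
  have hQ' : Nondeg (plusForm F (k + 3)) := (nondeg_iff _).mp hQ
  have := af13_POmega (plusForm F (k + 3)) (e := eP F (k + 1)) (f := fP F (k + 1)) D.hyp hQ h5 p
    (fun _ => D.not_dvd_index_Us hQ' p)
  rw [hfun] at this
  exact this

/-- **`PΩ⁻_{2m+2}(q)`, `m ≥ 3`.** -/
theorem af13_minus (k : ℕ) (a b : F)
    (hab : ∀ z₁ z₂ : F, z₁ ^ 2 + a * z₁ * z₂ + b * z₂ ^ 2 = 0 → z₁ = 0 ∧ z₂ = 0) :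
    lt3q_P p (POmega F (quadFormMinus (k + 3) F a b)) := by
  have hfun : (⇑(minusForm F (k + 3) a b) : ((Fin (k + 3) ⊕ Fin (k + 3)) ⊕ Fin 2 → F) → F)
      = quadFormMinus (k + 3) F a b := funext (minusForm_apply F (k + 3) a b)
  have h5 : 5 ≤ Fintype.card ((Fin (k + 3) ⊕ Fin (k + 3)) ⊕ Fin 2) := by
    simp only [Fintype.card_sum, Fintype.card_fin]
    omega
  have D := wdataM F (k + 2) hab
  have hQ := minusForm_nondeg F (k + 3) hab
  have hQ' : Nondeg (minusForm F (k + 3) a b) := (nondeg_iff _).mp hQ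
  have := af13_POmega (minusForm F (k + 3) a b) (e := eM F (k + 2)) (f := fM F (k + 2)) D.hyp hQ h5 p
    (fun _ => D.not_dvd_index_Us hQ' p (hT_M F (k + 2) p hab (by omega)))
  rw [hfun] at this
  exact this

end Cfsg.Agent.Helper8.Af13
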