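import Mathlib
import Cfsg.Prelude.Def_GeometricClasses
import Cfsg.Agent.Helper8.AschOmN2A

/-!
# ASCH-OM part 3 (helper8), piece N2, part B: an adjoint-closed, not self-adjoint field of degree two normalised by an
irreducible group of isometries acts by similarities of `Q`
-/

set_option autoImplicit false

namespace Cfsg.Agent.Helper8.AschOm

open Cfsg Cfsg.Geo Cfsg.Agent.Lead.AschO Cfsg.Agent.Helper3.AschOm
open scoped MatrixGroups Matrix

variable {n : ℕ} {F : Type*} [Field F]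

/-- an additive square-semilinear functional vanishes when `2 ≠ 0` -/
theorem semiAdd_eq_zero_of_two_ne_zero {φ : (Fin n → F) → F} (hφ : SemiAdd φ) (h2 : (2 : F) ≠ 0)
    (v : Fin n → F) : φ v = 0 := by
  have h1 := hφ.smul 2 v
  rw [two_smul, hφ.add] at h1
  have h3 : (2 : F) * φ v = 0 := by linear_combination (-1 : F) * h1
  exact (mul_eq_zero.1 h3).resolve_left h2

/-- the polar form is invariant under isometries -/
theorem polar_isometry' {Q : (Fin n → F) → F} {g : GL (Fin n) F} (hg : g ∈ isometryGroup F Q)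
    (u v : Fin n → F) :
    QuadraticMap.polar Q ((g : Matrix (Fin n) (Fin n) F) *ᵥ u) ((g : Matrix (Fin n) (Fin n) F) *ᵥ v) =
      QuadraticMap.polar Q u v := by
  have h := mem_isometryGroup_iff.1 hg
  unfold QuadraticMap.polar
  rw [← Matrix.mulVec_add, h, h, h]

/-- **N2b (i)** -/
theorem similarity_of_adjointClosed_two [Fintype F] (hn : 2 ≤ n) (Q : (Fin n → F) → F)
    (hQ : IsNondegenerateQuadraticForm Q) {H : Subgroup (GL (Fin n) F)} (hHI : H ≤ isometryGroup F Q)
    (hirr : ActsIrreducibly (matrixSet H)) (K : Subalgebra F (Matrix (Fin n) (Fin n) F))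
    (hK : IsFieldSubalgebra 2 K) (hac : IsAdjointClosedFor (QuadraticMap.polar Q) K)
    (hnsa : ¬ IsSelfAdjointFor (QuadraticMap.polar Q) K) (hle : H ≤ subalgebraNormalizer K) :
    ∀ k ∈ K, ∃ c : F, ∀ v : Fin n → F, Q (k *ᵥ v) = c * Q v := by
  classical
  obtain ⟨θ, θ', t, ν, hθK, hθ'K, hadj, ht, hν, hspan⟩ := exists_generator_two Q hQ K hK hac hnsa
  have hB := hQ.polar_bilinear
  have hθ' : θ' = t • (1 : Matrix (Fin n) (Fin n) F) - θ := by rw [← ht]; abel
  have hθθ' : θ' * θ = ν • (1 : Matrix (Fin n) (Fin n) F) := by rw [hK.comm θ' hθ'K θ hθK]; exact hν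
  have hpol_t : ∀ u v, QuadraticMap.polar Q u (θ *ᵥ v) + QuadraticMap.polar Q u (θ' *ᵥ v) =
      t * QuadraticMap.polar Q u v := by
    intro u v
    rw [← hB.add_right, ← Matrix.add_mulVec, ht, Matrix.smul_mulVec, Matrix.one_mulVec, hB.smul_right]
  have hpol_ν : ∀ u v, QuadraticMap.polar Q (θ *ᵥ u) (θ *ᵥ v) = ν * QuadraticMap.polar Q u v := by
    intro u v
    rw [hadj, Matrix.mulVec_mulVec, hθθ', Matrix.smul_mulVec, Matrix.one_mulVec, hB.smul_right]
  -- the two semilinear functionals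
  have hχ : SemiAdd (fun v : Fin n → F => QuadraticMap.polar Q v (θ *ᵥ v) - t * Q v) := by
    constructor
    · intro u v
      show QuadraticMap.polar Q (u + v) (θ *ᵥ (u + v)) - t * Q (u + v) = _
      rw [Matrix.mulVec_add, hB.add_left, hB.add_right, hB.add_right, quad_add' Q u v]
      have h1 : QuadraticMap.polar Q v (θ *ᵥ u) = QuadraticMap.polar Q u (θ' *ᵥ v) := by
        rw [polar_symm', hadj]
      have h2 := hpol_t u v
      rw [h1]
      linear_combination h2
    · intro c u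
      show QuadraticMap.polar Q (c • u) (θ *ᵥ (c • u)) - t * Q (c • u) = _
      rw [Matrix.mulVec_smul, hB.smul_left, hB.smul_right, hQ.smul]
      ring
  have hψ : SemiAdd (fun v : Fin n → F => Q (θ *ᵥ v) - ν * Q v) := by
    constructor
    · intro u v
      show Q (θ *ᵥ (u + v)) - ν * Q (u + v) = _
      rw [Matrix.mulVec_add, quad_add' Q (θ *ᵥ u), quad_add' Q u v, hpol_ν]
      ring
    · intro c u
      show Q (θ *ᵥ (c • u)) - ν * Q (c • u) = _
      rw [Matrix.mulVec_smul, hQ.smul, hQ.smul]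
      ring
  -- both vanish
  have key : (∀ v, QuadraticMap.polar Q v (θ *ᵥ v) = t * Q v) ∧ (∀ v, Q (θ *ᵥ v) = ν * Q v) := by
    by_cases h2 : (2 : F) = 0
    swap
    · exact ⟨fun v => sub_eq_zero.1 (semiAdd_eq_zero_of_two_ne_zero hχ h2 v),
        fun v => sub_eq_zero.1 (semiAdd_eq_zero_of_two_ne_zero hψ h2 v)⟩
    -- conjugates of `θ`
    have hconj : ∀ g ∈ H, ((g⁻¹ : GL (Fin n) F) : Matrix (Fin n) (Fin n) F) * θ * (g : Matrix (Fin n) (Fin n) F) = θ ∨
        ((g⁻¹ : GL (Fin n) F) : Matrix (Fin n) (Fin n) F) * θ * (g : Matrix (Fin n) (Fin n) F) = θ' := by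
      intro g hg
      have e1 : ((g⁻¹ : GL (Fin n) F) : Matrix (Fin n) (Fin n) F) * (g : Matrix (Fin n) (Fin n) F) = 1 :=
        Units.inv_mul g
      have e2 : (g : Matrix (Fin n) (Fin n) F) * ((g⁻¹ : GL (Fin n) F) : Matrix (Fin n) (Fin n) F) = 1 :=
        Units.mul_inv g
      set κ := ((g⁻¹ : GL (Fin n) F) : Matrix (Fin n) (Fin n) F) * θ * (g : Matrix (Fin n) (Fin n) F) with hκ
      have hκK : κ ∈ K := by
        have h1 := (hle (H.inv_mem hg) θ).1 hθK
        rwa [inv_inv] at h1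
      have hpoly : θ * θ - t • θ + ν • (1 : Matrix (Fin n) (Fin n) F) = 0 := by
        rw [← hν, hθ', Matrix.mul_sub, Matrix.mul_smul, Matrix.mul_one]
        abel
      have hκpoly : κ * κ - t • κ + ν • (1 : Matrix (Fin n) (Fin n) F) = 0 := by
        have h1 : κ * κ = ((g⁻¹ : GL (Fin n) F) : Matrix (Fin n) (Fin n) F) * (θ * θ) *
            (g : Matrix (Fin n) (Fin n) F) := by
          rw [hκ]
          calc ((g⁻¹ : GL (Fin n) F) : Matrix (Fin n) (Fin n) F) * θ * (g : Matrix (Fin n) (Fin n) F) *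
              (((g⁻¹ : GL (Fin n) F) : Matrix (Fin n) (Fin n) F) * θ * (g : Matrix (Fin n) (Fin n) F))
              = ((g⁻¹ : GL (Fin n) F) : Matrix (Fin n) (Fin n) F) * θ *
                ((g : Matrix (Fin n) (Fin n) F) * ((g⁻¹ : GL (Fin n) F) : Matrix (Fin n) (Fin n) F)) * θ *
                (g : Matrix (Fin n) (Fin n) F) := by simp only [Matrix.mul_assoc]
            _ = _ := by rw [e2, Matrix.mul_one]; simp only [Matrix.mul_assoc]
        have h3 : ((g⁻¹ : GL (Fin n) F) : Matrix (Fin n) (Fin n) F) *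
            (θ * θ - t • θ + ν • (1 : Matrix (Fin n) (Fin n) F)) * (g : Matrix (Fin n) (Fin n) F) =
            κ * κ - t • κ + ν • (1 : Matrix (Fin n) (Fin n) F) := by
          rw [h1, hκ, Matrix.mul_add, Matrix.add_mul, Matrix.mul_sub, Matrix.sub_mul, Matrix.mul_smul,
            Matrix.smul_mul, Matrix.mul_smul, Matrix.smul_mul, Matrix.mul_one, e1]
        rw [← h3, hpoly, Matrix.mul_zero, Matrix.zero_mul]
      have hprod : (κ - θ) * (κ - θ') = 0 := by
        have hc : θ * κ = κ * θ := hK.comm θ hθK κ hκK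
        rw [hθ', ← hκpoly]
        rw [Matrix.sub_mul, Matrix.mul_sub, Matrix.mul_sub, Matrix.mul_sub, Matrix.mul_sub, Matrix.mul_smul,
          Matrix.mul_smul, Matrix.mul_one, Matrix.mul_one, hc, ← hν, hθ', Matrix.mul_sub, Matrix.mul_smul,
          Matrix.mul_one]
        abel
      by_cases h0 : κ - θ = 0
      · exact Or.inl (sub_eq_zero.1 h0)
      · right
        obtain ⟨y, hyK, hy⟩ := hK.inv (κ - θ) (K.sub_mem hκK hθK) h0
        have hy' : y * (κ - θ) = 1 := by rw [hK.comm y hyK _ (K.sub_mem hκK hθK)]; exact hy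
        have : κ - θ' = 0 := by
          calc κ - θ' = (y * (κ - θ)) * (κ - θ') := by rw [hy', Matrix.one_mul]
            _ = y * ((κ - θ) * (κ - θ')) := by rw [Matrix.mul_assoc]
            _ = 0 := by rw [hprod, Matrix.mul_zero]
        exact sub_eq_zero.1 this
    have hgκ : ∀ g : GL (Fin n) F, ∀ v : Fin n → F, θ *ᵥ ((g : Matrix (Fin n) (Fin n) F) *ᵥ v) =
        (g : Matrix (Fin n) (Fin n) F) *ᵥ ((((g⁻¹ : GL (Fin n) F) : Matrix (Fin n) (Fin n) F) * θ *
          (g : Matrix (Fin n) (Fin n) F)) *ᵥ v) := by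
      intro g v
      have e2 : (g : Matrix (Fin n) (Fin n) F) * ((g⁻¹ : GL (Fin n) F) : Matrix (Fin n) (Fin n) F) = 1 :=
        Units.mul_inv g
      rw [Matrix.mulVec_mulVec, Matrix.mulVec_mulVec, ← Matrix.mul_assoc, ← Matrix.mul_assoc, e2, Matrix.one_mul]
    have hχ0 : ∀ v, QuadraticMap.polar Q v (θ *ᵥ v) - t * Q v = 0 := by
      intro v
      refine SemiAdd.eq_zero_of_invariant hχ h2 hirr ?_ (by rw [Fintype.card_fin]; exact hn) v
      rintro s hs w
      obtain ⟨g, hg, rfl⟩ := hs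
      show QuadraticMap.polar Q ((g : Matrix (Fin n) (Fin n) F) *ᵥ w) (θ *ᵥ ((g : Matrix (Fin n) (Fin n) F) *ᵥ w)) -
        t * Q ((g : Matrix (Fin n) (Fin n) F) *ᵥ w) = QuadraticMap.polar Q w (θ *ᵥ w) - t * Q w
      rw [hgκ g w, polar_isometry' (hHI hg), mem_isometryGroup_iff.1 (hHI hg)]
      rcases hconj g hg with h | h
      · rw [h]
      · rw [h, ← hadj, polar_symm']
    have hχ1 : ∀ v, QuadraticMap.polar Q v (θ *ᵥ v) = t * Q v := fun v => sub_eq_zero.1 (hχ0 v)
    refine ⟨hχ1, fun v => sub_eq_zero.1 ?_⟩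
    refine SemiAdd.eq_zero_of_invariant hψ h2 hirr ?_ (by rw [Fintype.card_fin]; exact hn) v
    rintro s hs w
    obtain ⟨g, hg, rfl⟩ := hs
    show Q (θ *ᵥ ((g : Matrix (Fin n) (Fin n) F) *ᵥ w)) - ν * Q ((g : Matrix (Fin n) (Fin n) F) *ᵥ w) =
      Q (θ *ᵥ w) - ν * Q w
    rw [hgκ g w, mem_isometryGroup_iff.1 (hHI hg), mem_isometryGroup_iff.1 (hHI hg)]
    rcases hconj g hg with h | h
    · rw [h]
    · rw [h, hθ', Matrix.sub_mulVec, Matrix.smul_mulVec, Matrix.one_mulVec]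
      have h5 : t • w - θ *ᵥ w = t • w + (-1 : F) • (θ *ᵥ w) := by rw [neg_one_smul]; abel
      rw [h5, quad_add' Q, hQ.smul, hQ.smul, hB.smul_left, hB.smul_right, hχ1 w]
      ring
  obtain ⟨hχ1, hψ1⟩ := key
  intro k hk
  obtain ⟨a, b, rfl⟩ := hspan k hk
  refine ⟨a ^ 2 + a * b * t + b ^ 2 * ν, fun v => ?_⟩
  rw [Matrix.add_mulVec, Matrix.smul_mulVec, Matrix.smul_mulVec, Matrix.one_mulVec, quad_add' Q, hQ.smul,
    hQ.smul, hB.smul_left, hB.smul_right, hχ1 v, hψ1 v]
  ring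

end Cfsg.Agent.Helper8.AschOm
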