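import Mathlib
import Cfsg.Agent.Helper8.QuadTypeH

/-!
# Types of quadratic spaces (helper8), part J: anisotropic planes over finite fields are non-degenerate
-/

set_option autoImplicit false

namespace Cfsg.Agent.Helper8.QuadType

open Module Cfsg.Agent.Helper8.QuadForm Cfsg.Agent.Helper7.QTy Cfsg.Agent.Helper7.SpOrd

variable {F : Type*} [Field F] {V : Type*} [AddCommGroup V] [Module F V]

/-- an anisotropic plane over a finite field is non-degenerate -/
theorem nd_of_aniso_plane [Fintype F] [FiniteDimensional F V] {Q : QuadraticForm F V} {A : Submodule F V}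
    (hd : finrank F ↥A = 2) (han : ∀ a ∈ A, Q a = 0 → a = 0) : ND (QuadraticMap.polarBilin Q) A := by
  intro x hx hx0
  by_contra hall
  push Not at hall
  have hQx : Q x ≠ 0 := fun h => hx0 (han x hx h)
  by_cases h2 : (2 : F) = 0
  swap
  · have h1 := hall x hx
    rw [pB_apply, QuadraticMap.polar_self, two_smul, ← two_mul] at h1
    rcases mul_eq_zero.1 h1 with h | h
    · exact h2 h
    · exact hQx h
  -- characteristic two
  have hchar : ringChar F = 2 := by
    have : ringChar F ∣ 2 := by
      rw [← ringChar.spec]
      exact_mod_cast h2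
    rcases (Nat.dvd_prime Nat.prime_two).mp this with h1 | h1
    · exact absurd h1 (CharP.ringChar_ne_one)
    · exact h1
  obtain ⟨y, hyA, hy⟩ : ∃ y ∈ A, y ∉ Submodule.span F {x} := by
    by_contra hcon
    push Not at hcon
    have hle : A ≤ Submodule.span F {x} := fun y hy => hcon y hy
    have h1 := Submodule.finrank_mono hle
    rw [hd, finrank_span_singleton hx0] at h1
    omega
  obtain ⟨a, ha⟩ := FiniteField.isSquare_of_char_two hchar (Q y / Q x)
  have hmem : a • x + y ∈ A := A.add_mem (A.smul_mem a hx) hyA
  have hQ0 : Q (a • x + y) = 0 := by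
    have h1 : Q (a • x + y) = Q (a • x) + Q y + QuadraticMap.polar Q (a • x) y := by
      unfold QuadraticMap.polar
      ring
    have h3 : QuadraticMap.polar Q (a • x) y = 0 := by
      rw [QuadraticMap.polar_smul_left, ← pB_apply, hall y hyA, smul_zero]
    rw [h1, h3, add_zero, QuadraticMap.map_smul, smul_eq_mul, ← ha]
    field_simp
    linear_combination (Q y) * h2
  have h0 := han _ hmem hQ0
  apply hy
  rw [Submodule.mem_span_singleton]
  refine ⟨-a, ?_⟩
  rw [neg_smul]
  exact (eq_neg_of_add_eq_zero_right h0).symm

end Cfsg.Agent.Helper8.QuadType
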