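import Mathlib
import Cfsg.Prelude.Def_GeometricClasses
import Cfsg.Agent.Helper8.AschOmN2B
import Cfsg.Agent.Helper8.AschOmType
import Cfsg.Agent.Helper8.QuadTypeJ
import Cfsg.Agent.Helper7.AschSpDvd

/-!
# ASCH-OM part 3 (helper8), piece N2, part C: a quadratic space on which an adjoint-closed field of degree two acts by
similarities is an orthogonal sum of anisotropic planes; it is of plus type iff `n / 2` is even
-/

set_option autoImplicit false

namespace Cfsg.Agent.Helper8.AschOm

open Cfsg Cfsg.Geo Cfsg.Agent.Lead.AschO Cfsg.Agent.Lead.AschOm Cfsg.Agent.Helper8.QuadForm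
  Cfsg.Agent.Helper8.QuadType Cfsg.Agent.Helper7.QTy Cfsg.Agent.Helper7.SpOrd Cfsg.Agent.Helper7.AschSpDvd Module
open scoped MatrixGroups Matrix

variable {n : ℕ} {F : Type*} [Field F]

/-- `W` is invariant under the subalgebra `K` -/
def KInv (K : Subalgebra F (Matrix (Fin n) (Fin n) F)) (W : Submodule F (Fin n → F)) : Prop :=
  ∀ k ∈ K, ∀ w ∈ W, k *ᵥ w ∈ W

/-- the type of a `K`-invariant non-degenerate subspace -/
theorem hyp_iff_even_of_similarity_two [Fintype F] (Q : (Fin n → F) → F) (hQ : IsNondegenerateQuadraticForm Q)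
    (K : Subalgebra F (Matrix (Fin n) (Fin n) F)) (hK : IsFieldSubalgebra 2 K)
    (hac : IsAdjointClosedFor (QuadraticMap.polar Q) K)
    (hsim : ∀ k ∈ K, ∃ c : F, ∀ v : Fin n → F, Q (k *ᵥ v) = c * Q v) :
    ∀ (j : ℕ) (W : Submodule F (Fin n → F)), KInv K W → ND (QuadraticMap.polarBilin (toQF Q hQ)) W →
      finrank F W = 2 * j → (Hyp (toQF Q hQ) W ↔ Even j) := by
  classical
  have hrefl := pB_refl (toQF Q hQ)
  have hV : ND (QuadraticMap.polarBilin (toQF Q hQ)) ⊤ := nd_top_of_nondeg (toQF_nondeg Q hQ)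
  intro j
  induction j with
  | zero =>
    intro W _ _ hd
    have hW : W = ⊥ := Submodule.finrank_eq_zero.1 (by rw [hd])
    rw [hW]
    exact iff_of_true (hyp_bot _) Even.zero
  | succ j ih =>
    intro W hWK hWnd hd
    -- a non-singular vector of `W`
    obtain ⟨v, hvW, hv⟩ : ∃ v ∈ W, Q v ≠ 0 := by
      by_contra hcon
      push Not at hcon
      have hpos : 0 < finrank F W := by rw [hd]; omega
      obtain ⟨⟨w, hwW⟩, hw0⟩ := Module.finrank_pos_iff_exists_ne_zero.1 hpos
      have hw0' : w ≠ 0 := fun h => hw0 (Subtype.ext h)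
      obtain ⟨u, huW, hu⟩ := hWnd w hwW hw0'
      apply hu
      rw [pB_apply, toQF_polar]
      unfold QuadraticMap.polar
      rw [hcon _ (W.add_mem hwW huW), hcon w hwW, hcon u huW]
      ring
    have hv0 : v ≠ 0 := by
      rintro rfl
      apply hv
      have := hQ.smul 0 (0 : Fin n → F)
      simpa using this
    -- the `K`-line of `v`
    set L : Submodule F (Fin n → F) := LinearMap.range (orb K v) with hL
    have hLd : finrank F L = 2 := by
      rw [hL, LinearMap.finrank_range_of_inj (orb_injective hK hv0), hK.finrank_eq]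
    have hLW : L ≤ W := by
      rintro _ ⟨k, rfl⟩
      exact hWK k.1 k.2 v hvW
    have hLK : KInv K L := by
      rintro k hk _ ⟨k₁, rfl⟩
      refine ⟨⟨k, hk⟩ * k₁, ?_⟩
      rw [orb_apply, orb_apply, Subalgebra.coe_mul, Matrix.mulVec_mulVec]
    have han : ∀ a ∈ L, toQF Q hQ a = 0 → a = 0 := by
      rintro _ ⟨k₁, rfl⟩ h0
      rw [orb_apply] at h0 ⊢
      by_cases hk0 : (k₁ : Matrix (Fin n) (Fin n) F) = 0
      · rw [hk0, Matrix.zero_mulVec]
      · exfalso
        obtain ⟨y, hyK, hy⟩ := hK.inv k₁.1 k₁.2 hk0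
        have hy' : y * (k₁ : Matrix (Fin n) (Fin n) F) = 1 := by rw [hK.comm y hyK _ k₁.2]; exact hy
        obtain ⟨c', hc'⟩ := hsim y hyK
        have h1 := hc' ((k₁ : Matrix (Fin n) (Fin n) F) *ᵥ v)
        rw [Matrix.mulVec_mulVec, hy', Matrix.one_mulVec] at h1
        rw [toQF_apply] at h0
        rw [h0, mul_zero] at h1
        exact hv h1
    have hLnd : ND (QuadraticMap.polarBilin (toQF Q hQ)) L := nd_of_aniso_plane hLd han
    have hLnh : ¬ Hyp (toQF Q hQ) L := not_hyp_of_aniso hLd han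
    -- the complement
    set W' : Submodule F (Fin n → F) :=
      LinearMap.BilinForm.orthogonal (QuadraticMap.polarBilin (toQF Q hQ)) L ⊓ W with hW'
    have hW'K : KInv K W' := by
      intro k hk w hw
      refine ⟨mem_perp.2 ?_, hWK k hk w hw.2⟩
      intro x hx
      obtain ⟨k', hk'K, hadj⟩ := hac k hk
      rw [pB_apply, toQF_polar, polar_symm', hadj, polar_symm']
      have := mem_perp.1 hw.1 (k' *ᵥ x) (hLK k' hk'K x hx)
      rwa [pB_apply, toQF_polar] at this
    have hW'nd : ND (QuadraticMap.polarBilin (toQF Q hQ)) W' := nd_perp_inf hrefl hLnd hWnd hLW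
    have hW'd : finrank F W' = 2 * j := by
      have h3 : finrank F L + finrank F W' = finrank F W := finrank_perp_inf hrefl hLnd hLW
      omega
    have hsup : L ⊔ W' = W := sup_perp_inf hrefl hLnd hLW
    have h1 := hyp_sup_iff hV hLnd hW'nd (inf_le_left : W' ≤ _) (by rw [hLd]; exact ⟨1, rfl⟩)
      (by rw [hW'd]; exact ⟨j, by ring⟩)
    rw [hsup] at h1
    rw [h1, ih W' hW'K hW'nd hW'd, Nat.even_add_one]
    constructor
    · intro h he
      exact hLnh (h.2 he)
    · intro h
      exact ⟨fun hl => absurd hl hLnh, fun he => absurd he h⟩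

/-- **N2b (ii)**: the type of a quadratic space on which an adjoint-closed field of degree two acts by
similarities. -/
theorem plus_top_iff_even_of_similarity_two [Fintype F] (Q : (Fin n → F) → F)
    (hQ : IsNondegenerateQuadraticForm Q) (K : Subalgebra F (Matrix (Fin n) (Fin n) F))
    (hK : IsFieldSubalgebra 2 K) (hac : IsAdjointClosedFor (QuadraticMap.polar Q) K)
    (hsim : ∀ k ∈ K, ∃ c : F, ∀ v : Fin n → F, Q (k *ᵥ v) = c * Q v) {m : ℕ} (hn : n = 2 * m) :
    IsPlusTypeOn Q ⊤ ↔ Even m := by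
  rw [← hyp_iff_isPlusTypeOn Q hQ]
  refine hyp_iff_even_of_similarity_two Q hQ K hK hac hsim m ⊤ (fun k _ w _ => Submodule.mem_top)
    (nd_top_of_nondeg (toQF_nondeg Q hQ)) ?_
  rw [finrank_top, Module.finrank_fin_fun, hn]

end Cfsg.Agent.Helper8.AschOm
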