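import Mathlib
import Cfsg.Prelude.Def_GeometricClasses
import Cfsg.Agent.Helper8.AschOmType
import Cfsg.Agent.Helper8.QuadTypeH

/-!
# ASCH-OM round 2, part 2 (helper8): T1, T2, T2' in the exact shape of `notes/lead_aschOm3_stubs.lean.txt`
-/

set_option autoImplicit false

namespace Cfsg.Agent.Helper8.AschOm3

open Cfsg Cfsg.Geo Cfsg.Agent.Lead.AschOm Cfsg.Agent.Helper8.QuadForm Cfsg.Agent.Helper8.QuadType
  Cfsg.Agent.Helper7.QTy Cfsg.Agent.Helper7.SpOrd Cfsg.Agent.Helper8.AschOm Module
open scoped MatrixGroups Matrix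

variable {n : ℕ} {F : Type*} [Field F] [Fintype F]

/-- T1: non-degenerate subspaces of the same even dimension and the same type are isometric. -/
theorem isometric_of_same_type (Q : (Fin n → F) → F) (hQ : IsNondegenerateQuadraticForm Q)
    (W W' : Submodule F (Fin n → F)) (hW : IsNondegenerateOn (QuadraticMap.polar Q) W)
    (hW' : IsNondegenerateOn (QuadraticMap.polar Q) W') (hdim : Module.finrank F W = Module.finrank F W')
    (hev : Even (Module.finrank F W)) (hty : IsPlusTypeOn Q W ↔ IsPlusTypeOn Q W') : AreIsometricFor Q W W' :=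
  Cfsg.Agent.Helper8.AschOm.isometric_of_same_type Q hQ hW hW' hdim hev hty

/-- T2: the type of an orthogonal sum of two non-degenerate even-dimensional subspaces. -/
theorem plus_sup_iff (Q : (Fin n → F) → F) (hQ : IsNondegenerateQuadraticForm Q)
    (W W' : Submodule F (Fin n → F)) (hW : IsNondegenerateOn (QuadraticMap.polar Q) W)
    (hW' : IsNondegenerateOn (QuadraticMap.polar Q) W') (horth : AreOrthogonalFor (QuadraticMap.polar Q) W W')
    (hinf : W ⊓ W' = ⊥) (hev : Even (Module.finrank F W)) (hev' : Even (Module.finrank F W')) :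
    IsPlusTypeOn Q (W ⊔ W') ↔ (IsPlusTypeOn Q W ↔ IsPlusTypeOn Q W') :=
  Cfsg.Agent.Helper8.AschOm.plus_sup_iff Q hQ hW hW' horth hev hev'

/-- isometric subspaces have the same type -/
theorem plus_iff_of_isometric (Q : (Fin n → F) → F) (hQ : IsNondegenerateQuadraticForm Q)
    {W W' : Submodule F (Fin n → F)} (h : AreIsometricFor Q W W') : IsPlusTypeOn Q W ↔ IsPlusTypeOn Q W' := by
  obtain ⟨e, he⟩ := h
  exact hyp_iff_of_sub_isometry (Q := toQF Q hQ) e he

/-- T2': the type of an isometric decomposition into blocks of even dimension. -/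
theorem plus_blocks_iff (Q : (Fin n → F) → F) (hQ : IsNondegenerateQuadraticForm Q) {t m : ℕ}
    (D : Fin t → Submodule F (Fin n → F)) (hD : IsOrthogonalMDecomposition Q m D) (hm : Even m) :
    IsPlusTypeOn Q ⊤ ↔ (Even t ∨ ∀ i, IsPlusTypeOn Q (D i)) := by
  have h := hyp_iSup_iff (Q := toQF Q hQ) (nd_top_of_nondeg (toQF_nondeg Q hQ)) D (∀ i, IsPlusTypeOn Q (D i))
    (fun i => (nd_iff_isNondegenerateOn Q hQ (D i)).2 (hD.decomp.nondegenerate i))
    (fun i j hij => (le_orth_iff_areOrthogonalFor Q hQ (D i) (D j)).2 (hD.decomp.orthogonal i j hij))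
    (fun i => by rw [hD.decomp.decomp.finrank_eq i]; exact hm)
    (fun i => ⟨fun hi j => (plus_iff_of_isometric Q hQ (hD.isometric i j)).1 hi, fun hall => hall i⟩)
  rw [hD.decomp.decomp.iSup_eq_top] at h
  exact h

end Cfsg.Agent.Helper8.AschOm3
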