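import Mathlib
import Cfsg.Prelude.Def_GeometricClasses
import Cfsg.Agent.Lead.AschOmB
import Cfsg.Agent.Helper8.MaxSingular

/-!
# ASCH-OM round 2 (helper8): `Ω(Q)` preserves the two families of maximal totally singular subspaces

For `n = 2m`, `U` a totally singular `m`-space and `g ∈ Ω(Q)`: `m - dim (U ∩ gU)` is even.
-/

set_option autoImplicit false

namespace Cfsg.Agent.Helper8.AschOm

open Cfsg Cfsg.Geo Cfsg.Agent.Lead.AschOm Cfsg.Agent.Helper8.MaxSingular Module
open scoped MatrixGroups Matrix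

variable {n : ℕ} {F : Type*} [Field F]

/-- the image of a subspace under an invertible matrix -/
noncomputable abbrev mapGL (g : GL (Fin n) F) (U : Submodule F (Fin n → F)) : Submodule F (Fin n → F) :=
  U.map (Matrix.toLin' (g : Matrix (Fin n) (Fin n) F))

theorem toLin'_gl_injective (g : GL (Fin n) F) :
    Function.Injective (Matrix.toLin' (g : Matrix (Fin n) (Fin n) F)) := by
  intro x y hxy
  have h := congrArg (Matrix.toLin' ((g⁻¹ : GL (Fin n) F) : Matrix (Fin n) (Fin n) F)) hxy
  rw [← LinearMap.comp_apply, ← LinearMap.comp_apply, ← Matrix.toLin'_mul, ← Units.val_mul,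
    inv_mul_cancel, Units.val_one, Matrix.toLin'_one] at h
  exact h

theorem finrank_mapGL (g : GL (Fin n) F) (U : Submodule F (Fin n → F)) :
    finrank F ↥(mapGL g U) = finrank F U :=
  (LinearEquiv.finrank_eq (Submodule.equivMapOfInjective _ (toLin'_gl_injective g) U)).symm

theorem mapGL_inf (g : GL (Fin n) F) (U W : Submodule F (Fin n → F)) :
    mapGL g (U ⊓ W) = mapGL g U ⊓ mapGL g W :=
  Submodule.map_inf _ (toLin'_gl_injective g)

theorem mapGL_mul (g h : GL (Fin n) F) (U : Submodule F (Fin n → F)) :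
    mapGL (g * h) U = mapGL g (mapGL h U) := by
  unfold mapGL
  rw [Units.val_mul, Matrix.toLin'_mul, Submodule.map_comp]

theorem mapGL_one (U : Submodule F (Fin n → F)) : mapGL (1 : GL (Fin n) F) U = U := by
  unfold mapGL
  rw [Units.val_one, Matrix.toLin'_one, Submodule.map_id]

theorem isMTS_mapGL (Q : (Fin n → F) → F) (hQ : IsNondegenerateQuadraticForm Q) {m : ℕ}
    {U : Submodule F (Fin n → F)} (hU : IsMTS (toQF Q hQ) m U) {g : GL (Fin n) F}
    (hg : g ∈ isometryGroup F Q) : IsMTS (toQF Q hQ) m (mapGL g U) := by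
  refine ⟨by rw [finrank_mapGL, hU.1], ?_⟩
  rintro _ ⟨x, hx, rfl⟩
  rw [Matrix.toLin'_apply]
  change Q _ = 0
  rw [Cfsg.Agent.Lead.AschO.mem_isometryGroup_iff.1 hg x]
  exact hU.2 x hx

theorem zmod_two_aux : ∀ a b c : ZMod 2, a + b + c = 0 → c = a + b := by decide

/-- the parity character of the isometry group with respect to a maximal totally singular subspace -/
noncomputable def famChar {m : ℕ} (hn : n = 2 * m) (Q : (Fin n → F) → F) (hQ : IsNondegenerateQuadraticForm Q)
    (U : Submodule F (Fin n → F)) (hU : IsMTS (toQF Q hQ) m U) :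
    isometryGroup F Q →* Multiplicative (ZMod 2) where
  toFun g := Multiplicative.ofAdd (((m - finrank F ↥(U ⊓ mapGL (g : GL (Fin n) F) U) : ℕ) : ZMod 2))
  map_one' := by
    change Multiplicative.ofAdd (((m - finrank F ↥(U ⊓ mapGL (1 : GL (Fin n) F) U) : ℕ) : ZMod 2)) = 1
    rw [mapGL_one, inf_idem, hU.1, Nat.sub_self, Nat.cast_zero]
    rfl
  map_mul' := by
    intro g h
    have hB := toQF_polarBilin_nondegenerate Q hQ
    have hV : finrank F (Fin n → F) = 2 * m := by rw [Module.finrank_fin_fun, hn]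
    have hgU := isMTS_mapGL Q hQ hU g.2
    have hghU := isMTS_mapGL Q hQ hU (g * h).2
    have hpar := parity hB hV hU hgU hghU
    have h1 : finrank F ↥(mapGL (g : GL (Fin n) F) U ⊓ mapGL ((g * h : isometryGroup F Q) : GL (Fin n) F) U) =
        finrank F ↥(U ⊓ mapGL (h : GL (Fin n) F) U) := by
      rw [Subgroup.coe_mul, mapGL_mul, ← mapGL_inf, finrank_mapGL]
    rw [h1] at hpar
    have h2 := (ZMod.natCast_eq_zero_iff_even).2 hpar
    push_cast at h2
    have h3 := zmod_two_aux _ _ _ h2
    change Multiplicative.ofAdd _ = Multiplicative.ofAdd _ * Multiplicative.ofAdd _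
    rw [← ofAdd_add]
    exact congrArg _ h3

/-- **`Ω(Q)` preserves the families**: for `g ∈ Ω(Q)` and `U` a totally singular subspace of half the dimension,
`m - dim (U ∩ gU)` is even. -/
theorem omega_family {m : ℕ} (hn : n = 2 * m) (Q : (Fin n → F) → F) (hQ : IsNondegenerateQuadraticForm Q)
    (U : Submodule F (Fin n → F)) (hUd : finrank F U = m) (hU : IsTotallySingularQuad Q U)
    {g : GL (Fin n) F} (hg : g ∈ omegaGL Q) :
    Even (m - finrank F ↥(U ⊓ U.map (Matrix.toLin' (g : Matrix (Fin n) (Fin n) F)))) := by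
  obtain ⟨g', hg', rfl⟩ := hg
  have hU' : IsMTS (toQF Q hQ) m U := ⟨hUd, hU⟩
  have h1 := Abelianization.commutator_subset_ker (famChar hn Q hQ U hU') hg'
  rw [MonoidHom.mem_ker] at h1
  have h2 : (((m - finrank F ↥(U ⊓ mapGL (g' : GL (Fin n) F) U) : ℕ) : ZMod 2)) = 0 := by
    have := congrArg Multiplicative.toAdd h1
    exact this
  exact (ZMod.natCast_eq_zero_iff_even).1 h2

end Cfsg.Agent.Helper8.AschOm
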