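import Mathlib
import Cfsg.Prelude.Def_GeometricClasses
import Cfsg.Agent.Helper8.AschOmFamA

/-!
# ASCH-OM round 2 (helper8): consequences of "`Ω(Q)` preserves the two families"

* a subgroup of `Ω(Q)` stabilising a pair of complementary totally singular subspaces of odd dimension `m = n/2`
  fixes both of them;
* a subgroup of `Ω(Q)` stabilising a totally singular subspace of dimension `n/2 - 1` (plus type) stabilises a
  totally singular subspace of dimension `n/2` containing it.
-/

set_option autoImplicit false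

namespace Cfsg.Agent.Helper8.AschOm

open Cfsg Cfsg.Geo Cfsg.Agent.Lead.AschOm Cfsg.Agent.Helper8.MaxSingular Module
open scoped MatrixGroups Matrix

variable {n : ℕ} {F : Type*} [Field F]

/-- an invertible matrix mapping `U` onto `U` lies in the stabiliser -/
theorem mem_subspaceStabilizer_of_map_eq {g : GL (Fin n) F} {U : Submodule F (Fin n → F)}
    (h : U.map (Matrix.toLin' (g : Matrix (Fin n) (Fin n) F)) = U) : g ∈ subspaceStabilizer U := by
  intro v
  constructor
  · intro hv
    have : Matrix.toLin' (g : Matrix (Fin n) (Fin n) F) v ∈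
        U.map (Matrix.toLin' (g : Matrix (Fin n) (Fin n) F)) := Submodule.mem_map_of_mem hv
    rw [h, Matrix.toLin'_apply] at this
    exact this
  · intro hv
    change (g : Matrix (Fin n) (Fin n) F) *ᵥ v ∈ U at hv
    rw [← h] at hv
    obtain ⟨w, hw, hwv⟩ := hv
    have := toLin'_gl_injective g hwv
    rw [← this]
    exact hw

/-- an element of the stabiliser maps `U` onto `U` -/
theorem map_eq_of_mem_subspaceStabilizer {g : GL (Fin n) F} {U : Submodule F (Fin n → F)}
    (h : g ∈ subspaceStabilizer U) : U.map (Matrix.toLin' (g : Matrix (Fin n) (Fin n) F)) = U := by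
  apply le_antisymm
  · rintro _ ⟨x, hx, rfl⟩
    rw [Matrix.toLin'_apply]
    exact (h x).1 hx
  · intro x hx
    refine ⟨((g⁻¹ : GL (Fin n) F) : Matrix (Fin n) (Fin n) F) *ᵥ x, ?_, ?_⟩
    · apply (h _).2
      change (g : Matrix (Fin n) (Fin n) F) *ᵥ _ ∈ U
      rw [Matrix.mulVec_mulVec, ← Units.val_mul, mul_inv_cancel, Units.val_one, Matrix.one_mulVec]
      exact hx
    · rw [Matrix.toLin'_apply, Matrix.mulVec_mulVec, ← Units.val_mul, mul_inv_cancel, Units.val_one,
        Matrix.one_mulVec]

/-- **(a)** a subgroup of `Ω(Q)` stabilising a pair of complementary totally singular subspaces of odd dimension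
`m = n / 2` fixes the first one (no element of `Ω(Q)` interchanges the two). -/
theorem le_stabilizer_of_ts_pair_odd {m : ℕ} (hn : n = 2 * m) (hm : Odd m) (Q : (Fin n → F) → F)
    (hQ : IsNondegenerateQuadraticForm Q) (D : Fin 2 → Submodule F (Fin n → F)) (hD : IsMDecomposition m D)
    (hts : ∀ i, IsTotallySingularQuad Q (D i)) {H : Subgroup (GL (Fin n) F)} (hHΩ : H ≤ omegaGL Q)
    (hle : H ≤ decompositionStabilizer D) (i : Fin 2) : H ≤ subspaceStabilizer (D i) := by
  intro g hg
  obtain ⟨σ, hσ⟩ := hle hg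
  by_cases hσi : σ i = i
  · apply mem_subspaceStabilizer_of_map_eq
    rw [hσ i, hσi]
  · exfalso
    have hpar := omega_family hn Q hQ (D i) (hD.finrank_eq i) (hts i) (hHΩ hg)
    rw [hσ i] at hpar
    have hdisj : Disjoint (D i) (D (σ i)) := hD.indep.pairwiseDisjoint (Ne.symm hσi)
    rw [hdisj.eq_bot, finrank_bot, Nat.sub_zero] at hpar
    exact (Nat.not_even_iff_odd.2 hm) hpar

/-- a totally singular subspace of dimension `m - 1` lies in a totally singular subspace of dimension `m`
(plus type) -/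
theorem exists_mts_ge {m : ℕ} (hn : n = 2 * m) (Q : (Fin n → F) → F)
    (hQ : IsNondegenerateQuadraticForm Q) (hplus : IsPlusTypeOn Q ⊤) (W : Submodule F (Fin n → F))
    (hWd : finrank F W + 1 = m) (hW : IsTotallySingularQuad Q W) :
    ∃ U : Submodule F (Fin n → F), W ≤ U ∧ IsTotallySingularQuad Q U ∧ finrank F U = m := by
  classical
  obtain ⟨X, -, hXts, hXd⟩ := hplus
  rw [finrank_top, Module.finrank_fin_fun] at hXd
  have hX : IsMTS (toQF Q hQ) m X := ⟨by omega, hXts⟩
  have hB := toQF_polarBilin_nondegenerate Q hQ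
  have hV : finrank F (Fin n → F) = 2 * m := by rw [Module.finrank_fin_fun, hn]
  have hcount := finrank_inf_orth hB hV hX W
  -- a vector of `X ∩ W^⊥` outside `W`
  have hlt : finrank F ↥(X ⊓ W) < finrank F ↥(X ⊓ orth (toQF Q hQ) W) := by omega
  obtain ⟨x, hx, hxn⟩ := exists_mem_not_mem hlt
  have hxW : x ∉ W := fun h => hxn ⟨hx.1, h⟩
  refine ⟨W ⊔ Submodule.span F {x}, le_sup_left, ?_, ?_⟩
  · intro v hv
    obtain ⟨w, hw, y, hy, rfl⟩ := Submodule.mem_sup.1 hv
    obtain ⟨c, rfl⟩ := Submodule.mem_span_singleton.1 hy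
    have h1 : QuadraticMap.polar Q w (c • x) = 0 := by
      rw [hQ.polar_bilinear.smul_right]
      have := (mem_orth (toQF Q hQ) W x).1 hx.2 w hw
      rw [toQF_polar] at this
      rw [this, mul_zero]
    have h2 : Q (w + c • x) = Q w + Q (c • x) + QuadraticMap.polar Q w (c • x) := by
      unfold QuadraticMap.polar
      ring
    rw [h2, h1, hW w hw, hQ.smul, hXts x hx.1]
    ring
  · rw [finrank_sup_span_singleton W hxW, hWd]

/-- **(b)** a subgroup of `Ω(Q)` (plus type, `n = 2m`) stabilising a totally singular subspace of dimension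
`m - 1` stabilises a totally singular subspace of dimension `m` containing it. -/
theorem le_stabilizer_of_ts_corank_one {m : ℕ} (hn : n = 2 * m) (Q : (Fin n → F) → F)
    (hQ : IsNondegenerateQuadraticForm Q) (hplus : IsPlusTypeOn Q ⊤) (W : Submodule F (Fin n → F))
    (hWd : finrank F W + 1 = m) (hW : IsTotallySingularQuad Q W) {H : Subgroup (GL (Fin n) F)}
    (hHΩ : H ≤ omegaGL Q) (hle : H ≤ subspaceStabilizer W) :
    ∃ U : Submodule F (Fin n → F), W ≤ U ∧ IsTotallySingularQuad Q U ∧ finrank F U = m ∧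
      H ≤ subspaceStabilizer U := by
  obtain ⟨U, hWU, hUts, hUd⟩ := exists_mts_ge hn Q hQ hplus W hWd hW
  refine ⟨U, hWU, hUts, hUd, fun g hg => ?_⟩
  have hpar := omega_family hn Q hQ U hUd hUts (hHΩ hg)
  have hgW := map_eq_of_mem_subspaceStabilizer (hle hg)
  have hWle : W ≤ U ⊓ U.map (Matrix.toLin' (g : Matrix (Fin n) (Fin n) F)) := by
    refine le_inf hWU ?_
    rw [← hgW]
    exact Submodule.map_mono hWU
  have h1 := Submodule.finrank_mono hWle
  have h2 : finrank F ↥(U ⊓ U.map (Matrix.toLin' (g : Matrix (Fin n) (Fin n) F))) ≤ m := by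
    rw [← hUd]
    exact Submodule.finrank_mono inf_le_left
  have h3 : finrank F ↥(U ⊓ U.map (Matrix.toLin' (g : Matrix (Fin n) (Fin n) F))) = m := by
    rcases hpar with ⟨k, hk⟩
    omega
  have h4 : U ⊓ U.map (Matrix.toLin' (g : Matrix (Fin n) (Fin n) F)) = U :=
    Submodule.eq_of_le_of_finrank_eq inf_le_left (by rw [h3, hUd])
  have h5 : U ⊓ U.map (Matrix.toLin' (g : Matrix (Fin n) (Fin n) F)) =
      U.map (Matrix.toLin' (g : Matrix (Fin n) (Fin n) F)) :=
    Submodule.eq_of_le_of_finrank_eq inf_le_right (by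
      rw [h3]
      exact (finrank_mapGL g U).trans hUd |>.symm)
  apply mem_subspaceStabilizer_of_map_eq
  rw [← h5, h4]

end Cfsg.Agent.Helper8.AschOm
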