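import Cfsg.Agent.Lead.OrthPlaneC
import Cfsg.Agent.Helper7.OrthNdK

/-!
# ASCH-OM piece M2a: an orthogonal sum of two isometric non-degenerate subspaces of even dimension is of
plus type

The graph of `φ ∘ ψ`, `φ` the isometry and `ψ` a similarity of the first half with multiplier `-1`, is a
totally singular subspace of half the dimension.
-/

set_option autoImplicit false
set_option linter.unusedSectionVars false

namespace Cfsg.Agent.Helper8.AschOm

open Cfsg Cfsg.Geo Module Cfsg.Agent.Helper8.QuadForm Cfsg.Agent.Lead.OrthPlane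

variable {n : ℕ} {F : Type*} [Field F] [Fintype F]

theorem quad_add (Q : (Fin n → F) → F) (u v : Fin n → F) :
    Q (u + v) = Q u + Q v + QuadraticMap.polar Q u v := by
  unfold QuadraticMap.polar
  ring

/-- **M2a** -/
theorem plus_of_isometric_halves (Q : (Fin n → F) → F) (hQ : IsNondegenerateQuadraticForm Q)
    (W W' : Submodule F (Fin n → F)) (hW : IsNondegenerateOn (QuadraticMap.polar Q) W)
    (horth : AreOrthogonalFor (QuadraticMap.polar Q) W W') (hinf : W ⊓ W' = ⊥) (hsup : W ⊔ W' = ⊤)
    (hiso : AreIsometricFor Q W W') (hev : Even (Module.finrank F W)) : IsPlusTypeOn Q ⊤ := by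
  classical
  obtain ⟨φ, hφ⟩ := hiso
  set Qb := bundle Q hQ with hQb
  set QW : QuadraticForm F W := Qb.comp W.subtype with hQW
  have hQWapp : ∀ w : W, QW w = Q (w : Fin n → F) := fun w => rfl
  have hndW : Nondeg QW := by
    rw [hQW, nondeg_comp_subtype_iff]
    intro w hw hall
    by_contra hne
    obtain ⟨⟨x, hx, hxw⟩, _⟩ := hW w hw hne
    apply hxw
    have := hall x hx
    rw [QuadraticMap.polar_comm] at this
    exact this
  -- a similarity of `W` with multiplier `-1`
  obtain ⟨ψ, hψ⟩ : ∃ ψ : W ≃ₗ[F] W, ∀ w, QW (ψ w) = (-1) * QW w := by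
    obtain ⟨k, hk⟩ := hev
    rcases Nat.eq_zero_or_pos k with rfl | hk0
    · refine ⟨LinearEquiv.refl F W, fun w => ?_⟩
      have hw : w = 0 := by
        have : Subsingleton W := Module.finrank_zero_iff.mp (by rw [hk])
        exact Subsingleton.elim _ _
      rw [hw]
      simp
    · obtain ⟨k', rfl⟩ : ∃ k', k = k' + 1 := ⟨k - 1, by omega⟩
      exact Cfsg.Agent.Helper7.OrthNd.exists_similarity_even QW hndW k' (by rw [hk]; ring) (-1)
        (neg_ne_zero.mpr one_ne_zero)
  -- the graph
  let g : W →ₗ[F] (Fin n → F) := W.subtype + W'.subtype.comp (φ.toLinearMap.comp ψ.toLinearMap)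
  have hg : ∀ w : W, g w = (w : Fin n → F) + ((φ (ψ w) : W') : Fin n → F) := fun w => rfl
  have hginj : Function.Injective g := by
    rw [← LinearMap.ker_eq_bot, LinearMap.ker_eq_bot']
    intro w hw
    rw [hg] at hw
    have h1 : (w : Fin n → F) ∈ W ⊓ W' := by
      refine ⟨w.2, ?_⟩
      have : (w : Fin n → F) = -((φ (ψ w) : W') : Fin n → F) := eq_neg_of_add_eq_zero_left hw
      rw [this]
      exact W'.neg_mem (φ (ψ w)).2
    rw [hinf, Submodule.mem_bot] at h1
    exact Subtype.ext h1
  refine ⟨LinearMap.range g, le_top, ?_, ?_⟩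
  · rintro _ ⟨w, rfl⟩
    rw [hg, quad_add Q, hφ, horth _ w.2 _ (φ (ψ w)).2, add_zero]
    have := hψ w
    rw [hQWapp, hQWapp] at this
    rw [this]
    ring
  · rw [LinearMap.finrank_range_of_inj hginj, finrank_top]
    have hcompl : IsCompl W W' := ⟨disjoint_iff.mpr hinf, codisjoint_iff.mpr hsup⟩
    have h1 := Submodule.finrank_add_eq_of_isCompl hcompl
    have h2 := φ.finrank_eq
    omega

end Cfsg.Agent.Helper8.AschOm
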