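import Cfsg.Agent.Helper8.AschOmM4bB

/-!
# ASCH-OM piece M4b: `plus_of_subfield_two`
-/

set_option autoImplicit false
set_option linter.unusedSectionVars false

namespace Cfsg.Agent.Helper8.AschOm

open Cfsg Cfsg.Geo Module Cfsg.Agent.Helper8.QuadForm Cfsg.Agent.Lead.OrthPlane

variable {n : ℕ} {F : Type*} [Field F] [Fintype F]

/-- **M4b**: a form defined over a subfield of index two is of plus type (`n` even). -/
theorem plus_of_subfield_two (hn : Even n) (Q : (Fin n → F) → F) (hQ : IsNondegenerateQuadraticForm Q)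
    (F₁ : Subfield F) (hc : Fintype.card F = Nat.card F₁ ^ 2) (Pm : GL (Fin n) F) (ζ : F) (hζ : ζ ≠ 0)
    (hrat : IsQuadFormRationalStructure (fun v : Fin n → F => ζ * Q v) F₁ Pm) : IsPlusTypeOn Q ⊤ := by
  classical
  obtain ⟨m, hm⟩ := hn
  have hQ0 : Q 0 = 0 := by
    have := hQ.smul 0 0
    rw [zero_smul] at this
    rw [this]
    ring
  rcases Nat.eq_zero_or_pos m with rfl | hm0
  · refine ⟨⊥, bot_le, ?_, ?_⟩
    · intro w hw
      rw [Submodule.mem_bot] at hw
      rw [hw, hQ0]
    · rw [finrank_bot, finrank_top, Module.finrank_fin_fun]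
      omega
  obtain ⟨k, rfl⟩ : ∃ k, m = k + 1 := ⟨m - 1, by omega⟩
  set Q₁ := descQ Q hQ F₁ Pm ζ hrat with hQ₁
  have hnd := descQ_nondeg Q hQ F₁ Pm ζ hζ hrat
  have hV : finrank F₁ (Fin n → F₁) = 2 * (k + 1) := by
    rw [Module.finrank_fin_fun]
    omega
  set Qb := bundle Q hQ with hQb
  have hQv : ∀ u : Fin n → F₁, Q (emb F₁ Pm u) = ζ⁻¹ * ((Q₁ u : F₁) : F) := by
    intro u
    rw [hQ₁, descQ_apply, ← mul_assoc, inv_mul_cancel₀ hζ, one_mul]
  have hpv : ∀ u v : Fin n → F₁, QuadraticMap.polar Q (emb F₁ Pm u) (emb F₁ Pm v) =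
      ζ⁻¹ * ((QuadraticMap.polar Q₁ u v : F₁) : F) := by
    intro u v
    rw [hQ₁, descQ_polar, ← mul_assoc, inv_mul_cancel₀ hζ, one_mul]
  have hfin : ∀ (κ : Type) [Fintype κ] [DecidableEq κ] (b : κ → Fin n → F),
      Fintype.card κ = k + 1 → (∀ i, Q (b i) = 0) →
      (∀ i j, QuadraticMap.polar Q (b i) (b j) = 0) → LinearIndependent F b → IsPlusTypeOn Q ⊤ := by
    intro κ _ _ b hcard h1 h2 hli
    refine ⟨Submodule.span F (Set.range b), le_top, ?_, ?_⟩
    · intro w hw
      exact ts_span Qb b h1 h2 w hw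
    · rw [finrank_span_eq_card hli, hcard, finrank_top, Module.finrank_fin_fun]
      omega
  have hb := hQ.polar_bilinear
  have hadd : ∀ u v : Fin n → F, Q (u + v) = Q u + Q v + QuadraticMap.polar Q u v := by
    intro u v
    unfold QuadraticMap.polar
    ring
  rcases exists_std_family k hV Q₁ hnd with ⟨e, f, hhyp⟩ |
    ⟨e, f, x, y, hhyp, hpx, hpy, hx, hxy, hirr⟩
  · obtain ⟨h1, h2, h3⟩ := hhyp
    apply hfin (Fin (k + 1)) (fun i => emb F₁ Pm (e i)) (by simp)
    · intro i
      rw [hQv, (h1 i).1]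
      simp
    · intro i j
      rw [hpv, (h3 i j).1]
      simp
    · apply linearIndependent_of_dual Qb _ (fun i => emb F₁ Pm (f i)) (fun _ => ζ⁻¹)
        (fun _ => inv_ne_zero hζ)
      intro i j
      show QuadraticMap.polar Q _ _ = _
      rw [hpv, h2 i j]
      split_ifs <;> simp
  · obtain ⟨h1, h2, h3⟩ := hhyp
    obtain ⟨t₀, ht₀⟩ := exists_root_of_subfield_two F₁ hc (Q₁ y)
    set X : Fin n → F := emb F₁ Pm x with hX
    set Y : Fin n → F := emb F₁ Pm y with hY
    set c : F := ((Q₁ y : F₁) : F) with hcdef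
    have hQX : Q X = ζ⁻¹ := by
      rw [hX, hQv, hx]
      simp
    have hQY : Q Y = ζ⁻¹ * c := by rw [hY, hQv]
    have hXY : QuadraticMap.polar Q X Y = ζ⁻¹ := by
      rw [hX, hY, hpv, hxy]
      simp
    have hXX : QuadraticMap.polar Q X X = 2 * ζ⁻¹ := by
      have := polar_self' Qb X
      rw [show QuadraticMap.polar Qb X X = QuadraticMap.polar Q X X from rfl,
        show Qb X = Q X from rfl, hQX] at this
      exact this
    set z : Fin n → F := t₀ • X + Y with hz
    have hQz : Q z = 0 := by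
      rw [hz, hadd, hQ.smul, hb.smul_left, hQX, hQY, hXY]
      have : ζ⁻¹ * (t₀ ^ 2 + t₀ + c) = 0 := by rw [ht₀, mul_zero]
      linear_combination this
    have hEz : ∀ i, QuadraticMap.polar Q (emb F₁ Pm (e i)) z = 0 := by
      intro i
      rw [hz, hb.add_right, hb.smul_right, hX, hY, hpv, hpv, (hpx i).1, (hpy i).1]
      simp
    have hzz : QuadraticMap.polar Q z z = 0 := by
      have := polar_self' Qb z
      rw [show QuadraticMap.polar Qb z z = QuadraticMap.polar Q z z from rfl,
        show Qb z = Q z from rfl, hQz, mul_zero] at this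
      exact this
    have h2t : 2 * t₀ + 1 ≠ 0 := by
      intro h0
      have h4 := one_sub_four_ne_zero hirr
      apply h4
      apply Subtype.ext
      have h44 : ((4 : F₁) : F) = 4 := rfl
      push_cast
      rw [← hcdef, h44]
      linear_combination (-4 : F) * ht₀ + (2 * t₀ + 1) * h0
    apply hfin (Fin k ⊕ Unit) (Sum.elim (fun i => emb F₁ Pm (e i)) (fun _ => z))
      (by simp)
    · rintro (i | _)
      · show Q (emb F₁ Pm (e i)) = 0
        rw [hQv, (h1 i).1]
        simp
      · exact hQz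
    · rintro (i | _) (j | _)
      · show QuadraticMap.polar Q (emb F₁ Pm (e i)) (emb F₁ Pm (e j)) = 0
        rw [hpv, (h3 i j).1]
        simp
      · exact hEz i
      · show QuadraticMap.polar Q z (emb F₁ Pm (e j)) = 0
        rw [QuadraticMap.polar_comm]
        exact hEz j
      · exact hzz
    · apply linearIndependent_of_dual Qb _ (Sum.elim (fun i => emb F₁ Pm (f i)) (fun _ => X))
        (Sum.elim (fun _ => ζ⁻¹) (fun _ => ζ⁻¹ * (2 * t₀ + 1)))
      · rintro (i | _)
        · exact inv_ne_zero hζ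
        · exact mul_ne_zero (inv_ne_zero hζ) h2t
      · apply dual_sum Qb
        · intro i j
          show QuadraticMap.polar Q _ _ = _
          rw [hpv, h2 i j]
          split_ifs <;> simp
        · intro i j
          show QuadraticMap.polar Q z X = _
          rw [if_pos rfl, hz, hb.add_left, hb.smul_left, hXX, QuadraticMap.polar_comm Q Y X, hXY]
          ring
        · intro i j
          show QuadraticMap.polar Q (emb F₁ Pm (e i)) X = 0
          rw [hX, hpv, (hpx i).1]
          simp
        · intro i j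
          show QuadraticMap.polar Q z (emb F₁ Pm (f j)) = 0
          rw [QuadraticMap.polar_comm, hz, hb.add_right, hb.smul_right, hX, hY, hpv, hpv,
            (hpx j).2, (hpy j).2]
          simp

end Cfsg.Agent.Helper8.AschOm
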