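import Mathlib
import Cfsg.Prelude.Def_GeometricClasses
import Cfsg.Agent.Lead.AschOm12pMain
import Cfsg.Agent.Helper2.AschOm4D5
import Cfsg.Agent.Helper5.AschForm7
import Cfsg.Agent.Helper8.AschOmN2C

/-!
ASCH-OM part 3 (helper8): Aschbacher's theorem for subgroups of the isometry group of a quadratic form in dimension ten,
generic form (conclusions with `≤`, no hypothesis on the type of the form). The only missing piece D5-C is a slot
(`D5CStmt`).
-/

set_option autoImplicit false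

namespace Cfsg.Agent.Helper8.AschOm10

open Cfsg Cfsg.Geo Cfsg.Agent.Lead.Asch Cfsg.Agent.Lead.AschO Cfsg.Agent.Lead.AschOm Cfsg.Agent.Helper4.AschP
open scoped MatrixGroups Matrix Kronecker commutatorElement

variable {F : Type*} [Field F] [Fintype F]

/-- slot D5-C: a perfect group of isometries centralising a self-adjoint field of degree five in dimension ten is
trivial. -/
def D5CStmt (F : Type*) [Field F] [Fintype F] : Prop :=
  ∀ (Q : (Fin 10 → F) → F) (_ : IsNondegenerateQuadraticForm Q) (E : Subalgebra F (Matrix (Fin 10) (Fin 10) F))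
    (_ : IsFieldSubalgebra 5 E) (_ : IsSelfAdjointFor (QuadraticMap.polar Q) E) {N : Subgroup (GL (Fin 10) F)}
    (_ : N ≤ isometryGroup F Q)
    (_ : ∀ x ∈ N, ∀ k ∈ E, (x : Matrix (Fin 10) (Fin 10) F) * k = k * (x : Matrix (Fin 10) (Fin 10) F))
    (_ : ⁅N, N⁆ = N), N = ⊥

/-- The conclusion of Aschbacher's theorem in dimension ten with `≤`, both types. -/
def OmConcl10 (Q : (Fin 10 → F) → F) (H : Subgroup (GL (Fin 10) F)) : Prop :=
  (∃ W : Submodule F (Fin 10 → F), W ≠ ⊥ ∧ IsTotallySingularQuad Q W ∧ H ≤ subspaceStabilizer W) ∨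
  (Odd (Fintype.card F) ∧ ∃ W : Submodule F (Fin 10 → F), W ≠ ⊥ ∧ W ≠ ⊤ ∧ Odd (Module.finrank F W) ∧
    2 * Module.finrank F W ≠ 10 ∧ IsNondegenerateOn (QuadraticMap.polar Q) W ∧ H ≤ subspaceStabilizer W) ∨
  (∃ W : Submodule F (Fin 10 → F), Module.finrank F W = 2 ∧ IsNondegenerateOn (QuadraticMap.polar Q) W ∧
    ¬ IsPlusTypeOn Q W ∧ H ≤ subspaceStabilizer W) ∨
  (4 ≤ Fintype.card F ∧ ∃ W : Submodule F (Fin 10 → F), Module.finrank F W = 2 ∧
    IsNondegenerateOn (QuadraticMap.polar Q) W ∧ IsPlusTypeOn Q W ∧ H ≤ subspaceStabilizer W) ∨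
  (∃ W : Submodule F (Fin 10 → F), Module.finrank F W = 4 ∧ IsNondegenerateOn (QuadraticMap.polar Q) W ∧
    H ≤ subspaceStabilizer W) ∨
  (¬ Odd (Fintype.card F) ∧ ∃ v : Fin 10 → F, Q v ≠ 0 ∧ H ≤ subspaceStabilizer (Submodule.span F {v})) ∨
  ((∃ p : ℕ, p.Prime ∧ Odd p ∧ Fintype.card F = p) ∧ ∃ D : Fin 10 → Submodule F (Fin 10 → F),
    IsOrthogonalMDecomposition Q 1 D ∧ H ≤ decompositionStabilizer D) ∨
  (7 ≤ Fintype.card F ∧ ∃ D : Fin 5 → Submodule F (Fin 10 → F), IsOrthogonalMDecomposition Q 2 D ∧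
    (∀ i, IsPlusTypeOn Q (D i)) ∧ H ≤ decompositionStabilizer D) ∨
  (Fintype.card F ≠ 3 ∧ ∃ D : Fin 5 → Submodule F (Fin 10 → F), IsOrthogonalMDecomposition Q 2 D ∧
    (∀ i, ¬ IsPlusTypeOn Q (D i)) ∧ H ≤ decompositionStabilizer D) ∨
  (∃ D : Fin 2 → Submodule F (Fin 10 → F), IsOrthogonalMDecomposition Q 5 D ∧ H ≤ decompositionStabilizer D) ∨
  (∃ D : Fin 2 → Submodule F (Fin 10 → F), IsNondegenerateMDecomposition (QuadraticMap.polar Q) 5 D ∧
    ¬ AreIsometricFor Q (D 0) (D 1) ∧ H ≤ decompositionStabilizer D) ∨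
  (Odd (Fintype.card F) ∧ ∃ K : Subalgebra F (Matrix (Fin 10) (Fin 10) F), IsFieldSubalgebra 2 K ∧
    IsSelfAdjointFor (QuadraticMap.polar Q) K ∧ H ≤ subalgebraNormalizer K) ∨
  (∃ K : Subalgebra F (Matrix (Fin 10) (Fin 10) F), IsFieldSubalgebra 2 K ∧
    IsAdjointClosedFor (QuadraticMap.polar Q) K ∧ ¬ IsSelfAdjointFor (QuadraticMap.polar Q) K ∧
    (∀ k ∈ K, ∃ c : F, ∀ v : Fin 10 → F, Q (Matrix.mulVec k v) = c * Q v) ∧ H ≤ subalgebraNormalizer K) ∨
  (∃ D : Fin 2 → Submodule F (Fin 10 → F), IsMDecomposition 5 D ∧ (∀ i, IsTotallySingularQuad Q (D i)) ∧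
    H ≤ decompositionStabilizer D) ∨
  SubfieldConcl Q H ∨
  InOrthogonalResidualClass H

section idx
variable (Q : (Fin 10 → F) → F) (H : Subgroup (GL (Fin 10) F))

theorem r1 (h : ∃ W : Submodule F (Fin 10 → F), W ≠ ⊥ ∧ IsTotallySingularQuad Q W ∧ H ≤ subspaceStabilizer W) :
    OmConcl10 Q H := Or.inl h
theorem r2 (h : Odd (Fintype.card F) ∧ ∃ W : Submodule F (Fin 10 → F), W ≠ ⊥ ∧ W ≠ ⊤ ∧
    Odd (Module.finrank F W) ∧ 2 * Module.finrank F W ≠ 10 ∧ IsNondegenerateOn (QuadraticMap.polar Q) W ∧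
    H ≤ subspaceStabilizer W) : OmConcl10 Q H := Or.inr (Or.inl h)
theorem r3 (h : ∃ W : Submodule F (Fin 10 → F), Module.finrank F W = 2 ∧
    IsNondegenerateOn (QuadraticMap.polar Q) W ∧ ¬ IsPlusTypeOn Q W ∧ H ≤ subspaceStabilizer W) :
    OmConcl10 Q H := Or.inr (Or.inr (Or.inl h))
theorem r4 (h : 4 ≤ Fintype.card F ∧ ∃ W : Submodule F (Fin 10 → F), Module.finrank F W = 2 ∧
    IsNondegenerateOn (QuadraticMap.polar Q) W ∧ IsPlusTypeOn Q W ∧ H ≤ subspaceStabilizer W) :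
    OmConcl10 Q H := Or.inr (Or.inr (Or.inr (Or.inl h)))
theorem r5 (h : ∃ W : Submodule F (Fin 10 → F), Module.finrank F W = 4 ∧
    IsNondegenerateOn (QuadraticMap.polar Q) W ∧ H ≤ subspaceStabilizer W) : OmConcl10 Q H :=
  Or.inr (Or.inr (Or.inr (Or.inr (Or.inl h))))
theorem r6 (h : ¬ Odd (Fintype.card F) ∧ ∃ v : Fin 10 → F, Q v ≠ 0 ∧
    H ≤ subspaceStabilizer (Submodule.span F {v})) : OmConcl10 Q H :=
  Or.inr (Or.inr (Or.inr (Or.inr (Or.inr (Or.inl h)))))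
theorem r7 (h : (∃ p : ℕ, p.Prime ∧ Odd p ∧ Fintype.card F = p) ∧ ∃ D : Fin 10 → Submodule F (Fin 10 → F),
    IsOrthogonalMDecomposition Q 1 D ∧ H ≤ decompositionStabilizer D) : OmConcl10 Q H :=
  Or.inr (Or.inr (Or.inr (Or.inr (Or.inr (Or.inr (Or.inl h))))))
theorem r8 (h : 7 ≤ Fintype.card F ∧ ∃ D : Fin 5 → Submodule F (Fin 10 → F), IsOrthogonalMDecomposition Q 2 D ∧
    (∀ i, IsPlusTypeOn Q (D i)) ∧ H ≤ decompositionStabilizer D) : OmConcl10 Q H :=
  Or.inr (Or.inr (Or.inr (Or.inr (Or.inr (Or.inr (Or.inr (Or.inl h)))))))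
theorem r9 (h : Fintype.card F ≠ 3 ∧ ∃ D : Fin 5 → Submodule F (Fin 10 → F), IsOrthogonalMDecomposition Q 2 D ∧
    (∀ i, ¬ IsPlusTypeOn Q (D i)) ∧ H ≤ decompositionStabilizer D) : OmConcl10 Q H :=
  Or.inr (Or.inr (Or.inr (Or.inr (Or.inr (Or.inr (Or.inr (Or.inr (Or.inl h))))))))
theorem r10 (h : ∃ D : Fin 2 → Submodule F (Fin 10 → F), IsOrthogonalMDecomposition Q 5 D ∧
    H ≤ decompositionStabilizer D) : OmConcl10 Q H :=
  Or.inr (Or.inr (Or.inr (Or.inr (Or.inr (Or.inr (Or.inr (Or.inr (Or.inr (Or.inl h)))))))))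
theorem r11 (h : ∃ D : Fin 2 → Submodule F (Fin 10 → F),
    IsNondegenerateMDecomposition (QuadraticMap.polar Q) 5 D ∧ ¬ AreIsometricFor Q (D 0) (D 1) ∧
    H ≤ decompositionStabilizer D) : OmConcl10 Q H :=
  Or.inr (Or.inr (Or.inr (Or.inr (Or.inr (Or.inr (Or.inr (Or.inr (Or.inr (Or.inr (Or.inl h))))))))))
theorem r12 (h : Odd (Fintype.card F) ∧ ∃ K : Subalgebra F (Matrix (Fin 10) (Fin 10) F), IsFieldSubalgebra 2 K ∧
    IsSelfAdjointFor (QuadraticMap.polar Q) K ∧ H ≤ subalgebraNormalizer K) : OmConcl10 Q H :=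
  Or.inr (Or.inr (Or.inr (Or.inr (Or.inr (Or.inr (Or.inr (Or.inr (Or.inr (Or.inr (Or.inr (Or.inl h)))))))))))
theorem r13 (h : ∃ K : Subalgebra F (Matrix (Fin 10) (Fin 10) F), IsFieldSubalgebra 2 K ∧
    IsAdjointClosedFor (QuadraticMap.polar Q) K ∧ ¬ IsSelfAdjointFor (QuadraticMap.polar Q) K ∧
    (∀ k ∈ K, ∃ c : F, ∀ v : Fin 10 → F, Q (Matrix.mulVec k v) = c * Q v) ∧ H ≤ subalgebraNormalizer K) :
    OmConcl10 Q H :=
  Or.inr (Or.inr (Or.inr (Or.inr (Or.inr (Or.inr (Or.inr (Or.inr (Or.inr (Or.inr (Or.inr (Or.inr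
    (Or.inl h))))))))))))
theorem r14 (h : ∃ D : Fin 2 → Submodule F (Fin 10 → F), IsMDecomposition 5 D ∧
    (∀ i, IsTotallySingularQuad Q (D i)) ∧ H ≤ decompositionStabilizer D) : OmConcl10 Q H :=
  Or.inr (Or.inr (Or.inr (Or.inr (Or.inr (Or.inr (Or.inr (Or.inr (Or.inr (Or.inr (Or.inr (Or.inr
    (Or.inr (Or.inl h)))))))))))))
theorem r15 (h : SubfieldConcl Q H) : OmConcl10 Q H :=
  Or.inr (Or.inr (Or.inr (Or.inr (Or.inr (Or.inr (Or.inr (Or.inr (Or.inr (Or.inr (Or.inr (Or.inr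
    (Or.inr (Or.inr (Or.inl h))))))))))))))
theorem r16 (h : InOrthogonalResidualClass H) : OmConcl10 Q H :=
  Or.inr (Or.inr (Or.inr (Or.inr (Or.inr (Or.inr (Or.inr (Or.inr (Or.inr (Or.inr (Or.inr (Or.inr
    (Or.inr (Or.inr (Or.inr h))))))))))))))

end idx

theorem not_prime_pow_10 (r k : ℕ) (hr : r.Prime) (h : 10 = r ^ k) : False := by
  have h2 : 2 ∣ r ^ k := ⟨5, by omega⟩
  have h5 : 5 ∣ r ^ k := ⟨2, by omega⟩
  have e2 := (Nat.prime_dvd_prime_iff_eq Nat.prime_two hr).1 (Nat.prime_two.dvd_of_dvd_pow h2)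
  have e5 := (Nat.prime_dvd_prime_iff_eq (by norm_num) hr).1 ((by norm_num : Nat.Prime 5).dvd_of_dvd_pow h5)
  omega

theorem not_perfect_pow_10 (d k : ℕ) (hd : 2 ≤ d) (hk : 2 ≤ k) (h : 10 = d ^ k) : False := by
  have h1 : d ^ 2 ∣ d ^ k := pow_dvd_pow d hk
  rw [← h] at h1
  have h2 : d ^ 2 ≤ 10 := Nat.le_of_dvd (by norm_num) h1
  have h3 : d ≤ 3 := by nlinarith
  interval_cases d
  · have : 5 ∣ 2 ^ k := ⟨2, by omega⟩
    have := (Nat.prime_dvd_prime_iff_eq (by norm_num) Nat.prime_two).1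
      ((by norm_num : Nat.Prime 5).dvd_of_dvd_pow this)
    omega
  · have : 2 ∣ 3 ^ k := ⟨5, by omega⟩
    have := (Nat.prime_dvd_prime_iff_eq Nat.prime_two (by norm_num)).1 (Nat.prime_two.dvd_of_dvd_pow this)
    omega

/-- two complementary orthogonal non-degenerate 5-spaces stabilised by `H` -/
theorem halves10 (Q : (Fin 10 → F) → F) {H : Subgroup (GL (Fin 10) F)} (W W' : Submodule F (Fin 10 → F))
    (hnd : IsNondegenerateOn (QuadraticMap.polar Q) W) (hnd' : IsNondegenerateOn (QuadraticMap.polar Q) W')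
    (horth : AreOrthogonalFor (QuadraticMap.polar Q) W W') (hinf : W ⊓ W' = ⊥) (hsup : W ⊔ W' = ⊤)
    (hd : Module.finrank F W = 5) (hd' : Module.finrank F W' = 5)
    (hle : H ≤ subspaceStabilizer W) (hle' : H ≤ subspaceStabilizer W') : OmConcl10 Q H := by
  by_cases hiso : AreIsometricFor Q W W'
  · exact r10 Q H ⟨_, pair_orthDecomp Q (by norm_num) W W' hnd hnd' horth hinf hsup hd hd' hiso,
      pair_le_decompositionStabilizer hle hle'⟩
  · exact r11 Q H ⟨_, pair_nondegDecomp Q (by norm_num) W W' hnd hnd' horth hinf hsup hd hd', hiso,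
      pair_le_decompositionStabilizer hle hle'⟩

/-- the reducible case in dimension ten -/
theorem reducible10 (Q : (Fin 10 → F) → F) (hQ : IsNondegenerateQuadraticForm Q)
    {H : Subgroup (GL (Fin 10) F)} (hHI : H ≤ isometryGroup F Q) (hred : ¬ ActsIrreducibly (matrixSet H)) :
    OmConcl10 Q H := by
  rcases Cfsg.Agent.Helper2.AschOm.orth_reducible_gen Q hQ hHI hred with
    h | h | ⟨W, W', h0, h1, hnd, hnd', horth, hinf, hsup, hdim, hle, hle'⟩
  · exact r1 Q H h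
  · exact r6 Q H h
  have hpos : 0 < Module.finrank F W := Module.finrank_pos_iff_exists_ne_zero.2 (by
    obtain ⟨w, hw, hw0⟩ := (Submodule.ne_bot_iff W).1 h0
    exact ⟨⟨w, hw⟩, fun h => hw0 (congrArg Subtype.val h)⟩)
  by_cases hoddW : Odd (Module.finrank F W)
  · have hq : Odd (Fintype.card F) := by
      by_contra hq
      have := Cfsg.Agent.Helper2.AschOm.even_finrank_of_nondegenerateOn hq Q hQ W hnd
      exact (Nat.not_even_iff_odd.2 hoddW) this
    by_cases h5 : Module.finrank F W = 5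
    · have hd' : Module.finrank F W' = 5 := by
        have h3 := Submodule.finrank_sup_add_finrank_inf_eq W W'
        rw [hinf, hsup, finrank_bot, finrank_top, Module.finrank_fin_fun] at h3
        omega
      exact halves10 Q W W' hnd hnd' horth hinf hsup h5 hd' hle hle'
    · exact r2 Q H ⟨hq, W, h0, h1, hoddW, by omega, hnd, hle⟩
  rw [Nat.not_odd_iff_even] at hoddW
  obtain ⟨k, hk⟩ := hoddW
  have hk3 : k = 1 ∨ k = 2 := by omega
  rcases hk3 with rfl | rfl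
  · have h2 : Module.finrank F W = 2 := by omega
    by_cases hp : IsPlusTypeOn Q W
    · by_cases hq : 4 ≤ Fintype.card F
      · exact r4 Q H ⟨hq, W, h2, hnd, hp, hle⟩
      · rcases Cfsg.Agent.Helper2.AschOm.plus_plane_small (by omega) Q hQ W h2 hnd hp hHI hle with
          h | ⟨hq', W₁, hW₁, hnd₁, hle₁⟩
        · exact r6 Q H h
        · refine r2 Q H ⟨hq', W₁, ?_, ?_, ⟨0, by omega⟩, by omega, hnd₁, hle₁⟩
          · intro h
            rw [h, finrank_bot] at hW₁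
            omega
          · intro h
            rw [h, finrank_top, Module.finrank_fin_fun] at hW₁
            omega
    · exact r3 Q H ⟨W, h2, hnd, hp, hle⟩
  · exact r5 Q H ⟨W, by omega, hnd, hle⟩

/-- the decomposition case in dimension ten -/
theorem decomp10 (Q : (Fin 10 → F) → F) (hQ : IsNondegenerateQuadraticForm Q)
    {H : Subgroup (GL (Fin 10) F)} (hHI : H ≤ isometryGroup F Q)
    {t m : ℕ} (D : Fin t → Submodule F (Fin 10 → F)) (hD : IsOrthogonalMDecomposition Q m D) (htm : t * m = 10)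
    (hle : H ≤ decompositionStabilizer D) : OmConcl10 Q H := by
  have ht2 : 2 ≤ t := hD.decomp.decomp.two_le
  have hm0 : 0 < m := hD.decomp.decomp.pos
  have hcases : (t = 10 ∧ m = 1) ∨ (t = 5 ∧ m = 2) ∨ (t = 2 ∧ m = 5) := by
    have ht : t ∣ 10 := ⟨m, htm.symm⟩
    have htle : t ≤ 10 := Nat.le_of_dvd (by norm_num) ht
    interval_cases t <;> omega
  have hoddq : Odd m → Odd (Fintype.card F) := by
    intro hmo
    by_contra hq
    have := Cfsg.Agent.Helper2.AschOm.even_finrank_of_nondegenerateOn hq Q hQ (D ⟨0, by omega⟩)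
      (hD.decomp.nondegenerate _)
    rw [hD.decomp.decomp.finrank_eq] at this
    exact (Nat.not_even_iff_odd.2 hmo) this
  have h2q : 2 ≤ Fintype.card F := Fintype.one_lt_card
  rcases hcases with ⟨rfl, rfl⟩ | ⟨rfl, rfl⟩ | ⟨rfl, rfl⟩
  · have hq := hoddq ⟨0, rfl⟩
    by_cases hp : (Fintype.card F).Prime
    · exact r7 Q H ⟨⟨_, hp, hq, rfl⟩, D, hD, hle⟩
    · exact r15 Q H (c2_lines_nonprime_gen Q hQ D hD hp hHI hle)
  · by_cases hp : IsPlusTypeOn Q (D 0)
    · have hall : ∀ i, IsPlusTypeOn Q (D i) := fun i => plus_of_isometric Q _ _ (hD.isometric 0 i) hp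
      by_cases h7 : 7 ≤ Fintype.card F
      · exact r8 Q H ⟨h7, D, hD, hall, hle⟩
      rcases Cfsg.Agent.Helper5.AschOm.c2_plus_planes_small (by omega) Q hQ D hD hall hHI hle with
        ⟨hq2, v, hv0, hvle⟩ | ⟨hq3, W, W', hnd, hnd', horth, hinf, hsup, hd, hd', hWle, hWle'⟩ | ⟨-, hs⟩ |
        ⟨hq5, D', hD', hle'⟩
      · by_cases hQv : Q v = 0
        · refine r1 Q H ⟨Submodule.span F {v}, ?_, ?_, hvle⟩
          · intro h
            have : v ∈ Submodule.span F {v} := Submodule.mem_span_singleton_self v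
            rw [h] at this
            exact hv0 ((Submodule.mem_bot F).1 this)
          · intro w hw
            obtain ⟨a, rfl⟩ := Submodule.mem_span_singleton.1 hw
            rw [hQ.smul, hQv, mul_zero]
        · refine r6 Q H ⟨?_, v, hQv, hvle⟩
          rw [hq2]
          decide
      · exact halves10 Q W W' hnd hnd' horth hinf hsup hd hd' hWle hWle'
      · exact r15 Q H hs
      · exact r7 Q H ⟨⟨5, by norm_num, by decide, hq5⟩, D', hD', hle'⟩
    · have hall : ∀ i, ¬ IsPlusTypeOn Q (D i) := fun i hi =>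
        hp (plus_of_isometric Q _ _ (hD.isometric i 0) hi)
      by_cases h3 : Fintype.card F = 3
      · obtain ⟨D', hD', hle'⟩ := Cfsg.Agent.Helper5.AschOm.c2_minus_planes_three h3 Q hQ D hD hall hHI hle
        exact r7 Q H ⟨⟨3, by norm_num, by decide, h3⟩, D', hD', hle'⟩
      · exact r9 Q H ⟨h3, D, hD, hall, hle⟩
  · exact r10 Q H ⟨D, hD, hle⟩

/-- a field of degree two closed under adjoints and normalised by an irreducible group of isometries -/
theorem field_two10 (Q : (Fin 10 → F) → F) (hQ : IsNondegenerateQuadraticForm Q)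
    {H : Subgroup (GL (Fin 10) F)} (hHI : H ≤ isometryGroup F Q) (hirr : ActsIrreducibly (matrixSet H))
    (K : Subalgebra F (Matrix (Fin 10) (Fin 10) F)) (hK : IsFieldSubalgebra 2 K)
    (hac : IsAdjointClosedFor (QuadraticMap.polar Q) K) (hle : H ≤ subalgebraNormalizer K) : OmConcl10 Q H := by
  by_cases hsa : IsSelfAdjointFor (QuadraticMap.polar Q) K
  · by_cases hq : Odd (Fintype.card F)
    · exact r12 Q H ⟨hq, K, hK, hsa, hle⟩
    · exfalso
      have := Cfsg.Agent.Helper8.AschOm.four_dvd_of_selfAdjoint_two_even hq Q hQ K hK hsa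
      omega
  · exact r13 Q H ⟨K, hK, hac, hsa,
      Cfsg.Agent.Helper8.AschOm.similarity_of_adjointClosed_two (by norm_num) Q hQ hHI hirr K hK hac hsa hle, hle⟩

/-- the tensor case in dimension ten -/
theorem tensor10 (Q : (Fin 10 → F) → F) (hQ : IsNondegenerateQuadraticForm Q)
    {H : Subgroup (GL (Fin 10) F)} (hHI : H ≤ isometryGroup F Q) (hirr : ActsIrreducibly (matrixSet H))
    {n₁ n₂ : ℕ} (e : Fin 10 ≃ Fin n₁ × Fin n₂) (P : GL (Fin 10) F)
    (f₁ : (Fin n₁ → F) → (Fin n₁ → F) → F) (f₂ : (Fin n₂ → F) → (Fin n₂ → F) → F) (h1 : 2 ≤ n₁) (h2 : 2 ≤ n₂)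
    (hty : (IsSymplecticForm f₁ ∧ IsSymplecticForm f₂) ∨
      (Odd (Fintype.card F) ∧ IsSymmetricForm f₁ ∧ IsSymmetricForm f₂))
    (hT : IsTensorFormStructure id (QuadraticMap.polar Q) f₁ f₂ e P)
    (hle : H ≤ tensorProductSubgroup n₁ n₂ e P) : OmConcl10 Q H := by
  have hcard : 10 = n₁ * n₂ := by
    have := Fintype.card_congr e
    simpa using this
  have hdims : ∀ {m₁ m₂ : ℕ}, 2 ≤ m₁ → m₁ ≤ m₂ → 10 = m₁ * m₂ → m₁ = 2 ∧ m₂ = 5 := by
    intro m₁ m₂ hm1 hm12 hc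
    have hd : m₁ ∣ 10 := ⟨m₂, hc⟩
    have hle10 : m₁ ≤ 10 := Nat.le_of_dvd (by norm_num) hd
    have : m₁ * m₁ ≤ 10 := by nlinarith
    have : m₁ ≤ 3 := by nlinarith
    interval_cases m₁ <;> omega
  rcases hty with ⟨ha₁, ha₂⟩ | ⟨hodd, hs₁, hs₂⟩
  · -- alternating ⊗ alternating: one of the factors has dimension five
    exfalso
    have e1 := Cfsg.Agent.Helper6.AschGen.even_of_isSymplecticForm ha₁
    have e2 := Cfsg.Agent.Helper6.AschGen.even_of_isSymplecticForm ha₂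
    obtain ⟨a, ha⟩ := e1
    obtain ⟨b, hb⟩ := e2
    have : 10 = 4 * (a * b) := by rw [hcard, ha, hb]; ring
    omega
  · have main : ∀ {m₁ m₂ : ℕ} (e' : Fin 10 ≃ Fin m₁ × Fin m₂) (g₁ : (Fin m₁ → F) → (Fin m₁ → F) → F)
        (g₂ : (Fin m₂ → F) → (Fin m₂ → F) → F), 2 ≤ m₁ → m₁ ≤ m₂ → 10 = m₁ * m₂ → IsSymmetricForm g₁ →
        IsSymmetricForm g₂ → IsTensorFormStructure id (QuadraticMap.polar Q) g₁ g₂ e' P →
        H ≤ tensorProductSubgroup m₁ m₂ e' P → OmConcl10 Q H := by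
      intro m₁ m₂ e' g₁ g₂ hm1 hm12 hc hg₁ hg₂ hT' hle'
      obtain ⟨rfl, rfl⟩ := hdims hm1 hm12 hc
      rcases Cfsg.Agent.Helper3.AschOm3.tensor_sym_two_pair' hodd Q hQ hHI (by norm_num) e' P g₁ g₂ hg₁ hg₂ hT'
        hle' with ⟨K, hK, hN, hac, hnsa⟩ | hD
      · exact field_two10 Q hQ hHI hirr K hK hac hN
      · exact r14 Q H hD
    by_cases h12 : n₁ ≤ n₂
    · exact main e f₁ f₂ h1 h12 hcard hs₁ hs₂ hT hle
    · rw [Cfsg.Agent.Helper9.AschCompK.tensorProductSubgroup_swap] at hle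
      exact main _ f₂ f₁ h2 (by omega) (by rw [hcard, mul_comm]) hs₂ hs₁ (tensorForm_swap hT) hle

end Cfsg.Agent.Helper8.AschOm10
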