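import Mathlib
import Cfsg.Prelude.Def_GeometricClasses
import Cfsg.Agent.Helper8.AschOm10A
import Cfsg.Agent.Helper6.AschGOAdj
import Cfsg.Agent.Helper2.AschO9Adj

/-!
ASCH-OM part 3 (helper8): Aschbacher's theorem in dimension ten, generic form: the irreducible case and the assembly
`asch_om10_raw`.
-/

set_option autoImplicit false

namespace Cfsg.Agent.Helper8.AschOm10

open Cfsg Cfsg.Geo Cfsg.Agent.Lead.Asch Cfsg.Agent.Lead.AschO Cfsg.Agent.Lead.AschOm Cfsg.Agent.Helper4.AschP
open scoped MatrixGroups Matrix Kronecker commutatorElement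

variable {F : Type*} [Field F] [Fintype F]

set_option linter.unusedSectionVars false

/-- a minimal normal subgroup with a given property -/
theorem exists_minimal' {n : ℕ} {H : Subgroup (GL (Fin n) F)} (p : Subgroup (GL (Fin n) F) → Prop)
    (M₀ : Subgroup (GL (Fin n) F)) (hM₀H : M₀ ≤ H) (hM₀ : Nzes H M₀) (hp : p M₀) :
    ∃ N : Subgroup (GL (Fin n) F), N ≤ H ∧ Nzes H N ∧ p N ∧
      ∀ M : Subgroup (GL (Fin n) F), M ≤ N → Nzes H M → p M → M = N := by
  classical
  have : Finite (Subgroup (GL (Fin n) F)) := inferInstance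
  let S : Set (Subgroup (GL (Fin n) F)) := {N | N ≤ H ∧ Nzes H N ∧ p N}
  have hS : S.Nonempty := ⟨M₀, hM₀H, hM₀, hp⟩
  obtain ⟨N, hN, hmin⟩ := (Set.toFinite S).exists_minimal hS
  refine ⟨N, hN.1, hN.2.1, hN.2.2, fun M hMN hMnz hMp => ?_⟩
  have hMS : M ∈ S := ⟨hMN.trans hN.1, hMnz, hMp⟩
  exact le_antisymm hMN (hmin hMS hMN)

/-- a non-scalar element of `ccenter N` prevents every subgroup of `N` from being absolutely irreducible (lead) -/
theorem not_absIrr_of_le {n : ℕ} {N N' : Subgroup (GL (Fin n) F)} (hle : N' ≤ N) {r : ℕ} (hr : 2 ≤ r)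
    (hE : IsFieldSubalgebra r (ccenter N)) : ¬ ActsAbsolutelyIrreducibly (matrixSet N') := by
  rintro ⟨-, habs⟩
  obtain ⟨x, hx, hxs⟩ : ∃ x ∈ ccenter N, ∀ c : F, x ≠ c • (1 : Matrix (Fin n) (Fin n) F) := by
    by_contra hcon
    push Not at hcon
    have hle1 : ccenter N ≤ ⊥ := by
      intro x hx
      obtain ⟨c, rfl⟩ := hcon x hx
      rw [Algebra.mem_bot]
      exact ⟨c, by rw [Algebra.algebraMap_eq_smul_one]⟩
    have h1 : ccenter N = ⊥ := le_bot_iff.1 hle1
    have h2 := hE.finrank_eq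
    rw [h1] at h2
    have h3 : Module.finrank F (⊥ : Subalgebra F (Matrix (Fin n) (Fin n) F)) ≤ 1 := by
      by_cases hnt : Nontrivial (Matrix (Fin n) (Fin n) F)
      · rw [Subalgebra.finrank_bot]
      · rw [not_nontrivial_iff_subsingleton] at hnt
        have : Subsingleton (⊥ : Subalgebra F (Matrix (Fin n) (Fin n) F)) := by
          constructor
          intro a b
          apply Subtype.ext
          exact Subsingleton.elim _ _
        rw [Module.finrank_zero_of_subsingleton]
        exact Nat.zero_le 1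
    omega
  obtain ⟨c, hc⟩ := habs x (fun s hs => by
    obtain ⟨g, hg, rfl⟩ := hs
    exact (mem_ccenter_iff.1 hx).1 _ ⟨g, hle hg, rfl⟩)
  exact hxs c hc

/-- **D5** (lead's glue): the degree five case does not occur for a minimal bad normal subgroup. -/
theorem no_degree_five (hD5C : D5CStmt F) (Q : (Fin 10 → F) → F) (hQ : IsNondegenerateQuadraticForm Q)
    {H N : Subgroup (GL (Fin 10) F)} (hHI : H ≤ isometryGroup F Q) (hirr : ActsIrreducibly (matrixSet H))
    (hNH : N ≤ H) (hnz : Nzes H N) (hNns : ¬ N ≤ scalars (Fin 10) F)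
    (hmin : ∀ N' : Subgroup (GL (Fin 10) F), N' ≤ N → Nzes H N' → ¬ N' ≤ scalars (Fin 10) F →
      ¬ ActsAbsolutelyIrreducibly (matrixSet N') → N' = N)
    (hE : IsFieldSubalgebra 5 (ccenter N)) : False := by
  have hNI : N ≤ isometryGroup F Q := hNH.trans hHI
  have hsymm : IsSymmetricForm (QuadraticMap.polar Q) := Cfsg.Agent.Helper2.AschO9.isSymmetricForm_polar hQ
  by_cases hperf : ⁅N, N⁆ = N
  · -- perfect
    have hsa : IsSelfAdjointFor (QuadraticMap.polar Q) (ccenter N) :=
      Cfsg.Agent.Helper6.AschGO.adjOdd_sym hsymm 5 (ccenter N) ⟨2, rfl⟩ hE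
        (Cfsg.Agent.Helper2.AschOm4.ccenter_adjointClosed Q hQ hNI)
    have hbot := hD5C Q hQ (ccenter N) hE hsa hNI
      (fun x hx k hk => ((mem_ccenter_iff.1 hk).1 _ ⟨x, hx, rfl⟩).symm) hperf
    apply hNns
    rw [hbot]
    exact bot_le
  · -- the commutator subgroup is scalar
    have hcomm : ⁅N, N⁆ ≤ scalars (Fin 10) F := by
      by_contra hc
      exact hperf (hmin _ (Subgroup.commutator_le_self N) (nzes_commutator hnz) hc
        (not_absIrr_of_le (Subgroup.commutator_le_self N) (by norm_num) hE))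
    -- the centre is scalar
    let Z : Subgroup (GL (Fin 10) F) := N ⊓ Subgroup.centralizer (N : Set (GL (Fin 10) F))
    have hZN : Z ≤ N := inf_le_left
    have hZnz : Nzes H Z := by
      intro h hh x hx
      refine ⟨hnz h hh x hx.1, ?_⟩
      show h * x * h⁻¹ ∈ Subgroup.centralizer (N : Set (GL (Fin 10) F))
      rw [Subgroup.mem_centralizer_iff]
      intro y hy
      have hy' : h⁻¹ * y * h ∈ N := by
        have := hnz h⁻¹ (H.inv_mem hh) y hy
        rwa [inv_inv] at this
      have hxc := (Subgroup.mem_centralizer_iff.1 hx.2) _ hy'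
      calc y * (h * x * h⁻¹) = h * ((h⁻¹ * y * h) * x) * h⁻¹ := by group
        _ = h * (x * (h⁻¹ * y * h)) * h⁻¹ := by rw [hxc]
        _ = h * x * h⁻¹ * y := by group
    have hZs : Z ≤ scalars (Fin 10) F := by
      by_contra hc
      have hZeq : Z = N := hmin Z hZN hZnz hc (not_absIrr_of_le hZN (by norm_num) hE)
      apply hNns
      refine Cfsg.Agent.Helper2.AschOm4.le_scalars_of_abelian_of_ccenter_odd Q hQ hNI ⟨2, rfl⟩ hE ?_
      intro x hx y hy
      have hx' : x ∈ Z := by rw [hZeq]; exact hx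
      exact ((Subgroup.mem_centralizer_iff.1 hx'.2) y hy).symm
    refine Cfsg.Agent.Helper2.AschOm4.false_of_class_two_of_ccenter_five hirr hNH hnz hE hcomm ?_
    intro x hx hxc
    apply hZs
    refine ⟨hx, ?_⟩
    show x ∈ Subgroup.centralizer (N : Set (GL (Fin 10) F))
    rw [Subgroup.mem_centralizer_iff]
    intro y hy
    exact (hxc y hy).symm

/-- Clifford theory for a minimal non-scalar, not absolutely irreducible normal subgroup, dimension ten -/
theorem clifford10 (hD5C : D5CStmt F) (Q : (Fin 10 → F) → F) (hQ : IsNondegenerateQuadraticForm Q)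
    {H N : Subgroup (GL (Fin 10) F)} (hHI : H ≤ isometryGroup F Q) (hirr : ActsIrreducibly (matrixSet H))
    (hNH : N ≤ H) (hnz : Nzes H N) (hNns : ¬ N ≤ scalars (Fin 10) F)
    (hNabs : ¬ ActsAbsolutelyIrreducibly (matrixSet N))
    (hmin : ∀ N' : Subgroup (GL (Fin 10) F), N' ≤ N → Nzes H N' → ¬ N' ≤ scalars (Fin 10) F →
      ¬ ActsAbsolutelyIrreducibly (matrixSet N') → N' = N) : OmConcl10 Q H := by
  classical
  have hn : 0 < 10 := by norm_num
  rcases Cfsg.Agent.Helper5.AschF.clifford_orthogonal hn hQ hHI hirr hNH hnz with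
    ⟨t, m, D, hD, hle, -, -⟩ | ⟨m, D, hD, hts, hle, -, -⟩ | hhom
  · exact decomp10 Q hQ hHI D hD
      (Cfsg.Agent.Helper6.AschComp.card_mul_of_isMDecomposition D hD.decomp.decomp) hle
  · have h2m := Cfsg.Agent.Helper6.AschComp.card_mul_of_isMDecomposition D hD
    have hm5 : m = 5 := by omega
    subst hm5
    exact r14 Q H ⟨D, hD, ts_pair_quad Q hQ hHI hirr 5 (by norm_num) D hD hts hle, hle⟩
  -- homogeneous
  have : Nonempty (Fin 10) := ⟨0⟩
  have hf := Cfsg.Agent.Helper5.AschF.RForm.of_quadratic hQ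
  have hNI : N ≤ isometryGroup F Q := hNH.trans hHI
  have hE := ccenter_isFieldSubalgebra (N := N) (fullInvM_of_fullyInv hhom)
  have hadj := Cfsg.Agent.Helper2.AschOm4.ccenter_adjointClosed Q hQ hNI
  have hcpos : 0 < Module.finrank F (ccenter N) := by
    rw [Nat.pos_iff_ne_zero]
    intro h0
    have h1 : (1 : Matrix (Fin 10) (Fin 10) F) ∈ ccenter N := (ccenter N).one_mem
    have h2 : (⟨1, h1⟩ : ccenter N) = 0 := by
      have := Module.finrank_zero_iff.1 h0
      exact Subsingleton.elim _ _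
    have h3 : (1 : Matrix (Fin 10) (Fin 10) F) = 0 := congrArg Subtype.val h2
    exact one_ne_zero h3
  have hcdvd : Module.finrank F (ccenter N) ∣ 10 := by
    have := Cfsg.Agent.Helper7.FEx.dvd_card hcpos (ccenter N) hE
    rwa [Fintype.card_fin] at this
  by_cases h2c : 2 ∣ Module.finrank F (ccenter N)
  · -- a field of degree two closed under adjoints
    obtain ⟨K', hK', -, hnorm, hadj'⟩ :=
      Cfsg.Agent.Helper5.AschF.exists_adjointClosed_subfield hn hf (ccenter N) hE hadj (by norm_num) h2c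
    exact field_two10 Q hQ hHI hirr K' hK' hadj' ((le_normalizer_ccenter hnz).trans hnorm)
  have hc15 : Module.finrank F (ccenter N) = 1 ∨ Module.finrank F (ccenter N) = 5 := by
    have hle10 : Module.finrank F (ccenter N) ≤ 10 := Nat.le_of_dvd (by norm_num) hcdvd
    generalize Module.finrank F (ccenter N) = c at *
    interval_cases c <;> omega
  rcases hc15 with h1 | h5
  swap
  · rw [h5] at hE
    exact (no_degree_five hD5C Q hQ hHI hirr hNH hnz hNns hmin hE).elim
  -- the centre of the commutant is trivial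
  have hct : ∀ M : Matrix (Fin 10) (Fin 10) F, (∀ s ∈ matrixSet N, M * s = s * M) →
      (∀ c : Matrix (Fin 10) (Fin 10) F, (∀ s ∈ matrixSet N, c * s = s * c) → M * c = c * M) →
      ∃ a : F, M = a • (1 : Matrix (Fin 10) (Fin 10) F) := by
    intro M hM1 hM2
    have hM : M ∈ ccenter N := mem_ccenter_iff.2 ⟨hM1, hM2⟩
    rw [Subalgebra.finrank_eq_one_iff.1 h1, Algebra.mem_bot] at hM
    obtain ⟨a, ha⟩ := hM
    exact ⟨a, by rw [← ha, Algebra.algebraMap_eq_smul_one]⟩
  obtain ⟨d, e, eqv, P, ρ, hd, he, hrel, hirr', hdvd⟩ := Cfsg.Agent.Helper5.Asch.homog_data hn hirr hnz hhom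
  have habs := Cfsg.Agent.Helper9.AschComp.rho_absIrred_of_centreTrivial he eqv P ρ hrel hirr' hct
  have hcard : 10 = e * d := by
    have := Fintype.card_congr eqv
    simpa using this
  by_cases hd1 : d = 1
  · subst hd1
    exact absurd (Cfsg.Agent.Helper9.AschComp.le_scalars_of_dim_one eqv P ρ hrel) hNns
  by_cases he1 : e = 1
  · subst he1
    have hdn : d = 10 := by omega
    exfalso
    apply hNabs
    refine Cfsg.Agent.Helper9.AschComp.absIrred_of_dvd hn (fun X hX => ?_) hct
    have h1 := hdvd X hX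
    rw [hdn] at h1
    exact h1
  · have hle : H ≤ tensorProductSubgroup e d eqv P := fun g hg =>
      Cfsg.Agent.Helper9.AschComp.tensor_exit hn eqv P
        (fun x => ((ρ x : GL (Fin d) F) : Matrix (Fin d) (Fin d) F)) hrel habs (fun x hx => hnz g hg x hx)
    obtain ⟨f₁, f₂, hty, hT⟩ := Cfsg.Agent.Helper5.AschOm.tensor_form_orth hn Q hQ hHI hirr hNH (by omega) (by omega)
      eqv P ρ hrel habs hle
    exact tensor10 Q hQ hHI hirr eqv P f₁ f₂ (by omega) (by omega) hty hT hle

/-- Aschbacher's theorem for groups of isometries of a non-degenerate quadratic form in dimension ten, generic form. -/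
theorem asch_om10_raw (hD5C : D5CStmt F) (Q : (Fin 10 → F) → F) (hQ : IsNondegenerateQuadraticForm Q)
    (H : Subgroup (GL (Fin 10) F)) (hHI : H ≤ isometryGroup F Q) : OmConcl10 Q H := by
  by_cases hirr : ActsIrreducibly (matrixSet H)
  swap
  · exact reducible10 Q hQ hHI hirr
  by_cases hall : ∀ M : Subgroup (GL (Fin 10) F), M ≤ H → Nzes H M →
      M ≤ scalars (Fin 10) F ∨ ActsAbsolutelyIrreducibly (matrixSet M)
  swap
  · push Not at hall
    obtain ⟨M, hMH, hMnz, hM1, hM2⟩ := hall
    obtain ⟨N, hNH, hNnz, ⟨hN1, hN2⟩, hmin⟩ := exists_minimal'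
      (fun M : Subgroup (GL (Fin 10) F) => ¬ M ≤ scalars (Fin 10) F ∧ ¬ ActsAbsolutelyIrreducibly (matrixSet M))
      M hMH hMnz ⟨hM1, hM2⟩
    exact clifford10 hD5C Q hQ hHI hirr hNH hNnz hN1 hN2
      (fun N' hN'N hN'nz h1 h2 => hmin N' hN'N hN'nz ⟨h1, h2⟩)
  have hHns : ¬ H ≤ scalars (Fin 10) F := not_le_scalars_of_irred (by norm_num) hirr
  obtain ⟨N, hNH, hNnz, hNns, hmin⟩ := exists_minimal hHns
  have hNabs : ActsAbsolutelyIrreducibly (matrixSet N) := (hall N hNH hNnz).resolve_left hNns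
  have hNI : N ≤ isometryGroup F Q := hNH.trans hHI
  by_cases hsub : ∃ F₀ : Subfield F, F₀ ≠ ⊤ ∧ RealisableOver F₀ (matrixSet N)
  · obtain ⟨F₀, h0, hr⟩ := hsub
    exact r15 Q H (Cfsg.Agent.Helper1.AschOm.subfield_orth_gen (by norm_num) Q hQ hNI hNnz hNabs F₀ h0 hr)
  by_cases hperf : ⁅N, N⁆ = N
  · obtain ⟨hsimp, hnab, hcent⟩ := Cfsg.Agent.Helper4.AschP.perfect_case_pp (by norm_num)
      (by rintro ⟨d, k, hd, hk, h⟩; exact not_perfect_pow_10 d k hd hk h) hNH hNnz hNns hall hmin hperf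
    refine r16 Q H ⟨N, ?_, ?_⟩
    · exact
        { le := hNH
          normal := hNnz
          perfect := hperf
          simple := hsimp
          nonabelian := hnab
          centralizer_scalar := hcent
          absIrred := hNabs
          no_subfield := fun F₀ h0 hr => hsub ⟨F₀, h0, hr⟩ }
    · rintro ⟨σ, f, hf, hfix⟩
      apply hsub
      refine Cfsg.Agent.Helper5.AschO.realisable_of_fixes_quad_unitary (by norm_num) hNabs σ f hf hfix Q hQ ?_
      intro s hs v
      rw [mem_matrixSet_iff] at hs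
      obtain ⟨g, hg, rfl⟩ := hs
      exact mem_isometryGroup_iff.1 (hNI hg) v
  · exfalso
    have hcomm : ⁅N, N⁆ ≤ scalars (Fin 10) F := by
      by_contra hc
      exact hperf (hmin _ (Subgroup.commutator_le_self N) (nzes_commutator hNnz) hc)
    obtain ⟨r, k, hr, h⟩ :=
      Cfsg.Agent.Helper6.AschComp.symplectic_type_prime_pow (by norm_num) hNH hNnz hNns hNabs hmin hcomm
    exact not_prime_pow_10 r k hr h

end Cfsg.Agent.Helper8.AschOm10
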