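import Mathlib
import Cfsg.Prelude.Def_GeometricClasses
import Cfsg.Agent.Helper8.AschOmType
import Cfsg.Agent.Helper8.QuadTypeF

/-!
# ASCH-OM round 2 (helper8): T3, orthogonal sums of two halves of the same odd dimension (`q` odd)

`W ⟂ W'` non-degenerate of the same odd dimension: `W ⊔ W'` is of plus type iff (`W ≅ W'` iff `-1` is a square);
hence for isometric halves plus type means `q ≡ 1 (mod 4)`, for non-isometric halves `q ≡ 3 (mod 4)`.
-/

set_option autoImplicit false

namespace Cfsg.Agent.Helper8.AschOm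

open Cfsg Cfsg.Geo Cfsg.Agent.Lead.AschOm Cfsg.Agent.Helper8.QuadForm Cfsg.Agent.Helper8.QuadType
  Cfsg.Agent.Helper7.QTy Cfsg.Agent.Helper7.SpOrd Module
open scoped MatrixGroups Matrix

variable {n : ℕ} {F : Type*} [Field F]

theorem two_ne_zero_of_odd_card' [Fintype F] (hF : Odd (Fintype.card F)) : (2 : F) ≠ 0 := by
  intro h
  have hchar : ringChar F = 2 := by
    have : ringChar F ∣ 2 := by
      rw [← ringChar.spec]
      exact_mod_cast h
    rcases (Nat.dvd_prime Nat.prime_two).mp this with h1 | h1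
    · exact absurd h1 (CharP.ringChar_ne_one)
    · exact h1
  have := FiniteField.even_card_of_char_two hchar
  have := Nat.odd_iff.mp hF
  omega

/-- **T3 (unified)** -/
theorem plus_sup_odd_halves_iff [Fintype F] (hodd : Odd (Fintype.card F)) (Q : (Fin n → F) → F)
    (hQ : IsNondegenerateQuadraticForm Q) {W W' : Submodule F (Fin n → F)}
    (hW : IsNondegenerateOn (QuadraticMap.polar Q) W) (hW' : IsNondegenerateOn (QuadraticMap.polar Q) W')
    (horth : AreOrthogonalFor (QuadraticMap.polar Q) W W') (hd : finrank F W = finrank F W')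
    (hoddW : Odd (finrank F W)) :
    IsPlusTypeOn Q (W ⊔ W') ↔ (AreIsometricFor Q W W' ↔ IsSquare (-1 : F)) :=
  hyp_sup_odd_halves_iff (Q := toQF Q hQ) (two_ne_zero_of_odd_card' hodd)
    (nd_top_of_nondeg (toQF_nondeg Q hQ)) ((nd_iff_isNondegenerateOn Q hQ W).2 hW)
    ((nd_iff_isNondegenerateOn Q hQ W').2 hW') ((le_orth_iff_areOrthogonalFor Q hQ W W').2 horth) hd hoddW

theorem card_mod_four_of_odd {q : ℕ} (hodd : Odd q) : q % 4 = 1 ∨ q % 4 = 3 := by
  have := Nat.odd_iff.mp hodd
  omega

/-- **T3, isometric halves**: plus type iff `q ≡ 1 (mod 4)` -/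
theorem plus_top_iff_of_isometric_odd [Fintype F] (hodd : Odd (Fintype.card F)) (Q : (Fin n → F) → F)
    (hQ : IsNondegenerateQuadraticForm Q) {W W' : Submodule F (Fin n → F)}
    (hW : IsNondegenerateOn (QuadraticMap.polar Q) W) (hW' : IsNondegenerateOn (QuadraticMap.polar Q) W')
    (horth : AreOrthogonalFor (QuadraticMap.polar Q) W W') (htop : W ⊔ W' = ⊤)
    (hd : finrank F W = finrank F W') (hoddW : Odd (finrank F W)) (hiso : AreIsometricFor Q W W') :
    IsPlusTypeOn Q ⊤ ↔ Fintype.card F % 4 = 1 := by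
  have h := plus_sup_odd_halves_iff hodd Q hQ hW hW' horth hd hoddW
  rw [htop] at h
  rw [h, FiniteField.isSquare_neg_one_iff]
  rcases card_mod_four_of_odd hodd with h1 | h3
  · constructor
    · intro _
      exact h1
    · intro _
      exact ⟨fun _ => by omega, fun _ => hiso⟩
  · constructor
    · intro hh
      exact absurd h3 (hh.1 hiso)
    · intro h1
      omega

/-- **T3, non-isometric halves**: plus type iff `q ≡ 3 (mod 4)` -/
theorem plus_top_iff_of_not_isometric_odd [Fintype F] (hodd : Odd (Fintype.card F)) (Q : (Fin n → F) → F)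
    (hQ : IsNondegenerateQuadraticForm Q) {W W' : Submodule F (Fin n → F)}
    (hW : IsNondegenerateOn (QuadraticMap.polar Q) W) (hW' : IsNondegenerateOn (QuadraticMap.polar Q) W')
    (horth : AreOrthogonalFor (QuadraticMap.polar Q) W W') (htop : W ⊔ W' = ⊤)
    (hd : finrank F W = finrank F W') (hoddW : Odd (finrank F W)) (hiso : ¬ AreIsometricFor Q W W') :
    IsPlusTypeOn Q ⊤ ↔ Fintype.card F % 4 = 3 := by
  have h := plus_sup_odd_halves_iff hodd Q hQ hW hW' horth hd hoddW
  rw [htop] at h
  rw [h, FiniteField.isSquare_neg_one_iff]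
  rcases card_mod_four_of_odd hodd with h1 | h3
  · constructor
    · intro hh
      exact absurd (hh.2 (by omega)) hiso
    · intro h3
      omega
  · constructor
    · intro _
      exact h3
    · intro _
      exact ⟨fun hh => absurd hh hiso, fun hh => absurd h3 hh⟩

end Cfsg.Agent.Helper8.AschOm
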