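import Mathlib
import Cfsg.Prelude.Def_GeometricClasses
import Cfsg.Agent.Helper8.AschOmTypeB
import Cfsg.Agent.Helper8.QuadTypeH

/-!
ASCH-OM part 3 (helper8), piece L10: the type of an orthogonal sum of `2t` pairwise isometric non-degenerate lines
(`q` odd): plus type iff `t` is even or `-1` is a square.
-/

set_option autoImplicit false

namespace Cfsg.Agent.Helper8.AschOm10

open Cfsg Cfsg.Geo Cfsg.Agent.Lead.AschOm Cfsg.Agent.Helper8.QuadForm Cfsg.Agent.Helper8.QuadType
  Cfsg.Agent.Helper7.QTy Cfsg.Agent.Helper7.SpOrd Cfsg.Agent.Helper8.AschOm Module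
open scoped MatrixGroups Matrix

variable {n : ℕ} {F : Type*} [Field F] [Fintype F]

set_option linter.unusedSectionVars false

/-- orthogonality of sums -/
theorem areOrthogonalFor_sup {Q : (Fin n → F) → F} (hQ : IsNondegenerateQuadraticForm Q)
    {A B C E : Submodule F (Fin n → F)} (hAC : AreOrthogonalFor (QuadraticMap.polar Q) A C)
    (hAE : AreOrthogonalFor (QuadraticMap.polar Q) A E) (hBC : AreOrthogonalFor (QuadraticMap.polar Q) B C)
    (hBE : AreOrthogonalFor (QuadraticMap.polar Q) B E) :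
    AreOrthogonalFor (QuadraticMap.polar Q) (A ⊔ B) (C ⊔ E) := by
  intro u hu v hv
  obtain ⟨a, ha, b, hb, rfl⟩ := Submodule.mem_sup.1 hu
  obtain ⟨c, hc, e, he, rfl⟩ := Submodule.mem_sup.1 hv
  rw [hQ.polar_bilinear.add_left, hQ.polar_bilinear.add_right, hQ.polar_bilinear.add_right,
    hAC a ha c hc, hAE a ha e he, hBC b hb c hc, hBE b hb e he]
  ring

/-- **L10**: an orthogonal sum of `2t` pairwise isometric non-degenerate lines (`q` odd) is of plus type iff `t` is
even or `-1` is a square. -/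
theorem plus_top_iff_lines (hodd : Odd (Fintype.card F)) (Q : (Fin n → F) → F)
    (hQ : IsNondegenerateQuadraticForm Q) {t : ℕ} (D : Fin (2 * t) → Submodule F (Fin n → F))
    (hD : IsOrthogonalMDecomposition Q 1 D) : IsPlusTypeOn Q ⊤ ↔ (Even t ∨ IsSquare (-1 : F)) := by
  classical
  let a : Fin t → Fin (2 * t) := fun j => ⟨2 * (j : ℕ), by have := j.2; omega⟩
  let b : Fin t → Fin (2 * t) := fun j => ⟨2 * (j : ℕ) + 1, by have := j.2; omega⟩
  have hab : ∀ j, a j ≠ b j := by
    intro j h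
    have := congrArg Fin.val h
    simp only [a, b] at this
    omega
  have hne : ∀ i j, i ≠ j → a i ≠ a j ∧ a i ≠ b j ∧ b i ≠ a j ∧ b i ≠ b j := by
    intro i j hij
    have hij' : (i : ℕ) ≠ (j : ℕ) := fun h => hij (Fin.ext h)
    refine ⟨?_, ?_, ?_, ?_⟩ <;>
    · intro h
      have := congrArg Fin.val h
      simp only [a, b] at this
      omega
  let P : Fin t → Submodule F (Fin n → F) := fun j => D (a j) ⊔ D (b j)
  have hndD : ∀ i, ND (QuadraticMap.polarBilin (toQF Q hQ)) (D i) := fun i =>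
    (nd_iff_isNondegenerateOn Q hQ (D i)).2 (hD.decomp.nondegenerate i)
  have horthD : ∀ i j, i ≠ j →
      D j ≤ LinearMap.BilinForm.orthogonal (QuadraticMap.polarBilin (toQF Q hQ)) (D i) := fun i j hij =>
    (le_orth_iff_areOrthogonalFor Q hQ (D i) (D j)).2 (hD.decomp.orthogonal i j hij)
  have hfr : ∀ i, finrank F (D i) = 1 := hD.decomp.decomp.finrank_eq
  have hP_plus : ∀ j, IsPlusTypeOn Q (P j) ↔ IsSquare (-1 : F) := by
    intro j
    have h := plus_sup_odd_halves_iff hodd Q hQ (hD.decomp.nondegenerate (a j)) (hD.decomp.nondegenerate (b j))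
      (hD.decomp.orthogonal _ _ (hab j)) (by rw [hfr, hfr]) (by rw [hfr]; exact odd_one)
    rw [h]
    exact ⟨fun hh => hh.1 (hD.isometric _ _), fun hs => ⟨fun _ => hs, fun _ => hD.isometric _ _⟩⟩
  have hndP : ∀ j, ND (QuadraticMap.polarBilin (toQF Q hQ)) (P j) := fun j =>
    nd_sup (pB_refl _) (hndD (a j)) (hndD (b j)) (horthD (a j) (b j) (hab j))
  have horthP : ∀ i j, i ≠ j →
      P j ≤ LinearMap.BilinForm.orthogonal (QuadraticMap.polarBilin (toQF Q hQ)) (P i) := by
    intro i j hij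
    obtain ⟨h1, h2, h3, h4⟩ := hne i j hij
    exact (le_orth_iff_areOrthogonalFor Q hQ (P i) (P j)).2
      (areOrthogonalFor_sup hQ (hD.decomp.orthogonal _ _ h1) (hD.decomp.orthogonal _ _ h2)
        (hD.decomp.orthogonal _ _ h3) (hD.decomp.orthogonal _ _ h4))
  have hevP : ∀ j, Even (finrank F (P j)) := by
    intro j
    have := finrank_sup_of_le_perp (pB_refl (toQF Q hQ)) (hndD (a j)) (horthD (a j) (b j) (hab j))
    show Even (finrank F ↥(D (a j) ⊔ D (b j)))
    rw [this, hfr, hfr]
    exact ⟨1, rfl⟩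
  have h := hyp_iSup_iff (Q := toQF Q hQ) (nd_top_of_nondeg (toQF_nondeg Q hQ)) P (IsSquare (-1 : F))
    hndP horthP hevP (fun j => (hyp_iff_isPlusTypeOn Q hQ (P j)).trans (hP_plus j))
  have hsup : (⨆ j, P j) = ⊤ := by
    rw [eq_top_iff, ← hD.decomp.decomp.iSup_eq_top]
    refine iSup_le fun i => ?_
    obtain ⟨j, hj⟩ : ∃ j : Fin t, i = a j ∨ i = b j := by
      have hi := i.2
      have hj : (i : ℕ) / 2 < t := by omega
      refine ⟨⟨(i : ℕ) / 2, hj⟩, ?_⟩
      rcases Nat.mod_two_eq_zero_or_one (i : ℕ) with h0 | h1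
      · left
        apply Fin.ext
        simp only [a]
        omega
      · right
        apply Fin.ext
        simp only [b]
        omega
    refine le_trans ?_ (le_iSup P j)
    rcases hj with rfl | rfl
    · exact le_sup_left
    · exact le_sup_right
  rw [hsup] at h
  exact (hyp_iff_isPlusTypeOn Q hQ ⊤).symm.trans h

/-- ten pairwise isometric non-degenerate lines: plus type iff `q ≡ 1 (mod 4)` -/
theorem plus_top_iff_ten_lines (hodd : Odd (Fintype.card F)) (Q : (Fin 10 → F) → F)
    (hQ : IsNondegenerateQuadraticForm Q) (D : Fin 10 → Submodule F (Fin 10 → F))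
    (hD : IsOrthogonalMDecomposition Q 1 D) : IsPlusTypeOn Q ⊤ ↔ Fintype.card F % 4 = 1 := by
  have h := plus_top_iff_lines hodd Q hQ (t := 5) D hD
  rw [h, FiniteField.isSquare_neg_one_iff]
  have h5 : ¬ Even 5 := by decide
  rcases card_mod_four_of_odd hodd with h1 | h3
  · exact ⟨fun _ => h1, fun _ => Or.inr (by omega)⟩
  · constructor
    · rintro (hh | hh)
      · exact absurd hh h5
      · exact absurd h3 hh
    · intro h1
      omega

end Cfsg.Agent.Helper8.AschOm10
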