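import Mathlib
import Cfsg.Prelude.Def_GeometricClasses
import Cfsg.Agent.Helper8.AschOm10B
import Cfsg.Agent.Helper8.AschOm10C
import Cfsg.Agent.Lead.AschOmFinal

/-!
ASCH-OM part 3 (helper8): the final statements for `Ω_10^+(q)` (S5847) and `Ω_10^-(q)` (S5850), from `asch_om10_raw`
and the slot D5-C.
-/

set_option autoImplicit false

namespace Cfsg.Agent.Helper8.AschOm10

open Cfsg Cfsg.Geo Cfsg.Agent.Lead.Asch Cfsg.Agent.Lead.AschO Cfsg.Agent.Lead.AschOm Cfsg.Agent.Helper8.AschOm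
open scoped MatrixGroups Matrix Kronecker commutatorElement

/-- a non-degenerate odd-dimensional subspace forces `q` odd -/
theorem odd_card_of_nondeg_five {F : Type*} [Field F] [Fintype F] (Q : (Fin 10 → F) → F)
    (hQ : IsNondegenerateQuadraticForm Q) (W : Submodule F (Fin 10 → F))
    (hnd : IsNondegenerateOn (QuadraticMap.polar Q) W) (hd : Module.finrank F W = 5) : Odd (Fintype.card F) := by
  by_contra hq
  have := Cfsg.Agent.Helper2.AschOm.even_finrank_of_nondegenerateOn hq Q hQ W hnd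
  rw [hd] at this
  exact absurd this (by decide)

/-- the two members of a decomposition indexed by `Fin 2` span everything -/
theorem sup_eq_top_of_decomp {F : Type*} [Field F] {m : ℕ} (D : Fin 2 → Submodule F (Fin 10 → F))
    (hD : IsMDecomposition m D) : D 0 ⊔ D 1 = ⊤ := by
  rw [eq_top_iff, ← hD.iSup_eq_top]
  refine iSup_le fun i => ?_
  fin_cases i
  · exact le_sup_left
  · exact le_sup_right

/-- S5847 -/
theorem final10p {F : Type*} [Field F] [Fintype F] (hD5C : D5CStmt F) (Q : (Fin 10 → F) → F) (hQ : Cfsg.Geo.IsNondegenerateQuadraticForm Q) (hplus : Cfsg.Geo.IsPlusTypeOn Q ⊤) (H : Subgroup (Matrix.GeneralLinearGroup (Fin 10) F)) (hH : Cfsg.Geo.IsMaximalIn (Cfsg.Geo.omegaGL Q) H) :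
    (∃ W : Submodule F (Fin 10 → F), W ≠ ⊥ ∧ Cfsg.Geo.IsTotallySingularQuad Q W ∧ Module.finrank F W ≠ 4 ∧ H = Cfsg.Geo.subspaceStabilizer W ⊓ Cfsg.Geo.omegaGL Q) ∨
    (Odd (Fintype.card F) ∧ ∃ W : Submodule F (Fin 10 → F), W ≠ ⊥ ∧ W ≠ ⊤ ∧ Odd (Module.finrank F W) ∧ 2 * Module.finrank F W ≠ 10 ∧ Cfsg.Geo.IsNondegenerateOn (QuadraticMap.polar Q) W ∧ H = Cfsg.Geo.subspaceStabilizer W ⊓ Cfsg.Geo.omegaGL Q) ∨
    (∃ W : Submodule F (Fin 10 → F), Module.finrank F W = 2 ∧ Cfsg.Geo.IsNondegenerateOn (QuadraticMap.polar Q) W ∧ ¬ Cfsg.Geo.IsPlusTypeOn Q W ∧ H = Cfsg.Geo.subspaceStabilizer W ⊓ Cfsg.Geo.omegaGL Q) ∨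
    (4 ≤ Fintype.card F ∧ ∃ W : Submodule F (Fin 10 → F), Module.finrank F W = 2 ∧ Cfsg.Geo.IsNondegenerateOn (QuadraticMap.polar Q) W ∧ Cfsg.Geo.IsPlusTypeOn Q W ∧ H = Cfsg.Geo.subspaceStabilizer W ⊓ Cfsg.Geo.omegaGL Q) ∨
    (∃ W : Submodule F (Fin 10 → F), Module.finrank F W = 4 ∧ Cfsg.Geo.IsNondegenerateOn (QuadraticMap.polar Q) W ∧ H = Cfsg.Geo.subspaceStabilizer W ⊓ Cfsg.Geo.omegaGL Q) ∨
    (¬ Odd (Fintype.card F) ∧ ∃ v : (Fin 10 → F), Q v ≠ 0 ∧ H = Cfsg.Geo.subspaceStabilizer (Submodule.span F {v}) ⊓ Cfsg.Geo.omegaGL Q) ∨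
    ((∃ p : ℕ, p.Prime ∧ Fintype.card F = p ∧ (p % 4 = 1)) ∧ ∃ D : Fin 10 → Submodule F (Fin 10 → F), Cfsg.Geo.IsOrthogonalMDecomposition Q 1 D ∧ H = Cfsg.Geo.decompositionStabilizer D ⊓ Cfsg.Geo.omegaGL Q) ∨
    (7 ≤ Fintype.card F ∧ ∃ D : Fin 5 → Submodule F (Fin 10 → F), Cfsg.Geo.IsOrthogonalMDecomposition Q 2 D ∧ H = Cfsg.Geo.decompositionStabilizer D ⊓ Cfsg.Geo.omegaGL Q) ∨
    (Fintype.card F % 4 = 1 ∧ ∃ D : Fin 2 → Submodule F (Fin 10 → F), Cfsg.Geo.IsOrthogonalMDecomposition Q 5 D ∧ H = Cfsg.Geo.decompositionStabilizer D ⊓ Cfsg.Geo.omegaGL Q) ∨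
    (Fintype.card F % 4 = 3 ∧ ∃ D : Fin 2 → Submodule F (Fin 10 → F), Cfsg.Geo.IsNondegenerateMDecomposition (QuadraticMap.polar Q) 5 D ∧ ¬ Cfsg.Geo.AreIsometricFor Q (D 0) (D 1) ∧ H = Cfsg.Geo.decompositionStabilizer D ⊓ Cfsg.Geo.omegaGL Q) ∨
    (Odd (Fintype.card F) ∧ ∃ K : Subalgebra F (Matrix (Fin 10) (Fin 10) F), Cfsg.Geo.IsFieldSubalgebra 2 K ∧ Cfsg.Geo.IsSelfAdjointFor (QuadraticMap.polar Q) K ∧ H = Cfsg.Geo.subalgebraNormalizer K ⊓ Cfsg.Geo.omegaGL Q) ∨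
    (∃ (F₀ : Subfield F) (r : ℕ) (P : Matrix.GeneralLinearGroup (Fin 10) F) (ζ : F), r.Prime ∧ Fintype.card F = Nat.card F₀ ^ r ∧ ζ ≠ 0 ∧ Cfsg.Geo.IsQuadFormRationalStructure (fun v : Fin 10 → F => ζ * Q v) F₀ P ∧ H = Cfsg.Geo.subfieldSubgroup F₀ P ⊓ Cfsg.Geo.omegaGL Q) ∨
    Cfsg.Geo.InOrthogonalResidualClass H := by
  classical
  have hHΩ : H ≤ omegaGL Q := hH.1.le
  have hHI : H ≤ isometryGroup F Q := hHΩ.trans (Cfsg.Agent.Lead.AschO.omegaGL_le_isometryGroup Q)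
  have hsub : ∀ (W : Submodule F (Fin 10 → F)), W ≠ ⊥ → W ≠ ⊤ → H ≤ subspaceStabilizer W →
      H = subspaceStabilizer W ⊓ omegaGL Q := fun W h0 h1 hle =>
    eq_inf_of_le' hH hle
      (Cfsg.Agent.Helper7.AschOm.not_le_subspaceStabilizer_omega_gen (by norm_num) Q hQ W h0 h1)
  have hdec : ∀ {t : ℕ} (m : ℕ) (D : Fin t → Submodule F (Fin 10 → F)), IsMDecomposition m D →
      H ≤ decompositionStabilizer D → H = decompositionStabilizer D ⊓ omegaGL Q := fun m D hD hle =>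
    eq_inf_of_le' hH hle
      (Cfsg.Agent.Helper7.AschOm.not_le_decompositionStabilizer_omega_gen (by norm_num) Q hQ m D hD)
  have hfld : ∀ (K : Subalgebra F (Matrix (Fin 10) (Fin 10) F)), IsFieldSubalgebra 2 K →
      H ≤ subalgebraNormalizer K → H = subalgebraNormalizer K ⊓ omegaGL Q := fun K hK hle =>
    eq_inf_of_le' hH hle
      (Cfsg.Agent.Helper8.AschOm.not_le_subalgebraNormalizer_omega_gen (by norm_num) Q hQ 2 (by norm_num) K hK)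
  have hdim : ∀ (W : Submodule F (Fin 10 → F)) (k : ℕ), Module.finrank F W = k → 0 < k → k < 10 →
      W ≠ ⊥ ∧ W ≠ ⊤ := by
    intro W k hk h0 h10
    constructor
    · rintro rfl
      rw [finrank_bot] at hk
      omega
    · rintro rfl
      rw [finrank_top, Module.finrank_fin_fun] at hk
      omega
  obtain ⟨v₀, hv₀⟩ := exists_ne_zero_of_nondegenerate (by norm_num) Q hQ
  have htsne : ∀ W : Submodule F (Fin 10 → F), IsTotallySingularQuad Q W → W ≠ ⊤ := by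
    rintro W hts rfl
    exact hv₀ (hts v₀ Submodule.mem_top)
  rcases asch_om10_raw hD5C Q hQ H hHI with ⟨W, h0, hts, hle⟩ | ⟨hq, W, h0, h1, ho, h2, hnd, hle⟩ |
    ⟨W, h2, hnd, hp, hle⟩ | ⟨hq, W, h2, hnd, hp, hle⟩ | ⟨W, h4, hnd, hle⟩ |
    ⟨hq, v, hv, hle⟩ | ⟨⟨p, hpp, hpo, hqp⟩, D, hD, hle⟩ | ⟨hq, D, hD, hp, hle⟩ | ⟨hq, D, hD, hp, hle⟩ |
    ⟨D, hD, hle⟩ | ⟨D, hD, hni, hle⟩ | ⟨hq, K, hK, hsa, hle⟩ | ⟨K, hK, hac, hnsa, hsim, hle⟩ |
    ⟨D, hD, hts, hle⟩ | ⟨F₀, r, P, ζ, hr, hc, hζ, hrat, hle⟩ | hres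
  · -- totally singular
    by_cases h4 : Module.finrank F W = 4
    · obtain ⟨U, -, hUts, hUd, hUle⟩ := le_stabilizer_of_ts_corank_one (m := 5) rfl Q hQ hplus W (by rw [h4]) hts
        hHΩ hle
      have hU0 : U ≠ ⊥ := by
        rintro rfl
        rw [finrank_bot] at hUd
        omega
      exact Or.inl ⟨U, hU0, hUts, by rw [hUd]; norm_num, hsub U hU0 (htsne U hUts) hUle⟩
    · exact Or.inl ⟨W, h0, hts, h4, hsub W h0 (htsne W hts) hle⟩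
  · exact Or.inr (Or.inl ⟨hq, W, h0, h1, ho, h2, hnd, hsub W h0 h1 hle⟩)
  · obtain ⟨h0, h1⟩ := hdim W 2 h2 (by norm_num) (by norm_num)
    exact Or.inr (Or.inr (Or.inl ⟨W, h2, hnd, hp, hsub W h0 h1 hle⟩))
  · obtain ⟨h0, h1⟩ := hdim W 2 h2 (by norm_num) (by norm_num)
    exact Or.inr (Or.inr (Or.inr (Or.inl ⟨hq, W, h2, hnd, hp, hsub W h0 h1 hle⟩)))
  · obtain ⟨h0, h1⟩ := hdim W 4 h4 (by norm_num) (by norm_num)
    exact Or.inr (Or.inr (Or.inr (Or.inr (Or.inl ⟨W, h4, hnd, hsub W h0 h1 hle⟩))))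
  · have hv0 : v ≠ 0 := by
      rintro rfl
      apply hv
      have := hQ.smul 0 (0 : Fin 10 → F)
      simpa using this
    obtain ⟨h0, h1⟩ := hdim (Submodule.span F {v}) 1 (finrank_span_singleton hv0) (by norm_num) (by norm_num)
    exact Or.inr (Or.inr (Or.inr (Or.inr (Or.inr (Or.inl ⟨hq, v, hv, hsub _ h0 h1 hle⟩)))))
  · -- ten lines
    have hqo : Odd (Fintype.card F) := hqp ▸ hpo
    have h1 := (plus_top_iff_ten_lines hqo Q hQ D hD).1 hplus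
    exact Or.inr (Or.inr (Or.inr (Or.inr (Or.inr (Or.inr (Or.inl
      ⟨⟨p, hpp, hqp, hqp ▸ h1⟩, D, hD, hdec 1 D hD.decomp.decomp hle⟩))))))
  · exact Or.inr (Or.inr (Or.inr (Or.inr (Or.inr (Or.inr (Or.inr (Or.inl
      ⟨hq, D, hD, hdec 2 D hD.decomp.decomp hle⟩)))))))
  · -- five minus planes: impossible
    exfalso
    rcases (Cfsg.Agent.Helper8.AschOm3.plus_blocks_iff Q hQ D hD ⟨1, rfl⟩).1 hplus with h | h
    · exact absurd h (by decide)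
    · exact hp 0 (h 0)
  · -- two isometric 5-spaces
    have hqo := odd_card_of_nondeg_five Q hQ (D 0) (hD.decomp.nondegenerate 0) (hD.decomp.decomp.finrank_eq 0)
    have h1 := (plus_top_iff_of_isometric_odd hqo Q hQ (hD.decomp.nondegenerate 0) (hD.decomp.nondegenerate 1)
      (hD.decomp.orthogonal 0 1 (by decide)) (sup_eq_top_of_decomp D hD.decomp.decomp)
      (by rw [hD.decomp.decomp.finrank_eq, hD.decomp.decomp.finrank_eq])
      (by rw [hD.decomp.decomp.finrank_eq]; decide) (hD.isometric 0 1)).1 hplus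
    exact Or.inr (Or.inr (Or.inr (Or.inr (Or.inr (Or.inr (Or.inr (Or.inr (Or.inl
      ⟨h1, D, hD, hdec 5 D hD.decomp.decomp hle⟩))))))))
  · -- two non-isometric 5-spaces
    have hqo := odd_card_of_nondeg_five Q hQ (D 0) (hD.nondegenerate 0) (hD.decomp.finrank_eq 0)
    have h3 := (plus_top_iff_of_not_isometric_odd hqo Q hQ (hD.nondegenerate 0) (hD.nondegenerate 1)
      (hD.orthogonal 0 1 (by decide)) (sup_eq_top_of_decomp D hD.decomp)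
      (by rw [hD.decomp.finrank_eq, hD.decomp.finrank_eq])
      (by rw [hD.decomp.finrank_eq]; decide) hni).1 hplus
    exact Or.inr (Or.inr (Or.inr (Or.inr (Or.inr (Or.inr (Or.inr (Or.inr (Or.inr (Or.inl
      ⟨h3, D, hD, hni, hdec 5 D hD.decomp hle⟩)))))))))
  · exact Or.inr (Or.inr (Or.inr (Or.inr (Or.inr (Or.inr (Or.inr (Or.inr (Or.inr (Or.inr (Or.inl
      ⟨hq, K, hK, hsa, hfld K hK hle⟩))))))))))
  · -- similarities: minus type
    exfalso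
    have := (plus_top_iff_even_of_similarity_two Q hQ K hK hac hsim (m := 5) rfl).1 hplus
    exact absurd this (by decide)
  · -- a pair of totally singular 5-spaces: no element of `Ω` swaps them
    have hle0 := le_stabilizer_of_ts_pair_odd (m := 5) rfl ⟨2, rfl⟩ Q hQ D hD hts hHΩ hle 0
    obtain ⟨h0, h1⟩ := hdim (D 0) 5 (hD.finrank_eq 0) (by norm_num) (by norm_num)
    exact Or.inl ⟨D 0, h0, hts 0, by rw [hD.finrank_eq]; norm_num, hsub (D 0) h0 h1 hle0⟩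
  · exact Or.inr (Or.inr (Or.inr (Or.inr (Or.inr (Or.inr (Or.inr (Or.inr (Or.inr (Or.inr (Or.inr (Or.inl
      ⟨F₀, r, P, ζ, hr, hc, hζ, hrat, eq_inf_of_le' hH hle
        (Cfsg.Agent.Helper1.AschOm.not_le_subfieldSubgroup_omega_gen (by norm_num) Q hQ F₀
          (subfield_ne_top_of_card F₀ r hr hc) P)⟩)))))))))))
  · exact Or.inr (Or.inr (Or.inr (Or.inr (Or.inr (Or.inr (Or.inr (Or.inr (Or.inr (Or.inr (Or.inr (Or.inr
      hres)))))))))))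

/-- S5850 -/
theorem final10m {F : Type*} [Field F] [Fintype F] (hD5C : D5CStmt F) (Q : (Fin 10 → F) → F) (hQ : Cfsg.Geo.IsNondegenerateQuadraticForm Q) (hminus : ¬ Cfsg.Geo.IsPlusTypeOn Q ⊤) (H : Subgroup (Matrix.GeneralLinearGroup (Fin 10) F)) (hH : Cfsg.Geo.IsMaximalIn (Cfsg.Geo.omegaGL Q) H) :
    (∃ W : Submodule F (Fin 10 → F), W ≠ ⊥ ∧ Cfsg.Geo.IsTotallySingularQuad Q W ∧ H = Cfsg.Geo.subspaceStabilizer W ⊓ Cfsg.Geo.omegaGL Q) ∨
    (Odd (Fintype.card F) ∧ ∃ W : Submodule F (Fin 10 → F), W ≠ ⊥ ∧ W ≠ ⊤ ∧ Odd (Module.finrank F W) ∧ 2 * Module.finrank F W ≠ 10 ∧ Cfsg.Geo.IsNondegenerateOn (QuadraticMap.polar Q) W ∧ H = Cfsg.Geo.subspaceStabilizer W ⊓ Cfsg.Geo.omegaGL Q) ∨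
    (∃ W : Submodule F (Fin 10 → F), Module.finrank F W = 2 ∧ Cfsg.Geo.IsNondegenerateOn (QuadraticMap.polar Q) W ∧ ¬ Cfsg.Geo.IsPlusTypeOn Q W ∧ H = Cfsg.Geo.subspaceStabilizer W ⊓ Cfsg.Geo.omegaGL Q) ∨
    (4 ≤ Fintype.card F ∧ ∃ W : Submodule F (Fin 10 → F), Module.finrank F W = 2 ∧ Cfsg.Geo.IsNondegenerateOn (QuadraticMap.polar Q) W ∧ Cfsg.Geo.IsPlusTypeOn Q W ∧ H = Cfsg.Geo.subspaceStabilizer W ⊓ Cfsg.Geo.omegaGL Q) ∨
    (∃ W : Submodule F (Fin 10 → F), Module.finrank F W = 4 ∧ Cfsg.Geo.IsNondegenerateOn (QuadraticMap.polar Q) W ∧ H = Cfsg.Geo.subspaceStabilizer W ⊓ Cfsg.Geo.omegaGL Q) ∨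
    (¬ Odd (Fintype.card F) ∧ ∃ v : (Fin 10 → F), Q v ≠ 0 ∧ H = Cfsg.Geo.subspaceStabilizer (Submodule.span F {v}) ⊓ Cfsg.Geo.omegaGL Q) ∨
    ((∃ p : ℕ, p.Prime ∧ Fintype.card F = p ∧ (p % 4 = 3)) ∧ ∃ D : Fin 10 → Submodule F (Fin 10 → F), Cfsg.Geo.IsOrthogonalMDecomposition Q 1 D ∧ H = Cfsg.Geo.decompositionStabilizer D ⊓ Cfsg.Geo.omegaGL Q) ∨
    (Fintype.card F ≠ 3 ∧ ∃ D : Fin 5 → Submodule F (Fin 10 → F), Cfsg.Geo.IsOrthogonalMDecomposition Q 2 D ∧ H = Cfsg.Geo.decompositionStabilizer D ⊓ Cfsg.Geo.omegaGL Q) ∨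
    (Fintype.card F % 4 = 3 ∧ ∃ D : Fin 2 → Submodule F (Fin 10 → F), Cfsg.Geo.IsOrthogonalMDecomposition Q 5 D ∧ H = Cfsg.Geo.decompositionStabilizer D ⊓ Cfsg.Geo.omegaGL Q) ∨
    (Fintype.card F % 4 = 1 ∧ ∃ D : Fin 2 → Submodule F (Fin 10 → F), Cfsg.Geo.IsNondegenerateMDecomposition (QuadraticMap.polar Q) 5 D ∧ ¬ Cfsg.Geo.AreIsometricFor Q (D 0) (D 1) ∧ H = Cfsg.Geo.decompositionStabilizer D ⊓ Cfsg.Geo.omegaGL Q) ∨
    (Odd (Fintype.card F) ∧ ∃ K : Subalgebra F (Matrix (Fin 10) (Fin 10) F), Cfsg.Geo.IsFieldSubalgebra 2 K ∧ Cfsg.Geo.IsSelfAdjointFor (QuadraticMap.polar Q) K ∧ H = Cfsg.Geo.subalgebraNormalizer K ⊓ Cfsg.Geo.omegaGL Q) ∨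
    (∃ K : Subalgebra F (Matrix (Fin 10) (Fin 10) F), Cfsg.Geo.IsFieldSubalgebra 2 K ∧ Cfsg.Geo.IsAdjointClosedFor (QuadraticMap.polar Q) K ∧ ¬ Cfsg.Geo.IsSelfAdjointFor (QuadraticMap.polar Q) K ∧ (∀ k ∈ K, ∃ c : F, ∀ v : (Fin 10 → F), Q (Matrix.mulVec k v) = c * Q v) ∧ H = Cfsg.Geo.subalgebraNormalizer K ⊓ Cfsg.Geo.omegaGL Q) ∨
    (∃ (F₀ : Subfield F) (r : ℕ) (P : Matrix.GeneralLinearGroup (Fin 10) F) (ζ : F), r.Prime ∧ Odd r ∧ Fintype.card F = Nat.card F₀ ^ r ∧ ζ ≠ 0 ∧ Cfsg.Geo.IsQuadFormRationalStructure (fun v : Fin 10 → F => ζ * Q v) F₀ P ∧ H = Cfsg.Geo.subfieldSubgroup F₀ P ⊓ Cfsg.Geo.omegaGL Q) ∨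
    Cfsg.Geo.InOrthogonalResidualClass H := by
  classical
  have hHΩ : H ≤ omegaGL Q := hH.1.le
  have hHI : H ≤ isometryGroup F Q := hHΩ.trans (Cfsg.Agent.Lead.AschO.omegaGL_le_isometryGroup Q)
  have hsub : ∀ (W : Submodule F (Fin 10 → F)), W ≠ ⊥ → W ≠ ⊤ → H ≤ subspaceStabilizer W →
      H = subspaceStabilizer W ⊓ omegaGL Q := fun W h0 h1 hle =>
    eq_inf_of_le' hH hle
      (Cfsg.Agent.Helper7.AschOm.not_le_subspaceStabilizer_omega_gen (by norm_num) Q hQ W h0 h1)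
  have hdec : ∀ {t : ℕ} (m : ℕ) (D : Fin t → Submodule F (Fin 10 → F)), IsMDecomposition m D →
      H ≤ decompositionStabilizer D → H = decompositionStabilizer D ⊓ omegaGL Q := fun m D hD hle =>
    eq_inf_of_le' hH hle
      (Cfsg.Agent.Helper7.AschOm.not_le_decompositionStabilizer_omega_gen (by norm_num) Q hQ m D hD)
  have hfld : ∀ (K : Subalgebra F (Matrix (Fin 10) (Fin 10) F)), IsFieldSubalgebra 2 K →
      H ≤ subalgebraNormalizer K → H = subalgebraNormalizer K ⊓ omegaGL Q := fun K hK hle =>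
    eq_inf_of_le' hH hle
      (Cfsg.Agent.Helper8.AschOm.not_le_subalgebraNormalizer_omega_gen (by norm_num) Q hQ 2 (by norm_num) K hK)
  have hdim : ∀ (W : Submodule F (Fin 10 → F)) (k : ℕ), Module.finrank F W = k → 0 < k → k < 10 →
      W ≠ ⊥ ∧ W ≠ ⊤ := by
    intro W k hk h0 h10
    constructor
    · rintro rfl
      rw [finrank_bot] at hk
      omega
    · rintro rfl
      rw [finrank_top, Module.finrank_fin_fun] at hk
      omega
  obtain ⟨v₀, hv₀⟩ := exists_ne_zero_of_nondegenerate (by norm_num) Q hQ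
  have htsne : ∀ W : Submodule F (Fin 10 → F), IsTotallySingularQuad Q W → W ≠ ⊤ := by
    rintro W hts rfl
    exact hv₀ (hts v₀ Submodule.mem_top)
  rcases asch_om10_raw hD5C Q hQ H hHI with ⟨W, h0, hts, hle⟩ | ⟨hq, W, h0, h1, ho, h2, hnd, hle⟩ |
    ⟨W, h2, hnd, hp, hle⟩ | ⟨hq, W, h2, hnd, hp, hle⟩ | ⟨W, h4, hnd, hle⟩ |
    ⟨hq, v, hv, hle⟩ | ⟨⟨p, hpp, hpo, hqp⟩, D, hD, hle⟩ | ⟨hq, D, hD, hp, hle⟩ | ⟨hq, D, hD, hp, hle⟩ |
    ⟨D, hD, hle⟩ | ⟨D, hD, hni, hle⟩ | ⟨hq, K, hK, hsa, hle⟩ | ⟨K, hK, hac, hnsa, hsim, hle⟩ |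
    ⟨D, hD, hts, hle⟩ | ⟨F₀, r, P, ζ, hr, hc, hζ, hrat, hle⟩ | hres
  · exact Or.inl ⟨W, h0, hts, hsub W h0 (htsne W hts) hle⟩
  · exact Or.inr (Or.inl ⟨hq, W, h0, h1, ho, h2, hnd, hsub W h0 h1 hle⟩)
  · obtain ⟨h0, h1⟩ := hdim W 2 h2 (by norm_num) (by norm_num)
    exact Or.inr (Or.inr (Or.inl ⟨W, h2, hnd, hp, hsub W h0 h1 hle⟩))
  · obtain ⟨h0, h1⟩ := hdim W 2 h2 (by norm_num) (by norm_num)
    exact Or.inr (Or.inr (Or.inr (Or.inl ⟨hq, W, h2, hnd, hp, hsub W h0 h1 hle⟩)))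
  · obtain ⟨h0, h1⟩ := hdim W 4 h4 (by norm_num) (by norm_num)
    exact Or.inr (Or.inr (Or.inr (Or.inr (Or.inl ⟨W, h4, hnd, hsub W h0 h1 hle⟩))))
  · have hv0 : v ≠ 0 := by
      rintro rfl
      apply hv
      have := hQ.smul 0 (0 : Fin 10 → F)
      simpa using this
    obtain ⟨h0, h1⟩ := hdim (Submodule.span F {v}) 1 (finrank_span_singleton hv0) (by norm_num) (by norm_num)
    exact Or.inr (Or.inr (Or.inr (Or.inr (Or.inr (Or.inl ⟨hq, v, hv, hsub _ h0 h1 hle⟩)))))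
  · -- ten lines
    have hqo : Odd (Fintype.card F) := hqp ▸ hpo
    have h1 := (plus_top_iff_ten_lines hqo Q hQ D hD).not.1 hminus
    have h3 : Fintype.card F % 4 = 3 := by
      rcases card_mod_four_of_odd hqo with h | h
      · exact absurd h h1
      · exact h
    exact Or.inr (Or.inr (Or.inr (Or.inr (Or.inr (Or.inr (Or.inl
      ⟨⟨p, hpp, hqp, hqp ▸ h3⟩, D, hD, hdec 1 D hD.decomp.decomp hle⟩))))))
  · -- five plus planes: impossible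
    exfalso
    exact hminus ((Cfsg.Agent.Helper8.AschOm3.plus_blocks_iff Q hQ D hD ⟨1, rfl⟩).2 (Or.inr hp))
  · exact Or.inr (Or.inr (Or.inr (Or.inr (Or.inr (Or.inr (Or.inr (Or.inl
      ⟨hq, D, hD, hdec 2 D hD.decomp.decomp hle⟩)))))))
  · -- two isometric 5-spaces
    have hqo := odd_card_of_nondeg_five Q hQ (D 0) (hD.decomp.nondegenerate 0) (hD.decomp.decomp.finrank_eq 0)
    have h1 := (plus_top_iff_of_isometric_odd hqo Q hQ (hD.decomp.nondegenerate 0) (hD.decomp.nondegenerate 1)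
      (hD.decomp.orthogonal 0 1 (by decide)) (sup_eq_top_of_decomp D hD.decomp.decomp)
      (by rw [hD.decomp.decomp.finrank_eq, hD.decomp.decomp.finrank_eq])
      (by rw [hD.decomp.decomp.finrank_eq]; decide) (hD.isometric 0 1)).not.1 hminus
    have h3 : Fintype.card F % 4 = 3 := by
      rcases card_mod_four_of_odd hqo with h | h
      · exact absurd h h1
      · exact h
    exact Or.inr (Or.inr (Or.inr (Or.inr (Or.inr (Or.inr (Or.inr (Or.inr (Or.inl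
      ⟨h3, D, hD, hdec 5 D hD.decomp.decomp hle⟩))))))))
  · -- two non-isometric 5-spaces
    have hqo := odd_card_of_nondeg_five Q hQ (D 0) (hD.nondegenerate 0) (hD.decomp.finrank_eq 0)
    have h3 := (plus_top_iff_of_not_isometric_odd hqo Q hQ (hD.nondegenerate 0) (hD.nondegenerate 1)
      (hD.orthogonal 0 1 (by decide)) (sup_eq_top_of_decomp D hD.decomp)
      (by rw [hD.decomp.finrank_eq, hD.decomp.finrank_eq])
      (by rw [hD.decomp.finrank_eq]; decide) hni).not.1 hminus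
    have h1 : Fintype.card F % 4 = 1 := by
      rcases card_mod_four_of_odd hqo with h | h
      · exact h
      · exact absurd h h3
    exact Or.inr (Or.inr (Or.inr (Or.inr (Or.inr (Or.inr (Or.inr (Or.inr (Or.inr (Or.inl
      ⟨h1, D, hD, hni, hdec 5 D hD.decomp hle⟩)))))))))
  · exact Or.inr (Or.inr (Or.inr (Or.inr (Or.inr (Or.inr (Or.inr (Or.inr (Or.inr (Or.inr (Or.inl
      ⟨hq, K, hK, hsa, hfld K hK hle⟩))))))))))
  · exact Or.inr (Or.inr (Or.inr (Or.inr (Or.inr (Or.inr (Or.inr (Or.inr (Or.inr (Or.inr (Or.inr (Or.inl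
      ⟨K, hK, hac, hnsa, hsim, hfld K hK hle⟩)))))))))))
  · -- a pair of totally singular 5-spaces: impossible in minus type
    exfalso
    refine hminus ⟨D 0, le_top, hts 0, ?_⟩
    rw [hD.finrank_eq, finrank_top, Module.finrank_fin_fun]
  · -- subfield: the degree is odd
    have hro : Odd r := by
      rcases hr.eq_two_or_odd' with rfl | h
      · exact absurd (Cfsg.Agent.Helper8.AschOm.plus_of_subfield_two ⟨5, rfl⟩ Q hQ F₀ hc P ζ hζ hrat) hminus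
      · exact h
    exact Or.inr (Or.inr (Or.inr (Or.inr (Or.inr (Or.inr (Or.inr (Or.inr (Or.inr (Or.inr (Or.inr (Or.inr (Or.inl
      ⟨F₀, r, P, ζ, hr, hro, hc, hζ, hrat, eq_inf_of_le' hH hle
        (Cfsg.Agent.Helper1.AschOm.not_le_subfieldSubgroup_omega_gen (by norm_num) Q hQ F₀
          (subfield_ne_top_of_card F₀ r hr hc) P)⟩))))))))))))
  · exact Or.inr (Or.inr (Or.inr (Or.inr (Or.inr (Or.inr (Or.inr (Or.inr (Or.inr (Or.inr (Or.inr (Or.inr (Or.inr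
      hres))))))))))))

end Cfsg.Agent.Helper8.AschOm10
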