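import Cfsg.Agent.Lead.OrthPlaneC

/-!
# ASCH-OM piece M4b, part A: descent of a quadratic form to a subfield, roots in the quadratic extension

If `ζ Q ∘ P` takes values in the subfield `F₁` on `F₁`-rational vectors it defines a non-degenerate
quadratic form over `F₁`.
-/

set_option autoImplicit false
set_option linter.unusedSectionVars false

namespace Cfsg.Agent.Helper8.AschOm

open Cfsg Cfsg.Geo Module Polynomial Cfsg.Agent.Helper8.QuadForm Cfsg.Agent.Lead.OrthPlane

/-- every quadratic `t² + t + c` over a subfield of index two has a root -/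
theorem exists_root_of_subfield_two {F : Type*} [Field F] [Fintype F] (F₁ : Subfield F)
    (hc : Fintype.card F = Nat.card F₁ ^ 2) (c : F₁) : ∃ t : F, t ^ 2 + t + (c : F) = 0 := by
  classical
  by_cases h : ∃ t : F₁, t ^ 2 + t + c = 0
  · obtain ⟨t, ht⟩ := h
    refine ⟨(t : F), ?_⟩
    have := congrArg (Subtype.val) ht
    simpa using this
  · push Not at h
    let f : Polynomial F₁ := X ^ 2 + X + C c
    have hdeg : f.natDegree = 2 := by
      show (X ^ 2 + X + C c : Polynomial F₁).natDegree = 2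
      compute_degree!
    have hmonic : f.Monic := by
      show (X ^ 2 + X + C c : Polynomial F₁).Monic
      monicity!
    have hirr : Irreducible f := by
      rw [Polynomial.Monic.irreducible_iff_roots_eq_zero_of_degree_le_three hmonic (by omega)
        (by omega)]
      rw [Multiset.eq_zero_iff_forall_notMem]
      intro t ht
      rw [mem_roots hmonic.ne_zero] at ht
      apply h t
      have : f.eval t = 0 := ht
      simpa [f] using this
    have : Fact (Irreducible f) := ⟨hirr⟩
    have hfr1 : Module.finrank F₁ (AdjoinRoot f) = 2 := by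
      rw [← hdeg]
      exact finrank_quotient_span_eq_natDegree
    have hfr2 : Module.finrank F₁ F = 2 := by
      have h1 : Nat.card F = Nat.card F₁ ^ Module.finrank F₁ F := Module.natCard_eq_pow_finrank
      rw [Nat.card_eq_fintype_card, hc] at h1
      have h2 : 2 ≤ Nat.card F₁ := by
        have : Finite F₁ := inferInstance
        exact Finite.one_lt_card
      exact (Nat.pow_right_injective h2 h1).symm
    obtain ⟨φ⟩ := FiniteField.nonempty_algHom_of_finrank_dvd (F := F₁) (K := AdjoinRoot f) (L := F)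
      (by rw [hfr1, hfr2])
    refine ⟨φ (AdjoinRoot.root f), ?_⟩
    have h0 : aeval (AdjoinRoot.root f) f = 0 := AdjoinRoot.aeval_eq f ▸ AdjoinRoot.mk_self
    have h1 : aeval (φ (AdjoinRoot.root f)) f = 0 := by
      rw [aeval_algHom_apply, h0, map_zero]
    simp only [f, map_add, map_pow, aeval_X, aeval_C] at h1
    exact h1

variable {n : ℕ} {F : Type*} [Field F]

/-- the semilinear embedding `u ↦ P u` of `F₁^n` into `F^n` -/
def emb (F₁ : Subfield F) (Pm : GL (Fin n) F) (u : Fin n → F₁) : Fin n → F :=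
  (Pm : Matrix (Fin n) (Fin n) F).mulVec (fun i => (u i : F))

theorem emb_add (F₁ : Subfield F) (Pm : GL (Fin n) F) (u v : Fin n → F₁) :
    emb F₁ Pm (u + v) = emb F₁ Pm u + emb F₁ Pm v := by
  unfold emb
  rw [← Matrix.mulVec_add]
  rfl

theorem emb_smul (F₁ : Subfield F) (Pm : GL (Fin n) F) (a : F₁) (u : Fin n → F₁) :
    emb F₁ Pm (a • u) = (a : F) • emb F₁ Pm u := by
  unfold emb
  rw [← Matrix.mulVec_smul]
  rfl

theorem emb_single (F₁ : Subfield F) (Pm : GL (Fin n) F) (i : Fin n) :
    emb F₁ Pm (Pi.single i 1) = (Pm : Matrix (Fin n) (Fin n) F).mulVec (Pi.single i 1) := by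
  unfold emb
  congr 1
  funext j
  by_cases h : j = i
  · subst h
    simp
  · simp [h]

/-- the form `ζ Q ∘ P` on `F₁^n` -/
noncomputable def descQ (Q : (Fin n → F) → F) (hQ : IsNondegenerateQuadraticForm Q) (F₁ : Subfield F)
    (Pm : GL (Fin n) F) (ζ : F)
    (hrat : IsQuadFormRationalStructure (fun v : Fin n → F => ζ * Q v) F₁ Pm) :
    QuadraticForm F₁ (Fin n → F₁) where
  toFun u := ⟨ζ * Q (emb F₁ Pm u), hrat _ (fun i => (u i).2)⟩
  toFun_smul a u := Subtype.ext (by
    show ζ * Q (emb F₁ Pm (a • u)) = ((a * a : F₁) : F) * (ζ * Q (emb F₁ Pm u))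
    rw [emb_smul, hQ.smul]
    push_cast
    ring)
  exists_companion' := by
    have hmem : ∀ u v : Fin n → F₁,
        ζ * QuadraticMap.polar Q (emb F₁ Pm u) (emb F₁ Pm v) ∈ F₁ := by
      intro u v
      have e : ζ * QuadraticMap.polar Q (emb F₁ Pm u) (emb F₁ Pm v) =
          ζ * Q (emb F₁ Pm (u + v)) - ζ * Q (emb F₁ Pm u) - ζ * Q (emb F₁ Pm v) := by
        unfold QuadraticMap.polar
        rw [emb_add]
        ring
      rw [e]
      exact F₁.sub_mem (F₁.sub_mem (hrat _ (fun i => ((u + v) i).2)) (hrat _ (fun i => (u i).2)))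
        (hrat _ (fun i => (v i).2))
    refine ⟨LinearMap.mk₂ F₁
      (fun u v => ⟨ζ * QuadraticMap.polar Q (emb F₁ Pm u) (emb F₁ Pm v), hmem u v⟩) ?_ ?_ ?_ ?_, ?_⟩
    · intro u u' v
      apply Subtype.ext
      show ζ * QuadraticMap.polar Q (emb F₁ Pm (u + u')) (emb F₁ Pm v) =
        ζ * QuadraticMap.polar Q (emb F₁ Pm u) (emb F₁ Pm v) +
          ζ * QuadraticMap.polar Q (emb F₁ Pm u') (emb F₁ Pm v)
      rw [emb_add, hQ.polar_bilinear.add_left]
      ring
    · intro a u v
      apply Subtype.ext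
      show ζ * QuadraticMap.polar Q (emb F₁ Pm (a • u)) (emb F₁ Pm v) =
        (a : F) * (ζ * QuadraticMap.polar Q (emb F₁ Pm u) (emb F₁ Pm v))
      rw [emb_smul, hQ.polar_bilinear.smul_left]
      ring
    · intro u v v'
      apply Subtype.ext
      show ζ * QuadraticMap.polar Q (emb F₁ Pm u) (emb F₁ Pm (v + v')) =
        ζ * QuadraticMap.polar Q (emb F₁ Pm u) (emb F₁ Pm v) +
          ζ * QuadraticMap.polar Q (emb F₁ Pm u) (emb F₁ Pm v')
      rw [emb_add, hQ.polar_bilinear.add_right]
      ring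
    · intro a u v
      apply Subtype.ext
      show ζ * QuadraticMap.polar Q (emb F₁ Pm u) (emb F₁ Pm (a • v)) =
        (a : F) * (ζ * QuadraticMap.polar Q (emb F₁ Pm u) (emb F₁ Pm v))
      rw [emb_smul, hQ.polar_bilinear.smul_right]
      ring
    · intro u v
      apply Subtype.ext
      show ζ * Q (emb F₁ Pm (u + v)) = ζ * Q (emb F₁ Pm u) + ζ * Q (emb F₁ Pm v) +
        ζ * QuadraticMap.polar Q (emb F₁ Pm u) (emb F₁ Pm v)
      unfold QuadraticMap.polar
      rw [emb_add]
      ring

theorem descQ_apply (Q : (Fin n → F) → F) (hQ : IsNondegenerateQuadraticForm Q) (F₁ : Subfield F)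
    (Pm : GL (Fin n) F) (ζ : F)
    (hrat : IsQuadFormRationalStructure (fun v : Fin n → F => ζ * Q v) F₁ Pm) (u : Fin n → F₁) :
    ((descQ Q hQ F₁ Pm ζ hrat u : F₁) : F) = ζ * Q (emb F₁ Pm u) := rfl

theorem descQ_polar (Q : (Fin n → F) → F) (hQ : IsNondegenerateQuadraticForm Q) (F₁ : Subfield F)
    (Pm : GL (Fin n) F) (ζ : F)
    (hrat : IsQuadFormRationalStructure (fun v : Fin n → F => ζ * Q v) F₁ Pm) (u v : Fin n → F₁) :
    ((QuadraticMap.polar (descQ Q hQ F₁ Pm ζ hrat) u v : F₁) : F) =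
      ζ * QuadraticMap.polar Q (emb F₁ Pm u) (emb F₁ Pm v) := by
  unfold QuadraticMap.polar
  push_cast
  rw [descQ_apply, descQ_apply, descQ_apply, emb_add]
  ring

end Cfsg.Agent.Helper8.AschOm
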