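import Cfsg.Agent.Helper8.AschOmM4bA

/-!
# ASCH-OM piece M4b, part B: a form defined over a subfield of index two is of plus type
-/

set_option autoImplicit false
set_option linter.unusedSectionVars false

namespace Cfsg.Agent.Helper8.AschOm

open Cfsg Cfsg.Geo Module Cfsg.Agent.Helper8.QuadForm Cfsg.Agent.Lead.OrthPlane

section span

variable {F : Type*} [Field F] {V : Type*} [AddCommGroup V] [Module F V]

/-- a quadratic form vanishes on the span of pairwise orthogonal singular vectors -/
theorem ts_span (Qb : QuadraticForm F V) {κ : Type*} (b : κ → V) (h1 : ∀ i, Qb (b i) = 0)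
    (h2 : ∀ i j, QuadraticMap.polar Qb (b i) (b j) = 0) :
    ∀ v ∈ Submodule.span F (Set.range b), Qb v = 0 := by
  have ha : ∀ v ∈ Submodule.span F (Set.range b), ∀ j, QuadraticMap.polar Qb v (b j) = 0 := by
    intro v hv j
    induction hv using Submodule.span_induction with
    | mem x hx =>
      obtain ⟨i, rfl⟩ := hx
      exact h2 i j
    | zero => exact QuadraticMap.polar_zero_left _ _
    | add x y _ _ hx hy => rw [QuadraticMap.polar_add_left, hx, hy, add_zero]
    | smul a x _ hx => rw [QuadraticMap.polar_smul_left, hx, smul_zero]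
  have hb : ∀ v ∈ Submodule.span F (Set.range b), ∀ w ∈ Submodule.span F (Set.range b),
      QuadraticMap.polar Qb v w = 0 := by
    intro v hv w hw
    induction hw using Submodule.span_induction with
    | mem x hx =>
      obtain ⟨j, rfl⟩ := hx
      exact ha v hv j
    | zero => exact QuadraticMap.polar_zero_right _ _
    | add x y _ _ hx hy => rw [QuadraticMap.polar_add_right, hx, hy, add_zero]
    | smul a x _ hx => rw [QuadraticMap.polar_smul_right, hx, smul_zero]
  intro v hv
  induction hv using Submodule.span_induction with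
  | mem x hx =>
    obtain ⟨i, rfl⟩ := hx
    exact h1 i
  | zero => exact map_zero _
  | add x y hx' hy' hx hy =>
    have := hb x hx' y hy'
    unfold QuadraticMap.polar at this
    rw [hx, hy] at this
    linear_combination this
  | smul a x _ hx => rw [QuadraticMap.map_smul, hx, smul_zero]

end span

variable {n : ℕ} {F : Type*} [Field F] [Fintype F]

theorem emb_eq_zero (F₁ : Subfield F) (Pm : GL (Fin n) F) {u : Fin n → F₁} (h : emb F₁ Pm u = 0) :
    u = 0 := by
  unfold emb at h
  have h1 := congrArg (fun w => ((Pm⁻¹ : GL (Fin n) F) : Matrix (Fin n) (Fin n) F).mulVec w) h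
  simp only [Matrix.mulVec_mulVec, Matrix.mulVec_zero] at h1
  rw [← Units.val_mul, inv_mul_cancel, Units.val_one, Matrix.one_mulVec] at h1
  funext i
  have := congrFun h1 i
  exact Subtype.ext this

theorem descQ_nondeg (Q : (Fin n → F) → F) (hQ : IsNondegenerateQuadraticForm Q) (F₁ : Subfield F)
    (Pm : GL (Fin n) F) (ζ : F) (hζ : ζ ≠ 0)
    (hrat : IsQuadFormRationalStructure (fun v : Fin n → F => ζ * Q v) F₁ Pm) :
    Nondeg (descQ Q hQ F₁ Pm ζ hrat) := by
  classical
  intro u hu
  apply emb_eq_zero F₁ Pm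
  by_contra hne
  obtain ⟨x, hx⟩ := (hQ.nondegenerate _ hne).2
  apply hx
  set Qb := bundle Q hQ with hQb
  have hpol : ∀ a b, QuadraticMap.polar Qb a b = QuadraticMap.polar Q a b := fun a b => rfl
  let L : (Fin n → F) →ₗ[F] F :=
    (QuadraticMap.polarBilin Qb (emb F₁ Pm u)).comp (Matrix.toLin' (Pm : Matrix (Fin n) (Fin n) F))
  have hL0 : L = 0 := by
    apply (Pi.basisFun F (Fin n)).ext
    intro i
    rw [Pi.basisFun_apply]
    show QuadraticMap.polar Qb (emb F₁ Pm u)
      (Matrix.toLin' (Pm : Matrix (Fin n) (Fin n) F) (Pi.single i 1)) = 0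
    rw [Matrix.toLin'_apply, ← emb_single F₁ Pm i, hpol]
    have h1 := hu (Pi.single i 1)
    have h2 := descQ_polar Q hQ F₁ Pm ζ hrat u (Pi.single i 1)
    rw [h1] at h2
    have h3 : ζ * QuadraticMap.polar Q (emb F₁ Pm u) (emb F₁ Pm (Pi.single i 1)) = 0 := by
      rw [← h2]
      rfl
    exact (mul_eq_zero.mp h3).resolve_left hζ
  have e : x = (Pm : Matrix (Fin n) (Fin n) F).mulVec
      (((Pm⁻¹ : GL (Fin n) F) : Matrix (Fin n) (Fin n) F).mulVec x) := by
    rw [Matrix.mulVec_mulVec, ← Units.val_mul, mul_inv_cancel, Units.val_one, Matrix.one_mulVec]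
  have h4 : L (((Pm⁻¹ : GL (Fin n) F) : Matrix (Fin n) (Fin n) F).mulVec x) = 0 := by
    rw [hL0]
    rfl
  have h5 : L (((Pm⁻¹ : GL (Fin n) F) : Matrix (Fin n) (Fin n) F).mulVec x) =
      QuadraticMap.polar Q (emb F₁ Pm u) x := by
    show QuadraticMap.polar Qb (emb F₁ Pm u) (Matrix.toLin' (Pm : Matrix (Fin n) (Fin n) F)
      (((Pm⁻¹ : GL (Fin n) F) : Matrix (Fin n) (Fin n) F).mulVec x)) = _
    rw [Matrix.toLin'_apply, ← e, hpol]
  rw [← h5, h4]

end Cfsg.Agent.Helper8.AschOm
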