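import Cfsg.Agent.Helper8.SpEvenG

/-!
# ASCH-COMP-Sp, second round: a skew-adjoint operator with scalar square (`q` odd)

Let `f` be a symplectic form on `F^ι`, `q` odd, `Θ` a matrix with `Θ² = δ ≠ 0`, `f (Θ u) v = - f u (Θ v)`
and `h Θ = ± Θ h` for all `h` in a group `H`. If `δ` is a square the two eigenspaces of `Θ` are a pair of
complementary totally isotropic subspaces permuted by `H`; otherwise `F[Θ]` is a field of degree `2`,
closed under adjoints but not self-adjoint, normalised by `H`.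
-/

set_option autoImplicit false
set_option linter.unusedSectionVars false

namespace Cfsg.Agent.Helper8.AschSp

open Cfsg Cfsg.Geo Matrix Cfsg.Agent.Helper8.SpEven

variable {ι : Type} [Fintype ι] [DecidableEq ι] {F : Type*} [Field F]

theorem two_ne_zero_of_odd_card [Fintype F] (ho : Odd (Fintype.card F)) : (2 : F) ≠ 0 := by
  intro h2
  have h : ((2 : ℕ) : F) = 0 := by exact_mod_cast h2
  have hc : ringChar F = 2 := CharP.ringChar_of_prime_eq_zero Nat.prime_two h
  have := FiniteField.even_card_iff_char_two.mp hc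
  rcases ho with ⟨k, hk⟩
  omega

/-- the eigenspace of the matrix `Θ` for the eigenvalue `a` -/
def eig (Θ : Matrix ι ι F) (a : F) : Submodule F (ι → F) where
  carrier := {v | Θ *ᵥ v = a • v}
  add_mem' := by
    intro u v hu hv
    have hu' : Θ *ᵥ u = a • u := hu
    have hv' : Θ *ᵥ v = a • v := hv
    show Θ *ᵥ (u + v) = a • (u + v)
    rw [Matrix.mulVec_add, hu', hv', smul_add]
  zero_mem' := by
    show Θ *ᵥ 0 = a • (0 : ι → F)
    rw [Matrix.mulVec_zero, smul_zero]
  smul_mem' := by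
    intro c v hv
    have hv' : Θ *ᵥ v = a • v := hv
    show Θ *ᵥ (c • v) = a • (c • v)
    rw [Matrix.mulVec_smul, hv', smul_comm]

theorem mem_eig {Θ : Matrix ι ι F} {a : F} {v : ι → F} : v ∈ eig Θ a ↔ Θ *ᵥ v = a • v := Iff.rfl

/-- a totally isotropic subspace of a symplectic space has at most half the dimension -/
theorem two_mul_finrank_le_of_totallySingular {f : (ι → F) → (ι → F) → F} (hf : IsSymplecticForm f)
    {W : Submodule F (ι → F)} (hW : IsTotallySingularFor f W) :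
    2 * Module.finrank F W ≤ Fintype.card ι := by
  have hdim := LinearMap.BilinForm.finrank_orthogonal (toBilin_nondegenerate hf) W
  rw [Module.finrank_fintype_fun_eq_card] at hdim
  have hle : W ≤ (toBilin hf.bilinear).orthogonal W := by
    intro w hw
    rw [LinearMap.BilinForm.mem_orthogonal_iff]
    intro w' hw'
    exact hW w' hw' w hw
  have h1 := Submodule.finrank_mono hle
  have h2 : Module.finrank F W ≤ Fintype.card ι := by
    have := Submodule.finrank_le W
    rwa [Module.finrank_fintype_fun_eq_card] at this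
  omega

/-- the image of an eigenspace under a matrix that commutes with `Θ` up to the sign `ε` -/
theorem map_eig_le {Θ : Matrix ι ι F} {h : Matrix ι ι F} {ε : F}
    (hc : ∀ v, h *ᵥ (Θ *ᵥ v) = ε • (Θ *ᵥ (h *ᵥ v))) (hε : ε * ε = 1) (a : F) :
    (eig Θ a).map (Matrix.toLin' h) ≤ eig Θ (ε * a) := by
  rintro _ ⟨v, hv, rfl⟩
  have hv' : Θ *ᵥ v = a • v := hv
  rw [Matrix.toLin'_apply, mem_eig]
  have := hc v
  rw [hv', Matrix.mulVec_smul] at this
  calc Θ *ᵥ (h *ᵥ v) = (ε * ε) • (Θ *ᵥ (h *ᵥ v)) := by rw [hε, one_smul]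
    _ = ε • (ε • (Θ *ᵥ (h *ᵥ v))) := by rw [mul_smul]
    _ = ε • (a • (h *ᵥ v)) := by rw [← this]
    _ = (ε * a) • (h *ᵥ v) := by rw [mul_smul]

theorem map_eig_eq {Θ : Matrix ι ι F} {h : GL ι F} {ε : F}
    (hc : ∀ v, (h : Matrix ι ι F) *ᵥ (Θ *ᵥ v) = ε • (Θ *ᵥ ((h : Matrix ι ι F) *ᵥ v)))
    (hε : ε * ε = 1) (a : F) :
    (eig Θ a).map (Matrix.toLin' (h : Matrix ι ι F)) = eig Θ (ε * a) := by
  apply le_antisymm (map_eig_le hc hε a)
  intro w hw
  -- the inverse satisfies the same relation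
  have hinv : ∀ v, ((h⁻¹ : GL ι F) : Matrix ι ι F) *ᵥ (Θ *ᵥ v) =
      ε • (Θ *ᵥ (((h⁻¹ : GL ι F) : Matrix ι ι F) *ᵥ v)) := by
    intro v
    have e1 : v = (h : Matrix ι ι F) *ᵥ (((h⁻¹ : GL ι F) : Matrix ι ι F) *ᵥ v) := by
      rw [Matrix.mulVec_mulVec, ← Units.val_mul, mul_inv_cancel, Units.val_one, Matrix.one_mulVec]
    have e2 := hc (((h⁻¹ : GL ι F) : Matrix ι ι F) *ᵥ v)
    rw [← e1] at e2
    -- e2 : h (Θ (h⁻¹ v)) = ε • Θ v
    have hcancel : ∀ x : ι → F, ((h⁻¹ : GL ι F) : Matrix ι ι F) *ᵥ ((h : Matrix ι ι F) *ᵥ x) = x := by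
      intro x
      rw [Matrix.mulVec_mulVec, ← Units.val_mul, inv_mul_cancel, Units.val_one, Matrix.one_mulVec]
    have e3 : ((h⁻¹ : GL ι F) : Matrix ι ι F) *ᵥ ((h : Matrix ι ι F) *ᵥ
        (Θ *ᵥ (((h⁻¹ : GL ι F) : Matrix ι ι F) *ᵥ v))) =
        ((h⁻¹ : GL ι F) : Matrix ι ι F) *ᵥ (ε • (Θ *ᵥ v)) := by rw [e2]
    rw [hcancel, Matrix.mulVec_smul] at e3
    -- e3 : Θ (h⁻¹ v) = ε • h⁻¹ (Θ v)
    rw [e3, smul_smul, hε, one_smul]
  have hw' := map_eig_le hinv hε (ε * a) ⟨w, hw, rfl⟩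
  rw [← mul_assoc, hε, one_mul] at hw'
  refine ⟨_, hw', ?_⟩
  rw [Matrix.toLin'_apply, Matrix.toLin'_apply, Matrix.mulVec_mulVec, ← Units.val_mul,
    mul_inv_cancel, Units.val_one, Matrix.one_mulVec]

/-- **the square case**: the two eigenspaces of `Θ` form a pair of complementary totally isotropic
subspaces permuted by `H` -/
theorem exists_isotropic_pair_of_sq [Fintype F] (ho : Odd (Fintype.card F))
    {f : (ι → F) → (ι → F) → F} (hf : IsSymplecticForm f) [Nonempty ι] {H : Subgroup (GL ι F)}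
    {Θ : Matrix ι ι F} {s : F} (hs : s ≠ 0) (hsq : ∀ v, Θ *ᵥ (Θ *ᵥ v) = (s * s) • v)
    (hskew : ∀ u v, f (Θ *ᵥ u) v = - f u (Θ *ᵥ v))
    (hH : ∀ h ∈ H, ∃ ε : F, ε * ε = 1 ∧
      ∀ v, (h : Matrix ι ι F) *ᵥ (Θ *ᵥ v) = ε • (Θ *ᵥ ((h : Matrix ι ι F) *ᵥ v))) :
    ∃ D : Fin 2 → Submodule F (ι → F), IsMDecomposition (Fintype.card ι / 2) D ∧
      (∀ i, IsTotallySingularFor f (D i)) ∧ H ≤ decompositionStabilizer D := by
  classical
  have h2 := two_ne_zero_of_odd_card ho
  have hts : ∀ a : F, a ≠ 0 → IsTotallySingularFor f (eig Θ a) := by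
    intro a ha u hu v hv
    have hu' : Θ *ᵥ u = a • u := hu
    have hv' : Θ *ᵥ v = a • v := hv
    have := hskew u v
    rw [hu', hv', hf.bilinear.smul_left, hf.bilinear.smul_right] at this
    have h3 : (2 * a) * f u v = 0 := by linear_combination this
    exact (mul_eq_zero.mp h3).resolve_left (mul_ne_zero h2 ha)
  have hdisj : eig Θ s ⊓ eig Θ (-s) = ⊥ := by
    rw [eq_bot_iff]
    rintro v ⟨h1, h1'⟩
    have e1 : Θ *ᵥ v = s • v := h1
    have e2 : Θ *ᵥ v = (-s) • v := h1'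
    rw [Submodule.mem_bot]
    have e3 : (2 * s) • v = 0 := by
      have e4 : s • v = (-s) • v := e1.symm.trans e2
      have e5 : (2 * s) • v = s • v - (-s) • v := by
        rw [neg_smul, sub_neg_eq_add, two_mul, add_smul]
      rw [e5, ← e4, sub_self]
    exact (smul_eq_zero.mp e3).resolve_left (mul_ne_zero h2 hs)
  have hsup : eig Θ s ⊔ eig Θ (-s) = ⊤ := by
    rw [eq_top_iff]
    intro v _
    have e1 : Θ *ᵥ v + s • v ∈ eig Θ s := by
      rw [mem_eig, Matrix.mulVec_add, hsq, Matrix.mulVec_smul, smul_add, mul_smul]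
      abel
    have e2 : Θ *ᵥ v - s • v ∈ eig Θ (-s) := by
      rw [mem_eig, Matrix.mulVec_sub, hsq, Matrix.mulVec_smul, smul_sub, mul_smul, neg_smul, neg_smul]
      abel
    have e3 : v = (2 * s)⁻¹ • (Θ *ᵥ v + s • v) + (-(2 * s)⁻¹) • (Θ *ᵥ v - s • v) := by
      have : (2 * s)⁻¹ • (Θ *ᵥ v + s • v) + (-(2 * s)⁻¹) • (Θ *ᵥ v - s • v) =
          ((2 * s)⁻¹ * (2 * s)) • v := by
        module
      rw [this, inv_mul_cancel₀ (mul_ne_zero h2 hs), one_smul]
    rw [e3]
    exact Submodule.add_mem _ (Submodule.mem_sup_left (Submodule.smul_mem _ _ e1))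
      (Submodule.mem_sup_right (Submodule.smul_mem _ _ e2))
  have hcompl : IsCompl (eig Θ s) (eig Θ (-s)) :=
    ⟨disjoint_iff.mpr hdisj, codisjoint_iff.mpr hsup⟩
  have hdim := Submodule.finrank_add_eq_of_isCompl hcompl
  rw [Module.finrank_fintype_fun_eq_card] at hdim
  have hd1 := two_mul_finrank_le_of_totallySingular hf (hts s hs)
  have hd2 := two_mul_finrank_le_of_totallySingular hf (hts (-s) (neg_ne_zero.mpr hs))
  have hpos : 0 < Fintype.card ι := Fintype.card_pos
  refine ⟨![eig Θ s, eig Θ (-s)], ?_, ?_, ?_⟩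
  · refine ⟨le_refl 2, by omega, fun i => ?_, ?_, ?_⟩
    · fin_cases i
      · show Module.finrank F (eig Θ s) = _
        omega
      · show Module.finrank F (eig Θ (-s)) = _
        omega
    · rw [iSupIndep_pair (by decide : (0 : Fin 2) ≠ 1) (by intro k; fin_cases k <;> simp)]
      simpa using disjoint_iff.mpr hdisj
    · rw [← hsup]
      apply le_antisymm
      · apply iSup_le
        intro i
        fin_cases i
        · exact le_sup_left
        · exact le_sup_right
      · apply sup_le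
        · exact le_iSup (![eig Θ s, eig Θ (-s)] : Fin 2 → Submodule F (ι → F)) 0
        · exact le_iSup (![eig Θ s, eig Θ (-s)] : Fin 2 → Submodule F (ι → F)) 1
  · intro i
    fin_cases i
    · exact hts s hs
    · exact hts (-s) (neg_ne_zero.mpr hs)
  · intro h hh
    obtain ⟨ε, hε, hc⟩ := hH h hh
    have hε' : ε = 1 ∨ ε = -1 := by
      have : (ε - 1) * (ε + 1) = 0 := by linear_combination hε
      rcases mul_eq_zero.mp this with h1 | h1
      · exact Or.inl (sub_eq_zero.mp h1)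
      · exact Or.inr (eq_neg_of_add_eq_zero_left h1)
    rcases hε' with rfl | rfl
    · refine ⟨1, fun i => ?_⟩
      fin_cases i
      · show (eig Θ s).map _ = eig Θ s
        rw [map_eig_eq hc hε, one_mul]
      · show (eig Θ (-s)).map _ = eig Θ (-s)
        rw [map_eig_eq hc hε, one_mul]
    · refine ⟨Equiv.swap 0 1, fun i => ?_⟩
      fin_cases i
      · show (eig Θ s).map _ = eig Θ (-s)
        rw [map_eig_eq hc hε, neg_one_mul]
      · show (eig Θ (-s)).map _ = eig Θ s
        rw [map_eig_eq hc hε, neg_one_mul, neg_neg]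

/-- the subalgebra `F + F Θ` when `Θ² = δ` -/
def quadAlg (Θ : Matrix ι ι F) (δ : F) (hΘ : Θ * Θ = δ • (1 : Matrix ι ι F)) :
    Subalgebra F (Matrix ι ι F) where
  carrier := {k | ∃ a b : F, k = a • (1 : Matrix ι ι F) + b • Θ}
  mul_mem' := by
    rintro _ _ ⟨a, b, rfl⟩ ⟨a', b', rfl⟩
    refine ⟨a * a' + b * b' * δ, a * b' + b * a', ?_⟩
    rw [add_mul, mul_add, mul_add]
    simp only [smul_mul_assoc, mul_smul_comm, Matrix.one_mul, Matrix.mul_one, hΘ, smul_smul]
    module
  one_mem' := ⟨1, 0, by rw [one_smul, zero_smul, add_zero]⟩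
  add_mem' := by
    rintro _ _ ⟨a, b, rfl⟩ ⟨a', b', rfl⟩
    exact ⟨a + a', b + b', by module⟩
  zero_mem' := ⟨0, 0, by rw [zero_smul, zero_smul, add_zero]⟩
  algebraMap_mem' := fun r => ⟨r, 0, by rw [Algebra.algebraMap_eq_smul_one, zero_smul, add_zero]⟩

theorem mem_quadAlg {Θ : Matrix ι ι F} {δ : F} {hΘ : Θ * Θ = δ • (1 : Matrix ι ι F)}
    {k : Matrix ι ι F} : k ∈ quadAlg Θ δ hΘ ↔ ∃ a b : F, k = a • (1 : Matrix ι ι F) + b • Θ :=
  Iff.rfl

/-- **the non-square case**: `F[Θ]` is a field of degree `2`, closed under adjoints, not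
self-adjoint, normalised by `H` -/
theorem exists_field_of_not_sq [Fintype F] (ho : Odd (Fintype.card F))
    {f : (ι → F) → (ι → F) → F} (hf : IsSymplecticForm f) [Nonempty ι] {H : Subgroup (GL ι F)}
    {Θ : Matrix ι ι F} {δ : F} (hδ : δ ≠ 0) (hns : ∀ s : F, s * s ≠ δ)
    (hsq : ∀ v, Θ *ᵥ (Θ *ᵥ v) = δ • v)
    (hskew : ∀ u v, f (Θ *ᵥ u) v = - f u (Θ *ᵥ v))
    (hH : ∀ h ∈ H, ∃ ε : F, ε * ε = 1 ∧
      ∀ v, (h : Matrix ι ι F) *ᵥ (Θ *ᵥ v) = ε • (Θ *ᵥ ((h : Matrix ι ι F) *ᵥ v))) :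
    ∃ K : Subalgebra F (Matrix ι ι F), IsFieldSubalgebra 2 K ∧ IsAdjointClosedFor f K ∧
      ¬ IsSelfAdjointFor f K ∧ H ≤ subalgebraNormalizer K := by
  classical
  have h2 := two_ne_zero_of_odd_card ho
  have hΘ : Θ * Θ = δ • (1 : Matrix ι ι F) := by
    apply Matrix.mulVec_injective
    funext v
    rw [← Matrix.mulVec_mulVec, hsq, Matrix.smul_mulVec, Matrix.one_mulVec]
  -- `Θ` is not a scalar
  have hnsc : ∀ a b : F, a • (1 : Matrix ι ι F) + b • Θ = 0 → a = 0 ∧ b = 0 := by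
    intro a b hab
    have hb : b = 0 := by
      by_contra hb
      -- then `Θ = c • 1`
      have hΘc : Θ = (-(a / b)) • (1 : Matrix ι ι F) := by
        have : b • Θ = (-a) • (1 : Matrix ι ι F) := by
          rw [neg_smul]
          exact eq_neg_of_add_eq_zero_right hab
        calc Θ = b⁻¹ • (b • Θ) := by rw [smul_smul, inv_mul_cancel₀ hb, one_smul]
          _ = (-(a / b)) • (1 : Matrix ι ι F) := by
            rw [this, smul_smul]
            congr 1
            field_simp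
      set c : F := -(a / b) with hc
      have hcv : ∀ v : ι → F, Θ *ᵥ v = c • v := by
        intro v
        rw [hΘc, Matrix.smul_mulVec, Matrix.one_mulVec]
      -- `c * c = δ`
      obtain ⟨i⟩ := ‹Nonempty ι›
      have := hsq (Pi.single i 1)
      rw [hcv, hcv, smul_smul] at this
      have h1 := congrFun this i
      simp only [Pi.smul_apply, Pi.single_eq_same, smul_eq_mul, mul_one] at h1
      exact hns c h1
    subst hb
    rw [zero_smul, add_zero] at hab
    refine ⟨?_, rfl⟩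
    obtain ⟨i⟩ := ‹Nonempty ι›
    have := congrFun (congrFun hab i) i
    simpa using this
  refine ⟨quadAlg Θ δ hΘ, ⟨?_, ?_, ?_⟩, ?_, ?_, ?_⟩
  · -- commutative
    rintro _ ⟨a, b, rfl⟩ _ ⟨a', b', rfl⟩
    rw [add_mul, mul_add, mul_add, add_mul, mul_add, mul_add]
    simp only [smul_mul_assoc, mul_smul_comm, Matrix.one_mul, Matrix.mul_one, hΘ, smul_smul]
    module
  · -- inverses
    rintro _ ⟨a, b, rfl⟩ hne
    have hN : a * a - b * b * δ ≠ 0 := by
      intro h0
      by_cases hb : b = 0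
      · subst hb
        have ha : a = 0 := by
          have : a * a = 0 := by linear_combination h0
          exact mul_self_eq_zero.mp this
        subst ha
        exact hne (by rw [zero_smul, zero_smul, add_zero])
      · apply hns (a / b)
        field_simp
        linear_combination h0
    refine ⟨(a * a - b * b * δ)⁻¹ • (a • (1 : Matrix ι ι F) + (-b) • Θ),
      ⟨(a * a - b * b * δ)⁻¹ * a, (a * a - b * b * δ)⁻¹ * (-b), by
        rw [smul_add, smul_smul, smul_smul]⟩, ?_⟩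
    have hprod : (a • (1 : Matrix ι ι F) + b • Θ) * (a • (1 : Matrix ι ι F) + (-b) • Θ) =
        (a * a - b * b * δ) • (1 : Matrix ι ι F) := by
      rw [add_mul, mul_add, mul_add]
      simp only [smul_mul_assoc, mul_smul_comm, Matrix.one_mul, Matrix.mul_one, hΘ, smul_smul]
      module
    rw [mul_smul_comm, hprod, smul_smul, inv_mul_cancel₀ hN, one_smul]
  · -- dimension two
    let φ : (Fin 2 → F) →ₗ[F] quadAlg Θ δ hΘ :=
      { toFun := fun c => ⟨c 0 • (1 : Matrix ι ι F) + c 1 • Θ, c 0, c 1, rfl⟩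
        map_add' := fun c c' => Subtype.ext (by
          show (c + c') 0 • (1 : Matrix ι ι F) + (c + c') 1 • Θ =
            (c 0 • (1 : Matrix ι ι F) + c 1 • Θ) + (c' 0 • (1 : Matrix ι ι F) + c' 1 • Θ)
          rw [Pi.add_apply, Pi.add_apply]
          module)
        map_smul' := fun r c => Subtype.ext (by
          show (r • c) 0 • (1 : Matrix ι ι F) + (r • c) 1 • Θ =
            r • (c 0 • (1 : Matrix ι ι F) + c 1 • Θ)
          rw [Pi.smul_apply, Pi.smul_apply, smul_eq_mul, smul_eq_mul]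
          module) }
    have hbij : Function.Bijective φ := by
      constructor
      · rw [← LinearMap.ker_eq_bot, LinearMap.ker_eq_bot']
        intro c hc
        have hc' : c 0 • (1 : Matrix ι ι F) + c 1 • Θ = 0 := congrArg Subtype.val hc
        obtain ⟨h0, h1⟩ := hnsc _ _ hc'
        funext i
        fin_cases i
        · exact h0
        · exact h1
      · rintro ⟨_, a, b, rfl⟩
        exact ⟨![a, b], Subtype.ext (by simp [φ])⟩
    have := (LinearEquiv.ofBijective φ hbij).finrank_eq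
    rw [Module.finrank_fin_fun] at this
    exact this.symm
  · -- adjoint closed
    rintro _ ⟨a, b, rfl⟩
    refine ⟨a • (1 : Matrix ι ι F) + (-b) • Θ, ⟨a, -b, rfl⟩, fun u v => ?_⟩
    rw [Matrix.add_mulVec, Matrix.add_mulVec, Matrix.smul_mulVec, Matrix.smul_mulVec,
      Matrix.smul_mulVec, Matrix.smul_mulVec, Matrix.one_mulVec, Matrix.one_mulVec,
      hf.bilinear.add_left, hf.bilinear.add_right, hf.bilinear.smul_left, hf.bilinear.smul_left,
      hf.bilinear.smul_right, hf.bilinear.smul_right, hskew]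
    ring
  · -- not self-adjoint
    intro hsa
    have hΘK : Θ ∈ quadAlg Θ δ hΘ := ⟨0, 1, by rw [zero_smul, one_smul, zero_add]⟩
    have h0 : ∀ u v, f u (Θ *ᵥ v) = 0 := by
      intro u v
      have e1 := hsa Θ hΘK u v
      rw [hskew] at e1
      have : 2 * f u (Θ *ᵥ v) = 0 := by linear_combination -e1
      exact (mul_eq_zero.mp this).resolve_left h2
    obtain ⟨i⟩ := ‹Nonempty ι›
    have hv : Θ *ᵥ (Θ *ᵥ (Pi.single i 1 : ι → F)) ≠ 0 := by
      rw [hsq]
      intro h
      have := congrFun h i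
      simp only [Pi.smul_apply, Pi.single_eq_same, smul_eq_mul, mul_one, Pi.zero_apply] at this
      exact hδ this
    obtain ⟨x, hx⟩ := (hf.nondegenerate _ hv).1
    exact hx (h0 x _)
  · -- normalised by `H`
    have key : ∀ h ∈ H, ∀ k ∈ quadAlg Θ δ hΘ,
        (h : Matrix ι ι F) * k * ((h⁻¹ : GL ι F) : Matrix ι ι F) ∈ quadAlg Θ δ hΘ := by
      rintro h hh _ ⟨a, b, rfl⟩
      obtain ⟨ε, hε, hc⟩ := hH h hh
      have hcm : (h : Matrix ι ι F) * Θ = ε • (Θ * (h : Matrix ι ι F)) := by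
        apply Matrix.mulVec_injective
        funext v
        rw [← Matrix.mulVec_mulVec, hc, Matrix.smul_mulVec, Matrix.mulVec_mulVec]
      refine ⟨a, b * ε, ?_⟩
      have hhi : (h : Matrix ι ι F) * ((h⁻¹ : GL ι F) : Matrix ι ι F) = 1 := by
        rw [← Units.val_mul, mul_inv_cancel, Units.val_one]
      rw [mul_add, add_mul, mul_smul_comm, mul_smul_comm, smul_mul_assoc, smul_mul_assoc,
        Matrix.mul_one, hhi, hcm, smul_mul_assoc, Matrix.mul_assoc, hhi, Matrix.mul_one, smul_smul]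
    intro h hh k
    constructor
    · exact key h hh k
    · intro hk
      have := key h⁻¹ (H.inv_mem hh) _ hk
      rw [inv_inv] at this
      have e : ((h⁻¹ : GL ι F) : Matrix ι ι F) * ((h : Matrix ι ι F) * k *
          ((h⁻¹ : GL ι F) : Matrix ι ι F)) * (h : Matrix ι ι F) = k := by
        have hih : ((h⁻¹ : GL ι F) : Matrix ι ι F) * (h : Matrix ι ι F) = 1 := by
          rw [← Units.val_mul, inv_mul_cancel, Units.val_one]
        rw [Matrix.mul_assoc, Matrix.mul_assoc, hih, Matrix.mul_one, ← Matrix.mul_assoc, hih,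
          Matrix.one_mul]
      rwa [e] at this

/-- **a skew-adjoint operator with non-zero scalar square, `q` odd**: either a pair of complementary
totally isotropic subspaces or a non-self-adjoint field of degree `2` -/
theorem skew_sq_exit [Fintype F] (ho : Odd (Fintype.card F))
    {f : (ι → F) → (ι → F) → F} (hf : IsSymplecticForm f) [Nonempty ι] {H : Subgroup (GL ι F)}
    {Θ : Matrix ι ι F} {δ : F} (hδ : δ ≠ 0) (hsq : ∀ v, Θ *ᵥ (Θ *ᵥ v) = δ • v)
    (hskew : ∀ u v, f (Θ *ᵥ u) v = - f u (Θ *ᵥ v))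
    (hH : ∀ h ∈ H, ∃ ε : F, ε * ε = 1 ∧
      ∀ v, (h : Matrix ι ι F) *ᵥ (Θ *ᵥ v) = ε • (Θ *ᵥ ((h : Matrix ι ι F) *ᵥ v))) :
    (∃ D : Fin 2 → Submodule F (ι → F), IsMDecomposition (Fintype.card ι / 2) D ∧
      (∀ i, IsTotallySingularFor f (D i)) ∧ H ≤ decompositionStabilizer D) ∨
    (∃ K : Subalgebra F (Matrix ι ι F), IsFieldSubalgebra 2 K ∧ IsAdjointClosedFor f K ∧
      ¬ IsSelfAdjointFor f K ∧ H ≤ subalgebraNormalizer K) := by
  by_cases hs : ∃ s : F, s * s = δ
  · obtain ⟨s, rfl⟩ := hs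
    have hs0 : s ≠ 0 := by
      rintro rfl
      exact hδ (mul_zero 0)
    exact Or.inl (exists_isotropic_pair_of_sq ho hf hs0 hsq hskew hH)
  · push Not at hs
    exact Or.inr (exists_field_of_not_sq ho hf hδ hs hsq hskew hH)

end Cfsg.Agent.Helper8.AschSp
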