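import Mathlib
import Cfsg.Agent.Helper8.OrRSimOdd
import Cfsg.Agent.Helper8.AutSLnT
import Cfsg.Agent.Helper8.AutSLnW
import Cfsg.Prelude.Def_GeometricClasses

set_option autoImplicit false
set_option linter.unusedSectionVars false

/-!
# Automorphisms of orthogonal groups, part ze: descent of quadratic forms to a subfield and
Hilbert's Theorem 90 for the similarity group of a quadratic form in odd dimension
-/

namespace Cfsg.Agent.Helper8.AutO

open Module Matrix Cfsg.Agent.Helper8.QuadForm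
open Cfsg.Agent.Helper8.AutSLn (gls nrmGL nrmF unitsAut fixField)

section Descent

variable {F : Type*} [Field F] (F₀ : Subfield F) {ι : Type*} [Fintype ι] [DecidableEq ι]

/-- the inclusion of the vectors over a subfield. -/
def cvec (v : ι → ↥F₀) : ι → F := fun i => (v i : F)

theorem cvec_add (v w : ι → ↥F₀) : cvec F₀ (v + w) = cvec F₀ v + cvec F₀ w := rfl

theorem cvec_smul (a : ↥F₀) (v : ι → ↥F₀) : cvec F₀ (a • v) = (a : F) • cvec F₀ v := rfl

theorem cvec_zero : cvec F₀ (0 : ι → ↥F₀) = 0 := rfl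

theorem cvec_injective : Function.Injective (cvec F₀ (ι := ι)) := by
  intro v w h
  funext i
  exact Subtype.ext (congrFun h i)

theorem cvec_single (i : ι) : cvec F₀ (Pi.single i (1 : ↥F₀)) = Pi.single i (1 : F) := by
  funext j
  unfold cvec
  by_cases h : j = i
  · subst h
    rw [Pi.single_eq_same, Pi.single_eq_same]
    rfl
  · rw [Pi.single_eq_of_ne h, Pi.single_eq_of_ne h]
    rfl

/-- a quadratic form whose values on the vectors over a subfield lie in that subfield descends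
to the subfield. -/
noncomputable def descendQ (Q : QuadraticForm F (ι → F))
    (h : ∀ v : ι → ↥F₀, Q (cvec F₀ v) ∈ F₀) : QuadraticForm ↥F₀ (ι → ↥F₀) :=
  QuadraticMap.ofPolar (fun v => (⟨Q (cvec F₀ v), h v⟩ : ↥F₀))
    (fun a x => by
      apply Subtype.ext
      show Q (cvec F₀ (a • x)) = ((a : F) * (a : F)) * Q (cvec F₀ x)
      rw [cvec_smul, QuadraticMap.map_smul, smul_eq_mul])
    (fun x x' y => by
      apply Subtype.ext
      show QuadraticMap.polar Q (cvec F₀ (x + x')) (cvec F₀ y) =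
        QuadraticMap.polar Q (cvec F₀ x) (cvec F₀ y) + QuadraticMap.polar Q (cvec F₀ x') (cvec F₀ y)
      rw [cvec_add, QuadraticMap.polar_add_left])
    (fun a x y => by
      apply Subtype.ext
      show QuadraticMap.polar Q (cvec F₀ (a • x)) (cvec F₀ y) =
        (a : F) * QuadraticMap.polar Q (cvec F₀ x) (cvec F₀ y)
      rw [cvec_smul, QuadraticMap.polar_smul_left, smul_eq_mul])

theorem coe_descendQ (Q : QuadraticForm F (ι → F)) (h : ∀ v : ι → ↥F₀, Q (cvec F₀ v) ∈ F₀)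
    (v : ι → ↥F₀) : ((descendQ F₀ Q h v : ↥F₀) : F) = Q (cvec F₀ v) := rfl

theorem coe_polar_descendQ (Q : QuadraticForm F (ι → F))
    (h : ∀ v : ι → ↥F₀, Q (cvec F₀ v) ∈ F₀) (x y : ι → ↥F₀) :
    ((QuadraticMap.polar (descendQ F₀ Q h) x y : ↥F₀) : F) =
      QuadraticMap.polar Q (cvec F₀ x) (cvec F₀ y) := rfl

theorem nondeg_descendQ (Q : QuadraticForm F (ι → F)) (h : ∀ v : ι → ↥F₀, Q (cvec F₀ v) ∈ F₀)
    (hQ : Nondeg Q) : Nondeg (descendQ F₀ Q h) := by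
  intro x hx
  apply cvec_injective F₀
  rw [cvec_zero]
  apply hQ
  intro w
  have h1 : QuadraticMap.polarBilin Q (cvec F₀ x) = 0 := by
    apply (Pi.basisFun F ι).ext
    intro i
    rw [Pi.basisFun_apply, ← cvec_single F₀ i, LinearMap.zero_apply,
      QuadraticMap.polarBilin_apply_apply, ← coe_polar_descendQ F₀ Q h, hx]
    rfl
  have h2 := LinearMap.congr_fun h1 w
  rwa [QuadraticMap.polarBilin_apply_apply, LinearMap.zero_apply] at h2

/-- two quadratic forms agreeing on the vectors over a subfield are equal. -/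
theorem eq_of_cvec (Q₁ Q₂ : QuadraticForm F (ι → F))
    (h : ∀ v : ι → ↥F₀, Q₁ (cvec F₀ v) = Q₂ (cvec F₀ v)) : Q₁ = Q₂ := by
  apply eq_of_basis (Pi.basisFun F ι)
  · intro i
    rw [Pi.basisFun_apply, ← cvec_single F₀ i, h]
  · intro i j
    rw [Pi.basisFun_apply, Pi.basisFun_apply, ← cvec_single F₀ i, ← cvec_single F₀ j]
    unfold QuadraticMap.polar
    rw [← cvec_add, h, h, h]

/-- lifting a similarity between descended forms. -/
theorem exists_lift_similarity (Q₁ Q₂ : QuadraticForm F (ι → F))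
    (h₁ : ∀ v : ι → ↥F₀, Q₁ (cvec F₀ v) ∈ F₀) (h₂ : ∀ v : ι → ↥F₀, Q₂ (cvec F₀ v) ∈ F₀)
    (c₀ : ↥F₀) (K₀ : (ι → ↥F₀) ≃ₗ[↥F₀] (ι → ↥F₀))
    (hK : ∀ v, descendQ F₀ Q₂ h₂ (K₀ v) = c₀ * descendQ F₀ Q₁ h₁ v) :
    ∃ K : GL ι F, (∀ i j, (K : Matrix ι ι F) i j ∈ F₀) ∧
      ∀ v, Q₂ ((K : Matrix ι ι F) *ᵥ v) = (c₀ : F) * Q₁ v := by
  obtain ⟨A, hA⟩ : ∃ A : Matrix ι ι ↥F₀,
      A = LinearMap.toMatrix' (K₀ : (ι → ↥F₀) →ₗ[↥F₀] (ι → ↥F₀)) := ⟨_, rfl⟩
  obtain ⟨A', hA'⟩ : ∃ A' : Matrix ι ι ↥F₀,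
      A' = LinearMap.toMatrix' (K₀.symm : (ι → ↥F₀) →ₗ[↥F₀] (ι → ↥F₀)) := ⟨_, rfl⟩
  have hAA' : A * A' = 1 := by
    rw [hA, hA', ← LinearMap.toMatrix'_comp]
    have : (K₀ : (ι → ↥F₀) →ₗ[↥F₀] (ι → ↥F₀)) ∘ₗ (K₀.symm : (ι → ↥F₀) →ₗ[↥F₀] (ι → ↥F₀))
        = LinearMap.id := by
      ext v
      simp
    rw [this, LinearMap.toMatrix'_id]
  have hA'A : A' * A = 1 := by
    rw [hA, hA', ← LinearMap.toMatrix'_comp]
    have : (K₀.symm : (ι → ↥F₀) →ₗ[↥F₀] (ι → ↥F₀)) ∘ₗ (K₀ : (ι → ↥F₀) →ₗ[↥F₀] (ι → ↥F₀))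
        = LinearMap.id := by
      ext v
      simp
    rw [this, LinearMap.toMatrix'_id]
  obtain ⟨K, hKdef⟩ : ∃ K : GL ι F, (K : Matrix ι ι F) = A.map F₀.subtype := by
    refine ⟨⟨A.map F₀.subtype, A'.map F₀.subtype, ?_, ?_⟩, rfl⟩
    · rw [← Matrix.map_mul, hAA', Matrix.map_one _ (map_zero _) (map_one _)]
    · rw [← Matrix.map_mul, hA'A, Matrix.map_one _ (map_zero _) (map_one _)]
  have hKv : ∀ v : ι → ↥F₀, (K : Matrix ι ι F) *ᵥ cvec F₀ v = cvec F₀ (K₀ v) := by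
    intro v
    funext i
    have h1 := RingHom.map_mulVec F₀.subtype A v i
    have h2 : A *ᵥ v = K₀ v := by
      rw [hA, LinearMap.toMatrix'_mulVec]
      rfl
    rw [h2] at h1
    rw [hKdef]
    exact h1.symm
  refine ⟨K, fun i j => ?_, ?_⟩
  · rw [hKdef]
    exact (A i j).2
  · have h3 : Q₂.comp (Matrix.toLin' (K : Matrix ι ι F)) = (c₀ : F) • Q₁ := by
      apply eq_of_cvec F₀
      intro v
      rw [QuadraticMap.comp_apply, Matrix.toLin'_apply, hKv, ← coe_descendQ F₀ Q₂ h₂, hK,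
        _root_.smul_apply, smul_eq_mul, ← coe_descendQ F₀ Q₁ h₁]
      rfl
    intro v
    have h4 := congrArg (fun q : QuadraticForm F (ι → F) => q v) h3
    simpa [QuadraticMap.comp_apply, Matrix.toLin'_apply] using h4

end Descent

section Hilbert

variable {F : Type*} [Field F] {ι : Type} [Fintype ι] [DecidableEq ι]

/-- iterating a twisted semi-invariance. -/
theorem iterate_twistedQ (σ : F ≃+* F) (q : (ι → F) → F) (c : Fˣ)
    (hq : ∀ v : ι → F, q (fun i => σ (v i)) = (c : F) * σ (q v)) (k : ℕ) (v : ι → F) :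
    q (fun i => (σ ^ k : F ≃+* F) (v i)) =
      ((nrmF σ c k : Fˣ) : F) * (σ ^ k : F ≃+* F) (q v) := by
  induction k with
  | zero =>
    have h1 : nrmF σ c 0 = 1 := rfl
    rw [h1, Units.val_one, one_mul, pow_zero]
    rfl
  | succ k ih =>
    have h1 : (fun i => (σ ^ (k + 1) : F ≃+* F) (v i)) =
        fun i => σ ((fun i => (σ ^ k : F ≃+* F) (v i)) i) := by
      funext i
      rw [pow_succ']
      rfl
    have h2 : nrmF σ c (k + 1) = c * unitsAut σ (nrmF σ c k) := rfl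
    rw [h1, hq, ih, map_mul, h2, Units.val_mul, Cfsg.Agent.Helper8.AutSLn.unitsAut_coe, mul_assoc,
      pow_succ']
    rfl

/-- **Hilbert's Theorem 90 for the similarity group of a quadratic form in odd dimension.** -/
theorem hilbert90_sim [Finite F] (σ : F ≃+* F) {r : ℕ} (hr : 0 < r) (hσr : σ ^ r = 1)
    (hσ : ∀ i j : Fin r, σ ^ (i : ℕ) = σ ^ (j : ℕ) → i = j)
    (Q : QuadraticForm F (ι → F)) (hQ : Nondeg Q) {m : ℕ} (hcard : Fintype.card ι = 2 * m + 1)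
    (hQσ : ∀ v : ι → F, Q (fun i => σ (v i)) = σ (Q v))
    (g : GL ι F) (hg : g ∈ Cfsg.Geo.quadSimilarityGroup (F := F) ⇑Q) (hN : nrmGL σ g r = 1) :
    ∃ u : GL ι F, u ∈ Cfsg.Geo.quadSimilarityGroup (F := F) ⇑Q ∧ g = u * (gls σ u)⁻¹ := by
  have hne : Nonempty ι := by
    rw [← Fintype.card_pos_iff, hcard]
    omega
  obtain ⟨c, hc⟩ := hg
  obtain ⟨h₁, hh₁⟩ := Cfsg.Agent.Helper8.AutSLn.hilbert90_GL σ hr hσr hσ g hN
  obtain ⟨H, hH⟩ : ∃ H : Matrix ι ι F, H = (h₁ : Matrix ι ι F) := ⟨_, rfl⟩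
  obtain ⟨G, hG⟩ : ∃ G : Matrix ι ι F, G = (g : Matrix ι ι F) := ⟨_, rfl⟩
  rw [← hG] at hc
  have hGH : G * H.map σ = H := by
    have e1 : g * gls σ h₁ = h₁ := by
      conv_lhs => rw [hh₁]
      rw [inv_mul_cancel_right]
    have e2 := congrArg (fun x : GL ι F => (x : Matrix ι ι F)) e1
    simp only [Units.val_mul] at e2
    rw [hG, hH]
    exact e2
  -- the transported form
  obtain ⟨Q₁, hQ₁⟩ : ∃ Q₁ : QuadraticForm F (ι → F), Q₁ = Q.comp (Matrix.toLin' H) := ⟨_, rfl⟩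
  have hQ₁v : ∀ v, Q₁ v = Q (H *ᵥ v) := by
    intro v
    rw [hQ₁, QuadraticMap.comp_apply, Matrix.toLin'_apply]
  have hQ₁σ : ∀ v : ι → F, Q₁ (fun i => σ (v i)) = (c : F) * σ (Q₁ v) := by
    intro v
    rw [hQ₁v, hQ₁v, ← hQσ, ← hc]
    congr 1
    conv_lhs => rw [← hGH]
    rw [← Matrix.mulVec_mulVec]
    congr 1
    exact Cfsg.Agent.Helper8.AutSLn.map_mulVec_comp σ H v
  have hHinv : ((h₁⁻¹ : GL ι F) : Matrix ι ι F) * H = 1 := by
    rw [hH, ← Units.val_mul, inv_mul_cancel, Units.val_one]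
  have hHinv' : H * ((h₁⁻¹ : GL ι F) : Matrix ι ι F) = 1 := by
    rw [hH, ← Units.val_mul, mul_inv_cancel, Units.val_one]
  have hQ₁nd : Nondeg Q₁ := by
    intro v hv
    have h1 : H *ᵥ v = 0 := by
      apply hQ
      intro w
      have h2 := hv (((h₁⁻¹ : GL ι F) : Matrix ι ι F) *ᵥ w)
      unfold QuadraticMap.polar at h2 ⊢
      rw [hQ₁v, hQ₁v, hQ₁v, Matrix.mulVec_add, Matrix.mulVec_mulVec, hHinv',
        Matrix.one_mulVec] at h2
      exact h2
    have h3 := congrArg (fun x => ((h₁⁻¹ : GL ι F) : Matrix ι ι F) *ᵥ x) h1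
    simp only [Matrix.mulVec_mulVec, hHinv, Matrix.one_mulVec, Matrix.mulVec_zero] at h3
    exact h3
  -- the norm of the multiplier is one
  have hNc : nrmF σ c r = 1 := by
    obtain ⟨v, hv⟩ : ∃ v, Q₁ v ≠ 0 := by
      by_contra hcon
      push Not at hcon
      obtain ⟨i⟩ := hne
      have h1 : (Pi.single i (1 : F) : ι → F) = 0 := by
        apply hQ₁nd
        intro w
        unfold QuadraticMap.polar
        rw [hcon, hcon, hcon, sub_zero, sub_zero]
      have h2 := congrFun h1 i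
      rw [Pi.single_eq_same, Pi.zero_apply] at h2
      exact one_ne_zero h2
    have h1 := iterate_twistedQ σ (⇑Q₁) c hQ₁σ r v
    rw [hσr] at h1
    have h2 : ((1 : F) - ((nrmF σ c r : Fˣ) : F)) * Q₁ v = 0 := by
      rw [sub_mul, one_mul]
      exact sub_eq_zero.mpr h1
    rcases mul_eq_zero.mp h2 with h4 | h4
    · apply Units.ext
      rw [Units.val_one]
      exact (sub_eq_zero.mp h4).symm
    · exact absurd h4 hv
  obtain ⟨ν, hν⟩ := Cfsg.Agent.Helper8.AutSLn.hilbert90_units σ hr hσr hσ c hNc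
  have hν' : (c : F) * σ (ν : F) = ν := by
    have e1 : c * unitsAut σ ν = ν := by
      rw [hν, inv_mul_cancel_right]
    have e2 := congrArg (fun x : Fˣ => (x : F)) e1
    exact e2
  -- the rescaled form is defined over the fixed field
  obtain ⟨Q₂, hQ₂⟩ : ∃ Q₂ : QuadraticForm F (ι → F), Q₂ = ((ν : F)⁻¹) • Q₁ := ⟨_, rfl⟩
  have hQ₂v : ∀ v, Q₂ v = (ν : F)⁻¹ * Q₁ v := by
    intro v
    rw [hQ₂, _root_.smul_apply, smul_eq_mul]
  have hQ₂σ : ∀ v : ι → F, Q₂ (fun i => σ (v i)) = σ (Q₂ v) := by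
    intro v
    rw [hQ₂v, hQ₂v, hQ₁σ, map_mul, ← mul_assoc]
    congr 1
    have hσν : σ (ν : F) ≠ 0 := (map_ne_zero σ).mpr ν.ne_zero
    have hc0 : (c : F) ≠ 0 := c.ne_zero
    rw [map_inv₀]
    conv_lhs => rw [← hν']
    field_simp
  have hQ₂nd : Nondeg Q₂ := by
    intro v hv
    apply hQ₁nd
    intro w
    have h1 := hv w
    unfold QuadraticMap.polar at h1 ⊢
    rw [hQ₂v, hQ₂v, hQ₂v, ← mul_sub, ← mul_sub] at h1
    rcases mul_eq_zero.mp h1 with h2 | h2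
    · exact absurd h2 (inv_ne_zero ν.ne_zero)
    · exact h2
  -- descent to the fixed field
  have hval : ∀ v : ι → ↥(fixField σ), Q (cvec (fixField σ) v) ∈ fixField σ := by
    intro v
    show σ (Q (cvec (fixField σ) v)) = Q (cvec (fixField σ) v)
    rw [← hQσ]
    congr 1
    funext i
    exact (v i).2
  have hval₂ : ∀ v : ι → ↥(fixField σ), Q₂ (cvec (fixField σ) v) ∈ fixField σ := by
    intro v
    show σ (Q₂ (cvec (fixField σ) v)) = Q₂ (cvec (fixField σ) v)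
    rw [← hQ₂σ]
    congr 1
    funext i
    exact (v i).2
  have hfin : finrank ↥(fixField σ) (ι → ↥(fixField σ)) = 2 * m + 1 := by
    rw [Module.finrank_fintype_fun_eq_card, hcard]
  have : Finite ↥(fixField σ) := Subtype.finite
  obtain ⟨c₀, K₀, hc₀, hK₀⟩ := Cfsg.Agent.Helper8.OrR.exists_similarity_odd m hfin
    (descendQ (fixField σ) Q hval) (descendQ (fixField σ) Q₂ hval₂)
    (nondeg_descendQ _ Q hval hQ) (nondeg_descendQ _ Q₂ hval₂ hQ₂nd)
  obtain ⟨K, hKfix, hKQ⟩ := exists_lift_similarity (fixField σ) Q Q₂ hval hval₂ c₀ K₀ hK₀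
  have hKσ : gls σ K = K := by
    apply Units.ext
    ext i j
    exact hKfix i j
  have hc₀' : (c₀ : F) ≠ 0 := by
    intro h0
    apply hc₀
    exact Subtype.ext h0
  refine ⟨h₁ * K, ⟨ν * Units.mk0 (c₀ : F) hc₀', fun v => ?_⟩, ?_⟩
  · rw [Units.val_mul, ← Matrix.mulVec_mulVec, ← hH, ← hQ₁v, Units.val_mul, Units.val_mk0,
      mul_assoc, ← hKQ, hQ₂v, ← mul_assoc, mul_inv_cancel₀ ν.ne_zero, one_mul]
  · rw [map_mul, hKσ, _root_.mul_inv_rev, mul_assoc, mul_inv_cancel_left]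
    exact hh₁

end Hilbert

end Cfsg.Agent.Helper8.AutO
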