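import Mathlib
import Cfsg.Agent.Helper8.AutOze

set_option autoImplicit false
set_option linter.unusedSectionVars false

/-!
# Automorphisms of orthogonal groups, part zv: Hilbert's Theorem 90 for similarity groups in
general: the twisted form of a cocycle, and the conclusion from a similarity over the fixed field
-/

namespace Cfsg.Agent.Helper8.AutO

open Module Matrix Cfsg.Agent.Helper8.QuadForm
open Cfsg.Agent.Helper8.AutSLn (gls nrmGL nrmF unitsAut fixField)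

variable {F : Type*} [Field F] {ι : Type} [Fintype ι] [DecidableEq ι]

/-- **the twisted form of a cocycle**: a similarity `g` of `Q` with trivial norm is `H σ(H)⁻¹`,
and a scalar multiple of `Q ∘ H` is invariant under `σ`. -/
theorem exists_twist [Finite F] [Nonempty ι] (σ : F ≃+* F) {r : ℕ} (hr : 0 < r)
    (hσr : σ ^ r = 1) (hσ : ∀ i j : Fin r, σ ^ (i : ℕ) = σ ^ (j : ℕ) → i = j)
    (Q : QuadraticForm F (ι → F)) (hQ : Nondeg Q)
    (hQσ : ∀ v : ι → F, Q (fun i => σ (v i)) = σ (Q v))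
    (g : GL ι F) (hg : g ∈ Cfsg.Geo.quadSimilarityGroup (F := F) ⇑Q) (hN : nrmGL σ g r = 1) :
    ∃ (H : GL ι F) (ν : Fˣ) (Q₂ : QuadraticForm F (ι → F)),
      g = H * (gls σ H)⁻¹ ∧ (∀ v, Q₂ v = (ν : F)⁻¹ * Q ((H : Matrix ι ι F) *ᵥ v)) ∧
      (∀ v : ι → F, Q₂ (fun i => σ (v i)) = σ (Q₂ v)) ∧ Nondeg Q₂ := by
  obtain ⟨c, hc⟩ := hg
  obtain ⟨h₁, hh₁⟩ := Cfsg.Agent.Helper8.AutSLn.hilbert90_GL σ hr hσr hσ g hN
  obtain ⟨H, hH⟩ : ∃ H : Matrix ι ι F, H = (h₁ : Matrix ι ι F) := ⟨_, rfl⟩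
  obtain ⟨G, hG⟩ : ∃ G : Matrix ι ι F, G = (g : Matrix ι ι F) := ⟨_, rfl⟩
  rw [← hG] at hc
  have hGH : G * H.map σ = H := by
    have e1 : g * gls σ h₁ = h₁ := by
      conv_lhs => rw [hh₁]
      rw [inv_mul_cancel_right]
    have e2 := congrArg (fun x : GL ι F => (x : Matrix ι ι F)) e1
    simp only [Units.val_mul] at e2
    rw [hG, hH]
    exact e2
  -- the transported form
  obtain ⟨Q₁, hQ₁⟩ : ∃ Q₁ : QuadraticForm F (ι → F), Q₁ = Q.comp (Matrix.toLin' H) := ⟨_, rfl⟩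
  have hQ₁v : ∀ v, Q₁ v = Q (H *ᵥ v) := by
    intro v
    rw [hQ₁, QuadraticMap.comp_apply, Matrix.toLin'_apply]
  have hQ₁σ : ∀ v : ι → F, Q₁ (fun i => σ (v i)) = (c : F) * σ (Q₁ v) := by
    intro v
    rw [hQ₁v, hQ₁v, ← hQσ, ← hc]
    congr 1
    conv_lhs => rw [← hGH]
    rw [← Matrix.mulVec_mulVec]
    congr 1
    exact Cfsg.Agent.Helper8.AutSLn.map_mulVec_comp σ H v
  have hHinv : ((h₁⁻¹ : GL ι F) : Matrix ι ι F) * H = 1 := by
    rw [hH, ← Units.val_mul, inv_mul_cancel, Units.val_one]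
  have hHinv' : H * ((h₁⁻¹ : GL ι F) : Matrix ι ι F) = 1 := by
    rw [hH, ← Units.val_mul, mul_inv_cancel, Units.val_one]
  have hQ₁nd : Nondeg Q₁ := by
    intro v hv
    have h1 : H *ᵥ v = 0 := by
      apply hQ
      intro w
      have h2 := hv (((h₁⁻¹ : GL ι F) : Matrix ι ι F) *ᵥ w)
      unfold QuadraticMap.polar at h2 ⊢
      rw [hQ₁v, hQ₁v, hQ₁v, Matrix.mulVec_add, Matrix.mulVec_mulVec, hHinv',
        Matrix.one_mulVec] at h2
      exact h2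
    have h3 := congrArg (fun x => ((h₁⁻¹ : GL ι F) : Matrix ι ι F) *ᵥ x) h1
    simp only [Matrix.mulVec_mulVec, hHinv, Matrix.one_mulVec, Matrix.mulVec_zero] at h3
    exact h3
  -- the norm of the multiplier is one
  have hNc : nrmF σ c r = 1 := by
    obtain ⟨v, hv⟩ : ∃ v, Q₁ v ≠ 0 := by
      by_contra hcon
      push Not at hcon
      obtain ⟨i⟩ := (inferInstance : Nonempty ι)
      have h1 : (Pi.single i (1 : F) : ι → F) = 0 := by
        apply hQ₁nd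
        intro w
        unfold QuadraticMap.polar
        rw [hcon, hcon, hcon, sub_zero, sub_zero]
      have h2 := congrFun h1 i
      rw [Pi.single_eq_same, Pi.zero_apply] at h2
      exact one_ne_zero h2
    have h1 := iterate_twistedQ σ (⇑Q₁) c hQ₁σ r v
    rw [hσr] at h1
    have h2 : ((1 : F) - ((nrmF σ c r : Fˣ) : F)) * Q₁ v = 0 := by
      rw [sub_mul, one_mul]
      exact sub_eq_zero.mpr h1
    rcases mul_eq_zero.mp h2 with h4 | h4
    · apply Units.ext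
      rw [Units.val_one]
      exact (sub_eq_zero.mp h4).symm
    · exact absurd h4 hv
  obtain ⟨ν, hν⟩ := Cfsg.Agent.Helper8.AutSLn.hilbert90_units σ hr hσr hσ c hNc
  have hν' : (c : F) * σ (ν : F) = ν := by
    have e1 : c * unitsAut σ ν = ν := by
      rw [hν, inv_mul_cancel_right]
    have e2 := congrArg (fun x : Fˣ => (x : F)) e1
    exact e2
  -- the rescaled form is defined over the fixed field
  obtain ⟨Q₂, hQ₂⟩ : ∃ Q₂ : QuadraticForm F (ι → F), Q₂ = ((ν : F)⁻¹) • Q₁ := ⟨_, rfl⟩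
  have hQ₂v : ∀ v, Q₂ v = (ν : F)⁻¹ * Q₁ v := by
    intro v
    rw [hQ₂, _root_.smul_apply, smul_eq_mul]
  have hQ₂σ : ∀ v : ι → F, Q₂ (fun i => σ (v i)) = σ (Q₂ v) := by
    intro v
    rw [hQ₂v, hQ₂v, hQ₁σ, map_mul, ← mul_assoc]
    congr 1
    have hσν : σ (ν : F) ≠ 0 := (map_ne_zero σ).mpr ν.ne_zero
    have hc0 : (c : F) ≠ 0 := c.ne_zero
    rw [map_inv₀]
    conv_lhs => rw [← hν']
    field_simp
  have hQ₂nd : Nondeg Q₂ := by
    intro v hv
    apply hQ₁nd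
    intro w
    have h1 := hv w
    unfold QuadraticMap.polar at h1 ⊢
    rw [hQ₂v, hQ₂v, hQ₂v, ← mul_sub, ← mul_sub] at h1
    rcases mul_eq_zero.mp h1 with h2 | h2
    · exact absurd h2 (inv_ne_zero ν.ne_zero)
    · exact h2
  refine ⟨h₁, ν, Q₂, hh₁, ?_, hQ₂σ, hQ₂nd⟩
  intro v
  rw [hQ₂v, hQ₁v, hH]

/-- the values of a `σ`-invariant form on the vectors over the fixed field lie in it. -/
theorem mem_fixField_of_inv (σ : F ≃+* F) (Q : QuadraticForm F (ι → F))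
    (hQσ : ∀ v : ι → F, Q (fun i => σ (v i)) = σ (Q v)) (v : ι → ↥(fixField σ)) :
    Q (cvec (fixField σ) v) ∈ fixField σ := by
  show σ (Q (cvec (fixField σ) v)) = Q (cvec (fixField σ) v)
  rw [← hQσ]
  congr 1
  funext i
  exact (v i).2

/-- **the conclusion of Hilbert's Theorem 90 from a similarity over the fixed field** between the
descended forms. -/
theorem sim_of_descent (σ : F ≃+* F) (Q Q₂ : QuadraticForm F (ι → F))
    (hQσ : ∀ v : ι → F, Q (fun i => σ (v i)) = σ (Q v))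
    (hQ₂σ : ∀ v : ι → F, Q₂ (fun i => σ (v i)) = σ (Q₂ v))
    (g H : GL ι F) (ν : Fˣ) (hgH : g = H * (gls σ H)⁻¹)
    (hQ₂ : ∀ v, Q₂ v = (ν : F)⁻¹ * Q ((H : Matrix ι ι F) *ᵥ v))
    (c₀ : ↥(fixField σ)) (hc₀ : c₀ ≠ 0)
    (K₀ : (ι → ↥(fixField σ)) ≃ₗ[↥(fixField σ)] (ι → ↥(fixField σ)))
    (hK₀ : ∀ v, descendQ (fixField σ) Q₂ (mem_fixField_of_inv σ Q₂ hQ₂σ) (K₀ v)
      = c₀ * descendQ (fixField σ) Q (mem_fixField_of_inv σ Q hQσ) v) :
    ∃ u : GL ι F, u ∈ Cfsg.Geo.quadSimilarityGroup (F := F) ⇑Q ∧ g = u * (gls σ u)⁻¹ := by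
  obtain ⟨K, hKfix, hKQ⟩ := exists_lift_similarity (fixField σ) Q Q₂
    (mem_fixField_of_inv σ Q hQσ) (mem_fixField_of_inv σ Q₂ hQ₂σ) c₀ K₀ hK₀
  have hKσ : gls σ K = K := by
    apply Units.ext
    ext i j
    exact hKfix i j
  have hc₀' : (c₀ : F) ≠ 0 := by
    intro h0
    apply hc₀
    exact Subtype.ext h0
  refine ⟨H * K, ⟨ν * Units.mk0 (c₀ : F) hc₀', fun v => ?_⟩, ?_⟩
  · have h1 := hQ₂ ((K : Matrix ι ι F) *ᵥ v)
    rw [hKQ] at h1
    rw [Units.val_mul, ← Matrix.mulVec_mulVec, Units.val_mul, Units.val_mk0, mul_assoc, h1,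
      ← mul_assoc, mul_inv_cancel₀ ν.ne_zero, one_mul]
  · rw [map_mul, hKσ, _root_.mul_inv_rev, mul_assoc, mul_inv_cancel_left]
    exact hgH

end Cfsg.Agent.Helper8.AutO
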