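import Mathlib
import Cfsg.Agent.Helper8.AutOzv
import Cfsg.Agent.Helper8.OrTIso

set_option autoImplicit false
set_option linter.unusedSectionVars false
set_option linter.style.haveILetI false

/-!
# Automorphisms of orthogonal groups, part zw: descent for the minus-type form: a `σ`-invariant
form similar to the minus-type form over `F` is similar to it over the fixed field of `σ`
-/

namespace Cfsg.Agent.Helper8.AutO

open Module Matrix Cfsg.Agent.Helper8.QuadForm Cfsg.Agent.Helper8.StdForms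
  Cfsg.Agent.Helper8.StdTransfer Cfsg.Agent.Helper8.OrT
open Cfsg.Agent.Helper8.AutSLn (gls nrmGL nrmF unitsAut fixField)

section Hyp

universe u v

variable {F : Type v} [Field F] [Fintype F] {V : Type u} [AddCommGroup V] [Module F V]
  [FiniteDimensional F V]

/-- a form with a hyperbolic family of full size is of plus type. -/
theorem nuS_of_isHyp {Q : QuadraticForm F V} {k : ℕ} (hV : finrank F V = 2 * (k + 1))
    {e f : Fin (k + 1) → V} (hhyp : IsHyp Q e f) : NuS 1 Q k := by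
  obtain ⟨b, hb⟩ := hhyp.exists_basis Q hV
  obtain ⟨h1, h2, h3⟩ := hhyp
  have hφ : ∀ v, plusForm F (k + 1) (b.equivFun v) = Q v := by
    refine plus_transfer Q b ?_ ?_ ?_
    · intro i
      rw [hb]
      exact h1 i
    · intro i j
      rw [hb]
      exact h2 i j
    · intro i j
      rw [hb]
      exact h3 i j
  exact NuS.congr b.equivFun.symm
    (fun v => by rw [← hφ, LinearEquiv.apply_symm_apply]) (nuS_plusForm k)

/-- similar forms have the same type. -/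
theorem nuS_of_similar {Q Q₂ : QuadraticForm F V} {k : ℕ} {s : ℤ} (φ : V ≃ₗ[F] V) {c : F}
    (hc : c ≠ 0) (h : ∀ v, Q₂ v = c * Q (φ v)) (hs : NuS s Q k) : NuS s Q₂ k := by
  unfold NuS at hs ⊢
  rw [← hs]
  congr 1
  unfold lev
  apply Nat.card_congr
  refine Equiv.subtypeEquiv φ.toEquiv (fun v => ?_)
  show Q₂ v = 0 ↔ Q (φ v) = 0
  rw [h]
  constructor
  · intro h0
    exact (mul_eq_zero.mp h0).resolve_left hc
  · intro h0
    rw [h0, mul_zero]

end Hyp

section Descent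

variable {F : Type*} [Field F] [Fintype F]

/-- the descent of the minus-type form is the minus-type form over the subfield. -/
theorem descendQ_minusForm (F₀ : Subfield F) (k : ℕ) (a₀ b₀ : ↥F₀)
    (h : ∀ v : (Fin k ⊕ Fin k) ⊕ Fin 2 → ↥F₀,
      minusForm F k (a₀ : F) (b₀ : F) (cvec F₀ v) ∈ F₀) :
    descendQ F₀ (minusForm F k (a₀ : F) (b₀ : F)) h = minusForm ↥F₀ k a₀ b₀ := by
  ext v
  rw [coe_descendQ, minusForm_apply, minusForm_apply]
  show _ = F₀.subtype (Cfsg.quadFormMinus k ↥F₀ a₀ b₀ v)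
  unfold Cfsg.quadFormMinus
  simp only [map_add, map_sum, map_mul, map_pow]
  rfl

/-- **descent for the minus-type form.** -/
theorem minus_descent (σ : F ≃+* F) (k : ℕ) {a b : F} (ha : σ a = a) (hb : σ b = b)
    (hab : ∀ z₁ z₂ : F, z₁ ^ 2 + a * z₁ * z₂ + b * z₂ ^ 2 = 0 → z₁ = 0 ∧ z₂ = 0)
    (hQσ : ∀ v : (Fin k ⊕ Fin k) ⊕ Fin 2 → F,
      minusForm F k a b (fun i => σ (v i)) = σ (minusForm F k a b v))
    (Q₂ : QuadraticForm F ((Fin k ⊕ Fin k) ⊕ Fin 2 → F))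
    (hQ₂σ : ∀ v : (Fin k ⊕ Fin k) ⊕ Fin 2 → F, Q₂ (fun i => σ (v i)) = σ (Q₂ v))
    (hnd : Nondeg Q₂) (H : GL ((Fin k ⊕ Fin k) ⊕ Fin 2) F) (ν : Fˣ)
    (hQ₂ : ∀ v, Q₂ v = (ν : F)⁻¹ * minusForm F k a b
      ((H : Matrix ((Fin k ⊕ Fin k) ⊕ Fin 2) ((Fin k ⊕ Fin k) ⊕ Fin 2) F) *ᵥ v)) :
    ∃ (c₀ : ↥(fixField σ)) (K₀ : ((Fin k ⊕ Fin k) ⊕ Fin 2 → ↥(fixField σ))
        ≃ₗ[↥(fixField σ)] ((Fin k ⊕ Fin k) ⊕ Fin 2 → ↥(fixField σ))), c₀ ≠ 0 ∧
      ∀ v, descendQ (fixField σ) Q₂ (mem_fixField_of_inv σ Q₂ hQ₂σ) (K₀ v)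
        = c₀ * descendQ (fixField σ) (minusForm F k a b)
          (mem_fixField_of_inv σ (minusForm F k a b) hQσ) v := by
  classical
  letI : Fintype ↥(fixField σ) := Fintype.ofFinite _
  obtain ⟨a₀, ha₀⟩ : ∃ a₀ : ↥(fixField σ), (a₀ : F) = a := ⟨⟨a, ha⟩, rfl⟩
  obtain ⟨b₀, hb₀⟩ : ∃ b₀ : ↥(fixField σ), (b₀ : F) = b := ⟨⟨b, hb⟩, rfl⟩
  subst ha₀ hb₀
  have hcard : Fintype.card ((Fin k ⊕ Fin k) ⊕ Fin 2) = 2 * (k + 1) := by
    simp only [Fintype.card_sum, Fintype.card_fin]; ring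
  have hV₀ : finrank ↥(fixField σ) ((Fin k ⊕ Fin k) ⊕ Fin 2 → ↥(fixField σ)) = 2 * (k + 1) := by
    rw [Module.finrank_fintype_fun_eq_card, hcard]
  have hV : finrank F ((Fin k ⊕ Fin k) ⊕ Fin 2 → F) = 2 * (k + 1) := by
    rw [Module.finrank_fintype_fun_eq_card, hcard]
  have hab₀ : ∀ z₁ z₂ : ↥(fixField σ), z₁ ^ 2 + a₀ * z₁ * z₂ + b₀ * z₂ ^ 2 = 0 →
      z₁ = 0 ∧ z₂ = 0 := by
    intro z₁ z₂ h
    have h1 := congrArg (fun x : ↥(fixField σ) => (x : F)) h
    have h2 := hab (z₁ : F) (z₂ : F) (by simpa using h1)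
    exact ⟨Subtype.ext h2.1, Subtype.ext h2.2⟩
  have hndQ : Nondeg (minusForm F k (a₀ : F) (b₀ : F)) :=
    (nondeg_iff _).mp (minusForm_nondeg F k hab)
  -- the types over the fixed field
  have hQ₀ : NuS (-1) (descendQ (fixField σ) (minusForm F k (a₀ : F) (b₀ : F))
      (mem_fixField_of_inv σ _ hQσ)) k := by
    rw [descendQ_minusForm]
    exact nuS_minusForm k a₀ b₀ hab₀
  have hnd₀ : Nondeg (descendQ (fixField σ) (minusForm F k (a₀ : F) (b₀ : F))
      (mem_fixField_of_inv σ _ hQσ)) := nondeg_descendQ _ _ _ hndQ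
  have hnd₂ : Nondeg (descendQ (fixField σ) Q₂ (mem_fixField_of_inv σ Q₂ hQ₂σ)) :=
    nondeg_descendQ _ _ _ hnd
  -- the type of `Q₂` over `F`
  have hQ₂F : NuS (-1) Q₂ k := by
    have hHinv : ((H⁻¹ : GL _ F) : Matrix ((Fin k ⊕ Fin k) ⊕ Fin 2) ((Fin k ⊕ Fin k) ⊕ Fin 2) F)
        * (H : Matrix _ _ F) = 1 := by
      rw [← Units.val_mul, inv_mul_cancel, Units.val_one]
    have hHinv' : (H : Matrix ((Fin k ⊕ Fin k) ⊕ Fin 2) ((Fin k ⊕ Fin k) ⊕ Fin 2) F)
        * ((H⁻¹ : GL _ F) : Matrix _ _ F) = 1 := by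
      rw [← Units.val_mul, mul_inv_cancel, Units.val_one]
    exact nuS_of_similar (Matrix.toLin'OfInv hHinv hHinv') (inv_ne_zero ν.ne_zero)
      (fun v => by rw [hQ₂]; rfl) (nuS_minusForm k (a₀ : F) (b₀ : F) hab)
  rcases exists_std_family k hV₀ _ hnd₂ with ⟨e₀, f₀, hhyp⟩ | ⟨e, f, x, y, hell⟩
  · exfalso
    have hhyp' : IsHyp Q₂ (fun i => cvec (fixField σ) (e₀ i))
        (fun i => cvec (fixField σ) (f₀ i)) := by
      obtain ⟨h1, h2, h3⟩ := hhyp
      refine ⟨fun i => ?_, fun i j => ?_, fun i j => ?_⟩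
      · have := h1 i
        constructor
        · have e1 := congrArg (fun x : ↥(fixField σ) => (x : F)) this.1
          exact e1
        · have e1 := congrArg (fun x : ↥(fixField σ) => (x : F)) this.2
          exact e1
      · have e1 := congrArg (fun x : ↥(fixField σ) => (x : F)) (h2 i j)
        rw [← coe_polar_descendQ (fixField σ) Q₂ (mem_fixField_of_inv σ Q₂ hQ₂σ)]
        refine e1.trans ?_
        split_ifs <;> rfl
      · have := h3 i j
        constructor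
        · have e1 := congrArg (fun x : ↥(fixField σ) => (x : F)) this.1
          rw [← coe_polar_descendQ (fixField σ) Q₂ (mem_fixField_of_inv σ Q₂ hQ₂σ)]
          exact e1
        · have e1 := congrArg (fun x : ↥(fixField σ) => (x : F)) this.2
          rw [← coe_polar_descendQ (fixField σ) Q₂ (mem_fixField_of_inv σ Q₂ hQ₂σ)]
          exact e1
    have h1 := nuS_of_isHyp hV hhyp'
    have := h1.unique hQ₂F
    norm_num at this
  · have hell' : IsEll (descendQ (fixField σ) Q₂ (mem_fixField_of_inv σ Q₂ hQ₂σ)) e f x y := hell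
    have hQ₂₀ := hell'.nuS (by rw [hV₀]; ring)
    obtain ⟨φ, hφ⟩ := exists_isometry_of_nuS k hV₀ hV₀ _ _ hnd₀ hnd₂ (-1) hQ₀ hQ₂₀
    exact ⟨1, φ, one_ne_zero, fun v => by rw [hφ, one_mul]⟩

end Descent

end Cfsg.Agent.Helper8.AutO
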