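import Mathlib
import Cfsg.Agent.Helper8.AutOzw

set_option autoImplicit false
set_option linter.unusedSectionVars false
set_option linter.style.haveILetI false

/-!
# Automorphisms of orthogonal groups, part Pb: twisted conjugacy of cocycles in the similarity
group of a quadratic form in even dimension: two cocycles whose twisted forms have the same type
over the fixed field are twisted conjugate; among three cocycles two are twisted conjugate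
-/

namespace Cfsg.Agent.Helper8.AutO

open Module Matrix Cfsg.Agent.Helper8.QuadForm Cfsg.Agent.Helper8.StdForms
  Cfsg.Agent.Helper8.StdTransfer Cfsg.Agent.Helper8.OrT
open Cfsg.Agent.Helper8.AutSLn (gls nrmGL nrmF unitsAut fixField)

section Generic

variable {F : Type*} [Field F] {ι : Type} [Fintype ι] [DecidableEq ι]

/-- **twisted conjugacy from a similarity over the fixed field** between the descended twisted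
forms of two cocycles. -/
theorem twist_conj_of_descent (σ : F ≃+* F) (Q Q₂ Q₂' : QuadraticForm F (ι → F))
    (hQ₂σ : ∀ v : ι → F, Q₂ (fun i => σ (v i)) = σ (Q₂ v))
    (hQ₂'σ : ∀ v : ι → F, Q₂' (fun i => σ (v i)) = σ (Q₂' v))
    (g H : GL ι F) (ν : Fˣ) (hgH : g = H * (gls σ H)⁻¹)
    (hQ₂ : ∀ v, Q₂ v = (ν : F)⁻¹ * Q ((H : Matrix ι ι F) *ᵥ v))
    (g' H' : GL ι F) (ν' : Fˣ) (hgH' : g' = H' * (gls σ H')⁻¹)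
    (hQ₂' : ∀ v, Q₂' v = (ν' : F)⁻¹ * Q ((H' : Matrix ι ι F) *ᵥ v))
    (c₀ : ↥(fixField σ)) (hc₀ : c₀ ≠ 0)
    (K₀ : (ι → ↥(fixField σ)) ≃ₗ[↥(fixField σ)] (ι → ↥(fixField σ)))
    (hK₀ : ∀ v, descendQ (fixField σ) Q₂' (mem_fixField_of_inv σ Q₂' hQ₂'σ) (K₀ v)
      = c₀ * descendQ (fixField σ) Q₂ (mem_fixField_of_inv σ Q₂ hQ₂σ) v) :
    ∃ w : GL ι F, w ∈ Cfsg.Geo.quadSimilarityGroup (F := F) ⇑Q ∧
      g' = w * g * (gls σ w)⁻¹ := by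
  obtain ⟨K, hKfix, hKQ⟩ := exists_lift_similarity (fixField σ) Q₂ Q₂'
    (mem_fixField_of_inv σ Q₂ hQ₂σ) (mem_fixField_of_inv σ Q₂' hQ₂'σ) c₀ K₀ hK₀
  have hKσ : gls σ K = K := by
    apply Units.ext
    ext i j
    exact hKfix i j
  have hc₀' : (c₀ : F) ≠ 0 := by
    intro h0
    apply hc₀
    exact Subtype.ext h0
  refine ⟨H' * K * H⁻¹, ⟨ν' * Units.mk0 (c₀ : F) hc₀' * ν⁻¹, fun v => ?_⟩, ?_⟩
  · have hHH : (H : Matrix ι ι F) *ᵥ (((H⁻¹ : GL ι F) : Matrix ι ι F) *ᵥ v) = v := by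
      rw [Matrix.mulVec_mulVec, ← Units.val_mul, mul_inv_cancel, Units.val_one,
        Matrix.one_mulVec]
    have h1 := hQ₂' ((K : Matrix ι ι F) *ᵥ (((H⁻¹ : GL ι F) : Matrix ι ι F) *ᵥ v))
    rw [hKQ, hQ₂, hHH] at h1
    rw [Units.val_mul, Units.val_mul, ← Matrix.mulVec_mulVec, ← Matrix.mulVec_mulVec,
      Units.val_mul, Units.val_mul, Units.val_mk0]
    have hν' : (ν' : F) ≠ 0 := ν'.ne_zero
    have e2 : Q ((H' : Matrix ι ι F) *ᵥ ((K : Matrix ι ι F) *ᵥ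
        (((H⁻¹ : GL ι F) : Matrix ι ι F) *ᵥ v))) = (ν' : F) * ((c₀ : F) * ((ν : F)⁻¹ * Q v)) := by
      rw [h1, ← mul_assoc, mul_inv_cancel₀ hν', one_mul]
    rw [e2, Units.val_inv_eq_inv_val]
    ring
  · rw [map_mul, map_mul, hKσ, map_inv, hgH, hgH']
    group

end Generic

section Types

variable {F : Type*} [Field F] [Fintype F] {ι : Type} [Fintype ι] [DecidableEq ι]

/-- two cocycles whose twisted forms have the same type over the fixed field are twisted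
conjugate. -/
theorem twist_conj_of_nuS (σ : F ≃+* F) [Fintype ↥(fixField σ)] (k : ℕ)
    (hcard : Fintype.card ι = 2 * (k + 1)) (Q Q₂ Q₂' : QuadraticForm F (ι → F))
    (hQ₂σ : ∀ v : ι → F, Q₂ (fun i => σ (v i)) = σ (Q₂ v))
    (hQ₂'σ : ∀ v : ι → F, Q₂' (fun i => σ (v i)) = σ (Q₂' v))
    (hnd : Nondeg Q₂) (hnd' : Nondeg Q₂')
    (g H : GL ι F) (ν : Fˣ) (hgH : g = H * (gls σ H)⁻¹)
    (hQ₂ : ∀ v, Q₂ v = (ν : F)⁻¹ * Q ((H : Matrix ι ι F) *ᵥ v))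
    (g' H' : GL ι F) (ν' : Fˣ) (hgH' : g' = H' * (gls σ H')⁻¹)
    (hQ₂' : ∀ v, Q₂' v = (ν' : F)⁻¹ * Q ((H' : Matrix ι ι F) *ᵥ v)) (s : ℤ)
    (hs : NuS s (descendQ (fixField σ) Q₂ (mem_fixField_of_inv σ Q₂ hQ₂σ)) k)
    (hs' : NuS s (descendQ (fixField σ) Q₂' (mem_fixField_of_inv σ Q₂' hQ₂'σ)) k) :
    ∃ w : GL ι F, w ∈ Cfsg.Geo.quadSimilarityGroup (F := F) ⇑Q ∧
      g' = w * g * (gls σ w)⁻¹ := by
  have hV₀ : finrank ↥(fixField σ) (ι → ↥(fixField σ)) = 2 * (k + 1) := by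
    rw [Module.finrank_fintype_fun_eq_card, hcard]
  obtain ⟨φ, hφ⟩ := exists_isometry_of_nuS k hV₀ hV₀ _ _
    (nondeg_descendQ _ _ (mem_fixField_of_inv σ Q₂ hQ₂σ) hnd)
    (nondeg_descendQ _ _ (mem_fixField_of_inv σ Q₂' hQ₂'σ) hnd') s hs hs'
  exact twist_conj_of_descent σ Q Q₂ Q₂' hQ₂σ hQ₂'σ g H ν hgH hQ₂ g' H' ν' hgH' hQ₂' 1
    one_ne_zero φ (fun v => by rw [hφ, one_mul])

/-- **among three cocycles two are twisted conjugate.** -/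
theorem three_cocycles [Nonempty ι] (σ : F ≃+* F) {r : ℕ} (hr : 0 < r)
    (hσr : σ ^ r = 1) (hσ : ∀ i j : Fin r, σ ^ (i : ℕ) = σ ^ (j : ℕ) → i = j)
    (Q : QuadraticForm F (ι → F)) (hQ : Nondeg Q)
    (hQσ : ∀ v : ι → F, Q (fun i => σ (v i)) = σ (Q v)) (k : ℕ)
    (hcard : Fintype.card ι = 2 * (k + 1))
    (g₁ g₂ g₃ : GL ι F) (h₁ : g₁ ∈ Cfsg.Geo.quadSimilarityGroup (F := F) ⇑Q)
    (h₂ : g₂ ∈ Cfsg.Geo.quadSimilarityGroup (F := F) ⇑Q)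
    (h₃ : g₃ ∈ Cfsg.Geo.quadSimilarityGroup (F := F) ⇑Q)
    (hN₁ : nrmGL σ g₁ r = 1) (hN₂ : nrmGL σ g₂ r = 1) (hN₃ : nrmGL σ g₃ r = 1) :
    (∃ w : GL ι F, w ∈ Cfsg.Geo.quadSimilarityGroup (F := F) ⇑Q ∧
      g₂ = w * g₁ * (gls σ w)⁻¹) ∨
    (∃ w : GL ι F, w ∈ Cfsg.Geo.quadSimilarityGroup (F := F) ⇑Q ∧
      g₃ = w * g₁ * (gls σ w)⁻¹) ∨
    (∃ w : GL ι F, w ∈ Cfsg.Geo.quadSimilarityGroup (F := F) ⇑Q ∧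
      g₃ = w * g₂ * (gls σ w)⁻¹) := by
  classical
  letI : Fintype ↥(fixField σ) := Fintype.ofFinite _
  have hV₀ : finrank ↥(fixField σ) (ι → ↥(fixField σ)) = 2 * (k + 1) := by
    rw [Module.finrank_fintype_fun_eq_card, hcard]
  obtain ⟨H₁, ν₁, Q₁, e₁, q₁, s₁, n₁⟩ := exists_twist σ hr hσr hσ Q hQ hQσ g₁ h₁ hN₁
  obtain ⟨H₂, ν₂, Q₂, e₂, q₂, s₂, n₂⟩ := exists_twist σ hr hσr hσ Q hQ hQσ g₂ h₂ hN₂
  obtain ⟨H₃, ν₃, Q₃, e₃, q₃, s₃, n₃⟩ := exists_twist σ hr hσr hσ Q hQ hQσ g₃ h₃ hN₃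
  have d₁ := dichotomy k hV₀ _ (nondeg_descendQ _ _ (mem_fixField_of_inv σ Q₁ s₁) n₁)
  have d₂ := dichotomy k hV₀ _ (nondeg_descendQ _ _ (mem_fixField_of_inv σ Q₂ s₂) n₂)
  have d₃ := dichotomy k hV₀ _ (nondeg_descendQ _ _ (mem_fixField_of_inv σ Q₃ s₃) n₃)
  rcases d₁ with ⟨t₁, -⟩ | ⟨t₁, -⟩ <;> rcases d₂ with ⟨t₂, -⟩ | ⟨t₂, -⟩ <;>
    rcases d₃ with ⟨t₃, -⟩ | ⟨t₃, -⟩
  · exact Or.inl (twist_conj_of_nuS σ k hcard Q Q₁ Q₂ s₁ s₂ n₁ n₂ g₁ H₁ ν₁ e₁ q₁ g₂ H₂ ν₂ e₂ q₂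
      1 t₁ t₂)
  · exact Or.inl (twist_conj_of_nuS σ k hcard Q Q₁ Q₂ s₁ s₂ n₁ n₂ g₁ H₁ ν₁ e₁ q₁ g₂ H₂ ν₂ e₂ q₂
      1 t₁ t₂)
  · exact Or.inr (Or.inl (twist_conj_of_nuS σ k hcard Q Q₁ Q₃ s₁ s₃ n₁ n₃ g₁ H₁ ν₁ e₁ q₁ g₃ H₃
      ν₃ e₃ q₃ 1 t₁ t₃))
  · exact Or.inr (Or.inr (twist_conj_of_nuS σ k hcard Q Q₂ Q₃ s₂ s₃ n₂ n₃ g₂ H₂ ν₂ e₂ q₂ g₃ H₃
      ν₃ e₃ q₃ (-1) t₂ t₃))
  · exact Or.inr (Or.inr (twist_conj_of_nuS σ k hcard Q Q₂ Q₃ s₂ s₃ n₂ n₃ g₂ H₂ ν₂ e₂ q₂ g₃ H₃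
      ν₃ e₃ q₃ 1 t₂ t₃))
  · exact Or.inr (Or.inl (twist_conj_of_nuS σ k hcard Q Q₁ Q₃ s₁ s₃ n₁ n₃ g₁ H₁ ν₁ e₁ q₁ g₃ H₃
      ν₃ e₃ q₃ (-1) t₁ t₃))
  · exact Or.inl (twist_conj_of_nuS σ k hcard Q Q₁ Q₂ s₁ s₂ n₁ n₂ g₁ H₁ ν₁ e₁ q₁ g₂ H₂ ν₂ e₂ q₂
      (-1) t₁ t₂)
  · exact Or.inl (twist_conj_of_nuS σ k hcard Q Q₁ Q₂ s₁ s₂ n₁ n₂ g₁ H₁ ν₁ e₁ q₁ g₂ H₂ ν₂ e₂ q₂
      (-1) t₁ t₂)

end Types

end Cfsg.Agent.Helper8.AutO
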