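import Mathlib
import Cfsg.Agent.Helper8.AutOPb

set_option autoImplicit false
set_option linter.unusedSectionVars false
set_option linter.style.haveILetI false

/-!
# Automorphisms of orthogonal groups, part Pc: Hilbert's Theorem 90 for the similarity group of
the plus-type form and a field automorphism of odd order
-/

namespace Cfsg.Agent.Helper8.AutO

open Module Matrix Cfsg.Agent.Helper8.QuadForm Cfsg.Agent.Helper8.StdForms
  Cfsg.Agent.Helper8.StdTransfer Cfsg.Agent.Helper8.OrT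
open Cfsg.Agent.Helper8.AutSLn (gls nrmGL nrmF unitsAut fixField)

section Root

variable {F : Type*} [Field F]

/-- a polynomial `t² + t + ζ` over the fixed field of an automorphism of odd order without a root
in the fixed field has no root. -/
theorem no_root_of_odd (σ : F ≃+* F) {r : ℕ} (hodd : Odd r) (hσr : σ ^ r = 1) {ζ : F}
    (hζ : σ ζ = ζ) (h : ∀ t : F, σ t = t → t ^ 2 + t + ζ ≠ 0) (t : F) : t ^ 2 + t + ζ ≠ 0 := by
  intro ht
  have h1 : σ t ^ 2 + σ t + ζ = 0 := by
    have := congrArg σ ht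
    rw [map_add, map_add, map_pow, hζ, map_zero] at this
    exact this
  have h2 : (σ t - t) * (σ t + t + 1) = 0 := by linear_combination h1 - ht
  rcases mul_eq_zero.mp h2 with h3 | h3
  · exact h t (sub_eq_zero.mp h3) ht
  · have h4 : σ t = -1 - t := by linear_combination h3
    have h5 : σ (σ t) = t := by
      rw [h4, map_sub, map_neg, map_one, h4]
      ring
    have h6 : ∀ j : ℕ, (σ ^ (2 * j)) t = t := by
      intro j
      induction j with
      | zero => rfl
      | succ j ih =>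
        have : σ ^ (2 * (j + 1)) = σ ^ (2 * j) * (σ * σ) := by
          rw [mul_add, pow_add, mul_one, pow_two]
        rw [this]
        show (σ ^ (2 * j)) (σ (σ t)) = t
        rw [h5, ih]
    obtain ⟨j, rfl⟩ := hodd
    have h7 : (σ ^ (2 * j + 1)) t = σ t := by
      rw [pow_succ']
      show σ ((σ ^ (2 * j)) t) = σ t
      rw [h6]
    rw [hσr] at h7
    exact h t h7.symm ht

end Root

section Lift

variable {F : Type*} [Field F] (F₀ : Subfield F) {ι : Type} [Fintype ι] [DecidableEq ι]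

/-- a hyperbolic family of the descended form is one of the form. -/
theorem isHyp_cvec (Q₂ : QuadraticForm F (ι → F)) (h : ∀ v : ι → ↥F₀, Q₂ (cvec F₀ v) ∈ F₀)
    {n : ℕ} {e f : Fin n → (ι → ↥F₀)} (hhyp : IsHyp (descendQ F₀ Q₂ h) e f) :
    IsHyp Q₂ (fun i => cvec F₀ (e i)) (fun i => cvec F₀ (f i)) := by
  obtain ⟨h1, h2, h3⟩ := hhyp
  refine ⟨fun i => ?_, fun i j => ?_, fun i j => ?_⟩
  · have := h1 i
    constructor
    · have e1 := congrArg (fun x : ↥F₀ => (x : F)) this.1
      exact e1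
    · have e1 := congrArg (fun x : ↥F₀ => (x : F)) this.2
      exact e1
  · have e1 := congrArg (fun x : ↥F₀ => (x : F)) (h2 i j)
    rw [← coe_polar_descendQ F₀ Q₂ h]
    refine e1.trans ?_
    split_ifs <;> rfl
  · have := h3 i j
    constructor
    · have e1 := congrArg (fun x : ↥F₀ => (x : F)) this.1
      rw [← coe_polar_descendQ F₀ Q₂ h]
      exact e1
    · have e1 := congrArg (fun x : ↥F₀ => (x : F)) this.2
      rw [← coe_polar_descendQ F₀ Q₂ h]
      exact e1

/-- the descent of the plus-type form is the plus-type form over the subfield. -/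
theorem descendQ_plusForm (m : ℕ)
    (h : ∀ v : Fin m ⊕ Fin m → ↥F₀, plusForm F m (cvec F₀ v) ∈ F₀) :
    descendQ F₀ (plusForm F m) h = plusForm ↥F₀ m := by
  ext v
  rw [coe_descendQ, plusForm_apply, plusForm_apply]
  show _ = F₀.subtype (Cfsg.quadFormPlus m ↥F₀ v)
  unfold Cfsg.quadFormPlus
  simp only [map_sum, map_mul]
  rfl

end Lift

section Main

variable {F : Type*} [Field F] [Fintype F]

/-- the plus-type form is invariant under every field automorphism. -/
theorem plusForm_sigma (σ : F ≃+* F) (m : ℕ) (v : Fin m ⊕ Fin m → F) :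
    plusForm F m (fun i => σ (v i)) = σ (plusForm F m v) := by
  rw [plusForm_apply, plusForm_apply]
  unfold Cfsg.quadFormPlus
  simp only [map_sum, map_mul]

/-- **Hilbert's Theorem 90 for the similarity group of the plus-type form**, for a field
automorphism of odd order. -/
theorem hilbert90_plus_odd (σ : F ≃+* F) {r : ℕ} (hr : 0 < r) (hodd : Odd r) (hσr : σ ^ r = 1)
    (hσ : ∀ i j : Fin r, σ ^ (i : ℕ) = σ ^ (j : ℕ) → i = j) (k : ℕ)
    (g : GL (Fin (k + 1) ⊕ Fin (k + 1)) F)
    (hg : g ∈ Cfsg.Geo.quadSimilarityGroup (F := F) ⇑(plusForm F (k + 1)))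
    (hN : nrmGL σ g r = 1) :
    ∃ u : GL (Fin (k + 1) ⊕ Fin (k + 1)) F,
      u ∈ Cfsg.Geo.quadSimilarityGroup (F := F) ⇑(plusForm F (k + 1)) ∧
      g = u * (gls σ u)⁻¹ := by
  classical
  letI : Fintype ↥(fixField σ) := Fintype.ofFinite _
  have hQσ := plusForm_sigma σ (k + 1)
  have hnd : Nondeg (plusForm F (k + 1)) := (nondeg_iff _).mp (plusForm_nondeg F (k + 1))
  obtain ⟨H, ν, Q₂, hgH, hQ₂, hQ₂σ, hQ₂nd⟩ :=
    exists_twist σ hr hσr hσ (plusForm F (k + 1)) hnd hQσ g hg hN
  have hcard : Fintype.card (Fin (k + 1) ⊕ Fin (k + 1)) = 2 * (k + 1) := by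
    simp only [Fintype.card_sum, Fintype.card_fin]; ring
  have hV₀ : finrank ↥(fixField σ) (Fin (k + 1) ⊕ Fin (k + 1) → ↥(fixField σ))
      = 2 * (k + 1) := by
    rw [Module.finrank_fintype_fun_eq_card, hcard]
  have hV : finrank F (Fin (k + 1) ⊕ Fin (k + 1) → F) = 2 * (k + 1) := by
    rw [Module.finrank_fintype_fun_eq_card, hcard]
  -- the type of `Q₂` over `F`
  have hQ₂F : NuS 1 Q₂ k := by
    have hHinv : ((H⁻¹ : GL _ F) : Matrix (Fin (k + 1) ⊕ Fin (k + 1))
        (Fin (k + 1) ⊕ Fin (k + 1)) F) * (H : Matrix _ _ F) = 1 := by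
      rw [← Units.val_mul, inv_mul_cancel, Units.val_one]
    have hHinv' : (H : Matrix (Fin (k + 1) ⊕ Fin (k + 1)) (Fin (k + 1) ⊕ Fin (k + 1)) F)
        * ((H⁻¹ : GL _ F) : Matrix _ _ F) = 1 := by
      rw [← Units.val_mul, mul_inv_cancel, Units.val_one]
    exact nuS_of_similar (Matrix.toLin'OfInv hHinv hHinv') (inv_ne_zero ν.ne_zero)
      (fun v => by rw [hQ₂]; rfl) (nuS_plusForm k)
  have hnd₂ : Nondeg (descendQ (fixField σ) Q₂ (mem_fixField_of_inv σ Q₂ hQ₂σ)) :=
    nondeg_descendQ _ _ _ hQ₂nd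
  have hQ₀ : NuS 1 (descendQ (fixField σ) (plusForm F (k + 1))
      (mem_fixField_of_inv σ _ hQσ)) k := by
    rw [descendQ_plusForm]
    exact nuS_plusForm k
  have hnd₀ : Nondeg (descendQ (fixField σ) (plusForm F (k + 1))
      (mem_fixField_of_inv σ _ hQσ)) := nondeg_descendQ _ _ _ hnd
  rcases dichotomy k hV₀ _ hnd₂ with ⟨hp, -⟩ | ⟨-, e, f, x, y, hell⟩
  · obtain ⟨φ, hφ⟩ := exists_isometry_of_nuS k hV₀ hV₀ _ _ hnd₀ hnd₂ 1 hQ₀ hp
    exact sim_of_descent σ (plusForm F (k + 1)) Q₂ hQσ hQ₂σ g H ν hgH hQ₂ 1 one_ne_zero φ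
      (fun v => by rw [hφ, one_mul])
  · exfalso
    obtain ⟨hhyp, hpx, hpy, hx, hxy, hζ⟩ := hell
    have hell' : IsEll Q₂ (fun i => cvec (fixField σ) (e i)) (fun i => cvec (fixField σ) (f i))
        (cvec (fixField σ) x) (cvec (fixField σ) y) := by
      refine ⟨isHyp_cvec (fixField σ) Q₂ _ hhyp, fun i => ?_, fun i => ?_, ?_, ?_, ?_⟩
      · constructor
        · rw [← coe_polar_descendQ (fixField σ) Q₂ (mem_fixField_of_inv σ Q₂ hQ₂σ), (hpx i).1]
          rfl
        · rw [← coe_polar_descendQ (fixField σ) Q₂ (mem_fixField_of_inv σ Q₂ hQ₂σ), (hpx i).2]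
          rfl
      · constructor
        · rw [← coe_polar_descendQ (fixField σ) Q₂ (mem_fixField_of_inv σ Q₂ hQ₂σ), (hpy i).1]
          rfl
        · rw [← coe_polar_descendQ (fixField σ) Q₂ (mem_fixField_of_inv σ Q₂ hQ₂σ), (hpy i).2]
          rfl
      · rw [← coe_descendQ (fixField σ) Q₂ (mem_fixField_of_inv σ Q₂ hQ₂σ), hx]
        rfl
      · rw [← coe_polar_descendQ (fixField σ) Q₂ (mem_fixField_of_inv σ Q₂ hQ₂σ), hxy]
        rfl
      · apply no_root_of_odd σ hodd hσr
        · exact mem_fixField_of_inv σ Q₂ hQ₂σ y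
        · intro t ht h0
          apply hζ ⟨t, ht⟩
          apply Subtype.ext
          exact h0
    have h1 := hell'.nuS (by rw [hV]; ring)
    have := h1.unique hQ₂F
    norm_num at this

end Main

end Cfsg.Agent.Helper8.AutO
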