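import Mathlib
import Cfsg.Agent.Helper8.AutImageOrth
import Cfsg.Agent.Helper8.OmegaSimple

set_option autoImplicit false

/-!
# The kernel of the action of the conformal orthogonal group on `PΩ` (odd characteristic) (helper8)
-/

namespace Cfsg.Agent.Helper8.AutImageKer

open Module Cfsg Cfsg.Agent.Helper8.AutImage Cfsg.Agent.Helper8.AutImageOrth
  Cfsg.Agent.Helper8.QuadForm Cfsg.Agent.Helper8.WittQuad Cfsg.Agent.Helper8.OrthOrder
  Cfsg.Agent.Helper8.Siegel Cfsg.Agent.Helper8.SiegelGeom Cfsg.Agent.Helper8.SiegelGroup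
  Cfsg.Agent.Helper8.SiegelSimple Cfsg.Agent.Helper8.Reflections
  Cfsg.Agent.Helper8.ReflMatrix Cfsg.Agent.Helper8.OmegaSimple
open scoped Matrix

section Linear

variable {F : Type*} [Field F] {V : Type*} [AddCommGroup V] [Module F V]

/-- a linear map commuting with a Siegel transformation `ρ_{u,w}`, `Q w ≠ 0`, in characteristic
different from two, preserves the line spanned by `u`. -/
theorem fix_of_commute_sieg (h2 : (2 : F) ≠ 0) (Q : QuadraticForm F V) (hQ : Nondeg Q) {u w : V}
    (hu0 : u ≠ 0) (hu : Q u = 0) (huw : QuadraticMap.polar Q u w = 0) (hw : Q w ≠ 0)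
    (k : V ≃ₗ[F] V) (hk : ∀ x, k (siegE Q u w x) = siegE Q u w (k x)) : ∃ t : F, k u = t • u := by
  have huu : QuadraticMap.polar Q u u = 0 := by rw [polar_self', hu, mul_zero]
  have hwu : QuadraticMap.polar Q w u = 0 := by rw [QuadraticMap.polar_comm]; exact huw
  have e1 : ∀ x, siegE Q u w x = x + QuadraticMap.polar Q x w • u - QuadraticMap.polar Q x u • w
      - (Q w * QuadraticMap.polar Q x u) • u := fun x => by
    rw [siegE_apply Q hu huw, sieg_apply]
  have e2 : ∀ x, siegE Q u w (siegE Q u w x) - (2 : F) • siegE Q u w x + x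
      = (-(2 * Q w * QuadraticMap.polar Q x u)) • u := by
    intro x
    have p1 : QuadraticMap.polar Q (siegE Q u w x) u = QuadraticMap.polar Q x u := by
      rw [siegE_apply Q hu huw, polar_sieg, huu, hwu]
      ring
    have p2 : QuadraticMap.polar Q (siegE Q u w x) w
        = QuadraticMap.polar Q x w - 2 * Q w * QuadraticMap.polar Q x u := by
      rw [siegE_apply Q hu huw, polar_sieg, huw, polar_self']
      ring
    rw [e1 (siegE Q u w x), p1, p2, e1 x]
    module
  obtain ⟨x, hx⟩ := exists_pair_one Q hQ hu0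
  have hxu : QuadraticMap.polar Q x u = 1 := by rw [QuadraticMap.polar_comm]; exact hx
  have h3 : k (siegE Q u w (siegE Q u w x) - (2 : F) • siegE Q u w x + x)
      = siegE Q u w (siegE Q u w (k x)) - (2 : F) • siegE Q u w (k x) + k x := by
    rw [map_add, map_sub, map_smul, hk, hk]
  rw [e2, e2, map_smul, hxu, mul_one] at h3
  refine ⟨QuadraticMap.polar Q (k x) u, ?_⟩
  have h4 : (2 * Q w) ≠ 0 := mul_ne_zero h2 hw
  have h5 : (2 * Q w) • k u = (2 * Q w) • (QuadraticMap.polar Q (k x) u • u) := by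
    rw [neg_smul, neg_smul, neg_inj] at h3
    rw [h3, smul_smul]
  exact smul_right_injective V h4 h5

end Linear

section MatrixPart

variable {F : Type*} [Field F] [Fintype F] {ι : Type} [Fintype ι] [DecidableEq ι]
  (Q : QuadraticForm F (ι → F))

/-- `Ω(Q)` is perfect as a group. -/
theorem commutator_Omega_eq_top (hQ : (QuadraticMap.polarBilin Q).Nondegenerate)
    (h5 : 5 ≤ Fintype.card ι) : commutator ↥(Cfsg.Omega F ⇑Q) = ⊤ := by
  have hS := commutator_SG_eq_top Q ((nondeg_iff Q).mp hQ) (by rw [finrank_fun]; exact h5)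
  obtain ⟨e, he⟩ : ∃ e : ↥(Cfsg.Omega F ⇑Q) ≃* ↥(SG Q), e = omegaEquiv Q hQ h5 := ⟨_, rfl⟩
  have h1 : (commutator ↥(Cfsg.Omega F ⇑Q)).map e.toMonoidHom = commutator ↥(SG Q) := by
    rw [commutator_def, Subgroup.map_commutator, ← MonoidHom.range_eq_map,
      MonoidHom.range_eq_top.mpr e.surjective, ← commutator_def]
  rw [eq_top_iff]
  intro x _
  have hx : e x ∈ (commutator ↥(Cfsg.Omega F ⇑Q)).map e.toMonoidHom := by
    rw [h1, hS]
    exact Subgroup.mem_top _
  obtain ⟨y, hy, hyx⟩ := hx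
  have : y = x := e.injective hyx
  rw [← this]
  exact hy

/-- an invertible matrix commuting with every element of `Ω(Q)` is a scalar matrix. -/
theorem scalar_of_centralizes (h2 : (2 : F) ≠ 0) (hQ : (QuadraticMap.polarBilin Q).Nondegenerate)
    (h5 : 5 ≤ Fintype.card ι) (g : GL ι F)
    (hcomm : ∀ s : ↥(Cfsg.isometryGroup F ⇑Q), s ∈ Cfsg.Omega F ⇑Q →
      g * (s : GL ι F) = (s : GL ι F) * g) :
    ∃ c : F, (g : Matrix ι ι F) = c • (1 : Matrix ι ι F) := by
  have hnd := (nondeg_iff Q).mp hQ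
  have hdim : 5 ≤ finrank F (ι → F) := by rw [finrank_fun]; exact h5
  have hfix : ∀ u : ι → F, u ≠ 0 → Q u = 0 → ∃ t : F, glEquiv g u = t • u := by
    intro u hu0 hu
    obtain ⟨e, f, hue, huf, he, hf, hef⟩ := exists_hyp_perp Q hnd hdim hu0
    have huw : QuadraticMap.polar Q u (e + f) = 0 := by
      rw [QuadraticMap.polar_add_right, hue, huf, add_zero]
    have hw : Q (e + f) ≠ 0 := by
      rw [QuadraticMap.map_add Q, he, hf, hef]
      simp
    have hmem : siegG Q u (e + f) ∈ SG Q := siegG_mem_SG Q hu huw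
    rw [← map_Omega Q hQ h5] at hmem
    obtain ⟨s, hs, hsg⟩ := hmem
    have hsv : glEquiv (s : GL ι F) = siegE Q u (e + f) := by
      have := congrArg Subtype.val hsg
      exact this
    apply fix_of_commute_sieg h2 Q hnd hu0 hu huw hw (glEquiv g)
    intro x
    have h3 := congrArg (fun k : GL ι F => glEquiv k x) (hcomm s hs)
    simp only [map_mul, LinearEquiv.mul_apply, hsv] at h3
    exact h3
  obtain ⟨l, hl⟩ := exists_scalar_of_fix Q hnd hdim (glEquiv g) hfix
  refine ⟨l, matrix_ext (fun x => ?_)⟩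
  rw [← glEquiv_apply, hl, Matrix.smul_mulVec, Matrix.one_mulVec]

/-- the kernel of the action of the similarity group on `PΩ` consists of the scalar matrices. -/
theorem Phi_eq_one_iff (h2 : (2 : F) ≠ 0) (hQ : (QuadraticMap.polarBilin Q).Nondegenerate)
    (h5 : 5 ≤ Fintype.card ι) (g : ↥(Cfsg.Geo.quadSimilarityGroup (F := F) ⇑Q)) :
    Phi ⇑Q g = 1 ↔ ∃ c : F, ((g : GL ι F) : Matrix ι ι F) = c • (1 : Matrix ι ι F) := by
  constructor
  · intro h
    have h1 : conjOmega ⇑Q g = 1 :=
      eq_one_of_quotCenter_eq_one (commutator_Omega_eq_top Q hQ h5) _ h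
    apply scalar_of_centralizes Q h2 hQ h5
    intro s hs
    have h3 := congrArg (fun β : MulAut ↥(Cfsg.Omega F ⇑Q) =>
      (((β ⟨s, hs⟩ : ↥(Cfsg.Omega F ⇑Q)) : ↥(Cfsg.isometryGroup F ⇑Q)) : GL ι F)) h1
    simp only [conjOmega_val, MulAut.one_apply] at h3
    exact mul_inv_eq_iff_eq_mul.mp h3
  · rintro ⟨c, hc⟩
    have h1 : conjOmega ⇑Q g = 1 := by
      apply MulEquiv.ext
      intro t
      rw [MulAut.one_apply]
      apply Subtype.ext
      apply Subtype.ext
      rw [conjOmega_val]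
      rw [mul_inv_eq_iff_eq_mul]
      apply Units.ext
      rw [Units.val_mul, Units.val_mul, hc, Matrix.smul_mul, Matrix.one_mul, Matrix.mul_smul,
        Matrix.mul_one]
    show quotCenter (conjOmega ⇑Q g) = 1
    rw [h1, map_one]

end MatrixPart

end Cfsg.Agent.Helper8.AutImageKer
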