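import Mathlib
import Cfsg.Agent.Helper8.AutImageKer

set_option autoImplicit false

/-!
# The conformal orthogonal group modulo the special orthogonal group and the scalars (helper8)

For a nondegenerate quadratic form in even dimension `2k ≥ 6` over a finite field of odd
characteristic, the image of the conformal group in `Aut(PΩ)` modulo the image of the special
orthogonal group is a four-group (as soon as there is a similarity with nonsquare multiplier).
-/

namespace Cfsg.Agent.Helper8.AutImagePsi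

open Module Cfsg Cfsg.Agent.Helper8.AutImage Cfsg.Agent.Helper8.AutImageOrth
  Cfsg.Agent.Helper8.AutImageKer Cfsg.Agent.Helper8.QuadForm Cfsg.Agent.Helper8.Reflections
  Cfsg.Agent.Helper8.ReflMatrix
open scoped Matrix

/-- `ℤˣ ≃* Z/2`. -/
def unitsZ2 : ℤˣ ≃* Multiplicative (ZMod 2) where
  toFun u := if u = 1 then 1 else Multiplicative.ofAdd 1
  invFun z := if z = 1 then 1 else -1
  left_inv := by decide
  right_inv := by decide
  map_mul' := by decide

/-- `ℤˣ × ℤˣ ≃* (Z/2)²`. -/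
noncomputable def kleinEquiv : ℤˣ × ℤˣ ≃* Multiplicative (ZMod 2 × ZMod 2) :=
  (MulEquiv.prodCongr unitsZ2 unitsZ2).trans (MulEquiv.prodMultiplicative (ZMod 2) (ZMod 2)).symm

section Mult

variable {F : Type*} [Field F] {ι : Type} [Fintype ι] [DecidableEq ι] (Q : (ι → F) → F)

/-- the multiplier of a similarity (a choice, unique when `Q ≠ 0`). -/
noncomputable def multFun (g : ↥(Geo.quadSimilarityGroup (F := F) Q)) : Fˣ := Classical.choose g.2

theorem multFun_spec (g : ↥(Geo.quadSimilarityGroup (F := F) Q)) (v : ι → F) :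
    Q (((g : GL ι F) : Matrix ι ι F) *ᵥ v) = (multFun Q g : F) * Q v :=
  Classical.choose_spec g.2 v

theorem multFun_unique (hne : ∃ v, Q v ≠ 0) (g : ↥(Geo.quadSimilarityGroup (F := F) Q)) {c : Fˣ}
    (hc : ∀ v, Q (((g : GL ι F) : Matrix ι ι F) *ᵥ v) = (c : F) * Q v) : multFun Q g = c := by
  obtain ⟨v, hv⟩ := hne
  have h1 := multFun_spec Q g v
  rw [hc v] at h1
  exact Units.ext (mul_right_cancel₀ hv h1).symm

/-- the multiplier homomorphism. -/
noncomputable def mult (hne : ∃ v, Q v ≠ 0) : ↥(Geo.quadSimilarityGroup (F := F) Q) →* Fˣ :=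
  MonoidHom.mk' (multFun Q) (by
    intro a b
    apply multFun_unique Q hne
    intro v
    rw [Subgroup.coe_mul, Units.val_mul, ← Matrix.mulVec_mulVec, multFun_spec Q a,
      multFun_spec Q b, Units.val_mul, mul_assoc])

theorem mult_spec (hne : ∃ v, Q v ≠ 0) (g : ↥(Geo.quadSimilarityGroup (F := F) Q)) (v : ι → F) :
    Q (((g : GL ι F) : Matrix ι ι F) *ᵥ v) = (mult Q hne g : F) * Q v := multFun_spec Q g v

theorem mult_eq_of (hne : ∃ v, Q v ≠ 0) (g : ↥(Geo.quadSimilarityGroup (F := F) Q)) {c : Fˣ}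
    (hc : ∀ v, Q (((g : GL ι F) : Matrix ι ι F) *ᵥ v) = (c : F) * Q v) : mult Q hne g = c :=
  multFun_unique Q hne g hc

theorem mult_of_isometry (hne : ∃ v, Q v ≠ 0) (g : ↥(Geo.quadSimilarityGroup (F := F) Q))
    (hg : (g : GL ι F) ∈ isometryGroup F Q) : mult Q hne g = 1 := by
  apply mult_eq_of
  intro v
  rw [Units.val_one, one_mul]
  exact (mem_isometryGroup_iff' Q _).mp hg v

theorem isometry_of_mult (hne : ∃ v, Q v ≠ 0) (g : ↥(Geo.quadSimilarityGroup (F := F) Q))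
    (hg : mult Q hne g = 1) : (g : GL ι F) ∈ isometryGroup F Q := by
  rw [mem_isometryGroup_iff']
  intro v
  rw [mult_spec Q hne, hg, Units.val_one, one_mul]

end Mult

section Det

variable {F : Type*} [Field F] {ι : Type} [Fintype ι] [DecidableEq ι]
  (Q : QuadraticForm F (ι → F))

/-- the determinant of a similarity squares to the `n`-th power of the multiplier. -/
theorem det_sq (hQ : (QuadraticMap.polarBilin Q).Nondegenerate) (g : Matrix ι ι F) (c : F)
    (hc : ∀ v, Q (g *ᵥ v) = c * Q v) : g.det ^ 2 = c ^ Fintype.card ι := by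
  obtain ⟨B, hB⟩ : ∃ B : LinearMap.BilinForm F (ι → F), B = QuadraticMap.polarBilin Q := ⟨_, rfl⟩
  have hcomp : B.comp (Matrix.toLin' g) (Matrix.toLin' g) = c • B := by
    refine LinearMap.ext fun x => LinearMap.ext fun y => ?_
    rw [hB]
    show QuadraticMap.polar Q (Matrix.toLin' g x) (Matrix.toLin' g y) = c * QuadraticMap.polar Q x y
    rw [Matrix.toLin'_apply, Matrix.toLin'_apply]
    unfold QuadraticMap.polar
    rw [← Matrix.mulVec_add, hc, hc, hc]
    ring
  have hmat := congrArg LinearMap.BilinForm.toMatrix' hcomp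
  rw [LinearMap.BilinForm.toMatrix'_comp, LinearMap.toMatrix'_toLin', map_smul] at hmat
  have hdet := congrArg Matrix.det hmat
  rw [Matrix.det_mul, Matrix.det_mul, Matrix.det_transpose, Matrix.det_smul] at hdet
  have hnd : (LinearMap.BilinForm.toMatrix' B).det ≠ 0 := by
    rw [← Matrix.nondegenerate_iff_det_ne_zero, LinearMap.BilinForm.nondegenerate_toMatrix'_iff, hB]
    exact hQ
  apply mul_right_cancel₀ hnd
  rw [← hdet]
  ring

theorem neg_one_ne_one_units : (-1 : ℤˣ) ≠ 1 := by decide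

theorem sign_ite_mul {K : Type*} [Field K] [DecidableEq K] (h2 : (2 : K) ≠ 0) {x y mx my : K}
    (hmx : mx ≠ 0) (hmy : my ≠ 0)
    (hx : x = mx ∨ x = -mx) (hy : y = my ∨ y = -my) :
    (if x * y = mx * my then (1 : ℤˣ) else -1)
      = (if x = mx then 1 else -1) * (if y = my then 1 else -1) := by
  have hne : ∀ a : K, a ≠ 0 → -a ≠ a := by
    intro a ha h
    apply ha
    have : (2 : K) * a = 0 := by linear_combination -h
    exact (mul_eq_zero.mp this).resolve_left h2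
  rcases hx with rfl | rfl <;> rcases hy with rfl | rfl
  · simp
  · rw [if_pos rfl, if_neg (hne _ hmy), if_neg]
    · simp
    · rw [mul_neg]
      exact hne _ (mul_ne_zero hmx hmy)
  · rw [if_neg (hne _ hmx), if_pos rfl, if_neg]
    · simp
    · rw [neg_mul]
      exact hne _ (mul_ne_zero hmx hmy)
  · rw [if_neg (hne _ hmx), if_neg (hne _ hmy), if_pos (by ring)]
    simp

variable (hQ : (QuadraticMap.polarBilin Q).Nondegenerate) (hne : ∃ v, Q v ≠ 0) (k : ℕ)
  (hk : Fintype.card ι = 2 * k)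

include hQ hk in
theorem det_cases (g : ↥(Geo.quadSimilarityGroup (F := F) ⇑Q)) :
    ((g : GL ι F) : Matrix ι ι F).det = ((mult ⇑Q hne g : Fˣ) : F) ^ k ∨
      ((g : GL ι F) : Matrix ι ι F).det = -((mult ⇑Q hne g : Fˣ) : F) ^ k := by
  have h := det_sq Q hQ _ _ (mult_spec ⇑Q hne g)
  rw [hk, pow_mul'] at h
  exact sq_eq_sq_iff_eq_or_eq_neg.mp h

open Classical in
/-- the sign `det g / μ(g)^k`. -/
noncomputable def psi2 (h2 : (2 : F) ≠ 0) (hQ : (QuadraticMap.polarBilin Q).Nondegenerate)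
    (hne : ∃ v, Q v ≠ 0) (k : ℕ) (hk : Fintype.card ι = 2 * k) :
    ↥(Geo.quadSimilarityGroup (F := F) ⇑Q) →* ℤˣ :=
  MonoidHom.mk' (fun g => if ((g : GL ι F) : Matrix ι ι F).det = ((mult ⇑Q hne g : Fˣ) : F) ^ k
    then 1 else -1) (by
    intro a b
    rw [Subgroup.coe_mul, Units.val_mul, Matrix.det_mul, map_mul, Units.val_mul, mul_pow]
    exact sign_ite_mul h2 (pow_ne_zero _ (Units.ne_zero _)) (pow_ne_zero _ (Units.ne_zero _))
      (det_cases Q hQ hne k hk a) (det_cases Q hQ hne k hk b))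

theorem psi2_eq_one_iff (h2 : (2 : F) ≠ 0) (g : ↥(Geo.quadSimilarityGroup (F := F) ⇑Q)) :
    psi2 Q h2 hQ hne k hk g = 1 ↔
      ((g : GL ι F) : Matrix ι ι F).det = ((mult ⇑Q hne g : Fˣ) : F) ^ k := by
  classical
  show (if ((g : GL ι F) : Matrix ι ι F).det = ((mult ⇑Q hne g : Fˣ) : F) ^ k
    then (1 : ℤˣ) else -1) = 1 ↔ _
  constructor
  · intro h
    by_contra hcon
    rw [if_neg hcon] at h
    exact neg_one_ne_one_units h
  · intro h
    rw [if_pos h]

theorem psi2_eq_neg_one_iff (h2 : (2 : F) ≠ 0) (g : ↥(Geo.quadSimilarityGroup (F := F) ⇑Q)) :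
    psi2 Q h2 hQ hne k hk g = -1 ↔
      ((g : GL ι F) : Matrix ι ι F).det ≠ ((mult ⇑Q hne g : Fˣ) : F) ^ k := by
  rw [Ne, ← psi2_eq_one_iff Q hQ hne k hk h2]
  rcases Int.units_eq_one_or (psi2 Q h2 hQ hne k hk g) with h | h
  · rw [h]
    constructor
    · intro h'
      exact absurd h'.symm neg_one_ne_one_units
    · intro h'
      exact absurd rfl h'
  · rw [h]
    exact ⟨fun _ => neg_one_ne_one_units, fun _ => rfl⟩

variable [Fintype F]

open Classical in
/-- the quadratic character of the multiplier. -/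
noncomputable def psi1 (hne : ∃ v, Q v ≠ 0) : ↥(Geo.quadSimilarityGroup (F := F) ⇑Q) →* ℤˣ :=
  (quadraticChar F).toUnitHom.comp (mult ⇑Q hne)

theorem psi1_eq_one_iff (g : ↥(Geo.quadSimilarityGroup (F := F) ⇑Q)) :
    psi1 Q hne g = 1 ↔ IsSquare ((mult ⇑Q hne g : Fˣ) : F) := by
  classical
  rw [Units.ext_iff]
  show (((quadraticChar F).toUnitHom (mult ⇑Q hne g) : ℤˣ) : ℤ) = 1 ↔ _
  rw [MulChar.coe_toUnitHom, quadraticChar_one_iff_isSquare (Units.ne_zero _)]

/-- the homomorphism to the four-group. -/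
noncomputable def psi (h2 : (2 : F) ≠ 0) (hQ : (QuadraticMap.polarBilin Q).Nondegenerate)
    (hne : ∃ v, Q v ≠ 0) (k : ℕ) (hk : Fintype.card ι = 2 * k) :
    ↥(Geo.quadSimilarityGroup (F := F) ⇑Q) →* ℤˣ × ℤˣ :=
  (psi1 Q hne).prod (psi2 Q h2 hQ hne k hk)

theorem psi_apply (h2 : (2 : F) ≠ 0) (g : ↥(Geo.quadSimilarityGroup (F := F) ⇑Q)) :
    psi Q h2 hQ hne k hk g = (psi1 Q hne g, psi2 Q h2 hQ hne k hk g) := rfl

theorem psi_eq_one_iff (h2 : (2 : F) ≠ 0) (g : ↥(Geo.quadSimilarityGroup (F := F) ⇑Q)) :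
    psi Q h2 hQ hne k hk g = 1 ↔ IsSquare ((mult ⇑Q hne g : Fˣ) : F) ∧
      ((g : GL ι F) : Matrix ι ι F).det = ((mult ⇑Q hne g : Fˣ) : F) ^ k := by
  rw [psi_apply, Prod.mk_eq_one, psi1_eq_one_iff, psi2_eq_one_iff]

end Det

section Main

variable {F : Type*} [Field F] [Fintype F] {ι : Type} [Fintype ι] [DecidableEq ι]
  (Q : QuadraticForm F (ι → F))

/-- scalar matrices as similarities. -/
noncomputable def scalarGO (c : Fˣ) : ↥(Geo.quadSimilarityGroup (F := F) ⇑Q) :=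
  ⟨Matrix.GeneralLinearGroup.scalar ι c, ⟨c * c, fun v => by
    rw [Matrix.GeneralLinearGroup.coe_scalar, Matrix.scalar_apply, ← Matrix.smul_one_eq_diagonal,
      Matrix.smul_mulVec, Matrix.one_mulVec, QuadraticMap.map_smul, Units.val_mul, smul_eq_mul]⟩⟩

theorem scalarGO_val (c : Fˣ) :
    ((scalarGO Q c : GL ι F) : Matrix ι ι F) = (c : F) • (1 : Matrix ι ι F) := by
  show ((Matrix.GeneralLinearGroup.scalar ι c : GL ι F) : Matrix ι ι F) = _
  rw [Matrix.GeneralLinearGroup.coe_scalar, Matrix.scalar_apply, ← Matrix.smul_one_eq_diagonal]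

theorem mult_of_scalar (hne : ∃ v, Q v ≠ 0) (g : ↥(Geo.quadSimilarityGroup (F := F) ⇑Q)) (c : Fˣ)
    (hg : ((g : GL ι F) : Matrix ι ι F) = (c : F) • (1 : Matrix ι ι F)) :
    mult ⇑Q hne g = c * c := by
  apply mult_eq_of
  intro v
  rw [hg, Matrix.smul_mulVec, Matrix.one_mulVec, QuadraticMap.map_smul, Units.val_mul, smul_eq_mul]

variable (h2 : (2 : F) ≠ 0) (hQ : (QuadraticMap.polarBilin Q).Nondegenerate)
  (h5 : 5 ≤ Fintype.card ι) (hne : ∃ v, Q v ≠ 0) (k : ℕ) (hk : Fintype.card ι = 2 * k)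

include h5 in
theorem psi_ker_eq : (psi Q h2 hQ hne k hk).ker
    = ((specialIsometryGL F ⇑Q).subgroupOf (Geo.quadSimilarityGroup (F := F) ⇑Q))
      ⊔ (Phi ⇑Q).ker := by
  apply le_antisymm
  · intro g hg
    rw [MonoidHom.mem_ker, psi_eq_one_iff] at hg
    obtain ⟨⟨c, hc⟩, hdet⟩ := hg
    have hc0 : c ≠ 0 := by
      intro h
      rw [h, mul_zero] at hc
      exact Units.ne_zero _ hc
    obtain ⟨cu, hcu⟩ : ∃ cu : Fˣ, cu = Units.mk0 c hc0 := ⟨_, rfl⟩
    have hcuv : (cu : F) = c := by rw [hcu]; rfl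
    have hmg : mult ⇑Q hne g = cu * cu := by
      apply Units.ext
      rw [hc, Units.val_mul, hcuv]
    have hz : scalarGO Q cu ∈ (Phi ⇑Q).ker := by
      rw [MonoidHom.mem_ker, Phi_eq_one_iff Q h2 hQ h5]
      exact ⟨cu, scalarGO_val Q cu⟩
    have hmz : mult ⇑Q hne (scalarGO Q cu) = cu * cu :=
      mult_of_scalar Q hne _ cu (scalarGO_val Q cu)
    have hg' : g * (scalarGO Q cu)⁻¹ ∈
        (specialIsometryGL F ⇑Q).subgroupOf (Geo.quadSimilarityGroup (F := F) ⇑Q) := by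
      rw [Subgroup.mem_subgroupOf]
      refine ⟨isometry_of_mult ⇑Q hne _ (by rw [map_mul, map_inv, hmg, hmz, mul_inv_cancel]), ?_⟩
      show Matrix.GeneralLinearGroup.det ((g * (scalarGO Q cu)⁻¹ : ↥(Geo.quadSimilarityGroup (F := F) ⇑Q)) : GL ι F) = 1
      rw [Subgroup.coe_mul, Subgroup.coe_inv, map_mul, map_inv, mul_inv_eq_one]
      apply Units.ext
      rw [Matrix.GeneralLinearGroup.val_det_apply, Matrix.GeneralLinearGroup.val_det_apply, hdet,
        scalarGO_val, Matrix.det_smul, Matrix.det_one, mul_one, hk, hc, hcuv]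
      ring
    have : g = g * (scalarGO Q cu)⁻¹ * scalarGO Q cu := by group
    rw [this]
    exact Subgroup.mul_mem_sup hg' hz
  · apply sup_le
    · intro g hg
      rw [Subgroup.mem_subgroupOf] at hg
      have hm : mult ⇑Q hne g = 1 := mult_of_isometry ⇑Q hne g hg.1
      rw [MonoidHom.mem_ker, psi_eq_one_iff, hm, Units.val_one, one_pow]
      refine ⟨⟨1, (mul_one 1).symm⟩, ?_⟩
      have := hg.2
      exact congrArg Units.val this
    · intro g hg
      rw [MonoidHom.mem_ker, Phi_eq_one_iff Q h2 hQ h5] at hg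
      obtain ⟨c, hc⟩ := hg
      have hc0 : c ≠ 0 := by
        intro h
        have hdet : ((g : GL ι F) : Matrix ι ι F).det ≠ 0 := by
          have := (Matrix.GeneralLinearGroup.det (g : GL ι F)).ne_zero
          exact this
        apply hdet
        rw [hc, h, zero_smul]
        haveI : Nonempty ι := Fintype.card_pos_iff.mp (by omega)
        exact Matrix.det_zero
      obtain ⟨cu, hcu⟩ : ∃ cu : Fˣ, cu = Units.mk0 c hc0 := ⟨_, rfl⟩
      have hcuv : (cu : F) = c := by rw [hcu]; rfl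
      have hm : mult ⇑Q hne g = cu * cu := mult_of_scalar Q hne g cu (by rw [hc, hcuv])
      rw [MonoidHom.mem_ker, psi_eq_one_iff, hm, Units.val_mul, hcuv]
      refine ⟨⟨c, rfl⟩, ?_⟩
      rw [hc, Matrix.det_smul, Matrix.det_one, mul_one, hk]
      ring

include h5 in
theorem psi_surjective
    (hd : ∃ d : ↥(Geo.quadSimilarityGroup (F := F) ⇑Q), ¬ IsSquare ((mult ⇑Q hne d : Fˣ) : F)) :
    Function.Surjective (psi Q h2 hQ hne k hk) := by
  obtain ⟨o, ho⟩ := hne
  have hne' : ∃ v, Q v ≠ 0 := ⟨o, ho⟩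
  obtain ⟨r, hr⟩ : ∃ r : ↥(Geo.quadSimilarityGroup (F := F) ⇑Q),
      r = ⟨((reflElt Q o : ↥(Cfsg.isometryGroup F ⇑Q)) : GL ι F),
        isometry_le_similarity ⇑Q (reflElt Q o).2⟩ := ⟨_, rfl⟩
  have hrO : (r : GL ι F) ∈ Cfsg.isometryGroup F ⇑Q := by rw [hr]; exact (reflElt Q o).2
  have hrdet : ((r : GL ι F) : Matrix ι ι F).det = -1 := by
    rw [hr]
    show (((reflElt Q o : ↥(Cfsg.isometryGroup F ⇑Q)) : GL ι F) : Matrix ι ι F).det = -1
    rw [reflElt_val, det_reflectionMatrix Q ho]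
  have hrm : mult ⇑Q hne' r = 1 := mult_of_isometry ⇑Q hne' r hrO
  have hpr : psi Q h2 hQ hne' k hk r = (1, -1) := by
    rw [psi_apply]
    congr 1
    · rw [psi1_eq_one_iff, hrm, Units.val_one]
      exact ⟨1, (mul_one 1).symm⟩
    · rw [psi2_eq_neg_one_iff, hrm, Units.val_one, one_pow, hrdet]
      intro h
      apply h2
      have : (2 : F) = 1 - (-1) := by norm_num
      rw [this, h, sub_self]
  obtain ⟨d, hd⟩ := hd
  have hd1 : psi1 Q hne' d = -1 := by
    rcases Int.units_eq_one_or (psi1 Q hne' d) with h | h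
    · exact absurd ((psi1_eq_one_iff Q hne' d).mp h) hd
    · exact h
  obtain ⟨d', hd'⟩ : ∃ d' : ↥(Geo.quadSimilarityGroup (F := F) ⇑Q),
      psi Q h2 hQ hne' k hk d' = (-1, 1) := by
    rcases Int.units_eq_one_or (psi2 Q h2 hQ hne' k hk d) with h | h
    · exact ⟨d, by rw [psi_apply, hd1, h]⟩
    · refine ⟨d * r, ?_⟩
      rw [map_mul, hpr, psi_apply, hd1, h]
      rfl
  rintro ⟨a, b⟩
  rcases Int.units_eq_one_or a with rfl | rfl <;> rcases Int.units_eq_one_or b with rfl | rfl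
  · exact ⟨1, map_one _⟩
  · exact ⟨r, hpr⟩
  · exact ⟨d', hd'⟩
  · refine ⟨d' * r, ?_⟩
    rw [map_mul, hpr, hd']
    rfl

include h2 hQ h5 hk in
/-- **the image of the conformal group in `Aut(PΩ)` modulo the image of the special orthogonal
group is a four-group.** -/
theorem exists_klein_hom
    (hd : ∃ d : ↥(Geo.quadSimilarityGroup (F := F) ⇑Q), ¬ IsSquare ((mult ⇑Q hne d : Fˣ) : F)) :
    ∃ φ : ↥(Cfsg.pgoAut F ⇑Q) →* Multiplicative (ZMod 2 × ZMod 2), Function.Surjective φ ∧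
      φ.ker = (Cfsg.psoAut F ⇑Q).subgroupOf (Cfsg.pgoAut F ⇑Q) := by
  have hker : (kleinEquiv.toMonoidHom.comp (psi Q h2 hQ hne k hk)).ker
      = ((specialIsometryGL F ⇑Q).subgroupOf (Geo.quadSimilarityGroup (F := F) ⇑Q))
        ⊔ (Phi ⇑Q).ker := by
    rw [← psi_ker_eq Q h2 hQ h5 hne k hk]
    ext g
    rw [MonoidHom.mem_ker, MonoidHom.mem_ker, MonoidHom.comp_apply]
    exact kleinEquiv.map_eq_one_iff
  have hsurj : Function.Surjective (kleinEquiv.toMonoidHom.comp (psi Q h2 hQ hne k hk)) := by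
    rw [MonoidHom.coe_comp]
    exact kleinEquiv.surjective.comp (psi_surjective Q h2 hQ h5 hne k hk hd)
  have := exists_hom_of_range (Phi ⇑Q) (Cfsg.pgoAut F ⇑Q) (pgoAut_eq ⇑Q) _ hsurj _ hker
  rw [psoAut_eq]
  exact this

end Main

end Cfsg.Agent.Helper8.AutImagePsi
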