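import Mathlib
import Cfsg.Agent.Helper8.EvenRefl
import Cfsg.Agent.Helper8.OmegaOdd

/-!
# The special orthogonal group has a unique subgroup of index two (helper8)
-/

set_option autoImplicit false

namespace Cfsg.Agent.Helper8.SOIndexTwo

open Module Cfsg.Agent.Helper8.QuadForm Cfsg.Agent.Helper8.OrthOrder
  Cfsg.Agent.Helper8.Reflections Cfsg.Agent.Helper8.ReflMatrix Cfsg.Agent.Helper8.OmegaOdd
  Cfsg.Agent.Helper8.EvenRefl

variable {F : Type*} [Field F] {ι : Type} [Fintype ι] [DecidableEq ι]
  (Q : QuadraticForm F (ι → F))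

theorem prod_reverse (l : List (ι → F)) :
    (l.reverse.map (reflElt Q)).prod = ((l.map (reflElt Q)).prod)⁻¹ := by
  induction l with
  | nil => simp
  | cons z t ih =>
    rw [List.reverse_cons, List.map_append, List.prod_append, ih, List.map_cons, List.prod_cons,
      List.map_cons, List.map_nil, List.prod_cons, List.prod_nil, mul_one, mul_inv_rev,
      reflElt_inv]

theorem mem_special_iff (g : ↥(Cfsg.isometryGroup F ⇑Q)) :
    g ∈ Cfsg.specialIsometryGroup F ⇑Q ↔ ((g : GL ι F) : Matrix ι ι F).det = 1 := by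
  unfold Cfsg.specialIsometryGroup
  rw [MonoidHom.mem_ker, MonoidHom.comp_apply]
  constructor
  · intro h
    exact congrArg Units.val h
  · intro h
    exact Units.ext h

theorem prod_mem_special (l : List (ι → F)) (hl : ∀ z ∈ l, Q z ≠ 0) (hlen : Even l.length) :
    (l.map (reflElt Q)).prod ∈ Cfsg.specialIsometryGroup F ⇑Q := by
  rw [mem_special_iff, det_prod_reflElt Q l hl, hlen.neg_one_pow]

open Classical in
/-- membership of an even product of reflections in a subgroup of index two of `SO`: count the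
factors `r_z` with `r_o r_z` outside the subgroup. -/
theorem key (H' : Subgroup ↥(Cfsg.isometryGroup F ⇑Q))
    (hmul : ∀ a b, a ∈ Cfsg.specialIsometryGroup F ⇑Q → b ∈ Cfsg.specialIsometryGroup F ⇑Q →
      (a * b ∈ H' ↔ (a ∈ H' ↔ b ∈ H'))) {o : ι → F} (ho : Q o ≠ 0) :
    ∀ (n : ℕ) (L : List (ι → F)), L.length = 2 * n → (∀ z ∈ L, Q z ≠ 0) →
      ((L.map (reflElt Q)).prod ∈ H' ↔
        Even (L.countP (fun z => decide (reflElt Q o * reflElt Q z ∉ H')))) := by
  intro n
  induction n with
  | zero =>
    intro L hlen _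
    have : L = [] := List.length_eq_zero_iff.mp (by omega)
    subst this
    simp [Subgroup.one_mem]
  | succ n ih =>
    intro L hlen hL
    match L, hlen, hL with
    | [], hlen, _ => simp at hlen
    | [x], hlen, _ => simp at hlen; omega
    | u :: v :: t, hlen, hL =>
      have hu : Q u ≠ 0 := hL u (by simp)
      have hv : Q v ≠ 0 := hL v (by simp)
      have ht : ∀ z ∈ t, Q z ≠ 0 := fun z hz => hL z (by simp [hz])
      have htlen : t.length = 2 * n := by
        simp only [List.length_cons] at hlen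
        omega
      have hIH := ih t htlen ht
      have hS2 : ∀ x y : ι → F, Q x ≠ 0 → Q y ≠ 0 →
          reflElt Q x * reflElt Q y ∈ Cfsg.specialIsometryGroup F ⇑Q := by
        intro x y hx hy
        have := prod_mem_special Q [x, y] (by
          intro z hz
          simp only [List.mem_cons, List.not_mem_nil, or_false] at hz
          rcases hz with rfl | rfl
          · exact hx
          · exact hy) ⟨1, rfl⟩
        simpa using this
      have htS : (t.map (reflElt Q)).prod ∈ Cfsg.specialIsometryGroup F ⇑Q :=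
        prod_mem_special Q t ht ⟨n, by omega⟩
      have e1 : ((u :: v :: t).map (reflElt Q)).prod
          = (reflElt Q u * reflElt Q v) * (t.map (reflElt Q)).prod := by
        rw [List.map_cons, List.map_cons, List.prod_cons, List.prod_cons, mul_assoc]
      have e2 : reflElt Q u * reflElt Q v
          = (reflElt Q o * reflElt Q u)⁻¹ * (reflElt Q o * reflElt Q v) := by
        rw [mul_inv_rev, reflElt_inv, reflElt_inv, mul_assoc, ← mul_assoc (reflElt Q o),
          reflElt_mul_self, one_mul]
      have h1 := hmul _ _ (hS2 u v hu hv) htS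
      have h2 := hmul _ _ ((Cfsg.specialIsometryGroup F ⇑Q).inv_mem (hS2 o u ho hu))
        (hS2 o v ho hv)
      rw [← e2, inv_mem_iff] at h2
      rw [e1, h1, h2, hIH, List.countP_cons, List.countP_cons]
      by_cases hAu : reflElt Q o * reflElt Q u ∈ H' <;>
        by_cases hAv : reflElt Q o * reflElt Q v ∈ H' <;>
        simp [hAu, hAv, Nat.even_add_one] <;> tauto

section main

open scoped commutatorElement

variable [Fintype F]

open Classical in
theorem commutator_le (hQ : (QuadraticMap.polarBilin Q).Nondegenerate)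
    (hn : 2 ≤ Fintype.card ι) (hex : Fintype.card F ≠ 2 ∨ Fintype.card ι ≠ 4)
    (H' : Subgroup ↥(Cfsg.isometryGroup F ⇑Q))
    (hmul : ∀ a b, a ∈ Cfsg.specialIsometryGroup F ⇑Q → b ∈ Cfsg.specialIsometryGroup F ⇑Q →
      (a * b ∈ H' ↔ (a ∈ H' ↔ b ∈ H'))) :
    commutator ↥(Cfsg.isometryGroup F ⇑Q) ≤ H' := by
  have hnd := (nondeg_iff Q).mp hQ
  have hdim : 2 ≤ finrank F (ι → F) := by rw [Module.finrank_fintype_fun_eq_card]; exact hn
  obtain ⟨o, ho⟩ := exists_repr Q hnd hdim 1
  have ho0 : Q o ≠ 0 := by rw [ho]; exact one_ne_zero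
  rw [commutator_eq_closure, Subgroup.closure_le]
  rintro _ ⟨a, b, rfl⟩
  obtain ⟨la, hla, rfl⟩ := exists_list_reflElt_all Q hQ hex a
  obtain ⟨lb, hlb, rfl⟩ := exists_list_reflElt_all Q hQ hex b
  have hprod : ⁅(la.map (reflElt Q)).prod, (lb.map (reflElt Q)).prod⁆
      = ((la ++ lb ++ la.reverse ++ lb.reverse).map (reflElt Q)).prod := by
    rw [commutatorElement_def, List.map_append, List.map_append, List.map_append, List.prod_append,
      List.prod_append, List.prod_append, prod_reverse, prod_reverse]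
  rw [SetLike.mem_coe, hprod]
  have hlen : (la ++ lb ++ la.reverse ++ lb.reverse).length = 2 * (la.length + lb.length) := by
    simp only [List.length_append, List.length_reverse]
    ring
  have hall : ∀ z ∈ la ++ lb ++ la.reverse ++ lb.reverse, Q z ≠ 0 := by
    intro z hz
    simp only [List.mem_append, List.mem_reverse] at hz
    rcases hz with ((hz | hz) | hz) | hz
    · exact hla z hz
    · exact hlb z hz
    · exact hla z hz
    · exact hlb z hz
  rw [key Q H' hmul ho0 _ _ hlen hall]
  simp only [List.countP_append, List.countP_reverse]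
  exact ⟨la.countP _ + lb.countP _, by ring⟩

theorem det_eq_one_or (hQ : (QuadraticMap.polarBilin Q).Nondegenerate)
    (hex : Fintype.card F ≠ 2 ∨ Fintype.card ι ≠ 4) (g : ↥(Cfsg.isometryGroup F ⇑Q)) :
    ((g : GL ι F) : Matrix ι ι F).det = 1 ∨ ((g : GL ι F) : Matrix ι ι F).det = -1 := by
  obtain ⟨l, hl, rfl⟩ := exists_list_reflElt_all Q hQ hex g
  rw [det_prod_reflElt Q l hl]
  exact neg_one_pow_eq_or F l.length

theorem index_special (hQ : (QuadraticMap.polarBilin Q).Nondegenerate)
    (hn : 2 ≤ Fintype.card ι) (hex : Fintype.card F ≠ 2 ∨ Fintype.card ι ≠ 4) :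
    ((2 : F) = 0 → (Cfsg.specialIsometryGroup F ⇑Q).index = 1) ∧
    ((2 : F) ≠ 0 → (Cfsg.specialIsometryGroup F ⇑Q).index = 2) := by
  constructor
  · intro h2
    have htop : Cfsg.specialIsometryGroup F ⇑Q = ⊤ := by
      rw [eq_top_iff]
      intro g _
      rw [mem_special_iff]
      rcases det_eq_one_or Q hQ hex g with h | h
      · exact h
      · rw [h]
        have : (1 : F) + 1 = 0 := by rw [one_add_one_eq_two]; exact h2
        exact neg_eq_of_add_eq_zero_left this
    rw [htop, Subgroup.index_top]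
  · intro h2
    have hnd := (nondeg_iff Q).mp hQ
    have hdim : 2 ≤ finrank F (ι → F) := by rw [Module.finrank_fintype_fun_eq_card]; exact hn
    obtain ⟨o, ho⟩ := exists_repr Q hnd hdim 1
    have ho0 : Q o ≠ 0 := by rw [ho]; exact one_ne_zero
    have hne : (-1 : F) ≠ 1 := by
      intro h
      apply h2
      have : (2 : F) = 1 - (-1) := by norm_num
      rw [this, h, sub_self]
    rw [Subgroup.index_eq_two_iff]
    refine ⟨reflElt Q o, fun b => ?_⟩
    have hdet : (((b * reflElt Q o : ↥(Cfsg.isometryGroup F ⇑Q)) : GL ι F) : Matrix ι ι F).det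
        = -((b : GL ι F) : Matrix ι ι F).det := by
      rw [Subgroup.coe_mul, Units.val_mul, Matrix.det_mul, reflElt_val,
        det_reflectionMatrix Q ho0]
      ring
    rw [mem_special_iff, mem_special_iff, hdet]
    rcases det_eq_one_or Q hQ hex b with h | h
    · right
      rw [h]
      exact ⟨rfl, hne⟩
    · left
      rw [h]
      exact ⟨by ring, hne⟩

/-- **`SO` has a unique subgroup of index two**, namely `Ω`. -/
theorem existsUnique_index_two (hQ : (QuadraticMap.polarBilin Q).Nondegenerate)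
    (hn : 2 ≤ Fintype.card ι) (hex : Fintype.card F ≠ 2 ∨ Fintype.card ι ≠ 4) :
    ∃! H : Subgroup ↥(Cfsg.specialIsometryGroup F ⇑Q), H.index = 2 := by
  classical
  have hle : commutator ↥(Cfsg.isometryGroup F ⇑Q) ≤ Cfsg.specialIsometryGroup F ⇑Q :=
    Abelianization.commutator_subset_ker _
  have hidx : ((commutator ↥(Cfsg.isometryGroup F ⇑Q)).subgroupOf
      (Cfsg.specialIsometryGroup F ⇑Q)).index = 2 := by
    have h1 := Subgroup.relIndex_mul_index hle
    obtain ⟨hS1, hS2⟩ := index_special Q hQ hn hex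
    by_cases h2 : (2 : F) = 0
    · rw [hS1 h2, (Cfsg.Agent.Helper8.OmegaEven.commutator_eq Q h2 hQ hn hex).1] at h1
      show (commutator ↥(Cfsg.isometryGroup F ⇑Q)).relIndex (Cfsg.specialIsometryGroup F ⇑Q) = 2
      omega
    · obtain ⟨e, he⟩ := exists_nonsquare (F := F) h2
      rw [hS2 h2, (Cfsg.Agent.Helper8.OmegaOdd.commutator_eq Q h2 hQ hn he).1] at h1
      show (commutator ↥(Cfsg.isometryGroup F ⇑Q)).relIndex (Cfsg.specialIsometryGroup F ⇑Q) = 2
      omega
  refine ⟨_, hidx, ?_⟩
  intro H hH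
  symm
  apply Subgroup.eq_of_le_of_card_ge
  · intro x hx
    rw [Subgroup.mem_subgroupOf] at hx
    have hmul : ∀ a b, a ∈ Cfsg.specialIsometryGroup F ⇑Q →
        b ∈ Cfsg.specialIsometryGroup F ⇑Q →
        (a * b ∈ H.map (Cfsg.specialIsometryGroup F ⇑Q).subtype ↔
          (a ∈ H.map (Cfsg.specialIsometryGroup F ⇑Q).subtype ↔
            b ∈ H.map (Cfsg.specialIsometryGroup F ⇑Q).subtype)) := by
      intro a b ha hb
      have hmem : ∀ c (hc : c ∈ Cfsg.specialIsometryGroup F ⇑Q),
          c ∈ H.map (Cfsg.specialIsometryGroup F ⇑Q).subtype ↔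
            (⟨c, hc⟩ : ↥(Cfsg.specialIsometryGroup F ⇑Q)) ∈ H := by
        intro c hc
        constructor
        · rintro ⟨y, hy, hyc⟩
          have : y = ⟨c, hc⟩ := Subtype.ext hyc
          rw [← this]
          exact hy
        · intro h
          exact ⟨⟨c, hc⟩, h, rfl⟩
      rw [hmem a ha, hmem b hb,
        hmem (a * b) ((Cfsg.specialIsometryGroup F ⇑Q).mul_mem ha hb)]
      exact Subgroup.mul_mem_iff_of_index_two hH (a := ⟨a, ha⟩) (b := ⟨b, hb⟩)
    obtain ⟨y, hy, hyx⟩ := commutator_le Q hQ hn hex _ hmul hx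
    have : y = x := Subtype.ext hyx
    rw [← this]
    exact hy
  · have h6 := Subgroup.card_mul_index H
    have h7 := Subgroup.card_mul_index ((commutator ↥(Cfsg.isometryGroup F ⇑Q)).subgroupOf
      (Cfsg.specialIsometryGroup F ⇑Q))
    rw [hH] at h6
    rw [hidx] at h7
    omega

end main

end Cfsg.Agent.Helper8.SOIndexTwo
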