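import Mathlib
import Cfsg.Agent.Helper8.AutImagePsi
import Cfsg.Agent.Helper8.SOIndexTwo

set_option autoImplicit false

/-!
# The index of `Inn(PΩ)` in the image of the special orthogonal group (helper8)
-/

namespace Cfsg.Agent.Helper8.AutImageIdx

open Module Cfsg Cfsg.Agent.Helper8.AutImage Cfsg.Agent.Helper8.AutImageOrth
  Cfsg.Agent.Helper8.AutImageKer Cfsg.Agent.Helper8.AutImagePsi Cfsg.Agent.Helper8.QuadForm
  Cfsg.Agent.Helper8.Reflections Cfsg.Agent.Helper8.ReflMatrix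
open scoped Matrix

section Generic

variable {F : Type*} [Field F] {ι : Type} [Fintype ι] [DecidableEq ι] (Q : (ι → F) → F)

/-- the action of the isometry group on `PΩ`. -/
noncomputable def PhiO : ↥(isometryGroup F Q) →* MulAut (POmega F Q) :=
  (Phi Q).comp (Subgroup.inclusion (isometry_le_similarity Q))

theorem map_subgroupOf (S' : Subgroup ↥(isometryGroup F Q)) :
    ((S'.map (isometryGroup F Q).subtype).subgroupOf (Geo.quadSimilarityGroup (F := F) Q)).map
      (Phi Q) = S'.map (PhiO Q) := by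
  ext β
  constructor
  · rintro ⟨g, hg, rfl⟩
    rw [SetLike.mem_coe, Subgroup.mem_subgroupOf] at hg
    obtain ⟨s, hs, hsg⟩ := hg
    refine ⟨s, hs, ?_⟩
    show Phi Q (Subgroup.inclusion (isometry_le_similarity Q) s) = Phi Q g
    congr 1
    exact Subtype.ext hsg
  · rintro ⟨s, hs, rfl⟩
    refine ⟨Subgroup.inclusion (isometry_le_similarity Q) s, ?_, rfl⟩
    rw [SetLike.mem_coe, Subgroup.mem_subgroupOf]
    exact ⟨s, hs, rfl⟩

theorem specialGL_eq : specialIsometryGL F Q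
    = (specialIsometryGroup F Q).map (isometryGroup F Q).subtype := by
  ext g
  constructor
  · rintro ⟨hg1, hg2⟩
    exact ⟨⟨g, hg1⟩, hg2, rfl⟩
  · rintro ⟨s, hs, rfl⟩
    exact ⟨s.2, hs⟩

theorem psoAut_eq' : psoAut F Q = (specialIsometryGroup F Q).map (PhiO Q) := by
  rw [psoAut_eq, specialGL_eq, map_subgroupOf]

theorem poAut_eq' : poAut F Q = (PhiO Q).range := by
  rw [poAut_eq, MonoidHom.range_eq_map, ← map_subgroupOf]
  congr 2
  ext g
  constructor
  · intro hg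
    exact ⟨⟨g, hg⟩, Subgroup.mem_top _, rfl⟩
  · rintro ⟨s, -, rfl⟩
    exact s.2

theorem PhiO_of_mem (s : ↥(Omega F Q)) :
    PhiO Q (s : ↥(isometryGroup F Q)) = MulAut.conj (QuotientGroup.mk s : POmega F Q) := by
  have h1 : conjOmega Q (Subgroup.inclusion (isometry_le_similarity Q) (s : ↥(isometryGroup F Q)))
      = MulAut.conj s := by
    apply MulEquiv.ext
    intro t
    apply Subtype.ext
    apply Subtype.ext
    rw [conjOmega_val, MulAut.conj_apply]
    rfl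
  show quotCenter (conjOmega Q (Subgroup.inclusion (isometry_le_similarity Q)
    (s : ↥(isometryGroup F Q)))) = _
  rw [h1, quotCenter_conj]

theorem Inn_eq' : Inn (POmega F Q) = (Omega F Q).map (PhiO Q) := by
  ext β
  constructor
  · rintro ⟨t, rfl⟩
    obtain ⟨s, rfl⟩ := QuotientGroup.mk_surjective t
    exact ⟨s.1, s.2, PhiO_of_mem Q s⟩
  · rintro ⟨s, hs, rfl⟩
    exact ⟨QuotientGroup.mk ⟨s, hs⟩, (PhiO_of_mem Q ⟨s, hs⟩).symm⟩

end Generic

section Main

variable {F : Type*} [Field F] [Fintype F] {ι : Type} [Fintype ι] [DecidableEq ι]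
  (Q : QuadraticForm F (ι → F))

/-- an isometry acting trivially on `PΩ` is `±1`. -/
theorem PhiO_eq_one_iff (h2 : (2 : F) ≠ 0) (hQ : (QuadraticMap.polarBilin Q).Nondegenerate)
    (h5 : 5 ≤ Fintype.card ι) (g : ↥(Cfsg.isometryGroup F ⇑Q)) :
    PhiO ⇑Q g = 1 ↔ ((g : GL ι F) : Matrix ι ι F) = 1 ∨ ((g : GL ι F) : Matrix ι ι F) = -1 := by
  show Phi ⇑Q (Subgroup.inclusion (isometry_le_similarity ⇑Q) g) = 1 ↔ _
  rw [Phi_eq_one_iff Q h2 hQ h5]
  constructor
  · rintro ⟨c, hc⟩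
    have hc' : ((g : GL ι F) : Matrix ι ι F) = c • (1 : Matrix ι ι F) := hc
    have hnd := (nondeg_iff Q).mp hQ
    have hdim : 2 ≤ finrank F (ι → F) := by
      rw [Module.finrank_fintype_fun_eq_card]; omega
    obtain ⟨o, ho⟩ := exists_repr Q hnd hdim 1
    have h1 := (mem_isometryGroup_iff' ⇑Q _).mp g.2 o
    rw [hc', Matrix.smul_mulVec, Matrix.one_mulVec, QuadraticMap.map_smul, ho, smul_eq_mul,
      mul_one] at h1
    have h3 : (c - 1) * (c + 1) = 0 := by linear_combination h1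
    rcases mul_eq_zero.mp h3 with h | h
    · left
      rw [hc', sub_eq_zero.mp h, one_smul]
    · right
      rw [hc', eq_neg_of_add_eq_zero_left h, neg_smul, one_smul]
  · rintro (h | h)
    · exact ⟨1, by rw [one_smul]; exact h⟩
    · exact ⟨-1, by rw [neg_smul, one_smul]; exact h⟩

/-- `Ω` has index two in `SO` (odd characteristic). -/
theorem relIndex_two (h2 : (2 : F) ≠ 0) (hQ : (QuadraticMap.polarBilin Q).Nondegenerate)
    (h5 : 5 ≤ Fintype.card ι) :
    (Cfsg.Omega F ⇑Q).relIndex (Cfsg.specialIsometryGroup F ⇑Q) = 2 := by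
  have hle : commutator ↥(Cfsg.isometryGroup F ⇑Q) ≤ Cfsg.specialIsometryGroup F ⇑Q :=
    Abelianization.commutator_subset_ker _
  have h1 := Subgroup.relIndex_mul_index hle
  obtain ⟨-, hS2⟩ := Cfsg.Agent.Helper8.SOIndexTwo.index_special Q hQ (by omega)
    (Or.inr (by omega))
  obtain ⟨e, he⟩ := Cfsg.Agent.Helper8.OmegaOdd.exists_nonsquare (F := F) h2
  rw [hS2 h2, (Cfsg.Agent.Helper8.OmegaOdd.commutator_eq Q h2 hQ (by omega) he).1] at h1
  show (commutator ↥(Cfsg.isometryGroup F ⇑Q)).relIndex (Cfsg.specialIsometryGroup F ⇑Q) = 2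
  omega

/-- `-1` as an isometry. -/
noncomputable def negO : ↥(Cfsg.isometryGroup F ⇑Q) :=
  ⟨-1, (mem_isometryGroup_iff' ⇑Q _).mpr (fun v => by
    rw [Units.val_neg, Units.val_one, Matrix.neg_mulVec, Matrix.one_mulVec, QuadraticMap.map_neg])⟩

theorem negO_val : ((negO Q : GL ι F) : Matrix ι ι F) = -1 := by
  show ((-1 : GL ι F) : Matrix ι ι F) = -1
  rw [Units.val_neg, Units.val_one]

theorem eq_negO {g : ↥(Cfsg.isometryGroup F ⇑Q)} (hg : ((g : GL ι F) : Matrix ι ι F) = -1) :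
    g = negO Q := by
  apply Subtype.ext
  apply Units.ext
  rw [hg, negO_val]

theorem eq_one_of_val {g : ↥(Cfsg.isometryGroup F ⇑Q)} (hg : ((g : GL ι F) : Matrix ι ι F) = 1) :
    g = 1 := by
  apply Subtype.ext
  apply Units.ext
  rw [hg]
  rfl

theorem negO_mem_special (heven : Even (Fintype.card ι)) :
    negO Q ∈ Cfsg.specialIsometryGroup F ⇑Q := by
  rw [Cfsg.Agent.Helper8.SOIndexTwo.mem_special_iff, negO_val, Matrix.det_neg, Matrix.det_one,
    heven.neg_one_pow, mul_one]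

/-- **the index of `Inn(PΩ)` in the image of `SO`** is `2` if `-1 ∈ Ω` and `1` otherwise. -/
theorem relIndex_Inn_psoAut (h2 : (2 : F) ≠ 0) (hQ : (QuadraticMap.polarBilin Q).Nondegenerate)
    (h5 : 5 ≤ Fintype.card ι) (heven : Even (Fintype.card ι)) :
    ((∃ g : ↥(Cfsg.isometryGroup F ⇑Q), g ∈ Cfsg.Omega F ⇑Q ∧
        ((g : GL ι F) : Matrix ι ι F) = -1) →
      (Cfsg.Inn (Cfsg.POmega F ⇑Q)).relIndex (Cfsg.psoAut F ⇑Q) = 2) ∧
    ((¬ ∃ g : ↥(Cfsg.isometryGroup F ⇑Q), g ∈ Cfsg.Omega F ⇑Q ∧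
        ((g : GL ι F) : Matrix ι ι F) = -1) →
      (Cfsg.Inn (Cfsg.POmega F ⇑Q)).relIndex (Cfsg.psoAut F ⇑Q) = 1) := by
  rw [Inn_eq', psoAut_eq']
  have hidx := relIndex_two Q h2 hQ h5
  have hneg1 : PhiO ⇑Q (negO Q) = 1 :=
    (PhiO_eq_one_iff Q h2 hQ h5 _).mpr (Or.inr (negO_val Q))
  have hnegS := negO_mem_special Q heven
  constructor
  · rintro ⟨g0, hg0, hg0m⟩
    have hnegΩ : negO Q ∈ Cfsg.Omega F ⇑Q := by rw [← eq_negO Q hg0m]; exact hg0
    obtain ⟨r, hrS, hrΩ, hall⟩ := Subgroup.relIndex_eq_two_iff_exists_notMem_and'.mp hidx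
    rw [Subgroup.relIndex_eq_two_iff_exists_notMem_and']
    refine ⟨PhiO ⇑Q r, Subgroup.mem_map_of_mem _ hrS, ?_, ?_⟩
    · rintro ⟨s, hs, hsr⟩
      have h1 : PhiO ⇑Q (s⁻¹ * r) = 1 := by rw [map_mul, map_inv, hsr, inv_mul_cancel]
      rcases (PhiO_eq_one_iff Q h2 hQ h5 _).mp h1 with h | h
      · have := eq_one_of_val Q h
        rw [inv_mul_eq_one] at this
        exact hrΩ (this ▸ hs)
      · have := eq_negO Q h
        have hr : r = s * negO Q := by rw [← this]; group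
        exact hrΩ (hr ▸ Subgroup.mul_mem _ hs hnegΩ)
    · rintro b ⟨g, hg, rfl⟩
      rcases hall g hg with h | h
      · left
        rw [← map_mul]
        exact Subgroup.mem_map_of_mem _ h
      · right
        exact Subgroup.mem_map_of_mem _ h
  · intro hno
    have hnegΩ : negO Q ∉ Cfsg.Omega F ⇑Q := fun h => hno ⟨negO Q, h, negO_val Q⟩
    rw [Subgroup.relIndex_eq_one]
    rintro b ⟨g, hg, rfl⟩
    by_cases hgΩ : g ∈ Cfsg.Omega F ⇑Q
    · exact Subgroup.mem_map_of_mem _ hgΩ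
    · have hidx' : ((Cfsg.Omega F ⇑Q).subgroupOf (Cfsg.specialIsometryGroup F ⇑Q)).index = 2 := hidx
      have h3 := Subgroup.mul_mem_iff_of_index_two hidx'
        (a := (⟨negO Q, hnegS⟩ : ↥(Cfsg.specialIsometryGroup F ⇑Q))) (b := ⟨g, hg⟩)
      rw [Subgroup.mem_subgroupOf, Subgroup.mem_subgroupOf, Subgroup.mem_subgroupOf] at h3
      have h4 : negO Q * g ∈ Cfsg.Omega F ⇑Q :=
        h3.mpr ⟨fun h => absurd h hnegΩ, fun h => absurd h hgΩ⟩
      refine ⟨negO Q * g, h4, ?_⟩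
      rw [map_mul, hneg1, one_mul]

end Main

end Cfsg.Agent.Helper8.AutImageIdx
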