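import Mathlib
import Cfsg.Agent.Helper8.SiegelSimple

set_option autoImplicit false

/-!
# Automorphisms of orthogonal groups, part a: basic interface for the Siegel group (helper8)
-/

namespace Cfsg.Agent.Helper8.AutO

open Module Cfsg.Agent.Helper8.QuadForm Cfsg.Agent.Helper8.WittQuad Cfsg.Agent.Helper8.OrthOrder
  Cfsg.Agent.Helper8.Siegel Cfsg.Agent.Helper8.SiegelGeom Cfsg.Agent.Helper8.SiegelGroup
  Cfsg.Agent.Helper8.SiegelPrim Cfsg.Agent.Helper8.SiegelSimple

variable {F : Type*} [Field F] {V : Type*} [AddCommGroup V] [Module F V] {Q : QuadraticForm F V}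

/-- the linear equivalence underlying an element of the Siegel group. -/
def ap (g : ↥(SG Q)) : V ≃ₗ[F] V := ((g : ↥(Isom Q)) : V ≃ₗ[F] V)

theorem ap_mul (g h : ↥(SG Q)) (x : V) : ap (g * h) x = ap g (ap h x) := rfl

theorem ap_one (x : V) : ap (1 : ↥(SG Q)) x = x := rfl

theorem ap_inv_ap (g : ↥(SG Q)) (x : V) : ap g⁻¹ (ap g x) = x :=
  (ap g).symm_apply_apply x

theorem ap_ap_inv (g : ↥(SG Q)) (x : V) : ap g (ap g⁻¹ x) = x :=
  (ap g).apply_symm_apply x

theorem Q_ap (g : ↥(SG Q)) (x : V) : Q (ap g x) = Q x := (g : ↥(Isom Q)).2 x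

theorem polar_ap (g : ↥(SG Q)) (x y : V) :
    QuadraticMap.polar Q (ap g x) (ap g y) = QuadraticMap.polar Q x y :=
  polar_isometry Q (ap g) (g : ↥(Isom Q)).2 x y

theorem polar_ap_left (g : ↥(SG Q)) (x y : V) :
    QuadraticMap.polar Q (ap g x) y = QuadraticMap.polar Q x (ap g⁻¹ y) := by
  rw [← polar_ap g x (ap g⁻¹ y), ap_ap_inv]

theorem ext_ap {g h : ↥(SG Q)} (H : ∀ x, ap g x = ap h x) : g = h := by
  apply Subtype.ext
  apply Subtype.ext
  exact LinearEquiv.ext H

theorem ap_ne_zero (g : ↥(SG Q)) {x : V} (hx : x ≠ 0) : ap g x ≠ 0 := fun h =>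
  hx ((ap g).map_eq_zero_iff.mp h)

/-- the Siegel transformation as an element of the Siegel group (the identity if the side
conditions fail). -/
noncomputable def sgT (Q : QuadraticForm F V) (u w : V) : ↥(SG Q) :=
  ⟨siegG Q u w, by
    by_cases h : Q u = 0 ∧ QuadraticMap.polar Q u w = 0
    · exact siegG_mem_SG Q h.1 h.2
    · have : siegG Q u w = 1 := Subtype.ext (siegE_of_not Q h)
      rw [this]
      exact (SG Q).one_mem⟩

theorem sgT_val (u w : V) : ((sgT Q u w : ↥(SG Q)) : ↥(Isom Q)) = siegG Q u w := rfl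

theorem ap_sgT {u w : V} (hu : Q u = 0) (huw : QuadraticMap.polar Q u w = 0) (x : V) :
    ap (sgT Q u w) x = x + QuadraticMap.polar Q x w • u - QuadraticMap.polar Q x u • w
      - (Q w * QuadraticMap.polar Q x u) • u := by
  show siegE Q u w x = _
  rw [siegE_apply Q hu huw, sieg_apply]

theorem sgT_mul {u w w' : V} (huw : QuadraticMap.polar Q u w = 0)
    (huw' : QuadraticMap.polar Q u w' = 0) : sgT Q u w * sgT Q u w' = sgT Q u (w + w') :=
  Subtype.ext (siegG_mul' Q huw huw')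

theorem sgT_zero (u : V) : sgT Q u 0 = 1 := Subtype.ext (siegG_zero Q u)

theorem sgT_inv {u w : V} (huw : QuadraticMap.polar Q u w = 0) :
    (sgT Q u w)⁻¹ = sgT Q u (-w) := Subtype.ext (by
  rw [Subgroup.coe_inv, sgT_val, sgT_val, siegG_inv' Q huw])

theorem sgT_conj (g : ↥(SG Q)) (u w : V) :
    g * sgT Q u w * g⁻¹ = sgT Q (ap g u) (ap g w) := Subtype.ext (by
  rw [Subgroup.coe_mul, Subgroup.coe_mul, Subgroup.coe_inv, sgT_val, sgT_val, siegG_conj]
  rfl)

theorem sgT_smul_left {u w : V} (t : F) (huw : QuadraticMap.polar Q u w = 0) :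
    sgT Q (t • u) w = sgT Q u (t • w) := Subtype.ext (siegG_smul_left' Q t huw)

theorem sgT_add_smul {u w : V} (hu : Q u = 0) (huw : QuadraticMap.polar Q u w = 0) (c : F) :
    sgT Q u (w + c • u) = sgT Q u w := by
  apply Subtype.ext
  apply Subtype.ext
  exact siegE_smul_add Q hu huw c

theorem polar_self_of_sing {u : V} (hu : Q u = 0) : QuadraticMap.polar Q u u = 0 := by
  rw [polar_self', hu, mul_zero]

theorem sgT_self {u : V} (hu : Q u = 0) (c : F) : sgT Q u (c • u) = 1 := by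
  have h := sgT_add_smul (Q := Q) (u := u) (w := 0) hu (QuadraticMap.polar_zero_right _ _) c
  rw [zero_add, sgT_zero] at h
  exact h

theorem ap_sgT_self (u w : V) : ap (sgT Q u w) u = u := siegE_self Q u w

theorem ap_sgT_fix {u w x : V} (hxu : QuadraticMap.polar Q x u = 0)
    (hxw : QuadraticMap.polar Q x w = 0) : ap (sgT Q u w) x = x := siegE_fix Q hxu hxw

/-- membership in the root subgroup of a vector. -/
theorem mem_rootSub_iff (u : V) (s : ↥(SG Q)) :
    s ∈ rootSub Q u ↔ ∃ w, QuadraticMap.polar Q u w = 0 ∧ s = sgT Q u w := by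
  rw [mem_rootSub]
  constructor
  · rintro ⟨w, hw, hs⟩
    exact ⟨w, hw, Subtype.ext hs⟩
  · rintro ⟨w, hw, rfl⟩
    exact ⟨w, hw, rfl⟩

theorem sgT_mem_rootSub {u w : V} (huw : QuadraticMap.polar Q u w = 0) :
    sgT Q u w ∈ rootSub Q u := (mem_rootSub_iff u _).mpr ⟨w, huw, rfl⟩

/-- if a Siegel transformation is trivial, its parameter is a multiple of the singular vector. -/
theorem mem_span_of_sgT_eq_one (hQ : Nondeg Q) {u w : V} (hu0 : u ≠ 0) (hu : Q u = 0)
    (huw : QuadraticMap.polar Q u w = 0) (h : sgT Q u w = 1) : w ∈ Submodule.span F {u} := by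
  obtain ⟨x, hx⟩ := exists_pair_one Q hQ hu0
  have h1 : ap (sgT Q u w) x = x := by rw [h, ap_one]
  rw [ap_sgT hu huw, QuadraticMap.polar_comm Q x u, hx] at h1
  rw [Submodule.mem_span_singleton]
  refine ⟨QuadraticMap.polar Q x w - Q w, ?_⟩
  have h2 : x + QuadraticMap.polar Q x w • u - (1 : F) • w - (Q w * 1) • u - x = 0 := by
    rw [h1, sub_self]
  have h3 : (QuadraticMap.polar Q x w - Q w) • u - w
      = x + QuadraticMap.polar Q x w • u - (1 : F) • w - (Q w * 1) • u - x := by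
    module
  rw [← sub_eq_zero, h3, h2]

theorem sgT_eq_one_iff (hQ : Nondeg Q) {u w : V} (hu0 : u ≠ 0) (hu : Q u = 0)
    (huw : QuadraticMap.polar Q u w = 0) : sgT Q u w = 1 ↔ w ∈ Submodule.span F {u} := by
  constructor
  · exact mem_span_of_sgT_eq_one hQ hu0 hu huw
  · intro h
    obtain ⟨c, rfl⟩ := Submodule.mem_span_singleton.mp h
    exact sgT_self hu c

theorem sgT_eq_iff (hQ : Nondeg Q) {u w w' : V} (hu0 : u ≠ 0) (hu : Q u = 0)
    (huw : QuadraticMap.polar Q u w = 0) (huw' : QuadraticMap.polar Q u w' = 0) :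
    sgT Q u w = sgT Q u w' ↔ w - w' ∈ Submodule.span F {u} := by
  have h1 : QuadraticMap.polar Q u (-w') = 0 := by
    rw [QuadraticMap.polar_neg_right, huw', neg_zero]
  have h2 : QuadraticMap.polar Q u (w - w') = 0 := by
    rw [QuadraticMap.polar_sub_right, huw, huw', sub_zero]
  rw [← sgT_eq_one_iff hQ hu0 hu h2, sub_eq_add_neg, ← sgT_mul huw h1, ← sgT_inv huw',
    mul_inv_eq_one]

end Cfsg.Agent.Helper8.AutO
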