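import Mathlib
import Cfsg.Agent.Helper8.AutOa

set_option autoImplicit false

/-!
# Automorphisms of orthogonal groups, part b: totally singular lines and long root subgroups
-/

namespace Cfsg.Agent.Helper8.AutO

open Module Cfsg.Agent.Helper8.QuadForm Cfsg.Agent.Helper8.WittQuad Cfsg.Agent.Helper8.OrthOrder
  Cfsg.Agent.Helper8.Siegel Cfsg.Agent.Helper8.SiegelGeom Cfsg.Agent.Helper8.SiegelGroup
  Cfsg.Agent.Helper8.SiegelPrim Cfsg.Agent.Helper8.SiegelSimple

variable {F : Type*} [Field F] {V : Type*} [AddCommGroup V] [Module F V] {Q : QuadraticForm F V}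

/-- a basis of a totally singular line. -/
structure IsTS (Q : QuadraticForm F V) (a b : V) : Prop where
  qa : Q a = 0
  qb : Q b = 0
  ab : QuadraticMap.polar Q a b = 0
  li : LinearIndependent F ![a, b]

theorem IsTS.ba {a b : V} (h : IsTS Q a b) : QuadraticMap.polar Q b a = 0 := by
  rw [QuadraticMap.polar_comm]; exact h.ab

theorem IsTS.a_ne {a b : V} (h : IsTS Q a b) : a ≠ 0 := h.li.ne_zero 0

theorem IsTS.b_ne {a b : V} (h : IsTS Q a b) : b ≠ 0 := h.li.ne_zero 1

theorem IsTS.symm {a b : V} (h : IsTS Q a b) : IsTS Q b a :=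
  ⟨h.qb, h.qa, h.ba, by
    have := h.li
    rw [LinearIndependent.pair_iff] at this ⊢
    intro s t hst
    have := this t s (by rw [add_comm]; exact hst)
    exact ⟨this.2, this.1⟩⟩

theorem IsTS.aa {a b : V} (h : IsTS Q a b) : QuadraticMap.polar Q a a = 0 :=
  polar_self_of_sing h.qa

theorem IsTS.bb {a b : V} (h : IsTS Q a b) : QuadraticMap.polar Q b b = 0 :=
  polar_self_of_sing h.qb

theorem IsTS.eq_zero_of_comb {a b : V} (h : IsTS Q a b) {s t : F} (hst : s • a + t • b = 0) :
    s = 0 ∧ t = 0 := LinearIndependent.pair_iff.mp h.li s t hst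

/-- every vector of a totally singular line is singular. -/
theorem IsTS.Q_comb {a b : V} (h : IsTS Q a b) (s t : F) : Q (s • a + t • b) = 0 := by
  rw [QuadraticMap.map_add Q, QuadraticMap.map_smul, QuadraticMap.map_smul, h.qa, h.qb,
    QuadraticMap.polar_smul_left, QuadraticMap.polar_smul_right, h.ab]
  simp

theorem IsTS.Q_of_mem {a b x : V} (h : IsTS Q a b) (hx : x ∈ Submodule.span F {a, b}) :
    Q x = 0 := by
  obtain ⟨s, t, rfl⟩ := Submodule.mem_span_pair.mp hx
  exact h.Q_comb s t

theorem IsTS.polar_of_mem {a b x y : V} (h : IsTS Q a b) (hx : x ∈ Submodule.span F {a, b})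
    (hy : y ∈ Submodule.span F {a, b}) : QuadraticMap.polar Q x y = 0 := by
  obtain ⟨s, t, rfl⟩ := Submodule.mem_span_pair.mp hx
  obtain ⟨s', t', rfl⟩ := Submodule.mem_span_pair.mp hy
  simp only [QuadraticMap.polar_add_left, QuadraticMap.polar_add_right,
    QuadraticMap.polar_smul_left, QuadraticMap.polar_smul_right, h.aa, h.bb, h.ab, h.ba]
  simp

/-- the alternating map attached to a pair of vectors. -/
noncomputable def wedge (Q : QuadraticForm F V) (a b : V) : V →ₗ[F] V :=
  (QuadraticMap.polarBilin Q b).smulRight a - (QuadraticMap.polarBilin Q a).smulRight b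

theorem wedge_apply (a b x : V) :
    wedge Q a b x = QuadraticMap.polar Q x b • a - QuadraticMap.polar Q x a • b := by
  show QuadraticMap.polar Q b x • a - QuadraticMap.polar Q a x • b = _
  rw [QuadraticMap.polar_comm Q b x, QuadraticMap.polar_comm Q a x]

theorem wedge_comb (a b : V) (s t s' t' : F) (x : V) :
    wedge Q (s • a + t • b) (s' • a + t' • b) x = (s * t' - t * s') • wedge Q a b x := by
  simp only [wedge_apply, QuadraticMap.polar_add_right, QuadraticMap.polar_smul_right, smul_eq_mul]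
  module

/-- the action of a long root element. -/
theorem ap_sgT_ts {a b : V} (h : IsTS Q a b) (x : V) :
    ap (sgT Q a b) x = x + wedge Q a b x := by
  rw [ap_sgT h.qa h.ab, wedge_apply, h.qb]
  module

theorem ap_sgT_ts_smul {a b : V} (h : IsTS Q a b) (c : F) (x : V) :
    ap (sgT Q a (c • b)) x = x + c • wedge Q a b x := by
  rw [ap_sgT h.qa (by rw [QuadraticMap.polar_smul_right, h.ab, smul_zero]), wedge_apply,
    QuadraticMap.map_smul, h.qb, QuadraticMap.polar_smul_right]
  simp only [smul_eq_mul]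
  module

/-- the long root subgroup of a totally singular line, given by a basis. -/
def X (Q : QuadraticForm F V) (a b : V) : Subgroup ↥(SG Q) :=
  Subgroup.closure {s | ∃ c : F, s = sgT Q a (c • b)}

theorem sgT_mem_X (a b : V) (c : F) : sgT Q a (c • b) ∈ X Q a b :=
  Subgroup.subset_closure ⟨c, rfl⟩

theorem mem_X_iff {a b : V} (h : IsTS Q a b) (s : ↥(SG Q)) :
    s ∈ X Q a b ↔ ∃ c : F, s = sgT Q a (c • b) := by
  have hp : ∀ c : F, QuadraticMap.polar Q a (c • b) = 0 := fun c => by
    rw [QuadraticMap.polar_smul_right, h.ab, smul_zero]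
  constructor
  · intro hs
    unfold X at hs
    induction hs using Subgroup.closure_induction with
    | mem s hs => exact hs
    | one => exact ⟨0, by rw [zero_smul, sgT_zero]⟩
    | mul x y _ _ ihx ihy =>
      obtain ⟨c, rfl⟩ := ihx
      obtain ⟨d, rfl⟩ := ihy
      exact ⟨c + d, by rw [sgT_mul (hp c) (hp d), add_smul]⟩
    | inv x _ ihx =>
      obtain ⟨c, rfl⟩ := ihx
      exact ⟨-c, by rw [sgT_inv (hp c), neg_smul]⟩
  · rintro ⟨c, rfl⟩
    exact sgT_mem_X a b c

/-- change of basis of a totally singular line. -/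
theorem sgT_comb {a b : V} (h : IsTS Q a b) {s t s' t' : F}
    (h' : IsTS Q (s • a + t • b) (s' • a + t' • b)) (c : F) :
    sgT Q (s • a + t • b) (c • (s' • a + t' • b)) = sgT Q a ((c * (s * t' - t * s')) • b) := by
  apply ext_ap
  intro x
  rw [ap_sgT_ts_smul h', ap_sgT_ts_smul h, wedge_comb, smul_smul]

theorem X_le_of_mem {a b a' b' : V} (h : IsTS Q a b) (h' : IsTS Q a' b')
    (ha' : a' ∈ Submodule.span F {a, b}) (hb' : b' ∈ Submodule.span F {a, b}) :
    X Q a' b' ≤ X Q a b := by
  obtain ⟨s, t, rfl⟩ := Submodule.mem_span_pair.mp ha'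
  obtain ⟨s', t', rfl⟩ := Submodule.mem_span_pair.mp hb'
  intro x hx
  obtain ⟨c, rfl⟩ := (mem_X_iff h' x).mp hx
  rw [sgT_comb h h']
  exact sgT_mem_X a b _

theorem X_eq_of_span {a b a' b' : V} (h : IsTS Q a b) (h' : IsTS Q a' b')
    (hs : Submodule.span F {a', b'} = Submodule.span F {a, b}) : X Q a' b' = X Q a b := by
  apply le_antisymm
  · apply X_le_of_mem h h'
    · rw [← hs]; exact Submodule.subset_span (by simp)
    · rw [← hs]; exact Submodule.subset_span (by simp)
  · apply X_le_of_mem h' h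
    · rw [hs]; exact Submodule.subset_span (by simp)
    · rw [hs]; exact Submodule.subset_span (by simp)

/-- a totally singular pair inside the span of another spans the same line. -/
theorem IsTS.span_eq_of_mem [FiniteDimensional F V] {a b a' b' : V} (h : IsTS Q a b)
    (h' : IsTS Q a' b')
    (ha' : a' ∈ Submodule.span F {a, b}) (hb' : b' ∈ Submodule.span F {a, b}) :
    Submodule.span F {a', b'} = Submodule.span F {a, b} := by
  have hle : Submodule.span F {a', b'} ≤ Submodule.span F {a, b} := by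
    rw [Submodule.span_le]
    intro x hx
    rcases hx with rfl | rfl
    · exact ha'
    · exact hb'
  apply Submodule.eq_of_le_of_finrank_eq hle
  have e1 : ({a', b'} : Set V) = Set.range ![a', b'] := by
    ext x; simp [eq_comm, or_comm]
  have e2 : ({a, b} : Set V) = Set.range ![a, b] := by
    ext x; simp [eq_comm, or_comm]
  rw [e1, e2, finrank_span_eq_card h'.li, finrank_span_eq_card h.li]

theorem X_comm {a b : V} (h : IsTS Q a b) : ∀ x ∈ X Q a b, ∀ y ∈ X Q a b, x * y = y * x := by
  have hp : ∀ c : F, QuadraticMap.polar Q a (c • b) = 0 := fun c => by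
    rw [QuadraticMap.polar_smul_right, h.ab, smul_zero]
  intro x hx y hy
  obtain ⟨c, rfl⟩ := (mem_X_iff h x).mp hx
  obtain ⟨d, rfl⟩ := (mem_X_iff h y).mp hy
  rw [sgT_mul (hp c) (hp d), sgT_mul (hp d) (hp c), add_comm]

/-- the long root subgroup lies in the root subgroup of each of its singular vectors. -/
theorem X_le_rootSub {a b : V} (h : IsTS Q a b) : X Q a b ≤ rootSub Q a := by
  intro x hx
  obtain ⟨c, rfl⟩ := (mem_X_iff h x).mp hx
  exact sgT_mem_rootSub (by rw [QuadraticMap.polar_smul_right, h.ab, smul_zero])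

theorem X_symm {a b : V} (h : IsTS Q a b) : X Q b a = X Q a b := by
  apply X_eq_of_span h h.symm
  congr 1
  exact Set.pair_comm b a

/-- conjugation of a long root subgroup. -/
theorem IsTS.ap {a b : V} (h : IsTS Q a b) (g : ↥(SG Q)) : IsTS Q (ap g a) (ap g b) :=
  ⟨by rw [Q_ap, h.qa], by rw [Q_ap, h.qb], by rw [polar_ap, h.ab], by
    have := h.li
    rw [LinearIndependent.pair_iff] at this ⊢
    intro s t hst
    apply this s t
    apply (AutO.ap g).injective
    rw [map_add, map_smul, map_smul, hst, map_zero]⟩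

theorem conj_mem_X {a b : V} (h : IsTS Q a b) (g : ↥(SG Q)) {x : ↥(SG Q)} (hx : x ∈ X Q a b) :
    g * x * g⁻¹ ∈ X Q (ap g a) (ap g b) := by
  obtain ⟨c, rfl⟩ := (mem_X_iff h x).mp hx
  rw [sgT_conj, map_smul]
  exact sgT_mem_X _ _ c

/-- a dual vector for an independent pair. -/
theorem exists_dual_pair [FiniteDimensional F V] (hQ : Nondeg Q) {a b : V}
    (li : LinearIndependent F ![a, b]) :
    ∃ x, QuadraticMap.polar Q x a = 0 ∧ QuadraticMap.polar Q x b = 1 := by
  have hb : b ∉ Submodule.span F {a} := by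
    intro hmem
    obtain ⟨c, hc⟩ := Submodule.mem_span_singleton.mp hmem
    have := LinearIndependent.pair_iff.mp li c (-1) (by rw [hc, neg_smul, one_smul, add_neg_cancel])
    exact one_ne_zero (neg_eq_zero.mp this.2)
  obtain ⟨y, hy1, hy2⟩ := exists_dual_vec Q ((nondeg_iff Q).mpr hQ) (Submodule.span F {a}) hb
  exact ⟨y, hy1 a (Submodule.mem_span_singleton_self a), hy2⟩

/-- the image of `g - 1` for a long root element. -/
theorem IsTS.exists_wedge_eq [FiniteDimensional F V] (hQ : Nondeg Q) {a b : V} (h : IsTS Q a b) :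
    (∃ x, wedge Q a b x = a) ∧ ∃ x, wedge Q a b x = b := by
  obtain ⟨x, hx1, hx2⟩ := exists_dual_pair hQ h.li
  obtain ⟨y, hy1, hy2⟩ := exists_dual_pair hQ h.symm.li
  refine ⟨⟨x, ?_⟩, ⟨-y, ?_⟩⟩
  · rw [wedge_apply, hx1, hx2]; simp
  · rw [wedge_apply, QuadraticMap.polar_neg_left, QuadraticMap.polar_neg_left, hy1, hy2]; simp

end Cfsg.Agent.Helper8.AutO
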