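import Mathlib
import Cfsg.Agent.Helper8.AutOb

set_option autoImplicit false

/-!
# Automorphisms of orthogonal groups, part c: points from root subgroups, the centre, `p`-elements
-/

namespace Cfsg.Agent.Helper8.AutO

open Module Cfsg.Agent.Helper8.QuadForm Cfsg.Agent.Helper8.WittQuad Cfsg.Agent.Helper8.OrthOrder
  Cfsg.Agent.Helper8.Siegel Cfsg.Agent.Helper8.SiegelGeom Cfsg.Agent.Helper8.SiegelGroup
  Cfsg.Agent.Helper8.SiegelPrim Cfsg.Agent.Helper8.SiegelSimple

variable {F : Type*} [Field F] {V : Type*} [AddCommGroup V] [Module F V] {Q : QuadraticForm F V}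

/-- independence of a vector and a hyperbolic pair orthogonal to it. -/
theorem li_of_hyp {u e f : V} (hu0 : u ≠ 0) (hue : QuadraticMap.polar Q u e = 0)
    (huf : QuadraticMap.polar Q u f = 0) (he : Q e = 0) (hf : Q f = 0)
    (hef : QuadraticMap.polar Q e f = 1) {α β γ : F} (h : α • u + β • e + γ • f = 0) :
    α = 0 ∧ β = 0 ∧ γ = 0 := by
  have hee : QuadraticMap.polar Q e e = 0 := polar_self_of_sing he
  have hff : QuadraticMap.polar Q f f = 0 := polar_self_of_sing hf
  have hfe : QuadraticMap.polar Q f e = 1 := by rw [QuadraticMap.polar_comm]; exact hef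
  have h1 : QuadraticMap.polar Q (α • u + β • e + γ • f) f = 0 := by
    rw [h, QuadraticMap.polar_zero_left]
  have h2 : QuadraticMap.polar Q (α • u + β • e + γ • f) e = 0 := by
    rw [h, QuadraticMap.polar_zero_left]
  simp only [QuadraticMap.polar_add_left, QuadraticMap.polar_smul_left, huf, hue, hef, hfe, hee,
    hff, smul_eq_mul, mul_zero, mul_one, zero_add, add_zero] at h1 h2
  refine ⟨?_, h1, h2⟩
  rw [h1, h2, zero_smul, zero_smul, add_zero, add_zero] at h
  rcases smul_eq_zero.mp h with h | h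
  · exact h
  · exact absurd h hu0

/-- two totally singular lines through a singular point, spanned with a hyperbolic pair. -/
theorem exists_two_ts [Finite F] [FiniteDimensional F V] (hQ : Nondeg Q)
    (h5 : 5 ≤ finrank F V) {u : V} (hu0 : u ≠ 0) (hu : Q u = 0) :
    ∃ e f, IsTS Q u e ∧ IsTS Q u f ∧ QuadraticMap.polar Q e f = 1 := by
  obtain ⟨e, f, hue, huf, he, hf, hef⟩ := exists_hyp_perp Q hQ h5 hu0
  have hfe : QuadraticMap.polar Q f e = 1 := by rw [QuadraticMap.polar_comm]; exact hef
  refine ⟨e, f, ⟨hu, he, hue, ?_⟩, ⟨hu, hf, huf, ?_⟩, hef⟩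
  · rw [LinearIndependent.pair_iff]
    intro s t hst
    have := li_of_hyp (Q := Q) hu0 hue huf he hf hef (α := s) (β := t) (γ := 0)
      (by rw [zero_smul, add_zero]; exact hst)
    exact ⟨this.1, this.2.1⟩
  · rw [LinearIndependent.pair_iff]
    intro s t hst
    have := li_of_hyp (Q := Q) hu0 hue huf he hf hef (α := s) (β := 0) (γ := t)
      (by rw [zero_smul, add_zero]; exact hst)
    exact ⟨this.1, this.2.2⟩

theorem mem_span_of_two {u e f x : V} (hu0 : u ≠ 0) (hue : QuadraticMap.polar Q u e = 0)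
    (huf : QuadraticMap.polar Q u f = 0) (he : Q e = 0) (hf : Q f = 0)
    (hef : QuadraticMap.polar Q e f = 1) (h1 : x ∈ Submodule.span F {u, e})
    (h2 : x ∈ Submodule.span F {u, f}) : x ∈ Submodule.span F {u} := by
  obtain ⟨s, t, rfl⟩ := Submodule.mem_span_pair.mp h1
  obtain ⟨s', t', h⟩ := Submodule.mem_span_pair.mp h2
  have := li_of_hyp (Q := Q) hu0 hue huf he hf hef (α := s - s') (β := t) (γ := -t') (by
    have : (s - s') • u + t • e + -t' • f = (s • u + t • e) - (s' • u + t' • f) := by module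
    rw [this, h, sub_self])
  rw [this.2.1, zero_smul, add_zero]
  exact Submodule.smul_mem _ _ (Submodule.mem_span_singleton_self u)

/-- a long root element determines its line among Siegel transformations. -/
theorem mem_span_of_sgT_eq [FiniteDimensional F V] (hQ : Nondeg Q) {u w u' w' : V}
    (h : IsTS Q u w) (hu'0 : u' ≠ 0)
    (hu' : Q u' = 0) (hu'w' : QuadraticMap.polar Q u' w' = 0)
    (heq : sgT Q u w = sgT Q u' w') : u' ∈ Submodule.span F {u, w} := by
  by_cases hw' : w' ∈ Submodule.span F {u'}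
  · exfalso
    rw [(sgT_eq_one_iff hQ hu'0 hu' hu'w').mpr hw'] at heq
    have := mem_span_of_sgT_eq_one hQ h.a_ne h.qa h.ab heq
    obtain ⟨c, hc⟩ := Submodule.mem_span_singleton.mp this
    have := h.eq_zero_of_comb (s := c) (t := -1) (by rw [hc, neg_smul, one_smul, add_neg_cancel])
    exact one_ne_zero (neg_eq_zero.mp this.2)
  · have li : LinearIndependent F ![u', w'] := by
      rw [LinearIndependent.pair_iff' hu'0]
      intro a ha
      exact hw' (Submodule.mem_span_singleton.mpr ⟨a, ha⟩)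
    obtain ⟨x, hx1, hx2⟩ := exists_dual_pair hQ li
    have h1 : ap (sgT Q u w) x = ap (sgT Q u' w') x := by rw [heq]
    rw [ap_sgT_ts h, ap_sgT hu' hu'w', hx1, hx2] at h1
    have h2 : wedge Q u w x = u' := by
      have : x + wedge Q u w x - x = x + (1 : F) • u' - (0 : F) • w' - (Q w' * 0) • u' - x := by
        rw [h1]
      rw [add_sub_cancel_left] at this
      rw [this]
      module
    rw [← h2, wedge_apply]
    exact Submodule.sub_mem _ (Submodule.smul_mem _ _ (Submodule.subset_span (by simp)))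
      (Submodule.smul_mem _ _ (Submodule.subset_span (by simp)))

/-- **a root subgroup determines its singular point.** -/
theorem mem_span_of_rootSub_le [Finite F] [FiniteDimensional F V] (hQ : Nondeg Q)
    (h5 : 5 ≤ finrank F V) {u u' : V} (hu0 : u ≠ 0) (hu : Q u = 0) (hu'0 : u' ≠ 0) (hu' : Q u' = 0)
    (hle : rootSub Q u ≤ rootSub Q u') : u' ∈ Submodule.span F {u} := by
  obtain ⟨e, f, h1, h2, hef⟩ := exists_two_ts hQ h5 hu0 hu
  have key : ∀ w, IsTS Q u w → u' ∈ Submodule.span F {u, w} := by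
    intro w hw
    obtain ⟨w', hw', heq⟩ := (mem_rootSub_iff u' _).mp (hle (sgT_mem_rootSub hw.ab))
    exact mem_span_of_sgT_eq hQ hw hu'0 hu' hw' heq
  exact mem_span_of_two hu0 h1.ab h2.ab h1.qb h2.qb hef (key e h1) (key f h2)

theorem rootSub_eq_of_mem_span {u u' : V} (hu'0 : u' ≠ 0) (h : u' ∈ Submodule.span F {u}) :
    rootSub Q u' = rootSub Q u := by
  obtain ⟨t, rfl⟩ := Submodule.mem_span_singleton.mp h
  have ht : t ≠ 0 := by
    rintro rfl
    exact hu'0 (zero_smul _ _)
  exact rootSub_smul Q ht u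

/-- a central element of the Siegel group is a scalar of square one. -/
theorem center_scalar [Finite F] [FiniteDimensional F V] (hQ : Nondeg Q)
    (h5 : 5 ≤ finrank F V) {z : ↥(SG Q)} (hz : z ∈ Subgroup.center ↥(SG Q)) :
    ∃ c : F, c * c = 1 ∧ ∀ x, ap z x = c • x := by
  have hfix : ∀ u, u ≠ 0 → Q u = 0 → ∃ t : F, ap z u = t • u := by
    intro u hu0 hu
    have hle : rootSub Q u ≤ rootSub Q (ap z u) := by
      intro s hs
      obtain ⟨w, hw, rfl⟩ := (mem_rootSub_iff u s).mp hs
      have h1 : z * sgT Q u w * z⁻¹ = sgT Q u w := by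
        rw [Subgroup.mem_center_iff] at hz
        rw [← hz (sgT Q u w), mul_inv_cancel_right]
      rw [← h1, sgT_conj]
      exact sgT_mem_rootSub (by rw [polar_ap, hw])
    have := mem_span_of_rootSub_le hQ h5 hu0 hu (ap_ne_zero z hu0) (by rw [Q_ap, hu]) hle
    obtain ⟨t, ht⟩ := Submodule.mem_span_singleton.mp this
    exact ⟨t, ht.symm⟩
  obtain ⟨l, hl⟩ := exists_scalar_of_fix Q hQ h5 (ap z) hfix
  refine ⟨l, ?_, hl⟩
  obtain ⟨u, hu0, hu⟩ := exists_singular Q (show 3 ≤ finrank F V by omega)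
  obtain ⟨f, hf, huf⟩ := exists_hyperbolic_pair Q hQ hu0 hu
  have := polar_ap z u f
  rw [hl, hl, QuadraticMap.polar_smul_left, QuadraticMap.polar_smul_right, huf] at this
  simpa using this

/-- a central element of `p`-power order is trivial. -/
theorem center_eq_one_of_pow [Finite F] [FiniteDimensional F V] (hQ : Nondeg Q)
    (h5 : 5 ≤ finrank F V) (p : ℕ) [Fact p.Prime] [CharP F p] {z : ↥(SG Q)}
    (hz : z ∈ Subgroup.center ↥(SG Q)) {k : ℕ} (hk : z ^ (p ^ k) = 1) : z = 1 := by
  obtain ⟨c, hc, hzc⟩ := center_scalar hQ h5 hz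
  have hpow : ∀ n : ℕ, ∀ x, ap (z ^ n) x = c ^ n • x := by
    intro n
    induction n with
    | zero => intro x; rw [pow_zero, pow_zero, one_smul, ap_one]
    | succ n ih => intro x; rw [pow_succ, ap_mul, hzc, map_smul, ih, smul_smul, pow_succ, mul_comm]
  have h1 : c ^ (p ^ k) = 1 := by
    obtain ⟨u, hu0, -⟩ := exists_singular Q (show 3 ≤ finrank F V by omega)
    have := hpow (p ^ k) u
    rw [hk, ap_one] at this
    have h2 : (c ^ (p ^ k) - 1) • u = 0 := by rw [sub_smul, one_smul, ← this, sub_self]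
    rcases smul_eq_zero.mp h2 with h | h
    · exact sub_eq_zero.mp h
    · exact absurd h hu0
  have hc1 : c = 1 := by
    rcases Nat.Prime.eq_two_or_odd (Fact.out : p.Prime) with h2 | hodd
    · have h2F : (2 : F) = 0 := by
        have := CharP.cast_eq_zero F p
        rw [h2] at this
        exact_mod_cast this
      have : (c - 1) * (c - 1) = 0 := by
        have h3 : (c - 1) * (c - 1) = c * c - 2 * c + 1 := by ring
        rw [h3, hc, h2F]; linear_combination h2F
      exact sub_eq_zero.mp (mul_self_eq_zero.mp this)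
    · have hodd' : p ^ k % 2 = 1 := by
        rw [Nat.pow_mod, hodd, one_pow]; rfl
      have hsq : c ^ 2 = 1 := by rw [pow_two, hc]
      have : c ^ (p ^ k) = c := by
        conv_lhs => rw [← Nat.div_add_mod (p ^ k) 2, hodd', pow_add, pow_mul, hsq, one_pow, one_mul,
          pow_one]
      rw [← this, h1]
  apply ext_ap
  intro x
  rw [hzc, hc1, one_smul, ap_one]

/-- the projective Siegel group. -/
abbrev PG (Q : QuadraticForm F V) : Type _ := ↥(SG Q) ⧸ Subgroup.center ↥(SG Q)

/-- the projection. -/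
def pr : ↥(SG Q) →* PG Q := QuotientGroup.mk' (Subgroup.center ↥(SG Q))

theorem pr_surjective : Function.Surjective (pr : ↥(SG Q) →* PG Q) :=
  QuotientGroup.mk'_surjective _

theorem pr_eq_iff {a b : ↥(SG Q)} : pr a = pr b ↔ a⁻¹ * b ∈ Subgroup.center ↥(SG Q) :=
  QuotientGroup.eq

/-- the projection is injective on `p`-elements. -/
theorem eq_of_pr_eq [Finite F] [FiniteDimensional F V] (hQ : Nondeg Q)
    (h5 : 5 ≤ finrank F V) (p : ℕ) [Fact p.Prime] [CharP F p] {a b : ↥(SG Q)} {k l : ℕ}
    (ha : a ^ (p ^ k) = 1) (hb : b ^ (p ^ l) = 1) (h : pr a = pr b) : a = b := by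
  have hz := pr_eq_iff.mp h
  have hcomm : Commute a⁻¹ b := by
    have := (Subgroup.mem_center_iff.mp hz) a
    -- `a * (a⁻¹ * b) = a⁻¹ * b * a`
    have h2 : b = a⁻¹ * b * a := by rw [← this, mul_inv_cancel_left]
    show a⁻¹ * b = b * a⁻¹
    rw [eq_mul_inv_iff_mul_eq, ← h2]
  have h1 : (a⁻¹ * b) ^ (p ^ (k + l)) = 1 := by
    rw [hcomm.mul_pow, inv_pow, pow_add, pow_mul, ha, one_pow, inv_one, one_mul, mul_comm (p ^ k),
      pow_mul, hb, one_pow]
  have := center_eq_one_of_pow hQ h5 p hz h1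
  rw [inv_mul_eq_one] at this
  exact this

end Cfsg.Agent.Helper8.AutO
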