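import Mathlib
import Cfsg.Agent.Helper8.AutOc

set_option autoImplicit false

/-!
# Automorphisms of orthogonal groups, part d: hyperbolic pairs, the kernel lemma, `p`-groups
-/

namespace Cfsg.Agent.Helper8.AutO

open Module Cfsg.Agent.Helper8.QuadForm Cfsg.Agent.Helper8.WittQuad Cfsg.Agent.Helper8.OrthOrder
  Cfsg.Agent.Helper8.Siegel Cfsg.Agent.Helper8.SiegelGeom Cfsg.Agent.Helper8.SiegelGroup
  Cfsg.Agent.Helper8.SiegelPrim Cfsg.Agent.Helper8.SiegelSimple

variable {F : Type*} [Field F] {V : Type*} [AddCommGroup V] [Module F V] {Q : QuadraticForm F V}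

/-- a hyperbolic pair. -/
structure HP (Q : QuadraticForm F V) where
  e : V
  f : V
  he : Q e = 0
  hf : Q f = 0
  hef : QuadraticMap.polar Q e f = 1

namespace HP

variable (h : HP Q)

theorem hfe : QuadraticMap.polar Q h.f h.e = 1 := by rw [QuadraticMap.polar_comm]; exact h.hef

theorem hee : QuadraticMap.polar Q h.e h.e = 0 := polar_self_of_sing h.he

theorem hff : QuadraticMap.polar Q h.f h.f = 0 := polar_self_of_sing h.hf

theorem e_ne : h.e ≠ 0 := by
  intro h0
  have := h.hef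
  rw [h0, QuadraticMap.polar_zero_left] at this
  exact zero_ne_one this

theorem f_ne : h.f ≠ 0 := by
  intro h0
  have := h.hef
  rw [h0, QuadraticMap.polar_zero_right] at this
  exact zero_ne_one this

/-- the swapped pair. -/
def swap : HP Q := ⟨h.f, h.e, h.hf, h.he, h.hfe⟩

/-- the orthogonal complement of the pair. -/
def W : Submodule F V := perpPair Q h.e h.f

theorem mem_W {w : V} : w ∈ h.W ↔ QuadraticMap.polar Q h.e w = 0 ∧ QuadraticMap.polar Q h.f w = 0 :=
  mem_perpPair Q h.e h.f w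

theorem mem_W' {w : V} : w ∈ h.W ↔ QuadraticMap.polar Q w h.e = 0 ∧ QuadraticMap.polar Q w h.f = 0 := by
  rw [mem_W, QuadraticMap.polar_comm Q h.e w, QuadraticMap.polar_comm Q h.f w]

theorem swap_W : h.swap.W = h.W := by
  ext w
  rw [mem_W, mem_W]
  exact and_comm

theorem e_not_mem_W : h.e ∉ h.W := by
  intro hm
  have := (h.mem_W.mp hm).2
  rw [h.hfe] at this
  exact one_ne_zero this

theorem W_nondeg (hQ : Nondeg Q) : NondegOn Q h.W := perpPair_nondeg Q hQ h.he h.hf h.hef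

theorem finrank_W [FiniteDimensional F V] : finrank F h.W + 2 = finrank F V :=
  finrank_perpPair Q h.he h.hf h.hef

/-- the component in `W`. -/
noncomputable def pw (x : V) : V :=
  x - QuadraticMap.polar Q h.f x • h.e - QuadraticMap.polar Q h.e x • h.f

theorem pw_mem (x : V) : h.pw x ∈ h.W := proj_mem Q h.he h.hf h.hef x

theorem dec (x : V) :
    x = QuadraticMap.polar Q h.f x • h.e + QuadraticMap.polar Q h.e x • h.f + h.pw x := by
  unfold pw
  abel

theorem W_ne_bot [FiniteDimensional F V] (h3 : 3 ≤ finrank F V) : ∃ w ∈ h.W, w ≠ 0 := by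
  have := h.finrank_W
  have hnt : Nontrivial ↥h.W := Module.nontrivial_of_finrank_pos (R := F) (by omega)
  obtain ⟨⟨w, hw⟩, hw0⟩ := exists_ne (0 : ↥h.W)
  exact ⟨w, hw, fun h0 => hw0 (Subtype.ext h0)⟩

theorem li_e_w {w : V} (hw : w ∈ h.W) (hw0 : w ≠ 0) : LinearIndependent F ![h.e, w] := by
  rw [LinearIndependent.pair_iff' h.e_ne]
  intro a ha
  have := (h.mem_W.mp hw).2
  rw [← ha, QuadraticMap.polar_smul_right, h.hfe, smul_eq_mul, mul_one] at this
  rw [this, zero_smul] at ha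
  exact hw0 ha.symm

end HP

theorem exists_HP (hQ : Nondeg Q) {u : V} (hu0 : u ≠ 0) (hu : Q u = 0) :
    ∃ h : HP Q, h.e = u := by
  obtain ⟨f, hf, huf⟩ := exists_hyperbolic_pair Q hQ hu0 hu
  exact ⟨⟨u, f, hu, hf, huf⟩, rfl⟩

/-! ### `p`-elements -/

theorem sgT_pow {u w : V} (huw : QuadraticMap.polar Q u w = 0) (n : ℕ) :
    (sgT Q u w) ^ n = sgT Q u ((n : F) • w) := by
  induction n with
  | zero => rw [pow_zero, Nat.cast_zero, zero_smul, sgT_zero]
  | succ n ih =>
    rw [pow_succ, ih, sgT_mul (by rw [QuadraticMap.polar_smul_right, huw, smul_zero]) huw,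
      Nat.cast_succ, add_smul, one_smul]

theorem sgT_pow_char (p : ℕ) [CharP F p] {u w : V} (huw : QuadraticMap.polar Q u w = 0) :
    (sgT Q u w) ^ p = 1 := by
  rw [sgT_pow huw, CharP.cast_eq_zero, zero_smul, sgT_zero]

theorem isPGroup_rootSub (p : ℕ) [CharP F p] (u : V) : IsPGroup p (rootSub Q u) := by
  rintro ⟨s, hs⟩
  obtain ⟨w, hw, rfl⟩ := (mem_rootSub_iff u s).mp hs
  refine ⟨1, Subtype.ext ?_⟩
  rw [pow_one]
  exact sgT_pow_char p hw

theorem rootSub_pow (p : ℕ) [CharP F p] {u : V} {s : ↥(SG Q)} (hs : s ∈ rootSub Q u) :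
    s ^ (p ^ 1) = 1 := by
  obtain ⟨w, hw, rfl⟩ := (mem_rootSub_iff u s).mp hs
  rw [pow_one]
  exact sgT_pow_char p hw

/-- the stabilizer of a vector. -/
def FixV (Q : QuadraticForm F V) (u : V) : Subgroup ↥(SG Q) where
  carrier := {g | ap g u = u}
  mul_mem' := by
    intro a b ha hb
    show ap (a * b) u = u
    rw [ap_mul, hb, ha]
  one_mem' := ap_one u
  inv_mem' := by
    intro a ha
    show ap a⁻¹ u = u
    conv_lhs => rw [← ha]
    exact ap_inv_ap a u

theorem mem_FixV {u : V} {g : ↥(SG Q)} : g ∈ FixV Q u ↔ ap g u = u := Iff.rfl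

theorem conj_mem_rootSub {u : V} {g s : ↥(SG Q)} (hg : ap g u = u) (hs : s ∈ rootSub Q u) :
    g * s * g⁻¹ ∈ rootSub Q u := by
  obtain ⟨w, hw, rfl⟩ := (mem_rootSub_iff u s).mp hs
  rw [sgT_conj, hg]
  apply sgT_mem_rootSub
  have := polar_ap g u w
  rw [hg] at this
  rw [this, hw]

theorem FixV_le_normalizer (u : V) : FixV Q u ≤ Subgroup.normalizer (rootSub Q u) := by
  intro g hg
  rw [Subgroup.mem_normalizer_iff]
  intro s
  constructor
  · exact conj_mem_rootSub hg
  · intro hs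
    have hg' : ap g⁻¹ u = u := (FixV Q u).inv_mem hg
    have := conj_mem_rootSub hg' hs
    have e : g⁻¹ * (g * s * g⁻¹) * g⁻¹⁻¹ = s := by group
    rw [e] at this
    exact this

/-! ### vectors fixed by a root subgroup -/

theorem mem_span_of_fixed [FiniteDimensional F V] (hQ : Nondeg Q) (h3 : 3 ≤ finrank F V)
    (h : HP Q) {v : V} (hv : ∀ w ∈ h.W, ap (sgT Q h.e w) v = v) : v ∈ Submodule.span F {h.e} := by
  have key : ∀ w ∈ h.W, QuadraticMap.polar Q v w • h.e - QuadraticMap.polar Q v h.e • w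
      - (Q w * QuadraticMap.polar Q v h.e) • h.e = 0 := by
    intro w hw
    have h1 := hv w hw
    rw [ap_sgT h.he (h.mem_W.mp hw).1] at h1
    have : v + QuadraticMap.polar Q v w • h.e - QuadraticMap.polar Q v h.e • w
      - (Q w * QuadraticMap.polar Q v h.e) • h.e - v = 0 := by rw [h1, sub_self]
    rw [← this]
    abel
  obtain ⟨w₀, hw₀, hw₀0⟩ := h.W_ne_bot h3
  have hve : QuadraticMap.polar Q v h.e = 0 := by
    have h1 := key w₀ hw₀
    have h2 := LinearIndependent.pair_iff.mp (h.li_e_w hw₀ hw₀0)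
      (QuadraticMap.polar Q v w₀ - Q w₀ * QuadraticMap.polar Q v h.e)
      (-QuadraticMap.polar Q v h.e) (by rw [← h1]; module)
    exact neg_eq_zero.mp h2.2
  have hvw : ∀ w ∈ h.W, QuadraticMap.polar Q v w = 0 := by
    intro w hw
    have h1 := key w hw
    rw [hve, zero_smul, mul_zero, zero_smul, sub_zero, sub_zero] at h1
    rcases smul_eq_zero.mp h1 with h2 | h2
    · exact h2
    · exact absurd h2 h.e_ne
  have hpw : h.pw v = 0 := by
    apply h.W_nondeg hQ _ (h.pw_mem v)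
    intro w' hw'
    have e1 := (h.mem_W'.mp hw')
    unfold HP.pw
    rw [QuadraticMap.polar_sub_left, QuadraticMap.polar_sub_left, QuadraticMap.polar_smul_left,
      QuadraticMap.polar_smul_left, hvw w' hw', QuadraticMap.polar_comm Q h.e w', e1.1,
      QuadraticMap.polar_comm Q h.f w', e1.2]
    simp
  have := h.dec v
  rw [hpw, add_zero, QuadraticMap.polar_comm Q h.e v, hve, zero_smul, add_zero] at this
  rw [this]
  exact Submodule.smul_mem _ _ (Submodule.mem_span_singleton_self _)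

/-! ### the kernel lemma -/

/-- **an element fixing `e` and acting trivially on `e^⊥ / e` is a Siegel transformation.** -/
theorem exists_sgT_of_trivial (h : HP Q) {g : ↥(SG Q)} (hge : ap g h.e = h.e)
    (hg : ∀ w ∈ h.W, ∃ c : F, ap g w = w + c • h.e) :
    ∃ w₁ ∈ h.W, g = sgT Q h.e w₁ := by
  -- the image of `f`
  have h1 : QuadraticMap.polar Q h.e (ap g h.f) = 1 := by
    have := polar_ap g h.e h.f
    rw [hge, h.hef] at this
    exact this
  have h2 : Q h.f = Q (ap g h.f) := by rw [Q_ap]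
  obtain ⟨h3, h4⟩ := sieg_move Q h.he h2 h.hef h1
  -- `ρ = sgT e (f - g f)` sends `f` to `g f`
  have h5 : ap (sgT Q h.e (h.f - ap g h.f)) h.f = ap g h.f := by
    show siegE Q h.e (h.f - ap g h.f) h.f = ap g h.f
    exact h4
  obtain ⟨w₁, hw₁⟩ : ∃ w₁, w₁ = h.pw (h.f - ap g h.f) := ⟨_, rfl⟩
  have hw₁W : w₁ ∈ h.W := by rw [hw₁]; exact h.pw_mem _
  have h6 : sgT Q h.e (h.f - ap g h.f) = sgT Q h.e w₁ := by
    have e1 := h.dec (h.f - ap g h.f)
    rw [h3, zero_smul, add_zero, ← hw₁] at e1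
    rw [e1, add_comm, sgT_add_smul h.he (h.mem_W.mp hw₁W).1]
  rw [h6] at h5
  refine ⟨w₁, hw₁W, ?_⟩
  -- `g' = ρ⁻¹ g` fixes `e`, `f`
  apply ext_ap
  intro x
  have hρe : ap (sgT Q h.e w₁) h.e = h.e := ap_sgT_self _ _
  -- on `W`
  have hW : ∀ w ∈ h.W, ap g w = ap (sgT Q h.e w₁) w := by
    intro w hw
    obtain ⟨c, hc⟩ := hg w hw
    have hwe := (h.mem_W'.mp hw).1
    have hwf := (h.mem_W'.mp hw).2
    rw [ap_sgT h.he (h.mem_W.mp hw₁W).1, hwe, hc]
    -- compare via pairing with `g f`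
    have e1 : QuadraticMap.polar Q (ap g w) (ap g h.f) = 0 := by rw [polar_ap, hwf]
    rw [hc, ← h5, ap_sgT h.he (h.mem_W.mp hw₁W).1, h.hfe] at e1
    have hw₁e := (h.mem_W'.mp hw₁W).1
    have hw₁f := (h.mem_W'.mp hw₁W).2
    simp only [QuadraticMap.polar_add_left, QuadraticMap.polar_add_right,
      QuadraticMap.polar_sub_right, QuadraticMap.polar_smul_left, QuadraticMap.polar_smul_right,
      hwe, hwf, h.hee, h.hef, QuadraticMap.polar_comm Q h.e w₁, hw₁e,
      QuadraticMap.polar_comm Q h.f w₁, hw₁f, smul_eq_mul, mul_zero, mul_one, zero_add, add_zero,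
      sub_zero] at e1
    have : c = QuadraticMap.polar Q w w₁ := by linear_combination e1
    rw [this]
    module
  have e2 := h.dec x
  have hx : ap g x = QuadraticMap.polar Q h.f x • ap g h.e + QuadraticMap.polar Q h.e x • ap g h.f
      + ap g (h.pw x) := by
    conv_lhs => rw [e2]
    rw [map_add, map_add, map_smul, map_smul]
  have hx' : ap (sgT Q h.e w₁) x = QuadraticMap.polar Q h.f x • ap (sgT Q h.e w₁) h.e
      + QuadraticMap.polar Q h.e x • ap (sgT Q h.e w₁) h.f + ap (sgT Q h.e w₁) (h.pw x) := by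
    conv_lhs => rw [e2]
    rw [map_add, map_add, map_smul, map_smul]
  rw [hx, hx', hge, hρe, h5, hW _ (h.pw_mem x)]

end Cfsg.Agent.Helper8.AutO
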