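import Mathlib
import Cfsg.Agent.Helper8.AutOd
import Cfsg.Agent.Helper8.AutSLnC

set_option autoImplicit false

/-!
# Automorphisms of orthogonal groups, part e: the centre of a Sylow `p`-subgroup of the Siegel
group is a long root subgroup
-/

namespace Cfsg.Agent.Helper8.AutO

open Module Cfsg.Agent.Helper8.QuadForm Cfsg.Agent.Helper8.WittQuad Cfsg.Agent.Helper8.OrthOrder
  Cfsg.Agent.Helper8.Siegel Cfsg.Agent.Helper8.SiegelGeom Cfsg.Agent.Helper8.SiegelGroup
  Cfsg.Agent.Helper8.SiegelPrim Cfsg.Agent.Helper8.SiegelSimple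
open Cfsg.Agent.Helper8.AutSLn (ZZ mem_ZZ ZZ_smul)

variable {F : Type*} [Field F] {V : Type*} [AddCommGroup V] [Module F V] {Q : QuadraticForm F V}

/-- the nonzero vectors. -/
abbrev NZ (V : Type*) [AddCommGroup V] : Type _ := {v : V // v ≠ 0}

noncomputable instance instActNZ : MulAction ↥(SG Q) (NZ V) where
  smul g v := ⟨ap g v.1, ap_ne_zero g v.2⟩
  one_smul v := Subtype.ext (ap_one v.1)
  mul_smul g h v := Subtype.ext (ap_mul g h v.1)

theorem NZ_smul_val (g : ↥(SG Q)) (v : NZ V) : (g • v).1 = ap g v.1 := rfl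

theorem not_dvd_card_NZ [Fintype F] [FiniteDimensional F V] (p : ℕ) [Fact p.Prime] [CharP F p]
    (h1 : 1 ≤ finrank F V) : ¬ p ∣ Nat.card (NZ V) := by
  classical
  have : Finite V := Module.finite_of_finite F
  have : Fintype V := Fintype.ofFinite V
  have hc : Nat.card (NZ V) + 1 = Fintype.card F ^ finrank F V := by
    rw [← card_space (F := F) V, Nat.card_eq_fintype_card, Nat.card_eq_fintype_card,
      Fintype.card_subtype_compl (fun v : V => v = 0), Fintype.card_subtype_eq]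
    have : 1 ≤ Fintype.card V := Fintype.card_pos
    omega
  intro h
  have h0 : p ∣ Fintype.card F := by
    have h1 : (Fintype.card F : F) = 0 := Nat.cast_card_eq_zero F
    exact (CharP.cast_eq_zero_iff F p _).mp h1
  have h2 : p ∣ Fintype.card F ^ finrank F V := dvd_pow h0 (by omega)
  rw [← hc] at h2
  have h3 : p ∣ 1 := (Nat.dvd_add_right h).mp h2
  exact (Fact.out : p.Prime).one_lt.ne' (Nat.dvd_one.mp h3)

instance instFiniteSG [Finite F] [FiniteDimensional F V] : Finite ↥(SG Q) := by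
  have : Finite V := Module.finite_of_finite F
  have : Finite (V ≃ₗ[F] V) :=
    Finite.of_injective (fun g : V ≃ₗ[F] V => (g : V → V)) DFunLike.coe_injective
  infer_instance

/-- a flag frame: a hyperbolic pair and a second one inside its orthogonal complement. -/
structure Flag (Q : QuadraticForm F V) where
  h : HP Q
  k : HP Q
  ke : k.e ∈ h.W
  kf : k.f ∈ h.W

namespace Flag

variable (fl : Flag Q)

theorem ts : IsTS Q fl.h.e fl.k.e :=
  ⟨fl.h.he, fl.k.he, (fl.h.mem_W.mp fl.ke).1, fl.h.li_e_w fl.ke fl.k.e_ne⟩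

/-- the second layer of the unipotent radical. -/
def Q2 : Subgroup ↥(SG Q) := rootSub Q fl.k.e ⊓ FixV Q fl.h.e

/-- the `p`-group attached to the flag. -/
def K : Subgroup ↥(SG Q) := rootSub Q fl.h.e ⊔ fl.Q2

theorem isPGroup_K (p : ℕ) [Fact p.Prime] [CharP F p] : IsPGroup p fl.K := by
  apply IsPGroup.to_sup_of_normal_left' (isPGroup_rootSub p _)
  · exact (isPGroup_rootSub p fl.k.e).to_le inf_le_left
  · exact le_trans inf_le_right (FixV_le_normalizer _)

theorem sgT_mem_Q2 {z : V} (hz : z ∈ fl.h.W) (hkz : QuadraticMap.polar Q fl.k.e z = 0) :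
    sgT Q fl.k.e z ∈ fl.Q2 := by
  refine Subgroup.mem_inf.mpr ⟨sgT_mem_rootSub hkz, ?_⟩
  rw [mem_FixV]
  apply ap_sgT_fix
  · exact (fl.h.mem_W.mp fl.ke).1
  · exact (fl.h.mem_W.mp hz).1

/-- the common complement `⟨e, f, k.e, k.f⟩^⊥` is nondegenerate. -/
theorem eq_zero_of_perp_W2 (hQ : Nondeg Q) {w : V} (hw : w ∈ fl.h.W) (hw' : w ∈ fl.k.W)
    (hperp : ∀ z ∈ fl.h.W, z ∈ fl.k.W → QuadraticMap.polar Q w z = 0) : w = 0 := by
  apply hQ
  intro x
  have e1 := fl.h.dec x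
  have e2 := fl.k.dec (fl.h.pw x)
  have hmem : fl.k.pw (fl.h.pw x) ∈ fl.h.W := by
    unfold HP.pw
    exact Submodule.sub_mem _ (Submodule.sub_mem _ (fl.h.pw_mem x)
      (Submodule.smul_mem _ _ fl.ke)) (Submodule.smul_mem _ _ fl.kf)
  have h1 := fl.h.mem_W'.mp hw
  have h2 := fl.k.mem_W'.mp hw'
  rw [e1, e2]
  simp only [QuadraticMap.polar_add_right, QuadraticMap.polar_smul_right, h1.1, h1.2, h2.1, h2.2,
    hperp _ hmem (fl.k.pw_mem _), smul_zero, add_zero]

theorem exists_W2_ne [FiniteDimensional F V] (h5 : 5 ≤ finrank F V) :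
    ∃ z, z ∈ fl.h.W ∧ z ∈ fl.k.W ∧ z ≠ 0 := by
  have h1 := fl.h.finrank_W
  have h2 := fl.k.finrank_W
  have h3 := Submodule.finrank_sup_add_finrank_inf_eq fl.h.W fl.k.W
  have h4 : finrank F ↥(fl.h.W ⊔ fl.k.W) ≤ finrank F V := Submodule.finrank_le _
  have hnt : Nontrivial ↥(fl.h.W ⊓ fl.k.W) := by
    apply Module.nontrivial_of_finrank_pos (R := F)
    omega
  obtain ⟨⟨z, hz⟩, hz0⟩ := exists_ne (0 : ↥(fl.h.W ⊓ fl.k.W))
  exact ⟨z, hz.1, hz.2, fun h0 => hz0 (Subtype.ext h0)⟩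

end Flag

/-- **the centre of a Sylow `p`-subgroup containing the flag group is the long root subgroup.** -/
theorem ZZ_sylow [Fintype F] [FiniteDimensional F V] (hQ : Nondeg Q) (h5 : 5 ≤ finrank F V)
    (p : ℕ) [Fact p.Prime] [CharP F p] (fl : Flag Q) (P : Sylow p ↥(SG Q))
    (hK : fl.K ≤ P) : ZZ (P : Subgroup ↥(SG Q)) = X Q fl.h.e fl.k.e := by
  have hR : rootSub Q fl.h.e ≤ P := le_trans le_sup_left hK
  have hQ2 : fl.Q2 ≤ P := le_trans le_sup_right hK
  -- `P` fixes `e`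
  have hfix : ∀ g ∈ (P : Subgroup ↥(SG Q)), ap g fl.h.e = fl.h.e := by
    obtain ⟨v, hv⟩ := P.isPGroup'.nonempty_fixed_point_of_prime_not_dvd_card (NZ V)
      (not_dvd_card_NZ (F := F) p (by omega))
    rw [MulAction.mem_fixedPoints] at hv
    have h1 : ∀ u ∈ (P : Subgroup ↥(SG Q)), ap u v.1 = v.1 := fun u hu =>
      congrArg Subtype.val (hv ⟨u, hu⟩)
    have h2 := mem_span_of_fixed hQ (by omega) fl.h (v := v.1) (fun w hw =>
      h1 _ (hR (sgT_mem_rootSub (fl.h.mem_W.mp hw).1)))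
    obtain ⟨c, hc⟩ := Submodule.mem_span_singleton.mp h2
    have hc0 : c ≠ 0 := by
      rintro rfl
      rw [zero_smul] at hc
      exact v.2 hc.symm
    intro g hg
    have h3 := h1 g hg
    rw [← hc, map_smul] at h3
    exact smul_right_injective V hc0 h3
  -- conjugation formula on the root subgroup of `e`
  have hconj : ∀ g ∈ (P : Subgroup ↥(SG Q)), ∀ w, g * sgT Q fl.h.e w * g⁻¹ = sgT Q fl.h.e (ap g w) := by
    intro g hg w
    rw [sgT_conj, hfix g hg]
  have hpe : ∀ g ∈ (P : Subgroup ↥(SG Q)), ∀ w, QuadraticMap.polar Q fl.h.e w = 0 →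
      QuadraticMap.polar Q fl.h.e (ap g w) = 0 := by
    intro g hg w hw
    have := polar_ap g fl.h.e w
    rw [hfix g hg] at this
    rw [this, hw]
  have hts := fl.ts
  have hle : ZZ (P : Subgroup ↥(SG Q)) ≤ X Q fl.h.e fl.k.e := by
    -- the centre lies in the long root subgroup
    intro z hz
    rw [mem_ZZ] at hz
    obtain ⟨hzP, hzc⟩ := hz
    -- `z` is a Siegel transformation
    have h1 : ∀ w ∈ fl.h.W, ∃ c : F, ap z w = w + c • fl.h.e := by
      intro w hw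
      have hew := (fl.h.mem_W.mp hw).1
      have h2 : z * sgT Q fl.h.e w * z⁻¹ = sgT Q fl.h.e w := by
        rw [← hzc _ (hR (sgT_mem_rootSub hew)), mul_inv_cancel_right]
      rw [hconj z hzP] at h2
      have h3 := (sgT_eq_iff hQ fl.h.e_ne fl.h.he (hpe z hzP w hew) hew).mp h2
      obtain ⟨c, hc⟩ := Submodule.mem_span_singleton.mp h3
      exact ⟨c, by rw [hc]; abel⟩
    obtain ⟨w₁, hw₁, rfl⟩ := exists_sgT_of_trivial fl.h (hfix z hzP) h1
    have hew₁ := (fl.h.mem_W.mp hw₁).1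
    -- commuting with the second layer
    have h2 : ∀ z' ∈ fl.h.W, QuadraticMap.polar Q fl.k.e z' = 0 →
        QuadraticMap.polar Q w₁ z' • fl.k.e - QuadraticMap.polar Q w₁ fl.k.e • z'
          - (Q z' * QuadraticMap.polar Q w₁ fl.k.e) • fl.k.e = 0 := by
      intro z' hz' hkz'
      have hmem := hQ2 (fl.sgT_mem_Q2 hz' hkz')
      have h3 : sgT Q fl.k.e z' * sgT Q fl.h.e w₁ * (sgT Q fl.k.e z')⁻¹ = sgT Q fl.h.e w₁ := by
        rw [hzc _ hmem, mul_inv_cancel_right]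
      rw [hconj _ hmem] at h3
      have h4 := (sgT_eq_iff hQ fl.h.e_ne fl.h.he (hpe _ hmem w₁ hew₁) hew₁).mp h3
      rw [ap_sgT fl.k.he hkz'] at h4
      obtain ⟨c, hc⟩ := Submodule.mem_span_singleton.mp h4
      have h5 : c • fl.h.e ∈ fl.h.W := by
        rw [hc]
        have : w₁ + QuadraticMap.polar Q w₁ z' • fl.k.e - QuadraticMap.polar Q w₁ fl.k.e • z'
            - (Q z' * QuadraticMap.polar Q w₁ fl.k.e) • fl.k.e - w₁
            = QuadraticMap.polar Q w₁ z' • fl.k.e - QuadraticMap.polar Q w₁ fl.k.e • z'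
            - (Q z' * QuadraticMap.polar Q w₁ fl.k.e) • fl.k.e := by abel
        rw [this]
        exact Submodule.sub_mem _ (Submodule.sub_mem _ (Submodule.smul_mem _ _ fl.ke)
          (Submodule.smul_mem _ _ hz')) (Submodule.smul_mem _ _ fl.ke)
      have hc0 : c = 0 := by
        by_contra hc0
        apply fl.h.e_not_mem_W
        have := Submodule.smul_mem fl.h.W c⁻¹ h5
        rwa [smul_smul, inv_mul_cancel₀ hc0, one_smul] at this
      rw [hc0, zero_smul] at hc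
      have e2 : QuadraticMap.polar Q w₁ z' • fl.k.e - QuadraticMap.polar Q w₁ fl.k.e • z'
          - (Q z' * QuadraticMap.polar Q w₁ fl.k.e) • fl.k.e
          = w₁ + QuadraticMap.polar Q w₁ z' • fl.k.e - QuadraticMap.polar Q w₁ fl.k.e • z'
            - (Q z' * QuadraticMap.polar Q w₁ fl.k.e) • fl.k.e - w₁ := by abel
      rw [e2, ← hc]
    obtain ⟨z₀, hz₀h, hz₀k, hz₀0⟩ := fl.exists_W2_ne h5
    have hkz₀ := (fl.k.mem_W.mp hz₀k).1
    -- `w₁ ⟂ k.e`
    have h3 : QuadraticMap.polar Q w₁ fl.k.e = 0 := by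
      have h4 := h2 z₀ hz₀h hkz₀
      have li := fl.k.li_e_w hz₀k hz₀0
      have := LinearIndependent.pair_iff.mp li
        (QuadraticMap.polar Q w₁ z₀ - Q z₀ * QuadraticMap.polar Q w₁ fl.k.e)
        (-QuadraticMap.polar Q w₁ fl.k.e) (by rw [← h4]; module)
      exact neg_eq_zero.mp this.2
    -- `w₁ ⟂ W₂`
    have h4 : ∀ z' ∈ fl.h.W, z' ∈ fl.k.W → QuadraticMap.polar Q w₁ z' = 0 := by
      intro z' hz'h hz'k
      have h5 := h2 z' hz'h (fl.k.mem_W.mp hz'k).1
      rw [h3, zero_smul, mul_zero, zero_smul, sub_zero, sub_zero] at h5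
      rcases smul_eq_zero.mp h5 with h6 | h6
      · exact h6
      · exact absurd h6 fl.k.e_ne
    -- hence `w₁ ∈ ⟨k.e⟩`
    have h5 : fl.k.pw w₁ = 0 := by
      apply fl.eq_zero_of_perp_W2 hQ
      · unfold HP.pw
        exact Submodule.sub_mem _ (Submodule.sub_mem _ hw₁ (Submodule.smul_mem _ _ fl.ke))
          (Submodule.smul_mem _ _ fl.kf)
      · exact fl.k.pw_mem _
      · intro z' hz'h hz'k
        have e1 := fl.k.mem_W.mp hz'k
        unfold HP.pw
        rw [QuadraticMap.polar_sub_left, QuadraticMap.polar_sub_left, QuadraticMap.polar_smul_left,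
          QuadraticMap.polar_smul_left, h4 z' hz'h hz'k, e1.1, e1.2]
        simp
    have h6 := fl.k.dec w₁
    rw [h5, add_zero, QuadraticMap.polar_comm Q fl.k.e w₁, h3, zero_smul, add_zero] at h6
    rw [h6]
    exact sgT_mem_X _ _ _
  apply le_antisymm hle
  -- the long root subgroup is central
  have : Nontrivial ↥(P : Subgroup ↥(SG Q)) := by
    obtain ⟨z₀, hz₀h, -, hz₀0⟩ := fl.exists_W2_ne h5
    refine ⟨⟨⟨sgT Q fl.h.e z₀, hR (sgT_mem_rootSub (fl.h.mem_W.mp hz₀h).1)⟩, 1, ?_⟩⟩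
    intro h0
    have h1 : sgT Q fl.h.e z₀ = 1 := congrArg Subtype.val h0
    have h2 := mem_span_of_sgT_eq_one hQ fl.h.e_ne fl.h.he (fl.h.mem_W.mp hz₀h).1 h1
    obtain ⟨c, hc⟩ := Submodule.mem_span_singleton.mp h2
    have := (fl.h.mem_W.mp hz₀h).2
    rw [← hc, QuadraticMap.polar_smul_right, fl.h.hfe, smul_eq_mul, mul_one] at this
    rw [this, zero_smul] at hc
    exact hz₀0 hc.symm
  have hcn := P.isPGroup'.center_nontrivial
  obtain ⟨⟨c₀, hc₀⟩, hne⟩ := exists_ne (1 : Subgroup.center ↥(P : Subgroup ↥(SG Q)))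
  have hc₀Z : (c₀ : ↥(SG Q)) ∈ ZZ (P : Subgroup ↥(SG Q)) := by
    rw [mem_ZZ]
    refine ⟨c₀.2, fun g hg => ?_⟩
    have := (Subgroup.mem_center_iff.mp hc₀) ⟨g, hg⟩
    exact congrArg Subtype.val this
  obtain ⟨α, hα⟩ := (mem_X_iff hts _).mp (hle hc₀Z)
  have hα0 : α ≠ 0 := by
    rintro rfl
    rw [zero_smul, sgT_zero] at hα
    apply hne
    apply Subtype.ext
    apply Subtype.ext
    exact hα
  have hek : QuadraticMap.polar Q fl.h.e fl.k.e = 0 := hts.ab
  -- every element of `P` fixes `k.e` modulo `e`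
  have hmod : ∀ g ∈ (P : Subgroup ↥(SG Q)), ap g fl.k.e - fl.k.e ∈ Submodule.span F {fl.h.e} := by
    intro g hg
    have hpk : QuadraticMap.polar Q fl.h.e (α • fl.k.e) = 0 := by
      rw [QuadraticMap.polar_smul_right, hek, smul_zero]
    have h2 : g * sgT Q fl.h.e (α • fl.k.e) * g⁻¹ = sgT Q fl.h.e (α • fl.k.e) := by
      rw [← hα, (mem_ZZ.mp hc₀Z).2 g hg, mul_inv_cancel_right]
    rw [hconj g hg] at h2
    have h3 := (sgT_eq_iff hQ fl.h.e_ne fl.h.he (hpe g hg _ hpk) hpk).mp h2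
    rw [map_smul, ← smul_sub] at h3
    have := Submodule.smul_mem _ α⁻¹ h3
    rwa [smul_smul, inv_mul_cancel₀ hα0, one_smul] at this
  intro x hx
  obtain ⟨c, rfl⟩ := (mem_X_iff hts x).mp hx
  have hpk : QuadraticMap.polar Q fl.h.e (c • fl.k.e) = 0 := by
    rw [QuadraticMap.polar_smul_right, hek, smul_zero]
  rw [mem_ZZ]
  refine ⟨hR (sgT_mem_rootSub hpk), fun g hg => ?_⟩
  have h1 : g * sgT Q fl.h.e (c • fl.k.e) * g⁻¹ = sgT Q fl.h.e (c • fl.k.e) := by
    rw [hconj g hg]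
    apply (sgT_eq_iff hQ fl.h.e_ne fl.h.he (hpe g hg _ hpk) hpk).mpr
    rw [map_smul, ← smul_sub]
    exact Submodule.smul_mem _ _ (hmod g hg)
  calc g * sgT Q fl.h.e (c • fl.k.e) = (g * sgT Q fl.h.e (c • fl.k.e) * g⁻¹) * g := by group
    _ = sgT Q fl.h.e (c • fl.k.e) * g := by rw [h1]

end Cfsg.Agent.Helper8.AutO
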