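import Mathlib
import Cfsg.Agent.Helper8.AutOe

set_option autoImplicit false

/-!
# Automorphisms of orthogonal groups, part f: every automorphism of the projective Siegel group
permutes the long root subgroups
-/

namespace Cfsg.Agent.Helper8.AutO

open Module Cfsg.Agent.Helper8.QuadForm Cfsg.Agent.Helper8.WittQuad Cfsg.Agent.Helper8.OrthOrder
  Cfsg.Agent.Helper8.Siegel Cfsg.Agent.Helper8.SiegelGeom Cfsg.Agent.Helper8.SiegelGroup
  Cfsg.Agent.Helper8.SiegelPrim Cfsg.Agent.Helper8.SiegelSimple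
open Cfsg.Agent.Helper8.AutSLn (ZZ mem_ZZ ZZ_smul)

open scoped Pointwise

variable {F : Type*} [Field F] {V : Type*} [AddCommGroup V] [Module F V] {Q : QuadraticForm F V}

/-- a flag frame adapted to a totally singular pair. -/
theorem exists_flag [FiniteDimensional F V] (hQ : Nondeg Q) {a b : V} (h : IsTS Q a b) :
    ∃ fl : Flag Q, fl.h.e = a ∧ X Q fl.h.e fl.k.e = X Q a b := by
  obtain ⟨hp, rfl⟩ := exists_HP hQ h.a_ne h.qa
  obtain ⟨b', hb'⟩ : ∃ b', b' = hp.pw b := ⟨_, rfl⟩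
  have hb'e : b' = b - QuadraticMap.polar Q hp.f b • hp.e := by
    rw [hb']
    unfold HP.pw
    rw [h.ab, zero_smul, sub_zero]
  have hb'W : b' ∈ hp.W := by rw [hb']; exact hp.pw_mem b
  have hts : IsTS Q hp.e b' := by
    have e1 : b' = (-QuadraticMap.polar Q hp.f b) • hp.e + (1 : F) • b := by rw [hb'e]; module
    refine ⟨h.qa, ?_, (hp.mem_W.mp hb'W).1, ?_⟩
    · rw [e1]; exact h.Q_comb _ _
    · rw [LinearIndependent.pair_iff]
      intro s t hst
      rw [e1] at hst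
      have := h.eq_zero_of_comb (s := s - t * QuadraticMap.polar Q hp.f b) (t := t) (by
        rw [← hst]; module)
      have h2 := this.2
      have h1 := this.1
      rw [h2, zero_mul, sub_zero] at h1
      exact ⟨h1, h2⟩
  obtain ⟨c, hcW, hc, hbc⟩ := exists_partner_in Q hp.W (hp.W_nondeg hQ) hb'W hts.qb hts.b_ne
  refine ⟨⟨hp, ⟨b', c, hts.qb, hc, hbc⟩, hb'W, hcW⟩, rfl, ?_⟩
  show X Q hp.e b' = X Q hp.e b
  apply X_eq_of_span h hts
  apply h.span_eq_of_mem hts (Submodule.subset_span (by simp))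
  rw [hb'e]
  exact Submodule.sub_mem _ (Submodule.subset_span (by simp))
    (Submodule.smul_mem _ _ (Submodule.subset_span (by simp)))

/-- every long root subgroup is the centre of a Sylow `p`-subgroup. -/
theorem exists_sylow_ZZ [Fintype F] [FiniteDimensional F V] (hQ : Nondeg Q)
    (h5 : 5 ≤ finrank F V) (p : ℕ) [Fact p.Prime] [CharP F p] {a b : V} (h : IsTS Q a b) :
    ∃ P : Sylow p ↥(SG Q), ZZ (P : Subgroup ↥(SG Q)) = X Q a b := by
  obtain ⟨fl, -, hX⟩ := exists_flag hQ h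
  obtain ⟨P, hP⟩ := (fl.isPGroup_K p).exists_le_sylow
  exact ⟨P, by rw [ZZ_sylow hQ h5 p fl P hP, hX]⟩

/-- the image of a long root subgroup in the projective group. -/
def Xb (Q : QuadraticForm F V) (a b : V) : Subgroup (PG Q) := (X Q a b).map pr

/-- the long root subgroups of the projective group. -/
def IsRootSub (R : Subgroup (PG Q)) : Prop := ∃ a b, IsTS Q a b ∧ R = Xb Q a b

theorem ZZ_map_pr [Fintype F] [FiniteDimensional F V] (hQ : Nondeg Q) (h5 : 5 ≤ finrank F V)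
    (p : ℕ) [Fact p.Prime] [CharP F p] (P : Sylow p ↥(SG Q)) {a b : V}
    (hZ : ZZ (P : Subgroup ↥(SG Q)) = X Q a b) :
    ZZ ((P : Subgroup ↥(SG Q)).map pr) = Xb Q a b := by
  have hpow : ∀ h ∈ (P : Subgroup ↥(SG Q)), ∃ n : ℕ, h ^ (p ^ n) = 1 := by
    intro h hh
    obtain ⟨n, hn⟩ := P.isPGroup' ⟨h, hh⟩
    exact ⟨n, congrArg Subtype.val hn⟩
  ext x
  rw [mem_ZZ]
  constructor
  · rintro ⟨⟨g, hg, rfl⟩, hc⟩
    have hgZ : g ∈ ZZ (P : Subgroup ↥(SG Q)) := by
      rw [mem_ZZ]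
      refine ⟨hg, fun h hh => ?_⟩
      have h1 := hc (pr h) ⟨h, hh, rfl⟩
      obtain ⟨n, hn⟩ := hpow h hh
      have h2 : pr (g * h * g⁻¹) = pr h := by
        rw [map_mul, map_mul, ← h1, map_inv, mul_inv_cancel_right]
      have h3 : g * h * g⁻¹ = h :=
        eq_of_pr_eq hQ h5 p (k := n) (l := n) (by rw [conj_pow, hn, mul_one, mul_inv_cancel]) hn h2
      calc h * g = (g * h * g⁻¹) * g := by rw [h3]
        _ = g * h := by group
    rw [hZ] at hgZ
    exact Subgroup.mem_map_of_mem _ hgZ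
  · rintro ⟨y, hy, rfl⟩
    have hy' : y ∈ ZZ (P : Subgroup ↥(SG Q)) := by rw [hZ]; exact hy
    rw [mem_ZZ] at hy'
    refine ⟨Subgroup.mem_map_of_mem _ hy'.1, ?_⟩
    rintro _ ⟨h, hh, rfl⟩
    rw [← map_mul, ← map_mul, hy'.2 h hh]

theorem conj_smul_X {a b : V} (h : IsTS Q a b) (g : ↥(SG Q)) :
    MulAut.conj g • X Q a b = X Q (ap g a) (ap g b) := by
  ext x
  rw [Subgroup.mem_pointwise_smul_iff_inv_smul_mem, MulAut.smul_def, ← map_inv, MulAut.conj_apply,
    inv_inv]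
  constructor
  · intro hx
    have := conj_mem_X h g hx
    have e : g * (g⁻¹ * x * g) * g⁻¹ = x := by group
    rwa [e] at this
  · intro hx
    have := conj_mem_X (h.ap g) g⁻¹ hx
    rw [ap_inv_ap, ap_inv_ap, inv_inv] at this
    exact this

theorem conj_smul_Xb {a b : V} (h : IsTS Q a b) (g : ↥(SG Q)) :
    MulAut.conj (pr g) • Xb Q a b = Xb Q (ap g a) (ap g b) := by
  unfold Xb
  rw [← conj_smul_X h g]
  ext x
  constructor
  · rintro ⟨_, ⟨y, hy, rfl⟩, rfl⟩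
    refine ⟨g * y * g⁻¹, ⟨y, hy, rfl⟩, ?_⟩
    simp [MulAut.conj_apply]
  · rintro ⟨_, ⟨y, hy, rfl⟩, rfl⟩
    refine ⟨pr y, ⟨y, hy, rfl⟩, ?_⟩
    simp [MulAut.conj_apply]

theorem isRootSub_conj {R : Subgroup (PG Q)} (hR : IsRootSub R) (x : PG Q) :
    IsRootSub (MulAut.conj x • R) := by
  obtain ⟨a, b, h, rfl⟩ := hR
  obtain ⟨g, rfl⟩ := pr_surjective x
  exact ⟨_, _, h.ap g, conj_smul_Xb h g⟩

theorem exists_ts [Finite F] [FiniteDimensional F V] (hQ : Nondeg Q) (h5 : 5 ≤ finrank F V) :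
    ∃ a b, IsTS Q a b := by
  obtain ⟨u, hu0, hu⟩ := exists_singular Q (show 3 ≤ finrank F V by omega)
  obtain ⟨e, f, h1, -, -⟩ := exists_two_ts hQ h5 hu0 hu
  exact ⟨u, e, h1⟩

/-- the centre of every Sylow `p`-subgroup of the projective group is a long root subgroup. -/
theorem isRootSub_ZZ_sylow [Fintype F] [FiniteDimensional F V] (hQ : Nondeg Q)
    (h5 : 5 ≤ finrank F V) (p : ℕ) [Fact p.Prime] [CharP F p] (S : Sylow p (PG Q)) :
    IsRootSub (ZZ (S : Subgroup (PG Q))) := by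
  obtain ⟨a, b, hab⟩ := exists_ts hQ h5
  obtain ⟨P₀, hP₀⟩ := exists_sylow_ZZ hQ h5 p hab
  obtain ⟨x, hx⟩ := MulAction.exists_smul_eq (PG Q) (P₀.mapSurjective pr_surjective) S
  have h1 := congrArg (fun P : Sylow p (PG Q) => (P : Subgroup (PG Q))) hx
  simp only [Sylow.coe_subgroup_smul, Sylow.coe_mapSurjective] at h1
  rw [← h1, ZZ_smul, ZZ_map_pr hQ h5 p P₀ hP₀]
  exact isRootSub_conj ⟨a, b, hab, rfl⟩ x

/-- **every automorphism of the projective Siegel group permutes the long root subgroups.** -/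
theorem rootPres [Fintype F] [FiniteDimensional F V] (hQ : Nondeg Q)
    (h5 : 5 ≤ finrank F V) (p : ℕ) [Fact p.Prime] [CharP F p] (β : MulAut (PG Q))
    {R : Subgroup (PG Q)} (hR : IsRootSub R) : IsRootSub (β • R) := by
  obtain ⟨a, b, hab, rfl⟩ := hR
  obtain ⟨P, hP⟩ := exists_sylow_ZZ hQ h5 p hab
  have h1 := isRootSub_ZZ_sylow hQ h5 p (β • P.mapSurjective pr_surjective)
  rw [Sylow.pointwise_smul_def, Sylow.coe_mapSurjective, ZZ_smul, ZZ_map_pr hQ h5 p P hP] at h1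
  exact h1

end Cfsg.Agent.Helper8.AutO
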