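import Mathlib
import Cfsg.Agent.Helper8.AutOf

set_option autoImplicit false

/-!
# Automorphisms of orthogonal groups, part g: pairs of totally singular lines
-/

namespace Cfsg.Agent.Helper8.AutO

open Module Cfsg.Agent.Helper8.QuadForm Cfsg.Agent.Helper8.WittQuad Cfsg.Agent.Helper8.OrthOrder
  Cfsg.Agent.Helper8.Siegel Cfsg.Agent.Helper8.SiegelGeom Cfsg.Agent.Helper8.SiegelGroup
  Cfsg.Agent.Helper8.SiegelPrim Cfsg.Agent.Helper8.SiegelSimple

variable {F : Type*} [Field F] {V : Type*} [AddCommGroup V] [Module F V] {Q : QuadraticForm F V}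

/-- two lines meet. -/
def Meet (a b c d : V) : Prop :=
  ∃ x : V, x ≠ 0 ∧ x ∈ Submodule.span F {a, b} ∧ x ∈ Submodule.span F {c, d}

/-- two lines are orthogonal. -/
def Perp4 (Q : QuadraticForm F V) (a b c d : V) : Prop :=
  QuadraticMap.polar Q a c = 0 ∧ QuadraticMap.polar Q a d = 0 ∧ QuadraticMap.polar Q b c = 0 ∧
    QuadraticMap.polar Q b d = 0

theorem Perp4.polar_of_mem {a b c d x y : V} (h : Perp4 Q a b c d)
    (hx : x ∈ Submodule.span F {a, b}) (hy : y ∈ Submodule.span F {c, d}) :
    QuadraticMap.polar Q x y = 0 := by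
  obtain ⟨s, t, rfl⟩ := Submodule.mem_span_pair.mp hx
  obtain ⟨s', t', rfl⟩ := Submodule.mem_span_pair.mp hy
  simp only [QuadraticMap.polar_add_left, QuadraticMap.polar_add_right,
    QuadraticMap.polar_smul_left, QuadraticMap.polar_smul_right, h.1, h.2.1, h.2.2.1, h.2.2.2]
  simp

/-- four independent vectors from two disjoint lines. -/
theorem eq_zero_of_not_meet {a b c d : V} (h : IsTS Q a b) (h' : IsTS Q c d)
    (hm : ¬ Meet (F := F) a b c d) {α β γ δ : F} (h0 : α • a + β • b + γ • c + δ • d = 0) :
    α = 0 ∧ β = 0 ∧ γ = 0 ∧ δ = 0 := by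
  have h1 : α • a + β • b = (-γ) • c + (-δ) • d := by
    have : α • a + β • b - ((-γ) • c + (-δ) • d) = α • a + β • b + γ • c + δ • d := by module
    rw [← sub_eq_zero, this, h0]
  by_cases hx : α • a + β • b = 0
  · have h2 := h.eq_zero_of_comb hx
    rw [hx] at h1
    have h3 := h'.eq_zero_of_comb h1.symm
    exact ⟨h2.1, h2.2, neg_eq_zero.mp h3.1, neg_eq_zero.mp h3.2⟩
  · exfalso
    apply hm
    refine ⟨α • a + β • b, hx, Submodule.mem_span_pair.mpr ⟨α, β, rfl⟩, ?_⟩
    rw [h1]
    exact Submodule.mem_span_pair.mpr ⟨-γ, -δ, rfl⟩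

theorem not_mem_span_of_not_meet {a b c d : V} (h : IsTS Q a b) (h' : IsTS Q c d)
    (hm : ¬ Meet (F := F) a b c d) : b ∉ Submodule.span F {a, c, d} := by
  intro hb
  rw [Submodule.mem_span_insert] at hb
  obtain ⟨α, z, hz, hbz⟩ := hb
  obtain ⟨γ, δ, rfl⟩ := Submodule.mem_span_pair.mp hz
  have := eq_zero_of_not_meet h h' hm (α := α) (β := -1) (γ := γ) (δ := δ) (by
    rw [hbz]; module)
  exact one_ne_zero (neg_eq_zero.mp this.2.1)

/-- a vector dual to `b` against `a, c, d`. -/
theorem exists_dual_four [FiniteDimensional F V] (hQ : Nondeg Q) {a b c d : V} (h : IsTS Q a b)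
    (h' : IsTS Q c d) (hm : ¬ Meet (F := F) a b c d) :
    ∃ x, QuadraticMap.polar Q x b = 1 ∧ QuadraticMap.polar Q x a = 0 ∧
      QuadraticMap.polar Q x c = 0 ∧ QuadraticMap.polar Q x d = 0 := by
  obtain ⟨y, hy1, hy2⟩ := exists_dual_vec Q ((nondeg_iff Q).mpr hQ) (Submodule.span F {a, c, d})
    (not_mem_span_of_not_meet h h' hm)
  exact ⟨y, hy2, hy1 a (Submodule.subset_span (by simp)), hy1 c (Submodule.subset_span (by simp)),
    hy1 d (Submodule.subset_span (by simp))⟩

theorem Meet.symm {a b c d : V} (h : Meet (F := F) a b c d) : Meet (F := F) c d a b := by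
  obtain ⟨x, hx0, h1, h2⟩ := h
  exact ⟨x, hx0, h2, h1⟩

theorem Meet.swap_left {a b c d : V} (h : Meet (F := F) a b c d) : Meet (F := F) b a c d := by
  obtain ⟨x, hx0, h1, h2⟩ := h
  refine ⟨x, hx0, ?_, h2⟩
  rw [Set.pair_comm]; exact h1

/-- **disjoint lines whose root elements commute are orthogonal.** -/
theorem perp_of_comm [FiniteDimensional F V] (hQ : Nondeg Q) {a b c d : V} (h : IsTS Q a b)
    (h' : IsTS Q c d) (hm : ¬ Meet (F := F) a b c d)
    (hc : sgT Q a b * sgT Q c d = sgT Q c d * sgT Q a b) : Perp4 Q a b c d := by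
  -- `N N' x = N' N x` lies in both lines
  have key : ∀ x, wedge Q a b (wedge Q c d x) = wedge Q c d (wedge Q a b x) := by
    intro x
    have h1 : ap (sgT Q a b * sgT Q c d) x = ap (sgT Q c d * sgT Q a b) x := by rw [hc]
    rw [ap_mul, ap_mul, ap_sgT_ts h, ap_sgT_ts h', ap_sgT_ts h', ap_sgT_ts h, map_add, map_add] at h1
    have : x + wedge Q c d x + (wedge Q a b x + wedge Q a b (wedge Q c d x))
        - (x + wedge Q c d x + wedge Q a b x)
        = x + wedge Q a b x + (wedge Q c d x + wedge Q c d (wedge Q a b x))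
        - (x + wedge Q c d x + wedge Q a b x) := by rw [h1]
    have e1 : x + wedge Q c d x + (wedge Q a b x + wedge Q a b (wedge Q c d x))
        - (x + wedge Q c d x + wedge Q a b x) = wedge Q a b (wedge Q c d x) := by abel
    have e2 : x + wedge Q a b x + (wedge Q c d x + wedge Q c d (wedge Q a b x))
        - (x + wedge Q c d x + wedge Q a b x) = wedge Q c d (wedge Q a b x) := by abel
    rw [e1, e2] at this
    exact this
  have hz : ∀ x, wedge Q a b (wedge Q c d x) = 0 := by
    intro x
    by_contra hne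
    apply hm
    refine ⟨wedge Q a b (wedge Q c d x), hne, ?_, ?_⟩
    · rw [wedge_apply]
      exact Submodule.sub_mem _ (Submodule.smul_mem _ _ (Submodule.subset_span (by simp)))
        (Submodule.smul_mem _ _ (Submodule.subset_span (by simp)))
    · rw [key, wedge_apply]
      exact Submodule.sub_mem _ (Submodule.smul_mem _ _ (Submodule.subset_span (by simp)))
        (Submodule.smul_mem _ _ (Submodule.subset_span (by simp)))
  obtain ⟨⟨x₁, hx₁⟩, ⟨x₂, hx₂⟩⟩ := h'.exists_wedge_eq hQ
  have h1 := hz x₁
  have h2 := hz x₂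
  rw [hx₁, wedge_apply] at h1
  rw [hx₂, wedge_apply] at h2
  have e1 := h.eq_zero_of_comb (s := QuadraticMap.polar Q c b) (t := -QuadraticMap.polar Q c a) (by
    rw [← h1]; module)
  have e2 := h.eq_zero_of_comb (s := QuadraticMap.polar Q d b) (t := -QuadraticMap.polar Q d a) (by
    rw [← h2]; module)
  refine ⟨?_, ?_, ?_, ?_⟩
  · rw [QuadraticMap.polar_comm]; exact neg_eq_zero.mp e1.2
  · rw [QuadraticMap.polar_comm]; exact neg_eq_zero.mp e2.2
  · rw [QuadraticMap.polar_comm]; exact e1.1
  · rw [QuadraticMap.polar_comm]; exact e2.1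

/-- the vectors of a root element's line from the element. -/
theorem mem_span_of_sgT_eq_ts [FiniteDimensional F V] (hQ : Nondeg Q) {a b a' b' : V}
    (h : IsTS Q a b) (_h' : IsTS Q a' b')
    (heq : ∀ x, wedge Q a b x = wedge Q a' b' x) :
    a ∈ Submodule.span F {a', b'} ∧ b ∈ Submodule.span F {a', b'} := by
  obtain ⟨⟨x₁, hx₁⟩, ⟨x₂, hx₂⟩⟩ := h.exists_wedge_eq hQ
  have hm : ∀ x, wedge Q a' b' x ∈ Submodule.span F {a', b'} := by
    intro x
    rw [wedge_apply]
    exact Submodule.sub_mem _ (Submodule.smul_mem _ _ (Submodule.subset_span (by simp)))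
      (Submodule.smul_mem _ _ (Submodule.subset_span (by simp)))
  constructor
  · rw [← hx₁, heq]; exact hm _
  · rw [← hx₂, heq]; exact hm _

theorem wedge_eq_of_sgT_eq {a b a' b' : V} (h : IsTS Q a b) (h' : IsTS Q a' b')
    (heq : sgT Q a b = sgT Q a' b') (x : V) : wedge Q a b x = wedge Q a' b' x := by
  have h1 : ap (sgT Q a b) x = ap (sgT Q a' b') x := by rw [heq]
  rw [ap_sgT_ts h, ap_sgT_ts h'] at h1
  exact add_left_cancel h1

theorem span_eq_of_sgT_eq [FiniteDimensional F V] (hQ : Nondeg Q) {a b a' b' : V}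
    (h : IsTS Q a b) (h' : IsTS Q a' b') (heq : sgT Q a b = sgT Q a' b') :
    Submodule.span F {a, b} = Submodule.span F {a', b'} := by
  obtain ⟨h1, h2⟩ := mem_span_of_sgT_eq_ts hQ h h' (wedge_eq_of_sgT_eq h h' heq)
  exact h'.span_eq_of_mem h h1 h2

theorem IsTS.smul_right {a b : V} (h : IsTS Q a b) {c : F} (hc : c ≠ 0) : IsTS Q a (c • b) :=
  ⟨h.qa, by rw [QuadraticMap.map_smul, h.qb, smul_zero],
    by rw [QuadraticMap.polar_smul_right, h.ab, smul_zero], by
    rw [LinearIndependent.pair_iff]
    intro s t hst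
    have := h.eq_zero_of_comb (s := s) (t := t * c) (by rw [← hst, smul_smul])
    refine ⟨this.1, ?_⟩
    rcases mul_eq_zero.mp this.2 with h1 | h1
    · exact h1
    · exact absurd h1 hc⟩

theorem span_smul_right {a b : V} {c : F} (hc : c ≠ 0) :
    Submodule.span F {a, c • b} = Submodule.span F {a, b} := by
  apply le_antisymm
  · rw [Submodule.span_le]
    intro x hx
    rcases hx with rfl | rfl
    · exact Submodule.subset_span (by simp)
    · exact Submodule.smul_mem _ _ (Submodule.subset_span (by simp))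
  · rw [Submodule.span_le]
    intro x hx
    rcases hx with rfl | rfl
    · exact Submodule.subset_span (by simp)
    · have h1 : c • x ∈ Submodule.span F {a, c • x} := Submodule.subset_span (by simp)
      have := Submodule.smul_mem _ c⁻¹ h1
      rwa [smul_smul, inv_mul_cancel₀ hc, one_smul] at this

/-- equal long root subgroups have equal lines. -/
theorem span_eq_of_X_le [FiniteDimensional F V] (hQ : Nondeg Q) {a b c d : V}
    (h : IsTS Q a b) (h' : IsTS Q c d) (hle : X Q a b ≤ X Q c d) :
    Submodule.span F {a, b} = Submodule.span F {c, d} := by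
  have h1 := hle (by simpa using sgT_mem_X (Q := Q) a b 1)
  obtain ⟨t, ht⟩ := (mem_X_iff h' _).mp h1
  have ht0 : t ≠ 0 := by
    rintro rfl
    rw [zero_smul, sgT_zero] at ht
    have := mem_span_of_sgT_eq_one hQ h.a_ne h.qa h.ab ht
    obtain ⟨s, hs⟩ := Submodule.mem_span_singleton.mp this
    have := h.eq_zero_of_comb (s := s) (t := -1) (by rw [hs]; module)
    exact one_ne_zero (neg_eq_zero.mp this.2)
  rw [span_eq_of_sgT_eq hQ h (h'.smul_right ht0) ht, span_smul_right ht0]

/-- a basis of a totally singular line through a given vector of the line. -/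
theorem IsTS.exists_basis_of_mem [FiniteDimensional F V] {a b u : V} (h : IsTS Q a b) (hu0 : u ≠ 0)
    (hu : u ∈ Submodule.span F {a, b}) :
    ∃ v, IsTS Q u v ∧ Submodule.span F {u, v} = Submodule.span F {a, b} := by
  obtain ⟨s, t, rfl⟩ := Submodule.mem_span_pair.mp hu
  by_cases ht : t = 0
  · -- `u = s a`, take `v = b`
    subst ht
    rw [zero_smul, add_zero] at hu0 ⊢
    have hs : s ≠ 0 := by
      rintro rfl
      exact hu0 (zero_smul _ _)
    have hts : IsTS Q (s • a) b := (h.symm.smul_right hs).symm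
    exact ⟨b, hts, h.span_eq_of_mem hts (Submodule.smul_mem _ _ (Submodule.subset_span (by simp)))
      (Submodule.subset_span (by simp))⟩
  · -- take `v = a`
    have hts : IsTS Q (s • a + t • b) a := by
      refine ⟨h.Q_comb s t, h.qa, ?_, ?_⟩
      · rw [QuadraticMap.polar_add_left, QuadraticMap.polar_smul_left, QuadraticMap.polar_smul_left,
          h.aa, h.ba]
        simp
      · rw [LinearIndependent.pair_iff]
        intro x y hxy
        have := h.eq_zero_of_comb (s := x * s + y) (t := x * t) (by rw [← hxy]; module)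
        have hx : x = 0 := by
          rcases mul_eq_zero.mp this.2 with h1 | h1
          · exact h1
          · exact absurd h1 ht
        refine ⟨hx, ?_⟩
        have h2 := this.1
        rw [hx, zero_mul, zero_add] at h2
        exact h2
    exact ⟨a, hts, h.span_eq_of_mem hts (Submodule.mem_span_pair.mpr ⟨s, t, rfl⟩)
      (Submodule.subset_span (by simp))⟩

/-- **the product of two long root elements through a common point with non-orthogonal second
vectors is not a long root element.** -/
theorem not_root_of_A {u w a b : V} (hu : Q u = 0) (huw : QuadraticMap.polar Q u w = 0)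
    (hw : Q w ≠ 0) (hQ : Nondeg Q) (hu0 : u ≠ 0) (h : IsTS Q a b) : sgT Q u w ≠ sgT Q a b := by
  intro heq
  obtain ⟨x, hx⟩ := exists_pair_one Q hQ hu0
  have h1 : ap (sgT Q u w) x = ap (sgT Q a b) x := by rw [heq]
  rw [ap_sgT hu huw, ap_sgT_ts h, QuadraticMap.polar_comm Q x u, hx] at h1
  have h2 : wedge Q a b x = (QuadraticMap.polar Q x w - Q w) • u - w := by
    have : x + wedge Q a b x - x = x + QuadraticMap.polar Q x w • u - (1 : F) • w
        - (Q w * 1) • u - x := by rw [h1]
    rw [add_sub_cancel_left] at this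
    rw [this]
    module
  have h3 : Q (wedge Q a b x) = 0 := by
    apply h.Q_of_mem
    rw [wedge_apply]
    exact Submodule.sub_mem _ (Submodule.smul_mem _ _ (Submodule.subset_span (by simp)))
      (Submodule.smul_mem _ _ (Submodule.subset_span (by simp)))
  rw [h2, sub_eq_add_neg, QuadraticMap.map_add Q, QuadraticMap.map_smul, hu, QuadraticMap.map_neg,
    QuadraticMap.polar_smul_left, QuadraticMap.polar_neg_right, huw] at h3
  apply hw
  simpa using h3

/-- **the product of two long root elements on disjoint orthogonal lines is not a long root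
element.** -/
theorem not_root_of_B2 [FiniteDimensional F V] (hQ : Nondeg Q) {a b c d a' b' : V}
    (h : IsTS Q a b) (h' : IsTS Q c d) (hm : ¬ Meet (F := F) a b c d) (hp : Perp4 Q a b c d)
    (h'' : IsTS Q a' b') : sgT Q a b * sgT Q c d ≠ sgT Q a' b' := by
  intro heq
  have key : ∀ x, wedge Q a b x + wedge Q c d x = wedge Q a' b' x := by
    intro x
    have h1 : ap (sgT Q a b * sgT Q c d) x = ap (sgT Q a' b') x := by rw [heq]
    rw [ap_mul, ap_sgT_ts h', ap_sgT_ts h, ap_sgT_ts h'', map_add] at h1
    have h2 : wedge Q a b (wedge Q c d x) = 0 := by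
      rw [wedge_apply, wedge_apply]
      simp only [QuadraticMap.polar_sub_left, QuadraticMap.polar_smul_left,
        QuadraticMap.polar_comm Q c b, QuadraticMap.polar_comm Q d b, QuadraticMap.polar_comm Q c a,
        QuadraticMap.polar_comm Q d a, hp.1, hp.2.1, hp.2.2.1, hp.2.2.2]
      simp
    rw [h2, add_zero] at h1
    have : x + wedge Q c d x + wedge Q a b x - x = x + wedge Q a' b' x - x := by rw [h1]
    rw [add_sub_cancel_left] at this
    rw [← this]
    abel
  have hmem : ∀ x, wedge Q a' b' x ∈ Submodule.span F {a', b'} := by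
    intro x
    rw [wedge_apply]
    exact Submodule.sub_mem _ (Submodule.smul_mem _ _ (Submodule.subset_span (by simp)))
      (Submodule.smul_mem _ _ (Submodule.subset_span (by simp)))
  -- `a` lies in the new line
  obtain ⟨x, hx1, hx2, hx3, hx4⟩ := exists_dual_four hQ h h' hm
  have ha : a ∈ Submodule.span F {a', b'} := by
    have := key x
    rw [wedge_apply, wedge_apply, hx1, hx2, hx3, hx4] at this
    have e : a = wedge Q a' b' x := by rw [← this]; module
    rw [e]; exact hmem x
  -- `c` lies in the new line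
  have hm' : ¬ Meet (F := F) c d a b := fun hh => hm hh.symm
  obtain ⟨y, hy1, hy2, hy3, hy4⟩ := exists_dual_four hQ h' h hm'
  have hc : c ∈ Submodule.span F {a', b'} := by
    have := key y
    rw [wedge_apply, wedge_apply, hy1, hy2, hy3, hy4] at this
    have e : c = wedge Q a' b' y := by rw [← this]; module
    rw [e]; exact hmem y
  -- `b` and `d` as well
  have hm2 : ¬ Meet (F := F) b a c d := fun hh => hm hh.swap_left
  obtain ⟨z, hz1, hz2, hz3, hz4⟩ := exists_dual_four hQ h.symm h' hm2
  have hb : b ∈ Submodule.span F {a', b'} := by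
    have := key z
    rw [wedge_apply, wedge_apply, hz1, hz2, hz3, hz4] at this
    have e : b = -wedge Q a' b' z := by rw [← this]; module
    rw [e]; exact Submodule.neg_mem _ (hmem z)
  have hm3 : ¬ Meet (F := F) d c a b := fun hh => hm hh.swap_left.symm
  obtain ⟨t, ht1, ht2, ht3, ht4⟩ := exists_dual_four hQ h'.symm h hm3
  have hd : d ∈ Submodule.span F {a', b'} := by
    have := key t
    rw [wedge_apply, wedge_apply, ht1, ht2, ht3, ht4] at this
    have e : d = -wedge Q a' b' t := by rw [← this]; module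
    rw [e]; exact Submodule.neg_mem _ (hmem t)
  have e1 := h''.span_eq_of_mem h ha hb
  have e2 := h''.span_eq_of_mem h' hc hd
  apply hm
  exact ⟨a, h.a_ne, Submodule.subset_span (by simp), by
    rw [e2, ← e1]; exact Submodule.subset_span (by simp)⟩

end Cfsg.Agent.Helper8.AutO
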