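import Mathlib
import Cfsg.Agent.Helper8.AutOg

set_option autoImplicit false

/-!
# Automorphisms of orthogonal groups, part h: root elements and collinearity in the projective group
-/

namespace Cfsg.Agent.Helper8.AutO

open Module Cfsg.Agent.Helper8.QuadForm Cfsg.Agent.Helper8.WittQuad Cfsg.Agent.Helper8.OrthOrder
  Cfsg.Agent.Helper8.Siegel Cfsg.Agent.Helper8.SiegelGeom Cfsg.Agent.Helper8.SiegelGroup
  Cfsg.Agent.Helper8.SiegelPrim Cfsg.Agent.Helper8.SiegelSimple

open scoped Pointwise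

variable {F : Type*} [Field F] {V : Type*} [AddCommGroup V] [Module F V] {Q : QuadraticForm F V}

/-- the image of a root subgroup of a vector. -/
def Qb (Q : QuadraticForm F V) (u : V) : Subgroup (PG Q) := (rootSub Q u).map pr

/-- the point subgroups of the projective group. -/
def IsPointSub (P : Subgroup (PG Q)) : Prop := ∃ u, u ≠ 0 ∧ Q u = 0 ∧ P = Qb Q u

/-- the long root elements of the projective group. -/
def IsRootElt (x : PG Q) : Prop := x ≠ 1 ∧ ∃ R : Subgroup (PG Q), IsRootSub R ∧ x ∈ R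

/-- collinearity of long root subgroups, in terms of the group. -/
def B1 (R R' : Subgroup (PG Q)) : Prop :=
  R ≠ R' ∧ (∀ x ∈ R, ∀ y ∈ R', x * y = y * x) ∧ ∀ x ∈ R, ∀ y ∈ R', x * y = 1 ∨ IsRootElt (x * y)

theorem mem_Xb_iff {a b : V} (h : IsTS Q a b) (x : PG Q) :
    x ∈ Xb Q a b ↔ ∃ c : F, x = pr (sgT Q a (c • b)) := by
  constructor
  · rintro ⟨y, hy, rfl⟩
    obtain ⟨c, rfl⟩ := (mem_X_iff h y).mp hy
    exact ⟨c, rfl⟩
  · rintro ⟨c, rfl⟩
    exact ⟨_, sgT_mem_X a b c, rfl⟩

theorem mem_Qb_iff {u : V} (x : PG Q) :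
    x ∈ Qb Q u ↔ ∃ w, QuadraticMap.polar Q u w = 0 ∧ x = pr (sgT Q u w) := by
  constructor
  · rintro ⟨y, hy, rfl⟩
    obtain ⟨w, hw, rfl⟩ := (mem_rootSub_iff u y).mp hy
    exact ⟨w, hw, rfl⟩
  · rintro ⟨w, hw, rfl⟩
    exact ⟨_, sgT_mem_rootSub hw, rfl⟩

theorem Xb_le_Qb {a b : V} (h : IsTS Q a b) : Xb Q a b ≤ Qb Q a :=
  Subgroup.map_mono (X_le_rootSub h)

section Fin

variable [Fintype F] [FiniteDimensional F V] (hQ : Nondeg Q) (h5 : 5 ≤ finrank F V)
  (p : ℕ) [Fact p.Prime] [CharP F p]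

include hQ h5 p

/-- the projection is injective on Siegel transformations. -/
theorem sgT_eq_of_pr_eq {u w u' w' : V} (huw : QuadraticMap.polar Q u w = 0)
    (huw' : QuadraticMap.polar Q u' w' = 0) (h : pr (sgT Q u w) = pr (sgT Q u' w')) :
    sgT Q u w = sgT Q u' w' :=
  eq_of_pr_eq hQ h5 p (k := 1) (l := 1) (by rw [pow_one]; exact sgT_pow_char p huw)
    (by rw [pow_one]; exact sgT_pow_char p huw') h

/-- a product of two commuting Siegel transformations against a Siegel transformation. -/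
theorem mul_eq_of_pr_eq {u w u' w' a b : V} (huw : QuadraticMap.polar Q u w = 0)
    (huw' : QuadraticMap.polar Q u' w' = 0) (hab : QuadraticMap.polar Q a b = 0)
    (hc : sgT Q u w * sgT Q u' w' = sgT Q u' w' * sgT Q u w)
    (h : pr (sgT Q u w * sgT Q u' w') = pr (sgT Q a b)) :
    sgT Q u w * sgT Q u' w' = sgT Q a b := by
  apply eq_of_pr_eq hQ h5 p (k := 1) (l := 1) _ (by rw [pow_one]; exact sgT_pow_char p hab) h
  have hcomm : Commute (sgT Q u w) (sgT Q u' w') := hc
  rw [pow_one, hcomm.mul_pow, sgT_pow_char p huw, sgT_pow_char p huw', one_mul]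

/-- commuting in the projective group lifts. -/
theorem comm_of_pr_comm {u w u' w' : V} (huw : QuadraticMap.polar Q u w = 0)
    (huw' : QuadraticMap.polar Q u' w' = 0)
    (h : pr (sgT Q u w) * pr (sgT Q u' w') = pr (sgT Q u' w') * pr (sgT Q u w)) :
    sgT Q u w * sgT Q u' w' = sgT Q u' w' * sgT Q u w := by
  have h1 : pr (sgT Q u w * sgT Q u' w' * (sgT Q u w)⁻¹) = pr (sgT Q u' w') := by
    rw [map_mul, map_mul, h, map_inv, mul_inv_cancel_right]
  have h2 : sgT Q u w * sgT Q u' w' * (sgT Q u w)⁻¹ = sgT Q u' w' := by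
    apply eq_of_pr_eq hQ h5 p (k := 1) (l := 1) _ (by rw [pow_one]; exact sgT_pow_char p huw') h1
    rw [pow_one, conj_pow, sgT_pow_char p huw', mul_one, mul_inv_cancel]
  calc sgT Q u w * sgT Q u' w' = (sgT Q u w * sgT Q u' w' * (sgT Q u w)⁻¹) * sgT Q u w := by group
    _ = sgT Q u' w' * sgT Q u w := by rw [h2]

theorem isRootElt_iff (x : PG Q) : IsRootElt x ↔ ∃ a b, IsTS Q a b ∧ x = pr (sgT Q a b) := by
  constructor
  · rintro ⟨hx1, R, ⟨a, b, hab, rfl⟩, hx⟩
    obtain ⟨c, rfl⟩ := (mem_Xb_iff hab x).mp hx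
    have hc : c ≠ 0 := by
      rintro rfl
      apply hx1
      rw [zero_smul, sgT_zero, map_one]
    exact ⟨a, c • b, hab.smul_right hc, rfl⟩
  · rintro ⟨a, b, hab, rfl⟩
    refine ⟨?_, Xb Q a b, ⟨a, b, hab, rfl⟩, (mem_Xb_iff hab _).mpr ⟨1, by rw [one_smul]⟩⟩
    intro h1
    have h2 : pr (sgT Q a b) = pr (sgT Q a 0) := by rw [h1, sgT_zero, map_one]
    have h3 := sgT_eq_of_pr_eq hQ h5 p hab.ab (QuadraticMap.polar_zero_right _ _) h2
    rw [sgT_zero] at h3
    have := mem_span_of_sgT_eq_one hQ hab.a_ne hab.qa hab.ab h3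
    obtain ⟨s, hs⟩ := Submodule.mem_span_singleton.mp this
    have := hab.eq_zero_of_comb (s := s) (t := -1) (by rw [hs]; module)
    exact one_ne_zero (neg_eq_zero.mp this.2)

/-- equal images of long root subgroups have equal lines. -/
theorem span_eq_of_Xb_le {a b c d : V} (h : IsTS Q a b) (h' : IsTS Q c d)
    (hle : Xb Q a b ≤ Xb Q c d) : Submodule.span F {a, b} = Submodule.span F {c, d} := by
  apply span_eq_of_X_le hQ h h'
  intro x hx
  obtain ⟨s, rfl⟩ := (mem_X_iff h x).mp hx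
  obtain ⟨t, ht⟩ := (mem_Xb_iff h' _).mp (hle ⟨_, sgT_mem_X a b s, rfl⟩)
  rw [sgT_eq_of_pr_eq hQ h5 p (by rw [QuadraticMap.polar_smul_right, h.ab, smul_zero])
    (by rw [QuadraticMap.polar_smul_right, h'.ab, smul_zero]) ht]
  exact sgT_mem_X c d t

/-- collinearity from the geometry: two lines through a point spanning a totally singular plane. -/
theorem B1_of_geo {u v v' : V} (h : IsTS Q u v) (h' : IsTS Q u v')
    (hvv' : QuadraticMap.polar Q v v' = 0) (hne : v' ∉ Submodule.span F {u, v}) :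
    B1 (Xb Q u v) (Xb Q u v') := by
  have hp : ∀ c : F, QuadraticMap.polar Q u (c • v) = 0 := fun c => by
    rw [QuadraticMap.polar_smul_right, h.ab, smul_zero]
  have hp' : ∀ c : F, QuadraticMap.polar Q u (c • v') = 0 := fun c => by
    rw [QuadraticMap.polar_smul_right, h'.ab, smul_zero]
  refine ⟨?_, ?_, ?_⟩
  · intro heq
    have := span_eq_of_Xb_le hQ h5 p h' h (le_of_eq heq.symm)
    apply hne
    rw [← this]
    exact Submodule.subset_span (by simp)
  · intro x hx y hy
    obtain ⟨c, rfl⟩ := (mem_Xb_iff h x).mp hx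
    obtain ⟨d, rfl⟩ := (mem_Xb_iff h' y).mp hy
    rw [← map_mul, ← map_mul, sgT_mul (hp c) (hp' d), sgT_mul (hp' d) (hp c), add_comm]
  · intro x hx y hy
    obtain ⟨c, rfl⟩ := (mem_Xb_iff h x).mp hx
    obtain ⟨d, rfl⟩ := (mem_Xb_iff h' y).mp hy
    rw [← map_mul, sgT_mul (hp c) (hp' d)]
    by_cases h0 : c • v + d • v' ∈ Submodule.span F {u}
    · left
      rw [(sgT_eq_one_iff hQ h.a_ne h.qa (by
        rw [QuadraticMap.polar_add_right, hp, hp', add_zero])).mpr h0, map_one]
    · right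
      rw [isRootElt_iff hQ h5 p]
      refine ⟨u, c • v + d • v', ⟨h.qa, ?_, ?_, ?_⟩, rfl⟩
      · rw [QuadraticMap.map_add Q, QuadraticMap.map_smul, QuadraticMap.map_smul, h.qb, h'.qb,
          QuadraticMap.polar_smul_left, QuadraticMap.polar_smul_right, hvv']
        simp
      · rw [QuadraticMap.polar_add_right, hp, hp', add_zero]
      · rw [LinearIndependent.pair_iff' h.a_ne]
        intro s hs
        exact h0 (Submodule.mem_span_singleton.mpr ⟨s, hs⟩)

/-- **collinear long root subgroups have lines which meet and are orthogonal.** -/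
theorem geo_of_B1 {a b c d : V} (h : IsTS Q a b) (h' : IsTS Q c d)
    (hB : B1 (Xb Q a b) (Xb Q c d)) :
    Meet (F := F) a b c d ∧ ∀ y ∈ Submodule.span F {a, b}, ∀ z ∈ Submodule.span F {c, d},
      QuadraticMap.polar Q y z = 0 := by
  obtain ⟨hne, hcomm, hroot⟩ := hB
  by_cases hm : Meet (F := F) a b c d
  · refine ⟨hm, ?_⟩
    obtain ⟨x, hx0, hx1, hx2⟩ := hm
    obtain ⟨v, hv, hsv⟩ := h.exists_basis_of_mem hx0 hx1
    obtain ⟨v', hv', hsv'⟩ := h'.exists_basis_of_mem hx0 hx2
    have hX : X Q a b = X Q x v := X_eq_of_span hv h hsv.symm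
    have hX' : X Q c d = X Q x v' := X_eq_of_span hv' h' hsv'.symm
    have hvv' : QuadraticMap.polar Q v v' = 0 := by
      by_contra hvv'
      have h1 : pr (sgT Q x v) ∈ Xb Q a b := ⟨_, by
        rw [hX]; simpa using sgT_mem_X (Q := Q) x v 1, rfl⟩
      have h2 : pr (sgT Q x v') ∈ Xb Q c d := ⟨_, by
        rw [hX']; simpa using sgT_mem_X (Q := Q) x v' 1, rfl⟩
      have hsum : QuadraticMap.polar Q x (v + v') = 0 := by
        rw [QuadraticMap.polar_add_right, hv.ab, hv'.ab, add_zero]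
      have hQs : Q (v + v') ≠ 0 := by
        rw [QuadraticMap.map_add Q, hv.qb, hv'.qb]
        simpa using hvv'
      rcases hroot _ h1 _ h2 with h3 | h3
      · rw [← map_mul, sgT_mul hv.ab hv'.ab] at h3
        have h4 : pr (sgT Q x (v + v')) = pr (sgT Q x 0) := by rw [h3, sgT_zero, map_one]
        have h5' := sgT_eq_of_pr_eq hQ h5 p hsum (QuadraticMap.polar_zero_right _ _) h4
        rw [sgT_zero] at h5'
        have := mem_span_of_sgT_eq_one hQ hx0 hv.qa hsum h5'
        obtain ⟨s, hs⟩ := Submodule.mem_span_singleton.mp this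
        apply hQs
        rw [← hs, QuadraticMap.map_smul, hv.qa, smul_zero]
      · rw [isRootElt_iff hQ h5 p] at h3
        obtain ⟨a', b', hab', h4⟩ := h3
        rw [← map_mul, sgT_mul hv.ab hv'.ab] at h4
        exact not_root_of_A hv.qa hsum hQs hQ hx0 hab' (sgT_eq_of_pr_eq hQ h5 p hsum hab'.ab h4)
    intro y hy z hz
    rw [← hsv] at hy
    rw [← hsv'] at hz
    obtain ⟨s, t, rfl⟩ := Submodule.mem_span_pair.mp hy
    obtain ⟨s', t', rfl⟩ := Submodule.mem_span_pair.mp hz
    simp only [QuadraticMap.polar_add_left, QuadraticMap.polar_add_right,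
      QuadraticMap.polar_smul_left, QuadraticMap.polar_smul_right, hv.aa, hv.ba, hv'.ab, hvv']
    simp
  · exfalso
    have h1 : pr (sgT Q a b) ∈ Xb Q a b := ⟨_, by simpa using sgT_mem_X (Q := Q) a b 1, rfl⟩
    have h2 : pr (sgT Q c d) ∈ Xb Q c d := ⟨_, by simpa using sgT_mem_X (Q := Q) c d 1, rfl⟩
    have hc := comm_of_pr_comm hQ h5 p h.ab h'.ab (hcomm _ h1 _ h2)
    have hp := perp_of_comm hQ h h' hm hc
    rcases hroot _ h1 _ h2 with h3 | h3
    · -- the product is trivial: the lines coincide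
      rw [← map_mul] at h3
      have h4 : pr (sgT Q a b) = pr (sgT Q c (-d)) := by
        rw [← sgT_inv h'.ab, map_inv, eq_inv_iff_mul_eq_one, ← map_mul, h3]
      have h5' := sgT_eq_of_pr_eq hQ h5 p h.ab (by
        rw [QuadraticMap.polar_neg_right, h'.ab, neg_zero]) h4
      have hts : IsTS Q c (-d) := by
        have := h'.smul_right (c := (-1 : F)) (by simp)
        rwa [neg_smul, one_smul] at this
      have h6 := span_eq_of_sgT_eq hQ h hts h5'
      apply hm
      refine ⟨a, h.a_ne, Submodule.subset_span (by simp), ?_⟩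
      have : a ∈ Submodule.span F {c, -d} := by rw [← h6]; exact Submodule.subset_span (by simp)
      obtain ⟨s, t, hst⟩ := Submodule.mem_span_pair.mp this
      exact Submodule.mem_span_pair.mpr ⟨s, -t, by rw [← hst]; module⟩
    · rw [isRootElt_iff hQ h5 p] at h3
      obtain ⟨a', b', hab', h4⟩ := h3
      rw [← map_mul] at h4
      exact not_root_of_B2 hQ h h' hm hp hab' (mul_eq_of_pr_eq hQ h5 p h.ab h'.ab hab'.ab hc h4)

end Fin

end Cfsg.Agent.Helper8.AutO
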