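import Mathlib
import Cfsg.Agent.Helper8.AutOh

set_option autoImplicit false

/-!
# Automorphisms of orthogonal groups, part i: the subgroup attached to a pair of commuting long
root subgroups, and its identification with a point subgroup
-/

namespace Cfsg.Agent.Helper8.AutO

open Module Cfsg.Agent.Helper8.QuadForm Cfsg.Agent.Helper8.WittQuad Cfsg.Agent.Helper8.OrthOrder
  Cfsg.Agent.Helper8.Siegel Cfsg.Agent.Helper8.SiegelGeom Cfsg.Agent.Helper8.SiegelGroup
  Cfsg.Agent.Helper8.SiegelPrim Cfsg.Agent.Helper8.SiegelSimple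

open scoped Pointwise

variable {F : Type*} [Field F] {V : Type*} [AddCommGroup V] [Module F V] {Q : QuadraticForm F V}

/-- the long root subgroups collinear with two given ones, together with these. -/
def Nb (R R' : Subgroup (PG Q)) : Set (Subgroup (PG Q)) :=
  {S | S = R ∨ S = R' ∨ (IsRootSub S ∧ B1 S R ∧ B1 S R')}

/-- the subgroup generated by the common neighbours. -/
def QQ (R R' : Subgroup (PG Q)) : Subgroup (PG Q) :=
  Subgroup.closure {x | ∃ S ∈ Nb R R', x ∈ S}

theorem le_QQ {R R' S : Subgroup (PG Q)} (hS : S ∈ Nb R R') : S ≤ QQ R R' :=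
  fun _ hx => Subgroup.subset_closure ⟨S, hS, hx⟩

/-! ### equivariance -/

/-- an automorphism permuting the long root subgroups, together with its inverse. -/
def RootPres (β : MulAut (PG Q)) : Prop :=
  (∀ R : Subgroup (PG Q), IsRootSub R → IsRootSub (β • R)) ∧
    ∀ R : Subgroup (PG Q), IsRootSub R → IsRootSub (β⁻¹ • R)

theorem RootPres.inv {β : MulAut (PG Q)} (h : RootPres β) : RootPres β⁻¹ :=
  ⟨h.2, by rw [inv_inv]; exact h.1⟩

theorem RootPres.isRootSub_iff {β : MulAut (PG Q)} (h : RootPres β) (R : Subgroup (PG Q)) :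
    IsRootSub (β • R) ↔ IsRootSub R := by
  constructor
  · intro hR
    have := h.2 _ hR
    rwa [inv_smul_smul] at this
  · exact h.1 R

theorem RootPres.isRootElt_iff {β : MulAut (PG Q)} (h : RootPres β) (x : PG Q) :
    IsRootElt (β x) ↔ IsRootElt x := by
  constructor
  · rintro ⟨h1, R, hR, hx⟩
    refine ⟨fun h0 => h1 (by rw [h0, map_one]), β⁻¹ • R, h.2 R hR, ?_⟩
    rw [Subgroup.mem_pointwise_smul_iff_inv_smul_mem, inv_inv]
    exact hx
  · rintro ⟨h1, R, hR, hx⟩
    refine ⟨fun h0 => h1 ?_, β • R, h.1 R hR, Subgroup.smul_mem_pointwise_smul _ _ _ hx⟩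
    have := congrArg (β⁻¹ : MulAut (PG Q)) h0
    rwa [map_one, MulAut.inv_apply_self] at this

theorem mem_smul_iff (β : MulAut (PG Q)) (R : Subgroup (PG Q)) (x : PG Q) :
    β x ∈ β • R ↔ x ∈ R := by
  rw [Subgroup.mem_pointwise_smul_iff_inv_smul_mem, MulAut.smul_def, MulAut.inv_apply_self]

theorem exists_of_mem_smul {β : MulAut (PG Q)} {R : Subgroup (PG Q)} {x : PG Q}
    (hx : x ∈ β • R) : ∃ y ∈ R, x = β y := by
  rw [Subgroup.mem_pointwise_smul_iff_inv_smul_mem] at hx
  exact ⟨_, hx, by rw [MulAut.smul_def, MulAut.apply_inv_self]⟩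

theorem RootPres.B1_smul {β : MulAut (PG Q)} (h : RootPres β) {R R' : Subgroup (PG Q)}
    (hB : B1 R R') : B1 (β • R) (β • R') := by
  obtain ⟨h1, h2, h3⟩ := hB
  refine ⟨fun h0 => h1 (smul_left_cancel β h0), ?_, ?_⟩
  · intro x hx y hy
    obtain ⟨x', hx', rfl⟩ := exists_of_mem_smul hx
    obtain ⟨y', hy', rfl⟩ := exists_of_mem_smul hy
    rw [← map_mul, ← map_mul, h2 x' hx' y' hy']
  · intro x hx y hy
    obtain ⟨x', hx', rfl⟩ := exists_of_mem_smul hx
    obtain ⟨y', hy', rfl⟩ := exists_of_mem_smul hy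
    rw [← map_mul]
    rcases h3 x' hx' y' hy' with h4 | h4
    · left; rw [h4, map_one]
    · right; exact (h.isRootElt_iff _).mpr h4

theorem RootPres.B1_smul_iff {β : MulAut (PG Q)} (h : RootPres β) (R R' : Subgroup (PG Q)) :
    B1 (β • R) (β • R') ↔ B1 R R' := by
  constructor
  · intro hB
    have := h.inv.B1_smul hB
    rwa [inv_smul_smul, inv_smul_smul] at this
  · exact h.B1_smul

theorem RootPres.smul_QQ_le {β : MulAut (PG Q)} (h : RootPres β) (R R' : Subgroup (PG Q)) :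
    β • QQ R R' ≤ QQ (β • R) (β • R') := by
  have key : ∀ y ∈ QQ R R', β y ∈ QQ (β • R) (β • R') := by
    intro y hy
    unfold QQ at hy
    induction hy using Subgroup.closure_induction with
    | mem y hy =>
      obtain ⟨S, hS, hyS⟩ := hy
      apply le_QQ (S := β • S) _ ((mem_smul_iff β S y).mpr hyS)
      rcases hS with rfl | rfl | ⟨h1, h2, h3⟩
      · exact Or.inl rfl
      · exact Or.inr (Or.inl rfl)
      · exact Or.inr (Or.inr ⟨h.1 S h1, h.B1_smul h2, h.B1_smul h3⟩)
    | one => rw [map_one]; exact Subgroup.one_mem _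
    | mul a b _ _ iha ihb => rw [map_mul]; exact Subgroup.mul_mem _ iha ihb
    | inv a _ iha => rw [map_inv]; exact Subgroup.inv_mem _ iha
  intro x hx
  obtain ⟨y, hy, rfl⟩ := exists_of_mem_smul hx
  exact key y hy

theorem RootPres.smul_QQ {β : MulAut (PG Q)} (h : RootPres β) (R R' : Subgroup (PG Q)) :
    β • QQ R R' = QQ (β • R) (β • R') := by
  apply le_antisymm (h.smul_QQ_le R R')
  have := h.inv.smul_QQ_le (β • R) (β • R')
  rw [inv_smul_smul, inv_smul_smul] at this
  intro x hx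
  have h1 := this (Subgroup.smul_mem_pointwise_smul _ β⁻¹ _ hx)
  rw [Subgroup.mem_pointwise_smul_iff_inv_smul_mem]
  exact h1

/-! ### the point subgroup from a pair of non-orthogonal lines through the point -/

namespace Flag

variable (fl : Flag Q)

theorem finrank_W2_ge [FiniteDimensional F V] :
    finrank F V ≤ finrank F ↥(fl.h.W ⊓ fl.k.W) + 4 := by
  have h1 := fl.h.finrank_W
  have h2 := fl.k.finrank_W
  have h3 := Submodule.finrank_sup_add_finrank_inf_eq fl.h.W fl.k.W
  have h4 : finrank F ↥(fl.h.W ⊔ fl.k.W) ≤ finrank F V := Submodule.finrank_le _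
  omega

theorem nondegOn_W2 (hQ : Nondeg Q) : NondegOn Q (fl.h.W ⊓ fl.k.W) := by
  intro w hw hperp
  exact fl.eq_zero_of_perp_W2 hQ hw.1 hw.2 (fun z hz hz' => hperp z ⟨hz, hz'⟩)

/-- the common complement is spanned by its singular vectors. -/
theorem W2_le_span [Finite F] [FiniteDimensional F V] (hQ : Nondeg Q) (h7 : 7 ≤ finrank F V) :
    fl.h.W ⊓ fl.k.W ≤ Submodule.span F {c | c ∈ fl.h.W ⊓ fl.k.W ∧ Q c = 0} := by
  have hdim := fl.finrank_W2_ge
  obtain ⟨⟨s, hsM⟩, hs0, hs⟩ := exists_singular (Q.comp (fl.h.W ⊓ fl.k.W).subtype) (by omega)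
  have hs0' : s ≠ 0 := fun h => hs0 (Subtype.ext h)
  have hsQ : Q s = 0 := hs
  obtain ⟨t, htM, ht, hst⟩ := exists_partner_in Q _ (fl.nondegOn_W2 hQ) hsM hsQ hs0'
  intro x hx
  exact mem_span_singular Q _ hsM htM hsQ ht hst hx

end Flag

section Fin

variable [Fintype F] [FiniteDimensional F V] (hQ : Nondeg Q) (h7 : 7 ≤ finrank F V)
  (p : ℕ) [Fact p.Prime] [CharP F p]

include hQ h7 p

/-- **the subgroup attached to two non-orthogonal lines through a point is the point subgroup.** -/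
theorem QQ_eq_Qb {u v v' : V} (h : IsTS Q u v) (h' : IsTS Q u v')
    (hvv' : QuadraticMap.polar Q v v' ≠ 0) : QQ (Xb Q u v) (Xb Q u v') = Qb Q u := by
  have h5 : 5 ≤ finrank F V := by omega
  apply le_antisymm
  · unfold QQ
    rw [Subgroup.closure_le]
    rintro x ⟨S, hS, hxS⟩
    rcases hS with rfl | rfl | ⟨⟨c, d, hcd, rfl⟩, hB, hB'⟩
    · exact Xb_le_Qb h hxS
    · exact Xb_le_Qb h' hxS
    · obtain ⟨hm, -⟩ := geo_of_B1 hQ h5 p hcd h hB
      obtain ⟨-, hperp'⟩ := geo_of_B1 hQ h5 p hcd h' hB'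
      obtain ⟨x₁, hx₁0, hx₁cd, hx₁uv⟩ := hm
      obtain ⟨α, β, rfl⟩ := Submodule.mem_span_pair.mp hx₁uv
      have h1 := hperp' _ hx₁cd v' (Submodule.subset_span (by simp))
      rw [QuadraticMap.polar_add_left, QuadraticMap.polar_smul_left, QuadraticMap.polar_smul_left,
        h'.ab, smul_zero, zero_add, smul_eq_mul] at h1
      have hβ : β = 0 := by
        rcases mul_eq_zero.mp h1 with h2 | h2
        · exact h2
        · exact absurd h2 hvv'
      rw [hβ, zero_smul, add_zero] at hx₁0 hx₁cd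
      have hα : α ≠ 0 := by
        rintro rfl
        exact hx₁0 (zero_smul _ _)
      have hu : u ∈ Submodule.span F {c, d} := by
        have := Submodule.smul_mem _ α⁻¹ hx₁cd
        rwa [smul_smul, inv_mul_cancel₀ hα, one_smul] at this
      obtain ⟨w, hw, hsw⟩ := hcd.exists_basis_of_mem h.a_ne hu
      have hX : Xb Q c d = Xb Q u w := by
        unfold Xb
        rw [X_eq_of_span hw hcd hsw.symm]
      rw [hX] at hxS
      exact Xb_le_Qb hw hxS
  · -- every element of the point subgroup is generated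
    obtain ⟨hp, hpe⟩ := exists_HP hQ h.a_ne h.qa
    -- replace `v`, `v'` by their components in `W`
    obtain ⟨v₀, hv₀⟩ : ∃ v₀, v₀ = hp.pw v := ⟨_, rfl⟩
    obtain ⟨v₀', hv₀'⟩ : ∃ v₀', v₀' = hp.pw v' := ⟨_, rfl⟩
    have huv : QuadraticMap.polar Q hp.e v = 0 := by rw [hpe]; exact h.ab
    have huv' : QuadraticMap.polar Q hp.e v' = 0 := by rw [hpe]; exact h'.ab
    have ev₀ : v₀ = v - QuadraticMap.polar Q hp.f v • u := by
      rw [hv₀]; unfold HP.pw; rw [huv, zero_smul, sub_zero, hpe]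
    have ev₀' : v₀' = v' - QuadraticMap.polar Q hp.f v' • u := by
      rw [hv₀']; unfold HP.pw; rw [huv', zero_smul, sub_zero, hpe]
    have hv₀W : v₀ ∈ hp.W := by rw [hv₀]; exact hp.pw_mem v
    have hv₀'W : v₀' ∈ hp.W := by rw [hv₀']; exact hp.pw_mem v'
    have hκ : QuadraticMap.polar Q v₀ v₀' = QuadraticMap.polar Q v v' := by
      rw [ev₀, ev₀']
      simp only [QuadraticMap.polar_sub_left, QuadraticMap.polar_sub_right,
        QuadraticMap.polar_smul_left, QuadraticMap.polar_smul_right, h'.ab, h.ba,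
        polar_self_of_sing h.qa]
      simp
    have hQv₀ : Q v₀ = 0 := by
      have e1 : v₀ = (-QuadraticMap.polar Q hp.f v) • u + (1 : F) • v := by rw [ev₀]; module
      rw [e1]; exact h.Q_comb _ _
    have hQv₀' : Q v₀' = 0 := by
      have e1 : v₀' = (-QuadraticMap.polar Q hp.f v') • u + (1 : F) • v' := by rw [ev₀']; module
      rw [e1]; exact h'.Q_comb _ _
    obtain ⟨κ, hκdef⟩ : ∃ κ, κ = QuadraticMap.polar Q v v' := ⟨_, rfl⟩
    have hκ0 : κ ≠ 0 := by rw [hκdef]; exact hvv'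
    let fl : Flag Q := ⟨hp, ⟨v₀, κ⁻¹ • v₀', hQv₀, by rw [QuadraticMap.map_smul, hQv₀', smul_zero],
      by rw [QuadraticMap.polar_smul_right, hκ, ← hκdef, smul_eq_mul, inv_mul_cancel₀ hκ0]⟩,
      hv₀W, Submodule.smul_mem _ _ hv₀'W⟩
    have hspan := fl.W2_le_span hQ h7
    -- the long root subgroups through `u` along `v₀`, `v₀'`
    have hXv : ∀ c : F, pr (sgT Q u (c • v₀)) ∈ Xb Q u v := by
      intro c
      have e1 : c • v₀ = c • v + (-(c * QuadraticMap.polar Q hp.f v)) • u := by rw [ev₀]; module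
      rw [e1, sgT_add_smul h.qa (by rw [QuadraticMap.polar_smul_right, h.ab, smul_zero])]
      exact ⟨_, sgT_mem_X u v c, rfl⟩
    have hXv' : ∀ c : F, pr (sgT Q u (c • v₀')) ∈ Xb Q u v' := by
      intro c
      have e1 : c • v₀' = c • v' + (-(c * QuadraticMap.polar Q hp.f v')) • u := by rw [ev₀']; module
      rw [e1, sgT_add_smul h.qa (by rw [QuadraticMap.polar_smul_right, h'.ab, smul_zero])]
      exact ⟨_, sgT_mem_X u v' c, rfl⟩
    -- singular vectors of the common complement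
    have hsing : ∀ s, s ∈ hp.W ⊓ fl.k.W → Q s = 0 → ∀ c : F,
        pr (sgT Q u (c • s)) ∈ QQ (Xb Q u v) (Xb Q u v') := by
      intro s hsM hs c
      by_cases hs0 : s = 0
      · rw [hs0, smul_zero, sgT_zero, map_one]; exact Subgroup.one_mem _
      have hsW : s ∈ hp.W := hsM.1
      have hsk := fl.k.mem_W.mp hsM.2
      have hus : QuadraticMap.polar Q u s = 0 := by rw [← hpe]; exact (hp.mem_W.mp hsW).1
      have hts : IsTS Q u s := ⟨h.qa, hs, hus, by rw [← hpe]; exact hp.li_e_w hsW hs0⟩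
      have hsv₀ : QuadraticMap.polar Q s v₀ = 0 := by
        rw [QuadraticMap.polar_comm]; exact hsk.1
      have hsv₀' : QuadraticMap.polar Q s v₀' = 0 := by
        have := hsk.2
        show QuadraticMap.polar Q s v₀' = 0
        have e : QuadraticMap.polar Q (κ⁻¹ • v₀') s = 0 := this
        rw [QuadraticMap.polar_smul_left, smul_eq_mul] at e
        rw [QuadraticMap.polar_comm]
        rcases mul_eq_zero.mp e with h1 | h1
        · exact absurd h1 (inv_ne_zero hκ0)
        · exact h1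
      have hsu : QuadraticMap.polar Q s u = 0 := by rw [QuadraticMap.polar_comm]; exact hus
      have hsv : QuadraticMap.polar Q s v = 0 := by
        have : v = v₀ + QuadraticMap.polar Q hp.f v • u := by rw [ev₀]; abel
        rw [this, QuadraticMap.polar_add_right, QuadraticMap.polar_smul_right, hsv₀, hsu]; simp
      have hsv' : QuadraticMap.polar Q s v' = 0 := by
        have : v' = v₀' + QuadraticMap.polar Q hp.f v' • u := by rw [ev₀']; abel
        rw [this, QuadraticMap.polar_add_right, QuadraticMap.polar_smul_right, hsv₀', hsu]; simp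
      have hnv : v ∉ Submodule.span F {u, s} := by
        intro hm
        obtain ⟨α, β, hαβ⟩ := Submodule.mem_span_pair.mp hm
        apply hvv'
        rw [← hαβ, QuadraticMap.polar_add_left, QuadraticMap.polar_smul_left,
          QuadraticMap.polar_smul_left, h'.ab, hsv']
        simp
      have hnv' : v' ∉ Submodule.span F {u, s} := by
        intro hm
        obtain ⟨α, β, hαβ⟩ := Submodule.mem_span_pair.mp hm
        apply hvv'
        rw [← hαβ, QuadraticMap.polar_add_right, QuadraticMap.polar_smul_right,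
          QuadraticMap.polar_smul_right, h.ba, QuadraticMap.polar_comm Q v s, hsv]
        simp
      apply le_QQ (S := Xb Q u s) _ ⟨_, sgT_mem_X u s c, rfl⟩
      exact Or.inr (Or.inr ⟨⟨u, s, hts, rfl⟩, B1_of_geo hQ h5 p hts h hsv hnv,
        B1_of_geo hQ h5 p hts h' hsv' hnv'⟩)
    have hW2' : ∀ w₂, w₂ ∈ Submodule.span F {c | c ∈ hp.W ⊓ fl.k.W ∧ Q c = 0} → ∀ c : F,
        QuadraticMap.polar Q u (c • w₂) = 0 ∧
          pr (sgT Q u (c • w₂)) ∈ QQ (Xb Q u v) (Xb Q u v') := by
      intro w₂ hw₂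
      induction hw₂ using Submodule.span_induction with
      | mem s hs =>
        intro c
        refine ⟨?_, hsing s hs.1 hs.2 c⟩
        rw [QuadraticMap.polar_smul_right, ← hpe, (hp.mem_W.mp hs.1.1).1, smul_zero]
      | zero =>
        intro c
        rw [smul_zero, sgT_zero, map_one]
        exact ⟨QuadraticMap.polar_zero_right _ _, Subgroup.one_mem _⟩
      | add a b _ _ iha ihb =>
        intro c
        obtain ⟨ha1, ha2⟩ := iha c
        obtain ⟨hb1, hb2⟩ := ihb c
        rw [smul_add, ← sgT_mul ha1 hb1, map_mul]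
        exact ⟨by rw [QuadraticMap.polar_add_right, ha1, hb1, add_zero], Subgroup.mul_mem _ ha2 hb2⟩
      | smul t a _ iha =>
        intro c
        rw [smul_smul]
        exact iha (c * t)
    have hW2 : ∀ w₂, w₂ ∈ hp.W ⊓ fl.k.W → ∀ c : F,
        QuadraticMap.polar Q u (c • w₂) = 0 ∧
          pr (sgT Q u (c • w₂)) ∈ QQ (Xb Q u v) (Xb Q u v') :=
      fun w₂ hw₂ => hW2' w₂ (hspan hw₂)
    intro x hx
    obtain ⟨w, hw, rfl⟩ := (mem_Qb_iff x).mp hx
    -- decompose `w`
    have e1 := hp.dec w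
    rw [hpe, hw, zero_smul, add_zero] at e1
    have e2 := fl.k.dec (hp.pw w)
    have hw₂ : fl.k.pw (hp.pw w) ∈ hp.W ⊓ fl.k.W := by
      refine ⟨?_, fl.k.pw_mem _⟩
      unfold HP.pw
      exact Submodule.sub_mem _ (Submodule.sub_mem _ (hp.pw_mem w)
        (Submodule.smul_mem _ _ fl.ke)) (Submodule.smul_mem _ _ fl.kf)
    obtain ⟨w₂, hw₂def⟩ : ∃ w₂, w₂ = fl.k.pw (hp.pw w) := ⟨_, rfl⟩
    rw [← hw₂def] at hw₂ e2
    obtain ⟨β, hβ⟩ : ∃ β, β = QuadraticMap.polar Q fl.k.f (hp.pw w) := ⟨_, rfl⟩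
    obtain ⟨γ, hγ⟩ : ∃ γ, γ = QuadraticMap.polar Q fl.k.e (hp.pw w) := ⟨_, rfl⟩
    rw [← hβ, ← hγ] at e2
    have hke : fl.k.e = v₀ := rfl
    have hkf : fl.k.f = κ⁻¹ • v₀' := rfl
    rw [hke, hkf, smul_smul] at e2
    have huv₀ : ∀ c : F, QuadraticMap.polar Q u (c • v₀) = 0 := fun c => by
      rw [QuadraticMap.polar_smul_right, ← hpe, (hp.mem_W.mp hv₀W).1, smul_zero]
    have huv₀' : ∀ c : F, QuadraticMap.polar Q u (c • v₀') = 0 := fun c => by
      rw [QuadraticMap.polar_smul_right, ← hpe, (hp.mem_W.mp hv₀'W).1, smul_zero]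
    have hfin : sgT Q u w = sgT Q u (β • v₀) * sgT Q u ((γ * κ⁻¹) • v₀') * sgT Q u ((1 : F) • w₂) := by
      have h1 := (hW2 w₂ hw₂ 1).1
      rw [sgT_mul (huv₀ β) (huv₀' _), sgT_mul (by
        rw [QuadraticMap.polar_add_right, huv₀, huv₀', add_zero]) h1, one_smul, ← e2]
      conv_lhs => rw [e1, add_comm]
      rw [sgT_add_smul h.qa]
      rw [← hpe]; exact (hp.mem_W.mp (hp.pw_mem w)).1
    rw [hfin, map_mul, map_mul]
    exact Subgroup.mul_mem _ (Subgroup.mul_mem _ (le_QQ (Or.inl rfl) (hXv β))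
      (le_QQ (Or.inr (Or.inl rfl)) (hXv' _))) (hW2 w₂ hw₂ 1).2

end Fin

end Cfsg.Agent.Helper8.AutO
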