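import Mathlib
import Cfsg.Agent.Helper8.AutOi

set_option autoImplicit false

/-!
# Automorphisms of orthogonal groups, part j: point subgroups are self-centralizing; the subgroup
attached to two disjoint orthogonal lines is not
-/

namespace Cfsg.Agent.Helper8.AutO

open Module Cfsg.Agent.Helper8.QuadForm Cfsg.Agent.Helper8.WittQuad Cfsg.Agent.Helper8.OrthOrder
  Cfsg.Agent.Helper8.Siegel Cfsg.Agent.Helper8.SiegelGeom Cfsg.Agent.Helper8.SiegelGroup
  Cfsg.Agent.Helper8.SiegelPrim Cfsg.Agent.Helper8.SiegelSimple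

open scoped Pointwise

variable {F : Type*} [Field F] {V : Type*} [AddCommGroup V] [Module F V] {Q : QuadraticForm F V}

theorem polar_of_Q_eq (g : V →ₗ[F] V) (hg : ∀ x, Q (g x) = Q x) (x y : V) :
    QuadraticMap.polar Q (g x) (g y) = QuadraticMap.polar Q x y := by
  unfold QuadraticMap.polar
  rw [← map_add, hg, hg, hg]

/-- the kernel lemma for a linear map preserving the form. -/
theorem exists_sgT_of_trivial' (h : HP Q) (g : V →ₗ[F] V) (hgQ : ∀ x, Q (g x) = Q x)
    (hge : g h.e = h.e) (hg : ∀ w ∈ h.W, ∃ c : F, g w = w + c • h.e) :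
    ∃ w₁ ∈ h.W, ∀ x, g x = ap (sgT Q h.e w₁) x := by
  have h1 : QuadraticMap.polar Q h.e (g h.f) = 1 := by
    have := polar_of_Q_eq g hgQ h.e h.f
    rw [hge, h.hef] at this
    exact this
  have h2 : Q h.f = Q (g h.f) := by rw [hgQ]
  obtain ⟨h3, h4⟩ := sieg_move Q h.he h2 h.hef h1
  have h5 : ap (sgT Q h.e (h.f - g h.f)) h.f = g h.f := h4
  obtain ⟨w₁, hw₁⟩ : ∃ w₁, w₁ = h.pw (h.f - g h.f) := ⟨_, rfl⟩
  have hw₁W : w₁ ∈ h.W := by rw [hw₁]; exact h.pw_mem _
  have h6 : sgT Q h.e (h.f - g h.f) = sgT Q h.e w₁ := by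
    have e1 := h.dec (h.f - g h.f)
    rw [h3, zero_smul, add_zero, ← hw₁] at e1
    rw [e1, add_comm, sgT_add_smul h.he (h.mem_W.mp hw₁W).1]
  rw [h6] at h5
  refine ⟨w₁, hw₁W, ?_⟩
  intro x
  have hρe : ap (sgT Q h.e w₁) h.e = h.e := ap_sgT_self _ _
  have hW : ∀ w ∈ h.W, g w = ap (sgT Q h.e w₁) w := by
    intro w hw
    obtain ⟨c, hc⟩ := hg w hw
    have hwe := (h.mem_W'.mp hw).1
    have hwf := (h.mem_W'.mp hw).2
    rw [ap_sgT h.he (h.mem_W.mp hw₁W).1, hwe, hc]
    have e1 : QuadraticMap.polar Q (g w) (g h.f) = 0 := by rw [polar_of_Q_eq g hgQ, hwf]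
    rw [hc, ← h5, ap_sgT h.he (h.mem_W.mp hw₁W).1, h.hfe] at e1
    have hw₁e := (h.mem_W'.mp hw₁W).1
    have hw₁f := (h.mem_W'.mp hw₁W).2
    simp only [QuadraticMap.polar_add_left, QuadraticMap.polar_add_right,
      QuadraticMap.polar_sub_right, QuadraticMap.polar_smul_left, QuadraticMap.polar_smul_right,
      hwe, hwf, h.hee, h.hef, QuadraticMap.polar_comm Q h.e w₁, hw₁e,
      QuadraticMap.polar_comm Q h.f w₁, hw₁f, smul_eq_mul, mul_zero, mul_one, zero_add, add_zero,
      sub_zero] at e1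
    have : c = QuadraticMap.polar Q w w₁ := by linear_combination e1
    rw [this]
    module
  have e2 := h.dec x
  have hx : g x = QuadraticMap.polar Q h.f x • g h.e + QuadraticMap.polar Q h.e x • g h.f
      + g (h.pw x) := by
    conv_lhs => rw [e2]
    rw [map_add, map_add, map_smul, map_smul]
  have hx' : ap (sgT Q h.e w₁) x = QuadraticMap.polar Q h.f x • ap (sgT Q h.e w₁) h.e
      + QuadraticMap.polar Q h.e x • ap (sgT Q h.e w₁) h.f + ap (sgT Q h.e w₁) (h.pw x) := by
    conv_lhs => rw [e2]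
    rw [map_add, map_add, map_smul, map_smul]
  rw [hx, hx', hge, hρe, h5, hW _ (h.pw_mem x)]

/-- a scalar element is central. -/
theorem mem_center_of_scalar {z : ↥(SG Q)} {c : F} (hz : ∀ x, ap z x = c • x) :
    z ∈ Subgroup.center ↥(SG Q) := by
  rw [Subgroup.mem_center_iff]
  intro g
  apply ext_ap
  intro x
  rw [ap_mul, ap_mul, hz, hz, map_smul]

theorem pr_eq_one_of_scalar {z : ↥(SG Q)} {c : F} (hz : ∀ x, ap z x = c • x) : pr z = 1 :=
  (QuotientGroup.eq_one_iff z).mpr (mem_center_of_scalar hz)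

section Fin

variable [Fintype F] [FiniteDimensional F V] (hQ : Nondeg Q) (h5 : 5 ≤ finrank F V)
  (p : ℕ) [Fact p.Prime] [CharP F p]

include hQ h5 p

/-- **a point subgroup is self-centralizing.** -/
theorem centralizer_Qb_le {u : V} (hu0 : u ≠ 0) (hu : Q u = 0) :
    Subgroup.centralizer (Qb Q u : Set (PG Q)) ≤ Qb Q u := by
  intro x hx
  obtain ⟨g, rfl⟩ := pr_surjective x
  rw [Subgroup.mem_centralizer_iff] at hx
  have hgu0 : ap g u ≠ 0 := ap_ne_zero g hu0
  have hgu : Q (ap g u) = 0 := by rw [Q_ap, hu]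
  have key : ∀ w, QuadraticMap.polar Q u w = 0 → sgT Q (ap g u) (ap g w) = sgT Q u w := by
    intro w hw
    have h1 := hx (pr (sgT Q u w)) ⟨_, sgT_mem_rootSub hw, rfl⟩
    have h2 : pr (g * sgT Q u w * g⁻¹) = pr (sgT Q u w) := by
      rw [map_mul, map_mul, ← h1, map_inv, mul_inv_cancel_right]
    rw [sgT_conj] at h2
    exact sgT_eq_of_pr_eq hQ h5 p (by rw [polar_ap, hw]) hw h2
  -- `g u` is a multiple of `u`
  have hle : rootSub Q u ≤ rootSub Q (ap g u) := by
    intro s hs
    obtain ⟨w, hw, rfl⟩ := (mem_rootSub_iff u s).mp hs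
    rw [← key w hw]
    exact sgT_mem_rootSub (by rw [polar_ap, hw])
  have hmem := mem_span_of_rootSub_le hQ h5 hu0 hu hgu0 hgu hle
  obtain ⟨c, hc⟩ := Submodule.mem_span_singleton.mp hmem
  have hc0 : c ≠ 0 := by
    rintro rfl
    rw [zero_smul] at hc
    exact hgu0 hc.symm
  obtain ⟨hp, hpe⟩ := exists_HP hQ hu0 hu
  -- `c g w ≡ w` modulo `u`
  have hmod : ∀ w ∈ hp.W, ∃ α : F, c • ap g w = w + α • u := by
    intro w hw
    have hw' : QuadraticMap.polar Q u w = 0 := by rw [← hpe]; exact (hp.mem_W.mp hw).1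
    have h1 := key w hw'
    have h2 : QuadraticMap.polar Q u (ap g w) = 0 := by
      have := polar_ap g u w
      rw [← hc, QuadraticMap.polar_smul_left, hw', smul_eq_mul] at this
      rcases mul_eq_zero.mp this with h3 | h3
      · exact absurd h3 hc0
      · exact h3
    rw [← hc, sgT_smul_left c h2] at h1
    have h3 := (sgT_eq_iff hQ hu0 hu (by
      rw [QuadraticMap.polar_smul_right, h2, smul_zero]) hw').mp h1
    obtain ⟨α, hα⟩ := Submodule.mem_span_singleton.mp h3
    exact ⟨α, by rw [hα]; abel⟩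
  -- `c ^ 2 = 1`
  have hcc : c * c = 1 := by
    obtain ⟨w, hw, hw0⟩ := hp.W_ne_bot (by omega)
    have hex : ∃ w' ∈ hp.W, QuadraticMap.polar Q w w' ≠ 0 := by
      by_contra hcon
      push Not at hcon
      exact hw0 (hp.W_nondeg hQ w hw hcon)
    obtain ⟨w', hw', hww'⟩ := hex
    obtain ⟨α, hα⟩ := hmod w hw
    obtain ⟨α', hα'⟩ := hmod w' hw'
    have h1 : QuadraticMap.polar Q (c • ap g w) (c • ap g w') = c * c * QuadraticMap.polar Q w w' := by
      rw [QuadraticMap.polar_smul_left, QuadraticMap.polar_smul_right, polar_ap]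
      simp only [smul_eq_mul]
      ring
    have huw : QuadraticMap.polar Q u w' = 0 := by rw [← hpe]; exact (hp.mem_W.mp hw').1
    have hwu : QuadraticMap.polar Q w u = 0 := by
      rw [QuadraticMap.polar_comm, ← hpe]; exact (hp.mem_W.mp hw).1
    rw [hα, hα'] at h1
    simp only [QuadraticMap.polar_add_left, QuadraticMap.polar_add_right,
      QuadraticMap.polar_smul_left, QuadraticMap.polar_smul_right, huw, hwu,
      polar_self_of_sing hu, smul_zero, add_zero] at h1
    have h2 : (c * c - 1) * QuadraticMap.polar Q w w' = 0 := by linear_combination -h1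
    rcases mul_eq_zero.mp h2 with h3 | h3
    · exact sub_eq_zero.mp h3
    · exact absurd h3 hww'
  -- the kernel lemma for `c g`
  have hgQ : ∀ x, Q ((c • (ap g : V →ₗ[F] V)) x) = Q x := by
    intro x
    rw [LinearMap.smul_apply, QuadraticMap.map_smul, smul_eq_mul, hcc, one_mul]
    exact Q_ap g x
  obtain ⟨w₁, hw₁, hfin⟩ := exists_sgT_of_trivial' hp (c • (ap g : V →ₗ[F] V)) hgQ
    (by
      rw [LinearMap.smul_apply, hpe]
      show c • ap g u = u
      rw [← hc, smul_smul, hcc, one_smul])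
    (by
      intro w hw
      obtain ⟨α, hα⟩ := hmod w hw
      exact ⟨α, by rw [LinearMap.smul_apply, hpe]; exact hα⟩)
  rw [hpe] at hfin
  have hgx : ∀ x, ap g x = c • ap (sgT Q u w₁) x := by
    intro x
    have := hfin x
    rw [LinearMap.smul_apply] at this
    have h2 : ap g x = (c * c) • ap g x := by rw [hcc, one_smul]
    rw [h2, mul_smul]
    exact congrArg (c • ·) this
  have hz : ∀ x, ap (g * (sgT Q u w₁)⁻¹) x = c • x := by
    intro x
    rw [ap_mul, hgx, ap_ap_inv]
  have hpr : pr g = pr (sgT Q u w₁) := by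
    have := pr_eq_one_of_scalar hz
    rw [map_mul, map_inv, mul_inv_eq_one] at this
    exact this
  rw [hpr]
  exact ⟨_, sgT_mem_rootSub (by rw [← hpe]; exact (hp.mem_W.mp hw₁).1), rfl⟩

end Fin

end Cfsg.Agent.Helper8.AutO
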