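import Mathlib
import Cfsg.Agent.Helper8.AutOj

set_option autoImplicit false

/-!
# Automorphisms of orthogonal groups, part k: the subgroup attached to two disjoint orthogonal
lines is not self-centralizing
-/

namespace Cfsg.Agent.Helper8.AutO

open Module Cfsg.Agent.Helper8.QuadForm Cfsg.Agent.Helper8.WittQuad Cfsg.Agent.Helper8.OrthOrder
  Cfsg.Agent.Helper8.Siegel Cfsg.Agent.Helper8.SiegelGeom Cfsg.Agent.Helper8.SiegelGroup
  Cfsg.Agent.Helper8.SiegelPrim Cfsg.Agent.Helper8.SiegelSimple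

open scoped Pointwise

variable {F : Type*} [Field F] {V : Type*} [AddCommGroup V] [Module F V] {Q : QuadraticForm F V}

theorem IsTS.finrank_span [FiniteDimensional F V] {a b : V} (h : IsTS Q a b) :
    finrank F ↥(Submodule.span F {a, b}) = 2 := by
  have e2 : ({a, b} : Set V) = Set.range ![a, b] := by
    ext x; simp [eq_comm, or_comm]
  rw [e2, finrank_span_eq_card h.li]
  rfl

/-- a vector orthogonal to a small subspace and outside it. -/
theorem exists_perp_not_mem [FiniteDimensional F V] (hQ : Nondeg Q) (M : Submodule F V)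
    (hM : 2 * finrank F ↥M < finrank F V) :
    ∃ z, (∀ m ∈ M, QuadraticMap.polar Q m z = 0) ∧ z ∉ M := by
  have hB := (nondeg_iff Q).mpr hQ
  have h1 := LinearMap.BilinForm.finrank_orthogonal hB M
  by_contra hcon
  push Not at hcon
  have hle : LinearMap.BilinForm.orthogonal (QuadraticMap.polarBilin Q) M ≤ M := by
    intro z hz
    apply hcon z
    intro m hm
    exact (LinearMap.BilinForm.mem_orthogonal_iff.mp hz) m hm
  have h2 := Submodule.finrank_mono hle
  omega

/-- the elements acting trivially on `M` and on `V / M`. -/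
def Uni (Q : QuadraticForm F V) (M : Submodule F V) : Subgroup ↥(SG Q) where
  carrier := {g | (∀ x, ap g x - x ∈ M) ∧ ∀ m ∈ M, ap g m = m}
  mul_mem' := by
    rintro a b ⟨ha1, ha2⟩ ⟨hb1, hb2⟩
    refine ⟨fun x => ?_, fun m hm => ?_⟩
    · rw [ap_mul]
      have : ap a (ap b x) - x = (ap a (ap b x) - ap b x) + (ap b x - x) := by abel
      rw [this]
      exact M.add_mem (ha1 _) (hb1 x)
    · rw [ap_mul, hb2 m hm, ha2 m hm]
  one_mem' := ⟨fun x => by rw [ap_one, sub_self]; exact M.zero_mem, fun m _ => ap_one m⟩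
  inv_mem' := by
    rintro a ⟨ha1, ha2⟩
    refine ⟨fun x => ?_, fun m hm => ?_⟩
    · have h1 := ha1 (ap a⁻¹ x)
      rw [ap_ap_inv] at h1
      have : ap a⁻¹ x - x = -(x - ap a⁻¹ x) := by abel
      rw [this]
      exact M.neg_mem h1
    · conv_lhs => rw [← ha2 m hm]
      exact ap_inv_ap a m

theorem mem_Uni {M : Submodule F V} {g : ↥(SG Q)} :
    g ∈ Uni Q M ↔ (∀ x, ap g x - x ∈ M) ∧ ∀ m ∈ M, ap g m = m := Iff.rfl

theorem Uni_pow {M : Submodule F V} {g : ↥(SG Q)} (hg : g ∈ Uni Q M) (n : ℕ) (x : V) :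
    ap (g ^ n) x = x + (n : F) • (ap g x - x) := by
  induction n generalizing x with
  | zero => rw [pow_zero, ap_one, Nat.cast_zero, zero_smul, add_zero]
  | succ n ih =>
    rw [pow_succ, ap_mul, ih]
    have h1 : ap g (ap g x) - ap g x = ap g x - x := by
      rw [← map_sub]
      exact hg.2 _ (hg.1 x)
    rw [h1, Nat.cast_succ]
    module

theorem Uni_pow_char (p : ℕ) [CharP F p] {M : Submodule F V} {g : ↥(SG Q)} (hg : g ∈ Uni Q M) :
    g ^ p = 1 := by
  apply ext_ap
  intro x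
  rw [Uni_pow hg, CharP.cast_eq_zero, zero_smul, add_zero, ap_one]

/-- a Siegel transformation with both parameters in a totally singular subspace. -/
theorem sgT_mem_Uni {M : Submodule F V} (hM : ∀ x ∈ M, ∀ y ∈ M, QuadraticMap.polar Q x y = 0)
    (hMQ : ∀ x ∈ M, Q x = 0) {a' b' : V} (ha' : a' ∈ M) (hb' : b' ∈ M) :
    sgT Q a' b' ∈ Uni Q M := by
  refine ⟨fun x => ?_, fun m hm => ap_sgT_fix (hM m hm a' ha') (hM m hm b' hb')⟩
  rw [ap_sgT (hMQ a' ha') (hM a' ha' b' hb')]
  have : x + QuadraticMap.polar Q x b' • a' - QuadraticMap.polar Q x a' • b'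
      - (Q b' * QuadraticMap.polar Q x a') • a' - x
      = QuadraticMap.polar Q x b' • a' - QuadraticMap.polar Q x a' • b'
      - (Q b' * QuadraticMap.polar Q x a') • a' := by abel
  rw [this]
  exact M.sub_mem (M.sub_mem (M.smul_mem _ ha') (M.smul_mem _ hb')) (M.smul_mem _ ha')

section Fin

variable [Fintype F] [FiniteDimensional F V] (hQ : Nondeg Q) (h5 : 5 ≤ finrank F V)
  (p : ℕ) [Fact p.Prime] [CharP F p]

include hQ h5 p

/-- the common neighbours of two disjoint orthogonal lines lie in their span. -/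
theorem gen_of_Nb {a b c d : V} (h : IsTS Q a b) (h' : IsTS Q c d)
    (hm : ¬ Meet (F := F) a b c d) (hp : Perp4 Q a b c d) {S : Subgroup (PG Q)}
    (hS : S ∈ Nb (Xb Q a b) (Xb Q c d)) {x : PG Q} (hx : x ∈ S) :
    ∃ a' b', a' ∈ Submodule.span F {a, b} ⊔ Submodule.span F {c, d} ∧
      b' ∈ Submodule.span F {a, b} ⊔ Submodule.span F {c, d} ∧ x = pr (sgT Q a' b') := by
  have hl : Submodule.span F {a, b} ≤ Submodule.span F {a, b} ⊔ Submodule.span F {c, d} :=
    le_sup_left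
  have hr : Submodule.span F {c, d} ≤ Submodule.span F {a, b} ⊔ Submodule.span F {c, d} :=
    le_sup_right
  rcases hS with rfl | rfl | ⟨⟨a', b', hab', rfl⟩, hB, hB'⟩
  · obtain ⟨t, rfl⟩ := (mem_Xb_iff h x).mp hx
    exact ⟨a, t • b, hl (Submodule.subset_span (by simp)),
      hl (Submodule.smul_mem _ _ (Submodule.subset_span (by simp))), rfl⟩
  · obtain ⟨t, rfl⟩ := (mem_Xb_iff h' x).mp hx
    exact ⟨c, t • d, hr (Submodule.subset_span (by simp)),
      hr (Submodule.smul_mem _ _ (Submodule.subset_span (by simp))), rfl⟩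
  · obtain ⟨⟨x₁, hx₁0, hx₁, hx₁'⟩, -⟩ := geo_of_B1 hQ h5 p hab' h hB
    obtain ⟨⟨x₂, hx₂0, hx₂, hx₂'⟩, -⟩ := geo_of_B1 hQ h5 p hab' h' hB'
    have hts : IsTS Q x₁ x₂ := by
      refine ⟨h.Q_of_mem hx₁', h'.Q_of_mem hx₂', hp.polar_of_mem hx₁' hx₂', ?_⟩
      rw [LinearIndependent.pair_iff]
      intro s t hst
      have h1 : s • x₁ = (-t) • x₂ := by
        rw [neg_smul, eq_neg_iff_add_eq_zero]; exact hst
      have h2 : s • x₁ = 0 := by
        by_contra hne
        exact hm ⟨s • x₁, hne, Submodule.smul_mem _ _ hx₁', by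
          rw [h1]; exact Submodule.smul_mem _ _ hx₂'⟩
      have hs : s = 0 := by
        rcases smul_eq_zero.mp h2 with h3 | h3
        · exact h3
        · exact absurd h3 hx₁0
      rw [hs, zero_smul, zero_add] at hst
      refine ⟨hs, ?_⟩
      rcases smul_eq_zero.mp hst with h3 | h3
      · exact h3
      · exact absurd h3 hx₂0
    have hspan := hab'.span_eq_of_mem hts hx₁ hx₂
    have hle : Submodule.span F {a', b'} ≤ Submodule.span F {a, b} ⊔ Submodule.span F {c, d} := by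
      rw [← hspan, Submodule.span_le]
      intro y hy
      rcases hy with rfl | rfl
      · exact hl hx₁'
      · exact hr hx₂'
    obtain ⟨t, rfl⟩ := (mem_Xb_iff hab' x).mp hx
    exact ⟨a', t • b', hle (Submodule.subset_span (by simp)),
      hle (Submodule.smul_mem _ _ (Submodule.subset_span (by simp))), rfl⟩

/-- **the subgroup attached to two disjoint orthogonal lines is not self-centralizing.** -/
theorem not_centralizer_QQ_le (h9 : 9 ≤ finrank F V) {a b c d : V} (h : IsTS Q a b)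
    (h' : IsTS Q c d) (hm : ¬ Meet (F := F) a b c d) (hp : Perp4 Q a b c d) :
    ¬ Subgroup.centralizer (QQ (Xb Q a b) (Xb Q c d) : Set (PG Q)) ≤ QQ (Xb Q a b) (Xb Q c d) := by
  obtain ⟨M, hMdef⟩ : ∃ M, M = Submodule.span F {a, b} ⊔ Submodule.span F {c, d} := ⟨_, rfl⟩
  have hMpol : ∀ x ∈ M, ∀ y ∈ M, QuadraticMap.polar Q x y = 0 := by
    intro x hx y hy
    rw [hMdef] at hx hy
    obtain ⟨x₁, hx₁, x₂, hx₂, rfl⟩ := Submodule.mem_sup.mp hx
    obtain ⟨y₁, hy₁, y₂, hy₂, rfl⟩ := Submodule.mem_sup.mp hy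
    rw [QuadraticMap.polar_add_left, QuadraticMap.polar_add_right, QuadraticMap.polar_add_right,
      h.polar_of_mem hx₁ hy₁, hp.polar_of_mem hx₁ hy₂, QuadraticMap.polar_comm Q x₂ y₁,
      hp.polar_of_mem hy₁ hx₂, h'.polar_of_mem hx₂ hy₂]
    simp
  have hMQ : ∀ x ∈ M, Q x = 0 := by
    intro x hx
    rw [hMdef] at hx
    obtain ⟨x₁, hx₁, x₂, hx₂, rfl⟩ := Submodule.mem_sup.mp hx
    rw [QuadraticMap.map_add Q, h.Q_of_mem hx₁, h'.Q_of_mem hx₂, hp.polar_of_mem hx₁ hx₂]
    simp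
  have hdim : 2 * finrank F ↥M < finrank F V := by
    have h1 := Submodule.finrank_add_le_finrank_add_finrank (Submodule.span F {a, b})
      (Submodule.span F {c, d})
    rw [h.finrank_span, h'.finrank_span, ← hMdef] at h1
    omega
  obtain ⟨z, hzM, hznM⟩ := exists_perp_not_mem hQ M hdim
  have haM : a ∈ M := by
    rw [hMdef]; exact Submodule.mem_sup_left (Submodule.subset_span (by simp))
  have haz : QuadraticMap.polar Q a z = 0 := hzM a haM
  -- `h₀` fixes `M` pointwise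
  have hfix : ∀ m ∈ M, ap (sgT Q a z) m = m := fun m hm =>
    ap_sgT_fix (hMpol m hm a haM) (hzM m hm)
  -- every element of `QQ` lifts to `Uni M`, commuting with `h₀`
  have key : ∀ y ∈ QQ (Xb Q a b) (Xb Q c d), ∃ g ∈ Uni Q M,
      g * sgT Q a z = sgT Q a z * g ∧ y = pr g := by
    intro y hy
    unfold QQ at hy
    induction hy using Subgroup.closure_induction with
    | mem y hy =>
      obtain ⟨S, hS, hyS⟩ := hy
      obtain ⟨a', b', ha', hb', rfl⟩ := gen_of_Nb hQ h5 p h h' hm hp hS hyS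
      rw [← hMdef] at ha' hb'
      refine ⟨sgT Q a' b', sgT_mem_Uni hMpol hMQ ha' hb', ?_, rfl⟩
      have h1 : sgT Q a z * sgT Q a' b' * (sgT Q a z)⁻¹ = sgT Q a' b' := by
        rw [sgT_conj, hfix a' ha', hfix b' hb']
      calc sgT Q a' b' * sgT Q a z = (sgT Q a z * sgT Q a' b' * (sgT Q a z)⁻¹) * sgT Q a z := by
            rw [h1]
        _ = sgT Q a z * sgT Q a' b' := by group
    | one => exact ⟨1, Subgroup.one_mem _, by rw [one_mul, mul_one], by rw [map_one]⟩
    | mul y₁ y₂ _ _ ih₁ ih₂ =>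
      obtain ⟨g₁, hg₁, hc₁, rfl⟩ := ih₁
      obtain ⟨g₂, hg₂, hc₂, rfl⟩ := ih₂
      refine ⟨g₁ * g₂, Subgroup.mul_mem _ hg₁ hg₂, ?_, by rw [map_mul]⟩
      rw [mul_assoc, hc₂, ← mul_assoc, hc₁, mul_assoc]
    | inv y₁ _ ih₁ =>
      obtain ⟨g₁, hg₁, hc₁, rfl⟩ := ih₁
      refine ⟨g₁⁻¹, Subgroup.inv_mem _ hg₁, ?_, by rw [map_inv]⟩
      rw [eq_mul_inv_iff_mul_eq, mul_assoc, ← hc₁, ← mul_assoc, inv_mul_cancel, one_mul]
  intro hle
  have hcen : pr (sgT Q a z) ∈ Subgroup.centralizer (QQ (Xb Q a b) (Xb Q c d) : Set (PG Q)) := by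
    rw [Subgroup.mem_centralizer_iff]
    intro y hy
    obtain ⟨g, -, hc, rfl⟩ := key y hy
    rw [← map_mul, ← map_mul, hc]
  obtain ⟨g, hgU, -, hg⟩ := key _ (hle hcen)
  have heq : sgT Q a z = g := eq_of_pr_eq hQ h5 p (k := 1) (l := 1)
    (by rw [pow_one]; exact sgT_pow_char p haz) (by rw [pow_one]; exact Uni_pow_char p hgU) hg
  rw [← heq] at hgU
  obtain ⟨x, hx⟩ := exists_pair_one Q hQ h.a_ne
  have h1 := hgU.1 x
  rw [ap_sgT h.qa haz, QuadraticMap.polar_comm Q x a, hx] at h1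
  apply hznM
  have e : z = (QuadraticMap.polar Q x z - Q z) • a
      - (x + QuadraticMap.polar Q x z • a - (1 : F) • z - (Q z * 1) • a - x) := by module
  rw [e]
  exact M.sub_mem (M.smul_mem _ haM) h1

end Fin

end Cfsg.Agent.Helper8.AutO
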