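import Mathlib
import Cfsg.Agent.Helper8.AutOk

set_option autoImplicit false

/-!
# Automorphisms of orthogonal groups, part l: every automorphism of the projective Siegel group
permutes the point subgroups
-/

namespace Cfsg.Agent.Helper8.AutO

open Module Cfsg.Agent.Helper8.QuadForm Cfsg.Agent.Helper8.WittQuad Cfsg.Agent.Helper8.OrthOrder
  Cfsg.Agent.Helper8.Siegel Cfsg.Agent.Helper8.SiegelGeom Cfsg.Agent.Helper8.SiegelGroup
  Cfsg.Agent.Helper8.SiegelPrim Cfsg.Agent.Helper8.SiegelSimple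

open scoped Pointwise

variable {F : Type*} [Field F] {V : Type*} [AddCommGroup V] [Module F V] {Q : QuadraticForm F V}

/-- there are no two disjoint orthogonal totally singular lines. -/
def NoB2 (Q : QuadraticForm F V) : Prop :=
  ∀ a b c d : V, IsTS Q a b → IsTS Q c d → Perp4 Q a b c d → Meet (F := F) a b c d

/-- in small dimension, there are no two disjoint orthogonal totally singular lines. -/
theorem noB2_of_finrank [FiniteDimensional F V] (hQ : Nondeg Q) (h7 : finrank F V ≤ 7) :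
    NoB2 Q := by
  intro a b c d h h' hp
  by_contra hm
  obtain ⟨M, hMdef⟩ : ∃ M, M = Submodule.span F {a, b} ⊔ Submodule.span F {c, d} := ⟨_, rfl⟩
  have hMpol : ∀ x ∈ M, ∀ y ∈ M, QuadraticMap.polar Q x y = 0 := by
    intro x hx y hy
    rw [hMdef] at hx hy
    obtain ⟨x₁, hx₁, x₂, hx₂, rfl⟩ := Submodule.mem_sup.mp hx
    obtain ⟨y₁, hy₁, y₂, hy₂, rfl⟩ := Submodule.mem_sup.mp hy
    rw [QuadraticMap.polar_add_left, QuadraticMap.polar_add_right, QuadraticMap.polar_add_right,
      h.polar_of_mem hx₁ hy₁, hp.polar_of_mem hx₁ hy₂, QuadraticMap.polar_comm Q x₂ y₁,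
      hp.polar_of_mem hy₁ hx₂, h'.polar_of_mem hx₂ hy₂]
    simp
  have hinf : Submodule.span F {a, b} ⊓ Submodule.span F {c, d} = ⊥ := by
    rw [eq_bot_iff]
    intro x hx
    rw [Submodule.mem_bot]
    by_contra hx0
    exact hm ⟨x, hx0, hx.1, hx.2⟩
  have hdim : finrank F ↥M = 4 := by
    have h1 := Submodule.finrank_sup_add_finrank_inf_eq (Submodule.span F {a, b})
      (Submodule.span F {c, d})
    rw [hinf, finrank_bot, h.finrank_span, h'.finrank_span, ← hMdef] at h1
    omega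
  have hB := (nondeg_iff Q).mpr hQ
  have h1 := LinearMap.BilinForm.finrank_orthogonal hB M
  have hle : M ≤ LinearMap.BilinForm.orthogonal (QuadraticMap.polarBilin Q) M := by
    intro z hz
    rw [LinearMap.BilinForm.mem_orthogonal_iff]
    intro m hm'
    exact hMpol m hm' z hz
  have h2 := Submodule.finrank_mono hle
  omega

section Fin

variable [Fintype F] [FiniteDimensional F V] (hQ : Nondeg Q) (h7 : 7 ≤ finrank F V)
  (p : ℕ) [Fact p.Prime] [CharP F p]

include hQ h7 p

theorem rootPres' (β : MulAut (PG Q)) : RootPres β :=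
  ⟨fun _ hR => rootPres hQ (by omega) p β hR, fun _ hR => rootPres hQ (by omega) p β⁻¹ hR⟩

/-- **every automorphism of the projective Siegel group permutes the point subgroups.** -/
theorem pointPres (hB2 : 9 ≤ finrank F V ∨ NoB2 Q) (β : MulAut (PG Q)) {u : V} (hu0 : u ≠ 0)
    (hu : Q u = 0) : ∃ u', u' ≠ 0 ∧ Q u' = 0 ∧ β • Qb Q u = Qb Q u' := by
  have h5 : 5 ≤ finrank F V := by omega
  have hβ := rootPres' hQ h7 p β
  obtain ⟨e, f, h1, h2, hef⟩ := exists_two_ts hQ h5 hu0 hu
  have hef0 : QuadraticMap.polar Q e f ≠ 0 := by rw [hef]; exact one_ne_zero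
  have hQQ := QQ_eq_Qb hQ h7 p h1 h2 hef0
  have hsm : β • Qb Q u = QQ (β • Xb Q u e) (β • Xb Q u f) := by
    rw [← hQQ, hβ.smul_QQ]
  obtain ⟨a, b, hab, hR⟩ := hβ.1 _ ⟨u, e, h1, rfl⟩
  obtain ⟨c, d, hcd, hR'⟩ := hβ.1 _ ⟨u, f, h2, rfl⟩
  rw [hR, hR'] at hsm
  -- not collinear
  have hnB : ¬ B1 (Xb Q a b) (Xb Q c d) := by
    intro hB
    rw [← hR, ← hR', hβ.B1_smul_iff] at hB
    obtain ⟨-, hperp⟩ := geo_of_B1 hQ h5 p h1 h2 hB
    exact hef0 (hperp e (Submodule.subset_span (by simp)) f (Submodule.subset_span (by simp)))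
  -- distinct
  have hne : Xb Q a b ≠ Xb Q c d := by
    intro heq
    rw [← hR, ← hR'] at heq
    have h3 := smul_left_cancel β heq
    have h4 := span_eq_of_Xb_le hQ h5 p h2 h1 (le_of_eq h3.symm)
    have h5' : f ∈ Submodule.span F {u, e} := by
      rw [← h4]; exact Submodule.subset_span (by simp)
    obtain ⟨s, t, hst⟩ := Submodule.mem_span_pair.mp h5'
    apply hef0
    rw [← hst, QuadraticMap.polar_add_right, QuadraticMap.polar_smul_right,
      QuadraticMap.polar_smul_right, h1.ba, polar_self_of_sing h1.qb]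
    simp
  -- commuting
  have hcomm : ∀ x ∈ Xb Q a b, ∀ y ∈ Xb Q c d, x * y = y * x := by
    intro x hx y hy
    rw [← hR] at hx
    rw [← hR'] at hy
    obtain ⟨x', hx', rfl⟩ := exists_of_mem_smul hx
    obtain ⟨y', hy', rfl⟩ := exists_of_mem_smul hy
    obtain ⟨s, rfl⟩ := (mem_Xb_iff h1 x').mp hx'
    obtain ⟨t, rfl⟩ := (mem_Xb_iff h2 y').mp hy'
    have hp1 : QuadraticMap.polar Q u (s • e) = 0 := by
      rw [QuadraticMap.polar_smul_right, h1.ab, smul_zero]
    have hp2 : QuadraticMap.polar Q u (t • f) = 0 := by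
      rw [QuadraticMap.polar_smul_right, h2.ab, smul_zero]
    rw [← map_mul, ← map_mul, ← map_mul, ← map_mul, sgT_mul hp1 hp2, sgT_mul hp2 hp1, add_comm]
  by_cases hm : Meet (F := F) a b c d
  · obtain ⟨x, hx0, hx1, hx2⟩ := hm
    obtain ⟨v, hv, hsv⟩ := hab.exists_basis_of_mem hx0 hx1
    obtain ⟨v', hv', hsv'⟩ := hcd.exists_basis_of_mem hx0 hx2
    have hX : Xb Q a b = Xb Q x v := by
      unfold Xb; rw [X_eq_of_span hv hab hsv.symm]
    have hX' : Xb Q c d = Xb Q x v' := by
      unfold Xb; rw [X_eq_of_span hv' hcd hsv'.symm]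
    rw [hX, hX'] at hsm hnB hne
    have hvv' : QuadraticMap.polar Q v v' ≠ 0 := by
      intro h0
      apply hnB
      apply B1_of_geo hQ h5 p hv hv' h0
      intro hmem
      apply hne
      unfold Xb
      rw [X_eq_of_span hv hv' (hv.span_eq_of_mem hv' (Submodule.subset_span (by simp)) hmem)]
    exact ⟨x, hx0, hv.qa, by rw [hsm, QQ_eq_Qb hQ h7 p hv hv' hvv']⟩
  · exfalso
    have hc1 : pr (sgT Q a b) ∈ Xb Q a b := ⟨_, by simpa using sgT_mem_X (Q := Q) a b 1, rfl⟩
    have hc2 : pr (sgT Q c d) ∈ Xb Q c d := ⟨_, by simpa using sgT_mem_X (Q := Q) c d 1, rfl⟩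
    have hc := comm_of_pr_comm hQ h5 p hab.ab hcd.ab (hcomm _ hc1 _ hc2)
    have hp := perp_of_comm hQ hab hcd hm hc
    rcases hB2 with h9 | hno
    · apply not_centralizer_QQ_le hQ h5 p h9 hab hcd hm hp
      rw [← hsm]
      intro y hy
      have h3 : (β⁻¹ : MulAut (PG Q)) y ∈ Subgroup.centralizer (Qb Q u : Set (PG Q)) := by
        rw [Subgroup.mem_centralizer_iff] at hy ⊢
        intro w hw
        have := hy (β w) (Subgroup.smul_mem_pointwise_smul _ _ _ hw)
        have h4 := congrArg (β⁻¹ : MulAut (PG Q)) this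
        rw [map_mul, map_mul, MulAut.inv_apply_self] at h4
        exact h4
      have h4 := centralizer_Qb_le hQ h5 p hu0 hu h3
      rw [Subgroup.mem_pointwise_smul_iff_inv_smul_mem]
      exact h4
    · exact hm (hno a b c d hab hcd hp)

end Fin

end Cfsg.Agent.Helper8.AutO
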