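import Mathlib
import Cfsg.Agent.Helper8.AutOl

set_option autoImplicit false

/-!
# Automorphisms of orthogonal groups, part m: point subgroups, orthogonality of points in terms of
the group, and normalisation of an automorphism with respect to a hyperbolic pair
-/

namespace Cfsg.Agent.Helper8.AutO

open Module Cfsg.Agent.Helper8.QuadForm Cfsg.Agent.Helper8.WittQuad Cfsg.Agent.Helper8.OrthOrder
  Cfsg.Agent.Helper8.Siegel Cfsg.Agent.Helper8.SiegelGeom Cfsg.Agent.Helper8.SiegelGroup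
  Cfsg.Agent.Helper8.SiegelPrim Cfsg.Agent.Helper8.SiegelSimple

open scoped Pointwise

variable {F : Type*} [Field F] {V : Type*} [AddCommGroup V] [Module F V] {Q : QuadraticForm F V}

theorem conj_smul_Qb (g : ↥(SG Q)) (u : V) :
    MulAut.conj (pr g) • Qb Q u = Qb Q (ap g u) := by
  unfold Qb
  have h1 : rootSub Q (ap g u) = MulAut.conj g • rootSub Q u := rootSub_conj Q g u
  rw [h1]
  ext x
  constructor
  · rintro ⟨_, ⟨y, hy, rfl⟩, rfl⟩
    refine ⟨g * y * g⁻¹, ⟨y, hy, rfl⟩, ?_⟩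
    simp [MulAut.conj_apply]
  · rintro ⟨_, ⟨y, hy, rfl⟩, rfl⟩
    refine ⟨pr y, ⟨y, hy, rfl⟩, ?_⟩
    simp [MulAut.conj_apply]

theorem Qb_eq_of_mem_span {u u' : V} (hu'0 : u' ≠ 0) (h : u' ∈ Submodule.span F {u}) :
    Qb Q u' = Qb Q u := by
  unfold Qb
  rw [rootSub_eq_of_mem_span hu'0 h]

theorem Qb_smul {u : V} {t : F} (ht : t ≠ 0) : Qb Q (t • u) = Qb Q u := by
  unfold Qb
  rw [rootSub_smul Q ht u]

/-- two point subgroups share a nontrivial element. -/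
def Coll (P P' : Subgroup (PG Q)) : Prop := ∃ x, x ≠ 1 ∧ x ∈ P ∧ x ∈ P'

theorem coll_smul_iff (β : MulAut (PG Q)) (P P' : Subgroup (PG Q)) :
    Coll (β • P) (β • P') ↔ Coll P P' := by
  constructor
  · rintro ⟨x, hx1, hx, hx'⟩
    obtain ⟨y, hy, rfl⟩ := exists_of_mem_smul hx
    refine ⟨y, fun h => hx1 (by rw [h, map_one]), hy, (mem_smul_iff β P' y).mp hx'⟩
  · rintro ⟨x, hx1, hx, hx'⟩
    refine ⟨β x, fun h => hx1 ?_, (mem_smul_iff β P x).mpr hx, (mem_smul_iff β P' x).mpr hx'⟩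
    have := congrArg (β⁻¹ : MulAut (PG Q)) h
    rwa [map_one, MulAut.inv_apply_self] at this

theorem sgT_swap {a b : V} (h : IsTS Q a b) : sgT Q a b = sgT Q b (-a) := by
  have h' : IsTS Q b (-a) := by
    have := h.symm.smul_right (c := (-1 : F)) (by simp)
    rwa [neg_smul, one_smul] at this
  apply ext_ap
  intro x
  rw [ap_sgT_ts h, ap_sgT_ts h', wedge_apply, wedge_apply, QuadraticMap.polar_neg_right]
  module

section Fin

variable [Fintype F] [FiniteDimensional F V] (hQ : Nondeg Q) (h5 : 5 ≤ finrank F V)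
  (p : ℕ) [Fact p.Prime] [CharP F p]

include hQ h5 p

/-- a point subgroup determines its point. -/
theorem mem_span_of_Qb_le {u u' : V} (hu0 : u ≠ 0) (hu : Q u = 0) (hu'0 : u' ≠ 0) (hu' : Q u' = 0)
    (hle : Qb Q u ≤ Qb Q u') : u' ∈ Submodule.span F {u} := by
  apply mem_span_of_rootSub_le hQ h5 hu0 hu hu'0 hu'
  intro s hs
  obtain ⟨w, hw, rfl⟩ := (mem_rootSub_iff u s).mp hs
  obtain ⟨w', hw', heq⟩ := (mem_Qb_iff _).mp (hle ⟨_, sgT_mem_rootSub hw, rfl⟩)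
  rw [sgT_eq_of_pr_eq hQ h5 p hw hw' heq]
  exact sgT_mem_rootSub hw'

/-- **orthogonality of singular points in terms of the group.** -/
theorem coll_iff {u u' : V} (hu0 : u ≠ 0) (hu : Q u = 0) (hu'0 : u' ≠ 0) (hu' : Q u' = 0) :
    Coll (Qb Q u) (Qb Q u') ↔ QuadraticMap.polar Q u u' = 0 := by
  constructor
  · rintro ⟨x, hx1, hx, hx'⟩
    obtain ⟨w, hw, rfl⟩ := (mem_Qb_iff _).mp hx
    obtain ⟨w', hw', heq⟩ := (mem_Qb_iff _).mp hx'
    have h1 := sgT_eq_of_pr_eq hQ h5 p hw hw' heq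
    by_contra hne
    apply hx1
    have h2 : ap (sgT Q u w) u' = u' := by rw [h1]; exact ap_sgT_self u' w'
    rw [ap_sgT hu hw] at h2
    have h3 : w ∈ Submodule.span F {u} := by
      rw [Submodule.mem_span_singleton]
      refine ⟨(QuadraticMap.polar Q u' u)⁻¹ * (QuadraticMap.polar Q u' w
        - Q w * QuadraticMap.polar Q u' u), ?_⟩
      have hne' : QuadraticMap.polar Q u' u ≠ 0 := by rwa [QuadraticMap.polar_comm]
      have h4 : QuadraticMap.polar Q u' u • w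
          = (QuadraticMap.polar Q u' w - Q w * QuadraticMap.polar Q u' u) • u := by
        have : u' + QuadraticMap.polar Q u' w • u - QuadraticMap.polar Q u' u • w
            - (Q w * QuadraticMap.polar Q u' u) • u - u' = 0 := by rw [h2, sub_self]
        have e : QuadraticMap.polar Q u' u • w
            - (QuadraticMap.polar Q u' w - Q w * QuadraticMap.polar Q u' u) • u
            = -(u' + QuadraticMap.polar Q u' w • u - QuadraticMap.polar Q u' u • w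
            - (Q w * QuadraticMap.polar Q u' u) • u - u') := by module
        rw [← sub_eq_zero, e, this, neg_zero]
      rw [mul_smul, ← h4, smul_smul, inv_mul_cancel₀ hne', one_smul]
    rw [(sgT_eq_one_iff hQ hu0 hu hw).mpr h3, map_one]
  · intro h0
    by_cases hmem : u' ∈ Submodule.span F {u}
    · rw [Qb_eq_of_mem_span hu'0 hmem]
      obtain ⟨e, f, h1, -, -⟩ := exists_two_ts hQ h5 hu0 hu
      refine ⟨pr (sgT Q u e), ?_, ⟨_, sgT_mem_rootSub h1.ab, rfl⟩, ⟨_, sgT_mem_rootSub h1.ab, rfl⟩⟩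
      exact ((isRootElt_iff hQ h5 p _).mpr ⟨u, e, h1, rfl⟩).1
    · have hts : IsTS Q u u' := ⟨hu, hu', h0, by
        rw [LinearIndependent.pair_iff' hu0]
        intro a ha
        exact hmem (Submodule.mem_span_singleton.mpr ⟨a, ha⟩)⟩
      refine ⟨pr (sgT Q u u'), ((isRootElt_iff hQ h5 p _).mpr ⟨u, u', hts, rfl⟩).1,
        ⟨_, sgT_mem_rootSub h0, rfl⟩, ?_⟩
      rw [sgT_swap hts]
      exact ⟨_, sgT_mem_rootSub (by
        rw [QuadraticMap.polar_neg_right, hts.ba, neg_zero]), rfl⟩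

/-- **normalisation**: after composing with an inner automorphism, the point subgroups of a
hyperbolic pair are fixed. -/
theorem exists_normalize (hp : HP Q) (β : MulAut (PG Q))
    (hPP : ∀ u, u ≠ 0 → Q u = 0 → ∃ u', u' ≠ 0 ∧ Q u' = 0 ∧ β • Qb Q u = Qb Q u') :
    ∃ g₀ : ↥(SG Q), (MulAut.conj (pr g₀) * β) • Qb Q hp.e = Qb Q hp.e ∧
      (MulAut.conj (pr g₀) * β) • Qb Q hp.f = Qb Q hp.f := by
  obtain ⟨e₁, he₁0, he₁, hE⟩ := hPP hp.e hp.e_ne hp.he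
  obtain ⟨f₁, hf₁0, hf₁, hF⟩ := hPP hp.f hp.f_ne hp.hf
  have hne : QuadraticMap.polar Q e₁ f₁ ≠ 0 := by
    intro h0
    have h1 := (coll_iff hQ h5 p he₁0 he₁ hf₁0 hf₁).mpr h0
    rw [← hE, ← hF, coll_smul_iff, coll_iff hQ h5 p hp.e_ne hp.he hp.f_ne hp.hf, hp.hef] at h1
    exact one_ne_zero h1
  -- move `e₁` to `e`
  obtain ⟨g₁, hg₁, t, ht, hg₁e⟩ := exists_SGW_smul Q ⊤ (nondegOn_top Q hQ)
    (by rw [finrank_top]; omega) (Submodule.mem_top (x := e₁)) (Submodule.mem_top (x := hp.e))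
    he₁ hp.he he₁0 hp.e_ne
  have hg₁SG : g₁ ∈ SG Q := hg₁
  obtain ⟨G₁, hG₁⟩ : ∃ G₁ : ↥(SG Q), G₁ = ⟨g₁, hg₁SG⟩ := ⟨_, rfl⟩
  have hG₁e : ap G₁ e₁ = t • hp.e := by rw [hG₁]; exact hg₁e
  -- the image of `f₁`
  obtain ⟨f₂, hf₂def⟩ : ∃ f₂, f₂ = ap G₁ f₁ := ⟨_, rfl⟩
  have hf₂ : Q f₂ = 0 := by rw [hf₂def, Q_ap, hf₁]
  have hef₂ : QuadraticMap.polar Q hp.e f₂ ≠ 0 := by
    intro h0
    apply hne
    have h1 := polar_ap G₁ e₁ f₁
    rw [hG₁e, ← hf₂def, QuadraticMap.polar_smul_left, h0, smul_zero] at h1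
    exact h1.symm
  obtain ⟨κ, hκ⟩ : ∃ κ, κ = QuadraticMap.polar Q hp.e f₂ := ⟨_, rfl⟩
  have hκ0 : κ ≠ 0 := by rw [hκ]; exact hef₂
  have hf₃ : Q (κ⁻¹ • f₂) = 0 := by rw [QuadraticMap.map_smul, hf₂, smul_zero]
  have hef₃ : QuadraticMap.polar Q hp.e (κ⁻¹ • f₂) = 1 := by
    rw [QuadraticMap.polar_smul_right, ← hκ, smul_eq_mul, inv_mul_cancel₀ hκ0]
  obtain ⟨h1, h2⟩ := sieg_move Q hp.he (hf₃.trans hp.hf.symm) hef₃ hp.hef
  obtain ⟨G₂, hG₂⟩ : ∃ G₂ : ↥(SG Q), G₂ = sgT Q hp.e (κ⁻¹ • f₂ - hp.f) := ⟨_, rfl⟩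
  have hG₂f : ap G₂ (κ⁻¹ • f₂) = hp.f := by rw [hG₂]; exact h2
  have hG₂e : ap G₂ hp.e = hp.e := by rw [hG₂]; exact ap_sgT_self _ _
  refine ⟨G₂ * G₁, ?_, ?_⟩
  · rw [mul_smul, hE, conj_smul_Qb, ap_mul, hG₁e, map_smul, hG₂e, Qb_smul ht]
  · rw [mul_smul, hF, conj_smul_Qb, ap_mul, ← hf₂def]
    have h3 : ap G₂ f₂ = κ • hp.f := by
      rw [← hG₂f, map_smul, smul_smul, mul_inv_cancel₀ hκ0, one_smul]
    rw [h3, Qb_smul hκ0]

end Fin

end Cfsg.Agent.Helper8.AutO
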