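import Mathlib
import Cfsg.Agent.Helper8.AutOm

set_option autoImplicit false

/-!
# Automorphisms of orthogonal groups, part n: an additive bijection of a quadratic space which
preserves singular vectors, singular points and is compatible with long root elements is a
semilinear similarity
-/

namespace Cfsg.Agent.Helper8.AutO

open Module Cfsg.Agent.Helper8.QuadForm Cfsg.Agent.Helper8.WittQuad Cfsg.Agent.Helper8.OrthOrder
  Cfsg.Agent.Helper8.Siegel Cfsg.Agent.Helper8.SiegelGeom Cfsg.Agent.Helper8.SiegelGroup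
  Cfsg.Agent.Helper8.SiegelPrim Cfsg.Agent.Helper8.SiegelSimple

variable {F : Type*} [Field F] {V : Type*} [AddCommGroup V] [Module F V] {Q : QuadraticForm F V}

/-- two singular points have a common neighbour. -/
theorem exists_common_ts [Finite F] [FiniteDimensional F V] (hQ : Nondeg Q)
    (h5 : 5 ≤ finrank F V) {a b : V} (ha0 : a ≠ 0) (ha : Q a = 0) (hb0 : b ≠ 0) (hb : Q b = 0) :
    ∃ c, IsTS Q a c ∧ IsTS Q b c := by
  by_cases hmem : b ∈ Submodule.span F {a}
  · obtain ⟨t, rfl⟩ := Submodule.mem_span_singleton.mp hmem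
    have ht : t ≠ 0 := by
      rintro rfl
      exact hb0 (zero_smul _ _)
    obtain ⟨e, f, h1, -, -⟩ := exists_two_ts hQ h5 ha0 ha
    exact ⟨e, h1, (h1.symm.smul_right ht).symm⟩
  by_cases h0 : QuadraticMap.polar Q a b = 0
  · have h : IsTS Q a b := ⟨ha, hb, h0, by
      rw [LinearIndependent.pair_iff' ha0]
      intro s hs
      exact hmem (Submodule.mem_span_singleton.mpr ⟨s, hs⟩)⟩
    have hq : Q (a + b) = 0 := by
      have := h.Q_comb 1 1
      rwa [one_smul, one_smul] at this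
    refine ⟨a + b, ⟨ha, hq, ?_, ?_⟩, ⟨hb, hq, ?_, ?_⟩⟩
    · rw [QuadraticMap.polar_add_right, h.aa, h.ab, add_zero]
    · rw [LinearIndependent.pair_iff]
      intro s t hst
      have := h.eq_zero_of_comb (s := s + t) (t := t) (by rw [← hst]; module)
      have h2 := this.2
      have h1 := this.1
      rw [h2, add_zero] at h1
      exact ⟨h1, h2⟩
    · rw [QuadraticMap.polar_add_right, h.ba, h.bb, add_zero]
    · rw [LinearIndependent.pair_iff]
      intro s t hst
      have := h.eq_zero_of_comb (s := t) (t := s + t) (by rw [← hst]; module)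
      have h2 := this.1
      have h1 := this.2
      rw [h2, add_zero] at h1
      exact ⟨h1, h2⟩
  · obtain ⟨κ, hκ⟩ : ∃ κ, κ = QuadraticMap.polar Q a b := ⟨_, rfl⟩
    have hκ0 : κ ≠ 0 := by rw [hκ]; exact h0
    let hp : HP Q := ⟨a, κ⁻¹ • b, ha, by rw [QuadraticMap.map_smul, hb, smul_zero], by
      rw [QuadraticMap.polar_smul_right, ← hκ, smul_eq_mul, inv_mul_cancel₀ hκ0]⟩
    have hdim := hp.finrank_W
    obtain ⟨⟨c, hcW⟩, hc0, hc⟩ := exists_singular (Q.comp hp.W.subtype) (by omega)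
    have hc0' : c ≠ 0 := fun h => hc0 (Subtype.ext h)
    have hcQ : Q c = 0 := hc
    have h1 := hp.mem_W.mp hcW
    have hbc : QuadraticMap.polar Q b c = 0 := by
      have h2 : QuadraticMap.polar Q (κ⁻¹ • b) c = 0 := h1.2
      rw [QuadraticMap.polar_smul_left, smul_eq_mul] at h2
      rcases mul_eq_zero.mp h2 with h3 | h3
      · exact absurd h3 (inv_ne_zero hκ0)
      · exact h3
    refine ⟨c, ⟨ha, hcQ, h1.1, hp.li_e_w hcW hc0'⟩, ⟨hb, hcQ, hbc, ?_⟩⟩
    have hli := hp.swap.li_e_w (by rw [hp.swap_W]; exact hcW) hc0'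
    rw [LinearIndependent.pair_iff] at hli ⊢
    intro s t hst
    have h2 := hli (s * κ) t (by
      show (s * κ) • (κ⁻¹ • b) + t • c = 0
      rw [smul_smul, mul_assoc, mul_inv_cancel₀ hκ0, mul_one]; exact hst)
    refine ⟨?_, h2.2⟩
    rcases mul_eq_zero.mp h2.1 with h3 | h3
    · exact h3
    · exact absurd h3 hκ0

/-- the whole space is spanned by its singular vectors. -/
theorem top_le_span_singular [Finite F] [FiniteDimensional F V] (hQ : Nondeg Q)
    (h3 : 3 ≤ finrank F V) (x : V) : x ∈ Submodule.span F {c : V | Q c = 0} := by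
  obtain ⟨u, hu0, hu⟩ := exists_singular Q h3
  obtain ⟨f, hf, huf⟩ := exists_hyperbolic_pair Q hQ hu0 hu
  have := mem_span_singular Q ⊤ (Submodule.mem_top (x := u)) (Submodule.mem_top (x := f)) hu hf huf
    (Submodule.mem_top (x := x))
  refine Submodule.span_mono ?_ this
  rintro c ⟨-, hc⟩
  exact hc

/-- the hypotheses on the induced map. -/
structure LinData (Q : QuadraticForm F V) (φ : V → V) : Prop where
  add : ∀ x y, φ (x + y) = φ x + φ y
  inj : Function.Injective φ
  sing : ∀ w, Q (φ w) = 0 ↔ Q w = 0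
  line : ∀ a, Q a = 0 → ∀ t : F, ∃ t' : F, φ (t • a) = t' • φ a
  root : ∀ a b, IsTS Q a b → ∃ a' b', IsTS Q a' b' ∧
    ∀ w, φ (wedge Q a b w) = wedge Q a' b' (φ w)

namespace LinData

variable {φ : V → V} (hφ : LinData Q φ)

include hφ

theorem map_zero : φ 0 = 0 := by
  have := hφ.add 0 0
  rw [add_zero] at this
  exact left_eq_add.mp this

theorem map_neg (x : V) : φ (-x) = -φ x := by
  have := hφ.add x (-x)
  rw [add_neg_cancel, hφ.map_zero] at this
  exact (neg_eq_of_add_eq_zero_right this.symm).symm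

theorem map_sub (x y : V) : φ (x - y) = φ x - φ y := by
  rw [sub_eq_add_neg, hφ.add, hφ.map_neg, sub_eq_add_neg]

theorem ne_zero {a : V} (ha : a ≠ 0) : φ a ≠ 0 := fun h =>
  ha (hφ.inj (h.trans hφ.map_zero.symm))

end LinData

/-- **an additive bijection compatible with the long root elements is a semilinear similarity.** -/
theorem LinData.exists_semilinear [Fintype F] [FiniteDimensional F V] (hQ : Nondeg Q)
    (h5 : 5 ≤ finrank F V) {φ : V → V} (hφ : LinData Q φ) :
    ∃ (σ : F ≃+* F) (lam : F), lam ≠ 0 ∧ (∀ (t : F) (w : V), φ (t • w) = σ t • φ w) ∧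
      ∀ w, Q (φ w) = lam * σ (Q w) := by
  classical
  choose τ hτ using hφ.line
  -- uniqueness of the scalar
  have huniq : ∀ a (ha : Q a = 0), a ≠ 0 → ∀ t c, φ (t • a) = c • φ a → c = τ a ha t := by
    intro a ha ha0 t c hc
    have h1 : (c - τ a ha t) • φ a = 0 := by rw [sub_smul, ← hc, ← hτ a ha t, sub_self]
    rcases smul_eq_zero.mp h1 with h2 | h2
    · exact sub_eq_zero.mp h2
    · exact absurd h2 (hφ.ne_zero ha0)
  have hτinj : ∀ a (ha : Q a = 0), a ≠ 0 → Function.Injective (τ a ha) := by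
    intro a ha ha0 t t' htt'
    have h1 : φ (t • a) = φ (t' • a) := by rw [hτ a ha, hτ a ha, htt']
    have h2 := hφ.inj h1
    have h3 : (t - t') • a = 0 := by rw [sub_smul, h2, sub_self]
    rcases smul_eq_zero.mp h3 with h4 | h4
    · exact sub_eq_zero.mp h4
    · exact absurd h4 ha0
  have hτsurj : ∀ a (ha : Q a = 0), a ≠ 0 → Function.Surjective (τ a ha) := fun a ha ha0 =>
    Finite.surjective_of_injective (hτinj a ha ha0)
  -- independence of the images of a totally singular pair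
  have hli : ∀ a b, IsTS Q a b → ∀ s s' : F, s • φ a + s' • φ b = 0 → s = 0 ∧ s' = 0 := by
    intro a b h s s' hss'
    obtain ⟨t, rfl⟩ := hτsurj a h.qa h.a_ne s
    obtain ⟨t', rfl⟩ := hτsurj b h.qb h.b_ne s'
    rw [← hτ, ← hτ, ← hφ.add] at hss'
    have h1 := hφ.inj (hss'.trans hφ.map_zero.symm)
    obtain ⟨h2, h3⟩ := h.eq_zero_of_comb h1
    rw [h2, h3]
    constructor
    · symm; apply huniq a h.qa h.a_ne; rw [zero_smul, zero_smul, hφ.map_zero]
    · symm; apply huniq b h.qb h.b_ne; rw [zero_smul, zero_smul, hφ.map_zero]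
  -- neighbours have the same scalar map
  have hnb : ∀ a b (h : IsTS Q a b) t, τ a h.qa t = τ b h.qb t := by
    intro a b h t
    have hq : Q (a + b) = 0 := by
      have := h.Q_comb 1 1
      rwa [one_smul, one_smul] at this
    have h1 := hτ (a + b) hq t
    rw [smul_add, hφ.add, hφ.add, hτ a h.qa, hτ b h.qb] at h1
    have h2 := hli a b h (τ a h.qa t - τ (a + b) hq t) (τ b h.qb t - τ (a + b) hq t) (by
      rw [sub_smul, sub_smul]
      have : τ a h.qa t • φ a - τ (a + b) hq t • φ a + (τ b h.qb t • φ b - τ (a + b) hq t • φ b)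
          = (τ a h.qa t • φ a + τ b h.qb t • φ b) - τ (a + b) hq t • (φ a + φ b) := by module
      rw [this, h1, sub_self])
    rw [sub_eq_zero.mp h2.1, sub_eq_zero.mp h2.2]
  obtain ⟨a₀, ha₀0, ha₀⟩ := exists_singular Q (show 3 ≤ finrank F V by omega)
  obtain ⟨σ₀, hσ₀⟩ : ∃ σ₀ : F → F, σ₀ = τ a₀ ha₀ := ⟨_, rfl⟩
  have hall : ∀ a, Q a = 0 → ∀ t, φ (t • a) = σ₀ t • φ a := by
    intro a ha t
    by_cases ha0 : a = 0
    · rw [ha0, smul_zero, hφ.map_zero, smul_zero]
    obtain ⟨c, h1, h2⟩ := exists_common_ts hQ h5 ha₀0 ha₀ ha0 ha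
    rw [hτ a ha, hσ₀, hnb a₀ c h1, ← hnb a c h2]
  have hσ₀add : ∀ s t, σ₀ (s + t) = σ₀ s + σ₀ t := by
    intro s t
    rw [hσ₀]
    symm
    apply huniq a₀ ha₀ ha₀0
    rw [add_smul, hφ.add, hτ a₀ ha₀, hτ a₀ ha₀, add_smul]
  have hσ₀one : σ₀ 1 = 1 := by
    rw [hσ₀]
    symm
    apply huniq a₀ ha₀ ha₀0
    rw [one_smul, one_smul]
  have hσ₀mul : ∀ s t, σ₀ (s * t) = σ₀ s * σ₀ t := by
    intro s t
    rw [hσ₀]
    symm
    apply huniq a₀ ha₀ ha₀0
    rw [mul_smul, hall (t • a₀) (by rw [QuadraticMap.map_smul, ha₀, smul_zero]), hall a₀ ha₀,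
      smul_smul, hσ₀]
  have hσ₀zero : σ₀ 0 = 0 := by
    have := hσ₀add 0 0
    rw [add_zero] at this
    exact left_eq_add.mp this
  have hσ₀inj : Function.Injective σ₀ := by rw [hσ₀]; exact hτinj a₀ ha₀ ha₀0
  let σh : F →+* F :=
    { toFun := σ₀, map_one' := hσ₀one, map_mul' := hσ₀mul, map_zero' := hσ₀zero,
      map_add' := hσ₀add }
  let σ : F ≃+* F := RingEquiv.ofBijective σh ⟨hσ₀inj, Finite.surjective_of_injective hσ₀inj⟩
  have hσ : ∀ t, σ t = σ₀ t := fun t => rfl
  -- semilinearity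
  have hsemi : ∀ (t : F) (w : V), φ (t • w) = σ t • φ w := by
    intro t w
    have hw := top_le_span_singular hQ (show 3 ≤ finrank F V by omega) w
    induction hw using Submodule.span_induction generalizing t with
    | mem c hc => exact hall c hc t
    | zero => rw [smul_zero, hφ.map_zero, smul_zero]
    | add x y _ _ ihx ihy => rw [smul_add, hφ.add, ihx, ihy, hφ.add, smul_add]
    | smul s x _ ihx => rw [smul_smul, ihx, ihx, map_mul, mul_smul]
  -- the scaling factor attached to a singular vector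
  have hpair : ∀ a b, IsTS Q a b → ∃ μ : F, μ ≠ 0 ∧
      (∀ w, σ (QuadraticMap.polar Q w a) = μ * QuadraticMap.polar Q (φ w) (φ a)) ∧
      ∀ w, σ (QuadraticMap.polar Q w b) = μ * QuadraticMap.polar Q (φ w) (φ b) := by
    intro a b h
    obtain ⟨a', b', h', hw⟩ := hφ.root a b h
    obtain ⟨⟨x₁, hx₁⟩, ⟨x₂, hx₂⟩⟩ := h.exists_wedge_eq hQ
    have hmem : ∀ x, wedge Q a' b' x ∈ Submodule.span F {a', b'} := by
      intro x
      rw [wedge_apply]
      exact Submodule.sub_mem _ (Submodule.smul_mem _ _ (Submodule.subset_span (by simp)))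
        (Submodule.smul_mem _ _ (Submodule.subset_span (by simp)))
    have ha' : φ a ∈ Submodule.span F {a', b'} := by rw [← hx₁, hw]; exact hmem _
    have hb' : φ b ∈ Submodule.span F {a', b'} := by rw [← hx₂, hw]; exact hmem _
    have hts : IsTS Q (φ a) (φ b) := ⟨(hφ.sing a).mpr h.qa, (hφ.sing b).mpr h.qb,
      h'.polar_of_mem ha' hb', LinearIndependent.pair_iff.mpr (hli a b h)⟩
    obtain ⟨s, t, hst⟩ := Submodule.mem_span_pair.mp ha'
    obtain ⟨s', t', hst'⟩ := Submodule.mem_span_pair.mp hb'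
    have hcomb : ∀ x, wedge Q (φ a) (φ b) x = (s * t' - t * s') • wedge Q a' b' x := by
      intro x
      rw [← hst, ← hst', wedge_comb]
    have hd : s * t' - t * s' ≠ 0 := by
      intro hd
      obtain ⟨⟨y, hy⟩, -⟩ := hts.exists_wedge_eq hQ
      rw [hcomb, hd, zero_smul] at hy
      exact hφ.ne_zero h.a_ne hy.symm
    refine ⟨(s * t' - t * s')⁻¹, inv_ne_zero hd, ?_⟩
    have key : ∀ w, (σ (QuadraticMap.polar Q w b)
          - (s * t' - t * s')⁻¹ * QuadraticMap.polar Q (φ w) (φ b)) • φ a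
        + (-(σ (QuadraticMap.polar Q w a)
          - (s * t' - t * s')⁻¹ * QuadraticMap.polar Q (φ w) (φ a))) • φ b = 0 := by
      intro w
      have h1 := hw w
      have h2 : wedge Q a' b' (φ w) = (s * t' - t * s')⁻¹ • wedge Q (φ a) (φ b) (φ w) := by
        rw [hcomb, smul_smul, inv_mul_cancel₀ hd, one_smul]
      rw [h2, wedge_apply, wedge_apply, hφ.map_sub, hsemi, hsemi] at h1
      rw [← sub_eq_zero] at h1
      rw [← h1]
      module
    constructor
    · intro w
      have := (hli a b h _ _ (key w)).2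
      exact sub_eq_zero.mp (neg_eq_zero.mp this)
    · intro w
      exact sub_eq_zero.mp (hli a b h _ _ (key w)).1
  have hμuniq : ∀ b, b ≠ 0 → ∀ μ μ' : F,
      (∀ w, σ (QuadraticMap.polar Q w b) = μ * QuadraticMap.polar Q (φ w) (φ b)) →
      (∀ w, σ (QuadraticMap.polar Q w b) = μ' * QuadraticMap.polar Q (φ w) (φ b)) → μ = μ' := by
    intro b hb0 μ μ' h1 h2
    obtain ⟨x, hx⟩ := exists_pair_one Q hQ hb0
    have h3 := h1 x
    have h4 := h2 x
    rw [QuadraticMap.polar_comm Q x b, hx, map_one] at h3 h4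
    have hne : QuadraticMap.polar Q (φ x) (φ b) ≠ 0 := by
      intro h0
      rw [h0, mul_zero] at h3
      exact one_ne_zero h3
    exact mul_right_cancel₀ hne (h3.symm.trans h4)
  obtain ⟨c₀, -, hc₀, -, -⟩ := exists_two_ts hQ h5 ha₀0 ha₀
  obtain ⟨μ₀, hμ₀0, hμ₀, -⟩ := hpair a₀ c₀ hc₀
  have hμall : ∀ b, Q b = 0 → ∀ w,
      σ (QuadraticMap.polar Q w b) = μ₀ * QuadraticMap.polar Q (φ w) (φ b) := by
    intro b hb w
    by_cases hb0 : b = 0
    · rw [hb0, hφ.map_zero, QuadraticMap.polar_zero_right, QuadraticMap.polar_zero_right, _root_.map_zero,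
        mul_zero]
    obtain ⟨c, h1, h2⟩ := exists_common_ts hQ h5 ha₀0 ha₀ hb0 hb
    obtain ⟨μ₁, -, h3, h4⟩ := hpair a₀ c h1
    obtain ⟨μ₂, -, h5', h6⟩ := hpair b c h2
    have e1 : μ₁ = μ₀ := hμuniq a₀ ha₀0 _ _ h3 hμ₀
    have e2 : μ₂ = μ₁ := hμuniq c h1.b_ne _ _ h6 h4
    rw [← e1, ← e2]
    exact h5' w
  refine ⟨σ, μ₀⁻¹, inv_ne_zero hμ₀0, hsemi, ?_⟩
  -- the polar form
  have hpol : ∀ w b, QuadraticMap.polar Q (φ w) (φ b) = μ₀⁻¹ * σ (QuadraticMap.polar Q w b) := by
    intro w b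
    have hb := top_le_span_singular hQ (show 3 ≤ finrank F V by omega) b
    induction hb using Submodule.span_induction with
    | mem c hc => rw [hμall c hc w, ← mul_assoc, inv_mul_cancel₀ hμ₀0, one_mul]
    | zero =>
      rw [hφ.map_zero, QuadraticMap.polar_zero_right, QuadraticMap.polar_zero_right, _root_.map_zero,
        mul_zero]
    | add x y _ _ ihx ihy =>
      rw [hφ.add, QuadraticMap.polar_add_right, ihx, ihy, QuadraticMap.polar_add_right, map_add,
        mul_add]
    | smul s x _ ihx =>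
      rw [hsemi, QuadraticMap.polar_smul_right, ihx, QuadraticMap.polar_smul_right, smul_eq_mul,
        smul_eq_mul, map_mul]
      ring
  intro w
  have hw := top_le_span_singular hQ (show 3 ≤ finrank F V by omega) w
  induction hw using Submodule.span_induction with
  | mem c hc =>
    have hc' : Q c = 0 := hc
    rw [(hφ.sing c).mpr hc', hc', _root_.map_zero, mul_zero]
  | zero => rw [hφ.map_zero, QuadraticMap.map_zero, _root_.map_zero, mul_zero]
  | add x y _ _ ihx ihy =>
    rw [hφ.add, QuadraticMap.map_add Q, ihx, ihy, hpol, QuadraticMap.map_add Q, map_add, map_add]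
    ring
  | smul s x _ ihx =>
    rw [hsemi, QuadraticMap.map_smul, ihx, QuadraticMap.map_smul, smul_eq_mul, smul_eq_mul, map_mul,
      map_mul]
    ring

end Cfsg.Agent.Helper8.AutO
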