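import Mathlib
import Cfsg.Agent.Helper8.AutOn

set_option autoImplicit false

/-!
# Automorphisms of orthogonal groups, part o: the map induced on the complement of a hyperbolic
pair by an automorphism normalising the point subgroup
-/

namespace Cfsg.Agent.Helper8.AutO

open Module Cfsg.Agent.Helper8.QuadForm Cfsg.Agent.Helper8.WittQuad Cfsg.Agent.Helper8.OrthOrder
  Cfsg.Agent.Helper8.Siegel Cfsg.Agent.Helper8.SiegelGeom Cfsg.Agent.Helper8.SiegelGroup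
  Cfsg.Agent.Helper8.SiegelPrim Cfsg.Agent.Helper8.SiegelSimple

open scoped Pointwise

variable {F : Type*} [Field F] {V : Type*} [AddCommGroup V] [Module F V] {Q : QuadraticForm F V}

/-- conjugation and automorphisms. -/
theorem smul_conj_smul {G : Type*} [Group G] (β : MulAut G) (y : G) (P : Subgroup G) :
    MulAut.conj (β y) • (β • P) = β • (MulAut.conj y • P) := by
  have h : MulAut.conj (β y) * β = β * MulAut.conj y := by
    ext x
    simp [MulAut.conj_apply]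
  rw [← mul_smul, h, mul_smul]

theorem wedge_wedge {a b : V} (h : IsTS Q a b) (x : V) : wedge Q a b (wedge Q a b x) = 0 := by
  rw [wedge_apply, wedge_apply]
  simp only [QuadraticMap.polar_sub_left, QuadraticMap.polar_smul_left, h.aa, h.bb, h.ab, h.ba]
  simp

/-- a long root element mapping a vector to a multiple fixes it, and its line is orthogonal to
the vector. -/
theorem IsTS.perp_of_fix_line {a b u : V} (h : IsTS Q a b) (hu0 : u ≠ 0) {t : F}
    (hfix : AutO.ap (sgT Q a b) u = t • u) :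
    QuadraticMap.polar Q u a = 0 ∧ QuadraticMap.polar Q u b = 0 := by
  rw [ap_sgT_ts h] at hfix
  have h1 : wedge Q a b u = (t - 1) • u := by
    rw [sub_smul, one_smul, ← hfix]; abel
  have h2 := wedge_wedge h u
  rw [h1, map_smul, h1, smul_smul] at h2
  have ht : t - 1 = 0 := by
    rcases smul_eq_zero.mp h2 with h3 | h3
    · exact mul_self_eq_zero.mp h3
    · exact absurd h3 hu0
  rw [ht, zero_smul, wedge_apply] at h1
  have := h.eq_zero_of_comb (s := QuadraticMap.polar Q u b) (t := -QuadraticMap.polar Q u a) (by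
    rw [← h1]; module)
  exact ⟨neg_eq_zero.mp this.2, this.1⟩

theorem smul_inv_eq {G : Type*} [Group G] {β : MulAut G} {P : Subgroup G} (h : β • P = P) :
    β⁻¹ • P = P := by
  conv_lhs => rw [← h]
  rw [inv_smul_smul]

namespace HP

variable (hp : HP Q)

/-- the relation induced on the complement by an automorphism. -/
def Rel (β : MulAut (PG Q)) (w w' : V) : Prop :=
  w' ∈ hp.W ∧ β (pr (sgT Q hp.e w)) = pr (sgT Q hp.e w')

/-- the map induced on the complement by an automorphism. -/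
noncomputable def phi (β : MulAut (PG Q)) (w : V) : V := by
  classical
  exact if h : ∃ w', hp.Rel β w w' then Classical.choose h else 0

theorem sgT_pw {w : V} (hw : QuadraticMap.polar Q hp.e w = 0) :
    sgT Q hp.e w = sgT Q hp.e (hp.pw w) := by
  have e1 := hp.dec w
  rw [hw, zero_smul, add_zero] at e1
  conv_lhs => rw [e1, add_comm]
  rw [sgT_add_smul hp.he (hp.mem_W.mp (hp.pw_mem w)).1]

theorem eq_zero_of_mem_span_e {w : V} (hw : w ∈ hp.W) (h : w ∈ Submodule.span F {hp.e}) :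
    w = 0 := by
  obtain ⟨c, rfl⟩ := Submodule.mem_span_singleton.mp h
  have := (hp.mem_W.mp hw).2
  rw [QuadraticMap.polar_smul_right, hp.hfe, smul_eq_mul, mul_one] at this
  rw [this, zero_smul]

theorem rel_total {β : MulAut (PG Q)} (hE : β • Qb Q hp.e = Qb Q hp.e) (w : V)
    (hw : QuadraticMap.polar Q hp.e w = 0) : ∃ w', hp.Rel β w w' := by
  have h1 : β (pr (sgT Q hp.e w)) ∈ Qb Q hp.e := by
    rw [← hE]
    exact (mem_smul_iff β _ _).mpr ⟨_, sgT_mem_rootSub hw, rfl⟩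
  obtain ⟨w'', hw'', heq⟩ := (mem_Qb_iff _).mp h1
  exact ⟨hp.pw w'', hp.pw_mem _, by rw [heq, hp.sgT_pw hw'']⟩

section Fin

variable [Fintype F] [FiniteDimensional F V] (hQ : Nondeg Q) (h5 : 5 ≤ finrank F V)
  (p : ℕ) [Fact p.Prime] [CharP F p]

include hQ h5 p

theorem eq_of_pr_sgT_eq {w₁ w₂ : V} (hw₁ : w₁ ∈ hp.W) (hw₂ : w₂ ∈ hp.W)
    (h : pr (sgT Q hp.e w₁) = pr (sgT Q hp.e w₂)) : w₁ = w₂ := by
  have h1 := sgT_eq_of_pr_eq hQ h5 p (hp.mem_W.mp hw₁).1 (hp.mem_W.mp hw₂).1 h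
  have h2 := (sgT_eq_iff hQ hp.e_ne hp.he (hp.mem_W.mp hw₁).1 (hp.mem_W.mp hw₂).1).mp h1
  exact sub_eq_zero.mp (hp.eq_zero_of_mem_span_e (hp.W.sub_mem hw₁ hw₂) h2)

theorem rel_unique {β : MulAut (PG Q)} {w w₁ w₂ : V} (h₁ : hp.Rel β w w₁) (h₂ : hp.Rel β w w₂) :
    w₁ = w₂ :=
  hp.eq_of_pr_sgT_eq hQ h5 p h₁.1 h₂.1 (h₁.2.symm.trans h₂.2)

theorem phi_eq {β : MulAut (PG Q)} {w w' : V} (h : hp.Rel β w w') : hp.phi β w = w' := by
  have hex : ∃ w', hp.Rel β w w' := ⟨w', h⟩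
  unfold phi
  rw [dif_pos hex]
  exact hp.rel_unique hQ h5 p (Classical.choose_spec hex) h

omit [Fintype F] [FiniteDimensional F V] hQ h5 p in
theorem phi_spec {β : MulAut (PG Q)} (hE : β • Qb Q hp.e = Qb Q hp.e) {w : V}
    (hw : QuadraticMap.polar Q hp.e w = 0) : hp.Rel β w (hp.phi β w) := by
  have hex := hp.rel_total hE w hw
  unfold phi
  rw [dif_pos hex]
  exact Classical.choose_spec hex

omit [Fintype F] [FiniteDimensional F V] hQ h5 p in
theorem phi_mem {β : MulAut (PG Q)} (hE : β • Qb Q hp.e = Qb Q hp.e) {w : V}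
    (hw : QuadraticMap.polar Q hp.e w = 0) : hp.phi β w ∈ hp.W := (hp.phi_spec hE hw).1

theorem phi_add {β : MulAut (PG Q)} (hE : β • Qb Q hp.e = Qb Q hp.e) {w w' : V}
    (hw : QuadraticMap.polar Q hp.e w = 0) (hw' : QuadraticMap.polar Q hp.e w' = 0) :
    hp.phi β (w + w') = hp.phi β w + hp.phi β w' := by
  apply hp.phi_eq hQ h5 p
  have h1 := hp.phi_spec hE hw
  have h2 := hp.phi_spec hE hw'
  refine ⟨hp.W.add_mem h1.1 h2.1, ?_⟩
  rw [← sgT_mul hw hw', map_mul, map_mul, h1.2, h2.2, ← map_mul,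
    sgT_mul (hp.mem_W.mp h1.1).1 (hp.mem_W.mp h2.1).1]

theorem phi_inv_phi {β : MulAut (PG Q)} (hE : β • Qb Q hp.e = Qb Q hp.e) {w : V}
    (hw : w ∈ hp.W) : hp.phi β⁻¹ (hp.phi β w) = w := by
  apply hp.phi_eq hQ h5 p
  have h1 := hp.phi_spec hE (hp.mem_W.mp hw).1
  refine ⟨hw, ?_⟩
  rw [← h1.2, MulAut.inv_apply_self]

/-- root elements of the point subgroup. -/
theorem isRootElt_sgT_iff {w : V} (hw : w ∈ hp.W) :
    IsRootElt (pr (sgT Q hp.e w)) ↔ w ≠ 0 ∧ Q w = 0 := by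
  have hew := (hp.mem_W.mp hw).1
  constructor
  · intro h
    have hw0 : w ≠ 0 := by
      rintro rfl
      exact h.1 (by rw [sgT_zero, map_one])
    refine ⟨hw0, ?_⟩
    obtain ⟨a, b, hab, heq⟩ := (isRootElt_iff hQ h5 p _).mp h
    by_contra hne
    exact not_root_of_A hp.he hew hne hQ hp.e_ne hab (sgT_eq_of_pr_eq hQ h5 p hew hab.ab heq)
  · rintro ⟨hw0, hwQ⟩
    exact (isRootElt_iff hQ h5 p _).mpr ⟨hp.e, w, ⟨hp.he, hwQ, hew, hp.li_e_w hw hw0⟩, rfl⟩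

theorem phi_zero {β : MulAut (PG Q)} : hp.phi β 0 = 0 := by
  apply hp.phi_eq hQ h5 p
  exact ⟨hp.W.zero_mem, by rw [sgT_zero, map_one, map_one]⟩

theorem phi_eq_zero_iff {β : MulAut (PG Q)} (hE : β • Qb Q hp.e = Qb Q hp.e) {w : V}
    (hw : w ∈ hp.W) : hp.phi β w = 0 ↔ w = 0 := by
  constructor
  · intro h
    have := hp.phi_inv_phi hQ h5 p hE hw
    rw [h, hp.phi_zero hQ h5 p] at this
    exact this.symm
  · rintro rfl
    exact hp.phi_zero hQ h5 p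

theorem phi_sing {β : MulAut (PG Q)} (hβ : RootPres β) (hE : β • Qb Q hp.e = Qb Q hp.e) {w : V}
    (hw : w ∈ hp.W) : Q (hp.phi β w) = 0 ↔ Q w = 0 := by
  have hew := (hp.mem_W.mp hw).1
  have h1 := hp.phi_spec hE hew
  by_cases hw0 : w = 0
  · rw [hw0, hp.phi_zero hQ h5 p]
  have hw0' : hp.phi β w ≠ 0 := fun h => hw0 ((hp.phi_eq_zero_iff hQ h5 p hE hw).mp h)
  have h2 := hβ.isRootElt_iff (pr (sgT Q hp.e w))
  rw [h1.2, hp.isRootElt_sgT_iff hQ h5 p h1.1, hp.isRootElt_sgT_iff hQ h5 p hw] at h2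
  constructor
  · intro h
    exact (h2.mp ⟨hw0', h⟩).2
  · intro h
    exact (h2.mpr ⟨hw0, h⟩).2

/-- the image of the root subgroup along a singular vector of the complement. -/
theorem smul_Xb_e {β : MulAut (PG Q)} (hβ : RootPres β) (hE : β • Qb Q hp.e = Qb Q hp.e) {a : V}
    (ha : a ∈ hp.W) (ha0 : a ≠ 0) (haQ : Q a = 0) :
    β • Xb Q hp.e a = Xb Q hp.e (hp.phi β a) := by
  have hea := (hp.mem_W.mp ha).1
  have hts : IsTS Q hp.e a := ⟨hp.he, haQ, hea, hp.li_e_w ha ha0⟩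
  have h1 := hp.phi_spec hE hea
  have hφ0 : hp.phi β a ≠ 0 := fun h => ha0 ((hp.phi_eq_zero_iff hQ h5 p hE ha).mp h)
  have hts' : IsTS Q hp.e (hp.phi β a) := ⟨hp.he, (hp.phi_sing hQ h5 p hβ hE ha).mpr haQ,
    (hp.mem_W.mp h1.1).1, hp.li_e_w h1.1 hφ0⟩
  obtain ⟨c, d, hcd, hR⟩ := hβ.1 _ ⟨hp.e, a, hts, rfl⟩
  have h2 : pr (sgT Q hp.e (hp.phi β a)) ∈ Xb Q c d := by
    rw [← hR, ← h1.2]
    exact (mem_smul_iff β _ _).mpr ⟨_, by simpa using sgT_mem_X (Q := Q) hp.e a 1, rfl⟩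
  obtain ⟨s, hs⟩ := (mem_Xb_iff hcd _).mp h2
  have h3 := sgT_eq_of_pr_eq hQ h5 p hts'.ab (by
    rw [QuadraticMap.polar_smul_right, hcd.ab, smul_zero]) hs
  have hs0 : s ≠ 0 := by
    rintro rfl
    rw [zero_smul, sgT_zero] at h3
    have := (sgT_eq_one_iff hQ hp.e_ne hp.he hts'.ab).mp h3
    exact hφ0 (hp.eq_zero_of_mem_span_e h1.1 this)
  have h4 := span_eq_of_sgT_eq hQ hts' (hcd.smul_right hs0) h3
  rw [span_smul_right hs0] at h4
  rw [hR]
  unfold Xb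
  rw [X_eq_of_span hcd hts' h4]

theorem phi_line {β : MulAut (PG Q)} (hβ : RootPres β) (hE : β • Qb Q hp.e = Qb Q hp.e) {a : V}
    (ha : a ∈ hp.W) (haQ : Q a = 0) (t : F) : ∃ t' : F, hp.phi β (t • a) = t' • hp.phi β a := by
  by_cases ha0 : a = 0
  · exact ⟨0, by rw [ha0, smul_zero, hp.phi_zero hQ h5 p, smul_zero]⟩
  have hea := (hp.mem_W.mp ha).1
  have hts : IsTS Q hp.e a := ⟨hp.he, haQ, hea, hp.li_e_w ha ha0⟩
  have heta : QuadraticMap.polar Q hp.e (t • a) = 0 := by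
    rw [QuadraticMap.polar_smul_right, hea, smul_zero]
  have h1 := hp.phi_spec hE heta
  have h0 := hp.phi_spec hE hea
  have hφ0 : hp.phi β a ≠ 0 := fun h => ha0 ((hp.phi_eq_zero_iff hQ h5 p hE ha).mp h)
  have hts' : IsTS Q hp.e (hp.phi β a) := ⟨hp.he, (hp.phi_sing hQ h5 p hβ hE ha).mpr haQ,
    (hp.mem_W.mp h0.1).1, hp.li_e_w h0.1 hφ0⟩
  have h2 : pr (sgT Q hp.e (hp.phi β (t • a))) ∈ Xb Q hp.e (hp.phi β a) := by
    rw [← hp.smul_Xb_e hQ h5 p hβ hE ha ha0 haQ, ← h1.2]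
    exact (mem_smul_iff β _ _).mpr ⟨_, sgT_mem_X hp.e a t, rfl⟩
  obtain ⟨t', ht'⟩ := (mem_Xb_iff hts' _).mp h2
  exact ⟨t', hp.eq_of_pr_sgT_eq hQ h5 p h1.1 (hp.W.smul_mem _ h0.1) ht'⟩

/-- **the image of a root element of the Levi complement.** -/
theorem phi_root {β : MulAut (PG Q)} (hβ : RootPres β) (hE : β • Qb Q hp.e = Qb Q hp.e)
    (hF : β • Qb Q hp.f = Qb Q hp.f) {a b : V} (ha : a ∈ hp.W) (hb : b ∈ hp.W) (h : IsTS Q a b) :
    ∃ a' b', a' ∈ hp.W ∧ b' ∈ hp.W ∧ IsTS Q a' b' ∧ β (pr (sgT Q a b)) = pr (sgT Q a' b') ∧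
      ∀ w ∈ hp.W, hp.phi β (wedge Q a b w) = wedge Q a' b' (hp.phi β w) := by
  have hroot : IsRootElt (β (pr (sgT Q a b))) :=
    (hβ.isRootElt_iff _).mpr ((isRootElt_iff hQ h5 p _).mpr ⟨a, b, h, rfl⟩)
  obtain ⟨a', b', h', heq⟩ := (isRootElt_iff hQ h5 p _).mp hroot
  have ha' := hp.mem_W'.mp ha
  have hb' := hp.mem_W'.mp hb
  -- the image normalizes both point subgroups
  have hnorm : ∀ u, u ≠ 0 → Q u = 0 → QuadraticMap.polar Q u a = 0 → QuadraticMap.polar Q u b = 0 →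
      β • Qb Q u = Qb Q u →
      QuadraticMap.polar Q u a' = 0 ∧ QuadraticMap.polar Q u b' = 0 := by
    intro u hu0 hu hua hub hU
    have h1 : ap (sgT Q a b) u = u := ap_sgT_fix hua hub
    have h2 : MulAut.conj (pr (sgT Q a' b')) • Qb Q u = Qb Q u := by
      rw [← heq]
      conv_lhs => rw [← hU]
      rw [smul_conj_smul, conj_smul_Qb, h1, hU]
    rw [conj_smul_Qb] at h2
    have h3 := mem_span_of_Qb_le hQ h5 p hu0 hu (ap_ne_zero _ hu0) (by rw [Q_ap, hu])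
      (le_of_eq h2.symm)
    obtain ⟨t, ht⟩ := Submodule.mem_span_singleton.mp h3
    exact h'.perp_of_fix_line hu0 ht.symm
  obtain ⟨hea', heb'⟩ := hnorm hp.e hp.e_ne hp.he (by rw [QuadraticMap.polar_comm]; exact ha'.1)
    (by rw [QuadraticMap.polar_comm]; exact hb'.1) hE
  obtain ⟨hfa', hfb'⟩ := hnorm hp.f hp.f_ne hp.hf (by rw [QuadraticMap.polar_comm]; exact ha'.2)
    (by rw [QuadraticMap.polar_comm]; exact hb'.2) hF
  have ha'W : a' ∈ hp.W := hp.mem_W.mpr ⟨hea', hfa'⟩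
  have hb'W : b' ∈ hp.W := hp.mem_W.mpr ⟨heb', hfb'⟩
  refine ⟨a', b', ha'W, hb'W, h', heq, ?_⟩
  intro w hw
  have hew := (hp.mem_W.mp hw).1
  have hwedge : wedge Q a b w ∈ hp.W := by
    rw [wedge_apply]
    exact hp.W.sub_mem (hp.W.smul_mem _ ha) (hp.W.smul_mem _ hb)
  have hsum : QuadraticMap.polar Q hp.e (w + wedge Q a b w) = 0 := by
    rw [QuadraticMap.polar_add_right, hew, (hp.mem_W.mp hwedge).1, add_zero]
  have h1 := hp.phi_spec hE hew
  have h2 := hp.phi_spec hE hsum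
  -- conjugate
  have h3 : sgT Q a b * sgT Q hp.e w * (sgT Q a b)⁻¹ = sgT Q hp.e (w + wedge Q a b w) := by
    rw [sgT_conj, ap_sgT_fix (by rw [QuadraticMap.polar_comm]; exact ha'.1)
      (by rw [QuadraticMap.polar_comm]; exact hb'.1), ap_sgT_ts h]
  have h4 : sgT Q a' b' * sgT Q hp.e (hp.phi β w) * (sgT Q a' b')⁻¹
      = sgT Q hp.e (hp.phi β w + wedge Q a' b' (hp.phi β w)) := by
    rw [sgT_conj, ap_sgT_fix hea' heb', ap_sgT_ts h']
  have h5' : pr (sgT Q hp.e (hp.phi β (w + wedge Q a b w)))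
      = pr (sgT Q hp.e (hp.phi β w + wedge Q a' b' (hp.phi β w))) := by
    rw [← h2.2, ← h3, map_mul, map_mul, map_mul, map_mul, map_inv, map_inv, heq, h1.2, ← map_inv,
      ← map_mul, ← map_mul, h4]
  have hwedge' : wedge Q a' b' (hp.phi β w) ∈ hp.W := by
    rw [wedge_apply]
    exact hp.W.sub_mem (hp.W.smul_mem _ ha'W) (hp.W.smul_mem _ hb'W)
  have h6 := hp.eq_of_pr_sgT_eq hQ h5 p h2.1 (hp.W.add_mem h1.1 hwedge') h5'
  rw [hp.phi_add hQ h5 p hE hew (hp.mem_W.mp hwedge).1] at h6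
  exact add_left_cancel h6

end Fin

end HP

end Cfsg.Agent.Helper8.AutO
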