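import Mathlib
import Cfsg.Agent.Helper8.AutOo

set_option autoImplicit false

/-!
# Automorphisms of orthogonal groups, part p: the induced map is a semilinear similarity of the
complement, and its extension to the whole space
-/

namespace Cfsg.Agent.Helper8.AutO

open Module Cfsg.Agent.Helper8.QuadForm Cfsg.Agent.Helper8.WittQuad Cfsg.Agent.Helper8.OrthOrder
  Cfsg.Agent.Helper8.Siegel Cfsg.Agent.Helper8.SiegelGeom Cfsg.Agent.Helper8.SiegelGroup
  Cfsg.Agent.Helper8.SiegelPrim Cfsg.Agent.Helper8.SiegelSimple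

open scoped Pointwise

variable {F : Type*} [Field F] {V : Type*} [AddCommGroup V] [Module F V] {Q : QuadraticForm F V}

theorem isTS_comp_subtype_iff (W : Submodule F V) (a b : ↥W) :
    IsTS (Q.comp W.subtype) a b ↔ IsTS Q (a : V) (b : V) := by
  constructor
  · rintro ⟨qa, qb, ab, li⟩
    refine ⟨qa, qb, ab, ?_⟩
    rw [LinearIndependent.pair_iff] at li ⊢
    intro s t hst
    exact li s t (Subtype.ext hst)
  · rintro ⟨qa, qb, ab, li⟩
    refine ⟨qa, qb, ab, ?_⟩
    rw [LinearIndependent.pair_iff] at li ⊢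
    intro s t hst
    exact li s t (congrArg Subtype.val hst)

theorem coe_wedge_comp (W : Submodule F V) (a b w : ↥W) :
    ((wedge (Q.comp W.subtype) a b w : ↥W) : V) = wedge Q (a : V) (b : V) (w : V) := by
  rw [wedge_apply, wedge_apply]
  rfl

namespace HP

variable (hp : HP Q)

theorem pw_add (x y : V) : hp.pw (x + y) = hp.pw x + hp.pw y := by
  unfold pw
  rw [QuadraticMap.polar_add_right, QuadraticMap.polar_add_right]
  module

theorem pw_smul (c : F) (x : V) : hp.pw (c • x) = c • hp.pw x := by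
  unfold pw
  rw [QuadraticMap.polar_smul_right, QuadraticMap.polar_smul_right]
  simp only [smul_eq_mul]
  module

theorem pw_of_mem {w : V} (hw : w ∈ hp.W) : hp.pw w = w := by
  unfold pw
  rw [(hp.mem_W.mp hw).1, (hp.mem_W.mp hw).2]
  simp

theorem pw_e : hp.pw hp.e = 0 := by
  unfold pw
  rw [hp.hfe, hp.hee]
  simp

theorem pw_f : hp.pw hp.f = 0 := by
  unfold pw
  rw [hp.hff, hp.hef]
  simp

theorem Q_dec (α β : F) {w : V} (hw : w ∈ hp.W) :
    Q (α • hp.e + β • hp.f + w) = α * β + Q w := by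
  have h1 := hp.mem_W.mp hw
  rw [QuadraticMap.map_add Q, QuadraticMap.map_add Q, QuadraticMap.map_smul, QuadraticMap.map_smul,
    hp.he, hp.hf]
  simp only [QuadraticMap.polar_add_left, QuadraticMap.polar_smul_left,
    QuadraticMap.polar_smul_right, hp.hef, h1.1, h1.2]
  simp [mul_comm]

theorem Q_eq (x : V) :
    Q x = QuadraticMap.polar Q hp.f x * QuadraticMap.polar Q hp.e x + Q (hp.pw x) := by
  conv_lhs => rw [hp.dec x]
  exact hp.Q_dec _ _ (hp.pw_mem x)

section Fin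

variable [Fintype F] [FiniteDimensional F V] (hQ : Nondeg Q) (h7 : 7 ≤ finrank F V)
  (p : ℕ) [Fact p.Prime] [CharP F p]

include hQ h7 p

/-- **the induced map is a semilinear similarity of the complement.** -/
theorem exists_semilinear {β : MulAut (PG Q)} (hβ : RootPres β) (hE : β • Qb Q hp.e = Qb Q hp.e)
    (hF : β • Qb Q hp.f = Qb Q hp.f) :
    ∃ (σ : F ≃+* F) (lam : F), lam ≠ 0 ∧
      (∀ (t : F), ∀ w ∈ hp.W, hp.phi β (t • w) = σ t • hp.phi β w) ∧
      ∀ w ∈ hp.W, Q (hp.phi β w) = lam * σ (Q w) := by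
  have h5 : 5 ≤ finrank F V := by omega
  have hmem : ∀ w : ↥hp.W, hp.phi β (w : V) ∈ hp.W := fun w =>
    hp.phi_mem hE (hp.mem_W.mp w.2).1
  obtain ⟨φ', hφ'⟩ : ∃ φ' : ↥hp.W → ↥hp.W, φ' = fun w => ⟨hp.phi β (w : V), hmem w⟩ := ⟨_, rfl⟩
  have hφ'v : ∀ w : ↥hp.W, ((φ' w : ↥hp.W) : V) = hp.phi β (w : V) := by
    intro w; rw [hφ']
  have hdata : LinData (Q.comp hp.W.subtype) φ' := by
    refine ⟨?_, ?_, ?_, ?_, ?_⟩
    · intro x y
      apply Subtype.ext
      rw [Submodule.coe_add, hφ'v, hφ'v, hφ'v, Submodule.coe_add]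
      exact hp.phi_add hQ h5 p hE (hp.mem_W.mp x.2).1 (hp.mem_W.mp y.2).1
    · intro x y hxy
      have h1 := congrArg Subtype.val hxy
      rw [hφ'v, hφ'v] at h1
      have h2 := hp.phi_inv_phi hQ h5 p hE x.2
      rw [h1, hp.phi_inv_phi hQ h5 p hE y.2] at h2
      exact Subtype.ext h2.symm
    · intro w
      show Q ((φ' w : ↥hp.W) : V) = 0 ↔ Q (w : V) = 0
      rw [hφ'v]
      exact hp.phi_sing hQ h5 p hβ hE w.2
    · intro a ha t
      obtain ⟨t', ht'⟩ := hp.phi_line hQ h5 p hβ hE a.2 ha t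
      refine ⟨t', Subtype.ext ?_⟩
      rw [hφ'v, Submodule.coe_smul, ht', Submodule.coe_smul, hφ'v]
    · intro a b hab
      obtain ⟨a', b', ha', hb', h', -, hw⟩ := hp.phi_root hQ h5 p hβ hE hF a.2 b.2
        ((isTS_comp_subtype_iff hp.W a b).mp hab)
      refine ⟨⟨a', ha'⟩, ⟨b', hb'⟩, (isTS_comp_subtype_iff hp.W _ _).mpr h', ?_⟩
      intro w
      apply Subtype.ext
      rw [hφ'v, coe_wedge_comp, coe_wedge_comp, hφ'v]
      exact hw w w.2
  have hnd : Nondeg (Q.comp hp.W.subtype) :=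
    (nondeg_comp_subtype_iff Q hp.W).mpr (hp.W_nondeg hQ)
  have hdim : 5 ≤ finrank F ↥hp.W := by
    have := hp.finrank_W
    omega
  obtain ⟨σ, lam, hlam, hsemi, hsim⟩ := hdata.exists_semilinear hnd hdim
  refine ⟨σ, lam, hlam, ?_, ?_⟩
  · intro t w hw
    have := congrArg Subtype.val (hsemi t ⟨w, hw⟩)
    simp only [Submodule.coe_smul, hφ'v] at this
    exact this
  · intro w hw
    have := hsim ⟨w, hw⟩
    have h1 : Q ((φ' ⟨w, hw⟩ : ↥hp.W) : V) = lam * σ (Q w) := this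
    rw [hφ'v] at h1
    exact h1

end Fin

/-- the semilinear extension of a map of the complement. -/
noncomputable def ext (lam : F) (σ : F ≃+* F) (φ : V → V) (x : V) : V :=
  (lam * σ (QuadraticMap.polar Q hp.f x)) • hp.e + σ (QuadraticMap.polar Q hp.e x) • hp.f
    + φ (hp.pw x)

section Ext

variable {lam : F} {σ : F ≃+* F} {φ : V → V}
  (hφm : ∀ w ∈ hp.W, φ w ∈ hp.W)
  (hφa : ∀ w ∈ hp.W, ∀ w' ∈ hp.W, φ (w + w') = φ w + φ w')
  (hφs : ∀ (t : F), ∀ w ∈ hp.W, φ (t • w) = σ t • φ w)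
  (hφQ : ∀ w ∈ hp.W, Q (φ w) = lam * σ (Q w))

include hφa in
theorem ext_add (x y : V) : hp.ext lam σ φ (x + y) = hp.ext lam σ φ x + hp.ext lam σ φ y := by
  unfold ext
  rw [QuadraticMap.polar_add_right, QuadraticMap.polar_add_right, hp.pw_add,
    hφa _ (hp.pw_mem x) _ (hp.pw_mem y), map_add, map_add]
  module

include hφs in
theorem ext_smul (c : F) (x : V) : hp.ext lam σ φ (c • x) = σ c • hp.ext lam σ φ x := by
  unfold ext
  rw [QuadraticMap.polar_smul_right, QuadraticMap.polar_smul_right, hp.pw_smul,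
    hφs _ _ (hp.pw_mem x), smul_eq_mul, smul_eq_mul, map_mul, map_mul]
  module

include hφs in
theorem phi_zero' : φ 0 = 0 := by
  have := hφs 0 0 hp.W.zero_mem
  rw [zero_smul, map_zero, zero_smul] at this
  exact this

include hφs in
theorem ext_e : hp.ext lam σ φ hp.e = lam • hp.e := by
  unfold ext
  rw [hp.hfe, hp.hee, hp.pw_e, hp.phi_zero' hφs, map_one, map_zero]
  simp

include hφs in
theorem ext_f : hp.ext lam σ φ hp.f = hp.f := by
  unfold ext
  rw [hp.hff, hp.hef, hp.pw_f, hp.phi_zero' hφs, map_one, map_zero]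
  simp

theorem ext_of_mem {w : V} (hw : w ∈ hp.W) : hp.ext lam σ φ w = φ w := by
  unfold ext
  rw [(hp.mem_W.mp hw).1, (hp.mem_W.mp hw).2, hp.pw_of_mem hw, map_zero]
  simp

include hφm hφQ in
theorem Q_ext (x : V) : Q (hp.ext lam σ φ x) = lam * σ (Q x) := by
  unfold ext
  rw [hp.Q_dec _ _ (hφm _ (hp.pw_mem x)), hφQ _ (hp.pw_mem x)]
  conv_rhs => rw [hp.Q_eq x]
  rw [map_add, map_mul]
  ring

include hφm hφa hφQ in
theorem polar_ext (x y : V) :
    QuadraticMap.polar Q (hp.ext lam σ φ x) (hp.ext lam σ φ y)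
      = lam * σ (QuadraticMap.polar Q x y) := by
  unfold QuadraticMap.polar
  rw [← hp.ext_add hφa, hp.Q_ext hφm hφQ, hp.Q_ext hφm hφQ, hp.Q_ext hφm hφQ, map_sub, map_sub]
  ring

include hφm hφa hφQ in
theorem ext_injective (hQ : Nondeg Q) (hlam : lam ≠ 0) :
    Function.Injective (hp.ext lam σ φ) := by
  intro x y hxy
  have h1 : ∀ z, QuadraticMap.polar Q (x - y) z = 0 := by
    intro z
    have h2 := hp.polar_ext hφm hφa hφQ x z
    have h3 := hp.polar_ext hφm hφa hφQ y z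
    rw [hxy, h3] at h2
    have h4 := mul_left_cancel₀ hlam h2
    have h5 := σ.injective h4
    rw [QuadraticMap.polar_sub_left, h5, sub_self]
  exact sub_eq_zero.mp (hQ _ h1)

end Ext

end HP

end Cfsg.Agent.Helper8.AutO
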