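import Mathlib
import Cfsg.Agent.Helper8.AutOp

set_option autoImplicit false

/-!
# Automorphisms of orthogonal groups, part q: semilinear similarities, and the images of the point
subgroups under a normalised automorphism
-/

namespace Cfsg.Agent.Helper8.AutO

open Module Cfsg.Agent.Helper8.QuadForm Cfsg.Agent.Helper8.WittQuad Cfsg.Agent.Helper8.OrthOrder
  Cfsg.Agent.Helper8.Siegel Cfsg.Agent.Helper8.SiegelGeom Cfsg.Agent.Helper8.SiegelGroup
  Cfsg.Agent.Helper8.SiegelPrim Cfsg.Agent.Helper8.SiegelSimple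

open scoped Pointwise

variable {F : Type*} [Field F] {V : Type*} [AddCommGroup V] [Module F V] {Q : QuadraticForm F V}

/-- a semilinear similarity of a quadratic space. -/
structure SemiSim (Q : QuadraticForm F V) (g : V → V) (σ : F ≃+* F) (lam : F) : Prop where
  lam_ne : lam ≠ 0
  add : ∀ x y, g (x + y) = g x + g y
  smul : ∀ (c : F) x, g (c • x) = σ c • g x
  map_Q : ∀ x, Q (g x) = lam * σ (Q x)
  bij : Function.Bijective g

namespace SemiSim

variable {g : V → V} {σ : F ≃+* F} {lam : F} (hg : SemiSim Q g σ lam)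

include hg

theorem map_zero : g 0 = 0 := by
  have := hg.smul 0 0
  rw [zero_smul, _root_.map_zero, zero_smul] at this
  exact this

theorem map_neg (x : V) : g (-x) = -g x := by
  have := hg.smul (-1) x
  rw [neg_smul, one_smul, _root_.map_neg, _root_.map_one, neg_smul, one_smul] at this
  exact this

theorem map_sub (x y : V) : g (x - y) = g x - g y := by
  rw [sub_eq_add_neg, hg.add, hg.map_neg, sub_eq_add_neg]

theorem ne_zero {x : V} (hx : x ≠ 0) : g x ≠ 0 := fun h =>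
  hx (hg.bij.1 (h.trans hg.map_zero.symm))

theorem polar (x y : V) : QuadraticMap.polar Q (g x) (g y) = lam * σ (QuadraticMap.polar Q x y) := by
  unfold QuadraticMap.polar
  rw [← hg.add, hg.map_Q, hg.map_Q, hg.map_Q, _root_.map_sub, _root_.map_sub]
  ring

theorem sing {x : V} (hx : Q x = 0) : Q (g x) = 0 := by
  rw [hg.map_Q, hx, _root_.map_zero, mul_zero]

end SemiSim

namespace HP

variable (hp : HP Q)

theorem ap_sgT_e_f {w : V} (hw : w ∈ hp.W) :
    ap (sgT Q hp.e w) hp.f = hp.f - w - Q w • hp.e := by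
  rw [ap_sgT hp.he (hp.mem_W.mp hw).1, (hp.mem_W.mp hw).2, hp.hfe]
  module

section Fin

variable [Fintype F] [FiniteDimensional F V] (hQ : Nondeg Q) (h7 : 7 ≤ finrank F V)
  (p : ℕ) [Fact p.Prime] [CharP F p]

include hQ h7 p

/-- the extension of the induced map is a semilinear similarity. -/
theorem exists_semiSim {β : MulAut (PG Q)} (hβ : RootPres β) (hE : β • Qb Q hp.e = Qb Q hp.e)
    (hF : β • Qb Q hp.f = Qb Q hp.f) :
    ∃ (σ : F ≃+* F) (lam : F) (g : V → V), SemiSim Q g σ lam ∧ g hp.e = lam • hp.e ∧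
      g hp.f = hp.f ∧ ∀ w ∈ hp.W, g w = hp.phi β w := by
  have h5 : 5 ≤ finrank F V := by omega
  obtain ⟨σ, lam, hlam, hφs, hφQ⟩ := hp.exists_semilinear hQ h7 p hβ hE hF
  have hφm : ∀ w ∈ hp.W, hp.phi β w ∈ hp.W := fun w hw => hp.phi_mem hE (hp.mem_W.mp hw).1
  have hφa : ∀ w ∈ hp.W, ∀ w' ∈ hp.W, hp.phi β (w + w') = hp.phi β w + hp.phi β w' :=
    fun w hw w' hw' => hp.phi_add hQ h5 p hE (hp.mem_W.mp hw).1 (hp.mem_W.mp hw').1
  have : Finite V := Module.finite_of_finite F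
  refine ⟨σ, lam, hp.ext lam σ (hp.phi β), ⟨hlam, hp.ext_add hφa, hp.ext_smul hφs,
    hp.Q_ext hφm hφQ, ?_⟩, hp.ext_e hφs, hp.ext_f hφs, fun w hw => hp.ext_of_mem hw⟩
  have hinj := hp.ext_injective hφm hφa hφQ hQ hlam
  exact ⟨hinj, Finite.surjective_of_injective hinj⟩

/-- **the images of the point subgroups under a normalised automorphism.** -/
theorem pointMap {β : MulAut (PG Q)} (hE : β • Qb Q hp.e = Qb Q hp.e)
    (hF : β • Qb Q hp.f = Qb Q hp.f)
    (hPP : ∀ u, u ≠ 0 → Q u = 0 → ∃ u', u' ≠ 0 ∧ Q u' = 0 ∧ β • Qb Q u = Qb Q u')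
    {σ : F ≃+* F} {lam : F} {g : V → V} (hg : SemiSim Q g σ lam) (hge : g hp.e = lam • hp.e)
    (hgf : g hp.f = hp.f) (hgw : ∀ w ∈ hp.W, g w = hp.phi β w) {u : V} (hu0 : u ≠ 0)
    (hu : Q u = 0) : β • Qb Q u = Qb Q (g u) := by
  have h5 : 5 ≤ finrank F V := by omega
  -- points not orthogonal to `e`
  have caseA : ∀ u, Q u = 0 → QuadraticMap.polar Q hp.e u ≠ 0 → β • Qb Q u = Qb Q (g u) := by
    intro u hu hne
    obtain ⟨κ, hκ⟩ : ∃ κ, κ = QuadraticMap.polar Q hp.e u := ⟨_, rfl⟩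
    have hκ0 : κ ≠ 0 := by rw [hκ]; exact hne
    obtain ⟨u₀, hu₀def⟩ : ∃ u₀, u₀ = κ⁻¹ • u := ⟨_, rfl⟩
    have hu₀ : Q u₀ = 0 := by rw [hu₀def, QuadraticMap.map_smul, hu, smul_zero]
    have heu₀ : QuadraticMap.polar Q hp.e u₀ = 1 := by
      rw [hu₀def, QuadraticMap.polar_smul_right, ← hκ, smul_eq_mul, inv_mul_cancel₀ hκ0]
    have huu₀ : u = κ • u₀ := by rw [hu₀def, smul_smul, mul_inv_cancel₀ hκ0, one_smul]
    obtain ⟨h1, h2⟩ := sieg_move Q hp.he (hp.hf.trans hu₀.symm) hp.hef heu₀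
    obtain ⟨w₁, hw₁def⟩ : ∃ w₁, w₁ = hp.pw (hp.f - u₀) := ⟨_, rfl⟩
    have hw₁ : w₁ ∈ hp.W := by rw [hw₁def]; exact hp.pw_mem _
    have hx : ap (sgT Q hp.e w₁) hp.f = u₀ := by
      rw [hw₁def, ← hp.sgT_pw h1]; exact h2
    have hu₀e : u₀ = hp.f - w₁ - Q w₁ • hp.e := by rw [← hx, hp.ap_sgT_e_f hw₁]
    have hφ := hp.phi_spec hE (hp.mem_W.mp hw₁).1
    have h3 : Qb Q u = MulAut.conj (pr (sgT Q hp.e w₁)) • Qb Q hp.f := by
      rw [conj_smul_Qb, hx, huu₀, Qb_smul hκ0]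
    have h4 : g u₀ = ap (sgT Q hp.e (hp.phi β w₁)) hp.f := by
      rw [hp.ap_sgT_e_f hφ.1, hu₀e, hg.map_sub, hg.map_sub, hgf, hgw w₁ hw₁, hg.smul, hge,
        ← hgw w₁ hw₁, hg.map_Q, smul_smul, mul_comm]
    rw [h3, ← smul_conj_smul, hF, hφ.2, conj_smul_Qb, ← h4, huu₀, hg.smul,
      Qb_smul (by
        intro h0
        exact hκ0 (σ.injective (h0.trans (_root_.map_zero σ).symm)))]
  by_cases hne : QuadraticMap.polar Q hp.e u = 0
  swap
  · exact caseA u hu hne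
  by_cases hmem : u ∈ Submodule.span F {hp.e}
  · obtain ⟨t, rfl⟩ := Submodule.mem_span_singleton.mp hmem
    have ht : t ≠ 0 := by
      rintro rfl
      exact hu0 (zero_smul _ _)
    have hσt : σ t ≠ 0 := fun h0 => ht (σ.injective (h0.trans (_root_.map_zero σ).symm))
    rw [Qb_smul ht, hE, hg.smul, hge, Qb_smul hσt, Qb_smul hg.lam_ne]
  -- points orthogonal to `e`, different from it
  have hdec := hp.dec u
  rw [hne, zero_smul, add_zero] at hdec
  obtain ⟨uW, huWdef⟩ : ∃ uW, uW = hp.pw u := ⟨_, rfl⟩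
  rw [← huWdef] at hdec
  have huW : uW ∈ hp.W := by rw [huWdef]; exact hp.pw_mem u
  have huW0 : uW ≠ 0 := by
    intro h0
    apply hmem
    rw [hdec, h0, add_zero]
    exact Submodule.smul_mem _ _ (Submodule.mem_span_singleton_self _)
  have huWQ : Q uW = 0 := by
    have := hp.Q_eq u
    rw [hne, mul_zero, zero_add, hu, ← huWdef] at this
    exact this.symm
  have hφ := hp.phi_spec hE (hp.mem_W.mp huW).1
  have hts : IsTS Q hp.e u := ⟨hp.he, hu, hne, by
    rw [LinearIndependent.pair_iff' hp.e_ne]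
    intro s hs
    exact hmem (Submodule.mem_span_singleton.mpr ⟨s, hs⟩)⟩
  have hgu : g u = (σ (QuadraticMap.polar Q hp.f u) * lam) • hp.e + hp.phi β uW := by
    conv_lhs => rw [hdec]
    rw [hg.add, hg.smul, hge, smul_smul, hgw uW huW]
  obtain ⟨u', hu'0, hu', hU⟩ := hPP u hu0 hu
  -- `u'` lies on the line spanned by `e` and `φ uW`
  have hφ0 : hp.phi β uW ≠ 0 := by
    rw [← hgw uW huW]; exact hg.ne_zero huW0
  have hφQ : Q (hp.phi β uW) = 0 := by
    rw [← hgw uW huW]; exact hg.sing huWQ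
  have hts' : IsTS Q hp.e (hp.phi β uW) :=
    ⟨hp.he, hφQ, (hp.mem_W.mp hφ.1).1, hp.li_e_w hφ.1 hφ0⟩
  have h1 : pr (sgT Q hp.e (hp.phi β uW)) ∈ Qb Q u' := by
    rw [← hU, ← hφ.2]
    apply (mem_smul_iff β _ _).mpr
    rw [huWdef, ← hp.sgT_pw hne, sgT_swap hts]
    exact ⟨_, sgT_mem_rootSub (by rw [QuadraticMap.polar_neg_right, hts.ba, neg_zero]), rfl⟩
  obtain ⟨w', hw', heq⟩ := (mem_Qb_iff _).mp h1
  have h2 := sgT_eq_of_pr_eq hQ h5 p hts'.ab hw' heq
  have h3 := mem_span_of_sgT_eq hQ hts' hu'0 hu' hw' h2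
  obtain ⟨α, γ, hαγ⟩ := Submodule.mem_span_pair.mp h3
  -- a point orthogonal to `u`, not to `e`
  have hli : LinearIndependent F ![u, hp.e] := hts.symm.li
  obtain ⟨x, hxu, hxe⟩ := exists_dual_pair hQ hli
  have hex : QuadraticMap.polar Q hp.e x = 1 := by rw [QuadraticMap.polar_comm]; exact hxe
  obtain ⟨h4, h5'⟩ := singularize Q hp.he hex
  obtain ⟨u₂, hu₂def⟩ : ∃ u₂, u₂ = x - Q x • hp.e := ⟨_, rfl⟩
  rw [← hu₂def] at h4 h5'
  have hu₂0 : u₂ ≠ 0 := by
    rintro rfl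
    rw [QuadraticMap.polar_zero_right] at h5'
    exact zero_ne_one h5'
  have huu₂ : QuadraticMap.polar Q u u₂ = 0 := by
    rw [hu₂def, QuadraticMap.polar_sub_right, QuadraticMap.polar_smul_right,
      QuadraticMap.polar_comm Q u x, hxu, QuadraticMap.polar_comm Q u hp.e, hne]
    simp
  have hA := caseA u₂ h4 (by rw [h5']; exact one_ne_zero)
  have hcoll := (coll_iff hQ h5 p hu0 hu hu₂0 h4).mpr huu₂
  rw [← coll_smul_iff β, hU, hA, coll_iff hQ h5 p hu'0 hu' (hg.ne_zero hu₂0) (hg.sing h4)] at hcoll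
  have h6 : QuadraticMap.polar Q (g u) (g u₂) = 0 := by
    rw [hg.polar, huu₂, _root_.map_zero, mul_zero]
  have h7' : QuadraticMap.polar Q hp.e (g u₂) = 1 := by
    have := hg.polar hp.e u₂
    rw [hge, QuadraticMap.polar_smul_left, h5', _root_.map_one, smul_eq_mul, mul_one] at this
    have h8 : lam * QuadraticMap.polar Q hp.e (g u₂) = lam * 1 := by rw [this, mul_one]
    exact mul_left_cancel₀ hg.lam_ne h8
  -- conclude
  have h8 : u' = (α - γ * (σ (QuadraticMap.polar Q hp.f u) * lam)) • hp.e + γ • g u := by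
    rw [← hαγ, hgu]; module
  have h9 : α - γ * (σ (QuadraticMap.polar Q hp.f u) * lam) = 0 := by
    have := hcoll
    rw [h8, QuadraticMap.polar_add_left, QuadraticMap.polar_smul_left,
      QuadraticMap.polar_smul_left, h6, h7'] at this
    simpa using this
  rw [h9, zero_smul, zero_add] at h8
  have hγ : γ ≠ 0 := by
    rintro rfl
    rw [zero_smul] at h8
    exact hu'0 h8
  rw [hU, h8, Qb_smul hγ]

end Fin

end HP

end Cfsg.Agent.Helper8.AutO
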