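import Mathlib
import Cfsg.Agent.Helper8.AutOq

set_option autoImplicit false

/-!
# Automorphisms of orthogonal groups, part r: every automorphism of the projective Siegel group is
induced by a semilinear similarity
-/

namespace Cfsg.Agent.Helper8.AutO

open Module Cfsg.Agent.Helper8.QuadForm Cfsg.Agent.Helper8.WittQuad Cfsg.Agent.Helper8.OrthOrder
  Cfsg.Agent.Helper8.Siegel Cfsg.Agent.Helper8.SiegelGeom Cfsg.Agent.Helper8.SiegelGroup
  Cfsg.Agent.Helper8.SiegelPrim Cfsg.Agent.Helper8.SiegelSimple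

open scoped Pointwise

variable {F : Type*} [Field F] {V : Type*} [AddCommGroup V] [Module F V] {Q : QuadraticForm F V}

/-- the composite of a semilinear similarity with an isometry. -/
theorem SemiSim.comp_ap {σ : F ≃+* F} {lam : F} {g : V → V} (hg : SemiSim Q g σ lam)
    (g₀ : ↥(SG Q)) : SemiSim Q (fun x => ap g₀ (g x)) σ lam :=
  ⟨hg.lam_ne, fun x y => by rw [hg.add, map_add], fun c x => by rw [hg.smul, map_smul],
    fun x => by rw [Q_ap, hg.map_Q], (ap g₀).bijective.comp hg.bij⟩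

section Fin

variable [Fintype F] [FiniteDimensional F V] (hQ : Nondeg Q) (h5 : 5 ≤ finrank F V)
  (p : ℕ) [Fact p.Prime] [CharP F p]

include hQ h5 p

/-- an automorphism mapping the point subgroups as a semilinear similarity does agrees with
conjugation by the similarity up to scalars. -/
theorem exists_scalar_of_pointMap {β : MulAut (PG Q)} {σ : F ≃+* F} {lam : F} {g : V → V}
    (hg : SemiSim Q g σ lam)
    (hPM : ∀ u, u ≠ 0 → Q u = 0 → β • Qb Q u = Qb Q (g u)) {h h'' : ↥(SG Q)}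
    (hh : β (pr h) = pr h'') : ∃ c : F, ∀ x, ap h'' (g x) = c • g (ap h x) := by
  obtain ⟨E, hE⟩ : ∃ E : V ≃ V, E = Equiv.ofBijective g hg.bij := ⟨_, rfl⟩
  have hgE : ∀ y, g (E.symm y) = y := fun y => by
    rw [hE]; exact Equiv.ofBijective_apply_symm_apply g hg.bij y
  have hEg : ∀ x, E.symm (g x) = x := fun x => by
    rw [hE]; exact Equiv.ofBijective_symm_apply_apply g hg.bij x
  have hEadd : ∀ x y, E.symm (x + y) = E.symm x + E.symm y := by
    intro x y
    apply hg.bij.1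
    rw [hgE, hg.add, hgE, hgE]
  have hEsmul : ∀ (c : F) y, E.symm (c • y) = σ.symm c • E.symm y := by
    intro c y
    apply hg.bij.1
    rw [hgE, hg.smul, hgE, σ.apply_symm_apply]
  let T : V →ₗ[F] V :=
    { toFun := fun x => ap h⁻¹ (E.symm (ap h'' (g x)))
      map_add' := fun x y => by
        show ap h⁻¹ (E.symm (ap h'' (g (x + y))))
          = ap h⁻¹ (E.symm (ap h'' (g x))) + ap h⁻¹ (E.symm (ap h'' (g y)))
        rw [hg.add, map_add, hEadd, map_add]
      map_smul' := fun c x => by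
        show ap h⁻¹ (E.symm (ap h'' (g (c • x)))) = c • ap h⁻¹ (E.symm (ap h'' (g x)))
        rw [hg.smul, map_smul, hEsmul, map_smul, σ.symm_apply_apply] }
  have hT : ∀ x, T x = ap h⁻¹ (E.symm (ap h'' (g x))) := fun x => rfl
  have hTinj : Function.Injective T := by
    intro x y hxy
    rw [hT, hT] at hxy
    exact hg.bij.1 ((ap h'').injective (E.symm.injective ((ap h⁻¹).injective hxy)))
  obtain ⟨TE, hTE⟩ : ∃ TE : V ≃ₗ[F] V, TE = LinearEquiv.ofInjectiveEndo T hTinj := ⟨_, rfl⟩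
  have hTEx : ∀ x, TE x = ap h⁻¹ (E.symm (ap h'' (g x))) := by
    intro x
    rw [hTE, LinearEquiv.coe_ofInjectiveEndo]
    rfl
  have hfix : ∀ u, u ≠ 0 → Q u = 0 → ∃ t : F, TE u = t • u := by
    intro u hu0 hu
    have h1 : Qb Q (ap h'' (g u)) = Qb Q (g (ap h u)) := by
      rw [← conj_smul_Qb, ← hPM u hu0 hu, ← hh, smul_conj_smul, conj_smul_Qb,
        hPM _ (ap_ne_zero h hu0) (by rw [Q_ap, hu])]
    have h2 := mem_span_of_Qb_le hQ h5 p (hg.ne_zero (ap_ne_zero h hu0))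
      (hg.sing (by rw [Q_ap, hu])) (ap_ne_zero h'' (hg.ne_zero hu0))
      (by rw [Q_ap]; exact hg.sing hu) (le_of_eq h1.symm)
    obtain ⟨t, ht⟩ := Submodule.mem_span_singleton.mp h2
    refine ⟨σ.symm t, ?_⟩
    rw [hTEx, ← ht, hEsmul, hEg, map_smul, ap_inv_ap]
  obtain ⟨l, hl⟩ := exists_scalar_of_fix Q hQ h5 TE hfix
  refine ⟨σ l, fun x => ?_⟩
  have h1 := hl x
  rw [hTEx] at h1
  have h2 : E.symm (ap h'' (g x)) = l • ap h x := by
    have := congrArg (ap h) h1
    rwa [ap_ap_inv, map_smul] at this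
  have h3 := congrArg g h2
  rwa [hgE, hg.smul] at h3

/-- an automorphism mapping the point subgroups as a semilinear similarity does is induced by
the similarity. -/
theorem apply_of_pointMap {β : MulAut (PG Q)} {σ : F ≃+* F} {lam : F} {g : V → V}
    (hg : SemiSim Q g σ lam)
    (hPM : ∀ u, u ≠ 0 → Q u = 0 → β • Qb Q u = Qb Q (g u)) {h h' : ↥(SG Q)}
    (hh' : ∀ x, ap h' (g x) = g (ap h x)) : β (pr h) = pr h' := by
  obtain ⟨h'', hh''⟩ := pr_surjective (β (pr h))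
  obtain ⟨c, hc⟩ := exists_scalar_of_pointMap hQ h5 p hg hPM hh''.symm
  have hz : ∀ y, ap (h'' * h'⁻¹) y = c • y := by
    intro y
    obtain ⟨x, hx⟩ := hg.bij.2 (ap h'⁻¹ y)
    rw [ap_mul, ← hx, hc, ← hh', hx, ap_ap_inv]
  have h1 := pr_eq_one_of_scalar hz
  rw [map_mul, map_inv, mul_inv_eq_one] at h1
  rw [← hh'', h1]

end Fin

section Main

variable [Fintype F] [FiniteDimensional F V] (hQ : Nondeg Q) (h7 : 7 ≤ finrank F V)
  (p : ℕ) [Fact p.Prime] [CharP F p]

include hQ h7 p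

/-- **every automorphism of the projective Siegel group is induced by a semilinear similarity.** -/
theorem aut_PG_semilinear (hB2 : 9 ≤ finrank F V ∨ NoB2 Q) (β : MulAut (PG Q)) :
    ∃ (σ : F ≃+* F) (lam : F) (g : V → V), SemiSim Q g σ lam ∧
      ∀ h h' : ↥(SG Q), (∀ x, ap h' (g x) = g (ap h x)) → β (pr h) = pr h' := by
  have h5 : 5 ≤ finrank F V := by omega
  obtain ⟨u, hu0, hu⟩ := exists_singular Q (show 3 ≤ finrank F V by omega)
  obtain ⟨hp, -⟩ := exists_HP hQ hu0 hu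
  have hPP : ∀ β' : MulAut (PG Q), ∀ u, u ≠ 0 → Q u = 0 →
      ∃ u', u' ≠ 0 ∧ Q u' = 0 ∧ β' • Qb Q u = Qb Q u' :=
    fun β' u hu0 hu => pointPres hQ h7 p hB2 β' hu0 hu
  obtain ⟨g₀, hE, hF⟩ := exists_normalize hQ h5 p hp β (hPP β)
  have hβ₁ := rootPres' hQ h7 p (MulAut.conj (pr g₀) * β)
  obtain ⟨σ, lam, g, hg, hge, hgf, hgw⟩ := hp.exists_semiSim hQ h7 p hβ₁ hE hF
  have hPM : ∀ u, u ≠ 0 → Q u = 0 → (MulAut.conj (pr g₀) * β) • Qb Q u = Qb Q (g u) :=
    fun u hu0 hu => hp.pointMap hQ h7 p hE hF (hPP _) hg hge hgf hgw hu0 hu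
  refine ⟨σ, lam, fun x => ap g₀⁻¹ (g x), hg.comp_ap g₀⁻¹, ?_⟩
  intro h h' hh'
  have h1 : ∀ x, ap (g₀ * h' * g₀⁻¹) (g x) = g (ap h x) := by
    intro x
    rw [ap_mul, ap_mul, hh', ap_ap_inv]
  have h2 := apply_of_pointMap hQ h5 p hg hPM h1
  rw [MulAut.mul_apply, MulAut.conj_apply, map_mul, map_mul, map_inv] at h2
  have h3 : β (pr h) = (pr g₀)⁻¹ * (pr g₀ * β (pr h) * (pr g₀)⁻¹) * pr g₀ := by group
  rw [h3, h2]
  group

end Main


end Cfsg.Agent.Helper8.AutO
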