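import Mathlib
import Cfsg.Agent.Helper8.AutOr
import Cfsg.Agent.Helper8.OmegaSimple
import Cfsg.Prelude.Def_LieTypeDatum

set_option autoImplicit false

/-!
# Automorphisms of orthogonal groups, part s: the automorphism group of `PΩ(Q)` for a matrix
quadratic form is the image of the semisimilarity group
-/

namespace Cfsg.Agent.Helper8.AutO

open Module Matrix Cfsg.Agent.Helper8.QuadForm Cfsg.Agent.Helper8.WittQuad
  Cfsg.Agent.Helper8.OrthOrder
  Cfsg.Agent.Helper8.Siegel Cfsg.Agent.Helper8.SiegelGeom Cfsg.Agent.Helper8.SiegelGroup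
  Cfsg.Agent.Helper8.SiegelPrim Cfsg.Agent.Helper8.SiegelSimple Cfsg.Agent.Helper8.ReflMatrix
  Cfsg.Agent.Helper8.OmegaSimple

variable {F : Type*} [Field F] [Fintype F] {ι : Type} [Fintype ι] [DecidableEq ι]
  (Q : QuadraticForm F (ι → F))

theorem ap_omegaEquiv (hQ : (QuadraticMap.polarBilin Q).Nondegenerate)
    (h5 : 5 ≤ Fintype.card ι) (s : ↥(Cfsg.Omega F ⇑Q)) (v : ι → F) :
    ap (omegaEquiv Q hQ h5 s) v
      = (((s : ↥(Cfsg.isometryGroup F ⇑Q)) : GL ι F) : Matrix ι ι F) *ᵥ v := rfl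

theorem map_mulVec_sigma (σ : F ≃+* F) (A : Matrix ι ι F) (v : ι → F) :
    (A.map σ) *ᵥ (fun i => σ (v i)) = fun i => σ ((A *ᵥ v) i) := by
  ext i
  simp only [mulVec, dotProduct, map_apply, map_sum, map_mul]

variable {Q}

/-- the matrix of a semilinear similarity. -/
theorem exists_matrix {g : (ι → F) → (ι → F)} {σ : F ≃+* F} {lam : F} (hg : SemiSim Q g σ lam) :
    ∃ M : GL ι F, ∀ v, g v = (M : Matrix ι ι F) *ᵥ (fun i => σ (v i)) := by
  obtain ⟨M₀, hM₀⟩ : ∃ M₀ : Matrix ι ι F, M₀ = Matrix.of fun i j => g (Pi.single j 1) i :=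
    ⟨_, rfl⟩
  have key : ∀ v, g v = M₀ *ᵥ (fun i => σ (v i)) := by
    intro v
    let S' : (ι → F) →+ (ι → F) := AddMonoidHom.mk' g hg.add
    have h1 : S' v = ∑ j, S' (v j • Pi.single j 1) := by
      rw [← map_sum]
      congr 1
      exact pi_eq_sum_univ' v
    have h2 : g v = ∑ j, σ (v j) • g (Pi.single j 1) := by
      have : ∀ j, S' (v j • Pi.single j 1) = σ (v j) • g (Pi.single j 1) :=
        fun j => hg.smul (v j) _
      simp only [this] at h1
      exact h1
    rw [h2]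
    ext i
    rw [Finset.sum_apply, hM₀]
    unfold mulVec dotProduct
    apply Finset.sum_congr rfl
    intro j _
    show (σ (v j) • g (Pi.single j 1)) i = g (Pi.single j 1) i * σ (v j)
    rw [Pi.smul_apply, smul_eq_mul, mul_comm]
  have hinj : Function.Injective M₀.mulVec := by
    intro x y hxy
    have h1 : g (fun i => σ.symm (x i)) = g (fun i => σ.symm (y i)) := by
      rw [key, key]
      simp only [RingEquiv.apply_symm_apply]
      exact hxy
    have h2 := hg.bij.1 h1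
    ext i
    have := congrFun h2 i
    exact σ.symm.injective this
  exact ⟨(Matrix.mulVec_injective_iff_isUnit.mp hinj).unit, key⟩

variable (Q)

/-- **the automorphism group of `PΩ(Q)` is the image of the semisimilarity group.** -/
theorem gammaPOmega_eq_top (hQ : (QuadraticMap.polarBilin Q).Nondegenerate)
    (h7 : 7 ≤ Fintype.card ι) (p : ℕ) [Fact p.Prime] [CharP F p]
    (hB2 : 9 ≤ Fintype.card ι ∨ NoB2 Q) : Cfsg.gammaPOmega F ⇑Q = ⊤ := by
  have h5 : 5 ≤ Fintype.card ι := by omega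
  have hQ' : Nondeg Q := (nondeg_iff Q).mp hQ
  have hdim : finrank F (ι → F) = Fintype.card ι := Module.finrank_fintype_fun_eq_card F
  rw [eq_top_iff]
  intro β _
  apply Subgroup.subset_closure
  obtain ⟨E, hE⟩ : ∃ E : Cfsg.POmega F ⇑Q ≃* PG Q,
      E = Cfsg.Agent.Helper8.SL2HermOmega.quotCenterEquiv (omegaEquiv Q hQ h5) := ⟨_, rfl⟩
  have hEmk : ∀ s : ↥(Cfsg.Omega F ⇑Q), E (QuotientGroup.mk s) = pr (omegaEquiv Q hQ h5 s) := by
    intro s
    rw [hE]
    rfl
  obtain ⟨β', hβ'⟩ : ∃ β' : MulAut (PG Q), β' = E.symm.trans (β.trans E) := ⟨_, rfl⟩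
  obtain ⟨σ, lam, g, hg, H⟩ := aut_PG_semilinear hQ' (by rw [hdim]; exact h7) p
    (by rw [hdim]; exact hB2) β'
  obtain ⟨M, hM⟩ := exists_matrix hg
  refine ⟨M, σ, ⟨Units.mk0 lam hg.lam_ne, fun v => ?_⟩, ?_⟩
  · rw [← hM]
    exact hg.map_Q v
  · intro s s' hss'
    have h1 : ∀ x, ap (omegaEquiv Q hQ h5 s') (g x) = g (ap (omegaEquiv Q hQ h5 s) x) := by
      intro x
      have h2 : ((M⁻¹ : GL ι F) : Matrix ι ι F) * (M : Matrix ι ι F) = 1 := by
        rw [← Units.val_mul, inv_mul_cancel, Units.val_one]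
      rw [ap_omegaEquiv, ap_omegaEquiv, hM, hM, hss', mulVec_mulVec, Matrix.mul_assoc, h2,
        Matrix.mul_one, ← mulVec_mulVec, map_mulVec_sigma]
    have h3 := H _ _ h1
    rw [hβ', ← hEmk, ← hEmk] at h3
    have h4 : (E.symm.trans (β.trans E)) (E (QuotientGroup.mk s))
        = E (β (QuotientGroup.mk s)) := by
      simp
    rw [h4] at h3
    exact E.injective h3

end Cfsg.Agent.Helper8.AutO
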