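import Mathlib
import Cfsg.Agent.Helper8.AutOs
import Cfsg.Agent.Helper8.StdForms

set_option autoImplicit false

/-!
# Automorphisms of orthogonal groups, part t: the standard forms
-/

namespace Cfsg.Agent.Helper8.AutO

open Module Matrix Cfsg.Agent.Helper8.QuadForm Cfsg.Agent.Helper8.WittQuad
  Cfsg.Agent.Helper8.OrthOrder
  Cfsg.Agent.Helper8.Siegel Cfsg.Agent.Helper8.SiegelGeom Cfsg.Agent.Helper8.SiegelGroup
  Cfsg.Agent.Helper8.SiegelPrim Cfsg.Agent.Helper8.SiegelSimple Cfsg.Agent.Helper8.StdForms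

section Abstract

variable {F : Type*} [Field F] {V : Type*} [AddCommGroup V] [Module F V] {Q : QuadraticForm F V}

theorem Perp4.polar_sup {a b c d x y : V} (h : IsTS Q a b) (h' : IsTS Q c d)
    (hp : Perp4 Q a b c d) (hx : x ∈ Submodule.span F {a, b} ⊔ Submodule.span F {c, d})
    (hy : y ∈ Submodule.span F {a, b} ⊔ Submodule.span F {c, d}) :
    QuadraticMap.polar Q x y = 0 := by
  obtain ⟨x₁, hx₁, x₂, hx₂, rfl⟩ := Submodule.mem_sup.mp hx
  obtain ⟨y₁, hy₁, y₂, hy₂, rfl⟩ := Submodule.mem_sup.mp hy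
  rw [QuadraticMap.polar_add_left, QuadraticMap.polar_add_right, QuadraticMap.polar_add_right,
    h.polar_of_mem hx₁ hy₁, hp.polar_of_mem hx₁ hy₂, QuadraticMap.polar_comm Q x₂ y₁,
    hp.polar_of_mem hy₁ hx₂, h'.polar_of_mem hx₂ hy₂]
  simp

/-- **no two disjoint orthogonal totally singular lines, if a totally singular plane has an
anisotropic quotient of its orthogonal complement.** -/
theorem noB2_of_aniso [FiniteDimensional F V] (hQ : Nondeg Q) (x : Fin 3 → V)
    (hx : LinearIndependent F x) (hxQ : ∀ i, Q (x i) = 0)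
    (hxp : ∀ i j, QuadraticMap.polar Q (x i) (x j) = 0)
    (han : ∀ v, (∀ i, QuadraticMap.polar Q v (x i) = 0) → Q v = 0 →
      v ∈ Submodule.span F (Set.range x)) : NoB2 Q := by
  intro a b c d h h' hp
  by_contra hm
  have haM : a ∈ Submodule.span F {a, b} ⊔ Submodule.span F {c, d} :=
    Submodule.mem_sup_left (Submodule.subset_span (by simp))
  have hbM : b ∈ Submodule.span F {a, b} ⊔ Submodule.span F {c, d} :=
    Submodule.mem_sup_left (Submodule.subset_span (by simp))
  have hcM : c ∈ Submodule.span F {a, b} ⊔ Submodule.span F {c, d} :=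
    Submodule.mem_sup_right (Submodule.subset_span (by simp))
  have hdM : d ∈ Submodule.span F {a, b} ⊔ Submodule.span F {c, d} :=
    Submodule.mem_sup_right (Submodule.subset_span (by simp))
  have hyM : ∀ i, ![a, b, c] i ∈ Submodule.span F {a, b} ⊔ Submodule.span F {c, d} := by
    intro i
    fin_cases i
    · exact haM
    · exact hbM
    · exact hcM
  have hyQ : ∀ i, Q (![a, b, c] i) = 0 := by
    intro i
    fin_cases i
    · exact h.qa
    · exact h.qb
    · exact h'.qa
  have hy : LinearIndependent F ![a, b, c] := by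
    rw [Fintype.linearIndependent_iff]
    intro l hl
    rw [Fin.sum_univ_three] at hl
    have := eq_zero_of_not_meet h h' hm (α := l 0) (β := l 1) (γ := l 2) (δ := 0) (by
      rw [zero_smul, add_zero]; exact hl)
    intro i
    fin_cases i
    · exact this.1
    · exact this.2.1
    · exact this.2.2.1
  obtain ⟨g, hg1, hg2⟩ := witt_family Q ((nondeg_iff Q).mpr hQ) 3 x ![a, b, c] hx hy
    (fun i => by rw [hxQ, hyQ])
    (fun i j => by rw [hxp, hp.polar_sup h h' (hyM i) (hyM j)])
  have hd' : g.symm d ∈ Submodule.span F (Set.range x) := by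
    apply han
    · intro i
      rw [← polar_isometry Q g hg1, LinearEquiv.apply_symm_apply, hg2]
      exact hp.polar_sup h h' hdM (hyM i)
    · rw [← hg1, LinearEquiv.apply_symm_apply, h'.qb]
  obtain ⟨l, hl⟩ := (Submodule.mem_span_range_iff_exists_fun F).mp hd'
  have h1 := congrArg g hl
  rw [LinearEquiv.apply_symm_apply, map_sum, Fin.sum_univ_three] at h1
  simp only [map_smul, hg2] at h1
  have := eq_zero_of_not_meet h h' hm (α := l 0) (β := l 1) (γ := l 2) (δ := -1) (by
    rw [neg_smul, one_smul, ← sub_eq_add_neg, sub_eq_zero]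
    exact h1)
  exact one_ne_zero (neg_eq_zero.mp this.2.2.2)

end Abstract

variable {F : Type*} [Field F] [Fintype F]

/-- the minus-type form in dimension eight has no totally singular subspace of dimension four. -/
theorem noB2_minus {a b : F}
    (hab : ∀ z₁ z₂ : F, z₁ ^ 2 + a * z₁ * z₂ + b * z₂ ^ 2 = 0 → z₁ = 0 ∧ z₂ = 0) :
    NoB2 (minusForm F 3 a b) := by
  classical
  have hQ : Nondeg (minusForm F 3 a b) := (nondeg_iff _).mp (minusForm_nondeg F 3 hab)
  apply noB2_of_aniso hQ (fun i : Fin 3 => (Pi.single (Sum.inl (Sum.inl i)) (1 : F) :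
    (Fin 3 ⊕ Fin 3) ⊕ Fin 2 → F))
  · have h1 := (Pi.basisFun F ((Fin 3 ⊕ Fin 3) ⊕ Fin 2)).linearIndependent
    have h2 := h1.comp (fun i : Fin 3 => (Sum.inl (Sum.inl i) : (Fin 3 ⊕ Fin 3) ⊕ Fin 2))
      (fun i j hij => by simpa using hij)
    have e : (fun i : Fin 3 => (Pi.single (Sum.inl (Sum.inl i)) (1 : F) :
        (Fin 3 ⊕ Fin 3) ⊕ Fin 2 → F))
        = ⇑(Pi.basisFun F ((Fin 3 ⊕ Fin 3) ⊕ Fin 2)) ∘ fun i => Sum.inl (Sum.inl i) := by
      funext i
      simp [Pi.basisFun_apply]
    rw [e]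
    exact h2
  · intro i
    rw [minusForm_apply]
    unfold Cfsg.quadFormMinus
    simp [Pi.single_apply]
  · intro i j
    rw [polar_minusForm]
    simp [Pi.single_apply]
  · intro v hv hvQ
    have h1 : ∀ i : Fin 3, v (Sum.inl (Sum.inr i)) = 0 := by
      intro i
      have := hv i
      rw [polar_minusForm] at this
      simpa [Pi.single_apply] using this
    rw [minusForm_apply] at hvQ
    unfold Cfsg.quadFormMinus at hvQ
    simp only [h1, mul_zero, Finset.sum_const_zero, zero_add] at hvQ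
    obtain ⟨h2, h3⟩ := hab _ _ hvQ
    rw [Submodule.mem_span_range_iff_exists_fun]
    refine ⟨fun i => v (Sum.inl (Sum.inl i)), ?_⟩
    funext k
    rw [Finset.sum_apply]
    rcases k with (k | k) | k
    · simp [Pi.single_apply]
    · simp [h1]
    · fin_cases k
      · simp [h2]
      · simp [h3]

theorem exists_char (F : Type*) [Field F] [Fintype F] :
    ∃ p : ℕ, ∃ _ : Fact p.Prime, CharP F p := by
  obtain ⟨p, hp⟩ := CharP.exists F
  have : Fact p.Prime := ⟨CharP.char_is_prime F p⟩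
  exact ⟨p, this, hp⟩

/-- **the automorphism group of `Ω_{2m+1}(q)`, `q` odd, `m ≥ 3`.** -/
theorem gammaPOmega_odd (h2 : (2 : F) ≠ 0) {m : ℕ} (hm : 3 ≤ m) :
    Cfsg.gammaPOmega F (Cfsg.quadFormOdd m F) = ⊤ := by
  obtain ⟨p, hp, hc⟩ := exists_char F
  have e : ⇑(oddForm F m) = Cfsg.quadFormOdd m F := funext (oddForm_apply F m)
  have hcard : Fintype.card (Unit ⊕ (Fin m ⊕ Fin m)) = 2 * m + 1 := by
    simp only [Fintype.card_sum, Fintype.card_unique, Fintype.card_fin]; ring
  rw [← e]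
  apply gammaPOmega_eq_top (oddForm F m) (oddForm_nondeg F m h2) (by rw [hcard]; omega) p
  by_cases h4 : 4 ≤ m
  · left; rw [hcard]; omega
  · right
    apply noB2_of_finrank ((nondeg_iff _).mp (oddForm_nondeg F m h2))
    rw [finrank_odd]; omega

/-- **the automorphism group of `PΩ⁺_{2m}(q)`, `m ≥ 5`.** -/
theorem gammaPOmega_plus {m : ℕ} (hm : 5 ≤ m) :
    Cfsg.gammaPOmega F (Cfsg.quadFormPlus m F) = ⊤ := by
  obtain ⟨p, hp, hc⟩ := exists_char F
  have e : ⇑(plusForm F m) = Cfsg.quadFormPlus m F := funext (plusForm_apply F m)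
  have hcard : Fintype.card (Fin m ⊕ Fin m) = 2 * m := by
    simp only [Fintype.card_sum, Fintype.card_fin]; ring
  rw [← e]
  exact gammaPOmega_eq_top (plusForm F m) (plusForm_nondeg F m) (by rw [hcard]; omega) p
    (Or.inl (by rw [hcard]; omega))

/-- **the automorphism group of `PΩ⁻_{2m+2}(q)`, `m ≥ 3`.** -/
theorem gammaPOmega_minus {m : ℕ} (hm : 3 ≤ m) (a b : F)
    (hab : ∀ z₁ z₂ : F, z₁ ^ 2 + a * z₁ * z₂ + b * z₂ ^ 2 = 0 → z₁ = 0 ∧ z₂ = 0) :
    Cfsg.gammaPOmega F (Cfsg.quadFormMinus m F a b) = ⊤ := by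
  obtain ⟨p, hp, hc⟩ := exists_char F
  have e : ⇑(minusForm F m a b) = Cfsg.quadFormMinus m F a b := funext (minusForm_apply F m a b)
  have hcard : Fintype.card ((Fin m ⊕ Fin m) ⊕ Fin 2) = 2 * m + 2 := by
    simp only [Fintype.card_sum, Fintype.card_fin]; ring
  rw [← e]
  apply gammaPOmega_eq_top (minusForm F m a b) (minusForm_nondeg F m hab) (by rw [hcard]; omega) p
  by_cases h4 : 4 ≤ m
  · left; rw [hcard]; omega
  · right
    obtain rfl : m = 3 := by omega
    exact noB2_minus hab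

end Cfsg.Agent.Helper8.AutO
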