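import Mathlib
import Cfsg.Agent.Helper8.AutOr

set_option autoImplicit false

/-!
# Automorphisms of orthogonal groups, part u: the group of semilinear similarities and its action
on the Siegel group
-/

namespace Cfsg.Agent.Helper8.AutO

open Module Cfsg.Agent.Helper8.QuadForm Cfsg.Agent.Helper8.WittQuad Cfsg.Agent.Helper8.OrthOrder
  Cfsg.Agent.Helper8.Siegel Cfsg.Agent.Helper8.SiegelGeom Cfsg.Agent.Helper8.SiegelGroup
  Cfsg.Agent.Helper8.SiegelPrim Cfsg.Agent.Helper8.SiegelSimple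

variable {F : Type*} [Field F] {V : Type*} [AddCommGroup V] [Module F V] {Q : QuadraticForm F V}

theorem SemiSim.one : SemiSim Q (fun x => x) (1 : F ≃+* F) 1 :=
  ⟨one_ne_zero, fun _ _ => rfl, fun c x => by rw [RingAut.one_apply],
    fun x => by rw [RingAut.one_apply, one_mul], Function.bijective_id⟩

theorem SemiSim.comp {g g' : V → V} {σ σ' : F ≃+* F} {lam lam' : F} (hg : SemiSim Q g σ lam)
    (hg' : SemiSim Q g' σ' lam') : SemiSim Q (fun x => g (g' x)) (σ * σ') (lam * σ lam') :=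
  ⟨mul_ne_zero hg.lam_ne (fun h => hg'.lam_ne (σ.injective (h.trans (_root_.map_zero σ).symm))),
    fun x y => by rw [hg'.add, hg.add],
    fun c x => by rw [hg'.smul, hg.smul, RingAut.mul_apply],
    fun x => by rw [hg.map_Q, hg'.map_Q, _root_.map_mul, RingAut.mul_apply, mul_assoc],
    hg.bij.comp hg'.bij⟩

theorem SemiSim.symm {e : V ≃ V} {σ : F ≃+* F} {lam : F} (hg : SemiSim Q e σ lam) :
    SemiSim Q e.symm σ⁻¹ (σ⁻¹ lam⁻¹) := by
  refine ⟨fun h => ?_, fun x y => ?_, fun c x => ?_, fun x => ?_, e.symm.bijective⟩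
  · have h1 : lam⁻¹ = 0 := (σ⁻¹).injective (h.trans (_root_.map_zero _).symm)
    exact hg.lam_ne (inv_eq_zero.mp h1)
  · apply e.injective
    rw [hg.add, e.apply_symm_apply, e.apply_symm_apply, e.apply_symm_apply]
  · apply e.injective
    rw [hg.smul, e.apply_symm_apply, e.apply_symm_apply, RingAut.inv_apply, σ.apply_symm_apply]
  · have h1 := hg.map_Q (e.symm x)
    rw [e.apply_symm_apply] at h1
    rw [← _root_.map_mul, h1, ← mul_assoc, inv_mul_cancel₀ hg.lam_ne, one_mul, RingAut.inv_apply,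
      σ.symm_apply_apply]

/-- the field automorphism of a semilinear similarity is determined by the map. -/
theorem SemiSim.sigma_unique [Nontrivial V] {g : V → V} {σ σ' : F ≃+* F} {lam lam' : F}
    (hg : SemiSim Q g σ lam) (hg' : SemiSim Q g σ' lam') : σ = σ' := by
  obtain ⟨x, hx⟩ := exists_ne (0 : V)
  ext c
  have h1 := hg.smul c x
  rw [hg'.smul] at h1
  have h2 : (σ' c - σ c) • g x = 0 := by rw [sub_smul, h1, sub_self]
  rcases smul_eq_zero.mp h2 with h | h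
  · exact (sub_eq_zero.mp h).symm
  · exact absurd h (hg.ne_zero hx)

/-- the group of semilinear similarities of a quadratic space. -/
def GammaO (Q : QuadraticForm F V) : Subgroup (Equiv.Perm V) where
  carrier := {γ | ∃ (σ : F ≃+* F) (lam : F), SemiSim Q γ σ lam}
  mul_mem' := by
    rintro a b ⟨σ, lam, h⟩ ⟨σ', lam', h'⟩
    exact ⟨σ * σ', lam * σ lam', h.comp h'⟩
  one_mem' := ⟨1, 1, SemiSim.one⟩
  inv_mem' := by
    rintro a ⟨σ, lam, h⟩
    exact ⟨σ⁻¹, σ⁻¹ lam⁻¹, h.symm⟩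

/-- the action on vectors. -/
def gap (γ : ↥(GammaO Q)) : V → V := fun x => (γ : Equiv.Perm V) x

theorem gap_mul (γ δ : ↥(GammaO Q)) (x : V) : gap (γ * δ) x = gap γ (gap δ x) := rfl

theorem gap_one (x : V) : gap (1 : ↥(GammaO Q)) x = x := rfl

theorem gap_inv_gap (γ : ↥(GammaO Q)) (x : V) : gap γ⁻¹ (gap γ x) = x :=
  (γ : Equiv.Perm V).symm_apply_apply x

theorem gap_gap_inv (γ : ↥(GammaO Q)) (x : V) : gap γ (gap γ⁻¹ x) = x :=
  (γ : Equiv.Perm V).apply_symm_apply x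

theorem ext_gap {γ δ : ↥(GammaO Q)} (h : ∀ x, gap γ x = gap δ x) : γ = δ :=
  Subtype.ext (Equiv.ext h)

/-- the field automorphism of a semilinear similarity. -/
noncomputable def sigmaOf (γ : ↥(GammaO Q)) : F ≃+* F := Classical.choose γ.2

/-- the multiplier of a semilinear similarity. -/
noncomputable def lamOf (γ : ↥(GammaO Q)) : F := Classical.choose (Classical.choose_spec γ.2)

theorem semiSim_gap (γ : ↥(GammaO Q)) : SemiSim Q (gap γ) (sigmaOf γ) (lamOf γ) :=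
  Classical.choose_spec (Classical.choose_spec γ.2)

theorem sigmaOf_eq [Nontrivial V] {γ : ↥(GammaO Q)} {σ : F ≃+* F} {lam : F}
    (h : SemiSim Q (gap γ) σ lam) : sigmaOf γ = σ :=
  (semiSim_gap γ).sigma_unique h

/-- the field automorphism, as a homomorphism. -/
noncomputable def tau [Nontrivial V] : ↥(GammaO Q) →* (F ≃+* F) :=
  MonoidHom.mk' sigmaOf (fun γ δ => sigmaOf_eq ((semiSim_gap γ).comp (semiSim_gap δ)))

theorem tau_eq [Nontrivial V] {γ : ↥(GammaO Q)} {σ : F ≃+* F} {lam : F}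
    (h : SemiSim Q (gap γ) σ lam) : tau γ = σ := sigmaOf_eq h

theorem semiSim_tau [Nontrivial V] (γ : ↥(GammaO Q)) : SemiSim Q (gap γ) (tau γ) (lamOf γ) :=
  semiSim_gap γ

/-- a semilinear similarity as an element of the group. -/
noncomputable def mkGamma {g : V → V} {σ : F ≃+* F} {lam : F} (hg : SemiSim Q g σ lam) :
    ↥(GammaO Q) :=
  ⟨Equiv.ofBijective g hg.bij, σ, lam, hg⟩

theorem gap_mkGamma {g : V → V} {σ : F ≃+* F} {lam : F} (hg : SemiSim Q g σ lam) (x : V) :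
    gap (mkGamma hg) x = g x := rfl

/-- conjugation of a Siegel transformation by a semilinear similarity. -/
theorem SemiSim.conj_sieg {g : V → V} {σ : F ≃+* F} {lam : F} (hg : SemiSim Q g σ lam) {u w : V}
    (hu : Q u = 0) (huw : QuadraticMap.polar Q u w = 0) (y : V) :
    g (siegE Q u w y) = siegE Q (g u) (lam⁻¹ • g w) (g y) := by
  have hu' : Q (g u) = 0 := hg.sing hu
  have huw' : QuadraticMap.polar Q (g u) (lam⁻¹ • g w) = 0 := by
    rw [QuadraticMap.polar_smul_right, hg.polar, huw, _root_.map_zero, mul_zero, smul_zero]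
  rw [siegE_apply Q hu huw, sieg_apply, siegE_apply Q hu' huw', sieg_apply, hg.map_sub,
    hg.map_sub, hg.add, hg.smul, hg.smul, hg.smul, QuadraticMap.polar_smul_right, hg.polar,
    hg.polar, QuadraticMap.map_smul, hg.map_Q, _root_.map_mul]
  have hl := hg.lam_ne
  have e1 : lam⁻¹ • (lam * σ (QuadraticMap.polar Q y w)) = σ (QuadraticMap.polar Q y w) := by
    rw [smul_eq_mul, inv_mul_cancel_left₀ hl]
  have e2 : (lam * σ (QuadraticMap.polar Q y u)) • lam⁻¹ • g w
      = σ (QuadraticMap.polar Q y u) • g w := by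
    rw [smul_smul, mul_comm lam, mul_assoc, mul_inv_cancel₀ hl, mul_one]
  have e3 : (lam⁻¹ * lam⁻¹) • (lam * σ (Q w)) * (lam * σ (QuadraticMap.polar Q y u))
      = σ (Q w) * σ (QuadraticMap.polar Q y u) := by
    rw [smul_eq_mul]
    field_simp
  rw [e1, e2, e3]

/-- the conjugate of a linear automorphism by a semilinear similarity. -/
noncomputable def conjLE (γ : ↥(GammaO Q)) (h : V ≃ₗ[F] V) : V ≃ₗ[F] V where
  toFun x := gap γ (h (gap γ⁻¹ x))
  invFun x := gap γ (h.symm (gap γ⁻¹ x))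
  map_add' x y := by
    rw [(semiSim_gap γ⁻¹).add, map_add, (semiSim_gap γ).add]
  map_smul' c x := by
    obtain ⟨σ, lam, hg⟩ := γ.2
    have hg' : SemiSim Q (gap γ⁻¹) σ⁻¹ (σ⁻¹ lam⁻¹) := hg.symm
    have hg2 : SemiSim Q (gap γ) σ lam := hg
    rw [hg'.smul, map_smul, hg2.smul, RingAut.inv_apply, σ.apply_symm_apply, RingHom.id_apply]
  left_inv x := by
    show gap γ (h.symm (gap γ⁻¹ (gap γ (h (gap γ⁻¹ x))))) = x
    rw [gap_inv_gap, h.symm_apply_apply, gap_gap_inv]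
  right_inv x := by
    show gap γ (h (gap γ⁻¹ (gap γ (h.symm (gap γ⁻¹ x))))) = x
    rw [gap_inv_gap, h.apply_symm_apply, gap_gap_inv]

theorem conjLE_apply (γ : ↥(GammaO Q)) (h : V ≃ₗ[F] V) (x : V) :
    conjLE γ h x = gap γ (h (gap γ⁻¹ x)) := rfl

theorem conjLE_mem (γ : ↥(GammaO Q)) {h : V ≃ₗ[F] V} (hh : h ∈ Isom Q) : conjLE γ h ∈ Isom Q := by
  intro x
  have h1 := (semiSim_gap γ).map_Q (h (gap γ⁻¹ x))
  have h2 := (semiSim_gap γ).map_Q (gap γ⁻¹ x)
  rw [gap_gap_inv] at h2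
  rw [conjLE_apply, h1, hh, ← h2]

/-- the conjugate of an isometry by a semilinear similarity. -/
noncomputable def conjI (γ : ↥(GammaO Q)) (h : ↥(Isom Q)) : ↥(Isom Q) :=
  ⟨conjLE γ h, conjLE_mem γ h.2⟩

theorem conjI_apply (γ : ↥(GammaO Q)) (h : ↥(Isom Q)) (x : V) :
    ((conjI γ h : ↥(Isom Q)) : V ≃ₗ[F] V) x = gap γ ((h : V ≃ₗ[F] V) (gap γ⁻¹ x)) := rfl

theorem conjI_mul (γ : ↥(GammaO Q)) (h h' : ↥(Isom Q)) :
    conjI γ (h * h') = conjI γ h * conjI γ h' := by
  apply Subtype.ext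
  apply LinearEquiv.ext
  intro x
  show gap γ ((h : V ≃ₗ[F] V) ((h' : V ≃ₗ[F] V) (gap γ⁻¹ x)))
    = gap γ ((h : V ≃ₗ[F] V) (gap γ⁻¹ (gap γ ((h' : V ≃ₗ[F] V) (gap γ⁻¹ x)))))
  rw [gap_inv_gap]

theorem conjI_one (γ : ↥(GammaO Q)) : conjI γ (1 : ↥(Isom Q)) = 1 := by
  apply Subtype.ext
  apply LinearEquiv.ext
  intro x
  show gap γ (gap γ⁻¹ x) = x
  rw [gap_gap_inv]

theorem conjI_inv (γ : ↥(GammaO Q)) (h : ↥(Isom Q)) : conjI γ h⁻¹ = (conjI γ h)⁻¹ := by
  rw [eq_inv_iff_mul_eq_one, ← conjI_mul, inv_mul_cancel, conjI_one]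

theorem conjI_siegG (γ : ↥(GammaO Q)) {u w : V} (hu : Q u = 0)
    (huw : QuadraticMap.polar Q u w = 0) :
    conjI γ (siegG Q u w) = siegG Q (gap γ u) ((lamOf γ)⁻¹ • gap γ w) := by
  apply Subtype.ext
  apply LinearEquiv.ext
  intro x
  show gap γ (siegE Q u w (gap γ⁻¹ x)) = siegE Q (gap γ u) ((lamOf γ)⁻¹ • gap γ w) x
  rw [(semiSim_gap γ).conj_sieg hu huw, gap_gap_inv]

theorem conjI_mem_SG (γ : ↥(GammaO Q)) {h : ↥(Isom Q)} (hh : h ∈ SG Q) : conjI γ h ∈ SG Q := by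
  unfold SG SGW at hh
  induction hh using Subgroup.closure_induction with
  | mem n hn =>
    obtain ⟨c, -, w, -, hc, hcw, rfl⟩ := hn
    rw [conjI_siegG γ hc hcw]
    apply siegG_mem_SG
    · exact (semiSim_gap γ).sing hc
    · rw [QuadraticMap.polar_smul_right, (semiSim_gap γ).polar, hcw, _root_.map_zero, mul_zero,
        smul_zero]
  | one => rw [conjI_one]; exact (SG Q).one_mem
  | mul a b _ _ iha ihb => rw [conjI_mul]; exact (SG Q).mul_mem iha ihb
  | inv a _ iha => rw [conjI_inv]; exact (SG Q).inv_mem iha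

/-- the conjugate of an element of the Siegel group by a semilinear similarity. -/
noncomputable def conjS (γ : ↥(GammaO Q)) (h : ↥(SG Q)) : ↥(SG Q) :=
  ⟨conjI γ h, conjI_mem_SG γ h.2⟩

theorem ap_conjS (γ : ↥(GammaO Q)) (h : ↥(SG Q)) (x : V) :
    ap (conjS γ h) x = gap γ (ap h (gap γ⁻¹ x)) := rfl

theorem ap_conjS_gap (γ : ↥(GammaO Q)) (h : ↥(SG Q)) (x : V) :
    ap (conjS γ h) (gap γ x) = gap γ (ap h x) := by
  rw [ap_conjS, gap_inv_gap]

theorem conjS_mul_left (γ δ : ↥(GammaO Q)) (h : ↥(SG Q)) :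
    conjS (γ * δ) h = conjS γ (conjS δ h) := by
  apply ext_ap
  intro x
  rw [ap_conjS, ap_conjS, ap_conjS, mul_inv_rev, gap_mul, gap_mul]

theorem conjS_one_left (h : ↥(SG Q)) : conjS (1 : ↥(GammaO Q)) h = h := by
  apply ext_ap
  intro x
  rw [ap_conjS, inv_one, gap_one, gap_one]

theorem conjS_mul (γ : ↥(GammaO Q)) (h h' : ↥(SG Q)) :
    conjS γ (h * h') = conjS γ h * conjS γ h' := by
  apply ext_ap
  intro x
  rw [ap_mul, ap_conjS, ap_conjS, ap_conjS, ap_mul, gap_inv_gap]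

/-- the action of the semilinear similarities on the Siegel group. -/
noncomputable def conjSG : ↥(GammaO Q) →* MulAut ↥(SG Q) where
  toFun γ :=
    { toFun := conjS γ
      invFun := conjS γ⁻¹
      left_inv := fun h => by rw [← conjS_mul_left, inv_mul_cancel, conjS_one_left]
      right_inv := fun h => by rw [← conjS_mul_left, mul_inv_cancel, conjS_one_left]
      map_mul' := conjS_mul γ }
  map_one' := by
    apply MulEquiv.ext
    intro h
    exact conjS_one_left h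
  map_mul' γ δ := by
    apply MulEquiv.ext
    intro h
    exact conjS_mul_left γ δ h

theorem conjSG_apply (γ : ↥(GammaO Q)) (h : ↥(SG Q)) : conjSG γ h = conjS γ h := rfl

theorem conjS_sgT (γ : ↥(GammaO Q)) {u w : V} (hu : Q u = 0)
    (huw : QuadraticMap.polar Q u w = 0) :
    conjS γ (sgT Q u w) = sgT Q (gap γ u) ((lamOf γ)⁻¹ • gap γ w) := by
  apply Subtype.ext
  exact conjI_siegG γ hu huw

end Cfsg.Agent.Helper8.AutO
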