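import Mathlib
import Cfsg.Agent.Helper8.AutOu
import Cfsg.Agent.Helper8.AutImage

set_option autoImplicit false

/-!
# Automorphisms of orthogonal groups, part v: the automorphism group of the projective Siegel
group as the quotient of the group of semilinear similarities by the scalars
-/

namespace Cfsg.Agent.Helper8.AutO

open Module Cfsg.Agent.Helper8.QuadForm Cfsg.Agent.Helper8.WittQuad Cfsg.Agent.Helper8.OrthOrder
  Cfsg.Agent.Helper8.Siegel Cfsg.Agent.Helper8.SiegelGeom Cfsg.Agent.Helper8.SiegelGroup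
  Cfsg.Agent.Helper8.SiegelPrim Cfsg.Agent.Helper8.SiegelSimple Cfsg.Agent.Helper8.AutImage

variable {F : Type*} [Field F] {V : Type*} [AddCommGroup V] [Module F V] {Q : QuadraticForm F V}

/-- the action of the semilinear similarities on the projective Siegel group. -/
noncomputable def Psi : ↥(GammaO Q) →* MulAut (PG Q) := quotCenter.comp conjSG

theorem Psi_pr (γ : ↥(GammaO Q)) (h : ↥(SG Q)) : Psi γ (pr h) = pr (conjS γ h) := rfl

/-- scalars as semilinear similarities. -/
theorem semiSim_smul {c : F} (hc : c ≠ 0) : SemiSim Q (fun x => c • x) (1 : F ≃+* F) (c * c) :=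
  ⟨mul_ne_zero hc hc, fun x y => smul_add c x y,
    fun a x => by rw [RingAut.one_apply, smul_comm],
    fun x => by rw [QuadraticMap.map_smul, RingAut.one_apply, smul_eq_mul],
    ⟨fun x y h => smul_right_injective V hc h,
      fun y => ⟨c⁻¹ • y, by show c • c⁻¹ • y = y; rw [smul_smul, mul_inv_cancel₀ hc, one_smul]⟩⟩⟩

/-- the scalars, as a homomorphism. -/
noncomputable def scalarGamma : Fˣ →* ↥(GammaO Q) where
  toFun c := mkGamma (semiSim_smul (Q := Q) c.ne_zero)
  map_one' := by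
    apply ext_gap
    intro x
    rw [gap_mkGamma, Units.val_one, one_smul, gap_one]
  map_mul' a b := by
    apply ext_gap
    intro x
    rw [gap_mul, gap_mkGamma, gap_mkGamma, gap_mkGamma, Units.val_mul, mul_smul]

theorem gap_scalarGamma (c : Fˣ) (x : V) : gap (scalarGamma (Q := Q) c) x = (c : F) • x := rfl

theorem scalarGamma_injective [Nontrivial V] :
    Function.Injective (scalarGamma : Fˣ →* ↥(GammaO Q)) := by
  intro a b h
  obtain ⟨x, hx⟩ := exists_ne (0 : V)
  have h1 : gap (scalarGamma (Q := Q) a) x = gap (scalarGamma (Q := Q) b) x := by rw [h]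
  rw [gap_scalarGamma, gap_scalarGamma] at h1
  have h2 : ((a : F) - (b : F)) • x = 0 := by rw [sub_smul, h1, sub_self]
  rcases smul_eq_zero.mp h2 with h3 | h3
  · exact Units.ext (sub_eq_zero.mp h3)
  · exact absurd h3 hx

theorem scalarGamma_le_ker : (scalarGamma : Fˣ →* ↥(GammaO Q)).range ≤ (Psi (Q := Q)).ker := by
  rintro _ ⟨c, rfl⟩
  rw [MonoidHom.mem_ker]
  apply MulEquiv.ext
  intro y
  obtain ⟨h, rfl⟩ := pr_surjective y
  rw [Psi_pr, MulAut.one_apply]
  congr 1
  apply ext_ap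
  intro x
  have h1 : gap (scalarGamma (Q := Q) c)⁻¹ x = ((c⁻¹ : Fˣ) : F) • x := by
    rw [← map_inv, gap_scalarGamma]
  rw [ap_conjS, gap_scalarGamma, h1, map_smul, smul_smul, ← Units.val_mul, mul_inv_cancel,
    Units.val_one, one_smul]

section Fin

variable [Fintype F] [FiniteDimensional F V] (hQ : Nondeg Q)

include hQ

/-- an element of the kernel fixes every singular point. -/
theorem fix_of_Psi_eq_one (h5 : 5 ≤ finrank F V) (p : ℕ) [Fact p.Prime] [CharP F p]
    {γ : ↥(GammaO Q)} (hγ : Psi γ = 1) {u : V} (hu0 : u ≠ 0) (hu : Q u = 0) :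
    gap γ u ∈ Submodule.span F {u} := by
  have hg := semiSim_gap γ
  apply mem_span_of_rootSub_le hQ h5 hu0 hu (hg.ne_zero hu0) (hg.sing hu)
  intro s hs
  obtain ⟨w, hw, rfl⟩ := (mem_rootSub_iff u s).mp hs
  have h1 : pr (conjS γ (sgT Q u w)) = pr (sgT Q u w) := by
    rw [← Psi_pr, hγ, MulAut.one_apply]
  have h2 : (sgT Q u w) ^ (p ^ 1) = 1 := by rw [pow_one]; exact sgT_pow_char p hw
  have h3 : (conjS γ (sgT Q u w)) ^ (p ^ 1) = 1 := by
    rw [← conjSG_apply, ← map_pow, h2, map_one]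
  have h4 := eq_of_pr_eq hQ h5 p h3 h2 h1
  rw [← h4, conjS_sgT γ hu hw]
  apply sgT_mem_rootSub
  rw [QuadraticMap.polar_smul_right, hg.polar, hw, _root_.map_zero, mul_zero, smul_zero]

/-- **the kernel of the action consists of the scalars.** -/
theorem exists_scalar_of_Psi_eq_one (h5 : 5 ≤ finrank F V) (p : ℕ) [Fact p.Prime] [CharP F p]
    {γ : ↥(GammaO Q)} (hγ : Psi γ = 1) : ∃ c : Fˣ, γ = scalarGamma c := by
  have hg := semiSim_gap γ
  obtain ⟨σ, hσ⟩ : ∃ σ, σ = sigmaOf γ := ⟨_, rfl⟩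
  rw [← hσ] at hg
  have hfix : ∀ u, u ≠ 0 → Q u = 0 → ∃ t : F, gap γ u = t • u := by
    intro u hu0 hu
    obtain ⟨t, ht⟩ := Submodule.mem_span_singleton.mp (fix_of_Psi_eq_one hQ h5 p hγ hu0 hu)
    exact ⟨t, ht.symm⟩
  -- the field automorphism is trivial
  have hσ1 : ∀ c, σ c = c := by
    intro c
    obtain ⟨u, hu0, hu⟩ := exists_singular Q (show 3 ≤ finrank F V by omega)
    obtain ⟨e, f, h1, -, -⟩ := exists_two_ts hQ h5 hu0 hu
    obtain ⟨a, ha⟩ := hfix u hu0 hu
    obtain ⟨b, hb⟩ := hfix e h1.b_ne h1.qb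
    have key : ∀ c : F, σ c * b = a * c := by
      intro c
      have hne : u + c • e ≠ 0 := by
        intro h0
        have := h1.eq_zero_of_comb (s := 1) (t := c) (by rw [one_smul]; exact h0)
        exact one_ne_zero this.1
      have hq : Q (u + c • e) = 0 := by
        have := h1.Q_comb 1 c
        rwa [one_smul] at this
      obtain ⟨t, ht⟩ := hfix _ hne hq
      rw [hg.add, hg.smul, ha, hb, smul_add, smul_smul, smul_smul] at ht
      have h0 : (a - t) • u + (σ c * b - t * c) • e = 0 := by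
        rw [sub_smul, sub_smul]
        rw [← sub_eq_zero] at ht
        rw [← ht]
        abel
      obtain ⟨e1, e2⟩ := h1.eq_zero_of_comb h0
      rw [sub_eq_zero] at e1 e2
      rw [e2, e1]
    have k1 := key 1
    rw [_root_.map_one, one_mul, mul_one] at k1
    have ha0 : a ≠ 0 := by
      intro h0
      rw [h0, zero_smul] at ha
      exact hg.ne_zero hu0 ha
    have k2 := key c
    rw [k1, mul_comm] at k2
    exact mul_left_cancel₀ ha0 k2
  -- hence the map is linear, and a scalar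
  let T : V →ₗ[F] V :=
    { toFun := gap γ
      map_add' := hg.add
      map_smul' := fun c x => by rw [hg.smul, hσ1, RingHom.id_apply] }
  obtain ⟨TE, hTE⟩ : ∃ TE : V ≃ₗ[F] V, ∀ x, TE x = gap γ x :=
    ⟨LinearEquiv.ofBijective T hg.bij, fun x => rfl⟩
  obtain ⟨l, hl⟩ := exists_scalar_of_fix Q hQ h5 TE (by
    intro u hu0 hu
    rw [hTE]
    exact hfix u hu0 hu)
  have hl0 : l ≠ 0 := by
    intro h0
    obtain ⟨u, hu0, -⟩ := exists_singular Q (show 3 ≤ finrank F V by omega)
    have := hl u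
    rw [hTE, h0, zero_smul] at this
    exact hg.ne_zero hu0 this
  refine ⟨Units.mk0 l hl0, ?_⟩
  apply ext_gap
  intro x
  rw [gap_scalarGamma, Units.val_mk0, ← hl, hTE]

theorem ker_Psi (h5 : 5 ≤ finrank F V) (p : ℕ) [Fact p.Prime] [CharP F p] :
    (Psi (Q := Q)).ker = (scalarGamma : Fˣ →* ↥(GammaO Q)).range := by
  apply le_antisymm
  · intro γ hγ
    obtain ⟨c, rfl⟩ := exists_scalar_of_Psi_eq_one hQ h5 p (MonoidHom.mem_ker.mp hγ)
    exact ⟨c, rfl⟩
  · exact scalarGamma_le_ker

/-- **every automorphism of the projective Siegel group is induced by a semilinear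
similarity.** -/
theorem Psi_surjective (h7 : 7 ≤ finrank F V) (p : ℕ) [Fact p.Prime] [CharP F p]
    (hB2 : 9 ≤ finrank F V ∨ NoB2 Q) : Function.Surjective (Psi (Q := Q)) := by
  intro β
  obtain ⟨σ, lam, g, hg, H⟩ := aut_PG_semilinear hQ h7 p hB2 β
  refine ⟨mkGamma hg, ?_⟩
  apply MulEquiv.ext
  intro y
  obtain ⟨h, rfl⟩ := pr_surjective y
  rw [Psi_pr]
  symm
  apply H
  intro x
  have := ap_conjS_gap (mkGamma hg) h x
  rwa [gap_mkGamma] at this

end Fin

end Cfsg.Agent.Helper8.AutO
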