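import Mathlib
import Cfsg.Agent.Helper8.AutOv
import Cfsg.Agent.Helper8.AutOs
import Cfsg.Agent.Helper8.AutImagePsi

set_option autoImplicit false

/-!
# Automorphisms of orthogonal groups, part w: the order of the automorphism group of `PΩ(Q)` for a
matrix quadratic form
-/

namespace Cfsg.Agent.Helper8.AutO

open Module Matrix Cfsg.Agent.Helper8.QuadForm Cfsg.Agent.Helper8.WittQuad
  Cfsg.Agent.Helper8.OrthOrder
  Cfsg.Agent.Helper8.Siegel Cfsg.Agent.Helper8.SiegelGeom Cfsg.Agent.Helper8.SiegelGroup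
  Cfsg.Agent.Helper8.SiegelPrim Cfsg.Agent.Helper8.SiegelSimple Cfsg.Agent.Helper8.ReflMatrix
  Cfsg.Agent.Helper8.OmegaSimple Cfsg.Agent.Helper8.AutImagePsi

section Abstract

variable {F : Type*} [Field F] [Fintype F] {V : Type*} [AddCommGroup V] [Module F V]
  [FiniteDimensional F V] {Q : QuadraticForm F V}

theorem nontrivial_of_finrank (h7 : 7 ≤ finrank F V) : Nontrivial V :=
  Module.nontrivial_of_finrank_pos (R := F) (by omega)

instance finite_GammaO : Finite ↥(GammaO Q) := by
  haveI : Finite V := Module.finite_of_finite F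
  exact Subtype.finite

/-- **the order of the automorphism group of the projective Siegel group.** -/
theorem card_aut_PG (hQ : Nondeg Q) (h7 : 7 ≤ finrank F V) (p : ℕ) [Fact p.Prime] [CharP F p]
    (hB2 : 9 ≤ finrank F V ∨ NoB2 Q) :
    Nat.card (MulAut (PG Q)) * (Fintype.card F - 1) = Nat.card ↥(GammaO Q) := by
  haveI := nontrivial_of_finrank h7
  have h1 := Subgroup.card_eq_card_quotient_mul_card_subgroup (Psi (Q := Q)).ker
  have h2 : Nat.card (↥(GammaO Q) ⧸ (Psi (Q := Q)).ker) = Nat.card (MulAut (PG Q)) :=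
    Nat.card_congr (QuotientGroup.quotientKerEquivOfSurjective _
      (Psi_surjective hQ h7 p hB2)).toEquiv
  have h3 : Nat.card (Psi (Q := Q)).ker = Fintype.card F - 1 := by
    rw [ker_Psi hQ (by omega) p, ← Nat.card_eq_fintype_card, ← Nat.card_units]
    exact (Nat.card_congr (MonoidHom.ofInjective scalarGamma_injective).toEquiv).symm
  rw [h1, h2, h3]

/-- the order of the group of semilinear similarities. -/
theorem card_GammaO [Nontrivial V] :
    Nat.card ↥(GammaO Q) = Nat.card (tau (Q := Q)).ker * Nat.card (tau (Q := Q)).range := by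
  rw [Subgroup.card_eq_card_quotient_mul_card_subgroup (tau (Q := Q)).ker, mul_comm]
  congr 1
  exact Nat.card_congr (QuotientGroup.quotientKerEquivRange _).toEquiv

end Abstract

section Matrix

variable {F : Type*} [Field F] [Fintype F] {ι : Type} [Fintype ι] [DecidableEq ι]
  (Q : QuadraticForm F (ι → F))

theorem semiSim_mulVec {g : GL ι F} {c : Fˣ}
    (hc : ∀ v, Q ((g : Matrix ι ι F) *ᵥ v) = (c : F) * Q v) :
    SemiSim Q (fun v => (g : Matrix ι ι F) *ᵥ v) (1 : F ≃+* F) (c : F) :=
  ⟨c.ne_zero, fun x y => mulVec_add _ x y, fun a x => by rw [RingAut.one_apply, mulVec_smul],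
    fun x => by rw [RingAut.one_apply, hc], by
      have h1 : ((g⁻¹ : GL ι F) : Matrix ι ι F) * (g : Matrix ι ι F) = 1 := by
        rw [← Units.val_mul, inv_mul_cancel, Units.val_one]
      have h2 : (g : Matrix ι ι F) * ((g⁻¹ : GL ι F) : Matrix ι ι F) = 1 := by
        rw [← Units.val_mul, mul_inv_cancel, Units.val_one]
      constructor
      · intro x y hxy
        have := congrArg (fun v => ((g⁻¹ : GL ι F) : Matrix ι ι F) *ᵥ v) hxy
        simpa only [mulVec_mulVec, h1, one_mulVec] using this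
      · intro y
        exact ⟨((g⁻¹ : GL ι F) : Matrix ι ι F) *ᵥ y, by
          show (g : Matrix ι ι F) *ᵥ (((g⁻¹ : GL ι F) : Matrix ι ι F) *ᵥ y) = y
          rw [mulVec_mulVec, h2, one_mulVec]⟩⟩

/-- a similarity matrix as a semilinear similarity. -/
noncomputable def simGammaFun (g : ↥(Cfsg.Geo.quadSimilarityGroup (F := F) ⇑Q)) : ↥(GammaO Q) :=
  mkGamma (semiSim_mulVec Q (Classical.choose_spec g.2))

theorem gap_simGammaFun (g : ↥(Cfsg.Geo.quadSimilarityGroup (F := F) ⇑Q)) (v : ι → F) :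
    gap (simGammaFun Q g) v = ((g : GL ι F) : Matrix ι ι F) *ᵥ v := rfl

/-- the similarity matrices as semilinear similarities. -/
noncomputable def simGamma : ↥(Cfsg.Geo.quadSimilarityGroup (F := F) ⇑Q) →* ↥(GammaO Q) where
  toFun := simGammaFun Q
  map_one' := by
    apply ext_gap
    intro v
    rw [gap_simGammaFun, gap_one, Subgroup.coe_one, Units.val_one, one_mulVec]
  map_mul' a b := by
    apply ext_gap
    intro v
    rw [gap_mul, gap_simGammaFun, gap_simGammaFun, gap_simGammaFun, Subgroup.coe_mul,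
      Units.val_mul, mulVec_mulVec]

theorem gap_simGamma (g : ↥(Cfsg.Geo.quadSimilarityGroup (F := F) ⇑Q)) (v : ι → F) :
    gap (simGamma Q g) v = ((g : GL ι F) : Matrix ι ι F) *ᵥ v := rfl

theorem simGamma_injective : Function.Injective (simGamma Q) := by
  intro a b hab
  apply Subtype.ext
  apply Units.ext
  apply Matrix.toLin'.injective
  apply LinearMap.ext
  intro v
  rw [Matrix.toLin'_apply, Matrix.toLin'_apply, ← gap_simGamma, ← gap_simGamma, hab]

variable [Nontrivial (ι → F)]

theorem tau_simGamma (g : ↥(Cfsg.Geo.quadSimilarityGroup (F := F) ⇑Q)) :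
    tau (simGamma Q g) = 1 :=
  tau_eq (semiSim_mulVec Q (Classical.choose_spec g.2))

/-- the kernel of the field automorphism map consists of the similarity matrices. -/
theorem ker_tau : (tau (Q := Q)).ker = (simGamma Q).range := by
  apply le_antisymm
  · intro γ hγ
    have hg := semiSim_tau γ
    rw [MonoidHom.mem_ker.mp hγ] at hg
    obtain ⟨M, hM⟩ := exists_matrix hg
    have hM' : ∀ v, gap γ v = (M : Matrix ι ι F) *ᵥ v := fun v => by
      rw [hM]
      rfl
    refine ⟨⟨M, Units.mk0 _ hg.lam_ne, fun v => ?_⟩, ?_⟩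
    · rw [← hM', hg.map_Q, RingAut.one_apply, Units.val_mk0]
    · apply ext_gap
      intro v
      rw [gap_simGamma, hM']
  · rintro _ ⟨g, rfl⟩
    exact MonoidHom.mem_ker.mpr (tau_simGamma Q g)

theorem card_ker_tau :
    Nat.card (tau (Q := Q)).ker = Nat.card ↥(Cfsg.Geo.quadSimilarityGroup (F := F) ⇑Q) := by
  rw [ker_tau]
  exact (Nat.card_congr (MonoidHom.ofInjective (simGamma_injective Q)).toEquiv).symm

/-- **the order of the automorphism group of `PΩ(Q)`.** -/
theorem card_aut_POmega (hQ : (QuadraticMap.polarBilin Q).Nondegenerate)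
    (h7 : 7 ≤ Fintype.card ι) (p : ℕ) [Fact p.Prime] [CharP F p]
    (hB2 : 9 ≤ Fintype.card ι ∨ NoB2 Q) :
    Nat.card (MulAut (Cfsg.POmega F ⇑Q)) * (Fintype.card F - 1)
      = Nat.card ↥(Cfsg.Geo.quadSimilarityGroup (F := F) ⇑Q) * Nat.card (tau (Q := Q)).range := by
  have hdim : finrank F (ι → F) = Fintype.card ι := Module.finrank_fintype_fun_eq_card F
  have h1 := card_aut_PG (Q := Q) ((nondeg_iff Q).mp hQ) (by rw [hdim]; exact h7) p
    (by rw [hdim]; exact hB2)
  rw [card_GammaO, card_ker_tau] at h1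
  rw [← h1]
  congr 1
  exact Nat.card_congr (MulAut.congr
    (Cfsg.Agent.Helper8.SL2HermOmega.quotCenterEquiv (omegaEquiv Q hQ (by omega)))).toEquiv

/-- the entrywise action of a field automorphism. -/
theorem semiSim_field (hσ : ∀ (σ : F ≃+* F) (v : ι → F), Q (fun i => σ (v i)) = σ (Q v))
    (σ : F ≃+* F) : SemiSim Q (fun v i => σ (v i)) σ 1 :=
  ⟨one_ne_zero, fun x y => by ext i; simp, fun c x => by ext i; simp,
    fun x => by rw [one_mul]; exact hσ σ x,
    ⟨fun x y h => by
      ext i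
      exact σ.injective (congrFun h i),
      fun y => ⟨fun i => σ.symm (y i), by ext i; simp⟩⟩⟩

/-- the field automorphisms as semilinear similarities. -/
noncomputable def fieldGamma
    (hσ : ∀ (σ : F ≃+* F) (v : ι → F), Q (fun i => σ (v i)) = σ (Q v)) :
    (F ≃+* F) →* ↥(GammaO Q) where
  toFun σ := mkGamma (semiSim_field Q hσ σ)
  map_one' := by
    apply ext_gap
    intro v
    rfl
  map_mul' a b := by
    apply ext_gap
    intro v
    rfl

theorem gap_fieldGamma (hσ : ∀ (σ : F ≃+* F) (v : ι → F), Q (fun i => σ (v i)) = σ (Q v))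
    (σ : F ≃+* F) (v : ι → F) : gap (fieldGamma Q hσ σ) v = fun i => σ (v i) := rfl

theorem tau_fieldGamma (hσ : ∀ (σ : F ≃+* F) (v : ι → F), Q (fun i => σ (v i)) = σ (Q v))
    (σ : F ≃+* F) : tau (fieldGamma Q hσ σ) = σ :=
  tau_eq (semiSim_field Q hσ σ)

theorem tau_range_eq_top (hσ : ∀ (σ : F ≃+* F) (v : ι → F), Q (fun i => σ (v i)) = σ (Q v)) :
    (tau (Q := Q)).range = ⊤ := by
  rw [eq_top_iff]
  intro σ _
  exact ⟨fieldGamma Q hσ σ, tau_fieldGamma Q hσ σ⟩

end Matrix

end Cfsg.Agent.Helper8.AutO
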