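import Mathlib
import Cfsg.Agent.Helper8.OmegaCenterMat

/-!
# The order of the centre of `Ω` in odd characteristic (helper8)
-/

set_option autoImplicit false

namespace Cfsg.Agent.Helper8.CenterCard

open Module Cfsg.Agent.Helper8.QuadForm Cfsg.Agent.Helper8.OrthOrder
  Cfsg.Agent.Helper8.Reflections Cfsg.Agent.Helper8.ReflMatrix Cfsg.Agent.Helper8.OmegaOdd
  Cfsg.Agent.Helper8.OmegaCenter

variable {F : Type*} [Field F] [Fintype F] {ι : Type} [Fintype ι] [DecidableEq ι]
  (Q : QuadraticForm F (ι → F))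

theorem center_cases (h2 : (2 : F) ≠ 0) (hQ : (QuadraticMap.polarBilin Q).Nondegenerate)
    (hn : 4 ≤ Fintype.card ι) (z : ↥(commutator ↥(Cfsg.isometryGroup F ⇑Q)))
    (hz : z ∈ Subgroup.center ↥(commutator ↥(Cfsg.isometryGroup F ⇑Q))) :
    ((z.1 : GL ι F) : Matrix ι ι F) = 1 ∨ ((z.1 : GL ι F) : Matrix ι ι F) = -1 := by
  rcases center_omega_apply Q h2 hQ hn z hz with h | h
  · left
    apply matrix_ext
    intro v
    rw [← isomEquiv_apply, h v, Matrix.one_mulVec]
  · right
    apply matrix_ext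
    intro v
    rw [← isomEquiv_apply, h v, Matrix.neg_mulVec, Matrix.one_mulVec]

omit [Fintype F] in
theorem neg_one_ne_one (h2 : (2 : F) ≠ 0) (hn : 1 ≤ Fintype.card ι) :
    (-1 : Matrix ι ι F) ≠ 1 := by
  intro h
  have hne : Nonempty ι := Fintype.card_pos_iff.mp hn
  obtain ⟨i⟩ := hne
  have := congrFun (congrFun h i) i
  rw [Matrix.neg_apply, Matrix.one_apply_eq] at this
  apply h2
  have e : (2 : F) = 1 - (-1) := by norm_num
  rw [e, this, sub_self]

/-- the centre of `Ω` has order two if `-1 ∈ Ω` and is trivial otherwise. -/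
theorem card_center_omega (h2 : (2 : F) ≠ 0) (hQ : (QuadraticMap.polarBilin Q).Nondegenerate)
    (hn : 4 ≤ Fintype.card ι) :
    ((∃ g : ↥(Cfsg.isometryGroup F ⇑Q), g ∈ commutator ↥(Cfsg.isometryGroup F ⇑Q) ∧
        ((g : GL ι F) : Matrix ι ι F) = -1) →
      Nat.card ↥(Subgroup.center ↥(commutator ↥(Cfsg.isometryGroup F ⇑Q))) = 2) ∧
    ((¬ ∃ g : ↥(Cfsg.isometryGroup F ⇑Q), g ∈ commutator ↥(Cfsg.isometryGroup F ⇑Q) ∧
        ((g : GL ι F) : Matrix ι ι F) = -1) →
      Nat.card ↥(Subgroup.center ↥(commutator ↥(Cfsg.isometryGroup F ⇑Q))) = 1) := by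
  constructor
  · rintro ⟨g, hg, hgm⟩
    have hcen : (⟨g, hg⟩ : ↥(commutator ↥(Cfsg.isometryGroup F ⇑Q))) ∈
        Subgroup.center ↥(commutator ↥(Cfsg.isometryGroup F ⇑Q)) := by
      rw [Subgroup.mem_center_iff]
      intro x
      apply Subtype.ext
      apply Subtype.ext
      apply Units.ext
      show ((x.1 : GL ι F) : Matrix ι ι F) * ((g : GL ι F) : Matrix ι ι F)
        = ((g : GL ι F) : Matrix ι ι F) * ((x.1 : GL ι F) : Matrix ι ι F)
      rw [hgm]
      simp
    rw [Nat.card_eq_two_iff]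
    refine ⟨1, ⟨⟨g, hg⟩, hcen⟩, ?_, ?_⟩
    · intro h
      have h1 := congrArg (fun z : ↥(Subgroup.center ↥(commutator ↥(Cfsg.isometryGroup F ⇑Q))) =>
        ((z.1.1 : GL ι F) : Matrix ι ι F)) h
      simp only at h1
      rw [hgm] at h1
      exact neg_one_ne_one h2 (by omega) h1.symm
    · rw [Set.eq_univ_iff_forall]
      intro z
      rcases center_cases Q h2 hQ hn z.1 z.2 with h | h
      · left
        apply Subtype.ext
        apply Subtype.ext
        apply Subtype.ext
        apply Units.ext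
        exact h
      · right
        rw [Set.mem_singleton_iff]
        apply Subtype.ext
        apply Subtype.ext
        apply Subtype.ext
        apply Units.ext
        exact h.trans hgm.symm
  · intro hno
    have hbot : Subgroup.center ↥(commutator ↥(Cfsg.isometryGroup F ⇑Q)) = ⊥ := by
      rw [eq_bot_iff]
      intro z hz
      rw [Subgroup.mem_bot]
      rcases center_cases Q h2 hQ hn z hz with h | h
      · apply Subtype.ext
        apply Subtype.ext
        apply Units.ext
        exact h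
      · exact absurd ⟨z.1, z.2, h⟩ hno
    rw [hbot, Subgroup.card_bot]

end Cfsg.Agent.Helper8.CenterCard
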