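import Mathlib
import Cfsg.Agent.Helper8.EvenRefl
import Cfsg.Agent.Helper8.ReflChar2

/-!
# The centre of `Ω` is trivial in characteristic two (helper8)
-/

set_option autoImplicit false

namespace Cfsg.Agent.Helper8.CenterChar2

open Module Cfsg.Agent.Helper8.QuadForm Cfsg.Agent.Helper8.MaxSingular
  Cfsg.Agent.Helper8.OrthOrder Cfsg.Agent.Helper8.Reflections Cfsg.Agent.Helper8.ReflChar2

variable {F V : Type*} [Field F] [AddCommGroup V] [Module F V]

theorem two_mul_finrank_le_of_ts [FiniteDimensional F V] (Q : QuadraticForm F V)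
    (hQ : (QuadraticMap.polarBilin Q).Nondegenerate) {U : Submodule F V}
    (hU : ∀ w ∈ U, Q w = 0) : 2 * finrank F U ≤ finrank F V := by
  have h1 := Submodule.finrank_mono (le_orth_of_ts hU)
  have h2 : finrank F ↥(orth Q U) = finrank F V - finrank F U :=
    LinearMap.BilinForm.finrank_orthogonal hQ U
  have h3 := Submodule.finrank_le U
  omega

/-- every vector is orthogonal to some nonsingular vector (dimension at least three). -/
theorem exists_nonsingular_perp [FiniteDimensional F V] (Q : QuadraticForm F V)
    (hQ : (QuadraticMap.polarBilin Q).Nondegenerate) (hdim : 3 ≤ finrank F V) (x : V) :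
    ∃ v, QuadraticMap.polar Q x v = 0 ∧ Q v ≠ 0 := by
  by_contra hcon
  push_neg at hcon
  have hU : ∀ w ∈ LinearMap.ker (QuadraticMap.polarBilin Q x), Q w = 0 := by
    intro w hw
    rw [LinearMap.mem_ker] at hw
    exact hcon w hw
  have h1 := two_mul_finrank_le_of_ts Q hQ hU
  have h2 := LinearMap.finrank_range_add_finrank_ker (QuadraticMap.polarBilin Q x)
  have h3 : finrank F ↥(LinearMap.range (QuadraticMap.polarBilin Q x)) ≤ 1 := by
    have := Submodule.finrank_le (LinearMap.range (QuadraticMap.polarBilin Q x))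
    rwa [Module.finrank_self] at this
  omega

/-- the nonsingular vectors span the space (dimension at least three). -/
theorem eq_top_of_nonsingular_mem [FiniteDimensional F V] (Q : QuadraticForm F V)
    (hQ : (QuadraticMap.polarBilin Q).Nondegenerate) (hdim : 3 ≤ finrank F V)
    (W : Submodule F V) (hW : ∀ v, Q v ≠ 0 → v ∈ W) : W = ⊤ := by
  rw [eq_top_iff]
  intro x _
  by_cases hx : Q x = 0
  · obtain ⟨v, hxv, hv⟩ := exists_nonsingular_perp Q hQ hdim x
    have hxv' : Q (x + v) ≠ 0 := by
      rw [QuadraticMap.map_add Q, hx, hxv, zero_add, add_zero]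
      exact hv
    have := W.sub_mem (hW _ hxv') (hW _ hv)
    rwa [add_sub_cancel_right] at this
  · exact hW x hx

theorem exists_perp_not_perp (Q : QuadraticForm F V) (hnd : Nondeg Q) {u w : V} (hu : u ≠ 0)
    (hw : ∀ c : F, w - c • u ≠ 0) :
    ∃ x, QuadraticMap.polar Q w x = 0 ∧ QuadraticMap.polar Q u x = 1 := by
  obtain ⟨y, hy1, hy2⟩ := exists_dual_pair Q hnd (u := u) (w := u + w) hu (by
    intro c h
    apply hw (c - 1)
    rw [sub_smul, one_smul]
    rw [← h]
    abel)
  refine ⟨y, ?_, hy1⟩
  rw [QuadraticMap.polar_add_left, hy1] at hy2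
  linear_combination hy2

/-- an isometry commuting with all products of two reflections maps every nonsingular vector to a
multiple of itself. -/
theorem map_mem_span [FiniteDimensional F V] (Q : QuadraticForm F V)
    (hQ : (QuadraticMap.polarBilin Q).Nondegenerate) (hdim : 3 ≤ finrank F V)
    (z : V ≃ₗ[F] V)
    (hcomm : ∀ u w, Q u ≠ 0 → Q w ≠ 0 → ∀ x,
      z (refl Q u (refl Q w x)) = refl Q u (refl Q w (z x))) {u : V} (hu : Q u ≠ 0) :
    ∃ c : F, z u = c • u := by
  have hnd := (nondeg_iff Q).mp hQ
  have hu0 : u ≠ 0 := by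
    rintro rfl
    exact hu (map_zero _)
  by_contra hcon
  push_neg at hcon
  have hall : ∀ w, Q w ≠ 0 → w ∈ Submodule.span F {u} ⊔ Submodule.span F {z u} := by
    intro w hw
    by_cases hdep : ∃ c : F, w - c • u = 0
    · obtain ⟨c, hc⟩ := hdep
      rw [sub_eq_zero] at hc
      rw [hc]
      exact Submodule.mem_sup_left (Submodule.smul_mem _ _ (Submodule.mem_span_singleton_self u))
    · push_neg at hdep
      obtain ⟨x, hwx, hux⟩ := exists_perp_not_perp Q hnd hu0 hdep
      have h1 := hcomm u w hu hw x
      rw [refl_of_perp Q hwx, refl_apply Q u x, hux, map_sub, map_smul, refl_apply Q w (z x),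
        refl_apply Q u] at h1
      obtain ⟨a, ha⟩ : ∃ a, a = QuadraticMap.polar Q w (z x) / Q w := ⟨_, rfl⟩
      obtain ⟨b, hb⟩ : ∃ b, b = QuadraticMap.polar Q u (z x - a • w) / Q u := ⟨_, rfl⟩
      rw [← ha, ← hb] at h1
      have h2 : (1 / Q u) • z u = a • w + b • u := by
        linear_combination (norm := module) -h1
      by_cases ha0 : a = 0
      · exfalso
        rw [ha0, zero_smul, zero_add] at h2
        apply hcon (Q u * b)
        have := congrArg (fun t => Q u • t) h2
        simp only [smul_smul] at this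
        rw [mul_one_div_cancel hu, one_smul] at this
        exact this
      · have h3 : w = a⁻¹ • ((1 / Q u) • z u) - (a⁻¹ * b) • u := by
          rw [h2, smul_add, smul_smul, smul_smul, inv_mul_cancel₀ ha0, one_smul]
          abel
        rw [h3]
        apply Submodule.sub_mem
        · apply Submodule.mem_sup_right
          exact Submodule.smul_mem _ _ (Submodule.smul_mem _ _
            (Submodule.mem_span_singleton_self (z u)))
        · apply Submodule.mem_sup_left
          exact Submodule.smul_mem _ _ (Submodule.mem_span_singleton_self u)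
  have htop := eq_top_of_nonsingular_mem Q hQ hdim _ hall
  have h1 : finrank F ↥(Submodule.span F {u} ⊔ Submodule.span F {z u}) ≤ 2 := by
    have := Submodule.finrank_add_le_finrank_add_finrank (Submodule.span F {u})
      (Submodule.span F {z u})
    have h2 := finrank_span_singleton (K := F) hu0
    have hzu0 : z u ≠ 0 := by
      intro h
      exact hu0 (z.injective (by rw [h, map_zero]))
    have h3 := finrank_span_singleton (K := F) hzu0
    omega
  rw [htop, finrank_top] at h1
  omega

/-- in characteristic two such an isometry is the identity. -/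
theorem eq_id_of_comm [FiniteDimensional F V] (h2 : (2 : F) = 0) (Q : QuadraticForm F V)
    (hQ : (QuadraticMap.polarBilin Q).Nondegenerate) (hdim : 3 ≤ finrank F V)
    (z : V ≃ₗ[F] V) (hz : ∀ x, Q (z x) = Q x)
    (hcomm : ∀ u w, Q u ≠ 0 → Q w ≠ 0 → ∀ x,
      z (refl Q u (refl Q w x)) = refl Q u (refl Q w (z x))) (x : V) : z x = x := by
  have hfix : ∀ v, Q v ≠ 0 → v ∈ LinearMap.ker ((z : V →ₗ[F] V) - LinearMap.id) := by
    intro v hv
    obtain ⟨c, hc⟩ := map_mem_span Q hQ hdim z hcomm hv
    have h1 := hz v
    rw [hc, QuadraticMap.map_smul, smul_eq_mul] at h1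
    have h3 : c * c = 1 := by
      have : (c * c - 1) * Q v = 0 := by linear_combination h1
      rcases mul_eq_zero.mp this with h | h
      · linear_combination h
      · exact absurd h hv
    have h4 : (c - 1) * (c - 1) = 0 := by
      have : (c - 1) * (c - 1) = c * c - 2 * c + 1 := by ring
      rw [this, h3, h2]
      ring_nf
      rw [h2]
    have h5 : c = 1 := by
      rcases mul_eq_zero.mp h4 with h | h <;> linear_combination h
    rw [LinearMap.mem_ker, LinearMap.sub_apply, LinearEquiv.coe_coe, hc, h5, one_smul,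
      LinearMap.id_apply, sub_self]
  have htop := eq_top_of_nonsingular_mem Q hQ hdim _ hfix
  have hx : x ∈ LinearMap.ker ((z : V →ₗ[F] V) - LinearMap.id) := by
    rw [htop]
    exact Submodule.mem_top
  rw [LinearMap.mem_ker, LinearMap.sub_apply, LinearEquiv.coe_coe, LinearMap.id_apply,
    sub_eq_zero] at hx
  exact hx

section Mat

open Cfsg.Agent.Helper8.ReflMatrix Cfsg.Agent.Helper8.EvenRefl

variable {F : Type*} [Field F] [Fintype F] {ι : Type} [Fintype ι] [DecidableEq ι]
  (Q : QuadraticForm F (ι → F))

/-- in characteristic two the centre of `Ω` is trivial. -/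
theorem center_omega_eq_bot (h2 : (2 : F) = 0) (hQ : (QuadraticMap.polarBilin Q).Nondegenerate)
    (hn : 3 ≤ Fintype.card ι) (hex : Fintype.card F ≠ 2 ∨ Fintype.card ι ≠ 4) :
    Subgroup.center ↥(commutator ↥(Cfsg.isometryGroup F ⇑Q)) = ⊥ := by
  rw [eq_bot_iff]
  intro z hz
  rw [Subgroup.mem_bot]
  have hdim : 3 ≤ finrank F (ι → F) := by rw [Module.finrank_fintype_fun_eq_card]; exact hn
  have key := eq_id_of_comm h2 Q hQ hdim (isomEquiv Q z.1).1 (isomEquiv Q z.1).2 (by
    intro u w hu hw x
    have hmem : reflElt Q u * reflElt Q w ∈ commutator ↥(Cfsg.isometryGroup F ⇑Q) := by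
      rw [commutator_eq_closure_pairs Q h2 hQ (by omega) hex]
      exact Subgroup.subset_closure ⟨u, w, hu, hw, rfl⟩
    have hc := (Subgroup.mem_center_iff.1 hz) ⟨reflElt Q u * reflElt Q w, hmem⟩
    have hc' : reflElt Q u * reflElt Q w * z.1 = z.1 * (reflElt Q u * reflElt Q w) :=
      congrArg Subtype.val hc
    have h3 := congrArg (fun g => (isomEquiv Q g).1 x) hc'
    simp only [map_mul, isomEquiv_reflElt] at h3
    exact h3.symm)
  apply Subtype.ext
  apply (isomEquiv Q).injective
  apply Subtype.ext
  apply LinearEquiv.ext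
  intro v
  rw [key v, Subgroup.coe_one, map_one]
  rfl

end Mat

end Cfsg.Agent.Helper8.CenterChar2
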