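import Mathlib
import Cfsg.Agent.Helper8.CenterCard
import Cfsg.Agent.Helper8.CenterChar2

/-!
# The order of `PΩ` in terms of the order of the orthogonal group (helper8)
-/

set_option autoImplicit false

namespace Cfsg.Agent.Helper8.POmegaCard

open Module Cfsg.Agent.Helper8.QuadForm Cfsg.Agent.Helper8.OrthOrder
  Cfsg.Agent.Helper8.Reflections Cfsg.Agent.Helper8.ReflMatrix

variable {F : Type*} [Field F] [Fintype F] {ι : Type} [Fintype ι] [DecidableEq ι]
  (Q : QuadraticForm F (ι → F))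

theorem card_pomega_eq :
    Nat.card (Cfsg.POmega F ⇑Q) = (Subgroup.center ↥(Cfsg.Omega F ⇑Q)).index := rfl

/-- odd characteristic: `|O| = 4 |Z(Ω)| |PΩ|`. -/
theorem card_pomega_odd (h2 : (2 : F) ≠ 0) (hQ : (QuadraticMap.polarBilin Q).Nondegenerate)
    (hn : 4 ≤ Fintype.card ι) :
    ((∃ g : ↥(Cfsg.isometryGroup F ⇑Q), g ∈ Cfsg.Omega F ⇑Q ∧
        ((g : GL ι F) : Matrix ι ι F) = -1) →
      8 * Nat.card (Cfsg.POmega F ⇑Q) = Nat.card ↥(Cfsg.isometryGroup F ⇑Q)) ∧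
    ((¬ ∃ g : ↥(Cfsg.isometryGroup F ⇑Q), g ∈ Cfsg.Omega F ⇑Q ∧
        ((g : GL ι F) : Matrix ι ι F) = -1) →
      4 * Nat.card (Cfsg.POmega F ⇑Q) = Nat.card ↥(Cfsg.isometryGroup F ⇑Q)) := by
  obtain ⟨e, he⟩ := Cfsg.Agent.Helper8.OmegaOdd.exists_nonsquare (F := F) h2
  have hidx : (Cfsg.Omega F ⇑Q).index = 4 :=
    (Cfsg.Agent.Helper8.OmegaOdd.commutator_eq Q h2 hQ (by omega) he).1
  have h3 := Subgroup.card_mul_index (Cfsg.Omega F ⇑Q)
  have h4 := Subgroup.card_mul_index (Subgroup.center ↥(Cfsg.Omega F ⇑Q))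
  rw [hidx] at h3
  rw [card_pomega_eq]
  obtain ⟨hc1, hc2⟩ := Cfsg.Agent.Helper8.CenterCard.card_center_omega Q h2 hQ hn
  constructor
  · intro hex
    have hc : Nat.card ↥(Subgroup.center ↥(Cfsg.Omega F ⇑Q)) = 2 := hc1 hex
    rw [hc] at h4
    omega
  · intro hex
    have hc : Nat.card ↥(Subgroup.center ↥(Cfsg.Omega F ⇑Q)) = 1 := hc2 hex
    rw [hc] at h4
    omega

/-- characteristic two: `|O| = 2 |PΩ|`. -/
theorem card_pomega_even (h2 : (2 : F) = 0) (hQ : (QuadraticMap.polarBilin Q).Nondegenerate)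
    (hn : 3 ≤ Fintype.card ι) (hex : Fintype.card F ≠ 2 ∨ Fintype.card ι ≠ 4) :
    2 * Nat.card (Cfsg.POmega F ⇑Q) = Nat.card ↥(Cfsg.isometryGroup F ⇑Q) := by
  have hidx : (Cfsg.Omega F ⇑Q).index = 2 :=
    (Cfsg.Agent.Helper8.OmegaEven.commutator_eq Q h2 hQ (by omega) hex).1
  have h3 := Subgroup.card_mul_index (Cfsg.Omega F ⇑Q)
  rw [hidx] at h3
  have hcen : Subgroup.center ↥(Cfsg.Omega F ⇑Q) = ⊥ :=
    Cfsg.Agent.Helper8.CenterChar2.center_omega_eq_bot Q h2 hQ hn hex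
  rw [card_pomega_eq, hcen, Subgroup.index_bot]
  omega

/-- a finite field of even order has characteristic two. -/
theorem two_eq_zero_of_even (heven : ¬ Odd (Fintype.card F)) : (2 : F) = 0 := by
  by_contra h
  apply heven
  have hc : ringChar F ≠ 2 := by
    intro hc
    apply h
    haveI : CharP F 2 := hc ▸ ringChar.charP F
    have := CharP.cast_eq_zero F 2
    exact_mod_cast this
  exact Nat.odd_iff.mpr (FiniteField.odd_card_of_char_ne_two hc)

end Cfsg.Agent.Helper8.POmegaCard
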