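import Mathlib
import Cfsg.Agent.Helper8.AutOw
import Cfsg.Agent.Helper8.AutOt
import Cfsg.Agent.Helper8.POmegaCard
import Cfsg.Agent.Helper8.AutImageIdx
import Cfsg.Agent.Helper7.FieldAutCard

set_option autoImplicit false
set_option linter.unusedSectionVars false
set_option linter.style.haveILetI false

/-!
# Automorphisms of orthogonal groups, part x: the order of the automorphism group in odd dimension
-/

namespace Cfsg.Agent.Helper8.AutO

open Module Matrix Cfsg.Agent.Helper8.QuadForm Cfsg.Agent.Helper8.WittQuad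
  Cfsg.Agent.Helper8.OrthOrder
  Cfsg.Agent.Helper8.Siegel Cfsg.Agent.Helper8.SiegelGeom Cfsg.Agent.Helper8.SiegelGroup
  Cfsg.Agent.Helper8.SiegelPrim Cfsg.Agent.Helper8.SiegelSimple Cfsg.Agent.Helper8.ReflMatrix
  Cfsg.Agent.Helper8.OmegaSimple Cfsg.Agent.Helper8.AutImagePsi Cfsg.Agent.Helper8.AutImageOrth
  Cfsg.Agent.Helper8.StdForms

variable {F : Type*} [Field F] [Fintype F] {ι : Type} [Fintype ι] [DecidableEq ι]
  (Q : QuadraticForm F (ι → F))

/-- the kernel of the multiplier is the isometry group. -/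
theorem card_ker_mult (hne : ∃ v, Q v ≠ 0) :
    Nat.card (mult ⇑Q hne).ker = Nat.card ↥(Cfsg.isometryGroup F ⇑Q) := by
  symm
  apply Nat.card_eq_of_bijective
    (fun g : ↥(Cfsg.isometryGroup F ⇑Q) =>
      (⟨Subgroup.inclusion (isometry_le_similarity ⇑Q) g,
        MonoidHom.mem_ker.mpr (mult_of_isometry ⇑Q hne _ g.2)⟩ : (mult ⇑Q hne).ker))
  constructor
  · intro a b hab
    have h1 := congrArg (fun x : (mult ⇑Q hne).ker => ((x : ↥(Cfsg.Geo.quadSimilarityGroup
      (F := F) ⇑Q)) : GL ι F)) hab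
    exact Subtype.ext h1
  · rintro ⟨g, hg⟩
    exact ⟨⟨g, isometry_of_mult ⇑Q hne g (MonoidHom.mem_ker.mp hg)⟩, Subtype.ext (Subtype.ext rfl)⟩

/-- in odd dimension the multipliers are the squares. -/
theorem range_mult_odd (hQ : (QuadraticMap.polarBilin Q).Nondegenerate) (hne : ∃ v, Q v ≠ 0)
    (hodd : Odd (Fintype.card ι)) :
    (mult ⇑Q hne).range = (powMonoidHom 2 : Fˣ →* Fˣ).range := by
  apply le_antisymm
  · rintro _ ⟨g, rfl⟩
    obtain ⟨k, hk⟩ := hodd
    have h1 := det_sq Q hQ ((g : GL ι F) : Matrix ι ι F) (mult ⇑Q hne g : F) (mult_spec ⇑Q hne g)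
    obtain ⟨c, hc⟩ : ∃ c, c = (mult ⇑Q hne g : F) := ⟨_, rfl⟩
    have hc0 : c ≠ 0 := by rw [hc]; exact Units.ne_zero _
    rw [← hc, hk] at h1
    obtain ⟨d, hd⟩ : ∃ d, d = ((g : GL ι F) : Matrix ι ι F).det / c ^ k := ⟨_, rfl⟩
    have hd2 : d ^ 2 = c := by
      rw [hd, div_pow, h1, pow_succ, ← pow_mul, mul_comm k 2]
      field_simp
    have hd0 : d ≠ 0 := by
      intro h0
      rw [h0] at hd2
      exact hc0 (by rw [← hd2]; ring)
    refine ⟨Units.mk0 d hd0, ?_⟩
    apply Units.ext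
    rw [powMonoidHom_apply, Units.val_pow_eq_pow_val, Units.val_mk0, hd2, hc]
  · rintro _ ⟨c, rfl⟩
    refine ⟨scalarGO Q c, ?_⟩
    rw [mult_of_scalar Q hne _ c (scalarGO_val Q c), powMonoidHom_apply, pow_two]

/-- **the order of the similarity group in odd dimension and odd characteristic.** -/
theorem card_sim_odd (h2 : (2 : F) ≠ 0) (hQ : (QuadraticMap.polarBilin Q).Nondegenerate)
    (hne : ∃ v, Q v ≠ 0) (hodd : Odd (Fintype.card ι)) :
    Nat.card ↥(Cfsg.Geo.quadSimilarityGroup (F := F) ⇑Q) * 2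
      = Nat.card ↥(Cfsg.isometryGroup F ⇑Q) * (Fintype.card F - 1) := by
  have h1 := Subgroup.card_eq_card_quotient_mul_card_subgroup (mult ⇑Q hne).ker
  have h3 : Nat.card (↥(Cfsg.Geo.quadSimilarityGroup (F := F) ⇑Q) ⧸ (mult ⇑Q hne).ker)
      = Nat.card (mult ⇑Q hne).range :=
    Nat.card_congr (QuotientGroup.quotientKerEquivRange _).toEquiv
  rw [h3, card_ker_mult, range_mult_odd Q hQ hne hodd] at h1
  have h4 := Subgroup.card_mul_index (powMonoidHom 2 : Fˣ →* Fˣ).range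
  have hq : Odd (Fintype.card F) := by
    by_contra h
    exact h2 (Cfsg.Agent.Helper8.POmegaCard.two_eq_zero_of_even h)
  have h5 : (powMonoidHom 2 : Fˣ →* Fˣ).range.index = 2 := by
    rw [IsCyclic.index_powMonoidHom_range, Nat.card_units, Nat.card_eq_fintype_card]
    obtain ⟨k, hk⟩ := hq
    have : Fintype.card F - 1 = 2 * k := by omega
    rw [this]
    exact Nat.gcd_mul_right_left k 2
  rw [h5, Nat.card_units] at h4
  rw [h1, ← Nat.card_eq_fintype_card, ← h4]
  ring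

/-- in odd dimension `-1` is not in `Ω`. -/
theorem not_neg_one_mem_Omega (h2 : (2 : F) ≠ 0) (hodd : Odd (Fintype.card ι)) :
    ¬ ∃ g : ↥(Cfsg.isometryGroup F ⇑Q), g ∈ Cfsg.Omega F ⇑Q ∧
        ((g : GL ι F) : Matrix ι ι F) = -1 := by
  rintro ⟨g, hg, hgm⟩
  have hle : commutator ↥(Cfsg.isometryGroup F ⇑Q) ≤ Cfsg.specialIsometryGroup F ⇑Q :=
    Abelianization.commutator_subset_ker _
  have h1 := (Cfsg.Agent.Helper8.SOIndexTwo.mem_special_iff Q g).mp (hle hg)
  rw [hgm, Matrix.det_neg, Matrix.det_one, hodd.neg_one_pow, mul_one] at h1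
  apply h2
  have : (2 : F) = 1 - (-1) := by ring
  rw [this, h1, sub_self]

/-- **the order of the automorphism group of `PΩ(Q)` in odd dimension and odd characteristic.** -/
theorem card_aut_POmega_odd [Nontrivial (ι → F)] (h2 : (2 : F) ≠ 0)
    (hQ : (QuadraticMap.polarBilin Q).Nondegenerate)
    (h7 : 7 ≤ Fintype.card ι) (hodd : Odd (Fintype.card ι))
    (hB2 : 9 ≤ Fintype.card ι ∨ NoB2 Q)
    (hσ : ∀ (σ : F ≃+* F) (v : ι → F), Q (fun i => σ (v i)) = σ (Q v)) :
    Nat.card (MulAut (Cfsg.POmega F ⇑Q))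
      = 2 * Nat.card (F ≃+* F) * Nat.card (Cfsg.POmega F ⇑Q) := by
  obtain ⟨p, hp, hc⟩ := exists_char F
  have h1 := card_aut_POmega Q hQ h7 p hB2
  rw [tau_range_eq_top Q hσ, Subgroup.card_top] at h1
  have hne : ∃ v, Q v ≠ 0 := by
    have hnd := (nondeg_iff Q).mp hQ
    have hdim : 2 ≤ finrank F (ι → F) := by
      rw [Module.finrank_fintype_fun_eq_card]; omega
    obtain ⟨o, ho⟩ := exists_repr Q hnd hdim 1
    exact ⟨o, by rw [ho]; exact one_ne_zero⟩
  have h3 := card_sim_odd Q h2 hQ hne hodd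
  have h4 := (Cfsg.Agent.Helper8.POmegaCard.card_pomega_odd Q h2 hQ (by omega)).2
    (not_neg_one_mem_Omega Q h2 hodd)
  have hpos : 0 < Fintype.card F - 1 := by
    have := Fintype.one_lt_card (α := F)
    omega
  apply Nat.eq_of_mul_eq_mul_right hpos
  apply Nat.eq_of_mul_eq_mul_right (show 0 < 2 by norm_num)
  rw [h1, mul_right_comm, h3, ← h4]
  ring

/-- **the order of the automorphism group of `Ω_{2m+1}(q)`, `q` odd, `m ≥ 3`.** -/
theorem card_aut_POmega_oddForm (h2 : (2 : F) ≠ 0) {m : ℕ} (hm : 3 ≤ m) :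
    Nat.card (MulAut (Cfsg.POmega F (Cfsg.quadFormOdd m F)))
      = 2 * Nat.card (F ≃+* F) * Nat.card (Cfsg.POmega F (Cfsg.quadFormOdd m F)) := by
  have e : ⇑(oddForm F m) = Cfsg.quadFormOdd m F := funext (oddForm_apply F m)
  have hcard : Fintype.card (Unit ⊕ (Fin m ⊕ Fin m)) = 2 * m + 1 := by
    simp only [Fintype.card_sum, Fintype.card_unique, Fintype.card_fin]; ring
  rw [← e]
  apply card_aut_POmega_odd (oddForm F m) h2 (oddForm_nondeg F m h2) (by rw [hcard]; omega)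
    (by rw [hcard]; exact ⟨m, rfl⟩)
  · by_cases h4 : 4 ≤ m
    · left; rw [hcard]; omega
    · right
      apply noB2_of_finrank ((nondeg_iff _).mp (oddForm_nondeg F m h2))
      rw [finrank_odd]; omega
  · intro σ v
    rw [oddForm_apply, oddForm_apply]
    unfold Cfsg.quadFormOdd
    simp only [map_add, map_pow, map_sum, map_mul]

end Cfsg.Agent.Helper8.AutO
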