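import Mathlib
import Cfsg.Agent.Helper8.AutOx
import Cfsg.Agent.Helper8.AutPSL2E

set_option autoImplicit false
set_option linter.unusedSectionVars false
set_option linter.style.haveILetI false

/-!
# Automorphisms of orthogonal groups, part y: the outer automorphism group in odd dimension
-/

namespace Cfsg.Agent.Helper8.AutO

open Module Matrix Cfsg.Agent.Helper8.QuadForm Cfsg.Agent.Helper8.WittQuad
  Cfsg.Agent.Helper8.OrthOrder
  Cfsg.Agent.Helper8.Siegel Cfsg.Agent.Helper8.SiegelGeom Cfsg.Agent.Helper8.SiegelGroup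
  Cfsg.Agent.Helper8.SiegelPrim Cfsg.Agent.Helper8.SiegelSimple Cfsg.Agent.Helper8.ReflMatrix
  Cfsg.Agent.Helper8.OmegaSimple Cfsg.Agent.Helper8.AutImagePsi Cfsg.Agent.Helper8.AutImageOrth
  Cfsg.Agent.Helper8.StdForms Cfsg.Agent.Helper8.AutImage

section General

/-- isomorphic groups have isomorphic outer automorphism groups. -/
noncomputable def outCongr {G H : Type*} [Group G] [Group H] (e : G ≃* H) :
    Cfsg.Out G ≃* Cfsg.Out H :=
  QuotientGroup.congr (Cfsg.Inn G) (Cfsg.Inn H) (MulAut.congr e) (by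
    ext φ
    constructor
    · rintro ⟨_, ⟨g, rfl⟩, rfl⟩
      refine ⟨e g, ?_⟩
      apply MulEquiv.ext
      intro x
      show e g * x * (e g)⁻¹ = e (g * e.symm x * g⁻¹)
      rw [map_mul, map_mul, map_inv, MulEquiv.apply_symm_apply]
    · rintro ⟨g', rfl⟩
      refine ⟨MulAut.conj (e.symm g'), ⟨_, rfl⟩, ?_⟩
      apply MulEquiv.ext
      intro x
      show e (e.symm g' * e.symm x * (e.symm g')⁻¹) = g' * x * g'⁻¹
      rw [map_mul, map_mul, map_inv, MulEquiv.apply_symm_apply, MulEquiv.apply_symm_apply])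

/-- the quotient of a perfect group by its centre has trivial centre. -/
theorem center_quot_center_eq_bot {G : Type*} [Group G] (hperf : commutator G = ⊤) :
    Subgroup.center (G ⧸ Subgroup.center G) = ⊥ := by
  rw [Subgroup.eq_bot_iff_forall]
  intro y hy
  obtain ⟨x, rfl⟩ := QuotientGroup.mk_surjective y
  have h1 : quotCenter (MulAut.conj x) = 1 := by
    rw [quotCenter_conj]
    apply MulEquiv.ext
    intro z
    rw [MulAut.conj_apply, MulAut.one_apply, ← Subgroup.mem_center_iff.mp hy z,
      mul_inv_cancel_right]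
  have h2 := eq_one_of_quotCenter_eq_one hperf _ h1
  rw [QuotientGroup.eq_one_iff, Subgroup.mem_center_iff]
  intro g
  have h3 := congrArg (fun β : MulAut G => β g) h2
  simp only [MulAut.conj_apply, MulAut.one_apply] at h3
  calc g * x = (x * g * x⁻¹) * x := by rw [h3]
    _ = x * g := by group

/-- the inner automorphism group of a group with trivial centre. -/
theorem card_Inn_of_center_eq_bot {G : Type*} [Group G] (h : Subgroup.center G = ⊥) :
    Nat.card (Cfsg.Inn G) = Nat.card G := by
  have hinj : Function.Injective (MulAut.conj : G →* MulAut G) := by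
    rw [injective_iff_map_eq_one]
    intro x hx
    have : x ∈ Subgroup.center G := by
      rw [Subgroup.mem_center_iff]
      intro g
      have h1 := congrArg (fun β : MulAut G => β g) hx
      simp only [MulAut.conj_apply, MulAut.one_apply] at h1
      calc g * x = (x * g * x⁻¹) * x := by rw [h1]
        _ = x * g := by group
    rw [h] at this
    exact Subgroup.mem_bot.mp this
  exact (Nat.card_congr (MonoidHom.ofInjective hinj).toEquiv).symm

/-- a split extension of a group by a group of order two is a direct product. -/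
theorem split_of_card_two {A C : Type*} [Group A] [Group C] [Finite A] (t : A →* C) (s : C →* A)
    (hts : ∀ c, t (s c) = c) (hcard : Nat.card A = 2 * Nat.card C) :
    Nonempty (A ≃* Multiplicative (ZMod 2) × C) := by
  have hsurj : Function.Surjective t := fun c => ⟨s c, hts c⟩
  haveI : Finite C := Finite.of_surjective t hsurj
  have hK : Nat.card t.ker = 2 := by
    have h1 := Subgroup.card_eq_card_quotient_mul_card_subgroup t.ker
    rw [Nat.card_congr (QuotientGroup.quotientKerEquivOfSurjective t hsurj).toEquiv, hcard,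
      mul_comm 2] at h1
    exact (Nat.eq_of_mul_eq_mul_left Nat.card_pos h1).symm
  -- the kernel is central
  have hcen : ∀ k ∈ t.ker, ∀ a : A, a * k * a⁻¹ = k := by
    intro k hk a
    by_cases hk1 : k = 1
    · rw [hk1, mul_one, mul_inv_cancel]
    · obtain ⟨b, -, hb⟩ := (Nat.card_eq_two_iff' (1 : t.ker)).mp hK
      have hk' : (⟨k, hk⟩ : t.ker) = b := hb _ (fun h => hk1 (congrArg Subtype.val h))
      have hmem : a * k * a⁻¹ ∈ t.ker := (inferInstance : t.ker.Normal).conj_mem k hk a
      have hne : (⟨a * k * a⁻¹, hmem⟩ : t.ker) ≠ 1 := by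
        intro h
        have h1 : a * k * a⁻¹ = 1 := congrArg Subtype.val h
        apply hk1
        calc k = a⁻¹ * (a * k * a⁻¹) * a := by group
          _ = 1 := by rw [h1]; group
      have h2 := hb _ hne
      rw [← hk'] at h2
      exact congrArg Subtype.val h2
  have hcomm : ∀ (k : t.ker) (c : C), Commute (t.ker.subtype k) (s c) := by
    intro k c
    have := hcen k k.2 (s c)
    show (k : A) * s c = s c * (k : A)
    calc (k : A) * s c = (s c * (k : A) * (s c)⁻¹) * s c := by rw [this]
      _ = s c * (k : A) := by group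
  let φ : t.ker × C →* A := MonoidHom.noncommCoprod t.ker.subtype s hcomm
  have hφ : ∀ x : t.ker × C, φ x = (x.1 : A) * s x.2 := fun x => rfl
  have hinj : Function.Injective φ := by
    rw [injective_iff_map_eq_one]
    rintro ⟨k, c⟩ h
    rw [hφ] at h
    have h1 := congrArg t h
    rw [map_mul, map_one, MonoidHom.mem_ker.mp k.2, one_mul, hts] at h1
    rw [h1, map_one, mul_one] at h
    exact Prod.ext (Subtype.ext h) h1
  have hbij : Function.Bijective φ := by
    rw [Nat.bijective_iff_injective_and_card]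
    exact ⟨hinj, by rw [Nat.card_prod, hK, hcard]⟩
  have hp : Fact (Nat.Prime 2) := ⟨Nat.prime_two⟩
  have hcyc : IsCyclic t.ker := isCyclic_of_prime_card hK
  obtain ⟨e2⟩ : Nonempty (t.ker ≃* Multiplicative (ZMod 2)) := by
    have key : ∀ n : ℕ, Nat.card t.ker = n → Nonempty (t.ker ≃* Multiplicative (ZMod n)) := by
      rintro n rfl
      exact ⟨(zmodCyclicMulEquiv hcyc).symm⟩
    exact key 2 hK
  exact ⟨(MulEquiv.ofBijective φ hbij).symm.trans (MulEquiv.prodCongr e2 (MulEquiv.refl C))⟩

end General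

section Abstract

variable {F : Type*} [Field F] {V : Type*} [AddCommGroup V] [Module F V] {Q : QuadraticForm F V}

theorem semiSim_ap (h : ↥(SG Q)) : SemiSim Q (fun x => ap h x) (1 : F ≃+* F) 1 :=
  ⟨one_ne_zero, fun x y => map_add _ x y, fun c x => by rw [RingAut.one_apply, map_smul],
    fun x => by rw [RingAut.one_apply, one_mul, Q_ap], (ap h).bijective⟩

/-- the Siegel group inside the group of semilinear similarities. -/
noncomputable def sgGamma : ↥(SG Q) →* ↥(GammaO Q) where
  toFun h := mkGamma (semiSim_ap h)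
  map_one' := by
    apply ext_gap
    intro x
    rfl
  map_mul' a b := by
    apply ext_gap
    intro x
    rfl

theorem gap_sgGamma (h : ↥(SG Q)) (x : V) : gap (sgGamma h) x = ap h x := rfl

theorem conjS_sgGamma (h h' : ↥(SG Q)) : conjS (sgGamma h) h' = h * h' * h⁻¹ := by
  apply ext_ap
  intro x
  rw [ap_conjS, ← map_inv, gap_sgGamma, gap_sgGamma, ap_mul, ap_mul]

theorem Psi_sgGamma (h : ↥(SG Q)) : Psi (sgGamma h) = MulAut.conj (pr h) := by
  apply MulEquiv.ext
  intro y
  obtain ⟨h', rfl⟩ := pr_surjective y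
  rw [Psi_pr, conjS_sgGamma, MulAut.conj_apply, map_mul, map_mul, map_inv]

variable [Nontrivial V]

theorem tau_sgGamma (h : ↥(SG Q)) : tau (sgGamma h) = 1 := tau_eq (semiSim_ap h)

theorem tau_scalarGamma (c : Fˣ) : tau (scalarGamma (Q := Q) c) = 1 :=
  tau_eq (semiSim_smul c.ne_zero)

/-- the field automorphism of an automorphism of the projective Siegel group. -/
noncomputable def tauAut (hsurj : Function.Surjective (Psi (Q := Q)))
    (hker : (Psi (Q := Q)).ker ≤ (tau (Q := Q)).ker) : MulAut (PG Q) →* (F ≃+* F) :=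
  (Psi (Q := Q)).liftOfSurjective hsurj ⟨tau, hker⟩

theorem tauAut_Psi (hsurj : Function.Surjective (Psi (Q := Q)))
    (hker : (Psi (Q := Q)).ker ≤ (tau (Q := Q)).ker) (γ : ↥(GammaO Q)) :
    tauAut hsurj hker (Psi γ) = tau γ :=
  MonoidHom.liftOfRightInverse_comp_apply _ _ _ ⟨tau, hker⟩ γ

theorem Inn_le_ker_tauAut (hsurj : Function.Surjective (Psi (Q := Q)))
    (hker : (Psi (Q := Q)).ker ≤ (tau (Q := Q)).ker) :
    Cfsg.Inn (PG Q) ≤ (tauAut hsurj hker).ker := by
  rintro _ ⟨y, rfl⟩
  obtain ⟨h, rfl⟩ := pr_surjective y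
  rw [MonoidHom.mem_ker, ← Psi_sgGamma, tauAut_Psi, tau_sgGamma]

/-- the field automorphism of an outer automorphism of the projective Siegel group. -/
noncomputable def tauOut (hsurj : Function.Surjective (Psi (Q := Q)))
    (hker : (Psi (Q := Q)).ker ≤ (tau (Q := Q)).ker) : Cfsg.Out (PG Q) →* (F ≃+* F) :=
  QuotientGroup.lift (Cfsg.Inn (PG Q)) (tauAut hsurj hker) (Inn_le_ker_tauAut hsurj hker)

theorem tauOut_mk (hsurj : Function.Surjective (Psi (Q := Q)))
    (hker : (Psi (Q := Q)).ker ≤ (tau (Q := Q)).ker) (γ : ↥(GammaO Q)) :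
    tauOut hsurj hker (QuotientGroup.mk (Psi γ)) = tau γ := by
  show tauAut hsurj hker (Psi γ) = tau γ
  exact tauAut_Psi hsurj hker γ

end Abstract

section Matrix

variable {F : Type*} [Field F] [Fintype F] {ι : Type} [Fintype ι] [DecidableEq ι]
  (Q : QuadraticForm F (ι → F))

/-- **the outer automorphism group of `PΩ(Q)` in odd dimension and odd characteristic.** -/
theorem out_POmega_odd [Nontrivial (ι → F)] (h2 : (2 : F) ≠ 0)
    (hQ : (QuadraticMap.polarBilin Q).Nondegenerate)
    (h7 : 7 ≤ Fintype.card ι) (hodd : Odd (Fintype.card ι))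
    (hB2 : 9 ≤ Fintype.card ι ∨ NoB2 Q)
    (hσ : ∀ (σ : F ≃+* F) (v : ι → F), Q (fun i => σ (v i)) = σ (Q v)) :
    Nonempty (Cfsg.Out (Cfsg.POmega F ⇑Q) ≃* Multiplicative (ZMod 2) × (F ≃+* F)) := by
  obtain ⟨p, hp, hc⟩ := exists_char F
  have hdim : finrank F (ι → F) = Fintype.card ι := Module.finrank_fintype_fun_eq_card F
  have hQ' : Nondeg Q := (nondeg_iff Q).mp hQ
  have hsurj : Function.Surjective (Psi (Q := Q)) :=
    Psi_surjective hQ' (by rw [hdim]; exact h7) p (by rw [hdim]; exact hB2)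
  have hker : (Psi (Q := Q)).ker ≤ (tau (Q := Q)).ker := by
    rw [ker_Psi hQ' (by rw [hdim]; omega) p]
    rintro _ ⟨c, rfl⟩
    exact MonoidHom.mem_ker.mpr (tau_scalarGamma c)
  obtain ⟨E, -⟩ : ∃ E : Cfsg.POmega F ⇑Q ≃* PG Q, True :=
    ⟨Cfsg.Agent.Helper8.SL2HermOmega.quotCenterEquiv (omegaEquiv Q hQ (by omega)), trivial⟩
  -- the order of the outer automorphism group
  have hcardOut : Nat.card (Cfsg.Out (PG Q)) = 2 * Nat.card (F ≃+* F) := by
    have h1 := card_aut_POmega_odd Q h2 hQ h7 hodd hB2 hσ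
    rw [Nat.card_congr (MulAut.congr E).toEquiv, Nat.card_congr E.toEquiv] at h1
    have h3 := Subgroup.card_eq_card_quotient_mul_card_subgroup (Cfsg.Inn (PG Q))
    have hcen : Subgroup.center (PG Q) = ⊥ :=
      center_quot_center_eq_bot (commutator_SG_eq_top Q hQ' (by rw [hdim]; omega))
    rw [card_Inn_of_center_eq_bot hcen, h1] at h3
    haveI : Finite (ι → F) := Module.finite_of_finite F
    haveI : Finite ↥(SG Q) := Finite.of_injective (fun h => (ap h : (ι → F) → (ι → F)))
      (fun a b hab => ext_ap (fun x => congrFun hab x))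
    have hpos : 0 < Nat.card (PG Q) := Nat.card_pos
    exact (Nat.eq_of_mul_eq_mul_right hpos h3).symm
  haveI : Finite (Cfsg.Out (PG Q)) := by
    apply Nat.finite_of_card_ne_zero
    rw [hcardOut]
    haveI : Finite (F ≃+* F) := Finite.of_injective (fun σ : F ≃+* F => (σ : F → F))
      (fun a b hab => RingEquiv.ext (fun x => congrFun hab x))
    have : 0 < Nat.card (F ≃+* F) := Nat.card_pos
    omega
  obtain ⟨e1⟩ := split_of_card_two (tauOut hsurj hker)
    ((QuotientGroup.mk' (Cfsg.Inn (PG Q))).comp ((Psi (Q := Q)).comp (fieldGamma Q hσ)))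
    (fun σ => by
      show tauOut hsurj hker (QuotientGroup.mk (Psi (fieldGamma Q hσ σ))) = σ
      rw [tauOut_mk, tau_fieldGamma]) hcardOut
  exact ⟨(outCongr E).trans e1⟩

/-- **the outer automorphism group of `Ω_{2m+1}(q)`, `q` odd, `m ≥ 3`.** -/
theorem out_POmega_oddForm {p f : ℕ} [Fact p.Prime] (hF : Fintype.card F = p ^ f)
    (h2 : (2 : F) ≠ 0) {m : ℕ} (hm : 3 ≤ m) :
    Nonempty (Cfsg.Out (Cfsg.POmega F (Cfsg.quadFormOdd m F))
      ≃* Multiplicative (ZMod 2 × ZMod f)) := by
  have e : ⇑(oddForm F m) = Cfsg.quadFormOdd m F := funext (oddForm_apply F m)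
  have hcard : Fintype.card (Unit ⊕ (Fin m ⊕ Fin m)) = 2 * m + 1 := by
    simp only [Fintype.card_sum, Fintype.card_unique, Fintype.card_fin]; ring
  have : CharP F p := charP_of_card_eq_prime_pow hF
  have hcardA := Cfsg.Agent.Helper7.FieldAutCard.card_ringAut p f hF
  have hcyc : IsCyclic (F ≃+* F) := Cfsg.Agent.Helper8.AutPSL2.isCyclic_ringAut'
  obtain ⟨ef⟩ : Nonempty ((F ≃+* F) ≃* Multiplicative (ZMod f)) := by
    rw [← hcardA]
    exact ⟨(zmodCyclicMulEquiv hcyc).symm⟩
  rw [← e]
  obtain ⟨e1⟩ := out_POmega_odd (oddForm F m) h2 (oddForm_nondeg F m h2) (by rw [hcard]; omega)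
    (by rw [hcard]; exact ⟨m, rfl⟩)
    (by
      by_cases h4 : 4 ≤ m
      · left; rw [hcard]; omega
      · right
        apply noB2_of_finrank ((nondeg_iff _).mp (oddForm_nondeg F m h2))
        rw [finrank_odd]; omega)
    (by
      intro σ v
      rw [oddForm_apply, oddForm_apply]
      unfold Cfsg.quadFormOdd
      simp only [map_add, map_pow, map_sum, map_mul])
  exact ⟨(e1.trans (MulEquiv.prodCongr (MulEquiv.refl _) ef)).trans
    (MulEquiv.prodMultiplicative _ _).symm⟩

end Matrix

end Cfsg.Agent.Helper8.AutO
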