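import Mathlib
import Cfsg.Agent.Helper8.AutOy
import Cfsg.Agent.Helper8.AutImageOrth

set_option autoImplicit false
set_option linter.unusedSectionVars false
set_option linter.style.haveILetI false

/-!
# Automorphisms of orthogonal groups, part zd: the action of the semilinear similarities on
`PΩ(Q)` for a matrix quadratic form; inner-diagonal and field automorphisms
-/

namespace Cfsg.Agent.Helper8.AutO

open Module Matrix Cfsg.Agent.Helper8.QuadForm Cfsg.Agent.Helper8.WittQuad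
  Cfsg.Agent.Helper8.OrthOrder
  Cfsg.Agent.Helper8.Siegel Cfsg.Agent.Helper8.SiegelGeom Cfsg.Agent.Helper8.SiegelGroup
  Cfsg.Agent.Helper8.SiegelPrim Cfsg.Agent.Helper8.SiegelSimple Cfsg.Agent.Helper8.ReflMatrix
  Cfsg.Agent.Helper8.OmegaSimple Cfsg.Agent.Helper8.AutImagePsi Cfsg.Agent.Helper8.AutImageOrth
  Cfsg.Agent.Helper8.StdForms Cfsg.Agent.Helper8.AutImage

variable {F : Type*} [Field F] [Fintype F] {ι : Type} [Fintype ι] [DecidableEq ι]
  (Q : QuadraticForm F (ι → F)) (hQ : (QuadraticMap.polarBilin Q).Nondegenerate)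
  (h5 : 5 ≤ Fintype.card ι)

/-- the matrix of an element of `Ω`. -/
def omat (s : ↥(Cfsg.Omega F ⇑Q)) : Matrix ι ι F :=
  (((s : ↥(Cfsg.isometryGroup F ⇑Q)) : GL ι F) : Matrix ι ι F)

/-- the isomorphism of `PΩ(Q)` with the projective Siegel group. -/
noncomputable def EPG : Cfsg.POmega F ⇑Q ≃* PG Q :=
  Cfsg.Agent.Helper8.SL2HermOmega.quotCenterEquiv (omegaEquiv Q hQ h5)

include hQ h5 in
theorem EPG_mk (s : ↥(Cfsg.Omega F ⇑Q)) :
    EPG Q hQ h5 (QuotientGroup.mk s) = pr (omegaEquiv Q hQ h5 s) := rfl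

/-- the action of the semilinear similarities on `PΩ(Q)`. -/
noncomputable def PsiM : ↥(GammaO Q) →* MulAut (Cfsg.POmega F ⇑Q) :=
  (MulAut.congr (EPG Q hQ h5)).symm.toMonoidHom.comp Psi

theorem PsiM_apply (γ : ↥(GammaO Q)) (t : Cfsg.POmega F ⇑Q) :
    PsiM Q hQ h5 γ t = (EPG Q hQ h5).symm (Psi γ (EPG Q hQ h5 t)) := rfl

theorem PsiM_surjective (hsurj : Function.Surjective (Psi (Q := Q))) :
    Function.Surjective (PsiM Q hQ h5) :=
  (MulAut.congr (EPG Q hQ h5)).symm.surjective.comp hsurj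

theorem ker_PsiM : (PsiM Q hQ h5).ker = (Psi (Q := Q)).ker := by
  ext γ
  rw [MonoidHom.mem_ker, MonoidHom.mem_ker]
  show (MulAut.congr (EPG Q hQ h5)).symm (Psi γ) = 1 ↔ _
  exact MulEquiv.map_eq_one_iff _

include hQ h5

theorem PsiM_mk (γ : ↥(GammaO Q)) (s s' : ↥(Cfsg.Omega F ⇑Q))
    (h : ∀ v, omat Q s' *ᵥ gap γ v = gap γ (omat Q s *ᵥ v)) :
    PsiM Q hQ h5 γ (QuotientGroup.mk s) = QuotientGroup.mk s' := by
  rw [PsiM_apply, EPG_mk, Psi_pr]
  have h1 : conjS γ (omegaEquiv Q hQ h5 s) = omegaEquiv Q hQ h5 s' := by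
    apply ext_ap
    intro x
    obtain ⟨y, rfl⟩ : ∃ y, gap γ y = x := ⟨gap γ⁻¹ x, gap_gap_inv γ x⟩
    rw [ap_conjS_gap, ap_omegaEquiv, ap_omegaEquiv]
    exact (h y).symm
  rw [h1, ← EPG_mk, MulEquiv.symm_apply_apply]

theorem exists_omega_conj (γ : ↥(GammaO Q)) (s : ↥(Cfsg.Omega F ⇑Q)) :
    ∃ s' : ↥(Cfsg.Omega F ⇑Q), ∀ v, omat Q s' *ᵥ gap γ v = gap γ (omat Q s *ᵥ v) := by
  refine ⟨(omegaEquiv Q hQ h5).symm (conjS γ (omegaEquiv Q hQ h5 s)), fun v => ?_⟩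
  have h1 := ap_omegaEquiv Q hQ h5 ((omegaEquiv Q hQ h5).symm (conjS γ (omegaEquiv Q hQ h5 s)))
    (gap γ v)
  rw [MulEquiv.apply_symm_apply, ap_conjS_gap, ap_omegaEquiv] at h1
  exact h1.symm

/-- the automorphism attached to `v ↦ M σ(v)` is induced by it. -/
theorem induced_PsiM (γ : ↥(GammaO Q)) (M : GL ι F) (σ : F ≃+* F)
    (hgap : ∀ v, gap γ v = (M : Matrix ι ι F) *ᵥ (fun i => σ (v i))) :
    Cfsg.IsInducedBySemilinearPOmega ⇑Q M σ (PsiM Q hQ h5 γ) := by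
  intro s s' hss'
  apply PsiM_mk
  intro v
  have h2 : ((M⁻¹ : GL ι F) : Matrix ι ι F) * (M : Matrix ι ι F) = 1 := by
    rw [← Units.val_mul, inv_mul_cancel, Units.val_one]
  show omat Q s' *ᵥ gap γ v = gap γ (omat Q s *ᵥ v)
  have e : omat Q s' = (M : Matrix ι ι F) * (omat Q s).map σ * ((M⁻¹ : GL ι F) : Matrix ι ι F) :=
    hss'
  rw [hgap, hgap, e, mulVec_mulVec, Matrix.mul_assoc, h2, Matrix.mul_one, ← mulVec_mulVec,
    map_mulVec_sigma]

/-- an automorphism induced by `v ↦ M σ(v)` is the one attached to it. -/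
theorem eq_PsiM_of_induced (γ : ↥(GammaO Q)) (M : GL ι F) (σ : F ≃+* F)
    (hgap : ∀ v, gap γ v = (M : Matrix ι ι F) *ᵥ (fun i => σ (v i)))
    {β : MulAut (Cfsg.POmega F ⇑Q)} (hβ : Cfsg.IsInducedBySemilinearPOmega ⇑Q M σ β) :
    β = PsiM Q hQ h5 γ := by
  apply MulEquiv.ext
  intro t
  obtain ⟨s, rfl⟩ := QuotientGroup.mk_surjective t
  obtain ⟨s', hs'⟩ := exists_omega_conj Q hQ h5 γ s
  have h2 : ((M⁻¹ : GL ι F) : Matrix ι ι F) * (M : Matrix ι ι F) = 1 := by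
    rw [← Units.val_mul, inv_mul_cancel, Units.val_one]
  have hmat : omat Q s'
      = (M : Matrix ι ι F) * (omat Q s).map σ * ((M⁻¹ : GL ι F) : Matrix ι ι F) := by
    apply Matrix.toLin'.injective
    apply LinearMap.ext
    intro w
    obtain ⟨v, rfl⟩ : ∃ v, gap γ v = w := ⟨gap γ⁻¹ w, gap_gap_inv γ w⟩
    rw [Matrix.toLin'_apply, Matrix.toLin'_apply, hs', hgap, hgap, mulVec_mulVec, Matrix.mul_assoc,
      h2, Matrix.mul_one, ← mulVec_mulVec, map_mulVec_sigma]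
  rw [PsiM_mk Q hQ h5 γ s s' hs']
  exact hβ s s' hmat

/-- the action of a similarity matrix. -/
theorem PsiM_simGamma (g : ↥(Cfsg.Geo.quadSimilarityGroup (F := F) ⇑Q)) :
    PsiM Q hQ h5 (simGamma Q g) = Phi ⇑Q g := by
  symm
  apply eq_PsiM_of_induced Q hQ h5 (simGamma Q g) (g : GL ι F) (RingEquiv.refl F)
  · intro v
    rfl
  · exact (induced_iff ⇑Q g.2 _).mpr rfl

theorem pgoAut_eq_map :
    Cfsg.pgoAut F ⇑Q = (simGamma Q).range.map (PsiM Q hQ h5) := by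
  rw [pgoAut_eq]
  ext β
  constructor
  · rintro ⟨g, rfl⟩
    exact ⟨simGamma Q g, ⟨g, rfl⟩, PsiM_simGamma Q hQ h5 g⟩
  · rintro ⟨_, ⟨g, rfl⟩, rfl⟩
    exact ⟨g, (PsiM_simGamma Q hQ h5 g).symm⟩

/-- the image of the conformal group is normal in the automorphism group. -/
theorem pgoAut_normal [Nontrivial (ι → F)] (hsurj : Function.Surjective (Psi (Q := Q))) :
    (Cfsg.pgoAut F ⇑Q).Normal := by
  rw [pgoAut_eq_map Q hQ h5, ← ker_tau]
  exact Subgroup.Normal.map inferInstance _ (PsiM_surjective Q hQ h5 hsurj)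

section Field

variable [Nontrivial (ι → F)] (hσ : ∀ (σ : F ≃+* F) (v : ι → F), Q (fun i => σ (v i)) = σ (Q v))

/-- the standard field automorphisms of `PΩ(Q)`. -/
noncomputable def poField : (F ≃+* F) →* MulAut (Cfsg.POmega F ⇑Q) :=
  (PsiM Q hQ h5).comp (fieldGamma Q hσ)

include hσ

theorem isFieldAut_poField (σ : F ≃+* F) :
    Cfsg.IsFieldAutPOmegaOf ⇑Q σ (poField Q hQ h5 hσ σ) := by
  intro s s' hss'
  apply induced_PsiM Q hQ h5 (fieldGamma Q hσ σ) 1 σ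
  · intro v
    rw [gap_fieldGamma, Units.val_one, one_mulVec]
  · rw [Units.val_one, inv_one, Units.val_one, Matrix.one_mul, Matrix.mul_one]
    exact hss'

theorem eq_poField_of_isFieldAut {σ : F ≃+* F} {φ : MulAut (Cfsg.POmega F ⇑Q)}
    (hφ : Cfsg.IsFieldAutPOmegaOf ⇑Q σ φ) : φ = poField Q hQ h5 hσ σ := by
  apply eq_PsiM_of_induced Q hQ h5 (fieldGamma Q hσ σ) 1 σ
  · intro v
    rw [gap_fieldGamma, Units.val_one, one_mulVec]
  · intro s s' hss'
    apply hφ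
    rw [Units.val_one, inv_one, Units.val_one, Matrix.one_mul, Matrix.mul_one] at hss'
    exact hss'

theorem poField_injective (p : ℕ) [Fact p.Prime] [CharP F p] :
    Function.Injective (poField Q hQ h5 hσ) := by
  rw [injective_iff_map_eq_one]
  intro σ h1
  have hdim : finrank F (ι → F) = Fintype.card ι := Module.finrank_fintype_fun_eq_card F
  have h2 : fieldGamma Q hσ σ ∈ (PsiM Q hQ h5).ker := h1
  rw [ker_PsiM, ker_Psi ((nondeg_iff Q).mp hQ) (by rw [hdim]; exact h5) p] at h2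
  obtain ⟨c, hc⟩ := h2
  rw [← tau_fieldGamma Q hσ σ, ← hc, tau_scalarGamma]

end Field

end Cfsg.Agent.Helper8.AutO
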