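import Mathlib
import Cfsg.Agent.Helper8.AutOzd
import Cfsg.Agent.Helper8.AutImageIdx

set_option autoImplicit false
set_option linter.unusedSectionVars false
set_option linter.style.haveILetI false

/-!
# Automorphisms of orthogonal groups, part zs: the field automorphism of an automorphism of
`PΩ(Q)`, and conjugation of similarities by semilinear similarities
-/

namespace Cfsg.Agent.Helper8.AutO

open Module Matrix Cfsg.Agent.Helper8.QuadForm Cfsg.Agent.Helper8.WittQuad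
  Cfsg.Agent.Helper8.OrthOrder
  Cfsg.Agent.Helper8.Siegel Cfsg.Agent.Helper8.SiegelGeom Cfsg.Agent.Helper8.SiegelGroup
  Cfsg.Agent.Helper8.SiegelPrim Cfsg.Agent.Helper8.SiegelSimple Cfsg.Agent.Helper8.ReflMatrix
  Cfsg.Agent.Helper8.OmegaSimple Cfsg.Agent.Helper8.AutImagePsi Cfsg.Agent.Helper8.AutImageOrth
  Cfsg.Agent.Helper8.StdForms Cfsg.Agent.Helper8.AutImage Cfsg.Agent.Helper8.AutImageKer
  Cfsg.Agent.Helper8.AutImageIdx

variable {F : Type*} [Field F] [Fintype F] {ι : Type} [Fintype ι] [DecidableEq ι]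
  (Q : QuadraticForm F (ι → F)) (hQ : (QuadraticMap.polarBilin Q).Nondegenerate)
  (h5 : 5 ≤ Fintype.card ι)

section TauM

variable [Nontrivial (ι → F)] (hsurj : Function.Surjective (Psi (Q := Q)))
  (hker : (Psi (Q := Q)).ker ≤ (tau (Q := Q)).ker)

/-- the field automorphism of an automorphism of `PΩ(Q)`. -/
noncomputable def tauAutM : MulAut (Cfsg.POmega F ⇑Q) →* (F ≃+* F) :=
  (PsiM Q hQ h5).liftOfSurjective (PsiM_surjective Q hQ h5 hsurj)
    ⟨tau, by rw [ker_PsiM]; exact hker⟩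

theorem tauAutM_PsiM (γ : ↥(GammaO Q)) :
    tauAutM Q hQ h5 hsurj hker (PsiM Q hQ h5 γ) = tau γ :=
  MonoidHom.liftOfRightInverse_comp_apply _ _ _ ⟨tau, by rw [ker_PsiM]; exact hker⟩ γ

theorem ker_tauAutM : (tauAutM Q hQ h5 hsurj hker).ker = Cfsg.pgoAut F ⇑Q := by
  rw [pgoAut_eq_map Q hQ h5]
  ext β
  obtain ⟨γ, rfl⟩ := PsiM_surjective Q hQ h5 hsurj β
  rw [MonoidHom.mem_ker, tauAutM_PsiM]
  constructor
  · intro h
    refine ⟨γ, ?_, rfl⟩
    rw [← ker_tau]
    exact h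
  · rintro ⟨γ', hγ', h⟩
    rw [← tauAutM_PsiM Q hQ h5 hsurj hker, ← h, tauAutM_PsiM]
    have : γ' ∈ (tau (Q := Q)).ker := by
      rw [ker_tau]
      exact hγ'
    exact this

omit [Nontrivial (ι → F)] in
theorem Inn_le_pgoAut : Cfsg.Inn (Cfsg.POmega F ⇑Q) ≤ Cfsg.pgoAut F ⇑Q := by
  rw [Inn_eq', pgoAut_eq]
  rintro _ ⟨s, -, rfl⟩
  exact ⟨Subgroup.inclusion (isometry_le_similarity ⇑Q) s, rfl⟩

theorem Inn_le_ker_tauAutM :
    Cfsg.Inn (Cfsg.POmega F ⇑Q) ≤ (tauAutM Q hQ h5 hsurj hker).ker := by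
  rw [ker_tauAutM]
  exact Inn_le_pgoAut Q

/-- the field automorphism of an outer automorphism of `PΩ(Q)`. -/
noncomputable def tauOutM : Cfsg.Out (Cfsg.POmega F ⇑Q) →* (F ≃+* F) :=
  QuotientGroup.lift (Cfsg.Inn (Cfsg.POmega F ⇑Q)) (tauAutM Q hQ h5 hsurj hker)
    (Inn_le_ker_tauAutM Q hQ h5 hsurj hker)

theorem tauOutM_mk (γ : ↥(GammaO Q)) :
    tauOutM Q hQ h5 hsurj hker (QuotientGroup.mk (PsiM Q hQ h5 γ)) = tau γ := by
  show tauAutM Q hQ h5 hsurj hker (PsiM Q hQ h5 γ) = tau γ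
  exact tauAutM_PsiM Q hQ h5 hsurj hker γ

end TauM

section Conj

variable [Nontrivial (ι → F)]

/-- conjugating a similarity by a semilinear similarity: the multiplier and the determinant are
transformed by the field automorphism. -/
theorem exists_conj_simGamma (hne : ∃ v, Q v ≠ 0) (γ : ↥(GammaO Q))
    (g : ↥(Cfsg.Geo.quadSimilarityGroup (F := F) ⇑Q)) :
    ∃ g' : ↥(Cfsg.Geo.quadSimilarityGroup (F := F) ⇑Q),
      γ * simGamma Q g * γ⁻¹ = simGamma Q g' ∧
      ((mult ⇑Q hne g' : Fˣ) : F) = tau γ ((mult ⇑Q hne g : Fˣ) : F) ∧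
      ((g' : GL ι F) : Matrix ι ι F).det = tau γ (((g : GL ι F) : Matrix ι ι F).det) := by
  have hmem : γ * simGamma Q g * γ⁻¹ ∈ (tau (Q := Q)).ker := by
    rw [MonoidHom.mem_ker, map_mul, map_mul, map_inv, tau_simGamma, mul_one, mul_inv_cancel]
  rw [ker_tau] at hmem
  obtain ⟨g', hg'⟩ := hmem
  have hrel : ∀ v, ((g' : GL ι F) : Matrix ι ι F) *ᵥ gap γ v
      = gap γ (((g : GL ι F) : Matrix ι ι F) *ᵥ v) := by
    intro v
    rw [← gap_simGamma, hg', gap_mul, gap_mul, gap_inv_gap, gap_simGamma]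
  refine ⟨g', hg'.symm, ?_, ?_⟩
  · have hs := semiSim_tau γ
    have h1 : mult ⇑Q hne g' = Units.map (tau γ : F →* F) (mult ⇑Q hne g) := by
      apply mult_eq_of
      intro w
      obtain ⟨v, rfl⟩ : ∃ v, gap γ v = w := ⟨gap γ⁻¹ w, gap_gap_inv γ w⟩
      rw [hrel, hs.map_Q, hs.map_Q, mult_spec ⇑Q hne g, map_mul]
      show _ = (tau γ) ((mult ⇑Q hne g : Fˣ) : F) * _
      ring
    rw [h1]
    rfl
  · obtain ⟨M, hM⟩ := exists_matrix (semiSim_tau γ)
    have hmat : ((g' : GL ι F) : Matrix ι ι F) * (M : Matrix ι ι F)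
        = (M : Matrix ι ι F) * (((g : GL ι F) : Matrix ι ι F).map (tau γ)) := by
      apply Matrix.toLin'.injective
      apply LinearMap.ext
      intro u
      obtain ⟨v, rfl⟩ : ∃ v : ι → F, (fun i => tau γ (v i)) = u :=
        ⟨fun i => (tau γ).symm (u i), by funext i; exact (tau γ).apply_symm_apply (u i)⟩
      rw [Matrix.toLin'_apply, Matrix.toLin'_apply, ← mulVec_mulVec, ← hM, hrel, hM,
        ← mulVec_mulVec, map_mulVec_sigma]
    have hdet := congrArg Matrix.det hmat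
    rw [Matrix.det_mul, Matrix.det_mul] at hdet
    have hM0 : (M : Matrix ι ι F).det ≠ 0 := by
      have := (Matrix.GeneralLinearGroup.det M).ne_zero
      exact this
    have h3 : (((g : GL ι F) : Matrix ι ι F).map (tau γ)).det
        = tau γ (((g : GL ι F) : Matrix ι ι F).det) := by
      have := RingHom.map_det ((tau γ : F ≃+* F) : F →+* F) ((g : GL ι F) : Matrix ι ι F)
      rw [RingHom.mapMatrix_apply] at this
      exact this.symm
    rw [h3] at hdet
    apply mul_right_cancel₀ hM0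
    rw [hdet, mul_comm]

end Conj

end Cfsg.Agent.Helper8.AutO
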