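import Mathlib
import Cfsg.Agent.Helper8.AutOzd
import Cfsg.Agent.Helper8.AutSLnS

set_option autoImplicit false
set_option linter.unusedSectionVars false
set_option linter.style.haveILetI false

/-!
# Automorphisms of orthogonal groups, part zy: transport of `PΩ` and of the induced automorphisms
along a linear isometry between two quadratic forms
-/

namespace Cfsg.Agent.Helper8.AutO

open Module Matrix Cfsg.Agent.Helper8.AutImageOrth
open Cfsg.Agent.Helper8.AutSLn (gls)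
open Cfsg.Agent.Helper8.SL2HermOmega (quotCenterEquiv)

section Generic

/-- isomorphic groups have isomorphic commutator subgroups. -/
noncomputable def commEquiv {G G' : Type*} [Group G] [Group G'] (E : G ≃* G') :
    ↥(commutator G) ≃* ↥(commutator G') :=
  (E.subgroupMap (commutator G)).trans (MulEquiv.subgroupCongr (by
    rw [commutator_def, commutator_def, Subgroup.map_commutator]
    have h : (⊤ : Subgroup G).map (E : G →* G') = ⊤ :=
      Subgroup.map_top_of_surjective _ E.surjective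
    exact congrArg (fun X => ⁅X, X⁆) h))

theorem commEquiv_coe {G G' : Type*} [Group G] [Group G'] (E : G ≃* G') (s : ↥(commutator G)) :
    ((commEquiv E s : ↥(commutator G')) : G') = E (s : G) := rfl

theorem commEquiv_symm_coe {G G' : Type*} [Group G] [Group G'] (E : G ≃* G')
    (s : ↥(commutator G')) :
    (((commEquiv E).symm s : ↥(commutator G)) : G) = E.symm (s : G') := by
  apply E.injective
  rw [MulEquiv.apply_symm_apply, ← commEquiv_coe, MulEquiv.apply_symm_apply]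

theorem quotCenterEquiv_mk {G H : Type*} [Group G] [Group H] (e : G ≃* H) (g : G) :
    quotCenterEquiv e (QuotientGroup.mk g) = QuotientGroup.mk (e g) := rfl

theorem quotCenterEquiv_symm_mk {G H : Type*} [Group G] [Group H] (e : G ≃* H) (h : H) :
    (quotCenterEquiv e).symm (QuotientGroup.mk h) = QuotientGroup.mk (e.symm h) := by
  rw [MulEquiv.symm_apply_eq, quotCenterEquiv_mk, MulEquiv.apply_symm_apply]

end Generic

section Transport

variable {F : Type*} [Field F] {ι : Type} [Fintype ι] [DecidableEq ι]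

/-- the matrix of an element of `Ω`, for a form given as a function. -/
def omatF (Qf : (ι → F) → F) (s : ↥(Cfsg.Omega F Qf)) : Matrix ι ι F :=
  (((s : ↥(Cfsg.isometryGroup F Qf)) : GL ι F) : Matrix ι ι F)

/-- **transport of an induced automorphism** along an isomorphism `Ω(Q) ≃ Ω(Q')` given by
conjugation with a matrix `A`. -/
theorem induced_transport (Qf Qf' : (ι → F) → F) (E : ↥(Cfsg.Omega F Qf) ≃* ↥(Cfsg.Omega F Qf'))
    (A : GL ι F)
    (hE : ∀ s, omatF Qf' (E s) = (A : Matrix ι ι F) * omatF Qf s * ((A⁻¹ : GL ι F) : Matrix ι ι F))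
    (M' : GL ι F) (σ : F ≃+* F) (β' : MulAut (Cfsg.POmega F Qf'))
    (h : Cfsg.IsInducedBySemilinearPOmega Qf' M' σ β') :
    Cfsg.IsInducedBySemilinearPOmega Qf (A⁻¹ * M' * gls σ A) σ
      (((quotCenterEquiv E).trans β').trans (quotCenterEquiv E).symm) := by
  intro s s' hss'
  have hss'' : omatF Qf s' = ((A⁻¹ * M' * gls σ A : GL ι F) : Matrix ι ι F) *
      (omatF Qf s).map σ * (((A⁻¹ * M' * gls σ A)⁻¹ : GL ι F) : Matrix ι ι F) := hss'
  have h1 : β' (QuotientGroup.mk (E s)) = QuotientGroup.mk (E s') := by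
    apply h
    show omatF Qf' (E s') = (M' : Matrix ι ι F) * (omatF Qf' (E s)).map σ *
      ((M'⁻¹ : GL ι F) : Matrix ι ι F)
    rw [hE, hE, hss'']
    have e1 : (((A : Matrix ι ι F) * omatF Qf s * ((A⁻¹ : GL ι F) : Matrix ι ι F)).map σ)
        = ((gls σ A : GL ι F) : Matrix ι ι F) * (omatF Qf s).map σ *
          (((gls σ A)⁻¹ : GL ι F) : Matrix ι ι F) := by
      rw [Matrix.map_mul, Matrix.map_mul, ← map_inv]
      rfl
    rw [e1]
    have e2 : (((A⁻¹ * M' * gls σ A)⁻¹ : GL ι F) : Matrix ι ι F)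
        = (((gls σ A)⁻¹ : GL ι F) : Matrix ι ι F) * ((M'⁻¹ : GL ι F) : Matrix ι ι F) *
          (A : Matrix ι ι F) := by
      rw [_root_.mul_inv_rev, _root_.mul_inv_rev, inv_inv, Units.val_mul, Units.val_mul,
        Matrix.mul_assoc]
    have e3 : ((A⁻¹ * M' * gls σ A : GL ι F) : Matrix ι ι F)
        = ((A⁻¹ : GL ι F) : Matrix ι ι F) * (M' : Matrix ι ι F) *
          ((gls σ A : GL ι F) : Matrix ι ι F) := by
      rw [Units.val_mul, Units.val_mul]
    have hA1 : (A : Matrix ι ι F) * ((A⁻¹ : GL ι F) : Matrix ι ι F) = 1 := by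
      rw [← Units.val_mul, mul_inv_cancel, Units.val_one]
    rw [e2, e3]
    simp only [Matrix.mul_assoc]
    rw [← Matrix.mul_assoc (A : Matrix ι ι F) ((A⁻¹ : GL ι F) : Matrix ι ι F), hA1,
      Matrix.one_mul, Matrix.mul_one]
  show (quotCenterEquiv E).symm (β' (quotCenterEquiv E (QuotientGroup.mk s))) = QuotientGroup.mk s'
  rw [quotCenterEquiv_mk, h1, quotCenterEquiv_symm_mk, MulEquiv.symm_apply_apply]

end Transport

section LinIso

variable {F : Type*} [Field F] {ι : Type} [Fintype ι] [DecidableEq ι]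
  (Qf Qf' : (ι → F) → F) (M₀ : GL ι F)
  (hM₀ : ∀ v, Qf' ((M₀ : Matrix ι ι F) *ᵥ v) = Qf v)

include hM₀ in
theorem conj_mem_isometryGroup {s : GL ι F} (hs : s ∈ Cfsg.isometryGroup F Qf) :
    M₀ * s * M₀⁻¹ ∈ Cfsg.isometryGroup F Qf' := by
  rw [mem_isometryGroup_iff'] at hs ⊢
  intro v
  have h1 : (M₀ : Matrix ι ι F) * ((M₀⁻¹ : GL ι F) : Matrix ι ι F) = 1 := by
    rw [← Units.val_mul, mul_inv_cancel, Units.val_one]
  rw [Units.val_mul, Units.val_mul, ← Matrix.mulVec_mulVec, ← Matrix.mulVec_mulVec, hM₀, hs,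
    ← hM₀, Matrix.mulVec_mulVec, h1, Matrix.one_mulVec]

include hM₀ in
theorem conj_inv_mem_isometryGroup {t : GL ι F} (ht : t ∈ Cfsg.isometryGroup F Qf') :
    M₀⁻¹ * t * M₀ ∈ Cfsg.isometryGroup F Qf := by
  rw [mem_isometryGroup_iff'] at ht ⊢
  intro v
  have h1 : (M₀ : Matrix ι ι F) * ((M₀⁻¹ : GL ι F) : Matrix ι ι F) = 1 := by
    rw [← Units.val_mul, mul_inv_cancel, Units.val_one]
  rw [← hM₀, Matrix.mulVec_mulVec, ← Units.val_mul, ← mul_assoc, ← mul_assoc, mul_inv_cancel,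
    one_mul, Units.val_mul, ← Matrix.mulVec_mulVec, ht, hM₀]

/-- conjugation by a linear isometry, on the isometry groups. -/
noncomputable def conjIso : ↥(Cfsg.isometryGroup F Qf) ≃* ↥(Cfsg.isometryGroup F Qf') where
  toFun s := ⟨M₀ * (s : GL ι F) * M₀⁻¹, conj_mem_isometryGroup Qf Qf' M₀ hM₀ s.2⟩
  invFun t := ⟨M₀⁻¹ * (t : GL ι F) * M₀, conj_inv_mem_isometryGroup Qf Qf' M₀ hM₀ t.2⟩
  left_inv s := by
    apply Subtype.ext
    show M₀⁻¹ * (M₀ * (s : GL ι F) * M₀⁻¹) * M₀ = s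
    group
  right_inv t := by
    apply Subtype.ext
    show M₀ * (M₀⁻¹ * (t : GL ι F) * M₀) * M₀⁻¹ = t
    group
  map_mul' a b := by
    apply Subtype.ext
    show M₀ * ((a : GL ι F) * (b : GL ι F)) * M₀⁻¹ = M₀ * (a : GL ι F) * M₀⁻¹ *
      (M₀ * (b : GL ι F) * M₀⁻¹)
    group

/-- conjugation by a linear isometry, on the groups `Ω`. -/
noncomputable def omegaIso : ↥(Cfsg.Omega F Qf) ≃* ↥(Cfsg.Omega F Qf') :=
  commEquiv (conjIso Qf Qf' M₀ hM₀)

theorem omatF_omegaIso (s : ↥(Cfsg.Omega F Qf)) :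
    omatF Qf' (omegaIso Qf Qf' M₀ hM₀ s)
      = (M₀ : Matrix ι ι F) * omatF Qf s * ((M₀⁻¹ : GL ι F) : Matrix ι ι F) := by
  show (((M₀ * ((s : ↥(Cfsg.isometryGroup F Qf)) : GL ι F) * M₀⁻¹ : GL ι F)) : Matrix ι ι F) = _
  rw [Units.val_mul, Units.val_mul]
  rfl

theorem omatF_omegaIso_symm (t : ↥(Cfsg.Omega F Qf')) :
    omatF Qf ((omegaIso Qf Qf' M₀ hM₀).symm t)
      = ((M₀⁻¹ : GL ι F) : Matrix ι ι F) * omatF Qf' t *
        (((M₀⁻¹)⁻¹ : GL ι F) : Matrix ι ι F) := by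
  have h1 := commEquiv_symm_coe (conjIso Qf Qf' M₀ hM₀) t
  have h2 : omatF Qf ((omegaIso Qf Qf' M₀ hM₀).symm t)
      = (((((commEquiv (conjIso Qf Qf' M₀ hM₀)).symm t : ↥(Cfsg.Omega F Qf)) :
        ↥(Cfsg.isometryGroup F Qf)) : GL ι F) : Matrix ι ι F) := rfl
  rw [h2, h1, inv_inv]
  show (((M₀⁻¹ * ((t : ↥(Cfsg.isometryGroup F Qf')) : GL ι F) * M₀ : GL ι F)) : Matrix ι ι F) = _
  rw [Units.val_mul, Units.val_mul]
  rfl

/-- conjugation by a linear isometry, on the groups `PΩ`. -/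
noncomputable def pIso : Cfsg.POmega F Qf ≃* Cfsg.POmega F Qf' :=
  quotCenterEquiv (omegaIso Qf Qf' M₀ hM₀)

/-- transport of an induced automorphism backwards along a linear isometry. -/
theorem pIso_induced_bwd (M' : GL ι F) (σ : F ≃+* F) (β' : MulAut (Cfsg.POmega F Qf'))
    (h : Cfsg.IsInducedBySemilinearPOmega Qf' M' σ β') :
    Cfsg.IsInducedBySemilinearPOmega Qf (M₀⁻¹ * M' * gls σ M₀) σ
      (((pIso Qf Qf' M₀ hM₀).trans β').trans (pIso Qf Qf' M₀ hM₀).symm) :=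
  induced_transport Qf Qf' (omegaIso Qf Qf' M₀ hM₀) M₀ (omatF_omegaIso Qf Qf' M₀ hM₀) M' σ β' h

/-- transport of an induced automorphism forwards along a linear isometry. -/
theorem pIso_induced_fwd (M : GL ι F) (σ : F ≃+* F) (β : MulAut (Cfsg.POmega F Qf))
    (h : Cfsg.IsInducedBySemilinearPOmega Qf M σ β) :
    Cfsg.IsInducedBySemilinearPOmega Qf' (M₀ * M * (gls σ M₀)⁻¹) σ
      (((pIso Qf Qf' M₀ hM₀).symm.trans β).trans (pIso Qf Qf' M₀ hM₀)) := by
  have h1 := induced_transport Qf' Qf (omegaIso Qf Qf' M₀ hM₀).symm M₀⁻¹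
    (omatF_omegaIso_symm Qf Qf' M₀ hM₀) M σ β h
  rw [inv_inv, map_inv] at h1
  have e : ((quotCenterEquiv (omegaIso Qf Qf' M₀ hM₀).symm).trans β).trans
      (quotCenterEquiv (omegaIso Qf Qf' M₀ hM₀).symm).symm
      = ((pIso Qf Qf' M₀ hM₀).symm.trans β).trans (pIso Qf Qf' M₀ hM₀) := by
    have e0 : quotCenterEquiv (omegaIso Qf Qf' M₀ hM₀).symm = (pIso Qf Qf' M₀ hM₀).symm := by
      apply MulEquiv.ext
      intro t
      obtain ⟨s, rfl⟩ := QuotientGroup.mk_surjective t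
      rw [quotCenterEquiv_mk]
      unfold pIso
      rw [quotCenterEquiv_symm_mk]
    rw [e0, MulEquiv.symm_symm]
  rw [e] at h1
  exact h1

end LinIso

end Cfsg.Agent.Helper8.AutO
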