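import Mathlib
import Cfsg.Agent.Helper8.AutOx

set_option autoImplicit false
set_option linter.unusedSectionVars false
set_option linter.style.haveILetI false

/-!
# Automorphisms of orthogonal groups, part z: semilinear similarities of the minus-type form
-/

namespace Cfsg.Agent.Helper8.AutO

open Module Matrix Cfsg.Agent.Helper8.QuadForm Cfsg.Agent.Helper8.WittQuad
  Cfsg.Agent.Helper8.OrthOrder
  Cfsg.Agent.Helper8.Siegel Cfsg.Agent.Helper8.SiegelGeom Cfsg.Agent.Helper8.SiegelGroup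
  Cfsg.Agent.Helper8.SiegelPrim Cfsg.Agent.Helper8.SiegelSimple Cfsg.Agent.Helper8.ReflMatrix
  Cfsg.Agent.Helper8.OmegaSimple Cfsg.Agent.Helper8.AutImagePsi Cfsg.Agent.Helper8.AutImageOrth
  Cfsg.Agent.Helper8.StdForms

section Binary

variable {F : Type*} [Field F] [Fintype F]

/-- odd characteristic: the conjugate binary form is represented with the same first vector. -/
theorem exists_binary_root_odd (h2 : (2 : F) ≠ 0) {a b : F}
    (hab : ∀ z₁ z₂ : F, z₁ ^ 2 + a * z₁ * z₂ + b * z₂ ^ 2 = 0 → z₁ = 0 ∧ z₂ = 0) (σ : F ≃+* F) :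
    ∃ c d : F, 2 * c + a * d = σ a ∧ c ^ 2 + a * c * d + b * d ^ 2 = σ b := by
  obtain ⟨D, hD⟩ : ∃ D, D = a ^ 2 - 4 * b := ⟨_, rfl⟩
  have hDns : ¬ IsSquare D := by
    rintro ⟨s, hs⟩
    rw [hD] at hs
    have h4 : (4 : F) ≠ 0 := by
      have : (4 : F) = 2 * 2 := by norm_num
      rw [this]; exact mul_ne_zero h2 h2
    have e1 : ((s - a) / 2) ^ 2 + a * ((s - a) / 2) * 1 + b * 1 ^ 2
        = (s * s - (a ^ 2 - 4 * b)) / 4 := by
      field_simp
      ring
    have := (hab ((s - a) / 2) 1 (by rw [e1, hs, sub_self, zero_div])).2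
    exact one_ne_zero this
  have hD0 : D ≠ 0 := by
    rintro rfl
    exact hDns IsSquare.zero
  have hσD : ¬ IsSquare (σ D) := by
    rintro ⟨s, hs⟩
    apply hDns
    refine ⟨σ.symm s, ?_⟩
    rw [← map_mul, ← hs, σ.symm_apply_apply]
  have hσD0 : σ D ≠ 0 := by
    intro h
    exact hσD (h ▸ IsSquare.zero)
  have hDi : ¬ IsSquare D⁻¹ := by
    rintro ⟨s, hs⟩
    apply hDns
    refine ⟨s⁻¹, ?_⟩
    rw [← mul_inv, ← hs, inv_inv]
  obtain ⟨d, hd⟩ := Cfsg.Agent.Helper8.OmegaOdd.isSquare_mul_of_not hσD0 hσD hDi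
  have hd' : d * d * D = σ a ^ 2 - 4 * σ b := by
    rw [← hd, mul_assoc, inv_mul_cancel₀ hD0, mul_one, hD]
    simp only [map_sub, map_pow, map_mul, map_ofNat]
  refine ⟨(σ a - a * d) / 2, d, ?_, ?_⟩
  · field_simp
    ring
  · field_simp
    rw [hD] at hd'
    linear_combination (-1 : F) * hd'

/-- characteristic two: the conjugate binary form is represented with the same first vector. -/
theorem exists_binary_root_even (h2 : (2 : F) = 0) {a b : F}
    (hab : ∀ z₁ z₂ : F, z₁ ^ 2 + a * z₁ * z₂ + b * z₂ ^ 2 = 0 → z₁ = 0 ∧ z₂ = 0) (σ : F ≃+* F) :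
    ∃ c d : F, 2 * c + a * d = σ a ∧ c ^ 2 + a * c * d + b * d ^ 2 = σ b := by
  have hchar : ringChar F = 2 := by
    have : CharP F 2 := by
      apply CharTwo.of_one_ne_zero_of_two_eq_zero one_ne_zero h2
    exact ringChar.eq F 2
  have ha0 : a ≠ 0 := by
    rintro rfl
    obtain ⟨s, hs⟩ := FiniteField.isSquare_of_char_two hchar b
    have := (hab s 1 (by rw [hs]; linear_combination (s * s) * h2)).2
    exact one_ne_zero this
  have hσa0 : σ a ≠ 0 := fun h => ha0 (σ.injective (h.trans (map_zero σ).symm))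
  obtain ⟨ζ, hζ⟩ : ∃ ζ, ζ = b / a ^ 2 := ⟨_, rfl⟩
  let ℘ : F →+ F :=
    { toFun := fun s => s * s + s
      map_zero' := by ring
      map_add' := fun s t => by linear_combination (s * t) * h2 }
  have h℘ : ∀ s, ℘ s = s * s + s := fun s => rfl
  have hker : Nat.card ℘.ker = 2 := by
    rw [Nat.card_eq_two_iff]
    refine ⟨⟨0, by rw [AddMonoidHom.mem_ker, map_zero]⟩, ⟨1, by
      rw [AddMonoidHom.mem_ker, h℘]; linear_combination h2⟩, ?_, ?_⟩
    · intro h
      exact zero_ne_one (congrArg Subtype.val h)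
    · rw [Set.eq_univ_iff_forall]
      rintro ⟨s, hs⟩
      rw [AddMonoidHom.mem_ker, h℘] at hs
      have h1 : s * (s + 1) = 0 := by linear_combination hs
      rcases mul_eq_zero.mp h1 with h | h
      · left
        exact Subtype.ext h
      · right
        apply Subtype.ext
        show s = 1
        linear_combination h - h2
  have hidx : ℘.range.index = 2 := by rw [AddSubgroup.index_range, hker]
  have hζ1 : ζ ∉ ℘.range := by
    rintro ⟨s, hs⟩
    rw [h℘] at hs
    have := (hab s a⁻¹ (by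
      rw [hζ] at hs
      field_simp
      field_simp at hs
      linear_combination hs + (b) * h2)).2
    exact inv_ne_zero ha0 this
  have hζ2 : σ ζ ∉ ℘.range := by
    rintro ⟨s, hs⟩
    apply hζ1
    refine ⟨σ.symm s, ?_⟩
    rw [h℘] at hs ⊢
    rw [← map_mul, ← map_add, hs, σ.symm_apply_apply]
  have hmem : ζ + σ ζ ∈ ℘.range := by
    rw [AddSubgroup.add_mem_iff_of_index_two hidx]
    exact ⟨fun h => absurd h hζ1, fun h => absurd h hζ2⟩
  obtain ⟨s, hs⟩ := hmem
  rw [h℘] at hs
  refine ⟨σ a * s, σ a / a, ?_, ?_⟩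
  · rw [h2, zero_mul, zero_add, mul_div_cancel₀ _ ha0]
  · have hσζ : σ ζ = σ b / σ a ^ 2 := by
      rw [hζ, map_div₀, map_pow]
    rw [hσζ, hζ] at hs
    have e1 : (σ a * s) ^ 2 + a * (σ a * s) * (σ a / a) + b * (σ a / a) ^ 2
        = σ a ^ 2 * (s * s + s + b / a ^ 2) := by
      field_simp
    rw [e1, hs]
    have e2 : σ a ^ 2 * (b / a ^ 2 + σ b / σ a ^ 2 + b / a ^ 2)
        = σ b + 2 * (σ a ^ 2 * b / a ^ 2) := by
      field_simp
      ring
    rw [e2, h2, zero_mul, add_zero]

/-- **the conjugate of an anisotropic binary form under a field automorphism is represented by the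
form, with the same first vector.** -/
theorem exists_binary_root {a b : F}
    (hab : ∀ z₁ z₂ : F, z₁ ^ 2 + a * z₁ * z₂ + b * z₂ ^ 2 = 0 → z₁ = 0 ∧ z₂ = 0) (σ : F ≃+* F) :
    ∃ c d : F, 2 * c + a * d = σ a ∧ c ^ 2 + a * c * d + b * d ^ 2 = σ b := by
  by_cases h2 : (2 : F) = 0
  · exact exists_binary_root_even h2 hab σ
  · exact exists_binary_root_odd h2 hab σ

end Binary

section Criterion

variable {F : Type*} [Field F] {V : Type*} [AddCommGroup V] [Module F V] {Q : QuadraticForm F V}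

/-- an additive semilinear map scaling a nondegenerate form is a semilinear similarity. -/
theorem semiSim_of_map_Q [Finite V] (hQ : Nondeg Q) {g : V → V} {σ : F ≃+* F} {lam : F}
    (hlam : lam ≠ 0) (hadd : ∀ x y, g (x + y) = g x + g y)
    (hsmul : ∀ (c : F) x, g (c • x) = σ c • g x) (hQg : ∀ x, Q (g x) = lam * σ (Q x)) :
    SemiSim Q g σ lam := by
  have hpolar : ∀ x y, QuadraticMap.polar Q (g x) (g y) = lam * σ (QuadraticMap.polar Q x y) := by
    intro x y
    unfold QuadraticMap.polar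
    rw [← hadd, hQg, hQg, hQg, map_sub, map_sub]
    ring
  have hinj : Function.Injective g := by
    intro x y hxy
    rw [← sub_eq_zero]
    apply hQ
    intro w
    have h1 := hpolar x w
    rw [hxy, hpolar y w] at h1
    have h2 := σ.injective (mul_left_cancel₀ hlam h1)
    rw [QuadraticMap.polar_sub_left, h2, sub_self]
  exact ⟨hlam, hadd, hsmul, hQg, hinj, Finite.surjective_of_injective hinj⟩

end Criterion

section Minus

variable {F : Type*} [Field F] [Fintype F] (m : ℕ) (a b : F)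

/-- a semilinear map of the space of the minus-type form. -/
def minusSemi (σ : F ≃+* F) (c d : F) (v : (Fin m ⊕ Fin m) ⊕ Fin 2 → F) :
    (Fin m ⊕ Fin m) ⊕ Fin 2 → F :=
  Sum.elim (fun i => σ (v (Sum.inl i)))
    ![σ (v (Sum.inr 0)) + c * σ (v (Sum.inr 1)), d * σ (v (Sum.inr 1))]

theorem semiSim_minusSemi
    (hab : ∀ z₁ z₂ : F, z₁ ^ 2 + a * z₁ * z₂ + b * z₂ ^ 2 = 0 → z₁ = 0 ∧ z₂ = 0) (σ : F ≃+* F)
    {c d : F} (h1 : 2 * c + a * d = σ a) (h2 : c ^ 2 + a * c * d + b * d ^ 2 = σ b) :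
    SemiSim (minusForm F m a b) (minusSemi m σ c d) σ 1 := by
  have : Finite ((Fin m ⊕ Fin m) ⊕ Fin 2 → F) := inferInstance
  apply semiSim_of_map_Q ((nondeg_iff _).mp (minusForm_nondeg F m hab)) one_ne_zero
  · intro x y
    funext k
    rcases k with i | j
    · simp [minusSemi]
    · fin_cases j
      · simp [minusSemi]
        ring
      · simp [minusSemi]
        ring
  · intro t x
    funext k
    rcases k with i | j
    · simp [minusSemi]
    · fin_cases j
      · simp [minusSemi]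
        ring
      · simp [minusSemi]
        ring
  · intro x
    rw [one_mul, minusForm_apply, minusForm_apply]
    unfold Cfsg.quadFormMinus
    simp only [minusSemi, Sum.elim_inl, Sum.elim_inr, Matrix.cons_val_zero, Matrix.cons_val_one,
      map_add, map_sum, map_mul, map_pow]
    linear_combination (σ (x (Sum.inr 0)) * σ (x (Sum.inr 1))) * h1
      + (σ (x (Sum.inr 1)) ^ 2) * h2

variable [Nontrivial ((Fin m ⊕ Fin m) ⊕ Fin 2 → F)]

/-- every field automorphism is induced by a semilinear similarity of the minus-type form. -/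
theorem tau_range_minus
    (hab : ∀ z₁ z₂ : F, z₁ ^ 2 + a * z₁ * z₂ + b * z₂ ^ 2 = 0 → z₁ = 0 ∧ z₂ = 0) :
    (tau (Q := minusForm F m a b)).range = ⊤ := by
  rw [eq_top_iff]
  intro σ _
  obtain ⟨c, d, h1, h2⟩ := exists_binary_root hab σ
  exact ⟨mkGamma (semiSim_minusSemi m a b hab σ h1 h2), tau_eq (semiSim_minusSemi m a b hab σ h1 h2)⟩

end Minus

end Cfsg.Agent.Helper8.AutO
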