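import Mathlib
import Cfsg.Agent.Helper8.AutOz
import Cfsg.Agent.S2726
import Cfsg.Agent.S0791
import Cfsg.Agent.S2620

set_option autoImplicit false
set_option linter.unusedSectionVars false
set_option linter.style.haveILetI false

/-!
# Automorphisms of orthogonal groups, part za: the order of the automorphism group of the
minus-type groups
-/

namespace Cfsg.Agent.Helper8.AutO

open Module Matrix Cfsg.Agent.Helper8.QuadForm Cfsg.Agent.Helper8.WittQuad
  Cfsg.Agent.Helper8.OrthOrder
  Cfsg.Agent.Helper8.Siegel Cfsg.Agent.Helper8.SiegelGeom Cfsg.Agent.Helper8.SiegelGroup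
  Cfsg.Agent.Helper8.SiegelPrim Cfsg.Agent.Helper8.SiegelSimple Cfsg.Agent.Helper8.ReflMatrix
  Cfsg.Agent.Helper8.OmegaSimple Cfsg.Agent.Helper8.AutImagePsi Cfsg.Agent.Helper8.AutImageOrth
  Cfsg.Agent.Helper8.StdForms

variable {F : Type*} [Field F] [Fintype F]

section Generic

variable {ι : Type} [Fintype ι] [DecidableEq ι] (Q : QuadraticForm F (ι → F))

/-- the order of the similarity group when all multipliers occur. -/
theorem card_sim_of_surjective (hne : ∃ v, Q v ≠ 0)
    (hsurj : Function.Surjective (mult ⇑Q hne)) :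
    Nat.card ↥(Cfsg.Geo.quadSimilarityGroup (F := F) ⇑Q)
      = Nat.card ↥(Cfsg.isometryGroup F ⇑Q) * (Fintype.card F - 1) := by
  have h1 := Subgroup.card_eq_card_quotient_mul_card_subgroup (mult ⇑Q hne).ker
  rw [Nat.card_congr (QuotientGroup.quotientKerEquivOfSurjective _ hsurj).toEquiv, card_ker_mult,
    Nat.card_units, mul_comm] at h1
  rw [h1, Nat.card_eq_fintype_card (α := F)]

/-- the order of the automorphism group of `PΩ(Q)` when all multipliers and all field
automorphisms occur. -/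
theorem card_aut_POmega_of_surjective [Nontrivial (ι → F)]
    (hQ : (QuadraticMap.polarBilin Q).Nondegenerate)
    (h7 : 7 ≤ Fintype.card ι) (hB2 : 9 ≤ Fintype.card ι ∨ NoB2 Q) (hne : ∃ v, Q v ≠ 0)
    (hsurj : Function.Surjective (mult ⇑Q hne)) (hτ : (tau (Q := Q)).range = ⊤) :
    Nat.card (MulAut (Cfsg.POmega F ⇑Q))
      = Nat.card ↥(Cfsg.isometryGroup F ⇑Q) * Nat.card (F ≃+* F) := by
  obtain ⟨p, hp, hc⟩ := exists_char F
  have h1 := card_aut_POmega Q hQ h7 p hB2
  rw [hτ, Subgroup.card_top, card_sim_of_surjective Q hne hsurj] at h1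
  have hpos : 0 < Fintype.card F - 1 := by
    have := Fintype.one_lt_card (α := F)
    omega
  apply Nat.eq_of_mul_eq_mul_right hpos
  rw [h1]
  ring

end Generic

section Minus

/-- **the order of the automorphism group of `PΩ⁻_{2k+2}(q)`, `k ≥ 3`, in terms of the order of
the orthogonal group.** -/
theorem card_aut_POmega_minus {k : ℕ} (hk : 3 ≤ k) (a b : F)
    (hab : ∀ z₁ z₂ : F, z₁ ^ 2 + a * z₁ * z₂ + b * z₂ ^ 2 = 0 → z₁ = 0 ∧ z₂ = 0) :
    Nat.card (MulAut (Cfsg.POmega F (Cfsg.quadFormMinus k F a b)))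
      = Nat.card ↥(Cfsg.isometryGroup F (Cfsg.quadFormMinus k F a b)) * Nat.card (F ≃+* F) := by
  have e : ⇑(minusForm F k a b) = Cfsg.quadFormMinus k F a b := funext (minusForm_apply F k a b)
  have hcard : Fintype.card ((Fin k ⊕ Fin k) ⊕ Fin 2) = 2 * k + 2 := by
    simp only [Fintype.card_sum, Fintype.card_fin]; ring
  rw [← e]
  have hne : ∃ v, minusForm F k a b v ≠ 0 := Cfsg.Agent.S2726.minus_ne (by omega) a b
  haveI : Nonempty ((Fin k ⊕ Fin k) ⊕ Fin 2) := ⟨Sum.inr 0⟩
  apply card_aut_POmega_of_surjective (minusForm F k a b) (minusForm_nondeg F k hab)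
    (by rw [hcard]; omega) _ hne _ (tau_range_minus k a b hab)
  · by_cases h4 : 4 ≤ k
    · left; rw [hcard]; omega
    · right
      obtain rfl : k = 3 := by omega
      exact noB2_minus hab
  · intro c
    obtain ⟨d, hd⟩ := Cfsg.Agent.S2726.minus_similarity k hab c
    exact ⟨⟨d, ⟨c, hd⟩⟩, mult_eq_of (⇑(minusForm F k a b)) hne _ hd⟩

end Minus

end Cfsg.Agent.Helper8.AutO
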