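import Mathlib

set_option autoImplicit false
set_option linter.unusedSectionVars false
set_option linter.style.haveILetI false

/-!
# Automorphisms of orthogonal groups, part zb: the absolute trace in characteristic two
-/

namespace Cfsg.Agent.Helper8.AutO

open Polynomial

variable {F : Type*} [Field F] [Fintype F]

/-- partial sums of the absolute trace. -/
def trSum (ζ : F) (n : ℕ) : F := ∑ i ∈ Finset.range n, ζ ^ (2 ^ i)

theorem trSum_zero (ζ : F) : trSum ζ 0 = 0 := by
  unfold trSum
  rw [Finset.sum_range_zero]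

theorem trSum_succ (h2 : (2 : F) = 0) (ζ : F) (n : ℕ) :
    trSum ζ (n + 1) = (trSum ζ n) ^ 2 + ζ := by
  have : CharP F 2 := CharTwo.of_one_ne_zero_of_two_eq_zero one_ne_zero h2
  unfold trSum
  rw [Finset.sum_range_succ', pow_zero, pow_one, sum_pow_char]
  congr 1
  apply Finset.sum_congr rfl
  intro i _
  rw [← pow_mul, pow_succ]

theorem trSum_add (h2 : (2 : F) = 0) (x y : F) (n : ℕ) :
    trSum (x + y) n = trSum x n + trSum y n := by
  have : CharP F 2 := CharTwo.of_one_ne_zero_of_two_eq_zero one_ne_zero h2
  unfold trSum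
  rw [← Finset.sum_add_distrib]
  apply Finset.sum_congr rfl
  intro i _
  haveI : Fact (Nat.Prime 2) := ⟨Nat.prime_two⟩
  exact add_pow_char_pow x y 2 i

/-- the trace of `y² + y`. -/
theorem trSum_wp (h2 : (2 : F) = 0) (y : F) (n : ℕ) :
    trSum (y * y + y) n = y ^ (2 ^ n) + y := by
  induction n with
  | zero => rw [trSum_zero, pow_zero, pow_one]; linear_combination -y * h2
  | succ n ih =>
    rw [trSum_succ h2, ih, pow_succ 2 n, pow_mul]
    linear_combination (y ^ 2 ^ n * y + y ^ 2) * h2

/-- **the absolute trace of an element not of the form `y² + y` is one.** -/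
theorem trSum_eq_one (h2 : (2 : F) = 0) {f : ℕ} (hF : Fintype.card F = 2 ^ f) (hf : 1 ≤ f)
    {ζ : F} (hζ : ∀ t : F, t * t + t ≠ ζ) : trSum ζ f = 1 := by
  classical
  have hchar : CharP F 2 := CharTwo.of_one_ne_zero_of_two_eq_zero one_ne_zero h2
  have hq : ∀ y : F, y ^ (2 ^ f) = y := fun y => by rw [← hF]; exact FiniteField.pow_card y
  -- the trace polynomial
  obtain ⟨T, hT⟩ : ∃ T : F[X], T = ∑ i ∈ Finset.range f, X ^ (2 ^ i) := ⟨_, rfl⟩
  have hTeval : ∀ y : F, T.eval y = trSum y f := by
    intro y
    rw [hT, eval_finsetSum]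
    unfold trSum
    apply Finset.sum_congr rfl
    intro i _
    rw [eval_pow, eval_X]
  have hTdeg : T.natDegree ≤ 2 ^ (f - 1) := by
    rw [hT]
    apply natDegree_sum_le_of_forall_le
    intro i hi
    rw [natDegree_X_pow]
    apply Nat.pow_le_pow_right (by norm_num)
    have := Finset.mem_range.mp hi
    omega
  have hT0 : T ≠ 0 := by
    intro h0
    have h1 : T.coeff 1 = 1 := by
      rw [hT, finsetSum_coeff]
      rw [Finset.sum_eq_single 0]
      · rw [pow_zero, pow_one, coeff_X_one]
      · intro i _ hi0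
        rw [coeff_X_pow, if_neg]
        intro h
        have : 2 ^ i = 2 ^ 0 := by rw [pow_zero]; exact h.symm
        exact hi0 (Nat.pow_right_injective (le_refl 2) this)
      · intro h
        exact absurd (Finset.mem_range.mpr (by omega)) h
    rw [h0, coeff_zero] at h1
    exact zero_ne_one h1
  -- the values `y² + y`
  let wp : F →+ F :=
    { toFun := fun s => s * s + s
      map_zero' := by ring
      map_add' := fun s t => by linear_combination (s * t) * h2 }
  have hwp : ∀ s, wp s = s * s + s := fun s => rfl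
  have hker : Nat.card wp.ker = 2 := by
    rw [Nat.card_eq_two_iff]
    refine ⟨⟨0, by rw [AddMonoidHom.mem_ker, map_zero]⟩, ⟨1, by
      rw [AddMonoidHom.mem_ker, hwp]; linear_combination h2⟩, ?_, ?_⟩
    · intro h
      exact zero_ne_one (congrArg Subtype.val h)
    · rw [Set.eq_univ_iff_forall]
      rintro ⟨s, hs⟩
      rw [AddMonoidHom.mem_ker, hwp] at hs
      have h1 : s * (s + 1) = 0 := by linear_combination hs
      rcases mul_eq_zero.mp h1 with h | h
      · left
        exact Subtype.ext h
      · right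
        apply Subtype.ext
        show s = 1
        linear_combination h - h2
  have hidx : wp.range.index = 2 := by rw [AddSubgroup.index_range, hker]
  have hcardR : Nat.card wp.range = 2 ^ (f - 1) := by
    have h1 := AddSubgroup.card_mul_index wp.range
    rw [hidx, Nat.card_eq_fintype_card (α := F), hF] at h1
    have h3 : 2 ^ f = 2 ^ (f - 1) * 2 := by
      rw [← pow_succ]
      congr 1
      omega
    rw [h3] at h1
    exact Nat.eq_of_mul_eq_mul_right (by norm_num) h1
  obtain ⟨A, hA⟩ : ∃ A : Finset F, A = Finset.univ.image (fun s : F => s * s + s) := ⟨_, rfl⟩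
  have hAmem : ∀ x, x ∈ A ↔ x ∈ wp.range := by
    intro x
    rw [hA, Finset.mem_image]
    constructor
    · rintro ⟨s, -, rfl⟩
      exact ⟨s, rfl⟩
    · rintro ⟨s, rfl⟩
      exact ⟨s, Finset.mem_univ _, rfl⟩
  have hAcard : A.card = 2 ^ (f - 1) := by
    rw [← hcardR, Nat.card_eq_fintype_card, ← Fintype.card_coe]
    apply Fintype.card_congr
    exact Equiv.subtypeEquivRight (fun x => hAmem x)
  have hAroots : A ⊆ T.roots.toFinset := by
    intro x hx
    rw [hA, Finset.mem_image] at hx
    obtain ⟨s, -, rfl⟩ := hx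
    rw [Multiset.mem_toFinset, mem_roots hT0, IsRoot.def, hTeval, trSum_wp h2, hq]
    linear_combination s * h2
  have hrcard : T.roots.toFinset.card ≤ 2 ^ (f - 1) :=
    le_trans (Multiset.toFinset_card_le _) (le_trans (card_roots' T) hTdeg)
  have hAeq : A = T.roots.toFinset :=
    Finset.eq_of_subset_of_card_le hAroots (by rw [hAcard]; exact hrcard)
  -- the value at `ζ`
  have hval : trSum ζ f * (trSum ζ f + 1) = 0 := by
    have h1 := trSum_succ h2 ζ f
    have h3 : trSum ζ (f + 1) = ζ ^ (2 ^ f) + trSum ζ f := by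
      unfold trSum
      rw [Finset.sum_range_succ, add_comm]
    rw [h3, hq] at h1
    linear_combination -h1 + (trSum ζ f) * h2
  rcases mul_eq_zero.mp hval with h | h
  · exfalso
    have h1 : ζ ∈ T.roots.toFinset := by
      rw [Multiset.mem_toFinset, mem_roots hT0, IsRoot.def, hTeval, h]
    rw [← hAeq, hA, Finset.mem_image] at h1
    obtain ⟨s, -, hs⟩ := h1
    exact hζ s hs
  · linear_combination h - h2

end Cfsg.Agent.Helper8.AutO
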