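import Mathlib
import Cfsg.Agent.Helper8.SpRootC

set_option autoImplicit false

/-! Symplectic transvection groups `T(p)` form a degenerate class of abstract `F`-root subgroups
(helper8). -/

namespace Cfsg.Agent.Helper8.SpRoot

open Matrix Cfsg Cfsg.Agent.Helper7.Symp Cfsg.Agent.Helper7.R1

variable {F : Type*} [Field F] {m : ℕ}

theorem map_upper {p p' : Fin m ⊕ Fin m → F} (h1 : sympForm m F p p' = 1) :
    (Cfsg.Agent.S5016.fixer (![1, 0] : Fin 2 → F)).map (Phi h1) = RG m F p := by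
  ext g
  rw [Subgroup.mem_map, mem_RG_iff]
  constructor
  · rintro ⟨x, hx, rfl⟩
    rw [Cfsg.Agent.S5016.eq_up hx, Phi_up]
    exact ⟨_, rfl⟩
  · rintro ⟨c, rfl⟩
    refine ⟨Cfsg.Agent.S5016.up (-c), Cfsg.Agent.S5016.up_mem _, ?_⟩
    rw [Phi_up, neg_neg]

theorem map_lower {p p' : Fin m ⊕ Fin m → F} (h1 : sympForm m F p p' = 1) :
    (Cfsg.Agent.S5016.fixer (![0, 1] : Fin 2 → F)).map (Phi h1) = RG m F p' := by
  ext g
  rw [Subgroup.mem_map, mem_RG_iff]
  constructor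
  · rintro ⟨x, hx, rfl⟩
    rw [Cfsg.Agent.S5016.eq_lo hx, Phi_lo]
    exact ⟨_, rfl⟩
  · rintro ⟨c, rfl⟩
    exact ⟨Cfsg.Agent.S5016.lo c, Cfsg.Agent.S5016.lo_mem _, Phi_lo h1 c⟩

theorem isPSL2PairOver_of_form_one {p p' : Fin m ⊕ Fin m → F} (h1 : sympForm m F p p' = 1) :
    IsPSL2PairOver F (RG m F p) (RG m F p') := by
  refine ⟨Phi h1, ?_, ?_, ?_, ?_⟩
  · rw [MonoidHom.range_eq_map, ← Cfsg.Agent.S5016.sup_eq_top, Subgroup.map_sup, map_upper,
      map_lower, sup_comm]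
  · rw [(MonoidHom.ker_eq_bot_iff (Phi h1)).mpr (Phi_injective h1)]
    exact bot_le
  · rw [Cfsg.Agent.S5016.upper_eq, map_upper]
  · rw [Cfsg.Agent.S5016.lower_eq, map_lower]

theorem isPSL2PairOver_of_form {p p' : Fin m ⊕ Fin m → F} (h : sympForm m F p p' ≠ 0) :
    IsPSL2PairOver F (RG m F p) (RG m F p') := by
  have h1 : sympForm m F p ((sympForm m F p p')⁻¹ • p') = 1 := by
    rw [sympForm_smul_right, inv_mul_cancel₀ h]
  have := isPSL2PairOver_of_form_one h1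
  rwa [RG_smul _ (inv_ne_zero h)] at this

theorem SS_kRoot : IsKRootSubgroupSet F (SS m F) := by
  refine ⟨SS_isRootSubgroupSet, ?_⟩
  rintro _ ⟨p, hp, rfl⟩ _ ⟨p', hp', rfl⟩ h
  exact isPSL2PairOver_of_form (form_ne_of_isRankOnePair hp h)

/-- **The symplectic transvection groups form a degenerate class of abstract `F`-root
subgroups with connected graph of rank one pairs.** -/
theorem main (F : Type*) [Field F] (m : ℕ) :
    IsRootSubgroupClass (SS (m + 1) F) ∧ IsDegenerateRootSet (SS (m + 1) F) ∧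
      IsKRootSubgroupSet F (SS (m + 1) F) ∧
      IsConnectedFamily (FAdj (SS (m + 1) F)) (SS (m + 1) F) :=
  ⟨⟨SS_isRootSubgroupSet, SS_conjClass (Nat.le_add_left 1 m)⟩, SS_degenerate, SS_kRoot,
    SS_connected⟩

end Cfsg.Agent.Helper8.SpRoot
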