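import Mathlib
import Cfsg.Agent.Helper8.SpRootD

set_option autoImplicit false
set_option linter.unusedSectionVars false

/-! Automorphisms of `PSp_{2m}(q)`: form lemmas, rank one matrices, the frame (helper8). -/

namespace Cfsg.Agent.Helper8.AutSp

open Matrix Cfsg Cfsg.Agent.Helper7.Symp Cfsg.Agent.Helper8.SpRoot

variable {F : Type*} [Field F] {m : ℕ}

/-- the matrix of a symplectic group element -/
abbrev mt (g : symplecticGroup (Fin m) F) : Matrix (Fin m ⊕ Fin m) (Fin m ⊕ Fin m) F := g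

theorem B_zero_left (v : Fin m ⊕ Fin m → F) : sympForm m F 0 v = 0 := by
  unfold sympForm; rw [zero_dotProduct]

theorem B_zero_right (v : Fin m ⊕ Fin m → F) : sympForm m F v 0 = 0 := by
  unfold sympForm; rw [mulVec_zero, dotProduct_zero]

theorem B_neg_left (u v : Fin m ⊕ Fin m → F) : sympForm m F (-u) v = -sympForm m F u v := by
  unfold sympForm; rw [neg_dotProduct]

theorem B_eq_zero_of_swap {u v : Fin m ⊕ Fin m → F} (h : sympForm m F u v = 0) :
    sympForm m F v u = 0 := by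
  rw [sympForm_swap, h, neg_zero]

theorem eq_zero_of_B_right {w : Fin m ⊕ Fin m → F} (h : ∀ x, sympForm m F w x = 0) : w = 0 := by
  by_contra hw
  obtain ⟨y, hy⟩ := exists_sympForm_ne_zero hw
  exact hy (h y)

theorem eq_zero_of_B_left {w : Fin m ⊕ Fin m → F} (h : ∀ x, sympForm m F x w = 0) : w = 0 :=
  eq_zero_of_B_right fun x => B_eq_zero_of_swap (h x)

/-- an element of the symplectic group from a matrix preserving the form -/
def mkS (M : Matrix (Fin m ⊕ Fin m) (Fin m ⊕ Fin m) F)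
    (hf : ∀ u v, sympForm m F (M *ᵥ u) (M *ᵥ v) = sympForm m F u v) : symplecticGroup (Fin m) F :=
  ⟨M, mem_symp_of_form M hf⟩

@[simp] theorem mt_mkS (M : Matrix (Fin m ⊕ Fin m) (Fin m ⊕ Fin m) F)
    (hf : ∀ u v, sympForm m F (M *ᵥ u) (M *ᵥ v) = sympForm m F u v) : mt (mkS M hf) = M := rfl

/-- the rank one matrix `v ↦ B(v, y) x` -/
def Rm (x y : Fin m ⊕ Fin m → F) : Matrix (Fin m ⊕ Fin m) (Fin m ⊕ Fin m) F :=
  vecMulVec x (J (Fin m) F *ᵥ y)

theorem Rm_mulVec (x y v : Fin m ⊕ Fin m → F) : Rm x y *ᵥ v = sympForm m F v y • x := by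
  unfold Rm sympForm
  rw [vecMulVec_mulVec, dotProduct_comm]
  ext i
  simp only [Pi.smul_apply, MulOpposite.smul_eq_mul_unop, MulOpposite.unop_op, smul_eq_mul]
  ring

/-! ### the frame -/

/-- a hyperbolic pair `e, f` together with a hyperbolic pair `x, y` orthogonal to it -/
structure Frame (m : ℕ) (F : Type*) [Field F] where
  e : Fin m ⊕ Fin m → F
  f : Fin m ⊕ Fin m → F
  x : Fin m ⊕ Fin m → F
  y : Fin m ⊕ Fin m → F
  hef : sympForm m F e f = 1
  hxy : sympForm m F x y = 1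
  hxe : sympForm m F x e = 0
  hxf : sympForm m F x f = 0
  hye : sympForm m F y e = 0
  hyf : sympForm m F y f = 0

theorem B_single (a b : Fin m ⊕ Fin m) :
    sympForm m F (Pi.single a 1) (Pi.single b 1) = J (Fin m) F a b := by
  unfold sympForm
  rw [single_one_dotProduct, mulVec_single_one]
  rfl

theorem exists_frame (hm : 2 ≤ m) : Nonempty (Frame m F) := by
  have h01 : (⟨0, by omega⟩ : Fin m) ≠ ⟨1, by omega⟩ := by
    intro h
    have := congrArg Fin.val h
    simp at this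
  refine ⟨⟨Pi.single (Sum.inr ⟨0, by omega⟩) 1, Pi.single (Sum.inl ⟨0, by omega⟩) 1,
    Pi.single (Sum.inr ⟨1, by omega⟩) 1, Pi.single (Sum.inl ⟨1, by omega⟩) 1, ?_, ?_, ?_, ?_, ?_, ?_⟩⟩
  all_goals rw [B_single]
  all_goals simp [J, Matrix.fromBlocks, Matrix.one_apply, h01, h01.symm]

namespace Frame

variable (fr : Frame m F)

theorem hfe : sympForm m F fr.f fr.e = -1 := by rw [sympForm_swap, fr.hef]

theorem hyx : sympForm m F fr.y fr.x = -1 := by rw [sympForm_swap, fr.hxy]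

theorem hex : sympForm m F fr.e fr.x = 0 := B_eq_zero_of_swap fr.hxe

theorem hfx : sympForm m F fr.f fr.x = 0 := B_eq_zero_of_swap fr.hxf

theorem hey : sympForm m F fr.e fr.y = 0 := B_eq_zero_of_swap fr.hye

theorem hfy : sympForm m F fr.f fr.y = 0 := B_eq_zero_of_swap fr.hyf

theorem e_ne_zero : fr.e ≠ 0 := by
  intro h
  have := fr.hef
  rw [h, B_zero_left] at this
  exact zero_ne_one this

theorem f_ne_zero : fr.f ≠ 0 := by
  intro h
  have := fr.hef
  rw [h, B_zero_right] at this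
  exact zero_ne_one this

/-- the orthogonal complement of the hyperbolic pair -/
def W : Submodule F (Fin m ⊕ Fin m → F) where
  carrier := {w | sympForm m F w fr.e = 0 ∧ sympForm m F w fr.f = 0}
  add_mem' := by
    rintro a b ⟨h1, h2⟩ ⟨h3, h4⟩
    exact ⟨by rw [sympForm_add_left, h1, h3, add_zero], by rw [sympForm_add_left, h2, h4, add_zero]⟩
  zero_mem' := ⟨B_zero_left _, B_zero_left _⟩
  smul_mem' := by
    rintro c a ⟨h1, h2⟩
    exact ⟨by rw [sympForm_smul_left, h1, mul_zero], by rw [sympForm_smul_left, h2, mul_zero]⟩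

theorem mem_W_iff {w : Fin m ⊕ Fin m → F} :
    w ∈ fr.W ↔ sympForm m F w fr.e = 0 ∧ sympForm m F w fr.f = 0 := Iff.rfl

theorem hwe (w : fr.W) : sympForm m F (w : Fin m ⊕ Fin m → F) fr.e = 0 := w.2.1

theorem hwf (w : fr.W) : sympForm m F (w : Fin m ⊕ Fin m → F) fr.f = 0 := w.2.2

theorem hew (w : fr.W) : sympForm m F fr.e (w : Fin m ⊕ Fin m → F) = 0 :=
  B_eq_zero_of_swap (fr.hwe w)

theorem hfw (w : fr.W) : sympForm m F fr.f (w : Fin m ⊕ Fin m → F) = 0 :=
  B_eq_zero_of_swap (fr.hwf w)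

/-- the projection to `W` as a function -/
def pwf (v : Fin m ⊕ Fin m → F) : Fin m ⊕ Fin m → F :=
  v - sympForm m F v fr.f • fr.e + sympForm m F v fr.e • fr.f

theorem pwf_mem (v : Fin m ⊕ Fin m → F) : fr.pwf v ∈ fr.W := by
  unfold pwf
  constructor
  · rw [sympForm_add_left, sympForm_sub_left, sympForm_smul_left, sympForm_smul_left,
      sympForm_self, fr.hfe]
    ring
  · rw [sympForm_add_left, sympForm_sub_left, sympForm_smul_left, sympForm_smul_left,
      sympForm_self, fr.hef]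
    ring

/-- the projection to `W` -/
def pw : (Fin m ⊕ Fin m → F) →ₗ[F] fr.W where
  toFun v := ⟨fr.pwf v, fr.pwf_mem v⟩
  map_add' u v := by
    apply Subtype.ext
    show fr.pwf (u + v) = fr.pwf u + fr.pwf v
    unfold pwf
    rw [sympForm_add_left, sympForm_add_left]
    module
  map_smul' c v := by
    apply Subtype.ext
    show fr.pwf (c • v) = c • fr.pwf v
    unfold pwf
    rw [sympForm_smul_left, sympForm_smul_left]
    module

theorem pw_coe (v : Fin m ⊕ Fin m → F) : ((fr.pw v : fr.W) : Fin m ⊕ Fin m → F) =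
    v - sympForm m F v fr.f • fr.e + sympForm m F v fr.e • fr.f := rfl

theorem dec (v : Fin m ⊕ Fin m → F) :
    v = sympForm m F v fr.f • fr.e - sympForm m F v fr.e • fr.f + (fr.pw v : fr.W) := by
  rw [pw_coe]
  module

theorem pw_of_mem (w : fr.W) : fr.pw (w : Fin m ⊕ Fin m → F) = w := by
  apply Subtype.ext
  rw [pw_coe, fr.hwe, fr.hwf, zero_smul, zero_smul, sub_zero, add_zero]

theorem pw_e : fr.pw fr.e = 0 := by
  apply Subtype.ext
  rw [pw_coe, sympForm_self, fr.hef, one_smul, zero_smul, sub_self, add_zero]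
  rfl

theorem pw_f : fr.pw fr.f = 0 := by
  apply Subtype.ext
  rw [pw_coe, sympForm_self, fr.hfe, zero_smul, neg_smul, one_smul, sub_zero, add_neg_cancel]
  rfl

/-- the vector `x` as an element of `W` -/
def xW : fr.W := ⟨fr.x, fr.hxe, fr.hxf⟩

/-- the vector `y` as an element of `W` -/
def yW : fr.W := ⟨fr.y, fr.hye, fr.hyf⟩

theorem B_pw (u : Fin m ⊕ Fin m → F) (w : fr.W) :
    sympForm m F ((fr.pw u : fr.W) : Fin m ⊕ Fin m → F) (w : Fin m ⊕ Fin m → F) =
      sympForm m F u (w : Fin m ⊕ Fin m → F) := by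
  rw [pw_coe, sympForm_add_left, sympForm_sub_left, sympForm_smul_left, sympForm_smul_left,
    fr.hew, fr.hfw, mul_zero, mul_zero, sub_zero, add_zero]

/-- nondegeneracy of the form on `W` -/
theorem eq_zero_of_B_W {w : fr.W}
    (h : ∀ x : fr.W, sympForm m F (w : Fin m ⊕ Fin m → F) (x : Fin m ⊕ Fin m → F) = 0) : w = 0 := by
  apply Subtype.ext
  apply eq_zero_of_B_right
  intro v
  rw [fr.dec v, sympForm_add_right, sympForm_sub_right, sympForm_smul_right, sympForm_smul_right,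
    fr.hwe, fr.hwf, h]
  simp

/-- two matrices agreeing on the frame are equal -/
theorem ext_mat {M M' : Matrix (Fin m ⊕ Fin m) (Fin m ⊕ Fin m) F} (he : M *ᵥ fr.e = M' *ᵥ fr.e)
    (hf : M *ᵥ fr.f = M' *ᵥ fr.f)
    (hw : ∀ w : fr.W, M *ᵥ (w : Fin m ⊕ Fin m → F) = M' *ᵥ (w : Fin m ⊕ Fin m → F)) : M = M' := by
  apply Matrix.ext_iff_mulVec.mpr
  intro v
  rw [fr.dec v, mulVec_add, mulVec_add, mulVec_sub, mulVec_sub, mulVec_smul, mulVec_smul,
    mulVec_smul, mulVec_smul, he, hf, hw]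

theorem ext_sp {g g' : symplecticGroup (Fin m) F} (he : mt g *ᵥ fr.e = mt g' *ᵥ fr.e)
    (hf : mt g *ᵥ fr.f = mt g' *ᵥ fr.f)
    (hw : ∀ w : fr.W, mt g *ᵥ (w : Fin m ⊕ Fin m → F) = mt g' *ᵥ (w : Fin m ⊕ Fin m → F)) :
    g = g' :=
  Subtype.ext (fr.ext_mat he hf hw)

end Frame

end Cfsg.Agent.Helper8.AutSp
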