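import Mathlib
import Cfsg.Agent.Helper8.AutSpa

set_option autoImplicit false
set_option linter.unusedSectionVars false

/-! Automorphisms of `PSp_{2m}(q)`: Siegel elements (helper8). -/

namespace Cfsg.Agent.Helper8.AutSp

open Matrix Cfsg Cfsg.Agent.Helper7.Symp Cfsg.Agent.Helper8.SpRoot

variable {F : Type*} [Field F] {m : ℕ}

namespace Frame

variable (fr : Frame m F)

/-- the matrix of a Siegel element -/
def sgM (w : fr.W) (a : F) : Matrix (Fin m ⊕ Fin m) (Fin m ⊕ Fin m) F :=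
  1 - Rm fr.e (w : Fin m ⊕ Fin m → F) - Rm (w : Fin m ⊕ Fin m → F) fr.e - a • Rm fr.e fr.e

theorem sgM_mulVec (w : fr.W) (a : F) (v : Fin m ⊕ Fin m → F) :
    fr.sgM w a *ᵥ v = v - sympForm m F v (w : Fin m ⊕ Fin m → F) • fr.e
      - sympForm m F v fr.e • (w : Fin m ⊕ Fin m → F) - (a * sympForm m F v fr.e) • fr.e := by
  unfold sgM
  rw [sub_mulVec, sub_mulVec, sub_mulVec, one_mulVec, smul_mulVec, Rm_mulVec, Rm_mulVec, Rm_mulVec,
    smul_smul]

theorem form_sgM (w : fr.W) (a : F) (u v : Fin m ⊕ Fin m → F) :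
    sympForm m F (fr.sgM w a *ᵥ u) (fr.sgM w a *ᵥ v) = sympForm m F u v := by
  rw [sgM_mulVec, sgM_mulVec]
  simp only [sympForm_sub_left, sympForm_sub_right, sympForm_smul_left, sympForm_smul_right,
    sympForm_self, fr.hwe, fr.hew]
  rw [sympForm_swap fr.e v, sympForm_swap (w : Fin m ⊕ Fin m → F) v]
  ring

/-- Siegel elements -/
def sg (w : fr.W) (a : F) : symplecticGroup (Fin m) F := mkS (fr.sgM w a) (fr.form_sgM w a)

theorem sg_mulVec (w : fr.W) (a : F) (v : Fin m ⊕ Fin m → F) :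
    mt (fr.sg w a) *ᵥ v = v - sympForm m F v (w : Fin m ⊕ Fin m → F) • fr.e
      - sympForm m F v fr.e • (w : Fin m ⊕ Fin m → F) - (a * sympForm m F v fr.e) • fr.e :=
  fr.sgM_mulVec w a v

theorem sg_e (w : fr.W) (a : F) : mt (fr.sg w a) *ᵥ fr.e = fr.e := by
  rw [sg_mulVec, fr.hew, sympForm_self, zero_smul, zero_smul, mul_zero, zero_smul, sub_zero,
    sub_zero, sub_zero]

theorem sg_f (w : fr.W) (a : F) :
    mt (fr.sg w a) *ᵥ fr.f = fr.f + (w : Fin m ⊕ Fin m → F) + a • fr.e := by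
  rw [sg_mulVec, fr.hfw, fr.hfe]
  module

theorem sg_w (w : fr.W) (a : F) (x : fr.W) :
    mt (fr.sg w a) *ᵥ (x : Fin m ⊕ Fin m → F) = (x : Fin m ⊕ Fin m → F) -
      sympForm m F (x : Fin m ⊕ Fin m → F) (w : Fin m ⊕ Fin m → F) • fr.e := by
  rw [sg_mulVec, fr.hwe]
  module

theorem sg_mul (w w' : fr.W) (a a' : F) : fr.sg w a * fr.sg w' a' =
    fr.sg (w + w') (a + a' + sympForm m F (w : Fin m ⊕ Fin m → F) (w' : Fin m ⊕ Fin m → F)) := by
  apply fr.ext_sp
  · rw [coe_mul_mulVec, sg_e, sg_e, sg_e]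
  · rw [coe_mul_mulVec, sg_f, mulVec_add, mulVec_add, mulVec_smul, sg_e, sg_f, sg_f, sg_w,
      Submodule.coe_add, sympForm_swap (w' : Fin m ⊕ Fin m → F)]
    module
  · intro x
    rw [coe_mul_mulVec, sg_w, mulVec_sub, mulVec_smul, sg_e, sg_w, sg_w, Submodule.coe_add,
      sympForm_add_right]
    module

theorem sg_zero : fr.sg 0 0 = 1 := by
  apply fr.ext_sp
  · rw [sg_e, coe_one_mulVec]
  · rw [sg_f, coe_one_mulVec, Submodule.coe_zero, zero_smul, add_zero, add_zero]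
  · intro x
    rw [sg_w, coe_one_mulVec, Submodule.coe_zero, B_zero_right, zero_smul, sub_zero]

theorem sg_inv (w : fr.W) (a : F) : (fr.sg w a)⁻¹ = fr.sg (-w) (-a) := by
  rw [inv_eq_iff_mul_eq_one, sg_mul, Submodule.coe_neg, sympForm_neg_right, sympForm_self]
  convert fr.sg_zero using 2
  · exact add_neg_cancel w
  · ring

theorem sg_injective {w w' : fr.W} {a a' : F} (h : fr.sg w a = fr.sg w' a') : w = w' ∧ a = a' := by
  have h1 := congrArg (fun g => mt g *ᵥ fr.f) h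
  beta_reduce at h1
  rw [sg_f, sg_f] at h1
  have h2 := congrArg (fun v => fr.pw v) h1
  beta_reduce at h2
  rw [map_add, map_add, map_add, map_add, map_smul, map_smul, fr.pw_e, fr.pw_f, fr.pw_of_mem,
    fr.pw_of_mem, smul_zero, smul_zero, zero_add, zero_add, add_zero, add_zero] at h2
  refine ⟨h2, ?_⟩
  rw [h2] at h1
  have h3 := congrArg (fun v => sympForm m F v fr.f) h1
  beta_reduce at h3
  rw [sympForm_add_left, sympForm_add_left, sympForm_add_left, sympForm_add_left, sympForm_smul_left,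
    sympForm_smul_left, fr.hef, mul_one, mul_one] at h3
  exact add_left_cancel h3

theorem sg_zero_left (s : F) : fr.sg 0 s = T fr.e (-s) := by
  apply ext_mulVec
  intro v
  rw [sg_mulVec, T_mulVec, Submodule.coe_zero, B_zero_right]
  module

theorem sg_mul_T (w : fr.W) (a s : F) : fr.sg w a * T fr.e s = fr.sg w (a - s) := by
  have : T fr.e s = fr.sg 0 (-s) := by rw [sg_zero_left, neg_neg]
  rw [this, sg_mul, Submodule.coe_zero, B_zero_right]
  congr 1
  · exact add_zero w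
  · ring

theorem sg_comm (w w' : fr.W) (a a' : F) : fr.sg w a * fr.sg w' a' = fr.sg w' a' * fr.sg w a *
    T fr.e (-(2 * sympForm m F (w : Fin m ⊕ Fin m → F) (w' : Fin m ⊕ Fin m → F))) := by
  rw [sg_mul, sg_mul, sg_mul_T, sympForm_swap (w' : Fin m ⊕ Fin m → F)]
  congr 1
  · exact add_comm w w'
  · ring

end Frame

end Cfsg.Agent.Helper8.AutSp
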