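import Mathlib
import Cfsg.Agent.Helper8.AutSpb

set_option autoImplicit false
set_option linter.unusedSectionVars false

/-! Automorphisms of `PSp_{2m}(q)`: the point stabiliser and its Levi complement (helper8). -/

namespace Cfsg.Agent.Helper8.AutSp

open Matrix Cfsg Cfsg.Agent.Helper7.Symp Cfsg.Agent.Helper8.SpRoot

variable {F : Type*} [Field F] {m : ℕ}

namespace Frame

variable (fr : Frame m F)

/-- the action of a Levi element on `W` -/
def lact (l : symplecticGroup (Fin m) F) (w : fr.W) : fr.W := fr.pw (mt l *ᵥ (w : Fin m ⊕ Fin m → F))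

/-- the stabiliser of the point `⟨e⟩` -/
def Bv : Subgroup (symplecticGroup (Fin m) F) where
  carrier := {g | ∃ t : F, mt g *ᵥ fr.e = t • fr.e}
  mul_mem' := by
    rintro g g' ⟨t, ht⟩ ⟨t', ht'⟩
    exact ⟨t' * t, by rw [coe_mul_mulVec, ht', mulVec_smul, ht, smul_smul]⟩
  one_mem' := ⟨1, by rw [coe_one_mulVec, one_smul]⟩
  inv_mem' := by
    rintro g ⟨t, ht⟩
    have ht0 : t ≠ 0 := by
      rintro rfl
      rw [zero_smul] at ht
      exact mulVec_ne_zero' g fr.e_ne_zero ht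
    refine ⟨t⁻¹, ?_⟩
    have := congrArg (fun v => t⁻¹ • (mt g⁻¹ *ᵥ v)) ht
    beta_reduce at this
    rw [coe_inv_mulVec', mulVec_smul, smul_smul, inv_mul_cancel₀ ht0, one_smul] at this
    exact this.symm

/-- the stabiliser of the two points `⟨e⟩`, `⟨f⟩` -/
def Lv : Subgroup (symplecticGroup (Fin m) F) where
  carrier := {g | (∃ t : F, mt g *ᵥ fr.e = t • fr.e) ∧ ∃ t : F, mt g *ᵥ fr.f = t • fr.f}
  mul_mem' := by
    rintro g g' ⟨⟨t, ht⟩, ⟨s, hs⟩⟩ ⟨⟨t', ht'⟩, ⟨s', hs'⟩⟩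
    exact ⟨⟨t' * t, by rw [coe_mul_mulVec, ht', mulVec_smul, ht, smul_smul]⟩,
      ⟨s' * s, by rw [coe_mul_mulVec, hs', mulVec_smul, hs, smul_smul]⟩⟩
  one_mem' := ⟨⟨1, by rw [coe_one_mulVec, one_smul]⟩, ⟨1, by rw [coe_one_mulVec, one_smul]⟩⟩
  inv_mem' := by
    rintro g ⟨⟨t, ht⟩, ⟨s, hs⟩⟩
    have ht0 : t ≠ 0 := by
      rintro rfl
      rw [zero_smul] at ht
      exact mulVec_ne_zero' g fr.e_ne_zero ht
    have hs0 : s ≠ 0 := by
      rintro rfl
      rw [zero_smul] at hs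
      exact mulVec_ne_zero' g fr.f_ne_zero hs
    refine ⟨⟨t⁻¹, ?_⟩, ⟨s⁻¹, ?_⟩⟩
    · have := congrArg (fun v => t⁻¹ • (mt g⁻¹ *ᵥ v)) ht
      beta_reduce at this
      rw [coe_inv_mulVec', mulVec_smul, smul_smul, inv_mul_cancel₀ ht0, one_smul] at this
      exact this.symm
    · have := congrArg (fun v => s⁻¹ • (mt g⁻¹ *ᵥ v)) hs
      beta_reduce at this
      rw [coe_inv_mulVec', mulVec_smul, smul_smul, inv_mul_cancel₀ hs0, one_smul] at this
      exact this.symm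

theorem Lv_le_Bv : fr.Lv ≤ fr.Bv := fun _ h => h.1

/-- the eigenvalue of a Levi element on `e` -/
def lt (l : symplecticGroup (Fin m) F) : F := sympForm m F (mt l *ᵥ fr.e) fr.f

theorem lt_spec {l : symplecticGroup (Fin m) F} (hl : l ∈ fr.Bv) :
    mt l *ᵥ fr.e = fr.lt l • fr.e := by
  obtain ⟨t, ht⟩ := hl
  unfold lt
  rw [ht, sympForm_smul_left, fr.hef, mul_one]

theorem lt_ne_zero {l : symplecticGroup (Fin m) F} (hl : l ∈ fr.Bv) : fr.lt l ≠ 0 := by
  intro h
  have := fr.lt_spec hl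
  rw [h, zero_smul] at this
  exact mulVec_ne_zero' l fr.e_ne_zero this

theorem lt_spec' {l : symplecticGroup (Fin m) F} (hl : l ∈ fr.Lv) :
    mt l *ᵥ fr.f = (fr.lt l)⁻¹ • fr.f := by
  obtain ⟨s, hs⟩ := hl.2
  have h1 := sympForm_mulVec l fr.e fr.f
  rw [fr.lt_spec hl.1, hs, sympForm_smul_left, sympForm_smul_right, fr.hef, mul_one] at h1
  have h2 : s = (fr.lt l)⁻¹ := by
    field_simp [fr.lt_ne_zero hl.1]
    linear_combination h1
  rw [hs, h2]

theorem lact_spec {l : symplecticGroup (Fin m) F} (hl : l ∈ fr.Lv) (w : fr.W) :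
    mt l *ᵥ (w : Fin m ⊕ Fin m → F) = (fr.lact l w : fr.W) := by
  have ht0 := fr.lt_ne_zero hl.1
  have h1 : sympForm m F (mt l *ᵥ (w : Fin m ⊕ Fin m → F)) fr.e = 0 := by
    have h := sympForm_mulVec l (w : Fin m ⊕ Fin m → F) fr.e
    rw [fr.lt_spec hl.1, sympForm_smul_right, fr.hwe] at h
    rcases mul_eq_zero.mp h with h | h
    · exact absurd h ht0
    · exact h
  have h2 : sympForm m F (mt l *ᵥ (w : Fin m ⊕ Fin m → F)) fr.f = 0 := by
    have h := sympForm_mulVec l (w : Fin m ⊕ Fin m → F) fr.f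
    rw [fr.lt_spec' hl, sympForm_smul_right, fr.hwf] at h
    rcases mul_eq_zero.mp h with h | h
    · exact absurd h (inv_ne_zero ht0)
    · exact h
  unfold lact
  rw [pw_coe, h1, h2, zero_smul, zero_smul, sub_zero, add_zero]

theorem lact_add {l : symplecticGroup (Fin m) F} (w w' : fr.W) :
    fr.lact l (w + w') = fr.lact l w + fr.lact l w' := by
  unfold lact
  rw [Submodule.coe_add, mulVec_add, map_add]

theorem lact_smul {l : symplecticGroup (Fin m) F} (c : F) (w : fr.W) :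
    fr.lact l (c • w) = c • fr.lact l w := by
  unfold lact
  rw [Submodule.coe_smul, mulVec_smul, map_smul]

theorem lact_zero (l : symplecticGroup (Fin m) F) : fr.lact l 0 = 0 := by
  have := fr.lact_smul (l := l) (0 : F) (0 : fr.W)
  rw [zero_smul, zero_smul] at this
  exact this

theorem lact_form {l : symplecticGroup (Fin m) F} (hl : l ∈ fr.Lv) (w w' : fr.W) :
    sympForm m F ((fr.lact l w : fr.W) : Fin m ⊕ Fin m → F) (fr.lact l w' : fr.W) =
      sympForm m F (w : Fin m ⊕ Fin m → F) (w' : Fin m ⊕ Fin m → F) := by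
  rw [← fr.lact_spec hl, ← fr.lact_spec hl, sympForm_mulVec]

theorem lact_mul {l l' : symplecticGroup (Fin m) F} (hl' : l' ∈ fr.Lv) (w : fr.W) :
    fr.lact (l * l') w = fr.lact l (fr.lact l' w) := by
  show fr.pw (mt (l * l') *ᵥ (w : Fin m ⊕ Fin m → F)) =
    fr.pw (mt l *ᵥ ((fr.lact l' w : fr.W) : Fin m ⊕ Fin m → F))
  rw [coe_mul_mulVec, fr.lact_spec hl']

theorem lact_one (w : fr.W) : fr.lact (1 : symplecticGroup (Fin m) F) w = w := by
  unfold lact
  rw [coe_one_mulVec, fr.pw_of_mem]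

theorem lt_mul {l l' : symplecticGroup (Fin m) F} (hl : l ∈ fr.Bv) (hl' : l' ∈ fr.Bv) :
    fr.lt (l * l') = fr.lt l * fr.lt l' := by
  have h := fr.lt_spec (fr.Bv.mul_mem hl hl')
  rw [coe_mul_mulVec, fr.lt_spec hl', mulVec_smul, fr.lt_spec hl, smul_smul] at h
  have h2 : (fr.lt l' * fr.lt l - fr.lt (l * l')) • fr.e = 0 := by
    rw [sub_smul, h, sub_self]
  rcases smul_eq_zero.mp h2 with h3 | h3
  · linear_combination -h3
  · exact absurd h3 fr.e_ne_zero

theorem lt_one : fr.lt (1 : symplecticGroup (Fin m) F) = 1 := by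
  unfold lt
  rw [coe_one_mulVec, fr.hef]

/-- conjugating a Siegel element by a Levi element -/
theorem conj_sg {l : symplecticGroup (Fin m) F} (hl : l ∈ fr.Lv) (w : fr.W) (a : F) :
    l * fr.sg w a * l⁻¹ = fr.sg (fr.lt l • fr.lact l w) (fr.lt l ^ 2 * a) := by
  rw [mul_inv_eq_iff_eq_mul]
  have ht0 := fr.lt_ne_zero hl.1
  apply fr.ext_sp
  · rw [coe_mul_mulVec, coe_mul_mulVec, sg_e, fr.lt_spec hl.1, mulVec_smul, sg_e]
  · rw [coe_mul_mulVec, coe_mul_mulVec, sg_f, fr.lt_spec' hl, mulVec_smul, sg_f, mulVec_add,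
      mulVec_add, mulVec_smul, fr.lt_spec hl.1, fr.lt_spec' hl, fr.lact_spec hl, Submodule.coe_smul]
    rw [smul_add, smul_add, smul_smul, smul_smul, smul_smul, inv_mul_cancel₀ ht0, one_smul]
    congr 2
    field_simp
  · intro x
    rw [coe_mul_mulVec, coe_mul_mulVec, sg_w, fr.lact_spec hl, sg_w, mulVec_sub, mulVec_smul,
      fr.lact_spec hl, fr.lt_spec hl.1, Submodule.coe_smul, sympForm_smul_right, fr.lact_form hl,
      smul_smul, mul_comm]

end Frame

end Cfsg.Agent.Helper8.AutSp
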