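import Mathlib
import Cfsg.Agent.Helper8.AutSpc

set_option autoImplicit false
set_option linter.unusedSectionVars false

/-! Automorphisms of `PSp_{2m}(q)`: the decomposition of the point stabiliser (helper8). -/

namespace Cfsg.Agent.Helper8.AutSp

open Matrix Cfsg Cfsg.Agent.Helper7.Symp Cfsg.Agent.Helper8.SpRoot

variable {F : Type*} [Field F] {m : ℕ}

namespace Frame

variable (fr : Frame m F)

theorem pw_e_smul (c : F) : fr.pw (c • fr.e) = 0 := by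
  rw [map_smul, fr.pw_e, smul_zero]

theorem Bv_perp {g : symplecticGroup (Fin m) F} (hg : g ∈ fr.Bv) (w : fr.W) :
    sympForm m F (mt g *ᵥ (w : Fin m ⊕ Fin m → F)) fr.e = 0 := by
  have ht0 := fr.lt_ne_zero hg
  have h := sympForm_mulVec g (w : Fin m ⊕ Fin m → F) fr.e
  rw [fr.lt_spec hg, sympForm_smul_right, fr.hwe] at h
  rcases mul_eq_zero.mp h with h | h
  · exact absurd h ht0
  · exact h

theorem lact_spec_B {g : symplecticGroup (Fin m) F} (hg : g ∈ fr.Bv) (w : fr.W) :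
    mt g *ᵥ (w : Fin m ⊕ Fin m → F) = ((fr.lact g w : fr.W) : Fin m ⊕ Fin m → F) +
      sympForm m F (mt g *ᵥ (w : Fin m ⊕ Fin m → F)) fr.f • fr.e := by
  have h3 := fr.dec (mt g *ᵥ (w : Fin m ⊕ Fin m → F))
  rw [fr.Bv_perp hg, zero_smul, sub_zero] at h3
  exact h3.trans (add_comm _ _)

theorem lact_mul_B {g g' : symplecticGroup (Fin m) F} (hg : g ∈ fr.Bv) (hg' : g' ∈ fr.Bv)
    (w : fr.W) : fr.lact (g * g') w = fr.lact g (fr.lact g' w) := by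
  show fr.pw (mt (g * g') *ᵥ (w : Fin m ⊕ Fin m → F)) =
    fr.pw (mt g *ᵥ ((fr.lact g' w : fr.W) : Fin m ⊕ Fin m → F))
  rw [coe_mul_mulVec]
  conv_lhs => rw [fr.lact_spec_B hg' w]
  rw [mulVec_add, mulVec_smul, fr.lt_spec hg, map_add, smul_smul, fr.pw_e_smul, add_zero]

theorem sg_mem_Bv (w : fr.W) (a : F) : fr.sg w a ∈ fr.Bv := ⟨1, by rw [sg_e, one_smul]⟩

theorem lt_sg (w : fr.W) (a : F) : fr.lt (fr.sg w a) = 1 := by
  unfold lt
  rw [sg_e, fr.hef]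

theorem lact_sg (w : fr.W) (a : F) (x : fr.W) : fr.lact (fr.sg w a) x = x := by
  unfold lact
  rw [sg_w, sub_eq_add_neg, ← neg_smul, map_add, fr.pw_e_smul, add_zero, fr.pw_of_mem]

/-- a Levi element with trivial parameters is trivial -/
theorem Lv_eq_one {l : symplecticGroup (Fin m) F} (hl : l ∈ fr.Lv) (h1 : fr.lt l = 1)
    (h2 : ∀ w, fr.lact l w = w) : l = 1 := by
  apply fr.ext_sp
  · rw [fr.lt_spec hl.1, h1, one_smul, coe_one_mulVec]
  · rw [fr.lt_spec' hl, h1, inv_one, one_smul, coe_one_mulVec]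
  · intro w
    rw [fr.lact_spec hl, h2, coe_one_mulVec]

/-- the decomposition of the point stabiliser -/
theorem Bv_decomp {g : symplecticGroup (Fin m) F} (hg : g ∈ fr.Bv) :
    ∃ (w : fr.W) (a : F) (l : symplecticGroup (Fin m) F), l ∈ fr.Lv ∧ g = fr.sg w a * l := by
  have ht0 := fr.lt_ne_zero hg
  set t := fr.lt g with ht
  set v := mt g *ᵥ fr.f with hv
  set α := sympForm m F v fr.f with hα
  have hdec := fr.dec v
  rw [← hα] at hdec
  have h1 : sympForm m F v fr.e = -t⁻¹ := by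
    have h := sympForm_mulVec g fr.e fr.f
    rw [fr.lt_spec hg, ← hv, sympForm_smul_left, fr.hef, ← ht] at h
    rw [sympForm_swap, eq_inv_of_mul_eq_one_right h]
  rw [h1] at hdec
  refine ⟨t • fr.pw v, t * α, (fr.sg (t • fr.pw v) (t * α))⁻¹ * g, ?_,
    by rw [mul_inv_cancel_left]⟩
  have hse : mt (fr.sg (t • fr.pw v) (t * α))⁻¹ *ᵥ fr.e = fr.e := by
    have := congrArg (fun x => mt (fr.sg (t • fr.pw v) (t * α))⁻¹ *ᵥ x)
      (fr.sg_e (t • fr.pw v) (t * α))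
    beta_reduce at this
    rw [coe_inv_mulVec'] at this
    exact this.symm
  refine ⟨⟨t, ?_⟩, ⟨t⁻¹, ?_⟩⟩
  · rw [coe_mul_mulVec, fr.lt_spec hg, mulVec_smul, hse]
  · rw [coe_mul_mulVec, ← hv]
    have h3 : v = mt (fr.sg (t • fr.pw v) (t * α)) *ᵥ (t⁻¹ • fr.f) := by
      rw [mulVec_smul, sg_f, Submodule.coe_smul]
      conv_lhs => rw [hdec]
      rw [smul_add, smul_add, smul_smul, smul_smul, inv_mul_cancel₀ ht0, one_smul,
        ← mul_assoc, inv_mul_cancel₀ ht0, one_mul]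
      module
    have h4 := congrArg (fun x => mt (fr.sg (t • fr.pw v) (t * α))⁻¹ *ᵥ x) h3
    beta_reduce at h4
    rw [coe_inv_mulVec'] at h4
    exact h4

/-- the unipotent radical of the point stabiliser -/
def Qv : Subgroup (symplecticGroup (Fin m) F) where
  carrier := {g | ∃ (w : fr.W) (a : F), g = fr.sg w a}
  mul_mem' := by
    rintro _ _ ⟨w, a, rfl⟩ ⟨w', a', rfl⟩
    exact ⟨_, _, fr.sg_mul w w' a a'⟩
  one_mem' := ⟨0, 0, fr.sg_zero.symm⟩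
  inv_mem' := by
    rintro _ ⟨w, a, rfl⟩
    exact ⟨_, _, fr.sg_inv w a⟩

theorem sg_mem_Qv (w : fr.W) (a : F) : fr.sg w a ∈ fr.Qv := ⟨w, a, rfl⟩

theorem Qv_le_Bv : fr.Qv ≤ fr.Bv := by
  rintro _ ⟨w, a, rfl⟩
  exact fr.sg_mem_Bv w a

theorem conj_mem_Qv {g u : symplecticGroup (Fin m) F} (hg : g ∈ fr.Bv) (hu : u ∈ fr.Qv) :
    g * u * g⁻¹ ∈ fr.Qv := by
  obtain ⟨w, a, l, hl, rfl⟩ := fr.Bv_decomp hg
  obtain ⟨w', a', rfl⟩ := hu
  have h : fr.sg w a * l * fr.sg w' a' * (fr.sg w a * l)⁻¹ =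
      fr.sg w a * (l * fr.sg w' a' * l⁻¹) * (fr.sg w a)⁻¹ := by group
  rw [h, fr.conj_sg hl]
  exact fr.Qv.mul_mem (fr.Qv.mul_mem (fr.sg_mem_Qv _ _) (fr.sg_mem_Qv _ _))
    (fr.Qv.inv_mem (fr.sg_mem_Qv _ _))

theorem mem_Qv_iff {g : symplecticGroup (Fin m) F} :
    g ∈ fr.Qv ↔ g ∈ fr.Bv ∧ fr.lt g = 1 ∧ ∀ w, fr.lact g w = w := by
  constructor
  · rintro ⟨w, a, rfl⟩
    exact ⟨fr.sg_mem_Bv w a, fr.lt_sg w a, fr.lact_sg w a⟩
  · rintro ⟨hg, h1, h2⟩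
    obtain ⟨w, a, l, hl, rfl⟩ := fr.Bv_decomp hg
    have hl1 : fr.lt l = 1 := by
      rw [fr.lt_mul (fr.sg_mem_Bv w a) (fr.Lv_le_Bv hl), fr.lt_sg, one_mul] at h1
      exact h1
    have hl2 : ∀ x, fr.lact l x = x := by
      intro x
      have := h2 x
      rw [fr.lact_mul_B (fr.sg_mem_Bv w a) (fr.Lv_le_Bv hl), fr.lact_sg] at this
      exact this
    rw [fr.Lv_eq_one hl hl1 hl2, mul_one]
    exact fr.sg_mem_Qv w a

theorem T_e_mem_Qv (s : F) : T fr.e s ∈ fr.Qv := by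
  have : T fr.e s = fr.sg 0 (-s) := by rw [sg_zero_left, neg_neg]
  rw [this]
  exact fr.sg_mem_Qv _ _

theorem RG_e_le_Qv : RG m F fr.e ≤ fr.Qv := by
  intro g hg
  obtain ⟨s, rfl⟩ := (mem_RG_iff fr.e g).mp hg
  exact fr.T_e_mem_Qv s

end Frame

end Cfsg.Agent.Helper8.AutSp
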