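import Mathlib
import Cfsg.Agent.Helper8.AutSpd

set_option autoImplicit false
set_option linter.unusedSectionVars false

/-! Automorphisms of `PSp_{2m}(q)`: torus elements and transvections in the Levi complement
(helper8). -/

namespace Cfsg.Agent.Helper8.AutSp

open Matrix Cfsg Cfsg.Agent.Helper7.Symp Cfsg.Agent.Helper8.SpRoot

variable {F : Type*} [Field F] {m : ℕ}

namespace Frame

variable (fr : Frame m F)

/-- the matrix of a torus element -/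
def dgM (t : F) : Matrix (Fin m ⊕ Fin m) (Fin m ⊕ Fin m) F :=
  1 + (t - 1) • Rm fr.e fr.f - (t⁻¹ - 1) • Rm fr.f fr.e

theorem dgM_mulVec (t : F) (v : Fin m ⊕ Fin m → F) : fr.dgM t *ᵥ v =
    v + ((t - 1) * sympForm m F v fr.f) • fr.e - ((t⁻¹ - 1) * sympForm m F v fr.e) • fr.f := by
  unfold dgM
  rw [sub_mulVec, add_mulVec, one_mulVec, smul_mulVec, smul_mulVec, Rm_mulVec, Rm_mulVec, smul_smul,
    smul_smul]

theorem form_dgM {t : F} (ht : t ≠ 0) (u v : Fin m ⊕ Fin m → F) :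
    sympForm m F (fr.dgM t *ᵥ u) (fr.dgM t *ᵥ v) = sympForm m F u v := by
  rw [dgM_mulVec, dgM_mulVec]
  simp only [sympForm_sub_left, sympForm_sub_right, sympForm_add_left, sympForm_add_right,
    sympForm_smul_left, sympForm_smul_right, sympForm_self, fr.hef, fr.hfe]
  rw [sympForm_swap fr.e v, sympForm_swap fr.f v]
  have h := mul_inv_cancel₀ ht
  linear_combination (sympForm m F u fr.e * sympForm m F v fr.f -
    sympForm m F u fr.f * sympForm m F v fr.e) * h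

/-- the torus element `e ↦ t e`, `f ↦ t⁻¹ f`, trivial on `W` -/
def dg {t : F} (ht : t ≠ 0) : symplecticGroup (Fin m) F := mkS (fr.dgM t) (fr.form_dgM ht)

theorem dg_e {t : F} (ht : t ≠ 0) : mt (fr.dg ht) *ᵥ fr.e = t • fr.e := by
  show fr.dgM t *ᵥ fr.e = _
  rw [dgM_mulVec, fr.hef, sympForm_self]
  module

theorem dg_f {t : F} (ht : t ≠ 0) : mt (fr.dg ht) *ᵥ fr.f = t⁻¹ • fr.f := by
  show fr.dgM t *ᵥ fr.f = _
  rw [dgM_mulVec, fr.hfe, sympForm_self]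
  module

theorem dg_w {t : F} (ht : t ≠ 0) (w : fr.W) :
    mt (fr.dg ht) *ᵥ (w : Fin m ⊕ Fin m → F) = (w : Fin m ⊕ Fin m → F) := by
  show fr.dgM t *ᵥ _ = _
  rw [dgM_mulVec, fr.hwe, fr.hwf]
  module

theorem dg_mem_Lv {t : F} (ht : t ≠ 0) : fr.dg ht ∈ fr.Lv :=
  ⟨⟨t, fr.dg_e ht⟩, ⟨_, fr.dg_f ht⟩⟩

theorem lt_dg {t : F} (ht : t ≠ 0) : fr.lt (fr.dg ht) = t := by
  unfold lt
  rw [dg_e, sympForm_smul_left, fr.hef, mul_one]

theorem lact_dg {t : F} (ht : t ≠ 0) (w : fr.W) : fr.lact (fr.dg ht) w = w := by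
  unfold lact
  rw [dg_w, fr.pw_of_mem]

/-! ### transvections in the Levi complement -/

theorem T_w_e (x : fr.W) (c : F) : mt (T (x : Fin m ⊕ Fin m → F) c) *ᵥ fr.e = fr.e := by
  rw [T_mulVec, fr.hew, mul_zero, zero_smul, add_zero]

theorem T_w_f (x : fr.W) (c : F) : mt (T (x : Fin m ⊕ Fin m → F) c) *ᵥ fr.f = fr.f := by
  rw [T_mulVec, fr.hfw, mul_zero, zero_smul, add_zero]

theorem T_w_mem_Lv (x : fr.W) (c : F) : T (x : Fin m ⊕ Fin m → F) c ∈ fr.Lv :=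
  ⟨⟨1, by rw [fr.T_w_e, one_smul]⟩, ⟨1, by rw [fr.T_w_f, one_smul]⟩⟩

theorem lt_T_w (x : fr.W) (c : F) : fr.lt (T (x : Fin m ⊕ Fin m → F) c) = 1 := by
  unfold lt
  rw [fr.T_w_e, fr.hef]

theorem lact_T_w (x : fr.W) (c : F) (w : fr.W) : fr.lact (T (x : Fin m ⊕ Fin m → F) c) w =
    w + (c * sympForm m F (w : Fin m ⊕ Fin m → F) (x : Fin m ⊕ Fin m → F)) • x := by
  apply Subtype.ext
  rw [← fr.lact_spec (fr.T_w_mem_Lv x c), T_mulVec, Submodule.coe_add, Submodule.coe_smul]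

end Frame

end Cfsg.Agent.Helper8.AutSp
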