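import Mathlib
import Cfsg.Agent.Helper8.AutSpe

set_option autoImplicit false
set_option linter.unusedSectionVars false

/-! Automorphisms of `PSp_{2m}(q)`: the unipotent radical is a `p`-group; its fixed vectors and
centraliser (helper8). -/

namespace Cfsg.Agent.Helper8.AutSp

open Matrix Cfsg Cfsg.Agent.Helper7.Symp Cfsg.Agent.Helper8.SpRoot

variable {F : Type*} [Field F] {m : ℕ}

theorem T_pow (v : Fin m ⊕ Fin m → F) (s : F) (n : ℕ) : (T v s) ^ n = T v ((n : F) * s) := by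
  induction n with
  | zero => rw [pow_zero, Nat.cast_zero, zero_mul, T_zero]
  | succ n ih =>
    rw [pow_succ, ih, T_mul]
    congr 1
    push_cast
    ring

theorem T_pow_char (p : ℕ) [CharP F p] (v : Fin m ⊕ Fin m → F) (s : F) : (T v s) ^ p = 1 := by
  rw [T_pow, CharP.cast_eq_zero, zero_mul, T_zero]

namespace Frame

variable (fr : Frame m F)

theorem sg_pow (w : fr.W) (a : F) (n : ℕ) : (fr.sg w a) ^ n = fr.sg ((n : F) • w) ((n : F) * a) := by
  induction n with
  | zero =>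
    rw [pow_zero, Nat.cast_zero, zero_smul, zero_mul, fr.sg_zero]
  | succ n ih =>
    rw [pow_succ, ih, fr.sg_mul, Submodule.coe_smul, sympForm_smul_left, sympForm_self, mul_zero,
      add_zero]
    congr 1
    · push_cast
      module
    · push_cast
      ring

theorem sg_pow_char (p : ℕ) [CharP F p] (w : fr.W) (a : F) : (fr.sg w a) ^ p = 1 := by
  rw [sg_pow, CharP.cast_eq_zero, zero_smul, zero_mul, fr.sg_zero]

theorem isPGroup_Qv (p : ℕ) [CharP F p] : IsPGroup p fr.Qv := by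
  rintro ⟨_, w, a, rfl⟩
  refine ⟨1, ?_⟩
  apply Subtype.ext
  rw [Subgroup.coe_pow, Subgroup.coe_one, pow_one]
  exact fr.sg_pow_char p w a

/-- vectors fixed by the unipotent radical -/
theorem fixed_Qv {v : Fin m ⊕ Fin m → F} (h : ∀ u ∈ fr.Qv, mt u *ᵥ v = v) :
    v = sympForm m F v fr.f • fr.e := by
  have key : ∀ (w : fr.W) (a : F), sympForm m F v (w : Fin m ⊕ Fin m → F) • fr.e +
      sympForm m F v fr.e • (w : Fin m ⊕ Fin m → F) + (a * sympForm m F v fr.e) • fr.e = 0 := by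
    intro w a
    have h1 := h _ (fr.sg_mem_Qv w a)
    rw [sg_mulVec] at h1
    have h3 : v - (v - sympForm m F v (w : Fin m ⊕ Fin m → F) • fr.e -
      sympForm m F v fr.e • (w : Fin m ⊕ Fin m → F) - (a * sympForm m F v fr.e) • fr.e) = 0 := by
      rw [h1, sub_self]
    rw [← h3]
    abel
  have hβ : sympForm m F v fr.e = 0 := by
    have h1 := key 0 1
    rw [Submodule.coe_zero, B_zero_right, zero_smul, smul_zero, zero_add, zero_add, one_mul] at h1
    rcases smul_eq_zero.mp h1 with h2 | h2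
    · exact h2
    · exact absurd h2 fr.e_ne_zero
  have hw : ∀ w : fr.W, sympForm m F v (w : Fin m ⊕ Fin m → F) = 0 := by
    intro w
    have h1 := key w 0
    rw [hβ, zero_smul, mul_zero, zero_smul, add_zero, add_zero] at h1
    rcases smul_eq_zero.mp h1 with h2 | h2
    · exact h2
    · exact absurd h2 fr.e_ne_zero
  have hdec := fr.dec v
  rw [hβ, zero_smul, sub_zero] at hdec
  have hwp : fr.pw v = 0 := by
    apply fr.eq_zero_of_B_W
    intro x
    rw [fr.B_pw, hw]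
  rw [hwp, Submodule.coe_zero, add_zero] at hdec
  exact hdec

/-- the centraliser of the unipotent radical in the stabiliser of the vector `e` lies in the
unipotent radical, with symmetric parameter -/
theorem centralizer_Qv_aux {g : symplecticGroup (Fin m) F} (hg : g ∈ fr.Bv) (h1 : fr.lt g = 1)
    (hc : ∀ u ∈ fr.Qv, g * u = u * g) : ∃ (w₀ : fr.W) (a₀ : F), g = fr.sg w₀ a₀ ∧
      ∀ w : fr.W, 2 * sympForm m F (w₀ : Fin m ⊕ Fin m → F) (w : Fin m ⊕ Fin m → F) = 0 := by
  obtain ⟨w₀, a₀, l, hl, rfl⟩ := fr.Bv_decomp hg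
  have hl1 : fr.lt l = 1 := by
    rw [fr.lt_mul (fr.sg_mem_Bv w₀ a₀) (fr.Lv_le_Bv hl), fr.lt_sg, one_mul] at h1
    exact h1
  have hl2 : ∀ w, fr.lact l w = w := by
    intro w
    have h2 := hc _ (fr.sg_mem_Qv w 0)
    have h3 : fr.sg w₀ a₀ * (l * fr.sg w 0 * l⁻¹) = fr.sg w 0 * fr.sg w₀ a₀ := by
      have : fr.sg w₀ a₀ * (l * fr.sg w 0 * l⁻¹) = (fr.sg w₀ a₀ * l * fr.sg w 0) * l⁻¹ := by group
      rw [this, h2]
      group
    rw [fr.conj_sg hl, fr.sg_mul, fr.sg_mul] at h3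
    have h4 := (fr.sg_injective h3).1
    rw [hl1, one_smul] at h4
    have h5 : w₀ + fr.lact l w - w₀ = w + w₀ - w₀ := by rw [h4]
    rw [add_sub_cancel_left, add_sub_cancel_right] at h5
    exact h5
  rw [fr.Lv_eq_one hl hl1 hl2, mul_one] at hc ⊢
  refine ⟨w₀, a₀, rfl, fun w => ?_⟩
  have h2 := hc _ (fr.sg_mem_Qv w 0)
  have h4 := fr.sg_comm w₀ w a₀ 0
  rw [h2] at h4
  have h5 : T fr.e (-(2 * sympForm m F (w₀ : Fin m ⊕ Fin m → F) (w : Fin m ⊕ Fin m → F))) = 1 := by
    have := congrArg (fun x => (fr.sg w 0 * fr.sg w₀ a₀)⁻¹ * x) h4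
    beta_reduce at this
    rw [inv_mul_cancel, inv_mul_cancel_left] at this
    exact this.symm
  rw [T_eq_one_iff fr.e_ne_zero] at h5
  exact neg_eq_zero.mp h5

theorem centralizer_Qv_le {g : symplecticGroup (Fin m) F} (hg : g ∈ fr.Bv) (h1 : fr.lt g = 1)
    (hc : ∀ u ∈ fr.Qv, g * u = u * g) : g ∈ fr.Qv := by
  obtain ⟨w₀, a₀, rfl, _⟩ := fr.centralizer_Qv_aux hg h1 hc
  exact fr.sg_mem_Qv _ _

/-- in odd characteristic the centraliser of the unipotent radical in the stabiliser of the vector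
`e` is the root group -/
theorem centralizer_Qv (h2 : (2 : F) ≠ 0) {g : symplecticGroup (Fin m) F} (hg : g ∈ fr.Bv)
    (h1 : fr.lt g = 1) (hc : ∀ u ∈ fr.Qv, g * u = u * g) : g ∈ RG m F fr.e := by
  obtain ⟨w₀, a₀, rfl, h3⟩ := fr.centralizer_Qv_aux hg h1 hc
  have hw₀ : w₀ = 0 := by
    apply fr.eq_zero_of_B_W
    intro w
    exact (mul_eq_zero.mp (h3 w)).resolve_left h2
  rw [hw₀, fr.sg_zero_left]
  exact T_mem_RG _ _

end Frame

end Cfsg.Agent.Helper8.AutSp
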