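import Mathlib
import Cfsg.Agent.Helper8.AutSpf
import Cfsg.Agent.Helper8.AutSLnC

set_option autoImplicit false
set_option linter.unusedSectionVars false

/-! Automorphisms of `PSp_{2m}(q)`: a Sylow `p`-subgroup of `Sp` containing the unipotent radical of
a point stabiliser fixes the point, and in odd characteristic its centre is the root group
(helper8). -/

namespace Cfsg.Agent.Helper8.AutSp

open Matrix Cfsg Cfsg.Agent.Helper7.Symp Cfsg.Agent.Helper8.SpRoot
open Cfsg.Agent.Helper8.AutSLn (ZZ mem_ZZ ZZ_smul)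

variable {F : Type*} [Field F] {m : ℕ}

/-- the nonzero vectors -/
abbrev NZ (m : ℕ) (F : Type*) [Field F] : Type _ := {v : Fin m ⊕ Fin m → F // v ≠ 0}

instance : MulAction (symplecticGroup (Fin m) F) (NZ m F) where
  smul g v := ⟨mt g *ᵥ v.1, mulVec_ne_zero' g v.2⟩
  one_smul v := Subtype.ext (coe_one_mulVec _)
  mul_smul g h v := Subtype.ext (coe_mul_mulVec _ _ _)

theorem NZ_smul_val (g : symplecticGroup (Fin m) F) (v : NZ m F) : (g • v).1 = mt g *ᵥ v.1 := rfl

theorem card_NZ [Fintype F] : Nat.card (NZ m F) + 1 = Fintype.card F ^ (m + m) := by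
  classical
  rw [Nat.card_eq_fintype_card, Fintype.card_subtype_compl (fun v : Fin m ⊕ Fin m → F => v = 0),
    Fintype.card_subtype_eq, Fintype.card_pi]
  simp only [Finset.prod_const, Finset.card_univ, Fintype.card_sum, Fintype.card_fin]
  have : 1 ≤ Fintype.card F ^ (m + m) := Nat.one_le_pow _ _ Fintype.card_pos
  omega

theorem not_dvd_card_NZ [Fintype F] (p : ℕ) [Fact p.Prime] [CharP F p] (hm : 1 ≤ m) :
    ¬ p ∣ Nat.card (NZ m F) := by
  intro h
  have h0 : p ∣ Fintype.card F := by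
    have h1 : (Fintype.card F : F) = 0 := Nat.cast_card_eq_zero F
    exact (CharP.cast_eq_zero_iff F p _).mp h1
  have h1 : p ∣ Fintype.card F ^ (m + m) := dvd_pow h0 (by omega)
  rw [← card_NZ (m := m)] at h1
  have h2 : p ∣ 1 := (Nat.dvd_add_right h).mp h1
  exact (Fact.out : p.Prime).one_lt.ne' (Nat.dvd_one.mp h2)

namespace Frame

variable (fr : Frame m F)

/-- a Sylow subgroup containing the unipotent radical fixes the vector `e` -/
theorem sylow_fix [Fintype F] (p : ℕ) [Fact p.Prime] [CharP F p] (hm : 1 ≤ m)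
    (P : Sylow p (symplecticGroup (Fin m) F)) (hQ : fr.Qv ≤ P) {g : symplecticGroup (Fin m) F}
    (hg : g ∈ P) : mt g *ᵥ fr.e = fr.e := by
  obtain ⟨v, hv⟩ := P.isPGroup'.nonempty_fixed_point_of_prime_not_dvd_card (NZ m F)
    (not_dvd_card_NZ p hm)
  rw [MulAction.mem_fixedPoints] at hv
  have h1 : ∀ u ∈ (P : Subgroup (symplecticGroup (Fin m) F)), mt u *ᵥ v.1 = v.1 := by
    intro u hu
    have := hv ⟨u, hu⟩
    exact congrArg Subtype.val this
  have h2 := fr.fixed_Qv (fun u hu => h1 u (hQ hu))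
  have hc : sympForm m F v.1 fr.f ≠ 0 := by
    intro h0
    rw [h0, zero_smul] at h2
    exact v.2 h2
  have h3 := h1 g hg
  rw [h2, mulVec_smul] at h3
  have h4 := congrArg (fun x => (sympForm m F v.1 fr.f)⁻¹ • x) h3
  beta_reduce at h4
  rw [smul_smul, smul_smul, inv_mul_cancel₀ hc, one_smul, one_smul] at h4
  exact h4

theorem mem_Bv_of_fix {g : symplecticGroup (Fin m) F} (h : mt g *ᵥ fr.e = fr.e) : g ∈ fr.Bv :=
  ⟨1, by rw [h, one_smul]⟩

theorem lt_of_fix {g : symplecticGroup (Fin m) F} (h : mt g *ᵥ fr.e = fr.e) : fr.lt g = 1 := by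
  unfold lt
  rw [h, fr.hef]

/-- in odd characteristic the centre of a Sylow subgroup containing the unipotent radical is the
root group -/
theorem ZZ_sylow [Fintype F] (p : ℕ) [Fact p.Prime] [CharP F p] (h2 : (2 : F) ≠ 0) (hm : 1 ≤ m)
    (P : Sylow p (symplecticGroup (Fin m) F)) (hQ : fr.Qv ≤ P) :
    ZZ (P : Subgroup (symplecticGroup (Fin m) F)) = RG m F fr.e := by
  ext g
  rw [mem_ZZ]
  constructor
  · rintro ⟨hg, hc⟩
    have h1 := fr.sylow_fix p hm P hQ hg
    exact fr.centralizer_Qv h2 (fr.mem_Bv_of_fix h1) (fr.lt_of_fix h1)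
      (fun u hu => (hc u (hQ hu)).symm)
  · intro hg
    refine ⟨hQ (fr.RG_e_le_Qv hg), fun h hh => ?_⟩
    obtain ⟨s, rfl⟩ := (mem_RG_iff fr.e g).mp hg
    have h1 := fr.sylow_fix p hm P hQ hh
    have h3 := conj_T h fr.e s
    rw [h1] at h3
    calc h * T fr.e s = (h * T fr.e s * h⁻¹) * h := by group
      _ = T fr.e s * h := by rw [h3]

end Frame

end Cfsg.Agent.Helper8.AutSp
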