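import Mathlib
import Cfsg.Prelude.Def_LieTypeDatum
import Cfsg.Agent.Helper8.AutSpg

set_option autoImplicit false
set_option linter.unusedSectionVars false

/-! Automorphisms of `PSp_{2m}(q)`: conjugation by conformal symplectic matrices and field
automorphisms (helper8). -/

namespace Cfsg.Agent.Helper8.AutSp

open Matrix Cfsg Cfsg.Agent.Helper7.Symp Cfsg.Agent.Helper8.SpRoot

variable {F : Type*} [Field F] {m : ℕ}

/-- the matrix of an element of `GSp` -/
abbrev mg (g : GSp m F) : Matrix (Fin m ⊕ Fin m) (Fin m ⊕ Fin m) F :=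
  ((g : GL (Fin m ⊕ Fin m) F) : Matrix (Fin m ⊕ Fin m) (Fin m ⊕ Fin m) F)

theorem mg_mul_mulVec (g h : GSp m F) (v : Fin m ⊕ Fin m → F) :
    mg (g * h) *ᵥ v = mg g *ᵥ (mg h *ᵥ v) := by
  show (((g : GL (Fin m ⊕ Fin m) F) * (h : GL (Fin m ⊕ Fin m) F) : GL (Fin m ⊕ Fin m) F) :
    Matrix (Fin m ⊕ Fin m) (Fin m ⊕ Fin m) F) *ᵥ v = _
  rw [Units.val_mul, mulVec_mulVec]

theorem mg_one_mulVec (v : Fin m ⊕ Fin m → F) : mg (1 : GSp m F) *ᵥ v = v := by
  show ((1 : GL (Fin m ⊕ Fin m) F) : Matrix (Fin m ⊕ Fin m) (Fin m ⊕ Fin m) F) *ᵥ v = v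
  rw [Units.val_one, one_mulVec]

theorem mg_inv_mulVec (g : GSp m F) (v : Fin m ⊕ Fin m → F) : mg g *ᵥ (mg g⁻¹ *ᵥ v) = v := by
  rw [← mg_mul_mulVec, mul_inv_cancel, mg_one_mulVec]

theorem mg_inv_mulVec' (g : GSp m F) (v : Fin m ⊕ Fin m → F) : mg g⁻¹ *ᵥ (mg g *ᵥ v) = v := by
  rw [← mg_mul_mulVec, inv_mul_cancel, mg_one_mulVec]

theorem mg_inv_eq (g : GSp m F) : mg g⁻¹ =
    (((g : GL (Fin m ⊕ Fin m) F)⁻¹ : GL (Fin m ⊕ Fin m) F) : Matrix _ _ F) := rfl

/-- the multiplier of a conformal symplectic matrix -/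
noncomputable def mu (g : GSp m F) : Fˣ := Classical.choose g.2

theorem B_mg (g : GSp m F) (u v : Fin m ⊕ Fin m → F) :
    sympForm m F (mg g *ᵥ u) (mg g *ᵥ v) = (mu g : F) * sympForm m F u v :=
  Classical.choose_spec g.2 u v

theorem mu_ne_zero (g : GSp m F) : (mu g : F) ≠ 0 := (mu g).ne_zero

theorem B_mg_inv (g : GSp m F) (u v : Fin m ⊕ Fin m → F) :
    sympForm m F (mg g⁻¹ *ᵥ u) (mg g⁻¹ *ᵥ v) = (mu g : F)⁻¹ * sympForm m F u v := by
  have h := B_mg g (mg g⁻¹ *ᵥ u) (mg g⁻¹ *ᵥ v)
  rw [mg_inv_mulVec, mg_inv_mulVec] at h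
  rw [h, ← mul_assoc, inv_mul_cancel₀ (mu_ne_zero g), one_mul]

theorem mg_mulVec_ne_zero (g : GSp m F) {v : Fin m ⊕ Fin m → F} (hv : v ≠ 0) : mg g *ᵥ v ≠ 0 := by
  intro h
  apply hv
  have := mg_inv_mulVec' g v
  rw [h, mulVec_zero] at this
  exact this.symm

/-- conjugation by a conformal symplectic matrix, on `Sp` -/
def spConjFun (g : GSp m F) (s : symplecticGroup (Fin m) F) : symplecticGroup (Fin m) F :=
  mkS (mg g * mt s * mg g⁻¹) (by
    intro u v
    rw [← mulVec_mulVec, ← mulVec_mulVec, ← mulVec_mulVec, ← mulVec_mulVec, B_mg, sympForm_mulVec,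
      B_mg_inv, ← mul_assoc, mul_inv_cancel₀ (mu_ne_zero g), one_mul])

theorem spConjFun_mulVec (g : GSp m F) (s : symplecticGroup (Fin m) F) (v : Fin m ⊕ Fin m → F) :
    mt (spConjFun g s) *ᵥ v = mg g *ᵥ (mt s *ᵥ (mg g⁻¹ *ᵥ v)) := by
  show (mg g * mt s * mg g⁻¹) *ᵥ v = _
  rw [← mulVec_mulVec, ← mulVec_mulVec]

/-- conjugation by a conformal symplectic matrix, as an automorphism of `Sp` -/
def spConj : GSp m F →* MulAut (symplecticGroup (Fin m) F) where
  toFun g :=
    { toFun := spConjFun g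
      invFun := spConjFun g⁻¹
      left_inv := fun s => by
        apply ext_mulVec
        intro v
        rw [spConjFun_mulVec, spConjFun_mulVec, inv_inv, mg_inv_mulVec', mg_inv_mulVec']
      right_inv := fun s => by
        apply ext_mulVec
        intro v
        rw [spConjFun_mulVec, spConjFun_mulVec, inv_inv, mg_inv_mulVec, mg_inv_mulVec]
      map_mul' := fun s t => by
        apply ext_mulVec
        intro v
        rw [coe_mul_mulVec, spConjFun_mulVec, spConjFun_mulVec, spConjFun_mulVec, coe_mul_mulVec,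
          mg_inv_mulVec'] }
  map_one' := by
    ext s : 1
    apply ext_mulVec
    intro v
    show mt (spConjFun 1 s) *ᵥ v = mt s *ᵥ v
    rw [spConjFun_mulVec, inv_one, mg_one_mulVec, mg_one_mulVec]
  map_mul' g h := by
    ext s : 1
    apply ext_mulVec
    intro v
    show mt (spConjFun (g * h) s) *ᵥ v = mt (spConjFun g (spConjFun h s)) *ᵥ v
    rw [spConjFun_mulVec, spConjFun_mulVec, spConjFun_mulVec, _root_.mul_inv_rev, mg_mul_mulVec,
      mg_mul_mulVec]

theorem spConj_mulVec (g : GSp m F) (s : symplecticGroup (Fin m) F) (v : Fin m ⊕ Fin m → F) :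
    mt (spConj g s) *ᵥ v = mg g *ᵥ (mt s *ᵥ (mg g⁻¹ *ᵥ v)) := spConjFun_mulVec g s v

theorem spConj_coe (g : GSp m F) (s : symplecticGroup (Fin m) F) :
    mt (spConj g s) = mg g * mt s *
      (((g : GL (Fin m ⊕ Fin m) F)⁻¹ : GL (Fin m ⊕ Fin m) F) : Matrix _ _ F) := rfl

/-- apply a field automorphism to a vector -/
def sv (σ : F ≃+* F) (v : Fin m ⊕ Fin m → F) : Fin m ⊕ Fin m → F := fun i => σ (v i)

theorem sv_apply (σ : F ≃+* F) (v : Fin m ⊕ Fin m → F) (i : Fin m ⊕ Fin m) :
    sv σ v i = σ (v i) := rfl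

theorem map_mulVec_sv (σ : F ≃+* F) (M : Matrix (Fin m ⊕ Fin m) (Fin m ⊕ Fin m) F)
    (v : Fin m ⊕ Fin m → F) : M.map σ *ᵥ sv σ v = sv σ (M *ᵥ v) := by
  ext i
  exact ((σ : F →+* F).map_mulVec M v i).symm

theorem J_map (σ : F ≃+* F) : (J (Fin m) F).map σ = J (Fin m) F := by
  unfold J
  rw [fromBlocks_map]
  congr 1
  · ext i j; simp
  · ext i j
    by_cases h : i = j
    · subst h; simp
    · simp [h]
  · ext i j
    by_cases h : i = j
    · subst h; simp
    · simp [h]
  · ext i j; simp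

theorem B_sv (σ : F ≃+* F) (u v : Fin m ⊕ Fin m → F) :
    sympForm m F (sv σ u) (sv σ v) = σ (sympForm m F u v) := by
  unfold sympForm
  rw [← J_map σ, map_mulVec_sv, J_map σ]
  exact ((σ : F →+* F).map_dotProduct u _).symm

theorem sv_symm_sv (σ : F ≃+* F) (v : Fin m ⊕ Fin m → F) : sv σ.symm (sv σ v) = v := by
  ext i
  simp [sv]

theorem sv_sv_symm (σ : F ≃+* F) (v : Fin m ⊕ Fin m → F) : sv σ (sv σ.symm v) = v := by
  ext i
  simp [sv]

theorem sv_add (σ : F ≃+* F) (u v : Fin m ⊕ Fin m → F) : sv σ (u + v) = sv σ u + sv σ v := by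
  ext i
  simp [sv]

theorem sv_smul (σ : F ≃+* F) (c : F) (v : Fin m ⊕ Fin m → F) : sv σ (c • v) = σ c • sv σ v := by
  ext i
  simp [sv]

theorem sv_zero (σ : F ≃+* F) : sv σ (0 : Fin m ⊕ Fin m → F) = 0 := by
  ext i
  simp [sv]

theorem map_mulVec' (σ : F ≃+* F) (M : Matrix (Fin m ⊕ Fin m) (Fin m ⊕ Fin m) F)
    (v : Fin m ⊕ Fin m → F) : M.map σ *ᵥ v = sv σ (M *ᵥ sv σ.symm v) := by
  rw [← map_mulVec_sv, sv_sv_symm]

/-- a field automorphism applied to all entries, on `Sp` -/
def spFieldFun (σ : F ≃+* F) (s : symplecticGroup (Fin m) F) : symplecticGroup (Fin m) F :=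
  mkS ((mt s).map σ) (by
    intro u v
    rw [map_mulVec', map_mulVec', B_sv, sympForm_mulVec, ← B_sv, sv_sv_symm, sv_sv_symm])

theorem spFieldFun_coe (σ : F ≃+* F) (s : symplecticGroup (Fin m) F) :
    mt (spFieldFun σ s) = (mt s).map σ := rfl

/-- a field automorphism applied to all entries, as an automorphism of `Sp` -/
def spField : (F ≃+* F) →* MulAut (symplecticGroup (Fin m) F) where
  toFun σ :=
    { toFun := spFieldFun σ
      invFun := spFieldFun σ.symm
      left_inv := fun s => by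
        apply Subtype.ext
        show ((mt s).map σ).map σ.symm = mt s
        ext i j
        simp
      right_inv := fun s => by
        apply Subtype.ext
        show ((mt s).map σ.symm).map σ = mt s
        ext i j
        simp
      map_mul' := fun s t => by
        apply Subtype.ext
        show (mt s * mt t).map σ = (mt s).map σ * (mt t).map σ
        exact Matrix.map_mul }
  map_one' := by
    ext s : 1
    apply Subtype.ext
    show (mt s).map (1 : F ≃+* F) = mt s
    ext i j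
    rfl
  map_mul' σ τ := by
    ext s : 1
    apply Subtype.ext
    show (mt s).map (σ * τ) = ((mt s).map τ).map σ
    ext i j
    rfl

theorem spField_coe (σ : F ≃+* F) (s : symplecticGroup (Fin m) F) :
    mt (spField σ s) = (mt s).map σ := rfl

theorem spField_mulVec (σ : F ≃+* F) (s : symplecticGroup (Fin m) F) (v : Fin m ⊕ Fin m → F) :
    mt (spField σ s) *ᵥ sv σ v = sv σ (mt s *ᵥ v) := by
  rw [spField_coe, map_mulVec_sv]

/-- the intertwining property of the semilinear automorphism -/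
theorem semi_mulVec (g : GSp m F) (σ : F ≃+* F) (s : symplecticGroup (Fin m) F)
    (v : Fin m ⊕ Fin m → F) :
    mt (spConj g (spField σ s)) *ᵥ (mg g *ᵥ sv σ v) = mg g *ᵥ sv σ (mt s *ᵥ v) := by
  rw [spConj_mulVec, mg_inv_mulVec', spField_mulVec]

/-- an automorphism of `Sp` induces an automorphism of `PSp` -/
noncomputable def pspLift : MulAut (symplecticGroup (Fin m) F) →* MulAut (PSp m F) where
  toFun e := QuotientGroup.congr (Subgroup.center (symplecticGroup (Fin m) F))
    (Subgroup.center (symplecticGroup (Fin m) F)) e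
    (Subgroup.characteristic_iff_map_eq.mp Subgroup.centerCharacteristic e)
  map_one' := by
    ext x
    induction x using QuotientGroup.induction_on with
    | H s => rfl
  map_mul' e e' := by
    ext x
    induction x using QuotientGroup.induction_on with
    | H s => rfl

theorem pspLift_mk (e : MulAut (symplecticGroup (Fin m) F)) (s : symplecticGroup (Fin m) F) :
    pspLift e (QuotientGroup.mk s) = QuotientGroup.mk (e s) := rfl

/-- the projection onto `PSp` -/
def pr : symplecticGroup (Fin m) F →* PSp m F :=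
  QuotientGroup.mk' (Subgroup.center (symplecticGroup (Fin m) F))

theorem pr_surjective : Function.Surjective (pr : symplecticGroup (Fin m) F →* PSp m F) :=
  QuotientGroup.mk'_surjective _

theorem pr_eq_mk (s : symplecticGroup (Fin m) F) : pr s = QuotientGroup.mk s := rfl

theorem pspLift_pr (e : MulAut (symplecticGroup (Fin m) F)) (s : symplecticGroup (Fin m) F) :
    pspLift e (pr s) = pr (e s) := rfl

/-- the inner-diagonal automorphisms of `PSp` -/
noncomputable def pspConj : GSp m F →* MulAut (PSp m F) := pspLift.comp spConj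

/-- the field automorphisms of `PSp` -/
noncomputable def pspField : (F ≃+* F) →* MulAut (PSp m F) := pspLift.comp spField

theorem pspConj_pr (g : GSp m F) (s : symplecticGroup (Fin m) F) :
    pspConj g (pr s) = pr (spConj g s) := rfl

theorem pspField_pr (σ : F ≃+* F) (s : symplecticGroup (Fin m) F) :
    pspField σ (pr s) = pr (spField σ s) := rfl

theorem isInnerDiagonal_pspConj (g : GSp m F) :
    Cfsg.IsInnerDiagonalAutPSp (pspConj g : MulAut (PSp m F)) := by
  refine ⟨g.1, g.2, fun s s' h => ?_⟩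
  have h1 : spConj g s = s' := Subtype.ext (by
    rw [h]
    show mg g * mt s * _ = _
    rfl)
  rw [← pr_eq_mk, pspConj_pr, h1]
  rfl

theorem isStdFieldAut_pspField (σ : F ≃+* F) :
    Cfsg.IsStdFieldAutPSp σ (pspField σ : MulAut (PSp m F)) := by
  intro s s' h
  have h1 : spField σ s = s' := Subtype.ext (by rw [h]; rfl)
  rw [← pr_eq_mk, pspField_pr, h1]
  rfl

theorem isInducedBySemilinear_mul (g : GSp m F) (σ : F ≃+* F) :
    Cfsg.IsInducedBySemilinearPSp (g : GL (Fin m ⊕ Fin m) F) σ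
      (pspConj g * pspField σ : MulAut (PSp m F)) := by
  intro s s' h
  have h1 : spConj g (spField σ s) = s' := Subtype.ext (by rw [h]; rfl)
  rw [← pr_eq_mk, MulAut.mul_apply, pspField_pr, pspConj_pr, h1]
  rfl

end Cfsg.Agent.Helper8.AutSp
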