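import Mathlib
import Cfsg.Agent.Helper8.AutSph
import Cfsg.Agent.S0246

set_option autoImplicit false
set_option linter.unusedSectionVars false

/-! Automorphisms of `PSp_{2m}(q)`: the centre, `p`-elements and the root groups in `PSp`
(helper8). -/

namespace Cfsg.Agent.Helper8.AutSp

open Matrix Cfsg Cfsg.Agent.Helper7.Symp Cfsg.Agent.Helper8.SpRoot

variable {F : Type*} [Field F] {m : ℕ}

/-- central elements are scalar -/
theorem center_mulVec (hm : 1 ≤ m) {z : symplecticGroup (Fin m) F}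
    (hz : z ∈ Subgroup.center (symplecticGroup (Fin m) F)) :
    ∃ ζ : F, ζ * ζ = 1 ∧ ∀ v : Fin m ⊕ Fin m → F, mt z *ᵥ v = ζ • v := by
  rcases Cfsg.Agent.S0246.central_eq hm z hz with h | h
  · refine ⟨1, one_mul 1, fun v => ?_⟩
    rw [h, coe_one_mulVec, one_smul]
  · refine ⟨-1, by ring, fun v => ?_⟩
    rw [h]
    show (-1 : Matrix (Fin m ⊕ Fin m) (Fin m ⊕ Fin m) F) *ᵥ v = _
    rw [neg_mulVec, one_mulVec, neg_smul, one_smul]

/-- scalar elements are central -/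
theorem mem_center_of_scalar {z : symplecticGroup (Fin m) F} {ζ : F}
    (h : ∀ v : Fin m ⊕ Fin m → F, mt z *ᵥ v = ζ • v) :
    z ∈ Subgroup.center (symplecticGroup (Fin m) F) := by
  rw [Subgroup.mem_center_iff]
  intro g
  apply ext_mulVec
  intro v
  rw [coe_mul_mulVec, coe_mul_mulVec, h, h, mulVec_smul]

theorem pr_eq_iff {a b : symplecticGroup (Fin m) F} :
    pr a = pr b ↔ a⁻¹ * b ∈ Subgroup.center (symplecticGroup (Fin m) F) :=
  QuotientGroup.eq

theorem pr_eq_one_iff {a : symplecticGroup (Fin m) F} :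
    pr a = 1 ↔ a ∈ Subgroup.center (symplecticGroup (Fin m) F) :=
  QuotientGroup.eq_one_iff a

theorem pow_mulVec_of_scalar {z : symplecticGroup (Fin m) F} {ζ : F}
    (h : ∀ v : Fin m ⊕ Fin m → F, mt z *ᵥ v = ζ • v)
    (n : ℕ) (v : Fin m ⊕ Fin m → F) : mt (z ^ n) *ᵥ v = ζ ^ n • v := by
  induction n with
  | zero => rw [pow_zero, pow_zero, coe_one_mulVec, one_smul]
  | succ n ih => rw [pow_succ, coe_mul_mulVec, h, mulVec_smul, ih, smul_smul, pow_succ, mul_comm]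

theorem eq_one_of_pow_char_pow (p : ℕ) [Fact p.Prime] [CharP F p] {ζ : F} {n : ℕ}
    (h : ζ ^ (p ^ n) = 1) : ζ = 1 := by
  have h1 : (ζ - 1) ^ (p ^ n) = 0 := by rw [sub_pow_char_pow, h, one_pow, sub_self]
  exact sub_eq_zero.mp (pow_eq_zero_iff (pow_ne_zero n (Fact.out : p.Prime).ne_zero) |>.mp h1)

/-- two `p`-elements with the same image in `PSp` are equal -/
theorem eq_of_pr_eq (p : ℕ) [Fact p.Prime] [CharP F p] (hm : 1 ≤ m)
    {x y : symplecticGroup (Fin m) F}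
    (h : pr x = pr y) {m₁ m₂ : ℕ} (hx : x ^ (p ^ m₁) = 1) (hy : y ^ (p ^ m₂) = 1) : x = y := by
  have hz := pr_eq_iff.mp h
  obtain ⟨ζ, -, hζ⟩ := center_mulVec hm hz
  have hxM : x ^ (p ^ (m₁ + m₂)) = 1 := by rw [pow_add, pow_mul, hx, one_pow]
  have hyM : y ^ (p ^ (m₁ + m₂)) = 1 := by rw [pow_add, mul_comm, pow_mul, hy, one_pow]
  have hy' : y = x * (x⁻¹ * y) := by group
  have hcomm : Commute x (x⁻¹ * y) := (Subgroup.mem_center_iff.mp hz x)
  have hzM : (x⁻¹ * y) ^ (p ^ (m₁ + m₂)) = 1 := by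
    have := hyM
    rw [hy', hcomm.mul_pow, hxM, one_mul] at this
    exact this
  have h1 : ζ ^ (p ^ (m₁ + m₂)) = 1 := by
    have h2 := pow_mulVec_of_scalar hζ (p ^ (m₁ + m₂)) (Pi.single (Sum.inl ⟨0, hm⟩) 1)
    rw [hzM, coe_one_mulVec] at h2
    have h3 := congrFun h2 (Sum.inl ⟨0, hm⟩)
    rw [Pi.smul_apply, Pi.single_eq_same, smul_eq_mul, mul_one] at h3
    exact h3.symm
  have h2 := eq_one_of_pow_char_pow p h1
  have h3 : x⁻¹ * y = 1 := by
    apply ext_mulVec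
    intro v
    rw [hζ, h2, one_smul, coe_one_mulVec]
  exact (inv_mul_eq_one.mp h3)

/-- the images of the root groups in `PSp` -/
def Xb (v : Fin m ⊕ Fin m → F) : Subgroup (PSp m F) := (RG m F v).map pr

theorem mem_Xb_iff {v : Fin m ⊕ Fin m → F} {x : PSp m F} :
    x ∈ Xb v ↔ ∃ s : F, x = pr (T v s) := by
  unfold Xb
  rw [Subgroup.mem_map]
  constructor
  · rintro ⟨y, hy, rfl⟩
    obtain ⟨s, rfl⟩ := (mem_RG_iff v y).mp hy
    exact ⟨s, rfl⟩
  · rintro ⟨s, rfl⟩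
    exact ⟨_, T_mem_RG v s, rfl⟩

theorem Xb_smul (v : Fin m ⊕ Fin m → F) {a : F} (ha : a ≠ 0) : Xb (a • v) = Xb v := by
  unfold Xb
  rw [RG_smul v ha]

theorem exists_B_eq_one {v : Fin m ⊕ Fin m → F} (hv : v ≠ 0) :
    ∃ x, sympForm m F x v = 1 := by
  obtain ⟨x, hx⟩ := exists_form_ne_zero hv
  refine ⟨(sympForm m F x v)⁻¹ • x, ?_⟩
  rw [sympForm_smul_left, inv_mul_cancel₀ hx]

/-- root groups with the same image are attached to the same point -/
theorem par_of_Xb_eq (p : ℕ) [Fact p.Prime] [CharP F p] (hm : 1 ≤ m) {v v' : Fin m ⊕ Fin m → F}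
    (hv0 : v ≠ 0) (h : Xb v = Xb v') : ∃ c : F, c ≠ 0 ∧ v = c • v' := by
  have h1 : pr (T v 1) ∈ Xb v' := by
    rw [← h]
    exact mem_Xb_iff.mpr ⟨1, rfl⟩
  obtain ⟨s', h2⟩ := mem_Xb_iff.mp h1
  have h3 : T v (1 : F) = T v' s' :=
    eq_of_pr_eq p hm h2 (m₁ := 1) (m₂ := 1) (by rw [pow_one]; exact T_pow_char p v 1)
      (by rw [pow_one]; exact T_pow_char p v' s')
  obtain ⟨x, hx⟩ := exists_B_eq_one hv0
  have h4 : mt (T v (1 : F)) *ᵥ x = mt (T v' s') *ᵥ x := by rw [h3]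
  rw [T_mulVec, T_mulVec, hx, mul_one, one_smul] at h4
  have h5 : v = (s' * sympForm m F x v') • v' := add_left_cancel h4
  refine ⟨_, ?_, h5⟩
  intro h0
  rw [h0, zero_smul] at h5
  exact hv0 h5

/-- two root groups commute in `PSp` exactly when the points are orthogonal -/
theorem comm_iff (p : ℕ) [Fact p.Prime] [CharP F p] (hm : 1 ≤ m) {v v' : Fin m ⊕ Fin m → F}
    (hv0 : v ≠ 0) :
    (∀ x ∈ Xb v, ∀ y ∈ Xb v', x * y = y * x) ↔ sympForm m F v v' = 0 := by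
  constructor
  · intro h
    by_contra hne
    have h1 := h _ (mem_Xb_iff.mpr ⟨1, rfl⟩) _ (mem_Xb_iff.mpr ⟨1, rfl⟩)
    have h2 : pr (T v (1 : F) * T v' 1 * (T v 1)⁻¹) = pr (T v' 1) := by
      rw [map_mul, map_mul, h1, map_inv, mul_inv_cancel_right]
    have h3 : T v (1 : F) * T v' 1 * (T v 1)⁻¹ = T v' 1 := by
      refine eq_of_pr_eq p hm h2 (m₁ := 1) (m₂ := 1) ?_ (by rw [pow_one]; exact T_pow_char p v' 1)
      rw [pow_one, conj_pow, T_pow_char p v' 1, mul_one, mul_inv_cancel]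
    rw [conj_T] at h3
    have h4 : mt (T (mt (T v (1 : F)) *ᵥ v') (1 : F)) *ᵥ v = mt (T v' (1 : F)) *ᵥ v := by rw [h3]
    rw [T_mulVec, T_mulVec, T_mulVec] at h4
    have hne' : sympForm m F v' v ≠ 0 := fun h0 => hne (B_eq_zero_of_swap h0)
    have h5 := add_left_cancel h4
    rw [sympForm_add_right, sympForm_smul_right, sympForm_self, mul_zero, add_zero, smul_add,
      smul_smul] at h5
    have h6 : (1 * sympForm m F v v' * (1 * sympForm m F v' v)) • v = 0 := by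
      have := sub_eq_zero.mpr h5
      rw [add_sub_cancel_left] at this
      exact this
    rcases smul_eq_zero.mp h6 with h7 | h7
    · rw [one_mul, one_mul] at h7
      exact absurd h7 (mul_ne_zero hne hne')
    · exact hv0 h7
  · intro h x hx y hy
    obtain ⟨s, rfl⟩ := mem_Xb_iff.mp hx
    obtain ⟨s', rfl⟩ := mem_Xb_iff.mp hy
    rw [← map_mul, ← map_mul, T_comm_of_orth h s s']

end Cfsg.Agent.Helper8.AutSp
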