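import Mathlib
import Cfsg.Agent.Helper8.AutSpi

set_option autoImplicit false
set_option linter.unusedSectionVars false

/-! Automorphisms of `PSp_{2m}(q)`: semilinear automorphisms and their action on the root groups;
`PSp` acts faithfully on the root groups (helper8). -/

namespace Cfsg.Agent.Helper8.AutSp

open Matrix Cfsg Cfsg.Agent.Helper7.Symp Cfsg.Agent.Helper8.SpRoot
open scoped Pointwise

variable {F : Type*} [Field F] {m : ℕ}

/-- the semilinear map attached to a conformal symplectic matrix and a field automorphism -/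
def sm (g : GSp m F) (σ : F ≃+* F) (v : Fin m ⊕ Fin m → F) : Fin m ⊕ Fin m → F := mg g *ᵥ sv σ v

theorem sm_add (g : GSp m F) (σ : F ≃+* F) (u v : Fin m ⊕ Fin m → F) :
    sm g σ (u + v) = sm g σ u + sm g σ v := by
  unfold sm
  rw [sv_add, mulVec_add]

theorem sm_smul (g : GSp m F) (σ : F ≃+* F) (c : F) (v : Fin m ⊕ Fin m → F) :
    sm g σ (c • v) = σ c • sm g σ v := by
  unfold sm
  rw [sv_smul, mulVec_smul]

theorem B_sm (g : GSp m F) (σ : F ≃+* F) (u v : Fin m ⊕ Fin m → F) :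
    sympForm m F (sm g σ u) (sm g σ v) = (mu g : F) * σ (sympForm m F u v) := by
  unfold sm
  rw [B_mg, B_sv]

theorem sm_surjective (g : GSp m F) (σ : F ≃+* F) : Function.Surjective (sm g σ) := by
  intro v
  refine ⟨sv σ.symm (mg g⁻¹ *ᵥ v), ?_⟩
  unfold sm
  rw [sv_sv_symm, mg_inv_mulVec]

theorem sm_injective (g : GSp m F) (σ : F ≃+* F) : Function.Injective (sm g σ) := by
  intro u v h
  unfold sm at h
  have h1 := congrArg (fun x => sv σ.symm (mg g⁻¹ *ᵥ x)) h
  beta_reduce at h1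
  rw [mg_inv_mulVec', mg_inv_mulVec', sv_symm_sv, sv_symm_sv] at h1
  exact h1

theorem sm_zero (g : GSp m F) (σ : F ≃+* F) : sm g σ 0 = 0 := by
  unfold sm
  rw [sv_zero, mulVec_zero]

theorem sm_ne_zero (g : GSp m F) (σ : F ≃+* F) {v : Fin m ⊕ Fin m → F} (hv : v ≠ 0) :
    sm g σ v ≠ 0 := by
  intro h
  apply hv
  apply sm_injective g σ
  rw [h, sm_zero]

/-- the semilinear automorphism of `Sp` -/
def sa (g : GSp m F) (σ : F ≃+* F) : MulAut (symplecticGroup (Fin m) F) := spConj g * spField σ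

theorem sa_mulVec (g : GSp m F) (σ : F ≃+* F) (s : symplecticGroup (Fin m) F)
    (v : Fin m ⊕ Fin m → F) : mt (sa g σ s) *ᵥ sm g σ v = sm g σ (mt s *ᵥ v) := semi_mulVec g σ s v

theorem sa_T (g : GSp m F) (σ : F ≃+* F) (v : Fin m ⊕ Fin m → F) (s : F) :
    sa g σ (T v s) = T (sm g σ v) ((mu g : F)⁻¹ * σ s) := by
  apply ext_mulVec
  intro x
  obtain ⟨y, rfl⟩ := sm_surjective g σ x
  rw [sa_mulVec, T_mulVec, T_mulVec, sm_add, sm_smul, B_sm, map_mul]
  congr 2
  have := mu_ne_zero g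
  field_simp

/-- the semilinear automorphism of `PSp` -/
noncomputable def psa (g : GSp m F) (σ : F ≃+* F) : MulAut (PSp m F) := pspConj g * pspField σ

theorem psa_pr (g : GSp m F) (σ : F ≃+* F) (s : symplecticGroup (Fin m) F) :
    psa g σ (pr s) = pr (sa g σ s) := rfl

theorem psa_smul_Xb (g : GSp m F) (σ : F ≃+* F) (v : Fin m ⊕ Fin m → F) :
    psa g σ • Xb v = Xb (sm g σ v) := by
  ext x
  rw [mem_Xb_iff]
  constructor
  · intro hx
    rw [Subgroup.mem_pointwise_smul_iff_inv_smul_mem, mem_Xb_iff] at hx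
    obtain ⟨s, hx⟩ := hx
    refine ⟨(mu g : F)⁻¹ * σ s, ?_⟩
    have h1 : x = psa g σ (pr (T v s)) := by
      rw [← hx]
      exact (smul_inv_smul (psa g σ) x).symm
    rw [h1, psa_pr, sa_T g σ]
  · rintro ⟨s, rfl⟩
    have h1 : s = (mu g : F)⁻¹ * σ (σ.symm ((mu g : F) * s)) := by
      rw [σ.apply_symm_apply, ← mul_assoc, inv_mul_cancel₀ (mu_ne_zero g), one_mul]
    rw [h1, ← sa_T g σ, ← psa_pr]
    exact Subgroup.smul_mem_pointwise_smul _ _ _ (mem_Xb_iff.mpr ⟨_, rfl⟩)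

theorem conj_smul_Xb (s : symplecticGroup (Fin m) F) (v : Fin m ⊕ Fin m → F) :
    MulAut.conj (pr s) • Xb v = Xb (mt s *ᵥ v) := by
  ext x
  rw [mem_Xb_iff]
  constructor
  · intro hx
    rw [Subgroup.mem_pointwise_smul_iff_inv_smul_mem, mem_Xb_iff] at hx
    obtain ⟨t, hx⟩ := hx
    refine ⟨t, ?_⟩
    have h1 : x = MulAut.conj (pr s) (pr (T v t)) := by
      rw [← hx]
      exact (smul_inv_smul (MulAut.conj (pr s)) x).symm
    rw [h1, MulAut.conj_apply, ← map_inv, ← map_mul, ← map_mul, conj_T s]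
  · rintro ⟨t, rfl⟩
    rw [← conj_T s, map_mul, map_mul, map_inv, ← MulAut.conj_apply]
    exact Subgroup.smul_mem_pointwise_smul _ _ _ (mem_Xb_iff.mpr ⟨t, rfl⟩)

/-- a matrix fixing all points is scalar -/
theorem scalar_of_fix_points {M : Matrix (Fin m ⊕ Fin m) (Fin m ⊕ Fin m) F}
    (hall : ∀ x : Fin m ⊕ Fin m → F, x ≠ 0 → ∃ d : F, M *ᵥ x = d • x) :
    ∃ c : F, ∀ v, M *ᵥ v = c • v := by
  obtain ⟨a, ha⟩ := LinearMap.exists_eq_smul_id_of_forall_notLinearIndependent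
    (f := Matrix.mulVecLin M) (by
      intro v
      by_cases hv : v = 0
      · subst hv
        intro hli
        exact hli.ne_zero 0 rfl
      obtain ⟨a, ha⟩ := hall v hv
      rw [Matrix.mulVecLin_apply, ha]
      intro hli
      have := LinearIndependent.pair_iff.mp hli a (-1) (by simp)
      simp at this)
  refine ⟨a, fun v => ?_⟩
  have := congrArg (fun f : (Fin m ⊕ Fin m → F) →ₗ[F] (Fin m ⊕ Fin m → F) => f v) ha
  simpa using this

/-- **`PSp` acts faithfully on the root groups** -/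
theorem eq_one_of_normalizes (p : ℕ) [Fact p.Prime] [CharP F p] (hm : 1 ≤ m) {x : PSp m F}
    (h : ∀ v : Fin m ⊕ Fin m → F, v ≠ 0 → MulAut.conj x • Xb v = Xb v) : x = 1 := by
  obtain ⟨g, rfl⟩ := pr_surjective x
  rw [pr_eq_one_iff]
  have hall : ∀ v : Fin m ⊕ Fin m → F, v ≠ 0 → ∃ d : F, mt g *ᵥ v = d • v := by
    intro v hv0
    have h1 := h v hv0
    rw [conj_smul_Xb g] at h1
    obtain ⟨c, _, hc⟩ := par_of_Xb_eq p hm (mulVec_ne_zero' g hv0) h1
    exact ⟨c, hc⟩
  obtain ⟨c, hc⟩ := scalar_of_fix_points hall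
  exact mem_center_of_scalar hc

end Cfsg.Agent.Helper8.AutSp
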