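import Mathlib
import Cfsg.Agent.Helper8.AutSpj

set_option autoImplicit false
set_option linter.unusedSectionVars false

/-! Automorphisms of `PSp_{2m}(q)`: in odd characteristic every automorphism permutes the root
groups (helper8). -/

namespace Cfsg.Agent.Helper8.AutSp

open Matrix Cfsg Cfsg.Agent.Helper7.Symp Cfsg.Agent.Helper8.SpRoot
open Cfsg.Agent.Helper8.AutSLn (ZZ mem_ZZ ZZ_smul)
open scoped Pointwise

variable {F : Type*} [Field F] {m : ℕ}

theorem conj_smul_RG (g : symplecticGroup (Fin m) F) (v : Fin m ⊕ Fin m → F) :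
    MulAut.conj g • RG m F v = RG m F (mt g *ᵥ v) := by
  ext x
  rw [mem_RG_iff]
  constructor
  · intro hx
    rw [Subgroup.mem_pointwise_smul_iff_inv_smul_mem, mem_RG_iff] at hx
    obtain ⟨t, hx⟩ := hx
    refine ⟨t, ?_⟩
    have h1 : x = MulAut.conj g (T v t) := by
      rw [← hx]
      exact (smul_inv_smul (MulAut.conj g) x).symm
    rw [h1, MulAut.conj_apply, conj_T g]
  · rintro ⟨t, rfl⟩
    rw [← conj_T g, ← MulAut.conj_apply]
    exact Subgroup.smul_mem_pointwise_smul _ _ _ (T_mem_RG v t)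

/-- the images of the root groups -/
def IsRootU (R : Subgroup (PSp m F)) : Prop :=
  ∃ v : Fin m ⊕ Fin m → F, v ≠ 0 ∧ R = Xb v

/-- every automorphism permutes the root groups -/
def RootPres (m : ℕ) (F : Type*) [Field F] : Prop :=
  ∀ (β : MulAut (PSp m F)) (R : Subgroup (PSp m F)), IsRootU R → IsRootU (β • R)

theorem ZZ_map_pr [Finite F] (p : ℕ) [Fact p.Prime] [CharP F p] (hm : 1 ≤ m)
    (P : Sylow p (symplecticGroup (Fin m) F))
    {v : Fin m ⊕ Fin m → F} (hZ : ZZ (P : Subgroup (symplecticGroup (Fin m) F)) = RG m F v) :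
    ZZ ((P : Subgroup (symplecticGroup (Fin m) F)).map pr) = Xb v := by
  have hpow : ∀ h ∈ (P : Subgroup (symplecticGroup (Fin m) F)), ∃ n : ℕ, h ^ (p ^ n) = 1 := by
    intro h hh
    obtain ⟨n, hn⟩ := P.isPGroup' ⟨h, hh⟩
    exact ⟨n, congrArg Subtype.val hn⟩
  ext x
  rw [mem_ZZ]
  constructor
  · rintro ⟨⟨g, hg, rfl⟩, hc⟩
    have hgZ : g ∈ ZZ (P : Subgroup (symplecticGroup (Fin m) F)) := by
      rw [mem_ZZ]
      refine ⟨hg, fun h hh => ?_⟩
      have h1 := hc (pr h) ⟨h, hh, rfl⟩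
      obtain ⟨n, hn⟩ := hpow h hh
      have h2 : pr (g * h * g⁻¹) = pr h := by
        rw [map_mul, map_mul, ← h1, map_inv, mul_inv_cancel_right]
      have h3 : g * h * g⁻¹ = h :=
        eq_of_pr_eq p hm h2 (m₁ := n) (m₂ := n) (by rw [conj_pow, hn, mul_one, mul_inv_cancel]) hn
      calc h * g = (g * h * g⁻¹) * g := by rw [h3]
        _ = g * h := by group
    rw [hZ] at hgZ
    exact Subgroup.mem_map_of_mem _ hgZ
  · rintro ⟨y, hy, rfl⟩
    have hy' : y ∈ ZZ (P : Subgroup (symplecticGroup (Fin m) F)) := by rw [hZ]; exact hy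
    rw [mem_ZZ] at hy'
    refine ⟨Subgroup.mem_map_of_mem _ hy'.1, ?_⟩
    rintro _ ⟨h, hh, rfl⟩
    rw [← map_mul, ← map_mul, hy'.2 h hh]

theorem exists_sylow_ZZ [Fintype F] (p : ℕ) [Fact p.Prime] [CharP F p] (h2 : (2 : F) ≠ 0)
    (hm : 2 ≤ m) {v : Fin m ⊕ Fin m → F} (hv0 : v ≠ 0) :
    ∃ P : Sylow p (symplecticGroup (Fin m) F),
      ZZ (P : Subgroup (symplecticGroup (Fin m) F)) = RG m F v := by
  obtain ⟨fr⟩ := exists_frame (F := F) hm
  obtain ⟨P₀, hP₀⟩ := (fr.isPGroup_Qv p).exists_le_sylow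
  obtain ⟨g, -, hg⟩ := exists_mem_mulVec_eq fr.e_ne_zero hv0
  refine ⟨MulAut.conj g • P₀, ?_⟩
  rw [Sylow.pointwise_smul_def, ZZ_smul, fr.ZZ_sylow p h2 (by omega) P₀ hP₀, conj_smul_RG, hg]

theorem isRootU_conj {R : Subgroup (PSp m F)} (hR : IsRootU R) (x : PSp m F) :
    IsRootU (MulAut.conj x • R) := by
  obtain ⟨v, hv0, rfl⟩ := hR
  obtain ⟨g, rfl⟩ := pr_surjective x
  exact ⟨_, mulVec_ne_zero' g hv0, conj_smul_Xb g v⟩

/-- in odd characteristic the centre of every Sylow `p`-subgroup of `PSp` is a root group -/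
theorem isRootU_ZZ_sylow [Fintype F] (p : ℕ) [Fact p.Prime] [CharP F p] (h2 : (2 : F) ≠ 0)
    (hm : 2 ≤ m) (S : Sylow p (PSp m F)) : IsRootU (ZZ (S : Subgroup (PSp m F))) := by
  obtain ⟨fr⟩ := exists_frame (F := F) hm
  obtain ⟨P₀, hP₀⟩ := exists_sylow_ZZ p h2 hm fr.e_ne_zero
  obtain ⟨x, hx⟩ := MulAction.exists_smul_eq (PSp m F)
    (P₀.mapSurjective pr_surjective) S
  have h1 := congrArg (fun P : Sylow p (PSp m F) => (P : Subgroup (PSp m F))) hx
  simp only [Sylow.coe_subgroup_smul, Sylow.pointwise_smul_def, Sylow.coe_mapSurjective] at h1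
  rw [← h1]
  have h3 : ZZ (MulAut.conj x • Subgroup.map pr (P₀ : Subgroup (symplecticGroup (Fin m) F))) =
      MulAut.conj x • Xb fr.e := by
    rw [ZZ_smul, ZZ_map_pr p (by omega) P₀ hP₀]
  rw [h3]
  exact isRootU_conj ⟨_, fr.e_ne_zero, rfl⟩ x

/-- **in odd characteristic every automorphism of `PSp` permutes the root groups** -/
theorem rootPres_of_odd [Fintype F] (p : ℕ) [Fact p.Prime] [CharP F p] (h2 : (2 : F) ≠ 0)
    (hm : 2 ≤ m) : RootPres m F := by
  rintro β R ⟨v, hv0, rfl⟩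
  obtain ⟨P, hP⟩ := exists_sylow_ZZ p h2 hm hv0
  have h1 := isRootU_ZZ_sylow p h2 hm (β • P.mapSurjective pr_surjective)
  rw [Sylow.pointwise_smul_def, Sylow.coe_mapSurjective, ZZ_smul,
    ZZ_map_pr p (by omega) P hP] at h1
  exact h1

end Cfsg.Agent.Helper8.AutSp
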