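import Mathlib
import Cfsg.Agent.Helper8.AutSpk

set_option autoImplicit false
set_option linter.unusedSectionVars false

/-! Automorphisms of `PSp_{2m}(q)`: normal `p`-subgroups of the point stabiliser lie in its
unipotent radical (helper8). -/

namespace Cfsg.Agent.Helper8.AutSp

open Matrix Cfsg Cfsg.Agent.Helper7.Symp Cfsg.Agent.Helper8.SpRoot

variable {F : Type*} [Field F] {m : ℕ}

namespace Frame

variable (fr : Frame m F)

theorem B_pw_right (w : fr.W) (u : Fin m ⊕ Fin m → F) :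
    sympForm m F (w : Fin m ⊕ Fin m → F) ((fr.pw u : fr.W) : Fin m ⊕ Fin m → F) =
      sympForm m F (w : Fin m ⊕ Fin m → F) u := by
  rw [sympForm_swap, fr.B_pw, ← sympForm_swap]

theorem coe_ne_zero {w : fr.W} (hw : w ≠ 0) : (w : Fin m ⊕ Fin m → F) ≠ 0 := by
  intro h
  exact hw (Subtype.ext h)

/-- two nonzero vectors of `W` have a common non-orthogonal vector in `W` -/
theorem exists_middle_W {w w' : fr.W} (hw : w ≠ 0) (hw' : w' ≠ 0) :
    ∃ r : fr.W, sympForm m F (w : Fin m ⊕ Fin m → F) (r : Fin m ⊕ Fin m → F) ≠ 0 ∧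
      sympForm m F (r : Fin m ⊕ Fin m → F) (w' : Fin m ⊕ Fin m → F) ≠ 0 := by
  obtain ⟨r, h1, h2⟩ := exists_middle (fr.coe_ne_zero hw) (fr.coe_ne_zero hw')
  refine ⟨fr.pw r, ?_, ?_⟩
  · rw [fr.B_pw_right]; exact h1
  · rw [fr.B_pw]; exact h2

theorem exists_B_W_ne_zero {w : fr.W} (hw : w ≠ 0) :
    ∃ r : fr.W, sympForm m F (w : Fin m ⊕ Fin m → F) (r : Fin m ⊕ Fin m → F) ≠ 0 := by
  by_contra h
  push Not at h
  exact hw (fr.eq_zero_of_B_W h)

/-- an `F`-subspace of `W` invariant under the Levi complement and containing a nonzero vector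
is everything -/
theorem invariant_eq_top (Wf : fr.W → Prop)
    (hadd : ∀ w w', Wf w → Wf w' → Wf (w + w')) (hsmul : ∀ (c : F) w, Wf w → Wf (c • w))
    (hinv : ∀ l ∈ fr.Lv, ∀ w, Wf w → Wf (fr.lact l w)) {w₀ : fr.W} (hw₀ : Wf w₀) (hne : w₀ ≠ 0) :
    ∀ w, Wf w := by
  have hsub : ∀ w w', Wf w → Wf w' → Wf (w - w') := by
    intro w w' h h'
    rw [sub_eq_add_neg, ← neg_one_smul F w']
    exact hadd _ _ h (hsmul _ _ h')
  have key : ∀ (v x : fr.W), Wf v →
      sympForm m F (v : Fin m ⊕ Fin m → F) (x : Fin m ⊕ Fin m → F) ≠ 0 → Wf x := by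
    intro v x hv hvx
    have h1 := hinv _ (fr.T_w_mem_Lv x 1) v hv
    rw [fr.lact_T_w, one_mul] at h1
    have h2 := hsub _ _ h1 hv
    rw [add_sub_cancel_left] at h2
    have h3 := hsmul (sympForm m F (v : Fin m ⊕ Fin m → F) (x : Fin m ⊕ Fin m → F))⁻¹ _ h2
    rw [smul_smul, inv_mul_cancel₀ hvx, one_smul] at h3
    exact h3
  intro w
  by_cases hw : w = 0
  · rw [hw]
    have := hsmul 0 _ hw₀
    rw [zero_smul] at this
    exact this
  · obtain ⟨r, h1, h2⟩ := fr.exists_middle_W hne hw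
    exact key r w (key w₀ r hw₀ h1) h2

theorem xW_ne_zero : fr.xW ≠ 0 := by
  intro h
  have h1 := fr.hxy
  have h2 : fr.x = 0 := congrArg Subtype.val h
  rw [h2, B_zero_left] at h1
  exact zero_ne_one h1

theorem char_dvd_card_W [Fintype F] (p : ℕ) [Fact p.Prime] [CharP F p] : p ∣ Nat.card fr.W := by
  classical
  haveI : Nontrivial fr.W := ⟨⟨fr.xW, 0, fr.xW_ne_zero⟩⟩
  have h0 : p ∣ Fintype.card F := by
    have h1 : (Fintype.card F : F) = 0 := Nat.cast_card_eq_zero F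
    exact (CharP.cast_eq_zero_iff F p _).mp h1
  rw [Nat.card_eq_fintype_card, Module.card_eq_pow_finrank (K := F) (V := fr.W)]
  exact dvd_pow h0 (Module.finrank_pos (R := F) (M := fr.W)).ne'

/-- a normal `p`-subgroup of the point stabiliser fixing `e` lies in the unipotent radical -/
theorem normal_pgroup_le_Qv [Fintype F] (p : ℕ) [Fact p.Prime] [CharP F p]
    (O : Subgroup (symplecticGroup (Fin m) F)) (hO : IsPGroup p O)
    (hfix : ∀ o ∈ O, mt o *ᵥ fr.e = fr.e)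
    (hnorm : ∀ g ∈ fr.Bv, ∀ o ∈ O, g⁻¹ * o * g ∈ O) : O ≤ fr.Qv := by
  have hOB : ∀ o ∈ O, o ∈ fr.Bv := fun o ho => fr.mem_Bv_of_fix (hfix o ho)
  let act : MulAction ↥O fr.W :=
    { smul := fun o w => fr.lact o.1 w
      one_smul := fun w => fr.lact_one w
      mul_smul := fun o o' w => fr.lact_mul_B (hOB _ o.2) (hOB _ o'.2) w }
  have hsm : ∀ (o : ↥O) (w : fr.W), o • w = fr.lact o.1 w := fun _ _ => rfl
  have hcard : p ∣ Nat.card fr.W := fr.char_dvd_card_W p
  have h0 : (0 : fr.W) ∈ MulAction.fixedPoints ↥O fr.W := by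
    intro o
    rw [hsm]
    exact fr.lact_zero _
  obtain ⟨w₀, hw₀, hne⟩ := hO.exists_fixed_point_of_prime_dvd_card_of_fixed_point
    fr.W hcard h0
  have hall := fr.invariant_eq_top (fun w => ∀ o ∈ O, fr.lact o w = w)
    (fun w w' h h' o ho => by rw [fr.lact_add, h o ho, h' o ho])
    (fun c w h o ho => by rw [fr.lact_smul, h o ho])
    (fun l hl w h o ho => by
      have h1 := hnorm l (fr.Lv_le_Bv hl) o ho
      have h2 : o * l = l * (l⁻¹ * o * l) := by group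
      rw [← fr.lact_mul_B (hOB o ho) (fr.Lv_le_Bv hl), h2,
        fr.lact_mul_B (fr.Lv_le_Bv hl) (hOB _ h1), h _ h1])
    (w₀ := w₀) (fun o ho => hw₀ ⟨o, ho⟩) (Ne.symm hne)
  intro o ho
  rw [fr.mem_Qv_iff]
  exact ⟨hOB o ho, fr.lt_of_fix (hfix o ho), fun w => hall w o ho⟩

end Frame

end Cfsg.Agent.Helper8.AutSp
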