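import Mathlib
import Cfsg.Agent.Helper8.AutSpl

set_option autoImplicit false
set_option linter.unusedSectionVars false

/-! Automorphisms of `PSp_{2m}(q)`: the images in `PSp` of the point stabiliser, its unipotent
radical and its Levi complement; an automorphism fixing the root group of `e` normalises the
image of the unipotent radical (helper8). -/

namespace Cfsg.Agent.Helper8.AutSp

open Matrix Cfsg Cfsg.Agent.Helper7.Symp Cfsg.Agent.Helper8.SpRoot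
open Cfsg.Agent.Helper8.AutSLn (aut_mul_conj')
open scoped Pointwise

variable {F : Type*} [Field F] {m : ℕ}

theorem smul_inv_Xb {β : MulAut (PSp m F)} {v : Fin m ⊕ Fin m → F}
    (hE : β • Xb v = Xb v) : β⁻¹ • Xb v = Xb v := by
  conv_lhs => rw [← hE]
  rw [inv_smul_smul]

theorem pow_mulVec_eigen {g : symplecticGroup (Fin m) F} {v : Fin m ⊕ Fin m → F} {t : F}
    (h : mt g *ᵥ v = t • v) (n : ℕ) : mt (g ^ n) *ᵥ v = t ^ n • v := by
  induction n with
  | zero => rw [pow_zero, pow_zero, coe_one_mulVec, one_smul]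
  | succ n ih => rw [pow_succ, coe_mul_mulVec, h, mulVec_smul, ih, smul_smul, pow_succ, mul_comm]

namespace Frame

variable (fr : Frame m F)

/-- the images in `PSp` of the point stabiliser, its unipotent radical and the Levi complement -/
def Bb : Subgroup (PSp m F) := fr.Bv.map pr

def Qb : Subgroup (PSp m F) := fr.Qv.map pr

def Lb : Subgroup (PSp m F) := fr.Lv.map pr

theorem Bv_mul_center (hm : 1 ≤ m) {g z : symplecticGroup (Fin m) F} (hg : g ∈ fr.Bv)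
    (hz : z ∈ Subgroup.center (symplecticGroup (Fin m) F)) : g * z ∈ fr.Bv := by
  obtain ⟨ζ, -, hζ⟩ := center_mulVec hm hz
  obtain ⟨t, ht⟩ := hg
  exact ⟨ζ * t, by rw [coe_mul_mulVec, hζ, mulVec_smul, ht, smul_smul]⟩

theorem Lv_mul_center (hm : 1 ≤ m) {g z : symplecticGroup (Fin m) F} (hg : g ∈ fr.Lv)
    (hz : z ∈ Subgroup.center (symplecticGroup (Fin m) F)) : g * z ∈ fr.Lv := by
  obtain ⟨ζ, -, hζ⟩ := center_mulVec hm hz
  obtain ⟨⟨t, ht⟩, ⟨s, hs⟩⟩ := hg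
  exact ⟨⟨ζ * t, by rw [coe_mul_mulVec, hζ, mulVec_smul, ht, smul_smul]⟩,
    ⟨ζ * s, by rw [coe_mul_mulVec, hζ, mulVec_smul, hs, smul_smul]⟩⟩

theorem mem_Bb_iff (hm : 1 ≤ m) {g : symplecticGroup (Fin m) F} : pr g ∈ fr.Bb ↔ g ∈ fr.Bv := by
  constructor
  · rintro ⟨g', hg', h⟩
    have h1 := pr_eq_iff.mp h
    have h2 := fr.Bv_mul_center hm hg' h1
    rw [mul_inv_cancel_left] at h2
    exact h2
  · intro h
    exact ⟨g, h, rfl⟩

theorem mem_Lb_iff (hm : 1 ≤ m) {g : symplecticGroup (Fin m) F} : pr g ∈ fr.Lb ↔ g ∈ fr.Lv := by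
  constructor
  · rintro ⟨g', hg', h⟩
    have h1 := pr_eq_iff.mp h
    have h2 := fr.Lv_mul_center hm hg' h1
    rw [mul_inv_cancel_left] at h2
    exact h2
  · intro h
    exact ⟨g, h, rfl⟩

/-- the normaliser of the root group of `e` -/
theorem normalizer_Xb_e (p : ℕ) [Fact p.Prime] [CharP F p] (hm : 1 ≤ m) (x : PSp m F) :
    MulAut.conj x • Xb fr.e = Xb fr.e ↔ x ∈ fr.Bb := by
  obtain ⟨g, rfl⟩ := pr_surjective x
  rw [conj_smul_Xb g, fr.mem_Bb_iff hm]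
  constructor
  · intro h
    obtain ⟨c, _, hc⟩ := par_of_Xb_eq p hm (mulVec_ne_zero' g fr.e_ne_zero) h
    exact ⟨c, hc⟩
  · intro h
    rw [fr.lt_spec h, Xb_smul _ (fr.lt_ne_zero h)]

theorem normalizer_Xb_f (p : ℕ) [Fact p.Prime] [CharP F p] (hm : 1 ≤ m)
    (g : symplecticGroup (Fin m) F) :
    MulAut.conj (pr g) • Xb fr.f = Xb fr.f ↔ ∃ t : F, mt g *ᵥ fr.f = t • fr.f := by
  rw [conj_smul_Xb g]
  constructor
  · intro h
    obtain ⟨c, _, hc⟩ := par_of_Xb_eq p hm (mulVec_ne_zero' g fr.f_ne_zero) h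
    exact ⟨c, hc⟩
  · rintro ⟨t, ht⟩
    have ht0 : t ≠ 0 := by
      rintro rfl
      rw [zero_smul] at ht
      exact mulVec_ne_zero' g fr.f_ne_zero ht
    rw [ht, Xb_smul _ ht0]

theorem mem_Lb_iff_normalizes (p : ℕ) [Fact p.Prime] [CharP F p] (hm : 1 ≤ m) (x : PSp m F) :
    x ∈ fr.Lb ↔ (MulAut.conj x • Xb fr.e = Xb fr.e ∧ MulAut.conj x • Xb fr.f = Xb fr.f) := by
  obtain ⟨g, rfl⟩ := pr_surjective x
  rw [fr.mem_Lb_iff hm, fr.normalizer_Xb_e p hm, fr.mem_Bb_iff hm, fr.normalizer_Xb_f p hm]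
  rfl

theorem isPGroup_Qb (p : ℕ) [Fact p.Prime] [CharP F p] : IsPGroup p fr.Qb :=
  (fr.isPGroup_Qv p).map pr

theorem Qb_le_Bb : fr.Qb ≤ fr.Bb := Subgroup.map_mono fr.Qv_le_Bv

theorem conj_mem_Qb {b x : PSp m F} (hb : b ∈ fr.Bb) (hx : x ∈ fr.Qb) : b * x * b⁻¹ ∈ fr.Qb := by
  obtain ⟨g, hg, rfl⟩ := hb
  obtain ⟨u, hu, rfl⟩ := hx
  rw [← map_inv, ← map_mul, ← map_mul]
  exact ⟨_, fr.conj_mem_Qv hg hu, rfl⟩

/-- an automorphism fixing the root group of `e` normalises its normaliser -/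
theorem map_Bb (p : ℕ) [Fact p.Prime] [CharP F p] (hm : 1 ≤ m) {β : MulAut (PSp m F)}
    (hE : β • Xb fr.e = Xb fr.e) {x : PSp m F} (hx : x ∈ fr.Bb) : β x ∈ fr.Bb := by
  rw [← fr.normalizer_Xb_e p hm] at hx ⊢
  have h3 : MulAut.conj (β x) = β * MulAut.conj x * β⁻¹ := by
    rw [aut_mul_conj', mul_assoc, mul_inv_cancel, mul_one]
  rw [h3, mul_smul, mul_smul, smul_inv_Xb hE, hx, hE]

/-- a `p`-subgroup of the image of the point stabiliser normalised by it lies in the image of the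
unipotent radical -/
theorem normal_pgroup_le_Qb [Fintype F] (p : ℕ) [Fact p.Prime] [CharP F p] (hm : 1 ≤ m)
    (O' : Subgroup (PSp m F)) (hO' : IsPGroup p O') (hle : O' ≤ fr.Bb)
    (hnorm : ∀ b ∈ fr.Bb, ∀ o ∈ O', b⁻¹ * o * b ∈ O') : O' ≤ fr.Qb := by
  let O : Subgroup (symplecticGroup (Fin m) F) :=
    { carrier := {g | pr g ∈ O' ∧ mt g *ᵥ fr.e = fr.e}
      mul_mem' := by
        rintro a b ⟨ha1, ha2⟩ ⟨hb1, hb2⟩
        exact ⟨by rw [map_mul]; exact O'.mul_mem ha1 hb1, by rw [coe_mul_mulVec, hb2, ha2]⟩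
      one_mem' := ⟨by rw [map_one]; exact O'.one_mem, coe_one_mulVec _⟩
      inv_mem' := by
        rintro a ⟨ha1, ha2⟩
        refine ⟨by rw [map_inv]; exact O'.inv_mem ha1, ?_⟩
        conv_lhs => rw [← ha2]
        exact coe_inv_mulVec' a fr.e }
  have hOmem : ∀ g, g ∈ O ↔ pr g ∈ O' ∧ mt g *ᵥ fr.e = fr.e := fun g => Iff.rfl
  have hOp : IsPGroup p O := by
    rintro ⟨g, hg⟩
    obtain ⟨h1, h2⟩ := (hOmem g).mp hg
    obtain ⟨k, hk⟩ := hO' ⟨pr g, h1⟩
    refine ⟨k, ?_⟩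
    apply Subtype.ext
    rw [Subgroup.coe_pow, Subgroup.coe_one]
    show g ^ p ^ k = 1
    have h3 : pr (g ^ p ^ k) = 1 := by
      rw [map_pow]
      exact congrArg Subtype.val hk
    obtain ⟨ζ, -, hζ⟩ := center_mulVec hm (pr_eq_one_iff.mp h3)
    have h4 := pow_mulVec_eigen (g := g) (v := fr.e) (t := (1 : F)) (by rw [h2, one_smul]) (p ^ k)
    rw [hζ, one_pow, one_smul] at h4
    have h5 : ζ = 1 := by
      have h6 : (ζ - 1) • fr.e = 0 := by rw [sub_smul, h4, one_smul, sub_self]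
      rcases smul_eq_zero.mp h6 with h7 | h7
      · exact sub_eq_zero.mp h7
      · exact absurd h7 fr.e_ne_zero
    apply ext_mulVec
    intro v
    rw [hζ, h5, one_smul, coe_one_mulVec]
  have hOQ : O ≤ fr.Qv := by
    apply fr.normal_pgroup_le_Qv p O hOp (fun o ho => ((hOmem o).mp ho).2)
    intro b hb o ho
    obtain ⟨h1, h2⟩ := (hOmem o).mp ho
    refine (hOmem _).mpr ⟨?_, ?_⟩
    · rw [map_mul, map_mul, map_inv]
      exact hnorm _ ⟨b, hb, rfl⟩ _ h1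
    · have hb' := fr.lt_spec hb
      rw [coe_mul_mulVec, coe_mul_mulVec, hb', mulVec_smul, h2, mulVec_smul]
      have h3 : mt b⁻¹ *ᵥ fr.e = (fr.lt b)⁻¹ • fr.e := by
        have := congrArg (fun v => (fr.lt b)⁻¹ • (mt b⁻¹ *ᵥ v)) hb'
        beta_reduce at this
        rw [coe_inv_mulVec', mulVec_smul, smul_smul, inv_mul_cancel₀ (fr.lt_ne_zero hb),
          one_smul] at this
        exact this.symm
      rw [h3, smul_smul, mul_inv_cancel₀ (fr.lt_ne_zero hb), one_smul]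
  intro x hx
  obtain ⟨g, rfl⟩ := pr_surjective x
  have hgB := (fr.mem_Bb_iff hm).mp (hle hx)
  have hge := fr.lt_spec hgB
  obtain ⟨k, hk⟩ := hO' ⟨pr g, hx⟩
  have h3 : pr (g ^ p ^ k) = 1 := by
    rw [map_pow]
    exact congrArg Subtype.val hk
  obtain ⟨ζ, hζ2, hζ⟩ := center_mulVec hm (pr_eq_one_iff.mp h3)
  have h4 := pow_mulVec_eigen hge (p ^ k)
  rw [hζ] at h4
  have h5 : fr.lt g ^ p ^ k = ζ := by
    have h6 : (ζ - fr.lt g ^ p ^ k) • fr.e = 0 := by rw [sub_smul, h4, sub_self]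
    rcases smul_eq_zero.mp h6 with h7 | h7
    · exact (sub_eq_zero.mp h7).symm
    · exact absurd h7 fr.e_ne_zero
  have h6 : fr.lt g * fr.lt g = 1 := by
    apply eq_one_of_pow_char_pow p (n := k)
    rw [mul_pow, h5, hζ2]
  rcases mul_self_eq_one_iff.mp h6 with h7 | h7
  · have : g ∈ O := (hOmem g).mpr ⟨hx, by rw [hge, h7, one_smul]⟩
    exact ⟨g, hOQ this, rfl⟩
  · have hz := Cfsg.Agent.S0246.negOne_mem_center m F
    have hpr : pr (g * Cfsg.Agent.S0246.negOne m F) = pr g := by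
      rw [map_mul, pr_eq_one_iff.mpr hz, mul_one]
    have : g * Cfsg.Agent.S0246.negOne m F ∈ O := by
      refine (hOmem _).mpr ⟨by rw [hpr]; exact hx, ?_⟩
      rw [coe_mul_mulVec]
      have h8 : mt (Cfsg.Agent.S0246.negOne m F) *ᵥ fr.e = -fr.e := by
        show (-1 : Matrix (Fin m ⊕ Fin m) (Fin m ⊕ Fin m) F) *ᵥ fr.e = _
        rw [neg_mulVec, one_mulVec]
      rw [h8, mulVec_neg, hge, h7, neg_smul, one_smul, neg_neg]
    rw [← hpr]
    exact ⟨_, hOQ this, rfl⟩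

/-- an automorphism fixing the root group of `e` maps the image of the unipotent radical into
itself -/
theorem map_Qb_le [Fintype F] (p : ℕ) [Fact p.Prime] [CharP F p] (hm : 1 ≤ m)
    (β : MulAut (PSp m F)) (hβ : β • Xb fr.e = Xb fr.e)
    {x : PSp m F} (hx : x ∈ fr.Qb) : β x ∈ fr.Qb := by
  have hβ' := smul_inv_Xb hβ
  have h1 : fr.Qb.map β.toMonoidHom ≤ fr.Qb := by
    apply fr.normal_pgroup_le_Qb p hm _ ((fr.isPGroup_Qb p).map _)
    · rintro _ ⟨y, hy, rfl⟩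
      exact fr.map_Bb p hm hβ (fr.Qb_le_Bb hy)
    · rintro b hb _ ⟨y, hy, rfl⟩
      have hc : β⁻¹ b⁻¹ ∈ fr.Bb := fr.map_Bb p hm hβ' (fr.Bb.inv_mem hb)
      have hc2 : β (β⁻¹ b⁻¹) = b⁻¹ := β.apply_symm_apply _
      generalize β⁻¹ b⁻¹ = c at hc hc2
      refine ⟨c * y * c⁻¹, fr.conj_mem_Qb hc hy, ?_⟩
      show β (c * y * c⁻¹) = b⁻¹ * β y * b
      rw [map_mul, map_mul, map_inv, hc2, inv_inv]
  exact h1 ⟨x, hx, rfl⟩

/-- an automorphism fixing the root group of `e` fixes the image of the unipotent radical -/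
theorem smul_Qb [Fintype F] (p : ℕ) [Fact p.Prime] [CharP F p] (hm : 1 ≤ m)
    (β : MulAut (PSp m F)) (hβ : β • Xb fr.e = Xb fr.e) : β • fr.Qb = fr.Qb := by
  have hβ' := smul_inv_Xb hβ
  apply le_antisymm
  · intro x hx
    rw [Subgroup.mem_pointwise_smul_iff_inv_smul_mem] at hx
    have := fr.map_Qb_le p hm β hβ hx
    rw [← MulAut.smul_def, smul_inv_smul] at this
    exact this
  · intro x hx
    rw [Subgroup.mem_pointwise_smul_iff_inv_smul_mem]
    exact fr.map_Qb_le p hm β⁻¹ hβ' hx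

end Frame

end Cfsg.Agent.Helper8.AutSp
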