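import Mathlib
import Cfsg.Agent.Helper8.AutSpm

set_option autoImplicit false
set_option linter.unusedSectionVars false

/-! Automorphisms of `PSp_{2m}(q)`: the map induced by an automorphism on the unipotent radical
modulo its centre, as a relation (helper8). -/

namespace Cfsg.Agent.Helper8.AutSp

open Matrix Cfsg Cfsg.Agent.Helper7.Symp Cfsg.Agent.Helper8.SpRoot
open scoped Pointwise

variable {F : Type*} [Field F] {m : ℕ}

namespace Frame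

variable (fr : Frame m F)

theorem pr_sg_inj (p : ℕ) [Fact p.Prime] [CharP F p] (hm : 1 ≤ m) {w w' : fr.W} {a a' : F}
    (h : pr (fr.sg w a) = pr (fr.sg w' a')) : w = w' ∧ a = a' := by
  have h1 := eq_of_pr_eq p hm h (m₁ := 1) (m₂ := 1) (by rw [pow_one]; exact fr.sg_pow_char p w a)
    (by rw [pow_one]; exact fr.sg_pow_char p w' a')
  exact fr.sg_injective h1

theorem mem_Qb_iff {x : PSp m F} : x ∈ fr.Qb ↔ ∃ (w : fr.W) (a : F), x = pr (fr.sg w a) := by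
  constructor
  · rintro ⟨_, ⟨w, a, rfl⟩, rfl⟩
    exact ⟨w, a, rfl⟩
  · rintro ⟨w, a, rfl⟩
    exact ⟨_, fr.sg_mem_Qv w a, rfl⟩

/-- the relation induced by an automorphism on the parameters `w` -/
def Rel (β : MulAut (PSp m F)) (w w' : fr.W) : Prop :=
  ∃ a a', β (pr (fr.sg w a)) = pr (fr.sg w' a')

variable {fr}

theorem apply_T {β : MulAut (PSp m F)} (hE : β • Xb fr.e = Xb fr.e) (s : F) :
    ∃ s' : F, β (pr (T fr.e s)) = pr (T fr.e s') := by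
  have h1 : β (pr (T fr.e s)) ∈ Xb fr.e := by
    rw [← hE]
    exact Subgroup.smul_mem_pointwise_smul _ _ _ (mem_Xb_iff.mpr ⟨s, rfl⟩)
  exact mem_Xb_iff.mp h1

theorem Rel_total {β : MulAut (PSp m F)} (hQ : ∀ x ∈ fr.Qb, β x ∈ fr.Qb)
    (w : fr.W) : ∃ w', fr.Rel β w w' := by
  obtain ⟨w', a', h⟩ := fr.mem_Qb_iff.mp (hQ _ (fr.mem_Qb_iff.mpr ⟨w, 0, rfl⟩))
  exact ⟨w', 0, a', h⟩

theorem Rel_spec {β : MulAut (PSp m F)} (hE : β • Xb fr.e = Xb fr.e)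
    {w w' : fr.W} (h : fr.Rel β w w') (a : F) :
    ∃ a', β (pr (fr.sg w a)) = pr (fr.sg w' a') := by
  obtain ⟨a₀, a₀', he⟩ := h
  obtain ⟨s', h1⟩ := apply_T hE (a₀ - a)
  refine ⟨a₀' - s', ?_⟩
  have h2 : fr.sg w a = fr.sg w a₀ * T fr.e (a₀ - a) := by
    rw [fr.sg_mul_T]
    congr 1
    ring
  rw [h2, map_mul, map_mul, he, h1, ← map_mul, fr.sg_mul_T]

theorem Rel_unique (p : ℕ) [Fact p.Prime] [CharP F p] (hm : 1 ≤ m) {β : MulAut (PSp m F)}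
    (hE : β • Xb fr.e = Xb fr.e) {w w₁ w₂ : fr.W} (h₁ : fr.Rel β w w₁)
    (h₂ : fr.Rel β w w₂) : w₁ = w₂ := by
  obtain ⟨a, a₂, he⟩ := h₂
  obtain ⟨a₁, he'⟩ := Rel_spec hE h₁ a
  exact (fr.pr_sg_inj p hm (he'.symm.trans he)).1

theorem Rel_add {β : MulAut (PSp m F)} {w₁ w₁' w₂ w₂' : fr.W}
    (h₁ : fr.Rel β w₁ w₁') (h₂ : fr.Rel β w₂ w₂') : fr.Rel β (w₁ + w₂) (w₁' + w₂') := by
  obtain ⟨a₁, a₁', he₁⟩ := h₁
  obtain ⟨a₂, a₂', he₂⟩ := h₂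
  refine ⟨a₁ + a₂ + sympForm m F (w₁ : Fin m ⊕ Fin m → F) (w₂ : Fin m ⊕ Fin m → F),
    a₁' + a₂' + sympForm m F (w₁' : Fin m ⊕ Fin m → F) (w₂' : Fin m ⊕ Fin m → F), ?_⟩
  rw [← fr.sg_mul, ← fr.sg_mul, map_mul, map_mul, he₁, he₂, map_mul]

theorem Rel_inv {β : MulAut (PSp m F)} {w w' : fr.W} (h : fr.Rel β w w') :
    fr.Rel β⁻¹ w' w := by
  obtain ⟨a, a', he⟩ := h
  refine ⟨a', a, ?_⟩
  rw [← he]
  exact β.symm_apply_apply _

theorem Rel_conj {β : MulAut (PSp m F)} {l l' : symplecticGroup (Fin m) F} (hl : l ∈ fr.Lv)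
    (hl' : l' ∈ fr.Lv) (hll : β (pr l) = pr l') {w w' : fr.W} (h : fr.Rel β w w') :
    fr.Rel β (fr.lt l • fr.lact l w) (fr.lt l' • fr.lact l' w') := by
  obtain ⟨a, a', he⟩ := h
  refine ⟨fr.lt l ^ 2 * a, fr.lt l' ^ 2 * a', ?_⟩
  rw [← fr.conj_sg hl, ← fr.conj_sg hl', map_mul, map_mul, map_inv, map_mul, map_mul,
    map_inv, he, hll, map_mul, map_mul, map_inv]

end Frame

end Cfsg.Agent.Helper8.AutSp
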