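import Mathlib
import Cfsg.Agent.Helper8.AutSpn

set_option autoImplicit false
set_option linter.unusedSectionVars false

/-! Automorphisms of `PSp_{2m}(q)`: additive maps of `W` commuting with the Levi complement are
scalars (helper8). -/

namespace Cfsg.Agent.Helper8.AutSp

open Matrix Cfsg Cfsg.Agent.Helper7.Symp Cfsg.Agent.Helper8.SpRoot

variable {F : Type*} [Field F] {m : ℕ}

namespace Frame

variable (fr : Frame m F)

theorem exists_B_W_eq_one {x : fr.W} (hx : x ≠ 0) :
    ∃ w : fr.W, sympForm m F (w : Fin m ⊕ Fin m → F) (x : Fin m ⊕ Fin m → F) = 1 := by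
  obtain ⟨r, hr⟩ := fr.exists_B_W_ne_zero hx
  have hr' : sympForm m F (r : Fin m ⊕ Fin m → F) (x : Fin m ⊕ Fin m → F) ≠ 0 := by
    rw [sympForm_swap]
    exact neg_ne_zero.mpr hr
  refine ⟨(sympForm m F (r : Fin m ⊕ Fin m → F) (x : Fin m ⊕ Fin m → F))⁻¹ • r, ?_⟩
  rw [Submodule.coe_smul, sympForm_smul_left, inv_mul_cancel₀ hr']

/-- the commutant of the Levi complement on `W` -/
theorem commutant (A : fr.W → fr.W) (hadd : ∀ w w', A (w + w') = A w + A w')
    (hsc : ∀ t : F, t ≠ 0 → ∀ w, A (t • w) = t • A w)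
    (hT : ∀ (x : fr.W) (c : F) (w : fr.W),
      A (w + (c * sympForm m F (w : Fin m ⊕ Fin m → F) (x : Fin m ⊕ Fin m → F)) • x) =
        A w + (c * sympForm m F ((A w : fr.W) : Fin m ⊕ Fin m → F) (x : Fin m ⊕ Fin m → F)) • x) :
    ∃ α : F, ∀ w, A w = α • w := by
  classical
  have hA0 : A 0 = 0 := by
    have := hadd 0 0
    rw [add_zero] at this
    exact left_eq_add.mp this
  have hlin : ∀ (t : F) w, A (t • w) = t • A w := by
    intro t w
    by_cases ht : t = 0
    · rw [ht, zero_smul, zero_smul, hA0]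
    · exact hsc t ht w
  have key : ∀ x w : fr.W,
      sympForm m F (w : Fin m ⊕ Fin m → F) (x : Fin m ⊕ Fin m → F) • A x =
        sympForm m F ((A w : fr.W) : Fin m ⊕ Fin m → F) (x : Fin m ⊕ Fin m → F) • x := by
    intro x w
    have h := hT x 1 w
    rw [one_mul, one_mul, hadd, hlin] at h
    exact add_left_cancel h
  have hex : ∀ x : fr.W, ∃ α : F, A x = α • x := by
    intro x
    by_cases hx : x = 0
    · exact ⟨0, by rw [hx, hA0, zero_smul]⟩
    · obtain ⟨w, hw⟩ := fr.exists_B_W_eq_one hx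
      have := key x w
      rw [hw, one_smul] at this
      exact ⟨_, this⟩
  choose α hα using hex
  have heq : ∀ x w : fr.W, x ≠ 0 → w ≠ 0 →
      sympForm m F (x : Fin m ⊕ Fin m → F) (w : Fin m ⊕ Fin m → F) ≠ 0 → α x = α w := by
    intro x w _ hw hxw
    have h := key w x
    rw [hα w, hα x, Submodule.coe_smul, sympForm_smul_left, smul_smul, mul_comm] at h
    have h2 : (sympForm m F (x : Fin m ⊕ Fin m → F) (w : Fin m ⊕ Fin m → F) * (α w - α x)) • w
        = 0 := by
      linear_combination (norm := module) h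
    rcases smul_eq_zero.mp h2 with h3 | h3
    · rcases mul_eq_zero.mp h3 with h4 | h4
      · exact absurd h4 hxw
      · exact (sub_eq_zero.mp h4).symm
    · exact absurd h3 hw
  refine ⟨α fr.xW, fun w => ?_⟩
  by_cases hw : w = 0
  · rw [hw, hA0, smul_zero]
  · obtain ⟨r, h1, h2⟩ := fr.exists_middle_W fr.xW_ne_zero hw
    have hr : r ≠ 0 := by
      rintro rfl
      rw [Submodule.coe_zero, B_zero_right] at h1
      exact h1 rfl
    rw [hα w, heq fr.xW r fr.xW_ne_zero hr h1, heq r w hr hw h2]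

end Frame

end Cfsg.Agent.Helper8.AutSp
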