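import Mathlib
import Cfsg.Agent.Helper8.AutSpo

set_option autoImplicit false
set_option linter.unusedSectionVars false

/-! Automorphisms of `PSp_{2m}(q)`: the map induced on the unipotent radical modulo its centre is
semilinear (helper8). -/

namespace Cfsg.Agent.Helper8.AutSp

open Matrix Cfsg Cfsg.Agent.Helper7.Symp Cfsg.Agent.Helper8.SpRoot
open Cfsg.Agent.Helper8.AutSLn (aut_mul_conj')
open scoped Pointwise

variable {F : Type*} [Field F] {m : ℕ}

namespace Frame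

variable (fr : Frame m F)

/-- the map induced by an automorphism on the parameters `w` -/
noncomputable def phi (β : MulAut (PSp m F)) (w : fr.W) : fr.W :=
  haveI := Classical.propDecidable (∃ w', fr.Rel β w w')
  if h : ∃ w', fr.Rel β w w' then Classical.choose h else 0

variable {fr}

theorem phi_spec {β : MulAut (PSp m F)} (hQ : ∀ x ∈ fr.Qb, β x ∈ fr.Qb) (w : fr.W) :
    fr.Rel β w (fr.phi β w) := by
  unfold phi
  rw [dif_pos (Rel_total hQ w)]
  exact Classical.choose_spec (Rel_total hQ w)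

theorem phi_eq (p : ℕ) [Fact p.Prime] [CharP F p] (hm : 1 ≤ m) {β : MulAut (PSp m F)}
    (hE : β • Xb fr.e = Xb fr.e) (hQ : ∀ x ∈ fr.Qb, β x ∈ fr.Qb) {w w' : fr.W}
    (h : fr.Rel β w w') : fr.phi β w = w' :=
  Rel_unique p hm hE (phi_spec hQ w) h

theorem phi_add (p : ℕ) [Fact p.Prime] [CharP F p] (hm : 1 ≤ m) {β : MulAut (PSp m F)}
    (hE : β • Xb fr.e = Xb fr.e) (hQ : ∀ x ∈ fr.Qb, β x ∈ fr.Qb) (w w' : fr.W) :
    fr.phi β (w + w') = fr.phi β w + fr.phi β w' :=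
  phi_eq p hm hE hQ (Rel_add (phi_spec hQ w) (phi_spec hQ w'))

theorem phi_inv_phi (p : ℕ) [Fact p.Prime] [CharP F p] (hm : 1 ≤ m) {β : MulAut (PSp m F)}
    (hE : β • Xb fr.e = Xb fr.e) (hQ : ∀ x ∈ fr.Qb, β x ∈ fr.Qb)
    (hQ' : ∀ x ∈ fr.Qb, β⁻¹ x ∈ fr.Qb) (w : fr.W) : fr.phi β⁻¹ (fr.phi β w) = w :=
  phi_eq p hm (smul_inv_Xb hE) hQ' (Rel_inv (phi_spec hQ w))

theorem phi_phi_inv (p : ℕ) [Fact p.Prime] [CharP F p] (hm : 1 ≤ m) {β : MulAut (PSp m F)}
    (hE : β • Xb fr.e = Xb fr.e) (hQ : ∀ x ∈ fr.Qb, β x ∈ fr.Qb)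
    (hQ' : ∀ x ∈ fr.Qb, β⁻¹ x ∈ fr.Qb) (w : fr.W) : fr.phi β (fr.phi β⁻¹ w) = w := by
  have h := Rel_inv (phi_spec hQ' w)
  rw [inv_inv] at h
  exact phi_eq p hm hE hQ h

/-- an automorphism fixing the root groups of `e` and `f` normalises the image of the Levi
complement -/
theorem map_Lb (p : ℕ) [Fact p.Prime] [CharP F p] (hm : 1 ≤ m) {β : MulAut (PSp m F)}
    (hE : β • Xb fr.e = Xb fr.e) (hEf : β • Xb fr.f = Xb fr.f)
    {x : PSp m F} (hx : x ∈ fr.Lb) : β x ∈ fr.Lb := by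
  rw [fr.mem_Lb_iff_normalizes p hm] at hx ⊢
  have key : ∀ v : Fin m ⊕ Fin m → F, β • Xb v = Xb v →
      MulAut.conj x • Xb v = Xb v → MulAut.conj (β x) • Xb v = Xb v := by
    intro v h1 h2
    have h3 : MulAut.conj (β x) = β * MulAut.conj x * β⁻¹ := by
      rw [aut_mul_conj', mul_assoc, mul_inv_cancel, mul_one]
    rw [h3, mul_smul, mul_smul, smul_inv_Xb h1, h2, h1]
  exact ⟨key _ hE hx.1, key _ hEf hx.2⟩

theorem exists_Lv_lift (p : ℕ) [Fact p.Prime] [CharP F p] (hm : 1 ≤ m) {β : MulAut (PSp m F)}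
    (hE : β • Xb fr.e = Xb fr.e) (hEf : β • Xb fr.f = Xb fr.f)
    {l' : symplecticGroup (Fin m) F} (hl' : l' ∈ fr.Lv) : ∃ l ∈ fr.Lv, β (pr l) = pr l' := by
  have h1 : β⁻¹ (pr l') ∈ fr.Lb :=
    map_Lb p hm (smul_inv_Xb hE) (smul_inv_Xb hEf) ((fr.mem_Lb_iff hm).mpr hl')
  obtain ⟨l, hl, h2⟩ := h1
  refine ⟨l, hl, ?_⟩
  rw [h2]
  exact β.apply_symm_apply _

theorem exists_Lv_image (p : ℕ) [Fact p.Prime] [CharP F p] (hm : 1 ≤ m) {β : MulAut (PSp m F)}
    (hE : β • Xb fr.e = Xb fr.e) (hEf : β • Xb fr.f = Xb fr.f)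
    {l : symplecticGroup (Fin m) F} (hl : l ∈ fr.Lv) : ∃ l' ∈ fr.Lv, β (pr l) = pr l' := by
  obtain ⟨l', hl', h⟩ := map_Lb p hm hE hEf ((fr.mem_Lb_iff hm).mpr hl)
  exact ⟨l', hl', h.symm⟩

variable (fr) in
/-- the twisted action of the Levi complement -/
def Lam (l : symplecticGroup (Fin m) F) (w : fr.W) : fr.W := fr.lt l • fr.lact l w

theorem Lam_smul (l : symplecticGroup (Fin m) F) (c : F) (w : fr.W) :
    fr.Lam l (c • w) = c • fr.Lam l w := by
  unfold Lam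
  rw [fr.lact_smul, smul_comm]

theorem phi_Lam (p : ℕ) [Fact p.Prime] [CharP F p] (hm : 1 ≤ m) {β : MulAut (PSp m F)}
    (hE : β • Xb fr.e = Xb fr.e) (hQ : ∀ x ∈ fr.Qb, β x ∈ fr.Qb)
    {l l' : symplecticGroup (Fin m) F} (hl : l ∈ fr.Lv) (hl' : l' ∈ fr.Lv) (hll : β (pr l) = pr l')
    (w : fr.W) : fr.phi β (fr.Lam l w) = fr.Lam l' (fr.phi β w) :=
  phi_eq p hm hE hQ (Rel_conj hl hl' hll (phi_spec hQ w))

variable (fr) in
/-- the automorphism fixes the root groups of `e` and `f` -/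
structure Fixes (β : MulAut (PSp m F)) : Prop where
  hE : β • Xb fr.e = Xb fr.e
  hEf : β • Xb fr.f = Xb fr.f

theorem Fixes.inv {β : MulAut (PSp m F)} (h : fr.Fixes β) : fr.Fixes β⁻¹ :=
  ⟨smul_inv_Xb h.hE, smul_inv_Xb h.hEf⟩

theorem Fixes.mul {β β' : MulAut (PSp m F)} (h : fr.Fixes β) (h' : fr.Fixes β') :
    fr.Fixes (β * β') :=
  ⟨by rw [mul_smul, h'.hE, h.hE], by rw [mul_smul, h'.hEf, h.hEf]⟩

theorem Fixes.hQ [Fintype F] (p : ℕ) [Fact p.Prime] [CharP F p] (hm : 1 ≤ m)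
    {β : MulAut (PSp m F)} (h : fr.Fixes β) : ∀ x ∈ fr.Qb, β x ∈ fr.Qb :=
  fun _ hx => fr.map_Qb_le p hm β h.hE hx

theorem phi_zero [Fintype F] (p : ℕ) [Fact p.Prime] [CharP F p] (hm : 1 ≤ m)
    {β : MulAut (PSp m F)} (hβ : fr.Fixes β) : fr.phi β 0 = 0 := by
  have := phi_add p hm hβ.hE (hβ.hQ p hm) 0 0
  rw [add_zero] at this
  exact left_eq_add.mp this

/-- the induced map is semilinear -/
theorem exists_sigma [Fintype F] (p : ℕ) [Fact p.Prime] [CharP F p] (hm : 1 ≤ m)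
    {β : MulAut (PSp m F)} (hβ : fr.Fixes β) :
    ∃ σ : F ≃+* F, ∀ (c : F) (w : fr.W), fr.phi β (c • w) = σ c • fr.phi β w := by
  classical
  have hQ := hβ.hQ p hm
  have hQ' := hβ.inv.hQ p hm
  have hφψ := phi_phi_inv p hm hβ.hE hQ hQ'
  have hψφ := phi_inv_phi p hm hβ.hE hQ hQ'
  have hφadd := phi_add p hm hβ.hE hQ
  have hψadd := phi_add p hm hβ.inv.hE hQ'
  have hcomm : ∀ c : F, ∃ α : F, ∀ w, fr.phi β (c • fr.phi β⁻¹ w) = α • w := by
    intro c
    have key : ∀ l' ∈ fr.Lv, ∀ w, fr.phi β (c • fr.phi β⁻¹ (fr.Lam l' w)) =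
        fr.Lam l' (fr.phi β (c • fr.phi β⁻¹ w)) := by
      intro l' hl' w
      obtain ⟨l, hl, hll⟩ := exists_Lv_lift p hm hβ.hE hβ.hEf hl'
      have h1 : fr.phi β⁻¹ (fr.Lam l' w) = fr.Lam l (fr.phi β⁻¹ w) := by
        have h2 := phi_Lam p hm hβ.hE hQ hl hl' hll (fr.phi β⁻¹ w)
        rw [hφψ] at h2
        rw [← h2, hψφ]
      rw [h1, ← Lam_smul, phi_Lam p hm hβ.hE hQ hl hl' hll]
    apply fr.commutant (fun w => fr.phi β (c • fr.phi β⁻¹ w))
    · intro w w'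
      beta_reduce
      rw [hψadd, smul_add, hφadd]
    · intro t ht w
      have h1 := key _ (fr.dg_mem_Lv ht) w
      unfold Lam at h1
      rw [fr.lt_dg, fr.lact_dg, fr.lact_dg] at h1
      exact h1
    · intro x s w
      have h1 := key _ (fr.T_w_mem_Lv x s) w
      unfold Lam at h1
      rw [fr.lt_T_w, one_smul, one_smul, fr.lact_T_w, fr.lact_T_w] at h1
      exact h1
  choose σf hσf using hcomm
  have hσ : ∀ (c : F) (w : fr.W), fr.phi β (c • w) = σf c • fr.phi β w := by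
    intro c w
    have := hσf c (fr.phi β w)
    rw [hψφ] at this
    exact this
  have hw₁0 : fr.phi β fr.xW ≠ 0 := by
    intro h
    have h1 := hψφ fr.xW
    rw [h, phi_zero p hm hβ.inv] at h1
    exact fr.xW_ne_zero h1.symm
  have hcancel : ∀ a b : F, a • fr.phi β fr.xW = b • fr.phi β fr.xW → a = b := by
    intro a b h
    have h1 : (a - b) • fr.phi β fr.xW = 0 := by linear_combination (norm := module) h
    rcases smul_eq_zero.mp h1 with h2 | h2
    · exact sub_eq_zero.mp h2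
    · exact absurd h2 hw₁0
  let σr : F →+* F :=
    { toFun := σf
      map_one' := by
        apply hcancel
        rw [← hσ, one_smul, one_smul]
      map_mul' := by
        intro c d
        apply hcancel
        rw [← hσ, mul_smul, hσ, hσ, smul_smul]
      map_zero' := by
        apply hcancel
        rw [← hσ, zero_smul, zero_smul, phi_zero p hm hβ]
      map_add' := by
        intro c d
        apply hcancel
        rw [← hσ, add_smul, hφadd, hσ, hσ, add_smul] }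
  have hbij : Function.Bijective σr :=
    ⟨σr.injective, Finite.injective_iff_surjective.mp σr.injective⟩
  exact ⟨RingEquiv.ofBijective σr hbij, fun c w => hσ c w⟩

end Frame

end Cfsg.Agent.Helper8.AutSp
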