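import Mathlib
import Cfsg.Agent.Helper8.AutSpp

set_option autoImplicit false
set_option linter.unusedSectionVars false

/-! Automorphisms of `PSp_{2m}(q)`: the induced semilinear map scales the form (helper8). -/

namespace Cfsg.Agent.Helper8.AutSp

open Matrix Cfsg Cfsg.Agent.Helper7.Symp Cfsg.Agent.Helper8.SpRoot
open scoped Pointwise

variable {F : Type*} [Field F] {m : ℕ}

namespace Frame

variable {fr : Frame m F}

/-- the form on `W` -/
abbrev BW (fr : Frame m F) (w w' : fr.W) : F :=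
  sympForm m F (w : Fin m ⊕ Fin m → F) (w' : Fin m ⊕ Fin m → F)

theorem exists_kappa [Fintype F] (p : ℕ) [Fact p.Prime] [CharP F p] (hm : 1 ≤ m)
    {β : MulAut (PSp m F)} (hβ : fr.Fixes β) (σ : F ≃+* F)
    (hσ : ∀ (c : F) (w : fr.W), fr.phi β (c • w) = σ c • fr.phi β w) (x : fr.W) :
    ∃ κ : F, ∀ w : fr.W, σ (fr.BW w x) = κ * fr.BW (fr.phi β w) (fr.phi β x) := by
  have hQ := hβ.hQ p hm
  have hQ' := hβ.inv.hQ p hm
  have hφψ := phi_phi_inv p hm hβ.hE hQ hQ'
  have hφadd := phi_add p hm hβ.hE hQ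
  by_cases hx : x = 0
  · refine ⟨0, fun w => ?_⟩
    unfold BW
    rw [hx, Submodule.coe_zero, B_zero_right, map_zero, zero_mul]
  set u := fr.phi β x with hu
  have hu0 : u ≠ 0 := by
    intro h
    have h1 := phi_inv_phi p hm hβ.hE hQ hQ' x
    rw [← hu, h, phi_zero p hm hβ.inv] at h1
    exact hx h1.symm
  obtain ⟨l', hl', hll⟩ := exists_Lv_image p hm hβ.hE hβ.hEf (fr.T_w_mem_Lv x 1)
  have hstar : ∀ w : fr.W, fr.phi β w + σ (fr.BW w x) • u = fr.lt l' • fr.lact l' (fr.phi β w) := by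
    intro w
    have h1 := phi_Lam p hm hβ.hE hQ (fr.T_w_mem_Lv x 1) hl' hll w
    unfold Lam at h1
    rw [fr.lt_T_w, one_smul, fr.lact_T_w, one_mul, hφadd, hσ] at h1
    exact h1
  -- the form identity
  have hform : ∀ w₁ w₂ : fr.W,
      fr.BW (fr.phi β w₁) (fr.phi β w₂) + σ (fr.BW w₂ x) * fr.BW (fr.phi β w₁) u
        + σ (fr.BW w₁ x) * fr.BW u (fr.phi β w₂) =
      fr.lt l' * fr.lt l' * fr.BW (fr.phi β w₁) (fr.phi β w₂) := by
    intro w₁ w₂
    have h1 : fr.BW (fr.phi β w₁ + σ (fr.BW w₁ x) • u) (fr.phi β w₂ + σ (fr.BW w₂ x) • u) =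
        fr.BW (fr.lt l' • fr.lact l' (fr.phi β w₁)) (fr.lt l' • fr.lact l' (fr.phi β w₂)) := by
      rw [hstar w₁, hstar w₂]
    unfold BW at h1 ⊢
    simp only [Submodule.coe_add, Submodule.coe_smul, sympForm_add_left, sympForm_add_right,
      sympForm_smul_left, sympForm_smul_right, sympForm_self, fr.lact_form hl'] at h1
    linear_combination h1
  -- a vector pairing to one with `u`
  obtain ⟨y₀, hy₀⟩ := fr.exists_B_W_eq_one hu0
  have ht : fr.lt l' * fr.lt l' = 1 := by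
    have h1 := hform (fr.phi β⁻¹ y₀) x
    rw [hφψ, ← hu] at h1
    unfold BW at h1
    rw [sympForm_self, sympForm_self, hy₀, map_zero] at h1
    linear_combination -h1
  refine ⟨σ (fr.BW (fr.phi β⁻¹ y₀) x), fun w => ?_⟩
  have h1 := hform (fr.phi β⁻¹ y₀) w
  rw [hφψ, ht] at h1
  unfold BW at h1 ⊢
  rw [hy₀] at h1
  rw [sympForm_swap ((fr.phi β w : fr.W) : Fin m ⊕ Fin m → F)]
  linear_combination h1

/-- the induced semilinear map scales the form -/
theorem exists_lambda [Fintype F] (p : ℕ) [Fact p.Prime] [CharP F p] (hm : 1 ≤ m)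
    {β : MulAut (PSp m F)} (hβ : fr.Fixes β) (σ : F ≃+* F)
    (hσ : ∀ (c : F) (w : fr.W), fr.phi β (c • w) = σ c • fr.phi β w) :
    ∃ lam : F, lam ≠ 0 ∧ ∀ w w' : fr.W,
      fr.BW (fr.phi β w) (fr.phi β w') = lam * σ (fr.BW w w') := by
  classical
  choose κ hκ using exists_kappa p hm hβ σ hσ
  have hne : ∀ w x : fr.W, fr.BW w x ≠ 0 → κ x ≠ 0 ∧ fr.BW (fr.phi β w) (fr.phi β x) ≠ 0 := by
    intro w x h
    have h1 := hκ x w
    have h2 : σ (fr.BW w x) ≠ 0 := fun h0 => h ((map_eq_zero_iff σ σ.injective).mp h0)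
    rw [h1] at h2
    exact ⟨left_ne_zero_of_mul h2, right_ne_zero_of_mul h2⟩
  have heq : ∀ w x : fr.W, fr.BW w x ≠ 0 → κ x = κ w := by
    intro w x h
    have h1 := hκ x w
    have h2 := hκ w x
    have h3 : fr.BW x w = -fr.BW w x := sympForm_swap _ _
    have h4 : fr.BW (fr.phi β x) (fr.phi β w) = -fr.BW (fr.phi β w) (fr.phi β x) :=
      sympForm_swap _ _
    rw [h3, h4, map_neg] at h2
    have h5 : (κ x - κ w) * fr.BW (fr.phi β w) (fr.phi β x) = 0 := by
      linear_combination -h1 - h2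
    rcases mul_eq_zero.mp h5 with h6 | h6
    · exact sub_eq_zero.mp h6
    · exact absurd h6 (hne w x h).2
  have hconst : ∀ x : fr.W, x ≠ 0 → κ x = κ fr.xW := by
    intro x hx
    obtain ⟨r, h1, h2⟩ := fr.exists_middle_W fr.xW_ne_zero hx
    rw [heq r x h2, heq fr.xW r h1]
  have hκ0 : κ fr.xW ≠ 0 := by
    obtain ⟨r, hr⟩ := fr.exists_B_W_ne_zero fr.xW_ne_zero
    have hr' : fr.BW r fr.xW ≠ 0 := by
      unfold BW
      rw [sympForm_swap]
      exact neg_ne_zero.mpr hr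
    exact (hne r fr.xW hr').1
  refine ⟨(κ fr.xW)⁻¹, inv_ne_zero hκ0, fun w w' => ?_⟩
  by_cases hw' : w' = 0
  · unfold BW
    rw [hw', phi_zero p hm hβ, Submodule.coe_zero, B_zero_right, B_zero_right, map_zero, mul_zero]
  · rw [hκ w' w, hconst w' hw', ← mul_assoc, inv_mul_cancel₀ hκ0, one_mul]

end Frame

end Cfsg.Agent.Helper8.AutSp
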