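import Mathlib
import Cfsg.Agent.Helper8.AutSpq

set_option autoImplicit false
set_option linter.unusedSectionVars false

/-! Automorphisms of `PSp_{2m}(q)`: the conformal semilinear map attached to the induced map
(helper8). -/

namespace Cfsg.Agent.Helper8.AutSp

open Matrix Cfsg Cfsg.Agent.Helper7.Symp Cfsg.Agent.Helper8.SpRoot
open scoped Pointwise

variable {F : Type*} [Field F] {m : ℕ}

/-- a conformal symplectic matrix from a matrix scaling the form -/
noncomputable def mkGSp (M : Matrix (Fin m ⊕ Fin m) (Fin m ⊕ Fin m) F) (lam : F) (hlam : lam ≠ 0)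
    (hM : ∀ u v, sympForm m F (M *ᵥ u) (M *ᵥ v) = lam * sympForm m F u v) : GSp m F :=
  have hinj : Function.Injective M.mulVec := by
    intro u v h
    have h0 : M *ᵥ (u - v) = 0 := by rw [mulVec_sub]; exact sub_eq_zero.mpr h
    have h1 : u - v = 0 := by
      apply eq_zero_of_B_right
      intro x
      have h2 := hM (u - v) x
      rw [h0, B_zero_left] at h2
      exact (mul_eq_zero.mp h2.symm).resolve_left hlam
    exact sub_eq_zero.mp h1
  ⟨(Matrix.mulVec_injective_iff_isUnit.mp hinj).unit, ⟨Units.mk0 lam hlam, hM⟩⟩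

theorem mg_mkGSp (M : Matrix (Fin m ⊕ Fin m) (Fin m ⊕ Fin m) F) (lam : F) (hlam : lam ≠ 0)
    (hM : ∀ u v, sympForm m F (M *ᵥ u) (M *ᵥ v) = lam * sympForm m F u v) :
    mg (mkGSp M lam hlam hM) = M := rfl

theorem pi_eq_sum_single' (w : Fin m ⊕ Fin m → F) :
    w = ∑ j, w j • (Pi.single j (1 : F) : Fin m ⊕ Fin m → F) := by
  ext i
  rw [Finset.sum_apply]
  simp [Pi.single_apply]

namespace Frame

variable (fr : Frame m F)

/-- the form in frame coordinates -/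
theorem B_dec (u v : Fin m ⊕ Fin m → F) :
    sympForm m F u v = sympForm m F u fr.e * sympForm m F v fr.f -
      sympForm m F u fr.f * sympForm m F v fr.e + fr.BW (fr.pw u) (fr.pw v) := by
  unfold BW
  rw [pw_coe, pw_coe]
  simp only [sympForm_sub_left, sympForm_sub_right, sympForm_add_left, sympForm_add_right,
    sympForm_smul_left, sympForm_smul_right, sympForm_self, fr.hef, fr.hfe]
  rw [sympForm_swap fr.e v, sympForm_swap fr.f v]
  ring

/-- the semilinear map extending `φ` -/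
def Sf (lam : F) (σ : F ≃+* F) (φ : fr.W → fr.W) (v : Fin m ⊕ Fin m → F) : Fin m ⊕ Fin m → F :=
  (lam * σ (sympForm m F v fr.f)) • fr.e - σ (sympForm m F v fr.e) • fr.f +
    ((φ (fr.pw v) : fr.W) : Fin m ⊕ Fin m → F)

variable {lam : F} {σ : F ≃+* F} {φ : fr.W → fr.W}

theorem Sf_add (hφa : ∀ w w', φ (w + w') = φ w + φ w') (u v : Fin m ⊕ Fin m → F) :
    fr.Sf lam σ φ (u + v) = fr.Sf lam σ φ u + fr.Sf lam σ φ v := by
  unfold Sf
  rw [sympForm_add_left, sympForm_add_left, map_add, map_add, map_add, hφa, Submodule.coe_add]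
  module

theorem Sf_smul (hφs : ∀ (c : F) w, φ (c • w) = σ c • φ w) (c : F) (v : Fin m ⊕ Fin m → F) :
    fr.Sf lam σ φ (c • v) = σ c • fr.Sf lam σ φ v := by
  unfold Sf
  rw [sympForm_smul_left, sympForm_smul_left, map_mul, map_mul, map_smul, hφs, Submodule.coe_smul]
  module

theorem Sf_e (hφ0 : φ 0 = 0) : fr.Sf lam σ φ fr.e = lam • fr.e := by
  unfold Sf
  rw [fr.hef, sympForm_self, fr.pw_e, hφ0, map_one, map_zero, zero_smul, mul_one, sub_zero,
    Submodule.coe_zero, add_zero]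

theorem Sf_f (hφ0 : φ 0 = 0) : fr.Sf lam σ φ fr.f = fr.f := by
  unfold Sf
  rw [sympForm_self, fr.hfe, fr.pw_f, hφ0, map_neg, map_one, map_zero, mul_zero, zero_smul,
    neg_smul, one_smul, Submodule.coe_zero, add_zero, zero_sub, neg_neg]

theorem Sf_w (w : fr.W) : fr.Sf lam σ φ (w : Fin m ⊕ Fin m → F) = (φ w : fr.W) := by
  unfold Sf
  rw [fr.hwf, fr.hwe, fr.pw_of_mem, map_zero, mul_zero, zero_smul, zero_smul, sub_zero, zero_add]

theorem Sf_form (hφh : ∀ w w', fr.BW (φ w) (φ w') = lam * σ (fr.BW w w'))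
    (u v : Fin m ⊕ Fin m → F) :
    sympForm m F (fr.Sf lam σ φ u) (fr.Sf lam σ φ v) = lam * σ (sympForm m F u v) := by
  rw [fr.B_dec u v]
  have h := hφh (fr.pw u) (fr.pw v)
  unfold BW at h ⊢
  unfold Sf
  simp only [sympForm_sub_left, sympForm_sub_right, sympForm_add_left, sympForm_add_right,
    sympForm_smul_left, sympForm_smul_right, sympForm_self, fr.hef, fr.hfe, fr.hwe, fr.hwf,
    fr.hew, fr.hfw, h, map_add, map_sub, map_mul]
  ring

/-- the matrix of the linear part of `Sf` -/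
def SM (lam : F) (σ : F ≃+* F) (φ : fr.W → fr.W) : Matrix (Fin m ⊕ Fin m) (Fin m ⊕ Fin m) F :=
  Matrix.of fun i j => fr.Sf lam σ φ (Pi.single j 1) i

theorem SM_mulVec (hφa : ∀ w w', φ (w + w') = φ w + φ w')
    (hφs : ∀ (c : F) w, φ (c • w) = σ c • φ w) (v : Fin m ⊕ Fin m → F) :
    fr.SM lam σ φ *ᵥ sv σ v = fr.Sf lam σ φ v := by
  let S' : (Fin m ⊕ Fin m → F) →+ (Fin m ⊕ Fin m → F) :=
    AddMonoidHom.mk' (fr.Sf lam σ φ) (fr.Sf_add hφa)
  have h1 : S' v = ∑ j, S' (v j • Pi.single j 1) := by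
    rw [← map_sum]
    congr 1
    exact pi_eq_sum_single' v
  have h2 : fr.Sf lam σ φ v = ∑ j, σ (v j) • fr.Sf lam σ φ (Pi.single j 1) := by
    have : ∀ j, S' (v j • Pi.single j 1) = σ (v j) • fr.Sf lam σ φ (Pi.single j 1) :=
      fun j => fr.Sf_smul hφs (v j) _
    simp only [this] at h1
    exact h1
  rw [h2]
  ext i
  rw [Finset.sum_apply]
  unfold SM mulVec dotProduct
  apply Finset.sum_congr rfl
  intro j _
  show fr.Sf lam σ φ (Pi.single j 1) i * sv σ v j = _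
  rw [Pi.smul_apply, smul_eq_mul, sv_apply, mul_comm]

theorem exists_conformal_semilinear (hlam0 : lam ≠ 0)
    (hφa : ∀ w w', φ (w + w') = φ w + φ w') (hφs : ∀ (c : F) w, φ (c • w) = σ c • φ w)
    (hφh : ∀ w w', fr.BW (φ w) (φ w') = lam * σ (fr.BW w w')) :
    ∃ g : GSp m F, ∀ v, sm g σ v = fr.Sf lam σ φ v := by
  have hM : ∀ u v, sympForm m F (fr.SM lam σ φ *ᵥ u) (fr.SM lam σ φ *ᵥ v) =
      lam * sympForm m F u v := by
    have key : ∀ u₀ v₀ : Fin m ⊕ Fin m → F,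
        sympForm m F (fr.SM lam σ φ *ᵥ sv σ u₀) (fr.SM lam σ φ *ᵥ sv σ v₀) =
          lam * sympForm m F (sv σ u₀) (sv σ v₀) := by
      intro u₀ v₀
      rw [fr.SM_mulVec hφa hφs, fr.SM_mulVec hφa hφs, fr.Sf_form hφh, B_sv]
    intro u v
    have := key (sv σ.symm u) (sv σ.symm v)
    rw [sv_sv_symm, sv_sv_symm] at this
    exact this
  refine ⟨mkGSp _ lam hlam0 hM, fun v => ?_⟩
  unfold sm
  rw [mg_mkGSp, fr.SM_mulVec hφa hφs]

theorem smul_cancel' {c : F} (hc : c ≠ 0) {u v : Fin m ⊕ Fin m → F} (h : c • u = c • v) :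
    u = v := by
  have := congrArg (fun x => c⁻¹ • x) h
  beta_reduce at this
  rw [smul_smul, smul_smul, inv_mul_cancel₀ hc, one_smul, one_smul] at this
  exact this

theorem sa_sg {g : GSp m F} (hsm : ∀ v, sm g σ v = fr.Sf lam σ φ v) (hlam0 : lam ≠ 0)
    (hφa : ∀ w w', φ (w + w') = φ w + φ w') (hφs : ∀ (c : F) w, φ (c • w) = σ c • φ w)
    (hφh : ∀ w w', fr.BW (φ w) (φ w') = lam * σ (fr.BW w w'))
    (hφsurj : Function.Surjective φ) (w : fr.W) (a : F) :
    sa g σ (fr.sg w a) = fr.sg (φ w) (lam * σ a) := by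
  have hφ0 : φ 0 = 0 := by
    have := hφa 0 0
    rw [add_zero] at this
    exact left_eq_add.mp this
  apply fr.ext_sp
  · -- on `e`
    have h1 := sa_mulVec g σ (fr.sg w a) fr.e
    rw [fr.sg_e, hsm, fr.Sf_e hφ0, mulVec_smul] at h1
    rw [fr.sg_e]
    exact smul_cancel' hlam0 h1
  · -- on `f`
    have h1 := sa_mulVec g σ (fr.sg w a) fr.f
    rw [fr.sg_f, hsm, hsm, fr.Sf_f hφ0, fr.Sf_add hφa, fr.Sf_add hφa, fr.Sf_smul hφs, fr.Sf_f hφ0,
      fr.Sf_w, fr.Sf_e hφ0] at h1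
    rw [fr.sg_f, h1, smul_smul, mul_comm]
  · -- on the middle part
    intro x'
    obtain ⟨x, rfl⟩ := hφsurj x'
    have h1 := sa_mulVec g σ (fr.sg w a) (x : Fin m ⊕ Fin m → F)
    rw [fr.sg_w, hsm, hsm, fr.Sf_w, sub_eq_add_neg, ← neg_smul,
      fr.Sf_add hφa, fr.Sf_smul hφs, fr.Sf_w, fr.Sf_e hφ0] at h1
    have h2 := hφh x w
    unfold BW at h2
    rw [fr.sg_w, h1, h2, smul_smul, map_neg, sub_eq_add_neg, ← neg_smul]
    congr 2
    ring

theorem psa_fixes {g : GSp m F} (hsm : ∀ v, sm g σ v = fr.Sf lam σ φ v) (hlam0 : lam ≠ 0)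
    (hφ0 : φ 0 = 0) : fr.Fixes (psa g σ) := by
  constructor
  · rw [psa_smul_Xb g σ, hsm, fr.Sf_e hφ0, Xb_smul _ hlam0]
  · rw [psa_smul_Xb g σ, hsm, fr.Sf_f hφ0]

end Frame

end Cfsg.Agent.Helper8.AutSp
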