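import Mathlib
import Cfsg.Agent.Helper8.AutSpr

set_option autoImplicit false
set_option linter.unusedSectionVars false

/-! Automorphisms of `PSp_{2m}(q)`: reduction to the case where the induced map is the identity,
and then the automorphism fixes the unipotent radical elementwise (helper8). -/

namespace Cfsg.Agent.Helper8.AutSp

open Matrix Cfsg Cfsg.Agent.Helper7.Symp Cfsg.Agent.Helper8.SpRoot
open scoped Pointwise

variable {F : Type*} [Field F] {m : ℕ}

namespace Frame

variable {fr : Frame m F}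

/-- reduction to the case where the induced map is the identity -/
theorem exists_reduce [Fintype F] (p : ℕ) [Fact p.Prime] [CharP F p] (hm : 1 ≤ m)
    {β : MulAut (PSp m F)} (hβ : fr.Fixes β) :
    ∃ (g : GSp m F) (σ : F ≃+* F), fr.Fixes ((psa g σ)⁻¹ * β) ∧
      ∀ w, fr.Rel ((psa g σ)⁻¹ * β) w w := by
  have hQ := hβ.hQ p hm
  have hQ' := hβ.inv.hQ p hm
  obtain ⟨σ, hσ⟩ := exists_sigma p hm hβ
  obtain ⟨lam, hlam0, hφh⟩ := exists_lambda p hm hβ σ hσ
  have hφa := phi_add p hm hβ.hE hQ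
  have hφ0 := phi_zero p hm hβ
  have hφsurj : Function.Surjective (fr.phi β) := fun w =>
    ⟨fr.phi β⁻¹ w, phi_phi_inv p hm hβ.hE hQ hQ' w⟩
  obtain ⟨g, hsm⟩ := fr.exists_conformal_semilinear hlam0 hφa hσ hφh
  have hfix := fr.psa_fixes hsm hlam0 hφ0
  refine ⟨g, σ, hfix.inv.mul hβ, fun w => ?_⟩
  obtain ⟨a', he⟩ := Rel_spec hβ.hE (phi_spec hQ w) 0
  set a₁ := σ.symm (lam⁻¹ * a') with ha₁
  have h1 : lam * σ a₁ = a' := by
    rw [ha₁, σ.apply_symm_apply, ← mul_assoc, mul_inv_cancel₀ hlam0, one_mul]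
  refine ⟨0, a₁, ?_⟩
  have h3 : psa g σ (pr (fr.sg w a₁)) = β (pr (fr.sg w 0)) := by
    rw [psa_pr, fr.sa_sg hsm hlam0 hφa hσ hφh hφsurj, h1, he]
  rw [MulAut.mul_apply, ← h3]
  exact (psa g σ).symm_apply_apply _

/-- the automorphism fixes the image of the unipotent radical elementwise -/
theorem fix_Qb [Fintype F] (p : ℕ) [Fact p.Prime] [CharP F p] (hm : 1 ≤ m)
    {β : MulAut (PSp m F)} (hβ : fr.Fixes β) (hrel : ∀ w, fr.Rel β w w) :
    ∀ x ∈ fr.Qb, β x = x := by
  classical
  have hex : ∀ (w : fr.W) (a : F), ∃ a', β (pr (fr.sg w a)) = pr (fr.sg w a') :=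
    fun w a => Rel_spec hβ.hE (hrel w) a
  choose θ hθ using hex
  have huniq : ∀ (w : fr.W) (a a' : F), β (pr (fr.sg w a)) = pr (fr.sg w a') → a' = θ w a := by
    intro w a a' h
    exact (fr.pr_sg_inj p hm (h.symm.trans (hθ w a))).2
  -- multiplicativity
  have hmul : ∀ (w w' : fr.W) (a a' : F), θ (w + w') (a + a' + fr.BW w w') =
      θ w a + θ w' a' + fr.BW w w' := by
    intro w w' a a'
    symm
    apply huniq
    unfold BW
    rw [← fr.sg_mul, ← fr.sg_mul, map_mul, map_mul, hθ, hθ, map_mul]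
  -- equivariance
  have hequi : ∀ l ∈ fr.Lv, ∀ (w : fr.W) (a : F),
      θ (fr.Lam l w) (fr.lt l ^ 2 * a) = fr.lt l ^ 2 * θ w a := by
    intro l hl w a
    obtain ⟨l', hl', hll⟩ := exists_Lv_image p hm hβ.hE hβ.hEf hl
    have hE1 : ∀ w, fr.Lam l' w = fr.Lam l w := fun w =>
      Rel_unique p hm hβ.hE (Rel_conj hl hl' hll (hrel w)) (hrel (fr.Lam l w))
    have ht : fr.lt l' ^ 2 = fr.lt l ^ 2 := by
      have h1 : fr.BW (fr.Lam l' fr.xW) (fr.Lam l' fr.yW) = fr.BW (fr.Lam l fr.xW) (fr.Lam l fr.yW) := by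
        rw [hE1, hE1]
      unfold BW Lam at h1
      simp only [Submodule.coe_smul, sympForm_smul_left, sympForm_smul_right, fr.lact_form hl,
        fr.lact_form hl'] at h1
      have h2 : sympForm m F (fr.xW : Fin m ⊕ Fin m → F) (fr.yW : Fin m ⊕ Fin m → F) = 1 := fr.hxy
      rw [h2] at h1
      linear_combination h1
    symm
    apply huniq
    have h1 : β (pr (l * fr.sg w a * l⁻¹)) = pr (l' * fr.sg w (θ w a) * l'⁻¹) := by
      rw [map_mul, map_mul, map_inv, map_mul, map_mul, map_inv, hll, hθ, map_mul, map_mul,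
        map_inv]
    rw [fr.conj_sg hl, fr.conj_sg hl', ht] at h1
    have h2 : fr.lt l' • fr.lact l' w = fr.Lam l w := hE1 w
    rw [h2] at h1
    exact h1
  have hθ00 : θ 0 0 = 0 := by
    have := hmul 0 0 0 0
    unfold BW at this
    rw [Submodule.coe_zero, B_zero_left, add_zero, add_zero, add_zero, add_zero] at this
    exact left_eq_add.mp this
  -- decomposition of `θ`
  have hdec : ∀ (w : fr.W) (a : F), θ w a = θ w 0 + θ 0 a := by
    intro w a
    have := hmul w 0 0 a
    unfold BW at this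
    rw [Submodule.coe_zero, B_zero_right, add_zero, add_zero, add_zero, zero_add] at this
    exact this
  have hτadd : ∀ a a' : F, θ 0 (a + a') = θ 0 a + θ 0 a' := by
    intro a a'
    have := hmul 0 0 a a'
    unfold BW at this
    rw [Submodule.coe_zero, B_zero_left, add_zero, add_zero, add_zero] at this
    exact this
  have hτinj : ∀ a : F, θ 0 a = 0 → a = 0 := by
    intro a ha
    have h1 := hθ 0 a
    have h2 := hθ 0 0
    rw [ha] at h1
    rw [hθ00] at h2
    have h3 := β.injective (h1.trans h2.symm)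
    exact (fr.pr_sg_inj p hm h3).2
  have hz2 : ∀ (w w' : fr.W), θ (w + w') 0 + θ 0 (fr.BW w w') = θ w 0 + θ w' 0 + fr.BW w w' := by
    intro w w'
    have := hmul w w' 0 0
    rw [zero_add, zero_add, hdec] at this
    exact this
  -- scaling
  have hzsc : ∀ (t : F) (w : fr.W), t ≠ 0 → θ (t • w) 0 = t ^ 2 * θ w 0 := by
    intro t w ht
    have := hequi _ (fr.dg_mem_Lv ht) w 0
    unfold Lam at this
    rw [fr.lt_dg, fr.lact_dg, mul_zero] at this
    exact this
  -- invariance under transvections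
  have hzT : ∀ (x w : fr.W) (c : F), θ (w + (c * fr.BW w x) • x) 0 = θ w 0 := by
    intro x w c
    have := hequi _ (fr.T_w_mem_Lv x c) w 0
    unfold Lam at this
    rw [fr.lt_T_w, one_smul, fr.lact_T_w, one_pow, one_mul, one_mul] at this
    exact this
  -- the key identity
  have hkey : ∀ (x : fr.W), x ≠ 0 → ∀ s : F, θ 0 s = s + s ^ 2 * θ x 0 := by
    intro x hx s
    obtain ⟨w, hw⟩ := fr.exists_B_W_eq_one hx
    have hw' : fr.BW w x = 1 := hw
    by_cases hs : s = 0
    · rw [hs, hθ00]; ring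
    have h1 := hzT x w s
    rw [hw', mul_one] at h1
    have h2 := hz2 w (s • x)
    have h3 : fr.BW w (s • x) = s := by
      unfold BW
      rw [Submodule.coe_smul, sympForm_smul_right, hw, mul_one]
    rw [h1, h3, hzsc s x hs] at h2
    linear_combination h2
  have hzx : ∀ x : fr.W, x ≠ 0 → θ x 0 = 0 := by
    intro x hx
    by_contra hne
    have h1 := hkey x hx (-(θ x 0)⁻¹)
    have h2 : θ 0 (-(θ x 0)⁻¹) = 0 := by
      rw [h1]
      field_simp
      ring
    have h3 := hτinj _ h2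
    exact inv_ne_zero hne (neg_eq_zero.mp h3)
  have hτ : ∀ s : F, θ 0 s = s := by
    intro s
    rw [hkey fr.xW fr.xW_ne_zero s, hzx fr.xW fr.xW_ne_zero, mul_zero, add_zero]
  intro x hx
  obtain ⟨w, a, rfl⟩ := fr.mem_Qb_iff.mp hx
  rw [hθ w a, hdec, hτ]
  by_cases hw : w = 0
  · rw [hw, hθ00, zero_add]
  · rw [hzx w hw, zero_add]

end Frame

end Cfsg.Agent.Helper8.AutSp
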