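import Mathlib
import Cfsg.Agent.Helper8.AutSps

set_option autoImplicit false
set_option linter.unusedSectionVars false

/-! Automorphisms of `PSp_{2m}(q)`: an automorphism fixing the unipotent radical elementwise and
the two root groups of the frame fixes all root groups, and is then trivial (helper8). -/

namespace Cfsg.Agent.Helper8.AutSp

open Matrix Cfsg Cfsg.Agent.Helper7.Symp Cfsg.Agent.Helper8.SpRoot
open Cfsg.Agent.Helper8.AutSLn (aut_mul_conj')
open scoped Pointwise

variable {F : Type*} [Field F] {m : ℕ}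

/-- a vector whose orthogonal contains the orthogonal of `x` is a multiple of `x` -/
theorem perp_le {x x' : Fin m ⊕ Fin m → F} (hx : x ≠ 0)
    (h : ∀ w, sympForm m F w x = 0 → sympForm m F w x' = 0) : ∃ μ : F, x' = μ • x := by
  obtain ⟨u, hu⟩ := exists_B_eq_one hx
  refine ⟨sympForm m F u x', ?_⟩
  have h1 : x' - sympForm m F u x' • x = 0 := by
    apply eq_zero_of_B_left
    intro w
    have h2 := h (w - sympForm m F w x • u) (by
      rw [sympForm_sub_left, sympForm_smul_left, hu, mul_one, sub_self])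
    rw [sympForm_sub_left, sympForm_smul_left] at h2
    rw [sympForm_sub_right, sympForm_smul_right]
    linear_combination h2
  exact sub_eq_zero.mp h1

theorem comm_smul {G : Type*} [Group G] (β : MulAut G) (A B : Subgroup G) :
    (∀ x ∈ β • A, ∀ y ∈ β • B, x * y = y * x) ↔ (∀ x ∈ A, ∀ y ∈ B, x * y = y * x) := by
  constructor
  · intro h x hx y hy
    have h1 := h (β x) (Subgroup.smul_mem_pointwise_smul _ _ _ hx) (β y)
      (Subgroup.smul_mem_pointwise_smul _ _ _ hy)
    rw [← map_mul, ← map_mul] at h1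
    exact β.injective h1
  · intro h x hx y hy
    rw [Subgroup.mem_pointwise_smul_iff_inv_smul_mem] at hx hy
    have h1 := h _ hx _ hy
    have h2 := congrArg (fun t => β • t) h1
    simp only [smul_mul', smul_inv_smul] at h2
    exact h2

namespace Frame

variable {fr : Frame m F}

/-- vectors not orthogonal to `e` are multiples of images of `f` under the unipotent radical -/
theorem opp_eq {v : Fin m ⊕ Fin m → F} (hne : sympForm m F v fr.e ≠ 0) :
    ∃ (w : fr.W) (a : F), v = (-sympForm m F v fr.e) • (mt (fr.sg w a) *ᵥ fr.f) := by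
  set γ := -sympForm m F v fr.e with hγ
  have hγ0 : γ ≠ 0 := neg_ne_zero.mpr hne
  refine ⟨γ⁻¹ • fr.pw v, γ⁻¹ * sympForm m F v fr.f, ?_⟩
  rw [fr.sg_f, Submodule.coe_smul]
  conv_lhs => rw [fr.dec v]
  rw [smul_add, smul_add, smul_smul, smul_smul, mul_inv_cancel₀ hγ0, one_smul, ← mul_assoc,
    mul_inv_cancel₀ hγ0, one_mul, hγ]
  module

theorem smul_conj_Xb {β : MulAut (PSp m F)} {x : PSp m F} (hx : β x = x)
    {R : Subgroup (PSp m F)} (hR : β • R = R) : β • (MulAut.conj x • R) = MulAut.conj x • R := by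
  rw [smul_smul, aut_mul_conj', hx, ← smul_smul, hR]

/-- root groups of points not orthogonal to `e` are fixed -/
theorem fix_opp {β : MulAut (PSp m F)} (hβ : fr.Fixes β) (hQ : ∀ x ∈ fr.Qb, β x = x)
    {v : Fin m ⊕ Fin m → F} (hne : sympForm m F v fr.e ≠ 0) : β • Xb v = Xb v := by
  obtain ⟨w, a, hva⟩ := opp_eq (fr := fr) hne
  rw [hva, Xb_smul _ (neg_ne_zero.mpr hne), ← conj_smul_Xb]
  exact smul_conj_Xb (hQ _ (fr.mem_Qb_iff.mpr ⟨w, a, rfl⟩)) hβ.hEf

theorem par_of_perp {v v' : Fin m ⊕ Fin m → F} (hv0' : v' ≠ 0)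
    (hve : sympForm m F v fr.e = 0) (hx : fr.pw v ≠ 0)
    (H : ∀ o : Fin m ⊕ Fin m → F, sympForm m F o fr.e ≠ 0 →
      (sympForm m F o v = 0 ↔ sympForm m F o v' = 0)) :
    ∃ c : F, c ≠ 0 ∧ v' = c • v := by
  have hv0 : v ≠ 0 := by
    rintro rfl
    exact hx (map_zero _)
  -- a vector orthogonal to `v` but not to `e`
  obtain ⟨u, hu⟩ := fr.exists_B_W_eq_one hx
  set o₁ : Fin m ⊕ Fin m → F := fr.f + sympForm m F v fr.f • (u : Fin m ⊕ Fin m → F) with ho₁
  have ho₁e : sympForm m F o₁ fr.e ≠ 0 := by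
    rw [ho₁, sympForm_add_left, sympForm_smul_left, fr.hwe, mul_zero, add_zero, fr.hfe]
    exact neg_ne_zero.mpr one_ne_zero
  have ho₁v : sympForm m F o₁ v = 0 := by
    have h1 : sympForm m F (u : Fin m ⊕ Fin m → F) v = 1 := by
      rw [← fr.B_pw_right, hu]
    rw [ho₁, sympForm_add_left, sympForm_smul_left, h1, sympForm_swap fr.f v]
    ring
  have ho₁v' := (H o₁ ho₁e).mp ho₁v
  obtain ⟨μ, hμ⟩ := perp_le hv0 (fun w hw => by
    by_cases hwe : sympForm m F w fr.e = 0
    · have h1 : sympForm m F (w + o₁) fr.e ≠ 0 := by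
        rw [sympForm_add_left, hwe, zero_add]
        exact ho₁e
      have h2 : sympForm m F (w + o₁) v = 0 := by
        rw [sympForm_add_left, hw, ho₁v, add_zero]
      have h3 := (H _ h1).mp h2
      rw [sympForm_add_left, ho₁v', add_zero] at h3
      exact h3
    · exact (H w hwe).mp hw)
  refine ⟨μ, ?_, hμ⟩
  rintro rfl
  rw [zero_smul] at hμ
  exact hv0' hμ

/-- all root groups are fixed -/
theorem fix_all (p : ℕ) [Fact p.Prime] [CharP F p] (hm : 1 ≤ m) (hRP : RootPres m F)
    {β : MulAut (PSp m F)} (hβ : fr.Fixes β) (hQ : ∀ x ∈ fr.Qb, β x = x)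
    {v : Fin m ⊕ Fin m → F} (hv0 : v ≠ 0) : β • Xb v = Xb v := by
  by_cases hve : sympForm m F v fr.e = 0
  swap
  · exact fix_opp hβ hQ hve
  by_cases hx : fr.pw v = 0
  · have hdec := fr.dec v
    rw [hve, zero_smul, sub_zero, hx, Submodule.coe_zero, add_zero] at hdec
    have hc : sympForm m F v fr.f ≠ 0 := by
      intro h0
      rw [h0, zero_smul] at hdec
      exact hv0 hdec
    rw [hdec, Xb_smul _ hc]
    exact hβ.hE
  · obtain ⟨v', hv0', hR⟩ := hRP β _ ⟨v, hv0, rfl⟩
    obtain ⟨c, hc0, hc⟩ := par_of_perp hv0' hve hx (fun o hoe => by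
      have ho0 : o ≠ 0 := by
        rintro rfl
        exact hoe (B_zero_left _)
      have hfo := fix_opp hβ hQ hoe
      rw [← comm_iff p hm ho0, ← comm_iff p hm ho0, ← hR]
      conv_rhs => rw [← hfo]
      rw [comm_smul])
    rw [hR, hc, Xb_smul _ hc0]

/-- **an automorphism fixing all root groups is trivial** -/
theorem eq_one_of_fix_all (p : ℕ) [Fact p.Prime] [CharP F p] (hm : 1 ≤ m) {β : MulAut (PSp m F)}
    (h : ∀ v : Fin m ⊕ Fin m → F, v ≠ 0 → β • Xb v = Xb v) : β = 1 := by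
  ext x
  rw [MulAut.one_apply]
  have h1 : x⁻¹ * β x = 1 := by
    apply eq_one_of_normalizes p hm
    intro v hv0
    obtain ⟨g, rfl⟩ := pr_surjective x
    have h2 : MulAut.conj (pr g)⁻¹ • Xb (mt g *ᵥ v) = Xb v := by
      rw [← conj_smul_Xb g, smul_smul, ← map_mul, inv_mul_cancel, map_one, one_smul]
    have h3 : MulAut.conj (β (pr g)) • Xb v = Xb (mt g *ᵥ v) := by
      have h4 : MulAut.conj (β (pr g)) = β * MulAut.conj (pr g) * β⁻¹ := by
        rw [aut_mul_conj', mul_assoc, mul_inv_cancel, mul_one]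
      rw [h4, mul_smul, mul_smul, smul_inv_Xb (h v hv0), conj_smul_Xb g]
      exact h _ (mulVec_ne_zero' g hv0)
    rw [map_mul, mul_smul, h3, h2]
  exact (inv_mul_eq_one.mp h1).symm

end Frame

end Cfsg.Agent.Helper8.AutSp
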