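import Mathlib
import Cfsg.Agent.Helper8.AutSpt

set_option autoImplicit false
set_option linter.unusedSectionVars false

/-! Automorphisms of `PSp_{2m}(q)`: every automorphism permuting the root groups is induced by a
conformal symplectic semilinear map (helper8). -/

namespace Cfsg.Agent.Helper8.AutSp

open Matrix Cfsg Cfsg.Agent.Helper7.Symp Cfsg.Agent.Helper8.SpRoot
open scoped Pointwise

variable {F : Type*} [Field F] {m : ℕ}

theorem pspField_refl : (pspField (RingEquiv.refl F) : MulAut (PSp m F)) = 1 := by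
  have : (RingEquiv.refl F : F ≃+* F) = 1 := rfl
  rw [this, map_one]

theorem psa_refl (g : GSp m F) : psa g (RingEquiv.refl F) = pspConj g := by
  unfold psa
  rw [pspField_refl, mul_one]

theorem sm_refl (g : GSp m F) (v : Fin m ⊕ Fin m → F) :
    sm g (RingEquiv.refl F) v = mg g *ᵥ v := rfl

/-- the inclusion of `Sp` in `GSp` -/
noncomputable def toGSp : symplecticGroup (Fin m) F →* GSp m F where
  toFun s := mkGSp (mt s) 1 one_ne_zero (fun u v => by rw [sympForm_mulVec, one_mul])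
  map_one' := by
    apply Subtype.ext
    apply Units.ext
    rfl
  map_mul' s t := by
    apply Subtype.ext
    apply Units.ext
    rfl

theorem mg_toGSp (s : symplecticGroup (Fin m) F) : mg (toGSp s) = mt s := rfl

theorem pspConj_toGSp (s : symplecticGroup (Fin m) F) :
    (pspConj (toGSp s) : MulAut (PSp m F)) = MulAut.conj (pr s) := by
  ext x
  obtain ⟨t, rfl⟩ := pr_surjective x
  rw [pspConj_pr, MulAut.conj_apply, ← map_inv, ← map_mul, ← map_mul]
  congr 1
  apply ext_mulVec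
  intro v
  rw [spConj_mulVec, mg_toGSp, coe_mul_mulVec, coe_mul_mulVec]
  congr 2
  have h1 : mg (toGSp s)⁻¹ *ᵥ v = mg (toGSp s⁻¹) *ᵥ v := by rw [map_inv]
  rw [h1, mg_toGSp]

/-- normalisation: after an inner automorphism, the root groups of `e` and `f` are fixed -/
theorem exists_normalize (p : ℕ) [Fact p.Prime] [CharP F p] (hm : 1 ≤ m) (hRP : RootPres m F)
    (fr : Frame m F) (β : MulAut (PSp m F)) :
    ∃ g : GSp m F, fr.Fixes ((pspConj g)⁻¹ * β) := by
  obtain ⟨v₁, hv₁0, h1⟩ := hRP β _ ⟨fr.e, fr.e_ne_zero, rfl⟩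
  obtain ⟨v₂, hv₂0, h2⟩ := hRP β _ ⟨fr.f, fr.f_ne_zero, rfl⟩
  have hne : sympForm m F v₁ v₂ ≠ 0 := by
    intro h0
    have h3 := (comm_iff p hm hv₁0 (v' := v₂)).mpr h0
    rw [← h1, ← h2, comm_smul, comm_iff p hm fr.e_ne_zero, fr.hef] at h3
    exact one_ne_zero h3
  set c := (sympForm m F v₁ v₂)⁻¹ with hc
  have hc0 : c ≠ 0 := inv_ne_zero hne
  have h12 : sympForm m F v₁ (c • v₂) = 1 := by
    rw [sympForm_smul_right, hc, inv_mul_cancel₀ hne]
  obtain ⟨g, -, hg1, hg2⟩ := exists_mem_mulVec_pair fr.hef h12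
  have hg1' : sm (toGSp g) (RingEquiv.refl F) fr.e = v₁ := hg1
  have hg2' : sm (toGSp g) (RingEquiv.refl F) fr.f = c • v₂ := hg2
  refine ⟨toGSp g, ?_, ?_⟩
  · rw [mul_smul, h1, ← hg1', ← psa_smul_Xb, psa_refl, inv_smul_smul]
  · rw [mul_smul, h2, ← Xb_smul v₂ hc0, ← hg2', ← psa_smul_Xb, psa_refl, inv_smul_smul]

/-- **every automorphism of `PSp_{2m}(q)` permuting the root groups is induced by a conformal
symplectic semilinear map** -/
theorem aut_PSp_standard_of_rootPres [Fintype F] (p : ℕ) [Fact p.Prime] [CharP F p] (hm : 2 ≤ m)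
    (hRP : RootPres m F) (β : MulAut (PSp m F)) :
    ∃ (g : GSp m F) (σ : F ≃+* F), β = pspConj g * pspField σ := by
  have hm1 : 1 ≤ m := by omega
  obtain ⟨fr⟩ := exists_frame (F := F) hm
  obtain ⟨g₁, hfix₁⟩ := exists_normalize p hm1 hRP fr β
  obtain ⟨g₂, σ, hfix₂, hrel⟩ := Frame.exists_reduce p hm1 hfix₁
  have hQ := Frame.fix_Qb p hm1 hfix₂ hrel
  have h1 := Frame.eq_one_of_fix_all p hm1
    (fun v hv0 => Frame.fix_all p hm1 hRP hfix₂ hQ hv0)
  refine ⟨g₁ * g₂, σ, ?_⟩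
  have h2 : β = pspConj g₁ * psa g₂ σ := by
    have h3 : (psa g₂ σ)⁻¹ * ((pspConj g₁)⁻¹ * β) = 1 := h1
    rw [inv_mul_eq_one] at h3
    rw [h3, mul_inv_cancel_left]
  rw [h2, map_mul, mul_assoc]
  rfl

/-- **every automorphism of `PSp_{2m}(q)`, `q` odd, is induced by a conformal symplectic
semilinear map** -/
theorem aut_PSp_standard_odd [Fintype F] (p : ℕ) [Fact p.Prime] [CharP F p] (h2 : (2 : F) ≠ 0)
    (hm : 2 ≤ m) (β : MulAut (PSp m F)) :
    ∃ (g : GSp m F) (σ : F ≃+* F), β = pspConj g * pspField σ :=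
  aut_PSp_standard_of_rootPres p hm (rootPres_of_odd p h2 hm) β

end Cfsg.Agent.Helper8.AutSp
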