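import Mathlib
import Cfsg.Agent.Helper8.AutSpu

set_option autoImplicit false
set_option linter.unusedSectionVars false

/-! Automorphisms of `PSp_{2m}(q)`: the kernel of the parametrisation by conformal semilinear maps
and the product of two semilinear automorphisms (helper8). -/

namespace Cfsg.Agent.Helper8.AutSp

open Matrix Cfsg Cfsg.Agent.Helper7.Symp Cfsg.Agent.Helper8.SpRoot
open scoped Pointwise

variable {F : Type*} [Field F] {m : ℕ}

/-- a trivial semilinear automorphism fixes all the points -/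
theorem sm_par_of_eq_one (p : ℕ) [Fact p.Prime] [CharP F p] (hm : 1 ≤ m) {g : GSp m F}
    {σ : F ≃+* F} (h : pspConj g * pspField σ = (1 : MulAut (PSp m F))) {v : Fin m ⊕ Fin m → F}
    (hv0 : v ≠ 0) : ∃ c : F, sm g σ v = c • v := by
  have h1 := psa_smul_Xb g σ v
  have h2 : psa g σ = 1 := h
  rw [h2, one_smul] at h1
  obtain ⟨c, _, hc⟩ := par_of_Xb_eq p hm (sm_ne_zero g σ hv0) h1.symm
  exact ⟨c, hc⟩

theorem sm_one (g : GSp m F) (v : Fin m ⊕ Fin m → F) : sm g (1 : F ≃+* F) v = mg g *ᵥ v := rfl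

/-- **the kernel of the parametrisation**: a trivial semilinear automorphism has trivial field
part and scalar linear part -/
theorem eq_one_of_psa_eq_one (p : ℕ) [Fact p.Prime] [CharP F p] (hm : 2 ≤ m)
    {g : GSp m F} {σ : F ≃+* F}
    (h : pspConj g * pspField σ = (1 : MulAut (PSp m F))) :
    σ = 1 ∧ ∃ c : F, ∀ v, mg g *ᵥ v = c • v := by
  obtain ⟨fr⟩ := exists_frame (F := F) hm
  have hm1 : 1 ≤ m := by omega
  obtain ⟨a₀, ha₀⟩ := sm_par_of_eq_one p hm1 h fr.e_ne_zero
  obtain ⟨b₀, hb₀⟩ := sm_par_of_eq_one p hm1 h fr.f_ne_zero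
  have hb₀0 : b₀ ≠ 0 := by
    rintro rfl
    rw [zero_smul] at hb₀
    exact sm_ne_zero g σ fr.f_ne_zero hb₀
  have key : ∀ a : F, σ a * a₀ = b₀ * a := by
    intro a
    have hx0 : fr.f + a • fr.e ≠ 0 := by
      intro h0
      have h1 := congrArg (fun x => sympForm m F fr.e x) h0
      beta_reduce at h1
      rw [sympForm_add_right, sympForm_smul_right, sympForm_self, fr.hef, B_zero_right] at h1
      simp at h1
    obtain ⟨d, hd⟩ := sm_par_of_eq_one p hm1 h hx0
    rw [sm_add, sm_smul, ha₀, hb₀] at hd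
    have h1 := congrArg (fun x => sympForm m F x fr.e) hd
    have h2 := congrArg (fun x => sympForm m F x fr.f) hd
    simp only [sympForm_add_left, sympForm_smul_left, fr.hfe, fr.hef, sympForm_self, mul_zero,
      mul_one, add_zero, zero_add] at h1 h2
    have h3 : d = b₀ := by linear_combination h1
    rw [h3] at h2
    linear_combination h2
  have hab : a₀ = b₀ := by
    have := key 1
    rw [map_one, one_mul, mul_one] at this
    exact this
  have hσ : σ = 1 := by
    ext a
    have := key a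
    rw [hab, mul_comm] at this
    exact mul_left_cancel₀ hb₀0 this
  refine ⟨hσ, ?_⟩
  subst hσ
  apply scalar_of_fix_points
  intro x hx0
  obtain ⟨d, hd⟩ := sm_par_of_eq_one p hm1 h hx0
  exact ⟨d, hd⟩

/-- a field automorphism applied to the entries of a conformal symplectic matrix -/
def gspField (σ : F ≃+* F) (g : GSp m F) : GSp m F :=
  ⟨Matrix.GeneralLinearGroup.map (σ : F →+* F) (g : GL (Fin m ⊕ Fin m) F), by
    refine ⟨Units.map ((σ : F →+* F) : F →* F) (mu g), fun u v => ?_⟩
    show sympForm m F ((mg g).map σ *ᵥ u) ((mg g).map σ *ᵥ v) = σ (mu g : F) * _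
    rw [map_mulVec', map_mulVec', B_sv, B_mg, map_mul, ← B_sv, sv_sv_symm, sv_sv_symm]⟩

theorem mg_gspField (σ : F ≃+* F) (g : GSp m F) : mg (gspField σ g) = (mg g).map σ := rfl

theorem coe_gspField (σ : F ≃+* F) (g : GSp m F) :
    ((gspField σ g : GSp m F) : GL (Fin m ⊕ Fin m) F) =
      Matrix.GeneralLinearGroup.map (σ : F →+* F) (g : GL (Fin m ⊕ Fin m) F) := rfl

theorem gspField_mul (σ : F ≃+* F) (g h : GSp m F) :
    gspField σ (g * h) = gspField σ g * gspField σ h := by
  apply Subtype.ext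
  rw [Subgroup.coe_mul, coe_gspField, coe_gspField, coe_gspField, Subgroup.coe_mul, map_mul]

theorem gspField_one (σ : F ≃+* F) : gspField σ (1 : GSp m F) = 1 := by
  apply Subtype.ext
  rw [coe_gspField, Subgroup.coe_one, map_one]

theorem gspField_inv (σ : F ≃+* F) (g : GSp m F) : gspField σ g⁻¹ = (gspField σ g)⁻¹ := by
  rw [eq_inv_iff_mul_eq_one, ← gspField_mul, inv_mul_cancel, gspField_one]

theorem sv_mg_inv (σ : F ≃+* F) (g : GSp m F) (v : Fin m ⊕ Fin m → F) :
    sv σ (mg g⁻¹ *ᵥ v) = mg (gspField σ g)⁻¹ *ᵥ sv σ v := by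
  rw [← gspField_inv, mg_gspField, map_mulVec_sv]

theorem spField_mul_spConj (σ : F ≃+* F) (g : GSp m F) :
    (spField σ * spConj g : MulAut (symplecticGroup (Fin m) F)) =
      spConj (gspField σ g) * spField σ := by
  ext s : 1
  apply ext_mulVec
  intro v
  obtain ⟨u, rfl⟩ : ∃ u, v = sv σ u := ⟨sv σ.symm v, (sv_sv_symm σ v).symm⟩
  rw [MulAut.mul_apply, MulAut.mul_apply, spField_mulVec, spConj_mulVec, spConj_mulVec,
    ← map_mulVec_sv, ← mg_gspField, ← sv_mg_inv, spField_mulVec, ← map_mulVec_sv, mg_gspField,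
    sv_mg_inv]

theorem pspField_mul_pspConj (σ : F ≃+* F) (g : GSp m F) :
    (pspField σ * pspConj g : MulAut (PSp m F)) = pspConj (gspField σ g) * pspField σ := by
  show pspLift (spField σ) * pspLift (spConj g) = pspLift (spConj _) * pspLift (spField σ)
  rw [← map_mul, spField_mul_spConj, map_mul]

/-- the product of two semilinear automorphisms -/
theorem psa_mul (g g' : GSp m F) (σ σ' : F ≃+* F) :
    psa g σ * psa g' σ' = psa (g * gspField σ g') (σ * σ') := by
  unfold psa
  rw [map_mul, map_mul, mul_assoc, ← mul_assoc (pspField σ), pspField_mul_pspConj]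
  simp only [mul_assoc]

theorem pspConj_eq_one_of_scalar {g : GSp m F} {c : F} (h : ∀ v, mg g *ᵥ v = c • v) :
    (pspConj g : MulAut (PSp m F)) = 1 := by
  ext x
  obtain ⟨t, rfl⟩ := pr_surjective x
  rw [pspConj_pr, MulAut.one_apply]
  congr 1
  apply ext_mulVec
  intro v
  rw [spConj_mulVec, h, ← mulVec_smul, ← h, mg_inv_mulVec]

theorem mem_ker_pspConj_iff (p : ℕ) [Fact p.Prime] [CharP F p] (hm : 2 ≤ m) {g : GSp m F} :
    g ∈ (pspConj : GSp m F →* MulAut (PSp m F)).ker ↔ ∃ c : F, ∀ v, mg g *ᵥ v = c • v := by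
  rw [MonoidHom.mem_ker]
  constructor
  · intro h
    exact (eq_one_of_psa_eq_one p hm (σ := 1) (by rw [map_one, mul_one, h])).2
  · rintro ⟨c, hc⟩
    exact pspConj_eq_one_of_scalar hc

end Cfsg.Agent.Helper8.AutSp
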