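import Mathlib
import Cfsg.Agent.Helper8.AutSpv
import Cfsg.Agent.Helper8.AutSLnV

set_option autoImplicit false
set_option linter.unusedSectionVars false

/-! Automorphisms of `PSp_{2m}(q)`: powers of semilinear automorphisms; the inner-diagonal group is
the image of `GSp` and is normal (helper8). -/

namespace Cfsg.Agent.Helper8.AutSp

open Matrix Cfsg Cfsg.Agent.Helper7.Symp Cfsg.Agent.Helper8.SpRoot
open Cfsg.Agent.Helper8.AutSLn (gls nrmGL nrmF unitsAut aut_mul_conj')
open scoped Pointwise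

variable {F : Type*} [Field F] {m : ℕ}

theorem coe_gspField' (σ : F ≃+* F) (g : GSp m F) :
    ((gspField σ g : GSp m F) : GL (Fin m ⊕ Fin m) F) = gls σ (g : GL (Fin m ⊕ Fin m) F) := rfl

/-- the norm products in the conformal symplectic group -/
def nrmGSp (σ : F ≃+* F) (g : GSp m F) : ℕ → GSp m F
  | 0 => 1
  | k + 1 => g * gspField σ (nrmGSp σ g k)

theorem coe_nrmGSp (σ : F ≃+* F) (g : GSp m F) (k : ℕ) :
    ((nrmGSp σ g k : GSp m F) : GL (Fin m ⊕ Fin m) F) =
      nrmGL σ (g : GL (Fin m ⊕ Fin m) F) k := by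
  induction k with
  | zero => rfl
  | succ k ih =>
    show ((g * gspField σ (nrmGSp σ g k) : GSp m F) : GL (Fin m ⊕ Fin m) F) = _
    rw [Subgroup.coe_mul, coe_gspField', ih]
    rfl

/-- the powers of a semilinear automorphism -/
theorem psa_pow (g : GSp m F) (σ : F ≃+* F) (k : ℕ) :
    (pspConj g * pspField σ : MulAut (PSp m F)) ^ k =
      pspConj (nrmGSp σ g k) * pspField (σ ^ k) := by
  induction k with
  | zero =>
    rw [pow_zero, pow_zero, map_one]
    show (1 : MulAut (PSp m F)) = pspConj 1 * 1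
    rw [map_one, one_mul]
  | succ k ih =>
    rw [pow_succ', ih]
    have := psa_mul (m := m) g (nrmGSp σ g k) σ (σ ^ k)
    unfold psa at this
    rw [this, ← pow_succ']
    rfl

/-- the inner-diagonal group is the image of the conformal symplectic group -/
theorem inndiagPSp_eq :
    Cfsg.inndiagPSp m F = (pspConj : GSp m F →* MulAut (PSp m F)).range := by
  have h1 : {β : MulAut (PSp m F) | Cfsg.IsInnerDiagonalAutPSp β} =
      ((pspConj : GSp m F →* MulAut (PSp m F)).range : Set (MulAut (PSp m F))) := by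
    ext β
    constructor
    · rintro ⟨g, hg, h⟩
      refine ⟨⟨g, hg⟩, ?_⟩
      ext x
      induction x using QuotientGroup.induction_on with
      | H s => exact (h s (spConj ⟨g, hg⟩ s) rfl).symm
    · rintro ⟨g, rfl⟩
      exact isInnerDiagonal_pspConj g
  show Subgroup.closure _ = _
  rw [h1, Subgroup.closure_eq]

theorem eq_pspField_of_isStdFieldAut {σ : F ≃+* F} {β : MulAut (PSp m F)}
    (h : Cfsg.IsStdFieldAutPSp σ β) : β = pspField σ := by
  ext x
  induction x using QuotientGroup.induction_on with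
  | H s => exact h s (spField σ s) rfl

theorem pspField_injective (p : ℕ) [Fact p.Prime] [CharP F p] (hm : 2 ≤ m) :
    Function.Injective (pspField : (F ≃+* F) →* MulAut (PSp m F)) := by
  rw [injective_iff_map_eq_one]
  intro σ h
  exact (eq_one_of_psa_eq_one p hm (g := 1) (by rw [map_one, one_mul, h])).1

theorem scalar_mulVec (μ : Fˣ) (v : Fin m ⊕ Fin m → F) :
    ((Matrix.GeneralLinearGroup.scalar (Fin m ⊕ Fin m) μ : GL (Fin m ⊕ Fin m) F) :
      Matrix (Fin m ⊕ Fin m) (Fin m ⊕ Fin m) F) *ᵥ v = (μ : F) • v := by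
  rw [Matrix.GeneralLinearGroup.coe_scalar, Matrix.scalar_apply, ← Matrix.smul_one_eq_diagonal,
    Matrix.smul_mulVec, Matrix.one_mulVec]

/-- the kernel of the inner-diagonal automorphisms consists of the scalar matrices -/
theorem mem_ker_pspConj_iff_scalar (p : ℕ) [Fact p.Prime] [CharP F p] (hm : 2 ≤ m)
    {g : GSp m F} :
    g ∈ (pspConj : GSp m F →* MulAut (PSp m F)).ker ↔
      ∃ μ : Fˣ, (g : GL (Fin m ⊕ Fin m) F) = Matrix.GeneralLinearGroup.scalar (Fin m ⊕ Fin m) μ := by
  rw [mem_ker_pspConj_iff p hm]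
  constructor
  · rintro ⟨c, hc⟩
    have hc0 : c ≠ 0 := by
      rintro rfl
      obtain ⟨fr⟩ := exists_frame (F := F) hm
      have := hc fr.e
      rw [zero_smul] at this
      exact mg_mulVec_ne_zero g fr.e_ne_zero this
    refine ⟨Units.mk0 c hc0, ?_⟩
    apply Units.ext
    apply Matrix.ext_iff_mulVec.mpr
    intro v
    rw [scalar_mulVec, Units.val_mk0]
    exact hc v
  · rintro ⟨μ, hμ⟩
    refine ⟨(μ : F), fun v => ?_⟩
    show ((g : GL (Fin m ⊕ Fin m) F) : Matrix (Fin m ⊕ Fin m) (Fin m ⊕ Fin m) F) *ᵥ v = _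
    rw [hμ, scalar_mulVec]

/-- the scalar conformal symplectic matrices -/
def scalGSp (m : ℕ) (c : Fˣ) : GSp m F :=
  ⟨Matrix.GeneralLinearGroup.scalar (Fin m ⊕ Fin m) c, ⟨c * c, fun u v => by
    rw [scalar_mulVec, scalar_mulVec, sympForm_smul_left, sympForm_smul_right, Units.val_mul,
      mul_assoc]⟩⟩

theorem mg_scalGSp (c : Fˣ) (v : Fin m ⊕ Fin m → F) : mg (scalGSp m c) *ᵥ v = (c : F) • v :=
  scalar_mulVec c v

theorem pspConj_scalGSp (c : Fˣ) : (pspConj (scalGSp m c) : MulAut (PSp m F)) = 1 :=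
  pspConj_eq_one_of_scalar (mg_scalGSp c)

/-- the inner-diagonal group is normal in the automorphism group, given the standard form of
automorphisms -/
theorem range_pspConj_normal_of_standard
    (hstd : ∀ β : MulAut (PSp m F), ∃ (g : GSp m F) (σ : F ≃+* F), β = pspConj g * pspField σ) :
    ((pspConj : GSp m F →* MulAut (PSp m F)).range).Normal := by
  constructor
  rintro _ ⟨h, rfl⟩ β
  obtain ⟨g, σ, e⟩ := hstd β
  refine ⟨g * gspField σ h * g⁻¹, ?_⟩
  have h1 := pspField_mul_pspConj (m := m) σ h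
  rw [e, map_mul, map_mul, map_inv, _root_.mul_inv_rev]
  calc pspConj g * pspConj (gspField σ h) * (pspConj g)⁻¹
      = pspConj g * (pspConj (gspField σ h) * pspField σ) * ((pspField σ)⁻¹ * (pspConj g)⁻¹) := by
        group
    _ = pspConj g * pspField σ * pspConj h * ((pspField σ)⁻¹ * (pspConj g)⁻¹) := by
        rw [← h1]
        simp only [mul_assoc]

/-- in characteristic two every inner-diagonal automorphism is inner -/
theorem pspConj_eq_conj_of_char_two [Finite F] [CharP F 2] (g : GSp m F) :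
    ∃ s : symplecticGroup (Fin m) F, (pspConj g : MulAut (PSp m F)) = MulAut.conj (pr s) := by
  have hF2 : ringChar F = 2 := ringChar.eq F 2
  obtain ⟨c, hc⟩ := FiniteField.isSquare_of_char_two hF2 (mu g : F)
  have hc0 : c ≠ 0 := by
    rintro rfl
    rw [mul_zero] at hc
    exact mu_ne_zero g hc
  have hform : ∀ u v, sympForm m F ((c⁻¹ • mg g) *ᵥ u) ((c⁻¹ • mg g) *ᵥ v) = sympForm m F u v := by
    intro u v
    rw [smul_mulVec, smul_mulVec, sympForm_smul_left, sympForm_smul_right, B_mg, hc]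
    field_simp
  refine ⟨mkS _ hform, ?_⟩
  rw [← pspConj_toGSp]
  have h1 : g = scalGSp m (Units.mk0 c hc0) * toGSp (mkS _ hform) := by
    apply Subtype.ext
    apply Units.ext
    apply Matrix.ext_iff_mulVec.mpr
    intro v
    show mg g *ᵥ v = mg (scalGSp m (Units.mk0 c hc0) * toGSp (mkS _ hform)) *ᵥ v
    rw [mg_mul_mulVec, mg_scalGSp, mg_toGSp, mt_mkS, smul_mulVec, smul_smul, Units.val_mk0,
      mul_inv_cancel₀ hc0, one_smul]
  conv_lhs => rw [h1]
  rw [map_mul, pspConj_scalGSp, one_mul]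

theorem range_pspConj_normal_char_two [Finite F] [CharP F 2] :
    ((pspConj : GSp m F →* MulAut (PSp m F)).range).Normal := by
  constructor
  rintro _ ⟨h, rfl⟩ β
  obtain ⟨s, hs⟩ := pspConj_eq_conj_of_char_two h
  obtain ⟨t, ht⟩ := pr_surjective (β (pr s))
  refine ⟨toGSp t, ?_⟩
  rw [pspConj_toGSp, ht, hs, aut_mul_conj', mul_inv_cancel_right]

end Cfsg.Agent.Helper8.AutSp
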