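import Mathlib
import Cfsg.Agent.Helper8.AutSpw
import Cfsg.Agent.Helper8.AutSLnW
import Cfsg.Agent.Helper8.SpSSympIso
import Cfsg.Agent.Helper8.SpSMat

set_option autoImplicit false
set_option linter.unusedSectionVars false

/-! Automorphisms of `PSp_{2m}(q)`: Hilbert's Theorem 90 for the conformal symplectic group
(helper8). -/

namespace Cfsg.Agent.Helper8.AutSp

open Matrix Cfsg Cfsg.Agent.Helper7.Symp Cfsg.Agent.Helper8.SpRoot
open Cfsg.Agent.Helper8.AutSLn (gls nrmGL nrmF unitsAut)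
open Cfsg.Agent.Helper8.SpS (bform bform_comp_apply bform_injective nondeg_bform alt_bform_J Alt
  Nondeg exists_symp_isometry)

variable {F : Type*} [Field F] {m : ℕ}

theorem sympForm_eq_bform (u v : Fin m ⊕ Fin m → F) :
    sympForm m F u v = bform (J (Fin m) F) u v := by
  unfold bform sympForm
  rw [Matrix.toLinearMap₂'_apply']

theorem bform_smul {ι : Type} [Fintype ι] [DecidableEq ι] (c : F) (M : Matrix ι ι F)
    (u v : ι → F) : bform (c • M) u v = c * bform M u v := by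
  unfold bform
  rw [map_smul]
  rfl

theorem sympForm_mulVec_mulVec (M : Matrix (Fin m ⊕ Fin m) (Fin m ⊕ Fin m) F)
    (u v : Fin m ⊕ Fin m → F) :
    sympForm m F (M *ᵥ u) (M *ᵥ v) = bform (Mᵀ * J (Fin m) F * M) u v := by
  rw [sympForm_eq_bform, ← bform_comp_apply]
  rfl

/-- the matrix form of the conformal condition -/
theorem isConf_iff (M : Matrix (Fin m ⊕ Fin m) (Fin m ⊕ Fin m) F) (c : F) :
    (∀ u v, sympForm m F (M *ᵥ u) (M *ᵥ v) = c * sympForm m F u v) ↔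
      Mᵀ * J (Fin m) F * M = c • J (Fin m) F := by
  constructor
  · intro h
    apply bform_injective
    apply LinearMap.ext₂
    intro u v
    rw [← sympForm_mulVec_mulVec, h, bform_smul, sympForm_eq_bform]
  · intro h u v
    rw [sympForm_mulVec_mulVec, h, bform_smul, sympForm_eq_bform]


theorem J_map' {F₀ : Type*} [Field F₀] (ι : F₀ →+* F) : (J (Fin m) F₀).map ι = J (Fin m) F := by
  unfold J
  rw [fromBlocks_map]
  congr 1
  · ext i j; simp
  · ext i j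
    by_cases h : i = j
    · subst h; simp
    · simp [h]
  · ext i j
    by_cases h : i = j
    · subst h; simp
    · simp [h]
  · ext i j; simp

theorem map_transpose_J_mul {F₀ : Type*} [Field F₀] (ι : F₀ →+* F)
    (M : Matrix (Fin m ⊕ Fin m) (Fin m ⊕ Fin m) F₀) :
    (Mᵀ * J (Fin m) F₀ * M).map ι = (M.map ι)ᵀ * J (Fin m) F * M.map ι := by
  rw [Matrix.map_mul, Matrix.map_mul, J_map', Matrix.transpose_map]

theorem map_smul_mat {F₀ : Type*} [Field F₀] (ι : F₀ →+* F) (c : F₀)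
    (M : Matrix (Fin m ⊕ Fin m) (Fin m ⊕ Fin m) F₀) : (c • M).map ι = ι c • M.map ι := by
  ext i j
  simp

/-- iterating a twisted eigen-equation -/
theorem iterate_twisted (σ : F ≃+* F) (A : Matrix (Fin m ⊕ Fin m) (Fin m ⊕ Fin m) F) (c : Fˣ)
    (hA : A = (c : F) • A.map σ) (k : ℕ) :
    A = ((nrmF σ c k : Fˣ) : F) • A.map (σ ^ k : F ≃+* F) := by
  induction k with
  | zero =>
    have : nrmF σ c 0 = 1 := rfl
    rw [this, Units.val_one, one_smul, pow_zero]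
    ext i j
    rfl
  | succ k ih =>
    have h1 : A.map (σ ^ k : F ≃+* F) =
        (((unitsAut (σ ^ k) c : Fˣ) : F)) • A.map (σ ^ (k + 1) : F ≃+* F) := by
      conv_lhs => rw [hA]
      ext i j
      simp only [Matrix.map_apply, Matrix.smul_apply, smul_eq_mul, map_mul]
      rw [pow_succ]
      rfl
    rw [Cfsg.Agent.Helper8.AutSLn.nrmF_succ', Units.val_mul, ← smul_smul, ← h1]
    exact ih

/-- descent of a matrix fixed by the field automorphism -/
theorem exists_mat_map_eq {F₀ : Type*} [Field F₀] (σ : F ≃+* F) (ι : F₀ →+* F)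
    (hsurj : ∀ b, σ b = b → ∃ a, ι a = b) (A : Matrix (Fin m ⊕ Fin m) (Fin m ⊕ Fin m) F)
    (hA : A.map σ = A) : ∃ A₀ : Matrix (Fin m ⊕ Fin m) (Fin m ⊕ Fin m) F₀, A₀.map ι = A := by
  have h2 : ∀ i j, ∃ a, ι a = A i j := by
    intro i j
    apply hsurj
    have := congrFun (congrFun hA i) j
    exact this
  choose A₀ hA₀ using h2
  exact ⟨Matrix.of A₀, by ext i j; exact hA₀ i j⟩

theorem map_bform {F₀ : Type*} [Field F₀] (ι : F₀ →+* F)
    (A₀ : Matrix (Fin m ⊕ Fin m) (Fin m ⊕ Fin m) F₀) (u v : Fin m ⊕ Fin m → F₀) :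
    ι (bform A₀ u v) = bform (A₀.map ι) (ι ∘ u) (ι ∘ v) := by
  unfold bform
  rw [Matrix.toLinearMap₂'_apply', Matrix.toLinearMap₂'_apply', RingHom.map_dotProduct]
  congr 1
  ext i
  exact RingHom.map_mulVec ι A₀ v i

/-- a nondegenerate alternating matrix is congruent to the standard one -/
theorem exists_eq_transpose_J_mul (A : Matrix (Fin m ⊕ Fin m) (Fin m ⊕ Fin m) F)
    (halt : ∀ u, bform A u u = 0) (hdet : A.det ≠ 0) :
    ∃ K : Matrix (Fin m ⊕ Fin m) (Fin m ⊕ Fin m) F, A = Kᵀ * J (Fin m) F * K := by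
  have hJdet : (J (Fin m) F).det ≠ 0 := (Matrix.isUnit_det_J (Fin m) F).ne_zero
  obtain ⟨z, hz⟩ := exists_symp_isometry (bform (J (Fin m) F)) (bform A) alt_bform_J
    (nondeg_bform _ hJdet) halt (nondeg_bform _ hdet)
  refine ⟨LinearMap.toMatrix' z, ?_⟩
  apply bform_injective
  apply LinearMap.ext₂
  intro u v
  rw [hz, ← bform_comp_apply, Matrix.toLin'_toMatrix']


/-- **Hilbert's Theorem 90 for the conformal symplectic group**, matrix form -/
theorem hilbert90_conf (hm : 1 ≤ m) (σ : F ≃+* F) {r : ℕ} (hr : 0 < r) (hσr : σ ^ r = 1)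
    (hσ : ∀ i j : Fin r, σ ^ (i : ℕ) = σ ^ (j : ℕ) → i = j) {F₀ : Type*} [Field F₀]
    (ι : F₀ →+* F) (hfix : ∀ a, σ (ι a) = ι a) (hsurj : ∀ b, σ b = b → ∃ a, ι a = b)
    (g : GL (Fin m ⊕ Fin m) F) (c : Fˣ)
    (hg : (g : Matrix (Fin m ⊕ Fin m) (Fin m ⊕ Fin m) F)ᵀ * J (Fin m) F *
      (g : Matrix (Fin m ⊕ Fin m) (Fin m ⊕ Fin m) F) = (c : F) • J (Fin m) F)
    (hN : nrmGL σ g r = 1) :
    ∃ (h : GL (Fin m ⊕ Fin m) F) (ν : Fˣ),
      (h : Matrix (Fin m ⊕ Fin m) (Fin m ⊕ Fin m) F)ᵀ * J (Fin m) F *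
        (h : Matrix (Fin m ⊕ Fin m) (Fin m ⊕ Fin m) F) = (ν : F) • J (Fin m) F ∧
      g = h * (gls σ h)⁻¹ := by
  have : Nonempty (Fin m ⊕ Fin m) := ⟨Sum.inl ⟨0, hm⟩⟩
  have hJdet : (J (Fin m) F).det ≠ 0 := (Matrix.isUnit_det_J (Fin m) F).ne_zero
  obtain ⟨h₁, hh₁⟩ := Cfsg.Agent.Helper8.AutSLn.hilbert90_GL σ hr hσr hσ g hN
  -- matrices
  obtain ⟨H, hH⟩ : ∃ H : Matrix (Fin m ⊕ Fin m) (Fin m ⊕ Fin m) F,
    H = (h₁ : Matrix (Fin m ⊕ Fin m) (Fin m ⊕ Fin m) F) := ⟨_, rfl⟩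
  obtain ⟨G, hG⟩ : ∃ G : Matrix (Fin m ⊕ Fin m) (Fin m ⊕ Fin m) F,
    G = (g : Matrix (Fin m ⊕ Fin m) (Fin m ⊕ Fin m) F) := ⟨_, rfl⟩
  rw [← hG] at hg
  have hHdet : H.det ≠ 0 := by
    rw [hH]
    have := (Matrix.GeneralLinearGroup.det h₁).ne_zero
    rwa [Matrix.GeneralLinearGroup.val_det_apply] at this
  have hGH : G * H.map σ = H := by
    have e1 : g * gls σ h₁ = h₁ := by
      conv_lhs => rw [hh₁]
      rw [inv_mul_cancel_right]
    have e2 := congrArg (fun x : GL (Fin m ⊕ Fin m) F =>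
      (x : Matrix (Fin m ⊕ Fin m) (Fin m ⊕ Fin m) F)) e1
    simp only [Units.val_mul] at e2
    rw [hG, hH]
    exact e2
  -- the Gram matrix
  obtain ⟨A, hAdef⟩ : ∃ A : Matrix (Fin m ⊕ Fin m) (Fin m ⊕ Fin m) F,
    A = Hᵀ * J (Fin m) F * H := ⟨_, rfl⟩
  have hAσ : A.map σ = (H.map σ)ᵀ * J (Fin m) F * H.map σ := by
    rw [hAdef]
    exact map_transpose_J_mul (σ : F →+* F) H
  have hA : A = (c : F) • A.map σ := by
    rw [hAσ]
    conv_lhs => rw [hAdef, ← hGH]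
    rw [Matrix.transpose_mul]
    have : (H.map σ)ᵀ * Gᵀ * J (Fin m) F * (G * H.map σ) =
        (H.map σ)ᵀ * (Gᵀ * J (Fin m) F * G) * H.map σ := by
      simp only [Matrix.mul_assoc]
    rw [this, hg, Matrix.mul_smul, Matrix.smul_mul]
  have hAdet : A.det ≠ 0 := by
    rw [hAdef, Matrix.det_mul, Matrix.det_mul, Matrix.det_transpose]
    exact mul_ne_zero (mul_ne_zero hHdet hJdet) hHdet
  have hA0 : A ≠ 0 := by
    rintro rfl
    exact hAdet Matrix.det_zero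
  -- the norm of the multiplier is one
  have hNc : nrmF σ c r = 1 := by
    have h1 := iterate_twisted σ A c hA r
    rw [hσr] at h1
    have h2 : A.map (1 : F ≃+* F) = A := by
      ext i j
      rfl
    rw [h2] at h1
    have h3 : ((1 : F) - ((nrmF σ c r : Fˣ) : F)) • A = 0 := by
      rw [sub_smul, one_smul, ← h1, sub_self]
    rcases smul_eq_zero.mp h3 with h4 | h4
    · apply Units.ext
      rw [Units.val_one]
      exact (sub_eq_zero.mp h4).symm
    · exact absurd h4 hA0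
  obtain ⟨ν, hν⟩ := Cfsg.Agent.Helper8.AutSLn.hilbert90_units σ hr hσr hσ c hNc
  have hν' : (c : F) * σ (ν : F) = ν := by
    have e1 : c * unitsAut σ ν = ν := by
      rw [hν, inv_mul_cancel_right]
    have e2 := congrArg (fun x : Fˣ => (x : F)) e1
    exact e2
  -- the rescaled Gram matrix is fixed
  have hA' : ((ν : F)⁻¹ • A).map σ = (ν : F)⁻¹ • A := by
    refine (map_smul_mat (σ : F →+* F) _ _).trans ?_
    conv_rhs => rw [hA]
    rw [smul_smul]
    congr 1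
    show σ ((ν : F)⁻¹) = (ν : F)⁻¹ * c
    have hσν : σ (ν : F) ≠ 0 := (map_ne_zero σ).mpr ν.ne_zero
    rw [map_inv₀, eq_comm, inv_mul_eq_iff_eq_mul₀ ν.ne_zero]
    exact (eq_mul_inv_iff_mul_eq₀ hσν).mpr hν'
  obtain ⟨A₀, hA₀⟩ := exists_mat_map_eq σ ι hsurj _ hA'
  have halt₀ : ∀ u, bform A₀ u u = 0 := by
    intro u
    apply ι.injective
    rw [map_bform, hA₀, map_zero, bform_smul, hAdef, ← sympForm_mulVec_mulVec, sympForm_self,
      mul_zero]
  have hdet₀ : A₀.det ≠ 0 := by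
    intro h0
    have e1 : (A₀.map ι).det = 0 := by
      have := RingHom.map_det ι A₀
      rw [h0, map_zero] at this
      exact this.symm
    rw [hA₀, Matrix.det_smul] at e1
    rcases mul_eq_zero.mp e1 with e2 | e2
    · exact pow_ne_zero _ (inv_ne_zero ν.ne_zero) e2
    · exact hAdet e2
  obtain ⟨K₀, hK₀⟩ := exists_eq_transpose_J_mul A₀ halt₀ hdet₀
  obtain ⟨K, hK⟩ : ∃ K : Matrix (Fin m ⊕ Fin m) (Fin m ⊕ Fin m) F, K = K₀.map ι := ⟨_, rfl⟩
  have hAK : A = (ν : F) • (Kᵀ * J (Fin m) F * K) := by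
    rw [hK, ← map_transpose_J_mul, ← hK₀, hA₀, smul_smul, mul_inv_cancel₀ ν.ne_zero, one_smul]
  have hKdet : K.det ≠ 0 := by
    intro h0
    apply hAdet
    rw [hAK, Matrix.det_smul, Matrix.det_mul, Matrix.det_mul, h0, mul_zero, mul_zero]
  have hKσ : K.map σ = K := by
    rw [hK]
    ext i j
    exact hfix _
  obtain ⟨k, hk⟩ : ∃ k : GL (Fin m ⊕ Fin m) F,
      (k : Matrix (Fin m ⊕ Fin m) (Fin m ⊕ Fin m) F) = K :=
    ⟨Matrix.GeneralLinearGroup.mkOfDetNeZero K hKdet, rfl⟩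
  have hkσ : gls σ k = k := by
    apply Units.ext
    show (k : Matrix (Fin m ⊕ Fin m) (Fin m ⊕ Fin m) F).map σ = _
    rw [hk, hKσ]
  refine ⟨h₁ * k⁻¹, ν, ?_, ?_⟩
  · obtain ⟨Ki, hKi⟩ : ∃ Ki : Matrix (Fin m ⊕ Fin m) (Fin m ⊕ Fin m) F,
      Ki = ((k⁻¹ : GL (Fin m ⊕ Fin m) F) : Matrix (Fin m ⊕ Fin m) (Fin m ⊕ Fin m) F) := ⟨_, rfl⟩
    have hKKi : K * Ki = 1 := by
      rw [← hk, hKi, ← Units.val_mul, mul_inv_cancel, Units.val_one]
    rw [Units.val_mul, ← hH, ← hKi, Matrix.transpose_mul]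
    have e1 : Kiᵀ * Hᵀ * J (Fin m) F * (H * Ki) = Kiᵀ * (Hᵀ * J (Fin m) F * H) * Ki := by
      simp only [Matrix.mul_assoc]
    rw [e1, ← hAdef, hAK, Matrix.mul_smul, Matrix.smul_mul]
    congr 1
    have e2 : Kiᵀ * (Kᵀ * J (Fin m) F * K) * Ki = (K * Ki)ᵀ * J (Fin m) F * (K * Ki) := by
      rw [Matrix.transpose_mul]
      simp only [Matrix.mul_assoc]
    rw [e2, hKKi, Matrix.transpose_one, Matrix.one_mul, Matrix.mul_one]
  · rw [map_mul, map_inv, hkσ, _root_.mul_inv_rev, inv_inv, mul_assoc, inv_mul_cancel_left]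
    exact hh₁

end Cfsg.Agent.Helper8.AutSp
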