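import Mathlib
import Cfsg.Agent.Helper8.AutSpx
import Cfsg.Agent.Helper8.AutSLnT

set_option autoImplicit false
set_option linter.unusedSectionVars false

/-! Automorphisms of `PSp_{2m}(q)`: elements of prime order in the coset of a field automorphism
(helper8). -/

namespace Cfsg.Agent.Helper8.AutSp

open Matrix Cfsg Cfsg.Agent.Helper7.Symp Cfsg.Agent.Helper8.SpRoot
open Cfsg.Agent.Helper8.AutSLn (gls nrmGL nrmF unitsAut)

variable {F : Type*} [Field F] {m : ℕ}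

theorem mem_GSp_iff (g : GL (Fin m ⊕ Fin m) F) :
    g ∈ GSp m F ↔ ∃ c : Fˣ, (g : Matrix (Fin m ⊕ Fin m) (Fin m ⊕ Fin m) F)ᵀ * J (Fin m) F *
      (g : Matrix (Fin m ⊕ Fin m) (Fin m ⊕ Fin m) F) = (c : F) • J (Fin m) F := by
  constructor
  · rintro ⟨c, hc⟩
    exact ⟨c, (isConf_iff _ _).mp hc⟩
  · rintro ⟨c, hc⟩
    exact ⟨c, (isConf_iff _ _).mpr hc⟩

/-- **Hilbert's Theorem 90 for the conformal symplectic group** -/
theorem hilbert90_GSp (hm : 1 ≤ m) (σ : F ≃+* F) {r : ℕ} (hr : 0 < r) (hσr : σ ^ r = 1)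
    (hσ : ∀ i j : Fin r, σ ^ (i : ℕ) = σ ^ (j : ℕ) → i = j) {F₀ : Type*} [Field F₀]
    (ι : F₀ →+* F) (hfix : ∀ a, σ (ι a) = ι a) (hsurj : ∀ b, σ b = b → ∃ a, ι a = b)
    (g : GSp m F) (hN : nrmGL σ (g : GL (Fin m ⊕ Fin m) F) r = 1) :
    ∃ h : GSp m F, g = h * (gspField σ h)⁻¹ := by
  obtain ⟨c, hc⟩ := (mem_GSp_iff _).mp g.2
  obtain ⟨h, ν, hh, e⟩ := hilbert90_conf hm σ hr hσr hσ ι hfix hsurj _ c hc hN
  refine ⟨⟨h, (mem_GSp_iff h).mpr ⟨ν, hh⟩⟩, ?_⟩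
  apply Subtype.ext
  rw [Subgroup.coe_mul, Subgroup.coe_inv, coe_gspField']
  exact e

/-- **the field-automorphism case**: an element of the coset of `pspField σ` whose `r`-th power is
trivial is conjugate to `pspField σ` under the inner-diagonal group -/
theorem psp_field_case [Finite F] (p : ℕ) [Fact p.Prime] [CharP F p] (hm : 2 ≤ m) (σ : F ≃+* F)
    {r : ℕ} (hr : 0 < r) (hσr : σ ^ r = 1)
    (hσ : ∀ i j : Fin r, σ ^ (i : ℕ) = σ ^ (j : ℕ) → i = j) {F₀ : Type*} [Field F₀]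
    (ι : F₀ →+* F) (hfix : ∀ a, σ (ι a) = ι a) (hsurj : ∀ b, σ b = b → ∃ a, ι a = b)
    (g : GSp m F) (hy : (pspConj g * pspField σ : MulAut (PSp m F)) ^ r = 1) :
    ∃ h : GSp m F, (pspConj g * pspField σ : MulAut (PSp m F)) =
      pspConj h * pspField σ * (pspConj h)⁻¹ := by
  rw [psa_pow, hσr, map_one, mul_one, ← MonoidHom.mem_ker, mem_ker_pspConj_iff_scalar p hm,
    coe_nrmGSp] at hy
  obtain ⟨μ, hμ⟩ := hy
  have h2 : unitsAut σ μ = μ := by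
    have e1 := Cfsg.Agent.Helper8.AutSLn.nrmGL_succ σ (g : GL (Fin m ⊕ Fin m) F) r
    have e2 := Cfsg.Agent.Helper8.AutSLn.nrmGL_succ' σ (g : GL (Fin m ⊕ Fin m) F) r
    have e3 : gls (1 : F ≃+* F) (g : GL (Fin m ⊕ Fin m) F) = g := by
      apply Units.ext
      ext i j
      rfl
    have : Nonempty (Fin m ⊕ Fin m) := ⟨Sum.inl ⟨0, by omega⟩⟩
    rw [hσr, e3, e1, hμ, Cfsg.Agent.Helper8.AutSLn.gls_scalar,
      Matrix.GeneralLinearGroup.scalar_commute μ (g : GL (Fin m ⊕ Fin m) F)] at e2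
    exact Cfsg.Agent.Helper8.AutSLn.scalar_injective (mul_left_cancel e2)
  obtain ⟨c, hc⟩ := Cfsg.Agent.Helper8.AutSLn.exists_nrmF_eq σ hr hσr hσ μ h2
  -- the corrected element
  obtain ⟨g', hg'⟩ : ∃ g' : GSp m F, g' = scalGSp m c⁻¹ * g := ⟨_, rfl⟩
  have hgg' : (pspConj g' : MulAut (PSp m F)) = pspConj g := by
    rw [hg', map_mul, pspConj_scalGSp, one_mul]
  have hN : nrmGL σ (g' : GL (Fin m ⊕ Fin m) F) r = 1 := by
    rw [hg', Subgroup.coe_mul]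
    show nrmGL σ (Matrix.GeneralLinearGroup.scalar (Fin m ⊕ Fin m) c⁻¹ *
      (g : GL (Fin m ⊕ Fin m) F)) r = 1
    rw [Cfsg.Agent.Helper8.AutSLn.nrmGL_scalar_mul, Cfsg.Agent.Helper8.AutSLn.nrmF_inv, hc,
      hμ, ← map_mul, inv_mul_cancel, map_one]
  obtain ⟨h, hh⟩ := hilbert90_GSp (by omega) σ hr hσr hσ ι hfix hsurj g' hN
  refine ⟨h, ?_⟩
  rw [← hgg', hh, map_mul, map_inv, mul_assoc, mul_assoc]
  congr 1
  rw [← map_inv, ← map_inv, ← gspField_inv, pspField_mul_pspConj]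

end Cfsg.Agent.Helper8.AutSp
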