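import Mathlib
import Cfsg.Agent.Helper8.AutSpy

set_option autoImplicit false
set_option linter.unusedSectionVars false

/-! Automorphisms of `PSp_{2m}(q)`: the coset of a field automorphism of prime order (helper8). -/

namespace Cfsg.Agent.Helper8.AutSp

open Matrix Cfsg Cfsg.Agent.Helper7.Symp Cfsg.Agent.Helper8.SpRoot
open Cfsg.Agent.Helper8.AutSLn (gls nrmGL nrmF unitsAut)

variable {F : Type*} [Field F] {m : ℕ}

/-- the inner-diagonal group is normal in the automorphism group -/
theorem range_pspConj_normal [Fintype F] (p : ℕ) [Fact p.Prime] [CharP F p] (hm : 2 ≤ m) :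
    ((pspConj : GSp m F →* MulAut (PSp m F)).range).Normal := by
  by_cases h2 : (2 : F) = 0
  · have hp : p = 2 := by
      have h3 : ((2 : ℕ) : F) = 0 := by exact_mod_cast h2
      have h4 := (CharP.cast_eq_zero_iff F p 2).mp h3
      exact ((Nat.prime_dvd_prime_iff_eq Fact.out Nat.prime_two).mp h4)
    subst hp
    exact range_pspConj_normal_char_two
  · exact range_pspConj_normal_of_standard (aut_PSp_standard_odd p h2 hm)

/-- **the elements of prime order in the coset of a field automorphism of `PSp_{2m}(q)`** -/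
theorem coset_conj_psp [Fintype F] (p : ℕ) [Fact p.Prime] [CharP F p] (hm : 2 ≤ m)
    (x δ : MulAut (PSp m F)) (hx : Cfsg.IsFieldAutClassPSp x) {r : ℕ} (hr : r.Prime)
    (hxr : orderOf x = r) (hδ : δ ∈ Cfsg.inndiagPSp m F) :
    orderOf (δ * x) = r ↔ Cfsg.IsConjUnder (Cfsg.inndiagPSp m F) x (δ * x) := by
  constructor
  · intro hord
    rw [inndiagPSp_eq] at hδ ⊢
    have := range_pspConj_normal (F := F) (m := m) p hm
    obtain ⟨α, σ, -, hφ'⟩ := hx
    have e := eq_pspField_of_isStdFieldAut hφ'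
    have hσ : orderOf σ = r := by
      rw [← orderOf_injective _ (pspField_injective (F := F) (m := m) p hm) σ, ← e, ← hxr]
      exact MulEquiv.orderOf_eq (MulAut.conj α) x
    refine Cfsg.Agent.Helper8.AutSLn.conj_reduce _ α x δ _ e hδ ?_ hord
    rintro _ ⟨g, rfl⟩ ho
    have hσr : σ ^ r = 1 := by rw [← hσ, pow_orderOf_eq_one]
    have hinj : ∀ i j : Fin r, σ ^ (i : ℕ) = σ ^ (j : ℕ) → i = j := by
      intro i j e
      apply Fin.ext
      apply pow_injOn_Iio_orderOf (x := σ) _ _ e
      · rw [hσ]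
        exact i.2
      · rw [hσ]
        exact j.2
    have hy : (pspConj g * pspField σ : MulAut (PSp m F)) ^ r = 1 := by
      rw [← ho, pow_orderOf_eq_one]
    obtain ⟨h, hh⟩ := psp_field_case p hm σ hr.pos hσr hinj
      (Cfsg.Agent.Helper8.AutSLn.fixField σ).subtype (fun a => a.2) (fun b hb => ⟨⟨b, hb⟩, rfl⟩) g hy
    exact ⟨pspConj h, ⟨h, rfl⟩, hh⟩
  · rintro ⟨h, _, e⟩
    rw [e, ← hxr]
    exact MulEquiv.orderOf_eq (MulAut.conj h) x

end Cfsg.Agent.Helper8.AutSp
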