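import Mathlib
import Cfsg.Agent.Helper8.AutSpz

set_option autoImplicit false
set_option linter.unusedSectionVars false

/-! Automorphisms of `PSp_{2m}(q)`: the centraliser of a field automorphism in the inner-diagonal
group is the projective conformal symplectic group over the fixed field (helper8). -/

namespace Cfsg.Agent.Helper8.AutSp

open Matrix Cfsg Cfsg.Agent.Helper7.Symp Cfsg.Agent.Helper8.SpRoot
open Cfsg.Agent.Helper8.AutSLn (gls nrmGL nrmF unitsAut)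

variable {F : Type*} [Field F] {m : ℕ} {F₀ : Type*} [Field F₀]

/-- the conformal symplectic matrices over a subfield, as conformal symplectic matrices over the
big field -/
def gspMap (ι : F₀ →+* F) (m : ℕ) : GSp m F₀ →* GSp m F where
  toFun g := ⟨Matrix.GeneralLinearGroup.map ι (g : GL (Fin m ⊕ Fin m) F₀), by
    obtain ⟨c, hc⟩ := (mem_GSp_iff _).mp g.2
    rw [mem_GSp_iff]
    refine ⟨Units.map (ι : F₀ →* F) c, ?_⟩
    show (((g : GL (Fin m ⊕ Fin m) F₀) : Matrix (Fin m ⊕ Fin m) (Fin m ⊕ Fin m) F₀).map ι)ᵀ *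
      J (Fin m) F * ((g : GL (Fin m ⊕ Fin m) F₀) : Matrix (Fin m ⊕ Fin m) (Fin m ⊕ Fin m) F₀).map ι
        = ι (c : F₀) • J (Fin m) F
    rw [← map_transpose_J_mul, hc, map_smul_mat, J_map']⟩
  map_one' := by
    apply Subtype.ext
    exact map_one _
  map_mul' a b := by
    apply Subtype.ext
    exact map_mul _ _ _

theorem coe_gspMap (ι : F₀ →+* F) (g : GSp m F₀) :
    ((gspMap ι m g : GSp m F) : GL (Fin m ⊕ Fin m) F) =
      Matrix.GeneralLinearGroup.map ι (g : GL (Fin m ⊕ Fin m) F₀) := rfl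

theorem gspField_gspMap (σ : F ≃+* F) (ι : F₀ →+* F) (hfix : ∀ a, σ (ι a) = ι a) (g : GSp m F₀) :
    gspField σ (gspMap ι m g) = gspMap ι m g := by
  apply Subtype.ext
  rw [coe_gspField', coe_gspMap]
  apply Units.ext
  ext i j
  exact hfix _

/-- the conformal symplectic group over the fixed field acting on `PSp` -/
noncomputable def subHomSp (ι : F₀ →+* F) (m : ℕ) : GSp m F₀ →* MulAut (PSp m F) :=
  pspConj.comp (gspMap ι m)

theorem subHomSp_apply (ι : F₀ →+* F) (g : GSp m F₀) :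
    subHomSp ι m g = (pspConj (gspMap ι m g) : MulAut (PSp m F)) := rfl

theorem ker_subHomSp (p : ℕ) [Fact p.Prime] [CharP F p] (hm : 2 ≤ m) (ι : F₀ →+* F) :
    (subHomSp (F := F) ι m).ker =
      (Cfsg.Geo.scalars (Fin m ⊕ Fin m) F₀).subgroupOf (GSp m F₀) := by
  ext g
  rw [MonoidHom.mem_ker, Subgroup.mem_subgroupOf, subHomSp_apply, ← MonoidHom.mem_ker,
    mem_ker_pspConj_iff_scalar p hm, coe_gspMap]
  obtain ⟨i₀⟩ : Nonempty (Fin m ⊕ Fin m) := ⟨Sum.inl ⟨0, by omega⟩⟩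
  constructor
  · rintro ⟨c, hc⟩
    have h1 : ∀ i j, ι (((g : GL (Fin m ⊕ Fin m) F₀) :
        Matrix (Fin m ⊕ Fin m) (Fin m ⊕ Fin m) F₀) i j) =
        (Matrix.scalar (Fin m ⊕ Fin m) (c : F)) i j := by
      intro i j
      have := congrArg (fun x : GL (Fin m ⊕ Fin m) F =>
        (x : Matrix (Fin m ⊕ Fin m) (Fin m ⊕ Fin m) F) i j) hc
      exact this
    have h00 := h1 i₀ i₀
    rw [Matrix.scalar_apply, Matrix.diagonal_apply_eq] at h00
    have hne : ((g : GL (Fin m ⊕ Fin m) F₀) :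
        Matrix (Fin m ⊕ Fin m) (Fin m ⊕ Fin m) F₀) i₀ i₀ ≠ 0 := by
      intro h0
      rw [h0, map_zero] at h00
      exact c.ne_zero h00.symm
    refine ⟨Units.mk0 _ hne, ?_⟩
    apply Units.ext
    ext i j
    apply ι.injective
    rw [h1]
    show ι ((Matrix.scalar (Fin m ⊕ Fin m) (((g : GL (Fin m ⊕ Fin m) F₀) :
      Matrix (Fin m ⊕ Fin m) (Fin m ⊕ Fin m) F₀) i₀ i₀)) i j) = _
    rw [Matrix.scalar_apply, Matrix.scalar_apply, Matrix.diagonal_apply, Matrix.diagonal_apply]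
    by_cases hij : i = j
    · rw [if_pos hij, if_pos hij, h00]
    · rw [if_neg hij, if_neg hij, map_zero]
  · rintro ⟨c, hc⟩
    refine ⟨Units.map (ι : F₀ →* F) c, ?_⟩
    rw [← hc]
    apply Units.ext
    ext i j
    show ι ((Matrix.scalar (Fin m ⊕ Fin m) (c : F₀)) i j) =
      (Matrix.scalar (Fin m ⊕ Fin m) (ι c)) i j
    rw [Matrix.scalar_apply, Matrix.scalar_apply, Matrix.diagonal_apply, Matrix.diagonal_apply]
    by_cases hij : i = j
    · rw [if_pos hij, if_pos hij]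
    · rw [if_neg hij, if_neg hij, map_zero]

/-- a conformal symplectic matrix whose automorphism commutes with the field automorphism is, up
to a scalar, fixed by the field automorphism -/
theorem exists_fixed_of_commute (p : ℕ) [Fact p.Prime] [CharP F p] (hm : 2 ≤ m) (σ : F ≃+* F)
    {r : ℕ} (hr : 0 < r) (hσr : σ ^ r = 1)
    (hσ : ∀ i j : Fin r, σ ^ (i : ℕ) = σ ^ (j : ℕ) → i = j) (g : GSp m F)
    (h : (pspField σ * pspConj g : MulAut (PSp m F)) = pspConj g * pspField σ) :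
    ∃ d : Fˣ, gspField σ (scalGSp m d * g) = scalGSp m d * g := by
  have : Nonempty (Fin m ⊕ Fin m) := ⟨Sum.inl ⟨0, by omega⟩⟩
  rw [pspField_mul_pspConj, mul_left_inj] at h
  have h1 : gspField σ g * g⁻¹ ∈ (pspConj : GSp m F →* MulAut (PSp m F)).ker := by
    rw [MonoidHom.mem_ker, map_mul, map_inv, h, mul_inv_cancel]
  obtain ⟨c, hc⟩ := (mem_ker_pspConj_iff_scalar p hm).mp h1
  have h2 : gls σ (g : GL (Fin m ⊕ Fin m) F) =
      Matrix.GeneralLinearGroup.scalar (Fin m ⊕ Fin m) c * (g : GL (Fin m ⊕ Fin m) F) := by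
    rw [← hc, Subgroup.coe_mul, Subgroup.coe_inv, inv_mul_cancel_right, coe_gspField']
  have hc2 : nrmF σ c r = 1 := by
    have h3 := Cfsg.Agent.Helper8.AutSLn.gls_pow_of_gls_eq σ (g : GL (Fin m ⊕ Fin m) F) c h2 r
    have h4 : gls (σ ^ r) (g : GL (Fin m ⊕ Fin m) F) = g := by
      rw [hσr]
      apply Units.ext
      ext i j
      rfl
    rw [h4] at h3
    apply Cfsg.Agent.Helper8.AutSLn.scalar_injective (m := Fin m ⊕ Fin m)
    rw [map_one]
    exact (mul_right_cancel (h3.symm.trans (one_mul _).symm))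
  obtain ⟨d, hd⟩ := Cfsg.Agent.Helper8.AutSLn.hilbert90_units σ hr hσr hσ c hc2
  refine ⟨d, ?_⟩
  apply Subtype.ext
  rw [coe_gspField', Subgroup.coe_mul]
  show gls σ (Matrix.GeneralLinearGroup.scalar (Fin m ⊕ Fin m) d * (g : GL (Fin m ⊕ Fin m) F)) =
    Matrix.GeneralLinearGroup.scalar (Fin m ⊕ Fin m) d * (g : GL (Fin m ⊕ Fin m) F)
  rw [map_mul, Cfsg.Agent.Helper8.AutSLn.gls_scalar, h2, ← mul_assoc, ← map_mul, hd,
    mul_comm d, mul_inv_cancel_left]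

/-- descent of a conformal symplectic matrix fixed by the field automorphism -/
theorem exists_gspMap_eq (hm : 1 ≤ m) (σ : F ≃+* F) (ι : F₀ →+* F)
    (hsurj : ∀ b, σ b = b → ∃ a, ι a = b) (g : GSp m F) (hg : gspField σ g = g) :
    ∃ g₀ : GSp m F₀, gspMap ι m g₀ = g := by
  have hg' : gls σ (g : GL (Fin m ⊕ Fin m) F) = g := by
    rw [← coe_gspField', hg]
  obtain ⟨g₀, hg₀⟩ := Cfsg.Agent.Helper8.AutSLn.exists_map_eq σ ι hsurj _ hg'
  obtain ⟨c, hc⟩ := (mem_GSp_iff _).mp g.2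
  obtain ⟨M, hM⟩ : ∃ M : Matrix (Fin m ⊕ Fin m) (Fin m ⊕ Fin m) F₀,
    M = (g₀ : Matrix (Fin m ⊕ Fin m) (Fin m ⊕ Fin m) F₀) := ⟨_, rfl⟩
  have hMι : M.map ι = ((g : GL (Fin m ⊕ Fin m) F) : Matrix (Fin m ⊕ Fin m) (Fin m ⊕ Fin m) F) := by
    rw [← hg₀, hM]
    rfl
  have h1 : (Mᵀ * J (Fin m) F₀ * M).map ι = (c : F) • J (Fin m) F := by
    rw [map_transpose_J_mul, hMι, hc]
  -- the multiplier lies in the subfield
  obtain ⟨c₀, hc₀⟩ : ∃ c₀ : F₀, c₀ = (Mᵀ * J (Fin m) F₀ * M) (Sum.inr ⟨0, hm⟩) (Sum.inl ⟨0, hm⟩) :=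
    ⟨_, rfl⟩
  have hJ10 : ∀ (R : Type _) [CommRing R],
      J (Fin m) R (Sum.inr ⟨0, hm⟩) (Sum.inl ⟨0, hm⟩) = 1 := by
    intro R _
    simp [J]
  have hcc₀ : ι c₀ = c := by
    have h2 := congrFun (congrFun h1 (Sum.inr ⟨0, hm⟩)) (Sum.inl ⟨0, hm⟩)
    rw [Matrix.map_apply, ← hc₀, Matrix.smul_apply, hJ10, smul_eq_mul, mul_one] at h2
    exact h2
  have hc₀0 : c₀ ≠ 0 := by
    rintro rfl
    rw [map_zero] at hcc₀
    exact c.ne_zero hcc₀.symm
  have h3 : Mᵀ * J (Fin m) F₀ * M = c₀ • J (Fin m) F₀ := by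
    apply Matrix.map_injective ι.injective
    show (Mᵀ * J (Fin m) F₀ * M).map ι = (c₀ • J (Fin m) F₀).map ι
    rw [h1, map_smul_mat, J_map', hcc₀]
  have hmem : g₀ ∈ GSp m F₀ := by
    rw [mem_GSp_iff]
    refine ⟨Units.mk0 c₀ hc₀0, ?_⟩
    rw [← hM]
    exact h3
  exact ⟨⟨g₀, hmem⟩, Subtype.ext hg₀⟩

theorem range_subHomSp (p : ℕ) [Fact p.Prime] [CharP F p] (hm : 2 ≤ m) (σ : F ≃+* F)
    {r : ℕ} (hr : 0 < r) (hσr : σ ^ r = 1)
    (hσ : ∀ i j : Fin r, σ ^ (i : ℕ) = σ ^ (j : ℕ) → i = j) (ι : F₀ →+* F)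
    (hfix : ∀ a, σ (ι a) = ι a) (hsurj : ∀ b, σ b = b → ∃ a, ι a = b) :
    (subHomSp (F := F) ι m).range =
      (pspConj : GSp m F →* MulAut (PSp m F)).range ⊓ Subgroup.centralizer {pspField σ} := by
  ext β
  constructor
  · rintro ⟨g₀, rfl⟩
    refine ⟨⟨_, rfl⟩, ?_⟩
    apply Subgroup.mem_centralizer_iff.mpr
    intro y hy
    rw [Set.mem_singleton_iff] at hy
    subst hy
    rw [subHomSp_apply, pspField_mul_pspConj, gspField_gspMap σ ι hfix]
  · rintro ⟨⟨g, rfl⟩, h2⟩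
    replace h2 := Subgroup.mem_centralizer_iff.mp h2 _ rfl
    obtain ⟨d, hd⟩ := exists_fixed_of_commute p hm σ hr hσr hσ g h2
    obtain ⟨g₀, hg₀⟩ := exists_gspMap_eq (by omega) σ ι hsurj _ hd
    refine ⟨g₀, ?_⟩
    rw [subHomSp_apply, hg₀, map_mul, pspConj_scalGSp, one_mul]

/-- **the centraliser of the field automorphism in the inner-diagonal group** -/
theorem nonempty_centralizer_equiv_PGSp (p : ℕ) [Fact p.Prime] [CharP F p] (hm : 2 ≤ m)
    (σ : F ≃+* F) {r : ℕ} (hr : 0 < r) (hσr : σ ^ r = 1)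
    (hσ : ∀ i j : Fin r, σ ^ (i : ℕ) = σ ^ (j : ℕ) → i = j) (ι : F₀ →+* F)
    (hfix : ∀ a, σ (ι a) = ι a) (hsurj : ∀ b, σ b = b → ∃ a, ι a = b) :
    Nonempty (↥((pspConj : GSp m F →* MulAut (PSp m F)).range ⊓
        Subgroup.centralizer {pspField σ}) ≃* Cfsg.PGSp m F₀) := by
  have e1 := QuotientGroup.quotientKerEquivRange (subHomSp (F := F) ι m)
  have e2 := QuotientGroup.quotientMulEquivOfEq (ker_subHomSp (F := F) p hm ι)
  have e3 := MulEquiv.subgroupCongr (range_subHomSp p hm σ hr hσr hσ ι hfix hsurj)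
  exact ⟨(e3.symm.trans e1.symm).trans e2⟩

end Cfsg.Agent.Helper8.AutSp
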