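import Mathlib
import Cfsg.Agent.Helper8.AutSpza
import Cfsg.Agent.Helper8.AutSLnX

set_option autoImplicit false
set_option linter.unusedSectionVars false

/-! Automorphisms of `PSp_{2m}(q)`: the multiplier homomorphism and the index of
`Inn · C(field automorphism)` in the inner-diagonal group (helper8). -/

namespace Cfsg.Agent.Helper8.AutSp

open Matrix Cfsg Cfsg.Agent.Helper7.Symp Cfsg.Agent.Helper8.SpRoot
open Cfsg.Agent.Helper8.AutSLn (gls nrmGL nrmF unitsAut fixU mem_fixU)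

variable {F : Type*} [Field F] {m : ℕ}

/-- the multiplier is unique -/
theorem mu_unique (hm : 1 ≤ m) (g : GSp m F) (c : F)
    (h : ∀ u v, sympForm m F (mg g *ᵥ u) (mg g *ᵥ v) = c * sympForm m F u v) : c = mu g := by
  have hv : (Pi.single (Sum.inl ⟨0, hm⟩) 1 : Fin m ⊕ Fin m → F) ≠ 0 := by
    intro h0
    have := congrFun h0 (Sum.inl ⟨0, hm⟩)
    rw [Pi.single_eq_same, Pi.zero_apply] at this
    exact one_ne_zero this
  obtain ⟨x, hx⟩ := exists_B_eq_one hv
  have h1 := h x (Pi.single (Sum.inl ⟨0, hm⟩) 1)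
  rw [B_mg, hx, mul_one, mul_one] at h1
  exact h1.symm

theorem mu_mul (hm : 1 ≤ m) (g h : GSp m F) : mu (g * h) = mu g * mu h := by
  apply Units.ext
  symm
  apply mu_unique hm
  intro u v
  rw [mg_mul_mulVec, mg_mul_mulVec, B_mg, B_mg, Units.val_mul, mul_assoc]

theorem mu_one (hm : 1 ≤ m) : mu (1 : GSp m F) = 1 := by
  apply Units.ext
  symm
  apply mu_unique hm
  intro u v
  rw [mg_one_mulVec, mg_one_mulVec, Units.val_one, one_mul]

/-- the multiplier homomorphism -/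
noncomputable def muHom (hm : 1 ≤ m) : GSp m F →* Fˣ where
  toFun := mu
  map_one' := mu_one hm
  map_mul' := mu_mul hm

theorem muHom_apply (hm : 1 ≤ m) (g : GSp m F) : muHom hm g = mu g := rfl

theorem mu_toGSp (hm : 1 ≤ m) (s : symplecticGroup (Fin m) F) : mu (toGSp s) = 1 := by
  apply Units.ext
  symm
  apply mu_unique hm
  intro u v
  rw [mg_toGSp, sympForm_mulVec, Units.val_one, one_mul]

theorem mu_scalGSp (hm : 1 ≤ m) (c : Fˣ) : mu (scalGSp m c) = c ^ 2 := by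
  apply Units.ext
  symm
  apply mu_unique hm
  intro u v
  rw [mg_scalGSp, mg_scalGSp, sympForm_smul_left, sympForm_smul_right, Units.val_pow_eq_pow_val]
  ring

theorem mu_gspField (hm : 1 ≤ m) (σ : F ≃+* F) (g : GSp m F) :
    mu (gspField σ g) = unitsAut σ (mu g) := by
  apply Units.ext
  symm
  apply mu_unique hm
  intro u v
  rw [mg_gspField, map_mulVec', map_mulVec', B_sv, B_mg, map_mul, ← B_sv, sv_sv_symm, sv_sv_symm]
  rfl

theorem exists_toGSp_eq {g : GSp m F} (hg : mu g = 1) : ∃ s : symplecticGroup (Fin m) F,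
    toGSp s = g := by
  refine ⟨mkS (mg g) (fun u v => by rw [B_mg, hg, Units.val_one, one_mul]), ?_⟩
  apply Subtype.ext
  apply Units.ext
  rfl

/-- the diagonal conformal symplectic matrix with a given multiplier -/
noncomputable def dgk (m : ℕ) (κ : Fˣ) : GSp m F :=
  mkGSp (fromBlocks ((κ : F) • (1 : Matrix (Fin m) (Fin m) F)) 0 0 1) κ κ.ne_zero (by
    rw [isConf_iff]
    simp [J, Matrix.fromBlocks_transpose, Matrix.fromBlocks_multiply, Matrix.fromBlocks_smul])

theorem mg_dgk (κ : Fˣ) :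
    mg (dgk m κ) = fromBlocks ((κ : F) • (1 : Matrix (Fin m) (Fin m) F)) 0 0 1 := rfl

theorem mu_dgk (hm : 1 ≤ m) (κ : Fˣ) : mu (dgk m κ) = κ := by
  apply Units.ext
  symm
  apply mu_unique hm
  rw [isConf_iff, mg_dgk]
  simp [J, Matrix.fromBlocks_transpose, Matrix.fromBlocks_multiply, Matrix.fromBlocks_smul]

theorem gspField_dgk (σ : F ≃+* F) {κ : Fˣ} (hκ : unitsAut σ κ = κ) :
    gspField σ (dgk m κ) = dgk m κ := by
  apply Subtype.ext
  apply Units.ext
  show (mg (dgk m κ)).map σ = mg (dgk m κ)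
  rw [mg_dgk, fromBlocks_map]
  have hκ' : σ (κ : F) = κ := congrArg Units.val hκ
  congr 1
  · ext i j
    by_cases h : i = j
    · subst h; simp [hκ']
    · simp [h]
  · ext i j; simp
  · ext i j; simp
  · ext i j
    by_cases h : i = j
    · subst h; simp
    · simp [h]

theorem inn_le_range_pspConj :
    Cfsg.Inn (PSp m F) ≤ (pspConj : GSp m F →* MulAut (PSp m F)).range := by
  rintro _ ⟨x, rfl⟩
  obtain ⟨s, rfl⟩ := pr_surjective x
  exact ⟨toGSp s, pspConj_toGSp s⟩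


theorem eq_scalGSp_of_coe {g : GSp m F} {z : Fˣ}
    (h : (g : GL (Fin m ⊕ Fin m) F) = Matrix.GeneralLinearGroup.scalar (Fin m ⊕ Fin m) z) :
    g = scalGSp m z := Subtype.ext h

/-- the preimage in `GSp` of `Inn · C(field automorphism)` is given by a condition on the
multiplier -/
theorem comap_inn_sup_centralizer_psp (p : ℕ) [Fact p.Prime] [CharP F p] (hm : 2 ≤ m)
    (σ : F ≃+* F) {r : ℕ} (hr : 0 < r) (hσr : σ ^ r = 1)
    (hσ : ∀ i j : Fin r, σ ^ (i : ℕ) = σ ^ (j : ℕ) → i = j) :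
    (Cfsg.Inn (PSp m F) ⊔ ((pspConj : GSp m F →* MulAut (PSp m F)).range ⊓
        Subgroup.centralizer {pspField σ})).comap pspConj =
      ((powMonoidHom 2 : Fˣ →* Fˣ).range ⊔ fixU σ).comap (muHom (by omega : 1 ≤ m)) := by
  have hm1 : 1 ≤ m := by omega
  ext g
  rw [Subgroup.mem_comap, Subgroup.mem_comap, muHom_apply]
  constructor
  · intro h
    rw [← SetLike.mem_coe, Subgroup.normal_mul, Set.mem_mul] at h
    obtain ⟨a, ha, b, hb, e⟩ := h
    obtain ⟨x, rfl⟩ := ha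
    obtain ⟨s, rfl⟩ := pr_surjective x
    obtain ⟨⟨g₁, rfl⟩, hbC⟩ := hb
    obtain ⟨d, hd⟩ := exists_fixed_of_commute p hm σ hr hσr hσ g₁
      (Subgroup.mem_centralizer_iff.mp hbC _ rfl)
    rw [← pspConj_toGSp, ← map_mul] at e
    have h1 : (toGSp s * g₁)⁻¹ * g ∈ (pspConj : GSp m F →* MulAut (PSp m F)).ker := by
      rw [MonoidHom.mem_ker, map_mul, map_inv, e, inv_mul_cancel]
    obtain ⟨z, hz⟩ := (mem_ker_pspConj_iff_scalar p hm).mp h1
    have h2 : g = toGSp s * g₁ * scalGSp m z := by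
      rw [← eq_scalGSp_of_coe hz, mul_inv_cancel_left]
    have h3 : unitsAut σ (d ^ 2 * mu g₁) = d ^ 2 * mu g₁ := by
      have := congrArg mu hd
      rw [mu_gspField hm1, mu_mul hm1, mu_scalGSp hm1] at this
      exact this
    have h4 : mu g = powMonoidHom 2 (z * d⁻¹) * (d ^ 2 * mu g₁) := by
      rw [h2, mu_mul hm1, mu_mul hm1, mu_toGSp hm1, one_mul, mu_scalGSp hm1, powMonoidHom_apply,
        mul_pow, inv_pow]
      rw [mul_comm, mul_assoc, inv_mul_cancel_left]
    rw [h4]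
    exact Subgroup.mul_mem_sup ⟨_, rfl⟩ h3
  · intro h
    rw [Subgroup.mem_sup] at h
    obtain ⟨_, ⟨u, rfl⟩, κ, hκ, e⟩ := h
    rw [powMonoidHom_apply] at e
    obtain ⟨s, hs⟩ := exists_toGSp_eq (g := scalGSp m u⁻¹ * g * (dgk m κ)⁻¹)
      (by rw [mu_mul hm1, mu_mul hm1, mu_scalGSp hm1, ← e, ← muHom_apply hm1 (dgk m κ)⁻¹, map_inv,
        muHom_apply, mu_dgk hm1, inv_pow, inv_mul_cancel_left, mul_inv_cancel])
    have h1 : pspConj g = (pspConj (toGSp s) * pspConj (dgk m κ) : MulAut (PSp m F)) := by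
      rw [hs, ← map_mul, inv_mul_cancel_right, map_mul, pspConj_scalGSp, one_mul]
    rw [h1, pspConj_toGSp]
    refine Subgroup.mul_mem_sup ⟨_, rfl⟩ ⟨⟨_, rfl⟩, ?_⟩
    apply Subgroup.mem_centralizer_iff.mpr
    intro y hy
    rw [Set.mem_singleton_iff] at hy
    subst hy
    rw [pspField_mul_pspConj, gspField_dgk σ ((mem_fixU σ κ).mp hκ)]

/-- **the index of `Inn · C(field automorphism)` in the inner-diagonal group** -/
theorem relIndex_inn_sup_centralizer_psp (p : ℕ) [Fact p.Prime] [CharP F p] (hm : 2 ≤ m)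
    (σ : F ≃+* F) {r : ℕ} (hr : 0 < r) (hσr : σ ^ r = 1)
    (hσ : ∀ i j : Fin r, σ ^ (i : ℕ) = σ ^ (j : ℕ) → i = j) :
    (Cfsg.Inn (PSp m F) ⊔ ((pspConj : GSp m F →* MulAut (PSp m F)).range ⊓
        Subgroup.centralizer {pspField σ})).relIndex
          (pspConj : GSp m F →* MulAut (PSp m F)).range =
      ((powMonoidHom 2 : Fˣ →* Fˣ).range ⊔ fixU σ).index := by
  rw [← Subgroup.index_comap, comap_inn_sup_centralizer_psp p hm σ hr hσr hσ]
  apply Subgroup.index_comap_of_surjective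
  intro c
  exact ⟨dgk m c, mu_dgk (by omega) c⟩

end Cfsg.Agent.Helper8.AutSp
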