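import Mathlib
import Cfsg.Prelude.Def_LieTypeDatum

set_option autoImplicit false

/-!
The number of `K`-classes in the `H`-class of an element, for a normal subgroup `K ≤ H`: it is the
index of `K C_H(x)` in `H`.
-/

namespace Cfsg.Agent.Helper8.SplitClass

variable {X : Type*} [Group X]

theorem isConjUnder_refl (K : Subgroup X) (y : X) : Cfsg.IsConjUnder K y y :=
  ⟨1, K.one_mem, by rw [one_mul, inv_one, mul_one]⟩

theorem isConjUnder_symm {K : Subgroup X} {y z : X} (h : Cfsg.IsConjUnder K y z) :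
    Cfsg.IsConjUnder K z y := by
  obtain ⟨k, hk, rfl⟩ := h
  exact ⟨k⁻¹, K.inv_mem hk, by group⟩

theorem isConjUnder_trans {K : Subgroup X} {y z w : X} (h : Cfsg.IsConjUnder K y z)
    (h' : Cfsg.IsConjUnder K z w) : Cfsg.IsConjUnder K y w := by
  obtain ⟨k, hk, rfl⟩ := h
  obtain ⟨k', hk', rfl⟩ := h'
  exact ⟨k' * k, K.mul_mem hk' hk, by group⟩

/-- the relation of the definition of `splitClassCount` is an equivalence relation -/
theorem equivalence_rel (H K : Subgroup X) (x : X) :
    Equivalence fun y z : {y : X // Cfsg.IsConjUnder H x y} => Cfsg.IsConjUnder K y.1 z.1 :=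
  ⟨fun y => isConjUnder_refl K y.1, isConjUnder_symm, isConjUnder_trans⟩

/-- **the number of `K`-classes in an `H`-class** -/
theorem splitClassCount_eq_relIndex (H K : Subgroup X) [K.Normal] (hKH : K ≤ H) (x : X) :
    Cfsg.splitClassCount H K x = (K ⊔ (H ⊓ Subgroup.centralizer {x})).relIndex H := by
  obtain ⟨M, hM⟩ : ∃ M : Subgroup H, M = (K ⊔ (H ⊓ Subgroup.centralizer {x})).subgroupOf H :=
    ⟨_, rfl⟩
  show Nat.card (Quot fun y z : {y : X // Cfsg.IsConjUnder H x y} =>
    Cfsg.IsConjUnder K y.1 z.1) = ((K ⊔ (H ⊓ Subgroup.centralizer {x})).subgroupOf H).index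
  rw [← hM]
  obtain ⟨f, hf⟩ : ∃ f : H → Quot fun y z : {y : X // Cfsg.IsConjUnder H x y} =>
      Cfsg.IsConjUnder K y.1 z.1, ∀ h : H, f h = Quot.mk _ ⟨(h : X) * x * (h : X)⁻¹, h, h.2, rfl⟩ :=
    ⟨fun h => Quot.mk _ ⟨(h : X) * x * (h : X)⁻¹, h, h.2, rfl⟩, fun _ => rfl⟩
  have hmemM : ∀ a : H, a ∈ M ↔ ∃ k ∈ K, ∃ c ∈ H ⊓ Subgroup.centralizer {x}, k * c = (a : X) := by
    intro a
    rw [hM, Subgroup.mem_subgroupOf, ← SetLike.mem_coe, Subgroup.normal_mul, Set.mem_mul]
    constructor
    · rintro ⟨k, hk, c, hc, e⟩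
      exact ⟨k, hk, c, hc, e⟩
    · rintro ⟨k, hk, c, hc, e⟩
      exact ⟨k, hk, c, hc, e⟩
  have hcent : ∀ c : X, c ∈ Subgroup.centralizer {x} ↔ c * x * c⁻¹ = x := by
    intro c
    rw [Subgroup.mem_centralizer_iff]
    constructor
    · intro h
      rw [← h x rfl, mul_inv_cancel_right]
    · intro h y hy
      rw [Set.mem_singleton_iff] at hy
      subst hy
      rw [← h, inv_mul_cancel_right, h]
  have key : ∀ a b : H, f a = f b ↔ a⁻¹ * b ∈ M := by
    intro a b
    rw [hf, hf, Quot.eq, (equivalence_rel H K x).eqvGen_iff, hmemM]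
    show Cfsg.IsConjUnder K ((a : X) * x * (a : X)⁻¹) ((b : X) * x * (b : X)⁻¹) ↔ _
    constructor
    · rintro ⟨k, hk, e⟩
      refine ⟨(a : X)⁻¹ * k * (a : X), ?_, (a : X)⁻¹ * k⁻¹ * (b : X), ⟨?_, ?_⟩, ?_⟩
      · have := Subgroup.Normal.conj_mem inferInstance k hk (a : X)⁻¹
        rwa [inv_inv] at this
      · exact H.mul_mem (H.mul_mem (H.inv_mem a.2) (H.inv_mem (hKH hk))) b.2
      · apply (hcent _).mpr
        have e1 : (a : X)⁻¹ * k⁻¹ * (b : X) * x * ((a : X)⁻¹ * k⁻¹ * (b : X))⁻¹ =
            (a : X)⁻¹ * k⁻¹ * ((b : X) * x * (b : X)⁻¹) * k * (a : X) := by group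
        rw [e1, e]
        group
      · rw [Subgroup.coe_mul, Subgroup.coe_inv]
        group
    · rintro ⟨k, hk, c, ⟨hcH, hcC⟩, e⟩
      replace hcC := (hcent c).mp hcC
      rw [Subgroup.coe_mul, Subgroup.coe_inv] at e
      refine ⟨(a : X) * k * (a : X)⁻¹, Subgroup.Normal.conj_mem inferInstance k hk (a : X), ?_⟩
      have e1 : (b : X) = (a : X) * (k * c) := by rw [e, mul_inv_cancel_left]
      rw [e1]
      have e2 : (a : X) * (k * c) * x * ((a : X) * (k * c))⁻¹ =
          (a : X) * k * (c * x * c⁻¹) * k⁻¹ * (a : X)⁻¹ := by group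
      rw [e2, hcC]
      group
  have hsurj : Function.Surjective f := by
    intro q
    induction q using Quot.inductionOn with
    | h y =>
      obtain ⟨y, h, hh, rfl⟩ := y
      exact ⟨⟨h, hh⟩, hf _⟩
  have hlift : ∀ a b : H, QuotientGroup.leftRel M a b → f a = f b := by
    intro a b hab
    rw [key]
    exact QuotientGroup.leftRel_apply.mp hab
  have hbij : Function.Bijective (Quotient.lift f hlift : H ⧸ M → _) := by
    constructor
    · intro q q'
      induction q using QuotientGroup.induction_on with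
      | H a =>
        induction q' using QuotientGroup.induction_on with
        | H b =>
          intro e
          exact QuotientGroup.eq.mpr ((key a b).mp e)
    · intro q
      obtain ⟨a, ha⟩ := hsurj q
      exact ⟨QuotientGroup.mk a, ha⟩
  exact (Nat.card_eq_of_bijective _ hbij).symm

/-- conjugation transports the centraliser -/
theorem map_conj_centralizer (α x : X) :
    (Subgroup.centralizer {x}).map (MulAut.conj α).toMonoidHom =
      Subgroup.centralizer {α * x * α⁻¹} := by
  ext c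
  rw [Subgroup.mem_map, Subgroup.mem_centralizer_iff]
  constructor
  · rintro ⟨d, hd, rfl⟩ y hy
    rw [Set.mem_singleton_iff] at hy
    subst hy
    have := Subgroup.mem_centralizer_iff.mp hd x rfl
    show α * x * α⁻¹ * (α * d * α⁻¹) = α * d * α⁻¹ * (α * x * α⁻¹)
    have e1 : α * x * α⁻¹ * (α * d * α⁻¹) = α * (x * d) * α⁻¹ := by group
    have e2 : α * d * α⁻¹ * (α * x * α⁻¹) = α * (d * x) * α⁻¹ := by group
    rw [e1, e2, this]
  · intro h
    refine ⟨α⁻¹ * c * α, ?_, ?_⟩
    · rw [Subgroup.mem_centralizer_iff]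
      intro y hy
      rw [Set.mem_singleton_iff] at hy
      subst hy
      have := h _ rfl
      have e1 : y * (α⁻¹ * c * α) = α⁻¹ * (α * y * α⁻¹ * c) * α := by group
      have e2 : α⁻¹ * c * α * y = α⁻¹ * (c * (α * y * α⁻¹)) * α := by group
      rw [e1, e2, this]
    · show α * (α⁻¹ * c * α) * α⁻¹ = c
      group

theorem map_conj_normal (H : Subgroup X) [H.Normal] (α : X) :
    H.map (MulAut.conj α).toMonoidHom = H := by
  ext c
  rw [Subgroup.mem_map]
  constructor
  · rintro ⟨d, hd, rfl⟩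
    exact Subgroup.Normal.conj_mem inferInstance d hd α
  · intro h
    refine ⟨α⁻¹ * c * α, ?_, ?_⟩
    · have := Subgroup.Normal.conj_mem inferInstance c h α⁻¹
      rwa [inv_inv] at this
    · show α * (α⁻¹ * c * α) * α⁻¹ = c
      group

/-- the index of the definition is invariant under conjugation -/
theorem relIndex_conj (H K : Subgroup X) [H.Normal] [K.Normal] (α x : X) :
    (K ⊔ (H ⊓ Subgroup.centralizer {α * x * α⁻¹})).relIndex H =
      (K ⊔ (H ⊓ Subgroup.centralizer {x})).relIndex H := by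
  have hinj : Function.Injective (MulAut.conj α).toMonoidHom := (MulAut.conj α).injective
  rw [← Subgroup.relIndex_map_map_of_injective (K ⊔ (H ⊓ Subgroup.centralizer {x})) H hinj,
    Subgroup.map_sup, Subgroup.map_inf _ _ _ hinj, map_conj_normal, map_conj_normal,
    map_conj_centralizer]

/-- the centralisers in a normal subgroup of conjugate elements are isomorphic -/
theorem nonempty_centralizer_equiv (H : Subgroup X) [H.Normal] (α x : X) :
    Nonempty (↥(H ⊓ Subgroup.centralizer {x}) ≃* ↥(H ⊓ Subgroup.centralizer {α * x * α⁻¹})) := by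
  have hinj : Function.Injective (MulAut.conj α).toMonoidHom := (MulAut.conj α).injective
  have e1 := (H ⊓ Subgroup.centralizer {x}).equivMapOfInjective _ hinj
  have e2 : (H ⊓ Subgroup.centralizer {x}).map (MulAut.conj α).toMonoidHom =
      H ⊓ Subgroup.centralizer {α * x * α⁻¹} := by
    rw [Subgroup.map_inf _ _ _ hinj, map_conj_normal, map_conj_centralizer]
  exact ⟨e1.trans (MulEquiv.subgroupCongr e2)⟩

end Cfsg.Agent.Helper8.SplitClass
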