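import Mathlib
import Cfsg.Agent.Helper8.AutSpzb
import Cfsg.Agent.Helper8.SplitClassA

set_option autoImplicit false
set_option linter.unusedSectionVars false

/-! Automorphisms of `PSp_{2m}(q)`: the field automorphisms of prime order: centraliser in the
inner-diagonal group and the number of classes under the inner automorphisms (helper8). -/

namespace Cfsg.Agent.Helper8.AutSp

open Matrix Cfsg Cfsg.Agent.Helper7.Symp Cfsg.Agent.Helper8.SpRoot
open Cfsg.Agent.Helper8.AutSLn (gls nrmGL nrmF unitsAut fixU mem_fixU)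

theorem geom_sum_mod_two_odd (q : ℕ) (hq : q % 2 = 1) (n : ℕ) :
    (∑ i ∈ Finset.range n, q ^ i) % 2 = n % 2 := by
  induction n with
  | zero => simp
  | succ n ih =>
    rw [Finset.sum_range_succ, Nat.add_mod, ih, Nat.pow_mod, hq, one_pow]
    omega

theorem geom_sum_mod_two_even (q : ℕ) (hq : q % 2 = 0) (n : ℕ) :
    (∑ i ∈ Finset.range (n + 1), q ^ i) % 2 = 1 := by
  induction n with
  | zero => simp
  | succ n ih =>
    rw [Finset.sum_range_succ, Nat.add_mod, ih, Nat.pow_mod, hq, zero_pow (Nat.succ_ne_zero n)]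
    rfl

theorem gcd_two_congr {a b : ℕ} (h : a % 2 = b % 2) : Nat.gcd 2 a = Nat.gcd 2 b := by
  rw [Nat.gcd_comm 2 a, Nat.gcd_comm 2 b]
  exact Nat.ModEq.gcd_eq h

/-- the arithmetic of the class number -/
theorem gcd_two_quot (p f r : ℕ) (hp : p.Prime) (hf : 1 ≤ f) (hr : r.Prime) (hrf : r ∣ f) :
    Nat.gcd 2 ((p ^ f - 1) / (p ^ (f / r) - 1)) = Nat.gcd (Nat.gcd 2 (p ^ f - 1)) r := by
  obtain ⟨k, rfl⟩ := hrf
  have hk : 1 ≤ k := by
    rcases Nat.eq_zero_or_pos k with h | h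
    · subst h; omega
    · exact h
  rw [Nat.mul_div_cancel_left k hr.pos]
  have hq2 : 2 ≤ p ^ k := by
    calc 2 ≤ p := hp.two_le
      _ = p ^ 1 := (pow_one p).symm
      _ ≤ p ^ k := Nat.pow_le_pow_right hp.pos hk
  have h1 : (p ^ (r * k) - 1) / (p ^ k - 1) = ∑ i ∈ Finset.range r, (p ^ k) ^ i := by
    rw [Nat.geomSum_eq hq2, ← pow_mul, mul_comm k r]
  rw [h1]
  rcases Nat.mod_two_eq_zero_or_one p with hp2 | hp2
  · -- p = 2
    have hqe : (p ^ k) % 2 = 0 := by
      rw [Nat.pow_mod, hp2, zero_pow (by omega)]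
      rfl
    obtain ⟨r', rfl⟩ : ∃ r', r = r' + 1 := ⟨r - 1, by have := hr.pos; omega⟩
    have e1 : Nat.gcd 2 (∑ i ∈ Finset.range (r' + 1), (p ^ k) ^ i) = 1 := by
      rw [gcd_two_congr (b := 1) (by rw [geom_sum_mod_two_even _ hqe])]
      rfl
    have e2 : Nat.gcd 2 (p ^ ((r' + 1) * k) - 1) = 1 := by
      have h3 : (p ^ ((r' + 1) * k)) % 2 = 0 := by
        rw [Nat.pow_mod, hp2, zero_pow (by positivity)]
        rfl
      have h4 : 1 ≤ p ^ ((r' + 1) * k) := Nat.one_le_pow _ _ hp.pos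
      rw [gcd_two_congr (b := 1) (by omega)]
      rfl
    rw [e1, e2, Nat.gcd_one_left]
  · -- p odd
    have hqo : (p ^ k) % 2 = 1 := by
      rw [Nat.pow_mod, hp2, one_pow]
      rfl
    have e2 : Nat.gcd 2 (p ^ (r * k) - 1) = 2 := by
      have h3 : (p ^ (r * k)) % 2 = 1 := by
        rw [Nat.pow_mod, hp2, one_pow]
        rfl
      rw [gcd_two_congr (b := 0) (by omega)]
      rfl
    rw [e2]
    exact gcd_two_congr (geom_sum_mod_two_odd _ hqo r)

variable {F : Type*} [Field F] {m : ℕ}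

/-- **the field automorphisms of prime order of `PSp_{2m}(F)`** -/
theorem field_aut_main_psp [Fintype F] {p f : ℕ} [Fact p.Prime] [CharP F p]
    (hF : Fintype.card F = p ^ f) (hf : 1 ≤ f) (hm : 2 ≤ m) (x : MulAut (PSp m F))
    (hx : Cfsg.IsFieldAutClassPSp x) {r : ℕ} (hr : r.Prime) (hxr : orderOf x = r)
    (F₀ : Type*) [Field F₀] [Fintype F₀] (hF₀ : Fintype.card F₀ = p ^ (f / r)) :
    r ∣ f ∧
    Nonempty (↥(Cfsg.inndiagPSp m F ⊓ Subgroup.centralizer {x}) ≃* Cfsg.PGSp m F₀) ∧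
    Cfsg.splitClassCount (Cfsg.inndiagPSp m F) (Cfsg.Inn (PSp m F)) x =
      Nat.gcd (Nat.gcd 2 (p ^ f - 1)) r := by
  have hnorm := range_pspConj_normal (F := F) (m := m) p hm
  obtain ⟨α, σ, -, hstd⟩ := hx
  have e1 := eq_pspField_of_isStdFieldAut hstd
  have hσord : orderOf σ = r := by
    rw [← orderOf_injective _ (pspField_injective (F := F) (m := m) p hm) σ, ← e1, ← hxr]
    exact MulEquiv.orderOf_eq (MulAut.conj α) x
  have hσr : σ ^ r = 1 := by rw [← hσord, pow_orderOf_eq_one]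
  have hinj : ∀ i j : Fin r, σ ^ (i : ℕ) = σ ^ (j : ℕ) → i = j := by
    intro i j e
    apply Fin.ext
    apply pow_injOn_Iio_orderOf (x := σ) _ _ e
    · rw [hσord]
      exact i.2
    · rw [hσord]
      exact j.2
  obtain ⟨ι, hι1, hι2⟩ := Cfsg.Agent.Helper8.AutSLn.exists_embedding hF σ hr.pos hσord F₀ hF₀
  have hrf : r ∣ f := (Cfsg.Agent.Helper8.AutSLn.card_fixField hF σ hr.pos hσord).1
  refine ⟨hrf, ?_, ?_⟩
  · rw [inndiagPSp_eq]
    obtain ⟨E1⟩ := Cfsg.Agent.Helper8.SplitClass.nonempty_centralizer_equiv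
      ((pspConj : GSp m F →* MulAut (PSp m F)).range) α x
    rw [e1] at E1
    obtain ⟨E2⟩ := nonempty_centralizer_equiv_PGSp p hm σ hr.pos hσr hinj ι hι1 hι2
    exact ⟨E1.trans E2⟩
  · rw [inndiagPSp_eq,
      Cfsg.Agent.Helper8.SplitClass.splitClassCount_eq_relIndex
        ((pspConj : GSp m F →* MulAut (PSp m F)).range)
        (Cfsg.Inn (PSp m F)) inn_le_range_pspConj x,
      ← Cfsg.Agent.Helper8.SplitClass.relIndex_conj _ _ α x, e1,
      relIndex_inn_sup_centralizer_psp p hm σ hr.pos hσr hinj,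
      Cfsg.Agent.Helper8.AutSLn.index_pow_sup_fixU hF σ hr.pos hσord]
    exact gcd_two_quot p f r Fact.out hf hr hrf

end Cfsg.Agent.Helper8.AutSp
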