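import Mathlib
import Cfsg.Agent.Helper8.SpParCount

set_option autoImplicit false

/-! The order of the stabiliser of a totally isotropic subspace in `Sp_{2m}(q)`: the final
arithmetic (helper8). -/

namespace Cfsg.Agent.Helper8.SpStab

open Matrix Module

theorem tri_succ (k : ℕ) : (k + 1) * (k + 1 + 1) / 2 = k * (k + 1) / 2 + (k + 1) := by
  have h : (k + 1) * (k + 1 + 1) = k * (k + 1) + (k + 1) * 2 := by ring
  rw [h, Nat.add_mul_div_right _ _ (by norm_num : 0 < 2)]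

theorem par_arith (q : ℕ) (k : ℕ) : ∀ n : ℕ,
    q ^ (k * (k + 1) / 2 + 2 * k * n) *
        (q ^ (n ^ 2) * ∏ i ∈ Finset.range n, (q ^ (2 * (i + 1)) - 1)) *
        ∏ i : Fin k, (q ^ (2 * (n + k) - i) - q ^ (i : ℕ))
      = q ^ ((n + k) ^ 2) * ∏ i ∈ Finset.range (n + k), (q ^ (2 * (i + 1)) - 1) := by
  induction k with
  | zero =>
    intro n
    simp
  | succ k ih =>
    intro n
    have h1 := ih (n + 1)
    rw [Finset.prod_range_succ] at h1
    rw [Fin.prod_univ_castSucc]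
    have e1 : n + 1 + k = n + (k + 1) := by ring
    rw [e1] at h1
    rw [← h1]
    have e2 : q ^ (2 * (n + (k + 1)) - ((Fin.last k : Fin (k + 1)) : ℕ)) - q ^ ((Fin.last k : Fin (k + 1)) : ℕ)
        = q ^ k * (q ^ (2 * (n + 1)) - 1) := by
      rw [Fin.val_last, Nat.mul_sub, mul_one, ← pow_add]
      congr 2
      omega
    rw [e2, tri_succ]
    have e3 : ∀ i : Fin k, (((Fin.castSucc i : Fin (k + 1)) : ℕ)) = (i : ℕ) := fun i => rfl
    simp only [Fin.val_castSucc]
    have e4 : k * (k + 1) / 2 + (k + 1) + 2 * (k + 1) * n + n ^ 2 + k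
        = k * (k + 1) / 2 + 2 * k * (n + 1) + (n + 1) ^ 2 := by ring
    generalize k * (k + 1) / 2 = t at *
    generalize (∏ i ∈ Finset.range n, (q ^ (2 * (i + 1)) - 1)) = P
    generalize (∏ i : Fin k, (q ^ (2 * (n + (k + 1)) - (i : ℕ)) - q ^ (i : ℕ))) = X
    generalize (q ^ (2 * (n + 1)) - 1) = Z
    calc q ^ (t + (k + 1) + 2 * (k + 1) * n) * (q ^ n ^ 2 * P) * (X * (q ^ k * Z))
        = q ^ (t + (k + 1) + 2 * (k + 1) * n + n ^ 2 + k) * (P * Z * X) := by
          rw [pow_add _ _ k, pow_add _ _ (n ^ 2)]; ring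
      _ = q ^ (t + 2 * k * (n + 1)) * (q ^ (n + 1) ^ 2 * (P * Z)) * X := by
          rw [e4, pow_add _ _ ((n + 1) ^ 2)]; ring

/-- **The order of the stabiliser of a totally isotropic `k`-subspace in `Sp_{2m}(q)`.** -/
theorem card_stab_ti {F : Type*} [Field F] [Fintype F] (m k : ℕ) (hk : k ≤ m)
    (W : Submodule F (Fin m ⊕ Fin m → F)) (hWk : finrank F W = k)
    (hW : ∀ u ∈ W, ∀ v ∈ W, Cfsg.sympForm m F u v = 0) :
    Nat.card ↥(Cfsg.stabilizing (Cfsg.spToMat m F) (W : Set (Fin m ⊕ Fin m → F)))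
      = Fintype.card F ^ (k * (k + 1) / 2 + 2 * k * (m - k)) *
        (Fintype.card F ^ ((m - k) ^ 2) *
          ∏ i ∈ Finset.range (m - k), (Fintype.card F ^ (2 * (i + 1)) - 1)) *
        ∏ i : Fin k, (Fintype.card F ^ k - Fintype.card F ^ (i : ℕ)) := by
  have h := card_stab_mul_card_TIF k W hWk hW
  obtain ⟨n, rfl⟩ := Nat.exists_eq_add_of_le' hk
  have hpos : 0 < Nat.card (TIF (n + k) F k) := by
    rw [card_TIF]
    refine Finset.prod_pos fun i _ => ?_
    have : Fintype.card F ^ (i : ℕ) < Fintype.card F ^ (2 * (n + k) - (i : ℕ)) :=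
      Nat.pow_lt_pow_right Fintype.one_lt_card (by have := i.2; omega)
    omega
  apply Nat.eq_of_mul_eq_mul_right hpos
  rw [h, Cfsg.Agent.Helper8.SpOrder.card_symp, card_TIF, Nat.add_sub_cancel,
    ← par_arith (Fintype.card F) k n]
  ring

end Cfsg.Agent.Helper8.SpStab
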