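import Mathlib
import Cfsg.Agent.Helper8.AutSpzc
import Cfsg.Agent.Helper8.SpParFinal
import Cfsg.Agent.Helper8.SpOrder

set_option autoImplicit false
set_option linter.unusedSectionVars false

/-! Automorphisms of `PSp_{2m}(q)`, `q` even: centralisers of transvections and of the other
elements of the unipotent radical (helper8). -/

namespace Cfsg.Agent.Helper8.AutSp

open Matrix Cfsg Cfsg.Agent.Helper7.Symp Cfsg.Agent.Helper8.SpRoot

variable {F : Type*} [Field F] {m : ℕ}

theorem eq_one_of_sq_eq_one_char_two [CharP F 2] {c : F} (h : c * c = 1) : c = 1 := by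
  have h2 : (2 : F) = 0 := by
    have := CharP.cast_eq_zero F 2
    exact_mod_cast this
  have h1 : (c - 1) * (c - 1) = 0 := by
    have : (c - 1) * (c - 1) = c * c - 2 * c + 1 := by ring
    rw [this, h, h2, zero_mul, sub_zero]
    have : (1 : F) + 1 = 2 := by norm_num
    rw [this, h2]
  exact sub_eq_zero.mp (mul_self_eq_zero.mp h1)

/-- in characteristic two a transvection determines its vector -/
theorem T_eq_T_char_two [CharP F 2] {u v : Fin m ⊕ Fin m → F} (hv : v ≠ 0) {s : F} (hs : s ≠ 0)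
    (h : T u s = T v s) : u = v := by
  have key : ∀ x, sympForm m F x u • u = sympForm m F x v • v := by
    intro x
    have h1 : mt (T u s) *ᵥ x = mt (T v s) *ᵥ x := by rw [h]
    rw [T_mulVec, T_mulVec] at h1
    have h2 := add_left_cancel h1
    rw [mul_smul, mul_smul] at h2
    exact smul_right_injective _ hs h2
  obtain ⟨x, hx⟩ := exists_B_eq_one hv
  have h1 := key x
  rw [hx, one_smul] at h1
  -- `v = c u`
  have hu : u ≠ 0 := by
    rintro rfl
    rw [smul_zero] at h1
    exact hv h1.symm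
  obtain ⟨y, hy⟩ := exists_B_eq_one hu
  have h2 := key y
  rw [hy, one_smul, ← h1, sympForm_smul_right, hy, mul_one, smul_smul] at h2
  have h3 : (1 - sympForm m F x u * sympForm m F x u) • u = 0 := by
    rw [sub_smul, one_smul, ← h2, sub_self]
  have h4 : sympForm m F x u * sympForm m F x u = 1 := by
    rcases smul_eq_zero.mp h3 with h5 | h5
    · exact (sub_eq_zero.mp h5).symm
    · exact absurd h5 hu
  rw [eq_one_of_sq_eq_one_char_two h4, one_smul] at h1
  exact h1

/-- in characteristic two the centraliser of a transvection is the stabiliser of its vector -/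
theorem commute_T_iff [CharP F 2] {v : Fin m ⊕ Fin m → F} (hv : v ≠ 0) {s : F} (hs : s ≠ 0)
    (g : symplecticGroup (Fin m) F) : g * T v s = T v s * g ↔ mt g *ᵥ v = v := by
  constructor
  · intro h
    have h1 : T (mt g *ᵥ v) s = T v s := by
      rw [← conj_T, h, mul_inv_cancel_right]
    exact T_eq_T_char_two hv hs h1
  · intro h
    have h1 := conj_T g v s
    rw [h] at h1
    calc g * T v s = (g * T v s * g⁻¹) * g := by group
      _ = T v s * g := by rw [h1]

theorem card_centralizer_T [Fintype F] [CharP F 2] {v : Fin m ⊕ Fin m → F} (hv : v ≠ 0) {s : F}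
    (hs : s ≠ 0) :
    Nat.card (symplecticGroup (Fin m) F) = (Fintype.card F ^ (2 * m) - 1) *
      Nat.card (Subgroup.centralizer {T v s} : Subgroup (symplecticGroup (Fin m) F)) := by
  rw [Cfsg.Agent.Helper8.SpOrder.card_stab_vec m hv]
  congr 1
  apply Nat.card_congr
  refine Equiv.subtypeEquivRight (fun g => ?_)
  rw [Subgroup.mem_centralizer_iff]
  constructor
  · intro h y hy
    rw [Set.mem_singleton_iff] at hy
    subst hy
    exact ((commute_T_iff hv hs g).mpr h).symm
  · intro h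
    exact (commute_T_iff hv hs g).mp (h _ rfl).symm

namespace Frame

variable (fr : Frame m F)

/-- the totally isotropic plane attached to a Siegel element -/
def Lw (w : fr.W) : Submodule F (Fin m ⊕ Fin m → F) :=
  Submodule.span F {fr.e, (w : Fin m ⊕ Fin m → F)}

theorem mem_Lw_iff' (w : fr.W) (v : Fin m ⊕ Fin m → F) :
    v ∈ fr.Lw w ↔ ∃ α β : F, v = α • fr.e + β • (w : Fin m ⊕ Fin m → F) := by
  unfold Lw
  rw [Submodule.mem_span_pair]
  constructor
  · rintro ⟨α, β, h⟩
    exact ⟨α, β, h.symm⟩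
  · rintro ⟨α, β, h⟩
    exact ⟨α, β, h.symm⟩

theorem Lw_isotropic (w : fr.W) : ∀ u ∈ fr.Lw w, ∀ v ∈ fr.Lw w, sympForm m F u v = 0 := by
  intro u hu v hv
  obtain ⟨α, β, rfl⟩ := (fr.mem_Lw_iff' w u).mp hu
  obtain ⟨α', β', rfl⟩ := (fr.mem_Lw_iff' w v).mp hv
  simp only [sympForm_add_left, sympForm_add_right, sympForm_smul_left, sympForm_smul_right,
    sympForm_self, fr.hew, fr.hwe]
  ring

theorem finrank_Lw {w : fr.W} (hw : w ≠ 0) : Module.finrank F (fr.Lw w) = 2 := by
  have hli : LinearIndependent F ![fr.e, (w : Fin m ⊕ Fin m → F)] := by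
    rw [LinearIndependent.pair_iff]
    intro α β h
    have h1 := congrArg (fun v => sympForm m F v fr.f) h
    beta_reduce at h1
    rw [sympForm_add_left, sympForm_smul_left, sympForm_smul_left, fr.hef, fr.hwf, mul_one,
      mul_zero, add_zero, B_zero_left] at h1
    subst h1
    rw [zero_smul, zero_add] at h
    refine ⟨rfl, ?_⟩
    rcases smul_eq_zero.mp h with h2 | h2
    · exact h2
    · exact absurd (Subtype.ext h2) hw
  have h1 := finrank_span_eq_card hli
  rw [Fintype.card_fin] at h1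
  have h2 : Set.range ![fr.e, (w : Fin m ⊕ Fin m → F)] = {fr.e, (w : Fin m ⊕ Fin m → F)} := by
    ext x
    simp only [Set.mem_range, Set.mem_insert_iff, Set.mem_singleton_iff]
    constructor
    · rintro ⟨i, rfl⟩
      fin_cases i
      · left; rfl
      · right; rfl
    · rintro (rfl | rfl)
      · exact ⟨0, rfl⟩
      · exact ⟨1, rfl⟩
  rw [h2] at h1
  exact h1

/-- the plane is the image of `y - 1` -/
theorem mem_Lw_iff {w : fr.W} (hw : w ≠ 0) (a : F) (v : Fin m ⊕ Fin m → F) :
    v ∈ fr.Lw w ↔ ∃ x, v = mt (fr.sg w a) *ᵥ x - x := by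
  rw [mem_Lw_iff']
  constructor
  · rintro ⟨α, β, rfl⟩
    obtain ⟨w', hw'⟩ := fr.exists_B_W_eq_one hw
    refine ⟨β • fr.f + (a * β - α) • (w' : Fin m ⊕ Fin m → F), ?_⟩
    rw [sg_mulVec]
    simp only [sympForm_add_left, sympForm_smul_left, fr.hfw, fr.hfe, fr.hwe, hw']
    module
  · rintro ⟨x, rfl⟩
    refine ⟨-(sympForm m F x (w : Fin m ⊕ Fin m → F)) - a * sympForm m F x fr.e,
      -(sympForm m F x fr.e), ?_⟩
    rw [sg_mulVec]
    module

/-- the centraliser of a Siegel element stabilises its plane -/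
theorem centralizer_sg_le {w : fr.W} (hw : w ≠ 0) (a : F) :
    (Subgroup.centralizer {fr.sg w a} : Subgroup (symplecticGroup (Fin m) F)) ≤
      Cfsg.stabilizing (Cfsg.spToMat m F) (fr.Lw w : Set (Fin m ⊕ Fin m → F)) := by
  have key : ∀ g : symplecticGroup (Fin m) F, g * fr.sg w a = fr.sg w a * g →
      ∀ v, v ∈ fr.Lw w → mt g *ᵥ v ∈ fr.Lw w := by
    intro g hg v hv
    obtain ⟨x, rfl⟩ := (fr.mem_Lw_iff hw a v).mp hv
    rw [fr.mem_Lw_iff hw a]
    refine ⟨mt g *ᵥ x, ?_⟩
    rw [mulVec_sub, ← coe_mul_mulVec, ← coe_mul_mulVec, hg]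
  intro g hg
  rw [Subgroup.mem_centralizer_iff] at hg
  have hg1 : g * fr.sg w a = fr.sg w a * g := (hg _ rfl).symm
  have hg2 : g⁻¹ * fr.sg w a = fr.sg w a * g⁻¹ := by
    calc g⁻¹ * fr.sg w a = g⁻¹ * (fr.sg w a * g) * g⁻¹ := by group
      _ = fr.sg w a * g⁻¹ := by rw [← hg1]; group
  intro v
  show v ∈ fr.Lw w ↔ mt g *ᵥ v ∈ fr.Lw w
  constructor
  · exact key g hg1 v
  · intro h
    have := key g⁻¹ hg2 _ h
    rwa [coe_inv_mulVec'] at this

end Frame

end Cfsg.Agent.Helper8.AutSp
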