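import Mathlib
import Cfsg.Agent.Helper8.AutSpzd

set_option autoImplicit false
set_option linter.unusedSectionVars false

/-! Automorphisms of `PSp_{2m}(q)`, `q` even, `m ≥ 3`: the centraliser of a transvection is larger
than the centraliser of any other element of the unipotent radical (helper8). -/

namespace Cfsg.Agent.Helper8.AutSp

open Matrix Cfsg Cfsg.Agent.Helper7.Symp Cfsg.Agent.Helper8.SpRoot

theorem core_ineq (q n : ℕ) (hq : 2 ≤ q) :
    (q ^ 2 - 1) * (q ^ 2 - q) < q * (q ^ (2 * n + 4) - 1) := by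
  have h1 : q ^ 4 ≤ q ^ (2 * n + 4) := Nat.pow_le_pow_right (by omega) (by omega)
  have h2 : (q ^ 2 - 1) * (q ^ 2 - q) < q * (q ^ 4 - 1) := by
    have a1 : 1 ≤ q ^ 2 := Nat.one_le_pow _ _ (by omega)
    have a2 : q ≤ q ^ 2 := by
      calc q = q ^ 1 := (pow_one q).symm
        _ ≤ q ^ 2 := Nat.pow_le_pow_right (by omega) (by omega)
    have a3 : 1 ≤ q ^ 4 := Nat.one_le_pow _ _ (by omega)
    zify [a1, a2, a3]
    have hq' : (2 : ℤ) ≤ q := by exact_mod_cast hq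
    nlinarith [mul_nonneg (mul_nonneg (by linarith : (0:ℤ) ≤ q) (by linarith : (0:ℤ) ≤ q))
      (by linarith : (0:ℤ) ≤ (q:ℤ) - 2), sq_nonneg ((q:ℤ)), sq_nonneg ((q:ℤ) ^ 2)]
  calc (q ^ 2 - 1) * (q ^ 2 - q) < q * (q ^ 4 - 1) := h2
    _ ≤ q * (q ^ (2 * n + 4) - 1) := Nat.mul_le_mul_left _ (Nat.sub_le_sub_right h1 1)

variable {F : Type*} [Field F]

namespace Frame

theorem card_centralizer_sg_lt [Fintype F] [CharP F 2] {n : ℕ} (fr : Frame (n + 3) F) {w : fr.W}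
    (hw : w ≠ 0) (a : F) :
    Nat.card (Subgroup.centralizer {fr.sg w a} : Subgroup (symplecticGroup (Fin (n + 3)) F)) <
      Nat.card (Subgroup.centralizer {T fr.e (1 : F)} :
        Subgroup (symplecticGroup (Fin (n + 3)) F)) := by
  obtain ⟨q, hq⟩ : ∃ q, q = Fintype.card F := ⟨_, rfl⟩
  have hq2 : 2 ≤ q := by
    rw [hq]
    exact Fintype.one_lt_card
  have h0 := Subgroup.card_le_of_le (fr.centralizer_sg_le hw a)
  have h1 := Cfsg.Agent.Helper8.SpStab.card_stab_ti (n + 3) 2 (by omega) (fr.Lw w)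
    (fr.finrank_Lw hw) (fr.Lw_isotropic w)
  have h2 := card_centralizer_T (F := F) fr.e_ne_zero (one_ne_zero : (1 : F) ≠ 0)
  have h3 := Cfsg.Agent.Helper8.SpOrder.card_symp (F := F) (n + 3)
  rw [← hq] at h1 h2 h3
  have e1 : n + 3 - 2 = n + 1 := by omega
  have e2 : 2 * (2 + 1) / 2 = 3 := by norm_num
  rw [e1, e2, Fin.prod_univ_two] at h1
  rw [Finset.prod_range_succ, Finset.prod_range_succ] at h3
  simp only [Fin.val_zero, Fin.val_one, pow_zero, pow_one] at h1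
  obtain ⟨P, hP⟩ : ∃ P, P = ∏ i ∈ Finset.range (n + 1), (q ^ (2 * (i + 1)) - 1) := ⟨_, rfl⟩
  have hPpos : 0 < P := by
    rw [hP]
    apply Finset.prod_pos
    intro i _
    have : 2 ≤ q ^ (2 * (i + 1)) := by
      calc 2 ≤ q := hq2
        _ = q ^ 1 := (pow_one q).symm
        _ ≤ q ^ (2 * (i + 1)) := Nat.pow_le_pow_right (by omega) (by omega)
    omega
  rw [← hP] at h1 h3
  obtain ⟨D, hD⟩ : ∃ D, D = q ^ (2 * (n + 3)) - 1 := ⟨_, rfl⟩
  have hDpos : 0 < D := by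
    rw [hD]
    have : 2 ≤ q ^ (2 * (n + 3)) := by
      calc 2 ≤ q := hq2
        _ = q ^ 1 := (pow_one q).symm
        _ ≤ q ^ (2 * (n + 3)) := Nat.pow_le_pow_right (by omega) (by omega)
    omega
  have e3 : 2 * (n + 2 + 1) = 2 * (n + 3) := by ring
  have e4 : 2 * (n + 1 + 1) = 2 * n + 4 := by ring
  rw [e3, e4, ← hD] at h3
  rw [← hD] at h2
  have hqpos : 0 < q := by omega
  obtain ⟨Y, hY⟩ : ∃ Y, Y = q ^ (3 + 2 * 2 * (n + 1)) * q ^ ((n + 1) ^ 2) * P * D := ⟨_, rfl⟩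
  have hYpos : 0 < Y := by
    rw [hY]
    positivity
  have hL : Nat.card ↥(Cfsg.stabilizing (Cfsg.spToMat (n + 3) F)
      (fr.Lw w : Set (Fin (n + 3) ⊕ Fin (n + 3) → F))) * D = Y * ((q ^ 2 - 1) * (q ^ 2 - q)) := by
    rw [h1, hY]
    ring
  have hR : Nat.card (symplecticGroup (Fin (n + 3)) F) = Y * (q * (q ^ (2 * n + 4) - 1)) := by
    rw [h3, hY]
    have : (n + 3) ^ 2 = 3 + 2 * 2 * (n + 1) + (n + 1) ^ 2 + 1 := by ring
    rw [this, pow_succ, pow_add]
    ring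
  have hlt : Nat.card ↥(Cfsg.stabilizing (Cfsg.spToMat (n + 3) F)
      (fr.Lw w : Set (Fin (n + 3) ⊕ Fin (n + 3) → F))) * D <
      D * Nat.card (Subgroup.centralizer {T fr.e (1 : F)} :
        Subgroup (symplecticGroup (Fin (n + 3)) F)) := by
    rw [← h2, hL, hR]
    exact Nat.mul_lt_mul_of_pos_left (core_ineq q n hq2) hYpos
  have h5 : Nat.card (Subgroup.centralizer {fr.sg w a} :
      Subgroup (symplecticGroup (Fin (n + 3)) F)) * D <
      Nat.card (Subgroup.centralizer {T fr.e (1 : F)} :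
        Subgroup (symplecticGroup (Fin (n + 3)) F)) * D := by
    calc _ ≤ _ := Nat.mul_le_mul_right D h0
      _ < _ := hlt
      _ = _ := mul_comm _ _
  exact lt_of_mul_lt_mul_right h5 (Nat.zero_le D)

end Frame

end Cfsg.Agent.Helper8.AutSp
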