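import Mathlib
import Cfsg.Agent.Helper8.AutSpze

set_option autoImplicit false
set_option linter.unusedSectionVars false

/-! Automorphisms of `PSp_{2m}(q)`, `q` even, `m ≥ 3`: the transvections are the elements central
in a Sylow 2-subgroup with the largest centraliser; hence every automorphism permutes them
(helper8). -/

namespace Cfsg.Agent.Helper8.AutSp

open Matrix Cfsg Cfsg.Agent.Helper7.Symp Cfsg.Agent.Helper8.SpRoot
open Cfsg.Agent.Helper8.AutSLn (ZZ mem_ZZ ZZ_smul)
open scoped Pointwise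

section general

variable {G : Type*} [Group G]

/-- nontrivial elements central in a Sylow `p`-subgroup -/
def IsCS (p : ℕ) (x : G) : Prop := x ≠ 1 ∧ ∃ S : Sylow p G, x ∈ ZZ (S : Subgroup G)

theorem IsCS.map {p : ℕ} {x : G} (h : IsCS p x) (β : MulAut G) : IsCS p (β x) := by
  obtain ⟨h1, S, hS⟩ := h
  refine ⟨fun h0 => h1 ?_, β • S, ?_⟩
  · have := congrArg β.symm h0
    rwa [MulEquiv.symm_apply_apply, map_one] at this
  · rw [Sylow.pointwise_smul_def, ZZ_smul]
    exact Subgroup.smul_mem_pointwise_smul _ _ _ hS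

theorem card_centralizer_map (β : MulAut G) (x : G) :
    Nat.card (Subgroup.centralizer {β x} : Subgroup G) =
      Nat.card (Subgroup.centralizer {x} : Subgroup G) := by
  symm
  apply Nat.card_congr
  refine Equiv.subtypeEquiv β.toEquiv (fun g => ?_)
  rw [Subgroup.mem_centralizer_iff, Subgroup.mem_centralizer_iff]
  constructor
  · intro h y hy
    rw [Set.mem_singleton_iff] at hy
    subst hy
    show β x * β g = β g * β x
    rw [← map_mul, ← map_mul, h x rfl]
  · intro h y hy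
    rw [Set.mem_singleton_iff] at hy
    subst hy
    have := h (β y) rfl
    apply β.injective
    rw [map_mul, map_mul]
    exact this

theorem card_centralizer_conj (g x : G) :
    Nat.card (Subgroup.centralizer {g * x * g⁻¹} : Subgroup G) =
      Nat.card (Subgroup.centralizer {x} : Subgroup G) :=
  card_centralizer_map (MulAut.conj g) x

/-- an element central in a Sylow subgroup is conjugate to an element central in a given one -/
theorem IsCS.exists_conj [Finite G] {p : ℕ} [Fact p.Prime] {x : G} (h : IsCS p x)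
    (P₀ : Sylow p G) : ∃ g : G, g⁻¹ * x * g ∈ ZZ (P₀ : Subgroup G) := by
  obtain ⟨-, S, hS⟩ := h
  obtain ⟨g, hg⟩ := MulAction.exists_smul_eq G P₀ S
  refine ⟨g, ?_⟩
  have h1 := congrArg (fun P : Sylow p G => (P : Subgroup G)) hg
  simp only [Sylow.coe_subgroup_smul, Sylow.pointwise_smul_def] at h1
  rw [← h1, ZZ_smul, Subgroup.mem_pointwise_smul_iff_inv_smul_mem] at hS
  have h2 : (MulAut.conj g)⁻¹ • x = g⁻¹ * x * g := by
    rw [← map_inv, MulAut.smul_def, MulAut.conj_apply, inv_inv]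
  rwa [h2] at hS

theorem isCS_conj {p : ℕ} {x : G} (h : IsCS p x) (g : G) : IsCS p (g * x * g⁻¹) :=
  h.map (MulAut.conj g)

end general

variable {F : Type*} [Field F] {m : ℕ}

/-- the transvections -/
def IsTv (x : symplecticGroup (Fin m) F) : Prop :=
  ∃ (v : Fin m ⊕ Fin m → F) (s : F), v ≠ 0 ∧ s ≠ 0 ∧ x = T v s

theorem IsTv.conj {x : symplecticGroup (Fin m) F} (h : IsTv x) (g : symplecticGroup (Fin m) F) :
    IsTv (g * x * g⁻¹) := by
  obtain ⟨v, s, hv, hs, rfl⟩ := h
  exact ⟨_, s, mulVec_ne_zero' g hv, hs, conj_T g v s⟩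

namespace Frame

variable (fr : Frame m F)

theorem ZZ_sylow_le [Fintype F] (p : ℕ) [Fact p.Prime] [CharP F p] (hm : 1 ≤ m)
    (P : Sylow p (symplecticGroup (Fin m) F)) (hQ : fr.Qv ≤ P) :
    ZZ (P : Subgroup (symplecticGroup (Fin m) F)) ≤ fr.Qv := by
  intro g hg
  rw [mem_ZZ] at hg
  obtain ⟨hg, hc⟩ := hg
  have h1 := fr.sylow_fix p hm P hQ hg
  exact fr.centralizer_Qv_le (fr.mem_Bv_of_fix h1) (fr.lt_of_fix h1)
    (fun u hu => (hc u (hQ hu)).symm)

theorem RG_le_ZZ_sylow [Fintype F] (p : ℕ) [Fact p.Prime] [CharP F p] (hm : 1 ≤ m)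
    (P : Sylow p (symplecticGroup (Fin m) F)) (hQ : fr.Qv ≤ P) :
    RG m F fr.e ≤ ZZ (P : Subgroup (symplecticGroup (Fin m) F)) := by
  intro g hg
  rw [mem_ZZ]
  refine ⟨hQ (fr.RG_e_le_Qv hg), fun h hh => ?_⟩
  obtain ⟨s, rfl⟩ := (mem_RG_iff fr.e g).mp hg
  have h1 := fr.sylow_fix p hm P hQ hh
  have h3 := conj_T h fr.e s
  rw [h1] at h3
  calc h * T fr.e s = (h * T fr.e s * h⁻¹) * h := by group
    _ = T fr.e s * h := by rw [h3]

end Frame

theorem isCS_of_isTv [Fintype F] (p : ℕ) [Fact p.Prime] [CharP F p] (hm : 2 ≤ m)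
    {x : symplecticGroup (Fin m) F} (h : IsTv x) : IsCS p x := by
  obtain ⟨v, s, hv, hs, rfl⟩ := h
  obtain ⟨fr⟩ := exists_frame (F := F) hm
  obtain ⟨P₀, hP₀⟩ := (fr.isPGroup_Qv p).exists_le_sylow
  obtain ⟨g, -, hg⟩ := exists_mem_mulVec_eq fr.e_ne_zero hv
  have h1 : IsCS p (T fr.e s) := by
    refine ⟨fun h0 => hs ((T_eq_one_iff fr.e_ne_zero s).mp h0), P₀, ?_⟩
    exact fr.RG_le_ZZ_sylow p (by omega) P₀ hP₀ (T_mem_RG _ _)
  have h2 := isCS_conj h1 g
  rwa [conj_T, hg] at h2

/-- **the transvections are the elements central in a Sylow 2-subgroup with the largest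
centraliser** -/
theorem isTv_iff_max [Fintype F] [CharP F 2] {n : ℕ} (x : symplecticGroup (Fin (n + 3)) F) :
    IsTv x ↔ IsCS 2 x ∧ ∀ y : symplecticGroup (Fin (n + 3)) F, IsCS 2 y →
      Nat.card (Subgroup.centralizer {y} : Subgroup (symplecticGroup (Fin (n + 3)) F)) ≤
        Nat.card (Subgroup.centralizer {x} : Subgroup (symplecticGroup (Fin (n + 3)) F)) := by
  obtain ⟨fr⟩ := exists_frame (F := F) (m := n + 3) (by omega)
  obtain ⟨P₀, hP₀⟩ := (fr.isPGroup_Qv 2).exists_le_sylow
  have hpos : 0 < Fintype.card F ^ (2 * (n + 3)) - 1 := by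
    have : 2 ≤ Fintype.card F ^ (2 * (n + 3)) := by
      calc 2 ≤ Fintype.card F := Fintype.one_lt_card
        _ = Fintype.card F ^ 1 := (pow_one _).symm
        _ ≤ Fintype.card F ^ (2 * (n + 3)) :=
          Nat.pow_le_pow_right Fintype.card_pos (by omega)
    omega
  -- all transvections have centralisers of the same order
  have hTcard : ∀ {v : Fin (n + 3) ⊕ Fin (n + 3) → F} {s : F}, v ≠ 0 → s ≠ 0 →
      Nat.card (Subgroup.centralizer {T v s} : Subgroup (symplecticGroup (Fin (n + 3)) F)) =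
        Nat.card (Subgroup.centralizer {T fr.e (1 : F)} :
          Subgroup (symplecticGroup (Fin (n + 3)) F)) := by
    intro v s hv hs
    have h1 := card_centralizer_T (F := F) hv hs
    have h2 := card_centralizer_T (F := F) fr.e_ne_zero (one_ne_zero : (1 : F) ≠ 0)
    rw [h1] at h2
    exact Nat.eq_of_mul_eq_mul_left hpos h2
  -- the elements central in a Sylow subgroup
  have hCS : ∀ y : symplecticGroup (Fin (n + 3)) F, IsCS 2 y →
      IsTv y ∨ Nat.card (Subgroup.centralizer {y} :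
        Subgroup (symplecticGroup (Fin (n + 3)) F)) <
        Nat.card (Subgroup.centralizer {T fr.e (1 : F)} :
          Subgroup (symplecticGroup (Fin (n + 3)) F)) := by
    intro y hy
    obtain ⟨g, hg⟩ := hy.exists_conj P₀
    obtain ⟨w, a, hwa⟩ := fr.ZZ_sylow_le 2 (by omega) P₀ hP₀ hg
    have hy' : y = g * fr.sg w a * g⁻¹ := by
      rw [← hwa]
      group
    by_cases hw : w = 0
    · left
      subst hw
      rw [fr.sg_zero_left] at hy'
      have ha : -a ≠ 0 := by
        intro h0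
        rw [h0, T_zero, mul_one, mul_inv_cancel] at hy'
        exact hy.1 hy'
      rw [hy']
      exact IsTv.conj ⟨fr.e, -a, fr.e_ne_zero, ha, rfl⟩ g
    · right
      rw [hy', card_centralizer_conj]
      exact fr.card_centralizer_sg_lt hw a
  constructor
  · rintro ⟨v, s, hv, hs, rfl⟩
    refine ⟨isCS_of_isTv 2 (by omega) ⟨v, s, hv, hs, rfl⟩, fun y hy => ?_⟩
    rw [hTcard hv hs]
    rcases hCS y hy with ⟨v', s', hv', hs', rfl⟩ | h
    · exact (hTcard hv' hs').le
    · exact h.le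
  · rintro ⟨hx, hmax⟩
    rcases hCS x hx with h | h
    · exact h
    · exfalso
      have h1 : IsCS 2 (T fr.e (1 : F)) :=
        isCS_of_isTv 2 (by omega) ⟨fr.e, 1, fr.e_ne_zero, one_ne_zero, rfl⟩
      exact absurd (hmax _ h1) (not_le.mpr h)

/-- **every automorphism of `Sp_{2m}(q)`, `q` even, `m ≥ 3`, permutes the transvections** -/
theorem IsTv.map [Fintype F] [CharP F 2] {n : ℕ} {x : symplecticGroup (Fin (n + 3)) F}
    (h : IsTv x) (β : MulAut (symplecticGroup (Fin (n + 3)) F)) : IsTv (β x) := by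
  rw [isTv_iff_max] at h ⊢
  obtain ⟨h1, h2⟩ := h
  refine ⟨h1.map β, fun y hy => ?_⟩
  have h3 := h2 _ (hy.map β⁻¹)
  rw [card_centralizer_map] at h3
  rw [card_centralizer_map]
  exact h3

end Cfsg.Agent.Helper8.AutSp
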