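import Mathlib
import Cfsg.Agent.Helper8.AutSpzf

set_option autoImplicit false
set_option linter.unusedSectionVars false

/-! Automorphisms of `PSp_{2m}(q)`, `q` even, `m ≥ 3`: every automorphism permutes the root groups;
the automorphism group of `PSp_{2m}(q)` (helper8). -/

namespace Cfsg.Agent.Helper8.AutSp

open Matrix Cfsg Cfsg.Agent.Helper7.Symp Cfsg.Agent.Helper8.SpRoot
open Cfsg.Agent.Helper8.AutSLn (ZZ mem_ZZ ZZ_smul)
open scoped Pointwise

section general

variable {G : Type*} [Group G]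

theorem centralizer_singleton_map (β : MulAut G) (x : G) :
    (Subgroup.centralizer {β x} : Subgroup G) = β • Subgroup.centralizer {x} := by
  ext g
  rw [Subgroup.mem_pointwise_smul_iff_inv_smul_mem, Subgroup.mem_centralizer_iff,
    Subgroup.mem_centralizer_iff]
  constructor
  · intro h y hy
    rw [Set.mem_singleton_iff] at hy
    subst hy
    have h1 := h (β y) rfl
    have h2 := congrArg (fun z => β⁻¹ • z) h1
    simp only [smul_mul', MulAut.smul_def, MulAut.inv_apply_self] at h2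
    exact h2
  · intro h y hy
    rw [Set.mem_singleton_iff] at hy
    subst hy
    have h1 := h x rfl
    have h2 := congrArg (fun z => β • z) h1
    simp only [smul_mul', smul_inv_smul] at h2
    exact h2

/-- the centre of the centraliser -/
def CZ (x : G) : Subgroup G := ZZ (Subgroup.centralizer {x})

theorem CZ_map (β : MulAut G) (x : G) : CZ (β x) = β • CZ x := by
  unfold CZ
  rw [centralizer_singleton_map, ZZ_smul]

theorem mem_CZ {x z : G} : z ∈ CZ x ↔ z * x = x * z ∧ ∀ g : G, g * x = x * g → g * z = z * g := by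
  unfold CZ
  rw [mem_ZZ, Subgroup.mem_centralizer_iff]
  constructor
  · rintro ⟨h1, h2⟩
    refine ⟨(h1 x rfl).symm, fun g hg => h2 g ?_⟩
    rw [Subgroup.mem_centralizer_iff]
    intro y hy
    rw [Set.mem_singleton_iff] at hy
    subst hy
    exact hg.symm
  · rintro ⟨h1, h2⟩
    refine ⟨fun y hy => ?_, fun g hg => h2 g ?_⟩
    · rw [Set.mem_singleton_iff] at hy
      subst hy
      exact h1.symm
    · rw [Subgroup.mem_centralizer_iff] at hg
      exact (hg x rfl).symm

end general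

variable {F : Type*} [Field F] {m : ℕ}

namespace Frame

variable (fr : Frame m F)

/-- in characteristic two the root group is the centre of the centraliser of a transvection -/
theorem CZ_T_e [CharP F 2] {s : F} (hs : s ≠ 0) : CZ (T fr.e s) = RG m F fr.e := by
  ext z
  rw [mem_CZ]
  constructor
  · rintro ⟨h1, h2⟩
    have hze : mt z *ᵥ fr.e = fr.e := (commute_T_iff fr.e_ne_zero hs z).mp h1
    have hzQ : z ∈ fr.Qv := by
      apply fr.centralizer_Qv_le (fr.mem_Bv_of_fix hze) (fr.lt_of_fix hze)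
      rintro _ ⟨w, a, rfl⟩
      exact (h2 _ ((commute_T_iff fr.e_ne_zero hs _).mpr (fr.sg_e w a))).symm
    obtain ⟨w₀, a₀, rfl⟩ := hzQ
    have hw₀ : w₀ = 0 := by
      by_contra hw
      obtain ⟨r, hr⟩ := fr.exists_B_W_ne_zero hw
      have h3 := h2 _ ((commute_T_iff fr.e_ne_zero hs _).mpr (fr.T_w_e r 1))
      have h4 : T (r : Fin m ⊕ Fin m → F) 1 * fr.sg w₀ a₀ * (T (r : Fin m ⊕ Fin m → F) 1)⁻¹ =
          fr.sg w₀ a₀ := by
        rw [h3, mul_inv_cancel_right]
      rw [fr.conj_sg (fr.T_w_mem_Lv r 1), fr.lt_T_w, one_smul, fr.lact_T_w, one_mul] at h4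
      have h5 := (fr.sg_injective h4).1
      have h6 : sympForm m F (w₀ : Fin m ⊕ Fin m → F) (r : Fin m ⊕ Fin m → F) • r = 0 := by
        have : w₀ + sympForm m F (w₀ : Fin m ⊕ Fin m → F) (r : Fin m ⊕ Fin m → F) • r - w₀ =
            w₀ - w₀ := by rw [h5]
        rwa [add_sub_cancel_left, sub_self] at this
      rcases smul_eq_zero.mp h6 with h7 | h7
      · exact hr h7
      · apply hr
        rw [h7, Submodule.coe_zero, B_zero_right]
    rw [hw₀, fr.sg_zero_left]
    exact T_mem_RG _ _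
  · intro hz
    obtain ⟨t, rfl⟩ := (mem_RG_iff fr.e z).mp hz
    refine ⟨T_comm _ _ _, fun g hg => ?_⟩
    have hge : mt g *ᵥ fr.e = fr.e := (commute_T_iff fr.e_ne_zero hs g).mp hg
    have h1 := conj_T g fr.e t
    rw [hge] at h1
    calc g * T fr.e t = (g * T fr.e t * g⁻¹) * g := by group
      _ = T fr.e t * g := by rw [h1]

end Frame

theorem CZ_T [CharP F 2] (hm : 2 ≤ m) {v : Fin m ⊕ Fin m → F} (hv : v ≠ 0) {s : F} (hs : s ≠ 0) :
    CZ (T v s) = RG m F v := by
  obtain ⟨fr⟩ := exists_frame (F := F) hm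
  obtain ⟨g, -, hg⟩ := exists_mem_mulVec_eq fr.e_ne_zero hv
  have h1 : T v s = MulAut.conj g (T fr.e s) := by
    rw [MulAut.conj_apply, conj_T, hg]
  rw [h1, CZ_map, fr.CZ_T_e hs, conj_smul_RG, hg]

/-- **every automorphism of `Sp_{2m}(q)`, `q` even, `m ≥ 3`, permutes the root groups** -/
theorem RG_map [Fintype F] [CharP F 2] {n : ℕ}
    (β : MulAut (symplecticGroup (Fin (n + 3)) F)) {v : Fin (n + 3) ⊕ Fin (n + 3) → F}
    (hv : v ≠ 0) : ∃ v' : Fin (n + 3) ⊕ Fin (n + 3) → F, v' ≠ 0 ∧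
      β • RG (n + 3) F v = RG (n + 3) F v' := by
  have h1 : IsTv (T v (1 : F)) := ⟨v, 1, hv, one_ne_zero, rfl⟩
  obtain ⟨v', s', hv', hs', e⟩ := h1.map β
  refine ⟨v', hv', ?_⟩
  rw [← CZ_T (by omega) hv (one_ne_zero : (1 : F) ≠ 0), ← CZ_map, e, CZ_T (by omega) hv' hs']

/-- in characteristic two the centre of the symplectic group is trivial -/
theorem pr_injective_char_two [CharP F 2] (hm : 1 ≤ m) :
    Function.Injective (pr : symplecticGroup (Fin m) F →* PSp m F) := by
  intro a b h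
  have hz := pr_eq_iff.mp h
  obtain ⟨ζ, hζ1, hζ⟩ := center_mulVec hm hz
  have h3 : a⁻¹ * b = 1 := by
    apply ext_mulVec
    intro v
    rw [hζ, eq_one_of_sq_eq_one_char_two hζ1, one_smul, coe_one_mulVec]
  exact inv_mul_eq_one.mp h3

/-- **in characteristic two and rank at least three every automorphism of `PSp` permutes the root
groups** -/
theorem rootPres_char_two [Fintype F] [CharP F 2] {n : ℕ} : RootPres (n + 3) F := by
  rintro β R ⟨v, hv0, rfl⟩
  obtain ⟨E, hE⟩ : ∃ E : symplecticGroup (Fin (n + 3)) F ≃* PSp (n + 3) F, ∀ s, E s = pr s :=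
    ⟨MulEquiv.ofBijective pr ⟨pr_injective_char_two (by omega), pr_surjective⟩, fun _ => rfl⟩
  obtain ⟨β', hβ'⟩ : ∃ β' : MulAut (symplecticGroup (Fin (n + 3)) F),
      ∀ s, β' s = E.symm (β (E s)) := ⟨(E.trans β).trans E.symm, fun _ => rfl⟩
  have hβ'' : ∀ s, pr (β' s) = β (pr s) := by
    intro s
    rw [hβ', ← hE, MulEquiv.apply_symm_apply, hE]
  obtain ⟨v', hv', e⟩ := RG_map β' hv0
  refine ⟨v', hv', ?_⟩
  ext x
  rw [Subgroup.mem_pointwise_smul_iff_inv_smul_mem, mem_Xb_iff, mem_Xb_iff]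
  constructor
  · rintro ⟨s, hs⟩
    have h1 : β' (T v s) ∈ RG (n + 3) F v' := by
      rw [← e]
      exact Subgroup.smul_mem_pointwise_smul _ _ _ (T_mem_RG v s)
    obtain ⟨s', hs'⟩ := (mem_RG_iff v' _).mp h1
    refine ⟨s', ?_⟩
    rw [← hs', hβ'', ← hs]
    exact (smul_inv_smul β x).symm
  · rintro ⟨s', rfl⟩
    have h1 : T v' s' ∈ β' • RG (n + 3) F v := by
      rw [e]
      exact T_mem_RG v' s'
    rw [Subgroup.mem_pointwise_smul_iff_inv_smul_mem, mem_RG_iff] at h1
    obtain ⟨s, hs⟩ := h1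
    refine ⟨s, ?_⟩
    rw [← hs]
    have h2 : β (pr (β'⁻¹ • T v' s')) = pr (T v' s') := by
      rw [← hβ'']
      congr 1
      exact smul_inv_smul β' _
    rw [← h2]
    exact inv_smul_smul β _

end Cfsg.Agent.Helper8.AutSp
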