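import Mathlib
import Cfsg.Agent.Helper8.AutSpzg

set_option autoImplicit false
set_option linter.unusedSectionVars false

/-! The automorphism group of `PSp_{2m}(q)`, `(2m, p) ≠ (4, 2)` (helper8). -/

namespace Cfsg.Agent.Helper8.AutSp

open Matrix Cfsg Cfsg.Agent.Helper7.Symp Cfsg.Agent.Helper8.SpRoot

variable {F : Type*} [Field F] {m : ℕ}

/-- **every automorphism of `PSp_{2m}(q)`, `(2m, p) ≠ (4, 2)`, is induced by a conformal symplectic
semilinear map** -/
theorem aut_PSp_standard [Fintype F] (p : ℕ) [Fact p.Prime] [CharP F p] (hm : 2 ≤ m)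
    (h4 : m = 2 → p ≠ 2) (β : MulAut (PSp m F)) :
    ∃ (g : GSp m F) (σ : F ≃+* F), β = pspConj g * pspField σ := by
  by_cases h2 : (2 : F) = 0
  · have hp : p = 2 := by
      have h3 : ((2 : ℕ) : F) = 0 := by exact_mod_cast h2
      have h5 := (CharP.cast_eq_zero_iff F p 2).mp h3
      exact ((Nat.prime_dvd_prime_iff_eq Fact.out Nat.prime_two).mp h5)
    subst hp
    obtain ⟨n, rfl⟩ : ∃ n, m = n + 3 := by
      refine ⟨m - 3, ?_⟩
      have : m ≠ 2 := fun h => h4 h rfl
      omega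
    exact aut_PSp_standard_of_rootPres 2 hm rootPres_char_two β
  · exact aut_PSp_standard_odd p h2 hm β

/-- **the automorphism group of `PSp_{2m}(q)`, `(2m, p) ≠ (4, 2)`, is the image of `PΓSp`** -/
theorem gammaPSp_eq_top [Fintype F] (p : ℕ) [Fact p.Prime] [CharP F p] (hm : 2 ≤ m)
    (h4 : m = 2 → p ≠ 2) : Cfsg.gammaPSp m F = ⊤ := by
  rw [eq_top_iff]
  intro β _
  obtain ⟨g, σ, rfl⟩ := aut_PSp_standard p hm h4 β
  apply Subgroup.subset_closure
  exact ⟨g, σ, g.2, isInducedBySemilinear_mul g σ⟩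

end Cfsg.Agent.Helper8.AutSp
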