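import Mathlib
import Cfsg.Agent.Helper8.AutSpzh

set_option autoImplicit false
set_option linter.unusedSectionVars false

/-! Automorphisms of `PSp_{2m}(q)`: a single automorphism permuting the root groups is induced by a
conformal symplectic semilinear map (helper8). -/

namespace Cfsg.Agent.Helper8.AutSp

open Matrix Cfsg Cfsg.Agent.Helper7.Symp Cfsg.Agent.Helper8.SpRoot
open scoped Pointwise

variable {F : Type*} [Field F] {m : ℕ}

/-- the automorphism `β` maps root groups to root groups -/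
def RootPresOn (β : MulAut (PSp m F)) : Prop :=
  ∀ R : Subgroup (PSp m F), IsRootU R → IsRootU (β • R)

theorem RootPresOn.mul {β γ : MulAut (PSp m F)} (hβ : RootPresOn β) (hγ : RootPresOn γ) :
    RootPresOn (β * γ) := by
  intro R hR
  rw [mul_smul]
  exact hβ _ (hγ _ hR)

theorem rootPresOn_psa (g : GSp m F) (σ : F ≃+* F) : RootPresOn (psa g σ) := by
  rintro R ⟨v, hv0, rfl⟩
  exact ⟨_, sm_ne_zero g σ hv0, psa_smul_Xb g σ v⟩

theorem rootPresOn_psa_inv (g : GSp m F) (σ : F ≃+* F) : RootPresOn (psa g σ)⁻¹ := by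
  rintro R ⟨v, hv0, rfl⟩
  obtain ⟨u, rfl⟩ := sm_surjective g σ v
  have hu0 : u ≠ 0 := by
    rintro rfl
    exact hv0 (sm_zero g σ)
  refine ⟨u, hu0, ?_⟩
  rw [← psa_smul_Xb, inv_smul_smul]

theorem rootPresOn_pspConj_inv (g : GSp m F) : RootPresOn (pspConj g : MulAut (PSp m F))⁻¹ := by
  have := rootPresOn_psa_inv (m := m) g (RingEquiv.refl F)
  rwa [psa_refl] at this

/-- normalisation: after an inner automorphism, the root groups of `e` and `f` are fixed -/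
theorem exists_normalize' (p : ℕ) [Fact p.Prime] [CharP F p] (hm : 1 ≤ m)
    (fr : Frame m F) {β : MulAut (PSp m F)} (hRP : RootPresOn β) :
    ∃ g : GSp m F, fr.Fixes ((pspConj g)⁻¹ * β) := by
  obtain ⟨v₁, hv₁0, h1⟩ := hRP _ ⟨fr.e, fr.e_ne_zero, rfl⟩
  obtain ⟨v₂, hv₂0, h2⟩ := hRP _ ⟨fr.f, fr.f_ne_zero, rfl⟩
  have hne : sympForm m F v₁ v₂ ≠ 0 := by
    intro h0
    have h3 := (comm_iff p hm hv₁0 (v' := v₂)).mpr h0
    rw [← h1, ← h2, comm_smul, comm_iff p hm fr.e_ne_zero, fr.hef] at h3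
    exact one_ne_zero h3
  set c := (sympForm m F v₁ v₂)⁻¹ with hc
  have hc0 : c ≠ 0 := inv_ne_zero hne
  have h12 : sympForm m F v₁ (c • v₂) = 1 := by
    rw [sympForm_smul_right, hc, inv_mul_cancel₀ hne]
  obtain ⟨g, -, hg1, hg2⟩ := exists_mem_mulVec_pair fr.hef h12
  have hg1' : sm (toGSp g) (RingEquiv.refl F) fr.e = v₁ := hg1
  have hg2' : sm (toGSp g) (RingEquiv.refl F) fr.f = c • v₂ := hg2
  refine ⟨toGSp g, ?_, ?_⟩
  · rw [mul_smul, h1, ← hg1', ← psa_smul_Xb, psa_refl, inv_smul_smul]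
  · rw [mul_smul, h2, ← Xb_smul v₂ hc0, ← hg2', ← psa_smul_Xb, psa_refl, inv_smul_smul]

namespace Frame

variable {fr : Frame m F}

/-- all root groups are fixed -/
theorem fix_all' (p : ℕ) [Fact p.Prime] [CharP F p] (hm : 1 ≤ m)
    {β : MulAut (PSp m F)} (hRP : RootPresOn β) (hβ : fr.Fixes β) (hQ : ∀ x ∈ fr.Qb, β x = x)
    {v : Fin m ⊕ Fin m → F} (hv0 : v ≠ 0) : β • Xb v = Xb v := by
  by_cases hve : sympForm m F v fr.e = 0
  swap
  · exact fix_opp hβ hQ hve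
  by_cases hx : fr.pw v = 0
  · have hdec := fr.dec v
    rw [hve, zero_smul, sub_zero, hx, Submodule.coe_zero, add_zero] at hdec
    have hc : sympForm m F v fr.f ≠ 0 := by
      intro h0
      rw [h0, zero_smul] at hdec
      exact hv0 hdec
    rw [hdec, Xb_smul _ hc]
    exact hβ.hE
  · obtain ⟨v', hv0', hR⟩ := hRP _ ⟨v, hv0, rfl⟩
    obtain ⟨c, hc0, hc⟩ := par_of_perp hv0' hve hx (fun o hoe => by
      have ho0 : o ≠ 0 := by
        rintro rfl
        exact hoe (B_zero_left _)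
      have hfo := fix_opp hβ hQ hoe
      rw [← comm_iff p hm ho0, ← comm_iff p hm ho0, ← hR]
      conv_rhs => rw [← hfo]
      rw [comm_smul])
    rw [hR, hc, Xb_smul _ hc0]

end Frame

/-- **an automorphism of `PSp_{2m}(q)` permuting the root groups is induced by a conformal
symplectic semilinear map** -/
theorem aut_PSp_standard_of_rootPresOn [Fintype F] (p : ℕ) [Fact p.Prime] [CharP F p] (hm : 2 ≤ m)
    {β : MulAut (PSp m F)} (hRP : RootPresOn β) :
    ∃ (g : GSp m F) (σ : F ≃+* F), β = pspConj g * pspField σ := by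
  have hm1 : 1 ≤ m := by omega
  obtain ⟨fr⟩ := exists_frame (F := F) hm
  obtain ⟨g₁, hfix₁⟩ := exists_normalize' p hm1 fr hRP
  obtain ⟨g₂, σ, hfix₂, hrel⟩ := Frame.exists_reduce p hm1 hfix₁
  have hQ := Frame.fix_Qb p hm1 hfix₂ hrel
  have hRP' : RootPresOn ((psa g₂ σ)⁻¹ * ((pspConj g₁)⁻¹ * β)) :=
    (rootPresOn_psa_inv g₂ σ).mul ((rootPresOn_pspConj_inv g₁).mul hRP)
  have h1 := Frame.eq_one_of_fix_all p hm1
    (fun v hv0 => Frame.fix_all' p hm1 hRP' hfix₂ hQ hv0)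
  refine ⟨g₁ * g₂, σ, ?_⟩
  have h2 : β = pspConj g₁ * psa g₂ σ := by
    have h3 : (psa g₂ σ)⁻¹ * ((pspConj g₁)⁻¹ * β) = 1 := h1
    rw [inv_mul_eq_one] at h3
    rw [h3, mul_inv_cancel_left]
  rw [h2, map_mul, mul_assoc]
  rfl

end Cfsg.Agent.Helper8.AutSp
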