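import Mathlib
import Cfsg.Agent.Helper8.AutSpzi

set_option autoImplicit false
set_option linter.unusedSectionVars false

/-! Automorphisms of `PSp_{2m}(q)`, `q` even: an automorphism mapping transvections to
transvections permutes the root groups (helper8). -/

namespace Cfsg.Agent.Helper8.AutSp

open Matrix Cfsg Cfsg.Agent.Helper7.Symp Cfsg.Agent.Helper8.SpRoot
open scoped Pointwise

variable {F : Type*} [Field F] {m : ℕ}

/-- an automorphism of `Sp_{2m}(q)`, `q` even, mapping transvections to transvections permutes the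
root groups -/
theorem RG_map_of [CharP F 2] (hm : 2 ≤ m) (β : MulAut (symplecticGroup (Fin m) F))
    (hβ : ∀ x, IsTv x → IsTv (β x)) {v : Fin m ⊕ Fin m → F} (hv : v ≠ 0) :
    ∃ v' : Fin m ⊕ Fin m → F, v' ≠ 0 ∧ β • RG m F v = RG m F v' := by
  have h1 : IsTv (T v (1 : F)) := ⟨v, 1, hv, one_ne_zero, rfl⟩
  obtain ⟨v', s', hv', hs', e⟩ := hβ _ h1
  refine ⟨v', hv', ?_⟩
  rw [← CZ_T hm hv (one_ne_zero : (1 : F) ≠ 0), ← CZ_map, e, CZ_T hm hv' hs']

/-- the images of the transvections in `PSp` -/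
def IsTvb (x : PSp m F) : Prop :=
  ∃ (v : Fin m ⊕ Fin m → F) (s : F), v ≠ 0 ∧ s ≠ 0 ∧ x = pr (T v s)

theorem isTvb_pr {x : symplecticGroup (Fin m) F} (h : IsTv x) : IsTvb (pr x) := by
  obtain ⟨v, s, hv, hs, rfl⟩ := h
  exact ⟨v, s, hv, hs, rfl⟩

theorem isTv_of_isTvb_pr [CharP F 2] (hm : 1 ≤ m) {x : symplecticGroup (Fin m) F}
    (h : IsTvb (pr x)) : IsTv x := by
  obtain ⟨v, s, hv, hs, e⟩ := h
  exact ⟨v, s, hv, hs, pr_injective_char_two hm e⟩

/-- the isomorphism of `Sp` and `PSp` in characteristic two -/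
theorem exists_equiv_char_two [CharP F 2] (hm : 1 ≤ m) :
    ∃ E : symplecticGroup (Fin m) F ≃* PSp m F, ∀ s, E s = pr s :=
  ⟨MulEquiv.ofBijective pr ⟨pr_injective_char_two hm, pr_surjective⟩, fun _ => rfl⟩

/-- the automorphism of `Sp` attached to an automorphism of `PSp` in characteristic two -/
theorem exists_lift_aut [CharP F 2] (hm : 1 ≤ m) (β : MulAut (PSp m F)) :
    ∃ β' : MulAut (symplecticGroup (Fin m) F), ∀ s, pr (β' s) = β (pr s) := by
  obtain ⟨E, hE⟩ := exists_equiv_char_two (F := F) hm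
  refine ⟨(E.trans β).trans E.symm, fun s => ?_⟩
  show pr (E.symm (β (E s))) = β (pr s)
  rw [← hE, MulEquiv.apply_symm_apply, hE]

/-- **an automorphism of `PSp_{2m}(q)`, `q` even, mapping transvections to transvections permutes
the root groups** -/
theorem rootPresOn_of_isTvb [CharP F 2] (hm : 2 ≤ m) {β : MulAut (PSp m F)}
    (hβ : ∀ x, IsTvb x → IsTvb (β x)) : RootPresOn β := by
  rintro R ⟨v, hv0, rfl⟩
  obtain ⟨β', hβ''⟩ := exists_lift_aut (by omega) β
  have hβ' : ∀ x, IsTv x → IsTv (β' x) := by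
    intro x hx
    apply isTv_of_isTvb_pr (by omega)
    rw [hβ'']
    exact hβ _ (isTvb_pr hx)
  obtain ⟨v', hv', e⟩ := RG_map_of hm β' hβ' hv0
  refine ⟨v', hv', ?_⟩
  ext x
  rw [Subgroup.mem_pointwise_smul_iff_inv_smul_mem, mem_Xb_iff, mem_Xb_iff]
  constructor
  · rintro ⟨s, hs⟩
    have h1 : β' (T v s) ∈ RG m F v' := by
      rw [← e]
      exact Subgroup.smul_mem_pointwise_smul _ _ _ (T_mem_RG v s)
    obtain ⟨s', hs'⟩ := (mem_RG_iff v' _).mp h1
    refine ⟨s', ?_⟩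
    rw [← hs', hβ'', ← hs]
    exact (smul_inv_smul β x).symm
  · rintro ⟨s', rfl⟩
    have h1 : T v' s' ∈ β' • RG m F v := by
      rw [e]
      exact T_mem_RG v' s'
    rw [Subgroup.mem_pointwise_smul_iff_inv_smul_mem, mem_RG_iff] at h1
    obtain ⟨s, hs⟩ := h1
    refine ⟨s, ?_⟩
    rw [← hs]
    have h2 : β (pr (β'⁻¹ • T v' s')) = pr (T v' s') := by
      rw [← hβ'']
      congr 1
      exact smul_inv_smul β' _
    rw [← h2]
    exact inv_smul_smul β _

/-- in characteristic two all transvections are conjugate -/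
theorem IsTv.exists_conj [Finite F] [CharP F 2] (fr : Frame m F) {x : symplecticGroup (Fin m) F}
    (h : IsTv x) : ∃ g : symplecticGroup (Fin m) F, x = g * T fr.e (1 : F) * g⁻¹ := by
  obtain ⟨v, s, hv, hs, rfl⟩ := h
  have hF2 : ringChar F = 2 := ringChar.eq F 2
  obtain ⟨c, hc⟩ := FiniteField.isSquare_of_char_two hF2 s
  have hc0 : c ≠ 0 := by
    rintro rfl
    rw [mul_zero] at hc
    exact hs hc
  have hcv : c • v ≠ 0 := smul_ne_zero hc0 hv
  obtain ⟨g, -, hg⟩ := exists_mem_mulVec_eq fr.e_ne_zero hcv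
  refine ⟨g, ?_⟩
  rw [conj_T, hg, T_smul, one_mul, ← hc]

end Cfsg.Agent.Helper8.AutSp
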