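import Mathlib
import Cfsg.Agent.Helper8.AutSpzj

set_option autoImplicit false
set_option linter.unusedSectionVars false

/-! Automorphisms of `Sp_{2m}(q)`, `q` even: elements of order three centralising a transvection;
Siegel elements that are not transvections; transitivity of the Levi complement (helper8). -/

namespace Cfsg.Agent.Helper8.AutSp

open Matrix Cfsg Cfsg.Agent.Helper7.Symp Cfsg.Agent.Helper8.SpRoot
open scoped Pointwise

variable {F : Type*} [Field F] {m : ℕ}

theorem neg_one_eq_one_char_two [CharP F 2] : (-1 : F) = 1 := by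
  have h2 : (2 : F) = 0 := by
    have := CharP.cast_eq_zero F 2
    exact_mod_cast this
  have : (1 : F) + 1 = 0 := by
    have h : (1 : F) + 1 = 2 := by norm_num
    rw [h, h2]
  exact neg_eq_of_add_eq_zero_left this

theorem T_mul_self_char_two [CharP F 2] (v : Fin m ⊕ Fin m → F) (s : F) : T v s * T v s = 1 := by
  have := T_pow_char 2 v s
  rwa [pow_two] at this

namespace Frame

variable (fr : Frame m F)

/-- the centraliser of a transvection contains an element of order three -/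
theorem exists_order_three [CharP F 2] {s : F} (hs : s ≠ 0) :
    ∃ g : symplecticGroup (Fin m) F, g * T fr.e s = T fr.e s * g ∧ orderOf g = 3 := by
  have hyx : sympForm m F fr.y fr.x = 1 := by rw [fr.hyx, neg_one_eq_one_char_two]
  -- `T_x T_y T_x = T_{x+y} = T_y T_x T_y`
  have h1 : T fr.x (1 : F) * T fr.y 1 * T fr.x 1 = T (fr.x + fr.y) 1 := by
    have h := conj_T (T fr.x (1 : F)) fr.y (1 : F)
    rw [T_mulVec, one_mul, hyx, one_smul, T_inv] at h
    have h2 : T fr.x (-1 : F) = T fr.x 1 := by rw [neg_one_eq_one_char_two]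
    rw [h2, add_comm fr.y fr.x] at h
    exact h
  have h2 : T fr.y (1 : F) * T fr.x 1 * T fr.y 1 = T (fr.x + fr.y) 1 := by
    have h := conj_T (T fr.y (1 : F)) fr.x (1 : F)
    rw [T_mulVec, one_mul, fr.hxy, one_smul, T_inv] at h
    have h3 : T fr.y (-1 : F) = T fr.y 1 := by rw [neg_one_eq_one_char_two]
    rw [h3] at h
    exact h
  refine ⟨T fr.x 1 * T fr.y 1, ?_, ?_⟩
  · have a1 : mt (T fr.y (1 : F)) *ᵥ fr.e = fr.e := by
      rw [T_mulVec, fr.hey, mul_zero, zero_smul, add_zero]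
    have a2 : mt (T fr.x (1 : F)) *ᵥ fr.e = fr.e := by
      rw [T_mulVec, fr.hex, mul_zero, zero_smul, add_zero]
    rw [commute_T_iff fr.e_ne_zero hs, coe_mul_mulVec, a1, a2]
  · apply orderOf_eq_prime
    · calc (T fr.x (1 : F) * T fr.y 1) ^ 3
          = (T fr.x 1 * T fr.y 1 * T fr.x 1) * (T fr.y 1 * T fr.x 1 * T fr.y 1) := by
            rw [pow_succ, pow_two]
            simp only [mul_assoc]
        _ = 1 := by rw [h1, h2, T_mul_self_char_two]
    · intro h
      have h3 := congrArg (fun g => mt g *ᵥ fr.x) h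
      beta_reduce at h3
      have a3 : mt (T fr.y (1 : F)) *ᵥ fr.x = fr.x + fr.y := by
        rw [T_mulVec, one_mul, fr.hxy, one_smul]
      rw [coe_mul_mulVec, coe_one_mulVec, a3, T_mulVec, one_mul,
        sympForm_add_left, sympForm_self, hyx, zero_add, one_smul] at h3
      -- `x + y + x = x`
      have h4 : fr.y + fr.x = 0 := by
        have : fr.x + fr.y + fr.x - fr.x = fr.x - fr.x := by rw [h3]
        rw [sub_self] at this
        rw [← this]
        abel
      have h5 := congrArg (fun v => sympForm m F v fr.x) h4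
      beta_reduce at h5
      rw [sympForm_add_left, hyx, sympForm_self, add_zero, B_zero_left] at h5
      exact one_ne_zero h5

theorem not_isPGroup_centralizer_T [CharP F 2] {s : F} (hs : s ≠ 0) :
    ¬ IsPGroup 2 (Subgroup.centralizer {T fr.e s} : Subgroup (symplecticGroup (Fin m) F)) := by
  intro h
  obtain ⟨g, hg, ho⟩ := fr.exists_order_three hs
  have hmem : g ∈ (Subgroup.centralizer {T fr.e s} : Subgroup (symplecticGroup (Fin m) F)) := by
    rw [Subgroup.mem_centralizer_iff]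
    intro y hy
    rw [Set.mem_singleton_iff] at hy
    subst hy
    exact hg.symm
  obtain ⟨k, hk⟩ := h ⟨g, hmem⟩
  have hk' : g ^ 2 ^ k = 1 := congrArg Subtype.val hk
  have h3 := orderOf_dvd_of_pow_eq_one hk'
  rw [ho] at h3
  have h4 := (Nat.Prime.dvd_of_dvd_pow Nat.prime_three h3)
  omega

/-- a Siegel element with nonzero vector part is not a transvection -/
theorem not_isTv_sg {w : fr.W} (hw : w ≠ 0) (a : F) : ¬ IsTv (fr.sg w a) := by
  rintro ⟨v, s, hv, hs, h⟩
  -- the image of `y - 1` is spanned by `v`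
  have key : ∀ x, mt (fr.sg w a) *ᵥ x - x = (s * sympForm m F x v) • v := by
    intro x
    rw [h, T_mulVec, add_sub_cancel_left]
  obtain ⟨w', hw'⟩ := fr.exists_B_W_eq_one hw
  have h1 := key (w' : Fin m ⊕ Fin m → F)
  rw [fr.sg_w, hw', one_smul, sub_sub_cancel_left] at h1
  have h2 := key fr.f
  rw [fr.sg_f, add_assoc, add_sub_cancel_left] at h2
  -- `-e = c₁ v`, `w + a e = c₂ v`
  have hc1 : s * sympForm m F (w' : Fin m ⊕ Fin m → F) v ≠ 0 := by
    intro h0
    rw [h0, zero_smul] at h1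
    exact fr.e_ne_zero (neg_eq_zero.mp h1)
  have hv' : v = (s * sympForm m F (w' : Fin m ⊕ Fin m → F) v)⁻¹ • (-fr.e) := by
    rw [h1, smul_smul, inv_mul_cancel₀ hc1, one_smul]
  rw [hv'] at h2
  have h3 := congrArg (fun u => fr.pw u) h2
  beta_reduce at h3
  rw [map_add, map_smul, map_smul, map_smul, map_neg, fr.pw_e, fr.pw_of_mem, neg_zero, smul_zero,
    smul_zero, smul_zero, add_zero] at h3
  exact hw h3

/-- the Levi complement is transitive on the nonzero vectors of `W` -/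
theorem exists_Lv_trans {w w₁ : fr.W} (hw : w ≠ 0) (hw₁ : w₁ ≠ 0) :
    ∃ l : symplecticGroup (Fin m) F, l ∈ fr.Lv ∧ fr.lt l = 1 ∧ fr.lact l w = w₁ := by
  have hS : ∀ x ∈ fr.W, x ≠ 0 → ∃ y ∈ fr.W, sympForm m F x y ≠ 0 := by
    intro x hx hx0
    obtain ⟨r, hr⟩ := fr.exists_B_W_ne_zero (w := ⟨x, hx⟩) (fun h => hx0 (congrArg Subtype.val h))
    exact ⟨r, r.2, hr⟩
  obtain ⟨g, hg, e⟩ := exists_mem_mulVec_eq_rel hS w.2 w₁.2
    (fun h => hw (Subtype.ext h)) (fun h => hw₁ (Subtype.ext h))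
  have hP : ∀ g ∈ HS fr.W, g ∈ fr.Lv ∧ fr.lt g = 1 := by
    intro g hg
    induction hg using Subgroup.closure_induction with
    | mem x hx =>
      obtain ⟨u, hu, c, rfl⟩ := hx
      exact ⟨fr.T_w_mem_Lv ⟨u, hu⟩ c, fr.lt_T_w ⟨u, hu⟩ c⟩
    | one =>
      refine ⟨fr.Lv.one_mem, ?_⟩
      unfold lt
      rw [coe_one_mulVec, fr.hef]
    | mul x y _ _ hx hy =>
      refine ⟨fr.Lv.mul_mem hx.1 hy.1, ?_⟩
      rw [fr.lt_mul hx.1.1 hy.1.1, hx.2, hy.2, one_mul]
    | inv x _ hx =>
      refine ⟨fr.Lv.inv_mem hx.1, ?_⟩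
      have h1 := fr.lt_mul (fr.Lv.inv_mem hx.1).1 hx.1.1
      rw [inv_mul_cancel, hx.2, mul_one] at h1
      rw [← h1]
      unfold lt
      rw [coe_one_mulVec, fr.hef]
  obtain ⟨hl, hlt⟩ := hP g hg
  refine ⟨g, hl, hlt, ?_⟩
  apply Subtype.ext
  rw [← fr.lact_spec hl, e]

/-- Siegel elements with zero scalar part and nonzero vector part are conjugate -/
theorem sg_zero_conj {w w₁ : fr.W} (hw : w ≠ 0) (hw₁ : w₁ ≠ 0) :
    ∃ l : symplecticGroup (Fin m) F, l * fr.sg w 0 * l⁻¹ = fr.sg w₁ 0 := by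
  obtain ⟨l, hl, hlt, hact⟩ := fr.exists_Lv_trans hw hw₁
  refine ⟨l, ?_⟩
  rw [fr.conj_sg hl, hlt, one_smul, hact, mul_zero]

end Frame

end Cfsg.Agent.Helper8.AutSp
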