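import Mathlib
import Cfsg.Agent.Helper8.AutSpzk

set_option autoImplicit false
set_option linter.unusedSectionVars false

/-! Automorphisms of `Sp_4(q)`, `q` even: the centraliser of a Siegel element with nonzero vector
and scalar parts is a 2-group (helper8). -/

namespace Cfsg.Agent.Helper8.AutSp

open Matrix Cfsg Cfsg.Agent.Helper7.Symp Cfsg.Agent.Helper8.SpRoot
open scoped Pointwise

variable {F : Type*} [Field F]

namespace Frame

variable (fr : Frame 2 F)

/-- in dimension four the space `W` is spanned by a hyperbolic pair -/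
theorem W_decomp {w w' : fr.W}
    (h : sympForm 2 F (w' : Fin 2 ⊕ Fin 2 → F) (w : Fin 2 ⊕ Fin 2 → F) = 1) (u : fr.W) :
    u = (-sympForm 2 F (u : Fin 2 ⊕ Fin 2 → F) (w' : Fin 2 ⊕ Fin 2 → F)) • w +
      sympForm 2 F (u : Fin 2 ⊕ Fin 2 → F) (w : Fin 2 ⊕ Fin 2 → F) • w' := by
  have hww' : sympForm 2 F (w : Fin 2 ⊕ Fin 2 → F) (w' : Fin 2 ⊕ Fin 2 → F) = -1 := by
    rw [sympForm_swap, h]
  obtain ⟨z, hz⟩ : ∃ z : fr.W, z = u - ((-sympForm 2 F (u : Fin 2 ⊕ Fin 2 → F)
      (w' : Fin 2 ⊕ Fin 2 → F)) • w +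
      sympForm 2 F (u : Fin 2 ⊕ Fin 2 → F) (w : Fin 2 ⊕ Fin 2 → F) • w') := ⟨_, rfl⟩
  have hzw : sympForm 2 F (z : Fin 2 ⊕ Fin 2 → F) (w : Fin 2 ⊕ Fin 2 → F) = 0 := by
    rw [hz]
    simp only [Submodule.coe_sub, Submodule.coe_add, Submodule.coe_smul, sympForm_sub_left,
      sympForm_add_left, sympForm_smul_left, sympForm_self, h]
    ring
  have hzw' : sympForm 2 F (z : Fin 2 ⊕ Fin 2 → F) (w' : Fin 2 ⊕ Fin 2 → F) = 0 := by
    rw [hz]
    simp only [Submodule.coe_sub, Submodule.coe_add, Submodule.coe_smul, sympForm_sub_left,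
      sympForm_add_left, sympForm_smul_left, sympForm_self, hww']
    ring
  have hz0 : z = 0 := by
    by_contra hne
    have hli : LinearIndependent F ![fr.e, fr.f, (w : Fin 2 ⊕ Fin 2 → F),
        (w' : Fin 2 ⊕ Fin 2 → F), (z : Fin 2 ⊕ Fin 2 → F)] := by
      rw [Fintype.linearIndependent_iff]
      intro c hc
      rw [Fin.sum_univ_five] at hc
      replace hc : c 0 • fr.e + c 1 • fr.f + c 2 • (w : Fin 2 ⊕ Fin 2 → F) +
          c 3 • (w' : Fin 2 ⊕ Fin 2 → F) + c 4 • (z : Fin 2 ⊕ Fin 2 → F) = 0 := hc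
      have e0 := congrArg (fun v => sympForm 2 F v fr.f) hc
      have e1 := congrArg (fun v => sympForm 2 F v fr.e) hc
      have e2 := congrArg (fun v => sympForm 2 F v (w : Fin 2 ⊕ Fin 2 → F)) hc
      have e3 := congrArg (fun v => sympForm 2 F v (w' : Fin 2 ⊕ Fin 2 → F)) hc
      simp only [sympForm_add_left, sympForm_smul_left, sympForm_self, fr.hef, fr.hfe, fr.hwe,
        fr.hwf, fr.hew, fr.hfw, h, hww', hzw, hzw', B_zero_left, mul_zero, mul_one, add_zero,
        zero_add, mul_neg, neg_eq_zero] at e0 e1 e2 e3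
      have e4 : c 4 • (z : Fin 2 ⊕ Fin 2 → F) = 0 := by
        rw [e0, e1, e2, e3] at hc
        simpa using hc
      have e4' : c 4 = 0 := by
        rcases smul_eq_zero.mp e4 with h4 | h4
        · exact h4
        · exact absurd (Subtype.ext h4) hne
      intro i
      fin_cases i
      · exact e0
      · exact e1
      · exact e3
      · exact e2
      · exact e4'
    have h1 := hli.fintype_card_le_finrank
    rw [Fintype.card_fin, Module.finrank_fintype_fun_eq_card, Fintype.card_sum,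
      Fintype.card_fin] at h1
    omega
  rw [hz0] at hz
  exact (sub_eq_zero.mp hz.symm)

theorem sg_comm_char_two {m : ℕ} (fr : Frame m F) [CharP F 2] (w w' : fr.W) (a a' : F) :
    fr.sg w a * fr.sg w' a' = fr.sg w' a' * fr.sg w a := by
  have h2 : (2 : F) = 0 := by
    have := CharP.cast_eq_zero F 2
    exact_mod_cast this
  have := fr.sg_comm w w' a a'
  rw [h2, zero_mul, neg_zero, T_zero, mul_one] at this
  exact this

theorem sg_mul_self_char_two {m : ℕ} (fr : Frame m F) [CharP F 2] (w : fr.W) (a : F) :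
    fr.sg w a * fr.sg w a = 1 := by
  have := fr.sg_pow_char 2 w a
  rwa [pow_two] at this

/-- the form `x ↦ B(x, y x)` attached to a Siegel element -/
theorem B_sg_self {m : ℕ} (fr : Frame m F) [CharP F 2] (w : fr.W) (a : F)
    (x : Fin m ⊕ Fin m → F) :
    sympForm m F x (mt (fr.sg w a) *ᵥ x) = a * (sympForm m F x fr.e * sympForm m F x fr.e) := by
  have h2 : (2 : F) = 0 := by
    have := CharP.cast_eq_zero F 2
    exact_mod_cast this
  rw [fr.sg_mulVec]
  simp only [sympForm_sub_right, sympForm_smul_right, sympForm_self]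
  have : (0 : F) - sympForm m F x (w : Fin m ⊕ Fin m → F) * sympForm m F x fr.e -
      sympForm m F x fr.e * sympForm m F x (w : Fin m ⊕ Fin m → F) -
      a * sympForm m F x fr.e * sympForm m F x fr.e =
      a * (sympForm m F x fr.e * sympForm m F x fr.e) -
      2 * (sympForm m F x (w : Fin m ⊕ Fin m → F) * sympForm m F x fr.e +
        a * (sympForm m F x fr.e * sympForm m F x fr.e)) := by ring
  rw [this, h2, zero_mul, sub_zero]

/-- an element commuting with a Siegel element with nonzero scalar part fixes `e` -/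
theorem fix_e_of_commute_sg {m : ℕ} (fr : Frame m F) [CharP F 2] (w : fr.W) {a : F} (ha : a ≠ 0)
    {g : symplecticGroup (Fin m) F} (hg : g * fr.sg w a = fr.sg w a * g) :
    mt g *ᵥ fr.e = fr.e := by
  have h2 : (2 : F) = 0 := by
    have := CharP.cast_eq_zero F 2
    exact_mod_cast this
  have key : ∀ x, sympForm m F (mt g *ᵥ x) fr.e = sympForm m F x fr.e := by
    intro x
    have h1 := fr.B_sg_self w a (mt g *ᵥ x)
    rw [← coe_mul_mulVec, ← hg, coe_mul_mulVec, sympForm_mulVec, fr.B_sg_self] at h1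
    have h3 := mul_left_cancel₀ ha h1
    have h4 : (sympForm m F (mt g *ᵥ x) fr.e - sympForm m F x fr.e) *
        (sympForm m F (mt g *ᵥ x) fr.e - sympForm m F x fr.e) = 0 := by
      have : (sympForm m F (mt g *ᵥ x) fr.e - sympForm m F x fr.e) *
          (sympForm m F (mt g *ᵥ x) fr.e - sympForm m F x fr.e) =
          sympForm m F (mt g *ᵥ x) fr.e * sympForm m F (mt g *ᵥ x) fr.e +
          sympForm m F x fr.e * sympForm m F x fr.e -
          2 * (sympForm m F (mt g *ᵥ x) fr.e * sympForm m F x fr.e) := by ring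
      rw [this, h2, zero_mul, sub_zero, ← h3]
      have : sympForm m F x fr.e * sympForm m F x fr.e + sympForm m F x fr.e * sympForm m F x fr.e =
          2 * (sympForm m F x fr.e * sympForm m F x fr.e) := by ring
      rw [this, h2, zero_mul]
    exact sub_eq_zero.mp (mul_self_eq_zero.mp h4)
  -- `g⁻¹ e = e`
  have h5 : mt g⁻¹ *ᵥ fr.e - fr.e = 0 := by
    apply eq_zero_of_B_left
    intro x
    rw [sympForm_sub_right]
    have h6 := key x
    have h7 : sympForm m F (mt g *ᵥ x) fr.e = sympForm m F x (mt g⁻¹ *ᵥ fr.e) := by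
      conv_lhs => rw [← coe_inv_mulVec g fr.e, sympForm_mulVec]
    rw [h7] at h6
    rw [h6, sub_self]
  have h8 : mt g⁻¹ *ᵥ fr.e = fr.e := sub_eq_zero.mp h5
  have h9 := congrArg (fun v => mt g *ᵥ v) h8
  beta_reduce at h9
  rw [coe_inv_mulVec] at h9
  exact h9.symm

end Frame

end Cfsg.Agent.Helper8.AutSp
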