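import Mathlib
import Cfsg.Agent.Helper8.AutSpzl

set_option autoImplicit false
set_option linter.unusedSectionVars false

/-! Automorphisms of `Sp_4(q)`, `q` even: the centraliser of a Siegel element with nonzero vector
and scalar parts is a 2-group (helper8). -/

namespace Cfsg.Agent.Helper8.AutSp

open Matrix Cfsg Cfsg.Agent.Helper7.Symp Cfsg.Agent.Helper8.SpRoot
open scoped Pointwise

variable {F : Type*} [Field F]

namespace Frame

variable (fr : Frame 2 F)

/-- an element of the Levi complement fixing `e` and a nonzero vector of `W` is an involution -/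
theorem Lv_sq_eq_one [CharP F 2] {l : symplecticGroup (Fin 2) F} (hl : l ∈ fr.Lv)
    (hlt : fr.lt l = 1) {w : fr.W} (hw : w ≠ 0) (hlw : fr.lact l w = w) : l * l = 1 := by
  have h2 : (2 : F) = 0 := by
    have := CharP.cast_eq_zero F 2
    exact_mod_cast this
  obtain ⟨w', hw'⟩ := fr.exists_B_W_eq_one hw
  -- the image of `w'`
  have h1 : sympForm 2 F ((fr.lact l w' : fr.W) : Fin 2 ⊕ Fin 2 → F)
      (w : Fin 2 ⊕ Fin 2 → F) = 1 := by
    have := fr.lact_form hl w' w
    rw [hlw] at this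
    rw [this, hw']
  have h3 := fr.W_decomp hw' (fr.lact l w')
  rw [h1, one_smul] at h3
  obtain ⟨c, hc⟩ : ∃ c : F, c = -sympForm 2 F ((fr.lact l w' : fr.W) : Fin 2 ⊕ Fin 2 → F)
      (w' : Fin 2 ⊕ Fin 2 → F) := ⟨_, rfl⟩
  rw [← hc] at h3
  have h4 : fr.lact l (fr.lact l w') = w' := by
    calc fr.lact l (fr.lact l w') = fr.lact l (c • w + w') := by rw [← h3]
      _ = c • w + fr.lact l w' := by rw [fr.lact_add, fr.lact_smul, hlw]
      _ = c • w + (c • w + w') := by rw [← h3]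
      _ = (2 * c) • w + w' := by rw [← add_assoc, ← add_smul, two_mul]
      _ = w' := by rw [h2, zero_mul, zero_smul, zero_add]
  apply fr.Lv_eq_one (fr.Lv.mul_mem hl hl)
  · rw [fr.lt_mul hl.1 hl.1, hlt, one_mul]
  · intro u
    rw [fr.lact_mul hl]
    have h5 := fr.W_decomp hw' u
    conv_lhs => rw [h5]
    rw [fr.lact_add, fr.lact_smul, fr.lact_smul, hlw, fr.lact_add, fr.lact_smul, fr.lact_smul,
      hlw, h4]
    exact h5.symm

/-- the centraliser of a Siegel element with nonzero vector and scalar parts is a 2-group -/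
theorem isPGroup_centralizer_sg [CharP F 2] {w : fr.W} (hw : w ≠ 0) {a : F} (ha : a ≠ 0) :
    IsPGroup 2 (Subgroup.centralizer {fr.sg w a} : Subgroup (symplecticGroup (Fin 2) F)) := by
  rintro ⟨g, hg⟩
  rw [Subgroup.mem_centralizer_iff] at hg
  have hg1 : g * fr.sg w a = fr.sg w a * g := (hg _ rfl).symm
  have hge := fr.fix_e_of_commute_sg w ha hg1
  obtain ⟨w₀, a₀, l, hl, rfl⟩ := fr.Bv_decomp (fr.mem_Bv_of_fix hge)
  have hlt : fr.lt l = 1 := by
    have h1 := fr.lt_of_fix hge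
    rw [fr.lt_mul (fr.sg_mem_Bv w₀ a₀) (fr.Lv_le_Bv hl), fr.lt_sg, one_mul] at h1
    exact h1
  -- `l` commutes with the Siegel element
  have hl1 : l * fr.sg w a = fr.sg w a * l := by
    have h1 : fr.sg w₀ a₀ * (l * fr.sg w a) = fr.sg w₀ a₀ * (fr.sg w a * l) := by
      calc fr.sg w₀ a₀ * (l * fr.sg w a) = fr.sg w₀ a₀ * l * fr.sg w a := (mul_assoc _ _ _).symm
        _ = fr.sg w a * (fr.sg w₀ a₀ * l) := hg1
        _ = (fr.sg w a * fr.sg w₀ a₀) * l := (mul_assoc _ _ _).symm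
        _ = (fr.sg w₀ a₀ * fr.sg w a) * l := by rw [fr.sg_comm_char_two w w₀ a a₀]
        _ = fr.sg w₀ a₀ * (fr.sg w a * l) := mul_assoc _ _ _
    exact mul_left_cancel h1
  have hlw : fr.lact l w = w := by
    have h1 : l * fr.sg w a * l⁻¹ = fr.sg w a := by rw [hl1, mul_inv_cancel_right]
    rw [fr.conj_sg hl, hlt, one_smul] at h1
    exact (fr.sg_injective h1).1
  have hll := fr.Lv_sq_eq_one hl hlt hw hlw
  -- the square lies in the unipotent radical
  have hsq : (fr.sg w₀ a₀ * l) * (fr.sg w₀ a₀ * l) =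
      fr.sg w₀ a₀ * fr.sg (fr.lact l w₀) a₀ := by
    have h1 : l * fr.sg w₀ a₀ * l⁻¹ = fr.sg (fr.lact l w₀) a₀ := by
      rw [fr.conj_sg hl, hlt, one_smul, one_pow, one_mul]
    have h2 : l⁻¹ = l := inv_eq_of_mul_eq_one_left hll
    calc (fr.sg w₀ a₀ * l) * (fr.sg w₀ a₀ * l)
        = fr.sg w₀ a₀ * (l * fr.sg w₀ a₀ * l) := by simp only [mul_assoc]
      _ = fr.sg w₀ a₀ * fr.sg (fr.lact l w₀) a₀ := by
        conv_lhs => rw [← h2]
        rw [h2] at h1
        rw [h2, h1]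
  refine ⟨2, ?_⟩
  apply Subtype.ext
  rw [Subgroup.coe_pow, Subgroup.coe_one]
  show (fr.sg w₀ a₀ * l) ^ 2 ^ 2 = 1
  have : (2 : ℕ) ^ 2 = 2 * 2 := by norm_num
  rw [this, pow_mul, pow_two (fr.sg w₀ a₀ * l), hsq, fr.sg_mul, pow_two, fr.sg_mul_self_char_two]

end Frame

end Cfsg.Agent.Helper8.AutSp
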