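import Mathlib
import Cfsg.Agent.Helper8.AutSpzm

set_option autoImplicit false
set_option linter.unusedSectionVars false

/-! Automorphisms of `Sp_4(q)`, `q` even: the square of every automorphism permutes the
transvections (helper8). -/

namespace Cfsg.Agent.Helper8.AutSp

open Matrix Cfsg Cfsg.Agent.Helper7.Symp Cfsg.Agent.Helper8.SpRoot
open Cfsg.Agent.Helper8.AutSLn (ZZ mem_ZZ ZZ_smul)
open scoped Pointwise

section general

variable {G : Type*} [Group G]

theorem isPGroup_centralizer_map_of (p : ℕ) (β : MulAut G) (x : G)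
    (h : IsPGroup p (Subgroup.centralizer {x} : Subgroup G)) :
    IsPGroup p (Subgroup.centralizer {β x} : Subgroup G) := by
  rintro ⟨g, hg⟩
  have hg' : β⁻¹ g ∈ (Subgroup.centralizer {x} : Subgroup G) := by
    rw [Subgroup.mem_centralizer_iff] at hg ⊢
    intro y hy
    rw [Set.mem_singleton_iff] at hy
    subst hy
    have h1 := hg (β y) rfl
    have h2 := congrArg (fun z => β⁻¹ z) h1
    simp only [map_mul, MulAut.inv_apply_self] at h2
    exact h2
  obtain ⟨k, hk⟩ := h ⟨β⁻¹ g, hg'⟩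
  refine ⟨k, ?_⟩
  apply Subtype.ext
  rw [Subgroup.coe_pow, Subgroup.coe_one]
  have hk' : (β⁻¹ g) ^ p ^ k = 1 := congrArg Subtype.val hk
  have h3 := congrArg (fun z => β z) hk'
  simp only [map_pow, MulAut.apply_inv_self, map_one] at h3
  exact h3

theorem isPGroup_centralizer_map (p : ℕ) (β : MulAut G) (x : G) :
    IsPGroup p (Subgroup.centralizer {β x} : Subgroup G) ↔
      IsPGroup p (Subgroup.centralizer {x} : Subgroup G) := by
  refine ⟨fun h => ?_, isPGroup_centralizer_map_of p β x⟩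
  have := isPGroup_centralizer_map_of p β⁻¹ (β x) h
  rwa [MulAut.inv_apply_self] at this

end general

variable {F : Type*} [Field F]

/-- the elements central in a Sylow 2-subgroup whose centraliser is not a 2-group -/
def IsC2 (x : symplecticGroup (Fin 2) F) : Prop :=
  IsCS 2 x ∧ ¬ IsPGroup 2 (Subgroup.centralizer {x} : Subgroup (symplecticGroup (Fin 2) F))

theorem IsC2.map {x : symplecticGroup (Fin 2) F} (h : IsC2 x)
    (β : MulAut (symplecticGroup (Fin 2) F)) : IsC2 (β x) :=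
  ⟨h.1.map β, fun h1 => h.2 ((isPGroup_centralizer_map 2 β x).mp h1)⟩

theorem isC2_of_isTv [Fintype F] [CharP F 2] {x : symplecticGroup (Fin 2) F} (h : IsTv x) :
    IsC2 x := by
  refine ⟨isCS_of_isTv 2 (le_refl 2) h, ?_⟩
  obtain ⟨fr⟩ := exists_frame (F := F) (m := 2) (le_refl 2)
  obtain ⟨g, rfl⟩ := h.exists_conj fr
  have h1 : g * T fr.e (1 : F) * g⁻¹ = MulAut.conj g (T fr.e (1 : F)) := rfl
  rw [h1, isPGroup_centralizer_map]
  exact fr.not_isPGroup_centralizer_T one_ne_zero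

namespace Frame

variable (fr : Frame 2 F)

/-- the two classes of elements central in a Sylow 2-subgroup whose centraliser is not a
2-group -/
theorem isC2_cases [Fintype F] [CharP F 2] {x : symplecticGroup (Fin 2) F} (h : IsC2 x) :
    IsTv x ∨ ∃ w : fr.W, w ≠ 0 ∧ ∃ g : symplecticGroup (Fin 2) F, x = g * fr.sg w 0 * g⁻¹ := by
  obtain ⟨P₀, hP₀⟩ := (fr.isPGroup_Qv 2).exists_le_sylow
  obtain ⟨g, hg⟩ := h.1.exists_conj P₀
  obtain ⟨w, a, hwa⟩ := fr.ZZ_sylow_le 2 (by omega) P₀ hP₀ hg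
  have hx : x = g * fr.sg w a * g⁻¹ := by
    rw [← hwa]
    group
  by_cases hw : w = 0
  · left
    subst hw
    rw [fr.sg_zero_left] at hx
    have ha : -a ≠ 0 := by
      intro h0
      rw [h0, T_zero, mul_one, mul_inv_cancel] at hx
      exact h.1.1 hx
    rw [hx]
    exact IsTv.conj ⟨fr.e, -a, fr.e_ne_zero, ha, rfl⟩ g
  · right
    by_cases ha : a = 0
    · subst ha
      exact ⟨w, hw, g, hx⟩
    · exfalso
      apply h.2
      have h1 : g * fr.sg w a * g⁻¹ = MulAut.conj g (fr.sg w a) := rfl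
      rw [hx, h1, isPGroup_centralizer_map]
      exact fr.isPGroup_centralizer_sg hw ha

end Frame

/-- **the square of every automorphism of `Sp_4(q)`, `q` even, permutes the transvections** -/
theorem isTv_sq_map [Fintype F] [CharP F 2] (β : MulAut (symplecticGroup (Fin 2) F))
    {x : symplecticGroup (Fin 2) F} (hx : IsTv x) : IsTv (β (β x)) := by
  obtain ⟨fr⟩ := exists_frame (F := F) (m := 2) (le_refl 2)
  obtain ⟨g, rfl⟩ := hx.exists_conj fr
  rw [map_mul, map_mul, map_mul, map_mul, map_inv, map_inv]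
  apply IsTv.conj
  have ht₀ : IsTv (T fr.e (1 : F)) := ⟨fr.e, 1, fr.e_ne_zero, one_ne_zero, rfl⟩
  rcases fr.isC2_cases ((isC2_of_isTv ht₀).map β) with h1 | ⟨w, hw, g', hg'⟩
  · obtain ⟨g', hg'⟩ := h1.exists_conj fr
    rw [hg', map_mul, map_mul, map_inv]
    exact h1.conj _
  · -- `a₀ = sg w 0` is the image of a transvection
    obtain ⟨k, hk⟩ : ∃ k, β k = g' := ⟨β⁻¹ g', MulAut.apply_inv_self _ β g'⟩
    obtain ⟨t₁, ht₁, hat⟩ : ∃ t₁, IsTv t₁ ∧ fr.sg w 0 = β t₁ := by
      refine ⟨k⁻¹ * T fr.e (1 : F) * k⁻¹⁻¹, ht₀.conj _, ?_⟩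
      rw [map_mul, map_mul, map_inv, map_inv, map_inv, inv_inv, hk, hg']
      group
    have ha₀ : IsC2 (fr.sg w 0) := hat ▸ (isC2_of_isTv ht₁).map β
    rw [hg', map_mul, map_mul, map_inv]
    apply IsTv.conj
    rcases fr.isC2_cases (ha₀.map β) with h2 | ⟨w', hw', g'', hg''⟩
    · exact h2
    · exfalso
      obtain ⟨l, hl⟩ := fr.sg_zero_conj hw hw'
      obtain ⟨k', hk'⟩ : ∃ k', β k' = g'' * l := ⟨β⁻¹ (g'' * l), MulAut.apply_inv_self _ β _⟩
      -- `β a₀` is conjugate to `a₀ = β t₁`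
      have h3 : β (fr.sg w 0) = β (k' * t₁ * k'⁻¹) := by
        calc β (fr.sg w 0) = g'' * fr.sg w' 0 * g''⁻¹ := hg''
          _ = g'' * (l * fr.sg w 0 * l⁻¹) * g''⁻¹ := by rw [hl]
          _ = (g'' * l) * fr.sg w 0 * (g'' * l)⁻¹ := by group
          _ = β (k' * t₁ * k'⁻¹) := by rw [map_mul, map_mul, map_inv, hk', ← hat]
      have h4 := β.injective h3
      exact fr.not_isTv_sg hw 0 (h4 ▸ ht₁.conj _)

/-- an automorphism of odd order of `Sp_4(q)`, `q` even, permutes the transvections -/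
theorem isTv_map_of_odd [Fintype F] [CharP F 2] (β : MulAut (symplecticGroup (Fin 2) F))
    {n : ℕ} (hn : Odd n) (hβ : β ^ n = 1) {x : symplecticGroup (Fin 2) F} (hx : IsTv x) :
    IsTv (β x) := by
  obtain ⟨k, rfl⟩ := hn
  have h1 : ∀ j : ℕ, ∀ y : symplecticGroup (Fin 2) F, IsTv y → IsTv (((β * β) ^ j) y) := by
    intro j
    induction j with
    | zero => intro y hy; simpa using hy
    | succ j ih =>
      intro y hy
      rw [pow_succ, MulAut.mul_apply, MulAut.mul_apply]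
      exact ih _ (isTv_sq_map β hy)
  have h2 : β = (β * β) ^ (k + 1) := by
    rw [← pow_two, ← pow_mul]
    have : 2 * (k + 1) = (2 * k + 1) + 1 := by ring
    rw [this, pow_succ, hβ, one_mul]
  rw [h2]
  exact h1 _ _ hx

/-- an automorphism of `Sp_{2m}(q)`, `q` even, mapping one transvection to a transvection
permutes the transvections -/
theorem isTv_map_of_one [Fintype F] [CharP F 2] {m : ℕ} (hm : 2 ≤ m)
    (β : MulAut (symplecticGroup (Fin m) F)) {x₀ : symplecticGroup (Fin m) F} (hx₀ : IsTv x₀)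
    (hβ : IsTv (β x₀)) {x : symplecticGroup (Fin m) F} (hx : IsTv x) : IsTv (β x) := by
  obtain ⟨fr⟩ := exists_frame (F := F) hm
  obtain ⟨g, rfl⟩ := hx.exists_conj fr
  obtain ⟨g₀, rfl⟩ := hx₀.exists_conj fr
  have h1 : g * T fr.e (1 : F) * g⁻¹ =
      (g * g₀⁻¹) * (g₀ * T fr.e (1 : F) * g₀⁻¹) * (g * g₀⁻¹)⁻¹ := by group
  rw [h1, map_mul, map_mul, map_inv]
  exact hβ.conj _

end Cfsg.Agent.Helper8.AutSp
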