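import Mathlib
import Cfsg.Agent.Helper8.AutSpzn

set_option autoImplicit false
set_option linter.unusedSectionVars false

/-! Automorphisms of `PSp_{2m}(q)`: automorphisms of odd order, and automorphisms mapping a
transvection to a transvection, are induced by conformal symplectic semilinear maps, also for
`Sp_4(2^f)` (helper8). -/

namespace Cfsg.Agent.Helper8.AutSp

open Matrix Cfsg Cfsg.Agent.Helper7.Symp Cfsg.Agent.Helper8.SpRoot
open scoped Pointwise

variable {F : Type*} [Field F] {m : ℕ}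

theorem two_eq_zero_char (r : ℕ) [Fact r.Prime] [CharP F r] (h2 : (2 : F) = 0) : r = 2 := by
  have h3 : ((2 : ℕ) : F) = 0 := by exact_mod_cast h2
  have h5 := (CharP.cast_eq_zero_iff F r 2).mp h3
  exact ((Nat.prime_dvd_prime_iff_eq Fact.out Nat.prime_two).mp h5)

/-- an automorphism of `PSp_{2m}(q)`, `q` even, whose lift permutes the transvections is
standard -/
theorem std_of_isTv_pres [Fintype F] [CharP F 2] (hm : 2 ≤ m) (β : MulAut (PSp m F))
    (β' : MulAut (symplecticGroup (Fin m) F)) (hβ' : ∀ s, pr (β' s) = β (pr s))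
    (h : ∀ x, IsTv x → IsTv (β' x)) :
    ∃ (g : GSp m F) (σ : F ≃+* F), β = pspConj g * pspField σ := by
  have : Fact (Nat.Prime 2) := ⟨Nat.prime_two⟩
  apply aut_PSp_standard_of_rootPresOn 2 hm
  apply rootPresOn_of_isTvb hm
  rintro x ⟨v, s, hv, hs, rfl⟩
  rw [← hβ']
  exact isTvb_pr (h _ ⟨v, s, hv, hs, rfl⟩)

theorem lift_pow {β : MulAut (PSp m F)} {β' : MulAut (symplecticGroup (Fin m) F)}
    (hβ' : ∀ s, pr (β' s) = β (pr s)) (n : ℕ) (s : symplecticGroup (Fin m) F) :
    pr ((β' ^ n) s) = (β ^ n) (pr s) := by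
  induction n generalizing s with
  | zero => simp
  | succ n ih => rw [pow_succ, pow_succ, MulAut.mul_apply, MulAut.mul_apply, ih, hβ']

/-- **an automorphism of odd order of `PSp_{2m}(q)` is induced by a conformal symplectic
semilinear map** -/
theorem std_of_odd_order [Fintype F] (r : ℕ) [Fact r.Prime] [CharP F r] (hm : 2 ≤ m)
    (β : MulAut (PSp m F)) {n : ℕ} (hn : Odd n) (hβ : β ^ n = 1) :
    ∃ (g : GSp m F) (σ : F ≃+* F), β = pspConj g * pspField σ := by
  by_cases h4 : m = 2 ∧ r = 2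
  · obtain ⟨rfl, rfl⟩ := h4
    obtain ⟨β', hβ'⟩ := exists_lift_aut (F := F) (le_of_lt (by norm_num : 1 < 2)) β
    have h1 : β' ^ n = 1 := by
      apply MulEquiv.ext
      intro s
      apply pr_injective_char_two (le_of_lt (by norm_num : 1 < 2))
      rw [lift_pow hβ', hβ]
      rfl
    exact std_of_isTv_pres (le_refl 2) β β' hβ' (fun x hx => isTv_map_of_odd β' hn h1 hx)
  · exact aut_PSp_standard r hm (fun h hr => h4 ⟨h, hr⟩) β

/-- **an automorphism of `PSp_{2m}(q)` mapping some transvection to a transvection is induced by a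
conformal symplectic semilinear map** -/
theorem std_of_fix_tv [Fintype F] (r : ℕ) [Fact r.Prime] [CharP F r] (hm : 2 ≤ m)
    (β : MulAut (PSp m F)) {x₀ : PSp m F} (hx₀ : IsTvb x₀) (h : IsTvb (β x₀)) :
    ∃ (g : GSp m F) (σ : F ≃+* F), β = pspConj g * pspField σ := by
  by_cases h4 : m = 2 ∧ r = 2
  · obtain ⟨rfl, rfl⟩ := h4
    have h12 : 1 ≤ 2 := le_of_lt (by norm_num : 1 < 2)
    obtain ⟨β', hβ'⟩ := exists_lift_aut (F := F) h12 β
    obtain ⟨v, s, hv, hs, rfl⟩ := hx₀
    have h1 : IsTv (T v s) := ⟨v, s, hv, hs, rfl⟩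
    have h2 : IsTv (β' (T v s)) := by
      apply isTv_of_isTvb_pr h12
      rw [hβ']
      exact h
    exact std_of_isTv_pres (le_refl 2) β β' hβ' (fun x hx => isTv_map_of_one (le_refl 2) β' h1 h2 hx)
  · exact aut_PSp_standard r hm (fun h hr => h4 ⟨h, hr⟩) β

end Cfsg.Agent.Helper8.AutSp
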