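import Mathlib
import Cfsg.Prelude.Def_Solvable
import Cfsg.Agent.Helper8.AutSpzo

set_option autoImplicit false
set_option linter.unusedSectionVars false

/-! The `p'`-core of a subgroup is nontrivial exactly when the subgroup has a nontrivial normal
`p'`-subgroup; invariance under conjugation (helper8). -/

namespace Cfsg.Agent.Helper8.AutSp

open Cfsg
open scoped Pointwise

section general

variable {G : Type*} [Group G]

theorem pPrimeCore_ne_bot_iff (p : ℕ) :
    Cfsg.pPrimeCore p G ≠ ⊥ ↔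
      ∃ N : Subgroup G, N.Normal ∧ (Nat.card N).Coprime p ∧ N ≠ ⊥ := by
  unfold Cfsg.pPrimeCore
  rw [Ne, sSup_eq_bot]
  constructor
  · intro h
    by_contra hne
    apply h
    intro N hN
    by_contra hb
    exact hne ⟨N, hN.1, hN.2, hb⟩
  · rintro ⟨N, h1, h2, h3⟩ h
    exact h3 (h N ⟨h1, h2⟩)

/-- a subgroup `H` has a nontrivial normal `p'`-subgroup -/
def HasCore (p : ℕ) (H : Subgroup G) : Prop :=
  ∃ N : Subgroup G, N ≤ H ∧ (∀ c ∈ H, ∀ n ∈ N, c * n * c⁻¹ ∈ N) ∧ (Nat.card N).Coprime p ∧ N ≠ ⊥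

theorem pPrimeCore_ne_bot_iff_hasCore (p : ℕ) (H : Subgroup G) :
    Cfsg.pPrimeCore p ↥H ≠ ⊥ ↔ HasCore p H := by
  rw [pPrimeCore_ne_bot_iff]
  constructor
  · rintro ⟨N, h1, h2, h3⟩
    refine ⟨N.map H.subtype, ?_, ?_, ?_, ?_⟩
    · rintro _ ⟨n, -, rfl⟩
      exact n.2
    · rintro c hc _ ⟨n, hn, rfl⟩
      refine ⟨⟨c, hc⟩ * n * ⟨c, hc⟩⁻¹, h1.conj_mem n hn ⟨c, hc⟩, rfl⟩
    · rw [Nat.card_congr (N.equivMapOfInjective H.subtype H.subtype_injective).symm.toEquiv]
      exact h2
    · intro h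
      apply h3
      rw [Subgroup.eq_bot_iff_forall] at h ⊢
      intro n hn
      apply Subtype.ext
      exact h _ ⟨n, hn, rfl⟩
  · rintro ⟨N, h1, h2, h3, h4⟩
    refine ⟨N.subgroupOf H, ?_, ?_, ?_⟩
    · constructor
      intro n hn c
      rw [Subgroup.mem_subgroupOf] at hn ⊢
      exact h2 c c.2 n hn
    · rw [Nat.card_congr (Subgroup.subgroupOfEquivOfLe h1).toEquiv]
      exact h3
    · intro h
      apply h4
      rw [Subgroup.eq_bot_iff_forall] at h ⊢
      intro n hn
      have := h ⟨n, h1 hn⟩ (by rw [Subgroup.mem_subgroupOf]; exact hn)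
      exact congrArg Subtype.val this

/-- invariance under automorphisms -/
theorem HasCore.map {p : ℕ} {H : Subgroup G} (h : HasCore p H) (φ : MulAut G) :
    HasCore p (φ • H) := by
  obtain ⟨N, h1, h2, h3, h4⟩ := h
  refine ⟨φ • N, ?_, ?_, ?_, ?_⟩
  · intro n hn
    rw [Subgroup.mem_pointwise_smul_iff_inv_smul_mem] at hn ⊢
    exact h1 hn
  · intro c hc n hn
    rw [Subgroup.mem_pointwise_smul_iff_inv_smul_mem] at hc hn ⊢
    have := h2 _ hc _ hn
    rw [smul_mul', smul_mul', smul_inv']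
    exact this
  · rw [Nat.card_congr (Subgroup.equivSMul φ N).symm.toEquiv]
    exact h3
  · intro h
    apply h4
    rw [Subgroup.eq_bot_iff_forall] at h ⊢
    intro n hn
    have := h (φ • n) (Subgroup.smul_mem_pointwise_smul _ _ _ hn)
    rw [MulAut.smul_def] at this
    rw [← map_one φ] at this
    exact φ.injective this

theorem hasCore_map_iff {p : ℕ} {H : Subgroup G} (φ : MulAut G) :
    HasCore p (φ • H) ↔ HasCore p H := by
  refine ⟨fun h => ?_, fun h => h.map φ⟩
  have := h.map φ⁻¹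
  rwa [inv_smul_smul] at this

theorem smul_inf_centralizer (φ : MulAut G) (A : Subgroup G) (x : G) :
    φ • (A ⊓ Subgroup.centralizer {x}) = φ • A ⊓ Subgroup.centralizer {φ x} := by
  rw [centralizer_singleton_map]
  ext g
  simp only [Subgroup.mem_inf, Subgroup.mem_pointwise_smul_iff_inv_smul_mem]

end general

end Cfsg.Agent.Helper8.AutSp
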