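import Mathlib
import Cfsg.Agent.Helper8.AutSpzp

set_option autoImplicit false
set_option linter.unusedSectionVars false

/-! The symplectic group over a subfield inside the symplectic group; the elements of `PSp` fixed
by a field automorphism (helper8). -/

namespace Cfsg.Agent.Helper8.AutSp

open Matrix Cfsg Cfsg.Agent.Helper7.Symp Cfsg.Agent.Helper8.SpRoot
open scoped Pointwise

variable {F : Type*} [Field F] {m : ℕ} {F₀ : Type*} [Field F₀]

/-- the symplectic matrices over a subfield, as symplectic matrices over the big field -/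
def spMap (ι : F₀ →+* F) (m : ℕ) : symplecticGroup (Fin m) F₀ →* symplecticGroup (Fin m) F where
  toFun s := ⟨(mt s).map ι, by
    rw [SymplecticGroup.mem_iff]
    have h := SymplecticGroup.mem_iff.mp s.2
    rw [← J_map' (m := m) ι, ← Matrix.transpose_map, ← Matrix.map_mul, ← Matrix.map_mul]
    exact congrArg (fun M => M.map ι) h⟩
  map_one' := by
    apply Subtype.ext
    show (1 : Matrix (Fin m ⊕ Fin m) (Fin m ⊕ Fin m) F₀).map ι = 1
    exact Matrix.map_one _ (map_zero ι) (map_one ι)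
  map_mul' a b := by
    apply Subtype.ext
    show (mt a * mt b).map ι = (mt a).map ι * (mt b).map ι
    exact Matrix.map_mul

theorem spMap_coe (ι : F₀ →+* F) (s : symplecticGroup (Fin m) F₀) :
    mt (spMap ι m s) = (mt s).map ι := rfl

theorem spMap_injective (ι : F₀ →+* F) : Function.Injective (spMap ι m) := by
  intro a b h
  apply Subtype.ext
  apply Matrix.map_injective ι.injective
  exact congrArg Subtype.val h

theorem spField_spMap (σ : F ≃+* F) (ι : F₀ →+* F) (hfix : ∀ a, σ (ι a) = ι a)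
    (s : symplecticGroup (Fin m) F₀) : spField σ (spMap ι m s) = spMap ι m s := by
  apply Subtype.ext
  show ((mt s).map ι).map σ = (mt s).map ι
  ext i j
  exact hfix _

/-- descent of a symplectic matrix fixed by the field automorphism -/
theorem exists_spMap_eq (σ : F ≃+* F) (ι : F₀ →+* F) (hsurj : ∀ b, σ b = b → ∃ a, ι a = b)
    (s : symplecticGroup (Fin m) F) (hs : spField σ s = s) : ∃ t, spMap ι m t = s := by
  have h1 : (mt s).map σ = mt s := congrArg Subtype.val hs
  obtain ⟨A₀, hA₀⟩ := exists_mat_map_eq σ ι hsurj (mt s) h1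
  have hmem : A₀ ∈ symplecticGroup (Fin m) F₀ := by
    rw [SymplecticGroup.mem_iff]
    apply Matrix.map_injective ι.injective
    show (A₀ * J (Fin m) F₀ * A₀ᵀ).map ι = (J (Fin m) F₀).map ι
    rw [Matrix.map_mul, Matrix.map_mul, Matrix.transpose_map, J_map', hA₀]
    exact SymplecticGroup.mem_iff.mp s.2
  exact ⟨⟨A₀, hmem⟩, Subtype.ext hA₀⟩

theorem mt_eq_smul_one_of_scalar {s : symplecticGroup (Fin m) F} {ζ : F}
    (h : ∀ v : Fin m ⊕ Fin m → F, mt s *ᵥ v = ζ • v) :
    mt s = ζ • (1 : Matrix (Fin m ⊕ Fin m) (Fin m ⊕ Fin m) F) := by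
  ext i j
  have := congrFun (h (Pi.single j 1)) i
  rw [Matrix.mulVec_single_one] at this
  rw [Matrix.smul_apply, Matrix.one_apply]
  rw [show (mt s) i j = (mt s).col j i from rfl, this, Pi.smul_apply, Pi.single_apply]

/-- the centre of the small symplectic group maps into the centre -/
theorem spMap_mem_center (hm : 1 ≤ m) (ι : F₀ →+* F) {t : symplecticGroup (Fin m) F₀}
    (ht : t ∈ Subgroup.center (symplecticGroup (Fin m) F₀)) :
    spMap ι m t ∈ Subgroup.center (symplecticGroup (Fin m) F) := by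
  obtain ⟨ζ, -, hζ⟩ := center_mulVec hm ht
  have h1 := mt_eq_smul_one_of_scalar hζ
  apply mem_center_of_scalar (ζ := ι ζ)
  intro v
  rw [spMap_coe, h1]
  have : (ζ • (1 : Matrix (Fin m ⊕ Fin m) (Fin m ⊕ Fin m) F₀)).map ι =
      ι ζ • (1 : Matrix (Fin m ⊕ Fin m) (Fin m ⊕ Fin m) F) := by
    rw [map_smul_mat, Matrix.map_one _ (map_zero ι) (map_one ι)]
  rw [this, smul_mulVec, one_mulVec]

/-- an element of `Sp` whose image in `PSp` is fixed by the field automorphism is fixed up to a
sign -/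
theorem exists_sign_of_fix (hm : 1 ≤ m) (σ : F ≃+* F) {s : symplecticGroup (Fin m) F}
    (h : pspField σ (pr s) = pr s) :
    ∃ ζ : F, ζ * ζ = 1 ∧ (mt s).map σ = ζ • mt s := by
  rw [pspField_pr] at h
  have hz := pr_eq_iff.mp h.symm
  obtain ⟨ζ, hζ1, hζ⟩ := center_mulVec hm hz
  refine ⟨ζ, hζ1, ?_⟩
  have h1 : spField σ s = s * (s⁻¹ * spField σ s) := by group
  apply Matrix.mulVec_injective
  funext v
  have h2 : mt (spField σ s) *ᵥ v = mt (s * (s⁻¹ * spField σ s)) *ᵥ v := by rw [← h1]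
  rw [coe_mul_mulVec, hζ, mulVec_smul] at h2
  rw [smul_mulVec]
  exact h2

theorem map_pow_of_sign (σ : F ≃+* F) {M : Matrix (Fin m ⊕ Fin m) (Fin m ⊕ Fin m) F} {ζ : F}
    (hζ : ζ * ζ = 1) (h : M.map σ = ζ • M) (j : ℕ) :
    M.map (σ ^ j : F ≃+* F) = ζ ^ j • M := by
  have hσζ : ∀ τ : F ≃+* F, τ ζ = ζ := by
    intro τ
    rcases mul_self_eq_one_iff.mp hζ with h1 | h1
    · rw [h1, map_one]
    · rw [h1, map_neg, map_one]
  induction j with
  | zero =>
    rw [pow_zero, pow_zero, one_smul]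
    ext a b
    rfl
  | succ j ih =>
    have h1 : M.map (σ ^ (j + 1) : F ≃+* F) = (M.map σ).map (σ ^ j : F ≃+* F) := by
      ext a b
      rw [pow_succ]
      rfl
    rw [h1, h]
    have h2 : (ζ • M).map (σ ^ j : F ≃+* F) = ζ • M.map (σ ^ j : F ≃+* F) := by
      ext a b
      simp only [Matrix.map_apply, Matrix.smul_apply, smul_eq_mul, map_mul, hσζ]
    rw [h2, ih, smul_smul, pow_succ, mul_comm]

/-- for a field automorphism of odd order, the fixed elements of `PSp` are the images of the fixed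
elements of `Sp` -/
theorem fix_of_odd (hm : 1 ≤ m) (σ : F ≃+* F) {p : ℕ} (hp : Odd p) (hσp : σ ^ p = 1)
    {s : symplecticGroup (Fin m) F} (h : pspField σ (pr s) = pr s) : spField σ s = s := by
  obtain ⟨ζ, hζ1, hζ⟩ := exists_sign_of_fix hm σ h
  have h1 := map_pow_of_sign σ hζ1 hζ p
  rw [hσp] at h1
  have h2 : (mt s).map (1 : F ≃+* F) = mt s := by
    ext a b
    rfl
  rw [h2] at h1
  -- `ζ ^ p = 1`
  have h3 : ζ ^ p = 1 := by
    by_contra hne
    have h4 : (1 - ζ ^ p) • mt s = 0 := by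
      rw [sub_smul, one_smul, ← h1, sub_self]
    have h5 : mt s = 0 := by
      rcases smul_eq_zero.mp h4 with h6 | h6
      · exact absurd (sub_eq_zero.mp h6).symm hne
      · exact h6
    have h7 : mt (s * s⁻¹) = 0 := by
      show mt s * mt s⁻¹ = 0
      rw [h5, Matrix.zero_mul]
    rw [mul_inv_cancel] at h7
    have h8 := congrFun (congrFun h7 (Sum.inl ⟨0, hm⟩)) (Sum.inl ⟨0, hm⟩)
    have h9 : mt (1 : symplecticGroup (Fin m) F) = 1 := rfl
    rw [h9, Matrix.one_apply_eq, Matrix.zero_apply] at h8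
    exact one_ne_zero h8
  have h10 : ζ = 1 := by
    obtain ⟨k, rfl⟩ := hp
    rw [pow_succ, pow_mul, pow_two, hζ1, one_pow, one_mul] at h3
    exact h3
  apply Subtype.ext
  show (mt s).map σ = mt s
  rw [hζ, h10, one_smul]

/-- the square of a fixed element of `PSp` is the image of a fixed element of `Sp` -/
theorem fix_sq (hm : 1 ≤ m) (σ : F ≃+* F) {s : symplecticGroup (Fin m) F}
    (h : pspField σ (pr s) = pr s) : spField σ (s * s) = s * s := by
  obtain ⟨ζ, hζ1, hζ⟩ := exists_sign_of_fix hm σ h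
  apply Subtype.ext
  show (mt s * mt s).map σ = mt s * mt s
  rw [Matrix.map_mul, hζ, Matrix.smul_mul, Matrix.mul_smul, smul_smul, hζ1, one_smul]

end Cfsg.Agent.Helper8.AutSp
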