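import Mathlib
import Cfsg.Agent.Helper8.AutSpzq
import Cfsg.Agent.S0270

set_option autoImplicit false
set_option linter.unusedSectionVars false

/-! Normal subgroups of the finite symplectic groups: a noncentral normal subgroup contains all
squares, and everything in odd characteristic (helper8). -/

namespace Cfsg.Agent.Helper8.AutSp

open Matrix Cfsg Cfsg.Agent.Helper7.Symp Cfsg.Agent.Helper8.SpRoot
open scoped Pointwise LinearAlgebra.Projectivization

variable {F : Type*} [Field F] {m : ℕ}

/-- in characteristic two the squares lie in the commutator subgroup -/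
theorem sq_mem_commutator_char_two [CharP F 2] (t : symplecticGroup (Fin m) F) :
    t * t ∈ commutator (symplecticGroup (Fin m) F) := by
  obtain ⟨ψ, hψ⟩ : ∃ ψ : symplecticGroup (Fin m) F →* Abelianization (symplecticGroup (Fin m) F),
      ∀ s, ψ s = Abelianization.of (s * s) := by
    refine ⟨(powMonoidHom 2).comp Abelianization.of, fun s => ?_⟩
    rw [MonoidHom.comp_apply, powMonoidHom_apply, pow_two, map_mul]
  have hker : ψ.ker = ⊤ := by
    rw [eq_top_iff, ← transvectionSubgroup_eq_top]
    unfold transvectionSubgroup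
    rw [Subgroup.closure_le]
    rintro B ⟨w, c, hB⟩
    have hB' : B = T w c := Subtype.ext hB
    rw [SetLike.mem_coe, MonoidHom.mem_ker, hψ, hB', T_mul_self_char_two, map_one]
  have h1 : t ∈ ψ.ker := by rw [hker]; exact Subgroup.mem_top t
  rw [MonoidHom.mem_ker, hψ] at h1
  rw [← Abelianization.ker_of, MonoidHom.mem_ker]
  exact h1

/-- **the normal subgroups of the finite symplectic groups** -/
theorem normal_sp_cases [Fintype F] (r : ℕ) [Fact r.Prime] [CharP F r] (hm : 2 ≤ m)
    (M : Subgroup (symplecticGroup (Fin m) F)) [M.Normal] :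
    M ≤ Subgroup.center (symplecticGroup (Fin m) F) ∨
      ∀ t : symplecticGroup (Fin m) F, (r ≠ 2 → t ∈ M) ∧ t * t ∈ M := by
  have : MulAction.IsPreprimitive (symplecticGroup (Fin m) F) (ℙ F (Fin m ⊕ Fin m → F)) :=
    Cfsg.Agent.S0270.isPreprimitive (by omega)
  by_cases hfix : MulAction.fixedPoints M (ℙ F (Fin m ⊕ Fin m → F)) = Set.univ
  · left
    intro g hg
    apply Cfsg.Agent.S0270.mem_center_of_fix
    intro P
    have hP : P ∈ MulAction.fixedPoints M (ℙ F (Fin m ⊕ Fin m → F)) := by
      rw [hfix]; exact Set.mem_univ P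
    exact hP ⟨g, hg⟩
  · right
    have hle := (Cfsg.Agent.S0270.iwasawa m F).commutator_le M hfix
    have h1 : r ≠ 2 → ∀ t : symplecticGroup (Fin m) F, t ∈ M := by
      intro hr t
      apply hle
      have hcard : 3 ≤ Fintype.card F := by
        obtain ⟨n, -, hn⟩ := FiniteField.card F r
        have hr2 : 2 ≤ r := (Fact.out : r.Prime).two_le
        have hr3 : 3 ≤ r := by omega
        rw [hn]
        calc 3 ≤ r := hr3
          _ = r ^ 1 := (pow_one r).symm
          _ ≤ r ^ (n : ℕ) := Nat.pow_le_pow_right (by omega) n.pos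
      have := Cfsg.Agent.S0269.result (F := F) m (by
        by_cases h2 : m = 2
        · right; left; exact ⟨h2, hcard⟩
        · left; omega)
      rw [this]
      exact Subgroup.mem_top t
    intro t
    refine ⟨fun hr => h1 hr t, ?_⟩
    by_cases hr : r = 2
    · subst hr
      exact hle (sq_mem_commutator_char_two t)
    · exact M.mul_mem (h1 hr t) (h1 hr t)

end Cfsg.Agent.Helper8.AutSp
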