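import Mathlib
import Cfsg.Agent.Helper8.AutSpzr

set_option autoImplicit false
set_option linter.unusedSectionVars false

/-! The fixed points of a field automorphism of prime order on `PSp_{2m}(q)` have no nontrivial
normal subgroup of order prime to `p`, when `p` divides their number (helper8). -/

namespace Cfsg.Agent.Helper8.AutSp

open Matrix Cfsg Cfsg.Agent.Helper7.Symp Cfsg.Agent.Helper8.SpRoot
open scoped Pointwise

variable {F : Type*} [Field F] {m : ℕ} {F₀ : Type*} [Field F₀]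

/-- the symplectic group over the fixed field, mapped to `PSp` -/
def phiMap (ι : F₀ →+* F) (m : ℕ) : symplecticGroup (Fin m) F₀ →* PSp m F := pr.comp (spMap ι m)

theorem phiMap_apply (ι : F₀ →+* F) (t : symplecticGroup (Fin m) F₀) :
    phiMap ι m t = pr (spMap ι m t) := rfl

theorem pspField_phiMap (σ : F ≃+* F) (ι : F₀ →+* F) (hfix : ∀ a, σ (ι a) = ι a)
    (t : symplecticGroup (Fin m) F₀) : pspField σ (phiMap ι m t) = phiMap ι m t := by
  rw [phiMap_apply, pspField_pr, spField_spMap σ ι hfix]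

/-- the symplectic matrix `J` -/
def Jel (m : ℕ) (F : Type*) [Field F] : symplecticGroup (Fin m) F :=
  ⟨J (Fin m) F, SymplecticGroup.J_mem _ _⟩

theorem spMap_Jel (ι : F₀ →+* F) : spMap ι m (Jel m F₀) = Jel m F :=
  Subtype.ext (J_map' ι)

theorem Jel_not_mem_center (hm : 1 ≤ m) : Jel m F ∉ Subgroup.center (symplecticGroup (Fin m) F) := by
  intro h
  obtain ⟨ζ, -, hζ⟩ := center_mulVec hm h
  have h1 := mt_eq_smul_one_of_scalar hζ
  have h2 := congrFun (congrFun h1 (Sum.inl ⟨0, hm⟩)) (Sum.inr ⟨0, hm⟩)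
  have h3 : mt (Jel m F) (Sum.inl ⟨0, hm⟩) (Sum.inr ⟨0, hm⟩) = -1 := by
    show J (Fin m) F (Sum.inl ⟨0, hm⟩) (Sum.inr ⟨0, hm⟩) = -1
    simp [J]
  rw [h3, Matrix.smul_apply, Matrix.one_apply_ne (by simp), smul_zero] at h2
  exact one_ne_zero (neg_eq_zero.mp h2)

theorem Jel_sq_mem_center : Jel m F * Jel m F ∈ Subgroup.center (symplecticGroup (Fin m) F) := by
  apply mem_center_of_scalar (ζ := -1)
  intro v
  show (J (Fin m) F * J (Fin m) F) *ᵥ v = (-1 : F) • v
  rw [Matrix.J_squared, neg_mulVec, one_mulVec, neg_smul, one_smul]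

/-- the image of `J` in `PSp` is an involution -/
theorem orderOf_pr_Jel (hm : 1 ≤ m) : orderOf (pr (Jel m F)) = 2 := by
  apply orderOf_eq_prime
  · rw [pow_two, ← map_mul, pr_eq_one_iff]
    exact Jel_sq_mem_center
  · rw [Ne, pr_eq_one_iff]
    exact Jel_not_mem_center hm

/-- for `p` odd the fixed elements of `PSp` come from the fixed field -/
theorem exists_phiMap_eq_of_odd (hm : 1 ≤ m) (σ : F ≃+* F) {p : ℕ} (hp : Odd p) (hσp : σ ^ p = 1)
    (ι : F₀ →+* F) (hsurj : ∀ b, σ b = b → ∃ a, ι a = b) {k : PSp m F}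
    (hk : pspField σ k = k) : ∃ t, phiMap ι m t = k := by
  obtain ⟨s, rfl⟩ := pr_surjective k
  obtain ⟨t, ht⟩ := exists_spMap_eq σ ι hsurj s (fix_of_odd hm σ hp hσp hk)
  exact ⟨t, by rw [phiMap_apply, ht]⟩

/-- the square of a fixed element of `PSp` comes from the fixed field -/
theorem exists_phiMap_eq_sq (hm : 1 ≤ m) (σ : F ≃+* F)
    (ι : F₀ →+* F) (hsurj : ∀ b, σ b = b → ∃ a, ι a = b) {k : PSp m F}
    (hk : pspField σ k = k) : ∃ t, phiMap ι m t = k * k := by
  obtain ⟨s, rfl⟩ := pr_surjective k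
  obtain ⟨t, ht⟩ := exists_spMap_eq σ ι hsurj (s * s) (fix_sq hm σ hk)
  exact ⟨t, by rw [phiMap_apply, ht, map_mul]⟩

/-- **the fixed points of a field automorphism of prime order `p` have no nontrivial normal
`p'`-subgroup, when `p` divides their number** -/
theorem fixed_normal_eq_bot [Fintype F] [Fintype F₀] (r : ℕ) [Fact r.Prime] [CharP F r]
    (hm : 2 ≤ m) (σ : F ≃+* F) {p : ℕ} [Fact p.Prime] (hpr : p ≠ r) (hσ : orderOf σ = p)
    (ι : F₀ →+* F) (hfix : ∀ a, σ (ι a) = ι a) (hsurj : ∀ b, σ b = b → ∃ a, ι a = b)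
    (M₀ : Subgroup (PSp m F)) (ha : ∀ k ∈ M₀, pspField σ k = k)
    (hb : ∀ k' : PSp m F, pspField σ k' = k' → ∀ k ∈ M₀, k' * k * k'⁻¹ ∈ M₀)
    (hc : (Nat.card M₀).Coprime p)
    (hd : p ∣ Nat.card (MonoidHom.eqLocus (pspField σ : MulAut (PSp m F)).toMonoidHom
      (MonoidHom.id (PSp m F)))) : M₀ = ⊥ := by
  have hm1 : 1 ≤ m := by omega
  have hp : p.Prime := Fact.out
  have hσp : σ ^ p = 1 := by rw [← hσ, pow_orderOf_eq_one]
  have : CharP F₀ r := RingHom.charP ι ι.injective r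
  have : Finite (PSp m F) := by unfold PSp; infer_instance
  -- elements of order `p` cannot lie in `M₀`
  have hno : ∀ k ∈ M₀, orderOf k ≠ p := by
    intro k hk ho
    have h1 : orderOf (⟨k, hk⟩ : M₀) ∣ Nat.card M₀ := orderOf_dvd_natCard _
    rw [← Subgroup.orderOf_coe, ho] at h1
    have h2 := Nat.dvd_gcd h1 (dvd_refl p)
    rw [hc] at h2
    exact hp.one_lt.ne' (Nat.dvd_one.mp h2)
  -- step 1: the elements of `M₀` come from the fixed field
  have h1 : ∀ k ∈ M₀, ∃ t, phiMap ι m t = k := by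
    intro k hk
    rcases hp.eq_two_or_odd' with hp2 | hodd
    · subst hp2
      obtain ⟨t', ht'⟩ := exists_phiMap_eq_sq hm1 σ ι hsurj (ha k hk)
      have h2 : orderOf (⟨k, hk⟩ : M₀) ∣ Nat.card M₀ := orderOf_dvd_natCard _
      rw [← Subgroup.orderOf_coe] at h2
      have h3 : (orderOf k).Coprime 2 := Nat.Coprime.coprime_dvd_left h2 hc
      obtain ⟨j, hj⟩ := Nat.Coprime.odd_of_right h3
      refine ⟨t' ^ (j + 1), ?_⟩
      rw [map_pow, ht', ← pow_two, ← pow_mul]
      have : 2 * (j + 1) = orderOf k + 1 := by omega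
      rw [this, pow_succ, pow_orderOf_eq_one, one_mul]
    · exact exists_phiMap_eq_of_odd hm1 σ hodd hσp ι hsurj (ha k hk)
  -- step 2: the preimage is normal
  obtain ⟨M₁, hM₁⟩ : ∃ M₁ : Subgroup (symplecticGroup (Fin m) F₀), M₁ = M₀.comap (phiMap ι m) :=
    ⟨_, rfl⟩
  have hnorm : M₁.Normal := by
    constructor
    intro t ht g
    rw [hM₁, Subgroup.mem_comap] at ht ⊢
    rw [map_mul, map_mul, map_inv]
    exact hb _ (pspField_phiMap σ ι hfix g) _ ht
  rcases normal_sp_cases r hm M₁ with hcen | hall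
  · rw [Subgroup.eq_bot_iff_forall]
    intro k hk
    obtain ⟨t, rfl⟩ := h1 k hk
    have ht : t ∈ M₁ := by rw [hM₁, Subgroup.mem_comap]; exact hk
    rw [phiMap_apply, pr_eq_one_iff]
    exact spMap_mem_center hm1 ι (hcen ht)
  · exfalso
    -- an element of order `p` coming from the fixed field
    obtain ⟨t₀, ht₀⟩ : ∃ t₀, orderOf (phiMap ι m t₀) = p := by
      rcases hp.eq_two_or_odd' with hp2 | hodd
      · subst hp2
        refine ⟨Jel m F₀, ?_⟩
        rw [phiMap_apply, spMap_Jel]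
        exact orderOf_pr_Jel hm1
      · obtain ⟨x, hx⟩ := exists_prime_orderOf_dvd_card' p hd
        rw [← Subgroup.orderOf_coe] at hx
        have hxfix : pspField σ (x : PSp m F) = x := x.2
        obtain ⟨t, ht⟩ := exists_phiMap_eq_of_odd hm1 σ hodd hσp ι hsurj hxfix
        exact ⟨t, by rw [ht, hx]⟩
    by_cases hr : r = 2
    · have h2 := (hall t₀).2
      rw [hM₁, Subgroup.mem_comap, map_mul, ← pow_two] at h2
      apply hno _ h2
      rw [← ht₀]
      apply Nat.Coprime.orderOf_pow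
      rw [ht₀]
      rw [Nat.coprime_primes hp Nat.prime_two]
      rw [← hr]
      exact hpr
    · have h2 := (hall t₀).1 hr
      rw [hM₁, Subgroup.mem_comap] at h2
      exact hno _ h2 ht₀

end Cfsg.Agent.Helper8.AutSp
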