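import Mathlib
import Cfsg.Agent.Helper8.AutSpzs

set_option autoImplicit false
set_option linter.unusedSectionVars false

/-! An automorphism of `PSp_{2m}(q)` fixing the fixed points of a field automorphism is a power
of it (helper8). -/

namespace Cfsg.Agent.Helper8.AutSp

open Matrix Cfsg Cfsg.Agent.Helper7.Symp Cfsg.Agent.Helper8.SpRoot
open scoped Pointwise

variable {F : Type*} [Field F] {m : ℕ}

theorem spField_T (σ : F ≃+* F) (v : Fin m ⊕ Fin m → F) (c : F) :
    spField σ (T v c) = T (sv σ v) (σ c) := by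
  apply Cfsg.Agent.Helper7.Symp.ext_mulVec
  intro x
  obtain ⟨y, rfl⟩ : ∃ y, x = sv σ y := ⟨sv σ.symm x, (sv_sv_symm σ x).symm⟩
  rw [spField_mulVec, T_mulVec, T_mulVec, sv_add, sv_smul, map_mul, B_sv]

/-- a root group containing the standard generator of another is attached to the same point -/
theorem par_of_mem_Xb (p : ℕ) [Fact p.Prime] [CharP F p] (hm : 1 ≤ m) {v v' : Fin m ⊕ Fin m → F}
    (hv0 : v ≠ 0) (h1 : pr (T v (1 : F)) ∈ Xb v') : ∃ c : F, c ≠ 0 ∧ v = c • v' := by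
  obtain ⟨s', h2⟩ := mem_Xb_iff.mp h1
  have h3 : T v (1 : F) = T v' s' :=
    eq_of_pr_eq p hm h2 (m₁ := 1) (m₂ := 1) (by rw [pow_one]; exact T_pow_char p v 1)
      (by rw [pow_one]; exact T_pow_char p v' s')
  obtain ⟨x, hx⟩ := exists_B_eq_one hv0
  have h4 : mt (T v (1 : F)) *ᵥ x = mt (T v' s') *ᵥ x := by rw [h3]
  rw [T_mulVec, T_mulVec, hx, mul_one, one_smul] at h4
  have h5 : v = (s' * sympForm m F x v') • v' := add_left_cancel h4
  refine ⟨_, ?_, h5⟩
  intro h0
  rw [h0, zero_smul] at h5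
  exact hv0 h5

/-- a field automorphism fixing the fixed field of `σ` is a power of `σ` -/
theorem mem_zpowers_of_fixes [Finite F] (σ τ : F ≃+* F) (h : ∀ c, σ c = c → τ c = c) :
    τ ∈ Subgroup.zpowers σ := by
  have : Finite (F ≃+* F) :=
    Finite.of_injective (fun e : F ≃+* F => (e : F → F)) DFunLike.coe_injective
  obtain ⟨G, hG⟩ : ∃ G : Subgroup (F ≃+* F), G = Subgroup.zpowers σ := ⟨_, rfl⟩
  have hτ : ∀ c : FixedPoints.subfield G F, τ (c : F) = c := by
    intro c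
    apply h
    exact c.2 ⟨σ, by rw [hG]; exact Subgroup.mem_zpowers σ⟩
  obtain ⟨f, hf⟩ : ∃ f : F →ₐ[FixedPoints.subfield G F] F, ∀ a, f a = τ a :=
    ⟨{ (τ : F →+* F) with commutes' := hτ }, fun _ => rfl⟩
  obtain ⟨g, hg⟩ := (FixedPoints.toAlgHom_bijective G F).2 f
  have h1 : (g : F ≃+* F) = τ := by
    ext a
    rw [← hf, ← hg]
    rfl
  rw [← h1, ← hG]
  exact g.2

/-- a matrix fixing the coordinate points and their sums is scalar -/
theorem scalar_of_fix_basis (hm : 1 ≤ m) {M : Matrix (Fin m ⊕ Fin m) (Fin m ⊕ Fin m) F}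
    (h1 : ∀ i, ∃ d : F, M *ᵥ Pi.single i 1 = d • Pi.single i 1)
    (h2 : ∀ i j, i ≠ j → ∃ d : F, M *ᵥ (Pi.single i 1 + Pi.single j 1) =
      d • (Pi.single i 1 + Pi.single j 1)) :
    ∃ c : F, ∀ v, M *ᵥ v = c • v := by
  choose lam hlam using h1
  have heq : ∀ i j, i ≠ j → lam i = lam j := by
    intro i j hij
    obtain ⟨d, hd⟩ := h2 i j hij
    rw [mulVec_add, hlam, hlam] at hd
    have e1 := congrFun hd i
    have e2 := congrFun hd j
    simp only [Pi.add_apply, Pi.smul_apply, Pi.single_eq_same, Pi.single_eq_of_ne hij,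
      Pi.single_eq_of_ne (Ne.symm hij), smul_eq_mul, mul_one, mul_zero, add_zero, zero_add]
      at e1 e2
    rw [e1, e2]
  refine ⟨lam (Sum.inl ⟨0, hm⟩), ?_⟩
  have hall : ∀ i, lam i = lam (Sum.inl ⟨0, hm⟩) := by
    intro i
    by_cases hi : i = Sum.inl ⟨0, hm⟩
    · rw [hi]
    · exact heq _ _ hi
  have hM : M = lam (Sum.inl ⟨0, hm⟩) • (1 : Matrix (Fin m ⊕ Fin m) (Fin m ⊕ Fin m) F) := by
    ext a b
    have := congrFun (hlam b) a
    rw [Matrix.mulVec_single_one] at this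
    rw [show M a b = M.col b a from rfl, this, hall b, Matrix.smul_apply, Matrix.one_apply,
      Pi.smul_apply, Pi.single_apply]
  intro v
  rw [hM, smul_mulVec, one_mulVec]

theorem sv_single (σ : F ≃+* F) (i : Fin m ⊕ Fin m) :
    sv σ (Pi.single i (1 : F)) = Pi.single i 1 := by
  ext j
  rw [sv_apply, Pi.single_apply]
  by_cases h : j = i
  · rw [if_pos h, map_one]
  · rw [if_neg h, map_zero]

/-- **an automorphism of `PSp_{2m}(q)` fixing the images of the symplectic matrices fixed by `σ`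
is a field automorphism whose field part fixes the fixed field of `σ`** -/
theorem eq_pspField_of_fix [Fintype F] (r : ℕ) [Fact r.Prime] [CharP F r] (hm : 2 ≤ m)
    (σ : F ≃+* F) (a : MulAut (PSp m F))
    (ha : ∀ s : symplecticGroup (Fin m) F, spField σ s = s → a (pr s) = pr s) :
    ∃ τ : F ≃+* F, (∀ c, σ c = c → τ c = c) ∧ a = pspField τ := by
  have hm1 : 1 ≤ m := by omega
  -- rational transvections are fixed
  have hT : ∀ (v : Fin m ⊕ Fin m → F) (c : F), sv σ v = v → σ c = c →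
      a (pr (T v c)) = pr (T v c) := by
    intro v c hv hc
    apply ha
    rw [spField_T, hv, hc]
  obtain ⟨e, he⟩ : ∃ e : Fin m ⊕ Fin m → F, e = Pi.single (Sum.inl ⟨0, hm1⟩) 1 := ⟨_, rfl⟩
  have he0 : e ≠ 0 := by
    rw [he]
    exact Cfsg.Agent.S0269.single_ne_zero' _
  have hσe : sv σ e = e := by rw [he, sv_single]
  have htv : IsTvb (pr (T e (1 : F))) := ⟨e, 1, he0, one_ne_zero, rfl⟩
  obtain ⟨g, τ, hgτ⟩ := std_of_fix_tv r hm a htv (by rw [hT e 1 hσe (map_one σ)]; exact htv)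
  -- rational points are fixed
  have hpar : ∀ v : Fin m ⊕ Fin m → F, v ≠ 0 → sv σ v = v → ∃ d : F, sm g τ v = d • v := by
    intro v hv0 hv
    have h1 := hT v 1 hv (map_one σ)
    rw [hgτ] at h1
    have h2 : psa g τ (pr (T v (1 : F))) = pr (T v 1) := h1
    rw [psa_pr, sa_T] at h2
    have h3 : pr (T v (1 : F)) ∈ Xb (sm g τ v) := by
      rw [← h2]
      exact mem_Xb_iff.mpr ⟨_, rfl⟩
    obtain ⟨c, hc0, hc⟩ := par_of_mem_Xb r hm1 hv0 h3
    refine ⟨c⁻¹, ?_⟩
    conv_rhs => rw [hc, smul_smul, inv_mul_cancel₀ hc0, one_smul]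
  obtain ⟨f, hf⟩ : ∃ f : Fin m ⊕ Fin m → F, f = Pi.single (Sum.inr ⟨0, hm1⟩) 1 := ⟨_, rfl⟩
  have hf0 : f ≠ 0 := by
    rw [hf]
    exact Cfsg.Agent.S0269.single_ne_zero' _
  have hσf : sv σ f = f := by rw [hf, sv_single]
  obtain ⟨a₀, ha₀⟩ := hpar e he0 hσe
  obtain ⟨b₀, hb₀⟩ := hpar f hf0 hσf
  have hb₀0 : b₀ ≠ 0 := by
    rintro rfl
    rw [zero_smul] at hb₀
    exact sm_ne_zero g τ hf0 hb₀
  have hne : (Sum.inl ⟨0, hm1⟩ : Fin m ⊕ Fin m) ≠ Sum.inr ⟨0, hm1⟩ := by simp
  have key : ∀ c : F, σ c = c → τ c * a₀ = b₀ * c := by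
    intro c hc
    have hx0 : f + c • e ≠ 0 := by
      intro h0
      have := congrFun h0 (Sum.inr ⟨0, hm1⟩)
      rw [hf, he] at this
      simp only [Pi.add_apply, Pi.smul_apply, Pi.single_eq_same, Pi.single_eq_of_ne hne.symm,
        smul_eq_mul, mul_zero, add_zero, Pi.zero_apply] at this
      exact one_ne_zero this
    have hσx : sv σ (f + c • e) = f + c • e := by rw [sv_add, sv_smul, hσf, hσe, hc]
    obtain ⟨d, hd⟩ := hpar _ hx0 hσx
    rw [sm_add, sm_smul, ha₀, hb₀] at hd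
    have e1 := congrFun hd (Sum.inr ⟨0, hm1⟩)
    have e2 := congrFun hd (Sum.inl ⟨0, hm1⟩)
    rw [hf, he] at e1 e2
    simp only [Pi.add_apply, Pi.smul_apply, Pi.single_eq_same, Pi.single_eq_of_ne hne,
      Pi.single_eq_of_ne hne.symm, smul_eq_mul, mul_zero, add_zero, zero_add, mul_one] at e1 e2
    rw [e2, e1]
  have hab : a₀ = b₀ := by
    have := key 1 (map_one σ)
    rw [map_one, one_mul, mul_one] at this
    exact this
  have hτ : ∀ c, σ c = c → τ c = c := by
    intro c hc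
    have := key c hc
    rw [hab, mul_comm] at this
    exact mul_left_cancel₀ hb₀0 this
  refine ⟨τ, hτ, ?_⟩
  -- the linear part is scalar
  have hsc : ∃ c : F, ∀ v, mg g *ᵥ v = c • v := by
    apply scalar_of_fix_basis hm1
    · intro i
      obtain ⟨d, hd⟩ := hpar (Pi.single i 1) (Cfsg.Agent.S0269.single_ne_zero' _) (sv_single σ i)
      refine ⟨d, ?_⟩
      rw [← hd]
      unfold sm
      rw [sv_single]
    · intro i j hij
      have hx0 : (Pi.single i 1 + Pi.single j 1 : Fin m ⊕ Fin m → F) ≠ 0 := by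
        intro h0
        have := congrFun h0 i
        simp only [Pi.add_apply, Pi.single_eq_same, Pi.single_eq_of_ne hij, add_zero,
          Pi.zero_apply] at this
        exact one_ne_zero this
      obtain ⟨d, hd⟩ := hpar _ hx0 (by rw [sv_add, sv_single, sv_single])
      refine ⟨d, ?_⟩
      rw [← hd]
      unfold sm
      rw [sv_add, sv_single, sv_single]
  obtain ⟨c, hc⟩ := hsc
  rw [hgτ, pspConj_eq_one_of_scalar hc, one_mul]

end Cfsg.Agent.Helper8.AutSp
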