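import Mathlib
import Cfsg.Agent.Helper8.AutSpzt

set_option autoImplicit false
set_option linter.unusedSectionVars false

/-! The `p'`-core of the centraliser of a field automorphism of prime order `p` of `PSp_{2m}(q)`
(helper8). -/

namespace Cfsg.Agent.Helper8.AutSp

open Matrix Cfsg Cfsg.Agent.Helper7.Symp Cfsg.Agent.Helper8.SpRoot
open scoped Pointwise

variable {F : Type*} [Field F] {m : ℕ}

theorem aut_conj_conj {G : Type*} [Group G] (a : MulAut G) (k : G) :
    a * MulAut.conj k * a⁻¹ = MulAut.conj (a k) := by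
  ext x
  simp only [MulAut.mul_apply, MulAut.conj_apply, map_mul, map_inv, MulAut.apply_inv_self]

/-- `PSp` has trivial centre -/
theorem eq_one_of_conj_eq_one (p : ℕ) [Fact p.Prime] [CharP F p] (hm : 1 ≤ m) {k : PSp m F}
    (h : MulAut.conj k = 1) : k = 1 := by
  apply eq_one_of_normalizes p hm
  intro v _
  rw [h, one_smul]

theorem conj_injective_psp (p : ℕ) [Fact p.Prime] [CharP F p] (hm : 1 ≤ m) :
    Function.Injective (MulAut.conj : PSp m F →* MulAut (PSp m F)) := by
  rw [injective_iff_map_eq_one]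
  intro k hk
  exact eq_one_of_conj_eq_one p hm hk

theorem pr_T_ne_one (p : ℕ) [Fact p.Prime] [CharP F p] (hm : 1 ≤ m) {v : Fin m ⊕ Fin m → F}
    (hv : v ≠ 0) {c : F} (hc : c ≠ 0) : pr (T v c) ≠ 1 := by
  intro h
  have h1 : pr (T v c) = pr (1 : symplecticGroup (Fin m) F) := by rw [h, map_one]
  have h2 := eq_of_pr_eq p hm h1 (m₁ := 1) (m₂ := 0) (by rw [pow_one]; exact T_pow_char p v c)
    (one_pow _)
  exact hc ((T_eq_one_iff hv c).mp h2)

theorem mem_centralizer_singleton_iff {G : Type*} [Group G] {x g : G} :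
    g ∈ Subgroup.centralizer {x} ↔ x * g = g * x := by
  rw [Subgroup.mem_centralizer_iff]
  constructor
  · intro h
    exact h x rfl
  · intro h y hy
    rw [Set.mem_singleton_iff] at hy
    subst hy
    exact h

/-- **the `p'`-core of the centraliser of a field automorphism of prime order `p`** -/
theorem core_field_iff [Fintype F] (r : ℕ) [Fact r.Prime] [CharP F r] (hm : 2 ≤ m)
    (σ : F ≃+* F) {p : ℕ} [Fact p.Prime] (hpr : p ≠ r) (hσ : orderOf σ = p)
    (A : Subgroup (MulAut (PSp m F))) (hinn : ∀ k : PSp m F, MulAut.conj k ∈ A) :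
    HasCore p (A ⊓ Subgroup.centralizer {(pspField σ : MulAut (PSp m F))}) ↔
      Nat.Coprime p (Nat.card (MonoidHom.eqLocus (pspField σ : MulAut (PSp m F)).toMonoidHom
        (MonoidHom.id (PSp m F)))) := by
  have hm1 : 1 ≤ m := by omega
  have hp : p.Prime := Fact.out
  have hσp : σ ^ p = 1 := by rw [← hσ, pow_orderOf_eq_one]
  have : Finite (PSp m F) := by unfold PSp; infer_instance
  obtain ⟨x₀, hx₀⟩ : ∃ x₀ : MulAut (PSp m F), x₀ = pspField σ := ⟨_, rfl⟩
  obtain ⟨Fix, hFix⟩ : ∃ Fix : Subgroup (PSp m F),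
      Fix = MonoidHom.eqLocus x₀.toMonoidHom (MonoidHom.id (PSp m F)) := ⟨_, rfl⟩
  have hmemFix : ∀ k, k ∈ Fix ↔ x₀ k = k := by
    intro k
    rw [hFix]
    exact Iff.rfl
  rw [← hx₀, ← hFix]
  -- conjugation by fixed elements
  have hconj : ∀ k ∈ Fix, MulAut.conj k ∈ A ⊓ Subgroup.centralizer {x₀} := by
    intro k hk
    refine Subgroup.mem_inf.mpr ⟨hinn k, ?_⟩
    rw [mem_centralizer_singleton_iff]
    have h1 := aut_conj_conj x₀ k
    rw [(hmemFix k).mp hk] at h1
    conv_rhs => rw [← h1, inv_mul_cancel_right]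
  -- elements of the centraliser preserve the fixed points
  have hpres : ∀ c ∈ A ⊓ Subgroup.centralizer {x₀}, ∀ k ∈ Fix, c k ∈ Fix := by
    intro c hc k hk
    rw [hmemFix] at hk ⊢
    have h1 := mem_centralizer_singleton_iff.mp (Subgroup.mem_inf.mp hc).2
    have h2 : (x₀ * c) k = (c * x₀) k := by rw [h1]
    rw [MulAut.mul_apply, MulAut.mul_apply, hk] at h2
    exact h2
  constructor
  · rintro ⟨N, hN1, hN2, hN3, hN4⟩
    by_contra hcop
    have hd : p ∣ Nat.card Fix := by
      by_contra hnd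
      exact hcop ((Nat.Prime.coprime_iff_not_dvd hp).mpr hnd)
    apply hN4
    -- the fixed field
    obtain ⟨ι, hι⟩ : ∃ ι : Cfsg.Agent.Helper8.AutSLn.fixField σ →+* F,
        ι = (Cfsg.Agent.Helper8.AutSLn.fixField σ).subtype := ⟨_, rfl⟩
    have hfix : ∀ a, σ (ι a) = ι a := by
      intro a
      rw [hι]
      exact a.2
    have hsurj : ∀ b, σ b = b → ∃ a, ι a = b := by
      intro b hb
      rw [hι]
      exact ⟨⟨b, hb⟩, rfl⟩
    have : Fintype (Cfsg.Agent.Helper8.AutSLn.fixField σ) := Fintype.ofFinite _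
    -- the part of `N` consisting of inner automorphisms
    obtain ⟨M₀, hM₀⟩ : ∃ M₀ : Subgroup (PSp m F),
        M₀ = N.comap (MulAut.conj : PSp m F →* MulAut (PSp m F)) ⊓ Fix := ⟨_, rfl⟩
    have hM₀bot : M₀ = ⊥ := by
      apply fixed_normal_eq_bot r hm σ hpr hσ ι hfix hsurj M₀
      · intro k hk
        rw [hM₀] at hk
        rw [← hx₀]
        exact (hmemFix k).mp (Subgroup.mem_inf.mp hk).2
      · intro k' hk' k hk
        rw [← hx₀, ← hmemFix] at hk'
        rw [hM₀] at hk ⊢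
        obtain ⟨hk1, hk2⟩ := Subgroup.mem_inf.mp hk
        refine Subgroup.mem_inf.mpr ⟨?_, Fix.mul_mem (Fix.mul_mem hk' hk2) (Fix.inv_mem hk')⟩
        rw [Subgroup.mem_comap, map_mul, map_mul, map_inv]
        exact hN2 _ (hconj k' hk') _ hk1
      · have h1 : Nat.card (M₀.map (MulAut.conj : PSp m F →* MulAut (PSp m F))) ∣ Nat.card N := by
          apply Subgroup.card_dvd_of_le
          rintro _ ⟨k, hk, rfl⟩
          rw [hM₀] at hk
          exact (Subgroup.mem_inf.mp hk).1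
        rw [Subgroup.card_map_of_injective (conj_injective_psp r hm1)] at h1
        exact Nat.Coprime.coprime_dvd_left h1 hN3
      · rw [← hx₀, ← hFix]
        exact hd
    -- the elements of `N` fix the fixed points
    have hNfix : ∀ n ∈ N, ∀ k ∈ Fix, n k = k := by
      intro n hn k hk
      have h1 : n k * k⁻¹ ∈ M₀ := by
        rw [hM₀]
        refine Subgroup.mem_inf.mpr ⟨?_, Fix.mul_mem (hpres n (hN1 hn) k hk) (Fix.inv_mem hk)⟩
        rw [Subgroup.mem_comap, map_mul, map_inv, ← aut_conj_conj]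
        have h2 : MulAut.conj k * n⁻¹ * (MulAut.conj k)⁻¹ ∈ N :=
          hN2 _ (hconj k hk) _ (N.inv_mem hn)
        have h3 : n * MulAut.conj k * n⁻¹ * (MulAut.conj k)⁻¹ =
            n * (MulAut.conj k * n⁻¹ * (MulAut.conj k)⁻¹) := by group
        rw [h3]
        exact N.mul_mem hn h2
      rw [hM₀bot, Subgroup.mem_bot] at h1
      exact mul_inv_eq_one.mp h1
    rw [Subgroup.eq_bot_iff_forall]
    intro n hn
    obtain ⟨τ, hτ, hnτ⟩ := eq_pspField_of_fix r hm σ n (by
      intro s hs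
      apply hNfix n hn
      rw [hmemFix, hx₀, pspField_pr, hs])
    have hτz := mem_zpowers_of_fixes σ τ hτ
    obtain ⟨j, hj⟩ := Subgroup.mem_zpowers_iff.mp hτz
    have hτp : τ ^ p = 1 := by
      rw [← hj, ← zpow_natCast, ← _root_.zpow_mul, mul_comm, _root_.zpow_mul, zpow_natCast, hσp, _root_.one_zpow]
    have hnp : n ^ p = 1 := by rw [hnτ, ← map_pow, hτp, map_one]
    have h1 : orderOf n ∣ p := orderOf_dvd_of_pow_eq_one hnp
    have h2 : orderOf (⟨n, hn⟩ : N) ∣ Nat.card N := orderOf_dvd_natCard _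
    rw [← Subgroup.orderOf_coe] at h2
    have h3 := Nat.dvd_gcd h2 h1
    rw [hN3] at h3
    exact orderOf_eq_one_iff.mp (Nat.dvd_one.mp h3)
  · intro hcop
    refine ⟨Fix.map (MulAut.conj : PSp m F →* MulAut (PSp m F)), ?_, ?_, ?_, ?_⟩
    · rintro _ ⟨k, hk, rfl⟩
      exact hconj k hk
    · rintro c hc _ ⟨k, hk, rfl⟩
      refine ⟨c k, hpres c hc k hk, ?_⟩
      exact (aut_conj_conj c k).symm
    · exact Nat.Coprime.coprime_dvd_left (Subgroup.card_map_dvd _ _) hcop.symm
    · intro hbot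
      obtain ⟨e, he⟩ : ∃ e : Fin m ⊕ Fin m → F, e = Pi.single (Sum.inl ⟨0, hm1⟩) 1 := ⟨_, rfl⟩
      have he0 : e ≠ 0 := by
        rw [he]
        exact Cfsg.Agent.S0269.single_ne_zero' _
      have hk : pr (T e (1 : F)) ∈ Fix := by
        rw [hmemFix, hx₀, pspField_pr, spField_T, he, sv_single, map_one]
      have h1 : MulAut.conj (pr (T e (1 : F))) ∈
          Fix.map (MulAut.conj : PSp m F →* MulAut (PSp m F)) := ⟨_, hk, rfl⟩
      rw [hbot, Subgroup.mem_bot] at h1
      exact pr_T_ne_one r hm1 he0 one_ne_zero (eq_one_of_conj_eq_one r hm1 h1)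

end Cfsg.Agent.Helper8.AutSp
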