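import Mathlib
import Cfsg.Agent.Helper8.AutSpzu

set_option autoImplicit false
set_option linter.unusedSectionVars false

/-! The criterion for the failure of local balance in almost simple groups with socle
`PSp_{2m}(q)` (helper8). -/

namespace Cfsg.Agent.Helper8.AutSp

open Matrix Cfsg Cfsg.Agent.Helper7.Symp Cfsg.Agent.Helper8.SpRoot
open scoped Pointwise

variable {F : Type*} [Field F] {m : ℕ}

/-- the number of fixed points is invariant under conjugation -/
theorem card_eqLocus_conj {G : Type*} [Group G] (α x : MulAut G) :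
    Nat.card (MonoidHom.eqLocus (α * x * α⁻¹).toMonoidHom (MonoidHom.id G)) =
      Nat.card (MonoidHom.eqLocus x.toMonoidHom (MonoidHom.id G)) := by
  symm
  apply Nat.card_congr
  refine Equiv.subtypeEquiv α.toEquiv (fun k => ?_)
  show x k = k ↔ (α * x * α⁻¹) (α k) = α k
  rw [MulAut.mul_apply, MulAut.mul_apply, MulAut.inv_apply_self]
  constructor
  · intro h
    rw [h]
  · intro h
    exact α.injective h

/-- **an automorphism of prime order `p` different from the characteristic that is not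
inner-diagonal is conjugate to a standard field automorphism of order `p`** -/
theorem exists_conj_eq_pspField [Fintype F] (r : ℕ) [Fact r.Prime] [CharP F r] (hm : 2 ≤ m)
    {p : ℕ} [Fact p.Prime] (hpr : p ≠ r) (x : MulAut (PSp m F)) (hord : orderOf x = p)
    (hnot : ¬ Cfsg.IsInnerDiagonalAutPSp x) :
    ∃ (h : GSp m F) (σ : F ≃+* F), orderOf σ = p ∧
      x = pspConj h * pspField σ * (pspConj h)⁻¹ := by
  have hp : p.Prime := Fact.out
  have hxp : x ^ p = 1 := by rw [← hord, pow_orderOf_eq_one]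
  obtain ⟨g, σ, hx⟩ : ∃ (g : GSp m F) (σ : F ≃+* F), x = pspConj g * pspField σ := by
    rcases hp.eq_two_or_odd' with hp2 | hodd
    · have h2 : (2 : F) ≠ 0 := by
        intro h2
        exact hpr (hp2.trans (two_eq_zero_char r h2).symm)
      exact aut_PSp_standard_odd r h2 hm x
    · exact std_of_odd_order r hm x hodd hxp
  have hσ1 : σ ≠ 1 := by
    rintro rfl
    apply hnot
    rw [hx, map_one, mul_one]
    exact isInnerDiagonal_pspConj g
  have hσp : σ ^ p = 1 := by
    have h1 := hxp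
    rw [hx, psa_pow] at h1
    exact (eq_one_of_psa_eq_one r hm h1).1
  have hσord : orderOf σ = p := by
    have h1 : orderOf σ ∣ p := orderOf_dvd_of_pow_eq_one hσp
    rcases (Nat.dvd_prime hp).mp h1 with h2 | h2
    · exact absurd (orderOf_eq_one_iff.mp h2) hσ1
    · exact h2
  have hinj : ∀ i j : Fin p, σ ^ (i : ℕ) = σ ^ (j : ℕ) → i = j := by
    intro i j e
    apply Fin.ext
    apply pow_injOn_Iio_orderOf (x := σ) _ _ e
    · rw [hσord]
      exact i.2
    · rw [hσord]
      exact j.2
  have hy : (pspConj g * pspField σ : MulAut (PSp m F)) ^ p = 1 := by rw [← hx, hxp]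
  obtain ⟨h, hh⟩ := psp_field_case r hm σ hp.pos hσp hinj
    (Cfsg.Agent.Helper8.AutSLn.fixField σ).subtype (fun a => a.2) (fun b hb => ⟨⟨b, hb⟩, rfl⟩) g hy
  exact ⟨h, σ, hσord, by rw [hx, hh]⟩

/-- **the criterion for the failure of local balance for `PSp_{2m}(q)`** -/
theorem core_iff_psp [Fintype F] (r : ℕ) [Fact r.Prime] [CharP F r] (hm : 2 ≤ m)
    (A : Subgroup (MulAut (PSp m F))) (hinn : ∀ k : PSp m F, MulAut.conj k ∈ A)
    {p : ℕ} [Fact p.Prime] (hpr : p ≠ r) (x : MulAut (PSp m F)) (hord : orderOf x = p)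
    (hnot : ¬ Cfsg.IsInnerDiagonalAutPSp x) :
    Cfsg.pPrimeCore p ↥(A ⊓ Subgroup.centralizer {x}) ≠ ⊥ ↔
      (Cfsg.IsFieldAutClassPSp x ∧ Nat.Coprime p (Nat.card
        ↥(MonoidHom.eqLocus x.toMonoidHom (MonoidHom.id (PSp m F))))) := by
  obtain ⟨h, σ, hσord, hx⟩ := exists_conj_eq_pspField r hm hpr x hord hnot
  have hp : p.Prime := Fact.out
  have hσ1 : σ ≠ RingEquiv.refl F := by
    intro h1
    have h2 : σ = 1 := h1
    rw [h2, orderOf_one] at hσord
    exact hp.one_lt.ne hσord
  obtain ⟨α, hα⟩ : ∃ α : MulAut (PSp m F), α = (pspConj h)⁻¹ := ⟨_, rfl⟩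
  have hαx : α * x * α⁻¹ = pspField σ := by
    rw [hα, hx]
    group
  have hcls : Cfsg.IsFieldAutClassPSp x := ⟨α, σ, hσ1, by rw [hαx]; exact isStdFieldAut_pspField σ⟩
  rw [pPrimeCore_ne_bot_iff_hasCore, ← hasCore_map_iff (MulAut.conj α), smul_inf_centralizer,
    MulAut.conj_apply, hαx]
  rw [core_field_iff r hm σ hpr hσord, ← hαx, card_eqLocus_conj]
  · constructor
    · intro h1
      exact ⟨hcls, h1⟩
    · intro h1
      exact h1.2
  · intro k
    rw [Subgroup.mem_pointwise_smul_iff_inv_smul_mem, MulAut.smul_def, ← map_inv,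
      MulAut.conj_apply, inv_inv]
    have h1 := aut_conj_conj α⁻¹ k
    rw [inv_inv] at h1
    rw [h1]
    exact hinn _

end Cfsg.Agent.Helper8.AutSp
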