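import Mathlib

set_option autoImplicit false

/-! The exceptional isogeny of `Sp_4` in characteristic two, as the matrix of `2 × 2` minors
(helper8). -/

namespace Cfsg.Agent.Helper8.ExcSp

open Matrix

/-- the index set of `4 × 4` symplectic matrices -/
abbrev I4 := Fin 2 ⊕ Fin 2

/-- first index of the pair attached to a coordinate -/
def p1 : I4 → I4
  | Sum.inl 0 => Sum.inl 0
  | Sum.inl 1 => Sum.inl 0
  | Sum.inr 0 => Sum.inr 0
  | Sum.inr 1 => Sum.inl 1

/-- second index of the pair attached to a coordinate -/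
def p2 : I4 → I4
  | Sum.inl 0 => Sum.inl 1
  | Sum.inl 1 => Sum.inr 1
  | Sum.inr 0 => Sum.inr 1
  | Sum.inr 1 => Sum.inr 0

@[simp] theorem p1_a : p1 (Sum.inl 0) = Sum.inl 0 := rfl
@[simp] theorem p1_b : p1 (Sum.inl 1) = Sum.inl 0 := rfl
@[simp] theorem p1_c : p1 (Sum.inr 0) = Sum.inr 0 := rfl
@[simp] theorem p1_d : p1 (Sum.inr 1) = Sum.inl 1 := rfl
@[simp] theorem p2_a : p2 (Sum.inl 0) = Sum.inl 1 := rfl
@[simp] theorem p2_b : p2 (Sum.inl 1) = Sum.inr 1 := rfl
@[simp] theorem p2_c : p2 (Sum.inr 0) = Sum.inr 1 := rfl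
@[simp] theorem p2_d : p2 (Sum.inr 1) = Sum.inr 0 := rfl

variable {F : Type*} [Field F]

def wdg (u v : I4 → F) (L : I4) : F := u (p1 L) * v (p2 L) - u (p2 L) * v (p1 L)

def w13 (u v : I4 → F) : F := u (Sum.inl 0) * v (Sum.inr 0) - u (Sum.inr 0) * v (Sum.inl 0)

def w24 (u v : I4 → F) : F := u (Sum.inl 1) * v (Sum.inr 1) - u (Sum.inr 1) * v (Sum.inl 1)

/-- the Binet–Cauchy identity in dimension four -/
theorem cb (u v c d : I4 → F) :
    (u ⬝ᵥ c) * (v ⬝ᵥ d) - (u ⬝ᵥ d) * (v ⬝ᵥ c) =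
      ∑ L, wdg u v L * wdg c d L + w13 u v * w13 c d + w24 u v * w24 c d := by
  simp only [dotProduct, Fintype.sum_sum_type, Fin.sum_univ_two, wdg, w13, w24, p1, p2]
  ring

theorem row_rel {g : Matrix I4 I4 F} (h : g * J (Fin 2) F * gᵀ = J (Fin 2) F) (i k : I4) :
    w13 (g i) (g k) + w24 (g i) (g k) = - J (Fin 2) F i k := by
  have h1 := congrFun (congrFun h i) k
  rw [← h1]
  simp only [Matrix.mul_apply, Matrix.transpose_apply, Fintype.sum_sum_type, Fin.sum_univ_two, J,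
    Matrix.fromBlocks_apply₁₁, Matrix.fromBlocks_apply₁₂, Matrix.fromBlocks_apply₂₁,
    Matrix.fromBlocks_apply₂₂, Matrix.zero_apply, Matrix.neg_apply, Matrix.one_apply, w13, w24]
  simp
  ring

theorem col_rel {g : Matrix I4 I4 F} (h : gᵀ * J (Fin 2) F * g = J (Fin 2) F) (i k : I4) :
    w13 (fun a => g a i) (fun a => g a k) + w24 (fun a => g a i) (fun a => g a k) =
      - J (Fin 2) F i k := by
  have h1 : gᵀ * J (Fin 2) F * gᵀᵀ = J (Fin 2) F := by rw [Matrix.transpose_transpose]; exact h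
  exact row_rel h1 i k

theorem J_pair (I : I4) : J (Fin 2) F (p1 I) (p2 I) = 0 := by
  revert I
  simp only [Sum.forall, Fin.forall_fin_two]
  simp [J]

/-- the matrix of `2 × 2` minors -/
def phiMat (g : Matrix I4 I4 F) : Matrix I4 I4 F :=
  Matrix.of fun I K => g (p1 I) (p1 K) * g (p2 I) (p2 K) - g (p1 I) (p2 K) * g (p2 I) (p1 K)

theorem phiMat_apply (g : Matrix I4 I4 F) (I K : I4) :
    phiMat g I K = g (p1 I) (p1 K) * g (p2 I) (p2 K) - g (p1 I) (p2 K) * g (p2 I) (p1 K) := rfl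

theorem phiMat_eq_wdg_row (g : Matrix I4 I4 F) (I K : I4) :
    phiMat g I K = wdg (g (p1 I)) (g (p2 I)) K := rfl

theorem phiMat_eq_wdg_col (g : Matrix I4 I4 F) (I K : I4) :
    phiMat g I K = wdg (fun a => g a (p1 K)) (fun a => g a (p2 K)) I := by
  rw [phiMat_apply]
  unfold wdg
  ring

theorem phiMat_transpose (g : Matrix I4 I4 F) : phiMat gᵀ = (phiMat g)ᵀ := by
  ext I K
  rw [Matrix.transpose_apply, phiMat_apply, phiMat_apply]
  simp only [Matrix.transpose_apply]
  ring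

theorem phiMat_one : phiMat (1 : Matrix I4 I4 F) = 1 := by
  rw [← Matrix.ext_iff]
  simp only [Sum.forall, Fin.forall_fin_two, phiMat_apply]
  simp [Matrix.one_apply]

/-- multiplicativity on symplectic matrices in characteristic two -/
theorem phiMat_mul [CharP F 2] {g h : Matrix I4 I4 F}
    (hg : g * J (Fin 2) F * gᵀ = J (Fin 2) F) (hh : hᵀ * J (Fin 2) F * h = J (Fin 2) F) :
    phiMat (g * h) = phiMat g * phiMat h := by
  have h2 : (2 : F) = 0 := by
    have := CharP.cast_eq_zero F 2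
    exact_mod_cast this
  ext I K
  rw [Matrix.mul_apply, phiMat_apply]
  have e1 : ∀ i k, (g * h) i k = g i ⬝ᵥ (fun a => h a k) := fun i k => rfl
  rw [e1, e1, e1, e1, cb]
  have e2 : ∀ L, phiMat g I L * phiMat h L K =
      wdg (g (p1 I)) (g (p2 I)) L * wdg (fun a => h a (p1 K)) (fun a => h a (p2 K)) L := by
    intro L
    rw [phiMat_eq_wdg_row, phiMat_eq_wdg_col]
  simp only [e2]
  have r1 := row_rel hg (p1 I) (p2 I)
  have r2 := col_rel hh (p1 K) (p2 K)
  rw [J_pair, neg_zero] at r1 r2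
  linear_combination (w24 (g (p1 I)) (g (p2 I))) * r2 +
    (w13 (fun a => h a (p1 K)) (fun a => h a (p2 K))) * r1 -
    (w24 (g (p1 I)) (g (p2 I))) * (w13 (fun a => h a (p1 K)) (fun a => h a (p2 K))) * h2

theorem phiMat_J [CharP F 2] : phiMat (J (Fin 2) F) = J (Fin 2) F := by
  have h2 : (-1 : F) = 1 := by
    have h : (2 : F) = 0 := by
      have := CharP.cast_eq_zero F 2
      exact_mod_cast this
    linear_combination -h
  rw [← Matrix.ext_iff]
  simp only [Sum.forall, Fin.forall_fin_two, phiMat_apply]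
  simp [J, h2]

theorem mem_symp_iff (g : Matrix I4 I4 F) :
    g ∈ symplecticGroup (Fin 2) F ↔ g * J (Fin 2) F * gᵀ = J (Fin 2) F :=
  SymplecticGroup.mem_iff

theorem mem_symp_iff' (g : Matrix I4 I4 F) :
    g ∈ symplecticGroup (Fin 2) F ↔ gᵀ * J (Fin 2) F * g = J (Fin 2) F :=
  SymplecticGroup.mem_iff'

/-- the matrix of minors of a symplectic matrix is symplectic -/
theorem phiMat_mem [CharP F 2] {g : Matrix I4 I4 F} (hg : g ∈ symplecticGroup (Fin 2) F) :
    phiMat g ∈ symplecticGroup (Fin 2) F := by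
  rw [mem_symp_iff]
  have h1 := (mem_symp_iff g).mp hg
  have hJ : J (Fin 2) F ∈ symplecticGroup (Fin 2) F := SymplecticGroup.J_mem _ _
  have hgJ : g * J (Fin 2) F ∈ symplecticGroup (Fin 2) F :=
    (symplecticGroup (Fin 2) F).mul_mem hg hJ
  have hgT : gᵀ ∈ symplecticGroup (Fin 2) F := SymplecticGroup.transpose_mem hg
  have h3 := congrArg phiMat h1
  rw [phiMat_mul ((mem_symp_iff _).mp hgJ) ((mem_symp_iff' _).mp hgT),
    phiMat_mul h1 ((mem_symp_iff' _).mp hJ), phiMat_J, phiMat_transpose] at h3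
  exact h3

/-- **the exceptional isogeny of `Sp_4` in characteristic two** -/
def phiHom (F : Type*) [Field F] [CharP F 2] :
    symplecticGroup (Fin 2) F →* symplecticGroup (Fin 2) F where
  toFun g := ⟨phiMat (g : Matrix I4 I4 F), phiMat_mem g.2⟩
  map_one' := Subtype.ext phiMat_one
  map_mul' g h := Subtype.ext (phiMat_mul ((mem_symp_iff _).mp g.2) ((mem_symp_iff' _).mp h.2))

theorem phiHom_coe [CharP F 2] (g : symplecticGroup (Fin 2) F) :
    ((phiHom F g : symplecticGroup (Fin 2) F) : Matrix I4 I4 F) = phiMat (g : Matrix I4 I4 F) := rfl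

end Cfsg.Agent.Helper8.ExcSp
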