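import Mathlib
import Cfsg.Agent.Helper8.ExcSpA
import Cfsg.Agent.Helper8.AutSpzv

set_option autoImplicit false

/-! The exceptional isogeny of `Sp_4` in characteristic two: values on root elements (helper8). -/

namespace Cfsg.Agent.Helper8.ExcSp

open Matrix Cfsg Cfsg.Agent.Helper7.Symp Cfsg.Agent.Helper8.SpRoot Cfsg.Agent.Helper8.AutSp

variable {F : Type*} [Field F]

/-- the first basis vector -/
def e1 : I4 → F := Pi.single (Sum.inl 0) 1

/-- its hyperbolic partner -/
def f1 : I4 → F := Pi.single (Sum.inr 0) 1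

theorem e1_ne_zero : (e1 : I4 → F) ≠ 0 := by
  intro h
  have := congrFun h (Sum.inl 0)
  simp [e1] at this

theorem f1_ne_zero : (f1 : I4 → F) ≠ 0 := by
  intro h
  have := congrFun h (Sum.inr 0)
  simp [f1] at this

/-- a long root element -/
def Um (t : F) : Matrix I4 I4 F := Matrix.fromBlocks 1 !![t, 0; 0, 0] 0 1

/-- a short root element -/
def Sm (t : F) : Matrix I4 I4 F := Matrix.fromBlocks 1 !![0, t; t, 0] 0 1

/-- the opposite long root element -/
def Um' (t : F) : Matrix I4 I4 F := Matrix.fromBlocks 1 0 !![t, 0; 0, 0] 1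

/-- the opposite short root element -/
def Sm' (t : F) : Matrix I4 I4 F := Matrix.fromBlocks 1 0 !![0, t; t, 0] 1

theorem mt_T_e1 (t : F) : mt (T (e1 : I4 → F) t) = Um t := by
  show sympTransvection 2 e1 t = Um t
  unfold sympTransvection Um e1
  rw [← Matrix.ext_iff]
  simp only [Sum.forall, Fin.forall_fin_two]
  simp [Matrix.vecMulVec_apply, J]

theorem mt_T_f1 (t : F) : mt (T (f1 : I4 → F) t) = Um' (-t) := by
  show sympTransvection 2 f1 t = Um' (-t)
  unfold sympTransvection Um' f1
  rw [← Matrix.ext_iff]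
  simp only [Sum.forall, Fin.forall_fin_two]
  simp [Matrix.vecMulVec_apply, J]

theorem neg_eq_self_char_two [CharP F 2] (t : F) : -t = t := by
  have h : (2 : F) = 0 := by
    have := CharP.cast_eq_zero F 2
    exact_mod_cast this
  linear_combination (-t) * h

theorem phiMat_Um [CharP F 2] (t : F) : phiMat (Um t) = Sm t := by
  have h2 := neg_eq_self_char_two t
  unfold Um Sm
  rw [← Matrix.ext_iff]
  simp only [Sum.forall, Fin.forall_fin_two, phiMat_apply]
  simp [h2]

theorem phiMat_Sm [CharP F 2] (t : F) : phiMat (Sm t) = Um (t ^ 2) := by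
  have h2 := neg_eq_self_char_two (t ^ 2)
  unfold Um Sm
  rw [← Matrix.ext_iff]
  simp only [Sum.forall, Fin.forall_fin_two, phiMat_apply]
  simp [h2, ← pow_two]

theorem phiMat_Um' [CharP F 2] (t : F) : phiMat (Um' t) = Sm' t := by
  have h2 := neg_eq_self_char_two t
  unfold Um' Sm'
  rw [← Matrix.ext_iff]
  simp only [Sum.forall, Fin.forall_fin_two, phiMat_apply]
  simp [h2]

theorem Sm_Sm'_ne : Sm (1 : F) * Sm' (1 : F) ≠ Sm' (1 : F) * Sm (1 : F) := by
  intro h
  have h1 := congrFun (congrFun h (Sum.inr 0)) (Sum.inr 0)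
  simp [Sm, Sm', Matrix.mul_apply, Fintype.sum_sum_type] at h1

end Cfsg.Agent.Helper8.ExcSp
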