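import Mathlib
import Cfsg.Agent.Helper8.ExcSpB

set_option autoImplicit false

/-! The exceptional isogeny of `Sp_4(2^f)` is an automorphism not preserving the
transvections (helper8). -/

namespace Cfsg.Agent.Helper8.ExcSp

open Matrix Cfsg Cfsg.Agent.Helper7.Symp Cfsg.Agent.Helper8.SpRoot Cfsg.Agent.Helper8.AutSp

variable {F : Type*} [Field F]

theorem phiHom_T_e1 [CharP F 2] (t : F) : mt (phiHom F (T (e1 : I4 → F) t)) = Sm t := by
  show phiMat (mt (T (e1 : I4 → F) t)) = Sm t
  rw [mt_T_e1, phiMat_Um]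

theorem phiHom_T_f1 [CharP F 2] (t : F) : mt (phiHom F (T (f1 : I4 → F) t)) = Sm' t := by
  show phiMat (mt (T (f1 : I4 → F) t)) = Sm' t
  rw [mt_T_f1, phiMat_Um', neg_eq_self_char_two]

theorem phiHom_phiHom_T_e1 [CharP F 2] (t : F) :
    phiHom F (phiHom F (T (e1 : I4 → F) t)) = T e1 (t ^ 2) := by
  apply Subtype.ext
  show phiMat (mt (phiHom F (T (e1 : I4 → F) t))) = mt (T e1 (t ^ 2))
  rw [phiHom_T_e1, phiMat_Sm, mt_T_e1]

/-- the image of a long root element is not a transvection -/
theorem not_isTv_phiHom [CharP F 2] : ¬ IsTv (phiHom F (T (e1 : I4 → F) 1)) := by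
  rintro ⟨v, s, hv, hs, h⟩
  have h1 : Sm (1 : F) = mt (T v s) := by rw [← h, phiHom_T_e1]
  have h2 : ∀ x : I4 → F, Sm (1 : F) *ᵥ x = x + (s * sympForm 2 F x v) • v := by
    intro x
    rw [h1]
    exact T_mulVec v s x
  have h3 := h2 (Pi.single (Sum.inr 0) 1)
  have h4 := h2 (Pi.single (Sum.inr 1) 1)
  rw [Matrix.mulVec_single_one] at h3 h4
  have a1 := congrFun h3 (Sum.inl 1)
  have a2 := congrFun h4 (Sum.inl 1)
  have a3 := congrFun h4 (Sum.inl 0)
  simp [Sm] at a1 a2 a3
  rcases a2 with a2 | a2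
  · rcases a2 with a2 | a2
    · exact hs a2
    · rw [a2] at a3
      simp at a3
  · rw [a2] at a1
    simp at a1

theorem T_mul_self_char_two' [CharP F 2] (v : I4 → F) (t : F) : T v t * T v t = 1 := by
  rw [Cfsg.Agent.Helper8.SpRoot.T_mul]
  have : t + t = 0 := by
    have h := neg_eq_self_char_two t
    linear_combination -h
  rw [this, Cfsg.Agent.Helper8.SpRoot.T_zero]

/-- the exceptional isogeny is injective -/
theorem phiHom_injective [Fintype F] [CharP F 2] : Function.Injective (phiHom F) := by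
  have : Fact (Nat.Prime 2) := ⟨Nat.prime_two⟩
  rw [← MonoidHom.ker_eq_bot_iff]
  rcases normal_sp_cases 2 (le_refl 2) (phiHom F).ker with h | h
  · rw [eq_bot_iff]
    intro g hg
    rw [Subgroup.mem_bot]
    apply pr_injective_char_two (le_of_lt (by norm_num : 1 < 2))
    rw [map_one]
    exact (QuotientGroup.eq_one_iff g).mpr (h hg)
  · exfalso
    have h1 := (h (T (e1 : I4 → F) 1 * T (f1 : I4 → F) 1)).2
    rw [MonoidHom.mem_ker, map_mul, map_mul] at h1
    set A := phiHom F (T (e1 : I4 → F) 1) with hA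
    set B := phiHom F (T (f1 : I4 → F) 1) with hB
    have hAA : A * A = 1 := by rw [hA, ← map_mul, T_mul_self_char_two', map_one]
    have hBB : B * B = 1 := by rw [hB, ← map_mul, T_mul_self_char_two', map_one]
    have h2 : A * B = B * A := by
      calc A * B = A * B * (A * A) := by rw [hAA, mul_one]
        _ = A * B * (A * (B * B) * A) := by rw [hBB, mul_one]
        _ = (A * B * (A * B)) * (B * A) := by group
        _ = B * A := by rw [h1, one_mul]
    have h3 := congrArg (fun x : symplecticGroup (Fin 2) F => mt x) h2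
    beta_reduce at h3
    apply Sm_Sm'_ne (F := F)
    have e1' : mt (A * B) = mt A * mt B := rfl
    have e2' : mt (B * A) = mt B * mt A := rfl
    rw [e1', e2', hA, hB, phiHom_T_e1, phiHom_T_f1] at h3
    exact h3

/-- **the exceptional automorphism of `Sp_4(2^f)`** -/
noncomputable def phiAut (F : Type*) [Field F] [Fintype F] [CharP F 2] :
    MulAut (symplecticGroup (Fin 2) F) :=
  MulEquiv.ofBijective (phiHom F) (Finite.injective_iff_bijective.mp phiHom_injective)

theorem phiAut_apply [Fintype F] [CharP F 2] (g : symplecticGroup (Fin 2) F) :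
    phiAut F g = phiHom F g := rfl

theorem phiAut_sq_T_e1 [Fintype F] [CharP F 2] (t : F) :
    phiAut F (phiAut F (T (e1 : I4 → F) t)) = T e1 (t ^ 2) := by
  rw [phiAut_apply, phiAut_apply, phiHom_phiHom_T_e1]

theorem not_isTv_phiAut [Fintype F] [CharP F 2] : ¬ IsTv (phiAut F (T (e1 : I4 → F) 1)) := by
  rw [phiAut_apply]
  exact not_isTv_phiHom

end Cfsg.Agent.Helper8.ExcSp
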