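import Mathlib
import Cfsg.Agent.Helper8.ExcSpC

set_option autoImplicit false
set_option linter.unusedSectionVars false

/-! Automorphisms of `Sp_4(2^f)`: the automorphisms preserving the transvections form a subgroup
of index at most two (helper8). -/

namespace Cfsg.Agent.Helper8.ExcSp

open Matrix Cfsg Cfsg.Agent.Helper7.Symp Cfsg.Agent.Helper8.SpRoot Cfsg.Agent.Helper8.AutSp

variable {F : Type*} [Field F]

/-- all transvections are conjugate in characteristic two -/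
theorem isTv_conj_of_isTv [Fintype F] [CharP F 2] {x y : symplecticGroup (Fin 2) F}
    (hx : IsTv x) (hy : IsTv y) : ∃ g : symplecticGroup (Fin 2) F, y = g * x * g⁻¹ := by
  obtain ⟨fr⟩ := exists_frame (F := F) (m := 2) (le_refl 2)
  obtain ⟨g₁, rfl⟩ := hx.exists_conj fr
  obtain ⟨g₂, rfl⟩ := hy.exists_conj fr
  exact ⟨g₂ * g₁⁻¹, by group⟩

/-- an automorphism mapping transvections to transvections reflects them -/
theorem isTv_of_isTv_map [Fintype F] [CharP F 2] (β : MulAut (symplecticGroup (Fin 2) F))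
    {x₀ : symplecticGroup (Fin 2) F} (hx₀ : IsTv x₀) (h₀ : IsTv (β x₀))
    {y : symplecticGroup (Fin 2) F} (hy : IsTv (β y)) : IsTv y := by
  obtain ⟨g, hg⟩ := isTv_conj_of_isTv h₀ hy
  obtain ⟨k, hk⟩ : ∃ k, β k = g := ⟨β⁻¹ g, MulAut.apply_inv_self _ β g⟩
  have h1 : β y = β (k * x₀ * k⁻¹) := by
    rw [map_mul, map_mul, map_inv, hk, hg]
  rw [β.injective h1]
  exact hx₀.conj k

/-- the automorphisms of `Sp_4(2^f)` preserving the transvections -/
def tvPres (F : Type*) [Field F] [Fintype F] [CharP F 2] :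
    Subgroup (MulAut (symplecticGroup (Fin 2) F)) where
  carrier := {β | ∀ x, IsTv x → IsTv (β x)}
  mul_mem' := by
    intro α β hα hβ x hx
    rw [MulAut.mul_apply]
    exact hα _ (hβ _ hx)
  one_mem' := fun x hx => hx
  inv_mem' := by
    intro β hβ x hx
    have h1 : IsTv (β (β⁻¹ x)) := by rw [MulAut.apply_inv_self]; exact hx
    exact isTv_of_isTv_map β hx (hβ x hx) h1

theorem mem_tvPres_iff [Fintype F] [CharP F 2] (β : MulAut (symplecticGroup (Fin 2) F)) :
    β ∈ tvPres F ↔ ∀ x, IsTv x → IsTv (β x) := Iff.rfl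

theorem mem_tvPres_of_one [Fintype F] [CharP F 2] (β : MulAut (symplecticGroup (Fin 2) F))
    {x₀ : symplecticGroup (Fin 2) F} (hx₀ : IsTv x₀) (h₀ : IsTv (β x₀)) : β ∈ tvPres F :=
  fun _ hx => isTv_map_of_one (le_refl 2) β hx₀ h₀ hx

theorem isTv_T_e1 : IsTv (T (e1 : I4 → F) 1) := ⟨e1, 1, e1_ne_zero, one_ne_zero, rfl⟩

/-- **the automorphisms preserving the transvections have index at most two** -/
theorem mul_mem_tvPres_of_not_mem [Fintype F] [CharP F 2]
    {α β : MulAut (symplecticGroup (Fin 2) F)} (hα : α ∉ tvPres F) (hβ : β ∉ tvPres F) :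
    α * β ∈ tvPres F := by
  obtain ⟨fr⟩ := exists_frame (F := F) (m := 2) (le_refl 2)
  have ht₀ : IsTv (T (e1 : I4 → F) 1) := isTv_T_e1
  have hα' : ¬ IsTv (α (T (e1 : I4 → F) 1)) := fun h => hα (mem_tvPres_of_one α ht₀ h)
  have hβ' : ¬ IsTv (β (T (e1 : I4 → F) 1)) := fun h => hβ (mem_tvPres_of_one β ht₀ h)
  by_contra hαβ
  have hαβ' : ¬ IsTv (α (β (T (e1 : I4 → F) 1))) := fun h => hαβ (mem_tvPres_of_one (α * β) ht₀ h)
  have c0 : IsC2 (T (e1 : I4 → F) 1) := isC2_of_isTv ht₀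
  rcases fr.isC2_cases (c0.map α) with h1 | ⟨w, hw, g, hg⟩
  · exact hα' h1
  rcases fr.isC2_cases ((c0.map β).map α) with h2 | ⟨w', hw', g', hg'⟩
  · exact hαβ' h2
  obtain ⟨l, hl⟩ := fr.sg_zero_conj hw hw'
  obtain ⟨k, hk⟩ : ∃ k, α k = g' * l * g⁻¹ := ⟨α⁻¹ (g' * l * g⁻¹), MulAut.apply_inv_self _ α _⟩
  have h3 : α (β (T (e1 : I4 → F) 1)) = α (k * T (e1 : I4 → F) 1 * k⁻¹) := by
    rw [map_mul, map_mul, map_inv, hk, hg, hg', ← hl]
    group
  apply hβ'
  rw [α.injective h3]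
  exact ht₀.conj k

theorem phiAut_not_mem_tvPres [Fintype F] [CharP F 2] : phiAut F ∉ tvPres F :=
  fun h => not_isTv_phiAut (h _ isTv_T_e1)

theorem phiAut_sq_mem_tvPres [Fintype F] [CharP F 2] : phiAut F * phiAut F ∈ tvPres F :=
  mul_mem_tvPres_of_not_mem phiAut_not_mem_tvPres phiAut_not_mem_tvPres

theorem conj_mem_tvPres [Fintype F] [CharP F 2] (s : symplecticGroup (Fin 2) F) :
    MulAut.conj s ∈ tvPres F := fun _ hx => hx.conj s

end Cfsg.Agent.Helper8.ExcSp
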