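import Mathlib
import Cfsg.Agent.Helper8.ExcSpD
import Cfsg.Agent.Helper7.FieldAutCard

set_option autoImplicit false
set_option linter.unusedSectionVars false

/-! Automorphisms of `Sp_4(2^f)`: the automorphisms preserving the transvections are semilinear;
the square of the exceptional automorphism is the Frobenius modulo inner automorphisms
(helper8). -/

namespace Cfsg.Agent.Helper8.ExcSp

open Matrix Cfsg Cfsg.Agent.Helper7.Symp Cfsg.Agent.Helper8.SpRoot Cfsg.Agent.Helper8.AutSp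

variable {F : Type*} [Field F]

/-- the automorphisms preserving the transvections are semilinear -/
theorem exists_sa_of_mem_tvPres [Fintype F] [CharP F 2]
    {β : MulAut (symplecticGroup (Fin 2) F)} (hβ : β ∈ tvPres F) :
    ∃ (g : GSp 2 F) (σ : F ≃+* F), β = sa g σ := by
  obtain ⟨g, σ, h⟩ := std_of_isTv_pres (le_refl 2) (pspLift β) β (fun _ => rfl) hβ
  refine ⟨g, σ, ?_⟩
  apply MulEquiv.ext
  intro s
  apply pr_injective_char_two (le_of_lt (by norm_num : 1 < 2))
  have h1 : pr (β s) = pspLift β (pr s) := rfl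
  rw [h1, h]
  rfl

/-- two equal transvections have parallel centres -/
theorem par_of_T_eq {w w' : I4 → F} {c c' : F} (hw : w ≠ 0) (hc : c ≠ 0)
    (h : T w c = T w' c') : ∃ a : F, w = a • w' := by
  obtain ⟨x, hx⟩ := exists_form_ne_zero hw
  have h1 : mt (T w c) *ᵥ x = mt (T w' c') *ᵥ x := by rw [h]
  rw [T_mulVec, T_mulVec] at h1
  have h2 : (c * sympForm 2 F x w) • w = (c' * sympForm 2 F x w') • w' := add_left_cancel h1
  have h3 : c * sympForm 2 F x w ≠ 0 := mul_ne_zero hc hx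
  refine ⟨(c * sympForm 2 F x w)⁻¹ * (c' * sympForm 2 F x w'), ?_⟩
  rw [mul_smul, ← h2, smul_smul, inv_mul_cancel₀ h3, one_smul]

theorem T_inj_right {w : I4 → F} (hw : w ≠ 0) {c d : F} (h : T w c = T w d) : c = d := by
  have h1 : T w (c - d) = 1 := by
    rw [sub_eq_add_neg, ← Cfsg.Agent.Helper8.SpRoot.T_mul, ← Cfsg.Agent.Helper8.SpRoot.T_inv, h,
      mul_inv_cancel]
  have h2 := (Cfsg.Agent.Helper8.SpRoot.T_eq_one_iff hw (c - d)).mp h1
  exact sub_eq_zero.mp h2

/-- **the square of the exceptional automorphism is semilinear with respect to the Frobenius** -/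
theorem exists_phiAut_sq [Fintype F] [CharP F 2] :
    ∃ (g : GSp 2 F) (σ : F ≃+* F), phiAut F * phiAut F = sa g σ ∧ ∀ t : F, σ t = t ^ 2 := by
  obtain ⟨g, σ, h⟩ := exists_sa_of_mem_tvPres (phiAut_sq_mem_tvPres (F := F))
  refine ⟨g, σ, h, ?_⟩
  have key : ∀ t : F, T (sm g σ (e1 : I4 → F)) ((mu g : F)⁻¹ * σ t) = T (e1 : I4 → F) (t ^ 2) := by
    intro t
    rw [← sa_T, ← h, MulAut.mul_apply, phiAut_sq_T_e1]
  have hμ : ((mu g : F)⁻¹) ≠ 0 := inv_ne_zero (mu_ne_zero g)
  have hw : sm g σ (e1 : I4 → F) ≠ 0 := sm_ne_zero g σ e1_ne_zero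
  have k1 := key 1
  rw [map_one, mul_one, one_pow] at k1
  obtain ⟨a, ha⟩ := par_of_T_eq hw hμ k1
  rw [ha] at key
  have key2 : ∀ t : F, (mu g : F)⁻¹ * σ t * a * a = t ^ 2 := by
    intro t
    have := key t
    rw [Cfsg.Agent.Helper8.SpRoot.T_smul] at this
    exact T_inj_right e1_ne_zero this
  have k2 := key2 1
  rw [map_one, mul_one, one_pow] at k2
  intro t
  have := key2 t
  calc σ t = ((mu g : F)⁻¹ * a * a) * σ t := by rw [k2, one_mul]
    _ = (mu g : F)⁻¹ * σ t * a * a := by ring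
    _ = t ^ 2 := this

/-- the Frobenius generates the automorphism group of a finite field of characteristic two -/
theorem frob_zpowers [Fintype F] [CharP F 2] {σ : F ≃+* F} (hσ : ∀ t : F, σ t = t ^ 2)
    (τ : F ≃+* F) : τ ∈ Subgroup.zpowers σ := by
  apply mem_zpowers_of_fixes
  intro c hc
  rw [hσ] at hc
  have h1 : c * (c - 1) = 0 := by linear_combination hc
  rcases mul_eq_zero.mp h1 with h2 | h2
  · rw [h2, map_zero]
  · rw [sub_eq_zero.mp h2, map_one]

theorem orderOf_frob [Fintype F] [CharP F 2] {f : ℕ} (hF : Fintype.card F = 2 ^ f)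
    {σ : F ≃+* F} (hσ : ∀ t : F, σ t = t ^ 2) : orderOf σ = f := by
  have : Fact (Nat.Prime 2) := ⟨Nat.prime_two⟩
  rw [orderOf_eq_card_of_forall_mem_zpowers (frob_zpowers hσ)]
  exact Cfsg.Agent.Helper7.FieldAutCard.card_ringAut 2 f hF

end Cfsg.Agent.Helper8.ExcSp
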