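import Mathlib
import Cfsg.Agent.Helper8.AutOza
import Cfsg.Agent.Helper8.AutOzb
import Cfsg.Agent.Helper8.AutOy
import Cfsg.Agent.Helper8.ExcSpE
import Cfsg.Agent.Helper8.OmegaEven

set_option autoImplicit false
set_option linter.unusedSectionVars false
set_option linter.style.haveILetI false

/-!
# Automorphisms of orthogonal groups, part zc: the outer automorphism group of the minus-type
groups in characteristic two
-/

namespace Cfsg.Agent.Helper8.AutO

open Module Matrix Cfsg.Agent.Helper8.QuadForm Cfsg.Agent.Helper8.WittQuad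
  Cfsg.Agent.Helper8.OrthOrder
  Cfsg.Agent.Helper8.Siegel Cfsg.Agent.Helper8.SiegelGeom Cfsg.Agent.Helper8.SiegelGroup
  Cfsg.Agent.Helper8.SiegelPrim Cfsg.Agent.Helper8.SiegelSimple Cfsg.Agent.Helper8.ReflMatrix
  Cfsg.Agent.Helper8.OmegaSimple Cfsg.Agent.Helper8.AutImagePsi Cfsg.Agent.Helper8.AutImageOrth
  Cfsg.Agent.Helper8.StdForms Cfsg.Agent.Helper8.Reflections Cfsg.Agent.Helper8.Dickson

variable {F : Type*} [Field F] [Fintype F] (k : ℕ) (a b : F)

/-- the iterates of the Frobenius semilinear map. -/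
theorem iterate_minusSemi (h2 : (2 : F) = 0) (ha : a ≠ 0) (σ : F ≃+* F)
    (hσ : ∀ t : F, σ t = t ^ 2) (n : ℕ) (v : (Fin k ⊕ Fin k) ⊕ Fin 2 → F) :
    (minusSemi k σ b a)^[n] v = Sum.elim (fun i => (v (Sum.inl i)) ^ (2 ^ n))
      ![(v (Sum.inr 0)) ^ (2 ^ n)
          + a ^ (2 ^ n) * trSum (b / a ^ 2) n * (v (Sum.inr 1)) ^ (2 ^ n),
        a ^ (2 ^ n) / a * (v (Sum.inr 1)) ^ (2 ^ n)] := by
  induction n with
  | zero =>
    rw [Function.iterate_zero, id_eq]
    funext j
    rcases j with i | j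
    · simp
    · fin_cases j
      · simp [trSum_zero]
      · simp [ha]
  | succ n ih =>
    rw [Function.iterate_succ_apply', ih]
    funext j
    rcases j with i | j
    · simp only [minusSemi, Sum.elim_inl, hσ]
      rw [← pow_mul, ← pow_succ]
    · fin_cases j
      · simp only [minusSemi, Sum.elim_inr, Sum.elim_inl, Matrix.cons_val_zero,
          Matrix.cons_val_one, hσ, Fin.zero_eta, Fin.isValue]
        rw [trSum_succ h2, pow_succ 2 n, pow_mul, pow_mul, pow_mul]
        field_simp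
        linear_combination (v (Sum.inr 0) ^ 2 ^ n * a ^ 2 ^ n * trSum (b / a ^ 2) n
          * v (Sum.inr 1) ^ 2 ^ n * a ^ 2) * h2
      · simp only [minusSemi, Sum.elim_inr, Matrix.cons_val_one, hσ, Fin.mk_one, Fin.isValue,
          Matrix.cons_val_zero]
        rw [pow_succ 2 n, pow_mul, pow_mul]
        field_simp

variable {a b}

theorem a_ne_zero_of_aniso (h2 : (2 : F) = 0)
    (hab : ∀ z₁ z₂ : F, z₁ ^ 2 + a * z₁ * z₂ + b * z₂ ^ 2 = 0 → z₁ = 0 ∧ z₂ = 0) : a ≠ 0 := by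
  have hchar : ringChar F = 2 := by
    have : CharP F 2 := CharTwo.of_one_ne_zero_of_two_eq_zero one_ne_zero h2
    exact ringChar.eq F 2
  rintro rfl
  obtain ⟨s, hs⟩ := FiniteField.isSquare_of_char_two hchar b
  have := (hab s 1 (by rw [hs]; linear_combination (s * s) * h2)).2
  exact one_ne_zero this

theorem not_wp_of_aniso (h2 : (2 : F) = 0)
    (hab : ∀ z₁ z₂ : F, z₁ ^ 2 + a * z₁ * z₂ + b * z₂ ^ 2 = 0 → z₁ = 0 ∧ z₂ = 0) (t : F) :
    t * t + t ≠ b / a ^ 2 := by
  have ha0 := a_ne_zero_of_aniso h2 hab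
  intro hs
  have := (hab t a⁻¹ (by
    have e1 : t ^ 2 + a * t * a⁻¹ + b * a⁻¹ ^ 2 = t * t + t + b / a ^ 2 := by
      field_simp
    rw [e1, hs]
    linear_combination (b / a ^ 2) * h2)).2
  exact inv_ne_zero ha0 this

variable (a b)

/-- the `f`-th iterate of the Frobenius semilinear map is a reflection. -/
theorem iterate_minusSemi_card (h2 : (2 : F) = 0)
    (hab : ∀ z₁ z₂ : F, z₁ ^ 2 + a * z₁ * z₂ + b * z₂ ^ 2 = 0 → z₁ = 0 ∧ z₂ = 0)
    (σ : F ≃+* F) (hσ : ∀ t : F, σ t = t ^ 2) {f : ℕ} (hF : Fintype.card F = 2 ^ f)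
    (hf : 1 ≤ f) (v : (Fin k ⊕ Fin k) ⊕ Fin 2 → F) :
    (minusSemi k σ b a)^[f] v = refl (minusForm F k a b) (Pi.single (Sum.inr 0) 1) v := by
  have ha0 := a_ne_zero_of_aniso h2 hab
  have hq : ∀ y : F, y ^ (2 ^ f) = y := fun y => by rw [← hF]; exact FiniteField.pow_card y
  rw [iterate_minusSemi k a b h2 ha0 σ hσ, trSum_eq_one h2 hF hf (not_wp_of_aniso h2 hab),
    refl_apply, polar_minusForm, minusForm_apply]
  have hQx : Cfsg.quadFormMinus k F a b (Pi.single (Sum.inr 0) 1) = 1 := by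
    unfold Cfsg.quadFormMinus
    simp
  rw [hQx, div_one]
  funext j
  rcases j with i | j
  · simp [hq]
  · fin_cases j
    · simp [hq]
      linear_combination (v (Sum.inr 0) + a * v (Sum.inr 1)) * h2
    · simp [hq, ha0]

section Pow

variable {K : Type*} [Field K] {V : Type*} [AddCommGroup V] [Module K V] {Q : QuadraticForm K V}

theorem gap_pow (γ : ↥(GammaO Q)) (n : ℕ) (v : V) : gap (γ ^ n) v = (gap γ)^[n] v := by
  induction n with
  | zero => rw [pow_zero, gap_one, Function.iterate_zero, id_eq]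
  | succ n ih => rw [pow_succ', gap_mul, ih, Function.iterate_succ_apply']

end Pow

/-- **the outer automorphism group of `PΩ⁻_{2k+2}(2^f)`, `k ≥ 3`, is cyclic of order `2f`.** -/
theorem out_POmega_minus_even (h2 : (2 : F) = 0) {f : ℕ} (hF : Fintype.card F = 2 ^ f)
    (hf : 1 ≤ f) {k : ℕ} (hk : 3 ≤ k) (a b : F)
    (hab : ∀ z₁ z₂ : F, z₁ ^ 2 + a * z₁ * z₂ + b * z₂ ^ 2 = 0 → z₁ = 0 ∧ z₂ = 0) :
    IsCyclic (Cfsg.Out (Cfsg.POmega F (Cfsg.quadFormMinus k F a b))) ∧
      Nat.card (Cfsg.Out (Cfsg.POmega F (Cfsg.quadFormMinus k F a b))) = 2 * f := by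
  have hchar : CharP F 2 := CharTwo.of_one_ne_zero_of_two_eq_zero one_ne_zero h2
  have hp2 : Fact (Nat.Prime 2) := ⟨Nat.prime_two⟩
  have e : ⇑(minusForm F k a b) = Cfsg.quadFormMinus k F a b := funext (minusForm_apply F k a b)
  have hcard : Fintype.card ((Fin k ⊕ Fin k) ⊕ Fin 2) = 2 * k + 2 := by
    simp only [Fintype.card_sum, Fintype.card_fin]; ring
  haveI : Nonempty ((Fin k ⊕ Fin k) ⊕ Fin 2) := ⟨Sum.inr 0⟩
  obtain ⟨Q, hQdef⟩ : ∃ Q, Q = minusForm F k a b := ⟨_, rfl⟩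
  have hQ : (QuadraticMap.polarBilin Q).Nondegenerate := by
    rw [hQdef]; exact minusForm_nondeg F k hab
  have hQ' : Nondeg Q := (nondeg_iff Q).mp hQ
  have hdim : finrank F ((Fin k ⊕ Fin k) ⊕ Fin 2 → F) = 2 * k + 2 := by
    rw [Module.finrank_fintype_fun_eq_card, hcard]
  have hB2 : 9 ≤ finrank F ((Fin k ⊕ Fin k) ⊕ Fin 2 → F) ∨ NoB2 Q := by
    by_cases h4 : 4 ≤ k
    · left; rw [hdim]; omega
    · right
      obtain rfl : k = 3 := by omega
      rw [hQdef]
      exact noB2_minus hab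
  have hsurj : Function.Surjective (Psi (Q := Q)) :=
    Psi_surjective hQ' (by rw [hdim]; omega) 2 hB2
  have hker : (Psi (Q := Q)).ker ≤ (tau (Q := Q)).ker := by
    rw [ker_Psi hQ' (by rw [hdim]; omega) 2]
    rintro _ ⟨c, rfl⟩
    exact MonoidHom.mem_ker.mpr (tau_scalarGamma c)
  obtain ⟨E, -⟩ : ∃ E : Cfsg.POmega F ⇑Q ≃* PG Q, True :=
    ⟨Cfsg.Agent.Helper8.SL2HermOmega.quotCenterEquiv (omegaEquiv Q hQ (by rw [hcard]; omega)),
      trivial⟩
  haveI : Finite ((Fin k ⊕ Fin k) ⊕ Fin 2 → F) := Module.finite_of_finite F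
  haveI : Finite ↥(SG Q) := Finite.of_injective
    (fun h => (ap h : ((Fin k ⊕ Fin k) ⊕ Fin 2 → F) → ((Fin k ⊕ Fin k) ⊕ Fin 2 → F)))
    (fun a b hab => ext_ap (fun x => congrFun hab x))
  -- the order of the outer automorphism group
  have hcardOut : Nat.card (Cfsg.Out (PG Q)) = 2 * f := by
    have h1 := card_aut_POmega_minus hk a b hab
    rw [← e, ← hQdef, Cfsg.Agent.Helper7.FieldAutCard.card_ringAut 2 f hF] at h1
    have h3 := Cfsg.Agent.Helper8.POmegaCard.card_pomega_even Q h2 hQ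
      (by rw [hcard]; omega) (Or.inr (by rw [hcard]; omega))
    rw [← h3, Nat.card_congr (MulAut.congr E).toEquiv, Nat.card_congr E.toEquiv] at h1
    have h4 := Subgroup.card_eq_card_quotient_mul_card_subgroup (Cfsg.Inn (PG Q))
    have hcen : Subgroup.center (PG Q) = ⊥ :=
      center_quot_center_eq_bot (commutator_SG_eq_top Q hQ' (by rw [hdim]; omega))
    rw [card_Inn_of_center_eq_bot hcen, h1] at h4
    have hpos : 0 < Nat.card (PG Q) := Nat.card_pos
    apply Nat.eq_of_mul_eq_mul_right hpos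
    rw [← h4]
    ring
  haveI : Finite (Cfsg.Out (PG Q)) := by
    apply Nat.finite_of_card_ne_zero
    rw [hcardOut]
    omega
  -- the Frobenius semilinear map
  obtain ⟨σ, hσ⟩ : ∃ σ : F ≃+* F, ∀ t : F, σ t = t ^ 2 :=
    ⟨frobeniusEquiv F 2, fun t => frobeniusEquiv_apply F 2 t⟩
  have hσord : orderOf σ = f := Cfsg.Agent.Helper8.ExcSp.orderOf_frob hF hσ
  have hs1 : 2 * b + a * a = σ a := by rw [hσ, h2]; ring
  have hs2 : b ^ 2 + a * b * a + b * a ^ 2 = σ b := by
    rw [hσ]; linear_combination (a ^ 2 * b) * h2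
  have hsemi : SemiSim Q (minusSemi k σ b a) σ 1 := by
    rw [hQdef]; exact semiSim_minusSemi k a b hab σ hs1 hs2
  obtain ⟨γ, hγ⟩ : ∃ γ : ↥(GammaO Q), γ = mkGamma hsemi := ⟨_, rfl⟩
  have hγgap : ∀ v, gap γ v = minusSemi k σ b a v := fun v => by rw [hγ, gap_mkGamma]
  have hγtau : tau γ = σ := by rw [hγ]; exact tau_eq hsemi
  obtain ⟨x₀, hx₀⟩ : ∃ x₀ : Cfsg.Out (PG Q), x₀ = QuotientGroup.mk (Psi γ) := ⟨_, rfl⟩
  have hx₀tau : tauOut hsurj hker x₀ = σ := by rw [hx₀, tauOut_mk, hγtau]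
  -- the `f`-th power is not inner
  have hnot : x₀ ^ f ≠ 1 := by
    intro h1
    rw [hx₀, ← QuotientGroup.mk_pow, ← map_pow, QuotientGroup.eq_one_iff] at h1
    obtain ⟨y, hy⟩ := h1
    obtain ⟨h, rfl⟩ := pr_surjective y
    have h3 : Psi ((sgGamma h)⁻¹ * γ ^ f) = 1 := by
      rw [map_mul, map_inv, Psi_sgGamma, ← hy]
      exact inv_mul_cancel _
    obtain ⟨c, hc⟩ := exists_scalar_of_Psi_eq_one hQ' (by rw [hdim]; omega) 2 h3
    have h4 : γ ^ f = sgGamma h * scalarGamma c := by rw [← hc, mul_inv_cancel_left]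
    have h5 : ∀ v, refl Q (Pi.single (Sum.inr 0) 1) v = (c : F) • ap h v := by
      intro v
      have := congrArg (fun δ => gap δ v) h4
      simp only [gap_mul, gap_sgGamma, gap_scalarGamma, gap_pow, map_smul] at this
      rw [← this]
      have h6 : gap γ = minusSemi k σ b a := funext hγgap
      rw [h6, hQdef]
      exact (iterate_minusSemi_card k a b h2 hab σ hσ hF hf v).symm
    have hc1 : (c : F) = 1 := by
      obtain ⟨v, hv⟩ : ∃ v, Q v ≠ 0 := by
        rw [hQdef]; exact Cfsg.Agent.S2726.minus_ne (by omega) a b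
      have h6 := congrArg Q (h5 v)
      rw [refl_mem Q _ v, QuadraticMap.map_smul, Q_ap, smul_eq_mul] at h6
      have h7 : (c : F) * c = 1 := by
        have : ((c : F) * c - 1) * Q v = 0 := by linear_combination -h6
        rcases mul_eq_zero.mp this with h | h
        · exact sub_eq_zero.mp h
        · exact absurd h hv
      have h8 : ((c : F) - 1) * ((c : F) - 1) = 0 := by
        linear_combination h7 + (1 - (c : F)) * h2
      exact sub_eq_zero.mp (mul_self_eq_zero.mp h8)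
    have h7 : (⟨refl Q (Pi.single (Sum.inr 0) 1), refl_mem Q _⟩ : ↥(Isom Q)) = (h : ↥(Isom Q)) := by
      apply Subtype.ext
      apply LinearEquiv.ext
      intro v
      have := h5 v
      rw [hc1, one_smul] at this
      exact this
    have hcomm : commutator ↥(Isom Q) = SG Q :=
      commutator_eq_SG Q hQ' (by rw [hdim]; omega) (closure_reflG Q hQ (by rw [hcard]; omega))
    have h8 : (⟨refl Q (Pi.single (Sum.inr 0) 1), refl_mem Q _⟩ : ↥(Isom Q))
        ∈ (dickson h2 Q hQ).ker := by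
      apply Abelianization.commutator_subset_ker
      rw [hcomm, h7]
      exact h.2
    have hQx : Q (Pi.single (Sum.inr 0) 1) ≠ 0 := by
      rw [hQdef, minusForm_apply]
      unfold Cfsg.quadFormMinus
      simp
    rw [MonoidHom.mem_ker, dickson_refl h2 Q hQ hQx] at h8
    exact absurd h8 (by decide)
  -- the order of the class of the Frobenius map
  have hox : orderOf x₀ = 2 * f := by
    have h1 : orderOf x₀ ∣ 2 * f := by
      rw [← hcardOut]
      exact orderOf_dvd_natCard x₀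
    have h3 : f ∣ orderOf x₀ := by
      have := orderOf_map_dvd (tauOut hsurj hker) x₀
      rwa [hx₀tau, hσord] at this
    obtain ⟨j, hj⟩ := h3
    have hj2 : j ∣ 2 := by
      rw [hj, mul_comm 2 f] at h1
      exact Nat.dvd_of_mul_dvd_mul_left (by omega) h1
    rcases (Nat.dvd_prime Nat.prime_two).mp hj2 with h | h
    · exfalso
      apply hnot
      have := pow_orderOf_eq_one x₀
      rwa [hj, h, mul_one] at this
    · rw [hj, h, mul_comm]
  have hcyc : IsCyclic (Cfsg.Out (PG Q)) :=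
    isCyclic_of_orderOf_eq_card x₀ (by rw [hox, hcardOut])
  rw [← e, ← hQdef]
  exact ⟨(outCongr E).isCyclic.mpr hcyc, by rw [Nat.card_congr (outCongr E).toEquiv, hcardOut]⟩

end Cfsg.Agent.Helper8.AutO
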