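import Mathlib
import Cfsg.Agent.Helper8.AutOzd
import Cfsg.Agent.Helper8.AutOzc
import Cfsg.Agent.Helper8.AutOze
import Cfsg.Agent.Helper8.AutSLnV

set_option autoImplicit false
set_option linter.unusedSectionVars false
set_option linter.style.haveILetI false

/-!
# Automorphisms of orthogonal groups, part zf: the elements of prime order in the coset of a
field automorphism of `Ω_{2m+1}(q)`, `q` odd
-/

namespace Cfsg.Agent.Helper8.AutO

open Module Matrix Cfsg.Agent.Helper8.QuadForm Cfsg.Agent.Helper8.WittQuad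
  Cfsg.Agent.Helper8.OrthOrder
  Cfsg.Agent.Helper8.Siegel Cfsg.Agent.Helper8.SiegelGeom Cfsg.Agent.Helper8.SiegelGroup
  Cfsg.Agent.Helper8.SiegelPrim Cfsg.Agent.Helper8.SiegelSimple Cfsg.Agent.Helper8.ReflMatrix
  Cfsg.Agent.Helper8.OmegaSimple Cfsg.Agent.Helper8.AutImagePsi Cfsg.Agent.Helper8.AutImageOrth
  Cfsg.Agent.Helper8.StdForms Cfsg.Agent.Helper8.AutImage
open Cfsg.Agent.Helper8.AutSLn (gls nrmGL nrmF unitsAut fixField)

variable {F : Type*} [Field F] [Fintype F] {ι : Type} [Fintype ι] [DecidableEq ι]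
  (Q : QuadraticForm F (ι → F))

/-- **the field-automorphism case**: an element of the coset of a standard field automorphism
whose `r`-th power is trivial is conjugate to it under the conformal group. -/
theorem field_case_POmega_odd [Nontrivial (ι → F)]
    (hQ : (QuadraticMap.polarBilin Q).Nondegenerate) (h5 : 5 ≤ Fintype.card ι) {m : ℕ}
    (hcard : Fintype.card ι = 2 * m + 1)
    (hσ : ∀ (σ : F ≃+* F) (v : ι → F), Q (fun i => σ (v i)) = σ (Q v))
    (p : ℕ) [Fact p.Prime] [CharP F p]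
    (σ : F ≃+* F) {r : ℕ} (hr : 0 < r) (hσr : σ ^ r = 1)
    (hinj : ∀ i j : Fin r, σ ^ (i : ℕ) = σ ^ (j : ℕ) → i = j)
    (g : ↥(Cfsg.Geo.quadSimilarityGroup (F := F) ⇑Q))
    (hy : (PsiM Q hQ h5 (simGamma Q g) * poField Q hQ h5 hσ σ) ^ r = 1) :
    ∃ u : ↥(Cfsg.Geo.quadSimilarityGroup (F := F) ⇑Q),
      PsiM Q hQ h5 (simGamma Q g) * poField Q hQ h5 hσ σ =
        PsiM Q hQ h5 (simGamma Q u) * poField Q hQ h5 hσ σ * (PsiM Q hQ h5 (simGamma Q u))⁻¹ := by
  have hne : Nonempty ι := by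
    rw [← Fintype.card_pos_iff]
    omega
  have hdim : finrank F (ι → F) = Fintype.card ι := Module.finrank_fintype_fun_eq_card F
  have hQ' : Nondeg Q := (nondeg_iff Q).mp hQ
  have hkerP : (PsiM Q hQ h5).ker = (scalarGamma (Q := Q)).range := by
    rw [ker_PsiM, ker_Psi hQ' (by rw [hdim]; exact h5) p]
  obtain ⟨γ, hγ⟩ : ∃ γ : ↥(GammaO Q), γ = simGamma Q g * fieldGamma Q hσ σ := ⟨_, rfl⟩
  have hPγ : PsiM Q hQ h5 γ = PsiM Q hQ h5 (simGamma Q g) * poField Q hQ h5 hσ σ := by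
    rw [hγ, map_mul]
    rfl
  have hker : γ ^ r ∈ (PsiM Q hQ h5).ker := by
    rw [MonoidHom.mem_ker, map_pow, hPγ]
    exact hy
  rw [hkerP] at hker
  obtain ⟨μ, hμ⟩ := hker
  have hgapγ : ∀ v, gap γ v = ((g : GL ι F) : Matrix ι ι F) *ᵥ (σ ∘ v) := by
    intro v
    rw [hγ, gap_mul, gap_simGamma, gap_fieldGamma]
    rfl
  have hN : nrmGL σ (g : GL ι F) r = Matrix.GeneralLinearGroup.scalar ι μ := by
    apply Units.ext
    apply Matrix.toLin'.injective
    apply LinearMap.ext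
    intro v
    have h1 := gap_pow γ r v
    rw [← hμ, gap_scalarGamma] at h1
    have h2 : gap γ = fun w => ((g : GL ι F) : Matrix ι ι F) *ᵥ (σ ∘ w) := funext hgapγ
    rw [h2, Cfsg.Agent.Helper8.AutSLn.iterate_semilinear, hσr] at h1
    rw [Matrix.toLin'_apply, Matrix.toLin'_apply, Matrix.GeneralLinearGroup.coe_scalar,
      Matrix.scalar_apply, ← Matrix.smul_one_eq_diagonal, Matrix.smul_mulVec, Matrix.one_mulVec, h1]
    rfl
  have h2 : unitsAut σ μ = μ := by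
    have e1 := Cfsg.Agent.Helper8.AutSLn.nrmGL_succ σ (g : GL ι F) r
    have e2 := Cfsg.Agent.Helper8.AutSLn.nrmGL_succ' σ (g : GL ι F) r
    have e3 : gls (1 : F ≃+* F) (g : GL ι F) = g := by
      apply Units.ext
      ext i j
      rfl
    rw [hσr, e3, e1, hN, Cfsg.Agent.Helper8.AutSLn.gls_scalar,
      Matrix.GeneralLinearGroup.scalar_commute μ (g : GL ι F)] at e2
    exact Cfsg.Agent.Helper8.AutSLn.scalar_injective (mul_left_cancel e2)
  obtain ⟨c, hc⟩ := Cfsg.Agent.Helper8.AutSLn.exists_nrmF_eq σ hr hσr hinj μ h2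
  -- the corrected element
  obtain ⟨g', hg'⟩ : ∃ g' : GL ι F, g' = Matrix.GeneralLinearGroup.scalar ι c⁻¹ * (g : GL ι F) :=
    ⟨_, rfl⟩
  have hg'mem : g' ∈ Cfsg.Geo.quadSimilarityGroup (F := F) ⇑Q := by
    rw [hg']
    exact Subgroup.mul_mem _ (scalarGO Q c⁻¹).2 g.2
  have hN' : nrmGL σ g' r = 1 := by
    rw [hg', Cfsg.Agent.Helper8.AutSLn.nrmGL_scalar_mul, Cfsg.Agent.Helper8.AutSLn.nrmF_inv, hc,
      hN, ← map_mul, inv_mul_cancel, map_one]
  obtain ⟨u, hu, e⟩ := hilbert90_sim σ hr hσr hinj Q hQ' hcard (hσ σ) g' hg'mem hN'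
  refine ⟨⟨u, hu⟩, ?_⟩
  have hfinal : γ = scalarGamma c *
      (simGamma Q ⟨u, hu⟩ * fieldGamma Q hσ σ * (simGamma Q ⟨u, hu⟩)⁻¹) := by
    apply ext_gap
    intro v
    rw [hgapγ, gap_mul, gap_scalarGamma, gap_mul, gap_mul, gap_simGamma, gap_fieldGamma,
      ← map_inv, gap_simGamma]
    have e1 : (g : GL ι F) = Matrix.GeneralLinearGroup.scalar ι c * (u * gls σ u⁻¹) := by
      rw [map_inv, ← e, hg', ← mul_assoc, ← map_mul, mul_inv_cancel, map_one, one_mul]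
    rw [e1, Units.val_mul, Units.val_mul, Matrix.GeneralLinearGroup.coe_scalar,
      Matrix.scalar_apply, ← Matrix.smul_one_eq_diagonal, Matrix.smul_mul, Matrix.one_mul,
      Matrix.smul_mulVec, ← Matrix.mulVec_mulVec]
    congr 2
    exact Cfsg.Agent.Helper8.AutSLn.map_mulVec_comp σ _ v
  have hsc : PsiM Q hQ h5 (scalarGamma c) = 1 := by
    rw [← MonoidHom.mem_ker, hkerP]
    exact ⟨c, rfl⟩
  rw [← hPγ, hfinal, map_mul, hsc, one_mul, map_mul, map_mul, map_inv]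
  rfl

/-- **the elements of prime order in the coset of a field automorphism of `PΩ(Q)`, odd
dimension.** -/
theorem coset_conj_POmega_odd [Nontrivial (ι → F)]
    (hQ : (QuadraticMap.polarBilin Q).Nondegenerate) (h7 : 7 ≤ Fintype.card ι) {m : ℕ}
    (hcard : Fintype.card ι = 2 * m + 1) (hB2 : 9 ≤ Fintype.card ι ∨ NoB2 Q)
    (hσ : ∀ (σ : F ≃+* F) (v : ι → F), Q (fun i => σ (v i)) = σ (Q v))
    (x δ : MulAut (Cfsg.POmega F ⇑Q)) (hx : Cfsg.IsFieldAutClassPOmega ⇑Q x) {r : ℕ}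
    (hr : r.Prime) (hxr : orderOf x = r) (hδ : δ ∈ Cfsg.pgoAut F ⇑Q) :
    orderOf (δ * x) = r ↔ Cfsg.IsConjUnder (Cfsg.pgoAut F ⇑Q) x (δ * x) := by
  obtain ⟨p, hp, hc⟩ := exists_char F
  have h5 : 5 ≤ Fintype.card ι := by omega
  have hdim : finrank F (ι → F) = Fintype.card ι := Module.finrank_fintype_fun_eq_card F
  have hQ' : Nondeg Q := (nondeg_iff Q).mp hQ
  have hsurj : Function.Surjective (Psi (Q := Q)) :=
    Psi_surjective hQ' (by rw [hdim]; exact h7) p (by rw [hdim]; exact hB2)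
  constructor
  · intro hord
    have hnormal := pgoAut_normal Q hQ h5 hsurj
    obtain ⟨α, φ, σ, -, hφ, hα⟩ := hx
    have e := eq_poField_of_isFieldAut Q hQ h5 hσ hφ
    have hσo : orderOf σ = r := by
      rw [← orderOf_injective _ (poField_injective Q hQ h5 hσ p) σ, ← e, ← hα, ← hxr]
      exact MulEquiv.orderOf_eq (MulAut.conj α) x
    refine Cfsg.Agent.Helper8.AutSLn.conj_reduce _ α x δ _ (hα.trans e) hδ ?_ hord
    intro δ' hδ' ho
    rw [pgoAut_eq_map Q hQ h5] at hδ'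
    obtain ⟨_, ⟨g, rfl⟩, rfl⟩ := hδ'
    have hσr : σ ^ r = 1 := by rw [← hσo, pow_orderOf_eq_one]
    have hinj : ∀ i j : Fin r, σ ^ (i : ℕ) = σ ^ (j : ℕ) → i = j := by
      intro i j e
      apply Fin.ext
      apply pow_injOn_Iio_orderOf (x := σ) _ _ e
      · rw [hσo]
        exact i.2
      · rw [hσo]
        exact j.2
    have hy : (PsiM Q hQ h5 (simGamma Q g) * poField Q hQ h5 hσ σ) ^ r = 1 := by
      rw [← ho, pow_orderOf_eq_one]
    obtain ⟨u, hu⟩ := field_case_POmega_odd Q hQ h5 hcard hσ p σ hr.pos hσr hinj g hy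
    refine ⟨PsiM Q hQ h5 (simGamma Q u), ?_, hu⟩
    rw [pgoAut_eq_map Q hQ h5]
    exact ⟨_, ⟨u, rfl⟩, rfl⟩
  · rintro ⟨h, _, e⟩
    rw [e, ← hxr]
    exact MulEquiv.orderOf_eq (MulAut.conj h) x

end Cfsg.Agent.Helper8.AutO
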