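import Mathlib
import Cfsg.Agent.Helper8.AutOzf
import Cfsg.Agent.Helper8.OmegaCrit

set_option autoImplicit false
set_option linter.unusedSectionVars false
set_option linter.style.haveILetI false

/-!
# Automorphisms of orthogonal groups, part zg: base change of similarities and isometries along a
field embedding
-/

namespace Cfsg.Agent.Helper8.AutO

open Module Matrix Cfsg.Agent.Helper8.QuadForm Cfsg.Agent.Helper8.Reflections
  Cfsg.Agent.Helper8.ReflMatrix Cfsg.Agent.Helper8.AutImageOrth

variable {F₀ : Type*} {F : Type*} [Field F₀] [Field F] (j : F₀ →+* F)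
  {ι : Type} [Fintype ι] [DecidableEq ι]

/-- the base change of a vector. -/
def hvec (v : ι → F₀) : ι → F := fun i => j (v i)

theorem hvec_add (v w : ι → F₀) : hvec j (v + w) = hvec j v + hvec j w := by
  funext i
  exact map_add j _ _

theorem hvec_sub (v w : ι → F₀) : hvec j (v - w) = hvec j v - hvec j w := by
  funext i
  exact map_sub j _ _

theorem hvec_smul (a : F₀) (v : ι → F₀) : hvec j (a • v) = j a • hvec j v := by
  funext i
  exact map_mul j _ _

theorem hvec_single (i : ι) : hvec j (Pi.single i (1 : F₀)) = Pi.single i (1 : F) := by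
  funext k
  unfold hvec
  by_cases h : k = i
  · subst h
    rw [Pi.single_eq_same, Pi.single_eq_same, map_one]
  · rw [Pi.single_eq_of_ne h, Pi.single_eq_of_ne h, map_zero]

theorem hvec_injective : Function.Injective (hvec j (ι := ι)) := by
  intro v w h
  funext i
  exact j.injective (congrFun h i)

theorem map_mulVec_hvec (A : Matrix ι ι F₀) (v : ι → F₀) :
    A.map j *ᵥ hvec j v = hvec j (A *ᵥ v) := by
  funext i
  exact (RingHom.map_mulVec j A v i).symm

/-- two matrices agreeing on the base-changed vectors are equal. -/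
theorem matrix_ext_hvec {M N : Matrix ι ι F}
    (h : ∀ v : ι → F₀, M *ᵥ hvec j v = N *ᵥ hvec j v) : M = N := by
  ext i k
  have h1 := congrFun (h (Pi.single k 1)) i
  rw [hvec_single, Matrix.mulVec_single_one, Matrix.mulVec_single_one] at h1
  exact h1

/-- two quadratic forms agreeing on the base-changed vectors are equal. -/
theorem eq_of_hvec (Q₁ Q₂ : QuadraticForm F (ι → F))
    (h : ∀ v : ι → F₀, Q₁ (hvec j v) = Q₂ (hvec j v)) : Q₁ = Q₂ := by
  apply eq_of_basis (Pi.basisFun F ι)
  · intro i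
    rw [Pi.basisFun_apply, ← hvec_single j i, h]
  · intro i k
    rw [Pi.basisFun_apply, Pi.basisFun_apply, ← hvec_single j i, ← hvec_single j k]
    unfold QuadraticMap.polar
    rw [← hvec_add, h, h, h]

variable (Q₀ : QuadraticForm F₀ (ι → F₀)) (Q : QuadraticForm F (ι → F))
  (hj : ∀ v : ι → F₀, Q (hvec j v) = j (Q₀ v))

include hj in
theorem polar_hvec (v w : ι → F₀) :
    QuadraticMap.polar Q (hvec j v) (hvec j w) = j (QuadraticMap.polar Q₀ v w) := by
  unfold QuadraticMap.polar
  rw [← hvec_add, hj, hj, hj, map_sub, map_sub]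

include hj in
/-- base change of a similarity. -/
theorem similarity_map (g : GL ι F₀) (c : F₀)
    (hg : ∀ v, Q₀ ((g : Matrix ι ι F₀) *ᵥ v) = c * Q₀ v) (w : ι → F) :
    Q ((Matrix.GeneralLinearGroup.map j g : Matrix ι ι F) *ᵥ w) = j c * Q w := by
  have h3 : Q.comp (Matrix.toLin' ((g : Matrix ι ι F₀).map j)) = (j c) • Q := by
    apply eq_of_hvec j
    intro v
    rw [QuadraticMap.comp_apply, Matrix.toLin'_apply, map_mulVec_hvec, hj, hg, map_mul,
      _root_.smul_apply, smul_eq_mul, hj]
  have h4 := congrArg (fun q : QuadraticForm F (ι → F) => q w) h3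
  simpa [QuadraticMap.comp_apply, Matrix.toLin'_apply] using h4

/-- base change of the similarity group. -/
def simMap : ↥(Cfsg.Geo.quadSimilarityGroup (F := F₀) ⇑Q₀) →*
    ↥(Cfsg.Geo.quadSimilarityGroup (F := F) ⇑Q) where
  toFun g := ⟨Matrix.GeneralLinearGroup.map j (g : GL ι F₀), by
    obtain ⟨c, hc⟩ := g.2
    exact ⟨Units.map (j : F₀ →* F) c, fun w => similarity_map j Q₀ Q hj _ _ hc w⟩⟩
  map_one' := by
    apply Subtype.ext
    exact map_one _
  map_mul' a b := by
    apply Subtype.ext
    exact map_mul _ _ _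

theorem coe_simMap (g : ↥(Cfsg.Geo.quadSimilarityGroup (F := F₀) ⇑Q₀)) :
    ((simMap j Q₀ Q hj g : ↥(Cfsg.Geo.quadSimilarityGroup (F := F) ⇑Q)) : GL ι F) =
      Matrix.GeneralLinearGroup.map j (g : GL ι F₀) := rfl

/-- base change of the isometry group. -/
def isoMap : ↥(Cfsg.isometryGroup F₀ ⇑Q₀) →* ↥(Cfsg.isometryGroup F ⇑Q) where
  toFun g := ⟨Matrix.GeneralLinearGroup.map j (g : GL ι F₀), by
    rw [mem_isometryGroup_iff']
    intro w
    have h1 := similarity_map j Q₀ Q hj (g : GL ι F₀) 1 (fun v => by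
      rw [one_mul]
      exact (mem_isometryGroup_iff' ⇑Q₀ _).mp g.2 v) w
    rw [map_one, one_mul] at h1
    exact h1⟩
  map_one' := by
    apply Subtype.ext
    exact map_one _
  map_mul' a b := by
    apply Subtype.ext
    exact map_mul _ _ _

theorem coe_isoMap (g : ↥(Cfsg.isometryGroup F₀ ⇑Q₀)) :
    ((isoMap j Q₀ Q hj g : ↥(Cfsg.isometryGroup F ⇑Q)) : GL ι F) =
      Matrix.GeneralLinearGroup.map j (g : GL ι F₀) := rfl

include hj in
theorem refl_hvec (z x : ι → F₀) : refl Q (hvec j z) (hvec j x) = hvec j (refl Q₀ z x) := by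
  rw [refl_apply, refl_apply, hvec_sub, hvec_smul, polar_hvec j Q₀ Q hj, hj, map_div₀]

/-- base change of a reflection. -/
theorem isoMap_reflElt (z : ι → F₀) :
    isoMap j Q₀ Q hj (reflElt Q₀ z) = reflElt Q (hvec j z) := by
  apply eq_reflElt
  rw [coe_isoMap]
  apply matrix_ext_hvec j
  intro v
  show ((reflElt Q₀ z : GL ι F₀) : Matrix ι ι F₀).map j *ᵥ hvec j v = _
  rw [map_mulVec_hvec, reflElt_val, reflectionMatrix_mulVec, reflectionMatrix_mulVec,
    refl_hvec j Q₀ Q hj]

end Cfsg.Agent.Helper8.AutO
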