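import Mathlib
import Cfsg.Prelude.Def_LieTypeDatum

set_option autoImplicit false

/-! Transport of `PreservesSingularClasses` along an isometry of quadratic forms (helper8). -/

namespace Cfsg.Agent.Helper8.InnDiagMinus

open Module Cfsg
open scoped Matrix

section Transport

variable {K : Type*} [Field K] {ι κ : Type} [Fintype ι] [DecidableEq ι] [Fintype κ]
  [DecidableEq κ]

theorem isMaxTS_comap (Q : (ι → K) → K) (Q' : (κ → K) → K) (e : (ι → K) ≃ₗ[K] (κ → K))
    (he : ∀ v, Q' (e v) = Q v) {U' : Submodule K (κ → K)} (hU' : IsMaxTotallySingular Q' U') :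
    IsMaxTotallySingular Q (U'.comap e.toLinearMap) := by
  obtain ⟨hts, hmax⟩ := hU'
  refine ⟨?_, ?_⟩
  · intro w hw
    rw [← he]
    exact hts _ hw
  · intro W hW hUW
    have hW' : Geo.IsTotallySingularQuad Q' (W.map e.toLinearMap) := by
      rintro _ ⟨w, hw, rfl⟩
      show Q' (e w) = 0
      rw [he]
      exact hW w hw
    have hle : U' ≤ W.map e.toLinearMap := by
      intro u hu
      refine ⟨e.symm u, hUW ?_, ?_⟩
      · show e (e.symm u) ∈ U'
        rw [LinearEquiv.apply_symm_apply]
        exact hu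
      · show e (e.symm u) = u
        exact LinearEquiv.apply_symm_apply _ _
    have := hmax _ hW' hle
    rw [← this]
    ext w
    constructor
    · intro hw
      exact ⟨w, hw, rfl⟩
    · rintro ⟨w', hw', hww'⟩
      have : w' = w := e.injective hww'
      rw [← this]
      exact hw'

theorem preserves_transport (Q : (ι → K) → K) (Q' : (κ → K) → K) (e : (ι → K) ≃ₗ[K] (κ → K))
    (he : ∀ v, Q' (e v) = Q v) (g : Matrix ι ι K) (g' : Matrix κ κ K)
    (hg : ∀ v, g' *ᵥ (e v) = e (g *ᵥ v)) (h : PreservesSingularClasses Q g) :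
    PreservesSingularClasses Q' g' := by
  intro U' hU'
  obtain ⟨U, hU⟩ : ∃ U : Submodule K (ι → K), U = U'.comap e.toLinearMap := ⟨_, rfl⟩
  have hUmax : IsMaxTotallySingular Q U := by rw [hU]; exact isMaxTS_comap Q Q' e he hU'
  have hmapU : U.map e.toLinearMap = U' := by
    rw [hU]
    exact Submodule.map_comap_eq_of_surjective e.surjective U'
  have hcomp : e.toLinearMap ∘ₗ Matrix.toLin' g = Matrix.toLin' g' ∘ₗ e.toLinearMap := by
    apply LinearMap.ext
    intro v
    show e (Matrix.toLin' g v) = Matrix.toLin' g' (e v)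
    rw [Matrix.toLin'_apply, Matrix.toLin'_apply, hg]
  have himg : (imageSubmodule g U).map e.toLinearMap = imageSubmodule g' U' := by
    unfold imageSubmodule
    rw [← Submodule.map_comp, hcomp, Submodule.map_comp, hmapU]
  have hinf : (U ⊓ imageSubmodule g U).map e.toLinearMap = U' ⊓ imageSubmodule g' U' := by
    rw [Submodule.map_inf _ e.injective, hmapU, himg]
  have := h U hUmax
  unfold SameParityClass at this ⊢
  rw [← hinf, ← hmapU]
  have e1 : finrank K ↥(U.map e.toLinearMap) = finrank K ↥U := LinearEquiv.finrank_map_eq e U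
  have e2 : finrank K ↥((U ⊓ imageSubmodule g U).map e.toLinearMap)
      = finrank K ↥(U ⊓ imageSubmodule g U) := LinearEquiv.finrank_map_eq e _
  rw [e1, e2]
  exact this

theorem preserves_transport_iff (Q : (ι → K) → K) (Q' : (κ → K) → K)
    (e : (ι → K) ≃ₗ[K] (κ → K))
    (he : ∀ v, Q' (e v) = Q v) (g : Matrix ι ι K) (g' : Matrix κ κ K)
    (hg : ∀ v, g' *ᵥ (e v) = e (g *ᵥ v)) :
    PreservesSingularClasses Q g ↔ PreservesSingularClasses Q' g' := by
  constructor
  · exact preserves_transport Q Q' e he g g' hg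
  · apply preserves_transport Q' Q e.symm
    · intro v
      rw [← he, LinearEquiv.apply_symm_apply]
    · intro v
      apply e.injective
      rw [LinearEquiv.apply_symm_apply, ← hg, LinearEquiv.apply_symm_apply]

end Transport

end Cfsg.Agent.Helper8.InnDiagMinus
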