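import Mathlib
import Cfsg.Prelude.Def_LieTypeDatum
import Cfsg.Agent.Helper8.MaxSingular
import Cfsg.Agent.Helper8.StdForms
import Cfsg.Agent.Helper8.WittQuad
import Cfsg.Agent.S0831

set_option autoImplicit false

/-! Similarities of the hyperbolic quadratic form and the two classes of maximal totally singular
subspaces (helper8). -/

namespace Cfsg.Agent.Helper8.InnDiagPlus

open Module Cfsg Cfsg.Agent.Helper8.MaxSingular Cfsg.Agent.Helper8.StdForms
  Cfsg.Agent.Helper8.WittQuad

variable {F : Type*} [Field F] {m : ℕ}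

/-- the standard maximal totally singular subspace `y = 0` -/
noncomputable def U0 (F : Type*) [Field F] (m : ℕ) : Submodule F (Fin m ⊕ Fin m → F) :=
  LinearMap.ker (LinearMap.funLeft F F (Sum.inr : Fin m → Fin m ⊕ Fin m))

theorem isMTS_U0 : IsMTS (plusForm F m) m (U0 F m) := Cfsg.Agent.S0831.isMTS_inr m

theorem mem_U0_iff (v : Fin m ⊕ Fin m → F) : v ∈ U0 F m ↔ ∀ i, v (Sum.inr i) = 0 := by
  unfold U0
  rw [LinearMap.mem_ker]
  constructor
  · intro h i
    exact congrFun h i
  · intro h
    funext i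
    exact h i

/-- a totally singular subspace has dimension at most `m` -/
theorem finrank_le_of_ts {W : Submodule F (Fin m ⊕ Fin m → F)}
    (hW : ∀ w ∈ W, plusForm F m w = 0) : finrank F W ≤ m := by
  have h1 := Submodule.finrank_mono (le_orth_of_ts hW)
  have h2 := LinearMap.BilinForm.finrank_orthogonal (plusForm_nondeg F m) W
  rw [finrank_plus] at h2
  have h3 : finrank F W ≤ 2 * m := by
    have := Submodule.finrank_le W
    rwa [finrank_plus] at this
  unfold orth at h1
  omega

theorem exists_le_finrank_eq' {T : Type*} [AddCommGroup T] [Module F T] [FiniteDimensional F T]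
    (K : Submodule F T) {k : ℕ} (hk : k ≤ finrank F K) :
    ∃ K' : Submodule F T, K' ≤ K ∧ finrank F K' = k := by
  let b := Module.finBasis F K
  have hli : LinearIndependent F (fun i : Fin k => ((b (Fin.castLE hk i) : K) : T)) := by
    have h1 : LinearIndependent F (fun i : Fin k => b (Fin.castLE hk i)) :=
      b.linearIndependent.comp _ (Fin.castLE_injective hk)
    exact h1.map' K.subtype (Submodule.ker_subtype K)
  refine ⟨Submodule.span F (Set.range (fun i : Fin k => ((b (Fin.castLE hk i) : K) : T))), ?_, ?_⟩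
  · rw [Submodule.span_le]
    rintro _ ⟨i, rfl⟩
    exact (b (Fin.castLE hk i)).2
  · rw [finrank_span_eq_card hli, Fintype.card_fin]

/-- the maximal totally singular subspaces of the hyperbolic form are the totally singular
subspaces of dimension `m` -/
theorem isMaxTS_iff (U : Submodule F (Fin m ⊕ Fin m → F)) :
    IsMaxTotallySingular (⇑(plusForm F m)) U ↔ IsMTS (plusForm F m) m U := by
  constructor
  · rintro ⟨hts, hmax⟩
    have hk := finrank_le_of_ts hts
    have h0 := isMTS_U0 (F := F) (m := m)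
    obtain ⟨U', hU', hU'k⟩ := exists_le_finrank_eq' (U0 F m) (k := finrank F U) (by rw [h0.1]; exact hk)
    have hU'ts : ∀ w ∈ U', plusForm F m w = 0 := fun w hw => h0.2 w (hU' hw)
    obtain ⟨g, hg1, hg2⟩ := witt (plusForm F m) (plusForm_nondeg F m) U' U
      (LinearEquiv.ofFinrankEq U' U hU'k) (fun x => by
        rw [hts _ (LinearEquiv.ofFinrankEq U' U hU'k x).2, hU'ts _ x.2])
    have hW : Geo.IsTotallySingularQuad (⇑(plusForm F m))
        ((U0 F m).map (g : (Fin m ⊕ Fin m → F) →ₗ[F] (Fin m ⊕ Fin m → F))) := by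
      rintro _ ⟨x, hx, rfl⟩
      rw [LinearEquiv.coe_coe, hg1]
      exact h0.2 x hx
    have hle : U ≤ (U0 F m).map (g : (Fin m ⊕ Fin m → F) →ₗ[F] (Fin m ⊕ Fin m → F)) := by
      intro u hu
      obtain ⟨x, hx⟩ := (LinearEquiv.ofFinrankEq U' U hU'k).surjective ⟨u, hu⟩
      refine ⟨(x : Fin m ⊕ Fin m → F), hU' x.2, ?_⟩
      rw [LinearEquiv.coe_coe, hg2, hx]
    have heq := hmax _ hW hle
    refine ⟨?_, hts⟩
    rw [← heq, LinearEquiv.finrank_map_eq, h0.1]
  · rintro ⟨hk, hts⟩
    refine ⟨hts, fun W hW hle => ?_⟩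
    symm
    apply Submodule.eq_of_le_of_finrank_eq hle
    have := finrank_le_of_ts hW
    have h2 := Submodule.finrank_mono hle
    omega

end Cfsg.Agent.Helper8.InnDiagPlus
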