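import Mathlib
import Cfsg.Agent.Helper8.InnDiagPlusA
import Cfsg.Agent.Helper8.ReflMatrix

set_option autoImplicit false

/-! Similarities of the hyperbolic quadratic form and the two classes of maximal totally singular
subspaces: the class-preserving similarities (helper8). -/

namespace Cfsg.Agent.Helper8.InnDiagPlus

open Module Cfsg Cfsg.Agent.Helper8.MaxSingular Cfsg.Agent.Helper8.StdForms
  Cfsg.Agent.Helper8.ReflMatrix

variable {F : Type*} [Field F] {m : ℕ}

theorem imageSubmodule_eq (g : GL (Fin m ⊕ Fin m) F) (U : Submodule F (Fin m ⊕ Fin m → F)) :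
    imageSubmodule (g : Matrix (Fin m ⊕ Fin m) (Fin m ⊕ Fin m) F) U =
      U.map ((glEquiv g : (Fin m ⊕ Fin m → F) ≃ₗ[F] (Fin m ⊕ Fin m → F)) :
        (Fin m ⊕ Fin m → F) →ₗ[F] (Fin m ⊕ Fin m → F)) := by
  ext x
  unfold imageSubmodule
  rw [Submodule.mem_map, Submodule.mem_map]
  rfl

theorem finrank_image (g : GL (Fin m ⊕ Fin m) F) (U : Submodule F (Fin m ⊕ Fin m → F)) :
    finrank F ↥(imageSubmodule (g : Matrix (Fin m ⊕ Fin m) (Fin m ⊕ Fin m) F) U) = finrank F U := by
  rw [imageSubmodule_eq, LinearEquiv.finrank_map_eq]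

theorem finrank_inf_image (g : GL (Fin m ⊕ Fin m) F) (A B : Submodule F (Fin m ⊕ Fin m → F)) :
    finrank F ↥(imageSubmodule (g : Matrix (Fin m ⊕ Fin m) (Fin m ⊕ Fin m) F) A ⊓
      imageSubmodule (g : Matrix (Fin m ⊕ Fin m) (Fin m ⊕ Fin m) F) B) = finrank F ↥(A ⊓ B) := by
  rw [imageSubmodule_eq, imageSubmodule_eq, ← Submodule.map_inf _ (LinearEquiv.injective _),
    LinearEquiv.finrank_map_eq]

theorem isMTS_image {g : GL (Fin m ⊕ Fin m) F}
    (hg : g ∈ Geo.quadSimilarityGroup (F := F) (⇑(plusForm F m)))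
    {U : Submodule F (Fin m ⊕ Fin m → F)} (hU : IsMTS (plusForm F m) m U) :
    IsMTS (plusForm F m) m (imageSubmodule (g : Matrix (Fin m ⊕ Fin m) (Fin m ⊕ Fin m) F) U) := by
  refine ⟨by rw [finrank_image, hU.1], ?_⟩
  obtain ⟨c, hc⟩ := hg
  rintro _ ⟨x, hx, rfl⟩
  rw [Matrix.toLin'_apply, hc, hU.2 x hx, mul_zero]

/-- a similarity preserves the class of a maximal totally singular subspace iff it preserves the
class of the standard one -/
theorem sameParity_image_iff {g : GL (Fin m ⊕ Fin m) F}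
    (hg : g ∈ Geo.quadSimilarityGroup (F := F) (⇑(plusForm F m)))
    {U : Submodule F (Fin m ⊕ Fin m → F)} (hU : IsMTS (plusForm F m) m U) :
    SameParityClass U (imageSubmodule (g : Matrix (Fin m ⊕ Fin m) (Fin m ⊕ Fin m) F) U) ↔
      Even (m - finrank F ↥(U0 F m ⊓
        imageSubmodule (g : Matrix (Fin m ⊕ Fin m) (Fin m ⊕ Fin m) F) (U0 F m))) := by
  have hB := plusForm_nondeg F m
  have hV := finrank_plus F m
  have h0 := isMTS_U0 (F := F) (m := m)
  have hgU := isMTS_image hg hU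
  have hg0 := isMTS_image hg h0
  have p1 := parity hB hV hU h0 hgU
  have p2 := parity hB hV h0 hg0 hgU
  have e1 := finrank_inf_image g (U0 F m) U
  have e2 : finrank F ↥(U0 F m ⊓ U) = finrank F ↥(U ⊓ U0 F m) := by rw [inf_comm]
  have l1 := finrank_inf_le (Q := plusForm F m) (W := U0 F m) hU
  have l2 := finrank_inf_le (Q := plusForm F m)
    (W := imageSubmodule (g : Matrix (Fin m ⊕ Fin m) (Fin m ⊕ Fin m) F) U) h0
  have l3 := finrank_inf_le (Q := plusForm F m)
    (W := imageSubmodule (g : Matrix (Fin m ⊕ Fin m) (Fin m ⊕ Fin m) F) U) hU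
  have l4 := finrank_inf_le (Q := plusForm F m)
    (W := imageSubmodule (g : Matrix (Fin m ⊕ Fin m) (Fin m ⊕ Fin m) F) (U0 F m)) h0
  unfold SameParityClass
  rw [hU.1]
  rw [e1, e2] at p2
  rw [Nat.even_iff] at p1 p2 ⊢
  rw [Nat.even_iff]
  omega

/-- a similarity preserves the two classes of maximal totally singular subspaces iff it
preserves the class of the standard one -/
theorem preserves_iff {g : GL (Fin m ⊕ Fin m) F}
    (hg : g ∈ Geo.quadSimilarityGroup (F := F) (⇑(plusForm F m))) :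
    PreservesSingularClasses (⇑(plusForm F m)) (g : Matrix (Fin m ⊕ Fin m) (Fin m ⊕ Fin m) F) ↔
      Even (m - finrank F ↥(U0 F m ⊓
        imageSubmodule (g : Matrix (Fin m ⊕ Fin m) (Fin m ⊕ Fin m) F) (U0 F m))) := by
  constructor
  · intro h
    have h0 := isMTS_U0 (F := F) (m := m)
    exact (sameParity_image_iff hg h0).mp (h _ ((isMaxTS_iff _).mpr h0))
  · intro h U hU
    exact (sameParity_image_iff hg ((isMaxTS_iff U).mp hU)).mpr h

end Cfsg.Agent.Helper8.InnDiagPlus
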