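import Mathlib
import Cfsg.Agent.Helper8.InnDiagPlusB
import Cfsg.Agent.Helper8.AutImageOrth
import Cfsg.Agent.S2629

set_option autoImplicit false

/-! Similarities of the hyperbolic quadratic form: a similarity with multiplier `c` preserves the
two classes of maximal totally singular subspaces iff its determinant is `c ^ m` (helper8). -/

namespace Cfsg.Agent.Helper8.InnDiagPlus

open Module Cfsg Cfsg.Agent.Helper8.MaxSingular Cfsg.Agent.Helper8.StdForms
  Cfsg.Agent.Helper8.ReflMatrix Cfsg.Agent.Helper8.AutImageOrth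
open scoped Matrix

variable {F : Type*} [Field F] {m : ℕ}

/-- the diagonal similarity `diag(c, …, c, 1, …, 1)` -/
noncomputable def dmat (m : ℕ) (c : Fˣ) : GL (Fin m ⊕ Fin m) F :=
  Matrix.GeneralLinearGroup.mkOfDetNeZero
    (Matrix.diagonal (Sum.elim (fun _ : Fin m => (c : F)) (fun _ : Fin m => (1 : F)))) (by
      rw [Matrix.det_diagonal, Finset.prod_ne_zero_iff]
      intro i _
      rcases i with i | i
      · exact Units.ne_zero c
      · exact one_ne_zero)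

theorem dmat_val (c : Fˣ) : ((dmat m c : GL (Fin m ⊕ Fin m) F) : Matrix (Fin m ⊕ Fin m) (Fin m ⊕ Fin m) F) =
    Matrix.diagonal (Sum.elim (fun _ : Fin m => (c : F)) (fun _ : Fin m => (1 : F))) := rfl

theorem dmat_spec (c : Fˣ) (v : Fin m ⊕ Fin m → F) :
    plusForm F m (((dmat m c : GL (Fin m ⊕ Fin m) F) : Matrix (Fin m ⊕ Fin m) (Fin m ⊕ Fin m) F) *ᵥ v)
      = (c : F) * plusForm F m v := by
  rw [dmat_val, plusForm_apply, plusForm_apply]
  unfold Cfsg.quadFormPlus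
  rw [Finset.mul_sum]
  refine Finset.sum_congr rfl (fun i _ => ?_)
  rw [Matrix.mulVec_diagonal, Matrix.mulVec_diagonal]
  simp only [Sum.elim_inl, Sum.elim_inr]
  ring

theorem dmat_mem (c : Fˣ) : dmat m c ∈ Geo.quadSimilarityGroup (F := F) (⇑(plusForm F m)) :=
  ⟨c, dmat_spec c⟩

theorem det_dmat (c : Fˣ) :
    ((dmat m c : GL (Fin m ⊕ Fin m) F) : Matrix (Fin m ⊕ Fin m) (Fin m ⊕ Fin m) F).det = (c : F) ^ m := by
  rw [dmat_val, Matrix.det_diagonal, Fintype.prod_sum_type]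
  simp

theorem image_dmat_U0 (c : Fˣ) :
    imageSubmodule ((dmat m c : GL (Fin m ⊕ Fin m) F) : Matrix (Fin m ⊕ Fin m) (Fin m ⊕ Fin m) F) (U0 F m)
      = U0 F m := by
  apply Submodule.eq_of_le_of_finrank_eq
  · rintro _ ⟨x, hx, rfl⟩
    rw [SetLike.mem_coe, mem_U0_iff] at hx
    rw [mem_U0_iff]
    intro i
    rw [Matrix.toLin'_apply, dmat_val, Matrix.mulVec_diagonal, hx i, mul_zero]
  · rw [finrank_image]

theorem imageSubmodule_mul (a b : GL (Fin m ⊕ Fin m) F) (U : Submodule F (Fin m ⊕ Fin m → F)) :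
    imageSubmodule ((a * b : GL (Fin m ⊕ Fin m) F) : Matrix (Fin m ⊕ Fin m) (Fin m ⊕ Fin m) F) U =
      imageSubmodule (a : Matrix (Fin m ⊕ Fin m) (Fin m ⊕ Fin m) F)
        (imageSubmodule (b : Matrix (Fin m ⊕ Fin m) (Fin m ⊕ Fin m) F) U) := by
  unfold imageSubmodule
  rw [← Submodule.map_comp, Units.val_mul, Matrix.toLin'_mul]

/-- **a similarity with multiplier `c` preserves the two classes of maximal totally singular
subspaces iff its determinant is `c ^ m`** -/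
theorem preserves_iff_det [Fintype F] (h2 : (2 : F) ≠ 0) (hm : 1 ≤ m) {g : GL (Fin m ⊕ Fin m) F}
    {c : Fˣ} (hc : ∀ v, plusForm F m ((g : Matrix (Fin m ⊕ Fin m) (Fin m ⊕ Fin m) F) *ᵥ v)
      = (c : F) * plusForm F m v) :
    PreservesSingularClasses (⇑(plusForm F m)) (g : Matrix (Fin m ⊕ Fin m) (Fin m ⊕ Fin m) F) ↔
      (g : Matrix (Fin m ⊕ Fin m) (Fin m ⊕ Fin m) F).det = (c : F) ^ m := by
  have hg : g ∈ Geo.quadSimilarityGroup (F := F) (⇑(plusForm F m)) := ⟨c, hc⟩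
  rw [preserves_iff hg]
  obtain ⟨h, hh⟩ : ∃ h : GL (Fin m ⊕ Fin m) F, h = (dmat m c)⁻¹ * g := ⟨_, rfl⟩
  have hgh : g = dmat m c * h := by rw [hh, mul_inv_cancel_left]
  have hiso : h ∈ Cfsg.isometryGroup F (⇑(plusForm F m)) := by
    rw [mem_isometryGroup_iff']
    intro v
    have h1 := dmat_spec c ((h : Matrix (Fin m ⊕ Fin m) (Fin m ⊕ Fin m) F) *ᵥ v)
    rw [Matrix.mulVec_mulVec, ← Units.val_mul, ← hgh, hc] at h1
    exact mul_left_cancel₀ (Units.ne_zero c) h1.symm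
  have hQeq : Cfsg.quadFormPlus m F = ⇑(plusForm F m) :=
    funext (fun v => (plusForm_apply F m v).symm)
  have key := Cfsg.Agent.S2629.result (F := F) h2 hm
  rw [hQeq] at key
  have key' := key ⟨h, hiso⟩
  have e1 : finrank F ↥(U0 F m ⊓ imageSubmodule (g : Matrix (Fin m ⊕ Fin m) (Fin m ⊕ Fin m) F) (U0 F m))
      = finrank F ↥(U0 F m ⊓ imageSubmodule (h : Matrix (Fin m ⊕ Fin m) (Fin m ⊕ Fin m) F) (U0 F m)) := by
    have hA : imageSubmodule (g : Matrix (Fin m ⊕ Fin m) (Fin m ⊕ Fin m) F) (U0 F m) =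
        imageSubmodule ((dmat m c : GL (Fin m ⊕ Fin m) F) : Matrix (Fin m ⊕ Fin m) (Fin m ⊕ Fin m) F)
          (imageSubmodule (h : Matrix (Fin m ⊕ Fin m) (Fin m ⊕ Fin m) F) (U0 F m)) := by
      rw [hgh, imageSubmodule_mul]
    rw [hA]
    have hB := finrank_inf_image (dmat m c) (U0 F m)
      (imageSubmodule (h : Matrix (Fin m ⊕ Fin m) (Fin m ⊕ Fin m) F) (U0 F m))
    rw [image_dmat_U0] at hB
    exact hB
  rw [e1]
  have e2 : (g : Matrix (Fin m ⊕ Fin m) (Fin m ⊕ Fin m) F).det = (c : F) ^ m ↔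
      (h : Matrix (Fin m ⊕ Fin m) (Fin m ⊕ Fin m) F).det = 1 := by
    rw [hgh, Units.val_mul, Matrix.det_mul, det_dmat]
    have hcm : (c : F) ^ m ≠ 0 := pow_ne_zero _ (Units.ne_zero c)
    constructor
    · intro h1
      have : (c : F) ^ m * (h : Matrix (Fin m ⊕ Fin m) (Fin m ⊕ Fin m) F).det = (c : F) ^ m * 1 := by
        rw [h1, mul_one]
      exact mul_left_cancel₀ hcm this
    · intro h1
      rw [h1, mul_one]
  rw [e2]
  exact key'

end Cfsg.Agent.Helper8.InnDiagPlus
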