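import Mathlib
import Cfsg.Agent.Helper8.InnDiagMinusA
import Cfsg.Agent.Helper8.InnDiagPlusC

set_option autoImplicit false

/-! `PreservesSingularClasses` for a similarity of a form isometric to the hyperbolic form
(helper8). -/

namespace Cfsg.Agent.Helper8.InnDiagMinus

open Module Cfsg Cfsg.Agent.Helper8.StdForms Cfsg.Agent.Helper8.InnDiagPlus
open scoped Matrix

section ViaEquiv

variable {K : Type*} [Field K] {ι : Type} [Fintype ι] [DecidableEq ι]

/-- **a similarity with multiplier `c` of a form isometric to the hyperbolic form of dimension `2k`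
preserves the two classes of maximal totally singular subspaces iff its determinant is `c ^ k`** -/
theorem preserves_iff_det_of_equiv [Fintype K] (h2 : (2 : K) ≠ 0) {k : ℕ} (hk : 1 ≤ k)
    (Q : (ι → K) → K) (e : (ι → K) ≃ₗ[K] (Fin k ⊕ Fin k → K))
    (he : ∀ v, plusForm K k (e v) = Q v) (g : Matrix ι ι K) (hgdet : g.det ≠ 0) (c : Kˣ)
    (hc : ∀ v, Q (g *ᵥ v) = (c : K) * Q v) :
    PreservesSingularClasses Q g ↔ g.det = (c : K) ^ k := by
  obtain ⟨f, hf⟩ : ∃ f : (Fin k ⊕ Fin k → K) →ₗ[K] (Fin k ⊕ Fin k → K),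
      f = (e : (ι → K) →ₗ[K] (Fin k ⊕ Fin k → K)) ∘ₗ Matrix.toLin' g ∘ₗ
        (e.symm : (Fin k ⊕ Fin k → K) →ₗ[K] (ι → K)) := ⟨_, rfl⟩
  obtain ⟨g', hg'⟩ : ∃ g' : Matrix (Fin k ⊕ Fin k) (Fin k ⊕ Fin k) K,
      g' = LinearMap.toMatrix' f := ⟨_, rfl⟩
  have hdet : g'.det = g.det := by
    rw [hg', LinearMap.det_toMatrix', hf, LinearMap.det_conj, LinearMap.det_toLin']
  have hact : ∀ v, g' *ᵥ (e v) = e (g *ᵥ v) := by
    intro v
    rw [hg', ← Matrix.toLin'_apply, Matrix.toLin'_toMatrix', hf]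
    show e (Matrix.toLin' g (e.symm (e v))) = _
    rw [LinearEquiv.symm_apply_apply, Matrix.toLin'_apply]
  rw [preserves_transport_iff Q (⇑(plusForm K k)) e he g g' hact]
  obtain ⟨G, hG⟩ : ∃ G : GL (Fin k ⊕ Fin k) K,
      G = Matrix.GeneralLinearGroup.mkOfDetNeZero g' (by rw [hdet]; exact hgdet) := ⟨_, rfl⟩
  have hGv : (G : Matrix (Fin k ⊕ Fin k) (Fin k ⊕ Fin k) K) = g' := by rw [hG]; rfl
  have hc' : ∀ v, plusForm K k ((G : Matrix (Fin k ⊕ Fin k) (Fin k ⊕ Fin k) K) *ᵥ v)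
      = (c : K) * plusForm K k v := by
    intro v
    obtain ⟨w, rfl⟩ := e.surjective v
    rw [hGv, hact, he, he, hc]
  have := preserves_iff_det h2 hk hc'
  rw [hGv, hdet] at this
  exact this

end ViaEquiv

end Cfsg.Agent.Helper8.InnDiagMinus
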