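import Mathlib
import Cfsg.Agent.Helper8.InnDiagMinusB
import Cfsg.Agent.Helper8.DicksonRank
import Cfsg.Agent.S2630

set_option autoImplicit false

/-!
# The class-preserving similarities, part A: the rank criterion in characteristic two for forms
isometric to the hyperbolic form (helper8)
-/

namespace Cfsg.Agent.Helper8.Cls

open Module Cfsg Matrix Cfsg.Agent.Helper8.StdForms Cfsg.Agent.Helper8.InnDiagPlus
  Cfsg.Agent.Helper8.InnDiagMinus

/-- the rank of a matrix is unchanged by a homomorphism of fields. -/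
theorem rank_map_field {F K : Type*} [Field F] [Field K] (φ : F →+* K) {n : Type*} [Fintype n]
    [DecidableEq n] (A : Matrix n n F) : (A.map φ).rank = A.rank := by
  classical
  obtain ⟨L, L', D, hA⟩ := Matrix.Pivot.exists_list_transvec_mul_diagonal_mul_list_transvec A
  obtain ⟨P, hP⟩ : ∃ P : Matrix n n F, P = (L.map TransvectionStruct.toMatrix).prod := ⟨_, rfl⟩
  obtain ⟨P', hP'⟩ : ∃ P' : Matrix n n F, P' = (L'.map TransvectionStruct.toMatrix).prod :=
    ⟨_, rfl⟩
  have hdP : P.det = 1 := by rw [hP]; exact TransvectionStruct.det_toMatrix_prod L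
  have hdP' : P'.det = 1 := by rw [hP']; exact TransvectionStruct.det_toMatrix_prod L'
  rw [← hP, ← hP'] at hA
  have hmapdet : ∀ M : Matrix n n F, (M.map φ).det = φ M.det := by
    intro M
    rw [← RingHom.mapMatrix_apply, ← RingHom.map_det]
  have e1 : A.map φ = P.map φ * (diagonal D).map φ * P'.map φ := by
    rw [hA, Matrix.map_mul, Matrix.map_mul]
  have e2 : (diagonal D).map φ = diagonal (fun i => φ (D i)) := by
    rw [Matrix.diagonal_map (map_zero φ)]
  rw [e1, rank_mul_eq_left_of_isUnit_det _ _ (by rw [hmapdet, hdP', map_one]; exact isUnit_one),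
    rank_mul_eq_right_of_isUnit_det _ _ (by rw [hmapdet, hdP, map_one]; exact isUnit_one), e2]
  conv_rhs => rw [hA, rank_mul_eq_left_of_isUnit_det _ _ (by rw [hdP']; exact isUnit_one),
    rank_mul_eq_right_of_isUnit_det _ _ (by rw [hdP]; exact isUnit_one)]
  rw [rank_diagonal, rank_diagonal]
  apply Fintype.card_congr
  refine Equiv.subtypeEquivRight (fun i => ?_)
  rw [Ne, Ne, map_eq_zero_iff φ φ.injective]

section Plus

variable {K : Type*} [Field K] [Fintype K] {k : ℕ}

/-- **characteristic two**: an isometry of the hyperbolic form preserves the two classes of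
maximal totally singular subspaces iff `g - 1` has even rank. -/
theorem preserves_plus_iff_rank (h2 : (2 : K) = 0) (hk : 1 ≤ k)
    (hex : Fintype.card K ≠ 2 ∨ k ≠ 2) {g : GL (Fin k ⊕ Fin k) K}
    (hg : g ∈ Cfsg.isometryGroup K ⇑(plusForm K k)) :
    PreservesSingularClasses (⇑(plusForm K k))
      (g : Matrix (Fin k ⊕ Fin k) (Fin k ⊕ Fin k) K) ↔
      Even ((g : Matrix (Fin k ⊕ Fin k) (Fin k ⊕ Fin k) K) - 1).rank := by
  have hchar : CharP K 2 := CharTwo.of_one_ne_zero_of_two_eq_zero one_ne_zero h2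
  have hsim : g ∈ Geo.quadSimilarityGroup (F := K) (⇑(plusForm K k)) :=
    Cfsg.Agent.Helper8.AutImageOrth.isometry_le_similarity _ hg
  rw [preserves_iff hsim]
  have hQeq : Cfsg.quadFormPlus k K = ⇑(plusForm K k) :=
    funext (fun v => (plusForm_apply K k v).symm)
  have key := Cfsg.Agent.S2630.result (F := K) hk hex
  rw [hQeq] at key
  have key' := key ⟨g, hg⟩
  have hcard : Fintype.card (Fin k ⊕ Fin k) = 2 * k := by
    rw [Fintype.card_sum, Fintype.card_fin]; ring
  have hrank := Cfsg.Agent.Helper8.DicksonRank.mem_commutator_iff_even_rank (plusForm K k) h2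
    (plusForm_nondeg K k) (by rw [hcard]; omega)
    (by rcases hex with h | h
        · exact Or.inl h
        · right; rw [hcard]; omega) ⟨g, hg⟩
  rw [← hrank]
  exact key'

end Plus

section ViaEquiv

variable {K : Type*} [Field K] [Fintype K] {ι : Type} [Fintype ι] [DecidableEq ι]

/-- **characteristic two**: an isometry of a form isometric to the hyperbolic form preserves the
two classes of maximal totally singular subspaces iff `g - 1` has even rank. -/
theorem preserves_iff_rank_of_equiv (h2 : (2 : K) = 0) {k : ℕ} (hk : 1 ≤ k)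
    (hex : Fintype.card K ≠ 2 ∨ k ≠ 2)
    (Q : (ι → K) → K) (e : (ι → K) ≃ₗ[K] (Fin k ⊕ Fin k → K))
    (he : ∀ v, plusForm K k (e v) = Q v) (g : Matrix ι ι K) (hgdet : g.det ≠ 0)
    (hc : ∀ v, Q (g *ᵥ v) = Q v) :
    PreservesSingularClasses Q g ↔ Even (g - 1).rank := by
  obtain ⟨f, hf⟩ : ∃ f : (Fin k ⊕ Fin k → K) →ₗ[K] (Fin k ⊕ Fin k → K),
      f = (e : (ι → K) →ₗ[K] (Fin k ⊕ Fin k → K)) ∘ₗ Matrix.toLin' g ∘ₗ
        (e.symm : (Fin k ⊕ Fin k → K) →ₗ[K] (ι → K)) := ⟨_, rfl⟩
  obtain ⟨g', hg'⟩ : ∃ g' : Matrix (Fin k ⊕ Fin k) (Fin k ⊕ Fin k) K,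
      g' = LinearMap.toMatrix' f := ⟨_, rfl⟩
  have hdet : g'.det = g.det := by
    rw [hg', LinearMap.det_toMatrix', hf, LinearMap.det_conj, LinearMap.det_toLin']
  have hact : ∀ v, g' *ᵥ (e v) = e (g *ᵥ v) := by
    intro v
    rw [hg', ← Matrix.toLin'_apply, Matrix.toLin'_toMatrix', hf]
    show e (Matrix.toLin' g (e.symm (e v))) = _
    rw [LinearEquiv.symm_apply_apply, Matrix.toLin'_apply]
  rw [preserves_transport_iff Q (⇑(plusForm K k)) e he g g' hact]
  obtain ⟨G, hG⟩ : ∃ G : GL (Fin k ⊕ Fin k) K,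
      G = Matrix.GeneralLinearGroup.mkOfDetNeZero g' (by rw [hdet]; exact hgdet) := ⟨_, rfl⟩
  have hGv : (G : Matrix (Fin k ⊕ Fin k) (Fin k ⊕ Fin k) K) = g' := by rw [hG]; rfl
  have hGiso : G ∈ Cfsg.isometryGroup K ⇑(plusForm K k) := by
    rw [Cfsg.Agent.Helper8.AutImageOrth.mem_isometryGroup_iff']
    intro v
    obtain ⟨w, rfl⟩ := e.surjective v
    rw [hGv, hact, he, he, hc]
  have := preserves_plus_iff_rank h2 hk hex hGiso
  rw [hGv] at this
  rw [this]
  -- the ranks agree
  have hrank : (g' - 1).rank = (g - 1).rank := by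
    have e1 : Matrix.mulVecLin (g' - 1) = (e : (ι → K) →ₗ[K] (Fin k ⊕ Fin k → K)) ∘ₗ
        Matrix.mulVecLin (g - 1) ∘ₗ (e.symm : (Fin k ⊕ Fin k → K) →ₗ[K] (ι → K)) := by
      apply LinearMap.ext
      intro v
      obtain ⟨w, rfl⟩ := e.surjective v
      show (g' - 1) *ᵥ (e w) = e ((g - 1) *ᵥ (e.symm (e w)))
      rw [LinearEquiv.symm_apply_apply, Matrix.sub_mulVec, Matrix.sub_mulVec, Matrix.one_mulVec,
        Matrix.one_mulVec, hact, map_sub]
    unfold Matrix.rank
    rw [e1, LinearMap.range_comp, LinearMap.range_comp, LinearEquiv.range, Submodule.map_top,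
      LinearEquiv.finrank_map_eq]
  rw [hrank]

end ViaEquiv

end Cfsg.Agent.Helper8.Cls
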