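import Mathlib
import Cfsg.Agent.Helper8.StdForms

set_option autoImplicit false

/-! The minus-type form with a split binary part is isometric to the hyperbolic form
(helper8). -/

namespace Cfsg.Agent.Helper8.InnDiagMinus

open Module Cfsg Cfsg.Agent.Helper8.StdForms
open scoped Matrix

section Split

variable {K : Type*} [Field K] (m : ℕ) (ρ ρ' : K)

/-- the change of coordinates `z₁ - ρ z₂`, `z₁ - ρ' z₂` on the binary part -/
noncomputable def Lmap : ((Fin m ⊕ Fin m) ⊕ Fin 2 → K) →ₗ[K] (Fin (m + 1) ⊕ Fin (m + 1) → K) :=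
  LinearMap.pi (fun j => Sum.elim
    (fun i : Fin (m + 1) => Fin.lastCases
      (motive := fun _ => ((Fin m ⊕ Fin m) ⊕ Fin 2 → K) →ₗ[K] K)
      (LinearMap.proj (Sum.inr 0) - ρ • LinearMap.proj (Sum.inr 1))
      (fun i => LinearMap.proj (Sum.inl (Sum.inl i))) i)
    (fun i : Fin (m + 1) => Fin.lastCases
      (motive := fun _ => ((Fin m ⊕ Fin m) ⊕ Fin 2 → K) →ₗ[K] K)
      (LinearMap.proj (Sum.inr 0) - ρ' • LinearMap.proj (Sum.inr 1))
      (fun i => LinearMap.proj (Sum.inl (Sum.inr i))) i) j)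

theorem Lmap_inl_castSucc (v : (Fin m ⊕ Fin m) ⊕ Fin 2 → K) (i : Fin m) :
    Lmap m ρ ρ' v (Sum.inl i.castSucc) = v (Sum.inl (Sum.inl i)) := by
  simp [Lmap]

theorem Lmap_inl_last (v : (Fin m ⊕ Fin m) ⊕ Fin 2 → K) :
    Lmap m ρ ρ' v (Sum.inl (Fin.last m)) = v (Sum.inr 0) - ρ * v (Sum.inr 1) := by
  simp [Lmap]

theorem Lmap_inr_castSucc (v : (Fin m ⊕ Fin m) ⊕ Fin 2 → K) (i : Fin m) :
    Lmap m ρ ρ' v (Sum.inr i.castSucc) = v (Sum.inl (Sum.inr i)) := by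
  simp [Lmap]

theorem Lmap_inr_last (v : (Fin m ⊕ Fin m) ⊕ Fin 2 → K) :
    Lmap m ρ ρ' v (Sum.inr (Fin.last m)) = v (Sum.inr 0) - ρ' * v (Sum.inr 1) := by
  simp [Lmap]

theorem plusForm_Lmap (a b : K) (hsum : ρ + ρ' = -a) (hprod : ρ * ρ' = b)
    (v : (Fin m ⊕ Fin m) ⊕ Fin 2 → K) :
    plusForm K (m + 1) (Lmap m ρ ρ' v) = quadFormMinus m K a b v := by
  rw [plusForm_apply]
  unfold quadFormPlus quadFormMinus
  rw [Fin.sum_univ_castSucc]
  simp only [Lmap_inl_castSucc, Lmap_inr_castSucc, Lmap_inl_last, Lmap_inr_last]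
  congr 1
  have ha : a = -(ρ + ρ') := by rw [hsum, neg_neg]
  rw [ha, ← hprod]
  ring

theorem Lmap_injective (hne : ρ ≠ ρ') : Function.Injective (Lmap m ρ ρ') := by
  rw [← LinearMap.ker_eq_bot, LinearMap.ker_eq_bot']
  intro v hv
  have h1 : ∀ i : Fin m, v (Sum.inl (Sum.inl i)) = 0 := by
    intro i
    rw [← Lmap_inl_castSucc m ρ ρ' v i, hv]
    rfl
  have h3 : ∀ i : Fin m, v (Sum.inl (Sum.inr i)) = 0 := by
    intro i
    rw [← Lmap_inr_castSucc m ρ ρ' v i, hv]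
    rfl
  have h4 : v (Sum.inr 0) - ρ * v (Sum.inr 1) = 0 := by
    rw [← Lmap_inl_last m ρ ρ' v, hv]
    rfl
  have h5 : v (Sum.inr 0) - ρ' * v (Sum.inr 1) = 0 := by
    rw [← Lmap_inr_last m ρ ρ' v, hv]
    rfl
  have h6 : (ρ - ρ') * v (Sum.inr 1) = 0 := by linear_combination h5 - h4
  have h7 : v (Sum.inr 1) = 0 := by
    rcases mul_eq_zero.mp h6 with h | h
    · exact absurd (sub_eq_zero.mp h) hne
    · exact h
  have h8 : v (Sum.inr 0) = 0 := by
    rw [h7, mul_zero, sub_zero] at h4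
    exact h4
  funext j
  rcases j with (i | i) | j
  · exact h1 i
  · exact h3 i
  · fin_cases j
    · exact h8
    · exact h7

/-- the isometry from the split minus-type form to the hyperbolic form -/
noncomputable def Lequiv (hne : ρ ≠ ρ') :
    ((Fin m ⊕ Fin m) ⊕ Fin 2 → K) ≃ₗ[K] (Fin (m + 1) ⊕ Fin (m + 1) → K) :=
  LinearMap.linearEquivOfInjective (Lmap m ρ ρ') (Lmap_injective m ρ ρ' hne) (by
    rw [Module.finrank_fintype_fun_eq_card, Module.finrank_fintype_fun_eq_card]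
    simp only [Fintype.card_sum, Fintype.card_fin]
    ring)

theorem Lequiv_apply (hne : ρ ≠ ρ') (v : (Fin m ⊕ Fin m) ⊕ Fin 2 → K) :
    Lequiv m ρ ρ' hne v = Lmap m ρ ρ' v :=
  LinearMap.linearEquivOfInjective_apply _ _ _

end Split

end Cfsg.Agent.Helper8.InnDiagMinus
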