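import Mathlib
import Cfsg.Agent.Helper8.InnDiagMinusB
import Cfsg.Agent.Helper8.InnDiagMinusC
import Cfsg.Agent.Helper8.QuadForm

set_option autoImplicit false

/-! Base change of a similarity of the minus-type form to a quadratic extension, where the form
becomes hyperbolic (helper8). -/

namespace Cfsg.Agent.Helper8.InnDiagMinus

open Module Cfsg Cfsg.Agent.Helper8.StdForms Cfsg.Agent.Helper8.QuadForm
open scoped Matrix

section Ext

variable {K : Type*} [Field K] {ι : Type*} [Fintype ι] [DecidableEq ι]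

/-- in characteristic not two, a quadratic form is determined by its values on `eᵢ` and
`eᵢ + eⱼ` -/
theorem quadForm_ext_of_basis (h2 : (2 : K) ≠ 0) (Q₁ Q₂ : QuadraticForm K (ι → K))
    (h : ∀ i j, Q₁ (Pi.single i 1 + Pi.single j 1) = Q₂ (Pi.single i 1 + Pi.single j 1))
    (h' : ∀ i, Q₁ (Pi.single i 1) = Q₂ (Pi.single i 1)) : Q₁ = Q₂ := by
  have hp : QuadraticMap.polarBilin Q₁ = QuadraticMap.polarBilin Q₂ := by
    apply LinearMap.BilinForm.ext_basis (Pi.basisFun K ι)
    intro i j
    simp only [Pi.basisFun_apply]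
    show QuadraticMap.polar Q₁ _ _ = QuadraticMap.polar Q₂ _ _
    unfold QuadraticMap.polar
    rw [h, h', h']
  ext v
  have h1 : QuadraticMap.polar Q₁ v v = QuadraticMap.polar Q₂ v v := by
    have := congrArg (fun B : LinearMap.BilinForm K (ι → K) => B v v) hp
    exact this
  rw [polar_self', polar_self'] at h1
  exact mul_left_cancel₀ h2 h1

end Ext

section BaseChange

variable {F : Type*} [Field F] {K : Type*} [Field K] [Algebra F K] (m : ℕ) (a b : F)

theorem quadFormMinus_map (u : (Fin m ⊕ Fin m) ⊕ Fin 2 → F) :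
    quadFormMinus m K (algebraMap F K a) (algebraMap F K b) (fun i => algebraMap F K (u i))
      = algebraMap F K (quadFormMinus m F a b u) := by
  unfold quadFormMinus
  simp only [map_add, map_sum, map_mul, map_pow]

theorem map_mulVec_map (g : Matrix ((Fin m ⊕ Fin m) ⊕ Fin 2) ((Fin m ⊕ Fin m) ⊕ Fin 2) F)
    (u : (Fin m ⊕ Fin m) ⊕ Fin 2 → F) :
    (g.map (algebraMap F K)) *ᵥ (fun i => algebraMap F K (u i))
      = fun i => algebraMap F K ((g *ᵥ u) i) := by
  funext i
  simp only [Matrix.mulVec, dotProduct, Matrix.map_apply, map_sum, map_mul]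

theorem single_map (i : (Fin m ⊕ Fin m) ⊕ Fin 2) :
    (fun j => algebraMap F K ((Pi.single i 1 : (Fin m ⊕ Fin m) ⊕ Fin 2 → F) j))
      = (Pi.single i 1 : (Fin m ⊕ Fin m) ⊕ Fin 2 → K) := by
  funext j
  by_cases h : j = i
  · subst h
    simp
  · simp [Pi.single_eq_of_ne h]

/-- a similarity stays a similarity after extending scalars -/
theorem similarity_map (h2 : (2 : K) ≠ 0)
    (g : Matrix ((Fin m ⊕ Fin m) ⊕ Fin 2) ((Fin m ⊕ Fin m) ⊕ Fin 2) F) (c : F)
    (hc : ∀ u, quadFormMinus m F a b (g *ᵥ u) = c * quadFormMinus m F a b u)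
    (v : (Fin m ⊕ Fin m) ⊕ Fin 2 → K) :
    quadFormMinus m K (algebraMap F K a) (algebraMap F K b) ((g.map (algebraMap F K)) *ᵥ v)
      = algebraMap F K c * quadFormMinus m K (algebraMap F K a) (algebraMap F K b) v := by
  obtain ⟨QK, hQK⟩ : ∃ QK : QuadraticForm K ((Fin m ⊕ Fin m) ⊕ Fin 2 → K),
      QK = minusForm K m (algebraMap F K a) (algebraMap F K b) := ⟨_, rfl⟩
  have hQKv : ∀ w, QK w = quadFormMinus m K (algebraMap F K a) (algebraMap F K b) w := by
    intro w
    rw [hQK, minusForm_apply]
  have hagree : ∀ u : (Fin m ⊕ Fin m) ⊕ Fin 2 → F,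
      (QK.comp (Matrix.toLin' (g.map (algebraMap F K)))) (fun i => algebraMap F K (u i))
        = (algebraMap F K c • QK) (fun i => algebraMap F K (u i)) := by
    intro u
    rw [QuadraticMap.comp_apply, Matrix.toLin'_apply, map_mulVec_map, smul_apply,
      hQKv, hQKv, quadFormMinus_map, quadFormMinus_map, hc, map_mul, smul_eq_mul]
  have heq : QK.comp (Matrix.toLin' (g.map (algebraMap F K))) = algebraMap F K c • QK := by
    apply quadForm_ext_of_basis h2
    · intro i j
      have := hagree (Pi.single i 1 + Pi.single j 1)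
      have hv : (fun l => algebraMap F K
          ((Pi.single i 1 + Pi.single j 1 : (Fin m ⊕ Fin m) ⊕ Fin 2 → F) l))
          = (Pi.single i 1 + Pi.single j 1 : (Fin m ⊕ Fin m) ⊕ Fin 2 → K) := by
        rw [← single_map (F := F) (K := K) m i, ← single_map (F := F) (K := K) m j]
        funext l
        simp only [Pi.add_apply, map_add]
      rw [hv] at this
      exact this
    · intro i
      have := hagree (Pi.single i 1)
      rw [single_map] at this
      exact this
  have := congrArg (fun Q' : QuadraticForm K ((Fin m ⊕ Fin m) ⊕ Fin 2 → K) => Q' v) heq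
  simp only [QuadraticMap.comp_apply, Matrix.toLin'_apply, smul_apply, smul_eq_mul,
    hQKv] at this
  exact this

end BaseChange

end Cfsg.Agent.Helper8.InnDiagMinus
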