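import Mathlib
import Cfsg.Agent.Helper8.InnDiagMinusD
import Cfsg.Agent.Helper8.OmegaStd

set_option autoImplicit false

/-! `PreservesSingularClassesMinus` for a similarity of the minus-type form: the determinant
criterion (helper8). -/

namespace Cfsg.Agent.Helper8.InnDiagMinus

open Module Cfsg Cfsg.Agent.Helper8.StdForms Cfsg.Agent.Helper8.QuadForm
  Cfsg.Agent.Helper8.OmegaStd
open scoped Matrix Polynomial

section Roots

variable {F : Type*} [Field F] {K : Type*} [Field K] [Algebra F K]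

theorem two_ne_zero_map (h2 : (2 : F) ≠ 0) : (2 : K) ≠ 0 := by
  have : (2 : K) = algebraMap F K 2 := by rw [map_ofNat]
  rw [this, Ne, map_eq_zero_iff _ (algebraMap F K).injective]
  exact h2

variable [Fintype F]

/-- every element of a finite field of odd order is a square in a quadratic extension -/
theorem isSquare_algebraMap [Fintype K] (hodd : Odd (Fintype.card F)) (hK : finrank F K = 2)
    (d : F) : IsSquare (algebraMap F K d) := by
  by_cases hd : d = 0
  · rw [hd, map_zero]
    exact ⟨0, (mul_zero 0).symm⟩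
  have h2F : (2 : F) ≠ 0 := two_ne_zero_of_odd hodd
  have h2K : (2 : K) ≠ 0 := two_ne_zero_map h2F
  have hchar : ringChar K ≠ 2 := by
    intro h
    apply h2K
    have := CharP.cast_eq_zero K (ringChar K)
    rw [h] at this
    exact_mod_cast this
  have hd' : algebraMap F K d ≠ 0 := by
    rw [Ne, map_eq_zero_iff _ (algebraMap F K).injective]
    exact hd
  rw [FiniteField.isSquare_iff hchar hd']
  have hcard : Fintype.card K = Fintype.card F ^ 2 := by
    rw [Module.card_eq_pow_finrank (K := F) (V := K), hK]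
  obtain ⟨t, ht⟩ := hodd
  have hexp : Fintype.card K / 2 = (Fintype.card F - 1) * (t + 1) := by
    rw [hcard, ht]
    have : (2 * t + 1) ^ 2 = 2 * ((2 * t + 1 - 1) * (t + 1)) + 1 := by
      rw [Nat.add_sub_cancel]; ring
    rw [this]
    omega
  rw [hexp, ← map_pow, pow_mul, FiniteField.pow_card_sub_one_eq_one d hd, one_pow, map_one]

/-- the binary form splits over a quadratic extension -/
theorem exists_roots [Fintype K] (hodd : Odd (Fintype.card F)) (hK : finrank F K = 2) (a b : F)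
    (hab : ∀ z₁ z₂ : F, z₁ ^ 2 + a * z₁ * z₂ + b * z₂ ^ 2 = 0 → z₁ = 0 ∧ z₂ = 0) :
    ∃ ρ ρ' : K, ρ + ρ' = -(algebraMap F K a) ∧ ρ * ρ' = algebraMap F K b ∧ ρ ≠ ρ' := by
  have h2F : (2 : F) ≠ 0 := two_ne_zero_of_odd hodd
  have h2K : (2 : K) ≠ 0 := two_ne_zero_map h2F
  obtain ⟨s, hs⟩ := isSquare_algebraMap (K := K) hodd hK (a ^ 2 - 4 * b)
  have hD : a ^ 2 - 4 * b ≠ 0 := by
    intro h
    have := (hab (-a / 2) 1 (by field_simp; linear_combination -h)).2
    exact one_ne_zero this
  have hs0 : s ≠ 0 := by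
    rintro rfl
    rw [mul_zero, map_eq_zero_iff _ (algebraMap F K).injective] at hs
    exact hD hs
  refine ⟨(-(algebraMap F K a) + s) / 2, (-(algebraMap F K a) - s) / 2, ?_, ?_, ?_⟩
  · field_simp
    ring
  · have hs' : s * s = (algebraMap F K a) ^ 2 - 4 * algebraMap F K b := by
      rw [← hs]
      simp only [map_sub, map_mul, map_pow, map_ofNat]
    field_simp
    linear_combination -hs'
  · intro h
    apply hs0
    have : (-(algebraMap F K a) + s) = (-(algebraMap F K a) - s) := by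
      field_simp at h
      exact h
    have h3 : 2 * s = 0 := by linear_combination this
    rcases mul_eq_zero.mp h3 with h | h
    · exact absurd h h2K
    · exact h

end Roots

section Main

variable {F : Type*} [Field F] [Fintype F]

/-- the determinant criterion over any quadratic extension -/
theorem preservesK_iff_det (hodd : Odd (Fintype.card F)) {m : ℕ} (a b : F)
    (hab : ∀ z₁ z₂ : F, z₁ ^ 2 + a * z₁ * z₂ + b * z₂ ^ 2 = 0 → z₁ = 0 ∧ z₂ = 0)
    {K : Type*} [Field K] [Algebra F K] (hK : finrank F K = 2)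
    (g : GL ((Fin m ⊕ Fin m) ⊕ Fin 2) F) (c : Fˣ)
    (hc : ∀ u, quadFormMinus m F a b
      ((g : Matrix ((Fin m ⊕ Fin m) ⊕ Fin 2) ((Fin m ⊕ Fin m) ⊕ Fin 2) F) *ᵥ u)
        = (c : F) * quadFormMinus m F a b u) :
    PreservesSingularClasses (quadFormMinus m K (algebraMap F K a) (algebraMap F K b))
      ((g : Matrix ((Fin m ⊕ Fin m) ⊕ Fin 2) ((Fin m ⊕ Fin m) ⊕ Fin 2) F).map (algebraMap F K)) ↔
      (g : Matrix ((Fin m ⊕ Fin m) ⊕ Fin 2) ((Fin m ⊕ Fin m) ⊕ Fin 2) F).det = (c : F) ^ (m + 1) := by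
  classical
  haveI : FiniteDimensional F K := Module.finite_of_finrank_pos (by rw [hK]; norm_num)
  haveI : Finite K := Module.finite_of_finite F
  letI : Fintype K := Fintype.ofFinite K
  have h2F := two_ne_zero_of_odd hodd
  have h2K : (2 : K) ≠ 0 := two_ne_zero_map h2F
  obtain ⟨ρ, ρ', hsum, hprod, hne⟩ := exists_roots (K := K) hodd hK a b hab
  have hdet : ((g : Matrix ((Fin m ⊕ Fin m) ⊕ Fin 2) ((Fin m ⊕ Fin m) ⊕ Fin 2) F).map
      (algebraMap F K)).det
      = algebraMap F K (g : Matrix ((Fin m ⊕ Fin m) ⊕ Fin 2) ((Fin m ⊕ Fin m) ⊕ Fin 2) F).det := by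
    rw [← RingHom.mapMatrix_apply, ← RingHom.map_det]
  have hg0 : (g : Matrix ((Fin m ⊕ Fin m) ⊕ Fin 2) ((Fin m ⊕ Fin m) ⊕ Fin 2) F).det ≠ 0 := by
    have := (Matrix.GeneralLinearGroup.det g).ne_zero
    exact this
  have hgdet : ((g : Matrix ((Fin m ⊕ Fin m) ⊕ Fin 2) ((Fin m ⊕ Fin m) ⊕ Fin 2) F).map
      (algebraMap F K)).det ≠ 0 := by
    rw [hdet, Ne, map_eq_zero_iff _ (algebraMap F K).injective]
    exact hg0
  have key := preserves_iff_det_of_equiv h2K (k := m + 1) (by omega)
    (quadFormMinus m K (algebraMap F K a) (algebraMap F K b)) (Lequiv m ρ ρ' hne)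
    (fun v => by rw [Lequiv_apply]; exact plusForm_Lmap m ρ ρ' _ _ hsum hprod v) _ hgdet
    (Units.map (algebraMap F K).toMonoidHom c)
    (fun v => similarity_map m a b h2K _ (c : F) hc v)
  rw [key, hdet, Units.coe_map]
  show algebraMap F K _ = (algebraMap F K (c : F)) ^ (m + 1) ↔ _
  rw [← map_pow]
  exact (algebraMap F K).injective.eq_iff

end Main

end Cfsg.Agent.Helper8.InnDiagMinus
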