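import Mathlib
import Cfsg.Agent.Helper8.ClsA
import Cfsg.Agent.Helper8.InnDiagMinusC
import Cfsg.Agent.Helper8.InnDiagMinusE
import Cfsg.Agent.Helper8.AutOzg

set_option autoImplicit false
set_option linter.style.haveILetI false

/-!
# The class-preserving similarities, part B: the minus-type form over a quadratic extension, in
any characteristic: quadratic extensions, roots of the binary part, and the rank criterion in
characteristic two (helper8)
-/

namespace Cfsg.Agent.Helper8.Cls

open Module Cfsg Matrix Cfsg.Agent.Helper8.StdForms Cfsg.Agent.Helper8.InnDiagPlus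
  Cfsg.Agent.Helper8.InnDiagMinus
open scoped Polynomial

universe u

section Ext

variable {F : Type u} [Field F]

/-- the polynomial of the binary part. -/
noncomputable def binPoly (a b : F) : F[X] := Polynomial.X ^ 2 + Polynomial.C a * Polynomial.X
  + Polynomial.C b

theorem natDegree_binPoly (a b : F) : (binPoly a b).natDegree = 2 := by
  unfold binPoly
  compute_degree!

theorem irreducible_binPoly {a b : F}
    (hab : ∀ z₁ z₂ : F, z₁ ^ 2 + a * z₁ * z₂ + b * z₂ ^ 2 = 0 → z₁ = 0 ∧ z₂ = 0) :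
    Irreducible (binPoly a b) := by
  apply Polynomial.irreducible_of_degree_le_three_of_not_isRoot
  · rw [natDegree_binPoly]; decide
  · intro x hx
    unfold binPoly at hx
    rw [Polynomial.IsRoot.def, Polynomial.eval_add, Polynomial.eval_add, Polynomial.eval_pow,
      Polynomial.eval_mul, Polynomial.eval_X, Polynomial.eval_C, Polynomial.eval_C] at hx
    have := (hab x 1 (by rw [mul_one, one_pow, mul_one]; exact hx)).2
    exact one_ne_zero this

/-- a field with an anisotropic binary form has a quadratic extension in the same universe. -/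
theorem exists_quadratic_ext_of_aniso {a b : F}
    (hab : ∀ z₁ z₂ : F, z₁ ^ 2 + a * z₁ * z₂ + b * z₂ ^ 2 = 0 → z₁ = 0 ∧ z₂ = 0) :
    ∃ (K : Type u) (_ : Field K) (_ : Algebra F K), finrank F K = 2 := by
  have hirr := irreducible_binPoly hab
  haveI : Fact (Irreducible (binPoly a b)) := ⟨hirr⟩
  refine ⟨AdjoinRoot (binPoly a b), inferInstance, inferInstance, ?_⟩
  rw [(AdjoinRoot.powerBasis hirr.ne_zero).finrank, AdjoinRoot.powerBasis_dim,
    natDegree_binPoly]

variable [Fintype F]

/-- the binary part splits, with distinct roots, over any quadratic extension. -/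
theorem exists_roots_of_aniso {K : Type*} [Field K] [Algebra F K] (hK : finrank F K = 2)
    {a b : F} (hab : ∀ z₁ z₂ : F, z₁ ^ 2 + a * z₁ * z₂ + b * z₂ ^ 2 = 0 → z₁ = 0 ∧ z₂ = 0) :
    ∃ ρ ρ' : K, ρ + ρ' = -(algebraMap F K a) ∧ ρ * ρ' = algebraMap F K b ∧ ρ ≠ ρ' := by
  obtain ⟨p, hp⟩ := CharP.exists F
  haveI : Fact p.Prime := ⟨CharP.char_is_prime F p⟩
  have hirr := irreducible_binPoly hab
  haveI : Fact (Irreducible (binPoly a b)) := ⟨hirr⟩
  have hL : finrank F (AdjoinRoot (binPoly a b)) = 2 := by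
    rw [(AdjoinRoot.powerBasis hirr.ne_zero).finrank, AdjoinRoot.powerBasis_dim,
      natDegree_binPoly]
  obtain ⟨ψ⟩ : Nonempty (AdjoinRoot (binPoly a b) ≃ₐ[F] K) :=
    ⟨(FiniteField.algEquivExtension F p 2 _ hL).trans
      (FiniteField.algEquivExtension F p 2 K hK).symm⟩
  obtain ⟨ρ, hρ⟩ : ∃ ρ : K, ρ = ψ (AdjoinRoot.root (binPoly a b)) := ⟨_, rfl⟩
  have hroot : ρ ^ 2 + algebraMap F K a * ρ + algebraMap F K b = 0 := by
    have h1 : Polynomial.aeval (AdjoinRoot.root (binPoly a b)) (binPoly a b) = 0 := by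
      rw [AdjoinRoot.aeval_eq, AdjoinRoot.mk_self]
    have h2 : Polynomial.aeval ρ (binPoly a b) = 0 := by
      rw [hρ, Polynomial.aeval_algEquiv, AlgHom.comp_apply, h1]
      exact map_zero _
    unfold binPoly at h2
    rw [map_add, map_add, map_pow, map_mul, Polynomial.aeval_X, Polynomial.aeval_C,
      Polynomial.aeval_C] at h2
    exact h2
  refine ⟨ρ, -(algebraMap F K a) - ρ, by ring, by linear_combination -hroot, ?_⟩
  intro hcon
  have h2ρ : 2 * ρ = -(algebraMap F K a) := by linear_combination hcon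
  by_cases h2 : (2 : F) = 0
  · have h2K : (2 : K) = 0 := by
      have : (2 : K) = algebraMap F K 2 := by rw [map_ofNat]
      rw [this, h2, map_zero]
    have ha : a = 0 := by
      rw [h2K, zero_mul] at h2ρ
      have : algebraMap F K a = 0 := neg_eq_zero.mp h2ρ.symm
      exact (map_eq_zero_iff _ (algebraMap F K).injective).mp this
    have hchar : ringChar F = 2 := by
      haveI : CharP F 2 := CharTwo.of_one_ne_zero_of_two_eq_zero one_ne_zero h2
      exact ringChar.eq F 2
    obtain ⟨c, hc⟩ := FiniteField.isSquare_of_char_two hchar b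
    have := (hab c 1 (by rw [ha, hc]; linear_combination (c * c) * h2)).2
    exact one_ne_zero this
  · have h2K : (2 : K) ≠ 0 := two_ne_zero_map h2
    have hρ' : ρ = algebraMap F K (-a / 2) := by
      rw [map_div₀, map_neg, map_ofNat]
      field_simp
      linear_combination h2ρ
    rw [hρ'] at hroot
    have h3 : algebraMap F K ((-a / 2) ^ 2 + a * (-a / 2) + b) = 0 := by
      rw [map_add, map_add, map_pow, map_mul]
      exact hroot
    have h4 := (map_eq_zero_iff _ (algebraMap F K).injective).mp h3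
    have := (hab (-a / 2) 1 (by rw [mul_one, one_pow, mul_one]; exact h4)).2
    exact one_ne_zero this

end Ext

section Rank

variable {F : Type*} [Field F] [Fintype F]

/-- **characteristic two**: the rank criterion over any quadratic extension. -/
theorem preservesK_iff_rank (h2 : (2 : F) = 0) {m : ℕ} (a b : F)
    (hab : ∀ z₁ z₂ : F, z₁ ^ 2 + a * z₁ * z₂ + b * z₂ ^ 2 = 0 → z₁ = 0 ∧ z₂ = 0)
    {K : Type*} [Field K] [Algebra F K] (hK : finrank F K = 2)
    (g : GL ((Fin m ⊕ Fin m) ⊕ Fin 2) F)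
    (hc : ∀ u, quadFormMinus m F a b
      ((g : Matrix ((Fin m ⊕ Fin m) ⊕ Fin 2) ((Fin m ⊕ Fin m) ⊕ Fin 2) F) *ᵥ u)
        = quadFormMinus m F a b u) :
    PreservesSingularClasses (quadFormMinus m K (algebraMap F K a) (algebraMap F K b))
      ((g : Matrix ((Fin m ⊕ Fin m) ⊕ Fin 2) ((Fin m ⊕ Fin m) ⊕ Fin 2) F).map (algebraMap F K)) ↔
      Even ((g : Matrix ((Fin m ⊕ Fin m) ⊕ Fin 2) ((Fin m ⊕ Fin m) ⊕ Fin 2) F) - 1).rank := by
  classical
  haveI : FiniteDimensional F K := Module.finite_of_finrank_pos (by rw [hK]; norm_num)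
  haveI : Finite K := Module.finite_of_finite F
  letI : Fintype K := Fintype.ofFinite K
  have h2K : (2 : K) = 0 := by
    have : (2 : K) = algebraMap F K 2 := by rw [map_ofNat]
    rw [this, h2, map_zero]
  obtain ⟨ρ, ρ', hsum, hprod, hne⟩ := exists_roots_of_aniso (K := K) hK hab
  have hdet : ((g : Matrix ((Fin m ⊕ Fin m) ⊕ Fin 2) ((Fin m ⊕ Fin m) ⊕ Fin 2) F).map
      (algebraMap F K)).det
      = algebraMap F K (g : Matrix ((Fin m ⊕ Fin m) ⊕ Fin 2) ((Fin m ⊕ Fin m) ⊕ Fin 2) F).det := by
    rw [← RingHom.mapMatrix_apply, ← RingHom.map_det]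
  have hg0 : (g : Matrix ((Fin m ⊕ Fin m) ⊕ Fin 2) ((Fin m ⊕ Fin m) ⊕ Fin 2) F).det ≠ 0 := by
    have := (Matrix.GeneralLinearGroup.det g).ne_zero
    exact this
  have hgdet : ((g : Matrix ((Fin m ⊕ Fin m) ⊕ Fin 2) ((Fin m ⊕ Fin m) ⊕ Fin 2) F).map
      (algebraMap F K)).det ≠ 0 := by
    rw [hdet, Ne, map_eq_zero_iff _ (algebraMap F K).injective]
    exact hg0
  have hcardK : Fintype.card K ≠ 2 := by
    have hcard : Fintype.card K = Fintype.card F ^ 2 := by
      rw [Module.card_eq_pow_finrank (K := F) (V := K), hK]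
    have h1 : 2 ≤ Fintype.card F := Fintype.one_lt_card
    rw [hcard]
    nlinarith
  have hsimK : ∀ v, quadFormMinus m K (algebraMap F K a) (algebraMap F K b)
      (((g : Matrix ((Fin m ⊕ Fin m) ⊕ Fin 2) ((Fin m ⊕ Fin m) ⊕ Fin 2) F).map
        (algebraMap F K)) *ᵥ v)
      = quadFormMinus m K (algebraMap F K a) (algebraMap F K b) v := by
    intro v
    have h1 := Cfsg.Agent.Helper8.AutO.similarity_map (algebraMap F K) (minusForm F m a b)
      (minusForm K m (algebraMap F K a) (algebraMap F K b))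
      (fun u => by
        rw [minusForm_apply, minusForm_apply]
        exact quadFormMinus_map m a b u) g 1
      (fun u => by rw [minusForm_apply, minusForm_apply, one_mul]; exact hc u) v
    rw [map_one, one_mul, minusForm_apply, minusForm_apply] at h1
    exact h1
  have key := preserves_iff_rank_of_equiv h2K (k := m + 1) (by omega) (Or.inl hcardK)
    (quadFormMinus m K (algebraMap F K a) (algebraMap F K b)) (Lequiv m ρ ρ' hne)
    (fun v => by rw [Lequiv_apply]; exact plusForm_Lmap m ρ ρ' _ _ hsum hprod v) _ hgdet hsimK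
  rw [key]
  have e1 : (g : Matrix ((Fin m ⊕ Fin m) ⊕ Fin 2) ((Fin m ⊕ Fin m) ⊕ Fin 2) F).map
      (algebraMap F K) - 1
      = ((g : Matrix ((Fin m ⊕ Fin m) ⊕ Fin 2) ((Fin m ⊕ Fin m) ⊕ Fin 2) F) - 1).map
        (algebraMap F K) := by
    rw [Matrix.map_sub (f := algebraMap F K) (fun _ _ => map_sub _ _ _)]
    congr 1
    ext i j
    rw [Matrix.map_apply, Matrix.one_apply, Matrix.one_apply]
    split_ifs
    · rw [map_one]
    · rw [map_zero]
  rw [e1, rank_map_field]

end Rank

end Cfsg.Agent.Helper8.Cls
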