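import Mathlib
import Cfsg.Agent.Helper8.ClsB
import Cfsg.Agent.Helper8.AutImagePsi
import Cfsg.Agent.Helper8.OmegaEven

set_option autoImplicit false
set_option linter.style.haveILetI false
set_option linter.unusedSectionVars false

/-!
# The class-preserving similarities, part C: the class predicate and the class character of the
conformal group of a quadratic form in even dimension over a finite field (helper8)
-/

namespace Cfsg.Agent.Helper8.Cls

open Module Cfsg Matrix Cfsg.Agent.Helper8.StdForms Cfsg.Agent.Helper8.AutImagePsi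
  Cfsg.Agent.Helper8.AutImageOrth Cfsg.Agent.Helper8.ReflMatrix Cfsg.Agent.Helper8.OmegaEven
  Cfsg.Agent.Helper8.DicksonRank

section Pred

variable {F : Type*} [Field F] {ι : Type} [Fintype ι] [DecidableEq ι]

/-- the class predicate on a similarity `g` with multiplier `c` in dimension `2k`: in odd
characteristic `det g = c ^ k`; in characteristic two `g - d` has even rank, `d ^ 2 = c`. -/
def IsCP (k : ℕ) (g : Matrix ι ι F) (c : F) : Prop :=
  ((2 : F) ≠ 0 ∧ g.det = c ^ k) ∨
    ((2 : F) = 0 ∧ ∃ d : F, d * d = c ∧ Even (g - d • (1 : Matrix ι ι F)).rank)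

/-- the class predicate is transported by semilinear conjugation. -/
theorem isCP_conj (k : ℕ) (g g' M : Matrix ι ι F) (hM : M.det ≠ 0) (τ : F →+* F) (c : F)
    (h : g' * M = M * g.map τ) (hg : IsCP k g c) : IsCP k g' (τ c) := by
  have hmapdet : ∀ A : Matrix ι ι F, (A.map τ).det = τ A.det := by
    intro A
    rw [← RingHom.mapMatrix_apply, ← RingHom.map_det]
  rcases hg with ⟨h2, hdet⟩ | ⟨h2, d, hd, hev⟩
  · left
    refine ⟨h2, ?_⟩
    have h1 := congrArg Matrix.det h
    rw [Matrix.det_mul, Matrix.det_mul, hmapdet, hdet, map_pow] at h1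
    apply mul_right_cancel₀ hM
    rw [h1, mul_comm]
  · right
    refine ⟨h2, τ d, by rw [← map_mul, hd], ?_⟩
    have h1 : (g' - τ d • (1 : Matrix ι ι F)) * M = M * (g - d • (1 : Matrix ι ι F)).map τ := by
      rw [Matrix.sub_mul, h, Matrix.map_sub (f := τ) (fun _ _ => map_sub _ _ _), Matrix.mul_sub,
        Matrix.smul_mul, Matrix.one_mul]
      congr 1
      have : (d • (1 : Matrix ι ι F)).map τ = τ d • (1 : Matrix ι ι F) := by
        ext i j
        rw [Matrix.map_apply, Matrix.smul_apply, Matrix.smul_apply, Matrix.one_apply,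
          smul_eq_mul, smul_eq_mul, map_mul]
        split_ifs
        · rw [map_one]
        · rw [map_zero]
      rw [this, Matrix.mul_smul, Matrix.mul_one]
    have h3 : (g' - τ d • (1 : Matrix ι ι F)).rank = (g - d • (1 : Matrix ι ι F)).rank := by
      rw [← rank_mul_eq_left_of_isUnit_det M _ (IsUnit.mk0 _ hM), h1,
        rank_mul_eq_right_of_isUnit_det M _ (IsUnit.mk0 _ hM), rank_map_field]
    rw [h3]
    exact hev

end Pred

section Char

variable {F : Type*} [Field F] [Fintype F] {ι : Type} [Fintype ι] [DecidableEq ι]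
  (Q : QuadraticForm F (ι → F))

/-- the square root on the units of a finite field of characteristic two. -/
noncomputable def sqrtU : Fˣ →* Fˣ := powMonoidHom (Fintype.card F / 2)

theorem sqrtU_mul_self (h2 : (2 : F) = 0) (c : Fˣ) : sqrtU c * sqrtU c = c := by
  have hchar : CharP F 2 := CharTwo.of_one_ne_zero_of_two_eq_zero one_ne_zero h2
  have heven : Fintype.card F % 2 = 0 := FiniteField.even_card_of_char_two (ringChar.eq F 2)
  apply Units.ext
  show ((c ^ (Fintype.card F / 2) * c ^ (Fintype.card F / 2) : Fˣ) : F) = c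
  rw [← pow_add, Units.val_pow_eq_pow_val]
  have : Fintype.card F / 2 + Fintype.card F / 2 = Fintype.card F := by omega
  rw [this, FiniteField.pow_card]

theorem eq_sqrtU (h2 : (2 : F) = 0) {c : Fˣ} {d : F} (hd : d * d = c) : d = (sqrtU c : Fˣ) := by
  have h1 := congrArg (fun x : Fˣ => (x : F)) (sqrtU_mul_self h2 c)
  simp only [Units.val_mul] at h1
  have h3 : (d - (sqrtU c : Fˣ)) * (d - (sqrtU c : Fˣ)) = 0 := by
    have : (d - (sqrtU c : Fˣ)) * (d - (sqrtU c : Fˣ))
        = d * d + ((sqrtU c : Fˣ) : F) * (sqrtU c : Fˣ) - 2 * (d * (sqrtU c : Fˣ)) := by ring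
    rw [this, hd, h1, h2, zero_mul, sub_zero]
    have : (c : F) + c = 2 * c := by ring
    rw [this, h2, zero_mul]
  have h4 := mul_self_eq_zero.mp h3
  exact sub_eq_zero.mp h4

variable (hQ : (QuadraticMap.polarBilin Q).Nondegenerate) (hne : ∃ v, Q v ≠ 0)

/-- the isometry part of a similarity in characteristic two. -/
noncomputable def isoPart (h2 : (2 : F) = 0) :
    ↥(Geo.quadSimilarityGroup (F := F) ⇑Q) →* ↥(Cfsg.isometryGroup F ⇑Q) where
  toFun g := ⟨(Matrix.GeneralLinearGroup.scalar ι (sqrtU (mult ⇑Q hne g)))⁻¹ * (g : GL ι F), by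
    have h1 : ((scalarGO Q (sqrtU (mult ⇑Q hne g)))⁻¹ * g :
        ↥(Geo.quadSimilarityGroup (F := F) ⇑Q)) ∈ (mult ⇑Q hne).ker := by
      rw [MonoidHom.mem_ker, map_mul, map_inv, mult_of_scalar Q hne _ _ (scalarGO_val Q _),
        sqrtU_mul_self h2, inv_mul_cancel]
    exact isometry_of_mult ⇑Q hne _ h1⟩
  map_one' := by
    apply Subtype.ext
    show (Matrix.GeneralLinearGroup.scalar ι (sqrtU (mult ⇑Q hne 1)))⁻¹ * ((1 :
      ↥(Geo.quadSimilarityGroup (F := F) ⇑Q)) : GL ι F) = 1
    rw [map_one, map_one, map_one, inv_one, one_mul]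
    rfl
  map_mul' a b := by
    apply Subtype.ext
    show (Matrix.GeneralLinearGroup.scalar ι (sqrtU (mult ⇑Q hne (a * b))))⁻¹ * ((a * b :
      ↥(Geo.quadSimilarityGroup (F := F) ⇑Q)) : GL ι F)
      = ((Matrix.GeneralLinearGroup.scalar ι (sqrtU (mult ⇑Q hne a)))⁻¹ * (a : GL ι F)) *
        ((Matrix.GeneralLinearGroup.scalar ι (sqrtU (mult ⇑Q hne b)))⁻¹ * (b : GL ι F))
    have hcomm : Commute (Matrix.GeneralLinearGroup.scalar ι (sqrtU (mult ⇑Q hne b)))
        (a : GL ι F) := Matrix.GeneralLinearGroup.scalar_commute _ _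
    have e : ((a * b : ↥(Geo.quadSimilarityGroup (F := F) ⇑Q)) : GL ι F)
        = (a : GL ι F) * (b : GL ι F) := rfl
    rw [e, map_mul, map_mul, mul_comm (sqrtU (mult ⇑Q hne a)), map_mul, _root_.mul_inv_rev]
    calc (Matrix.GeneralLinearGroup.scalar ι (sqrtU (mult ⇑Q hne a)))⁻¹ *
          (Matrix.GeneralLinearGroup.scalar ι (sqrtU (mult ⇑Q hne b)))⁻¹ * ((a : GL ι F) * b)
        = (Matrix.GeneralLinearGroup.scalar ι (sqrtU (mult ⇑Q hne a)))⁻¹ *
          ((Matrix.GeneralLinearGroup.scalar ι (sqrtU (mult ⇑Q hne b)))⁻¹ * (a : GL ι F)) * b := by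
          group
      _ = (Matrix.GeneralLinearGroup.scalar ι (sqrtU (mult ⇑Q hne a)))⁻¹ *
          ((a : GL ι F) * (Matrix.GeneralLinearGroup.scalar ι (sqrtU (mult ⇑Q hne b)))⁻¹) * b := by
          rw [hcomm.inv_left.eq]
      _ = _ := by
          group

theorem isoPart_val (h2 : (2 : F) = 0) (g : ↥(Geo.quadSimilarityGroup (F := F) ⇑Q)) :
    ((isoPart Q hne h2 g : GL ι F) : Matrix ι ι F)
      = ((sqrtU (mult ⇑Q hne g) : Fˣ) : F)⁻¹ • ((g : GL ι F) : Matrix ι ι F) := by
  show (((Matrix.GeneralLinearGroup.scalar ι (sqrtU (mult ⇑Q hne g)))⁻¹ * (g : GL ι F) : GL ι F) :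
    Matrix ι ι F) = _
  rw [← map_inv, Units.val_mul, Matrix.GeneralLinearGroup.coe_scalar, Matrix.scalar_apply,
    ← Matrix.smul_one_eq_diagonal, Matrix.smul_mul, Matrix.one_mul, Units.val_inv_eq_inv_val]

variable (k : ℕ) (hk : Fintype.card ι = 2 * k)

open Classical in
/-- the class character of the conformal group. -/
noncomputable def clsChar : ↥(Geo.quadSimilarityGroup (F := F) ⇑Q) →* ℤˣ :=
  if h2 : (2 : F) = 0 then (dicksonMat Q h2 hQ).comp (isoPart Q hne h2)
  else psi2 Q h2 hQ hne k hk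

theorem clsChar_eq_one_iff (g : ↥(Geo.quadSimilarityGroup (F := F) ⇑Q)) :
    clsChar Q hQ hne k hk g = 1 ↔
      IsCP k ((g : GL ι F) : Matrix ι ι F) ((mult ⇑Q hne g : Fˣ) : F) := by
  unfold clsChar IsCP
  by_cases h2 : (2 : F) = 0
  · rw [dif_pos h2, MonoidHom.comp_apply, dicksonMat_eq,
      neg_one_pow_eq_one_iff_even (by decide : (-1 : ℤˣ) ≠ 1), isoPart_val]
    have hc0 : ((sqrtU (mult ⇑Q hne g) : Fˣ) : F) ≠ 0 := Units.ne_zero _
    have hrank : (((sqrtU (mult ⇑Q hne g) : Fˣ) : F)⁻¹ • ((g : GL ι F) : Matrix ι ι F) - 1).rank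
        = (((g : GL ι F) : Matrix ι ι F)
          - ((sqrtU (mult ⇑Q hne g) : Fˣ) : F) • (1 : Matrix ι ι F)).rank := by
      have e : ((sqrtU (mult ⇑Q hne g) : Fˣ) : F)⁻¹ • ((g : GL ι F) : Matrix ι ι F) - 1
          = Matrix.diagonal (fun _ => ((sqrtU (mult ⇑Q hne g) : Fˣ) : F)⁻¹) *
            (((g : GL ι F) : Matrix ι ι F)
              - ((sqrtU (mult ⇑Q hne g) : Fˣ) : F) • (1 : Matrix ι ι F)) := by
        rw [← Matrix.smul_one_eq_diagonal, Matrix.smul_mul, Matrix.one_mul, smul_sub, smul_smul,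
          inv_mul_cancel₀ hc0, one_smul]
      rw [e]
      apply rank_mul_eq_right_of_isUnit_det
      rw [Matrix.det_diagonal, Finset.prod_const]
      exact IsUnit.mk0 _ (pow_ne_zero _ (inv_ne_zero hc0))
    rw [hrank]
    constructor
    · intro h
      right
      refine ⟨h2, _, ?_, h⟩
      have := congrArg (fun x : Fˣ => (x : F)) (sqrtU_mul_self h2 (mult ⇑Q hne g))
      simpa using this
    · rintro (⟨h, -⟩ | ⟨-, d, hd, hev⟩)
      · exact absurd h2 h
      · rw [eq_sqrtU h2 hd] at hev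
        exact hev
  · rw [dif_neg h2, psi2_eq_one_iff]
    constructor
    · intro h
      exact Or.inl ⟨h2, h⟩
    · rintro (⟨-, h⟩ | ⟨h, -⟩)
      · exact h
      · exact absurd h h2

/-- the class character of a reflection. -/
theorem clsChar_reflElt (g : ↥(Geo.quadSimilarityGroup (F := F) ⇑Q)) {z : ι → F} (hz : Q z ≠ 0)
    (hg : (g : GL ι F) = (reflElt Q z : GL ι F)) : clsChar Q hQ hne k hk g = -1 := by
  have hiso : (g : GL ι F) ∈ Cfsg.isometryGroup F ⇑Q := by
    rw [hg]
    exact (reflElt Q z).2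
  have hmult : mult ⇑Q hne g = 1 := mult_of_isometry ⇑Q hne g hiso
  unfold clsChar
  by_cases h2 : (2 : F) = 0
  · rw [dif_pos h2, MonoidHom.comp_apply]
    have : isoPart Q hne h2 g = reflElt Q z := by
      apply Subtype.ext
      show (Matrix.GeneralLinearGroup.scalar ι (sqrtU (mult ⇑Q hne g)))⁻¹ * (g : GL ι F) = _
      rw [hmult, map_one, map_one, inv_one, one_mul, hg]
    rw [this]
    exact dicksonMat_reflElt Q h2 hQ hz
  · rw [dif_neg h2, psi2_eq_neg_one_iff, hmult, Units.val_one, one_pow, hg, reflElt_val,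
      det_reflectionMatrix Q hz]
    intro h
    apply h2
    have : (2 : F) = 1 - (-1) := by ring
    rw [this, h, sub_self]

end Char

end Cfsg.Agent.Helper8.Cls
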