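import Mathlib
import Cfsg.Agent.Helper8.InnDiagMinusE
import Cfsg.Agent.Helper8.OmegaOdd

set_option autoImplicit false

/-! `PreservesSingularClassesMinus` for a similarity of the minus-type form: the determinant
criterion (helper8). -/

namespace Cfsg.Agent.Helper8.InnDiagMinus

open Module Cfsg Cfsg.Agent.Helper8.StdForms Cfsg.Agent.Helper8.QuadForm
  Cfsg.Agent.Helper8.OmegaStd
open scoped Matrix Polynomial

universe u

/-- a finite field of odd order has a quadratic extension in the same universe -/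
theorem exists_quadratic_ext (F : Type u) [Field F] [Fintype F] (hodd : Odd (Fintype.card F)) :
    ∃ (K : Type u) (_ : Field K) (_ : Algebra F K), finrank F K = 2 := by
  have h2 : (2 : F) ≠ 0 := two_ne_zero_of_odd hodd
  obtain ⟨e, he⟩ := Cfsg.Agent.Helper8.OmegaOdd.exists_nonsquare (F := F) h2
  obtain ⟨f, hf⟩ : ∃ f : F[X], f = Polynomial.X ^ 2 - Polynomial.C e := ⟨_, rfl⟩
  have hdeg : f.natDegree = 2 := by rw [hf, Polynomial.natDegree_X_pow_sub_C]
  have hirr : Irreducible f := by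
    apply Polynomial.irreducible_of_degree_le_three_of_not_isRoot
    · rw [hdeg]; decide
    · intro x hx
      rw [hf, Polynomial.IsRoot.def, Polynomial.eval_sub, Polynomial.eval_pow, Polynomial.eval_X,
        Polynomial.eval_C, sub_eq_zero] at hx
      exact he ⟨x, by rw [← hx, pow_two]⟩
  haveI : Fact (Irreducible f) := ⟨hirr⟩
  have hf0 : f ≠ 0 := hirr.ne_zero
  refine ⟨AdjoinRoot f, inferInstance, inferInstance, ?_⟩
  rw [(AdjoinRoot.powerBasis hf0).finrank, AdjoinRoot.powerBasis_dim, hdeg]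

/-- **a similarity of the minus-type form with multiplier `c` preserves the two classes (over a
quadratic extension) iff its determinant is `c ^ (m + 1)`** -/
theorem preservesMinus_iff_det {F : Type u} [Field F] [Fintype F] (hodd : Odd (Fintype.card F))
    {m : ℕ} (a b : F)
    (hab : ∀ z₁ z₂ : F, z₁ ^ 2 + a * z₁ * z₂ + b * z₂ ^ 2 = 0 → z₁ = 0 ∧ z₂ = 0)
    (g : GL ((Fin m ⊕ Fin m) ⊕ Fin 2) F) (c : Fˣ)
    (hc : ∀ u, quadFormMinus m F a b
      ((g : Matrix ((Fin m ⊕ Fin m) ⊕ Fin 2) ((Fin m ⊕ Fin m) ⊕ Fin 2) F) *ᵥ u)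
        = (c : F) * quadFormMinus m F a b u) :
    PreservesSingularClassesMinus m a b
      (g : Matrix ((Fin m ⊕ Fin m) ⊕ Fin 2) ((Fin m ⊕ Fin m) ⊕ Fin 2) F) ↔
      (g : Matrix ((Fin m ⊕ Fin m) ⊕ Fin 2) ((Fin m ⊕ Fin m) ⊕ Fin 2) F).det = (c : F) ^ (m + 1) := by
  constructor
  · rintro ⟨K, hKf, hKa, hK, hpres⟩
    exact (preservesK_iff_det hodd a b hab hK g c hc).mp hpres
  · intro hdet
    obtain ⟨K, hKf, hKa, hK⟩ := exists_quadratic_ext F hodd
    exact ⟨K, hKf, hKa, hK, (preservesK_iff_det hodd a b hab hK g c hc).mpr hdet⟩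

end Cfsg.Agent.Helper8.InnDiagMinus
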