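import Mathlib
import Cfsg.Agent.Helper8.ClsC
import Cfsg.Agent.Helper8.InnDiagMinusF

set_option autoImplicit false
set_option linter.style.haveILetI false
set_option linter.unusedSectionVars false

/-!
# The class-preserving similarities, part D: for the minus-type form the similarities preserving
the two classes over a quadratic extension are those with the class predicate (helper8)
-/

namespace Cfsg.Agent.Helper8.Cls

open Module Cfsg Matrix Cfsg.Agent.Helper8.StdForms Cfsg.Agent.Helper8.AutImagePsi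
  Cfsg.Agent.Helper8.AutImageOrth Cfsg.Agent.Helper8.InnDiagMinus

section Smul

variable {K : Type*} [Field K] {ι : Type} [Fintype ι] [DecidableEq ι]

theorem imageSubmodule_smul (A : Matrix ι ι K) {c : K} (hc : c ≠ 0) (U : Submodule K (ι → K)) :
    imageSubmodule (c • A) U = imageSubmodule A U := by
  unfold imageSubmodule
  rw [map_smul]
  exact Submodule.map_smul _ _ c hc

/-- a nonzero scalar multiple preserves the classes iff the matrix does. -/
theorem preserves_smul (Q : (ι → K) → K) (A : Matrix ι ι K) {c : K} (hc : c ≠ 0) :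
    PreservesSingularClasses Q (c • A) ↔ PreservesSingularClasses Q A := by
  unfold PreservesSingularClasses
  constructor
  · intro h U hU
    rw [← imageSubmodule_smul A hc U]
    exact h U hU
  · intro h U hU
    rw [imageSubmodule_smul A hc U]
    exact h U hU

end Smul

universe u

/-- **a similarity of the minus-type form preserves the two classes (over a quadratic extension)
iff it has the class predicate**, in any characteristic. -/
theorem preservesMinus_iff_isCP {F : Type u} [Field F] [Fintype F] {m : ℕ} (a b : F)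
    (hab : ∀ z₁ z₂ : F, z₁ ^ 2 + a * z₁ * z₂ + b * z₂ ^ 2 = 0 → z₁ = 0 ∧ z₂ = 0)
    (g : GL ((Fin m ⊕ Fin m) ⊕ Fin 2) F) (c : Fˣ)
    (hc : ∀ u, quadFormMinus m F a b
      ((g : Matrix ((Fin m ⊕ Fin m) ⊕ Fin 2) ((Fin m ⊕ Fin m) ⊕ Fin 2) F) *ᵥ u)
        = (c : F) * quadFormMinus m F a b u) :
    PreservesSingularClassesMinus m a b
      (g : Matrix ((Fin m ⊕ Fin m) ⊕ Fin 2) ((Fin m ⊕ Fin m) ⊕ Fin 2) F) ↔
      IsCP (m + 1) (g : Matrix ((Fin m ⊕ Fin m) ⊕ Fin 2) ((Fin m ⊕ Fin m) ⊕ Fin 2) F) (c : F) := by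
  by_cases h2 : (2 : F) = 0
  · -- characteristic two
    obtain ⟨d, hd⟩ : ∃ d : Fˣ, d = sqrtU c := ⟨_, rfl⟩
    have hdd : (d : F) * d = c := by
      have := congrArg (fun x : Fˣ => (x : F)) (sqrtU_mul_self h2 c)
      rw [← hd] at this
      simpa using this
    obtain ⟨g₀, hg₀⟩ : ∃ g₀ : GL ((Fin m ⊕ Fin m) ⊕ Fin 2) F,
        g₀ = (Matrix.GeneralLinearGroup.scalar _ d)⁻¹ * g := ⟨_, rfl⟩
    have hg₀v : (g₀ : Matrix ((Fin m ⊕ Fin m) ⊕ Fin 2) ((Fin m ⊕ Fin m) ⊕ Fin 2) F)
        = (d : F)⁻¹ • (g : Matrix ((Fin m ⊕ Fin m) ⊕ Fin 2) ((Fin m ⊕ Fin m) ⊕ Fin 2) F) := by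
      rw [hg₀, ← map_inv, Units.val_mul, Matrix.GeneralLinearGroup.coe_scalar,
        Matrix.scalar_apply, ← Matrix.smul_one_eq_diagonal, Matrix.smul_mul, Matrix.one_mul,
        Units.val_inv_eq_inv_val]
    have hd0 : (d : F) ≠ 0 := Units.ne_zero d
    have hiso : ∀ u, quadFormMinus m F a b
        ((g₀ : Matrix ((Fin m ⊕ Fin m) ⊕ Fin 2) ((Fin m ⊕ Fin m) ⊕ Fin 2) F) *ᵥ u)
          = quadFormMinus m F a b u := by
      intro u
      rw [hg₀v, Matrix.smul_mulVec, ← minusForm_apply, QuadraticMap.map_smul, minusForm_apply, hc,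
        smul_eq_mul, ← hdd]
      field_simp
    have hrank : ((g₀ : Matrix ((Fin m ⊕ Fin m) ⊕ Fin 2) ((Fin m ⊕ Fin m) ⊕ Fin 2) F) - 1).rank
        = ((g : Matrix ((Fin m ⊕ Fin m) ⊕ Fin 2) ((Fin m ⊕ Fin m) ⊕ Fin 2) F)
          - (d : F) • (1 : Matrix _ _ F)).rank := by
      have e : (g₀ : Matrix ((Fin m ⊕ Fin m) ⊕ Fin 2) ((Fin m ⊕ Fin m) ⊕ Fin 2) F) - 1
          = Matrix.diagonal (fun _ => (d : F)⁻¹) *
            ((g : Matrix ((Fin m ⊕ Fin m) ⊕ Fin 2) ((Fin m ⊕ Fin m) ⊕ Fin 2) F)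
              - (d : F) • (1 : Matrix _ _ F)) := by
        rw [hg₀v, ← Matrix.smul_one_eq_diagonal, Matrix.smul_mul, Matrix.one_mul, smul_sub,
          smul_smul, inv_mul_cancel₀ hd0, one_smul]
      rw [e]
      apply rank_mul_eq_right_of_isUnit_det
      rw [Matrix.det_diagonal, Finset.prod_const]
      exact IsUnit.mk0 _ (pow_ne_zero _ (inv_ne_zero hd0))
    have hmapK : ∀ (K : Type u) [Field K] [Algebra F K],
        (g₀ : Matrix ((Fin m ⊕ Fin m) ⊕ Fin 2) ((Fin m ⊕ Fin m) ⊕ Fin 2) F).map (algebraMap F K)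
          = (algebraMap F K (d : F)⁻¹) •
            (g : Matrix ((Fin m ⊕ Fin m) ⊕ Fin 2) ((Fin m ⊕ Fin m) ⊕ Fin 2) F).map
              (algebraMap F K) := by
      intro K _ _
      rw [hg₀v]
      ext i j
      rw [Matrix.map_apply, Matrix.smul_apply, Matrix.smul_apply, Matrix.map_apply, smul_eq_mul,
        smul_eq_mul, map_mul]
    have hdK : ∀ (K : Type u) [Field K] [Algebra F K], algebraMap F K (d : F)⁻¹ ≠ 0 := by
      intro K _ _
      rw [Ne, map_eq_zero_iff _ (algebraMap F K).injective]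
      exact inv_ne_zero hd0
    constructor
    · rintro ⟨K, hKf, hKa, hK, hpres⟩
      right
      refine ⟨h2, d, hdd, ?_⟩
      rw [← hrank, ← preservesK_iff_rank h2 a b hab hK g₀ hiso, hmapK K,
        preserves_smul _ _ (hdK K)]
      exact hpres
    · rintro (⟨h, -⟩ | ⟨-, d', hd', hev⟩)
      · exact absurd h2 h
      · obtain ⟨K, hKf, hKa, hK⟩ := exists_quadratic_ext_of_aniso hab
        refine ⟨K, hKf, hKa, hK, ?_⟩
        have hd'eq : d' = d := by rw [hd]; exact eq_sqrtU h2 hd'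
        rw [hd'eq, ← hrank, ← preservesK_iff_rank h2 a b hab hK g₀ hiso, hmapK K,
          preserves_smul _ _ (hdK K)] at hev
        exact hev
  · -- odd characteristic
    have hodd : Odd (Fintype.card F) := by
      rw [Nat.odd_iff]
      apply FiniteField.odd_card_of_char_ne_two
      intro h
      apply h2
      have := CharP.cast_eq_zero F (ringChar F)
      rw [h] at this
      exact_mod_cast this
    rw [preservesMinus_iff_det hodd a b hab g c hc]
    unfold IsCP
    constructor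
    · intro h
      exact Or.inl ⟨h2, h⟩
    · rintro (⟨-, h⟩ | ⟨h, -⟩)
      · exact h
      · exact absurd h h2

end Cfsg.Agent.Helper8.Cls
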