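import Mathlib
import Cfsg.Agent.Helper8.AutOzy
import Cfsg.Agent.Helper8.AutOzs
import Cfsg.Agent.Helper8.ClsD

set_option autoImplicit false
set_option linter.unusedSectionVars false
set_option linter.style.haveILetI false

/-!
# Automorphisms of orthogonal groups, part zz: the image of the class-preserving similarities in
`Aut(PΩ(Q))`: it is normal, and it is transported by every isomorphism between the groups `PΩ` of
two isometric forms
-/

namespace Cfsg.Agent.Helper8.AutO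

open Module Matrix Cfsg.Agent.Helper8.QuadForm Cfsg.Agent.Helper8.WittQuad
  Cfsg.Agent.Helper8.OrthOrder
  Cfsg.Agent.Helper8.Siegel Cfsg.Agent.Helper8.SiegelGeom Cfsg.Agent.Helper8.SiegelGroup
  Cfsg.Agent.Helper8.SiegelPrim Cfsg.Agent.Helper8.SiegelSimple Cfsg.Agent.Helper8.ReflMatrix
  Cfsg.Agent.Helper8.OmegaSimple Cfsg.Agent.Helper8.AutImagePsi Cfsg.Agent.Helper8.AutImageOrth
  Cfsg.Agent.Helper8.StdForms Cfsg.Agent.Helper8.AutImage Cfsg.Agent.Helper8.AutImageKer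
  Cfsg.Agent.Helper8.AutImageIdx Cfsg.Agent.Helper8.Cls
open Cfsg.Agent.Helper8.AutSLn (gls)

variable {F : Type*} [Field F] [Fintype F] {ι : Type} [Fintype ι] [DecidableEq ι]
  (Q : QuadraticForm F (ι → F)) (hQ : (QuadraticMap.polarBilin Q).Nondegenerate)
  (hne : ∃ v, Q v ≠ 0) (k : ℕ) (hk : Fintype.card ι = 2 * k)

/-- the image of the class-preserving similarities in `Aut(PΩ(Q))`. -/
noncomputable def cpAut : Subgroup (MulAut (Cfsg.POmega F ⇑Q)) :=
  (clsChar Q hQ hne k hk).ker.map (Phi ⇑Q)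

theorem mem_cpAut_iff (β : MulAut (Cfsg.POmega F ⇑Q)) :
    β ∈ cpAut Q hQ hne k hk ↔ ∃ g : ↥(Cfsg.Geo.quadSimilarityGroup (F := F) ⇑Q),
      IsCP k ((g : GL ι F) : Matrix ι ι F) ((mult ⇑Q hne g : Fˣ) : F) ∧ Phi ⇑Q g = β := by
  unfold cpAut
  rw [Subgroup.mem_map]
  constructor
  · rintro ⟨g, hg, rfl⟩
    exact ⟨g, (clsChar_eq_one_iff Q hQ hne k hk g).mp hg, rfl⟩
  · rintro ⟨g, hg, rfl⟩
    exact ⟨g, (clsChar_eq_one_iff Q hQ hne k hk g).mpr hg, rfl⟩

/-- if a predicate on similarities is the class predicate, the subgroup generated by the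
corresponding induced automorphisms is `cpAut`. -/
theorem autSub_eq_cpAut (P : Matrix ι ι F → Prop)
    (hP : ∀ g : ↥(Cfsg.Geo.quadSimilarityGroup (F := F) ⇑Q),
      P ((g : GL ι F) : Matrix ι ι F) ↔
        IsCP k ((g : GL ι F) : Matrix ι ι F) ((mult ⇑Q hne g : Fˣ) : F)) :
    Cfsg.autSubgroupOf (fun β : Cfsg.POmega F ⇑Q ≃* Cfsg.POmega F ⇑Q => ∃ g : GL ι F,
      g ∈ Cfsg.Geo.quadSimilarityGroup (F := F) ⇑Q ∧ P (g : Matrix ι ι F) ∧
      Cfsg.IsInducedBySemilinearPOmega ⇑Q g (RingEquiv.refl F) β) = cpAut Q hQ hne k hk := by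
  unfold Cfsg.autSubgroupOf
  have hset : {β : MulAut (Cfsg.POmega F ⇑Q) | ∃ g : GL ι F,
      g ∈ Cfsg.Geo.quadSimilarityGroup (F := F) ⇑Q ∧ P (g : Matrix ι ι F) ∧
      Cfsg.IsInducedBySemilinearPOmega ⇑Q g (RingEquiv.refl F) β}
      = ((cpAut Q hQ hne k hk : Subgroup (MulAut (Cfsg.POmega F ⇑Q))) :
        Set (MulAut (Cfsg.POmega F ⇑Q))) := by
    ext β
    rw [SetLike.mem_coe, mem_cpAut_iff]
    constructor
    · rintro ⟨g, hg, hpres, hind⟩
      rw [induced_iff ⇑Q hg] at hind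
      exact ⟨⟨g, hg⟩, (hP ⟨g, hg⟩).mp hpres, hind.symm⟩
    · rintro ⟨g, hg, rfl⟩
      exact ⟨g.1, g.2, (hP g).mpr hg, (induced_iff ⇑Q g.2 _).mpr rfl⟩
  rw [hset, Subgroup.closure_eq]

section Conj

variable [Nontrivial (ι → F)]

/-- conjugating a similarity by a semilinear similarity, with the matrix relation. -/
theorem exists_conj_simGamma_mat (γ : ↥(GammaO Q))
    (g : ↥(Cfsg.Geo.quadSimilarityGroup (F := F) ⇑Q)) :
    ∃ (g' : ↥(Cfsg.Geo.quadSimilarityGroup (F := F) ⇑Q)) (M : GL ι F),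
      γ * simGamma Q g * γ⁻¹ = simGamma Q g' ∧
      ((mult ⇑Q hne g' : Fˣ) : F) = tau γ ((mult ⇑Q hne g : Fˣ) : F) ∧
      ((g' : GL ι F) : Matrix ι ι F) * (M : Matrix ι ι F)
        = (M : Matrix ι ι F) * (((g : GL ι F) : Matrix ι ι F).map (tau γ)) := by
  obtain ⟨g', hg', hmult, -⟩ := exists_conj_simGamma Q hne γ g
  have hrel : ∀ v, ((g' : GL ι F) : Matrix ι ι F) *ᵥ gap γ v
      = gap γ (((g : GL ι F) : Matrix ι ι F) *ᵥ v) := by
    intro v
    rw [← gap_simGamma, ← hg', gap_mul, gap_mul, gap_inv_gap, gap_simGamma]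
  obtain ⟨M, hM⟩ := exists_matrix (semiSim_tau γ)
  refine ⟨g', M, hg', hmult, ?_⟩
  apply Matrix.toLin'.injective
  apply LinearMap.ext
  intro u
  obtain ⟨v, rfl⟩ : ∃ v : ι → F, (fun i => tau γ (v i)) = u :=
    ⟨fun i => (tau γ).symm (u i), by funext i; exact (tau γ).apply_symm_apply (u i)⟩
  rw [Matrix.toLin'_apply, Matrix.toLin'_apply, ← mulVec_mulVec, ← hM, hrel, hM,
    ← mulVec_mulVec, map_mulVec_sigma]

/-- the class predicate is invariant under conjugation by semilinear similarities. -/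
theorem isCP_of_conj (γ : ↥(GammaO Q)) (g g' : ↥(Cfsg.Geo.quadSimilarityGroup (F := F) ⇑Q))
    (h : γ * simGamma Q g * γ⁻¹ = simGamma Q g')
    (hg : IsCP k ((g : GL ι F) : Matrix ι ι F) ((mult ⇑Q hne g : Fˣ) : F)) :
    IsCP k ((g' : GL ι F) : Matrix ι ι F) ((mult ⇑Q hne g' : Fˣ) : F) := by
  obtain ⟨g'', M, h1, hmult, hmat⟩ := exists_conj_simGamma_mat Q hne γ g
  have e : g'' = g' := simGamma_injective Q (h1.symm.trans h)
  subst e
  rw [hmult]
  have hM0 : (M : Matrix ι ι F).det ≠ 0 := by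
    have := (Matrix.GeneralLinearGroup.det M).ne_zero
    exact this
  exact isCP_conj k _ _ (M : Matrix ι ι F) hM0 ((tau γ : F ≃+* F) : F →+* F) _ hmat hg

theorem clsChar_conj (γ : ↥(GammaO Q)) (g g' : ↥(Cfsg.Geo.quadSimilarityGroup (F := F) ⇑Q))
    (h : γ * simGamma Q g * γ⁻¹ = simGamma Q g') :
    clsChar Q hQ hne k hk g' = clsChar Q hQ hne k hk g := by
  have h' : γ⁻¹ * simGamma Q g' * γ⁻¹⁻¹ = simGamma Q g := by
    rw [← h, inv_inv]
    group
  have hiff : clsChar Q hQ hne k hk g' = 1 ↔ clsChar Q hQ hne k hk g = 1 := by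
    rw [clsChar_eq_one_iff, clsChar_eq_one_iff]
    exact ⟨isCP_of_conj Q hne k γ⁻¹ g' g h', isCP_of_conj Q hne k γ g g' h⟩
  rcases Int.units_eq_one_or (clsChar Q hQ hne k hk g') with h1 | h1
  · rw [h1, hiff.mp h1]
  · rcases Int.units_eq_one_or (clsChar Q hQ hne k hk g) with h3 | h3
    · rw [hiff.mpr h3] at h1
      exact absurd h1 (by decide)
    · rw [h1, h3]

variable (h5 : 5 ≤ Fintype.card ι)

include h5 in
/-- the image of the class-preserving similarities is normal in `Aut(PΩ(Q))`. -/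
theorem cpAut_normal (hsurj : Function.Surjective (Psi (Q := Q))) :
    (cpAut Q hQ hne k hk).Normal := by
  constructor
  intro β hβ α
  obtain ⟨γ, rfl⟩ := PsiM_surjective Q hQ h5 hsurj α
  rw [mem_cpAut_iff] at hβ ⊢
  obtain ⟨g, hg, rfl⟩ := hβ
  obtain ⟨g', M, h1, -, -⟩ := exists_conj_simGamma_mat Q hne γ g
  refine ⟨g', isCP_of_conj Q hne k γ g g' h1 hg, ?_⟩
  rw [← PsiM_simGamma Q hQ h5, ← PsiM_simGamma Q hQ h5, ← h1, map_mul, map_mul, map_inv]

end Conj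

end Cfsg.Agent.Helper8.AutO
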