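import Mathlib
import Cfsg.Agent.Helper8.AutOzz
import Cfsg.Agent.Helper8.ClsD
import Cfsg.Agent.Helper8.InnDiagPlusC

set_option autoImplicit false
set_option linter.unusedSectionVars false
set_option linter.style.haveILetI false

/-!
# Automorphisms of orthogonal groups, part Pa: for the plus-type form the similarities preserving
the two classes of maximal totally singular subspaces are those with the class predicate, and the
inner-diagonal group of `PΩ⁺` is the image of the class-preserving similarities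
-/

namespace Cfsg.Agent.Helper8.AutO

open Module Matrix Cfsg Cfsg.Agent.Helper8.StdForms Cfsg.Agent.Helper8.AutImagePsi
  Cfsg.Agent.Helper8.AutImageOrth Cfsg.Agent.Helper8.Cls Cfsg.Agent.Helper8.InnDiagPlus

universe u

variable {F : Type u} [Field F] [Fintype F]

theorem card_idx_plus (m : ℕ) : Fintype.card (Fin m ⊕ Fin m) = 2 * m := by
  simp only [Fintype.card_sum, Fintype.card_fin]; ring

/-- **a similarity of the plus-type form preserves the two classes iff it has the class
predicate**, in any characteristic. -/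
theorem preservesPlus_iff_isCP {m : ℕ} (hm : 3 ≤ m) (g : GL (Fin m ⊕ Fin m) F) (c : Fˣ)
    (hc : ∀ u, plusForm F m ((g : Matrix (Fin m ⊕ Fin m) (Fin m ⊕ Fin m) F) *ᵥ u)
      = (c : F) * plusForm F m u) :
    PreservesSingularClasses ⇑(plusForm F m) (g : Matrix (Fin m ⊕ Fin m) (Fin m ⊕ Fin m) F) ↔
      IsCP m (g : Matrix (Fin m ⊕ Fin m) (Fin m ⊕ Fin m) F) (c : F) := by
  by_cases h2 : (2 : F) = 0
  · obtain ⟨d, hd⟩ : ∃ d : Fˣ, d = sqrtU c := ⟨_, rfl⟩
    have hdd : (d : F) * d = c := by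
      have := congrArg (fun x : Fˣ => (x : F)) (sqrtU_mul_self h2 c)
      rw [← hd] at this
      simpa using this
    obtain ⟨g₀, hg₀⟩ : ∃ g₀ : GL (Fin m ⊕ Fin m) F,
        g₀ = (Matrix.GeneralLinearGroup.scalar _ d)⁻¹ * g := ⟨_, rfl⟩
    have hg₀v : (g₀ : Matrix (Fin m ⊕ Fin m) (Fin m ⊕ Fin m) F)
        = (d : F)⁻¹ • (g : Matrix (Fin m ⊕ Fin m) (Fin m ⊕ Fin m) F) := by
      rw [hg₀, ← map_inv, Units.val_mul, Matrix.GeneralLinearGroup.coe_scalar,
        Matrix.scalar_apply, ← Matrix.smul_one_eq_diagonal, Matrix.smul_mul, Matrix.one_mul,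
        Units.val_inv_eq_inv_val]
    have hd0 : (d : F) ≠ 0 := Units.ne_zero d
    have hiso : g₀ ∈ Cfsg.isometryGroup F ⇑(plusForm F m) := by
      rw [mem_isometryGroup_iff']
      intro u
      rw [hg₀v, Matrix.smul_mulVec, QuadraticMap.map_smul, hc, smul_eq_mul, ← hdd]
      field_simp
    have hrank : ((g₀ : Matrix (Fin m ⊕ Fin m) (Fin m ⊕ Fin m) F) - 1).rank
        = ((g : Matrix (Fin m ⊕ Fin m) (Fin m ⊕ Fin m) F)
          - (d : F) • (1 : Matrix _ _ F)).rank := by
      have e : (g₀ : Matrix (Fin m ⊕ Fin m) (Fin m ⊕ Fin m) F) - 1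
          = Matrix.diagonal (fun _ => (d : F)⁻¹) *
            ((g : Matrix (Fin m ⊕ Fin m) (Fin m ⊕ Fin m) F)
              - (d : F) • (1 : Matrix _ _ F)) := by
        rw [hg₀v, ← Matrix.smul_one_eq_diagonal, Matrix.smul_mul, Matrix.one_mul, smul_sub,
          smul_smul, inv_mul_cancel₀ hd0, one_smul]
      rw [e]
      apply rank_mul_eq_right_of_isUnit_det
      rw [Matrix.det_diagonal, Finset.prod_const]
      exact IsUnit.mk0 _ (pow_ne_zero _ (inv_ne_zero hd0))
    have hkey := preserves_plus_iff_rank h2 (by omega : 1 ≤ m)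
      (Or.inr (by omega) : Fintype.card F ≠ 2 ∨ m ≠ 2) hiso
    rw [hg₀v, preserves_smul _ _ (inv_ne_zero hd0), ← hg₀v, hrank] at hkey
    rw [hkey]
    unfold IsCP
    constructor
    · intro hev
      exact Or.inr ⟨h2, d, hdd, hev⟩
    · rintro (⟨h, -⟩ | ⟨-, d', hd', hev⟩)
      · exact absurd h2 h
      · have hd'eq : d' = d := by rw [hd]; exact eq_sqrtU h2 hd'
        rw [hd'eq] at hev
        exact hev
  · rw [preserves_iff_det h2 (by omega : 1 ≤ m) hc]
    unfold IsCP
    constructor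
    · intro h
      exact Or.inl ⟨h2, h⟩
    · rintro (⟨-, h⟩ | ⟨h, -⟩)
      · exact h
      · exact absurd h h2

/-- the inner-diagonal group of `PΩ⁺` is the image of the class-preserving similarities. -/
theorem inndiag_plus_eq_cpAut {m : ℕ} (hm : 3 ≤ m) (hne : ∃ v, plusForm F m v ≠ 0) :
    Cfsg.autSubgroupOf (fun β : Cfsg.POmega F ⇑(plusForm F m) ≃*
        Cfsg.POmega F ⇑(plusForm F m) => ∃ g : GL (Fin m ⊕ Fin m) F,
      g ∈ Cfsg.Geo.quadSimilarityGroup (F := F) ⇑(plusForm F m) ∧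
      Cfsg.PreservesSingularClasses ⇑(plusForm F m)
        (g : Matrix (Fin m ⊕ Fin m) (Fin m ⊕ Fin m) F) ∧
      Cfsg.IsInducedBySemilinearPOmega ⇑(plusForm F m) g (RingEquiv.refl F) β)
      = cpAut (plusForm F m) (plusForm_nondeg F m) hne m (card_idx_plus m) := by
  apply autSub_eq_cpAut (plusForm F m) (plusForm_nondeg F m) hne m
    (card_idx_plus m) (fun M => Cfsg.PreservesSingularClasses ⇑(plusForm F m) M)
  intro g
  apply preservesPlus_iff_isCP hm g.1 (mult ⇑(plusForm F m) hne g)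
  intro u
  exact mult_spec ⇑(plusForm F m) hne g u

end Cfsg.Agent.Helper8.AutO
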