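import Mathlib
import Cfsg.Agent.Helper8.AutOzw

set_option autoImplicit false
set_option linter.unusedSectionVars false
set_option linter.style.haveILetI false

/-!
# Automorphisms of orthogonal groups, part zx: Hilbert's Theorem 90 for the similarity group of
the minus-type form
-/

namespace Cfsg.Agent.Helper8.AutO

open Module Matrix Cfsg.Agent.Helper8.QuadForm Cfsg.Agent.Helper8.StdForms
open Cfsg.Agent.Helper8.AutSLn (gls nrmGL nrmF unitsAut fixField)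

variable {F : Type*} [Field F] [Fintype F]

/-- the minus-type form with coefficients fixed by `σ` is `σ`-invariant. -/
theorem minusForm_sigma (σ : F ≃+* F) (k : ℕ) {a b : F} (ha : σ a = a) (hb : σ b = b)
    (v : (Fin k ⊕ Fin k) ⊕ Fin 2 → F) :
    minusForm F k a b (fun i => σ (v i)) = σ (minusForm F k a b v) := by
  rw [minusForm_apply, minusForm_apply]
  unfold Cfsg.quadFormMinus
  simp only [map_add, map_sum, map_mul, map_pow, ha, hb]

/-- **Hilbert's Theorem 90 for the similarity group of the minus-type form.** -/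
theorem hilbert90_minus (σ : F ≃+* F) {r : ℕ} (hr : 0 < r) (hσr : σ ^ r = 1)
    (hσ : ∀ i j : Fin r, σ ^ (i : ℕ) = σ ^ (j : ℕ) → i = j)
    (k : ℕ) {a b : F} (ha : σ a = a) (hb : σ b = b)
    (hab : ∀ z₁ z₂ : F, z₁ ^ 2 + a * z₁ * z₂ + b * z₂ ^ 2 = 0 → z₁ = 0 ∧ z₂ = 0)
    (g : GL ((Fin k ⊕ Fin k) ⊕ Fin 2) F)
    (hg : g ∈ Cfsg.Geo.quadSimilarityGroup (F := F) ⇑(minusForm F k a b))
    (hN : nrmGL σ g r = 1) :
    ∃ u : GL ((Fin k ⊕ Fin k) ⊕ Fin 2) F,
      u ∈ Cfsg.Geo.quadSimilarityGroup (F := F) ⇑(minusForm F k a b) ∧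
      g = u * (gls σ u)⁻¹ := by
  have hQσ := minusForm_sigma σ k ha hb
  have hnd : Nondeg (minusForm F k a b) := (nondeg_iff _).mp (minusForm_nondeg F k hab)
  obtain ⟨H, ν, Q₂, hgH, hQ₂, hQ₂σ, hQ₂nd⟩ :=
    exists_twist σ hr hσr hσ (minusForm F k a b) hnd hQσ g hg hN
  obtain ⟨c₀, K₀, hc₀, hK₀⟩ := minus_descent σ k ha hb hab hQσ Q₂ hQ₂σ hQ₂nd H ν hQ₂
  exact sim_of_descent σ (minusForm F k a b) Q₂ hQσ hQ₂σ g H ν hgH hQ₂ c₀ hc₀ K₀ hK₀

end Cfsg.Agent.Helper8.AutO
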