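import Mathlib
import Cfsg.Agent.Helper8.AutOzz

set_option autoImplicit false
set_option linter.unusedSectionVars false
set_option linter.style.haveILetI false

/-!
# Automorphisms of orthogonal groups, part zza: the image of the class-preserving similarities is
transported by every isomorphism between the groups `PΩ` of two isometric forms
-/

namespace Cfsg.Agent.Helper8.AutO

open Module Matrix Cfsg.Agent.Helper8.QuadForm Cfsg.Agent.Helper8.WittQuad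
  Cfsg.Agent.Helper8.OrthOrder
  Cfsg.Agent.Helper8.Siegel Cfsg.Agent.Helper8.SiegelGeom Cfsg.Agent.Helper8.SiegelGroup
  Cfsg.Agent.Helper8.SiegelPrim Cfsg.Agent.Helper8.SiegelSimple Cfsg.Agent.Helper8.ReflMatrix
  Cfsg.Agent.Helper8.OmegaSimple Cfsg.Agent.Helper8.AutImagePsi Cfsg.Agent.Helper8.AutImageOrth
  Cfsg.Agent.Helper8.StdForms Cfsg.Agent.Helper8.AutImage Cfsg.Agent.Helper8.AutImageKer
  Cfsg.Agent.Helper8.AutImageIdx Cfsg.Agent.Helper8.Cls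
open Cfsg.Agent.Helper8.AutSLn (gls)

variable {F : Type*} [Field F] [Fintype F] {ι : Type} [Fintype ι] [DecidableEq ι]

theorem gls_refl (A : GL ι F) : gls (RingEquiv.refl F) A = A := by
  apply Units.ext
  ext i j
  rfl

section Lin

variable (Q Q' : QuadraticForm F (ι → F)) (hQ : (QuadraticMap.polarBilin Q).Nondegenerate)
  (hQ' : (QuadraticMap.polarBilin Q').Nondegenerate)
  (hne : ∃ v, Q v ≠ 0) (hne' : ∃ v, Q' v ≠ 0) (k : ℕ) (hk : Fintype.card ι = 2 * k)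
  (A : GL ι F) (hA : ∀ v, Q' ((A : Matrix ι ι F) *ᵥ v) = Q v)

include hA in
theorem conj_sim_spec {g : GL ι F} {c : Fˣ}
    (hc : ∀ v, Q ((g : Matrix ι ι F) *ᵥ v) = (c : F) * Q v) (v : ι → F) :
    Q' (((A * g * A⁻¹ : GL ι F) : Matrix ι ι F) *ᵥ v) = (c : F) * Q' v := by
  have h1 : (A : Matrix ι ι F) * ((A⁻¹ : GL ι F) : Matrix ι ι F) = 1 := by
    rw [← Units.val_mul, mul_inv_cancel, Units.val_one]
  rw [Units.val_mul, Units.val_mul, ← Matrix.mulVec_mulVec, ← Matrix.mulVec_mulVec, hA, hc,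
    ← hA, Matrix.mulVec_mulVec, h1, Matrix.one_mulVec]

include hA in
theorem conj_mem_sim {g : GL ι F} (hg : g ∈ Cfsg.Geo.quadSimilarityGroup (F := F) ⇑Q) :
    A * g * A⁻¹ ∈ Cfsg.Geo.quadSimilarityGroup (F := F) ⇑Q' := by
  obtain ⟨c, hc⟩ := hg
  exact ⟨c, conj_sim_spec Q Q' A hA hc⟩

include hA in
/-- the class predicate is transported by a linear isometry. -/
theorem isCP_lin (g : ↥(Cfsg.Geo.quadSimilarityGroup (F := F) ⇑Q))
    (g' : ↥(Cfsg.Geo.quadSimilarityGroup (F := F) ⇑Q')) (hg' : (g' : GL ι F) = A * g * A⁻¹)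
    (h : IsCP k ((g : GL ι F) : Matrix ι ι F) ((mult ⇑Q hne g : Fˣ) : F)) :
    IsCP k ((g' : GL ι F) : Matrix ι ι F) ((mult ⇑Q' hne' g' : Fˣ) : F) := by
  have hmult : mult ⇑Q' hne' g' = mult ⇑Q hne g := by
    apply mult_eq_of
    intro v
    rw [hg']
    exact conj_sim_spec Q Q' A hA (mult_spec ⇑Q hne g) v
  rw [hmult]
  have hA0 : (A : Matrix ι ι F).det ≠ 0 := by
    have := (Matrix.GeneralLinearGroup.det A).ne_zero
    exact this
  have h1 := isCP_conj k ((g : GL ι F) : Matrix ι ι F) ((g' : GL ι F) : Matrix ι ι F)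
    (A : Matrix ι ι F) hA0 (RingHom.id F) _ (by
      have e1 : (g' : GL ι F) * A = A * (g : GL ι F) := by
        rw [hg']
        group
      have e2 := congrArg (fun x : GL ι F => (x : Matrix ι ι F)) e1
      simp only [Units.val_mul] at e2
      rw [e2]
      congr 1) h
  exact h1

include hA in
/-- transport of `cpAut` forwards along a linear isometry. -/
theorem cpAut_fwd (β : MulAut (Cfsg.POmega F ⇑Q)) (hβ : β ∈ cpAut Q hQ hne k hk) :
    ((pIso ⇑Q ⇑Q' A hA).symm.trans β).trans (pIso ⇑Q ⇑Q' A hA) ∈ cpAut Q' hQ' hne' k hk := by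
  rw [mem_cpAut_iff] at hβ ⊢
  obtain ⟨g, hg, rfl⟩ := hβ
  have h1 := pIso_induced_fwd ⇑Q ⇑Q' A hA (g : GL ι F) (RingEquiv.refl F) (Phi ⇑Q g)
    ((induced_iff ⇑Q g.2 _).mpr rfl)
  rw [gls_refl] at h1
  have hmem := conj_mem_sim Q Q' A hA g.2
  rw [induced_iff ⇑Q' hmem] at h1
  exact ⟨⟨A * g * A⁻¹, hmem⟩, isCP_lin Q Q' hne hne' k A hA g ⟨A * g * A⁻¹, hmem⟩ rfl hg,
    h1.symm⟩

include hA in
theorem inv_isometry (v : ι → F) : Q (((A⁻¹ : GL ι F) : Matrix ι ι F) *ᵥ v) = Q' v := by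
  have h1 : (A : Matrix ι ι F) * ((A⁻¹ : GL ι F) : Matrix ι ι F) = 1 := by
    rw [← Units.val_mul, mul_inv_cancel, Units.val_one]
  rw [← hA, Matrix.mulVec_mulVec, h1, Matrix.one_mulVec]

include hA in
/-- transport of `cpAut` backwards along a linear isometry. -/
theorem cpAut_bwd (β' : MulAut (Cfsg.POmega F ⇑Q')) (hβ' : β' ∈ cpAut Q' hQ' hne' k hk) :
    ((pIso ⇑Q ⇑Q' A hA).trans β').trans (pIso ⇑Q ⇑Q' A hA).symm ∈ cpAut Q hQ hne k hk := by
  rw [mem_cpAut_iff] at hβ' ⊢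
  obtain ⟨g', hg', rfl⟩ := hβ'
  have h1 := pIso_induced_bwd ⇑Q ⇑Q' A hA (g' : GL ι F) (RingEquiv.refl F) (Phi ⇑Q' g')
    ((induced_iff ⇑Q' g'.2 _).mpr rfl)
  rw [gls_refl] at h1
  have hmem : A⁻¹ * (g' : GL ι F) * A ∈ Cfsg.Geo.quadSimilarityGroup (F := F) ⇑Q := by
    have := conj_mem_sim Q' Q A⁻¹ (inv_isometry Q Q' A hA) g'.2
    rw [inv_inv] at this
    exact this
  rw [induced_iff ⇑Q hmem] at h1
  refine ⟨⟨A⁻¹ * g' * A, hmem⟩, ?_, h1.symm⟩
  exact isCP_lin Q' Q hne' hne k A⁻¹ (inv_isometry Q Q' A hA) g' ⟨A⁻¹ * g' * A, hmem⟩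
    (by rw [inv_inv]) hg'

variable [Nontrivial (ι → F)] (h5 : 5 ≤ Fintype.card ι)

include hA h5 in
/-- **`cpAut` is transported by every isomorphism** between the groups `PΩ` of two isometric
forms. -/
theorem cpAut_congr_iff (hsurj' : Function.Surjective (Psi (Q := Q')))
    (ψ : Cfsg.POmega F ⇑Q ≃* Cfsg.POmega F ⇑Q') (β : MulAut (Cfsg.POmega F ⇑Q)) :
    (ψ.symm.trans β).trans ψ ∈ cpAut Q' hQ' hne' k hk ↔ β ∈ cpAut Q hQ hne k hk := by
  haveI := cpAut_normal Q' hQ' hne' k hk h5 hsurj'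
  obtain ⟨P, hP⟩ : ∃ P, P = pIso ⇑Q ⇑Q' A hA := ⟨_, rfl⟩
  obtain ⟨θ, hθ⟩ : ∃ θ : MulAut (Cfsg.POmega F ⇑Q'), θ = P.symm.trans ψ := ⟨_, rfl⟩
  have e : (ψ.symm.trans β).trans ψ = θ * ((P.symm.trans β).trans P) * θ⁻¹ := by
    apply MulEquiv.ext
    intro t
    have h1 : θ⁻¹ t = P (ψ.symm t) := by
      rw [MulAut.inv_apply, MulEquiv.symm_apply_eq, hθ]
      show t = ψ (P.symm (P (ψ.symm t)))
      rw [MulEquiv.symm_apply_apply, MulEquiv.apply_symm_apply]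
    show ψ (β (ψ.symm t)) = θ (P (β (P.symm (θ⁻¹ t))))
    rw [h1, MulEquiv.symm_apply_apply, hθ]
    show _ = ψ (P.symm (P (β (ψ.symm t))))
    rw [MulEquiv.symm_apply_apply]
  rw [e]
  constructor
  · intro h
    have h1 : (P.symm.trans β).trans P ∈ cpAut Q' hQ' hne' k hk := by
      have := Subgroup.Normal.conj_mem inferInstance _ h θ⁻¹
      rw [inv_inv] at this
      have e2 : θ⁻¹ * (θ * ((P.symm.trans β).trans P) * θ⁻¹) * θ = (P.symm.trans β).trans P := by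
        group
      rw [e2] at this
      exact this
    rw [hP] at h1
    have h3 := cpAut_bwd Q Q' hQ hQ' hne hne' k hk A hA _ h1
    have e3 : ((pIso ⇑Q ⇑Q' A hA).trans (((pIso ⇑Q ⇑Q' A hA).symm.trans β).trans
        (pIso ⇑Q ⇑Q' A hA))).trans (pIso ⇑Q ⇑Q' A hA).symm = β := by
      apply MulEquiv.ext
      intro t
      show (pIso ⇑Q ⇑Q' A hA).symm ((pIso ⇑Q ⇑Q' A hA) (β ((pIso ⇑Q ⇑Q' A hA).symm
        ((pIso ⇑Q ⇑Q' A hA) t)))) = β t
      rw [MulEquiv.symm_apply_apply, MulEquiv.symm_apply_apply]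
    rw [e3] at h3
    exact h3
  · intro h
    have h1 := cpAut_fwd Q Q' hQ hQ' hne hne' k hk A hA β h
    rw [← hP] at h1
    exact Subgroup.Normal.conj_mem inferInstance _ h1 θ

end Lin

end Cfsg.Agent.Helper8.AutO
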