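import Mathlib
import Cfsg.Agent.Helper8.AutOzza
import Cfsg.Agent.Helper8.AutOzx
import Cfsg.Agent.Helper8.AutOzf

set_option autoImplicit false
set_option linter.unusedSectionVars false
set_option linter.style.haveILetI false

/-!
# Automorphisms of orthogonal groups, part zzb: the standard field automorphism of a single field
automorphism fixing the form; the coset of a field automorphism of `PΩ⁻`
-/

namespace Cfsg.Agent.Helper8.AutO

open Module Matrix Cfsg.Agent.Helper8.QuadForm Cfsg.Agent.Helper8.WittQuad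
  Cfsg.Agent.Helper8.OrthOrder
  Cfsg.Agent.Helper8.Siegel Cfsg.Agent.Helper8.SiegelGeom Cfsg.Agent.Helper8.SiegelGroup
  Cfsg.Agent.Helper8.SiegelPrim Cfsg.Agent.Helper8.SiegelSimple Cfsg.Agent.Helper8.ReflMatrix
  Cfsg.Agent.Helper8.OmegaSimple Cfsg.Agent.Helper8.AutImagePsi Cfsg.Agent.Helper8.AutImageOrth
  Cfsg.Agent.Helper8.StdForms Cfsg.Agent.Helper8.AutImage Cfsg.Agent.Helper8.AutImageKer
  Cfsg.Agent.Helper8.AutImageIdx Cfsg.Agent.Helper8.Cls Cfsg.Agent.Helper8.Reflections
open Cfsg.Agent.Helper8.AutSLn (gls nrmGL nrmF unitsAut fixField)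

variable {F : Type*} [Field F] [Fintype F] {ι : Type} [Fintype ι] [DecidableEq ι]
  (Q : QuadraticForm F (ι → F))

section One

variable (σ : F ≃+* F) (hσQ : ∀ v : ι → F, Q (fun i => σ (v i)) = σ (Q v))

include hσQ in
theorem semiSim_field_one : SemiSim Q (fun v i => σ (v i)) σ 1 :=
  ⟨one_ne_zero, fun x y => by ext i; simp, fun c x => by ext i; simp,
    fun x => by rw [one_mul]; exact hσQ x,
    ⟨fun x y h => by
      ext i
      exact σ.injective (congrFun h i),
      fun y => ⟨fun i => σ.symm (y i), by ext i; simp⟩⟩⟩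

/-- the coordinatewise action of a field automorphism fixing the form, as a semilinear
similarity. -/
noncomputable def fieldGammaOne : ↥(GammaO Q) := mkGamma (semiSim_field_one Q σ hσQ)

theorem gap_fieldGammaOne (v : ι → F) :
    gap (fieldGammaOne Q σ hσQ) v = fun i => σ (v i) := rfl

theorem tau_fieldGammaOne [Nontrivial (ι → F)] : tau (fieldGammaOne Q σ hσQ) = σ :=
  tau_eq (semiSim_field_one Q σ hσQ)

variable (hQ : (QuadraticMap.polarBilin Q).Nondegenerate) (h5 : 5 ≤ Fintype.card ι)

theorem eq_PsiM_of_isFieldAut_one {φ : MulAut (Cfsg.POmega F ⇑Q)}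
    (hφ : Cfsg.IsFieldAutPOmegaOf ⇑Q σ φ) : φ = PsiM Q hQ h5 (fieldGammaOne Q σ hσQ) := by
  apply eq_PsiM_of_induced Q hQ h5 (fieldGammaOne Q σ hσQ) 1 σ
  · intro v
    rw [gap_fieldGammaOne, Units.val_one, one_mulVec]
  · intro s s' hss'
    apply hφ
    rw [Units.val_one, inv_one, Units.val_one, Matrix.one_mul, Matrix.mul_one] at hss'
    exact hss'

theorem orderOf_PsiM_fieldGammaOne [Nontrivial (ι → F)] (p : ℕ) [Fact p.Prime] [CharP F p] :
    orderOf (PsiM Q hQ h5 (fieldGammaOne Q σ hσQ)) = orderOf σ := by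
  have hdim : finrank F (ι → F) = Fintype.card ι := Module.finrank_fintype_fun_eq_card F
  have hkerP : (PsiM Q hQ h5).ker = (scalarGamma (Q := Q)).range := by
    rw [ker_PsiM, ker_Psi ((nondeg_iff Q).mp hQ) (by rw [hdim]; exact h5) p]
  rw [orderOf_eq_orderOf_iff]
  intro n
  constructor
  · intro h
    have h1 : fieldGammaOne Q σ hσQ ^ n ∈ (PsiM Q hQ h5).ker := by
      rw [MonoidHom.mem_ker, map_pow]
      exact h
    rw [hkerP] at h1
    obtain ⟨c, hc⟩ := h1
    have h3 := congrArg (tau (Q := Q)) hc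
    rw [tau_scalarGamma, map_pow, tau_fieldGammaOne] at h3
    exact h3.symm
  · intro h
    rw [← map_pow]
    have h1 : fieldGammaOne Q σ hσQ ^ n = 1 := by
      apply ext_gap
      intro v
      have h3 : ∀ (n : ℕ) (w : ι → F),
          (gap (fieldGammaOne Q σ hσQ))^[n] w = fun i => (σ ^ n) (w i) := by
        intro n
        induction n with
        | zero => intro w; rfl
        | succ n ih =>
          intro w
          rw [Function.iterate_succ_apply', ih, gap_fieldGammaOne, pow_succ']
          rfl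
      rw [gap_pow, h3, h, gap_one]
      rfl
    rw [h1, map_one]

end One

section Refl

variable (σ : F ≃+* F) (hσQ : ∀ v : ι → F, Q (fun i => σ (v i)) = σ (Q v))

include hσQ in
theorem polar_sigma (x y : ι → F) :
    QuadraticMap.polar Q (fun i => σ (x i)) (fun i => σ (y i)) = σ (QuadraticMap.polar Q x y) := by
  unfold QuadraticMap.polar
  rw [map_sub, map_sub, ← hσQ, ← hσQ, ← hσQ]
  congr 3
  funext i
  exact (map_add σ _ _).symm

include hσQ in
/-- a reflection in a vector with coordinates fixed by `σ` commutes with `σ`. -/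
theorem refl_sigma {z : ι → F} (hz : ∀ i, σ (z i) = z i) (x : ι → F) :
    refl Q z (fun i => σ (x i)) = fun i => σ (refl Q z x i) := by
  have hz' : (fun i => σ (z i)) = z := funext hz
  rw [refl_apply]
  funext i
  rw [refl_apply]
  have h1 : QuadraticMap.polar Q z (fun i => σ (x i)) = σ (QuadraticMap.polar Q z x) := by
    conv_lhs => rw [← hz']
    exact polar_sigma Q σ hσQ z x
  have h2 : Q z = σ (Q z) := by
    conv_lhs => rw [← hz']
    exact hσQ z
  rw [h1]
  conv_lhs => rw [h2]
  simp only [Pi.sub_apply, Pi.smul_apply, smul_eq_mul, map_sub, map_mul, map_div₀, hz i]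

/-- a reflection as an element of the conformal group. -/
noncomputable def reflGO (z : ι → F) : ↥(Cfsg.Geo.quadSimilarityGroup (F := F) ⇑Q) :=
  Subgroup.inclusion (isometry_le_similarity ⇑Q) (reflElt Q z)

theorem reflGO_val (z : ι → F) : ((reflGO Q z : GL ι F) : Matrix ι ι F)
    = Cfsg.reflectionMatrix ⇑Q z := reflElt_val Q z

include hσQ in
theorem reflGO_commute {z : ι → F} (hz : ∀ i, σ (z i) = z i) :
    simGamma Q (reflGO Q z) * fieldGammaOne Q σ hσQ
      = fieldGammaOne Q σ hσQ * simGamma Q (reflGO Q z) := by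
  apply ext_gap
  intro v
  rw [gap_mul, gap_mul, gap_simGamma, gap_simGamma, gap_fieldGammaOne, gap_fieldGammaOne,
    reflGO_val, reflectionMatrix_mulVec, reflectionMatrix_mulVec]
  exact refl_sigma Q σ hσQ hz v

end Refl

end Cfsg.Agent.Helper8.AutO
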