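import Mathlib
import Cfsg.Agent.Helper8.AutOzg
import Cfsg.Agent.Helper8.AutImageKer

set_option autoImplicit false
set_option linter.unusedSectionVars false
set_option linter.style.haveILetI false

/-!
# Automorphisms of orthogonal groups, part zh: the centraliser of a standard field automorphism in
the image of the conformal group is the conformal group over the fixed field
-/

namespace Cfsg.Agent.Helper8.AutO

open Module Matrix Cfsg.Agent.Helper8.QuadForm Cfsg.Agent.Helper8.WittQuad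
  Cfsg.Agent.Helper8.OrthOrder
  Cfsg.Agent.Helper8.Siegel Cfsg.Agent.Helper8.SiegelGeom Cfsg.Agent.Helper8.SiegelGroup
  Cfsg.Agent.Helper8.SiegelPrim Cfsg.Agent.Helper8.SiegelSimple Cfsg.Agent.Helper8.ReflMatrix
  Cfsg.Agent.Helper8.OmegaSimple Cfsg.Agent.Helper8.AutImagePsi Cfsg.Agent.Helper8.AutImageOrth
  Cfsg.Agent.Helper8.StdForms Cfsg.Agent.Helper8.AutImage Cfsg.Agent.Helper8.AutImageKer
open Cfsg.Agent.Helper8.AutSLn (gls nrmGL nrmF unitsAut fixField)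

variable {F₀ : Type*} {F : Type*} [Field F₀] [Field F] [Fintype F₀] [Fintype F] (j : F₀ →+* F)
  {ι : Type} [Fintype ι] [DecidableEq ι]
  (Q₀ : QuadraticForm F₀ (ι → F₀)) (Q : QuadraticForm F (ι → F))
  (hj : ∀ v : ι → F₀, Q (hvec j v) = j (Q₀ v))

/-- the similarity group over the subfield acting on `PΩ(Q)`. -/
noncomputable def subHomO : ↥(Cfsg.Geo.quadSimilarityGroup (F := F₀) ⇑Q₀) →*
    MulAut (Cfsg.POmega F ⇑Q) :=
  (Phi ⇑Q).comp (simMap j Q₀ Q hj)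

theorem subHomO_apply (g : ↥(Cfsg.Geo.quadSimilarityGroup (F := F₀) ⇑Q₀)) :
    subHomO j Q₀ Q hj g = Phi ⇑Q (simMap j Q₀ Q hj g) := rfl

theorem ker_subHomO (h2 : (2 : F) ≠ 0) (hQ₀ : (QuadraticMap.polarBilin Q₀).Nondegenerate)
    (hQ : (QuadraticMap.polarBilin Q).Nondegenerate) (h5 : 5 ≤ Fintype.card ι) :
    (subHomO j Q₀ Q hj).ker = (Phi ⇑Q₀).ker := by
  have h2₀ : (2 : F₀) ≠ 0 := by
    intro h
    apply h2
    have := congrArg j h
    rwa [map_ofNat, map_zero] at this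
  have hne : Nonempty ι := by
    rw [← Fintype.card_pos_iff]
    omega
  obtain ⟨i₀⟩ := hne
  ext g
  rw [MonoidHom.mem_ker, MonoidHom.mem_ker, subHomO_apply, Phi_eq_one_iff Q h2 hQ h5,
    Phi_eq_one_iff Q₀ h2₀ hQ₀ h5, coe_simMap]
  constructor
  · rintro ⟨c, hc⟩
    have h1 : ∀ i k, j (((g : GL ι F₀) : Matrix ι ι F₀) i k) = (c • (1 : Matrix ι ι F)) i k := by
      intro i k
      rw [← hc]
      rfl
    refine ⟨((g : GL ι F₀) : Matrix ι ι F₀) i₀ i₀, ?_⟩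
    ext i k
    apply j.injective
    rw [h1, Matrix.smul_apply, Matrix.smul_apply, Matrix.one_apply, Matrix.one_apply]
    by_cases hik : i = k
    · rw [if_pos hik, if_pos hik, smul_eq_mul, smul_eq_mul, mul_one, mul_one, h1,
        Matrix.smul_apply, Matrix.one_apply_eq, smul_eq_mul, mul_one]
    · rw [if_neg hik, if_neg hik, smul_zero, smul_zero, map_zero]
  · rintro ⟨c, hc⟩
    refine ⟨j c, ?_⟩
    ext i k
    show j (((g : GL ι F₀) : Matrix ι ι F₀) i k) = _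
    rw [hc, Matrix.smul_apply, Matrix.smul_apply, Matrix.one_apply, Matrix.one_apply]
    by_cases hik : i = k
    · rw [if_pos hik, if_pos hik, smul_eq_mul, smul_eq_mul, mul_one, mul_one]
    · rw [if_neg hik, if_neg hik, smul_zero, smul_zero, map_zero]

/-- a similarity whose automorphism commutes with the field automorphism is, up to a scalar, fixed
by the field automorphism. -/
theorem exists_fixed_of_commute_pgo [Nontrivial (ι → F)]
    (hQ : (QuadraticMap.polarBilin Q).Nondegenerate) (h5 : 5 ≤ Fintype.card ι)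
    (hσ : ∀ (σ : F ≃+* F) (v : ι → F), Q (fun i => σ (v i)) = σ (Q v))
    (p : ℕ) [Fact p.Prime] [CharP F p]
    (σ : F ≃+* F) {r : ℕ} (hr : 0 < r) (hσr : σ ^ r = 1)
    (hinj : ∀ i k : Fin r, σ ^ (i : ℕ) = σ ^ (k : ℕ) → i = k)
    (g : ↥(Cfsg.Geo.quadSimilarityGroup (F := F) ⇑Q))
    (h : poField Q hQ h5 hσ σ * Phi ⇑Q g = Phi ⇑Q g * poField Q hQ h5 hσ σ) :
    ∃ d : Fˣ, gls σ (Matrix.GeneralLinearGroup.scalar ι d * (g : GL ι F)) =
      Matrix.GeneralLinearGroup.scalar ι d * (g : GL ι F) := by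
  have hne : Nonempty ι := by
    rw [← Fintype.card_pos_iff]
    omega
  have hdim : finrank F (ι → F) = Fintype.card ι := Module.finrank_fintype_fun_eq_card F
  have hQ' : Nondeg Q := (nondeg_iff Q).mp hQ
  have hkerP : (PsiM Q hQ h5).ker = (scalarGamma (Q := Q)).range := by
    rw [ker_PsiM, ker_Psi hQ' (by rw [hdim]; exact h5) p]
  obtain ⟨γ₁, hγ₁⟩ : ∃ γ₁ : ↥(GammaO Q), γ₁ = fieldGamma Q hσ σ * simGamma Q g := ⟨_, rfl⟩
  obtain ⟨γ₂, hγ₂⟩ : ∃ γ₂ : ↥(GammaO Q), γ₂ = simGamma Q g * fieldGamma Q hσ σ := ⟨_, rfl⟩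
  have h1 : γ₁ * γ₂⁻¹ ∈ (PsiM Q hQ h5).ker := by
    rw [MonoidHom.mem_ker, map_mul, map_inv, mul_inv_eq_one, hγ₁, hγ₂, map_mul, map_mul,
      PsiM_simGamma]
    exact h
  rw [hkerP] at h1
  obtain ⟨c, hc⟩ := h1
  have hc' : γ₁ = scalarGamma c * γ₂ := by
    rw [hc, inv_mul_cancel_right]
  have h2 : gls σ (g : GL ι F) = Matrix.GeneralLinearGroup.scalar ι c * (g : GL ι F) := by
    apply Units.ext
    apply Matrix.toLin'.injective
    apply LinearMap.ext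
    intro w
    obtain ⟨v, rfl⟩ : ∃ v : ι → F, (fun i => σ (v i)) = w :=
      ⟨fun i => σ.symm (w i), by funext i; exact σ.apply_symm_apply _⟩
    have h3 := congrArg (fun γ : ↥(GammaO Q) => gap γ v) hc'
    simp only [hγ₁, hγ₂, gap_mul, gap_scalarGamma, gap_simGamma, gap_fieldGamma] at h3
    rw [Matrix.toLin'_apply, Matrix.toLin'_apply, Units.val_mul,
      Matrix.GeneralLinearGroup.coe_scalar, Matrix.scalar_apply, ← Matrix.smul_one_eq_diagonal,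
      Matrix.smul_mul, Matrix.one_mul, Matrix.smul_mulVec, ← h3]
    exact Cfsg.Agent.Helper8.AutSLn.map_mulVec_comp σ _ v
  have hc2 : nrmF σ c r = 1 := by
    have h3 := Cfsg.Agent.Helper8.AutSLn.gls_pow_of_gls_eq σ (g : GL ι F) c h2 r
    have h4 : gls (σ ^ r) (g : GL ι F) = g := by
      rw [hσr]
      apply Units.ext
      ext i k
      rfl
    rw [h4] at h3
    apply Cfsg.Agent.Helper8.AutSLn.scalar_injective (m := ι)
    rw [map_one]
    exact (mul_right_cancel (h3.symm.trans (one_mul _).symm))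
  obtain ⟨d, hd⟩ := Cfsg.Agent.Helper8.AutSLn.hilbert90_units σ hr hσr hinj c hc2
  refine ⟨d, ?_⟩
  rw [map_mul, Cfsg.Agent.Helper8.AutSLn.gls_scalar, h2, ← mul_assoc, ← map_mul, hd,
    mul_comm d, mul_inv_cancel_left]

include hj in
/-- descent of a similarity fixed by the field automorphism. -/
theorem exists_simMap_eq (hne : ∃ v₀, Q₀ v₀ ≠ 0) (σ : F ≃+* F)
    (hsurj : ∀ b, σ b = b → ∃ a, j a = b) (g : GL ι F)
    (hgmem : g ∈ Cfsg.Geo.quadSimilarityGroup (F := F) ⇑Q) (hg : gls σ g = g) :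
    ∃ g₀ : ↥(Cfsg.Geo.quadSimilarityGroup (F := F₀) ⇑Q₀),
      ((simMap j Q₀ Q hj g₀ : ↥(Cfsg.Geo.quadSimilarityGroup (F := F) ⇑Q)) : GL ι F) = g := by
  obtain ⟨g₀, hg₀⟩ := Cfsg.Agent.Helper8.AutSLn.exists_map_eq σ j hsurj g hg
  obtain ⟨c, hc⟩ := hgmem
  obtain ⟨v₀, hv₀⟩ := hne
  have hgv : ∀ v : ι → F₀, (g : Matrix ι ι F) *ᵥ hvec j v =
      hvec j ((g₀ : Matrix ι ι F₀) *ᵥ v) := by
    intro v
    rw [← hg₀]
    exact map_mulVec_hvec j _ v
  have h1 : ∀ v : ι → F₀, j (Q₀ ((g₀ : Matrix ι ι F₀) *ᵥ v)) = (c : F) * j (Q₀ v) := by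
    intro v
    rw [← hj, ← hgv, hc, hj]
  obtain ⟨c₀, hc₀⟩ : ∃ c₀ : F₀, c₀ = Q₀ ((g₀ : Matrix ι ι F₀) *ᵥ v₀) / Q₀ v₀ := ⟨_, rfl⟩
  have hcc₀ : j c₀ = c := by
    rw [hc₀, map_div₀, h1, mul_div_assoc, div_self, mul_one]
    exact (map_ne_zero j).mpr hv₀
  have hc₀0 : c₀ ≠ 0 := by
    rintro rfl
    rw [map_zero] at hcc₀
    exact c.ne_zero hcc₀.symm
  refine ⟨⟨g₀, ⟨Units.mk0 c₀ hc₀0, fun v => ?_⟩⟩, hg₀⟩
  apply j.injective
  rw [h1, Units.val_mk0, map_mul, hcc₀]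

theorem range_subHomO [Nontrivial (ι → F)] (h2 : (2 : F) ≠ 0)
    (hQ : (QuadraticMap.polarBilin Q).Nondegenerate) (h5 : 5 ≤ Fintype.card ι)
    (hσ : ∀ (σ : F ≃+* F) (v : ι → F), Q (fun i => σ (v i)) = σ (Q v))
    (hne : ∃ v₀, Q₀ v₀ ≠ 0)
    (p : ℕ) [Fact p.Prime] [CharP F p]
    (σ : F ≃+* F) {r : ℕ} (hr : 0 < r) (hσr : σ ^ r = 1)
    (hinj : ∀ i k : Fin r, σ ^ (i : ℕ) = σ ^ (k : ℕ) → i = k)
    (hfix : ∀ a, σ (j a) = j a) (hsurj : ∀ b, σ b = b → ∃ a, j a = b) :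
    (subHomO j Q₀ Q hj).range =
      Cfsg.pgoAut F ⇑Q ⊓ Subgroup.centralizer {poField Q hQ h5 hσ σ} := by
  ext β
  constructor
  · rintro ⟨g₀, rfl⟩
    refine ⟨?_, ?_⟩
    · rw [pgoAut_eq]
      exact ⟨_, rfl⟩
    · apply Subgroup.mem_centralizer_iff.mpr
      intro y hy
      rw [Set.mem_singleton_iff] at hy
      subst hy
      rw [subHomO_apply, ← PsiM_simGamma Q hQ h5]
      show PsiM Q hQ h5 (fieldGamma Q hσ σ) * _ = _ * PsiM Q hQ h5 (fieldGamma Q hσ σ)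
      rw [← map_mul, ← map_mul]
      congr 1
      apply ext_gap
      intro v
      rw [gap_mul, gap_mul, gap_simGamma, gap_fieldGamma, gap_simGamma, gap_fieldGamma, coe_simMap]
      have h3 := Cfsg.Agent.Helper8.AutSLn.map_mulVec_comp σ
        ((Matrix.GeneralLinearGroup.map j (g₀ : GL ι F₀) : GL ι F) : Matrix ι ι F) v
      have h4 : ((Matrix.GeneralLinearGroup.map j (g₀ : GL ι F₀) : GL ι F) : Matrix ι ι F).map σ
          = ((Matrix.GeneralLinearGroup.map j (g₀ : GL ι F₀) : GL ι F) : Matrix ι ι F) := by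
        ext i k
        exact hfix _
      rw [h4] at h3
      exact h3.symm
  · rintro ⟨h1, h2'⟩
    rw [pgoAut_eq] at h1
    obtain ⟨g, rfl⟩ := h1
    replace h2' := Subgroup.mem_centralizer_iff.mp h2' _ rfl
    obtain ⟨d, hd⟩ := exists_fixed_of_commute_pgo Q hQ h5 hσ p σ hr hσr hinj g h2'
    have hmem : Matrix.GeneralLinearGroup.scalar ι d * (g : GL ι F) ∈
        Cfsg.Geo.quadSimilarityGroup (F := F) ⇑Q :=
      Subgroup.mul_mem _ (scalarGO Q d).2 g.2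
    obtain ⟨g₀, hg₀⟩ := exists_simMap_eq j Q₀ Q hj hne σ hsurj _ hmem hd
    refine ⟨g₀, ?_⟩
    have h3 : simMap j Q₀ Q hj g₀ = scalarGO Q d * g := Subtype.ext hg₀
    rw [subHomO_apply, h3, map_mul]
    have h4 : Phi ⇑Q (scalarGO Q d) = 1 :=
      (Phi_eq_one_iff Q h2 hQ h5 _).mpr ⟨(d : F), scalarGO_val Q d⟩
    rw [h4, one_mul]

include hj in
/-- **the centraliser of the standard field automorphism in the image of the conformal group.** -/
theorem nonempty_centralizer_equiv_pgo [Nontrivial (ι → F)] (h2 : (2 : F) ≠ 0)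
    (hQ₀ : (QuadraticMap.polarBilin Q₀).Nondegenerate)
    (hQ : (QuadraticMap.polarBilin Q).Nondegenerate) (h5 : 5 ≤ Fintype.card ι)
    (hσ : ∀ (σ : F ≃+* F) (v : ι → F), Q (fun i => σ (v i)) = σ (Q v))
    (hne : ∃ v₀, Q₀ v₀ ≠ 0)
    (p : ℕ) [Fact p.Prime] [CharP F p]
    (σ : F ≃+* F) {r : ℕ} (hr : 0 < r) (hσr : σ ^ r = 1)
    (hinj : ∀ i k : Fin r, σ ^ (i : ℕ) = σ ^ (k : ℕ) → i = k)
    (hfix : ∀ a, σ (j a) = j a) (hsurj : ∀ b, σ b = b → ∃ a, j a = b) :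
    Nonempty (↥(Cfsg.pgoAut F ⇑Q ⊓ Subgroup.centralizer {poField Q hQ h5 hσ σ}) ≃*
      ↥(Cfsg.pgoAut F₀ ⇑Q₀)) := by
  have e1 := QuotientGroup.quotientKerEquivRange (subHomO j Q₀ Q hj)
  have e2 := QuotientGroup.quotientMulEquivOfEq (ker_subHomO j Q₀ Q hj h2 hQ₀ hQ h5)
  have e3 := MulEquiv.subgroupCongr
    (range_subHomO j Q₀ Q hj h2 hQ h5 hσ hne p σ hr hσr hinj hfix hsurj)
  have e4 := QuotientGroup.quotientKerEquivRange (Phi ⇑Q₀)
  have e5 := MulEquiv.subgroupCongr (pgoAut_eq (F := F₀) ⇑Q₀)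
  exact ⟨(((e3.symm.trans e1.symm).trans e2).trans e4).trans e5.symm⟩

end Cfsg.Agent.Helper8.AutO
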