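import Mathlib
import Cfsg.Agent.Helper8.AutOzzc
import Cfsg.Agent.Helper8.AutOzh

set_option autoImplicit false
set_option linter.unusedSectionVars false
set_option linter.style.haveILetI false

/-!
# Automorphisms of orthogonal groups, part zze: the centraliser of a standard field automorphism
in the image of the class-preserving similarities is the corresponding group over the fixed field
(any characteristic, a single field automorphism fixing the form)
-/

namespace Cfsg.Agent.Helper8.AutO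

open Module Matrix Cfsg.Agent.Helper8.QuadForm Cfsg.Agent.Helper8.WittQuad
  Cfsg.Agent.Helper8.OrthOrder
  Cfsg.Agent.Helper8.Siegel Cfsg.Agent.Helper8.SiegelGeom Cfsg.Agent.Helper8.SiegelGroup
  Cfsg.Agent.Helper8.SiegelPrim Cfsg.Agent.Helper8.SiegelSimple Cfsg.Agent.Helper8.ReflMatrix
  Cfsg.Agent.Helper8.OmegaSimple Cfsg.Agent.Helper8.AutImagePsi Cfsg.Agent.Helper8.AutImageOrth
  Cfsg.Agent.Helper8.StdForms Cfsg.Agent.Helper8.AutImage Cfsg.Agent.Helper8.AutImageKer
  Cfsg.Agent.Helper8.AutImageIdx Cfsg.Agent.Helper8.Cls Cfsg.Agent.Helper8.Reflections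
open Cfsg.Agent.Helper8.AutSLn (gls nrmGL nrmF unitsAut fixField)

section Ker

variable {F : Type*} [Field F] [Fintype F] {ι : Type} [Fintype ι] [DecidableEq ι]
  (Q : QuadraticForm F (ι → F)) (hQ : (QuadraticMap.polarBilin Q).Nondegenerate)
  (h5 : 5 ≤ Fintype.card ι)

include hQ h5 in
/-- the kernel of the action of the conformal group on `PΩ(Q)` consists of the scalars, in any
characteristic. -/
theorem Phi_eq_one_iff_scalar [Nontrivial (ι → F)] (p : ℕ) [Fact p.Prime] [CharP F p]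
    (g : ↥(Cfsg.Geo.quadSimilarityGroup (F := F) ⇑Q)) :
    Phi ⇑Q g = 1 ↔ ∃ c : Fˣ, ((g : GL ι F) : Matrix ι ι F) = (c : F) • (1 : Matrix ι ι F) := by
  have hdim : finrank F (ι → F) = Fintype.card ι := Module.finrank_fintype_fun_eq_card F
  have hkerP : (PsiM Q hQ h5).ker = (scalarGamma (Q := Q)).range := by
    rw [ker_PsiM, ker_Psi ((nondeg_iff Q).mp hQ) (by rw [hdim]; exact h5) p]
  rw [← PsiM_simGamma Q hQ h5, ← MonoidHom.mem_ker, hkerP]
  constructor
  · rintro ⟨c, hc⟩
    refine ⟨c, ?_⟩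
    apply Matrix.toLin'.injective
    apply LinearMap.ext
    intro v
    have h1 := congrArg (fun γ : ↥(GammaO Q) => gap γ v) hc
    simp only [gap_scalarGamma, gap_simGamma] at h1
    rw [Matrix.toLin'_apply, Matrix.toLin'_apply, Matrix.smul_mulVec, Matrix.one_mulVec, ← h1]
  · rintro ⟨c, hc⟩
    refine ⟨c, ?_⟩
    apply ext_gap
    intro v
    rw [gap_scalarGamma, gap_simGamma, hc, Matrix.smul_mulVec, Matrix.one_mulVec]

variable (hne : ∃ v, Q v ≠ 0) (k : ℕ) (hk : Fintype.card ι = 2 * k)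

/-- scalars are class-preserving. -/
theorem clsChar_scalarGO (c : Fˣ) : clsChar Q hQ hne k hk (scalarGO Q c) = 1 := by
  rw [clsChar_eq_one_iff, mult_of_scalar Q hne _ c (scalarGO_val Q c), scalarGO_val]
  by_cases h2 : (2 : F) = 0
  · right
    refine ⟨h2, (c : F), by rw [Units.val_mul], ?_⟩
    rw [sub_self, Matrix.rank_zero]
    exact Even.zero
  · left
    refine ⟨h2, ?_⟩
    rw [Matrix.det_smul, Matrix.det_one, mul_one, hk, Units.val_mul, pow_mul, pow_two]

include hQ h5 in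
theorem Phi_scalarGO' [Nontrivial (ι → F)] (p : ℕ) [Fact p.Prime] [CharP F p] (c : Fˣ) :
    Phi ⇑Q (scalarGO Q c) = 1 :=
  (Phi_eq_one_iff_scalar Q hQ h5 p _).mpr ⟨c, scalarGO_val Q c⟩

end Ker

section BaseChange

variable {F₀ : Type*} {F : Type*} [Field F₀] [Field F] [Fintype F₀] (j : F₀ →+* F)
  {ι : Type} [Fintype ι] [DecidableEq ι]

/-- the class predicate is unchanged by an extension of the field. -/
theorem isCP_map_iff (k : ℕ) (g₀ : Matrix ι ι F₀) (c₀ : F₀) :
    IsCP k (g₀.map j) (j c₀) ↔ IsCP k g₀ c₀ := by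
  have h2iff : (2 : F) = 0 ↔ (2 : F₀) = 0 := by
    have : (2 : F) = j 2 := by rw [map_ofNat]
    rw [this, map_eq_zero_iff j j.injective]
  have hdet : (g₀.map j).det = j g₀.det := by
    rw [← RingHom.mapMatrix_apply, ← RingHom.map_det]
  have hsub : ∀ d₀ : F₀, g₀.map j - j d₀ • (1 : Matrix ι ι F)
      = (g₀ - d₀ • (1 : Matrix ι ι F₀)).map j := by
    intro d₀
    ext i l
    rw [Matrix.sub_apply, Matrix.map_apply, Matrix.map_apply, Matrix.sub_apply, Matrix.smul_apply,
      Matrix.smul_apply, Matrix.one_apply, Matrix.one_apply, map_sub, smul_eq_mul, smul_eq_mul,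
      map_mul]
    split_ifs
    · rw [map_one]
    · rw [map_zero]
  unfold IsCP
  constructor
  · rintro (⟨h2, h⟩ | ⟨h2, d, hd, hev⟩)
    · left
      refine ⟨fun h => h2 (h2iff.mpr h), ?_⟩
      apply j.injective
      rw [← hdet, h, map_pow]
    · right
      have h2₀ := h2iff.mp h2
      refine ⟨h2₀, ?_⟩
      have hchar : ringChar F₀ = 2 := by
        haveI : CharP F₀ 2 := CharTwo.of_one_ne_zero_of_two_eq_zero one_ne_zero h2₀
        exact ringChar.eq F₀ 2
      obtain ⟨d₀, hd₀⟩ := FiniteField.isSquare_of_char_two hchar c₀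
      have hdd : d = j d₀ := by
        have h3 : (d - j d₀) * (d - j d₀) = 0 := by
          have : (d - j d₀) * (d - j d₀) = d * d + j d₀ * j d₀ - 2 * (d * j d₀) := by ring
          rw [this, hd, ← map_mul, ← hd₀, h2, zero_mul, sub_zero]
          have : j c₀ + j c₀ = 2 * j c₀ := by ring
          rw [this, h2, zero_mul]
        exact sub_eq_zero.mp (mul_self_eq_zero.mp h3)
      refine ⟨d₀, hd₀.symm, ?_⟩
      rw [hdd, hsub, rank_map_field] at hev
      exact hev
  · rintro (⟨h2, h⟩ | ⟨h2, d₀, hd₀, hev⟩)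
    · left
      refine ⟨fun h => h2 (h2iff.mp h), ?_⟩
      rw [hdet, h, map_pow]
    · right
      refine ⟨h2iff.mpr h2, j d₀, by rw [← map_mul, hd₀], ?_⟩
      rw [hsub, rank_map_field]
      exact hev

end BaseChange

section Commute

variable {F : Type*} [Field F] [Fintype F] {ι : Type} [Fintype ι] [DecidableEq ι]
  (Q : QuadraticForm F (ι → F))

/-- a similarity whose automorphism commutes with the standard field automorphism is, up to a
scalar, fixed by the field automorphism. -/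
theorem exists_fixed_of_commute_one [Nontrivial (ι → F)]
    (hQ : (QuadraticMap.polarBilin Q).Nondegenerate) (h5 : 5 ≤ Fintype.card ι)
    (p : ℕ) [Fact p.Prime] [CharP F p]
    (σ : F ≃+* F) (hσQ : ∀ v : ι → F, Q (fun i => σ (v i)) = σ (Q v))
    {r : ℕ} (hr : 0 < r) (hσr : σ ^ r = 1)
    (hinj : ∀ i k : Fin r, σ ^ (i : ℕ) = σ ^ (k : ℕ) → i = k)
    (g : ↥(Cfsg.Geo.quadSimilarityGroup (F := F) ⇑Q))
    (h : PsiM Q hQ h5 (fieldGammaOne Q σ hσQ) * Phi ⇑Q g
      = Phi ⇑Q g * PsiM Q hQ h5 (fieldGammaOne Q σ hσQ)) :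
    ∃ d : Fˣ, gls σ (Matrix.GeneralLinearGroup.scalar ι d * (g : GL ι F)) =
      Matrix.GeneralLinearGroup.scalar ι d * (g : GL ι F) := by
  have hne : Nonempty ι := by
    rw [← Fintype.card_pos_iff]
    omega
  have hdim : finrank F (ι → F) = Fintype.card ι := Module.finrank_fintype_fun_eq_card F
  have hQ' : Nondeg Q := (nondeg_iff Q).mp hQ
  have hkerP : (PsiM Q hQ h5).ker = (scalarGamma (Q := Q)).range := by
    rw [ker_PsiM, ker_Psi hQ' (by rw [hdim]; exact h5) p]
  obtain ⟨γ₁, hγ₁⟩ : ∃ γ₁ : ↥(GammaO Q), γ₁ = fieldGammaOne Q σ hσQ * simGamma Q g := ⟨_, rfl⟩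
  obtain ⟨γ₂, hγ₂⟩ : ∃ γ₂ : ↥(GammaO Q), γ₂ = simGamma Q g * fieldGammaOne Q σ hσQ := ⟨_, rfl⟩
  have h1 : γ₁ * γ₂⁻¹ ∈ (PsiM Q hQ h5).ker := by
    rw [MonoidHom.mem_ker, map_mul, map_inv, mul_inv_eq_one, hγ₁, hγ₂, map_mul, map_mul,
      PsiM_simGamma]
    exact h
  rw [hkerP] at h1
  obtain ⟨c, hc⟩ := h1
  have hc' : γ₁ = scalarGamma c * γ₂ := by
    rw [hc, inv_mul_cancel_right]
  have h2 : gls σ (g : GL ι F) = Matrix.GeneralLinearGroup.scalar ι c * (g : GL ι F) := by
    apply Units.ext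
    apply Matrix.toLin'.injective
    apply LinearMap.ext
    intro w
    obtain ⟨v, rfl⟩ : ∃ v : ι → F, (fun i => σ (v i)) = w :=
      ⟨fun i => σ.symm (w i), by funext i; exact σ.apply_symm_apply _⟩
    have h3 := congrArg (fun γ : ↥(GammaO Q) => gap γ v) hc'
    simp only [hγ₁, hγ₂, gap_mul, gap_scalarGamma, gap_simGamma, gap_fieldGammaOne] at h3
    rw [Matrix.toLin'_apply, Matrix.toLin'_apply, Units.val_mul,
      Matrix.GeneralLinearGroup.coe_scalar, Matrix.scalar_apply, ← Matrix.smul_one_eq_diagonal,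
      Matrix.smul_mul, Matrix.one_mul, Matrix.smul_mulVec, ← h3]
    exact Cfsg.Agent.Helper8.AutSLn.map_mulVec_comp σ _ v
  have hc2 : nrmF σ c r = 1 := by
    have h3 := Cfsg.Agent.Helper8.AutSLn.gls_pow_of_gls_eq σ (g : GL ι F) c h2 r
    have h4 : gls (σ ^ r) (g : GL ι F) = g := by
      rw [hσr]
      apply Units.ext
      ext i k
      rfl
    rw [h4] at h3
    apply Cfsg.Agent.Helper8.AutSLn.scalar_injective (m := ι)
    rw [map_one]
    exact (mul_right_cancel (h3.symm.trans (one_mul _).symm))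
  obtain ⟨d, hd⟩ := Cfsg.Agent.Helper8.AutSLn.hilbert90_units σ hr hσr hinj c hc2
  refine ⟨d, ?_⟩
  rw [map_mul, Cfsg.Agent.Helper8.AutSLn.gls_scalar, h2, ← mul_assoc, ← map_mul, hd,
    mul_comm d, mul_inv_cancel_left]

end Commute

end Cfsg.Agent.Helper8.AutO
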