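import Mathlib
import Cfsg.Agent.Helper8.AutOzzc
import Cfsg.Agent.Helper8.AutOzze
import Cfsg.Agent.Helper8.AutOPb

set_option autoImplicit false
set_option linter.unusedSectionVars false
set_option linter.style.haveILetI false

/-!
# Automorphisms of orthogonal groups, part Pd: the class character is invariant under twisted
conjugacy; the two twisted conjugacy classes of cocycles are told apart by the class character;
the coset of a field automorphism times a similarity, from twisted conjugacy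
-/

namespace Cfsg.Agent.Helper8.AutO

open Module Matrix Cfsg.Agent.Helper8.QuadForm Cfsg.Agent.Helper8.WittQuad
  Cfsg.Agent.Helper8.OrthOrder
  Cfsg.Agent.Helper8.Siegel Cfsg.Agent.Helper8.SiegelGeom Cfsg.Agent.Helper8.SiegelGroup
  Cfsg.Agent.Helper8.SiegelPrim Cfsg.Agent.Helper8.SiegelSimple Cfsg.Agent.Helper8.ReflMatrix
  Cfsg.Agent.Helper8.OmegaSimple Cfsg.Agent.Helper8.AutImagePsi Cfsg.Agent.Helper8.AutImageOrth
  Cfsg.Agent.Helper8.StdForms Cfsg.Agent.Helper8.AutImage Cfsg.Agent.Helper8.AutImageKer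
  Cfsg.Agent.Helper8.AutImageIdx Cfsg.Agent.Helper8.Cls Cfsg.Agent.Helper8.Reflections
open Cfsg.Agent.Helper8.AutSLn (gls nrmGL nrmF unitsAut fixField)

variable {F : Type*} [Field F] [Fintype F] {ι : Type} [Fintype ι] [DecidableEq ι]
  (Q : QuadraticForm F (ι → F))

section Gls

variable (σ : F ≃+* F) (hσQ : ∀ v : ι → F, Q (fun i => σ (v i)) = σ (Q v))

theorem gls_mulVec (w : GL ι F) (v : ι → F) :
    ((gls σ w : GL ι F) : Matrix ι ι F) *ᵥ (fun i => σ (v i))
      = fun i => σ (((w : Matrix ι ι F) *ᵥ v) i) :=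
  Cfsg.Agent.Helper8.AutSLn.map_mulVec_comp σ (w : Matrix ι ι F) v

include hσQ in
/-- the image of a similarity under a field automorphism fixing the form is a similarity. -/
theorem gls_mem_sim (w : GL ι F) (hw : w ∈ Cfsg.Geo.quadSimilarityGroup (F := F) ⇑Q) :
    gls σ w ∈ Cfsg.Geo.quadSimilarityGroup (F := F) ⇑Q := by
  obtain ⟨c, hc⟩ := hw
  refine ⟨unitsAut σ c, fun v => ?_⟩
  obtain ⟨v', rfl⟩ : ∃ v' : ι → F, (fun i => σ (v' i)) = v :=
    ⟨fun i => σ.symm (v i), by funext i; exact σ.apply_symm_apply (v i)⟩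
  rw [gls_mulVec, hσQ, hσQ, hc, map_mul]
  rfl

/-- conjugating a similarity by the standard field automorphism. -/
theorem conj_fieldGammaOne (w : ↥(Cfsg.Geo.quadSimilarityGroup (F := F) ⇑Q)) :
    fieldGammaOne Q σ hσQ * simGamma Q w * (fieldGammaOne Q σ hσQ)⁻¹
      = simGamma Q ⟨gls σ (w : GL ι F), gls_mem_sim Q σ hσQ w.1 w.2⟩ := by
  apply ext_gap
  intro v
  obtain ⟨v', rfl⟩ : ∃ v' : ι → F, gap (fieldGammaOne Q σ hσQ) v' = v :=
    ⟨gap (fieldGammaOne Q σ hσQ)⁻¹ v, gap_gap_inv _ v⟩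
  rw [gap_mul, gap_mul, gap_inv_gap, gap_simGamma, gap_simGamma, gap_fieldGammaOne,
    gap_fieldGammaOne]
  exact (gls_mulVec σ (w : GL ι F) v').symm

variable (hQ : (QuadraticMap.polarBilin Q).Nondegenerate)
  (hne : ∃ v, Q v ≠ 0) (k : ℕ) (hk : Fintype.card ι = 2 * k)

/-- the class character is invariant under field automorphisms fixing the form. -/
theorem clsChar_gls [Nontrivial (ι → F)] (w : ↥(Cfsg.Geo.quadSimilarityGroup (F := F) ⇑Q)) :
    clsChar Q hQ hne k hk ⟨gls σ (w : GL ι F), gls_mem_sim Q σ hσQ w.1 w.2⟩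
      = clsChar Q hQ hne k hk w :=
  clsChar_conj Q hQ hne k hk (fieldGammaOne Q σ hσQ) w _ (conj_fieldGammaOne Q σ hσQ w)

include hσQ in
/-- the class character is invariant under twisted conjugacy. -/
theorem clsChar_twist [Nontrivial (ι → F)]
    (g g' w : ↥(Cfsg.Geo.quadSimilarityGroup (F := F) ⇑Q))
    (h : (g' : GL ι F) = (w : GL ι F) * (g : GL ι F) * (gls σ (w : GL ι F))⁻¹) :
    clsChar Q hQ hne k hk g' = clsChar Q hQ hne k hk g := by
  have e : g' = w * g * (⟨gls σ (w : GL ι F), gls_mem_sim Q σ hσQ w.1 w.2⟩ :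
      ↥(Cfsg.Geo.quadSimilarityGroup (F := F) ⇑Q))⁻¹ := by
    apply Subtype.ext
    rw [h]
    rfl
  rw [e, map_mul, map_mul, map_inv, clsChar_gls Q σ hσQ hQ hne k hk w,
    mul_comm _ (clsChar Q hQ hne k hk g), mul_assoc, mul_inv_cancel, mul_one]

include hσQ in
/-- **the two twisted conjugacy classes of cocycles**: given a cocycle `ρ` which is not
class-preserving, a class-preserving cocycle is a coboundary, and a cocycle which is not
class-preserving is twisted conjugate to `ρ`. -/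
theorem twist_dichotomy [Nontrivial (ι → F)] [Nonempty ι] {r : ℕ} (hr : 0 < r)
    (hσr : σ ^ r = 1) (hσ : ∀ i j : Fin r, σ ^ (i : ℕ) = σ ^ (j : ℕ) → i = j)
    (k' : ℕ) (hk' : k = k' + 1)
    (ρ : ↥(Cfsg.Geo.quadSimilarityGroup (F := F) ⇑Q)) (hρN : nrmGL σ (ρ : GL ι F) r = 1)
    (hρ : clsChar Q hQ hne k hk ρ = -1)
    (g : ↥(Cfsg.Geo.quadSimilarityGroup (F := F) ⇑Q)) (hgN : nrmGL σ (g : GL ι F) r = 1) :
    (clsChar Q hQ hne k hk g = 1 →
      ∃ u : GL ι F, u ∈ Cfsg.Geo.quadSimilarityGroup (F := F) ⇑Q ∧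
        (g : GL ι F) = u * (gls σ u)⁻¹) ∧
    (clsChar Q hQ hne k hk g = -1 →
      ∃ u : GL ι F, u ∈ Cfsg.Geo.quadSimilarityGroup (F := F) ⇑Q ∧
        (g : GL ι F) = u * (ρ : GL ι F) * (gls σ u)⁻¹) := by
  have hQ' : Nondeg Q := (nondeg_iff Q).mp hQ
  have hcard : Fintype.card ι = 2 * (k' + 1) := by rw [hk, hk']
  have h3 := three_cocycles σ hr hσr hσ Q hQ' hσQ k' hcard 1 (ρ : GL ι F) (g : GL ι F)
    (Subgroup.one_mem _) ρ.2 g.2 (Cfsg.Agent.Helper8.AutSLn.nrmGL_one σ r) hρN hgN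
  have hone : clsChar Q hQ hne k hk 1 = 1 := map_one _
  have hneq : (1 : ℤˣ) ≠ -1 := by decide
  rcases h3 with ⟨w, hw, e⟩ | ⟨w, hw, e⟩ | ⟨w, hw, e⟩
  · exfalso
    have := clsChar_twist Q σ hσQ hQ hne k hk 1 ρ ⟨w, hw⟩ e
    rw [hρ, hone] at this
    exact hneq this.symm
  · have hc := clsChar_twist Q σ hσQ hQ hne k hk 1 g ⟨w, hw⟩ e
    rw [hone] at hc
    constructor
    · intro _
      refine ⟨w, hw, ?_⟩
      rw [e]
      simp
    · intro h
      rw [h] at hc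
      exact absurd hc.symm hneq
  · have hc := clsChar_twist Q σ hσQ hQ hne k hk ρ g ⟨w, hw⟩ e
    rw [hρ] at hc
    constructor
    · intro h
      rw [h] at hc
      exact absurd hc hneq
    · intro _
      exact ⟨w, hw, e⟩

end Gls

/-- **the coset of a field automorphism times a similarity, from twisted conjugacy**: an element
`Φ(g) φ_σ` whose `r`-th power is trivial, such that the scalar multiples of `g` which are cocycles
are twisted conjugate to `s`, is conjugate to `Φ(s) φ_σ` under the conformal group. -/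
theorem field_case_of_twist [Nontrivial (ι → F)]
    (hQ : (QuadraticMap.polarBilin Q).Nondegenerate) (h5 : 5 ≤ Fintype.card ι)
    (p : ℕ) [Fact p.Prime] [CharP F p]
    (σ : F ≃+* F) (hσQ : ∀ v : ι → F, Q (fun i => σ (v i)) = σ (Q v))
    {r : ℕ} (hr : 0 < r) (hσr : σ ^ r = 1)
    (hinj : ∀ i j : Fin r, σ ^ (i : ℕ) = σ ^ (j : ℕ) → i = j)
    (s g : ↥(Cfsg.Geo.quadSimilarityGroup (F := F) ⇑Q))
    (TW : ∀ c : Fˣ, nrmGL σ (Matrix.GeneralLinearGroup.scalar ι c⁻¹ * (g : GL ι F)) r = 1 →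
      ∃ u : GL ι F, u ∈ Cfsg.Geo.quadSimilarityGroup (F := F) ⇑Q ∧
        Matrix.GeneralLinearGroup.scalar ι c⁻¹ * (g : GL ι F)
          = u * (s : GL ι F) * (gls σ u)⁻¹)
    (hy : (PsiM Q hQ h5 (simGamma Q g) * PsiM Q hQ h5 (fieldGammaOne Q σ hσQ)) ^ r = 1) :
    ∃ u : ↥(Cfsg.Geo.quadSimilarityGroup (F := F) ⇑Q),
      PsiM Q hQ h5 (simGamma Q g) * PsiM Q hQ h5 (fieldGammaOne Q σ hσQ) =
        PsiM Q hQ h5 (simGamma Q u) *
          (PsiM Q hQ h5 (simGamma Q s) * PsiM Q hQ h5 (fieldGammaOne Q σ hσQ)) *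
          (PsiM Q hQ h5 (simGamma Q u))⁻¹ := by
  have hne : Nonempty ι := by
    rw [← Fintype.card_pos_iff]
    omega
  have hdim : finrank F (ι → F) = Fintype.card ι := Module.finrank_fintype_fun_eq_card F
  have hQ' : Nondeg Q := (nondeg_iff Q).mp hQ
  have hkerP : (PsiM Q hQ h5).ker = (scalarGamma (Q := Q)).range := by
    rw [ker_PsiM, ker_Psi hQ' (by rw [hdim]; exact h5) p]
  obtain ⟨γ, hγ⟩ : ∃ γ : ↥(GammaO Q), γ = simGamma Q g * fieldGammaOne Q σ hσQ := ⟨_, rfl⟩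
  have hPγ : PsiM Q hQ h5 γ
      = PsiM Q hQ h5 (simGamma Q g) * PsiM Q hQ h5 (fieldGammaOne Q σ hσQ) := by
    rw [hγ, map_mul]
  have hker : γ ^ r ∈ (PsiM Q hQ h5).ker := by
    rw [MonoidHom.mem_ker, map_pow, hPγ]
    exact hy
  rw [hkerP] at hker
  obtain ⟨μ, hμ⟩ := hker
  have hgapγ : ∀ v, gap γ v = ((g : GL ι F) : Matrix ι ι F) *ᵥ (σ ∘ v) := by
    intro v
    rw [hγ, gap_mul, gap_simGamma, gap_fieldGammaOne]
    rfl
  have hN : nrmGL σ (g : GL ι F) r = Matrix.GeneralLinearGroup.scalar ι μ := by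
    apply Units.ext
    apply Matrix.toLin'.injective
    apply LinearMap.ext
    intro v
    have h1 := gap_pow γ r v
    rw [← hμ, gap_scalarGamma] at h1
    have h2 : gap γ = fun w => ((g : GL ι F) : Matrix ι ι F) *ᵥ (σ ∘ w) := funext hgapγ
    rw [h2, Cfsg.Agent.Helper8.AutSLn.iterate_semilinear, hσr] at h1
    rw [Matrix.toLin'_apply, Matrix.toLin'_apply, Matrix.GeneralLinearGroup.coe_scalar,
      Matrix.scalar_apply, ← Matrix.smul_one_eq_diagonal, Matrix.smul_mulVec, Matrix.one_mulVec, h1]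
    rfl
  have h2 : unitsAut σ μ = μ := by
    have e1 := Cfsg.Agent.Helper8.AutSLn.nrmGL_succ σ (g : GL ι F) r
    have e2 := Cfsg.Agent.Helper8.AutSLn.nrmGL_succ' σ (g : GL ι F) r
    have e3 : gls (1 : F ≃+* F) (g : GL ι F) = g := by
      apply Units.ext
      ext i j
      rfl
    rw [hσr, e3, e1, hN, Cfsg.Agent.Helper8.AutSLn.gls_scalar,
      Matrix.GeneralLinearGroup.scalar_commute μ (g : GL ι F)] at e2
    exact Cfsg.Agent.Helper8.AutSLn.scalar_injective (mul_left_cancel e2)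
  obtain ⟨c, hc⟩ := Cfsg.Agent.Helper8.AutSLn.exists_nrmF_eq σ hr hσr hinj μ h2
  have hN' : nrmGL σ (Matrix.GeneralLinearGroup.scalar ι c⁻¹ * (g : GL ι F)) r = 1 := by
    rw [Cfsg.Agent.Helper8.AutSLn.nrmGL_scalar_mul, Cfsg.Agent.Helper8.AutSLn.nrmF_inv, hc,
      hN, ← map_mul, inv_mul_cancel, map_one]
  obtain ⟨u, hu, e⟩ := TW c hN'
  refine ⟨⟨u, hu⟩, ?_⟩
  have hfinal : γ = scalarGamma c *
      (simGamma Q ⟨u, hu⟩ * (simGamma Q s * fieldGammaOne Q σ hσQ) *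
        (simGamma Q ⟨u, hu⟩)⁻¹) := by
    apply ext_gap
    intro v
    rw [hgapγ, gap_mul, gap_scalarGamma, gap_mul, gap_mul, gap_mul, gap_simGamma, gap_simGamma,
      gap_fieldGammaOne, ← map_inv, gap_simGamma]
    have e1 : (g : GL ι F) = Matrix.GeneralLinearGroup.scalar ι c *
        (u * (s : GL ι F) * gls σ u⁻¹) := by
      rw [map_inv, ← e, ← mul_assoc, ← map_mul, mul_inv_cancel, map_one, one_mul]
    rw [e1, Units.val_mul, Units.val_mul, Units.val_mul, Matrix.GeneralLinearGroup.coe_scalar,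
      Matrix.scalar_apply, ← Matrix.smul_one_eq_diagonal, Matrix.smul_mul, Matrix.one_mul,
      Matrix.smul_mulVec, ← Matrix.mulVec_mulVec, ← Matrix.mulVec_mulVec]
    congr 3
    exact Cfsg.Agent.Helper8.AutSLn.map_mulVec_comp σ _ v
  have hsc : PsiM Q hQ h5 (scalarGamma c) = 1 := by
    rw [← MonoidHom.mem_ker, hkerP]
    exact ⟨c, rfl⟩
  rw [← hPγ, hfinal, map_mul, hsc, one_mul, map_mul, map_mul, map_mul, map_inv]

end Cfsg.Agent.Helper8.AutO
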