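import Mathlib
import Cfsg.Agent.Helper8.AutOPa
import Cfsg.Agent.Helper8.AutOPc
import Cfsg.Agent.Helper8.AutOPd
import Cfsg.Agent.Helper8.AutOt
import Cfsg.Agent.S2722

set_option autoImplicit false
set_option linter.unusedSectionVars false
set_option linter.style.haveILetI false

/-!
# Automorphisms of orthogonal groups, part Pe: the elements of prime order in the coset of a field
or graph-field automorphism of `PΩ⁺_{2m}(q)`, `m ≥ 5`
-/

namespace Cfsg.Agent.Helper8.AutO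

open Module Matrix Cfsg.Agent.Helper8.QuadForm Cfsg.Agent.Helper8.WittQuad
  Cfsg.Agent.Helper8.OrthOrder
  Cfsg.Agent.Helper8.Siegel Cfsg.Agent.Helper8.SiegelGeom Cfsg.Agent.Helper8.SiegelGroup
  Cfsg.Agent.Helper8.SiegelPrim Cfsg.Agent.Helper8.SiegelSimple Cfsg.Agent.Helper8.ReflMatrix
  Cfsg.Agent.Helper8.OmegaSimple Cfsg.Agent.Helper8.AutImagePsi Cfsg.Agent.Helper8.AutImageOrth
  Cfsg.Agent.Helper8.StdForms Cfsg.Agent.Helper8.AutImage Cfsg.Agent.Helper8.AutImageKer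
  Cfsg.Agent.Helper8.AutImageIdx Cfsg.Agent.Helper8.Cls Cfsg.Agent.Helper8.Reflections
  Cfsg.Agent.Helper8.OrT Cfsg.Agent.Helper8.OmegaStd Cfsg.Agent.Helper8.OmegaDiag
open Cfsg.Agent.Helper8.AutSLn (gls nrmGL nrmF unitsAut fixField)

section Refl

variable {F : Type*} [Field F] [Fintype F] {ι : Type} [Fintype ι] [DecidableEq ι]
  (Q : QuadraticForm F (ι → F))
  (σ : F ≃+* F) (hσQ : ∀ v : ι → F, Q (fun i => σ (v i)) = σ (Q v))

include hσQ in
/-- a reflection in a vector with coordinates fixed by `σ` is fixed by `σ`. -/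
theorem gls_reflGO {z : ι → F} (hz : ∀ i, σ (z i) = z i) :
    gls σ ((reflGO Q z : ↥(Cfsg.Geo.quadSimilarityGroup (F := F) ⇑Q)) : GL ι F)
      = ((reflGO Q z : ↥(Cfsg.Geo.quadSimilarityGroup (F := F) ⇑Q)) : GL ι F) := by
  have h1 := conj_fieldGammaOne Q σ hσQ (reflGO Q z)
  have h2 := reflGO_commute Q σ hσQ hz
  rw [← h2, mul_inv_cancel_right] at h1
  have := simGamma_injective Q h1
  exact (congrArg Subtype.val this).symm

theorem reflGO_mul_self (z : ι → F) : reflGO Q z * reflGO Q z = 1 := by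
  unfold reflGO
  rw [← map_mul, reflElt_mul_self, map_one]

include hσQ in
/-- a reflection in a vector with coordinates fixed by `σ` is a cocycle for `σ` of order two. -/
theorem nrmGL_two_reflGO {z : ι → F} (hz : ∀ i, σ (z i) = z i) :
    nrmGL σ ((reflGO Q z : ↥(Cfsg.Geo.quadSimilarityGroup (F := F) ⇑Q)) : GL ι F) 2 = 1 := by
  rw [Cfsg.Agent.Helper8.AutSLn.nrmGL_succ, Cfsg.Agent.Helper8.AutSLn.nrmGL_succ,
    Cfsg.Agent.Helper8.AutSLn.nrmGL_zero, map_one, mul_one]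
  have h1 := gls_reflGO Q σ hσQ hz
  have h2 := congrArg Subtype.val (reflGO_mul_self Q z)
  rw [Subgroup.coe_mul] at h2
  have h3 : Matrix.GeneralLinearGroup.map (σ : F →+* F)
      ((reflGO Q z : ↥(Cfsg.Geo.quadSimilarityGroup (F := F) ⇑Q)) : GL ι F)
      = ((reflGO Q z : ↥(Cfsg.Geo.quadSimilarityGroup (F := F) ⇑Q)) : GL ι F) := h1
  rw [h3]
  exact h2

variable (hQ : (QuadraticMap.polarBilin Q).Nondegenerate)
  (hne : ∃ v, Q v ≠ 0) (k : ℕ) (hk : Fintype.card ι = 2 * k)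

theorem clsChar_reflGO {z : ι → F} (hz : Q z ≠ 0) :
    clsChar Q hQ hne k hk (reflGO Q z) = -1 :=
  clsChar_reflElt Q hQ hne k hk (reflGO Q z) hz rfl

end Refl

section Plus

variable {F : Type*} [Field F] [Fintype F]

/-- a non-singular vector of the plus-type form with coordinates in the prime field. -/
theorem plus_e0 (k : ℕ) : ∃ e₀ : Fin (k + 1) ⊕ Fin (k + 1) → F, plusForm F (k + 1) e₀ ≠ 0 ∧
    ∀ (σ : F ≃+* F) (i : Fin (k + 1) ⊕ Fin (k + 1)), σ (e₀ i) = e₀ i := by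
  refine ⟨(Pi.single (Sum.inl 0) 1 : Fin (k + 1) ⊕ Fin (k + 1) → F) + Pi.single (Sum.inr 0) 1,
    ?_, ?_⟩
  · rw [Q_add_of_isHyp (plusForm F (k + 1)) (plus_isHyp F (k + 1)) 0]
    exact one_ne_zero
  · intro σ i
    simp only [Pi.add_apply, Pi.single_apply, map_add]
    split_ifs <;> simp

theorem mul_conj_of_commute {X : Type*} [Group X] (A B C : X) (hBC : B * C = C * B) :
    A * C * A⁻¹ = A * B * C * (A * B)⁻¹ := by
  have : A * B * C * (A * B)⁻¹ = A * (B * C) * B⁻¹ * A⁻¹ := by group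
  rw [this, hBC]
  group

set_option maxHeartbeats 1600000 in
/-- **the field case**: an element of order dividing `r` of the coset of the standard field
automorphism of `σ` (of prime order `r`) by a class-preserving similarity is conjugate to it
under a class-preserving similarity. -/
theorem field_coset_plus {k : ℕ}
    (Q : QuadraticForm F (Fin (k + 1) ⊕ Fin (k + 1) → F)) (hQeq : Q = plusForm F (k + 1))
    (hQ : (QuadraticMap.polarBilin Q).Nondegenerate) (hne : ∃ v, Q v ≠ 0)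
    (h5 : 5 ≤ Fintype.card (Fin (k + 1) ⊕ Fin (k + 1))) (p : ℕ) [Fact p.Prime] [CharP F p]
    (σ : F ≃+* F) (hσQ : ∀ v : Fin (k + 1) ⊕ Fin (k + 1) → F, Q (fun i => σ (v i)) = σ (Q v))
    {r : ℕ} (hr : r.Prime) (hσo : orderOf σ = r)
    (g : ↥(Cfsg.Geo.quadSimilarityGroup (F := F) ⇑Q))
    (hg : clsChar Q hQ hne (k + 1) (card_idx_plus (k + 1)) g = 1)
    (hy : (PsiM Q hQ h5 (simGamma Q g) * PsiM Q hQ h5 (fieldGammaOne Q σ hσQ)) ^ r = 1) :
    ∃ u : ↥(Cfsg.Geo.quadSimilarityGroup (F := F) ⇑Q),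
      clsChar Q hQ hne (k + 1) (card_idx_plus (k + 1)) u = 1 ∧
      PsiM Q hQ h5 (simGamma Q g) * PsiM Q hQ h5 (fieldGammaOne Q σ hσQ) =
        PsiM Q hQ h5 (simGamma Q u) * PsiM Q hQ h5 (fieldGammaOne Q σ hσQ) *
          (PsiM Q hQ h5 (simGamma Q u))⁻¹ := by
  subst hQeq
  classical
  haveI : Nonempty (Fin (k + 1) ⊕ Fin (k + 1)) := ⟨Sum.inl 0⟩
  have hσr : σ ^ r = 1 := by rw [← hσo, pow_orderOf_eq_one]
  have hinj : ∀ i j : Fin r, σ ^ (i : ℕ) = σ ^ (j : ℕ) → i = j := by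
    intro i j e
    apply Fin.ext
    apply pow_injOn_Iio_orderOf (x := σ) _ _ e
    · rw [hσo]
      exact i.2
    · rw [hσo]
      exact j.2
  obtain ⟨e₀, he₀Q, he₀σ⟩ := plus_e0 (F := F) k
  have TW : ∀ c : Fˣ, nrmGL σ (Matrix.GeneralLinearGroup.scalar _ c⁻¹ *
      (g : GL (Fin (k + 1) ⊕ Fin (k + 1)) F)) r = 1 →
      ∃ u : GL (Fin (k + 1) ⊕ Fin (k + 1)) F,
        u ∈ Cfsg.Geo.quadSimilarityGroup (F := F) ⇑(plusForm F (k + 1)) ∧
        Matrix.GeneralLinearGroup.scalar _ c⁻¹ * (g : GL (Fin (k + 1) ⊕ Fin (k + 1)) F)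
          = u * ((1 : ↥(Cfsg.Geo.quadSimilarityGroup (F := F) ⇑(plusForm F (k + 1)))) :
            GL (Fin (k + 1) ⊕ Fin (k + 1)) F) * (gls σ u)⁻¹ := by
    intro c hN
    have hmem : Matrix.GeneralLinearGroup.scalar _ c⁻¹ *
        (g : GL (Fin (k + 1) ⊕ Fin (k + 1)) F)
        ∈ Cfsg.Geo.quadSimilarityGroup (F := F) ⇑(plusForm F (k + 1)) :=
      Subgroup.mul_mem _ (scalarGO (plusForm F (k + 1)) c⁻¹).2 g.2
    rcases hr.eq_two_or_odd' with h2 | hodd
    · subst h2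
      have hd := twist_dichotomy (plusForm F (k + 1)) σ hσQ hQ hne (k + 1)
        (card_idx_plus (k + 1)) (by norm_num) hσr hinj k rfl (reflGO (plusForm F (k + 1)) e₀)
        (nrmGL_two_reflGO (plusForm F (k + 1)) σ hσQ (he₀σ σ))
        (clsChar_reflGO (plusForm F (k + 1)) hQ hne _ _ he₀Q)
        (scalarGO (plusForm F (k + 1)) c⁻¹ * g) hN
      have hcl : clsChar (plusForm F (k + 1)) hQ hne (k + 1) (card_idx_plus (k + 1))
          (scalarGO (plusForm F (k + 1)) c⁻¹ * g) = 1 := by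
        rw [map_mul, clsChar_scalarGO, hg, one_mul]
      obtain ⟨u, hu, e⟩ := hd.1 hcl
      refine ⟨u, hu, ?_⟩
      rw [OneMemClass.coe_one, mul_one]
      exact e
    · obtain ⟨u, hu, e⟩ := hilbert90_plus_odd σ hr.pos hodd hσr hinj k _ hmem hN
      refine ⟨u, hu, ?_⟩
      rw [OneMemClass.coe_one, mul_one]
      exact e
  obtain ⟨u, hu⟩ := field_case_of_twist (plusForm F (k + 1)) hQ h5 p σ hσQ hr.pos hσr hinj 1 g
    TW hy
  rw [map_one, map_one, one_mul] at hu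
  rcases Int.units_eq_one_or (clsChar (plusForm F (k + 1)) hQ hne (k + 1)
    (card_idx_plus (k + 1)) u) with h1 | h1
  · exact ⟨u, h1, hu⟩
  · refine ⟨u * reflGO (plusForm F (k + 1)) e₀, ?_, ?_⟩
    · rw [map_mul, h1, clsChar_reflGO (plusForm F (k + 1)) hQ hne _ _ he₀Q]
      decide
    · have hcomm := reflGO_commute (plusForm F (k + 1)) σ hσQ (he₀σ σ)
      have hcomm' := congrArg (PsiM (plusForm F (k + 1)) hQ h5) hcomm
      rw [map_mul, map_mul] at hcomm'
      rw [hu, map_mul, map_mul]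
      exact mul_conj_of_commute _ _ _ hcomm'

set_option maxHeartbeats 1600000 in
/-- **the graph-field case**: an involution in the coset of the product `x₀` of the reflection in
a `σ`-fixed vector and the standard field automorphism of `σ` (of order two) by a
class-preserving similarity is conjugate to `x₀` under a class-preserving similarity. -/
theorem graphfield_coset_plus {k : ℕ}
    (Q : QuadraticForm F (Fin (k + 1) ⊕ Fin (k + 1) → F)) (hQeq : Q = plusForm F (k + 1))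
    (hQ : (QuadraticMap.polarBilin Q).Nondegenerate) (hne : ∃ v, Q v ≠ 0)
    (h5 : 5 ≤ Fintype.card (Fin (k + 1) ⊕ Fin (k + 1))) (p : ℕ) [Fact p.Prime] [CharP F p]
    (σ : F ≃+* F) (hσQ : ∀ v : Fin (k + 1) ⊕ Fin (k + 1) → F, Q (fun i => σ (v i)) = σ (Q v))
    (hσo : orderOf σ = 2) (z : Fin (k + 1) ⊕ Fin (k + 1) → F) (hz : Q z ≠ 0)
    (hzσ : ∀ i, σ (z i) = z i)
    (g : ↥(Cfsg.Geo.quadSimilarityGroup (F := F) ⇑Q))
    (hg : clsChar Q hQ hne (k + 1) (card_idx_plus (k + 1)) g = 1)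
    (hy : (PsiM Q hQ h5 (simGamma Q g) * (PsiM Q hQ h5 (simGamma Q (reflGO Q z)) *
      PsiM Q hQ h5 (fieldGammaOne Q σ hσQ))) ^ 2 = 1) :
    ∃ u : ↥(Cfsg.Geo.quadSimilarityGroup (F := F) ⇑Q),
      clsChar Q hQ hne (k + 1) (card_idx_plus (k + 1)) u = 1 ∧
      PsiM Q hQ h5 (simGamma Q g) * (PsiM Q hQ h5 (simGamma Q (reflGO Q z)) *
        PsiM Q hQ h5 (fieldGammaOne Q σ hσQ)) =
        PsiM Q hQ h5 (simGamma Q u) * (PsiM Q hQ h5 (simGamma Q (reflGO Q z)) *
          PsiM Q hQ h5 (fieldGammaOne Q σ hσQ)) * (PsiM Q hQ h5 (simGamma Q u))⁻¹ := by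
  subst hQeq
  classical
  haveI : Nonempty (Fin (k + 1) ⊕ Fin (k + 1)) := ⟨Sum.inl 0⟩
  have hσr : σ ^ 2 = 1 := by rw [← hσo, pow_orderOf_eq_one]
  have hinj : ∀ i j : Fin 2, σ ^ (i : ℕ) = σ ^ (j : ℕ) → i = j := by
    intro i j e
    apply Fin.ext
    apply pow_injOn_Iio_orderOf (x := σ) _ _ e
    · rw [hσo]
      exact i.2
    · rw [hσo]
      exact j.2
  have hρ := clsChar_reflGO (plusForm F (k + 1)) hQ hne (k + 1) (card_idx_plus (k + 1)) hz
  have hρN := nrmGL_two_reflGO (plusForm F (k + 1)) σ hσQ hzσ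
  have hy' : (PsiM (plusForm F (k + 1)) hQ h5 (simGamma (plusForm F (k + 1))
      (g * reflGO (plusForm F (k + 1)) z)) *
      PsiM (plusForm F (k + 1)) hQ h5 (fieldGammaOne (plusForm F (k + 1)) σ hσQ)) ^ 2 = 1 := by
    rw [map_mul, map_mul, mul_assoc]
    exact hy
  have TW : ∀ c : Fˣ, nrmGL σ (Matrix.GeneralLinearGroup.scalar _ c⁻¹ *
      ((g * reflGO (plusForm F (k + 1)) z :
        ↥(Cfsg.Geo.quadSimilarityGroup (F := F) ⇑(plusForm F (k + 1)))) :
        GL (Fin (k + 1) ⊕ Fin (k + 1)) F)) 2 = 1 →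
      ∃ u : GL (Fin (k + 1) ⊕ Fin (k + 1)) F,
        u ∈ Cfsg.Geo.quadSimilarityGroup (F := F) ⇑(plusForm F (k + 1)) ∧
        Matrix.GeneralLinearGroup.scalar _ c⁻¹ *
          ((g * reflGO (plusForm F (k + 1)) z :
            ↥(Cfsg.Geo.quadSimilarityGroup (F := F) ⇑(plusForm F (k + 1)))) :
            GL (Fin (k + 1) ⊕ Fin (k + 1)) F)
          = u * ((reflGO (plusForm F (k + 1)) z :
            ↥(Cfsg.Geo.quadSimilarityGroup (F := F) ⇑(plusForm F (k + 1)))) :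
            GL (Fin (k + 1) ⊕ Fin (k + 1)) F) * (gls σ u)⁻¹ := by
    intro c hN
    have hd := twist_dichotomy (plusForm F (k + 1)) σ hσQ hQ hne (k + 1)
      (card_idx_plus (k + 1)) (by norm_num) hσr hinj k rfl (reflGO (plusForm F (k + 1)) z)
      hρN hρ (scalarGO (plusForm F (k + 1)) c⁻¹ * (g * reflGO (plusForm F (k + 1)) z)) hN
    have hcl : clsChar (plusForm F (k + 1)) hQ hne (k + 1) (card_idx_plus (k + 1))
        (scalarGO (plusForm F (k + 1)) c⁻¹ * (g * reflGO (plusForm F (k + 1)) z)) = -1 := by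
      rw [map_mul, map_mul, clsChar_scalarGO, hg, hρ, one_mul, one_mul]
    exact hd.2 hcl
  obtain ⟨u, hu⟩ := field_case_of_twist (plusForm F (k + 1)) hQ h5 p σ hσQ (by norm_num) hσr
    hinj (reflGO (plusForm F (k + 1)) z) (g * reflGO (plusForm F (k + 1)) z) TW hy'
  rw [map_mul, map_mul, mul_assoc] at hu
  rcases Int.units_eq_one_or (clsChar (plusForm F (k + 1)) hQ hne (k + 1)
    (card_idx_plus (k + 1)) u) with h1 | h1
  · exact ⟨u, h1, hu⟩
  · refine ⟨u * reflGO (plusForm F (k + 1)) z, ?_, ?_⟩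
    · rw [map_mul, h1, hρ]
      decide
    · have hcomm := reflGO_commute (plusForm F (k + 1)) σ hσQ hzσ
      have hcomm' := congrArg (PsiM (plusForm F (k + 1)) hQ h5) hcomm
      rw [map_mul, map_mul] at hcomm'
      rw [hu, map_mul, map_mul]
      apply mul_conj_of_commute
      rw [mul_assoc, hcomm']

end Plus

end Cfsg.Agent.Helper8.AutO
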