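import Mathlib
import Cfsg.Agent.Helper8.AutOPe
import Cfsg.Agent.Helper8.InnDiagMinusC

set_option autoImplicit false
set_option linter.unusedSectionVars false
set_option linter.style.haveILetI false

/-!
# Automorphisms of orthogonal groups, part Qd: the minus-type form written on the index set of the
plus-type form, its isometry with the plus-type form over a field where the binary part splits,
and the swap of the last hyperbolic pair
-/

namespace Cfsg.Agent.Helper8.AutO

open Module Matrix Cfsg.Agent.Helper8.QuadForm Cfsg.Agent.Helper8.StdForms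
  Cfsg.Agent.Helper8.Reflections Cfsg.Agent.Helper8.OmegaStd Cfsg.Agent.Helper8.OmegaDiag
  Cfsg.Agent.Helper8.InnDiagMinus Cfsg.Agent.Helper8.ReflMatrix

/-- the bijection between the index sets of the plus-type form of rank `k + 1` and of the
minus-type form with `k` hyperbolic pairs. -/
def idxEquiv (k : ℕ) : Fin (k + 1) ⊕ Fin (k + 1) ≃ (Fin k ⊕ Fin k) ⊕ Fin 2 where
  toFun := Sum.elim
    (fun i => Fin.lastCases (motive := fun _ => (Fin k ⊕ Fin k) ⊕ Fin 2) (Sum.inr 0)
      (fun i => Sum.inl (Sum.inl i)) i)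
    (fun i => Fin.lastCases (motive := fun _ => (Fin k ⊕ Fin k) ⊕ Fin 2) (Sum.inr 1)
      (fun i => Sum.inl (Sum.inr i)) i)
  invFun := Sum.elim (Sum.elim (fun i => Sum.inl i.castSucc) (fun i => Sum.inr i.castSucc))
    (fun j => if j = 0 then Sum.inl (Fin.last k) else Sum.inr (Fin.last k))
  left_inv := by
    rintro (i | i)
    · refine Fin.lastCases ?_ (fun i => ?_) i <;> simp
    · refine Fin.lastCases ?_ (fun i => ?_) i <;> simp
  right_inv := by
    rintro ((i | i) | j)
    · simp
    · simp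
    · fin_cases j <;> simp

theorem idxEquiv_symm_inl_inl (k : ℕ) (i : Fin k) :
    (idxEquiv k).symm (Sum.inl (Sum.inl i)) = Sum.inl i.castSucc := rfl

theorem idxEquiv_symm_inl_inr (k : ℕ) (i : Fin k) :
    (idxEquiv k).symm (Sum.inl (Sum.inr i)) = Sum.inr i.castSucc := rfl

theorem idxEquiv_symm_inr_zero (k : ℕ) :
    (idxEquiv k).symm (Sum.inr 0) = Sum.inl (Fin.last k) := rfl

theorem idxEquiv_symm_inr_one (k : ℕ) :
    (idxEquiv k).symm (Sum.inr 1) = Sum.inr (Fin.last k) := rfl

section Forms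

variable (K : Type*) [Field K] (k : ℕ) (a b : K)

/-- the minus-type form on the index set of the plus-type form: the coordinates of the last
hyperbolic pair carry the binary part. -/
noncomputable def twForm : QuadraticForm K (Fin (k + 1) ⊕ Fin (k + 1) → K) :=
  (minusForm K k a b).comp
    (LinearEquiv.funCongrLeft K K (idxEquiv k).symm :
      (Fin (k + 1) ⊕ Fin (k + 1) → K) ≃ₗ[K] ((Fin k ⊕ Fin k) ⊕ Fin 2 → K)).toLinearMap

theorem twForm_apply (v : Fin (k + 1) ⊕ Fin (k + 1) → K) :
    twForm K k a b v = minusForm K k a b (v ∘ (idxEquiv k).symm) := rfl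

end Forms

section Split

variable {K : Type*} [Field K] (k : ℕ) (ρ ρ' : K)

/-- the isometry from the minus-type form on the index set of the plus-type form, with split
binary part, to the plus-type form. -/
noncomputable def twEquiv (hne : ρ ≠ ρ') :
    (Fin (k + 1) ⊕ Fin (k + 1) → K) ≃ₗ[K] (Fin (k + 1) ⊕ Fin (k + 1) → K) :=
  (LinearEquiv.funCongrLeft K K (idxEquiv k).symm).trans (Lequiv k ρ ρ' hne)

theorem twEquiv_apply (hne : ρ ≠ ρ') (v : Fin (k + 1) ⊕ Fin (k + 1) → K) :
    twEquiv k ρ ρ' hne v = Lmap k ρ ρ' (v ∘ (idxEquiv k).symm) := by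
  unfold twEquiv
  rw [LinearEquiv.trans_apply, Lequiv_apply]
  rfl

theorem twEquiv_inl_castSucc (hne : ρ ≠ ρ') (v : Fin (k + 1) ⊕ Fin (k + 1) → K) (i : Fin k) :
    twEquiv k ρ ρ' hne v (Sum.inl i.castSucc) = v (Sum.inl i.castSucc) := by
  rw [twEquiv_apply, Lmap_inl_castSucc]
  rfl

theorem twEquiv_inr_castSucc (hne : ρ ≠ ρ') (v : Fin (k + 1) ⊕ Fin (k + 1) → K) (i : Fin k) :
    twEquiv k ρ ρ' hne v (Sum.inr i.castSucc) = v (Sum.inr i.castSucc) := by
  rw [twEquiv_apply, Lmap_inr_castSucc]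
  rfl

theorem twEquiv_inl_last (hne : ρ ≠ ρ') (v : Fin (k + 1) ⊕ Fin (k + 1) → K) :
    twEquiv k ρ ρ' hne v (Sum.inl (Fin.last k))
      = v (Sum.inl (Fin.last k)) - ρ * v (Sum.inr (Fin.last k)) := by
  rw [twEquiv_apply, Lmap_inl_last]
  rfl

theorem twEquiv_inr_last (hne : ρ ≠ ρ') (v : Fin (k + 1) ⊕ Fin (k + 1) → K) :
    twEquiv k ρ ρ' hne v (Sum.inr (Fin.last k))
      = v (Sum.inl (Fin.last k)) - ρ' * v (Sum.inr (Fin.last k)) := by
  rw [twEquiv_apply, Lmap_inr_last]
  rfl

theorem plusForm_twEquiv (a b : K) (hsum : ρ + ρ' = -a) (hprod : ρ * ρ' = b) (hne : ρ ≠ ρ')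
    (v : Fin (k + 1) ⊕ Fin (k + 1) → K) :
    plusForm K (k + 1) (twEquiv k ρ ρ' hne v) = twForm K k a b v := by
  rw [twEquiv_apply, plusForm_Lmap k ρ ρ' a b hsum hprod, twForm_apply, minusForm_apply]

/-- the minus-type form with split binary part is nondegenerate. -/
theorem twForm_nondeg_of_split (a b : K) (hsum : ρ + ρ' = -a) (hprod : ρ * ρ' = b)
    (hne : ρ ≠ ρ') : (QuadraticMap.polarBilin (twForm K k a b)).Nondegenerate := by
  rw [nondeg_iff]
  intro v hv
  have h1 : twEquiv k ρ ρ' hne v = 0 := by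
    apply (nondeg_iff _).mp (plusForm_nondeg K (k + 1))
    intro w
    obtain ⟨w', rfl⟩ := (twEquiv k ρ ρ' hne).surjective w
    have := hv w'
    unfold QuadraticMap.polar at this ⊢
    rw [← map_add, plusForm_twEquiv k ρ ρ' a b hsum hprod, plusForm_twEquiv k ρ ρ' a b hsum hprod,
      plusForm_twEquiv k ρ ρ' a b hsum hprod]
    exact this
  exact (twEquiv k ρ ρ' hne).map_eq_zero_iff.mp h1

end Split

section Swap

variable {K : Type*} [Field K] (k : ℕ)

/-- the vector `e - f` of the last hyperbolic pair. -/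
def swapVec : Fin (k + 1) ⊕ Fin (k + 1) → K :=
  Pi.single (Sum.inl (Fin.last k)) 1 - Pi.single (Sum.inr (Fin.last k)) 1

theorem plusForm_swapVec : plusForm K (k + 1) (swapVec k) = -1 :=
  Q_sub_of_isHyp (plusForm K (k + 1)) (plus_isHyp K (k + 1)) (Fin.last k)

theorem swapVec_fixed (σ : K ≃+* K) (i : Fin (k + 1) ⊕ Fin (k + 1)) :
    σ (swapVec (K := K) k i) = swapVec k i := by
  unfold swapVec
  simp only [Pi.sub_apply, Pi.single_apply, map_sub]
  split_ifs <;> simp

/-- the reflection in `e - f` of the last hyperbolic pair interchanges the two coordinates. -/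
theorem refl_swapVec (x : Fin (k + 1) ⊕ Fin (k + 1) → K) :
    refl (plusForm K (k + 1)) (swapVec k) x
      = x ∘ (Equiv.swap (Sum.inl (Fin.last k)) (Sum.inr (Fin.last k))) := by
  have hp : QuadraticMap.polar (plusForm K (k + 1)) (swapVec k) x
      = x (Sum.inr (Fin.last k)) - x (Sum.inl (Fin.last k)) := by
    unfold swapVec
    rw [QuadraticMap.polar_sub_left, plus_polar_e, plus_polar_f]
  rw [refl_apply, hp, plusForm_swapVec]
  funext j
  unfold swapVec
  simp only [Pi.sub_apply, Pi.smul_apply, Pi.single_apply, smul_eq_mul, Function.comp_apply]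
  by_cases h1 : j = Sum.inl (Fin.last k)
  · subst h1
    rw [Equiv.swap_apply_left]
    simp
    rw [div_neg, div_one]
    ring
  · by_cases h2 : j = Sum.inr (Fin.last k)
    · subst h2
      rw [Equiv.swap_apply_right]
      simp
      rw [div_neg, div_one]
      ring
    · rw [Equiv.swap_apply_of_ne_of_ne h1 h2]
      simp [h1, h2]

end Swap

end Cfsg.Agent.Helper8.AutO
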