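import Mathlib
import Cfsg.Agent.Helper8.AutOQd
import Cfsg.Agent.Helper8.AutOzza

set_option autoImplicit false
set_option linter.unusedSectionVars false
set_option linter.style.haveILetI false

/-!
# Automorphisms of orthogonal groups, part Qe: the standard graph-field automorphism of `PΩ⁺`
(swap of the last hyperbolic pair times the field automorphism of an involution `σ`) is
transported to the standard field automorphism of the minus-type form with coefficients in the
fixed field of `σ`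
-/

namespace Cfsg.Agent.Helper8.AutO

open Module Matrix Cfsg.Agent.Helper8.QuadForm Cfsg.Agent.Helper8.WittQuad
  Cfsg.Agent.Helper8.OrthOrder
  Cfsg.Agent.Helper8.Siegel Cfsg.Agent.Helper8.SiegelGeom Cfsg.Agent.Helper8.SiegelGroup
  Cfsg.Agent.Helper8.SiegelPrim Cfsg.Agent.Helper8.SiegelSimple Cfsg.Agent.Helper8.ReflMatrix
  Cfsg.Agent.Helper8.OmegaSimple Cfsg.Agent.Helper8.AutImagePsi Cfsg.Agent.Helper8.AutImageOrth
  Cfsg.Agent.Helper8.StdForms Cfsg.Agent.Helper8.AutImage Cfsg.Agent.Helper8.AutImageKer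
  Cfsg.Agent.Helper8.AutImageIdx Cfsg.Agent.Helper8.Cls Cfsg.Agent.Helper8.Reflections
  Cfsg.Agent.Helper8.OrT Cfsg.Agent.Helper8.OmegaStd Cfsg.Agent.Helper8.OmegaDiag
open Cfsg.Agent.Helper8.AutSLn (gls nrmGL nrmF unitsAut fixField)

variable {F : Type*} [Field F] (k : ℕ) (ρ ρ' : F) (hne : ρ ≠ ρ') (σ : F ≃+* F)
  (hρ : σ ρ = ρ') (hρ' : σ ρ' = ρ)

include hρ hρ' in
/-- the isometry to the plus-type form intertwines `σ` with the swap times `σ`. -/
theorem sigma_twEquiv (v : Fin (k + 1) ⊕ Fin (k + 1) → F) :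
    (fun i => σ (twEquiv k ρ ρ' hne v i))
      = refl (plusForm F (k + 1)) (swapVec k) (twEquiv k ρ ρ' hne (fun i => σ (v i))) := by
  rw [refl_swapVec]
  funext j
  rw [Function.comp_apply]
  rcases j with i | i
  · refine Fin.lastCases ?_ (fun i => ?_) i
    · rw [Equiv.swap_apply_left, twEquiv_inl_last, twEquiv_inr_last, map_sub, map_mul, hρ]
    · rw [Equiv.swap_apply_of_ne_of_ne (by simp) (by simp), twEquiv_inl_castSucc,
        twEquiv_inl_castSucc]
  · refine Fin.lastCases ?_ (fun i => ?_) i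
    · rw [Equiv.swap_apply_right, twEquiv_inr_last, twEquiv_inl_last, map_sub, map_mul, hρ']
    · rw [Equiv.swap_apply_of_ne_of_ne (by simp) (by simp), twEquiv_inr_castSucc,
        twEquiv_inr_castSucc]

/-- the matrix of the isometry to the plus-type form. -/
noncomputable def twGL : GL (Fin (k + 1) ⊕ Fin (k + 1)) F := glEquiv.symm (twEquiv k ρ ρ' hne)

theorem twGL_mulVec (v : Fin (k + 1) ⊕ Fin (k + 1) → F) :
    ((twGL k ρ ρ' hne : GL (Fin (k + 1) ⊕ Fin (k + 1)) F) :
      Matrix (Fin (k + 1) ⊕ Fin (k + 1)) (Fin (k + 1) ⊕ Fin (k + 1)) F) *ᵥ v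
      = twEquiv k ρ ρ' hne v := by
  rw [← glEquiv_apply]
  unfold twGL
  rw [MulEquiv.apply_symm_apply]

/-- the inverse matrix is an isometry from the plus-type form to the minus-type form. -/
theorem twGL_inv_isometry (a b : F) (hsum : ρ + ρ' = -a) (hprod : ρ * ρ' = b)
    (v : Fin (k + 1) ⊕ Fin (k + 1) → F) :
    twForm F k a b ((((twGL k ρ ρ' hne)⁻¹ : GL (Fin (k + 1) ⊕ Fin (k + 1)) F) :
      Matrix (Fin (k + 1) ⊕ Fin (k + 1)) (Fin (k + 1) ⊕ Fin (k + 1)) F) *ᵥ v)
      = plusForm F (k + 1) v := by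
  rw [← plusForm_twEquiv k ρ ρ' a b hsum hprod hne, ← twGL_mulVec, Matrix.mulVec_mulVec,
    ← Units.val_mul, mul_inv_cancel, Units.val_one, Matrix.one_mulVec]

include hρ hρ' in
/-- `σ` applied to the matrix of the isometry is the swap times the matrix. -/
theorem gls_twGL [Fintype F] :
    gls σ (twGL k ρ ρ' hne) = ((reflGO (plusForm F (k + 1)) (swapVec k) :
      ↥(Cfsg.Geo.quadSimilarityGroup (F := F) ⇑(plusForm F (k + 1)))) :
      GL (Fin (k + 1) ⊕ Fin (k + 1)) F) * twGL k ρ ρ' hne := by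
  apply Units.ext
  apply matrix_ext
  intro x
  obtain ⟨v, rfl⟩ : ∃ v : Fin (k + 1) ⊕ Fin (k + 1) → F, (fun i => σ (v i)) = x :=
    ⟨fun i => σ.symm (x i), by funext i; exact σ.apply_symm_apply (x i)⟩
  have h1 := gls_mulVec σ (twGL k ρ ρ' hne) v
  rw [twGL_mulVec] at h1
  rw [h1, sigma_twEquiv k ρ ρ' hne σ hρ hρ', Units.val_mul, ← Matrix.mulVec_mulVec,
    twGL_mulVec, reflGO_val, reflectionMatrix_mulVec]

end Cfsg.Agent.Helper8.AutO
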