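import Mathlib
import Cfsg.Agent.Helper8.AutOQe
import Cfsg.Agent.Helper8.AutOzx

set_option autoImplicit false
set_option linter.unusedSectionVars false
set_option linter.style.haveILetI false

/-!
# Automorphisms of orthogonal groups, part Qf: the standard graph-field automorphism of `PΩ⁺`
is transported to the standard field automorphism of the minus-type form: the transport
-/

namespace Cfsg.Agent.Helper8.AutO

open Module Matrix Cfsg.Agent.Helper8.QuadForm Cfsg.Agent.Helper8.WittQuad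
  Cfsg.Agent.Helper8.OrthOrder
  Cfsg.Agent.Helper8.Siegel Cfsg.Agent.Helper8.SiegelGeom Cfsg.Agent.Helper8.SiegelGroup
  Cfsg.Agent.Helper8.SiegelPrim Cfsg.Agent.Helper8.SiegelSimple Cfsg.Agent.Helper8.ReflMatrix
  Cfsg.Agent.Helper8.OmegaSimple Cfsg.Agent.Helper8.AutImagePsi Cfsg.Agent.Helper8.AutImageOrth
  Cfsg.Agent.Helper8.StdForms Cfsg.Agent.Helper8.AutImage Cfsg.Agent.Helper8.AutImageKer
  Cfsg.Agent.Helper8.AutImageIdx Cfsg.Agent.Helper8.Cls Cfsg.Agent.Helper8.Reflections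
  Cfsg.Agent.Helper8.OrT Cfsg.Agent.Helper8.OmegaStd Cfsg.Agent.Helper8.OmegaDiag
open Cfsg.Agent.Helper8.AutSLn (gls nrmGL nrmF unitsAut fixField)

variable {F : Type*} [Field F] [Fintype F]

/-- the minus-type form on the index set of the plus-type form, with coefficients fixed by `σ`,
is `σ`-invariant. -/
theorem twForm_sigma (σ : F ≃+* F) (k : ℕ) {a b : F} (ha : σ a = a) (hb : σ b = b)
    (v : Fin (k + 1) ⊕ Fin (k + 1) → F) :
    twForm F k a b (fun i => σ (v i)) = σ (twForm F k a b v) := by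
  rw [twForm_apply, twForm_apply, ← minusForm_sigma σ k ha hb]
  rfl

set_option maxHeartbeats 800000 in
/-- **the transport of the standard graph-field automorphism.** -/
theorem transport_graphfield (k : ℕ) (ρ ρ' : F) (hne : ρ ≠ ρ') (σ : F ≃+* F)
    (hρ : σ ρ = ρ') (hρ' : σ ρ' = ρ) (a b : F) (hsum : ρ + ρ' = -a) (hprod : ρ * ρ' = b)
    (hQ : (QuadraticMap.polarBilin (plusForm F (k + 1))).Nondegenerate)
    (hQ' : (QuadraticMap.polarBilin (twForm F k a b)).Nondegenerate)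
    (h5 : 5 ≤ Fintype.card (Fin (k + 1) ⊕ Fin (k + 1)))
    (hσQ : ∀ v : Fin (k + 1) ⊕ Fin (k + 1) → F,
      plusForm F (k + 1) (fun i => σ (v i)) = σ (plusForm F (k + 1) v))
    (hσQ' : ∀ v : Fin (k + 1) ⊕ Fin (k + 1) → F,
      twForm F k a b (fun i => σ (v i)) = σ (twForm F k a b v)) :
    ((pIso ⇑(plusForm F (k + 1)) ⇑(twForm F k a b) (twGL k ρ ρ' hne)⁻¹
        (twGL_inv_isometry k ρ ρ' hne a b hsum hprod)).symm.trans
      (PsiM (plusForm F (k + 1)) hQ h5
        (simGamma (plusForm F (k + 1)) (reflGO (plusForm F (k + 1)) (swapVec k))) *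
       PsiM (plusForm F (k + 1)) hQ h5 (fieldGammaOne (plusForm F (k + 1)) σ hσQ))).trans
      (pIso ⇑(plusForm F (k + 1)) ⇑(twForm F k a b) (twGL k ρ ρ' hne)⁻¹
        (twGL_inv_isometry k ρ ρ' hne a b hsum hprod))
      = PsiM (twForm F k a b) hQ' h5 (fieldGammaOne (twForm F k a b) σ hσQ') := by
  have h1 : Cfsg.IsInducedBySemilinearPOmega ⇑(plusForm F (k + 1))
      ((reflGO (plusForm F (k + 1)) (swapVec k) :
        ↥(Cfsg.Geo.quadSimilarityGroup (F := F) ⇑(plusForm F (k + 1)))) :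
        GL (Fin (k + 1) ⊕ Fin (k + 1)) F) σ
      (PsiM (plusForm F (k + 1)) hQ h5
        (simGamma (plusForm F (k + 1)) (reflGO (plusForm F (k + 1)) (swapVec k))) *
       PsiM (plusForm F (k + 1)) hQ h5 (fieldGammaOne (plusForm F (k + 1)) σ hσQ)) := by
    rw [← map_mul]
    apply induced_PsiM
    intro v
    rw [gap_mul, gap_simGamma, gap_fieldGammaOne]
  have h2 := pIso_induced_fwd ⇑(plusForm F (k + 1)) ⇑(twForm F k a b) (twGL k ρ ρ' hne)⁻¹
    (twGL_inv_isometry k ρ ρ' hne a b hsum hprod) _ σ _ h1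
  have h3 : (twGL k ρ ρ' hne)⁻¹ * ((reflGO (plusForm F (k + 1)) (swapVec k) :
        ↥(Cfsg.Geo.quadSimilarityGroup (F := F) ⇑(plusForm F (k + 1)))) :
        GL (Fin (k + 1) ⊕ Fin (k + 1)) F) * (gls σ (twGL k ρ ρ' hne)⁻¹)⁻¹ = 1 := by
    rw [map_inv, inv_inv, gls_twGL k ρ ρ' hne σ hρ hρ', ← mul_assoc, mul_assoc _ _
      ((reflGO (plusForm F (k + 1)) (swapVec k) :
        ↥(Cfsg.Geo.quadSimilarityGroup (F := F) ⇑(plusForm F (k + 1)))) :
        GL (Fin (k + 1) ⊕ Fin (k + 1)) F)]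
    have h4 := congrArg Subtype.val (reflGO_mul_self (plusForm F (k + 1)) (swapVec k))
    rw [Subgroup.coe_mul] at h4
    rw [h4]
    simp
  rw [h3] at h2
  apply eq_PsiM_of_induced (twForm F k a b) hQ' h5 (fieldGammaOne (twForm F k a b) σ hσQ') 1 σ
  · intro v
    rw [gap_fieldGammaOne, Units.val_one, one_mulVec]
  · exact h2

end Cfsg.Agent.Helper8.AutO
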