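import Mathlib
import Cfsg.Agent.Helper8.AutOPe
import Cfsg.Agent.Helper8.AutSLnV

set_option autoImplicit false
set_option linter.unusedSectionVars false
set_option linter.style.haveILetI false

/-!
# Automorphisms of orthogonal groups, part Pf: the elements of prime order in the coset of a field
or graph-field automorphism of `PΩ⁺_{2m}(q)`, `m ≥ 5`: the main theorem
-/

namespace Cfsg.Agent.Helper8.AutO

open Module Matrix Cfsg.Agent.Helper8.QuadForm Cfsg.Agent.Helper8.WittQuad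
  Cfsg.Agent.Helper8.OrthOrder
  Cfsg.Agent.Helper8.Siegel Cfsg.Agent.Helper8.SiegelGeom Cfsg.Agent.Helper8.SiegelGroup
  Cfsg.Agent.Helper8.SiegelPrim Cfsg.Agent.Helper8.SiegelSimple Cfsg.Agent.Helper8.ReflMatrix
  Cfsg.Agent.Helper8.OmegaSimple Cfsg.Agent.Helper8.AutImagePsi Cfsg.Agent.Helper8.AutImageOrth
  Cfsg.Agent.Helper8.StdForms Cfsg.Agent.Helper8.AutImage Cfsg.Agent.Helper8.AutImageKer
  Cfsg.Agent.Helper8.AutImageIdx Cfsg.Agent.Helper8.Cls Cfsg.Agent.Helper8.Reflections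
  Cfsg.Agent.Helper8.OrT Cfsg.Agent.Helper8.OmegaStd Cfsg.Agent.Helper8.OmegaDiag
open Cfsg.Agent.Helper8.AutSLn (gls nrmGL nrmF unitsAut fixField)

variable {F : Type*} [Field F] [Fintype F]

set_option maxHeartbeats 1600000 in
/-- **the elements of prime order in the coset of a field or graph-field automorphism of
`PΩ⁺_{2m}(q)`.** -/
theorem coset_conj_plus {m : ℕ} (hm : 5 ≤ m) (Qf : (Fin m ⊕ Fin m → F) → F)
    (hQf : Qf = ⇑(plusForm F m)) (x δ : MulAut (Cfsg.POmega F Qf))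
    (hx : (∃ (α φ : MulAut (Cfsg.POmega F Qf)) (σ : F ≃+* F),
        σ ≠ RingEquiv.refl F ∧ Cfsg.IsFieldAutPOmegaOf Qf σ φ ∧ α * x * α⁻¹ = φ) ∨
      (∃ (α γ φ : MulAut (Cfsg.POmega F Qf)) (σ : F ≃+* F) (v : Fin m ⊕ Fin m → F)
        (rr : GL (Fin m ⊕ Fin m) F),
        σ ≠ RingEquiv.refl F ∧ Qf v ≠ 0 ∧ (∀ i, σ (v i) = v i) ∧
        (rr : Matrix (Fin m ⊕ Fin m) (Fin m ⊕ Fin m) F) = Cfsg.reflectionMatrix Qf v ∧
        Cfsg.IsInducedBySemilinearPOmega Qf rr (RingEquiv.refl F) γ ∧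
        Cfsg.IsFieldAutPOmegaOf Qf σ φ ∧ α * x * α⁻¹ = γ * φ))
    {r : ℕ} (hr : r.Prime) (hxr : orderOf x = r)
    (hδ : δ ∈ Cfsg.autSubgroupOf (fun β : Cfsg.POmega F Qf ≃* Cfsg.POmega F Qf =>
      ∃ g : GL (Fin m ⊕ Fin m) F,
      g ∈ Cfsg.Geo.quadSimilarityGroup (F := F) Qf ∧
      Cfsg.PreservesSingularClasses Qf (g : Matrix (Fin m ⊕ Fin m) (Fin m ⊕ Fin m) F) ∧
      Cfsg.IsInducedBySemilinearPOmega Qf g (RingEquiv.refl F) β)) :
    orderOf (δ * x) = r ↔
      Cfsg.IsConjUnder (Cfsg.autSubgroupOf (fun β : Cfsg.POmega F Qf ≃* Cfsg.POmega F Qf =>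
        ∃ g : GL (Fin m ⊕ Fin m) F,
        g ∈ Cfsg.Geo.quadSimilarityGroup (F := F) Qf ∧
        Cfsg.PreservesSingularClasses Qf (g : Matrix (Fin m ⊕ Fin m) (Fin m ⊕ Fin m) F) ∧
        Cfsg.IsInducedBySemilinearPOmega Qf g (RingEquiv.refl F) β)) x (δ * x) := by
  subst hQf
  classical
  obtain ⟨k, rfl⟩ : ∃ k, m = k + 1 := ⟨m - 1, by omega⟩
  obtain ⟨p, hp, hc⟩ := exists_char F
  haveI : Nonempty (Fin (k + 1) ⊕ Fin (k + 1)) := ⟨Sum.inl 0⟩
  have hcard := card_idx_plus (k + 1)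
  have hQ := plusForm_nondeg F (k + 1)
  have hne : ∃ v, plusForm F (k + 1) v ≠ 0 := Cfsg.Agent.S2722.plus_ne (by omega)
  rw [inndiag_plus_eq_cpAut (by omega : 3 ≤ k + 1) hne] at hδ ⊢
  constructor
  swap
  · rintro ⟨h, _, e⟩
    rw [e, ← hxr]
    exact MulEquiv.orderOf_eq (MulAut.conj h) x
  intro hord
  have hdim : finrank F (Fin (k + 1) ⊕ Fin (k + 1) → F) = 2 * (k + 1) := by
    rw [Module.finrank_fintype_fun_eq_card, hcard]
  have h5 : 5 ≤ Fintype.card (Fin (k + 1) ⊕ Fin (k + 1)) := by rw [hcard]; omega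
  have hQn : Nondeg (plusForm F (k + 1)) := (nondeg_iff _).mp hQ
  have hsurj : Function.Surjective (Psi (Q := plusForm F (k + 1))) :=
    Psi_surjective hQn (by rw [hdim]; omega) p (Or.inl (by rw [hdim]; omega))
  haveI hnormal : (cpAut (plusForm F (k + 1)) hQ hne (k + 1) hcard).Normal :=
    cpAut_normal (plusForm F (k + 1)) hQ hne (k + 1) hcard h5 hsurj
  rcases hx with ⟨α, φ, σ, hσne, hφ, hα⟩ | ⟨α, γ, φ, σ, v, rr, hσne, hv, hvσ, hrr, hγ, hφ, hα⟩
  · -- the field case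
    have hσQ := plusForm_sigma σ (k + 1)
    have e := eq_PsiM_of_isFieldAut_one (plusForm F (k + 1)) σ hσQ hQ h5 hφ
    have hσo : orderOf σ = r := by
      rw [← orderOf_PsiM_fieldGammaOne (plusForm F (k + 1)) σ hσQ hQ h5 p, ← e, ← hα, ← hxr]
      exact MulEquiv.orderOf_eq (MulAut.conj α) x
    refine Cfsg.Agent.Helper8.AutSLn.conj_reduce _ α x δ _ (hα.trans e) hδ ?_ hord
    intro δ' hδ' ho
    rw [mem_cpAut_iff] at hδ'
    obtain ⟨g, hgcp, rfl⟩ := hδ'
    rw [← PsiM_simGamma (plusForm F (k + 1)) hQ h5] at ho ⊢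
    have hy : (PsiM (plusForm F (k + 1)) hQ h5 (simGamma (plusForm F (k + 1)) g) *
        PsiM (plusForm F (k + 1)) hQ h5 (fieldGammaOne (plusForm F (k + 1)) σ hσQ)) ^ r = 1 := by
      rw [← ho, pow_orderOf_eq_one]
    obtain ⟨u, hucp, hu⟩ := field_coset_plus (plusForm F (k + 1)) rfl hQ hne h5 p σ hσQ hr hσo g
      ((clsChar_eq_one_iff _ _ _ _ _ g).mpr hgcp) hy
    refine ⟨PsiM (plusForm F (k + 1)) hQ h5 (simGamma (plusForm F (k + 1)) u), ?_, hu⟩
    rw [mem_cpAut_iff]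
    refine ⟨u, (clsChar_eq_one_iff _ _ _ _ _ u).mp hucp, ?_⟩
    rw [PsiM_simGamma]
  · -- the graph-field case
    have hσQ := plusForm_sigma σ (k + 1)
    have e := eq_PsiM_of_isFieldAut_one (plusForm F (k + 1)) σ hσQ hQ h5 hφ
    have hrr' : rr = ((reflGO (plusForm F (k + 1)) v :
        ↥(Cfsg.Geo.quadSimilarityGroup (F := F) ⇑(plusForm F (k + 1)))) :
        GL (Fin (k + 1) ⊕ Fin (k + 1)) F) :=
      Units.ext (hrr.trans (reflGO_val (plusForm F (k + 1)) v).symm)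
    rw [hrr', induced_iff ⇑(plusForm F (k + 1)) (reflGO (plusForm F (k + 1)) v).2 γ,
      Subtype.coe_eta, ← PsiM_simGamma (plusForm F (k + 1)) hQ h5] at hγ
    have hρ := clsChar_reflGO (plusForm F (k + 1)) hQ hne (k + 1) hcard hv
    -- the order of `σ`
    have hx₀ : orderOf (γ * φ) = r := by
      rw [← hα, ← hxr]
      exact MulEquiv.orderOf_eq (MulAut.conj α) x
    have hcomm : Commute γ φ := by
      have h1 := reflGO_commute (plusForm F (k + 1)) σ hσQ hvσ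
      have h2 := congrArg (PsiM (plusForm F (k + 1)) hQ h5) h1
      rw [map_mul, map_mul] at h2
      rw [hγ, e]
      exact h2
    have hγ2 : γ * γ = 1 := by
      rw [hγ, ← map_mul, ← map_mul, reflGO_mul_self, map_one, map_one]
    have hkerP : (PsiM (plusForm F (k + 1)) hQ h5).ker
        = (scalarGamma (Q := plusForm F (k + 1))).range := by
      rw [ker_PsiM, ker_Psi hQn (by rw [hdim]; omega) p]
    have hσr : σ ^ r = 1 := by
      have h1 : (γ * φ) ^ r = 1 := by rw [← hx₀, pow_orderOf_eq_one]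
      rw [hγ, e, ← map_mul, ← map_pow, ← MonoidHom.mem_ker, hkerP] at h1
      obtain ⟨μ, hμ⟩ := h1
      have h3 := congrArg (tau (Q := plusForm F (k + 1))) hμ
      rw [tau_scalarGamma, map_pow, map_mul, tau_simGamma, tau_fieldGammaOne, one_mul] at h3
      exact h3.symm
    have hσo : orderOf σ = r := by
      have h1 : orderOf σ ∣ r := orderOf_dvd_of_pow_eq_one hσr
      rcases (Nat.dvd_prime hr).mp h1 with h2 | h2
      · exfalso
        apply hσne
        exact orderOf_eq_one_iff.mp h2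
      · exact h2
    have hφr : φ ^ r = 1 := by
      rw [e, ← hσo, ← orderOf_PsiM_fieldGammaOne (plusForm F (k + 1)) σ hσQ hQ h5 p,
        pow_orderOf_eq_one]
    have hγr : γ ^ r = 1 := by
      have h1 : (γ * φ) ^ r = 1 := by rw [← hx₀, pow_orderOf_eq_one]
      rw [hcomm.mul_pow, hφr, mul_one] at h1
      exact h1
    have hγne : γ ≠ 1 := by
      intro h1
      rw [hγ, PsiM_simGamma,
        Phi_eq_one_iff_scalar (plusForm F (k + 1)) hQ h5 p] at h1
      obtain ⟨c, hc'⟩ := h1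
      have h2 : reflGO (plusForm F (k + 1)) v = scalarGO (plusForm F (k + 1)) c := by
        apply Subtype.ext
        apply Units.ext
        rw [hc', scalarGO_val]
      rw [h2, clsChar_scalarGO] at hρ
      exact absurd hρ (by decide)
    have hr2 : r = 2 := by
      rcases hr.eq_two_or_odd' with h2 | hodd
      · exact h2
      · exfalso
        obtain ⟨j, rfl⟩ := hodd
        apply hγne
        have h3 : γ ^ (2 * j + 1) = γ := by
          rw [pow_succ, pow_mul, pow_two, hγ2, one_pow, one_mul]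
        rw [← h3]
        exact hγr
    subst hr2
    refine Cfsg.Agent.Helper8.AutSLn.conj_reduce _ α x δ _ (hα.trans (by rw [hγ, e])) hδ ?_ hord
    intro δ' hδ' ho
    rw [mem_cpAut_iff] at hδ'
    obtain ⟨g, hgcp, rfl⟩ := hδ'
    rw [← PsiM_simGamma (plusForm F (k + 1)) hQ h5] at ho ⊢
    have hy : (PsiM (plusForm F (k + 1)) hQ h5 (simGamma (plusForm F (k + 1)) g) *
        (PsiM (plusForm F (k + 1)) hQ h5 (simGamma (plusForm F (k + 1))
          (reflGO (plusForm F (k + 1)) v)) *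
        PsiM (plusForm F (k + 1)) hQ h5 (fieldGammaOne (plusForm F (k + 1)) σ hσQ))) ^ 2
        = 1 := by
      rw [← ho, pow_orderOf_eq_one]
    obtain ⟨u, hucp, hu⟩ := graphfield_coset_plus (plusForm F (k + 1)) rfl hQ hne h5 p σ hσQ hσo
      v hv hvσ g ((clsChar_eq_one_iff _ _ _ _ _ g).mpr hgcp) hy
    refine ⟨PsiM (plusForm F (k + 1)) hQ h5 (simGamma (plusForm F (k + 1)) u), ?_, hu⟩
    rw [mem_cpAut_iff]
    refine ⟨u, (clsChar_eq_one_iff _ _ _ _ _ u).mp hucp, ?_⟩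
    rw [PsiM_simGamma]

end Cfsg.Agent.Helper8.AutO
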