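import Mathlib

set_option autoImplicit false
set_option linter.unusedSectionVars false
set_option linter.style.haveILetI false

/-!
# Automorphisms of orthogonal groups, part Qa: the automorphism group of a finite field is cyclic:
it is commutative and has at most one involution
-/

namespace Cfsg.Agent.Helper8.AutO

variable {F : Type*} [Field F] [Finite F]

/-- the ring automorphisms of a finite field of characteristic `p` as automorphisms over the prime
field. -/
noncomputable def ringAutToGal (p : ℕ) [Fact p.Prime] [CharP F p] :
    (F ≃+* F) →* (letI := ZMod.algebra F p; F ≃ₐ[ZMod p] F) :=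
  letI := ZMod.algebra F p
  { toFun := fun σ => AlgEquiv.ofRingEquiv (f := σ) (fun x => by
      have h : ((σ : F →+* F).comp (algebraMap (ZMod p) F)) = algebraMap (ZMod p) F :=
        RingHom.ext_zmod _ _
      exact RingHom.congr_fun h x)
    map_one' := by
      apply AlgEquiv.ext
      intro a
      rfl
    map_mul' := by
      intro σ τ
      apply AlgEquiv.ext
      intro a
      rfl }

theorem ringAutToGal_injective (p : ℕ) [Fact p.Prime] [CharP F p] :
    Function.Injective (ringAutToGal (F := F) p) := by
  intro σ τ h
  apply RingEquiv.ext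
  intro a
  letI := ZMod.algebra F p
  have := congrArg (fun e : F ≃ₐ[ZMod p] F => e a) h
  exact this

/-- the automorphisms of a finite field commute. -/
theorem ringAut_comm (σ τ : F ≃+* F) : σ * τ = τ * σ := by
  obtain ⟨p, hp⟩ := CharP.exists F
  haveI : Fact p.Prime := ⟨CharP.char_is_prime F p⟩
  letI := ZMod.algebra F p
  apply ringAutToGal_injective p
  rw [map_mul, map_mul]
  letI : CommGroup (F ≃ₐ[ZMod p] F) := IsCyclic.commGroup
  exact mul_comm _ _

theorem ringAut_comm_apply (σ τ : F ≃+* F) (a : F) : σ (τ a) = τ (σ a) := by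
  have := congrArg (fun e : F ≃+* F => e a) (ringAut_comm σ τ)
  exact this

/-- a finite field has at most one automorphism of order two. -/
theorem involution_unique (σ τ : F ≃+* F) (hσ : orderOf σ = 2) (hτ : orderOf τ = 2) :
    σ = τ := by
  classical
  obtain ⟨p, hp⟩ := CharP.exists F
  haveI : Fact p.Prime := ⟨CharP.char_is_prime F p⟩
  letI := ZMod.algebra F p
  haveI : Finite (F ≃ₐ[ZMod p] F) :=
    Finite.of_injective (fun e : F ≃ₐ[ZMod p] F => (e : F → F)) DFunLike.coe_injective
  letI : Fintype (F ≃ₐ[ZMod p] F) := Fintype.ofFinite _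
  by_contra hne
  have hσ2 : σ ^ 2 = 1 := by rw [← hσ, pow_orderOf_eq_one]
  have hτ2 : τ ^ 2 = 1 := by rw [← hτ, pow_orderOf_eq_one]
  have hσ1 : σ ≠ 1 := by
    intro h
    rw [h, orderOf_one] at hσ
    omega
  have hτ1 : τ ≠ 1 := by
    intro h
    rw [h, orderOf_one] at hτ
    omega
  have hle := IsCyclic.card_pow_eq_one_le (α := F ≃ₐ[ZMod p] F) (n := 2) (by norm_num)
  have hsub : ({1, ringAutToGal p σ, ringAutToGal p τ} : Finset (F ≃ₐ[ZMod p] F)) ⊆
      Finset.univ.filter (fun a : F ≃ₐ[ZMod p] F => a ^ 2 = 1) := by
    intro a ha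
    rw [Finset.mem_insert, Finset.mem_insert, Finset.mem_singleton] at ha
    rw [Finset.mem_filter]
    refine ⟨Finset.mem_univ _, ?_⟩
    rcases ha with rfl | rfl | rfl
    · exact one_pow 2
    · rw [← map_pow, hσ2, map_one]
    · rw [← map_pow, hτ2, map_one]
  have hcard : ({1, ringAutToGal p σ, ringAutToGal p τ} : Finset (F ≃ₐ[ZMod p] F)).card = 3 := by
    rw [Finset.card_insert_of_notMem, Finset.card_insert_of_notMem, Finset.card_singleton]
    · rw [Finset.mem_singleton]
      intro h
      exact hne (ringAutToGal_injective p h)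
    · rw [Finset.mem_insert, Finset.mem_singleton]
      rintro (h | h)
      · apply hσ1
        apply ringAutToGal_injective p
        rw [map_one]
        exact h.symm
      · apply hτ1
        apply ringAutToGal_injective p
        rw [map_one]
        exact h.symm
  have := Finset.card_le_card hsub
  omega

end Cfsg.Agent.Helper8.AutO
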