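import Mathlib
import Cfsg.Agent.Helper8.AutOQa
import Cfsg.Agent.Helper8.AutOPf

set_option autoImplicit false
set_option linter.unusedSectionVars false
set_option linter.style.haveILetI false

/-!
# Automorphisms of orthogonal groups, part Qg: every involutory graph-field automorphism of
`PΩ⁺_{2m}(q)`, `m ≥ 5`, is conjugate under the inner-diagonal group to the standard one
-/

namespace Cfsg.Agent.Helper8.AutO

open Module Matrix Cfsg.Agent.Helper8.QuadForm Cfsg.Agent.Helper8.WittQuad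
  Cfsg.Agent.Helper8.OrthOrder
  Cfsg.Agent.Helper8.Siegel Cfsg.Agent.Helper8.SiegelGeom Cfsg.Agent.Helper8.SiegelGroup
  Cfsg.Agent.Helper8.SiegelPrim Cfsg.Agent.Helper8.SiegelSimple Cfsg.Agent.Helper8.ReflMatrix
  Cfsg.Agent.Helper8.OmegaSimple Cfsg.Agent.Helper8.AutImagePsi Cfsg.Agent.Helper8.AutImageOrth
  Cfsg.Agent.Helper8.StdForms Cfsg.Agent.Helper8.AutImage Cfsg.Agent.Helper8.AutImageKer
  Cfsg.Agent.Helper8.AutImageIdx Cfsg.Agent.Helper8.Cls Cfsg.Agent.Helper8.Reflections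
  Cfsg.Agent.Helper8.OrT Cfsg.Agent.Helper8.OmegaStd Cfsg.Agent.Helper8.OmegaDiag
open Cfsg.Agent.Helper8.AutSLn (gls nrmGL nrmF unitsAut fixField)

variable {F : Type*} [Field F] [Fintype F]

section Commute

variable {ι : Type} [Fintype ι] [DecidableEq ι] (Q : QuadraticForm F (ι → F))

/-- the standard field automorphisms commute. -/
theorem fieldGammaOne_commute (σ τ : F ≃+* F)
    (hσQ : ∀ v : ι → F, Q (fun i => σ (v i)) = σ (Q v))
    (hτQ : ∀ v : ι → F, Q (fun i => τ (v i)) = τ (Q v)) :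
    fieldGammaOne Q τ hτQ * fieldGammaOne Q σ hσQ
      = fieldGammaOne Q σ hσQ * fieldGammaOne Q τ hτQ := by
  apply ext_gap
  intro v
  rw [gap_mul, gap_mul, gap_fieldGammaOne, gap_fieldGammaOne, gap_fieldGammaOne,
    gap_fieldGammaOne]
  funext i
  exact ringAut_comm_apply τ σ (v i)

end Commute

set_option maxHeartbeats 1600000 in
/-- conjugating the standard graph-field automorphism by an arbitrary automorphism amounts to
conjugating it by an element of the inner-diagonal group. -/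
theorem aut_conj_std {k : ℕ}
    (Q : QuadraticForm F (Fin (k + 1) ⊕ Fin (k + 1) → F)) (hQeq : Q = plusForm F (k + 1))
    (hQ : (QuadraticMap.polarBilin Q).Nondegenerate) (hne : ∃ v, Q v ≠ 0)
    (h5 : 5 ≤ Fintype.card (Fin (k + 1) ⊕ Fin (k + 1)))
    (hsurj : Function.Surjective (Psi (Q := Q)))
    (σ : F ≃+* F) (hσQ : ∀ v : Fin (k + 1) ⊕ Fin (k + 1) → F, Q (fun i => σ (v i)) = σ (Q v))
    (z : Fin (k + 1) ⊕ Fin (k + 1) → F) (hz : Q z ≠ 0)
    (hzτ : ∀ (τ : F ≃+* F) i, τ (z i) = z i)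
    (β : MulAut (Cfsg.POmega F ⇑Q)) :
    ∃ h ∈ cpAut Q hQ hne (k + 1) (card_idx_plus (k + 1)),
      β * (PsiM Q hQ h5 (simGamma Q (reflGO Q z)) * PsiM Q hQ h5 (fieldGammaOne Q σ hσQ)) * β⁻¹
        = h * (PsiM Q hQ h5 (simGamma Q (reflGO Q z)) *
          PsiM Q hQ h5 (fieldGammaOne Q σ hσQ)) * h⁻¹ := by
  subst hQeq
  classical
  haveI : Nonempty (Fin (k + 1) ⊕ Fin (k + 1)) := ⟨Sum.inl 0⟩
  obtain ⟨a, rfl⟩ := PsiM_surjective (plusForm F (k + 1)) hQ h5 hsurj β
  obtain ⟨τ, hτ⟩ : ∃ τ, τ = tau a := ⟨_, rfl⟩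
  have hτQ := plusForm_sigma τ (k + 1)
  have hker : a * (fieldGammaOne (plusForm F (k + 1)) τ hτQ)⁻¹ ∈
      (tau (Q := plusForm F (k + 1))).ker := by
    rw [MonoidHom.mem_ker, map_mul, map_inv, tau_fieldGammaOne, ← hτ, mul_inv_cancel]
  rw [ker_tau] at hker
  obtain ⟨g, hg⟩ := hker
  have ha : a = simGamma (plusForm F (k + 1)) g * fieldGammaOne (plusForm F (k + 1)) τ hτQ := by
    rw [hg, inv_mul_cancel_right]
  obtain ⟨x₁, hx₁⟩ : ∃ x₁ : ↥(GammaO (plusForm F (k + 1))),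
      x₁ = simGamma (plusForm F (k + 1)) (reflGO (plusForm F (k + 1)) z) *
        fieldGammaOne (plusForm F (k + 1)) σ hσQ := ⟨_, rfl⟩
  have hcomm1 : fieldGammaOne (plusForm F (k + 1)) τ hτQ * x₁
      = x₁ * fieldGammaOne (plusForm F (k + 1)) τ hτQ := by
    rw [hx₁, ← mul_assoc, ← reflGO_commute (plusForm F (k + 1)) τ hτQ (hzτ τ), mul_assoc,
      fieldGammaOne_commute (plusForm F (k + 1)) σ τ hσQ hτQ, mul_assoc]
  have hcomm2 : simGamma (plusForm F (k + 1)) (reflGO (plusForm F (k + 1)) z) * x₁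
      = x₁ * simGamma (plusForm F (k + 1)) (reflGO (plusForm F (k + 1)) z) := by
    rw [hx₁, mul_assoc, reflGO_commute (plusForm F (k + 1)) σ hσQ (hzτ σ)]
  have hconj : a * x₁ * a⁻¹ = simGamma (plusForm F (k + 1)) g * x₁ *
      (simGamma (plusForm F (k + 1)) g)⁻¹ := by
    rw [ha, _root_.mul_inv_rev, mul_assoc (simGamma (plusForm F (k + 1)) g), hcomm1]
    group
  have hρ := clsChar_reflGO (plusForm F (k + 1)) hQ hne (k + 1) (card_idx_plus (k + 1)) hz
  have hgoal : ∀ h : ↥(GammaO (plusForm F (k + 1))),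
      PsiM (plusForm F (k + 1)) hQ h5 a *
        (PsiM (plusForm F (k + 1)) hQ h5 (simGamma (plusForm F (k + 1))
          (reflGO (plusForm F (k + 1)) z)) *
        PsiM (plusForm F (k + 1)) hQ h5 (fieldGammaOne (plusForm F (k + 1)) σ hσQ)) *
        (PsiM (plusForm F (k + 1)) hQ h5 a)⁻¹
      = PsiM (plusForm F (k + 1)) hQ h5 (a * x₁ * a⁻¹) := by
    intro _
    rw [map_mul, map_mul, map_inv, hx₁, map_mul]
  rw [hgoal 1, hconj]
  rcases Int.units_eq_one_or (clsChar (plusForm F (k + 1)) hQ hne (k + 1)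
    (card_idx_plus (k + 1)) g) with h1 | h1
  · refine ⟨PsiM (plusForm F (k + 1)) hQ h5 (simGamma (plusForm F (k + 1)) g), ?_, ?_⟩
    · rw [mem_cpAut_iff]
      exact ⟨g, (clsChar_eq_one_iff _ _ _ _ _ g).mp h1, (PsiM_simGamma _ hQ h5 g).symm⟩
    · rw [map_mul, map_mul, map_inv, hx₁, map_mul]
  · refine ⟨PsiM (plusForm F (k + 1)) hQ h5 (simGamma (plusForm F (k + 1))
      (g * reflGO (plusForm F (k + 1)) z)), ?_, ?_⟩
    · rw [mem_cpAut_iff]
      refine ⟨g * reflGO (plusForm F (k + 1)) z, ?_, (PsiM_simGamma _ hQ h5 _).symm⟩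
      rw [← clsChar_eq_one_iff (plusForm F (k + 1)) hQ hne (k + 1) (card_idx_plus (k + 1)),
        map_mul, h1, hρ]
      decide
    · have e1 : simGamma (plusForm F (k + 1)) g * x₁ *
          (simGamma (plusForm F (k + 1)) g)⁻¹
          = simGamma (plusForm F (k + 1)) (g * reflGO (plusForm F (k + 1)) z) * x₁ *
            (simGamma (plusForm F (k + 1)) (g * reflGO (plusForm F (k + 1)) z))⁻¹ := by
        rw [map_mul]
        exact mul_conj_of_commute _ _ _ hcomm2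
      rw [e1, hx₁]
      simp only [map_mul, map_inv]

end Cfsg.Agent.Helper8.AutO
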