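import Mathlib
import Cfsg.Agent.Helper8.AutOQg

set_option autoImplicit false
set_option linter.unusedSectionVars false
set_option linter.style.haveILetI false

/-!
# Automorphisms of orthogonal groups, part Qh: every involutory graph-field automorphism of
`PΩ⁺_{2m}(q)`, `m ≥ 5`, is conjugate under the inner-diagonal group to the standard one: the
theorem
-/

namespace Cfsg.Agent.Helper8.AutO

open Module Matrix Cfsg.Agent.Helper8.QuadForm Cfsg.Agent.Helper8.WittQuad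
  Cfsg.Agent.Helper8.OrthOrder
  Cfsg.Agent.Helper8.Siegel Cfsg.Agent.Helper8.SiegelGeom Cfsg.Agent.Helper8.SiegelGroup
  Cfsg.Agent.Helper8.SiegelPrim Cfsg.Agent.Helper8.SiegelSimple Cfsg.Agent.Helper8.ReflMatrix
  Cfsg.Agent.Helper8.OmegaSimple Cfsg.Agent.Helper8.AutImagePsi Cfsg.Agent.Helper8.AutImageOrth
  Cfsg.Agent.Helper8.StdForms Cfsg.Agent.Helper8.AutImage Cfsg.Agent.Helper8.AutImageKer
  Cfsg.Agent.Helper8.AutImageIdx Cfsg.Agent.Helper8.Cls Cfsg.Agent.Helper8.Reflections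
  Cfsg.Agent.Helper8.OrT Cfsg.Agent.Helper8.OmegaStd Cfsg.Agent.Helper8.OmegaDiag
open Cfsg.Agent.Helper8.AutSLn (gls nrmGL nrmF unitsAut fixField)

variable {F : Type*} [Field F] [Fintype F]

set_option maxHeartbeats 3200000 in
/-- **every involutory graph-field automorphism is conjugate to the standard one** under the
image of the class-preserving similarities; the field automorphism involved is an involution. -/
theorem graphfield_conj_std {k : ℕ} (hk : 4 ≤ k)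
    (Q : QuadraticForm F (Fin (k + 1) ⊕ Fin (k + 1) → F)) (hQeq : Q = plusForm F (k + 1))
    (hQ : (QuadraticMap.polarBilin Q).Nondegenerate) (hne : ∃ v, Q v ≠ 0)
    (h5 : 5 ≤ Fintype.card (Fin (k + 1) ⊕ Fin (k + 1))) (p : ℕ) [Fact p.Prime] [CharP F p]
    (hsurj : Function.Surjective (Psi (Q := Q)))
    (z : Fin (k + 1) ⊕ Fin (k + 1) → F) (hz : Q z ≠ 0)
    (hzτ : ∀ (τ : F ≃+* F) i, τ (z i) = z i)
    (x : MulAut (Cfsg.POmega F ⇑Q)) (hx2 : orderOf x = 2)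
    (hx : ∃ (α γ φ : MulAut (Cfsg.POmega F ⇑Q)) (σ : F ≃+* F)
        (v : Fin (k + 1) ⊕ Fin (k + 1) → F) (rr : GL (Fin (k + 1) ⊕ Fin (k + 1)) F),
        σ ≠ RingEquiv.refl F ∧ Q v ≠ 0 ∧ (∀ i, σ (v i) = v i) ∧
        (rr : Matrix (Fin (k + 1) ⊕ Fin (k + 1)) (Fin (k + 1) ⊕ Fin (k + 1)) F)
          = Cfsg.reflectionMatrix ⇑Q v ∧
        Cfsg.IsInducedBySemilinearPOmega ⇑Q rr (RingEquiv.refl F) γ ∧
        Cfsg.IsFieldAutPOmegaOf ⇑Q σ φ ∧ α * x * α⁻¹ = γ * φ) :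
    ∃ (σ : F ≃+* F) (hσQ : ∀ v : Fin (k + 1) ⊕ Fin (k + 1) → F, Q (fun i => σ (v i)) = σ (Q v)),
      orderOf σ = 2 ∧ ∃ h ∈ cpAut Q hQ hne (k + 1) (card_idx_plus (k + 1)),
        x = h * (PsiM Q hQ h5 (simGamma Q (reflGO Q z)) *
          PsiM Q hQ h5 (fieldGammaOne Q σ hσQ)) * h⁻¹ := by
  subst hQeq
  classical
  haveI : Nonempty (Fin (k + 1) ⊕ Fin (k + 1)) := ⟨Sum.inl 0⟩
  have hcard := card_idx_plus (k + 1)
  have hdim : finrank F (Fin (k + 1) ⊕ Fin (k + 1) → F) = 2 * (k + 1) := by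
    rw [Module.finrank_fintype_fun_eq_card, hcard]
  have hQn : Nondeg (plusForm F (k + 1)) := (nondeg_iff _).mp hQ
  haveI hnormal : (cpAut (plusForm F (k + 1)) hQ hne (k + 1) (card_idx_plus (k + 1))).Normal :=
    cpAut_normal (plusForm F (k + 1)) hQ hne (k + 1) (card_idx_plus (k + 1)) h5 hsurj
  obtain ⟨α, γ, φ, σ, v, rr, hσne, hv, hvσ, hrr, hγ, hφ, hα⟩ := hx
  have hσQ := plusForm_sigma σ (k + 1)
  have e := eq_PsiM_of_isFieldAut_one (plusForm F (k + 1)) σ hσQ hQ h5 hφ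
  have hrr' : rr = ((reflGO (plusForm F (k + 1)) v :
      ↥(Cfsg.Geo.quadSimilarityGroup (F := F) ⇑(plusForm F (k + 1)))) :
      GL (Fin (k + 1) ⊕ Fin (k + 1)) F) :=
    Units.ext (hrr.trans (reflGO_val (plusForm F (k + 1)) v).symm)
  rw [hrr', induced_iff ⇑(plusForm F (k + 1)) (reflGO (plusForm F (k + 1)) v).2 γ,
    Subtype.coe_eta, ← PsiM_simGamma (plusForm F (k + 1)) hQ h5] at hγ
  have hρv := clsChar_reflGO (plusForm F (k + 1)) hQ hne (k + 1) hcard hv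
  have hρz := clsChar_reflGO (plusForm F (k + 1)) hQ hne (k + 1) hcard hz
  have hx₀ : orderOf (γ * φ) = 2 := by
    rw [← hα, ← hx2]
    exact MulEquiv.orderOf_eq (MulAut.conj α) x
  have hkerP : (PsiM (plusForm F (k + 1)) hQ h5).ker
      = (scalarGamma (Q := plusForm F (k + 1))).range := by
    rw [ker_PsiM, ker_Psi hQn (by rw [hdim]; omega) p]
  have hσr : σ ^ 2 = 1 := by
    have h1 : (γ * φ) ^ 2 = 1 := by rw [← hx₀, pow_orderOf_eq_one]
    rw [hγ, e, ← map_mul, ← map_pow, ← MonoidHom.mem_ker, hkerP] at h1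
    obtain ⟨μ, hμ⟩ := h1
    have h3 := congrArg (tau (Q := plusForm F (k + 1))) hμ
    rw [tau_scalarGamma, map_pow, map_mul, tau_simGamma, tau_fieldGammaOne, one_mul] at h3
    exact h3.symm
  have hσo : orderOf σ = 2 := by
    have h1 : orderOf σ ∣ 2 := orderOf_dvd_of_pow_eq_one hσr
    rcases (Nat.dvd_prime Nat.prime_two).mp h1 with h2 | h2
    · exfalso
      apply hσne
      exact orderOf_eq_one_iff.mp h2
    · exact h2
  refine ⟨σ, hσQ, hσo, ?_⟩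
  -- the first step: from the reflection in `v` to the reflection in `z`
  obtain ⟨g, hgdef⟩ : ∃ g, g = reflGO (plusForm F (k + 1)) v * reflGO (plusForm F (k + 1)) z :=
    ⟨_, rfl⟩
  have hgcp : clsChar (plusForm F (k + 1)) hQ hne (k + 1) (card_idx_plus (k + 1)) g = 1 := by
    rw [hgdef, map_mul, hρv, hρz]
    decide
  have hgz : g * reflGO (plusForm F (k + 1)) z = reflGO (plusForm F (k + 1)) v := by
    rw [hgdef, mul_assoc, reflGO_mul_self, mul_one]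
  have hprod : PsiM (plusForm F (k + 1)) hQ h5 (simGamma (plusForm F (k + 1)) g) *
      (PsiM (plusForm F (k + 1)) hQ h5 (simGamma (plusForm F (k + 1))
        (reflGO (plusForm F (k + 1)) z)) *
      PsiM (plusForm F (k + 1)) hQ h5 (fieldGammaOne (plusForm F (k + 1)) σ hσQ)) = γ * φ := by
    rw [← mul_assoc, ← map_mul (PsiM (plusForm F (k + 1)) hQ h5), ← map_mul (simGamma (plusForm F (k + 1))), hgz, hγ, e]
  have hy : (PsiM (plusForm F (k + 1)) hQ h5 (simGamma (plusForm F (k + 1)) g) *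
      (PsiM (plusForm F (k + 1)) hQ h5 (simGamma (plusForm F (k + 1))
        (reflGO (plusForm F (k + 1)) z)) *
      PsiM (plusForm F (k + 1)) hQ h5 (fieldGammaOne (plusForm F (k + 1)) σ hσQ))) ^ 2 = 1 := by
    rw [hprod, ← hx₀, pow_orderOf_eq_one]
  obtain ⟨u, hucp, hu⟩ := graphfield_coset_plus (plusForm F (k + 1)) rfl hQ hne h5 p σ hσQ hσo
    z hz (hzτ σ) g hgcp hy
  rw [hprod] at hu
  obtain ⟨x₁, hx₁⟩ : ∃ x₁, x₁ = PsiM (plusForm F (k + 1)) hQ h5 (simGamma (plusForm F (k + 1))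
        (reflGO (plusForm F (k + 1)) z)) *
      PsiM (plusForm F (k + 1)) hQ h5 (fieldGammaOne (plusForm F (k + 1)) σ hσQ) := ⟨_, rfl⟩
  rw [← hx₁] at hu ⊢
  obtain ⟨h₁, hh₁⟩ : ∃ h₁, h₁ = PsiM (plusForm F (k + 1)) hQ h5
      (simGamma (plusForm F (k + 1)) u) := ⟨_, rfl⟩
  rw [← hh₁] at hu
  have hh₁mem : h₁ ∈ cpAut (plusForm F (k + 1)) hQ hne (k + 1) (card_idx_plus (k + 1)) := by
    rw [mem_cpAut_iff]
    refine ⟨u, (clsChar_eq_one_iff _ _ _ _ _ u).mp hucp, ?_⟩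
    rw [hh₁, PsiM_simGamma]
  -- the second step: conjugation by `α⁻¹`
  obtain ⟨h₂, hh₂mem, hh₂⟩ := aut_conj_std (plusForm F (k + 1)) rfl hQ hne h5 hsurj σ hσQ z hz hzτ
    α⁻¹
  rw [← hx₁, inv_inv] at hh₂
  have hxeq : x = α⁻¹ * (γ * φ) * α := by
    rw [← hα]
    group
  refine ⟨α⁻¹ * h₁ * α * h₂, ?_, ?_⟩
  · apply Subgroup.mul_mem _ _ hh₂mem
    have := hnormal.conj_mem h₁ hh₁mem α⁻¹
    rw [inv_inv] at this
    exact this
  · rw [hxeq, hu]
    have e3 : α⁻¹ * (h₁ * x₁ * h₁⁻¹) * α = (α⁻¹ * h₁ * α) * (α⁻¹ * x₁ * α) * (α⁻¹ * h₁ * α)⁻¹ := by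
      group
    rw [e3, hh₂]
    group

end Cfsg.Agent.Helper8.AutO
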