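import Mathlib
import Cfsg.Agent.Helper8.AutOQh
import Cfsg.Agent.Helper8.AutOQf
import Cfsg.Agent.Helper8.OrREvenA

set_option autoImplicit false
set_option linter.unusedSectionVars false
set_option linter.style.haveILetI false

/-!
# Automorphisms of orthogonal groups, part Qi: the field data of an involutory field automorphism
(the fixed field, an anisotropic binary form over it and its two conjugate roots)
-/

namespace Cfsg.Agent.Helper8.AutO

open Module Matrix Cfsg.Agent.Helper8.QuadForm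
open Cfsg.Agent.Helper8.AutSLn (gls nrmGL nrmF unitsAut fixField)

universe u v

variable {F : Type u} [Field F] [Fintype F]

/-- **the data of an involutory field automorphism**: the degree is even, the fixed field is the
image of any field of the right size, and over it there is an anisotropic binary form whose two
roots in the big field are interchanged by the automorphism. -/
theorem exists_graphfield_data {p f : ℕ} [Fact p.Prime] (hF : Fintype.card F = p ^ f)
    (σ : F ≃+* F) (hσo : orderOf σ = 2) (F₀ : Type v) [Field F₀] [Fintype F₀]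
    (hF₀ : Fintype.card F₀ = p ^ (f / 2)) :
    Even f ∧ ∃ j : F₀ →+* F, (∀ a, σ (j a) = j a) ∧ (∀ b, σ b = b → ∃ a, j a = b) ∧
      ∃ (a₀ b₀ : F₀) (ρ ρ' : F),
        (∀ z₁ z₂ : F₀, z₁ ^ 2 + a₀ * z₁ * z₂ + b₀ * z₂ ^ 2 = 0 → z₁ = 0 ∧ z₂ = 0) ∧
        ρ + ρ' = -(j a₀) ∧ ρ * ρ' = j b₀ ∧ ρ ≠ ρ' ∧ σ ρ = ρ' ∧ σ ρ' = ρ := by
  classical
  obtain ⟨hdvd, -⟩ := Cfsg.Agent.Helper8.AutSLn.card_fixField hF σ (by norm_num) hσo
  obtain ⟨j, hj1, hj2⟩ := Cfsg.Agent.Helper8.AutSLn.exists_embedding hF σ (by norm_num) hσo F₀ hF₀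
  refine ⟨even_iff_two_dvd.mpr hdvd, j, hj1, hj2, ?_⟩
  obtain ⟨ζ, hζ⟩ := Cfsg.Agent.Helper8.OrR.exists_irred (F := F₀)
  have hab₀ : ∀ z₁ z₂ : F₀, z₁ ^ 2 + 1 * z₁ * z₂ + ζ * z₂ ^ 2 = 0 → z₁ = 0 ∧ z₂ = 0 :=
    Cfsg.Agent.Helper8.OrT.aniso_of_irred hζ
  letI : Algebra F₀ F := j.toAlgebra
  have hf1 : 1 ≤ f := by
    by_contra hcon
    have : f = 0 := by omega
    rw [this, pow_zero] at hF
    have := Fintype.one_lt_card (α := F)
    omega
  have hK : finrank F₀ F = 2 := by
    have h5 := Module.card_eq_pow_finrank (K := F₀) (V := F)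
    rw [hF, hF₀, ← pow_mul] at h5
    have h6 := Nat.pow_right_injective (Fact.out : p.Prime).two_le h5
    obtain ⟨k, hk⟩ := hdvd
    rw [hk, Nat.mul_div_cancel_left _ (by norm_num : 0 < 2)] at h6
    have hk0 : 0 < k := by omega
    have : k * 2 = k * finrank F₀ F := by rw [← h6]; ring
    exact (Nat.eq_of_mul_eq_mul_left hk0 this).symm
  obtain ⟨ρ, ρ', hsum, hprod, hne⟩ :=
    Cfsg.Agent.Helper8.Cls.exists_roots_of_aniso (F := F₀) (K := F) hK hab₀
  have hsum' : ρ + ρ' = -(j 1) := hsum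
  have hprod' : ρ * ρ' = j ζ := hprod
  have hσσ : ∀ a : F, σ (σ a) = a := by
    intro a
    have h1 : σ ^ 2 = 1 := by rw [← hσo, pow_orderOf_eq_one]
    have h2 := congrArg (fun τ : F ≃+* F => τ a) h1
    simpa [pow_two] using h2
  have hroot : (σ ρ - ρ) * (σ ρ - ρ') = 0 := by
    have h1 : ρ ^ 2 + j 1 * ρ + j ζ = 0 := by
      have : j 1 = -(ρ + ρ') := by rw [hsum', neg_neg]
      rw [this, ← hprod']
      ring
    have h2 := congrArg σ h1
    rw [map_add, map_add, map_pow, map_mul, hj1, hj1, map_zero] at h2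
    have : j 1 = -(ρ + ρ') := by rw [hsum', neg_neg]
    rw [this, ← hprod'] at h2
    linear_combination h2
  have hσρ : σ ρ = ρ' := by
    rcases mul_eq_zero.mp hroot with h1 | h1
    · exfalso
      obtain ⟨r₀, hr₀⟩ := hj2 ρ (sub_eq_zero.mp h1)
      have h3 : r₀ ^ 2 + 1 * r₀ * 1 + ζ * 1 ^ 2 = 0 := by
        apply j.injective
        rw [map_add, map_add, map_pow, map_mul, map_mul, map_mul, map_pow, hr₀, map_one,
          map_zero]
        have : (1 : F) = -(ρ + ρ') := by rw [hsum', map_one, neg_neg]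
        rw [← hprod']
        linear_combination (ρ) * this
      exact one_ne_zero (hab₀ r₀ 1 h3).2
    · exact sub_eq_zero.mp h1
  refine ⟨1, ζ, ρ, ρ', hab₀, hsum', hprod', hne, hσρ, ?_⟩
  rw [← hσρ, hσσ]

end Cfsg.Agent.Helper8.AutO
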