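import Mathlib
import Cfsg.Agent.Helper8.AutOzze

set_option autoImplicit false
set_option linter.unusedSectionVars false
set_option linter.style.haveILetI false

/-!
# Automorphisms of orthogonal groups, part zzf: the centraliser of a standard field automorphism
in the image of the class-preserving similarities, continued
-/

namespace Cfsg.Agent.Helper8.AutO

open Module Matrix Cfsg.Agent.Helper8.QuadForm Cfsg.Agent.Helper8.WittQuad
  Cfsg.Agent.Helper8.OrthOrder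
  Cfsg.Agent.Helper8.Siegel Cfsg.Agent.Helper8.SiegelGeom Cfsg.Agent.Helper8.SiegelGroup
  Cfsg.Agent.Helper8.SiegelPrim Cfsg.Agent.Helper8.SiegelSimple Cfsg.Agent.Helper8.ReflMatrix
  Cfsg.Agent.Helper8.OmegaSimple Cfsg.Agent.Helper8.AutImagePsi Cfsg.Agent.Helper8.AutImageOrth
  Cfsg.Agent.Helper8.StdForms Cfsg.Agent.Helper8.AutImage Cfsg.Agent.Helper8.AutImageKer
  Cfsg.Agent.Helper8.AutImageIdx Cfsg.Agent.Helper8.Cls Cfsg.Agent.Helper8.Reflections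
open Cfsg.Agent.Helper8.AutSLn (gls nrmGL nrmF unitsAut fixField)

variable {F₀ : Type*} {F : Type*} [Field F₀] [Field F] [Fintype F₀] [Fintype F] (j : F₀ →+* F)
  {ι : Type} [Fintype ι] [DecidableEq ι]
  (Q₀ : QuadraticForm F₀ (ι → F₀)) (Q : QuadraticForm F (ι → F))
  (hj : ∀ v : ι → F₀, Q (hvec j v) = j (Q₀ v))
  (hQ₀ : (QuadraticMap.polarBilin Q₀).Nondegenerate)
  (hQ : (QuadraticMap.polarBilin Q).Nondegenerate)
  (hne₀ : ∃ v, Q₀ v ≠ 0) (hne : ∃ v, Q v ≠ 0) (k : ℕ) (hk : Fintype.card ι = 2 * k)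

theorem mult_simMap (g₀ : ↥(Cfsg.Geo.quadSimilarityGroup (F := F₀) ⇑Q₀)) :
    ((mult ⇑Q hne (simMap j Q₀ Q hj g₀) : Fˣ) : F) = j ((mult ⇑Q₀ hne₀ g₀ : F₀ˣ) : F₀) := by
  have h1 : mult ⇑Q hne (simMap j Q₀ Q hj g₀) = Units.map (j : F₀ →* F) (mult ⇑Q₀ hne₀ g₀) := by
    apply mult_eq_of
    intro w
    exact similarity_map j Q₀ Q hj _ _ (mult_spec ⇑Q₀ hne₀ g₀) w
  rw [h1]
  rfl

/-- the class character of a similarity over the subfield. -/
theorem clsChar_simMap (g₀ : ↥(Cfsg.Geo.quadSimilarityGroup (F := F₀) ⇑Q₀)) :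
    clsChar Q hQ hne k hk (simMap j Q₀ Q hj g₀) = clsChar Q₀ hQ₀ hne₀ k hk g₀ := by
  have hiff : clsChar Q hQ hne k hk (simMap j Q₀ Q hj g₀) = 1 ↔
      clsChar Q₀ hQ₀ hne₀ k hk g₀ = 1 := by
    rw [clsChar_eq_one_iff, clsChar_eq_one_iff, mult_simMap j Q₀ Q hj hne₀ hne, coe_simMap]
    exact isCP_map_iff j k _ _
  rcases Int.units_eq_one_or (clsChar Q hQ hne k hk (simMap j Q₀ Q hj g₀)) with h1 | h1
  · rw [h1, hiff.mp h1]
  · rcases Int.units_eq_one_or (clsChar Q₀ hQ₀ hne₀ k hk g₀) with h3 | h3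
    · rw [hiff.mpr h3] at h1
      exact absurd h1 (by decide)
    · rw [h1, h3]

/-- the class-preserving similarities over the subfield acting on `PΩ(Q)`. -/
noncomputable def subHomCP : ↥(clsChar Q₀ hQ₀ hne₀ k hk).ker →* MulAut (Cfsg.POmega F ⇑Q) :=
  (subHomO j Q₀ Q hj).comp (clsChar Q₀ hQ₀ hne₀ k hk).ker.subtype

theorem subHomCP_apply (g : ↥(clsChar Q₀ hQ₀ hne₀ k hk).ker) :
    subHomCP j Q₀ Q hj hQ₀ hne₀ k hk g = Phi ⇑Q (simMap j Q₀ Q hj g.1) := rfl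

variable (h5 : 5 ≤ Fintype.card ι)

include hQ h5 in
theorem ker_subHomCP [Nontrivial (ι → F)] [Nontrivial (ι → F₀)] (p : ℕ) [Fact p.Prime]
    [CharP F p] :
    (subHomCP j Q₀ Q hj hQ₀ hne₀ k hk).ker =
      ((Phi ⇑Q₀).comp (clsChar Q₀ hQ₀ hne₀ k hk).ker.subtype).ker := by
  haveI : CharP F₀ p := RingHom.charP j j.injective p
  have hne' : Nonempty ι := by
    rw [← Fintype.card_pos_iff]
    omega
  obtain ⟨i₀⟩ := hne'
  ext g
  rw [MonoidHom.mem_ker, MonoidHom.mem_ker, subHomCP_apply]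
  show Phi ⇑Q (simMap j Q₀ Q hj g.1) = 1 ↔ Phi ⇑Q₀ g.1 = 1
  rw [Phi_eq_one_iff_scalar Q hQ h5 p, Phi_eq_one_iff_scalar Q₀ hQ₀ h5 p, coe_simMap]
  constructor
  · rintro ⟨c, hc⟩
    have h1 : ∀ i l, j (((g.1 : GL ι F₀) : Matrix ι ι F₀) i l)
        = ((c : F) • (1 : Matrix ι ι F)) i l := by
      intro i l
      rw [← hc]
      rfl
    have hc₀0 : ((g.1 : GL ι F₀) : Matrix ι ι F₀) i₀ i₀ ≠ 0 := by
      intro h0
      have := h1 i₀ i₀
      rw [h0, map_zero, Matrix.smul_apply, Matrix.one_apply_eq, smul_eq_mul, mul_one] at this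
      exact c.ne_zero this.symm
    refine ⟨Units.mk0 _ hc₀0, ?_⟩
    ext i l
    apply j.injective
    rw [h1, Units.val_mk0, Matrix.smul_apply, Matrix.smul_apply, Matrix.one_apply,
      Matrix.one_apply]
    by_cases hil : i = l
    · rw [if_pos hil, if_pos hil, smul_eq_mul, smul_eq_mul, mul_one, mul_one, h1,
        Matrix.smul_apply, Matrix.one_apply_eq, smul_eq_mul, mul_one]
    · rw [if_neg hil, if_neg hil, smul_zero, smul_zero, map_zero]
  · rintro ⟨c, hc⟩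
    refine ⟨Units.map (j : F₀ →* F) c, ?_⟩
    ext i l
    show j (((g.1 : GL ι F₀) : Matrix ι ι F₀) i l) = _
    rw [hc, Matrix.smul_apply, Matrix.smul_apply, Matrix.one_apply, Matrix.one_apply]
    by_cases hil : i = l
    · rw [if_pos hil, if_pos hil, smul_eq_mul, smul_eq_mul, mul_one, mul_one]
      rfl
    · rw [if_neg hil, if_neg hil, smul_zero, smul_zero, map_zero]

include hne in
theorem range_subHomCP [Nontrivial (ι → F)] (p : ℕ) [Fact p.Prime] [CharP F p]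
    (σ : F ≃+* F) (hσQ : ∀ v : ι → F, Q (fun i => σ (v i)) = σ (Q v))
    {r : ℕ} (hr : 0 < r) (hσr : σ ^ r = 1)
    (hinj : ∀ i l : Fin r, σ ^ (i : ℕ) = σ ^ (l : ℕ) → i = l)
    (hfix : ∀ a, σ (j a) = j a) (hsurj : ∀ b, σ b = b → ∃ a, j a = b) :
    (subHomCP j Q₀ Q hj hQ₀ hne₀ k hk).range =
      cpAut Q hQ hne k hk ⊓
        Subgroup.centralizer {PsiM Q hQ h5 (fieldGammaOne Q σ hσQ)} := by
  ext β
  constructor
  · rintro ⟨g₀, rfl⟩
    rw [Subgroup.mem_inf]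
    refine ⟨?_, ?_⟩
    · rw [mem_cpAut_iff]
      refine ⟨simMap j Q₀ Q hj g₀.1, ?_, rfl⟩
      rw [← clsChar_eq_one_iff Q hQ hne k hk, clsChar_simMap j Q₀ Q hj hQ₀ hQ hne₀ hne k hk]
      exact g₀.2
    · apply Subgroup.mem_centralizer_iff.mpr
      intro y hy
      rw [Set.mem_singleton_iff] at hy
      subst hy
      rw [subHomCP_apply, ← PsiM_simGamma Q hQ h5, ← map_mul, ← map_mul]
      congr 1
      apply ext_gap
      intro v
      rw [gap_mul, gap_mul, gap_simGamma, gap_fieldGammaOne, gap_simGamma, gap_fieldGammaOne,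
        coe_simMap]
      have h3 := Cfsg.Agent.Helper8.AutSLn.map_mulVec_comp σ
        ((Matrix.GeneralLinearGroup.map j (g₀.1 : GL ι F₀) : GL ι F) : Matrix ι ι F) v
      have h4 : ((Matrix.GeneralLinearGroup.map j (g₀.1 : GL ι F₀) : GL ι F) :
          Matrix ι ι F).map σ
          = ((Matrix.GeneralLinearGroup.map j (g₀.1 : GL ι F₀) : GL ι F) : Matrix ι ι F) := by
        ext i l
        exact hfix _
      rw [h4] at h3
      exact h3.symm
  · intro hβ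
    rw [Subgroup.mem_inf] at hβ
    obtain ⟨h1, h2'⟩ := hβ
    rw [mem_cpAut_iff] at h1
    obtain ⟨g, hgcp, rfl⟩ := h1
    replace h2' := Subgroup.mem_centralizer_iff.mp h2' _ rfl
    obtain ⟨d, hd⟩ := exists_fixed_of_commute_one Q hQ h5 p σ hσQ hr hσr hinj g h2'
    have hmem : Matrix.GeneralLinearGroup.scalar ι d * (g : GL ι F) ∈
        Cfsg.Geo.quadSimilarityGroup (F := F) ⇑Q :=
      Subgroup.mul_mem _ (scalarGO Q d).2 g.2
    obtain ⟨g₀, hg₀⟩ := exists_simMap_eq j Q₀ Q hj hne₀ σ hsurj _ hmem hd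
    have h3 : simMap j Q₀ Q hj g₀ = scalarGO Q d * g := Subtype.ext hg₀
    have hg₀cp : g₀ ∈ (clsChar Q₀ hQ₀ hne₀ k hk).ker := by
      rw [MonoidHom.mem_ker, ← clsChar_simMap j Q₀ Q hj hQ₀ hQ hne₀ hne k hk, h3, map_mul,
        clsChar_scalarGO, one_mul]
      exact (clsChar_eq_one_iff Q hQ hne k hk g).mpr hgcp
    refine ⟨⟨g₀, hg₀cp⟩, ?_⟩
    rw [subHomCP_apply, h3, map_mul, Phi_scalarGO' Q hQ h5 p, one_mul]

include hj hne in
/-- **the centraliser of the standard field automorphism in the image of the class-preserving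
similarities.** -/
theorem nonempty_centralizer_equiv_cp [Nontrivial (ι → F)] [Nontrivial (ι → F₀)]
    (p : ℕ) [Fact p.Prime] [CharP F p]
    (σ : F ≃+* F) (hσQ : ∀ v : ι → F, Q (fun i => σ (v i)) = σ (Q v))
    {r : ℕ} (hr : 0 < r) (hσr : σ ^ r = 1)
    (hinj : ∀ i l : Fin r, σ ^ (i : ℕ) = σ ^ (l : ℕ) → i = l)
    (hfix : ∀ a, σ (j a) = j a) (hsurj : ∀ b, σ b = b → ∃ a, j a = b) :
    Nonempty (↥(cpAut Q hQ hne k hk ⊓
        Subgroup.centralizer {PsiM Q hQ h5 (fieldGammaOne Q σ hσQ)}) ≃*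
      ↥(cpAut Q₀ hQ₀ hne₀ k hk)) := by
  have e1 := QuotientGroup.quotientKerEquivRange (subHomCP j Q₀ Q hj hQ₀ hne₀ k hk)
  have e2 := QuotientGroup.quotientMulEquivOfEq (ker_subHomCP j Q₀ Q hj hQ₀ hQ hne₀ k hk h5 p)
  have e3 := MulEquiv.subgroupCongr
    (range_subHomCP j Q₀ Q hj hQ₀ hQ hne₀ hne k hk h5 p σ hσQ hr hσr hinj hfix hsurj)
  have e4 := QuotientGroup.quotientKerEquivRange
    ((Phi ⇑Q₀).comp (clsChar Q₀ hQ₀ hne₀ k hk).ker.subtype)
  have e5 : ((Phi ⇑Q₀).comp (clsChar Q₀ hQ₀ hne₀ k hk).ker.subtype).range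
      = cpAut Q₀ hQ₀ hne₀ k hk := by
    rw [MonoidHom.range_comp, Subgroup.range_subtype]
    rfl
  exact ⟨(((e3.symm.trans e1.symm).trans e2).trans e4).trans (MulEquiv.subgroupCongr e5)⟩

end Cfsg.Agent.Helper8.AutO
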