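import Mathlib
import Cfsg.Agent.Helper8.AutImageIdx
import Cfsg.Agent.Helper8.Dihedral8
import Cfsg.Agent.Helper8.OmegaCrit

set_option autoImplicit false

/-!
# The image of the conformal orthogonal group modulo inner automorphisms (helper8)
-/

namespace Cfsg.Agent.Helper8.AutImageD8

open Module Cfsg Cfsg.Agent.Helper8.AutImage Cfsg.Agent.Helper8.AutImageOrth
  Cfsg.Agent.Helper8.AutImageKer Cfsg.Agent.Helper8.AutImagePsi Cfsg.Agent.Helper8.AutImageIdx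
  Cfsg.Agent.Helper8.QuadForm Cfsg.Agent.Helper8.Reflections Cfsg.Agent.Helper8.ReflMatrix
open scoped Matrix

section Linear

variable {F : Type*} [Field F] {V : Type*} [AddCommGroup V] [Module F V]

theorem polar_similarity (Q : QuadraticForm F V) (k : V ≃ₗ[F] V) (c : F)
    (hk : ∀ x, Q (k x) = c * Q x) (y z : V) :
    QuadraticMap.polar Q (k y) (k z) = c * QuadraticMap.polar Q y z := by
  unfold QuadraticMap.polar
  rw [← map_add, hk, hk, hk]
  ring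

/-- conjugating a reflection by a similarity. -/
theorem refl_conj_sim (Q : QuadraticForm F V) (k : V ≃ₗ[F] V) (c : F) (hc0 : c ≠ 0)
    (hk : ∀ x, Q (k x) = c * Q x) (u : V) :
    k * refl Q u * k⁻¹ = refl Q (k u) := by
  apply LinearEquiv.ext
  intro x
  show k (refl Q u (k⁻¹ x)) = refl Q (k u) x
  have hkk : k (k⁻¹ x) = x := by
    show k (k.symm x) = x
    exact k.apply_symm_apply x
  rw [refl_apply, refl_apply, map_sub, map_smul, hkk, hk u]
  congr 2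
  have h1 := polar_similarity Q k c hk u (k⁻¹ x)
  rw [hkk] at h1
  rw [h1, mul_div_mul_left _ _ hc0]

end Linear

section MatrixPart

variable {F : Type*} [Field F] [Fintype F] {ι : Type} [Fintype ι] [DecidableEq ι]
  (Q : QuadraticForm F (ι → F))

omit [Fintype F] in
/-- conjugating a reflection matrix by a similarity. -/
theorem reflElt_conj_sim (d : GL ι F) (c : Fˣ)
    (hd : ∀ v, Q ((d : Matrix ι ι F) *ᵥ v) = (c : F) * Q v) (v : ι → F) :
    d * ((reflElt Q v : ↥(Cfsg.isometryGroup F ⇑Q)) : GL ι F) * d⁻¹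
      = ((reflElt Q ((d : Matrix ι ι F) *ᵥ v) : ↥(Cfsg.isometryGroup F ⇑Q)) : GL ι F) := by
  apply glEquiv.injective
  rw [map_mul, map_mul, map_inv]
  have h1 : ∀ z, glEquiv ((reflElt Q z : ↥(Cfsg.isometryGroup F ⇑Q)) : GL ι F) = refl Q z := by
    intro z
    have := congrArg Subtype.val (isomEquiv_reflElt Q z)
    exact this
  rw [h1, h1]
  exact refl_conj_sim Q (glEquiv d) c (Units.ne_zero c) (fun x => hd x) v

/-- when `-1 ∈ Ω`, an isometry inducing an inner automorphism of `PΩ` lies in `Ω`. -/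
theorem mem_Omega_of_PhiO_mem (h2 : (2 : F) ≠ 0) (hQ : (QuadraticMap.polarBilin Q).Nondegenerate)
    (h5 : 5 ≤ Fintype.card ι)
    (hneg : ∃ g : ↥(Cfsg.isometryGroup F ⇑Q), g ∈ Cfsg.Omega F ⇑Q ∧
      ((g : GL ι F) : Matrix ι ι F) = -1)
    (w : ↥(Cfsg.isometryGroup F ⇑Q)) (hw : PhiO ⇑Q w ∈ Cfsg.Inn (Cfsg.POmega F ⇑Q)) :
    w ∈ Cfsg.Omega F ⇑Q := by
  obtain ⟨g0, hg0, hg0m⟩ := hneg
  have hnegΩ : negO Q ∈ Cfsg.Omega F ⇑Q := by rw [← eq_negO Q hg0m]; exact hg0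
  rw [Inn_eq'] at hw
  obtain ⟨s, hs, hsw⟩ := hw
  have h1 : PhiO ⇑Q (s⁻¹ * w) = 1 := by rw [map_mul, map_inv, hsw, inv_mul_cancel]
  rcases (PhiO_eq_one_iff Q h2 hQ h5 _).mp h1 with h | h
  · have := eq_one_of_val Q h
    rw [inv_mul_eq_one] at this
    exact this ▸ hs
  · have := eq_negO Q h
    have hr : w = s * negO Q := by rw [← this]; group
    exact hr ▸ Subgroup.mul_mem _ hs hnegΩ

end MatrixPart

section Main

variable {F : Type*} [Field F] [Fintype F] {ι : Type} [Fintype ι] [DecidableEq ι]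
  (Q : QuadraticForm F (ι → F))

theorem card_klein : Nat.card (Multiplicative (ZMod 2 × ZMod 2)) = 4 := IsKleinFour.card_four

/-- **the image of the conformal group modulo the inner automorphisms is dihedral of order eight**
when `-1 ∈ Ω`. -/
theorem exists_dihedral_hom (h2 : (2 : F) ≠ 0) (hQ : (QuadraticMap.polarBilin Q).Nondegenerate)
    (h5 : 5 ≤ Fintype.card ι) (hne : ∃ v, Q v ≠ 0) (k : ℕ) (hk : Fintype.card ι = 2 * k)
    (hd : ∃ d : ↥(Geo.quadSimilarityGroup (F := F) ⇑Q), ¬ IsSquare ((mult ⇑Q hne d : Fˣ) : F))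
    (hneg : ∃ g : ↥(Cfsg.isometryGroup F ⇑Q), g ∈ Cfsg.Omega F ⇑Q ∧
      ((g : GL ι F) : Matrix ι ι F) = -1) :
    ∃ φ : ↥(Cfsg.pgoAut F ⇑Q) →* DihedralGroup 4, Function.Surjective φ ∧
      φ.ker = (Cfsg.Inn (Cfsg.POmega F ⇑Q)).subgroupOf (Cfsg.pgoAut F ⇑Q) := by
  classical
  obtain ⟨φ0, hφ0s, hφ0k⟩ := exists_klein_hom Q h2 hQ h5 hne k hk hd
  have heven : Even (Fintype.card ι) := by rw [hk]; exact even_two_mul k
  have hidx2 := (relIndex_Inn_psoAut Q h2 hQ h5 heven).1 hneg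
  have hidx4 : (Cfsg.psoAut F ⇑Q).relIndex (Cfsg.pgoAut F ⇑Q) = 4 := by
    show ((Cfsg.psoAut F ⇑Q).subgroupOf (Cfsg.pgoAut F ⇑Q)).index = 4
    rw [← hφ0k, Subgroup.index_ker, MonoidHom.range_eq_top.mpr hφ0s, Subgroup.card_top, card_klein]
  have hIS : Cfsg.Inn (Cfsg.POmega F ⇑Q) ≤ Cfsg.psoAut F ⇑Q := by
    rw [Inn_eq', psoAut_eq']
    exact Subgroup.map_mono (Abelianization.commutator_subset_ker _)
  have hSP : Cfsg.psoAut F ⇑Q ≤ Cfsg.pgoAut F ⇑Q := by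
    rw [psoAut_eq, pgoAut_eq]
    exact Subgroup.map_le_range _ _
  have hidx8 : (Cfsg.Inn (Cfsg.POmega F ⇑Q)).relIndex (Cfsg.pgoAut F ⇑Q) = 8 := by
    rw [← Subgroup.relIndex_mul_relIndex _ _ _ hIS hSP, hidx2, hidx4]
  obtain ⟨o, ho⟩ := hne
  have hne' : ∃ v, Q v ≠ 0 := ⟨o, ho⟩
  obtain ⟨d, hdns⟩ := hd
  obtain ⟨r, hr⟩ : ∃ r : ↥(Geo.quadSimilarityGroup (F := F) ⇑Q),
      r = Subgroup.inclusion (isometry_le_similarity ⇑Q) (reflElt Q o) := ⟨_, rfl⟩
  have hrr : r * r = 1 := by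
    rw [hr, ← map_mul, reflElt_mul_self, map_one]
  have hnc : Phi ⇑Q (r⁻¹ * (d * r * d⁻¹)) ∉ Cfsg.Inn (Cfsg.POmega F ⇑Q) := by
    intro h2'
    have hrinv : r⁻¹ = r := inv_eq_of_mul_eq_one_right hrr
    have hw : r⁻¹ * (d * r * d⁻¹) = Subgroup.inclusion (isometry_le_similarity ⇑Q)
        (reflElt Q o * reflElt Q (((d : GL ι F) : Matrix ι ι F) *ᵥ o)) := by
      rw [hrinv, hr]
      apply Subtype.ext
      show ((reflElt Q o : ↥(Cfsg.isometryGroup F ⇑Q)) : GL ι F)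
        * ((d : GL ι F) * ((reflElt Q o : ↥(Cfsg.isometryGroup F ⇑Q)) : GL ι F) * (d : GL ι F)⁻¹)
        = _
      rw [reflElt_conj_sim Q (d : GL ι F) (mult ⇑Q hne' d) (mult_spec ⇑Q hne' d) o]
      rfl
    rw [hw] at h2'
    have h3 := mem_Omega_of_PhiO_mem Q h2 hQ h5 hneg _ h2'
    have hl : ∀ z ∈ [o, ((d : GL ι F) : Matrix ι ι F) *ᵥ o], Q z ≠ 0 := by
      intro z hz
      simp only [List.mem_cons, List.not_mem_nil, or_false] at hz
      rcases hz with rfl | rfl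
      · exact ho
      · rw [mult_spec ⇑Q hne' d]
        exact mul_ne_zero (Units.ne_zero _) ho
    have h4 := (Cfsg.Agent.Helper8.OmegaCrit.prod_reflElt_mem_iff Q h2 hQ (by omega)
      [o, ((d : GL ι F) : Matrix ι ι F) *ᵥ o] hl).mp (by
        rw [List.map_cons, List.map_cons, List.map_nil, List.prod_cons, List.prod_cons,
          List.prod_nil, mul_one]
        exact h3)
    obtain ⟨-, s, hs⟩ := h4
    rw [List.map_cons, List.map_cons, List.map_nil, List.prod_cons, List.prod_cons,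
      List.prod_nil, mul_one, mult_spec ⇑Q hne' d] at hs
    apply hdns
    refine ⟨s / Q o, ?_⟩
    field_simp
    linear_combination hs
  revert hidx8
  rw [pgoAut_eq]
  intro hidx8
  exact Cfsg.Agent.Helper8.Dihedral8.exists_hom_of_quot (Phi ⇑Q) _ hidx8 r d hrr hnc

/-- when `-1 ∉ Ω` the image of the conformal group modulo the inner automorphisms is a
four-group. -/
theorem exists_klein_hom_Inn (h2 : (2 : F) ≠ 0) (hQ : (QuadraticMap.polarBilin Q).Nondegenerate)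
    (h5 : 5 ≤ Fintype.card ι) (hne : ∃ v, Q v ≠ 0) (k : ℕ) (hk : Fintype.card ι = 2 * k)
    (hd : ∃ d : ↥(Geo.quadSimilarityGroup (F := F) ⇑Q), ¬ IsSquare ((mult ⇑Q hne d : Fˣ) : F))
    (hneg : ¬ ∃ g : ↥(Cfsg.isometryGroup F ⇑Q), g ∈ Cfsg.Omega F ⇑Q ∧
      ((g : GL ι F) : Matrix ι ι F) = -1) :
    ∃ φ : ↥(Cfsg.pgoAut F ⇑Q) →* Multiplicative (ZMod 2 × ZMod 2), Function.Surjective φ ∧
      φ.ker = (Cfsg.Inn (Cfsg.POmega F ⇑Q)).subgroupOf (Cfsg.pgoAut F ⇑Q) := by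
  have heven : Even (Fintype.card ι) := by rw [hk]; exact even_two_mul k
  have hidx1 := (relIndex_Inn_psoAut Q h2 hQ h5 heven).2 hneg
  have hIS : Cfsg.Inn (Cfsg.POmega F ⇑Q) ≤ Cfsg.psoAut F ⇑Q := by
    rw [Inn_eq', psoAut_eq']
    exact Subgroup.map_mono (Abelianization.commutator_subset_ker _)
  have heq : Cfsg.Inn (Cfsg.POmega F ⇑Q) = Cfsg.psoAut F ⇑Q :=
    le_antisymm hIS (Subgroup.relIndex_eq_one.mp hidx1)
  rw [heq]
  exact exists_klein_hom Q h2 hQ h5 hne k hk hd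

end Main

end Cfsg.Agent.Helper8.AutImageD8
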