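import Mathlib

set_option autoImplicit false

/-! Homomorphisms onto small groups from quotients of index two and four (helper8). -/

namespace Cfsg.Agent.Helper8.InnDiagPlus

section Small

variable {G : Type*} [Group G]

theorem exists_hom_of_equiv (N : Subgroup G) [N.Normal] {C : Type*} [Group C] (e : G ⧸ N ≃* C) :
    ∃ ψ : G →* C, Function.Surjective ψ ∧ ψ.ker = N := by
  refine ⟨e.toMonoidHom.comp (QuotientGroup.mk' N), ?_, ?_⟩
  · rw [MonoidHom.coe_comp]
    exact e.surjective.comp (QuotientGroup.mk'_surjective N)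
  · ext g
    rw [MonoidHom.mem_ker, MonoidHom.comp_apply]
    show e (QuotientGroup.mk' N g) = 1 ↔ _
    rw [e.map_eq_one_iff, QuotientGroup.mk'_apply, QuotientGroup.eq_one_iff]

theorem nonempty_equiv_zmod {Q : Type*} [Group Q] (hc : IsCyclic Q) {n : ℕ} (hn : Nat.card Q = n) :
    Nonempty (Q ≃* Multiplicative (ZMod n)) := by
  subst hn
  exact ⟨(zmodCyclicMulEquiv hc).symm⟩

/-- a normal subgroup of index two is the kernel of a surjection onto `Z/2` -/
theorem exists_hom_zmod_two (N : Subgroup G) [N.Normal] (h : N.index = 2) :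
    ∃ ψ : G →* Multiplicative (ZMod 2), Function.Surjective ψ ∧ ψ.ker = N := by
  have hcard : Nat.card (G ⧸ N) = 2 := by rw [← Subgroup.index_eq_card]; exact h
  haveI : Fact (Nat.Prime 2) := ⟨Nat.prime_two⟩
  have hc : IsCyclic (G ⧸ N) := isCyclic_of_prime_card hcard
  obtain ⟨e⟩ := nonempty_equiv_zmod hc hcard
  exact exists_hom_of_equiv N e

/-- a normal subgroup of index four modulo which some square is nontrivial is the kernel of a
surjection onto `Z/4` -/
theorem exists_hom_zmod_four (N : Subgroup G) [N.Normal] (h : N.index = 4) (x : G)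
    (hx : x * x ∉ N) :
    ∃ ψ : G →* Multiplicative (ZMod 4), Function.Surjective ψ ∧ ψ.ker = N := by
  have hcard : Nat.card (G ⧸ N) = 4 := by rw [← Subgroup.index_eq_card]; exact h
  haveI : Finite (G ⧸ N) := Nat.finite_of_card_ne_zero (by rw [hcard]; norm_num)
  have hx2 : (QuotientGroup.mk x : G ⧸ N) ^ 2 ≠ 1 := by
    rw [pow_two, ← QuotientGroup.mk_mul, Ne, QuotientGroup.eq_one_iff]
    exact hx
  have hdvd : orderOf (QuotientGroup.mk x : G ⧸ N) ∣ 4 := by
    rw [← hcard]; exact orderOf_dvd_natCard _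
  have hord : orderOf (QuotientGroup.mk x : G ⧸ N) = 4 := by
    have hmem : orderOf (QuotientGroup.mk x : G ⧸ N) ∈ Nat.divisors 4 :=
      Nat.mem_divisors.mpr ⟨hdvd, by norm_num⟩
    have hdiv : Nat.divisors 4 = {1, 2, 4} := by decide
    rw [hdiv] at hmem
    simp only [Finset.mem_insert, Finset.mem_singleton] at hmem
    rcases hmem with h1 | h1 | h1
    · exfalso
      apply hx2
      rw [orderOf_eq_one_iff] at h1
      rw [h1, one_pow]
    · exfalso
      apply hx2
      rw [← h1]
      exact pow_orderOf_eq_one _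
    · exact h1
  have hc : IsCyclic (G ⧸ N) := isCyclic_of_orderOf_eq_card _ (by rw [hord, hcard])
  obtain ⟨e⟩ := nonempty_equiv_zmod hc hcard
  exact exists_hom_of_equiv N e

/-- a normal subgroup of index four containing all squares is the kernel of a surjection onto the
four-group -/
theorem exists_hom_klein (N : Subgroup G) [N.Normal] (h : N.index = 4)
    (hx : ∀ x : G, x * x ∈ N) :
    ∃ ψ : G →* Multiplicative (ZMod 2 × ZMod 2), Function.Surjective ψ ∧ ψ.ker = N := by
  have hcard : Nat.card (G ⧸ N) = 4 := by rw [← Subgroup.index_eq_card]; exact h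
  haveI : Finite (G ⧸ N) := Nat.finite_of_card_ne_zero (by rw [hcard]; norm_num)
  haveI : Nontrivial (G ⧸ N) := by
    rw [← Finite.one_lt_card_iff_nontrivial, hcard]; norm_num
  have hsq : ∀ y : G ⧸ N, y ^ 2 = 1 := by
    intro y
    induction y using QuotientGroup.induction_on with
    | H g =>
      rw [pow_two, ← QuotientGroup.mk_mul, QuotientGroup.eq_one_iff]
      exact hx g
  haveI : IsKleinFour (G ⧸ N) :=
    { card_four := hcard
      exponent_two := by
        rw [Monoid.exponent_eq_prime_iff Nat.prime_two]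
        intro g hg
        exact orderOf_eq_prime (hsq g) hg }
  obtain ⟨e⟩ := IsKleinFour.nonempty_mulEquiv (G₁ := G ⧸ N) (G₂ := Multiplicative (ZMod 2 × ZMod 2))
  exact exists_hom_of_equiv N e

end Small

section Descend

variable {A B C : Type*} [Group A] [Group B] [Group C]

/-- descending a surjection along a homomorphism onto its range, kernel given as a preimage. -/
theorem exists_hom_of_comap (Φ : A →* B) (R : Subgroup B) (hR : R = Φ.range) (I : Subgroup B)
    (ψ : A →* C) (hψ : Function.Surjective ψ) (hker : ψ.ker = I.comap Φ) :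
    ∃ φ : ↥R →* C, Function.Surjective φ ∧ φ.ker = I.subgroupOf R := by
  subst hR
  have hle : Φ.rangeRestrict.ker ≤ ψ.ker := by
    rw [MonoidHom.ker_rangeRestrict, hker]
    intro a ha
    rw [Subgroup.mem_comap, MonoidHom.mem_ker.mp ha]
    exact Subgroup.one_mem _
  let φ : ↥Φ.range →* C :=
    Φ.rangeRestrict.liftOfSurjective Φ.rangeRestrict_surjective ⟨ψ, hle⟩
  have hφ : ∀ a, φ (Φ.rangeRestrict a) = ψ a := fun a =>
    MonoidHom.liftOfRightInverse_comp_apply _ _ _ ⟨ψ, hle⟩ a
  refine ⟨φ, ?_, ?_⟩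
  · intro c
    obtain ⟨a, rfl⟩ := hψ c
    exact ⟨Φ.rangeRestrict a, hφ a⟩
  · ext x
    obtain ⟨a, rfl⟩ := Φ.rangeRestrict_surjective x
    rw [MonoidHom.mem_ker, hφ, Subgroup.mem_subgroupOf, ← MonoidHom.mem_ker, hker]
    rfl

end Descend

end Cfsg.Agent.Helper8.InnDiagPlus
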