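import Mathlib
import Cfsg.Agent.Helper8.InnDiagPlusD
import Cfsg.Agent.Helper8.AutImageD8

set_option autoImplicit false

/-! The image of the similarities with `det g = μ(g)^k` in `Aut(PΩ)` modulo `Inn`, for a general
nondegenerate quadratic form in even dimension `2k` (helper8). -/

namespace Cfsg.Agent.Helper8.InnDiagGen

open Module Cfsg Cfsg.Agent.Helper8.AutImage Cfsg.Agent.Helper8.InnDiagPlus
  Cfsg.Agent.Helper8.AutImageOrth Cfsg.Agent.Helper8.AutImageKer Cfsg.Agent.Helper8.AutImagePsi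
  Cfsg.Agent.Helper8.AutImageIdx Cfsg.Agent.Helper8.AutImageD8
open scoped Matrix

section Setup

variable {F : Type*} [Field F] {ι : Type} [Fintype ι] [DecidableEq ι]
  (Q : QuadraticForm F (ι → F)) (h2 : (2 : F) ≠ 0)
  (hQ : (QuadraticMap.polarBilin Q).Nondegenerate) (hne : ∃ v, Q v ≠ 0) (k : ℕ)
  (hk : Fintype.card ι = 2 * k)

/-- the similarities with `det g = μ(g)^k` -/
noncomputable def Dsub : Subgroup ↥(Geo.quadSimilarityGroup (F := F) ⇑Q) :=
  (psi2 Q h2 hQ hne k hk).ker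

theorem mem_Dsub_iff (g : ↥(Geo.quadSimilarityGroup (F := F) ⇑Q)) :
    g ∈ Dsub Q h2 hQ hne k hk ↔ ((g : GL ι F) : Matrix ι ι F).det
      = ((mult ⇑Q hne g : Fˣ) : F) ^ k := by
  unfold Dsub
  rw [MonoidHom.mem_ker, psi2_eq_one_iff]

/-- the action of `Dsub` on `PΩ` -/
noncomputable def PhiD : ↥(Dsub Q h2 hQ hne k hk) →* MulAut (POmega F ⇑Q) :=
  (Phi ⇑Q).comp (Dsub Q h2 hQ hne k hk).subtype

theorem PhiD_apply (g : ↥(Dsub Q h2 hQ hne k hk)) :
    PhiD Q h2 hQ hne k hk g = Phi ⇑Q g.1 := rfl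

/-- if a predicate on similarities cuts out `Dsub`, the subgroup generated by the corresponding
induced automorphisms is the image of `Dsub` -/
theorem autSub_eq_range (P : Matrix ι ι F → Prop)
    (hP : ∀ g : ↥(Geo.quadSimilarityGroup (F := F) ⇑Q),
      P ((g : GL ι F) : Matrix ι ι F) ↔ g ∈ Dsub Q h2 hQ hne k hk) :
    autSubgroupOf (fun β : POmega F ⇑Q ≃* POmega F ⇑Q => ∃ g : GL ι F,
      g ∈ Geo.quadSimilarityGroup (F := F) ⇑Q ∧ P (g : Matrix ι ι F) ∧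
      IsInducedBySemilinearPOmega ⇑Q g (RingEquiv.refl F) β) = (PhiD Q h2 hQ hne k hk).range := by
  unfold autSubgroupOf
  have hset : {β : MulAut (POmega F ⇑Q) | ∃ g : GL ι F,
      g ∈ Geo.quadSimilarityGroup (F := F) ⇑Q ∧ P (g : Matrix ι ι F) ∧
      IsInducedBySemilinearPOmega ⇑Q g (RingEquiv.refl F) β}
      = (((PhiD Q h2 hQ hne k hk).range : Subgroup (MulAut (POmega F ⇑Q))) :
        Set (MulAut (POmega F ⇑Q))) := by
    ext β
    constructor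
    · rintro ⟨g, hg, hpres, hind⟩
      rw [induced_iff ⇑Q hg] at hind
      exact ⟨⟨⟨g, hg⟩, (hP ⟨g, hg⟩).mp hpres⟩, hind.symm⟩
    · rintro ⟨g, rfl⟩
      exact ⟨g.1.1, g.1.2, (hP g.1).mpr g.2, (induced_iff ⇑Q g.1.2 _).mpr rfl⟩
  rw [hset, Subgroup.closure_eq]

end Setup

section Structure

variable {F : Type*} [Field F] [Fintype F] {ι : Type} [Fintype ι] [DecidableEq ι]
  (Q : QuadraticForm F (ι → F)) (h2 : (2 : F) ≠ 0)
  (hQ : (QuadraticMap.polarBilin Q).Nondegenerate) (hne : ∃ v, Q v ≠ 0) (k : ℕ)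
  (hk : Fintype.card ι = 2 * k)

/-- the quadratic character of the multiplier on `Dsub` -/
noncomputable def psi1D : ↥(Dsub Q h2 hQ hne k hk) →* ℤˣ :=
  (psi1 Q hne).comp (Dsub Q h2 hQ hne k hk).subtype

theorem psi1D_apply (g : ↥(Dsub Q h2 hQ hne k hk)) :
    psi1D Q h2 hQ hne k hk g = psi1 Q hne g.1 := rfl

theorem map_subtype_ker :
    (psi1D Q h2 hQ hne k hk).ker.map (Dsub Q h2 hQ hne k hk).subtype =
      (psi Q h2 hQ hne k hk).ker := by
  ext g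
  rw [Subgroup.mem_map, MonoidHom.mem_ker, psi_apply, Prod.mk_eq_one]
  constructor
  · rintro ⟨x, hx, rfl⟩
    exact ⟨hx, x.2⟩
  · rintro ⟨h1, h3⟩
    exact ⟨⟨g, h3⟩, h1, rfl⟩

variable (h5 : 5 ≤ Fintype.card ι)

include h5 in
theorem map_ker_psi1D :
    (psi1D Q h2 hQ hne k hk).ker.map (PhiD Q h2 hQ hne k hk) = psoAut F ⇑Q := by
  unfold PhiD
  rw [← Subgroup.map_map, map_subtype_ker, psi_ker_eq Q h2 hQ h5,
    Subgroup.map_sup, (MonoidHom.ker (Phi ⇑Q)).map_eq_bot_iff.mpr le_rfl, sup_bot_eq,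
    ← psoAut_eq]

omit [Fintype F] in
theorem Inn_le_pso : Cfsg.Inn (Cfsg.POmega F ⇑Q) ≤ psoAut F ⇑Q := by
  rw [Inn_eq', psoAut_eq']
  exact Subgroup.map_mono (Abelianization.commutator_subset_ker _)

include h5 in
theorem ker_PhiD_le : (PhiD Q h2 hQ hne k hk).ker ≤ (psi1D Q h2 hQ hne k hk).ker := by
  intro x hx
  have h1 : x.1 ∈ (Phi ⇑Q).ker := hx
  have h3 : x.1 ∈ (psi Q h2 hQ hne k hk).ker := by
    rw [psi_ker_eq Q h2 hQ h5]
    exact Subgroup.mem_sup_right h1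
  rw [MonoidHom.mem_ker, psi_apply, Prod.mk_eq_one] at h3
  exact h3.1

include h5 in
theorem comap_pso_eq :
    (psoAut F ⇑Q).comap (PhiD Q h2 hQ hne k hk) = (psi1D Q h2 hQ hne k hk).ker := by
  rw [← map_ker_psi1D Q h2 hQ hne k hk h5, Subgroup.comap_map_eq, sup_eq_left]
  exact ker_PhiD_le Q h2 hQ hne k hk h5

include h5 in
theorem comap_Inn_le :
    (Cfsg.Inn (Cfsg.POmega F ⇑Q)).comap (PhiD Q h2 hQ hne k hk) ≤
      (psi1D Q h2 hQ hne k hk).ker := by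
  rw [← comap_pso_eq Q h2 hQ hne k hk h5]
  exact Subgroup.comap_mono (Inn_le_pso Q)

variable (hd : ∃ d : ↥(Geo.quadSimilarityGroup (F := F) ⇑Q), d ∈ Dsub Q h2 hQ hne k hk ∧
  ¬ IsSquare ((mult ⇑Q hne d : Fˣ) : F))

include hd in
theorem psi1D_surjective : Function.Surjective (psi1D Q h2 hQ hne k hk) := by
  obtain ⟨d, hdD, hdns⟩ := hd
  intro u
  rcases Int.units_eq_one_or u with rfl | rfl
  · exact ⟨1, map_one _⟩
  · refine ⟨⟨d, hdD⟩, ?_⟩
    rcases Int.units_eq_one_or (psi1D Q h2 hQ hne k hk ⟨d, hdD⟩) with h | h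
    · rw [psi1D_apply, psi1_eq_one_iff] at h
      exact absurd h hdns
    · exact h

include hd in
theorem index_ker_psi1D : (psi1D Q h2 hQ hne k hk).ker.index = 2 := by
  rw [Subgroup.index_ker, MonoidHom.range_eq_top.mpr (psi1D_surjective Q h2 hQ hne k hk hd),
    Subgroup.card_top]
  simp

include h5 hd in
/-- the index of the preimage of `Inn` in `Dsub` -/
theorem index_comap_Inn :
    ((Cfsg.Inn (Cfsg.POmega F ⇑Q)).comap (PhiD Q h2 hQ hne k hk)).index =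
      (Cfsg.Inn (Cfsg.POmega F ⇑Q)).relIndex (psoAut F ⇑Q) * 2 := by
  rw [← Subgroup.relIndex_mul_index (comap_Inn_le Q h2 hQ hne k hk h5),
    index_ker_psi1D Q h2 hQ hne k hk hd, Subgroup.relIndex_comap,
    map_ker_psi1D Q h2 hQ hne k hk h5]

include h5 hd in
/-- **case `-1 ∉ Ω`:** the quotient is cyclic of order two -/
theorem hom_caseA (R : Subgroup (MulAut (POmega F ⇑Q)))
    (hR : R = (PhiD Q h2 hQ hne k hk).range)
    (hneg : ¬ ∃ g : ↥(Cfsg.isometryGroup F ⇑Q), g ∈ Cfsg.Omega F ⇑Q ∧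
      ((g : GL ι F) : Matrix ι ι F) = -1) :
    ∃ φ : ↥R →* Multiplicative (ZMod 2), Function.Surjective φ ∧
      φ.ker = (Cfsg.Inn (Cfsg.POmega F ⇑Q)).subgroupOf R := by
  have heven : Even (Fintype.card ι) := by rw [hk]; exact even_two_mul k
  have hidx1 := (relIndex_Inn_psoAut Q h2 hQ h5 heven).2 hneg
  have hidx : ((Cfsg.Inn (Cfsg.POmega F ⇑Q)).comap (PhiD Q h2 hQ hne k hk)).index = 2 := by
    rw [index_comap_Inn Q h2 hQ hne k hk h5 hd, hidx1]
  obtain ⟨ψ, hψs, hψk⟩ := exists_hom_zmod_two _ hidx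
  exact exists_hom_of_comap (PhiD Q h2 hQ hne k hk) R hR _ ψ hψs hψk

include h5 hd in
/-- **case `-1 ∈ Ω` with a square outside `Inn`:** the quotient is cyclic of order four -/
theorem hom_caseB (R : Subgroup (MulAut (POmega F ⇑Q)))
    (hR : R = (PhiD Q h2 hQ hne k hk).range)
    (hneg : ∃ g : ↥(Cfsg.isometryGroup F ⇑Q), g ∈ Cfsg.Omega F ⇑Q ∧
      ((g : GL ι F) : Matrix ι ι F) = -1)
    (x : ↥(Dsub Q h2 hQ hne k hk))
    (hx : PhiD Q h2 hQ hne k hk (x * x) ∉ Cfsg.Inn (Cfsg.POmega F ⇑Q)) :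
    ∃ φ : ↥R →* Multiplicative (ZMod 4), Function.Surjective φ ∧
      φ.ker = (Cfsg.Inn (Cfsg.POmega F ⇑Q)).subgroupOf R := by
  have heven : Even (Fintype.card ι) := by rw [hk]; exact even_two_mul k
  have hidx2 := (relIndex_Inn_psoAut Q h2 hQ h5 heven).1 hneg
  have hidx : ((Cfsg.Inn (Cfsg.POmega F ⇑Q)).comap (PhiD Q h2 hQ hne k hk)).index = 4 := by
    rw [index_comap_Inn Q h2 hQ hne k hk h5 hd, hidx2]
  obtain ⟨ψ, hψs, hψk⟩ := exists_hom_zmod_four _ hidx x hx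
  exact exists_hom_of_comap (PhiD Q h2 hQ hne k hk) R hR _ ψ hψs hψk

end Structure

end Cfsg.Agent.Helper8.InnDiagGen
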