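import Mathlib
import Cfsg.Agent.Helper8.InnDiagGenA

set_option autoImplicit false

/-! Producing an element of order four modulo `Inn` from a similarity with scalar square
(helper8). -/

namespace Cfsg.Agent.Helper8.InnDiagGen

open Module Cfsg Cfsg.Agent.Helper8.AutImage Cfsg.Agent.Helper8.InnDiagPlus
  Cfsg.Agent.Helper8.AutImageOrth Cfsg.Agent.Helper8.AutImageKer Cfsg.Agent.Helper8.AutImagePsi
  Cfsg.Agent.Helper8.AutImageIdx Cfsg.Agent.Helper8.AutImageD8
  Cfsg.Agent.Helper8.QuadForm Cfsg.Agent.Helper8.Reflections Cfsg.Agent.Helper8.ReflMatrix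
open scoped Matrix

section Main

variable {F : Type*} [Field F] [Fintype F] {ι : Type} [Fintype ι] [DecidableEq ι]
  (Q : QuadraticForm F (ι → F)) (h2 : (2 : F) ≠ 0)
  (hQ : (QuadraticMap.polarBilin Q).Nondegenerate) (hne : ∃ v, Q v ≠ 0) (k : ℕ)
  (hk : Fintype.card ι = 2 * k) (h5 : 5 ≤ Fintype.card ι)

include h5 in
/-- a similarity with nonsquare multiplier and determinant `μ^k` -/
theorem exists_d_of_nonsquare
    (hd : ∃ d : ↥(Geo.quadSimilarityGroup (F := F) ⇑Q), ¬ IsSquare ((mult ⇑Q hne d : Fˣ) : F)) :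
    ∃ d : ↥(Geo.quadSimilarityGroup (F := F) ⇑Q), d ∈ Dsub Q h2 hQ hne k hk ∧
      ¬ IsSquare ((mult ⇑Q hne d : Fˣ) : F) := by
  obtain ⟨d, hd⟩ := psi_surjective Q h2 hQ h5 hne k hk hd (-1, 1)
  rw [psi_apply, Prod.mk.injEq] at hd
  refine ⟨d, hd.2, ?_⟩
  intro hsq
  rw [← psi1_eq_one_iff Q hne d, hd.1] at hsq
  exact neg_one_ne_one_units hsq

/-- the reflection in `o` as a similarity -/
noncomputable def reflGO (o : ι → F) : ↥(Geo.quadSimilarityGroup (F := F) ⇑Q) :=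
  Subgroup.inclusion (isometry_le_similarity ⇑Q) (reflElt Q o)

omit [Fintype F] in
theorem reflGO_mul_self (o : ι → F) : reflGO Q o * reflGO Q o = 1 := by
  unfold reflGO
  rw [← map_mul, reflElt_mul_self, map_one]

include h2 hQ h5 in
/-- the commutator of a reflection and a similarity with nonsquare multiplier is not inner -/
theorem comm_not_mem_Inn
    (hneg : ∃ g : ↥(Cfsg.isometryGroup F ⇑Q), g ∈ Cfsg.Omega F ⇑Q ∧
      ((g : GL ι F) : Matrix ι ι F) = -1)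
    {o : ι → F} (ho : Q o ≠ 0) (d : ↥(Geo.quadSimilarityGroup (F := F) ⇑Q))
    (hdns : ¬ IsSquare ((mult ⇑Q hne d : Fˣ) : F)) :
    Phi ⇑Q (reflGO Q o * (d * reflGO Q o * d⁻¹)) ∉ Cfsg.Inn (Cfsg.POmega F ⇑Q) := by
  intro h2'
  have hw : reflGO Q o * (d * reflGO Q o * d⁻¹) = Subgroup.inclusion (isometry_le_similarity ⇑Q)
      (reflElt Q o * reflElt Q (((d : GL ι F) : Matrix ι ι F) *ᵥ o)) := by
    apply Subtype.ext
    show ((reflElt Q o : ↥(Cfsg.isometryGroup F ⇑Q)) : GL ι F)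
      * ((d : GL ι F) * ((reflElt Q o : ↥(Cfsg.isometryGroup F ⇑Q)) : GL ι F) * (d : GL ι F)⁻¹)
      = _
    rw [reflElt_conj_sim Q (d : GL ι F) (mult ⇑Q hne d) (mult_spec ⇑Q hne d) o]
    rfl
  rw [hw] at h2'
  have h3 := mem_Omega_of_PhiO_mem Q h2 hQ h5 hneg _ h2'
  have hl : ∀ z ∈ [o, ((d : GL ι F) : Matrix ι ι F) *ᵥ o], Q z ≠ 0 := by
    intro z hz
    simp only [List.mem_cons, List.not_mem_nil, or_false] at hz
    rcases hz with rfl | rfl
    · exact ho
    · rw [mult_spec ⇑Q hne d]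
      exact mul_ne_zero (Units.ne_zero _) ho
  have h4 := (Cfsg.Agent.Helper8.OmegaCrit.prod_reflElt_mem_iff Q h2 hQ (by omega)
    [o, ((d : GL ι F) : Matrix ι ι F) *ᵥ o] hl).mp (by
      rw [List.map_cons, List.map_cons, List.map_nil, List.prod_cons, List.prod_cons,
        List.prod_nil, mul_one]
      exact h3)
  obtain ⟨-, s, hs⟩ := h4
  rw [List.map_cons, List.map_cons, List.map_nil, List.prod_cons, List.prod_cons,
    List.prod_nil, mul_one, mult_spec ⇑Q hne d] at hs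
  apply hdns
  refine ⟨s / Q o, ?_⟩
  field_simp
  linear_combination hs

include h5 in
/-- **from a similarity with scalar square, nonsquare multiplier and determinant `-μ^k` one gets
an element of `Dsub` whose square is not inner** -/
theorem exists_sq_not_mem_Inn
    (hneg : ∃ g : ↥(Cfsg.isometryGroup F ⇑Q), g ∈ Cfsg.Omega F ⇑Q ∧
      ((g : GL ι F) : Matrix ι ι F) = -1)
    (x : ↥(Geo.quadSimilarityGroup (F := F) ⇑Q))
    (hxx : Phi ⇑Q (x * x) = 1) (hxD : x ∉ Dsub Q h2 hQ hne k hk)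
    (hxns : ¬ IsSquare ((mult ⇑Q hne x : Fˣ) : F)) :
    ∃ y : ↥(Dsub Q h2 hQ hne k hk),
      PhiD Q h2 hQ hne k hk (y * y) ∉ Cfsg.Inn (Cfsg.POmega F ⇑Q) := by
  obtain ⟨o, ho⟩ := hne
  have hne' : ∃ v, Q v ≠ 0 := ⟨o, ho⟩
  have hr2 : psi2 Q h2 hQ hne' k hk (reflGO Q o) = -1 := by
    rw [psi2_eq_neg_one_iff]
    have hrO : ((reflGO Q o : ↥(Geo.quadSimilarityGroup (F := F) ⇑Q)) : GL ι F)
        ∈ Cfsg.isometryGroup F ⇑Q := (reflElt Q o).2
    rw [mult_of_isometry ⇑Q hne' _ hrO, Units.val_one, one_pow]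
    show (((reflElt Q o : ↥(Cfsg.isometryGroup F ⇑Q)) : GL ι F) : Matrix ι ι F).det ≠ 1
    rw [reflElt_val, det_reflectionMatrix Q ho]
    intro h
    apply h2
    have : (2 : F) = 1 - (-1) := by norm_num
    rw [this, h, sub_self]
  have hx2 : psi2 Q h2 hQ hne' k hk x = -1 := by
    rcases Int.units_eq_one_or (psi2 Q h2 hQ hne' k hk x) with h | h
    · exact absurd h hxD
    · exact h
  have hyD : reflGO Q o * x ∈ Dsub Q h2 hQ hne' k hk := by
    unfold Dsub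
    rw [MonoidHom.mem_ker, map_mul, hr2, hx2]
    rfl
  refine ⟨⟨reflGO Q o * x, hyD⟩, ?_⟩
  rw [PhiD_apply]
  show Phi ⇑Q ((reflGO Q o * x) * (reflGO Q o * x)) ∉ _
  have hexp : (reflGO Q o * x) * (reflGO Q o * x)
      = (reflGO Q o * (x * reflGO Q o * x⁻¹)) * (x * x) := by group
  rw [hexp, map_mul, hxx, mul_one]
  exact comm_not_mem_Inn Q h2 hQ hne' h5 hneg ho x hxns

end Main

end Cfsg.Agent.Helper8.InnDiagGen
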