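import Mathlib
import Cfsg.Agent.Helper8.AutOzzf
import Cfsg.Agent.Helper8.OmegaCrit
import Cfsg.Agent.Helper8.InnDiagGenB

set_option autoImplicit false
set_option linter.unusedSectionVars false
set_option linter.style.haveILetI false

/-!
# Automorphisms of orthogonal groups, part Qj: similarities over a subfield of index two whose
multiplier is a square induce inner automorphisms over the big field (odd characteristic)
-/

namespace Cfsg.Agent.Helper8.AutO

open Module Matrix Cfsg.Agent.Helper8.QuadForm Cfsg.Agent.Helper8.WittQuad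
  Cfsg.Agent.Helper8.OrthOrder
  Cfsg.Agent.Helper8.Siegel Cfsg.Agent.Helper8.SiegelGeom Cfsg.Agent.Helper8.SiegelGroup
  Cfsg.Agent.Helper8.SiegelPrim Cfsg.Agent.Helper8.SiegelSimple Cfsg.Agent.Helper8.ReflMatrix
  Cfsg.Agent.Helper8.OmegaSimple Cfsg.Agent.Helper8.AutImagePsi Cfsg.Agent.Helper8.AutImageOrth
  Cfsg.Agent.Helper8.StdForms Cfsg.Agent.Helper8.AutImage Cfsg.Agent.Helper8.AutImageKer
  Cfsg.Agent.Helper8.AutImageIdx Cfsg.Agent.Helper8.Cls Cfsg.Agent.Helper8.Reflections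
open Cfsg.Agent.Helper8.AutSLn (gls nrmGL nrmF unitsAut fixField)

variable {F₀ : Type*} {F : Type*} [Field F₀] [Field F] [Fintype F₀] [Fintype F] (j : F₀ →+* F)
  {ι : Type} [Fintype ι] [DecidableEq ι]
  (Q₀ : QuadraticForm F₀ (ι → F₀)) (Q : QuadraticForm F (ι → F))
  (hj : ∀ v : ι → F₀, Q (hvec j v) = j (Q₀ v))
  (hQ₀ : (QuadraticMap.polarBilin Q₀).Nondegenerate)
  (hQ : (QuadraticMap.polarBilin Q).Nondegenerate)
  (hne₀ : ∃ v, Q₀ v ≠ 0) (hne : ∃ v, Q v ≠ 0) (k : ℕ) (hk : Fintype.card ι = 2 * k)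

omit [Fintype F₀] [Fintype F] in
include j in
theorem two_ne_zero_of_hom (h2 : (2 : F) ≠ 0) : (2 : F₀) ≠ 0 := by
  intro h
  apply h2
  have := congrArg j h
  rw [map_ofNat, map_zero] at this
  exact this

/-- in odd characteristic the class character is the sign `det g / μ(g)^k`. -/
theorem clsChar_eq_psi2 (h2 : (2 : F) ≠ 0) :
    clsChar Q hQ hne k hk = psi2 Q h2 hQ hne k hk := by
  unfold clsChar
  rw [dif_neg h2]

include hQ in
/-- **a similarity over the subfield with square multiplier and `det = μ^k` induces an inner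
automorphism over the big field**, if all elements of the subfield are squares in the big
field. -/
theorem Phi_simMap_mem_Inn (h2 : (2 : F) ≠ 0) (h5 : 5 ≤ Fintype.card ι)
    (hsq : ∀ c : F₀, IsSquare (j c))
    (g₀ : ↥(Cfsg.Geo.quadSimilarityGroup (F := F₀) ⇑Q₀))
    (hcp : clsChar Q₀ hQ₀ hne₀ k hk g₀ = 1)
    (hmsq : IsSquare ((mult ⇑Q₀ hne₀ g₀ : F₀ˣ) : F₀)) :
    Phi ⇑Q (simMap j Q₀ Q hj g₀) ∈ Cfsg.Inn (Cfsg.POmega F ⇑Q) := by
  classical
  have h2₀ : (2 : F₀) ≠ 0 := two_ne_zero_of_hom j h2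
  have hker : g₀ ∈ (psi Q₀ h2₀ hQ₀ hne₀ k hk).ker := by
    rw [MonoidHom.mem_ker, psi_eq_one_iff]
    refine ⟨hmsq, ?_⟩
    rw [clsChar_eq_psi2 Q₀ hQ₀ hne₀ k hk h2₀, psi2_eq_one_iff] at hcp
    exact hcp
  rw [psi_ker_eq Q₀ h2₀ hQ₀ h5 hne₀ k hk] at hker
  have hS : ((Cfsg.specialIsometryGL F₀ ⇑Q₀).subgroupOf
      (Cfsg.Geo.quadSimilarityGroup (F := F₀) ⇑Q₀)) ⊔ (Phi ⇑Q₀).ker ≤
      ((Cfsg.Inn (Cfsg.POmega F ⇑Q)).comap (Phi ⇑Q)).comap (simMap j Q₀ Q hj) := by
    apply sup_le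
    · intro g hg
      rw [Subgroup.mem_subgroupOf] at hg
      obtain ⟨hiso, hdet⟩ := hg
      show Phi ⇑Q (simMap j Q₀ Q hj g) ∈ Cfsg.Inn (Cfsg.POmega F ⇑Q)
      obtain ⟨l, hl, hgl⟩ := exists_list_reflElt Q₀ h2₀ hQ₀ ⟨(g : GL ι F₀), hiso⟩
      have hlen : Even l.length := by
        have h1 := det_prod_reflElt Q₀ l hl
        rw [← hgl] at h1
        have h3 : ((g : GL ι F₀) : Matrix ι ι F₀).det = 1 := congrArg Units.val hdet
        by_contra hodd
        rw [Nat.not_even_iff_odd] at hodd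
        rw [hodd.neg_one_pow] at h1
        apply h2₀
        have h4 : ((g : GL ι F₀) : Matrix ι ι F₀).det = -1 := h1
        rw [h3] at h4
        linear_combination h4
      have hl' : ∀ z ∈ l.map (hvec j), Q z ≠ 0 := by
        intro z hz
        rw [List.mem_map] at hz
        obtain ⟨w, hw, rfl⟩ := hz
        rw [hj]
        exact (map_ne_zero_iff j j.injective).mpr (hl w hw)
      have himg : isoMap j Q₀ Q hj ⟨(g : GL ι F₀), hiso⟩
          = ((l.map (hvec j)).map (reflElt Q)).prod := by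
        rw [hgl, map_list_prod, List.map_map, List.map_map]
        congr 1
        apply List.map_congr_left
        intro z _
        exact isoMap_reflElt j Q₀ Q hj z
      have hmem : isoMap j Q₀ Q hj ⟨(g : GL ι F₀), hiso⟩ ∈ Cfsg.Omega F ⇑Q := by
        rw [himg, Cfsg.Agent.Helper8.OmegaCrit.prod_reflElt_mem_iff Q h2 hQ (by omega)
          (l.map (hvec j)) hl']
        refine ⟨by rw [List.length_map]; exact hlen, ?_⟩
        rw [List.map_map]
        have e : l.map ((fun v => Q v) ∘ hvec j) = (l.map (fun v => Q₀ v)).map j := by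
          rw [List.map_map]
          apply List.map_congr_left
          intro z _
          exact hj z
        rw [e, ← map_list_prod j]
        exact hsq _
      rw [Inn_eq']
      refine ⟨isoMap j Q₀ Q hj ⟨(g : GL ι F₀), hiso⟩, hmem, ?_⟩
      show Phi ⇑Q (Subgroup.inclusion (isometry_le_similarity ⇑Q)
        (isoMap j Q₀ Q hj ⟨(g : GL ι F₀), hiso⟩)) = Phi ⇑Q (simMap j Q₀ Q hj g)
      congr 1
    · intro g hg
      rw [MonoidHom.mem_ker, Phi_eq_one_iff Q₀ h2₀ hQ₀ h5] at hg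
      obtain ⟨c, hc⟩ := hg
      show Phi ⇑Q (simMap j Q₀ Q hj g) ∈ Cfsg.Inn (Cfsg.POmega F ⇑Q)
      have h1 : Phi ⇑Q (simMap j Q₀ Q hj g) = 1 := by
        rw [Phi_eq_one_iff Q h2 hQ h5]
        refine ⟨j c, ?_⟩
        rw [coe_simMap]
        show ((g : GL ι F₀) : Matrix ι ι F₀).map j = _
        rw [hc]
        ext a b
        simp [Matrix.one_apply, Matrix.map_apply]
        split_ifs <;> simp
      rw [h1]
      exact Subgroup.one_mem _
  exact hS hker

end Cfsg.Agent.Helper8.AutO
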