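import Mathlib
import Cfsg.Agent.Helper8.AutOQj

set_option autoImplicit false
set_option linter.unusedSectionVars false
set_option linter.style.haveILetI false

/-!
# Automorphisms of orthogonal groups, part Qk: the index of `Inn ⊔ (image of the class-preserving
similarities over a subfield of index two)` in the inner-diagonal group (odd characteristic)
-/

namespace Cfsg.Agent.Helper8.AutO

open Module Matrix Cfsg.Agent.Helper8.QuadForm Cfsg.Agent.Helper8.WittQuad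
  Cfsg.Agent.Helper8.OrthOrder
  Cfsg.Agent.Helper8.Siegel Cfsg.Agent.Helper8.SiegelGeom Cfsg.Agent.Helper8.SiegelGroup
  Cfsg.Agent.Helper8.SiegelPrim Cfsg.Agent.Helper8.SiegelSimple Cfsg.Agent.Helper8.ReflMatrix
  Cfsg.Agent.Helper8.OmegaSimple Cfsg.Agent.Helper8.AutImagePsi Cfsg.Agent.Helper8.AutImageOrth
  Cfsg.Agent.Helper8.StdForms Cfsg.Agent.Helper8.AutImage Cfsg.Agent.Helper8.AutImageKer
  Cfsg.Agent.Helper8.AutImageIdx Cfsg.Agent.Helper8.Cls Cfsg.Agent.Helper8.Reflections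
  Cfsg.Agent.Helper8.InnDiagGen
open Cfsg.Agent.Helper8.AutSLn (gls nrmGL nrmF unitsAut fixField)

variable {F₀ : Type*} {F : Type*} [Field F₀] [Field F] [Fintype F₀] [Fintype F] (j : F₀ →+* F)
  {ι : Type} [Fintype ι] [DecidableEq ι]
  (Q₀ : QuadraticForm F₀ (ι → F₀)) (Q : QuadraticForm F (ι → F))
  (hj : ∀ v : ι → F₀, Q (hvec j v) = j (Q₀ v))
  (hQ₀ : (QuadraticMap.polarBilin Q₀).Nondegenerate)
  (hQ : (QuadraticMap.polarBilin Q).Nondegenerate)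
  (hne₀ : ∃ v, Q₀ v ≠ 0) (hne : ∃ v, Q v ≠ 0) (k : ℕ) (hk : Fintype.card ι = 2 * k)

/-- in odd characteristic the image of the class-preserving similarities is the image of the
similarities with `det = μ^k`. -/
theorem cpAut_eq_range_PhiD (h2 : (2 : F) ≠ 0) :
    cpAut Q hQ hne k hk = (PhiD Q h2 hQ hne k hk).range := by
  unfold cpAut PhiD
  rw [MonoidHom.range_comp, Subgroup.range_subtype, clsChar_eq_psi2 Q hQ hne k hk h2]
  rfl

set_option maxHeartbeats 1600000 in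
/-- **the index of `Inn ⊔ R` in the inner-diagonal group**, `R` the image of the class-preserving
similarities over a subfield all of whose elements are squares in the big field. -/
theorem relIndex_sup_range_subHomCP_odd (h2 : (2 : F) ≠ 0) (h5 : 5 ≤ Fintype.card ι)
    (hsq : ∀ c : F₀, IsSquare (j c))
    (hneg : ∃ g : ↥(Cfsg.isometryGroup F ⇑Q), g ∈ Cfsg.Omega F ⇑Q ∧
      ((g : GL ι F) : Matrix ι ι F) = -1)
    (hd : ∃ d : ↥(Cfsg.Geo.quadSimilarityGroup (F := F) ⇑Q),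
      ¬ IsSquare ((mult ⇑Q hne d : Fˣ) : F))
    (d₀ : ↥(Cfsg.Geo.quadSimilarityGroup (F := F₀) ⇑Q₀))
    (hd₀cp : clsChar Q₀ hQ₀ hne₀ k hk d₀ = 1)
    (hd₀ns : ¬ IsSquare ((mult ⇑Q₀ hne₀ d₀ : F₀ˣ) : F₀)) :
    (Phi ⇑Q (simMap j Q₀ Q hj d₀) ∈ Cfsg.Inn (Cfsg.POmega F ⇑Q) →
      (Cfsg.Inn (Cfsg.POmega F ⇑Q) ⊔ (subHomCP j Q₀ Q hj hQ₀ hne₀ k hk).range).relIndex
        (cpAut Q hQ hne k hk) = 4) ∧
    (Phi ⇑Q (simMap j Q₀ Q hj d₀) ∉ Cfsg.Inn (Cfsg.POmega F ⇑Q) →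
      (Cfsg.Inn (Cfsg.POmega F ⇑Q) ⊔ (subHomCP j Q₀ Q hj hQ₀ hne₀ k hk).range).relIndex
        (cpAut Q hQ hne k hk) = 2) := by
  classical
  have heven : Even (Fintype.card ι) := by rw [hk]; exact even_two_mul k
  have hG := cpAut_eq_range_PhiD Q hQ hne k hk h2
  have hd' := exists_d_of_nonsquare Q h2 hQ hne k hk h5 hd
  have hPG : (Cfsg.psoAut F ⇑Q).relIndex (cpAut Q hQ hne k hk) = 2 := by
    rw [hG, MonoidHom.range_eq_map, ← Subgroup.relIndex_comap, comap_pso_eq Q h2 hQ hne k hk h5,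
      Subgroup.relIndex_top_right, index_ker_psi1D Q h2 hQ hne k hk hd']
  have hIP : (Cfsg.Inn (Cfsg.POmega F ⇑Q)).relIndex (Cfsg.psoAut F ⇑Q) = 2 :=
    (relIndex_Inn_psoAut Q h2 hQ h5 heven).1 hneg
  have hInnP : Cfsg.Inn (Cfsg.POmega F ⇑Q) ≤ Cfsg.psoAut F ⇑Q := Inn_le_pso Q
  have hPleG : Cfsg.psoAut F ⇑Q ≤ cpAut Q hQ hne k hk := by
    rw [hG, ← map_ker_psi1D Q h2 hQ hne k hk h5, MonoidHom.range_eq_map]
    exact Subgroup.map_mono le_top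
  have hRP : (subHomCP j Q₀ Q hj hQ₀ hne₀ k hk).range ≤ Cfsg.psoAut F ⇑Q := by
    rintro _ ⟨g, rfl⟩
    rw [subHomCP_apply, ← map_ker_psi1D Q h2 hQ hne k hk h5]
    have hgcp : clsChar Q₀ hQ₀ hne₀ k hk g.1 = 1 := g.2
    have hmemD : simMap j Q₀ Q hj g.1 ∈ Dsub Q h2 hQ hne k hk := by
      unfold Dsub
      rw [MonoidHom.mem_ker, ← clsChar_eq_psi2 Q hQ hne k hk h2,
        clsChar_simMap j Q₀ Q hj hQ₀ hQ hne₀ hne k hk, hgcp]
    refine ⟨⟨simMap j Q₀ Q hj g.1, hmemD⟩, ?_, rfl⟩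
    rw [SetLike.mem_coe, MonoidHom.mem_ker, psi1D_apply, psi1_eq_one_iff,
      mult_simMap j Q₀ Q hj hne₀ hne]
    exact hsq _
  have hsupP : Cfsg.Inn (Cfsg.POmega F ⇑Q) ⊔ (subHomCP j Q₀ Q hj hQ₀ hne₀ k hk).range
      ≤ Cfsg.psoAut F ⇑Q := sup_le hInnP hRP
  constructor
  · intro hIn
    have hRI : (subHomCP j Q₀ Q hj hQ₀ hne₀ k hk).range ≤ Cfsg.Inn (Cfsg.POmega F ⇑Q) := by
      rintro _ ⟨g, rfl⟩
      rw [subHomCP_apply]
      have hgcp : clsChar Q₀ hQ₀ hne₀ k hk g.1 = 1 := g.2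
      by_cases hs : IsSquare ((mult ⇑Q₀ hne₀ g.1 : F₀ˣ) : F₀)
      · exact Phi_simMap_mem_Inn j Q₀ Q hj hQ₀ hQ hne₀ k hk h2 h5 hsq g.1 hgcp hs
      · have e : g.1 = (g.1 * d₀⁻¹) * d₀ := by group
        rw [e, map_mul, map_mul]
        refine Subgroup.mul_mem _ ?_ hIn
        apply Phi_simMap_mem_Inn j Q₀ Q hj hQ₀ hQ hne₀ k hk h2 h5 hsq
        · rw [map_mul, map_inv, hgcp, hd₀cp]
          rfl
        · rw [map_mul, map_inv, Units.val_mul]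
          apply Cfsg.Agent.Helper8.OmegaOdd.isSquare_mul_of_not (Units.ne_zero _) hs
          intro hsq'
          apply hd₀ns
          obtain ⟨t, ht⟩ := hsq'
          refine ⟨t⁻¹, ?_⟩
          rw [Units.val_inv_eq_inv_val] at ht
          rw [← mul_inv, ← ht, inv_inv]
    rw [sup_eq_left.mpr hRI, ← Subgroup.relIndex_mul_relIndex _ _ _ hInnP hPleG, hIP, hPG]
  · intro hOut
    have hmemR : Phi ⇑Q (simMap j Q₀ Q hj d₀) ∈ (subHomCP j Q₀ Q hj hQ₀ hne₀ k hk).range :=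
      ⟨⟨d₀, hd₀cp⟩, rfl⟩
    have h1 := Subgroup.relIndex_mul_relIndex (Cfsg.Inn (Cfsg.POmega F ⇑Q))
      (Cfsg.Inn (Cfsg.POmega F ⇑Q) ⊔ (subHomCP j Q₀ Q hj hQ₀ hne₀ k hk).range)
      (Cfsg.psoAut F ⇑Q) le_sup_left hsupP
    rw [hIP] at h1
    have h3 : (Cfsg.Inn (Cfsg.POmega F ⇑Q)).relIndex
        (Cfsg.Inn (Cfsg.POmega F ⇑Q) ⊔ (subHomCP j Q₀ Q hj hQ₀ hne₀ k hk).range) ≠ 1 := by
      rw [Ne, Subgroup.relIndex_eq_one]
      intro hle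
      exact hOut (hle (Subgroup.mem_sup_right hmemR))
    have h4 : (Cfsg.Inn (Cfsg.POmega F ⇑Q)).relIndex
        (Cfsg.Inn (Cfsg.POmega F ⇑Q) ⊔ (subHomCP j Q₀ Q hj hQ₀ hne₀ k hk).range) ∣ 2 :=
      Dvd.intro _ h1
    have h5' : (Cfsg.Inn (Cfsg.POmega F ⇑Q)).relIndex
        (Cfsg.Inn (Cfsg.POmega F ⇑Q) ⊔ (subHomCP j Q₀ Q hj hQ₀ hne₀ k hk).range) = 2 := by
      rcases (Nat.dvd_prime Nat.prime_two).mp h4 with h | h
      · exact absurd h h3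
      · exact h
    rw [h5'] at h1
    have h6 : (Cfsg.Inn (Cfsg.POmega F ⇑Q) ⊔ (subHomCP j Q₀ Q hj hQ₀ hne₀ k hk).range).relIndex
        (Cfsg.psoAut F ⇑Q) = 1 := by omega
    rw [← Subgroup.relIndex_mul_relIndex _ _ _ hsupP hPleG, h6, hPG]

end Cfsg.Agent.Helper8.AutO
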