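import Mathlib
import Cfsg.Agent.Helper8.InnDiagPlusC
import Cfsg.Agent.Helper8.InnDiagPlusD
import Cfsg.Agent.Helper8.AutImageD8
import Cfsg.Agent.S2722

set_option autoImplicit false

/-! The inner-diagonal group of `PΩ⁺` as the image of the similarities with `det g = μ(g)^m`
(helper8). -/

namespace Cfsg.Agent.Helper8.InnDiagPlus

open Module Cfsg Cfsg.Agent.Helper8.StdForms Cfsg.Agent.Helper8.AutImage
  Cfsg.Agent.Helper8.AutImageOrth Cfsg.Agent.Helper8.AutImageKer Cfsg.Agent.Helper8.AutImagePsi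
  Cfsg.Agent.Helper8.AutImageIdx Cfsg.Agent.Helper8.AutImageD8
open scoped Matrix

section Setup

variable (F : Type*) [Field F] (m : ℕ)

theorem card_idx : Fintype.card (Fin m ⊕ Fin m) = 2 * m := by
  rw [Fintype.card_sum, Fintype.card_fin]; ring

/-- the inner-diagonal group, written with `plusForm` -/
noncomputable def inndiagP : Subgroup (MulAut (POmega F ⇑(plusForm F m))) :=
  autSubgroupOf fun β => ∃ g : GL (Fin m ⊕ Fin m) F,
    g ∈ Geo.quadSimilarityGroup (F := F) ⇑(plusForm F m) ∧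
    PreservesSingularClasses ⇑(plusForm F m) (g : Matrix (Fin m ⊕ Fin m) (Fin m ⊕ Fin m) F) ∧
    IsInducedBySemilinearPOmega ⇑(plusForm F m) g (RingEquiv.refl F) β

variable {F m}
variable (h2 : (2 : F) ≠ 0) (hne : ∃ v, plusForm F m v ≠ 0)

/-- the similarities with `det g = μ(g)^m` -/
noncomputable def Dsub : Subgroup ↥(Geo.quadSimilarityGroup (F := F) ⇑(plusForm F m)) :=
  (psi2 (plusForm F m) h2 (plusForm_nondeg F m) hne m (card_idx m)).ker

theorem mem_Dsub_iff (g : ↥(Geo.quadSimilarityGroup (F := F) ⇑(plusForm F m))) :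
    g ∈ Dsub h2 hne ↔ ((g : GL (Fin m ⊕ Fin m) F) : Matrix (Fin m ⊕ Fin m) (Fin m ⊕ Fin m) F).det
      = ((mult ⇑(plusForm F m) hne g : Fˣ) : F) ^ m := by
  unfold Dsub
  rw [MonoidHom.mem_ker, psi2_eq_one_iff]

theorem preserves_iff_mem [Fintype F] (hm : 1 ≤ m)
    (g : ↥(Geo.quadSimilarityGroup (F := F) ⇑(plusForm F m))) :
    PreservesSingularClasses ⇑(plusForm F m)
      ((g : GL (Fin m ⊕ Fin m) F) : Matrix (Fin m ⊕ Fin m) (Fin m ⊕ Fin m) F) ↔ g ∈ Dsub h2 hne := by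
  rw [mem_Dsub_iff, preserves_iff_det h2 hm (mult_spec ⇑(plusForm F m) hne g)]

/-- the action of `Dsub` on `PΩ` -/
noncomputable def PhiD : ↥(Dsub h2 hne) →* MulAut (POmega F ⇑(plusForm F m)) :=
  (Phi ⇑(plusForm F m)).comp (Dsub h2 hne).subtype

theorem PhiD_apply (g : ↥(Dsub h2 hne)) : PhiD h2 hne g = Phi ⇑(plusForm F m) g.1 := rfl

theorem inndiagP_eq [Fintype F] (hm : 1 ≤ m) : inndiagP F m = (PhiD h2 hne).range := by
  unfold inndiagP autSubgroupOf
  have hset : {β : MulAut (POmega F ⇑(plusForm F m)) | ∃ g : GL (Fin m ⊕ Fin m) F,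
      g ∈ Geo.quadSimilarityGroup (F := F) ⇑(plusForm F m) ∧
      PreservesSingularClasses ⇑(plusForm F m) (g : Matrix (Fin m ⊕ Fin m) (Fin m ⊕ Fin m) F) ∧
      IsInducedBySemilinearPOmega ⇑(plusForm F m) g (RingEquiv.refl F) β}
      = (((PhiD h2 hne).range : Subgroup (MulAut (POmega F ⇑(plusForm F m)))) :
        Set (MulAut (POmega F ⇑(plusForm F m)))) := by
    ext β
    constructor
    · rintro ⟨g, hg, hpres, hind⟩
      rw [induced_iff ⇑(plusForm F m) hg] at hind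
      exact ⟨⟨⟨g, hg⟩, (preserves_iff_mem h2 hne hm ⟨g, hg⟩).mp hpres⟩, hind.symm⟩
    · rintro ⟨g, rfl⟩
      exact ⟨g.1.1, g.1.2, (preserves_iff_mem h2 hne hm g.1).mpr g.2,
        (induced_iff ⇑(plusForm F m) g.1.2 _).mpr rfl⟩
  rw [hset, Subgroup.closure_eq]

end Setup

end Cfsg.Agent.Helper8.InnDiagPlus
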