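import Mathlib
import Cfsg.Agent.Helper8.OmegaEven

set_option autoImplicit false

/-!
Orthogonal direct sums of quadratic forms on coordinate spaces, block-diagonal isometries and the
compatibility of the sign characters / Dickson invariant with the block embedding (helper8).
-/

namespace Cfsg.Agent.Helper8.DirectSum

open Module Cfsg.Agent.Helper8.QuadForm Cfsg.Agent.Helper8.OrthOrder
  Cfsg.Agent.Helper8.Reflections Cfsg.Agent.Helper8.ReflMatrix Cfsg.Agent.Helper8.OmegaOdd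
  Cfsg.Agent.Helper8.OmegaEven

variable {F : Type*} [Field F] {ι₁ ι₂ : Type} [Fintype ι₁] [DecidableEq ι₁] [Fintype ι₂]
  [DecidableEq ι₂] (Q₁ : QuadraticForm F (ι₁ → F)) (Q₂ : QuadraticForm F (ι₂ → F))

/-- the orthogonal direct sum as a quadratic form on `F^(ι₁ ⊕ ι₂)`. -/
noncomputable def sumForm : QuadraticForm F (ι₁ ⊕ ι₂ → F) :=
  Q₁.comp (LinearMap.funLeft F F Sum.inl) + Q₂.comp (LinearMap.funLeft F F Sum.inr)

theorem sumForm_apply (v : ι₁ ⊕ ι₂ → F) :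
    sumForm Q₁ Q₂ v = Q₁ (v ∘ Sum.inl) + Q₂ (v ∘ Sum.inr) := rfl

theorem coe_sumForm :
    ⇑(sumForm Q₁ Q₂) = fun v : ι₁ ⊕ ι₂ → F => Q₁ (v ∘ Sum.inl) + Q₂ (v ∘ Sum.inr) := rfl

theorem polar_sumForm (u v : ι₁ ⊕ ι₂ → F) :
    QuadraticMap.polar (sumForm Q₁ Q₂) u v =
      QuadraticMap.polar Q₁ (u ∘ Sum.inl) (v ∘ Sum.inl)
        + QuadraticMap.polar Q₂ (u ∘ Sum.inr) (v ∘ Sum.inr) := by
  simp only [QuadraticMap.polar, sumForm_apply]
  have e1 : (u + v) ∘ Sum.inl = u ∘ (Sum.inl : ι₁ → ι₁ ⊕ ι₂) + v ∘ Sum.inl := rfl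
  have e2 : (u + v) ∘ Sum.inr = u ∘ (Sum.inr : ι₂ → ι₁ ⊕ ι₂) + v ∘ Sum.inr := rfl
  rw [e1, e2]
  ring

/-- the embedding of the first summand. -/
def inlVec (z : ι₁ → F) : ι₁ ⊕ ι₂ → F := Sum.elim z 0

/-- the embedding of the second summand. -/
def inrVec (z : ι₂ → F) : ι₁ ⊕ ι₂ → F := Sum.elim 0 z

omit [Fintype ι₁] [DecidableEq ι₁] [Fintype ι₂] [DecidableEq ι₂] in
theorem inlVec_comp_inl (z : ι₁ → F) : (inlVec z : ι₁ ⊕ ι₂ → F) ∘ Sum.inl = z := rfl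

omit [Fintype ι₁] [DecidableEq ι₁] [Fintype ι₂] [DecidableEq ι₂] in
theorem inlVec_comp_inr (z : ι₁ → F) : (inlVec z : ι₁ ⊕ ι₂ → F) ∘ Sum.inr = 0 := rfl

omit [Fintype ι₁] [DecidableEq ι₁] [Fintype ι₂] [DecidableEq ι₂] in
theorem inrVec_comp_inl (z : ι₂ → F) : (inrVec z : ι₁ ⊕ ι₂ → F) ∘ Sum.inl = 0 := rfl

omit [Fintype ι₁] [DecidableEq ι₁] [Fintype ι₂] [DecidableEq ι₂] in
theorem inrVec_comp_inr (z : ι₂ → F) : (inrVec z : ι₁ ⊕ ι₂ → F) ∘ Sum.inr = z := rfl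

theorem sumForm_inlVec (z : ι₁ → F) : sumForm Q₁ Q₂ (inlVec z) = Q₁ z := by
  rw [sumForm_apply, inlVec_comp_inl, inlVec_comp_inr, map_zero, add_zero]

theorem sumForm_inrVec (z : ι₂ → F) : sumForm Q₁ Q₂ (inrVec z) = Q₂ z := by
  rw [sumForm_apply, inrVec_comp_inl, inrVec_comp_inr, map_zero, zero_add]

theorem sumForm_nondeg (h₁ : (QuadraticMap.polarBilin Q₁).Nondegenerate)
    (h₂ : (QuadraticMap.polarBilin Q₂).Nondegenerate) :
    (QuadraticMap.polarBilin (sumForm Q₁ Q₂)).Nondegenerate := by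
  have hn1 := (nondeg_iff Q₁).mp h₁
  have hn2 := (nondeg_iff Q₂).mp h₂
  apply (nondeg_iff _).mpr
  intro v hv
  have hv1 : v ∘ Sum.inl = 0 := by
    apply hn1
    intro w
    have := hv (inlVec w)
    rw [polar_sumForm, inlVec_comp_inl, inlVec_comp_inr, QuadraticMap.polar_zero_right,
      add_zero] at this
    exact this
  have hv2 : v ∘ Sum.inr = 0 := by
    apply hn2
    intro w
    have := hv (inrVec w)
    rw [polar_sumForm, inrVec_comp_inl, inrVec_comp_inr, QuadraticMap.polar_zero_right,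
      zero_add] at this
    exact this
  funext k
  rcases k with k | k
  · exact congrFun hv1 k
  · exact congrFun hv2 k

/-! ### block-diagonal invertible matrices -/

/-- the block-diagonal element of `GL`. -/
def blockGL (A : GL ι₁ F) (B : GL ι₂ F) : GL (ι₁ ⊕ ι₂) F :=
  ⟨Matrix.fromBlocks (A : Matrix ι₁ ι₁ F) 0 0 (B : Matrix ι₂ ι₂ F),
    Matrix.fromBlocks ((A⁻¹ : GL ι₁ F) : Matrix ι₁ ι₁ F) 0 0 ((B⁻¹ : GL ι₂ F) : Matrix ι₂ ι₂ F),
    by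
      rw [Matrix.fromBlocks_multiply]
      simp only [Matrix.mul_zero, Matrix.zero_mul, add_zero, zero_add]
      rw [Units.mul_inv, Units.mul_inv, Matrix.fromBlocks_one],
    by
      rw [Matrix.fromBlocks_multiply]
      simp only [Matrix.mul_zero, Matrix.zero_mul, add_zero, zero_add]
      rw [Units.inv_mul, Units.inv_mul, Matrix.fromBlocks_one]⟩

theorem blockGL_val (A : GL ι₁ F) (B : GL ι₂ F) :
    ((blockGL A B : GL (ι₁ ⊕ ι₂) F) : Matrix (ι₁ ⊕ ι₂) (ι₁ ⊕ ι₂) F)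
      = Matrix.fromBlocks (A : Matrix ι₁ ι₁ F) 0 0 (B : Matrix ι₂ ι₂ F) := rfl

theorem blockGL_mul (A A' : GL ι₁ F) (B B' : GL ι₂ F) :
    blockGL (A * A') (B * B') = blockGL A B * blockGL A' B' := by
  apply Units.ext
  rw [Units.val_mul, blockGL_val, blockGL_val, blockGL_val, Matrix.fromBlocks_multiply]
  simp

theorem blockGL_one : blockGL (1 : GL ι₁ F) (1 : GL ι₂ F) = 1 := by
  apply Units.ext
  rw [blockGL_val]
  simp

theorem fromBlocks_diag_mulVec (A : Matrix ι₁ ι₁ F) (B : Matrix ι₂ ι₂ F) (v : ι₁ ⊕ ι₂ → F) :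
    (Matrix.fromBlocks A 0 0 B).mulVec v
      = Sum.elim (A.mulVec (v ∘ Sum.inl)) (B.mulVec (v ∘ Sum.inr)) := by
  rw [Matrix.fromBlocks_mulVec]
  simp

theorem blockGL_mem {A : GL ι₁ F} {B : GL ι₂ F} (hA : A ∈ Cfsg.isometryGroup F ⇑Q₁)
    (hB : B ∈ Cfsg.isometryGroup F ⇑Q₂) :
    blockGL A B ∈ Cfsg.isometryGroup F ⇑(sumForm Q₁ Q₂) := by
  rw [mem_isometryGroup_iff] at hA hB ⊢
  intro v
  rw [glEquiv_apply, blockGL_val, fromBlocks_diag_mulVec, sumForm_apply, sumForm_apply]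
  have h1 := hA (v ∘ Sum.inl)
  have h2 := hB (v ∘ Sum.inr)
  rw [glEquiv_apply] at h1 h2
  show Q₁ ((A : Matrix ι₁ ι₁ F).mulVec (v ∘ Sum.inl)) + Q₂ ((B : Matrix ι₂ ι₂ F).mulVec (v ∘ Sum.inr))
    = _
  rw [h1, h2]

/-- the block-diagonal embedding of the product of the isometry groups. -/
noncomputable def blockHom : ↥(Cfsg.isometryGroup F ⇑Q₁) × ↥(Cfsg.isometryGroup F ⇑Q₂) →*
    ↥(Cfsg.isometryGroup F ⇑(sumForm Q₁ Q₂)) where
  toFun p := ⟨blockGL p.1.1 p.2.1, blockGL_mem Q₁ Q₂ p.1.2 p.2.2⟩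
  map_one' := Subtype.ext blockGL_one
  map_mul' p q := Subtype.ext (blockGL_mul p.1.1 q.1.1 p.2.1 q.2.1)

theorem blockHom_val (p : ↥(Cfsg.isometryGroup F ⇑Q₁) × ↥(Cfsg.isometryGroup F ⇑Q₂)) :
    (((blockHom Q₁ Q₂ p : ↥(Cfsg.isometryGroup F ⇑(sumForm Q₁ Q₂))) : GL (ι₁ ⊕ ι₂) F) :
      Matrix (ι₁ ⊕ ι₂) (ι₁ ⊕ ι₂) F)
      = Matrix.fromBlocks ((p.1 : GL ι₁ F) : Matrix ι₁ ι₁ F) 0 0 ((p.2 : GL ι₂ F) : Matrix ι₂ ι₂ F) :=
  rfl

/-- the embedding of the first factor. -/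
noncomputable def inlHom : ↥(Cfsg.isometryGroup F ⇑Q₁) →*
    ↥(Cfsg.isometryGroup F ⇑(sumForm Q₁ Q₂)) :=
  (blockHom Q₁ Q₂).comp (MonoidHom.inl _ _)

/-- the embedding of the second factor. -/
noncomputable def inrHom : ↥(Cfsg.isometryGroup F ⇑Q₂) →*
    ↥(Cfsg.isometryGroup F ⇑(sumForm Q₁ Q₂)) :=
  (blockHom Q₁ Q₂).comp (MonoidHom.inr _ _)

theorem inlHom_val (g : ↥(Cfsg.isometryGroup F ⇑Q₁)) :
    (((inlHom Q₁ Q₂ g : ↥(Cfsg.isometryGroup F ⇑(sumForm Q₁ Q₂))) : GL (ι₁ ⊕ ι₂) F) :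
      Matrix (ι₁ ⊕ ι₂) (ι₁ ⊕ ι₂) F)
      = Matrix.fromBlocks ((g : GL ι₁ F) : Matrix ι₁ ι₁ F) 0 0 1 := rfl

theorem inrHom_val (g : ↥(Cfsg.isometryGroup F ⇑Q₂)) :
    (((inrHom Q₁ Q₂ g : ↥(Cfsg.isometryGroup F ⇑(sumForm Q₁ Q₂))) : GL (ι₁ ⊕ ι₂) F) :
      Matrix (ι₁ ⊕ ι₂) (ι₁ ⊕ ι₂) F)
      = Matrix.fromBlocks 1 0 0 ((g : GL ι₂ F) : Matrix ι₂ ι₂ F) := rfl

/-! ### reflections in vectors of a summand -/

theorem reflectionMatrix_inlVec (z : ι₁ → F) :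
    Cfsg.reflectionMatrix ⇑(sumForm Q₁ Q₂) (inlVec z)
      = Matrix.fromBlocks (Cfsg.reflectionMatrix ⇑Q₁ z) 0 0 1 := by
  apply matrix_ext
  intro x
  rw [reflectionMatrix_mulVec, fromBlocks_diag_mulVec, reflectionMatrix_mulVec, refl_apply,
    refl_apply, polar_sumForm, inlVec_comp_inl, inlVec_comp_inr, QuadraticMap.polar_zero_left,
    add_zero, sumForm_inlVec, Matrix.one_mulVec]
  funext k
  rcases k with k | k
  · simp [inlVec]
  · simp [inlVec]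

theorem reflectionMatrix_inrVec (z : ι₂ → F) :
    Cfsg.reflectionMatrix ⇑(sumForm Q₁ Q₂) (inrVec z)
      = Matrix.fromBlocks 1 0 0 (Cfsg.reflectionMatrix ⇑Q₂ z) := by
  apply matrix_ext
  intro x
  rw [reflectionMatrix_mulVec, fromBlocks_diag_mulVec, reflectionMatrix_mulVec, refl_apply,
    refl_apply, polar_sumForm, inrVec_comp_inl, inrVec_comp_inr, QuadraticMap.polar_zero_left,
    zero_add, sumForm_inrVec, Matrix.one_mulVec]
  funext k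
  rcases k with k | k
  · simp [inrVec]
  · simp [inrVec]

theorem inlHom_reflElt (z : ι₁ → F) :
    inlHom Q₁ Q₂ (reflElt Q₁ z) = reflElt (sumForm Q₁ Q₂) (inlVec z) := by
  apply eq_reflElt
  rw [inlHom_val, reflElt_val, reflectionMatrix_inlVec]

theorem inrHom_reflElt (z : ι₂ → F) :
    inrHom Q₁ Q₂ (reflElt Q₂ z) = reflElt (sumForm Q₁ Q₂) (inrVec z) := by
  apply eq_reflElt
  rw [inrHom_val, reflElt_val, reflectionMatrix_inrVec]

/-! ### compatibility of the characters -/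

theorem chi_inlHom [Fintype F] (h2 : (2 : F) ≠ 0)
    (h₁ : (QuadraticMap.polarBilin Q₁).Nondegenerate) {c : F} (hc : c ≠ 0) :
    (chi (sumForm Q₁ Q₂) c).comp (inlHom Q₁ Q₂) = chi Q₁ c := by
  apply MonoidHom.eq_of_eqOn_dense (closure_reflElt Q₁ h2 h₁)
  rintro _ ⟨z, hz, rfl⟩
  rw [MonoidHom.comp_apply, inlHom_reflElt]
  have hz' : sumForm Q₁ Q₂ (inlVec z) ≠ 0 := by rw [sumForm_inlVec]; exact hz
  by_cases hsq : IsSquare (c * Q₁ z)
  · rw [(chi_reflElt Q₁ h2 hc hz).1 hsq,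
      (chi_reflElt (sumForm Q₁ Q₂) h2 hc hz').1 (by rw [sumForm_inlVec]; exact hsq)]
  · rw [(chi_reflElt Q₁ h2 hc hz).2 hsq,
      (chi_reflElt (sumForm Q₁ Q₂) h2 hc hz').2 (by rw [sumForm_inlVec]; exact hsq)]

theorem dicksonMat_inlHom [Fintype F] (h2 : (2 : F) = 0)
    (h₁ : (QuadraticMap.polarBilin Q₁).Nondegenerate)
    (h₂ : (QuadraticMap.polarBilin Q₂).Nondegenerate)
    (hexc : Fintype.card F ≠ 2 ∨ Fintype.card ι₁ ≠ 4) :
    (dicksonMat (sumForm Q₁ Q₂) h2 (sumForm_nondeg Q₁ Q₂ h₁ h₂)).comp (inlHom Q₁ Q₂)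
      = dicksonMat Q₁ h2 h₁ := by
  apply MonoidHom.eq_of_eqOn_dense (Cfsg.Agent.Helper8.ReflGen.closure_reflElt_all Q₁ h₁ hexc)
  rintro _ ⟨z, hz, rfl⟩
  rw [MonoidHom.comp_apply, inlHom_reflElt]
  have hz' : sumForm Q₁ Q₂ (inlVec z) ≠ 0 := by rw [sumForm_inlVec]; exact hz
  rw [dicksonMat_reflElt Q₁ h2 h₁ hz, dicksonMat_reflElt _ h2 _ hz']

/-! ### the interchange of two equal summands -/

section swap

variable {ι : Type} [Fintype ι] [DecidableEq ι] (Q : QuadraticForm F (ι → F))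

/-- the matrix interchanging the two summands. -/
def swapMat (F : Type*) [Field F] (ι : Type) [Fintype ι] [DecidableEq ι] :
    Matrix (ι ⊕ ι) (ι ⊕ ι) F :=
  Matrix.fromBlocks 0 1 1 0

theorem swapMat_mul_self : swapMat F ι * swapMat F ι = 1 := by
  unfold swapMat
  rw [Matrix.fromBlocks_multiply]
  simp

theorem swapMat_mulVec (v : ι ⊕ ι → F) :
    (swapMat F ι).mulVec v = Sum.elim (v ∘ Sum.inr) (v ∘ Sum.inl) := by
  unfold swapMat
  rw [Matrix.fromBlocks_mulVec]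
  simp

/-- the interchange as an isometry of `Q ⊕ Q`. -/
noncomputable def swapElt : ↥(Cfsg.isometryGroup F ⇑(sumForm Q Q)) :=
  ⟨⟨swapMat F ι, swapMat F ι, swapMat_mul_self, swapMat_mul_self⟩, by
    rw [mem_isometryGroup_iff]
    intro v
    rw [glEquiv_apply]
    show sumForm Q Q ((swapMat F ι).mulVec v) = sumForm Q Q v
    rw [swapMat_mulVec, sumForm_apply, sumForm_apply]
    exact add_comm _ _⟩

theorem swapElt_val :
    (((swapElt Q : ↥(Cfsg.isometryGroup F ⇑(sumForm Q Q))) : GL (ι ⊕ ι) F) :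
      Matrix (ι ⊕ ι) (ι ⊕ ι) F) = swapMat F ι := rfl

theorem swap_conj (g : ↥(Cfsg.isometryGroup F ⇑Q)) :
    swapElt Q * inlHom Q Q g * swapElt Q = inrHom Q Q g := by
  apply Subtype.ext
  apply Units.ext
  rw [Subgroup.coe_mul, Subgroup.coe_mul, Units.val_mul, Units.val_mul, swapElt_val, inlHom_val,
    inrHom_val]
  unfold swapMat
  rw [Matrix.fromBlocks_multiply, Matrix.fromBlocks_multiply]
  simp

theorem inlHom_mul_inrHom_val (g g' : ↥(Cfsg.isometryGroup F ⇑Q)) :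
    (((inlHom Q Q g * inrHom Q Q g' : ↥(Cfsg.isometryGroup F ⇑(sumForm Q Q))) : GL (ι ⊕ ι) F) :
      Matrix (ι ⊕ ι) (ι ⊕ ι) F)
      = Matrix.fromBlocks ((g : GL ι F) : Matrix ι ι F) 0 0 ((g' : GL ι F) : Matrix ι ι F) := by
  rw [Subgroup.coe_mul, Units.val_mul, inlHom_val, inrHom_val, Matrix.fromBlocks_multiply]
  simp

theorem char_sq {G : Type*} [Group G] (χ : G →* ℤˣ) (a s : G) :
    χ (a * (s * a * s)) = 1 := by
  rw [map_mul, map_mul, map_mul]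
  rcases Int.units_eq_one_or (χ a) with h | h <;> rcases Int.units_eq_one_or (χ s) with h' | h' <;>
    rw [h, h'] <;> decide

/-- `diag(g, g)` lies in `Ω(Q ⊕ Q)`. -/
theorem diag_mem_commutator [Fintype F] (hQ : (QuadraticMap.polarBilin Q).Nondegenerate)
    (hk : 1 ≤ Fintype.card ι) (hex : Fintype.card F ≠ 2 ∨ Fintype.card ι ≠ 2)
    (g : ↥(Cfsg.isometryGroup F ⇑Q)) :
    inlHom Q Q g * inrHom Q Q g ∈ commutator ↥(Cfsg.isometryGroup F ⇑(sumForm Q Q)) := by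
  have hcard : Fintype.card (ι ⊕ ι) = Fintype.card ι + Fintype.card ι := Fintype.card_sum
  have hn : 2 ≤ Fintype.card (ι ⊕ ι) := by rw [hcard]; omega
  have hnd := sumForm_nondeg Q Q hQ hQ
  rw [← swap_conj]
  by_cases h2 : (2 : F) = 0
  · have hex' : Fintype.card F ≠ 2 ∨ Fintype.card (ι ⊕ ι) ≠ 4 := by
      rcases hex with h | h
      · exact Or.inl h
      · right; rw [hcard]; omega
    rw [(Cfsg.Agent.Helper8.OmegaEven.commutator_eq (sumForm Q Q) h2 hnd hn hex').2]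
    exact char_sq _ _ _
  · obtain ⟨e, he⟩ := exists_nonsquare (F := F) h2
    rw [(Cfsg.Agent.Helper8.OmegaOdd.commutator_eq (sumForm Q Q) h2 hnd hn he).2]
    exact ⟨char_sq _ _ _, char_sq _ _ _⟩

end swap

end Cfsg.Agent.Helper8.DirectSum
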