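import Mathlib

/-!
# Homomorphisms out of `GL n F` are determined by transvections and diagonal matrices (helper8)
-/

set_option autoImplicit false

namespace Cfsg.Agent.Helper8.GLHomExt

open Matrix

variable {F : Type*} [Field F] {n : Type} [Fintype n] [DecidableEq n]

/-- diagonal invertible matrices. -/
noncomputable def diagGL : (n → Fˣ) →* GL n F :=
  (Units.map (Matrix.diagonalRingHom n F).toMonoidHom).comp
    (MulEquiv.piUnits (M := fun _ : n => F)).symm.toMonoidHom

theorem diagGL_val (d : n → Fˣ) :
    ((diagGL d : GL n F) : Matrix n n F) = Matrix.diagonal (fun i => (d i : F)) := rfl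

theorem hom_ext_GL {G : Type*} [Monoid G] (ψ χ : GL n F →* G)
    (hT : ∀ (i j : n) (c : F), i ≠ j → ∀ A : GL n F,
      (A : Matrix n n F) = Matrix.transvection i j c → ψ A = χ A)
    (hD : ∀ d : n → Fˣ, ψ (diagGL d) = χ (diagGL d)) : ψ = χ := by
  apply MonoidHom.ext
  intro A
  have key : ∀ M : Matrix n n F, M.det ≠ 0 → ∀ B : GL n F, (B : Matrix n n F) = M → ψ B = χ B := by
    intro M hM
    refine Matrix.diagonal_transvection_induction_of_det_ne_zero
      (fun M => ∀ B : GL n F, (B : Matrix n n F) = M → ψ B = χ B) M hM ?_ ?_ ?_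
    · intro D hdet B hB
      rw [Matrix.det_diagonal] at hdet
      have hD0 : ∀ i, D i ≠ 0 := fun i => (Finset.prod_ne_zero_iff.mp hdet) i (Finset.mem_univ i)
      have : B = diagGL (fun i => Units.mk0 (D i) (hD0 i)) := by
        apply Units.ext
        rw [hB, diagGL_val]
        rfl
      rw [this]
      exact hD _
    · intro t B hB
      exact hT t.i t.j t.c t.hij B hB
    · intro M N hM hN PM PN B hB
      have : B = Matrix.GeneralLinearGroup.mkOfDetNeZero M hM *
          Matrix.GeneralLinearGroup.mkOfDetNeZero N hN := by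
        apply Units.ext
        rw [hB]
        rfl
      rw [this, map_mul, map_mul, PM _ rfl, PN _ rfl]
  have hdet : (A : Matrix n n F).det ≠ 0 := by
    have := (Matrix.GeneralLinearGroup.det A).ne_zero
    exact this
  exact key _ hdet A rfl

end Cfsg.Agent.Helper8.GLHomExt
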