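import Mathlib
import Cfsg.Agent.Helper8.GLHomExt
import Cfsg.Agent.Helper8.Adjust
import Cfsg.Agent.Helper8.DirectSum
import Cfsg.Agent.Helper8.StdForms
import Cfsg.Agent.Helper8.OmegaStd

/-!
# The embedding `A ↦ diag(A, A⁻ᵀ)` of `GL_m` into `O⁺_{2m}` and the sign characters (helper8)
-/

set_option autoImplicit false

namespace Cfsg.Agent.Helper8.GLOmega

open Matrix Module Cfsg.Agent.Helper8.QuadForm Cfsg.Agent.Helper8.OrthOrder
  Cfsg.Agent.Helper8.Reflections Cfsg.Agent.Helper8.ReflMatrix Cfsg.Agent.Helper8.OmegaOdd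
  Cfsg.Agent.Helper8.OmegaCrit Cfsg.Agent.Helper8.HypElt Cfsg.Agent.Helper8.Adjust
  Cfsg.Agent.Helper8.StdForms Cfsg.Agent.Helper8.DirectSum Cfsg.Agent.Helper8.GLHomExt
  Cfsg.Agent.Helper8.OmegaStd

variable {F : Type*} [Field F]

section sgn

variable [Fintype F]

open Classical in
/-- the quadratic sign of a unit of a finite field. -/
noncomputable def sgn : Fˣ →* ℤˣ where
  toFun u := if IsSquare (u : F) then 1 else -1
  map_one' := by
    rw [if_pos]
    rw [Units.val_one]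
    exact IsSquare.one
  map_mul' u v := by
    by_cases hu : IsSquare (u : F)
    · by_cases hv : IsSquare (v : F)
      · rw [if_pos hu, if_pos hv, if_pos (by rw [Units.val_mul]; exact hu.mul hv)]
        rfl
      · rw [if_pos hu, if_neg hv, if_neg (by
          rw [Units.val_mul]; exact not_isSquare_mul u.ne_zero hu hv)]
        rfl
    · by_cases hv : IsSquare (v : F)
      · rw [if_neg hu, if_pos hv, if_neg (by
          rw [Units.val_mul, mul_comm]; exact not_isSquare_mul v.ne_zero hv hu)]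
        rfl
      · rw [if_neg hu, if_neg hv, if_pos (by
          rw [Units.val_mul]; exact isSquare_mul_of_not u.ne_zero hu hv)]
        rfl

theorem sgn_eq_one_iff (u : Fˣ) : sgn u = 1 ↔ IsSquare (u : F) := by
  classical
  show (if IsSquare (u : F) then (1 : ℤˣ) else -1) = 1 ↔ _
  by_cases hu : IsSquare (u : F)
  · rw [if_pos hu]; exact ⟨fun _ => hu, fun _ => rfl⟩
  · rw [if_neg hu]
    constructor
    · intro h; exact absurd h (by decide)
    · intro h; exact absurd h hu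

theorem sgn_of_isSquare {u : Fˣ} (hu : IsSquare (u : F)) : sgn u = 1 := (sgn_eq_one_iff u).mpr hu

theorem sgn_of_not_isSquare {u : Fˣ} (hu : ¬ IsSquare (u : F)) : sgn u = -1 := by
  classical
  show (if IsSquare (u : F) then (1 : ℤˣ) else -1) = -1
  rw [if_neg hu]

end sgn

section phi

variable {m : ℕ}

/-- inverse transpose. -/
def invT : GL (Fin m) F →* GL (Fin m) F where
  toFun A := ⟨((A⁻¹ : GL (Fin m) F) : Matrix (Fin m) (Fin m) F)ᵀ,
    ((A : GL (Fin m) F) : Matrix (Fin m) (Fin m) F)ᵀ,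
    by rw [← Matrix.transpose_mul, Units.mul_inv, Matrix.transpose_one],
    by rw [← Matrix.transpose_mul, Units.inv_mul, Matrix.transpose_one]⟩
  map_one' := Units.ext (by simp)
  map_mul' A B := Units.ext (by
    show ((((A * B)⁻¹ : GL (Fin m) F)) : Matrix (Fin m) (Fin m) F)ᵀ
      = ((A⁻¹ : GL (Fin m) F) : Matrix (Fin m) (Fin m) F)ᵀ *
        ((B⁻¹ : GL (Fin m) F) : Matrix (Fin m) (Fin m) F)ᵀ
    rw [_root_.mul_inv_rev, Units.val_mul, Matrix.transpose_mul])

theorem invT_val (A : GL (Fin m) F) :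
    ((invT A : GL (Fin m) F) : Matrix (Fin m) (Fin m) F)
      = ((A : Matrix (Fin m) (Fin m) F)⁻¹)ᵀ := by
  show ((A⁻¹ : GL (Fin m) F) : Matrix (Fin m) (Fin m) F)ᵀ = _
  rw [Matrix.coe_units_inv]

theorem dot_invT (A : GL (Fin m) F) (x y : Fin m → F) :
    ((A : Matrix (Fin m) (Fin m) F) *ᵥ x) ⬝ᵥ ((invT A : Matrix (Fin m) (Fin m) F) *ᵥ y)
      = x ⬝ᵥ y := by
  rw [Matrix.dotProduct_mulVec]
  show (((A : Matrix (Fin m) (Fin m) F) *ᵥ x) ᵥ*
    ((A⁻¹ : GL (Fin m) F) : Matrix (Fin m) (Fin m) F)ᵀ) ⬝ᵥ y = _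
  rw [Matrix.vecMul_transpose, Matrix.mulVec_mulVec, Units.inv_mul, Matrix.one_mulVec]

theorem plusForm_eq_dot (v : Fin m ⊕ Fin m → F) :
    plusForm F m v = (v ∘ Sum.inl) ⬝ᵥ (v ∘ Sum.inr) := by
  rw [plusForm_apply]
  rfl

/-- the embedding `A ↦ diag(A, A⁻ᵀ)`. -/
noncomputable def phi : GL (Fin m) F →* ↥(Cfsg.isometryGroup F ⇑(plusForm F m)) where
  toFun A := ⟨blockGL A (invT A), by
    rw [mem_isometryGroup_iff]
    intro v
    rw [glEquiv_apply, blockGL_val, fromBlocks_diag_mulVec, plusForm_eq_dot, plusForm_eq_dot]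
    exact dot_invT A _ _⟩
  map_one' := Subtype.ext (by
    show blockGL (1 : GL (Fin m) F) (invT 1) = 1
    rw [map_one]
    exact blockGL_one)
  map_mul' A B := Subtype.ext (by
    show blockGL (A * B) (invT (A * B)) = blockGL A (invT A) * blockGL B (invT B)
    rw [map_mul]
    exact blockGL_mul A B _ _)

theorem phi_val (A : GL (Fin m) F) :
    (((phi A : ↥(Cfsg.isometryGroup F ⇑(plusForm F m))) : GL (Fin m ⊕ Fin m) F) :
      Matrix (Fin m ⊕ Fin m) (Fin m ⊕ Fin m) F)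
      = Matrix.fromBlocks (A : Matrix (Fin m) (Fin m) F) 0 0
        ((A : Matrix (Fin m) (Fin m) F)⁻¹)ᵀ := by
  show ((blockGL A (invT A) : GL (Fin m ⊕ Fin m) F) : Matrix (Fin m ⊕ Fin m) (Fin m ⊕ Fin m) F) = _
  rw [blockGL_val, invT_val]

theorem phi_apply (A : GL (Fin m) F) (x : Fin m ⊕ Fin m → F) :
    (isomEquiv (plusForm F m) (phi A)).1 x
      = Sum.elim ((A : Matrix (Fin m) (Fin m) F) *ᵥ (x ∘ Sum.inl))
        ((invT A : Matrix (Fin m) (Fin m) F) *ᵥ (x ∘ Sum.inr)) := by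
  rw [isomEquiv_apply]
  show ((blockGL A (invT A) : GL (Fin m ⊕ Fin m) F) : Matrix (Fin m ⊕ Fin m) (Fin m ⊕ Fin m) F) *ᵥ x
    = _
  rw [blockGL_val, fromBlocks_diag_mulVec]

end phi

end Cfsg.Agent.Helper8.GLOmega
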