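import Mathlib
import Cfsg.Agent.Helper8.GLOmega

/-!
# The sign characters on `diag(A, A⁻ᵀ)` are the quadratic sign of `det A` (helper8)
-/

set_option autoImplicit false

namespace Cfsg.Agent.Helper8.GLOmega

open Matrix Module Cfsg.Agent.Helper8.QuadForm Cfsg.Agent.Helper8.OrthOrder
  Cfsg.Agent.Helper8.Reflections Cfsg.Agent.Helper8.ReflMatrix Cfsg.Agent.Helper8.OmegaOdd
  Cfsg.Agent.Helper8.OmegaCrit Cfsg.Agent.Helper8.HypElt Cfsg.Agent.Helper8.Adjust
  Cfsg.Agent.Helper8.StdForms Cfsg.Agent.Helper8.DirectSum Cfsg.Agent.Helper8.GLHomExt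
  Cfsg.Agent.Helper8.OmegaStd

variable {F : Type*} [Field F]

section

variable [Fintype F] {ι : Type} [Fintype ι] [DecidableEq ι] (Q : QuadraticForm F (ι → F))

/-- the sign characters are trivial on `diag(a, a⁻¹)`, `a` a nonzero square. -/
theorem chi_hypElt_of_isSquare (h2 : (2 : F) ≠ 0) {e f : ι → F} (he : Q e = 0) (hf : Q f = 0)
    (hef : QuadraticMap.polar Q e f = 1) {a : F} (ha0 : a ≠ 0) (ha : IsSquare a) {c : F}
    (hc : c ≠ 0) : chi Q c (hypElt Q e f a) = 1 := by
  have hQ1 : Q (e - f) = -1 := Q_sub Q he hf hef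
  have hQ2 : Q (e - a • f) = -a := Q_sub_smul Q he hf hef a
  have hz1 : Q (e - f) ≠ 0 := by rw [hQ1]; exact neg_ne_zero.mpr one_ne_zero
  have hz2 : Q (e - a • f) ≠ 0 := by rw [hQ2]; exact neg_ne_zero.mpr ha0
  unfold hypElt
  rw [map_mul]
  have hiff : IsSquare (c * Q (e - a • f)) ↔ IsSquare (c * Q (e - f)) := by
    rw [hQ1, hQ2]
    have : c * -a = a * (c * -1) := by ring
    rw [this, isSquare_mul_iff ha0 ha]
  by_cases hsq : IsSquare (c * Q (e - f))
  · rw [(chi_reflElt Q h2 hc hz1).1 hsq, (chi_reflElt Q h2 hc hz2).1 (hiff.mpr hsq)]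
    rfl
  · rw [(chi_reflElt Q h2 hc hz1).2 hsq, (chi_reflElt Q h2 hc hz2).2 (fun h => hsq (hiff.mp h))]
    rfl

theorem chi_hypElt_eq_sgn (h2 : (2 : F) ≠ 0) {e f : ι → F} (he : Q e = 0) (hf : Q f = 0)
    (hef : QuadraticMap.polar Q e f = 1) (u : Fˣ) {c : F} (hc : c ≠ 0) :
    chi Q c (hypElt Q e f (u : F)) = sgn u := by
  by_cases hu : IsSquare (u : F)
  · rw [chi_hypElt_of_isSquare Q h2 he hf hef u.ne_zero hu hc, sgn_of_isSquare hu]
  · rw [chi_hypElt Q h2 he hf hef hu hc, sgn_of_not_isSquare hu]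

end

section

variable {m : ℕ}

theorem polar_single_inl (i : Fin m) (x : Fin m ⊕ Fin m → F) :
    QuadraticMap.polar (plusForm F m) (Pi.single (Sum.inl i) 1) x = x (Sum.inr i) := by
  classical
  rw [polar_plusForm]
  simp [Pi.single_apply]

theorem polar_single_inr (i : Fin m) (x : Fin m ⊕ Fin m → F) :
    QuadraticMap.polar (plusForm F m) (Pi.single (Sum.inr i) 1) x = x (Sum.inl i) := by
  classical
  rw [polar_plusForm]
  simp [Pi.single_apply]

theorem invT_diagGL (d : Fin m → Fˣ) :
    ((invT (diagGL d) : GL (Fin m) F) : Matrix (Fin m) (Fin m) F)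
      = Matrix.diagonal (fun i => ((d i)⁻¹ : F)) := by
  show (((diagGL d)⁻¹ : GL (Fin m) F) : Matrix (Fin m) (Fin m) F)ᵀ = _
  rw [← map_inv, diagGL_val, Matrix.diagonal_transpose]
  congr 1
  funext i
  simp

/-- `diag(A, A⁻ᵀ)` for `A` diagonal with a single entry different from one. -/
theorem phi_diagGL_mulSingle (i : Fin m) (u : Fˣ) :
    phi (diagGL (Pi.mulSingle i u : Fin m → Fˣ))
      = hypElt (plusForm F m) (Pi.single (Sum.inl i) 1) (Pi.single (Sum.inr i) 1) (u : F) := by
  classical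
  have hh := plus_isHyp F m
  apply (isomEquiv (plusForm F m)).injective
  apply Subtype.ext
  apply LinearEquiv.ext
  intro x
  rw [phi_apply, hypElt_apply (plusForm F m) (hh.1 i).1 (hh.1 i).2
    (by rw [hh.2.1 i i, if_pos rfl]) u.ne_zero, polar_single_inl, polar_single_inr, diagGL_val,
    invT_diagGL]
  funext k
  rcases k with k | k
  · by_cases hk : k = i
    · subst hk
      simp [Matrix.mulVec_diagonal]
      ring
    · simp [Matrix.mulVec_diagonal, Pi.mulSingle_apply, Pi.single_apply, hk]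
  · by_cases hk : k = i
    · subst hk
      simp [Matrix.mulVec_diagonal]
      ring
    · simp [Matrix.mulVec_diagonal, Pi.mulSingle_apply, Pi.single_apply, hk]

variable [Fintype F]

/-- **the sign characters on `diag(A, A⁻ᵀ)`**. -/
theorem chi_phi (h2 : (2 : F) ≠ 0) {c : F} (hc : c ≠ 0) :
    (chi (plusForm F m) c).comp phi = (sgn (F := F)).comp Matrix.GeneralLinearGroup.det := by
  classical
  have hh := plus_isHyp F m
  apply hom_ext_GL
  · intro i j c' hij A hA
    rw [MonoidHom.comp_apply, MonoidHom.comp_apply]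
    have hdet : Matrix.GeneralLinearGroup.det A = 1 := by
      apply Units.ext
      show (A : Matrix (Fin m) (Fin m) F).det = 1
      rw [hA, Matrix.det_transvection_of_ne i j hij]
    rw [hdet, map_one]
    obtain ⟨B, hB⟩ : ∃ B : GL (Fin m) F, B = Matrix.GeneralLinearGroup.mkOfDetNeZero
        (Matrix.transvection i j (c' / 2)) (by
          rw [Matrix.det_transvection_of_ne i j hij]; exact one_ne_zero) := ⟨_, rfl⟩
    have hAB : A = B * B := by
      apply Units.ext
      rw [Units.val_mul, hA, hB]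
      show _ = Matrix.transvection i j (c' / 2) * Matrix.transvection i j (c' / 2)
      rw [Matrix.transvection_mul_transvection_same i j hij]
      congr 1
      field_simp
      ring
    rw [hAB, map_mul, map_mul]
    exact Int.units_mul_self _
  · intro d
    rw [MonoidHom.comp_apply, MonoidHom.comp_apply]
    have hd : d = ∏ i, Pi.mulSingle i (d i) := (Finset.univ_prod_mulSingle d).symm
    have h1 : chi (plusForm F m) c (phi (diagGL d)) = ∏ i, sgn (d i) := by
      obtain ⟨ψ, hψ⟩ : ∃ ψ : (Fin m → Fˣ) →* ℤˣ,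
        ψ = ((chi (plusForm F m) c).comp phi).comp diagGL := ⟨_, rfl⟩
      have e1 : chi (plusForm F m) c (phi (diagGL d)) = ψ d := by rw [hψ]; rfl
      rw [e1]
      conv_lhs => rw [hd]
      rw [map_prod]
      apply Finset.prod_congr rfl
      intro i _
      rw [hψ, MonoidHom.comp_apply, MonoidHom.comp_apply, phi_diagGL_mulSingle]
      exact chi_hypElt_eq_sgn (plusForm F m) h2 (hh.1 i).1 (hh.1 i).2
        (by rw [hh.2.1 i i, if_pos rfl]) (d i) hc
    have h3 : Matrix.GeneralLinearGroup.det (diagGL d) = ∏ i, d i := by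
      apply Units.ext
      show ((diagGL d : GL (Fin m) F) : Matrix (Fin m) (Fin m) F).det = _
      rw [diagGL_val, Matrix.det_diagonal, Units.coe_prod]
    rw [h1, h3, map_prod]

end

end Cfsg.Agent.Helper8.GLOmega
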