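import Mathlib
import Cfsg.Agent.Helper8.InnDiagPlusE
import Cfsg.Agent.S2611

set_option autoImplicit false

/-! The structure of `Inndiag(PΩ⁺_{2m}(q)) / Inn` (helper8). -/

namespace Cfsg.Agent.Helper8.InnDiagPlus

open Module Cfsg Cfsg.Agent.Helper8.StdForms Cfsg.Agent.Helper8.AutImage
  Cfsg.Agent.Helper8.AutImageOrth Cfsg.Agent.Helper8.AutImageKer Cfsg.Agent.Helper8.AutImagePsi
  Cfsg.Agent.Helper8.AutImageIdx Cfsg.Agent.Helper8.AutImageD8
open scoped Matrix

section Elements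

variable {F : Type*} [Field F] {m : ℕ}

/-- `dmat` as a similarity -/
noncomputable def dG (c : Fˣ) : ↥(Geo.quadSimilarityGroup (F := F) ⇑(plusForm F m)) :=
  ⟨dmat m c, dmat_mem c⟩

theorem mult_dG (hne : ∃ v, plusForm F m v ≠ 0) (c : Fˣ) :
    mult ⇑(plusForm F m) hne (dG c) = c :=
  mult_eq_of _ hne _ (dmat_spec c)

theorem dG_mem (h2 : (2 : F) ≠ 0) (hne : ∃ v, plusForm F m v ≠ 0) (c : Fˣ) :
    dG c ∈ Dsub h2 hne := by
  rw [mem_Dsub_iff, mult_dG]
  exact det_dmat c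

/-- the diagonal isometry `diag(c, …, c, c⁻¹, …, c⁻¹)` -/
noncomputable def hmat (m : ℕ) (c : Fˣ) : GL (Fin m ⊕ Fin m) F :=
  Matrix.GeneralLinearGroup.mkOfDetNeZero
    (Matrix.diagonal (Sum.elim (fun _ : Fin m => (c : F)) (fun _ : Fin m => ((c⁻¹ : Fˣ) : F)))) (by
      rw [Matrix.det_diagonal, Finset.prod_ne_zero_iff]
      intro i _
      rcases i with i | i
      · exact Units.ne_zero c
      · exact Units.ne_zero c⁻¹)

theorem hmat_val (c : Fˣ) :
    ((hmat m c : GL (Fin m ⊕ Fin m) F) : Matrix (Fin m ⊕ Fin m) (Fin m ⊕ Fin m) F) =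
      Matrix.diagonal (Sum.elim (fun _ : Fin m => (c : F)) (fun _ : Fin m => ((c⁻¹ : Fˣ) : F))) := rfl

theorem hmat_mem (c : Fˣ) : hmat m c ∈ Cfsg.isometryGroup F ⇑(plusForm F m) := by
  rw [mem_isometryGroup_iff']
  intro v
  rw [hmat_val, plusForm_apply, plusForm_apply]
  unfold Cfsg.quadFormPlus
  refine Finset.sum_congr rfl (fun i _ => ?_)
  rw [Matrix.mulVec_diagonal, Matrix.mulVec_diagonal]
  simp only [Sum.elim_inl, Sum.elim_inr]
  have : (c : F) * ((c⁻¹ : Fˣ) : F) = 1 := by rw [← Units.val_mul, mul_inv_cancel, Units.val_one]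
  linear_combination (v (Sum.inl i) * v (Sum.inr i)) * this

/-- `hmat` as an isometry -/
noncomputable def hO (c : Fˣ) : ↥(Cfsg.isometryGroup F ⇑(plusForm F m)) := ⟨hmat m c, hmat_mem c⟩

theorem dG_mul_dG [Fintype F] (c : Fˣ) : (dG c * dG c : ↥(Geo.quadSimilarityGroup (F := F) ⇑(plusForm F m))) =
    scalarGO (plusForm F m) c * Subgroup.inclusion (isometry_le_similarity ⇑(plusForm F m)) (hO c) := by
  apply Subtype.ext
  apply Units.ext
  rw [Subgroup.coe_mul, Subgroup.coe_mul, Units.val_mul, Units.val_mul, scalarGO_val]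
  show ((dmat m c : GL (Fin m ⊕ Fin m) F) : Matrix (Fin m ⊕ Fin m) (Fin m ⊕ Fin m) F) *
    ((dmat m c : GL (Fin m ⊕ Fin m) F) : Matrix (Fin m ⊕ Fin m) (Fin m ⊕ Fin m) F) =
    ((c : F) • (1 : Matrix (Fin m ⊕ Fin m) (Fin m ⊕ Fin m) F)) *
      ((hmat m c : GL (Fin m ⊕ Fin m) F) : Matrix (Fin m ⊕ Fin m) (Fin m ⊕ Fin m) F)
  rw [dmat_val, hmat_val, Matrix.diagonal_mul_diagonal, Matrix.smul_mul, Matrix.one_mul,
    ← Matrix.diagonal_smul]
  congr 1
  funext i
  rcases i with i | i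
  · simp
  · simp

theorem hO_mem_iff [Fintype F] (hm : 1 ≤ m) (h : Fintype.card F ≠ 2 ∨ m ≠ 2) (c : Fˣ) :
    hO c ∈ Cfsg.Omega F ⇑(plusForm F m) ↔ IsSquare ((c : F) ^ m) := by
  have hQeq : Cfsg.quadFormPlus m F = ⇑(plusForm F m) :=
    funext (fun v => (plusForm_apply F m v).symm)
  have key := Cfsg.Agent.S2611.result (F := F) hm h
    (Matrix.GeneralLinearGroup.scalar (Fin m) c)
  rw [hQeq] at key
  have hval : ((Matrix.GeneralLinearGroup.scalar (Fin m) c : GL (Fin m) F) : Matrix (Fin m) (Fin m) F)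
      = Matrix.diagonal (fun _ => (c : F)) := by
    rw [Matrix.GeneralLinearGroup.coe_scalar, Matrix.scalar_apply]
  have hdet : ((Matrix.GeneralLinearGroup.scalar (Fin m) c : GL (Fin m) F) : Matrix (Fin m) (Fin m) F).det
      = (c : F) ^ m := by
    rw [hval, Matrix.det_diagonal, Finset.prod_const, Finset.card_univ, Fintype.card_fin]
  have hinv : ((Matrix.GeneralLinearGroup.scalar (Fin m) c : GL (Fin m) F) : Matrix (Fin m) (Fin m) F)⁻¹.transpose
      = Matrix.diagonal (fun _ => ((c⁻¹ : Fˣ) : F)) := by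
    rw [hval]
    have : (Matrix.diagonal (fun _ : Fin m => (c : F)))⁻¹ = Matrix.diagonal (fun _ => ((c⁻¹ : Fˣ) : F)) := by
      apply Matrix.inv_eq_right_inv
      rw [Matrix.diagonal_mul_diagonal]
      simp
    rw [this, Matrix.diagonal_transpose]
  have hblocks : Matrix.fromBlocks
      ((Matrix.GeneralLinearGroup.scalar (Fin m) c : GL (Fin m) F) : Matrix (Fin m) (Fin m) F) 0 0
      ((Matrix.GeneralLinearGroup.scalar (Fin m) c : GL (Fin m) F) : Matrix (Fin m) (Fin m) F)⁻¹.transpose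
      = ((hmat m c : GL (Fin m ⊕ Fin m) F) : Matrix (Fin m ⊕ Fin m) (Fin m ⊕ Fin m) F) := by
    rw [hinv, hval, hmat_val, Matrix.fromBlocks_diagonal]
  rw [hblocks, hdet] at key
  rw [← key]
  constructor
  · intro h1
    exact ⟨hO c, h1, rfl⟩
  · rintro ⟨g, hg, hgv⟩
    have : g = hO c := by
      apply Subtype.ext
      apply Units.ext
      exact hgv
    rw [← this]
    exact hg

end Elements

end Cfsg.Agent.Helper8.InnDiagPlus
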