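import Mathlib
import Cfsg.Agent.Helper8.AutOQf
import Cfsg.Agent.Helper8.InnDiagPlusF

set_option autoImplicit false
set_option linter.unusedSectionVars false
set_option linter.style.haveILetI false

/-!
# Automorphisms of orthogonal groups, part Ql: diagonal similarities of the plus-type form, the
criterion for the diagonal isometries to lie in `Ω`, and the diagonal similarity commuting with the
standard graph-field automorphism
-/

namespace Cfsg.Agent.Helper8.AutO

open Module Matrix Cfsg.Agent.Helper8.QuadForm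
  Cfsg.Agent.Helper8.ReflMatrix
  Cfsg.Agent.Helper8.AutImagePsi Cfsg.Agent.Helper8.AutImageOrth
  Cfsg.Agent.Helper8.StdForms Cfsg.Agent.Helper8.AutImage Cfsg.Agent.Helper8.AutImageKer
  Cfsg.Agent.Helper8.AutImageIdx Cfsg.Agent.Helper8.Cls Cfsg.Agent.Helper8.Reflections
open Cfsg.Agent.Helper8.AutSLn (gls nrmGL nrmF unitsAut fixField)

section Diag

variable {F : Type*} [Field F] {n : ℕ}

/-- the diagonal matrix `diag(e; f)` on the index set of the plus-type form. -/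
noncomputable def diagGL (e f : Fin n → Fˣ) : GL (Fin n ⊕ Fin n) F :=
  Matrix.GeneralLinearGroup.mkOfDetNeZero
    (Matrix.diagonal (Sum.elim (fun i => (e i : F)) (fun i => (f i : F)))) (by
      rw [Matrix.det_diagonal, Finset.prod_ne_zero_iff]
      rintro (i | i) _
      · exact Units.ne_zero _
      · exact Units.ne_zero _)

theorem diagGL_val (e f : Fin n → Fˣ) :
    ((diagGL e f : GL (Fin n ⊕ Fin n) F) : Matrix (Fin n ⊕ Fin n) (Fin n ⊕ Fin n) F)
      = Matrix.diagonal (Sum.elim (fun i => (e i : F)) (fun i => (f i : F))) := rfl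

theorem diagGL_mulVec (e f : Fin n → Fˣ) (v : Fin n ⊕ Fin n → F) (i : Fin n ⊕ Fin n) :
    (((diagGL e f : GL (Fin n ⊕ Fin n) F) : Matrix (Fin n ⊕ Fin n) (Fin n ⊕ Fin n) F) *ᵥ v) i
      = Sum.elim (fun i => (e i : F)) (fun i => (f i : F)) i * v i := by
  rw [diagGL_val, Matrix.mulVec_diagonal]

theorem diagGL_spec (e f : Fin n → Fˣ) (c : Fˣ) (h : ∀ i, e i * f i = c)
    (v : Fin n ⊕ Fin n → F) :
    plusForm F n (((diagGL e f : GL (Fin n ⊕ Fin n) F) :
      Matrix (Fin n ⊕ Fin n) (Fin n ⊕ Fin n) F) *ᵥ v) = (c : F) * plusForm F n v := by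
  rw [plusForm_apply, plusForm_apply]
  unfold Cfsg.quadFormPlus
  rw [Finset.mul_sum]
  refine Finset.sum_congr rfl (fun i _ => ?_)
  rw [diagGL_mulVec, diagGL_mulVec]
  simp only [Sum.elim_inl, Sum.elim_inr]
  have := congrArg Units.val (h i)
  rw [Units.val_mul] at this
  linear_combination (v (Sum.inl i) * v (Sum.inr i)) * this

theorem diagGL_mem_sim (e f : Fin n → Fˣ) (c : Fˣ) (h : ∀ i, e i * f i = c) :
    diagGL e f ∈ Cfsg.Geo.quadSimilarityGroup (F := F) ⇑(plusForm F n) :=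
  ⟨c, diagGL_spec e f c h⟩

theorem diagGL_mem_iso (e f : Fin n → Fˣ) (h : ∀ i, e i * f i = 1) :
    diagGL e f ∈ Cfsg.isometryGroup F ⇑(plusForm F n) := by
  rw [mem_isometryGroup_iff']
  intro v
  rw [diagGL_spec e f 1 h, Units.val_one, one_mul]

theorem det_diagGL (e f : Fin n → Fˣ) :
    ((diagGL e f : GL (Fin n ⊕ Fin n) F) : Matrix (Fin n ⊕ Fin n) (Fin n ⊕ Fin n) F).det
      = (∏ i, (e i : F)) * ∏ i, (f i : F) := by
  rw [diagGL_val, Matrix.det_diagonal, Fintype.prod_sum_type]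
  simp only [Sum.elim_inl, Sum.elim_inr]

/-- **the diagonal isometry `diag(e; e⁻¹)` lies in `Ω⁺` iff `∏ e` is a square.** -/
theorem diagGL_mem_Omega_iff [Fintype F] (hn : 1 ≤ n) (h : Fintype.card F ≠ 2 ∨ n ≠ 2)
    (e f : Fin n → Fˣ) (hef : ∀ i, e i * f i = 1) :
    (⟨diagGL e f, diagGL_mem_iso e f hef⟩ : ↥(Cfsg.isometryGroup F ⇑(plusForm F n)))
      ∈ Cfsg.Omega F ⇑(plusForm F n) ↔ IsSquare (∏ i, (e i : F)) := by
  have hQeq : Cfsg.quadFormPlus n F = ⇑(plusForm F n) :=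
    funext (fun v => (plusForm_apply F n v).symm)
  obtain ⟨A, hA⟩ : ∃ A : GL (Fin n) F, (A : Matrix (Fin n) (Fin n) F)
      = Matrix.diagonal (fun i => (e i : F)) :=
    ⟨Matrix.GeneralLinearGroup.mkOfDetNeZero (Matrix.diagonal (fun i => (e i : F))) (by
      rw [Matrix.det_diagonal, Finset.prod_ne_zero_iff]
      intro i _
      exact Units.ne_zero _), rfl⟩
  have key := Cfsg.Agent.S2611.result (F := F) hn h A
  rw [hQeq] at key
  have hdet : (A : Matrix (Fin n) (Fin n) F).det = ∏ i, (e i : F) := by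
    rw [hA, Matrix.det_diagonal]
  have hinv : (A : Matrix (Fin n) (Fin n) F)⁻¹.transpose
      = Matrix.diagonal (fun i => (f i : F)) := by
    rw [hA]
    have : (Matrix.diagonal (fun i : Fin n => (e i : F)))⁻¹
        = Matrix.diagonal (fun i => (f i : F)) := by
      apply Matrix.inv_eq_right_inv
      rw [Matrix.diagonal_mul_diagonal]
      have : (fun i => (e i : F) * (f i : F)) = fun _ => (1 : F) := by
        funext i
        rw [← Units.val_mul, hef i, Units.val_one]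
      rw [this, Matrix.diagonal_one]
    rw [this, Matrix.diagonal_transpose]
  have hblocks : Matrix.fromBlocks (A : Matrix (Fin n) (Fin n) F) 0 0
      (A : Matrix (Fin n) (Fin n) F)⁻¹.transpose
      = ((diagGL e f : GL (Fin n ⊕ Fin n) F) : Matrix (Fin n ⊕ Fin n) (Fin n ⊕ Fin n) F) := by
    rw [hinv, hA, diagGL_val, Matrix.fromBlocks_diagonal]
  rw [hblocks, hdet] at key
  rw [← key]
  constructor
  · intro h1
    exact ⟨_, h1, rfl⟩
  · rintro ⟨g, hg, hgv⟩
    have : g = ⟨diagGL e f, diagGL_mem_iso e f hef⟩ := by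
      apply Subtype.ext
      apply Units.ext
      exact hgv
    rw [← this]
    exact hg

end Diag

section GraphField

variable {F : Type*} [Field F] (k : ℕ)

/-- the entries `(μ, …, μ, λ)`, `μ = λ λ'`. -/
def gfE (lam lam' : Fˣ) : Fin (k + 1) → Fˣ :=
  Fin.snoc (α := fun _ => Fˣ) (fun _ : Fin k => lam * lam') lam

/-- the entries `(1, …, 1, λ')`. -/
def gfF (lam' : Fˣ) : Fin (k + 1) → Fˣ :=
  Fin.snoc (α := fun _ => Fˣ) (fun _ : Fin k => 1) lam'

theorem gfE_last (lam lam' : Fˣ) : gfE k lam lam' (Fin.last k) = lam := by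
  unfold gfE
  rw [Fin.snoc_last]

theorem gfE_castSucc (lam lam' : Fˣ) (i : Fin k) : gfE k lam lam' i.castSucc = lam * lam' := by
  unfold gfE
  rw [Fin.snoc_castSucc]

theorem gfF_last (lam' : Fˣ) : gfF k lam' (Fin.last k) = lam' := by
  unfold gfF
  rw [Fin.snoc_last]

theorem gfF_castSucc (lam' : Fˣ) (i : Fin k) : gfF k lam' i.castSucc = 1 := by
  unfold gfF
  rw [Fin.snoc_castSucc]

theorem gfE_mul_gfF (lam lam' : Fˣ) (i : Fin (k + 1)) :
    gfE k lam lam' i * gfF k lam' i = lam * lam' := by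
  refine Fin.lastCases ?_ (fun i => ?_) i
  · rw [gfE_last, gfF_last]
  · rw [gfE_castSucc, gfF_castSucc, mul_one]

theorem prod_gfE (lam lam' : Fˣ) :
    ∏ i, ((gfE k lam lam' i : Fˣ) : F) = ((lam : F) * lam') ^ k * lam := by
  rw [Fin.prod_univ_castSucc, gfE_last]
  simp only [gfE_castSucc, Units.val_mul, Finset.prod_const, Finset.card_univ, Fintype.card_fin]

theorem prod_gfF (lam' : Fˣ) : ∏ i, ((gfF k lam' i : Fˣ) : F) = lam' := by
  rw [Fin.prod_univ_castSucc, gfF_last]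
  simp only [gfF_castSucc, Units.val_one, Finset.prod_const, one_pow, one_mul]

/-- the compatibility of the entries with the swap of the last hyperbolic pair. -/
theorem sigma_entries_swap (σ : F ≃+* F) (hσσ : ∀ a : F, σ (σ a) = a) (lam lam' : Fˣ)
    (hlam' : (lam' : F) = σ lam) (i : Fin (k + 1) ⊕ Fin (k + 1)) :
    σ (Sum.elim (fun i => ((gfE k lam lam' i : Fˣ) : F)) (fun i => ((gfF k lam' i : Fˣ) : F))
      (Equiv.swap (Sum.inl (Fin.last k)) (Sum.inr (Fin.last k)) i))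
      = Sum.elim (fun i => ((gfE k lam lam' i : Fˣ) : F)) (fun i => ((gfF k lam' i : Fˣ) : F)) i := by
  rcases i with i | i
  · refine Fin.lastCases ?_ (fun i => ?_) i
    · rw [Equiv.swap_apply_left]
      simp only [Sum.elim_inl, Sum.elim_inr]
      rw [gfE_last, gfF_last, hlam', hσσ]
    · rw [Equiv.swap_apply_of_ne_of_ne
        (fun h => (Fin.castSucc_lt_last i).ne (Sum.inl_injective h)) Sum.inl_ne_inr]
      simp only [Sum.elim_inl]
      rw [gfE_castSucc, Units.val_mul, map_mul, hlam', hσσ, mul_comm]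
  · refine Fin.lastCases ?_ (fun i => ?_) i
    · rw [Equiv.swap_apply_right]
      simp only [Sum.elim_inl, Sum.elim_inr]
      rw [gfE_last, gfF_last, hlam']
    · rw [Equiv.swap_apply_of_ne_of_ne Sum.inr_ne_inl
        (fun h => (Fin.castSucc_lt_last i).ne (Sum.inr_injective h))]
      simp only [Sum.elim_inr]
      rw [gfF_castSucc, Units.val_one, map_one]

variable [Fintype F]

/-- the reflection in `e - f` of the last hyperbolic pair acts by interchanging coordinates. -/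
theorem reflGO_swapVec_mulVec (v : Fin (k + 1) ⊕ Fin (k + 1) → F) :
    ((reflGO (plusForm F (k + 1)) (swapVec k) : GL (Fin (k + 1) ⊕ Fin (k + 1)) F) :
      Matrix (Fin (k + 1) ⊕ Fin (k + 1)) (Fin (k + 1) ⊕ Fin (k + 1)) F) *ᵥ v
      = v ∘ (Equiv.swap (Sum.inl (Fin.last k)) (Sum.inr (Fin.last k))) := by
  rw [reflGO_val, reflectionMatrix_mulVec, refl_swapVec]

/-- **the image of the diagonal similarity under the field automorphism** is its conjugate by
the reflection. -/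
theorem gls_gfd (σ : F ≃+* F) (hσσ : ∀ a : F, σ (σ a) = a) (lam lam' : Fˣ)
    (hlam' : (lam' : F) = σ lam) :
    gls σ (diagGL (gfE k lam lam') (gfF k lam'))
      = (reflGO (plusForm F (k + 1)) (swapVec k) : GL (Fin (k + 1) ⊕ Fin (k + 1)) F) *
        diagGL (gfE k lam lam') (gfF k lam') *
        (reflGO (plusForm F (k + 1)) (swapVec k) : GL (Fin (k + 1) ⊕ Fin (k + 1)) F) := by
  apply Units.ext
  apply matrix_ext
  intro v
  rw [Units.val_mul, Units.val_mul, ← Matrix.mulVec_mulVec, ← Matrix.mulVec_mulVec,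
    reflGO_swapVec_mulVec, reflGO_swapVec_mulVec]
  show ((diagGL (gfE k lam lam') (gfF k lam') : GL (Fin (k + 1) ⊕ Fin (k + 1)) F) :
    Matrix (Fin (k + 1) ⊕ Fin (k + 1)) (Fin (k + 1) ⊕ Fin (k + 1)) F).map σ *ᵥ v = _
  rw [diagGL_val, Matrix.diagonal_map (map_zero σ)]
  funext i
  rw [Matrix.mulVec_diagonal, Function.comp_apply, ← diagGL_val, diagGL_mulVec,
    Function.comp_apply, Equiv.swap_apply_self]
  have h1 := sigma_entries_swap k σ hσσ lam lam' hlam'
    (Equiv.swap (Sum.inl (Fin.last k)) (Sum.inr (Fin.last k)) i)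
  rw [Equiv.swap_apply_self] at h1
  rw [h1]

/-- the diagonal similarity as an element of the conformal group. -/
noncomputable def gfD (lam lam' : Fˣ) :
    ↥(Cfsg.Geo.quadSimilarityGroup (F := F) ⇑(plusForm F (k + 1))) :=
  ⟨diagGL (gfE k lam lam') (gfF k lam'),
    diagGL_mem_sim _ _ (lam * lam') (gfE_mul_gfF k lam lam')⟩

theorem gfD_val (lam lam' : Fˣ) :
    ((gfD k lam lam' : ↥(Cfsg.Geo.quadSimilarityGroup (F := F) ⇑(plusForm F (k + 1)))) :
      GL (Fin (k + 1) ⊕ Fin (k + 1)) F) = diagGL (gfE k lam lam') (gfF k lam') := rfl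

theorem mult_gfD (hne : ∃ v, plusForm F (k + 1) v ≠ 0) (lam lam' : Fˣ) :
    mult ⇑(plusForm F (k + 1)) hne (gfD k lam lam') = lam * lam' :=
  mult_eq_of _ hne _ (diagGL_spec _ _ (lam * lam') (gfE_mul_gfF k lam lam'))

theorem det_gfD (lam lam' : Fˣ) :
    (((gfD k lam lam' : ↥(Cfsg.Geo.quadSimilarityGroup (F := F) ⇑(plusForm F (k + 1)))) :
      GL (Fin (k + 1) ⊕ Fin (k + 1)) F) :
      Matrix (Fin (k + 1) ⊕ Fin (k + 1)) (Fin (k + 1) ⊕ Fin (k + 1)) F).det
      = ((lam : F) * lam') ^ (k + 1) := by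
  rw [gfD_val, det_diagGL, prod_gfE, prod_gfF]
  ring

/-- **the diagonal similarity commutes with the standard graph-field automorphism** (in the
group of semilinear similarities). -/
theorem gfD_commute (σ : F ≃+* F) (hσσ : ∀ a : F, σ (σ a) = a)
    (hσQ : ∀ v : Fin (k + 1) ⊕ Fin (k + 1) → F,
      plusForm F (k + 1) (fun i => σ (v i)) = σ (plusForm F (k + 1) v))
    (lam lam' : Fˣ) (hlam' : (lam' : F) = σ lam) :
    simGamma (plusForm F (k + 1)) (gfD k lam lam') *
      (simGamma (plusForm F (k + 1)) (reflGO (plusForm F (k + 1)) (swapVec k)) *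
        fieldGammaOne (plusForm F (k + 1)) σ hσQ)
      = (simGamma (plusForm F (k + 1)) (reflGO (plusForm F (k + 1)) (swapVec k)) *
        fieldGammaOne (plusForm F (k + 1)) σ hσQ) *
        simGamma (plusForm F (k + 1)) (gfD k lam lam') := by
  apply ext_gap
  intro v
  simp only [gap_mul, gap_simGamma, gap_fieldGammaOne, reflGO_swapVec_mulVec, gfD_val]
  funext i
  rw [diagGL_mulVec, Function.comp_apply, Function.comp_apply, diagGL_mulVec, map_mul,
    sigma_entries_swap k σ hσσ lam lam' hlam']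

/-- **the transport of the diagonal similarity to the twisted form is fixed by the field
automorphism.** -/
theorem gls_conj_gfD (ρ ρ' : F) (hne : ρ ≠ ρ') (σ : F ≃+* F) (hσσ : ∀ a : F, σ (σ a) = a)
    (hρ : σ ρ = ρ') (hρ' : σ ρ' = ρ) (lam lam' : Fˣ) (hlam' : (lam' : F) = σ lam) :
    gls σ ((twGL k ρ ρ' hne)⁻¹ * diagGL (gfE k lam lam') (gfF k lam') *
        ((twGL k ρ ρ' hne)⁻¹)⁻¹)
      = (twGL k ρ ρ' hne)⁻¹ * diagGL (gfE k lam lam') (gfF k lam') *
        ((twGL k ρ ρ' hne)⁻¹)⁻¹ := by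
  simp only [map_mul, map_inv, inv_inv]
  rw [gls_twGL k ρ ρ' hne σ hρ hρ', gls_gfd k σ hσσ lam lam' hlam']
  have hRR : (reflGO (plusForm F (k + 1)) (swapVec k) : GL (Fin (k + 1) ⊕ Fin (k + 1)) F) *
      (reflGO (plusForm F (k + 1)) (swapVec k) : GL (Fin (k + 1) ⊕ Fin (k + 1)) F) = 1 := by
    have h4 := congrArg Subtype.val (reflGO_mul_self (plusForm F (k + 1)) (swapVec k))
    rw [Subgroup.coe_mul] at h4
    exact h4
  obtain ⟨R, hR⟩ : ∃ R : GL (Fin (k + 1) ⊕ Fin (k + 1)) F,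
      R = (reflGO (plusForm F (k + 1)) (swapVec k) : GL (Fin (k + 1) ⊕ Fin (k + 1)) F) :=
    ⟨_, rfl⟩
  rw [← hR] at hRR ⊢
  calc (R * twGL k ρ ρ' hne)⁻¹ * (R * diagGL (gfE k lam lam') (gfF k lam') * R) *
        (R * twGL k ρ ρ' hne)
      = (twGL k ρ ρ' hne)⁻¹ * diagGL (gfE k lam lam') (gfF k lam') * (R * R) *
        twGL k ρ ρ' hne := by group
    _ = _ := by rw [hRR, mul_one]

/-- **the criterion for the diagonal similarity to induce an inner automorphism**, when `-1`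
lies in `Ω`. -/
theorem Phi_gfD_mem_Inn_iff (h2 : (2 : F) ≠ 0)
    (hQ : (QuadraticMap.polarBilin (plusForm F (k + 1))).Nondegenerate)
    (h5 : 5 ≤ Fintype.card (Fin (k + 1) ⊕ Fin (k + 1)))
    (hneg : ∃ g : ↥(Cfsg.isometryGroup F ⇑(plusForm F (k + 1))),
      g ∈ Cfsg.Omega F ⇑(plusForm F (k + 1)) ∧
      ((g : GL (Fin (k + 1) ⊕ Fin (k + 1)) F) :
        Matrix (Fin (k + 1) ⊕ Fin (k + 1)) (Fin (k + 1) ⊕ Fin (k + 1)) F) = -1)
    (lam lam' s : Fˣ) (hs : s * s = lam * lam') :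
    Phi ⇑(plusForm F (k + 1)) (gfD k lam lam') ∈
      Cfsg.Inn (Cfsg.POmega F ⇑(plusForm F (k + 1))) ↔
      IsSquare ((lam : F) * (s : F) ^ (k + 1)) := by
  have hef' : ∀ i, (gfE k lam lam' i * s⁻¹) * (gfF k lam' i * s⁻¹) = 1 := by
    intro i
    have h1 := gfE_mul_gfF k lam lam' i
    calc (gfE k lam lam' i * s⁻¹) * (gfF k lam' i * s⁻¹)
        = (gfE k lam lam' i * gfF k lam' i) * (s * s)⁻¹ := by
          rw [_root_.mul_inv_rev]
          ac_rfl
      _ = 1 := by rw [h1, hs, mul_inv_cancel]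
  obtain ⟨h, hh⟩ : ∃ h : ↥(Cfsg.isometryGroup F ⇑(plusForm F (k + 1))),
      h = ⟨diagGL (fun i => gfE k lam lam' i * s⁻¹) (fun i => gfF k lam' i * s⁻¹),
        diagGL_mem_iso _ _ hef'⟩ := ⟨_, rfl⟩
  have hdec : gfD k lam lam' = scalarGO (plusForm F (k + 1)) s *
      Subgroup.inclusion (isometry_le_similarity ⇑(plusForm F (k + 1))) h := by
    apply Subtype.ext
    apply Units.ext
    rw [Subgroup.coe_mul, Units.val_mul, scalarGO_val, hh]
    show ((diagGL (gfE k lam lam') (gfF k lam') : GL (Fin (k + 1) ⊕ Fin (k + 1)) F) :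
      Matrix (Fin (k + 1) ⊕ Fin (k + 1)) (Fin (k + 1) ⊕ Fin (k + 1)) F) =
      ((s : F) • (1 : Matrix (Fin (k + 1) ⊕ Fin (k + 1)) (Fin (k + 1) ⊕ Fin (k + 1)) F)) *
      ((diagGL (fun i => gfE k lam lam' i * s⁻¹) (fun i => gfF k lam' i * s⁻¹) :
        GL (Fin (k + 1) ⊕ Fin (k + 1)) F) :
        Matrix (Fin (k + 1) ⊕ Fin (k + 1)) (Fin (k + 1) ⊕ Fin (k + 1)) F)
    rw [diagGL_val, diagGL_val, Matrix.smul_mul, Matrix.one_mul, ← Matrix.diagonal_smul]
    congr 1
    funext i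
    rcases i with i | i
    · simp only [Sum.elim_inl, Pi.smul_apply, smul_eq_mul, Units.val_mul]
      rw [mul_comm, mul_assoc, ← Units.val_mul, inv_mul_cancel, Units.val_one, mul_one]
    · simp only [Sum.elim_inr, Pi.smul_apply, smul_eq_mul, Units.val_mul]
      rw [mul_comm, mul_assoc, ← Units.val_mul, inv_mul_cancel, Units.val_one, mul_one]
  have hsc : Phi ⇑(plusForm F (k + 1)) (scalarGO (plusForm F (k + 1)) s) = 1 :=
    (Phi_eq_one_iff (plusForm F (k + 1)) h2 hQ h5 _).mpr ⟨(s : F), scalarGO_val _ s⟩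
  have hPhi : Phi ⇑(plusForm F (k + 1)) (gfD k lam lam') = PhiO ⇑(plusForm F (k + 1)) h := by
    rw [hdec, map_mul, hsc, one_mul]
    rfl
  have hcard2 : Fintype.card F ≠ 2 := by
    intro hc
    apply h2
    have := Nat.cast_card_eq_zero F
    rw [hc] at this
    exact_mod_cast this
  have hΩ : h ∈ Cfsg.Omega F ⇑(plusForm F (k + 1)) ↔
      IsSquare (∏ i, ((gfE k lam lam' i * s⁻¹ : Fˣ) : F)) := by
    rw [hh]
    exact diagGL_mem_Omega_iff (by omega) (Or.inl hcard2) _ _ hef'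
  have hs0 : (s : F) ≠ 0 := Units.ne_zero s
  have hprod : ∏ i, ((gfE k lam lam' i * s⁻¹ : Fˣ) : F)
      = ((lam : F) * (s : F) ^ (k + 1)) * (((s⁻¹ : Fˣ) : F) * ((s⁻¹ : Fˣ) : F)) := by
    simp only [Units.val_mul]
    rw [Finset.prod_mul_distrib, prod_gfE, Finset.prod_const, Finset.card_univ, Fintype.card_fin]
    have hs' : (lam : F) * lam' = s * s := by
      rw [← Units.val_mul, ← Units.val_mul, hs]
    rw [hs']
    have h1 : (s : F) * ((s⁻¹ : Fˣ) : F) = 1 := by
      rw [← Units.val_mul, mul_inv_cancel, Units.val_one]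
    have h3 : ((s : F) * s) ^ k * ((s⁻¹ : Fˣ) : F) ^ (k + 1) = (s : F) ^ k * ((s⁻¹ : Fˣ) : F) := by
      rw [mul_pow, pow_succ, ← mul_assoc, mul_assoc ((s : F) ^ k), ← mul_pow, h1, one_pow,
        mul_one]
    have h4 : (s : F) ^ (k + 1) * (((s⁻¹ : Fˣ) : F) * ((s⁻¹ : Fˣ) : F))
        = (s : F) ^ k * ((s⁻¹ : Fˣ) : F) := by
      rw [pow_succ, mul_assoc, ← mul_assoc (s : F), h1, one_mul]
    calc ((s : F) * s) ^ k * lam * ((s⁻¹ : Fˣ) : F) ^ (k + 1)
        = lam * (((s : F) * s) ^ k * ((s⁻¹ : Fˣ) : F) ^ (k + 1)) := by ring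
      _ = lam * ((s : F) ^ (k + 1) * (((s⁻¹ : Fˣ) : F) * ((s⁻¹ : Fˣ) : F))) := by rw [h3, h4]
      _ = _ := by ring
  have hsq : IsSquare (∏ i, ((gfE k lam lam' i * s⁻¹ : Fˣ) : F)) ↔
      IsSquare ((lam : F) * (s : F) ^ (k + 1)) := by
    rw [hprod]
    constructor
    · rintro ⟨u, hu⟩
      refine ⟨u * s, ?_⟩
      have : ((s⁻¹ : Fˣ) : F) * (s : F) = 1 := by
        rw [← Units.val_mul, inv_mul_cancel, Units.val_one]
      calc (lam : F) * (s : F) ^ (k + 1)
          = ((lam : F) * (s : F) ^ (k + 1) * (((s⁻¹ : Fˣ) : F) * ((s⁻¹ : Fˣ) : F))) *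
            ((s : F) * s) := by
            linear_combination (-(lam : F) * (s : F) ^ (k + 1) *
              (((s⁻¹ : Fˣ) : F) * (s : F) + 1)) * this
        _ = u * s * (u * s) := by rw [hu]; ring
    · rintro ⟨u, hu⟩
      exact ⟨u * ((s⁻¹ : Fˣ) : F), by rw [hu]; ring⟩
  rw [hPhi, ← hsq, ← hΩ]
  constructor
  · intro hmem
    exact Cfsg.Agent.Helper8.AutImageD8.mem_Omega_of_PhiO_mem (plusForm F (k + 1)) h2 hQ h5
      hneg h hmem
  · intro hmem
    rw [Inn_eq']
    exact ⟨h, hmem, rfl⟩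

end GraphField

end Cfsg.Agent.Helper8.AutO
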