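import Mathlib
import Cfsg.Agent.Helper8.OmegaOdd

set_option autoImplicit false
set_option linter.unusedSectionVars false
set_option linter.style.haveILetI false

/-!
# Automorphisms of orthogonal groups, part Qm: squares in a quadratic extension of finite fields
of odd characteristic
-/

namespace Cfsg.Agent.Helper8.AutO

open Cfsg.Agent.Helper8.OmegaOdd

variable {F₀ : Type*} {F : Type*} [Field F₀] [Field F] (j : F₀ →+* F)

/-- an element whose norm to the fixed field of an involution is a nonsquare there is a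
nonsquare. -/
theorem not_isSquare_of_norm (σ : F ≃+* F) (hσσ : ∀ a : F, σ (σ a) = a)
    (hsurj : ∀ b, σ b = b → ∃ a, j a = b) {μ₀ : F₀} (hμ₀ : ¬ IsSquare μ₀) {lam : F}
    (hlam : lam * σ lam = j μ₀) : ¬ IsSquare lam := by
  rintro ⟨t, ht⟩
  apply hμ₀
  obtain ⟨u₀, hu₀⟩ := hsurj (t * σ t) (by rw [map_mul, hσσ, mul_comm])
  refine ⟨u₀, ?_⟩
  apply j.injective
  rw [map_mul, hu₀, ← hlam, ht, map_mul]
  ring

variable [Fintype F₀] [Fintype F]

/-- **a square root in the quadratic extension of a nonsquare of the small field** is a square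
iff the order of the small field is `3` modulo `4`. -/
theorem isSquare_sqrt_iff (h2 : (2 : F) ≠ 0) (hcard : Fintype.card F = Fintype.card F₀ ^ 2)
    {μ₀ : F₀} (hμ₀ : ¬ IsSquare μ₀) {s : F} (hs : s * s = j μ₀) :
    IsSquare s ↔ Fintype.card F₀ % 4 = 3 := by
  have h2₀ : (2 : F₀) ≠ 0 := by
    intro h
    apply h2
    have := congrArg j h
    rwa [map_ofNat, map_zero] at this
  have hchar : ringChar F ≠ 2 := by
    intro h
    apply h2
    have : ((ringChar F : ℕ) : F) = 0 := ringChar.Nat.cast_ringChar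
    rw [h] at this
    exact_mod_cast this
  have hchar₀ : ringChar F₀ ≠ 2 := by
    intro h
    apply h2₀
    have : ((ringChar F₀ : ℕ) : F₀) = 0 := ringChar.Nat.cast_ringChar
    rw [h] at this
    exact_mod_cast this
  have hμ0 : μ₀ ≠ 0 := by
    rintro rfl
    exact hμ₀ IsSquare.zero
  have hs0 : s ≠ 0 := by
    rintro rfl
    rw [mul_zero] at hs
    exact hμ0 ((map_eq_zero j).mp hs.symm)
  have hodd : Fintype.card F₀ % 2 = 1 := FiniteField.odd_card_of_char_ne_two hchar₀
  obtain ⟨a, ha⟩ : ∃ a, Fintype.card F₀ = 2 * a + 1 := ⟨Fintype.card F₀ / 2, by omega⟩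
  have ha2 : Fintype.card F₀ / 2 = a := by omega
  have hq2 : Fintype.card F / 2 = 2 * (a * (a + 1)) := by
    rw [hcard, ha]
    have : (2 * a + 1) ^ 2 = 2 * (2 * (a * (a + 1))) + 1 := by ring
    rw [this]
    omega
  have hμpow : μ₀ ^ a = -1 := by
    rcases FiniteField.pow_dichotomy hchar₀ hμ0 with h | h
    · exfalso
      apply hμ₀
      rw [FiniteField.isSquare_iff hchar₀ hμ0]
      exact h
    · rw [ha2] at h
      exact h
  have hspow : s ^ (Fintype.card F / 2) = (-1) ^ (a + 1) := by
    rw [hq2, pow_mul, pow_two, hs, ← map_pow, pow_mul, hμpow, map_pow, map_neg, map_one]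
  rw [FiniteField.isSquare_iff hchar hs0, hspow]
  have hne : (-1 : F) ≠ 1 := by
    intro h
    apply h2
    have : (2 : F) = 1 - (-1) := by ring
    rw [this, h, sub_self]
  rw [neg_one_pow_eq_one_iff_even hne]
  constructor
  · intro hev
    obtain ⟨b, hb⟩ := hev
    omega
  · intro h
    rw [ha] at h
    exact ⟨(a + 1) / 2, by omega⟩

/-- the order of a finite field of odd characteristic is `1` or `3` modulo `4`. -/
theorem card_mod_four (h2 : (2 : F₀) ≠ 0) :
    Fintype.card F₀ % 4 = 1 ∨ Fintype.card F₀ % 4 = 3 := by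
  have hchar₀ : ringChar F₀ ≠ 2 := by
    intro h
    apply h2
    have : ((ringChar F₀ : ℕ) : F₀) = 0 := ringChar.Nat.cast_ringChar
    rw [h] at this
    exact_mod_cast this
  have hodd : Fintype.card F₀ % 2 = 1 := FiniteField.odd_card_of_char_ne_two hchar₀
  omega

/-- the squareness criterion for the determinant attached to the diagonal similarity commuting
with the graph-field automorphism. -/
theorem isSquare_lam_mul_pow_iff (h2 : (2 : F) ≠ 0)
    (hcard : Fintype.card F = Fintype.card F₀ ^ 2)
    {μ₀ : F₀} (hμ₀ : ¬ IsSquare μ₀) {s : F} (hs : s * s = j μ₀) {lam : F}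
    (hlam : ¬ IsSquare lam) (n : ℕ) :
    IsSquare (lam * s ^ n) ↔ Odd n ∧ Fintype.card F₀ % 4 = 1 := by
  have h2₀ : (2 : F₀) ≠ 0 := by
    intro h
    apply h2
    have := congrArg j h
    rwa [map_ofNat, map_zero] at this
  have hlam0 : lam ≠ 0 := by
    rintro rfl
    exact hlam IsSquare.zero
  have hμ0 : μ₀ ≠ 0 := by
    rintro rfl
    exact hμ₀ IsSquare.zero
  have hs0 : s ≠ 0 := by
    rintro rfl
    rw [mul_zero] at hs
    exact hμ0 ((map_eq_zero j).mp hs.symm)
  have hsiff := isSquare_sqrt_iff j h2 hcard hμ₀ hs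
  rcases Nat.even_or_odd n with hev | hodd
  · constructor
    · intro h
      exfalso
      obtain ⟨t, ht⟩ := hev
      have h1 : IsSquare (s ^ n) := ⟨s ^ t, by rw [ht, pow_add]⟩
      have := not_isSquare_mul (pow_ne_zero n hs0) h1 hlam
      rw [mul_comm] at this
      exact this h
    · rintro ⟨h, -⟩
      exact absurd hev (Nat.not_even_iff_odd.mpr h)
  · obtain ⟨t, ht⟩ := hodd
    have hx0 : s ^ t * s ^ t ≠ 0 := mul_ne_zero (pow_ne_zero t hs0) (pow_ne_zero t hs0)
    have e : lam * s ^ n = (s ^ t * s ^ t) * (lam * s) := by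
      rw [ht, pow_succ, two_mul, pow_add]
      ring
    rw [e]
    have h1 : IsSquare ((s ^ t * s ^ t) * (lam * s)) ↔ IsSquare (lam * s) := by
      constructor
      · intro h
        by_contra hcon
        exact not_isSquare_mul hx0 ⟨s ^ t, rfl⟩ hcon h
      · rintro ⟨u, hu⟩
        exact ⟨s ^ t * u, by rw [hu]; ring⟩
    have h3 : IsSquare (lam * s) ↔ ¬ IsSquare s := by
      constructor
      · intro h hsq
        have := not_isSquare_mul hs0 hsq hlam
        rw [mul_comm] at this
        exact this h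
      · intro h
        exact isSquare_mul_of_not hlam0 hlam h
    rw [h1, h3, hsiff]
    have h4 := card_mod_four (F₀ := F₀) h2₀
    constructor
    · intro h
      refine ⟨⟨t, ht⟩, ?_⟩
      omega
    · rintro ⟨-, h⟩
      omega

end Cfsg.Agent.Helper8.AutO
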