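import Mathlib
import Cfsg.Agent.Helper8.AutOQl
import Cfsg.Agent.Helper8.AutOQk
import Cfsg.Agent.Helper8.AutOQm
import Cfsg.Agent.Helper8.AutOQi

set_option autoImplicit false
set_option linter.unusedSectionVars false
set_option linter.style.haveILetI false

/-!
# Automorphisms of orthogonal groups, part Qn: auxiliary facts on the twisted form (nondegeneracy,
base change, `-1 ∈ Ω`, similarities with nonsquare multiplier)
-/

namespace Cfsg.Agent.Helper8.AutO

open Module Matrix Cfsg.Agent.Helper8.QuadForm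
  Cfsg.Agent.Helper8.ReflMatrix
  Cfsg.Agent.Helper8.AutImagePsi Cfsg.Agent.Helper8.AutImageOrth
  Cfsg.Agent.Helper8.StdForms Cfsg.Agent.Helper8.AutImage Cfsg.Agent.Helper8.AutImageKer
  Cfsg.Agent.Helper8.AutImageIdx Cfsg.Agent.Helper8.Cls Cfsg.Agent.Helper8.Reflections
open Cfsg.Agent.Helper8.AutSLn (gls nrmGL nrmF unitsAut fixField)

section Forms

variable {K : Type*} [Field K] (k : ℕ)

/-- the minus-type form on the index set of the plus-type form, with anisotropic binary part, is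
nondegenerate. -/
theorem twForm_nondeg_of_aniso [Finite K] {a b : K}
    (hab : ∀ z₁ z₂ : K, z₁ ^ 2 + a * z₁ * z₂ + b * z₂ ^ 2 = 0 → z₁ = 0 ∧ z₂ = 0) :
    (QuadraticMap.polarBilin (twForm K k a b)).Nondegenerate := by
  rw [nondeg_iff]
  intro v hv
  have h1 : v ∘ (idxEquiv k).symm = 0 := by
    apply (nondeg_iff _).mp (minusForm_nondeg K k hab)
    intro w
    have := hv (w ∘ (idxEquiv k))
    unfold QuadraticMap.polar at this ⊢
    rw [twForm_apply, twForm_apply, twForm_apply] at this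
    have e1 : (w ∘ (idxEquiv k)) ∘ (idxEquiv k).symm = w := by
      funext i
      simp
    have e2 : (v + w ∘ (idxEquiv k)) ∘ (idxEquiv k).symm = v ∘ (idxEquiv k).symm + w := by
      funext i
      simp
    rw [e1, e2] at this
    exact this
  funext i
  have := congrFun h1 (idxEquiv k i)
  simpa using this

/-- the twisted form is not zero. -/
theorem twForm_ne (hk : 1 ≤ k) (a b : K) : ∃ v, twForm K k a b v ≠ 0 := by
  obtain ⟨w, hw⟩ := Cfsg.Agent.S2726.minus_ne hk a b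
  refine ⟨w ∘ (idxEquiv k), ?_⟩
  rw [twForm_apply]
  have e1 : (w ∘ (idxEquiv k)) ∘ (idxEquiv k).symm = w := by
    funext i
    simp
  rw [e1]
  exact hw

end Forms

section BaseChange

variable {F₀ : Type*} {F : Type*} [Field F₀] [Field F] (j : F₀ →+* F) (k : ℕ)

/-- base change of the twisted form. -/
theorem twForm_hvec (a₀ b₀ : F₀) (v : Fin (k + 1) ⊕ Fin (k + 1) → F₀) :
    twForm F k (j a₀) (j b₀) (hvec j v) = j (twForm F₀ k a₀ b₀ v) := by
  rw [twForm_apply, twForm_apply, minusForm_apply, minusForm_apply]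
  unfold Cfsg.quadFormMinus hvec
  simp only [map_add, map_pow, map_sum, map_mul, Function.comp_apply]

end BaseChange

section Transport

variable {F : Type*} [Field F] {ι : Type} [Fintype ι] [DecidableEq ι]
  (Qf Qf' : (ι → F) → F) (M₀ : GL ι F)
  (hM₀ : ∀ v, Qf' ((M₀ : Matrix ι ι F) *ᵥ v) = Qf v)

include hM₀ in
/-- the property `-1 ∈ Ω` is transported by a linear isometry. -/
theorem neg_one_mem_Omega_transport
    (hneg : ∃ g : ↥(Cfsg.isometryGroup F Qf), g ∈ Cfsg.Omega F Qf ∧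
      ((g : GL ι F) : Matrix ι ι F) = -1) :
    ∃ g : ↥(Cfsg.isometryGroup F Qf'), g ∈ Cfsg.Omega F Qf' ∧
      ((g : GL ι F) : Matrix ι ι F) = -1 := by
  obtain ⟨g, hg, hgm⟩ := hneg
  refine ⟨(omegaIso Qf Qf' M₀ hM₀ ⟨g, hg⟩ : ↥(Cfsg.Omega F Qf')),
    (omegaIso Qf Qf' M₀ hM₀ ⟨g, hg⟩).2, ?_⟩
  have h1 := omatF_omegaIso Qf Qf' M₀ hM₀ ⟨g, hg⟩
  unfold omatF at h1
  rw [h1]
  show (M₀ : Matrix ι ι F) * ((g : GL ι F) : Matrix ι ι F) * ((M₀⁻¹ : GL ι F) : Matrix ι ι F) = -1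
  rw [hgm, Matrix.mul_neg, Matrix.mul_one, Matrix.neg_mul, ← Units.val_mul, mul_inv_cancel,
    Units.val_one]

end Transport

section Plus

variable {F : Type*} [Field F] [Fintype F] (n : ℕ)

/-- `-1 ∈ Ω⁺` when `-1` is a square. -/
theorem neg_one_mem_Omega_plus (hn : 1 ≤ n) (h2 : (2 : F) ≠ 0) (hsq : IsSquare (-1 : F)) :
    ∃ g : ↥(Cfsg.isometryGroup F ⇑(plusForm F n)), g ∈ Cfsg.Omega F ⇑(plusForm F n) ∧
      ((g : GL (Fin n ⊕ Fin n) F) : Matrix (Fin n ⊕ Fin n) (Fin n ⊕ Fin n) F) = -1 := by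
  have hef : ∀ i : Fin n, (fun _ : Fin n => (-1 : Fˣ)) i * (fun _ : Fin n => (-1 : Fˣ)) i = 1 := by
    intro i
    show (-1 : Fˣ) * (-1) = 1
    rw [neg_mul_neg, one_mul]
  have hcard2 : Fintype.card F ≠ 2 := by
    intro hc
    apply h2
    have := Nat.cast_card_eq_zero F
    rw [hc] at this
    exact_mod_cast this
  refine ⟨⟨diagGL (fun _ : Fin n => (-1 : Fˣ)) (fun _ : Fin n => (-1 : Fˣ)),
    diagGL_mem_iso _ _ hef⟩, ?_, ?_⟩
  · rw [diagGL_mem_Omega_iff hn (Or.inl hcard2) _ _ hef]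
    simp only [Units.val_neg, Units.val_one, Finset.prod_const]
    obtain ⟨t, ht⟩ := hsq
    refine ⟨t ^ (Finset.univ : Finset (Fin n)).card, ?_⟩
    rw [ht, mul_pow]
  · show ((diagGL (fun _ : Fin n => (-1 : Fˣ)) (fun _ : Fin n => (-1 : Fˣ)) :
      GL (Fin n ⊕ Fin n) F) : Matrix (Fin n ⊕ Fin n) (Fin n ⊕ Fin n) F) = -1
    rw [diagGL_val, ← Matrix.diagonal_one, Matrix.diagonal_neg]
    congr 1
    funext i
    rcases i with i | i <;> simp

/-- a similarity of the plus-type form with prescribed multiplier. -/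
theorem exists_sim_mult_plus (hne : ∃ v, plusForm F n v ≠ 0) (c : Fˣ) :
    ∃ d : ↥(Cfsg.Geo.quadSimilarityGroup (F := F) ⇑(plusForm F n)),
      mult ⇑(plusForm F n) hne d = c := by
  have h : ∀ i : Fin n, (fun _ : Fin n => c) i * (fun _ : Fin n => (1 : Fˣ)) i = c := by
    intro i
    show c * 1 = c
    rw [mul_one]
  exact ⟨⟨diagGL (fun _ : Fin n => c) (fun _ : Fin n => (1 : Fˣ)), diagGL_mem_sim _ _ c h⟩,
    mult_eq_of _ hne _ (diagGL_spec _ _ c h)⟩

end Plus

section Lin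

variable {F : Type*} [Field F] [Fintype F] {ι : Type} [Fintype ι] [DecidableEq ι]
  (Q Q' : QuadraticForm F (ι → F))
  (hne : ∃ v, Q v ≠ 0) (hne' : ∃ v, Q' v ≠ 0)
  (A : GL ι F) (hA : ∀ v, Q' ((A : Matrix ι ι F) *ᵥ v) = Q v)

include hA in
/-- the multiplier is transported by a linear isometry. -/
theorem mult_conj_lin (g : ↥(Cfsg.Geo.quadSimilarityGroup (F := F) ⇑Q))
    (g' : ↥(Cfsg.Geo.quadSimilarityGroup (F := F) ⇑Q')) (hg' : (g' : GL ι F) = A * g * A⁻¹) :
    mult ⇑Q' hne' g' = mult ⇑Q hne g := by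
  apply mult_eq_of
  intro v
  rw [hg']
  exact conj_sim_spec Q Q' A hA (mult_spec ⇑Q hne g) v

end Lin

end Cfsg.Agent.Helper8.AutO
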