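import Mathlib
import Cfsg.Agent.Helper8.AutOza
import Cfsg.Agent.Helper8.AutOQn
import Cfsg.Agent.Helper8.AutOPc
import Cfsg.Agent.Helper8.POmegaCard
import Cfsg.Agent.Helper8.OmegaStd
import Cfsg.Agent.S2722

set_option autoImplicit false
set_option linter.unusedSectionVars false
set_option linter.style.haveILetI false

/-!
# The order of the automorphism group of `PΩ⁺_{2m}(q)`, `m ≥ 5`
-/

namespace Cfsg.Agent.Helper8.AutD4

open Module Matrix Cfsg.Agent.Helper8.QuadForm Cfsg.Agent.Helper8.StdForms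
  Cfsg.Agent.Helper8.AutO Cfsg.Agent.Helper8.AutImagePsi Cfsg.Agent.Helper8.AutImageOrth

variable {F : Type*} [Field F] [Fintype F]

/-- the order of the automorphism group of `PΩ⁺_{2m}(q)`, `m ≥ 5`, in terms of the order of the
orthogonal group. -/
theorem card_aut_POmega_plus {m : ℕ} (hm : 5 ≤ m) :
    Nat.card (MulAut (Cfsg.POmega F (Cfsg.quadFormPlus m F)))
      = Nat.card ↥(Cfsg.isometryGroup F (Cfsg.quadFormPlus m F)) * Nat.card (F ≃+* F) := by
  have e : ⇑(plusForm F m) = Cfsg.quadFormPlus m F := funext (plusForm_apply F m)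
  have hcard : Fintype.card (Fin m ⊕ Fin m) = 2 * m := by
    simp only [Fintype.card_sum, Fintype.card_fin]; ring
  rw [← e]
  have hne : ∃ v, plusForm F m v ≠ 0 := Cfsg.Agent.S2722.plus_ne (by omega)
  haveI : Nonempty (Fin m ⊕ Fin m) := ⟨Sum.inl ⟨0, by omega⟩⟩
  apply card_aut_POmega_of_surjective (plusForm F m) (plusForm_nondeg F m)
    (by rw [hcard]; omega) (Or.inl (by rw [hcard]; omega)) hne _
    (tau_range_eq_top (plusForm F m) (fun σ v => plusForm_sigma σ m v))
  intro c
  exact exists_sim_mult_plus m hne c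

/-- `-1 ∈ Ω⁺_{2n}(q)`, `q` odd, iff `n` is even or `q ≢ 3 (mod 4)`. -/
theorem neg_one_mem_Omega_plus_iff {n : ℕ} (hn : 1 ≤ n) (h2 : (2 : F) ≠ 0) :
    (∃ g : ↥(Cfsg.isometryGroup F ⇑(plusForm F n)), g ∈ Cfsg.Omega F ⇑(plusForm F n) ∧
      ((g : GL (Fin n ⊕ Fin n) F) : Matrix (Fin n ⊕ Fin n) (Fin n ⊕ Fin n) F) = -1)
      ↔ (Even n ∨ Fintype.card F % 4 ≠ 3) := by
  have hef : ∀ i : Fin n, (fun _ : Fin n => (-1 : Fˣ)) i * (fun _ : Fin n => (-1 : Fˣ)) i = 1 := by
    intro i
    show (-1 : Fˣ) * (-1) = 1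
    rw [neg_mul_neg, one_mul]
  have hcard2 : Fintype.card F ≠ 2 := by
    intro hc
    apply h2
    have := Nat.cast_card_eq_zero F
    rw [hc] at this
    exact_mod_cast this
  have hval : ((diagGL (fun _ : Fin n => (-1 : Fˣ)) (fun _ : Fin n => (-1 : Fˣ)) :
      GL (Fin n ⊕ Fin n) F) : Matrix (Fin n ⊕ Fin n) (Fin n ⊕ Fin n) F) = -1 := by
    rw [diagGL_val, ← Matrix.diagonal_one, Matrix.diagonal_neg]
    congr 1
    funext i
    rcases i with i | i <;> simp
  have hiff := diagGL_mem_Omega_iff hn (Or.inl hcard2) (fun _ : Fin n => (-1 : Fˣ))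
    (fun _ : Fin n => (-1 : Fˣ)) hef
  have hprod : (∏ i : Fin n, (((fun _ : Fin n => (-1 : Fˣ)) i : Fˣ) : F)) = (-1 : F) ^ n := by
    simp only [Units.val_neg, Units.val_one, Finset.prod_const, Finset.card_univ,
      Fintype.card_fin]
  rw [hprod] at hiff
  have hsq : IsSquare ((-1 : F) ^ n) ↔ (Even n ∨ Fintype.card F % 4 ≠ 3) := by
    rw [← FiniteField.isSquare_neg_one_iff]
    constructor
    · intro h
      rcases Nat.even_or_odd n with he | ho
      · exact Or.inl he
      · right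
        rwa [ho.neg_one_pow] at h
    · rintro (he | h)
      · rw [he.neg_one_pow]
        exact ⟨1, by rw [one_mul]⟩
      · exact h.pow n
  rw [← hsq, ← hiff]
  constructor
  · rintro ⟨g, hg, hm⟩
    have : g = ⟨diagGL (fun _ : Fin n => (-1 : Fˣ)) (fun _ : Fin n => (-1 : Fˣ)),
        diagGL_mem_iso _ _ hef⟩ := by
      apply Subtype.ext
      apply Units.ext
      rw [hm]
      exact hval.symm
    rwa [this] at hg
  · intro h
    exact ⟨_, h, hval⟩

/-- **`|Aut(PΩ⁺_{2m}(q))|` for `m ≥ 5`.** -/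
theorem card_aut_plus_big (p f : ℕ) [Fact p.Prime] (hF : Fintype.card F = p ^ f) {m : ℕ}
    (hm : 5 ≤ m) :
    Nat.card (MulAut (Cfsg.POmega F (Cfsg.quadFormPlus m F)))
      = (if p = 2 then 2 else (if Even (m * (p ^ f - 1) / 2) then 8 else 4)) * f *
        Nat.card (Cfsg.POmega F (Cfsg.quadFormPlus m F)) := by
  have hc : CharP F p := charP_of_card_eq_prime_pow hF
  rw [card_aut_POmega_plus hm, Cfsg.Agent.Helper7.FieldAutCard.card_ringAut p f hF]
  have e : ⇑(plusForm F m) = Cfsg.quadFormPlus m F := funext (plusForm_apply F m)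
  have hcard : Fintype.card (Fin m ⊕ Fin m) = 2 * m := by
    simp only [Fintype.card_sum, Fintype.card_fin]; ring
  have hQ := plusForm_nondeg F m
  by_cases hp2 : p = 2
  · rw [if_pos hp2]
    subst hp2
    have h2 : (2 : F) = 0 := by
      have := CharP.cast_eq_zero F 2
      exact_mod_cast this
    have h1 := Cfsg.Agent.Helper8.POmegaCard.card_pomega_even (plusForm F m) h2 hQ
      (by rw [hcard]; omega) (Or.inr (by rw [hcard]; omega))
    rw [e] at h1
    rw [← h1]
    ring
  · rw [if_neg hp2]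
    have hpodd : Odd p := (Fact.out : p.Prime).odd_of_ne_two hp2
    have hqodd : Odd (Fintype.card F) := by rw [hF]; exact hpodd.pow
    have h2 : (2 : F) ≠ 0 := by
      intro h0
      have h1 : ((2 : ℕ) : F) = 0 := by exact_mod_cast h0
      have h3 := (CharP.cast_eq_zero_iff F p 2).mp h1
      exact hp2 ((Nat.prime_dvd_prime_iff_eq Fact.out Nat.prime_two).mp h3)
    obtain ⟨hA, hB⟩ := Cfsg.Agent.Helper8.POmegaCard.card_pomega_odd (plusForm F m) h2 hQ
      (by rw [hcard]; omega)
    have hiff := neg_one_mem_Omega_plus_iff (F := F) (n := m) (by omega) h2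
    have hev := Cfsg.Agent.S2620.even_iff m (Fintype.card F) hqodd
    rw [← hF]
    by_cases hE : Even (m * (Fintype.card F - 1) / 2)
    · rw [if_pos hE]
      have h3 := hA (hiff.mpr (hev.mp hE))
      rw [e] at h3
      rw [← h3]
      ring
    · rw [if_neg hE]
      have h3 := hB (fun hex => hE (hev.mpr (hiff.mp hex)))
      rw [e] at h3
      rw [← h3]
      ring

end Cfsg.Agent.Helper8.AutD4
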