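import Mathlib
import Cfsg.Agent.Helper8.AutOzh
import Cfsg.Agent.Helper8.AutOx
import Cfsg.Agent.Helper8.AutImageIdx
import Cfsg.Agent.Helper8.OmegaCrit

set_option autoImplicit false
set_option linter.unusedSectionVars false
set_option linter.style.haveILetI false

/-!
# Automorphisms of orthogonal groups, part zi: the image of the conformal group modulo the inner
automorphisms in odd dimension
-/

namespace Cfsg.Agent.Helper8.AutO

open Module Matrix Cfsg.Agent.Helper8.QuadForm Cfsg.Agent.Helper8.WittQuad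
  Cfsg.Agent.Helper8.OrthOrder
  Cfsg.Agent.Helper8.ReflMatrix
  Cfsg.Agent.Helper8.AutImagePsi Cfsg.Agent.Helper8.AutImageOrth
  Cfsg.Agent.Helper8.AutImage Cfsg.Agent.Helper8.AutImageKer
  Cfsg.Agent.Helper8.AutImageIdx Cfsg.Agent.Helper8.OmegaOdd Cfsg.Agent.Helper8.OmegaCrit

variable {F : Type*} [Field F] [Fintype F] {ι : Type} [Fintype ι] [DecidableEq ι]
  (Q : QuadraticForm F (ι → F))

/-- in odd dimension every similarity is a scalar times an isometry. -/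
theorem exists_scalar_mul_isometry (hQ : (QuadraticMap.polarBilin Q).Nondegenerate)
    (hne : ∃ v, Q v ≠ 0) (hodd : Odd (Fintype.card ι))
    (g : ↥(Cfsg.Geo.quadSimilarityGroup (F := F) ⇑Q)) :
    ∃ (d : Fˣ) (h : ↥(Cfsg.isometryGroup F ⇑Q)),
      g = scalarGO Q d * Subgroup.inclusion (isometry_le_similarity ⇑Q) h := by
  have h1 : mult ⇑Q hne g ∈ (mult ⇑Q hne).range := ⟨g, rfl⟩
  rw [range_mult_odd Q hQ hne hodd] at h1
  obtain ⟨d, hd⟩ := h1
  rw [powMonoidHom_apply] at hd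
  have h2 : mult ⇑Q hne ((scalarGO Q d)⁻¹ * g) = 1 := by
    rw [map_mul, map_inv, mult_of_scalar Q hne _ d (scalarGO_val Q d), ← hd, pow_two,
      inv_mul_cancel]
  refine ⟨d, ⟨(((scalarGO Q d)⁻¹ * g : ↥(Cfsg.Geo.quadSimilarityGroup (F := F) ⇑Q)) : GL ι F),
    isometry_of_mult ⇑Q hne _ h2⟩, ?_⟩
  apply Subtype.ext
  show (g : GL ι F) = (scalarGO Q d : GL ι F) * (((scalarGO Q d)⁻¹ * g :
    ↥(Cfsg.Geo.quadSimilarityGroup (F := F) ⇑Q)) : GL ι F)
  rw [Subgroup.coe_mul, Subgroup.coe_inv, mul_inv_cancel_left]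

theorem Phi_scalarGO (h2 : (2 : F) ≠ 0) (hQ : (QuadraticMap.polarBilin Q).Nondegenerate)
    (h5 : 5 ≤ Fintype.card ι) (d : Fˣ) : Phi ⇑Q (scalarGO Q d) = 1 :=
  (Phi_eq_one_iff Q h2 hQ h5 _).mpr ⟨(d : F), scalarGO_val Q d⟩

theorem PhiO_negO (h2 : (2 : F) ≠ 0) (hQ : (QuadraticMap.polarBilin Q).Nondegenerate)
    (h5 : 5 ≤ Fintype.card ι) : PhiO ⇑Q (negO Q) = 1 :=
  (PhiO_eq_one_iff Q h2 hQ h5 _).mpr (Or.inr (negO_val Q))

/-- in odd dimension `-1` has determinant `-1`. -/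
theorem det_negO (hodd : Odd (Fintype.card ι)) :
    ((negO Q : GL ι F) : Matrix ι ι F).det = -1 := by
  rw [negO_val, Matrix.det_neg, Matrix.det_one, hodd.neg_one_pow, mul_one]

theorem det_isometry (hQ : (QuadraticMap.polarBilin Q).Nondegenerate)
    (h : ↥(Cfsg.isometryGroup F ⇑Q)) :
    ((h : GL ι F) : Matrix ι ι F).det = 1 ∨ ((h : GL ι F) : Matrix ι ι F).det = -1 := by
  have h1 := det_sq Q hQ ((h : GL ι F) : Matrix ι ι F) 1 (fun v => by
    rw [one_mul]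
    exact (mem_isometryGroup_iff' ⇑Q _).mp h.2 v)
  rw [one_pow] at h1
  have h3 : (((h : GL ι F) : Matrix ι ι F).det - 1) * (((h : GL ι F) : Matrix ι ι F).det + 1)
      = 0 := by linear_combination h1
  rcases mul_eq_zero.mp h3 with h4 | h4
  · left
    exact sub_eq_zero.mp h4
  · right
    exact eq_neg_of_add_eq_zero_left h4

/-- in odd dimension the image of the conformal group is the image of the special orthogonal
group. -/
theorem exists_special_of_mem_pgoAut (h2 : (2 : F) ≠ 0)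
    (hQ : (QuadraticMap.polarBilin Q).Nondegenerate) (h5 : 5 ≤ Fintype.card ι)
    (hne : ∃ v, Q v ≠ 0) (hodd : Odd (Fintype.card ι)) {b : MulAut (Cfsg.POmega F ⇑Q)}
    (hb : b ∈ Cfsg.pgoAut F ⇑Q) :
    ∃ h : ↥(Cfsg.isometryGroup F ⇑Q), h ∈ Cfsg.specialIsometryGroup F ⇑Q ∧ b = PhiO ⇑Q h := by
  rw [pgoAut_eq] at hb
  obtain ⟨g, rfl⟩ := hb
  obtain ⟨d, h, rfl⟩ := exists_scalar_mul_isometry Q hQ hne hodd g
  have h3 : Phi ⇑Q (scalarGO Q d * Subgroup.inclusion (isometry_le_similarity ⇑Q) h)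
      = PhiO ⇑Q h := by
    rw [map_mul, Phi_scalarGO Q h2 hQ h5, one_mul]
    rfl
  rcases det_isometry Q hQ h with h4 | h4
  · exact ⟨h, (Cfsg.Agent.Helper8.SOIndexTwo.mem_special_iff Q h).mpr h4, h3⟩
  · refine ⟨negO Q * h, ?_, ?_⟩
    · rw [Cfsg.Agent.Helper8.SOIndexTwo.mem_special_iff, Subgroup.coe_mul, Units.val_mul,
        Matrix.det_mul, det_negO Q hodd, h4]
      ring
    · rw [h3, map_mul, PhiO_negO Q h2 hQ h5, one_mul]

/-- in odd dimension, a special isometry induces an inner automorphism iff it lies in `Ω`. -/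
theorem PhiO_mem_Inn_iff (h2 : (2 : F) ≠ 0) (hQ : (QuadraticMap.polarBilin Q).Nondegenerate)
    (h5 : 5 ≤ Fintype.card ι) (hodd : Odd (Fintype.card ι))
    {h : ↥(Cfsg.isometryGroup F ⇑Q)} (hh : h ∈ Cfsg.specialIsometryGroup F ⇑Q) :
    PhiO ⇑Q h ∈ Cfsg.Inn (Cfsg.POmega F ⇑Q) ↔ h ∈ Cfsg.Omega F ⇑Q := by
  rw [Inn_eq']
  constructor
  · rintro ⟨s, hs, hsh⟩
    have hle : commutator ↥(Cfsg.isometryGroup F ⇑Q) ≤ Cfsg.specialIsometryGroup F ⇑Q :=
      Abelianization.commutator_subset_ker _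
    have h1 : PhiO ⇑Q (s⁻¹ * h) = 1 := by rw [map_mul, map_inv, hsh, inv_mul_cancel]
    have h3 : s⁻¹ * h ∈ Cfsg.specialIsometryGroup F ⇑Q :=
      Subgroup.mul_mem _ (Subgroup.inv_mem _ (hle hs)) hh
    rcases (PhiO_eq_one_iff Q h2 hQ h5 _).mp h1 with h4 | h4
    · have := eq_one_of_val Q h4
      rw [inv_mul_eq_one] at this
      rw [← this]
      exact hs
    · exfalso
      have h6 := (Cfsg.Agent.Helper8.SOIndexTwo.mem_special_iff Q _).mp h3
      rw [h4, Matrix.det_neg, Matrix.det_one, hodd.neg_one_pow, mul_one] at h6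
      apply h2
      have : (2 : F) = 1 - (-1) := by ring
      rw [this, h6, sub_self]
  · intro hh'
    exact Subgroup.mem_map_of_mem _ hh'

theorem Inn_le_pgoAut : Cfsg.Inn (Cfsg.POmega F ⇑Q) ≤ Cfsg.pgoAut F ⇑Q := by
  rw [Inn_eq', pgoAut_eq]
  rintro _ ⟨s, -, rfl⟩
  exact ⟨_, rfl⟩

/-- **in odd dimension the inner automorphisms have index two in the image of the conformal
group.** -/
theorem relIndex_Inn_pgoAut_odd (h2 : (2 : F) ≠ 0)
    (hQ : (QuadraticMap.polarBilin Q).Nondegenerate) (h5 : 5 ≤ Fintype.card ι)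
    (hne : ∃ v, Q v ≠ 0) (hodd : Odd (Fintype.card ι)) :
    (Cfsg.Inn (Cfsg.POmega F ⇑Q)).relIndex (Cfsg.pgoAut F ⇑Q) = 2 := by
  have hidx := relIndex_two Q h2 hQ h5
  obtain ⟨r, hrS, hrΩ, hall⟩ := Subgroup.relIndex_eq_two_iff_exists_notMem_and'.mp hidx
  rw [Subgroup.relIndex_eq_two_iff_exists_notMem_and']
  refine ⟨PhiO ⇑Q r, ?_, ?_, ?_⟩
  · rw [pgoAut_eq]
    exact ⟨_, rfl⟩
  · intro hmem
    exact hrΩ ((PhiO_mem_Inn_iff Q h2 hQ h5 hodd hrS).mp hmem)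
  · intro b hb
    obtain ⟨h, hh, rfl⟩ := exists_special_of_mem_pgoAut Q h2 hQ h5 hne hodd hb
    rcases hall h hh with h3 | h3
    · left
      rw [← map_mul]
      exact (PhiO_mem_Inn_iff Q h2 hQ h5 hodd (Subgroup.mul_mem _ hrS hh)).mpr h3
    · right
      exact (PhiO_mem_Inn_iff Q h2 hQ h5 hodd hh).mpr h3

end Cfsg.Agent.Helper8.AutO
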