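import Mathlib
import Cfsg.Agent.Helper8.AutOzi
import Cfsg.Agent.Helper8.SplitClassA

set_option autoImplicit false
set_option linter.unusedSectionVars false
set_option linter.style.haveILetI false

/-!
# Automorphisms of orthogonal groups, part zj: the classes of a standard field automorphism under
the image of the conformal group and under the inner automorphisms, odd dimension
-/

namespace Cfsg.Agent.Helper8.AutO

open Module Matrix Cfsg.Agent.Helper8.QuadForm Cfsg.Agent.Helper8.WittQuad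
  Cfsg.Agent.Helper8.OrthOrder
  Cfsg.Agent.Helper8.ReflMatrix
  Cfsg.Agent.Helper8.AutImagePsi Cfsg.Agent.Helper8.AutImageOrth
  Cfsg.Agent.Helper8.AutImage Cfsg.Agent.Helper8.AutImageKer
  Cfsg.Agent.Helper8.AutImageIdx Cfsg.Agent.Helper8.OmegaOdd Cfsg.Agent.Helper8.OmegaCrit
open Cfsg.Agent.Helper8.AutSLn (gls nrmGL nrmF unitsAut fixField)

section Squares

variable {F₀ : Type*} {F : Type*} [Field F₀] [Field F] (j : F₀ →+* F)

theorem nrmF_of_fixed (σ : F ≃+* F) (c : Fˣ) (hc : unitsAut σ c = c) (k : ℕ) :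
    nrmF σ c k = c ^ k := by
  induction k with
  | zero =>
    rw [pow_zero]
    rfl
  | succ k ih =>
    have h1 : nrmF σ c (k + 1) = c * unitsAut σ (nrmF σ c k) := rfl
    rw [h1, ih, map_pow, hc, pow_succ']

/-- a nonsquare of the fixed field of an automorphism of odd order stays a nonsquare. -/
theorem not_isSquare_map_of_odd (σ : F ≃+* F) {r : ℕ} (hodd : Odd r) (hσr : σ ^ r = 1)
    (hfix : ∀ a, σ (j a) = j a) (hsurj : ∀ b, σ b = b → ∃ a, j a = b) {a : F₀}
    (ha : ¬ IsSquare a) : ¬ IsSquare (j a) := by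
  rintro ⟨t, ht⟩
  have ha0 : a ≠ 0 := by
    rintro rfl
    exact ha IsSquare.zero
  have hja0 : j a ≠ 0 := (map_ne_zero j).mpr ha0
  have ht0 : t ≠ 0 := by
    rintro rfl
    rw [mul_zero] at ht
    exact hja0 ht
  obtain ⟨c, hc⟩ : ∃ c : Fˣ, (c : F) = t := ⟨Units.mk0 t ht0, rfl⟩
  obtain ⟨b, hb⟩ : ∃ b : Fˣ, (b : F) = j a := ⟨Units.mk0 _ hja0, rfl⟩
  have hbc : b = c * c := by
    apply Units.ext
    rw [hb, Units.val_mul, hc, ht]
  have hbfix : unitsAut σ b = b := by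
    apply Units.ext
    rw [Cfsg.Agent.Helper8.AutSLn.unitsAut_coe, hb, hfix]
  have h1 : nrmF σ c r * nrmF σ c r = b ^ r := by
    rw [← Cfsg.Agent.Helper8.AutSLn.nrmF_mul, ← hbc, nrmF_of_fixed σ b hbfix]
  have h2 : σ ((nrmF σ c r : Fˣ) : F) = ((nrmF σ c r : Fˣ) : F) := by
    have := Cfsg.Agent.Helper8.AutSLn.unitsAut_nrmF σ hσr c
    exact congrArg Units.val this
  obtain ⟨n₀, hn₀⟩ := hsurj _ h2
  have h3 : n₀ * n₀ = a ^ r := by
    apply j.injective
    rw [map_mul, hn₀, map_pow, ← hb, ← Units.val_mul, h1, Units.val_pow_eq_pow_val]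
  obtain ⟨k, hk⟩ := hodd
  apply ha
  refine ⟨n₀ / a ^ k, ?_⟩
  have hak : a ^ k ≠ 0 := pow_ne_zero _ ha0
  rw [hk, pow_succ, pow_mul'] at h3
  field_simp
  linear_combination -h3

/-- every element of a subfield of index two of a finite field of odd characteristic is a
square. -/
theorem isSquare_map_of_card_sq [Fintype F₀] [Fintype F] (h2 : (2 : F) ≠ 0)
    (hcard : Fintype.card F = Fintype.card F₀ ^ 2) (a : F₀) : IsSquare (j a) := by
  by_cases ha0 : a = 0
  · rw [ha0, map_zero]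
    exact IsSquare.zero
  have hchar : ringChar F ≠ 2 := by
    intro h
    apply h2
    have : ((ringChar F : ℕ) : F) = 0 := ringChar.Nat.cast_ringChar
    rw [h] at this
    exact_mod_cast this
  have h2₀ : (2 : F₀) ≠ 0 := by
    intro h
    apply h2
    have := congrArg j h
    rwa [map_ofNat, map_zero] at this
  have hodd₀ : Fintype.card F₀ % 2 = 1 := by
    by_contra hcon
    have hchar₀ : ringChar F₀ = 2 :=
      FiniteField.even_card_iff_char_two.mpr (by omega)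
    apply h2₀
    have : ((ringChar F₀ : ℕ) : F₀) = 0 := ringChar.Nat.cast_ringChar
    rw [hchar₀] at this
    exact_mod_cast this
  rw [FiniteField.isSquare_iff hchar ((map_ne_zero j).mpr ha0)]
  obtain ⟨q₀, hq₀⟩ : ∃ q₀, q₀ = Fintype.card F₀ := ⟨_, rfl⟩
  rw [← hq₀] at hodd₀ hcard
  obtain ⟨k, hk⟩ : ∃ k, q₀ = 2 * k + 1 := ⟨q₀ / 2, by omega⟩
  have h3 : Fintype.card F / 2 = (q₀ - 1) * (k + 1) := by
    rw [hcard, hk]
    have : (2 * k + 1) ^ 2 = 2 * ((2 * k + 1 - 1) * (k + 1)) + 1 := by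
      have : 2 * k + 1 - 1 = 2 * k := by omega
      rw [this]
      ring
    omega
  rw [h3, pow_mul, ← map_pow, hq₀, FiniteField.pow_card_sub_one_eq_one a ha0, map_one, one_pow]

end Squares

variable {F₀ : Type*} {F : Type*} [Field F₀] [Field F] [Fintype F₀] [Fintype F] (j : F₀ →+* F)
  {ι : Type} [Fintype ι] [DecidableEq ι]
  (Q₀ : QuadraticForm F₀ (ι → F₀)) (Q : QuadraticForm F (ι → F))
  (hj : ∀ v : ι → F₀, Q (hvec j v) = j (Q₀ v))

theorem subHomO_inclusion (h₀ : ↥(Cfsg.isometryGroup F₀ ⇑Q₀)) :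
    subHomO j Q₀ Q hj (Subgroup.inclusion (isometry_le_similarity ⇑Q₀) h₀) =
      PhiO ⇑Q (isoMap j Q₀ Q hj h₀) := rfl

theorem isoMap_negO : isoMap j Q₀ Q hj (negO Q₀) = negO Q := by
  apply eq_negO
  rw [coe_isoMap]
  show ((negO Q₀ : GL ι F₀) : Matrix ι ι F₀).map j = -1
  rw [negO_val]
  ext i k
  rw [Matrix.map_apply, Matrix.neg_apply, Matrix.neg_apply, Matrix.one_apply, Matrix.one_apply]
  by_cases hik : i = k
  · rw [if_pos hik, if_pos hik, map_neg, map_one]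
  · rw [if_neg hik, if_neg hik]
    simp

include hj in
theorem two_ne_zero_sub (h2 : (2 : F) ≠ 0) : (2 : F₀) ≠ 0 := by
  intro h
  apply h2
  have := congrArg j h
  rwa [map_ofNat, map_zero] at this

/-- if every element of the subfield is a square, the conformal group over the subfield induces
inner automorphisms only. -/
theorem range_subHomO_le_Inn (h2 : (2 : F) ≠ 0)
    (hQ₀ : (QuadraticMap.polarBilin Q₀).Nondegenerate)
    (hQ : (QuadraticMap.polarBilin Q).Nondegenerate) (h5 : 5 ≤ Fintype.card ι)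
    (hne₀ : ∃ v₀, Q₀ v₀ ≠ 0) (hodd : Odd (Fintype.card ι))
    (hsq : ∀ a : F₀, IsSquare (j a)) :
    (subHomO j Q₀ Q hj).range ≤ Cfsg.Inn (Cfsg.POmega F ⇑Q) := by
  have h2₀ : (2 : F₀) ≠ 0 := two_ne_zero_sub j Q₀ Q hj h2
  obtain ⟨e, he⟩ := exists_nonsquare (F := F) h2
  have he0 : e ≠ 0 := by
    rintro rfl
    exact he IsSquare.zero
  have hcomm := (commutator_eq Q h2 hQ (by omega) he).2
  -- the second character is trivial on the subfield group
  have hχe : ∀ h₀ : ↥(Cfsg.isometryGroup F₀ ⇑Q₀), chi Q e (isoMap j Q₀ Q hj h₀) = 1 := by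
    intro h₀
    have h1 : h₀ ∈ ((chi Q e).comp (isoMap j Q₀ Q hj)).ker := by
      have h3 : Subgroup.closure {g : ↥(Cfsg.isometryGroup F₀ ⇑Q₀) |
          ∃ z, Q₀ z ≠ 0 ∧ g = reflElt Q₀ z} ≤ ((chi Q e).comp (isoMap j Q₀ Q hj)).ker := by
        rw [Subgroup.closure_le]
        rintro _ ⟨z, hz, rfl⟩
        show (chi Q e) (isoMap j Q₀ Q hj (reflElt Q₀ z)) = 1
        rw [isoMap_reflElt]
        have hz' : Q (hvec j z) ≠ 0 := by
          rw [hj]
          exact (map_ne_zero j).mpr hz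
        apply (chi_reflElt Q h2 he0 hz').2
        rw [hj, mul_comm]
        exact not_isSquare_mul ((map_ne_zero j).mpr hz) (hsq _) he
      apply h3
      rw [closure_reflElt Q₀ h2₀ hQ₀]
      exact Subgroup.mem_top _
    exact h1
  have hnegO : chi Q 1 (negO Q) = -1 := by
    have h1 : chi Q e (negO Q) = 1 := by
      rw [← isoMap_negO j Q₀ Q hj]
      exact hχe _
    rcases units_cases (chi Q 1 (negO Q)) with h3 | h3
    · exfalso
      exact not_neg_one_mem_Omega Q h2 hodd ⟨negO Q, (hcomm _).mpr ⟨h3, h1⟩, negO_val Q⟩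
    · exact h3
  rintro _ ⟨g₀, rfl⟩
  obtain ⟨d₀, h₀, rfl⟩ := exists_scalar_mul_isometry Q₀ hQ₀ hne₀ hodd g₀
  have h3 : subHomO j Q₀ Q hj (scalarGO Q₀ d₀) = 1 := by
    rw [← MonoidHom.mem_ker, ker_subHomO j Q₀ Q hj h2 hQ₀ hQ h5, MonoidHom.mem_ker]
    exact Phi_scalarGO Q₀ h2₀ hQ₀ h5 d₀
  rw [map_mul, h3, one_mul, subHomO_inclusion, Inn_eq']
  rcases units_cases (chi Q 1 (isoMap j Q₀ Q hj h₀)) with h4 | h4
  · exact Subgroup.mem_map_of_mem _ ((hcomm _).mpr ⟨h4, hχe h₀⟩)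
  · have h5' : negO Q * isoMap j Q₀ Q hj h₀ ∈ Cfsg.Omega F ⇑Q := by
      apply (hcomm _).mpr
      constructor
      · rw [map_mul, hnegO, h4]
        rfl
      · rw [map_mul, ← isoMap_negO j Q₀ Q hj, hχe, hχe, one_mul]
    have h6 := Subgroup.mem_map_of_mem (PhiO ⇑Q) h5'
    rw [map_mul, PhiO_negO Q h2 hQ h5, one_mul] at h6
    exact h6

/-- if the nonsquares of the subfield stay nonsquares, some element of the conformal group over the
subfield induces a non-inner automorphism. -/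
theorem exists_range_subHomO_not_Inn (h2 : (2 : F) ≠ 0)
    (hQ₀ : (QuadraticMap.polarBilin Q₀).Nondegenerate)
    (hQ : (QuadraticMap.polarBilin Q).Nondegenerate) (h5 : 5 ≤ Fintype.card ι)
    (hodd : Odd (Fintype.card ι))
    (hnsq : ∀ a : F₀, ¬ IsSquare a → ¬ IsSquare (j a)) :
    ∃ b ∈ (subHomO j Q₀ Q hj).range, b ∉ Cfsg.Inn (Cfsg.POmega F ⇑Q) := by
  have h2₀ : (2 : F₀) ≠ 0 := two_ne_zero_sub j Q₀ Q hj h2
  obtain ⟨e₀, he₀⟩ := exists_nonsquare (F := F₀) h2₀
  have he₀0 : e₀ ≠ 0 := by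
    rintro rfl
    exact he₀ IsSquare.zero
  have hnd₀ := (nondeg_iff Q₀).mp hQ₀
  have hdim₀ : 2 ≤ finrank F₀ (ι → F₀) := by
    rw [Module.finrank_fintype_fun_eq_card]; omega
  obtain ⟨u₀, hu₀⟩ := exists_repr Q₀ hnd₀ hdim₀ 1
  obtain ⟨v₀, hv₀⟩ := exists_repr Q₀ hnd₀ hdim₀ e₀
  have hu : Q (hvec j u₀) = 1 := by rw [hj, hu₀, map_one]
  have hv : Q (hvec j v₀) = j e₀ := by rw [hj, hv₀]
  have hv0 : Q (hvec j v₀) ≠ 0 := by
    rw [hv]
    exact (map_ne_zero j).mpr he₀0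
  obtain ⟨h₀, hh₀⟩ : ∃ h₀ : ↥(Cfsg.isometryGroup F₀ ⇑Q₀),
    h₀ = reflElt Q₀ u₀ * reflElt Q₀ v₀ := ⟨_, rfl⟩
  have himg : isoMap j Q₀ Q hj h₀ = reflElt Q (hvec j u₀) * reflElt Q (hvec j v₀) := by
    rw [hh₀, map_mul, isoMap_reflElt, isoMap_reflElt]
  refine ⟨subHomO j Q₀ Q hj (Subgroup.inclusion (isometry_le_similarity ⇑Q₀) h₀), ⟨_, rfl⟩, ?_⟩
  rw [subHomO_inclusion, himg]
  have hspecial : reflElt Q (hvec j u₀) * reflElt Q (hvec j v₀) ∈
      Cfsg.specialIsometryGroup F ⇑Q := by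
    rw [Cfsg.Agent.Helper8.SOIndexTwo.mem_special_iff, Subgroup.coe_mul, Units.val_mul,
      Matrix.det_mul, reflElt_val, reflElt_val, det_reflectionMatrix Q (by rw [hu]; exact one_ne_zero),
      det_reflectionMatrix Q hv0]
    ring
  rw [PhiO_mem_Inn_iff Q h2 hQ h5 hodd hspecial]
  have hcrit := prod_reflElt_mem_iff Q h2 hQ (by omega) [hvec j u₀, hvec j v₀] (by
    intro z hz
    rcases List.mem_cons.mp hz with rfl | hz
    · rw [hu]; exact one_ne_zero
    · rcases List.mem_cons.mp hz with rfl | hz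
      · exact hv0
      · exact absurd hz List.not_mem_nil)
  simp only [List.map_cons, List.map_nil, List.prod_cons, List.prod_nil, mul_one] at hcrit
  intro hmem
  have h3 := (hcrit.mp hmem).2
  rw [hu, one_mul, hv] at h3
  exact hnsq e₀ he₀ h3

end Cfsg.Agent.Helper8.AutO
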