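import Mathlib
import Cfsg.Agent.Helper8.AutOzj

set_option autoImplicit false
set_option linter.unusedSectionVars false
set_option linter.style.haveILetI false

/-!
# Automorphisms of orthogonal groups, part zk: the field automorphisms of prime order of
`Ω_{2m+1}(q)`, `q` odd: centraliser in the inner-diagonal group and splitting of the class
-/

namespace Cfsg.Agent.Helper8.AutO

open Module Matrix Cfsg.Agent.Helper8.QuadForm Cfsg.Agent.Helper8.WittQuad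
  Cfsg.Agent.Helper8.OrthOrder
  Cfsg.Agent.Helper8.Siegel Cfsg.Agent.Helper8.SiegelGeom Cfsg.Agent.Helper8.SiegelGroup
  Cfsg.Agent.Helper8.SiegelPrim Cfsg.Agent.Helper8.SiegelSimple Cfsg.Agent.Helper8.ReflMatrix
  Cfsg.Agent.Helper8.OmegaSimple Cfsg.Agent.Helper8.AutImagePsi Cfsg.Agent.Helper8.AutImageOrth
  Cfsg.Agent.Helper8.StdForms Cfsg.Agent.Helper8.AutImage Cfsg.Agent.Helper8.AutImageKer
  Cfsg.Agent.Helper8.AutImageIdx
open Cfsg.Agent.Helper8.AutSLn (gls nrmGL nrmF unitsAut fixField)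

variable {F₀ : Type*} {F : Type*} [Field F₀] [Field F] [Fintype F₀] [Fintype F]
  {ι : Type} [Fintype ι] [DecidableEq ι]
  (Q₀ : QuadraticForm F₀ (ι → F₀)) (Q : QuadraticForm F (ι → F))

/-- **the field automorphisms of prime order of `PΩ(Q)`, odd dimension, odd characteristic.** -/
theorem field_aut_main_pgo [Nontrivial (ι → F)] {p f : ℕ} [Fact p.Prime]
    (hF : Fintype.card F = p ^ f) (h2 : (2 : F) ≠ 0)
    (hQ₀ : (QuadraticMap.polarBilin Q₀).Nondegenerate)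
    (hQ : (QuadraticMap.polarBilin Q).Nondegenerate) (h7 : 7 ≤ Fintype.card ι) {m : ℕ}
    (hcard : Fintype.card ι = 2 * m + 1) (hB2 : 9 ≤ Fintype.card ι ∨ NoB2 Q)
    (hσ : ∀ (σ : F ≃+* F) (v : ι → F), Q (fun i => σ (v i)) = σ (Q v))
    (hjall : ∀ (j : F₀ →+* F) (v : ι → F₀), Q (hvec j v) = j (Q₀ v))
    (x : MulAut (Cfsg.POmega F ⇑Q)) (hx : Cfsg.IsFieldAutClassPOmega ⇑Q x) {r : ℕ}
    (hr : r.Prime) (hxr : orderOf x = r) (hF₀ : Fintype.card F₀ = p ^ (f / r)) :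
    r ∣ f ∧
    Nonempty (↥(Cfsg.pgoAut F ⇑Q ⊓ Subgroup.centralizer {x}) ≃* ↥(Cfsg.pgoAut F₀ ⇑Q₀)) ∧
    (Odd r → Cfsg.splitClassCount (Cfsg.pgoAut F ⇑Q) (Cfsg.Inn (Cfsg.POmega F ⇑Q)) x = 1) ∧
    (r = 2 → Cfsg.splitClassCount (Cfsg.pgoAut F ⇑Q) (Cfsg.Inn (Cfsg.POmega F ⇑Q)) x = 2) := by
  have hc : CharP F p := charP_of_card_eq_prime_pow hF
  have h5 : 5 ≤ Fintype.card ι := by omega
  have hoddι : Odd (Fintype.card ι) := ⟨m, hcard⟩
  have hdim : finrank F (ι → F) = Fintype.card ι := Module.finrank_fintype_fun_eq_card F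
  have hQ' : Nondeg Q := (nondeg_iff Q).mp hQ
  have hsurjP : Function.Surjective (Psi (Q := Q)) :=
    Psi_surjective hQ' (by rw [hdim]; exact h7) p (by rw [hdim]; exact hB2)
  have hnorm := pgoAut_normal Q hQ h5 hsurjP
  obtain ⟨α, φ, σ, -, hφ, hα⟩ := hx
  have e1 : α * x * α⁻¹ = poField Q hQ h5 hσ σ :=
    hα.trans (eq_poField_of_isFieldAut Q hQ h5 hσ hφ)
  have hσord : orderOf σ = r := by
    rw [← orderOf_injective _ (poField_injective Q hQ h5 hσ p) σ, ← e1, ← hxr]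
    exact MulEquiv.orderOf_eq (MulAut.conj α) x
  have hσr : σ ^ r = 1 := by rw [← hσord, pow_orderOf_eq_one]
  have hinj : ∀ i k : Fin r, σ ^ (i : ℕ) = σ ^ (k : ℕ) → i = k := by
    intro i k e
    apply Fin.ext
    apply pow_injOn_Iio_orderOf (x := σ) _ _ e
    · rw [hσord]
      exact i.2
    · rw [hσord]
      exact k.2
  obtain ⟨j, hj1, hj2⟩ := Cfsg.Agent.Helper8.AutSLn.exists_embedding hF σ hr.pos hσord F₀ hF₀
  have hj := hjall j
  have hrf : r ∣ f := (Cfsg.Agent.Helper8.AutSLn.card_fixField hF σ hr.pos hσord).1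
  have hne₀ : ∃ v₀, Q₀ v₀ ≠ 0 := by
    have hnd := (nondeg_iff Q₀).mp hQ₀
    have hdim₀ : 2 ≤ finrank F₀ (ι → F₀) := by
      rw [Module.finrank_fintype_fun_eq_card]; omega
    obtain ⟨o, ho⟩ := exists_repr Q₀ hnd hdim₀ 1
    exact ⟨o, by rw [ho]; exact one_ne_zero⟩
  have hne : ∃ v, Q v ≠ 0 := by
    obtain ⟨v₀, hv₀⟩ := hne₀
    exact ⟨hvec j v₀, by rw [hj]; exact (map_ne_zero j).mpr hv₀⟩
  have hrange := range_subHomO j Q₀ Q hj h2 hQ h5 hσ hne₀ p σ hr.pos hσr hinj hj1 hj2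
  have hidx := relIndex_Inn_pgoAut_odd Q h2 hQ h5 hne hoddι
  have hcount : Cfsg.splitClassCount (Cfsg.pgoAut F ⇑Q) (Cfsg.Inn (Cfsg.POmega F ⇑Q)) x =
      (Cfsg.Inn (Cfsg.POmega F ⇑Q) ⊔ (subHomO j Q₀ Q hj).range).relIndex
        (Cfsg.pgoAut F ⇑Q) := by
    rw [Cfsg.Agent.Helper8.SplitClass.splitClassCount_eq_relIndex (Cfsg.pgoAut F ⇑Q)
        (Cfsg.Inn (Cfsg.POmega F ⇑Q)) (Inn_le_pgoAut Q) x,
      ← Cfsg.Agent.Helper8.SplitClass.relIndex_conj _ _ α x, e1, hrange]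
  refine ⟨hrf, ?_, ?_, ?_⟩
  · obtain ⟨E1⟩ := Cfsg.Agent.Helper8.SplitClass.nonempty_centralizer_equiv
      (Cfsg.pgoAut F ⇑Q) α x
    rw [e1] at E1
    obtain ⟨E2⟩ := nonempty_centralizer_equiv_pgo j Q₀ Q hj h2 hQ₀ hQ h5 hσ hne₀ p σ hr.pos hσr
      hinj hj1 hj2
    exact ⟨E1.trans E2⟩
  · intro hodd
    rw [hcount, Subgroup.relIndex_eq_one]
    obtain ⟨b₀, hb₀, hb₀'⟩ := exists_range_subHomO_not_Inn j Q₀ Q hj h2 hQ₀ hQ h5 hoddι
      (fun a ha => not_isSquare_map_of_odd j σ hodd hσr hj1 hj2 ha)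
    have hb₀G : b₀ ∈ Cfsg.pgoAut F ⇑Q := by
      rw [hrange] at hb₀
      exact hb₀.1
    intro b hb
    by_cases hbI : b ∈ Cfsg.Inn (Cfsg.POmega F ⇑Q)
    · exact Subgroup.mem_sup_left hbI
    · have h3 : (⟨b, hb⟩ * ⟨b₀, hb₀G⟩⁻¹ : ↥(Cfsg.pgoAut F ⇑Q)) ∈
          (Cfsg.Inn (Cfsg.POmega F ⇑Q)).subgroupOf (Cfsg.pgoAut F ⇑Q) := by
        rw [Subgroup.mul_mem_iff_of_index_two hidx]
        constructor
        · intro h4
          exact absurd (Subgroup.mem_subgroupOf.mp h4) hbI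
        · intro h4
          exfalso
          have h6 := Subgroup.mem_subgroupOf.mp (Subgroup.inv_mem _ h4)
          rw [inv_inv] at h6
          exact hb₀' h6
      have h4 : b * b₀⁻¹ ∈ Cfsg.Inn (Cfsg.POmega F ⇑Q) := Subgroup.mem_subgroupOf.mp h3
      have h6 : b = b * b₀⁻¹ * b₀ := by rw [inv_mul_cancel_right]
      rw [h6]
      exact Subgroup.mul_mem_sup h4 hb₀
  · intro hr2
    have hcardsq : Fintype.card F = Fintype.card F₀ ^ 2 := by
      rw [hF, hF₀, hr2, ← pow_mul, Nat.div_mul_cancel (hr2 ▸ hrf)]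
    have hle := range_subHomO_le_Inn j Q₀ Q hj h2 hQ₀ hQ h5 hne₀ hoddι
      (isSquare_map_of_card_sq j h2 hcardsq)
    rw [hcount, sup_eq_left.mpr hle]
    exact hidx

end Cfsg.Agent.Helper8.AutO
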