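import Mathlib
import Cfsg.Agent.Helper8.AutOzk

set_option autoImplicit false
set_option linter.unusedSectionVars false
set_option linter.style.haveILetI false

/-!
# Automorphisms of orthogonal groups, part zl: an automorphism of prime order of `PΩ(Q)`, odd
dimension, that is not induced by a similarity is conjugate to a standard field automorphism
-/

namespace Cfsg.Agent.Helper8.AutO

open Module Matrix Cfsg.Agent.Helper8.QuadForm Cfsg.Agent.Helper8.WittQuad
  Cfsg.Agent.Helper8.OrthOrder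
  Cfsg.Agent.Helper8.Siegel Cfsg.Agent.Helper8.SiegelGeom Cfsg.Agent.Helper8.SiegelGroup
  Cfsg.Agent.Helper8.SiegelPrim Cfsg.Agent.Helper8.SiegelSimple Cfsg.Agent.Helper8.ReflMatrix
  Cfsg.Agent.Helper8.OmegaSimple Cfsg.Agent.Helper8.AutImagePsi Cfsg.Agent.Helper8.AutImageOrth
  Cfsg.Agent.Helper8.StdForms Cfsg.Agent.Helper8.AutImage Cfsg.Agent.Helper8.AutImageKer
  Cfsg.Agent.Helper8.AutImageIdx
open Cfsg.Agent.Helper8.AutSLn (gls nrmGL nrmF unitsAut fixField)

variable {F : Type*} [Field F] [Fintype F] {ι : Type} [Fintype ι] [DecidableEq ι]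
  (Q : QuadraticForm F (ι → F))

/-- every automorphism of `PΩ(Q)` is a similarity times a standard field automorphism. -/
theorem exists_eq_Phi_mul_poField [Nontrivial (ι → F)]
    (hQ : (QuadraticMap.polarBilin Q).Nondegenerate) (h7 : 7 ≤ Fintype.card ι)
    (hB2 : 9 ≤ Fintype.card ι ∨ NoB2 Q)
    (hσ : ∀ (σ : F ≃+* F) (v : ι → F), Q (fun i => σ (v i)) = σ (Q v))
    (x : MulAut (Cfsg.POmega F ⇑Q)) :
    ∃ (g : ↥(Cfsg.Geo.quadSimilarityGroup (F := F) ⇑Q)) (σ : F ≃+* F),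
      x = Phi ⇑Q g * poField Q hQ (by omega) hσ σ := by
  obtain ⟨p, hp, hc⟩ := exists_char F
  have h5 : 5 ≤ Fintype.card ι := by omega
  have hdim : finrank F (ι → F) = Fintype.card ι := Module.finrank_fintype_fun_eq_card F
  have hQ' : Nondeg Q := (nondeg_iff Q).mp hQ
  have hsurj : Function.Surjective (Psi (Q := Q)) :=
    Psi_surjective hQ' (by rw [hdim]; exact h7) p (by rw [hdim]; exact hB2)
  obtain ⟨γ, rfl⟩ := PsiM_surjective Q hQ h5 hsurj x
  obtain ⟨σ, hσdef⟩ : ∃ σ : F ≃+* F, σ = tau γ := ⟨_, rfl⟩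
  have h1 : γ * (fieldGamma Q hσ σ)⁻¹ ∈ (tau (Q := Q)).ker := by
    rw [MonoidHom.mem_ker, map_mul, map_inv, tau_fieldGamma, hσdef, mul_inv_cancel]
  rw [ker_tau] at h1
  obtain ⟨g, hg⟩ := h1
  refine ⟨g, σ, ?_⟩
  have h2 : γ = simGamma Q g * fieldGamma Q hσ σ := by
    rw [hg, inv_mul_cancel_right]
  rw [h2, map_mul, PsiM_simGamma]
  rfl

/-- **an automorphism of prime order that is not induced by a similarity is conjugate, under the
image of the conformal group, to a standard field automorphism of the same order.** -/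
theorem exists_conj_eq_poField [Nontrivial (ι → F)]
    (hQ : (QuadraticMap.polarBilin Q).Nondegenerate) (h7 : 7 ≤ Fintype.card ι) {m : ℕ}
    (hcard : Fintype.card ι = 2 * m + 1) (hB2 : 9 ≤ Fintype.card ι ∨ NoB2 Q)
    (hσ : ∀ (σ : F ≃+* F) (v : ι → F), Q (fun i => σ (v i)) = σ (Q v))
    {p : ℕ} [Fact p.Prime] (x : MulAut (Cfsg.POmega F ⇑Q)) (hord : orderOf x = p)
    (hnot : ¬ Cfsg.IsSimilarityInducedAutPOmega ⇑Q x) :
    ∃ (u : ↥(Cfsg.Geo.quadSimilarityGroup (F := F) ⇑Q)) (σ : F ≃+* F), orderOf σ = p ∧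
      x = Phi ⇑Q u * poField Q hQ (by omega) hσ σ * (Phi ⇑Q u)⁻¹ := by
  obtain ⟨pc, hpc, hc⟩ := exists_char F
  have hp : p.Prime := Fact.out
  have h5 : 5 ≤ Fintype.card ι := by omega
  have hdim : finrank F (ι → F) = Fintype.card ι := Module.finrank_fintype_fun_eq_card F
  have hQ' : Nondeg Q := (nondeg_iff Q).mp hQ
  have hxp : x ^ p = 1 := by rw [← hord, pow_orderOf_eq_one]
  obtain ⟨g, σ, hx⟩ := exists_eq_Phi_mul_poField Q hQ h7 hB2 hσ x
  have hσ1 : σ ≠ 1 := by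
    rintro rfl
    apply hnot
    rw [hx, map_one, mul_one]
    exact ⟨(g : GL ι F), g.2, (induced_iff ⇑Q g.2 _).mpr rfl⟩
  have hkerP : (PsiM Q hQ h5).ker = (scalarGamma (Q := Q)).range := by
    rw [ker_PsiM, ker_Psi hQ' (by rw [hdim]; exact h5) pc]
  have hσp : σ ^ p = 1 := by
    have h1 : PsiM Q hQ h5 ((simGamma Q g * fieldGamma Q hσ σ) ^ p) = 1 := by
      rw [map_pow, map_mul, PsiM_simGamma]
      rw [← hxp, hx]
      rfl
    rw [← MonoidHom.mem_ker, hkerP] at h1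
    obtain ⟨c, hc'⟩ := h1
    have h2 := congrArg (tau (Q := Q)) hc'
    rw [tau_scalarGamma, map_pow, map_mul, tau_fieldGamma, tau_simGamma, one_mul] at h2
    exact h2.symm
  have hσord : orderOf σ = p := by
    have h1 : orderOf σ ∣ p := orderOf_dvd_of_pow_eq_one hσp
    rcases (Nat.dvd_prime hp).mp h1 with h2 | h2
    · exact absurd (orderOf_eq_one_iff.mp h2) hσ1
    · exact h2
  have hinj : ∀ i j : Fin p, σ ^ (i : ℕ) = σ ^ (j : ℕ) → i = j := by
    intro i j e
    apply Fin.ext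
    apply pow_injOn_Iio_orderOf (x := σ) _ _ e
    · rw [hσord]
      exact i.2
    · rw [hσord]
      exact j.2
  have hy : (PsiM Q hQ h5 (simGamma Q g) * poField Q hQ h5 hσ σ) ^ p = 1 := by
    rw [PsiM_simGamma, ← hx, hxp]
  obtain ⟨u, hu⟩ := field_case_POmega_odd Q hQ h5 hcard hσ pc σ hp.pos hσp hinj g hy
  refine ⟨u, σ, hσord, ?_⟩
  rw [hx, ← PsiM_simGamma Q hQ h5 g, hu, PsiM_simGamma]

end Cfsg.Agent.Helper8.AutO
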