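import Mathlib
import Cfsg.Agent.Helper8.AutOzl
import Cfsg.Agent.Helper8.CenterCard

set_option autoImplicit false
set_option linter.unusedSectionVars false
set_option linter.style.haveILetI false

/-!
# Automorphisms of orthogonal groups, part zm: the fixed points of a standard field automorphism
on `PΩ(Q)`, odd dimension
-/

namespace Cfsg.Agent.Helper8.AutO

open Module Matrix Cfsg.Agent.Helper8.QuadForm Cfsg.Agent.Helper8.WittQuad
  Cfsg.Agent.Helper8.OrthOrder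
  Cfsg.Agent.Helper8.Siegel Cfsg.Agent.Helper8.SiegelGeom Cfsg.Agent.Helper8.SiegelGroup
  Cfsg.Agent.Helper8.SiegelPrim Cfsg.Agent.Helper8.SiegelSimple Cfsg.Agent.Helper8.ReflMatrix
  Cfsg.Agent.Helper8.OmegaSimple Cfsg.Agent.Helper8.AutImagePsi Cfsg.Agent.Helper8.AutImageOrth
  Cfsg.Agent.Helper8.StdForms Cfsg.Agent.Helper8.AutImage Cfsg.Agent.Helper8.AutImageKer
  Cfsg.Agent.Helper8.AutImageIdx
open Cfsg.Agent.Helper8.AutSLn (gls nrmGL nrmF unitsAut fixField)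

section Center

variable {F : Type*} [Field F] [Fintype F] {ι : Type} [Fintype ι] [DecidableEq ι]
  (Q : QuadraticForm F (ι → F))

/-- in odd dimension and odd characteristic `Ω(Q)` has trivial centre. -/
theorem center_Omega_eq_bot_odd (h2 : (2 : F) ≠ 0)
    (hQ : (QuadraticMap.polarBilin Q).Nondegenerate) (h4 : 4 ≤ Fintype.card ι)
    (hodd : Odd (Fintype.card ι)) : Subgroup.center ↥(Cfsg.Omega F ⇑Q) = ⊥ := by
  have h1 := (Cfsg.Agent.Helper8.CenterCard.card_center_omega Q h2 hQ h4).2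
    (not_neg_one_mem_Omega Q h2 hodd)
  exact Subgroup.card_eq_one.mp h1

/-- in odd dimension and odd characteristic `Ω(Q)` is simple. -/
theorem isSimpleGroup_Omega_odd (h2 : (2 : F) ≠ 0)
    (hQ : (QuadraticMap.polarBilin Q).Nondegenerate) (h5 : 5 ≤ Fintype.card ι)
    (hodd : Odd (Fintype.card ι)) : IsSimpleGroup ↥(Cfsg.Omega F ⇑Q) := by
  have hcen := center_Omega_eq_bot_odd Q h2 hQ (by omega) hodd
  haveI := isSimpleGroup_POmega Q hQ h5
  have e1 : ↥(Cfsg.Omega F ⇑Q) ⧸ (⊥ : Subgroup ↥(Cfsg.Omega F ⇑Q)) ≃* ↥(Cfsg.Omega F ⇑Q) :=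
    QuotientGroup.quotientBot
  have e2 : ↥(Cfsg.Omega F ⇑Q) ⧸ (⊥ : Subgroup ↥(Cfsg.Omega F ⇑Q)) ≃* Cfsg.POmega F ⇑Q :=
    QuotientGroup.quotientMulEquivOfEq hcen.symm
  exact (e1.symm.trans e2).isSimpleGroup

theorem mk_eq_mk_iff_odd (h2 : (2 : F) ≠ 0)
    (hQ : (QuadraticMap.polarBilin Q).Nondegenerate) (h4 : 4 ≤ Fintype.card ι)
    (hodd : Odd (Fintype.card ι)) (s s' : ↥(Cfsg.Omega F ⇑Q)) :
    (QuotientGroup.mk s : Cfsg.POmega F ⇑Q) = QuotientGroup.mk s' ↔ s = s' := by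
  constructor
  · intro h
    have h1 := QuotientGroup.eq.mp h
    rw [center_Omega_eq_bot_odd Q h2 hQ h4 hodd, Subgroup.mem_bot, inv_mul_eq_one] at h1
    exact h1
  · rintro rfl
    rfl

end Center

variable {F₀ : Type*} {F : Type*} [Field F₀] [Field F] [Fintype F₀] [Fintype F] (j : F₀ →+* F)
  {ι : Type} [Fintype ι] [DecidableEq ι]
  (Q₀ : QuadraticForm F₀ (ι → F₀)) (Q : QuadraticForm F (ι → F))
  (hj : ∀ v : ι → F₀, Q (hvec j v) = j (Q₀ v))

/-- the isometries over the subfield lying in `Ω(Q)`. -/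
def fixO : Subgroup ↥(Cfsg.isometryGroup F₀ ⇑Q₀) :=
  (Cfsg.Omega F ⇑Q).comap (isoMap j Q₀ Q hj)

/-- the map of this group to `PΩ(Q)`. -/
def fixHom : ↥(fixO j Q₀ Q hj) →* Cfsg.POmega F ⇑Q :=
  (QuotientGroup.mk' (Subgroup.center ↥(Cfsg.Omega F ⇑Q))).comp
    ((isoMap j Q₀ Q hj).subgroupComap (Cfsg.Omega F ⇑Q))

theorem fixHom_apply (h : ↥(fixO j Q₀ Q hj)) :
    fixHom j Q₀ Q hj h = QuotientGroup.mk
      (⟨isoMap j Q₀ Q hj (h : ↥(Cfsg.isometryGroup F₀ ⇑Q₀)), h.2⟩ : ↥(Cfsg.Omega F ⇑Q)) := rfl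

theorem isoMap_injective : Function.Injective (isoMap j Q₀ Q hj) := by
  intro a b hab
  apply Subtype.ext
  apply Units.ext
  apply Matrix.map_injective j.injective
  have h1 := congrArg (fun x : ↥(Cfsg.isometryGroup F ⇑Q) => ((x : GL ι F) : Matrix ι ι F)) hab
  exact h1

theorem fixHom_injective (h2 : (2 : F) ≠ 0)
    (hQ : (QuadraticMap.polarBilin Q).Nondegenerate) (h4 : 4 ≤ Fintype.card ι)
    (hodd : Odd (Fintype.card ι)) : Function.Injective (fixHom j Q₀ Q hj) := by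
  intro a b hab
  rw [fixHom_apply, fixHom_apply, mk_eq_mk_iff_odd Q h2 hQ h4 hodd] at hab
  have h1 := congrArg Subtype.val hab
  exact Subtype.ext (isoMap_injective j Q₀ Q hj h1)

theorem Omega_le_fixO : Cfsg.Omega F₀ ⇑Q₀ ≤ fixO j Q₀ Q hj := by
  intro h hh
  show isoMap j Q₀ Q hj h ∈ commutator ↥(Cfsg.isometryGroup F ⇑Q)
  have h1 : h ∈ commutator ↥(Cfsg.isometryGroup F₀ ⇑Q₀) := hh
  rw [commutator_def] at h1 ⊢
  have h3 := Subgroup.mem_map_of_mem (isoMap j Q₀ Q hj) h1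
  rw [Subgroup.map_commutator] at h3
  exact Subgroup.commutator_mono le_top le_top h3

theorem fixO_le_special : fixO j Q₀ Q hj ≤ Cfsg.specialIsometryGroup F₀ ⇑Q₀ := by
  intro h hh
  have hle : commutator ↥(Cfsg.isometryGroup F ⇑Q) ≤ Cfsg.specialIsometryGroup F ⇑Q :=
    Abelianization.commutator_subset_ker _
  have h1 : isoMap j Q₀ Q hj h ∈ Cfsg.specialIsometryGroup F ⇑Q := hle hh
  rw [Cfsg.Agent.Helper8.SOIndexTwo.mem_special_iff] at h1 ⊢
  rw [coe_isoMap] at h1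
  have h3 : (((h : GL ι F₀) : Matrix ι ι F₀).map j).det = 1 := h1
  rw [← RingHom.mapMatrix_apply, ← RingHom.map_det] at h3
  apply j.injective
  rw [h3, map_one]

section Fixed

variable [Nontrivial (ι → F)] (hQ : (QuadraticMap.polarBilin Q).Nondegenerate)
  (h5 : 5 ≤ Fintype.card ι)
  (hσ : ∀ (σ : F ≃+* F) (v : ι → F), Q (fun i => σ (v i)) = σ (Q v))

/-- the standard field automorphism on the class of an element of `Ω`. -/
theorem exists_poField_mk (σ : F ≃+* F) (s : ↥(Cfsg.Omega F ⇑Q)) :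
    ∃ s' : ↥(Cfsg.Omega F ⇑Q), omat Q s' = (omat Q s).map σ ∧
      poField Q hQ h5 hσ σ (QuotientGroup.mk s) = QuotientGroup.mk s' := by
  obtain ⟨s', hs'⟩ := exists_omega_conj Q hQ h5 (fieldGamma Q hσ σ) s
  have h1 : omat Q s' = (omat Q s).map σ := by
    apply matrix_ext
    intro w
    obtain ⟨v, rfl⟩ : ∃ v : ι → F, (fun i => σ (v i)) = w :=
      ⟨fun i => σ.symm (w i), by funext i; exact σ.apply_symm_apply _⟩
    have h3 := hs' v
    rw [gap_fieldGamma, gap_fieldGamma] at h3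
    rw [h3]
    exact (Cfsg.Agent.Helper8.AutSLn.map_mulVec_comp σ _ v).symm
  exact ⟨s', h1, isFieldAut_poField Q hQ h5 hσ σ s s' h1⟩

include hj in
/-- the elements coming from the subfield are fixed. -/
theorem poField_fixHom (σ : F ≃+* F) (hfix : ∀ a, σ (j a) = j a) (h : ↥(fixO j Q₀ Q hj)) :
    poField Q hQ h5 hσ σ (fixHom j Q₀ Q hj h) = fixHom j Q₀ Q hj h := by
  rw [fixHom_apply]
  apply isFieldAut_poField Q hQ h5 hσ σ
  ext i k
  exact (hfix _).symm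

/-- a fixed element comes from the subfield. -/
theorem exists_fixHom_eq (h2 : (2 : F) ≠ 0) (hodd : Odd (Fintype.card ι)) (σ : F ≃+* F)
    (hsurj : ∀ b, σ b = b → ∃ a, j a = b) {k : Cfsg.POmega F ⇑Q}
    (hk : poField Q hQ h5 hσ σ k = k) : ∃ h : ↥(fixO j Q₀ Q hj), fixHom j Q₀ Q hj h = k := by
  obtain ⟨s, rfl⟩ := QuotientGroup.mk_surjective k
  obtain ⟨s', hs', hss'⟩ := exists_poField_mk Q hQ h5 hσ σ s
  rw [hss', mk_eq_mk_iff_odd Q h2 hQ (by omega) hodd] at hk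
  rw [hk] at hs'
  have hg : gls σ ((s : ↥(Cfsg.isometryGroup F ⇑Q)) : GL ι F) = s := by
    apply Units.ext
    exact hs'.symm
  obtain ⟨g₀, hg₀⟩ := Cfsg.Agent.Helper8.AutSLn.exists_map_eq σ j hsurj _ hg
  have hgv : ∀ v : ι → F₀, (((s : ↥(Cfsg.isometryGroup F ⇑Q)) : GL ι F) : Matrix ι ι F) *ᵥ
      hvec j v = hvec j ((g₀ : Matrix ι ι F₀) *ᵥ v) := by
    intro v
    rw [← hg₀]
    exact map_mulVec_hvec j _ v
  have hmem : g₀ ∈ Cfsg.isometryGroup F₀ ⇑Q₀ := by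
    rw [mem_isometryGroup_iff']
    intro v
    apply j.injective
    rw [← hj, ← hgv, (mem_isometryGroup_iff' ⇑Q _).mp (s : ↥(Cfsg.isometryGroup F ⇑Q)).2, hj]
  have himg : isoMap j Q₀ Q hj ⟨g₀, hmem⟩ = (s : ↥(Cfsg.isometryGroup F ⇑Q)) :=
    Subtype.ext hg₀
  have hfixO : (⟨g₀, hmem⟩ : ↥(Cfsg.isometryGroup F₀ ⇑Q₀)) ∈ fixO j Q₀ Q hj := by
    show isoMap j Q₀ Q hj ⟨g₀, hmem⟩ ∈ Cfsg.Omega F ⇑Q
    rw [himg]
    exact s.2
  refine ⟨⟨⟨g₀, hmem⟩, hfixO⟩, ?_⟩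
  rw [fixHom_apply]
  congr 1
  exact Subtype.ext himg

end Fixed

end Cfsg.Agent.Helper8.AutO
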