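import Mathlib
import Cfsg.Agent.Helper8.AutOzm
import Cfsg.Agent.Helper8.OmegaDiag

set_option autoImplicit false
set_option linter.unusedSectionVars false
set_option linter.style.haveILetI false

/-!
# Automorphisms of orthogonal groups, part zn: an involution in `Ω(Q)`; the fixed points of a
standard field automorphism of prime order `p` have no nontrivial normal `p'`-subgroup
-/

namespace Cfsg.Agent.Helper8.AutO

open Module Matrix Cfsg.Agent.Helper8.QuadForm Cfsg.Agent.Helper8.WittQuad
  Cfsg.Agent.Helper8.OrthOrder Cfsg.Agent.Helper8.Reflections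
  Cfsg.Agent.Helper8.ReflMatrix
  Cfsg.Agent.Helper8.OmegaSimple Cfsg.Agent.Helper8.AutImagePsi Cfsg.Agent.Helper8.AutImageOrth
  Cfsg.Agent.Helper8.AutImage Cfsg.Agent.Helper8.AutImageKer
  Cfsg.Agent.Helper8.AutImageIdx Cfsg.Agent.Helper8.OmegaCrit Cfsg.Agent.Helper8.OmegaDiag
open Cfsg.Agent.Helper8.AutSLn (gls nrmGL nrmF unitsAut fixField)

section Involution

variable {F : Type*} [Field F] [Fintype F] {ι : Type} [Fintype ι] [DecidableEq ι]
  (Q : QuadraticForm F (ι → F))

omit [Fintype F] in
theorem reflElt_comm {u v : ι → F} (huv : QuadraticMap.polar Q u v = 0) :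
    reflElt Q u * reflElt Q v = reflElt Q v * reflElt Q u := by
  apply (isomEquiv Q).injective
  rw [map_mul, map_mul, isomEquiv_reflElt, isomEquiv_reflElt]
  apply Subtype.ext
  apply LinearEquiv.ext
  intro x
  have hvu : QuadraticMap.polar Q v u = 0 := by rw [QuadraticMap.polar_comm]; exact huv
  show refl Q u (refl Q v x) = refl Q v (refl Q u x)
  rw [refl_apply, refl_apply, refl_apply Q u x, refl_apply Q v (x - _),
    QuadraticMap.polar_sub_right, QuadraticMap.polar_sub_right, QuadraticMap.polar_smul_right,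
    QuadraticMap.polar_smul_right, huv, hvu, smul_zero, smul_zero, sub_zero, sub_zero]
  abel

/-- an involution in `Ω(Q)`. -/
theorem exists_involution_Omega (h2 : (2 : F) ≠ 0)
    (hQ : (QuadraticMap.polarBilin Q).Nondegenerate) (h5 : 5 ≤ Fintype.card ι) :
    ∃ g : ↥(Cfsg.isometryGroup F ⇑Q), g ∈ Cfsg.Omega F ⇑Q ∧ g ≠ 1 ∧ g * g = 1 := by
  have hnd := (nondeg_iff Q).mp hQ
  have hdim : finrank F (ι → F) = 2 * 2 + (Fintype.card ι - 4) := by
    rw [Module.finrank_fintype_fun_eq_card]; omega
  obtain ⟨e, f, W, hhyp, -, -, -⟩ := exists_hyp_family 2 Q hnd (Fintype.card ι - 4) (by omega) hdim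
  obtain ⟨u, hu⟩ : ∃ u, u = e 0 + f 0 := ⟨_, rfl⟩
  obtain ⟨v, hv⟩ : ∃ v, v = e 1 + f 1 := ⟨_, rfl⟩
  have hQu : Q u = 1 := by rw [hu]; exact Q_add_of_isHyp Q hhyp 0
  have hQv : Q v = 1 := by rw [hv]; exact Q_add_of_isHyp Q hhyp 1
  have huv : QuadraticMap.polar Q u v = 0 := by
    have := polar_pm_of_isHyp Q hhyp (j := 0) (k := 1) (by decide) 1 1
    rw [one_smul, one_smul] at this
    rw [hu, hv]
    exact this
  have hvu : QuadraticMap.polar Q v u = 0 := by rw [QuadraticMap.polar_comm]; exact huv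
  refine ⟨reflElt Q u * reflElt Q v, ?_, ?_, ?_⟩
  · have hcrit := prod_reflElt_mem_iff Q h2 hQ (by omega) [u, v] (by
      intro z hz
      rcases List.mem_cons.mp hz with rfl | hz
      · rw [hQu]; exact one_ne_zero
      · rcases List.mem_cons.mp hz with rfl | hz
        · rw [hQv]; exact one_ne_zero
        · exact absurd hz List.not_mem_nil)
    simp only [List.map_cons, List.map_nil, List.prod_cons, List.prod_nil, mul_one] at hcrit
    apply hcrit.mpr
    refine ⟨⟨1, rfl⟩, ?_⟩
    rw [hQu, hQv, mul_one]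
    exact IsSquare.one
  · intro h1
    have h3 := congrArg (fun g => (isomEquiv Q g).1 u) h1
    simp only [map_mul, map_one, isomEquiv_reflElt] at h3
    have h4 : refl Q u (refl Q v u) = u := h3
    rw [refl_apply Q v u, hvu, zero_div, zero_smul, sub_zero,
      refl_self Q (by rw [hQu]; exact one_ne_zero)] at h4
    have h6 : (2 : F) • u = 0 := by
      rw [two_smul]
      nth_rewrite 1 [← h4]
      exact neg_add_cancel u
    rcases smul_eq_zero.mp h6 with h7 | h7
    · exact h2 h7
    · rw [h7, map_zero] at hQu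
      exact zero_ne_one hQu
  · rw [mul_assoc, ← mul_assoc (reflElt Q v), ← reflElt_comm Q huv, mul_assoc, reflElt_mul_self,
      mul_one, reflElt_mul_self]

end Involution

end Cfsg.Agent.Helper8.AutO
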