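import Mathlib
import Cfsg.Agent.Helper8.AutOzn

set_option autoImplicit false
set_option linter.unusedSectionVars false
set_option linter.style.haveILetI false

/-!
# Automorphisms of orthogonal groups, part zo: the fixed points of a standard field automorphism of
prime order `p` of `PΩ(Q)`, odd dimension, have no nontrivial normal `p'`-subgroup when `p` divides
their number
-/

namespace Cfsg.Agent.Helper8.AutO

open Module Matrix Cfsg.Agent.Helper8.QuadForm Cfsg.Agent.Helper8.WittQuad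
  Cfsg.Agent.Helper8.OrthOrder Cfsg.Agent.Helper8.Reflections
  Cfsg.Agent.Helper8.ReflMatrix
  Cfsg.Agent.Helper8.OmegaSimple Cfsg.Agent.Helper8.AutImagePsi Cfsg.Agent.Helper8.AutImageOrth
  Cfsg.Agent.Helper8.AutImage Cfsg.Agent.Helper8.AutImageKer
  Cfsg.Agent.Helper8.AutImageIdx Cfsg.Agent.Helper8.OmegaOdd Cfsg.Agent.Helper8.OmegaCrit
open Cfsg.Agent.Helper8.AutSLn (gls nrmGL nrmF unitsAut fixField)

section Square

variable {F : Type*} [Field F] [Fintype F] {ι : Type} [Fintype ι] [DecidableEq ι]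
  (Q : QuadraticForm F (ι → F))

/-- the square of an isometry lies in `Ω`. -/
theorem mul_self_mem_Omega (h2 : (2 : F) ≠ 0) (hQ : (QuadraticMap.polarBilin Q).Nondegenerate)
    (hn : 2 ≤ Fintype.card ι) (g : ↥(Cfsg.isometryGroup F ⇑Q)) : g * g ∈ Cfsg.Omega F ⇑Q := by
  obtain ⟨e, he⟩ := exists_nonsquare (F := F) h2
  apply ((commutator_eq Q h2 hQ hn he).2 _).mpr
  rw [map_mul, map_mul]
  exact ⟨Int.units_mul_self _, Int.units_mul_self _⟩

end Square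

variable {F₀ : Type*} {F : Type*} [Field F₀] [Field F] [Fintype F₀] [Fintype F] (j : F₀ →+* F)
  {ι : Type} [Fintype ι] [DecidableEq ι]
  (Q₀ : QuadraticForm F₀ (ι → F₀)) (Q : QuadraticForm F (ι → F))
  (hj : ∀ v : ι → F₀, Q (hvec j v) = j (Q₀ v))

include hj in
/-- **the fixed points of a field automorphism of prime order `p` have no nontrivial normal
`p'`-subgroup, when `p` divides their number.** -/
theorem fixed_normal_eq_bot_pgo [Nontrivial (ι → F)] (h2 : (2 : F) ≠ 0)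
    (hQ₀ : (QuadraticMap.polarBilin Q₀).Nondegenerate)
    (hQ : (QuadraticMap.polarBilin Q).Nondegenerate) (h5 : 5 ≤ Fintype.card ι)
    (hodd : Odd (Fintype.card ι))
    (hσ : ∀ (σ : F ≃+* F) (v : ι → F), Q (fun i => σ (v i)) = σ (Q v))
    (σ : F ≃+* F) (hfix : ∀ a, σ (j a) = j a) (hsurj : ∀ b, σ b = b → ∃ a, j a = b)
    {p : ℕ} [Fact p.Prime]
    (M₀ : Subgroup (Cfsg.POmega F ⇑Q)) (ha : ∀ k ∈ M₀, poField Q hQ h5 hσ σ k = k)
    (hb : ∀ k' : Cfsg.POmega F ⇑Q, poField Q hQ h5 hσ σ k' = k' →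
      ∀ k ∈ M₀, k' * k * k'⁻¹ ∈ M₀)
    (hc : (Nat.card M₀).Coprime p)
    (hd : p ∣ Nat.card (MonoidHom.eqLocus (poField Q hQ h5 hσ σ).toMonoidHom
      (MonoidHom.id (Cfsg.POmega F ⇑Q)))) : M₀ = ⊥ := by
  have hp : p.Prime := Fact.out
  have h2₀ : (2 : F₀) ≠ 0 := two_ne_zero_sub j Q₀ Q hj h2
  have hψinj := fixHom_injective j Q₀ Q hj h2 hQ (by omega) hodd
  have : Finite (Cfsg.POmega F ⇑Q) := by
    unfold Cfsg.POmega
    infer_instance
  -- elements of order `p` cannot lie in `M₀`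
  have hno : ∀ k ∈ M₀, orderOf k ≠ p := by
    intro k hk ho
    have h1 : orderOf (⟨k, hk⟩ : M₀) ∣ Nat.card M₀ := orderOf_dvd_natCard _
    rw [← Subgroup.orderOf_coe, ho] at h1
    have h3 := Nat.dvd_gcd h1 (dvd_refl p)
    rw [hc] at h3
    exact hp.one_lt.ne' (Nat.dvd_one.mp h3)
  -- the preimage
  obtain ⟨M₁, hM₁⟩ : ∃ M₁ : Subgroup ↥(Cfsg.isometryGroup F₀ ⇑Q₀),
      M₁ = (M₀.comap (fixHom j Q₀ Q hj)).map (fixO j Q₀ Q hj).subtype := ⟨_, rfl⟩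
  have hmemM₁ : ∀ g, g ∈ M₁ ↔ ∃ hg : g ∈ fixO j Q₀ Q hj, fixHom j Q₀ Q hj ⟨g, hg⟩ ∈ M₀ := by
    intro g
    rw [hM₁]
    constructor
    · rintro ⟨x, hx, rfl⟩
      exact ⟨x.2, hx⟩
    · rintro ⟨hg, hx⟩
      exact ⟨⟨g, hg⟩, hx, rfl⟩
  have hM₁le : M₁ ≤ fixO j Q₀ Q hj := by
    intro g hg
    exact ((hmemM₁ g).mp hg).1
  have hnormH : ∀ c ∈ fixO j Q₀ Q hj, ∀ g ∈ M₁, c * g * c⁻¹ ∈ M₁ := by
    intro c hc' g hg
    obtain ⟨hg1, hg2⟩ := (hmemM₁ g).mp hg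
    rw [hmemM₁]
    refine ⟨Subgroup.mul_mem _ (Subgroup.mul_mem _ hc' hg1) (Subgroup.inv_mem _ hc'), ?_⟩
    have h1 : (⟨c * g * c⁻¹, Subgroup.mul_mem _ (Subgroup.mul_mem _ hc' hg1)
        (Subgroup.inv_mem _ hc')⟩ : ↥(fixO j Q₀ Q hj)) = ⟨c, hc'⟩ * ⟨g, hg1⟩ * ⟨c, hc'⟩⁻¹ := rfl
    rw [h1, map_mul, map_mul, map_inv]
    exact hb _ (poField_fixHom j Q₀ Q hj hQ h5 hσ σ hfix ⟨c, hc'⟩) _ hg2
  have hΩle := Omega_le_fixO j Q₀ Q hj
  -- the intersection with `Ω` over the subfield is a normal subgroup of a simple group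
  obtain ⟨T, hT⟩ : ∃ T : Subgroup ↥(Cfsg.Omega F₀ ⇑Q₀),
      T = (M₁ ⊓ Cfsg.Omega F₀ ⇑Q₀).subgroupOf (Cfsg.Omega F₀ ⇑Q₀) := ⟨_, rfl⟩
  have hTn : T.Normal := by
    constructor
    intro t ht ω
    rw [hT, Subgroup.mem_subgroupOf] at ht ⊢
    refine Subgroup.mem_inf.mpr ⟨?_, (ω * t * ω⁻¹).2⟩
    exact hnormH _ (hΩle ω.2) _ (Subgroup.mem_inf.mp ht).1
  haveI := isSimpleGroup_Omega_odd Q₀ h2₀ hQ₀ h5 hodd
  rcases IsSimpleGroup.eq_bot_or_eq_top_of_normal T hTn with hTb | hTt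
  · -- the preimage centralises `Ω`, hence is trivial
    have hM₁bot : ∀ g ∈ M₁, g = 1 := by
      intro g hg
      have hcomm : ∀ s : ↥(Cfsg.isometryGroup F₀ ⇑Q₀), s ∈ Cfsg.Omega F₀ ⇑Q₀ →
          (g : GL ι F₀) * (s : GL ι F₀) = (s : GL ι F₀) * g := by
        intro s hs
        have h1 : g * s * g⁻¹ * s⁻¹ ∈ M₁ ⊓ Cfsg.Omega F₀ ⇑Q₀ := by
          refine Subgroup.mem_inf.mpr ⟨?_, ?_⟩
          · have h3 : s * g⁻¹ * s⁻¹ ∈ M₁ := hnormH s (hΩle hs) _ (Subgroup.inv_mem _ hg)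
            have h4 : g * s * g⁻¹ * s⁻¹ = g * (s * g⁻¹ * s⁻¹) := by group
            rw [h4]
            exact Subgroup.mul_mem _ hg h3
          · have hn : (Cfsg.Omega F₀ ⇑Q₀).Normal := inferInstance
            exact Subgroup.mul_mem _ (hn.conj_mem s hs g) (Subgroup.inv_mem _ hs)
        have h3 : (⟨g * s * g⁻¹ * s⁻¹, (Subgroup.mem_inf.mp h1).2⟩ : ↥(Cfsg.Omega F₀ ⇑Q₀)) ∈ T := by
          rw [hT, Subgroup.mem_subgroupOf]
          exact h1
        rw [hTb, Subgroup.mem_bot] at h3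
        have h4 : g * s * g⁻¹ * s⁻¹ = 1 := congrArg Subtype.val h3
        have h6 : g * s = s * g := by
          have : g * s = g * s * g⁻¹ * s⁻¹ * (s * g) := by group
          rw [this, h4, one_mul]
        exact congrArg Subtype.val h6
      obtain ⟨c, hc'⟩ := scalar_of_centralizes Q₀ h2₀ hQ₀ h5 (g : GL ι F₀) hcomm
      have h1 : PhiO ⇑Q₀ g = 1 := (Phi_eq_one_iff Q₀ h2₀ hQ₀ h5 _).mpr ⟨c, hc'⟩
      rcases (PhiO_eq_one_iff Q₀ h2₀ hQ₀ h5 g).mp h1 with h3 | h3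
      · exact eq_one_of_val Q₀ h3
      · exfalso
        have h4 := (Cfsg.Agent.Helper8.SOIndexTwo.mem_special_iff Q₀ g).mp
          (fixO_le_special j Q₀ Q hj (hM₁le hg))
        rw [h3, Matrix.det_neg, Matrix.det_one, hodd.neg_one_pow, mul_one] at h4
        apply h2₀
        have : (2 : F₀) = 1 - (-1) := by ring
        rw [this, h4, sub_self]
    rw [Subgroup.eq_bot_iff_forall]
    intro k hk
    obtain ⟨h, rfl⟩ := exists_fixHom_eq j Q₀ Q hj hQ h5 hσ h2 hodd σ hsurj (ha k hk)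
    have h1 : (h : ↥(Cfsg.isometryGroup F₀ ⇑Q₀)) ∈ M₁ := (hmemM₁ _).mpr ⟨h.2, hk⟩
    have h3 : h = 1 := Subtype.ext (hM₁bot _ h1)
    rw [h3, map_one]
  · -- impossible: `Ω` over the subfield contains an element of order `p`
    exfalso
    have hall : ∀ ω : ↥(Cfsg.isometryGroup F₀ ⇑Q₀), ω ∈ Cfsg.Omega F₀ ⇑Q₀ → ω ∈ M₁ := by
      intro ω hω
      have h1 : (⟨ω, hω⟩ : ↥(Cfsg.Omega F₀ ⇑Q₀)) ∈ T := by rw [hTt]; exact Subgroup.mem_top _
      rw [hT, Subgroup.mem_subgroupOf] at h1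
      exact (Subgroup.mem_inf.mp h1).1
    obtain ⟨ω, hω, hωp⟩ : ∃ ω : ↥(Cfsg.isometryGroup F₀ ⇑Q₀), ω ∈ Cfsg.Omega F₀ ⇑Q₀ ∧
        orderOf ω = p := by
      rcases hp.eq_two_or_odd' with hp2 | hoddp
      · obtain ⟨g, hg, hg1, hgg⟩ := exists_involution_Omega Q₀ h2₀ hQ₀ h5
        refine ⟨g, hg, ?_⟩
        rw [hp2]
        exact orderOf_eq_prime (by rw [pow_two]; exact hgg) hg1
      · obtain ⟨x, hx⟩ := exists_prime_orderOf_dvd_card' p hd
        rw [← Subgroup.orderOf_coe] at hx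
        have hxfix : poField Q hQ h5 hσ σ (x : Cfsg.POmega F ⇑Q) = x := x.2
        obtain ⟨h, hh⟩ := exists_fixHom_eq j Q₀ Q hj hQ h5 hσ h2 hodd σ hsurj hxfix
        have hho : orderOf h = p := by
          rw [← orderOf_injective _ hψinj h, hh, hx]
        have hho' : orderOf (h : ↥(Cfsg.isometryGroup F₀ ⇑Q₀)) = p := by
          rw [Subgroup.orderOf_coe, hho]
        refine ⟨(h : ↥(Cfsg.isometryGroup F₀ ⇑Q₀)) * h, mul_self_mem_Omega Q₀ h2₀ hQ₀ (by omega) _,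
          ?_⟩
        rw [← pow_two, ← hho']
        apply Nat.Coprime.orderOf_pow
        rw [hho']
        exact (Nat.coprime_primes hp Nat.prime_two).mpr (fun h0 => by
          rw [h0] at hoddp
          exact absurd hoddp (by decide))
    obtain ⟨hω1, hω2⟩ := (hmemM₁ ω).mp (hall ω hω)
    apply hno _ hω2
    rw [orderOf_injective _ hψinj, ← Subgroup.orderOf_coe]
    exact hωp

end Cfsg.Agent.Helper8.AutO
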