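import Mathlib
import Cfsg.Agent.Helper8.AutOzo

set_option autoImplicit false
set_option linter.unusedSectionVars false
set_option linter.style.haveILetI false

/-!
# Automorphisms of orthogonal groups, part zp: an automorphism of `PΩ(Q)` fixing the fixed points
of a standard field automorphism is a standard field automorphism fixing the fixed field
-/

namespace Cfsg.Agent.Helper8.AutO

open Module Matrix Cfsg.Agent.Helper8.QuadForm Cfsg.Agent.Helper8.WittQuad
  Cfsg.Agent.Helper8.OrthOrder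
  Cfsg.Agent.Helper8.Siegel Cfsg.Agent.Helper8.SiegelGeom Cfsg.Agent.Helper8.SiegelGroup
  Cfsg.Agent.Helper8.SiegelPrim Cfsg.Agent.Helper8.SiegelSimple Cfsg.Agent.Helper8.ReflMatrix
  Cfsg.Agent.Helper8.OmegaSimple Cfsg.Agent.Helper8.AutImagePsi Cfsg.Agent.Helper8.AutImageOrth
  Cfsg.Agent.Helper8.StdForms Cfsg.Agent.Helper8.AutImage Cfsg.Agent.Helper8.AutImageKer
  Cfsg.Agent.Helper8.AutImageIdx

variable {F₀ : Type*} {F : Type*} [Field F₀] [Field F] [Fintype F₀] [Fintype F] (j : F₀ →+* F)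
  {ι : Type} [Fintype ι] [DecidableEq ι]
  (Q₀ : QuadraticForm F₀ (ι → F₀)) (Q : QuadraticForm F (ι → F))
  (hj : ∀ v : ι → F₀, Q (hvec j v) = j (Q₀ v))

theorem hvec_zero : hvec j (0 : ι → F₀) = 0 := by
  funext i
  exact map_zero j

theorem hvec_ne_zero {v : ι → F₀} (hv : v ≠ 0) : hvec j v ≠ 0 := fun h =>
  hv (hvec_injective j (h.trans (hvec_zero j).symm))

include hj in
/-- base change preserves the independence of two vectors. -/
theorem li_hvec (hQ₀ : Nondeg Q₀) {a b : ι → F₀} (li : LinearIndependent F₀ ![a, b]) :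
    LinearIndependent F ![hvec j a, hvec j b] := by
  have li' : LinearIndependent F₀ ![b, a] := by
    rw [LinearIndependent.pair_iff] at li ⊢
    intro s t hst
    have := li t s (by rw [add_comm]; exact hst)
    exact ⟨this.2, this.1⟩
  obtain ⟨x, hx1, hx2⟩ := exists_dual_pair hQ₀ li
  obtain ⟨y, hy1, hy2⟩ := exists_dual_pair hQ₀ li'
  rw [LinearIndependent.pair_iff]
  intro s t hst
  have h1 : QuadraticMap.polar Q (hvec j x) (s • hvec j a + t • hvec j b) = 0 := by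
    rw [hst, QuadraticMap.polar_zero_right]
  have h2 : QuadraticMap.polar Q (hvec j y) (s • hvec j a + t • hvec j b) = 0 := by
    rw [hst, QuadraticMap.polar_zero_right]
  rw [QuadraticMap.polar_add_right, QuadraticMap.polar_smul_right, QuadraticMap.polar_smul_right,
    polar_hvec j Q₀ Q hj, polar_hvec j Q₀ Q hj] at h1 h2
  rw [hx1, hx2, map_zero, map_one, smul_zero, zero_add, smul_eq_mul, mul_one] at h1
  rw [hy1, hy2, map_zero, map_one, smul_zero, add_zero, smul_eq_mul, mul_one] at h2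
  exact ⟨h2, h1⟩

include hj in
theorem isTS_hvec (hQ₀ : Nondeg Q₀) {a b : ι → F₀} (h : IsTS Q₀ a b) :
    IsTS Q (hvec j a) (hvec j b) :=
  ⟨by rw [hj, h.qa, map_zero], by rw [hj, h.qb, map_zero],
    by rw [polar_hvec j Q₀ Q hj, h.ab, map_zero], li_hvec j Q₀ Q hj hQ₀ h.li⟩

section Fixed

variable [Nontrivial (ι → F)] (hQ : (QuadraticMap.polarBilin Q).Nondegenerate)
  (h5 : 5 ≤ Fintype.card ι)
  (hσ : ∀ (σ : F ≃+* F) (v : ι → F), Q (fun i => σ (v i)) = σ (Q v))

/-- a Siegel transformation with fixed parameters is fixed by the field automorphism. -/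
theorem conjS_fieldGamma_sgT (σ : F ≃+* F) {u w : ι → F} (hu : Q u = 0)
    (huw : QuadraticMap.polar Q u w = 0) (hfu : (fun i => σ (u i)) = u)
    (hfw : (fun i => σ (w i)) = w) :
    conjS (fieldGamma Q hσ σ) (sgT Q u w) = sgT Q u w := by
  apply ext_ap
  intro x
  obtain ⟨y, rfl⟩ : ∃ y, gap (fieldGamma Q hσ σ) y = x :=
    ⟨gap (fieldGamma Q hσ σ)⁻¹ x, gap_gap_inv _ x⟩
  rw [ap_conjS_gap]
  have h1 := (semiSim_field Q hσ σ).conj_sieg hu huw y
  simp only [hfu, hfw, inv_one, one_smul] at h1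
  exact h1

/-- the class of a Siegel transformation with fixed parameters is fixed by the standard field
automorphism. -/
theorem poField_symm_pr_sgT (σ : F ≃+* F) {u w : ι → F} (hu : Q u = 0)
    (huw : QuadraticMap.polar Q u w = 0) (hfu : (fun i => σ (u i)) = u)
    (hfw : (fun i => σ (w i)) = w) :
    poField Q hQ h5 hσ σ ((EPG Q hQ h5).symm (pr (sgT Q u w))) =
      (EPG Q hQ h5).symm (pr (sgT Q u w)) := by
  show PsiM Q hQ h5 (fieldGamma Q hσ σ) _ = _
  rw [PsiM_apply, MulEquiv.apply_symm_apply, Psi_pr, conjS_fieldGamma_sgT Q hσ σ hu huw hfu hfw]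

end Fixed

section Main

variable [Nontrivial (ι → F)] (hQ₀ : (QuadraticMap.polarBilin Q₀).Nondegenerate)
  (hQ : (QuadraticMap.polarBilin Q).Nondegenerate) (h5 : 5 ≤ Fintype.card ι)
  (hσ : ∀ (σ : F ≃+* F) (v : ι → F), Q (fun i => σ (v i)) = σ (Q v))

include hj hQ₀ in
/-- a semilinear similarity whose automorphism fixes the fixed points of a standard field
automorphism preserves every rational singular point. -/
theorem gap_mem_span_of_fix (σ : F ≃+* F) (hfix : ∀ a, σ (j a) = j a) (γ : ↥(GammaO Q))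
    (hn : ∀ k, poField Q hQ h5 hσ σ k = k → PsiM Q hQ h5 γ k = k)
    {u₀ : ι → F₀} (hu₀0 : u₀ ≠ 0) (hu₀ : Q₀ u₀ = 0) :
    gap γ (hvec j u₀) ∈ Submodule.span F {hvec j u₀} := by
  obtain ⟨pc, hpc, hc⟩ := exists_char F
  have hdim : finrank F (ι → F) = Fintype.card ι := Module.finrank_fintype_fun_eq_card F
  have hdim₀ : finrank F₀ (ι → F₀) = Fintype.card ι := Module.finrank_fintype_fun_eq_card F₀
  have hQ' : Nondeg Q := (nondeg_iff Q).mp hQ
  have hQ₀' : Nondeg Q₀ := (nondeg_iff Q₀).mp hQ₀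
  have hg := semiSim_gap γ
  obtain ⟨e₀, f₀, h1, h2, hef⟩ := exists_two_ts hQ₀' (by rw [hdim₀]; exact h5) hu₀0 hu₀
  have hfixv : ∀ v : ι → F₀, (fun i => σ (hvec j v i)) = hvec j v := by
    intro v
    funext i
    exact hfix _
  have key : ∀ w₀, IsTS Q₀ u₀ w₀ →
      gap γ (hvec j u₀) ∈ Submodule.span F {hvec j u₀, hvec j w₀} := by
    intro w₀ hw₀
    have hw := isTS_hvec j Q₀ Q hj hQ₀' hw₀
    have hk := hn _ (poField_symm_pr_sgT Q hQ h5 hσ σ hw.qa hw.ab (hfixv u₀) (hfixv w₀))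
    rw [PsiM_apply, MulEquiv.apply_symm_apply, Psi_pr] at hk
    have h3 : pr (conjS γ (sgT Q (hvec j u₀) (hvec j w₀))) = pr (sgT Q (hvec j u₀) (hvec j w₀)) :=
      (EPG Q hQ h5).symm.injective hk
    have h4 : (sgT Q (hvec j u₀) (hvec j w₀)) ^ (pc ^ 1) = 1 := by
      rw [pow_one]
      exact sgT_pow_char pc hw.ab
    have h5' : (conjS γ (sgT Q (hvec j u₀) (hvec j w₀))) ^ (pc ^ 1) = 1 := by
      rw [← conjSG_apply, ← map_pow, h4, map_one]
    have h6 := eq_of_pr_eq hQ' (by rw [hdim]; exact h5) pc h5' h4 h3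
    rw [conjS_sgT γ hw.qa hw.ab] at h6
    exact mem_span_of_sgT_eq hQ' hw (hg.ne_zero (hvec_ne_zero j hu₀0)) (hg.sing hw.qa)
      (by rw [QuadraticMap.polar_smul_right, hg.polar, hw.ab, _root_.map_zero, mul_zero,
        smul_zero]) h6.symm
  have hu : hvec j u₀ ≠ 0 := hvec_ne_zero j hu₀0
  have t1 := isTS_hvec j Q₀ Q hj hQ₀' h1
  have t2 := isTS_hvec j Q₀ Q hj hQ₀' h2
  exact mem_span_of_two hu t1.ab t2.ab t1.qb t2.qb (by rw [polar_hvec j Q₀ Q hj, hef, map_one])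
    (key e₀ h1) (key f₀ h2)

include hj in
theorem eigen_eq_of_perp_hvec (hQ₀' : Nondeg Q₀) (M : Matrix ι ι F)
    (hfixM : ∀ u₀ : ι → F₀, u₀ ≠ 0 → Q₀ u₀ = 0 → ∃ t : F, M *ᵥ hvec j u₀ = t • hvec j u₀)
    {u u' : ι → F₀} (hu : Q₀ u = 0) (hu' : Q₀ u' = 0) (hu0 : u ≠ 0) (hind : ∀ a : F₀, a • u ≠ u')
    (hperp : QuadraticMap.polar Q₀ u u' = 0) {t t' : F}
    (ht : M *ᵥ hvec j u = t • hvec j u) (ht' : M *ᵥ hvec j u' = t' • hvec j u') : t = t' := by
  have hli₀ : LinearIndependent F₀ ![u, u'] := (LinearIndependent.pair_iff' hu0).mpr hind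
  have hli := li_hvec j Q₀ Q hj hQ₀' hli₀
  have hsum0 : u + u' ≠ 0 := by
    intro h
    apply hind (-1)
    rw [neg_smul, one_smul, eq_neg_of_add_eq_zero_left h, neg_neg]
  have hsumQ : Q₀ (u + u') = 0 := by rw [QuadraticMap.map_add Q₀, hu, hu', hperp]; simp
  obtain ⟨t'', ht''⟩ := hfixM (u + u') hsum0 hsumQ
  rw [hvec_add, mulVec_add, ht, ht', smul_add] at ht''
  have h0 : (t - t'') • hvec j u + (t' - t'') • hvec j u' = 0 := by
    rw [sub_smul, sub_smul]
    rw [← sub_eq_zero] at ht''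
    rw [← ht'']
    abel
  obtain ⟨h1, h2⟩ := LinearIndependent.pair_iff.mp hli _ _ h0
  rw [sub_eq_zero] at h1 h2
  rw [h1, h2]

include hj in
/-- a matrix fixing every rational singular point is a scalar. -/
theorem exists_scalar_of_fix_hvec (hQ₀' : Nondeg Q₀) (h5' : 5 ≤ finrank F₀ (ι → F₀))
    (M : Matrix ι ι F)
    (hfixM : ∀ u₀ : ι → F₀, u₀ ≠ 0 → Q₀ u₀ = 0 → ∃ t : F, M *ᵥ hvec j u₀ = t • hvec j u₀) :
    ∃ l : F, ∀ x : ι → F, M *ᵥ x = l • x := by
  obtain ⟨u₀, hu₀0, hu₀⟩ := exists_singular Q₀ (by omega)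
  obtain ⟨v₀, hv₀, huv₀⟩ := exists_hyperbolic_pair Q₀ hQ₀' hu₀0 hu₀
  obtain ⟨l, hl⟩ := hfixM u₀ hu₀0 hu₀
  refine ⟨l, ?_⟩
  have key : ∀ u, u ≠ 0 → Q₀ u = 0 → M *ᵥ hvec j u = l • hvec j u := by
    intro u hu0 hu
    obtain ⟨t, ht⟩ := hfixM u hu0 hu
    by_cases hmem : ∃ a : F₀, a • u₀ = u
    · obtain ⟨a, rfl⟩ := hmem
      rw [hvec_smul, mulVec_smul, hl, smul_comm]
    push Not at hmem
    by_cases hperp : QuadraticMap.polar Q₀ u₀ u = 0
    · rw [ht, eigen_eq_of_perp_hvec j Q₀ Q hj hQ₀' M hfixM hu₀ hu hu₀0 hmem hperp hl ht]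
    · -- a singular vector orthogonal to both
      have hdim := finrank_perpPair_ge Q₀ u₀ u
      obtain ⟨⟨c, hcM⟩, hc0, hc⟩ :=
        exists_singular (Q₀.comp (perpPair Q₀ u₀ u).subtype) (by omega)
      have hc0' : c ≠ 0 := fun h => hc0 (Subtype.ext h)
      have hcQ : Q₀ c = 0 := hc
      rw [mem_perpPair] at hcM
      obtain ⟨tc, htc⟩ := hfixM c hc0' hcQ
      have h1 : ∀ a : F₀, a • u₀ ≠ c := by
        intro a hac
        apply hperp
        have h2 := hcM.2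
        rw [← hac, QuadraticMap.polar_smul_right, smul_eq_mul] at h2
        rcases mul_eq_zero.mp h2 with h3 | h3
        · exfalso
          apply hc0'
          rw [← hac, h3, zero_smul]
        · rw [QuadraticMap.polar_comm]; exact h3
      have h2 : ∀ a : F₀, a • u ≠ c := by
        intro a hac
        apply hperp
        have h2 := hcM.1
        rw [← hac, QuadraticMap.polar_smul_right, smul_eq_mul] at h2
        rcases mul_eq_zero.mp h2 with h3 | h3
        · exfalso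
          apply hc0'
          rw [← hac, h3, zero_smul]
        · exact h3
      have e1 : l = tc :=
        eigen_eq_of_perp_hvec j Q₀ Q hj hQ₀' M hfixM hu₀ hcQ hu₀0 h1 hcM.1 hl htc
      have e2 : t = tc :=
        eigen_eq_of_perp_hvec j Q₀ Q hj hQ₀' M hfixM hu hcQ hu0 h2 hcM.2 ht htc
      rw [ht, e2, ← e1]
  have hall : ∀ x₀ : ι → F₀, M *ᵥ hvec j x₀ = l • hvec j x₀ := by
    intro x₀
    have hx : x₀ ∈ Submodule.span F₀ {c | c ∈ (⊤ : Submodule F₀ (ι → F₀)) ∧ Q₀ c = 0} :=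
      mem_span_singular Q₀ ⊤ (e := u₀) (f := v₀) trivial trivial hu₀ hv₀ huv₀ trivial
    obtain ⟨K, hK⟩ : ∃ K : Submodule F₀ (ι → F₀),
        ∀ x, x ∈ K ↔ M *ᵥ hvec j x = l • hvec j x := by
      refine ⟨{ carrier := {x | M *ᵥ hvec j x = l • hvec j x}
                add_mem' := ?_
                zero_mem' := ?_
                smul_mem' := ?_ }, fun x => Iff.rfl⟩
      · intro a b ha hb
        show M *ᵥ hvec j (a + b) = l • hvec j (a + b)
        rw [hvec_add, mulVec_add, ha, hb, smul_add]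
      · show M *ᵥ hvec j 0 = l • hvec j 0
        rw [hvec_zero, mulVec_zero, smul_zero]
      · intro c a ha
        show M *ᵥ hvec j (c • a) = l • hvec j (c • a)
        rw [hvec_smul, mulVec_smul, ha, smul_comm]
    have hle : Submodule.span F₀ {c | c ∈ (⊤ : Submodule F₀ (ι → F₀)) ∧ Q₀ c = 0} ≤ K := by
      rw [Submodule.span_le]
      rintro c ⟨-, hc⟩
      rw [SetLike.mem_coe, hK]
      by_cases hc0 : c = 0
      · rw [hc0, hvec_zero, mulVec_zero, smul_zero]
      · exact key c hc0 hc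
    exact (hK x₀).mp (hle hx)
  have hM : M = l • (1 : Matrix ι ι F) := by
    apply matrix_ext_hvec j
    intro v
    rw [hall, smul_mulVec, one_mulVec]
  intro x
  rw [hM, smul_mulVec, one_mulVec]

include hj hQ₀ in
/-- **an automorphism of `PΩ(Q)` fixing the fixed points of a standard field automorphism is a
standard field automorphism, whose field part fixes the subfield.** -/
theorem eq_poField_of_fix (h7 : 7 ≤ Fintype.card ι) (hB2 : 9 ≤ Fintype.card ι ∨ NoB2 Q)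
    (σ : F ≃+* F) (hfix : ∀ a, σ (j a) = j a) (n : MulAut (Cfsg.POmega F ⇑Q))
    (hn : ∀ k, poField Q hQ (by omega) hσ σ k = k → n k = k) :
    ∃ τ : F ≃+* F, (∀ a, τ (j a) = j a) ∧ n = poField Q hQ (by omega) hσ τ := by
  obtain ⟨pc, hpc, hc⟩ := exists_char F
  have h5 : 5 ≤ Fintype.card ι := by omega
  have hdim : finrank F (ι → F) = Fintype.card ι := Module.finrank_fintype_fun_eq_card F
  have hdim₀ : finrank F₀ (ι → F₀) = Fintype.card ι := Module.finrank_fintype_fun_eq_card F₀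
  have hQ' : Nondeg Q := (nondeg_iff Q).mp hQ
  have hQ₀' : Nondeg Q₀ := (nondeg_iff Q₀).mp hQ₀
  have hsurj : Function.Surjective (Psi (Q := Q)) :=
    Psi_surjective hQ' (by rw [hdim]; exact h7) pc (by rw [hdim]; exact hB2)
  obtain ⟨γ, rfl⟩ := PsiM_surjective Q hQ h5 hsurj n
  have hpt : ∀ u₀ : ι → F₀, u₀ ≠ 0 → Q₀ u₀ = 0 →
      ∃ t : F, gap γ (hvec j u₀) = t • hvec j u₀ := by
    intro u₀ h0 hu
    obtain ⟨t, ht⟩ := Submodule.mem_span_singleton.mp
      (gap_mem_span_of_fix j Q₀ Q hj hQ₀ hQ h5 hσ σ hfix γ hn h0 hu)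
    exact ⟨t, ht.symm⟩
  obtain ⟨τ, hτ⟩ : ∃ τ, τ = tau γ := ⟨_, rfl⟩
  have hg := semiSim_tau γ
  rw [← hτ] at hg
  -- the field automorphism fixes the subfield
  have hτfix : ∀ c : F₀, τ (j c) = j c := by
    obtain ⟨u₀, hu₀0, hu₀⟩ := exists_singular Q₀ (show 3 ≤ finrank F₀ (ι → F₀) by omega)
    obtain ⟨e₀, f₀, h1, -, -⟩ := exists_two_ts hQ₀' (by rw [hdim₀]; exact h5) hu₀0 hu₀
    have t1 := isTS_hvec j Q₀ Q hj hQ₀' h1
    obtain ⟨a, ha⟩ := hpt u₀ hu₀0 hu₀
    obtain ⟨b, hb⟩ := hpt e₀ h1.b_ne h1.qb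
    have key : ∀ c : F₀, τ (j c) * b = a * j c := by
      intro c
      have hne : u₀ + c • e₀ ≠ 0 := by
        intro h0
        have := h1.eq_zero_of_comb (s := 1) (t := c) (by rw [one_smul]; exact h0)
        exact one_ne_zero this.1
      have hq : Q₀ (u₀ + c • e₀) = 0 := by
        have := h1.Q_comb 1 c
        rwa [one_smul] at this
      obtain ⟨t, ht⟩ := hpt _ hne hq
      rw [hvec_add, hvec_smul, hg.add, hg.smul, ha, hb, smul_add, smul_smul, smul_smul] at ht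
      have h0 : (a - t) • hvec j u₀ + (τ (j c) * b - t * j c) • hvec j e₀ = 0 := by
        rw [sub_smul, sub_smul]
        rw [← sub_eq_zero] at ht
        rw [← ht]
        abel
      obtain ⟨e1, e2⟩ := t1.eq_zero_of_comb h0
      rw [sub_eq_zero] at e1 e2
      rw [e2, e1]
    intro c
    have k1 := key 1
    rw [map_one, map_one, one_mul, mul_one] at k1
    have ha0 : a ≠ 0 := by
      intro h0
      rw [h0, zero_smul] at ha
      exact hg.ne_zero (hvec_ne_zero j hu₀0) ha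
    have k2 := key c
    rw [k1, mul_comm] at k2
    exact mul_left_cancel₀ ha0 k2
  refine ⟨τ, hτfix, ?_⟩
  -- the linear part is a scalar
  have h1 : γ * (fieldGamma Q hσ τ)⁻¹ ∈ (tau (Q := Q)).ker := by
    rw [MonoidHom.mem_ker, map_mul, map_inv, tau_fieldGamma, hτ, mul_inv_cancel]
  rw [ker_tau] at h1
  obtain ⟨g, hg'⟩ := h1
  have h2 : γ = simGamma Q g * fieldGamma Q hσ τ := by
    rw [hg', inv_mul_cancel_right]
  have hfixM : ∀ u₀ : ι → F₀, u₀ ≠ 0 → Q₀ u₀ = 0 →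
      ∃ t : F, ((g : GL ι F) : Matrix ι ι F) *ᵥ hvec j u₀ = t • hvec j u₀ := by
    intro u₀ h0 hu
    obtain ⟨t, ht⟩ := hpt u₀ h0 hu
    refine ⟨t, ?_⟩
    rw [← ht, h2, gap_mul, gap_simGamma, gap_fieldGamma]
    congr 1
    funext i
    exact (hτfix _).symm
  obtain ⟨l, hl⟩ := exists_scalar_of_fix_hvec j Q₀ Q hj hQ₀' (by rw [hdim₀]; exact h5) _ hfixM
  have hl0 : l ≠ 0 := by
    intro h0
    obtain ⟨x, hx⟩ := exists_ne (0 : ι → F)
    have h3 := hl x
    rw [h0, zero_smul] at h3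
    exact (semiSim_gap (simGamma Q g)).ne_zero hx h3
  have h3 : simGamma Q g = scalarGamma (Units.mk0 l hl0) := by
    apply ext_gap
    intro x
    rw [gap_simGamma, gap_scalarGamma, Units.val_mk0, hl]
  have h4 : PsiM Q hQ h5 (simGamma Q g) = 1 := by
    have h6 : simGamma Q g ∈ (PsiM Q hQ h5).ker := by
      rw [ker_PsiM, h3]
      exact scalarGamma_le_ker ⟨_, rfl⟩
    exact h6
  rw [h2, map_mul, h4, one_mul]
  rfl

end Main

end Cfsg.Agent.Helper8.AutO
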