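import Mathlib
import Cfsg.Agent.Helper8.AutOzp
import Cfsg.Agent.Helper8.AutSpzv

set_option autoImplicit false
set_option linter.unusedSectionVars false
set_option linter.style.haveILetI false

/-!
# Automorphisms of orthogonal groups, part zq: the `p'`-core of the centraliser of a field
automorphism of prime order `p` of `PΩ(Q)`, odd dimension
-/

namespace Cfsg.Agent.Helper8.AutO

open Module Matrix Cfsg.Agent.Helper8.QuadForm Cfsg.Agent.Helper8.WittQuad
  Cfsg.Agent.Helper8.OrthOrder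
  Cfsg.Agent.Helper8.Siegel Cfsg.Agent.Helper8.SiegelGeom Cfsg.Agent.Helper8.SiegelGroup
  Cfsg.Agent.Helper8.SiegelPrim Cfsg.Agent.Helper8.SiegelSimple Cfsg.Agent.Helper8.ReflMatrix
  Cfsg.Agent.Helper8.OmegaSimple Cfsg.Agent.Helper8.AutImagePsi Cfsg.Agent.Helper8.AutImageOrth
  Cfsg.Agent.Helper8.StdForms Cfsg.Agent.Helper8.AutImage Cfsg.Agent.Helper8.AutImageKer
  Cfsg.Agent.Helper8.AutImageIdx
open Cfsg.Agent.Helper8.AutSLn (fixField)
open Cfsg.Agent.Helper8.AutSp (HasCore pPrimeCore_ne_bot_iff_hasCore hasCore_map_iff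
  smul_inf_centralizer aut_conj_conj mem_centralizer_singleton_iff card_eqLocus_conj
  mem_zpowers_of_fixes)
open scoped Pointwise

section Inj

variable {F : Type*} [Field F] [Fintype F] {ι : Type} [Fintype ι] [DecidableEq ι]
  (Q : QuadraticForm F (ι → F))

/-- `PΩ(Q)` has trivial centre. -/
theorem conj_injective_POmega (hQ : (QuadraticMap.polarBilin Q).Nondegenerate)
    (h5 : 5 ≤ Fintype.card ι) :
    Function.Injective (MulAut.conj : Cfsg.POmega F ⇑Q →* MulAut (Cfsg.POmega F ⇑Q)) := by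
  rw [injective_iff_map_eq_one]
  intro k hk
  have h1 : k ∈ Subgroup.center (Cfsg.POmega F ⇑Q) := by
    rw [Subgroup.mem_center_iff]
    intro g
    have h3 : MulAut.conj k g = g := by rw [hk, MulAut.one_apply]
    rw [MulAut.conj_apply] at h3
    have h4 : k * g = k * g * k⁻¹ * k := by group
    rw [h4, h3]
  rw [center_quot_center_eq_bot (commutator_Omega_eq_top Q hQ h5)] at h1
  exact Subgroup.mem_bot.mp h1

end Inj

variable {F₀ : Type*} {F : Type*} [Field F₀] [Field F] [Fintype F₀] [Fintype F] (j : F₀ →+* F)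
  {ι : Type} [Fintype ι] [DecidableEq ι]
  (Q₀ : QuadraticForm F₀ (ι → F₀)) (Q : QuadraticForm F (ι → F))
  (hj : ∀ v : ι → F₀, Q (hvec j v) = j (Q₀ v))

include hj in
/-- **the `p'`-core of the centraliser of a standard field automorphism of prime order `p`**,
relative to a model of the fixed field. -/
theorem core_field_iff_aux [Nontrivial (ι → F)] (h2 : (2 : F) ≠ 0)
    (hQ₀ : (QuadraticMap.polarBilin Q₀).Nondegenerate)
    (hQ : (QuadraticMap.polarBilin Q).Nondegenerate) (h7 : 7 ≤ Fintype.card ι)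
    (h5 : 5 ≤ Fintype.card ι)
    (hodd : Odd (Fintype.card ι)) (hB2 : 9 ≤ Fintype.card ι ∨ NoB2 Q)
    (hσ : ∀ (σ : F ≃+* F) (v : ι → F), Q (fun i => σ (v i)) = σ (Q v))
    (σ : F ≃+* F) (hfix : ∀ a, σ (j a) = j a) (hsurj : ∀ b, σ b = b → ∃ a, j a = b)
    {p : ℕ} [Fact p.Prime] (hσp : orderOf σ = p)
    (A : Subgroup (MulAut (Cfsg.POmega F ⇑Q)))
    (hinn : ∀ k : Cfsg.POmega F ⇑Q, MulAut.conj k ∈ A) :
    HasCore p (A ⊓ Subgroup.centralizer {poField Q hQ h5 hσ σ}) ↔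
      Nat.Coprime p (Nat.card (MonoidHom.eqLocus (poField Q hQ h5 hσ σ).toMonoidHom
        (MonoidHom.id (Cfsg.POmega F ⇑Q)))) := by
  have hp : p.Prime := Fact.out
  have hσpow : σ ^ p = 1 := by rw [← hσp, pow_orderOf_eq_one]
  have h2₀ : (2 : F₀) ≠ 0 := two_ne_zero_sub j Q₀ Q hj h2
  have : Finite (Cfsg.POmega F ⇑Q) := by
    unfold Cfsg.POmega
    infer_instance
  obtain ⟨x₀, hx₀⟩ : ∃ x₀ : MulAut (Cfsg.POmega F ⇑Q), x₀ = poField Q hQ h5 hσ σ := ⟨_, rfl⟩
  obtain ⟨Fix, hFix⟩ : ∃ Fix : Subgroup (Cfsg.POmega F ⇑Q),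
      Fix = MonoidHom.eqLocus x₀.toMonoidHom (MonoidHom.id (Cfsg.POmega F ⇑Q)) := ⟨_, rfl⟩
  have hmemFix : ∀ k, k ∈ Fix ↔ x₀ k = k := by
    intro k
    rw [hFix]
    exact Iff.rfl
  rw [← hx₀, ← hFix]
  -- conjugation by fixed elements
  have hconj : ∀ k ∈ Fix, MulAut.conj k ∈ A ⊓ Subgroup.centralizer {x₀} := by
    intro k hk
    refine Subgroup.mem_inf.mpr ⟨hinn k, ?_⟩
    rw [mem_centralizer_singleton_iff]
    have h1 := aut_conj_conj x₀ k
    rw [(hmemFix k).mp hk] at h1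
    conv_rhs => rw [← h1, inv_mul_cancel_right]
  -- elements of the centraliser preserve the fixed points
  have hpres : ∀ c ∈ A ⊓ Subgroup.centralizer {x₀}, ∀ k ∈ Fix, c k ∈ Fix := by
    intro c hc k hk
    rw [hmemFix] at hk ⊢
    have h1 := mem_centralizer_singleton_iff.mp (Subgroup.mem_inf.mp hc).2
    have h3 : (x₀ * c) k = (c * x₀) k := by rw [h1]
    rw [MulAut.mul_apply, MulAut.mul_apply, hk] at h3
    exact h3
  constructor
  · rintro ⟨N, hN1, hN2, hN3, hN4⟩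
    by_contra hcop
    have hd : p ∣ Nat.card Fix := by
      by_contra hnd
      exact hcop ((Nat.Prime.coprime_iff_not_dvd hp).mpr hnd)
    apply hN4
    -- the part of `N` consisting of inner automorphisms
    obtain ⟨M₀, hM₀⟩ : ∃ M₀ : Subgroup (Cfsg.POmega F ⇑Q),
        M₀ = N.comap (MulAut.conj : Cfsg.POmega F ⇑Q →* MulAut (Cfsg.POmega F ⇑Q)) ⊓ Fix :=
      ⟨_, rfl⟩
    have hM₀bot : M₀ = ⊥ := by
      apply fixed_normal_eq_bot_pgo j Q₀ Q hj h2 hQ₀ hQ h5 hodd hσ σ hfix hsurj (p := p) M₀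
      · intro k hk
        rw [hM₀] at hk
        rw [← hx₀]
        exact (hmemFix k).mp (Subgroup.mem_inf.mp hk).2
      · intro k' hk' k hk
        rw [← hx₀, ← hmemFix] at hk'
        rw [hM₀] at hk ⊢
        obtain ⟨hk1, hk2⟩ := Subgroup.mem_inf.mp hk
        refine Subgroup.mem_inf.mpr ⟨?_, Fix.mul_mem (Fix.mul_mem hk' hk2) (Fix.inv_mem hk')⟩
        rw [Subgroup.mem_comap, map_mul, map_mul, map_inv]
        exact hN2 _ (hconj k' hk') _ hk1
      · have h1 : Nat.card (M₀.map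
            (MulAut.conj : Cfsg.POmega F ⇑Q →* MulAut (Cfsg.POmega F ⇑Q))) ∣ Nat.card N := by
          apply Subgroup.card_dvd_of_le
          rintro _ ⟨k, hk, rfl⟩
          rw [hM₀] at hk
          exact (Subgroup.mem_inf.mp hk).1
        rw [Subgroup.card_map_of_injective (conj_injective_POmega Q hQ h5)] at h1
        exact Nat.Coprime.coprime_dvd_left h1 hN3
      · rw [← hx₀, ← hFix]
        exact hd
    -- the elements of `N` fix the fixed points
    have hNfix : ∀ n ∈ N, ∀ k ∈ Fix, n k = k := by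
      intro n hn k hk
      have h1 : n k * k⁻¹ ∈ M₀ := by
        rw [hM₀]
        refine Subgroup.mem_inf.mpr ⟨?_, Fix.mul_mem (hpres n (hN1 hn) k hk) (Fix.inv_mem hk)⟩
        rw [Subgroup.mem_comap, map_mul, map_inv, ← aut_conj_conj]
        have h3 : MulAut.conj k * n⁻¹ * (MulAut.conj k)⁻¹ ∈ N :=
          hN2 _ (hconj k hk) _ (N.inv_mem hn)
        have h4 : n * MulAut.conj k * n⁻¹ * (MulAut.conj k)⁻¹ =
            n * (MulAut.conj k * n⁻¹ * (MulAut.conj k)⁻¹) := by group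
        rw [h4]
        exact N.mul_mem hn h3
      rw [hM₀bot, Subgroup.mem_bot] at h1
      exact mul_inv_eq_one.mp h1
    rw [Subgroup.eq_bot_iff_forall]
    intro n hn
    obtain ⟨τ, hτ, hnτ⟩ := eq_poField_of_fix j Q₀ Q hj hQ₀ hQ h5 hσ h7 hB2 σ hfix n (by
      intro k hk
      apply hNfix n hn
      rw [hmemFix, hx₀]
      exact hk)
    have hτ' : ∀ c, σ c = c → τ c = c := by
      intro c hc
      obtain ⟨a, rfl⟩ := hsurj c hc
      exact hτ a
    have hτz := mem_zpowers_of_fixes σ τ hτ'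
    obtain ⟨i, hi⟩ := Subgroup.mem_zpowers_iff.mp hτz
    have hτp : τ ^ p = 1 := by
      rw [← hi, ← zpow_natCast, ← _root_.zpow_mul, mul_comm, _root_.zpow_mul, zpow_natCast, hσpow,
        _root_.one_zpow]
    have hnp : n ^ p = 1 := by rw [hnτ, ← map_pow, hτp, map_one]
    have h1 : orderOf n ∣ p := orderOf_dvd_of_pow_eq_one hnp
    have h3 : orderOf (⟨n, hn⟩ : N) ∣ Nat.card N := orderOf_dvd_natCard _
    rw [← Subgroup.orderOf_coe] at h3
    have h4 := Nat.dvd_gcd h3 h1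
    rw [hN3] at h4
    exact orderOf_eq_one_iff.mp (Nat.dvd_one.mp h4)
  · intro hcop
    refine ⟨Fix.map (MulAut.conj : Cfsg.POmega F ⇑Q →* MulAut (Cfsg.POmega F ⇑Q)), ?_, ?_, ?_, ?_⟩
    · rintro _ ⟨k, hk, rfl⟩
      exact hconj k hk
    · rintro c hc _ ⟨k, hk, rfl⟩
      refine ⟨c k, hpres c hc k hk, ?_⟩
      exact (aut_conj_conj c k).symm
    · exact Nat.Coprime.coprime_dvd_left (Subgroup.card_map_dvd _ _) hcop.symm
    · intro hbot
      obtain ⟨g, hg, hg1, -⟩ := exists_involution_Omega Q₀ h2₀ hQ₀ h5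
      obtain ⟨k, hk⟩ : ∃ k : Cfsg.POmega F ⇑Q,
          k = fixHom j Q₀ Q hj ⟨g, Omega_le_fixO j Q₀ Q hj hg⟩ := ⟨_, rfl⟩
      have hkFix : k ∈ Fix := by
        rw [hmemFix, hx₀, hk]
        exact poField_fixHom j Q₀ Q hj hQ h5 hσ σ hfix _
      have hk1 : k ≠ 1 := by
        intro h1
        rw [hk, ← map_one (fixHom j Q₀ Q hj)] at h1
        have h3 := fixHom_injective j Q₀ Q hj h2 hQ (by omega) hodd h1
        exact hg1 (congrArg Subtype.val h3)
      have h1 : MulAut.conj k ∈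
          Fix.map (MulAut.conj : Cfsg.POmega F ⇑Q →* MulAut (Cfsg.POmega F ⇑Q)) := ⟨_, hkFix, rfl⟩
      rw [hbot, Subgroup.mem_bot] at h1
      apply hk1
      apply conj_injective_POmega Q hQ h5
      rw [h1, map_one]

section Final

variable {F : Type*} [Field F] [Fintype F] {ι : Type} [Fintype ι] [DecidableEq ι]
  (Q : QuadraticForm F (ι → F))

/-- **the `p'`-core of the centraliser of a standard field automorphism of prime order `p`.** -/
theorem core_field_iff_pgo [Nontrivial (ι → F)] (h2 : (2 : F) ≠ 0)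
    (hQ : (QuadraticMap.polarBilin Q).Nondegenerate) (h7 : 7 ≤ Fintype.card ι)
    (h5 : 5 ≤ Fintype.card ι)
    (hodd : Odd (Fintype.card ι)) (hB2 : 9 ≤ Fintype.card ι ∨ NoB2 Q)
    (hσ : ∀ (σ : F ≃+* F) (v : ι → F), Q (fun i => σ (v i)) = σ (Q v))
    (σ : F ≃+* F) {p : ℕ} [Fact p.Prime] (hσp : orderOf σ = p)
    (A : Subgroup (MulAut (Cfsg.POmega F ⇑Q)))
    (hinn : ∀ k : Cfsg.POmega F ⇑Q, MulAut.conj k ∈ A) :
    HasCore p (A ⊓ Subgroup.centralizer {poField Q hQ h5 hσ σ}) ↔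
      Nat.Coprime p (Nat.card (MonoidHom.eqLocus (poField Q hQ h5 hσ σ).toMonoidHom
        (MonoidHom.id (Cfsg.POmega F ⇑Q)))) := by
  have : Fintype ↥(fixField σ) := Fintype.ofFinite _
  have hmem : ∀ v : ι → ↥(fixField σ), Q (cvec (fixField σ) v) ∈ fixField σ := by
    intro v
    rw [Cfsg.Agent.Helper8.AutSLn.mem_fixField, ← hσ]
    congr 1
    funext i
    exact (v i).2
  exact core_field_iff_aux (fixField σ).subtype (descendQ (fixField σ) Q hmem) Q (fun v => rfl) h2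
    ((nondeg_iff _).mpr (nondeg_descendQ (fixField σ) Q hmem ((nondeg_iff Q).mp hQ))) hQ h7 h5 hodd
    hB2 hσ σ (fun a => a.2) (fun b hb => ⟨⟨b, hb⟩, rfl⟩) hσp A hinn

/-- **the criterion for the failure of local balance for `PΩ(Q)`, odd dimension.** -/
theorem core_iff_pgo [Nontrivial (ι → F)] (h2 : (2 : F) ≠ 0)
    (hQ : (QuadraticMap.polarBilin Q).Nondegenerate) (h7 : 7 ≤ Fintype.card ι) {m : ℕ}
    (hcard : Fintype.card ι = 2 * m + 1) (hB2 : 9 ≤ Fintype.card ι ∨ NoB2 Q)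
    (hσ : ∀ (σ : F ≃+* F) (v : ι → F), Q (fun i => σ (v i)) = σ (Q v))
    (A : Subgroup (MulAut (Cfsg.POmega F ⇑Q)))
    (hinn : ∀ k : Cfsg.POmega F ⇑Q, MulAut.conj k ∈ A)
    {p : ℕ} [Fact p.Prime] (x : MulAut (Cfsg.POmega F ⇑Q)) (hord : orderOf x = p)
    (hnot : ¬ Cfsg.IsSimilarityInducedAutPOmega ⇑Q x) :
    Cfsg.pPrimeCore p ↥(A ⊓ Subgroup.centralizer {x}) ≠ ⊥ ↔
      (Cfsg.IsFieldAutClassPOmega ⇑Q x ∧ Nat.Coprime p (Nat.card
        ↥(MonoidHom.eqLocus x.toMonoidHom (MonoidHom.id (Cfsg.POmega F ⇑Q))))) := by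
  have h5 : 5 ≤ Fintype.card ι := by omega
  have hodd : Odd (Fintype.card ι) := ⟨m, hcard⟩
  obtain ⟨u, σ, hσord, hx⟩ := exists_conj_eq_poField Q hQ h7 hcard hB2 hσ x hord hnot
  have hp : p.Prime := Fact.out
  have hσ1 : σ ≠ RingEquiv.refl F := by
    intro h1
    have h3 : σ = 1 := h1
    rw [h3, orderOf_one] at hσord
    exact hp.one_lt.ne hσord
  obtain ⟨α, hα⟩ : ∃ α : MulAut (Cfsg.POmega F ⇑Q), α = (Phi ⇑Q u)⁻¹ := ⟨_, rfl⟩
  have hαx : α * x * α⁻¹ = poField Q hQ h5 hσ σ := by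
    rw [hα, hx]
    group
  have hcls : Cfsg.IsFieldAutClassPOmega ⇑Q x :=
    ⟨α, poField Q hQ h5 hσ σ, σ, hσ1, isFieldAut_poField Q hQ h5 hσ σ, hαx⟩
  rw [pPrimeCore_ne_bot_iff_hasCore, ← hasCore_map_iff (MulAut.conj α), smul_inf_centralizer,
    MulAut.conj_apply, hαx]
  rw [core_field_iff_pgo Q h2 hQ h7 h5 hodd hB2 hσ σ hσord, ← hαx, card_eqLocus_conj]
  · constructor
    · intro h1
      exact ⟨hcls, h1⟩
    · intro h1
      exact h1.2
  · intro k
    rw [Subgroup.mem_pointwise_smul_iff_inv_smul_mem, MulAut.smul_def, ← map_inv,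
      MulAut.conj_apply, inv_inv]
    have h1 := aut_conj_conj α⁻¹ k
    rw [inv_inv] at h1
    rw [h1]
    exact hinn _

end Final

end Cfsg.Agent.Helper8.AutO
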