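import Mathlib
import Cfsg.Agent.Helper7.ChevOutK
import Cfsg.Agent.Helper7.D4OK
import Cfsg.Agent.Helper8.AutOzq

set_option autoImplicit false
set_option linter.unusedSectionVars false
set_option linter.style.haveILetI false

/-!
# The order of the automorphism group of `PΩ⁺₈(q)`
-/

namespace Cfsg.Agent.Helper8.AutD4

open Cfsg Cfsg.Lie Matrix Cfsg.Agent.Helper7.Chev

variable {F : Type*} [Field F] [Fintype F]

/-- the order of the outer automorphism group of `D₄(q)`. -/
theorem card_out_D4 (p f : ℕ) [Fact p.Prime] [CharP F p] (hF : Fintype.card F = p ^ f) :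
    Nat.card (Cfsg.Out ↥(chevD4.group F)) = 6 * Nat.gcd 2 (p ^ f - 1) ^ 2 * f := by
  have hD : chevD4 ∈ [chevG2, chevB2, chevD4, chevF4, chevE6, chevE7, chevE8] := by simp
  have h1 := card_out_mul (F := F) chevD4 hD
  have h5 : Nat.card ↥(stabUV chevD4 F) = 6 * Nat.card ↥(fixNodes chevD4 F) := by
    have h6 := Subgroup.card_mul_index ((fixNodes chevD4 F).subgroupOf (stabUV chevD4 F))
    rw [index_fixNodes_D4,
      Nat.card_congr (Subgroup.subgroupOfEquivOfLe (fixNodes_le_stabUV (D := chevD4) (F := F))).toEquiv]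
      at h6
    rw [← h6, mul_comm]
  rw [h5, card_fixNodes chevD4 hD p f hF] at h1
  have h2 := card_diagonal_mul (F := F) good3_D4.toGood2.toGood1 T17_D4
  have h3 : ((List.range chevD4.rank).map fun i => (Fintype.card F - 1).gcd (t17d_D4 i)).prod =
      Nat.gcd 2 (p ^ f - 1) ^ 2 := by
    have : List.range chevD4.rank = [0, 1, 2, 3] := by decide
    rw [this, hF]
    simp [t17d_D4, Nat.gcd_comm, pow_two]
  rw [h3] at h2
  have hpos : 0 < Nat.card (chevD4.diagonalSubgroup F) := Nat.card_pos
  have h4 : Nat.card (Cfsg.Out ↥(chevD4.group F)) * Nat.card (chevD4.diagonalSubgroup F) =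
      6 * Nat.gcd 2 (p ^ f - 1) ^ 2 * f * Nat.card (chevD4.diagonalSubgroup F) := by
    rw [h1, ← h2]
    ring
  exact Nat.eq_of_mul_eq_mul_right hpos h4

/-- the order of the automorphism group of a group with trivial centre. -/
theorem card_aut_eq_out_mul {G : Type*} [Group G] [Finite G]
    (hinj : Function.Injective (MulAut.conj : G →* MulAut G)) :
    Nat.card (MulAut G) = Nat.card (Cfsg.Out G) * Nat.card G := by
  have h1 := Subgroup.card_eq_card_quotient_mul_card_subgroup (Cfsg.Inn G)
  have h2 : Nat.card ↥(Cfsg.Inn G) = Nat.card G := by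
    symm
    exact Nat.card_congr (MonoidHom.ofInjective hinj).toEquiv
  rw [h2] at h1
  exact h1

/-- **`|Aut(PΩ⁺₈(q))|`.** -/
theorem card_aut_plus_four (p f : ℕ) [Fact p.Prime] (hF : Fintype.card F = p ^ f) :
    Nat.card (MulAut (Cfsg.POmega F (Cfsg.quadFormPlus 4 F)))
      = 6 * Nat.gcd 2 (p ^ f - 1) ^ 2 * f * Nat.card (Cfsg.POmega F (Cfsg.quadFormPlus 4 F)) := by
  haveI : CharP F p := charP_of_card_eq_prime_pow hF
  obtain ⟨e⟩ := Cfsg.Agent.Helper7.D4O.d4_equiv_pomega (F := F)
  have e' : ⇑(Cfsg.Agent.Helper8.StdForms.plusForm F 4) = Cfsg.quadFormPlus 4 F :=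
    funext (Cfsg.Agent.Helper8.StdForms.plusForm_apply F 4)
  have hinj : Function.Injective
      (MulAut.conj : Cfsg.POmega F (Cfsg.quadFormPlus 4 F) →* MulAut _) := by
    have := Cfsg.Agent.Helper8.AutO.conj_injective_POmega
      (Cfsg.Agent.Helper8.StdForms.plusForm F 4)
      (Cfsg.Agent.Helper8.StdForms.plusForm_nondeg F 4)
      (by simp only [Fintype.card_sum, Fintype.card_fin]; omega)
    rwa [e'] at this
  have hinj' : Function.Injective (MulAut.conj : ↥(chevD4.group F) →* MulAut _) := by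
    rw [injective_iff_map_eq_one]
    intro k hk
    have h1 : MulAut.conj (e k) = 1 := by
      ext g
      obtain ⟨g', rfl⟩ := e.surjective g
      have h2 := DFunLike.congr_fun hk g'
      rw [MulAut.conj_apply, MulAut.one_apply] at h2 ⊢
      rw [← map_inv, ← map_mul, ← map_mul, h2]
    have h3 := (injective_iff_map_eq_one _).mp hinj _ h1
    exact (EmbeddingLike.map_eq_one_iff (f := e)).mp h3
  have hfin : Finite ↥(chevD4.group F) := inferInstance
  have h1 := card_aut_eq_out_mul hinj'
  rw [card_out_D4 p f hF, Nat.card_congr e.toEquiv] at h1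
  rw [← h1]
  exact Nat.card_congr (MulAut.congr e).symm.toEquiv

end Cfsg.Agent.Helper8.AutD4
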