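import Mathlib
import Cfsg.Agent.Helper8.AutOy
import Cfsg.Agent.Helper8.AutD4A

set_option autoImplicit false
set_option linter.unusedSectionVars false
set_option linter.style.haveILetI false

/-!
# The outer automorphism group of `PΩ⁺_{2m}(q)`, `q` even, `m ≥ 5`
-/

namespace Cfsg.Agent.Helper8.AutD4

open Module Matrix Cfsg.Agent.Helper8.QuadForm Cfsg.Agent.Helper8.WittQuad
  Cfsg.Agent.Helper8.OrthOrder
  Cfsg.Agent.Helper8.Siegel Cfsg.Agent.Helper8.SiegelGeom Cfsg.Agent.Helper8.SiegelGroup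
  Cfsg.Agent.Helper8.SiegelPrim Cfsg.Agent.Helper8.SiegelSimple Cfsg.Agent.Helper8.ReflMatrix
  Cfsg.Agent.Helper8.OmegaSimple Cfsg.Agent.Helper8.AutImagePsi Cfsg.Agent.Helper8.AutImageOrth
  Cfsg.Agent.Helper8.StdForms Cfsg.Agent.Helper8.AutImage Cfsg.Agent.Helper8.AutO

variable {F : Type*} [Field F] [Fintype F] {ι : Type} [Fintype ι] [DecidableEq ι]
  (Q : QuadraticForm F (ι → F))

/-- the outer automorphism group of `PΩ(Q)` when `|Aut| = 2 |Aut F| |PΩ|` and the form is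
invariant under the field automorphisms. -/
theorem out_POmega_of_card_two [Nontrivial (ι → F)]
    (hQ : (QuadraticMap.polarBilin Q).Nondegenerate)
    (h7 : 7 ≤ Fintype.card ι)
    (hB2 : 9 ≤ Fintype.card ι ∨ NoB2 Q)
    (hσ : ∀ (σ : F ≃+* F) (v : ι → F), Q (fun i => σ (v i)) = σ (Q v))
    (hcardA : Nat.card (MulAut (Cfsg.POmega F ⇑Q))
      = 2 * Nat.card (F ≃+* F) * Nat.card (Cfsg.POmega F ⇑Q)) :
    Nonempty (Cfsg.Out (Cfsg.POmega F ⇑Q) ≃* Multiplicative (ZMod 2) × (F ≃+* F)) := by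
  obtain ⟨p, hp, hc⟩ := exists_char F
  have hdim : finrank F (ι → F) = Fintype.card ι := Module.finrank_fintype_fun_eq_card F
  have hQ' : Nondeg Q := (nondeg_iff Q).mp hQ
  have hsurj : Function.Surjective (Psi (Q := Q)) :=
    Psi_surjective hQ' (by rw [hdim]; exact h7) p (by rw [hdim]; exact hB2)
  have hker : (Psi (Q := Q)).ker ≤ (tau (Q := Q)).ker := by
    rw [ker_Psi hQ' (by rw [hdim]; omega) p]
    rintro _ ⟨c, rfl⟩
    exact MonoidHom.mem_ker.mpr (tau_scalarGamma c)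
  obtain ⟨E, -⟩ : ∃ E : Cfsg.POmega F ⇑Q ≃* PG Q, True :=
    ⟨Cfsg.Agent.Helper8.SL2HermOmega.quotCenterEquiv (omegaEquiv Q hQ (by omega)), trivial⟩
  -- the order of the outer automorphism group
  have hcardOut : Nat.card (Cfsg.Out (PG Q)) = 2 * Nat.card (F ≃+* F) := by
    have h1 := hcardA
    rw [Nat.card_congr (MulAut.congr E).toEquiv, Nat.card_congr E.toEquiv] at h1
    have h3 := Subgroup.card_eq_card_quotient_mul_card_subgroup (Cfsg.Inn (PG Q))
    have hcen : Subgroup.center (PG Q) = ⊥ :=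
      center_quot_center_eq_bot (commutator_SG_eq_top Q hQ' (by rw [hdim]; omega))
    rw [card_Inn_of_center_eq_bot hcen, h1] at h3
    haveI : Finite (ι → F) := Module.finite_of_finite F
    haveI : Finite ↥(SG Q) := Finite.of_injective (fun h => (ap h : (ι → F) → (ι → F)))
      (fun a b hab => ext_ap (fun x => congrFun hab x))
    have hpos : 0 < Nat.card (PG Q) := Nat.card_pos
    exact (Nat.eq_of_mul_eq_mul_right hpos h3).symm
  haveI : Finite (Cfsg.Out (PG Q)) := by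
    apply Nat.finite_of_card_ne_zero
    rw [hcardOut]
    haveI : Finite (F ≃+* F) := Finite.of_injective (fun σ : F ≃+* F => (σ : F → F))
      (fun a b hab => RingEquiv.ext (fun x => congrFun hab x))
    have : 0 < Nat.card (F ≃+* F) := Nat.card_pos
    omega
  obtain ⟨e1⟩ := split_of_card_two (tauOut hsurj hker)
    ((QuotientGroup.mk' (Cfsg.Inn (PG Q))).comp ((Psi (Q := Q)).comp (fieldGamma Q hσ)))
    (fun σ => by
      show tauOut hsurj hker (QuotientGroup.mk (Psi (fieldGamma Q hσ σ))) = σ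
      rw [tauOut_mk, tau_fieldGamma]) hcardOut
  exact ⟨(outCongr E).trans e1⟩

/-- **the outer automorphism group of `PΩ⁺_{2m}(q)`, `q` even, `m ≥ 5`.** -/
theorem out_POmega_plus_even_big {f : ℕ} (hF : Fintype.card F = 2 ^ f) {m : ℕ} (hm : 5 ≤ m) :
    Nonempty (Cfsg.Out (Cfsg.POmega F (Cfsg.quadFormPlus m F))
      ≃* Multiplicative (ZMod 2 × ZMod f)) := by
  have e : ⇑(plusForm F m) = Cfsg.quadFormPlus m F := funext (plusForm_apply F m)
  have hcard : Fintype.card (Fin m ⊕ Fin m) = 2 * m := by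
    simp only [Fintype.card_sum, Fintype.card_fin]; ring
  haveI : Fact (Nat.Prime 2) := ⟨Nat.prime_two⟩
  have : CharP F 2 := charP_of_card_eq_prime_pow hF
  have hcardA := Cfsg.Agent.Helper7.FieldAutCard.card_ringAut 2 f hF
  have hcyc : IsCyclic (F ≃+* F) := Cfsg.Agent.Helper8.AutPSL2.isCyclic_ringAut'
  obtain ⟨ef⟩ : Nonempty ((F ≃+* F) ≃* Multiplicative (ZMod f)) := by
    rw [← hcardA]
    exact ⟨(zmodCyclicMulEquiv hcyc).symm⟩
  haveI : Nonempty (Fin m ⊕ Fin m) := ⟨Sum.inl ⟨0, by omega⟩⟩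
  have hA := card_aut_plus_big (F := F) 2 f hF hm
  rw [if_pos rfl, ← hcardA, ← e] at hA
  rw [← e]
  obtain ⟨e1⟩ := out_POmega_of_card_two (plusForm F m) (plusForm_nondeg F m)
    (by rw [hcard]; omega) (Or.inl (by rw [hcard]; omega))
    (fun σ v => plusForm_sigma σ m v) hA
  exact ⟨(e1.trans (MulEquiv.prodCongr (MulEquiv.refl _) ef)).trans
    (MulEquiv.prodMultiplicative _ _).symm⟩

end Cfsg.Agent.Helper8.AutD4
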