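import Mathlib

set_option autoImplicit false
set_option linter.unusedSectionVars false
set_option linter.unusedVariables false
set_option linter.style.haveILetI false

/-!
# Automorphisms of the dihedral group of order eight that are trivial modulo the centre and fix a
non-central involution; splitting an extension of a cyclic group
-/

namespace Cfsg.Agent.Helper8.AutD4

open DihedralGroup

theorem d8_center : ∀ c : DihedralGroup 4, (∀ g, c * g = g * c) → c = 1 ∨ c = r 2 := by decide

theorem d8_comm : ∀ x y : DihedralGroup 4,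
    x * y * x⁻¹ * y⁻¹ = 1 ∨ x * y * x⁻¹ * y⁻¹ = r 2 := by decide

theorem d8_noncentral : ∀ x : DihedralGroup 4, x ≠ 1 → x ≠ r 2 → ∃ y, x * y ≠ y * x := by decide

theorem d8_cosets : ∀ a k₀ k : DihedralGroup 4, a * a = 1 → a ≠ 1 → a ≠ r 2 → a * k₀ ≠ k₀ * a →
    ((k = 1 ∨ k = a ∨ k = r 2 ∨ k = a * r 2) ∨
      (k = k₀ ∨ k = k₀ * a ∨ k = k₀ * r 2 ∨ k = k₀ * (a * r 2))) := by decide

theorem d8_r2_sq : (r 2 : DihedralGroup 4) * r 2 = 1 := by decide

/-- an automorphism of a dihedral group of order eight which is trivial modulo the centre and fixes a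
non-central involution `a` is the identity or the conjugation by `a`. -/
theorem aut_d8_cases {K : Type*} [Group K] (e : K ≃* DihedralGroup 4) (β : MulAut K) (z₀ a : K)
    (hz₀ : z₀ ≠ 1) (hzc : ∀ k, z₀ * k = k * z₀) (haa : a * a = 1) (ha1 : a ≠ 1) (haz : a ≠ z₀)
    (hβa : β a = a) (hβ : ∀ k, β k * k⁻¹ = 1 ∨ β k * k⁻¹ = z₀) :
    (∀ k, β k = k) ∨ (∀ k, β (a * k * a⁻¹) = k) := by
  -- the centre
  have hez : e z₀ = r 2 := by
    rcases d8_center (e z₀) (fun g => by
      obtain ⟨k, rfl⟩ := e.surjective g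
      rw [← map_mul, ← map_mul, hzc]) with h | h
    · exfalso
      apply hz₀
      apply e.injective
      rw [h, map_one]
    · exact h
  have hzz : z₀ * z₀ = 1 := by
    apply e.injective
    rw [map_mul, hez, map_one, d8_r2_sq]
  have hβz : β z₀ = z₀ := by
    rcases hβ z₀ with h | h
    · calc β z₀ = β z₀ * z₀⁻¹ * z₀ := by group
        _ = z₀ := by rw [h, one_mul]
    · exfalso
      have h1 : β z₀ = 1 := by
        calc β z₀ = β z₀ * z₀⁻¹ * z₀ := by group
          _ = 1 := by rw [h, hzz]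
      apply hz₀
      apply β.injective
      rw [h1, map_one]
  have ha_inv : a⁻¹ = a := inv_eq_of_mul_eq_one_right haa
  -- a non-commuting element
  have hea1 : e a ≠ 1 := by
    intro h
    apply ha1
    apply e.injective
    rw [h, map_one]
  have hear : e a ≠ r 2 := by
    intro h
    apply haz
    apply e.injective
    rw [h, hez]
  obtain ⟨y, hy⟩ := d8_noncentral (e a) hea1 hear
  obtain ⟨k₀, rfl⟩ := e.surjective y
  have hk₀ : a * k₀ ≠ k₀ * a := by
    intro h
    apply hy
    rw [← map_mul, ← map_mul, h]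
  have hd : a * k₀ * a⁻¹ = z₀ * k₀ := by
    have h1 : a * k₀ * a⁻¹ * k₀⁻¹ = z₀ := by
      rcases d8_comm (e a) (e k₀) with h | h
      · exfalso
        apply hk₀
        have h2 : a * k₀ * a⁻¹ * k₀⁻¹ = 1 := by
          apply e.injective
          rw [map_mul, map_mul, map_mul, map_inv, map_inv, h, map_one]
        calc a * k₀ = (a * k₀ * a⁻¹ * k₀⁻¹) * k₀ * a := by group
          _ = k₀ * a := by rw [h2, one_mul]
      · apply e.injective
        rw [map_mul, map_mul, map_mul, map_inv, map_inv, h, hez]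
    calc a * k₀ * a⁻¹ = (a * k₀ * a⁻¹ * k₀⁻¹) * k₀ := by group
      _ = z₀ * k₀ := by rw [h1]
  -- the four elements fixed by `β` and commuting with `a`
  have hN : ∀ n : K, (n = 1 ∨ n = a ∨ n = z₀ ∨ n = a * z₀) → β n = n ∧ a * n * a⁻¹ = n := by
    intro n hn
    rcases hn with rfl | rfl | rfl | rfl
    · exact ⟨map_one β, by group⟩
    · exact ⟨hβa, by group⟩
    · refine ⟨hβz, ?_⟩
      rw [← hzc, mul_inv_cancel_right]
    · refine ⟨by rw [map_mul, hβa, hβz], ?_⟩
      calc a * (a * z₀) * a⁻¹ = a * (z₀ * a) * a⁻¹ := by rw [hzc a]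
        _ = a * z₀ := by group
  have hcos : ∀ k : K, (k = 1 ∨ k = a ∨ k = z₀ ∨ k = a * z₀) ∨
      ∃ n : K, (n = 1 ∨ n = a ∨ n = z₀ ∨ n = a * z₀) ∧ k = k₀ * n := by
    intro k
    have haa' : e a * e a = 1 := by rw [← map_mul, haa, map_one]
    have hk₀' : e a * e k₀ ≠ e k₀ * e a := hy
    rcases d8_cosets (e a) (e k₀) (e k) haa' hea1 hear hk₀' with h | h
    · left
      rcases h with h | h | h | h
      · left; apply e.injective; rw [h, map_one]
      · right; left; exact e.injective h
      · right; right; left; apply e.injective; rw [h, hez]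
      · right; right; right; apply e.injective; rw [h, map_mul, hez]
    · right
      rcases h with h | h | h | h
      · exact ⟨1, Or.inl rfl, by rw [mul_one]; exact e.injective h⟩
      · exact ⟨a, Or.inr (Or.inl rfl), by apply e.injective; rw [h, map_mul]⟩
      · exact ⟨z₀, Or.inr (Or.inr (Or.inl rfl)), by apply e.injective; rw [h, map_mul, hez]⟩
      · exact ⟨a * z₀, Or.inr (Or.inr (Or.inr rfl)), by
          apply e.injective; rw [h, map_mul, map_mul, hez]⟩
  rcases hβ k₀ with hc | hc
  · -- `β` fixes `k₀`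
    left
    have hβk₀ : β k₀ = k₀ := by
      calc β k₀ = β k₀ * k₀⁻¹ * k₀ := by group
        _ = k₀ := by rw [hc, one_mul]
    intro k
    rcases hcos k with h | ⟨n, hn, rfl⟩
    · exact (hN k h).1
    · rw [map_mul, hβk₀, (hN n hn).1]
  · -- `β` maps `k₀` to `z₀ k₀`
    right
    have hβk₀ : β k₀ = z₀ * k₀ := by
      calc β k₀ = β k₀ * k₀⁻¹ * k₀ := by group
        _ = z₀ * k₀ := by rw [hc]
    intro k
    rcases hcos k with h | ⟨n, hn, rfl⟩
    · rw [(hN k h).2, (hN k h).1]
    · have h1 : a * (k₀ * n) * a⁻¹ = (a * k₀ * a⁻¹) * (a * n * a⁻¹) := by group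
      rw [h1, hd, (hN n hn).2, map_mul, map_mul, hβz, hβk₀, (hN n hn).1, ← mul_assoc z₀, hzz,
        one_mul]

end Cfsg.Agent.Helper8.AutD4
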