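import Mathlib

set_option autoImplicit false
set_option linter.unusedSectionVars false
set_option linter.style.haveILetI false

/-!
# Automorphisms of orthogonal groups, part zr: abstract group theory for the outer automorphism
group of the minus-type groups in odd characteristic
-/

namespace Cfsg.Agent.Helper8.AutO

section Dihedral

open DihedralGroup

/-- an automorphism of odd order of the dihedral group of order eight is trivial. -/
theorem dihedral_aut_eq_one (α : MulAut (DihedralGroup 4)) {f : ℕ} (hf : Odd f)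
    (hα : α ^ f = 1) : α = 1 := by
  have hpow : ∀ (n : ℕ) (x : DihedralGroup 4), (α ^ (n + 1)) x = α ((α ^ n) x) := by
    intro n x
    rw [pow_succ', MulAut.mul_apply]
  have key1 : ∀ x : DihedralGroup 4, x ^ 2 ≠ 1 → x = r 1 ∨ x = r 3 := by decide
  have h1 : α (r 1) = r 1 ∨ α (r 1) = r 3 := by
    apply key1
    rw [← map_pow]
    intro h
    have h' : (r 1 : DihedralGroup 4) ^ 2 = 1 := α.injective (h.trans (map_one α).symm)
    revert h'
    decide
  have hr1 : α (r 1) = r 1 := by
    rcases h1 with h | h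
    · exact h
    · exfalso
      have h3 : α (r 3) = r 1 := by
        have e : (r 3 : DihedralGroup 4) = (r 1) ^ 3 := by decide
        rw [e, map_pow, h]
        decide
      have hall : ∀ n, (α ^ n) (r 1) = if Even n then r 1 else r 3 := by
        intro n
        induction n with
        | zero => simp
        | succ n ih =>
          rw [hpow, ih]
          by_cases hn : Even n
          · rw [if_pos hn, if_neg (by rw [Nat.even_add_one]; exact not_not.mpr hn), h]
          · rw [if_neg hn, if_pos (by rw [Nat.even_add_one]; exact hn), h3]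
      have := hall f
      rw [hα, if_neg (Nat.not_even_iff_odd.mpr hf), MulAut.one_apply] at this
      revert this
      decide
  have hrj : ∀ j : ZMod 4, α (r j) = r j := by
    intro j
    have e : (r j : DihedralGroup 4) = (r 1) ^ j.val := by
      rw [r_one_pow, ZMod.natCast_zmod_val]
    rw [e, map_pow, hr1]
  have key2 : ∀ x : DihedralGroup 4, x * r 1 ≠ r 1 * x → ∃ i, x = sr i := by
    intro x hx
    cases x with
    | r j =>
      exfalso
      apply hx
      rw [r_mul_r, r_mul_r, add_comm]
    | sr i => exact ⟨i, rfl⟩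
  obtain ⟨i, hi⟩ : ∃ i, α (sr 0) = sr i := by
    apply key2
    intro hc
    rw [← hr1, ← map_mul, ← map_mul] at hc
    have := α.injective hc
    revert this
    decide
  have hsr : ∀ j : ZMod 4, α (sr j) = sr (i + j) := by
    intro j
    have e : (sr j : DihedralGroup 4) = sr 0 * r j := by rw [sr_mul_r, zero_add]
    rw [e, map_mul, hi, hrj, sr_mul_r]
  have hall2 : ∀ n : ℕ, (α ^ n) (sr 0) = sr ((n : ZMod 4) * i) := by
    intro n
    induction n with
    | zero => simp
    | succ n ih =>
      rw [hpow, ih, hsr]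
      congr 1
      push_cast
      ring
  have hi0 : i = 0 := by
    have h2 := hall2 f
    rw [hα, MulAut.one_apply] at h2
    have h3 : (f : ZMod 4) * i = 0 := by
      have := sr.inj h2
      exact this.symm
    obtain ⟨j, rfl⟩ := hf
    have key3 : ∀ (j i : ZMod 4), (2 * j + 1) * i = 0 → i = 0 := by decide
    apply key3 (j : ZMod 4) i
    rw [← h3]
    push_cast
    ring
  apply MulEquiv.ext
  intro x
  rw [MulAut.one_apply]
  cases x with
  | r j => exact hrj j
  | sr j => rw [hsr, hi0, zero_add]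

end Dihedral

section Kernels

/-- two surjective homomorphisms with the same kernel have isomorphic codomains. -/
noncomputable def equivOfKerEq {G A B : Type*} [Group G] [Group A] [Group B] (f : G →* A)
    (g : G →* B) (hf : Function.Surjective f) (hg : Function.Surjective g) (h : f.ker = g.ker) :
    A ≃* B :=
  (QuotientGroup.quotientKerEquivOfSurjective f hf).symm.trans
    ((QuotientGroup.quotientMulEquivOfEq h).trans
      (QuotientGroup.quotientKerEquivOfSurjective g hg))

/-- the kernel of the map induced on a quotient is the image of the kernel. -/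
theorem exists_ker_lift_equiv {A C D : Type*} [Group A] [Group C] [Group D] (I : Subgroup A)
    [I.Normal] (T : A →* C) (hI : I ≤ T.ker) (P : Subgroup A) (hP : T.ker = P)
    (φ₀ : ↥P →* D) (hs : Function.Surjective φ₀) (hk : φ₀.ker = I.subgroupOf P) :
    Nonempty (↥(QuotientGroup.lift I T hI).ker ≃* D) := by
  have hmem : ∀ x : ↥P, (QuotientGroup.mk' I) (x : A) ∈ (QuotientGroup.lift I T hI).ker := by
    intro x
    rw [MonoidHom.mem_ker]
    show T (x : A) = 1
    have : (x : A) ∈ T.ker := by rw [hP]; exact x.2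
    exact this
  let ψ : ↥P →* ↥(QuotientGroup.lift I T hI).ker :=
    ((QuotientGroup.mk' I).comp P.subtype).codRestrict _ hmem
  have hψ : ∀ x : ↥P, ((ψ x : ↥(QuotientGroup.lift I T hI).ker) : A ⧸ I)
      = QuotientGroup.mk (x : A) := fun x => rfl
  have hψs : Function.Surjective ψ := by
    rintro ⟨y, hy⟩
    obtain ⟨a, rfl⟩ := QuotientGroup.mk_surjective y
    have ha : a ∈ P := by
      rw [← hP]
      exact hy
    exact ⟨⟨a, ha⟩, Subtype.ext rfl⟩
  have hψk : ψ.ker = φ₀.ker := by
    rw [hk]
    ext x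
    rw [MonoidHom.mem_ker, Subgroup.mem_subgroupOf, Subtype.ext_iff, hψ]
    exact QuotientGroup.eq_one_iff _
  exact ⟨equivOfKerEq ψ φ₀ hψs hs hψk⟩

end Kernels

section Products

variable {H C : Type*} [Group H] [Group C]

/-- an extension of a cyclic group of odd order `f` by the dihedral group of order eight, split by
an element of order `f`, is a direct product. -/
theorem nonempty_equiv_dihedral_prod (T : H →* C) (e : ↥T.ker ≃* DihedralGroup 4) (t : H)
    {f : ℕ} (hf : Odd f) (htf : t ^ f = 1) (hord : orderOf (T t) = f)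
    (hgen : ∀ c : C, c ∈ Subgroup.zpowers (T t)) :
    Nonempty (H ≃* DihedralGroup 4 × Multiplicative (ZMod f)) := by
  have hf0 : f ≠ 0 := by
    rintro rfl
    exact (Nat.not_odd_iff_even.mpr Even.zero) hf
  have hot : orderOf t = f := by
    apply Nat.dvd_antisymm (orderOf_dvd_of_pow_eq_one htf)
    rw [← hord]
    exact orderOf_map_dvd T t
  -- `t` centralises the kernel
  have hα : (MulAut.congr e) (MulAut.conjNormal (H := T.ker) t) = 1 := by
    apply dihedral_aut_eq_one _ hf
    rw [← map_pow, ← map_pow, htf, map_one, map_one]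
  have hα' : MulAut.conjNormal (H := T.ker) t = 1 := by
    have := (MulAut.congr e).injective (hα.trans (map_one (MulAut.congr e)).symm)
    exact this
  have hcen : ∀ δ : ↥T.ker, Commute (δ : H) t := by
    intro δ
    have h1 := congrArg (fun β : MulAut ↥T.ker => ((β δ : ↥T.ker) : H)) hα'
    simp only [MulAut.conjNormal_apply, MulAut.one_apply] at h1
    show (δ : H) * t = t * (δ : H)
    calc (δ : H) * t = (t * (δ : H) * t⁻¹) * t := by rw [h1]
      _ = t * (δ : H) := by group
  have hcomm : ∀ (δ : ↥T.ker) (z : ↥(Subgroup.zpowers t)),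
      Commute (T.ker.subtype δ) ((Subgroup.zpowers t).subtype z) := by
    rintro δ ⟨z, hz⟩
    obtain ⟨n, rfl⟩ := Subgroup.mem_zpowers_iff.mp hz
    exact (hcen δ).zpow_right n
  let Φ : ↥T.ker × ↥(Subgroup.zpowers t) →* H :=
    MonoidHom.noncommCoprod T.ker.subtype (Subgroup.zpowers t).subtype hcomm
  have hΦ : ∀ x : ↥T.ker × ↥(Subgroup.zpowers t), Φ x = (x.1 : H) * (x.2 : H) := fun x => rfl
  have hinj : Function.Injective Φ := by
    rw [injective_iff_map_eq_one]
    rintro ⟨δ, ⟨z, hz⟩⟩ h
    rw [hΦ] at h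
    obtain ⟨n, rfl⟩ := Subgroup.mem_zpowers_iff.mp hz
    have h1 := congrArg T h
    rw [map_mul, map_one, MonoidHom.mem_ker.mp δ.2, one_mul, map_zpow] at h1
    have h2 : (f : ℤ) ∣ n := by
      rw [← hord]
      exact orderOf_dvd_iff_zpow_eq_one.mpr h1
    have h3 : t ^ n = 1 := by
      rw [← hot] at h2
      exact orderOf_dvd_iff_zpow_eq_one.mp h2
    have h4 : (δ : H) = 1 := by
      simpa [h3] using h
    exact Prod.ext (Subtype.ext h4) (Subtype.ext h3)
  have hsurj : Function.Surjective Φ := by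
    intro h
    obtain ⟨n, hn⟩ := Subgroup.mem_zpowers_iff.mp (hgen (T h))
    have hk : h * (t ^ n)⁻¹ ∈ T.ker := by
      rw [MonoidHom.mem_ker, map_mul, map_inv, map_zpow, hn, mul_inv_cancel]
    refine ⟨(⟨h * (t ^ n)⁻¹, hk⟩, ⟨t ^ n, Subgroup.mem_zpowers_iff.mpr ⟨n, rfl⟩⟩), ?_⟩
    rw [hΦ]
    show h * (t ^ n)⁻¹ * t ^ n = h
    group
  have hcyc : IsCyclic ↥(Subgroup.zpowers t) := inferInstance
  obtain ⟨ez⟩ : Nonempty (↥(Subgroup.zpowers t) ≃* Multiplicative (ZMod f)) := by
    have key : ∀ n : ℕ, Nat.card ↥(Subgroup.zpowers t) = n →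
        Nonempty (↥(Subgroup.zpowers t) ≃* Multiplicative (ZMod n)) := by
      rintro n rfl
      exact ⟨(zmodCyclicMulEquiv hcyc).symm⟩
    exact key f (by rw [Nat.card_zpowers, hot])
  exact ⟨(MulEquiv.ofBijective Φ ⟨hinj, hsurj⟩).symm.trans (MulEquiv.prodCongr e ez)⟩

/-- an extension of a cyclic group of order `f` by a four-group in which a lift of the generator
has order `2f` and centralises a further involution is `C₂ × C₂f`. -/
theorem nonempty_equiv_two_prod [Finite H] (T : H →* C) (hker : Nat.card ↥T.ker = 4) (t d : H)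
    {f : ℕ} (hf : 1 ≤ f) (htf : t ^ (2 * f) = 1) (htf' : t ^ f ≠ 1)
    (hord : orderOf (T t) = f) (hgen : ∀ c : C, c ∈ Subgroup.zpowers (T t))
    (hd : d ∈ T.ker) (hdd : d * d = 1) (hd1 : d ≠ 1) (hdt : d ≠ t ^ f) (hcomm : Commute d t) :
    Nonempty (H ≃* Multiplicative (ZMod 2 × ZMod (2 * f))) := by
  have hod : orderOf d = 2 := orderOf_eq_prime (by rw [pow_two]; exact hdd) hd1
  have hot : orderOf t = 2 * f := by
    have h1 : orderOf t ∣ 2 * f := orderOf_dvd_of_pow_eq_one htf
    have h3 : f ∣ orderOf t := by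
      have := orderOf_map_dvd T t
      rwa [hord] at this
    obtain ⟨j, hj⟩ := h3
    have hj2 : j ∣ 2 := by
      rw [hj, mul_comm 2 f] at h1
      exact Nat.dvd_of_mul_dvd_mul_left (by omega) h1
    rcases (Nat.dvd_prime Nat.prime_two).mp hj2 with h | h
    · exfalso
      apply htf'
      have := pow_orderOf_eq_one t
      rwa [hj, h, mul_one] at this
    · rw [hj, h, mul_comm]
  have htt : t ^ f * t ^ f = 1 := by rw [← pow_add, ← two_mul]; exact htf
  have hcomm' : ∀ (x : ↥(Subgroup.zpowers d)) (z : ↥(Subgroup.zpowers t)),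
      Commute ((Subgroup.zpowers d).subtype x) ((Subgroup.zpowers t).subtype z) := by
    rintro ⟨x, hx⟩ ⟨z, hz⟩
    obtain ⟨n, rfl⟩ := Subgroup.mem_zpowers_iff.mp hz
    obtain ⟨a, rfl⟩ := Subgroup.mem_zpowers_iff.mp hx
    exact (hcomm.zpow_right n).zpow_left a
  let Φ : ↥(Subgroup.zpowers d) × ↥(Subgroup.zpowers t) →* H :=
    MonoidHom.noncommCoprod (Subgroup.zpowers d).subtype (Subgroup.zpowers t).subtype hcomm'
  have hΦ : ∀ x : ↥(Subgroup.zpowers d) × ↥(Subgroup.zpowers t), Φ x = (x.1 : H) * (x.2 : H) :=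
    fun x => rfl
  have hdcases : ∀ a : ℤ, d ^ a = 1 ∨ d ^ a = d := by
    intro a
    rw [← zpow_mod_orderOf, hod]
    have h1 : 0 ≤ a % 2 := Int.emod_nonneg _ (by norm_num)
    have h2 : a % 2 < 2 := Int.emod_lt_of_pos _ (by norm_num)
    have h3 : a % 2 = 0 ∨ a % 2 = 1 := by omega
    rcases h3 with h | h
    · left; rw [show ((a % (2 : ℕ) : ℤ)) = 0 from h, zpow_zero]
    · right; rw [show ((a % (2 : ℕ) : ℤ)) = 1 from h, zpow_one]
  have htcases : ∀ j : ℤ, (t ^ f) ^ j = 1 ∨ (t ^ f) ^ j = t ^ f := by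
    intro j
    have ho : orderOf (t ^ f) = 2 := orderOf_eq_prime (by rw [pow_two]; exact htt) htf'
    rw [← zpow_mod_orderOf, ho]
    have h1 : 0 ≤ j % 2 := Int.emod_nonneg _ (by norm_num)
    have h2 : j % 2 < 2 := Int.emod_lt_of_pos _ (by norm_num)
    have h3 : j % 2 = 0 ∨ j % 2 = 1 := by omega
    rcases h3 with h | h
    · left; rw [show ((j % (2 : ℕ) : ℤ)) = 0 from h, zpow_zero]
    · right; rw [show ((j % (2 : ℕ) : ℤ)) = 1 from h, zpow_one]
  have hinj : Function.Injective Φ := by
    rw [injective_iff_map_eq_one]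
    rintro ⟨⟨x, hx⟩, ⟨z, hz⟩⟩ h
    rw [hΦ] at h
    obtain ⟨n, rfl⟩ := Subgroup.mem_zpowers_iff.mp hz
    obtain ⟨a, rfl⟩ := Subgroup.mem_zpowers_iff.mp hx
    have h' : d ^ a * t ^ n = 1 := h
    have h1 := congrArg T h'
    rw [map_mul, map_one, map_zpow, MonoidHom.mem_ker.mp hd, one_zpow, one_mul, map_zpow] at h1
    have h2 : (f : ℤ) ∣ n := by
      rw [← hord]
      exact orderOf_dvd_iff_zpow_eq_one.mpr h1
    obtain ⟨j, rfl⟩ := h2
    have h3 : t ^ ((f : ℤ) * j) = (t ^ f) ^ j := by
      rw [zpow_mul, zpow_natCast]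
    rw [h3] at h'
    have hboth : d ^ a = 1 ∧ (t ^ f) ^ j = 1 := by
      rcases hdcases a with ha | ha <;> rcases htcases j with hj | hj
      · exact ⟨ha, hj⟩
      · exfalso
        rw [ha, hj, one_mul] at h'
        exact htf' h'
      · exfalso
        rw [ha, hj, mul_one] at h'
        exact hd1 h'
      · exfalso
        rw [ha, hj] at h'
        apply hdt
        calc d = d * (t ^ f * t ^ f) := by rw [htt, mul_one]
          _ = (d * t ^ f) * t ^ f := by group
          _ = t ^ f := by rw [h', one_mul]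
    apply Prod.ext
    · exact Subtype.ext hboth.1
    · apply Subtype.ext
      show t ^ ((f : ℤ) * j) = 1
      rw [h3, hboth.2]
  have hTs : Function.Surjective T := by
    intro c
    obtain ⟨n, hn⟩ := Subgroup.mem_zpowers_iff.mp (hgen c)
    exact ⟨t ^ n, by rw [map_zpow, hn]⟩
  have hcardC : Nat.card C = f := by
    rw [← hord]
    exact (orderOf_eq_card_of_forall_mem_zpowers hgen).symm
  have hcardH : Nat.card H = 4 * f := by
    have h1 := Subgroup.card_eq_card_quotient_mul_card_subgroup T.ker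
    rw [Nat.card_congr (QuotientGroup.quotientKerEquivOfSurjective T hTs).toEquiv, hcardC,
      hker] at h1
    rw [h1, mul_comm]
  have hbij : Function.Bijective Φ := by
    rw [Nat.bijective_iff_injective_and_card]
    refine ⟨hinj, ?_⟩
    rw [Nat.card_prod, Nat.card_zpowers, Nat.card_zpowers, hod, hot, hcardH]
    ring
  obtain ⟨ed⟩ : Nonempty (↥(Subgroup.zpowers d) ≃* Multiplicative (ZMod 2)) := by
    have hcyc : IsCyclic ↥(Subgroup.zpowers d) := inferInstance
    have key : ∀ n : ℕ, Nat.card ↥(Subgroup.zpowers d) = n →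
        Nonempty (↥(Subgroup.zpowers d) ≃* Multiplicative (ZMod n)) := by
      rintro n rfl
      exact ⟨(zmodCyclicMulEquiv hcyc).symm⟩
    exact key 2 (by rw [Nat.card_zpowers, hod])
  obtain ⟨et⟩ : Nonempty (↥(Subgroup.zpowers t) ≃* Multiplicative (ZMod (2 * f))) := by
    have hcyc : IsCyclic ↥(Subgroup.zpowers t) := inferInstance
    have key : ∀ n : ℕ, Nat.card ↥(Subgroup.zpowers t) = n →
        Nonempty (↥(Subgroup.zpowers t) ≃* Multiplicative (ZMod n)) := by
      rintro n rfl
      exact ⟨(zmodCyclicMulEquiv hcyc).symm⟩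
    exact key (2 * f) (by rw [Nat.card_zpowers, hot])
  exact ⟨((MulEquiv.ofBijective Φ hbij).symm.trans (MulEquiv.prodCongr ed et)).trans
    (MulEquiv.prodMultiplicative _ _).symm⟩

end Products

end Cfsg.Agent.Helper8.AutO
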