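import Mathlib
import Cfsg.Agent.Helper8.AutOz

set_option autoImplicit false
set_option linter.unusedSectionVars false
set_option linter.style.haveILetI false

/-!
# Automorphisms of orthogonal groups, part zt: the Frobenius semilinear isometry of the minus-type
form in odd characteristic; its `f`-th power is a reflection
-/

namespace Cfsg.Agent.Helper8.AutO

open Module Matrix Cfsg.Agent.Helper8.QuadForm Cfsg.Agent.Helper8.WittQuad
  Cfsg.Agent.Helper8.OrthOrder
  Cfsg.Agent.Helper8.Siegel Cfsg.Agent.Helper8.SiegelGeom Cfsg.Agent.Helper8.SiegelGroup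
  Cfsg.Agent.Helper8.SiegelPrim Cfsg.Agent.Helper8.SiegelSimple Cfsg.Agent.Helper8.ReflMatrix
  Cfsg.Agent.Helper8.OmegaSimple Cfsg.Agent.Helper8.AutImagePsi Cfsg.Agent.Helper8.AutImageOrth
  Cfsg.Agent.Helper8.StdForms Cfsg.Agent.Helper8.Reflections

/-- the exponents `1 + p + ... + p^(n-1)`. -/
def frobE (p : ℕ) : ℕ → ℕ
  | 0 => 0
  | n + 1 => 1 + p * frobE p n

theorem frobE_spec (r n : ℕ) : r * frobE (r + 1) n + 1 = (r + 1) ^ n := by
  induction n with
  | zero => simp [frobE]
  | succ n ih =>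
    rw [pow_succ, ← ih]
    simp only [frobE]
    ring

variable {F : Type*} [Field F] [Fintype F]

/-- the off-diagonal coefficients of the iterates of the Frobenius semilinear map. -/
def frobC (p : ℕ) (c d : F) : ℕ → F
  | 0 => 0
  | n + 1 => (frobC p c d n) ^ p + c * (d ^ frobE p n) ^ p

/-- the iterates of the Frobenius semilinear map. -/
theorem iterate_minusSemi_odd (k p : ℕ) (σ : F ≃+* F) (hσ : ∀ t : F, σ t = t ^ p) (c d : F)
    (n : ℕ) (v : (Fin k ⊕ Fin k) ⊕ Fin 2 → F) :
    (minusSemi k σ c d)^[n] v = Sum.elim (fun i => (v (Sum.inl i)) ^ (p ^ n))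
      ![(v (Sum.inr 0)) ^ (p ^ n) + frobC p c d n * (v (Sum.inr 1)) ^ (p ^ n),
        d ^ frobE p n * (v (Sum.inr 1)) ^ (p ^ n)] := by
  induction n with
  | zero =>
    rw [Function.iterate_zero, id_eq]
    funext j
    rcases j with i | j
    · simp
    · fin_cases j
      · simp [frobC]
      · simp [frobE]
  | succ n ih =>
    rw [Function.iterate_succ_apply', ih]
    funext j
    rcases j with i | j
    · simp only [minusSemi, Sum.elim_inl, hσ]
      rw [← pow_mul, ← pow_succ]
    · fin_cases j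
      · simp only [minusSemi, Sum.elim_inr, Sum.elim_inl, Matrix.cons_val_zero,
          Matrix.cons_val_one, map_add, map_mul, Fin.zero_eta, Fin.isValue, frobC]
        simp only [hσ]
        rw [pow_succ p n, pow_mul, pow_mul]
        ring
      · simp only [minusSemi, Sum.elim_inr, Matrix.cons_val_one, map_mul, Fin.mk_one,
          Fin.isValue, Matrix.cons_val_zero, frobE]
        simp only [hσ]
        rw [pow_succ p n, pow_mul]
        ring

/-- **the Frobenius semilinear isometry of the minus-type form in odd characteristic**: its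
`f`-th iterate is a reflection. -/
theorem exists_frob_semi {p f : ℕ} [Fact p.Prime] (hF : Fintype.card F = p ^ f) (hp : p ≠ 2)
    (k : ℕ) {a b : F}
    (hab : ∀ z₁ z₂ : F, z₁ ^ 2 + a * z₁ * z₂ + b * z₂ ^ 2 = 0 → z₁ = 0 ∧ z₂ = 0) :
    ∃ (σ : F ≃+* F) (c d : F), (∀ t : F, σ t = t ^ p) ∧ 2 * c + a * d = σ a ∧
      c ^ 2 + a * c * d + b * d ^ 2 = σ b ∧
      minusForm F k a b (Sum.elim (fun _ => 0) ![a, -2]) ≠ 0 ∧
      ∀ v, (minusSemi k σ c d)^[f] v
        = refl (minusForm F k a b) (Sum.elim (fun _ => 0) ![a, -2]) v := by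
  have hchar : CharP F p := charP_of_card_eq_prime_pow hF
  have hpodd : Odd p := (Fact.out : p.Prime).odd_of_ne_two hp
  have hringChar : ringChar F ≠ 2 := by
    rw [ringChar.eq F p]
    exact hp
  have h2 : (2 : F) ≠ 0 := Ring.two_ne_zero hringChar
  obtain ⟨σ, hσ⟩ : ∃ σ : F ≃+* F, ∀ t : F, σ t = t ^ p :=
    ⟨frobeniusEquiv F p, fun t => frobeniusEquiv_apply F p t⟩
  obtain ⟨D, hD⟩ : ∃ D, D = a ^ 2 - 4 * b := ⟨_, rfl⟩
  have hDns : ¬ IsSquare D := by
    rintro ⟨s, hs⟩
    rw [hD] at hs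
    have h4 : (4 : F) ≠ 0 := by
      have : (4 : F) = 2 * 2 := by norm_num
      rw [this]; exact mul_ne_zero h2 h2
    have e1 : ((s - a) / 2) ^ 2 + a * ((s - a) / 2) * 1 + b * 1 ^ 2
        = (s * s - (a ^ 2 - 4 * b)) / 4 := by
      field_simp
      ring
    have := (hab ((s - a) / 2) 1 (by rw [e1, hs, sub_self, zero_div])).2
    exact one_ne_zero this
  have hD0 : D ≠ 0 := by
    rintro rfl
    exact hDns IsSquare.zero
  obtain ⟨r, hr⟩ := hpodd
  obtain ⟨d, hd⟩ : ∃ d, d = D ^ r := ⟨_, rfl⟩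
  obtain ⟨c, hc⟩ : ∃ c, c = (σ a - a * d) / 2 := ⟨_, rfl⟩
  have hdd : d * d * D = σ a ^ 2 - 4 * σ b := by
    have : d * d * D = D ^ p := by
      rw [hd, hr]
      ring
    rw [this, ← hσ, hD]
    simp only [map_sub, map_pow, map_mul, map_ofNat]
  have hs1 : 2 * c + a * d = σ a := by
    rw [hc]
    field_simp
    ring
  have hs2 : c ^ 2 + a * c * d + b * d ^ 2 = σ b := by
    rw [hc]
    field_simp
    rw [hD] at hdd
    linear_combination (-1 : F) * hdd
  have hsemi := semiSim_minusSemi k a b hab σ hs1 hs2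
  have hq : ∀ y : F, y ^ (p ^ f) = y := fun y => by rw [← hF]; exact FiniteField.pow_card y
  -- the diagonal coefficient
  have hdf : d ^ frobE p f = -1 := by
    have h1 := frobE_spec (2 * r) f
    rw [← hr] at h1
    have h3 : r * frobE p f = Fintype.card F / 2 := by
      rw [hF, ← h1]
      have : 2 * r * frobE p f = 2 * (r * frobE p f) := by ring
      rw [this]
      omega
    rw [hd, ← pow_mul, h3]
    rcases FiniteField.pow_dichotomy hringChar hD0 with h | h
    · exact absurd ((FiniteField.isSquare_iff hringChar hD0).mpr h) hDns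
    · exact h
  obtain ⟨C, hC⟩ : ∃ C, C = frobC p c d f := ⟨_, rfl⟩
  have hform : ∀ v : (Fin k ⊕ Fin k) ⊕ Fin 2 → F, (minusSemi k σ c d)^[f] v
      = Sum.elim (fun i => v (Sum.inl i)) ![v (Sum.inr 0) + C * v (Sum.inr 1), - v (Sum.inr 1)] := by
    intro v
    rw [iterate_minusSemi_odd k p σ hσ c d f v, hdf, ← hC]
    simp only [hq, neg_mul, one_mul]
  -- the iterates scale the form
  have hQiter : ∀ (n : ℕ) (v : (Fin k ⊕ Fin k) ⊕ Fin 2 → F),
      minusForm F k a b ((minusSemi k σ c d)^[n] v) = (minusForm F k a b v) ^ (p ^ n) := by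
    intro n v
    induction n with
    | zero => rw [Function.iterate_zero, id_eq, pow_zero, pow_one]
    | succ n ih =>
      rw [Function.iterate_succ_apply', hsemi.map_Q, ih, one_mul, hσ, ← pow_mul, ← pow_succ]
  have hQf : ∀ v : (Fin k ⊕ Fin k) ⊕ Fin 2 → F,
      minusForm F k a b ((minusSemi k σ c d)^[f] v) = minusForm F k a b v := by
    intro v
    rw [hQiter, hq]
  have hQval : ∀ x y : F, minusForm F k a b (Sum.elim (fun _ => 0) ![x, y])
      = x ^ 2 + a * x * y + b * y ^ 2 := by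
    intro x y
    rw [minusForm_apply]
    unfold Cfsg.quadFormMinus
    simp
  have hCa : C = a := by
    have e1 := hQf (Sum.elim (fun _ => 0) ![0, 1])
    have e2 := hQf (Sum.elim (fun _ => 0) ![1, 1])
    rw [hform] at e1 e2
    have e3 : ∀ x y : F, (Sum.elim (fun i => (Sum.elim (fun _ => 0) ![x, y] :
        (Fin k ⊕ Fin k) ⊕ Fin 2 → F) (Sum.inl i))
        ![(Sum.elim (fun _ => 0) ![x, y] : (Fin k ⊕ Fin k) ⊕ Fin 2 → F) (Sum.inr 0)
          + C * (Sum.elim (fun _ => 0) ![x, y] : (Fin k ⊕ Fin k) ⊕ Fin 2 → F) (Sum.inr 1),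
          - (Sum.elim (fun _ => 0) ![x, y] : (Fin k ⊕ Fin k) ⊕ Fin 2 → F) (Sum.inr 1)]
        : (Fin k ⊕ Fin k) ⊕ Fin 2 → F) = Sum.elim (fun _ => 0) ![x + C * y, -y] := by
      intro x y
      funext j
      rcases j with i | j
      · simp
      · fin_cases j <;> simp
    rw [e3, hQval, hQval] at e1 e2
    have h4 : 2 * (C - a) = 0 := by linear_combination e2 - e1
    exact sub_eq_zero.mp ((mul_eq_zero.mp h4).resolve_left h2)
  have hQw : minusForm F k a b (Sum.elim (fun _ => 0) ![a, -2]) = -D := by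
    rw [hQval, hD]
    ring
  refine ⟨σ, c, d, hσ, hs1, hs2, ?_, ?_⟩
  · rw [hQw]
    exact neg_ne_zero.mpr hD0
  · intro v
    rw [hform, hCa, refl_apply, hQw, polar_minusForm]
    funext j
    rcases j with i | j
    · simp
    · fin_cases j
      · simp
        field_simp
        rw [hD]
        ring
      · simp
        field_simp
        rw [hD]
        ring

end Cfsg.Agent.Helper8.AutO
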