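import Mathlib
import Cfsg.Agent.Helper8.AutOzr
import Cfsg.Agent.Helper8.AutOzs
import Cfsg.Agent.Helper8.AutOzt
import Cfsg.Agent.Helper8.AutOzc
import Cfsg.Agent.S2728

set_option autoImplicit false
set_option linter.unusedSectionVars false
set_option linter.style.haveILetI false

/-!
# Automorphisms of orthogonal groups, part zu: the outer automorphism group of the minus-type
groups in odd characteristic
-/

namespace Cfsg.Agent.Helper8.AutO

open Module Matrix Cfsg.Agent.Helper8.QuadForm Cfsg.Agent.Helper8.WittQuad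
  Cfsg.Agent.Helper8.OrthOrder
  Cfsg.Agent.Helper8.Siegel Cfsg.Agent.Helper8.SiegelGeom Cfsg.Agent.Helper8.SiegelGroup
  Cfsg.Agent.Helper8.SiegelPrim Cfsg.Agent.Helper8.SiegelSimple Cfsg.Agent.Helper8.ReflMatrix
  Cfsg.Agent.Helper8.OmegaSimple Cfsg.Agent.Helper8.AutImagePsi Cfsg.Agent.Helper8.AutImageOrth
  Cfsg.Agent.Helper8.StdForms Cfsg.Agent.Helper8.Reflections Cfsg.Agent.Helper8.AutImage
  Cfsg.Agent.Helper8.AutImageKer Cfsg.Agent.Helper8.AutImageIdx Cfsg.Agent.Helper8.AutImageD8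
  Cfsg.Agent.Helper8.OmegaStd

variable {F : Type*} [Field F] [Fintype F]

/-- the Frobenius automorphism generates the automorphism group of a finite field. -/
theorem frob_generates {p f : ℕ} [Fact p.Prime] (hF : Fintype.card F = p ^ f) (hf : 1 ≤ f)
    {σ : F ≃+* F} (hσ : ∀ t : F, σ t = t ^ p) :
    orderOf σ = f ∧ ∀ τ : F ≃+* F, τ ∈ Subgroup.zpowers σ := by
  have hchar : CharP F p := charP_of_card_eq_prime_pow hF
  have hpow : ∀ (n : ℕ) (t : F), (σ ^ n) t = t ^ (p ^ n) := by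
    intro n
    induction n with
    | zero => intro t; simp
    | succ n ih =>
      intro t
      rw [pow_succ', RingAut.mul_apply, ih, hσ, ← pow_mul, ← pow_succ]
  have hp1 : 1 < p := (Fact.out : p.Prime).one_lt
  have hord : orderOf σ = f := by
    rw [orderOf_eq_iff (by omega)]
    constructor
    · ext t
      rw [hpow, ← hF, FiniteField.pow_card]
      rfl
    · intro m hm hm0 h1
      obtain ⟨g, hg⟩ := IsCyclic.exists_generator (α := Fˣ)
      have hog : orderOf g = Fintype.card F - 1 := by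
        rw [orderOf_eq_card_of_forall_mem_zpowers hg, Nat.card_units, Nat.card_eq_fintype_card]
      have h2 : (g : F) ^ (p ^ m) = g := by
        rw [← hpow, h1]
        rfl
      have hpm : 1 ≤ p ^ m := Nat.one_le_pow _ _ (by omega)
      have h3 : g ^ (p ^ m - 1) = 1 := by
        apply Units.ext
        rw [Units.val_pow_eq_pow_val, Units.val_one]
        have : (g : F) ^ (p ^ m - 1) * g = 1 * g := by
          rw [← pow_succ, Nat.sub_add_cancel hpm, h2, one_mul]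
        exact mul_right_cancel₀ g.ne_zero this
      have h4 := orderOf_dvd_of_pow_eq_one h3
      rw [hog, hF] at h4
      have h5 : p ^ m < p ^ f := Nat.pow_lt_pow_right hp1 hm
      have h6 : 1 < p ^ m := Nat.one_lt_pow (by omega) hp1
      have := Nat.le_of_dvd (by omega) h4
      omega
  refine ⟨hord, ?_⟩
  have hcard := Cfsg.Agent.Helper7.FieldAutCard.card_ringAut p f hF
  haveI : Finite (F ≃+* F) :=
    Finite.of_injective (fun e : F ≃+* F => (e : F → F)) DFunLike.coe_injective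
  have htop : Subgroup.zpowers σ = ⊤ := by
    apply Subgroup.eq_top_of_card_eq
    rw [Nat.card_zpowers, hord, hcard]
  intro τ
  rw [htop]
  trivial

theorem units_int_eq_of_iff {u v : ℤˣ} (h : u = 1 ↔ v = 1) : u = v := by
  rcases Int.units_eq_one_or u with hu | hu <;> rcases Int.units_eq_one_or v with hv | hv
  · rw [hu, hv]
  · exact absurd (h.mp hu) (by rw [hv]; decide)
  · exact absurd (h.mpr hv) (by rw [hu]; decide)
  · rw [hu, hv]

set_option maxHeartbeats 3200000 in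
/-- **the outer automorphism group of `PΩ⁻_{2k+2}(q)`, `q` odd, `k ≥ 3`.** -/
theorem out_POmega_minus_odd {p f : ℕ} [Fact p.Prime] (hf : 1 ≤ f)
    (hF : Fintype.card F = p ^ f) (hp : p ≠ 2) {k : ℕ} (hk : 3 ≤ k) (a b : F)
    (hab : ∀ z₁ z₂ : F, z₁ ^ 2 + a * z₁ * z₂ + b * z₂ ^ 2 = 0 → z₁ = 0 ∧ z₂ = 0) :
    if p ^ f % 4 = 3 ∧ Even k then
      Nonempty (Cfsg.Out (Cfsg.POmega F (Cfsg.quadFormMinus k F a b))
        ≃* DihedralGroup 4 × Multiplicative (ZMod f))
    else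
      Nonempty (Cfsg.Out (Cfsg.POmega F (Cfsg.quadFormMinus k F a b))
        ≃* Multiplicative (ZMod 2 × ZMod (2 * f))) := by
  classical
  have hchar : CharP F p := charP_of_card_eq_prime_pow hF
  have hpodd : Odd p := (Fact.out : p.Prime).odd_of_ne_two hp
  have hodd : Odd (Fintype.card F) := by rw [hF]; exact hpodd.pow
  have h2 : (2 : F) ≠ 0 := two_ne_zero_of_odd hodd
  have e : ⇑(minusForm F k a b) = Cfsg.quadFormMinus k F a b := funext (minusForm_apply F k a b)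
  have hcard : Fintype.card ((Fin k ⊕ Fin k) ⊕ Fin 2) = 2 * (k + 1) := by
    simp only [Fintype.card_sum, Fintype.card_fin]; ring
  haveI : Nonempty ((Fin k ⊕ Fin k) ⊕ Fin 2) := ⟨Sum.inr 0⟩
  have hS := Cfsg.Agent.S2728.result hodd hk a b hab
  have hiff := Cfsg.Agent.S0791.result (F := F) rfl hodd (k + 1) (by omega) a b hab
  rw [Nat.add_sub_cancel] at hiff
  rw [← e] at hS hiff ⊢
  obtain ⟨Q, hQdef⟩ : ∃ Q, Q = minusForm F k a b := ⟨_, rfl⟩
  rw [← hQdef] at hS hiff ⊢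
  have hQ : (QuadraticMap.polarBilin Q).Nondegenerate := by
    rw [hQdef]; exact minusForm_nondeg F k hab
  have hQ' : Nondeg Q := (nondeg_iff Q).mp hQ
  have hdim : finrank F ((Fin k ⊕ Fin k) ⊕ Fin 2 → F) = 2 * (k + 1) := by
    rw [Module.finrank_fintype_fun_eq_card, hcard]
  have h5 : 5 ≤ Fintype.card ((Fin k ⊕ Fin k) ⊕ Fin 2) := by rw [hcard]; omega
  have hB2 : 9 ≤ finrank F ((Fin k ⊕ Fin k) ⊕ Fin 2 → F) ∨ NoB2 Q := by
    by_cases h4 : 4 ≤ k
    · left; rw [hdim]; omega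
    · right
      obtain rfl : k = 3 := by omega
      rw [hQdef]
      exact noB2_minus hab
  have hsurj : Function.Surjective (Psi (Q := Q)) :=
    Psi_surjective hQ' (by rw [hdim]; omega) p hB2
  have hker : (Psi (Q := Q)).ker ≤ (tau (Q := Q)).ker := by
    rw [ker_Psi hQ' (by rw [hdim]; omega) p]
    rintro _ ⟨c, rfl⟩
    exact MonoidHom.mem_ker.mpr (tau_scalarGamma c)
  have hne : ∃ v, Q v ≠ 0 := by
    rw [hQdef]; exact Cfsg.Agent.S2726.minus_ne (by omega) a b
  -- the field automorphism of an outer automorphism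
  obtain ⟨T, hT⟩ : ∃ T : Cfsg.Out (Cfsg.POmega F ⇑Q) →* (F ≃+* F),
      T = tauOutM Q hQ h5 hsurj hker := ⟨_, rfl⟩
  have hTmk : ∀ γ : ↥(GammaO Q), T (QuotientGroup.mk (PsiM Q hQ h5 γ)) = tau γ := by
    intro γ
    rw [hT]
    exact tauOutM_mk Q hQ h5 hsurj hker γ
  -- the Frobenius semilinear map
  obtain ⟨σ, c, d, hσ, hs1, hs2, hQw, hiter⟩ := exists_frob_semi hF hp k hab
  obtain ⟨hσord, hσgen⟩ := frob_generates hF hf hσ
  have hsemi : SemiSim Q (minusSemi k σ c d) σ 1 := by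
    rw [hQdef]; exact semiSim_minusSemi k a b hab σ hs1 hs2
  obtain ⟨γ, hγ⟩ : ∃ γ : ↥(GammaO Q), γ = mkGamma hsemi := ⟨_, rfl⟩
  have hγgap : gap γ = minusSemi k σ c d := by
    funext v
    rw [hγ, gap_mkGamma]
  have hγtau : tau γ = σ := by rw [hγ]; exact tau_eq hsemi
  obtain ⟨x₀, hx₀⟩ : ∃ x₀ : Cfsg.Out (Cfsg.POmega F ⇑Q),
      x₀ = QuotientGroup.mk (PsiM Q hQ h5 γ) := ⟨_, rfl⟩
  have hx₀tau : T x₀ = σ := by rw [hx₀, hTmk, hγtau]
  have hx₀f : x₀ ^ f ∈ T.ker := by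
    rw [MonoidHom.mem_ker, map_pow, hx₀tau, ← hσord, pow_orderOf_eq_one]
  split_ifs with hcase
  · -- the dihedral case
    obtain ⟨φ₀, hφs, hφk⟩ := hS.1 ⟨hcase.2, by rw [hF]; exact hcase.1⟩
    obtain ⟨eK⟩ := exists_ker_lift_equiv (Cfsg.Inn (Cfsg.POmega F ⇑Q))
      (tauAutM Q hQ h5 hsurj hker) (Inn_le_ker_tauAutM Q hQ h5 hsurj hker)
      (Cfsg.pgoAut F ⇑Q) (ker_tauAutM Q hQ h5 hsurj hker) φ₀ hφs hφk
    have eK' : ↥T.ker ≃* DihedralGroup 4 := by
      rw [hT]
      exact eK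
    have hfodd : Odd f := by
      have h1 := pow_mod_four p f hpodd
      by_contra hcon
      have h3 : p ^ f % 4 = 1 := h1.mpr (Or.inl (Nat.not_odd_iff_even.mp hcon))
      omega
    have hcardK : Nat.card ↥T.ker = 8 := by
      rw [Nat.card_congr eK'.toEquiv, DihedralGroup.nat_card]
    have h8 : (x₀ ^ f) ^ 8 = 1 := by
      have := pow_card_eq_one' (G := ↥T.ker) (x := ⟨x₀ ^ f, hx₀f⟩)
      rw [hcardK] at this
      exact congrArg Subtype.val this
    have hcop : Nat.Coprime 8 f := by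
      have : Nat.Coprime 2 f := (Nat.coprime_primes Nat.prime_two (Fact.out : p.Prime)).mpr
        (Ne.symm hp) |>.symm |> fun _ => by
          rw [Nat.coprime_comm]
          exact hfodd.coprime_two_right
      have h8' : (8 : ℕ) = 2 ^ 3 := by norm_num
      rw [h8']
      exact Nat.Coprime.pow_left 3 this
    obtain ⟨N, hN⟩ : ∃ N, N = 8 ^ Nat.totient f := ⟨_, rfl⟩
    have hN1 : N ≡ 1 [MOD f] := by
      rw [hN]
      exact Nat.ModEq.pow_totient hcop
    have hN8 : 8 ∣ N := by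
      rw [hN]
      exact dvd_pow_self 8 (Nat.totient_pos.mpr (by omega)).ne'
    obtain ⟨t, ht⟩ : ∃ t, t = x₀ ^ N := ⟨_, rfl⟩
    have htf : t ^ f = 1 := by
      obtain ⟨j, hj⟩ := hN8
      rw [ht, ← pow_mul, mul_comm N f, pow_mul, hj, pow_mul, h8, one_pow]
    have hTt : T t = σ := by
      rw [ht, map_pow, hx₀tau]
      have : σ ^ N = σ ^ 1 := by
        rw [pow_eq_pow_iff_modEq, hσord]
        exact hN1
      rw [this, pow_one]
    exact nonempty_equiv_dihedral_prod T eK' t hfodd htf (by rw [hTt]; exact hσord)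
      (by rw [hTt]; exact hσgen)
  · -- the four-group case
    obtain ⟨φ₀, hφs, hφk⟩ := hS.2 (by
      rintro ⟨h1, h3⟩
      exact hcase ⟨by rw [← hF]; exact h3, h1⟩)
    obtain ⟨eK⟩ := exists_ker_lift_equiv (Cfsg.Inn (Cfsg.POmega F ⇑Q))
      (tauAutM Q hQ h5 hsurj hker) (Inn_le_ker_tauAutM Q hQ h5 hsurj hker)
      (Cfsg.pgoAut F ⇑Q) (ker_tauAutM Q hQ h5 hsurj hker) φ₀ hφs hφk
    have hcardK : Nat.card ↥T.ker = 4 := by
      rw [hT]
      exact (Nat.card_congr eK.toEquiv).trans card_klein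
    -- `-1` is not in `Ω`
    have hneg : ¬ (Fintype.card F ^ (k + 1) % 4 = 3) := by
      intro h3
      apply hcase
      have hpm := pow_mod_four (Fintype.card F) (k + 1) hodd
      have hq13 : Fintype.card F % 4 = 1 ∨ Fintype.card F % 4 = 3 := by
        obtain ⟨r, hr⟩ := hodd
        omega
      have h4 : ¬ (Even (k + 1) ∨ Fintype.card F % 4 ≠ 3) := by
        intro h
        have := hpm.mpr h
        omega
      push Not at h4
      refine ⟨by rw [← hF]; exact h4.2, ?_⟩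
      have : Odd (k + 1) := Nat.not_even_iff_odd.mp h4.1
      obtain ⟨r, hr⟩ := this
      exact ⟨r, by omega⟩
    rw [← hiff] at hneg
    have heven : Even (Fintype.card ((Fin k ⊕ Fin k) ⊕ Fin 2)) := by
      rw [hcard]; exact even_two_mul _
    have hInn : Cfsg.Inn (Cfsg.POmega F ⇑Q) = Cfsg.psoAut F ⇑Q := by
      have hidx1 := (relIndex_Inn_psoAut Q h2 hQ h5 heven).2 hneg
      have hIS : Cfsg.Inn (Cfsg.POmega F ⇑Q) ≤ Cfsg.psoAut F ⇑Q := by
        rw [Inn_eq', psoAut_eq']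
        exact Subgroup.map_mono (Abelianization.commutator_subset_ker _)
      exact le_antisymm hIS (Subgroup.relIndex_eq_one.mp hidx1)
    -- inner automorphisms among the similarities
    have hmemInn : ∀ g : ↥(Cfsg.Geo.quadSimilarityGroup (F := F) ⇑Q),
        Phi ⇑Q g ∈ Cfsg.Inn (Cfsg.POmega F ⇑Q) ↔ psi Q h2 hQ hne (k + 1) hcard g = 1 := by
      intro g
      rw [hInn, psoAut_eq, ← MonoidHom.mem_ker, psi_ker_eq Q h2 hQ h5 hne (k + 1) hcard]
      constructor
      · rintro ⟨s, hs, hsg⟩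
        have h1 : s⁻¹ * g ∈ (Phi ⇑Q).ker := by
          rw [MonoidHom.mem_ker, map_mul, map_inv, hsg, inv_mul_cancel]
        have : g = s * (s⁻¹ * g) := by group
        rw [this]
        exact Subgroup.mul_mem_sup hs h1
      · intro hg
        have h1 : Phi ⇑Q g ∈ (((Cfsg.specialIsometryGL F ⇑Q).subgroupOf
            (Cfsg.Geo.quadSimilarityGroup (F := F) ⇑Q)) ⊔ (Phi ⇑Q).ker).map (Phi ⇑Q) :=
          Subgroup.mem_map_of_mem _ hg
        rw [Subgroup.map_sup, (Subgroup.map_eq_bot_iff _).mpr le_rfl, sup_bot_eq] at h1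
        exact h1
    have hmkeq : ∀ g g' : ↥(Cfsg.Geo.quadSimilarityGroup (F := F) ⇑Q),
        (QuotientGroup.mk (Phi ⇑Q g) : Cfsg.Out (Cfsg.POmega F ⇑Q)) = QuotientGroup.mk (Phi ⇑Q g')
          ↔ psi Q h2 hQ hne (k + 1) hcard g = psi Q h2 hQ hne (k + 1) hcard g' := by
      intro g g'
      rw [QuotientGroup.eq, ← map_inv, ← map_mul, hmemInn, map_mul, map_inv, inv_mul_eq_one]
    -- the reflection
    obtain ⟨w, hw⟩ : ∃ w : (Fin k ⊕ Fin k) ⊕ Fin 2 → F, w = Sum.elim (fun _ => 0) ![a, -2] :=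
      ⟨_, rfl⟩
    have hQw' : Q w ≠ 0 := by rw [hQdef, hw]; exact hQw
    obtain ⟨ρ, hρ⟩ : ∃ ρ : ↥(Cfsg.Geo.quadSimilarityGroup (F := F) ⇑Q),
        ρ = Subgroup.inclusion (isometry_le_similarity ⇑Q) (reflElt Q w) := ⟨_, rfl⟩
    have hρρ : ρ * ρ = 1 := by
      rw [hρ, ← map_mul, reflElt_mul_self, map_one]
    have hγf : γ ^ f = simGamma Q ρ := by
      apply ext_gap
      intro v
      rw [gap_pow, hγgap, hiter, gap_simGamma, hρ]
      show _ = (((reflElt Q w : ↥(Cfsg.isometryGroup F ⇑Q)) :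
        GL ((Fin k ⊕ Fin k) ⊕ Fin 2) F) : Matrix ((Fin k ⊕ Fin k) ⊕ Fin 2) ((Fin k ⊕ Fin k) ⊕ Fin 2) F) *ᵥ v
      rw [reflElt_val, reflectionMatrix_mulVec, hQdef, hw]
    have hx₀fρ : x₀ ^ f = QuotientGroup.mk (Phi ⇑Q ρ) := by
      rw [hx₀, ← QuotientGroup.mk_pow, ← map_pow, hγf, PsiM_simGamma]
    have hpsiρ : psi Q h2 hQ hne (k + 1) hcard ρ = (1, -1) := by
      have hρO : (ρ : GL ((Fin k ⊕ Fin k) ⊕ Fin 2) F) ∈ Cfsg.isometryGroup F ⇑Q := by
        rw [hρ]; exact (reflElt Q w).2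
      have hρm : mult ⇑Q hne ρ = 1 := mult_of_isometry ⇑Q hne ρ hρO
      have hρdet : ((ρ : GL ((Fin k ⊕ Fin k) ⊕ Fin 2) F) : Matrix ((Fin k ⊕ Fin k) ⊕ Fin 2) ((Fin k ⊕ Fin k) ⊕ Fin 2) F).det = -1 := by
        rw [hρ]
        show (((reflElt Q w : ↥(Cfsg.isometryGroup F ⇑Q)) :
          GL ((Fin k ⊕ Fin k) ⊕ Fin 2) F) : Matrix ((Fin k ⊕ Fin k) ⊕ Fin 2) ((Fin k ⊕ Fin k) ⊕ Fin 2) F).det = -1
        rw [reflElt_val, det_reflectionMatrix Q hQw']
      rw [psi_apply]
      congr 1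
      · rw [psi1_eq_one_iff, hρm, Units.val_one]
        exact ⟨1, (mul_one 1).symm⟩
      · rw [psi2_eq_neg_one_iff, hρm, Units.val_one, one_pow, hρdet]
        intro h
        apply h2
        have : (2 : F) = 1 - (-1) := by norm_num
        rw [this, h, sub_self]
    have hx₀2f : x₀ ^ (2 * f) = 1 := by
      rw [mul_comm, pow_mul, hx₀fρ, pow_two, ← QuotientGroup.mk_mul, ← map_mul, hρρ, map_one]
      rfl
    have hx₀f1 : x₀ ^ f ≠ 1 := by
      rw [hx₀fρ]
      intro h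
      have h1 : (QuotientGroup.mk (Phi ⇑Q ρ) : Cfsg.Out (Cfsg.POmega F ⇑Q))
          = QuotientGroup.mk (Phi ⇑Q 1) := by
        rw [h, map_one]
        rfl
      rw [hmkeq, hpsiρ, map_one] at h1
      have := congrArg Prod.snd h1
      exact neg_one_ne_one_units this
    -- a similarity with nonsquare multiplier and `det = μ^(k+1)`
    have hd : ∃ d : ↥(Cfsg.Geo.quadSimilarityGroup (F := F) ⇑Q),
        ¬ IsSquare ((mult ⇑Q hne d : Fˣ) : F) := by
      obtain ⟨e', he'⟩ := Cfsg.Agent.Helper8.OmegaOdd.exists_nonsquare (F := F) h2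
      have he0 : e' ≠ 0 := by
        rintro rfl
        exact he' ⟨0, (mul_zero 0).symm⟩
      obtain ⟨d, hd⟩ := Cfsg.Agent.S2726.minus_similarity k hab (Units.mk0 e' he0)
      rw [← hQdef] at hd
      refine ⟨⟨d, ⟨Units.mk0 e' he0, hd⟩⟩, ?_⟩
      rw [mult_eq_of (⇑Q) hne _ hd]
      exact he'
    obtain ⟨d₀, hd₀⟩ := psi_surjective Q h2 hQ h5 hne (k + 1) hcard hd (-1, 1)
    obtain ⟨dbar, hdbar⟩ : ∃ dbar : Cfsg.Out (Cfsg.POmega F ⇑Q),
        dbar = QuotientGroup.mk (Phi ⇑Q d₀) := ⟨_, rfl⟩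
    have hdker : dbar ∈ T.ker := by
      rw [MonoidHom.mem_ker, hdbar, ← PsiM_simGamma Q hQ h5, hTmk, tau_simGamma]
    have hdd : dbar * dbar = 1 := by
      rw [hdbar, ← QuotientGroup.mk_mul, ← map_mul]
      have h1 : (QuotientGroup.mk (Phi ⇑Q (d₀ * d₀)) : Cfsg.Out (Cfsg.POmega F ⇑Q))
          = QuotientGroup.mk (Phi ⇑Q 1) := by
        rw [hmkeq, map_mul, hd₀, map_one]
        rfl
      rw [h1, map_one]
      rfl
    have hd1 : dbar ≠ 1 := by
      rw [hdbar]
      intro h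
      have h1 : (QuotientGroup.mk (Phi ⇑Q d₀) : Cfsg.Out (Cfsg.POmega F ⇑Q))
          = QuotientGroup.mk (Phi ⇑Q 1) := by
        rw [h, map_one]
        rfl
      rw [hmkeq, hd₀, map_one] at h1
      have := congrArg Prod.fst h1
      exact neg_one_ne_one_units this
    have hdt : dbar ≠ x₀ ^ f := by
      rw [hdbar, hx₀fρ]
      intro h
      rw [hmkeq, hd₀, hpsiρ] at h
      have := congrArg Prod.fst h
      exact neg_one_ne_one_units this
    have hcomm : Commute dbar x₀ := by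
      obtain ⟨d₁, hd₁, hd₁m, hd₁det⟩ := exists_conj_simGamma Q hne γ d₀
      rw [hγtau] at hd₁m hd₁det
      have hpsi : psi Q h2 hQ hne (k + 1) hcard d₁ = psi Q h2 hQ hne (k + 1) hcard d₀ := by
        rw [psi_apply, psi_apply]
        congr 1
        · apply units_int_eq_of_iff
          rw [psi1_eq_one_iff, psi1_eq_one_iff, hd₁m]
          constructor
          · rintro ⟨s, hs⟩
            refine ⟨σ.symm s, ?_⟩
            rw [← map_mul, ← hs, σ.symm_apply_apply]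
          · rintro ⟨s, hs⟩
            exact ⟨σ s, by rw [hs, map_mul]⟩
        · apply units_int_eq_of_iff
          rw [psi2_eq_one_iff, psi2_eq_one_iff, hd₁m, hd₁det, ← map_pow]
          exact σ.injective.eq_iff
      have h1 : x₀ * dbar * x₀⁻¹ = dbar := by
        rw [hx₀, hdbar, ← PsiM_simGamma Q hQ h5, ← QuotientGroup.mk_mul, ← QuotientGroup.mk_inv,
          ← QuotientGroup.mk_mul, ← map_mul, ← map_inv, ← map_mul, hd₁, PsiM_simGamma,
          PsiM_simGamma, hmkeq, hpsi]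
      show dbar * x₀ = x₀ * dbar
      calc dbar * x₀ = (x₀ * dbar * x₀⁻¹) * x₀ := by rw [h1]
        _ = x₀ * dbar := by group
    exact nonempty_equiv_two_prod T hcardK x₀ dbar hf hx₀2f hx₀f1 (by rw [hx₀tau]; exact hσord)
      (by rw [hx₀tau]; exact hσgen) hdker hdd hd1 hdt hcomm

end Cfsg.Agent.Helper8.AutO
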