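import Mathlib
import Cfsg.Agent.Helper8.AutOzzc
import Cfsg.Agent.Helper8.AutOt
import Cfsg.Agent.S2726

set_option autoImplicit false
set_option linter.unusedSectionVars false
set_option linter.style.haveILetI false

/-!
# Automorphisms of orthogonal groups, part zzd: the elements of prime order in the coset of a field
automorphism of `PΩ⁻_{2m+2}(q)`
-/

namespace Cfsg.Agent.Helper8.AutO

open Module Matrix Cfsg.Agent.Helper8.QuadForm Cfsg.Agent.Helper8.WittQuad
  Cfsg.Agent.Helper8.OrthOrder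
  Cfsg.Agent.Helper8.Siegel Cfsg.Agent.Helper8.SiegelGeom Cfsg.Agent.Helper8.SiegelGroup
  Cfsg.Agent.Helper8.SiegelPrim Cfsg.Agent.Helper8.SiegelSimple Cfsg.Agent.Helper8.ReflMatrix
  Cfsg.Agent.Helper8.OmegaSimple Cfsg.Agent.Helper8.AutImagePsi Cfsg.Agent.Helper8.AutImageOrth
  Cfsg.Agent.Helper8.StdForms Cfsg.Agent.Helper8.AutImage Cfsg.Agent.Helper8.AutImageKer
  Cfsg.Agent.Helper8.AutImageIdx Cfsg.Agent.Helper8.Cls Cfsg.Agent.Helper8.Reflections
  Cfsg.Agent.Helper8.OrT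
open Cfsg.Agent.Helper8.AutSLn (gls nrmGL nrmF unitsAut fixField)

universe u

variable {F : Type u} [Field F] [Fintype F]

theorem card_idx_minus (m : ℕ) : Fintype.card ((Fin m ⊕ Fin m) ⊕ Fin 2) = 2 * (m + 1) := by
  simp only [Fintype.card_sum, Fintype.card_fin]; ring

/-- the inner-diagonal group of `PΩ⁻` is the image of the class-preserving similarities. -/
theorem inndiag_minus_eq_cpAut (m : ℕ) (a b : F)
    (hab : ∀ z₁ z₂ : F, z₁ ^ 2 + a * z₁ * z₂ + b * z₂ ^ 2 = 0 → z₁ = 0 ∧ z₂ = 0)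
    (hne : ∃ v, minusForm F m a b v ≠ 0) :
    Cfsg.autSubgroupOf (fun β : Cfsg.POmega F ⇑(minusForm F m a b) ≃*
        Cfsg.POmega F ⇑(minusForm F m a b) => ∃ g : GL ((Fin m ⊕ Fin m) ⊕ Fin 2) F,
      g ∈ Cfsg.Geo.quadSimilarityGroup (F := F) ⇑(minusForm F m a b) ∧
      Cfsg.PreservesSingularClassesMinus m a b
        (g : Matrix ((Fin m ⊕ Fin m) ⊕ Fin 2) ((Fin m ⊕ Fin m) ⊕ Fin 2) F) ∧
      Cfsg.IsInducedBySemilinearPOmega ⇑(minusForm F m a b) g (RingEquiv.refl F) β)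
      = cpAut (minusForm F m a b) (minusForm_nondeg F m hab) hne (m + 1) (card_idx_minus m) := by
  apply autSub_eq_cpAut (minusForm F m a b) (minusForm_nondeg F m hab) hne (m + 1)
    (card_idx_minus m) (fun M => Cfsg.PreservesSingularClassesMinus m a b M)
  intro g
  apply preservesMinus_iff_isCP a b hab g.1 (mult ⇑(minusForm F m a b) hne g)
  intro u
  have := mult_spec ⇑(minusForm F m a b) hne g u
  rw [minusForm_apply, minusForm_apply] at this
  exact this

set_option maxHeartbeats 1600000 in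
/-- **the elements of prime order in the coset of a field automorphism of `PΩ⁻_{2m+2}(q)`.** -/
theorem coset_conj_minus {m : ℕ} (hm : 3 ≤ m) (a b a' b' : F)
    (hab : ∀ z₁ z₂ : F, z₁ ^ 2 + a * z₁ * z₂ + b * z₂ ^ 2 = 0 → z₁ = 0 ∧ z₂ = 0)
    (hab' : ∀ z₁ z₂ : F, z₁ ^ 2 + a' * z₁ * z₂ + b' * z₂ ^ 2 = 0 → z₁ = 0 ∧ z₂ = 0)
    (Qf Qf' : ((Fin m ⊕ Fin m) ⊕ Fin 2 → F) → F)
    (hQf : Qf = ⇑(minusForm F m a b)) (hQf' : Qf' = ⇑(minusForm F m a' b'))
    (x δ : MulAut (Cfsg.POmega F Qf)) (ψ : Cfsg.POmega F Qf ≃* Cfsg.POmega F Qf')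
    (σ : F ≃+* F) (ha' : σ a' = a') (hb' : σ b' = b')
    (hfield : Cfsg.IsFieldAutPOmegaOf Qf' σ ((ψ.symm.trans x).trans ψ))
    {r : ℕ} (hr : r.Prime) (hxr : orderOf x = r)
    (hδ : δ ∈ Cfsg.autSubgroupOf (fun β : Cfsg.POmega F Qf ≃* Cfsg.POmega F Qf =>
      ∃ g : GL ((Fin m ⊕ Fin m) ⊕ Fin 2) F,
      g ∈ Cfsg.Geo.quadSimilarityGroup (F := F) Qf ∧
      Cfsg.PreservesSingularClassesMinus m a b
        (g : Matrix ((Fin m ⊕ Fin m) ⊕ Fin 2) ((Fin m ⊕ Fin m) ⊕ Fin 2) F) ∧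
      Cfsg.IsInducedBySemilinearPOmega Qf g (RingEquiv.refl F) β)) :
    orderOf (δ * x) = r ↔
      Cfsg.IsConjUnder (Cfsg.autSubgroupOf (fun β : Cfsg.POmega F Qf ≃* Cfsg.POmega F Qf =>
        ∃ g : GL ((Fin m ⊕ Fin m) ⊕ Fin 2) F,
        g ∈ Cfsg.Geo.quadSimilarityGroup (F := F) Qf ∧
        Cfsg.PreservesSingularClassesMinus m a b
          (g : Matrix ((Fin m ⊕ Fin m) ⊕ Fin 2) ((Fin m ⊕ Fin m) ⊕ Fin 2) F) ∧
        Cfsg.IsInducedBySemilinearPOmega Qf g (RingEquiv.refl F) β)) x (δ * x) := by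
  subst hQf hQf'
  classical
  obtain ⟨p, hp, hc⟩ := exists_char F
  haveI : Nonempty ((Fin m ⊕ Fin m) ⊕ Fin 2) := ⟨Sum.inr 0⟩
  have hcard := card_idx_minus m
  obtain ⟨Q, hQdef⟩ : ∃ Q, Q = minusForm F m a b := ⟨_, rfl⟩
  obtain ⟨Q', hQ'def⟩ : ∃ Q', Q' = minusForm F m a' b' := ⟨_, rfl⟩
  have hQ : (QuadraticMap.polarBilin Q).Nondegenerate := by
    rw [hQdef]; exact minusForm_nondeg F m hab
  have hQ' : (QuadraticMap.polarBilin Q').Nondegenerate := by
    rw [hQ'def]; exact minusForm_nondeg F m hab'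
  have hne : ∃ v, Q v ≠ 0 := by
    rw [hQdef]; exact Cfsg.Agent.S2726.minus_ne (by omega) a b
  have hne' : ∃ v, Q' v ≠ 0 := by
    rw [hQ'def]; exact Cfsg.Agent.S2726.minus_ne (by omega) a' b'
  have hI : Cfsg.autSubgroupOf (fun β : Cfsg.POmega F ⇑(minusForm F m a b) ≃*
        Cfsg.POmega F ⇑(minusForm F m a b) => ∃ g : GL ((Fin m ⊕ Fin m) ⊕ Fin 2) F,
      g ∈ Cfsg.Geo.quadSimilarityGroup (F := F) ⇑(minusForm F m a b) ∧
      Cfsg.PreservesSingularClassesMinus m a b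
        (g : Matrix ((Fin m ⊕ Fin m) ⊕ Fin 2) ((Fin m ⊕ Fin m) ⊕ Fin 2) F) ∧
      Cfsg.IsInducedBySemilinearPOmega ⇑(minusForm F m a b) g (RingEquiv.refl F) β)
      = cpAut (minusForm F m a b) (minusForm_nondeg F m hab)
        (Cfsg.Agent.S2726.minus_ne (by omega) a b) (m + 1) (card_idx_minus m) :=
    inndiag_minus_eq_cpAut m a b hab _
  rw [hI] at hδ ⊢
  constructor
  swap
  · rintro ⟨h, _, e⟩
    rw [e, ← hxr]
    exact MulEquiv.orderOf_eq (MulAut.conj h) x
  intro hord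
  -- the data of the two forms
  have hdim : finrank F ((Fin m ⊕ Fin m) ⊕ Fin 2 → F) = 2 * (m + 1) := by
    rw [Module.finrank_fintype_fun_eq_card, hcard]
  have h5 : 5 ≤ Fintype.card ((Fin m ⊕ Fin m) ⊕ Fin 2) := by rw [hcard]; omega
  have hQn : Nondeg (minusForm F m a b) := (nondeg_iff _).mp (minusForm_nondeg F m hab)
  have hQ'n : Nondeg (minusForm F m a' b') := (nondeg_iff _).mp (minusForm_nondeg F m hab')
  obtain ⟨φ, hφ⟩ := exists_isometry_of_nuS m hdim hdim (minusForm F m a b) (minusForm F m a' b')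
    hQn hQ'n (-1) (nuS_minusForm m a b hab) (nuS_minusForm m a' b' hab')
  obtain ⟨M₀, hM₀def⟩ : ∃ M₀ : GL ((Fin m ⊕ Fin m) ⊕ Fin 2) F, M₀ = glEquiv.symm φ := ⟨_, rfl⟩
  have hM₀ : ∀ v, minusForm F m a' b'
      ((M₀ : Matrix ((Fin m ⊕ Fin m) ⊕ Fin 2) ((Fin m ⊕ Fin m) ⊕ Fin 2) F) *ᵥ v)
      = minusForm F m a b v := by
    intro v
    rw [← hφ v, ← glEquiv_apply, hM₀def, MulEquiv.apply_symm_apply]
  have hB2 : 9 ≤ finrank F ((Fin m ⊕ Fin m) ⊕ Fin 2 → F) ∨ NoB2 (minusForm F m a' b') := by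
    by_cases h4 : 4 ≤ m
    · left; rw [hdim]; omega
    · right
      obtain rfl : m = 3 := by omega
      exact noB2_minus hab'
  have hsurj' : Function.Surjective (Psi (Q := minusForm F m a' b')) :=
    Psi_surjective hQ'n (by rw [hdim]; omega) p hB2
  have hA := cpAut_congr_iff (minusForm F m a b) (minusForm F m a' b')
    (minusForm_nondeg F m hab) (minusForm_nondeg F m hab')
    (Cfsg.Agent.S2726.minus_ne (by omega) a b) (Cfsg.Agent.S2726.minus_ne (by omega) a' b')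
    (m + 1) (card_idx_minus m) M₀ hM₀ h5 hsurj' ψ
  -- the transported elements
  have hσQ' := minusForm_sigma σ m ha' hb'
  have hx' := eq_PsiM_of_isFieldAut_one (minusForm F m a' b') σ hσQ' (minusForm_nondeg F m hab')
    h5 hfield
  obtain ⟨C, hCdef⟩ : ∃ C : MulAut (Cfsg.POmega F ⇑(minusForm F m a b)) ≃*
      MulAut (Cfsg.POmega F ⇑(minusForm F m a' b')), C = MulAut.congr ψ := ⟨_, rfl⟩
  have hC : ∀ β, C β = (ψ.symm.trans β).trans ψ := by
    intro β
    rw [hCdef]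
    rfl
  have hδ' : C δ ∈ cpAut (minusForm F m a' b') (minusForm_nondeg F m hab')
      (Cfsg.Agent.S2726.minus_ne (by omega) a' b') (m + 1) (card_idx_minus m) := by
    rw [hC]
    exact (hA δ).mpr hδ
  have hσo : orderOf σ = r := by
    rw [← orderOf_PsiM_fieldGammaOne (minusForm F m a' b') σ hσQ' (minusForm_nondeg F m hab')
      h5 p, ← hx', ← hC, ← hxr]
    exact MulEquiv.orderOf_eq C x
  have hσr : σ ^ r = 1 := by rw [← hσo, pow_orderOf_eq_one]
  have hinj : ∀ i j : Fin r, σ ^ (i : ℕ) = σ ^ (j : ℕ) → i = j := by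
    intro i j e
    apply Fin.ext
    apply pow_injOn_Iio_orderOf (x := σ) _ _ e
    · rw [hσo]
      exact i.2
    · rw [hσo]
      exact j.2
  rw [mem_cpAut_iff] at hδ'
  obtain ⟨g, hgcp, hgδ⟩ := hδ'
  rw [← PsiM_simGamma (minusForm F m a' b') (minusForm_nondeg F m hab') h5] at hgδ
  have hy : (PsiM (minusForm F m a' b') (minusForm_nondeg F m hab') h5
      (simGamma (minusForm F m a' b') g) *
      PsiM (minusForm F m a' b') (minusForm_nondeg F m hab') h5
        (fieldGammaOne (minusForm F m a' b') σ hσQ')) ^ r = 1 := by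
    rw [hgδ, ← hx', ← hC, ← map_mul, ← map_pow, ← hord, pow_orderOf_eq_one, map_one]
  obtain ⟨u, hu⟩ := field_case_of_hilbert90 (minusForm F m a' b') (minusForm_nondeg F m hab') h5 p
    σ hσQ' hr.pos hσr hinj
    (fun g' hg' hN => hilbert90_minus σ hr.pos hσr hinj m ha' hb' hab' g' hg' hN) g hy
  -- adjust `u` to be class-preserving
  obtain ⟨e₀, he₀⟩ : ∃ e₀ : (Fin m ⊕ Fin m) ⊕ Fin 2 → F, e₀ = Pi.single (Sum.inr 0) 1 := ⟨_, rfl⟩
  have he₀Q : minusForm F m a' b' e₀ ≠ 0 := by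
    rw [minusForm_apply, he₀]
    unfold Cfsg.quadFormMinus
    simp
  have he₀σ : ∀ i, σ (e₀ i) = e₀ i := by
    intro i
    rw [he₀]
    by_cases hi : i = Sum.inr 0
    · rw [hi, Pi.single_eq_same, map_one]
    · rw [Pi.single_eq_of_ne hi, map_zero]
  obtain ⟨u', hu'cp, hu'⟩ : ∃ u' : ↥(Cfsg.Geo.quadSimilarityGroup (F := F)
      ⇑(minusForm F m a' b')),
      clsChar (minusForm F m a' b') (minusForm_nondeg F m hab')
        (Cfsg.Agent.S2726.minus_ne (by omega) a' b') (m + 1) (card_idx_minus m) u' = 1 ∧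
      PsiM (minusForm F m a' b') (minusForm_nondeg F m hab') h5
        (simGamma (minusForm F m a' b') g) *
      PsiM (minusForm F m a' b') (minusForm_nondeg F m hab') h5
        (fieldGammaOne (minusForm F m a' b') σ hσQ') =
      PsiM (minusForm F m a' b') (minusForm_nondeg F m hab') h5
        (simGamma (minusForm F m a' b') u') *
      PsiM (minusForm F m a' b') (minusForm_nondeg F m hab') h5
        (fieldGammaOne (minusForm F m a' b') σ hσQ') *
      (PsiM (minusForm F m a' b') (minusForm_nondeg F m hab') h5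
        (simGamma (minusForm F m a' b') u'))⁻¹ := by
    rcases Int.units_eq_one_or (clsChar (minusForm F m a' b') (minusForm_nondeg F m hab')
      (Cfsg.Agent.S2726.minus_ne (by omega) a' b') (m + 1) (card_idx_minus m) u) with h1 | h1
    · exact ⟨u, h1, hu⟩
    · refine ⟨u * reflGO (minusForm F m a' b') e₀, ?_, ?_⟩
      · rw [map_mul, h1, clsChar_reflElt (minusForm F m a' b') (minusForm_nondeg F m hab')
          (Cfsg.Agent.S2726.minus_ne (by omega) a' b') (m + 1) (card_idx_minus m)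
          (reflGO (minusForm F m a' b') e₀) he₀Q rfl]
        decide
      · have hcomm := reflGO_commute (minusForm F m a' b') σ hσQ' he₀σ
        have hcomm' := congrArg (PsiM (minusForm F m a' b') (minusForm_nondeg F m hab') h5) hcomm
        rw [map_mul, map_mul] at hcomm'
        rw [hu, map_mul, map_mul, _root_.mul_inv_rev]
        have e2 : ∀ (A B C : MulAut (Cfsg.POmega F ⇑(minusForm F m a' b'))), B * C = C * B →
            A * C * A⁻¹ = A * B * C * (B⁻¹ * A⁻¹) := by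
          intro A B C hBC
          have : A * B * C * (B⁻¹ * A⁻¹) = A * (B * C) * B⁻¹ * A⁻¹ := by group
          rw [this, hBC]
          group
        exact e2 _ _ _ hcomm'
  -- pull back
  obtain ⟨h', hh'⟩ : ∃ h' : MulAut (Cfsg.POmega F ⇑(minusForm F m a' b')),
      h' = PsiM (minusForm F m a' b') (minusForm_nondeg F m hab') h5
        (simGamma (minusForm F m a' b') u') := ⟨_, rfl⟩
  have hh'mem : h' ∈ cpAut (minusForm F m a' b') (minusForm_nondeg F m hab')
      (Cfsg.Agent.S2726.minus_ne (by omega) a' b') (m + 1) (card_idx_minus m) := by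
    rw [mem_cpAut_iff]
    refine ⟨u', (clsChar_eq_one_iff _ _ _ _ _ u').mp hu'cp, ?_⟩
    rw [hh', PsiM_simGamma]
  refine ⟨C.symm h', ?_, ?_⟩
  · rw [← hA, ← hC, MulEquiv.apply_symm_apply]
    exact hh'mem
  · apply C.injective
    rw [map_mul, map_mul, map_mul, map_inv, MulEquiv.apply_symm_apply, ← hgδ, hC x, hx', hh']
    exact hu'

end Cfsg.Agent.Helper8.AutO
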