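import Mathlib
import Cfsg.Agent.Helper8.StdForms

set_option autoImplicit false

/-! An explicit similarity of the minus-type form whose square is a scalar (helper8). -/

namespace Cfsg.Agent.Helper8.InnDiagMinus

open Module Cfsg Cfsg.Agent.Helper8.StdForms
open scoped Matrix

section Explicit

variable {F : Type*} [Field F] (m : ℕ) (a b e z₁ z₂ : F)

/-- `x ↦ e y`, `y ↦ x` on the hyperbolic part -/
def Jmat : Matrix (Fin m ⊕ Fin m) (Fin m ⊕ Fin m) F :=
  Matrix.fromBlocks 0 (e • (1 : Matrix (Fin m) (Fin m) F)) 1 0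

/-- `u ↦ ζ ū` on the binary part -/
def Smat : Matrix (Fin 2) (Fin 2) F := !![z₁, a * z₁ + b * z₂; z₂, -z₁]

/-- the similarity with scalar square -/
def Xmat : Matrix ((Fin m ⊕ Fin m) ⊕ Fin 2) ((Fin m ⊕ Fin m) ⊕ Fin 2) F :=
  Matrix.fromBlocks (Jmat m e) 0 0 (Smat a b z₁ z₂)

theorem Jmat_mul_self : Jmat m e * Jmat m e = e • (1 : Matrix (Fin m ⊕ Fin m) (Fin m ⊕ Fin m) F) := by
  unfold Jmat
  rw [Matrix.fromBlocks_multiply]
  simp only [Matrix.zero_mul, Matrix.mul_zero, Matrix.mul_one, Matrix.one_mul, zero_add, add_zero]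
  conv_rhs => rw [← Matrix.fromBlocks_one, Matrix.fromBlocks_smul, smul_zero]

theorem Smat_mul_self (he : z₁ ^ 2 + a * z₁ * z₂ + b * z₂ ^ 2 = e) :
    Smat a b z₁ z₂ * Smat a b z₁ z₂ = e • (1 : Matrix (Fin 2) (Fin 2) F) := by
  unfold Smat
  rw [← he]
  ext i j
  fin_cases i <;> fin_cases j <;> simp [Matrix.mul_apply, Fin.sum_univ_two] <;> ring

theorem Xmat_mul_self (he : z₁ ^ 2 + a * z₁ * z₂ + b * z₂ ^ 2 = e) :
    Xmat m a b e z₁ z₂ * Xmat m a b e z₁ z₂ =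
      e • (1 : Matrix ((Fin m ⊕ Fin m) ⊕ Fin 2) ((Fin m ⊕ Fin m) ⊕ Fin 2) F) := by
  unfold Xmat
  rw [Matrix.fromBlocks_multiply]
  simp only [Matrix.zero_mul, Matrix.mul_zero, zero_add, add_zero]
  rw [Jmat_mul_self, Smat_mul_self a b e z₁ z₂ he]
  conv_rhs => rw [← Matrix.fromBlocks_one, Matrix.fromBlocks_smul, smul_zero, smul_zero]

theorem det_Jmat : (Jmat m e).det = (-e) ^ m := by
  have hU : (Matrix.fromBlocks (1 : Matrix (Fin m) (Fin m) F) (1 : Matrix (Fin m) (Fin m) F)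
      (0 : Matrix (Fin m) (Fin m) F) (1 : Matrix (Fin m) (Fin m) F)).det = 1 := by
    rw [Matrix.det_fromBlocks_zero₂₁, Matrix.det_one, mul_one]
  have hmul : Matrix.fromBlocks (1 : Matrix (Fin m) (Fin m) F) (1 : Matrix (Fin m) (Fin m) F)
      (0 : Matrix (Fin m) (Fin m) F) (1 : Matrix (Fin m) (Fin m) F) * Jmat m e
      = Matrix.fromBlocks (1 : Matrix (Fin m) (Fin m) F) (e • (1 : Matrix (Fin m) (Fin m) F))
        (1 : Matrix (Fin m) (Fin m) F) (0 : Matrix (Fin m) (Fin m) F) := by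
    unfold Jmat
    rw [Matrix.fromBlocks_multiply]
    simp only [Matrix.zero_mul, Matrix.mul_zero, Matrix.mul_one, Matrix.one_mul, zero_add, add_zero]
  have h := congrArg Matrix.det hmul
  rw [Matrix.det_mul, hU, one_mul, Matrix.det_fromBlocks_one₁₁, Matrix.one_mul, zero_sub,
    ← neg_smul, Matrix.det_smul, Matrix.det_one, mul_one, Fintype.card_fin] at h
  exact h

theorem det_Smat (he : z₁ ^ 2 + a * z₁ * z₂ + b * z₂ ^ 2 = e) : (Smat a b z₁ z₂).det = -e := by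
  unfold Smat
  rw [Matrix.det_fin_two_of, ← he]
  ring

theorem det_Xmat (he : z₁ ^ 2 + a * z₁ * z₂ + b * z₂ ^ 2 = e) :
    (Xmat m a b e z₁ z₂).det = (-e) ^ m * (-e) := by
  unfold Xmat
  rw [Matrix.det_fromBlocks_zero₂₁, det_Jmat, det_Smat a b e z₁ z₂ he]

theorem Jmat_mulVec_inl (w : Fin m ⊕ Fin m → F) (i : Fin m) :
    (Jmat m e *ᵥ w) (Sum.inl i) = e * w (Sum.inr i) := by
  unfold Jmat
  rw [Matrix.fromBlocks_mulVec]
  simp [Matrix.smul_mulVec]

theorem Jmat_mulVec_inr (w : Fin m ⊕ Fin m → F) (i : Fin m) :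
    (Jmat m e *ᵥ w) (Sum.inr i) = w (Sum.inl i) := by
  unfold Jmat
  rw [Matrix.fromBlocks_mulVec]
  simp

/-- `Xmat` is a similarity with multiplier `e` -/
theorem Xmat_spec (he : z₁ ^ 2 + a * z₁ * z₂ + b * z₂ ^ 2 = e)
    (v : (Fin m ⊕ Fin m) ⊕ Fin 2 → F) :
    minusForm F m a b (Xmat m a b e z₁ z₂ *ᵥ v) = e * minusForm F m a b v := by
  rw [minusForm_apply, minusForm_apply]
  unfold Cfsg.quadFormMinus Xmat
  rw [Matrix.fromBlocks_mulVec]
  simp only [Sum.elim_inl, Sum.elim_inr, Matrix.zero_mulVec, add_zero, zero_add,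
    Jmat_mulVec_inl, Jmat_mulVec_inr, Function.comp_apply]
  rw [mul_add, Finset.mul_sum]
  congr 1
  · refine Finset.sum_congr rfl (fun i _ => ?_)
    ring
  · unfold Smat
    simp only [Matrix.mulVec, dotProduct, Fin.sum_univ_two, Matrix.cons_val_zero,
      Matrix.cons_val_one, Matrix.of_apply, Function.comp_apply]
    rw [← he]
    ring

end Explicit

end Cfsg.Agent.Helper8.InnDiagMinus
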