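import Mathlib
import Cfsg.Agent.Helper8.InnDiagGenB
import Cfsg.Agent.Helper8.InnDiagMinusF
import Cfsg.Agent.Helper8.InnDiagMinusG
import Cfsg.Agent.S2726

set_option autoImplicit false

/-! The structure of `Inndiag(PΩ⁻_{2m+2}(q)) / Inn` (helper8). -/

namespace Cfsg.Agent.Helper8.InnDiagMinus

open Module Cfsg Cfsg.Agent.Helper8.StdForms Cfsg.Agent.Helper8.AutImage
  Cfsg.Agent.Helper8.AutImageOrth Cfsg.Agent.Helper8.AutImageKer Cfsg.Agent.Helper8.AutImagePsi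
  Cfsg.Agent.Helper8.AutImageIdx Cfsg.Agent.Helper8.AutImageD8 Cfsg.Agent.Helper8.OmegaStd
  Cfsg.Agent.Helper8.InnDiagGen
open scoped Matrix

universe u

section Main

variable {F : Type u} [Field F] [Fintype F]

theorem card_idx' (m : ℕ) : Fintype.card ((Fin m ⊕ Fin m) ⊕ Fin 2) = 2 * (m + 1) := by
  rw [Fintype.card_sum, Fintype.card_sum, Fintype.card_fin, Fintype.card_fin]; ring

/-- the inner-diagonal group, written with `minusForm` -/
noncomputable def inndiagM (m : ℕ) (a b : F) :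
    Subgroup (MulAut (POmega F ⇑(minusForm F m a b))) :=
  autSubgroupOf fun β => ∃ g : GL ((Fin m ⊕ Fin m) ⊕ Fin 2) F,
    g ∈ Geo.quadSimilarityGroup (F := F) ⇑(minusForm F m a b) ∧
    PreservesSingularClassesMinus m a b
      (g : Matrix ((Fin m ⊕ Fin m) ⊕ Fin 2) ((Fin m ⊕ Fin m) ⊕ Fin 2) F) ∧
    IsInducedBySemilinearPOmega ⇑(minusForm F m a b) g (RingEquiv.refl F) β

variable (hodd : Odd (Fintype.card F)) {m : ℕ} (hm : 3 ≤ m) (a b : F)
  (hab : ∀ z₁ z₂ : F, z₁ ^ 2 + a * z₁ * z₂ + b * z₂ ^ 2 = 0 → z₁ = 0 ∧ z₂ = 0)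

include hodd hab in
theorem inndiagM_eq (h2 : (2 : F) ≠ 0) (hne : ∃ v, minusForm F m a b v ≠ 0) :
    inndiagM m a b = (PhiD (minusForm F m a b) h2 (minusForm_nondeg F m hab) hne (m + 1)
      (card_idx' m)).range := by
  unfold inndiagM
  apply autSub_eq_range (minusForm F m a b) h2 (minusForm_nondeg F m hab) hne (m + 1) (card_idx' m)
    (fun M => PreservesSingularClassesMinus m a b M)
  intro g
  rw [mem_Dsub_iff]
  apply preservesMinus_iff_det hodd a b hab g.1 (mult ⇑(minusForm F m a b) hne g)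
  intro u
  have := mult_spec ⇑(minusForm F m a b) hne g u
  rw [minusForm_apply, minusForm_apply] at this
  exact this

include hab in
theorem exists_nonsquare_sim (h2 : (2 : F) ≠ 0) (hne : ∃ v, minusForm F m a b v ≠ 0) :
    ∃ d : ↥(Geo.quadSimilarityGroup (F := F) ⇑(minusForm F m a b)),
      ¬ IsSquare ((mult ⇑(minusForm F m a b) hne d : Fˣ) : F) := by
  obtain ⟨e, he⟩ := Cfsg.Agent.Helper8.OmegaOdd.exists_nonsquare (F := F) h2
  have he0 : e ≠ 0 := by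
    rintro rfl
    exact he ⟨0, (mul_zero 0).symm⟩
  obtain ⟨d, hd⟩ := Cfsg.Agent.S2726.minus_similarity m hab (Units.mk0 e he0)
  refine ⟨⟨d, ⟨Units.mk0 e he0, hd⟩⟩, ?_⟩
  rw [mult_eq_of (⇑(minusForm F m a b)) hne _ hd]
  exact he

include hodd hm hab in
/-- **case `-1 ∉ Ω`** -/
theorem hom_minus_two
    (hneg : ¬ ∃ g : ↥(Cfsg.isometryGroup F ⇑(minusForm F m a b)),
      g ∈ Cfsg.Omega F ⇑(minusForm F m a b) ∧
      ((g : GL ((Fin m ⊕ Fin m) ⊕ Fin 2) F) :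
        Matrix ((Fin m ⊕ Fin m) ⊕ Fin 2) ((Fin m ⊕ Fin m) ⊕ Fin 2) F) = -1) :
    ∃ φ : ↥(inndiagM m a b) →* Multiplicative (ZMod 2), Function.Surjective φ ∧
      φ.ker = (Cfsg.Inn (Cfsg.POmega F ⇑(minusForm F m a b))).subgroupOf (inndiagM m a b) := by
  have h2 : (2 : F) ≠ 0 := two_ne_zero_of_odd hodd
  have hne : ∃ v, minusForm F m a b v ≠ 0 := Cfsg.Agent.S2726.minus_ne (by omega) a b
  have h5 : 5 ≤ Fintype.card ((Fin m ⊕ Fin m) ⊕ Fin 2) := by rw [card_idx']; omega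
  have hd := exists_d_of_nonsquare (minusForm F m a b) h2 (minusForm_nondeg F m hab) hne (m + 1)
    (card_idx' m) h5 (exists_nonsquare_sim a b hab h2 hne)
  exact hom_caseA (minusForm F m a b) h2 (minusForm_nondeg F m hab) hne (m + 1) (card_idx' m) h5 hd
    (inndiagM m a b) (inndiagM_eq hodd a b hab h2 hne) hneg

set_option maxHeartbeats 1600000 in
include hodd hm hab in
/-- **case `-1 ∈ Ω` and `m` even** -/
theorem hom_minus_four
    (hneg : ∃ g : ↥(Cfsg.isometryGroup F ⇑(minusForm F m a b)),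
      g ∈ Cfsg.Omega F ⇑(minusForm F m a b) ∧
      ((g : GL ((Fin m ⊕ Fin m) ⊕ Fin 2) F) :
        Matrix ((Fin m ⊕ Fin m) ⊕ Fin 2) ((Fin m ⊕ Fin m) ⊕ Fin 2) F) = -1)
    (hme : Even m) :
    ∃ φ : ↥(inndiagM m a b) →* Multiplicative (ZMod 4), Function.Surjective φ ∧
      φ.ker = (Cfsg.Inn (Cfsg.POmega F ⇑(minusForm F m a b))).subgroupOf (inndiagM m a b) := by
  have h2 : (2 : F) ≠ 0 := two_ne_zero_of_odd hodd
  have hne : ∃ v, minusForm F m a b v ≠ 0 := Cfsg.Agent.S2726.minus_ne (by omega) a b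
  have h5 : 5 ≤ Fintype.card ((Fin m ⊕ Fin m) ⊕ Fin 2) := by rw [card_idx']; omega
  have hd := exists_d_of_nonsquare (minusForm F m a b) h2 (minusForm_nondeg F m hab) hne (m + 1)
    (card_idx' m) h5 (exists_nonsquare_sim a b hab h2 hne)
  -- the explicit similarity
  obtain ⟨e, he⟩ := Cfsg.Agent.Helper8.OmegaOdd.exists_nonsquare (F := F) h2
  have he0 : e ≠ 0 := by
    rintro rfl
    exact he ⟨0, (mul_zero 0).symm⟩
  obtain ⟨z₁, z₂, hz⟩ := Cfsg.Agent.S2726.exists_binary_eq hab e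
  have hdetX : (Xmat m a b e z₁ z₂).det = -(e ^ (m + 1)) := by
    rw [det_Xmat m a b e z₁ z₂ hz, hme.neg_pow, pow_succ]
    ring
  have hdet0 : (Xmat m a b e z₁ z₂).det ≠ 0 := by
    rw [hdetX]
    exact neg_ne_zero.mpr (pow_ne_zero _ he0)
  obtain ⟨xg, hxg⟩ : ∃ xg : GL ((Fin m ⊕ Fin m) ⊕ Fin 2) F,
      xg = Matrix.GeneralLinearGroup.mkOfDetNeZero (Xmat m a b e z₁ z₂) hdet0 := ⟨_, rfl⟩
  have hxgv : (xg : Matrix ((Fin m ⊕ Fin m) ⊕ Fin 2) ((Fin m ⊕ Fin m) ⊕ Fin 2) F)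
      = Xmat m a b e z₁ z₂ := by rw [hxg]; rfl
  have hspec : ∀ v, minusForm F m a b
      ((xg : Matrix ((Fin m ⊕ Fin m) ⊕ Fin 2) ((Fin m ⊕ Fin m) ⊕ Fin 2) F) *ᵥ v)
      = ((Units.mk0 e he0 : Fˣ) : F) * minusForm F m a b v := by
    intro v
    rw [hxgv]
    exact Xmat_spec m a b e z₁ z₂ hz v
  obtain ⟨x, hx⟩ : ∃ x : ↥(Geo.quadSimilarityGroup (F := F) ⇑(minusForm F m a b)),
      x = ⟨xg, ⟨Units.mk0 e he0, hspec⟩⟩ := ⟨_, rfl⟩
  have hxv : ((x : GL ((Fin m ⊕ Fin m) ⊕ Fin 2) F) :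
      Matrix ((Fin m ⊕ Fin m) ⊕ Fin 2) ((Fin m ⊕ Fin m) ⊕ Fin 2) F) = Xmat m a b e z₁ z₂ := by
    rw [hx]; exact hxgv
  have hmult : mult ⇑(minusForm F m a b) hne x = Units.mk0 e he0 := by
    apply mult_eq_of
    rw [hx]
    exact hspec
  have hxx : Phi ⇑(minusForm F m a b) (x * x) = 1 := by
    rw [Phi_eq_one_iff (minusForm F m a b) h2 (minusForm_nondeg F m hab) h5]
    refine ⟨e, ?_⟩
    rw [Subgroup.coe_mul, Units.val_mul, hxv]
    exact Xmat_mul_self m a b e z₁ z₂ hz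
  have hxD : x ∉ Dsub (minusForm F m a b) h2 (minusForm_nondeg F m hab) hne (m + 1)
      (card_idx' m) := by
    rw [mem_Dsub_iff, hxv, hdetX, hmult]
    show -(e ^ (m + 1)) ≠ e ^ (m + 1)
    intro h
    have h3 : (2 : F) * e ^ (m + 1) = 0 := by linear_combination -h
    rcases mul_eq_zero.mp h3 with h4 | h4
    · exact h2 h4
    · exact pow_ne_zero _ he0 h4
  have hxns : ¬ IsSquare ((mult ⇑(minusForm F m a b) hne x : Fˣ) : F) := by
    rw [hmult]
    exact he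
  obtain ⟨y, hy⟩ := exists_sq_not_mem_Inn (minusForm F m a b) h2 (minusForm_nondeg F m hab) hne
    (m + 1) (card_idx' m) h5 hneg x hxx hxD hxns
  exact hom_caseB (minusForm F m a b) h2 (minusForm_nondeg F m hab) hne (m + 1) (card_idx' m) h5 hd
    (inndiagM m a b) (inndiagM_eq hodd a b hab h2 hne) hneg y hy

end Main

end Cfsg.Agent.Helper8.InnDiagMinus
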