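import Mathlib
import Cfsg.Agent.Helper8.AutOzzf
import Cfsg.Agent.Helper8.AutOzzd
import Cfsg.Agent.Helper8.InnDiagMinusH
import Cfsg.Agent.S0791

set_option autoImplicit false
set_option linter.unusedSectionVars false
set_option linter.style.haveILetI false

/-!
# Automorphisms of orthogonal groups, part zzg: the image of the class-preserving similarities of
`PΩ⁻` is generated by the inner automorphisms and the centraliser of a field automorphism of odd
order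
-/

namespace Cfsg.Agent.Helper8.AutO

open Module Matrix Cfsg.Agent.Helper8.QuadForm Cfsg.Agent.Helper8.WittQuad
  Cfsg.Agent.Helper8.OrthOrder
  Cfsg.Agent.Helper8.Siegel Cfsg.Agent.Helper8.SiegelGeom Cfsg.Agent.Helper8.SiegelGroup
  Cfsg.Agent.Helper8.SiegelPrim Cfsg.Agent.Helper8.SiegelSimple Cfsg.Agent.Helper8.ReflMatrix
  Cfsg.Agent.Helper8.OmegaSimple Cfsg.Agent.Helper8.AutImagePsi Cfsg.Agent.Helper8.AutImageOrth
  Cfsg.Agent.Helper8.StdForms Cfsg.Agent.Helper8.AutImage Cfsg.Agent.Helper8.AutImageKer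
  Cfsg.Agent.Helper8.AutImageIdx Cfsg.Agent.Helper8.Cls Cfsg.Agent.Helper8.Reflections
  Cfsg.Agent.Helper8.OmegaEven Cfsg.Agent.Helper8.InnDiagMinus
open Cfsg.Agent.Helper8.AutSLn (gls nrmGL nrmF unitsAut fixField)

section General

variable {F : Type*} [Field F] [Fintype F] {ι : Type} [Fintype ι] [DecidableEq ι]
  (Q : QuadraticForm F (ι → F)) (hQ : (QuadraticMap.polarBilin Q).Nondegenerate)
  (hne : ∃ v, Q v ≠ 0) (k : ℕ) (hk : Fintype.card ι = 2 * k) (h5 : 5 ≤ Fintype.card ι)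

include h5 in
/-- in characteristic two the class-preserving similarities induce inner automorphisms only. -/
theorem cpAut_le_Inn_of_char_two [Nontrivial (ι → F)] (h2 : (2 : F) = 0) :
    cpAut Q hQ hne k hk ≤ Cfsg.Inn (Cfsg.POmega F ⇑Q) := by
  have hchar : CharP F 2 := CharTwo.of_one_ne_zero_of_two_eq_zero one_ne_zero h2
  haveI : Fact (Nat.Prime 2) := ⟨Nat.prime_two⟩
  intro β hβ
  unfold cpAut at hβ
  obtain ⟨g, hg, rfl⟩ := hβ
  have hg1 : clsChar Q hQ hne k hk g = 1 := hg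
  unfold clsChar at hg1
  rw [dif_pos h2, MonoidHom.comp_apply] at hg1
  have hΩ : isoPart Q hne h2 g ∈ Cfsg.Omega F ⇑Q :=
    ((commutator_eq Q h2 hQ (by omega) (Or.inr (by omega))).2 _).mpr hg1
  have hdecomp : g = scalarGO Q (sqrtU (mult ⇑Q hne g)) *
      Subgroup.inclusion (isometry_le_similarity ⇑Q) (isoPart Q hne h2 g) := by
    apply Subtype.ext
    show (g : GL ι F) = Matrix.GeneralLinearGroup.scalar ι (sqrtU (mult ⇑Q hne g)) *
      ((Matrix.GeneralLinearGroup.scalar ι (sqrtU (mult ⇑Q hne g)))⁻¹ * (g : GL ι F))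
    rw [mul_inv_cancel_left]
  rw [Inn_eq']
  refine ⟨isoPart Q hne h2 g, hΩ, ?_⟩
  conv_rhs => rw [hdecomp, map_mul, Phi_scalarGO' Q hQ h5 2, one_mul]
  rfl

include hQ h5 in
/-- a similarity inducing an inner automorphism has a square multiplier. -/
theorem isSquare_mult_of_mem_Inn [Nontrivial (ι → F)] (p : ℕ) [Fact p.Prime] [CharP F p]
    (g : ↥(Cfsg.Geo.quadSimilarityGroup (F := F) ⇑Q))
    (h : Phi ⇑Q g ∈ Cfsg.Inn (Cfsg.POmega F ⇑Q)) :
    IsSquare ((mult ⇑Q hne g : Fˣ) : F) := by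
  rw [Inn_eq'] at h
  obtain ⟨s, -, hs⟩ := h
  have h1 : Phi ⇑Q ((Subgroup.inclusion (isometry_le_similarity ⇑Q) s)⁻¹ * g) = 1 := by
    rw [map_mul, map_inv]
    have : Phi ⇑Q (Subgroup.inclusion (isometry_le_similarity ⇑Q) s) = PhiO ⇑Q s := rfl
    rw [this, hs, inv_mul_cancel]
  rw [Phi_eq_one_iff_scalar Q hQ h5 p] at h1
  obtain ⟨c, hc⟩ := h1
  have h3 := mult_of_scalar Q hne _ c hc
  rw [map_mul, map_inv, mult_of_isometry ⇑Q hne _ s.2, inv_one, one_mul] at h3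
  rw [h3, Units.val_mul]
  exact ⟨c, rfl⟩

end General

section Minus

universe u v

variable {F₀ : Type u} {F : Type v} [Field F₀] [Field F] [Fintype F₀] [Fintype F]

/-- a class-preserving similarity of the minus-type form with a given multiplier. -/
theorem exists_cp_mult (m : ℕ) {a b : F}
    (hab : ∀ z₁ z₂ : F, z₁ ^ 2 + a * z₁ * z₂ + b * z₂ ^ 2 = 0 → z₁ = 0 ∧ z₂ = 0)
    (hne : ∃ v, minusForm F m a b v ≠ 0) (e : Fˣ) :
    ∃ g : ↥(Cfsg.Geo.quadSimilarityGroup (F := F) ⇑(minusForm F m a b)),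
      clsChar (minusForm F m a b) (minusForm_nondeg F m hab) hne (m + 1) (card_idx_minus m) g = 1 ∧
      mult ⇑(minusForm F m a b) hne g = e := by
  obtain ⟨d, hd⟩ := Cfsg.Agent.S2726.minus_similarity m hab e
  obtain ⟨g₁, hg₁⟩ : ∃ g₁ : ↥(Cfsg.Geo.quadSimilarityGroup (F := F) ⇑(minusForm F m a b)),
      g₁ = ⟨d, ⟨e, hd⟩⟩ := ⟨_, rfl⟩
  have hm₁ : mult ⇑(minusForm F m a b) hne g₁ = e := by
    apply mult_eq_of
    rw [hg₁]
    exact hd
  rcases Int.units_eq_one_or (clsChar (minusForm F m a b) (minusForm_nondeg F m hab) hne (m + 1)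
    (card_idx_minus m) g₁) with h1 | h1
  · exact ⟨g₁, h1, hm₁⟩
  · have hne' := hne
    obtain ⟨z, hz⟩ := hne'
    refine ⟨g₁ * reflGO (minusForm F m a b) z, ?_, ?_⟩
    · have hρ : clsChar (minusForm F m a b) (minusForm_nondeg F m hab) hne (m + 1)
          (card_idx_minus m) (reflGO (minusForm F m a b) z) = -1 :=
        clsChar_reflElt (minusForm F m a b) (minusForm_nondeg F m hab) hne
          (m + 1) (card_idx_minus m) (reflGO (minusForm F m a b) z) hz rfl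
      have hmul := (clsChar (minusForm F m a b) (minusForm_nondeg F m hab) hne (m + 1)
          (card_idx_minus m)).map_mul g₁ (reflGO (minusForm F m a b) z)
      rw [hmul, h1, hρ]
      rfl
    · have hρm : mult ⇑(minusForm F m a b) hne (reflGO (minusForm F m a b) z) = 1 :=
        mult_of_isometry ⇑(minusForm F m a b) hne (reflGO (minusForm F m a b) z)
          (reflElt (minusForm F m a b) z).2
      have hmul := (mult ⇑(minusForm F m a b) hne).map_mul g₁ (reflGO (minusForm F m a b) z)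
      rw [hmul, hm₁, hρm, mul_one]

theorem zmod2_gen : ∀ e : Multiplicative (ZMod 2), (∀ y : Multiplicative (ZMod 2), e ≠ y ^ 2) →
    ∀ z : Multiplicative (ZMod 2), ∃ i : Fin 4, z = e ^ (i : ℕ) := by
  decide

theorem zmod4_gen : ∀ e : Multiplicative (ZMod 4), (∀ y : Multiplicative (ZMod 4), e ≠ y ^ 2) →
    ∀ z : Multiplicative (ZMod 4), ∃ i : Fin 4, z = e ^ (i : ℕ) := by
  decide

/-- a subgroup with a cyclic quotient generated by the image of `b` is generated by the kernel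
and `b`. -/
theorem le_sup_of_hom {X : Type*} [Group X] (I N C : Subgroup X) {Z : Type*} [Group Z]
    (φ : ↥I →* Z) (hφk : φ.ker = N.subgroupOf I) (b : X) (hbI : b ∈ I) (hbC : b ∈ C)
    (hgen : ∀ z : Z, ∃ i : ℕ, z = (φ ⟨b, hbI⟩) ^ i) : I ≤ N ⊔ C := by
  intro β hβ
  obtain ⟨i, hi⟩ := hgen (φ ⟨β, hβ⟩)
  have h1 : (⟨β, hβ⟩ * (⟨b, hbI⟩ ^ i)⁻¹ : ↥I) ∈ φ.ker := by
    rw [MonoidHom.mem_ker, map_mul, map_inv, map_pow, hi, mul_inv_cancel]
  rw [hφk, Subgroup.mem_subgroupOf] at h1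
  have h3 : β * (b ^ i)⁻¹ ∈ N := h1
  have h4 : β = β * (b ^ i)⁻¹ * b ^ i := by rw [inv_mul_cancel_right]
  rw [h4]
  exact Subgroup.mul_mem_sup h3 (C.pow_mem hbC i)

set_option maxHeartbeats 1600000 in
/-- **odd characteristic**: the image of the class-preserving similarities of `PΩ⁻` is generated
by the inner automorphisms and the class-preserving similarities over a subfield whose
nonsquares stay nonsquares. -/
theorem cpAut_le_sup_minus_odd {m : ℕ} (hm : 3 ≤ m) (h2 : (2 : F) ≠ 0) (j : F₀ →+* F)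
    (a b : F) (a₀ b₀ : F₀)
    (hab : ∀ z₁ z₂ : F, z₁ ^ 2 + a * z₁ * z₂ + b * z₂ ^ 2 = 0 → z₁ = 0 ∧ z₂ = 0)
    (hab₀ : ∀ z₁ z₂ : F₀, z₁ ^ 2 + a₀ * z₁ * z₂ + b₀ * z₂ ^ 2 = 0 → z₁ = 0 ∧ z₂ = 0)
    (hj : ∀ v : (Fin m ⊕ Fin m) ⊕ Fin 2 → F₀,
      minusForm F m a b (hvec j v) = j (minusForm F₀ m a₀ b₀ v))
    (hne : ∃ v, minusForm F m a b v ≠ 0) (hne₀ : ∃ v, minusForm F₀ m a₀ b₀ v ≠ 0)
    (hnsq : ∀ c : F₀, ¬ IsSquare c → ¬ IsSquare (j c)) :
    cpAut (minusForm F m a b) (minusForm_nondeg F m hab) hne (m + 1) (card_idx_minus m) ≤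
      Cfsg.Inn (Cfsg.POmega F ⇑(minusForm F m a b)) ⊔
        (subHomCP j (minusForm F₀ m a₀ b₀) (minusForm F m a b) hj (minusForm_nondeg F₀ m hab₀)
          hne₀ (m + 1) (card_idx_minus m)).range := by
  classical
  haveI : Nonempty ((Fin m ⊕ Fin m) ⊕ Fin 2) := ⟨Sum.inr 0⟩
  obtain ⟨p, hp, hc⟩ := exists_char F
  have h5 : 5 ≤ Fintype.card ((Fin m ⊕ Fin m) ⊕ Fin 2) := by rw [card_idx_minus]; omega
  have hodd : Odd (Fintype.card F) := by
    rw [Nat.odd_iff]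
    apply FiniteField.odd_card_of_char_ne_two
    intro h
    apply h2
    have : ((ringChar F : ℕ) : F) = 0 := ringChar.Nat.cast_ringChar
    rw [h] at this
    exact_mod_cast this
  have h2₀ : (2 : F₀) ≠ 0 := by
    intro h
    apply h2
    have := congrArg j h
    rwa [map_ofNat, map_zero] at this
  obtain ⟨Q, hQdef⟩ : ∃ Q, Q = minusForm F m a b := ⟨_, rfl⟩
  obtain ⟨Q₀, hQ₀def⟩ : ∃ Q₀, Q₀ = minusForm F₀ m a₀ b₀ := ⟨_, rfl⟩
  -- the element with a nonsquare multiplier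
  obtain ⟨e₀, he₀⟩ := Cfsg.Agent.Helper8.OmegaOdd.exists_nonsquare (F := F₀) h2₀
  have he₀0 : e₀ ≠ 0 := by
    rintro rfl
    exact he₀ ⟨0, (mul_zero 0).symm⟩
  obtain ⟨g₀, hg₀cp, hg₀m⟩ := exists_cp_mult m hab₀ hne₀ (Units.mk0 e₀ he₀0)
  obtain ⟨bb, hbb⟩ : ∃ bb, bb = subHomCP j (minusForm F₀ m a₀ b₀) (minusForm F m a b) hj
      (minusForm_nondeg F₀ m hab₀) hne₀ (m + 1) (card_idx_minus m) ⟨g₀, hg₀cp⟩ := ⟨_, rfl⟩
  have hbbC : bb ∈ (subHomCP j (minusForm F₀ m a₀ b₀) (minusForm F m a b) hj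
      (minusForm_nondeg F₀ m hab₀) hne₀ (m + 1) (card_idx_minus m)).range := ⟨_, hbb.symm⟩
  have hbbPhi : bb = Phi ⇑(minusForm F m a b)
      (simMap j (minusForm F₀ m a₀ b₀) (minusForm F m a b) hj g₀) := by
    rw [hbb]
    rfl
  have hbbI : bb ∈ cpAut (minusForm F m a b) (minusForm_nondeg F m hab) hne (m + 1)
      (card_idx_minus m) := by
    rw [mem_cpAut_iff]
    refine ⟨simMap j (minusForm F₀ m a₀ b₀) (minusForm F m a b) hj g₀, ?_, hbbPhi.symm⟩
    rw [← clsChar_eq_one_iff (minusForm F m a b) (minusForm_nondeg F m hab) hne (m + 1)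
      (card_idx_minus m), clsChar_simMap j (minusForm F₀ m a₀ b₀) (minusForm F m a b) hj
      (minusForm_nondeg F₀ m hab₀) (minusForm_nondeg F m hab) hne₀ hne (m + 1) (card_idx_minus m)]
    exact hg₀cp
  have hmultbb : ((mult ⇑(minusForm F m a b) hne
      (simMap j (minusForm F₀ m a₀ b₀) (minusForm F m a b) hj g₀) : Fˣ) : F) = j e₀ := by
    rw [mult_simMap j (minusForm F₀ m a₀ b₀) (minusForm F m a b) hj hne₀ hne, hg₀m, Units.val_mk0]
  -- `bb` is not a square modulo the inner automorphisms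
  have key : ∀ β₁ ∈ cpAut (minusForm F m a b) (minusForm_nondeg F m hab) hne (m + 1)
      (card_idx_minus m), bb * (β₁ ^ 2)⁻¹ ∉ Cfsg.Inn (Cfsg.POmega F ⇑(minusForm F m a b)) := by
    intro β₁ hβ₁ hcon
    rw [mem_cpAut_iff] at hβ₁
    obtain ⟨g₁, -, rfl⟩ := hβ₁
    rw [hbbPhi, ← map_pow, ← map_inv, ← map_mul] at hcon
    have hsq := isSquare_mult_of_mem_Inn (minusForm F m a b) (minusForm_nondeg F m hab) hne h5 p
      _ hcon
    rw [map_mul, map_inv, map_pow, Units.val_mul, hmultbb] at hsq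
    apply hnsq e₀ he₀
    obtain ⟨t, ht⟩ := hsq
    refine ⟨t * ((mult ⇑(minusForm F m a b) hne g₁ : Fˣ) : F), ?_⟩
    have hu : (((mult ⇑(minusForm F m a b) hne g₁ ^ 2)⁻¹ : Fˣ) : F)
        * (((mult ⇑(minusForm F m a b) hne g₁ : Fˣ) : F)
          * ((mult ⇑(minusForm F m a b) hne g₁ : Fˣ) : F)) = 1 := by
      rw [← Units.val_mul, ← Units.val_mul, ← pow_two, inv_mul_cancel, Units.val_one]
    calc j e₀ = j e₀ * ((((mult ⇑(minusForm F m a b) hne g₁ ^ 2)⁻¹ : Fˣ) : F)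
          * (((mult ⇑(minusForm F m a b) hne g₁ : Fˣ) : F)
            * ((mult ⇑(minusForm F m a b) hne g₁ : Fˣ) : F))) := by rw [hu, mul_one]
      _ = (t * t) * (((mult ⇑(minusForm F m a b) hne g₁ : Fˣ) : F)
            * ((mult ⇑(minusForm F m a b) hne g₁ : Fˣ) : F)) := by rw [← ht]; ring
      _ = _ := by ring
  -- the structure of the quotient
  have hI : inndiagM m a b = cpAut (minusForm F m a b) (minusForm_nondeg F m hab) hne (m + 1)
      (card_idx_minus m) := inndiag_minus_eq_cpAut m a b hab hne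
  rw [← hI] at hbbI key ⊢
  by_cases hneg : ∃ g : ↥(Cfsg.isometryGroup F ⇑(minusForm F m a b)),
      g ∈ Cfsg.Omega F ⇑(minusForm F m a b) ∧
      ((g : GL ((Fin m ⊕ Fin m) ⊕ Fin 2) F) :
        Matrix ((Fin m ⊕ Fin m) ⊕ Fin 2) ((Fin m ⊕ Fin m) ⊕ Fin 2) F) = -1
  · have hme : Even m := by
      have e : ⇑(minusForm F m a b) = Cfsg.quadFormMinus m F a b :=
        funext (minusForm_apply F m a b)
      have hiff := Cfsg.Agent.S0791.result (F := F) rfl hodd (m + 1) (by omega) a b hab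
      rw [Nat.add_sub_cancel, ← e] at hiff
      have h3 := hiff.mp hneg
      by_contra hcon
      have hmo : Even (m + 1) := by
        rw [Nat.even_add_one]
        exact hcon
      have := (Cfsg.Agent.Helper8.OmegaStd.pow_mod_four (Fintype.card F) (m + 1) hodd).mpr
        (Or.inl hmo)
      omega
    obtain ⟨φ, hφs, hφk⟩ := hom_minus_four hodd hm a b hab hneg hme
    apply le_sup_of_hom (inndiagM m a b) _ _ φ hφk bb hbbI hbbC
    have hns : ∀ y : Multiplicative (ZMod 4), φ ⟨bb, hbbI⟩ ≠ y ^ 2 := by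
      intro y hy
      obtain ⟨β₁, rfl⟩ := hφs y
      have h1 : (⟨bb, hbbI⟩ * (β₁ ^ 2)⁻¹ : ↥(inndiagM m a b)) ∈ φ.ker := by
        rw [MonoidHom.mem_ker, map_mul, map_inv, map_pow, hy, mul_inv_cancel]
      rw [hφk, Subgroup.mem_subgroupOf] at h1
      exact key β₁.1 β₁.2 h1
    intro z
    obtain ⟨i, hi⟩ := zmod4_gen _ hns z
    exact ⟨i, hi⟩
  · obtain ⟨φ, hφs, hφk⟩ := hom_minus_two hodd hm a b hab hneg
    apply le_sup_of_hom (inndiagM m a b) _ _ φ hφk bb hbbI hbbC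
    have hns : ∀ y : Multiplicative (ZMod 2), φ ⟨bb, hbbI⟩ ≠ y ^ 2 := by
      intro y hy
      obtain ⟨β₁, rfl⟩ := hφs y
      have h1 : (⟨bb, hbbI⟩ * (β₁ ^ 2)⁻¹ : ↥(inndiagM m a b)) ∈ φ.ker := by
        rw [MonoidHom.mem_ker, map_mul, map_inv, map_pow, hy, mul_inv_cancel]
      rw [hφk, Subgroup.mem_subgroupOf] at h1
      exact key β₁.1 β₁.2 h1
    intro z
    obtain ⟨i, hi⟩ := zmod2_gen _ hns z
    exact ⟨i, hi⟩

end Minus

end Cfsg.Agent.Helper8.AutO
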