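import Mathlib
import Cfsg.Agent.Helper8.AutOzzg
import Cfsg.Agent.Helper8.AutOzj
import Cfsg.Agent.Helper8.SplitClassA

set_option autoImplicit false
set_option linter.unusedSectionVars false
set_option linter.style.haveILetI false

/-!
# Automorphisms of orthogonal groups, part zzh: field automorphisms of prime order of `PΩ⁻`: the
order is odd, the centraliser in the inner-diagonal group, and the class does not split
-/

namespace Cfsg.Agent.Helper8.AutO

open Module Matrix Cfsg.Agent.Helper8.QuadForm Cfsg.Agent.Helper8.WittQuad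
  Cfsg.Agent.Helper8.OrthOrder
  Cfsg.Agent.Helper8.Siegel Cfsg.Agent.Helper8.SiegelGeom Cfsg.Agent.Helper8.SiegelGroup
  Cfsg.Agent.Helper8.SiegelPrim Cfsg.Agent.Helper8.SiegelSimple Cfsg.Agent.Helper8.ReflMatrix
  Cfsg.Agent.Helper8.OmegaSimple Cfsg.Agent.Helper8.AutImagePsi Cfsg.Agent.Helper8.AutImageOrth
  Cfsg.Agent.Helper8.StdForms Cfsg.Agent.Helper8.AutImage Cfsg.Agent.Helper8.AutImageKer
  Cfsg.Agent.Helper8.AutImageIdx Cfsg.Agent.Helper8.Cls Cfsg.Agent.Helper8.Reflections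
  Cfsg.Agent.Helper8.OrT
open Cfsg.Agent.Helper8.AutSLn (gls nrmGL nrmF unitsAut fixField)

section Congr

theorem map_congr_Inn {G G' : Type*} [Group G] [Group G'] (ψ : G ≃* G') :
    (Cfsg.Inn G).map (MulAut.congr ψ).toMonoidHom = Cfsg.Inn G' := by
  ext β'
  constructor
  · rintro ⟨_, ⟨g, rfl⟩, rfl⟩
    refine ⟨ψ g, ?_⟩
    apply MulEquiv.ext
    intro t
    show ψ g * t * (ψ g)⁻¹ = ψ (g * ψ.symm t * g⁻¹)
    rw [map_mul, map_mul, map_inv, MulEquiv.apply_symm_apply]
  · rintro ⟨g', rfl⟩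
    refine ⟨MulAut.conj (ψ.symm g'), ⟨_, rfl⟩, ?_⟩
    apply MulEquiv.ext
    intro t
    show ψ (ψ.symm g' * ψ.symm t * (ψ.symm g')⁻¹) = g' * t * g'⁻¹
    rw [map_mul, map_mul, map_inv, MulEquiv.apply_symm_apply, MulEquiv.apply_symm_apply]

theorem map_centralizer_equiv {X Y : Type*} [Group X] [Group Y] (C : X ≃* Y) (x : X) :
    (Subgroup.centralizer {x}).map C.toMonoidHom = Subgroup.centralizer {C x} := by
  ext y
  rw [Subgroup.mem_map, Subgroup.mem_centralizer_iff]
  constructor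
  · rintro ⟨d, hd, rfl⟩ z hz
    rw [Set.mem_singleton_iff] at hz
    subst hz
    have := Subgroup.mem_centralizer_iff.mp hd x rfl
    show C x * C d = C d * C x
    rw [← map_mul, ← map_mul, this]
  · intro h
    refine ⟨C.symm y, ?_, C.apply_symm_apply y⟩
    apply Subgroup.mem_centralizer_iff.mpr
    intro z hz
    rw [Set.mem_singleton_iff] at hz
    subst hz
    apply C.injective
    rw [map_mul, map_mul, MulEquiv.apply_symm_apply]
    exact h (C z) rfl

end Congr

section Odd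

variable {F : Type*} [Field F] [Fintype F]

/-- an automorphism of prime order fixing the coefficients of an anisotropic binary form has odd
order. -/
theorem odd_of_fixed_aniso {p f : ℕ} [Fact p.Prime] (hF : Fintype.card F = p ^ f) (σ : F ≃+* F)
    {r : ℕ} (hr : r.Prime) (hσ : orderOf σ = r) {a b : F} (ha : σ a = a) (hb : σ b = b)
    (hab : ∀ z₁ z₂ : F, z₁ ^ 2 + a * z₁ * z₂ + b * z₂ ^ 2 = 0 → z₁ = 0 ∧ z₂ = 0) : Odd r := by
  classical
  rcases hr.eq_two_or_odd' with h2 | h2
  swap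
  · exact h2
  exfalso
  subst h2
  letI : Fintype ↥(fixField σ) := Fintype.ofFinite _
  obtain ⟨hdvd, hcard⟩ := Cfsg.Agent.Helper8.AutSLn.card_fixField hF σ (by norm_num) hσ
  rw [Nat.card_eq_fintype_card] at hcard
  have hK : finrank ↥(fixField σ) F = 2 := by
    have h5 := Module.card_eq_pow_finrank (K := ↥(fixField σ)) (V := F)
    rw [hF, hcard, ← pow_mul] at h5
    have h6 := Nat.pow_right_injective (Fact.out : p.Prime).two_le h5
    have hf1 : 1 ≤ f := by
      by_contra hcon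
      have : f = 0 := by omega
      rw [this, pow_zero] at hF
      have := Fintype.one_lt_card (α := F)
      omega
    obtain ⟨k, hk⟩ := hdvd
    rw [hk, Nat.mul_div_cancel_left _ (by norm_num : 0 < 2)] at h6
    have hk0 : 0 < k := by omega
    have : k * 2 = k * finrank ↥(fixField σ) F := by rw [← h6]; ring
    exact (Nat.eq_of_mul_eq_mul_left hk0 this).symm
  have hab₁ : ∀ z₁ z₂ : ↥(fixField σ),
      z₁ ^ 2 + (⟨a, ha⟩ : ↥(fixField σ)) * z₁ * z₂ + (⟨b, hb⟩ : ↥(fixField σ)) * z₂ ^ 2 = 0 →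
      z₁ = 0 ∧ z₂ = 0 := by
    intro z₁ z₂ h
    have h1 := congrArg (fun x : ↥(fixField σ) => (x : F)) h
    have h2 := hab (z₁ : F) (z₂ : F) (by simpa using h1)
    exact ⟨Subtype.ext h2.1, Subtype.ext h2.2⟩
  obtain ⟨ρ, ρ', hsum, hprod, -⟩ := exists_roots_of_aniso (F := ↥(fixField σ)) (K := F) hK hab₁
  have hsum' : ρ + ρ' = -a := hsum
  have hprod' : ρ * ρ' = b := hprod
  have := (hab ρ 1 (by
    have ha' : a = -(ρ + ρ') := by rw [hsum', neg_neg]
    rw [ha', ← hprod']
    ring)).2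
  exact one_ne_zero this

end Odd

end Cfsg.Agent.Helper8.AutO
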