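import Mathlib
import Cfsg.Agent.Helper8.AutOzzh

set_option autoImplicit false
set_option linter.unusedSectionVars false
set_option linter.style.haveILetI false

/-!
# Automorphisms of orthogonal groups, part zzi: field automorphisms of prime order of `PΩ⁻`: the
main theorem
-/

namespace Cfsg.Agent.Helper8.AutO

open Module Matrix Cfsg.Agent.Helper8.QuadForm Cfsg.Agent.Helper8.WittQuad
  Cfsg.Agent.Helper8.OrthOrder
  Cfsg.Agent.Helper8.Siegel Cfsg.Agent.Helper8.SiegelGeom Cfsg.Agent.Helper8.SiegelGroup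
  Cfsg.Agent.Helper8.SiegelPrim Cfsg.Agent.Helper8.SiegelSimple Cfsg.Agent.Helper8.ReflMatrix
  Cfsg.Agent.Helper8.OmegaSimple Cfsg.Agent.Helper8.AutImagePsi Cfsg.Agent.Helper8.AutImageOrth
  Cfsg.Agent.Helper8.StdForms Cfsg.Agent.Helper8.AutImage Cfsg.Agent.Helper8.AutImageKer
  Cfsg.Agent.Helper8.AutImageIdx Cfsg.Agent.Helper8.Cls Cfsg.Agent.Helper8.Reflections
  Cfsg.Agent.Helper8.OrT
open Cfsg.Agent.Helper8.AutSLn (gls nrmGL nrmF unitsAut fixField)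

section General

variable {F : Type*} [Field F] [Fintype F] {ι : Type} [Fintype ι] [DecidableEq ι]
  (Q : QuadraticForm F (ι → F)) (hQ : (QuadraticMap.polarBilin Q).Nondegenerate)
  (hne : ∃ v, Q v ≠ 0) (k : ℕ) (hk : Fintype.card ι = 2 * k)

/-- the inner automorphisms are induced by class-preserving similarities. -/
theorem Inn_le_cpAut : Cfsg.Inn (Cfsg.POmega F ⇑Q) ≤ cpAut Q hQ hne k hk := by
  rw [Inn_eq']
  rintro _ ⟨s, hs, rfl⟩
  unfold cpAut
  refine ⟨Subgroup.inclusion (isometry_le_similarity ⇑Q) s, ?_, rfl⟩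
  have hle : commutator ↥(Cfsg.isometryGroup F ⇑Q) ≤
      ((clsChar Q hQ hne k hk).comp (Subgroup.inclusion (isometry_le_similarity ⇑Q))).ker :=
    Abelianization.commutator_subset_ker _
  exact hle hs

end General

universe u v

section Bridge

variable {F₀ : Type u} [Field F₀] [Fintype F₀]

/-- the inner-diagonal group of `PΩ⁻`, for the form given as a function, is isomorphic to the image
of the class-preserving similarities. -/
theorem nonempty_inndiag_equiv_cpAut (m : ℕ) (hm : 1 ≤ m) (a₀ b₀ : F₀)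
    (hab₀ : ∀ z₁ z₂ : F₀, z₁ ^ 2 + a₀ * z₁ * z₂ + b₀ * z₂ ^ 2 = 0 → z₁ = 0 ∧ z₂ = 0)
    (Qf₀ : ((Fin m ⊕ Fin m) ⊕ Fin 2 → F₀) → F₀) (hQf₀ : Qf₀ = ⇑(minusForm F₀ m a₀ b₀)) :
    Nonempty (↥(cpAut (minusForm F₀ m a₀ b₀) (minusForm_nondeg F₀ m hab₀)
        (Cfsg.Agent.S2726.minus_ne hm a₀ b₀) (m + 1) (card_idx_minus m)) ≃*
      ↥(Cfsg.autSubgroupOf (fun β : Cfsg.POmega F₀ Qf₀ ≃* Cfsg.POmega F₀ Qf₀ =>
        ∃ g : GL ((Fin m ⊕ Fin m) ⊕ Fin 2) F₀,
        g ∈ Cfsg.Geo.quadSimilarityGroup (F := F₀) Qf₀ ∧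
        Cfsg.PreservesSingularClassesMinus m a₀ b₀
          (g : Matrix ((Fin m ⊕ Fin m) ⊕ Fin 2) ((Fin m ⊕ Fin m) ⊕ Fin 2) F₀) ∧
        Cfsg.IsInducedBySemilinearPOmega Qf₀ g (RingEquiv.refl F₀) β))) := by
  subst hQf₀
  rw [inndiag_minus_eq_cpAut m a₀ b₀ hab₀ (Cfsg.Agent.S2726.minus_ne hm a₀ b₀)]
  exact ⟨MulEquiv.refl _⟩

end Bridge

section Main

variable {F₀ : Type u} {F : Type v} [Field F₀] [Field F] [Fintype F₀] [Fintype F]

set_option maxHeartbeats 3200000 in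
/-- **field automorphisms of prime order of `PΩ⁻_{2m+2}(q)`.** -/
theorem field_aut_main_minus {p f : ℕ} [Fact p.Prime] (hF : Fintype.card F = p ^ f)
    {m : ℕ} (hm : 3 ≤ m) (a b a' b' : F)
    (hab : ∀ z₁ z₂ : F, z₁ ^ 2 + a * z₁ * z₂ + b * z₂ ^ 2 = 0 → z₁ = 0 ∧ z₂ = 0)
    (hab' : ∀ z₁ z₂ : F, z₁ ^ 2 + a' * z₁ * z₂ + b' * z₂ ^ 2 = 0 → z₁ = 0 ∧ z₂ = 0)
    (Qf Qf' : ((Fin m ⊕ Fin m) ⊕ Fin 2 → F) → F)
    (hQf : Qf = ⇑(minusForm F m a b)) (hQf' : Qf' = ⇑(minusForm F m a' b'))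
    (x : MulAut (Cfsg.POmega F Qf)) (ψ : Cfsg.POmega F Qf ≃* Cfsg.POmega F Qf')
    (σ : F ≃+* F) (ha' : σ a' = a') (hb' : σ b' = b')
    (hfield : Cfsg.IsFieldAutPOmegaOf Qf' σ ((ψ.symm.trans x).trans ψ))
    {r : ℕ} (hr : r.Prime) (hxr : orderOf x = r) (hF₀ : Fintype.card F₀ = p ^ (f / r)) :
    Odd r ∧ r ∣ f ∧
    (∃ a₀ b₀ : F₀, (∀ z₁ z₂ : F₀, z₁ ^ 2 + a₀ * z₁ * z₂ + b₀ * z₂ ^ 2 = 0 → z₁ = 0 ∧ z₂ = 0) ∧
      ∀ (Qf₀ : ((Fin m ⊕ Fin m) ⊕ Fin 2 → F₀) → F₀), Qf₀ = ⇑(minusForm F₀ m a₀ b₀) →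
      Nonempty (↥(Cfsg.autSubgroupOf (fun β : Cfsg.POmega F Qf ≃* Cfsg.POmega F Qf =>
        ∃ g : GL ((Fin m ⊕ Fin m) ⊕ Fin 2) F,
        g ∈ Cfsg.Geo.quadSimilarityGroup (F := F) Qf ∧
        Cfsg.PreservesSingularClassesMinus m a b
          (g : Matrix ((Fin m ⊕ Fin m) ⊕ Fin 2) ((Fin m ⊕ Fin m) ⊕ Fin 2) F) ∧
        Cfsg.IsInducedBySemilinearPOmega Qf g (RingEquiv.refl F) β) ⊓
          Subgroup.centralizer {x}) ≃*
        ↥(Cfsg.autSubgroupOf (fun β : Cfsg.POmega F₀ Qf₀ ≃* Cfsg.POmega F₀ Qf₀ =>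
          ∃ g : GL ((Fin m ⊕ Fin m) ⊕ Fin 2) F₀,
          g ∈ Cfsg.Geo.quadSimilarityGroup (F := F₀) Qf₀ ∧
          Cfsg.PreservesSingularClassesMinus m a₀ b₀
            (g : Matrix ((Fin m ⊕ Fin m) ⊕ Fin 2) ((Fin m ⊕ Fin m) ⊕ Fin 2) F₀) ∧
          Cfsg.IsInducedBySemilinearPOmega Qf₀ g (RingEquiv.refl F₀) β)))) ∧
    Cfsg.splitClassCount (Cfsg.autSubgroupOf (fun β : Cfsg.POmega F Qf ≃* Cfsg.POmega F Qf =>
        ∃ g : GL ((Fin m ⊕ Fin m) ⊕ Fin 2) F,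
        g ∈ Cfsg.Geo.quadSimilarityGroup (F := F) Qf ∧
        Cfsg.PreservesSingularClassesMinus m a b
          (g : Matrix ((Fin m ⊕ Fin m) ⊕ Fin 2) ((Fin m ⊕ Fin m) ⊕ Fin 2) F) ∧
        Cfsg.IsInducedBySemilinearPOmega Qf g (RingEquiv.refl F) β))
      (Cfsg.Inn (Cfsg.POmega F Qf)) x = 1 := by
  subst hQf hQf'
  classical
  have hc : CharP F p := charP_of_card_eq_prime_pow hF
  haveI : Nonempty ((Fin m ⊕ Fin m) ⊕ Fin 2) := ⟨Sum.inr 0⟩
  have hcard := card_idx_minus m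
  have hI := inndiag_minus_eq_cpAut m a b hab (Cfsg.Agent.S2726.minus_ne (by omega) a b)
  rw [hI]
  -- the data of the two forms
  have hdim : finrank F ((Fin m ⊕ Fin m) ⊕ Fin 2 → F) = 2 * (m + 1) := by
    rw [Module.finrank_fintype_fun_eq_card, hcard]
  have h5 : 5 ≤ Fintype.card ((Fin m ⊕ Fin m) ⊕ Fin 2) := by rw [hcard]; omega
  have hQn : Nondeg (minusForm F m a b) := (nondeg_iff _).mp (minusForm_nondeg F m hab)
  have hQ'n : Nondeg (minusForm F m a' b') := (nondeg_iff _).mp (minusForm_nondeg F m hab')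
  obtain ⟨φ, hφ⟩ := exists_isometry_of_nuS m hdim hdim (minusForm F m a b) (minusForm F m a' b')
    hQn hQ'n (-1) (nuS_minusForm m a b hab) (nuS_minusForm m a' b' hab')
  obtain ⟨M₀, hM₀def⟩ : ∃ M₀ : GL ((Fin m ⊕ Fin m) ⊕ Fin 2) F, M₀ = glEquiv.symm φ := ⟨_, rfl⟩
  have hM₀ : ∀ v, minusForm F m a' b'
      ((M₀ : Matrix ((Fin m ⊕ Fin m) ⊕ Fin 2) ((Fin m ⊕ Fin m) ⊕ Fin 2) F) *ᵥ v)
      = minusForm F m a b v := by
    intro v
    rw [← hφ v, ← glEquiv_apply, hM₀def, MulEquiv.apply_symm_apply]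
  have hB2 : 9 ≤ finrank F ((Fin m ⊕ Fin m) ⊕ Fin 2 → F) ∨ NoB2 (minusForm F m a' b') := by
    by_cases h4 : 4 ≤ m
    · left; rw [hdim]; omega
    · right
      obtain rfl : m = 3 := by omega
      exact noB2_minus hab'
  have hsurj' : Function.Surjective (Psi (Q := minusForm F m a' b')) :=
    Psi_surjective hQ'n (by rw [hdim]; omega) p hB2
  have hA := cpAut_congr_iff (minusForm F m a b) (minusForm F m a' b')
    (minusForm_nondeg F m hab) (minusForm_nondeg F m hab')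
    (Cfsg.Agent.S2726.minus_ne (by omega) a b) (Cfsg.Agent.S2726.minus_ne (by omega) a' b')
    (m + 1) (card_idx_minus m) M₀ hM₀ h5 hsurj' ψ
  -- the transported elements
  have hσQ' := minusForm_sigma σ m ha' hb'
  have hx' := eq_PsiM_of_isFieldAut_one (minusForm F m a' b') σ hσQ' (minusForm_nondeg F m hab')
    h5 hfield
  obtain ⟨C, hCdef⟩ : ∃ C : MulAut (Cfsg.POmega F ⇑(minusForm F m a b)) ≃*
      MulAut (Cfsg.POmega F ⇑(minusForm F m a' b')), C = MulAut.congr ψ := ⟨_, rfl⟩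
  have hC : ∀ β, C β = (ψ.symm.trans β).trans ψ := by
    intro β
    rw [hCdef]
    rfl
  have hCx : C x = PsiM (minusForm F m a' b') (minusForm_nondeg F m hab') h5
      (fieldGammaOne (minusForm F m a' b') σ hσQ') := by rw [hC, hx']
  have hσo : orderOf σ = r := by
    rw [← orderOf_PsiM_fieldGammaOne (minusForm F m a' b') σ hσQ' (minusForm_nondeg F m hab')
      h5 p, ← hCx, ← hxr]
    exact MulEquiv.orderOf_eq C x
  have hσr : σ ^ r = 1 := by rw [← hσo, pow_orderOf_eq_one]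
  have hinj : ∀ i j : Fin r, σ ^ (i : ℕ) = σ ^ (j : ℕ) → i = j := by
    intro i j e
    apply Fin.ext
    apply pow_injOn_Iio_orderOf (x := σ) _ _ e
    · rw [hσo]
      exact i.2
    · rw [hσo]
      exact j.2
  have hrodd : Odd r := odd_of_fixed_aniso hF σ hr hσo ha' hb' hab'
  have hrf : r ∣ f := (Cfsg.Agent.Helper8.AutSLn.card_fixField hF σ hr.pos hσo).1
  -- the subfield
  obtain ⟨j, hj1, hj2⟩ := Cfsg.Agent.Helper8.AutSLn.exists_embedding hF σ hr.pos hσo F₀ hF₀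
  obtain ⟨a₀, ha₀⟩ := hj2 a' ha'
  obtain ⟨b₀, hb₀⟩ := hj2 b' hb'
  have hab₀ : ∀ z₁ z₂ : F₀, z₁ ^ 2 + a₀ * z₁ * z₂ + b₀ * z₂ ^ 2 = 0 → z₁ = 0 ∧ z₂ = 0 := by
    intro z₁ z₂ h
    have h1 := congrArg j h
    rw [map_add, map_add, map_pow, map_mul, map_mul, map_mul, map_pow, ha₀, hb₀, map_zero] at h1
    have h3 := hab' _ _ h1
    exact ⟨(map_eq_zero_iff j j.injective).mp h3.1, (map_eq_zero_iff j j.injective).mp h3.2⟩
  have hjQ : ∀ v : (Fin m ⊕ Fin m) ⊕ Fin 2 → F₀,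
      minusForm F m a' b' (hvec j v) = j (minusForm F₀ m a₀ b₀ v) := by
    intro v
    rw [minusForm_apply, minusForm_apply, ← ha₀, ← hb₀]
    unfold Cfsg.quadFormMinus hvec
    simp only [map_add, map_pow, map_sum, map_mul]
  haveI : Nontrivial ((Fin m ⊕ Fin m) ⊕ Fin 2 → F₀) := inferInstance
  -- the images of the subgroups
  have hmapI : (cpAut (minusForm F m a b) (minusForm_nondeg F m hab)
      (Cfsg.Agent.S2726.minus_ne (by omega) a b) (m + 1) (card_idx_minus m)).map C.toMonoidHom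
      = cpAut (minusForm F m a' b') (minusForm_nondeg F m hab')
      (Cfsg.Agent.S2726.minus_ne (by omega) a' b') (m + 1) (card_idx_minus m) := by
    ext β'
    rw [Subgroup.mem_map]
    constructor
    · rintro ⟨β, hβ, rfl⟩
      show C β ∈ _
      rw [hC]
      exact (hA β).mpr hβ
    · intro hβ'
      refine ⟨C.symm β', ?_, C.apply_symm_apply β'⟩
      rw [← hA, ← hC, MulEquiv.apply_symm_apply]
      exact hβ'
  have hmapC : (Subgroup.centralizer {x}).map C.toMonoidHom = Subgroup.centralizer {C x} :=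
    map_centralizer_equiv C x
  have hmapInn : (Cfsg.Inn (Cfsg.POmega F ⇑(minusForm F m a b))).map C.toMonoidHom
      = Cfsg.Inn (Cfsg.POmega F ⇑(minusForm F m a' b')) := by
    rw [hCdef]
    exact map_congr_Inn ψ
  have hCinj : Function.Injective C.toMonoidHom := C.injective
  refine ⟨hrodd, hrf, ⟨a₀, b₀, hab₀, ?_⟩, ?_⟩
  · intro Qf₀ hQf₀
    have e1 := (cpAut (minusForm F m a b) (minusForm_nondeg F m hab)
      (Cfsg.Agent.S2726.minus_ne (by omega) a b) (m + 1) (card_idx_minus m) ⊓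
      Subgroup.centralizer {x}).equivMapOfInjective C.toMonoidHom hCinj
    have e2 : (cpAut (minusForm F m a b) (minusForm_nondeg F m hab)
        (Cfsg.Agent.S2726.minus_ne (by omega) a b) (m + 1) (card_idx_minus m) ⊓
        Subgroup.centralizer {x}).map C.toMonoidHom
        = cpAut (minusForm F m a' b') (minusForm_nondeg F m hab')
          (Cfsg.Agent.S2726.minus_ne (by omega) a' b') (m + 1) (card_idx_minus m) ⊓
          Subgroup.centralizer {PsiM (minusForm F m a' b') (minusForm_nondeg F m hab') h5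
            (fieldGammaOne (minusForm F m a' b') σ hσQ')} := by
      rw [Subgroup.map_inf _ _ _ hCinj, hmapI, hmapC, hCx]
    obtain ⟨E2⟩ := nonempty_centralizer_equiv_cp j (minusForm F₀ m a₀ b₀) (minusForm F m a' b') hjQ
      (minusForm_nondeg F₀ m hab₀) (minusForm_nondeg F m hab')
      (Cfsg.Agent.S2726.minus_ne (by omega) a₀ b₀) (Cfsg.Agent.S2726.minus_ne (by omega) a' b')
      (m + 1) (card_idx_minus m) h5 p σ hσQ' hr.pos hσr hinj hj1 hj2
    obtain ⟨E3⟩ := nonempty_inndiag_equiv_cpAut m (by omega) a₀ b₀ hab₀ Qf₀ hQf₀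
    exact ⟨((e1.trans (MulEquiv.subgroupCongr e2)).trans E2).trans E3⟩
  · rw [Cfsg.Agent.Helper8.SplitClass.splitClassCount_eq_relIndex _ _
      (Inn_le_cpAut (minusForm F m a b) (minusForm_nondeg F m hab)
        (Cfsg.Agent.S2726.minus_ne (by omega) a b) (m + 1) (card_idx_minus m)) x,
      Subgroup.relIndex_eq_one,
      ← Subgroup.map_le_map_iff_of_injective hCinj, Subgroup.map_sup,
      Subgroup.map_inf _ _ _ hCinj, hmapI, hmapC, hmapInn, hCx,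
      ← range_subHomCP j (minusForm F₀ m a₀ b₀) (minusForm F m a' b') hjQ
        (minusForm_nondeg F₀ m hab₀) (minusForm_nondeg F m hab')
        (Cfsg.Agent.S2726.minus_ne (by omega) a₀ b₀) (Cfsg.Agent.S2726.minus_ne (by omega) a' b')
        (m + 1) (card_idx_minus m) h5 p σ hσQ' hr.pos hσr hinj hj1 hj2]
    by_cases h2 : (2 : F) = 0
    · exact le_trans (cpAut_le_Inn_of_char_two (minusForm F m a' b') (minusForm_nondeg F m hab')
        (Cfsg.Agent.S2726.minus_ne (by omega) a' b') (m + 1) (card_idx_minus m) h5 h2) le_sup_left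
    · exact cpAut_le_sup_minus_odd hm h2 j a' b' a₀ b₀ hab' hab₀ hjQ _ _
        (fun c hc => not_isSquare_map_of_odd j σ hrodd hσr hj1 hj2 hc)

end Main

end Cfsg.Agent.Helper8.AutO
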