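import Mathlib
import Cfsg.Agent.Helper8.QuadForm

set_option autoImplicit false

/-!
Commuting involutive isometries of a nondegenerate quadratic space in odd characteristic have an
orthogonal family of common eigenvectors of full size.
-/

namespace Cfsg.Agent.Helper8.EigenOrtho

open Module Cfsg.Agent.Helper8.QuadForm

universe u

variable {F : Type*} [Field F]

/-- in odd characteristic a nondegenerate quadratic space over a finite field has an orthogonal
family `b` of full size with `Q (b i) = c` for `i ≠ 0`. -/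
theorem exists_orthogonal_family_c [Finite F] (h2 : (2 : F) ≠ 0) {c : F} (hc : c ≠ 0) (n : ℕ) :
    ∀ {V : Type u} [AddCommGroup V] [Module F V] [FiniteDimensional F V]
      (Q : QuadraticForm F V), Nondeg Q → finrank F V = n + 1 →
      ∃ b : Fin (n + 1) → V, (∀ i j, i ≠ j → QuadraticMap.polar Q (b i) (b j) = 0) ∧
        Q (b 0) ≠ 0 ∧ ∀ i, i ≠ 0 → Q (b i) = c := by
  induction n with
  | zero =>
    intro V _ _ _ Q hQ hV
    obtain ⟨x, -, -, hx⟩ := ne_zero_of_line Q (W := ⊤) (by rw [finrank_top, hV])
      (fun w _ hw => hQ w (fun w' => hw w' trivial))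
    have hss : ∀ i j : Fin (0 + 1), i = j := fun i j => Fin.ext (by omega)
    refine ⟨fun _ => x, fun i j hij => absurd (hss i j) hij, hx,
      fun i hi => absurd (hss i 0) hi⟩
  | succ n ih =>
    intro V _ _ _ Q hQ hV
    obtain ⟨v, hv⟩ := exists_repr Q hQ (by omega) c
    have hvv : QuadraticMap.polar Q v v ≠ 0 := by
      rw [polar_self', hv]; exact mul_ne_zero h2 hc
    have hdim : finrank F (perpVec Q v) = n + 1 := by
      have := finrank_perpVec Q hvv
      omega
    have hnd : Nondeg (Q.comp (perpVec Q v).subtype) :=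
      (nondeg_comp_subtype_iff Q _).mpr (perpVec_nondeg Q hQ hvv)
    obtain ⟨b', hb1, hb2, hb3⟩ := ih (Q.comp (perpVec Q v).subtype) hnd hdim
    refine ⟨Fin.snoc (fun i => (b' i : V)) v, ?_, ?_, ?_⟩
    · intro i j
      refine Fin.lastCases ?_ (fun i => ?_) i <;> refine Fin.lastCases ?_ (fun j => ?_) j
      · intro h; exact absurd rfl h
      · intro _
        simp only [Fin.snoc_last, Fin.snoc_castSucc]
        exact (mem_perpVec Q v _).mp (b' j).2
      · intro _
        simp only [Fin.snoc_last, Fin.snoc_castSucc]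
        rw [QuadraticMap.polar_comm]
        exact (mem_perpVec Q v _).mp (b' i).2
      · intro hij
        simp only [Fin.snoc_castSucc]
        exact hb1 i j (fun h => hij (by rw [h]))
    · have : (0 : Fin (n + 1 + 1)) = Fin.castSucc (0 : Fin (n + 1)) := rfl
      rw [this, Fin.snoc_castSucc]
      exact hb2
    · intro i
      refine Fin.lastCases ?_ (fun i => ?_) i
      · intro _
        rw [Fin.snoc_last]
        exact hv
      · intro hi
        rw [Fin.snoc_castSucc]
        exact hb3 i (fun h => hi (by rw [h]; rfl))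

variable {V : Type u} [AddCommGroup V] [Module F V]

/-- a set of commuting involutive isometries. -/
structure InvSet (Q : QuadraticForm F V) (𝒜 : Set (V →ₗ[F] V)) : Prop where
  inv : ∀ a ∈ 𝒜, ∀ x, a (a x) = x
  comm : ∀ a ∈ 𝒜, ∀ b ∈ 𝒜, ∀ x, a (b x) = b (a x)
  isom : ∀ a ∈ 𝒜, ∀ x, Q (a x) = Q x

variable {Q : QuadraticForm F V} {𝒜 : Set (V →ₗ[F] V)}

theorem InvSet.polar_eq (h : InvSet Q 𝒜) {a : V →ₗ[F] V} (ha : a ∈ 𝒜) (x y : V) :
    QuadraticMap.polar Q (a x) (a y) = QuadraticMap.polar Q x y := by
  unfold QuadraticMap.polar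
  rw [← map_add, h.isom a ha, h.isom a ha, h.isom a ha]

/-- the eigenspaces of `a` inside `W`. -/
def eig (W : Submodule F V) (a : V →ₗ[F] V) (s : F) : Submodule F V :=
  W ⊓ LinearMap.ker (a - s • LinearMap.id)

theorem mem_eig {W : Submodule F V} {a : V →ₗ[F] V} {s : F} {x : V} :
    x ∈ eig W a s ↔ x ∈ W ∧ a x = s • x := by
  unfold eig
  rw [Submodule.mem_inf, LinearMap.mem_ker, LinearMap.sub_apply, LinearMap.smul_apply,
    LinearMap.id_apply, sub_eq_zero]

theorem exists_eigen_list [Finite F] [FiniteDimensional F V] (h2 : (2 : F) ≠ 0)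
    (h : InvSet Q 𝒜) :
    ∀ (n : ℕ) (W : Submodule F V), finrank F W = n → (∀ a ∈ 𝒜, ∀ w ∈ W, a w ∈ W) →
      NondegOn Q W →
      ∃ l : List V, l.length = n ∧ (∀ v ∈ l, v ∈ W) ∧
        l.Pairwise (fun u w => QuadraticMap.polar Q u w = 0) ∧ (∀ v ∈ l, Q v ≠ 0) ∧
        ∀ v ∈ l, ∀ a ∈ 𝒜, a v = v ∨ a v = -v := by
  intro n
  induction n using Nat.strong_induction_on with
  | _ n ih =>
    intro W hfin hinv hW
    rcases Nat.eq_zero_or_pos n with rfl | hn
    · exact ⟨[], rfl, by simp, List.Pairwise.nil, by simp, by simp⟩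
    by_cases hA : ∀ a ∈ 𝒜, (∀ w ∈ W, a w = w) ∨ (∀ w ∈ W, a w = -w)
    · -- all scalar
      obtain ⟨m, rfl⟩ : ∃ m, n = m + 1 := ⟨n - 1, by omega⟩
      obtain ⟨b, hb1, hb2, hb3⟩ := exists_orthogonal_family h2 m (Q.comp W.subtype)
        ((nondeg_comp_subtype_iff Q W).mpr hW) hfin
      refine ⟨List.ofFn (fun i => (b i : V)), List.length_ofFn, ?_, ?_, ?_, ?_⟩
      · intro v hv
        obtain ⟨i, rfl⟩ := (List.mem_ofFn' _ _).mp hv
        exact (b i).2
      · rw [List.pairwise_ofFn]
        intro i j hij
        exact hb1 i j (ne_of_lt hij)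
      · intro v hv
        obtain ⟨i, rfl⟩ := (List.mem_ofFn' _ _).mp hv
        by_cases hi : i = 0
        · rw [hi]; exact hb2
        · have := hb3 i hi
          have e : Q (b i : V) = 1 := this
          rw [e]; exact one_ne_zero
      · intro v hv a ha
        obtain ⟨i, rfl⟩ := (List.mem_ofFn' _ _).mp hv
        rcases hA a ha with h1 | h1
        · exact Or.inl (h1 _ (b i).2)
        · exact Or.inr (h1 _ (b i).2)
    · push Not at hA
      obtain ⟨a, ha, ⟨w1, hw1, hne1⟩, ⟨w2, hw2, hne2⟩⟩ := hA
      have hmemP : ∀ x, x ∈ eig W a 1 ↔ x ∈ W ∧ a x = x := by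
        intro x; rw [mem_eig, one_smul]
      have hmemM : ∀ x, x ∈ eig W a (-1) ↔ x ∈ W ∧ a x = -x := by
        intro x; rw [mem_eig, neg_one_smul]
      have h2' : (2 : F)⁻¹ * 2 = 1 := inv_mul_cancel₀ h2
      -- decomposition
      have hsup : eig W a 1 ⊔ eig W a (-1) = W := by
        apply le_antisymm
        · exact sup_le inf_le_left inf_le_left
        · intro w hw
          have e : w = (2 : F)⁻¹ • (w + a w) + (2 : F)⁻¹ • (w - a w) := by
            rw [← smul_add, show w + a w + (w - a w) = (2 : F) • w by rw [two_smul]; abel,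
              smul_smul, h2', one_smul]
          rw [e]
          apply Submodule.add_mem_sup
          · apply Submodule.smul_mem
            rw [hmemP]
            refine ⟨W.add_mem hw (hinv a ha w hw), ?_⟩
            rw [map_add, h.inv a ha, add_comm]
          · apply Submodule.smul_mem
            rw [hmemM]
            refine ⟨W.sub_mem hw (hinv a ha w hw), ?_⟩
            rw [map_sub, h.inv a ha]; abel
      have hinf : eig W a 1 ⊓ eig W a (-1) = ⊥ := by
        rw [eq_bot_iff]
        intro x hx
        rw [Submodule.mem_inf, hmemP, hmemM] at hx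
        obtain ⟨⟨_, e1⟩, ⟨_, e2⟩⟩ := hx
        rw [Submodule.mem_bot]
        have : (2 : F) • x = 0 := by
          rw [two_smul]
          nth_rewrite 1 [← e1]
          rw [e2]; abel
        rcases smul_eq_zero.mp this with h0 | h0
        · exact absurd h0 h2
        · exact h0
      have horth : ∀ x ∈ eig W a 1, ∀ y ∈ eig W a (-1), QuadraticMap.polar Q x y = 0 := by
        intro x hx y hy
        rw [hmemP] at hx
        rw [hmemM] at hy
        have e := h.polar_eq ha x y
        rw [hx.2, hy.2, QuadraticMap.polar_neg_right] at e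
        have : (2 : F) * QuadraticMap.polar Q x y = 0 := by linear_combination -e
        rcases mul_eq_zero.mp this with h0 | h0
        · exact absurd h0 h2
        · exact h0
      have hinvP : ∀ b ∈ 𝒜, ∀ x ∈ eig W a 1, b x ∈ eig W a 1 := by
        intro b hb x hx
        rw [hmemP] at hx ⊢
        exact ⟨hinv b hb x hx.1, by rw [h.comm a ha b hb, hx.2]⟩
      have hinvM : ∀ b ∈ 𝒜, ∀ x ∈ eig W a (-1), b x ∈ eig W a (-1) := by
        intro b hb x hx
        rw [hmemM] at hx ⊢
        exact ⟨hinv b hb x hx.1, by rw [h.comm a ha b hb, hx.2, map_neg]⟩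
      have hndP : NondegOn Q (eig W a 1) := by
        intro x hx hxx
        apply hW x ((hmemP x).mp hx).1
        intro w hw
        rw [← hsup] at hw
        obtain ⟨p, hp, m, hm, rfl⟩ := Submodule.mem_sup.mp hw
        rw [QuadraticMap.polar_add_right, hxx p hp, horth x hx m hm, add_zero]
      have hndM : NondegOn Q (eig W a (-1)) := by
        intro x hx hxx
        apply hW x ((hmemM x).mp hx).1
        intro w hw
        rw [← hsup] at hw
        obtain ⟨p, hp, m, hm, rfl⟩ := Submodule.mem_sup.mp hw
        rw [QuadraticMap.polar_add_right, hxx m hm, QuadraticMap.polar_comm, horth p hp x hx,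
          add_zero]
      have hdim : finrank F (eig W a 1) + finrank F (eig W a (-1)) = n := by
        have := Submodule.finrank_sup_add_finrank_inf_eq (eig W a 1) (eig W a (-1))
        rw [hsup, hinf, finrank_bot, add_zero, hfin] at this
        exact this.symm
      have hposM : 0 < finrank F (eig W a (-1)) := by
        rw [Module.finrank_pos_iff_exists_ne_zero]
        refine ⟨⟨w1 - a w1, ?_⟩, ?_⟩
        · rw [hmemM]
          refine ⟨W.sub_mem hw1 (hinv a ha w1 hw1), ?_⟩
          rw [map_sub, h.inv a ha]; abel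
        · intro e
          apply hne1
          have := congrArg Subtype.val e
          simp only [ZeroMemClass.coe_zero] at this
          exact (sub_eq_zero.mp this).symm
      have hposP : 0 < finrank F (eig W a 1) := by
        rw [Module.finrank_pos_iff_exists_ne_zero]
        refine ⟨⟨w2 + a w2, ?_⟩, ?_⟩
        · rw [hmemP]
          refine ⟨W.add_mem hw2 (hinv a ha w2 hw2), ?_⟩
          rw [map_add, h.inv a ha, add_comm]
        · intro e
          apply hne2
          have := congrArg Subtype.val e
          simp only [ZeroMemClass.coe_zero] at this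
          exact eq_neg_of_add_eq_zero_right this
      obtain ⟨l1, hl1, hm1, hp1, hq1, he1⟩ := ih _ (by omega) (eig W a 1) rfl hinvP hndP
      obtain ⟨l2, hl2, hm2, hp2, hq2, he2⟩ := ih _ (by omega) (eig W a (-1)) rfl hinvM hndM
      refine ⟨l1 ++ l2, by rw [List.length_append, hl1, hl2, hdim], ?_, ?_, ?_, ?_⟩
      · intro v hv
        rcases List.mem_append.mp hv with hv | hv
        · exact ((hmemP v).mp (hm1 v hv)).1
        · exact ((hmemM v).mp (hm2 v hv)).1
      · rw [List.pairwise_append]
        exact ⟨hp1, hp2, fun x hx y hy => horth x (hm1 x hx) y (hm2 y hy)⟩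
      · intro v hv
        rcases List.mem_append.mp hv with hv | hv
        · exact hq1 v hv
        · exact hq2 v hv
      · intro v hv
        rcases List.mem_append.mp hv with hv | hv
        · exact he1 v hv
        · exact he2 v hv

end Cfsg.Agent.Helper8.EigenOrtho
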