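import Mathlib
import Cfsg.Agent.Helper8.EigenOrtho

set_option autoImplicit false

/-!
# Involutory graph automorphisms of orthogonal groups, part A: linear algebra

For an involutive isometry of a nondegenerate quadratic space over a finite field of odd
characteristic there are two nonsingular eigenvectors whose norms multiply to a nonsquare; for a
self-adjoint operator `a` with `a² = μ` a nonsquare scalar there is a nonsingular vector `v`
orthogonal to `a v`.
-/

namespace Cfsg.Agent.Helper8.GrInv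

open Module Cfsg.Agent.Helper8.QuadForm Cfsg.Agent.Helper8.EigenOrtho

universe u

section Binary

variable {K : Type*} [Field K] [Fintype K]

/-- a binary diagonal form over a finite field of odd order is universal. -/
theorem exists_binary (hodd : Fintype.card K % 2 = 1) {a b : K} (ha : a ≠ 0) (hb : b ≠ 0) (c : K) :
    ∃ x y : K, a * x ^ 2 + b * y ^ 2 = c := by
  obtain ⟨x, y, hxy⟩ := FiniteField.exists_root_sum_quadratic
    (f := Polynomial.C a * Polynomial.X ^ 2)
    (g := Polynomial.C b * Polynomial.X ^ 2 - Polynomial.C c)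
    (by rw [Polynomial.degree_C_mul_X_pow 2 ha]; rfl)
    (by
      rw [Polynomial.degree_sub_C]
      · rw [Polynomial.degree_C_mul_X_pow 2 hb]; rfl
      · rw [Polynomial.degree_C_mul_X_pow 2 hb]; decide) hodd
  simp only [Polynomial.eval_mul, Polynomial.eval_C, Polynomial.eval_pow, Polynomial.eval_X,
    Polynomial.eval_sub] at hxy
  exact ⟨x, y, by linear_combination hxy⟩

end Binary

section CaseA

variable {F : Type*} [Field F] [Fintype F] {V : Type u} [AddCommGroup V] [Module F V]

theorem card_odd_of_two_ne (h2 : (2 : F) ≠ 0) : Fintype.card F % 2 = 1 := by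
  apply FiniteField.odd_card_of_char_ne_two
  intro h
  apply h2
  have : CharP F 2 := ringChar.of_eq h
  exact_mod_cast CharP.cast_eq_zero F 2

theorem exists_nonsq (h2 : (2 : F) ≠ 0) : ∃ e : F, ¬ IsSquare e := by
  apply FiniteField.exists_nonsquare
  intro h
  apply h2
  have : CharP F 2 := ringChar.of_eq h
  exact_mod_cast CharP.cast_eq_zero F 2

/-- two orthogonal nonsingular eigenvectors with the same eigenvalue `±1` give a pair of
eigenvectors whose norms multiply to a nonsquare. -/
theorem pair_of_same (h2 : (2 : F) ≠ 0) (Q : QuadraticForm F V) (a : V →ₗ[F] V) {u w : V}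
    (huw : QuadraticMap.polar Q u w = 0) (hu : Q u ≠ 0) (hw : Q w ≠ 0)
    (h : (a u = u ∧ a w = w) ∨ (a u = -u ∧ a w = -w)) :
    ∃ v v' : V, Q v ≠ 0 ∧ Q v' ≠ 0 ∧ ¬ IsSquare (Q v * Q v') ∧ (a v = v ∨ a v = -v) ∧
      (a v' = v' ∨ a v' = -v') := by
  obtain ⟨e, he⟩ := exists_nonsq h2
  have he0 : e ≠ 0 := by
    rintro rfl
    exact he ⟨0, by ring⟩
  obtain ⟨x, y, hxy⟩ := exists_binary (card_odd_of_two_ne h2) hu hw (e * Q u)
  have hQv' : Q (x • u + y • w) = e * Q u := by
    rw [QuadraticMap.map_add Q, QuadraticMap.map_smul, QuadraticMap.map_smul,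
      QuadraticMap.polar_smul_left, QuadraticMap.polar_smul_right, huw, smul_eq_mul, smul_eq_mul,
      smul_eq_mul, smul_eq_mul]
    linear_combination hxy
  refine ⟨u, x • u + y • w, hu, ?_, ?_, ?_, ?_⟩
  · rw [hQv']
    exact mul_ne_zero he0 hu
  · rw [hQv']
    rintro ⟨r, hr⟩
    apply he
    refine ⟨r / Q u, ?_⟩
    field_simp
    linear_combination hr
  · rcases h with h | h
    · exact Or.inl h.1
    · exact Or.inr h.1
  · rcases h with h | h
    · left
      rw [map_add, map_smul, map_smul, h.1, h.2]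
    · right
      rw [map_add, map_smul, map_smul, h.1, h.2]
      simp only [smul_neg, neg_add]

variable [FiniteDimensional F V]

/-- **an involutive isometry has two nonsingular eigenvectors whose norms multiply to a
nonsquare** (dimension at least three). -/
theorem exists_eigen_pair (h2 : (2 : F) ≠ 0) (Q : QuadraticForm F V) (hQ : Nondeg Q)
    (hdim : 3 ≤ finrank F V) (a : V →ₗ[F] V) (ha2 : ∀ x, a (a x) = x)
    (haQ : ∀ x, Q (a x) = Q x) :
    ∃ v v' : V, Q v ≠ 0 ∧ Q v' ≠ 0 ∧ ¬ IsSquare (Q v * Q v') ∧ (a v = v ∨ a v = -v) ∧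
      (a v' = v' ∨ a v' = -v') := by
  have hinv : InvSet Q ({a} : Set (V →ₗ[F] V)) := by
    refine ⟨?_, ?_, ?_⟩
    · intro b hb x
      rw [Set.mem_singleton_iff] at hb
      subst hb
      exact ha2 x
    · intro b hb c hc x
      rw [Set.mem_singleton_iff] at hb hc
      subst hb
      subst hc
      rfl
    · intro b hb x
      rw [Set.mem_singleton_iff] at hb
      subst hb
      exact haQ x
  have hnd : NondegOn Q ⊤ := fun w _ hw => hQ w (fun w' => hw w' trivial)
  obtain ⟨l, hlen, -, hpw, hns, heig⟩ := exists_eigen_list h2 hinv (finrank F V) ⊤ (finrank_top F V)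
    (fun _ _ _ _ => trivial) hnd
  obtain ⟨v₁, v₂, v₃, t, rfl⟩ : ∃ v₁ v₂ v₃ t, l = v₁ :: v₂ :: v₃ :: t := by
    match l, hlen with
    | v₁ :: v₂ :: v₃ :: t, _ => exact ⟨v₁, v₂, v₃, t, rfl⟩
    | [], h => simp at h; omega
    | [_], h => simp at h; omega
    | [_, _], h => simp at h; omega
  rw [List.pairwise_cons, List.pairwise_cons] at hpw
  obtain ⟨h1, h2', -⟩ := hpw
  have h12 := h1 v₂ (by simp)
  have h13 := h1 v₃ (by simp)
  have h23 := h2' v₃ (by simp)
  have hn1 := hns v₁ (by simp)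
  have hn2 := hns v₂ (by simp)
  have hn3 := hns v₃ (by simp)
  have he1 := heig v₁ (by simp) a rfl
  have he2 := heig v₂ (by simp) a rfl
  have he3 := heig v₃ (by simp) a rfl
  rcases he1 with e1 | e1 <;> rcases he2 with e2 | e2 <;> rcases he3 with e3 | e3
  · exact pair_of_same h2 Q a h12 hn1 hn2 (Or.inl ⟨e1, e2⟩)
  · exact pair_of_same h2 Q a h12 hn1 hn2 (Or.inl ⟨e1, e2⟩)
  · exact pair_of_same h2 Q a h13 hn1 hn3 (Or.inl ⟨e1, e3⟩)
  · exact pair_of_same h2 Q a h23 hn2 hn3 (Or.inr ⟨e2, e3⟩)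
  · exact pair_of_same h2 Q a h23 hn2 hn3 (Or.inl ⟨e2, e3⟩)
  · exact pair_of_same h2 Q a h13 hn1 hn3 (Or.inr ⟨e1, e3⟩)
  · exact pair_of_same h2 Q a h12 hn1 hn2 (Or.inr ⟨e1, e2⟩)
  · exact pair_of_same h2 Q a h12 hn1 hn2 (Or.inr ⟨e1, e2⟩)

end CaseA

end Cfsg.Agent.Helper8.GrInv
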