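import Mathlib
import Cfsg.Agent.Helper8.GrInvA

set_option autoImplicit false
set_option linter.style.haveILetI false

/-!
# Involutory graph automorphisms of orthogonal groups, part B: a self-adjoint operator `a` with
`a² = μ` a nonsquare scalar has a nonsingular vector `v` orthogonal to `a v`

The space is a vector space over `K = F(√μ)` and carries a `K`-valued symmetric bilinear form;
a binary diagonal form over the finite field `K` is universal.
-/

namespace Cfsg.Agent.Helper8.GrInv

open Module Cfsg.Agent.Helper8.QuadForm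

universe u

section CaseB

variable {F : Type*} [Field F] [Fintype F] {V : Type u} [AddCommGroup V] [Module F V]
  [FiniteDimensional F V]

/-- a nonsingular vector orthogonal to two given vectors `u`, `u'` where `u` is nonsingular. -/
theorem exists_perp_two (Q : QuadraticForm F V) (hQ : Nondeg Q) (hdim : 4 ≤ finrank F V)
    {u u' : V} (hu : QuadraticMap.polar Q u u ≠ 0)
    (hu' : QuadraticMap.polar Q u u' = 0) (hu'2 : QuadraticMap.polar Q u' u' ≠ 0) :
    ∃ z : V, Q z = 1 ∧ QuadraticMap.polar Q u z = 0 ∧ QuadraticMap.polar Q u' z = 0 := by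
  have hnd1 : Nondeg (Q.comp (perpVec Q u).subtype) :=
    (nondeg_comp_subtype_iff Q _).mpr (perpVec_nondeg Q hQ hu)
  have hdim1 : finrank F (perpVec Q u) + 1 = finrank F V := finrank_perpVec Q hu
  obtain ⟨v₁, hv₁⟩ : ∃ v₁ : ↥(perpVec Q u), (v₁ : V) = u' :=
    ⟨⟨u', (mem_perpVec Q u u').mpr hu'⟩, rfl⟩
  have hv₁v₁ : QuadraticMap.polar (Q.comp (perpVec Q u).subtype) v₁ v₁ ≠ 0 := by
    rw [polar_comp_subtype, hv₁]
    exact hu'2
  have hnd2 : Nondeg ((Q.comp (perpVec Q u).subtype).comp
      (perpVec (Q.comp (perpVec Q u).subtype) v₁).subtype) :=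
    (nondeg_comp_subtype_iff _ _).mpr (perpVec_nondeg _ hnd1 hv₁v₁)
  have hdim2 : finrank F (perpVec (Q.comp (perpVec Q u).subtype) v₁) + 1
      = finrank F (perpVec Q u) := finrank_perpVec _ hv₁v₁
  obtain ⟨z, hz⟩ := exists_repr _ hnd2 (by omega) (1 : F)
  refine ⟨((z : ↥(perpVec Q u)) : V), hz, ?_, ?_⟩
  · exact (mem_perpVec Q u _).mp (z : ↥(perpVec Q u)).2
  · have := (mem_perpVec (Q.comp (perpVec Q u).subtype) v₁ _).mp z.2
    rw [polar_comp_subtype, hv₁] at this
    exact this

/-- **a self-adjoint operator squaring to a nonsquare scalar has a nonsingular vector orthogonal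
to its image.** -/
theorem exists_perp_image (h2 : (2 : F) ≠ 0) (Q : QuadraticForm F V) (hQ : Nondeg Q)
    (hdim : 4 ≤ finrank F V) (a : V →ₗ[F] V) (μ : F) (hμ : ∀ r : F, r ^ 2 ≠ μ)
    (ha2 : ∀ x, a (a x) = μ • x)
    (hsa : ∀ x y, QuadraticMap.polar Q (a x) y = QuadraticMap.polar Q x (a y)) :
    ∃ v, Q v ≠ 0 ∧ QuadraticMap.polar Q v (a v) = 0 := by
  have hμ0 : μ ≠ 0 := by
    rintro rfl
    exact hμ 0 (by ring)
  haveI : Fact (∀ r : F, r ^ 2 ≠ μ + 0 * r) := ⟨fun r => by rw [zero_mul, add_zero]; exact hμ r⟩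
  letI : Fintype (QuadraticAlgebra F μ 0) :=
    Fintype.ofEquiv _ (QuadraticAlgebra.equivProd μ 0).symm
  have hcardK : Fintype.card (QuadraticAlgebra F μ 0) % 2 = 1 := by
    rw [Fintype.card_congr (QuadraticAlgebra.equivProd μ 0), Fintype.card_prod, Nat.mul_mod,
      card_odd_of_two_ne h2]
  -- the `K`-valued form and the action of `K`
  obtain ⟨bet, hbet⟩ : ∃ bet : V → V → QuadraticAlgebra F μ 0, ∀ x y,
      bet x y = ⟨QuadraticMap.polar Q x y, QuadraticMap.polar Q x (a y) / μ⟩ := ⟨_, fun _ _ => rfl⟩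
  obtain ⟨act, hact⟩ : ∃ act : QuadraticAlgebra F μ 0 → V → V, ∀ κ x,
      act κ x = κ.re • x + κ.im • a x := ⟨_, fun _ _ => rfl⟩
  have hsymm : ∀ x y, bet x y = bet y x := by
    intro x y
    rw [hbet, hbet]
    apply QuadraticAlgebra.ext
    · exact QuadraticMap.polar_comm Q x y
    · show QuadraticMap.polar Q x (a y) / μ = QuadraticMap.polar Q y (a x) / μ
      rw [← hsa y x, QuadraticMap.polar_comm Q (a y) x]
  have haddl : ∀ x x' y, bet (x + x') y = bet x y + bet x' y := by
    intro x x' y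
    rw [hbet, hbet, hbet]
    apply QuadraticAlgebra.ext
    · show QuadraticMap.polar Q (x + x') y = QuadraticMap.polar Q x y + QuadraticMap.polar Q x' y
      exact QuadraticMap.polar_add_left Q x x' y
    · show QuadraticMap.polar Q (x + x') (a y) / μ
        = QuadraticMap.polar Q x (a y) / μ + QuadraticMap.polar Q x' (a y) / μ
      rw [QuadraticMap.polar_add_left, add_div]
  have hactl : ∀ κ x y, bet (act κ x) y = κ * bet x y := by
    intro κ x y
    rw [hbet, hbet, hact]
    apply QuadraticAlgebra.ext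
    · show QuadraticMap.polar Q (κ.re • x + κ.im • a x) y
        = κ.re * QuadraticMap.polar Q x y + μ * κ.im * (QuadraticMap.polar Q x (a y) / μ)
      rw [QuadraticMap.polar_add_left, QuadraticMap.polar_smul_left, QuadraticMap.polar_smul_left,
        hsa, smul_eq_mul, smul_eq_mul]
      field_simp
    · show QuadraticMap.polar Q (κ.re • x + κ.im • a x) (a y) / μ
        = κ.re * (QuadraticMap.polar Q x (a y) / μ) + κ.im * QuadraticMap.polar Q x y
          + 0 * κ.im * (QuadraticMap.polar Q x (a y) / μ)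
      rw [QuadraticMap.polar_add_left, QuadraticMap.polar_smul_left, QuadraticMap.polar_smul_left,
        hsa x (a y), ha2, QuadraticMap.polar_smul_right, smul_eq_mul, smul_eq_mul, smul_eq_mul]
      field_simp
      ring
  have hactlr : ∀ κ κ' x y, bet (act κ x) (act κ' y) = κ * κ' * bet x y := by
    intro κ κ' x y
    rw [hactl, hsymm, hactl, hsymm]
    ring
  -- two `bet`-orthogonal nonsingular vectors
  obtain ⟨u₁, hu₁⟩ := exists_repr Q hQ (by omega) (1 : F)
  have hp₁ : QuadraticMap.polar Q u₁ u₁ = 2 := by rw [polar_self', hu₁, mul_one]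
  have hp₁0 : QuadraticMap.polar Q u₁ u₁ ≠ 0 := by rw [hp₁]; exact h2
  obtain ⟨s, hs⟩ : ∃ s : F, s = QuadraticMap.polar Q u₁ (a u₁) := ⟨_, rfl⟩
  have hQa : ∀ x y, QuadraticMap.polar Q (a x) (a y) = μ * QuadraticMap.polar Q x y := by
    intro x y
    rw [hsa, ha2, QuadraticMap.polar_smul_right, smul_eq_mul]
  obtain ⟨u', hu'⟩ : ∃ u' : V, u' = a u₁ - (s / 2) • u₁ := ⟨_, rfl⟩
  have hu'1 : QuadraticMap.polar Q u₁ u' = 0 := by
    rw [hu', QuadraticMap.polar_sub_right, QuadraticMap.polar_smul_right, hp₁, ← hs, smul_eq_mul]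
    field_simp
    ring
  have hu'2 : QuadraticMap.polar Q u' u' ≠ 0 := by
    have e : QuadraticMap.polar Q u' u' = 2 * μ - s ^ 2 / 2 := by
      rw [hu', QuadraticMap.polar_sub_left, QuadraticMap.polar_sub_right,
        QuadraticMap.polar_sub_right, QuadraticMap.polar_smul_left, QuadraticMap.polar_smul_left,
        QuadraticMap.polar_smul_right, QuadraticMap.polar_smul_right, hQa, hp₁,
        QuadraticMap.polar_comm Q (a u₁) u₁, ← hs, smul_eq_mul, smul_eq_mul, smul_eq_mul]
      field_simp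
      ring
    rw [e]
    intro h0
    apply hμ (s / 2)
    field_simp
    field_simp at h0
    linear_combination -h0
  obtain ⟨u₂, hu₂, h12, h1'2⟩ := exists_perp_two Q hQ hdim hp₁0 hu'1 hu'2
  have hp₂ : QuadraticMap.polar Q u₂ u₂ = 2 := by rw [polar_self', hu₂, mul_one]
  have ha12 : QuadraticMap.polar Q (a u₁) u₂ = 0 := by
    have : a u₁ = u' + (s / 2) • u₁ := by rw [hu']; abel
    rw [this, QuadraticMap.polar_add_left, QuadraticMap.polar_smul_left, h12, h1'2, smul_zero,
      add_zero]
  have hb12 : bet u₁ u₂ = 0 := by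
    rw [hbet]
    apply QuadraticAlgebra.ext
    · exact h12
    · show QuadraticMap.polar Q u₁ (a u₂) / μ = 0
      rw [← hsa, ha12, zero_div]
  have hw₁ : bet u₁ u₁ ≠ 0 := by
    intro h
    have := congrArg QuadraticAlgebra.re h
    rw [hbet] at this
    exact hp₁0 this
  have hw₂ : bet u₂ u₂ ≠ 0 := by
    intro h
    have := congrArg QuadraticAlgebra.re h
    rw [hbet] at this
    apply h2
    rw [← hp₂]
    exact this
  obtain ⟨x, y, hxy⟩ := exists_binary hcardK hw₁ hw₂ (1 : QuadraticAlgebra F μ 0)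
  obtain ⟨v, hv⟩ : ∃ v : V, v = act x u₁ + act y u₂ := ⟨_, rfl⟩
  have hvv : bet v v = 1 := by
    have haddr : ∀ x' y' y'', bet x' (y' + y'') = bet x' y' + bet x' y'' := by
      intro x' y' y''
      rw [hsymm, haddl, hsymm y' x', hsymm y'' x']
    rw [hv, haddl, haddr, haddr, hactlr, hactlr, hactlr, hactlr, hsymm u₂ u₁, hb12]
    linear_combination hxy
  have hre := congrArg QuadraticAlgebra.re hvv
  have him := congrArg QuadraticAlgebra.im hvv
  rw [hbet] at hre him
  have hre' : QuadraticMap.polar Q v v = 1 := hre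
  have him' : QuadraticMap.polar Q v (a v) / μ = 0 := him
  refine ⟨v, ?_, ?_⟩
  · intro h0
    rw [polar_self', h0, mul_zero] at hre'
    exact zero_ne_one hre'
  · rcases div_eq_zero_iff.mp him' with h | h
    · exact h
    · exact absurd h hμ0

end CaseB

end Cfsg.Agent.Helper8.GrInv
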