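import Mathlib
import Cfsg.Agent.Helper8.GrInvB

set_option autoImplicit false

/-!
# Involutory graph automorphisms of orthogonal groups, part C: a skew-adjoint matrix `M` with
`M² = μ` has determinant `(-μ)^k` in dimension `2k`
-/

namespace Cfsg.Agent.Helper8.GrInv

open Module Matrix Polynomial

section Skew

variable {F : Type*} [Field F] {ι : Type} [Fintype ι] [DecidableEq ι]

/-- the matrix form of adjointness relations. -/
theorem transpose_mul_gram (Q : QuadraticForm F (ι → F)) (M : Matrix ι ι F) (ε : F)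
    (h : ∀ x y, QuadraticMap.polar Q (M *ᵥ x) y = ε * QuadraticMap.polar Q x (M *ᵥ y)) :
    Mᵀ * LinearMap.BilinForm.toMatrix' (QuadraticMap.polarBilin Q)
      = ε • (LinearMap.BilinForm.toMatrix' (QuadraticMap.polarBilin Q) * M) := by
  obtain ⟨B, hB⟩ : ∃ B : LinearMap.BilinForm F (ι → F), B = QuadraticMap.polarBilin Q := ⟨_, rfl⟩
  rw [← hB]
  have hcomp : B.compLeft (Matrix.toLin' M) = ε • B.compRight (Matrix.toLin' M) := by
    refine LinearMap.ext fun x => LinearMap.ext fun y => ?_
    rw [hB]
    show QuadraticMap.polar Q (Matrix.toLin' M x) y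
      = ε * QuadraticMap.polar Q x (Matrix.toLin' M y)
    rw [Matrix.toLin'_apply, Matrix.toLin'_apply]
    exact h x y
  have hmat := congrArg LinearMap.BilinForm.toMatrix' hcomp
  rw [LinearMap.BilinForm.toMatrix'_compLeft, map_smul,
    LinearMap.BilinForm.toMatrix'_compRight, LinearMap.toMatrix'_toLin'] at hmat
  exact hmat

/-- **a skew-adjoint matrix squaring to the scalar `μ` has determinant `(-μ)^k`.** -/
theorem det_of_skew (Q : QuadraticForm F (ι → F)) (hQ : (QuadraticMap.polarBilin Q).Nondegenerate)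
    (h2 : (2 : F) ≠ 0) (M : Matrix ι ι F) (μ : F) (hM2 : M * M = μ • (1 : Matrix ι ι F))
    (hskew : ∀ x y, QuadraticMap.polar Q (M *ᵥ x) y = - QuadraticMap.polar Q x (M *ᵥ y))
    (k : ℕ) (hk : Fintype.card ι = 2 * k) : M.det = (-μ) ^ k := by
  obtain ⟨J, hJ⟩ : ∃ J : Matrix ι ι F,
      J = LinearMap.BilinForm.toMatrix' (QuadraticMap.polarBilin Q) := ⟨_, rfl⟩
  have hJdet : J.det ≠ 0 := by
    rw [hJ, ← Matrix.nondegenerate_iff_det_ne_zero,
      LinearMap.BilinForm.nondegenerate_toMatrix'_iff]
    exact hQ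
  have hMJ : Mᵀ * J = -(J * M) := by
    have := transpose_mul_gram Q M (-1) (fun x y => by rw [hskew, neg_one_mul])
    rw [← hJ] at this
    rw [this, neg_one_smul]
  -- over the polynomial ring
  obtain ⟨A, hA⟩ : ∃ A : Matrix ι ι F[X], A = Matrix.scalar ι (X : F[X]) + M.map C := ⟨_, rfl⟩
  obtain ⟨A', hA'⟩ : ∃ A' : Matrix ι ι F[X], A' = Matrix.scalar ι (X : F[X]) - M.map C := ⟨_, rfl⟩
  have hmapmul : ∀ N N' : Matrix ι ι F, (N * N').map C = N.map C * N'.map (C : F →+* F[X]) := by
    intro N N'
    exact Matrix.map_mul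
  have h1 : Aᵀ * J.map C = J.map C * A' := by
    rw [hA, hA', Matrix.transpose_add, Matrix.add_mul, Matrix.mul_sub, ← Matrix.transpose_map,
      ← hmapmul, hMJ]
    have e1 : (Matrix.scalar ι (X : F[X]))ᵀ = Matrix.scalar ι (X : F[X]) := by
      rw [Matrix.scalar_apply, Matrix.diagonal_transpose]
    have e2 : Matrix.scalar ι (X : F[X]) * J.map C = J.map C * Matrix.scalar ι (X : F[X]) :=
      (Matrix.scalar_commute _ (fun r' => Commute.all _ _) _)
    have e3 : (-(J * M)).map (C : F →+* F[X]) = -(J.map C * M.map C) := by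
      rw [← hmapmul]
      ext i j
      rw [Matrix.map_apply, Matrix.neg_apply, Matrix.neg_apply, Matrix.map_apply, map_neg]
    rw [e1, e2, sub_eq_add_neg, e3]
  have h2' : A' * A = Matrix.scalar ι ((X : F[X]) ^ 2 - C μ) := by
    rw [hA, hA']
    have e2 : Matrix.scalar ι (X : F[X]) * M.map C = M.map C * Matrix.scalar ι (X : F[X]) :=
      (Matrix.scalar_commute _ (fun r' => Commute.all _ _) _)
    rw [Matrix.sub_mul, Matrix.mul_add, Matrix.mul_add, e2, ← hmapmul, hM2]
    have e3 : (μ • (1 : Matrix ι ι F)).map C = Matrix.scalar ι (C μ : F[X]) := by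
      ext i j
      simp [Matrix.map_apply, Matrix.one_apply, Matrix.scalar_apply, Matrix.diagonal_apply]
      split_ifs <;> simp
    rw [e3, ← map_mul, ← pow_two, map_sub]
    abel
  have h3 : Aᵀ * J.map C * A = J.map C * Matrix.scalar ι ((X : F[X]) ^ 2 - C μ) := by
    rw [h1, Matrix.mul_assoc, h2']
  have hdet := congrArg Matrix.det h3
  have hJ'det : (J.map (C : F →+* F[X])).det = C J.det := by
    rw [← RingHom.mapMatrix_apply, ← RingHom.map_det]
  rw [Matrix.det_mul, Matrix.det_mul, Matrix.det_transpose, Matrix.det_mul, hJ'det,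
    Matrix.scalar_apply, Matrix.det_diagonal, Finset.prod_const, Finset.card_univ, hk] at hdet
  have hCJ : (C J.det : F[X]) ≠ 0 := by
    rw [Ne, C_eq_zero]
    exact hJdet
  obtain ⟨P, hP⟩ : ∃ P : F[X], P = ((X : F[X]) ^ 2 - C μ) ^ k := ⟨_, rfl⟩
  have hsq : A.det ^ 2 = P ^ 2 := by
    apply mul_left_cancel₀ hCJ
    rw [hP, ← pow_mul, mul_comm k 2]
    linear_combination hdet
  have hAchar : A.det = (-M).charpoly := by
    rw [hA, Matrix.charpoly, Matrix.charmatrix]
    congr 1
    rw [sub_eq_add_neg]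
    congr 1
    ext i j
    simp [Matrix.map_apply]
  have hmonic : A.det.Monic := by
    rw [hAchar]
    exact Matrix.charpoly_monic _
  have hdeg : A.det.natDegree = 2 * k := by
    rw [hAchar, Matrix.charpoly_natDegree_eq_dim, hk]
  have hPm : P.Monic := by
    rw [hP]
    apply Monic.pow
    exact monic_X_pow_sub_C μ (by norm_num)
  have hPdeg : P.natDegree = 2 * k := by
    rw [hP, natDegree_pow, natDegree_X_pow_sub_C, mul_comm]
  have hcases : A.det = P ∨ A.det = -P := sq_eq_sq_iff_eq_or_eq_neg.mp hsq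
  have hAP : A.det = P := by
    rcases hcases with h | h
    · exact h
    · exfalso
      have hl := congrArg (fun p : F[X] => p.coeff (2 * k)) h
      simp only [coeff_neg] at hl
      have e1 : A.det.coeff (2 * k) = 1 := by
        have := hmonic.coeff_natDegree
        rwa [hdeg] at this
      have e2 : P.coeff (2 * k) = 1 := by
        have := hPm.coeff_natDegree
        rwa [hPdeg] at this
      rw [e1, e2] at hl
      apply h2
      linear_combination hl
  have hev := congrArg (Polynomial.eval 0) hAP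
  have hevA : Polynomial.eval 0 A.det = M.det := by
    have : Polynomial.eval 0 A.det = ((Polynomial.evalRingHom (0 : F)).mapMatrix A).det := by
      rw [← RingHom.map_det]
      rfl
    rw [this]
    congr 1
    rw [hA]
    ext i j
    simp only [RingHom.mapMatrix_apply, Matrix.map_apply, Matrix.add_apply, Matrix.scalar_apply,
      Matrix.diagonal_apply, Polynomial.coe_evalRingHom, Polynomial.eval_add, Polynomial.eval_C]
    split_ifs <;> simp
  rw [hevA, hP] at hev
  rw [hev]
  simp

end Skew

end Cfsg.Agent.Helper8.GrInv
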