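import Mathlib
import Cfsg.Agent.Helper8.GrInvA
import Cfsg.Agent.Helper8.GrInvB
import Cfsg.Agent.Helper8.GrInvC
import Cfsg.Agent.Helper8.AutOQk
import Cfsg.Agent.Helper8.SplitClassA

set_option autoImplicit false
set_option linter.unusedSectionVars false
set_option linter.style.haveILetI false

/-!
# Involutory graph automorphisms of orthogonal groups, part D: a product of two reflections
commuting with a similarity that is not class-preserving and whose square is scalar
-/

namespace Cfsg.Agent.Helper8.GrInv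

open Module Matrix Cfsg.Agent.Helper8.QuadForm
  Cfsg.Agent.Helper8.ReflMatrix Cfsg.Agent.Helper8.Reflections
  Cfsg.Agent.Helper8.AutImagePsi Cfsg.Agent.Helper8.AutImageOrth
  Cfsg.Agent.Helper8.AutImage Cfsg.Agent.Helper8.AutImageKer
  Cfsg.Agent.Helper8.AutImageIdx Cfsg.Agent.Helper8.AutImageD8
  Cfsg.Agent.Helper8.OmegaOdd

section Refl

variable {F : Type*} [Field F] {ι : Type} [Fintype ι] [DecidableEq ι]
  (Q : QuadraticForm F (ι → F))

theorem reflElt_smul_eq {t : F} (ht : t ≠ 0) (v : ι → F) :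
    reflElt Q (t • v) = reflElt Q v := by
  unfold reflElt
  congr 1
  exact Subtype.ext (refl_smul Q ht v)

theorem reflElt_mulVec (v x : ι → F) :
    (((reflElt Q v : ↥(Cfsg.isometryGroup F ⇑Q)) : GL ι F) : Matrix ι ι F) *ᵥ x = refl Q v x := by
  rw [reflElt_val, reflectionMatrix_mulVec]

/-- reflections in orthogonal vectors commute. -/
theorem reflElt_comm_of_perp {v v' : ι → F} (h : QuadraticMap.polar Q v v' = 0) :
    reflElt Q v * reflElt Q v' = reflElt Q v' * reflElt Q v := by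
  have h1 := reflElt_conj_sim Q ((reflElt Q v : ↥(Cfsg.isometryGroup F ⇑Q)) : GL ι F) 1
    (fun x => by
      rw [Units.val_one, one_mul]
      exact (mem_isometryGroup_iff' ⇑Q _).mp (reflElt Q v).2 x) v'
  rw [reflElt_mulVec, refl_of_perp Q h] at h1
  apply Subtype.ext
  rw [Subgroup.coe_mul, Subgroup.coe_mul]
  exact mul_inv_eq_iff_eq_mul.mp h1

end Refl

section Pair

variable {F : Type*} [Field F] [Fintype F] {ι : Type} [Fintype ι] [DecidableEq ι]
  (Q : QuadraticForm F (ι → F)) (h2 : (2 : F) ≠ 0)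
  (hQ : (QuadraticMap.polarBilin Q).Nondegenerate) (hne : ∃ v, Q v ≠ 0) (k : ℕ)
  (hk : Fintype.card ι = 2 * k) (h5 : 5 ≤ Fintype.card ι)

omit [Fintype F] in
include hne in
/-- the square of the scalar `c` with `M² = c` is the square of the multiplier. -/
theorem sq_scalar_eq (M : Matrix ι ι F) (τ c : F) (hτ : ∀ v, Q (M *ᵥ v) = τ * Q v)
    (hMM : M * M = c • (1 : Matrix ι ι F)) : c = τ ∨ c = -τ := by
  obtain ⟨v₀, hv₀⟩ := hne
  have h1 : Q (M *ᵥ (M *ᵥ v₀)) = τ * (τ * Q v₀) := by rw [hτ, hτ]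
  rw [Matrix.mulVec_mulVec, hMM, Matrix.smul_mulVec, Matrix.one_mulVec, QuadraticMap.map_smul,
    smul_eq_mul] at h1
  have h3 : (c - τ) * (c + τ) = 0 := by
    have : (c * c - τ * τ) * Q v₀ = 0 := by linear_combination h1
    rcases mul_eq_zero.mp this with h | h
    · linear_combination h
    · exact absurd h hv₀
  rcases mul_eq_zero.mp h3 with h | h
  · exact Or.inl (sub_eq_zero.mp h)
  · exact Or.inr (eq_neg_of_add_eq_zero_left h)

omit [Fintype F] in
/-- the adjoint of a similarity whose square is a scalar. -/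
theorem adjoint_of_sq (M : Matrix ι ι F) (τ c : F) (hc : c ≠ 0)
    (hτ : ∀ v, Q (M *ᵥ v) = τ * Q v)
    (hMM : M * M = c • (1 : Matrix ι ι F)) (x y : ι → F) :
    QuadraticMap.polar Q (M *ᵥ x) y = τ / c * QuadraticMap.polar Q x (M *ᵥ y) := by
  have hy : y = M *ᵥ (c⁻¹ • (M *ᵥ y)) := by
    rw [Matrix.mulVec_smul, Matrix.mulVec_mulVec, hMM, Matrix.smul_mulVec, Matrix.one_mulVec,
      smul_smul, inv_mul_cancel₀ hc, one_smul]
  have h1 : ∀ a b, QuadraticMap.polar Q (M *ᵥ a) (M *ᵥ b) = τ * QuadraticMap.polar Q a b := by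
    intro a b
    unfold QuadraticMap.polar
    rw [← Matrix.mulVec_add, hτ, hτ, hτ]
    ring
  conv_lhs => rw [hy]
  rw [h1, QuadraticMap.polar_smul_right, smul_eq_mul]
  field_simp

include h2 hQ hne hk h5 in
/-- **a product of two reflections with nonsquare spinor norm commuting with a similarity that is
not class-preserving and whose square is a scalar.** -/
theorem exists_commuting_pair (d : GL ι F) (τ : Fˣ)
    (hτ : ∀ v, Q ((d : Matrix ι ι F) *ᵥ v) = (τ : F) * Q v) (c : F)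
    (hMM : (d : Matrix ι ι F) * (d : Matrix ι ι F) = c • (1 : Matrix ι ι F))
    (hdet : (d : Matrix ι ι F).det ≠ (τ : F) ^ k) :
    ∃ v v' : ι → F, Q v ≠ 0 ∧ Q v' ≠ 0 ∧ ¬ IsSquare (Q v * Q v') ∧
      d * ((reflElt Q v * reflElt Q v' : ↥(Cfsg.isometryGroup F ⇑Q)) : GL ι F) * d⁻¹
        = ((reflElt Q v * reflElt Q v' : ↥(Cfsg.isometryGroup F ⇑Q)) : GL ι F) := by
  obtain ⟨M, hM⟩ : ∃ M : Matrix ι ι F, M = (d : Matrix ι ι F) := ⟨_, rfl⟩
  rw [← hM] at hMM hdet
  have hτ' : ∀ v, Q (M *ᵥ v) = (τ : F) * Q v := by rw [hM]; exact hτ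
  have hτ0 : (τ : F) ≠ 0 := Units.ne_zero τ
  have hnd := (nondeg_iff Q).mp hQ
  have hdim : finrank F (ι → F) = Fintype.card ι := Module.finrank_fintype_fun_eq_card F
  have conj : ∀ v, d * ((reflElt Q v : ↥(Cfsg.isometryGroup F ⇑Q)) : GL ι F) * d⁻¹
      = ((reflElt Q (M *ᵥ v) : ↥(Cfsg.isometryGroup F ⇑Q)) : GL ι F) := by
    intro v
    rw [hM]
    exact reflElt_conj_sim Q d τ hτ v
  have conj2 : ∀ v v', d * ((reflElt Q v * reflElt Q v' : ↥(Cfsg.isometryGroup F ⇑Q)) : GL ι F)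
      * d⁻¹ = ((reflElt Q (M *ᵥ v) * reflElt Q (M *ᵥ v') : ↥(Cfsg.isometryGroup F ⇑Q)) :
        GL ι F) := by
    intro v v'
    rw [Subgroup.coe_mul, Subgroup.coe_mul, ← conj, ← conj]
    group
  rcases sq_scalar_eq Q hne M τ c hτ' hMM with hc | hc
  swap
  · exfalso
    apply hdet
    have hc0 : c ≠ 0 := by rw [hc]; exact neg_ne_zero.mpr hτ0
    have hskew : ∀ x y, QuadraticMap.polar Q (M *ᵥ x) y = - QuadraticMap.polar Q x (M *ᵥ y) := by
      intro x y
      rw [adjoint_of_sq Q M τ c hc0 hτ' hMM, hc, div_neg, div_self hτ0, neg_one_mul]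
    rw [det_of_skew Q hQ h2 M c hMM hskew k hk, hc, neg_neg]
  · subst hc
    have hsa : ∀ x y, QuadraticMap.polar Q (M *ᵥ x) y = QuadraticMap.polar Q x (M *ᵥ y) := by
      intro x y
      rw [adjoint_of_sq Q M τ τ hτ0 hτ' hMM, div_self hτ0, one_mul]
    by_cases hsq : IsSquare (τ : F)
    · obtain ⟨ν, hν⟩ := hsq
      have hν0 : ν ≠ 0 := by
        rintro rfl
        rw [mul_zero] at hν
        exact hτ0 hν
      obtain ⟨a, ha⟩ : ∃ a : (ι → F) →ₗ[F] (ι → F), a = ν⁻¹ • Matrix.toLin' M := ⟨_, rfl⟩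
      have hax : ∀ x, a x = ν⁻¹ • (M *ᵥ x) := by
        intro x
        rw [ha, LinearMap.smul_apply, Matrix.toLin'_apply]
      have ha2 : ∀ x, a (a x) = x := by
        intro x
        rw [hax, hax, Matrix.mulVec_smul, Matrix.mulVec_mulVec, hMM, Matrix.smul_mulVec,
          Matrix.one_mulVec, smul_smul, smul_smul, hν]
        have : ν⁻¹ * ν⁻¹ * (ν * ν) = 1 := by field_simp
        rw [this, one_smul]
      have haQ : ∀ x, Q (a x) = Q x := by
        intro x
        rw [hax, QuadraticMap.map_smul, hτ', hν, smul_eq_mul]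
        field_simp
      obtain ⟨v, v', hv, hv', hns, hev, hev'⟩ :=
        exists_eigen_pair h2 Q hnd (by rw [hdim]; omega) a ha2 haQ
      refine ⟨v, v', hv, hv', hns, ?_⟩
      rw [conj2]
      have key : ∀ w, (a w = w ∨ a w = -w) → reflElt Q (M *ᵥ w) = reflElt Q w := by
        intro w hw
        have hMw : M *ᵥ w = ν • a w := by rw [hax, smul_smul, mul_inv_cancel₀ hν0, one_smul]
        rcases hw with hw | hw
        · rw [hMw, hw, reflElt_smul_eq Q hν0]
        · rw [hMw, hw, smul_neg, ← neg_smul, reflElt_smul_eq Q (neg_ne_zero.mpr hν0)]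
      rw [key v hev, key v' hev']
    · have hμ : ∀ r : F, r ^ 2 ≠ (τ : F) := fun r hr => hsq ⟨r, by rw [← hr]; ring⟩
      obtain ⟨v, hv, hperp⟩ := exists_perp_image h2 Q hnd (by rw [hdim]; omega)
        (Matrix.toLin' M) τ hμ
        (fun x => by
          rw [Matrix.toLin'_apply, Matrix.toLin'_apply, Matrix.mulVec_mulVec, hMM,
            Matrix.smul_mulVec, Matrix.one_mulVec])
        (fun x y => by
          rw [Matrix.toLin'_apply, Matrix.toLin'_apply]
          exact hsa x y)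
      rw [Matrix.toLin'_apply] at hperp
      refine ⟨v, M *ᵥ v, hv, ?_, ?_, ?_⟩
      · rw [hτ']
        exact mul_ne_zero hτ0 hv
      · rw [hτ']
        rintro ⟨r, hr⟩
        apply hsq
        refine ⟨r / Q v, ?_⟩
        field_simp
        linear_combination hr
      · rw [conj2, Matrix.mulVec_mulVec, hMM, Matrix.smul_mulVec, Matrix.one_mulVec,
          reflElt_smul_eq Q hτ0, reflElt_comm_of_perp Q hperp]

end Pair

end Cfsg.Agent.Helper8.GrInv
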