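import Mathlib
import Cfsg.Agent.Helper8.GrInvD
import Cfsg.Agent.Helper8.AutOzzi

set_option autoImplicit false
set_option linter.unusedSectionVars false
set_option linter.style.haveILetI false

/-!
# Involutory graph automorphisms of orthogonal groups, part E: the centralizer of an involutory
graph automorphism in the inner-diagonal group, modulo the inner automorphisms
-/

namespace Cfsg.Agent.Helper8.GrInv

open Module Matrix Cfsg.Agent.Helper8.QuadForm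
  Cfsg.Agent.Helper8.ReflMatrix Cfsg.Agent.Helper8.Reflections
  Cfsg.Agent.Helper8.AutImagePsi Cfsg.Agent.Helper8.AutImageOrth
  Cfsg.Agent.Helper8.AutImage Cfsg.Agent.Helper8.AutImageKer
  Cfsg.Agent.Helper8.AutImageIdx Cfsg.Agent.Helper8.AutImageD8
  Cfsg.Agent.Helper8.OmegaOdd Cfsg.Agent.Helper8.Cls Cfsg.Agent.Helper8.InnDiagGen
  Cfsg.Agent.Helper8.AutO

variable {F : Type*} [Field F] [Fintype F] {ι : Type} [Fintype ι] [DecidableEq ι]
  (Q : QuadraticForm F (ι → F)) (h2 : (2 : F) ≠ 0)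
  (hQ : (QuadraticMap.polarBilin Q).Nondegenerate) (hne : ∃ v, Q v ≠ 0) (k : ℕ)
  (hk : Fintype.card ι = 2 * k) (h5 : 5 ≤ Fintype.card ι)

include h2 h5 in
/-- the image of `SO` lies in the image of the class-preserving similarities. -/
theorem pso_le_cpAut : Cfsg.psoAut F ⇑Q ≤ cpAut Q hQ hne k hk := by
  rw [cpAut_eq_range_PhiD Q hQ hne k hk h2, ← map_ker_psi1D Q h2 hQ hne k hk h5,
    MonoidHom.range_eq_map]
  exact Subgroup.map_mono le_top

include h2 h5 in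
/-- the image of `SO` has index two in the image of the class-preserving similarities. -/
theorem relIndex_pso_cpAut
    (hd : ∃ d : ↥(Cfsg.Geo.quadSimilarityGroup (F := F) ⇑Q),
      ¬ IsSquare ((mult ⇑Q hne d : Fˣ) : F)) :
    (Cfsg.psoAut F ⇑Q).relIndex (cpAut Q hQ hne k hk) = 2 := by
  have hd' := exists_d_of_nonsquare Q h2 hQ hne k hk h5 hd
  rw [cpAut_eq_range_PhiD Q hQ hne k hk h2, MonoidHom.range_eq_map, ← Subgroup.relIndex_comap,
    comap_pso_eq Q h2 hQ hne k hk h5, Subgroup.relIndex_top_right,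
    index_ker_psi1D Q h2 hQ hne k hk hd']

include h2 hQ hk h5 in
/-- **an automorphism induced by `SO`, not inner, commuting with the graph involution.** -/
theorem exists_centralizing_not_inner
    (hneg : ∃ g : ↥(Cfsg.isometryGroup F ⇑Q), g ∈ Cfsg.Omega F ⇑Q ∧
      ((g : GL ι F) : Matrix ι ι F) = -1)
    (g : ↥(Cfsg.Geo.quadSimilarityGroup (F := F) ⇑Q))
    (hgg : Phi ⇑Q (g * g) = 1)
    (hdet : ((g : GL ι F) : Matrix ι ι F).det ≠ ((mult ⇑Q hne g : Fˣ) : F) ^ k) :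
    ∃ x, x ∈ Cfsg.psoAut F ⇑Q ∧ x ∈ Subgroup.centralizer {Phi ⇑Q g} ∧
      x ∉ Cfsg.Inn (Cfsg.POmega F ⇑Q) := by
  obtain ⟨c, hc⟩ := (Phi_eq_one_iff Q h2 hQ h5 (g * g)).mp hgg
  rw [Subgroup.coe_mul, Units.val_mul] at hc
  obtain ⟨v, v', hv, hv', hns, hcomm⟩ := exists_commuting_pair Q h2 hQ hne k hk h5
    (g : GL ι F) (mult ⇑Q hne g) (mult_spec ⇑Q hne g) c hc hdet
  obtain ⟨w, hw⟩ : ∃ w : ↥(Cfsg.isometryGroup F ⇑Q), w = reflElt Q v * reflElt Q v' := ⟨_, rfl⟩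
  rw [← hw] at hcomm
  have hl : ∀ z ∈ [v, v'], Q z ≠ 0 := by
    intro z hz
    simp only [List.mem_cons, List.not_mem_nil, or_false] at hz
    rcases hz with rfl | rfl
    · exact hv
    · exact hv'
  have hwprod : w = ([v, v'].map (reflElt Q)).prod := by
    rw [hw, List.map_cons, List.map_cons, List.map_nil, List.prod_cons, List.prod_cons,
      List.prod_nil, mul_one]
  refine ⟨PhiO ⇑Q w, ?_, ?_, ?_⟩
  · rw [psoAut_eq']
    refine Subgroup.mem_map_of_mem _ ?_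
    rw [Cfsg.Agent.Helper8.SOIndexTwo.mem_special_iff, hwprod, det_prod_reflElt Q _ hl]
    simp
  · rw [Subgroup.mem_centralizer_singleton_iff]
    show Phi ⇑Q (Subgroup.inclusion (isometry_le_similarity ⇑Q) w) * Phi ⇑Q g
      = Phi ⇑Q g * Phi ⇑Q (Subgroup.inclusion (isometry_le_similarity ⇑Q) w)
    rw [← map_mul, ← map_mul]
    congr 1
    apply Subtype.ext
    rw [Subgroup.coe_mul, Subgroup.coe_mul]
    show (w : GL ι F) * (g : GL ι F) = (g : GL ι F) * (w : GL ι F)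
    exact (mul_inv_eq_iff_eq_mul.mp hcomm).symm
  · intro hIn
    have h3 := mem_Omega_of_PhiO_mem Q h2 hQ h5 hneg w hIn
    rw [hwprod] at h3
    have h4 := (Cfsg.Agent.Helper8.OmegaCrit.prod_reflElt_mem_iff Q h2 hQ (by omega)
      [v, v'] hl).mp h3
    obtain ⟨-, s, hs⟩ := h4
    rw [List.map_cons, List.map_cons, List.map_nil, List.prod_cons, List.prod_cons,
      List.prod_nil, mul_one] at hs
    exact hns ⟨s, hs⟩

include h5 in
/-- commutators of similarities with `det = μ^k` induce inner automorphisms, when `-1 ∈ Ω`. -/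
theorem comm_mem_Inn
    (hneg : ∃ g : ↥(Cfsg.isometryGroup F ⇑Q), g ∈ Cfsg.Omega F ⇑Q ∧
      ((g : GL ι F) : Matrix ι ι F) = -1)
    (hd : ∃ d : ↥(Cfsg.Geo.quadSimilarityGroup (F := F) ⇑Q),
      ¬ IsSquare ((mult ⇑Q hne d : Fˣ) : F))
    (a b : ↥(Dsub Q h2 hQ hne k hk)) :
    PhiD Q h2 hQ hne k hk (a * b * a⁻¹ * b⁻¹) ∈ Cfsg.Inn (Cfsg.POmega F ⇑Q) := by
  have heven : Even (Fintype.card ι) := by rw [hk]; exact even_two_mul k
  have hd' := exists_d_of_nonsquare Q h2 hQ hne k hk h5 hd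
  obtain ⟨N, hN⟩ : ∃ N : Subgroup ↥(Dsub Q h2 hQ hne k hk),
      N = (Cfsg.Inn (Cfsg.POmega F ⇑Q)).comap (PhiD Q h2 hQ hne k hk) := ⟨_, rfl⟩
  haveI : N.Normal := by rw [hN]; infer_instance
  have hidx : N.index = 2 ^ 2 := by
    rw [hN, index_comap_Inn Q h2 hQ hne k hk h5 hd',
      (relIndex_Inn_psoAut Q h2 hQ h5 heven).1 hneg]
    norm_num
  haveI : Fact (Nat.Prime 2) := ⟨Nat.prime_two⟩
  have hcomm := isMulCommutative_iff.mp (IsPGroup.isMulCommutative_of_card_eq_prime_sq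
    (G := ↥(Dsub Q h2 hQ hne k hk) ⧸ N) (p := 2) (by rw [← Subgroup.index_eq_card, hidx]))
  have hmem : a * b * a⁻¹ * b⁻¹ ∈ N := by
    rw [← QuotientGroup.eq_one_iff, QuotientGroup.mk_mul, QuotientGroup.mk_mul,
      QuotientGroup.mk_mul, QuotientGroup.mk_inv, QuotientGroup.mk_inv,
      hcomm (a : ↥(Dsub Q h2 hQ hne k hk) ⧸ N) b]
    group
  rw [hN] at hmem
  exact hmem

theorem group_aux {G : Type*} [Group G] (γ r δ : G) (h1 : γ * δ = δ * γ) (h2 : r * r = 1) :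
    r * (δ * r * δ⁻¹) = γ⁻¹ * (γ * r * δ * (γ * r)⁻¹ * δ⁻¹) * γ := by
  have hr : r⁻¹ = r := inv_eq_of_mul_eq_one_right h2
  have hc : Commute γ δ := h1
  symm
  calc γ⁻¹ * (γ * r * δ * (γ * r)⁻¹ * δ⁻¹) * γ
      = r * δ * r⁻¹ * (γ⁻¹ * (δ⁻¹ * γ)) := by group
    _ = r * δ * r⁻¹ * (γ⁻¹ * (γ * δ⁻¹)) := by rw [hc.inv_right.eq]
    _ = r * δ * r⁻¹ * δ⁻¹ := by group
    _ = r * (δ * r * δ⁻¹) := by rw [hr]; group

include h2 h5 in
/-- **the centralizer of the graph involution in the inner-diagonal group lies in the image of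
`SO`**, when `-1 ∈ Ω`. -/
theorem centralizer_le_pso
    (hneg : ∃ g : ↥(Cfsg.isometryGroup F ⇑Q), g ∈ Cfsg.Omega F ⇑Q ∧
      ((g : GL ι F) : Matrix ι ι F) = -1)
    (hd : ∃ d : ↥(Cfsg.Geo.quadSimilarityGroup (F := F) ⇑Q),
      ¬ IsSquare ((mult ⇑Q hne d : Fˣ) : F))
    (g : ↥(Cfsg.Geo.quadSimilarityGroup (F := F) ⇑Q))
    (hdet : ((g : GL ι F) : Matrix ι ι F).det ≠ ((mult ⇑Q hne g : Fˣ) : F) ^ k) :
    cpAut Q hQ hne k hk ⊓ Subgroup.centralizer {Phi ⇑Q g} ≤ Cfsg.psoAut F ⇑Q := by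
  rintro x ⟨hxG, hxC⟩
  have hxG' : x ∈ cpAut Q hQ hne k hk := hxG
  have hxC' : x ∈ Subgroup.centralizer {Phi ⇑Q g} := hxC
  clear hxG hxC
  rw [cpAut_eq_range_PhiD Q hQ hne k hk h2] at hxG'
  obtain ⟨d, rfl⟩ := hxG'
  by_contra hnot
  have hdns : ¬ IsSquare ((mult ⇑Q hne d.1 : Fˣ) : F) := by
    intro hs
    apply hnot
    rw [← map_ker_psi1D Q h2 hQ hne k hk h5]
    refine Subgroup.mem_map_of_mem _ ?_
    rw [MonoidHom.mem_ker, psi1D_apply, psi1_eq_one_iff]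
    exact hs
  have ⟨o, ho⟩ := hne
  have hr2 : psi2 Q h2 hQ hne k hk (InnDiagGen.reflGO Q o) = -1 := by
    rw [psi2_eq_neg_one_iff]
    have hrO : ((InnDiagGen.reflGO Q o : ↥(Cfsg.Geo.quadSimilarityGroup (F := F) ⇑Q)) : GL ι F)
        ∈ Cfsg.isometryGroup F ⇑Q := (reflElt Q o).2
    rw [mult_of_isometry ⇑Q hne _ hrO, Units.val_one, one_pow]
    show (((reflElt Q o : ↥(Cfsg.isometryGroup F ⇑Q)) : GL ι F) : Matrix ι ι F).det ≠ 1
    rw [reflElt_val, det_reflectionMatrix Q ho]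
    intro h
    apply h2
    have : (2 : F) = 1 - (-1) := by norm_num
    rw [this, h, sub_self]
  have hg2 : psi2 Q h2 hQ hne k hk g = -1 := (psi2_eq_neg_one_iff Q hQ hne k hk h2 g).mpr hdet
  have hg'D : g * InnDiagGen.reflGO Q o ∈ Dsub Q h2 hQ hne k hk := by
    unfold Dsub
    rw [MonoidHom.mem_ker, map_mul, hr2, hg2]
    rfl
  have hc := comm_mem_Inn Q h2 hQ hne k hk h5 hneg hd ⟨g * InnDiagGen.reflGO Q o, hg'D⟩ d
  rw [PhiD_apply] at hc
  have hc' : Phi ⇑Q g * Phi ⇑Q (InnDiagGen.reflGO Q o) * Phi ⇑Q d.1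
      * (Phi ⇑Q g * Phi ⇑Q (InnDiagGen.reflGO Q o))⁻¹ * (Phi ⇑Q d.1)⁻¹ ∈ Cfsg.Inn (Cfsg.POmega F ⇑Q) := by
    rw [← map_mul, ← map_mul, ← map_inv, ← map_mul, ← map_inv, ← map_mul]
    exact hc
  apply comm_not_mem_Inn Q h2 hQ hne h5 hneg ho d.1 hdns
  have hcommute : Phi ⇑Q g * Phi ⇑Q d.1 = Phi ⇑Q d.1 * Phi ⇑Q g := by
    have := Subgroup.mem_centralizer_singleton_iff.mp hxC'
    rw [PhiD_apply] at this
    exact this.symm
  have hrr : Phi ⇑Q (InnDiagGen.reflGO Q o) * Phi ⇑Q (InnDiagGen.reflGO Q o) = 1 := by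
    rw [← map_mul, InnDiagGen.reflGO_mul_self, map_one]
  have hnorm := (Cfsg.innNormal (Cfsg.POmega F ⇑Q)).conj_mem _ hc' (Phi ⇑Q g)⁻¹
  rw [inv_inv, ← group_aux _ _ _ hcommute hrr] at hnorm
  rw [map_mul, map_mul, map_mul, map_inv]
  exact hnorm

include h2 h5 in
/-- **the class of an involutory graph automorphism induced by a similarity**: its class under
the inner-diagonal group is one or two classes under the inner automorphisms, and two when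
`-1 ∈ Ω`. -/
theorem count_graph_involution
    (hd : ∃ d : ↥(Cfsg.Geo.quadSimilarityGroup (F := F) ⇑Q),
      ¬ IsSquare ((mult ⇑Q hne d : Fˣ) : F))
    (g : ↥(Cfsg.Geo.quadSimilarityGroup (F := F) ⇑Q))
    (hgg : Phi ⇑Q (g * g) = 1)
    (hdet : ((g : GL ι F) : Matrix ι ι F).det ≠ ((mult ⇑Q hne g : Fˣ) : F) ^ k) :
    (Cfsg.splitClassCount (cpAut Q hQ hne k hk) (Cfsg.Inn (Cfsg.POmega F ⇑Q)) (Phi ⇑Q g) = 1 ∨
      Cfsg.splitClassCount (cpAut Q hQ hne k hk) (Cfsg.Inn (Cfsg.POmega F ⇑Q)) (Phi ⇑Q g) = 2) ∧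
    ((∃ g : ↥(Cfsg.isometryGroup F ⇑Q), g ∈ Cfsg.Omega F ⇑Q ∧
        ((g : GL ι F) : Matrix ι ι F) = -1) →
      Cfsg.splitClassCount (cpAut Q hQ hne k hk) (Cfsg.Inn (Cfsg.POmega F ⇑Q)) (Phi ⇑Q g) = 2) := by
  classical
  have heven : Even (Fintype.card ι) := by rw [hk]; exact even_two_mul k
  have hInnG := Inn_le_cpAut Q hQ hne k hk
  have hInnP : Cfsg.Inn (Cfsg.POmega F ⇑Q) ≤ Cfsg.psoAut F ⇑Q := Inn_le_pso Q
  have hPG := pso_le_cpAut Q h2 hQ hne k hk h5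
  have hPGi := relIndex_pso_cpAut Q h2 hQ hne k hk h5 hd
  rw [Cfsg.Agent.Helper8.SplitClass.splitClassCount_eq_relIndex _ _ hInnG (Phi ⇑Q g)]
  obtain ⟨S, hS⟩ : ∃ S : Subgroup (MulAut (Cfsg.POmega F ⇑Q)),
      S = Cfsg.Inn (Cfsg.POmega F ⇑Q) ⊔
        (cpAut Q hQ hne k hk ⊓ Subgroup.centralizer {Phi ⇑Q g}) := ⟨_, rfl⟩
  rw [← hS]
  have hSG : S ≤ cpAut Q hQ hne k hk := by
    rw [hS]
    exact sup_le hInnG inf_le_left
  have hIS : Cfsg.Inn (Cfsg.POmega F ⇑Q) ≤ S := by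
    rw [hS]
    exact le_sup_left
  by_cases hneg : ∃ g : ↥(Cfsg.isometryGroup F ⇑Q), g ∈ Cfsg.Omega F ⇑Q ∧
      ((g : GL ι F) : Matrix ι ι F) = -1
  · have hIP := (relIndex_Inn_psoAut Q h2 hQ h5 heven).1 hneg
    have hSP : S ≤ Cfsg.psoAut F ⇑Q := by
      rw [hS]
      exact sup_le hInnP (centralizer_le_pso Q h2 hQ hne k hk h5 hneg hd g hdet)
    obtain ⟨x, hxP, hxC, hxI⟩ :=
      exists_centralizing_not_inner Q h2 hQ hne k hk h5 hneg g hgg hdet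
    have hxS : x ∈ S := by
      rw [hS]
      exact Subgroup.mem_sup_right ⟨hPG hxP, hxC⟩
    have h1 := Subgroup.relIndex_mul_relIndex (Cfsg.Inn (Cfsg.POmega F ⇑Q)) S
      (Cfsg.psoAut F ⇑Q) hIS hSP
    rw [hIP] at h1
    have h3 : (Cfsg.Inn (Cfsg.POmega F ⇑Q)).relIndex S ≠ 1 := by
      rw [Ne, Subgroup.relIndex_eq_one]
      intro hle
      exact hxI (hle hxS)
    have h4 : (Cfsg.Inn (Cfsg.POmega F ⇑Q)).relIndex S ∣ 2 := Dvd.intro _ h1
    have h5' : (Cfsg.Inn (Cfsg.POmega F ⇑Q)).relIndex S = 2 := by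
      rcases (Nat.dvd_prime Nat.prime_two).mp h4 with h | h
      · exact absurd h h3
      · exact h
    rw [h5'] at h1
    have h6 : S.relIndex (Cfsg.psoAut F ⇑Q) = 1 := by omega
    have h7 : S.relIndex (cpAut Q hQ hne k hk) = 2 := by
      rw [← Subgroup.relIndex_mul_relIndex _ _ _ hSP hPG, h6, hPGi]
    exact ⟨Or.inr h7, fun _ => h7⟩
  · have hIP := (relIndex_Inn_psoAut Q h2 hQ h5 heven).2 hneg
    have hIG : (Cfsg.Inn (Cfsg.POmega F ⇑Q)).relIndex (cpAut Q hQ hne k hk) = 2 := by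
      rw [← Subgroup.relIndex_mul_relIndex _ _ _ hInnP hPG, hIP, hPGi]
    have h1 := Subgroup.relIndex_mul_relIndex (Cfsg.Inn (Cfsg.POmega F ⇑Q)) S
      (cpAut Q hQ hne k hk) hIS hSG
    rw [hIG] at h1
    have h4 : S.relIndex (cpAut Q hQ hne k hk) ∣ 2 := Dvd.intro_left _ h1
    rcases (Nat.dvd_prime Nat.prime_two).mp h4 with h | h
    · exact ⟨Or.inl h, fun h' => absurd h' hneg⟩
    · exact ⟨Or.inr h, fun _ => h⟩

end Cfsg.Agent.Helper8.GrInv
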