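import Mathlib
import Cfsg.Agent.Helper8.QuadForm
import Cfsg.Agent.Helper8.WittQuad

set_option autoImplicit false

/-!
# Classes of semisimple elements of odd prime order in orthogonal groups, part A

General lemmas: the sign of a semiregular permutation of two-power order, kernels and ranges of
semisimple endomorphisms, and the adjoint of an isometry of finite order.
-/

namespace Cfsg.Agent.Helper8.SsCls

open Module Cfsg.Agent.Helper8.QuadForm Cfsg.Agent.Helper8.WittQuad

/-! ### the sign of a semiregular permutation of two-power order -/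

theorem pow_apply_of_cycle_factor {α : Type*} [Fintype α] [DecidableEq α]
    {σ c τ : Equiv.Perm α} (hσ : σ = c * τ) (hd : c.Disjoint τ) (hc : c.IsCycle) {m : ℕ}
    (hm : c.support.card ∣ m) : ∃ x, (σ ^ m) x = x := by
  obtain ⟨x, hx⟩ := hc.nonempty_support
  refine ⟨x, ?_⟩
  have hcx : c x ≠ x := Equiv.Perm.mem_support.mp hx
  have hτx : τ x = x := (hd x).resolve_left hcx
  have hcm : c ^ m = 1 := by
    rw [← orderOf_dvd_iff_pow_eq_one, hc.orderOf]
    exact hm
  rw [hσ, hd.commute.mul_pow, Equiv.Perm.mul_apply,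
    Equiv.Perm.pow_apply_eq_self_of_apply_eq_self hτx, hcm, Equiv.Perm.one_apply]

theorem sign_of_semiregular {α : Type*} [Fintype α] [DecidableEq α] (σ : Equiv.Perm α) (a : ℕ)
    (hσ : σ ^ (2 ^ (a + 1)) = 1) (hfree : ∀ x, (σ ^ (2 ^ a)) x ≠ x) :
    2 ^ (a + 1) ∣ Fintype.card α ∧
      Equiv.Perm.sign σ = (-1) ^ (Fintype.card α / 2 ^ (a + 1)) := by
  have hall : ∀ n ∈ σ.cycleType, n = 2 ^ (a + 1) := by
    intro n hn
    have h1 : n ∣ 2 ^ (a + 1) :=
      (Equiv.Perm.dvd_of_mem_cycleType hn).trans (orderOf_dvd_of_pow_eq_one hσ)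
    obtain ⟨j, hj, rfl⟩ := (Nat.dvd_prime_pow Nat.prime_two).mp h1
    by_contra hne
    have hja : j ≤ a := by
      rcases Nat.lt_or_ge a j with h | h
      · exfalso
        apply hne
        have : j = a + 1 := by omega
        rw [this]
      · exact h
    obtain ⟨c, τ, hστ, hd, hc, hcard⟩ := Equiv.Perm.mem_cycleType_iff.mp hn
    obtain ⟨x, hx⟩ := pow_apply_of_cycle_factor hστ hd hc (m := 2 ^ a) (by
      rw [hcard]
      exact pow_dvd_pow 2 hja)
    exact hfree x hx
  have hrep : σ.cycleType = Multiset.replicate (Multiset.card σ.cycleType) (2 ^ (a + 1)) :=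
    Multiset.eq_replicate_card.mpr hall
  have hsupp : σ.support = Finset.univ := by
    rw [Finset.eq_univ_iff_forall]
    intro x
    rw [Equiv.Perm.mem_support]
    intro hx
    exact hfree x (Equiv.Perm.pow_apply_eq_self_of_apply_eq_self hx _)
  have hsum : σ.cycleType.sum = Fintype.card α := by
    rw [Equiv.Perm.sum_cycleType, hsupp, Finset.card_univ]
  have hsum' : Fintype.card α = Multiset.card σ.cycleType * 2 ^ (a + 1) := by
    rw [← hsum]
    nth_rewrite 1 [hrep]
    rw [Multiset.sum_replicate, smul_eq_mul]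
  refine ⟨⟨_, by rw [hsum', mul_comm]⟩, ?_⟩
  rw [Equiv.Perm.sign_of_cycleType, hsum, hsum', Nat.mul_div_cancel _ (by positivity), pow_add]
  have heven : Even (Multiset.card σ.cycleType * 2 ^ (a + 1)) := by
    rw [pow_succ, ← mul_assoc]
    exact Even.mul_left even_two _
  rw [Even.neg_one_pow heven, one_mul]

variable {F : Type*} [Field F] {V : Type*} [AddCommGroup V] [Module F V]

/-! ### semisimple endomorphisms -/

theorem ker_inf_range_of_isSemisimple {a : Module.End F V} (ha : a.IsSemisimple) :
    LinearMap.ker a ⊓ LinearMap.range a = ⊥ := by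
  rw [eq_bot_iff]
  rintro x ⟨hx1, ⟨y, rfl⟩⟩
  rw [SetLike.mem_coe, LinearMap.mem_ker] at hx1
  rw [Submodule.mem_bot]
  have hU : LinearMap.ker (a * a) ∈ Module.End.invtSubmodule a := by
    rw [Module.End.mem_invtSubmodule]
    intro z hz
    rw [Submodule.mem_comap, LinearMap.mem_ker]
    rw [LinearMap.mem_ker] at hz
    show (a * a) (a z) = 0
    have : (a * a) (a z) = a ((a * a) z) := rfl
    rw [this, hz, map_zero]
  have hss := ha.restrict hU
  have hU' : ∀ z ∈ LinearMap.ker (a * a), a z ∈ LinearMap.ker (a * a) := fun z hz => hU hz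
  have hnil : IsNilpotent (LinearMap.restrict a hU') := by
    refine ⟨2, ?_⟩
    apply LinearMap.ext
    intro z
    apply Subtype.ext
    rw [pow_two]
    show a (a z.1) = 0
    exact LinearMap.mem_ker.mp z.2
  have h0 := Module.End.eq_zero_of_isNilpotent_isSemisimple hnil hss
  have hy : y ∈ LinearMap.ker (a * a) := by
    rw [LinearMap.mem_ker]
    exact hx1
  have := congrArg (fun f => ((f ⟨y, hy⟩ : LinearMap.ker (a * a)) : V)) h0
  exact this

theorem isSemisimple_of_pow_eq_one {g : Module.End F V} {r : ℕ} (hr : (r : F) ≠ 0)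
    (hgr : g ^ r = 1) : g.IsSemisimple := by
  have hsep : (Polynomial.X ^ r - Polynomial.C (1 : F)).Separable :=
    Polynomial.separable_X_pow_sub_C (1 : F) hr one_ne_zero
  apply Module.End.isSemisimple_of_squarefree_aeval_eq_zero hsep.squarefree
  rw [map_sub, map_pow, Polynomial.aeval_X, Polynomial.aeval_C, map_one, hgr, sub_self]

end Cfsg.Agent.Helper8.SsCls
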