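import Mathlib
import Cfsg.Agent.Helper8.SsClsA

set_option autoImplicit false

/-!
# Classes of semisimple elements of odd prime order in orthogonal groups, part B

An isometry `g` of finite order as an endomorphism, its inverse, the self-adjoint element
`s = g + g⁻¹`, and the commutative algebra `F[s]`.
-/

namespace Cfsg.Agent.Helper8.SsCls

open Module Cfsg.Agent.Helper8.QuadForm Cfsg.Agent.Helper8.WittQuad

variable {F : Type*} [Field F] {V : Type*} [AddCommGroup V] [Module F V]

/-- an isometry of finite order `r`, as an endomorphism. -/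
structure IsoOrd (Q : QuadraticForm F V) (g : Module.End F V) (r : ℕ) : Prop where
  isom : ∀ v, Q (g v) = Q v
  pow : g ^ r = 1
  pos : 0 < r

/-- the inverse of an endomorphism of order `r`. -/
def ginv (g : Module.End F V) (r : ℕ) : Module.End F V := g ^ (r - 1)

/-- the self-adjoint element `g + g⁻¹`. -/
def sOf (g : Module.End F V) (r : ℕ) : Module.End F V := g + ginv g r

namespace IsoOrd

variable {Q : QuadraticForm F V} {g : Module.End F V} {r : ℕ}

theorem mul_ginv (h : IsoOrd Q g r) : g * ginv g r = 1 := by
  unfold ginv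
  rw [← pow_succ', Nat.sub_add_cancel h.pos, h.pow]

theorem ginv_mul (h : IsoOrd Q g r) : ginv g r * g = 1 := by
  unfold ginv
  rw [← pow_succ, Nat.sub_add_cancel h.pos, h.pow]

theorem apply_ginv (h : IsoOrd Q g r) (v : V) : g (ginv g r v) = v :=
  congrArg (fun f : Module.End F V => f v) h.mul_ginv

theorem ginv_apply (h : IsoOrd Q g r) (v : V) : ginv g r (g v) = v :=
  congrArg (fun f : Module.End F V => f v) h.ginv_mul

theorem comm_ginv (_h : IsoOrd Q g r) : g * ginv g r = ginv g r * g := by
  unfold ginv
  exact (Commute.self_pow g (r - 1)).eq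

theorem polar_map (h : IsoOrd Q g r) (v w : V) :
    QuadraticMap.polar Q (g v) (g w) = QuadraticMap.polar Q v w := by
  unfold QuadraticMap.polar
  rw [← map_add, h.isom, h.isom, h.isom]

theorem polar_left (h : IsoOrd Q g r) (v w : V) :
    QuadraticMap.polar Q (g v) w = QuadraticMap.polar Q v (ginv g r w) := by
  rw [← h.polar_map v (ginv g r w), h.apply_ginv]

theorem polar_ginv_left (h : IsoOrd Q g r) (v w : V) :
    QuadraticMap.polar Q (ginv g r v) w = QuadraticMap.polar Q v (g w) := by
  rw [← h.polar_map (ginv g r v) w, h.apply_ginv]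

theorem polar_sOf (h : IsoOrd Q g r) (v w : V) :
    QuadraticMap.polar Q (sOf g r v) w = QuadraticMap.polar Q v (sOf g r w) := by
  unfold sOf
  rw [LinearMap.add_apply, LinearMap.add_apply, QuadraticMap.polar_add_left,
    QuadraticMap.polar_add_right, h.polar_left, h.polar_ginv_left, add_comm]

theorem sOf_comm (h : IsoOrd Q g r) : sOf g r * g = g * sOf g r := by
  unfold sOf
  rw [add_mul, mul_add, h.comm_ginv]

/-- `g² = s g - 1` -/
theorem sq_eq (h : IsoOrd Q g r) : g * g = sOf g r * g - 1 := by
  unfold sOf
  rw [add_mul, h.ginv_mul]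
  abel

theorem ginv_eq (_h : IsoOrd Q g r) : ginv g r = sOf g r - g := by
  unfold sOf
  abel

theorem isom_ginv (h : IsoOrd Q g r) (v : V) : Q (ginv g r v) = Q v := by
  rw [← h.isom (ginv g r v), h.apply_ginv]

end IsoOrd

/-- the algebra `F[s]`, `s = g + g⁻¹`. -/
noncomputable abbrev A0 (g : Module.End F V) (r : ℕ) : Subalgebra F (Module.End F V) :=
  Algebra.adjoin F {sOf g r}

theorem sOf_mem (g : Module.End F V) (r : ℕ) : sOf g r ∈ A0 g r :=
  Algebra.self_mem_adjoin_singleton F _

/-- `s` as an element of `F[s]`. -/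
noncomputable def sElt (g : Module.End F V) (r : ℕ) : ↥(A0 g r) := ⟨sOf g r, sOf_mem g r⟩

theorem mem_comm {g : Module.End F V} {r : ℕ} {a b : Module.End F V} (ha : a ∈ A0 g r)
    (hb : b ∈ A0 g r) : a * b = b * a := by
  have : IsMulCommutative ↥(A0 g r) := inferInstance
  exact congrArg Subtype.val (this.is_comm.comm ⟨a, ha⟩ ⟨b, hb⟩)

namespace IsoOrd

variable {Q : QuadraticForm F V} {g : Module.End F V} {r : ℕ}

theorem comm_of_mem (h : IsoOrd Q g r) {a : Module.End F V} (ha : a ∈ A0 g r) :
    a * g = g * a := by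
  have : Commute g a := Algebra.commute_of_mem_adjoin_of_forall_mem_commute ha (by
    intro z hz
    rw [Set.mem_singleton_iff] at hz
    rw [hz]
    exact h.sOf_comm.symm)
  exact this.eq.symm

theorem comm_ginv_of_mem (h : IsoOrd Q g r) {a : Module.End F V} (ha : a ∈ A0 g r) :
    a * ginv g r = ginv g r * a := by
  unfold ginv
  have : Commute a g := h.comm_of_mem ha
  exact (this.pow_right (r - 1)).eq

theorem polar_of_mem (h : IsoOrd Q g r) {a : Module.End F V} (ha : a ∈ A0 g r) (v w : V) :
    QuadraticMap.polar Q (a v) w = QuadraticMap.polar Q v (a w) := by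
  induction ha using Algebra.adjoin_induction generalizing v w with
  | mem x hx =>
    rw [Set.mem_singleton_iff] at hx
    rw [hx]
    exact h.polar_sOf v w
  | algebraMap c =>
    rw [Module.algebraMap_end_apply, Module.algebraMap_end_apply, QuadraticMap.polar_smul_left,
      QuadraticMap.polar_smul_right]
  | add x y _ _ hx hy =>
    rw [LinearMap.add_apply, LinearMap.add_apply, QuadraticMap.polar_add_left,
      QuadraticMap.polar_add_right, hx, hy]
  | mul x y hx' hy' hx hy =>
    rw [Module.End.mul_apply, Module.End.mul_apply, hx, hy]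
    have := congrArg (fun f : Module.End F V => f w) (mem_comm hx' hy')
    exact congrArg _ this.symm

end IsoOrd

end Cfsg.Agent.Helper8.SsCls
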