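import Mathlib
import Cfsg.Agent.Helper8.SsClsB

set_option autoImplicit false

/-!
# Classes of semisimple elements of odd prime order in orthogonal groups, part C

The standing hypotheses, semisimplicity of `F[s]`, and the indecomposable case: `F[s]` has no zero
divisors.
-/

namespace Cfsg.Agent.Helper8.SsCls

open Module Cfsg.Agent.Helper8.QuadForm Cfsg.Agent.Helper8.WittQuad

variable {F : Type*} [Field F] {V : Type*} [AddCommGroup V] [Module F V]

/-- the standing hypotheses: an isometry of odd order prime to the characteristic of a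
nondegenerate quadratic space of characteristic not two. -/
structure Std (Q : QuadraticForm F V) (g : Module.End F V) (r : ℕ) : Prop extends IsoOrd Q g r where
  h2 : (2 : F) ≠ 0
  odd : Odd r
  hrF : (r : F) ≠ 0
  nondeg : Nondeg Q

/-- no nonzero fixed vectors. -/
def Fpf (g : Module.End F V) : Prop := ∀ v, g v = v → v = 0

/-- no proper nonzero invariant nondegenerate subspace. -/
def Indec (Q : QuadraticForm F V) (g : Module.End F V) : Prop :=
  ∀ U : Submodule F V, (∀ x ∈ U, g x ∈ U) → NondegOn Q U → U = ⊥ ∨ U = ⊤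

namespace Std

variable {Q : QuadraticForm F V} {g : Module.End F V} {r : ℕ}

theorem isSemisimple (h : Std Q g r) : g.IsSemisimple :=
  isSemisimple_of_pow_eq_one h.hrF h.pow

theorem A0_le (_h : Std Q g r) : A0 g r ≤ Algebra.adjoin F {g} := by
  apply Algebra.adjoin_le
  intro z hz
  rw [Set.mem_singleton_iff] at hz
  rw [hz]
  unfold sOf ginv
  exact Subalgebra.add_mem _ (Algebra.self_mem_adjoin_singleton F g)
    (Subalgebra.pow_mem _ (Algebra.self_mem_adjoin_singleton F g) _)

theorem isSemisimple_of_mem [FiniteDimensional F V] (h : Std Q g r) {a : Module.End F V}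
    (ha : a ∈ A0 g r) : a.IsSemisimple :=
  h.isSemisimple.of_mem_adjoin_singleton (h.A0_le ha)

/-- the kernel of an element of `F[s]` is nondegenerate. -/
theorem nondegOn_ker [FiniteDimensional F V] (h : Std Q g r) {a : Module.End F V}
    (ha : a ∈ A0 g r) : NondegOn Q (LinearMap.ker a) := by
  intro x hx hxk
  apply h.nondeg
  intro v
  have hdisj : Disjoint (LinearMap.ker a) (LinearMap.range a) := by
    rw [disjoint_iff]
    exact ker_inf_range_of_isSemisimple (h.isSemisimple_of_mem ha)
  have htop : LinearMap.ker a ⊔ LinearMap.range a = ⊤ := by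
    apply Submodule.eq_top_of_disjoint _ _ _ hdisj
    rw [add_comm, LinearMap.finrank_range_add_finrank_ker]
  have hv : v ∈ LinearMap.ker a ⊔ LinearMap.range a := by rw [htop]; exact Submodule.mem_top
  obtain ⟨k, hk, w, ⟨w', rfl⟩, rfl⟩ := Submodule.mem_sup.mp hv
  rw [QuadraticMap.polar_add_right, hxk k hk, zero_add, ← h.toIsoOrd.polar_of_mem ha,
    LinearMap.mem_ker.mp hx, QuadraticMap.polar_zero_left]

theorem ker_invariant (h : Std Q g r) {a : Module.End F V} (ha : a ∈ A0 g r) :
    ∀ x ∈ LinearMap.ker a, g x ∈ LinearMap.ker a := by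
  intro x hx
  rw [LinearMap.mem_ker] at hx ⊢
  have := congrArg (fun f : Module.End F V => f x) (h.toIsoOrd.comm_of_mem ha)
  change a (g x) = g (a x) at this
  rw [this, hx, map_zero]

/-- in the indecomposable case an element of `F[s]` is zero or injective. -/
theorem eq_zero_or_ker [FiniteDimensional F V] (h : Std Q g r) (hind : Indec Q g)
    {a : Module.End F V} (ha : a ∈ A0 g r) : a = 0 ∨ LinearMap.ker a = ⊥ := by
  rcases hind _ (h.ker_invariant ha) (h.nondegOn_ker ha) with h1 | h1
  · exact Or.inr h1
  · exact Or.inl (LinearMap.ker_eq_top.mp h1)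

theorem eq_zero_of_mul [FiniteDimensional F V] (h : Std Q g r) (hind : Indec Q g)
    {a b : Module.End F V} (ha : a ∈ A0 g r) (hab : a * b = 0) : a = 0 ∨ b = 0 := by
  rcases h.eq_zero_or_ker hind ha with h1 | h1
  · exact Or.inl h1
  · right
    apply LinearMap.ext
    intro v
    have := congrArg (fun f : Module.End F V => f v) hab
    change a (b v) = 0 at this
    have hmem : b v ∈ LinearMap.ker a := LinearMap.mem_ker.mpr this
    rw [h1, Submodule.mem_bot] at hmem
    exact hmem

/-- `g + 1` is injective. -/
theorem add_one_injective (h : Std Q g r) (v : V) (hv : g v = -v) : v = 0 := by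
  have hpow : ∀ k : ℕ, (g ^ k) v = (-1 : F) ^ k • v := by
    intro k
    induction k with
    | zero => simp
    | succ k ih =>
      rw [pow_succ', Module.End.mul_apply, ih, map_smul, hv, pow_succ]
      simp
  have h1 := hpow r
  rw [h.pow, h.odd.neg_one_pow, Module.End.one_apply, neg_one_smul] at h1
  have h2 : (2 : F) • v = 0 := by
    rw [two_smul]
    nth_rewrite 1 [h1]
    exact neg_add_cancel v
  exact (smul_eq_zero.mp h2).resolve_left h.h2

/-- `s² - 4` is injective when `g` has no fixed vectors. -/
theorem disc_injective (h : Std Q g r) (hf : Fpf g) (v : V)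
    (hv : (sOf g r * sOf g r - 4) v = 0) : v = 0 := by
  have e1 : sOf g r * sOf g r - 4 = ginv g r * ginv g r * ((g + 1) * (g + 1) * ((g - 1) * (g - 1))) := by
    have h1 := h.toIsoOrd.ginv_mul
    have h2 := h.toIsoOrd.mul_ginv
    have hc := h.toIsoOrd.comm_ginv
    unfold sOf
    have e2 : (g + 1) * (g + 1) * ((g - 1) * (g - 1)) = g * g * (g * g) - 2 * (g * g) + 1 := by
      noncomm_ring
    rw [e2]
    have e3 : ginv g r * ginv g r * (g * g * (g * g) - 2 * (g * g) + 1)
        = (ginv g r * (ginv g r * g) * g) * (g * g) - 2 * (ginv g r * (ginv g r * g) * g)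
          + ginv g r * ginv g r := by
      noncomm_ring
    rw [e3, h1, mul_one, h1]
    have e4 : (g + ginv g r) * (g + ginv g r) = g * g + (g * ginv g r + ginv g r * g)
        + ginv g r * ginv g r := by
      noncomm_ring
    rw [e4, h1, h2, one_mul, mul_one]
    have e5 : (4 : Module.End F V) = 1 + 1 + 1 + 1 := by norm_num
    have e6 : (2 : Module.End F V) = 1 + 1 := by norm_num
    rw [e5, e6]
    abel
  rw [e1] at hv
  have hginj : ∀ w, ginv g r w = 0 → w = 0 := by
    intro w hw
    have := h.toIsoOrd.apply_ginv w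
    rw [hw, map_zero] at this
    exact this.symm
  have h1 := hginj _ (hginj _ hv)
  change (g + 1) ((g + 1) ((g - 1) ((g - 1) v))) = 0 at h1
  have hp : ∀ w, (g + 1) w = 0 → w = 0 := by
    intro w hw
    apply h.add_one_injective w
    rw [LinearMap.add_apply, Module.End.one_apply] at hw
    exact eq_neg_of_add_eq_zero_left hw
  have hm : ∀ w, (g - 1) w = 0 → w = 0 := by
    intro w hw
    apply hf w
    rw [LinearMap.sub_apply, Module.End.one_apply] at hw
    exact sub_eq_zero.mp hw
  exact hm _ (hm _ (hp _ (hp _ h1)))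

end Std

end Cfsg.Agent.Helper8.SsCls
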