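import Mathlib
import Cfsg.Agent.Helper8.SsClsC

set_option autoImplicit false
set_option linter.unusedSectionVars false

/-!
# Classes of semisimple elements of odd prime order in orthogonal groups, part D

The indecomposable case: the space is free of rank two over the field `F[s]`, on `x`, `g x` for
any nonsingular vector `x`.
-/

namespace Cfsg.Agent.Helper8.SsCls

open Module Cfsg.Agent.Helper8.QuadForm Cfsg.Agent.Helper8.WittQuad

variable {F : Type*} [Field F] {V : Type*} [AddCommGroup V] [Module F V] [FiniteDimensional F V]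

namespace Std

variable {Q : QuadraticForm F V} {g : Module.End F V} {r : ℕ}

/-- in the indecomposable case nonzero elements of `F[s]` are invertible in `F[s]`. -/
theorem exists_inv (h : Std Q g r) (hind : Indec Q g) {y : Module.End F V} (hy : y ∈ A0 g r)
    (hy0 : y ≠ 0) : ∃ y' ∈ A0 g r, y' * y = 1 := by
  let L : ↥(A0 g r) →ₗ[F] ↥(A0 g r) := LinearMap.mulRight F (⟨y, hy⟩ : ↥(A0 g r))
  have hinj : Function.Injective L := by
    rw [← LinearMap.ker_eq_bot, LinearMap.ker_eq_bot']
    intro a' ha'
    have h1 : (a' : Module.End F V) * y = 0 := congrArg Subtype.val ha'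
    rcases h.eq_zero_of_mul hind a'.2 h1 with h2 | h2
    · exact Subtype.ext h2
    · exact absurd h2 hy0
  obtain ⟨a', ha'⟩ := LinearMap.surjective_of_injective hinj 1
  exact ⟨a'.1, a'.2, congrArg Subtype.val ha'⟩

/-- `polar (a g x) x = polar (a g⁻¹ x) x` for `a` in `F[s]`. -/
theorem tau_g (h : Std Q g r) {a : Module.End F V} (ha : a ∈ A0 g r) (x : V) :
    QuadraticMap.polar Q (a (g x)) x = QuadraticMap.polar Q (a (ginv g r x)) x := by
  have e1 : a (ginv g r x) = ginv g r (a x) :=
    congrArg (fun f : Module.End F V => f x) (h.toIsoOrd.comm_ginv_of_mem ha)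
  rw [h.toIsoOrd.polar_of_mem ha, h.toIsoOrd.polar_left, ← e1, QuadraticMap.polar_comm]

theorem two_tau_g (h : Std Q g r) {a : Module.End F V} (ha : a ∈ A0 g r) (x : V) :
    2 * QuadraticMap.polar Q (a (g x)) x = QuadraticMap.polar Q (a (sOf g r x)) x := by
  have : sOf g r x = g x + ginv g r x := rfl
  rw [this, map_add, QuadraticMap.polar_add_left, ← h.tau_g ha, two_mul]

/-- the trace form `y ↦ polar (y x) x` on `F[s]` is nondegenerate. -/
theorem tau_nondeg (h : Std Q g r) (hind : Indec Q g) {x : V} (hx : Q x ≠ 0)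
    {y : Module.End F V} (hy : y ∈ A0 g r)
    (hyx : ∀ a' ∈ A0 g r, QuadraticMap.polar Q (a' (y x)) x = 0) : y = 0 := by
  by_contra hy0
  obtain ⟨y', hy', hyy⟩ := h.exists_inv hind hy hy0
  have h1 := hyx y' hy'
  have h2 : y' (y x) = x := congrArg (fun f : Module.End F V => f x) hyy
  rw [h2, polar_self'] at h1
  rcases mul_eq_zero.mp h1 with h3 | h3
  · exact h.h2 h3
  · exact hx h3

/-- **the key lemma**: `a x + b g x` orthogonal to all `a' x` and `a' g x` forces `a = b = 0`. -/
theorem key (h : Std Q g r) (hf : Fpf g) (hind : Indec Q g) {x : V} (hx : Q x ≠ 0)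
    {a b : Module.End F V} (ha : a ∈ A0 g r) (hb : b ∈ A0 g r)
    (h1 : ∀ a' ∈ A0 g r, QuadraticMap.polar Q (a x + b (g x)) (a' x) = 0)
    (h2 : ∀ a' ∈ A0 g r, QuadraticMap.polar Q (a x + b (g x)) (a' (g x)) = 0) :
    a = 0 ∧ b = 0 := by
  have hs := sOf_mem g r
  -- first relation
  have hy1 : (2 : F) • a + b * sOf g r = 0 := by
    apply h.tau_nondeg hind hx
      (Subalgebra.add_mem _ (Subalgebra.smul_mem _ ha _) (Subalgebra.mul_mem _ hb hs))
    intro a' ha'
    have e := h1 a' ha'
    rw [← h.toIsoOrd.polar_of_mem ha', map_add, QuadraticMap.polar_add_left] at e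
    have e2 := h.two_tau_g (Subalgebra.mul_mem _ ha' hb) x
    rw [LinearMap.add_apply, LinearMap.smul_apply, Module.End.mul_apply, map_add, map_smul,
      QuadraticMap.polar_add_left, QuadraticMap.polar_smul_left]
    rw [Module.End.mul_apply, Module.End.mul_apply] at e2
    rw [← e2, smul_eq_mul, ← mul_add, e, mul_zero]
  -- second relation
  have hy2 : a * sOf g r + (2 : F) • b = 0 := by
    apply h.tau_nondeg hind hx
      (Subalgebra.add_mem _ (Subalgebra.mul_mem _ ha hs) (Subalgebra.smul_mem _ hb _))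
    intro a' ha'
    have e := h2 a' ha'
    have e3 : a' (g x) = g (a' x) :=
      congrArg (fun f : Module.End F V => f x) (h.toIsoOrd.comm_of_mem ha')
    have e4 : ginv g r (a x + b (g x)) = a (ginv g r x) + b x := by
      rw [map_add]
      have e5 : ginv g r (a x) = a (ginv g r x) :=
        (congrArg (fun f : Module.End F V => f x) (h.toIsoOrd.comm_ginv_of_mem ha)).symm
      have e6 : ginv g r (b (g x)) = b (ginv g r (g x)) :=
        (congrArg (fun f : Module.End F V => f (g x)) (h.toIsoOrd.comm_ginv_of_mem hb)).symm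
      rw [e5, e6, h.toIsoOrd.ginv_apply]
    rw [e3, ← h.toIsoOrd.polar_ginv_left, e4, ← h.toIsoOrd.polar_of_mem ha', map_add,
      QuadraticMap.polar_add_left] at e
    have e7 := h.two_tau_g (Subalgebra.mul_mem _ ha' ha) x
    have e8 := h.tau_g (Subalgebra.mul_mem _ ha' ha) x
    rw [Module.End.mul_apply, Module.End.mul_apply] at e7 e8
    rw [LinearMap.add_apply, LinearMap.smul_apply, Module.End.mul_apply, map_add, map_smul,
      QuadraticMap.polar_add_left, QuadraticMap.polar_smul_left, ← e7, e8, smul_eq_mul,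
      ← mul_add, e, mul_zero]
  -- elimination
  have hb0 : b = 0 := by
    have e1 : (sOf g r * sOf g r - 4) * b = 0 := by
      have c1 : b * sOf g r = sOf g r * b := mem_comm hb hs
      have c2 : a * sOf g r = sOf g r * a := mem_comm ha hs
      have e2 : (sOf g r * sOf g r - 4) * b
          = sOf g r * ((2 : F) • a + b * sOf g r) - (2 : F) • (a * sOf g r + (2 : F) • b) := by
        rw [c1, c2, mul_add, smul_add, smul_smul, sub_mul, mul_smul_comm, mul_assoc]
        have e5 : (4 : Module.End F V) * b = ((2 : F) * 2) • b := by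
          rw [show ((2 : F) * 2) = 4 by norm_num]
          rw [show (4 : Module.End F V) = (4 : F) • (1 : Module.End F V) by
            rw [show (4 : F) = ((4 : ℕ) : F) by norm_num, Nat.cast_smul_eq_nsmul]
            simp]
          rw [smul_mul_assoc, one_mul]
        rw [e5]
        abel
      rw [e2, hy1, hy2, mul_zero, smul_zero, sub_zero]
    apply LinearMap.ext
    intro v
    exact h.disc_injective hf (b v) (congrArg (fun f : Module.End F V => f v) e1)
  refine ⟨?_, hb0⟩
  rw [hb0, zero_mul, add_zero] at hy1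
  exact (smul_eq_zero.mp hy1).resolve_left h.h2

end Std

/-- the map `(a, b) ↦ a x + b g x`. -/
noncomputable def frameMap (g : Module.End F V) (r : ℕ) (x : V) :
    (↥(A0 g r) × ↥(A0 g r)) →ₗ[F] V where
  toFun p := (p.1 : Module.End F V) x + (p.2 : Module.End F V) (g x)
  map_add' p q := by
    show ((p.1 + q.1 : ↥(A0 g r)) : Module.End F V) x + ((p.2 + q.2 : ↥(A0 g r)) : Module.End F V) (g x)
      = _
    rw [Subalgebra.coe_add, Subalgebra.coe_add, LinearMap.add_apply, LinearMap.add_apply]
    abel
  map_smul' c p := by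
    show ((c • p.1 : ↥(A0 g r)) : Module.End F V) x + ((c • p.2 : ↥(A0 g r)) : Module.End F V) (g x)
      = c • _
    rw [Subalgebra.coe_smul, Subalgebra.coe_smul, LinearMap.smul_apply, LinearMap.smul_apply,
      smul_add]

theorem frameMap_apply (g : Module.End F V) (r : ℕ) (x : V) (p : ↥(A0 g r) × ↥(A0 g r)) :
    frameMap g r x p = (p.1 : Module.End F V) x + (p.2 : Module.End F V) (g x) := rfl

namespace Std

variable {Q : QuadraticForm F V} {g : Module.End F V} {r : ℕ}

theorem frameMap_injective (h : Std Q g r) (hf : Fpf g) (hind : Indec Q g) {x : V}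
    (hx : Q x ≠ 0) : Function.Injective (frameMap g r x) := by
  rw [← LinearMap.ker_eq_bot, LinearMap.ker_eq_bot']
  intro p hp
  rw [frameMap_apply] at hp
  obtain ⟨h1, h2⟩ := h.key hf hind hx p.1.2 p.2.2
    (fun a' _ => by rw [hp, QuadraticMap.polar_zero_left])
    (fun a' _ => by rw [hp, QuadraticMap.polar_zero_left])
  exact Prod.ext (Subtype.ext h1) (Subtype.ext h2)

theorem frameMap_surjective (h : Std Q g r) (hf : Fpf g) (hind : Indec Q g) {x : V}
    (hx : Q x ≠ 0) : Function.Surjective (frameMap g r x) := by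
  rw [← LinearMap.range_eq_top]
  have hinv : ∀ u ∈ LinearMap.range (frameMap g r x), g u ∈ LinearMap.range (frameMap g r x) := by
    rintro u ⟨p, rfl⟩
    refine ⟨(-p.2, p.1 + p.2 * sElt g r), ?_⟩
    rw [frameMap_apply, frameMap_apply, map_add]
    have e1 : g ((p.1 : Module.End F V) x) = (p.1 : Module.End F V) (g x) :=
      (congrArg (fun f : Module.End F V => f x) (h.toIsoOrd.comm_of_mem p.1.2)).symm
    have e2 : g ((p.2 : Module.End F V) (g x)) = (p.2 : Module.End F V) (g (g x)) :=
      (congrArg (fun f : Module.End F V => f (g x)) (h.toIsoOrd.comm_of_mem p.2.2)).symm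
    have e3 : g (g x) = sOf g r (g x) - x := by
      have := congrArg (fun f : Module.End F V => f x) h.toIsoOrd.sq_eq
      exact this
    rw [e1, e2, e3, map_sub]
    show ((-p.2 : ↥(A0 g r)) : Module.End F V) x
      + ((p.1 + p.2 * sElt g r : ↥(A0 g r)) : Module.End F V) (g x) = _
    rw [Subalgebra.coe_neg, Subalgebra.coe_add, Subalgebra.coe_mul, LinearMap.neg_apply,
      LinearMap.add_apply, Module.End.mul_apply]
    show _ = (p.1 : Module.End F V) (g x) + ((p.2 : Module.End F V) ((sElt g r).1 (g x))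
      - (p.2 : Module.End F V) x)
    abel
  have hnd : NondegOn Q (LinearMap.range (frameMap g r x)) := by
    rintro u ⟨p, rfl⟩ hu
    rw [frameMap_apply] at hu ⊢
    obtain ⟨h1, h2⟩ := h.key hf hind hx p.1.2 p.2.2
      (fun a' ha' => hu _ ⟨(⟨a', ha'⟩, 0), by rw [frameMap_apply]; simp⟩)
      (fun a' ha' => hu _ ⟨(0, ⟨a', ha'⟩), by rw [frameMap_apply]; simp⟩)
    rw [h1, h2]
    simp
  rcases hind _ hinv hnd with h1 | h1
  · exfalso
    have hxm : x ∈ LinearMap.range (frameMap g r x) :=
      ⟨(1, 0), by rw [frameMap_apply]; simp⟩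
    rw [h1, Submodule.mem_bot] at hxm
    rw [hxm, map_zero] at hx
    exact hx rfl
  · exact h1

end Std

end Cfsg.Agent.Helper8.SsCls
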