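import Mathlib
import Cfsg.Agent.Helper8.SsClsD

set_option autoImplicit false
set_option linter.unusedSectionVars false

/-!
# Classes of semisimple elements of odd prime order in orthogonal groups, part E

The elements `a + b g` (`a`, `b` in `F[s]`): they commute with `g`, are similarities with
multiplier the norm `a² + s a b + b²` when that is a scalar, and their determinant in the
indecomposable case.
-/

namespace Cfsg.Agent.Helper8.SsCls

open Module Cfsg.Agent.Helper8.QuadForm Cfsg.Agent.Helper8.WittQuad
open scoped IsMulCommutative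

variable {F : Type*} [Field F] {V : Type*} [AddCommGroup V] [Module F V]

/-- the element `a + b g`. -/
def cOf (g a b : Module.End F V) : Module.End F V := a + b * g

/-- the norm `a² + s a b + b²`. -/
def nOf (g : Module.End F V) (r : ℕ) (a b : Module.End F V) : Module.End F V :=
  a * a + sOf g r * a * b + b * b

theorem cOf_apply (g a b : Module.End F V) (v : V) : cOf g a b v = a v + b (g v) := rfl

namespace IsoOrd

variable {Q : QuadraticForm F V} {g : Module.End F V} {r : ℕ}

theorem cOf_comm (h : IsoOrd Q g r) {a b : Module.End F V} (ha : a ∈ A0 g r) (hb : b ∈ A0 g r) :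
    cOf g a b * g = g * cOf g a b := by
  unfold cOf
  rw [add_mul, mul_add, h.comm_of_mem ha, ← mul_assoc g b g, ← h.comm_of_mem hb]

theorem polar_cOf (h : IsoOrd Q g r) {a b : Module.End F V} (ha : a ∈ A0 g r) (hb : b ∈ A0 g r)
    (v w : V) :
    QuadraticMap.polar Q (cOf g a b v) (cOf g a b w) = QuadraticMap.polar Q (nOf g r a b v) w := by
  have cg : ∀ {y : Module.End F V}, y ∈ A0 g r → ∀ z, y (g z) = g (y z) := fun hy z =>
    congrArg (fun f : Module.End F V => f z) (h.comm_of_mem hy)
  have sa : ∀ {y : Module.End F V}, y ∈ A0 g r → ∀ z z', QuadraticMap.polar Q z (y z')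
      = QuadraticMap.polar Q (y z) z' := fun hy z z' => (h.polar_of_mem hy z z').symm
  have hab : ∀ z, a (b z) = b (a z) := fun z =>
    congrArg (fun f : Module.End F V => f z) (mem_comm ha hb)
  rw [cOf_apply, cOf_apply, QuadraticMap.polar_add_left, QuadraticMap.polar_add_right,
    QuadraticMap.polar_add_right]
  have t1 : QuadraticMap.polar Q (a v) (a w) = QuadraticMap.polar Q (a (a v)) w := sa ha _ _
  have t2 : QuadraticMap.polar Q (b (g v)) (b (g w)) = QuadraticMap.polar Q (b (b v)) w := by
    rw [cg hb, cg hb, h.polar_map, sa hb]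
  have t3 : QuadraticMap.polar Q (a v) (b (g w)) = QuadraticMap.polar Q (ginv g r (a (b v))) w := by
    rw [sa hb, h.polar_ginv_left, hab]
  have t4 : QuadraticMap.polar Q (b (g v)) (a w) = QuadraticMap.polar Q (g (a (b v))) w := by
    rw [sa ha, cg hb, cg ha]
  rw [t1, t2, t3, t4]
  unfold nOf sOf
  rw [LinearMap.add_apply, LinearMap.add_apply, Module.End.mul_apply, Module.End.mul_apply,
    Module.End.mul_apply, Module.End.mul_apply, LinearMap.add_apply, QuadraticMap.polar_add_left,
    QuadraticMap.polar_add_left, QuadraticMap.polar_add_left]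
  ring

end IsoOrd

namespace Std

variable {Q : QuadraticForm F V} {g : Module.End F V} {r : ℕ}

/-- `a + b g` is a similarity with multiplier `ν` when `a² + s a b + b² = ν`. -/
theorem cOf_sim (h : Std Q g r) {a b : Module.End F V} (ha : a ∈ A0 g r) (hb : b ∈ A0 g r)
    {ν : F} (hN : nOf g r a b = ν • (1 : Module.End F V)) (v : V) :
    Q (cOf g a b v) = ν * Q v := by
  have h1 := h.toIsoOrd.polar_cOf ha hb v v
  rw [hN, LinearMap.smul_apply, Module.End.one_apply, QuadraticMap.polar_smul_left, polar_self',
    polar_self', smul_eq_mul] at h1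
  have h2 : (2 : F) * Q (cOf g a b v) = 2 * (ν * Q v) := by rw [h1]; ring
  exact mul_left_cancel₀ h.h2 h2

end Std

end Cfsg.Agent.Helper8.SsCls
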