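import Mathlib
import Cfsg.Agent.Helper8.SsClsE

set_option autoImplicit false
set_option linter.unusedSectionVars false

/-!
# Classes of semisimple elements of odd prime order in orthogonal groups, part F

The determinant of `a + b g` in the indecomposable case: the norm from `F[s]` of `a² + s a b + b²`.
-/

namespace Cfsg.Agent.Helper8.SsCls

open Module Cfsg.Agent.Helper8.QuadForm Cfsg.Agent.Helper8.WittQuad
open scoped IsMulCommutative

variable {F : Type*} [Field F] {V : Type*} [AddCommGroup V] [Module F V] [FiniteDimensional F V]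

/-- the `F[s]`-linear version of the frame map. -/
noncomputable def frameLin (g : Module.End F V) (r : ℕ) (x : V) :
    (Fin 2 → ↥(A0 g r)) →ₗ[↥(A0 g r)] V :=
  (LinearMap.toSpanSingleton ↥(A0 g r) V x).comp (LinearMap.proj 0)
    + (LinearMap.toSpanSingleton ↥(A0 g r) V (g x)).comp (LinearMap.proj 1)

theorem frameLin_apply (g : Module.End F V) (r : ℕ) (x : V) (f : Fin 2 → ↥(A0 g r)) :
    frameLin g r x f = (f 0 : Module.End F V) x + (f 1 : Module.End F V) (g x) := rfl

theorem frameLin_eq (g : Module.End F V) (r : ℕ) (x : V) (f : Fin 2 → ↥(A0 g r)) :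
    frameLin g r x f = frameMap g r x (f 0, f 1) := rfl

namespace Std

variable {Q : QuadraticForm F V} {g : Module.End F V} {r : ℕ}

theorem frameLin_bijective (h : Std Q g r) (hf : Fpf g) (hind : Indec Q g) {x : V}
    (hx : Q x ≠ 0) : Function.Bijective (frameLin g r x) := by
  constructor
  · intro f f' hff
    rw [frameLin_eq, frameLin_eq] at hff
    have := h.frameMap_injective hf hind hx hff
    rw [Prod.mk.injEq] at this
    funext i
    fin_cases i
    · exact this.1
    · exact this.2
  · intro v
    obtain ⟨p, hp⟩ := h.frameMap_surjective hf hind hx v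
    exact ⟨![p.1, p.2], by rw [frameLin_eq]; exact hp⟩

theorem finrank_eq_two_mul (h : Std Q g r) (hf : Fpf g) (hind : Indec Q g) {x : V}
    (hx : Q x ≠ 0) : finrank F V = 2 * finrank F ↥(A0 g r) := by
  have e := LinearEquiv.ofBijective (frameMap g r x)
    ⟨h.frameMap_injective hf hind hx, h.frameMap_surjective hf hind hx⟩
  rw [← e.finrank_eq, Module.finrank_prod, two_mul]

/-- the determinant of `a + b g` in the indecomposable case. -/
theorem det_cOf (h : Std Q g r) (hf : Fpf g) (hind : Indec Q g) {x : V} (hx : Q x ≠ 0)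
    (a b : ↥(A0 g r)) {ν : F} (hN : nOf g r a.1 b.1 = ν • (1 : Module.End F V)) :
    LinearMap.det (cOf g a.1 b.1) = ν ^ finrank F ↥(A0 g r) := by
  let e₀ : (Fin 2 → ↥(A0 g r)) ≃ₗ[↥(A0 g r)] V :=
    LinearEquiv.ofBijective (frameLin g r x) (h.frameLin_bijective hf hind hx)
  let bas : Basis (Fin 2) ↥(A0 g r) V := Basis.ofEquivFun e₀.symm
  have hfree : Module.Free ↥(A0 g r) V := Module.Free.of_basis bas
  have hcomm : ∀ c : ↥(A0 g r), cOf g a.1 b.1 * c.1 = c.1 * cOf g a.1 b.1 := by
    intro c
    unfold cOf
    rw [add_mul, mul_add, mem_comm a.2 c.2, mul_assoc, ← h.toIsoOrd.comm_of_mem c.2, ← mul_assoc,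
      mem_comm b.2 c.2, mul_assoc]
  let fl : V →ₗ[↥(A0 g r)] V :=
    { toFun := fun v => cOf g a.1 b.1 v
      map_add' := fun v w => map_add _ v w
      map_smul' := fun c v => congrArg (fun e : Module.End F V => e v) (hcomm c) }
  have hfl : fl.restrictScalars F = cOf g a.1 b.1 := by
    ext v
    rfl
  rw [← hfl, LinearMap.det_restrictScalars]
  have hdet : LinearMap.det fl = algebraMap F ↥(A0 g r) ν := by
    rw [← LinearMap.det_toMatrix bas, Matrix.det_fin_two]
    have hb0 : bas 0 = x := by
      have := congrFun (Basis.coe_ofEquivFun e₀.symm) 0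
      rw [this, LinearEquiv.symm_symm]
      show frameLin g r x (Pi.single 0 1) = x
      rw [frameLin_apply]
      simp
    have hb1 : bas 1 = g x := by
      have := congrFun (Basis.coe_ofEquivFun e₀.symm) 1
      rw [this, LinearEquiv.symm_symm]
      show frameLin g r x (Pi.single 1 1) = g x
      rw [frameLin_apply]
      simp
    have hrepr : ∀ (f : Fin 2 → ↥(A0 g r)) (i : Fin 2), bas.repr (frameLin g r x f) i = f i := by
      intro f i
      rw [Basis.ofEquivFun_repr_apply]
      show e₀.symm (e₀ f) i = f i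
      rw [LinearEquiv.symm_apply_apply]
    have hc0 : fl (bas 0) = frameLin g r x ![a, b] := by
      rw [hb0, frameLin_apply]
      rfl
    have hc1 : fl (bas 1) = frameLin g r x ![-b, a + b * sElt g r] := by
      rw [hb1, frameLin_apply]
      show a.1 (g x) + b.1 (g (g x)) = _
      have e3 : g (g x) = sOf g r (g x) - x :=
        congrArg (fun f : Module.End F V => f x) h.toIsoOrd.sq_eq
      rw [e3, map_sub]
      show _ = ((-b : ↥(A0 g r)) : Module.End F V) x
        + ((a + b * sElt g r : ↥(A0 g r)) : Module.End F V) (g x)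
      rw [Subalgebra.coe_neg, Subalgebra.coe_add, Subalgebra.coe_mul, LinearMap.neg_apply,
        LinearMap.add_apply, Module.End.mul_apply]
      show _ = -(b.1 x) + (a.1 (g x) + b.1 (sOf g r (g x)))
      abel
    rw [LinearMap.toMatrix_apply, LinearMap.toMatrix_apply, LinearMap.toMatrix_apply,
      LinearMap.toMatrix_apply, hc0, hc1, hrepr, hrepr, hrepr, hrepr]
    apply Subtype.ext
    show ((a * (a + b * sElt g r) - (-b) * b : ↥(A0 g r)) : Module.End F V) = _
    have e5 : ((algebraMap F ↥(A0 g r) ν : ↥(A0 g r)) : Module.End F V)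
        = ν • (1 : Module.End F V) := by
      rw [Algebra.algebraMap_eq_smul_one]
      rfl
    rw [e5, ← hN]
    unfold nOf
    simp only [Subalgebra.coe_sub, Subalgebra.coe_mul, Subalgebra.coe_add, Subalgebra.coe_neg]
    show a.1 * (a.1 + b.1 * sOf g r) - -b.1 * b.1 = _
    rw [mul_add, ← mul_assoc, mem_comm (Subalgebra.mul_mem _ a.2 b.2) (sOf_mem g r), ← mul_assoc]
    noncomm_ring
  rw [hdet, Algebra.norm_algebraMap]

end Std

end Cfsg.Agent.Helper8.SsCls
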