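import Mathlib
import Cfsg.Agent.Helper8.SsClsF
import Cfsg.Agent.Helper8.OrthOrder

set_option autoImplicit false
set_option linter.unusedSectionVars false

/-!
# Classes of semisimple elements of odd prime order in orthogonal groups, part G

Over a finite field: in the indecomposable case `F[s]` is a finite domain, the norm form
`a² + s a b + b²` represents every scalar, and there is a similarity with prescribed multiplier
commuting with `g`, with the right determinant.
-/

namespace Cfsg.Agent.Helper8.SsCls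

open Module Cfsg.Agent.Helper8.QuadForm Cfsg.Agent.Helper8.WittQuad
open scoped IsMulCommutative

variable {F : Type*} [Field F] {V : Type*} [AddCommGroup V] [Module F V] [FiniteDimensional F V]

theorem exists_nonsing {Q : QuadraticForm F V} (hQ : Nondeg Q)
    [Nontrivial V] : ∃ x, Q x ≠ 0 := by
  by_contra hcon
  push Not at hcon
  obtain ⟨v, hv⟩ := exists_ne (0 : V)
  apply hv
  apply hQ
  intro w
  unfold QuadraticMap.polar
  rw [hcon, hcon, hcon]
  ring

theorem card_odd [Fintype F] (h2 : (2 : F) ≠ 0) : Fintype.card F % 2 = 1 := by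
  apply FiniteField.odd_card_of_char_ne_two
  intro hc
  apply h2
  have : ((ringChar F : ℕ) : F) = 0 := ringChar.Nat.cast_ringChar
  rw [hc] at this
  exact_mod_cast this

namespace Std

variable {Q : QuadraticForm F V} {g : Module.End F V} {r : ℕ}

theorem isDomain_A0 (h : Std Q g r) (hind : Indec Q g) [Nontrivial V] : IsDomain ↥(A0 g r) := by
  have hnt : Nontrivial ↥(A0 g r) := by
    refine ⟨⟨0, 1, ?_⟩⟩
    intro h01
    have h1 : (0 : Module.End F V) = 1 := congrArg Subtype.val h01
    obtain ⟨v, hv⟩ := exists_ne (0 : V)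
    apply hv
    have := congrArg (fun f : Module.End F V => f v) h1
    exact this.symm
  have hnz : NoZeroDivisors ↥(A0 g r) := by
    refine ⟨?_⟩
    intro a b hab
    have h1 : a.1 * b.1 = 0 := congrArg Subtype.val hab
    rcases h.eq_zero_of_mul hind a.2 h1 with h2 | h2
    · exact Or.inl (Subtype.ext h2)
    · exact Or.inr (Subtype.ext h2)
  exact NoZeroDivisors.to_isDomain _

theorem card_A0_odd [Fintype F] [Fintype ↥(A0 g r)] (h : Std Q g r) :
    Fintype.card ↥(A0 g r) % 2 = 1 := by
  rw [Module.card_eq_pow_finrank (K := F), Nat.pow_mod, card_odd h.h2, one_pow]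
  rfl

/-- the norm form of `F[s][g]` over `F[s]` represents every scalar. -/
theorem exists_norm_eq [Fintype F] (h : Std Q g r) (hf : Fpf g) (hind : Indec Q g) [Nontrivial V]
    (ν : F) : ∃ a b : ↥(A0 g r), nOf g r a.1 b.1 = ν • (1 : Module.End F V) := by
  classical
  have hdom := h.isDomain_A0 hind
  have hfin : Finite ↥(A0 g r) := Module.finite_of_finite F
  have hft : Fintype ↥(A0 g r) := Fintype.ofFinite _
  -- half of `s`
  obtain ⟨hs2, hhs2⟩ : ∃ t : ↥(A0 g r), t = (2⁻¹ : F) • sElt g r := ⟨_, rfl⟩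
  have hss : sElt g r = hs2 + hs2 := by
    rw [hhs2, ← add_smul, ← two_mul, mul_inv_cancel₀ h.h2, one_smul]
  have hd : (1 : ↥(A0 g r)) - hs2 * hs2 ≠ 0 := by
    intro hd0
    obtain ⟨v, hv⟩ := exists_ne (0 : V)
    apply hv
    apply h.disc_injective hf v
    have e1 : sElt g r * sElt g r - 4 = 0 := by
      rw [hss]
      linear_combination (-4 : ↥(A0 g r)) * hd0
    have e2 := congrArg Subtype.val e1
    have e3 : (sOf g r * sOf g r - 4 : Module.End F V) = 0 := e2
    rw [e3, LinearMap.zero_apply]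
  have hdeg1 : (Polynomial.X ^ 2 - Polynomial.C (algebraMap F ↥(A0 g r) ν)).degree = 2 :=
    Polynomial.degree_X_pow_sub_C (by norm_num) _
  have hdeg2 : (Polynomial.C ((1 : ↥(A0 g r)) - hs2 * hs2) * Polynomial.X ^ 2).degree = 2 :=
    Polynomial.degree_C_mul_X_pow 2 hd
  obtain ⟨a₁, b₁, hab⟩ := FiniteField.exists_root_sum_quadratic hdeg1 hdeg2 h.card_A0_odd
  simp only [Polynomial.eval_sub, Polynomial.eval_pow, Polynomial.eval_X, Polynomial.eval_C,
    Polynomial.eval_mul] at hab
  refine ⟨a₁ - hs2 * b₁, b₁, ?_⟩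
  have e1 : (a₁ - hs2 * b₁) * (a₁ - hs2 * b₁) + sElt g r * (a₁ - hs2 * b₁) * b₁ + b₁ * b₁
      = algebraMap F ↥(A0 g r) ν := by
    rw [hss]
    linear_combination hab
  have e2 := congrArg Subtype.val e1
  have e5 : ((algebraMap F ↥(A0 g r) ν : ↥(A0 g r)) : Module.End F V)
      = ν • (1 : Module.End F V) := by
    rw [Algebra.algebraMap_eq_smul_one]
    rfl
  rw [e5] at e2
  rw [← e2]
  rfl

/-- **similarities commuting with `g`, indecomposable case.** -/
theorem exists_sim_indec [Fintype F] (h : Std Q g r) (hf : Fpf g) (hind : Indec Q g)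
    [Nontrivial V] (ν : F) :
    ∃ (c : Module.End F V) (k : ℕ), c * g = g * c ∧ (∀ v, Q (c v) = ν * Q v) ∧
      finrank F V = 2 * k ∧ LinearMap.det c = ν ^ k := by
  obtain ⟨x, hx⟩ := exists_nonsing h.nondeg
  obtain ⟨a, b, hN⟩ := h.exists_norm_eq hf hind ν
  exact ⟨cOf g a.1 b.1, finrank F ↥(A0 g r), h.toIsoOrd.cOf_comm a.2 b.2,
    h.cOf_sim a.2 b.2 hN, h.finrank_eq_two_mul hf hind hx, h.det_cOf hf hind hx a b hN⟩

end Std

end Cfsg.Agent.Helper8.SsCls
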