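import Mathlib
import Cfsg.Agent.Helper8.SsClsG

set_option autoImplicit false
set_option linter.unusedSectionVars false

/-!
# Classes of semisimple elements of odd prime order in orthogonal groups, part H

Orthogonal complements of invariant nondegenerate subspaces, restriction of the data, and gluing
of similarities on an orthogonal decomposition.
-/

namespace Cfsg.Agent.Helper8.SsCls

open Module Cfsg.Agent.Helper8.QuadForm Cfsg.Agent.Helper8.WittQuad

variable {F : Type*} [Field F] {V : Type*} [AddCommGroup V] [Module F V]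

/-- the orthogonal complement with respect to the polar form. -/
def perpS (Q : QuadraticForm F V) (U : Submodule F V) : Submodule F V :=
  LinearMap.BilinForm.orthogonal (QuadraticMap.polarBilin Q) U

theorem mem_perpS (Q : QuadraticForm F V) (U : Submodule F V) (x : V) :
    x ∈ perpS Q U ↔ ∀ u ∈ U, QuadraticMap.polar Q u x = 0 := Iff.rfl

theorem polarBilin_isRefl (Q : QuadraticForm F V) :
    LinearMap.BilinForm.IsRefl (QuadraticMap.polarBilin Q) := by
  intro x y h
  rw [QuadraticMap.polarBilin_apply_apply] at h ⊢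
  rw [QuadraticMap.polar_comm]
  exact h

theorem isCompl_perpS [FiniteDimensional F V] {Q : QuadraticForm F V} {U : Submodule F V}
    (hU : NondegOn Q U) : IsCompl U (perpS Q U) := by
  unfold perpS
  rw [LinearMap.BilinForm.isCompl_orthogonal_iff_disjoint (polarBilin_isRefl Q),
    Submodule.disjoint_def]
  intro x hx hx'
  apply hU x hx
  intro w hw
  rw [QuadraticMap.polar_comm]
  exact hx' w hw

theorem nondegOn_perpS [FiniteDimensional F V] {Q : QuadraticForm F V} {U : Submodule F V}
    (hQ : Nondeg Q) (hU : NondegOn Q U) : NondegOn Q (perpS Q U) := by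
  intro x hx hxx
  apply hQ
  intro v
  have hv : v ∈ U ⊔ perpS Q U := by
    rw [(isCompl_perpS hU).sup_eq_top]
    exact Submodule.mem_top
  obtain ⟨u, hu, u', hu', rfl⟩ := Submodule.mem_sup.mp hv
  rw [QuadraticMap.polar_add_right, hxx u' hu', add_zero, QuadraticMap.polar_comm]
  exact hx u hu

theorem pow_apply_mem {g : Module.End F V} {U : Submodule F V} (hU : ∀ x ∈ U, g x ∈ U) (k : ℕ) :
    ∀ x ∈ U, (g ^ k) x ∈ U := by
  induction k with
  | zero =>
    intro x hx
    simpa using hx
  | succ k ih =>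
    intro x hx
    rw [pow_succ', Module.End.mul_apply]
    exact hU _ (ih x hx)

theorem IsoOrd.perpS_invariant {Q : QuadraticForm F V} {g : Module.End F V} {r : ℕ}
    (h : IsoOrd Q g r) {U : Submodule F V} (hU : ∀ x ∈ U, g x ∈ U) :
    ∀ x ∈ perpS Q U, g x ∈ perpS Q U := by
  intro x hx
  rw [mem_perpS] at hx ⊢
  intro u hu
  rw [← h.polar_ginv_left]
  exact hx _ (pow_apply_mem hU (r - 1) u hu)

/-- restriction of the standing hypotheses to an invariant nondegenerate subspace. -/
theorem Std.restrict {Q : QuadraticForm F V} {g : Module.End F V} {r : ℕ} (h : Std Q g r)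
    {U : Submodule F V} (hU : ∀ x ∈ U, g x ∈ U) (hnd : NondegOn Q U) :
    Std (Q.comp U.subtype) (g.restrict hU) r where
  isom v := h.isom v.1
  pow := by
    rw [Module.End.pow_restrict]
    apply LinearMap.ext
    intro v
    apply Subtype.ext
    show (g ^ r) v.1 = v.1
    rw [h.pow, Module.End.one_apply]
  pos := h.pos
  h2 := h.h2
  odd := h.odd
  hrF := h.hrF
  nondeg := (nondeg_comp_subtype_iff Q U).mpr hnd

theorem Fpf.restrict {g : Module.End F V} (hf : Fpf g) {U : Submodule F V}
    (hU : ∀ x ∈ U, g x ∈ U) : Fpf (g.restrict hU) := by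
  intro v hv
  apply Subtype.ext
  exact hf v.1 (congrArg Subtype.val hv)

/-- gluing similarities along an orthogonal decomposition. -/
theorem glue [FiniteDimensional F V] {Q : QuadraticForm F V} {g : Module.End F V}
    {U U' : Submodule F V} (hc : IsCompl U U')
    (hperp : ∀ u ∈ U, ∀ u' ∈ U', QuadraticMap.polar Q u u' = 0)
    (hU : ∀ x ∈ U, g x ∈ U) (hU' : ∀ x ∈ U', g x ∈ U')
    (c₁ : Module.End F U) (c₂ : Module.End F U') (ν : F) (k₁ k₂ : ℕ)
    (h₁ : c₁ * g.restrict hU = g.restrict hU * c₁)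
    (h₂ : c₂ * g.restrict hU' = g.restrict hU' * c₂)
    (hs₁ : ∀ u : U, Q (c₁ u : V) = ν * Q (u : V)) (hs₂ : ∀ u : U', Q (c₂ u : V) = ν * Q (u : V))
    (hf₁ : finrank F U = 2 * k₁) (hf₂ : finrank F U' = 2 * k₂)
    (hd₁ : LinearMap.det c₁ = ν ^ k₁) (hd₂ : LinearMap.det c₂ = ν ^ k₂) :
    ∃ c : Module.End F V, c * g = g * c ∧ (∀ v, Q (c v) = ν * Q v) ∧
      finrank F V = 2 * (k₁ + k₂) ∧ LinearMap.det c = ν ^ (k₁ + k₂) ∧
      (∀ u : U, c (u : V) = (c₁ u : V)) ∧ (∀ u : U', c (u : V) = (c₂ u : V)) := by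
  let e := Submodule.prodEquivOfIsCompl U U' hc
  have he : ∀ p : U × U', e p = (p.1 : V) + (p.2 : V) := fun p => rfl
  let c : Module.End F V := e.conj (c₁.prodMap c₂)
  have hcv : ∀ p : U × U', c (e p) = (c₁ p.1 : V) + (c₂ p.2 : V) := by
    intro p
    show e ((c₁.prodMap c₂) (e.symm (e p))) = _
    rw [LinearEquiv.symm_apply_apply, he]
    rfl
  refine ⟨c, ?_, ?_, ?_, ?_, ?_, ?_⟩
  · apply LinearMap.ext
    intro v
    obtain ⟨p, rfl⟩ := e.surjective v
    rw [Module.End.mul_apply, Module.End.mul_apply, hcv]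
    have hg : g (e p) = e (g.restrict hU p.1, g.restrict hU' p.2) := by
      rw [he, he, map_add]
      rfl
    rw [hg, hcv, map_add]
    have e1 := congrArg (fun f : Module.End F U => ((f p.1 : U) : V)) h₁
    have e2 := congrArg (fun f : Module.End F U' => ((f p.2 : U') : V)) h₂
    change ((c₁ (g.restrict hU p.1) : U) : V) = g (c₁ p.1 : V) at e1
    change ((c₂ (g.restrict hU' p.2) : U') : V) = g (c₂ p.2 : V) at e2
    show ((c₁ (g.restrict hU p.1) : U) : V) + ((c₂ (g.restrict hU' p.2) : U') : V) = _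
    rw [e1, e2]
  · intro v
    obtain ⟨p, rfl⟩ := e.surjective v
    rw [hcv, he]
    have q1 : ∀ a b : V, Q (a + b) = Q a + Q b + QuadraticMap.polar Q a b := by
      intro a b
      unfold QuadraticMap.polar
      ring
    rw [q1, q1, hperp _ (c₁ p.1).2 _ (c₂ p.2).2, hperp _ p.1.2 _ p.2.2, hs₁, hs₂]
    ring
  · rw [← e.finrank_eq, Module.finrank_prod, hf₁, hf₂]
    ring
  · show LinearMap.det (e.conj (c₁.prodMap c₂)) = _
    rw [LinearEquiv.conj_apply, LinearMap.comp_assoc, LinearMap.det_conj, LinearMap.det_prodMap,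
      hd₁, hd₂, pow_add]
  · intro u
    have := hcv (u, 0)
    rw [he] at this
    simpa using this
  · intro u
    have := hcv (0, u)
    rw [he] at this
    simpa using this

end Cfsg.Agent.Helper8.SsCls
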