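import Mathlib
import Cfsg.Agent.Helper8.SsClsH

set_option autoImplicit false
set_option linter.unusedSectionVars false

/-!
# Classes of semisimple elements of odd prime order in orthogonal groups, part I

Similarities commuting with an isometry of odd order without fixed vectors: induction on the
dimension.
-/

namespace Cfsg.Agent.Helper8.SsCls

open Module Cfsg.Agent.Helper8.QuadForm Cfsg.Agent.Helper8.WittQuad

universe u v

variable {F : Type v} [Field F] [Fintype F]

/-- **similarities commuting with a fixed-point-free isometry of odd order.** -/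
theorem exists_sim_fpf (n : ℕ) : ∀ (V : Type u) [AddCommGroup V] [Module F V]
    [FiniteDimensional F V] (Q : QuadraticForm F V) (g : Module.End F V) (r : ℕ),
    finrank F V = n → Std Q g r → Fpf g → ∀ ν : F,
    ∃ (c : Module.End F V) (k : ℕ), c * g = g * c ∧ (∀ v, Q (c v) = ν * Q v) ∧
      finrank F V = 2 * k ∧ LinearMap.det c = ν ^ k := by
  induction n using Nat.strong_induction_on with
  | _ n ih =>
    intro V _ _ _ Q g r hn h hf ν
    by_cases hV : Subsingleton V
    · refine ⟨1, 0, by rw [one_mul, mul_one], ?_, ?_, ?_⟩
      · intro v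
        rw [Subsingleton.elim v 0, map_zero, map_zero, mul_zero]
      · rw [mul_zero]
        exact Module.finrank_zero_of_subsingleton
      · rw [pow_zero, map_one]
    · have hnt : Nontrivial V := not_subsingleton_iff_nontrivial.mp hV
      by_cases hind : Indec Q g
      · exact h.exists_sim_indec hf hind ν
      · unfold Indec at hind
        push Not at hind
        obtain ⟨U, hU, hnd, hbot, htop⟩ := hind
        have hc := isCompl_perpS hnd
        have hU' := h.toIsoOrd.perpS_invariant hU
        have hnd' := nondegOn_perpS h.nondeg hnd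
        have hsum := Submodule.finrank_add_eq_of_isCompl hc
        have hlt : finrank F U < n := by
          rw [← hn]
          exact Submodule.finrank_lt htop
        have hpos : 0 < finrank F U := by
          rw [Module.finrank_pos_iff]
          exact (Submodule.nontrivial_iff_ne_bot).mpr hbot
        have hlt' : finrank F (perpS Q U) < n := by omega
        obtain ⟨c₁, k₁, hc₁, hs₁, hf₁, hd₁⟩ := ih _ hlt U (Q.comp U.subtype) (g.restrict hU) r rfl
          (h.restrict hU hnd) (hf.restrict hU) ν
        obtain ⟨c₂, k₂, hc₂, hs₂, hf₂, hd₂⟩ := ih _ hlt' (perpS Q U)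
          (Q.comp (perpS Q U).subtype) (g.restrict hU') r rfl
          (h.restrict hU' hnd') (hf.restrict hU') ν
        obtain ⟨c, hcg, hcs, hcf, hcd, -, -⟩ := glue hc
          (fun u hu u' hu' => (mem_perpS Q U u').mp hu' u hu) hU hU' c₁ c₂ ν k₁ k₂ hc₁ hc₂
          hs₁ hs₂ hf₁ hf₂ hd₁ hd₂
        exact ⟨c, k₁ + k₂, hcg, hcs, hcf, hcd⟩

end Cfsg.Agent.Helper8.SsCls
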