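import Mathlib
import Cfsg.Agent.Helper8.SsClsI

set_option autoImplicit false
set_option linter.unusedSectionVars false

/-!
# Classes of semisimple elements of odd prime order in orthogonal groups, part J

Similarities of a nondegenerate plane, and of a nondegenerate space of even dimension, with
prescribed multiplier and determinant the right power of the multiplier.
-/

namespace Cfsg.Agent.Helper8.SsCls

open Module Cfsg.Agent.Helper8.QuadForm Cfsg.Agent.Helper8.WittQuad

universe u v

variable {F : Type v} [Field F] [Fintype F]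

/-- an orthogonal pair of nonsingular vectors in a nondegenerate space of dimension at least
two. -/
theorem exists_orth_pair {V : Type u} [AddCommGroup V] [Module F V] [FiniteDimensional F V]
    (h2 : (2 : F) ≠ 0) (Q : QuadraticForm F V) (hQ : Nondeg Q) (hV : 2 ≤ finrank F V) :
    ∃ x y : V, Q x ≠ 0 ∧ Q y ≠ 0 ∧ QuadraticMap.polar Q x y = 0 := by
  have hnt : Nontrivial V := Module.nontrivial_of_finrank_pos (R := F) (by omega)
  obtain ⟨x, hx⟩ := exists_nonsing hQ
  have hxx : QuadraticMap.polar Q x x ≠ 0 := by
    rw [polar_self']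
    exact mul_ne_zero h2 hx
  have hnd := perpVec_nondeg Q hQ hxx
  have hfr := finrank_perpVec Q hxx
  have hnt' : Nontrivial (perpVec Q x) := Module.nontrivial_of_finrank_pos (R := F) (by omega)
  obtain ⟨y, hy⟩ := exists_nonsing ((nondeg_comp_subtype_iff Q _).mpr hnd)
  exact ⟨x, y.1, hx, hy, (mem_perpVec Q x y.1).mp y.2⟩

theorem li_orth_pair {V : Type u} [AddCommGroup V] [Module F V]
    (h2 : (2 : F) ≠ 0) (Q : QuadraticForm F V) {x y : V} (hx : Q x ≠ 0) (hy : Q y ≠ 0)
    (hxy : QuadraticMap.polar Q x y = 0) : LinearIndependent F ![x, y] := by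
  rw [LinearIndependent.pair_iff]
  intro s t hst
  have h1 : QuadraticMap.polar Q (s • x + t • y) x = 0 := by
    rw [hst, QuadraticMap.polar_zero_left]
  have h3 : QuadraticMap.polar Q (s • x + t • y) y = 0 := by
    rw [hst, QuadraticMap.polar_zero_left]
  rw [QuadraticMap.polar_add_left, QuadraticMap.polar_smul_left, QuadraticMap.polar_smul_left,
    polar_self', QuadraticMap.polar_comm Q y x, hxy, smul_zero, add_zero, smul_eq_mul] at h1
  rw [QuadraticMap.polar_add_left, QuadraticMap.polar_smul_left, QuadraticMap.polar_smul_left,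
    polar_self', hxy, smul_zero, zero_add, smul_eq_mul] at h3
  constructor
  · rcases mul_eq_zero.mp h1 with h | h
    · exact h
    · exact absurd h (mul_ne_zero h2 hx)
  · rcases mul_eq_zero.mp h3 with h | h
    · exact h
    · exact absurd h (mul_ne_zero h2 hy)

theorem nondegOn_span_pair {V : Type u} [AddCommGroup V] [Module F V]
    (h2 : (2 : F) ≠ 0) (Q : QuadraticForm F V) {x y : V} (hx : Q x ≠ 0) (hy : Q y ≠ 0)
    (hxy : QuadraticMap.polar Q x y = 0) : NondegOn Q (Submodule.span F {x, y}) := by
  intro v hv hvv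
  obtain ⟨s, t, rfl⟩ := Submodule.mem_span_pair.mp hv
  have h1 := hvv x (Submodule.subset_span (by simp))
  have h3 := hvv y (Submodule.subset_span (by simp))
  rw [QuadraticMap.polar_add_left, QuadraticMap.polar_smul_left, QuadraticMap.polar_smul_left,
    polar_self', QuadraticMap.polar_comm Q y x, hxy, smul_zero, add_zero, smul_eq_mul] at h1
  rw [QuadraticMap.polar_add_left, QuadraticMap.polar_smul_left, QuadraticMap.polar_smul_left,
    polar_self', hxy, smul_zero, zero_add, smul_eq_mul] at h3
  have hs : s = 0 := by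
    rcases mul_eq_zero.mp h1 with h | h
    · exact h
    · exact absurd h (mul_ne_zero h2 hx)
  have ht : t = 0 := by
    rcases mul_eq_zero.mp h3 with h | h
    · exact h
    · exact absurd h (mul_ne_zero h2 hy)
  rw [hs, ht]
  simp

/-- similarities of a nondegenerate plane. -/
theorem exists_sim_plane {P : Type u} [AddCommGroup P] [Module F P] [FiniteDimensional F P]
    (h2 : (2 : F) ≠ 0) (Q : QuadraticForm F P) (hQ : Nondeg Q) (hP : finrank F P = 2) (ν : F) :
    ∃ c : Module.End F P, (∀ v, Q (c v) = ν * Q v) ∧ LinearMap.det c = ν := by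
  classical
  obtain ⟨x, y, hx, hy, hxy⟩ := exists_orth_pair h2 Q hQ (by omega)
  -- the basis
  have hli : LinearIndependent F ![x, y] := li_orth_pair h2 Q hx hy hxy
  let bas : Basis (Fin 2) F P := basisOfLinearIndependentOfCardEqFinrank hli (by
    rw [hP]; rfl)
  have hb0 : bas 0 = x := by
    show (basisOfLinearIndependentOfCardEqFinrank hli _) 0 = x
    rw [coe_basisOfLinearIndependentOfCardEqFinrank]
    rfl
  have hb1 : bas 1 = y := by
    show (basisOfLinearIndependentOfCardEqFinrank hli _) 1 = y
    rw [coe_basisOfLinearIndependentOfCardEqFinrank]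
    rfl
  -- the form in coordinates
  have hQst : ∀ s t : F, Q (s • x + t • y) = Q x * s ^ 2 + Q y * t ^ 2 := by
    intro s t
    have : Q (s • x + t • y) = Q (s • x) + Q (t • y) + QuadraticMap.polar Q (s • x) (t • y) := by
      unfold QuadraticMap.polar
      ring
    rw [this, QuadraticMap.map_smul, QuadraticMap.map_smul, QuadraticMap.polar_smul_left,
      QuadraticMap.polar_smul_right, hxy]
    simp only [smul_eq_mul, mul_zero, add_zero]
    ring
  -- solving the norm equation
  have hdeg1 : (Polynomial.C (Q x) * Polynomial.X ^ 2 - Polynomial.C (ν * Q x)).degree = 2 := by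
    rw [Polynomial.degree_sub_eq_left_of_degree_lt]
    · exact Polynomial.degree_C_mul_X_pow 2 hx
    · rw [Polynomial.degree_C_mul_X_pow 2 hx]
      exact lt_of_le_of_lt Polynomial.degree_C_le (by norm_num)
  have hdeg2 : (Polynomial.C (Q y) * Polynomial.X ^ 2).degree = 2 :=
    Polynomial.degree_C_mul_X_pow 2 hy
  obtain ⟨α, γ, hαγ⟩ := FiniteField.exists_root_sum_quadratic hdeg1 hdeg2 (card_odd h2)
  simp only [Polynomial.eval_sub, Polynomial.eval_pow, Polynomial.eval_X, Polynomial.eval_C,
    Polynomial.eval_mul] at hαγ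
  let M : Matrix (Fin 2) (Fin 2) F := !![α, -(Q y * γ / Q x); γ, α]
  refine ⟨Matrix.toLin bas bas M, ?_, ?_⟩
  · intro v
    have hv : v = bas.repr v 0 • x + bas.repr v 1 • y := by
      have := (bas.sum_repr v).symm
      rw [Fin.sum_univ_two, hb0, hb1] at this
      exact this
    obtain ⟨s, t, rfl⟩ : ∃ s t : F, v = s • x + t • y := ⟨_, _, hv⟩
    have hc : Matrix.toLin bas bas M (s • x + t • y)
        = (α * s - Q y * γ / Q x * t) • x + (γ * s + α * t) • y := by
      rw [map_add, map_smul, map_smul, ← hb0, ← hb1, Matrix.toLin_self, Matrix.toLin_self,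
        Fin.sum_univ_two, Fin.sum_univ_two, hb0, hb1]
      simp only [M, Matrix.of_apply, Matrix.cons_val', Matrix.cons_val_zero, Matrix.cons_val_one,
        Matrix.cons_val_fin_one]
      module
    rw [hc, hQst, hQst]
    field_simp
    linear_combination (Q x * s ^ 2 + Q y * t ^ 2) * hαγ
  · rw [LinearMap.det_toLin, Matrix.det_fin_two]
    simp only [M, Matrix.of_apply, Matrix.cons_val', Matrix.cons_val_zero, Matrix.cons_val_one,
      Matrix.cons_val_fin_one]
    field_simp
    linear_combination hαγ

theorem restrict_one {V : Type u} [AddCommGroup V] [Module F V] (U : Submodule F V)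
    (hU : ∀ x ∈ U, (1 : Module.End F V) x ∈ U) : (1 : Module.End F V).restrict hU = 1 := by
  apply LinearMap.ext
  intro v
  rfl

/-- **similarities of a nondegenerate space of even dimension.** -/
theorem exists_sim_even (h2 : (2 : F) ≠ 0) (n : ℕ) : ∀ (V : Type u) [AddCommGroup V] [Module F V]
    [FiniteDimensional F V] (Q : QuadraticForm F V), Nondeg Q → finrank F V = 2 * n → ∀ ν : F,
    ∃ c : Module.End F V, (∀ v, Q (c v) = ν * Q v) ∧ LinearMap.det c = ν ^ n := by
  induction n with
  | zero =>
    intro V _ _ _ Q _ hV ν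
    have hsub : Subsingleton V := by
      rw [← Module.finrank_zero_iff (R := F)]
      rw [hV]
    refine ⟨1, ?_, by rw [pow_zero, map_one]⟩
    intro v
    rw [Subsingleton.elim v 0, map_zero, map_zero, mul_zero]
  | succ n ih =>
    intro V _ _ _ Q hQ hV ν
    obtain ⟨x, y, hx, hy, hxy⟩ := exists_orth_pair h2 Q hQ (by omega)
    have hnd := nondegOn_span_pair h2 Q hx hy hxy
    have hc := isCompl_perpS hnd
    have hnd' := nondegOn_perpS hQ hnd
    have hsum := Submodule.finrank_add_eq_of_isCompl hc
    have hfr : finrank F (Submodule.span F {x, y}) = 2 := by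
      have := finrank_span_eq_card (li_orth_pair h2 Q hx hy hxy)
      rw [Fintype.card_fin] at this
      have hr : Set.range ![x, y] = {x, y} := by
        ext z
        simp [eq_comm, or_comm]
      rw [hr] at this
      exact this
    have hfr' : finrank F (perpS Q (Submodule.span F {x, y})) = 2 * n := by omega
    obtain ⟨c₁, hs₁, hd₁⟩ := exists_sim_plane h2 (Q.comp (Submodule.span F {x, y}).subtype)
      ((nondeg_comp_subtype_iff Q _).mpr hnd) hfr ν
    obtain ⟨c₂, hs₂, hd₂⟩ := ih (perpS Q (Submodule.span F {x, y}))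
      (Q.comp (perpS Q (Submodule.span F {x, y})).subtype)
      ((nondeg_comp_subtype_iff Q _).mpr hnd') hfr' ν
    have hU : ∀ z ∈ Submodule.span F {x, y}, (1 : Module.End F V) z ∈ Submodule.span F {x, y} :=
      fun z hz => hz
    have hU' : ∀ z ∈ perpS Q (Submodule.span F {x, y}),
        (1 : Module.End F V) z ∈ perpS Q (Submodule.span F {x, y}) := fun z hz => hz
    obtain ⟨c, -, hcs, -, hcd, -, -⟩ := glue (g := 1) hc
      (fun u hu u' hu' => (mem_perpS Q _ u').mp hu' u hu) hU hU' c₁ c₂ ν 1 n
      (by rw [restrict_one, mul_one, one_mul]) (by rw [restrict_one, mul_one, one_mul])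
      hs₁ hs₂ (by rw [hfr]) hfr' (by rw [hd₁, pow_one]) hd₂
    refine ⟨c, hcs, ?_⟩
    rw [hcd, add_comm]

end Cfsg.Agent.Helper8.SsCls
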