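import Mathlib
import Cfsg.Agent.Helper8.SsClsA

set_option autoImplicit false

/-!
# Classes of semisimple elements of odd prime order in orthogonal groups, part K

Permutations acting freely, and the arithmetic deciding the type of the form.
-/

namespace Cfsg.Agent.Helper8.SsCls

/-- a permutation of order dividing `N` none of whose proper powers has a fixed point: `N` divides
the cardinality. -/
theorem dvd_card_of_free {α : Type*} [Fintype α] [DecidableEq α] (σ : Equiv.Perm α) (N : ℕ)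
    (hN0 : 0 < N) (hN : σ ^ N = 1) (hfree : ∀ j, 0 < j → j < N → ∀ x, (σ ^ j) x ≠ x) :
    N ∣ Fintype.card α := by
  rcases Nat.lt_or_ge 1 N with h1 | h1
  · have hall : ∀ n ∈ σ.cycleType, n = N := by
      intro n hn
      have hdvd : n ∣ N := (Equiv.Perm.dvd_of_mem_cycleType hn).trans (orderOf_dvd_of_pow_eq_one hN)
      have hle : n ≤ N := Nat.le_of_dvd (by omega) hdvd
      by_contra hne
      have hlt : n < N := lt_of_le_of_ne hle hne
      have hpos : 0 < n := by
        have := Equiv.Perm.two_le_of_mem_cycleType hn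
        omega
      obtain ⟨c, τ, hστ, hd, hc, hcard⟩ := Equiv.Perm.mem_cycleType_iff.mp hn
      obtain ⟨x, hx⟩ := pow_apply_of_cycle_factor hστ hd hc (m := n) (by rw [hcard])
      exact hfree n hpos hlt x hx
    have hrep : σ.cycleType = Multiset.replicate (Multiset.card σ.cycleType) N :=
      Multiset.eq_replicate_card.mpr hall
    have hsupp : σ.support = Finset.univ := by
      rw [Finset.eq_univ_iff_forall]
      intro x
      rw [Equiv.Perm.mem_support]
      intro hx
      exact hfree 1 (by omega) h1 x (by rw [pow_one]; exact hx)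
    have hsum : σ.cycleType.sum = Fintype.card α := by
      rw [Equiv.Perm.sum_cycleType, hsupp, Finset.card_univ]
    refine ⟨Multiset.card σ.cycleType, ?_⟩
    rw [← hsum]
    nth_rewrite 1 [hrep]
    rw [Multiset.sum_replicate, smul_eq_mul, mul_comm]
  · have : N = 1 := by omega
    rw [this]
    exact one_dvd _

/-- the arithmetic deciding the type: `Q - ε' ∣ q^k (Q - s)` with `Q = q^(k+1)` forces `s = ε'`. -/
theorem type_arith {q k : ℕ} (hq : 2 ≤ q) (hqo : q % 2 = 1) {s e : ℤ} (hs : s = 1 ∨ s = -1) (he : e = 1 ∨ e = -1)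
    (hQ3 : e = 1 → q ^ (k + 1) ≠ 3)
    (hdvd : ((q : ℤ) ^ (k + 1) - e) ∣ (q : ℤ) ^ k * ((q : ℤ) ^ (k + 1) - s)) : s = e := by
  by_contra hne
  have hQ : (2 : ℤ) ≤ (q : ℤ) ^ (k + 1) := by
    have h1 : (2 : ℤ) ≤ q := by exact_mod_cast hq
    calc (2 : ℤ) ≤ q := h1
      _ = (q : ℤ) ^ 1 := (pow_one _).symm
      _ ≤ (q : ℤ) ^ (k + 1) := pow_le_pow_right₀ (by omega) (by omega)
  -- `Q - e` is coprime to `q^k`
  have hcop : IsCoprime ((q : ℤ) ^ (k + 1) - e) ((q : ℤ) ^ k) := by
    apply IsCoprime.pow_right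
    have : IsCoprime ((q : ℤ) ^ (k + 1) - e) (q : ℤ) := by
      rcases he with he | he
      · refine ⟨-1, (q : ℤ) ^ k, ?_⟩
        rw [he, pow_succ]
        ring
      · refine ⟨1, -(q : ℤ) ^ k, ?_⟩
        rw [he, pow_succ]
        ring
    exact this
  have hdvd2 : ((q : ℤ) ^ (k + 1) - e) ∣ ((q : ℤ) ^ (k + 1) - s) := hcop.dvd_of_dvd_mul_left hdvd
  have hdiff : ((q : ℤ) ^ (k + 1) - e) ∣ (e - s) := by
    have := dvd_sub hdvd2 (dvd_refl ((q : ℤ) ^ (k + 1) - e))
    have e1 : (q : ℤ) ^ (k + 1) - s - ((q : ℤ) ^ (k + 1) - e) = e - s := by ring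
    rw [e1] at this
    exact this
  rcases hs with hs | hs <;> rcases he with he | he
  · exact hne (by rw [hs, he])
  · -- `s = 1`, `e = -1`: `Q + 1 ∣ -2`
    rw [hs, he] at hdiff
    have h2 : (q : ℤ) ^ (k + 1) - -1 ≤ 2 := by
      have := Int.le_of_dvd (by norm_num) ((dvd_neg (a := (q : ℤ) ^ (k + 1) - -1) (b := 2)).mp
        (by norm_num at hdiff ⊢; exact hdiff))
      exact this
    omega
  · -- `s = -1`, `e = 1`: `Q - 1 ∣ 2`
    rw [hs, he] at hdiff
    have h2 : (q : ℤ) ^ (k + 1) - 1 ≤ 2 := by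
      have := Int.le_of_dvd (by norm_num) (by norm_num at hdiff ⊢; exact hdiff :
        (q : ℤ) ^ (k + 1) - 1 ∣ 2)
      exact this
    have h3 := hQ3 he
    have h4 : (q : ℤ) ^ (k + 1) ≠ 3 := by exact_mod_cast h3
    have h5 : (q : ℤ) ^ (k + 1) = 2 := by omega
    have h6 : q ^ (k + 1) = 2 := by exact_mod_cast h5
    have h7 : q ^ (k + 1) % 2 = 1 := by
      rw [Nat.pow_mod, hqo, one_pow]
      rfl
    omega
  · exact hne (by rw [hs, he])

end Cfsg.Agent.Helper8.SsCls
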