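import Mathlib
import Cfsg.Agent.Helper8.SsClsJ
import Cfsg.Agent.Helper8.SsClsK

set_option autoImplicit false
set_option linter.unusedSectionVars false

/-!
# Classes of semisimple elements of odd prime order in orthogonal groups, part L

The commutative ring of the elements `a + b g` and the norm to `F[s]`.
-/

namespace Cfsg.Agent.Helper8.SsCls

open Module Cfsg.Agent.Helper8.QuadForm Cfsg.Agent.Helper8.WittQuad

variable {F : Type*} [Field F] {V : Type*} [AddCommGroup V] [Module F V]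

/-- `c` is of the form `a + b g` with `a`, `b` in `F[s]`. -/
def InA (g : Module.End F V) (r : ℕ) (c : Module.End F V) : Prop :=
  ∃ a ∈ A0 g r, ∃ b ∈ A0 g r, c = cOf g a b

/-- `n` in `F[s]` is the norm of `c`. -/
def IsNorm (Q : QuadraticForm F V) (g : Module.End F V) (r : ℕ) (c n : Module.End F V) : Prop :=
  n ∈ A0 g r ∧ ∀ v w, QuadraticMap.polar Q (c v) (c w) = QuadraticMap.polar Q (n v) w

theorem inA_of_mem {g : Module.End F V} {r : ℕ} {a : Module.End F V} (ha : a ∈ A0 g r) :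
    InA g r a :=
  ⟨a, ha, 0, Subalgebra.zero_mem _, by unfold cOf; rw [zero_mul, add_zero]⟩

theorem inA_one (g : Module.End F V) (r : ℕ) : InA g r 1 := inA_of_mem (Subalgebra.one_mem _)

theorem inA_g (g : Module.End F V) (r : ℕ) : InA g r g :=
  ⟨0, Subalgebra.zero_mem _, 1, Subalgebra.one_mem _, by unfold cOf; rw [one_mul, zero_add]⟩

theorem InA.sub_one {g : Module.End F V} {r : ℕ} {c : Module.End F V} (hc : InA g r c) :
    InA g r (c - 1) := by
  obtain ⟨a, ha, b, hb, rfl⟩ := hc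
  refine ⟨a - 1, Subalgebra.sub_mem _ ha (Subalgebra.one_mem _), b, hb, ?_⟩
  unfold cOf
  abel

theorem nOf_mem {g : Module.End F V} {r : ℕ} {a b : Module.End F V} (ha : a ∈ A0 g r)
    (hb : b ∈ A0 g r) : nOf g r a b ∈ A0 g r := by
  unfold nOf
  exact Subalgebra.add_mem _ (Subalgebra.add_mem _ (Subalgebra.mul_mem _ ha ha)
    (Subalgebra.mul_mem _ (Subalgebra.mul_mem _ (sOf_mem g r) ha) hb)) (Subalgebra.mul_mem _ hb hb)

namespace IsoOrd

variable {Q : QuadraticForm F V} {g : Module.End F V} {r : ℕ}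

theorem cOf_mul (h : IsoOrd Q g r) {a b a' b' : Module.End F V} (_ha : a ∈ A0 g r)
    (_hb : b ∈ A0 g r) (ha' : a' ∈ A0 g r) (hb' : b' ∈ A0 g r) :
    cOf g a b * cOf g a' b' = cOf g (a * a' - b * b') (a * b' + b * a' + b * b' * sOf g r) := by
  unfold cOf
  have e1 : g * a' = a' * g := (h.comm_of_mem ha').symm
  have e2 : g * b' = b' * g := (h.comm_of_mem hb').symm
  have e3 := h.sq_eq
  have e4 : sOf g r * g = g * sOf g r := h.sOf_comm
  calc (a + b * g) * (a' + b' * g)
      = a * a' + a * b' * g + b * (g * a') + b * (g * b') * g := by noncomm_ring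
    _ = a * a' + a * b' * g + b * a' * g + b * b' * (g * g) := by rw [e1, e2]; noncomm_ring
    _ = a * a' + a * b' * g + b * a' * g + b * b' * (sOf g r * g - 1) := by rw [e3]
    _ = a * a' - b * b' + (a * b' + b * a' + b * b' * sOf g r) * g := by noncomm_ring

theorem inA_mul (h : IsoOrd Q g r) {c c' : Module.End F V} (hc : InA g r c) (hc' : InA g r c') :
    InA g r (c * c') := by
  obtain ⟨a, ha, b, hb, rfl⟩ := hc
  obtain ⟨a', ha', b', hb', rfl⟩ := hc'
  refine ⟨_, ?_, _, ?_, h.cOf_mul ha hb ha' hb'⟩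
  · exact Subalgebra.sub_mem _ (Subalgebra.mul_mem _ ha ha') (Subalgebra.mul_mem _ hb hb')
  · exact Subalgebra.add_mem _ (Subalgebra.add_mem _ (Subalgebra.mul_mem _ ha hb')
      (Subalgebra.mul_mem _ hb ha')) (Subalgebra.mul_mem _ (Subalgebra.mul_mem _ hb hb')
      (sOf_mem g r))

theorem inA_pow (h : IsoOrd Q g r) {c : Module.End F V} (hc : InA g r c) (k : ℕ) :
    InA g r (c ^ k) := by
  induction k with
  | zero => rw [pow_zero]; exact inA_one g r
  | succ k ih => rw [pow_succ]; exact h.inA_mul ih hc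

theorem inA_comm_g (h : IsoOrd Q g r) {c : Module.End F V} (hc : InA g r c) : c * g = g * c := by
  obtain ⟨a, ha, b, hb, rfl⟩ := hc
  exact h.cOf_comm ha hb

theorem inA_comm_mem (h : IsoOrd Q g r) {c n : Module.End F V} (hc : InA g r c)
    (hn : n ∈ A0 g r) : n * c = c * n := by
  obtain ⟨a, ha, b, hb, rfl⟩ := hc
  unfold cOf
  rw [mul_add, add_mul, mem_comm hn ha, ← mul_assoc, mem_comm hn hb, mul_assoc, mul_assoc,
    h.comm_of_mem hn]

theorem inA_comm (h : IsoOrd Q g r) {c c' : Module.End F V} (hc : InA g r c) (hc' : InA g r c') :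
    c * c' = c' * c := by
  obtain ⟨a, ha, b, hb, rfl⟩ := hc
  unfold cOf
  rw [add_mul, mul_add, h.inA_comm_mem hc' ha, mul_assoc, ← h.inA_comm_g hc', ← mul_assoc,
    h.inA_comm_mem hc' hb, mul_assoc]

theorem isNorm_cOf (h : IsoOrd Q g r) {a b : Module.End F V} (ha : a ∈ A0 g r) (hb : b ∈ A0 g r) :
    IsNorm Q g r (cOf g a b) (nOf g r a b) :=
  ⟨nOf_mem ha hb, h.polar_cOf ha hb⟩

theorem exists_isNorm (h : IsoOrd Q g r) {c : Module.End F V} (hc : InA g r c) :
    ∃ n, IsNorm Q g r c n := by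
  obtain ⟨a, ha, b, hb, rfl⟩ := hc
  exact ⟨_, h.isNorm_cOf ha hb⟩

theorem isNorm_one (_h : IsoOrd Q g r) : IsNorm Q g r 1 1 :=
  ⟨Subalgebra.one_mem _, fun _ _ => rfl⟩

theorem isNorm_mul (h : IsoOrd Q g r) {c c' n n' : Module.End F V} (hc' : InA g r c')
    (hn : IsNorm Q g r c n) (hn' : IsNorm Q g r c' n') : IsNorm Q g r (c * c') (n * n') := by
  refine ⟨Subalgebra.mul_mem _ hn.1 hn'.1, ?_⟩
  intro v w
  rw [Module.End.mul_apply, Module.End.mul_apply, hn.2]
  have e1 : n (c' v) = c' (n v) :=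
    congrArg (fun f : Module.End F V => f v) (h.inA_comm_mem hc' hn.1)
  rw [e1, hn'.2]
  have e2 : n' (n v) = (n * n') v :=
    (congrArg (fun f : Module.End F V => f v) (mem_comm hn.1 hn'.1)).symm
  rw [e2]

theorem isNorm_pow (h : IsoOrd Q g r) {c n : Module.End F V} (hc : InA g r c)
    (hn : IsNorm Q g r c n) (k : ℕ) : IsNorm Q g r (c ^ k) (n ^ k) := by
  induction k with
  | zero => rw [pow_zero, pow_zero]; exact h.isNorm_one
  | succ k ih => rw [pow_succ, pow_succ]; exact h.isNorm_mul hc ih hn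

end IsoOrd

namespace Std

variable {Q : QuadraticForm F V} {g : Module.End F V} {r : ℕ}

theorem isom_of_isNorm (h : Std Q g r) {c : Module.End F V} (hn : IsNorm Q g r c 1) (v : V) :
    Q (c v) = Q v := by
  have h1 := hn.2 v v
  rw [Module.End.one_apply, polar_self', polar_self'] at h1
  exact mul_left_cancel₀ h.h2 h1

theorem injective_of_isNorm (h : Std Q g r) {c n : Module.End F V} (hn : IsNorm Q g r c n)
    (hinj : ∀ v, n v = 0 → v = 0) (v : V) (hv : c v = 0) : v = 0 := by
  apply hinj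
  apply h.nondeg
  intro w
  rw [← hn.2, hv, QuadraticMap.polar_zero_left]

theorem isNorm_unique (h : Std Q g r) {c n n' : Module.End F V} (hn : IsNorm Q g r c n)
    (hn' : IsNorm Q g r c n') : n = n' := by
  apply LinearMap.ext
  intro v
  rw [← sub_eq_zero]
  apply h.nondeg
  intro w
  rw [QuadraticMap.polar_sub_left, ← hn.2, ← hn'.2, sub_self]

end Std

end Cfsg.Agent.Helper8.SsCls
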