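import Mathlib
import Cfsg.Agent.Helper8.SsClsL
import Cfsg.Agent.Helper8.SpinorSign
import Cfsg.Agent.Helper8.OrTIso

set_option autoImplicit false
set_option linter.unusedSectionVars false
set_option linter.style.haveILetI false

/-!
# Classes of semisimple elements of odd prime order in orthogonal groups, part M

From a cyclic group of isometries commuting with `g`, acting freely on the nonzero vectors, of
order `q^(k+1) ∓ 1` in dimension `2(k+1)`: an isometry commuting with `g` on which all the sign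
characters take the value `-1`.
-/

namespace Cfsg.Agent.Helper8.SsCls

open Module Cfsg.Agent.Helper8.QuadForm Cfsg.Agent.Helper8.WittQuad
  Cfsg.Agent.Helper8.OrthOrder Cfsg.Agent.Helper8.SpinorSign Cfsg.Agent.Helper8.OrT

universe u v

variable {F : Type v} [Field F] [Fintype F] {V : Type u} [AddCommGroup V] [Module F V]
  [FiniteDimensional F V]

/-- an endomorphism of finite order as a linear equivalence. -/
noncomputable def equivOfPow (D : Module.End F V) (N : ℕ) (hN : 0 < N) (hpow : D ^ N = 1) :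
    V ≃ₗ[F] V :=
  LinearEquiv.ofLinearMap D (D ^ (N - 1))
    (by
      show D * D ^ (N - 1) = 1
      rw [← pow_succ', Nat.sub_add_cancel hN, hpow])
    (by
      show D ^ (N - 1) * D = 1
      rw [← pow_succ, Nat.sub_add_cancel hN, hpow])

theorem equivOfPow_apply (D : Module.End F V) (N : ℕ) (hN : 0 < N) (hpow : D ^ N = 1) (v : V) :
    equivOfPow D N hN hpow v = D v := rfl

theorem equivOfPow_pow (D : Module.End F V) (N : ℕ) (hN : 0 < N) (hpow : D ^ N = 1) (j : ℕ)
    (v : V) : (equivOfPow D N hN hpow ^ j) v = (D ^ j) v := by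
  induction j generalizing v with
  | zero => simp
  | succ j ih =>
    rw [pow_succ, pow_succ, LinearEquiv.mul_apply, Module.End.mul_apply, ih, equivOfPow_apply]

theorem signHom_eq (Q : QuadraticForm F V) (c : F) [Fintype {x : V // Q x = c}]
    [DecidableEq {x : V // Q x = c}] (D : ↥(Isom Q)) :
    SpinorSign.signHom Q c D = Equiv.Perm.sign (permHom Q c D) := by
  unfold SpinorSign.signHom
  rw [MonoidHom.comp_apply]
  congr!

theorem lev_eq_card (Q : QuadraticForm F V) (c : F) [Fintype {x : V // Q x = c}] :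
    lev Q c = Fintype.card {x : V // Q x = c} := by
  unfold lev
  rw [Nat.card_eq_fintype_card]

theorem exists_odd_sign {Q : QuadraticForm F V} {g : Module.End F V} {r : ℕ} (h : Std Q g r)
    (D₀ : Module.End F V) (N₀ : ℕ) (hD : InA g r D₀) (hDn : IsNorm Q g r D₀ 1)
    (hpow : D₀ ^ N₀ = 1) (hfree : ∀ j, 0 < j → j < N₀ → ∀ v, (D₀ ^ j) v = v → v = 0)
    (k : ℕ) (hV : finrank F V = 2 * (k + 1)) (e : ℤ) (he : e = 1 ∨ e = -1)
    (hN₀ : (N₀ : ℤ) = (Fintype.card F : ℤ) ^ (k + 1) - e)
    (hQ3 : e = 1 → Fintype.card F ^ (k + 1) ≠ 3) :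
    ∃ D : ↥(Isom Q), (∀ v, D.1 (g v) = g (D.1 v)) ∧ ∀ c : F, c ≠ 0 → SpinorSign.signHom Q c D = -1 := by
  classical
  have hfinV : Finite V := Module.finite_of_finite F
  have hq2 : 2 ≤ Fintype.card F := Fintype.one_lt_card
  have hqo : Fintype.card F % 2 = 1 := card_odd h.h2
  have hQge : (2 : ℤ) ≤ (Fintype.card F : ℤ) ^ (k + 1) := by
    have h1 : (2 : ℤ) ≤ (Fintype.card F : ℤ) := by exact_mod_cast hq2
    calc (2 : ℤ) ≤ (Fintype.card F : ℤ) := h1
      _ = (Fintype.card F : ℤ) ^ 1 := (pow_one _).symm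
      _ ≤ (Fintype.card F : ℤ) ^ (k + 1) := pow_le_pow_right₀ (by omega) (by omega)
  have hQodd : (Fintype.card F ^ (k + 1)) % 2 = 1 := by
    rw [Nat.pow_mod, hqo, one_pow]
    rfl
  have hN0pos : 0 < N₀ := by
    have : (0 : ℤ) < (N₀ : ℤ) := by
      rw [hN₀]
      rcases he with he | he <;> rw [he] <;> omega
    exact_mod_cast this
  -- the isometry
  let Diso : ↥(Isom Q) := ⟨equivOfPow D₀ N₀ hN0pos hpow, fun v => h.isom_of_isNorm hDn v⟩
  have hDpow : ∀ (j : ℕ) (v : V), (Diso ^ j).1 v = (D₀ ^ j) v := by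
    intro j v
    rw [Subgroup.coe_pow]
    exact equivOfPow_pow D₀ N₀ hN0pos hpow j v
  have hDN : Diso ^ N₀ = 1 := by
    apply Subtype.ext
    apply LinearEquiv.ext
    intro v
    rw [hDpow, hpow]
    rfl
  -- the type of the form
  obtain ⟨s, hs, hnu⟩ : ∃ s : ℤ, (s = 1 ∨ s = -1) ∧ NuS s Q k := by
    rcases dichotomy k hV Q h.nondeg with ⟨h1, -⟩ | ⟨h1, -⟩
    · exact ⟨1, Or.inl rfl, h1⟩
    · exact ⟨-1, Or.inr rfl, h1⟩
  have hlev : ∀ c : F, c ≠ 0 → (lev Q c : ℤ)
      = (Fintype.card F : ℤ) ^ k * ((Fintype.card F : ℤ) ^ (k + 1) - s) := by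
    intro c hc
    rw [lev_of_nuS k hV Q h.nondeg s hnu hc]
    ring
  -- `N₀` divides the size of a level set
  have hdvd1 : N₀ ∣ lev Q 1 := by
    letI : Fintype {x : V // Q x = 1} := Fintype.ofFinite _
    rw [lev_eq_card]
    apply dvd_card_of_free (permHom Q 1 Diso) N₀ hN0pos
    · rw [← map_pow, hDN, map_one]
    · intro j hj hjN x hx
      rw [← map_pow] at hx
      have h1 : ((permHom Q 1 (Diso ^ j) x : {x : V // Q x = 1}) : V) = x.1 :=
        congrArg Subtype.val hx
      rw [permHom_apply, hDpow] at h1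
      have h3 := hfree j hj hjN x.1 h1
      have h4 := x.2
      rw [h3, map_zero] at h4
      exact zero_ne_one h4
  have hse : s = e := by
    apply type_arith hq2 hqo hs he hQ3
    rw [← hN₀, ← hlev 1 one_ne_zero]
    exact_mod_cast hdvd1
  -- the two-part of `N₀`
  obtain ⟨a', m, hm, hNm⟩ := Nat.exists_eq_two_pow_mul_odd hN0pos.ne'
  have hNeven : N₀ % 2 = 0 := by
    have h1 : ((N₀ : ℤ)) % 2 = 0 := by
      rw [hN₀]
      have h2 : ((Fintype.card F : ℤ) ^ (k + 1)) % 2 = 1 := by exact_mod_cast hQodd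
      rcases he with he | he <;> rw [he] <;> omega
    exact_mod_cast h1
  obtain ⟨a, rfl⟩ : ∃ a, a' = a + 1 := by
    rcases Nat.eq_zero_or_pos a' with h0 | h0
    · exfalso
      rw [h0, pow_zero, one_mul] at hNm
      obtain ⟨t, ht⟩ := hm
      omega
    · exact ⟨a' - 1, by omega⟩
  have hmpos : 0 < m := hm.pos
  -- the half power acts as `-1`
  have hhalf : ∀ v, (D₀ ^ (m * 2 ^ a)) v = -v := by
    intro v
    have hEE : D₀ ^ (m * 2 ^ a) * D₀ ^ (m * 2 ^ a) = 1 := by
      rw [← pow_add, ← hpow]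
      congr 1
      rw [hNm, pow_succ]
      ring
    have hw : (D₀ ^ (m * 2 ^ a)) ((D₀ ^ (m * 2 ^ a)) v + v) = (D₀ ^ (m * 2 ^ a)) v + v := by
      rw [map_add]
      have := congrArg (fun f : Module.End F V => f v) hEE
      change (D₀ ^ (m * 2 ^ a)) ((D₀ ^ (m * 2 ^ a)) v) = v at this
      rw [this, add_comm]
    have h0 := hfree (m * 2 ^ a) (by positivity) (by
      rw [hNm, pow_succ]
      have : 0 < m * 2 ^ a := by positivity
      nlinarith) _ hw
    exact eq_neg_of_add_eq_zero_left h0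
  refine ⟨Diso ^ m, ?_, ?_⟩
  · intro v
    rw [hDpow, hDpow]
    have := congrArg (fun f : Module.End F V => f v) (h.toIsoOrd.inA_comm_g (h.toIsoOrd.inA_pow hD m))
    exact this
  · intro c hc
    letI : Fintype {x : V // Q x = c} := Fintype.ofFinite _
    rw [signHom_eq]
    have hσ1 : permHom Q c (Diso ^ m) ^ 2 ^ (a + 1) = 1 := by
      rw [← map_pow, ← pow_mul, mul_comm, ← hNm, hDN, map_one]
    have hσ2 : ∀ x, (permHom Q c (Diso ^ m) ^ 2 ^ a) x ≠ x := by
      intro x hx
      rw [← map_pow, ← pow_mul] at hx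
      have h1 : ((permHom Q c (Diso ^ (m * 2 ^ a)) x : {x : V // Q x = c}) : V) = x.1 :=
        congrArg Subtype.val hx
      rw [permHom_apply, hDpow, hhalf] at h1
      have h2 : (2 : F) • x.1 = 0 := by
        rw [two_smul]
        nth_rewrite 1 [← h1]
        exact neg_add_cancel _
      have h3 := (smul_eq_zero.mp h2).resolve_left h.h2
      have h4 := x.2
      rw [h3, map_zero] at h4
      exact hc h4.symm
    obtain ⟨-, hsign⟩ := sign_of_semiregular _ a hσ1 hσ2
    rw [hsign]
    have hcard : Fintype.card {x : V // Q x = c} = Fintype.card F ^ k * m * 2 ^ (a + 1) := by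
      have h1 := hlev c hc
      rw [hse, ← hN₀, lev_eq_card, hNm] at h1
      have h2 : ((Fintype.card {x : V // Q x = c} : ℕ) : ℤ)
          = ((Fintype.card F ^ k * m * 2 ^ (a + 1) : ℕ) : ℤ) := by
        rw [h1]
        push_cast
        ring
      exact_mod_cast h2
    rw [hcard, Nat.mul_div_cancel _ (by positivity)]
    have hoddprod : Odd (Fintype.card F ^ k * m) := by
      apply Odd.mul _ hm
      apply Odd.pow
      exact Nat.odd_iff.mpr hqo
    exact hoddprod.neg_one_pow

end Cfsg.Agent.Helper8.SsCls
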