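import Mathlib
import Cfsg.Agent.Helper8.SsClsM

set_option autoImplicit false
set_option linter.unusedSectionVars false

/-!
# Classes of semisimple elements of odd prime order in orthogonal groups, part N

The commutative algebra `F[g]`, the inclusion of `F[s]`, and adjoints.
-/

namespace Cfsg.Agent.Helper8.SsCls

open Module Cfsg.Agent.Helper8.QuadForm Cfsg.Agent.Helper8.WittQuad
open scoped IsMulCommutative

variable {F : Type*} [Field F] {V : Type*} [AddCommGroup V] [Module F V]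

/-- the algebra `F[g]`. -/
noncomputable abbrev A1 (g : Module.End F V) : Subalgebra F (Module.End F V) :=
  Algebra.adjoin F {g}

theorem g_mem_A1 (g : Module.End F V) : g ∈ A1 g := Algebra.self_mem_adjoin_singleton F g

/-- `g` as an element of `F[g]`. -/
noncomputable def gElt (g : Module.End F V) : ↥(A1 g) := ⟨g, g_mem_A1 g⟩

theorem A0_le_A1 (g : Module.End F V) (r : ℕ) : A0 g r ≤ A1 g := by
  apply Algebra.adjoin_le
  intro z hz
  rw [Set.mem_singleton_iff] at hz
  rw [hz]
  unfold sOf ginv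
  exact Subalgebra.add_mem _ (g_mem_A1 g) (Subalgebra.pow_mem _ (g_mem_A1 g) _)

/-- the inclusion of `F[s]` in `F[g]`. -/
noncomputable def incl (g : Module.End F V) (r : ℕ) : ↥(A0 g r) →ₐ[F] ↥(A1 g) :=
  Subalgebra.inclusion (A0_le_A1 g r)

theorem incl_val (g : Module.End F V) (r : ℕ) (a : ↥(A0 g r)) : (incl g r a).1 = a.1 :=
  Subalgebra.coe_inclusion (A0_le_A1 g r) a

/-- the adjoint relation. -/
def Adj (Q : QuadraticForm F V) (c c' : Module.End F V) : Prop :=
  ∀ v w, QuadraticMap.polar Q (c v) w = QuadraticMap.polar Q v (c' w)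

theorem Adj.add {Q : QuadraticForm F V} {c₁ c₁' c₂ c₂' : Module.End F V} (h₁ : Adj Q c₁ c₁')
    (h₂ : Adj Q c₂ c₂') : Adj Q (c₁ + c₂) (c₁' + c₂') := by
  intro v w
  rw [LinearMap.add_apply, LinearMap.add_apply, QuadraticMap.polar_add_left,
    QuadraticMap.polar_add_right, h₁, h₂]

theorem Adj.sub {Q : QuadraticForm F V} {c₁ c₁' c₂ c₂' : Module.End F V} (h₁ : Adj Q c₁ c₁')
    (h₂ : Adj Q c₂ c₂') : Adj Q (c₁ - c₂) (c₁' - c₂') := by
  intro v w
  rw [LinearMap.sub_apply, LinearMap.sub_apply, QuadraticMap.polar_sub_left,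
    QuadraticMap.polar_sub_right, h₁, h₂]

theorem Adj.mul {Q : QuadraticForm F V} {c₁ c₁' c₂ c₂' : Module.End F V} (h₁ : Adj Q c₁ c₁')
    (h₂ : Adj Q c₂ c₂') : Adj Q (c₁ * c₂) (c₂' * c₁') := by
  intro v w
  rw [Module.End.mul_apply, Module.End.mul_apply, h₁, h₂]

namespace IsoOrd

variable {Q : QuadraticForm F V} {g : Module.End F V} {r : ℕ}

theorem adj_mem (h : IsoOrd Q g r) {a : Module.End F V} (ha : a ∈ A0 g r) : Adj Q a a :=
  fun v w => h.polar_of_mem ha v w

theorem adj_g (h : IsoOrd Q g r) : Adj Q g (sOf g r - g) := by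
  intro v w
  rw [h.polar_left, h.ginv_eq]

theorem inA_of_mem_A1 (h : IsoOrd Q g r) {c : Module.End F V} (hc : c ∈ A1 g) : InA g r c := by
  induction hc using Algebra.adjoin_induction with
  | mem x hx =>
    rw [Set.mem_singleton_iff] at hx
    rw [hx]
    exact inA_g g r
  | algebraMap c => exact inA_of_mem (Subalgebra.algebraMap_mem _ c)
  | add x y _ _ hx hy =>
    obtain ⟨a, ha, b, hb, rfl⟩ := hx
    obtain ⟨a', ha', b', hb', rfl⟩ := hy
    refine ⟨a + a', Subalgebra.add_mem _ ha ha', b + b', Subalgebra.add_mem _ hb hb', ?_⟩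
    unfold cOf
    rw [add_mul]
    abel
  | mul x y _ _ hx hy => exact h.inA_mul hx hy

/-- an element of `F[g]` with an adjoint in `F[g]`: its norm. -/
theorem isNorm_of_adj (h : IsoOrd Q g r) {c c' n : Module.End F V} (hadj : Adj Q c c')
    (hn : n ∈ A0 g r) (hcc : c' * c = n) : IsNorm Q g r c n := by
  refine ⟨hn, ?_⟩
  intro v w
  rw [hadj, ← Module.End.mul_apply, hcc, h.polar_of_mem hn]

/-- the relation `g² = s g - 1` in `F[g]`. -/
theorem gElt_sq (h : IsoOrd Q g r) :
    gElt g * gElt g = incl g r (sElt g r) * gElt g - 1 := by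
  apply Subtype.ext
  rw [Subalgebra.coe_mul, Subalgebra.coe_sub, Subalgebra.coe_mul, incl_val, Subalgebra.coe_one]
  exact h.sq_eq

end IsoOrd

end Cfsg.Agent.Helper8.SsCls
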