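import Mathlib
import Cfsg.Agent.Helper8.SsClsN

set_option autoImplicit false
set_option linter.unusedSectionVars false
set_option linter.style.haveILetI false

/-!
# Classes of semisimple elements of odd prime order in orthogonal groups, part O

The split indecomposable case: `X² - s X + 1` has a root `z` in `F[s]`.  The space is the sum of
the two eigenspaces of `g`, and `F[s]ˣ` acts by `λ` on one and `λ⁻¹` on the other.
-/

namespace Cfsg.Agent.Helper8.SsCls

open Module Cfsg.Agent.Helper8.QuadForm Cfsg.Agent.Helper8.WittQuad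
  Cfsg.Agent.Helper8.OrthOrder
open scoped IsMulCommutative

universe u v

variable {F : Type v} [Field F] {V : Type u} [AddCommGroup V] [Module F V]

section Ring

variable {R : Type*} [CommRing R]

/-- the torus element with eigenvalues `L`, `M` on the two idempotents. -/
def torusElt (p p' L M : R) : R := L * p + M * p'

theorem torusElt_mul {p p' : R} (hsum : p + p' = 1) (hpp : p * p' = 0) (L M L' M' : R) :
    torusElt p p' L M * torusElt p p' L' M' = torusElt p p' (L * L') (M * M') := by
  unfold torusElt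
  linear_combination (L * L' * p + M * M' * p') * hsum + (L * M' + M * L' - L * L' - M * M') * hpp

theorem torusElt_one {p p' : R} (hsum : p + p' = 1) : torusElt p p' 1 1 = 1 := by
  unfold torusElt
  linear_combination hsum

theorem torusElt_adj {p p' : R} (hsum : p + p' = 1) (hpp : p * p' = 0) {L M : R}
    (hLM : L * M = 1) : torusElt p p' M L * torusElt p p' L M = 1 := by
  rw [torusElt_mul hsum hpp, mul_comm M L, hLM, torusElt_one hsum]

theorem torusElt_proj {p p' : R} (hsum : p + p' = 1) (hpp : p * p' = 0) (L M : R) :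
    p * (torusElt p p' L M - 1) = (L - 1) * p := by
  unfold torusElt
  linear_combination (L * p) * hsum + (M - L) * hpp

theorem torusElt_proj' {p p' : R} (hsum : p + p' = 1) (hpp : p * p' = 0) (L M : R) :
    p' * (torusElt p p' L M - 1) = (M - 1) * p' := by
  unfold torusElt
  linear_combination (M * p') * hsum + (L - M) * hpp

end Ring

theorem Adj.symm {Q : QuadraticForm F V} {c c' : Module.End F V} (h : Adj Q c c') :
    Adj Q c' c := by
  intro v w
  rw [QuadraticMap.polar_comm, ← h, QuadraticMap.polar_comm]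

section AdjA

variable {Q : QuadraticForm F V} {g : Module.End F V} {r : ℕ}

/-- the adjoint relation on `F[g]`. -/
def AdjA (Q : QuadraticForm F V) {g : Module.End F V} (x y : ↥(A1 g)) : Prop := Adj Q x.1 y.1

theorem AdjA.add {x y x' y' : ↥(A1 g)} (h₁ : AdjA Q x y) (h₂ : AdjA Q x' y') :
    AdjA Q (x + x') (y + y') := Adj.add h₁ h₂

theorem AdjA.sub {x y x' y' : ↥(A1 g)} (h₁ : AdjA Q x y) (h₂ : AdjA Q x' y') :
    AdjA Q (x - x') (y - y') := Adj.sub h₁ h₂

theorem AdjA.mul {x y x' y' : ↥(A1 g)} (h₁ : AdjA Q x y) (h₂ : AdjA Q x' y') :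
    AdjA Q (x * x') (y * y') := by
  have := Adj.mul h₁ h₂
  unfold AdjA
  rw [Subalgebra.coe_mul, Subalgebra.coe_mul]
  have e : y.1 * y'.1 = y'.1 * y.1 := congrArg Subtype.val (mul_comm y y')
  rw [e]
  exact this

theorem IsoOrd.adjA_incl (h : IsoOrd Q g r) (a : ↥(A0 g r)) : AdjA Q (incl g r a) (incl g r a) := by
  unfold AdjA
  rw [incl_val]
  exact h.adj_mem a.2

theorem IsoOrd.adjA_g (h : IsoOrd Q g r) :
    AdjA Q (gElt g) (incl g r (sElt g r) - gElt g) := by
  unfold AdjA
  rw [Subalgebra.coe_sub, incl_val]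
  exact h.adj_g

end AdjA

section Split

variable [Fintype F] [FiniteDimensional F V]
variable {Q : QuadraticForm F V} {g : Module.End F V} {r : ℕ}

theorem card_units_A0 (h : Std Q g r) (hind : Indec Q g) [Nontrivial V] :
    Nat.card (↥(A0 g r))ˣ = Fintype.card F ^ (finrank F ↥(A0 g r)) - 1 := by
  classical
  have hdom := h.isDomain_A0 hind
  have hfin : Finite ↥(A0 g r) := Module.finite_of_finite F
  letI hft : Fintype ↥(A0 g r) := Fintype.ofFinite _
  letI fld : Field ↥(A0 g r) := Fintype.fieldOfDomain _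
  rw [Nat.card_units, Nat.card_eq_fintype_card, Module.card_eq_pow_finrank (K := F)]

set_option maxHeartbeats 800000 in
/-- **the split indecomposable case.** -/
theorem exists_odd_sign_split (h : Std Q g r) (hf : Fpf g) (hind : Indec Q g) [Nontrivial V]
    (z : ↥(A0 g r)) (hz : z * z - sElt g r * z + 1 = 0) :
    ∃ D : ↥(Isom Q), (∀ v, D.1 (g v) = g (D.1 v)) ∧
      ∀ c : F, c ≠ 0 → SpinorSign.signHom Q c D = -1 := by
  classical
  have hdom := h.isDomain_A0 hind
  have hfin : Finite ↥(A0 g r) := Module.finite_of_finite F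
  obtain ⟨x, hx⟩ := exists_nonsing h.nondeg
  have hfr := h.finrank_eq_two_mul hf hind hx
  have hδpos : 0 < finrank F ↥(A0 g r) := Module.finrank_pos
  obtain ⟨k, hk⟩ : ∃ k, finrank F ↥(A0 g r) = k + 1 := ⟨finrank F ↥(A0 g r) - 1, by omega⟩
  have hcu := card_units_A0 h hind
  rw [hk] at hcu hfr
  have hq2 : 2 ≤ Fintype.card F := Fintype.one_lt_card
  have hQ1 : 1 ≤ Fintype.card F ^ (k + 1) := Nat.one_le_pow _ _ (by omega)
  -- the other root
  obtain ⟨z', hz'⟩ : ∃ z' : ↥(A0 g r), z' = sElt g r - z := ⟨_, rfl⟩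
  have hzz' : z * z' = 1 := by
    rw [hz']
    linear_combination -hz
  have hne : z - z' ≠ 0 := by
    intro h0
    obtain ⟨v, hv⟩ := exists_ne (0 : V)
    apply hv
    apply h.disc_injective hf v
    have e1 : sElt g r * sElt g r - 4 = 0 := by
      have hs : sElt g r = z + z' := by rw [hz']; ring
      rw [hs]
      linear_combination (z - z') * h0 + 4 * hzz'
    have e2 := congrArg Subtype.val e1
    have e3 : (sOf g r * sOf g r - 4 : Module.End F V) = 0 := e2
    rw [e3, LinearMap.zero_apply]
  obtain ⟨d', hd'mem, hd'⟩ := h.exists_inv hind (z - z').2 (fun h0 => hne (Subtype.ext h0))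
  obtain ⟨d, hdd⟩ : ∃ d : ↥(A0 g r), d = ⟨d', hd'mem⟩ := ⟨_, rfl⟩
  have hd : d * (z - z') = 1 := by
    rw [hdd]
    exact Subtype.ext hd'
  -- the idempotents
  obtain ⟨p, hp⟩ : ∃ p : ↥(A1 g), p = incl g r d * (gElt g - incl g r z') := ⟨_, rfl⟩
  obtain ⟨p', hp'⟩ : ∃ p' : ↥(A1 g), p' = incl g r d * (incl g r z - gElt g) := ⟨_, rfl⟩
  have hrel := h.toIsoOrd.gElt_sq
  have hi1 : incl g r z * incl g r z' = 1 := by rw [← map_mul, hzz', map_one]
  have hi2 : incl g r z + incl g r z' = incl g r (sElt g r) := by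
    rw [← map_add, hz']
    congr 1
    ring
  have hi3 : incl g r d * (incl g r z - incl g r z') = 1 := by
    rw [← map_sub, ← map_mul, hd, map_one]
  have hsum : p + p' = 1 := by
    rw [hp, hp']
    linear_combination hi3
  have hpp : p * p' = 0 := by
    rw [hp, hp']
    linear_combination (-(incl g r d) ^ 2) * hrel + ((incl g r d) ^ 2 * gElt g) * hi2
      - (incl g r d) ^ 2 * hi1
  -- the adjoints of the idempotents
  have hadjp : AdjA Q p p' := by
    have h1 : AdjA Q p (incl g r d * (incl g r (sElt g r) - gElt g - incl g r z')) :=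
      hp ▸ (h.toIsoOrd.adjA_incl d).mul (h.toIsoOrd.adjA_g.sub (h.toIsoOrd.adjA_incl z'))
    have e : incl g r d * (incl g r (sElt g r) - gElt g - incl g r z') = p' := by
      rw [hp']
      linear_combination (-(incl g r d)) * hi2
    rw [e] at h1
    exact h1
  have hadjp' : AdjA Q p' p := Adj.symm hadjp
  -- the homomorphism
  let Dh : (↥(A0 g r))ˣ →* ↥(A1 g) :=
    { toFun := fun l => torusElt p p' (incl g r l.1) (incl g r l.inv)
      map_one' := by
        show torusElt p p' (incl g r 1) (incl g r 1) = 1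
        rw [map_one]
        exact torusElt_one hsum
      map_mul' := by
        intro l m
        rw [torusElt_mul hsum hpp]
        show torusElt p p' (incl g r (l.1 * m.1)) (incl g r ((l * m)⁻¹ : (↥(A0 g r))ˣ).1) = _
        rw [mul_inv_rev, Units.val_mul, map_mul, map_mul, mul_comm (incl g r (m⁻¹ : (↥(A0 g r))ˣ).1)]
        rfl }
  have hDh : ∀ l : (↥(A0 g r))ˣ, Dh l = torusElt p p' (incl g r l.1) (incl g r l.inv) :=
    fun l => rfl
  have hLM : ∀ l : (↥(A0 g r))ˣ, incl g r l.1 * incl g r l.inv = 1 := by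
    intro l
    rw [← map_mul, l.val_inv, map_one]
  have hnorm : ∀ l : (↥(A0 g r))ˣ, IsNorm Q g r (Dh l).1 1 := by
    intro l
    have hadj : AdjA Q (Dh l) (torusElt p p' (incl g r l.inv) (incl g r l.1)) := by
      rw [hDh]
      unfold torusElt
      have e : incl g r l.inv * p + incl g r l.1 * p' = incl g r l.1 * p' + incl g r l.inv * p :=
        add_comm _ _
      rw [e]
      exact ((h.toIsoOrd.adjA_incl l.1).mul hadjp).add ((h.toIsoOrd.adjA_incl l.inv).mul hadjp')
    apply h.toIsoOrd.isNorm_of_adj hadj (Subalgebra.one_mem _)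
    have := torusElt_adj hsum hpp (hLM l)
    rw [← hDh] at this
    have e := congrArg Subtype.val this
    rw [Subalgebra.coe_mul, Subalgebra.coe_one] at e
    exact e
  have hfreeD : ∀ l : (↥(A0 g r))ˣ, l ≠ 1 → ∀ v, (Dh l).1 v = v → v = 0 := by
    intro l hl v hv
    have hinj : ∀ a : ↥(A0 g r), a ≠ 0 → ∀ w, a.1 w = 0 → w = 0 := by
      intro a ha w hw
      rcases h.eq_zero_or_ker hind a.2 with h1 | h1
      · exact absurd (Subtype.ext h1) ha
      · have : w ∈ LinearMap.ker a.1 := LinearMap.mem_ker.mpr hw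
        rw [h1, Submodule.mem_bot] at this
        exact this
    have hl1 : l.1 - 1 ≠ 0 := by
      intro h0
      apply hl
      apply Units.ext
      exact sub_eq_zero.mp h0
    have hl2 : l.inv - 1 ≠ 0 := by
      intro h0
      apply hl
      have h1 : (l⁻¹ : (↥(A0 g r))ˣ) = 1 := by
        apply Units.ext
        exact sub_eq_zero.mp h0
      exact inv_eq_one.mp h1
    have e1 := congrArg Subtype.val (torusElt_proj hsum hpp (incl g r l.1) (incl g r l.inv))
    have e2 := congrArg Subtype.val (torusElt_proj' hsum hpp (incl g r l.1) (incl g r l.inv))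
    rw [← hDh] at e1 e2
    rw [Subalgebra.coe_mul, Subalgebra.coe_mul, Subalgebra.coe_sub, Subalgebra.coe_sub,
      Subalgebra.coe_one, incl_val] at e1 e2
    have e1v := congrArg (fun f : Module.End F V => f v) e1
    have e2v := congrArg (fun f : Module.End F V => f v) e2
    simp only [Module.End.mul_apply, LinearMap.sub_apply, Module.End.one_apply, hv, sub_self,
      map_zero] at e1v e2v
    have hp0 : p.1 v = 0 := hinj (l.1 - 1) hl1 _ (by
      show (l.1.1 - 1) (p.1 v) = 0
      exact e1v.symm)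
    have hp0' : p'.1 v = 0 := hinj (l.inv - 1) hl2 _ (by
      show (l.inv.1 - 1) (p'.1 v) = 0
      exact e2v.symm)
    have e3 := congrArg Subtype.val hsum
    rw [Subalgebra.coe_add, Subalgebra.coe_one] at e3
    have e3v := congrArg (fun f : Module.End F V => f v) e3
    simp only [LinearMap.add_apply, Module.End.one_apply, hp0, hp0', add_zero] at e3v
    exact e3v.symm
  -- a generator
  have hcyc : IsCyclic (↥(A0 g r))ˣ := inferInstance
  obtain ⟨ω, hω⟩ := hcyc.exists_generator
  have hord : orderOf ω = Fintype.card F ^ (k + 1) - 1 := by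
    rw [orderOf_eq_card_of_forall_mem_zpowers hω, hcu]
  have hpowD : ∀ j : ℕ, (Dh ω).1 ^ j = (Dh (ω ^ j)).1 := by
    intro j
    rw [map_pow, Subalgebra.coe_pow]
  -- `q^(k+1) ≠ 3`
  have hQ3 : Fintype.card F ^ (k + 1) ≠ 3 := by
    intro h3
    rw [h3] at hcu
    let zu : (↥(A0 g r))ˣ := ⟨z, z', hzz', by rw [mul_comm]; exact hzz'⟩
    have h1 : zu ^ 2 = 1 := by
      have := pow_card_eq_one' (G := (↥(A0 g r))ˣ) (x := zu)
      rw [hcu] at this
      exact this
    have h2 : z * z = 1 := by
      have := congrArg Units.val h1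
      rw [Units.val_pow_eq_pow_val, pow_two] at this
      exact this
    apply hne
    linear_combination z' * h2 - z * hzz'
  refine exists_odd_sign h (Dh ω).1 (Fintype.card F ^ (k + 1) - 1)
    (h.toIsoOrd.inA_of_mem_A1 (Dh ω).2) (hnorm ω) ?_ ?_ k hfr 1 (Or.inl rfl) ?_ (fun _ => hQ3)
  · rw [hpowD, ← hord, pow_orderOf_eq_one, map_one]
    rfl
  · intro j hj hjN v hv
    rw [hpowD] at hv
    apply hfreeD (ω ^ j) _ v hv
    intro h1
    have := orderOf_le_of_pow_eq_one hj h1
    omega
  · rw [Nat.cast_sub hQ1]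
    push_cast
    ring

end Split

end Cfsg.Agent.Helper8.SsCls
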