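import Mathlib
import Cfsg.Agent.Helper8.SsClsO

set_option autoImplicit false
set_option linter.unusedSectionVars false
set_option linter.style.haveILetI false

/-!
# Classes of semisimple elements of odd prime order in orthogonal groups, part P

The nonsplit indecomposable case: `X² - s X + 1` has no root in `F[s]`.  Then `F[g]` is a field,
quadratic over `F[s]`, and its elements of norm one form a cyclic group of order `|F[s]| + 1`.
-/

namespace Cfsg.Agent.Helper8.SsCls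

open Module Cfsg.Agent.Helper8.QuadForm Cfsg.Agent.Helper8.WittQuad
  Cfsg.Agent.Helper8.OrthOrder
open scoped IsMulCommutative

universe u v

variable {F : Type v} [Field F] {V : Type u} [AddCommGroup V] [Module F V]
variable [Fintype F] [FiniteDimensional F V]
variable {Q : QuadraticForm F V} {g : Module.End F V} {r : ℕ}

/-- in the nonsplit case the norm form is anisotropic. -/
theorem nOf_eq_zero (h : Std Q g r) (hind : Indec Q g) [Nontrivial V]
    (hns : ¬ ∃ z : ↥(A0 g r), z * z - sElt g r * z + 1 = 0) (a b : ↥(A0 g r))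
    (hN : a * a + sElt g r * a * b + b * b = 0) : a = 0 ∧ b = 0 := by
  have hdom := h.isDomain_A0 hind
  by_cases hb : b = 0
  · refine ⟨?_, hb⟩
    rw [hb, mul_zero, mul_zero, add_zero, add_zero] at hN
    exact mul_self_eq_zero.mp hN
  · exfalso
    obtain ⟨b', hb'mem, hb'⟩ := h.exists_inv hind b.2 (fun h0 => hb (Subtype.ext h0))
    obtain ⟨bi, hbi⟩ : ∃ bi : ↥(A0 g r), bi = ⟨b', hb'mem⟩ := ⟨_, rfl⟩
    have hbb : b * bi = 1 := by
      rw [hbi, mul_comm]
      exact Subtype.ext hb'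
    apply hns
    refine ⟨-a * bi, ?_⟩
    linear_combination (bi * bi) * hN - (sElt g r * a * bi + 1 + b * bi) * hbb

/-- in the nonsplit case nonzero elements of `F[g]` are injective. -/
theorem injective_of_mem_A1 (h : Std Q g r) (hind : Indec Q g) [Nontrivial V]
    (hns : ¬ ∃ z : ↥(A0 g r), z * z - sElt g r * z + 1 = 0) {c : Module.End F V}
    (hc : c ∈ A1 g) (hc0 : c ≠ 0) (v : V) (hv : c v = 0) : v = 0 := by
  obtain ⟨a, ha, b, hb, rfl⟩ := h.toIsoOrd.inA_of_mem_A1 hc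
  have hn := h.toIsoOrd.isNorm_cOf ha hb
  apply h.injective_of_isNorm hn _ v hv
  intro w hw
  rcases h.eq_zero_or_ker hind hn.1 with h1 | h1
  · exfalso
    apply hc0
    have h2 : (⟨a, ha⟩ : ↥(A0 g r)) * ⟨a, ha⟩ + sElt g r * ⟨a, ha⟩ * ⟨b, hb⟩
        + ⟨b, hb⟩ * ⟨b, hb⟩ = 0 := Subtype.ext h1
    obtain ⟨h3, h4⟩ := nOf_eq_zero h hind hns _ _ h2
    have h5 : a = 0 := congrArg Subtype.val h3
    have h6 : b = 0 := congrArg Subtype.val h4
    rw [h5, h6]
    unfold cOf
    simp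
  · have : w ∈ LinearMap.ker (nOf g r a b) := LinearMap.mem_ker.mpr hw
    rw [h1, Submodule.mem_bot] at this
    exact this

theorem isDomain_A1 (h : Std Q g r) (hind : Indec Q g) [Nontrivial V]
    (hns : ¬ ∃ z : ↥(A0 g r), z * z - sElt g r * z + 1 = 0) : IsDomain ↥(A1 g) := by
  have hnt : Nontrivial ↥(A1 g) := by
    refine ⟨⟨0, 1, ?_⟩⟩
    intro h01
    have h1 : (0 : Module.End F V) = 1 := congrArg Subtype.val h01
    obtain ⟨v, hv⟩ := exists_ne (0 : V)
    apply hv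
    have := congrArg (fun f : Module.End F V => f v) h1
    exact this.symm
  have hnz : NoZeroDivisors ↥(A1 g) := by
    refine ⟨?_⟩
    intro a b hab
    by_cases ha : a = 0
    · exact Or.inl ha
    · right
      apply Subtype.ext
      apply LinearMap.ext
      intro v
      have h1 : a.1 * b.1 = 0 := congrArg Subtype.val hab
      have h2 := congrArg (fun f : Module.End F V => f v) h1
      exact injective_of_mem_A1 h hind hns a.2 (fun h0 => ha (Subtype.ext h0)) _ h2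
  exact NoZeroDivisors.to_isDomain _

/-- the cardinality of `F[g]` in the nonsplit case. -/
theorem card_A1 (h : Std Q g r) (hf : Fpf g) (hind : Indec Q g) [Nontrivial V] :
    Nat.card ↥(A1 g) = (Fintype.card F ^ (finrank F ↥(A0 g r))) ^ 2 := by
  obtain ⟨x, hx⟩ := exists_nonsing h.nondeg
  have hfinA0 : Finite ↥(A0 g r) := Module.finite_of_finite F
  have hfinA1 : Finite ↥(A1 g) := Module.finite_of_finite F
  let φ : ↥(A0 g r) × ↥(A0 g r) → ↥(A1 g) := fun p =>
    ⟨cOf g p.1.1 p.2.1, Subalgebra.add_mem _ (A0_le_A1 g r p.1.2)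
      (Subalgebra.mul_mem _ (A0_le_A1 g r p.2.2) (g_mem_A1 g))⟩
  have hφ : Function.Bijective φ := by
    constructor
    · intro p p' hpp
      have h1 : cOf g p.1.1 p.2.1 = cOf g p'.1.1 p'.2.1 := congrArg Subtype.val hpp
      have h2 := congrArg (fun f : Module.End F V => f x) h1
      exact h.frameMap_injective hf hind hx h2
    · intro c
      obtain ⟨a, ha, b, hb, hc⟩ := h.toIsoOrd.inA_of_mem_A1 c.2
      exact ⟨(⟨a, ha⟩, ⟨b, hb⟩), Subtype.ext hc.symm⟩
  rw [← Nat.card_congr (Equiv.ofBijective φ hφ), Nat.card_prod]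
  haveI : Fintype ↥(A0 g r) := Fintype.ofFinite _
  rw [Nat.card_eq_fintype_card, Module.card_eq_pow_finrank (K := F), pow_two]

theorem card_units_A1 (h : Std Q g r) (hf : Fpf g) (hind : Indec Q g) [Nontrivial V]
    (hns : ¬ ∃ z : ↥(A0 g r), z * z - sElt g r * z + 1 = 0) :
    Nat.card (↥(A1 g))ˣ = (Fintype.card F ^ (finrank F ↥(A0 g r))) ^ 2 - 1 := by
  classical
  have hdom := isDomain_A1 h hind hns
  have hfin : Finite ↥(A1 g) := Module.finite_of_finite F
  letI hft : Fintype ↥(A1 g) := Fintype.ofFinite _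
  letI fld : Field ↥(A1 g) := Fintype.fieldOfDomain _
  rw [Nat.card_units, card_A1 h hf hind]

set_option maxHeartbeats 800000 in
/-- **the nonsplit indecomposable case.** -/
theorem exists_odd_sign_nonsplit (h : Std Q g r) (hf : Fpf g) (hind : Indec Q g) [Nontrivial V]
    (hns : ¬ ∃ z : ↥(A0 g r), z * z - sElt g r * z + 1 = 0) :
    ∃ D : ↥(Isom Q), (∀ v, D.1 (g v) = g (D.1 v)) ∧
      ∀ c : F, c ≠ 0 → SpinorSign.signHom Q c D = -1 := by
  classical
  have hdom0 := h.isDomain_A0 hind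
  have hdom1 := isDomain_A1 h hind hns
  have hfin0 : Finite ↥(A0 g r) := Module.finite_of_finite F
  have hfin1 : Finite ↥(A1 g) := Module.finite_of_finite F
  obtain ⟨x, hx⟩ := exists_nonsing h.nondeg
  have hfr := h.finrank_eq_two_mul hf hind hx
  have hδpos : 0 < finrank F ↥(A0 g r) := Module.finrank_pos
  obtain ⟨k, hk⟩ : ∃ k, finrank F ↥(A0 g r) = k + 1 := ⟨finrank F ↥(A0 g r) - 1, by omega⟩
  have hcu0 := card_units_A0 h hind
  have hcu1 := card_units_A1 h hf hind hns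
  rw [hk] at hcu0 hcu1 hfr
  have hq2 : 2 ≤ Fintype.card F := Fintype.one_lt_card
  obtain ⟨Qn, hQn⟩ : ∃ Qn : ℕ, Qn = Fintype.card F ^ (k + 1) := ⟨_, rfl⟩
  rw [← hQn] at hcu0 hcu1
  have hQ2 : 2 ≤ Qn := by
    rw [hQn]
    calc 2 ≤ Fintype.card F := hq2
      _ = Fintype.card F ^ 1 := (pow_one _).symm
      _ ≤ Fintype.card F ^ (k + 1) := Nat.pow_le_pow_right (by omega) (by omega)
  have hfac : (Qn - 1) * (Qn + 1) = Qn ^ 2 - 1 := by
    obtain ⟨t, rfl⟩ : ∃ t, Qn = t + 2 := ⟨Qn - 2, by omega⟩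
    have e1 : t + 2 - 1 = t + 1 := by omega
    have e2 : (t + 2) ^ 2 - 1 = (t + 1) * (t + 3) := by
      have : (t + 2) ^ 2 = (t + 1) * (t + 3) + 1 := by ring
      omega
    rw [e1, e2]
  -- a generator
  have hcyc : IsCyclic (↥(A1 g))ˣ := inferInstance
  obtain ⟨ω, hω⟩ := hcyc.exists_generator
  have hord : orderOf ω = Qn ^ 2 - 1 := by
    rw [orderOf_eq_card_of_forall_mem_zpowers hω, hcu1]
  -- the norm of the generator
  have hinω : InA g r ω.1.1 := h.toIsoOrd.inA_of_mem_A1 ω.1.2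
  have hinω' : InA g r ω.inv.1 := h.toIsoOrd.inA_of_mem_A1 ω.inv.2
  obtain ⟨n₀, hn₀⟩ := h.toIsoOrd.exists_isNorm hinω
  obtain ⟨n₁, hn₁⟩ := h.toIsoOrd.exists_isNorm hinω'
  have hmul := h.toIsoOrd.isNorm_mul hinω' hn₀ hn₁
  have hone : ω.1.1 * ω.inv.1 = 1 := by
    have := congrArg Subtype.val ω.val_inv
    rw [Subalgebra.coe_mul, Subalgebra.coe_one] at this
    exact this
  rw [hone] at hmul
  have hnn : n₀ * n₁ = 1 := h.isNorm_unique hmul h.toIsoOrd.isNorm_one
  let nu : (↥(A0 g r))ˣ := ⟨⟨n₀, hn₀.1⟩, ⟨n₁, hn₁.1⟩, Subtype.ext hnn,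
    Subtype.ext (by
      show n₁ * n₀ = 1
      rw [mem_comm hn₁.1 hn₀.1]
      exact hnn)⟩
  have hnu : nu ^ (Qn - 1) = 1 := by
    have := pow_card_eq_one' (G := (↥(A0 g r))ˣ) (x := nu)
    rw [hcu0] at this
    exact this
  have hn₀pow : n₀ ^ (Qn - 1) = 1 := by
    have h1 := congrArg Units.val hnu
    rw [Units.val_pow_eq_pow_val, Units.val_one] at h1
    have h2 := congrArg Subtype.val h1
    rw [Subalgebra.coe_pow, Subalgebra.coe_one] at h2
    exact h2
  have hD₀norm : IsNorm Q g r (ω.1.1 ^ (Qn - 1)) 1 := by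
    have := h.toIsoOrd.isNorm_pow hinω hn₀ (Qn - 1)
    rw [hn₀pow] at this
    exact this
  have hpowD : ∀ j : ℕ, (ω.1.1 ^ (Qn - 1)) ^ j = ((ω ^ ((Qn - 1) * j) : (↥(A1 g))ˣ).1).1 := by
    intro j
    rw [← pow_mul, Units.val_pow_eq_pow_val, Subalgebra.coe_pow]
  refine exists_odd_sign h (ω.1.1 ^ (Qn - 1)) (Qn + 1)
    (h.toIsoOrd.inA_pow hinω _) hD₀norm ?_ ?_ k hfr (-1) (Or.inr rfl) ?_ ?_
  · rw [hpowD, hfac, ← hord, pow_orderOf_eq_one]
    rfl
  · intro j hj hjN v hv
    rw [hpowD] at hv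
    have hne1 : ω ^ ((Qn - 1) * j) ≠ 1 := by
      intro h1
      have hpos : 0 < (Qn - 1) * j := Nat.mul_pos (by omega) hj
      have := orderOf_le_of_pow_eq_one hpos h1
      rw [hord, ← hfac] at this
      have h3 : (Qn - 1) * j < (Qn - 1) * (Qn + 1) := Nat.mul_lt_mul_of_pos_left hjN (by omega)
      omega
    have hc0 : ((ω ^ ((Qn - 1) * j) : (↥(A1 g))ˣ).1 - 1 : ↥(A1 g)) ≠ 0 := by
      intro h0
      apply hne1
      apply Units.ext
      exact sub_eq_zero.mp h0
    apply injective_of_mem_A1 h hind hns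
      ((ω ^ ((Qn - 1) * j) : (↥(A1 g))ˣ).1 - 1 : ↥(A1 g)).2
      (fun h0 => hc0 (Subtype.ext h0)) v
    rw [Subalgebra.coe_sub, Subalgebra.coe_one, LinearMap.sub_apply, hv, Module.End.one_apply,
      sub_self]
  · rw [hQn]
    push_cast
    ring
  · intro h1
    norm_num at h1

end Cfsg.Agent.Helper8.SsCls
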