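import Mathlib
import Cfsg.Agent.Helper8.SsClsP
import Cfsg.Agent.Helper8.OmegaCrit

set_option autoImplicit false
set_option linter.unusedSectionVars false
set_option linter.style.haveILetI false

/-!
# Classes of semisimple elements of odd prime order in orthogonal groups, part Q

Products of reflections commuting with `g`, of even length and nonsquare product of norms: the
indecomposable case.
-/

namespace Cfsg.Agent.Helper8.SsCls

open Module Cfsg.Agent.Helper8.QuadForm Cfsg.Agent.Helper8.WittQuad
  Cfsg.Agent.Helper8.OrthOrder Cfsg.Agent.Helper8.Reflections Cfsg.Agent.Helper8.SpinorSign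
  Cfsg.Agent.Helper8.OmegaOdd

universe u v

variable {F : Type v} [Field F] {V : Type u} [AddCommGroup V] [Module F V]

/-- the product of the reflections in the vectors of a list. -/
noncomputable def reflProd (Q : QuadraticForm F V) (l : List V) : V ≃ₗ[F] V :=
  (l.map (refl Q)).prod

theorem reflProd_nil (Q : QuadraticForm F V) : reflProd Q [] = 1 := rfl

theorem reflProd_cons (Q : QuadraticForm F V) (z : V) (l : List V) :
    reflProd Q (z :: l) = refl Q z * reflProd Q l := by
  unfold reflProd
  rw [List.map_cons, List.prod_cons]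

theorem reflProd_isom (Q : QuadraticForm F V) (l : List V) (v : V) : Q (reflProd Q l v) = Q v := by
  induction l generalizing v with
  | nil => rfl
  | cons z t ih =>
    rw [reflProd_cons, LinearEquiv.mul_apply, Q_refl, ih]

/-- a list of nonsingular vectors, of even length, with nonsquare product of norms, whose product
of reflections commutes with `g`. -/
def GoodList (Q : QuadraticForm F V) (g : Module.End F V) (l : List V) : Prop :=
  (∀ z ∈ l, Q z ≠ 0) ∧ Even l.length ∧ ¬ IsSquare (l.map (fun z => Q z)).prod ∧
    ∀ v, reflProd Q l (g v) = g (reflProd Q l v)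

theorem list_prod_isom (Q : QuadraticForm F V) (t : List (V ≃ₗ[F] V))
    (h1 : ∀ x' ∈ t, ∀ y, Q (x' y) = Q y) (x : V) : Q (t.prod x) = Q x := by
  induction t generalizing x with
  | nil => rfl
  | cons b s ihs =>
    rw [List.prod_cons, LinearEquiv.mul_apply, h1 b (by simp),
      ihs (fun x' hx' => h1 x' (by simp [hx']))]

/-- every isometry is a product of a list of reflections. -/
theorem exists_list_refl [FiniteDimensional F V] (h2 : (2 : F) ≠ 0) (Q : QuadraticForm F V)
    (hQ : Nondeg Q) (D : V ≃ₗ[F] V) (hD : ∀ x, Q (D x) = Q x) :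
    ∃ l : List V, (∀ z ∈ l, Q z ≠ 0) ∧ D = reflProd Q l := by
  have hg := mem_closure_refl h2 Q hQ D hD
  rw [← Subgroup.mem_toSubmonoid, Subgroup.closure_toSubmonoid] at hg
  obtain ⟨l', hl', hprod⟩ := Submonoid.exists_list_of_mem_closure hg
  have hl'' : ∀ x ∈ l', ∃ z, Q z ≠ 0 ∧ x = refl Q z := by
    intro x hx
    rcases hl' x hx with h | h
    · exact h
    · obtain ⟨z, hz, hxz⟩ := h
      refine ⟨z, hz, ?_⟩
      rw [← inv_inv x, hxz, refl_inv]
  clear hl' hg
  induction l' generalizing D with
  | nil =>
    refine ⟨[], by simp, ?_⟩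
    rw [← hprod]
    rfl
  | cons a t ih =>
    obtain ⟨z, hz, haz⟩ := hl'' a (by simp)
    obtain ⟨l, hl, hlprod⟩ := ih t.prod (fun x => by
      apply list_prod_isom
      intro x' hx' y
      obtain ⟨z', -, rfl⟩ := hl'' x' (by simp [hx'])
      exact Q_refl Q z' y) rfl
      (fun x hx => hl'' x (by simp [hx]))
    refine ⟨z :: l, ?_, ?_⟩
    · intro w hw
      rcases List.mem_cons.mp hw with rfl | hw
      · exact hz
      · exact hl w hw
    · rw [← hprod, List.prod_cons, reflProd_cons, haz, hlprod]

section Finite

variable [Fintype F] [FiniteDimensional F V]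

/-- the product of reflections as an element of the isometry group. -/
noncomputable def reflProdIsom (Q : QuadraticForm F V) (l : List V) : ↥(Isom Q) :=
  ⟨reflProd Q l, fun v => reflProd_isom Q l v⟩

theorem reflProdIsom_cons (Q : QuadraticForm F V) (z : V) (l : List V) :
    reflProdIsom Q (z :: l) = ⟨refl Q z, refl_mem Q z⟩ * reflProdIsom Q l := by
  apply Subtype.ext
  exact reflProd_cons Q z l

open Classical in
/-- the values of the two sign characters on a product of reflections. -/
theorem signHom_reflProd (h2 : (2 : F) ≠ 0) (Q : QuadraticForm F V) {e : F}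
    (he : ¬ IsSquare e) (l : List V) (hl : ∀ z ∈ l, Q z ≠ 0) :
    SpinorSign.signHom Q 1 (reflProdIsom Q l)
        = (-1) ^ (l.countP (fun z => decide (IsSquare (Q z)))) ∧
    SpinorSign.signHom Q e (reflProdIsom Q l)
      = (-1) ^ (l.countP (fun z => decide (¬ IsSquare (Q z)))) := by
  classical
  have he0 : e ≠ 0 := by
    rintro rfl
    exact he IsSquare.zero
  induction l with
  | nil =>
    have : reflProdIsom Q [] = 1 := rfl
    rw [this, map_one, map_one]
    simp
  | cons z t ih =>
    obtain ⟨ih1, ih2⟩ := ih (fun w hw => hl w (by simp [hw]))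
    have hz := hl z (by simp)
    rw [reflProdIsom_cons, map_mul, map_mul, ih1, ih2, List.countP_cons, List.countP_cons]
    by_cases hsq : IsSquare (Q z)
    · have h1 : SpinorSign.signHom Q 1 ⟨refl Q z, refl_mem Q z⟩ = -1 :=
        (signHom_refl h2 Q one_ne_zero hz).1 (by rw [one_mul]; exact hsq)
      have h3 : SpinorSign.signHom Q e ⟨refl Q z, refl_mem Q z⟩ = 1 :=
        (signHom_refl h2 Q he0 hz).2 (by rw [mul_comm]; exact not_isSquare_mul hz hsq he)
      rw [h1, h3]
      simp [hsq, pow_succ]
    · have h1 : SpinorSign.signHom Q 1 ⟨refl Q z, refl_mem Q z⟩ = 1 :=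
        (signHom_refl h2 Q one_ne_zero hz).2 (by rw [one_mul]; exact hsq)
      have h3 : SpinorSign.signHom Q e ⟨refl Q z, refl_mem Q z⟩ = -1 :=
        (signHom_refl h2 Q he0 hz).1 (by rw [mul_comm]; exact isSquare_mul_of_not hz hsq he)
      rw [h1, h3]
      simp [hsq, pow_succ]

open Classical in
/-- parity of the number of nonsquare norms. -/
theorem isSquare_prod_iff' (Q : QuadraticForm F V) (l : List V) (hl : ∀ z ∈ l, Q z ≠ 0) :
    (l.map (fun v => Q v)).prod ≠ 0 ∧
    (IsSquare (l.map (fun v => Q v)).prod ↔
      Even (l.countP (fun z => decide (¬ IsSquare (Q z))))) := by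
  classical
  induction l with
  | nil => simp
  | cons z t ih =>
    obtain ⟨h0, hiff⟩ := ih (fun w hw => hl w (by simp [hw]))
    have hz := hl z (by simp)
    rw [List.map_cons, List.prod_cons]
    refine ⟨mul_ne_zero hz h0, ?_⟩
    rw [List.countP_cons]
    by_cases hsq : IsSquare (Q z)
    · rw [Cfsg.Agent.Helper8.OmegaCrit.isSquare_mul_iff hz hsq, hiff]
      simp [hsq]
    · have e1 : (if decide (¬ IsSquare (Q z)) = true then 1 else 0) = 1 := by simp [hsq]
      rw [e1, Nat.even_add_one, ← hiff]
      constructor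
      · intro h hP
        exact not_isSquare_mul h0 hP hsq (by rw [mul_comm]; exact h)
      · intro hP
        rw [mul_comm]
        exact isSquare_mul_of_not h0 hP hsq

/-- an isometry on which both sign characters are `-1` is a product of an even number of
reflections with nonsquare product of norms. -/
theorem exists_list_of_signs (h2 : (2 : F) ≠ 0) (Q : QuadraticForm F V) (hQ : Nondeg Q)
    (D : ↥(Isom Q)) (hD : ∀ c : F, c ≠ 0 → SpinorSign.signHom Q c D = -1) :
    ∃ l : List V, (∀ z ∈ l, Q z ≠ 0) ∧ Even l.length ∧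
      ¬ IsSquare (l.map (fun z => Q z)).prod ∧ D.1 = reflProd Q l := by
  classical
  obtain ⟨e, he⟩ := exists_nonsquare (F := F) h2
  have he0 : e ≠ 0 := by
    rintro rfl
    exact he IsSquare.zero
  obtain ⟨l, hl, hDl⟩ := exists_list_refl h2 Q hQ D.1 D.2
  have hDl' : D = reflProdIsom Q l := Subtype.ext hDl
  obtain ⟨hs1, hs2⟩ := signHom_reflProd h2 Q he l hl
  rw [← hDl', hD 1 one_ne_zero] at hs1
  rw [← hDl', hD e he0] at hs2
  have hne : (-1 : ℤˣ) ≠ 1 := by decide
  have hodd1 : Odd (l.countP (fun z => decide (IsSquare (Q z)))) := by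
    rw [← Nat.not_even_iff_odd]
    intro hev
    rw [hev.neg_one_pow] at hs1
    exact hne hs1
  have hodd2 : Odd (l.countP (fun z => decide (¬ IsSquare (Q z)))) := by
    rw [← Nat.not_even_iff_odd]
    intro hev
    rw [hev.neg_one_pow] at hs2
    exact hne hs2
  refine ⟨l, hl, ?_, ?_, hDl⟩
  · have hlen := List.length_eq_countP_add_countP (fun z => decide (IsSquare (Q z))) (l := l)
    have hcongr : l.countP (fun a => decide ¬decide (IsSquare (Q a)) = true)
        = l.countP (fun z => decide (¬ IsSquare (Q z))) := by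
      apply List.countP_congr
      intro z _
      simp
    rw [hcongr] at hlen
    rw [hlen]
    exact Odd.add_odd hodd1 hodd2
  · rw [(isSquare_prod_iff' Q l hl).2, Nat.not_even_iff_odd]
    exact hodd2

end Finite

end Cfsg.Agent.Helper8.SsCls
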