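import Mathlib
import Cfsg.Agent.Helper8.SsClsQ

set_option autoImplicit false
set_option linter.unusedSectionVars false
set_option linter.style.haveILetI false

/-!
# Classes of semisimple elements of odd prime order in orthogonal groups, part R

Products of reflections commuting with a fixed-point-free isometry of odd order: transfer from an
invariant nondegenerate subspace, and induction on the dimension.
-/

namespace Cfsg.Agent.Helper8.SsCls

open Module Cfsg.Agent.Helper8.QuadForm Cfsg.Agent.Helper8.WittQuad
  Cfsg.Agent.Helper8.OrthOrder Cfsg.Agent.Helper8.Reflections Cfsg.Agent.Helper8.SpinorSign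
  Cfsg.Agent.Helper8.OmegaOdd

universe u v

variable {F : Type v} [Field F] {V : Type u} [AddCommGroup V] [Module F V]

theorem refl_subtype (Q : QuadraticForm F V) (U : Submodule F V) (z w : U) :
    refl Q z.1 w.1 = ((refl (Q.comp U.subtype) z w : U) : V) := by
  rw [refl_apply, refl_apply]
  rfl

theorem refl_of_perpS (Q : QuadraticForm F V) (U : Submodule F V) (z : U) {x : V}
    (hx : x ∈ perpS Q U) : refl Q z.1 x = x :=
  refl_of_perp Q ((mem_perpS Q U x).mp hx z.1 z.2)

theorem reflProd_subtype (Q : QuadraticForm F V) (U : Submodule F V) (l : List U) (w : U) :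
    reflProd Q (l.map U.subtype) w.1 = ((reflProd (Q.comp U.subtype) l w : U) : V) := by
  induction l generalizing w with
  | nil => rfl
  | cons z t ih =>
    rw [List.map_cons, reflProd_cons, reflProd_cons, LinearEquiv.mul_apply, LinearEquiv.mul_apply,
      ih]
    exact refl_subtype Q U z _

theorem reflProd_of_perpS (Q : QuadraticForm F V) (U : Submodule F V) (l : List U) {x : V}
    (hx : x ∈ perpS Q U) : reflProd Q (l.map U.subtype) x = x := by
  induction l with
  | nil => rfl
  | cons z t ih =>
    rw [List.map_cons, reflProd_cons, LinearEquiv.mul_apply, ih]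
    exact refl_of_perpS Q U z hx

/-- transfer of a good list from an invariant nondegenerate subspace. -/
theorem GoodList.of_subspace [FiniteDimensional F V] {Q : QuadraticForm F V}
    {g : Module.End F V} {r : ℕ} (h : IsoOrd Q g r) {U : Submodule F V}
    (hU : ∀ x ∈ U, g x ∈ U) (hnd : NondegOn Q U) {l : List U}
    (hl : GoodList (Q.comp U.subtype) (g.restrict hU) l) : GoodList Q g (l.map U.subtype) := by
  obtain ⟨h1, h2, h3, h4⟩ := hl
  refine ⟨?_, ?_, ?_, ?_⟩
  · intro z hz
    obtain ⟨z', hz', rfl⟩ := List.mem_map.mp hz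
    exact h1 z' hz'
  · rw [List.length_map]
    exact h2
  · rw [List.map_map]
    exact h3
  · intro v
    have hv : v ∈ U ⊔ perpS Q U := by
      rw [(isCompl_perpS hnd).sup_eq_top]
      exact Submodule.mem_top
    obtain ⟨w, hw, x, hx, rfl⟩ := Submodule.mem_sup.mp hv
    have hgx : g x ∈ perpS Q U := h.perpS_invariant hU x hx
    have e1 : reflProd Q (l.map U.subtype) (g w)
        = ((reflProd (Q.comp U.subtype) l ⟨g w, hU w hw⟩ : U) : V) :=
      reflProd_subtype Q U l ⟨g w, hU w hw⟩
    have e2 : reflProd Q (l.map U.subtype) w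
        = ((reflProd (Q.comp U.subtype) l ⟨w, hw⟩ : U) : V) :=
      reflProd_subtype Q U l ⟨w, hw⟩
    have e3 : ((reflProd (Q.comp U.subtype) l ⟨g w, hU w hw⟩ : U) : V)
        = g ((reflProd (Q.comp U.subtype) l ⟨w, hw⟩ : U) : V) :=
      congrArg Subtype.val (h4 ⟨w, hw⟩)
    rw [map_add g, map_add (reflProd Q (l.map U.subtype)), map_add (reflProd Q (l.map U.subtype)),
      map_add g, reflProd_of_perpS Q U l hgx, reflProd_of_perpS Q U l hx, e1, e2, e3]

section Finite

variable [Fintype F]

theorem exists_goodList_indec [FiniteDimensional F V] {Q : QuadraticForm F V}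
    {g : Module.End F V} {r : ℕ} (h : Std Q g r) (hf : Fpf g) (hind : Indec Q g)
    [Nontrivial V] : ∃ l : List V, GoodList Q g l := by
  obtain ⟨D, hDg, hDs⟩ : ∃ D : ↥(Isom Q), (∀ v, D.1 (g v) = g (D.1 v)) ∧
      ∀ c : F, c ≠ 0 → SpinorSign.signHom Q c D = -1 := by
    by_cases hs : ∃ z : ↥(A0 g r), z * z - sElt g r * z + 1 = 0
    · obtain ⟨z, hz⟩ := hs
      exact exists_odd_sign_split h hf hind z hz
    · exact exists_odd_sign_nonsplit h hf hind hs
  obtain ⟨l, hl, hev, hns, hDl⟩ := exists_list_of_signs h.h2 Q h.nondeg D hDs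
  exact ⟨l, hl, hev, hns, fun v => by rw [← hDl]; exact hDg v⟩

/-- **products of reflections commuting with a fixed-point-free isometry of odd order.** -/
theorem exists_goodList_fpf (n : ℕ) : ∀ (V : Type u) [AddCommGroup V] [Module F V]
    [FiniteDimensional F V] [Nontrivial V] (Q : QuadraticForm F V) (g : Module.End F V) (r : ℕ),
    finrank F V = n → Std Q g r → Fpf g → ∃ l : List V, GoodList Q g l := by
  induction n using Nat.strong_induction_on with
  | _ n ih =>
    intro V _ _ _ _ Q g r hn h hf
    by_cases hind : Indec Q g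
    · exact exists_goodList_indec h hf hind
    · unfold Indec at hind
      push Not at hind
      obtain ⟨U, hU, hnd, hbot, htop⟩ := hind
      have hlt : finrank F U < n := by
        rw [← hn]
        exact Submodule.finrank_lt htop
      have hnt : Nontrivial U := (Submodule.nontrivial_iff_ne_bot).mpr hbot
      obtain ⟨l, hl⟩ := ih _ hlt U (Q.comp U.subtype) (g.restrict hU) r rfl
        (h.restrict hU hnd) (hf.restrict hU)
      exact ⟨l.map U.subtype, GoodList.of_subspace h.toIsoOrd hU hnd hl⟩

end Finite

end Cfsg.Agent.Helper8.SsCls
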