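import Mathlib
import Cfsg.Agent.Helper8.SsClsR

set_option autoImplicit false
set_option linter.unusedSectionVars false
set_option linter.style.haveILetI false

/-!
# Classes of semisimple elements of odd prime order in orthogonal groups, part S

The fixed space of `g` and its orthogonal complement; the two main results for an isometry of odd
order prime to the characteristic of a nondegenerate quadratic space of even dimension: a
similarity with prescribed multiplier and the right determinant commuting with `g`, and a product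
of an even number of reflections with nonsquare product of norms commuting with `g`.
-/

namespace Cfsg.Agent.Helper8.SsCls

open Module Cfsg.Agent.Helper8.QuadForm Cfsg.Agent.Helper8.WittQuad
  Cfsg.Agent.Helper8.OrthOrder Cfsg.Agent.Helper8.Reflections Cfsg.Agent.Helper8.SpinorSign
  Cfsg.Agent.Helper8.OmegaOdd

universe u v

variable {F : Type v} [Field F] {V : Type u} [AddCommGroup V] [Module F V]

/-- the fixed space of `g`. -/
def fixedS (g : Module.End F V) : Submodule F V := LinearMap.ker (g - 1)

theorem mem_fixedS (g : Module.End F V) (x : V) : x ∈ fixedS g ↔ g x = x := by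
  unfold fixedS
  rw [LinearMap.mem_ker, LinearMap.sub_apply, Module.End.one_apply, sub_eq_zero]

theorem fixedS_invariant (g : Module.End F V) : ∀ x ∈ fixedS g, g x ∈ fixedS g := by
  intro x hx
  rw [mem_fixedS] at hx ⊢
  rw [hx, hx]

theorem restrict_fixedS (g : Module.End F V) : g.restrict (fixedS_invariant g) = 1 := by
  apply LinearMap.ext
  intro x
  apply Subtype.ext
  exact (mem_fixedS g x.1).mp x.2

namespace Std

variable {Q : QuadraticForm F V} {g : Module.End F V} {r : ℕ}

theorem nondegOn_fixedS [FiniteDimensional F V] (h : Std Q g r) : NondegOn Q (fixedS g) := by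
  intro x hx hxk
  apply h.nondeg
  intro v
  have hmem : g - 1 ∈ Algebra.adjoin F {g} :=
    Subalgebra.sub_mem _ (Algebra.self_mem_adjoin_singleton F g) (Subalgebra.one_mem _)
  have hss : (g - 1).IsSemisimple := h.isSemisimple.of_mem_adjoin_singleton hmem
  have hdisj : Disjoint (LinearMap.ker (g - 1)) (LinearMap.range (g - 1)) := by
    rw [disjoint_iff]
    exact ker_inf_range_of_isSemisimple hss
  have htop : LinearMap.ker (g - 1) ⊔ LinearMap.range (g - 1) = ⊤ := by
    apply Submodule.eq_top_of_disjoint _ _ _ hdisj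
    rw [add_comm, LinearMap.finrank_range_add_finrank_ker]
  have hv : v ∈ LinearMap.ker (g - 1) ⊔ LinearMap.range (g - 1) := by
    rw [htop]
    exact Submodule.mem_top
  obtain ⟨k, hk, w, ⟨w', rfl⟩, rfl⟩ := Submodule.mem_sup.mp hv
  have hgx : g x = x := (mem_fixedS g x).mp hx
  have hgix : ginv g r x = x := by
    have := h.toIsoOrd.ginv_apply x
    rw [hgx] at this
    exact this
  rw [QuadraticMap.polar_add_right, hxk k hk, zero_add, LinearMap.sub_apply,
    Module.End.one_apply, QuadraticMap.polar_sub_right, ← h.toIsoOrd.polar_ginv_left, hgix,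
    sub_self]

theorem fpf_perp [FiniteDimensional F V] (h : Std Q g r) :
    Fpf (g.restrict (h.toIsoOrd.perpS_invariant (fixedS_invariant g))) := by
  intro v hv
  have h1 : g v.1 = v.1 := congrArg Subtype.val hv
  have h2 : v.1 ∈ fixedS g := (mem_fixedS g v.1).mpr h1
  have h3 : v.1 ∈ fixedS g ⊓ perpS Q (fixedS g) := ⟨h2, v.2⟩
  rw [(isCompl_perpS h.nondegOn_fixedS).inf_eq_bot, Submodule.mem_bot] at h3
  exact Subtype.ext h3

end Std

section Finite

variable [Fintype F] [FiniteDimensional F V]
variable {Q : QuadraticForm F V} {g : Module.End F V} {r : ℕ}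

/-- **similarities commuting with an isometry of odd order**, even dimension. -/
theorem exists_sim_of_even (h : Std Q g r) (m : ℕ) (hV : finrank F V = 2 * m) (ν : F) :
    ∃ c : Module.End F V, c * g = g * c ∧ (∀ v, Q (c v) = ν * Q v) ∧ LinearMap.det c = ν ^ m := by
  have hnd₁ := h.nondegOn_fixedS
  have hc := isCompl_perpS hnd₁
  have hU := fixedS_invariant g
  have hU' := h.toIsoOrd.perpS_invariant hU
  have hnd₂ := nondegOn_perpS h.nondeg hnd₁
  have hsum := Submodule.finrank_add_eq_of_isCompl hc
  obtain ⟨c₂, k₂, hc₂, hs₂, hf₂, hd₂⟩ := exists_sim_fpf (finrank F (perpS Q (fixedS g)))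
    (perpS Q (fixedS g)) (Q.comp (perpS Q (fixedS g)).subtype) (g.restrict hU') r rfl
    (h.restrict hU' hnd₂) h.fpf_perp ν
  have hf₁ : finrank F (fixedS g) = 2 * (m - k₂) := by omega
  obtain ⟨c₁, hs₁, hd₁⟩ := exists_sim_even h.h2 (m - k₂) (fixedS g)
    (Q.comp (fixedS g).subtype) ((nondeg_comp_subtype_iff Q _).mpr hnd₁) hf₁ ν
  obtain ⟨c, hcg, hcs, -, hcd, -, -⟩ := glue hc
    (fun u hu u' hu' => (mem_perpS Q _ u').mp hu' u hu) hU hU' c₁ c₂ ν (m - k₂) k₂
    (by rw [restrict_fixedS, mul_one, one_mul]) hc₂ hs₁ hs₂ hf₁ hf₂ hd₁ hd₂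
  refine ⟨c, hcg, hcs, ?_⟩
  rw [hcd]
  congr 1
  omega

theorem refl_comm_of_fixed (h : IsoOrd Q g r) {u : V} (hu : g u = u) (x : V) :
    refl Q u (g x) = g (refl Q u x) := by
  rw [refl_apply, refl_apply, map_sub, map_smul, hu]
  congr 3
  nth_rewrite 1 [← hu]
  exact h.polar_map u x

/-- **products of reflections commuting with an isometry of odd order**, even positive
dimension. -/
theorem exists_goodList_of_even (h : Std Q g r) (m : ℕ) (hm : 0 < m) (hV : finrank F V = 2 * m) :
    ∃ l : List V, GoodList Q g l := by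
  have hnt : Nontrivial V := Module.nontrivial_of_finrank_pos (R := F) (by omega)
  by_cases hfix : fixedS g = ⊥
  · have hf : Fpf g := by
      intro v hv
      have : v ∈ fixedS g := (mem_fixedS g v).mpr hv
      rw [hfix, Submodule.mem_bot] at this
      exact this
    exact exists_goodList_fpf _ V Q g r rfl h hf
  · have hnd₁ := h.nondegOn_fixedS
    have hc := isCompl_perpS hnd₁
    have hU := fixedS_invariant g
    have hU' := h.toIsoOrd.perpS_invariant hU
    have hnd₂ := nondegOn_perpS h.nondeg hnd₁
    have hsum := Submodule.finrank_add_eq_of_isCompl hc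
    obtain ⟨c₂, k₂, -, -, hf₂, -⟩ := exists_sim_fpf (finrank F (perpS Q (fixedS g)))
      (perpS Q (fixedS g)) (Q.comp (perpS Q (fixedS g)).subtype) (g.restrict hU') r rfl
      (h.restrict hU' hnd₂) h.fpf_perp 1
    have hpos : 0 < finrank F (fixedS g) := by
      rw [Module.finrank_pos_iff]
      exact (Submodule.nontrivial_iff_ne_bot).mpr hfix
    have h2le : 2 ≤ finrank F (fixedS g) := by omega
    obtain ⟨e, he⟩ := exists_nonsquare (F := F) h.h2
    have hndc := (nondeg_comp_subtype_iff Q _).mpr hnd₁
    obtain ⟨u, hu⟩ := exists_repr (Q.comp (fixedS g).subtype) hndc h2le 1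
    obtain ⟨w, hw⟩ := exists_repr (Q.comp (fixedS g).subtype) hndc h2le e
    have hu' : Q u.1 = 1 := hu
    have hw' : Q w.1 = e := hw
    have hgu : g u.1 = u.1 := (mem_fixedS g u.1).mp u.2
    have hgw : g w.1 = w.1 := (mem_fixedS g w.1).mp w.2
    have he0 : e ≠ 0 := by
      rintro rfl
      exact he IsSquare.zero
    refine ⟨[u.1, w.1], ?_, ?_, ?_, ?_⟩
    · intro z hz
      rcases List.mem_cons.mp hz with rfl | hz
      · rw [hu']
        exact one_ne_zero
      · rcases List.mem_cons.mp hz with rfl | hz
        · rw [hw']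
          exact he0
        · simp at hz
    · exact ⟨1, rfl⟩
    · simp only [List.map_cons, List.map_nil, List.prod_cons, List.prod_nil, hu', hw', one_mul,
        mul_one]
      exact he
    · intro v
      rw [reflProd_cons, reflProd_cons, reflProd_nil, mul_one, LinearEquiv.mul_apply,
        LinearEquiv.mul_apply, refl_comm_of_fixed h.toIsoOrd hgw, refl_comm_of_fixed h.toIsoOrd hgu]

end Finite

end Cfsg.Agent.Helper8.SsCls
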