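import Mathlib
import Cfsg.Agent.Helper8.SsClsS
import Cfsg.Agent.Helper8.OmegaDiag
import Cfsg.Agent.Helper8.AutImageOrth
import Cfsg.Agent.Helper8.SOIndexTwo

set_option autoImplicit false
set_option linter.unusedSectionVars false
set_option linter.style.haveILetI false

/-!
# Classes of semisimple elements of odd prime order in orthogonal groups, part T

Matrix form: for a matrix isometry `g` of odd order prime to the characteristic, in even dimension,
a similarity with prescribed multiplier `ν` and determinant `ν^k` commuting with `g`, and a product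
of reflections of determinant one outside the commutator subgroup commuting with `g`.
-/

namespace Cfsg.Agent.Helper8.SsCls

open Module Matrix Cfsg.Agent.Helper8.QuadForm Cfsg.Agent.Helper8.WittQuad
  Cfsg.Agent.Helper8.OrthOrder Cfsg.Agent.Helper8.Reflections Cfsg.Agent.Helper8.ReflMatrix
  Cfsg.Agent.Helper8.OmegaOdd Cfsg.Agent.Helper8.OmegaDiag Cfsg.Agent.Helper8.AutImageOrth

variable {F : Type*} [Field F] [Fintype F] {ι : Type} [Fintype ι] [DecidableEq ι]
  (Q : QuadraticForm F (ι → F))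

/-- the endomorphism of a matrix isometry. -/
noncomputable def endOf (g : ↥(Cfsg.isometryGroup F ⇑Q)) : Module.End F (ι → F) :=
  Matrix.toLinAlgEquiv' ((g : GL ι F) : Matrix ι ι F)

theorem endOf_apply (g : ↥(Cfsg.isometryGroup F ⇑Q)) (v : ι → F) :
    endOf Q g v = ((g : GL ι F) : Matrix ι ι F) *ᵥ v := rfl

theorem std_endOf (h2 : (2 : F) ≠ 0) (hQ : (QuadraticMap.polarBilin Q).Nondegenerate)
    (g : ↥(Cfsg.isometryGroup F ⇑Q)) {r : ℕ} (hr : Odd r) (hrF : (r : F) ≠ 0) (hgr : g ^ r = 1) :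
    Std Q (endOf Q g) r where
  isom v := (mem_isometryGroup_iff' ⇑Q _).mp g.2 v
  pow := by
    unfold endOf
    rw [← map_pow]
    have h1 : ((g : GL ι F) : Matrix ι ι F) ^ r = 1 := by
      have := congrArg (fun x : ↥(Cfsg.isometryGroup F ⇑Q) => ((x : GL ι F) : Matrix ι ι F)) hgr
      simpa using this
    rw [h1, map_one]
  pos := hr.pos
  h2 := h2
  odd := hr
  hrF := hrF
  nondeg := (nondeg_iff Q).mp hQ

theorem exists_commuting_sim (h2 : (2 : F) ≠ 0) (hQ : (QuadraticMap.polarBilin Q).Nondegenerate)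
    (k : ℕ) (hk : Fintype.card ι = 2 * k)
    (g : ↥(Cfsg.isometryGroup F ⇑Q)) {r : ℕ} (hr : Odd r) (hrF : (r : F) ≠ 0) (hgr : g ^ r = 1)
    (ν : Fˣ) :
    ∃ d : GL ι F, (∀ v, Q ((d : Matrix ι ι F) *ᵥ v) = (ν : F) * Q v) ∧
      (d : Matrix ι ι F).det = (ν : F) ^ k ∧ d * (g : GL ι F) = (g : GL ι F) * d := by
  have hstd := std_endOf Q h2 hQ g hr hrF hgr
  obtain ⟨c, hcg, hcs, hcd⟩ := exists_sim_of_even hstd k
    (by rw [Module.finrank_fintype_fun_eq_card, hk]) (ν : F)
  obtain ⟨C, hC⟩ : ∃ C : Matrix ι ι F, C = Matrix.toLinAlgEquiv'.symm c := ⟨_, rfl⟩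
  have hCc : Matrix.toLinAlgEquiv' C = c := by rw [hC, AlgEquiv.apply_symm_apply]
  have hCv : ∀ v, C *ᵥ v = c v := by
    intro v
    rw [← hCc]
    rfl
  have hdet : C.det = (ν : F) ^ k := by
    rw [← hcd, ← hCc]
    exact (LinearMap.det_toLin' C).symm
  have hdet0 : C.det ≠ 0 := by
    rw [hdet]
    exact pow_ne_zero _ (Units.ne_zero ν)
  refine ⟨Matrix.GeneralLinearGroup.mkOfDetNeZero C hdet0, ?_, hdet, ?_⟩
  · intro v
    show Q (C *ᵥ v) = _
    rw [hCv, hcs]
  · apply Units.ext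
    rw [Units.val_mul, Units.val_mul]
    show C * ((g : GL ι F) : Matrix ι ι F) = ((g : GL ι F) : Matrix ι ι F) * C
    apply Matrix.toLinAlgEquiv'.injective
    rw [map_mul, map_mul, hCc]
    exact hcg

theorem exists_commuting_refl (h2 : (2 : F) ≠ 0) (hQ : (QuadraticMap.polarBilin Q).Nondegenerate)
    (k : ℕ) (hk0 : 0 < k) (hk : Fintype.card ι = 2 * k)
    (g : ↥(Cfsg.isometryGroup F ⇑Q)) {r : ℕ} (hr : Odd r) (hrF : (r : F) ≠ 0) (hgr : g ^ r = 1) :
    ∃ w : ↥(Cfsg.isometryGroup F ⇑Q), w ∈ Cfsg.specialIsometryGroup F ⇑Q ∧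
      w ∉ Cfsg.Omega F ⇑Q ∧ w * g = g * w := by
  have hstd := std_endOf Q h2 hQ g hr hrF hgr
  obtain ⟨l, hl, hev, hns, hcomm⟩ := exists_goodList_of_even hstd k hk0
    (by rw [Module.finrank_fintype_fun_eq_card, hk])
  refine ⟨(l.map (reflElt Q)).prod, ?_, ?_, ?_⟩
  · rw [Cfsg.Agent.Helper8.SOIndexTwo.mem_special_iff, det_prod_reflElt Q l hl]
    exact hev.neg_one_pow
  · intro hmem
    have := (Cfsg.Agent.Helper8.OmegaCrit.prod_reflElt_mem_iff Q h2 hQ (by omega) l hl).mp hmem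
    exact hns this.2
  · apply Subtype.ext
    apply Units.ext
    rw [Subgroup.coe_mul, Subgroup.coe_mul, Units.val_mul, Units.val_mul]
    apply matrix_ext
    intro x
    rw [← Matrix.mulVec_mulVec, ← Matrix.mulVec_mulVec]
    have e1 : ∀ y, ((((l.map (reflElt Q)).prod : ↥(Cfsg.isometryGroup F ⇑Q)) : GL ι F) :
        Matrix ι ι F) *ᵥ y = reflProd Q l y := by
      intro y
      rw [← isomEquiv_apply, isomEquiv_prod_reflElt]
      rfl
    rw [e1, e1]
    exact hcomm x

end Cfsg.Agent.Helper8.SsCls
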