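import Mathlib
import Cfsg.Agent.Helper8.SsClsT
import Cfsg.Agent.Helper8.GrInvE

set_option autoImplicit false
set_option linter.unusedSectionVars false
set_option linter.style.haveILetI false

/-!
# Classes of semisimple elements of odd prime order in orthogonal groups, part U

The group theory: an automorphism of `PΩ(Q)` of odd order prime to the characteristic induced by a
similarity is induced by an isometry of the same order; the centralizer of such an automorphism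
covers `PGO / PO` and `Inndiag / Inn`, so the classes coincide.
-/

namespace Cfsg.Agent.Helper8.SsCls

open Module Matrix Cfsg.Agent.Helper8.QuadForm
  Cfsg.Agent.Helper8.ReflMatrix Cfsg.Agent.Helper8.Reflections
  Cfsg.Agent.Helper8.AutImagePsi Cfsg.Agent.Helper8.AutImageOrth
  Cfsg.Agent.Helper8.AutImage Cfsg.Agent.Helper8.AutImageKer
  Cfsg.Agent.Helper8.AutImageIdx Cfsg.Agent.Helper8.AutImageD8
  Cfsg.Agent.Helper8.OmegaOdd Cfsg.Agent.Helper8.Cls Cfsg.Agent.Helper8.InnDiagGen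
  Cfsg.Agent.Helper8.AutO Cfsg.Agent.Helper8.GrInv

/-- classes under `K ≤ H` coincide when the centralizer in `H` covers `H / K`. -/
theorem isConjUnder_iff_of_cover {G : Type*} [Group G] {K H : Subgroup G} (hKH : K ≤ H) (x : G)
    (hcover : ∀ h ∈ H, ∃ c ∈ H, c * x = x * c ∧ h * c⁻¹ ∈ K) (y : G) :
    Cfsg.IsConjUnder K x y ↔ Cfsg.IsConjUnder H x y := by
  constructor
  · rintro ⟨h, hh, rfl⟩
    exact ⟨h, hKH hh, rfl⟩
  · rintro ⟨h, hh, rfl⟩
    obtain ⟨c, -, hcx, hk⟩ := hcover h hh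
    refine ⟨h * c⁻¹, hk, ?_⟩
    have e : c⁻¹ * x * c = x := by
      rw [mul_assoc, ← hcx, ← mul_assoc, inv_mul_cancel, one_mul]
    calc h * x * h⁻¹ = h * (c⁻¹ * x * c) * h⁻¹ := by rw [e]
      _ = h * c⁻¹ * x * (h * c⁻¹)⁻¹ := by group

theorem mul_inv_mem_of_relIndex_two {B : Type*} [Group B] {I P : Subgroup B}
    (h : I.relIndex P = 2) {a b : B} (ha : a ∈ P) (hb : b ∈ P) (ha' : a ∉ I) (hb' : b ∉ I) :
    a * b⁻¹ ∈ I := by
  have h1 : (I.subgroupOf P).index = 2 := h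
  have h2 := Subgroup.mul_mem_iff_of_index_two h1 (a := (⟨a, ha⟩ : ↥P)) (b := (⟨b, hb⟩ : ↥P)⁻¹)
  rw [Subgroup.mem_subgroupOf] at h2
  apply h2.mpr
  rw [Subgroup.mem_subgroupOf, inv_mem_iff, Subgroup.mem_subgroupOf]
  exact ⟨fun h => absurd h ha', fun h => absurd h hb'⟩

variable {F : Type*} [Field F] [Fintype F] {ι : Type} [Fintype ι] [DecidableEq ι]
  (Q : QuadraticForm F (ι → F)) (h2 : (2 : F) ≠ 0)
  (hQ : (QuadraticMap.polarBilin Q).Nondegenerate) (hne : ∃ v, Q v ≠ 0) (k : ℕ)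
  (hk : Fintype.card ι = 2 * k) (h5 : 5 ≤ Fintype.card ι)

include h2 hQ h5 hne in
/-- an automorphism of odd order induced by a similarity is induced by an isometry of that
order. -/
theorem exists_isometry_lift (x : MulAut (Cfsg.POmega F ⇑Q)) (hx : x ∈ Cfsg.pgoAut F ⇑Q) {r : ℕ}
    (hr : Odd r) (hxr : x ^ r = 1) :
    ∃ g : ↥(Cfsg.isometryGroup F ⇑Q), g ^ r = 1 ∧ PhiO ⇑Q g = x := by
  rw [pgoAut_eq] at hx
  obtain ⟨g₀, rfl⟩ := hx
  have h1 : Phi ⇑Q (g₀ ^ r) = 1 := by rw [map_pow]; exact hxr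
  obtain ⟨c, hc⟩ := (Phi_eq_one_iff Q h2 hQ h5 _).mp h1
  have hc0 : c ≠ 0 := by
    intro h0
    rw [h0, zero_smul] at hc
    have hdet : (((g₀ ^ r : ↥(Cfsg.Geo.quadSimilarityGroup (F := F) ⇑Q)) : GL ι F) :
        Matrix ι ι F).det ≠ 0 := by
      exact (Matrix.isUnit_iff_isUnit_det _).mp (Units.isUnit _) |>.ne_zero
    rw [hc] at hdet
    have hpos : 0 < Fintype.card ι := by omega
    have : Nonempty ι := Fintype.card_pos_iff.mp hpos
    rw [Matrix.det_zero] at hdet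
    exact hdet rfl
  obtain ⟨cu, hcu⟩ : ∃ cu : Fˣ, (cu : F) = c := ⟨Units.mk0 c hc0, rfl⟩
  rw [← hcu] at hc
  have hμr := mult_of_scalar Q hne _ cu hc
  rw [map_pow] at hμr
  obtain ⟨t, ht⟩ := hr
  obtain ⟨μ, hμ⟩ : ∃ μ : Fˣ, μ = mult ⇑Q hne g₀ := ⟨_, rfl⟩
  rw [← hμ] at hμr
  obtain ⟨ν₁, hν₁⟩ : ∃ ν₁ : Fˣ, ν₁ = cu⁻¹ * μ ^ t := ⟨_, rfl⟩
  -- the two identities
  have hμF : (μ : F) ^ r = (cu : F) * cu := by
    have := congrArg Units.val hμr
    rw [Units.val_pow_eq_pow_val, Units.val_mul] at this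
    exact this
  have hν₁F : (ν₁ : F) = (cu : F)⁻¹ * (μ : F) ^ t := by
    rw [hν₁, Units.val_mul, Units.val_inv_eq_inv_val, Units.val_pow_eq_pow_val]
  have hcu0 : (cu : F) ≠ 0 := Units.ne_zero cu
  have id1 : (ν₁ : F) * ν₁ * μ = 1 := by
    rw [hν₁F]
    have : (μ : F) ^ t * (μ : F) ^ t * μ = (μ : F) ^ r := by
      rw [ht]
      ring
    field_simp
    rw [pow_two, pow_two, hμF.symm, ← this]
  have id2 : (ν₁ : F) ^ r * cu = 1 := by
    rw [hν₁F, mul_pow, inv_pow, ← pow_mul]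
    have e1 : (μ : F) ^ (t * r) = ((cu : F) * cu) ^ t := by
      rw [mul_comm t r, pow_mul, hμF]
    rw [e1, ht]
    field_simp
    ring
  obtain ⟨gs, hgs⟩ : ∃ gs : ↥(Cfsg.Geo.quadSimilarityGroup (F := F) ⇑Q),
      gs = scalarGO Q ν₁ * g₀ := ⟨_, rfl⟩
  have hmult : mult ⇑Q hne gs = 1 := by
    rw [hgs, map_mul, mult_of_scalar Q hne _ ν₁ (scalarGO_val Q ν₁), ← hμ]
    apply Units.ext
    rw [Units.val_mul, Units.val_mul, Units.val_one]
    exact id1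
  have hiso := isometry_of_mult ⇑Q hne gs hmult
  have hgsval : ((gs : GL ι F) : Matrix ι ι F)
      = (ν₁ : F) • ((g₀ : GL ι F) : Matrix ι ι F) := by
    rw [hgs, Subgroup.coe_mul, Units.val_mul, scalarGO_val, Matrix.smul_mul, Matrix.one_mul]
  refine ⟨⟨gs.1, hiso⟩, ?_, ?_⟩
  · apply Subtype.ext
    apply Units.ext
    rw [Subgroup.coe_pow, Units.val_pow_eq_pow_val, Subgroup.coe_one, Units.val_one]
    show ((gs : GL ι F) : Matrix ι ι F) ^ r = 1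
    rw [hgsval, smul_pow]
    have e2 : ((g₀ : GL ι F) : Matrix ι ι F) ^ r = (cu : F) • (1 : Matrix ι ι F) := by
      rw [← hc, Subgroup.coe_pow, Units.val_pow_eq_pow_val]
    rw [e2, smul_smul, id2, one_smul]
  · show Phi ⇑Q (Subgroup.inclusion (isometry_le_similarity ⇑Q) ⟨gs.1, hiso⟩) = Phi ⇑Q g₀
    have e3 : Subgroup.inclusion (isometry_le_similarity ⇑Q) ⟨gs.1, hiso⟩ = gs := Subtype.ext rfl
    rw [e3, hgs, map_mul]
    have e4 : Phi ⇑Q (scalarGO Q ν₁) = 1 :=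
      (Phi_eq_one_iff Q h2 hQ h5 _).mpr ⟨ν₁, scalarGO_val Q ν₁⟩
    rw [e4, one_mul]

include h2 hQ h5 hne in
/-- a similarity with square multiplier induces an automorphism in the image of `O`. -/
theorem Phi_mem_poAut_of_isSquare (a : ↥(Cfsg.Geo.quadSimilarityGroup (F := F) ⇑Q))
    (ha : IsSquare ((mult ⇑Q hne a : Fˣ) : F)) : Phi ⇑Q a ∈ Cfsg.poAut F ⇑Q := by
  obtain ⟨l, hl⟩ := ha
  have hl0 : l ≠ 0 := by
    intro h0
    rw [h0, mul_zero] at hl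
    exact Units.ne_zero _ hl
  obtain ⟨lu, hlu⟩ : ∃ lu : Fˣ, (lu : F) = l := ⟨Units.mk0 l hl0, rfl⟩
  obtain ⟨a', ha'⟩ : ∃ a' : ↥(Cfsg.Geo.quadSimilarityGroup (F := F) ⇑Q),
      a' = scalarGO Q lu⁻¹ * a := ⟨_, rfl⟩
  have hmult : mult ⇑Q hne a' = 1 := by
    rw [ha', map_mul, mult_of_scalar Q hne _ lu⁻¹ (scalarGO_val Q lu⁻¹)]
    apply Units.ext
    rw [Units.val_mul, Units.val_mul, Units.val_one, hl, Units.val_inv_eq_inv_val, hlu]
    field_simp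
  have hiso := isometry_of_mult ⇑Q hne a' hmult
  have e1 : Phi ⇑Q a = Phi ⇑Q a' := by
    rw [ha', map_mul, (Phi_eq_one_iff Q h2 hQ h5 _).mpr ⟨(lu⁻¹ : Fˣ), scalarGO_val Q lu⁻¹⟩,
      one_mul]
  rw [e1, poAut_eq']
  refine ⟨⟨a'.1, hiso⟩, ?_⟩
  show Phi ⇑Q (Subgroup.inclusion (isometry_le_similarity ⇑Q) ⟨a'.1, hiso⟩) = Phi ⇑Q a'
  congr 1

end Cfsg.Agent.Helper8.SsCls
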