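import Mathlib
import Cfsg.Agent.Helper8.AutOzu
import Cfsg.Agent.Helper8.AutOPe
import Cfsg.Agent.Helper8.AutD4A
import Cfsg.Agent.Helper8.AutD4D
import Cfsg.Agent.Helper8.SsClsU
import Cfsg.Agent.S2724

set_option autoImplicit false
set_option linter.unusedSectionVars false
set_option linter.unusedVariables false
set_option linter.style.haveILetI false

/-!
# Splitting lemmas for the outer automorphism group of `PΩ⁺_{2m}(q)`
-/

namespace Cfsg.Agent.Helper8.AutD4

open Module Matrix Cfsg.Agent.Helper8.QuadForm Cfsg.Agent.Helper8.WittQuad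
  Cfsg.Agent.Helper8.OrthOrder
  Cfsg.Agent.Helper8.Siegel Cfsg.Agent.Helper8.SiegelGeom Cfsg.Agent.Helper8.SiegelGroup
  Cfsg.Agent.Helper8.SiegelPrim Cfsg.Agent.Helper8.SiegelSimple Cfsg.Agent.Helper8.ReflMatrix
  Cfsg.Agent.Helper8.OmegaSimple Cfsg.Agent.Helper8.AutImagePsi Cfsg.Agent.Helper8.AutImageOrth
  Cfsg.Agent.Helper8.StdForms Cfsg.Agent.Helper8.Reflections Cfsg.Agent.Helper8.AutImage
  Cfsg.Agent.Helper8.AutImageKer Cfsg.Agent.Helper8.AutImageIdx Cfsg.Agent.Helper8.AutImageD8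
  Cfsg.Agent.Helper8.OmegaStd Cfsg.Agent.Helper8.AutO

section Products

variable {H C : Type*} [Group H] [Group C]

/-- an extension of a cyclic group of order `f` split by an element of order `f` centralising the
kernel is a direct product. -/
theorem nonempty_equiv_ker_prod (T : H →* C) (t : H) {f : ℕ} (htf : t ^ f = 1)
    (hord : orderOf (T t) = f) (hgen : ∀ c : C, c ∈ Subgroup.zpowers (T t))
    (hcen : ∀ δ : ↥T.ker, Commute (δ : H) t) :
    Nonempty (H ≃* ↥T.ker × Multiplicative (ZMod f)) := by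
  have hot : orderOf t = f := by
    apply Nat.dvd_antisymm (orderOf_dvd_of_pow_eq_one htf)
    rw [← hord]
    exact orderOf_map_dvd T t
  have hcomm : ∀ (δ : ↥T.ker) (z : ↥(Subgroup.zpowers t)),
      Commute (T.ker.subtype δ) ((Subgroup.zpowers t).subtype z) := by
    rintro δ ⟨z, hz⟩
    obtain ⟨n, rfl⟩ := Subgroup.mem_zpowers_iff.mp hz
    exact (hcen δ).zpow_right n
  let Φ : ↥T.ker × ↥(Subgroup.zpowers t) →* H :=
    MonoidHom.noncommCoprod T.ker.subtype (Subgroup.zpowers t).subtype hcomm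
  have hΦ : ∀ x : ↥T.ker × ↥(Subgroup.zpowers t), Φ x = (x.1 : H) * (x.2 : H) := fun x => rfl
  have hinj : Function.Injective Φ := by
    rw [injective_iff_map_eq_one]
    rintro ⟨δ, ⟨z, hz⟩⟩ h
    rw [hΦ] at h
    obtain ⟨n, rfl⟩ := Subgroup.mem_zpowers_iff.mp hz
    have h1 := congrArg T h
    rw [map_mul, map_one, MonoidHom.mem_ker.mp δ.2, one_mul, map_zpow] at h1
    have h2 : (f : ℤ) ∣ n := by
      rw [← hord]
      exact orderOf_dvd_iff_zpow_eq_one.mpr h1
    have h3 : t ^ n = 1 := by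
      rw [← hot] at h2
      exact orderOf_dvd_iff_zpow_eq_one.mp h2
    have h4 : (δ : H) = 1 := by
      simpa [h3] using h
    exact Prod.ext (Subtype.ext h4) (Subtype.ext h3)
  have hsurj : Function.Surjective Φ := by
    intro h
    obtain ⟨n, hn⟩ := Subgroup.mem_zpowers_iff.mp (hgen (T h))
    have hk : h * (t ^ n)⁻¹ ∈ T.ker := by
      rw [MonoidHom.mem_ker, map_mul, map_inv, map_zpow, hn, mul_inv_cancel]
    refine ⟨(⟨h * (t ^ n)⁻¹, hk⟩, ⟨t ^ n, Subgroup.mem_zpowers_iff.mpr ⟨n, rfl⟩⟩), ?_⟩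
    rw [hΦ]
    show h * (t ^ n)⁻¹ * t ^ n = h
    group
  have hcyc : IsCyclic ↥(Subgroup.zpowers t) := inferInstance
  obtain ⟨ez⟩ : Nonempty (↥(Subgroup.zpowers t) ≃* Multiplicative (ZMod f)) := by
    have key : ∀ n : ℕ, Nat.card ↥(Subgroup.zpowers t) = n →
        Nonempty (↥(Subgroup.zpowers t) ≃* Multiplicative (ZMod n)) := by
      rintro n rfl
      exact ⟨(zmodCyclicMulEquiv hcyc).symm⟩
    exact key f (by rw [Nat.card_zpowers, hot])
  exact ⟨(MulEquiv.ofBijective Φ ⟨hinj, hsurj⟩).symm.trans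
    (MulEquiv.prodCongr (MulEquiv.refl _) ez)⟩


/-- the dihedral case with `f` even: the data needed to split off the field automorphisms. -/
theorem nonempty_equiv_dihedral_prod_even (T : H →* C) (eK : ↥T.ker ≃* DihedralGroup 4) (x₀ : H)
    {f : ℕ} (hfe : Even f) (hx₀f : x₀ ^ f = 1) (hord : orderOf (T x₀) = f)
    (hgen : ∀ c : C, c ∈ Subgroup.zpowers (T x₀))
    (z₀ a : ↥T.ker) (hz₀1 : z₀ ≠ 1) (hzc : ∀ κ : ↥T.ker, z₀ * κ = κ * z₀) (haa : a * a = 1)
    (ha1 : a ≠ 1) (haz : a ≠ z₀) (hxa : x₀ * (a : H) * x₀⁻¹ = (a : H))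
    (hβ : ∀ κ : ↥T.ker, x₀ * (κ : H) * x₀⁻¹ * (κ : H)⁻¹ = 1 ∨
      x₀ * (κ : H) * x₀⁻¹ * (κ : H)⁻¹ = (z₀ : H)) :
    Nonempty (H ≃* DihedralGroup 4 × Multiplicative (ZMod f)) := by
  obtain ⟨β, hβdef⟩ : ∃ β : MulAut ↥T.ker, β = MulAut.conjNormal (H := T.ker) x₀ := ⟨_, rfl⟩
  have hβval : ∀ κ : ↥T.ker, ((β κ : ↥T.ker) : H) = x₀ * (κ : H) * x₀⁻¹ := by
    intro κ
    rw [hβdef]
    exact MulAut.conjNormal_apply x₀ κ
  have hβa : β a = a := by
    apply Subtype.ext
    rw [hβval, hxa]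
  have hβ' : ∀ κ : ↥T.ker, β κ * κ⁻¹ = 1 ∨ β κ * κ⁻¹ = z₀ := by
    intro κ
    have h3 : ((β κ * κ⁻¹ : ↥T.ker) : H) = x₀ * (κ : H) * x₀⁻¹ * (κ : H)⁻¹ := by
      rw [Subgroup.coe_mul, hβval, Subgroup.coe_inv]
    rcases hβ κ with h | h
    · left
      apply Subtype.ext
      rw [h3, h]
      rfl
    · right
      apply Subtype.ext
      rw [h3, h]
  rcases aut_d8_cases eK β z₀ a hz₀1 hzc haa ha1 haz hβa hβ' with hc | hc
  · -- the field automorphism centralises the kernel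
    have hcen : ∀ δ : ↥T.ker, Commute (δ : H) x₀ := by
      intro δ
      have h1 := congrArg Subtype.val (hc δ)
      rw [hβval] at h1
      show (δ : H) * x₀ = x₀ * (δ : H)
      calc (δ : H) * x₀ = (x₀ * (δ : H) * x₀⁻¹) * x₀ := by rw [h1]
        _ = x₀ * (δ : H) := by group
    obtain ⟨e1⟩ := nonempty_equiv_ker_prod T x₀ hx₀f hord hgen hcen
    exact ⟨e1.trans (MulEquiv.prodCongr eK (MulEquiv.refl _))⟩
  · -- the product with the involution centralises the kernel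
    obtain ⟨t, ht⟩ : ∃ t : H, t = x₀ * (a : H) := ⟨_, rfl⟩
    have hxa' : x₀ * (a : H) = (a : H) * x₀ := by
      calc x₀ * (a : H) = (x₀ * (a : H) * x₀⁻¹) * x₀ := by group
        _ = (a : H) * x₀ := by rw [hxa]
    have haa' : (a : H) * (a : H) = 1 := congrArg Subtype.val haa
    have htf : t ^ f = 1 := by
      obtain ⟨j, hj⟩ := hfe
      have hcomm : Commute x₀ (a : H) := hxa'
      rw [ht, hcomm.mul_pow, hx₀f, one_mul, hj, ← two_mul, pow_mul, pow_two, haa', one_pow]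
    have hTt : T t = T x₀ := by
      rw [ht, map_mul, MonoidHom.mem_ker.mp a.2, mul_one]
    have hcen : ∀ δ : ↥T.ker, Commute (δ : H) t := by
      intro δ
      have h1 := congrArg Subtype.val (hc δ)
      rw [hβval] at h1
      have h3 : t * (δ : H) * t⁻¹ = (δ : H) := by
        rw [ht]
        calc x₀ * (a : H) * (δ : H) * (x₀ * (a : H))⁻¹
            = x₀ * ((a : H) * (δ : H) * (a : H)⁻¹) * x₀⁻¹ := by group
          _ = (δ : H) := by simpa only [Subgroup.coe_mul, Subgroup.coe_inv] using h1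
      show (δ : H) * t = t * (δ : H)
      calc (δ : H) * t = (t * (δ : H) * t⁻¹) * t := by rw [h3]
        _ = t * (δ : H) := by group
    obtain ⟨e1⟩ := nonempty_equiv_ker_prod T t htf (by rw [hTt]; exact hord)
      (by rw [hTt]; exact hgen) hcen
    exact ⟨e1.trans (MulEquiv.prodCongr eK (MulEquiv.refl _))⟩

end Products

end Cfsg.Agent.Helper8.AutD4
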