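import Mathlib
import Cfsg.Agent.Helper8.AutOzu
import Cfsg.Agent.Helper8.AutOPe
import Cfsg.Agent.Helper8.AutD4A
import Cfsg.Agent.Helper8.AutD4D
import Cfsg.Agent.Helper8.AutD4E1
import Cfsg.Agent.Helper8.SsClsU
import Cfsg.Agent.S2724

set_option autoImplicit false
set_option linter.unusedSectionVars false
set_option linter.unusedVariables false
set_option linter.style.haveILetI false

/-!
# The outer automorphism group of `PΩ⁺_{2m}(q)`, `q` odd, `m ≥ 5`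
-/

namespace Cfsg.Agent.Helper8.AutD4

open Module Matrix Cfsg.Agent.Helper8.QuadForm Cfsg.Agent.Helper8.WittQuad
  Cfsg.Agent.Helper8.OrthOrder
  Cfsg.Agent.Helper8.Siegel Cfsg.Agent.Helper8.SiegelGeom Cfsg.Agent.Helper8.SiegelGroup
  Cfsg.Agent.Helper8.SiegelPrim Cfsg.Agent.Helper8.SiegelSimple Cfsg.Agent.Helper8.ReflMatrix
  Cfsg.Agent.Helper8.OmegaSimple Cfsg.Agent.Helper8.AutImagePsi Cfsg.Agent.Helper8.AutImageOrth
  Cfsg.Agent.Helper8.StdForms Cfsg.Agent.Helper8.Reflections Cfsg.Agent.Helper8.AutImage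
  Cfsg.Agent.Helper8.AutImageKer Cfsg.Agent.Helper8.AutImageIdx Cfsg.Agent.Helper8.AutImageD8
  Cfsg.Agent.Helper8.OmegaStd Cfsg.Agent.Helper8.AutO


section Refl

variable {F : Type*} [Field F] [Fintype F] {ι : Type} [Fintype ι] [DecidableEq ι]
  [Nontrivial (ι → F)] (Q : QuadraticForm F (ι → F))
  (hσQ : ∀ (σ : F ≃+* F) (v : ι → F), Q (fun i => σ (v i)) = σ (Q v))

include hσQ in
/-- the standard field automorphism commutes with a reflection in a vector with coordinates fixed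
by the field automorphism. -/
theorem conj_fieldGamma_reflGO (σ : F ≃+* F) {z : ι → F} (hz : ∀ i, σ (z i) = z i) :
    fieldGamma Q hσQ σ * simGamma Q (reflGO Q z) * (fieldGamma Q hσQ σ)⁻¹
      = simGamma Q (reflGO Q z) := by
  have h1 : fieldGamma Q hσQ σ = fieldGammaOne Q σ (hσQ σ) := by
    apply ext_gap
    intro v
    rfl
  have h3 := reflGO_commute Q σ (hσQ σ) hz
  rw [h1, ← h3, mul_inv_cancel_right]

end Refl

variable {F : Type*} [Field F] [Fintype F]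

set_option maxHeartbeats 16000000 in
/-- **the outer automorphism group of `PΩ⁺_{2m}(q)`, `q` odd, `m ≥ 5`.** -/
theorem out_POmega_plus_odd_big {p f : ℕ} [Fact p.Prime] (hf : 1 ≤ f)
    (hF : Fintype.card F = p ^ f) (hp : p ≠ 2) {m : ℕ} (hm : 5 ≤ m) :
    if p ^ f % 4 = 3 ∧ Odd m then
      Nonempty (Cfsg.Out (Cfsg.POmega F (Cfsg.quadFormPlus m F))
        ≃* Multiplicative (ZMod 2 × ZMod 2 × ZMod f))
    else
      Nonempty (Cfsg.Out (Cfsg.POmega F (Cfsg.quadFormPlus m F))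
        ≃* DihedralGroup 4 × Multiplicative (ZMod f)) := by
  classical
  obtain ⟨k, rfl⟩ : ∃ k, m = k + 1 := ⟨m - 1, by omega⟩
  have hchar : CharP F p := charP_of_card_eq_prime_pow hF
  have hpodd : Odd p := (Fact.out : p.Prime).odd_of_ne_two hp
  have hodd : Odd (Fintype.card F) := by rw [hF]; exact hpodd.pow
  have h2 : (2 : F) ≠ 0 := two_ne_zero_of_odd hodd
  have e : ⇑(plusForm F (k + 1)) = Cfsg.quadFormPlus (k + 1) F :=
    funext (plusForm_apply F (k + 1))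
  have hcard : Fintype.card (Fin (k + 1) ⊕ Fin (k + 1)) = 2 * (k + 1) := by
    simp only [Fintype.card_sum, Fintype.card_fin]; ring
  haveI : Nonempty (Fin (k + 1) ⊕ Fin (k + 1)) := ⟨Sum.inl 0⟩
  have hS := Cfsg.Agent.S2724.result (F := F) hodd (m := k + 1) (by omega)
  have hiff := neg_one_mem_Omega_plus_iff (F := F) (n := k + 1) (by omega) h2
  obtain ⟨e₀, he₀, he₀σ⟩ := plus_e0 (F := F) k
  have hσQ : ∀ (σ : F ≃+* F) (v : Fin (k + 1) ⊕ Fin (k + 1) → F),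
      plusForm F (k + 1) (fun i => σ (v i)) = σ (plusForm F (k + 1) v) :=
    fun σ v => plusForm_sigma σ (k + 1) v
  rw [← e] at hS ⊢
  obtain ⟨Q, hQdef⟩ : ∃ Q, Q = plusForm F (k + 1) := ⟨_, rfl⟩
  rw [← hQdef] at hS hiff he₀ hσQ ⊢
  have hQ : (QuadraticMap.polarBilin Q).Nondegenerate := by
    rw [hQdef]; exact plusForm_nondeg F (k + 1)
  have hQ' : Nondeg Q := (nondeg_iff Q).mp hQ
  have hdim : finrank F (Fin (k + 1) ⊕ Fin (k + 1) → F) = 2 * (k + 1) := by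
    rw [Module.finrank_fintype_fun_eq_card, hcard]
  have h5 : 5 ≤ Fintype.card (Fin (k + 1) ⊕ Fin (k + 1)) := by rw [hcard]; omega
  have hB2 : 9 ≤ finrank F (Fin (k + 1) ⊕ Fin (k + 1) → F) ∨ NoB2 Q := by
    left; rw [hdim]; omega
  have hsurj : Function.Surjective (Psi (Q := Q)) :=
    Psi_surjective hQ' (by rw [hdim]; omega) p hB2
  have hker : (Psi (Q := Q)).ker ≤ (tau (Q := Q)).ker := by
    rw [ker_Psi hQ' (by rw [hdim]; omega) p]
    rintro _ ⟨c, rfl⟩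
    exact MonoidHom.mem_ker.mpr (tau_scalarGamma c)
  have hne : ∃ v, Q v ≠ 0 := ⟨e₀, he₀⟩
  -- the field automorphism of an outer automorphism
  obtain ⟨T, hT⟩ : ∃ T : Cfsg.Out (Cfsg.POmega F ⇑Q) →* (F ≃+* F),
      T = tauOutM Q hQ h5 hsurj hker := ⟨_, rfl⟩
  have hTmk : ∀ γ : ↥(GammaO Q), T (QuotientGroup.mk (PsiM Q hQ h5 γ)) = tau γ := by
    intro γ
    rw [hT]
    exact tauOutM_mk Q hQ h5 hsurj hker γ
  -- the Frobenius automorphism
  obtain ⟨σ, hσ⟩ : ∃ σ : F ≃+* F, ∀ t : F, σ t = t ^ p :=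
    ⟨frobeniusEquiv F p, fun t => frobeniusEquiv_apply F p t⟩
  obtain ⟨hσord, hσgen⟩ := frob_generates hF hf hσ
  obtain ⟨γ, hγ⟩ : ∃ γ : ↥(GammaO Q), γ = fieldGamma Q hσQ σ := ⟨_, rfl⟩
  have hγtau : tau γ = σ := by rw [hγ]; exact tau_fieldGamma Q hσQ σ
  obtain ⟨x₀, hx₀⟩ : ∃ x₀ : Cfsg.Out (Cfsg.POmega F ⇑Q),
      x₀ = QuotientGroup.mk (PsiM Q hQ h5 γ) := ⟨_, rfl⟩
  have hx₀tau : T x₀ = σ := by rw [hx₀, hTmk, hγtau]
  have hx₀f : x₀ ^ f = 1 := by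
    rw [hx₀, ← QuotientGroup.mk_pow, ← map_pow, hγ, ← map_pow, ← hσord, pow_orderOf_eq_one,
      map_one, map_one]
    rfl
  have hord : orderOf (T x₀) = f := by rw [hx₀tau]; exact hσord
  have hgen : ∀ c : F ≃+* F, c ∈ Subgroup.zpowers (T x₀) := by rw [hx₀tau]; exact hσgen
  -- the kernel consists of the classes of the similarities
  have hkerT : ∀ κ : Cfsg.Out (Cfsg.POmega F ⇑Q), κ ∈ T.ker →
      ∃ g : ↥(Cfsg.Geo.quadSimilarityGroup (F := F) ⇑Q), κ = QuotientGroup.mk (Phi ⇑Q g) := by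
    intro κ hκ
    obtain ⟨β, rfl⟩ := QuotientGroup.mk_surjective κ
    have h1 : β ∈ (tauAutM Q hQ h5 hsurj hker).ker := by
      rw [MonoidHom.mem_ker] at hκ ⊢
      rw [hT] at hκ
      exact hκ
    rw [ker_tauAutM, pgoAut_eq] at h1
    obtain ⟨g, rfl⟩ := h1
    exact ⟨g, rfl⟩
  have hmem_ker : ∀ g : ↥(Cfsg.Geo.quadSimilarityGroup (F := F) ⇑Q),
      (QuotientGroup.mk (Phi ⇑Q g) : Cfsg.Out (Cfsg.POmega F ⇑Q)) ∈ T.ker := by
    intro g
    rw [MonoidHom.mem_ker, ← PsiM_simGamma Q hQ h5, hTmk, tau_simGamma]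
  -- conjugation by the field automorphism preserves the invariants
  have hinv : ∀ g : ↥(Cfsg.Geo.quadSimilarityGroup (F := F) ⇑Q),
      ∃ g₁ : ↥(Cfsg.Geo.quadSimilarityGroup (F := F) ⇑Q),
        x₀ * QuotientGroup.mk (Phi ⇑Q g) * x₀⁻¹ = QuotientGroup.mk (Phi ⇑Q g₁) ∧
        psi Q h2 hQ hne (k + 1) hcard g₁ = psi Q h2 hQ hne (k + 1) hcard g := by
    intro g
    obtain ⟨d₁, hd₁, hd₁m, hd₁det⟩ := exists_conj_simGamma Q hne γ g
    rw [hγtau] at hd₁m hd₁det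
    refine ⟨d₁, ?_, ?_⟩
    · rw [hx₀, ← PsiM_simGamma Q hQ h5, ← QuotientGroup.mk_mul, ← QuotientGroup.mk_inv,
        ← QuotientGroup.mk_mul, ← map_mul, ← map_inv, ← map_mul, hd₁, PsiM_simGamma]
    · rw [psi_apply, psi_apply]
      congr 1
      · apply units_int_eq_of_iff
        rw [psi1_eq_one_iff, psi1_eq_one_iff, hd₁m]
        constructor
        · rintro ⟨s, hs⟩
          refine ⟨σ.symm s, ?_⟩
          rw [← map_mul, ← hs, σ.symm_apply_apply]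
        · rintro ⟨s, hs⟩
          exact ⟨σ s, by rw [hs, map_mul]⟩
      · apply units_int_eq_of_iff
        rw [psi2_eq_one_iff, psi2_eq_one_iff, hd₁m, hd₁det, ← map_pow]
        exact σ.injective.eq_iff
  have heven : Even (Fintype.card (Fin (k + 1) ⊕ Fin (k + 1))) := by
    rw [hcard]; exact even_two_mul _
  have hIS : Cfsg.Inn (Cfsg.POmega F ⇑Q) ≤ Cfsg.psoAut F ⇑Q := by
    rw [Inn_eq', psoAut_eq']
    exact Subgroup.map_mono (Abelianization.commutator_subset_ker _)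
  -- the image of the special orthogonal group
  have hpso : ∀ g : ↥(Cfsg.Geo.quadSimilarityGroup (F := F) ⇑Q),
      Phi ⇑Q g ∈ Cfsg.psoAut F ⇑Q ↔ psi Q h2 hQ hne (k + 1) hcard g = 1 := by
    intro g
    rw [psoAut_eq, ← MonoidHom.mem_ker, psi_ker_eq Q h2 hQ h5 hne (k + 1) hcard]
    constructor
    · rintro ⟨s, hs, hsg⟩
      have h1 : s⁻¹ * g ∈ (Phi ⇑Q).ker := by
        rw [MonoidHom.mem_ker, map_mul, map_inv, hsg, inv_mul_cancel]
      have : g = s * (s⁻¹ * g) := by group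
      rw [this]
      exact Subgroup.mul_mem_sup hs h1
    · intro hg
      have h1 : Phi ⇑Q g ∈ (((Cfsg.specialIsometryGL F ⇑Q).subgroupOf
          (Cfsg.Geo.quadSimilarityGroup (F := F) ⇑Q)) ⊔ (Phi ⇑Q).ker).map (Phi ⇑Q) :=
        Subgroup.mem_map_of_mem _ hg
      rw [Subgroup.map_sup, (Subgroup.map_eq_bot_iff _).mpr le_rfl, sup_bot_eq] at h1
      exact h1
  split_ifs with hcase
  · -- the elementary abelian case
    obtain ⟨φ₀, hφs, hφk⟩ := hS.1 ⟨hcase.2, by rw [hF]; exact hcase.1⟩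
    obtain ⟨eK⟩ := exists_ker_lift_equiv (Cfsg.Inn (Cfsg.POmega F ⇑Q))
      (tauAutM Q hQ h5 hsurj hker) (Inn_le_ker_tauAutM Q hQ h5 hsurj hker)
      (Cfsg.pgoAut F ⇑Q) (ker_tauAutM Q hQ h5 hsurj hker) φ₀ hφs hφk
    have eK' : ↥T.ker ≃* Multiplicative (ZMod 2 × ZMod 2) := by
      rw [hT]
      exact eK
    have hneg : ¬ ∃ g : ↥(Cfsg.isometryGroup F ⇑Q), g ∈ Cfsg.Omega F ⇑Q ∧
        ((g : GL (Fin (k + 1) ⊕ Fin (k + 1)) F) :
          Matrix (Fin (k + 1) ⊕ Fin (k + 1)) (Fin (k + 1) ⊕ Fin (k + 1)) F) = -1 := by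
      rw [hiff]
      rintro (h | h)
      · exact (Nat.not_even_iff_odd.mpr hcase.2) h
      · exact h (by rw [hF]; exact hcase.1)
    have hInn : Cfsg.Inn (Cfsg.POmega F ⇑Q) = Cfsg.psoAut F ⇑Q := by
      have hidx1 := (relIndex_Inn_psoAut Q h2 hQ h5 heven).2 hneg
      exact le_antisymm hIS (Subgroup.relIndex_eq_one.mp hidx1)
    have hmkeq : ∀ g g' : ↥(Cfsg.Geo.quadSimilarityGroup (F := F) ⇑Q),
        (QuotientGroup.mk (Phi ⇑Q g) : Cfsg.Out (Cfsg.POmega F ⇑Q)) = QuotientGroup.mk (Phi ⇑Q g')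
          ↔ psi Q h2 hQ hne (k + 1) hcard g = psi Q h2 hQ hne (k + 1) hcard g' := by
      intro g g'
      rw [QuotientGroup.eq, ← map_inv, ← map_mul, hInn, hpso, map_mul, map_inv, inv_mul_eq_one]
    have hcen : ∀ δ : ↥T.ker, Commute (δ : Cfsg.Out (Cfsg.POmega F ⇑Q)) x₀ := by
      rintro ⟨δ, hδ⟩
      obtain ⟨g, rfl⟩ := hkerT δ hδ
      obtain ⟨g₁, hg₁, hpsi⟩ := hinv g
      have h1 : x₀ * QuotientGroup.mk (Phi ⇑Q g) * x₀⁻¹ = QuotientGroup.mk (Phi ⇑Q g) := by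
        rw [hg₁, hmkeq, hpsi]
      show (QuotientGroup.mk (Phi ⇑Q g) : Cfsg.Out (Cfsg.POmega F ⇑Q)) * x₀
        = x₀ * QuotientGroup.mk (Phi ⇑Q g)
      calc (QuotientGroup.mk (Phi ⇑Q g) : Cfsg.Out (Cfsg.POmega F ⇑Q)) * x₀
          = (x₀ * QuotientGroup.mk (Phi ⇑Q g) * x₀⁻¹) * x₀ := by rw [h1]
        _ = x₀ * QuotientGroup.mk (Phi ⇑Q g) := by group
    obtain ⟨e1⟩ := nonempty_equiv_ker_prod T x₀ hx₀f hord hgen hcen
    exact ⟨(e1.trans (MulEquiv.prodCongr eK' (MulEquiv.refl _))).trans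
      ((MulEquiv.prodMultiplicative _ _).symm.trans
        (AddEquiv.toMultiplicative
          (AddEquiv.prodAssoc : (ZMod 2 × ZMod 2) × ZMod f ≃+ ZMod 2 × ZMod 2 × ZMod f)))⟩
  · -- the dihedral case
    obtain ⟨φ₀, hφs, hφk⟩ := hS.2 (by
      rintro ⟨h1, h3⟩
      exact hcase ⟨by rw [← hF]; exact h3, h1⟩)
    obtain ⟨eK⟩ := exists_ker_lift_equiv (Cfsg.Inn (Cfsg.POmega F ⇑Q))
      (tauAutM Q hQ h5 hsurj hker) (Inn_le_ker_tauAutM Q hQ h5 hsurj hker)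
      (Cfsg.pgoAut F ⇑Q) (ker_tauAutM Q hQ h5 hsurj hker) φ₀ hφs hφk
    have eK' : ↥T.ker ≃* DihedralGroup 4 := by
      rw [hT]
      exact eK
    rcases Nat.even_or_odd f with hfe | hfodd
    swap
    · exact nonempty_equiv_dihedral_prod T eK' x₀ hfodd hx₀f hord hgen
    -- `f` even: `-1 ∈ Ω`
    have hq1 : Fintype.card F % 4 ≠ 3 := by
      rw [hF]
      have h1 := pow_mod_four p f hpodd
      have := h1.mpr (Or.inl hfe)
      omega
    have hidx2 := (relIndex_Inn_psoAut Q h2 hQ h5 heven).1 (hiff.mpr (Or.inr hq1))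
    -- an element of the image of `SO` which is not inner
    obtain ⟨s₀, hs₀P, hs₀I⟩ : ∃ s₀ : MulAut (Cfsg.POmega F ⇑Q),
        s₀ ∈ Cfsg.psoAut F ⇑Q ∧ s₀ ∉ Cfsg.Inn (Cfsg.POmega F ⇑Q) := by
      by_contra hcon
      push Not at hcon
      have : Cfsg.psoAut F ⇑Q ≤ Cfsg.Inn (Cfsg.POmega F ⇑Q) := hcon
      have h1 := Subgroup.relIndex_eq_one.mpr this
      omega
    have hdich : ∀ b : MulAut (Cfsg.POmega F ⇑Q), b ∈ Cfsg.psoAut F ⇑Q →
        (QuotientGroup.mk b : Cfsg.Out (Cfsg.POmega F ⇑Q)) = 1 ∨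
        (QuotientGroup.mk b : Cfsg.Out (Cfsg.POmega F ⇑Q)) = QuotientGroup.mk s₀ := by
      intro b hb
      by_cases hbI : b ∈ Cfsg.Inn (Cfsg.POmega F ⇑Q)
      · left
        exact (QuotientGroup.eq_one_iff b).mpr hbI
      · right
        have h1 := Cfsg.Agent.Helper8.SsCls.mul_inv_mem_of_relIndex_two hidx2 hs₀P hb hs₀I hbI
        rw [QuotientGroup.eq]
        have hn : (Cfsg.Inn (Cfsg.POmega F ⇑Q)).Normal := inferInstance
        have h3 := hn.conj_mem _ h1 b⁻¹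
        have h4 : b⁻¹ * (s₀ * b⁻¹) * b⁻¹⁻¹ = b⁻¹ * s₀ := by group
        rw [h4] at h3
        exact h3
    obtain ⟨gs, hgs⟩ : ∃ gs : ↥(Cfsg.Geo.quadSimilarityGroup (F := F) ⇑Q), Phi ⇑Q gs = s₀ := by
      have := (Cfsg.Agent.Helper8.AutImageOrth.psoAut_eq (Q := ⇑Q)) ▸ hs₀P
      obtain ⟨g, -, hg⟩ := this
      exact ⟨g, hg⟩
    -- the data for the dihedral lemma
    obtain ⟨z₀, hz₀⟩ : ∃ z₀ : ↥T.ker, (z₀ : Cfsg.Out (Cfsg.POmega F ⇑Q)) = QuotientGroup.mk s₀ := by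
      refine ⟨⟨QuotientGroup.mk s₀, ?_⟩, rfl⟩
      rw [← hgs]
      exact hmem_ker gs
    obtain ⟨ρ, hρ⟩ : ∃ ρ : ↥(Cfsg.Geo.quadSimilarityGroup (F := F) ⇑Q), ρ = reflGO Q e₀ := ⟨_, rfl⟩
    obtain ⟨a, ha⟩ : ∃ a : ↥T.ker,
        (a : Cfsg.Out (Cfsg.POmega F ⇑Q)) = QuotientGroup.mk (Phi ⇑Q ρ) :=
      ⟨⟨_, hmem_ker ρ⟩, rfl⟩
    have hpsiρ : psi Q h2 hQ hne (k + 1) hcard ρ ≠ 1 := by
      intro h
      rw [psi_eq_one_iff] at h
      have hdet : ((ρ : GL (Fin (k + 1) ⊕ Fin (k + 1)) F) :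
          Matrix (Fin (k + 1) ⊕ Fin (k + 1)) (Fin (k + 1) ⊕ Fin (k + 1)) F).det = -1 := by
        rw [hρ, reflGO_val, det_reflectionMatrix Q he₀]
      have hρO : (ρ : GL (Fin (k + 1) ⊕ Fin (k + 1)) F) ∈ Cfsg.isometryGroup F ⇑Q := by
        rw [hρ]; exact (reflElt Q e₀).2
      have hρm : mult ⇑Q hne ρ = 1 := mult_of_isometry ⇑Q hne ρ hρO
      rw [hdet, hρm, Units.val_one, one_pow] at h
      apply h2
      have : (2 : F) = 1 - (-1) := by norm_num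
      rw [this, h.2, sub_self]
    have hρρ : ρ * ρ = 1 := by rw [hρ]; exact reflGO_mul_self Q e₀
    have hz₀1 : z₀ ≠ 1 := by
      intro h
      apply hs₀I
      have h1 : (z₀ : Cfsg.Out (Cfsg.POmega F ⇑Q)) = 1 := by rw [h]; rfl
      rw [hz₀] at h1
      exact (QuotientGroup.eq_one_iff s₀).mp h1
    -- elements of the kernel with trivial invariants
    have hpsi1 : ∀ g : ↥(Cfsg.Geo.quadSimilarityGroup (F := F) ⇑Q),
        psi Q h2 hQ hne (k + 1) hcard g = 1 →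
        (QuotientGroup.mk (Phi ⇑Q g) : Cfsg.Out (Cfsg.POmega F ⇑Q)) = 1 ∨
        (QuotientGroup.mk (Phi ⇑Q g) : Cfsg.Out (Cfsg.POmega F ⇑Q)) = (z₀ : Cfsg.Out _) := by
      intro g hg
      rw [hz₀]
      exact hdich _ ((hpso g).mpr hg)
    have hzc : ∀ κ : ↥T.ker, z₀ * κ = κ * z₀ := by
      rintro ⟨κ, hκ⟩
      obtain ⟨g, rfl⟩ := hkerT κ hκ
      apply Subtype.ext
      show (z₀ : Cfsg.Out (Cfsg.POmega F ⇑Q)) * QuotientGroup.mk (Phi ⇑Q g)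
        = QuotientGroup.mk (Phi ⇑Q g) * (z₀ : Cfsg.Out _)
      have h1 : psi Q h2 hQ hne (k + 1) hcard (g * gs * g⁻¹) = 1 := by
        rw [map_mul, map_mul, map_inv, (hpso gs).mp (by rw [hgs]; exact hs₀P), mul_one,
          mul_inv_cancel]
      have h3 : (QuotientGroup.mk (Phi ⇑Q (g * gs * g⁻¹)) : Cfsg.Out (Cfsg.POmega F ⇑Q))
          = QuotientGroup.mk (Phi ⇑Q g) * (z₀ : Cfsg.Out _) * (QuotientGroup.mk (Phi ⇑Q g))⁻¹ := by
        rw [map_mul, map_mul, map_inv, hgs, hz₀]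
        rfl
      rcases hpsi1 _ h1 with h | h
      · exfalso
        rw [h3] at h
        apply hz₀1
        apply Subtype.ext
        show (z₀ : Cfsg.Out (Cfsg.POmega F ⇑Q)) = 1
        calc (z₀ : Cfsg.Out (Cfsg.POmega F ⇑Q))
            = (QuotientGroup.mk (Phi ⇑Q g))⁻¹ *
              (QuotientGroup.mk (Phi ⇑Q g) * (z₀ : Cfsg.Out _) * (QuotientGroup.mk (Phi ⇑Q g))⁻¹) *
              QuotientGroup.mk (Phi ⇑Q g) := by group
          _ = 1 := by rw [h]; group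
      · rw [h3] at h
        calc (z₀ : Cfsg.Out (Cfsg.POmega F ⇑Q)) * QuotientGroup.mk (Phi ⇑Q g)
            = (QuotientGroup.mk (Phi ⇑Q g) * (z₀ : Cfsg.Out _) * (QuotientGroup.mk (Phi ⇑Q g))⁻¹) *
                QuotientGroup.mk (Phi ⇑Q g) := by rw [h]
          _ = QuotientGroup.mk (Phi ⇑Q g) * (z₀ : Cfsg.Out _) := by group
    have haa : a * a = 1 := by
      apply Subtype.ext
      show (a : Cfsg.Out (Cfsg.POmega F ⇑Q)) * (a : Cfsg.Out _) = 1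
      rw [ha, ← QuotientGroup.mk_mul, ← map_mul, hρρ, map_one]
      rfl
    have ha_not : ∀ w : ↥T.ker, (w = 1 ∨ w = z₀) → a ≠ w := by
      intro w hw haw
      apply hpsiρ
      have h1 : Phi ⇑Q ρ ∈ Cfsg.psoAut F ⇑Q := by
        rcases hw with hw | hw
        · have h3 : (a : Cfsg.Out (Cfsg.POmega F ⇑Q)) = 1 := by rw [haw, hw]; rfl
          rw [ha] at h3
          exact hIS ((QuotientGroup.eq_one_iff _).mp h3)
        · have h3 : (a : Cfsg.Out (Cfsg.POmega F ⇑Q)) = (z₀ : Cfsg.Out _) := by rw [haw, hw]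
          rw [ha, hz₀, QuotientGroup.eq] at h3
          have h4 : Phi ⇑Q ρ = s₀ * ((Phi ⇑Q ρ)⁻¹ * s₀)⁻¹ := by group
          rw [h4]
          exact mul_mem hs₀P (inv_mem (hIS h3))
      exact (hpso ρ).mp h1
    have hxa : x₀ * (a : Cfsg.Out (Cfsg.POmega F ⇑Q)) * x₀⁻¹ = (a : Cfsg.Out _) := by
      rw [ha, hx₀, ← PsiM_simGamma Q hQ h5, ← QuotientGroup.mk_mul, ← QuotientGroup.mk_inv,
        ← QuotientGroup.mk_mul, ← map_mul, ← map_inv, ← map_mul, hγ, hρ,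
        conj_fieldGamma_reflGO Q hσQ σ (fun i => he₀σ σ i)]
    have hβ : ∀ κ : ↥T.ker,
        x₀ * (κ : Cfsg.Out (Cfsg.POmega F ⇑Q)) * x₀⁻¹ * (κ : Cfsg.Out _)⁻¹ = 1 ∨
        x₀ * (κ : Cfsg.Out (Cfsg.POmega F ⇑Q)) * x₀⁻¹ * (κ : Cfsg.Out _)⁻¹ = (z₀ : Cfsg.Out _) := by
      rintro ⟨κ, hκ⟩
      obtain ⟨g, rfl⟩ := hkerT κ hκ
      obtain ⟨g₁, hg₁, hpsi⟩ := hinv g
      have h1 : psi Q h2 hQ hne (k + 1) hcard (g₁ * g⁻¹) = 1 := by
        rw [map_mul, map_inv, hpsi, mul_inv_cancel]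
      have h3 : x₀ * QuotientGroup.mk (Phi ⇑Q g) * x₀⁻¹ *
          (QuotientGroup.mk (Phi ⇑Q g) : Cfsg.Out (Cfsg.POmega F ⇑Q))⁻¹
          = QuotientGroup.mk (Phi ⇑Q (g₁ * g⁻¹)) := by
        rw [hg₁, map_mul, map_inv]
        rfl
      show x₀ * QuotientGroup.mk (Phi ⇑Q g) * x₀⁻¹ *
          (QuotientGroup.mk (Phi ⇑Q g) : Cfsg.Out (Cfsg.POmega F ⇑Q))⁻¹ = 1 ∨
        x₀ * QuotientGroup.mk (Phi ⇑Q g) * x₀⁻¹ *
          (QuotientGroup.mk (Phi ⇑Q g) : Cfsg.Out (Cfsg.POmega F ⇑Q))⁻¹ = (z₀ : Cfsg.Out _)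
      rw [h3]
      exact hpsi1 _ h1
    exact nonempty_equiv_dihedral_prod_even T eK' x₀ hfe hx₀f hord hgen z₀ a hz₀1 hzc haa
      (ha_not 1 (Or.inl rfl)) (ha_not z₀ (Or.inr rfl)) hxa hβ

end Cfsg.Agent.Helper8.AutD4
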