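import Mathlib
import Cfsg.Agent.Helper8.AutOzzf

set_option autoImplicit false
set_option linter.unusedSectionVars false
set_option linter.style.haveILetI false

/-!
# Automorphisms of orthogonal groups, part Qb: the image of the class-preserving similarities in
`Aut(PΩ(Q))` does not depend, up to isomorphism, on the indexing of the coordinates
-/

namespace Cfsg.Agent.Helper8.AutO

open Module Matrix Cfsg.Agent.Helper8.QuadForm Cfsg.Agent.Helper8.AutImagePsi
  Cfsg.Agent.Helper8.AutImageOrth Cfsg.Agent.Helper8.StdForms Cfsg.Agent.Helper8.AutImage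
  Cfsg.Agent.Helper8.AutImageKer Cfsg.Agent.Helper8.AutImageIdx Cfsg.Agent.Helper8.Cls

variable {F : Type*} [Field F] {ι ι' : Type} [Fintype ι] [DecidableEq ι] [Fintype ι']
  [DecidableEq ι']

/-- reindexing the general linear group. -/
noncomputable def reindexGL (e : ι ≃ ι') : GL ι F ≃* GL ι' F :=
  Units.mapEquiv (Matrix.reindexAlgEquiv F F e).toMulEquiv

theorem reindexGL_val (e : ι ≃ ι') (g : GL ι F) :
    ((reindexGL e g : GL ι' F) : Matrix ι' ι' F) = (g : Matrix ι ι F).submatrix e.symm e.symm :=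
  rfl

theorem reindexGL_mulVec (e : ι ≃ ι') (g : GL ι F) (w : ι' → F) :
    ((reindexGL e g : GL ι' F) : Matrix ι' ι' F) *ᵥ w
      = ((g : Matrix ι ι F) *ᵥ (w ∘ e)) ∘ e.symm := by
  rw [reindexGL_val]
  have := Matrix.submatrix_mulVec_equiv (g : Matrix ι ι F) w e.symm e.symm
  rw [this, Equiv.symm_symm]

theorem reindexGL_symm_apply (e : ι ≃ ι') (g : GL ι F) :
    reindexGL (F := F) e.symm (reindexGL e g) = g := by
  apply Units.ext
  rw [reindexGL_val, reindexGL_val, Equiv.symm_symm, Matrix.submatrix_submatrix]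
  ext i j
  simp

section Sim

variable (Q : QuadraticForm F (ι → F)) (Q' : QuadraticForm F (ι' → F)) (e : ι ≃ ι')
  (hQe : ∀ v : ι → F, Q v = Q' (v ∘ e.symm))

include hQe in
theorem reindexGL_sim {g : GL ι F} {c : Fˣ}
    (hg : ∀ v, Q ((g : Matrix ι ι F) *ᵥ v) = (c : F) * Q v) (w : ι' → F) :
    Q' (((reindexGL e g : GL ι' F) : Matrix ι' ι' F) *ᵥ w) = (c : F) * Q' w := by
  rw [reindexGL_mulVec, ← hQe, hg, hQe]
  congr 2
  funext i
  simp

include hQe in
theorem reindexGL_mem {g : GL ι F} (hg : g ∈ Cfsg.Geo.quadSimilarityGroup (F := F) ⇑Q) :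
    reindexGL e g ∈ Cfsg.Geo.quadSimilarityGroup (F := F) ⇑Q' := by
  obtain ⟨c, hc⟩ := hg
  exact ⟨c, reindexGL_sim Q Q' e hQe hc⟩

/-- reindexing the similarity group. -/
noncomputable def reindexSim :
    ↥(Cfsg.Geo.quadSimilarityGroup (F := F) ⇑Q) →* ↥(Cfsg.Geo.quadSimilarityGroup (F := F) ⇑Q') where
  toFun g := ⟨reindexGL e (g : GL ι F), reindexGL_mem Q Q' e hQe g.2⟩
  map_one' := by
    apply Subtype.ext
    show reindexGL e ((1 : ↥(Cfsg.Geo.quadSimilarityGroup (F := F) ⇑Q)) : GL ι F) = 1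
    rw [OneMemClass.coe_one, map_one]
  map_mul' a b := by
    apply Subtype.ext
    show reindexGL e ((a * b : ↥(Cfsg.Geo.quadSimilarityGroup (F := F) ⇑Q)) : GL ι F)
      = reindexGL e (a : GL ι F) * reindexGL e (b : GL ι F)
    rw [Subgroup.coe_mul, map_mul]

theorem reindexSim_val (g : ↥(Cfsg.Geo.quadSimilarityGroup (F := F) ⇑Q)) :
    ((reindexSim Q Q' e hQe g : ↥(Cfsg.Geo.quadSimilarityGroup (F := F) ⇑Q')) : GL ι' F)
      = reindexGL e (g : GL ι F) := rfl

theorem mult_reindexSim (hne : ∃ v, Q v ≠ 0) (hne' : ∃ v, Q' v ≠ 0)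
    (g : ↥(Cfsg.Geo.quadSimilarityGroup (F := F) ⇑Q)) :
    mult ⇑Q' hne' (reindexSim Q Q' e hQe g) = mult ⇑Q hne g := by
  apply mult_eq_of
  intro w
  exact reindexGL_sim Q Q' e hQe (mult_spec ⇑Q hne g) w

end Sim

theorem isCP_reindex (e : ι ≃ ι') (k : ℕ) (g : GL ι F) (c : F) :
    IsCP k ((reindexGL e g : GL ι' F) : Matrix ι' ι' F) c ↔ IsCP k (g : Matrix ι ι F) c := by
  have hdet : ((reindexGL e g : GL ι' F) : Matrix ι' ι' F).det = (g : Matrix ι ι F).det := by
    rw [reindexGL_val]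
    exact Matrix.det_submatrix_equiv_self e.symm _
  have hrank : ∀ d : F, (((reindexGL e g : GL ι' F) : Matrix ι' ι' F)
      - d • (1 : Matrix ι' ι' F)).rank = ((g : Matrix ι ι F) - d • (1 : Matrix ι ι F)).rank := by
    intro d
    have h1 : ((reindexGL e g : GL ι' F) : Matrix ι' ι' F) - d • (1 : Matrix ι' ι' F)
        = ((g : Matrix ι ι F) - d • (1 : Matrix ι ι F)).submatrix e.symm e.symm := by
      rw [reindexGL_val]
      ext i j
      simp [Matrix.one_apply]
    rw [h1]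
    exact Matrix.rank_submatrix _ e.symm e.symm
  unfold IsCP
  rw [hdet]
  constructor
  · rintro (⟨h2, h⟩ | ⟨h2, d, hd, hev⟩)
    · exact Or.inl ⟨h2, h⟩
    · exact Or.inr ⟨h2, d, hd, by rw [← hrank]; exact hev⟩
  · rintro (⟨h2, h⟩ | ⟨h2, d, hd, hev⟩)
    · exact Or.inl ⟨h2, h⟩
    · exact Or.inr ⟨h2, d, hd, by rw [hrank]; exact hev⟩

section Cls

variable [Fintype F] (Q : QuadraticForm F (ι → F)) (Q' : QuadraticForm F (ι' → F)) (e : ι ≃ ι')
  (hQe : ∀ v : ι → F, Q v = Q' (v ∘ e.symm))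
  (hQ : (QuadraticMap.polarBilin Q).Nondegenerate)
  (hQ' : (QuadraticMap.polarBilin Q').Nondegenerate)
  (hne : ∃ v, Q v ≠ 0) (hne' : ∃ v, Q' v ≠ 0) (k : ℕ) (hk : Fintype.card ι = 2 * k)
  (hk' : Fintype.card ι' = 2 * k)

theorem clsChar_reindexSim (g : ↥(Cfsg.Geo.quadSimilarityGroup (F := F) ⇑Q)) :
    clsChar Q' hQ' hne' k hk' (reindexSim Q Q' e hQe g) = clsChar Q hQ hne k hk g := by
  have hiff : clsChar Q' hQ' hne' k hk' (reindexSim Q Q' e hQe g) = 1 ↔
      clsChar Q hQ hne k hk g = 1 := by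
    rw [clsChar_eq_one_iff, clsChar_eq_one_iff, mult_reindexSim Q Q' e hQe hne hne',
      reindexSim_val]
    exact isCP_reindex e k _ _
  rcases Int.units_eq_one_or (clsChar Q' hQ' hne' k hk' (reindexSim Q Q' e hQe g)) with h1 | h1
  · rw [h1, hiff.mp h1]
  · rcases Int.units_eq_one_or (clsChar Q hQ hne k hk g) with h3 | h3
    · rw [hiff.mpr h3] at h1
      exact absurd h1 (by decide)
    · rw [h1, h3]

end Cls

end Cfsg.Agent.Helper8.AutO
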