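import Mathlib
import Cfsg.Agent.Helper8.AutOQb

set_option autoImplicit false
set_option linter.unusedSectionVars false
set_option linter.style.haveILetI false

/-!
# Automorphisms of orthogonal groups, part Qc: the image of the class-preserving similarities in
`Aut(PΩ(Q))` does not depend, up to isomorphism, on the indexing of the coordinates: the
isomorphism
-/

namespace Cfsg.Agent.Helper8.AutO

open Module Matrix Cfsg.Agent.Helper8.QuadForm Cfsg.Agent.Helper8.AutImagePsi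
  Cfsg.Agent.Helper8.AutImageOrth Cfsg.Agent.Helper8.StdForms Cfsg.Agent.Helper8.AutImage
  Cfsg.Agent.Helper8.AutImageKer Cfsg.Agent.Helper8.AutImageIdx Cfsg.Agent.Helper8.Cls

variable {F : Type*} [Field F] [Fintype F] {ι ι' : Type} [Fintype ι] [DecidableEq ι] [Fintype ι']
  [DecidableEq ι']
  (Q : QuadraticForm F (ι → F)) (Q' : QuadraticForm F (ι' → F)) (e : ι ≃ ι')
  (hQe : ∀ v : ι → F, Q v = Q' (v ∘ e.symm))
  (hQ : (QuadraticMap.polarBilin Q).Nondegenerate)
  (hQ' : (QuadraticMap.polarBilin Q').Nondegenerate)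
  (hne : ∃ v, Q v ≠ 0) (hne' : ∃ v, Q' v ≠ 0) (k : ℕ) (hk : Fintype.card ι = 2 * k)
  (hk' : Fintype.card ι' = 2 * k)

theorem reindexGL_scalar_iff (g : GL ι F) :
    (∃ c : Fˣ, ((reindexGL e g : GL ι' F) : Matrix ι' ι' F) = (c : F) • (1 : Matrix ι' ι' F)) ↔
      ∃ c : Fˣ, (g : Matrix ι ι F) = (c : F) • (1 : Matrix ι ι F) := by
  constructor
  · rintro ⟨c, hc⟩
    refine ⟨c, ?_⟩
    have h1 := reindexGL_symm_apply (F := F) e g
    have h2 := reindexGL_val (F := F) e.symm (reindexGL e g)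
    rw [h1, hc, Equiv.symm_symm] at h2
    rw [h2]
    ext i j
    simp [Matrix.one_apply]
  · rintro ⟨c, hc⟩
    refine ⟨c, ?_⟩
    rw [reindexGL_val, hc]
    ext i j
    simp [Matrix.one_apply]

include hQe in
theorem hQe_symm (w : ι' → F) : Q' w = Q (w ∘ e.symm.symm) := by
  rw [hQe]
  congr 1
  funext i
  simp

include hQe in
/-- **the image of the class-preserving similarities does not depend on the indexing.** -/
theorem nonempty_cpAut_equiv_reindex [Nontrivial (ι → F)] [Nontrivial (ι' → F)]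
    (h5 : 5 ≤ Fintype.card ι) (p : ℕ) [Fact p.Prime] [CharP F p] :
    Nonempty (↥(cpAut Q hQ hne k hk) ≃* ↥(cpAut Q' hQ' hne' k hk')) := by
  have h5' : 5 ≤ Fintype.card ι' := by rw [hk', ← hk]; exact h5
  obtain ⟨f₀, hf₀⟩ : ∃ f₀ : ↥(clsChar Q hQ hne k hk).ker →* MulAut (Cfsg.POmega F ⇑Q),
      f₀ = (Phi ⇑Q).comp (clsChar Q hQ hne k hk).ker.subtype := ⟨_, rfl⟩
  obtain ⟨f, hf⟩ : ∃ f : ↥(clsChar Q hQ hne k hk).ker →* MulAut (Cfsg.POmega F ⇑Q'),
      f = (Phi ⇑Q').comp ((reindexSim Q Q' e hQe).comp (clsChar Q hQ hne k hk).ker.subtype) :=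
    ⟨_, rfl⟩
  have hr₀ : f₀.range = cpAut Q hQ hne k hk := by
    rw [hf₀, MonoidHom.range_comp, Subgroup.range_subtype]
    rfl
  have hr : f.range = cpAut Q' hQ' hne' k hk' := by
    ext β'
    constructor
    · rintro ⟨g, rfl⟩
      rw [mem_cpAut_iff]
      refine ⟨reindexSim Q Q' e hQe g.1, ?_, ?_⟩
      · rw [← clsChar_eq_one_iff Q' hQ' hne' k hk',
          clsChar_reindexSim Q Q' e hQe hQ hQ' hne hne' k hk hk']
        exact g.2
      · rw [hf]
        rfl
    · intro hβ'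
      rw [mem_cpAut_iff] at hβ'
      obtain ⟨g', hg', rfl⟩ := hβ'
      obtain ⟨g, hgdef⟩ : ∃ g, g = reindexSim Q' Q e.symm (hQe_symm Q Q' e hQe) g' := ⟨_, rfl⟩
      have hback : reindexSim Q Q' e hQe g = g' := by
        apply Subtype.ext
        rw [reindexSim_val, hgdef, reindexSim_val]
        have := reindexGL_symm_apply (F := F) e.symm (g' : GL ι' F)
        rw [Equiv.symm_symm] at this
        exact this
      have hgcp : g ∈ (clsChar Q hQ hne k hk).ker := by
        rw [MonoidHom.mem_ker, ← clsChar_reindexSim Q Q' e hQe hQ hQ' hne hne' k hk hk', hback]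
        exact (clsChar_eq_one_iff Q' hQ' hne' k hk' g').mpr hg'
      refine ⟨⟨g, hgcp⟩, ?_⟩
      rw [hf]
      show Phi ⇑Q' (reindexSim Q Q' e hQe g) = _
      rw [hback]
  have hker : f₀.ker = f.ker := by
    ext g
    rw [MonoidHom.mem_ker, MonoidHom.mem_ker, hf₀, hf]
    show Phi ⇑Q g.1 = 1 ↔ Phi ⇑Q' (reindexSim Q Q' e hQe g.1) = 1
    rw [Phi_eq_one_iff_scalar Q hQ h5 p, Phi_eq_one_iff_scalar Q' hQ' h5' p, reindexSim_val]
    exact (reindexGL_scalar_iff e _).symm
  have e1 := QuotientGroup.quotientKerEquivRange f₀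
  have e2 := QuotientGroup.quotientMulEquivOfEq hker
  have e3 := QuotientGroup.quotientKerEquivRange f
  exact ⟨((((MulEquiv.subgroupCongr hr₀).symm.trans e1.symm).trans e2).trans e3).trans
    (MulEquiv.subgroupCongr hr)⟩

end Cfsg.Agent.Helper8.AutO
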