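import Mathlib
import Cfsg.Agent.Helper8.AutOQn
import Cfsg.Agent.Helper8.AutOzj
import Cfsg.Agent.Helper8.AutOzzh

set_option autoImplicit false
set_option linter.unusedSectionVars false
set_option linter.style.haveILetI false

/-!
# Automorphisms of orthogonal groups, part Qo: the number of classes into which the class of an
involutory graph-field automorphism of `PΩ⁺_{2m}(q)` splits, in odd characteristic (computed on
the twisted form)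
-/

namespace Cfsg.Agent.Helper8.AutO

open Module Matrix Cfsg.Agent.Helper8.QuadForm
  Cfsg.Agent.Helper8.ReflMatrix
  Cfsg.Agent.Helper8.AutImagePsi Cfsg.Agent.Helper8.AutImageOrth
  Cfsg.Agent.Helper8.StdForms Cfsg.Agent.Helper8.AutImage Cfsg.Agent.Helper8.AutImageKer
  Cfsg.Agent.Helper8.AutImageIdx Cfsg.Agent.Helper8.Cls Cfsg.Agent.Helper8.Reflections
  Cfsg.Agent.Helper8.OmegaOdd
open Cfsg.Agent.Helper8.AutSLn (gls nrmGL nrmF unitsAut fixField)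

universe u v

variable {F₀ : Type u} {F : Type v} [Field F₀] [Field F] [Fintype F₀] [Fintype F]

set_option maxHeartbeats 3200000 in
/-- **the index of `Inn ⊔ C` in the inner-diagonal group, for the twisted form in odd
characteristic.** -/
theorem relIndex_graphfield_odd {k : ℕ} (j : F₀ →+* F) (σ : F ≃+* F)
    (hσo : orderOf σ = 2)
    (hj1 : ∀ a, σ (j a) = j a) (hj2 : ∀ b, σ b = b → ∃ a, j a = b)
    (a₀ b₀ : F₀) (ρ ρ' : F) (hsum : ρ + ρ' = -(j a₀)) (hprod : ρ * ρ' = j b₀) (hρne : ρ ≠ ρ')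
    (hσρ : σ ρ = ρ') (hσρ' : σ ρ' = ρ)
    (h2 : (2 : F) ≠ 0) (hcardsq : Fintype.card F = Fintype.card F₀ ^ 2)
    (hQ : (QuadraticMap.polarBilin (plusForm F (k + 1))).Nondegenerate)
    (hne : ∃ v, plusForm F (k + 1) v ≠ 0)
    (hQ₀ : (QuadraticMap.polarBilin (twForm F₀ k a₀ b₀)).Nondegenerate)
    (hQ' : (QuadraticMap.polarBilin (twForm F k (j a₀) (j b₀))).Nondegenerate)
    (hne₀ : ∃ v, twForm F₀ k a₀ b₀ v ≠ 0) (hne' : ∃ v, twForm F k (j a₀) (j b₀) v ≠ 0)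
    (hjQ : ∀ v : Fin (k + 1) ⊕ Fin (k + 1) → F₀,
      twForm F k (j a₀) (j b₀) (hvec j v) = j (twForm F₀ k a₀ b₀ v))
    (h5 : 5 ≤ Fintype.card (Fin (k + 1) ⊕ Fin (k + 1))) :
    ((Odd (k + 1) ∧ Fintype.card F₀ % 4 = 1) →
      (Cfsg.Inn (Cfsg.POmega F ⇑(twForm F k (j a₀) (j b₀))) ⊔
        (subHomCP j (twForm F₀ k a₀ b₀) (twForm F k (j a₀) (j b₀)) hjQ hQ₀ hne₀ (k + 1)
          (card_idx_plus (k + 1))).range).relIndex
        (cpAut (twForm F k (j a₀) (j b₀)) hQ' hne' (k + 1) (card_idx_plus (k + 1))) = 4) ∧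
    (¬ (Odd (k + 1) ∧ Fintype.card F₀ % 4 = 1) →
      (Cfsg.Inn (Cfsg.POmega F ⇑(twForm F k (j a₀) (j b₀))) ⊔
        (subHomCP j (twForm F₀ k a₀ b₀) (twForm F k (j a₀) (j b₀)) hjQ hQ₀ hne₀ (k + 1)
          (card_idx_plus (k + 1))).range).relIndex
        (cpAut (twForm F k (j a₀) (j b₀)) hQ' hne' (k + 1) (card_idx_plus (k + 1))) = 2) := by
  classical
  have hcard := card_idx_plus (k + 1)
  have hσr : σ ^ 2 = 1 := by rw [← hσo, pow_orderOf_eq_one]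
  have hσσ : ∀ a : F, σ (σ a) = a := by
    intro a
    have h1 := congrArg (fun τ : F ≃+* F => τ a) hσr
    simpa [pow_two] using h1
  have hinj : ∀ i l : Fin 2, σ ^ (i : ℕ) = σ ^ (l : ℕ) → i = l := by
    intro i l e
    apply Fin.ext
    apply pow_injOn_Iio_orderOf (x := σ) _ _ e
    · rw [hσo]
      exact i.2
    · rw [hσo]
      exact l.2
  have hsq := isSquare_map_of_card_sq j h2 hcardsq
  have h2₀ : (2 : F₀) ≠ 0 := two_ne_zero_of_hom j h2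
  -- the isometry
  obtain ⟨M₀, hM₀def⟩ : ∃ M₀ : GL (Fin (k + 1) ⊕ Fin (k + 1)) F, M₀ = (twGL k ρ ρ' hρne)⁻¹ :=
    ⟨_, rfl⟩
  have hM₀ : ∀ v, twForm F k (j a₀) (j b₀)
      ((M₀ : Matrix (Fin (k + 1) ⊕ Fin (k + 1)) (Fin (k + 1) ⊕ Fin (k + 1)) F) *ᵥ v)
      = plusForm F (k + 1) v := by
    rw [hM₀def]
    exact twGL_inv_isometry k ρ ρ' hρne (j a₀) (j b₀) hsum hprod
  -- `-1 ∈ Ω`
  have hnegP := neg_one_mem_Omega_plus (F := F) (k + 1) (by omega) h2 (by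
    have := hsq (-1)
    rwa [map_neg, map_one] at this)
  have hneg' := neg_one_mem_Omega_transport ⇑(plusForm F (k + 1)) ⇑(twForm F k (j a₀) (j b₀))
    M₀ hM₀ hnegP
  -- a similarity with nonsquare multiplier
  have hd' : ∃ d : ↥(Cfsg.Geo.quadSimilarityGroup (F := F) ⇑(twForm F k (j a₀) (j b₀))),
      ¬ IsSquare ((mult ⇑(twForm F k (j a₀) (j b₀)) hne' d : Fˣ) : F) := by
    obtain ⟨c, hc⟩ := exists_nonsquare (F := F) h2
    have hc0 : c ≠ 0 := by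
      rintro rfl
      exact hc IsSquare.zero
    obtain ⟨d, hd⟩ := exists_sim_mult_plus (k + 1) hne (Units.mk0 c hc0)
    refine ⟨⟨M₀ * d * M₀⁻¹, conj_mem_sim (plusForm F (k + 1)) (twForm F k (j a₀) (j b₀)) M₀ hM₀
      d.2⟩, ?_⟩
    rw [mult_conj_lin (plusForm F (k + 1)) (twForm F k (j a₀) (j b₀)) hne hne' M₀ hM₀ d _ rfl, hd]
    exact hc
  -- the nonsquare of the small field and its norm preimage
  obtain ⟨μ₀, hμ₀⟩ := exists_nonsquare (F := F₀) h2₀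
  have hμ0 : μ₀ ≠ 0 := by
    rintro rfl
    exact hμ₀ IsSquare.zero
  have hjμ0 : j μ₀ ≠ 0 := (map_ne_zero j).mpr hμ0
  obtain ⟨μF, hμF⟩ : ∃ μF : Fˣ, (μF : F) = j μ₀ := ⟨Units.mk0 (j μ₀) hjμ0, rfl⟩
  have hμFfix : unitsAut σ μF = μF := by
    apply Units.ext
    rw [Cfsg.Agent.Helper8.AutSLn.unitsAut_coe, hμF, hj1]
  obtain ⟨lam, hlam⟩ := Cfsg.Agent.Helper8.AutSLn.exists_nrmF_eq σ (by norm_num : 0 < 2) hσr hinj
    μF hμFfix
  have hll : lam * unitsAut σ lam = μF := by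
    rw [← hlam]
    show _ = lam * unitsAut σ (lam * unitsAut σ 1)
    rw [map_one, mul_one]
  obtain ⟨lam', hlam'def⟩ : ∃ lam' : Fˣ, lam' = unitsAut σ lam := ⟨_, rfl⟩
  have hlam' : (lam' : F) = σ lam := by rw [hlam'def]; rfl
  rw [← hlam'def] at hll
  have hlamσ : (lam : F) * σ lam = j μ₀ := by
    rw [← hlam', ← Units.val_mul, hll, hμF]
  obtain ⟨t, ht⟩ := hsq μ₀
  have ht0 : t ≠ 0 := by
    rintro rfl
    rw [mul_zero] at ht
    exact hjμ0 ht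
  obtain ⟨su, hsu⟩ : ∃ su : Fˣ, (su : F) = t := ⟨Units.mk0 t ht0, rfl⟩
  have hs : su * su = lam * lam' := by
    apply Units.ext
    rw [Units.val_mul, hsu, ← ht, hll, hμF]
  have hlamns : ¬ IsSquare (lam : F) := not_isSquare_of_norm j σ hσσ hj2 hμ₀ hlamσ
  -- the diagonal similarity and its transport
  have hmultP : mult ⇑(plusForm F (k + 1)) hne (gfD k lam lam') = lam * lam' :=
    mult_gfD k hne lam lam'
  have hcpP : clsChar (plusForm F (k + 1)) hQ hne (k + 1) hcard (gfD k lam lam') = 1 := by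
    rw [clsChar_eq_psi2 _ _ _ _ _ h2, psi2_eq_one_iff, hmultP, det_gfD, Units.val_mul]
  have hmem' := conj_mem_sim (plusForm F (k + 1)) (twForm F k (j a₀) (j b₀)) M₀ hM₀
    (gfD k lam lam').2
  obtain ⟨d', hd'def⟩ : ∃ d' : ↥(Cfsg.Geo.quadSimilarityGroup (F := F)
      ⇑(twForm F k (j a₀) (j b₀))), d' = ⟨M₀ * (gfD k lam lam' : GL (Fin (k + 1) ⊕ Fin (k + 1)) F) * M₀⁻¹,
        hmem'⟩ :=
    ⟨_, rfl⟩
  have hd'val : (d' : GL (Fin (k + 1) ⊕ Fin (k + 1)) F)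
      = M₀ * (gfD k lam lam' : GL (Fin (k + 1) ⊕ Fin (k + 1)) F) * M₀⁻¹ := by rw [hd'def]
  have hmult' : mult ⇑(twForm F k (j a₀) (j b₀)) hne' d' = lam * lam' := by
    rw [mult_conj_lin (plusForm F (k + 1)) (twForm F k (j a₀) (j b₀)) hne hne' M₀ hM₀
      (gfD k lam lam') d' hd'val, hmultP]
  have hcp' : clsChar (twForm F k (j a₀) (j b₀)) hQ' hne' (k + 1) hcard d' = 1 := by
    rw [clsChar_eq_one_iff]
    exact isCP_lin (plusForm F (k + 1)) (twForm F k (j a₀) (j b₀)) hne hne' (k + 1) M₀ hM₀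
      (gfD k lam lam') d' hd'val ((clsChar_eq_one_iff _ _ _ _ _ _).mp hcpP)
  have hfix' : gls σ (d' : GL (Fin (k + 1) ⊕ Fin (k + 1)) F)
      = (d' : GL (Fin (k + 1) ⊕ Fin (k + 1)) F) := by
    rw [hd'val, hM₀def, gfD_val]
    exact gls_conj_gfD k ρ ρ' hρne σ hσσ hσρ hσρ' lam lam' hlam'
  obtain ⟨d₀, hd₀⟩ := exists_simMap_eq j (twForm F₀ k a₀ b₀) (twForm F k (j a₀) (j b₀)) hjQ hne₀ σ
    hj2 (d' : GL (Fin (k + 1) ⊕ Fin (k + 1)) F) d'.2 hfix'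
  have hd₀' : simMap j (twForm F₀ k a₀ b₀) (twForm F k (j a₀) (j b₀)) hjQ d₀ = d' :=
    Subtype.ext hd₀
  have hd₀mult : ((mult ⇑(twForm F₀ k a₀ b₀) hne₀ d₀ : F₀ˣ) : F₀) = μ₀ := by
    apply j.injective
    rw [← mult_simMap j (twForm F₀ k a₀ b₀) (twForm F k (j a₀) (j b₀)) hjQ hne₀ hne', hd₀',
      hmult', hll, hμF]
  have hd₀ns : ¬ IsSquare ((mult ⇑(twForm F₀ k a₀ b₀) hne₀ d₀ : F₀ˣ) : F₀) := by
    rw [hd₀mult]
    exact hμ₀
  have hd₀cp : clsChar (twForm F₀ k a₀ b₀) hQ₀ hne₀ (k + 1) hcard d₀ = 1 := by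
    rw [← clsChar_simMap j (twForm F₀ k a₀ b₀) (twForm F k (j a₀) (j b₀)) hjQ hQ₀ hQ' hne₀ hne'
      (k + 1) hcard, hd₀', hcp']
  have key := relIndex_sup_range_subHomCP_odd j (twForm F₀ k a₀ b₀) (twForm F k (j a₀) (j b₀))
    hjQ hQ₀ hQ' hne₀ hne' (k + 1) hcard h2 h5 hsq hneg' hd' d₀ hd₀cp hd₀ns
  -- the criterion
  have hcrit : Phi ⇑(twForm F k (j a₀) (j b₀))
      (simMap j (twForm F₀ k a₀ b₀) (twForm F k (j a₀) (j b₀)) hjQ d₀) ∈
      Cfsg.Inn (Cfsg.POmega F ⇑(twForm F k (j a₀) (j b₀))) ↔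
      (Odd (k + 1) ∧ Fintype.card F₀ % 4 = 1) := by
    rw [hd₀']
    have h1 := pIso_induced_fwd ⇑(plusForm F (k + 1)) ⇑(twForm F k (j a₀) (j b₀)) M₀ hM₀
      (gfD k lam lam' : GL (Fin (k + 1) ⊕ Fin (k + 1)) F) (RingEquiv.refl F)
      (Phi ⇑(plusForm F (k + 1)) (gfD k lam lam'))
      ((induced_iff ⇑(plusForm F (k + 1)) (gfD k lam lam').2 _).mpr rfl)
    rw [gls_refl, induced_iff ⇑(twForm F k (j a₀) (j b₀)) hmem'] at h1
    rw [hd'def, ← h1, ← map_congr_Inn (pIso ⇑(plusForm F (k + 1)) ⇑(twForm F k (j a₀) (j b₀))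
      M₀ hM₀)]
    have h3 : ((pIso ⇑(plusForm F (k + 1)) ⇑(twForm F k (j a₀) (j b₀)) M₀ hM₀).symm.trans
        (Phi ⇑(plusForm F (k + 1)) (gfD k lam lam'))).trans
        (pIso ⇑(plusForm F (k + 1)) ⇑(twForm F k (j a₀) (j b₀)) M₀ hM₀)
        = (MulAut.congr (pIso ⇑(plusForm F (k + 1)) ⇑(twForm F k (j a₀) (j b₀))
          M₀ hM₀)).toMonoidHom (Phi ⇑(plusForm F (k + 1)) (gfD k lam lam')) := rfl
    rw [h3, Subgroup.mem_map_iff_mem (MulAut.congr (pIso ⇑(plusForm F (k + 1))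
      ⇑(twForm F k (j a₀) (j b₀)) M₀ hM₀)).injective,
      Phi_gfD_mem_Inn_iff k h2 hQ h5 hnegP lam lam' su hs, hsu]
    exact isSquare_lam_mul_pow_iff j h2 hcardsq hμ₀ ht.symm hlamns (k + 1)
  exact ⟨fun h => key.1 (hcrit.mpr h), fun h => key.2 (fun hc => h (hcrit.mp hc))⟩

end Cfsg.Agent.Helper8.AutO
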