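import Mathlib
import Cfsg.Agent.Helper8.AutOQo
import Cfsg.Agent.Helper8.AutOQc
import Cfsg.Agent.Helper8.AutOzzi

set_option autoImplicit false
set_option linter.unusedSectionVars false
set_option linter.style.haveILetI false

/-!
# Automorphisms of orthogonal groups, part Qp: involutory graph-field automorphisms of
`PΩ⁺_{2m}(q)`, `m ≥ 5`: the main theorem
-/

namespace Cfsg.Agent.Helper8.AutO

open Module Matrix Cfsg.Agent.Helper8.QuadForm Cfsg.Agent.Helper8.WittQuad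
  Cfsg.Agent.Helper8.OrthOrder
  Cfsg.Agent.Helper8.Siegel Cfsg.Agent.Helper8.SiegelGeom Cfsg.Agent.Helper8.SiegelGroup
  Cfsg.Agent.Helper8.SiegelPrim Cfsg.Agent.Helper8.SiegelSimple Cfsg.Agent.Helper8.ReflMatrix
  Cfsg.Agent.Helper8.OmegaSimple Cfsg.Agent.Helper8.AutImagePsi Cfsg.Agent.Helper8.AutImageOrth
  Cfsg.Agent.Helper8.StdForms Cfsg.Agent.Helper8.AutImage Cfsg.Agent.Helper8.AutImageKer
  Cfsg.Agent.Helper8.AutImageIdx Cfsg.Agent.Helper8.Cls Cfsg.Agent.Helper8.Reflections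
  Cfsg.Agent.Helper8.OrT Cfsg.Agent.Helper8.OmegaStd Cfsg.Agent.Helper8.OmegaDiag
open Cfsg.Agent.Helper8.AutSLn (gls nrmGL nrmF unitsAut fixField)

universe u v

variable {F₀ : Type u} {F : Type v} [Field F₀] [Field F] [Fintype F₀] [Fintype F]

set_option maxHeartbeats 6400000 in
/-- **involutory graph-field automorphisms of `PΩ⁺_{2m}(q)`, `m = k + 1 ≥ 5`.** -/
theorem graphfield_main_plus {p f : ℕ} [Fact p.Prime] (hF : Fintype.card F = p ^ f)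
    {k : ℕ} (hk : 4 ≤ k)
    (Qf : (Fin (k + 1) ⊕ Fin (k + 1) → F) → F) (hQf : Qf = ⇑(plusForm F (k + 1)))
    (x : MulAut (Cfsg.POmega F Qf))
    (hx : ∃ (α γ φ : MulAut (Cfsg.POmega F Qf)) (σ : F ≃+* F)
        (v : Fin (k + 1) ⊕ Fin (k + 1) → F) (rr : GL (Fin (k + 1) ⊕ Fin (k + 1)) F),
        σ ≠ RingEquiv.refl F ∧ Qf v ≠ 0 ∧ (∀ i, σ (v i) = v i) ∧
        (rr : Matrix (Fin (k + 1) ⊕ Fin (k + 1)) (Fin (k + 1) ⊕ Fin (k + 1)) F)
          = Cfsg.reflectionMatrix Qf v ∧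
        Cfsg.IsInducedBySemilinearPOmega Qf rr (RingEquiv.refl F) γ ∧
        Cfsg.IsFieldAutPOmegaOf Qf σ φ ∧ α * x * α⁻¹ = γ * φ)
    (hx2 : orderOf x = 2) (hF₀ : Fintype.card F₀ = p ^ (f / 2)) :
    Even f ∧
    (∀ y : MulAut (Cfsg.POmega F Qf),
      (∃ (α γ φ : MulAut (Cfsg.POmega F Qf)) (σ : F ≃+* F)
        (v : Fin (k + 1) ⊕ Fin (k + 1) → F) (rr : GL (Fin (k + 1) ⊕ Fin (k + 1)) F),
        σ ≠ RingEquiv.refl F ∧ Qf v ≠ 0 ∧ (∀ i, σ (v i) = v i) ∧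
        (rr : Matrix (Fin (k + 1) ⊕ Fin (k + 1)) (Fin (k + 1) ⊕ Fin (k + 1)) F)
          = Cfsg.reflectionMatrix Qf v ∧
        Cfsg.IsInducedBySemilinearPOmega Qf rr (RingEquiv.refl F) γ ∧
        Cfsg.IsFieldAutPOmegaOf Qf σ φ ∧ α * y * α⁻¹ = γ * φ) →
      orderOf y = 2 →
      Cfsg.IsConjUnder (Cfsg.autSubgroupOf (fun β : Cfsg.POmega F Qf ≃* Cfsg.POmega F Qf =>
        ∃ g : GL (Fin (k + 1) ⊕ Fin (k + 1)) F,
        g ∈ Cfsg.Geo.quadSimilarityGroup (F := F) Qf ∧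
        Cfsg.PreservesSingularClasses Qf
          (g : Matrix (Fin (k + 1) ⊕ Fin (k + 1)) (Fin (k + 1) ⊕ Fin (k + 1)) F) ∧
        Cfsg.IsInducedBySemilinearPOmega Qf g (RingEquiv.refl F) β)) x y) ∧
    (∃ a₀ b₀ : F₀, (∀ z₁ z₂ : F₀, z₁ ^ 2 + a₀ * z₁ * z₂ + b₀ * z₂ ^ 2 = 0 → z₁ = 0 ∧ z₂ = 0) ∧
      ∀ (Qf₀ : ((Fin k ⊕ Fin k) ⊕ Fin 2 → F₀) → F₀), Qf₀ = ⇑(minusForm F₀ k a₀ b₀) →
      Nonempty (↥(Cfsg.autSubgroupOf (fun β : Cfsg.POmega F Qf ≃* Cfsg.POmega F Qf =>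
        ∃ g : GL (Fin (k + 1) ⊕ Fin (k + 1)) F,
        g ∈ Cfsg.Geo.quadSimilarityGroup (F := F) Qf ∧
        Cfsg.PreservesSingularClasses Qf
          (g : Matrix (Fin (k + 1) ⊕ Fin (k + 1)) (Fin (k + 1) ⊕ Fin (k + 1)) F) ∧
        Cfsg.IsInducedBySemilinearPOmega Qf g (RingEquiv.refl F) β) ⊓
          Subgroup.centralizer {x}) ≃*
        ↥(Cfsg.autSubgroupOf (fun β : Cfsg.POmega F₀ Qf₀ ≃* Cfsg.POmega F₀ Qf₀ =>
          ∃ g : GL ((Fin k ⊕ Fin k) ⊕ Fin 2) F₀,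
          g ∈ Cfsg.Geo.quadSimilarityGroup (F := F₀) Qf₀ ∧
          Cfsg.PreservesSingularClassesMinus k a₀ b₀
            (g : Matrix ((Fin k ⊕ Fin k) ⊕ Fin 2) ((Fin k ⊕ Fin k) ⊕ Fin 2) F₀) ∧
          Cfsg.IsInducedBySemilinearPOmega Qf₀ g (RingEquiv.refl F₀) β)))) ∧
    (p = 2 → Cfsg.splitClassCount
      (Cfsg.autSubgroupOf (fun β : Cfsg.POmega F Qf ≃* Cfsg.POmega F Qf =>
        ∃ g : GL (Fin (k + 1) ⊕ Fin (k + 1)) F,
        g ∈ Cfsg.Geo.quadSimilarityGroup (F := F) Qf ∧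
        Cfsg.PreservesSingularClasses Qf
          (g : Matrix (Fin (k + 1) ⊕ Fin (k + 1)) (Fin (k + 1) ⊕ Fin (k + 1)) F) ∧
        Cfsg.IsInducedBySemilinearPOmega Qf g (RingEquiv.refl F) β))
      (Cfsg.Inn (Cfsg.POmega F Qf)) x = 1) ∧
    ((p ≠ 2 ∧ Odd (k + 1) ∧ p ^ (f / 2) % 4 = 1) → Cfsg.splitClassCount
      (Cfsg.autSubgroupOf (fun β : Cfsg.POmega F Qf ≃* Cfsg.POmega F Qf =>
        ∃ g : GL (Fin (k + 1) ⊕ Fin (k + 1)) F,
        g ∈ Cfsg.Geo.quadSimilarityGroup (F := F) Qf ∧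
        Cfsg.PreservesSingularClasses Qf
          (g : Matrix (Fin (k + 1) ⊕ Fin (k + 1)) (Fin (k + 1) ⊕ Fin (k + 1)) F) ∧
        Cfsg.IsInducedBySemilinearPOmega Qf g (RingEquiv.refl F) β))
      (Cfsg.Inn (Cfsg.POmega F Qf)) x = 4) ∧
    ((p ≠ 2 ∧ ¬ (Odd (k + 1) ∧ p ^ (f / 2) % 4 = 1)) → Cfsg.splitClassCount
      (Cfsg.autSubgroupOf (fun β : Cfsg.POmega F Qf ≃* Cfsg.POmega F Qf =>
        ∃ g : GL (Fin (k + 1) ⊕ Fin (k + 1)) F,
        g ∈ Cfsg.Geo.quadSimilarityGroup (F := F) Qf ∧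
        Cfsg.PreservesSingularClasses Qf
          (g : Matrix (Fin (k + 1) ⊕ Fin (k + 1)) (Fin (k + 1) ⊕ Fin (k + 1)) F) ∧
        Cfsg.IsInducedBySemilinearPOmega Qf g (RingEquiv.refl F) β))
      (Cfsg.Inn (Cfsg.POmega F Qf)) x = 2) := by
  subst hQf
  classical
  have hc : CharP F p := charP_of_card_eq_prime_pow hF
  have hc₀ : CharP F₀ p := charP_of_card_eq_prime_pow hF₀
  haveI : Nonempty (Fin (k + 1) ⊕ Fin (k + 1)) := ⟨Sum.inl 0⟩
  haveI : Nonempty ((Fin k ⊕ Fin k) ⊕ Fin 2) := ⟨Sum.inr 0⟩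
  have hcard := card_idx_plus (k + 1)
  have hQ := plusForm_nondeg F (k + 1)
  have hne : ∃ v, plusForm F (k + 1) v ≠ 0 := Cfsg.Agent.S2722.plus_ne (by omega)
  rw [inndiag_plus_eq_cpAut (by omega : 3 ≤ k + 1) hne]
  have hdim : finrank F (Fin (k + 1) ⊕ Fin (k + 1) → F) = 2 * (k + 1) := by
    rw [Module.finrank_fintype_fun_eq_card, hcard]
  have h5 : 5 ≤ Fintype.card (Fin (k + 1) ⊕ Fin (k + 1)) := by rw [hcard]; omega
  have hQn : Nondeg (plusForm F (k + 1)) := (nondeg_iff _).mp hQ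
  have hsurj : Function.Surjective (Psi (Q := plusForm F (k + 1))) :=
    Psi_surjective hQn (by rw [hdim]; omega) p (Or.inl (by rw [hdim]; omega))
  haveI hnormal : (cpAut (plusForm F (k + 1)) hQ hne (k + 1) hcard).Normal :=
    cpAut_normal (plusForm F (k + 1)) hQ hne (k + 1) hcard h5 hsurj
  -- the standard form of `x`
  have hz : plusForm F (k + 1) (swapVec k) ≠ 0 := by
    rw [plusForm_swapVec]
    exact neg_ne_zero.mpr one_ne_zero
  have hzτ : ∀ (τ : F ≃+* F) i, τ (swapVec (K := F) k i) = swapVec k i :=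
    fun τ i => swapVec_fixed k τ i
  obtain ⟨σ, hσQ, hσo, h, hhG, hxh⟩ := graphfield_conj_std hk (plusForm F (k + 1)) rfl hQ hne h5 p
    hsurj (swapVec k) hz hzτ x hx2 hx
  obtain ⟨x₁, hx₁⟩ : ∃ x₁ : MulAut (Cfsg.POmega F ⇑(plusForm F (k + 1))),
      x₁ = PsiM (plusForm F (k + 1)) hQ h5 (simGamma (plusForm F (k + 1))
        (reflGO (plusForm F (k + 1)) (swapVec k))) *
        PsiM (plusForm F (k + 1)) hQ h5 (fieldGammaOne (plusForm F (k + 1)) σ hσQ) := ⟨_, rfl⟩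
  rw [← hx₁] at hxh
  -- the field data
  obtain ⟨hfe, j, hj1, hj2, a₀, b₀, ρ, ρ', hab₀, hsum, hprod, hρne, hσρ, hσρ'⟩ :=
    exists_graphfield_data hF σ hσo F₀ hF₀
  have hσr : σ ^ 2 = 1 := by rw [← hσo, pow_orderOf_eq_one]
  have hinj : ∀ i l : Fin 2, σ ^ (i : ℕ) = σ ^ (l : ℕ) → i = l := by
    intro i l e
    apply Fin.ext
    apply pow_injOn_Iio_orderOf (x := σ) _ _ e
    · rw [hσo]
      exact i.2
    · rw [hσo]
      exact l.2
  -- the twisted forms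
  have hQ' : (QuadraticMap.polarBilin (twForm F k (j a₀) (j b₀))).Nondegenerate :=
    twForm_nondeg_of_split k ρ ρ' (j a₀) (j b₀) hsum hprod hρne
  have hQ₀ : (QuadraticMap.polarBilin (twForm F₀ k a₀ b₀)).Nondegenerate :=
    twForm_nondeg_of_aniso k hab₀
  have hne' : ∃ v, twForm F k (j a₀) (j b₀) v ≠ 0 := twForm_ne k (by omega) _ _
  have hne₀ : ∃ v, twForm F₀ k a₀ b₀ v ≠ 0 := twForm_ne k (by omega) _ _
  have hjQ : ∀ v : Fin (k + 1) ⊕ Fin (k + 1) → F₀,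
      twForm F k (j a₀) (j b₀) (hvec j v) = j (twForm F₀ k a₀ b₀ v) := twForm_hvec j k a₀ b₀
  have hσQ' := twForm_sigma σ k (hj1 a₀) (hj1 b₀)
  obtain ⟨M₀, hM₀def⟩ : ∃ M₀ : GL (Fin (k + 1) ⊕ Fin (k + 1)) F, M₀ = (twGL k ρ ρ' hρne)⁻¹ :=
    ⟨_, rfl⟩
  have hM₀ : ∀ v, twForm F k (j a₀) (j b₀)
      ((M₀ : Matrix (Fin (k + 1) ⊕ Fin (k + 1)) (Fin (k + 1) ⊕ Fin (k + 1)) F) *ᵥ v)
      = plusForm F (k + 1) v := by
    rw [hM₀def]
    exact twGL_inv_isometry k ρ ρ' hρne (j a₀) (j b₀) hsum hprod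
  have hQ'n : Nondeg (twForm F k (j a₀) (j b₀)) := (nondeg_iff _).mp hQ'
  have hsurj' : Function.Surjective (Psi (Q := twForm F k (j a₀) (j b₀))) :=
    Psi_surjective hQ'n (by rw [hdim]; omega) p (Or.inl (by rw [hdim]; omega))
  obtain ⟨ψ, hψdef⟩ : ∃ ψ : Cfsg.POmega F ⇑(plusForm F (k + 1)) ≃*
      Cfsg.POmega F ⇑(twForm F k (j a₀) (j b₀)),
      ψ = pIso ⇑(plusForm F (k + 1)) ⇑(twForm F k (j a₀) (j b₀)) M₀ hM₀ := ⟨_, rfl⟩
  have hA := cpAut_congr_iff (plusForm F (k + 1)) (twForm F k (j a₀) (j b₀)) hQ hQ' hne hne'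
    (k + 1) hcard M₀ hM₀ h5 hsurj' ψ
  obtain ⟨C, hCdef⟩ : ∃ C : MulAut (Cfsg.POmega F ⇑(plusForm F (k + 1))) ≃*
      MulAut (Cfsg.POmega F ⇑(twForm F k (j a₀) (j b₀))), C = MulAut.congr ψ := ⟨_, rfl⟩
  have hC : ∀ β, C β = (ψ.symm.trans β).trans ψ := by
    intro β
    rw [hCdef]
    rfl
  have hCx₁ : C x₁ = PsiM (twForm F k (j a₀) (j b₀)) hQ' h5
      (fieldGammaOne (twForm F k (j a₀) (j b₀)) σ hσQ') := by
    rw [hC, hx₁, hψdef]
    subst hM₀def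
    exact transport_graphfield k ρ ρ' hρne σ hσρ hσρ' (j a₀) (j b₀) hsum hprod hQ hQ' h5 hσQ hσQ'
  have hmapI : (cpAut (plusForm F (k + 1)) hQ hne (k + 1) hcard).map C.toMonoidHom
      = cpAut (twForm F k (j a₀) (j b₀)) hQ' hne' (k + 1) hcard := by
    ext β'
    rw [Subgroup.mem_map]
    constructor
    · rintro ⟨β, hβ, rfl⟩
      show C β ∈ _
      rw [hC]
      exact (hA β).mpr hβ
    · intro hβ'
      refine ⟨C.symm β', ?_, C.apply_symm_apply β'⟩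
      rw [← hA, ← hC, MulEquiv.apply_symm_apply]
      exact hβ'
  have hmapC : (Subgroup.centralizer {x₁}).map C.toMonoidHom = Subgroup.centralizer {C x₁} :=
    map_centralizer_equiv C x₁
  have hmapInn : (Cfsg.Inn (Cfsg.POmega F ⇑(plusForm F (k + 1)))).map C.toMonoidHom
      = Cfsg.Inn (Cfsg.POmega F ⇑(twForm F k (j a₀) (j b₀))) := by
    rw [hCdef]
    exact map_congr_Inn ψ
  have hCinj : Function.Injective C.toMonoidHom := C.injective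
  haveI : Nontrivial (Fin (k + 1) ⊕ Fin (k + 1) → F₀) := inferInstance
  haveI : Nontrivial ((Fin k ⊕ Fin k) ⊕ Fin 2 → F₀) := inferInstance
  -- the count, reduced to the twisted form
  have hcount : Cfsg.splitClassCount (cpAut (plusForm F (k + 1)) hQ hne (k + 1) hcard)
      (Cfsg.Inn (Cfsg.POmega F ⇑(plusForm F (k + 1)))) x
      = (Cfsg.Inn (Cfsg.POmega F ⇑(twForm F k (j a₀) (j b₀))) ⊔
        (subHomCP j (twForm F₀ k a₀ b₀) (twForm F k (j a₀) (j b₀)) hjQ hQ₀ hne₀ (k + 1)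
          hcard).range).relIndex
        (cpAut (twForm F k (j a₀) (j b₀)) hQ' hne' (k + 1) hcard) := by
    rw [Cfsg.Agent.Helper8.SplitClass.splitClassCount_eq_relIndex _ _
      (Inn_le_cpAut (plusForm F (k + 1)) hQ hne (k + 1) hcard) x, hxh,
      Cfsg.Agent.Helper8.SplitClass.relIndex_conj,
      ← Subgroup.relIndex_map_map_of_injective _ _ hCinj, Subgroup.map_sup,
      Subgroup.map_inf _ _ _ hCinj, hmapI, hmapC, hmapInn, hCx₁,
      ← range_subHomCP j (twForm F₀ k a₀ b₀) (twForm F k (j a₀) (j b₀)) hjQ hQ₀ hQ' hne₀ hne'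
        (k + 1) hcard h5 p σ hσQ' (by norm_num : 0 < 2) hσr hinj hj1 hj2]
  have hcardsq : Fintype.card F = Fintype.card F₀ ^ 2 := by
    rw [hF, hF₀, ← pow_mul]
    congr 1
    obtain ⟨t, ht⟩ := hfe
    omega
  refine ⟨hfe, ?_, ⟨a₀, b₀, hab₀, ?_⟩, ?_, ?_, ?_⟩
  · -- conjugacy
    intro y hy hy2
    obtain ⟨σ', hσ'Q, hσ'o, h', hh'G, hyh'⟩ := graphfield_conj_std hk (plusForm F (k + 1)) rfl hQ hne
      h5 p hsurj (swapVec k) hz hzτ y hy2 hy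
    obtain rfl : σ' = σ := involution_unique σ' σ hσ'o hσo
    have e : PsiM (plusForm F (k + 1)) hQ h5 (simGamma (plusForm F (k + 1))
        (reflGO (plusForm F (k + 1)) (swapVec k))) *
        PsiM (plusForm F (k + 1)) hQ h5 (fieldGammaOne (plusForm F (k + 1)) σ' hσ'Q) = x₁ := by
      rw [hx₁]
    rw [e] at hyh'
    refine ⟨h' * h⁻¹, Subgroup.mul_mem _ hh'G (Subgroup.inv_mem _ hhG), ?_⟩
    rw [hyh', hxh]
    group
  · -- the centralizer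
    intro Qf₀ hQf₀
    obtain ⟨e0⟩ := Cfsg.Agent.Helper8.SplitClass.nonempty_centralizer_equiv
      (cpAut (plusForm F (k + 1)) hQ hne (k + 1) hcard) h x₁
    rw [← hxh] at e0
    have e1 := (cpAut (plusForm F (k + 1)) hQ hne (k + 1) hcard ⊓
      Subgroup.centralizer {x₁}).equivMapOfInjective C.toMonoidHom hCinj
    have e2 : (cpAut (plusForm F (k + 1)) hQ hne (k + 1) hcard ⊓
        Subgroup.centralizer {x₁}).map C.toMonoidHom
        = cpAut (twForm F k (j a₀) (j b₀)) hQ' hne' (k + 1) hcard ⊓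
          Subgroup.centralizer {PsiM (twForm F k (j a₀) (j b₀)) hQ' h5
            (fieldGammaOne (twForm F k (j a₀) (j b₀)) σ hσQ')} := by
      rw [Subgroup.map_inf _ _ _ hCinj, hmapI, hmapC, hCx₁]
    obtain ⟨E2⟩ := nonempty_centralizer_equiv_cp j (twForm F₀ k a₀ b₀) (twForm F k (j a₀) (j b₀))
      hjQ hQ₀ hQ' hne₀ hne' (k + 1) hcard h5 p σ hσQ' (by norm_num : 0 < 2) hσr hinj hj1 hj2
    obtain ⟨E3⟩ := nonempty_cpAut_equiv_reindex (twForm F₀ k a₀ b₀) (minusForm F₀ k a₀ b₀)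
      (idxEquiv k) (twForm_apply F₀ k a₀ b₀) hQ₀ (minusForm_nondeg F₀ k hab₀) hne₀
      (Cfsg.Agent.S2726.minus_ne (by omega) a₀ b₀) (k + 1) hcard (card_idx_minus k) h5 p
    obtain ⟨E4⟩ := nonempty_inndiag_equiv_cpAut k (by omega) a₀ b₀ hab₀ Qf₀ hQf₀
    exact ⟨((((e0.symm.trans e1).trans (MulEquiv.subgroupCongr e2)).trans E2).trans E3).trans E4⟩
  · -- characteristic two
    intro hp2
    subst hp2
    have h2 : (2 : F) = 0 := by
      have := CharP.cast_eq_zero F 2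
      exact_mod_cast this
    rw [hcount, Subgroup.relIndex_eq_one]
    exact le_trans (cpAut_le_Inn_of_char_two (twForm F k (j a₀) (j b₀)) hQ' hne' (k + 1) hcard
      h5 h2) le_sup_left
  · -- odd characteristic, four classes
    rintro ⟨hp2, hodd, hmod⟩
    have h2 : (2 : F) ≠ 0 := by
      intro h
      have h3 : ((2 : ℕ) : F) = 0 := by exact_mod_cast h
      rw [CharP.cast_eq_zero_iff F p] at h3
      exact hp2 ((Nat.prime_dvd_prime_iff_eq Fact.out Nat.prime_two).mp h3)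
    rw [hcount]
    apply (relIndex_graphfield_odd j σ hσo hj1 hj2 a₀ b₀ ρ ρ' hsum hprod hρne hσρ hσρ' h2 hcardsq
      hQ hne hQ₀ hQ' hne₀ hne' hjQ h5).1
    rw [hF₀]
    exact ⟨hodd, hmod⟩
  · -- odd characteristic, two classes
    rintro ⟨hp2, hnot⟩
    have h2 : (2 : F) ≠ 0 := by
      intro h
      have h3 : ((2 : ℕ) : F) = 0 := by exact_mod_cast h
      rw [CharP.cast_eq_zero_iff F p] at h3
      exact hp2 ((Nat.prime_dvd_prime_iff_eq Fact.out Nat.prime_two).mp h3)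
    rw [hcount]
    apply (relIndex_graphfield_odd j σ hσo hj1 hj2 a₀ b₀ ρ ρ' hsum hprod hρne hσρ hσρ' h2 hcardsq
      hQ hne hQ₀ hQ' hne₀ hne' hjQ h5).2
    rw [hF₀]
    exact hnot

end Cfsg.Agent.Helper8.AutO
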