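import Mathlib
import Cfsg.Agent.Helper8.AutSLnGFa
import Cfsg.Prelude.Def_LieTypeDatum

set_option autoImplicit false

/-!
The automorphisms of `PSL_n(F)`, graph-field part (b): the centraliser of the graph-field automorphism
in the inner-diagonal group is the projective general unitary group; the index of `Inn · C`.
-/

namespace Cfsg.Agent.Helper8.AutSLn

open Matrix

variable {F : Type*} [Field F]

section unitary

variable {n q₀ : ℕ}

/-- the unitary group acting on `PSL` -/
noncomputable def unitaryHom (F : Type*) [Field F] (n q₀ : ℕ) :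
    ↥(Cfsg.GU n F q₀) →* MulAut (ProjectiveSpecialLinearGroup (Fin n) F) :=
  pslConj.comp (Cfsg.GU n F q₀).subtype

theorem unitaryHom_apply (g : ↥(Cfsg.GU n F q₀)) :
    unitaryHom F n q₀ g = pslConj (g : GL (Fin n) F) := rfl

theorem ker_unitaryHom [Nontrivial (Fin n)] :
    (unitaryHom F n q₀).ker = (Cfsg.Geo.scalars (Fin n) F).subgroupOf (Cfsg.GU n F q₀) := by
  ext g
  rw [MonoidHom.mem_ker, Subgroup.mem_subgroupOf, unitaryHom_apply, ← MonoidHom.mem_ker,
    ker_pslConj, Matrix.GeneralLinearGroup.center_eq_range_scalar]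
  rfl

theorem range_unitaryHom [Finite F] [Nontrivial (Fin n)] (σ : F ≃+* F) (hσ : σ ≠ 1)
    (hσ2 : σ * σ = 1) (hσq : ∀ a : F, σ a = a ^ q₀) :
    (unitaryHom F n q₀).range =
      (pslConj : GL (Fin n) F →* MulAut (ProjectiveSpecialLinearGroup (Fin n) F)).range ⊓
        Subgroup.centralizer {pslField σ * pslInvTr} := by
  ext β
  constructor
  · rintro ⟨g, rfl⟩
    refine ⟨⟨_, rfl⟩, ?_⟩
    apply Subgroup.mem_centralizer_iff.mpr
    intro y hy
    rw [Set.mem_singleton_iff] at hy
    subst hy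
    rw [unitaryHom_apply, commute_graphField_iff, (mem_GU_iff σ hσq _).mp g.2]
    exact Subgroup.one_mem _
  · rintro ⟨⟨g, rfl⟩, h2⟩
    replace h2 := Subgroup.mem_centralizer_iff.mp h2 _ rfl
    rw [commute_graphField_iff, Matrix.GeneralLinearGroup.center_eq_range_scalar] at h2
    obtain ⟨c, hc⟩ := h2
    obtain ⟨μ, -, hμ⟩ := exists_unitary_scalar σ hσ hσ2 g c hc.symm
    refine ⟨⟨_, (mem_GU_iff σ hσq _).mpr hμ⟩, ?_⟩
    rw [unitaryHom_apply]
    exact pslConj_scalar_mul μ⁻¹ g

/-- **the centraliser of the graph-field automorphism in the inner-diagonal group** -/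
theorem nonempty_centralizer_equiv_PGU [Finite F] [Nontrivial (Fin n)] (σ : F ≃+* F) (hσ : σ ≠ 1)
    (hσ2 : σ * σ = 1) (hσq : ∀ a : F, σ a = a ^ q₀) :
    Nonempty (↥((pslConj : GL (Fin n) F →*
        MulAut (ProjectiveSpecialLinearGroup (Fin n) F)).range ⊓
        Subgroup.centralizer {pslField σ * pslInvTr}) ≃* Cfsg.PGU n F q₀) := by
  have e1 := QuotientGroup.quotientKerEquivRange (unitaryHom F n q₀)
  have e2 := QuotientGroup.quotientMulEquivOfEq (ker_unitaryHom (F := F) (n := n) (q₀ := q₀))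
  have e3 := MulEquiv.subgroupCongr (range_unitaryHom (n := n) σ hσ hσ2 hσq)
  exact ⟨(e3.symm.trans e1.symm).trans e2⟩

end unitary

section GLpart

variable {m : Type*} [Fintype m] [DecidableEq m]

/-- the preimage in `GL` of `Inn · C(graph-field automorphism)` is given by a condition on the
determinant -/
theorem comap_inn_sup_centralizer_gf [Finite F] [Nontrivial m] (σ : F ≃+* F) (hσ : σ ≠ 1)
    (hσ2 : σ * σ = 1) :
    (Cfsg.Inn (ProjectiveSpecialLinearGroup m F) ⊔
      ((pslConj : GL m F →* MulAut (ProjectiveSpecialLinearGroup m F)).range ⊓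
        Subgroup.centralizer {pslField σ * pslInvTr})).comap pslConj =
      ((powMonoidHom (Fintype.card m) : Fˣ →* Fˣ).range ⊔ (nrmHom σ 2).ker).comap
        Matrix.GeneralLinearGroup.det := by
  ext g
  rw [Subgroup.mem_comap, Subgroup.mem_comap]
  constructor
  · intro h
    rw [← SetLike.mem_coe, Subgroup.normal_mul, Set.mem_mul] at h
    obtain ⟨a, ha, b, hb, e⟩ := h
    obtain ⟨x, rfl⟩ := ha
    obtain ⟨s, rfl⟩ := QuotientGroup.mk_surjective x
    obtain ⟨⟨g₁, rfl⟩, hbC⟩ := hb
    have h0 := Subgroup.mem_centralizer_iff.mp hbC _ rfl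
    rw [commute_graphField_iff, Matrix.GeneralLinearGroup.center_eq_range_scalar] at h0
    obtain ⟨c, hc⟩ := h0
    obtain ⟨μ, -, hμ⟩ := exists_unitary_scalar σ hσ hσ2 g₁ c hc.symm
    rw [conj_mk_eq_pslConj, ← map_mul] at e
    have h1 : (Matrix.SpecialLinearGroup.toGL s * g₁)⁻¹ * g ∈
        (pslConj : GL m F →* MulAut (ProjectiveSpecialLinearGroup m F)).ker := by
      rw [MonoidHom.mem_ker, map_mul, map_inv, e, inv_mul_cancel]
    rw [ker_pslConj, Matrix.GeneralLinearGroup.center_eq_range_scalar] at h1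
    obtain ⟨z, hz⟩ := h1
    have h2 : g = Matrix.SpecialLinearGroup.toGL s * g₁ * Matrix.GeneralLinearGroup.scalar m z := by
      rw [hz, mul_inv_cancel_left]
    have h3 := congrArg Matrix.GeneralLinearGroup.det hμ
    rw [map_mul, det_glStar, map_one] at h3
    have h3' : Matrix.GeneralLinearGroup.det (Matrix.GeneralLinearGroup.scalar m μ⁻¹ * g₁) ∈
        (nrmHom σ 2).ker := by
      rw [MonoidHom.mem_ker, nrmHom_apply, nrmF_two]
      exact h3
    have h4 : Matrix.GeneralLinearGroup.det g =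
        powMonoidHom (Fintype.card m) (z * μ) *
          Matrix.GeneralLinearGroup.det (Matrix.GeneralLinearGroup.scalar m μ⁻¹ * g₁) := by
      rw [h2, map_mul Matrix.GeneralLinearGroup.det, map_mul Matrix.GeneralLinearGroup.det,
        map_mul Matrix.GeneralLinearGroup.det (Matrix.GeneralLinearGroup.scalar m μ⁻¹),
        Matrix.SpecialLinearGroup.coeToGL_det, one_mul,
        Matrix.GeneralLinearGroup.det_scalar, Matrix.GeneralLinearGroup.det_scalar,
        powMonoidHom_apply, mul_pow, inv_pow]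
      rw [mul_comm, mul_assoc, mul_inv_cancel_left]
    rw [h4]
    exact Subgroup.mul_mem_sup ⟨_, rfl⟩ h3'
  · intro h
    rw [Subgroup.mem_sup] at h
    obtain ⟨_, ⟨u, rfl⟩, κ, hκ, e⟩ := h
    rw [powMonoidHom_apply] at e
    rw [MonoidHom.mem_ker, nrmHom_apply, nrmF_two] at hκ
    obtain ⟨i₀⟩ := (inferInstance : Nonempty m)
    obtain ⟨s, hs⟩ := exists_toGL_eq
      (g := Matrix.GeneralLinearGroup.scalar m u⁻¹ * g * (diag1 i₀ κ)⁻¹)
      (by rw [map_mul, map_mul, map_inv Matrix.GeneralLinearGroup.det (diag1 i₀ κ), det_diag1,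
        Matrix.GeneralLinearGroup.det_scalar, ← e, inv_pow, inv_mul_cancel_left, mul_inv_cancel])
    have h1 : pslConj g = (pslConj (Matrix.SpecialLinearGroup.toGL s) * pslConj (diag1 i₀ κ) :
        MulAut (ProjectiveSpecialLinearGroup m F)) := by
      rw [hs, ← map_mul, inv_mul_cancel_right, pslConj_scalar_mul]
    rw [h1]
    refine Subgroup.mul_mem_sup (pslConj_toGL_mem_inn s) ⟨⟨_, rfl⟩, ?_⟩
    apply Subgroup.mem_centralizer_iff.mpr
    intro y hy
    rw [Set.mem_singleton_iff] at hy
    subst hy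
    rw [commute_graphField_iff, glStar_diag1, ← map_mul, hκ, map_one]
    exact Subgroup.one_mem _

/-- **the index of `Inn · C(graph-field automorphism)` in the inner-diagonal group** -/
theorem relIndex_inn_sup_centralizer_gf [Finite F] [Nontrivial m] (σ : F ≃+* F) (hσ : σ ≠ 1)
    (hσ2 : σ * σ = 1) :
    (Cfsg.Inn (ProjectiveSpecialLinearGroup m F) ⊔
      ((pslConj : GL m F →* MulAut (ProjectiveSpecialLinearGroup m F)).range ⊓
        Subgroup.centralizer {pslField σ * pslInvTr})).relIndex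
          (pslConj : GL m F →* MulAut (ProjectiveSpecialLinearGroup m F)).range =
      Nat.gcd (Fintype.card m) (Nat.card (fixU σ)) := by
  have hσ2' : σ ^ 2 = 1 := by rw [pow_two, hσ2]
  rw [← Subgroup.index_comap, comap_inn_sup_centralizer_gf σ hσ hσ2,
    Subgroup.index_comap_of_surjective, index_range_pow_sup, Subgroup.index_ker,
    range_nrmHom σ two_pos hσ2' (hinj_two σ hσ)]
  intro c
  obtain ⟨i₀⟩ := (inferInstance : Nonempty m)
  exact ⟨diag1 i₀ c, det_diag1 i₀ c⟩

end GLpart

end Cfsg.Agent.Helper8.AutSLn
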