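import Mathlib
import Cfsg.Agent.Helper8.AutSLnGFb
import Cfsg.Agent.Helper8.SplitClassA

set_option autoImplicit false

/-!
The automorphisms of `PSL_n(F)`, graph-field part (c): the involutory graph-field automorphisms.
-/

namespace Cfsg.Agent.Helper8.AutSLn

open Matrix

/-- a conjugation identity -/
theorem conj_factor {X : Type*} [Group X] (α θ x x₀ P A : X) (e : α * x * α⁻¹ = x₀)
    (hθ : α * θ * α⁻¹ = P * A) (hA : A * x₀ = x₀ * A) :
    θ * x * θ⁻¹ = (α⁻¹ * P * α) * x * (α⁻¹ * P * α)⁻¹ := by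
  have hA' : A * x₀ * A⁻¹ = x₀ := by rw [hA, mul_inv_cancel_right]
  have e1 : θ = α⁻¹ * (P * A) * α := by
    rw [← hθ]
    group
  calc θ * x * θ⁻¹ = α⁻¹ * (P * (A * (α * x * α⁻¹) * A⁻¹) * P⁻¹) * α := by
        rw [e1]
        group
    _ = α⁻¹ * (P * x₀ * P⁻¹) * α := by rw [e, hA']
    _ = (α⁻¹ * P * α) * x * (α⁻¹ * P * α)⁻¹ := by
        rw [← e]
        group

variable {F : Type*} [Field F] {n : ℕ}

theorem graphField_sq_eq_one [Nontrivial (Fin n)] (σ : F ≃+* F)
    (hord : orderOf (pslField σ * pslInvTr : MulAut (ProjectiveSpecialLinearGroup (Fin n) F)) = 2) :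
    σ * σ = 1 := by
  have hcomm : Commute (pslField σ : MulAut (ProjectiveSpecialLinearGroup (Fin n) F)) pslInvTr :=
    (pslInvTr_mul_pslField σ).symm
  have hsq : (pslInvTr : MulAut (ProjectiveSpecialLinearGroup (Fin n) F)) ^ 2 = 1 := by
    rw [pow_two, pslInvTr_mul_self]
  have e1 := pow_orderOf_eq_one
    (pslField σ * pslInvTr : MulAut (ProjectiveSpecialLinearGroup (Fin n) F))
  rw [hord, hcomm.mul_pow, hsq, mul_one, ← map_pow] at e1
  rw [← pow_two]
  exact pslField_injective (e1.trans (map_one _).symm)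

section main

variable [Fintype F] [Fact (2 ≤ n)]

/-- every `Aut`-conjugate of an element conjugate to the graph-field automorphism is conjugate to it
under the inner-diagonal group -/
theorem conj_any_graphField (σ : F ≃+* F)
    (α x θ : MulAut (ProjectiveSpecialLinearGroup (Fin n) F))
    (e : α * x * α⁻¹ = pslField σ * pslInvTr) :
    Cfsg.IsConjUnder (diagSub n F) x (θ * x * θ⁻¹) := by
  obtain ⟨p, hp⟩ := CharP.exists F
  have : Fact p.Prime := ⟨CharP.char_is_prime F p⟩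
  have hcyc : IsCyclic (F ≃+* F) := Cfsg.Agent.Helper8.AutPSL2.isCyclic_ringAut'
  have hc1 : ∀ τ : F ≃+* F, (pslField τ : MulAut (ProjectiveSpecialLinearGroup (Fin n) F)) *
      (pslField σ * pslInvTr) = (pslField σ * pslInvTr) * pslField τ := by
    intro τ
    rw [mul_assoc, pslInvTr_mul_pslField, ← mul_assoc, ← mul_assoc, ← map_mul, ← map_mul,
      IsMulCommutative.is_comm.comm τ σ]
  have hc2 : (pslInvTr : MulAut (ProjectiveSpecialLinearGroup (Fin n) F)) *
      (pslField σ * pslInvTr) = (pslField σ * pslInvTr) * pslInvTr := by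
    rw [← mul_assoc, pslInvTr_mul_pslField]
  have key : ∀ (A : MulAut (ProjectiveSpecialLinearGroup (Fin n) F)) (g : GL (Fin n) F),
      A * (pslField σ * pslInvTr) = (pslField σ * pslInvTr) * A →
      α * θ * α⁻¹ = pslConj g * A → Cfsg.IsConjUnder (diagSub n F) x (θ * x * θ⁻¹) := by
    intro A g hA hθ
    refine ⟨α⁻¹ * pslConj g * α, ?_, conj_factor α θ x _ (pslConj g) A e hθ hA⟩
    have := Subgroup.Normal.conj_mem (inferInstance : (diagSub n F).Normal) (pslConj g)
      ⟨g, rfl⟩ α⁻¹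
    rwa [inv_inv] at this
  obtain ⟨g, τ, h | h⟩ := aut_PSL_standard_fin p (Fact.out : 2 ≤ n) (α * θ * α⁻¹)
  · exact key (pslField τ) g (hc1 τ) h
  · refine key (pslField τ * pslInvTr) g ?_ (by rw [h, mul_assoc])
    rw [mul_assoc, hc2, ← mul_assoc, hc1, mul_assoc]

/-- the data of an involutory graph-field automorphism -/
theorem graphField_data {p f : ℕ} [Fact p.Prime] (hF : Fintype.card F = p ^ f)
    (y : MulAut (ProjectiveSpecialLinearGroup (Fin n) F))
    (hy : Cfsg.IsGraphFieldAutClassPSL y) (hy2 : orderOf y = 2) :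
    ∃ (β : MulAut (ProjectiveSpecialLinearGroup (Fin n) F)) (σ : F ≃+* F),
      β * y * β⁻¹ = pslField σ * pslInvTr ∧ σ ≠ 1 ∧ σ * σ = 1 ∧ Even f ∧
        ∀ a : F, σ a = a ^ (p ^ (f / 2)) := by
  have : Nontrivial (Fin n) := Fin.nontrivial_iff_two_le.mpr Fact.out
  obtain ⟨-, β, φ, γ, σ, hσ, hφ, hγ, e⟩ := hy
  rw [eq_pslField_of_isStdField hφ, eq_pslInvTr_of_isInverseTranspose hγ] at e
  have hord : orderOf (pslField σ * pslInvTr :
      MulAut (ProjectiveSpecialLinearGroup (Fin n) F)) = 2 := by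
    rw [← e, ← hy2]
    exact MulEquiv.orderOf_eq (MulAut.conj β) y
  have hσ2 := graphField_sq_eq_one σ hord
  have hσord : orderOf σ = 2 := by
    apply orderOf_eq_prime
    · rw [pow_two, hσ2]
    · exact hσ
  obtain ⟨h1, h2⟩ := involution_eq_frob hF σ hσord
  exact ⟨β, σ, e, hσ, hσ2, h1, h2⟩

/-- **the involutory graph-field automorphisms of `PSL_n(F)`** -/
theorem graphField_aut_main {p f : ℕ} [Fact p.Prime] (hF : Fintype.card F = p ^ f)
    (x : MulAut (ProjectiveSpecialLinearGroup (Fin n) F))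
    (hx : Cfsg.IsGraphFieldAutClassPSL x) (hx2 : orderOf x = 2) :
    Even f ∧
    (∀ y : MulAut (ProjectiveSpecialLinearGroup (Fin n) F), Cfsg.IsGraphFieldAutClassPSL y →
      orderOf y = 2 → Cfsg.IsConjUnder (Cfsg.inndiagPSL n F) x y) ∧
    Nonempty (↥(Cfsg.inndiagPSL n F ⊓ Subgroup.centralizer {x}) ≃* Cfsg.PGU n F (p ^ (f / 2))) ∧
    Cfsg.splitClassCount (Cfsg.inndiagPSL n F)
      (Cfsg.Inn (ProjectiveSpecialLinearGroup (Fin n) F)) x = Nat.gcd n (p ^ (f / 2) - 1) := by
  have : Nontrivial (Fin n) := Fin.nontrivial_iff_two_le.mpr Fact.out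
  obtain ⟨α, σ, e, hσ, hσ2, hf, hσq⟩ := graphField_data hF x hx hx2
  have hσord : orderOf σ = 2 := by
    apply orderOf_eq_prime
    · rw [pow_two, hσ2]
    · exact hσ
  refine ⟨hf, ?_, ?_, ?_⟩
  · intro y hy hy2
    obtain ⟨β, σ', e', -, -, -, hσ'q⟩ := graphField_data hF y hy hy2
    have hσσ' : σ' = σ := by
      ext a
      rw [hσq, hσ'q]
    rw [hσσ', ← e] at e'
    have h1 : y = (β⁻¹ * α) * x * (β⁻¹ * α)⁻¹ := by
      have : y = β⁻¹ * (β * y * β⁻¹) * β := by group
      rw [this, e']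
      group
    rw [h1, inndiagPSL_eq]
    exact conj_any_graphField σ α x _ e
  · rw [inndiagPSL_eq]
    obtain ⟨E1⟩ := Cfsg.Agent.Helper8.SplitClass.nonempty_centralizer_equiv (diagSub n F) α x
    rw [e] at E1
    obtain ⟨E2⟩ := nonempty_centralizer_equiv_PGU (n := n) σ hσ hσ2 hσq
    exact ⟨E1.trans E2⟩
  · rw [inndiagPSL_eq,
      Cfsg.Agent.Helper8.SplitClass.splitClassCount_eq_relIndex (diagSub n F)
        (Cfsg.Inn (ProjectiveSpecialLinearGroup (Fin n) F)) inn_le_range_pslConj x,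
      ← Cfsg.Agent.Helper8.SplitClass.relIndex_conj _ _ α x, e]
    show (Cfsg.Inn (ProjectiveSpecialLinearGroup (Fin n) F) ⊔
      ((pslConj : GL (Fin n) F →* MulAut (ProjectiveSpecialLinearGroup (Fin n) F)).range ⊓
        Subgroup.centralizer {pslField σ * pslInvTr})).relIndex
          (pslConj : GL (Fin n) F →* MulAut (ProjectiveSpecialLinearGroup (Fin n) F)).range = _
    rw [relIndex_inn_sup_centralizer_gf σ hσ hσ2, Fintype.card_fin, card_fixU,
      (card_fixField hF σ two_pos hσord).2]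

end main

end Cfsg.Agent.Helper8.AutSLn
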