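import Mathlib
import Cfsg.Agent.Helper8.AutSLnX
import Cfsg.Agent.Helper8.SplitClassA

set_option autoImplicit false

/-!
The automorphisms of `PSL_n(F)`, part Y: the field automorphisms of prime order: centraliser in the
inner-diagonal group and the number of classes under the inner automorphisms.
-/

namespace Cfsg.Agent.Helper8.AutSLn

open Matrix

variable {F : Type*} [Field F] {n : ℕ}

/-- **the field automorphisms of prime order of `PSL_n(F)`** -/
theorem field_aut_main [Fintype F] {p f : ℕ} [Fact p.Prime] (hF : Fintype.card F = p ^ f)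
    [Fact (2 ≤ n)] (x : MulAut (ProjectiveSpecialLinearGroup (Fin n) F))
    (hx : Cfsg.IsFieldAutClassPSL x) {r : ℕ} (hr : r.Prime) (hxr : orderOf x = r)
    (F₀ : Type*) [Field F₀] [Fintype F₀] (hF₀ : Fintype.card F₀ = p ^ (f / r)) :
    r ∣ f ∧
    Nonempty (↥(Cfsg.inndiagPSL n F ⊓ Subgroup.centralizer {x}) ≃*
      Matrix.ProjGenLinGroup (Fin n) F₀) ∧
    Cfsg.splitClassCount (Cfsg.inndiagPSL n F)
      (Cfsg.Inn (ProjectiveSpecialLinearGroup (Fin n) F)) x =
      Nat.gcd n ((p ^ f - 1) / (p ^ (f / r) - 1)) := by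
  have : Nontrivial (Fin n) := Fin.nontrivial_iff_two_le.mpr Fact.out
  obtain ⟨α, σ, -, hstd⟩ := hx
  have e1 := eq_pslField_of_isStdField hstd
  have hσord : orderOf σ = r := by
    rw [← orderOf_injective _ (pslField_injective (m := Fin n) (F := F)) σ, ← e1, ← hxr]
    exact MulEquiv.orderOf_eq (MulAut.conj α) x
  have hσr : σ ^ r = 1 := by rw [← hσord, pow_orderOf_eq_one]
  have hinj : ∀ i j : Fin r, σ ^ (i : ℕ) = σ ^ (j : ℕ) → i = j := by
    intro i j e
    apply Fin.ext
    apply pow_injOn_Iio_orderOf (x := σ) _ _ e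
    · rw [hσord]
      exact i.2
    · rw [hσord]
      exact j.2
  obtain ⟨ι, hι1, hι2⟩ := exists_embedding hF σ hr.pos hσord F₀ hF₀
  refine ⟨(card_fixField hF σ hr.pos hσord).1, ?_, ?_⟩
  · rw [inndiagPSL_eq]
    obtain ⟨E1⟩ := Cfsg.Agent.Helper8.SplitClass.nonempty_centralizer_equiv (diagSub n F) α x
    rw [e1] at E1
    obtain ⟨E2⟩ := nonempty_centralizer_equiv_PGL (m := Fin n) σ hr.pos hσr hinj ι hι1 hι2
    exact ⟨E1.trans E2⟩
  · rw [inndiagPSL_eq,
      Cfsg.Agent.Helper8.SplitClass.splitClassCount_eq_relIndex (diagSub n F)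
        (Cfsg.Inn (ProjectiveSpecialLinearGroup (Fin n) F)) inn_le_range_pslConj x,
      ← Cfsg.Agent.Helper8.SplitClass.relIndex_conj _ _ α x, e1]
    show (Cfsg.Inn (ProjectiveSpecialLinearGroup (Fin n) F) ⊔
      ((pslConj : GL (Fin n) F →* MulAut (ProjectiveSpecialLinearGroup (Fin n) F)).range ⊓
        Subgroup.centralizer {pslField σ})).relIndex
          (pslConj : GL (Fin n) F →* MulAut (ProjectiveSpecialLinearGroup (Fin n) F)).range = _
    rw [relIndex_inn_sup_centralizer σ hr.pos hσr hinj, Fintype.card_fin,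
      index_pow_sup_fixU hF σ hr.pos hσord]

end Cfsg.Agent.Helper8.AutSLn
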