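import Mathlib
import Cfsg.Agent.Helper8.AutSUzn
import Cfsg.Agent.Helper8.SplitClassA

set_option autoImplicit false
set_option linter.unusedSectionVars false

/-! Automorphisms of `PSU_n(q)`: the field automorphisms of odd prime order: centraliser in the
inner-diagonal group and the number of classes under the inner automorphisms (helper8). -/

namespace Cfsg.Agent.Helper8.AutSU

open Matrix Cfsg Cfsg.Agent.Helper7.Herm Cfsg.Agent.Helper8.GUOrder Cfsg.Agent.Helper8.SURoot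
open Cfsg.Agent.Helper8.AutSLn (gls glStar nrmGL nrmF unitsAut Descent fixU mem_fixU)
open scoped Pointwise

variable {F : Type*} [Field F] [Fintype F] {q k N : ℕ} [hF : Fact (Fintype.card F = q ^ 2)]
variable {F₀ : Type*} [Field F₀] [Fintype F₀] {q₀ : ℕ} [hF₀ : Fact (Fintype.card F₀ = q₀ ^ 2)]
variable {τ : F ≃+* F} {ι : F₀ →+* F}

/-- the unitary scalars fixed by the field automorphism are those of the fixed field -/
theorem card_U1_inf_fixU (D : Descent τ (frobE F q) ι (frobE F₀ q₀)) :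
    Nat.card ↥(U1 F q ⊓ fixU τ) = q₀ + 1 := by
  rw [← card_U1 (F := F₀) (q := q₀)]
  symm
  have hmem : ∀ u₀ : F₀ˣ, u₀ ∈ U1 F₀ q₀ → Descent.um ι u₀ ∈ U1 F q ⊓ fixU τ := by
    intro u₀ hu₀
    refine ⟨?_, ?_⟩
    · show _ ∈ U1 F q
      rw [mem_U1_iff, ← D.um_unitsAut, ← map_mul, (mem_U1_iff u₀).mp hu₀, map_one]
    · show _ ∈ fixU τ
      rw [mem_fixU]
      exact D.unitsAut_um u₀
  refine Nat.card_congr (Equiv.ofBijective
    (fun u₀ : U1 F₀ q₀ => (⟨Descent.um ι u₀.1, hmem u₀.1 u₀.2⟩ : ↥(U1 F q ⊓ fixU τ))) ⟨?_, ?_⟩)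
  · intro a b h
    apply Subtype.ext
    apply Descent.um_injective (ι := ι)
    exact congrArg Subtype.val h
  · rintro ⟨u, hu1, hu2⟩
    obtain ⟨u₀, rfl⟩ := D.exists_um_eq u ((mem_fixU τ u).mp hu2)
    have hu₀ : u₀ ∈ U1 F₀ q₀ := by
      rw [mem_U1_iff]
      apply Descent.um_injective (ι := ι)
      have h1 : Descent.um ι u₀ ∈ U1 F q := hu1
      rw [map_mul, D.um_unitsAut, (mem_U1_iff _).mp h1, map_one]
    exact ⟨⟨u₀, hu₀⟩, rfl⟩

/-- the index of the subgroup of the unitary scalars attached to `Inn · C` -/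
theorem relIndex_U1 (D : Descent τ (frobE F q) ι (frobE F₀ q₀)) (n : ℕ) :
    ((U1 F q).map (powMonoidHom n : Fˣ →* Fˣ) ⊔ (U1 F q ⊓ fixU τ)).relIndex (U1 F q) =
      Nat.gcd n ((q + 1) / (q₀ + 1)) := by
  have h1 : ((U1 F q).map (powMonoidHom n : Fˣ →* Fˣ)).subgroupOf (U1 F q) =
      (powMonoidHom n : ↥(U1 F q) →* ↥(U1 F q)).range := by
    ext ⟨x, hx⟩
    rw [Subgroup.mem_subgroupOf, Subgroup.mem_map, MonoidHom.mem_range]
    constructor
    · rintro ⟨y, hy, e⟩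
      exact ⟨⟨y, hy⟩, Subtype.ext e⟩
    · rintro ⟨⟨y, hy⟩, e⟩
      exact ⟨y, hy, congrArg Subtype.val e⟩
  have hle : (U1 F q).map (powMonoidHom n : Fˣ →* Fˣ) ≤ U1 F q := by
    rintro _ ⟨y, hy, rfl⟩
    exact Subgroup.pow_mem _ hy n
  unfold Subgroup.relIndex
  rw [Subgroup.subgroupOf_sup hle inf_le_left, h1,
    Cfsg.Agent.Helper8.AutSLn.index_range_pow_sup]
  congr 1
  have h2 := ((U1 F q ⊓ fixU τ).subgroupOf (U1 F q)).card_mul_index
  have h3 : Nat.card ((U1 F q ⊓ fixU τ).subgroupOf (U1 F q)) = q₀ + 1 := by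
    rw [← card_U1_inf_fixU D]
    exact Nat.card_congr (Subgroup.subgroupOfEquivOfLe inf_le_left).toEquiv
  rw [h3, card_U1] at h2
  exact (Nat.div_eq_of_eq_mul_right (Nat.succ_pos q₀) h2.symm).symm

section main

variable (p : ℕ) [Fact p.Prime] [CharP F p] (hk : 1 ≤ k) (hkq : ¬ (k = 1 ∧ q = 2))

include p hk hkq

/-- **the field automorphisms of odd prime order of `PSU_n(q)`** -/
theorem field_aut_main_psu (f : ℕ) (hq : q = p ^ f) (x : MulAut (PSU (k + 2) F q))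
    (hx : Cfsg.IsFieldAutClassPSU x) {r : ℕ} (hr : r.Prime) (hxr : orderOf x = r)
    (F₀ : Type*) [Field F₀] [Fintype F₀] (hF₀ : Fintype.card F₀ = p ^ (2 * (f / r))) :
    r ∣ f ∧
    Nonempty (↥(Cfsg.inndiagPSU (k + 2) F q ⊓ Subgroup.centralizer {x}) ≃*
      Cfsg.PGU (k + 2) F₀ (p ^ (f / r))) ∧
    Cfsg.splitClassCount (Cfsg.inndiagPSU (k + 2) F q) (Cfsg.Inn (PSU (k + 2) F q)) x =
      Nat.gcd (k + 2) ((q + 1) / (p ^ (f / r) + 1)) := by
  have hnorm := range_psuConj_normal (F := F) (q := q) p hk hkq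
  obtain ⟨α, φ', σ, -, hodd, hφ', e⟩ := hx
  have e1 := eq_psuField_of_isFieldAut hφ'
  rw [e1] at e
  have hσ : orderOf σ = r := by
    rw [← orderOf_injective _ (psuField_injective (F := F) (q := q) p hk) σ, ← e, ← hxr]
    exact MulEquiv.orderOf_eq (MulAut.conj α) x
  have hσr : σ ^ r = 1 := by rw [← hσ, pow_orderOf_eq_one]
  have hinj : ∀ i j : Fin r, σ ^ (i : ℕ) = σ ^ (j : ℕ) → i = j := by
    intro i j e
    apply Fin.ext
    apply pow_injOn_Iio_orderOf (x := σ) _ _ e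
    · rw [hσ]
      exact i.2
    · rw [hσ]
      exact j.2
  rw [hσ] at hodd
  obtain ⟨hrf, hD⟩ := exists_descent p f hq σ hr.pos hodd hσ
  have : Fact (Fintype.card F₀ = (p ^ (f / r)) ^ 2) := ⟨by rw [hF₀, ← pow_mul, mul_comm]⟩
  obtain ⟨ι, D⟩ := hD F₀
  refine ⟨hrf, ?_, ?_⟩
  · rw [inndiagPSU_eq]
    obtain ⟨E1⟩ := Cfsg.Agent.Helper8.SplitClass.nonempty_centralizer_equiv
      (psuConj : GU (k + 2) F q →* MulAut (PSU (k + 2) F q)).range α x
    rw [e] at E1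
    obtain ⟨E2⟩ := nonempty_centralizer_equiv_PGU p hk D hr.pos hσr hinj
    exact ⟨E1.trans E2⟩
  · rw [inndiagPSU_eq,
      Cfsg.Agent.Helper8.SplitClass.splitClassCount_eq_relIndex
        (psuConj : GU (k + 2) F q →* MulAut (PSU (k + 2) F q)).range
        (Cfsg.Inn (PSU (k + 2) F q)) inn_le_range_psuConj x,
      ← Cfsg.Agent.Helper8.SplitClass.relIndex_conj _ _ α x, e,
      relIndex_inn_sup_centralizer_psu p hk D hr.pos hσr hinj, relIndex_U1 D]

end main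

end Cfsg.Agent.Helper8.AutSU
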