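import Mathlib
import Cfsg.Agent.Helper8.AutSpk

set_option autoImplicit false
set_option linter.unusedSectionVars false

/-!
# `PSp_{2m}(q)` against `PΩ_{2m+1}(q)`, part A (helper8)

An isomorphism invariant built from the centres of the Sylow `p`-subgroups, which fails in
`PSp_{2m}(q)`, `q` odd.
-/

namespace Cfsg.Agent.Helper8.BCIso

open Cfsg.Agent.Helper8.AutSLn (ZZ mem_ZZ ZZ_smul)

/-- two Sylow `p`-subgroups whose centres do not commute, together with a nontrivial element `y`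
of the second centre such that the first centre commutes with its conjugate by `y`. -/
def HeisProp (p : ℕ) (G : Type*) [Group G] : Prop :=
  ∃ S S' : Sylow p G, ∃ y ∈ ZZ (S' : Subgroup G), y ≠ 1 ∧
    (¬ ∀ x ∈ ZZ (S : Subgroup G), ∀ y' ∈ ZZ (S' : Subgroup G), x * y' = y' * x) ∧
    ∀ x ∈ ZZ (S : Subgroup G), ∀ x' ∈ ZZ (S : Subgroup G),
      x * (y * x' * y⁻¹) = (y * x' * y⁻¹) * x

theorem mem_ZZ_map {G H : Type*} [Group G] [Group H] (e : G ≃* H) (P : Subgroup G) (x : G) :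
    e x ∈ ZZ (P.map e.toMonoidHom) ↔ x ∈ ZZ P := by
  rw [mem_ZZ, mem_ZZ]
  constructor
  · rintro ⟨⟨x', hx', hxx'⟩, h2⟩
    have hx : x' = x := e.injective hxx'
    subst hx
    refine ⟨hx', fun h hh => ?_⟩
    have := h2 (e h) ⟨h, hh, rfl⟩
    apply e.injective
    rw [map_mul, map_mul, this]
  · rintro ⟨h1, h2⟩
    refine ⟨⟨x, h1, rfl⟩, ?_⟩
    rintro _ ⟨h, hh, rfl⟩
    show e h * e x = e x * e h
    rw [← map_mul, ← map_mul, h2 h hh]

theorem HeisProp.of_equiv {p : ℕ} [Fact p.Prime] {G H : Type*} [Group G] [Group H] [Finite G]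
    (e : G ≃* H)
    (h : HeisProp p G) : HeisProp p H := by
  obtain ⟨S, S', y, hy, hy1, hnc, hc⟩ := h
  have hsurj : Function.Surjective e.toMonoidHom := e.surjective
  refine ⟨S.mapSurjective hsurj, S'.mapSurjective hsurj, e y, ?_, ?_, ?_, ?_⟩
  · rw [Sylow.coe_mapSurjective]
    exact (mem_ZZ_map e _ y).mpr hy
  · intro h1
    apply hy1
    apply e.injective
    rw [h1, map_one]
  · intro hall
    apply hnc
    intro x hx y' hy'
    apply e.injective
    rw [map_mul, map_mul]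
    apply hall
    · rw [Sylow.coe_mapSurjective]
      exact (mem_ZZ_map e _ x).mpr hx
    · rw [Sylow.coe_mapSurjective]
      exact (mem_ZZ_map e _ y').mpr hy'
  · intro x hx x' hx'
    rw [Sylow.coe_mapSurjective] at hx hx'
    obtain ⟨x, rfl⟩ := e.surjective x
    obtain ⟨x', rfl⟩ := e.surjective x'
    rw [mem_ZZ_map] at hx hx'
    have := hc x hx x' hx'
    have h2 := congrArg e this
    simp only [map_mul, map_inv] at h2
    exact h2

section Sp

open Matrix Cfsg Cfsg.Agent.Helper7.Symp Cfsg.Agent.Helper8.SpRoot Cfsg.Agent.Helper8.AutSp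
open scoped Pointwise

variable {F : Type*} [Field F] {m : ℕ}

/-- **the invariant fails in `PSp_{2m}(q)`, `q` odd.** -/
theorem not_heisProp_PSp [Fintype F] (p : ℕ) [Fact p.Prime] [CharP F p] (h2 : (2 : F) ≠ 0)
    (hm : 2 ≤ m) : ¬ HeisProp p (PSp m F) := by
  rintro ⟨S, S', y, hy, hy1, hnc, hc⟩
  obtain ⟨v, hv0, hv⟩ := isRootU_ZZ_sylow p h2 hm S
  obtain ⟨w, hw0, hw⟩ := isRootU_ZZ_sylow p h2 hm S'
  rw [hv] at hc hnc
  rw [hw] at hy hnc
  have hm1 : 1 ≤ m := by omega
  have hB : sympForm m F v w ≠ 0 := fun h0 => hnc ((comm_iff p hm1 hv0).mpr h0)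
  obtain ⟨s, rfl⟩ := mem_Xb_iff.mp hy
  have hs : s ≠ 0 := by
    rintro rfl
    apply hy1
    rw [T_zero, map_one]
  have hcomm : ∀ x ∈ Xb v, ∀ z ∈ Xb (mt (T w s) *ᵥ v), x * z = z * x := by
    intro x hx z hz
    rw [← conj_smul_Xb, Subgroup.mem_pointwise_smul_iff_inv_smul_mem] at hz
    have h3 := hc x hx _ hz
    have h4 : pr (T w s) * ((MulAut.conj (pr (T w s)))⁻¹ • z) * (pr (T w s))⁻¹ = z := by
      rw [← MulAut.conj_apply]
      exact smul_inv_smul (MulAut.conj (pr (T w s))) z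
    rw [h4] at h3
    exact h3
  have h5 := (comm_iff p hm1 hv0).mp hcomm
  rw [T_mulVec, sympForm_add_right, sympForm_smul_right, sympForm_self, zero_add] at h5
  rcases mul_eq_zero.mp h5 with h6 | h6
  · rcases mul_eq_zero.mp h6 with h7 | h7
    · exact hs h7
    · exact hB h7
  · exact hB h6

end Sp

end Cfsg.Agent.Helper8.BCIso
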