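import Mathlib
import Cfsg.Agent.Helper8.BCIsoA
import Cfsg.Agent.Helper8.AutOh

set_option autoImplicit false
set_option linter.unusedSectionVars false

/-!
# `PSp_{2m}(q)` against `PΩ_{2m+1}(q)`, part B (helper8)

The invariant `HeisProp` holds in the projective Siegel group of a nondegenerate quadratic form
with three hyperbolic pairs.
-/

namespace Cfsg.Agent.Helper8.BCIso

open Module Cfsg.Agent.Helper8.QuadForm Cfsg.Agent.Helper8.AutO
open Cfsg.Agent.Helper8.AutSLn (ZZ mem_ZZ ZZ_smul)
open scoped Pointwise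

variable {F : Type*} [Field F] {V : Type*} [AddCommGroup V] [Module F V] {Q : QuadraticForm F V}

/-- **the invariant holds in the projective Siegel group of a form with three hyperbolic
pairs.** -/
theorem heisProp_PG [Fintype F] [FiniteDimensional F V] (hQ : Nondeg Q) (h5 : 5 ≤ finrank F V)
    (p : ℕ) [Fact p.Prime] [CharP F p] {k : ℕ} {e f : Fin k → V} (hyp : IsHyp Q e f)
    {i j l : Fin k} (hij : i ≠ j) (hil : i ≠ l) (hjl : j ≠ l) : HeisProp p (PG Q) := by
  obtain ⟨hq, hef, hee⟩ := hyp
  have hfe : ∀ i j, QuadraticMap.polar Q (f i) (e j) = if j = i then 1 else 0 := by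
    intro i j
    rw [QuadraticMap.polar_comm, hef]
  -- the totally singular lines
  have hab : IsTS Q (e i) (e j) := by
    refine ⟨(hq i).1, (hq j).1, (hee i j).1, ?_⟩
    rw [LinearIndependent.pair_iff]
    intro s t hst
    have h1 := congrArg (fun x => QuadraticMap.polar Q x (f i)) hst
    have h2 := congrArg (fun x => QuadraticMap.polar Q x (f j)) hst
    simp only [QuadraticMap.polar_add_left, QuadraticMap.polar_smul_left, hef,
      QuadraticMap.polar_zero_left, smul_eq_mul, if_true, if_neg hij, if_neg hij.symm] at h1 h2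
    constructor
    · simpa using h1
    · simpa using h2
  have hcd : IsTS Q (e l) (f j) := by
    refine ⟨(hq l).1, (hq j).2, ?_, ?_⟩
    · rw [hef, if_neg hjl.symm]
    · rw [LinearIndependent.pair_iff]
      intro s t hst
      have h1 := congrArg (fun x => QuadraticMap.polar Q x (f l)) hst
      have h2 := congrArg (fun x => QuadraticMap.polar Q x (e j)) hst
      simp only [QuadraticMap.polar_add_left, QuadraticMap.polar_smul_left, hef, hfe, (hee _ _).1,
        (hee _ _).2, QuadraticMap.polar_zero_left, smul_eq_mul, if_true] at h1 h2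
      constructor
      · simpa using h1
      · simpa using h2
  have hnm : ¬ Meet (F := F) (e i) (e j) (e l) (f j) := by
    rintro ⟨x, hx0, hx1, hx2⟩
    obtain ⟨s, t, rfl⟩ := Submodule.mem_span_pair.mp hx1
    obtain ⟨s', t', hx⟩ := Submodule.mem_span_pair.mp hx2
    have h1 := congrArg (fun x => QuadraticMap.polar Q x (f i)) hx
    have h2 := congrArg (fun x => QuadraticMap.polar Q x (f j)) hx
    simp only [QuadraticMap.polar_add_left, QuadraticMap.polar_smul_left, hef, (hee _ _).2,
      smul_eq_mul, if_true, if_neg hij, if_neg hij.symm, if_neg hil.symm, if_neg hjl.symm] at h1 h2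
    apply hx0
    have hs : s = 0 := by simpa using h1.symm
    have ht : t = 0 := by simpa using h2.symm
    rw [hs, ht, zero_smul, zero_smul, add_zero]
  have hac : IsTS Q (e i) (e j + e l) := by
    refine ⟨(hq i).1, ?_, ?_, ?_⟩
    · rw [QuadraticMap.map_add Q, (hq j).1, (hq l).1, (hee j l).1]
      simp
    · rw [QuadraticMap.polar_add_right, (hee _ _).1, (hee _ _).1, add_zero]
    · rw [LinearIndependent.pair_iff]
      intro s t hst
      have h1 := congrArg (fun x => QuadraticMap.polar Q x (f i)) hst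
      have h2 := congrArg (fun x => QuadraticMap.polar Q x (f j)) hst
      simp only [QuadraticMap.polar_add_left, QuadraticMap.polar_smul_left, hef,
        QuadraticMap.polar_zero_left, smul_eq_mul, if_true, if_neg hij, if_neg hij.symm,
        if_neg hil.symm, if_neg hjl.symm] at h1 h2
      constructor
      · simpa using h1
      · simpa using h2
  have hne : e j + e l ∉ Submodule.span F {e i, e j} := by
    intro hmem
    obtain ⟨s, t, hx⟩ := Submodule.mem_span_pair.mp hmem
    have h1 := congrArg (fun x => QuadraticMap.polar Q x (f l)) hx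
    simp only [QuadraticMap.polar_add_left, QuadraticMap.polar_smul_left, hef,
      smul_eq_mul, if_true, if_neg hil, if_neg hjl] at h1
    simp at h1
  -- the Sylow subgroups
  obtain ⟨P, hP⟩ := exists_sylow_ZZ hQ h5 p hab
  obtain ⟨P', hP'⟩ := exists_sylow_ZZ hQ h5 p hcd
  have hZ := AutO.ZZ_map_pr hQ h5 p P hP
  have hZ' := AutO.ZZ_map_pr hQ h5 p P' hP'
  refine ⟨P.mapSurjective pr_surjective, P'.mapSurjective pr_surjective,
    pr (sgT Q (e l) (f j)), ?_, ?_, ?_, ?_⟩
  · rw [Sylow.coe_mapSurjective, hZ']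
    exact (AutO.mem_Xb_iff hcd _).mpr ⟨1, by rw [one_smul]⟩
  · exact ((isRootElt_iff hQ h5 p _).mpr ⟨_, _, hcd, rfl⟩).1
  · rw [Sylow.coe_mapSurjective, Sylow.coe_mapSurjective, hZ, hZ']
    intro hall
    have h1 := hall _ ((AutO.mem_Xb_iff hab _).mpr ⟨1, by rw [one_smul]⟩) _
      ((AutO.mem_Xb_iff hcd _).mpr ⟨1, by rw [one_smul]⟩)
    have h2 := comm_of_pr_comm hQ h5 p hab.ab hcd.ab h1
    have h3 := perp_of_comm hQ hab hcd hnm h2
    have h4 := h3.2.2.2
    rw [hef, if_pos rfl] at h4
    exact one_ne_zero h4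
  · rw [Sylow.coe_mapSurjective, hZ]
    intro x hx x' hx'
    have h1 : pr (sgT Q (e l) (f j)) * x' * (pr (sgT Q (e l) (f j)))⁻¹
        ∈ Xb Q (e i) (e j + e l) := by
      have h2 : MulAut.conj (pr (sgT Q (e l) (f j))) • x' ∈
          MulAut.conj (pr (sgT Q (e l) (f j))) • Xb Q (e i) (e j) :=
        Subgroup.smul_mem_pointwise_smul _ _ _ hx'
      rw [AutO.conj_smul_Xb hab, ap_sgT_ts hcd, ap_sgT_ts hcd, wedge_apply, wedge_apply, hef, hef,
        (hee _ _).1, (hee _ _).1, if_neg hij, if_pos rfl] at h2
      simpa [MulAut.smul_def, MulAut.conj_apply] using h2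
    exact (B1_of_geo hQ h5 p hab hac (by
      rw [QuadraticMap.polar_add_right, (hee _ _).1, (hee _ _).1, add_zero]) hne).2.1 x hx _ h1

end Cfsg.Agent.Helper8.BCIso
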