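import Mathlib
import Cfsg.Agent.Helper4.CyclicCentB
import Cfsg.Agent.Helper2.QuatSylowD
import Cfsg.Agent.Lead.SylowLemmas

set_option autoImplicit false

/-!
Minimal supplements of a normal subgroup with abelian quotient: they are nilpotent, and
(under a cyclicity hypothesis) abelian Hall subgroups of a prescribed order.
-/

namespace Cfsg.Agent.Helper8.BStar

open Subgroup
open scoped commutatorElement

section Abstract

variable {H : Type*} [Group H]

/-- a subgroup containing the commutator subgroup is normal -/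
theorem normal_of_commutator_le (N : Subgroup H) (h : commutator H ≤ N) : N.Normal := by
  constructor
  intro n hn g
  have h1 : g * n * g⁻¹ = ⁅g, n⁆ * n := by simp [commutatorElement_def]
  rw [h1]
  refine N.mul_mem (h ?_) hn
  rw [_root_.commutator_def]
  exact Subgroup.commutator_mem_commutator (Subgroup.mem_top g) (Subgroup.mem_top n)

variable [Finite H]

/-- In a group `H` with a normal subgroup `K` such that `H/K` is abelian and no proper subgroup
supplements `K`, every Sylow subgroup is normal. -/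
theorem sylow_normal_of_min (K : Subgroup H) [K.Normal] (hab : commutator H ≤ K)
    (hmin : ∀ X : Subgroup H, X ⊔ K = ⊤ → X = ⊤) {p : ℕ} [Fact p.Prime] (S : Sylow p H) :
    (S : Subgroup H).Normal := by
  set N : Subgroup H := (S : Subgroup H) ⊔ K with hN
  have hNn : N.Normal := normal_of_commutator_le N (hab.trans le_sup_right)
  have hSN : (S : Subgroup H) ≤ N := le_sup_left
  have hfr := Sylow.normalizer_sup_eq_top' S hSN
  have h1 : Subgroup.normalizer ((S : Subgroup H) : Set H) ⊔ K = ⊤ := by
    rw [eq_top_iff, ← hfr, hN]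
    refine sup_le le_sup_left (sup_le ?_ le_sup_right)
    exact Subgroup.le_normalizer.trans le_sup_left
  have h2 := hmin _ h1
  exact Subgroup.normalizer_eq_top_iff.1 h2

/-- In the same situation, a prime not dividing `|H/K|` does not divide `|H|`. -/
theorem not_dvd_card_of_min (K : Subgroup H) [K.Normal] (hab : commutator H ≤ K)
    (hmin : ∀ X : Subgroup H, X ⊔ K = ⊤ → X = ⊤) {p : ℕ} [hp : Fact p.Prime]
    (hpk : ¬ p ∣ K.index) : ¬ p ∣ Nat.card H := by
  obtain ⟨S⟩ : Nonempty (Sylow p H) := inferInstance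
  have hSn : (S : Subgroup H).Normal := sylow_normal_of_min K hab hmin S
  -- `S ≤ K`
  have hSK : (S : Subgroup H) ≤ K := by
    rw [← Subgroup.relIndex_eq_one]
    have h1 : K.relIndex (S : Subgroup H) ∣ K.index := Subgroup.relIndex_dvd_index_of_normal K _
    have h2 : K.relIndex (S : Subgroup H) ∣ Nat.card (S : Subgroup H) := Subgroup.relIndex_dvd_card _ _
    obtain ⟨n, hn⟩ := IsPGroup.iff_card.1 S.isPGroup'
    rw [hn] at h2
    obtain ⟨m, -, hm⟩ := (Nat.dvd_prime_pow hp.out).1 h2
    rcases Nat.eq_zero_or_pos m with h0 | h0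
    · rw [hm, h0, pow_zero]
    · exfalso
      apply hpk
      refine dvd_trans ?_ h1
      rw [hm]
      exact dvd_pow_self p h0.ne'
  -- complement
  obtain ⟨X, hX⟩ := Subgroup.exists_right_complement'_of_coprime (N := (S : Subgroup H))
    S.card_coprime_index
  have h3 : X ⊔ K = ⊤ := by
    rw [eq_top_iff, ← hX.sup_eq_top]
    exact sup_le (hSK.trans le_sup_right) le_sup_left
  have h4 := hmin X h3
  have h5 := hX.card_mul_card
  rw [h4, Subgroup.card_top] at h5
  have h6 : Nat.card (S : Subgroup H) = 1 := by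
    have : 0 < Nat.card H := Nat.card_pos
    exact Nat.eq_of_mul_eq_mul_right this (by rw [h5, one_mul])
  intro hdvd
  have h7 := S.card_eq_multiplicity
  rw [h6] at h7
  have h8 : (Nat.card H).factorization p = 0 := by
    by_contra h0
    have : 1 < p ^ (Nat.card H).factorization p := Nat.one_lt_pow h0 hp.out.one_lt
    omega
  have h9 := (Nat.factorization_eq_zero_iff _ _).1 h8
  rcases h9 with h9 | h9 | h9
  · exact h9 hp.out
  · exact h9 hdvd
  · exact Nat.card_pos.ne' h9

end Abstract

section Lift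

variable {G : Type*} [Group G] [Finite G]

/-- a minimal supplement of `M` in `T` -/
theorem exists_min_supp (M T : Subgroup G) (hMT : M ≤ T) :
    ∃ A₀ : Subgroup G, A₀ ≤ T ∧ A₀ ⊔ M = T ∧
      ∀ X : Subgroup G, X ≤ A₀ → X ⊔ M = T → X = A₀ := by
  let 𝒮 : Set (Subgroup G) := {X | X ≤ T ∧ X ⊔ M = T}
  have hT : T ∈ 𝒮 := ⟨le_rfl, sup_eq_left.2 hMT⟩
  obtain ⟨A₀, -, hmin⟩ := (Set.toFinite 𝒮).exists_le_minimal hT
  refine ⟨A₀, hmin.prop.1, hmin.prop.2, ?_⟩
  intro X hX hXM
  have hX𝒮 : X ∈ 𝒮 := ⟨hX.trans hmin.prop.1, hXM⟩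
  exact le_antisymm hX (hmin.2 hX𝒮 hX)

omit [Finite G] in
theorem card_eq_card_mul_relIndex {M T : Subgroup G} (hMT : M ≤ T) :
    Nat.card T = Nat.card M * M.relIndex T := by
  have := Subgroup.relIndex_mul_relIndex ⊥ M T bot_le hMT
  rw [Subgroup.relIndex_bot_left, Subgroup.relIndex_bot_left] at this
  exact this.symm

/-- **Lifting lemma.** If `T/M` is abelian and, for the primes dividing both `|M|` and `|T : M|`,
the `p`-subgroups of `T` are cyclic, then `M` has an abelian supplement `A₀` in `T` whose order is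
the `π(T/M)`-part of `|T|`. -/
theorem exists_abelian_supp (M : Subgroup G) [M.Normal] (T : Subgroup G) (hMT : M ≤ T)
    (hab : ∀ a ∈ T, ∀ b ∈ T, ⁅a, b⁆ ∈ M)
    (hcyc : ∀ p : ℕ, p.Prime → p ∣ Nat.card M → p ∣ M.relIndex T →
      ∀ C : Subgroup G, C ≤ T → IsPGroup p C → IsCyclic C) :
    ∃ A₀ : Subgroup G, A₀ ≤ T ∧ IsMulCommutative A₀ ∧ A₀ ⊔ M = T ∧
      ∀ p : ℕ, p.Prime → (Nat.card A₀).factorization p =
        if p ∣ M.relIndex T then (Nat.card T).factorization p else 0 := by
  obtain ⟨A₀, hA₀T, hsup, hmin⟩ := exists_min_supp M T hMT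
  set K : Subgroup A₀ := M.subgroupOf A₀ with hK
  have hKn : K.Normal := by rw [hK]; infer_instance
  have hab' : commutator A₀ ≤ K := by
    rw [_root_.commutator_def, Subgroup.commutator_le]
    intro a _ b _
    rw [hK, Subgroup.mem_subgroupOf]
    exact hab a (hA₀T a.2) b (hA₀T b.2)
  have hmin' : ∀ X : Subgroup A₀, X ⊔ K = ⊤ → X = ⊤ := by
    intro X hX
    have h1 : (X ⊔ K).map A₀.subtype = A₀ := by
      rw [hX, ← MonoidHom.range_eq_map, Subgroup.range_subtype]
    rw [Subgroup.map_sup, hK, Subgroup.subgroupOf_map_subtype] at h1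
    have h2 : X.map A₀.subtype ⊔ M = T := by
      apply le_antisymm
      · refine sup_le ?_ hMT
        exact (Subgroup.map_subtype_le X).trans hA₀T
      · rw [← hsup]
        refine sup_le ?_ le_sup_right
        exact h1.ge.trans (sup_le le_sup_left (inf_le_left.trans le_sup_right))
    have h3 := hmin _ (Subgroup.map_subtype_le X) h2
    apply Subgroup.map_injective A₀.subtype_injective
    rw [h3, ← MonoidHom.range_eq_map, Subgroup.range_subtype]
  have hKidx : K.index = M.relIndex T := by
    have h1 : M.relIndex (A₀ ⊔ M) = M.relIndex A₀ := Subgroup.relIndex_sup_right _ _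
    rw [hsup] at h1
    rw [h1]
    rfl
  have hcardT : Nat.card T = Nat.card M * M.relIndex T := card_eq_card_mul_relIndex hMT
  have hcardA : Nat.card A₀ = Nat.card ↥(M ⊓ A₀) * M.relIndex T := by
    have h1 := card_eq_card_mul_relIndex (inf_le_right : M ⊓ A₀ ≤ A₀)
    rw [Subgroup.inf_relIndex_right] at h1
    rw [h1, ← hKidx]
    rfl
  have hk0 : M.relIndex T ≠ 0 := by
    intro h0
    rw [h0, mul_zero] at hcardT
    exact Nat.card_pos.ne' hcardT
  have hinfdvd : Nat.card ↥(M ⊓ A₀) ∣ Nat.card M := Subgroup.card_dvd_of_le inf_le_left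
  have hcardK : Nat.card K = Nat.card ↥(M ⊓ A₀) := by
    rw [hK, ← Subgroup.inf_subgroupOf_right,
      Cfsg.Agent.Lead.card_subgroupOf_of_le (inf_le_right : M ⊓ A₀ ≤ A₀)]
  -- the key local facts about a Sylow subgroup
  have key : ∀ (p : ℕ) [Fact p.Prime] (S : Sylow p A₀), p ∣ M.relIndex T → p ∣ Nat.card M →
      IsCyclic ((S : Subgroup A₀).map A₀.subtype) ∧
        (Nat.card M).factorization p ≤ (Nat.card ↥(M ⊓ A₀)).factorization p := by
    intro p hp S hpk hpM
    set SG : Subgroup G := (S : Subgroup A₀).map A₀.subtype with hSG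
    have hSGp : IsPGroup p SG := S.isPGroup'.map _
    have hSGA : SG ≤ A₀ := Subgroup.map_subtype_le _
    have hSGcard : Nat.card SG = p ^ (Nat.card A₀).factorization p := by
      rw [hSG, Subgroup.card_map_of_injective A₀.subtype_injective]
      exact S.card_eq_multiplicity
    have hcycS : IsCyclic SG := hcyc p hp.out hpM hpk SG (hSGA.trans hA₀T) hSGp
    refine ⟨hcycS, ?_⟩
    obtain ⟨C, hSC, hCT, hCp, hCcard⟩ :=
      Cfsg.Agent.Lead.exists_le_card_eq_ppart (H := T) hSGp (hSGA.trans hA₀T)
    have hCcyc : IsCyclic C := hcyc p hp.out hpM hpk C hCT hCp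
    have hnorm : T ≤ Subgroup.normalizer (M : Set G) := by
      rw [Subgroup.normalizer_eq_top_iff.2 inferInstance]
      exact le_top
    have hCM : Nat.card ↥(C ⊓ M) = p ^ (Nat.card M).factorization p :=
      Cfsg.Agent.Lead.card_inf_eq_ppart_of_normal hCT hMT hnorm hCp hCcard
    rcases le_total ((Nat.card M).factorization p) ((Nat.card A₀).factorization p) with hle | hle
    · -- `C ⊓ M ≤ SG`
      have hd : Nat.card ↥(C ⊓ M) ∣ Nat.card SG := by
        rw [hCM, hSGcard]; exact pow_dvd_pow p hle
      have h1 : C ⊓ M ≤ SG :=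
        Cfsg.Agent.Helper2.QuatSylowD.le_of_card_dvd_of_cyclic C hCcyc _ _ inf_le_left hSC hd
      have h2 : C ⊓ M ≤ M ⊓ A₀ := le_inf inf_le_right (h1.trans hSGA)
      have h3 : p ^ (Nat.card M).factorization p ∣ Nat.card ↥(M ⊓ A₀) := by
        rw [← hCM]; exact Subgroup.card_dvd_of_le h2
      exact (hp.out.pow_dvd_iff_le_factorization Nat.card_pos.ne').1 h3
    · -- `SG ≤ C ⊓ M`, impossible
      exfalso
      have hd : Nat.card SG ∣ Nat.card ↥(C ⊓ M) := by
        rw [hCM, hSGcard]; exact pow_dvd_pow p hle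
      have h1 : SG ≤ C ⊓ M :=
        Cfsg.Agent.Helper2.QuatSylowD.le_of_card_dvd_of_cyclic C hCcyc _ _ hSC inf_le_left hd
      have h2 : (S : Subgroup A₀) ≤ K := by
        intro x hx
        rw [hK, Subgroup.mem_subgroupOf]
        exact (h1 ⟨x, hx, rfl⟩).2
      have h3 : K.index ∣ (S : Subgroup A₀).index := Subgroup.index_dvd_of_le h2
      rw [hKidx] at h3
      exact S.not_dvd_index (hpk.trans h3)
  have hsyl : ∀ (p : ℕ) [Fact p.Prime] (S : Sylow p A₀), (S : Subgroup A₀).Normal :=
    fun p _ S => sylow_normal_of_min K hab' hmin' S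
  have hnil : Group.IsNilpotent A₀ :=
    ((Group.isNilpotent_of_finite_tfae (G := A₀)).out 0 3).2 (fun p hp S => by have := hp; exact hsyl p S)
  have hScomm : ∀ (p : ℕ) [Fact p.Prime] (S : Sylow p A₀),
      IsMulCommutative (S : Subgroup A₀) := by
    intro p hp S
    by_cases hpk : p ∣ M.relIndex T
    · by_cases hpM : p ∣ Nat.card M
      · have hc := (key p S hpk hpM).1
        have hc' : IsCyclic (S : Subgroup A₀) :=
          (Subgroup.equivMapOfInjective (S : Subgroup A₀) A₀.subtype
            A₀.subtype_injective).isCyclic.2 hc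
        rw [isMulCommutative_iff]
        intro a b
        obtain ⟨g, hg⟩ := hc'.exists_generator
        obtain ⟨i, rfl⟩ := Subgroup.mem_zpowers_iff.1 (hg a)
        obtain ⟨j, rfl⟩ := Subgroup.mem_zpowers_iff.1 (hg b)
        rw [← zpow_add, ← zpow_add, add_comm]
      · rw [isMulCommutative_iff]
        intro a b
        have h1 : ⁅(a : A₀), (b : A₀)⁆ ∈ (S : Subgroup A₀) ⊓ K := by
          refine ⟨?_, ?_⟩
          · rw [commutatorElement_def]
            exact (S : Subgroup A₀).mul_mem ((S : Subgroup A₀).mul_mem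
              ((S : Subgroup A₀).mul_mem a.2 b.2) ((S : Subgroup A₀).inv_mem a.2))
              ((S : Subgroup A₀).inv_mem b.2)
          · apply hab'
            rw [_root_.commutator_def]
            exact Subgroup.commutator_mem_commutator (Subgroup.mem_top _) (Subgroup.mem_top _)
        have h2 : (S : Subgroup A₀) ⊓ K = ⊥ := by
          apply Subgroup.eq_bot_of_card_eq
          have h3 : Nat.card ↥((S : Subgroup A₀) ⊓ K) ∣ Nat.card (S : Subgroup A₀) :=
            Subgroup.card_dvd_of_le inf_le_left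
          have h4 : Nat.card ↥((S : Subgroup A₀) ⊓ K) ∣ Nat.card K :=
            Subgroup.card_dvd_of_le inf_le_right
          obtain ⟨n, hn⟩ := IsPGroup.iff_card.1 S.isPGroup'
          rw [hn] at h3
          obtain ⟨m, -, hm⟩ := (Nat.dvd_prime_pow hp.out).1 h3
          rcases Nat.eq_zero_or_pos m with h0 | h0
          · rw [hm, h0, pow_zero]
          · exfalso
            apply hpM
            refine dvd_trans ?_ (h4.trans (hcardK ▸ hinfdvd))
            rw [hm]; exact dvd_pow_self p h0.ne'
        rw [h2, Subgroup.mem_bot] at h1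
        have h5 := commutatorElement_eq_one_iff_mul_comm.1 h1
        exact Subtype.ext h5
    · have hpk' : ¬ p ∣ K.index := by rw [hKidx]; exact hpk
      have h1 := not_dvd_card_of_min K hab' hmin' hpk'
      have h2 := S.card_eq_multiplicity
      rw [Nat.factorization_eq_zero_of_not_dvd h1, pow_zero] at h2
      have : Subsingleton (S : Subgroup A₀) := (Nat.card_eq_one_iff_unique.1 h2).1
      rw [isMulCommutative_iff]
      intro a b
      exact Subsingleton.elim _ _
  refine ⟨A₀, hA₀T, ?_, hsup, ?_⟩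
  · rw [isMulCommutative_iff]
    intro a b
    exact Cfsg.Agent.Helper4.mul_comm_of_isNilpotent_of_sylow_comm hnil hScomm a b
  · intro p hp
    have hpF : Fact p.Prime := ⟨hp⟩
    by_cases hpk : p ∣ M.relIndex T
    · rw [if_pos hpk, hcardA, hcardT, Nat.factorization_mul Nat.card_pos.ne' hk0,
        Nat.factorization_mul Nat.card_pos.ne' hk0]
      simp only [Finsupp.coe_add, Pi.add_apply]
      congr 1
      apply le_antisymm
      · exact (Nat.factorization_le_iff_dvd Nat.card_pos.ne' Nat.card_pos.ne').2 hinfdvd p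
      · by_cases hpM : p ∣ Nat.card M
        · obtain ⟨S⟩ : Nonempty (Sylow p A₀) := inferInstance
          exact (key p S hpk hpM).2
        · rw [Nat.factorization_eq_zero_of_not_dvd hpM]
          exact Nat.zero_le _
    · rw [if_neg hpk]
      have hpk' : ¬ p ∣ K.index := by rw [hKidx]; exact hpk
      exact Nat.factorization_eq_zero_of_not_dvd (not_dvd_card_of_min K hab' hmin' hpk')

end Lift

end Cfsg.Agent.Helper8.BStar
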