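import Mathlib
import Cfsg.Agent.S0016
import Cfsg.Agent.Helper8.BStarA

set_option autoImplicit false

/-!
Groups in which any two abelian subgroups of the same order are conjugate (`BS G`):
elements of prime order, cyclic Sylow subgroups, and the quotient criterion.
-/

namespace Cfsg.Agent.Helper8.BStar

open Subgroup
open scoped commutatorElement

/-- any two abelian subgroups of the same order are conjugate -/
def BS (G : Type*) [Group G] : Prop :=
  ∀ A B : Subgroup G, IsMulCommutative ↥A → IsMulCommutative ↥B → Nat.card ↥A = Nat.card ↥B →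
    ∃ g : G, B = A.map (MulAut.conj g).toMonoidHom

variable {G : Type*} [Group G]

theorem isMulCommutative_zpowers (x : G) : IsMulCommutative (Subgroup.zpowers x) := by
  rw [isMulCommutative_iff]
  rintro ⟨a, ha⟩ ⟨b, hb⟩
  obtain ⟨i, rfl⟩ := Subgroup.mem_zpowers_iff.1 ha
  obtain ⟨j, rfl⟩ := Subgroup.mem_zpowers_iff.1 hb
  apply Subtype.ext
  show x ^ i * x ^ j = x ^ j * x ^ i
  rw [← zpow_add, ← zpow_add, add_comm]

theorem isMulCommutative_of_isCyclic {K : Type*} [Group K] (h : IsCyclic K) : IsMulCommutative K := by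
  rw [isMulCommutative_iff]
  intro a b
  obtain ⟨g, hg⟩ := h.exists_generator
  obtain ⟨i, rfl⟩ := Subgroup.mem_zpowers_iff.1 (hg a)
  obtain ⟨j, rfl⟩ := Subgroup.mem_zpowers_iff.1 (hg b)
  rw [← zpow_add, ← zpow_add, add_comm]

theorem map_conj_normal (M : Subgroup G) [hM : M.Normal] (g : G) :
    M.map (MulAut.conj g).toMonoidHom = M := by
  ext x
  constructor
  · rintro ⟨y, hy, rfl⟩
    exact hM.conj_mem y hy g
  · intro hx
    refine ⟨g⁻¹ * x * g, ?_, ?_⟩
    · have := hM.conj_mem x hx g⁻¹
      rwa [inv_inv] at this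
    · simp [MulAut.conj_apply, mul_assoc]

variable [Finite G]

/-- in a `BS`-group, a normal subgroup of order divisible by `p` contains all elements of order `p` -/
theorem mem_of_orderOf_eq_prime (hB : BS G) (M : Subgroup G) [hM : M.Normal] {p : ℕ} (hp : p.Prime)
    (hpM : p ∣ Nat.card M) {x : G} (hx : orderOf x = p) : x ∈ M := by
  have : Fact p.Prime := ⟨hp⟩
  obtain ⟨m, hm⟩ := exists_prime_orderOf_dvd_card' p hpM
  obtain ⟨g, hg⟩ := hB (Subgroup.zpowers (m : G)) (Subgroup.zpowers x)
    (isMulCommutative_zpowers _) (isMulCommutative_zpowers _)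
    (by rw [Nat.card_zpowers, Nat.card_zpowers, Subgroup.orderOf_coe, hm, hx])
  have h1 : x ∈ Subgroup.zpowers x := Subgroup.mem_zpowers x
  rw [hg] at h1
  obtain ⟨y, hy, rfl⟩ := h1
  have hyM : y ∈ M := (Subgroup.zpowers_le.2 m.2) hy
  exact hM.conj_mem y hyM g

/-- if a `BS`-group has an element of order `p²` (`p` odd) then its Sylow `p`-subgroups are cyclic -/
theorem sylow_isCyclic_of_exists_sq (hB : BS G) {p : ℕ} [hp : Fact p.Prime] (hp2 : p ≠ 2)
    (h : ∃ x : G, orderOf x = p ^ 2) (P : Sylow p G) : IsCyclic P := by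
  obtain ⟨x, hx⟩ := h
  have key : ∀ H K : Subgroup P, Nat.card H = p → Nat.card K = p → H = K := by
    intro H K hH hK
    by_contra hne
    have hnt : Nontrivial P := by
      by_contra hnt
      rw [not_nontrivial_iff_subsingleton] at hnt
      have : Nat.card H = 1 := Nat.card_unique
      rw [hH] at this
      exact hp.out.one_lt.ne' this
    have hcn : Nontrivial (Subgroup.center P) := P.isPGroup'.center_nontrivial
    have hcp : IsPGroup p (Subgroup.center P) := P.isPGroup'.to_subgroup _
    obtain ⟨k, hk⟩ := IsPGroup.iff_card.1 hcp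
    have hk0 : k ≠ 0 := by
      rintro rfl
      rw [pow_zero] at hk
      have := (Finite.one_lt_card_iff_nontrivial (α := Subgroup.center P)).2 hcn
      omega
    have hdvd : p ∣ Nat.card (Subgroup.center P) := by
      rw [hk]; exact dvd_pow_self p hk0
    obtain ⟨z, hz⟩ := exists_prime_orderOf_dvd_card' p hdvd
    set Z : Subgroup P := Subgroup.zpowers (z : P) with hZ
    have hZcard : Nat.card Z = p := by
      rw [hZ, Nat.card_zpowers, Subgroup.orderOf_coe, hz]
    have hZc : Z ≤ Subgroup.center P := Subgroup.zpowers_le.2 z.2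
    have hZn : Z.Normal := by
      constructor
      intro n hn g
      have : g * n * g⁻¹ = n := by
        have h1 := Subgroup.mem_center_iff.1 (hZc hn) g
        rw [h1, mul_inv_cancel_right]
      rw [this]; exact hn
    -- a second subgroup of order `p`
    obtain ⟨Y, hYcard, hYZ⟩ : ∃ Y : Subgroup P, Nat.card Y = p ∧ Y ≠ Z := by
      by_cases h1 : H = Z
      · exact ⟨K, hK, fun h2 => hne (h1.trans h2.symm)⟩
      · exact ⟨H, hH, h1⟩
    have hinf : Z ⊓ Y = ⊥ := by
      apply Subgroup.eq_bot_of_card_eq
      have h1 : Nat.card ↥(Z ⊓ Y) ∣ p := by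
        have := Subgroup.card_dvd_of_le (inf_le_left : Z ⊓ Y ≤ Z)
        rwa [hZcard] at this
      rcases (Nat.dvd_prime hp.out).1 h1 with h2 | h2
      · exact h2
      · exfalso
        have h3 : Z ⊓ Y = Z := Subgroup.eq_of_le_of_card_ge inf_le_left (by rw [h2, hZcard])
        have h4 : Z ⊓ Y = Y := Subgroup.eq_of_le_of_card_ge inf_le_right (by rw [h2, hYcard])
        exact hYZ (h4.symm.trans h3)
    set E : Subgroup P := Y ⊔ Z with hE
    have hEcard : Nat.card E = p ^ 2 := by
      have h1 := card_eq_card_mul_relIndex (le_sup_right : Z ≤ Y ⊔ Z)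
      rw [Subgroup.relIndex_sup_right, ← Subgroup.inf_relIndex_right, hinf,
        Subgroup.relIndex_bot_left, hZcard, hYcard] at h1
      rw [hE, h1, pow_two]
    have hYcyc : IsCyclic Y := isCyclic_of_prime_card hYcard
    have hYcomm := isMulCommutative_of_isCyclic hYcyc
    have hEcomm : IsMulCommutative E := by
      have h1 : E ≤ Subgroup.centralizer (E : Set P) := by
        rw [hE]
        apply sup_le
        · intro y hy
          rw [Subgroup.mem_centralizer_iff]
          intro e he
          have h2 : Y ⊔ Z ≤ Subgroup.centralizer ({y} : Set P) := by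
            apply sup_le
            · intro y' hy'
              rw [Subgroup.mem_centralizer_singleton_iff]
              have := (isMulCommutative_iff.1 hYcomm) ⟨y', hy'⟩ ⟨y, hy⟩
              exact congrArg Subtype.val this
            · intro z' hz'
              rw [Subgroup.mem_centralizer_singleton_iff]
              exact (Subgroup.mem_center_iff.1 (hZc hz') y).symm
          have h3 := h2 he
          rw [Subgroup.mem_centralizer_singleton_iff] at h3
          exact h3
        · exact hZc.trans (Subgroup.center_le_centralizer _)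
      rw [isMulCommutative_iff]
      rintro ⟨a, ha⟩ ⟨b, hb⟩
      apply Subtype.ext
      have := (Subgroup.mem_centralizer_iff.1 (h1 hb)) a ha
      exact this
    -- transport to `G`
    set E' : Subgroup G := E.map (P : Subgroup G).subtype with hE'
    have e1 : E ≃* E' := Subgroup.equivMapOfInjective E _ (P : Subgroup G).subtype_injective
    have hE'comm : IsMulCommutative E' := by
      rw [isMulCommutative_iff]
      intro a b
      have := (isMulCommutative_iff.1 hEcomm) (e1.symm a) (e1.symm b)
      rw [← map_mul, ← map_mul] at this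
      exact e1.symm.injective this
    have hE'card : Nat.card E' = p ^ 2 := by
      rw [← Nat.card_congr e1.toEquiv, hEcard]
    obtain ⟨g, hg⟩ := hB E' (Subgroup.zpowers x) hE'comm (isMulCommutative_zpowers x)
      (by rw [hE'card, Nat.card_zpowers, hx])
    have e2 : E' ≃* (E'.map (MulAut.conj g).toMonoidHom) :=
      Subgroup.equivMapOfInjective E' _ (MulAut.conj g).injective
    have hcyc2 : IsCyclic (E'.map (MulAut.conj g).toMonoidHom) := by
      rw [← hg]; infer_instance
    have hEcyc : IsCyclic E := (e1.trans e2).isCyclic.2 hcyc2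
    have h5 : Z ≤ Y := Cfsg.Agent.Helper2.QuatSylowD.le_of_card_dvd_of_cyclic E hEcyc Z Y
      le_sup_right le_sup_left (by rw [hZcard, hYcard])
    have h6 : Y ≤ Z := Cfsg.Agent.Helper2.QuatSylowD.le_of_card_dvd_of_cyclic E hEcyc Y Z
      le_sup_left le_sup_right (by rw [hZcard, hYcard])
    exact hYZ (le_antisymm h6 h5)
  rcases Cfsg.Agent.S0016.result p P.isPGroup' key with h1 | ⟨h1, -⟩
  · exact h1
  · exact absurd h1 hp2

/-- in a `BS`-group the Sylow `p`-subgroups (`p` odd) are cyclic as soon as `p` divides both the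
order and the index of some normal subgroup -/
theorem sylow_isCyclic (hB : BS G) (M : Subgroup G) [M.Normal] {p : ℕ} [hp : Fact p.Prime]
    (hp2 : p ≠ 2) (hpM : p ∣ Nat.card M) (hpi : p ∣ M.index) (P : Sylow p G) : IsCyclic P := by
  apply sylow_isCyclic_of_exists_sq hB hp2
  -- an element of `P` outside `M`
  have hPM : ¬ (P : Subgroup G) ≤ M := by
    intro hle
    exact P.not_dvd_index (hpi.trans (Subgroup.index_dvd_of_le hle))
  obtain ⟨g, hgP, hgM⟩ := SetLike.not_le_iff_exists.1 hPM
  obtain ⟨k, hk⟩ := (IsPGroup.iff_orderOf.1 P.isPGroup') ⟨g, hgP⟩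
  rw [Subgroup.orderOf_mk] at hk
  have hk2 : 2 ≤ k := by
    by_contra hlt
    push Not at hlt
    interval_cases k
    · rw [pow_zero, orderOf_eq_one_iff] at hk
      exact hgM (hk ▸ M.one_mem)
    · rw [pow_one] at hk
      exact hgM (mem_of_orderOf_eq_prime hB M hp.out hpM hk)
  refine ⟨g ^ p ^ (k - 2), ?_⟩
  rw [orderOf_pow_of_dvd (pow_pos hp.out.pos _).ne' (by rw [hk]; exact pow_dvd_pow p (by omega)),
    hk, Nat.pow_div (by omega) hp.out.pos]
  congr 1
  omega

end Cfsg.Agent.Helper8.BStar
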