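import Mathlib
import Cfsg.Agent.Helper8.BStarB

set_option autoImplicit false

/-!
The quotient criterion: conjugacy of abelian subgroups of `G ⧸ M` from a cyclicity hypothesis.
-/

namespace Cfsg.Agent.Helper8.BStar

open Subgroup
open scoped commutatorElement

variable {G : Type*} [Group G] [Finite G]

omit [Finite G] in
theorem map_conj_map_mk (M : Subgroup G) [M.Normal] (T : Subgroup G) (g : G) :
    (T.map (MulAut.conj g).toMonoidHom).map (QuotientGroup.mk' M) =
      (T.map (QuotientGroup.mk' M)).map (MulAut.conj (QuotientGroup.mk' M g)).toMonoidHom := by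
  rw [Subgroup.map_map, Subgroup.map_map]
  congr 1

/-- the hypotheses of the lifting lemma for the full preimage of an abelian subgroup of `G ⧸ M` -/
theorem exists_abelian_supp_comap (M : Subgroup G) [M.Normal] (A : Subgroup (G ⧸ M))
    (hA : IsMulCommutative A)
    (hcyc : ∀ p : ℕ, p.Prime → p ∣ Nat.card M → p ∣ Nat.card A →
      ∀ C : Subgroup G, C ≤ A.comap (QuotientGroup.mk' M) → IsPGroup p C → IsCyclic C) :
    ∃ A₀ : Subgroup G, IsMulCommutative A₀ ∧ A₀ ⊔ M = A.comap (QuotientGroup.mk' M) ∧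
      ∀ p : ℕ, p.Prime → (Nat.card A₀).factorization p =
        if p ∣ Nat.card A then (Nat.card M * Nat.card A).factorization p else 0 := by
  set T : Subgroup G := A.comap (QuotientGroup.mk' M) with hT
  have hMT : M ≤ T := by
    intro m hm
    rw [hT, Subgroup.mem_comap]
    have : QuotientGroup.mk' M m = 1 := by
      rw [QuotientGroup.mk'_apply, QuotientGroup.eq_one_iff]; exact hm
    rw [this]; exact A.one_mem
  have hrel : M.relIndex T = Nat.card A := by
    have h1 := Subgroup.relIndex_ker (K := T) (QuotientGroup.mk' M)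
    rw [QuotientGroup.ker_mk'] at h1
    rw [h1, hT, Subgroup.map_comap_eq_self_of_surjective (QuotientGroup.mk'_surjective M)]
  have hab : ∀ a ∈ T, ∀ b ∈ T, ⁅a, b⁆ ∈ M := by
    intro a ha b hb
    rw [← QuotientGroup.eq_one_iff, ← QuotientGroup.mk'_apply, map_commutatorElement]
    rw [hT, Subgroup.mem_comap] at ha hb
    have := (isMulCommutative_iff.1 hA) ⟨_, ha⟩ ⟨_, hb⟩
    have h2 : QuotientGroup.mk' M a * QuotientGroup.mk' M b =
        QuotientGroup.mk' M b * QuotientGroup.mk' M a := congrArg Subtype.val this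
    exact commutatorElement_eq_one_iff_mul_comm.2 h2
  obtain ⟨A₀, -, hA₀c, hsup, hfac⟩ := exists_abelian_supp M T hMT hab
    (fun p hp hpM hpk => hcyc p hp hpM (hrel ▸ hpk))
  refine ⟨A₀, hA₀c, hsup, ?_⟩
  intro p hp
  rw [hfac p hp, hrel, card_eq_card_mul_relIndex hMT, hrel]

/-- **Quotient criterion.** -/
theorem conj_of_hcyc (hB : BS G) (M : Subgroup G) [M.Normal] (A B : Subgroup (G ⧸ M))
    (hA : IsMulCommutative A) (hBc : IsMulCommutative B) (hcard : Nat.card A = Nat.card B)
    (hcycA : ∀ p : ℕ, p.Prime → p ∣ Nat.card M → p ∣ Nat.card A →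
      ∀ C : Subgroup G, C ≤ A.comap (QuotientGroup.mk' M) → IsPGroup p C → IsCyclic C)
    (hcycB : ∀ p : ℕ, p.Prime → p ∣ Nat.card M → p ∣ Nat.card B →
      ∀ C : Subgroup G, C ≤ B.comap (QuotientGroup.mk' M) → IsPGroup p C → IsCyclic C) :
    ∃ g : G ⧸ M, B = A.map (MulAut.conj g).toMonoidHom := by
  obtain ⟨A₀, hA₀c, hA₀sup, hA₀f⟩ := exists_abelian_supp_comap M A hA hcycA
  obtain ⟨B₀, hB₀c, hB₀sup, hB₀f⟩ := exists_abelian_supp_comap M B hBc hcycB
  have hcard0 : Nat.card A₀ = Nat.card B₀ := by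
    apply Nat.eq_of_factorization_eq Nat.card_pos.ne' Nat.card_pos.ne'
    intro p
    by_cases hp : p.Prime
    · rw [hA₀f p hp, hB₀f p hp, hcard]
    · rw [Nat.factorization_eq_zero_of_not_prime _ hp, Nat.factorization_eq_zero_of_not_prime _ hp]
  obtain ⟨g, hg⟩ := hB A₀ B₀ hA₀c hB₀c hcard0
  refine ⟨QuotientGroup.mk' M g, ?_⟩
  have h1 : B.comap (QuotientGroup.mk' M) =
      (A.comap (QuotientGroup.mk' M)).map (MulAut.conj g).toMonoidHom := by
    rw [← hB₀sup, ← hA₀sup, Subgroup.map_sup, map_conj_normal M g, hg]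
  have h2 := congrArg (Subgroup.map (QuotientGroup.mk' M)) h1
  rw [map_conj_map_mk, Subgroup.map_comap_eq_self_of_surjective (QuotientGroup.mk'_surjective M),
    Subgroup.map_comap_eq_self_of_surjective (QuotientGroup.mk'_surjective M)] at h2
  exact h2

omit [Finite G] in
theorem isCyclic_of_le {C P : Subgroup G} (h : C ≤ P) (hP : IsCyclic P) : IsCyclic C := by
  have : IsCyclic (C.subgroupOf P) := inferInstance
  exact (Subgroup.subgroupOfEquivOfLe h).isCyclic.1 this

/-- the cyclicity hypothesis of the quotient criterion, when `|M|` is odd -/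
theorem hcyc_of_odd (hB : BS G) (M : Subgroup G) [M.Normal] (hM : Odd (Nat.card M))
    (A : Subgroup (G ⧸ M)) (p : ℕ) (hp : p.Prime) (hpM : p ∣ Nat.card M) (hpA : p ∣ Nat.card A)
    (C : Subgroup G) (hC : IsPGroup p C) : IsCyclic C := by
  have hpF : Fact p.Prime := ⟨hp⟩
  have hp2 : p ≠ 2 := by
    rintro rfl
    rcases hM with ⟨t, ht⟩
    omega
  have hpi : p ∣ M.index := by
    rw [Subgroup.index_eq_card]
    exact hpA.trans (Subgroup.card_subgroup_dvd_card A)
  obtain ⟨P, hCP⟩ := hC.exists_le_sylow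
  exact isCyclic_of_le hCP (sylow_isCyclic hB M hp2 hpM hpi P)

/-- **S3911.** -/
theorem bs_quotient_of_odd (hB : BS G) (M : Subgroup G) [M.Normal] (hM : Odd (Nat.card M)) :
    BS (G ⧸ M) := by
  intro A B hA hBc hcard
  exact conj_of_hcyc hB M A B hA hBc hcard
    (fun p hp hpM hpA C _ hC => hcyc_of_odd hB M hM A p hp hpM hpA C hC)
    (fun p hp hpM hpB C _ hC => hcyc_of_odd hB M hM B p hp hpM hpB C hC)

end Cfsg.Agent.Helper8.BStar
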