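import Mathlib
import Cfsg.Agent.Helper8.BStarC
import Cfsg.Agent.Helper4.KleinOfInvol

set_option autoImplicit false

/-!
`BS`-groups: transport along isomorphisms, minimal normal subgroups of solvable groups, and the
consequences of an element of order `4`.
-/

namespace Cfsg.Agent.Helper8.BStar

open Subgroup
open scoped commutatorElement

theorem isMulCommutative_of_mulEquiv {K L : Type*} [Group K] [Group L] (e : K ≃* L)
    (h : IsMulCommutative K) : IsMulCommutative L := by
  rw [isMulCommutative_iff]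
  intro a b
  have := (isMulCommutative_iff.1 h) (e.symm a) (e.symm b)
  rw [← map_mul, ← map_mul] at this
  exact e.symm.injective this

/-- transport of `BS` along an isomorphism -/
theorem BS.of_mulEquiv {G H : Type*} [Group G] [Group H] (e : G ≃* H) (hB : BS G) : BS H := by
  intro A B hA hBc hcard
  set A' : Subgroup G := A.map e.symm.toMonoidHom with hA'
  set B' : Subgroup G := B.map e.symm.toMonoidHom with hB'
  have eA : A ≃* A' := A.equivMapOfInjective _ e.symm.injective
  have eB : B ≃* B' := B.equivMapOfInjective _ e.symm.injective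
  have hA'c : IsMulCommutative A' := isMulCommutative_of_mulEquiv eA hA
  have hB'c : IsMulCommutative B' := isMulCommutative_of_mulEquiv eB hBc
  have hc : Nat.card A' = Nat.card B' := by
    rw [← Nat.card_congr eA.toEquiv, ← Nat.card_congr eB.toEquiv, hcard]
  obtain ⟨g, hg⟩ := hB A' B' hA'c hB'c hc
  refine ⟨e g, ?_⟩
  ext x
  constructor
  · intro hx
    have h1 : e.symm x ∈ B' := ⟨x, hx, rfl⟩
    rw [hg] at h1
    obtain ⟨y, ⟨a, ha, rfl⟩, hy⟩ := h1
    refine ⟨a, ha, ?_⟩
    apply e.symm.injective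
    rw [← hy]
    simp [MulAut.conj_apply]
  · rintro ⟨a, ha, rfl⟩
    have h1 : (MulAut.conj g) (e.symm a) ∈ B' := by
      rw [hg]; exact ⟨e.symm a, ⟨a, ha, rfl⟩, rfl⟩
    obtain ⟨b, hb, hb'⟩ := h1
    have h2 : b = MulAut.conj (e g) a := by
      apply e.symm.injective
      have h3 : e.symm b = (MulAut.conj g) (e.symm a) := hb'
      rw [h3]
      simp [MulAut.conj_apply]
    have h4 : (MulAut.conj (e g)).toMonoidHom a = b := h2.symm
    rw [h4]; exact hb

variable {G : Type*} [Group G] [Finite G]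

omit [Finite G] in
/-- a minimal normal subgroup of a finite solvable group is commutative -/
theorem minimal_normal_comm (hsol : Group.IsSolvable G) (N : Subgroup G) [hNn : N.Normal]
    (hN : N ≠ ⊥) (hmin : ∀ K : Subgroup G, K.Normal → K ≤ N → K = ⊥ ∨ K = N) :
    IsMulCommutative N := by
  rcases hmin ⁅N, N⁆ (Subgroup.commutator_normal N N) (Subgroup.commutator_le_right N N) with h | h
  · rw [Subgroup.commutator_eq_bot_iff_le_centralizer] at h
    exact Subgroup.le_centralizer_iff_isMulCommutative.1 h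
  · exfalso
    have hnt : Nontrivial N := (Subgroup.nontrivial_iff_ne_bot N).2 hN
    have h1 : commutator N < ⊤ := Group.IsSolvable.commutator_lt_top_of_nontrivial N
    have h2 : (commutator N).map N.subtype = ⁅N, N⁆ := Subgroup.map_subtype_commutator N
    rw [h] at h2
    have h3 : (commutator N).map N.subtype = (⊤ : Subgroup N).map N.subtype := by
      rw [h2, ← MonoidHom.range_eq_map, Subgroup.range_subtype]
    exact h1.ne (Subgroup.map_injective N.subtype_injective h3)

/-- a minimal normal subgroup of a finite solvable group is a `p`-group -/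
theorem minimal_normal_pgroup (N : Subgroup G) [hNn : N.Normal]
    (hN : N ≠ ⊥) (hmin : ∀ K : Subgroup G, K.Normal → K ≤ N → K = ⊥ ∨ K = N)
    (hNc : IsMulCommutative N) : ∃ p : ℕ, p.Prime ∧ IsPGroup p N := by
  have hcard : Nat.card N ≠ 1 := by
    intro h
    exact hN (Subgroup.eq_bot_of_card_eq N h)
  set p := (Nat.card N).minFac with hp
  have hpp : p.Prime := Nat.minFac_prime hcard
  have hpF : Fact p.Prime := ⟨hpp⟩
  have hpd : p ∣ Nat.card N := Nat.minFac_dvd _
  obtain ⟨x, hx⟩ := exists_prime_orderOf_dvd_card' p hpd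
  let Ω : Subgroup G :=
    { carrier := {x | x ∈ N ∧ x ^ p = 1}
      one_mem' := ⟨N.one_mem, one_pow p⟩
      mul_mem' := by
        rintro a b ⟨ha, hap⟩ ⟨hb, hbp⟩
        refine ⟨N.mul_mem ha hb, ?_⟩
        have hc : Commute a b := by
          have := (isMulCommutative_iff.1 hNc) ⟨a, ha⟩ ⟨b, hb⟩
          exact congrArg Subtype.val this
        rw [hc.mul_pow, hap, hbp, one_mul]
      inv_mem' := by
        rintro a ⟨ha, hap⟩
        exact ⟨N.inv_mem ha, by rw [inv_pow, hap, inv_one]⟩ }
  have hΩn : Ω.Normal := by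
    constructor
    rintro y ⟨hy, hyp⟩ g
    refine ⟨hNn.conj_mem y hy g, ?_⟩
    rw [conj_pow, hyp, mul_one, mul_inv_cancel]
  have hΩN : Ω ≤ N := fun y hy => hy.1
  have hxΩ : (x : G) ∈ Ω := by
    refine ⟨x.2, ?_⟩
    have := pow_orderOf_eq_one (x : G)
    rwa [Subgroup.orderOf_coe, hx] at this
  have hΩne : Ω ≠ ⊥ := by
    intro h
    rw [h, Subgroup.mem_bot] at hxΩ
    have h1 : orderOf (x : G) = 1 := by rw [hxΩ, orderOf_one]
    rw [Subgroup.orderOf_coe, hx] at h1
    exact hpp.one_lt.ne' h1
  rcases hmin Ω hΩn hΩN with h | h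
  · exact absurd h hΩne
  · refine ⟨p, hpp, ?_⟩
    intro y
    refine ⟨1, ?_⟩
    have h1 : (y : G) ∈ Ω := by rw [h]; exact y.2
    apply Subtype.ext
    rw [pow_one]
    exact h1.2

/-- in a `BS`-group with an element of order `4` and a commutative normal subgroup of even order
there is at most one involution -/
theorem invol_unique (hB : BS G) (N : Subgroup G) [N.Normal] (hNc : IsMulCommutative N)
    (h2 : 2 ∣ Nat.card N) (x : G) (hx : orderOf x = 4) :
    ∀ s t : G, orderOf s = 2 → orderOf t = 2 → s = t := by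
  intro s t hs ht
  by_contra hne
  have hsN : s ∈ N := mem_of_orderOf_eq_prime hB N Nat.prime_two h2 hs
  have htN : t ∈ N := mem_of_orderOf_eq_prime hB N Nat.prime_two h2 ht
  have hc : Commute s t := by
    have := (isMulCommutative_iff.1 hNc) ⟨s, hsN⟩ ⟨t, htN⟩
    exact congrArg Subtype.val this
  obtain ⟨E, hE, -, -⟩ := Cfsg.Agent.Helper4.KleinOfInvol.exists_kleinFour s t hs ht hne hc
  have hEc : IsMulCommutative E := by
    have := hE
    exact IsKleinFour.isMulCommutative
  obtain ⟨g, hg⟩ := hB E (Subgroup.zpowers x) hEc (isMulCommutative_zpowers x)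
    (by rw [Nat.card_zpowers, hx]; exact hE.card_four)
  have h1 : x ∈ Subgroup.zpowers x := Subgroup.mem_zpowers x
  rw [hg] at h1
  obtain ⟨y, hy, rfl⟩ := h1
  have hy2 : (⟨y, hy⟩ : E) ^ 2 = 1 := by
    have := Monoid.pow_exponent_eq_one (⟨y, hy⟩ : E)
    rwa [hE.exponent_two] at this
  have hy2' : y ^ 2 = 1 := congrArg Subtype.val hy2
  have h3 : ((MulAut.conj g).toMonoidHom y) ^ 2 = 1 := by
    rw [← map_pow, hy2', map_one]
  have h4 := orderOf_dvd_of_pow_eq_one h3
  rw [hx] at h4
  omega

/-- the subgroup generated by the unique involution is normal -/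
theorem card_eq_two_of_invol_unique (N : Subgroup G) [N.Normal] (hN : N ≠ ⊥)
    (hmin : ∀ K : Subgroup G, K.Normal → K ≤ N → K = ⊥ ∨ K = N) (hN2 : IsPGroup 2 N)
    (huniq : ∀ s t : G, orderOf s = 2 → orderOf t = 2 → s = t) : Nat.card N = 2 := by
  have : Fact (Nat.Prime 2) := ⟨Nat.prime_two⟩
  have hcard : Nat.card N ≠ 1 := by
    intro h
    exact hN (Subgroup.eq_bot_of_card_eq N h)
  obtain ⟨k, hk⟩ := IsPGroup.iff_card.1 hN2
  have hk0 : k ≠ 0 := by
    rintro rfl
    rw [pow_zero] at hk
    exact hcard hk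
  have hd : 2 ∣ Nat.card N := by rw [hk]; exact dvd_pow_self 2 hk0
  obtain ⟨z, hz⟩ := exists_prime_orderOf_dvd_card' 2 hd
  have hz' : orderOf (z : G) = 2 := by rw [Subgroup.orderOf_coe, hz]
  have hZn : (Subgroup.zpowers (z : G)).Normal := by
    constructor
    intro y hy g
    obtain ⟨i, rfl⟩ := Subgroup.mem_zpowers_iff.1 hy
    have h1 : g * (z : G) * g⁻¹ = z := by
      apply huniq _ _ _ hz'
      have : g * (z : G) * g⁻¹ = MulAut.conj g (z : G) := by simp [MulAut.conj_apply]
      rw [this, MulEquiv.orderOf_eq, hz']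
    have h2 : g * (z : G) ^ i * g⁻¹ = (g * (z : G) * g⁻¹) ^ i := by
      rw [conj_zpow]
    rw [h2, h1]
    exact Subgroup.zpow_mem_zpowers _ _
  have hZN : Subgroup.zpowers (z : G) ≤ N := Subgroup.zpowers_le.2 z.2
  rcases hmin _ hZn hZN with h | h
  · exfalso
    have h1 : (z : G) ∈ (⊥ : Subgroup G) := h ▸ Subgroup.mem_zpowers _
    rw [Subgroup.mem_bot] at h1
    rw [h1, orderOf_one] at hz'
    omega
  · rw [← h, Nat.card_zpowers, hz']

end Cfsg.Agent.Helper8.BStar
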