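import Mathlib
import Cfsg.Agent.S0016

/-!
# Automorphisms of odd order of `2`-groups with a single involution

A finite `2`-group with at most one involution that admits a nontrivial automorphism of odd order
has order `8` and is not commutative.
-/

set_option autoImplicit false

namespace Cfsg.Agent.Helper8.QE

/-- the automorphism group of a cyclic `2`-group is a `2`-group. -/
theorem isPGroup_mulAut_of_cyclic {Q : Type*} [Group Q] [Finite Q] (hQ : IsPGroup 2 Q)
    [IsCyclic Q] : IsPGroup 2 (MulAut Q) := by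
  have : Fact (Nat.Prime 2) := ⟨Nat.prime_two⟩
  obtain ⟨k, hk⟩ := hQ.exists_card_eq
  rcases Nat.eq_zero_or_pos k with h0 | h0
  · apply IsPGroup.of_card (n := 0)
    rw [IsCyclic.card_mulAut, hk, h0, pow_zero, Nat.totient_one]
  · apply IsPGroup.of_card (n := k - 1)
    rw [IsCyclic.card_mulAut, hk, Nat.totient_prime_pow Nat.prime_two h0]
    simp

/-- in a `2`-group an element killed by an odd power is trivial. -/
theorem eq_one_of_odd_pow {A : Type*} [Group A] (hA : IsPGroup 2 A) (σ : A) (m : ℕ) (hm : Odd m)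
    (hσ : σ ^ m = 1) : σ = 1 := by
  obtain ⟨k, hk⟩ := hA σ
  have h1 : orderOf σ ∣ 2 ^ k := orderOf_dvd_of_pow_eq_one hk
  have h2 : orderOf σ ∣ m := orderOf_dvd_of_pow_eq_one hσ
  have h3 : Nat.Coprime (2 ^ k) m := Nat.Coprime.pow_left k (Nat.coprime_two_left.2 hm)
  have h4 : orderOf σ ∣ 1 := by
    have := Nat.dvd_gcd h1 h2
    rwa [h3] at this
  exact orderOf_eq_one_iff.1 (Nat.dvd_one.1 h4)

open QuaternionGroup in
/-- generalised quaternion groups of order at least `16` have no automorphisms of odd order. -/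
theorem quaternion_odd_aut (n : ℕ) (hn : 2 ≤ n) (σ : MulAut (QuaternionGroup (2 ^ n))) (m : ℕ)
    (hm : Odd m) (hσ : σ ^ m = 1) : σ = 1 := by
  have : NeZero (2 ^ n) := ⟨by positivity⟩
  have hN : 4 ≤ 2 ^ n := by
    calc 4 = 2 ^ 2 := by norm_num
      _ ≤ 2 ^ n := Nat.pow_le_pow_right (by norm_num) hn
  have hm0 : m ≠ 0 := by
    rintro rfl
    exact (Nat.not_odd_iff_even.2 (by decide)) hm
  -- the image of the generator
  obtain ⟨j, hj⟩ : ∃ j, σ (a 1) = a j := by
    have ho : orderOf (σ (a 1)) = 2 * 2 ^ n := by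
      rw [MulEquiv.orderOf_eq, orderOf_a_one]
    rcases hx : σ (a 1) with j | j
    · exact ⟨j, rfl⟩
    · rw [hx, orderOf_xa] at ho
      omega
  have hai : ∀ i : ZMod (2 * 2 ^ n), σ (a i) = a (i * j) := by
    intro i
    have h1 : (a i : QuaternionGroup (2 ^ n)) = a 1 ^ i.val := by
      rw [a_one_pow, ZMod.natCast_zmod_val]
    rw [h1, map_pow, hj]
    have h2 : ∀ k : ℕ, (a j : QuaternionGroup (2 ^ n)) ^ k = a ((k : ZMod (2 * 2 ^ n)) * j) := by
      intro k
      induction k with
      | zero => simp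
      | succ k ih => rw [pow_succ, ih, a_mul_a]; congr 1; push_cast; ring
    rw [h2, ZMod.natCast_zmod_val]
  have hpow : ∀ k : ℕ, (σ ^ k) (a 1) = a (j ^ k) := by
    intro k
    induction k with
    | zero => simp
    | succ k ih =>
      rw [pow_succ', MulAut.mul_apply, ih, hai, pow_succ]
  have hjm : j ^ m = 1 := by
    have h1 := hpow m
    rw [hσ, MulAut.one_apply] at h1
    have h2 : (a 1 : QuaternionGroup (2 ^ n)) = a (j ^ m) := h1
    injection h2 with h3
    exact h3.symm
  have hj1 : j = 1 := by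
    set u : (ZMod (2 * 2 ^ n))ˣ := Units.ofPowEqOne j m hjm hm0 with hu
    have hum : u ^ m = 1 := Units.pow_ofPowEqOne hjm hm0
    have hcard : Nat.card (ZMod (2 * 2 ^ n))ˣ = 2 ^ n := by
      rw [Nat.card_eq_fintype_card, ZMod.card_units_eq_totient]
      have : 2 * 2 ^ n = 2 ^ (n + 1) := by ring
      rw [this, Nat.totient_prime_pow Nat.prime_two (Nat.succ_pos n)]
      simp
    have hP : IsPGroup 2 (ZMod (2 * 2 ^ n))ˣ := IsPGroup.of_card hcard
    have h1 := eq_one_of_odd_pow hP u m hm hum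
    have h2 : (u : ZMod (2 * 2 ^ n)) = j := rfl
    rw [← h2, h1, Units.val_one]
  subst hj1
  have hai' : ∀ i : ZMod (2 * 2 ^ n), σ (a i) = a i := by
    intro i; rw [hai, mul_one]
  obtain ⟨k, hk⟩ : ∃ k, σ (xa 0) = xa k := by
    rcases hx : σ (xa 0) with l | l
    · exfalso
      have h1 : σ (xa 0) = σ (a l) := by rw [hx, hai']
      have h2 := σ.injective h1
      cases h2
    · exact ⟨l, rfl⟩
  have hxpow : ∀ i : ℕ, (σ ^ i) (xa 0) = xa ((i : ZMod (2 * 2 ^ n)) * k) := by
    intro i
    induction i with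
    | zero => simp
    | succ i ih =>
      rw [pow_succ', MulAut.mul_apply, ih]
      have h1 : (xa ((i : ZMod (2 * 2 ^ n)) * k) : QuaternionGroup (2 ^ n)) =
          xa 0 * a ((i : ZMod (2 * 2 ^ n)) * k) := by
        rw [xa_mul_a, zero_add]
      rw [h1, map_mul, hk, hai', xa_mul_a]
      congr 1; push_cast; ring
  have hk0 : k = 0 := by
    have h1 := hxpow m
    rw [hσ, MulAut.one_apply] at h1
    have h2 : (xa 0 : QuaternionGroup (2 ^ n)) = xa ((m : ZMod (2 * 2 ^ n)) * k) := h1
    injection h2 with h3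
    have hu : IsUnit (m : ZMod (2 * 2 ^ n)) := by
      rw [ZMod.isUnit_iff_coprime]
      have : 2 * 2 ^ n = 2 ^ (n + 1) := by ring
      rw [this]
      exact Nat.Coprime.pow_right _ (Nat.coprime_two_right.2 hm)
    exact (hu.mul_right_eq_zero).1 h3.symm
  subst hk0
  ext x
  rcases x with i | i
  · rw [hai', MulAut.one_apply]
  · have h1 : (xa i : QuaternionGroup (2 ^ n)) = xa 0 * a i := by rw [xa_mul_a, zero_add]
    rw [MulAut.one_apply, h1, map_mul, hk, hai']

/-- **Odd automorphisms of `2`-groups with one involution.** -/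
theorem card_eq_eight_of_odd_aut {Q : Type*} [Group Q] [Finite Q] (hQ : IsPGroup 2 Q)
    (huniq : ∀ x y : Q, orderOf x = 2 → orderOf y = 2 → x = y)
    (σ : MulAut Q) (m : ℕ) (hm : Odd m) (hσ : σ ^ m = 1) (hne : σ ≠ 1) :
    Nat.card Q = 8 ∧ ∃ x y : Q, x * y ≠ y * x := by
  have : Fact (Nat.Prime 2) := ⟨Nat.prime_two⟩
  have hsub : ∀ H K : Subgroup Q, Nat.card H = 2 → Nat.card K = 2 → H = K := by
    have key : ∀ H : Subgroup Q, Nat.card H = 2 →
        ∃ h : Q, orderOf h = 2 ∧ H = Subgroup.zpowers h := by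
      intro H hH
      obtain ⟨x, hx⟩ := exists_prime_orderOf_dvd_card' (G := H) 2 (by rw [hH])
      have hx' : orderOf (x : Q) = 2 := by rw [Subgroup.orderOf_coe]; exact hx
      refine ⟨(x : Q), hx', ?_⟩
      symm
      apply Subgroup.eq_of_le_of_card_ge
      · rw [Subgroup.zpowers_le]; exact x.2
      · rw [Nat.card_zpowers, hx', hH]
    intro H K hH hK
    obtain ⟨h, hh, rfl⟩ := key H hH
    obtain ⟨k, hk, rfl⟩ := key K hK
    rw [huniq h k hh hk]
  rcases Cfsg.Agent.S0016.result 2 hQ hsub with hc | ⟨-, n, ⟨f⟩⟩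
  · exfalso
    exact hne (eq_one_of_odd_pow (isPGroup_mulAut_of_cyclic hQ) σ m hm hσ)
  · rcases Nat.lt_or_ge n 2 with hn | hn
    · obtain rfl | rfl : n = 0 ∨ n = 1 := by omega
      · exfalso
        rw [pow_zero] at f
        have : IsCyclic Q := by
          have := QuaternionGroup.quaternionGroup_one_isCyclic
          exact isCyclic_of_surjective f.symm f.symm.surjective
        exact hne (eq_one_of_odd_pow (isPGroup_mulAut_of_cyclic hQ) σ m hm hσ)
      · rw [pow_one] at f
        refine ⟨?_, f.symm (QuaternionGroup.a 1), f.symm (QuaternionGroup.xa 0), ?_⟩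
        · rw [Nat.card_congr f.toEquiv, Nat.card_eq_fintype_card, QuaternionGroup.card]
        · rw [← map_mul, ← map_mul]
          intro h
          have h2 := f.symm.injective h
          rw [QuaternionGroup.a_mul_xa, QuaternionGroup.xa_mul_a] at h2
          revert h2
          decide
    · exfalso
      apply hne
      have h1 : MulAut.congr f σ = 1 :=
        quaternion_odd_aut n hn _ m hm (by rw [← map_pow, hσ, map_one])
      exact (MulEquiv.map_eq_one_iff (MulAut.congr f)).1 h1

end Cfsg.Agent.Helper8.QE
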