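import Mathlib
import Cfsg.Agent.Helper8.BStarD
import Cfsg.Agent.Helper8.QEA

set_option autoImplicit false

/-!
`2`-groups with at most one involution inside `BS`-groups.
-/

namespace Cfsg.Agent.Helper8.BStar

open Subgroup QuaternionGroup

/-- a `2`-group with at most one involution is cyclic or generalised quaternion -/
theorem cyclic_or_quat {Q : Type*} [Group Q] [Finite Q] (hQ : IsPGroup 2 Q)
    (huniq : ∀ x y : Q, orderOf x = 2 → orderOf y = 2 → x = y) :
    IsCyclic Q ∨ ∃ n : ℕ, 1 ≤ n ∧ Nonempty (Q ≃* QuaternionGroup (2 ^ n)) := by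
  have : Fact (Nat.Prime 2) := ⟨Nat.prime_two⟩
  have hsub : ∀ H K : Subgroup Q, Nat.card H = 2 → Nat.card K = 2 → H = K := by
    have key : ∀ H : Subgroup Q, Nat.card H = 2 →
        ∃ h : Q, orderOf h = 2 ∧ H = Subgroup.zpowers h := by
      intro H hH
      obtain ⟨x, hx⟩ := exists_prime_orderOf_dvd_card' (G := H) 2 (by rw [hH])
      have hx' : orderOf (x : Q) = 2 := by rw [Subgroup.orderOf_coe]; exact hx
      refine ⟨(x : Q), hx', ?_⟩
      symm
      apply Subgroup.eq_of_le_of_card_ge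
      · rw [Subgroup.zpowers_le]; exact x.2
      · rw [Nat.card_zpowers, hx', hH]
    intro H K hH hK
    obtain ⟨h, hh, rfl⟩ := key H hH
    obtain ⟨k, hk, rfl⟩ := key K hK
    rw [huniq h k hh hk]
  rcases Cfsg.Agent.S0016.result 2 hQ hsub with hc | ⟨-, n, ⟨f⟩⟩
  · left; exact hc
  · rcases Nat.eq_zero_or_pos n with h0 | h0
    · left
      subst h0
      rw [pow_zero] at f
      have := QuaternionGroup.quaternionGroup_one_isCyclic
      exact isCyclic_of_surjective f.symm f.symm.surjective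
    · right
      exact ⟨n, h0, ⟨f⟩⟩

theorem card_quat (n : ℕ) {Q : Type*} [Group Q] (f : Q ≃* QuaternionGroup (2 ^ n)) :
    Nat.card Q = 4 * 2 ^ n := by
  have : NeZero (2 ^ n) := ⟨by positivity⟩
  rw [Nat.card_congr f.toEquiv, Nat.card_eq_fintype_card, QuaternionGroup.card]

/-- a `2`-group of order at most `4` with at most one involution is cyclic -/
theorem isCyclic_of_card_le_four {Q : Type*} [Group Q] [Finite Q] (hQ : IsPGroup 2 Q)
    (huniq : ∀ x y : Q, orderOf x = 2 → orderOf y = 2 → x = y) (hcard : Nat.card Q ≤ 4) :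
    IsCyclic Q := by
  rcases cyclic_or_quat hQ huniq with h | ⟨n, hn, ⟨f⟩⟩
  · exact h
  · exfalso
    have h1 := card_quat n f
    have h2 : 2 ≤ 2 ^ n := by
      calc 2 = 2 ^ 1 := rfl
        _ ≤ 2 ^ n := Nat.pow_le_pow_right (by norm_num) hn
    omega

theorem huniq_subgroup {G : Type*} [Group G]
    (huniq : ∀ s t : G, orderOf s = 2 → orderOf t = 2 → s = t) (C : Subgroup G) :
    ∀ x y : C, orderOf x = 2 → orderOf y = 2 → x = y := by
  intro x y hx hy
  apply Subtype.ext
  apply huniq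
  · rw [Subgroup.orderOf_coe]; exact hx
  · rw [Subgroup.orderOf_coe]; exact hy

section Quat

variable {m : ℕ}

/-- the cyclic part of the quaternion group -/
def aSub (m : ℕ) : Subgroup (QuaternionGroup m) where
  carrier := {g | ∃ i, g = a i}
  one_mem' := ⟨0, by rw [a_zero]⟩
  mul_mem' := by
    rintro _ _ ⟨i, rfl⟩ ⟨j, rfl⟩
    exact ⟨i + j, a_mul_a i j⟩
  inv_mem' := by
    rintro _ ⟨i, rfl⟩
    refine ⟨-i, ?_⟩
    apply inv_eq_of_mul_eq_one_right
    rw [a_mul_a, add_neg_cancel, a_zero]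

theorem mem_aSub {g : QuaternionGroup m} : g ∈ aSub m ↔ ∃ i, g = a i := Iff.rfl

instance aSub_normal : (aSub m).Normal := by
  constructor
  rintro _ ⟨k, rfl⟩ g
  rcases g with j | j
  · refine ⟨k, ?_⟩
    rw [mul_inv_eq_iff_eq_mul, a_mul_a, a_mul_a, add_comm]
  · refine ⟨-k, ?_⟩
    rw [mul_inv_eq_iff_eq_mul, xa_mul_a, a_mul_xa, sub_neg_eq_add]

theorem xa_not_mem_aSub (i : ZMod (2 * m)) : xa i ∉ aSub m := by
  rintro ⟨j, hj⟩
  cases hj

end Quat

/-- generalised quaternion groups are not `BS`-groups -/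
theorem not_bs_quat (n : ℕ) (hn : 1 ≤ n) : ¬ BS (QuaternionGroup (2 ^ n)) := by
  intro hB
  have : NeZero (2 ^ n) := ⟨by positivity⟩
  set c : QuaternionGroup (2 ^ n) := a 1 ^ 2 ^ (n - 1) with hc
  have hc4 : orderOf c = 4 := by
    have h1 : 2 * 2 ^ n = 4 * 2 ^ (n - 1) := by
      obtain ⟨k, rfl⟩ : ∃ k, n = k + 1 := ⟨n - 1, by omega⟩
      rw [Nat.add_sub_cancel, pow_succ]; ring
    rw [hc, orderOf_pow_of_dvd (by positivity) (by rw [orderOf_a_one, h1]; exact dvd_mul_left _ _),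
      orderOf_a_one, h1, Nat.mul_div_cancel _ (by positivity)]
  have hcA : c ∈ aSub (2 ^ n) := by
    rw [hc, a_one_pow]
    exact ⟨_, rfl⟩
  obtain ⟨g, hg⟩ := hB (Subgroup.zpowers c) (Subgroup.zpowers (xa 0))
    (isMulCommutative_zpowers _) (isMulCommutative_zpowers _)
    (by rw [Nat.card_zpowers, Nat.card_zpowers, hc4, orderOf_xa])
  have h1 : (xa 0 : QuaternionGroup (2 ^ n)) ∈ Subgroup.zpowers (xa 0) := Subgroup.mem_zpowers _
  rw [hg] at h1
  obtain ⟨y, hy, hy'⟩ := h1
  have h2 : y ∈ aSub (2 ^ n) := (Subgroup.zpowers_le.2 hcA) hy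
  have h3 : (MulAut.conj g).toMonoidHom y ∈ aSub (2 ^ n) :=
    (aSub_normal (m := 2 ^ n)).conj_mem y h2 g
  rw [hy'] at h3
  exact xa_not_mem_aSub _ h3

variable {G : Type*} [Group G] [Finite G]

/-- in a `BS`-group, a normal subgroup with an element of order `4` contains every quaternion
subgroup -/
theorem quat_le_of_normal (hB : BS G) (R : Subgroup G) [hRn : R.Normal] (r : G) (hr : r ∈ R)
    (hr4 : orderOf r = 4) (P : Subgroup G) (m : ℕ) [NeZero m] (f : P ≃* QuaternionGroup m) :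
    P ≤ R := by
  have key : ∀ i, ((f.symm (xa i) : P) : G) ∈ R := by
    intro i
    have ho : orderOf ((f.symm (xa i) : P) : G) = 4 := by
      rw [Subgroup.orderOf_coe, MulEquiv.orderOf_eq, orderOf_xa]
    obtain ⟨g, hg⟩ := hB (Subgroup.zpowers r) (Subgroup.zpowers ((f.symm (xa i) : P) : G))
      (isMulCommutative_zpowers _) (isMulCommutative_zpowers _)
      (by rw [Nat.card_zpowers, Nat.card_zpowers, hr4, ho])
    have h1 : ((f.symm (xa i) : P) : G) ∈ Subgroup.zpowers ((f.symm (xa i) : P) : G) :=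
      Subgroup.mem_zpowers _
    rw [hg] at h1
    obtain ⟨y, hy, hy'⟩ := h1
    rw [← hy']
    exact hRn.conj_mem y (Subgroup.zpowers_le.2 hr hy) g
  intro x hx
  rcases hfx : f ⟨x, hx⟩ with i | i
  · have h1 : (a i : QuaternionGroup m) = xa 0 * xa (i - (m : ZMod (2 * m))) := by
      rw [xa_mul_xa]; congr 1; ring
    have h2 : (⟨x, hx⟩ : P) = f.symm (xa 0) * f.symm (xa (i - (m : ZMod (2 * m)))) := by
      rw [← map_mul, ← h1, ← hfx, f.symm_apply_apply]
    have h3 : x = ((f.symm (xa 0) : P) : G) * ((f.symm (xa (i - (m : ZMod (2 * m)))) : P) : G) :=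
      congrArg Subtype.val h2
    rw [h3]; exact R.mul_mem (key _) (key _)
  · have h2 : (⟨x, hx⟩ : P) = f.symm (xa i) := by rw [← hfx, f.symm_apply_apply]
    have h3 : x = ((f.symm (xa i) : P) : G) := congrArg Subtype.val h2
    rw [h3]; exact key i

end Cfsg.Agent.Helper8.BStar
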