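import Mathlib
import Cfsg.Agent.Helper8.BStarE
import Cfsg.Agent.Helper1.Fitting2
import Cfsg.Agent.Helper5.PPrimeCore
import Cfsg.Agent.Helper5.Cores

set_option autoImplicit false

/-!
Sylow `2`-subgroups of solvable `BS`-groups with an element of order `4`:
they are cyclic or of order `8`.
-/

namespace Cfsg.Agent.Helper8.BStar

open Subgroup

/-- a non-commutative group of order `8` has an element of order `4` -/
theorem exists_orderOf_four {R : Type*} [Group R] [Finite R] (hcard : Nat.card R = 8)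
    (hnc : ∃ x y : R, x * y ≠ y * x) : ∃ r : R, orderOf r = 4 := by
  by_contra hno
  push Not at hno
  have hsq : ∀ r : R, r ^ 2 = 1 := by
    intro r
    have h1 : orderOf r ∣ 8 := hcard ▸ orderOf_dvd_natCard r
    have h2 : orderOf r ∈ Nat.divisors 8 := Nat.mem_divisors.2 ⟨h1, by norm_num⟩
    have h3 : Nat.divisors 8 = {1, 2, 4, 8} := by decide
    rw [h3] at h2
    simp only [Finset.mem_insert, Finset.mem_singleton] at h2
    rcases h2 with h | h | h | h
    · rw [orderOf_eq_one_iff] at h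
      rw [h, one_pow]
    · rw [← h]; exact pow_orderOf_eq_one r
    · exact absurd h (hno r)
    · exfalso
      apply hno (r ^ 2)
      rw [orderOf_pow_of_dvd (by norm_num) (by rw [h]; norm_num), h]
  obtain ⟨x, y, hxy⟩ := hnc
  apply hxy
  have hx : x⁻¹ = x := by
    apply inv_eq_of_mul_eq_one_right
    rw [← pow_two]; exact hsq x
  have hy : y⁻¹ = y := by
    apply inv_eq_of_mul_eq_one_right
    rw [← pow_two]; exact hsq y
  have hxy' : (x * y)⁻¹ = x * y := by
    apply inv_eq_of_mul_eq_one_right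
    rw [← pow_two]; exact hsq (x * y)
  rw [← hxy', mul_inv_rev, hx, hy]

variable {G : Type*} [Group G] [Finite G]

/-- a minimal normal subgroup below a nontrivial normal subgroup -/
theorem exists_min_normal_le (P : Subgroup G) [hPn : P.Normal] (hP1 : P ≠ ⊥) :
    ∃ N : Subgroup G, N.Normal ∧ N ≠ ⊥ ∧ N ≤ P ∧
      ∀ M : Subgroup G, M.Normal → M ≤ N → M = ⊥ ∨ M = N := by
  let 𝒮 : Set (Subgroup G) := {N | N.Normal ∧ N ≠ ⊥ ∧ N ≤ P}
  have hP𝒮 : P ∈ 𝒮 := ⟨hPn, hP1, le_rfl⟩
  obtain ⟨N, -, hNmin⟩ := (Set.toFinite 𝒮).exists_le_minimal hP𝒮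
  obtain ⟨hNn, hN1, hNP⟩ : N ∈ 𝒮 := hNmin.prop
  refine ⟨N, hNn, hN1, hNP, ?_⟩
  intro M hMn hMN
  by_cases h : M = ⊥
  · left; exact h
  · right; exact le_antisymm hMN (hNmin.2 ⟨hMn, h, hMN.trans hNP⟩ hMN)

/-- a solvable `BS`-group with `O_{2'}(G) = 1` and an element of order `4` has at most one
involution -/
theorem invol_unique_of_core_bot (hB : BS G) (hsol : Group.IsSolvable G)
    (hO : Cfsg.pPrimeCore 2 G = ⊥) (x : G) (hx : orderOf x = 4) :
    ∀ s t : G, orderOf s = 2 → orderOf t = 2 → s = t := by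
  have htop : (⊤ : Subgroup G) ≠ ⊥ := by
    intro h
    have h1 : x ∈ (⊥ : Subgroup G) := h ▸ Subgroup.mem_top x
    rw [Subgroup.mem_bot] at h1
    rw [h1, orderOf_one] at hx
    omega
  obtain ⟨N, hNn, hN1, -, hmin⟩ := exists_min_normal_le (⊤ : Subgroup G) htop
  have hNc := minimal_normal_comm hsol N hN1 hmin
  obtain ⟨p, hp, hNp⟩ := minimal_normal_pgroup N hN1 hmin hNc
  have hpF : Fact p.Prime := ⟨hp⟩
  obtain ⟨k, hk⟩ := IsPGroup.iff_card.1 hNp
  have hk0 : k ≠ 0 := by
    rintro rfl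
    rw [pow_zero] at hk
    exact hN1 (Subgroup.eq_bot_of_card_eq N hk)
  have hp2 : p = 2 := by
    by_contra hne
    have hc : (Nat.card N).Coprime 2 := by
      rw [hk]
      apply Nat.Coprime.pow_left
      exact (Nat.coprime_primes hp Nat.prime_two).2 hne
    have h1 := Cfsg.Agent.Helper5.le_pPrimeCore hNn hc
    rw [hO] at h1
    exact hN1 (le_bot_iff.1 h1)
  subst hp2
  exact invol_unique hB N hNc (by rw [hk]; exact dvd_pow_self 2 hk0) x hx

/-- **Sylow `2`-subgroups**, case `O_{2'}(G) = 1`. -/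
theorem sylow_cyclic_or_card_of_core_bot (hB : BS G) (hsol : Group.IsSolvable G)
    (hO : Cfsg.pPrimeCore 2 G = ⊥) (x : G) (hx : orderOf x = 4) (P : Sylow 2 G) :
    IsCyclic P ∨ Nat.card P ∣ 8 := by
  have hF2 : Fact (Nat.Prime 2) := ⟨Nat.prime_two⟩
  have huniq := invol_unique_of_core_bot hB hsol hO x hx
  rcases cyclic_or_quat P.isPGroup' (huniq_subgroup huniq (P : Subgroup G)) with hc | ⟨n, hn, ⟨f⟩⟩
  · left; exact hc
  · right
    have hNZ : NeZero (2 ^ n) := ⟨by positivity⟩
    by_cases hPtop : (P : Subgroup G) = ⊤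
    · exfalso
      have e1 : G ≃* (P : Subgroup G) :=
        (Subgroup.topEquiv (G := G)).symm.trans (MulEquiv.subgroupCongr hPtop.symm)
      exact not_bs_quat n hn (hB.of_mulEquiv (e1.trans f))
    · -- an element of odd prime order
      have hidx1 : (P : Subgroup G).index ≠ 1 := fun h => hPtop (Subgroup.index_eq_one.1 h)
      obtain ⟨q, hq, hqd⟩ := Nat.exists_prime_and_dvd hidx1
      have hq2 : q ≠ 2 := by
        rintro rfl
        exact P.not_dvd_index hqd
      have hqF : Fact q.Prime := ⟨hq⟩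
      have hqG : q ∣ Nat.card G := hqd.trans (Subgroup.index_dvd_card _)
      obtain ⟨g, hg⟩ := exists_prime_orderOf_dvd_card' q hqG
      set R : Subgroup G := Cfsg.pCore 2 G with hR
      have hRp : IsPGroup 2 R := Cfsg.Agent.Helper5.isPGroup_pCore 2
      have hRn : R.Normal := inferInstance
      have hcen : Subgroup.centralizer (R : Set G) ≤ R :=
        Cfsg.Agent.Helper1.centralizer_pCore_le 2 hO
      set σ : MulAut R := MulAut.conjNormal g with hσ
      have hσq : σ ^ q = 1 := by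
        rw [hσ, ← map_pow, ← hg, pow_orderOf_eq_one, map_one]
      have hσ1 : σ ≠ 1 := by
        intro h1
        have h2 : g ∈ Subgroup.centralizer (R : Set G) := by
          rw [Subgroup.mem_centralizer_iff]
          intro r hr
          have h3 : ((σ ⟨r, hr⟩ : R) : G) = g * r * g⁻¹ := MulAut.conjNormal_apply g ⟨r, hr⟩
          rw [h1, MulAut.one_apply] at h3
          have h4 : r = g * r * g⁻¹ := h3
          rw [eq_mul_inv_iff_mul_eq] at h4
          exact h4
        have h5 := hcen h2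
        obtain ⟨j, hj⟩ := (IsPGroup.iff_orderOf.1 hRp) ⟨g, h5⟩
        rw [Subgroup.orderOf_mk, hg] at hj
        have h6 : q ∣ 2 ^ j := by rw [← hj]
        exact hq2 ((Nat.prime_dvd_prime_iff_eq hq Nat.prime_two).1 (hq.dvd_of_dvd_pow h6))
      obtain ⟨hR8, hRnc⟩ := Cfsg.Agent.Helper8.QE.card_eq_eight_of_odd_aut hRp
        (huniq_subgroup huniq R) σ q (hq.odd_of_ne_two hq2) hσq hσ1
      obtain ⟨r, hr4⟩ := exists_orderOf_four hR8 hRnc
      have hr4' : orderOf (r : G) = 4 := by rw [Subgroup.orderOf_coe, hr4]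
      have hPR : (P : Subgroup G) ≤ R := quat_le_of_normal hB R (r : G) r.2 hr4' P (2 ^ n) f
      have := Subgroup.card_dvd_of_le hPR
      rw [hR8] at this
      exact this

omit [Finite G] in
/-- injectivity of the quotient map on a `2`-subgroup, modulo a normal subgroup of odd order -/
theorem map_mk_equiv (K : Subgroup G) [K.Normal] [Finite K] (hK : Odd (Nat.card K)) (C : Subgroup G)
    (hC : IsPGroup 2 C) : Nonempty (C ≃* C.map (QuotientGroup.mk' K)) := by
  refine ⟨MulEquiv.ofBijective ((QuotientGroup.mk' K).subgroupMap C)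
    ⟨?_, (QuotientGroup.mk' K).subgroupMap_surjective C⟩⟩
  rw [injective_iff_map_eq_one]
  intro c hc
  have h1 : QuotientGroup.mk' K (c : G) = 1 := by
    have := congrArg Subtype.val hc
    exact this
  rw [QuotientGroup.mk'_apply, QuotientGroup.eq_one_iff] at h1
  obtain ⟨j, hj⟩ := (IsPGroup.iff_orderOf.1 hC) c
  have h2 : orderOf (c : G) ∣ Nat.card K := by
    have := orderOf_dvd_natCard (⟨(c : G), h1⟩ : K)
    rwa [Subgroup.orderOf_mk] at this
  rw [Subgroup.orderOf_coe, hj] at h2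
  have h3 : Nat.Coprime (2 ^ j) (Nat.card K) :=
    Nat.Coprime.pow_left j (Nat.coprime_two_left.2 hK)
  have h4 : 2 ^ j = 1 := Nat.Coprime.eq_one_of_dvd h3 h2
  rw [h4] at hj
  exact orderOf_eq_one_iff.1 hj

/-- **Sylow `2`-subgroups** of solvable `BS`-groups with an element of order `4`. -/
theorem two_subgroup_cyclic_or_card (hB : BS G) (hsol : Group.IsSolvable G) (x : G)
    (hx : orderOf x = 4) (C : Subgroup G) (hC : IsPGroup 2 C) :
    IsCyclic C ∨ Nat.card C ∣ 8 := by
  have hF2 : Fact (Nat.Prime 2) := ⟨Nat.prime_two⟩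
  set K : Subgroup G := Cfsg.pPrimeCore 2 G with hK
  have hKodd : Odd (Nat.card K) :=
    Nat.coprime_two_right.1 (Cfsg.Agent.Helper5.coprime_card_pPrimeCore 2)
  have hBq : BS (G ⧸ K) := bs_quotient_of_odd hB K hKodd
  have hsolq : Group.IsSolvable (G ⧸ K) := inferInstance
  have hOq : Cfsg.pPrimeCore 2 (G ⧸ K) = ⊥ := Cfsg.Agent.Helper1.pPrimeCore_quotient_pPrimeCore 2
  -- the image of `x`
  have hxq : orderOf (QuotientGroup.mk' K x) = 4 := by
    have h4 : (4 : ℕ) = 2 ^ (1 + 1) := by norm_num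
    rw [h4]
    apply orderOf_eq_prime_pow
    · rw [pow_one, ← map_pow, QuotientGroup.mk'_apply, QuotientGroup.eq_one_iff]
      intro hmem
      have h1 : orderOf (x ^ 2) = 2 := by
        rw [orderOf_pow_of_dvd (by norm_num) (by rw [hx]; norm_num), hx]
      have h2 : orderOf (x ^ 2) ∣ Nat.card K := by
        have := orderOf_dvd_natCard (⟨x ^ 2, hmem⟩ : K)
        rwa [Subgroup.orderOf_mk] at this
      rw [h1] at h2
      rcases hKodd with ⟨t, ht⟩
      omega
    · rw [← h4, ← map_pow, ← hx, pow_orderOf_eq_one, map_one]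
  obtain ⟨e⟩ := map_mk_equiv K hKodd C hC
  have hCq : IsPGroup 2 (C.map (QuotientGroup.mk' K)) := hC.map _
  obtain ⟨P, hP⟩ := hCq.exists_le_sylow
  rcases sylow_cyclic_or_card_of_core_bot hBq hsolq hOq _ hxq P with h | h
  · left
    have h1 : IsCyclic (C.map (QuotientGroup.mk' K)) := isCyclic_of_le hP h
    exact e.isCyclic.2 h1
  · right
    rw [Nat.card_congr e.toEquiv]
    exact (Subgroup.card_dvd_of_le hP).trans h

end Cfsg.Agent.Helper8.BStar
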