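import Mathlib
import Cfsg.Agent.Helper8.BStarF

set_option autoImplicit false

/-!
Conjugacy of abelian subgroups containing a full Sylow `2`-subgroup, from conjugacy of the
abelian subgroups of odd order.
-/

namespace Cfsg.Agent.Helper8.BStar

open Subgroup

variable {H : Type*} [Group H] [Finite H]

/-- the `2`-part and the odd part of a commutative subgroup -/
theorem exists_two_odd_decomp (A : Subgroup H) (hA : IsMulCommutative A) :
    ∃ A₂ D : Subgroup H, A₂ ≤ A ∧ D ≤ A ∧ IsPGroup 2 A₂ ∧ Odd (Nat.card D) ∧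
      Nat.card A₂ * Nat.card D = Nat.card A ∧ A₂ ⊔ D = A := by
  have hF2 : Fact (Nat.Prime 2) := ⟨Nat.prime_two⟩
  obtain ⟨S⟩ : Nonempty (Sylow 2 A) := inferInstance
  have hSn : (S : Subgroup A).Normal := by
    constructor
    intro n hn g
    have h1 : g * n * g⁻¹ = n := by
      rw [(isMulCommutative_iff.1 hA) g n, mul_inv_cancel_right]
    rw [h1]; exact hn
  obtain ⟨X, hX⟩ := Subgroup.exists_right_complement'_of_coprime (N := (S : Subgroup A))
    S.card_coprime_index
  refine ⟨(S : Subgroup A).map A.subtype, X.map A.subtype, Subgroup.map_subtype_le _,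
    Subgroup.map_subtype_le _, S.isPGroup'.map _, ?_, ?_, ?_⟩
  · rw [Subgroup.card_map_of_injective A.subtype_injective, ← hX.symm.index_eq_card]
    rw [← Nat.not_even_iff_odd, even_iff_two_dvd]
    exact S.not_dvd_index
  · rw [Subgroup.card_map_of_injective A.subtype_injective,
      Subgroup.card_map_of_injective A.subtype_injective]
    exact hX.card_mul_card
  · rw [← Subgroup.map_sup, hX.sup_eq_top, ← MonoidHom.range_eq_map, Subgroup.range_subtype]

omit [Finite H] in
theorem map_conj_mul (A : Subgroup H) (g m : H) :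
    (A.map (MulAut.conj g).toMonoidHom).map (MulAut.conj m).toMonoidHom =
      A.map (MulAut.conj (m * g)).toMonoidHom := by
  rw [Subgroup.map_map]
  congr 1
  ext x
  simp [MulAut.conj_apply, mul_assoc]

omit [Finite H] in
theorem map_conj_of_mem_centralizer (E : Subgroup H) (m : H)
    (hm : m ∈ Subgroup.centralizer (E : Set H)) : E.map (MulAut.conj m).toMonoidHom = E := by
  rw [Subgroup.mem_centralizer_iff] at hm
  ext x
  constructor
  · rintro ⟨e, he, rfl⟩
    have h1 : (MulAut.conj m).toMonoidHom e = e := by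
      show MulAut.conj m e = e
      rw [MulAut.conj_apply, ← hm e he, mul_inv_cancel_right]
    rw [h1]; exact he
  · intro hx
    refine ⟨x, hx, ?_⟩
    show MulAut.conj m x = x
    rw [MulAut.conj_apply, ← hm x hx, mul_inv_cancel_right]

theorem factorization_two_of_decomp {a d n : ℕ} (hd : Odd d) (k : ℕ) (ha : a = 2 ^ k)
    (h : a * d = n) : k = n.factorization 2 := by
  subst ha
  have hd0 : d ≠ 0 := by
    rintro rfl
    exact (Nat.not_odd_iff_even.2 (by decide)) hd
  rw [← h, Nat.factorization_mul (by positivity) hd0, Nat.factorization_pow]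
  simp only [Finsupp.coe_add, Finsupp.coe_smul, Pi.add_apply, Pi.smul_apply, smul_eq_mul]
  rw [Nat.Prime.factorization_self Nat.prime_two, mul_one,
    Nat.factorization_eq_zero_of_not_dvd (p := 2) (n := d), add_zero]
  rw [← even_iff_two_dvd, Nat.not_even_iff_odd]
  exact hd

/-- **Conjugacy from the odd parts.** -/
theorem conj_of_odd_conj
    (hodd : ∀ D E : Subgroup H, IsMulCommutative D → IsMulCommutative E →
      Nat.card D = Nat.card E → Odd (Nat.card D) → ∃ g : H, E = D.map (MulAut.conj g).toMonoidHom)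
    (A B : Subgroup H) (hA : IsMulCommutative A) (hBc : IsMulCommutative B)
    (hcard : Nat.card A = Nat.card B)
    (hsyl : (Nat.card A).factorization 2 = (Nat.card H).factorization 2) :
    ∃ g : H, B = A.map (MulAut.conj g).toMonoidHom := by
  have hF2 : Fact (Nat.Prime 2) := ⟨Nat.prime_two⟩
  obtain ⟨A₂, D, hA₂A, hDA, hA₂p, hDodd, hAcard, hAsup⟩ := exists_two_odd_decomp A hA
  obtain ⟨B₂, E, hB₂B, hEB, hB₂p, hEodd, hBcard, hBsup⟩ := exists_two_odd_decomp B hBc
  obtain ⟨a, ha⟩ := IsPGroup.iff_card.1 hA₂p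
  obtain ⟨b, hb⟩ := IsPGroup.iff_card.1 hB₂p
  have ha' : a = (Nat.card A).factorization 2 := factorization_two_of_decomp hDodd a ha hAcard
  have hb' : b = (Nat.card B).factorization 2 := factorization_two_of_decomp hEodd b hb hBcard
  have hab : a = b := by rw [ha', hb', hcard]
  have hDE : Nat.card D = Nat.card E := by
    have h1 : Nat.card A₂ * Nat.card D = Nat.card B₂ * Nat.card E := by
      rw [hAcard, hBcard, hcard]
    rw [ha, hb, hab] at h1
    exact Nat.eq_of_mul_eq_mul_left (by positivity) h1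
  have hDc : IsMulCommutative D := by
    rw [isMulCommutative_iff]
    intro x y
    have := (isMulCommutative_iff.1 hA) ⟨x, hDA x.2⟩ ⟨y, hDA y.2⟩
    have h2 : (x : H) * (y : H) = (y : H) * (x : H) := congrArg Subtype.val this
    exact Subtype.ext h2
  have hEc : IsMulCommutative E := by
    rw [isMulCommutative_iff]
    intro x y
    have := (isMulCommutative_iff.1 hBc) ⟨x, hEB x.2⟩ ⟨y, hEB y.2⟩
    have h2 : (x : H) * (y : H) = (y : H) * (x : H) := congrArg Subtype.val this
    exact Subtype.ext h2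
  obtain ⟨g, hg⟩ := hodd D E hDc hEc hDE hDodd
  set A₂' : Subgroup H := A₂.map (MulAut.conj g).toMonoidHom with hA₂'
  set C : Subgroup H := Subgroup.centralizer (E : Set H) with hC
  have hA₂'C : A₂' ≤ C := by
    rintro _ ⟨x, hx, rfl⟩
    rw [hC, Subgroup.mem_centralizer_iff]
    intro e he
    rw [SetLike.mem_coe, hg] at he
    obtain ⟨d, hd, rfl⟩ := he
    have h1 := (isMulCommutative_iff.1 hA) ⟨d, hDA hd⟩ ⟨x, hA₂A hx⟩
    have h2 : d * x = x * d := congrArg Subtype.val h1
    show MulAut.conj g d * MulAut.conj g x = MulAut.conj g x * MulAut.conj g d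
    rw [← map_mul, ← map_mul, h2]
  have hB₂C : B₂ ≤ C := by
    intro x hx
    rw [hC, Subgroup.mem_centralizer_iff]
    intro e he
    have h1 := (isMulCommutative_iff.1 hBc) ⟨e, hEB he⟩ ⟨x, hB₂B hx⟩
    exact congrArg Subtype.val h1
  have hB₂card : Nat.card B₂ = 2 ^ (Nat.card (⊤ : Subgroup H)).factorization 2 := by
    rw [Subgroup.card_top, hb, hb', ← hcard, hsyl]
  have hB₂card' : Nat.card B₂ = 2 ^ (Nat.card C).factorization 2 :=
    Cfsg.Agent.Lead.card_eq_ppart_of_le hB₂C le_top hB₂p hB₂card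
  have hA₂'p : IsPGroup 2 A₂' := hA₂p.map _
  obtain ⟨m, hmC, hm⟩ := Cfsg.Agent.Lead.exists_conj_le_of_card_eq_ppart hB₂C hB₂card' hA₂'C hA₂'p
  have hmeq : A₂'.map (MulAut.conj m).toMonoidHom = B₂ := by
    apply Subgroup.eq_of_le_of_card_ge hm
    rw [Cfsg.Agent.Lead.card_map_conj, hA₂', Cfsg.Agent.Lead.card_map_conj, ha, hb, hab]
  refine ⟨m * g, ?_⟩
  rw [← map_conj_mul, ← hAsup, Subgroup.map_sup, Subgroup.map_sup, ← hg, ← hA₂', hmeq,
    map_conj_of_mem_centralizer E m hmC, hBsup]

end Cfsg.Agent.Helper8.BStar
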