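import Mathlib
import Cfsg.Agent.Helper8.BStarG

set_option autoImplicit false

/-!
Quotients of solvable `BS`-groups are `BS`-groups.
-/

namespace Cfsg.Agent.Helper8.BStar

open Subgroup

section

variable {G : Type*} [Group G] [Finite G]

omit [Finite G] in
/-- without elements of order `4`, every `2`-element squares to `1` -/
theorem sq_eq_one_of_no_four (h4 : ¬ ∃ x : G, orderOf x = 4) (g : G) (j : ℕ)
    (hg : orderOf g = 2 ^ j) : g ^ 2 = 1 := by
  rcases Nat.lt_or_ge j 2 with hj | hj
  · interval_cases j
    · rw [pow_zero, orderOf_eq_one_iff] at hg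
      rw [hg, one_pow]
    · rw [pow_one] at hg
      rw [← hg]; exact pow_orderOf_eq_one g
  · exfalso
    apply h4
    refine ⟨g ^ 2 ^ (j - 2), ?_⟩
    rw [orderOf_pow_of_dvd (by positivity) (by rw [hg]; exact pow_dvd_pow 2 (by omega)), hg,
      Nat.pow_div (by omega) (by norm_num)]
    have : j - (j - 2) = 2 := by omega
    rw [this]

omit [Finite G] in
theorem card_comap_mk (N : Subgroup G) [N.Normal] (A : Subgroup (G ⧸ N)) :
    Nat.card (A.comap (QuotientGroup.mk' N)) = Nat.card N * Nat.card A := by
  set T : Subgroup G := A.comap (QuotientGroup.mk' N) with hT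
  have hNT : N ≤ T := by
    intro m hm
    rw [hT, Subgroup.mem_comap]
    have : QuotientGroup.mk' N m = 1 := by
      rw [QuotientGroup.mk'_apply, QuotientGroup.eq_one_iff]; exact hm
    rw [this]; exact A.one_mem
  have hrel : N.relIndex T = Nat.card A := by
    have h1 := Subgroup.relIndex_ker (K := T) (QuotientGroup.mk' N)
    rw [QuotientGroup.ker_mk'] at h1
    rw [h1, hT, Subgroup.map_comap_eq_self_of_surjective (QuotientGroup.mk'_surjective N)]
  rw [card_eq_card_mul_relIndex hNT, hrel]

/-- the quotient by a minimal normal `2`-subgroup -/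
theorem bs_quotient_of_two_group (hB : BS G) (hsol : Group.IsSolvable G) (N : Subgroup G)
    [hNn : N.Normal] (hN : N ≠ ⊥)
    (hmin : ∀ K : Subgroup G, K.Normal → K ≤ N → K = ⊥ ∨ K = N) (hNc : IsMulCommutative N)
    (hN2 : IsPGroup 2 N) : BS (G ⧸ N) := by
  have hF2 : Fact (Nat.Prime 2) := ⟨Nat.prime_two⟩
  have h2N : 2 ∣ Nat.card N := by
    obtain ⟨k, hk⟩ := IsPGroup.iff_card.1 hN2
    have hk0 : k ≠ 0 := by
      rintro rfl
      rw [pow_zero] at hk
      exact hN (Subgroup.eq_bot_of_card_eq N hk)
    rw [hk]; exact dvd_pow_self 2 hk0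
  by_cases h4 : ∃ x : G, orderOf x = 4
  · obtain ⟨x, hx⟩ := h4
    have huniq := invol_unique hB N hNc h2N x hx
    have hNcard : Nat.card N = 2 := card_eq_two_of_invol_unique N hN hmin hN2 huniq
    have h8 := two_subgroup_cyclic_or_card hB hsol x hx
    by_cases hcyc : ∀ C : Subgroup G, IsPGroup 2 C → IsCyclic C
    · intro A B hA hBc hcard
      exact conj_of_hcyc hB N A B hA hBc hcard
        (fun p hp hpN _ C _ hC => by
          rw [hNcard] at hpN
          obtain rfl := (Nat.prime_dvd_prime_iff_eq hp Nat.prime_two).1 hpN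
          exact hcyc C hC)
        (fun p hp hpN _ C _ hC => by
          rw [hNcard] at hpN
          obtain rfl := (Nat.prime_dvd_prime_iff_eq hp Nat.prime_two).1 hpN
          exact hcyc C hC)
    · push Not at hcyc
      obtain ⟨C₀, hC₀p, hC₀⟩ := hcyc
      -- the `2`-part of `|G ⧸ N|` divides `4`
      have h8q : ¬ 8 ∣ Nat.card (G ⧸ N) := by
        intro hdvd
        obtain ⟨P, hP⟩ := hC₀p.exists_le_sylow
        have hPc : ¬ IsCyclic (P : Subgroup G) := fun h => hC₀ (isCyclic_of_le hP h)
        have hP8 : Nat.card (P : Subgroup G) ∣ 8 := (h8 P P.isPGroup').resolve_left hPc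
        have h16 : 2 ^ 4 ∣ Nat.card G := by
          rw [← Subgroup.card_mul_index N, hNcard, Subgroup.index_eq_card]
          obtain ⟨t, ht⟩ := hdvd
          rw [ht]
          exact ⟨t, by ring⟩
        have h4le := (Nat.Prime.pow_dvd_iff_le_factorization Nat.prime_two Nat.card_pos.ne').1 h16
        have hPcard := P.card_eq_multiplicity
        have h5 : 2 ^ 4 ∣ Nat.card (P : Subgroup G) := by
          rw [hPcard]; exact pow_dvd_pow 2 h4le
        have := h5.trans hP8
        omega
      -- abelian subgroups of odd order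
      have hodd : ∀ D E : Subgroup (G ⧸ N), IsMulCommutative D → IsMulCommutative E →
          Nat.card D = Nat.card E → Odd (Nat.card D) →
          ∃ g : G ⧸ N, E = D.map (MulAut.conj g).toMonoidHom := by
        intro D E hD hE hDE hDodd
        have hEodd : Odd (Nat.card E) := hDE ▸ hDodd
        exact conj_of_hcyc hB N D E hD hE hDE
          (fun p hp hpN hpD C _ hC => by
            exfalso
            rw [hNcard] at hpN
            obtain rfl := (Nat.prime_dvd_prime_iff_eq hp Nat.prime_two).1 hpN
            rcases hDodd with ⟨t, ht⟩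
            omega)
          (fun p hp hpN hpE C _ hC => by
            exfalso
            rw [hNcard] at hpN
            obtain rfl := (Nat.prime_dvd_prime_iff_eq hp Nat.prime_two).1 hpN
            rcases hEodd with ⟨t, ht⟩
            omega)
      -- small `2`-subgroups are cyclic
      have hsmall : ∀ A : Subgroup (G ⧸ N), ¬ 4 ∣ Nat.card A → ∀ C : Subgroup G,
          C ≤ A.comap (QuotientGroup.mk' N) → IsPGroup 2 C → IsCyclic C := by
        intro A h4A C hCle hC
        apply isCyclic_of_card_le_four hC (huniq_subgroup huniq C)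
        obtain ⟨k, hk⟩ := IsPGroup.iff_card.1 hC
        have h1 : Nat.card C ∣ 2 * Nat.card A := by
          rw [← hNcard, ← card_comap_mk]
          exact Subgroup.card_dvd_of_le hCle
        rw [hk] at h1 ⊢
        have hk2 : k ≤ 2 := by
          by_contra hlt
          push Not at hlt
          have h2 : 2 ^ 3 ∣ 2 * Nat.card A := (pow_dvd_pow 2 (by omega)).trans h1
          apply h4A
          obtain ⟨t, ht⟩ := h2
          exact ⟨t, by omega⟩
        calc 2 ^ k ≤ 2 ^ 2 := Nat.pow_le_pow_right (by norm_num) hk2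
          _ = 4 := by norm_num
      intro A B hA hBc hcard
      by_cases h4A : 4 ∣ Nat.card A
      · apply conj_of_odd_conj hodd A B hA hBc hcard
        have hAne : Nat.card A ≠ 0 := Nat.card_pos.ne'
        have hHne : Nat.card (G ⧸ N) ≠ 0 := Nat.card_pos.ne'
        have h1 : 2 ≤ (Nat.card A).factorization 2 :=
          (Nat.Prime.pow_dvd_iff_le_factorization Nat.prime_two hAne).1 (by norm_num; exact h4A)
        have h2 : (Nat.card A).factorization 2 ≤ (Nat.card (G ⧸ N)).factorization 2 :=
          (Nat.factorization_le_iff_dvd hAne hHne).2 (Subgroup.card_subgroup_dvd_card A) 2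
        have h3 : ¬ 3 ≤ (Nat.card (G ⧸ N)).factorization 2 := by
          intro h
          apply h8q
          have := (Nat.Prime.pow_dvd_iff_le_factorization Nat.prime_two hHne).2 h
          norm_num at this
          exact this
        omega
      · have h4B : ¬ 4 ∣ Nat.card B := hcard ▸ h4A
        exact conj_of_hcyc hB N A B hA hBc hcard
          (fun p hp hpN _ C hCle hC => by
            rw [hNcard] at hpN
            obtain rfl := (Nat.prime_dvd_prime_iff_eq hp Nat.prime_two).1 hpN
            exact hsmall A h4A C hCle hC)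
          (fun p hp hpN _ C hCle hC => by
            rw [hNcard] at hpN
            obtain rfl := (Nat.prime_dvd_prime_iff_eq hp Nat.prime_two).1 hpN
            exact hsmall B h4B C hCle hC)
  · -- no element of order `4`: the quotient has odd order
    have hoddq : ¬ 2 ∣ Nat.card (G ⧸ N) := by
      intro hdvd
      obtain ⟨gb, hgb⟩ := exists_prime_orderOf_dvd_card' 2 hdvd
      obtain ⟨g, rfl⟩ := QuotientGroup.mk'_surjective N gb
      have hg2 : g ^ 2 ∈ N := by
        rw [← QuotientGroup.eq_one_iff, ← QuotientGroup.mk'_apply, map_pow, ← hgb]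
        exact pow_orderOf_eq_one _
      obtain ⟨j, hj⟩ := hN2 ⟨g ^ 2, hg2⟩
      have hj' : (g ^ 2) ^ 2 ^ j = 1 := congrArg Subtype.val hj
      have hj2 : g ^ 2 ^ (j + 1) = 1 := by
        rw [pow_succ', pow_mul]; exact hj'
      obtain ⟨i, -, hi⟩ := (Nat.dvd_prime_pow Nat.prime_two).1 (orderOf_dvd_of_pow_eq_one hj2)
      have hsq : g ^ 2 = 1 := sq_eq_one_of_no_four h4 g i hi
      have hgN : g ∈ N := by
        have h1 : orderOf g ∣ 2 := orderOf_dvd_of_pow_eq_one hsq
        rcases (Nat.dvd_prime Nat.prime_two).1 h1 with h | h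
        · rw [orderOf_eq_one_iff] at h
          rw [h]; exact N.one_mem
        · exact mem_of_orderOf_eq_prime hB N Nat.prime_two h2N h
      have h1 : QuotientGroup.mk' N g = 1 := by
        rw [QuotientGroup.mk'_apply, QuotientGroup.eq_one_iff]; exact hgN
      rw [h1, orderOf_one] at hgb
      omega
    have hNcard2 : ∀ p : ℕ, p.Prime → p ∣ Nat.card N → p = 2 := by
      intro p hp hpN
      obtain ⟨k, hk⟩ := IsPGroup.iff_card.1 hN2
      rw [hk] at hpN
      exact (Nat.prime_dvd_prime_iff_eq hp Nat.prime_two).1 (hp.dvd_of_dvd_pow hpN)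
    intro A B hA hBc hcard
    exact conj_of_hcyc hB N A B hA hBc hcard
      (fun p hp hpN hpA C _ hC => by
        exfalso
        obtain rfl := hNcard2 p hp hpN
        exact hoddq (hpA.trans (Subgroup.card_subgroup_dvd_card A)))
      (fun p hp hpN hpB C _ hC => by
        exfalso
        obtain rfl := hNcard2 p hp hpN
        exact hoddq (hpB.trans (Subgroup.card_subgroup_dvd_card B)))

/-- the quotient by a minimal normal subgroup -/
theorem bs_quotient_min_normal (hB : BS G) (hsol : Group.IsSolvable G) (N : Subgroup G)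
    [hNn : N.Normal] (hN : N ≠ ⊥)
    (hmin : ∀ K : Subgroup G, K.Normal → K ≤ N → K = ⊥ ∨ K = N) : BS (G ⧸ N) := by
  have hNc := minimal_normal_comm hsol N hN hmin
  obtain ⟨p, hp, hNp⟩ := minimal_normal_pgroup N hN hmin hNc
  by_cases hp2 : p = 2
  · subst hp2
    exact bs_quotient_of_two_group hB hsol N hN hmin hNc hNp
  · apply bs_quotient_of_odd hB N
    have hpF : Fact p.Prime := ⟨hp⟩
    obtain ⟨k, hk⟩ := IsPGroup.iff_card.1 hNp
    rw [hk]
    exact (hp.odd_of_ne_two hp2).pow

end

universe u

/-- **S3912**, by induction on the order. -/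
theorem bs_quotient_aux : ∀ n : ℕ, ∀ (G : Type u) [Group G] [Finite G], Nat.card G ≤ n → BS G →
    Group.IsSolvable G → ∀ (M : Subgroup G) [M.Normal], BS (G ⧸ M) := by
  intro n
  induction n with
  | zero =>
    intro G _ _ hcard
    have : 0 < Nat.card G := Nat.card_pos
    omega
  | succ n ih =>
    intro G _ _ hcard hB hsol M hMn
    by_cases hM : M = ⊥
    · subst hM
      exact hB.of_mulEquiv QuotientGroup.quotientBot.symm
    · obtain ⟨N, hNn, hN1, hNM, hmin⟩ := exists_min_normal_le M hM
      have hBN : BS (G ⧸ N) := bs_quotient_min_normal hB hsol N hN1 hmin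
      have hcardN : Nat.card (G ⧸ N) ≤ n := by
        have h1 := Subgroup.card_mul_index N
        rw [Subgroup.index_eq_card] at h1
        have h2 : 2 ≤ Nat.card N := by
          have h3 : Nat.card N ≠ 1 := fun h => hN1 (Subgroup.eq_bot_of_card_eq N h)
          have h4 : 0 < Nat.card N := Nat.card_pos
          omega
        have h5 : 0 < Nat.card (G ⧸ N) := Nat.card_pos
        nlinarith
      have hsolN : Group.IsSolvable (G ⧸ N) := inferInstance
      have h6 := ih (G ⧸ N) hcardN hBN hsolN (M.map (QuotientGroup.mk' N))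
      exact h6.of_mulEquiv (QuotientGroup.quotientQuotientEquivQuotient N M hNM)

theorem bs_quotient {G : Type u} [Group G] [Finite G] (hB : BS G) (hsol : Group.IsSolvable G)
    (M : Subgroup G) [M.Normal] : BS (G ⧸ M) :=
  bs_quotient_aux (Nat.card G) G le_rfl hB hsol M

end Cfsg.Agent.Helper8.BStar
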