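import Mathlib
import Cfsg.Agent.Helper8.BTWeylA
import Cfsg.Agent.Helper1.BTFilt
import Cfsg.Agent.Helper7.ChevConj
import Cfsg.Agent.Helper7.ChevBorel
import Cfsg.Agent.Helper7.ChevWeyl

set_option autoImplicit false
set_option linter.unusedSectionVars false
set_option linter.unusedVariables false

/-!
Transport of the matrix filtrations `btf_U` by the elements of the monomial subgroup `N` of a
Chevalley group: the element `h * n_w` (`h` diagonal, `n_w` the product of the `n_{p_i}` along a word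
`w`) carries the weight `btw_wtI psi` to the weight `btw_wtI (btw_car w psi)`.
-/

namespace Cfsg.Agent.Helper8.BTW

open Cfsg Cfsg.Lie Cfsg.Agent.Helper7.Chev Cfsg.Agent.Helper1.BTFilt Matrix

section generic

variable {ι : Type*} [Fintype ι] [DecidableEq ι] {F : Type*} [CommRing F]

/-- The matrix `n` carries the weight `φ` to the weight `φ'`: a non-zero entry in position `(a, b)`
forces `φ' a = φ b`. -/
def btw_Carr (n : Matrix ι ι F) (φ φ' : ι → ℝ) : Prop := ∀ a b, n a b ≠ 0 → φ' a = φ b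

theorem btw_Carr_one (φ : ι → ℝ) : btw_Carr (1 : Matrix ι ι F) φ φ := by
  intro a b h
  by_cases hab : a = b
  · rw [hab]
  · exact absurd (Matrix.one_apply_ne hab) h

theorem btw_Carr_diagonal (d : ι → F) (φ : ι → ℝ) : btw_Carr (Matrix.diagonal d) φ φ := by
  intro a b h
  by_cases hab : a = b
  · rw [hab]
  · exact absurd (Matrix.diagonal_apply_ne d hab) h

theorem btw_Carr_mul {n m : Matrix ι ι F} {φ φ' φ'' : ι → ℝ} (hn : btw_Carr n φ φ')
    (hm : btw_Carr m φ' φ'') : btw_Carr (m * n) φ φ'' := by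
  intro a b h
  obtain ⟨c, h1, h2⟩ := btf_mul_apply_ne_zero h
  rw [hm a c h1, hn c b h2]

theorem btw_Carr_congr {n : Matrix ι ι F} {φ φ' χ χ' : ι → ℝ} (h : btw_Carr n φ φ')
    (e : ∀ a, φ a = χ a) (e' : ∀ a, φ' a = χ' a) : btw_Carr n χ χ' := by
  intro a b hab
  rw [← e', ← e]
  exact h a b hab

/-- An invertible matrix carrying `φ` to `φ'` in both directions. -/
def btw_Carr2 (n : GL ι F) (φ φ' : ι → ℝ) : Prop :=
  btw_Carr (n : Matrix ι ι F) φ φ' ∧ btw_Carr ((n⁻¹ : GL ι F) : Matrix ι ι F) φ' φ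

theorem btw_Carr2_one (φ : ι → ℝ) : btw_Carr2 (1 : GL ι F) φ φ := by
  refine ⟨?_, ?_⟩
  · rw [Units.val_one]; exact btw_Carr_one φ
  · rw [inv_one, Units.val_one]; exact btw_Carr_one φ

theorem btw_Carr2_mul {n m : GL ι F} {φ φ' φ'' : ι → ℝ} (hn : btw_Carr2 n φ φ')
    (hm : btw_Carr2 m φ' φ'') : btw_Carr2 (m * n) φ φ'' := by
  refine ⟨?_, ?_⟩
  · rw [Units.val_mul]; exact btw_Carr_mul hn.1 hm.1
  · rw [_root_.mul_inv_rev, Units.val_mul]; exact btw_Carr_mul hm.2 hn.2

theorem btw_Carr2_inv {n : GL ι F} {φ φ' : ι → ℝ} (hn : btw_Carr2 n φ φ') :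
    btw_Carr2 n⁻¹ φ' φ := by
  refine ⟨hn.2, ?_⟩
  rw [inv_inv]; exact hn.1

theorem btw_Carr2_congr {n : GL ι F} {φ φ' χ χ' : ι → ℝ} (h : btw_Carr2 n φ φ')
    (e : ∀ a, φ a = χ a) (e' : ∀ a, φ' a = χ' a) : btw_Carr2 n χ χ' :=
  ⟨btw_Carr_congr h.1 e e', btw_Carr_congr h.2 e' e⟩

/-- Transport of the filtration subgroup along an element carrying `φ` to `φ'`. -/
theorem btw_Carr2_transport [Finite F] {n u : GL ι F} {φ φ' : ι → ℝ} (hn : btw_Carr2 n φ φ')
    (hu : u ∈ (btf_USub φ : Subgroup (GL ι F))) : n * u * n⁻¹ ∈ (btf_USub φ' : Subgroup (GL ι F)) :=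
  btf_USub_transport hn.1 hn.2 hu

/-- An element carrying `φ` to itself lies in the Levi part of the filtration. -/
theorem btw_Carr2_mem_LSub [Finite F] {n : GL ι F} {φ : ι → ℝ} (hn : btw_Carr2 n φ φ) :
    n ∈ (btf_LSub φ : Subgroup (GL ι F)) := by
  rw [btf_mem_LSub]
  intro a b hab
  exact hn.1 a b hab

end generic

variable {D : ChevalleyDatum} {F : Type*} [Field F]

/-- The shape of the non-zero entries of `n_{p_i}`. -/
theorem btw_nsimple_entry (hG : Good2 D) {i : ℕ} (hi : i < D.rank) {a b : D.Idx}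
    (h : D.nMat F (D.simple i) 1 a b ≠ 0) :
    (∃ j' j : Fin D.rank, a = Sum.inl j' ∧ b = Sum.inl j) ∨
      (∃ s' s : Fin D.nroots, a = Sum.inr s' ∧ b = Sum.inr s ∧
        (s' : ℕ) = (tabOf D).refl (D.simple i) s) := by
  obtain ⟨η, _, _, _, _, hM⟩ := n_simple_matrix (F := F) hG hi
  rw [hM] at h
  rcases a with j' | s'
  · rcases b with j | s
    · exact Or.inl ⟨j', j, rfl, rfl⟩
    · exfalso
      apply h
      simp
  · rcases b with j | s
    · exfalso
      apply h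
      simp
    · right
      refine ⟨s', s, rfl, rfl, ?_⟩
      by_contra hne
      apply h
      have hne' : ¬ (s' : ℕ) = D.reflectRoot i s := by
        rw [hG.reflectRoot_eq hi s.2]
        exact hne
      simp [hne']

/-- `n_{p_i}` carries `psi` to `psi ∘ s_i`, in both directions. -/
theorem btw_Carr_nsimple (hG : Good2 D) {i : ℕ} (hi : i < D.rank) (psi : ℕ → ℝ) :
    btw_Carr (D.nMat F (D.simple i) 1) (btw_wtI D psi) (btw_wtI D (btw_car D [i] psi)) ∧
    btw_Carr (D.nMat F (D.simple i) 1) (btw_wtI D (btw_car D [i] psi)) (btw_wtI D psi) := by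
  refine ⟨?_, ?_⟩
  · intro a b h
    rcases btw_nsimple_entry hG hi h with ⟨j', j, rfl, rfl⟩ | ⟨s', s, rfl, rfl, hs⟩
    · rfl
    · show btw_car D [i] psi s'.val = psi s.val
      rw [btw_car_cons, btw_car_nil, hs, hG.refl_refl hi s.2]
  · intro a b h
    rcases btw_nsimple_entry hG hi h with ⟨j', j, rfl, rfl⟩ | ⟨s', s, rfl, rfl, hs⟩
    · rfl
    · show psi s'.val = btw_car D [i] psi s.val
      rw [btw_car_cons, btw_car_nil, hs]

/-- Diagonal elements carry every weight to itself. -/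
theorem btw_Carr2_diagonal (hG1 : Good1 D) {h : GL D.Idx F} (hh : h ∈ D.diagonalSubgroup F)
    (φ : D.Idx → ℝ) : btw_Carr2 h φ φ := by
  obtain ⟨d, hd⟩ := diagonalSubgroup_diag hG1 hh
  obtain ⟨d', hd'⟩ := diagonalSubgroup_diag hG1 (inv_mem hh)
  refine ⟨?_, ?_⟩
  · rw [hd]; exact btw_Carr_diagonal d φ
  · rw [hd']; exact btw_Carr_diagonal d' φ

/-- The element `n_{p_i}` of the general linear group carries `psi` to `psi ∘ s_i`. -/
theorem btw_Carr2_nGL (hG : Good2 D) {i : ℕ} (hi : i < D.rank) (psi : ℕ → ℝ) :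
    btw_Carr2 (nGL hG.toGood1 (hG.toGood1.simple_lt hi) : GL D.Idx F)
      (btw_wtI D psi) (btw_wtI D (btw_car D [i] psi)) := by
  have hG1 := hG.toGood1
  have hp := hG1.simple_lt hi
  obtain ⟨h1, h2⟩ := btw_Carr_nsimple (F := F) hG hi psi
  refine ⟨?_, ?_⟩
  · rw [nGL_coe]; exact h1
  · -- `n⁻¹ = n * (n * n)⁻¹` and `(n * n)⁻¹` is diagonal
    have hsq := nGL_sq_mem (F := F) hG hp
    have e : ((nGL hG1 hp : GL D.Idx F))⁻¹ =
        nGL hG1 hp * (nGL hG1 hp * nGL hG1 hp)⁻¹ := by group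
    rw [e, Units.val_mul, nGL_coe]
    exact btw_Carr_mul (btw_Carr2_diagonal hG1 (inv_mem hsq) _).1 h2

/-- The element `n_w` of a word carries `psi` to `btw_car w psi`. -/
theorem btw_Carr2_nWordGL (hG : Good2 D) (psi : ℕ → ℝ) {w : List ℕ} (hw : ∀ i ∈ w, i < D.rank) :
    btw_Carr2 (nWordGL hG w : GL D.Idx F) (btw_wtI D psi) (btw_wtI D (btw_car D w psi)) := by
  induction w with
  | nil =>
    rw [nWordGL_nil]
    exact btw_Carr2_one _
  | cons i w ih =>
    have hi : i < D.rank := hw i (List.mem_cons_self)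
    have hw' : ∀ j ∈ w, j < D.rank := fun j hj => hw j (List.mem_cons_of_mem _ hj)
    rw [nWordGL_cons hG hi]
    exact btw_Carr2_mul (ih hw') (btw_Carr2_nGL hG hi (btw_car D w psi))

/-- The element `h * n_w` of `N` carries `psi` to `btw_car w psi`. -/
theorem btw_Carr2_mono (hG : Good2 D) (psi : ℕ → ℝ) {w : List ℕ} (hw : ∀ i ∈ w, i < D.rank)
    {h : GL D.Idx F} (hh : h ∈ D.diagonalSubgroup F) :
    btw_Carr2 (h * nWordGL hG w : GL D.Idx F) (btw_wtI D psi) (btw_wtI D (btw_car D w psi)) :=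
  btw_Carr2_mul (btw_Carr2_nWordGL hG psi hw) (btw_Carr2_diagonal hG.toGood1 hh _)

/-- Transport of the filtration subgroups by the elements of `N`. -/
theorem btw_transport [Finite F] (hG : Good2 D) (psi : ℕ → ℝ) {w : List ℕ}
    (hw : ∀ i ∈ w, i < D.rank) {h : GL D.Idx F} (hh : h ∈ D.diagonalSubgroup F) {u : GL D.Idx F}
    (hu : u ∈ (btf_USub (btw_wtI D psi) : Subgroup (GL D.Idx F))) :
    (h * nWordGL hG w) * u * (h * nWordGL hG w)⁻¹ ∈
      (btf_USub (btw_wtI D (btw_car D w psi)) : Subgroup (GL D.Idx F)) :=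
  btw_Carr2_transport (btw_Carr2_mono hG psi hw hh) hu

/-- Two functions on root indices agreeing below `nroots` give the same weight. -/
theorem btw_wtI_congr {psi chi : ℕ → ℝ} (h : ∀ s < D.nroots, psi s = chi s) (a : D.Idx) :
    btw_wtI D psi a = btw_wtI D chi a := by
  rcases a with j | s
  · rfl
  · exact h s.val s.2

/-- An element of `N` whose word fixes `psi` lies in the Levi part of the filtration of `psi`. -/
theorem btw_mem_LSub_of_fix [Finite F] (hG : Good2 D) (psi : ℕ → ℝ) {w : List ℕ}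
    (hw : ∀ i ∈ w, i < D.rank) {h : GL D.Idx F} (hh : h ∈ D.diagonalSubgroup F)
    (hfix : ∀ s < D.nroots, btw_car D w psi s = psi s) :
    h * nWordGL hG w ∈ (btf_LSub (btw_wtI D psi) : Subgroup (GL D.Idx F)) :=
  btw_Carr2_mem_LSub (btw_Carr2_congr (btw_Carr2_mono hG psi hw hh) (fun _ => rfl)
    (btw_wtI_congr hfix))

end Cfsg.Agent.Helper8.BTW
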