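import Mathlib
import Cfsg.Agent.Helper8.BTWeylA
import Cfsg.Agent.Helper7.ChevPara

set_option autoImplicit false
set_option linter.unusedSectionVars false
set_option linter.unusedVariables false

/-!
Every real functional on the root lattice of a Chevalley datum has a dominant conjugate under the
group generated by the fundamental reflections (descent on the number of positive roots on which the
functional is negative).
-/

namespace Cfsg.Agent.Helper8.BTW

open Cfsg Cfsg.Lie Cfsg.Agent.Helper7.Chev

variable {D : ChevalleyDatum}

/-- The parameter `lam` is dominant: its functional is non-negative on the fundamental roots. -/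
def btw_Dom (D : ChevalleyDatum) (lam : ℕ → ℝ) : Prop :=
  ∀ i < D.rank, 0 ≤ btw_phi D lam (D.simple i)

open Classical in
/-- The set of the positive roots on which the functional of `lam` is negative. -/
noncomputable def btw_negSet (D : ChevalleyDatum) (lam : ℕ → ℝ) : Finset ℕ :=
  (Finset.range D.nroots).filter (fun r => D.nroots / 2 ≤ r ∧ btw_phi D lam r < 0)

theorem btw_mem_negSet {lam : ℕ → ℝ} {r : ℕ} :
    r ∈ btw_negSet D lam ↔ r < D.nroots ∧ D.nroots / 2 ≤ r ∧ btw_phi D lam r < 0 := by
  unfold btw_negSet
  rw [Finset.mem_filter, Finset.mem_range]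

theorem btw_wact_append (a b : List ℕ) (lam : ℕ → ℝ) :
    btw_wact D (a ++ b) lam = btw_wact D a (btw_wact D b lam) := by
  induction a with
  | nil => rfl
  | cons i a ih =>
    change btw_sref D i (btw_wact D (a ++ b) lam) = btw_sref D i (btw_wact D a (btw_wact D b lam))
    rw [ih]

section descent

variable (hG : Good2 D) (hT : T0 D) (h6 : (tabOf D).T6)

include hG hT h6 in
/-- A fundamental reflection in a root on which the functional is negative decreases the number of
positive roots on which the functional is negative. -/
theorem btw_negSet_sref_lt (lam : ℕ → ℝ) {i : ℕ} (hi : i < D.rank)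
    (hneg : btw_phi D lam (D.simple i) < 0) :
    (btw_negSet D (btw_sref D i lam)).card < (btw_negSet D lam).card := by
  have hG1 := hG.toGood1
  have hp := hG1.simple_lt hi
  have hppos : D.nroots / 2 ≤ D.simple i := simple_pos hG1 hT hi
  have hpS : D.simple i ∈ btw_negSet D lam := btw_mem_negSet.mpr ⟨hp, hppos, hneg⟩
  have hle : (btw_negSet D (btw_sref D i lam)).card ≤ ((btw_negSet D lam).erase (D.simple i)).card := by
    apply Finset.card_le_card_of_injOn (fun r => (tabOf D).refl (D.simple i) r)
    · intro r hr
      obtain ⟨hr1, hr2, hr3⟩ := btw_mem_negSet.mp hr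
      have hrne : r ≠ D.simple i := by
        intro h
        rw [h, btw_phi_sref_simple hG lam hi] at hr3
        linarith
      have h6' := h6 i hi r hr1 hr2 hrne
      have h6a : D.nroots / 2 ≤ (tabOf D).refl (D.simple i) r := h6'.1
      have h6b : (tabOf D).refl (D.simple i) r ≠ D.simple i := h6'.2
      show (tabOf D).refl (D.simple i) r ∈ (btw_negSet D lam).erase (D.simple i)
      rw [Finset.mem_erase]
      refine ⟨h6b, btw_mem_negSet.mpr ⟨hG.refl_lt hi hr1, h6a, ?_⟩⟩
      rw [← btw_phi_sref hG lam hi hr1]
      exact hr3
    · intro r hr r' hr' h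
      have hr1 := (btw_mem_negSet.mp hr).1
      have hr1' := (btw_mem_negSet.mp hr').1
      have h' : (tabOf D).refl (D.simple i) r = (tabOf D).refl (D.simple i) r' := h
      rw [← hG.refl_refl hi hr1, h', hG.refl_refl hi hr1']
  exact lt_of_le_of_lt hle (Finset.card_erase_lt_of_mem hpS)

include hG hT h6 in
/-- Every parameter has a dominant conjugate. -/
theorem btw_exists_dominant (lam : ℕ → ℝ) :
    ∃ w : List ℕ, (∀ i ∈ w, i < D.rank) ∧ btw_Dom D (btw_wact D w lam) := by
  induction hn : (btw_negSet D lam).card using Nat.strong_induction_on generalizing lam with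
  | _ n ih =>
    by_cases hdom : btw_Dom D lam
    · exact ⟨[], by simp, hdom⟩
    · unfold btw_Dom at hdom
      push Not at hdom
      obtain ⟨i, hi, hneg⟩ := hdom
      have hlt := btw_negSet_sref_lt hG hT h6 lam hi hneg
      obtain ⟨w, hw, hwd⟩ := ih _ (hn ▸ hlt) (btw_sref D i lam) rfl
      refine ⟨w ++ [i], ?_, ?_⟩
      · intro j hj
        rcases List.mem_append.mp hj with h | h
        · exact hw j h
        · rw [List.mem_singleton] at h
          rw [h]; exact hi
      · rw [btw_wact_append]
        exact hwd

end descent

end Cfsg.Agent.Helper8.BTW
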