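import Mathlib
import Cfsg.Agent.Helper8.BTWeylB
import Cfsg.Agent.Helper8.BTWeylC
import Cfsg.Agent.Helper5.BTGlue
import Cfsg.Agent.Helper7.ChevGood2
import Cfsg.Agent.Helper7.ChevT0
import Cfsg.Agent.Helper7.ChevT6
import Cfsg.Agent.Helper7.ChevT9

set_option autoImplicit false
set_option linter.unusedSectionVars false
set_option linter.unusedVariables false

/-!
The three Weyl-group hypotheses `hNT`, `hWord`, `hDomW` of `h5bt_main_weyl`, for the seven data.
-/

namespace Cfsg.Agent.Helper8.BTW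

open Cfsg Cfsg.Lie Cfsg.Agent.Helper7.Chev Cfsg.Agent.Helper1.BTFilt Cfsg.Agent.Helper5.BTGlue Matrix

variable {D : ChevalleyDatum} {F : Type*} [Field F]

/-- The transport property of `h * n_w` in the shape used by the optimisation theorem. -/
theorem btw_wordTransport (hG : Good2 D) {w : List ℕ} (hw : ∀ i ∈ w, i < D.rank)
    {h : GL D.Idx F} (hh : h ∈ D.diagonalSubgroup F) :
    h5bt_WordTransport D (h * nWordGL hG w : GL D.Idx F) w :=
  ⟨fun psi => (btw_Carr2_mono hG psi hw hh).1, fun psi => (btw_Carr2_mono hG psi hw hh).2⟩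

/-- Hypothesis `hNT`: every element of `N` carries weights along some word. -/
theorem btw_hNT (D : ChevalleyDatum)
    (hD : D ∈ [chevG2, chevB2, chevD4, chevF4, chevE6, chevE7, chevE8]) :
    ∀ n ∈ D.monomialSubgroup F, ∃ w : List ℕ, (∀ i ∈ w, i < D.rank) ∧
      h5bt_WordTransport D n w := by
  have hG := good2_of_mem D hD
  have hT := T0_of_mem D hD
  have h9 := T9_of_mem D hD
  intro n hn
  obtain ⟨h, hh, w, hw, rfl⟩ := monomialSubgroup_le_nWords (F := F) hG hT h9 hn
  exact ⟨w, hw, btw_wordTransport hG hw hh⟩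

/-- Hypothesis `hWord`: every word is realised in `N`. -/
theorem btw_hWord (D : ChevalleyDatum)
    (hD : D ∈ [chevG2, chevB2, chevD4, chevF4, chevE6, chevE7, chevE8]) :
    ∀ w : List ℕ, (∀ i ∈ w, i < D.rank) → ∃ n ∈ D.monomialSubgroup F,
      h5bt_WordTransport D n w := by
  have hG := good2_of_mem D hD
  intro w hw
  refine ⟨nWordGL hG w, nWordGL_mem hG w, ?_⟩
  have := btw_wordTransport (F := F) hG hw (one_mem (D.diagonalSubgroup F))
  rwa [one_mul] at this

/-- Hypothesis `hDomW`: every parameter has a dominant conjugate. -/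
theorem btw_hDomW (D : ChevalleyDatum)
    (hD : D ∈ [chevG2, chevB2, chevD4, chevF4, chevE6, chevE7, chevE8]) :
    ∀ lam : ℕ → ℝ, ∃ w : List ℕ, (∀ i ∈ w, i < D.rank) ∧
      ∀ i < D.rank, 0 ≤ btw_phi D (btw_wact D w lam) (D.simple i) :=
  fun lam => btw_exists_dominant (good2_of_mem D hD) (T0_of_mem D hD) (T6_of_mem D hD) lam

end Cfsg.Agent.Helper8.BTW
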