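import Mathlib

set_option autoImplicit false

/-!
The ascending fixed-point chain of a `p`-subgroup of `SL_n(F)` in characteristic `p`.
-/

namespace Cfsg.Agent.Helper8.BTFlag

open Matrix Module

variable {F : Type*} [Field F] {n : ℕ}

/-- the vectors moved by every element of `U` into `W`. -/
def nextSub (U : Subgroup (SpecialLinearGroup (Fin n) F)) (W : Submodule F (Fin n → F)) :
    Submodule F (Fin n → F) where
  carrier := {v | ∀ u ∈ U, (u : Matrix (Fin n) (Fin n) F).mulVec v - v ∈ W}
  add_mem' := by
    intro a b ha hb u hu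
    have : (u : Matrix (Fin n) (Fin n) F).mulVec (a + b) - (a + b) =
        ((u : Matrix (Fin n) (Fin n) F).mulVec a - a) +
          ((u : Matrix (Fin n) (Fin n) F).mulVec b - b) := by
      rw [Matrix.mulVec_add]; abel
    rw [this]
    exact W.add_mem (ha u hu) (hb u hu)
  zero_mem' := by
    intro u _
    rw [Matrix.mulVec_zero, sub_zero]
    exact W.zero_mem
  smul_mem' := by
    intro c a ha u hu
    have : (u : Matrix (Fin n) (Fin n) F).mulVec (c • a) - c • a =
        c • ((u : Matrix (Fin n) (Fin n) F).mulVec a - a) := by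
      rw [Matrix.mulVec_smul, smul_sub]
    rw [this]
    exact W.smul_mem c (ha u hu)

theorem mem_nextSub {U : Subgroup (SpecialLinearGroup (Fin n) F)} {W : Submodule F (Fin n → F)}
    {v : Fin n → F} :
    v ∈ nextSub U W ↔ ∀ u ∈ U, (u : Matrix (Fin n) (Fin n) F).mulVec v - v ∈ W := Iff.rfl

/-- the ascending chain. -/
def chain (U : Subgroup (SpecialLinearGroup (Fin n) F)) : ℕ → Submodule F (Fin n → F)
  | 0 => ⊥
  | i + 1 => nextSub U (chain U i)

theorem chain_zero (U : Subgroup (SpecialLinearGroup (Fin n) F)) : chain U 0 = ⊥ := rfl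

theorem chain_succ (U : Subgroup (SpecialLinearGroup (Fin n) F)) (i : ℕ) :
    chain U (i + 1) = nextSub U (chain U i) := rfl

theorem coe_mul' (a b : SpecialLinearGroup (Fin n) F) :
    ((a * b : SpecialLinearGroup (Fin n) F) : Matrix (Fin n) (Fin n) F) =
      (a : Matrix (Fin n) (Fin n) F) * (b : Matrix (Fin n) (Fin n) F) := rfl

theorem chain_invariant (U : Subgroup (SpecialLinearGroup (Fin n) F)) (i : ℕ) :
    ∀ u ∈ U, ∀ v ∈ chain U i, (u : Matrix (Fin n) (Fin n) F).mulVec v ∈ chain U i := by
  induction i with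
  | zero =>
    intro u _ v hv
    rw [chain_zero, Submodule.mem_bot] at hv ⊢
    rw [hv, Matrix.mulVec_zero]
  | succ i _ =>
    intro u hu v hv u' hu'
    have e : (u' : Matrix (Fin n) (Fin n) F).mulVec ((u : Matrix (Fin n) (Fin n) F).mulVec v) -
        (u : Matrix (Fin n) (Fin n) F).mulVec v =
        (((u' * u : SpecialLinearGroup (Fin n) F) : Matrix (Fin n) (Fin n) F).mulVec v - v) -
          ((u : Matrix (Fin n) (Fin n) F).mulVec v - v) := by
      rw [coe_mul', Matrix.mulVec_mulVec]; abel
    rw [e]
    exact (chain U i).sub_mem (hv _ (U.mul_mem hu' hu)) (hv u hu)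

theorem chain_le_succ (U : Subgroup (SpecialLinearGroup (Fin n) F)) (i : ℕ) :
    chain U i ≤ chain U (i + 1) := by
  intro v hv u hu
  exact (chain U i).sub_mem (chain_invariant U i u hu v hv) hv

theorem chain_mono (U : Subgroup (SpecialLinearGroup (Fin n) F)) : Monotone (chain U) :=
  monotone_nat_of_le_succ (chain_le_succ U)

theorem chain_normalizer (U : Subgroup (SpecialLinearGroup (Fin n) F)) (i : ℕ) :
    ∀ g ∈ Subgroup.normalizer (U : Set (SpecialLinearGroup (Fin n) F)), ∀ v ∈ chain U i,
      (g : Matrix (Fin n) (Fin n) F).mulVec v ∈ chain U i := by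
  induction i with
  | zero =>
    intro g _ v hv
    rw [chain_zero, Submodule.mem_bot] at hv ⊢
    rw [hv, Matrix.mulVec_zero]
  | succ i ih =>
    intro g hg v hv u hu
    have hgu : g⁻¹ * u * g ∈ U := by
      have := (Subgroup.mem_normalizer_iff.mp ((Subgroup.normalizer
        (U : Set (SpecialLinearGroup (Fin n) F))).inv_mem hg) u).mp hu
      rw [inv_inv] at this
      exact this
    have e : (u : Matrix (Fin n) (Fin n) F).mulVec ((g : Matrix (Fin n) (Fin n) F).mulVec v) -
        (g : Matrix (Fin n) (Fin n) F).mulVec v =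
        (g : Matrix (Fin n) (Fin n) F).mulVec
          (((g⁻¹ * u * g : SpecialLinearGroup (Fin n) F) : Matrix (Fin n) (Fin n) F).mulVec v
            - v) := by
      have e' : g * (g⁻¹ * u * g) = u * g := by group
      rw [Matrix.mulVec_sub, Matrix.mulVec_mulVec, Matrix.mulVec_mulVec, ← coe_mul', ← coe_mul',
        e']
    rw [e]
    exact ih g hg _ (hv _ hgu)

theorem map_chain (U : Subgroup (SpecialLinearGroup (Fin n) F)) (i : ℕ)
    (g : SpecialLinearGroup (Fin n) F)
    (hg : g ∈ Subgroup.normalizer (U : Set (SpecialLinearGroup (Fin n) F))) :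
    (chain U i).map (Matrix.mulVecLin (g : Matrix (Fin n) (Fin n) F)) = chain U i := by
  apply le_antisymm
  · rintro _ ⟨v, hv, rfl⟩
    rw [Matrix.mulVecLin_apply]
    exact chain_normalizer U i g hg v hv
  · intro v hv
    refine ⟨((g⁻¹ : SpecialLinearGroup (Fin n) F) : Matrix (Fin n) (Fin n) F).mulVec v,
      chain_normalizer U i g⁻¹ ((Subgroup.normalizer _).inv_mem hg) v hv, ?_⟩
    rw [Matrix.mulVecLin_apply, Matrix.mulVec_mulVec, ← coe_mul', mul_inv_cancel]
    exact Matrix.one_mulVec v

/-- the chain grows strictly until it reaches the top. -/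
theorem chain_lt_succ [Fintype F] (p : ℕ) [Fact p.Prime] [CharP F p]
    (U : Subgroup (SpecialLinearGroup (Fin n) F)) (hU : IsPGroup p ↥U) (i : ℕ)
    (hi : chain U i ≠ ⊤) : chain U i < chain U (i + 1) := by
  classical
  refine lt_of_le_of_ne (chain_le_succ U i) ?_
  intro heq
  obtain ⟨W, hW⟩ : ∃ W, W = chain U i := ⟨_, rfl⟩
  have hinv : ∀ u : ↥U, W ≤ W.comap (Matrix.mulVecLin ((u : SpecialLinearGroup (Fin n) F) :
      Matrix (Fin n) (Fin n) F)) := by
    intro u v hv
    rw [Submodule.mem_comap, Matrix.mulVecLin_apply, hW]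
    exact chain_invariant U i u.1 u.2 v (hW ▸ hv)
  letI act : MulAction ↥U ((Fin n → F) ⧸ W) :=
    { smul := fun u x => W.mapQ W (Matrix.mulVecLin ((u : SpecialLinearGroup (Fin n) F) :
        Matrix (Fin n) (Fin n) F)) (hinv u) x
      one_smul := by
        intro x
        induction x using Submodule.Quotient.induction_on with
        | H v =>
          show W.mapQ W _ _ (Submodule.Quotient.mk v) = _
          rw [Submodule.mapQ_apply, Matrix.mulVecLin_apply]
          congr 1
          exact Matrix.one_mulVec v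
      mul_smul := by
        intro a b x
        induction x using Submodule.Quotient.induction_on with
        | H v =>
          show W.mapQ W _ _ (Submodule.Quotient.mk v) =
            W.mapQ W _ _ (W.mapQ W _ _ (Submodule.Quotient.mk v))
          rw [Submodule.mapQ_apply, Submodule.mapQ_apply, Submodule.mapQ_apply,
            Matrix.mulVecLin_apply, Matrix.mulVecLin_apply, Matrix.mulVecLin_apply,
            Matrix.mulVec_mulVec]
          rfl }
  have hsmul : ∀ (u : ↥U) (v : Fin n → F), u • (Submodule.Quotient.mk v : (Fin n → F) ⧸ W) =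
      Submodule.Quotient.mk (((u : SpecialLinearGroup (Fin n) F) :
        Matrix (Fin n) (Fin n) F).mulVec v) := by
    intro u v
    show W.mapQ W _ _ (Submodule.Quotient.mk v) = _
    rw [Submodule.mapQ_apply, Matrix.mulVecLin_apply]
  have hp : p ∣ Nat.card ((Fin n → F) ⧸ W) := by
    haveI : Nontrivial ((Fin n → F) ⧸ W) :=
      Submodule.Quotient.nontrivial_iff.mpr (hW ▸ hi)
    have hpos : 0 < finrank F ((Fin n → F) ⧸ W) := Module.finrank_pos
    rw [Nat.card_eq_fintype_card, Module.card_eq_pow_finrank (K := F)]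
    obtain ⟨k, hk⟩ := FiniteField.card F p
    rw [hk.2]
    exact dvd_pow (dvd_pow_self p k.ne_zero) hpos.ne'
  have h0 : (0 : (Fin n → F) ⧸ W) ∈ MulAction.fixedPoints ↥U ((Fin n → F) ⧸ W) := by
    intro u
    have := hsmul u 0
    rw [Matrix.mulVec_zero] at this
    exact this
  obtain ⟨b, hb, hb0⟩ := hU.exists_fixed_point_of_prime_dvd_card_of_fixed_point _ hp h0
  induction b using Submodule.Quotient.induction_on with
  | H v =>
    have hvW : v ∉ W := by
      intro hv
      apply hb0
      exact ((Submodule.Quotient.mk_eq_zero W).mpr hv).symm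
    apply hvW
    rw [hW, heq, chain_succ, mem_nextSub]
    intro u hu
    have := hb ⟨u, hu⟩
    rw [hsmul, Submodule.Quotient.eq] at this
    rw [← hW]
    exact this

/-- the chain reaches the top. -/
theorem exists_chain_eq_top [Fintype F] (p : ℕ) [Fact p.Prime] [CharP F p]
    (U : Subgroup (SpecialLinearGroup (Fin n) F)) (hU : IsPGroup p ↥U) :
    ∃ m, chain U m = ⊤ := by
  have key : ∀ i, chain U i = ⊤ ∨ i ≤ finrank F (chain U i) := by
    intro i
    induction i with
    | zero => right; exact Nat.zero_le _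
    | succ i ih =>
      by_cases hi : chain U i = ⊤
      · left
        exact top_le_iff.mp (hi ▸ chain_le_succ U i)
      · right
        have hlt := Submodule.finrank_lt_finrank_of_lt (chain_lt_succ p U hU i hi)
        have := ih.resolve_left hi
        omega
  rcases key (n + 1) with h | h
  · exact ⟨_, h⟩
  · exfalso
    have := Submodule.finrank_le (chain U (n + 1))
    rw [Module.finrank_fintype_fun_eq_card, Fintype.card_fin] at this
    omega

end Cfsg.Agent.Helper8.BTFlag
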