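import Mathlib
import Cfsg.Agent.Helper2.D8cA

/-!
# Groups with an involution whose centralizer is dihedral of order 8: basic facts
(helper8; for S3035)
-/

set_option autoImplicit false

namespace Cfsg.Agent.Helper8.CD8

open DihedralGroup

/-- automorphism of `D₈` shifting the reflections -/
def shiftAut (k : ZMod 4) : DihedralGroup 4 ≃* DihedralGroup 4 where
  toFun x := match x with
    | r i => r i
    | sr i => sr (i + k)
  invFun x := match x with
    | r i => r i
    | sr i => sr (i - k)
  left_inv x := by cases x <;> simp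
  right_inv x := by cases x <;> simp
  map_mul' := by revert k; decide

theorem shiftAut_sr (k i : ZMod 4) : shiftAut k (sr i) = sr (i + k) := rfl

theorem shiftAut_r (k i : ZMod 4) : shiftAut k (r i) = r i := rfl

/-- involutions of `D₈` other than the central one are reflections -/
theorem invol_cases : ∀ x : DihedralGroup 4, x ^ 2 = 1 → x ≠ 1 → x ≠ r 2 → ∃ i, x = sr i := by
  decide

theorem all_cases : ∀ x : DihedralGroup 4, x = 1 ∨ x = r 1 ∨ x = r 2 ∨ x = r 1 * r 2 ∨
    x = sr 0 ∨ x = sr 1 ∨ x = r 2 * sr 0 ∨ x = r 2 * sr 1 := by decide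

variable {G : Type*} [Group G]

section basics

variable (z : G)
  (e : Subgroup.centralizer ({z} : Set G) ≃* DihedralGroup 4)

theorem z_mem : z ∈ Subgroup.centralizer ({z} : Set G) := by
  rw [Subgroup.mem_centralizer_iff]
  intro h hh
  rw [Set.mem_singleton_iff.mp hh]

theorem mem_cent_iff (x : G) : x ∈ Subgroup.centralizer ({z} : Set G) ↔ x * z = z * x := by
  rw [Subgroup.mem_centralizer_iff]
  constructor
  · intro h; exact (h z rfl).symm
  · intro h y hy; rw [Set.mem_singleton_iff.mp hy]; exact h.symm

/-- transport of an element of `D₈` to `G` -/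
noncomputable def el (d : DihedralGroup 4) : G := ((e.symm d : Subgroup.centralizer ({z} : Set G)) : G)

theorem el_mem (d : DihedralGroup 4) : el z e d ∈ Subgroup.centralizer ({z} : Set G) :=
  (e.symm d).2

theorem el_mul (d d' : DihedralGroup 4) : el z e (d * d') = el z e d * el z e d' := by
  unfold el; rw [map_mul]; rfl

theorem el_one : el z e 1 = 1 := by
  unfold el; rw [map_one]; rfl

theorem el_inv (d : DihedralGroup 4) : el z e d⁻¹ = (el z e d)⁻¹ := by
  unfold el; rw [map_inv]; rfl

theorem el_pow (d : DihedralGroup 4) (n : ℕ) : el z e (d ^ n) = (el z e d) ^ n := by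
  unfold el; rw [map_pow]; rfl

theorem el_injective : Function.Injective (el z e) := by
  intro d d' h
  unfold el at h
  exact e.symm.injective (Subtype.ext h)

theorem el_apply (x : G) (hx : x ∈ Subgroup.centralizer ({z} : Set G)) :
    el z e (e ⟨x, hx⟩) = x := by
  unfold el; rw [e.symm_apply_apply]

theorem exists_el (x : G) (hx : x ∈ Subgroup.centralizer ({z} : Set G)) :
    ∃ d, el z e d = x := ⟨_, el_apply z e x hx⟩

theorem orderOf_el (d : DihedralGroup 4) : orderOf (el z e d) = orderOf d := by
  unfold el; rw [Subgroup.orderOf_coe, MulEquiv.orderOf_eq]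

theorem el_r_two (hz : orderOf z = 2) : el z e (r 2) = z := by
  have h := Cfsg.Agent.Helper2.D8cA.rot_sq z hz e
  rw [Cfsg.Agent.Helper2.D8cA.r_two_eq, el_pow]
  exact h

include e in
theorem card_cent : Nat.card (Subgroup.centralizer ({z} : Set G)) = 8 :=
  Cfsg.Agent.Helper2.D8cA.card_cent z e

end basics

end Cfsg.Agent.Helper8.CD8
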