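import Mathlib
import Cfsg.Agent.S3277
import Cfsg.Agent.Helper5.PPrimeCore
import Cfsg.Agent.Helper3.Basic

/-!
# Klein four-groups acting without fixed points; groups with a self-centralizing
Klein four-subgroup (helper8; for S3035)
-/

set_option autoImplicit false

namespace Cfsg.Agent.Helper8.CD8

variable {H : Type*} [Group H]

/-- an involution normalizing a finite subgroup and centralizing none of its nonidentity elements
inverts it -/
theorem inverts_of_fpf' [Finite H] (K : Subgroup H) {t : H} (htt : t * t = 1)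
    (hK : ∀ x ∈ K, t * x * t⁻¹ ∈ K) (hfpf : ∀ x ∈ K, x * t = t * x → x = 1) :
    ∀ x ∈ K, t * x * t⁻¹ = x⁻¹ := by
  have htinv : t⁻¹ = t := inv_eq_of_mul_eq_one_left htt
  let ψ : ↥K → ↥K := fun x => ⟨x.1⁻¹ * (t * x.1 * t⁻¹), mul_mem (inv_mem x.2) (hK x.1 x.2)⟩
  have hinj : Function.Injective ψ := by
    intro x y h
    have h1 : x.1⁻¹ * (t * x.1 * t⁻¹) = y.1⁻¹ * (t * y.1 * t⁻¹) := congrArg Subtype.val h
    have hw : x.1 * y.1⁻¹ ∈ K := mul_mem x.2 (inv_mem y.2)
    have hcomm : (x.1 * y.1⁻¹) * t = t * (x.1 * y.1⁻¹) := by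
      have e2 : t * (x.1 * y.1⁻¹) * t⁻¹ = x.1 * y.1⁻¹ := by
        calc t * (x.1 * y.1⁻¹) * t⁻¹ = x.1 * (x.1⁻¹ * (t * x.1 * t⁻¹)) *
              (y.1⁻¹ * (t * y.1 * t⁻¹))⁻¹ * y.1⁻¹ := by group
          _ = x.1 * y.1⁻¹ := by rw [h1]; group
      calc (x.1 * y.1⁻¹) * t = (t * (x.1 * y.1⁻¹) * t⁻¹) * t := by rw [e2]
        _ = t * (x.1 * y.1⁻¹) := by group
    have h3 := hfpf _ hw hcomm
    apply Subtype.ext
    calc x.1 = (x.1 * y.1⁻¹) * y.1 := by group
      _ = y.1 := by rw [h3, one_mul]
  intro z hz
  obtain ⟨y, hy⟩ := (Finite.injective_iff_surjective.mp hinj) ⟨z, hz⟩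
  have hy' : y.1⁻¹ * (t * y.1 * t⁻¹) = z := congrArg Subtype.val hy
  rw [← hy', htinv]
  calc t * (y.1⁻¹ * (t * y.1 * t)) * t = (t * y.1⁻¹ * t) * y.1 * (t * t) := by group
    _ = (t * y.1⁻¹ * t) * y.1 := by rw [htt, mul_one]
    _ = (y.1⁻¹ * (t * y.1 * t))⁻¹ := by
      rw [mul_inv_rev, mul_inv_rev, mul_inv_rev, inv_inv, htinv]; group

/-- a normal subgroup on which the three involutions of a Klein four-group act without fixed
points is trivial -/
theorem eq_bot_of_klein_fpf [Finite H] (K : Subgroup H) [hKn : K.Normal] (x y : H)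
    (hx : x * x = 1) (hy : y * y = 1)
    (h1 : ∀ n ∈ K, n * x = x * n → n = 1) (h2 : ∀ n ∈ K, n * y = y * n → n = 1)
    (h3 : ∀ n ∈ K, n * (x * y) = (x * y) * n → n = 1) : K = ⊥ := by
  have hix := inverts_of_fpf' K hx (fun n hn => hKn.conj_mem n hn x) h1
  have hiy := inverts_of_fpf' K hy (fun n hn => hKn.conj_mem n hn y) h2
  rw [Subgroup.eq_bot_iff_forall]
  intro n hn
  apply h3 n hn
  have hyn := hiy n hn
  have hxn := hix n⁻¹ (K.inv_mem hn)
  rw [inv_inv] at hxn
  have hxinv : x⁻¹ = x := inv_eq_of_mul_eq_one_left hx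
  have hyinv : y⁻¹ = y := inv_eq_of_mul_eq_one_left hy
  have e1 : (x * y) * n * (x * y)⁻¹ = n := by
    calc (x * y) * n * (x * y)⁻¹ = x * (y * n * y⁻¹) * x⁻¹ := by group
      _ = n := by rw [hyn, hxn]
  calc n * (x * y) = ((x * y) * n * (x * y)⁻¹) * (x * y) := by rw [e1]
    _ = (x * y) * n := by group

theorem two_pow_eq_four {n i k : ℕ} (hi : ¬ 2 ∣ i) (hk : Odd k) (h : 2 ^ n * i = 4 * k) :
    2 ^ n = 4 := by
  obtain ⟨j, rfl⟩ := hk
  rcases n with _ | _ | _ | n
  · exfalso; apply hi; simp at h; omega
  · exfalso; apply hi; simp at h; omega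
  · norm_num
  · exfalso
    have : 2 ^ (n + 3) * i = 8 * (2 ^ n * i) := by ring
    rw [this] at h
    omega

/-- a finite group of order `4k`, `k` odd, with an involution whose centralizer is a Klein
four-group all of whose involutions have centralizer of order 4: the order is 4 or 12, or the group
is `A₅` -/
theorem klein_cent_cases [Finite H] (x : H) (hx : orderOf x = 2)
    (hC4 : Nat.card ↥(Subgroup.centralizer ({x} : Set H)) = 4)
    (hCe : ∀ c ∈ Subgroup.centralizer ({x} : Set H), c ^ 2 = 1)
    (h2 : ∀ c ∈ Subgroup.centralizer ({x} : Set H), c ≠ 1 →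
      Nat.card ↥(Subgroup.centralizer ({c} : Set H)) = 4)
    (k : ℕ) (hk : Odd k) (hcard : Nat.card H = 4 * k) :
    Nat.card H = 4 ∨ Nat.card H = 12 ∨ Nonempty (H ≃* ↥(alternatingGroup (Fin 5))) := by
  classical
  have : Fact (Nat.Prime 2) := ⟨Nat.prime_two⟩
  set V := Subgroup.centralizer ({x} : Set H) with hV
  have hxx : x * x = 1 := by rw [← sq, ← hx]; exact pow_orderOf_eq_one x
  have hx1 : x ≠ 1 := by intro h; rw [h, orderOf_one] at hx; omega
  have hxV : x ∈ V := Subgroup.mem_centralizer_singleton_iff.mpr rfl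
  -- a second involution
  obtain ⟨y, hyV, hy1, hyx⟩ : ∃ y ∈ V, y ≠ 1 ∧ y ≠ x := by
    by_contra hcon
    push Not at hcon
    have hsub : (V : Set H) ⊆ ({1, x} : Set H) := by
      intro y hy
      by_cases h : y = 1
      · simp [h]
      · simp [hcon y hy h]
    have h1 : Nat.card V = (V : Set H).ncard := (Nat.card_coe_set_eq (V : Set H))
    have h2' : (V : Set H).ncard ≤ ({1, x} : Set H).ncard := Set.ncard_le_ncard hsub (Set.toFinite _)
    have h3 : ({1, x} : Set H).ncard = 2 := Set.ncard_pair hx1.symm
    omega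
  have hyy : y * y = 1 := by rw [← sq]; exact hCe y hyV
  have hyx' : y * x = x * y := Subgroup.mem_centralizer_singleton_iff.mp hyV
  have hxyV : x * y ∈ V := mul_mem hxV hyV
  have hxy1 : x * y ≠ 1 := by
    intro h
    apply hyx
    have : y = x⁻¹ := by rw [eq_inv_iff_mul_eq_one, hyx', h]
    rw [this]; exact inv_eq_of_mul_eq_one_left hxx
  -- fixed point freeness on odd subgroups
  have hfpf : ∀ (K : Subgroup H), Odd (Nat.card K) → ∀ c ∈ V, c ≠ 1 →
      ∀ n ∈ K, n * c = c * n → n = 1 := by
    intro K hK c hc hc1 n hn hcomm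
    have h4 := h2 c hc hc1
    have hnC : n ∈ Subgroup.centralizer ({c} : Set H) :=
      Subgroup.mem_centralizer_singleton_iff.mpr hcomm
    have hd1 : orderOf n ∣ 4 := by
      have := Subgroup.orderOf_dvd_natCard _ hnC
      rwa [h4] at this
    have hd2 : orderOf n ∣ Nat.card K := Subgroup.orderOf_dvd_natCard _ hn
    have hodd : Odd (orderOf n) := hK.of_dvd_nat hd2
    have hone : orderOf n = 1 := by
      have hle : orderOf n ≤ 4 := Nat.le_of_dvd (by norm_num) hd1
      obtain ⟨j, hj⟩ := hodd
      have hj' : j = 0 ∨ j = 1 := by omega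
      rcases hj' with rfl | rfl
      · omega
      · exfalso
        rw [hj] at hd1
        norm_num at hd1
    exact orderOf_eq_one_iff.mp hone
  have hodd_bot : ∀ (K : Subgroup H), K.Normal → Odd (Nat.card K) → K = ⊥ := by
    intro K hKn hK
    exact eq_bot_of_klein_fpf K x y hxx hyy (hfpf K hK x hxV hx1) (hfpf K hK y hyV hy1)
      (hfpf K hK (x * y) hxyV hxy1)
  by_cases hnc : Cfsg.HasNormalPComplement 2 H
  · left
    obtain ⟨P, N, hN, hcompl⟩ := hnc
    have h1 : Nat.card N * Nat.card (P : Subgroup H) = Nat.card H := hcompl.card_mul_card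
    have hP4 : Nat.card (P : Subgroup H) = 4 := by
      obtain ⟨n, hn⟩ := IsPGroup.iff_card.mp P.2
      have hidx := P.not_dvd_index
      have hmul := (P : Subgroup H).card_mul_index
      rw [hcard, hn] at hmul
      rw [hn]
      exact two_pow_eq_four hidx hk hmul
    have hNk : Nat.card N = k := by
      rw [hP4, hcard] at h1; omega
    have hNodd : Odd (Nat.card N) := by rw [hNk]; exact hk
    have hb := hodd_bot N hN hNodd
    rw [hb, Subgroup.card_bot, hP4] at h1
    omega
  · by_cases hne : ∀ E : Subgroup H, E.Normal → Cfsg.IsElementaryAbelian 2 E →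
        Nat.card ↥E ≠ 2 ∧ Nat.card ↥E ≠ 4
    · right; right
      exact Cfsg.Agent.S3277.result x hx hC4 hCe hnc hne
    · push Not at hne
      obtain ⟨E, hEn, hEe, hE⟩ := hne
      have hE24 : Nat.card E = 2 ∨ Nat.card E = 4 := by
        by_cases h : Nat.card E = 2
        · left; exact h
        · right; exact hE h
      rcases hE24 with hE2 | hE4
      · -- a central involution
        left
        obtain ⟨c, hc1, hcu⟩ := (Nat.card_eq_two_iff' (1 : E)).mp hE2
        have hcen : ∀ g : H, g * (c : H) * g⁻¹ = c := by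
          intro g
          have hmem : g * (c : H) * g⁻¹ ∈ E := hEn.conj_mem _ c.2 g
          have hne1 : (⟨g * (c : H) * g⁻¹, hmem⟩ : E) ≠ 1 := by
            intro h
            apply hc1
            have h' : g * (c : H) * g⁻¹ = 1 := congrArg Subtype.val h
            apply Subtype.ext
            have : (c : H) = g⁻¹ * (g * (c : H) * g⁻¹) * g := by group
            rw [this, h']; simp
          exact congrArg Subtype.val (hcu _ hne1)
        have hcV : (c : H) ∈ V := by
          rw [hV, Subgroup.mem_centralizer_singleton_iff]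
          have := hcen x⁻¹
          rw [inv_inv] at this
          calc (c : H) * x = x * (x⁻¹ * (c : H) * x) := by group
            _ = x * c := by rw [this]
        have hcne : (c : H) ≠ 1 := fun h => hc1 (Subtype.ext h)
        have h4 := h2 c hcV hcne
        have htop : Subgroup.centralizer ({(c : H)} : Set H) = ⊤ := by
          rw [eq_top_iff]
          intro g _
          rw [Subgroup.mem_centralizer_singleton_iff]
          have := hcen g
          calc g * (c : H) = (g * (c : H) * g⁻¹) * g := by group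
            _ = c * g := by rw [this]
        rw [htop, Subgroup.card_top] at h4
        exact h4
      · -- `E = V` is normal
        have hsup : Nat.card ↥(V ⊔ E) ∣ 16 := by
          have := Cfsg.Agent.Helper5.card_sup_dvd_of_normal V E
          rwa [hC4, hE4] at this
        have hsup2 : Nat.card ↥(V ⊔ E) ∣ 4 * k := hcard ▸ Subgroup.card_subgroup_dvd_card _
        have hsup4 : Nat.card ↥(V ⊔ E) ∣ 4 := by
          have hd := Nat.dvd_gcd hsup hsup2
          have hg : Nat.gcd 16 (4 * k) = 4 := by
            obtain ⟨j, rfl⟩ := hk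
            rw [show (16 : ℕ) = 4 * 4 by norm_num, Nat.gcd_mul_left]
            have hc : Nat.Coprime 4 (2 * j + 1) := by
              rw [show (4 : ℕ) = 2 ^ 2 by norm_num]
              apply Nat.Coprime.pow_left
              rw [Nat.coprime_two_left]
              exact ⟨j, rfl⟩
            rw [hc.gcd_eq_one]
          rwa [hg] at hd
        have hVE : V = V ⊔ E := by
          apply Subgroup.eq_of_le_of_card_ge le_sup_left
          rw [hC4]; exact Nat.le_of_dvd (by norm_num) hsup4
        have hEV : E ≤ V := by rw [hVE]; exact le_sup_right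
        have hEV' : E = V := Subgroup.eq_of_le_of_card_ge hEV (by rw [hC4, hE4])
        have hxE : x ∈ E := hEV' ▸ hxV
        have hidx : (Subgroup.centralizer ({x} : Set H)).index ≤ 3 := by
          rw [Cfsg.Agent.Helper3.index_centralizer_singleton_eq_card_conj]
          have hsub : {y : H | IsConj x y} ⊆ (E : Set H) \ {1} := by
            intro y hy
            obtain ⟨g, hg⟩ := isConj_iff.mp hy
            refine ⟨?_, ?_⟩
            · rw [← hg]; exact hEn.conj_mem _ hxE g
            · intro h1
              rw [Set.mem_singleton_iff] at h1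
              apply hx1
              rw [h1] at hg
              have : x = g⁻¹ * (g * x * g⁻¹) * g := by group
              rw [this, hg]; simp
          have h1 : Nat.card {y : H // IsConj x y} = {y : H | IsConj x y}.ncard :=
            (Nat.card_coe_set_eq _).symm
          have h2' : {y : H | IsConj x y}.ncard ≤ ((E : Set H) \ {1}).ncard :=
            Set.ncard_le_ncard hsub (Set.toFinite _)
          have h3 : ((E : Set H) \ {1}).ncard = (E : Set H).ncard - 1 :=
            Set.ncard_sdiff_singleton_of_mem E.one_mem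
          have h4 : (E : Set H).ncard = 4 := by
            rw [← hE4]; exact (Nat.card_coe_set_eq _)
          omega
        have hmul := (Subgroup.centralizer ({x} : Set H)).card_mul_index
        rw [hC4, hcard] at hmul
        have hk3 : k ≤ 3 := by
          have : (Subgroup.centralizer ({x} : Set H)).index = k := by omega
          omega
        obtain ⟨j, rfl⟩ := hk
        have hj : j = 0 ∨ j = 1 := by omega
        rcases hj with rfl | rfl
        · left; omega
        · right; left; omega

end Cfsg.Agent.Helper8.CD8
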