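import Mathlib
import Cfsg.Agent.Helper8.CD8A
import Cfsg.Agent.Helper8.CD8B
import Cfsg.Agent.S1181
import Cfsg.Agent.Helper2.ZStarH
import Cfsg.Agent.Helper1.Fitting

/-!
# Groups with an involution whose centralizer is dihedral of order 8: the isolated case and
general facts in the non-isolated case (helper8; for S3035)
-/

set_option autoImplicit false

namespace Cfsg.Agent.Helper8.CD8

open DihedralGroup
open scoped Pointwise

variable {G : Type*} [Group G]

section isolated

/-- the isolated case: Glauberman's `Z*`-theorem -/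
theorem isolated_case [Finite G] (z : G) (hiso : Cfsg.IsIsolatedInvolution z) :
    Subgroup.centralizer ({z} : Set G) ⊔ Cfsg.oddCore G = ⊤ := by
  have : Fact (Nat.Prime 2) := ⟨Nat.prime_two⟩
  set N := Cfsg.oddCore G with hN
  have hNn : N.Normal := Cfsg.Agent.Helper1.pPrimeCore_normal 2
  have hzN : z ∉ N := by
    intro h
    have h1 : orderOf z ∣ Nat.card N := Subgroup.orderOf_dvd_natCard _ h
    rw [hiso.1] at h1
    exact Cfsg.Agent.Helper5.not_dvd_card_pPrimeCore (G := G) 2 h1
  have h1 := (Cfsg.Agent.S1181.result z hiso N hzN).1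
  have h2 : Subgroup.centralizer ({(QuotientGroup.mk z : G ⧸ N)} : Set (G ⧸ N)) = ⊤ := by
    rw [eq_top_iff]
    intro q _
    obtain ⟨g, rfl⟩ := QuotientGroup.mk_surjective q
    rw [Subgroup.mem_centralizer_singleton_iff]
    have h3 := Cfsg.Agent.Helper2.ZStar.glauberman_zstar z hiso g
    have h4 : (QuotientGroup.mk (z * g * z⁻¹ * g⁻¹) : G ⧸ N) = 1 :=
      (QuotientGroup.eq_one_iff _).mpr h3
    rw [QuotientGroup.mk_mul, QuotientGroup.mk_mul, QuotientGroup.mk_mul, QuotientGroup.mk_inv,
      QuotientGroup.mk_inv] at h4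
    have h5 : (QuotientGroup.mk z : G ⧸ N) * QuotientGroup.mk g =
        QuotientGroup.mk g * QuotientGroup.mk z := by
      calc (QuotientGroup.mk z : G ⧸ N) * QuotientGroup.mk g
          = ((QuotientGroup.mk z : G ⧸ N) * QuotientGroup.mk g * (QuotientGroup.mk z)⁻¹ *
              (QuotientGroup.mk g)⁻¹) * (QuotientGroup.mk g * QuotientGroup.mk z) := by group
        _ = QuotientGroup.mk g * QuotientGroup.mk z := by rw [h4, one_mul]
    exact h5.symm
  rw [h2] at h1
  have h3 := QuotientGroup.comap_map_mk' N (Subgroup.centralizer ({z} : Set G))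
  rw [← h1, Subgroup.comap_top] at h3
  rw [sup_comm]
  exact h3.symm

end isolated

section noniso

variable [Finite G] (z : G) (hz : orderOf z = 2)
  (e : Subgroup.centralizer ({z} : Set G) ≃* DihedralGroup 4)

omit [Finite G] in
include hz in
theorem z_mul_self : z * z = 1 := by rw [← sq, ← hz]; exact pow_orderOf_eq_one z

omit [Finite G] in
include hz in
theorem z_ne_one : z ≠ 1 := by intro h; rw [h, orderOf_one] at hz; omega

omit [Finite G] in
include hz e in
/-- if `z` is not isolated, we may choose the isomorphism so that the reflection `sr 0` is conjugate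
to `z` -/
theorem exists_equiv_conj (hni : ¬ Cfsg.IsIsolatedInvolution z) :
    ∃ e' : Subgroup.centralizer ({z} : Set G) ≃* DihedralGroup 4, IsConj z (el z e' (sr 0)) := by
  unfold Cfsg.IsIsolatedInvolution at hni
  push Not at hni
  obtain ⟨g, hcomm, hne⟩ := hni hz
  set v := g * z * g⁻¹ with hv
  have hvC : v ∈ Subgroup.centralizer ({z} : Set G) := (mem_cent_iff z v).mpr hcomm.eq.symm
  have hvv : v * v = 1 := by
    rw [hv]
    calc g * z * g⁻¹ * (g * z * g⁻¹) = g * (z * z) * g⁻¹ := by group
      _ = 1 := by rw [z_mul_self z hz]; group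
  have hv1 : v ≠ 1 := by
    intro h
    apply z_ne_one z hz
    have : z = g⁻¹ * v * g := by rw [hv]; group
    rw [this, h]; group
  have h1 : (e ⟨v, hvC⟩) ^ 2 = 1 := by
    rw [← map_pow]
    have : (⟨v, hvC⟩ : Subgroup.centralizer ({z} : Set G)) ^ 2 = 1 := by
      apply Subtype.ext
      simp only [Subgroup.coe_pow, Subgroup.coe_one]
      rw [sq]; exact hvv
    rw [this, map_one]
  have h2 : e ⟨v, hvC⟩ ≠ 1 := by
    intro h
    apply hv1
    have := el_apply z e v hvC
    rw [h, el_one] at this
    exact this.symm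
  have h3 : e ⟨v, hvC⟩ ≠ r 2 := by
    intro h
    apply hne
    have := el_apply z e v hvC
    rw [h, el_r_two z e hz] at this
    exact this.symm
  obtain ⟨i, hi⟩ := invol_cases _ h1 h2 h3
  refine ⟨e.trans (shiftAut (-i)), ?_⟩
  have h4 : (e.trans (shiftAut (-i))) ⟨v, hvC⟩ = sr 0 := by
    rw [MulEquiv.trans_apply, hi, shiftAut_sr, add_neg_cancel]
  have h5 : el z (e.trans (shiftAut (-i))) (sr 0) = v := by
    rw [← h4]; exact el_apply z _ v hvC
  rw [h5]
  exact isConj_iff.mpr ⟨g, rfl⟩

end noniso

section ctx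

variable [Finite G] (z : G) (hz : orderOf z = 2)
  (e : Subgroup.centralizer ({z} : Set G) ≃* DihedralGroup 4)

omit [Finite G] in
theorem isConj_el (c d : DihedralGroup 4) : IsConj (el z e d) (el z e (c * d * c⁻¹)) := by
  rw [isConj_iff]
  exact ⟨el z e c, by rw [el_mul, el_mul, el_inv]⟩

include e in
/-- conjugate elements have centralizers of the same order -/
theorem card_cent_of_conj (x : G) (hx : IsConj z x) :
    Nat.card (Subgroup.centralizer ({x} : Set G)) = 8 := by
  have h1 := Cfsg.Agent.Helper3.index_centralizer_singleton_eq_card_conj x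
  have h2 := Cfsg.Agent.Helper3.index_centralizer_singleton_eq_card_conj z
  have h3 : Nat.card {y : G // IsConj x y} = Nat.card {y : G // IsConj z y} := by
    apply Nat.card_congr
    refine Equiv.subtypeEquivRight ?_
    intro y
    exact ⟨fun h => hx.trans h, fun h => hx.symm.trans h⟩
  have h4 := (Subgroup.centralizer ({x} : Set G)).card_mul_index
  have h5 := (Subgroup.centralizer ({z} : Set G)).card_mul_index
  rw [h1, h3, ← h2] at h4
  rw [card_cent z e] at h5
  have hpos : 0 < (Subgroup.centralizer ({z} : Set G)).index :=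
    Nat.pos_of_ne_zero Subgroup.index_ne_zero_of_finite
  have : Nat.card (Subgroup.centralizer ({x} : Set G)) * (Subgroup.centralizer ({z} : Set G)).index
      = 8 * (Subgroup.centralizer ({z} : Set G)).index := by rw [h4, h5]
  exact Nat.eq_of_mul_eq_mul_right hpos this

include e in
/-- an element of an odd order subgroup commuting with a conjugate of `z` is trivial -/
theorem eq_one_of_odd_of_comm (N : Subgroup G) (hN : Odd (Nat.card N)) (x : G) (hx : IsConj z x)
    (n : G) (hn : n ∈ N) (hcomm : n * x = x * n) : n = 1 := by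
  have h8 := card_cent_of_conj z e x hx
  have hnC : n ∈ Subgroup.centralizer ({x} : Set G) :=
    Subgroup.mem_centralizer_singleton_iff.mpr hcomm
  have hd1 : orderOf n ∣ 8 := by
    have := Subgroup.orderOf_dvd_natCard _ hnC
    rwa [h8] at this
  have hd2 : orderOf n ∣ Nat.card N := Subgroup.orderOf_dvd_natCard _ hn
  have hodd : Odd (orderOf n) := hN.of_dvd_nat hd2
  rw [show (8 : ℕ) = 2 ^ 3 by norm_num] at hd1
  obtain ⟨j, _, hj⟩ := (Nat.dvd_prime_pow Nat.prime_two).mp hd1
  rw [hj] at hodd
  have hj0 : j = 0 := by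
    by_contra h
    have : Even (2 ^ j) := (Nat.even_pow' h).mpr even_two
    exact (Nat.not_odd_iff_even.mpr this) hodd
  rw [hj0, pow_zero] at hj
  exact orderOf_eq_one_iff.mp hj

variable (hb : IsConj z (el z e (sr 0)))

omit [Finite G] in
include hz hb in
theorem isConj_zb : IsConj z (z * el z e (sr 0)) := by
  have h1 : z * el z e (sr 0) = el z e (r 1 * sr 0 * (r 1)⁻¹) := by
    have h0 : el z e (r 2) * el z e (sr 0) = el z e (r 1 * sr 0 * (r 1)⁻¹) := by
      rw [← el_mul]
      congr 1
    rw [el_r_two z e hz] at h0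
    exact h0
  rw [h1]
  exact hb.trans (isConj_el z e _ _)

include hz hb in
/-- a normal subgroup of odd order is trivial -/
theorem odd_normal_eq_bot (N : Subgroup G) [N.Normal] (hN : Odd (Nat.card N)) : N = ⊥ := by
  have hbb : el z e (sr 0) * el z e (sr 0) = 1 := by
    rw [← el_mul, ← el_one z e]
    congr 1
  exact eq_bot_of_klein_fpf N z (el z e (sr 0)) (z_mul_self z hz) hbb
    (eq_one_of_odd_of_comm z e N hN z (IsConj.refl z))
    (eq_one_of_odd_of_comm z e N hN _ hb)
    (eq_one_of_odd_of_comm z e N hN _ (isConj_zb z hz e hb))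

include hz e in
/-- every involution is conjugate into the centralizer of `z` -/
theorem exists_conj_mem_cent (s : G) (hs : orderOf s = 2) :
    ∃ g : G, g * s * g⁻¹ ∈ Subgroup.centralizer ({z} : Set G) := by
  have : Fact (Nat.Prime 2) := ⟨Nat.prime_two⟩
  obtain ⟨P, hP⟩ := Cfsg.Agent.Helper2.D8cA.exists_sylow z hz e
  have hp : IsPGroup 2 (Subgroup.zpowers s) := by
    apply IsPGroup.of_card (n := 1)
    rw [Nat.card_zpowers, hs, pow_one]
  obtain ⟨Q, hQ⟩ := hp.exists_le_sylow
  obtain ⟨g, hg⟩ := MulAction.exists_smul_eq G Q P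
  refine ⟨g, ?_⟩
  have h1 : s ∈ (Q : Subgroup G) := hQ (Subgroup.mem_zpowers s)
  have h2 : MulAut.conj g • s ∈ MulAut.conj g • (Q : Subgroup G) :=
    Subgroup.smul_mem_pointwise_smul _ _ _ h1
  rw [← hP, ← hg, Sylow.smul_def, Sylow.pointwise_smul_def]
  rw [MulAut.smul_def, MulAut.conj_apply] at h2
  exact h2

end ctx

end Cfsg.Agent.Helper8.CD8
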