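import Mathlib
import Cfsg.Agent.Helper8.CD8C
import Cfsg.Agent.S0848
import Cfsg.Agent.S0495
import Cfsg.Agent.S0497
import Cfsg.Agent.S0255

/-!
# Groups with an involution whose centralizer is dihedral of order 8: the case of one class of
involutions (helper8; for S3035)
-/

set_option autoImplicit false
set_option linter.style.haveILetI false

namespace Cfsg.Agent.Helper8.CD8

open DihedralGroup
open scoped Pointwise

variable {G : Type*} [Group G]

section general

variable (z : G) (hz : orderOf z = 2)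
  (e : Subgroup.centralizer ({z} : Set G) ≃* DihedralGroup 4)

include hz in
/-- the involutions of the centralizer -/
theorem invol_cent_cases (s : G) (hs : s ∈ Subgroup.centralizer ({z} : Set G))
    (hss : s * s = 1) (hs1 : s ≠ 1) : s = z ∨ ∃ i, s = el z e (sr i) := by
  have hd := el_apply z e s hs
  set d := e ⟨s, hs⟩ with hdd
  have hd2 : d ^ 2 = 1 := by
    apply el_injective z e
    rw [el_pow, hd, el_one, sq, hss]
  have hd1 : d ≠ 1 := by
    intro h
    apply hs1
    rw [← hd, h, el_one]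
  by_cases hdr : d = r 2
  · left
    rw [← hd, hdr, el_r_two z e hz]
  · right
    obtain ⟨i, hi⟩ := invol_cases d hd2 hd1 hdr
    exact ⟨i, by rw [← hd, hi]⟩

include hz e in
/-- the centralizer of `z` is self-normalizing -/
theorem normalizer_cent_le :
    Subgroup.normalizer ((Subgroup.centralizer ({z} : Set G) : Subgroup G) : Set G) ≤
      Subgroup.centralizer ({z} : Set G) := by
  intro g hg
  rw [Subgroup.mem_normalizer_iff] at hg
  have h1 : g * z * g⁻¹ ∈ Subgroup.centralizer ({z} : Set G) := (hg z).mp (z_mem z)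
  have hcen : ∀ x ∈ Subgroup.centralizer ({z} : Set G),
      x * (g * z * g⁻¹) = (g * z * g⁻¹) * x := by
    intro x hx
    have h2 : g⁻¹ * x * g ∈ Subgroup.centralizer ({z} : Set G) := by
      rw [hg (g⁻¹ * x * g)]
      have : g * (g⁻¹ * x * g) * g⁻¹ = x := by group
      rw [this]; exact hx
    have h3 := (mem_cent_iff z _).mp h2
    calc x * (g * z * g⁻¹) = g * ((g⁻¹ * x * g) * z) * g⁻¹ := by group
      _ = g * (z * (g⁻¹ * x * g)) * g⁻¹ := by rw [h3]
      _ = (g * z * g⁻¹) * x := by group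
  have hd : ∀ y : DihedralGroup 4, e ⟨g * z * g⁻¹, h1⟩ * y = y * e ⟨g * z * g⁻¹, h1⟩ := by
    intro y
    obtain ⟨y', rfl⟩ := e.surjective y
    rw [← map_mul, ← map_mul]
    congr 1
    apply Subtype.ext
    simp only [Subgroup.coe_mul]
    exact (hcen y' y'.2).symm
  rcases Cfsg.Agent.Helper2.D8cA.center_d8 _ hd with h | h
  · exfalso
    have h4 := el_apply z e _ h1
    rw [h, el_one] at h4
    apply z_ne_one z hz
    have hz' : z = g⁻¹ * (g * z * g⁻¹) * g := by group
    rw [hz', ← h4]; group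
  · have h4 := el_apply z e _ h1
    rw [h, el_r_two z e hz] at h4
    rw [mem_cent_iff]
    calc g * z = (g * z * g⁻¹) * g := by group
      _ = z * g := by rw [← h4]

end general

section oneclass

variable [Finite G] (z : G) (hz : orderOf z = 2)
  (e : Subgroup.centralizer ({z} : Set G) ≃* DihedralGroup 4)
  (hb : IsConj z (el z e (sr 0))) (hw : IsConj z (el z e (sr 1)))

theorem sr_cases : ∀ i : ZMod 4, (sr i : DihedralGroup 4) = sr 0 ∨ sr i = sr 1 ∨
    sr i = r 1 * sr 0 * (r 1)⁻¹ ∨ sr i = r 1 * sr 1 * (r 1)⁻¹ := by decide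

omit [Finite G] in
include hb hw in
theorem isConj_el_sr (i : ZMod 4) : IsConj z (el z e (sr i)) := by
  rcases sr_cases i with h | h | h | h <;> rw [h]
  · exact hb
  · exact hw
  · exact hb.trans (isConj_el z e _ _)
  · exact hw.trans (isConj_el z e _ _)

include hz hb hw in
/-- all involutions are conjugate -/
theorem invol_conj (s : G) (hs : orderOf s = 2) : IsConj z s := by
  obtain ⟨g, hg⟩ := exists_conj_mem_cent z hz e s hs
  have hss : s * s = 1 := by rw [← sq, ← hs]; exact pow_orderOf_eq_one s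
  have hs1 : s ≠ 1 := by intro h; rw [h, orderOf_one] at hs; omega
  have h1 : (g * s * g⁻¹) * (g * s * g⁻¹) = 1 := by
    calc (g * s * g⁻¹) * (g * s * g⁻¹) = g * (s * s) * g⁻¹ := by group
      _ = 1 := by rw [hss]; group
  have h2 : g * s * g⁻¹ ≠ 1 := by
    intro h
    apply hs1
    have : s = g⁻¹ * (g * s * g⁻¹) * g := by group
    rw [this, h]; group
  have key : IsConj z (g * s * g⁻¹) := by
    rcases invol_cent_cases z hz e _ hg h1 h2 with h | ⟨i, h⟩
    · rw [h]
    · rw [h]; exact isConj_el_sr z e hb hw i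
  obtain ⟨c, hc⟩ := isConj_iff.mp key
  rw [isConj_iff]
  refine ⟨g⁻¹ * c, ?_⟩
  calc g⁻¹ * c * z * (g⁻¹ * c)⁻¹ = g⁻¹ * (c * z * c⁻¹) * g := by group
    _ = s := by rw [hc]; group

include hz hb hw in
/-- a normal subgroup containing `z` is everything -/
theorem normal_eq_top (N : Subgroup G) [hN : N.Normal] (hzN : z ∈ N) : N = ⊤ := by
  have : Fact (Nat.Prime 2) := ⟨Nat.prime_two⟩
  have hconj : ∀ x : G, IsConj z x → x ∈ N := by
    intro x hx
    obtain ⟨c, hc⟩ := isConj_iff.mp hx
    rw [← hc]; exact hN.conj_mem z hzN c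
  have hbN : el z e (sr 0) ∈ N := hconj _ hb
  have hwN : el z e (sr 1) ∈ N := hconj _ hw
  have haN : el z e (r 1) ∈ N := by
    have : (r 1 : DihedralGroup 4) = sr 0 * sr 1 := by decide
    rw [this, el_mul]; exact N.mul_mem hbN hwN
  have hCN : Subgroup.centralizer ({z} : Set G) ≤ N := by
    intro x hx
    obtain ⟨d, rfl⟩ := exists_el z e x hx
    rcases all_cases d with h | h | h | h | h | h | h | h <;> rw [h]
    · rw [el_one]; exact N.one_mem
    · exact haN
    · rw [el_r_two z e hz]; exact hzN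
    · rw [el_mul, el_r_two z e hz]; exact N.mul_mem haN hzN
    · exact hbN
    · exact hwN
    · rw [el_mul, el_r_two z e hz]; exact N.mul_mem hzN hbN
    · rw [el_mul, el_r_two z e hz]; exact N.mul_mem hzN hwN
  obtain ⟨P, hP⟩ := Cfsg.Agent.Helper2.D8cA.exists_sylow z hz e
  have hPN : (P : Subgroup G) ≤ N := by rw [hP]; exact hCN
  have h1 := Sylow.normalizer_sup_eq_top' P hPN
  have hPset : (P : Set G) = ((Subgroup.centralizer ({z} : Set G) : Subgroup G) : Set G) := by
    rw [← hP]; rfl
  rw [hPset] at h1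
  have h2 : Subgroup.normalizer ((Subgroup.centralizer ({z} : Set G) : Subgroup G) : Set G) ≤ N :=
    (normalizer_cent_le z hz e).trans hCN
  rw [sup_eq_right.mpr h2] at h1
  exact h1

include hz hb hw in
theorem commutator_eq_top : commutator G = ⊤ := by
  apply normal_eq_top z hz e hb hw (commutator G)
  obtain ⟨c, hc⟩ := isConj_iff.mp hb
  have hzinv : z⁻¹ = z := inv_eq_of_mul_eq_one_left (z_mul_self z hz)
  have h1 : c * z * c⁻¹ * z⁻¹ ∈ commutator G := by
    rw [commutator_def]
    exact Subgroup.commutator_mem_commutator (Subgroup.mem_top c) (Subgroup.mem_top z)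
  obtain ⟨d, hd⟩ := isConj_iff.mp (isConj_zb z hz e hb)
  have hcomm : el z e (sr 0) * z = z * el z e (sr 0) := (mem_cent_iff z _).mp (el_mem z e _)
  have h2 : z * el z e (sr 0) ∈ commutator G := by
    have : z * el z e (sr 0) = c * z * c⁻¹ * z⁻¹ := by rw [hc, hzinv, hcomm]
    rw [this]; exact h1
  have h3 : z = d⁻¹ * (z * el z e (sr 0)) * d⁻¹⁻¹ := by rw [← hd]; group
  rw [h3]
  exact (inferInstance : (commutator G).Normal).conj_mem _ h2 d⁻¹

include hz hb hw in
theorem isSimpleGroup_of_oneclass : IsSimpleGroup G := by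
  haveI : Nontrivial G := ⟨⟨z, 1, z_ne_one z hz⟩⟩
  refine ⟨fun N hN => ?_⟩
  by_cases hodd : Odd (Nat.card N)
  · left; exact odd_normal_eq_bot z hz e hb N hodd
  · right
    rw [Nat.not_odd_iff_even, even_iff_two_dvd] at hodd
    haveI : Fact (Nat.Prime 2) := ⟨Nat.prime_two⟩
    obtain ⟨s, hs⟩ := exists_prime_orderOf_dvd_card' (G := N) 2 hodd
    have hs' : orderOf (s : G) = 2 := by rw [Subgroup.orderOf_coe]; exact hs
    obtain ⟨c, hc⟩ := isConj_iff.mp (invol_conj z hz e hb hw (s : G) hs')
    apply normal_eq_top z hz e hb hw N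
    have h3 : z = c⁻¹ * (s : G) * c⁻¹⁻¹ := by rw [← hc]; group
    rw [h3]
    exact hN.conj_mem _ s.2 c⁻¹

include hz hb hw in
/-- the case of one class of involutions: `G` is `SL₃(2)` or `A₆` -/
theorem oneclass_case : Nonempty (G ≃* Matrix.SpecialLinearGroup (Fin 3) (ZMod 2)) ∨
    Nonempty (G ≃* ↥(alternatingGroup (Fin 6))) := by
  haveI := isSimpleGroup_of_oneclass z hz e hb hw
  haveI : Fact (Nat.Prime 7) := ⟨by norm_num⟩
  rcases Cfsg.Agent.S0848.result (commutator_eq_top z hz e hb hw) z hz e with h | h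
  · left
    obtain ⟨e1⟩ := Cfsg.Agent.S0495.result h (F := ZMod 7) (ZMod.card 7)
    obtain ⟨e2⟩ := Cfsg.Agent.S0255.main
    have e3 : Matrix.ProjectiveSpecialLinearGroup (Fin 3) (ZMod 2) ≃*
        Matrix.SpecialLinearGroup (Fin 3) (ZMod 2) :=
      (QuotientGroup.quotientMulEquivOfEq Cfsg.Agent.S0255.center_G2).trans QuotientGroup.quotientBot
    exact ⟨(e1.trans e2).trans e3⟩
  · right
    exact Cfsg.Agent.S0497.result h

end oneclass

end Cfsg.Agent.Helper8.CD8
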