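import Mathlib
import Cfsg.Agent.Helper8.CD8D

/-!
# Groups with an involution whose centralizer is dihedral of order 8: the case of a subgroup of
index 2 (helper8; for S3035)
-/

set_option autoImplicit false
set_option linter.style.haveILetI false

namespace Cfsg.Agent.Helper8.CD8

open DihedralGroup
open scoped Pointwise

variable {G : Type*} [Group G]

theorem xor_d4 : ∀ (i : ZMod 4) (d : DihedralGroup 4),
    (((d * r 1) * sr i = sr i * (d * r 1)) ∧ ¬ (d * sr i = sr i * d)) ∨
    ((d * sr i = sr i * d) ∧ ¬ ((d * r 1) * sr i = sr i * (d * r 1))) := by decide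

theorem comm_sr_cases : ∀ (i : ZMod 4) (d : DihedralGroup 4), d * sr i = sr i * d →
    d = 1 ∨ d = r 2 ∨ d = sr i ∨ d = r 2 * sr i := by decide

section klein

variable (z : G) (hz : orderOf z = 2)
  (e : Subgroup.centralizer ({z} : Set G) ≃* DihedralGroup 4)

/-- the Klein four-subgroup `C ∩ C(sr i)` -/
def kl (i : ZMod 4) : Subgroup G :=
  Subgroup.centralizer ({z} : Set G) ⊓ Subgroup.centralizer ({el z e (sr i)} : Set G)

theorem kl_le (i : ZMod 4) : kl z e i ≤ Subgroup.centralizer ({z} : Set G) := inf_le_left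

theorem el_mem_kl_iff (i : ZMod 4) (d : DihedralGroup 4) :
    el z e d ∈ kl z e i ↔ d * sr i = sr i * d := by
  unfold kl
  rw [Subgroup.mem_inf]
  constructor
  · rintro ⟨-, h⟩
    rw [Subgroup.mem_centralizer_singleton_iff] at h
    apply el_injective z e
    rw [el_mul, el_mul]; exact h
  · intro h
    refine ⟨el_mem z e d, ?_⟩
    rw [Subgroup.mem_centralizer_singleton_iff, ← el_mul, ← el_mul, h]

include hz in
theorem mem_kl_cases (i : ZMod 4) (x : G) (hx : x ∈ kl z e i) :
    x = 1 ∨ x = z ∨ x = el z e (sr i) ∨ x = z * el z e (sr i) := by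
  obtain ⟨d, rfl⟩ := exists_el z e x (kl_le z e i hx)
  rw [el_mem_kl_iff] at hx
  rcases comm_sr_cases i d hx with h | h | h | h <;> rw [h]
  · left; exact el_one z e
  · right; left; exact el_r_two z e hz
  · right; right; left; rfl
  · right; right; right; rw [el_mul, el_r_two z e hz]

theorem relIndex_kl (i : ZMod 4) :
    (kl z e i).relIndex (Subgroup.centralizer ({z} : Set G)) = 2 := by
  rw [Subgroup.relIndex_eq_two_iff]
  refine ⟨el z e (r 1), el_mem z e _, ?_⟩
  intro x hx
  obtain ⟨d, rfl⟩ := exists_el z e x hx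
  rw [← el_mul, el_mem_kl_iff, el_mem_kl_iff]
  exact xor_d4 i d

include e in
theorem card_kl (i : ZMod 4) : Nat.card (kl z e i) = 4 := by
  have h1 := ((kl z e i).subgroupOf (Subgroup.centralizer ({z} : Set G))).card_mul_index
  rw [Cfsg.Agent.Lead.card_subgroupOf_of_le (kl_le z e i), card_cent z e] at h1
  have h2 : ((kl z e i).subgroupOf (Subgroup.centralizer ({z} : Set G))).index = 2 :=
    relIndex_kl z e i
  rw [h2] at h1
  omega

end klein

section idx2

variable [Finite G] (z : G) (hz : orderOf z = 2)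
  (e : Subgroup.centralizer ({z} : Set G) ≃* DihedralGroup 4)
  (hb : IsConj z (el z e (sr 0)))

omit [Finite G] in
include hz hb in
theorem isConj_of_mem_kl (x : G) (hx : x ∈ kl z e 0) (hx1 : x ≠ 1) : IsConj z x := by
  rcases mem_kl_cases z hz e 0 x hx with h | h | h | h
  · exact absurd h hx1
  · rw [h]
  · rw [h]; exact hb
  · rw [h]; exact isConj_zb z hz e hb

omit [Finite G] in
theorem orderOf_el_sr (i : ZMod 4) : orderOf (el z e (sr i)) = 2 := by
  rw [orderOf_el, orderOf_sr]

include hz hb in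
/-- Thompson transfer: if `sr 1` is not conjugate to `z`, there is a subgroup of index 2 -/
theorem exists_index_two (hw : ¬ IsConj z (el z e (sr 1))) :
    ∃ M : Subgroup G, M.Normal ∧ M.index = 2 ∧ el z e (sr 1) ∉ M := by
  obtain ⟨P, hP⟩ := Cfsg.Agent.Helper2.D8cA.exists_sylow z hz e
  have hQi : (kl z e 0).relIndex (P : Subgroup G) = 2 := by rw [hP]; exact relIndex_kl z e 0
  rcases Cfsg.Agent.Helper2.thompson_transfer_classical P (kl z e 0) hQi (el z e (sr 1))
    (orderOf_el_sr z e 1) with h | ⟨g, hg⟩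
  · exact h
  · exfalso
    apply hw
    have h1 : g * el z e (sr 1) * g⁻¹ ≠ 1 := by
      intro h
      have h2 : el z e (sr 1) = g⁻¹ * (g * el z e (sr 1) * g⁻¹) * g := by group
      rw [h] at h2
      have h3 : el z e (sr 1) = 1 := by rw [h2]; group
      have h4 := orderOf_el_sr z e 1
      rw [h3, orderOf_one] at h4
      omega
    obtain ⟨c, hc⟩ := isConj_iff.mp (isConj_of_mem_kl z hz e hb _ hg h1)
    rw [isConj_iff]
    refine ⟨g⁻¹ * c, ?_⟩
    calc g⁻¹ * c * z * (g⁻¹ * c)⁻¹ = g⁻¹ * (c * z * c⁻¹) * g := by group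
      _ = el z e (sr 1) := by rw [hc]; group

variable (M : Subgroup G) [hMn : M.Normal] (hM2 : M.index = 2) (hwM : el z e (sr 1) ∉ M)

omit [Finite G] hMn in
include hz hM2 e in
theorem z_mem_M : z ∈ M := by
  have h1 := Subgroup.mul_self_mem_of_index_two hM2 (el z e (r 1))
  have h2 : el z e (r 1) * el z e (r 1) = z := by
    have h3 := el_r_two z e hz
    have h4 : (r 2 : DihedralGroup 4) = r 1 * r 1 := by decide
    rw [h4, el_mul] at h3
    exact h3
  rwa [h2] at h1

omit [Finite G] in
include hz hM2 hb in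
theorem b_mem_M : el z e (sr 0) ∈ M := by
  obtain ⟨c, hc⟩ := isConj_iff.mp hb
  rw [← hc]
  exact hMn.conj_mem z (z_mem_M z hz e M hM2) c

omit [Finite G] in
include hz hM2 hb hwM in
theorem a_not_mem_M : el z e (r 1) ∉ M := by
  intro h
  apply hwM
  have : (sr 1 : DihedralGroup 4) = sr 0 * r 1 := by decide
  rw [this, el_mul]
  exact M.mul_mem (b_mem_M z hz e hb M hM2) h

omit [Finite G] in
include hz hM2 hb hwM in
/-- `C ∩ M` is the Klein four-group -/
theorem mem_M_iff_mem_kl (x : G) (hx : x ∈ Subgroup.centralizer ({z} : Set G)) :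
    x ∈ M ↔ x ∈ kl z e 0 := by
  have hz' := z_mem_M z hz e M hM2
  have hb' := b_mem_M z hz e hb M hM2
  have ha' := a_not_mem_M z hz e hb M hM2 hwM
  constructor
  · intro hxM
    obtain ⟨d, rfl⟩ := exists_el z e x hx
    rw [el_mem_kl_iff]
    rcases all_cases d with h | h | h | h | h | h | h | h
    · subst h; decide
    · rw [h] at hxM; exact absurd hxM ha'
    · subst h; decide
    · rw [h, el_mul, el_r_two z e hz] at hxM
      exact absurd ((Subgroup.mul_mem_cancel_right M hz').mp hxM) ha'
    · subst h; decide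
    · rw [h] at hxM; exact absurd hxM hwM
    · subst h; decide
    · rw [h, el_mul, el_r_two z e hz] at hxM
      exact absurd ((Subgroup.mul_mem_cancel_left M hz').mp hxM) hwM
  · intro hxk
    rcases mem_kl_cases z hz e 0 x hxk with h | h | h | h <;> rw [h]
    · exact M.one_mem
    · exact hz'
    · exact hb'
    · exact M.mul_mem hz' hb'

end idx2

end Cfsg.Agent.Helper8.CD8
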