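import Mathlib
import Cfsg.Agent.Helper8.CD8E
import Cfsg.Agent.S1012
import Cfsg.Agent.S2119

/-!
# Groups with an involution whose centralizer is dihedral of order 8: the case of a subgroup of
index 2, conclusion (helper8; for S3035)
-/

set_option autoImplicit false
set_option linter.style.haveILetI false

namespace Cfsg.Agent.Helper8.CD8

open DihedralGroup
open scoped Pointwise

variable {G : Type*} [Group G]

/-- centralizer in a subgroup -/
theorem centralizer_subtype (M : Subgroup G) (c : ↥M) :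
    Subgroup.centralizer ({c} : Set ↥M) =
      (Subgroup.centralizer ({(c : G)} : Set G)).subgroupOf M := by
  ext y
  rw [Subgroup.mem_centralizer_singleton_iff, Subgroup.mem_subgroupOf,
    Subgroup.mem_centralizer_singleton_iff]
  constructor
  · intro h
    have := congrArg Subtype.val h
    simpa using this
  · intro h
    apply Subtype.ext
    simpa using h

theorem card_centralizer_subtype (M : Subgroup G) (c : ↥M) :
    Nat.card (Subgroup.centralizer ({c} : Set ↥M)) =
      Nat.card ↥(Subgroup.centralizer ({(c : G)} : Set G) ⊓ M) := by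
  rw [centralizer_subtype, ← Subgroup.inf_subgroupOf_right]
  exact Cfsg.Agent.Lead.card_subgroupOf_of_le inf_le_right

theorem card_cent_inf_conj (M : Subgroup G) [hM : M.Normal] (g x : G) :
    Nat.card ↥(Subgroup.centralizer ({g * x * g⁻¹} : Set G) ⊓ M) =
      Nat.card ↥(Subgroup.centralizer ({x} : Set G) ⊓ M) := by
  apply Nat.card_congr
  refine ⟨fun y => ⟨g⁻¹ * y.1 * g, ?_⟩, fun y => ⟨g * y.1 * g⁻¹, ?_⟩, ?_, ?_⟩
  · obtain ⟨h1, h2⟩ := Subgroup.mem_inf.mp y.2
    rw [Subgroup.mem_centralizer_singleton_iff] at h1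
    refine Subgroup.mem_inf.mpr ⟨?_, ?_⟩
    · rw [Subgroup.mem_centralizer_singleton_iff]
      calc g⁻¹ * y.1 * g * x = g⁻¹ * (y.1 * (g * x * g⁻¹)) * g := by group
        _ = g⁻¹ * ((g * x * g⁻¹) * y.1) * g := by rw [h1]
        _ = x * (g⁻¹ * y.1 * g) := by group
    · have := hM.conj_mem _ h2 g⁻¹
      rwa [inv_inv] at this
  · obtain ⟨h1, h2⟩ := Subgroup.mem_inf.mp y.2
    rw [Subgroup.mem_centralizer_singleton_iff] at h1
    refine Subgroup.mem_inf.mpr ⟨?_, ?_⟩
    · rw [Subgroup.mem_centralizer_singleton_iff]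
      calc g * y.1 * g⁻¹ * (g * x * g⁻¹) = g * (y.1 * x) * g⁻¹ := by group
        _ = g * (x * y.1) * g⁻¹ := by rw [h1]
        _ = g * x * g⁻¹ * (g * y.1 * g⁻¹) := by group
    · exact hM.conj_mem _ h2 g
  · intro y
    apply Subtype.ext
    show g * (g⁻¹ * y.1 * g) * g⁻¹ = y.1
    group
  · intro y
    apply Subtype.ext
    show g⁻¹ * (g * y.1 * g⁻¹) * g = y.1
    group

section apply

variable [Finite G] (z : G) (hz : orderOf z = 2)
  (e : Subgroup.centralizer ({z} : Set G) ≃* DihedralGroup 4)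
  (hb : IsConj z (el z e (sr 0)))
  (M : Subgroup G) [hMn : M.Normal] (hM2 : M.index = 2) (hwM : el z e (sr 1) ∉ M)

omit [Finite G] in
include hz hb hM2 hwM in
theorem cent_inf_M_eq : Subgroup.centralizer ({z} : Set G) ⊓ M = kl z e 0 := by
  ext x
  rw [Subgroup.mem_inf]
  constructor
  · rintro ⟨h1, h2⟩
    exact (mem_M_iff_mem_kl z hz e hb M hM2 hwM x h1).mp h2
  · intro h
    have h1 := kl_le z e 0 h
    exact ⟨h1, (mem_M_iff_mem_kl z hz e hb M hM2 hwM x h1).mpr h⟩

omit hMn [Finite G] in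
include hM2 in
theorem card_M (k : ℕ) (hk : Nat.card G = 8 * k) : Nat.card M = 4 * k := by
  have := M.card_mul_index
  rw [hM2, hk] at this
  omega

omit [Finite G] in
theorem el_sr_mul_self (i : ZMod 4) : el z e (sr i) * el z e (sr i) = 1 := by
  rw [← el_mul, ← el_one z e]
  congr 1
  simp

include hz hb hM2 hwM in
theorem M_cases : Nat.card M = 4 ∨ Nat.card M = 12 ∨
    Nonempty (↥M ≃* ↥(alternatingGroup (Fin 5))) := by
  obtain ⟨k, hkodd, hk⟩ := Cfsg.Agent.Helper2.D8cA.card_eq z hz e
  have hzM := z_mem_M z hz e M hM2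
  have hCM := cent_inf_M_eq z hz e hb M hM2 hwM
  apply klein_cent_cases (⟨z, hzM⟩ : ↥M) ?_ ?_ ?_ ?_ k hkodd (card_M M hM2 k hk)
  · rw [← Subgroup.orderOf_coe]; exact hz
  · rw [card_centralizer_subtype]
    show Nat.card ↥(Subgroup.centralizer ({z} : Set G) ⊓ M) = 4
    rw [hCM, card_kl]
  · intro c hc
    rw [centralizer_subtype, Subgroup.mem_subgroupOf] at hc
    have hck : (c : G) ∈ kl z e 0 := by
      rw [← hCM]; exact Subgroup.mem_inf.mpr ⟨hc, c.2⟩
    apply Subtype.ext
    rw [Subgroup.coe_pow, Subgroup.coe_one, sq]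
    rcases mem_kl_cases z hz e 0 _ hck with h | h | h | h <;> rw [h]
    · exact mul_one 1
    · exact z_mul_self z hz
    · exact el_sr_mul_self z e 0
    · have hcomm : el z e (sr 0) * z = z * el z e (sr 0) := (mem_cent_iff z _).mp (el_mem z e _)
      calc z * el z e (sr 0) * (z * el z e (sr 0))
          = z * (el z e (sr 0) * z) * el z e (sr 0) := by group
        _ = (z * z) * (el z e (sr 0) * el z e (sr 0)) := by rw [hcomm]; group
        _ = 1 := by rw [z_mul_self z hz, el_sr_mul_self, mul_one]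
  · intro c hc hc1
    rw [centralizer_subtype, Subgroup.mem_subgroupOf] at hc
    have hck : (c : G) ∈ kl z e 0 := by
      rw [← hCM]; exact Subgroup.mem_inf.mpr ⟨hc, c.2⟩
    have hc1' : (c : G) ≠ 1 := fun h => hc1 (Subtype.ext h)
    obtain ⟨g, hg⟩ := isConj_iff.mp (isConj_of_mem_kl z hz e hb _ hck hc1')
    rw [card_centralizer_subtype, ← hg, card_cent_inf_conj, hCM, card_kl]

end apply

end Cfsg.Agent.Helper8.CD8
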