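import Mathlib
import Cfsg.Agent.Helper8.CD8F

/-!
# Groups with an involution whose centralizer is dihedral of order 8: the symmetric groups
(helper8; for S3035)
-/

set_option autoImplicit false
set_option linter.style.haveILetI false

namespace Cfsg.Agent.Helper8.CD8

open DihedralGroup
open scoped Pointwise

variable {G : Type*} [Group G]

section sym

variable [Finite G] (z : G) (hz : orderOf z = 2)
  (e : Subgroup.centralizer ({z} : Set G) ≃* DihedralGroup 4)
  (hb : IsConj z (el z e (sr 0)))

include hz hb in
/-- every involution is conjugate to `z` or to `sr 1` -/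
theorem invol_conj_z_or_w (s : G) (hs : orderOf s = 2) :
    IsConj z s ∨ IsConj (el z e (sr 1)) s := by
  obtain ⟨g, hg⟩ := exists_conj_mem_cent z hz e s hs
  have hss : s * s = 1 := by rw [← sq, ← hs]; exact pow_orderOf_eq_one s
  have hs1 : s ≠ 1 := by intro h; rw [h, orderOf_one] at hs; omega
  have h1 : (g * s * g⁻¹) * (g * s * g⁻¹) = 1 := by
    calc (g * s * g⁻¹) * (g * s * g⁻¹) = g * (s * s) * g⁻¹ := by group
      _ = 1 := by rw [hss]; group
  have h2 : g * s * g⁻¹ ≠ 1 := by
    intro h
    apply hs1
    have : s = g⁻¹ * (g * s * g⁻¹) * g := by group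
    rw [this, h]; group
  have hback : IsConj (g * s * g⁻¹) s := by
    rw [isConj_iff]
    exact ⟨g⁻¹, by group⟩
  rcases invol_cent_cases z hz e _ hg h1 h2 with h | ⟨i, h⟩
  · left; rw [h] at hback; exact hback
  · rw [h] at hback
    rcases sr_cases i with h' | h' | h' | h' <;> rw [h'] at hback
    · left; exact hb.trans hback
    · right; exact hback
    · left; exact (hb.trans (isConj_el z e _ _)).trans hback
    · right; exact (isConj_el z e _ _).trans hback

include hz hb in
theorem no_order_six (h24 : Nat.card G = 24) (x : G) : orderOf x ≠ 6 := by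
  intro h6
  have hs : orderOf (x ^ 3) = 2 := by
    rw [orderOf_pow' x (by norm_num), h6]; rfl
  have hy : orderOf (x ^ 2) = 3 := by
    rw [orderOf_pow' x (by norm_num), h6]; rfl
  have hsy : x ^ 2 * x ^ 3 = x ^ 3 * x ^ 2 := by rw [← pow_add, ← pow_add]
  rcases invol_conj_z_or_w z hz e hb (x ^ 3) hs with h | h
  · have h8 := card_cent_of_conj z e (x ^ 3) h
    have hyC : x ^ 2 ∈ Subgroup.centralizer ({x ^ 3} : Set G) :=
      Subgroup.mem_centralizer_singleton_iff.mpr hsy
    have := Subgroup.orderOf_dvd_natCard _ hyC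
    rw [hy, h8] at this
    norm_num at this
  · obtain ⟨c, hc⟩ := isConj_iff.mp h
    set w := el z e (sr 1) with hw
    set y' := c⁻¹ * x ^ 2 * c with hy'
    have hy'3 : orderOf y' = 3 := by
      have : y' = MulAut.conj c⁻¹ (x ^ 2) := by rw [MulAut.conj_apply, inv_inv]
      rw [this, MulEquiv.orderOf_eq, hy]
    have hcomm : y' * w = w * y' := by
      have hw' : w = c⁻¹ * x ^ 3 * c := by rw [← hc]; group
      rw [hw', hy']
      calc c⁻¹ * x ^ 2 * c * (c⁻¹ * x ^ 3 * c) = c⁻¹ * (x ^ 2 * x ^ 3) * c := by group
        _ = c⁻¹ * (x ^ 3 * x ^ 2) * c := by rw [hsy]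
        _ = c⁻¹ * x ^ 3 * c * (c⁻¹ * x ^ 2 * c) := by group
    set W := Subgroup.centralizer ({w} : Set G) with hW
    have h3 : 3 ∣ Nat.card W := by
      rw [← hy'3]
      exact Subgroup.orderOf_dvd_natCard _ (Subgroup.mem_centralizer_singleton_iff.mpr hcomm)
    have h4 : 4 ∣ Nat.card W := by
      rw [← card_kl z e 1]
      exact Subgroup.card_dvd_of_le (inf_le_right : kl z e 1 ≤ W)
    have h12 : 12 ∣ Nat.card W :=
      Nat.Coprime.mul_dvd_of_dvd_of_dvd (by norm_num : Nat.Coprime 3 4) h3 h4
    have hidx : W.index = 1 ∨ W.index = 2 := by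
      have hmul := W.card_mul_index
      rw [h24] at hmul
      obtain ⟨m, hm⟩ := h12
      rw [hm] at hmul
      have hm1 : m * W.index = 2 := by nlinarith
      have hmpos : 0 < m := by
        rcases Nat.eq_zero_or_pos m with h0 | h0
        · rw [h0] at hm1; omega
        · exact h0
      have hle : W.index ≤ 2 := by nlinarith
      have hne : W.index ≠ 0 := Subgroup.index_ne_zero_of_finite
      omega
    have hWn : W.Normal := by
      rcases hidx with h1 | h2
      · rw [Subgroup.index_eq_one.mp h1]; infer_instance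
      · exact Subgroup.normal_of_index_eq_two h2
    have hzW : z ∈ W := by
      rw [hW, Subgroup.mem_centralizer_singleton_iff]
      exact ((mem_cent_iff z w).mp (el_mem z e _)).symm
    obtain ⟨c', hc'⟩ := isConj_iff.mp hb
    have hbW : el z e (sr 0) ∈ W := by
      rw [← hc']; exact hWn.conj_mem z hzW c'
    rw [hW, Subgroup.mem_centralizer_singleton_iff] at hbW
    have hd : (sr 0 : DihedralGroup 4) * sr 1 = sr 1 * sr 0 := by
      apply el_injective z e
      rw [el_mul, el_mul]; exact hbW
    revert hd
    decide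

variable (M : Subgroup G) [hMn : M.Normal] (hM2 : M.index = 2)

include hz hb hM2 in
/-- if the subgroup of index 2 is `A₅`, the group is `S₅` -/
theorem sym5_of_alt5 (φ : ↥M ≃* ↥(alternatingGroup (Fin 5))) :
    Nonempty (G ≃* Equiv.Perm (Fin 5)) := by
  have hM60 : Nat.card M = 60 := by
    rw [Nat.card_congr φ.toEquiv, nat_card_alternatingGroup, Nat.card_eq_fintype_card,
      Fintype.card_fin]
    rfl
  have hG120 : Nat.card G = 120 := by
    have := M.card_mul_index
    rw [hM60, hM2] at this
    omega
  let ψ : MulAut ↥(alternatingGroup (Fin 5)) ≃* Equiv.Perm (Fin 5) :=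
    (MulEquiv.ofBijective _ (Cfsg.Agent.S2119.result 5 (by norm_num) (by norm_num))).symm
  let f : G →* Equiv.Perm (Fin 5) :=
    ψ.toMonoidHom.comp ((MulAut.congr φ).toMonoidHom.comp (MulAut.conjNormal (H := M)))
  have hinj : Function.Injective f := by
    rw [injective_iff_map_eq_one]
    intro g hg
    have h0 : ψ ((MulAut.congr φ) (MulAut.conjNormal (H := M) g)) = 1 := hg
    have h1 : MulAut.conjNormal (H := M) g = 1 := by
      have h1' := ψ.injective (h0.trans (map_one ψ).symm)
      exact (MulAut.congr φ).injective (h1'.trans (map_one (MulAut.congr φ)).symm)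
    have h2 : ∀ m ∈ M, g * m * g⁻¹ = m := by
      intro m hm
      have h3 : (MulAut.conjNormal (H := M) g) ⟨m, hm⟩ = (⟨m, hm⟩ : M) := by rw [h1]; rfl
      have h4 := congrArg Subtype.val h3
      rwa [MulAut.conjNormal_apply] at h4
    have hcomm : ∀ m ∈ M, g * m = m * g := by
      intro m hm
      calc g * m = (g * m * g⁻¹) * g := by group
        _ = m * g := by rw [h2 m hm]
    have hzM := z_mem_M z hz e M hM2
    have hbM := b_mem_M z hz e hb M hM2
    have hgk : g ∈ kl z e 0 := by
      refine Subgroup.mem_inf.mpr ⟨?_, ?_⟩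
      · rw [mem_cent_iff]; exact hcomm z hzM
      · rw [Subgroup.mem_centralizer_singleton_iff]; exact hcomm _ hbM
    by_contra hg1
    have hconj := isConj_of_mem_kl z hz e hb g hgk hg1
    have h8 := card_cent_of_conj z e g hconj
    have hle : M ≤ Subgroup.centralizer ({g} : Set G) := by
      intro m hm
      rw [Subgroup.mem_centralizer_singleton_iff]
      exact (hcomm m hm).symm
    have := Subgroup.card_le_of_le hle
    omega
  have hbij : Function.Bijective f := by
    apply Function.Injective.bijective_of_nat_card_le hinj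
    rw [hG120, Nat.card_eq_fintype_card, Fintype.card_perm, Fintype.card_fin]
    decide
  exact ⟨MulEquiv.ofBijective f hbij⟩

omit hMn hM2 in
include hz hb in
/-- the case where `sr 1` is not conjugate to `z`: the group is `S₄` or `S₅` -/
theorem idx2_case (hw : ¬ IsConj z (el z e (sr 1))) :
    Nonempty (G ≃* Equiv.Perm (Fin 4)) ∨ Nonempty (G ≃* Equiv.Perm (Fin 5)) := by
  obtain ⟨M, hMn, hM2, hwM⟩ := exists_index_two z hz e hb hw
  haveI := hMn
  rcases M_cases z hz e hb M hM2 hwM with h | h | ⟨φ⟩
  · exfalso
    have hG8 : Nat.card G = 8 := by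
      have := M.card_mul_index
      rw [h, hM2] at this
      omega
    have hCtop : Subgroup.centralizer ({z} : Set G) = ⊤ :=
      Subgroup.eq_top_of_card_eq _ (by rw [card_cent z e, hG8])
    obtain ⟨c, hc⟩ := isConj_iff.mp hb
    have hcC : c ∈ Subgroup.centralizer ({z} : Set G) := by rw [hCtop]; exact Subgroup.mem_top c
    have hcz : c * z = z * c := (mem_cent_iff z c).mp hcC
    have hbz : el z e (sr 0) = z := by
      rw [← hc, hcz]; group
    have hd : (sr 0 : DihedralGroup 4) = r 2 :=
      el_injective z e (hbz.trans (el_r_two z e hz).symm)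
    revert hd
    decide
  · left
    have hG24 : Nat.card G = 24 := by
      have := M.card_mul_index
      rw [h, hM2] at this
      omega
    exact Cfsg.Agent.S1012.result hG24 (no_order_six z hz e hb hG24)
  · right
    obtain ⟨φ'⟩ := φ
    exact sym5_of_alt5 z hz e hb M hM2 φ'

end sym

end Cfsg.Agent.Helper8.CD8
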