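import Mathlib
import Cfsg.Agent.Helper2.DihedralIso

/-!
# The centralizer in `A₆` of a product of two disjoint transpositions is dihedral of order 8
(helper8; for S3261)
-/

set_option autoImplicit false

namespace Cfsg.Agent.Helper8.CD8

open Equiv

/-- the standard product of two disjoint transpositions -/
def c0 : Perm (Fin 6) := swap 0 1 * swap 2 3
/-- first generating involution of the centralizer -/
def x0 : Perm (Fin 6) := swap 0 2 * swap 1 3
/-- second generating involution of the centralizer -/
def y0 : Perm (Fin 6) := swap 0 1 * swap 4 5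

set_option maxRecDepth 100000 in
theorem card_filter_c0 : (Finset.univ.filter
    (fun g : Perm (Fin 6) => g * c0 = c0 * g ∧ Equiv.Perm.sign g = 1)).card = 8 := by
  decide

theorem sign_c0 : Equiv.Perm.sign c0 = 1 := by decide
theorem sign_x0 : Equiv.Perm.sign x0 = 1 := by decide
theorem sign_y0 : Equiv.Perm.sign y0 = 1 := by decide
theorem x0_comm : x0 * c0 = c0 * x0 := by decide
theorem y0_comm : y0 * c0 = c0 * y0 := by decide
theorem x0_sq : x0 * x0 = 1 := by decide
theorem y0_sq : y0 * y0 = 1 := by decide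
theorem x0_ne : x0 ≠ 1 := by decide
theorem y0_ne : y0 ≠ 1 := by decide
theorem xy_pow4 : (x0 * y0) ^ 4 = 1 := by decide
theorem xy_pow2 : (x0 * y0) ^ 2 ≠ 1 := by decide
theorem c0_sq : c0 ^ 2 = 1 := by decide
theorem c0_ne : c0 ≠ 1 := by decide
theorem c0_support : c0.support.card = 4 := by decide

/-- an involution moving four points has cycle type `{2, 2}` -/
theorem cycleType_of_invol {g : Perm (Fin 6)} (h2 : orderOf g = 2) (hs : g.support.card = 4) :
    g.cycleType = {2, 2} := by
  have h1 : ∀ n ∈ g.cycleType, n = 2 := by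
    intro n hn
    have hd := Equiv.Perm.dvd_of_mem_cycleType hn
    rw [h2] at hd
    have h2' := Equiv.Perm.two_le_of_mem_cycleType hn
    have := Nat.le_of_dvd (by norm_num) hd
    omega
  have h3 := Multiset.eq_replicate_card.mpr h1
  have h4 := Equiv.Perm.sum_cycleType g
  rw [hs, h3, Multiset.sum_replicate, smul_eq_mul] at h4
  have h5 : Multiset.card g.cycleType = 2 := by omega
  rw [h3, h5]
  rfl

theorem orderOf_c0 : orderOf c0 = 2 := by
  apply orderOf_eq_prime c0_sq c0_ne

/-- `c0` as an element of `A₆` -/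
def c0A : ↥(alternatingGroup (Fin 6)) := ⟨c0, Equiv.Perm.mem_alternatingGroup.mpr sign_c0⟩
/-- `x0` as an element of `A₆` -/
def x0A : ↥(alternatingGroup (Fin 6)) := ⟨x0, Equiv.Perm.mem_alternatingGroup.mpr sign_x0⟩
/-- `y0` as an element of `A₆` -/
def y0A : ↥(alternatingGroup (Fin 6)) := ⟨y0, Equiv.Perm.mem_alternatingGroup.mpr sign_y0⟩

theorem card_centralizer_c0A :
    Nat.card (Subgroup.centralizer ({c0A} : Set ↥(alternatingGroup (Fin 6)))) = 8 := by
  have h1 : Nat.card (Subgroup.centralizer ({c0A} : Set ↥(alternatingGroup (Fin 6)))) =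
      Nat.card {g : Perm (Fin 6) // g * c0 = c0 * g ∧ Equiv.Perm.sign g = 1} := by
    apply Nat.card_congr
    refine ⟨fun k => ⟨k.1.1, ?_, ?_⟩, fun g => ⟨⟨g.1, Equiv.Perm.mem_alternatingGroup.mpr g.2.2⟩, ?_⟩,
      ?_, ?_⟩
    · have := Subgroup.mem_centralizer_singleton_iff.mp k.2
      exact congrArg Subtype.val this
    · exact Equiv.Perm.mem_alternatingGroup.mp k.1.2
    · rw [Subgroup.mem_centralizer_singleton_iff]
      apply Subtype.ext
      exact g.2.1
    · intro k; rfl
    · intro g; rfl
  rw [h1, Nat.card_eq_fintype_card, Fintype.card_subtype]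
  exact card_filter_c0

/-- the centralizer of `c0` in `A₆` is dihedral of order 8 -/
theorem centralizer_c0A_equiv :
    Nonempty (↥(Subgroup.centralizer ({c0A} : Set ↥(alternatingGroup (Fin 6)))) ≃*
      DihedralGroup 4) := by
  have hx : x0A * x0A = 1 := Subtype.ext x0_sq
  have hy : y0A * y0A = 1 := Subtype.ext y0_sq
  have hx1 : x0A ≠ 1 := fun h => x0_ne (congrArg Subtype.val h)
  have hy1 : y0A ≠ 1 := fun h => y0_ne (congrArg Subtype.val h)
  have hord : orderOf (x0A * y0A) = 4 := by
    have h4 : (x0A * y0A) ^ 4 = 1 := Subtype.ext (by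
      rw [Subgroup.coe_pow, Subgroup.coe_mul]; exact xy_pow4)
    have h2 : (x0A * y0A) ^ 2 ≠ 1 := by
      intro h
      apply xy_pow2
      have := congrArg Subtype.val h
      rwa [Subgroup.coe_pow, Subgroup.coe_mul] at this
    have hd : orderOf (x0A * y0A) ∣ 4 := orderOf_dvd_of_pow_eq_one h4
    have hle := Nat.le_of_dvd (by norm_num) hd
    have hpos := orderOf_pos (x0A * y0A)
    have hne2 : ¬ orderOf (x0A * y0A) ∣ 2 := fun h => h2 (orderOf_dvd_iff_pow_eq_one.mp h)
    interval_cases h : orderOf (x0A * y0A)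
    · exact absurd (one_dvd 2) hne2
    · exact absurd (dvd_refl 2) hne2
    · norm_num at hd
    · rfl
  obtain ⟨φ⟩ := Cfsg.Agent.Helper2.closure_pair_invol_equiv_dihedral hx hy hx1 hy1
  rw [hord] at φ
  have hle : Subgroup.closure ({x0A, y0A} : Set ↥(alternatingGroup (Fin 6))) ≤
      Subgroup.centralizer ({c0A} : Set ↥(alternatingGroup (Fin 6))) := by
    rw [Subgroup.closure_le]
    intro g hg
    rcases hg with rfl | rfl
    · rw [SetLike.mem_coe, Subgroup.mem_centralizer_singleton_iff]
      exact Subtype.ext x0_comm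
    · rw [SetLike.mem_coe, Subgroup.mem_centralizer_singleton_iff]
      exact Subtype.ext y0_comm
  have hcard : Nat.card (Subgroup.closure ({x0A, y0A} : Set ↥(alternatingGroup (Fin 6)))) = 8 := by
    rw [Nat.card_congr φ.toEquiv, Nat.card_eq_fintype_card, DihedralGroup.card]
  have heq : Subgroup.closure ({x0A, y0A} : Set ↥(alternatingGroup (Fin 6))) =
      Subgroup.centralizer ({c0A} : Set ↥(alternatingGroup (Fin 6))) :=
    Subgroup.eq_of_le_of_card_ge hle (by rw [hcard, card_centralizer_c0A])
  exact ⟨(MulEquiv.subgroupCongr heq).symm.trans φ⟩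

/-- transport of centralizers along an isomorphism -/
def centEquiv {A B : Type*} [Group A] [Group B] (f : A ≃* B) (a : A) :
    ↥(Subgroup.centralizer ({a} : Set A)) ≃* ↥(Subgroup.centralizer ({f a} : Set B)) where
  toFun x := ⟨f x.1, by
    rw [Subgroup.mem_centralizer_singleton_iff, ← map_mul, ← map_mul,
      Subgroup.mem_centralizer_singleton_iff.mp x.2]⟩
  invFun y := ⟨f.symm y.1, by
    rw [Subgroup.mem_centralizer_singleton_iff]
    apply f.injective
    rw [map_mul, map_mul, f.apply_symm_apply]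
    exact Subgroup.mem_centralizer_singleton_iff.mp y.2⟩
  left_inv x := by apply Subtype.ext; simp
  right_inv y := by apply Subtype.ext; simp
  map_mul' x y := by apply Subtype.ext; simp

/-- the centralizer in `A₆` of any involution moving four points is dihedral of order 8 -/
theorem centralizer_alt6_equiv (αt : ↥(alternatingGroup (Fin 6))) (hαt : orderOf αt = 2)
    (hsupp : (αt : Equiv.Perm (Fin 6)).support.card = 4) :
    Nonempty (↥(Subgroup.centralizer ({αt} : Set ↥(alternatingGroup (Fin 6)))) ≃*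
      DihedralGroup 4) := by
  have h2 : orderOf (αt : Perm (Fin 6)) = 2 := by rw [Subgroup.orderOf_coe]; exact hαt
  have hct : (αt : Perm (Fin 6)).cycleType = c0.cycleType := by
    rw [cycleType_of_invol h2 hsupp, cycleType_of_invol orderOf_c0 c0_support]
  obtain ⟨σ, hσ⟩ := isConj_iff.mp (Equiv.Perm.isConj_iff_cycleType_eq.mpr hct)
  -- σ * αt * σ⁻¹ = c0
  have hf : (MulAut.conjNormal (H := alternatingGroup (Fin 6)) σ) αt = c0A := by
    apply Subtype.ext
    rw [MulAut.conjNormal_apply]
    exact hσ
  obtain ⟨ψ⟩ := centralizer_c0A_equiv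
  have φ := centEquiv (MulAut.conjNormal (H := alternatingGroup (Fin 6)) σ) αt
  rw [hf] at φ
  exact ⟨φ.trans ψ⟩

end Cfsg.Agent.Helper8.CD8
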