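import Mathlib
import Cfsg.Agent.Helper8.CD8H
import Cfsg.Agent.Helper8.CD8C
import Cfsg.Agent.S0255

/-!
# Subgroups of index 2 (helper8; for S3261)
-/

set_option autoImplicit false
set_option linter.style.haveILetI false

namespace Cfsg.Agent.Helper8.CD8

variable {G : Type*} [Group G]

/-- a group isomorphic to a symmetric group of degree at least 2 has a subgroup of index 2 -/
theorem exists_index_two_of_perm (n : ℕ) (hn : 2 ≤ n) (φ : G ≃* Equiv.Perm (Fin n)) :
    ∃ H : Subgroup G, H.index = 2 := by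
  haveI : Nontrivial (Fin n) := Fin.nontrivial_iff_two_le.mpr hn
  refine ⟨(alternatingGroup (Fin n)).comap φ.toMonoidHom, ?_⟩
  rw [Subgroup.index_comap_of_surjective _ φ.surjective]
  exact alternatingGroup.index_eq_two

/-- if `G = C O(G)` with `C` a nontrivial 2-group, then `G` has a subgroup of index 2 -/
theorem exists_index_two_of_sup [Finite G] (C : Subgroup G) (hC : IsPGroup 2 C) (z : G)
    (hz : orderOf z = 2) (h : C ⊔ Cfsg.oddCore G = ⊤) : ∃ H : Subgroup G, H.index = 2 := by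
  have : Fact (Nat.Prime 2) := ⟨Nat.prime_two⟩
  set N := Cfsg.oddCore G with hN
  haveI hNn : N.Normal := Cfsg.Agent.Helper1.pPrimeCore_normal 2
  have hzN : z ∉ N := by
    intro hz'
    have h1 : orderOf z ∣ Nat.card N := Subgroup.orderOf_dvd_natCard _ hz'
    rw [hz] at h1
    exact Cfsg.Agent.Helper5.not_dvd_card_pPrimeCore (G := G) 2 h1
  have hQ : IsPGroup 2 (G ⧸ N) := by
    intro q
    obtain ⟨g, rfl⟩ := QuotientGroup.mk_surjective q
    have hg : g ∈ C ⊔ N := by rw [h]; exact Subgroup.mem_top g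
    obtain ⟨c, hc, n, hn, rfl⟩ := Subgroup.mem_sup_of_normal_right.mp hg
    obtain ⟨k, hk⟩ := hC ⟨c, hc⟩
    refine ⟨k, ?_⟩
    have h1 : (QuotientGroup.mk (c * n) : G ⧸ N) = QuotientGroup.mk c := by
      rw [QuotientGroup.mk_mul, (QuotientGroup.eq_one_iff n).mpr hn, mul_one]
    rw [h1, ← QuotientGroup.mk_pow]
    have h2 : c ^ 2 ^ k = 1 := by
      have := congrArg Subtype.val hk
      simpa using this
    rw [h2]; rfl
  obtain ⟨m, hm⟩ := IsPGroup.iff_card.mp hQ
  have hm0 : m ≠ 0 := by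
    intro h0
    rw [h0, pow_zero] at hm
    have hsub : Subsingleton (G ⧸ N) := (Nat.card_eq_one_iff_unique.mp hm).1
    apply hzN
    rw [← QuotientGroup.eq_one_iff]
    exact Subsingleton.elim _ _
  obtain ⟨K, hK⟩ := Sylow.exists_subgroup_card_pow_prime 2
    (show 2 ^ (m - 1) ∣ Nat.card (G ⧸ N) by rw [hm]; exact pow_dvd_pow 2 (Nat.sub_le m 1))
  refine ⟨K.comap (QuotientGroup.mk' N), ?_⟩
  rw [Subgroup.index_comap_of_surjective _ (QuotientGroup.mk'_surjective N)]
  have h3 := K.card_mul_index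
  rw [hK, hm] at h3
  have h4 : 2 ^ m = 2 ^ (m - 1) * 2 := by
    rw [← pow_succ]; congr 1; omega
  rw [h4] at h3
  exact Nat.eq_of_mul_eq_mul_left (by positivity) h3

/-- `SL₃(2) ≅ PSL₂(7)` -/
theorem sl32_equiv_psl27 : Nonempty (Matrix.SpecialLinearGroup (Fin 3) (ZMod 2) ≃*
    Matrix.ProjectiveSpecialLinearGroup (Fin 2) (ZMod 7)) := by
  obtain ⟨e2⟩ := Cfsg.Agent.S0255.main
  have e3 : Matrix.ProjectiveSpecialLinearGroup (Fin 3) (ZMod 2) ≃*
      Matrix.SpecialLinearGroup (Fin 3) (ZMod 2) :=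
    (QuotientGroup.quotientMulEquivOfEq Cfsg.Agent.S0255.center_G2).trans QuotientGroup.quotientBot
  exact ⟨e3.symm.trans e2.symm⟩

end Cfsg.Agent.Helper8.CD8
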