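import Mathlib
import Cfsg.Agent.Helper8.CGenB
import Cfsg.Agent.Helper7.ChevGen2

set_option autoImplicit false
set_option maxRecDepth 100000

/-!
Certificates for the generation of the Chevalley groups of types G2, F4, E6, E7, E8 by two elements (good
characteristic), and the resulting theorems.
-/

namespace Cfsg.Agent.Helper8.CGen

open Cfsg Cfsg.Lie Matrix Cfsg.Agent.Helper7.Chev

/-- Steps of the derivation for type `G2`. -/
def stepsG2 : List Step :=
  [.w 7, .wi 7, .w 9, .wi 3, .w 8, .comm 10 7 9 (3), .comm 5 7 3 (3), .comm 11 9 8 (-3), .comm 0 3 2 (-3),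
  .comm 6 8 4 (3), .comm 1 2 4 (3)]

theorem certB_G2_fast : certB fastG2 [0, 1] [1, -1, 3, -3] [7] stepsG2 = true := by decide +kernel

theorem cert_G2 : Cert (tabOf chevG2) [0, 1] [1, -1, 3, -3] [7] stepsG2 :=
  tab_G2 ▸ cert_of_certB certB_G2_fast

theorem pair_G2_fast : fastG2.pairing 0 7 = 0 ∧ fastG2.pairing 0 (fastG2.reflWord [0, 1] 7) = -1 := by
  decide +kernel

theorem pair_G2 : (tabOf chevG2).pairing 0 7 = 0 ∧
    (tabOf chevG2).pairing 0 ((tabOf chevG2).reflWord [0, 1] 7) = -1 :=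
  tab_G2 ▸ pair_G2_fast

/-- Steps of the derivation for type `F4`. -/
def stepsF4 : List Step :=
  [.w 33, .wi 33, .w 27, .wi 11, .w 35, .wi 19, .w 38, .wi 9, .w 28, .wi 12, .w 36, .comm 34 33 27 (-1), .comm
  18 33 11 (1), .comm 42 33 38 (2), .comm 16 33 9 (2), .comm 37 27 35 (1), .comm 22 27 19 (2), .comm 30 27 28
  (2), .comm 21 27 18 (2), .comm 23 11 35 (-2), .comm 8 11 19 (1), .comm 4 11 12 (-2), .comm 44 35 38 (-1),
  .comm 43 35 36 (-2), .comm 41 35 34 (2), .comm 7 19 9 (1), .comm 17 19 20 (2), .comm 15 19 18 (-2), .comm 40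
  38 28 (1), .comm 31 38 14 (2), .comm 45 38 37 (2), .comm 3 9 12 (-1), .comm 5 9 14 (2), .comm 0 9 8 (2),
  .comm 39 28 36 (1), .comm 25 28 20 (2), .comm 46 28 44 (2), .comm 24 12 36 (-2), .comm 10 12 20 (1), .comm 1
  12 7 (-2), .comm 29 12 39 (1), .comm 47 36 40 (2), .comm 13 20 14 (-1), .comm 2 20 3 (-2), .comm 26 20 29
  (-2), .comm 32 14 39 (-2), .comm 6 14 10 (-2)]

theorem certB_F4_fast : certB fastF4 [0, 1, 2, 3] [1, -1, 2, -2] [33] stepsF4 = true := by decide +kernel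

theorem cert_F4 : Cert (tabOf chevF4) [0, 1, 2, 3] [1, -1, 2, -2] [33] stepsF4 :=
  tab_F4 ▸ cert_of_certB certB_F4_fast

theorem pair_F4_fast : fastF4.pairing 2 33 = 0 ∧ fastF4.pairing 2 (fastF4.reflWord [0, 1, 2, 3] 33) = -1 := by
  decide +kernel

theorem pair_F4 : (tabOf chevF4).pairing 2 33 = 0 ∧
    (tabOf chevF4).pairing 2 ((tabOf chevF4).reflWord [0, 1, 2, 3] 33) = -1 :=
  tab_F4 ▸ pair_F4_fast

/-- Steps of the derivation for type `E6`. -/
def stepsE6 : List Step :=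
  [.w 56, .wi 56, .w 42, .wi 11, .w 47, .wi 23, .w 59, .wi 28, .w 52, .wi 8, .w 39, .comm 57 56 42 (-1), .comm
  26 56 11 (1), .comm 63 56 52 (-1), .comm 19 56 8 (1), .comm 50 42 47 (1), .comm 32 42 28 (1), .comm 43 42 39
  (-1), .comm 30 42 26 (1), .comm 22 42 19 (-1), .comm 5 11 23 (1), .comm 35 11 59 (-1), .comm 12 11 36 (1),
  .comm 46 11 63 (-1), .comm 34 47 23 (1), .comm 64 47 59 (1), .comm 48 47 37 (-1), .comm 61 47 57 (-1), .comm
  33 47 22 (1), .comm 18 23 28 (1), .comm 24 23 37 (1), .comm 16 23 26 (-1), .comm 31 23 46 (-1), .comm 58 23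
  64 (-1), .comm 69 59 52 (1), .comm 60 59 36 (-1), .comm 67 59 50 (-1), .comm 62 59 46 (-1), .comm 3 28 8
  (1), .comm 29 28 39 (1), .comm 17 28 22 (-1), .comm 1 28 5 (-1), .comm 27 28 34 (1), .comm 15 52 8 (-1),
  .comm 54 52 39 (-1), .comm 51 52 35 (-1), .comm 71 52 64 (1), .comm 68 52 58 (-1), .comm 13 52 3 (1), .comm
  49 52 29 (-1), .comm 9 8 36 (1), .comm 6 8 32 (1), .comm 0 8 18 (1), .comm 44 8 69 (1), .comm 25 8 60 (-1),
  .comm 2 8 27 (-1), .comm 53 8 71 (-1), .comm 14 8 49 (-1), .comm 40 39 37 (-1), .comm 65 39 63 (1), .comm 20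
  39 18 (-1), .comm 70 39 69 (1), .comm 38 36 37 (1), .comm 4 36 3 (-1), .comm 7 36 6 (-1), .comm 45 36 44
  (1), .comm 41 36 40 (1), .comm 55 37 54 (1), .comm 10 37 9 (-1), .comm 66 37 65 (1), .comm 21 37 20 (-1)]

theorem certB_E6_fast : certB fastE6 [0, 1, 2, 3, 4, 5] [1, -1] [56] stepsE6 = true := by decide +kernel

theorem cert_E6 : Cert (tabOf chevE6) [0, 1, 2, 3, 4, 5] [1, -1] [56] stepsE6 :=
  tab_E6 ▸ cert_of_certB certB_E6_fast

theorem pair_E6_fast : fastE6.pairing 2 56 = 0 ∧ fastE6.pairing 2 (fastE6.reflWord [0, 1, 2, 3, 4, 5] 56) = -1 := by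
  decide +kernel

theorem pair_E6 : (tabOf chevE6).pairing 2 56 = 0 ∧
    (tabOf chevE6).pairing 2 ((tabOf chevE6).reflWord [0, 1, 2, 3, 4, 5] 56) = -1 :=
  tab_E6 ▸ pair_E6_fast

/-- Steps of the derivation for type `E7`. -/
def stepsE7 : List Step :=
  [.w 78, .wi 78, .w 95, .wi 43, .w 84, .wi 49, .w 104, .wi 18, .w 113, .wi 37, .w 88, .wi 12, .w 107, .wi 21,
  .w 76, .wi 41, .w 82, .comm 99 78 95 (1), .comm 53 78 43 (1), .comm 85 78 76 (1), .comm 50 78 41 (-1), .comm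
  109 95 84 (1), .comm 44 95 21 (-1), .comm 105 95 82 (1), .comm 110 95 85 (1), .comm 33 43 49 (1), .comm 96
  43 107 (-1), .comm 20 43 30 (1), .comm 34 43 50 (1), .comm 119 84 104 (-1), .comm 27 84 12 (-1), .comm 75 84
  47 (-1), .comm 120 84 105 (-1), .comm 7 49 18 (1), .comm 79 49 88 (-1), .comm 40 49 47 (1), .comm 8 49 20
  (1), .comm 61 49 75 (-1), .comm 125 104 113 (1), .comm 93 104 37 (-1), .comm 81 104 30 (-1), .comm 62 104 20
  (1), .comm 115 104 75 (1), .comm 48 104 8 (1), .comm 103 104 61 (-1), .comm 73 18 113 (-1), .comm 2 18 37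
  (-1), .comm 29 18 82 (-1), .comm 59 18 105 (-1), .comm 83 18 120 (-1), .comm 3 18 40 (-1), .comm 17 18 61
  (1), .comm 57 18 103 (1), .comm 124 113 88 (1), .comm 98 113 41 (-1), .comm 102 113 50 (1), .comm 94 113 34
  (-1), .comm 54 113 7 (-1), .comm 122 113 81 (-1), .comm 112 113 62 (-1), .comm 100 113 48 (-1), .comm 86 113
  29 (-1), .comm 111 113 59 (-1), .comm 1 37 12 (1), .comm 46 37 76 (-1), .comm 56 37 85 (-1), .comm 51 37 81
  (-1), .comm 36 37 62 (1), .comm 10 37 29 (1), .comm 35 37 59 (1), .comm 123 88 107 (-1), .comm 32 88 21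
  (-1), .comm 74 88 44 (1), .comm 69 88 40 (1), .comm 87 88 61 (-1), .comm 117 88 98 (1), .comm 121 88 102
  (1), .comm 52 12 107 (-1), .comm 0 12 21 (1), .comm 39 12 96 (1), .comm 23 12 75 (-1), .comm 11 12 61 (1),
  .comm 5 12 46 (-1), .comm 9 12 56 (1), .comm 118 107 76 (1), .comm 66 107 20 (1), .comm 80 107 27 (1), .comm
  106 107 62 (-1), .comm 91 107 32 (1), .comm 116 107 74 (-1), .comm 15 107 0 (-1), .comm 70 107 23 (1), .comm
  42 107 5 (1), .comm 6 21 41 (-1), .comm 63 21 105 (-1), .comm 28 21 79 (1), .comm 19 21 59 (1), .comm 24 21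
  69 (1), .comm 77 21 117 (-1), .comm 4 21 39 (1), .comm 92 76 82 (1), .comm 64 76 50 (1), .comm 97 76 93 (1),
  .comm 114 76 102 (-1), .comm 67 76 51 (1), .comm 22 76 10 (-1), .comm 45 76 35 (1), .comm 71 76 52 (1),
  .comm 90 76 80 (-1), .comm 26 76 15 (-1), .comm 16 41 30 (1), .comm 108 41 122 (1), .comm 65 41 86 (-1),
  .comm 38 41 56 (1), .comm 25 41 32 (-1), .comm 72 41 91 (1), .comm 13 41 28 (-1), .comm 68 82 46 (1), .comm
  89 82 74 (-1), .comm 31 82 23 (1), .comm 14 30 39 (-1), .wi 111, .w 36, .wi 101, .w 55]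

theorem certB_E7_fast : certB fastE7 [0, 1, 2, 3, 4, 5, 6] [1, -1] [78] stepsE7 = true := by decide +kernel

theorem cert_E7 : Cert (tabOf chevE7) [0, 1, 2, 3, 4, 5, 6] [1, -1] [78] stepsE7 :=
  tab_E7 ▸ cert_of_certB certB_E7_fast

theorem pair_E7_fast : fastE7.pairing 0 78 = 0 ∧ fastE7.pairing 0 (fastE7.reflWord [0, 1, 2, 3, 4, 5, 6] 78) = -1 := by
  decide +kernel

theorem pair_E7 : (tabOf chevE7).pairing 0 78 = 0 ∧
    (tabOf chevE7).pairing 0 ((tabOf chevE7).reflWord [0, 1, 2, 3, 4, 5, 6] 78) = -1 :=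
  tab_E7 ▸ pair_E7_fast

/-- Steps of the derivation for type `E8`. -/
def stepsE8 : List Step :=
  [.w 162, .wi 162, .w 135, .wi 71, .w 142, .wi 94, .w 165, .wi 101, .w 149, .wi 59, .w 176, .wi 85, .w 190,
  .wi 47, .w 153, .wi 60, .w 179, .wi 86, .w 192, .wi 49, .w 154, .wi 63, .w 180, .wi 90, .w 138, .wi 74, .w
  145, .wi 97, .w 168, .comm 163 162 135 (-1), .comm 99 162 71 (1), .comm 171 162 149 (-1), .comm 81 162 59
  (1), .comm 175 162 153 (-1), .comm 82 162 60 (1), .comm 166 162 138 (-1), .comm 102 162 74 (1), .comm 147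
  135 142 (1), .comm 107 135 101 (1), .comm 186 135 176 (1), .comm 57 135 47 (-1), .comm 189 135 179 (1),
  .comm 95 135 90 (-1), .comm 150 135 145 (1), .comm 105 135 99 (1), .comm 185 135 175 (1), .comm 108 135 102
  (1), .comm 56 71 94 (1), .comm 114 71 165 (-1), .comm 40 71 85 (1), .comm 148 71 190 (-1), .comm 41 71 86
  (1), .comm 143 71 180 (-1), .comm 62 71 97 (1), .comm 37 71 82 (1), .comm 117 71 166 (-1), .comm 111 142 94
  (1), .comm 174 142 165 (1), .comm 100 142 85 (-1), .comm 206 142 190 (-1), .comm 208 142 192 (-1), .comm 72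
  142 63 (-1), .comm 177 142 168 (1), .comm 169 142 163 (-1), .comm 205 142 189 (-1), .comm 112 142 95 (1),
  .comm 80 94 101 (1), .comm 164 94 176 (-1), .comm 26 94 47 (-1), .comm 27 94 49 (-1), .comm 136 94 154 (-1),
  .comm 89 94 104 (1), .comm 78 94 99 (-1), .comm 22 94 41 (-1), .comm 115 94 143 (-1), .comm 184 94 205 (-1),
  .comm 188 165 149 (1), .comm 93 165 59 (-1), .comm 194 165 153 (1), .comm 88 165 49 (-1), .comm 195 165 154
  (1), .comm 137 165 77 (1), .comm 227 165 208 (-1), .comm 141 101 149 (-1), .comm 38 101 59 (1), .comm 39 101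
  60 (1), .comm 173 101 192 (-1), .comm 42 101 63 (1), .comm 73 101 77 (-1), .comm 36 101 56 (-1), .comm 16
  101 27 (-1), .comm 170 101 188 (1), .comm 79 101 93 (-1), .comm 116 101 137 (-1), .comm 207 149 176 (-1),
  .comm 210 149 179 (-1), .comm 109 149 86 (1), .comm 211 149 180 (-1), .comm 144 149 104 (-1), .comm 204 149
  174 (1), .comm 106 149 80 (-1), .comm 118 149 89 (1), .comm 219 149 195 (1), .comm 23 59 85 (-1), .comm 119
  59 179 (-1), .comm 24 59 86 (-1), .comm 28 59 90 (-1), .comm 96 59 168 (-1), .comm 110 59 174 (1), .comm 113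
  59 177 (-1), .comm 21 59 80 (1), .comm 8 59 42 (1), .comm 228 176 190 (1), .comm 229 176 192 (1), .comm 197
  176 138 (1), .comm 167 176 97 (-1), .comm 226 176 188 (-1), .comm 172 176 109 (-1), .comm 233 176 211 (-1),
  .comm 17 85 47 (1), .comm 18 85 49 (1), .comm 44 85 74 (1), .comm 103 85 145 (-1), .comm 15 85 38 (-1),
  .comm 84 85 119 (1), .comm 14 85 28 (-1), .comm 220 190 153 (1), .comm 221 190 154 (1), .comm 151 190 74
  (-1), .comm 212 190 145 (-1), .comm 234 190 207 (-1), .comm 187 190 113 (-1), .comm 232 190 197 (-1), .comm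
  9 47 60 (1), .comm 10 47 63 (1), .comm 66 47 138 (-1), .comm 31 47 97 (-1), .comm 46 47 118 (1), .comm 0 47
  23 (1), .comm 7 47 44 (-1), .comm 152 47 220 (-1), .comm 214 153 179 (-1), .comm 215 153 180 (-1), .comm 130
  153 90 (1), .comm 198 153 168 (1), .comm 235 153 228 (-1), .comm 225 153 212 (-1), .comm 25 60 86 (-1),
  .comm 120 60 180 (-1), .comm 29 60 90 (-1), .comm 50 60 104 (1), .comm 58 60 116 (1), .comm 1 60 17 (1),
  .comm 6 60 31 (-1), .comm 230 179 192 (1), .comm 126 179 63 (1), .comm 200 179 138 (1), .comm 157 179 77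
  (1), .comm 178 179 118 (-1), .comm 236 179 220 (1), .comm 231 179 198 (1), .comm 19 86 49 (1), .comm 121 86
  154 (-1), .comm 45 86 74 (1), .comm 64 86 77 (-1), .comm 83 86 113 (1), .comm 2 86 9 (-1), .comm 20 86 50
  (1), .comm 123 192 49 (1), .comm 222 192 154 (1), .comm 213 192 145 (-1), .comm 182 192 104 (-1), .comm 191
  192 119 (-1), .comm 237 192 214 (1), .comm 223 192 157 (1), .comm 87 192 19 (1), .comm 193 192 121 (-1),
  .comm 11 49 63 (1), .comm 33 49 97 (-1), .comm 91 49 168 (-1), .comm 43 49 109 (1), .comm 3 49 25 (-1),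
  .comm 181 49 230 (1), .comm 52 49 126 (1), .comm 12 49 64 (1), .comm 159 49 223 (-1), .comm 124 49 193 (-1),
  .comm 216 154 180 (-1), .comm 139 154 97 (-1), .comm 199 154 168 (1), .comm 209 154 173 (1), .comm 61 154 25
  (-1), .comm 155 154 120 (-1), .comm 238 154 230 (1), .comm 51 154 20 (-1), .comm 217 154 182 (-1), .comm 32
  63 90 (-1), .comm 75 63 145 (-1), .comm 53 63 104 (1), .comm 30 63 88 (1), .comm 156 63 214 (-1), .comm 67
  63 130 (1), .comm 201 63 231 (-1), .comm 4 63 19 (-1), .comm 34 63 91 (-1), .comm 127 63 181 (-1), .comm 65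
  63 124 (1), .comm 158 63 216 (1), .comm 140 63 199 (-1), .comm 13 63 51 (1), .comm 160 63 217 (1), .comm 146
  180 74 (-1), .comm 196 180 136 (-1), .comm 48 180 9 (1), .comm 131 180 66 (1), .comm 239 180 222 (-1), .comm
  92 180 33 (1), .comm 54 180 12 (-1), .comm 218 180 159 (-1), .comm 183 180 124 (-1), .comm 202 180 139 (1),
  .comm 122 180 61 (1), .comm 129 180 65 (-1), .comm 98 90 138 (-1), .comm 68 90 77 (-1), .comm 5 90 11 (1),
  .comm 133 90 159 (1), .comm 35 90 65 (-1), .comm 134 90 160 (1), .comm 132 138 104 (1), .comm 224 138 216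
  (1), .comm 69 138 51 (-1), .comm 70 138 54 (-1), .comm 203 138 183 (1), .comm 125 74 168 (-1), .comm 76 74
  131 (1), .comm 55 74 92 (1), .comm 161 74 202 (-1), .comm 128 145 97 (1)]

theorem certB_E8_fast : certB fastE8 [0, 1, 2, 3, 4, 5, 6, 7] [1, -1] [162] stepsE8 = true := by decide +kernel

theorem cert_E8 : Cert (tabOf chevE8) [0, 1, 2, 3, 4, 5, 6, 7] [1, -1] [162] stepsE8 :=
  tab_E8 ▸ cert_of_certB certB_E8_fast

theorem pair_E8_fast : fastE8.pairing 5 162 = 0 ∧ fastE8.pairing 5 (fastE8.reflWord [0, 1, 2, 3, 4, 5, 6, 7] 162) = -1 := by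
  decide +kernel

theorem pair_E8 : (tabOf chevE8).pairing 5 162 = 0 ∧
    (tabOf chevE8).pairing 5 ((tabOf chevE8).reflWord [0, 1, 2, 3, 4, 5, 6, 7] 162) = -1 :=
  tab_E8 ▸ pair_E8_fast

set_option linter.unusedSectionVars false

variable (F : Type*) [Field F] [Fintype F]

theorem hks1 : ∀ c ∈ ([1, -1] : List ℤ), ((c : ℤ) : F) ≠ 0 := by
  intro c hc
  simp only [List.mem_cons, List.not_mem_nil, or_false] at hc
  rcases hc with rfl | rfl <;> simp

theorem hksn {m : ℤ} (hm : ((m : ℤ) : F) ≠ 0) : ∀ c ∈ ([1, -1, m, -m] : List ℤ), ((c : ℤ) : F) ≠ 0 := by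
  intro c hc
  simp only [List.mem_cons, List.not_mem_nil, or_false] at hc
  rcases hc with rfl | rfl | rfl | rfl
  · simp
  · simp
  · exact hm
  · rw [Int.cast_neg]; exact neg_ne_zero.mpr hm

/-- Two generators for type `G2`. -/
theorem two_gen_G2 (h3 : ((3 : ℤ) : F) ≠ 0) :
    ∃ a b : ↥(chevG2.group F), Subgroup.closure ({a, b} : Set ↥(chevG2.group F)) = ⊤ :=
  two_gen_one_seed good3_G2.toGood2 (fun r s hr hs hsr hsn => good3_G2.comm hr hs hsr hsn)
    (w := [0, 1]) (by decide) (p0 := 7) (r := 0) (by decide) (by decide) pair_G2.1 (Or.inr pair_G2.2)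
    (hksn F h3) cert_G2

/-- Two generators for type `F4`. -/
theorem two_gen_F4 (h2 : ((2 : ℤ) : F) ≠ 0) :
    ∃ a b : ↥(chevF4.group F), Subgroup.closure ({a, b} : Set ↥(chevF4.group F)) = ⊤ :=
  two_gen_one_seed good3_F4.toGood2 (fun r s hr hs hsr hsn => good3_F4.comm hr hs hsr hsn)
    (w := [0, 1, 2, 3]) (by decide) (p0 := 33) (r := 2) (by decide) (by decide) pair_F4.1 (Or.inr pair_F4.2)
    (hksn F h2) cert_F4

/-- Two generators for type `E6`. -/
theorem two_gen_E6 :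
    ∃ a b : ↥(chevE6.group F), Subgroup.closure ({a, b} : Set ↥(chevE6.group F)) = ⊤ :=
  two_gen_one_seed good3_E6.toGood2 (fun r s hr hs hsr hsn => good3_E6.comm hr hs hsr hsn)
    (w := [0, 1, 2, 3, 4, 5]) (by decide) (p0 := 56) (r := 2) (by decide) (by decide) pair_E6.1 (Or.inr pair_E6.2)
    (hks1 F) cert_E6

/-- Two generators for type `E7`. -/
theorem two_gen_E7 :
    ∃ a b : ↥(chevE7.group F), Subgroup.closure ({a, b} : Set ↥(chevE7.group F)) = ⊤ :=
  two_gen_one_seed good3_E7.toGood2 (fun r s hr hs hsr hsn => good3_E7.comm hr hs hsr hsn)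
    (w := [0, 1, 2, 3, 4, 5, 6]) (by decide) (p0 := 78) (r := 0) (by decide) (by decide) pair_E7.1 (Or.inr pair_E7.2)
    (hks1 F) cert_E7

/-- Two generators for type `E8`. -/
theorem two_gen_E8 :
    ∃ a b : ↥(chevE8.group F), Subgroup.closure ({a, b} : Set ↥(chevE8.group F)) = ⊤ :=
  two_gen_one_seed good3_E8.toGood2 (fun r s hr hs hsr hsn => good3_E8.comm hr hs hsr hsn)
    (w := [0, 1, 2, 3, 4, 5, 6, 7]) (by decide) (p0 := 162) (r := 5) (by decide) (by decide) pair_E8.1 (Or.inr pair_E8.2)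
    (hks1 F) cert_E8

end Cfsg.Agent.Helper8.CGen
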