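import Mathlib
import Cfsg.Agent.Helper8.CGenB

set_option autoImplicit false
set_option linter.unusedSectionVars false
set_option linter.unusedVariables false

/-!
Generation of a Chevalley group by two elements `h_r(k) x_σ(1) x_λ(1)` and `n_w`: the generic argument with two
seed roots, each obtained as the commutator of `x_σ(1) x_λ(1)` with one of its conjugates under a power of `n_w`.
-/

namespace Cfsg.Agent.Helper8.CGen

open Cfsg Cfsg.Lie Matrix Cfsg.Agent.Helper7.Chev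

variable {D : ChevalleyDatum} {F : Type*} [Field F]

/-! ### Powers of a word -/

/-- The concatenation of `j` copies of a word. -/
def wordPow (w : List ℕ) : ℕ → List ℕ
  | 0 => []
  | j + 1 => w ++ wordPow w j

theorem wordPow_lt {w : List ℕ} {n : ℕ} (hw : ∀ i ∈ w, i < n) : ∀ j, ∀ i ∈ wordPow w j, i < n
  | 0 => by intro i hi; simp [wordPow] at hi
  | j + 1 => by
    intro i hi
    simp only [wordPow, List.mem_append] at hi
    rcases hi with hi | hi
    · exact hw i hi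
    · exact wordPow_lt hw j i hi

theorem nWordGL_append (hG : Good2 D) (w₁ w₂ : List ℕ) :
    (nWordGL hG (w₁ ++ w₂) : GL D.Idx F) = nWordGL hG w₁ * nWordGL hG w₂ := by
  unfold nWordGL
  rw [List.map_append, List.prod_append]

theorem nWordGL_wordPow (hG : Good2 D) (w : List ℕ) : ∀ j : ℕ,
    (nWordGL hG (wordPow w j) : GL D.Idx F) = (nWordGL hG w) ^ j
  | 0 => by simp [wordPow, nWordGL]
  | j + 1 => by
    rw [wordPow, nWordGL_append, nWordGL_wordPow hG w j, pow_succ']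

/-! ### Commutation of root elements -/

namespace Tab'

/-- The root elements of `a` and `b` commute, by the tables. -/
def Commutes (T : Tab) (a b : ℕ) : Prop :=
  a < T.n ∧ b < T.n ∧ (a = b ∨ (b ≠ a ∧ b ≠ T.neg a ∧ T.commTerms a b = []))

instance (T : Tab) (a b : ℕ) : Decidable (Commutes T a b) := by unfold Commutes; infer_instance

end Tab'

section comm

variable (hG : Good2 D)
  (hcomm : ∀ r s, r < D.nroots → s < D.nroots → s ≠ r → s ≠ D.neg r → Comm D F r s)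

include hcomm in
theorem commute_of_commutes {a b : ℕ} (ha : a < D.nroots) (hb : b < D.nroots)
    (h : Tab'.Commutes (tabOf D) a b) (t u : F) :
    Commute (xGL hG.toGood1 ha t) (xGL hG.toGood1 hb u) := by
  obtain ⟨_, _, h⟩ := h
  rcases h with h | ⟨h1, h2, h3⟩
  · subst h
    change xGL hG.toGood1 ha t * xGL hG.toGood1 ha u = xGL hG.toGood1 ha u * xGL hG.toGood1 ha t
    rw [xGL_mul, xGL_mul, add_comm]
  · have hf := hcomm a b ha hb h1 h2 t u
    have hW : D.commWord F a b t u = [] := by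
      unfold ChevalleyDatum.commWord
      rw [← commTerms_eq, h3]; rfl
    rw [hW, wordMat_nil, mul_one] at hf
    change xGL hG.toGood1 ha t * xGL hG.toGood1 hb u = xGL hG.toGood1 hb u * xGL hG.toGood1 ha t
    apply Units.ext
    rw [Units.val_mul, Units.val_mul, xGL_coe, xGL_coe]
    exact hf.symm

include hcomm in
theorem xGL_comm_of_single {q r s : ℕ} {c : ℤ} (hr : r < D.nroots) (hs : s < D.nroots)
    (hst : (tabOf D).SingleTerm q r s c) (hq : q < D.nroots) (t u : F) :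
    xGL hG.toGood1 hs u * xGL hG.toGood1 hr t =
      xGL hG.toGood1 hr t * xGL hG.toGood1 hs u * xGL hG.toGood1 hq ((c : F) * (-t) * u) := by
  obtain ⟨_, _, hsr, hsn, hct⟩ := hst
  have hf := hcomm r s hr hs hsr hsn t u
  have hW : D.commWord F r s t u = [(q, (c : F) * (-t) * u)] := by
    unfold ChevalleyDatum.commWord
    rw [← commTerms_eq, hct]
    simp
  rw [hW, wordMat_cons, wordMat_nil, mul_one] at hf
  apply Units.ext
  rw [Units.val_mul, Units.val_mul, Units.val_mul, xGL_coe, xGL_coe, xGL_coe]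
  exact hf

end comm

/-- The commutator of two products, all of whose factors commute except one pair. -/
theorem comm_pattern {G : Type*} [Group G] {A B C E : G} (hBA : Commute B A) (hBC : Commute B C)
    (hBE : Commute B E) (hEA : Commute E A) (hEC : Commute E C) :
    (C * E)⁻¹ * (A * B)⁻¹ * (C * E) * (A * B) = C⁻¹ * A⁻¹ * C * A := by
  have hBX : Commute B (C * E) := hBC.mul_right hBE
  have h1 : Commute B (A⁻¹ * (C * E) * A) := (hBA.inv_right.mul_right hBX).mul_right hBA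
  have e1 : (A * B)⁻¹ * (C * E) * (A * B) = A⁻¹ * (C * E) * A := by
    calc (A * B)⁻¹ * (C * E) * (A * B) = B⁻¹ * ((A⁻¹ * (C * E) * A) * B) := by group
      _ = B⁻¹ * (B * (A⁻¹ * (C * E) * A)) := by rw [h1.eq]
      _ = A⁻¹ * (C * E) * A := by group
  have h2 : Commute E (C⁻¹ * A⁻¹ * C * A) :=
    ((hEC.inv_right.mul_right hEA.inv_right).mul_right hEC).mul_right hEA
  calc (C * E)⁻¹ * (A * B)⁻¹ * (C * E) * (A * B)
      = (C * E)⁻¹ * ((A * B)⁻¹ * (C * E) * (A * B)) := by group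
    _ = (C * E)⁻¹ * (A⁻¹ * (C * E) * A) := by rw [e1]
    _ = E⁻¹ * (C⁻¹ * A⁻¹ * C * (E * A)) := by group
    _ = E⁻¹ * (C⁻¹ * A⁻¹ * C * (A * E)) := by rw [hEA.eq]
    _ = E⁻¹ * ((C⁻¹ * A⁻¹ * C * A) * E) := by group
    _ = E⁻¹ * (E * (C⁻¹ * A⁻¹ * C * A)) := by rw [h2.eq]
    _ = C⁻¹ * A⁻¹ * C * A := by group

section seed

variable (hG : Good2 D) {M : Subgroup (GL D.Idx F)}
  (hcomm : ∀ r s, r < D.nroots → s < D.nroots → s ≠ r → s ≠ D.neg r → Comm D F r s)

include hcomm in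
/-- A nontrivial root element from the commutator of `x_p(1) x_p'(1)` with a conjugate. -/
theorem seed_of_pattern {w₁ : List ℕ} (hw₁ : ∀ i ∈ w₁, i < D.rank)
    (hb : (nWordGL hG w₁ : GL D.Idx F) ∈ M) {p p' γ : ℕ} {c : ℤ}
    (hp : p < D.nroots) (hp' : p' < D.nroots)
    (hst : (tabOf D).SingleTerm γ p ((tabOf D).reflWord w₁ p) c)
    (h0 : Tab'.Commutes (tabOf D) p' p)
    (h1 : Tab'.Commutes (tabOf D) p' ((tabOf D).reflWord w₁ p))
    (h2 : Tab'.Commutes (tabOf D) p' ((tabOf D).reflWord w₁ p'))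
    (h3 : Tab'.Commutes (tabOf D) ((tabOf D).reflWord w₁ p') p)
    (h4 : Tab'.Commutes (tabOf D) ((tabOf D).reflWord w₁ p') ((tabOf D).reflWord w₁ p))
    (hγ : γ < D.nroots) (hc : ((c : ℤ) : F) ≠ 0)
    (hu : xGL hG.toGood1 hp (1 : F) * xGL hG.toGood1 hp' 1 ∈ M) :
    ∃ t₀ : F, t₀ ≠ 0 ∧ xGL hG.toGood1 hγ t₀ ∈ M := by
  have hG1 := hG.toGood1
  set A : GL D.Idx F := xGL hG1 hp (1 : F) with hA
  set B : GL D.Idx F := xGL hG1 hp' (1 : F) with hB
  set b : GL D.Idx F := nWordGL hG w₁ with hb'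
  have hp1 : (tabOf D).reflWord w₁ p < D.nroots := reflWord_lt hG hw₁ hp
  have hp1' : (tabOf D).reflWord w₁ p' < D.nroots := reflWord_lt hG hw₁ hp'
  set η : F := (((tabOf D).etaWord w₁ p : ℤ) : F) * 1 with hη
  set η' : F := (((tabOf D).etaWord w₁ p' : ℤ) : F) * 1 with hη'
  set C : GL D.Idx F := xGL hG1 hp1 η with hC
  set E : GL D.Idx F := xGL hG1 hp1' η' with hE
  have eC : b * A * b⁻¹ = C := nWordGL_conj (F := F) hG hw₁ hp (1 : F)
  have eE : b * B * b⁻¹ = E := nWordGL_conj (F := F) hG hw₁ hp' (1 : F)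
  have hCE : C * E ∈ M := by
    have : C * E = b * (A * B) * b⁻¹ := by rw [← eC, ← eE]; group
    rw [this]
    exact mul_mem (mul_mem hb hu) (inv_mem hb)
  have hBA : Commute B A := commute_of_commutes hG hcomm hp' hp h0 1 1
  have hBC : Commute B C := commute_of_commutes hG hcomm hp' hp1 h1 1 η
  have hBE : Commute B E := commute_of_commutes hG hcomm hp' hp1' h2 1 η'
  have hEA : Commute E A := commute_of_commutes hG hcomm hp1' hp h3 η' 1
  have hEC : Commute E C := commute_of_commutes hG hcomm hp1' hp1 h4 η' η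
  have key := comm_pattern hBA hBC hBE hEA hEC
  have hmem : C⁻¹ * A⁻¹ * C * A ∈ M := by
    rw [← key]
    exact mul_mem (mul_mem (mul_mem (inv_mem hCE) (inv_mem hu)) hCE) hu
  have hs := xGL_comm_of_single (F := F) hG hcomm hp hp1 hst hγ (1 : F) η
  have hs' : C * A = A * C * xGL hG1 hγ ((c : F) * (-1) * η) := hs
  have e : C⁻¹ * A⁻¹ * C * A = xGL hG1 hγ ((c : F) * (-1) * η) := by
    calc C⁻¹ * A⁻¹ * C * A = C⁻¹ * A⁻¹ * (C * A) := by group
      _ = C⁻¹ * A⁻¹ * (A * C * xGL hG1 hγ ((c : F) * (-1) * η)) := by rw [hs']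
      _ = xGL hG1 hγ ((c : F) * (-1) * η) := by group
  refine ⟨(c : F) * (-1) * η, ?_, ?_⟩
  · have hη0 : η ≠ 0 := by
      rw [hη, mul_one]; exact etaWord_cast_ne_zero hG hw₁ hp
    have : ((c : ℤ) : F) * (-1) ≠ 0 := mul_ne_zero hc (by simp)
    exact mul_ne_zero this hη0
  · rw [← e]; exact hmem

end seed

/-- Two elements of a subgroup `K` whose closure in the ambient group contains `K` generate `K`. -/
theorem closure_pair_eq_top {G : Type*} [Group G] {K : Subgroup G} {a b : G} (ha : a ∈ K) (hb : b ∈ K)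
    (hle : K ≤ Subgroup.closure {a, b}) :
    Subgroup.closure ({⟨a, ha⟩, ⟨b, hb⟩} : Set ↥K) = ⊤ := by
  rw [eq_top_iff]
  intro g _
  have hg : (g : G) ∈ Subgroup.closure {a, b} := hle g.2
  have hmap : (Subgroup.closure ({⟨a, ha⟩, ⟨b, hb⟩} : Set ↥K)).map K.subtype =
      Subgroup.closure {a, b} := by
    rw [MonoidHom.map_closure]
    congr 1
    ext y
    simp only [Set.mem_image, Set.mem_insert_iff, Set.mem_singleton_iff, Subgroup.coe_subtype]
    constructor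
    · rintro ⟨z, rfl | rfl, rfl⟩
      · left; rfl
      · right; rfl
    · rintro (rfl | rfl)
      · exact ⟨_, Or.inl rfl, rfl⟩
      · exact ⟨_, Or.inr rfl, rfl⟩
  rw [← hmap] at hg
  obtain ⟨g', hg', hgg⟩ := hg
  have : g' = g := Subtype.ext hgg
  rwa [this] at hg'

/-- The two-generator theorem with two seed roots. -/
theorem two_gen_two_seed [Fintype F] (hG : Good2 D)
    (hcomm : ∀ r s, r < D.nroots → s < D.nroots → s ≠ r → s ≠ D.neg r → Comm D F r s)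
    {w : List ℕ} (hw : ∀ i ∈ w, i < D.rank)
    {σ lam r : ℕ} (hσ : σ < D.nroots) (hlam : lam < D.nroots) (hr : r < D.nroots)
    (h0σ : (tabOf D).pairing r σ = 0) (h0l : (tabOf D).pairing r lam = 0)
    (hσl : Tab'.Commutes (tabOf D) lam σ) (hlσ : Tab'.Commutes (tabOf D) σ lam)
    {j₁ j₂ γ₁ γ₂ : ℕ} {c₁ c₂ : ℤ}
    -- first seed
    (hst₁ : (tabOf D).SingleTerm γ₁ σ ((tabOf D).reflWord (wordPow w j₁) σ) c₁)
    (ha₁ : Tab'.Commutes (tabOf D) lam ((tabOf D).reflWord (wordPow w j₁) σ))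
    (hb₁ : Tab'.Commutes (tabOf D) lam ((tabOf D).reflWord (wordPow w j₁) lam))
    (hc₁ : Tab'.Commutes (tabOf D) ((tabOf D).reflWord (wordPow w j₁) lam) σ)
    (hd₁ : Tab'.Commutes (tabOf D) ((tabOf D).reflWord (wordPow w j₁) lam)
      ((tabOf D).reflWord (wordPow w j₁) σ))
    (hγ₁ : γ₁ < D.nroots) (hcc₁ : ((c₁ : ℤ) : F) ≠ 0)
    (hp₁ : (tabOf D).pairing r γ₁ = 1 ∨ (tabOf D).pairing r γ₁ = -1)
    -- second seed
    (hst₂ : (tabOf D).SingleTerm γ₂ lam ((tabOf D).reflWord (wordPow w j₂) lam) c₂)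
    (ha₂ : Tab'.Commutes (tabOf D) σ ((tabOf D).reflWord (wordPow w j₂) lam))
    (hb₂ : Tab'.Commutes (tabOf D) σ ((tabOf D).reflWord (wordPow w j₂) σ))
    (hc₂ : Tab'.Commutes (tabOf D) ((tabOf D).reflWord (wordPow w j₂) σ) lam)
    (hd₂ : Tab'.Commutes (tabOf D) ((tabOf D).reflWord (wordPow w j₂) σ)
      ((tabOf D).reflWord (wordPow w j₂) lam))
    (hγ₂ : γ₂ < D.nroots) (hcc₂ : ((c₂ : ℤ) : F) ≠ 0)
    (hp₂ : (tabOf D).pairing r γ₂ = 1 ∨ (tabOf D).pairing r γ₂ = -1)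
    {ks : List ℤ} (hks : ∀ c ∈ ks, ((c : ℤ) : F) ≠ 0) {steps : List Step}
    (cert : Cert (tabOf D) w ks [γ₁, γ₂] steps) :
    ∃ a b : ↥(D.group F), Subgroup.closure ({a, b} : Set ↥(D.group F)) = ⊤ := by
  classical
  have hG1 := hG.toGood1
  obtain ⟨k, hk0, hkgen, hkgen', hkq⟩ := exists_gen F
  set h : GL D.Idx F := hGL hG1 hr k hk0 with hh
  set xs : GL D.Idx F := xGL hG1 hσ (1 : F) with hxs
  set xl : GL D.Idx F := xGL hG1 hlam (1 : F) with hxl
  set b0 : GL D.Idx F := nWordGL hG w with hb0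
  set M : Subgroup (GL D.Idx F) := Subgroup.closure {h * (xs * xl), b0} with hM
  have hb0M : b0 ∈ M := Subgroup.subset_closure (by simp)
  have haM : h * (xs * xl) ∈ M := Subgroup.subset_closure (by simp)
  have hsl : Commute xs xl := commute_of_commutes hG hcomm hσ hlam hlσ 1 1
  -- `h` commutes with `xs` and `xl`
  have hcs : Commute h xs := by
    have e := hGL_conj_xGL (F := F) hG hr hk0 hσ (1 : F)
    rw [h0σ, zpow_zero, one_mul] at e
    have e2 : h * xs * h⁻¹ = xs := e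
    have e' : h * xs = xs * h := by
      calc h * xs = (h * xs * h⁻¹) * h := by group
        _ = xs * h := by rw [e2]
    exact e'
  have hcl : Commute h xl := by
    have e := hGL_conj_xGL (F := F) hG hr hk0 hlam (1 : F)
    rw [h0l, zpow_zero, one_mul] at e
    have e2 : h * xl * h⁻¹ = xl := e
    have e' : h * xl = xl * h := by
      calc h * xl = (h * xl * h⁻¹) * h := by group
        _ = xl * h := by rw [e2]
    exact e'
  have hcm : Commute h (xs * xl) := hcs.mul_right hcl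
  -- orders
  have hho : h ^ (Fintype.card F - 1) = 1 := hGL_pow_eq_one hG1 hr hk0 hkq
  have : Fact (ringChar F).Prime := ⟨CharP.char_is_prime F (ringChar F)⟩
  obtain ⟨n, hp, hcard⟩ := FiniteField.card F (ringChar F)
  have hxo : (xs * xl) ^ (ringChar F) = 1 := by
    rw [hsl.mul_pow, hxs, hxl, xGL_pow, xGL_pow, CharP.cast_eq_zero, zero_mul, xGL_zero, xGL_zero,
      one_mul]
  have hcop : (Fintype.card F - 1).Coprime (ringChar F) := by
    apply Nat.Coprime.symm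
    rw [Nat.Prime.coprime_iff_not_dvd hp]
    intro hdvd
    have h2 : ringChar F ∣ Fintype.card F := by
      rw [hcard]; exact dvd_pow_self _ n.ne_zero
    have h3 : 1 ≤ Fintype.card F := Fintype.card_pos
    have : ringChar F ∣ 1 := by
      have := (Nat.dvd_sub h2 hdvd)
      rwa [Nat.sub_sub_self h3] at this
    exact hp.one_lt.ne' (Nat.dvd_one.mp this)
  obtain ⟨hhM, huM⟩ := Cfsg.Agent.Helper8.SpGen.mem_of_commute_coprime hcm hho hxo hcop M haM
  have huM' : xl * xs ∈ M := by rw [← hsl.eq]; exact huM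
  -- the seeds
  have hbj : ∀ j : ℕ, (nWordGL hG (wordPow w j) : GL D.Idx F) ∈ M := by
    intro j
    rw [nWordGL_wordPow]
    exact pow_mem hb0M j
  have hwj : ∀ j : ℕ, ∀ i ∈ wordPow w j, i < D.rank := fun j => wordPow_lt hw j
  obtain ⟨t₁, ht₁, hx₁⟩ := seed_of_pattern hG hcomm (hwj j₁) (hbj j₁) hσ hlam hst₁ hσl ha₁ hb₁ hc₁ hd₁
    hγ₁ hcc₁ huM
  obtain ⟨t₂, ht₂, hx₂⟩ := seed_of_pattern hG hcomm (hwj j₂) (hbj j₂) hlam hσ hst₂ hlσ ha₂ hb₂ hc₂ hd₂
    hγ₂ hcc₂ huM'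
  have scale : ∀ {γ : ℕ} (hγ : γ < D.nroots) {t₀ : F}, t₀ ≠ 0 → xGL hG1 hγ t₀ ∈ M →
      ((tabOf D).pairing r γ = 1 ∨ (tabOf D).pairing r γ = -1) → InM hG M γ := by
    intro γ hγ t₀ ht₀ hx hpair
    rcases hpair with h1 | h1
    · refine inM_of_scale hG hγ hhM (c := k) ?_ hkgen ht₀ hx
      intro t
      have e := hGL_conj_xGL (F := F) hG hr hk0 hγ t
      rw [h1, zpow_one] at e
      exact e
    · refine inM_of_scale hG hγ hhM (c := k⁻¹) ?_ hkgen' ht₀ hx
      intro t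
      have e := hGL_conj_xGL (F := F) hG hr hk0 hγ t
      rw [h1, _root_.zpow_neg_one] at e
      exact e
  have hin₁ : InM hG M γ₁ := scale hγ₁ ht₁ hx₁ hp₁
  have hin₂ : InM hG M γ₂ := scale hγ₂ ht₂ hx₂ hp₂
  have hle : D.group F ≤ M := by
    refine group_le_of_cert hG hcomm hw hb0M hks cert ?_
    intro s hs
    simp only [List.mem_cons, List.not_mem_nil, or_false] at hs
    rcases hs with rfl | rfl
    · exact hin₁
    · exact hin₂
  -- membership in the group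
  have hhG : h ∈ D.group F :=
    diagonalSubgroup_le_group hG1 (hGL_mem_diagonal hG hr k hk0)
  have hxG : xs * xl ∈ D.group F := mul_mem (xGL_mem_group hG hσ 1) (xGL_mem_group hG hlam 1)
  have hbG : b0 ∈ D.group F := monomialSubgroup_le_group hG1 (nWordGL_mem hG w)
  refine ⟨⟨h * (xs * xl), mul_mem hhG hxG⟩, ⟨b0, hbG⟩, ?_⟩
  exact closure_pair_eq_top _ _ hle

end Cfsg.Agent.Helper8.CGen

namespace Cfsg.Agent.Helper8.CGen

open Cfsg Cfsg.Lie Matrix Cfsg.Agent.Helper7.Chev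

/-- The table conditions of the two-seed theorem (constants `±1`). -/
def TwoSeedCond (T : Tab) (w : List ℕ) (σ lam r j₁ j₂ γ₁ γ₂ : ℕ) (c₁ c₂ : ℤ) : Prop :=
  (σ < T.n ∧ lam < T.n ∧ r < T.n ∧ γ₁ < T.n ∧ γ₂ < T.n) ∧
  (T.pairing r σ = 0 ∧ T.pairing r lam = 0) ∧
  (Tab'.Commutes T lam σ ∧ Tab'.Commutes T σ lam) ∧
  (T.SingleTerm γ₁ σ (T.reflWord (wordPow w j₁) σ) c₁ ∧
    Tab'.Commutes T lam (T.reflWord (wordPow w j₁) σ) ∧
    Tab'.Commutes T lam (T.reflWord (wordPow w j₁) lam) ∧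
    Tab'.Commutes T (T.reflWord (wordPow w j₁) lam) σ ∧
    Tab'.Commutes T (T.reflWord (wordPow w j₁) lam) (T.reflWord (wordPow w j₁) σ) ∧
    (c₁ = 1 ∨ c₁ = -1) ∧ (T.pairing r γ₁ = 1 ∨ T.pairing r γ₁ = -1)) ∧
  (T.SingleTerm γ₂ lam (T.reflWord (wordPow w j₂) lam) c₂ ∧
    Tab'.Commutes T σ (T.reflWord (wordPow w j₂) lam) ∧
    Tab'.Commutes T σ (T.reflWord (wordPow w j₂) σ) ∧
    Tab'.Commutes T (T.reflWord (wordPow w j₂) σ) lam ∧
    Tab'.Commutes T (T.reflWord (wordPow w j₂) σ) (T.reflWord (wordPow w j₂) lam) ∧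
    (c₂ = 1 ∨ c₂ = -1) ∧ (T.pairing r γ₂ = 1 ∨ T.pairing r γ₂ = -1))

instance (T : Tab) (w : List ℕ) (σ lam r j₁ j₂ γ₁ γ₂ : ℕ) (c₁ c₂ : ℤ) :
    Decidable (TwoSeedCond T w σ lam r j₁ j₂ γ₁ γ₂ c₁ c₂) := by
  unfold TwoSeedCond; infer_instance

theorem cast_ne_zero_of_pm_one {F : Type*} [Field F] {c : ℤ} (h : c = 1 ∨ c = -1) : ((c : ℤ) : F) ≠ 0 := by
  rcases h with rfl | rfl <;> simp

/-- The two-seed theorem from the table conditions. -/
theorem two_gen_of_twoSeedCond {D : ChevalleyDatum} {F : Type*} [Field F] [Fintype F] (hG : Good2 D)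
    (hcomm : ∀ r s, r < D.nroots → s < D.nroots → s ≠ r → s ≠ D.neg r → Comm D F r s)
    {w : List ℕ} (hw : ∀ i ∈ w, i < D.rank) {σ lam r j₁ j₂ γ₁ γ₂ : ℕ} {c₁ c₂ : ℤ}
    (hc : TwoSeedCond (tabOf D) w σ lam r j₁ j₂ γ₁ γ₂ c₁ c₂)
    {ks : List ℤ} (hks : ∀ c ∈ ks, ((c : ℤ) : F) ≠ 0) {steps : List Step}
    (cert : Cert (tabOf D) w ks [γ₁, γ₂] steps) :
    ∃ a b : ↥(D.group F), Subgroup.closure ({a, b} : Set ↥(D.group F)) = ⊤ := by
  obtain ⟨⟨hσ, hlam, hr, hγ₁, hγ₂⟩, ⟨h0σ, h0l⟩, ⟨hσl, hlσ⟩,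
    ⟨hst₁, ha₁, hb₁, hc₁, hd₁, hcc₁, hp₁⟩, ⟨hst₂, ha₂, hb₂, hc₂, hd₂, hcc₂, hp₂⟩⟩ := hc
  exact two_gen_two_seed hG hcomm hw hσ hlam hr h0σ h0l hσl hlσ hst₁ ha₁ hb₁ hc₁ hd₁ hγ₁
    (cast_ne_zero_of_pm_one hcc₁) hp₁ hst₂ ha₂ hb₂ hc₂ hd₂ hγ₂ (cast_ne_zero_of_pm_one hcc₂) hp₂ hks cert

end Cfsg.Agent.Helper8.CGen
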