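import Mathlib
import Cfsg.Agent.Helper8.CGenD
import Cfsg.Agent.Helper8.CGenC

set_option autoImplicit false
set_option maxRecDepth 100000

/-!
The Chevalley group of type F4 over any finite field is generated by two elements (two-seed certificate).
-/

namespace Cfsg.Agent.Helper8.CGen

open Cfsg Cfsg.Lie Matrix Cfsg.Agent.Helper7.Chev

/-- Steps of the derivation for type `F4` from a short and a long seed. -/
def steps2F4 : List Step :=
  [.w 11, .wi 11, .w 0, .wi 0, .w 33, .wi 19, .w 15, .wi 1, .w 27, .wi 9, .w 21, .wi 2, .w 35, .wi 12, .w 41,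
  .wi 6, .w 38, .wi 20, .w 45, .wi 26, .w 28, .w 46, .comm 18 11 33 (-1), .comm 8 11 19 (1), .comm 23 0 46
  (-1), .comm 5 0 32 (1), .comm 34 33 27 (-1), .comm 7 19 9 (1), .comm 17 15 26 (-1), .comm 42 15 47 (1),
  .comm 22 1 45 (-1), .comm 24 1 47 (-1), .comm 37 27 35 (1), .comm 3 9 12 (-1), .comm 4 21 6 (1), .comm 30 21
  32 (-1), .comm 16 2 41 (-1), .comm 25 2 46 (-1), .comm 44 35 38 (-1), .comm 10 12 20 (1), .comm 43 41 26
  (1), .comm 31 6 45 (-1), .comm 40 38 28 (1), .comm 13 20 14 (-1), .comm 39 20 40 (1), .comm 29 14 36 (-1)]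

theorem cert2B_F4_fast : certB fastF4 [0, 1, 2, 3] [1, -1] [11, 0] steps2F4 = true := by decide +kernel

theorem cert2_F4 : Cert (tabOf chevF4) [0, 1, 2, 3] [1, -1] [11, 0] steps2F4 :=
  tab_F4 ▸ cert_of_certB cert2B_F4_fast

theorem twoSeedCond_F4_fast : TwoSeedCond fastF4 [0, 1, 2, 3] 3 4 23 5 1 11 0 (-1) (-1) := by
  decide +kernel

theorem twoSeedCond_F4 : TwoSeedCond (tabOf chevF4) [0, 1, 2, 3] 3 4 23 5 1 11 0 (-1) (-1) :=
  tab_F4 ▸ twoSeedCond_F4_fast

/-- Two generators for type `F4`, any finite field. -/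
theorem two_gen_F4_all (F : Type*) [Field F] [Fintype F] :
    ∃ a b : ↥(chevF4.group F), Subgroup.closure ({a, b} : Set ↥(chevF4.group F)) = ⊤ :=
  two_gen_of_twoSeedCond good3_F4.toGood2 (fun r s hr hs hsr hsn => good3_F4.comm hr hs hsr hsn)
    (w := [0, 1, 2, 3]) (by decide) twoSeedCond_F4 (hks1 F) cert2_F4

end Cfsg.Agent.Helper8.CGen
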