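import Mathlib
import Cfsg.Agent.Helper8.CGenD

set_option autoImplicit false
set_option linter.unusedSectionVars false
set_option linter.unusedVariables false

/-!
Shared lemmas for the generation of the rank two Chevalley groups in the characteristic of their special isogeny:
the generator `h_r(k) x_λ(1) x_α(1)`, where `h_r(k)` centralizes `x_α(1)` but not `x_λ(1)`.
-/

namespace Cfsg.Agent.Helper8.CGen

open Cfsg Cfsg.Lie Matrix Cfsg.Agent.Helper7.Chev

variable {D : ChevalleyDatum} {F : Type*} [Field F]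

/-- The Frobenius map of a finite field is onto. -/
theorem frob_surj [Finite F] (p : ℕ) [Fact p.Prime] [CharP F p] (y : F) : ∃ z : F, z ^ p = y := by
  have hinj : Function.Injective (frobenius F p) := frobenius_inj F p
  have hsurj : Function.Surjective (frobenius F p) := Finite.surjective_of_injective hinj
  obtain ⟨z, hz⟩ := hsurj y
  exact ⟨z, by rw [← hz, frobenius_def]⟩

section mixed

variable (hG : Good2 D)
  (hcomm : ∀ r s, r < D.nroots → s < D.nroots → s ≠ r → s ≠ D.neg r → Comm D F r s)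

/-- Moving `h_r(k)` across a root element. -/
theorem hGL_mul_xGL {r : ℕ} (hr : r < D.nroots) {k : F} (hk : k ≠ 0) {s : ℕ} (hs : s < D.nroots) (t : F) :
    hGL hG.toGood1 hr k hk * xGL hG.toGood1 hs t =
      xGL hG.toGood1 hs (k ^ (tabOf D).pairing r s * t) * hGL hG.toGood1 hr k hk := by
  have e := hGL_conj_xGL (F := F) hG hr hk hs t
  rw [← e]; group

/-- `h_r(k) x_λ(1)` is conjugate to `h_r(k)` when `h_r(k)` acts nontrivially on `X_λ`. -/
theorem hx_eq_conj {r lam : ℕ} (hr : r < D.nroots) (hlam : lam < D.nroots) {k : F} (hk : k ≠ 0)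
    (hne : k ^ (tabOf D).pairing r lam ≠ 1) :
    ∃ g : GL D.Idx F, hGL hG.toGood1 hr k hk * xGL hG.toGood1 hlam (1 : F) =
      g * hGL hG.toGood1 hr k hk * g⁻¹ := by
  set c : F := k ^ (tabOf D).pairing r lam with hc
  have h1c : 1 - c ≠ 0 := sub_ne_zero.mpr (Ne.symm hne)
  refine ⟨xGL hG.toGood1 hlam (c / (1 - c)), ?_⟩
  rw [xGL_inv, mul_assoc, hGL_mul_xGL hG hr hk hlam, hGL_mul_xGL hG hr hk hlam, ← mul_assoc, xGL_mul]
  congr 2
  rw [← hc]
  field_simp
  ring

include hcomm in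
/-- The two commuting factors of the generator lie in every subgroup containing it. -/
theorem mixed_mem [Fintype F] {r lam al : ℕ} (hr : r < D.nroots) (hlam : lam < D.nroots)
    (hal : al < D.nroots) (h0 : (tabOf D).pairing r al = 0) (hla : Tab'.Commutes (tabOf D) lam al)
    {k : F} (hk : k ≠ 0) (hkq : k ^ (Fintype.card F - 1) = 1)
    (hne : k ^ (tabOf D).pairing r lam ≠ 1) (M : Subgroup (GL D.Idx F))
    (ha : hGL hG.toGood1 hr k hk * xGL hG.toGood1 hlam (1 : F) * xGL hG.toGood1 hal (1 : F) ∈ M) :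
    hGL hG.toGood1 hr k hk * xGL hG.toGood1 hlam (1 : F) ∈ M ∧ xGL hG.toGood1 hal (1 : F) ∈ M := by
  classical
  have hG1 := hG.toGood1
  set h : GL D.Idx F := hGL hG1 hr k hk with hh
  set xl : GL D.Idx F := xGL hG1 hlam (1 : F) with hxl
  set xa : GL D.Idx F := xGL hG1 hal (1 : F) with hxa
  have hcs : Commute h xa := by
    have e := hGL_mul_xGL (F := F) hG hr hk hal (1 : F)
    rw [h0, zpow_zero, one_mul] at e
    exact e
  have hcl : Commute xl xa := commute_of_commutes hG hcomm hlam hal hla 1 1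
  have hcm : Commute (h * xl) xa := hcs.mul_left hcl
  obtain ⟨g, hg⟩ := hx_eq_conj (F := F) hG hr hlam hk hne
  have hho : (h * xl) ^ (Fintype.card F - 1) = 1 := by
    have e : h * xl = g * h * g⁻¹ := hg
    rw [e, conj_pow, hGL_pow_eq_one hG1 hr hk hkq]
    group
  have : Fact (ringChar F).Prime := ⟨CharP.char_is_prime F (ringChar F)⟩
  obtain ⟨n, hp, hcard⟩ := FiniteField.card F (ringChar F)
  have hxo : xa ^ (ringChar F) = 1 := by
    rw [hxa, xGL_pow, CharP.cast_eq_zero, zero_mul, xGL_zero]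
  have hcop : (Fintype.card F - 1).Coprime (ringChar F) := by
    apply Nat.Coprime.symm
    rw [Nat.Prime.coprime_iff_not_dvd hp]
    intro hdvd
    have h2 : ringChar F ∣ Fintype.card F := by
      rw [hcard]; exact dvd_pow_self _ n.ne_zero
    have h3 : 1 ≤ Fintype.card F := Fintype.card_pos
    have : ringChar F ∣ 1 := by
      have := (Nat.dvd_sub h2 hdvd)
      rwa [Nat.sub_sub_self h3] at this
    exact hp.one_lt.ne' (Nat.dvd_one.mp this)
  exact Cfsg.Agent.Helper8.SpGen.mem_of_commute_coprime hcm hho hxo hcop M ha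

include hcomm in
/-- Conjugation by `h_r(k) x_λ(1)` of a root element commuting with `X_λ`. -/
theorem hx_conj_xGL {r lam s : ℕ} (hr : r < D.nroots) (hlam : lam < D.nroots) (hs : s < D.nroots)
    (hls : Tab'.Commutes (tabOf D) lam s) {k : F} (hk : k ≠ 0) (t : F) :
    (hGL hG.toGood1 hr k hk * xGL hG.toGood1 hlam (1 : F)) * xGL hG.toGood1 hs t *
      (hGL hG.toGood1 hr k hk * xGL hG.toGood1 hlam (1 : F))⁻¹ =
      xGL hG.toGood1 hs (k ^ (tabOf D).pairing r s * t) := by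
  have hc : Commute (xGL hG.toGood1 hlam (1 : F)) (xGL hG.toGood1 hs t) :=
    commute_of_commutes hG hcomm hlam hs hls 1 t
  have e := hGL_conj_xGL (F := F) hG hr hk hs t
  rw [← e]
  calc (hGL hG.toGood1 hr k hk * xGL hG.toGood1 hlam (1 : F)) * xGL hG.toGood1 hs t *
      (hGL hG.toGood1 hr k hk * xGL hG.toGood1 hlam (1 : F))⁻¹
      = hGL hG.toGood1 hr k hk * (xGL hG.toGood1 hlam (1 : F) * xGL hG.toGood1 hs t) *
        (xGL hG.toGood1 hlam (1 : F))⁻¹ * (hGL hG.toGood1 hr k hk)⁻¹ := by group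
    _ = hGL hG.toGood1 hr k hk * (xGL hG.toGood1 hs t * xGL hG.toGood1 hlam (1 : F)) *
        (xGL hG.toGood1 hlam (1 : F))⁻¹ * (hGL hG.toGood1 hr k hk)⁻¹ := by rw [hc.eq]
    _ = hGL hG.toGood1 hr k hk * xGL hG.toGood1 hs t * (hGL hG.toGood1 hr k hk)⁻¹ := by group

/-- Conjugation by the inverse of `h_r(k) x_λ(1)` of a root element centralized by `h_r(k)`. -/
theorem hx_inv_conj_xGL {r lam s : ℕ} (hr : r < D.nroots) (hlam : lam < D.nroots) (hs : s < D.nroots)
    (h0 : (tabOf D).pairing r s = 0) {k : F} (hk : k ≠ 0) (t : F) :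
    (hGL hG.toGood1 hr k hk * xGL hG.toGood1 hlam (1 : F))⁻¹ * xGL hG.toGood1 hs t *
      (hGL hG.toGood1 hr k hk * xGL hG.toGood1 hlam (1 : F)) =
      (xGL hG.toGood1 hlam (1 : F))⁻¹ * xGL hG.toGood1 hs t * xGL hG.toGood1 hlam (1 : F) := by
  have e := hGL_mul_xGL (F := F) hG hr hk hs t
  rw [h0, zpow_zero, one_mul] at e
  calc (hGL hG.toGood1 hr k hk * xGL hG.toGood1 hlam (1 : F))⁻¹ * xGL hG.toGood1 hs t *
      (hGL hG.toGood1 hr k hk * xGL hG.toGood1 hlam (1 : F))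
      = (xGL hG.toGood1 hlam (1 : F))⁻¹ * (hGL hG.toGood1 hr k hk)⁻¹ *
        (xGL hG.toGood1 hs t * hGL hG.toGood1 hr k hk) * xGL hG.toGood1 hlam (1 : F) := by group
    _ = (xGL hG.toGood1 hlam (1 : F))⁻¹ * (hGL hG.toGood1 hr k hk)⁻¹ *
        (hGL hG.toGood1 hr k hk * xGL hG.toGood1 hs t) * xGL hG.toGood1 hlam (1 : F) := by rw [e]
    _ = (xGL hG.toGood1 hlam (1 : F))⁻¹ * xGL hG.toGood1 hs t * xGL hG.toGood1 hlam (1 : F) := by
      group

include hcomm in
/-- The commutator formula with two terms. -/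
theorem xGL_comm_of_two {r s q₁ q₂ : ℕ} {c₁ c₂ : ℤ} {i₁ j₁ i₂ j₂ : ℕ} (hr : r < D.nroots)
    (hs : s < D.nroots) (hsr : s ≠ r) (hsn : s ≠ D.neg r)
    (hct : (tabOf D).commTerms r s = [(q₁, c₁, i₁, j₁), (q₂, c₂, i₂, j₂)])
    (hq₁ : q₁ < D.nroots) (hq₂ : q₂ < D.nroots) (t u : F) :
    xGL hG.toGood1 hs u * xGL hG.toGood1 hr t =
      xGL hG.toGood1 hr t * xGL hG.toGood1 hs u *
        (xGL hG.toGood1 hq₁ ((c₁ : F) * (-t) ^ i₁ * u ^ j₁) *
          xGL hG.toGood1 hq₂ ((c₂ : F) * (-t) ^ i₂ * u ^ j₂)) := by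
  have hf := hcomm r s hr hs hsr hsn t u
  have hW : D.commWord F r s t u =
      [(q₁, (c₁ : F) * (-t) ^ i₁ * u ^ j₁), (q₂, (c₂ : F) * (-t) ^ i₂ * u ^ j₂)] := by
    unfold ChevalleyDatum.commWord
    rw [← commTerms_eq, hct]
    simp
  rw [hW, wordMat_cons, wordMat_cons, wordMat_nil, mul_one] at hf
  apply Units.ext
  rw [Units.val_mul, Units.val_mul, Units.val_mul, Units.val_mul, xGL_coe, xGL_coe, xGL_coe, xGL_coe]
  exact hf

include hcomm in
/-- The commutator formula with four terms. -/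
theorem xGL_comm_of_four {r s q₁ q₂ q₃ q₄ : ℕ} {c₁ c₂ c₃ c₄ : ℤ} {i₁ j₁ i₂ j₂ i₃ j₃ i₄ j₄ : ℕ}
    (hr : r < D.nroots) (hs : s < D.nroots) (hsr : s ≠ r) (hsn : s ≠ D.neg r)
    (hct : (tabOf D).commTerms r s =
      [(q₁, c₁, i₁, j₁), (q₂, c₂, i₂, j₂), (q₃, c₃, i₃, j₃), (q₄, c₄, i₄, j₄)])
    (hq₁ : q₁ < D.nroots) (hq₂ : q₂ < D.nroots) (hq₃ : q₃ < D.nroots) (hq₄ : q₄ < D.nroots)
    (t u : F) :
    xGL hG.toGood1 hs u * xGL hG.toGood1 hr t =
      xGL hG.toGood1 hr t * xGL hG.toGood1 hs u *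
        (xGL hG.toGood1 hq₁ ((c₁ : F) * (-t) ^ i₁ * u ^ j₁) *
          (xGL hG.toGood1 hq₂ ((c₂ : F) * (-t) ^ i₂ * u ^ j₂) *
            (xGL hG.toGood1 hq₃ ((c₃ : F) * (-t) ^ i₃ * u ^ j₃) *
              xGL hG.toGood1 hq₄ ((c₄ : F) * (-t) ^ i₄ * u ^ j₄)))) := by
  have hf := hcomm r s hr hs hsr hsn t u
  have hW : D.commWord F r s t u =
      [(q₁, (c₁ : F) * (-t) ^ i₁ * u ^ j₁), (q₂, (c₂ : F) * (-t) ^ i₂ * u ^ j₂),
        (q₃, (c₃ : F) * (-t) ^ i₃ * u ^ j₃), (q₄, (c₄ : F) * (-t) ^ i₄ * u ^ j₄)] := by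
    unfold ChevalleyDatum.commWord
    rw [← commTerms_eq, hct]
    simp
  rw [hW, wordMat_cons, wordMat_cons, wordMat_cons, wordMat_cons, wordMat_nil, mul_one] at hf
  apply Units.ext
  rw [Units.val_mul, Units.val_mul, Units.val_mul, Units.val_mul, Units.val_mul, Units.val_mul,
    xGL_coe, xGL_coe, xGL_coe, xGL_coe, xGL_coe, xGL_coe]
  exact hf

/-- A conjugate of a root element under the monomial element of a word, with explicit target root. -/
theorem conj_word_mem {M : Subgroup (GL D.Idx F)} {w : List ℕ} (hw : ∀ i ∈ w, i < D.rank)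
    (hb : (nWordGL hG w : GL D.Idx F) ∈ M) {s s' : ℕ} (hs : s < D.nroots) (hs' : s' < D.nroots)
    (e : (tabOf D).reflWord w s = s') {t : F} (h : xGL hG.toGood1 hs t ∈ M) :
    xGL hG.toGood1 hs' ((((tabOf D).etaWord w s : ℤ) : F) * t) ∈ M := by
  have c := nWordGL_conj (F := F) hG hw hs t
  rw [xGL_congr hG e (reflWord_lt hG hw hs) hs'] at c
  rw [← c]
  exact mul_mem (mul_mem hb h) (inv_mem hb)

/-- `inM_word` with explicit target root. -/
theorem inM_word' {M : Subgroup (GL D.Idx F)} {w : List ℕ} (hw : ∀ i ∈ w, i < D.rank)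
    (hb : (nWordGL hG w : GL D.Idx F) ∈ M) {s s' : ℕ} (e : (tabOf D).reflWord w s = s')
    (h : InM hG M s) : InM hG M s' := by
  rw [← e]; exact inM_word hG hw hb h

end mixed

end Cfsg.Agent.Helper8.CGen
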