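import Mathlib
import Cfsg.Agent.Helper8.CGenF
import Cfsg.Agent.Helper7.ChevGen2

set_option autoImplicit false
set_option linter.unusedSectionVars false
set_option linter.unusedVariables false
set_option maxRecDepth 100000

/-!
The Chevalley group of type B2 over a finite field of characteristic two with more than two elements is generated
by two elements.
-/

namespace Cfsg.Agent.Helper8.CGen

open Cfsg Cfsg.Lie Matrix Cfsg.Agent.Helper7.Chev

/-- The table facts used for type `B2`. -/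
def B2Facts (T : Tab) : Prop :=
  (T.pairing 6 5 = 0 ∧ T.pairing 6 7 = 2 ∧ T.pairing 6 6 = 2 ∧ T.pairing 6 2 = 0) ∧
  (Tab'.Commutes T 7 5 ∧ Tab'.Commutes T 7 6) ∧
  (T.reflWord [0, 1] 5 = 6 ∧ T.reflWord [0, 1] 6 = 2 ∧ T.reflWord [0, 1] 2 = 1 ∧
    T.reflWord [0, 1] 1 = 5) ∧
  (T.reflWord [0, 1] 4 = 0 ∧ T.reflWord [0, 1] 0 = 3 ∧ T.reflWord [0, 1] 3 = 7) ∧
  T.commTerms 7 2 = [(6, -1, 1, 1), (4, -1, 1, 2)] ∧ T.neg 7 = 0

instance (T : Tab) : Decidable (B2Facts T) := by unfold B2Facts; infer_instance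

theorem b2Facts_fast : B2Facts fastB2 := by decide +kernel

theorem b2Facts : B2Facts (tabOf chevB2) := tab_B2 ▸ b2Facts_fast

/-- Two generators for type `B2` in characteristic two. -/
theorem two_gen_B2_char2 (F : Type*) [Field F] [Fintype F] [CharP F 2]
    (hF : ∃ x : F, x ≠ 0 ∧ x ≠ 1) :
    ∃ a b : ↥(chevB2.group F), Subgroup.closure ({a, b} : Set ↥(chevB2.group F)) = ⊤ := by
  classical
  have hG : Good2 chevB2 := good3_B2.toGood2
  have hG1 := hG.toGood1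
  have hcomm : ∀ r s, r < chevB2.nroots → s < chevB2.nroots → s ≠ r → s ≠ chevB2.neg r →
      Comm chevB2 F r s := fun r s hr hs hsr hsn => good3_B2.comm hr hs hsr hsn
  obtain ⟨⟨p65, p67, p66, p62⟩, ⟨c75, c76⟩, ⟨w5, w6, w2, w1⟩, ⟨w4, w0, w3⟩, ct72, n7⟩ := b2Facts
  have : Fact (Nat.Prime 2) := ⟨Nat.prime_two⟩
  have h2F : (2 : F) = 0 := by
    have := CharP.cast_eq_zero F 2
    exact_mod_cast this
  obtain ⟨k, hk0, hkgen, hkgen', hkq⟩ := exists_gen F
  have hk1 : k ≠ 1 := by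
    obtain ⟨x, hx0, hx1⟩ := hF
    intro h
    obtain ⟨j, hj⟩ := hkgen x hx0
    rw [h, one_pow] at hj
    exact hx1 hj
  have hz2 : k ^ (2 : ℤ) = k ^ 2 := by norm_cast
  have hk2 : k ^ (2 : ℤ) ≠ 1 := by
    rw [hz2]
    intro h
    have h3 : (k + 1) ^ 2 = 0 := by
      calc (k + 1) ^ 2 = k ^ 2 + 2 * k + 1 := by ring
        _ = 1 + 0 * k + 1 := by rw [h, h2F]
        _ = 2 := by ring
        _ = 0 := h2F
    have h4 : k + 1 = 0 := by
      exact pow_eq_zero_iff (two_ne_zero) |>.mp h3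
    have h5 : k = 1 := by
      have : k = -1 := eq_neg_of_add_eq_zero_left h4
      rw [this]
      have : (-1 : F) = 1 := by
        have : (1 : F) + 1 = 0 := by rw [one_add_one_eq_two]; exact h2F
        exact neg_eq_of_add_eq_zero_left this
      exact this
    exact hk1 h5
  have hgen2 : ∀ y : F, y ≠ 0 → ∃ j : ℕ, y = (k ^ (2 : ℤ)) ^ j := by
    intro y hy
    obtain ⟨z, hz⟩ := frob_surj (F := F) 2 y
    have hz0 : z ≠ 0 := by
      rintro rfl
      rw [zero_pow two_ne_zero] at hz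
      exact hy hz.symm
    obtain ⟨j, hj⟩ := hkgen z hz0
    refine ⟨j, ?_⟩
    rw [hz2, ← hz, hj, ← pow_mul, ← pow_mul, mul_comm]
  have h0 : 0 < chevB2.nroots := by decide
  have h1 : 1 < chevB2.nroots := by decide
  have h2 : 2 < chevB2.nroots := by decide
  have h3 : 3 < chevB2.nroots := by decide
  have h4 : 4 < chevB2.nroots := by decide
  have h5 : 5 < chevB2.nroots := by decide
  have h6 : 6 < chevB2.nroots := by decide
  have h7 : 7 < chevB2.nroots := by decide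
  have hw : ∀ i ∈ [0, 1], i < chevB2.rank := by decide
  set h : GL chevB2.Idx F := hGL hG1 h6 k hk0 with hh
  set xl : GL chevB2.Idx F := xGL hG1 h7 (1 : F) with hxl
  set xa : GL chevB2.Idx F := xGL hG1 h5 (1 : F) with hxa
  set b0 : GL chevB2.Idx F := nWordGL hG [0, 1] with hb0
  set M : Subgroup (GL chevB2.Idx F) := Subgroup.closure {h * xl * xa, b0} with hM
  have hb0M : b0 ∈ M := Subgroup.subset_closure (by simp)
  have haM : h * xl * xa ∈ M := Subgroup.subset_closure (by simp)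
  obtain ⟨ha'M, hxaM⟩ := mixed_mem hG hcomm h6 h7 h5 p65 c75 hk0 hkq (by rw [p67]; exact hk2) M haM
  -- the short roots
  have hx6 : xGL hG1 h6 ((((tabOf chevB2).etaWord [0, 1] 5 : ℤ) : F) * 1) ∈ M :=
    conj_word_mem hG hw hb0M h5 h6 w5 hxaM
  have hη : (((tabOf chevB2).etaWord [0, 1] 5 : ℤ) : F) * 1 ≠ 0 := by
    rw [mul_one]; exact etaWord_cast_ne_zero hG hw h5
  have hin6 : InM hG M 6 := by
    refine inM_of_scale hG h6 ha'M (c := k ^ (2 : ℤ)) ?_ hgen2 hη hx6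
    intro t
    have e := hx_conj_xGL (F := F) hG hcomm h6 h7 h6 c76 hk0 t
    rw [p66] at e
    exact e
  have hin2 : InM hG M 2 := inM_word' hG hw hb0M w6 hin6
  have hin1 : InM hG M 1 := inM_word' hG hw hb0M w2 hin2
  have hin5 : InM hG M 5 := inM_word' hG hw hb0M w1 hin1
  -- the long roots
  have hsq : ∀ t : F, xGL hG1 h4 (t ^ 2) ∈ M := by
    intro t
    have hm : (h * xl)⁻¹ * xGL hG1 h2 t * (h * xl) ∈ M :=
      mul_mem (mul_mem (inv_mem ha'M) (hin2.2 t)) ha'M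
    rw [hx_inv_conj_xGL (F := F) hG h6 h7 h2 p62 hk0 t] at hm
    have hc := xGL_comm_of_two (F := F) hG hcomm h7 h2 (by decide) (by rw [show chevB2.neg 7 = 0 from n7]; decide) ct72 h6 h4
      (1 : F) t
    have hc' : xl⁻¹ * xGL hG1 h2 t * xl =
        xGL hG1 h2 t * (xGL hG1 h6 (((-1 : ℤ) : F) * (-1) ^ 1 * t ^ 1) *
          xGL hG1 h4 (((-1 : ℤ) : F) * (-1) ^ 1 * t ^ 2)) := by
      calc xl⁻¹ * xGL hG1 h2 t * xl = xl⁻¹ * (xGL hG1 h2 t * xl) := by group
        _ = xl⁻¹ * (xl * xGL hG1 h2 t * (xGL hG1 h6 (((-1 : ℤ) : F) * (-1) ^ 1 * t ^ 1) *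
          xGL hG1 h4 (((-1 : ℤ) : F) * (-1) ^ 1 * t ^ 2))) := by rw [hc]
        _ = _ := by group
    rw [hc'] at hm
    have e : xGL hG1 h4 (t ^ 2) = (xGL hG1 h6 (((-1 : ℤ) : F) * (-1) ^ 1 * t ^ 1))⁻¹ *
        ((xGL hG1 h2 t)⁻¹ * (xGL hG1 h2 t * (xGL hG1 h6 (((-1 : ℤ) : F) * (-1) ^ 1 * t ^ 1) *
          xGL hG1 h4 (((-1 : ℤ) : F) * (-1) ^ 1 * t ^ 2)))) := by
      have : (((-1 : ℤ) : F) * (-1) ^ 1 * t ^ 2) = t ^ 2 := by push_cast; ring
      rw [this]; group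
    rw [e]
    exact mul_mem (inv_mem (hin6.2 _)) (mul_mem (inv_mem (hin2.2 t)) hm)
  have hin4 : InM hG M 4 := by
    refine ⟨h4, fun y => ?_⟩
    obtain ⟨z, hz⟩ := frob_surj (F := F) 2 y
    rw [← hz]
    exact hsq z
  have hin0 : InM hG M 0 := inM_word' hG hw hb0M w4 hin4
  have hin3 : InM hG M 3 := inM_word' hG hw hb0M w0 hin0
  have hin7 : InM hG M 7 := inM_word' hG hw hb0M w3 hin3
  have hle : chevB2.group F ≤ M := by
    apply group_le_of_inM hG
    intro q hq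
    have hq' : q < 8 := hq
    interval_cases q
    · exact hin0
    · exact hin1
    · exact hin2
    · exact hin3
    · exact hin4
    · exact hin5
    · exact hin6
    · exact hin7
  have hhG : h ∈ chevB2.group F := diagonalSubgroup_le_group hG1 (hGL_mem_diagonal hG h6 k hk0)
  have haG : h * xl * xa ∈ chevB2.group F :=
    mul_mem (mul_mem hhG (xGL_mem_group hG h7 1)) (xGL_mem_group hG h5 1)
  have hbG : b0 ∈ chevB2.group F := monomialSubgroup_le_group hG1 (nWordGL_mem hG [0, 1])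
  exact ⟨⟨h * xl * xa, haG⟩, ⟨b0, hbG⟩, closure_pair_eq_top haG hbG hle⟩

end Cfsg.Agent.Helper8.CGen
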