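import Mathlib
import Cfsg.Agent.Helper8.CGenF
import Cfsg.Agent.Helper7.ChevGen2

set_option autoImplicit false
set_option linter.unusedSectionVars false
set_option linter.unusedVariables false
set_option maxRecDepth 100000

/-!
The Chevalley group of type G2 over a finite field of characteristic three is generated by two elements.
-/

namespace Cfsg.Agent.Helper8.CGen

open Cfsg Cfsg.Lie Matrix Cfsg.Agent.Helper7.Chev

/-- The table facts used for type `G2`. -/
def G2Facts (T : Tab) : Prop :=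
  (T.pairing 11 7 = 0 ∧ T.pairing 11 10 = 1 ∧ T.pairing 11 9 = 1 ∧ T.pairing 11 4 = 0) ∧
  (Tab'.Commutes T 10 7 ∧ Tab'.Commutes T 10 9) ∧
  (T.reflWord [0, 1] 7 = 9 ∧ T.reflWord [0, 1] 9 = 8 ∧ T.reflWord [0, 1] 8 = 4 ∧
    T.reflWord [0, 1] 4 = 2 ∧ T.reflWord [0, 1] 2 = 3 ∧ T.reflWord [0, 1] 3 = 7) ∧
  (T.reflWord [0, 1] 6 = 1 ∧ T.reflWord [0, 1] 1 = 0 ∧ T.reflWord [0, 1] 0 = 5 ∧
    T.reflWord [0, 1] 5 = 10 ∧ T.reflWord [0, 1] 10 = 11 ∧ T.reflWord [0, 1] 11 = 6) ∧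
  (T.commTerms 10 4 = [(9, -1, 1, 1), (8, -1, 1, 2), (6, -1, 1, 3), (11, 2, 2, 3)] ∧ T.neg 10 = 1) ∧
  (T.SingleTerm 6 11 1 1 ∧ Tab'.Commutes T 6 11 ∧ Tab'.Commutes T 6 1 ∧ Tab'.Commutes T 6 6)

instance (T : Tab) : Decidable (G2Facts T) := by unfold G2Facts; infer_instance

theorem g2Facts_fast : G2Facts fastG2 := by decide +kernel

theorem g2Facts : G2Facts (tabOf chevG2) := tab_G2 ▸ g2Facts_fast

/-- Two generators for type `G2` in characteristic three. -/
theorem two_gen_G2_char3 (F : Type*) [Field F] [Fintype F] [CharP F 3] :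
    ∃ a b : ↥(chevG2.group F), Subgroup.closure ({a, b} : Set ↥(chevG2.group F)) = ⊤ := by
  classical
  have hG : Good2 chevG2 := good3_G2.toGood2
  have hG1 := hG.toGood1
  have hcomm : ∀ r s, r < chevG2.nroots → s < chevG2.nroots → s ≠ r → s ≠ chevG2.neg r →
      Comm chevG2 F r s := fun r s hr hs hsr hsn => good3_G2.comm hr hs hsr hsn
  obtain ⟨⟨p7, p10, p9, p4⟩, ⟨c107, c109⟩, ⟨w7, w9, w8, w4, w2, w3⟩, ⟨w6, w1, w0, w5, w10, w11⟩,
    ⟨ct, n10⟩, ⟨st, c611, c61, c66⟩⟩ := g2Facts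
  have : Fact (Nat.Prime 3) := ⟨Nat.prime_three⟩
  have h3F : (3 : F) = 0 := by
    have := CharP.cast_eq_zero F 3
    exact_mod_cast this
  have h2F : (2 : F) ≠ 0 := by
    intro h
    have : (1 : F) = 0 := by
      calc (1 : F) = 3 - 2 := by ring
        _ = 0 := by rw [h3F, h]; ring
    exact one_ne_zero this
  obtain ⟨k, hk0, hkgen, hkgen', hkq⟩ := exists_gen F
  have hk1 : k ≠ 1 := by
    have hx : (2 : F) ≠ 1 := by
      intro h
      have : (1 : F) = 0 := by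
        calc (1 : F) = 2 - 1 := by ring
          _ = 0 := by rw [h]; ring
      exact one_ne_zero this
    intro h
    obtain ⟨j, hj⟩ := hkgen 2 h2F
    rw [h, one_pow] at hj
    exact hx hj
  have hgen1 : ∀ y : F, y ≠ 0 → ∃ j : ℕ, y = (k ^ (1 : ℤ)) ^ j := by
    intro y hy
    rw [zpow_one]
    exact hkgen y hy
  have h0 : 0 < chevG2.nroots := by decide
  have h1 : 1 < chevG2.nroots := by decide
  have h2 : 2 < chevG2.nroots := by decide
  have h3 : 3 < chevG2.nroots := by decide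
  have h4 : 4 < chevG2.nroots := by decide
  have h5 : 5 < chevG2.nroots := by decide
  have h6 : 6 < chevG2.nroots := by decide
  have h7 : 7 < chevG2.nroots := by decide
  have h8 : 8 < chevG2.nroots := by decide
  have h9 : 9 < chevG2.nroots := by decide
  have h10 : 10 < chevG2.nroots := by decide
  have h11 : 11 < chevG2.nroots := by decide
  have hw : ∀ i ∈ [0, 1], i < chevG2.rank := by decide
  set h : GL chevG2.Idx F := hGL hG1 h11 k hk0 with hh
  set xl : GL chevG2.Idx F := xGL hG1 h10 (1 : F) with hxl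
  set xa : GL chevG2.Idx F := xGL hG1 h7 (1 : F) with hxa
  set b0 : GL chevG2.Idx F := nWordGL hG [0, 1] with hb0
  set M : Subgroup (GL chevG2.Idx F) := Subgroup.closure {h * xl * xa, b0} with hM
  have hb0M : b0 ∈ M := Subgroup.subset_closure (by simp)
  have haM : h * xl * xa ∈ M := Subgroup.subset_closure (by simp)
  obtain ⟨ha'M, hxaM⟩ := mixed_mem hG hcomm h11 h10 h7 p7 c107 hk0 hkq
    (by rw [p10, zpow_one]; exact hk1) M haM
  -- the short roots
  have hx9 : xGL hG1 h9 ((((tabOf chevG2).etaWord [0, 1] 7 : ℤ) : F) * 1) ∈ M :=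
    conj_word_mem hG hw hb0M h7 h9 w7 hxaM
  have hη : (((tabOf chevG2).etaWord [0, 1] 7 : ℤ) : F) * 1 ≠ 0 := by
    rw [mul_one]; exact etaWord_cast_ne_zero hG hw h7
  have hin9 : InM hG M 9 := by
    refine inM_of_scale hG h9 ha'M (c := k ^ (1 : ℤ)) ?_ hgen1 hη hx9
    intro t
    have e := hx_conj_xGL (F := F) hG hcomm h11 h10 h9 c109 hk0 t
    rw [p9] at e
    exact e
  have hin8 : InM hG M 8 := inM_word' hG hw hb0M w9 hin9
  have hin4 : InM hG M 4 := inM_word' hG hw hb0M w8 hin8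
  have hin2 : InM hG M 2 := inM_word' hG hw hb0M w4 hin4
  have hin3 : InM hG M 3 := inM_word' hG hw hb0M w2 hin2
  have hin7 : InM hG M 7 := inM_word' hG hw hb0M w3 hin3
  -- the diagonal subgroup of two long root subgroups
  have hcube : ∀ t : F, xGL hG1 h6 (t ^ 3) * xGL hG1 h11 (2 * t ^ 3) ∈ M := by
    intro t
    have hm : (h * xl)⁻¹ * xGL hG1 h4 t * (h * xl) ∈ M :=
      mul_mem (mul_mem (inv_mem ha'M) (hin4.2 t)) ha'M
    rw [hx_inv_conj_xGL (F := F) hG h11 h10 h4 p4 hk0 t] at hm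
    have hc := xGL_comm_of_four (F := F) hG hcomm h10 h4 (by decide)
      (by rw [show chevG2.neg 10 = 1 from n10]; decide) ct h9 h8 h6 h11 (1 : F) t
    have hc' : xl⁻¹ * xGL hG1 h4 t * xl =
        xGL hG1 h4 t * (xGL hG1 h9 (((-1 : ℤ) : F) * (-1) ^ 1 * t ^ 1) *
          (xGL hG1 h8 (((-1 : ℤ) : F) * (-1) ^ 1 * t ^ 2) *
            (xGL hG1 h6 (((-1 : ℤ) : F) * (-1) ^ 1 * t ^ 3) *
              xGL hG1 h11 (((2 : ℤ) : F) * (-1) ^ 2 * t ^ 3)))) := by
      calc xl⁻¹ * xGL hG1 h4 t * xl = xl⁻¹ * (xGL hG1 h4 t * xl) := by group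
        _ = xl⁻¹ * (xl * xGL hG1 h4 t * (xGL hG1 h9 (((-1 : ℤ) : F) * (-1) ^ 1 * t ^ 1) *
          (xGL hG1 h8 (((-1 : ℤ) : F) * (-1) ^ 1 * t ^ 2) *
            (xGL hG1 h6 (((-1 : ℤ) : F) * (-1) ^ 1 * t ^ 3) *
              xGL hG1 h11 (((2 : ℤ) : F) * (-1) ^ 2 * t ^ 3))))) := by rw [hc]
        _ = _ := by group
    rw [hc'] at hm
    have e6 : (((-1 : ℤ) : F) * (-1) ^ 1 * t ^ 3) = t ^ 3 := by push_cast; ring
    have e11 : (((2 : ℤ) : F) * (-1) ^ 2 * t ^ 3) = 2 * t ^ 3 := by push_cast; ring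
    rw [e6, e11] at hm
    have e : xGL hG1 h6 (t ^ 3) * xGL hG1 h11 (2 * t ^ 3) =
        (xGL hG1 h8 (((-1 : ℤ) : F) * (-1) ^ 1 * t ^ 2))⁻¹ *
        ((xGL hG1 h9 (((-1 : ℤ) : F) * (-1) ^ 1 * t ^ 1))⁻¹ *
        ((xGL hG1 h4 t)⁻¹ * (xGL hG1 h4 t * (xGL hG1 h9 (((-1 : ℤ) : F) * (-1) ^ 1 * t ^ 1) *
          (xGL hG1 h8 (((-1 : ℤ) : F) * (-1) ^ 1 * t ^ 2) *
            (xGL hG1 h6 (t ^ 3) * xGL hG1 h11 (2 * t ^ 3))))))) := by
      group
    rw [e]
    exact mul_mem (inv_mem (hin8.2 _)) (mul_mem (inv_mem (hin9.2 _)) (mul_mem (inv_mem (hin4.2 t)) hm))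
  have hZ : ∀ s : F, xGL hG1 h6 s * xGL hG1 h11 (2 * s) ∈ M := by
    intro s
    obtain ⟨z, hz⟩ := frob_surj (F := F) 3 s
    rw [← hz]
    exact hcube z
  -- a long root
  have hin6 : InM hG M 6 := by
    set η6 : F := (((tabOf chevG2).etaWord [0, 1] 6 : ℤ) : F) with hη6
    set η11 : F := (((tabOf chevG2).etaWord [0, 1] 11 : ℤ) : F) with hη11
    have hη6' : η6 ≠ 0 := etaWord_cast_ne_zero hG hw h6
    refine ⟨h6, fun y => ?_⟩
    -- `A * B ∈ M`, `C * E ∈ M`
    set s : F := -y / (2 * η6) with hs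
    set A : GL chevG2.Idx F := xGL hG1 h11 (2 * s) with hA
    set B : GL chevG2.Idx F := xGL hG1 h6 s with hB
    set C : GL chevG2.Idx F := xGL hG1 h1 (η6 * 1) with hC
    set E : GL chevG2.Idx F := xGL hG1 h6 (η11 * (2 * 1)) with hE
    have hBA : Commute B A := commute_of_commutes hG hcomm h6 h11 c611 _ _
    have hBC : Commute B C := commute_of_commutes hG hcomm h6 h1 c61 _ _
    have hBE : Commute B E := commute_of_commutes hG hcomm h6 h6 c66 _ _
    have hEA : Commute E A := commute_of_commutes hG hcomm h6 h11 c611 _ _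
    have hEC : Commute E C := commute_of_commutes hG hcomm h6 h1 c61 _ _
    have hAB : A * B ∈ M := by
      rw [← hBA.eq]; exact hZ s
    have hCE : C * E ∈ M := by
      have hz := hZ 1
      have c1 := nWordGL_conj (F := F) hG hw h6 (1 : F)
      rw [xGL_congr hG w6 (reflWord_lt hG hw h6) h1] at c1
      have c2 := nWordGL_conj (F := F) hG hw h11 (2 * 1 : F)
      rw [xGL_congr hG w11 (reflWord_lt hG hw h11) h6] at c2
      have c1' : b0 * xGL hG1 h6 (1 : F) * b0⁻¹ = C := c1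
      have c2' : b0 * xGL hG1 h11 (2 * 1 : F) * b0⁻¹ = E := c2
      have : C * E = b0 * (xGL hG1 h6 1 * xGL hG1 h11 (2 * 1)) * b0⁻¹ := by
        rw [← c1', ← c2']; group
      rw [this]
      exact mul_mem (mul_mem hb0M hz) (inv_mem hb0M)
    have key := comm_pattern hBA hBC hBE hEA hEC
    have hmem : C⁻¹ * A⁻¹ * C * A ∈ M := by
      rw [← key]
      exact mul_mem (mul_mem (mul_mem (inv_mem hCE) (inv_mem hAB)) hCE) hAB
    have hs' := xGL_comm_of_single (F := F) hG hcomm h11 h1 st h6 (2 * s) (η6 * 1)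
    have hs'' : C * A = A * C * xGL hG1 h6 (((1 : ℤ) : F) * (-(2 * s)) * (η6 * 1)) := hs'
    have e : C⁻¹ * A⁻¹ * C * A = xGL hG1 h6 (((1 : ℤ) : F) * (-(2 * s)) * (η6 * 1)) := by
      calc C⁻¹ * A⁻¹ * C * A = C⁻¹ * A⁻¹ * (C * A) := by group
        _ = C⁻¹ * A⁻¹ * (A * C * xGL hG1 h6 (((1 : ℤ) : F) * (-(2 * s)) * (η6 * 1))) := by rw [hs'']
        _ = _ := by group
    have hy : ((1 : ℤ) : F) * (-(2 * s)) * (η6 * 1) = y := by
      rw [hs]
      push_cast
      field_simp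
    rw [e, hy] at hmem
    exact hmem
  have hin1 : InM hG M 1 := inM_word' hG hw hb0M w6 hin6
  have hin0 : InM hG M 0 := inM_word' hG hw hb0M w1 hin1
  have hin5 : InM hG M 5 := inM_word' hG hw hb0M w0 hin0
  have hin10 : InM hG M 10 := inM_word' hG hw hb0M w5 hin5
  have hin11 : InM hG M 11 := inM_word' hG hw hb0M w10 hin10
  have hle : chevG2.group F ≤ M := by
    apply group_le_of_inM hG
    intro q hq
    have hq' : q < 12 := hq
    interval_cases q
    · exact hin0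
    · exact hin1
    · exact hin2
    · exact hin3
    · exact hin4
    · exact hin5
    · exact hin6
    · exact hin7
    · exact hin8
    · exact hin9
    · exact hin10
    · exact hin11
  have hhG : h ∈ chevG2.group F := diagonalSubgroup_le_group hG1 (hGL_mem_diagonal hG h11 k hk0)
  have haG : h * xl * xa ∈ chevG2.group F :=
    mul_mem (mul_mem hhG (xGL_mem_group hG h10 1)) (xGL_mem_group hG h7 1)
  have hbG : b0 ∈ chevG2.group F := monomialSubgroup_le_group hG1 (nWordGL_mem hG [0, 1])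
  exact ⟨⟨h * xl * xa, haG⟩, ⟨b0, hbG⟩, closure_pair_eq_top haG hbG hle⟩

end Cfsg.Agent.Helper8.CGen
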