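import Mathlib

/-!
# Groups with a 2-central involution whose centralizer is `Z₂ × S₄`: the model group
(helper8; for S3222)
-/

set_option autoImplicit false
set_option maxRecDepth 100000
set_option synthInstance.maxSize 2000
set_option synthInstance.maxHeartbeats 400000

namespace Cfsg.Agent.Helper8.CZS

open Equiv

/-- the model group `Z₂ × S₄` -/
abbrev MM := Multiplicative (ZMod 2) × Equiv.Perm (Fin 4)

/-- the central involution of the model -/
def tM : MM := (Multiplicative.ofAdd (1 : ZMod 2), 1)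
/-- embedding of `S₄` -/
def kM (σ : Perm (Fin 4)) : MM := (1, σ)
/-- the central double transposition of the standard `D₈` -/
def zσ : Perm (Fin 4) := swap 0 2 * swap 1 3
/-- a transposition of the standard `D₈` -/
def sσ : Perm (Fin 4) := swap 0 2
/-- a noncentral double transposition of the standard `D₈` -/
def uσ : Perm (Fin 4) := swap 0 1 * swap 2 3
/-- two elements of order three with product an involution -/
def ρ1 : Perm (Fin 4) := swap 0 1 * swap 1 2
def ρ2 : Perm (Fin 4) := swap 1 2 * swap 2 3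
def zM : MM := kM zσ
def sM : MM := kM sσ
def uM : MM := kM uσ

theorem card_MM : Nat.card MM = 48 := by
  rw [Nat.card_eq_fintype_card]; decide

theorem tM_central : ∀ x : MM, x * tM = tM * x := by decide

theorem center_cases : ∀ m : MM, (∀ x : MM, x * m = m * x) → m = 1 ∨ m = tM := by decide

theorem tM_sq : tM * tM = 1 := by decide
theorem tM_ne : tM ≠ 1 := by decide
theorem zM_sq : zM * zM = 1 := by decide
theorem zM_ne : zM ≠ 1 := by decide
theorem sM_sq : sM * sM = 1 := by decide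
theorem sM_ne : sM ≠ 1 := by decide
theorem sM_zM : sM * zM = zM * sM := by decide
theorem uM_zM : uM * zM = zM * uM := by decide
theorem tzM_ne : tM * zM ≠ 1 := by decide
theorem tM_ne_zM : tM ≠ zM := by decide

theorem card_cent_zM : (Finset.univ.filter (fun x : MM => x * zM = zM * x)).card = 16 := by decide

/-- commutators in the centralizer of `zM` lie in `{1, zM}` -/
theorem comm_cases : ∀ a b : MM, a * zM = zM * a → b * zM = zM * b →
    a * b * a⁻¹ * b⁻¹ = 1 ∨ a * b * a⁻¹ * b⁻¹ = zM := by decide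

/-- `zM` is a commutator of two elements of its centralizer -/
theorem zM_comm : ∃ a b : MM, a * zM = zM * a ∧ b * zM = zM * b ∧ a * b * a⁻¹ * b⁻¹ = zM := by decide

/-- the classes of involutions of the model -/
theorem invol_cases : ∀ m : MM, m * m = 1 → m = 1 ∨ m = tM ∨ (∃ c : MM, c * m * c⁻¹ = zM) ∨
    (∃ c : MM, c * m * c⁻¹ = tM * zM) ∨ (∃ c : MM, c * m * c⁻¹ = sM) ∨
    (∃ c : MM, c * m * c⁻¹ = tM * sM) := by decide

theorem szM_conj : ∃ c : MM, c * (sM * zM) * c⁻¹ = sM := by decide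

/-- involutions of the first maximal subgroup of the Sylow subgroup -/
theorem invol_B1 : ∀ m : MM, m * zM = zM * m → m.1 = 1 → m * m = 1 → m = 1 ∨
    (∃ c : MM, c * m * c⁻¹ = zM) ∨ (∃ c : MM, c * m * c⁻¹ = sM) := by decide

/-- involutions of the second maximal subgroup of the Sylow subgroup -/
theorem invol_B2 : ∀ m : MM, m * zM = zM * m → (m.1 = 1 ↔ Perm.sign m.2 = 1) → m * m = 1 → m = 1 ∨
    (∃ c : MM, c * m * c⁻¹ = zM) ∨ (∃ c : MM, c * m * c⁻¹ = tM * sM) := by decide

theorem B1_mul : ∀ a b : MM, (a * zM = zM * a ∧ a.1 = 1) → (b * zM = zM * b ∧ b.1 = 1) →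
    ((a * b) * zM = zM * (a * b) ∧ (a * b).1 = 1) := by decide

theorem B1_inv : ∀ a : MM, (a * zM = zM * a ∧ a.1 = 1) → (a⁻¹ * zM = zM * a⁻¹ ∧ (a⁻¹).1 = 1) := by
  decide

theorem B2_mul : ∀ a b : MM, (a * zM = zM * a ∧ (a.1 = 1 ↔ Perm.sign a.2 = 1)) →
    (b * zM = zM * b ∧ (b.1 = 1 ↔ Perm.sign b.2 = 1)) →
    ((a * b) * zM = zM * (a * b) ∧ ((a * b).1 = 1 ↔ Perm.sign (a * b).2 = 1)) := by decide

theorem B2_inv : ∀ a : MM, (a * zM = zM * a ∧ (a.1 = 1 ↔ Perm.sign a.2 = 1)) →
    (a⁻¹ * zM = zM * a⁻¹ ∧ ((a⁻¹).1 = 1 ↔ Perm.sign (a⁻¹).2 = 1)) := by decide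

/-- the first maximal subgroup `1 × D₈` of the standard Sylow subgroup of the model -/
def B1 : Subgroup MM where
  carrier := {m | m * zM = zM * m ∧ m.1 = 1}
  mul_mem' := fun {a b} ha hb => B1_mul a b ha hb
  one_mem' := by decide
  inv_mem' := fun {a} ha => B1_inv a ha

/-- the second maximal subgroup (twisted by the sign) of the standard Sylow subgroup -/
def B2 : Subgroup MM where
  carrier := {m | m * zM = zM * m ∧ (m.1 = 1 ↔ Perm.sign m.2 = 1)}
  mul_mem' := fun {a b} ha hb => B2_mul a b ha hb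
  one_mem' := by decide
  inv_mem' := fun {a} ha => B2_inv a ha

theorem card_B1 : (Finset.univ.filter (fun m : MM => m * zM = zM * m ∧ m.1 = 1)).card = 8 := by
  decide

theorem card_B2 : (Finset.univ.filter
    (fun m : MM => m * zM = zM * m ∧ (m.1 = 1 ↔ Perm.sign m.2 = 1))).card = 8 := by decide

/-- generators of the dihedral Sylow subgroup of the index two subgroup -/
theorem dih_gens : ∀ a b : MM, (a = 1 ∨ a = tM) → (b = 1 ∨ b = tM) →
    (a * sM) * (a * sM) = 1 ∧ (b * uM) * (b * uM) = 1 ∧ a * sM ≠ 1 ∧ b * uM ≠ 1 ∧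
    ((a * sM) * (b * uM)) ^ 4 = 1 ∧ ((a * sM) * (b * uM)) ^ 2 ≠ 1 ∧
    (a * sM) * zM = zM * (a * sM) ∧ (b * uM) * zM = zM * (b * uM) := by decide

theorem rho_facts : ρ1 ^ 3 = 1 ∧ ρ2 ^ 3 = 1 ∧ (ρ1 * ρ2) * (ρ1 * ρ2) = 1 ∧ ρ1 * ρ2 ≠ 1 := by decide

/-- elements of the model with trivial second component -/
theorem snd_eq_one : ∀ m : MM, m.2 = 1 → m = 1 ∨ m = tM := by decide

end Cfsg.Agent.Helper8.CZS
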