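import Mathlib
import Cfsg.Agent.Helper8.CZSA

/-!
# Groups with a 2-central involution whose centralizer is `Z₂ × S₄`: transport and the Sylow subgroup
(helper8; for S3222)
-/

set_option autoImplicit false

namespace Cfsg.Agent.Helper8.CZS

open Equiv
open scoped Pointwise

variable {G : Type*} [Group G]

section basics

variable (t : G) (e : Subgroup.centralizer ({t} : Set G) ≃* MM)

theorem mem_cent_iff (x : G) : x ∈ Subgroup.centralizer ({t} : Set G) ↔ x * t = t * x := by
  rw [Subgroup.mem_centralizer_singleton_iff]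

/-- transport of an element of the model to `G` -/
noncomputable def el (m : MM) : G := ((e.symm m : Subgroup.centralizer ({t} : Set G)) : G)

theorem el_mem (m : MM) : el t e m ∈ Subgroup.centralizer ({t} : Set G) := (e.symm m).2

theorem el_comm (m : MM) : el t e m * t = t * el t e m := (mem_cent_iff t _).mp (el_mem t e m)

theorem el_mul (m m' : MM) : el t e (m * m') = el t e m * el t e m' := by
  unfold el; rw [map_mul]; rfl

theorem el_one : el t e 1 = 1 := by
  unfold el; rw [map_one]; rfl

theorem el_inv (m : MM) : el t e m⁻¹ = (el t e m)⁻¹ := by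
  unfold el; rw [map_inv]; rfl

theorem el_pow (m : MM) (n : ℕ) : el t e (m ^ n) = (el t e m) ^ n := by
  unfold el; rw [map_pow]; rfl

theorem el_injective : Function.Injective (el t e) := by
  intro d d' h
  unfold el at h
  exact e.symm.injective (Subtype.ext h)

theorem el_apply (x : G) (hx : x ∈ Subgroup.centralizer ({t} : Set G)) :
    el t e (e ⟨x, hx⟩) = x := by
  unfold el; rw [e.symm_apply_apply]

theorem exists_el (x : G) (hx : x ∈ Subgroup.centralizer ({t} : Set G)) :
    ∃ m, el t e m = x := ⟨_, el_apply t e x hx⟩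

theorem el_eq_one_iff (m : MM) : el t e m = 1 ↔ m = 1 := by
  constructor
  · intro h
    apply el_injective t e
    rw [h, el_one]
  · rintro rfl; exact el_one t e

theorem orderOf_el (m : MM) : orderOf (el t e m) = orderOf m := by
  unfold el; rw [Subgroup.orderOf_coe, MulEquiv.orderOf_eq]

theorem t_mem : t ∈ Subgroup.centralizer ({t} : Set G) := (mem_cent_iff t t).mpr rfl

theorem el_tM (ht1 : t ≠ 1) : el t e tM = t := by
  obtain ⟨m, hm⟩ := exists_el t e t (t_mem t)
  have hc : ∀ x : MM, x * m = m * x := by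
    intro x
    apply el_injective t e
    rw [el_mul, el_mul, hm]
    exact el_comm t e x
  rcases center_cases m hc with rfl | rfl
  · rw [el_one] at hm
    exact absurd hm.symm ht1
  · exact hm

include e in
theorem card_cent [Finite G] : Nat.card (Subgroup.centralizer ({t} : Set G)) = 48 := by
  rw [Nat.card_congr e.toEquiv, card_MM]

theorem isConj_el (c m : MM) : IsConj (el t e m) (el t e (c * m * c⁻¹)) := by
  rw [isConj_iff]
  refine ⟨el t e c, ?_⟩
  rw [el_mul, el_mul, el_inv]

theorem isConj_el_of (m m' : MM) (h : ∃ c : MM, c * m * c⁻¹ = m') : IsConj (el t e m) (el t e m') := by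
  obtain ⟨c, rfl⟩ := h
  exact isConj_el t e c m

end basics

/-- conjugate elements have centralizers of the same order -/
theorem card_cent_of_isConj [Finite G] {x y : G} (h : IsConj x y) :
    Nat.card (Subgroup.centralizer ({x} : Set G)) = Nat.card (Subgroup.centralizer ({y} : Set G)) := by
  rw [isConj_iff] at h
  obtain ⟨c, rfl⟩ := h
  apply Nat.card_congr
  refine ⟨fun k => ⟨c * k.1 * c⁻¹, ?_⟩, fun k => ⟨c⁻¹ * k.1 * c, ?_⟩, ?_, ?_⟩
  · have := Subgroup.mem_centralizer_singleton_iff.mp k.2
    rw [Subgroup.mem_centralizer_singleton_iff]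
    calc c * k.1 * c⁻¹ * (c * x * c⁻¹) = c * (k.1 * x) * c⁻¹ := by group
      _ = c * (x * k.1) * c⁻¹ := by rw [this]
      _ = c * x * c⁻¹ * (c * k.1 * c⁻¹) := by group
  · have := Subgroup.mem_centralizer_singleton_iff.mp k.2
    rw [Subgroup.mem_centralizer_singleton_iff]
    calc c⁻¹ * k.1 * c * x = c⁻¹ * (k.1 * (c * x * c⁻¹)) * c := by group
      _ = c⁻¹ * ((c * x * c⁻¹) * k.1) * c := by rw [this]
      _ = x * (c⁻¹ * k.1 * c) := by group
  · intro k; apply Subtype.ext; simp only; group
  · intro k; apply Subtype.ext; simp only; group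

section normalize

variable [Finite G] (t : G) (T : Sylow 2 G)

/-- the isomorphism can be chosen so that the given Sylow subgroup is the centralizer of `zM` -/
theorem exists_equiv_T (hT : ∀ s ∈ (T : Subgroup G), s * t = t * s)
    (e : Subgroup.centralizer ({t} : Set G) ≃* MM) :
    ∃ e' : Subgroup.centralizer ({t} : Set G) ≃* MM,
      ∀ x : Subgroup.centralizer ({t} : Set G), (x : G) ∈ (T : Subgroup G) ↔ e' x * zM = zM * e' x := by
  classical
  have hTC : (T : Subgroup G) ≤ Subgroup.centralizer ({t} : Set G) := fun s hs =>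
    (mem_cent_iff t s).mpr (hT s hs)
  have hcard48 : Nat.card (Subgroup.centralizer ({t} : Set G)) = 48 := card_cent t e
  -- the order of `T`
  have hT16 : Nat.card (T : Subgroup G) = 16 := by
    have h1 : Nat.card (T : Subgroup G) ∣ 48 := by
      rw [← hcard48]; exact Subgroup.card_dvd_of_le hTC
    have h2 : 48 ∣ Nat.card G := by
      rw [← hcard48]; exact Subgroup.card_subgroup_dvd_card _
    have h3 : Nat.card (T : Subgroup G) = 2 ^ (Nat.card G).factorization 2 := T.card_eq_multiplicity
    have h4 : 2 ^ 4 ∣ Nat.card G := Dvd.dvd.trans (by norm_num) h2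
    have h5 : 4 ≤ (Nat.card G).factorization 2 :=
      (Nat.Prime.pow_dvd_iff_le_factorization Nat.prime_two Nat.card_pos.ne').mp h4
    have h6 : 2 ^ 4 ∣ Nat.card (T : Subgroup G) := by
      rw [h3]; exact pow_dvd_pow 2 h5
    have h7 : Nat.card (T : Subgroup G) ∣ 2 ^ (Nat.card G).factorization 2 := by rw [h3]
    obtain ⟨k, hk, hk'⟩ := (Nat.dvd_prime_pow Nat.prime_two).mp h7
    rw [hk'] at h1 h6 ⊢
    have hk4 : k ≤ 4 := by
      by_contra hlt
      push Not at hlt
      have : 2 ^ 5 ∣ 48 := Dvd.dvd.trans (pow_dvd_pow 2 hlt) h1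
      norm_num at this
    have hk4' : 4 ≤ k := (Nat.pow_dvd_pow_iff_le_right (by norm_num)).mp h6
    have : k = 4 := le_antisymm hk4 hk4'
    rw [this]; norm_num
  -- the image of `T` in the model
  set P : Subgroup MM := ((T : Subgroup G).subgroupOf (Subgroup.centralizer ({t} : Set G))).map
    e.toMonoidHom with hP
  have hPcard : Nat.card P = 16 := by
    rw [hP, Subgroup.card_map_of_injective e.injective]
    rw [Nat.card_congr (Subgroup.subgroupOfEquivOfLe hTC).toEquiv, hT16]
  have hfac : (Nat.card MM).factorization 2 = 4 := by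
    rw [card_MM, show (48 : ℕ) = 2 ^ 4 * 3 by norm_num,
      Nat.factorization_mul (by norm_num) (by norm_num), Nat.Prime.factorization_pow Nat.prime_two]
    simp [Nat.factorization_eq_zero_of_not_dvd]
  let P0 : Subgroup MM := Subgroup.centralizer ({zM} : Set MM)
  have hP0card : Nat.card P0 = 16 := by
    rw [Nat.card_eq_fintype_card, ← card_cent_zM, Fintype.card_subtype]
    congr 1
    ext x
    simp only [Finset.mem_filter, Finset.mem_univ, true_and]
    rw [Subgroup.mem_centralizer_singleton_iff]
  let Q : Sylow 2 MM := Sylow.ofCard P (by rw [hPcard, hfac]; norm_num)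
  let Q0 : Sylow 2 MM := Sylow.ofCard P0 (by rw [hP0card, hfac]; norm_num)
  obtain ⟨m, hm⟩ := MulAction.exists_smul_eq MM Q Q0
  refine ⟨e.trans (MulAut.conj m), ?_⟩
  intro x
  have h1 : (x : G) ∈ (T : Subgroup G) ↔ e x ∈ P := by
    rw [hP, Subgroup.mem_map]
    constructor
    · intro h
      exact ⟨x, Subgroup.mem_subgroupOf.mpr h, rfl⟩
    · rintro ⟨y, hy, hyx⟩
      have : y = x := e.injective hyx
      rw [← this]
      exact Subgroup.mem_subgroupOf.mp hy
  have h2 : ∀ y : MM, y ∈ P ↔ m * y * m⁻¹ ∈ P0 := by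
    intro y
    have h3 : (Q0 : Subgroup MM) = P0 := rfl
    have h4 : (Q : Subgroup MM) = P := rfl
    rw [← h3, ← hm, Sylow.coe_subgroup_smul, Subgroup.mem_smul_pointwise_iff_exists, h4]
    constructor
    · intro hy
      exact ⟨y, hy, by simp [MulAut.smul_def]⟩
    · rintro ⟨y', hy', hyy⟩
      have : y' = y := by
        have := hyy
        simp only [MulAut.smul_def, MulAut.conj_apply] at this
        have h5 : m⁻¹ * (m * y' * m⁻¹) * m = m⁻¹ * (m * y * m⁻¹) * m := by rw [this]
        simpa [mul_assoc] using h5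
      rw [← this]; exact hy'
  rw [h1, h2]
  show m * e x * m⁻¹ ∈ P0 ↔ _
  rw [Subgroup.mem_centralizer_singleton_iff]
  show _ ↔ (MulAut.conj m) (e x) * zM = zM * (MulAut.conj m) (e x)
  rw [MulAut.conj_apply]

end normalize

end Cfsg.Agent.Helper8.CZS
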