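import Mathlib
import Cfsg.Agent.Helper8.CZSB
import Cfsg.Agent.Helper2.ThompsonTransfer2

/-!
# Groups with a 2-central involution whose centralizer is `Z₂ × S₄`: fusion and transfer
(helper8; for S3222)
-/

set_option autoImplicit false
set_option maxRecDepth 100000
set_option synthInstance.maxSize 2000
set_option synthInstance.maxHeartbeats 400000

namespace Cfsg.Agent.Helper8.CZS

open Equiv
open scoped Pointwise
open scoped commutatorElement

theorem xor_B1 : ∀ m : MM, m * zM = zM * m → Xor (m * tM ∈ B1) (m ∈ B1) := by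
  unfold Xor
  show ∀ m : MM, m * zM = zM * m →
    ((m * tM * zM = zM * (m * tM) ∧ (m * tM).1 = 1) ∧ ¬ (m * zM = zM * m ∧ m.1 = 1)) ∨
    ((m * zM = zM * m ∧ m.1 = 1) ∧ ¬ (m * tM * zM = zM * (m * tM) ∧ (m * tM).1 = 1))
  decide

theorem xor_B2 : ∀ m : MM, m * zM = zM * m → Xor (m * tM ∈ B2) (m ∈ B2) := by
  unfold Xor
  show ∀ m : MM, m * zM = zM * m →
    ((m * tM * zM = zM * (m * tM) ∧ ((m * tM).1 = 1 ↔ Perm.sign (m * tM).2 = 1)) ∧
      ¬ (m * zM = zM * m ∧ (m.1 = 1 ↔ Perm.sign m.2 = 1))) ∨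
    ((m * zM = zM * m ∧ (m.1 = 1 ↔ Perm.sign m.2 = 1)) ∧
      ¬ (m * tM * zM = zM * (m * tM) ∧ ((m * tM).1 = 1 ↔ Perm.sign (m * tM).2 = 1)))
  decide

variable {G : Type*} [Group G]

section struct

variable [Finite G] (t : G) (ht : orderOf t = 2) (T : Sylow 2 G)
  (hT : ∀ s ∈ (T : Subgroup G), s * t = t * s)
  (e : Subgroup.centralizer ({t} : Set G) ≃* MM)
  (hTe : ∀ x : Subgroup.centralizer ({t} : Set G), (x : G) ∈ (T : Subgroup G) ↔ e x * zM = zM * e x)
  (h2T : Subgroup.centralizer ((⁅(T : Subgroup G), (T : Subgroup G)⁆ : Subgroup G) : Set G) =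
    (T : Subgroup G))

omit [Finite G] in
include ht in
theorem t_ne_one : t ≠ 1 := by
  intro h; rw [h, orderOf_one] at ht; omega

omit [Finite G] in
include ht in
theorem t_mul_self : t * t = 1 := by
  rw [← sq, ← ht]; exact pow_orderOf_eq_one t

omit [Finite G] in
include hTe in
theorem el_mem_T_iff (m : MM) : el t e m ∈ (T : Subgroup G) ↔ m * zM = zM * m := by
  have := hTe (e.symm m)
  rw [e.apply_symm_apply] at this
  exact this

omit [Finite G] in
include hT hTe in
theorem exists_el_of_mem_T (x : G) (hx : x ∈ (T : Subgroup G)) :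
    ∃ m : MM, m * zM = zM * m ∧ el t e m = x := by
  obtain ⟨m, hm⟩ := exists_el t e x ((mem_cent_iff t x).mpr (hT x hx))
  refine ⟨m, ?_, hm⟩
  rw [← el_mem_T_iff t T e hTe, hm]
  exact hx

omit [Finite G] in
theorem orderOf_z : orderOf (el t e zM) = 2 := by
  rw [orderOf_el]
  exact orderOf_eq_prime (by rw [sq]; exact zM_sq) zM_ne

omit [Finite G] in
theorem z_mul_self : el t e zM * el t e zM = 1 := by
  rw [← el_mul, zM_sq, el_one]

omit [Finite G] in
theorem z_ne_one : el t e zM ≠ 1 := by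
  rw [Ne, el_eq_one_iff]; exact zM_ne

omit [Finite G] in
include hT hTe in
theorem commutator_T_le :
    ⁅(T : Subgroup G), (T : Subgroup G)⁆ ≤ Subgroup.zpowers (el t e zM) := by
  rw [Subgroup.commutator_le]
  intro a ha b hb
  obtain ⟨m, hm, rfl⟩ := exists_el_of_mem_T t T hT e hTe a ha
  obtain ⟨m', hm', rfl⟩ := exists_el_of_mem_T t T hT e hTe b hb
  rw [commutatorElement_def, ← el_inv, ← el_inv, ← el_mul, ← el_mul, ← el_mul]
  rcases comm_cases m m' hm hm' with h | h
  · rw [h, el_one]; exact one_mem _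
  · rw [h]; exact Subgroup.mem_zpowers _

omit [Finite G] in
include hTe in
theorem z_mem_commutator_T : el t e zM ∈ ⁅(T : Subgroup G), (T : Subgroup G)⁆ := by
  obtain ⟨a, b, ha, hb, hab⟩ := zM_comm
  have h1 : el t e zM = ⁅el t e a, el t e b⁆ := by
    rw [commutatorElement_def, ← el_inv, ← el_inv, ← el_mul, ← el_mul, ← el_mul, hab]
  rw [h1]
  exact Subgroup.commutator_mem_commutator ((el_mem_T_iff t T e hTe a).mpr ha)
    ((el_mem_T_iff t T e hTe b).mpr hb)

omit [Finite G] in
include hT hTe h2T in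
/-- the centralizer of `z` is the Sylow subgroup -/
theorem cent_z : Subgroup.centralizer ({el t e zM} : Set G) = (T : Subgroup G) := by
  apply le_antisymm
  · have h1 : Subgroup.centralizer ({el t e zM} : Set G) ≤
        Subgroup.centralizer ((⁅(T : Subgroup G), (T : Subgroup G)⁆ : Subgroup G) : Set G) := by
      intro x hx
      rw [Subgroup.mem_centralizer_iff]
      intro y hy
      have hy' := commutator_T_le t T hT e hTe hy
      obtain ⟨k, rfl⟩ := Subgroup.mem_zpowers_iff.mp hy'
      have hx' : Commute x (el t e zM) := (Subgroup.mem_centralizer_singleton_iff.mp hx)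
      exact (hx'.zpow_right k).eq.symm
    rw [h2T] at h1
    exact h1
  · intro x hx
    obtain ⟨m, hm, rfl⟩ := exists_el_of_mem_T t T hT e hTe x hx
    rw [Subgroup.mem_centralizer_singleton_iff, ← el_mul, ← el_mul, hm]

omit [Finite G] in
include hT hTe in
theorem card_T : Nat.card (T : Subgroup G) = 16 := by
  classical
  have h1 : Nat.card (T : Subgroup G) = Nat.card {m : MM // m * zM = zM * m} := by
    apply Nat.card_congr
    symm
    refine Equiv.ofBijective (fun m => ⟨el t e m.1, (el_mem_T_iff t T e hTe m.1).mpr m.2⟩) ⟨?_, ?_⟩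
    · intro m m' h
      apply Subtype.ext
      have h' := congrArg (fun y : (T : Subgroup G) => (y : G)) h
      exact el_injective t e h'
    · intro x
      obtain ⟨m, hm, hmx⟩ := exists_el_of_mem_T t T hT e hTe x.1 x.2
      exact ⟨⟨m, hm⟩, Subtype.ext hmx⟩
  rw [h1, Nat.card_eq_fintype_card, Fintype.card_subtype]
  exact card_cent_zM

omit [Finite G] in
include hT hTe h2T in
theorem card_cent_z : Nat.card (Subgroup.centralizer ({el t e zM} : Set G)) = 16 := by
  rw [cent_z t T hT e hTe h2T, card_T t T hT e hTe]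

include hT hTe h2T in
theorem not_isConj_t_z : ¬ IsConj t (el t e zM) := by
  intro h
  have h1 := card_cent_of_isConj h
  rw [card_cent t e, card_cent_z t T hT e hTe h2T] at h1
  omega

omit [Finite G] in
include ht in
theorem tz_eq : t * el t e zM = el t e (tM * zM) := by
  rw [el_mul, el_tM t e (t_ne_one t ht)]

include ht hT hTe in
/-- Burnside's fusion argument: `t` and `tz` are not conjugate -/
theorem not_isConj_t_tz : ¬ IsConj t (t * el t e zM) := by
  intro h
  rw [isConj_iff] at h
  obtain ⟨g0, hg0⟩ := h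
  have ht1 := t_ne_one t ht
  -- both are central in `T`
  have hx : t ∈ Subgroup.centralizer ((T : Subgroup G) : Set G) := by
    rw [Subgroup.mem_centralizer_iff]
    intro s hs
    exact hT s hs
  have hzc : ∀ s ∈ (T : Subgroup G), s * el t e zM = el t e zM * s := by
    intro s hs
    obtain ⟨m, hm, rfl⟩ := exists_el_of_mem_T t T hT e hTe s hs
    rw [← el_mul, ← el_mul, hm]
  have hy : g0⁻¹⁻¹ * t * g0⁻¹ ∈ Subgroup.centralizer ((T : Subgroup G) : Set G) := by
    rw [inv_inv, hg0, Subgroup.mem_centralizer_iff]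
    intro s hs
    rw [← mul_assoc, hT s hs, mul_assoc, hzc s hs, mul_assoc]
  obtain ⟨n, hn, hnn⟩ := T.conj_eq_normalizer_conj_of_mem_centralizer t g0⁻¹ hx hy
  rw [inv_inv, hg0] at hnn
  -- `n` fixes `z`
  have hnT : ∀ s, s ∈ (T : Subgroup G) → n⁻¹ * s * n ∈ (T : Subgroup G) := by
    intro s hs
    have h1 := (Subgroup.mem_normalizer_iff'.mp (Subgroup.inv_mem _ hn)) s
    have := (Subgroup.mem_normalizer_iff.mp (Subgroup.inv_mem _ hn) s).mp hs
    simpa using this
  have hnz : n⁻¹ * el t e zM * n = el t e zM := by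
    obtain ⟨a, b, ha, hb, hab⟩ := zM_comm
    have h1 : el t e zM = ⁅el t e a, el t e b⁆ := by
      rw [commutatorElement_def, ← el_inv, ← el_inv, ← el_mul, ← el_mul, ← el_mul, hab]
    have h2 : n⁻¹ * el t e zM * n = ⁅n⁻¹ * el t e a * n, n⁻¹ * el t e b * n⁆ := by
      rw [h1, commutatorElement_def, commutatorElement_def]; group
    have h3 : n⁻¹ * el t e zM * n ∈ ⁅(T : Subgroup G), (T : Subgroup G)⁆ := by
      rw [h2]
      exact Subgroup.commutator_mem_commutator
        (hnT _ ((el_mem_T_iff t T e hTe a).mpr ha)) (hnT _ ((el_mem_T_iff t T e hTe b).mpr hb))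
    have h4 := commutator_T_le t T hT e hTe h3
    obtain ⟨k, hk⟩ := Subgroup.mem_zpowers_iff.mp h4
    rcases Int.even_or_odd k with hk2 | hk2
    · exfalso
      obtain ⟨j, rfl⟩ := hk2
      rw [← two_mul, zpow_mul, zpow_ofNat, sq, z_mul_self, one_zpow] at hk
      have : el t e zM = n * (n⁻¹ * el t e zM * n) * n⁻¹ := by group
      rw [← hk] at this
      apply z_ne_one t e
      rw [this]; group
    · obtain ⟨j, rfl⟩ := hk2
      rw [zpow_add, zpow_mul, zpow_ofNat, sq, z_mul_self, one_zpow, one_mul, zpow_one] at hk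
      exact hk.symm
  -- the conjugation action of powers of `n`
  have hpow : ∀ j : ℕ, (n ^ j)⁻¹ * t * n ^ j = if Even j then t else t * el t e zM := by
    intro j
    induction j with
    | zero => simp
    | succ j ih =>
      have h1 : (n ^ (j + 1))⁻¹ * t * n ^ (j + 1) = n⁻¹ * ((n ^ j)⁻¹ * t * n ^ j) * n := by
        rw [pow_succ]; group
      rw [h1, ih]
      by_cases hj : Even j
      · rw [if_pos hj, if_neg (by rw [Nat.even_add_one]; exact not_not.mpr hj), ← hnn]
      · rw [if_neg hj, if_pos (by rw [Nat.even_add_one]; exact hj)]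
        calc n⁻¹ * (t * el t e zM) * n = (n⁻¹ * t * n) * (n⁻¹ * el t e zM * n) := by group
          _ = t * el t e zM * el t e zM := by rw [← hnn, hnz]
          _ = t := by rw [mul_assoc, z_mul_self, mul_one]
  -- the odd part of `n`
  obtain ⟨a, b, hb, hab⟩ := Nat.exists_eq_two_pow_mul_odd (orderOf_pos n).ne'
  have hnb : n ^ b ∈ (T : Subgroup G) := by
    have h1 : IsPGroup 2 (Subgroup.zpowers (n ^ b)) := by
      rw [IsPGroup.iff_card, Nat.card_zpowers]
      have : (n ^ b) ^ (2 ^ a) = 1 := by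
        rw [← pow_mul, mul_comm, ← hab]; exact pow_orderOf_eq_one n
      obtain ⟨k, _, hk⟩ := (Nat.dvd_prime_pow Nat.prime_two).mp (orderOf_dvd_of_pow_eq_one this)
      exact ⟨k, hk⟩
    have h2 : Subgroup.zpowers (n ^ b) ≤ Subgroup.normalizer ((T : Subgroup G) : Set G) := by
      rw [Subgroup.zpowers_le]
      exact Subgroup.pow_mem _ hn b
    have h3 := IsPGroup.to_sup_of_normal_left' T.2 h1 h2
    have h4 := T.is_maximal' h3 le_sup_left
    have h5 : n ^ b ∈ (T : Subgroup G) ⊔ Subgroup.zpowers (n ^ b) :=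
      Subgroup.mem_sup_right (Subgroup.mem_zpowers _)
    rw [h4] at h5
    exact h5
  have h6 := hpow b
  rw [if_neg (Nat.not_even_iff_odd.mpr hb)] at h6
  have h7 : (n ^ b)⁻¹ * t * n ^ b = t := by
    have := hT _ hnb
    calc (n ^ b)⁻¹ * t * n ^ b = (n ^ b)⁻¹ * (t * n ^ b) := by group
      _ = (n ^ b)⁻¹ * (n ^ b * t) := by rw [this]
      _ = t := by group
  rw [h7] at h6
  apply z_ne_one t e
  have : t * 1 = t * el t e zM := by rw [mul_one]; exact h6
  exact (mul_left_cancel this).symm

end struct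

end Cfsg.Agent.Helper8.CZS
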