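import Mathlib
import Cfsg.Agent.Helper8.CZSC

/-!
# Groups with a 2-central involution whose centralizer is `Z₂ × S₄`: the subgroup of index two
(helper8; for S3222)
-/

set_option autoImplicit false

namespace Cfsg.Agent.Helper8.CZS

open Equiv
open scoped Pointwise

variable {G : Type*} [Group G]

section fusion

variable [Finite G] (t : G) (ht : orderOf t = 2) (T : Sylow 2 G)
  (hT : ∀ s ∈ (T : Subgroup G), s * t = t * s)
  (e : Subgroup.centralizer ({t} : Set G) ≃* MM)
  (hTe : ∀ x : Subgroup.centralizer ({t} : Set G), (x : G) ∈ (T : Subgroup G) ↔ e x * zM = zM * e x)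
  (h2T : Subgroup.centralizer ((⁅(T : Subgroup G), (T : Subgroup G)⁆ : Subgroup G) : Set G) =
    (T : Subgroup G))

include ht hT hTe h2T in
/-- the two classes of transposition type are not both fused to `t` -/
theorem not_both_conj : ¬ (IsConj t (el t e sM) ∧ IsConj t (el t e (tM * sM))) := by
  rintro ⟨h1, h2⟩
  have ht1 := t_ne_one t ht
  have hnz := not_isConj_t_z t T hT e hTe h2T
  have hntz := not_isConj_t_tz t ht T hT e hTe
  obtain ⟨g, hg⟩ := isConj_iff.mp h1
  -- `g * t * g⁻¹ = s`
  set z := el t e zM with hz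
  have hsz : el t e sM * z = z * el t e sM := by
    rw [hz, ← el_mul, ← el_mul, sM_zM]
  -- `x = g⁻¹ z g` centralizes `t`
  have hxt : (g⁻¹ * z * g) * t = t * (g⁻¹ * z * g) := by
    have h3 : t = g⁻¹ * el t e sM * g := by rw [← hg]; group
    calc (g⁻¹ * z * g) * t = g⁻¹ * z * g * (g⁻¹ * el t e sM * g) := by rw [← h3]
      _ = g⁻¹ * (z * el t e sM) * g := by group
      _ = g⁻¹ * (el t e sM * z) * g := by rw [hsz]
      _ = (g⁻¹ * el t e sM * g) * (g⁻¹ * z * g) := by group
      _ = t * (g⁻¹ * z * g) := by rw [← h3]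
  obtain ⟨m, hm⟩ := exists_el t e _ ((mem_cent_iff t _).mpr hxt)
  have hxz : IsConj (el t e m) z := by
    rw [hm, isConj_iff]
    exact ⟨g, by group⟩
  have hmm : m * m = 1 := by
    apply el_injective t e
    rw [el_mul, hm, el_one]
    calc g⁻¹ * z * g * (g⁻¹ * z * g) = g⁻¹ * (z * z) * g := by group
      _ = 1 := by rw [hz, z_mul_self]; group
  -- `s z` is conjugate to `t`
  have hszt : IsConj t (el t e sM * z) := by
    rw [hz, ← el_mul]
    exact h1.trans (isConj_el_of t e _ _ szM_conj).symm
  -- `s z` is conjugate to `t x`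
  have hsztx : IsConj (el t e sM * z) (el t e (tM * m)) := by
    rw [el_mul, el_tM t e ht1, hm, isConj_iff]
    refine ⟨g⁻¹, ?_⟩
    have h3 : t = g⁻¹ * el t e sM * g := by rw [← hg]; group
    rw [inv_inv]
    calc g⁻¹ * (el t e sM * z) * g = (g⁻¹ * el t e sM * g) * (g⁻¹ * z * g) := by group
      _ = t * (g⁻¹ * z * g) := by rw [← h3]
  rcases invol_cases m hmm with h | h | h | h | h | h
  · -- `m = 1`
    rw [h, el_one, isConj_one_right] at hxz
    exact z_ne_one t e hxz
  · -- `m = tM`
    rw [h, el_tM t e ht1] at hxz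
    exact hnz hxz
  · -- `m` conjugate to `zM`: then `t x` is conjugate to `t z`
    apply hntz
    have h4 : ∃ c : MM, c * (tM * m) * c⁻¹ = tM * zM := by
      obtain ⟨c, hc⟩ := h
      refine ⟨c, ?_⟩
      rw [← hc]
      have := tM_central c
      calc c * (tM * m) * c⁻¹ = (c * tM) * m * c⁻¹ := by group
        _ = (tM * c) * m * c⁻¹ := by rw [this]
        _ = tM * (c * m * c⁻¹) := by group
    have h5 := isConj_el_of t e _ _ h4
    rw [tz_eq t ht e]
    exact (hszt.trans hsztx).trans h5
  · -- `m` conjugate to `tM zM`: then `t x` is conjugate to `z`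
    apply hnz
    have h4 : ∃ c : MM, c * (tM * m) * c⁻¹ = zM := by
      obtain ⟨c, hc⟩ := h
      refine ⟨c, ?_⟩
      have := tM_central c
      calc c * (tM * m) * c⁻¹ = (c * tM) * m * c⁻¹ := by group
        _ = (tM * c) * m * c⁻¹ := by rw [this]
        _ = tM * (c * m * c⁻¹) := by group
        _ = tM * (tM * zM) := by rw [hc]
        _ = zM := by rw [← mul_assoc, tM_sq, one_mul]
    have h5 := isConj_el_of t e _ _ h4
    exact (hszt.trans hsztx).trans h5
  · -- `m` conjugate to `sM`
    apply hnz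
    have h5 := isConj_el_of t e _ _ h
    exact h1.trans (h5.symm.trans hxz)
  · -- `m` conjugate to `tM sM`
    apply hnz
    have h5 := isConj_el_of t e _ _ h
    exact h2.trans (h5.symm.trans hxz)

/-- the image in `G` of a subgroup of the model -/
noncomputable def elSub (B : Subgroup MM) : Subgroup G :=
  (B.comap e.toMonoidHom).map (Subgroup.centralizer ({t} : Set G)).subtype

omit [Finite G] in
theorem mem_elSub (B : Subgroup MM) (x : G) : x ∈ elSub t e B ↔ ∃ m ∈ B, el t e m = x := by
  unfold elSub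
  rw [Subgroup.mem_map]
  constructor
  · rintro ⟨y, hy, rfl⟩
    rw [Subgroup.mem_comap] at hy
    exact ⟨e y, hy, el_apply t e y.1 y.2⟩
  · rintro ⟨m, hm, rfl⟩
    refine ⟨e.symm m, ?_, rfl⟩
    rw [Subgroup.mem_comap]
    show e (e.symm m) ∈ B
    rw [e.apply_symm_apply]
    exact hm

omit [Finite G] in
include ht hT hTe in
theorem relIndex_elSub (B : Subgroup MM)
    (hx : ∀ m : MM, m * zM = zM * m → Xor (m * tM ∈ B) (m ∈ B)) :
    (elSub t e B).relIndex (T : Subgroup G) = 2 := by
  have ht1 := t_ne_one t ht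
  rw [Subgroup.relIndex_eq_two_iff]
  have htT : t ∈ (T : Subgroup G) := by
    rw [← el_tM t e ht1, el_mem_T_iff t T e hTe]
    exact (tM_central zM).symm
  refine ⟨t, htT, ?_⟩
  intro b hb
  obtain ⟨m, hm, rfl⟩ := exists_el_of_mem_T t T hT e hTe b hb
  have h1 : el t e m * t ∈ elSub t e B ↔ m * tM ∈ B := by
    rw [mem_elSub]
    constructor
    · rintro ⟨m', hm', h⟩
      have : m' = m * tM := by
        apply el_injective t e
        rw [h, el_mul, el_tM t e ht1]
      rw [← this]; exact hm'
    · intro h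
      exact ⟨m * tM, h, by rw [el_mul, el_tM t e ht1]⟩
  have h2 : el t e m ∈ elSub t e B ↔ m ∈ B := by
    rw [mem_elSub]
    constructor
    · rintro ⟨m', hm', h⟩
      have : m' = m := el_injective t e h
      rw [← this]; exact hm'
    · intro h
      exact ⟨m, h, rfl⟩
  rw [h1, h2]
  exact hx m hm

include ht hT hTe h2T in
/-- Thompson transfer: there is a normal subgroup of index two not containing `t` -/
theorem exists_index_two : ∃ M : Subgroup G, M.Normal ∧ M.index = 2 ∧ t ∉ M := by
  have ht1 := t_ne_one t ht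
  have hnz := not_isConj_t_z t T hT e hTe h2T
  have hr1 := relIndex_elSub t ht T hT e hTe B1 xor_B1
  have hr2 := relIndex_elSub t ht T hT e hTe B2 xor_B2
  rcases Cfsg.Agent.Helper2.thompson_transfer_classical T (elSub t e B1) hr1 t ht with h | ⟨g1, hg1⟩
  · exact h
  rcases Cfsg.Agent.Helper2.thompson_transfer_classical T (elSub t e B2) hr2 t ht with h | ⟨g2, hg2⟩
  · exact h
  exfalso
  apply not_both_conj t ht T hT e hTe h2T
  constructor
  · obtain ⟨m, hm, hmg⟩ := (mem_elSub t e B1 _).mp hg1
    have hmm : m * m = 1 := by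
      apply el_injective t e
      rw [el_mul, hmg, el_one]
      calc g1 * t * g1⁻¹ * (g1 * t * g1⁻¹) = g1 * (t * t) * g1⁻¹ := by group
        _ = 1 := by rw [t_mul_self t ht]; group
    have hc : IsConj t (el t e m) := by
      rw [hmg, isConj_iff]; exact ⟨g1, rfl⟩
    rcases invol_B1 m hm.1 hm.2 hmm with h | h | h
    · exfalso
      rw [h, el_one, isConj_one_left] at hc
      exact ht1 hc
    · exfalso
      exact hnz (hc.trans (isConj_el_of t e _ _ h))
    · exact hc.trans (isConj_el_of t e _ _ h)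
  · obtain ⟨m, hm, hmg⟩ := (mem_elSub t e B2 _).mp hg2
    have hmm : m * m = 1 := by
      apply el_injective t e
      rw [el_mul, hmg, el_one]
      calc g2 * t * g2⁻¹ * (g2 * t * g2⁻¹) = g2 * (t * t) * g2⁻¹ := by group
        _ = 1 := by rw [t_mul_self t ht]; group
    have hc : IsConj t (el t e m) := by
      rw [hmg, isConj_iff]; exact ⟨g2, rfl⟩
    rcases invol_B2 m hm.1 hm.2 hmm with h | h | h
    · exfalso
      rw [h, el_one, isConj_one_left] at hc
      exact ht1 hc
    · exfalso
      exact hnz (hc.trans (isConj_el_of t e _ _ h))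
    · exact hc.trans (isConj_el_of t e _ _ h)

end fusion

end Cfsg.Agent.Helper8.CZS
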