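import Mathlib
import Cfsg.Agent.Helper8.CZSD
import Cfsg.Agent.Helper8.CD8F
import Cfsg.Agent.Helper2.DihedralIso

/-!
# Groups with a 2-central involution whose centralizer is `Z₂ × S₄`: inside the subgroup of index two
(helper8; for S3222)
-/

set_option autoImplicit false

namespace Cfsg.Agent.Helper8.CZS

open Equiv
open scoped Pointwise

variable {G : Type*} [Group G]

theorem orderOf_eq_four {H : Type*} [Group H] (x : H) (h4 : x ^ 4 = 1) (h2 : x ^ 2 ≠ 1) :
    orderOf x = 4 := by
  have hd : orderOf x ∣ 4 := orderOf_dvd_of_pow_eq_one h4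
  have hle := Nat.le_of_dvd (by norm_num) hd
  have hne2 : ¬ orderOf x ∣ 2 := fun h => h2 (orderOf_dvd_iff_pow_eq_one.mp h)
  have hx1 : x ≠ 1 := by
    rintro rfl; exact h2 (one_pow 2)
  have hpos : 0 < orderOf x := by
    rcases Nat.eq_zero_or_pos (orderOf x) with h | h
    · rw [h] at hd; norm_num at hd
    · exact h
  interval_cases h : orderOf x
  · exact absurd (one_dvd 2) hne2
  · exact absurd (dvd_refl 2) hne2
  · norm_num at hd
  · rfl

section idx2

variable (M0 : Subgroup G) [hMn : M0.Normal] (hM2 : M0.index = 2)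

omit hMn in
include hM2 in
theorem sq_mem (g : G) : g * g ∈ M0 := Subgroup.mul_self_mem_of_index_two hM2 g

include hM2 in
theorem comm_mem (a b : G) : a * b * a⁻¹ * b⁻¹ ∈ M0 := by
  have h1 : a * b * a⁻¹ * b⁻¹ = (a * b) * (a * b) * (b⁻¹ * (a⁻¹ * a⁻¹) * b⁻¹⁻¹) * (b⁻¹ * b⁻¹) := by
    group
  rw [h1]
  refine M0.mul_mem (M0.mul_mem (sq_mem M0 hM2 _) ?_) (sq_mem M0 hM2 _)
  exact hMn.conj_mem _ (sq_mem M0 hM2 _) _

omit hMn in
include hM2 in
theorem mem_of_pow_three (x : G) (hx : x ^ 3 = 1) : x ∈ M0 := by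
  have h1 : x = (x * x) * (x * x) := by
    calc x = x ^ 3 * x := by rw [hx, one_mul]
      _ = (x * x) * (x * x) := by rw [pow_succ, pow_two]; group
  rw [h1]
  exact M0.mul_mem (sq_mem M0 hM2 _) (sq_mem M0 hM2 _)

omit hMn in
include hM2 in
theorem mul_mem_iff_not (t : G) (htM : t ∉ M0) (x : G) : t * x ∈ M0 ↔ x ∉ M0 := by
  rw [Subgroup.mul_mem_iff_of_index_two hM2]
  constructor
  · intro h hx; exact htM (h.mpr hx)
  · intro h; exact ⟨fun h' => absurd h' htM, fun h' => absurd h' h⟩

variable [Finite G] (t : G) (ht : orderOf t = 2) (T : Sylow 2 G)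
  (hT : ∀ s ∈ (T : Subgroup G), s * t = t * s)
  (e : Subgroup.centralizer ({t} : Set G) ≃* MM)
  (hTe : ∀ x : Subgroup.centralizer ({t} : Set G), (x : G) ∈ (T : Subgroup G) ↔ e x * zM = zM * e x)
  (h2T : Subgroup.centralizer ((⁅(T : Subgroup G), (T : Subgroup G)⁆ : Subgroup G) : Set G) =
    (T : Subgroup G))
  (htM : t ∉ M0)

omit [Finite G] in
include hM2 in
theorem z_mem_M0 : el t e zM ∈ M0 := by
  obtain ⟨a, b, _, _, hab⟩ := zM_comm
  rw [← hab, el_mul, el_mul, el_mul, el_inv, el_inv]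
  exact comm_mem M0 hM2 _ _

omit [Finite G] hMn in
include ht hM2 htM in
/-- exactly one of `m`, `tM * m` is carried into the subgroup of index two -/
theorem exists_twist (m : MM) : ∃ a : MM, (a = 1 ∨ a = tM) ∧ el t e (a * m) ∈ M0 := by
  by_cases h : el t e m ∈ M0
  · exact ⟨1, Or.inl rfl, by rw [one_mul]; exact h⟩
  · refine ⟨tM, Or.inr rfl, ?_⟩
    rw [el_mul, el_tM t e (t_ne_one t ht), mul_mem_iff_not M0 hM2 t htM]
    exact h

include ht hT hTe h2T hM2 htM in
theorem card_cent_inf : Nat.card ↥(Subgroup.centralizer ({el t e zM} : Set G) ⊓ M0) = 8 := by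
  have ht1 := t_ne_one t ht
  rw [cent_z t T hT e hTe h2T]
  have h1 : M0.relIndex (T : Subgroup G) ∣ 2 := by
    have := Subgroup.relIndex_dvd_index_of_normal M0 (T : Subgroup G)
    rwa [hM2] at this
  have h2 : M0.relIndex (T : Subgroup G) ≠ 1 := by
    rw [Ne, Subgroup.relIndex_eq_one]
    intro h
    apply htM
    apply h
    rw [← el_tM t e ht1, el_mem_T_iff t T e hTe]
    exact (tM_central zM).symm
  have h3 : M0.relIndex (T : Subgroup G) = 2 := by
    rcases (Nat.dvd_prime Nat.prime_two).mp h1 with h | h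
    · exact absurd h h2
    · exact h
  have h4 := (M0.subgroupOf (T : Subgroup G)).card_mul_index
  have h5 : (M0.subgroupOf (T : Subgroup G)).index = 2 := h3
  rw [h5, card_T t T hT e hTe] at h4
  have h6 : Nat.card (M0.subgroupOf (T : Subgroup G)) =
      Nat.card ↥((T : Subgroup G) ⊓ M0) := by
    rw [inf_comm, ← Subgroup.inf_subgroupOf_right]
    exact Nat.card_congr (Subgroup.subgroupOfEquivOfLe inf_le_right).toEquiv
  rw [h6] at h4
  omega

include ht hT hTe h2T hM2 htM in
/-- in the subgroup of index two the centralizer of `z` is dihedral of order 8 -/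
theorem cent_dihedral : Nonempty (↥(Subgroup.centralizer
    ({(⟨el t e zM, z_mem_M0 M0 hM2 t e⟩ : ↥M0)} : Set ↥M0)) ≃* DihedralGroup 4) := by
  classical
  set z0 : ↥M0 := ⟨el t e zM, z_mem_M0 M0 hM2 t e⟩ with hz0
  obtain ⟨a, ha, hxa⟩ := exists_twist M0 hM2 t ht e htM sM
  obtain ⟨b, hb, hyb⟩ := exists_twist M0 hM2 t ht e htM uM
  obtain ⟨h1, h2, h3, h4, h5, h6, h7, h8⟩ := dih_gens a b ha hb
  set x0 : ↥M0 := ⟨el t e (a * sM), hxa⟩ with hx0
  set y0 : ↥M0 := ⟨el t e (b * uM), hyb⟩ with hy0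
  have hx : x0 * x0 = 1 := by
    apply Subtype.ext
    show el t e (a * sM) * el t e (a * sM) = 1
    rw [← el_mul, h1, el_one]
  have hy : y0 * y0 = 1 := by
    apply Subtype.ext
    show el t e (b * uM) * el t e (b * uM) = 1
    rw [← el_mul, h2, el_one]
  have hx1 : x0 ≠ 1 := by
    intro h
    have := congrArg Subtype.val h
    exact h3 ((el_eq_one_iff t e _).mp this)
  have hy1 : y0 ≠ 1 := by
    intro h
    have := congrArg Subtype.val h
    exact h4 ((el_eq_one_iff t e _).mp this)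
  have hord : orderOf (x0 * y0) = 4 := by
    apply orderOf_eq_four
    · apply Subtype.ext
      show (el t e (a * sM) * el t e (b * uM)) ^ 4 = 1
      rw [← el_mul, ← el_pow, h5, el_one]
    · intro h
      have := congrArg Subtype.val h
      have h' : (el t e (a * sM) * el t e (b * uM)) ^ 2 = 1 := this
      rw [← el_mul, ← el_pow, el_eq_one_iff] at h'
      exact h6 h'
  obtain ⟨φ⟩ := Cfsg.Agent.Helper2.closure_pair_invol_equiv_dihedral hx hy hx1 hy1
  rw [hord] at φ
  have hle : Subgroup.closure ({x0, y0} : Set ↥M0) ≤ Subgroup.centralizer ({z0} : Set ↥M0) := by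
    rw [Subgroup.closure_le]
    intro g hg
    rcases hg with rfl | rfl
    · rw [SetLike.mem_coe, Subgroup.mem_centralizer_singleton_iff]
      apply Subtype.ext
      show el t e (a * sM) * el t e zM = el t e zM * el t e (a * sM)
      rw [← el_mul, ← el_mul, h7]
    · rw [SetLike.mem_coe, Subgroup.mem_centralizer_singleton_iff]
      apply Subtype.ext
      show el t e (b * uM) * el t e zM = el t e zM * el t e (b * uM)
      rw [← el_mul, ← el_mul, h8]
  have hcard : Nat.card (Subgroup.closure ({x0, y0} : Set ↥M0)) = 8 := by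
    rw [Nat.card_congr φ.toEquiv, Nat.card_eq_fintype_card, DihedralGroup.card]
  have hc8 : Nat.card (Subgroup.centralizer ({z0} : Set ↥M0)) = 8 := by
    rw [Cfsg.Agent.Helper8.CD8.card_centralizer_subtype]
    exact card_cent_inf M0 hM2 t ht T hT e hTe h2T htM
  have heq : Subgroup.closure ({x0, y0} : Set ↥M0) = Subgroup.centralizer ({z0} : Set ↥M0) :=
    Subgroup.eq_of_le_of_card_ge hle (by rw [hcard, hc8])
  exact ⟨(MulEquiv.subgroupCongr heq).symm.trans φ⟩

end idx2

end Cfsg.Agent.Helper8.CZS
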