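import Mathlib
import Cfsg.Agent.Helper8.CZSE
import Cfsg.Agent.Helper5.PPrimeCore
import Cfsg.Agent.S0144

/-!
# Groups with a 2-central involution whose centralizer is `Z₂ × S₄`: the first two cases
(helper8; for S3222)
-/

set_option autoImplicit false

namespace Cfsg.Agent.Helper8.CZS

open Equiv
open scoped Pointwise

variable {G : Type*} [Group G]

section central

variable (t : G) (ht : orderOf t = 2) (e : Subgroup.centralizer ({t} : Set G) ≃* MM)

include ht e in
/-- the centre of `G` lies in `{1, t}` -/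
theorem center_cases' (c : G) (hc : ∀ g : G, g * c = c * g) : c = 1 ∨ c = t := by
  have ht1 := t_ne_one t ht
  obtain ⟨m, rfl⟩ := exists_el t e c ((mem_cent_iff t c).mpr (hc t).symm)
  have hm : ∀ x : MM, x * m = m * x := by
    intro x
    apply el_injective t e
    rw [el_mul, el_mul]
    exact hc _
  rcases center_cases m hm with h | h
  · left; rw [h, el_one]
  · right; rw [h, el_tM t e ht1]

include e in
theorem card_eq_of_central [Finite G] (hc : ∀ g : G, g * t = t * g) : Nat.card G = 48 := by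
  have h1 : Subgroup.centralizer ({t} : Set G) = ⊤ := by
    rw [eq_top_iff]
    intro g _
    exact (mem_cent_iff t g).mpr (hc g)
  rw [← card_cent t e, h1, Subgroup.card_top]

variable (M0 : Subgroup G) (hM2 : M0.index = 2)

include ht e hM2 in
/-- a normal subgroup meeting the subgroup of index two trivially is trivial -/
theorem normal_eq_bot [Finite G] (h48 : Nat.card G ≠ 48) (N : Subgroup G) [hN : N.Normal]
    (hNM : N ⊓ M0 = ⊥) : N = ⊥ := by
  rw [eq_bot_iff]
  intro x hx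
  rw [Subgroup.mem_bot]
  by_contra hx1
  have hnm : ∀ y ∈ N, y ≠ 1 → y ∉ M0 := by
    intro y hy hy1 hyM
    apply hy1
    have : y ∈ N ⊓ M0 := ⟨hy, hyM⟩
    rw [hNM, Subgroup.mem_bot] at this
    exact this
  have huniq : ∀ y ∈ N, y ≠ 1 → y = x := by
    intro y hy hy1
    have h1 : y * x⁻¹ ∈ M0 := by
      rw [Subgroup.mul_mem_iff_of_index_two hM2, Subgroup.inv_mem_iff]
      exact ⟨fun h => absurd h (hnm y hy hy1), fun h => absurd h (hnm x hx hx1)⟩
    have h2 : y * x⁻¹ ∈ N ⊓ M0 := ⟨N.mul_mem hy (N.inv_mem hx), h1⟩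
    rw [hNM, Subgroup.mem_bot] at h2
    exact mul_inv_eq_one.mp h2
  have hcen : ∀ g : G, g * x = x * g := by
    intro g
    have h1 : g * x * g⁻¹ ∈ N := hN.conj_mem x hx g
    have h2 : g * x * g⁻¹ ≠ 1 := by
      intro h
      apply hx1
      have : x = g⁻¹ * (g * x * g⁻¹) * g := by group
      rw [this, h]; group
    have h3 := huniq _ h1 h2
    calc g * x = (g * x * g⁻¹) * g := by group
      _ = x * g := by rw [h3]
  rcases center_cases' t ht e x hcen with h | h
  · exact hx1 h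
  · apply h48
    apply card_eq_of_central t e
    rw [← h]; exact hcen

end central

section cases

variable [Finite G] (t : G) (ht : orderOf t = 2) (T : Sylow 2 G)
  (hT : ∀ s ∈ (T : Subgroup G), s * t = t * s)
  (e : Subgroup.centralizer ({t} : Set G) ≃* MM)
  (hTe : ∀ x : Subgroup.centralizer ({t} : Set G), (x : G) ∈ (T : Subgroup G) ↔ e x * zM = zM * e x)
  (h2T : Subgroup.centralizer ((⁅(T : Subgroup G), (T : Subgroup G)⁆ : Subgroup G) : Set G) =
    (T : Subgroup G))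
  (M0 : Subgroup G) [hMn : M0.Normal] (hM2 : M0.index = 2) (htM : t ∉ M0)

omit [Finite G] hMn in
include hM2 in
theorem card_G_eq : Nat.card G = 2 * Nat.card M0 := by
  rw [← M0.card_mul_index, hM2, mul_comm]

omit [Finite G] hMn in
include hM2 in
theorem rho_mem (ρ : Perm (Fin 4)) (h : ρ ^ 3 = 1) : el t e (kM ρ) ∈ M0 := by
  apply mem_of_pow_three M0 hM2
  rw [← el_pow]
  have : (kM ρ) ^ 3 = 1 := by
    show ((1 : Multiplicative (ZMod 2)) ^ 3, ρ ^ 3) = 1
    rw [h, one_pow]; rfl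
  rw [this, el_one]

include ht hT hTe h2T hM2 htM in
/-- the 2-nilpotent case is impossible -/
theorem case_nilpotent
    (hA : Subgroup.centralizer ({(⟨el t e zM, z_mem_M0 M0 hM2 t e⟩ : ↥M0)} : Set ↥M0) ⊔
      Cfsg.oddCore ↥M0 = ⊤) : False := by
  have : Fact (Nat.Prime 2) := ⟨Nat.prime_two⟩
  set z0 : ↥M0 := ⟨el t e zM, z_mem_M0 M0 hM2 t e⟩ with hz0
  set N := Cfsg.oddCore ↥M0 with hN
  have hNn : N.Normal := Cfsg.pPrimeCore_normal 2 ↥M0
  have hc8 : Nat.card (Subgroup.centralizer ({z0} : Set ↥M0)) = 8 := by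
    rw [Cfsg.Agent.Helper8.CD8.card_centralizer_subtype]
    exact card_cent_inf M0 hM2 t ht T hT e hTe h2T htM
  -- elements of order three lie in `N`
  have hmem : ∀ ρ : ↥M0, ρ ^ 3 = 1 → ρ ∈ N := by
    intro ρ hρ
    have h1 : ρ ∈ Subgroup.centralizer ({z0} : Set ↥M0) ⊔ N := by rw [hA]; trivial
    rw [sup_comm, Subgroup.mem_sup_of_normal_left] at h1
    obtain ⟨n, hn, c, hc, rfl⟩ := h1
    have hc8' : c ^ 8 = 1 := by
      have := pow_card_eq_one' (G := Subgroup.centralizer ({z0} : Set ↥M0)) (x := ⟨c, hc⟩)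
      rw [hc8] at this
      have h2 := congrArg Subtype.val this
      simpa using h2
    have h3 : (QuotientGroup.mk (n * c) : ↥M0 ⧸ N) = QuotientGroup.mk c := by
      rw [QuotientGroup.mk_mul, (QuotientGroup.eq_one_iff n).mpr hn, one_mul]
    have h4 : (QuotientGroup.mk (n * c) : ↥M0 ⧸ N) ^ 3 = 1 := by
      rw [← QuotientGroup.mk_pow, hρ]; rfl
    have h5 : (QuotientGroup.mk (n * c) : ↥M0 ⧸ N) ^ 8 = 1 := by
      rw [h3, ← QuotientGroup.mk_pow, hc8']; rfl
    have h6 : (QuotientGroup.mk (n * c) : ↥M0 ⧸ N) = 1 := by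
      have h7 : orderOf (QuotientGroup.mk (n * c) : ↥M0 ⧸ N) ∣ Nat.gcd 3 8 :=
        Nat.dvd_gcd (orderOf_dvd_of_pow_eq_one h4) (orderOf_dvd_of_pow_eq_one h5)
      have h8 : Nat.gcd 3 8 = 1 := by norm_num
      rw [h8, Nat.dvd_one, orderOf_eq_one_iff] at h7
      exact h7
    exact (QuotientGroup.eq_one_iff _).mp h6
  obtain ⟨h1, h2, h3, h4⟩ := rho_facts
  set r1 : ↥M0 := ⟨el t e (kM ρ1), rho_mem t e M0 hM2 ρ1 h1⟩ with hr1
  set r2 : ↥M0 := ⟨el t e (kM ρ2), rho_mem t e M0 hM2 ρ2 h2⟩ with hr2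
  have hkpow : ∀ ρ : Perm (Fin 4), ρ ^ 3 = 1 → (kM ρ) ^ 3 = 1 := by
    intro ρ h
    show ((1 : Multiplicative (ZMod 2)) ^ 3, ρ ^ 3) = 1
    rw [h, one_pow]; rfl
  have hr1N : r1 ∈ N := by
    apply hmem
    apply Subtype.ext
    show (el t e (kM ρ1)) ^ 3 = 1
    rw [← el_pow, hkpow ρ1 h1, el_one]
  have hr2N : r2 ∈ N := by
    apply hmem
    apply Subtype.ext
    show (el t e (kM ρ2)) ^ 3 = 1
    rw [← el_pow, hkpow ρ2 h2, el_one]
  have hprod : r1 * r2 ∈ N := N.mul_mem hr1N hr2N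
  have hkmul : kM ρ1 * kM ρ2 = kM (ρ1 * ρ2) := by
    show ((1 : Multiplicative (ZMod 2)) * 1, ρ1 * ρ2) = (1, ρ1 * ρ2)
    rw [one_mul]
  have ho : orderOf (r1 * r2) = 2 := by
    apply orderOf_eq_prime
    · apply Subtype.ext
      show (el t e (kM ρ1) * el t e (kM ρ2)) ^ 2 = 1
      rw [← el_mul, ← el_pow, hkmul, sq]
      have : kM (ρ1 * ρ2) * kM (ρ1 * ρ2) = 1 := by
        show ((1 : Multiplicative (ZMod 2)) * 1, ρ1 * ρ2 * (ρ1 * ρ2)) = 1
        rw [h3, one_mul]; rfl
      rw [this, el_one]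
    · intro h
      have h5 := congrArg Subtype.val h
      have h6 : el t e (kM ρ1) * el t e (kM ρ2) = 1 := h5
      rw [← el_mul, hkmul, el_eq_one_iff] at h6
      apply h4
      have := congrArg Prod.snd h6
      exact this
  have hdvd : 2 ∣ Nat.card N := by
    rw [← ho]
    exact Subgroup.orderOf_dvd_natCard _ hprod
  exact Cfsg.Agent.Helper5.not_dvd_card_pPrimeCore (G := ↥M0) 2 hdvd

omit hMn in
include e hM2 in
/-- the case `S₄` -/
theorem case_S4 (hB : Nonempty (↥M0 ≃* Equiv.Perm (Fin 4))) :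
    Subgroup.centralizer ({t} : Set G) = ⊤ ∧ Group.IsSolvable G := by
  obtain ⟨ψ⟩ := hB
  have h24 : Nat.card M0 = 24 := by
    rw [Nat.card_congr ψ.toEquiv, Nat.card_eq_fintype_card, Fintype.card_perm, Fintype.card_fin]
    rfl
  have h48 : Nat.card G = 48 := by rw [card_G_eq M0 hM2, h24]
  constructor
  · apply Subgroup.eq_top_of_card_eq
    rw [card_cent t e, h48]
  · exact Cfsg.Agent.S0144.result 2 3 4 1 Nat.prime_two Nat.prime_three (by rw [h48]; norm_num)

end cases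

end Cfsg.Agent.Helper8.CZS
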