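import Mathlib
import Cfsg.Agent.Helper8.CZSF

/-!
# Groups with a 2-central involution whose centralizer is `Z₂ × S₄`: coset actions, the case `S₅`
(helper8; for S3222)
-/

set_option autoImplicit false

namespace Cfsg.Agent.Helper8.CZS

open Equiv
open scoped Pointwise

variable {G : Type*} [Group G]

/-- a subgroup with trivial core gives a faithful action on its cosets -/
theorem toPermHom_injective (H : Subgroup G) (hH : H.normalCore = ⊥) :
    Function.Injective (MulAction.toPermHom G (G ⧸ H)) := by
  rw [← MonoidHom.ker_eq_bot_iff, ← Subgroup.normalCore_eq_ker, hH]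

theorem card_le_factorial_index [Finite G] (H : Subgroup G) (hH : H.normalCore = ⊥) :
    Nat.card G ≤ (H.index).factorial := by
  have h1 := Nat.card_le_card_of_injective _ (toPermHom_injective H hH)
  rw [Nat.card_perm] at h1
  exact h1

section cases

variable [Finite G] (t : G) (ht : orderOf t = 2)
  (e : Subgroup.centralizer ({t} : Set G) ≃* MM)
  (M0 : Subgroup G) [hMn : M0.Normal] (hM2 : M0.index = 2)

omit hMn in
include ht e hM2 in
/-- if the small normal subgroups of `M0` are trivial, the core of the centralizer of `t` is
trivial -/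
theorem core_eq_bot (h48 : Nat.card G ≠ 48)
    (hsmall : ∀ K : Subgroup ↥M0, K.Normal → Nat.card K ≤ 48 → K = ⊥) :
    (Subgroup.centralizer ({t} : Set G)).normalCore = ⊥ := by
  set N := (Subgroup.centralizer ({t} : Set G)).normalCore with hN
  apply normal_eq_bot t ht e M0 hM2 h48 N
  have h1 : N.subgroupOf M0 = ⊥ := by
    apply hsmall _ inferInstance
    have h2 : Nat.card (N.subgroupOf M0) ≤ Nat.card N := by
      rw [← Subgroup.inf_subgroupOf_right,
        Nat.card_congr (Subgroup.subgroupOfEquivOfLe (inf_le_right : N ⊓ M0 ≤ M0)).toEquiv]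
      exact Subgroup.card_le_of_le inf_le_left
    have h3 : Nat.card N ≤ 48 := by
      rw [← card_cent t e]
      exact Subgroup.card_le_of_le (Subgroup.normalCore_le _)
    omega
  rw [Subgroup.subgroupOf_eq_bot] at h1
  exact disjoint_iff.mp h1

include e in
theorem index_cent : (Subgroup.centralizer ({t} : Set G)).index * 48 = Nat.card G := by
  rw [← card_cent t e, mul_comm]
  exact Subgroup.card_mul_index _

include ht e hM2 in
/-- the case `S₅` is impossible -/
theorem case_S5 (hC : Nonempty (↥M0 ≃* Equiv.Perm (Fin 5))) : False := by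
  obtain ⟨ψ⟩ := hC
  have h120 : Nat.card M0 = 120 := by
    rw [Nat.card_congr ψ.toEquiv, Nat.card_eq_fintype_card, Fintype.card_perm, Fintype.card_fin]
    rfl
  have h240 : Nat.card G = 240 := by rw [card_G_eq M0 hM2, h120]
  have hcore : (Subgroup.centralizer ({t} : Set G)).normalCore = ⊥ := by
    apply core_eq_bot t ht e M0 hM2 (by rw [h240]; norm_num)
    intro K hK hK48
    by_contra hne
    have hKn : (K.map ψ.toMonoidHom).Normal :=
      Subgroup.Normal.map hK _ ψ.surjective
    have hnt : Nontrivial (K.map ψ.toMonoidHom) := by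
      rw [Subgroup.nontrivial_iff_ne_bot]
      intro h
      apply hne
      rw [Subgroup.map_eq_bot_iff_of_injective _ ψ.injective] at h
      exact h
    have h1 := Equiv.Perm.alternatingGroup_le_of_normal (α := Fin 5) (by simp) hnt
    have h2 : Nat.card (alternatingGroup (Fin 5)) = 60 := by
      rw [Nat.card_eq_fintype_card]; decide
    have h3 := Subgroup.card_le_of_le h1
    rw [h2, Subgroup.card_map_of_injective ψ.injective] at h3
    omega
  have h5 := card_le_factorial_index _ hcore
  have h6 := index_cent t e
  rw [h240] at h5 h6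
  have h7 : (Subgroup.centralizer ({t} : Set G)).index = 5 := by omega
  rw [h7] at h5
  norm_num [Nat.factorial] at h5

end cases

end Cfsg.Agent.Helper8.CZS
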