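import Mathlib
import Cfsg.Agent.Helper8.CZSG
import Cfsg.Agent.S0249
import Cfsg.Agent.S0255

/-!
# Groups with a 2-central involution whose centralizer is `Z₂ × S₄`: the case `SL₃(2)`
(helper8; for S3222)
-/

set_option autoImplicit false

namespace Cfsg.Agent.Helper8.CZS

open Equiv
open scoped Pointwise

/-- `SL₃(2)` is simple -/
theorem isSimpleGroup_SL32 : IsSimpleGroup (Matrix.SpecialLinearGroup (Fin 3) (ZMod 2)) := by
  have e2 : Matrix.ProjectiveSpecialLinearGroup (Fin 3) (ZMod 2) ≃*
      Matrix.SpecialLinearGroup (Fin 3) (ZMod 2) ⧸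
        (⊥ : Subgroup (Matrix.SpecialLinearGroup (Fin 3) (ZMod 2))) :=
    QuotientGroup.quotientMulEquivOfEq Cfsg.Agent.S0255.center_G2
  have e3 : Matrix.SpecialLinearGroup (Fin 3) (ZMod 2) ⧸
        (⊥ : Subgroup (Matrix.SpecialLinearGroup (Fin 3) (ZMod 2))) ≃*
      Matrix.SpecialLinearGroup (Fin 3) (ZMod 2) := QuotientGroup.quotientBot
  have := Cfsg.Agent.S0249.result (F := ZMod 2) 3 le_rfl
  exact (e2.trans e3).symm.isSimpleGroup

section perm

variable {G : Type*} [Group G] [Finite G] {α : Type*} [Fintype α] [DecidableEq α]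

/-- a group of order 336 has no faithful action on seven points in which a point stabilizer is
the centralizer, of order 48, of an involution -/
theorem no_perm7 (h7 : Fintype.card α = 7) (φ : G →* Perm α) (hφ : Function.Injective φ)
    (hG : Nat.card G = 336) (t : G) (ht : orderOf t = 2) (ω0 : α)
    (hstab : ∀ g : G, φ g ω0 = ω0 ↔ g * t = t * g)
    (hC : Nat.card (Subgroup.centralizer ({t} : Set G)) = 48) : False := by
  set τ := φ t with hτ
  have hτo : orderOf τ = 2 := by rw [hτ, orderOf_injective φ hφ, ht]
  have hτ2 : τ * τ = 1 := by rw [← sq, ← hτo, pow_orderOf_eq_one]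
  have hττ : ∀ a, τ (τ a) = a := by
    intro a
    have := congrArg (fun σ : Perm α => σ a) hτ2
    simpa using this
  have hτω : τ ω0 = ω0 := (hstab t).mpr rfl
  obtain ⟨n, hn⟩ := Equiv.Perm.cycleType_prime_order (σ := τ) (by rw [hτo]; exact Nat.prime_two)
  rw [hτo] at hn
  have hsum : τ.cycleType.sum = 2 * (n + 1) := by
    rw [hn, Multiset.sum_replicate, smul_eq_mul, mul_comm]
  have hsupp : τ.support.card ≤ 6 := by
    have h1 : τ.support ⊆ Finset.univ.erase ω0 := by
      intro a ha
      rw [Finset.mem_erase]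
      refine ⟨?_, Finset.mem_univ _⟩
      rintro rfl
      rw [Equiv.Perm.mem_support] at ha
      exact ha hτω
    have h2 := Finset.card_le_card h1
    rw [Finset.card_erase_of_mem (Finset.mem_univ _), Finset.card_univ, h7] at h2
    exact h2
  have hn2 : n ≤ 2 := by rw [← Equiv.Perm.sum_cycleType, hsum] at hsupp; omega
  -- a swap in the range of `φ` is impossible
  have hnoswap : ∀ σ : Perm α, σ.IsSwap → σ ∈ φ.range → False := by
    intro σ hσ hσr
    have : Fact (Nat.Prime 7) := ⟨by norm_num⟩
    obtain ⟨x, hx⟩ := exists_prime_orderOf_dvd_card' (G := G) 7 (by rw [hG]; norm_num)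
    have hxo : orderOf (φ x) = Fintype.card α := by rw [orderOf_injective φ hφ, hx, h7]
    have hcyc : (φ x).IsCycle :=
      Equiv.Perm.isCycle_of_prime_order'' (by rw [h7]; norm_num) hxo
    have hsup : (φ x).support = Finset.univ := by
      apply Finset.eq_univ_of_card
      rw [← hcyc.orderOf, hxo]
    have hcl := Equiv.Perm.closure_prime_cycle_swap (by rw [h7]; norm_num) hcyc hsup hσ
    have htop : φ.range = ⊤ := by
      rw [eq_top_iff, ← hcl, Subgroup.closure_le]
      intro y hy
      rcases hy with rfl | rfl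
      · exact ⟨x, rfl⟩
      · exact hσr
    have hsurj : Function.Surjective φ := MonoidHom.range_eq_top.mp htop
    have hcard : Nat.card G = Nat.card (Perm α) :=
      Nat.card_congr (Equiv.ofBijective φ ⟨hφ, hsurj⟩)
    rw [Nat.card_perm, Nat.card_eq_fintype_card (α := α), h7, hG] at hcard
    norm_num [Nat.factorial] at hcard
  -- when the centralizer of `τ` has order 48, it is the image of the centralizer of `t`
  have hmap : Nat.card (Subgroup.centralizer ({τ} : Set (Perm α))) = 48 →
      ∀ σ : Perm α, σ * τ = τ * σ → ∃ g : G, g * t = t * g ∧ φ g = σ := by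
    intro h48 σ hσ
    have hle : (Subgroup.centralizer ({t} : Set G)).map φ ≤
        Subgroup.centralizer ({τ} : Set (Perm α)) := by
      rintro _ ⟨g, hg, rfl⟩
      rw [Subgroup.mem_centralizer_singleton_iff]
      rw [SetLike.mem_coe, Subgroup.mem_centralizer_singleton_iff] at hg
      rw [hτ, ← map_mul, ← map_mul, hg]
    have heq := Subgroup.eq_of_le_of_card_ge hle
      (by rw [h48, Subgroup.card_map_of_injective hφ, hC])
    have hσm : σ ∈ Subgroup.centralizer ({τ} : Set (Perm α)) := by
      rw [Subgroup.mem_centralizer_singleton_iff]; exact hσ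
    rw [← heq] at hσm
    obtain ⟨g, hg, rfl⟩ := hσm
    rw [SetLike.mem_coe, Subgroup.mem_centralizer_singleton_iff] at hg
    exact ⟨g, hg, rfl⟩
  have hcard := Equiv.Perm.nat_card_centralizer τ
  rw [hsum, h7] at hcard
  -- a swap of `a` and `τ a` commutes with `τ`
  have hswapc : ∀ a : α, swap a (τ a) * τ = τ * swap a (τ a) := by
    intro a
    ext b
    simp only [Equiv.Perm.coe_mul, Function.comp_apply]
    by_cases h1 : b = a
    · subst h1
      rw [swap_apply_left, hττ, swap_apply_right]
    · by_cases h2 : b = τ a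
      · subst h2
        rw [swap_apply_right, hττ, swap_apply_left]
      · have h3 : τ b ≠ a := by
          intro h; apply h2; rw [← h, hττ]
        have h4 : τ b ≠ τ a := by
          intro h; exact h1 (τ.injective h)
        rw [swap_apply_of_ne_of_ne h1 h2, swap_apply_of_ne_of_ne h3 h4]
  interval_cases n
  · -- `τ` is a swap
    apply hnoswap τ _ ⟨t, rfl⟩
    rw [← Equiv.Perm.card_support_eq_two, ← Equiv.Perm.sum_cycleType, hsum]
  · -- two 2-cycles
    have h48 : Nat.card (Subgroup.centralizer ({τ} : Set (Perm α))) = 48 := by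
      rw [hcard, hn]
      simp
      decide
    -- another fixed point
    have hfix : ∃ ω1 : α, ω1 ≠ ω0 ∧ τ ω1 = ω1 := by
      by_contra hcon
      push Not at hcon
      have h1 : Finset.univ.erase ω0 ⊆ τ.support := by
        intro a ha
        rw [Finset.mem_erase] at ha
        rw [Equiv.Perm.mem_support]
        exact hcon a ha.1
      have h2 := Finset.card_le_card h1
      rw [Finset.card_erase_of_mem (Finset.mem_univ _), Finset.card_univ, h7,
        ← Equiv.Perm.sum_cycleType, hsum] at h2
      omega
    obtain ⟨ω1, hne, hω1⟩ := hfix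
    have hcomm : swap ω0 ω1 * τ = τ * swap ω0 ω1 := by
      ext b
      simp only [Equiv.Perm.coe_mul, Function.comp_apply]
      by_cases h1 : b = ω0
      · subst h1
        rw [hτω, swap_apply_left, hω1]
      · by_cases h2 : b = ω1
        · subst h2
          rw [hω1, swap_apply_right, hτω]
        · have h3 : τ b ≠ ω0 := by
            intro h; apply h1; rw [← hττ b, h, hτω]
          have h4 : τ b ≠ ω1 := by
            intro h; apply h2; rw [← hττ b, h, hω1]
          rw [swap_apply_of_ne_of_ne h1 h2, swap_apply_of_ne_of_ne h3 h4]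
    obtain ⟨g, hg, hgφ⟩ := hmap h48 _ hcomm
    have h5 := (hstab g).mpr hg
    rw [hgφ, swap_apply_left] at h5
    exact hne h5
  · -- three 2-cycles
    have h48 : Nat.card (Subgroup.centralizer ({τ} : Set (Perm α))) = 48 := by
      rw [hcard, hn]
      simp
      decide
    have hmov : ∃ a : α, τ a ≠ a := by
      by_contra hcon
      push Not at hcon
      have : τ = 1 := by ext a; simp [hcon a]
      rw [this, orderOf_one] at hτo
      omega
    obtain ⟨a, ha⟩ := hmov
    obtain ⟨g, hg, hgφ⟩ := hmap h48 _ (hswapc a)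
    apply hnoswap (swap a (τ a)) ⟨a, τ a, fun h => ha h.symm, rfl⟩ ⟨g, hgφ⟩

end perm

section cases

variable {G : Type*} [Group G] [Finite G] (t : G) (ht : orderOf t = 2)
  (e : Subgroup.centralizer ({t} : Set G) ≃* MM)
  (M0 : Subgroup G) (hM2 : M0.index = 2)

include ht e hM2 in
/-- the case `SL₃(2)` is impossible -/
theorem case_SL32 (hC : Nonempty (↥M0 ≃* Matrix.SpecialLinearGroup (Fin 3) (ZMod 2))) :
    False := by
  classical
  obtain ⟨ψ⟩ := hC
  have h168 : Nat.card M0 = 168 := by
    rw [Nat.card_congr ψ.toEquiv]; exact Cfsg.Agent.S0255.card_G2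
  have h336 : Nat.card G = 336 := by rw [card_G_eq M0 hM2, h168]
  have hsimple : IsSimpleGroup ↥M0 := by
    have := isSimpleGroup_SL32
    exact ψ.isSimpleGroup
  have hcore : (Subgroup.centralizer ({t} : Set G)).normalCore = ⊥ := by
    apply core_eq_bot t ht e M0 hM2 (by rw [h336]; norm_num)
    intro K hK hK48
    rcases hK.eq_bot_or_eq_top with h | h
    · exact h
    · rw [h, Subgroup.card_top, h168] at hK48; omega
  have h6 := index_cent t e
  rw [h336] at h6
  have h7 : (Subgroup.centralizer ({t} : Set G)).index = 7 := by omega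
  have : Fintype (G ⧸ Subgroup.centralizer ({t} : Set G)) := Fintype.ofFinite _
  apply no_perm7 (α := G ⧸ Subgroup.centralizer ({t} : Set G))
    (by rw [← Nat.card_eq_fintype_card]; exact h7)
    (MulAction.toPermHom G (G ⧸ Subgroup.centralizer ({t} : Set G)))
    (toPermHom_injective _ hcore) h336 t ht
    (((1 : G) : G ⧸ Subgroup.centralizer ({t} : Set G))) _ (card_cent t e)
  intro g
  show g • ((1 : G) : G ⧸ Subgroup.centralizer ({t} : Set G)) = ((1 : G) : G ⧸ _) ↔ _
  rw [← MulAction.mem_stabilizer_iff, MulAction.stabilizer_quotient,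
    Subgroup.mem_centralizer_singleton_iff]

end cases

end Cfsg.Agent.Helper8.CZS
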