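import Mathlib

/-!
# Automorphisms of `A₆` fixing an element of order three (helper8; for S3222)

An automorphism of the alternating group of degree six which fixes an element of order three
maps 3-cycles to 3-cycles, and so maps a point stabilizer onto a point stabilizer.
-/

set_option autoImplicit false

namespace Cfsg.Agent.Helper8.CZS

open Equiv

theorem card_K1 : (Finset.univ.filter (fun g : alternatingGroup (Fin 6) =>
    (g : Perm (Fin 6)).cycleType = {3})).card = 40 := by
  rw [AlternatingGroup.card_of_cycleType]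
  decide

theorem card_K2 : (Finset.univ.filter (fun g : alternatingGroup (Fin 6) =>
    (g : Perm (Fin 6)).cycleType = {3, 3})).card = 40 := by
  rw [AlternatingGroup.card_of_cycleType]
  decide

/-- the cycle types of the elements of order three of `S₆` -/
theorem cycleType_of_orderOf_three (g : Perm (Fin 6)) (h : orderOf g = 3) :
    g.cycleType = {3} ∨ g.cycleType = {3, 3} := by
  obtain ⟨n, hn⟩ := Equiv.Perm.cycleType_prime_order (σ := g) (by rw [h]; exact Nat.prime_three)
  rw [h] at hn
  have h1 : g.cycleType.sum ≤ 6 := by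
    rw [Equiv.Perm.sum_cycleType]
    exact (Finset.card_le_univ _).trans (by simp)
  rw [hn, Multiset.sum_replicate, smul_eq_mul] at h1
  have h2 : n = 0 ∨ n = 1 := by omega
  rcases h2 with rfl | rfl
  · left; rw [hn]; rfl
  · right; rw [hn]; rfl

/-- the cycle type of the elements of order five of `S₆` -/
theorem cycleType_of_orderOf_five' (g : Perm (Fin 6)) (h : orderOf g = 5) :
    g.cycleType = {5} := by
  obtain ⟨n, hn⟩ := Equiv.Perm.cycleType_prime_order (σ := g) (by rw [h]; norm_num)
  rw [h] at hn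
  have h1 : g.cycleType.sum ≤ 6 := by
    rw [Equiv.Perm.sum_cycleType]
    exact (Finset.card_le_univ _).trans (by simp)
  rw [hn, Multiset.sum_replicate, smul_eq_mul] at h1
  have h2 : n = 0 := by omega
  subst h2
  rw [hn]; rfl

/-- an automorphism of `A₆` fixing an element of order three preserves the 3-cycles -/
theorem threeCycle_map (α : alternatingGroup (Fin 6) ≃* alternatingGroup (Fin 6))
    (r : alternatingGroup (Fin 6)) (hr : orderOf r = 3) (hαr : α r = r)
    (x : alternatingGroup (Fin 6)) (hx : (x : Perm (Fin 6)).IsThreeCycle) :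
    (α x : Perm (Fin 6)).IsThreeCycle := by
  by_contra hcon
  set K1 := Finset.univ.filter (fun g : alternatingGroup (Fin 6) =>
    (g : Perm (Fin 6)).cycleType = {3}) with hK1
  set K2 := Finset.univ.filter (fun g : alternatingGroup (Fin 6) =>
    (g : Perm (Fin 6)).cycleType = {3, 3}) with hK2
  have hord : ∀ y : alternatingGroup (Fin 6), orderOf y = 3 → y ∈ K1 ∨ y ∈ K2 := by
    intro y hy
    have h1 : orderOf (y : Perm (Fin 6)) = 3 := by rw [Subgroup.orderOf_coe, hy]
    rcases cycleType_of_orderOf_three _ h1 with h | h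
    · left; rw [hK1, Finset.mem_filter]; exact ⟨Finset.mem_univ _, h⟩
    · right; rw [hK2, Finset.mem_filter]; exact ⟨Finset.mem_univ _, h⟩
  have hdisj : ∀ y, y ∈ K1 → y ∈ K2 → False := by
    intro y h1 h2
    rw [hK1, Finset.mem_filter] at h1
    rw [hK2, Finset.mem_filter] at h2
    rw [h1.2] at h2
    have h3 : ¬ (({3} : Multiset ℕ) = {3, 3}) := by decide
    exact h3 h2.2
  have hx3 : orderOf x = 3 := by
    rw [← Subgroup.orderOf_coe]; exact hx.orderOf
  have hαx : α x ∈ K2 := by
    rcases hord (α x) (by rw [α.orderOf_eq, hx3]) with h | h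
    · exfalso
      apply hcon
      rw [hK1, Finset.mem_filter] at h
      exact h.2
    · exact h
  -- `α` maps `K1` into `K2`
  have hmaps : ∀ y ∈ K1, α y ∈ K2 := by
    intro y hy
    rw [hK1, Finset.mem_filter] at hy
    obtain ⟨g, hg⟩ := isConj_iff.mp
      (alternatingGroup.isThreeCycle_isConj (α := Fin 6) (by simp) hx hy.2)
    rw [hK2, Finset.mem_filter] at hαx ⊢
    refine ⟨Finset.mem_univ _, ?_⟩
    rw [← hg, map_mul, map_mul, map_inv]
    rw [Subgroup.coe_mul, Subgroup.coe_mul, Subgroup.coe_inv, Equiv.Perm.cycleType_conj]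
    exact hαx.2
  have himg : K1.image α = K2 := by
    apply Finset.eq_of_subset_of_card_le
    · intro y hy
      rw [Finset.mem_image] at hy
      obtain ⟨y', hy', rfl⟩ := hy
      exact hmaps y' hy'
    · rw [Finset.card_image_of_injective _ α.injective, hK1, hK2, card_K1, card_K2]
  rcases hord r hr with h | h
  · have := hmaps r h
    rw [hαr] at this
    exact hdisj r h this
  · have h' := h
    rw [← himg, Finset.mem_image] at h'
    obtain ⟨y, hy, hyr⟩ := h'
    have : y = r := by
      apply α.injective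
      rw [hyr, hαr]
    rw [this] at hy
    exact hdisj r hy h

/-- a subgroup of order 60 of `S₆` containing a 3-cycle fixes a point -/
theorem fixes_point (L : Subgroup (Perm (Fin 6))) (hL : Nat.card L = 60) (x : Perm (Fin 6))
    (hx : x ∈ L) (hx3 : x.IsThreeCycle) : ∃ j : Fin 6, ∀ g ∈ L, g j = j := by
  by_contra hcon
  push Not at hcon
  have : Fact (Nat.Prime 5) := ⟨by norm_num⟩
  have : Finite L := Nat.finite_of_card_ne_zero (by rw [hL]; norm_num)
  obtain ⟨y, hy⟩ := exists_prime_orderOf_dvd_card' (G := L) 5 (by rw [hL]; norm_num)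
  have hy5 : orderOf (y : Perm (Fin 6)) = 5 := by rw [Subgroup.orderOf_coe, hy]
  have hct := cycleType_of_orderOf_five' _ hy5
  have hcyc : (y : Perm (Fin 6)).IsCycle := by
    rw [← Equiv.Perm.card_cycleType_eq_one, hct]; rfl
  have hsupp : (y : Perm (Fin 6)).support.card = 5 := by
    rw [← Equiv.Perm.sum_cycleType, hct]; rfl
  -- the fixed point of `y`
  have hcompl : ((y : Perm (Fin 6)).support)ᶜ.card = 1 := by
    rw [Finset.card_compl, hsupp]; rfl
  obtain ⟨j, hj⟩ := Finset.card_eq_one.mp hcompl
  have hjfix : ∀ a : Fin 6, (y : Perm (Fin 6)) a = a ↔ a = j := by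
    intro a
    rw [← Equiv.Perm.notMem_support, ← Finset.mem_compl, hj, Finset.mem_singleton]
  obtain ⟨g0, hg0, hg0j⟩ := hcon j
  -- transitivity
  have htrans : ∀ a : Fin 6, ∃ g ∈ L, g j = a := by
    intro a
    by_cases ha : a = j
    · exact ⟨1, L.one_mem, by rw [ha]; rfl⟩
    · have h1 : (y : Perm (Fin 6)) (g0 j) ≠ g0 j := fun h => hg0j ((hjfix _).mp h)
      have h2 : (y : Perm (Fin 6)) a ≠ a := fun h => ha ((hjfix _).mp h)
      obtain ⟨i, hi⟩ := hcyc.exists_pow_eq h1 h2
      exact ⟨(y : Perm (Fin 6)) ^ i * g0, L.mul_mem (L.pow_mem y.2 i) hg0, hi⟩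
  have hpre : MulAction.IsPretransitive L (Fin 6) := by
    refine ⟨fun a b => ?_⟩
    obtain ⟨g1, hg1, hg1a⟩ := htrans a
    obtain ⟨g2, hg2, hg2b⟩ := htrans b
    refine ⟨⟨g2 * g1⁻¹, L.mul_mem hg2 (L.inv_mem hg1)⟩, ?_⟩
    show (g2 * g1⁻¹) a = b
    have h1 : g1⁻¹ a = j := by rw [Equiv.Perm.inv_eq_iff_eq, hg1a]
    rw [Equiv.Perm.mul_apply, h1, hg2b]
  -- a fixed point of `x`
  have hxfix : ∃ a : Fin 6, x a = a := by
    by_contra h
    push Not at h
    have h1 : x.support = Finset.univ := by
      ext a; simp [h a]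
    have h2 := hx3.card_support
    rw [h1] at h2
    simp at h2
  obtain ⟨a, ha⟩ := hxfix
  have hidx := MulAction.index_stabilizer_of_transitive L a
  rw [Nat.card_eq_fintype_card, Fintype.card_fin] at hidx
  have hcard := Subgroup.card_mul_index (MulAction.stabilizer L a)
  rw [hidx, hL] at hcard
  have hmem : (⟨x, hx⟩ : L) ∈ MulAction.stabilizer L a := by
    rw [MulAction.mem_stabilizer_iff]
    exact ha
  have hdvd := Subgroup.orderOf_dvd_natCard _ hmem
  have ho : orderOf (⟨x, hx⟩ : L) = 3 := by
    rw [← Subgroup.orderOf_coe]; exact hx3.orderOf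
  rw [ho] at hdvd
  omega

theorem card_A6 : Nat.card (alternatingGroup (Fin 6)) = 360 := by
  rw [nat_card_alternatingGroup, Nat.card_eq_fintype_card, Fintype.card_fin]
  decide

theorem card_stab0 :
    Nat.card (MulAction.stabilizer (alternatingGroup (Fin 6)) (0 : Fin 6)) = 60 := by
  have := alternatingGroup.isPretransitive_of_three_le_card (Fin 6) (by simp)
  have hidx := MulAction.index_stabilizer_of_transitive (alternatingGroup (Fin 6)) (0 : Fin 6)
  have hcard := Subgroup.card_mul_index
    (MulAction.stabilizer (alternatingGroup (Fin 6)) (0 : Fin 6))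
  rw [hidx, card_A6, Nat.card_eq_fintype_card (α := Fin 6), Fintype.card_fin] at hcard
  omega

/-- an automorphism of `A₆` fixing an element of order three maps the stabilizer of `0` into
the stabilizer of some point -/
theorem exists_point (α : alternatingGroup (Fin 6) ≃* alternatingGroup (Fin 6))
    (r : alternatingGroup (Fin 6)) (hr : orderOf r = 3) (hαr : α r = r) :
    ∃ j : Fin 6, ∀ g : alternatingGroup (Fin 6), (g : Perm (Fin 6)) 0 = 0 →
      (α g : Perm (Fin 6)) j = j := by
  set S0 := MulAction.stabilizer (alternatingGroup (Fin 6)) (0 : Fin 6) with hS0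
  set L := (S0.map α.toMonoidHom).map (alternatingGroup (Fin 6)).subtype with hLdef
  have hL : Nat.card L = 60 := by
    rw [hLdef, Subgroup.card_map_of_injective Subtype.val_injective,
      Subgroup.card_map_of_injective α.injective, card_stab0]
  have hc3 : (swap (1 : Fin 6) 2 * swap 1 3).IsThreeCycle :=
    Equiv.Perm.isThreeCycle_swap_mul_swap_same (by decide) (by decide) (by decide)
  set c : alternatingGroup (Fin 6) := ⟨swap 1 2 * swap 1 3, hc3.mem_alternatingGroup⟩ with hc
  have hcS : c ∈ S0 := by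
    rw [hS0, MulAction.mem_stabilizer_iff]
    show (swap (1 : Fin 6) 2 * swap 1 3 : Perm (Fin 6)) 0 = 0
    decide
  have hcL : (α c : Perm (Fin 6)) ∈ L := ⟨α c, ⟨c, hcS, rfl⟩, rfl⟩
  obtain ⟨j, hj⟩ := fixes_point L hL _ hcL (threeCycle_map α r hr hαr c hc3)
  refine ⟨j, fun g hg => hj _ ⟨α g, ⟨g, ?_, rfl⟩, rfl⟩⟩
  rw [SetLike.mem_coe, hS0, MulAction.mem_stabilizer_iff]
  exact hg

end Cfsg.Agent.Helper8.CZS
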