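import Mathlib
import Cfsg.Agent.Helper8.CZSG
import Cfsg.Agent.Helper8.CZSI

/-!
# Groups with a 2-central involution whose centralizer is `Z₂ × S₄`: the case `A₆`
(helper8; for S3222)
-/

set_option autoImplicit false

namespace Cfsg.Agent.Helper8.CZS

open Equiv
open scoped Pointwise

section generic

variable {G : Type*} [Group G] [Finite G]

/-- a group of order 720 with a core-free subgroup of order at least 120 is `S₆` -/
theorem equiv_perm_of_core_free (hG : Nat.card G = 720) (H : Subgroup G)
    (hcore : H.normalCore = ⊥) (hH : 120 ≤ Nat.card H) : Nonempty (G ≃* Perm (Fin 6)) := by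
  classical
  have h1 := card_le_factorial_index H hcore
  have h2 := H.card_mul_index
  rw [hG] at h1 h2
  have h3 : H.index ≤ 6 := by
    by_contra hcon
    push Not at hcon
    have : 120 * 7 ≤ Nat.card H * H.index := Nat.mul_le_mul hH hcon
    omega
  have h4 : H.index = 6 := by
    by_contra hcon
    have h5 : H.index ≤ 5 := by omega
    have h6 : (H.index).factorial ≤ (5).factorial := Nat.factorial_le h5
    have h7 : (5).factorial = 120 := by decide
    omega
  have hinj := toPermHom_injective H hcore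
  have hcardP : Nat.card (Perm (G ⧸ H)) = 720 := by
    rw [Nat.card_perm]
    show (H.index).factorial = 720
    rw [h4]; decide
  have hbij : Function.Bijective (MulAction.toPermHom G (G ⧸ H)) := by
    apply Function.Injective.bijective_of_nat_card_le hinj
    rw [hcardP, hG]
  have e1 : G ≃* Perm (G ⧸ H) := MulEquiv.ofBijective _ hbij
  have e2 : (G ⧸ H) ≃ Fin 6 := Finite.equivFinOfCardEq h4
  exact ⟨e1.trans e2.permCongrHom⟩

omit [Finite G] in
theorem conj_mem_of_mem_normalizer_aux (L0 : Subgroup G) [Finite L0] (s : G)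
    (h : ∀ x ∈ L0, s * x * s⁻¹ ∈ L0) : s ∈ Subgroup.normalizer (L0 : Set G) := by
  rw [Subgroup.mem_normalizer_iff_map_conj_eq]
  apply Subgroup.eq_of_le_of_card_ge
  · rintro _ ⟨x, hx, rfl⟩
    exact h x hx
  · rw [Subgroup.card_map_of_injective (MulAut.conj s).injective]

/-- the normalizer of a subgroup of order 60 which contains an element outside is of order at
least 120 -/
theorem card_normalizer_ge (L0 : Subgroup G) (hL0 : Nat.card L0 = 60) (s : G)
    (hs : s ∈ Subgroup.normalizer (L0 : Set G)) (hsL : s ∉ L0) :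
    120 ≤ Nat.card (Subgroup.normalizer (L0 : Set G)) := by
  have hle : L0 ≤ Subgroup.normalizer (L0 : Set G) := Subgroup.le_normalizer
  have hdvd := Subgroup.card_dvd_of_le hle
  rw [hL0] at hdvd
  obtain ⟨k, hk⟩ := hdvd
  have hpos : 0 < Nat.card (Subgroup.normalizer (L0 : Set G)) := Nat.card_pos
  have hk1 : k ≠ 1 := by
    rintro rfl
    apply hsL
    have := Subgroup.eq_of_le_of_card_ge hle (by rw [hk, hL0])
    rw [this]
    exact hs
  have hk0 : k ≠ 0 := by
    rintro rfl
    omega
  have : 2 ≤ k := by omega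
  omega

end generic

section cases

variable {G : Type*} [Group G] [Finite G] (t : G) (ht : orderOf t = 2)
  (e : Subgroup.centralizer ({t} : Set G) ≃* MM)
  (M0 : Subgroup G) [hMn : M0.Normal] (hM2 : M0.index = 2) (htM : t ∉ M0)

include ht e hM2 htM in
/-- the case `A₆` -/
theorem case_A6 (hC : Nonempty (↥M0 ≃* alternatingGroup (Fin 6))) :
    Nonempty (G ≃* Equiv.Perm (Fin 6)) := by
  obtain ⟨ψ⟩ := hC
  have h360 : Nat.card M0 = 360 := by rw [Nat.card_congr ψ.toEquiv, card_A6]
  have h720 : Nat.card G = 720 := by rw [card_G_eq M0 hM2, h360]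
  have hsimple : IsSimpleGroup ↥M0 := by
    have := alternatingGroup.isSimpleGroup (α := Fin 6) (by simp)
    exact ψ.isSimpleGroup
  -- the element of order three
  obtain ⟨h1, -, -, -⟩ := rho_facts
  set ρ : G := el t e (kM ρ1) with hρ
  have hρM : ρ ∈ M0 := rho_mem t e M0 hM2 ρ1 h1
  have hρo : orderOf ρ = 3 := by
    rw [hρ, orderOf_el]
    have : Fact (Nat.Prime 3) := ⟨Nat.prime_three⟩
    apply orderOf_eq_prime
    · decide
    · decide
  have hρt : t * ρ * t⁻¹ = ρ := by
    rw [hρ, ← el_comm t e]; group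
  -- the automorphism induced by `t`
  set ct : ↥M0 ≃* ↥M0 := MulAut.conjNormal t with hct
  have hct_apply : ∀ x : ↥M0, ((ct x : ↥M0) : G) = t * x * t⁻¹ := fun x =>
    MulAut.conjNormal_apply t x
  set α : alternatingGroup (Fin 6) ≃* alternatingGroup (Fin 6) :=
    (ψ.symm.trans ct).trans ψ with hα
  have hα_apply : ∀ x : ↥M0, α (ψ x) = ψ (ct x) := by
    intro x
    show ψ (ct (ψ.symm (ψ x))) = ψ (ct x)
    rw [ψ.symm_apply_apply]
  set r : alternatingGroup (Fin 6) := ψ ⟨ρ, hρM⟩ with hr
  have hro : orderOf r = 3 := by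
    rw [hr, ψ.orderOf_eq, ← Subgroup.orderOf_coe]
    exact hρo
  have hαr : α r = r := by
    rw [hr, hα_apply]
    congr 1
    apply Subtype.ext
    rw [hct_apply]
    exact hρt
  obtain ⟨j, hj⟩ := exists_point α r hro hαr
  -- transitivity
  have := alternatingGroup.isPretransitive_of_three_le_card (Fin 6) (by simp)
  obtain ⟨a, ha⟩ := MulAction.exists_smul_eq (alternatingGroup (Fin 6)) j (0 : Fin 6)
  have ha' : (a : Perm (Fin 6)) j = 0 := ha
  set g : ↥M0 := ψ.symm a with hg
  set s : G := (g : G) * t with hs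
  -- the subgroup of index six
  set L0 : Subgroup G := ((MulAction.stabilizer (alternatingGroup (Fin 6))
    (0 : Fin 6)).comap ψ.toMonoidHom).map M0.subtype with hL0
  have hL0M : L0 ≤ M0 := by
    rintro _ ⟨x, -, rfl⟩
    exact x.2
  have hmemL0 : ∀ x : ↥M0, (x : G) ∈ L0 ↔ (ψ x : Perm (Fin 6)) 0 = 0 := by
    intro x
    constructor
    · rintro ⟨y, hy, hyx⟩
      have : y = x := Subtype.ext hyx
      rw [← this]
      exact hy
    · intro h
      exact ⟨x, h, rfl⟩
  have hL0card : Nat.card L0 = 60 := by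
    rw [hL0, Subgroup.card_map_of_injective Subtype.val_injective,
      Subgroup.comap_equiv_eq_map_symm', Subgroup.card_map_of_injective ψ.symm.injective,
      card_stab0]
  have hsN : s ∈ Subgroup.normalizer (L0 : Set G) := by
    apply conj_mem_of_mem_normalizer_aux
    intro x hx
    have hxM : x ∈ M0 := hL0M hx
    have hx0 : (ψ ⟨x, hxM⟩ : Perm (Fin 6)) 0 = 0 := (hmemL0 ⟨x, hxM⟩).mp hx
    have h2 : s * x * s⁻¹ = ((g * ct ⟨x, hxM⟩ * g⁻¹ : ↥M0) : G) := by
      rw [Subgroup.coe_mul, Subgroup.coe_mul, Subgroup.coe_inv, hct_apply, hs]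
      group
    rw [h2, hmemL0, map_mul, map_mul, map_inv, ← hα_apply, hg, ψ.apply_symm_apply]
    rw [Subgroup.coe_mul, Subgroup.coe_mul, Subgroup.coe_inv, Equiv.Perm.mul_apply,
      Equiv.Perm.mul_apply]
    have h3 : (a : Perm (Fin 6))⁻¹ 0 = j := by
      rw [Equiv.Perm.inv_eq_iff_eq, ha']
    rw [h3, hj _ hx0, ha']
  have hsL : s ∉ L0 := by
    intro h
    have h1 : s ∈ M0 := hL0M h
    rw [hs] at h1
    apply htM
    have := M0.mul_mem (M0.inv_mem g.2) h1
    rwa [inv_mul_cancel_left] at this
  have h120 := card_normalizer_ge L0 hL0card s hsN hsL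
  -- the core is trivial
  set H := Subgroup.normalizer (L0 : Set G) with hH
  have hcore : H.normalCore = ⊥ := by
    apply normal_eq_bot t ht e M0 hM2 (by rw [h720]; norm_num)
    have hN : (H.normalCore.subgroupOf M0).Normal := inferInstance
    rcases hN.eq_bot_or_eq_top with h | h
    · rw [Subgroup.subgroupOf_eq_bot] at h
      exact disjoint_iff.mp h
    · exfalso
      rw [Subgroup.subgroupOf_eq_top] at h
      have h2 : M0 ≤ Subgroup.normalizer (L0 : Set G) := h.trans (Subgroup.normalCore_le _)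
      have h3 : (L0.subgroupOf M0).Normal :=
        (Subgroup.normal_subgroupOf_iff_le_normalizer hL0M).mpr h2
      have h4 : Nat.card (L0.subgroupOf M0) = 60 := by
        rw [Nat.card_congr (Subgroup.subgroupOfEquivOfLe hL0M).toEquiv, hL0card]
      rcases h3.eq_bot_or_eq_top with h5 | h5
      · rw [h5, Subgroup.card_bot] at h4; omega
      · rw [h5, Subgroup.card_top, h360] at h4; omega
  exact equiv_perm_of_core_free h720 H hcore h120

end cases

end Cfsg.Agent.Helper8.CZS
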