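import Mathlib
import Cfsg.Agent.Helper8.ExcSpE

set_option autoImplicit false
set_option linter.unusedSectionVars false

/-! The outer automorphism group of `PSp_4(2^f)` is cyclic of order `2f` (helper8). -/

namespace Cfsg.Agent.Helper8.ExcSp

open Matrix Cfsg Cfsg.Agent.Helper7.Symp Cfsg.Agent.Helper8.SpRoot Cfsg.Agent.Helper8.AutSp

variable {F : Type*} [Field F]

/-- the map from the automorphisms of `Sp_4` to the outer automorphisms of `PSp_4` -/
noncomputable def outMap (F : Type*) [Field F] :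
    MulAut (symplecticGroup (Fin 2) F) →* Cfsg.Out (PSp 2 F) :=
  (QuotientGroup.mk' (Cfsg.Inn (PSp 2 F))).comp pspLift

theorem outMap_apply (β : MulAut (symplecticGroup (Fin 2) F)) :
    outMap F β = (QuotientGroup.mk (pspLift β) : Cfsg.Out (PSp 2 F)) := rfl

theorem outMap_surjective [CharP F 2] : Function.Surjective (outMap F) := by
  intro x
  induction x using QuotientGroup.induction_on with
  | H β =>
    obtain ⟨β', hβ'⟩ := exists_lift_aut (F := F) (le_of_lt (by norm_num : 1 < 2)) β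
    refine ⟨β', ?_⟩
    rw [outMap_apply]
    congr 1
    ext x
    obtain ⟨s, rfl⟩ := pr_surjective x
    rw [← hβ']
    rfl

theorem outMap_eq_one_iff [CharP F 2] (β : MulAut (symplecticGroup (Fin 2) F)) :
    outMap F β = 1 ↔ ∃ s : symplecticGroup (Fin 2) F, β = MulAut.conj s := by
  rw [outMap_apply, QuotientGroup.eq_one_iff]
  constructor
  · rintro ⟨k, hk⟩
    obtain ⟨s, rfl⟩ := pr_surjective k
    refine ⟨s, ?_⟩
    apply MulEquiv.ext
    intro x
    apply pr_injective_char_two (le_of_lt (by norm_num : 1 < 2))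
    have h1 : pr (β x) = pspLift β (pr x) := rfl
    rw [h1, ← hk, MulAut.conj_apply, MulAut.conj_apply, map_mul, map_mul, map_inv]
  · rintro ⟨s, rfl⟩
    refine ⟨pr s, ?_⟩
    ext x
    obtain ⟨t, rfl⟩ := pr_surjective x
    rw [pspLift_pr, MulAut.conj_apply, MulAut.conj_apply, map_mul, map_mul, map_inv]

theorem outMap_spConj [Fintype F] [CharP F 2] (g : GSp 2 F) : outMap F (spConj g) = 1 := by
  obtain ⟨s, hs⟩ := pspConj_eq_conj_of_char_two (m := 2) g
  rw [outMap_apply, QuotientGroup.eq_one_iff]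
  exact ⟨pr s, hs.symm⟩

theorem outMap_sa [Fintype F] [CharP F 2] (g : GSp 2 F) (σ : F ≃+* F) :
    outMap F (sa g σ) = outMap F (spField σ) := by
  unfold sa
  rw [map_mul, outMap_spConj, one_mul]

theorem mem_tvPres_of_outMap_eq_one [Fintype F] [CharP F 2]
    {β : MulAut (symplecticGroup (Fin 2) F)} (h : outMap F β = 1) : β ∈ tvPres F := by
  obtain ⟨s, rfl⟩ := (outMap_eq_one_iff β).mp h
  exact conj_mem_tvPres s

theorem eq_one_of_outMap_spField [Fintype F] [CharP F 2] {σ : F ≃+* F}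
    (h : outMap F (spField σ) = 1) : σ = 1 := by
  have : Fact (Nat.Prime 2) := ⟨Nat.prime_two⟩
  obtain ⟨s, hs⟩ := (outMap_eq_one_iff _).mp h
  have h1 : (pspConj (toGSp s⁻¹) * pspField σ : MulAut (PSp 2 F)) = 1 := by
    rw [pspConj_toGSp]
    ext x
    obtain ⟨t, rfl⟩ := pr_surjective x
    rw [MulAut.mul_apply, pspField_pr, hs, MulAut.conj_apply, MulAut.conj_apply, MulAut.one_apply,
      ← map_mul, ← map_inv, ← map_mul]
    congr 1
    group
  exact (eq_one_of_psa_eq_one 2 (le_refl 2) h1).1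

theorem spField_mem_tvPres [Fintype F] [CharP F 2] (τ : F ≃+* F) : spField τ ∈ tvPres F := by
  intro x hx
  obtain ⟨v, s, hv, hs, rfl⟩ := hx
  rw [spField_T]
  refine ⟨_, _, ?_, ?_, rfl⟩
  · intro h0
    apply hv
    funext i
    have h1 : τ (v i) = 0 := congrFun h0 i
    exact (map_eq_zero_iff τ τ.injective).mp h1
  · exact fun h0 => hs ((map_eq_zero_iff τ τ.injective).mp h0)

/-- **the outer automorphism group of `PSp_4(2^f)` is cyclic of order `2f`** -/
theorem out_psp4_even [Fintype F] [CharP F 2] {f : ℕ} (hF : Fintype.card F = 2 ^ f) :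
    IsCyclic (Cfsg.Out (PSp 2 F)) ∧ Nat.card (Cfsg.Out (PSp 2 F)) = 2 * f := by
  obtain ⟨g₀, σ₀, hsq, hσ₀⟩ := exists_phiAut_sq (F := F)
  have hord : orderOf σ₀ = f := orderOf_frob hF hσ₀
  set x₀ := outMap F (phiAut F) with hx₀
  have hx₀sq : x₀ ^ 2 = outMap F (spField σ₀) := by
    rw [hx₀, ← map_pow, pow_two, hsq, outMap_sa]
  -- every class is a power of the exceptional class
  have hP : ∀ β ∈ tvPres F, outMap F β ∈ Subgroup.zpowers x₀ := by
    intro β hβ
    obtain ⟨g, σ, rfl⟩ := exists_sa_of_mem_tvPres hβ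
    rw [outMap_sa]
    obtain ⟨k, rfl⟩ := Subgroup.mem_zpowers_iff.mp (frob_zpowers hσ₀ σ)
    rw [map_zpow, map_zpow, ← hx₀sq, ← zpow_natCast, ← _root_.zpow_mul]
    exact Subgroup.zpow_mem_zpowers x₀ _
  have hall : ∀ x : Cfsg.Out (PSp 2 F), x ∈ Subgroup.zpowers x₀ := by
    intro x
    obtain ⟨β, rfl⟩ := outMap_surjective x
    by_cases hβ : β ∈ tvPres F
    · exact hP β hβ
    · have h1 := hP _ (mul_mem_tvPres_of_not_mem hβ phiAut_not_mem_tvPres)
      rw [map_mul] at h1
      have h2 := (Subgroup.zpowers x₀).mul_mem h1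
        ((Subgroup.zpowers x₀).inv_mem (Subgroup.mem_zpowers x₀))
      rwa [mul_inv_cancel_right] at h2
  -- the order of the exceptional class
  have hox : orderOf x₀ = 2 * f := by
    apply Nat.dvd_antisymm
    · apply orderOf_dvd_of_pow_eq_one
      rw [pow_mul, hx₀sq, ← map_pow, ← map_pow, ← hord, pow_orderOf_eq_one, map_one, map_one]
    · have h1 : x₀ ^ orderOf x₀ = 1 := pow_orderOf_eq_one x₀
      rcases Nat.even_or_odd' (orderOf x₀) with ⟨j, hj | hj⟩
      · rw [hj]
        apply Nat.mul_dvd_mul_left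
        rw [hj, pow_mul, hx₀sq, ← map_pow, ← map_pow] at h1
        have h2 := eq_one_of_outMap_spField h1
        rw [← hord]
        exact orderOf_dvd_of_pow_eq_one h2
      · exfalso
        rw [hj, pow_succ, pow_mul, hx₀sq, hx₀, ← map_pow, ← map_pow, ← map_mul] at h1
        have h2 := mem_tvPres_of_outMap_eq_one h1
        apply phiAut_not_mem_tvPres (F := F)
        have h3 : spField (σ₀ ^ j) ∈ tvPres F := spField_mem_tvPres _
        have h4 := (tvPres F).mul_mem ((tvPres F).inv_mem h3) h2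
        rwa [inv_mul_cancel_left] at h4
  refine ⟨⟨x₀, hall⟩, ?_⟩
  rw [← orderOf_eq_card_of_forall_mem_zpowers hall, hox]

end Cfsg.Agent.Helper8.ExcSp
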