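import Mathlib
import Cfsg.Agent.Helper8.AutSpzh
import Cfsg.Agent.Helper8.AutSpzb
import Cfsg.Agent.Helper7.FieldAutCard
import Cfsg.Agent.S0246
import Cfsg.Agent.S2600

set_option autoImplicit false
set_option linter.unusedSectionVars false

/-! The order of the automorphism group of `PSp_{2m}(q)` (helper8). -/

namespace Cfsg.Agent.Helper8.AutSp

open Matrix Cfsg Cfsg.Agent.Helper7.Symp Cfsg.Agent.Helper8.SpRoot

variable {F : Type*} [Field F] [Fintype F] {m : ℕ}

/-- uniqueness of the parameters of a semilinear automorphism -/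
theorem psp_param_unique (p : ℕ) [Fact p.Prime] [CharP F p] (hm : 2 ≤ m) {g g' : GSp m F}
    {σ σ' : F ≃+* F}
    (h : (pspConj g * pspField σ : MulAut (PSp m F)) = pspConj g' * pspField σ') :
    σ = σ' ∧ g'⁻¹ * g ∈ (pspConj : GSp m F →* MulAut (PSp m F)).ker := by
  have h2 : (pspConj (g'⁻¹ * g) * pspField (σ * σ'⁻¹) : MulAut (PSp m F)) = 1 := by
    rw [map_mul, map_mul, map_inv, map_inv, mul_assoc, ← mul_assoc (pspConj g), h]
    group
  obtain ⟨h3, h4⟩ := eq_one_of_psa_eq_one p hm h2
  exact ⟨mul_inv_eq_one.mp h3, (mem_ker_pspConj_iff p hm).mpr h4⟩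

/-- the inner-diagonal automorphisms, on the quotient by the scalars -/
noncomputable def pspConjBar (m : ℕ) (F : Type*) [Field F] :
    GSp m F ⧸ (pspConj : GSp m F →* MulAut (PSp m F)).ker →* MulAut (PSp m F) :=
  QuotientGroup.kerLift pspConj

/-- the order of the automorphism group, first form -/
theorem card_aut_PSp_aux (p : ℕ) [Fact p.Prime] [CharP F p] (hm : 2 ≤ m) (h4 : m = 2 → p ≠ 2) :
    Nat.card (MulAut (PSp m F)) =
      Nat.card (GSp m F ⧸ (pspConj : GSp m F →* MulAut (PSp m F)).ker)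
        * Nat.card (F ≃+* F) := by
  rw [← Nat.card_prod]
  symm
  apply Nat.card_eq_of_bijective
    (fun x : (GSp m F ⧸ (pspConj : GSp m F →* MulAut (PSp m F)).ker) × (F ≃+* F) =>
      pspConjBar m F x.1 * pspField x.2)
  constructor
  · rintro ⟨x, σ⟩ ⟨x', σ'⟩ h
    obtain ⟨g, rfl⟩ := QuotientGroup.mk_surjective x
    obtain ⟨g', rfl⟩ := QuotientGroup.mk_surjective x'
    have h1 : (pspConj g * pspField σ : MulAut (PSp m F)) = pspConj g' * pspField σ' := h
    obtain ⟨h2, h3⟩ := psp_param_unique p hm h1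
    rw [h2]
    congr 1
    exact (QuotientGroup.eq.mpr h3).symm
  · intro β
    obtain ⟨g, σ, rfl⟩ := aut_PSp_standard p hm h4 β
    exact ⟨(QuotientGroup.mk g, σ), rfl⟩

theorem card_ker_pspConj (p : ℕ) [Fact p.Prime] [CharP F p] (hm : 2 ≤ m) :
    Nat.card (pspConj : GSp m F →* MulAut (PSp m F)).ker = Fintype.card F - 1 := by
  rw [← Nat.card_eq_fintype_card, ← Nat.card_units]
  symm
  apply Nat.card_eq_of_bijective
    (fun c : Fˣ => (⟨scalGSp m c, pspConj_scalGSp c⟩ :
      (pspConj : GSp m F →* MulAut (PSp m F)).ker))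
  constructor
  · intro c c' h
    have h1 : scalGSp m c = scalGSp m c' := congrArg Subtype.val h
    obtain ⟨fr⟩ := exists_frame (F := F) hm
    have h2 : mg (scalGSp m c) *ᵥ fr.e = mg (scalGSp m c') *ᵥ fr.e := by rw [h1]
    rw [mg_scalGSp, mg_scalGSp] at h2
    have h3 : ((c : F) - (c' : F)) • fr.e = 0 := by rw [sub_smul, h2, sub_self]
    rcases smul_eq_zero.mp h3 with h5 | h5
    · exact Units.ext (sub_eq_zero.mp h5)
    · exact absurd h5 fr.e_ne_zero
  · rintro ⟨g, hg⟩
    obtain ⟨μ, hμ⟩ := (mem_ker_pspConj_iff_scalar p hm).mp hg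
    exact ⟨μ, Subtype.ext (eq_scalGSp_of_coe hμ).symm⟩

theorem toGSp_injective : Function.Injective (toGSp : symplecticGroup (Fin m) F →* GSp m F) := by
  intro s t h
  apply Subtype.ext
  have h1 : mg (toGSp s) = mg (toGSp t) := by rw [h]
  exact h1

theorem card_GSp (hm : 1 ≤ m) :
    Nat.card (GSp m F) = (Fintype.card F - 1) * Nat.card (symplecticGroup (Fin m) F) := by
  have h1 := Subgroup.card_eq_card_quotient_mul_card_subgroup (muHom (F := F) hm).ker
  have hsurj : Function.Surjective (muHom (F := F) (m := m) hm) := fun κ =>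
    ⟨dgk m κ, mu_dgk hm κ⟩
  have h2 : Nat.card (GSp m F ⧸ (muHom (F := F) hm).ker) = Fintype.card F - 1 := by
    rw [Nat.card_congr (QuotientGroup.quotientKerEquivOfSurjective _ hsurj).toEquiv,
      Nat.card_units, Nat.card_eq_fintype_card]
  have h3 : Nat.card (muHom (F := F) (m := m) hm).ker
      = Nat.card (symplecticGroup (Fin m) F) := by
    symm
    apply Nat.card_eq_of_bijective
      (fun s : symplecticGroup (Fin m) F => (⟨toGSp s, mu_toGSp hm s⟩ :
        (muHom (F := F) (m := m) hm).ker))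
    constructor
    · intro s t h
      exact toGSp_injective (congrArg Subtype.val h)
    · rintro ⟨g, hg⟩
      obtain ⟨s, hs⟩ := exists_toGSp_eq (show mu g = 1 from hg)
      exact ⟨s, Subtype.ext hs⟩
  rw [h1, h2, h3]

theorem card_quot_ker_pspConj (p : ℕ) [Fact p.Prime] [CharP F p] (hm : 2 ≤ m) :
    Nat.card (GSp m F ⧸ (pspConj : GSp m F →* MulAut (PSp m F)).ker)
      = Nat.card (symplecticGroup (Fin m) F) := by
  have h1 := Subgroup.card_eq_card_quotient_mul_card_subgroup
    (pspConj : GSp m F →* MulAut (PSp m F)).ker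
  rw [card_ker_pspConj p hm, card_GSp (by omega), mul_comm] at h1
  have hpos : 0 < Fintype.card F - 1 := by
    have := Fintype.one_lt_card (α := F)
    omega
  exact (Nat.eq_of_mul_eq_mul_right hpos h1).symm

theorem card_Sp_eq (hm : 1 ≤ m) :
    Nat.card (symplecticGroup (Fin m) F)
      = Nat.gcd 2 (Fintype.card F - 1) * Nat.card (PSp m F) := by
  rw [Subgroup.card_eq_card_quotient_mul_card_subgroup
    (Subgroup.center (symplecticGroup (Fin m) F)), Cfsg.Agent.S0246.result rfl m hm, mul_comm]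

/-- the inner automorphism group of a simple nonabelian group -/
theorem card_inn_of_center {G : Type*} [Group G] (h : Subgroup.center G = ⊥) :
    Nat.card (Cfsg.Inn G) = Nat.card G := by
  have hinj : Function.Injective (MulAut.conj : G →* MulAut G) := by
    rw [injective_iff_map_eq_one]
    intro x hx
    have : x ∈ Subgroup.center G := by
      rw [Subgroup.mem_center_iff]
      intro g
      have h1 := congrArg (fun β : MulAut G => β g) hx
      simp only [MulAut.conj_apply, MulAut.one_apply] at h1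
      calc g * x = (x * g * x⁻¹) * x := by rw [h1]
        _ = x * g := by group
    rw [h] at this
    exact Subgroup.mem_bot.mp this
  exact (Nat.card_congr (MonoidHom.ofInjective hinj).toEquiv).symm

/-- **the order of the automorphism group of `PSp_{2m}(q)`** -/
theorem card_aut_PSp (p f : ℕ) [Fact p.Prime] (hf : 1 ≤ f) (hF : Fintype.card F = p ^ f)
    (hm : 2 ≤ m) (h22 : m = 2 → 3 ≤ p ^ f) :
    Nat.card (MulAut (PSp m F)) = (if m = 2 ∧ p = 2 then 2 else 1) * Nat.gcd 2 (p ^ f - 1) * f
      * Nat.card (PSp m F) := by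
  have : CharP F p := charP_of_card_eq_prime_pow hF
  by_cases h : m = 2 ∧ p = 2
  · obtain ⟨rfl, rfl⟩ := h
    rw [if_pos ⟨rfl, rfl⟩]
    have hout := (Cfsg.Agent.S2600.result (F := F) hf hF).2
    have hcen : Subgroup.center (PSp 2 F) = ⊥ := by
      rw [Subgroup.eq_bot_iff_forall]
      intro x hx
      apply eq_one_of_normalizes 2 (by norm_num : 1 ≤ 2)
      intro v _
      have h1 : MulAut.conj x = 1 := by
        ext g
        rw [MulAut.conj_apply, MulAut.one_apply, ← Subgroup.mem_center_iff.mp hx g,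
          mul_inv_cancel_right]
      rw [h1, one_smul]
    have h2 := Subgroup.card_eq_card_quotient_mul_card_subgroup (Cfsg.Inn (PSp 2 F))
    have h3 : Nat.card (Cfsg.Out (PSp 2 F)) = Nat.card (MulAut (PSp 2 F) ⧸ Cfsg.Inn (PSp 2 F)) :=
      rfl
    rw [← h3, hout, card_inn_of_center hcen] at h2
    have hg : Nat.gcd 2 (2 ^ f - 1) = 1 := by
      have h4 : 2 ≤ 2 ^ f := by
        calc 2 = 2 ^ 1 := by norm_num
          _ ≤ 2 ^ f := Nat.pow_le_pow_right (by norm_num) hf
      have h5 : ¬ 2 ∣ 2 ^ f - 1 := by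
        intro hd
        have h6 : 2 ∣ 2 ^ f := dvd_pow_self 2 (by omega)
        omega
      exact Nat.Coprime.gcd_eq_one ((Nat.Prime.coprime_iff_not_dvd Nat.prime_two).mpr h5)
    rw [h2, hg]
  · rw [if_neg h]
    have h4 : m = 2 → p ≠ 2 := fun hm2 hp2 => h ⟨hm2, hp2⟩
    rw [card_aut_PSp_aux p hm h4, card_quot_ker_pspConj p hm, card_Sp_eq (by omega),
      Cfsg.Agent.Helper7.FieldAutCard.card_ringAut p f hF, hF]
    ring

end Cfsg.Agent.Helper8.AutSp
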