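import Mathlib
import Cfsg.Agent.Helper7.ChevStepCert

set_option autoImplicit false
set_option linter.unusedSectionVars false
set_option linter.unusedVariables false

/-!
A certificate for one step of the chain of parabolic subgroups of the Weyl group, for a large number of
cosets: the representatives are given by a table of parents (the representative is a fundamental
reflection times its parent), with a table of the images of the positive roots under every
representative, so that every check is local.
-/

namespace Cfsg.Agent.Helper8.ChevCos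

open Cfsg Cfsg.Lie Matrix Cfsg.Agent.Helper7 Cfsg.Agent.Helper7.Chev

/-- An entry of a table coded by a list of numerals, each holding `T.2` entries of `w` binary digits. -/
def tblAt (T : List ℕ × ℕ) (w a : ℕ) : ℕ := fld (T.1.getD (a / T.2) 0) w (a % T.2)

/-- Evaluate a number once, then apply the function. -/
def withNat {α : Sort*} (x : ℕ) (f : ℕ → α) : α :=
  match x with
  | 0 => f 0
  | k + 1 => f (k + 1)

theorem withNat_eq {α : Sort*} (x : ℕ) (f : ℕ → α) : withNat x f = f x := by
  cases x <;> rfl

instance instDecidableWithNat (x : ℕ) (P : ℕ → Prop) [DecidablePred P] : Decidable (withNat x P) :=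
  match x with
  | 0 => (inferInstance : Decidable (P 0))
  | k + 1 => (inferInstance : Decidable (P (k + 1)))

/-- The tables of a certificate: the table `R` of the fundamental reflections, the set `S` of roots of
the subsystem, the letters `J ⊇ J'`, the number `N` of representatives, the place `root` of the
trivial one, a bound `F` for the lengths, the table `Par` of letters, parents and lengths, the table
`K` of the images of the positive roots, the table `Nx` of the left multiplications. -/
structure CosData where
  R : ℕ × ℕ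
  S : ℕ
  J : List ℕ
  J' : List ℕ
  N : ℕ
  root : ℕ
  F : ℕ
  Par : List ℕ × ℕ
  K : List ℕ × ℕ
  Nx : List ℕ × ℕ

namespace CosData

variable (C : CosData) (D : ChevalleyDatum)

/-- The first letter of the representative at the place `a`. -/
def letterOf (a : ℕ) : ℕ := tblAt C.Par 32 a % 16

/-- The place of the representative at the place `a` without its first letter. -/
def parentOf (a : ℕ) : ℕ := tblAt C.Par 32 a / 16 % 65536

/-- The length of the representative at the place `a`. -/
def depthOf (a : ℕ) : ℕ := tblAt C.Par 32 a / 1048576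

/-- The images of the positive roots under the representative at the place `a`, as one numeral. -/
def keyAt (a : ℕ) : ℕ := tblAt C.K (8 * (D.nroots / 2)) a

/-- The image of a root, from the images of the positive roots. -/
def imgK (k r : ℕ) : ℕ :=
  if D.nroots / 2 ≤ r then fld k 8 (r - D.nroots / 2)
  else D.nroots - 1 - fld k 8 (D.nroots - 1 - r - D.nroots / 2)

/-- The images of the fundamental roots, as one numeral. -/
def skey (a : ℕ) : ℕ :=
  (List.range D.rank).foldr (fun m acc => acc * 256 + imgK D (C.keyAt D a) (D.simple m)) 0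

/-- The representative at the place `a`, as a word. -/
def wordOf : ℕ → ℕ → List ℕ
  | 0, _ => []
  | f + 1, a => if a = C.root then [] else C.letterOf a :: wordOf f (C.parentOf a)

/-- The list of the representatives. -/
def words : List (List ℕ) := (List.range C.N).map (C.wordOf C.F)

/-- The check of one entry of the table of left multiplications. -/
def EntryOK (a i e : ℕ) : Prop :=
  if e % 2 = 0 then
    e / 2 < C.N ∧ AllLt D.rank fun m =>
      fastRefl C.R i (imgK D (C.keyAt D a) (D.simple m)) = imgK D (C.keyAt D (e / 2)) (D.simple m)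
  else
    e / 2 ∈ C.J' ∧ AllLt D.rank fun m =>
      fastRefl C.R i (imgK D (C.keyAt D a) (D.simple m)) =
        imgK D (C.keyAt D a) (fastRefl C.R (e / 2) (D.simple m))

instance (a i e : ℕ) : Decidable (C.EntryOK D a i e) := by unfold EntryOK; infer_instance

/-- The checks at the place `a`. -/
def NodeOK (a : ℕ) : Prop :=
  (a = C.root ∨ (C.letterOf a ∈ C.J ∧ C.parentOf a < C.N ∧
    C.depthOf (C.parentOf a) < C.depthOf a ∧ C.depthOf a ≤ C.F ∧
      AllLt (D.nroots / 2) fun t => fld (C.keyAt D a) 8 t =
        fastRefl C.R (C.letterOf a) (fld (C.keyAt D (C.parentOf a)) 8 t))) ∧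
  (AllLt (D.nroots / 2) fun t =>
    subF C.S (D.nroots / 2 + t) = true → D.nroots / 2 ≤ fld (C.keyAt D a) 8 t) ∧
  (AllLt C.J.length fun b => C.EntryOK D a (C.J.getD b 0) (tblAt C.Nx 16 (a * C.J.length + b))) ∧
  (a + 1 < C.N → C.skey D a < C.skey D (a + 1))

instance (a : ℕ) : Decidable (C.NodeOK D a) := by unfold NodeOK; infer_instance

/-- The images of the fundamental roots, as one numeral, from the images of the positive roots. -/
def skeyOf (k : ℕ) : ℕ :=
  (List.range D.rank).foldr (fun m acc => acc * 256 + imgK D k (D.simple m)) 0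

/-- The check of one entry of the table of left multiplications, evaluating every entry of a table
once. -/
def EntryOKF (ka i e : ℕ) : Prop :=
  if e % 2 = 0 then
    e / 2 < C.N ∧ withNat (C.keyAt D (e / 2)) fun kc => AllLt D.rank fun m =>
      fastRefl C.R i (imgK D ka (D.simple m)) = imgK D kc (D.simple m)
  else
    e / 2 ∈ C.J' ∧ AllLt D.rank fun m =>
      fastRefl C.R i (imgK D ka (D.simple m)) = imgK D ka (fastRefl C.R (e / 2) (D.simple m))

instance (ka i e : ℕ) : Decidable (C.EntryOKF D ka i e) := by unfold EntryOKF; infer_instance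

/-- The checks at the place `a`, evaluating every entry of a table once. -/
def NodeOKF (a : ℕ) : Prop :=
  withNat (tblAt C.Par 32 a) fun pe => withNat (C.keyAt D a) fun ka =>
    (a = C.root ∨ (pe % 16 ∈ C.J ∧ pe / 16 % 65536 < C.N ∧
      C.depthOf (pe / 16 % 65536) < pe / 1048576 ∧ pe / 1048576 ≤ C.F ∧
        withNat (C.keyAt D (pe / 16 % 65536)) fun kp => AllLt (D.nroots / 2) fun t =>
          fld ka 8 t = fastRefl C.R (pe % 16) (fld kp 8 t))) ∧
    (AllLt (D.nroots / 2) fun t =>
      subF C.S (D.nroots / 2 + t) = true → D.nroots / 2 ≤ fld ka 8 t) ∧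
    (AllLt C.J.length fun b => withNat (tblAt C.Nx 16 (a * C.J.length + b)) fun e =>
      C.EntryOKF D ka (C.J.getD b 0) e) ∧
    (a + 1 < C.N → skeyOf D ka < withNat (C.keyAt D (a + 1)) (skeyOf D))

instance (a : ℕ) : Decidable (C.NodeOKF D a) := by unfold NodeOKF; infer_instance

theorem nodeOK_of_fast {a : ℕ} (h : C.NodeOKF D a) : C.NodeOK D a := by
  unfold NodeOKF at h
  simp only [withNat_eq] at h
  obtain ⟨h1, h2, h3, h4⟩ := h
  refine ⟨?_, h2, ?_, h4⟩
  · rcases h1 with h1 | h1
    · exact Or.inl h1
    · exact Or.inr h1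
  · intro b hb
    have := h3 b hb
    unfold EntryOKF at this
    simp only [withNat_eq] at this
    exact this

end CosData

section sound

variable {D : ChevalleyDatum} (hG : Good2 D) (hT : T0 D) (h6 : (tabOf D).T6) (h8 : (tabOf D).T8)
  (h9 : (tabOf D).T9) {C : CosData} (hR : ReflOK D C.R) (hev : D.nroots % 2 = 0)
  (hneg : ∀ r < D.nroots, D.neg r = D.nroots - 1 - r)
  (hltJ : ∀ i ∈ C.J, i < D.rank)
  (hrootkey : AllLt (D.nroots / 2) fun t => fld (C.keyAt D C.root) 8 t = D.nroots / 2 + t)
  (hnode : ∀ a < C.N, C.NodeOK D a)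

theorem wordOf_root (f : ℕ) : C.wordOf f C.root = [] := by
  cases f with
  | zero => rfl
  | succ f => rw [CosData.wordOf, if_pos rfl]

include hG hR hltJ hrootkey hnode in
/-- The word at the place `a` has its letters in `J` and maps the positive roots as the table says. -/
theorem wordOf_spec : ∀ f : ℕ, ∀ a < C.N, (a = C.root ∨ C.depthOf a ≤ f) →
    (∀ i ∈ C.wordOf f a, i ∈ C.J) ∧ ∀ t < D.nroots / 2,
      (tabOf D).reflWord (C.wordOf f a) (D.nroots / 2 + t) = fld (C.keyAt D a) 8 t := by
  intro f
  induction f with
  | zero =>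
    intro a ha hd
    by_cases har : a = C.root
    · subst har
      refine ⟨fun i hi => by simp [CosData.wordOf] at hi, fun t ht => ?_⟩
      rw [hrootkey t ht]
      rfl
    · exfalso
      rcases hd with hd | hd
      · exact har hd
      · rcases (hnode a ha).1 with h | ⟨-, -, hlt, -, -⟩
        · exact har h
        · omega
  | succ f ih =>
    intro a ha hd
    by_cases har : a = C.root
    · subst har
      rw [wordOf_root]
      refine ⟨fun i hi => by simp at hi, fun t ht => ?_⟩
      rw [hrootkey t ht]
      rfl
    · rcases (hnode a ha).1 with h | ⟨hlJ, hpN, hlt, hF, hkey⟩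
      · exact absurd h har
      · have hdp : C.depthOf (C.parentOf a) ≤ f := by
          rcases hd with hd | hd
          · exact absurd hd har
          · omega
        obtain ⟨hw, hspec⟩ := ih (C.parentOf a) hpN (Or.inr hdp)
        have hwr : ∀ i ∈ C.wordOf f (C.parentOf a), i < D.rank := fun i hi => hltJ i (hw i hi)
        rw [CosData.wordOf, if_neg har]
        constructor
        · intro i hi
          rcases List.mem_cons.mp hi with rfl | hi
          · exact hlJ
          · exact hw i hi
        · intro t ht
          have hlt' : D.nroots / 2 + t < D.nroots := by omega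
          rw [reflWord_cons]
          change (tabOf D).refl (D.simple (C.letterOf a)) _ = _
          rw [hR _ (hltJ _ hlJ) _ (reflWord_lt hG hwr hlt'), hspec t ht, hkey t ht]

include hG hT hR hev hneg hltJ hrootkey hnode in
/-- The word at the place `a` maps the roots as the table says. -/
theorem wordOf_img {a : ℕ} (ha : a < C.N) :
    (∀ i ∈ C.wordOf C.F a, i ∈ C.J) ∧ ∀ r < D.nroots,
      (tabOf D).reflWord (C.wordOf C.F a) r = CosData.imgK D (C.keyAt D a) r := by
  have hG1 := hG.toGood1
  have hd : a = C.root ∨ C.depthOf a ≤ C.F := by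
    rcases (hnode a ha).1 with h | ⟨-, -, -, hF, -⟩
    · exact Or.inl h
    · exact Or.inr hF
  obtain ⟨hw, hspec⟩ := wordOf_spec hG hR hltJ hrootkey hnode C.F a ha hd
  have hwr : ∀ i ∈ C.wordOf C.F a, i < D.rank := fun i hi => hltJ i (hw i hi)
  refine ⟨hw, ?_⟩
  intro r hr
  unfold CosData.imgK
  by_cases hpos : D.nroots / 2 ≤ r
  · rw [if_pos hpos, ← hspec (r - D.nroots / 2) (by omega)]
    congr 1
    omega
  · rw [if_neg hpos]
    have hnlt := hG1.neg_lt hr
    have hnpos := neg_pos_of_neg hG hT hr (by omega)
    have hnr := hneg r hr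
    rw [← hnr, ← hspec (D.neg r - D.nroots / 2) (by omega)]
    have e : D.nroots / 2 + (D.neg r - D.nroots / 2) = D.neg r := by omega
    have hlt2 := reflWord_lt hG hwr hnlt
    rw [e, ← hneg _ hlt2, reflWord_neg hG hwr hr, hG1.neg_neg (reflWord_lt hG hwr hr)]

/-- A function increasing at every step is increasing. -/
theorem lt_of_step {N : ℕ} {f : ℕ → ℕ} (h : ∀ a, a + 1 < N → f a < f (a + 1)) :
    ∀ a b, a < b → b < N → f a < f b := by
  intro a b hab
  induction b with
  | zero => omega
  | succ b ih =>
    intro hb
    by_cases hab' : a = b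
    · subst hab'
      exact h a hb
    · exact lt_trans (ih (by omega) (by omega)) (h b hb)

include hG hT hR hev hneg hltJ hrootkey hnode in
/-- Two places whose words act in the same way on the fundamental roots are equal. -/
theorem place_inj {a b : ℕ} (ha : a < C.N) (hb : b < C.N)
    (h : ∀ m < D.rank, (tabOf D).reflWord (C.wordOf C.F a) (D.simple m) =
      (tabOf D).reflWord (C.wordOf C.F b) (D.simple m)) : a = b := by
  have hG1 := hG.toGood1
  have hk : C.skey D a = C.skey D b := by
    unfold CosData.skey
    apply foldr_congr_mem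
    intro m hm acc
    have hmr := List.mem_range.mp hm
    have hp := hG1.simple_lt hmr
    rw [← (wordOf_img hG hT hR hev hneg hltJ hrootkey hnode ha).2 _ hp,
      ← (wordOf_img hG hT hR hev hneg hltJ hrootkey hnode hb).2 _ hp, h m hmr]
  have hstep : ∀ x, x + 1 < C.N → C.skey D x < C.skey D (x + 1) :=
    fun x hx => (hnode x (by omega)).2.2.2 hx
  rcases Nat.lt_trichotomy a b with hlt | heq | hgt
  · have := lt_of_step hstep a b hlt hb
    omega
  · exact heq
  · have := lt_of_step hstep b a hgt ha
    omega

include hG hR in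
/-- The set of roots of the subsystem has the required properties. -/
theorem subOK_of_subOKF {S : ℕ} {J' : List ℕ} (hsub : subOKF D C.R S J' = true) :
    SubOK D J' (subF S) := by
  unfold subOKF at hsub
  rw [Bool.and_eq_true, List.all_eq_true, List.all_eq_true] at hsub
  obtain ⟨hJ'lt, hsub⟩ := hsub
  have hJ'r : ∀ j ∈ J', j < D.rank := fun j hj => of_decide_eq_true (hJ'lt j hj)
  refine ⟨hJ'r, ?_, ?_, ?_⟩
  · intro j hj r hr
    have h1 := hsub r (List.mem_range.mpr hr)
    rw [Bool.and_eq_true, List.all_eq_true] at h1
    have h2 := h1.2 j hj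
    rw [Bool.and_eq_true, beq_iff_eq] at h2
    rw [hR j (hJ'r j hj) r hr]
    exact h2.1
  · intro r hr
    have h1 := hsub r (List.mem_range.mpr hr)
    rw [Bool.and_eq_true, beq_iff_eq] at h1
    exact h1.1
  · intro j hj r hr hpos hs
    have h1 := hsub r (List.mem_range.mpr hr)
    rw [Bool.and_eq_true, List.all_eq_true] at h1
    have h2 := h1.2 j hj
    rw [Bool.and_eq_true, Bool.or_eq_true, Bool.or_eq_true, decide_eq_true_eq, decide_eq_true_eq] at h2
    rw [hR j (hJ'r j hj) r hr]
    rcases h2.2 with (h3 | h3) | h3
    · omega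
    · rw [hs] at h3; exact absurd h3 (by simp)
    · exact h3

include hG hT h6 h8 h9 hR hev hneg hltJ hrootkey hnode in
/-- A certified step satisfies the hypotheses of the step formula. -/
theorem stepOK_of_cosData (hsub : subOKF D C.R C.S C.J' = true) (hsubset : ∀ j ∈ C.J', j ∈ C.J)
    (hroot : C.root < C.N) : StepOK D C.J C.J' C.words (subF C.S) := by
  have hG1 := hG.toGood1
  have hSub := subOK_of_subOKF hG hR hsub
  have hJ'r : ∀ j ∈ C.J', j < D.rank := hSub.lt
  have himg := fun {a : ℕ} (ha : a < C.N) => wordOf_img hG hT hR hev hneg hltJ hrootkey hnode ha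
  have hmem : ∀ u ∈ C.words, ∃ a < C.N, C.wordOf C.F a = u := by
    intro u hu
    unfold CosData.words at hu
    rw [List.mem_map] at hu
    obtain ⟨a, ha, rfl⟩ := hu
    exact ⟨a, List.mem_range.mp ha, rfl⟩
  have hmem' : ∀ a < C.N, C.wordOf C.F a ∈ C.words := by
    intro a ha
    unfold CosData.words
    exact List.mem_map.mpr ⟨a, List.mem_range.mpr ha, rfl⟩
  refine ⟨hSub, hltJ, hsubset, ?_, ?_, ?_, ?_, ?_, ?_⟩
  · intro u hu
    obtain ⟨a, ha, rfl⟩ := hmem u hu
    exact (himg ha).1
  · have := hmem' C.root hroot
    rwa [wordOf_root] at this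
  · unfold CosData.words
    apply List.Nodup.map_on _ List.nodup_range
    intro a ha b hb hab
    rw [List.mem_range] at ha hb
    apply place_inj hG hT hR hev hneg hltJ hrootkey hnode ha hb
    intro m _
    rw [hab]
  · intro u hu r hr hpos hs
    obtain ⟨a, ha, rfl⟩ := hmem u hu
    have h2 : subF C.S (D.nroots / 2 + (r - D.nroots / 2)) = true →
        D.nroots / 2 ≤ fld (C.keyAt D a) 8 (r - D.nroots / 2) :=
      (hnode a ha).2.1 (r - D.nroots / 2) (by omega)
    have e : D.nroots / 2 + (r - D.nroots / 2) = r := by omega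
    rw [e] at h2
    rw [(himg ha).2 r hr]
    unfold CosData.imgK
    rw [if_pos hpos]
    exact h2 hs
  · intro u hu i hi
    obtain ⟨a, ha, rfl⟩ := hmem u hu
    obtain ⟨b, hb, rfl⟩ := List.mem_iff_getElem.mp hi
    have hent : C.EntryOK D a (C.J.getD b 0) (tblAt C.Nx 16 (a * C.J.length + b)) :=
      (hnode a ha).2.2.1 b hb
    have hgd : C.J.getD b 0 = C.J[b] := by
      rw [List.getD_eq_getElem _ _ hb]
    rw [hgd] at hent
    have hir := hltJ _ hi
    have hur : ∀ k ∈ C.wordOf C.F a, k < D.rank := fun k hk => hltJ k ((himg ha).1 k hk)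
    have hiu : ∀ k ∈ C.J[b] :: C.wordOf C.F a, k < D.rank := by
      intro k hk
      rcases List.mem_cons.mp hk with rfl | hk
      · exact hir
      · exact hur k hk
    have hleft : ∀ m < D.rank, (tabOf D).reflWord (C.J[b] :: C.wordOf C.F a) (D.simple m) =
        fastRefl C.R C.J[b] (CosData.imgK D (C.keyAt D a) (D.simple m)) := by
      intro m hm
      have hp := hG1.simple_lt hm
      rw [reflWord_cons]
      change (tabOf D).refl (D.simple C.J[b]) _ = _
      rw [hR _ hir _ (reflWord_lt hG hur hp), (himg ha).2 _ hp]
    unfold CosData.EntryOK at hent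
    split_ifs at hent with hpar
    · obtain ⟨hc, h4⟩ := hent
      left
      refine ⟨C.wordOf C.F (tblAt C.Nx 16 (a * C.J.length + b) / 2), hmem' _ hc, ?_⟩
      have hu'r : ∀ k ∈ C.wordOf C.F (tblAt C.Nx 16 (a * C.J.length + b) / 2), k < D.rank :=
        fun k hk => hltJ k ((himg hc).1 k hk)
      apply reflWord_eq_of_simple hG hT h6 h8 h9 hiu hu'r
      intro m hm
      rw [hleft m hm, h4 m hm, (himg hc).2 _ (hG1.simple_lt hm)]
    · obtain ⟨hj, h4⟩ := hent
      right
      refine ⟨_, hj, ?_⟩
      have hjr := hJ'r _ hj
      have huj : ∀ k ∈ C.wordOf C.F a ++ [tblAt C.Nx 16 (a * C.J.length + b) / 2], k < D.rank := by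
        intro k hk
        rcases List.mem_append.mp hk with hk | hk
        · exact hur k hk
        · rw [List.mem_singleton] at hk; rw [hk]; exact hjr
      apply reflWord_eq_of_simple hG hT h6 h8 h9 hiu huj
      intro m hm
      have hp := hG1.simple_lt hm
      rw [hleft m hm, h4 m hm, reflWord_append]
      have e : (tabOf D).reflWord [tblAt C.Nx 16 (a * C.J.length + b) / 2] (D.simple m) =
          fastRefl C.R (tblAt C.Nx 16 (a * C.J.length + b) / 2) (D.simple m) := by
        change (tabOf D).refl (D.simple _) (D.simple m) = _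
        exact hR _ hjr _ hp
      rw [e, (himg ha).2 _ (by rw [← e]; exact reflWord_lt hG (by
        intro k hk; rw [List.mem_singleton] at hk; rw [hk]; exact hjr) hp)]
  · intro u hu u' hu' hact
    obtain ⟨a, ha, rfl⟩ := hmem u hu
    obtain ⟨b, hb, rfl⟩ := hmem u' hu'
    have : a = b := by
      apply place_inj hG hT hR hev hneg hltJ hrootkey hnode ha hb
      intro m hm
      exact hact _ (hG1.simple_lt hm)
    rw [this]

end sound

end Cfsg.Agent.Helper8.ChevCos
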