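import Mathlib
import Cfsg.Agent.Helper7.ChevCount
import Cfsg.Agent.Helper7.ChevCardH
import Cfsg.Agent.Helper7.ChevBruhat

set_option autoImplicit false
set_option linter.unusedSectionVars false
set_option linter.unusedVariables false

/-!
In a Chevalley group over a finite field of odd order every involution is conjugate to an
involution of the monomial subgroup `N`.
-/

namespace Cfsg.Agent.Helper8.G2Odd

open Cfsg Cfsg.Lie Matrix Cfsg.Agent.Helper7 Cfsg.Agent.Helper7.Chev DoubleCoset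
open scoped Pointwise

variable {D : ChevalleyDatum} {F : Type*} [Field F]

/-- Powers of a product `u h` with `h` normalising the subgroup of `u`. -/
theorem pow_mem_mul {G : Type*} [Group G] (U H : Subgroup G)
    (hN : H ≤ Subgroup.normalizer (U : Set G)) {u h : G} (hu : u ∈ U) (hh : h ∈ H) (m : ℕ) :
    ∃ u' ∈ U, (u * h) ^ m = u' * h ^ m := by
  induction m with
  | zero => exact ⟨1, one_mem _, by simp⟩
  | succ m ih =>
    obtain ⟨u', hu', e⟩ := ih
    refine ⟨u' * (h ^ m * u * (h ^ m)⁻¹), mul_mem hu' ?_, ?_⟩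
    · have := hN (pow_mem hh m)
      exact (Subgroup.mem_set_normalizer_iff.mp this u).mp hu
    · rw [pow_succ, e, pow_succ]; group

theorem tMat_pow' (c : ℕ → F) (m : ℕ) : tMat D c ^ m = tMat D (fun i => c i ^ m) := by
  induction m with
  | zero =>
    rw [pow_zero]
    have : (fun i => c i ^ 0) = fun _ => (1 : F) := by funext i; rw [pow_zero]
    rw [this, tMat_one]
  | succ m ih =>
    rw [pow_succ, ih, tMat_mul]
    congr 1
    funext i
    rw [pow_succ]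

/-- The torus has exponent dividing `q - 1`. -/
theorem diagonal_pow_card_sub_one [Fintype F] (hG1 : Good1 D) {h : GL D.Idx F}
    (hh : h ∈ D.diagonalSubgroup F) : h ^ (Fintype.card F - 1) = 1 := by
  obtain ⟨c, hc, e⟩ := diagonalSubgroup_torus hG1 hh
  apply Units.ext
  rw [Units.val_pow_eq_pow_val, e, tMat_pow', Units.val_one, ← tMat_one (D := D)]
  apply tMat_congr
  intro i hi
  exact FiniteField.pow_card_sub_one_eq_one (c i) (hc i hi)

section main

variable (hG : Good2 D) (hT : T0 D) (h3 : (tabOf D).T3) (h4 : (tabOf D).T4 60) (h5 : (tabOf D).T5)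
  (h6 : (tabOf D).T6) (h7 : (tabOf D).T7) (h8 : (tabOf D).T8) (h9 : (tabOf D).T9)

include hG hT h3 h4 h5 h6 h8 h9 in
/-- If `u n` is an involution with `u ∈ U` and `n ∈ N` then `n² ∈ H`. -/
theorem sq_mem_diagonal_of_inv {u n : GL D.Idx F} (hu : u ∈ D.posUnipotent F)
    (hn : n ∈ D.monomialSubgroup F) (h2 : (u * n) * (u * n) = 1) :
    n * n ∈ D.diagonalSubgroup F := by
  have hG1 := hG.toGood1
  have hBG := borelSubgroup_le_group (F := F) hG1
  have hNG := monomialSubgroup_le_group (F := F) hG1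
  have hUB : D.posUnipotent F ≤ D.borelSubgroup F := le_sup_left
  obtain ⟨P, hPB, hPN, hPS⟩ := exists_bnPair (F := F) hG hT h3 h4 h5 h6 h8 h9
  have hnG := hNG hn
  have hniG := hNG (inv_mem hn)
  have huG := hBG (hUB hu)
  have huiG := hBG (hUB (inv_mem hu))
  have einv : u * n = n⁻¹ * u⁻¹ := by
    have : (u * n)⁻¹ = u * n := inv_eq_of_mul_eq_one_left h2
    rw [← this]; group
  have hCC : BN.C P (⟨n, hnG⟩ : ↥(D.group F)) = BN.C P (⟨n⁻¹, hniG⟩ : ↥(D.group F)) := by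
    have h1 : (⟨u * n, mul_mem huG hnG⟩ : ↥(D.group F)) ∈
        BN.C P (⟨n, hnG⟩ : ↥(D.group F)) := by
      rw [BN.mem_C]
      refine ⟨⟨u, huG⟩, ?_, 1, one_mem _, ?_⟩
      · rw [hPB]; exact hUB hu
      · rw [mul_one]; rfl
    have h2' : (⟨u * n, mul_mem huG hnG⟩ : ↥(D.group F)) ∈
        BN.C P (⟨n⁻¹, hniG⟩ : ↥(D.group F)) := by
      rw [BN.mem_C]
      refine ⟨1, one_mem _, ⟨u⁻¹, huiG⟩, ?_, ?_⟩
      · rw [hPB]; exact hUB (inv_mem hu)
      · rw [one_mul]; exact Subtype.ext einv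
    unfold BN.C at h1 h2' ⊢
    rw [← doubleCoset_eq_of_mem h1, ← doubleCoset_eq_of_mem h2']
  have hnPN : (⟨n, hnG⟩ : ↥(D.group F)) ∈ P.N := by rw [hPN]; exact hn
  have hniPN : (⟨n⁻¹, hniG⟩ : ↥(D.group F)) ∈ P.N := by rw [hPN]; exact inv_mem hn
  have h1 : BN.CW P (BN.proj P ⟨_, hnPN⟩) = BN.CW P (BN.proj P ⟨_, hniPN⟩) := by
    rw [BN.CW_proj, BN.CW_proj]; exact hCC
  have h2'' := (BN.proj_eq_iff P).mp (BN.CW_injective P h1)
  rw [hPB] at h2''
  have h3' : n⁻¹ * n⁻¹ ∈ D.borelSubgroup F := h2''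
  have h4' : n⁻¹ * n⁻¹ ∈ D.diagonalSubgroup F := by
    rw [← borel_inf_monomial hG hT h6 h8 h9]
    exact Subgroup.mem_inf.mpr ⟨h3', mul_mem (inv_mem hn) (inv_mem hn)⟩
  have := inv_mem h4'
  rwa [_root_.mul_inv_rev, inv_inv] at this

include hG hT h3 h4 h5 h6 h7 h8 h9 in
/-- Over a finite field of odd order every involution of the Chevalley group is conjugate to an
involution of `N`. -/
theorem inv_conj_monomial [Fintype F] (hodd : Odd (Fintype.card F)) {t : GL D.Idx F}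
    (ht : t ∈ D.group F) (ht2 : t * t = 1) :
    ∃ g ∈ D.group F, g * t * g⁻¹ ∈ D.monomialSubgroup F := by
  have hG1 := hG.toGood1
  have hBG := borelSubgroup_le_group (F := F) hG1
  have hNG := monomialSubgroup_le_group (F := F) hG1
  have hUB : D.posUnipotent F ≤ D.borelSubgroup F := le_sup_left
  have hHB : D.diagonalSubgroup F ≤ D.borelSubgroup F := le_sup_right
  have hHN : D.diagonalSubgroup F ≤ D.monomialSubgroup F := le_sup_left
  have hNU := diagonalSubgroup_le_normalizer_pos (F := F) hG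
  obtain ⟨b, hb, n, hn, u, hu, e⟩ := (bruhat_normal_form (F := F) hG hT h3 h4 h5 h6 h8 h9).1 t ht
  have huU : u ∈ D.posUnipotent F := by
    refine (Subgroup.closure_mono ?_) hu
    rintro x ⟨r, t, hr, _, hx⟩
    exact ⟨r, t, hr, hx⟩
  have hmul := Subgroup.coe_mul_of_right_le_normalizer_left (D.posUnipotent F)
    (D.diagonalSubgroup F) hNU
  obtain ⟨u₁, hu₁, h₁, hh₁, e₁⟩ : u * b ∈ (D.posUnipotent F : Set (GL D.Idx F)) *
      (D.diagonalSubgroup F : Set (GL D.Idx F)) := by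
    rw [← hmul]; exact mul_mem (hUB huU) hb
  have hn₁ : h₁ * n ∈ D.monomialSubgroup F := mul_mem (hHN hh₁) hn
  have et : u * t * u⁻¹ = u₁ * (h₁ * n) := by
    have e₁' : u₁ * h₁ = u * b := e₁
    calc u * t * u⁻¹ = (u * b) * n := by rw [e]; group
      _ = u₁ * (h₁ * n) := by rw [← e₁']; group
  have ht₁2 : (u₁ * (h₁ * n)) * (u₁ * (h₁ * n)) = 1 := by
    rw [← et]
    calc u * t * u⁻¹ * (u * t * u⁻¹) = u * (t * t) * u⁻¹ := by group
      _ = 1 := by rw [ht2]; group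
  set n₁ := h₁ * n with hn₁def
  have hsq := sq_mem_diagonal_of_inv hG hT h3 h4 h5 h6 h8 h9 hu₁ hn₁ ht₁2
  -- the order of `u₁` is odd
  set m := orderOf u₁ with hm
  have hmodd : Odd m := by
    have hdvd : m ∣ Fintype.card F ^ (D.nroots / 2) := by
      rw [← card_posUnipotent (F := F) hG hT h3 h4 h7 h8]
      have : orderOf (⟨u₁, hu₁⟩ : ↥(D.posUnipotent F)) = orderOf u₁ := Subgroup.orderOf_mk u₁ hu₁
      rw [hm, ← this]
      exact orderOf_dvd_natCard _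
    exact Odd.of_dvd_nat (hodd.pow) hdvd
  -- `n₁ u₁ n₁⁻¹ = u₁⁻¹ (n₁ n₁)⁻¹`
  have hconj : n₁ * u₁ * n₁⁻¹ = u₁⁻¹ * (n₁ * n₁)⁻¹ := by
    have h := ht₁2
    have : n₁ * u₁ * n₁ = u₁⁻¹ := by
      calc n₁ * u₁ * n₁ = u₁⁻¹ * ((u₁ * n₁) * (u₁ * n₁)) := by group
        _ = u₁⁻¹ := by rw [h, mul_one]
    calc n₁ * u₁ * n₁⁻¹ = (n₁ * u₁ * n₁) * (n₁ * n₁)⁻¹ := by group
      _ = _ := by rw [this]
  -- `(n₁ n₁)^m = 1`
  have hpowm : (n₁ * n₁)⁻¹ ^ m = 1 := by
    obtain ⟨u', hu', e'⟩ := pow_mem_mul (D.posUnipotent F) (D.diagonalSubgroup F) hNU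
      (inv_mem hu₁) (inv_mem hsq) m
    rw [← hconj] at e'
    have h1 : (n₁ * u₁ * n₁⁻¹) ^ m = 1 := by
      rw [conj_pow, hm, pow_orderOf_eq_one]; group
    rw [h1] at e'
    have hmem : (n₁ * n₁)⁻¹ ^ m ∈ D.posUnipotent F ⊓ D.diagonalSubgroup F := by
      refine Subgroup.mem_inf.mpr ⟨?_, pow_mem (inv_mem hsq) m⟩
      have : (n₁ * n₁)⁻¹ ^ m = u'⁻¹ := by
        calc (n₁ * n₁)⁻¹ ^ m = u'⁻¹ * (u' * (n₁ * n₁)⁻¹ ^ m) := by group
          _ = u'⁻¹ := by rw [← e', mul_one]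
      rw [this]; exact inv_mem hu'
    rw [posUnipotent_inf_diagonal hG hT, Subgroup.mem_bot] at hmem
    exact hmem
  have hpowq : (n₁ * n₁)⁻¹ ^ (Fintype.card F - 1) = 1 :=
    diagonal_pow_card_sub_one hG1 (inv_mem hsq)
  have hcop : Nat.Coprime m (Fintype.card F - 1) := by
    have hdvd : m ∣ Fintype.card F ^ (D.nroots / 2) := by
      rw [← card_posUnipotent (F := F) hG hT h3 h4 h7 h8]
      have : orderOf (⟨u₁, hu₁⟩ : ↥(D.posUnipotent F)) = orderOf u₁ := Subgroup.orderOf_mk u₁ hu₁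
      rw [hm, ← this]
      exact orderOf_dvd_natCard _
    have hq1 : 1 ≤ Fintype.card F := Fintype.card_pos
    have h0 : Nat.Coprime (Fintype.card F) (Fintype.card F - 1) := by
      obtain ⟨k, hk⟩ : ∃ k, Fintype.card F = k + 1 := ⟨Fintype.card F - 1, by omega⟩
      rw [hk, Nat.add_sub_cancel]
      exact Nat.coprime_self_add_left.mpr (Nat.coprime_one_left k)
    exact Nat.Coprime.coprime_dvd_left hdvd (Nat.Coprime.pow_left _ h0)
  have hsq1 : n₁ * n₁ = 1 := by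
    have h1 : orderOf ((n₁ * n₁)⁻¹) ∣ m := orderOf_dvd_of_pow_eq_one hpowm
    have h2 : orderOf ((n₁ * n₁)⁻¹) ∣ Fintype.card F - 1 := orderOf_dvd_of_pow_eq_one hpowq
    have h3 : orderOf ((n₁ * n₁)⁻¹) = 1 := Nat.eq_one_of_dvd_coprimes hcop h1 h2
    have := orderOf_eq_one_iff.mp h3
    exact inv_eq_one.mp this
  -- `n₁` inverts `u₁`
  have hinv : n₁ * u₁ * n₁⁻¹ = u₁⁻¹ := by rw [hconj, hsq1, inv_one, mul_one]
  obtain ⟨j, hj⟩ := hmodd
  -- `v = u₁ ^ (j + 1)` satisfies `v * v = u₁`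
  set v := u₁ ^ (j + 1) with hv
  have hvv : v * v = u₁ := by
    rw [hv, ← pow_add]
    have : j + 1 + (j + 1) = m + 1 := by omega
    rw [this, pow_succ, hm, pow_orderOf_eq_one, one_mul]
  have hvU : v ∈ D.posUnipotent F := pow_mem hu₁ _
  have hvinv : n₁ * v * n₁⁻¹ = v⁻¹ := by
    rw [hv, ← conj_pow, hinv, inv_pow]
  refine ⟨v⁻¹ * u, mul_mem (hBG (hUB (inv_mem hvU))) (hBG (hUB huU)), ?_⟩
  have : v⁻¹ * u * t * (v⁻¹ * u)⁻¹ = n₁ := by
    calc v⁻¹ * u * t * (v⁻¹ * u)⁻¹ = v⁻¹ * (u * t * u⁻¹) * v := by group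
      _ = v⁻¹ * (u₁ * n₁) * v := by rw [et]
      _ = v⁻¹ * (v * v) * (n₁ * v * n₁⁻¹) * n₁ := by rw [hvv]; group
      _ = n₁ := by rw [hvinv]; group
  rw [this]
  exact hn₁

end main

end Cfsg.Agent.Helper8.G2Odd
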