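import Mathlib
import Cfsg.Agent.Helper7.ChevBorel
import Cfsg.Agent.Helper7.ChevUp

set_option autoImplicit false
set_option linter.unusedSectionVars false
set_option linter.unusedVariables false

/-!
Conjugating, inside the rank one subgroup of a root, an element that swaps the two opposite root
subgroups.
-/

namespace Cfsg.Agent.Helper8.G2Odd

open Cfsg Cfsg.Lie Matrix Cfsg.Agent.Helper7 Cfsg.Agent.Helper7.Chev

variable {D : ChevalleyDatum} {F : Type*} [Field F]

local notation "SL2" => Matrix.SpecialLinearGroup (Fin 2) F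

/-- The conjugation with `!![0, b; 1, 0]` on two by two matrices. -/
def swapMat (b : F) (M : Matrix (Fin 2) (Fin 2) F) : Matrix (Fin 2) (Fin 2) F :=
  !![M 1 1, b * M 1 0; b⁻¹ * M 0 1, M 0 0]

theorem swapMat_mul (b : F) (hb : b ≠ 0) (M N : Matrix (Fin 2) (Fin 2) F) :
    swapMat b (M * N) = swapMat b M * swapMat b N := by
  ext i j
  fin_cases i <;> fin_cases j <;>
    simp [swapMat, Matrix.mul_apply, Fin.sum_univ_two] <;> field_simp <;> ring

theorem swapMat_one (b : F) : swapMat b (1 : Matrix (Fin 2) (Fin 2) F) = 1 := by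
  ext i j
  fin_cases i <;> fin_cases j <;> simp [swapMat]

theorem swapMat_det (b : F) (hb : b ≠ 0) (M : Matrix (Fin 2) (Fin 2) F) :
    (swapMat b M).det = M.det := by
  rw [Matrix.det_fin_two, Matrix.det_fin_two]
  simp only [swapMat, Matrix.of_apply, Matrix.cons_val', Matrix.cons_val_zero, Matrix.cons_val_one,
    Matrix.empty_val', Matrix.cons_val_fin_one]
  field_simp

/-- The automorphism of `SL₂` induced by the conjugation with `!![0, b; 1, 0]`. -/
def swapSL (b : F) (hb : b ≠ 0) : SL2 →* SL2 where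
  toFun g := ⟨swapMat b g.val, by rw [swapMat_det b hb, g.2]⟩
  map_one' := by
    apply Subtype.ext
    exact swapMat_one b
  map_mul' g h := by
    apply Subtype.ext
    exact swapMat_mul b hb g.val h.val

theorem swapSL_coe (b : F) (hb : b ≠ 0) (g : SL2) : (swapSL b hb g).val = swapMat b g.val := rfl

theorem swapSL_upper (b : F) (hb : b ≠ 0) (s : F) : swapSL b hb (upperSL s) = lowerSL (b⁻¹ * s) := by
  apply Subtype.ext
  rw [swapSL_coe]
  ext i j
  fin_cases i <;> fin_cases j <;> simp [swapMat, upperSL, lowerSL]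

theorem swapSL_lower (b : F) (hb : b ≠ 0) (s : F) : swapSL b hb (lowerSL s) = upperSL (b * s) := by
  apply Subtype.ext
  rw [swapSL_coe]
  ext i j
  fin_cases i <;> fin_cases j <;> simp [swapMat, upperSL, lowerSL]

section act

variable (hG : Good1 D) {r : ℕ} (hr : r < D.nroots)

/-- The element `k` swaps the root subgroups of `r` and `-r`, with the scalar `b`. -/
def SwapAct (k : GL D.Idx F) (b : F) : Prop :=
  (∀ s : F, k * phiHom hG hr (upperSL s) * k⁻¹ = phiHom hG hr (lowerSL (b⁻¹ * s))) ∧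
  (∀ s : F, k * phiHom hG hr (lowerSL s) * k⁻¹ = phiHom hG hr (upperSL (b * s)))

/-- An element swapping the root subgroups acts on the rank one subgroup through `swapSL`. -/
theorem SwapAct.conj {k : GL D.Idx F} {b : F} (hb : b ≠ 0) (h : SwapAct hG hr k b)
    (X : SL2) : k * phiHom hG hr X * k⁻¹ = phiHom hG hr (swapSL b hb X) := by
  have key : (MulAut.conj k).toMonoidHom.comp (phiHom hG hr (F := F)) =
      (phiHom hG hr (F := F)).comp (swapSL b hb) := by
    apply MonoidHom.eq_of_eqOn_dense (sl2_generated (F := F))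
    rintro g (⟨s, rfl⟩ | ⟨s, rfl⟩)
    · change k * phiHom hG hr (upperSL s) * k⁻¹ = phiHom hG hr (swapSL b hb (upperSL s))
      rw [swapSL_upper, h.1]
    · change k * phiHom hG hr (lowerSL s) * k⁻¹ = phiHom hG hr (swapSL b hb (lowerSL s))
      rw [swapSL_lower, h.2]
  exact DFunLike.congr_fun key X

/-- The matrix diagonalising `!![0, f²; 1, 0]`. -/
def diagP (f : F) (hf : f ≠ 0) (h2 : (2 : F) ≠ 0) : SL2 :=
  ⟨!![(2 * f)⁻¹, 2⁻¹; -1, f], by
    rw [Matrix.det_fin_two_of]
    field_simp
    ring⟩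

theorem diagP_spec (f : F) (hf : f ≠ 0) (h2 : (2 : F) ≠ 0) :
    diagP f hf h2 = diagSL f hf * antiSL * swapSL (f * f) (mul_ne_zero hf hf) (diagP f hf h2) := by
  apply Subtype.ext
  rw [Matrix.SpecialLinearGroup.coe_mul, Matrix.SpecialLinearGroup.coe_mul, swapSL_coe]
  ext i j
  fin_cases i <;> fin_cases j <;>
    simp [diagP, swapMat, diagSL, antiSL, Matrix.mul_apply, Fin.sum_univ_two] <;> field_simp

/-- The split case: an involution swapping the root subgroups of `±r` with a square scalar is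
conjugate, under the rank one subgroup, to its product with an element of `N` over the reflection. -/
theorem SwapAct.split {k : GL D.Idx F} {f : F} (hf : f ≠ 0) (h2 : (2 : F) ≠ 0)
    (h : SwapAct hG hr k (f * f)) :
    phiHom hG hr (diagP f hf h2) * k * (phiHom hG hr (diagP f hf h2))⁻¹ =
      hGL hG hr f hf * nGL hG hr * k := by
  have hb : f * f ≠ 0 := mul_ne_zero hf hf
  set P := diagP f hf h2 with hP
  have h1 : k * phiHom hG hr P⁻¹ * k⁻¹ = phiHom hG hr (swapSL (f * f) hb P⁻¹) := h.conj hG hr hb _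
  have h3 : phiHom hG hr P * k * (phiHom hG hr P)⁻¹ =
      phiHom hG hr P * (k * phiHom hG hr P⁻¹ * k⁻¹) * k := by
    rw [map_inv]; group
  rw [h3, h1, ← map_mul, map_inv (swapSL (f * f) hb)]
  have h4 : P * (swapSL (f * f) hb P)⁻¹ = diagSL f hf * antiSL := by
    rw [mul_inv_eq_iff_eq_mul]
    exact diagP_spec f hf h2
  rw [h4, map_mul]
  rfl

/-- The matrix `!![p, -(b r); r, -p]` of determinant `b r² - p²`. -/
def flipP (b p r : F) (h : b * r ^ 2 - p ^ 2 = 1) : SL2 :=
  ⟨!![p, -(b * r); r, -p], by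
    rw [Matrix.det_fin_two_of]
    linear_combination h⟩

theorem flipP_spec (b : F) (hb : b ≠ 0) (p r : F) (h : b * r ^ 2 - p ^ 2 = 1) :
    flipP b p r h = diagSL (-1 : F) (neg_ne_zero.mpr one_ne_zero) * swapSL b hb (flipP b p r h) := by
  apply Subtype.ext
  rw [Matrix.SpecialLinearGroup.coe_mul, swapSL_coe]
  ext i j
  fin_cases i <;> fin_cases j <;>
    simp [flipP, swapMat, diagSL, Matrix.mul_apply, Fin.sum_univ_two, hb]

/-- Over a finite field of odd order the form `b r² - p²` represents `1`. -/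
theorem exists_flip [Fintype F] (hchar : Fintype.card F % 2 = 1) (b : F) (hb : b ≠ 0) :
    ∃ p r : F, b * r ^ 2 - p ^ 2 = 1 := by
  classical
  have hf : (Polynomial.C b * Polynomial.X ^ 2 : Polynomial F).degree = 2 :=
    Polynomial.degree_C_mul_X_pow 2 hb
  have hg : (Polynomial.C (-1 : F) * Polynomial.X ^ 2 + Polynomial.C 0 * Polynomial.X +
      Polynomial.C (-1 : F)).degree = 2 :=
    Polynomial.degree_quadratic (neg_ne_zero.mpr one_ne_zero)
  obtain ⟨a, c, hac⟩ := FiniteField.exists_root_sum_quadratic hf hg hchar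
  refine ⟨c, a, ?_⟩
  simp only [Polynomial.eval_mul, Polynomial.eval_C, Polynomial.eval_pow, Polynomial.eval_X,
    Polynomial.eval_add] at hac
  linear_combination hac

/-- The flip: an element swapping the root subgroups of `±r` is conjugate, under the rank one
subgroup, to its product with `h_r(-1)`. -/
theorem SwapAct.flip [Fintype F] (h2 : Fintype.card F % 2 = 1) {k : GL D.Idx F} {b : F} (hb : b ≠ 0)
    (h : SwapAct hG hr k b) :
    ∃ X : SL2, phiHom hG hr X * k * (phiHom hG hr X)⁻¹ =
      hGL hG hr (-1 : F) (neg_ne_zero.mpr one_ne_zero) * k := by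
  obtain ⟨p, r', hpr⟩ := exists_flip h2 b hb
  set P := flipP b p r' hpr with hP
  refine ⟨P, ?_⟩
  have h1 : k * phiHom hG hr P⁻¹ * k⁻¹ = phiHom hG hr (swapSL b hb P⁻¹) := h.conj hG hr hb _
  have h3 : phiHom hG hr P * k * (phiHom hG hr P)⁻¹ =
      phiHom hG hr P * (k * phiHom hG hr P⁻¹ * k⁻¹) * k := by
    rw [map_inv]; group
  rw [h3, h1, ← map_mul, map_inv (swapSL b hb)]
  have h4 : P * (swapSL b hb P)⁻¹ = diagSL (-1 : F) (neg_ne_zero.mpr one_ne_zero) := by
    rw [mul_inv_eq_iff_eq_mul]
    exact flipP_spec b hb p r' hpr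
  rw [h4]
  rfl

end act

end Cfsg.Agent.Helper8.G2Odd
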