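import Mathlib
import Cfsg.Agent.Helper8.G2OddB
import Cfsg.Agent.Helper7.ChevCount
import Cfsg.Agent.Helper7.ChevRootCent
import Cfsg.Agent.Helper7.ChevRee1

set_option autoImplicit false
set_option linter.unusedSectionVars false
set_option linter.unusedVariables false

/-!
The action of the elements `h n_w` of `N` on the root subgroups, and the reduction steps for the
involutions of `N`.
-/

namespace Cfsg.Agent.Helper8.G2Odd

open Cfsg Cfsg.Lie Matrix Cfsg.Agent.Helper7 Cfsg.Agent.Helper7.Chev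

variable {D : ChevalleyDatum} {F : Type*} [Field F]

/-- The value at the root `s` of the torus element with parameters `c`. -/
def tE (D : ChevalleyDatum) (c : ℕ → F) (s : ℕ) : F :=
  ((List.range D.rank).map (fun i => c i ^ D.cartan i s)).prod

section gen

variable (hG : Good2 D)

theorem tE_ne_zero (c : ℕ → F) (hc : ∀ i < D.rank, c i ≠ 0) (s : ℕ) : tE D c s ≠ 0 := by
  unfold tE
  apply List.prod_ne_zero
  intro h0
  rw [List.mem_map] at h0
  obtain ⟨i, hi, e⟩ := h0
  exact zpow_ne_zero _ (hc i (List.mem_range.mp hi)) e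

include hG in
theorem tE_neg (c : ℕ → F) {s : ℕ} (hs : s < D.nroots) : tE D c (D.neg s) = (tE D c s)⁻¹ := by
  unfold tE
  rw [List.prod_inv, List.map_map]
  congr 1
  apply List.map_congr_left
  intro i hi
  simp only [Function.comp_apply]
  rw [hG.toGood1.cartan_neg hs (List.mem_range.mp hi), _root_.zpow_neg]

include hG in
/-- Conjugation of a root element by a torus element. -/
theorem torus_conj_xGL {h : GL D.Idx F} {c : ℕ → F} (hc : ∀ i < D.rank, c i ≠ 0)
    (hh : (h : Matrix D.Idx D.Idx F) = tMat D c) {s : ℕ} (hs : s < D.nroots) (t : F) :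
    h * xGL hG.toGood1 hs t * h⁻¹ = xGL hG.toGood1 hs (tE D c s * t) := by
  rw [mul_inv_eq_iff_eq_mul]
  apply Units.ext
  rw [Units.val_mul, Units.val_mul, xGL_coe, xGL_coe, hh]
  exact tMat_mul_x hG c hc hs t

include hG in
/-- Conjugation of a root element by `h n_w`. -/
theorem rep_conj_xGL {h : GL D.Idx F} {c : ℕ → F} (hc : ∀ i < D.rank, c i ≠ 0)
    (hh : (h : Matrix D.Idx D.Idx F) = tMat D c) {w : List ℕ} (hw : ∀ i ∈ w, i < D.rank)
    {s : ℕ} (hs : s < D.nroots) (t : F) :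
    (h * nWordGL hG w) * xGL hG.toGood1 hs t * (h * nWordGL hG w)⁻¹ =
      xGL hG.toGood1 (reflWord_lt hG hw hs)
        (tE D c ((tabOf D).reflWord w s) * ((((tabOf D).etaWord w s : ℤ) : F) * t)) := by
  have h1 := nWordGL_conj (F := F) hG hw hs t
  have h2 := torus_conj_xGL hG hc hh (reflWord_lt hG hw hs)
    ((((tabOf D).etaWord w s : ℤ) : F) * t)
  rw [← h2, ← h1]
  group

include hG in
theorem phiHom_lower_eq {r : ℕ} (hr : r < D.nroots) (s : F) :
    phiHom hG.toGood1 hr (lowerSL s) = xGL hG.toGood1 (hG.toGood1.neg_lt hr) s := by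
  apply Units.ext
  rw [phiHom_lower, xGL_coe]

include hG in
/-- The element `h n_w` swaps the root subgroups of `±r` when `w r = -r`. -/
theorem swapAct_of_rep {h : GL D.Idx F} {c : ℕ → F} (hc : ∀ i < D.rank, c i ≠ 0)
    (hh : (h : Matrix D.Idx D.Idx F) = tMat D c) {w : List ℕ} (hw : ∀ i ∈ w, i < D.rank)
    {r : ℕ} (hr : r < D.nroots) (hwr : (tabOf D).reflWord w r = D.neg r) :
    SwapAct hG.toGood1 hr (h * nWordGL hG w)
      (tE D c r * (((tabOf D).etaWord w r : ℤ) : F)) := by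
  have hG1 := hG.toGood1
  have hη := etaWord_cast_mul_self (F := F) hG hw hr
  set η : F := (((tabOf D).etaWord w r : ℤ) : F) with hηdef
  have hη0 : η ≠ 0 := left_ne_zero_of_mul_eq_one hη
  have hηinv : η⁻¹ = η := by
    field_simp
    rw [← hη]; ring
  have hte := tE_ne_zero (D := D) c hc r
  constructor
  · intro s
    change (h * nWordGL hG w) * xGL hG1 hr s * (h * nWordGL hG w)⁻¹ = _
    rw [rep_conj_xGL hG hc hh hw hr, phiHom_lower_eq hG hr]
    rw [xGL_congr hG hwr (reflWord_lt hG hw hr) (hG1.neg_lt hr)]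
    congr 1
    rw [hwr, tE_neg hG c hr, ← hηdef, mul_inv, hηinv]
    ring
  · intro s
    rw [phiHom_lower_eq hG hr]
    have hnr := hG1.neg_lt hr
    rw [rep_conj_xGL hG hc hh hw hnr]
    have hw2 : (tabOf D).reflWord w (D.neg r) = r := by
      rw [reflWord_neg hG hw hr, hwr, hG1.neg_neg hr]
    rw [xGL_congr hG hw2 (reflWord_lt hG hw hnr) hr]
    change _ = xGL hG1 hr _
    congr 1
    rw [hw2, etaWord_neg hG hw hr]
    ring

include hG in
theorem hGL_mem_diagonal {r : ℕ} (hr : r < D.nroots) (f : F) (hf : f ≠ 0) :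
    hGL hG.toGood1 hr f hf ∈ D.diagonalSubgroup F :=
  Subgroup.subset_closure ⟨_, _, hr, hf, hGL_coe hG.toGood1 hr _ _⟩

include hG in
/-- Peeling off a simple reflection by a conjugation inside the rank one subgroup. -/
theorem peel_split {h : GL D.Idx F} (hh : h ∈ D.diagonalSubgroup F) {i : ℕ} (hi : i < D.rank)
    (w : List ℕ) {f : F} (hf : f ≠ 0) (h2 : (2 : F) ≠ 0)
    (hact : SwapAct hG.toGood1 (hG.toGood1.simple_lt hi) (h * nWordGL hG (i :: w)) (f * f)) :
    ∃ g ∈ D.group F, ∃ h' ∈ D.diagonalSubgroup F,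
      g * (h * nWordGL hG (i :: w)) * g⁻¹ = h' * nWordGL hG w := by
  have hG1 := hG.toGood1
  have hp := hG1.simple_lt hi
  refine ⟨phiHom hG1 hp (diagP f hf h2), phiHom_mem_group hG hp _, ?_⟩
  rw [hact.split hG1 hp hf h2, nWordGL_cons hG hi]
  set n := nGL (F := F) hG1 hp with hn
  refine ⟨hGL hG1 hp f hf * (n * h * n⁻¹) * (n * n), ?_, by group⟩
  exact mul_mem (mul_mem (hGL_mem_diagonal hG hp f hf)
    (conj_mem_diagonal (monomialSubgroup_le_normalizer hG (nGL_mem_monomial hG hp)) hh))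
    (nGL_sq_mem hG hp)

include hG in
/-- Peeling off the two ends of a palindromic word by a conjugation in `N`. -/
theorem peel_palin {h : GL D.Idx F} (hh : h ∈ D.diagonalSubgroup F) {i : ℕ} (hi : i < D.rank)
    (w : List ℕ) :
    ∃ g ∈ D.group F, ∃ h' ∈ D.diagonalSubgroup F,
      g * (h * nWordGL hG (i :: (w ++ [i]))) * g⁻¹ = h' * nWordGL hG w := by
  have hG1 := hG.toGood1
  have hp := hG1.simple_lt hi
  set n := nGL (F := F) hG1 hp with hn
  have hnN := monomialSubgroup_le_normalizer (F := F) hG (nGL_mem_monomial hG hp)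
  have hnG : n ∈ D.group F := monomialSubgroup_le_group hG1 (nGL_mem_monomial hG hp)
  refine ⟨n⁻¹, inv_mem hnG, (n⁻¹ * h * n) * (nWordGL hG w * (n * n) * (nWordGL hG w)⁻¹), ?_, ?_⟩
  · exact mul_mem (conj_mem_diagonal' hnN hh)
      (conj_mem_diagonal (nWordGL_mem_normalizer hG w) (nGL_sq_mem hG hp))
  · rw [nWordGL_cons hG hi, nWordGL_append, nWordGL_cons hG hi, nWordGL_nil, mul_one, ← hn]
    group

include hG in
/-- Moving the first letter of the word to the end by a conjugation in `N`. -/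
theorem rotate_word {h : GL D.Idx F} (hh : h ∈ D.diagonalSubgroup F) {i : ℕ} (hi : i < D.rank)
    (w : List ℕ) :
    ∃ h' ∈ D.diagonalSubgroup F,
      nGL hG.toGood1 (hG.toGood1.simple_lt hi) * (h * nWordGL hG (i :: w)) *
        (nGL hG.toGood1 (hG.toGood1.simple_lt hi))⁻¹ = h' * nWordGL hG (w ++ [i]) := by
  have hG1 := hG.toGood1
  have hp := hG1.simple_lt hi
  set n := nGL (F := F) hG1 hp with hn
  have hnN := monomialSubgroup_le_normalizer (F := F) hG (nGL_mem_monomial hG hp)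
  refine ⟨(n * h * n⁻¹) * (n * n) *
    (nWordGL hG (w ++ [i]) * (n * n)⁻¹ * (nWordGL hG (w ++ [i]))⁻¹), ?_, ?_⟩
  · exact mul_mem (mul_mem (conj_mem_diagonal hnN hh) (nGL_sq_mem hG hp))
      (conj_mem_diagonal (nWordGL_mem_normalizer hG _) (inv_mem (nGL_sq_mem hG hp)))
  · rw [nWordGL_cons hG hi, nWordGL_append, nWordGL_cons hG hi, nWordGL_nil, mul_one, ← hn]
    group

/-- Transport of the swapping action under a conjugation permuting the root subgroups. -/
theorem SwapAct.transport {r r' : ℕ} (hr : r < D.nroots) (hr' : r' < D.nroots)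
    {k n : GL D.Idx F} {b ε ε' : F} (hε : ε ≠ 0) (hε' : ε' ≠ 0)
    (hu : ∀ s : F, n * phiHom hG.toGood1 hr (upperSL s) * n⁻¹ =
      phiHom hG.toGood1 hr' (upperSL (ε * s)))
    (hl : ∀ s : F, n * phiHom hG.toGood1 hr (lowerSL s) * n⁻¹ =
      phiHom hG.toGood1 hr' (lowerSL (ε' * s)))
    (h : SwapAct hG.toGood1 hr k b) :
    SwapAct hG.toGood1 hr' (n * k * n⁻¹) (b * ε * ε'⁻¹) := by
  have hu' : ∀ s : F, n⁻¹ * phiHom hG.toGood1 hr' (upperSL s) * n =
      phiHom hG.toGood1 hr (upperSL (ε⁻¹ * s)) := by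
    intro s
    have := hu (ε⁻¹ * s)
    rw [← mul_assoc, mul_inv_cancel₀ hε, one_mul] at this
    rw [← this]; group
  have hl' : ∀ s : F, n⁻¹ * phiHom hG.toGood1 hr' (lowerSL s) * n =
      phiHom hG.toGood1 hr (lowerSL (ε'⁻¹ * s)) := by
    intro s
    have := hl (ε'⁻¹ * s)
    rw [← mul_assoc, mul_inv_cancel₀ hε', one_mul] at this
    rw [← this]; group
  constructor
  · intro s
    calc n * k * n⁻¹ * phiHom hG.toGood1 hr' (upperSL s) * (n * k * n⁻¹)⁻¹
        = n * (k * (n⁻¹ * phiHom hG.toGood1 hr' (upperSL s) * n) * k⁻¹) * n⁻¹ := by group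
      _ = phiHom hG.toGood1 hr' (lowerSL (ε' * (b⁻¹ * (ε⁻¹ * s)))) := by rw [hu', h.1, hl]
      _ = _ := by
        congr 2
        rw [mul_inv, mul_inv, inv_inv]; ring
  · intro s
    calc n * k * n⁻¹ * phiHom hG.toGood1 hr' (lowerSL s) * (n * k * n⁻¹)⁻¹
        = n * (k * (n⁻¹ * phiHom hG.toGood1 hr' (lowerSL s) * n) * k⁻¹) * n⁻¹ := by group
      _ = phiHom hG.toGood1 hr' (upperSL (ε * (b * (ε'⁻¹ * s)))) := by rw [hl', h.2, hu]
      _ = _ := by
        congr 2
        ring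

end gen

end Cfsg.Agent.Helper8.G2Odd
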