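import Mathlib
import Cfsg.Agent.Helper7.ChevRee11
import Cfsg.Agent.Helper7.ChevWeyl

set_option autoImplicit false

/-!
Table facts of type `G₂` used for the involutions of `N`.
-/

namespace Cfsg.Agent.Helper8.G2Odd

open Cfsg Cfsg.Lie Cfsg.Agent.Helper7 Cfsg.Agent.Helper7.Chev

/-- The words of the list whose square preserves the positive roots. -/
def invWords : List (List ℕ) :=
  [[], [0], [1], [0, 1, 0], [1, 0, 1], [0, 1, 0, 1, 0], [1, 0, 1, 0, 1], [0, 1, 0, 1, 0, 1]]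

set_option maxRecDepth 1000000 in
theorem inv_words_fast : ∀ w ∈ wL_G2,
    (∀ s < 12, 6 ≤ s → 6 ≤ fastG2.reflWord (w ++ w) s) → w ∈ invWords := by decide +kernel

theorem inv_words : ∀ w ∈ wL_G2,
    (∀ s < 12, 6 ≤ s → 6 ≤ (tabOf chevG2).reflWord (w ++ w) s) → w ∈ invWords :=
  tab_G2 ▸ inv_words_fast

/-- The facts on the word `[0]`. -/
def Facts0 (T : Tab) : Prop :=
  T.simple 0 = 7 ∧ T.neg 7 = 4 ∧ T.reflWord [0] 7 = 4 ∧ T.etaWord [0] 7 = -1 ∧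
  T.reflWord [0] 8 = 9 ∧ T.reflWord [0] 9 = 8 ∧ T.etaWord [0] 8 = 1 ∧ T.etaWord [0] 9 = -1 ∧
  T.reflWord [0] 10 = 6 ∧ T.reflWord [0] 1 = 5 ∧ T.neg 10 = 1

set_option maxRecDepth 1000000 in
theorem facts0_fast : Facts0 fastG2 := by unfold Facts0; decide +kernel

theorem facts0 : Facts0 (tabOf chevG2) := tab_G2 ▸ facts0_fast

/-- The facts on the word `[1]`. -/
def Facts1 (T : Tab) : Prop :=
  T.simple 1 = 6 ∧ T.neg 6 = 5 ∧ T.reflWord [1] 6 = 5 ∧ T.etaWord [1] 6 = -1 ∧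
  T.reflWord [1] 7 = 8 ∧ T.reflWord [1] 8 = 7 ∧ T.etaWord [1] 7 = 1 ∧ T.etaWord [1] 8 = -1

set_option maxRecDepth 1000000 in
theorem facts1_fast : Facts1 fastG2 := by unfold Facts1; decide +kernel

theorem facts1 : Facts1 (tabOf chevG2) := tab_G2 ▸ facts1_fast

/-- The facts on the longest word. -/
def FactsW0 (T : Tab) : Prop :=
  T.reflWord [0, 1, 0, 1, 0, 1] 7 = 4 ∧ T.etaWord [0, 1, 0, 1, 0, 1] 7 = -1 ∧
  T.reflWord [0, 1, 0, 1, 0, 1] 6 = 5 ∧ T.etaWord [0, 1, 0, 1, 0, 1] 6 = -1 ∧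
  T.reflWord [0, 1, 0, 1, 0, 1] 10 = 1 ∧ T.etaWord [0, 1, 0, 1, 0, 1] 10 = -1 ∧
  (∀ r < 12, T.reflWord [0, 1, 0, 1, 0, 1] r = T.reflWord [1, 0, 1, 0, 1, 0] r)

set_option maxRecDepth 1000000 in
theorem factsW0_fast : FactsW0 fastG2 := by unfold FactsW0; decide +kernel

theorem factsW0 : FactsW0 (tabOf chevG2) := tab_G2 ▸ factsW0_fast

/-- The Cartan integers and coroot coefficients used. -/
def FactsC (T : Tab) : Prop :=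
  T.l = 2 ∧
  T.cartan 0 6 = -3 ∧ T.cartan 1 6 = 2 ∧ T.cartan 0 7 = 2 ∧ T.cartan 1 7 = -1 ∧
  T.cartan 0 8 = -1 ∧ T.cartan 1 8 = 1 ∧ T.cartan 0 9 = 1 ∧ T.cartan 1 9 = 0 ∧
  T.cartan 0 10 = 3 ∧ T.cartan 1 10 = -1 ∧
  T.cr 7 0 = 1 ∧ T.cr 7 1 = 0 ∧ T.cr 6 0 = 0 ∧ T.cr 6 1 = 1 ∧
  T.cr 8 0 = 1 ∧ T.cr 8 1 = 3 ∧ T.cr 10 0 = 1 ∧ T.cr 10 1 = 1 ∧
  T.refl 6 7 = 8 ∧ T.refl 7 6 = 10

set_option maxRecDepth 1000000 in
theorem factsC_fast : FactsC fastG2 := by unfold FactsC; decide +kernel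

theorem factsC : FactsC (tabOf chevG2) := tab_G2 ▸ factsC_fast

end Cfsg.Agent.Helper8.G2Odd
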