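import Mathlib
import Cfsg.Agent.Helper8.G2OddA
import Cfsg.Agent.Helper8.G2OddC
import Cfsg.Agent.Helper8.G2OddT
import Cfsg.Agent.Helper7.ChevT7

set_option autoImplicit false
set_option linter.unusedSectionVars false
set_option linter.unusedVariables false

/-!
In `G₂(q)`, `q` odd, every involution of `N` is conjugate to an element of `H`.
-/

namespace Cfsg.Agent.Helper8.G2Odd

open Cfsg Cfsg.Lie Matrix Cfsg.Agent.Helper7 Cfsg.Agent.Helper7.Chev

variable {F : Type*} [Field F]

abbrev hG2 : Good2 chevG2 := good3_G2.toGood2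
abbrev hG1 : Good1 chevG2 := good3_G2.toGood2.toGood1

/-- The abbreviation for the root elements of `G₂`. -/
noncomputable abbrev xr (r : ℕ) (hr : r < 12) (a : F) : GL chevG2.Idx F :=
  xGL hG1 (show r < chevG2.nroots from hr) a

/-- Conjugate in the Chevalley group to an element of `H`. -/
def ConjH (k : GL chevG2.Idx F) : Prop :=
  ∃ g ∈ chevG2.group F, g * k * g⁻¹ ∈ chevG2.diagonalSubgroup F

theorem ConjH.of_conj {k k' g : GL chevG2.Idx F} (hg : g ∈ chevG2.group F)
    (e : g * k * g⁻¹ = k') (h : ConjH k') : ConjH k := by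
  obtain ⟨g', hg', hmem⟩ := h
  refine ⟨g' * g, mul_mem hg' hg, ?_⟩
  have : g' * g * k * (g' * g)⁻¹ = g' * (g * k * g⁻¹) * g'⁻¹ := by group
  rw [this, e]
  exact hmem

theorem sq_conj {G : Type*} [Group G] {k g : G} (hk : k * k = 1) :
    (g * k * g⁻¹) * (g * k * g⁻¹) = 1 := by
  calc g * k * g⁻¹ * (g * k * g⁻¹) = g * (k * k) * g⁻¹ := by group
    _ = 1 := by rw [hk]; group

theorem tE_G2 (c : ℕ → F) (s : ℕ) :
    tE chevG2 c s = c 0 ^ chevG2.cartan 0 s * c 1 ^ chevG2.cartan 1 s := by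
  unfold tE
  have : chevG2.rank = 2 := rfl
  rw [this]
  simp [List.range_succ]

theorem xr_inj {r : ℕ} (hr : r < 12) {a b : F} (h : xr r hr a = xr r hr b) : a = b := by
  by_contra hne
  have h1 : xr r hr (a - b) = 1 := by
    unfold xr at h ⊢
    rw [sub_eq_add_neg, ← xGL_mul, ← xGL_inv, h, mul_inv_cancel]
  exact xGL_ne_one hG2 T0_G2 T8_G2 (show r < chevG2.nroots from hr) (sub_ne_zero.mpr hne) h1

theorem SwapAct.congr {r : ℕ} {hr : r < chevG2.nroots} {k : GL chevG2.Idx F} {b b' : F}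
    (e : b = b') (h : SwapAct hG1 hr k b) : SwapAct hG1 hr k b' := e ▸ h

/-- If `k` is an involution then conjugating twice gives back the element. -/
theorem conj_conj_of_sq {G : Type*} [Group G] {k x : G} (hk : k * k = 1) :
    k * (k * x * k⁻¹) * k⁻¹ = x := by
  calc k * (k * x * k⁻¹) * k⁻¹ = (k * k) * x * (k * k)⁻¹ := by group
    _ = x := by rw [hk]; group

theorem simple0 : chevG2.simple 0 = 7 := facts0.1
theorem simple1 : chevG2.simple 1 = 6 := facts1.1
theorem lt0 : 0 < chevG2.rank := by decide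
theorem lt1 : 1 < chevG2.rank := by decide

section cases

variable (h2 : (2 : F) ≠ 0)

include h2 in
/-- The involutions over the fundamental reflection in the short root. -/
theorem conjH_w0 {h : GL chevG2.Idx F} (hh : h ∈ chevG2.diagonalSubgroup F)
    (hk : (h * nWordGL hG2 [0]) * (h * nWordGL hG2 [0]) = 1) :
    ConjH (h * nWordGL hG2 [0]) := by
  obtain ⟨c, hc, hmat⟩ := diagonalSubgroup_torus hG1 hh
  obtain ⟨f0s, f0n, f0r7, f0e7, f0r8, f0r9, f0e8, f0e9, -, -, -⟩ := facts0
  obtain ⟨-, -, -, c07, c17, c08, c18, c09, c19, -⟩ := factsC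
  have hw : ∀ i ∈ [0], i < chevG2.rank := by decide
  have hc0 := hc 0 lt0
  have hc1 := hc 1 lt1
  set k := h * nWordGL hG2 [0] with hkdef
  have a8 : ∀ t : F, k * xr 8 (by norm_num) t * k⁻¹ = xr 9 (by norm_num) (tE chevG2 c 9 * t) := by
    intro t
    unfold xr
    rw [rep_conj_xGL hG2 hc hmat hw, xGL_congr hG2 f0r8 _ (show 9 < chevG2.nroots by decide)]
    congr 1
    rw [f0r8, f0e8]; simp
  have a9 : ∀ t : F, k * xr 9 (by norm_num) t * k⁻¹ =
      xr 8 (by norm_num) (tE chevG2 c 8 * (-t)) := by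
    intro t
    unfold xr
    rw [rep_conj_xGL hG2 hc hmat hw, xGL_congr hG2 f0r9 _ (show 8 < chevG2.nroots by decide)]
    congr 1
    rw [f0r9, f0e9]; simp
  have e1 : xr 8 (by norm_num) (tE chevG2 c 8 * (-(tE chevG2 c 9 * 1))) =
      xr 8 (by norm_num) (1 : F) := by
    rw [← a9, ← a8]
    exact conj_conj_of_sq hk
  have e2 := xr_inj _ e1
  rw [tE_G2, tE_G2] at e2
  have c08' : chevG2.cartan 0 8 = -1 := c08
  have c18' : chevG2.cartan 1 8 = 1 := c18
  have c09' : chevG2.cartan 0 9 = 1 := c09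
  have c19' : chevG2.cartan 1 9 = 0 := c19
  rw [c08', c18', c09', c19'] at e2
  have hc1v : c 1 = -1 := by
    simp only [_root_.zpow_neg, zpow_one, zpow_zero, mul_one] at e2
    field_simp at e2
    linear_combination -e2
  -- the action on the rank one subgroup
  have hs0 : chevG2.simple 0 = 7 := simple0
  have hwr : (tabOf chevG2).reflWord [0] (chevG2.simple 0) = chevG2.neg (chevG2.simple 0) := by
    rw [hs0]; exact f0r7.trans f0n.symm
  have hact := swapAct_of_rep (F := F) hG2 hc hmat hw (hG1.simple_lt lt0) hwr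
  have hb : tE chevG2 c (chevG2.simple 0) *
      (((tabOf chevG2).etaWord [0] (chevG2.simple 0) : ℤ) : F) = c 0 * c 0 := by
    rw [hs0, f0e7, tE_G2]
    have c07' : chevG2.cartan 0 7 = 2 := c07
    have c17' : chevG2.cartan 1 7 = -1 := c17
    rw [c07', c17', hc1v]
    simp only [_root_.zpow_neg, zpow_one]
    norm_num
    ring
  have hact' := SwapAct.congr hb hact
  obtain ⟨g, hg, h', hh', e⟩ := peel_split hG2 hh lt0 [] hc0 h2 hact'
  refine ⟨g, hg, ?_⟩
  rw [e, nWordGL_nil, mul_one]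
  exact hh'

include h2 in
/-- The involutions over the fundamental reflection in the long root. -/
theorem conjH_w1 {h : GL chevG2.Idx F} (hh : h ∈ chevG2.diagonalSubgroup F)
    (hk : (h * nWordGL hG2 [1]) * (h * nWordGL hG2 [1]) = 1) :
    ConjH (h * nWordGL hG2 [1]) := by
  obtain ⟨c, hc, hmat⟩ := diagonalSubgroup_torus hG1 hh
  obtain ⟨f1s, f1n, f1r6, f1e6, f1r7, f1r8, f1e7, f1e8⟩ := facts1
  obtain ⟨-, c06, c16, c07, c17, c08, c18, -⟩ := factsC
  have hw : ∀ i ∈ [1], i < chevG2.rank := by decide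
  have hc0 := hc 0 lt0
  have hc1 := hc 1 lt1
  set k := h * nWordGL hG2 [1] with hkdef
  have a7 : ∀ t : F, k * xr 7 (by norm_num) t * k⁻¹ = xr 8 (by norm_num) (tE chevG2 c 8 * t) := by
    intro t
    unfold xr
    rw [rep_conj_xGL hG2 hc hmat hw, xGL_congr hG2 f1r7 _ (show 8 < chevG2.nroots by decide)]
    congr 1
    rw [f1r7, f1e7]; simp
  have a8 : ∀ t : F, k * xr 8 (by norm_num) t * k⁻¹ =
      xr 7 (by norm_num) (tE chevG2 c 7 * (-t)) := by
    intro t
    unfold xr
    rw [rep_conj_xGL hG2 hc hmat hw, xGL_congr hG2 f1r8 _ (show 7 < chevG2.nroots by decide)]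
    congr 1
    rw [f1r8, f1e8]; simp
  have e1 : xr 7 (by norm_num) (tE chevG2 c 7 * (-(tE chevG2 c 8 * 1))) =
      xr 7 (by norm_num) (1 : F) := by
    rw [← a8, ← a7]
    exact conj_conj_of_sq hk
  have e2 := xr_inj _ e1
  rw [tE_G2, tE_G2] at e2
  have c07' : chevG2.cartan 0 7 = 2 := c07
  have c17' : chevG2.cartan 1 7 = -1 := c17
  have c08' : chevG2.cartan 0 8 = -1 := c08
  have c18' : chevG2.cartan 1 8 = 1 := c18
  rw [c07', c17', c08', c18'] at e2
  have hc0v : c 0 = -1 := by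
    simp only [_root_.zpow_neg, zpow_one] at e2
    field_simp at e2
    linear_combination -e2
  have hs1 : chevG2.simple 1 = 6 := simple1
  have hwr : (tabOf chevG2).reflWord [1] (chevG2.simple 1) = chevG2.neg (chevG2.simple 1) := by
    rw [hs1]; exact f1r6.trans f1n.symm
  have hact := swapAct_of_rep (F := F) hG2 hc hmat hw (hG1.simple_lt lt1) hwr
  have hb : tE chevG2 c (chevG2.simple 1) *
      (((tabOf chevG2).etaWord [1] (chevG2.simple 1) : ℤ) : F) = c 1 * c 1 := by
    rw [hs1, f1e6, tE_G2]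
    have c06' : chevG2.cartan 0 6 = -3 := c06
    have c16' : chevG2.cartan 1 6 = 2 := c16
    rw [c06', c16', hc0v]
    simp only [_root_.zpow_neg]
    norm_num
    ring
  have hact' := SwapAct.congr hb hact
  obtain ⟨g, hg, h', hh', e⟩ := peel_split hG2 hh lt1 [] hc1 h2 hact'
  refine ⟨g, hg, ?_⟩
  rw [e, nWordGL_nil, mul_one]
  exact hh'

end cases

end Cfsg.Agent.Helper8.G2Odd
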