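import Mathlib
import Cfsg.Agent.Helper8.G2OddD

set_option autoImplicit false
set_option linter.unusedSectionVars false
set_option linter.unusedVariables false

/-!
In `G₂(q)`, `q` odd, every involution of `N` is conjugate to an element of `H`: the palindromic
words and the longest word.
-/

namespace Cfsg.Agent.Helper8.G2Odd

open Cfsg Cfsg.Lie Matrix Cfsg.Agent.Helper7 Cfsg.Agent.Helper7.Chev

variable {F : Type*} [Field F]

/-- In a finite field the product of two nonsquares is a square. -/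
theorem isSquare_mul_of_not [Fintype F] {a b : F} (ha : ¬IsSquare a) (hb : ¬IsSquare b) :
    IsSquare (a * b) := by
  classical
  have ha0 : a ≠ 0 := by
    rintro rfl
    exact ha IsSquare.zero
  have hb0 : b ≠ 0 := by
    rintro rfl
    exact hb IsSquare.zero
  rw [← quadraticChar_one_iff_isSquare (mul_ne_zero ha0 hb0), map_mul,
    quadraticChar_neg_one_iff_not_isSquare.mpr ha, quadraticChar_neg_one_iff_not_isSquare.mpr hb]
  norm_num

/-- The property that the involutions over the word `w` are conjugate into `H`. -/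
def InvW (F : Type*) [Field F] (w : List ℕ) : Prop :=
  ∀ h ∈ chevG2.diagonalSubgroup F, (h * nWordGL hG2 w) * (h * nWordGL hG2 w) = 1 →
    ConjH (h * nWordGL hG2 w)

theorem invW_nil : InvW F [] := by
  intro h hh _
  refine ⟨1, one_mem _, ?_⟩
  rw [nWordGL_nil, mul_one, one_mul, inv_one, mul_one]
  exact hh

theorem invW_0 (h2 : (2 : F) ≠ 0) : InvW F [0] := fun h hh hk => conjH_w0 h2 hh hk

theorem invW_1 (h2 : (2 : F) ≠ 0) : InvW F [1] := fun h hh hk => conjH_w1 h2 hh hk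

theorem invW_palin {i : ℕ} (hi : i < chevG2.rank) {w : List ℕ} (IH : InvW F w) :
    InvW F (i :: (w ++ [i])) := by
  intro h hh hk
  obtain ⟨g, hg, h', hh', e⟩ := peel_palin hG2 hh hi w
  refine ConjH.of_conj hg e (IH h' hh' ?_)
  rw [← e]
  exact sq_conj hk

theorem invW_palin' {i : ℕ} (hi : i < chevG2.rank) {w w' : List ℕ} (e : w' = i :: (w ++ [i]))
    (IH : InvW F w) : InvW F w' := by
  subst e
  exact invW_palin hi IH

theorem invW_010 (h2 : (2 : F) ≠ 0) : InvW F [0, 1, 0] := invW_palin' lt0 (by rfl) (invW_1 h2)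

theorem invW_101 (h2 : (2 : F) ≠ 0) : InvW F [1, 0, 1] := invW_palin' lt1 (by rfl) (invW_0 h2)

theorem invW_01010 (h2 : (2 : F) ≠ 0) : InvW F [0, 1, 0, 1, 0] :=
  invW_palin' lt0 (by rfl) (invW_101 h2)

theorem invW_10101 (h2 : (2 : F) ≠ 0) : InvW F [1, 0, 1, 0, 1] :=
  invW_palin' lt1 (by rfl) (invW_010 h2)

/-! ### The longest word -/

/-- The scalar of the action of `h n_{w₀}` on the rank one subgroup of the short fundamental root. -/
def B7 (c : ℕ → F) : F := -(c 0 ^ 2 * (c 1)⁻¹)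

/-- The scalar of the action of `h n_{w₀}` on the rank one subgroup of the long fundamental root. -/
def B6 (c : ℕ → F) : F := -((c 0 ^ 3)⁻¹ * c 1 ^ 2)

/-- The scalar of the action of `h n_{w₀}` on the rank one subgroup of the root `3a + b`. -/
def B10 (c : ℕ → F) : F := -(c 0 ^ 3 * (c 1)⁻¹)

theorem tE7 (c : ℕ → F) : tE chevG2 c 7 = c 0 ^ 2 * (c 1)⁻¹ := by
  obtain ⟨-, -, -, c07, c17, -⟩ := factsC
  have c07' : chevG2.cartan 0 7 = 2 := c07
  have c17' : chevG2.cartan 1 7 = -1 := c17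
  rw [tE_G2, c07', c17']
  simp only [_root_.zpow_neg, zpow_ofNat, pow_one]

theorem tE6 (c : ℕ → F) : tE chevG2 c 6 = (c 0 ^ 3)⁻¹ * c 1 ^ 2 := by
  obtain ⟨-, c06, c16, -⟩ := factsC
  have c06' : chevG2.cartan 0 6 = -3 := c06
  have c16' : chevG2.cartan 1 6 = 2 := c16
  rw [tE_G2, c06', c16']
  simp only [_root_.zpow_neg, zpow_ofNat]

theorem tE10 (c : ℕ → F) : tE chevG2 c 10 = c 0 ^ 3 * (c 1)⁻¹ := by
  obtain ⟨-, -, -, -, -, -, -, -, -, c010, c110, -⟩ := factsC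
  have c010' : chevG2.cartan 0 10 = 3 := c010
  have c110' : chevG2.cartan 1 10 = -1 := c110
  rw [tE_G2, c010', c110']
  simp only [_root_.zpow_neg, zpow_ofNat, pow_one]

theorem hw0 : ∀ i ∈ [0, 1, 0, 1, 0, 1], i < chevG2.rank := by decide

theorem hw0' : ∀ i ∈ [1, 0, 1, 0, 1, 0], i < chevG2.rank := by decide

theorem lt10 : 10 < chevG2.nroots := by decide

section swaps

variable {h : GL chevG2.Idx F} {c : ℕ → F} (hc : ∀ i < chevG2.rank, c i ≠ 0)
  (hmat : (h : Matrix chevG2.Idx chevG2.Idx F) = tMat chevG2 c)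

include hc hmat

theorem swap_w0_7 :
    SwapAct hG1 (hG1.simple_lt lt0) (h * nWordGL hG2 [0, 1, 0, 1, 0, 1]) (B7 c) := by
  obtain ⟨r7, e7, -⟩ := factsW0
  have hs0 : chevG2.simple 0 = 7 := simple0
  have hwr : (tabOf chevG2).reflWord [0, 1, 0, 1, 0, 1] (chevG2.simple 0) =
      chevG2.neg (chevG2.simple 0) := by
    rw [hs0]; exact r7.trans facts0.2.1.symm
  have hact := swapAct_of_rep (F := F) hG2 hc hmat hw0 (hG1.simple_lt lt0) hwr
  refine SwapAct.congr ?_ hact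
  rw [hs0, e7, tE7]
  unfold B7
  push_cast
  ring

theorem swap_w0_6 :
    SwapAct hG1 (hG1.simple_lt lt1) (h * nWordGL hG2 [0, 1, 0, 1, 0, 1]) (B6 c) := by
  obtain ⟨-, -, r6, e6, -⟩ := factsW0
  have hs1 : chevG2.simple 1 = 6 := simple1
  have hwr : (tabOf chevG2).reflWord [0, 1, 0, 1, 0, 1] (chevG2.simple 1) =
      chevG2.neg (chevG2.simple 1) := by
    rw [hs1]; exact r6.trans facts1.2.1.symm
  have hact := swapAct_of_rep (F := F) hG2 hc hmat hw0 (hG1.simple_lt lt1) hwr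
  refine SwapAct.congr ?_ hact
  rw [hs1, e6, tE6]
  unfold B6
  push_cast
  ring

theorem swap_w0_10 :
    SwapAct hG1 lt10 (h * nWordGL hG2 [0, 1, 0, 1, 0, 1]) (B10 c) := by
  obtain ⟨-, -, -, -, r10, e10, -⟩ := factsW0
  have hwr : (tabOf chevG2).reflWord [0, 1, 0, 1, 0, 1] 10 = chevG2.neg 10 := by
    exact r10.trans facts0.2.2.2.2.2.2.2.2.2.2.symm
  have hact := swapAct_of_rep (F := F) hG2 hc hmat hw0 lt10 hwr
  refine SwapAct.congr ?_ hact
  rw [e10, tE10]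
  unfold B10
  push_cast
  ring

theorem B7_ne_zero : B7 c ≠ 0 := by
  unfold B7
  exact neg_ne_zero.mpr (mul_ne_zero (pow_ne_zero _ (hc 0 lt0)) (inv_ne_zero (hc 1 lt1)))

theorem B6_ne_zero : B6 c ≠ 0 := by
  unfold B6
  exact neg_ne_zero.mpr (mul_ne_zero (inv_ne_zero (pow_ne_zero _ (hc 0 lt0)))
    (pow_ne_zero _ (hc 1 lt1)))

theorem B10_ne_zero : B10 c ≠ 0 := by
  unfold B10
  exact neg_ne_zero.mpr (mul_ne_zero (pow_ne_zero _ (hc 0 lt0)) (inv_ne_zero (hc 1 lt1)))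

end swaps

section w0cases

variable (h2 : (2 : F) ≠ 0) {h : GL chevG2.Idx F} (hh : h ∈ chevG2.diagonalSubgroup F)
  {c : ℕ → F} (hc : ∀ i < chevG2.rank, c i ≠ 0)
  (hmat : (h : Matrix chevG2.Idx chevG2.Idx F) = tMat chevG2 c)
  (hk : (h * nWordGL hG2 [0, 1, 0, 1, 0, 1]) * (h * nWordGL hG2 [0, 1, 0, 1, 0, 1]) = 1)

include h2 hh hc hmat hk

/-- Case A: the scalar at the short fundamental root is a square. -/
theorem conjH_w0_A (hP : InvW F [1, 0, 1, 0, 1]) (hsq : IsSquare (B7 c)) :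
    ConjH (h * nWordGL hG2 [0, 1, 0, 1, 0, 1]) := by
  obtain ⟨f, hf⟩ := hsq
  have hB0 : B7 c ≠ 0 := B7_ne_zero hc hmat
  have hf0 : f ≠ 0 := by
    rintro rfl
    rw [mul_zero] at hf
    exact hB0 hf
  have hact := SwapAct.congr hf (swap_w0_7 hc hmat)
  obtain ⟨g, hg, h', hh', e⟩ := peel_split hG2 hh lt0 [1, 0, 1, 0, 1] hf0 h2 hact
  refine ConjH.of_conj hg e (hP h' hh' ?_)
  rw [← e]
  exact sq_conj hk

/-- Case B: the scalar at the long fundamental root is a square. -/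
theorem conjH_w0_B (hP : InvW F [0, 1, 0, 1, 0]) (hsq : IsSquare (B6 c)) :
    ConjH (h * nWordGL hG2 [0, 1, 0, 1, 0, 1]) := by
  obtain ⟨f, hf⟩ := hsq
  have hB0 : B6 c ≠ 0 := B6_ne_zero hc hmat
  have hf0 : f ≠ 0 := by
    rintro rfl
    rw [mul_zero] at hf
    exact hB0 hf
  have hact := SwapAct.congr hf (swap_w0_6 hc hmat)
  obtain ⟨h₀, hh₀, e₀⟩ := nWordGL_eq_of_reflWord_eq (F := F) hG2 T0_G2 T6_G2 T8_G2 hw0 hw0'
    factsW0.2.2.2.2.2.2
  have ek : h * nWordGL hG2 [0, 1, 0, 1, 0, 1] =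
      (h * h₀) * nWordGL hG2 (1 :: [0, 1, 0, 1, 0]) := by
    rw [e₀, mul_assoc]
  rw [ek] at hact hk ⊢
  obtain ⟨g, hg, h', hh', e⟩ := peel_split hG2 (mul_mem hh hh₀) lt1 [0, 1, 0, 1, 0] hf0 h2 hact
  refine ConjH.of_conj hg e (hP h' hh' ?_)
  rw [← e]
  exact sq_conj hk

/-- Case C: the scalar at the root `3a + b` is a square. -/
theorem conjH_w0_C (hP : InvW F [0, 1, 0, 1, 0]) (hsq : IsSquare (B10 c)) :
    ConjH (h * nWordGL hG2 [0, 1, 0, 1, 0, 1]) := by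
  obtain ⟨f, hf⟩ := hsq
  have hB0 : B10 c ≠ 0 := B10_ne_zero hc hmat
  have hf0 : f ≠ 0 := by
    rintro rfl
    rw [mul_zero] at hf
    exact hB0 hf
  have hact := SwapAct.congr hf (swap_w0_10 hc hmat)
  obtain ⟨h', hh', e⟩ := rotate_word hG2 hh lt0 [1, 0, 1, 0, 1]
  set n := nGL (F := F) hG1 (hG1.simple_lt lt0) with hn
  have hnw : nWordGL hG2 [0] = n := by rw [nWordGL_cons hG2 lt0, nWordGL_nil, mul_one]
  have hw1 : ∀ i ∈ [0], i < chevG2.rank := by decide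
  have hr' : (tabOf chevG2).reflWord [0] 10 = chevG2.simple 1 :=
    facts0.2.2.2.2.2.2.2.2.1.trans simple1.symm
  set ε : F := (((tabOf chevG2).etaWord [0] 10 : ℤ) : F) with hε
  have hε0 : ε ≠ 0 := etaWord_cast_ne_zero hG2 hw1 lt10
  have hu : ∀ s : F, n * phiHom hG1 lt10 (upperSL s) * n⁻¹ =
      phiHom hG1 (hG1.simple_lt lt1) (upperSL (ε * s)) := by
    intro s
    have := nWordGL_conj (F := F) hG2 hw1 lt10 s
    rw [hnw] at this
    change n * xGL hG1 lt10 s * n⁻¹ = xGL hG1 (hG1.simple_lt lt1) (ε * s)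
    rw [this, xGL_congr hG2 hr' _ (hG1.simple_lt lt1)]
  have hl : ∀ s : F, n * phiHom hG1 lt10 (lowerSL s) * n⁻¹ =
      phiHom hG1 (hG1.simple_lt lt1) (lowerSL (ε * s)) := by
    intro s
    rw [phiHom_lower_eq hG2 lt10, phiHom_lower_eq hG2 (hG1.simple_lt lt1)]
    have := nWordGL_conj (F := F) hG2 hw1 (hG1.neg_lt lt10) s
    rw [hnw] at this
    rw [this]
    have hr'' : (tabOf chevG2).reflWord [0] (chevG2.neg 10) = chevG2.neg (chevG2.simple 1) := by
      rw [reflWord_neg hG2 hw1 lt10, hr']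
    rw [xGL_congr hG2 hr'' _ (hG1.neg_lt (hG1.simple_lt lt1)), etaWord_neg hG2 hw1 lt10]
  have hact2 := SwapAct.transport hG2 lt10 (hG1.simple_lt lt1) hε0 hε0 hu hl hact
  have hact3 : SwapAct hG1 (hG1.simple_lt lt1) (h' * nWordGL hG2 (1 :: [0, 1, 0, 1, 0]))
      (f * f) := by
    have e1 : f * f * ε * ε⁻¹ = f * f := by field_simp
    rw [← e1]
    have e' : h' * nWordGL hG2 (1 :: [0, 1, 0, 1, 0]) =
        n * (h * nWordGL hG2 [0, 1, 0, 1, 0, 1]) * n⁻¹ := e.symm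
    rw [e']
    exact hact2
  obtain ⟨g, hg, h'', hh'', e2⟩ := peel_split hG2 hh' lt1 [0, 1, 0, 1, 0] hf0 h2 hact3
  have hnG : n ∈ chevG2.group F :=
    monomialSubgroup_le_group hG1 (nGL_mem_monomial hG2 (hG1.simple_lt lt0))
  refine ConjH.of_conj hnG e (ConjH.of_conj hg e2 (hP h'' hh'' ?_))
  rw [← e2]
  refine sq_conj ?_
  have e' : h' * nWordGL hG2 (1 :: [0, 1, 0, 1, 0]) =
      n * (h * nWordGL hG2 [0, 1, 0, 1, 0, 1]) * n⁻¹ := e.symm
  rw [e']
  exact sq_conj hk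

end w0cases

end Cfsg.Agent.Helper8.G2Odd
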