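import Mathlib
import Cfsg.Agent.Helper8.G2OddE
import Cfsg.Agent.Helper7.ChevSub2

set_option autoImplicit false
set_option linter.unusedSectionVars false
set_option linter.unusedVariables false

/-!
Involutions of the monomial subgroup `N` of a Chevalley group over a field of odd characteristic:
conjugation of `h n_w` by the elements of `N`, peeling a fundamental reflection off the word when the
scalar of the swapping action is a square, and a criterion for this scalar to be a square.
-/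

namespace Cfsg.Agent.Helper8.ChevOdd

open Cfsg Cfsg.Lie Matrix Cfsg.Agent.Helper7 Cfsg.Agent.Helper7.Chev Cfsg.Agent.Helper8.G2Odd

variable {D : ChevalleyDatum} {F : Type*} [Field F]

/-- The element is conjugate in the Chevalley group to an element of `H`. -/
def ConjD (D : ChevalleyDatum) {F : Type*} [Field F] (k : GL D.Idx F) : Prop :=
  ∃ g ∈ D.group F, g * k * g⁻¹ ∈ D.diagonalSubgroup F

theorem ConjD.of_conj {k k' g : GL D.Idx F} (hg : g ∈ D.group F) (e : g * k * g⁻¹ = k')
    (h : ConjD D k') : ConjD D k := by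
  obtain ⟨g', hg', hmem⟩ := h
  refine ⟨g' * g, mul_mem hg' hg, ?_⟩
  have : g' * g * k * (g' * g)⁻¹ = g' * (g * k * g⁻¹) * g'⁻¹ := by group
  rw [this, e]
  exact hmem

theorem ConjD.of_mem {k : GL D.Idx F} (h : k ∈ D.diagonalSubgroup F) : ConjD D k :=
  ⟨1, one_mem _, by rwa [one_mul, inv_one, mul_one]⟩

section gen

variable (hG : Good2 D)

include hG in
/-- Conjugation of `h n_w` by `n_i`. -/
theorem conj_letter {h : GL D.Idx F} (hh : h ∈ D.diagonalSubgroup F) {i : ℕ} (hi : i < D.rank)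
    (w : List ℕ) :
    ∃ h' ∈ D.diagonalSubgroup F,
      nGL hG.toGood1 (hG.toGood1.simple_lt hi) * (h * nWordGL hG w) *
        (nGL hG.toGood1 (hG.toGood1.simple_lt hi))⁻¹ = h' * nWordGL hG (i :: (w ++ [i])) := by
  have hG1 := hG.toGood1
  have hp := hG1.simple_lt hi
  set n := nGL (F := F) hG1 hp with hn
  have hnN := monomialSubgroup_le_normalizer (F := F) hG (nGL_mem_monomial hG hp)
  have em : (nWordGL hG (i :: (w ++ [i])) : GL D.Idx F) = n * nWordGL hG w * n := by
    rw [nWordGL_cons hG hi, nWordGL_append, nWordGL_cons hG hi, nWordGL_nil, mul_one, ← hn,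
      mul_assoc]
  set m := nWordGL (F := F) hG (i :: (w ++ [i])) with hm
  refine ⟨(n * h * n⁻¹) * (m * (n * n)⁻¹ * m⁻¹), ?_, ?_⟩
  · exact mul_mem (conj_mem_diagonal hnN hh)
      (conj_mem_diagonal (nWordGL_mem_normalizer hG _) (inv_mem (nGL_sq_mem hG hp)))
  · rw [em]
    group

include hG in
/-- Conjugation of `h n_w` by `n_v`. -/
theorem conj_word (v : List ℕ) (hv : ∀ i ∈ v, i < D.rank) :
    ∀ {h : GL D.Idx F}, h ∈ D.diagonalSubgroup F → ∀ w : List ℕ,
    ∃ h' ∈ D.diagonalSubgroup F,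
      nWordGL hG v * (h * nWordGL hG w) * (nWordGL hG v)⁻¹ =
        h' * nWordGL hG (v ++ w ++ v.reverse) := by
  induction v with
  | nil =>
    intro h hh w
    refine ⟨h, hh, ?_⟩
    rw [nWordGL_nil, one_mul, inv_one, mul_one, List.nil_append, List.reverse_nil,
      List.append_nil]
  | cons i v ih =>
    intro h hh w
    have hi : i < D.rank := hv i List.mem_cons_self
    have hv' : ∀ j ∈ v, j < D.rank := fun j hj => hv j (List.mem_cons_of_mem _ hj)
    obtain ⟨h1, hh1, e1⟩ := ih hv' hh w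
    obtain ⟨h2, hh2, e2⟩ := conj_letter hG hh1 hi (v ++ w ++ v.reverse)
    refine ⟨h2, hh2, ?_⟩
    have el : (i :: v) ++ w ++ (i :: v).reverse = i :: ((v ++ w ++ v.reverse) ++ [i]) := by
      simp [List.reverse_cons, List.append_assoc]
    rw [el, ← e2, ← e1, nWordGL_cons hG hi]
    group

include hG in
/-- Peeling: if `h n_w` swaps the root subgroups of `± p_i` with a square scalar then it is conjugate
to an element `h' n_{i w}`. -/
theorem peel_at {h : GL D.Idx F} (hh : h ∈ D.diagonalSubgroup F) {i : ℕ} (hi : i < D.rank)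
    (w : List ℕ) {f : F} (hf : f ≠ 0) (h2 : (2 : F) ≠ 0)
    (hact : SwapAct hG.toGood1 (hG.toGood1.simple_lt hi) (h * nWordGL hG w) (f * f)) :
    ∃ g ∈ D.group F, ∃ h' ∈ D.diagonalSubgroup F,
      g * (h * nWordGL hG w) * g⁻¹ = h' * nWordGL hG (i :: w) := by
  have hG1 := hG.toGood1
  have hp := hG1.simple_lt hi
  refine ⟨phiHom hG1 hp (diagP f hf h2), phiHom_mem_group hG hp _, ?_⟩
  rw [hact.split hG1 hp hf h2, nWordGL_cons hG hi]
  set n := nGL (F := F) hG1 hp with hn
  refine ⟨hGL hG1 hp f hf * (n * h * n⁻¹), ?_, by group⟩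
  exact mul_mem (G2Odd.hGL_mem_diagonal hG hp f hf)
    (conj_mem_diagonal (monomialSubgroup_le_normalizer hG (nGL_mem_monomial hG hp)) hh)

/-- Peeling with a square scalar given as such. -/
theorem peel_at' {h : GL D.Idx F} (hh : h ∈ D.diagonalSubgroup F) {i : ℕ} (hi : i < D.rank)
    (w : List ℕ) {b : F} (hb : b ≠ 0) (hsq : IsSquare b) (h2 : (2 : F) ≠ 0)
    (hact : SwapAct hG.toGood1 (hG.toGood1.simple_lt hi) (h * nWordGL hG w) b) :
    ∃ g ∈ D.group F, ∃ h' ∈ D.diagonalSubgroup F,
      g * (h * nWordGL hG w) * g⁻¹ = h' * nWordGL hG (i :: w) := by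
  obtain ⟨f, rfl⟩ := hsq
  have hf : f ≠ 0 := by
    rintro rfl
    exact hb (mul_zero _)
  exact peel_at hG hh hi w hf h2 hact

end gen

end Cfsg.Agent.Helper8.ChevOdd
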