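import Mathlib
import Cfsg.Agent.Helper8.ChevOddA

set_option autoImplicit false
set_option linter.unusedSectionVars false
set_option linter.unusedVariables false

/-!
Involutions `h n_w` of the monomial subgroup: the relation between the values of the torus part at
`s` and `w s`, and a criterion for the scalar of the swapping action at a fundamental root to be a
square.
-/

namespace Cfsg.Agent.Helper8.ChevOdd

open Cfsg Cfsg.Lie Matrix Cfsg.Agent.Helper7 Cfsg.Agent.Helper7.Chev Cfsg.Agent.Helper8.G2Odd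

variable {D : ChevalleyDatum} {F : Type*} [Field F]

/-- The product of the powers `c_m ^ e_m`. -/
def tQ (D : ChevalleyDatum) (c : ℕ → F) (e : ℕ → ℤ) : F :=
  ((List.range D.rank).map (fun i => c i ^ e i)).prod

theorem tQ_ne_zero (c : ℕ → F) (hc : ∀ i < D.rank, c i ≠ 0) (e : ℕ → ℤ) : tQ D c e ≠ 0 := by
  unfold tQ
  apply List.prod_ne_zero
  intro h0
  rw [List.mem_map] at h0
  obtain ⟨i, hi, e'⟩ := h0
  exact zpow_ne_zero _ (hc i (List.mem_range.mp hi)) e'

/-- Multiplicativity of the values of a torus element along an integral relation of the Cartan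
integers. -/
theorem tE_rel (c : ℕ → F) (hc : ∀ i < D.rank, c i ≠ 0) {a b p : ℕ} (e : ℕ → ℤ)
    (h : ∀ m < D.rank, D.cartan m a + D.cartan m b = D.cartan m p + 2 * e m) :
    tE D c a * tE D c b = tE D c p * (tQ D c e * tQ D c e) := by
  unfold tE tQ
  rw [← List.prod_map_mul, ← List.prod_map_mul, ← List.prod_map_mul]
  congr 1
  apply List.map_congr_left
  intro m hm
  have hm' := List.mem_range.mp hm
  have hcm := hc m hm'
  rw [← zpow_add₀ hcm, ← zpow_add₀ hcm, ← zpow_add₀ hcm, h m hm']
  congr 1
  ring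

section gen

variable (hG : Good2 D) (hT : T0 D) (h8 : (tabOf D).T8)

include hG hT h8 in
/-- The relation between the values at `s` and `w s` of the torus part of an involution `h n_w`. -/
theorem sq_relation {h : GL D.Idx F} {c : ℕ → F} (hc : ∀ i < D.rank, c i ≠ 0)
    (hmat : (h : Matrix D.Idx D.Idx F) = tMat D c) {w : List ℕ} (hw : ∀ i ∈ w, i < D.rank)
    (hk : (h * nWordGL hG w) * (h * nWordGL hG w) = 1) {s : ℕ} (hs : s < D.nroots)
    (hws : (tabOf D).reflWord w ((tabOf D).reflWord w s) = s) :
    tE D c s * (((tabOf D).etaWord w ((tabOf D).reflWord w s) : ℤ) : F) *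
      (tE D c ((tabOf D).reflWord w s) * (((tabOf D).etaWord w s : ℤ) : F)) = 1 := by
  have hG1 := hG.toGood1
  have hs' := reflWord_lt hG hw hs
  have h1 := rep_conj_xGL (F := F) hG hc hmat hw hs (1 : F)
  have h2 := rep_conj_xGL (F := F) hG hc hmat hw hs'
    (tE D c ((tabOf D).reflWord w s) * ((((tabOf D).etaWord w s : ℤ) : F) * 1))
  have h3 := conj_conj_of_sq (x := xGL hG1 hs (1 : F)) hk
  rw [h1, h2, xGL_congr hG hws (reflWord_lt hG hw hs') hs] at h3
  have h4 := xGL_injective hG hT h8 hs h3
  rw [hws] at h4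
  rw [← h4]
  ring

include hG hT h8 in
/-- A criterion for the scalar of the swapping action of an involution `h n_w` at the root `p` to be
a square. -/
theorem auto_square {h : GL D.Idx F} {c : ℕ → F} (hc : ∀ i < D.rank, c i ≠ 0)
    (hmat : (h : Matrix D.Idx D.Idx F) = tMat D c) {w : List ℕ} (hw : ∀ i ∈ w, i < D.rank)
    (hk : (h * nWordGL hG w) * (h * nWordGL hG w) = 1) {s p : ℕ} (hs : s < D.nroots)
    (hp : p < D.nroots)
    (hws : (tabOf D).reflWord w ((tabOf D).reflWord w s) = s)
    (hpar : ∀ m < D.rank,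
      (D.cartan m s + D.cartan m ((tabOf D).reflWord w s) - D.cartan m p) % 2 = 0)
    (hsign : (tabOf D).etaWord w s * (tabOf D).etaWord w ((tabOf D).reflWord w s) *
      (tabOf D).etaWord w p = 1) :
    IsSquare (tE D c p * (((tabOf D).etaWord w p : ℤ) : F)) := by
  have hs' := reflWord_lt hG hw hs
  have hR := sq_relation hG hT h8 hc hmat hw hk hs hws
  set e : ℕ → ℤ := fun m =>
    (D.cartan m s + D.cartan m ((tabOf D).reflWord w s) - D.cartan m p) / 2 with he
  have hrel : ∀ m < D.rank, D.cartan m s + D.cartan m ((tabOf D).reflWord w s) =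
      D.cartan m p + 2 * e m := by
    intro m hm
    have := Int.mul_ediv_cancel' (Int.dvd_of_emod_eq_zero (hpar m hm))
    rw [he]
    simp only
    rw [this]
    ring
  have hP := tE_rel c hc e hrel
  have hQ := tQ_ne_zero (D := D) c hc e
  have hS : (((tabOf D).etaWord w s : ℤ) : F) *
      (((tabOf D).etaWord w ((tabOf D).reflWord w s) : ℤ) : F) *
      (((tabOf D).etaWord w p : ℤ) : F) = 1 := by
    rw [← Int.cast_mul, ← Int.cast_mul, hsign, Int.cast_one]
  have hEp := etaWord_cast_mul_self (F := F) hG hw hp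
  set Es : F := (((tabOf D).etaWord w s : ℤ) : F)
  set Ews : F := (((tabOf D).etaWord w ((tabOf D).reflWord w s) : ℤ) : F)
  set Ep : F := (((tabOf D).etaWord w p : ℤ) : F)
  set Q := tQ D c e
  refine ⟨Q⁻¹, ?_⟩
  have key : tE D c p * Ep * (Q * Q) = 1 := by
    have : tE D c p * (Q * Q) * (Es * Ews) = 1 := by
      rw [← hP, ← hR]
      ring
    linear_combination (-(tE D c p * Q * Q * Ep)) * hS + (Ep * Ep) * this + hEp
  field_simp
  linear_combination key

end gen

end Cfsg.Agent.Helper8.ChevOdd
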