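import Mathlib
import Cfsg.Agent.Helper8.G2OddC
import Cfsg.Agent.Helper7.ChevMinus
import Cfsg.Agent.Helper7.ChevCount

set_option autoImplicit false
set_option linter.unusedSectionVars false
set_option linter.unusedVariables false

/-!
The centralizer of an element of `H` in a Chevalley group, in terms of the normal form `u h n_w u'`.
-/

namespace Cfsg.Agent.Helper8.G2Cz

open Cfsg Cfsg.Lie Matrix Cfsg.Agent.Helper7 Cfsg.Agent.Helper7.Chev Cfsg.Agent.Helper8.G2Odd

variable {D : ChevalleyDatum} {F : Type*} [Field F]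

section torus

variable (hG : Good2 D) {z : GL D.Idx F} {c : ℕ → F} (hc : ∀ i < D.rank, c i ≠ 0)
  (hz : (z : Matrix D.Idx D.Idx F) = tMat D c)

include hG hc hz in
/-- Conjugation by an element of `H` preserves the subgroups `U_{Ψ, ≥ k}`. -/
theorem torus_conj_mem_UgeS (Ψ : ℕ → Prop) (k : ℕ) {g : GL D.Idx F} (hg : g ∈ UgeS D F Ψ k) :
    z * g * z⁻¹ ∈ UgeS D F Ψ k := by
  unfold UgeS at hg ⊢
  induction hg using Subgroup.closure_induction with
  | mem x hx =>
    obtain ⟨r, t, hkr, hr, hrΨ, hx⟩ := hx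
    rw [eq_xGL hG.toGood1 hr hx, torus_conj_xGL hG hc hz hr]
    exact Subgroup.subset_closure ⟨r, _, hkr, hr, hrΨ, xGL_coe _ _ _⟩
  | one =>
    rw [mul_one, mul_inv_cancel]
    exact one_mem _
  | mul x y _ _ hx hy =>
    have : z * (x * y) * z⁻¹ = (z * x * z⁻¹) * (z * y * z⁻¹) := by group
    rw [this]
    exact mul_mem hx hy
  | inv x _ hx =>
    have : z * x⁻¹ * z⁻¹ = (z * x * z⁻¹)⁻¹ := by group
    rw [this]
    exact inv_mem hx

include hG hc hz in
/-- Conjugation of an ordered product of root elements by an element of `H`. -/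
theorem torus_conj_word (L : List ℕ) (t : ℕ → F) :
    z * ((L.map fun r => (r, t r)).map (xGL' hG.toGood1)).prod * z⁻¹ =
      ((L.map fun r => (r, tE D c r * t r)).map (xGL' hG.toGood1)).prod := by
  induction L with
  | nil => simp
  | cons r L ih =>
    simp only [List.map_cons, List.prod_cons]
    have : ∀ P : GL D.Idx F, z * (xGL' hG.toGood1 (r, t r) * P) * z⁻¹ =
        (z * xGL' hG.toGood1 (r, t r) * z⁻¹) * (z * P * z⁻¹) := by
      intro P; group
    rw [this, ih]
    congr 1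
    unfold xGL'
    by_cases h : r < D.nroots
    · rw [dif_pos h, dif_pos h]
      exact torus_conj_xGL hG hc hz h _
    · rw [dif_neg h, dif_neg h]
      group

include hG hc hz in
/-- The elements of `U_{Ψ'}` fixed by an element of `H`. -/
theorem UgeS_fixed_iff (hT : T0 D) (h3 : (tabOf D).T3) (h4 : (tabOf D).T4 60) (h7 : (tabOf D).T7)
    (h8 : (tabOf D).T8) {Ψ' : ℕ → Prop} (hΨ' : ClosedSet D Ψ') {u : GL D.Idx F}
    (hu : u ∈ UgeS D F Ψ' (D.nroots / 2)) :
    z * u * z⁻¹ = u ↔ u ∈ UgeS D F (fun r => Ψ' r ∧ tE D c r = 1) (D.nroots / 2) := by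
  have hG1 := hG.toGood1
  constructor
  · intro hfix
    have hle : D.nroots / 2 ≤ D.nroots := Nat.div_le_self _ _
    set j := D.nroots - D.nroots / 2 with hj
    obtain ⟨t, ht0, ht⟩ := UgeS_word hG hT h3 h4 h7 hΨ' j (D.nroots / 2) (by omega) le_rfl u hu
    have hu' : u = (((List.range' (D.nroots / 2) j).map fun r => (r, t r)).map (xGL' hG1)).prod := by
      apply Units.ext
      rw [ht, wordGL_coe]
    have hconj := torus_conj_word hG hc hz (List.range' (D.nroots / 2) j) t
    rw [← hu', hfix] at hconj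
    have hmat : D.wordMat F ((List.range' (D.nroots / 2) j).map fun r => (r, t r)) =
        D.wordMat F ((List.range' (D.nroots / 2) j).map fun r => (r, tE D c r * t r)) := by
      rw [← ht, hconj, wordGL_coe]
    have huniq := word_unique hG hT h8 j (D.nroots / 2) (by omega) le_rfl _ _ hmat
    set t' : ℕ → F := fun r => if D.nroots / 2 ≤ r ∧ r < D.nroots then t r else 0 with ht'
    have hu'' : u = (((List.range' (D.nroots / 2) j).map fun r => (r, t' r)).map (xGL' hG1)).prod := by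
      rw [hu']
      congr 2
      apply List.map_congr_left
      intro r hr
      rw [List.mem_range'_1] at hr
      simp only [ht']
      rw [if_pos ⟨hr.1, by omega⟩]
    rw [hu'']
    apply wordGL_mem_UgeS hG _ _ (by omega)
    intro r hr
    simp only [ht']
    by_cases hrr : D.nroots / 2 ≤ r ∧ r < D.nroots
    · rw [if_pos hrr]
      by_cases hΨr : Ψ' r
      · have hne : tE D c r ≠ 1 := fun h => hr ⟨hΨr, h⟩
        have he := huniq r (by rw [List.mem_range'_1]; omega)
        have : (tE D c r - 1) * t r = 0 := by rw [sub_mul, one_mul, ← he, sub_self]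
        rcases mul_eq_zero.mp this with h | h
        · exact absurd (sub_eq_zero.mp h) hne
        · exact h
      · exact ht0 r hΨr
    · rw [if_neg hrr]
  · intro hmem
    have hle : UgeS D F (fun r => Ψ' r ∧ tE D c r = 1) (D.nroots / 2) ≤
        Subgroup.centralizer ({z} : Set (GL D.Idx F)) := by
      unfold UgeS
      rw [Subgroup.closure_le]
      rintro x ⟨r, t, _, hr, ⟨_, hr1⟩, hx⟩
      rw [SetLike.mem_coe, Subgroup.mem_centralizer_iff]
      intro y hy
      rw [Set.mem_singleton_iff] at hy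
      subst hy
      have := torus_conj_xGL hG hc hz hr t
      rw [hr1, one_mul, mul_inv_eq_iff_eq_mul] at this
      rw [eq_xGL hG1 hr hx]
      exact this
    have := Subgroup.mem_centralizer_iff.mp (hle hmem) z rfl
    rw [this]
    group

end torus

section normalform

variable (hG : Good2 D) (hT : T0 D) (h3 : (tabOf D).T3) (h4 : (tabOf D).T4 60) (h5 : (tabOf D).T5)
  (h6 : (tabOf D).T6) (h8 : (tabOf D).T8) (h9 : (tabOf D).T9)
  {W : List (List ℕ)} (hW : WList D W)

include hG in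
theorem diagonal_commute {a b : GL D.Idx F} (ha : a ∈ D.diagonalSubgroup F)
    (hb : b ∈ D.diagonalSubgroup F) : a * b = b * a := by
  obtain ⟨c, -, hc⟩ := diagonalSubgroup_torus hG.toGood1 ha
  obtain ⟨c', -, hc'⟩ := diagonalSubgroup_torus hG.toGood1 hb
  apply Units.ext
  rw [Units.val_mul, Units.val_mul, hc, hc', tMat_mul, tMat_mul]
  congr 1
  funext i
  exact mul_comm _ _

include hG hT h3 h4 h5 h6 h8 h9 hW in
/-- The elements in normal form commuting with an element of `H`. -/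
theorem cent_normal_form {z : GL D.Idx F} (hz : z ∈ D.diagonalSubgroup F) {w : List ℕ}
    (hwW : w ∈ W) {u₁ h₁ u : GL D.Idx F} (hu₁ : u₁ ∈ D.posUnipotent F)
    (hh₁ : h₁ ∈ D.diagonalSubgroup F) (hu : u ∈ Subgroup.closure (minusGen D F w)) :
    z * (u₁ * h₁ * nWordGL hG w * u) * z⁻¹ = u₁ * h₁ * nWordGL hG w * u ↔
      (z * u₁ * z⁻¹ = u₁ ∧ z * nWordGL hG w * z⁻¹ = nWordGL hG w ∧ z * u * z⁻¹ = u) := by
  have hG1 := hG.toGood1
  obtain ⟨c, hc, hzc⟩ := diagonalSubgroup_torus hG1 hz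
  set n := nWordGL (F := F) hG w with hn
  have hzh : z * h₁ * z⁻¹ = h₁ := by
    rw [diagonal_commute hG hz hh₁]; group
  constructor
  · intro e
    -- the element `z n z⁻¹ n⁻¹` of `H`
    set h' := z * (n * z⁻¹ * n⁻¹) with hh'
    have hh'H : h' ∈ D.diagonalSubgroup F :=
      mul_mem hz (conj_mem_diagonal (nWordGL_mem_normalizer hG w) (inv_mem hz))
    have hUz : z * u₁ * z⁻¹ ∈ D.posUnipotent F :=
      (Subgroup.mem_set_normalizer_iff.mp (diagonalSubgroup_le_normalizer_pos hG hz) u₁).mp hu₁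
    have hu' : z * u * z⁻¹ ∈ Subgroup.closure (minusGen D F w) := by
      rw [closure_minusGen_eq hT] at hu ⊢
      exact torus_conj_mem_UgeS hG hc hzc _ _ hu
    have hb : u₁ * h₁ ∈ D.borelSubgroup F :=
      mul_mem (Subgroup.mem_sup_left hu₁) (Subgroup.mem_sup_right hh₁)
    have hb' : (z * u₁ * z⁻¹) * (h₁ * h') ∈ D.borelSubgroup F :=
      mul_mem (Subgroup.mem_sup_left hUz) (Subgroup.mem_sup_right (mul_mem hh₁ hh'H))
    have e' : (z * u₁ * z⁻¹) * (h₁ * h') * n * (z * u * z⁻¹) = u₁ * h₁ * n * u := by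
      rw [← e, hh']
      have : z * (u₁ * h₁ * n * u) * z⁻¹ =
          (z * u₁ * z⁻¹) * (z * h₁ * z⁻¹) * (z * (n * z⁻¹ * n⁻¹)) * n * (z * u * z⁻¹) := by group
      rw [this, hzh]
      group
    obtain ⟨-, hbb, huu⟩ := normal_form_unique (F := F) hG hT h3 h4 h5 h6 h8 h9 hW hwW hwW hb' hb
      hu' hu e'
    have hmem : u₁⁻¹ * (z * u₁ * z⁻¹) ∈ D.posUnipotent F ⊓ D.diagonalSubgroup F := by
      refine Subgroup.mem_inf.mpr ⟨mul_mem (inv_mem hu₁) hUz, ?_⟩
      have : u₁⁻¹ * (z * u₁ * z⁻¹) = h₁ * (h₁ * h')⁻¹ := by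
        calc u₁⁻¹ * (z * u₁ * z⁻¹) = u₁⁻¹ * ((z * u₁ * z⁻¹) * (h₁ * h')) * (h₁ * h')⁻¹ := by group
          _ = u₁⁻¹ * (u₁ * h₁) * (h₁ * h')⁻¹ := by rw [hbb]
          _ = _ := by group
      rw [this]
      exact mul_mem hh₁ (inv_mem (mul_mem hh₁ hh'H))
    rw [posUnipotent_inf_diagonal hG hT, Subgroup.mem_bot] at hmem
    have h1 : z * u₁ * z⁻¹ = u₁ := (inv_mul_eq_one.mp hmem).symm
    refine ⟨h1, ?_, huu⟩
    rw [h1] at hbb
    have h2 : h' = 1 := by
      have := mul_left_cancel hbb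
      exact mul_left_cancel (this.trans (mul_one h₁).symm)
    have : z * n * z⁻¹ = h' * n := by rw [hh']; group
    rw [this, h2, one_mul]
  · rintro ⟨e1, e2, e3⟩
    have : z * (u₁ * h₁ * n * u) * z⁻¹ =
        (z * u₁ * z⁻¹) * (z * h₁ * z⁻¹) * (z * n * z⁻¹) * (z * u * z⁻¹) := by group
    rw [this, e1, hzh, e2, e3]

end normalform

end Cfsg.Agent.Helper8.G2Cz
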