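import Mathlib
import Cfsg.Agent.Helper8.G2OddT
import Cfsg.Agent.Helper7.ChevComm

set_option autoImplicit false

/-!
Table facts of type `G₂` used for the centralizer of an involution.
-/

namespace Cfsg.Agent.Helper8.G2Cz

open Cfsg Cfsg.Lie Cfsg.Agent.Helper7 Cfsg.Agent.Helper7.Chev

/-- The words of the list fixing the roots `±8`. -/
def cWords : List (List ℕ) := [[], [0, 1, 0], [1, 0, 1], [0, 1, 0, 1, 0, 1]]

/-- The facts used for the centralizer of `h_8(-1)`. -/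
def FactsZ (T : Tab) : Prop :=
  T.cartan 0 11 = 0 ∧ T.cartan 1 11 = 1 ∧ T.cr 3 0 = -1 ∧ T.cr 3 1 = -3 ∧
  T.neg 7 = 4 ∧ T.neg 9 = 2 ∧ T.neg 8 = 3 ∧
  T.reflWord [] 8 = 8 ∧ T.reflWord [0, 1, 0] 8 = 8 ∧ T.reflWord [1, 0, 1] 8 = 3 ∧
  T.reflWord [0, 1, 0, 1, 0, 1] 8 = 3 ∧ T.commTerms 8 10 = [] ∧
  (∀ w ∈ wL_G2, w ∈ cWords ∨ T.reflWord w 8 ∈ [7, 9, 4, 2])

/-- The roots `8`, `10` made negative by the words fixing `±8`. -/
def FactsM (T : Tab) : Prop :=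
  (∀ r < 12, 6 ≤ r → ((T.reflWord [] r < 6 ∧ (r = 8 ∨ r = 10)) ↔ False)) ∧
  (∀ r < 12, 6 ≤ r → ((T.reflWord [0, 1, 0] r < 6 ∧ (r = 8 ∨ r = 10)) ↔ r = 10)) ∧
  (∀ r < 12, 6 ≤ r → ((T.reflWord [1, 0, 1] r < 6 ∧ (r = 8 ∨ r = 10)) ↔ r = 8)) ∧
  (∀ r < 12, 6 ≤ r → ((T.reflWord [0, 1, 0, 1, 0, 1] r < 6 ∧ (r = 8 ∨ r = 10)) ↔
    (r = 8 ∨ r = 10)))

set_option maxRecDepth 1000000 in
set_option synthInstance.maxSize 2000 in
theorem factsZ_fast : FactsZ fastG2 := by unfold FactsZ; decide +kernel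

theorem factsZ : FactsZ (tabOf chevG2) := tab_G2 ▸ factsZ_fast

set_option maxRecDepth 1000000 in
set_option synthInstance.maxSize 2000 in
theorem factsM_fast : FactsM fastG2 := by unfold FactsM; decide +kernel

theorem factsM : FactsM (tabOf chevG2) := tab_G2 ▸ factsM_fast

theorem cWords_sub : ∀ w ∈ cWords, w ∈ wL_G2 := by decide

end Cfsg.Agent.Helper8.G2Cz
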