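import Mathlib
import Cfsg.Agent.Helper8.G2OddE

set_option autoImplicit false
set_option linter.unusedSectionVars false
set_option linter.unusedVariables false

/-!
In `G₂(q)`, `q` odd, every involution of `N` is conjugate to an element of `H`: the last case of the
longest word, and the conclusion.
-/

namespace Cfsg.Agent.Helper8.G2Odd

open Cfsg Cfsg.Lie Matrix Cfsg.Agent.Helper7 Cfsg.Agent.Helper7.Chev

variable {F : Type*} [Field F]

/-- Case D: the scalar at the long fundamental root and `-1` are both nonsquares. -/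
theorem conjH_w0_D [Fintype F] (hodd : Fintype.card F % 2 = 1) (h2 : (2 : F) ≠ 0)
    {h : GL chevG2.Idx F} (hh : h ∈ chevG2.diagonalSubgroup F)
    {c : ℕ → F} (hc : ∀ i < chevG2.rank, c i ≠ 0)
    (hmat : (h : Matrix chevG2.Idx chevG2.Idx F) = tMat chevG2 c)
    (hk : (h * nWordGL hG2 [0, 1, 0, 1, 0, 1]) * (h * nWordGL hG2 [0, 1, 0, 1, 0, 1]) = 1)
    (hP : InvW F [0, 1, 0, 1, 0]) (h6 : ¬IsSquare (B6 c)) (hm1 : ¬IsSquare (-1 : F)) :
    ConjH (h * nWordGL hG2 [0, 1, 0, 1, 0, 1]) := by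
  have hr : chevG2.simple 0 < chevG2.nroots := hG1.simple_lt lt0
  have hB7 : B7 c ≠ 0 := B7_ne_zero hc hmat
  have hm10 : (-1 : F) ≠ 0 := neg_ne_zero.mpr one_ne_zero
  obtain ⟨X, hX⟩ := SwapAct.flip hG1 hr hodd hB7 (swap_w0_7 hc hmat)
  set hm := hGL (F := F) hG1 hr (-1) hm10 with hhm
  have hmd : hm ∈ chevG2.diagonalSubgroup F := hGL_mem_diagonal hG2 hr _ _
  have hXG : phiHom hG1 hr X ∈ chevG2.group F := phiHom_mem_group hG2 hr X
  have e3 : phiHom hG1 hr X * (h * nWordGL hG2 [0, 1, 0, 1, 0, 1]) * (phiHom hG1 hr X)⁻¹ =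
      (hm * h) * nWordGL hG2 [0, 1, 0, 1, 0, 1] := by
    rw [hX, mul_assoc]
  have hmat' : ((hm * h : GL chevG2.Idx F) : Matrix chevG2.Idx chevG2.Idx F) =
      tMat chevG2 (fun i => (-1 : F) ^ cr chevG2 (chevG2.simple 0) i * c i) := by
    rw [Units.val_mul, hGL_coe, hmat, hMat_eq_tMat hG1 hr hm10, tMat_mul]
  have hc' : ∀ i < chevG2.rank, (-1 : F) ^ cr chevG2 (chevG2.simple 0) i * c i ≠ 0 :=
    fun i hi => mul_ne_zero (zpow_ne_zero _ hm10) (hc i hi)
  obtain ⟨-, -, -, -, -, -, -, -, -, -, -, cr70, cr71, -⟩ := factsC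
  have cr70' : cr chevG2 7 0 = 1 := cr70
  have cr71' : cr chevG2 7 1 = 0 := cr71
  have hsq : IsSquare (B6 (fun i => (-1 : F) ^ cr chevG2 (chevG2.simple 0) i * c i)) := by
    have e : B6 (fun i => (-1 : F) ^ cr chevG2 (chevG2.simple 0) i * c i) = (-1) * B6 c := by
      unfold B6
      simp only [simple0, cr70', cr71', zpow_one, zpow_zero, one_mul, neg_mul]
      have h0 := hc 0 lt0
      field_simp
    rw [e]
    exact isSquare_mul_of_not hm1 h6
  refine ConjH.of_conj hXG e3 (conjH_w0_B h2 (mul_mem hmd hh) hc' hmat' ?_ hP hsq)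
  rw [← e3]
  exact sq_conj hk

/-- The involutions over the longest word. -/
theorem invW_w0 [Fintype F] (hodd : Fintype.card F % 2 = 1) (h2 : (2 : F) ≠ 0) :
    InvW F [0, 1, 0, 1, 0, 1] := by
  intro h hh hk
  have hPa := invW_10101 h2
  have hPb := invW_01010 h2
  obtain ⟨c, hc, hmat⟩ := diagonalSubgroup_torus hG1 hh
  by_cases hA : IsSquare (B7 c)
  · exact conjH_w0_A h2 hh hc hmat hk hPa hA
  by_cases hB : IsSquare (B6 c)
  · exact conjH_w0_B h2 hh hc hmat hk hPb hB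
  by_cases hC : IsSquare (-1 : F)
  · refine conjH_w0_C h2 hh hc hmat hk hPb ?_
    have e : B10 c = (-1) * (B7 c * B6 c) * ((c 0 ^ 2 * (c 1)⁻¹) * (c 0 ^ 2 * (c 1)⁻¹)) := by
      unfold B10 B7 B6
      have h0 := hc 0 lt0
      have h1 := hc 1 lt1
      field_simp
    rw [e]
    exact (hC.mul (isSquare_mul_of_not hA hB)).mul ⟨_, rfl⟩
  · exact conjH_w0_D hodd h2 hh hc hmat hk hPb hB hC

/-- Over a finite field of odd order, every involution of `N` is conjugate to an element of `H`. -/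
theorem conjH_of_mem_monomial [Fintype F] (hodd : Fintype.card F % 2 = 1) (h2 : (2 : F) ≠ 0)
    {k : GL chevG2.Idx F} (hk : k ∈ chevG2.monomialSubgroup F) (hkk : k * k = 1) : ConjH k := by
  obtain ⟨w, hwW, h, hh, rfl⟩ := exists_rep (F := F) hG2 T0_G2 T6_G2 T8_G2 T9_G2 wList_G2 hk
  have hw := (wList_G2.ok w hwW).1
  have hww : ∀ i ∈ w ++ w, i < chevG2.rank := by
    intro i hi
    rcases List.mem_append.mp hi with hi | hi <;> exact hw i hi
  have hmem : (nWordGL hG2 (w ++ w) : GL chevG2.Idx F) ∈ chevG2.borelSubgroup F := by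
    rw [nWordGL_append]
    set n := nWordGL (F := F) hG2 w with hn
    have e : n * n = (n * h * n⁻¹)⁻¹ * h⁻¹ := by
      calc n * n = n * h⁻¹ * (h * n * (h * n)) * n⁻¹ * h⁻¹ := by group
        _ = n * h⁻¹ * 1 * n⁻¹ * h⁻¹ := by rw [hkk]
        _ = (n * h * n⁻¹)⁻¹ * h⁻¹ := by group
    rw [e]
    exact Subgroup.mem_sup_right (mul_mem
      (inv_mem (conj_mem_diagonal (nWordGL_mem_normalizer hG2 w) hh)) (inv_mem hh))
  have hpos := reflWord_pos_of_mem_borel (F := F) hG2 T0_G2 T8_G2 hww hmem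
  have hinv := inv_words w hwW (fun s hs h6 => hpos s hs h6)
  simp only [invWords, List.mem_cons, List.not_mem_nil, or_false] at hinv
  rcases hinv with rfl | rfl | rfl | rfl | rfl | rfl | rfl | rfl
  · exact invW_nil h hh hkk
  · exact invW_0 h2 h hh hkk
  · exact invW_1 h2 h hh hkk
  · exact invW_010 h2 h hh hkk
  · exact invW_101 h2 h hh hkk
  · exact invW_01010 h2 h hh hkk
  · exact invW_10101 h2 h hh hkk
  · exact invW_w0 hodd h2 h hh hkk

end Cfsg.Agent.Helper8.G2Odd
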