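import Mathlib
import Cfsg.Agent.Helper8.G2OddF
import Cfsg.Agent.Helper7.ChevConj
import Cfsg.Agent.Helper7.ChevT3G2
import Cfsg.Agent.Helper7.ChevT5
import Cfsg.Agent.Helper7.ChevT6
import Cfsg.Agent.Helper7.ChevT7
import Cfsg.Agent.Helper7.ChevT9

set_option autoImplicit false
set_option linter.unusedSectionVars false
set_option linter.unusedVariables false

/-!
In `G₂(q)`, `q` odd, all the involutions are conjugate: the involutions of `H` and the conclusion.
-/

namespace Cfsg.Agent.Helper8.G2Odd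

open Cfsg Cfsg.Lie Matrix Cfsg.Agent.Helper7 Cfsg.Agent.Helper7.Chev

variable {F : Type*} [Field F]

theorem neg_one_ne_zero' : (-1 : F) ≠ 0 := neg_ne_zero.mpr one_ne_zero

theorem lt6 : 6 < chevG2.nroots := by decide
theorem lt7 : 7 < chevG2.nroots := by decide
theorem lt8 : 8 < chevG2.nroots := by decide
theorem lt9 : 9 < chevG2.nroots := by decide

/-- The representative of the class of involutions: `h_8(-1)`. -/
noncomputable def zG2 (F : Type*) [Field F] : GL chevG2.Idx F :=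
  hGL hG1 lt8 (-1 : F) neg_one_ne_zero'

/-- Conjugation of `h_r(t)` by the fundamental `n_i`. -/
theorem conj_hGL {i : ℕ} (hi : i < chevG2.rank) {r r' : ℕ} (hr : r < chevG2.nroots)
    (hr' : r' < chevG2.nroots) (e : (tabOf chevG2).refl (chevG2.simple i) r = r') {t : F}
    (ht : t ≠ 0) :
    nGL hG1 (hG1.simple_lt hi) * hGL hG1 hr t ht * (nGL hG1 (hG1.simple_lt hi))⁻¹ =
      hGL hG1 hr' t ht := by
  rw [mul_inv_eq_iff_eq_mul]
  apply Units.ext
  rw [Units.val_mul, Units.val_mul, nGL_coe, hGL_coe, hGL_coe, nMat_mul_hMat hG2 hi hr ht, e]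

/-- An element of `H` with parameters `±1` matching those of `h_r(-1)`. -/
theorem eq_hGL_of_params {h : GL chevG2.Idx F} {c : ℕ → F}
    (hmat : (h : Matrix chevG2.Idx chevG2.Idx F) = tMat chevG2 c) {r : ℕ}
    (hr : r < chevG2.nroots) (e0 : c 0 = (-1 : F) ^ cr chevG2 r 0)
    (e1 : c 1 = (-1 : F) ^ cr chevG2 r 1) : h = hGL hG1 hr (-1 : F) neg_one_ne_zero' := by
  apply Units.ext
  rw [hmat, hGL_coe, hMat_eq_tMat hG1 hr neg_one_ne_zero']
  apply tMat_congr
  intro i hi
  have : chevG2.rank = 2 := rfl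
  rw [this] at hi
  interval_cases i
  · exact e0
  · exact e1

/-- The involutions of `H` are conjugate to `h_8(-1)`. -/
theorem hinv_conj_z {h : GL chevG2.Idx F} (hh : h ∈ chevG2.diagonalSubgroup F) (hk : h * h = 1)
    (h1 : h ≠ 1) : ∃ g ∈ chevG2.group F, g * h * g⁻¹ = zG2 F := by
  obtain ⟨c, hc, hmat⟩ := diagonalSubgroup_torus hG1 hh
  have key : ∀ s (hs : s < 12), tE chevG2 c s * tE chevG2 c s = 1 := by
    intro s hs
    have a : ∀ t : F, h * xr s hs t * h⁻¹ = xr s hs (tE chevG2 c s * t) := fun t =>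
      torus_conj_xGL hG2 hc hmat (show s < chevG2.nroots from hs) t
    have e1 : xr s hs (tE chevG2 c s * (tE chevG2 c s * 1)) = xr s hs (1 : F) := by
      rw [← a, ← a]
      exact conj_conj_of_sq hk
    have := xr_inj hs e1
    rwa [mul_one] at this
  obtain ⟨-, -, -, -, -, c08, c18, c09, c19, -, -, cr70, cr71, cr60, cr61, cr80, cr81,
    cr100, cr101, r67, r76⟩ := factsC
  have c08' : chevG2.cartan 0 8 = -1 := c08
  have c18' : chevG2.cartan 1 8 = 1 := c18
  have c09' : chevG2.cartan 0 9 = 1 := c09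
  have c19' : chevG2.cartan 1 9 = 0 := c19
  have hc0 := hc 0 lt0
  have hc1 := hc 1 lt1
  have k9 := key 9 (by norm_num)
  have k8 := key 8 (by norm_num)
  rw [tE_G2, c09', c19', zpow_one, zpow_zero, mul_one] at k9
  rw [tE_G2, c08', c18', zpow_one, _root_.zpow_neg, zpow_one] at k8
  have k1 : c 1 * c 1 = 1 := by
    have : c 1 * c 1 = (c 0 * c 0) * ((c 0)⁻¹ * c 1 * ((c 0)⁻¹ * c 1)) := by
      field_simp
    rw [this, k9, k8, one_mul]
  have hnG : ∀ {i : ℕ} (hi : i < chevG2.rank),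
      (nGL hG1 (hG1.simple_lt hi) : GL chevG2.Idx F) ∈ chevG2.group F := fun hi =>
    monomialSubgroup_le_group hG1 (nGL_mem_monomial hG2 (hG1.simple_lt hi))
  have cr70' : cr chevG2 7 0 = 1 := cr70
  have cr71' : cr chevG2 7 1 = 0 := cr71
  have cr60' : cr chevG2 6 0 = 0 := cr60
  have cr61' : cr chevG2 6 1 = 1 := cr61
  have cr80' : cr chevG2 8 0 = 1 := cr80
  have cr81' : cr chevG2 8 1 = 3 := cr81
  have cr100' : cr chevG2 10 0 = 1 := cr100
  have cr101' : cr chevG2 10 1 = 1 := cr101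
  have m3 : (-1 : F) ^ (3 : ℤ) = -1 := by
    rw [zpow_ofNat]; ring
  rcases mul_self_eq_one_iff.mp k9 with h0 | h0 <;> rcases mul_self_eq_one_iff.mp k1 with h1' | h1'
  · exfalso
    apply h1
    apply Units.ext
    rw [hmat, Units.val_one, ← tMat_one (D := chevG2)]
    apply tMat_congr
    intro i hi
    have : chevG2.rank = 2 := rfl
    rw [this] at hi
    interval_cases i
    · exact h0
    · exact h1'
  · -- parameters `(1, -1)`: the element `h_6(-1)`
    have e6 : h = hGL hG1 lt6 (-1 : F) neg_one_ne_zero' :=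
      eq_hGL_of_params hmat lt6 (by rw [cr60', zpow_zero, h0]) (by rw [cr61', zpow_one, h1'])
    have e10 : zG2 F = hGL hG1 lt10 (-1 : F) neg_one_ne_zero' := by
      apply Units.ext
      unfold zG2
      rw [hGL_coe, hGL_coe, hMat_eq_tMat hG1 lt8 neg_one_ne_zero',
        hMat_eq_tMat hG1 lt10 neg_one_ne_zero']
      apply tMat_congr
      intro i hi
      have : chevG2.rank = 2 := rfl
      rw [this] at hi
      interval_cases i
      · rw [cr80', cr100']
      · rw [cr81', cr101', m3, zpow_one]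
    refine ⟨nGL hG1 (hG1.simple_lt lt0), hnG lt0, ?_⟩
    rw [e6, e10]
    refine conj_hGL lt0 lt6 lt10 ?_ neg_one_ne_zero'
    rw [simple0]
    exact r76
  · -- parameters `(-1, 1)`: the element `h_7(-1)`
    have e7 : h = hGL hG1 lt7 (-1 : F) neg_one_ne_zero' :=
      eq_hGL_of_params hmat lt7 (by rw [cr70', zpow_one, h0]) (by rw [cr71', zpow_zero, h1'])
    refine ⟨nGL hG1 (hG1.simple_lt lt1), hnG lt1, ?_⟩
    rw [e7]
    unfold zG2
    refine conj_hGL lt1 lt7 lt8 ?_ neg_one_ne_zero'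
    rw [simple1]
    exact r67
  · -- parameters `(-1, -1)`
    have e8 : h = hGL hG1 lt8 (-1 : F) neg_one_ne_zero' :=
      eq_hGL_of_params hmat lt8 (by rw [cr80', zpow_one, h0]) (by rw [cr81', m3, h1'])
    refine ⟨1, one_mem _, ?_⟩
    rw [one_mul, inv_one, mul_one, e8]
    rfl

/-- Over a finite field of odd order every involution of `G₂(q)` is conjugate to `h_8(-1)`. -/
theorem inv_conj_z [Fintype F] (hodd : Odd (Fintype.card F)) {t : GL chevG2.Idx F}
    (ht : t ∈ chevG2.group F) (ht2 : t * t = 1) (ht1 : t ≠ 1) :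
    ∃ g ∈ chevG2.group F, g * t * g⁻¹ = zG2 F := by
  have hcard : Fintype.card F % 2 = 1 := Nat.odd_iff.mp hodd
  have hch : ringChar F ≠ 2 := by
    intro h
    have := FiniteField.even_card_of_char_two h
    omega
  have h2 : (2 : F) ≠ 0 := Ring.two_ne_zero hch
  obtain ⟨g₁, hg₁, hN⟩ := inv_conj_monomial hG2 T0_G2 T3_G2 T4_G2 T5_G2 T6_G2 T7_G2 T8_G2 T9_G2
    hodd ht ht2
  obtain ⟨g₂, hg₂, hH⟩ := conjH_of_mem_monomial hcard h2 hN (sq_conj ht2)
  have hne : g₂ * (g₁ * t * g₁⁻¹) * g₂⁻¹ ≠ 1 := by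
    intro e
    apply ht1
    have : t = (g₂ * g₁)⁻¹ * (g₂ * (g₁ * t * g₁⁻¹) * g₂⁻¹) * (g₂ * g₁) := by group
    rw [this, e]
    group
  obtain ⟨g₃, hg₃, e⟩ := hinv_conj_z hH (sq_conj (sq_conj ht2)) hne
  refine ⟨g₃ * g₂ * g₁, mul_mem (mul_mem hg₃ hg₂) hg₁, ?_⟩
  rw [← e]
  group

end Cfsg.Agent.Helper8.G2Odd
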