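import Mathlib
import Cfsg.Agent.Helper8.G2CzA
import Cfsg.Agent.Helper8.G2CzT
import Cfsg.Agent.Helper8.G2OddG

set_option autoImplicit false
set_option linter.unusedSectionVars false
set_option linter.unusedVariables false

/-!
The element `z = h_8(-1)` of `G₂(q)`: its action on the root subgroups and the words commuting
with it.
-/

namespace Cfsg.Agent.Helper8.G2Cz

open Cfsg Cfsg.Lie Matrix Cfsg.Agent.Helper7 Cfsg.Agent.Helper7.Chev Cfsg.Agent.Helper8.G2Odd

variable {F : Type*} [Field F]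

/-- The parameters of `h_8(-1)`. -/
def cz (F : Type*) [Field F] : ℕ → F := fun i => (-1 : F) ^ cr chevG2 8 i

theorem cz0 : cz F 0 = -1 := by
  have : cr chevG2 8 0 = 1 := factsC.2.2.2.2.2.2.2.2.2.2.2.2.2.2.2.1
  unfold cz
  rw [this, zpow_one]

theorem cz1 : cz F 1 = -1 := by
  have : cr chevG2 8 1 = 3 := factsC.2.2.2.2.2.2.2.2.2.2.2.2.2.2.2.2.1
  unfold cz
  rw [this, zpow_ofNat]
  ring

theorem cz_ne_zero : ∀ i < chevG2.rank, cz F i ≠ 0 :=
  fun i _ => zpow_ne_zero _ neg_one_ne_zero'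

theorem zG2_mat :
    ((zG2 F : GL chevG2.Idx F) : Matrix chevG2.Idx chevG2.Idx F) = tMat chevG2 (cz F) := by
  unfold zG2
  rw [hGL_coe, hMat_eq_tMat hG1 lt8 neg_one_ne_zero']
  rfl

theorem zG2_mem_diagonal : zG2 F ∈ chevG2.diagonalSubgroup F :=
  G2Odd.hGL_mem_diagonal hG2 lt8 _ _

theorem zG2_mem_group : zG2 F ∈ chevG2.group F :=
  monomialSubgroup_le_group hG1
    ((le_sup_left : chevG2.diagonalSubgroup F ≤ chevG2.monomialSubgroup F) zG2_mem_diagonal)

theorem tEz (r : ℕ) :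
    tE chevG2 (cz F) r = (-1 : F) ^ (chevG2.cartan 0 r + chevG2.cartan 1 r) := by
  rw [tE_G2, cz0, cz1, zpow_add₀ neg_one_ne_zero']

theorem neg_one_ne_one (h2 : (2 : F) ≠ 0) : (-1 : F) ≠ 1 := by
  intro h
  apply h2
  have : (2 : F) = 1 - (-1) := by ring
  rw [this, h, sub_self]

/-- The positive roots on whose root subgroups `z` acts trivially. -/
theorem tEz_eq_one_iff (h2 : (2 : F) ≠ 0) {r : ℕ} (h6 : 6 ≤ r) (h12 : r < 12) :
    tE chevG2 (cz F) r = 1 ↔ (r = 8 ∨ r = 10) := by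
  obtain ⟨-, c06, c16, c07, c17, c08, c18, c09, c19, c010, c110, -⟩ := factsC
  obtain ⟨c011, c111, -⟩ := factsZ
  have c06' : chevG2.cartan 0 6 = -3 := c06
  have c16' : chevG2.cartan 1 6 = 2 := c16
  have c07' : chevG2.cartan 0 7 = 2 := c07
  have c17' : chevG2.cartan 1 7 = -1 := c17
  have c08' : chevG2.cartan 0 8 = -1 := c08
  have c18' : chevG2.cartan 1 8 = 1 := c18
  have c09' : chevG2.cartan 0 9 = 1 := c09
  have c19' : chevG2.cartan 1 9 = 0 := c19
  have c010' : chevG2.cartan 0 10 = 3 := c010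
  have c110' : chevG2.cartan 1 10 = -1 := c110
  have c011' : chevG2.cartan 0 11 = 0 := c011
  have c111' : chevG2.cartan 1 11 = 1 := c111
  have hne := neg_one_ne_one h2
  have hm1 : (-1 : F) ^ (-1 : ℤ) = -1 := by
    rw [_root_.zpow_neg, zpow_one, inv_neg, inv_one]
  have hp1 : (-1 : F) ^ (1 : ℤ) = -1 := zpow_one _
  have hp2 : (-1 : F) ^ (2 : ℤ) = 1 := by rw [zpow_ofNat]; ring
  have hp0 : (-1 : F) ^ (0 : ℤ) = 1 := zpow_zero _
  rw [tEz]
  interval_cases r
  · rw [c06', c16', show (-3 : ℤ) + 2 = -1 by norm_num, hm1]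
    constructor
    · intro h; exact absurd h hne
    · intro h; omega
  · rw [c07', c17', show (2 : ℤ) + -1 = 1 by norm_num, hp1]
    constructor
    · intro h; exact absurd h hne
    · intro h; omega
  · rw [c08', c18', show (-1 : ℤ) + 1 = 0 by norm_num, hp0]
    constructor
    · intro _; left; rfl
    · intro _; rfl
  · rw [c09', c19', show (1 : ℤ) + 0 = 1 by norm_num, hp1]
    constructor
    · intro h; exact absurd h hne
    · intro h; omega
  · rw [c010', c110', show (3 : ℤ) + -1 = 2 by norm_num, hp2]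
    constructor
    · intro _; right; rfl
    · intro _; rfl
  · rw [c011', c111', show (0 : ℤ) + 1 = 1 by norm_num, hp1]
    constructor
    · intro h; exact absurd h hne
    · intro h; omega

theorem hGL_congr {r r' : ℕ} (e : r = r') (hr : r < chevG2.nroots) (hr' : r' < chevG2.nroots)
    (t : F) (ht : t ≠ 0) : hGL hG1 hr t ht = hGL hG1 hr' t ht := by
  subst e
  rfl

/-- Conjugation of `h_r(c)` by `n_p` for a fundamental root `p`. -/
theorem nGL_mul_hGL' {i : ℕ} (hi : i < chevG2.rank) {r : ℕ} (hr : r < chevG2.nroots) (c : F)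
    (hc : c ≠ 0) :
    nGL hG1 (hG1.simple_lt hi) * hGL hG1 hr c hc =
      hGL hG1 (hG2.refl_lt hi hr) c hc * nGL hG1 (hG1.simple_lt hi) := by
  apply Units.ext
  rw [Units.val_mul, Units.val_mul, nGL_coe, hGL_coe, hGL_coe, nMat_mul_hMat hG2 hi hr hc]

/-- Conjugation of `h_r(c)` by the element of `N` of a word. -/
theorem nWordGL_mul_hGL' {w : List ℕ} (hw : ∀ i ∈ w, i < chevG2.rank) {r : ℕ}
    (hr : r < chevG2.nroots) (c : F) (hc : c ≠ 0) :
    nWordGL hG2 w * hGL hG1 hr c hc = hGL hG1 (reflWord_lt hG2 hw hr) c hc * nWordGL hG2 w := by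
  induction w with
  | nil => rw [nWordGL_nil, one_mul, mul_one]; rfl
  | cons i w ih =>
    have hi : i < chevG2.rank := hw i List.mem_cons_self
    have hw' : ∀ j ∈ w, j < chevG2.rank := fun j hj => hw j (List.mem_cons_of_mem _ hj)
    rw [nWordGL_cons hG2 hi, mul_assoc, ih hw', ← mul_assoc, nGL_mul_hGL' hi, mul_assoc]
    rfl

theorem lt3 : 3 < chevG2.nroots := by decide

/-- `h_{-8}(-1) = h_8(-1)`. -/
theorem zG2_eq_h3 : zG2 F = hGL hG1 lt3 (-1 : F) neg_one_ne_zero' := by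
  obtain ⟨-, -, cr30, cr31, -⟩ := factsZ
  have cr30' : cr chevG2 3 0 = -1 := cr30
  have cr31' : cr chevG2 3 1 = -3 := cr31
  apply eq_hGL_of_params zG2_mat lt3
  · rw [cz0, cr30', _root_.zpow_neg, zpow_one, inv_neg, inv_one]
  · rw [cz1, cr31', _root_.zpow_neg, zpow_ofNat]
    have : ((-1 : F) ^ 3)⁻¹ = -1 := by
      have : (-1 : F) ^ 3 = -1 := by ring
      rw [this, inv_neg, inv_one]
    rw [this]

/-- The words fixing `±8` commute with `z`. -/
theorem commute_of_word {w : List ℕ} (hw : w ∈ cWords) :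
    zG2 F * nWordGL hG2 w * (zG2 F)⁻¹ = nWordGL hG2 w := by
  obtain ⟨-, -, -, -, -, -, -, r0, r1, r2, r3, -⟩ := factsZ
  have hwr : ∀ i ∈ w, i < chevG2.rank := (wList_G2.ok w (cWords_sub w hw)).1
  have key : nWordGL hG2 w * zG2 F = zG2 F * nWordGL hG2 w := by
    have h := nWordGL_mul_hGL' (F := F) hwr lt8 (-1) neg_one_ne_zero'
    have h8 : (tabOf chevG2).reflWord w 8 = 8 ∨ (tabOf chevG2).reflWord w 8 = 3 := by
      simp only [cWords, List.mem_cons, List.not_mem_nil, or_false] at hw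
      rcases hw with rfl | rfl | rfl | rfl
      · left; exact r0
      · left; exact r1
      · right; exact r2
      · right; exact r3
    rcases h8 with e | e
    · rw [hGL_congr e _ lt8] at h
      exact h
    · rw [hGL_congr e _ lt3, ← zG2_eq_h3] at h
      exact h
  rw [← key]
  group

/-- The words of the list commuting with `z` fix `±8`. -/
theorem word_of_commute (h2 : (2 : F) ≠ 0) {w : List ℕ} (hwW : w ∈ wL_G2)
    (hcomm : zG2 F * nWordGL hG2 w * (zG2 F)⁻¹ = nWordGL hG2 w) : w ∈ cWords := by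
  obtain ⟨-, -, -, -, n7, n9, -, -, -, -, -, -, hall⟩ := factsZ
  rcases hall w hwW with h | h
  · exact h
  · exfalso
    have hw := (wList_G2.ok w hwW).1
    have hne := neg_one_ne_one h2
    have hr' : (tabOf chevG2).reflWord w 8 < 12 := reflWord_lt hG2 hw lt8
    have h8 : zG2 F * xGL hG1 lt8 (1 : F) * (zG2 F)⁻¹ = xGL hG1 lt8 (1 : F) := by
      rw [torus_conj_xGL hG2 cz_ne_zero zG2_mat lt8, (tEz_eq_one_iff h2 (by norm_num)
        (by norm_num)).mpr (Or.inl rfl), one_mul]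
    have hc := nWordGL_conj (F := F) hG2 hw lt8 (1 : F)
    have hfix : zG2 F * (nWordGL hG2 w * xGL hG1 lt8 (1 : F) * (nWordGL hG2 w)⁻¹) * (zG2 F)⁻¹ =
        nWordGL hG2 w * xGL hG1 lt8 (1 : F) * (nWordGL hG2 w)⁻¹ := by
      calc _ = (zG2 F * nWordGL hG2 w * (zG2 F)⁻¹) * (zG2 F * xGL hG1 lt8 (1 : F) * (zG2 F)⁻¹) *
            (zG2 F * nWordGL hG2 w * (zG2 F)⁻¹)⁻¹ := by group
        _ = _ := by rw [hcomm, h8]
    rw [hc, torus_conj_xGL hG2 cz_ne_zero zG2_mat] at hfix
    have he := xr_inj hr' hfix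
    have hη := etaWord_cast_ne_zero (F := F) hG2 hw lt8
    have hone : tE chevG2 (cz F) ((tabOf chevG2).reflWord w 8) = 1 := by
      have := mul_right_cancel₀ (mul_ne_zero hη one_ne_zero) (he.trans (one_mul _).symm)
      exact this
    have t7 : tE chevG2 (cz F) 7 = -1 := by
      obtain ⟨-, -, -, c07, c17, -⟩ := factsC
      have c07' : chevG2.cartan 0 7 = 2 := c07
      have c17' : chevG2.cartan 1 7 = -1 := c17
      rw [tEz, c07', c17', show (2 : ℤ) + -1 = 1 by norm_num, zpow_one]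
    have t9 : tE chevG2 (cz F) 9 = -1 := by
      obtain ⟨-, -, -, -, -, -, -, c09, c19, -⟩ := factsC
      have c09' : chevG2.cartan 0 9 = 1 := c09
      have c19' : chevG2.cartan 1 9 = 0 := c19
      rw [tEz, c09', c19', show (1 : ℤ) + 0 = 1 by norm_num, zpow_one]
    have n7' : chevG2.neg 7 = 4 := n7
    have n9' : chevG2.neg 9 = 2 := n9
    have t4 : tE chevG2 (cz F) 4 = -1 := by
      rw [← n7', tE_neg hG2 _ lt7, t7, inv_neg, inv_one]
    have t2 : tE chevG2 (cz F) 2 = -1 := by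
      rw [← n9', tE_neg hG2 _ lt9, t9, inv_neg, inv_one]
    simp only [List.mem_cons, List.not_mem_nil, or_false] at h
    rcases h with e | e | e | e <;> rw [e] at hone
    · exact hne (t7.symm.trans hone)
    · exact hne (t9.symm.trans hone)
    · exact hne (t4.symm.trans hone)
    · exact hne (t2.symm.trans hone)

end Cfsg.Agent.Helper8.G2Cz
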