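import Mathlib
import Cfsg.Agent.Helper8.G2CzB
import Cfsg.Agent.Helper7.ChevWG2

set_option autoImplicit false
set_option linter.unusedSectionVars false
set_option linter.unusedVariables false

/-!
The elements of `U` and of `U_w⁻` commuting with `z = h_8(-1)` in `G₂(q)`, `q` odd.
-/

namespace Cfsg.Agent.Helper8.G2Cz

open Cfsg Cfsg.Lie Matrix Cfsg.Agent.Helper7 Cfsg.Agent.Helper7.Chev Cfsg.Agent.Helper8.G2Odd

variable {F : Type*} [Field F]

theorem UgeS_mono {D : ChevalleyDatum} {Ψ Ψ' : ℕ → Prop} {k : ℕ}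
    (h : ∀ r, k ≤ r → r < D.nroots → Ψ r → Ψ' r) : UgeS D F Ψ k ≤ UgeS D F Ψ' k := by
  unfold UgeS
  apply Subgroup.closure_mono
  rintro g ⟨r, t, h1, h2, h3, h4⟩
  exact ⟨r, t, h1, h2, h r h1 h2 h3, h4⟩

theorem UgeS_congr {D : ChevalleyDatum} {Ψ Ψ' : ℕ → Prop} {k : ℕ}
    (h : ∀ r, k ≤ r → r < D.nroots → (Ψ r ↔ Ψ' r)) : UgeS D F Ψ k = UgeS D F Ψ' k :=
  le_antisymm (UgeS_mono fun r h1 h2 => (h r h1 h2).mp) (UgeS_mono fun r h1 h2 => (h r h1 h2).mpr)

theorem UgeS_true (D : ChevalleyDatum) (k : ℕ) : UgeS D F (fun _ => True) k = Uge D F k := by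
  unfold UgeS Uge
  congr 1
  ext g
  constructor
  · rintro ⟨r, t, h1, h2, -, h4⟩
    exact ⟨r, t, h1, h2, h4⟩
  · rintro ⟨r, t, h1, h2, h4⟩
    exact ⟨r, t, h1, h2, trivial, h4⟩

theorem closedSet_true (D : ChevalleyDatum) : ClosedSet D (fun _ => True) :=
  fun _ _ _ _ _ _ _ _ _ => trivial

theorem nroots_G2 : chevG2.nroots = 12 := by decide

theorem half_G2 : chevG2.nroots / 2 = 6 := by decide

/-- The predicate of the roots `8` and `10`. -/
def P810 : ℕ → Prop := fun r => r = 8 ∨ r = 10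

theorem closedSet_sub {Q : ℕ → Prop} (hQ : ∀ r, Q r → P810 r) (h : ¬ (Q 8 ∧ Q 10)) :
    ClosedSet chevG2 Q := by
  intro r s _ hrs _ hr hs
  exfalso
  apply h
  rcases hQ r hr with rfl | rfl <;> rcases hQ s hs with rfl | rfl
  · omega
  · exact ⟨hr, hs⟩
  · omega
  · omega

theorem closedSet_P810 : ClosedSet chevG2 P810 := by
  intro r s _ hrs _ hr hs c hc
  exfalso
  have h810 : (tabOf chevG2).commTerms 8 10 = [] := factsZ.2.2.2.2.2.2.2.2.2.2.2.1
  rcases hr with rfl | rfl <;> rcases hs with rfl | rfl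
  · omega
  · rw [h810] at hc
    exact List.not_mem_nil hc
  · omega
  · omega

section fixed

variable (h2 : (2 : F) ≠ 0)

include h2 in
/-- The elements of `U` commuting with `z`. -/
theorem pos_fixed_iff {u : GL chevG2.Idx F} :
    (u ∈ chevG2.posUnipotent F ∧ zG2 F * u * (zG2 F)⁻¹ = u) ↔
      u ∈ UgeS chevG2 F P810 (chevG2.nroots / 2) := by
  have hcong : UgeS chevG2 F (fun r => True ∧ tE chevG2 (cz F) r = 1) (chevG2.nroots / 2) =
      UgeS chevG2 F P810 (chevG2.nroots / 2) := by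
    apply UgeS_congr
    intro r h1 h2'
    rw [half_G2] at h1
    rw [nroots_G2] at h2'
    rw [true_and]
    exact tEz_eq_one_iff h2 h1 h2'
  have hU : chevG2.posUnipotent F = UgeS chevG2 F (fun _ => True) (chevG2.nroots / 2) := by
    rw [UgeS_true, posUnipotent_eq_Uge T0_G2]
  constructor
  · rintro ⟨hu, hfix⟩
    rw [hU] at hu
    rw [← hcong]
    exact (UgeS_fixed_iff hG2 cz_ne_zero zG2_mat T0_G2 T3_G2 T4_G2 T7_G2 T8_G2
      (closedSet_true chevG2) hu).mp hfix
  · intro hu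
    have hu' : u ∈ UgeS chevG2 F (fun _ => True) (chevG2.nroots / 2) :=
      UgeS_mono (fun _ _ _ _ => trivial) hu
    refine ⟨hU ▸ hu', ?_⟩
    rw [← hcong] at hu
    exact (UgeS_fixed_iff hG2 cz_ne_zero zG2_mat T0_G2 T3_G2 T4_G2 T7_G2 T8_G2
      (closedSet_true chevG2) hu').mpr hu

include h2 in
/-- The elements of `U_w⁻` commuting with `z`. -/
theorem minus_fixed_iff {w : List ℕ} (hw : ∀ i ∈ w, i < chevG2.rank) {Q : ℕ → Prop}
    (hQ : ∀ r, chevG2.nroots / 2 ≤ r → r < chevG2.nroots →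
      ((minusSet chevG2 w r ∧ P810 r) ↔ Q r)) {u : GL chevG2.Idx F} :
    (u ∈ Subgroup.closure (minusGen chevG2 F w) ∧ zG2 F * u * (zG2 F)⁻¹ = u) ↔
      u ∈ UgeS chevG2 F Q (chevG2.nroots / 2) := by
  have hcong : UgeS chevG2 F (fun r => minusSet chevG2 w r ∧ tE chevG2 (cz F) r = 1)
      (chevG2.nroots / 2) = UgeS chevG2 F Q (chevG2.nroots / 2) := by
    apply UgeS_congr
    intro r h1 h2'
    rw [← hQ r h1 h2']
    rw [half_G2] at h1
    rw [nroots_G2] at h2'
    rw [tEz_eq_one_iff h2 h1 h2']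
    rfl
  have hclosed := closedSet_minusSet hG2 T0_G2 T3_G2 T7_G2 T7n_G2 hw
  rw [closure_minusGen_eq T0_G2]
  constructor
  · rintro ⟨hu, hfix⟩
    rw [← hcong]
    exact (UgeS_fixed_iff hG2 cz_ne_zero zG2_mat T0_G2 T3_G2 T4_G2 T7_G2 T8_G2 hclosed hu).mp hfix
  · intro hu
    rw [← hcong] at hu
    have hu' : u ∈ UgeS chevG2 F (minusSet chevG2 w) (chevG2.nroots / 2) :=
      UgeS_mono (fun _ _ _ h => h.1) hu
    exact ⟨hu', (UgeS_fixed_iff hG2 cz_ne_zero zG2_mat T0_G2 T3_G2 T4_G2 T7_G2 T8_G2 hclosed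
      hu').mpr hu⟩

end fixed

/-! ### The four cells -/

/-- The four words commuting with `z`. -/
def cW : Fin 4 → List ℕ := ![[], [0, 1, 0], [1, 0, 1], [0, 1, 0, 1, 0, 1]]

/-- The roots among `8`, `10` made negative by the four words. -/
def cP : Fin 4 → ℕ → Prop :=
  ![fun _ => False, fun r => r = 10, fun r => r = 8, fun r => r = 8 ∨ r = 10]

/-- The number of these roots. -/
def cM : Fin 4 → ℕ := ![0, 1, 1, 2]

theorem cW_mem (i : Fin 4) : cW i ∈ cWords := by
  fin_cases i <;> simp [cW, cWords]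

theorem cW_injective : Function.Injective cW := by
  intro i j h
  fin_cases i <;> fin_cases j <;> simp [cW] at h ⊢

theorem exists_cW {w : List ℕ} (hw : w ∈ cWords) : ∃ i, w = cW i := by
  simp only [cWords, List.mem_cons, List.not_mem_nil, or_false] at hw
  rcases hw with rfl | rfl | rfl | rfl
  · exact ⟨0, rfl⟩
  · exact ⟨1, rfl⟩
  · exact ⟨2, rfl⟩
  · exact ⟨3, rfl⟩

theorem cW_lt (i : Fin 4) : ∀ j ∈ cW i, j < chevG2.rank :=
  (wList_G2.ok _ (cWords_sub _ (cW_mem i))).1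

theorem cP_spec (i : Fin 4) : ∀ r, chevG2.nroots / 2 ≤ r → r < chevG2.nroots →
    ((minusSet chevG2 (cW i) r ∧ P810 r) ↔ cP i r) := by
  obtain ⟨m0, m1, m2, m3⟩ := factsM
  intro r h1 h2
  have h1' : 6 ≤ r := by rw [half_G2] at h1; exact h1
  have h2' : r < 12 := by rw [nroots_G2] at h2; exact h2
  have hms : ∀ w : List ℕ, minusSet chevG2 w r ↔ (tabOf chevG2).reflWord w r < 6 := by
    intro w
    unfold minusSet
    rw [half_G2]
    constructor
    · intro h; exact h.2.2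
    · intro h; exact ⟨h1', h2, h⟩
  rw [hms]
  fin_cases i
  · exact m0 r h2' h1'
  · exact m1 r h2' h1'
  · exact m2 r h2' h1'
  · exact m3 r h2' h1'

theorem cP_sub (i : Fin 4) : ∀ r, cP i r → P810 r := by
  intro r h
  fin_cases i
  · exact absurd h id
  · exact Or.inr h
  · exact Or.inl h
  · exact h

theorem closedSet_cP (i : Fin 4) : ClosedSet chevG2 (cP i) := by
  fin_cases i
  · exact closedSet_sub (cP_sub 0) (fun h => h.1)
  · exact closedSet_sub (cP_sub 1) (fun h => by have := h.1; simp [cP] at this)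
  · exact closedSet_sub (cP_sub 2) (fun h => by have := h.2; simp [cP] at this)
  · exact closedSet_P810

section cards

variable [Fintype F]

theorem card_UP : Nat.card (UgeS chevG2 F P810 (chevG2.nroots / 2)) = Fintype.card F ^ 2 := by
  have := card_UgeS (F := F) hG2 T0_G2 T3_G2 T4_G2 T7_G2 T8_G2 closedSet_P810 {8, 10} (by
    intro r
    rw [half_G2, nroots_G2]
    simp only [Finset.mem_insert, Finset.mem_singleton, P810]
    omega)
  rw [this]
  rfl

theorem card_UQ_aux {Q : ℕ → Prop} (hQ : ClosedSet chevG2 Q) (S : Finset ℕ) (m : ℕ)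
    (hm : S.card = m) (hS : ∀ r, r ∈ S ↔ 6 ≤ r ∧ r < 12 ∧ Q r) :
    Nat.card (UgeS chevG2 F Q (chevG2.nroots / 2)) = Fintype.card F ^ m := by
  have := card_UgeS (F := F) hG2 T0_G2 T3_G2 T4_G2 T7_G2 T8_G2 hQ S (by
    intro r
    rw [half_G2, nroots_G2]
    exact hS r)
  rw [this, hm]

theorem card_UQ (i : Fin 4) :
    Nat.card (UgeS chevG2 F (cP i) (chevG2.nroots / 2)) = Fintype.card F ^ cM i := by
  fin_cases i
  · exact card_UQ_aux (closedSet_cP 0) ∅ 0 rfl (by
      intro r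
      simp [cP])
  · exact card_UQ_aux (closedSet_cP 1) {10} 1 rfl (by
      intro r
      simp only [Finset.mem_singleton, cP, Matrix.cons_val_one, Matrix.cons_val_zero]
      omega)
  · exact card_UQ_aux (closedSet_cP 2) {8} 1 rfl (by
      intro r
      simp only [Finset.mem_singleton, cP, Matrix.cons_val_two, Matrix.tail_cons,
        Matrix.head_cons]
      omega)
  · exact card_UQ_aux (closedSet_cP 3) {8, 10} 2 rfl (by
      intro r
      simp only [Finset.mem_insert, Finset.mem_singleton, cP, Matrix.cons_val_three,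
        Matrix.tail_cons, Matrix.head_cons]
      omega)

end cards

end Cfsg.Agent.Helper8.G2Cz
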