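import Mathlib
import Cfsg.Agent.Helper8.G2CzC
import Cfsg.Agent.Helper8.ChevOddB

set_option autoImplicit false
set_option linter.unusedSectionVars false
set_option linter.unusedVariables false

/-!
The centralizer of an element `z` of `H` in a Chevalley group: the elements of `N` commuting with `z`, and
the elements of `U` and of `U_w⁻` commuting with `z`.
-/

namespace Cfsg.Agent.Helper8.ChevCz

open Cfsg Cfsg.Lie Matrix Cfsg.Agent.Helper7 Cfsg.Agent.Helper7.Chev Cfsg.Agent.Helper8.G2Odd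
  Cfsg.Agent.Helper8.G2Cz

variable {D : ChevalleyDatum} {F : Type*} [Field F]

/-- Torus matrices with the same values at all roots are equal. -/
theorem tMat_eq_of_tE {c c' : ℕ → F} (h : ∀ r < D.nroots, tE D c r = tE D c' r) :
    tMat D c = tMat D c' := by
  unfold tMat
  congr 1
  funext v
  rcases v with j | s
  · rfl
  · exact h s.val s.2

section comm

variable (hG : Good2 D) (hT : T0 D) (h8 : (tabOf D).T8)
  {z : GL D.Idx F} (hz : z ∈ D.diagonalSubgroup F) {c : ℕ → F} (hc : ∀ i < D.rank, c i ≠ 0)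
  (hmat : (z : Matrix D.Idx D.Idx F) = tMat D c)

include hG hT h8 hc hmat in
/-- A word whose element of `N` commutes with `z` preserves the values of `z` at the roots. -/
theorem tE_of_commute {w : List ℕ} (hw : ∀ i ∈ w, i < D.rank)
    (hcomm : z * nWordGL hG w * z⁻¹ = nWordGL hG w) :
    ∀ r < D.nroots, tE D c ((tabOf D).reflWord w r) = tE D c r := by
  have hG1 := hG.toGood1
  intro r hr
  have hr' := reflWord_lt hG hw hr
  have h1 : z * xGL hG1 hr (1 : F) * z⁻¹ = xGL hG1 hr (tE D c r * 1) :=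
    torus_conj_xGL hG hc hmat hr 1
  have hcw := nWordGL_conj (F := F) hG hw hr
  have hfix : z * (nWordGL hG w * xGL hG1 hr (1 : F) * (nWordGL hG w)⁻¹) * z⁻¹ =
      nWordGL hG w * xGL hG1 hr (tE D c r * 1) * (nWordGL hG w)⁻¹ := by
    calc _ = (z * nWordGL hG w * z⁻¹) * (z * xGL hG1 hr (1 : F) * z⁻¹) *
          (z * nWordGL hG w * z⁻¹)⁻¹ := by group
      _ = _ := by rw [hcomm, h1]
  rw [hcw, hcw, torus_conj_xGL hG hc hmat] at hfix
  have he := xGL_injective hG hT h8 hr' hfix
  have hη := etaWord_cast_ne_zero (F := F) hG hw hr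
  have : tE D c ((tabOf D).reflWord w r) * (((tabOf D).etaWord w r : ℤ) : F) =
      tE D c r * (((tabOf D).etaWord w r : ℤ) : F) := by
    linear_combination he
  exact mul_right_cancel₀ hη this

include hG hT h8 hz hc hmat in
/-- A word preserving the values of `z` at the roots gives an element of `N` commuting with `z`. -/
theorem commute_of_tE {w : List ℕ} (hw : ∀ i ∈ w, i < D.rank)
    (h : ∀ r < D.nroots, tE D c ((tabOf D).reflWord w r) = tE D c r) :
    z * nWordGL hG w * z⁻¹ = nWordGL hG w := by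
  have hG1 := hG.toGood1
  set n := nWordGL (F := F) hG w with hn
  have hh' : n⁻¹ * z * n ∈ D.diagonalSubgroup F :=
    conj_mem_diagonal' (nWordGL_mem_normalizer hG w) hz
  obtain ⟨c', hc', hmat'⟩ := diagonalSubgroup_torus hG1 hh'
  have hval : ∀ r < D.nroots, tE D c' r = tE D c r := by
    intro r hr
    have hr' := reflWord_lt hG hw hr
    have h1 := torus_conj_xGL (F := F) hG hc' hmat' hr (1 : F)
    have hcw := nWordGL_conj (F := F) hG hw hr (1 : F)
    have hcw2 := nWordGL_conj (F := F) hG hw hr (tE D c ((tabOf D).reflWord w r) * 1)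
    have h2 : n⁻¹ * z * n * xGL hG1 hr (1 : F) * (n⁻¹ * z * n)⁻¹ =
        xGL hG1 hr (tE D c ((tabOf D).reflWord w r) * 1) := by
      calc n⁻¹ * z * n * xGL hG1 hr (1 : F) * (n⁻¹ * z * n)⁻¹ =
            n⁻¹ * (z * (n * xGL hG1 hr (1 : F) * n⁻¹) * z⁻¹) * n := by group
        _ = n⁻¹ * (n * xGL hG1 hr (tE D c ((tabOf D).reflWord w r) * 1) * n⁻¹) * n := by
            rw [hcw, torus_conj_xGL hG hc hmat hr', hcw2]
            congr 3
            ring
        _ = _ := by group
    rw [h1] at h2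
    have := xGL_injective hG hT h8 hr h2
    rw [mul_one, mul_one] at this
    rw [this, h r hr]
  have heq : n⁻¹ * z * n = z := by
    apply Units.ext
    rw [hmat', hmat]
    exact tMat_eq_of_tE hval
  calc z * n * z⁻¹ = n * (n⁻¹ * z * n) * z⁻¹ := by group
    _ = n := by rw [heq]; group

end comm

section fixed

variable (hG : Good2 D) (hT : T0 D) (h3 : (tabOf D).T3) (h4 : (tabOf D).T4 60) (h7 : (tabOf D).T7)
  (h7n : (tabOf D).T7n) (h8 : (tabOf D).T8)
  {z : GL D.Idx F} {c : ℕ → F} (hc : ∀ i < D.rank, c i ≠ 0)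
  (hmat : (z : Matrix D.Idx D.Idx F) = tMat D c)
  {Ψ : ℕ → Prop} (hΨ : ∀ r, D.nroots / 2 ≤ r → r < D.nroots → (tE D c r = 1 ↔ Ψ r))

include hG hT h3 h4 h7 h8 hc hmat hΨ in
/-- The elements of `U` commuting with `z`. -/
theorem pos_fixed_iff' {u : GL D.Idx F} :
    (u ∈ D.posUnipotent F ∧ z * u * z⁻¹ = u) ↔ u ∈ UgeS D F Ψ (D.nroots / 2) := by
  have hcong : UgeS D F (fun r => True ∧ tE D c r = 1) (D.nroots / 2) =
      UgeS D F Ψ (D.nroots / 2) := by
    apply UgeS_congr
    intro r h1 h2'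
    rw [true_and]
    exact hΨ r h1 h2'
  have hU : D.posUnipotent F = UgeS D F (fun _ => True) (D.nroots / 2) := by
    rw [UgeS_true, posUnipotent_eq_Uge hT]
  constructor
  · rintro ⟨hu, hfix⟩
    rw [hU] at hu
    rw [← hcong]
    exact (UgeS_fixed_iff hG hc hmat hT h3 h4 h7 h8 (closedSet_true D) hu).mp hfix
  · intro hu
    have hu' : u ∈ UgeS D F (fun _ => True) (D.nroots / 2) :=
      UgeS_mono (fun _ _ _ _ => trivial) hu
    refine ⟨hU ▸ hu', ?_⟩
    rw [← hcong] at hu
    exact (UgeS_fixed_iff hG hc hmat hT h3 h4 h7 h8 (closedSet_true D) hu').mpr hu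

include hG hT h3 h4 h7 h7n h8 hc hmat hΨ in
/-- The elements of `U_w⁻` commuting with `z`. -/
theorem minus_fixed_iff' {w : List ℕ} (hw : ∀ i ∈ w, i < D.rank) {u : GL D.Idx F} :
    (u ∈ Subgroup.closure (minusGen D F w) ∧ z * u * z⁻¹ = u) ↔
      u ∈ UgeS D F (fun r => minusSet D w r ∧ Ψ r) (D.nroots / 2) := by
  have hcong : UgeS D F (fun r => minusSet D w r ∧ tE D c r = 1) (D.nroots / 2) =
      UgeS D F (fun r => minusSet D w r ∧ Ψ r) (D.nroots / 2) := by
    apply UgeS_congr
    intro r h1 h2'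
    rw [hΨ r h1 h2']
  have hclosed := closedSet_minusSet hG hT h3 h7 h7n hw
  rw [closure_minusGen_eq hT]
  constructor
  · rintro ⟨hu, hfix⟩
    rw [← hcong]
    exact (UgeS_fixed_iff hG hc hmat hT h3 h4 h7 h8 hclosed hu).mp hfix
  · intro hu
    rw [← hcong] at hu
    have hu' : u ∈ UgeS D F (minusSet D w) (D.nroots / 2) :=
      UgeS_mono (fun _ _ _ h => h.1) hu
    exact ⟨hu', (UgeS_fixed_iff hG hc hmat hT h3 h4 h7 h8 hclosed hu').mpr hu⟩

end fixed

end Cfsg.Agent.Helper8.ChevCz
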