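import Mathlib
import Cfsg.Agent.Helper8.ChevCzA

set_option autoImplicit false
set_option linter.unusedSectionVars false
set_option linter.unusedVariables false

/-!
The centralizer of an element `z` of `H` in a Chevalley group over a finite field: the decomposition
into Bruhat cells and the resulting formula for the order.
-/

namespace Cfsg.Agent.Helper8.ChevCz

open Cfsg Cfsg.Lie Matrix Cfsg.Agent.Helper7 Cfsg.Agent.Helper7.Chev Cfsg.Agent.Helper8.G2Odd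
  Cfsg.Agent.Helper8.G2Cz
open scoped Pointwise

variable {D : ChevalleyDatum} {F : Type*} [Field F]

/-- The elements of the group commuting with `z`. -/
def CzSet (D : ChevalleyDatum) {F : Type*} [Field F] (z : GL D.Idx F) : Set (GL D.Idx F) :=
  {g | g ∈ D.group F ∧ z * g * z⁻¹ = g}

section cells

variable (hG : Good2 D) (hT : T0 D) (h3 : (tabOf D).T3) (h4 : (tabOf D).T4 60) (h5 : (tabOf D).T5)
  (h6 : (tabOf D).T6) (h7 : (tabOf D).T7) (h7n : (tabOf D).T7n) (h8 : (tabOf D).T8)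
  (h9 : (tabOf D).T9) {W : List (List ℕ)} (hW : WList D W)
  {z : GL D.Idx F} (hz : z ∈ D.diagonalSubgroup F) {c : ℕ → F} (hc : ∀ i < D.rank, c i ≠ 0)
  (hmat : (z : Matrix D.Idx D.Idx F) = tMat D c)
  {Ψ : ℕ → Prop} (hΨ : ∀ r, D.nroots / 2 ≤ r → r < D.nroots → (tE D c r = 1 ↔ Ψ r))
  {Wz : List (List ℕ)} (hsub : ∀ w ∈ Wz, w ∈ W) (hnd : Wz.Nodup)
  (hcomm : ∀ w ∈ Wz, z * nWordGL hG w * z⁻¹ = nWordGL hG w)
  (hconv : ∀ w ∈ W, z * nWordGL hG w * z⁻¹ = nWordGL hG w → w ∈ Wz)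

include hG hT h3 h4 h5 h6 h7 h7n h8 h9 hW hz hc hmat hΨ hsub hcomm in
theorem cell_mem' {w : List ℕ} (hw : w ∈ Wz) {u₁ h₁ u : GL D.Idx F}
    (hu₁ : u₁ ∈ UgeS D F Ψ (D.nroots / 2)) (hh₁ : h₁ ∈ D.diagonalSubgroup F)
    (hu : u ∈ UgeS D F (fun r => minusSet D w r ∧ Ψ r) (D.nroots / 2)) :
    u₁ * h₁ * nWordGL hG w * u ∈ CzSet D z := by
  have hG1 := hG.toGood1
  have hwW := hsub w hw
  have hwl := (hW.ok w hwW).1
  obtain ⟨hu₁U, hu₁f⟩ := (pos_fixed_iff' hG hT h3 h4 h7 h8 hc hmat hΨ).mpr hu₁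
  obtain ⟨huM, huf⟩ := (minus_fixed_iff' hG hT h3 h4 h7 h7n h8 hc hmat hΨ hwl).mpr hu
  have hBG := borelSubgroup_le_group (F := F) hG1
  have hNG := monomialSubgroup_le_group (F := F) hG1
  have hUB : D.posUnipotent F ≤ D.borelSubgroup F := le_sup_left
  have hHB : D.diagonalSubgroup F ≤ D.borelSubgroup F := le_sup_right
  have hminusU : Subgroup.closure (minusGen D F w) ≤ D.posUnipotent F := by
    apply Subgroup.closure_mono
    rintro x ⟨r, t, hr, _, hx⟩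
    exact ⟨r, t, hr, hx⟩
  refine ⟨mul_mem (mul_mem (mul_mem (hBG (hUB hu₁U)) (hBG (hHB hh₁)))
    (hNG (nWordGL_mem hG _))) (hBG (hUB (hminusU huM))), ?_⟩
  exact (cent_normal_form hG hT h3 h4 h5 h6 h8 h9 hW hz hwW hu₁U hh₁ huM).mpr
    ⟨hu₁f, hcomm w hw, huf⟩

/-- The parametrisation of the centralizer by the cells. -/
noncomputable def cellMap' :
    (Σ i : Fin Wz.length, ↥(UgeS D F Ψ (D.nroots / 2)) × ↥(D.diagonalSubgroup F) ×
      ↥(UgeS D F (fun r => minusSet D Wz[i.1] r ∧ Ψ r) (D.nroots / 2))) → ↥(CzSet D z) :=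
  fun x => ⟨(x.2.1 : GL D.Idx F) * (x.2.2.1 : GL D.Idx F) * nWordGL hG Wz[x.1.1] *
    (x.2.2.2 : GL D.Idx F),
    cell_mem' hG hT h3 h4 h5 h6 h7 h7n h8 h9 hW hz hc hmat hΨ hsub hcomm
      (List.getElem_mem x.1.2) x.2.1.2 x.2.2.1.2 x.2.2.2.2⟩

include hnd in
theorem cellMap'_injective : Function.Injective
    (cellMap' hG hT h3 h4 h5 h6 h7 h7n h8 h9 hW hz hc hmat hΨ hsub hcomm) := by
  rintro ⟨i, ⟨u₁, hu₁⟩, ⟨h₁, hh₁⟩, ⟨u, hu⟩⟩ ⟨i', ⟨u₁', hu₁'⟩, ⟨h₁', hh₁'⟩, ⟨u', hu'⟩⟩ e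
  have e' : u₁ * h₁ * nWordGL hG Wz[i.1] * u = u₁' * h₁' * nWordGL hG Wz[i'.1] * u' :=
    congrArg (fun x : ↥(CzSet D z) => (x : GL D.Idx F)) e
  have hwW := hsub _ (List.getElem_mem i.2)
  have hwW' := hsub _ (List.getElem_mem i'.2)
  have hwl := (hW.ok _ hwW).1
  have hwl' := (hW.ok _ hwW').1
  obtain ⟨hu₁U, -⟩ := (pos_fixed_iff' hG hT h3 h4 h7 h8 hc hmat hΨ).mpr hu₁
  obtain ⟨hu₁U', -⟩ := (pos_fixed_iff' hG hT h3 h4 h7 h8 hc hmat hΨ).mpr hu₁'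
  obtain ⟨huM, -⟩ := (minus_fixed_iff' hG hT h3 h4 h7 h7n h8 hc hmat hΨ hwl).mpr hu
  obtain ⟨huM', -⟩ := (minus_fixed_iff' hG hT h3 h4 h7 h7n h8 hc hmat hΨ hwl').mpr hu'
  have hb : u₁ * h₁ ∈ D.borelSubgroup F :=
    mul_mem (Subgroup.mem_sup_left hu₁U) (Subgroup.mem_sup_right hh₁)
  have hb' : u₁' * h₁' ∈ D.borelSubgroup F :=
    mul_mem (Subgroup.mem_sup_left hu₁U') (Subgroup.mem_sup_right hh₁')
  obtain ⟨hww, hbb, huu⟩ := normal_form_unique (F := F) hG hT h3 h4 h5 h6 h8 h9 hW hwW hwW' hb hb'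
    huM huM' e'
  have hii : i = i' := Fin.ext ((hnd.getElem_inj_iff).mp hww)
  subst hii
  subst huu
  have hmem : u₁'⁻¹ * u₁ ∈ D.posUnipotent F ⊓ D.diagonalSubgroup F := by
    refine Subgroup.mem_inf.mpr ⟨mul_mem (inv_mem hu₁U') hu₁U, ?_⟩
    have : u₁'⁻¹ * u₁ = h₁' * h₁⁻¹ := by
      calc u₁'⁻¹ * u₁ = u₁'⁻¹ * (u₁ * h₁) * h₁⁻¹ := by group
        _ = u₁'⁻¹ * (u₁' * h₁') * h₁⁻¹ := by rw [hbb]
        _ = _ := by group
    rw [this]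
    exact mul_mem hh₁' (inv_mem hh₁)
  rw [posUnipotent_inf_diagonal hG hT, Subgroup.mem_bot] at hmem
  have huu1 : u₁ = u₁' := (inv_mul_eq_one.mp hmem).symm
  subst huu1
  have hhh : h₁ = h₁' := mul_left_cancel hbb
  subst hhh
  rfl

include hconv in
theorem cellMap'_surjective : Function.Surjective
    (cellMap' hG hT h3 h4 h5 h6 h7 h7n h8 h9 hW hz hc hmat hΨ hsub hcomm) := by
  rintro ⟨g, hgG, hfix⟩
  obtain ⟨w, hwW, b, hb, u, hu, rfl⟩ := exists_normal_form (F := F) hG hT h3 h4 h5 h6 h8 h9 hW hgG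
  have hN := diagonalSubgroup_le_normalizer_pos (F := F) hG
  have hmul := Subgroup.coe_mul_of_right_le_normalizer_left (D.posUnipotent F)
    (D.diagonalSubgroup F) hN
  have hb' : b ∈ (D.posUnipotent F : Set (GL D.Idx F)) *
      (D.diagonalSubgroup F : Set (GL D.Idx F)) := by
    rw [← hmul]; exact hb
  obtain ⟨u₁, hu₁, h₁, hh₁, rfl⟩ := hb'
  obtain ⟨f1, f2, f3⟩ := (cent_normal_form hG hT h3 h4 h5 h6 h8 h9 hW hz hwW hu₁ hh₁ hu).mp hfix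
  have hwz := hconv w hwW f2
  obtain ⟨i, hi, rfl⟩ := List.getElem_of_mem hwz
  have hwl := (hW.ok _ hwW).1
  have m1 : u₁ ∈ UgeS D F Ψ (D.nroots / 2) :=
    (pos_fixed_iff' hG hT h3 h4 h7 h8 hc hmat hΨ).mp ⟨hu₁, f1⟩
  have m3 : u ∈ UgeS D F (fun r => minusSet D Wz[i] r ∧ Ψ r) (D.nroots / 2) :=
    (minus_fixed_iff' hG hT h3 h4 h7 h7n h8 hc hmat hΨ hwl).mp ⟨hu, f3⟩
  exact ⟨⟨⟨i, hi⟩, ⟨u₁, m1⟩, ⟨h₁, hh₁⟩, ⟨u, m3⟩⟩, rfl⟩

include hG hT h3 h4 h5 h6 h7 h7n h8 h9 hW hz hc hmat hΨ hsub hnd hcomm hconv in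
/-- The order of the centralizer of `z` as a sum over the cells. -/
theorem card_CzSet_cells [Finite F] :
    Nat.card (CzSet D z) = (Wz.map fun w => Nat.card (UgeS D F Ψ (D.nroots / 2)) *
      (Nat.card (D.diagonalSubgroup F) *
        Nat.card (UgeS D F (fun r => minusSet D w r ∧ Ψ r) (D.nroots / 2)))).sum := by
  classical
  rw [← Nat.card_congr (Equiv.ofBijective
    (cellMap' hG hT h3 h4 h5 h6 h7 h7n h8 h9 hW hz hc hmat hΨ hsub hcomm)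
    ⟨cellMap'_injective hG hT h3 h4 h5 h6 h7 h7n h8 h9 hW hz hc hmat hΨ hsub hnd hcomm,
      cellMap'_surjective hG hT h3 h4 h5 h6 h7 h7n h8 h9 hW hz hc hmat hΨ hsub hcomm hconv⟩),
    Nat.card_sigma]
  simp only [Nat.card_prod]
  exact Fin.sum_univ_fun_getElem (M := ℕ) Wz (fun w => Nat.card (UgeS D F Ψ (D.nroots / 2)) *
      (Nat.card (D.diagonalSubgroup F) *
        Nat.card (UgeS D F (fun r => minusSet D w r ∧ Ψ r) (D.nroots / 2))))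

end cells

end Cfsg.Agent.Helper8.ChevCz
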