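import Mathlib
import Cfsg.Agent.Helper8.ChevCzB

set_option autoImplicit false
set_option linter.unusedSectionVars false
set_option linter.unusedVariables false

/-!
The order of the centralizer of an element `z` of `H` with values `±1` at the roots, in terms of counts
read off the tables.
-/

namespace Cfsg.Agent.Helper7.Chev.Tab

variable (T : Tab)

/-- The number of positive roots in the set `P`. -/
def cntPos (P : ℕ → Bool) : ℕ :=
  ((List.range T.n).filter (fun r => decide (T.n / 2 ≤ r) && P r)).length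

/-- The number of positive roots in the set `P` made negative by the word `w`. -/
def cntMinus (P : ℕ → Bool) (w : List ℕ) : ℕ :=
  ((List.range T.n).filter
    (fun r => decide (T.n / 2 ≤ r) && (P r && decide (T.reflWord w r < T.n / 2)))).length

/-- The word preserves the set `P` of roots. -/
def commB (P : ℕ → Bool) (w : List ℕ) : Bool :=
  (List.range T.n).all (fun r => P (T.reflWord w r) == P r)

/-- The set `P` of positive roots is closed under the commutator formula. -/
def ClosedB (P : ℕ → Bool) : Prop :=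
  AllLt T.n (fun r => AllLt T.n (fun s => T.n / 2 ≤ r → r < s → P r = true → P s = true →
    ∀ c ∈ T.commTerms r s, P c.1 = true))

instance (P : ℕ → Bool) : Decidable (T.ClosedB P) := by unfold ClosedB; infer_instance

end Cfsg.Agent.Helper7.Chev.Tab

namespace Cfsg.Agent.Helper8.ChevCz

open Cfsg Cfsg.Lie Matrix Cfsg.Agent.Helper7 Cfsg.Agent.Helper7.Chev Cfsg.Agent.Helper8.G2Odd
  Cfsg.Agent.Helper8.G2Cz
open scoped Pointwise

variable {D : ChevalleyDatum} {F : Type*} [Field F]

theorem closedSet_of_closedB {P : ℕ → Bool} (h : (tabOf D).ClosedB P) :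
    ClosedSet D (fun r => P r = true) := by
  intro r s hr1 hrs hs hr hs' c hc
  have hrn : r < D.nroots := by omega
  exact h r hrn s hs hr1 hrs hr hs' c hc

theorem closedSet_inter {Ψ₁ Ψ₂ : ℕ → Prop} (h1 : ClosedSet D Ψ₁) (h2 : ClosedSet D Ψ₂) :
    ClosedSet D (fun r => Ψ₁ r ∧ Ψ₂ r) := by
  intro r s hr1 hrs hs hr hs' c hc
  exact ⟨h1 r s hr1 hrs hs hr.1 hs'.1 c hc, h2 r s hr1 hrs hs hr.2 hs'.2 c hc⟩

section count

variable (hG : Good2 D) (hT : T0 D) (h3 : (tabOf D).T3) (h4 : (tabOf D).T4 60) (h5 : (tabOf D).T5)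
  (h6 : (tabOf D).T6) (h7 : (tabOf D).T7) (h7n : (tabOf D).T7n) (h8 : (tabOf D).T8)
  (h9 : (tabOf D).T9) {W : List (List ℕ)} (hW : WList D W)
  {z : GL D.Idx F} (hz : z ∈ D.diagonalSubgroup F) {c : ℕ → F} (hc : ∀ i < D.rank, c i ≠ 0)
  (hmat : (z : Matrix D.Idx D.Idx F) = tMat D c)
  {P : ℕ → Bool} (hP : ∀ r < D.nroots, (tE D c r = 1 ↔ P r = true))
  (hpm : ∀ r < D.nroots, tE D c r = 1 ∨ tE D c r = -1) (h2 : (2 : F) ≠ 0)
  (hcl : (tabOf D).ClosedB P)

include hP hpm h2 in
theorem tE_eq_iff {a b : ℕ} (ha : a < D.nroots) (hb : b < D.nroots) :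
    tE D c a = tE D c b ↔ P a = P b := by
  have hne : (-1 : F) ≠ 1 := by
    intro h
    apply h2
    have : (2 : F) = 1 - (-1) := by ring
    rw [this, h, sub_self]
  constructor
  · intro h
    have h1 := hP a ha
    have h2' := hP b hb
    rw [h] at h1
    cases hPa : P a <;> cases hPb : P b <;> simp_all
  · intro h
    rcases hpm a ha with h1 | h1 <;> rcases hpm b hb with h2' | h2'
    · rw [h1, h2']
    · exfalso
      have := (hP a ha).mp h1
      rw [h] at this
      have := (hP b hb).mpr this
      rw [h2'] at this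
      exact hne this
    · exfalso
      have := (hP b hb).mp h2'
      rw [← h] at this
      have := (hP a ha).mpr this
      rw [h1] at this
      exact hne this
    · rw [h1, h2']

include hG hT h3 h4 h7 h8 hcl in
theorem card_UgeS_pos [Fintype F] :
    Nat.card (UgeS D F (fun r => P r = true) (D.nroots / 2)) =
      Fintype.card F ^ (tabOf D).cntPos P := by
  classical
  have hnd : ((List.range D.nroots).filter
      (fun r => decide (D.nroots / 2 ≤ r) && P r)).Nodup := List.Nodup.filter _ List.nodup_range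
  have := card_UgeS (F := F) hG hT h3 h4 h7 h8 (closedSet_of_closedB hcl)
    ((List.range D.nroots).filter (fun r => decide (D.nroots / 2 ≤ r) && P r)).toFinset (by
      intro r
      rw [List.mem_toFinset, List.mem_filter, List.mem_range, Bool.and_eq_true, decide_eq_true_eq]
      tauto)
  rw [this, List.toFinset_card_of_nodup hnd]
  rfl

include hG hT h3 h4 h7 h7n h8 hcl in
theorem card_UgeS_minus [Fintype F] {w : List ℕ} (hw : ∀ i ∈ w, i < D.rank) :
    Nat.card (UgeS D F (fun r => minusSet D w r ∧ P r = true) (D.nroots / 2)) =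
      Fintype.card F ^ (tabOf D).cntMinus P w := by
  classical
  have hnd : ((List.range D.nroots).filter (fun r => decide (D.nroots / 2 ≤ r) &&
      (P r && decide ((tabOf D).reflWord w r < D.nroots / 2)))).Nodup :=
    List.Nodup.filter _ List.nodup_range
  have hclosed := closedSet_inter (closedSet_minusSet hG hT h3 h7 h7n hw) (closedSet_of_closedB hcl)
  have := card_UgeS (F := F) hG hT h3 h4 h7 h8 hclosed
    ((List.range D.nroots).filter (fun r => decide (D.nroots / 2 ≤ r) &&
      (P r && decide ((tabOf D).reflWord w r < D.nroots / 2)))).toFinset (by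
      intro r
      rw [List.mem_toFinset, List.mem_filter, List.mem_range, Bool.and_eq_true, Bool.and_eq_true,
        decide_eq_true_eq, decide_eq_true_eq]
      unfold minusSet
      tauto)
  rw [this, List.toFinset_card_of_nodup hnd]
  rfl

include hG hT h3 h4 h5 h6 h7 h7n h8 h9 hW hz hc hmat hP hpm h2 hcl in
/-- The order of the centralizer of `z`. -/
theorem card_CzSet_formula [Fintype F] :
    Nat.card (CzSet D z) = ((W.filter ((tabOf D).commB P)).map fun w =>
      Fintype.card F ^ (tabOf D).cntPos P *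
        (Nat.card (D.diagonalSubgroup F) * Fintype.card F ^ (tabOf D).cntMinus P w)).sum := by
  have hΨ : ∀ r, D.nroots / 2 ≤ r → r < D.nroots → (tE D c r = 1 ↔ P r = true) :=
    fun r _ hr => hP r hr
  have hsub : ∀ w ∈ W.filter ((tabOf D).commB P), w ∈ W := fun w hw => (List.mem_filter.mp hw).1
  have hnd : (W.filter ((tabOf D).commB P)).Nodup := List.Nodup.filter _ hW.nodup
  have hcomm : ∀ w ∈ W.filter ((tabOf D).commB P), z * nWordGL hG w * z⁻¹ = nWordGL hG w := by
    intro w hw
    obtain ⟨hwW, hb⟩ := List.mem_filter.mp hw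
    have hwl := (hW.ok w hwW).1
    apply commute_of_tE hG hT h8 hz hc hmat hwl
    intro r hr
    rw [tE_eq_iff hP hpm h2 (reflWord_lt hG hwl hr) hr]
    unfold Tab.commB at hb
    rw [List.all_eq_true] at hb
    have := hb r (List.mem_range.mpr hr)
    rwa [beq_iff_eq] at this
  have hconv : ∀ w ∈ W, z * nWordGL hG w * z⁻¹ = nWordGL hG w →
      w ∈ W.filter ((tabOf D).commB P) := by
    intro w hwW hcm
    have hwl := (hW.ok w hwW).1
    rw [List.mem_filter]
    refine ⟨hwW, ?_⟩
    unfold Tab.commB
    rw [List.all_eq_true]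
    intro r hr
    have hr' := List.mem_range.mp hr
    rw [beq_iff_eq, ← tE_eq_iff hP hpm h2 (reflWord_lt hG hwl hr') hr']
    exact tE_of_commute hG hT h8 hc hmat hwl hcm r hr'
  rw [card_CzSet_cells hG hT h3 h4 h5 h6 h7 h7n h8 h9 hW hz hc hmat hΨ hsub hnd hcomm hconv]
  congr 1
  apply List.map_congr_left
  intro w hw
  have hwl := (hW.ok w (hsub w hw)).1
  rw [card_UgeS_pos hG hT h3 h4 h7 h8 hcl, card_UgeS_minus hG hT h3 h4 h7 h7n h8 hcl hwl]

end count

end Cfsg.Agent.Helper8.ChevCz
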