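import Mathlib
import Cfsg.Agent.Helper8.ChevCzC
import Cfsg.Agent.Helper7.ChevPoincare

set_option autoImplicit false
set_option linter.unusedSectionVars false
set_option linter.unusedVariables false

/-!
The sum, over the elements of the Weyl group preserving a set `P` of roots, of the powers of `q` with
exponent the number of positive roots of `P` made negative: one step along a parabolic subgroup
preserving `P`.
-/

namespace Cfsg.Agent.Helper8.ChevCz

open Cfsg Cfsg.Lie Matrix Cfsg.Agent.Helper7 Cfsg.Agent.Helper7.Chev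

variable {D : ChevalleyDatum}

/-- The positive roots of `P` made negative by the word. -/
def negSetP (D : ChevalleyDatum) (P : ℕ → Bool) (w : List ℕ) : Finset ℕ :=
  (negSet D w).filter fun r => P r = true

section additivity

variable (hG : Good2 D) (hT : T0 D) {J' : List ℕ} {sub : ℕ → Bool} (hS : SubOK D J' sub)
  {P : ℕ → Bool}
  (hPJ : ∀ j ∈ J', ∀ r < D.nroots, P ((tabOf D).refl (D.simple j) r) = P r)
  (hsubP : ∀ r < D.nroots, sub r = true → P r = true)

include hG hS hPJ in
theorem P_reflWord {v : List ℕ} (hv : ∀ i ∈ v, i ∈ J') {r : ℕ} (hr : r < D.nroots) :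
    P ((tabOf D).reflWord v r) = P r := by
  induction v with
  | nil => rfl
  | cons i v ih =>
    have hv' : ∀ j ∈ v, j ∈ J' := fun j hj => hv j (List.mem_cons_of_mem _ hj)
    have hvr : ∀ j ∈ v, j < D.rank := fun j hj => hS.lt j (hv' j hj)
    rw [reflWord_cons]
    change P ((tabOf D).refl (D.simple i) _) = _
    rw [hPJ i (hv i List.mem_cons_self) _ (reflWord_lt hG hvr hr), ih hv']

include hG hT hS hPJ hsubP in
/-- Additivity of the number of negated roots of `P` for a coset representative times an element of the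
parabolic subgroup. -/
theorem card_negSetP_append {u v : List ℕ} (hu : ∀ i ∈ u, i < D.rank) (hv : ∀ i ∈ v, i ∈ J')
    (hrep : ∀ r < D.nroots, D.nroots / 2 ≤ r → sub r = true → D.nroots / 2 ≤ (tabOf D).reflWord u r) :
    (negSetP D P (u ++ v)).card = (negSetP D P u).card + (negSet D v).card := by
  have hG1 := hG.toGood1
  have hvr : ∀ j ∈ v, j < D.rank := fun j hj => hS.lt j (hv j hj)
  have hvrev : ∀ i ∈ v.reverse, i ∈ J' := fun i hi => hv i (List.mem_reverse.mp hi)
  have hvrevr : ∀ j ∈ v.reverse, j < D.rank := fun j hj => hS.lt j (hvrev j hj)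
  have hsplit : (negSetP D P (u ++ v)).card =
      ((negSetP D P (u ++ v)).filter fun r => sub r = false).card +
        ((negSetP D P (u ++ v)).filter fun r => sub r = true).card := by
    rw [← Finset.card_filter_add_card_filter_not (s := negSetP D P (u ++ v)) (fun r => sub r = false)]
    congr 2
    apply Finset.filter_congr
    intro r _
    simp
  have hA : ((negSetP D P (u ++ v)).filter fun r => sub r = false).card = (negSetP D P u).card := by
    apply Finset.card_bij (fun r _ => (tabOf D).reflWord v r)
    · intro r hr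
      simp only [negSetP, negSet, Finset.mem_filter, Finset.mem_range] at hr ⊢
      obtain ⟨⟨⟨hr, hpos, hneg⟩, hP⟩, hsub⟩ := hr
      refine ⟨⟨reflWord_lt hG hvr hr, pos_reflWord hG hS hv hr hpos hsub, ?_⟩, ?_⟩
      · rw [← reflWord_append]; exact hneg
      · rw [P_reflWord hG hS hPJ hv hr]; exact hP
    · intro r hr r' hr' h
      simp only [negSetP, negSet, Finset.mem_filter, Finset.mem_range] at hr hr'
      exact reflWord_injective hG hvr hr.1.1.1 hr'.1.1.1 h
    · intro s hs
      simp only [negSetP, negSet, Finset.mem_filter, Finset.mem_range] at hs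
      obtain ⟨⟨hs, hpos, hneg⟩, hP⟩ := hs
      have hsub : sub s = false := by
        by_contra h
        rw [Bool.not_eq_false] at h
        have := hrep s hs hpos h
        omega
      have hback := reflWord_reverse_cancel hG hvr hs
      refine ⟨(tabOf D).reflWord v.reverse s, ?_, hback⟩
      simp only [negSetP, negSet, Finset.mem_filter, Finset.mem_range]
      have hlt := reflWord_lt hG hvrevr hs
      refine ⟨⟨⟨hlt, pos_reflWord hG hS hvrev hs hpos hsub, ?_⟩, ?_⟩, ?_⟩
      · rw [reflWord_append, hback]; exact hneg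
      · rw [P_reflWord hG hS hPJ hvrev hs]; exact hP
      · rw [sub_reflWord hG hS hvrev hs, hsub]
  have hB : ((negSetP D P (u ++ v)).filter fun r => sub r = true) = negSet D v := by
    ext r
    simp only [negSetP, negSet, Finset.mem_filter, Finset.mem_range]
    constructor
    · rintro ⟨⟨⟨hr, hpos, hneg⟩, -⟩, hsub⟩
      refine ⟨hr, hpos, ?_⟩
      by_contra hcon
      have hvpos : D.nroots / 2 ≤ (tabOf D).reflWord v r := by omega
      have hvsub : sub ((tabOf D).reflWord v r) = true := by rw [sub_reflWord hG hS hv hr, hsub]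
      have := hrep _ (reflWord_lt hG hvr hr) hvpos hvsub
      rw [reflWord_append] at hneg
      omega
    · rintro ⟨hr, hpos, hneg⟩
      have hvlt := reflWord_lt hG hvr hr
      have hsub : sub r = true := by
        by_contra h
        rw [Bool.not_eq_true] at h
        have := pos_reflWord hG hS hv hr hpos h
        omega
      refine ⟨⟨⟨hr, hpos, ?_⟩, hsubP r hr hsub⟩, hsub⟩
      set s := D.neg ((tabOf D).reflWord v r) with hs
      have hslt : s < D.nroots := hG1.neg_lt hvlt
      have hspos : D.nroots / 2 ≤ s := neg_pos_of_neg hG hT hvlt hneg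
      have hssub : sub s = true := by rw [hs, hS.neg _ hvlt, sub_reflWord hG hS hv hr, hsub]
      have hus := hrep s hslt hspos hssub
      have e : (tabOf D).reflWord (u ++ v) r = D.neg ((tabOf D).reflWord u s) := by
        rw [reflWord_append, ← reflWord_neg hG hu hslt, hs, hG1.neg_neg hvlt]
      rw [e]
      exact neg_neg_of_pos hG hT (reflWord_lt hG hu hslt) hus
  rw [hsplit, hA, hB]

end additivity

/-! ### Sums over the Weyl group -/

/-- The map on the roots preserves the set `P`. -/
def presP (D : ChevalleyDatum) (P : ℕ → Bool) (σ : Fin D.nroots → Fin D.nroots) : Prop :=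
  ∀ r : Fin D.nroots, P (σ r).val = P r.val

instance (P : ℕ → Bool) (σ : Fin D.nroots → Fin D.nroots) : Decidable (presP D P σ) := by
  unfold presP; infer_instance

/-- The number of positive roots of `P` made negative by the map. -/
def nP (D : ChevalleyDatum) (P : ℕ → Bool) (σ : Fin D.nroots → Fin D.nroots) : ℕ :=
  (Finset.univ.filter fun r : Fin D.nroots =>
    (D.nroots / 2 ≤ r.val ∧ (σ r).val < D.nroots / 2) ∧ P r.val = true).card

/-- The summand. -/
def gP (D : ChevalleyDatum) (P : ℕ → Bool) (q : ℕ) (σ : Fin D.nroots → Fin D.nroots) : ℕ :=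
  if presP D P σ then q ^ nP D P σ else 0

section links

variable (hG : Good2 D)

include hG in
theorem commB_iff {P : ℕ → Bool} {w : List ℕ} (hw : ∀ i ∈ w, i < D.rank) :
    (tabOf D).commB P w = true ↔ presP D P (actF D w) := by
  unfold Tab.commB presP
  rw [List.all_eq_true]
  constructor
  · intro h r
    have := h r.val (List.mem_range.mpr r.2)
    rw [beq_iff_eq] at this
    rw [actF_val hG hw]
    exact this
  · intro h r hr
    have := h ⟨r, List.mem_range.mp hr⟩
    rw [actF_val hG hw] at this
    rw [beq_iff_eq]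
    exact this

include hG in
theorem nP_actF {P : ℕ → Bool} {w : List ℕ} (hw : ∀ i ∈ w, i < D.rank) :
    nP D P (actF D w) = (negSetP D P w).card := by
  unfold nP negSetP negSet
  apply Finset.card_bij (fun r _ => r.val)
  · intro r hr
    simp only [Finset.mem_filter, Finset.mem_univ, true_and, Finset.mem_range] at hr ⊢
    rw [actF_val hG hw] at hr
    exact ⟨⟨r.2, hr.1⟩, hr.2⟩
  · intro r _ r' _ h
    exact Fin.ext h
  · intro s hs
    simp only [Finset.mem_filter, Finset.mem_range] at hs
    refine ⟨⟨s, hs.1.1⟩, ?_, rfl⟩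
    simp only [Finset.mem_filter, Finset.mem_univ, true_and]
    rw [actF_val hG hw]
    exact ⟨hs.1.2, hs.2⟩

theorem cntMinus_eq_card (P : ℕ → Bool) (w : List ℕ) :
    (tabOf D).cntMinus P w = (negSetP D P w).card := by
  unfold Tab.cntMinus negSetP negSet
  set L := (List.range (tabOf D).n).filter (fun r => decide ((tabOf D).n / 2 ≤ r) &&
    (P r && decide ((tabOf D).reflWord w r < (tabOf D).n / 2))) with hL
  have hnd : L.Nodup := List.nodup_range.filter _
  rw [← List.toFinset_card_of_nodup hnd]
  congr 1
  ext r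
  rw [List.mem_toFinset, hL, List.mem_filter, List.mem_range, Bool.and_eq_true, Bool.and_eq_true,
    decide_eq_true_eq, decide_eq_true_eq, Finset.mem_filter, Finset.mem_filter, Finset.mem_range]
  change (r < D.nroots ∧ D.nroots / 2 ≤ r ∧ P r = true ∧ _ < D.nroots / 2) ↔ _
  tauto

include hG in
theorem cntMinus_eq_nP {P : ℕ → Bool} {w : List ℕ} (hw : ∀ i ∈ w, i < D.rank) :
    (tabOf D).cntMinus P w = nP D P (actF D w) := by
  rw [cntMinus_eq_card, nP_actF hG hw]

end links

theorem sum_filter_map {α : Type*} (L : List α) (p : α → Bool) (f : α → ℕ) :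
    ((L.filter p).map f).sum = (L.map fun x => if p x = true then f x else 0).sum := by
  induction L with
  | nil => rfl
  | cons a L ih =>
    by_cases h : p a = true
    · rw [List.filter_cons_of_pos h, List.map_cons, List.sum_cons, List.map_cons, List.sum_cons, ih,
        if_pos h]
    · rw [List.filter_cons_of_neg h, List.map_cons, List.sum_cons, ih, if_neg h, zero_add]

section sums

variable (hG : Good2 D) (hT : T0 D) (h6 : (tabOf D).T6) (h8 : (tabOf D).T8)

include hG in
/-- Every word acts as a word of the list. -/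
theorem exists_sameAct_of_wList {W : List (List ℕ)} (hW : WList D W) (v : List ℕ)
    (hv : ∀ i ∈ v, i < D.rank) :
    ∃ w ∈ W, ∀ r < D.nroots, (tabOf D).reflWord v r = (tabOf D).reflWord w r := by
  induction v with
  | nil => exact ⟨[], hW.nil_mem, fun _ _ => rfl⟩
  | cons i v ih =>
    have hi : i < D.rank := hv i List.mem_cons_self
    obtain ⟨w, hwW, hact⟩ := ih (fun j hj => hv j (List.mem_cons_of_mem _ hj))
    obtain ⟨w', hw'W, hact'⟩ := hW.closed w hwW i hi
    refine ⟨w', hw'W, ?_⟩
    intro r hr
    rw [← hact' r hr, reflWord_cons, reflWord_cons, hact r hr]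

include hG in
/-- A sum over a list of words representing each element of the Weyl group once is a sum over the Weyl
group. -/
theorem sum_wList {W : List (List ℕ)} (hW : WList D W) (g : (Fin D.nroots → Fin D.nroots) → ℕ) :
    (W.map fun w => g (actF D w)).sum = ∑ σ ∈ WJ D (List.range D.rank), g σ := by
  classical
  have hnd : (W.map (actF D)).Nodup := by
    rw [List.nodup_map_iff_inj_on hW.nodup]
    intro w hw w' hw' h
    exact hW.inj w hw w' hw' ((actF_eq_iff hG (hW.ok w hw).1 (hW.ok w' hw').1).mp h)
  have hset : (W.map (actF D)).toFinset = WJ D (List.range D.rank) := by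
    ext σ
    rw [List.mem_toFinset, List.mem_map, mem_WJ]
    constructor
    · rintro ⟨w, hw, rfl⟩
      exact ⟨w, fun i hi => List.mem_range.mpr ((hW.ok w hw).1 i hi), rfl⟩
    · rintro ⟨v, hv, rfl⟩
      have hv' : ∀ i ∈ v, i < D.rank := fun i hi => List.mem_range.mp (hv i hi)
      obtain ⟨w, hwW, hact⟩ := exists_sameAct_of_wList hG hW v hv'
      exact ⟨w, hwW, ((actF_eq_iff hG hv' (hW.ok w hwW).1).mpr hact).symm⟩
  rw [← hset, List.sum_toFinset g hnd, List.map_map]
  rfl

variable {J J' : List ℕ} {U : List (List ℕ)} {sub : ℕ → Bool} (hS : StepOK D J J' U sub)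

include hG hT h6 h8 hS in
/-- A sum over `W_J` as a sum over the representatives and over `W_{J'}`. -/
theorem sum_step (g : (Fin D.nroots → Fin D.nroots) → ℕ) :
    ∑ σ ∈ WJ D J, g σ = ∑ a : Fin U.length, ∑ τ ∈ WJ D J', g (actF D (U.get a) ∘ τ) := by
  classical
  have hJ' : ∀ j ∈ J', j < D.rank := hS.subOK.lt
  let f : Fin U.length × (Fin D.nroots → Fin D.nroots) → (Fin D.nroots → Fin D.nroots) :=
    fun p => actF D (U.get p.1) ∘ p.2
  have himage : WJ D J = ((Finset.univ : Finset (Fin U.length)) ×ˢ WJ D J').image f := by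
    ext σ
    rw [Finset.mem_image]
    constructor
    · intro hσ
      obtain ⟨w, hw, rfl⟩ := mem_WJ.mp hσ
      obtain ⟨u, huU, v, hv, e⟩ := exists_factor hG hS w hw
      obtain ⟨a, rfl⟩ := List.mem_iff_get.mp huU
      have hur : ∀ j ∈ U.get a, j < D.rank := fun j hj => hS.ltJ j (hS.words _ huU j hj)
      have hvr : ∀ j ∈ v, j < D.rank := fun j hj => hJ' j (hv j hj)
      refine ⟨(a, actF D v), ?_, ?_⟩
      · rw [Finset.mem_product]
        exact ⟨Finset.mem_univ _, mem_WJ.mpr ⟨v, hv, rfl⟩⟩
      · rw [e, actF_append hG hur hvr]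
    · rintro ⟨⟨a, τ⟩, hp, rfl⟩
      rw [Finset.mem_product] at hp
      obtain ⟨v, hv, rfl⟩ := mem_WJ.mp hp.2
      have huU : U.get a ∈ U := List.get_mem U a
      have hur : ∀ j ∈ U.get a, j < D.rank := fun j hj => hS.ltJ j (hS.words _ huU j hj)
      have hvr : ∀ j ∈ v, j < D.rank := fun j hj => hJ' j (hv j hj)
      apply mem_WJ.mpr
      refine ⟨U.get a ++ v, ?_, actF_append hG hur hvr⟩
      intro i hi
      rcases List.mem_append.mp hi with hi | hi
      · exact hS.words _ huU i hi
      · exact hS.subset i (hv i hi)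
  have hinj : Set.InjOn f ((Finset.univ : Finset (Fin U.length)) ×ˢ WJ D J' : Finset _) := by
    rintro ⟨a, τ⟩ hp ⟨a', τ'⟩ hp' e
    rw [Finset.mem_coe, Finset.mem_product] at hp hp'
    obtain ⟨v, hv, rfl⟩ := mem_WJ.mp hp.2
    obtain ⟨v', hv', rfl⟩ := mem_WJ.mp hp'.2
    have huU : U.get a ∈ U := List.get_mem U a
    have hu'U : U.get a' ∈ U := List.get_mem U a'
    have hur : ∀ j ∈ U.get a, j < D.rank := fun j hj => hS.ltJ j (hS.words _ huU j hj)
    have hu'r : ∀ j ∈ U.get a', j < D.rank := fun j hj => hS.ltJ j (hS.words _ hu'U j hj)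
    have hvr : ∀ j ∈ v, j < D.rank := fun j hj => hJ' j (hv j hj)
    have hv'r : ∀ j ∈ v', j < D.rank := fun j hj => hJ' j (hv' j hj)
    have e' : actF D (U.get a ++ v) = actF D (U.get a' ++ v') := by
      rw [actF_append hG hur hvr, actF_append hG hu'r hv'r]; exact e
    obtain ⟨h1, h2⟩ := factor_unique hG hT h6 h8 hS huU hu'U hv hv' e'
    have haa : a = a' := (List.Nodup.get_inj_iff hS.nodup).mp h1
    rw [haa, h2]
  rw [himage, Finset.sum_image hinj, Finset.sum_product]

variable {P : ℕ → Bool}
  (hPJ : ∀ j ∈ J', ∀ r < D.nroots, P ((tabOf D).refl (D.simple j) r) = P r)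
  (hsubP : ∀ r < D.nroots, sub r = true → P r = true)

include hG hT h6 h8 hS hPJ hsubP in
/-- The sum over the elements of the Weyl group preserving `P`, in terms of the representatives
preserving `P` and of the Poincaré polynomial of the parabolic subgroup. -/
theorem czsum_step (hJ : ∀ i < D.rank, i ∈ J) {W : List (List ℕ)} (hW : WList D W) (q : ℕ) :
    ((W.filter ((tabOf D).commB P)).map fun w => q ^ (tabOf D).cntMinus P w).sum =
      ((U.filter ((tabOf D).commB P)).map fun u => q ^ (tabOf D).cntMinus P u).sum * PS D J' q := by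
  classical
  have hJ' : ∀ j ∈ J', j < D.rank := hS.subOK.lt
  -- the left hand side as a sum over the Weyl group
  have hL : ((W.filter ((tabOf D).commB P)).map fun w => q ^ (tabOf D).cntMinus P w).sum =
      ∑ σ ∈ WJ D J, gP D P q σ := by
    have hWJ : WJ D (List.range D.rank) = WJ D J := by
      ext σ
      rw [mem_WJ, mem_WJ]
      constructor
      · rintro ⟨w, hw, e⟩
        exact ⟨w, fun i hi => hJ i (List.mem_range.mp (hw i hi)), e⟩
      · rintro ⟨w, hw, e⟩
        exact ⟨w, fun i hi => List.mem_range.mpr (hS.ltJ i (hw i hi)), e⟩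
    rw [sum_filter_map, ← hWJ, ← sum_wList hG hW]
    congr 1
    apply List.map_congr_left
    intro w hw
    have hwl := (hW.ok w hw).1
    unfold gP
    by_cases hc : (tabOf D).commB P w = true
    · rw [if_pos hc, if_pos ((commB_iff hG hwl).mp hc), cntMinus_eq_nP hG hwl]
    · rw [if_neg hc, if_neg (fun h => hc ((commB_iff hG hwl).mpr h))]
  -- the right hand side
  have hR : ((U.filter ((tabOf D).commB P)).map fun u => q ^ (tabOf D).cntMinus P u).sum =
      ∑ a : Fin U.length, gP D P q (actF D (U.get a)) := by
    rw [sum_filter_map, ← Fin.sum_univ_fun_getElem U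
      (fun u => if (tabOf D).commB P u = true then q ^ (tabOf D).cntMinus P u else 0)]
    apply Finset.sum_congr rfl
    intro a _
    have huU : U.get a ∈ U := List.get_mem U a
    have hur : ∀ j ∈ U.get a, j < D.rank := fun j hj => hS.ltJ j (hS.words _ huU j hj)
    unfold gP
    change (if (tabOf D).commB P (U.get a) = true then q ^ (tabOf D).cntMinus P (U.get a) else 0) = _
    by_cases hc : (tabOf D).commB P (U.get a) = true
    · rw [if_pos hc, if_pos ((commB_iff hG hur).mp hc), cntMinus_eq_nP hG hur]
    · rw [if_neg hc, if_neg (fun h => hc ((commB_iff hG hur).mpr h))]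
  rw [hL, hR, sum_step hG hT h6 h8 hS, Finset.sum_mul]
  apply Finset.sum_congr rfl
  intro a _
  unfold PS
  rw [Finset.mul_sum]
  apply Finset.sum_congr rfl
  intro τ hτ
  obtain ⟨v, hv, rfl⟩ := mem_WJ.mp hτ
  have huU : U.get a ∈ U := List.get_mem U a
  have hur : ∀ j ∈ U.get a, j < D.rank := fun j hj => hS.ltJ j (hS.words _ huU j hj)
  have hvr : ∀ j ∈ v, j < D.rank := fun j hj => hJ' j (hv j hj)
  have huv : ∀ j ∈ U.get a ++ v, j < D.rank := by
    intro j hj
    rcases List.mem_append.mp hj with hj | hj
    · exact hur j hj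
    · exact hvr j hj
  have hpres : presP D P (actF D (U.get a) ∘ actF D v) ↔ presP D P (actF D (U.get a)) := by
    have hvP : ∀ r : Fin D.nroots, P (actF D v r).val = P r.val := by
      intro r
      rw [actF_val hG hvr]
      exact P_reflWord hG hS.subOK hPJ hv r.2
    have hvrev : ∀ i ∈ v.reverse, i ∈ J' := fun i hi => hv i (List.mem_reverse.mp hi)
    have hvrevr : ∀ j ∈ v.reverse, j < D.rank := fun j hj => hJ' j (hvrev j hj)
    unfold presP
    constructor
    · intro h r
      -- `r = v (v⁻¹ r)`
      have hback : actF D v (actF D v.reverse r) = r := by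
        apply Fin.ext
        rw [actF_val hG hvr, actF_val hG hvrevr]
        exact reflWord_reverse_cancel hG hvr r.2
      have := h (actF D v.reverse r)
      rw [Function.comp_apply, hback] at this
      rw [this, ← hvP (actF D v.reverse r), hback]
    · intro h r
      rw [Function.comp_apply, h, hvP]
  unfold gP
  by_cases hc : presP D P (actF D (U.get a))
  · rw [if_pos hc, if_pos (hpres.mpr hc), ← actF_append hG hur hvr, nP_actF hG huv, nP_actF hG hur,
      nSigma_actF hG hvr, nMinus_eq_card,
      card_negSetP_append hG hT hS.subOK hPJ hsubP hur hv (hS.rep _ huU), pow_add]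
  · rw [if_neg hc, if_neg (fun h => hc (hpres.mp h)), zero_mul]

end sums

end Cfsg.Agent.Helper8.ChevCz
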