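import Mathlib
import Cfsg.Agent.Helper8.ChevCzD
import Cfsg.Agent.Helper7.ChevStepCert
import Cfsg.Agent.Helper7.ChevInvA

set_option autoImplicit false
set_option linter.unusedSectionVars false
set_option linter.unusedVariables false

/-!
The words of a list preserving a set `P` of roots, from a list of witnesses: for every word either a root
at which `P` is not preserved, or nothing (a number not less than the number of roots), in which case
the word is checked to preserve `P`. All with the table of the fundamental reflections.
-/

namespace Cfsg.Agent.Helper8.ChevCz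

open Cfsg Cfsg.Lie Matrix Cfsg.Agent.Helper7 Cfsg.Agent.Helper7.Chev Cfsg.Agent.Helper8.G2Odd
  Cfsg.Agent.Helper8.G2Cz

variable {D : ChevalleyDatum}

/-- The check of the list of witnesses. -/
def witOK (D : ChevalleyDatum) (R : ℕ × ℕ) (P : ℕ → Bool) (U : List (List ℕ)) (wit : List ℕ) : Bool :=
  (U.zip wit).all fun p =>
    if p.2 < D.nroots then (P (fastWord R p.1 p.2) != P p.2)
    else (List.range D.nroots).all fun r => P (fastWord R p.1 r) == P r

/-- The number of positive roots in the set `P` made negative by the word, from a table. -/
def cntMinusF (D : ChevalleyDatum) (R : ℕ × ℕ) (P : ℕ → Bool) (w : List ℕ) : ℕ :=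
  ((List.range D.nroots).filter
    (fun r => decide (D.nroots / 2 ≤ r) && (P r && decide (fastWord R w r < D.nroots / 2)))).length

/-- Filtering a list by a property decided by a list of witnesses. -/
theorem filter_of_wit {α : Type*} (p : α → Bool) (n : ℕ) : ∀ (L : List α) (wit : List ℕ),
    wit.length = L.length → (∀ q ∈ L.zip wit, p q.1 = decide (n ≤ q.2)) →
    L.filter p = ((L.zip wit).filter fun q => decide (n ≤ q.2)).map Prod.fst := by
  intro L
  induction L with
  | nil => intro wit _ _; rfl
  | cons a L ih =>
    intro wit hlen h
    cases wit with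
    | nil => simp at hlen
    | cons x wit =>
      have hlen' : wit.length = L.length := by simpa using hlen
      rw [List.zip_cons_cons] at h ⊢
      have h1 := h (a, x) List.mem_cons_self
      have ih' := ih wit hlen' (fun q hq => h q (List.mem_cons_of_mem _ hq))
      by_cases hx : n ≤ x
      · have hp : p a = true := by rw [h1]; simpa using hx
        rw [List.filter_cons_of_pos hp, List.filter_cons_of_pos (by simpa using hx), List.map_cons,
          ih']
      · have hp : ¬ (p a = true) := by rw [h1]; simpa using hx
        rw [List.filter_cons_of_neg hp, List.filter_cons_of_neg (by simpa using hx), ih']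

section fast

variable (hG : Good2 D) {R : ℕ × ℕ} (hR : ReflOK D R) {P : ℕ → Bool}

include hG hR in
theorem cntMinus_eq_fast {w : List ℕ} (hw : ∀ i ∈ w, i < D.rank) :
    (tabOf D).cntMinus P w = cntMinusF D R P w := by
  unfold Tab.cntMinus cntMinusF
  congr 1
  apply List.filter_congr
  intro r hr
  rw [List.mem_range] at hr
  have hr' : r < D.nroots := hr
  rw [fastWord_eq' hG hR hw hr']
  rfl

include hG hR in
/-- The words of the list preserving `P`. -/
theorem filter_commB_of_wit : ∀ (U : List (List ℕ)) (wit : List ℕ),
    (∀ u ∈ U, ∀ i ∈ u, i < D.rank) → wit.length = U.length → witOK D R P U wit = true →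
    U.filter ((tabOf D).commB P) =
      ((U.zip wit).filter fun p => decide (D.nroots ≤ p.2)).map Prod.fst := by
  intro U
  induction U with
  | nil => intro wit _ _ _; rfl
  | cons u U ih =>
    intro wit hU hlen h
    cases wit with
    | nil => simp at hlen
    | cons x wit =>
      have hu : ∀ i ∈ u, i < D.rank := hU u List.mem_cons_self
      have hU' : ∀ v ∈ U, ∀ i ∈ v, i < D.rank := fun v hv => hU v (List.mem_cons_of_mem _ hv)
      have hlen' : wit.length = U.length := by simpa using hlen
      unfold witOK at h
      rw [List.zip_cons_cons, List.all_cons, Bool.and_eq_true] at h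
      obtain ⟨h1, h2⟩ := h
      have ih' := ih wit hU' hlen' h2
      rw [List.zip_cons_cons]
      by_cases hx : x < D.nroots
      · have hfalse : (tabOf D).commB P u = false := by
          rw [Bool.eq_false_iff]
          intro hc
          unfold Tab.commB at hc
          rw [List.all_eq_true] at hc
          have := hc x (List.mem_range.mpr hx)
          rw [beq_iff_eq, fastWord_eq' hG hR hu hx] at this
          simp only [hx, if_true] at h1
          rw [bne_iff_ne] at h1
          exact h1 this
        rw [List.filter_cons_of_neg (by rw [hfalse]; simp), List.filter_cons_of_neg (by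
          simp only [decide_eq_true_eq]; omega), ih']
      · have htrue : (tabOf D).commB P u = true := by
          unfold Tab.commB
          rw [List.all_eq_true]
          intro r hr
          have hr' : r < D.nroots := List.mem_range.mp hr
          simp only [hx, if_false] at h1
          rw [List.all_eq_true] at h1
          rw [fastWord_eq' hG hR hu hr']
          exact h1 r hr
        rw [List.filter_cons_of_pos htrue, List.filter_cons_of_pos (by
          simp only [decide_eq_true_eq]; omega), List.map_cons, ih']

include hG hR in
/-- The sum over the words of the list preserving `P`, from the list of witnesses, the resulting list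
of words and their numbers of positive roots of `P` made negative. -/
theorem sum_filter_commB {U : List (List ℕ)} {wit : List ℕ} {keep : List (List ℕ)} {cnts : List ℕ}
    (hU : ∀ u ∈ U, ∀ i ∈ u, i < D.rank) (hlen : wit.length = U.length)
    (hwit : witOK D R P U wit = true)
    (hkeep : ((U.zip wit).filter fun p => decide (D.nroots ≤ p.2)).map Prod.fst = keep)
    (hcnt : keep.map (cntMinusF D R P) = cnts) (q : ℕ) :
    ((U.filter ((tabOf D).commB P)).map fun u => q ^ (tabOf D).cntMinus P u).sum =
      (cnts.map fun k => q ^ k).sum := by
  have hf := filter_commB_of_wit hG hR U wit hU hlen hwit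
  rw [hkeep] at hf
  rw [hf, ← hcnt, List.map_map]
  congr 1
  apply List.map_congr_left
  intro u hu
  have huU : u ∈ U := by
    rw [← hf] at hu
    exact (List.mem_filter.mp hu).1
  simp only [Function.comp_apply]
  rw [cntMinus_eq_fast hG hR (hU u huU)]

end fast

section step

variable {F : Type*} [Field F]
variable (hG : Good2 D) (hT : T0 D) (h3 : (tabOf D).T3) (h4 : (tabOf D).T4 60) (h5 : (tabOf D).T5)
  (h6 : (tabOf D).T6) (h7 : (tabOf D).T7) (h7n : (tabOf D).T7n) (h8 : (tabOf D).T8)
  (h9 : (tabOf D).T9)
  {z : GL D.Idx F} (hz : z ∈ D.diagonalSubgroup F) {c : ℕ → F} (hc : ∀ i < D.rank, c i ≠ 0)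
  (hmat : (z : Matrix D.Idx D.Idx F) = tMat D c)
  {P : ℕ → Bool} (hP : ∀ r < D.nroots, (tE D c r = 1 ↔ P r = true))
  (hpm : ∀ r < D.nroots, tE D c r = 1 ∨ tE D c r = -1) (h2 : (2 : F) ≠ 0)
  (hcl : (tabOf D).ClosedB P)
  {J J' : List ℕ} {U : List (List ℕ)} {sub : ℕ → Bool} (hS : StepOK D J J' U sub)
  (hPJ : ∀ j ∈ J', ∀ r < D.nroots, P ((tabOf D).refl (D.simple j) r) = P r)
  (hsubP : ∀ r < D.nroots, sub r = true → P r = true)
  (hJ : ∀ i < D.rank, i ∈ J)

theorem sum_map_factor' (L : List (List ℕ)) (A B q : ℕ) (m : List ℕ → ℕ) :
    (L.map fun w => A * (B * q ^ m w)).sum = A * B * (L.map fun w => q ^ m w).sum := by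
  induction L with
  | nil => simp
  | cons w L ih =>
    rw [List.map_cons, List.sum_cons, ih, List.map_cons, List.sum_cons]
    ring

include hG hT h3 h4 h5 h6 h7 h7n h8 h9 hz hc hmat hP hpm h2 hcl hS hPJ hsubP hJ in
/-- The order of the centralizer of `z`, in terms of the coset representatives preserving `P` of a
parabolic subgroup preserving `P` and of the Poincaré polynomial of this subgroup. -/
theorem card_CzSet_step [Fintype F] :
    Nat.card (CzSet D z) = Fintype.card F ^ (tabOf D).cntPos P * Nat.card (D.diagonalSubgroup F) *
      (((U.filter ((tabOf D).commB P)).map fun u => Fintype.card F ^ (tabOf D).cntMinus P u).sum *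
        PS D J' (Fintype.card F)) := by
  obtain ⟨W, hW⟩ := exists_wList hG hT h6 h8
  rw [card_CzSet_formula hG hT h3 h4 h5 h6 h7 h7n h8 h9 hW hz hc hmat hP hpm h2 hcl,
    sum_map_factor', czsum_step hG hT h6 h8 hS hPJ hsubP hJ hW]

end step

end Cfsg.Agent.Helper8.ChevCz
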