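import Mathlib
import Cfsg.Agent.Helper8.ChevCosK
import Cfsg.Agent.Helper8.ChevCzE

set_option autoImplicit false
set_option linter.unusedSectionVars false
set_option linter.unusedVariables false

/-!
The coset representatives of a certificate with tables that preserve a set `P` of roots, read off the
table of the images of the positive roots.
-/

namespace Cfsg.Agent.Helper8.ChevCos

open Cfsg Cfsg.Lie Matrix Cfsg.Agent.Helper7 Cfsg.Agent.Helper7.Chev Cfsg.Agent.Helper8.ChevCz

namespace CosData

variable (C : CosData) (D : ChevalleyDatum)

/-- The check of the list of witnesses: for every representative either a root at which `P` is not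
preserved, or nothing, in which case the representative is checked to preserve `P`. -/
def witOKK (P : ℕ → Bool) (wit : List ℕ) : Bool :=
  ((List.range C.N).zip wit).all fun q => withNat (C.keyAt D q.1) fun k =>
    if q.2 < D.nroots then (P (imgK D k q.2) != P q.2)
    else (List.range D.nroots).all fun r => P (imgK D k r) == P r

/-- The number of positive roots of `P` made negative by the representative at the place `a`. -/
def cntK (P : ℕ → Bool) (a : ℕ) : ℕ :=
  withNat (C.keyAt D a) fun k => ((List.range D.nroots).filter fun r =>
    decide (D.nroots / 2 ≤ r) && (P r && decide (imgK D k r < D.nroots / 2))).length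

end CosData

section sound

variable {D : ChevalleyDatum} (hG : Good2 D) (hT : T0 D)
  {C : CosData} (hR : ReflOK D C.R) (hev : D.nroots % 2 = 0)
  (hneg : ∀ r < D.nroots, D.neg r = D.nroots - 1 - r)
  (hltJ : ∀ i ∈ C.J, i < D.rank)
  (hrootkey : AllLt (D.nroots / 2) fun t => fld (C.keyAt D C.root) 8 t = D.nroots / 2 + t)
  (hnode : ∀ a < C.N, C.NodeOK D a) {P : ℕ → Bool}

include hG hT hR hev hneg hltJ hrootkey hnode in
/-- The sum over the representatives preserving `P`, from the list of witnesses, the resulting list of
places and their numbers of positive roots of `P` made negative. -/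
theorem sum_filter_commB_cos {wit : List ℕ} {keep : List ℕ} {cnts : List ℕ}
    (hlen : wit.length = C.N) (hwit : C.witOKK D P wit = true)
    (hkeep : (((List.range C.N).zip wit).filter fun q => decide (D.nroots ≤ q.2)).map Prod.fst = keep)
    (hcnt : keep.map (C.cntK D P) = cnts) (q : ℕ) :
    ((C.words.filter ((tabOf D).commB P)).map fun u => q ^ (tabOf D).cntMinus P u).sum =
      (cnts.map fun k => q ^ k).sum := by
  have himg := fun {a : ℕ} (ha : a < C.N) => wordOf_img hG hT hR hev hneg hltJ hrootkey hnode ha
  have hf : (List.range C.N).filter (fun a => (tabOf D).commB P (C.wordOf C.F a)) = keep := by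
    rw [← hkeep]
    apply filter_of_wit _ _ _ _ (by rw [List.length_range]; exact hlen)
    intro p hp
    have ha : p.1 < C.N := List.mem_range.mp (List.of_mem_zip hp).1
    unfold CosData.witOKK at hwit
    rw [List.all_eq_true] at hwit
    have h1 := hwit p hp
    rw [withNat_eq] at h1
    by_cases hx : p.2 < D.nroots
    · rw [if_pos hx, bne_iff_ne] at h1
      have : decide (D.nroots ≤ p.2) = false := by simpa using hx
      rw [this, Bool.eq_false_iff]
      intro hc
      unfold Tab.commB at hc
      rw [List.all_eq_true] at hc
      have h2 := hc p.2 (List.mem_range.mpr hx)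
      rw [beq_iff_eq, (himg ha).2 _ hx] at h2
      exact h1 h2
    · rw [if_neg hx, List.all_eq_true] at h1
      have : decide (D.nroots ≤ p.2) = true := by simpa using hx
      rw [this]
      unfold Tab.commB
      rw [List.all_eq_true]
      intro r hr
      have hr' : r < D.nroots := List.mem_range.mp hr
      rw [(himg ha).2 _ hr']
      exact h1 r hr
  unfold CosData.words
  rw [List.filter_map, List.map_map]
  have hf' : (List.range C.N).filter ((tabOf D).commB P ∘ C.wordOf C.F) = keep := hf
  rw [hf', ← hcnt, List.map_map]
  congr 1
  apply List.map_congr_left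
  intro a ha
  have haN : a < C.N := by
    rw [← hf] at ha
    exact List.mem_range.mp (List.mem_filter.mp ha).1
  simp only [Function.comp_apply]
  congr 1
  unfold Tab.cntMinus CosData.cntK
  rw [withNat_eq]
  congr 1
  apply List.filter_congr
  intro r hr
  have hr' : r < D.nroots := List.mem_range.mp hr
  rw [(himg haN).2 _ hr']
  rfl

end sound

end Cfsg.Agent.Helper8.ChevCos
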