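import Mathlib
import Cfsg.Agent.Helper8.ChevOddB

set_option autoImplicit false
set_option linter.unusedSectionVars false
set_option linter.unusedVariables false

/-!
Involutions `h n_w` of the monomial subgroup over a finite field of odd order: when `w` maps two
fundamental roots `p_i`, `p_j` with odd Cartan integer to their negatives, the element is conjugate to
an element over one of the words `i w`, `j w`, `j i w i`.
-/

namespace Cfsg.Agent.Helper8.ChevOdd

open Cfsg Cfsg.Lie Matrix Cfsg.Agent.Helper7 Cfsg.Agent.Helper7.Chev Cfsg.Agent.Helper8.G2Odd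

variable {D : ChevalleyDatum} {F : Type*} [Field F]

theorem prod_map_zpow (L : List ℕ) (f : ℕ → F) (n : ℤ) :
    ((L.map f).prod) ^ n = (L.map (fun i => f i ^ n)).prod := by
  induction L with
  | nil => simp
  | cons a L ih => rw [List.map_cons, List.prod_cons, mul_zpow, ih, List.map_cons, List.prod_cons]

/-- The value of a torus element at a reflected root. -/
theorem tE_refl (hG : Good2 D) (c : ℕ → F) (hc : ∀ i < D.rank, c i ≠ 0) {i : ℕ} (hi : i < D.rank)
    {s : ℕ} (hs : s < D.nroots) :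
    tE D c ((tabOf D).refl (D.simple i) s) =
      tE D c s * (tE D c (D.simple i)) ^ (-(D.cartan i s)) := by
  unfold tE
  rw [prod_map_zpow, ← List.prod_map_mul]
  congr 1
  apply List.map_congr_left
  intro m hm
  have hm' := List.mem_range.mp hm
  have hcm := hc m hm'
  rw [hG.cartan_refl hi hs hm', ← _root_.zpow_mul, ← zpow_add₀ hcm]
  congr 1
  ring

theorem isSquare_eta {η : ℤ} (hη : η * η = 1) (hm1 : IsSquare (-1 : F)) :
    IsSquare ((η : ℤ) : F) := by
  rcases int_sq_one hη with h | h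
  · rw [h, Int.cast_one]
    exact ⟨1, (one_mul 1).symm⟩
  · rw [h, Int.cast_neg, Int.cast_one]
    exact hm1

theorem zpow_odd_eq {x : F} (hx : x ≠ 0) {n : ℤ} (hn : n % 2 = 1) :
    ∃ y : F, x ^ n = x * (y * y) := by
  refine ⟨x ^ (n / 2), ?_⟩
  have : n = 1 + (n / 2 + n / 2) := by omega
  conv_lhs => rw [this]
  rw [zpow_add₀ hx, zpow_add₀ hx, zpow_one]

section swap

variable (hG : Good2 D)

include hG in
/-- The swapping action of the product with `h_{p_i}(t)`. -/
theorem SwapAct.torus_mul {i : ℕ} (hi : i < D.rank) {r : ℕ} (hr : r < D.nroots)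
    {k : GL D.Idx F} {b t : F} (hb : b ≠ 0) (ht : t ≠ 0)
    (h : SwapAct hG.toGood1 hr k b) :
    SwapAct hG.toGood1 hr (hGL hG.toGood1 (hG.toGood1.simple_lt hi) t ht * k)
      (b * t ^ D.cartan i r) := by
  have hG1 := hG.toGood1
  have hp := hG1.simple_lt hi
  set hm := hGL (F := F) hG1 hp t ht with hhm
  have hconj : ∀ {s : ℕ} (hs : s < D.nroots) (u : F),
      hm * xGL hG1 hs u * hm⁻¹ = xGL hG1 hs (t ^ D.cartan i s * u) := by
    intro s hs u
    rw [mul_inv_eq_iff_eq_mul]
    apply Units.ext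
    rw [Units.val_mul, Units.val_mul, xGL_coe, xGL_coe, hGL_coe]
    exact h_simple_conj_root_elem hG hi hs t ht u
  have hta : t ^ D.cartan i r ≠ 0 := zpow_ne_zero _ ht
  constructor
  · intro s
    have e : hm * k * phiHom hG1 hr (upperSL s) * (hm * k)⁻¹ =
        hm * (k * phiHom hG1 hr (upperSL s) * k⁻¹) * hm⁻¹ := by group
    rw [e, h.1, phiHom_lower_eq hG hr, phiHom_lower_eq hG hr, hconj]
    congr 1
    rw [hG1.cartan_neg hr hi, _root_.zpow_neg, mul_inv]
    ring
  · intro s
    have e : hm * k * phiHom hG1 hr (lowerSL s) * (hm * k)⁻¹ =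
        hm * (k * phiHom hG1 hr (lowerSL s) * k⁻¹) * hm⁻¹ := by group
    rw [e, h.2]
    change hm * xGL hG1 hr (b * s) * hm⁻¹ = xGL hG1 hr (b * t ^ D.cartan i r * s)
    rw [hconj]
    congr 1
    ring

end swap

section typeA

variable (hG : Good2 D) (hT : T0 D) (h8 : (tabOf D).T8)

include hG hT h8 in
/-- Two fundamental roots with odd Cartan integer mapped to their negatives. -/
theorem pair_step [Fintype F] (hodd : Fintype.card F % 2 = 1) (h2 : (2 : F) ≠ 0)
    {h : GL D.Idx F} (hh : h ∈ D.diagonalSubgroup F) {c : ℕ → F} (hc : ∀ i < D.rank, c i ≠ 0)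
    (hmat : (h : Matrix D.Idx D.Idx F) = tMat D c) {w : List ℕ} (hw : ∀ i ∈ w, i < D.rank)
    {i j : ℕ} (hi : i < D.rank) (hj : j < D.rank)
    (hwi : (tabOf D).reflWord w (D.simple i) = D.neg (D.simple i))
    (hwj : (tabOf D).reflWord w (D.simple j) = D.neg (D.simple j))
    (hwr : (tabOf D).reflWord w ((tabOf D).refl (D.simple i) (D.simple j)) =
      D.neg ((tabOf D).refl (D.simple i) (D.simple j)))
    (hpar : D.cartan i (D.simple j) % 2 = 1) :
    ∃ g ∈ D.group F, ∃ h' ∈ D.diagonalSubgroup F, ∃ w' : List ℕ,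
      (w' = i :: w ∨ w' = j :: w ∨ w' = j :: i :: (w ++ [i])) ∧
      g * (h * nWordGL hG w) * g⁻¹ = h' * nWordGL hG w' := by
  have hG1 := hG.toGood1
  have hpi := hG1.simple_lt hi
  have hpj := hG1.simple_lt hj
  have hAi := swapAct_of_rep (F := F) hG hc hmat hw hpi hwi
  have hAj := swapAct_of_rep (F := F) hG hc hmat hw hpj hwj
  have hηi := etaWord_cast_ne_zero (F := F) hG hw hpi
  have hηj := etaWord_cast_ne_zero (F := F) hG hw hpj
  have hti := tE_ne_zero (D := D) c hc (D.simple i)
  have htj := tE_ne_zero (D := D) c hc (D.simple j)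
  set bi : F := tE D c (D.simple i) * (((tabOf D).etaWord w (D.simple i) : ℤ) : F) with hbi
  set bj : F := tE D c (D.simple j) * (((tabOf D).etaWord w (D.simple j) : ℤ) : F) with hbj
  have hbi0 : bi ≠ 0 := mul_ne_zero hti hηi
  have hbj0 : bj ≠ 0 := mul_ne_zero htj hηj
  by_cases hsi : IsSquare bi
  · obtain ⟨g, hg, h', hh', e⟩ := peel_at' hG hh hi w hbi0 hsi h2 hAi
    exact ⟨g, hg, h', hh', _, Or.inl rfl, e⟩
  by_cases hsj : IsSquare bj
  · obtain ⟨g, hg, h', hh', e⟩ := peel_at' hG hh hj w hbj0 hsj h2 hAj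
    exact ⟨g, hg, h', hh', _, Or.inr (Or.inl rfl), e⟩
  have hm10 : (-1 : F) ≠ 0 := neg_ne_zero.mpr one_ne_zero
  by_cases hm1 : IsSquare (-1 : F)
  · -- conjugate by `n_i` and peel at `j`
    set r' := (tabOf D).refl (D.simple i) (D.simple j) with hr'
    have hr'lt : r' < D.nroots := hG.refl_lt hi hpj
    have hAr := swapAct_of_rep (F := F) hG hc hmat hw hr'lt hwr
    have hηr := etaWord_cast_ne_zero (F := F) hG hw hr'lt
    have htr := tE_ne_zero (D := D) c hc r'
    -- the scalar at `r'` is a square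
    have hsq : IsSquare (tE D c r' * (((tabOf D).etaWord w r' : ℤ) : F)) := by
      have e1 : tE D c r' = tE D c (D.simple j) *
          (tE D c (D.simple i)) ^ (-(D.cartan i (D.simple j))) := tE_refl hG c hc hi hpj
      have hodd' : (-(D.cartan i (D.simple j))) % 2 = 1 := by omega
      obtain ⟨y, hy⟩ := zpow_odd_eq hti hodd'
      have hEi := isSquare_eta (F := F) (etaWord_sq hG hw hpi) hm1
      have hEj := isSquare_eta (F := F) (etaWord_sq hG hw hpj) hm1
      have hEr := isSquare_eta (F := F) (etaWord_sq hG hw hr'lt) hm1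
      have hEi1 := etaWord_cast_mul_self (F := F) hG hw hpi
      have hEj1 := etaWord_cast_mul_self (F := F) hG hw hpj
      have hbb : IsSquare (bi * bj) := isSquare_mul_of_not hsi hsj
      have e2 : tE D c r' * (((tabOf D).etaWord w r' : ℤ) : F) =
          (bi * bj) * ((((tabOf D).etaWord w (D.simple i) : ℤ) : F) *
            (((tabOf D).etaWord w (D.simple j) : ℤ) : F)) * (y * y) *
            (((tabOf D).etaWord w r' : ℤ) : F) := by
        rw [e1, hy, hbi, hbj]
        linear_combination (-(tE D c (D.simple j) * tE D c (D.simple i) * (y * y) *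
          (((tabOf D).etaWord w r' : ℤ) : F) *
          ((((tabOf D).etaWord w (D.simple j) : ℤ) : F) *
            (((tabOf D).etaWord w (D.simple j) : ℤ) : F)))) * hEi1 -
          (tE D c (D.simple j) * tE D c (D.simple i) * (y * y) *
          (((tabOf D).etaWord w r' : ℤ) : F)) * hEj1
      rw [e2]
      exact ((hbb.mul (hEi.mul hEj)).mul ⟨y, rfl⟩).mul hEr
    -- transport to `p_j`
    set n := nGL (F := F) hG1 hpi with hn
    have hnw : nWordGL hG [i] = n := by rw [nWordGL_cons hG hi, nWordGL_nil, mul_one]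
    have hw1 : ∀ m ∈ [i], m < D.rank := by
      intro m hm
      rw [List.mem_singleton] at hm
      rw [hm]; exact hi
    have hrr : (tabOf D).reflWord [i] r' = D.simple j := hG.refl_refl hi hpj
    set ε : F := (((tabOf D).etaWord [i] r' : ℤ) : F) with hε
    have hε0 : ε ≠ 0 := etaWord_cast_ne_zero hG hw1 hr'lt
    have hu : ∀ s : F, n * phiHom hG1 hr'lt (upperSL s) * n⁻¹ =
        phiHom hG1 hpj (upperSL (ε * s)) := by
      intro s
      have := nWordGL_conj (F := F) hG hw1 hr'lt s
      rw [hnw] at this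
      change n * xGL hG1 hr'lt s * n⁻¹ = xGL hG1 hpj (ε * s)
      rw [this, xGL_congr hG hrr _ hpj]
    have hl : ∀ s : F, n * phiHom hG1 hr'lt (lowerSL s) * n⁻¹ =
        phiHom hG1 hpj (lowerSL (ε * s)) := by
      intro s
      rw [phiHom_lower_eq hG hr'lt, phiHom_lower_eq hG hpj]
      have := nWordGL_conj (F := F) hG hw1 (hG1.neg_lt hr'lt) s
      rw [hnw] at this
      rw [this]
      have hrr' : (tabOf D).reflWord [i] (D.neg r') = D.neg (D.simple j) := by
        rw [reflWord_neg hG hw1 hr'lt, hrr]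
      rw [xGL_congr hG hrr' _ (hG1.neg_lt hpj), etaWord_neg hG hw1 hr'lt]
    have hact2 := SwapAct.transport hG hr'lt hpj hε0 hε0 hu hl hAr
    obtain ⟨h3, hh3, e3'⟩ := conj_letter hG hh hi w
    have e3 : n * (h * nWordGL hG w) * n⁻¹ = h3 * nWordGL hG (i :: (w ++ [i])) := e3'
    have hb3 : tE D c r' * (((tabOf D).etaWord w r' : ℤ) : F) * ε * ε⁻¹ =
        tE D c r' * (((tabOf D).etaWord w r' : ℤ) : F) := by
      field_simp
    rw [hb3, e3] at hact2
    obtain ⟨g, hg, h', hh', e⟩ := peel_at' hG hh3 hj (i :: (w ++ [i])) (mul_ne_zero htr hηr) hsq h2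
      hact2
    have hnG : n ∈ D.group F := monomialSubgroup_le_group hG1 (nGL_mem_monomial hG hpi)
    refine ⟨g * n, mul_mem hg hnG, h', hh', _, Or.inr (Or.inr rfl), ?_⟩
    rw [← e, ← e3]
    group
  · -- flip at `i` and peel at `j`
    obtain ⟨X, hX⟩ := SwapAct.flip hG1 hpi hodd hbi0 hAi
    set hm := hGL (F := F) hG1 hpi (-1) hm10 with hhm
    have hmd : hm ∈ D.diagonalSubgroup F := G2Odd.hGL_mem_diagonal hG hpi _ _
    have hXG : phiHom hG1 hpi X ∈ D.group F := phiHom_mem_group hG hpi X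
    have hAj' := SwapAct.torus_mul hG hi hpj hbj0 hm10 hAj
    have hpow : (-1 : F) ^ D.cartan i (D.simple j) = -1 := by
      have : D.cartan i (D.simple j) = 1 + (D.cartan i (D.simple j) / 2 +
          D.cartan i (D.simple j) / 2) := by omega
      rw [this, zpow_add₀ hm10, zpow_add₀ hm10, zpow_one, ← mul_zpow]
      simp
    rw [hpow] at hAj'
    have hsq : IsSquare (bj * -1) := isSquare_mul_of_not hsj hm1
    have e3 : hm * (h * nWordGL hG w) = (hm * h) * nWordGL hG w := by rw [mul_assoc]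
    rw [e3] at hAj'
    obtain ⟨g, hg, h', hh', e⟩ := peel_at' hG (mul_mem hmd hh) hj w (mul_ne_zero hbj0 hm10) hsq h2
      hAj'
    refine ⟨g * phiHom hG1 hpi X, mul_mem hg hXG, h', hh', _, Or.inr (Or.inl rfl), ?_⟩
    rw [← e, ← e3, ← hX]
    group

end typeA

end Cfsg.Agent.Helper8.ChevOdd
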