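import Mathlib
import Cfsg.Agent.Helper8.ChevOddC

set_option autoImplicit false
set_option linter.unusedSectionVars false
set_option linter.unusedVariables false

/-!
Over a finite field of odd order, every involution of the monomial subgroup `N` of a Chevalley group is
conjugate to an element of `H`, given a table of certificates, one for every word of the list of the Weyl
group representing an involution.
-/

namespace Cfsg.Agent.Helper8.ChevOdd

open Cfsg Cfsg.Lie Matrix Cfsg.Agent.Helper7 Cfsg.Agent.Helper7.Chev Cfsg.Agent.Helper8.G2Odd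

/-- A certificate: conjugate by the word `v`; then either (`a = true`) the fundamental roots `p_i`, `p_j`
are mapped to their negatives and have odd Cartan integer, or the scalar at `p_j` is a square by the
relation at the root `s`. -/
structure Cert where
  v : List ℕ
  a : Bool
  i : ℕ
  j : ℕ
  s : ℕ

/-- The conjugated word of a certificate. -/
def Cert.word (C : Cert) (w : List ℕ) : List ℕ := C.v ++ w ++ C.v.reverse

end Cfsg.Agent.Helper8.ChevOdd

namespace Cfsg.Agent.Helper7.Chev.Tab

open Cfsg.Agent.Helper8.ChevOdd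

variable (T : Tab)

/-- The number of positive roots mapped to their negatives by a word. -/
def negCount (w : List ℕ) : ℕ :=
  ((List.range T.n).filter (fun s => T.n / 2 ≤ s ∧ T.reflWord w s = T.neg s)).length

/-- The word acts as an involution on the roots. -/
def IsInv (w : List ℕ) : Prop := AllLt T.n (fun r => T.reflWord w (T.reflWord w r) = r)

instance (w : List ℕ) : Decidable (T.IsInv w) := by unfold IsInv; infer_instance

/-- The conditions on a certificate of the second kind. -/
def CertB (u : List ℕ) (j s : ℕ) : Prop :=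
  s < T.n ∧ T.reflWord u (T.reflWord u s) = s ∧
  AllLt T.l (fun m =>
    (T.cartan m s + T.cartan m (T.reflWord u s) - T.cartan m (T.simple j)) % 2 = 0) ∧
  T.etaWord u s * T.etaWord u (T.reflWord u s) * T.etaWord u (T.simple j) = 1

instance (u : List ℕ) (j s : ℕ) : Decidable (T.CertB u j s) := by unfold CertB; infer_instance

/-- The conditions on a certificate of the first kind. -/
def CertA (w u : List ℕ) (i j : ℕ) : Prop :=
  i < T.l ∧ T.reflWord u (T.simple i) = T.neg (T.simple i) ∧
  T.reflWord u (T.refl (T.simple i) (T.simple j)) = T.neg (T.refl (T.simple i) (T.simple j)) ∧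
  T.cartan i (T.simple j) % 2 = 1 ∧
  T.negCount (i :: u) < T.negCount w ∧
  T.negCount (j :: i :: (u ++ [i])) < T.negCount w

instance (w u : List ℕ) (i j : ℕ) : Decidable (T.CertA w u i j) := by unfold CertA; infer_instance

/-- The conditions on a certificate for the word `w`. -/
def CertOK (w : List ℕ) (C : Cert) : Prop :=
  (∀ m ∈ C.v, m < T.l) ∧ C.j < T.l ∧
  T.reflWord (C.word w) (T.simple C.j) = T.neg (T.simple C.j) ∧
  T.negCount (C.j :: C.word w) < T.negCount w ∧
  (if C.a then T.CertA w (C.word w) C.i C.j else T.CertB (C.word w) C.j C.s)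

instance (w : List ℕ) (C : Cert) : Decidable (T.CertOK w C) := by unfold CertOK; infer_instance

end Cfsg.Agent.Helper7.Chev.Tab

namespace Cfsg.Agent.Helper8.ChevOdd

open Cfsg Cfsg.Lie Matrix Cfsg.Agent.Helper7 Cfsg.Agent.Helper7.Chev Cfsg.Agent.Helper8.G2Odd

variable {D : ChevalleyDatum} {F : Type*} [Field F]

theorem negCount_congr {a b : List ℕ}
    (h : ∀ r < D.nroots, (tabOf D).reflWord a r = (tabOf D).reflWord b r) :
    (tabOf D).negCount a = (tabOf D).negCount b := by
  unfold Tab.negCount
  congr 1
  apply List.filter_congr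
  intro s hs
  have hs' : s < D.nroots := List.mem_range.mp hs
  rw [h s hs']

section main

variable (hG : Good2 D) (hT : T0 D) (h6 : (tabOf D).T6) (h8 : (tabOf D).T8)

include hG hT h8 in
/-- A word whose element of `N` lies in `H` fixes all roots. -/
theorem reflWord_of_mem_diagonal {w : List ℕ} (hw : ∀ i ∈ w, i < D.rank)
    (h : (nWordGL hG w : GL D.Idx F) ∈ D.diagonalSubgroup F) :
    ∀ r < D.nroots, (tabOf D).reflWord w r = r := by
  intro r hr
  have e : (nWordGL hG w : GL D.Idx F) = nWordGL hG [] * nWordGL hG w := by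
    rw [nWordGL_nil, one_mul]
  have := reflWord_eq_of_nWordGL_eq (F := F) hG hT h8 (a := []) (b := w) (by simp) hw h e r hr
  exact this.symm

include hG hT h8 in
/-- The word of an involution `h n_w` acts as an involution on the roots. -/
theorem isInv_of_sq {w : List ℕ} (hw : ∀ i ∈ w, i < D.rank) {h : GL D.Idx F}
    (hh : h ∈ D.diagonalSubgroup F) (hk : (h * nWordGL hG w) * (h * nWordGL hG w) = 1) :
    ∀ r < D.nroots, (tabOf D).reflWord w ((tabOf D).reflWord w r) = r := by
  have hww : ∀ i ∈ w ++ w, i < D.rank := by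
    intro i hi
    rcases List.mem_append.mp hi with hi | hi <;> exact hw i hi
  have hmem : (nWordGL hG (w ++ w) : GL D.Idx F) ∈ D.diagonalSubgroup F := by
    rw [nWordGL_append]
    set n := nWordGL (F := F) hG w with hn
    have e : n * n = (n * h * n⁻¹)⁻¹ * h⁻¹ := by
      calc n * n = n * h⁻¹ * (h * n * (h * n)) * n⁻¹ * h⁻¹ := by group
        _ = n * h⁻¹ * 1 * n⁻¹ * h⁻¹ := by rw [hk]
        _ = (n * h * n⁻¹)⁻¹ * h⁻¹ := by group
    rw [e]
    exact mul_mem (inv_mem (conj_mem_diagonal (nWordGL_mem_normalizer hG w) hh)) (inv_mem hh)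
  intro r hr
  have := reflWord_of_mem_diagonal hG hT h8 hww hmem r hr
  rwa [reflWord_append] at this

variable {W : List (List ℕ)} (hW : WList D W)

include hG hT h6 h8 hW in
theorem conjD_aux [Fintype F] (hodd : Fintype.card F % 2 = 1) (h2 : (2 : F) ≠ 0)
    (hcert : ∀ w ∈ W, w ≠ [] → (tabOf D).IsInv w → ∃ C : Cert, (tabOf D).CertOK w C) :
    ∀ N : ℕ, ∀ w : List ℕ, (∀ i ∈ w, i < D.rank) → (tabOf D).negCount w < N →
      ∀ h ∈ D.diagonalSubgroup F, (h * nWordGL hG w) * (h * nWordGL hG w) = 1 →
        ConjD D (h * nWordGL hG w) := by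
  have hG1 := hG.toGood1
  intro N
  induction N with
  | zero => intro w _ hlt; exact absurd hlt (Nat.not_lt_zero _)
  | succ N ih =>
    intro w hw hlt h hh hk
    obtain ⟨wc, hwcW, h₀, hh₀, e₀⟩ := exists_rep_word (F := F) hG hT h6 h8 hW w hw
    have hwc := (hW.ok wc hwcW).1
    -- same action on the roots
    have hsame : ∀ r < D.nroots, (tabOf D).reflWord wc r = (tabOf D).reflWord w r := by
      have e : (nWordGL hG w : GL D.Idx F) =
          nWordGL hG wc * ((nWordGL hG wc)⁻¹ * h₀ * nWordGL hG wc) := by
        rw [e₀]; group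
      exact reflWord_eq_of_nWordGL_eq (F := F) hG hT h8 hwc hw
        (conj_mem_diagonal' (nWordGL_mem_normalizer hG wc) hh₀) e
    have hcount : (tabOf D).negCount wc = (tabOf D).negCount w := negCount_congr hsame
    have ek : h * nWordGL hG w = (h * h₀) * nWordGL hG wc := by rw [e₀, mul_assoc]
    have hhh₀ : h * h₀ ∈ D.diagonalSubgroup F := mul_mem hh hh₀
    rw [ek] at hk ⊢
    by_cases hnil : wc = []
    · rw [hnil, nWordGL_nil, mul_one]
      exact ConjD.of_mem hhh₀
    have hinv := isInv_of_sq hG hT h8 hwc hhh₀ hk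
    have hinv' : (tabOf D).IsInv wc := hinv
    obtain ⟨C, hv, hj, hwj, hcj, hrest⟩ := hcert wc hwcW hnil hinv'
    set u := C.word wc with hu
    have hj' : C.j < D.rank := hj
    have hv' : ∀ m ∈ C.v, m < D.rank := hv
    have hulet : ∀ m ∈ u, m < D.rank := by
      intro m hm
      rw [hu] at hm
      unfold Cert.word at hm
      rcases List.mem_append.mp hm with hm | hm
      · rcases List.mem_append.mp hm with hm | hm
        · exact hv' m hm
        · exact hwc m hm
      · exact hv' m (List.mem_reverse.mp hm)
    obtain ⟨h1, hh1, e1⟩ := conj_word hG C.v hv' hhh₀ wc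
    have e1' : nWordGL hG C.v * (h * h₀ * nWordGL hG wc) * (nWordGL hG C.v)⁻¹ =
        h1 * nWordGL hG u := e1
    have hk1 : (h1 * nWordGL hG u) * (h1 * nWordGL hG u) = 1 := by
      rw [← e1']; exact sq_conj hk
    have hvG : (nWordGL hG C.v : GL D.Idx F) ∈ D.group F :=
      monomialSubgroup_le_group hG1 (nWordGL_mem hG C.v)
    obtain ⟨c, hc, hmat⟩ := diagonalSubgroup_torus hG1 hh1
    have hpj := hG1.simple_lt hj'
    have hwj' : (tabOf D).reflWord u (D.simple C.j) = D.neg (D.simple C.j) := hwj
    -- the common conclusion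
    suffices hstep : ∃ g ∈ D.group F, ∃ h' ∈ D.diagonalSubgroup F, ∃ w' : List ℕ,
        (∀ m ∈ w', m < D.rank) ∧ (tabOf D).negCount w' < (tabOf D).negCount wc ∧
        g * (h1 * nWordGL hG u) * g⁻¹ = h' * nWordGL hG w' by
      obtain ⟨g, hg, h', hh', w', hw', hlt', e⟩ := hstep
      have hk' : (h' * nWordGL hG w') * (h' * nWordGL hG w') = 1 := by
        rw [← e]; exact sq_conj hk1
      have hN : (tabOf D).negCount w' < N := by omega
      exact ConjD.of_conj hvG e1' (ConjD.of_conj hg e (ih w' hw' hN h' hh' hk'))
    by_cases ha : C.a = true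
    · rw [if_pos ha] at hrest
      obtain ⟨hi, hwi, hwr, hpar, hci, hcji⟩ := hrest
      have hi' : C.i < D.rank := hi
      obtain ⟨g, hg, h', hh', w', hw', e⟩ := pair_step hG hT h8 hodd h2 hh1 hc hmat hulet hi' hj'
        hwi hwj' hwr hpar
      refine ⟨g, hg, h', hh', w', ?_, ?_, e⟩
      · rcases hw' with rfl | rfl | rfl
        · intro m hm
          rcases List.mem_cons.mp hm with rfl | hm
          · exact hi'
          · exact hulet m hm
        · intro m hm
          rcases List.mem_cons.mp hm with rfl | hm
          · exact hj'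
          · exact hulet m hm
        · intro m hm
          rcases List.mem_cons.mp hm with rfl | hm
          · exact hj'
          rcases List.mem_cons.mp hm with rfl | hm
          · exact hi'
          rcases List.mem_append.mp hm with hm | hm
          · exact hulet m hm
          · rw [List.mem_singleton] at hm; rw [hm]; exact hi'
      · rcases hw' with rfl | rfl | rfl
        · exact hci
        · exact hcj
        · exact hcji
    · rw [if_neg ha] at hrest
      obtain ⟨hs, hws, hparity, hsign⟩ := hrest
      have hsq := auto_square hG hT h8 hc hmat hulet hk1 hs hpj hws hparity hsign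
      have hact := swapAct_of_rep (F := F) hG hc hmat hulet hpj hwj'
      have hb0 : tE D c (D.simple C.j) * (((tabOf D).etaWord u (D.simple C.j) : ℤ) : F) ≠ 0 :=
        mul_ne_zero (tE_ne_zero c hc _) (etaWord_cast_ne_zero hG hulet hpj)
      obtain ⟨g, hg, h', hh', e⟩ := peel_at' hG hh1 hj' u hb0 hsq h2 hact
      refine ⟨g, hg, h', hh', C.j :: u, ?_, hcj, e⟩
      intro m hm
      rcases List.mem_cons.mp hm with rfl | hm
      · exact hj'
      · exact hulet m hm

include hG hT h6 h8 hW in
/-- Over a finite field of odd order, every involution of `N` is conjugate to an element of `H`, given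
certificates for the words of the list representing involutions. -/
theorem conjD_of_mem_monomial [Fintype F] (hodd : Fintype.card F % 2 = 1) (h2 : (2 : F) ≠ 0)
    (h9 : (tabOf D).T9)
    (hcert : ∀ w ∈ W, w ≠ [] → (tabOf D).IsInv w → ∃ C : Cert, (tabOf D).CertOK w C)
    {k : GL D.Idx F} (hk : k ∈ D.monomialSubgroup F) (hkk : k * k = 1) : ConjD D k := by
  obtain ⟨w, hwW, h, hh, rfl⟩ := exists_rep (F := F) hG hT h6 h8 h9 hW hk
  have hw := (hW.ok w hwW).1
  exact conjD_aux hG hT h6 h8 hW hodd h2 hcert _ w hw (Nat.lt_succ_self _) h hh hkk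

end main

end Cfsg.Agent.Helper8.ChevOdd
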