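import Mathlib
import Cfsg.Agent.Helper8.ChevOddD

set_option autoImplicit false
set_option linter.unusedSectionVars false
set_option linter.unusedVariables false

/-!
Certificates from a table: the words of the list of the Weyl group are either empty, or a key of the
table, or not involutions.
-/

namespace Cfsg.Agent.Helper7.Chev.Tab

open Cfsg.Agent.Helper8.ChevOdd

variable (T : Tab)

/-- The word is empty, or a key of the table, or does not act as an involution. -/
def okWord (keys : List (List ℕ)) (w : List ℕ) : Bool :=
  w.isEmpty || keys.contains w ||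
    (List.range T.n).any (fun r => T.reflWord w (T.reflWord w r) != r)

theorem cert_of_tables {W : List (List ℕ)} {tbl : List (List ℕ × Cert)}
    (h1 : ∀ p ∈ tbl, T.CertOK p.1 p.2)
    (h2 : ∀ w ∈ W, T.okWord (tbl.map Prod.fst) w = true) :
    ∀ w ∈ W, w ≠ [] → T.IsInv w → ∃ C : Cert, T.CertOK w C := by
  intro w hw hne hinv
  have h := h2 w hw
  unfold okWord at h
  rw [Bool.or_eq_true, Bool.or_eq_true] at h
  rcases h with (h | h) | h
  · exact absurd (List.isEmpty_iff.mp h) hne
  · rw [List.contains_iff_mem, List.mem_map] at h
    obtain ⟨p, hp, rfl⟩ := h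
    exact ⟨p.2, h1 p hp⟩
  · exfalso
    rw [List.any_eq_true] at h
    obtain ⟨r, hr, hne'⟩ := h
    have := hinv r (List.mem_range.mp hr)
    simp only [bne_iff_ne, ne_eq] at hne'
    exact hne' this

end Cfsg.Agent.Helper7.Chev.Tab
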