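import Mathlib
import Cfsg.Agent.Helper8.ChevOddD
import Cfsg.Agent.Helper7.ChevInvC

set_option autoImplicit false
set_option linter.unusedSectionVars false
set_option linter.unusedVariables false

/-!
Involutions of the Weyl group of a Chevalley datum, as words: conjugating by a fundamental reflection
shortens the word unless every fundamental root is mapped to a positive root or to its negative; the
search for the tuples of images of the fundamental roots under the involutions of the latter kind.
-/

namespace Cfsg.Agent.Helper7.Chev.Tab

variable (T : Tab)

/-- The test for the image of the next fundamental root, given the images of the previous ones: the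
image is the negative of the fundamental root or a positive root. -/
def tupGuardC (t : List ℕ) (r : ℕ) : Bool :=
  (decide (r = T.neg (T.simple t.length)) || decide (T.n / 2 ≤ r)) &&
  (List.range t.length).all fun j =>
    decide (T.pairing (t.getD j 0) r = T.pairing (T.simple j) (T.simple t.length)) &&
    decide (T.pairing r (t.getD j 0) = T.pairing (T.simple t.length) (T.simple j)) &&
    decide (T.pairing (t.getD j 0) (T.simple t.length) = T.pairing (T.simple j) r) &&
    decide (T.pairing (T.simple t.length) (t.getD j 0) = T.pairing r (T.simple j))

/-- The extensions of a tuple by one root. -/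
def tupExtC (t : List ℕ) : List (List ℕ) :=
  ((List.range T.n).filter (T.tupGuardC t)).map fun r => t ++ [r]

/-- The tuples of length `k` passing the tests. -/
def tupSearchC : ℕ → List (List ℕ)
  | 0 => [[]]
  | k + 1 => (tupSearchC k).flatMap T.tupExtC

end Cfsg.Agent.Helper7.Chev.Tab

namespace Cfsg.Agent.Helper8.ChevOdd

open Cfsg Cfsg.Lie Matrix Cfsg.Agent.Helper7 Cfsg.Agent.Helper7.Chev Cfsg.Agent.Helper8.G2Odd

variable {D : ChevalleyDatum}

section descent

variable (hG : Good2 D) (hT : T0 D) (h6 : (tabOf D).T6)

include hG in
/-- The action of the conjugate of a word by a fundamental reflection. -/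
theorem reflWord_conj (i : ℕ) (w : List ℕ) (r : ℕ) :
    (tabOf D).reflWord (i :: w ++ [i]) r =
      (tabOf D).refl (D.simple i) ((tabOf D).reflWord w ((tabOf D).refl (D.simple i) r)) := by
  rw [List.cons_append, reflWord_cons, reflWord_append]
  rfl

include hG in
/-- The conjugate of an involution by a fundamental reflection is an involution. -/
theorem sameAct_reverse_conj {w : List ℕ} (hw : ∀ j ∈ w, j < D.rank)
    (hinv : SameAct D w.reverse w) {i : ℕ} (hi : i < D.rank) :
    SameAct D (i :: w ++ [i]).reverse (i :: w ++ [i]) := by
  intro r hr
  have e : (i :: w ++ [i]).reverse = i :: w.reverse ++ [i] := by simp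
  rw [e, reflWord_conj hG, reflWord_conj hG, hinv _ (hG.refl_lt hi hr)]

include hG in
/-- Conjugating twice by the same fundamental reflection does not change the action. -/
theorem sameAct_conj_conj (w : List ℕ) (hw : ∀ j ∈ w, j < D.rank) {i : ℕ} (hi : i < D.rank) :
    SameAct D (i :: (i :: w ++ [i]) ++ [i]) w := by
  intro r hr
  rw [reflWord_conj hG, reflWord_conj hG, hG.refl_refl hi hr,
    hG.refl_refl hi (reflWord_lt hG hw hr)]

include hG hT h6 in
/-- An involution of the Weyl group either becomes shorter after conjugation by some fundamental
reflection, or maps every fundamental root to a positive root or to its negative. -/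
theorem descent_or_cospecial {w : List ℕ} (hw : ∀ j ∈ w, j < D.rank)
    (hinv : SameAct D w.reverse w) :
    (∃ i < D.rank, nMinus D (i :: w ++ [i]) < nMinus D w) ∨
    (∀ i < D.rank, D.nroots / 2 ≤ (tabOf D).reflWord w (D.simple i) ∨
      (tabOf D).reflWord w (D.simple i) = D.neg (D.simple i)) := by
  have hG1 := hG.toGood1
  by_cases hall : ∀ i < D.rank, D.nroots / 2 ≤ (tabOf D).reflWord w (D.simple i) ∨
      (tabOf D).reflWord w (D.simple i) = D.neg (D.simple i)
  · exact Or.inr hall
  left
  push Not at hall
  obtain ⟨i, hi, hneg, hne⟩ := hall
  refine ⟨i, hi, ?_⟩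
  have hp := hG1.simple_lt hi
  have hppos := simple_pos hG1 hT hi
  set a := D.simple i with ha
  set q := (tabOf D).reflWord w a with hq
  have hqlt : q < D.nroots := reflWord_lt hG hw hp
  have hnq := hG1.neg_lt hqlt
  have hnqpos : D.nroots / 2 ≤ D.neg q := neg_pos_of_neg hG hT hqlt hneg
  have hnqne : D.neg q ≠ a := by
    intro h
    apply hne
    rw [← h, hG1.neg_neg hqlt]
  set w' := i :: w ++ [i] with hw'
  have hw'l : ∀ j ∈ w', j < D.rank := by
    intro j hj
    rw [hw', List.cons_append, List.mem_cons, List.mem_append, List.mem_singleton] at hj
    rcases hj with rfl | hj | rfl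
    · exact hi
    · exact hw j hj
    · exact hi
  have hinv' : SameAct D w'.reverse w' := sameAct_reverse_conj hG hw hinv hi
  have hval : (tabOf D).reflWord w' a = (tabOf D).refl a (D.neg q) := by
    rw [hw', reflWord_conj hG, refl_self, reflWord_neg hG hw hp]
  have hpos' : D.nroots / 2 ≤ (tabOf D).reflWord w' (D.simple i) := by
    rw [hval]
    exact (h6 i hi (D.neg q) hnq hnqpos hnqne).1
  have hne' : (tabOf D).reflWord w' (D.simple i) ≠ D.simple i := by
    rw [hval]
    intro h
    have h2 := congrArg ((tabOf D).refl a) h
    rw [hG.refl_refl hi hnq, refl_self] at h2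
    have h3 := congrArg D.neg h2
    rw [hG1.neg_neg hqlt, hG1.neg_neg hp] at h3
    omega
  have hlt := nMinus_conj_lt hG hT h6 hw'l hinv' hi hpos' hne'
  rwa [nMinus_congr (sameAct_conj_conj hG w hw hi)] at hlt

end descent

section search

variable (hG : Good2 D)

include hG in
/-- The tuple of the images of the fundamental roots under an involution mapping every fundamental root
to a positive root or to its negative passes the tests. -/
theorem tuple_mem_searchC {w : List ℕ} (hw : ∀ i ∈ w, i < D.rank) (hinv : SameAct D w.reverse w)
    (hspec : ∀ i < D.rank, D.nroots / 2 ≤ (tabOf D).reflWord w (D.simple i) ∨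
      (tabOf D).reflWord w (D.simple i) = D.neg (D.simple i)) :
    ∀ k ≤ D.rank, ((List.range k).map fun i => (tabOf D).reflWord w (D.simple i)) ∈
      (tabOf D).tupSearchC k := by
  have hG1 := hG.toGood1
  have hww : ∀ r < D.nroots, (tabOf D).reflWord w ((tabOf D).reflWord w r) = r := by
    intro r hr
    have := reflWord_reverse_cancel hG hw hr
    rwa [hinv r hr] at this
  intro k
  induction k with
  | zero => intro _; simp [Tab.tupSearchC]
  | succ k ih =>
    intro hk
    have hk' : k < D.rank := hk
    have hpk := hG1.simple_lt hk'
    rw [Tab.tupSearchC, List.mem_flatMap]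
    refine ⟨_, ih (by omega), ?_⟩
    unfold Tab.tupExtC
    rw [List.mem_map]
    refine ⟨(tabOf D).reflWord w (D.simple k), ?_, ?_⟩
    · rw [List.mem_filter]
      refine ⟨List.mem_range.mpr (reflWord_lt hG hw hpk), ?_⟩
      unfold Tab.tupGuardC
      rw [Bool.and_eq_true, List.length_map, List.length_range]
      constructor
      · rcases hspec k hk' with h | h
        · simp only [Bool.or_eq_true, decide_eq_true_eq]
          exact Or.inr h
        · simp only [Bool.or_eq_true, decide_eq_true_eq]
          exact Or.inl h
      · rw [List.all_eq_true]
        intro j hj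
        have hjk : j < k := List.mem_range.mp hj
        have hj' : j < D.rank := by omega
        have hpj := hG1.simple_lt hj'
        have eget : ((List.range k).map fun i => (tabOf D).reflWord w (D.simple i)).getD j 0 =
            (tabOf D).reflWord w (D.simple j) := by
          rw [List.getD_eq_getElem _ _ (by simp [hjk])]
          simp
        rw [eget]
        simp only [Bool.and_eq_true, decide_eq_true_eq]
        refine ⟨⟨⟨?_, ?_⟩, ?_⟩, ?_⟩
        · exact pairing_reflWord hG hw hpj hpk
        · exact pairing_reflWord hG hw hpk hpj
        · have := pairing_reflWord hG hw (reflWord_lt hG hw hpj) hpk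
          rw [hww _ hpj] at this
          exact this.symm
        · have := pairing_reflWord hG hw hpk (reflWord_lt hG hw hpj)
          rw [hww _ hpj] at this
          exact this.symm
    · rw [List.range_succ, List.map_append]
      simp

end search

end Cfsg.Agent.Helper8.ChevOdd
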