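import Mathlib
import Cfsg.Agent.Helper8.ChevOddF

set_option autoImplicit false
set_option linter.unusedSectionVars false
set_option linter.unusedVariables false

/-!
Over a finite field of odd order, every involution of the monomial subgroup `N` of a Chevalley group is
conjugate to an element of `H`, given a list of words containing, up to the action on the roots, every
involution of the Weyl group that cannot be shortened by conjugation with a fundamental reflection, and a
certificate for every word of this list.
-/

namespace Cfsg.Agent.Helper7.Chev.Tab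

open Cfsg.Agent.Helper8.ChevOdd

variable (T : Tab)

/-- The number of positive roots made negative by the word. -/
def nMn (w : List ℕ) : ℕ :=
  ((List.range' (T.n / 2) (T.n - T.n / 2)).filter
    (fun r => decide (T.reflWord w r < T.n / 2))).length

/-- The conditions on a certificate of the first kind, in terms of the number of positive roots made
negative. -/
def CertA2 (u : List ℕ) (i j : ℕ) : Prop :=
  i < T.l ∧ T.reflWord u (T.simple i) = T.neg (T.simple i) ∧
  T.reflWord u (T.refl (T.simple i) (T.simple j)) = T.neg (T.refl (T.simple i) (T.simple j)) ∧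
  T.cartan i (T.simple j) % 2 = 1 ∧
  T.nMn (i :: u) < T.nMn u ∧
  T.nMn (j :: i :: (u ++ [i])) < T.nMn u

instance instDecidableCertA2 (u : List ℕ) (i j : ℕ) : Decidable (T.CertA2 u i j) := by
  unfold CertA2; infer_instance

/-- The conditions on a certificate for the word `u`, without conjugation: the fundamental root `p_j` is
mapped to its negative, and either (`a = true`) the fundamental roots `p_i`, `p_j` are mapped to their
negatives and have odd Cartan integer, or the scalar at `p_j` is a square by the relation at the root
`s`. -/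
def CertOK2 (u : List ℕ) (C : Cert) : Prop :=
  C.j < T.l ∧ T.reflWord u (T.simple C.j) = T.neg (T.simple C.j) ∧
  T.nMn (C.j :: u) < T.nMn u ∧
  (if C.a then T.CertA2 u C.i C.j else T.CertB u C.j C.s)

instance instDecidableCertOK2 (u : List ℕ) (C : Cert) : Decidable (T.CertOK2 u C) := by
  unfold CertOK2; infer_instance

end Cfsg.Agent.Helper7.Chev.Tab

namespace Cfsg.Agent.Helper8.ChevOdd

open Cfsg Cfsg.Lie Matrix Cfsg.Agent.Helper7 Cfsg.Agent.Helper7.Chev Cfsg.Agent.Helper8.G2Odd

variable {D : ChevalleyDatum} {F : Type*} [Field F]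

theorem nMinus_eq_nMn (w : List ℕ) : nMinus D w = (tabOf D).nMn w := rfl

section main

variable (hG : Good2 D) (hT : T0 D) (h6 : (tabOf D).T6) (h8 : (tabOf D).T8)

include hG hT h8 in
/-- The word of an involution `h n_w` acts as an involution on the roots, in terms of the reversed
word. -/
theorem sameAct_reverse_of_sq {w : List ℕ} (hw : ∀ i ∈ w, i < D.rank) {h : GL D.Idx F}
    (hh : h ∈ D.diagonalSubgroup F) (hk : (h * nWordGL hG w) * (h * nWordGL hG w) = 1) :
    SameAct D w.reverse w := by
  have hinv := isInv_of_sq hG hT h8 hw hh hk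
  intro r hr
  have hrev : ∀ i ∈ w.reverse, i < D.rank := fun i hi => hw i (List.mem_reverse.mp hi)
  have h1 := reflWord_reverse_cancel hG hw hr
  have h2 := hinv _ (reflWord_lt hG hrev hr)
  rw [h1] at h2
  exact h2.symm

include hG hT h6 h8 in
theorem conjD_aux2 [Fintype F] (hodd : Fintype.card F % 2 = 1) (h2 : (2 : F) ≠ 0)
    {L : List (List ℕ)} (hL : ∀ x ∈ L, ∀ i ∈ x, i < D.rank)
    (hdesc : ∀ w : List ℕ, (∀ i ∈ w, i < D.rank) → SameAct D w.reverse w →
      (∃ i < D.rank, nMinus D (i :: w ++ [i]) < nMinus D w) ∨ ∃ x ∈ L, SameAct D w x)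
    (hcert : ∀ x ∈ L, x ≠ [] → ∃ C : Cert, (tabOf D).CertOK2 x C) :
    ∀ N : ℕ, ∀ w : List ℕ, (∀ i ∈ w, i < D.rank) → nMinus D w < N →
      ∀ h ∈ D.diagonalSubgroup F, (h * nWordGL hG w) * (h * nWordGL hG w) = 1 →
        ConjD D (h * nWordGL hG w) := by
  have hG1 := hG.toGood1
  intro N
  induction N with
  | zero => intro w _ hlt; exact absurd hlt (Nat.not_lt_zero _)
  | succ N ih =>
    intro w hw hlt h hh hk
    have hinv := sameAct_reverse_of_sq hG hT h8 hw hh hk
    rcases hdesc w hw hinv with ⟨i, hi, hdec⟩ | ⟨x, hxL, hsame⟩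
    · -- conjugate by `n_i`
      obtain ⟨h', hh', e⟩ := conj_letter hG hh hi w
      have hp := hG1.simple_lt hi
      have hnG : nGL (F := F) hG1 hp ∈ D.group F :=
        monomialSubgroup_le_group hG1 (nGL_mem_monomial hG hp)
      have hk' : (h' * nWordGL hG (i :: (w ++ [i]))) * (h' * nWordGL hG (i :: (w ++ [i]))) = 1 := by
        rw [← e]; exact sq_conj hk
      have hw' : ∀ j ∈ i :: (w ++ [i]), j < D.rank := by
        intro j hj
        rw [List.mem_cons, List.mem_append, List.mem_singleton] at hj
        rcases hj with rfl | hj | rfl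
        · exact hi
        · exact hw j hj
        · exact hi
      have hN : nMinus D (i :: (w ++ [i])) < N := by
        have : i :: (w ++ [i]) = i :: w ++ [i] := rfl
        rw [this]; omega
      exact ConjD.of_conj hnG e (ih _ hw' hN h' hh' hk')
    · -- replace the word by the word of the list
      have hx := hL x hxL
      obtain ⟨h₀, hh₀, e₀⟩ := nWordGL_eq_of_reflWord_eq (F := F) hG hT h6 h8 hw hx hsame
      have ek : h * nWordGL hG w = (h * h₀) * nWordGL hG x := by rw [e₀, mul_assoc]
      have hhh₀ : h * h₀ ∈ D.diagonalSubgroup F := mul_mem hh hh₀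
      have hcount : nMinus D x = nMinus D w := (nMinus_congr hsame).symm
      rw [ek] at hk ⊢
      by_cases hnil : x = []
      · rw [hnil, nWordGL_nil, mul_one]
        exact ConjD.of_mem hhh₀
      obtain ⟨C, hj, hwj, hcj, hrest⟩ := hcert x hxL hnil
      have hj' : C.j < D.rank := hj
      obtain ⟨c, hc, hmat⟩ := diagonalSubgroup_torus hG1 hhh₀
      have hpj := hG1.simple_lt hj'
      have hwj' : (tabOf D).reflWord x (D.simple C.j) = D.neg (D.simple C.j) := hwj
      suffices hstep : ∃ g ∈ D.group F, ∃ h' ∈ D.diagonalSubgroup F, ∃ w' : List ℕ,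
          (∀ m ∈ w', m < D.rank) ∧ nMinus D w' < nMinus D x ∧
          g * (h * h₀ * nWordGL hG x) * g⁻¹ = h' * nWordGL hG w' by
        obtain ⟨g, hg, h', hh', w', hw', hlt', e⟩ := hstep
        have hk' : (h' * nWordGL hG w') * (h' * nWordGL hG w') = 1 := by
          rw [← e]; exact sq_conj hk
        have hN : nMinus D w' < N := by omega
        exact ConjD.of_conj hg e (ih w' hw' hN h' hh' hk')
      by_cases ha : C.a = true
      · rw [if_pos ha] at hrest
        obtain ⟨hi, hwi, hwr, hpar, hci, hcji⟩ := hrest
        have hi' : C.i < D.rank := hi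
        obtain ⟨g, hg, h', hh', w', hw', e⟩ := pair_step hG hT h8 hodd h2 hhh₀ hc hmat hx hi' hj'
          hwi hwj' hwr hpar
        refine ⟨g, hg, h', hh', w', ?_, ?_, e⟩
        · rcases hw' with rfl | rfl | rfl
          · intro m hm
            rcases List.mem_cons.mp hm with rfl | hm
            · exact hi'
            · exact hx m hm
          · intro m hm
            rcases List.mem_cons.mp hm with rfl | hm
            · exact hj'
            · exact hx m hm
          · intro m hm
            rcases List.mem_cons.mp hm with rfl | hm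
            · exact hj'
            rcases List.mem_cons.mp hm with rfl | hm
            · exact hi'
            rcases List.mem_append.mp hm with hm | hm
            · exact hx m hm
            · rw [List.mem_singleton] at hm; rw [hm]; exact hi'
        · rcases hw' with rfl | rfl | rfl
          · exact hci
          · exact hcj
          · exact hcji
      · rw [if_neg ha] at hrest
        obtain ⟨hs, hws, hparity, hsign⟩ := hrest
        have hsq := auto_square hG hT h8 hc hmat hx hk hs hpj hws hparity hsign
        have hact := swapAct_of_rep (F := F) hG hc hmat hx hpj hwj'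
        have hb0 : tE D c (D.simple C.j) * (((tabOf D).etaWord x (D.simple C.j) : ℤ) : F) ≠ 0 :=
          mul_ne_zero (tE_ne_zero c hc _) (etaWord_cast_ne_zero hG hx hpj)
        obtain ⟨g, hg, h', hh', e⟩ := peel_at' hG hhh₀ hj' x hb0 hsq h2 hact
        refine ⟨g, hg, h', hh', C.j :: x, ?_, hcj, e⟩
        intro m hm
        rcases List.mem_cons.mp hm with rfl | hm
        · exact hj'
        · exact hx m hm

include hG hT h6 h8 in
/-- Over a finite field of odd order, every involution of `N` is conjugate to an element of `H`, given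
certificates for the words of a list containing the involutions of the Weyl group that cannot be
shortened by conjugation. -/
theorem conjD_of_mem_monomial2 [Fintype F] (hodd : Fintype.card F % 2 = 1) (h2 : (2 : F) ≠ 0)
    (h9 : (tabOf D).T9)
    {L : List (List ℕ)} (hL : ∀ x ∈ L, ∀ i ∈ x, i < D.rank)
    (hdesc : ∀ w : List ℕ, (∀ i ∈ w, i < D.rank) → SameAct D w.reverse w →
      (∃ i < D.rank, nMinus D (i :: w ++ [i]) < nMinus D w) ∨ ∃ x ∈ L, SameAct D w x)
    (hcert : ∀ x ∈ L, x ≠ [] → ∃ C : Cert, (tabOf D).CertOK2 x C)
    {k : GL D.Idx F} (hk : k ∈ D.monomialSubgroup F) (hkk : k * k = 1) : ConjD D k := by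
  obtain ⟨h, hh, v, hv, rfl⟩ := monomialSubgroup_le_nWords hG hT h9 hk
  exact conjD_aux2 hG hT h6 h8 hodd h2 hL hdesc hcert _ v hv (Nat.lt_succ_self _) h hh hkk

end main

end Cfsg.Agent.Helper8.ChevOdd
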