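import Mathlib
import Cfsg.Agent.Helper8.ChevOddG
import Cfsg.Agent.Helper7.ChevWCert

set_option autoImplicit false
set_option linter.unusedSectionVars false
set_option linter.unusedVariables false

/-!
Fast versions of the search for the tuples of images of the fundamental roots (with tables of the sets
of roots having a given pairing with a root, coded by binary digits) and of the conditions on the
certificates (with a table of the fundamental reflections).
-/

namespace Cfsg.Agent.Helper7.Chev.Tab

open Cfsg.Agent.Helper8.ChevOdd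

variable (T : Tab)

/-- The positions, from `lo` on and fewer than `2 ^ d` of them, of the binary digits `1` of `m`. -/
def bitsIn (m : ℕ) : ℕ → ℕ → List ℕ
  | 0, lo => if m.testBit lo then [lo] else []
  | d + 1, lo =>
    if (m >>> lo) % 2 ^ 2 ^ (d + 1) = 0 then [] else bitsIn m d lo ++ bitsIn m d (lo + 2 ^ d)

theorem mem_bitsIn {m : ℕ} : ∀ (d lo r : ℕ), lo ≤ r → r < lo + 2 ^ d → m.testBit r = true →
    r ∈ bitsIn m d lo := by
  intro d
  induction d with
  | zero =>
    intro lo r h1 h2 h3
    have : r = lo := by
      rw [pow_zero] at h2; omega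
    subst this
    simp [bitsIn, h3]
  | succ d ih =>
    intro lo r h1 h2 h3
    have hne : (m >>> lo) % 2 ^ 2 ^ (d + 1) ≠ 0 := by
      intro h0
      have hb : ((m >>> lo) % 2 ^ 2 ^ (d + 1)).testBit (r - lo) = true := by
        rw [Nat.testBit_mod_two_pow, Nat.testBit_shiftRight]
        have e : lo + (r - lo) = r := by omega
        rw [e, h3, Bool.and_true, decide_eq_true_eq]
        omega
      rw [h0, Nat.zero_testBit] at hb
      exact absurd hb (by decide)
    rw [bitsIn, if_neg hne, List.mem_append]
    by_cases hr : r < lo + 2 ^ d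
    · exact Or.inl (ih lo r h1 hr h3)
    · refine Or.inr (ih (lo + 2 ^ d) r (by omega) ?_ h3)
      rw [pow_succ] at h2
      omega

/-- The set of the roots `r` with `⟨s, r⟩ = v`, read off a table: a list of numerals, each coding the
sets for `c` consecutive roots `s`. -/
def maskAt (MM : List ℕ × ℕ) (s : ℕ) (v : ℤ) : ℕ :=
  fld (MM.1.getD (s / MM.2) 0) T.n (5 * (s % MM.2) + (v + 2).toNat)

/-- The row `s` of the table is correct. -/
def MaskRow (MM : List ℕ × ℕ) (s : ℕ) : Prop :=
  AllLt T.n fun r => (T.maskAt MM s (T.pairing s r)).testBit r = true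

instance (MM : List ℕ × ℕ) (s : ℕ) : Decidable (T.MaskRow MM s) := by unfold MaskRow; infer_instance

/-- The rows of the fundamental roots of the table are correct for the transposed pairing. -/
def MaskCol (MM : List ℕ × ℕ) : Prop :=
  AllLt T.l fun j => AllLt T.n fun r =>
    (T.maskAt MM (T.simple j) (T.pairing r (T.simple j))).testBit r = true

instance (MM : List ℕ × ℕ) : Decidable (T.MaskCol MM) := by unfold MaskCol; infer_instance

/-- The pairing with a fundamental root is the Cartan integer. -/
def PairSimple : Prop :=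
  AllLt T.l fun j => AllLt T.n fun s => T.pairing (T.simple j) s = T.cartan j s

instance : Decidable T.PairSimple := by unfold PairSimple; infer_instance

/-- The set of the candidates for the image of the next fundamental root. -/
def candM (MM : List ℕ × ℕ) (t : List ℕ) : ℕ :=
  (List.range t.length).foldl (fun m j =>
      m &&& T.maskAt MM (t.getD j 0) (T.cartan j (T.simple t.length)) &&&
        T.maskAt MM (T.simple j) (T.cartan t.length (t.getD j 0)))
    (((2 ^ (T.n - T.n / 2) - 1) <<< (T.n / 2)) ||| (1 <<< T.neg (T.simple t.length)))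

/-- The extensions of a tuple by one root, from the tables. -/
def tupExtM (MM : List ℕ × ℕ) (d : ℕ) (t : List ℕ) : List (List ℕ) :=
  (bitsIn (T.candM MM t) d 0).map fun r => t ++ [r]

/-- The tuples of length `k` passing the tests of the tables. -/
def tupSearchM (MM : List ℕ × ℕ) (d : ℕ) : ℕ → List (List ℕ)
  | 0 => [[]]
  | k + 1 => (tupSearchM MM d k).flatMap (T.tupExtM MM d)

theorem testBit_foldl_and (f g : ℕ → ℕ) (L : List ℕ) (init r : ℕ)
    (h0 : init.testBit r = true)
    (h : ∀ j ∈ L, (f j).testBit r = true ∧ (g j).testBit r = true) :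
    (L.foldl (fun m j => m &&& f j &&& g j) init).testBit r = true := by
  induction L generalizing init with
  | nil => exact h0
  | cons a L ih =>
    rw [List.foldl_cons]
    apply ih
    · rw [Nat.testBit_and, Nat.testBit_and, h0, (h a List.mem_cons_self).1,
        (h a List.mem_cons_self).2]
      rfl
    · intro j hj
      exact h j (List.mem_cons_of_mem _ hj)

/-- The tuples found by the search are found by the search with the tables. -/
theorem mem_tupSearchM {MM : List ℕ × ℕ} {d : ℕ} (hd : T.n ≤ 2 ^ d) (hrow : ∀ s < T.n, T.MaskRow MM s)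
    (hcol : T.MaskCol MM) (hps : T.PairSimple) (hsimple : ∀ j < T.l, T.simple j < T.n) :
    ∀ k ≤ T.l, ∀ t ∈ T.tupSearchC k,
      t.length = k ∧ (∀ j < k, t.getD j 0 < T.n) ∧ t ∈ T.tupSearchM MM d k := by
  intro k
  induction k with
  | zero =>
    intro _ t ht
    simp only [tupSearchC, List.mem_singleton] at ht
    subst ht
    refine ⟨rfl, fun j hj => absurd hj (Nat.not_lt_zero _), ?_⟩
    simp [tupSearchM]
  | succ k ih =>
    intro hk t' ht'
    have hkl : k < T.l := hk
    rw [tupSearchC, List.mem_flatMap] at ht'
    obtain ⟨t, ht, ht'⟩ := ht'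
    obtain ⟨hlen, hlt, hmem⟩ := ih (by omega) t ht
    unfold tupExtC at ht'
    rw [List.mem_map] at ht'
    obtain ⟨r, hr, rfl⟩ := ht'
    rw [List.mem_filter, List.mem_range] at hr
    obtain ⟨hrn, hguard⟩ := hr
    unfold tupGuardC at hguard
    rw [Bool.and_eq_true, List.all_eq_true, hlen] at hguard
    obtain ⟨hg0, hgj⟩ := hguard
    refine ⟨by rw [List.length_append, hlen]; rfl, ?_, ?_⟩
    · intro j hj
      by_cases hjk : j < k
      · rw [List.getD_append _ _ _ _ (by omega)]
        exact hlt j hjk
      · have : j = k := by omega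
        subst this
        rw [List.getD_append_right _ _ _ _ (by omega), hlen, Nat.sub_self]
        exact hrn
    · rw [tupSearchM, List.mem_flatMap]
      refine ⟨t, hmem, ?_⟩
      unfold tupExtM
      rw [List.mem_map]
      refine ⟨r, ?_, rfl⟩
      apply mem_bitsIn d 0 r (Nat.zero_le _) (by omega)
      unfold candM
      rw [hlen]
      apply testBit_foldl_and
      · rw [Nat.testBit_or, Nat.testBit_shiftLeft, Nat.testBit_two_pow_sub_one, Nat.one_shiftLeft,
          Nat.testBit_two_pow]
        rw [Bool.or_eq_true, decide_eq_true_eq, decide_eq_true_eq] at hg0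
        rcases hg0 with h | h
        · rw [Bool.or_eq_true]
          right
          rw [decide_eq_true_eq]
          exact h.symm
        · rw [Bool.or_eq_true]
          left
          rw [Bool.and_eq_true, decide_eq_true_eq, decide_eq_true_eq]
          omega
      · intro j hj
        have hjk : j < k := List.mem_range.mp hj
        have hjl : j < T.l := by omega
        have h4 := hgj j hj
        simp only [Bool.and_eq_true, decide_eq_true_eq] at h4
        obtain ⟨⟨⟨h1, -⟩, -⟩, h4⟩ := h4
        constructor
        · have : (T.maskAt MM (t.getD j 0) (T.pairing (t.getD j 0) r)).testBit r = true :=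
            hrow _ (hlt j hjk) r hrn
          rw [h1, hps j hjl _ (hsimple k hkl)] at this
          exact this
        · have : (T.maskAt MM (T.simple j) (T.pairing r (T.simple j))).testBit r = true :=
            hcol j hjl r hrn
          rw [← h4, hps k hkl _ (hlt j hjk)] at this
          exact this

/-! ### Certificates with the table of the fundamental reflections -/

/-- The number of positive roots made negative by the word, from a table. -/
def nMnF (R : ℕ × ℕ) (w : List ℕ) : ℕ :=
  ((List.range' (T.n / 2) (T.n - T.n / 2)).filter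
    (fun r => decide (fastWord R w r < T.n / 2))).length

/-- The conditions on a certificate of the first kind, from a table. -/
def CertA2F (R : ℕ × ℕ) (u : List ℕ) (i j : ℕ) : Prop :=
  i < T.l ∧ fastWord R u (T.simple i) = T.neg (T.simple i) ∧
  fastWord R u (fastRefl R i (T.simple j)) = T.neg (fastRefl R i (T.simple j)) ∧
  T.cartan i (T.simple j) % 2 = 1 ∧
  T.nMnF R (i :: u) < T.nMnF R u ∧
  T.nMnF R (j :: i :: (u ++ [i])) < T.nMnF R u

instance (R : ℕ × ℕ) (u : List ℕ) (i j : ℕ) : Decidable (T.CertA2F R u i j) := by
  unfold CertA2F; infer_instance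

/-- The conditions on a certificate for the word `u`, from a table. -/
def CertOK2F (R : ℕ × ℕ) (u : List ℕ) (C : Cert) : Prop :=
  C.j < T.l ∧ fastWord R u (T.simple C.j) = T.neg (T.simple C.j) ∧
  T.nMnF R (C.j :: u) < T.nMnF R u ∧
  (if C.a then T.CertA2F R u C.i C.j else T.CertB u C.j C.s)

instance (R : ℕ × ℕ) (u : List ℕ) (C : Cert) : Decidable (T.CertOK2F R u C) := by
  unfold CertOK2F; infer_instance

section fast

variable {T} {R : ℕ × ℕ} (hR : ∀ i < T.l, ∀ r < T.n, T.refl (T.simple i) r = fastRefl R i r)
  (hlt : ∀ i < T.l, ∀ r < T.n, fastRefl R i r < T.n)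

include hR hlt in
theorem reflWord_eq_fastWord {w : List ℕ} (hw : ∀ i ∈ w, i < T.l) {s : ℕ} (hs : s < T.n) :
    T.reflWord w s = fastWord R w s ∧ fastWord R w s < T.n := by
  induction w with
  | nil => exact ⟨rfl, hs⟩
  | cons i w ih =>
    have hi : i < T.l := hw i List.mem_cons_self
    obtain ⟨e, hl⟩ := ih (fun j hj => hw j (List.mem_cons_of_mem _ hj))
    have e1 : T.reflWord (i :: w) s = T.refl (T.simple i) (T.reflWord w s) := rfl
    have e2 : fastWord R (i :: w) s = fastRefl R i (fastWord R w s) := rfl
    rw [e1, e2, e, hR i hi _ hl]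
    exact ⟨rfl, hlt i hi _ hl⟩

include hR hlt in
theorem nMn_eq_nMnF {w : List ℕ} (hw : ∀ i ∈ w, i < T.l) : T.nMn w = T.nMnF R w := by
  unfold nMn nMnF
  congr 1
  apply List.filter_congr
  intro r hr
  rw [List.mem_range'_1] at hr
  rw [(reflWord_eq_fastWord hR hlt hw (s := r) (by omega)).1]

include hR hlt in
/-- The conditions read off the table of the fundamental reflections give the conditions. -/
theorem certOK2_of_fast (hs : ∀ i < T.l, T.simple i < T.n) {u : List ℕ} (hu : ∀ i ∈ u, i < T.l)
    {C : Cert} (h : T.CertOK2F R u C) : T.CertOK2 u C := by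
  obtain ⟨hj, hwj, hnj, hrest⟩ := h
  have hju : ∀ i ∈ C.j :: u, i < T.l := by
    intro i hi
    rcases List.mem_cons.mp hi with rfl | hi
    · exact hj
    · exact hu i hi
  refine ⟨hj, ?_, ?_, ?_⟩
  · rw [(reflWord_eq_fastWord hR hlt hu (hs _ hj)).1]
    exact hwj
  · rw [nMn_eq_nMnF hR hlt hju, nMn_eq_nMnF hR hlt hu]
    exact hnj
  · by_cases ha : C.a = true
    · rw [if_pos ha] at hrest ⊢
      obtain ⟨hi, hwi, hwr, hpar, hci, hcji⟩ := hrest
      have hiu : ∀ m ∈ C.i :: u, m < T.l := by
        intro m hm
        rcases List.mem_cons.mp hm with rfl | hm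
        · exact hi
        · exact hu m hm
      have hjiu : ∀ m ∈ C.j :: C.i :: (u ++ [C.i]), m < T.l := by
        intro m hm
        rcases List.mem_cons.mp hm with rfl | hm
        · exact hj
        rcases List.mem_cons.mp hm with rfl | hm
        · exact hi
        rcases List.mem_append.mp hm with hm | hm
        · exact hu m hm
        · rw [List.mem_singleton] at hm
          rw [hm]
          exact hi
      have hrr : T.refl (T.simple C.i) (T.simple C.j) = fastRefl R C.i (T.simple C.j) :=
        hR _ hi _ (hs _ hj)
      refine ⟨hi, ?_, ?_, hpar, ?_, ?_⟩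
      · rw [(reflWord_eq_fastWord hR hlt hu (hs _ hi)).1]
        exact hwi
      · rw [hrr, (reflWord_eq_fastWord hR hlt hu (hlt _ hi _ (hs _ hj))).1]
        exact hwr
      · rw [nMn_eq_nMnF hR hlt hiu, nMn_eq_nMnF hR hlt hu]
        exact hci
      · rw [nMn_eq_nMnF hR hlt hjiu, nMn_eq_nMnF hR hlt hu]
        exact hcji
    · rw [if_neg ha] at hrest ⊢
      exact hrest

end fast

end Cfsg.Agent.Helper7.Chev.Tab
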