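import Mathlib
import Cfsg.Agent.Helper8.ChevOddE
import Cfsg.Agent.Helper7.ChevCodes

set_option autoImplicit false

/-!
Type `F₄`: the table of certificates for the words of the list of the Weyl group representing involutions
(generated), checked on the fast tables.
-/

namespace Cfsg.Agent.Helper8.F4Odd

open Cfsg Cfsg.Lie Cfsg.Agent.Helper7 Cfsg.Agent.Helper7.Chev Cfsg.Agent.Helper8.ChevOdd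

/-- The table of certificates. -/
def certTable : List (List ℕ × Cert) := [
  ([0], ⟨[], false, 0, 0, 3⟩),
  ([1], ⟨[], false, 0, 1, 7⟩),
  ([2], ⟨[], false, 0, 2, 1⟩),
  ([3], ⟨[], false, 0, 3, 0⟩),
  ([0, 2], ⟨[], false, 0, 0, 3⟩),
  ([0, 3], ⟨[], false, 0, 0, 3⟩),
  ([1, 3], ⟨[], false, 0, 1, 7⟩),
  ([0, 1, 0], ⟨[0], false, 0, 1, 7⟩),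
  ([1, 2, 1], ⟨[1], false, 0, 2, 1⟩),
  ([2, 1, 2], ⟨[2], false, 0, 1, 7⟩),
  ([2, 3, 2], ⟨[2], false, 0, 3, 0⟩),
  ([0, 1, 0, 3], ⟨[], false, 0, 3, 0⟩),
  ([0, 2, 3, 2], ⟨[], false, 0, 0, 3⟩),
  ([1, 0, 2, 1], ⟨[0], false, 0, 1, 7⟩),
  ([1, 2, 1, 2], ⟨[], false, 0, 2, 7⟩),
  ([2, 1, 3, 2], ⟨[2], false, 0, 1, 7⟩),
  ([0, 1, 2, 1, 0], ⟨[1, 0], false, 0, 2, 1⟩),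
  ([0, 2, 1, 0, 2], ⟨[2, 0], false, 0, 1, 7⟩),
  ([1, 2, 3, 2, 1], ⟨[2, 1], false, 0, 3, 0⟩),
  ([3, 2, 1, 2, 3], ⟨[2, 3], false, 0, 1, 7⟩),
  ([0, 1, 0, 2, 1, 0], ⟨[], false, 0, 1, 7⟩),
  ([0, 1, 2, 1, 0, 2], ⟨[], false, 0, 2, 3⟩),
  ([0, 2, 1, 0, 3, 2], ⟨[2], false, 0, 3, 0⟩),
  ([1, 0, 2, 3, 2, 1], ⟨[0], false, 0, 1, 7⟩),
  ([1, 2, 1, 3, 2, 1], ⟨[2], false, 0, 1, 9⟩),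
  ([1, 3, 2, 1, 2, 3], ⟨[2], false, 0, 3, 7⟩),
  ([2, 1, 0, 2, 1, 2], ⟨[1], false, 0, 2, 1⟩),
  ([2, 3, 2, 1, 2, 3], ⟨[], false, 0, 2, 1⟩),
  ([0, 1, 2, 3, 2, 1, 0], ⟨[2, 1, 0], false, 0, 3, 0⟩),
  ([0, 3, 2, 1, 0, 2, 3], ⟨[2, 3, 0], false, 0, 1, 7⟩),
  ([1, 0, 2, 1, 0, 2, 1], ⟨[2, 0, 1], false, 0, 1, 7⟩),
  ([2, 1, 2, 3, 2, 1, 2], ⟨[2, 1, 2], false, 0, 3, 0⟩),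
  ([0, 1, 0, 2, 1, 0, 2, 1], ⟨[1], false, 0, 2, 3⟩),
  ([0, 1, 0, 2, 3, 2, 1, 0], ⟨[], false, 0, 1, 7⟩),
  ([0, 1, 2, 1, 0, 2, 1, 2], ⟨[2], false, 0, 1, 7⟩),
  ([0, 1, 2, 1, 3, 2, 1, 0], ⟨[2, 0], false, 0, 1, 9⟩),
  ([0, 1, 3, 2, 1, 0, 2, 3], ⟨[2], false, 0, 3, 3⟩),
  ([0, 2, 3, 2, 1, 0, 2, 3], ⟨[], false, 0, 2, 1⟩),
  ([1, 0, 2, 1, 0, 2, 1, 2], ⟨[], false, 0, 2, 1⟩),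
  ([1, 0, 2, 1, 0, 3, 2, 1], ⟨[2, 1], false, 0, 3, 0⟩),
  ([1, 2, 1, 2, 3, 2, 1, 2], ⟨[], false, 0, 1, 9⟩),
  ([1, 2, 1, 3, 2, 1, 2, 3], ⟨[1], false, 0, 2, 1⟩),
  ([2, 1, 0, 2, 3, 2, 1, 2], ⟨[2, 0], false, 0, 1, 7⟩),
  ([2, 1, 2, 3, 2, 1, 2, 3], ⟨[], false, 0, 3, 7⟩),
  ([3, 2, 1, 0, 2, 1, 2, 3], ⟨[2, 1], false, 0, 3, 0⟩),
  ([0, 1, 0, 2, 1, 0, 2, 1, 2], ⟨[], false, 0, 2, 1⟩),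
  ([0, 2, 1, 2, 3, 2, 1, 0, 2], ⟨[2, 1, 2, 0], false, 0, 3, 0⟩),
  ([1, 0, 3, 2, 1, 0, 2, 1, 3], ⟨[2, 3, 0, 1], false, 0, 1, 7⟩),
  ([1, 2, 1, 2, 3, 2, 1, 2, 3], ⟨[], true, 2, 1, 0⟩),
  ([0, 1, 0, 2, 1, 0, 3, 2, 1, 0], ⟨[2, 1, 0], false, 0, 3, 0⟩),
  ([0, 1, 0, 3, 2, 1, 0, 2, 1, 3], ⟨[2, 1], false, 0, 3, 3⟩),
  ([0, 1, 2, 1, 2, 3, 2, 1, 0, 2], ⟨[0], false, 0, 1, 9⟩),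
  ([0, 1, 2, 1, 3, 2, 1, 0, 2, 3], ⟨[1, 0], false, 0, 2, 1⟩),
  ([0, 1, 3, 2, 1, 0, 2, 1, 2, 3], ⟨[2, 3], false, 0, 1, 7⟩),
  ([0, 2, 1, 0, 2, 3, 2, 1, 0, 2], ⟨[2], false, 0, 1, 7⟩),
  ([0, 2, 1, 2, 3, 2, 1, 0, 2, 3], ⟨[], false, 0, 3, 3⟩),
  ([1, 0, 2, 3, 2, 1, 0, 2, 1, 3], ⟨[1], false, 0, 2, 1⟩),
  ([1, 0, 3, 2, 1, 0, 2, 1, 2, 3], ⟨[2], false, 0, 3, 0⟩),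
  ([1, 2, 1, 0, 2, 1, 3, 2, 1, 2], ⟨[2, 0, 1], false, 0, 1, 7⟩),
  ([2, 3, 2, 1, 0, 2, 1, 2, 3, 2], ⟨[2, 3, 0], false, 0, 1, 7⟩),
  ([0, 1, 0, 3, 2, 1, 0, 2, 1, 2, 3], ⟨[], true, 0, 1, 0⟩),
  ([0, 1, 2, 1, 2, 3, 2, 1, 0, 2, 3], ⟨[], true, 2, 3, 0⟩),
  ([1, 0, 2, 1, 2, 3, 2, 1, 0, 2, 1], ⟨[2, 1, 2, 0, 1], false, 0, 3, 0⟩),
  ([2, 1, 0, 3, 2, 1, 0, 2, 1, 3, 2], ⟨[2, 3, 0, 1, 2], false, 0, 1, 7⟩),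
  ([0, 1, 0, 2, 1, 2, 3, 2, 1, 0, 2, 1], ⟨[], false, 0, 0, 11⟩),
  ([0, 1, 0, 2, 1, 3, 2, 1, 0, 2, 1, 3], ⟨[1, 0], false, 0, 2, 1⟩),
  ([0, 1, 2, 1, 0, 2, 1, 3, 2, 1, 0, 2], ⟨[2, 0, 1], false, 0, 1, 9⟩),
  ([0, 2, 1, 0, 3, 2, 1, 0, 2, 1, 3, 2], ⟨[2, 1, 2], false, 0, 3, 3⟩),
  ([0, 2, 1, 3, 2, 1, 0, 2, 1, 2, 3, 2], ⟨[2, 3], false, 0, 1, 7⟩),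
  ([1, 0, 2, 1, 0, 2, 3, 2, 1, 0, 2, 1], ⟨[2], false, 0, 1, 9⟩),
  ([1, 0, 2, 1, 2, 3, 2, 1, 0, 2, 1, 3], ⟨[], false, 0, 3, 3⟩),
  ([1, 2, 3, 2, 1, 0, 2, 1, 2, 3, 2, 1], ⟨[2, 1, 2], false, 0, 3, 0⟩),
  ([2, 1, 0, 2, 3, 2, 1, 0, 2, 1, 3, 2], ⟨[1], false, 0, 2, 1⟩),
  ([2, 1, 0, 3, 2, 1, 0, 2, 1, 2, 3, 2], ⟨[], false, 0, 3, 0⟩),
  ([0, 1, 0, 2, 1, 2, 3, 2, 1, 0, 2, 1, 3], ⟨[1], true, 2, 3, 0⟩),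
  ([0, 2, 1, 0, 3, 2, 1, 0, 2, 1, 2, 3, 2], ⟨[], false, 0, 3, 0⟩),
  ([1, 2, 1, 0, 3, 2, 1, 0, 2, 1, 3, 2, 1], ⟨[2, 3, 0, 1, 2, 1], false, 0, 1, 7⟩),
  ([2, 1, 0, 2, 1, 2, 3, 2, 1, 0, 2, 1, 2], ⟨[2, 1, 2, 0, 1, 2], false, 0, 3, 0⟩),
  ([0, 1, 0, 2, 1, 0, 2, 1, 3, 2, 1, 0, 2, 1], ⟨[2, 0], false, 0, 1, 9⟩),
  ([0, 1, 2, 3, 2, 1, 0, 2, 1, 2, 3, 2, 1, 0], ⟨[2, 1, 2, 0], false, 0, 3, 0⟩),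
  ([0, 2, 1, 0, 2, 1, 2, 3, 2, 1, 0, 2, 1, 2], ⟨[], false, 0, 0, 11⟩),
  ([0, 2, 1, 0, 2, 1, 3, 2, 1, 0, 2, 1, 3, 2], ⟨[1, 0], false, 0, 2, 1⟩),
  ([1, 0, 2, 1, 0, 3, 2, 1, 0, 2, 1, 3, 2, 1], ⟨[2, 1, 2], false, 0, 3, 3⟩),
  ([1, 0, 2, 1, 3, 2, 1, 0, 2, 1, 2, 3, 2, 1], ⟨[2, 3], false, 0, 1, 9⟩),
  ([1, 2, 1, 0, 2, 1, 2, 3, 2, 1, 0, 2, 1, 2], ⟨[], false, 0, 1, 9⟩),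
  ([1, 2, 1, 0, 2, 3, 2, 1, 0, 2, 1, 3, 2, 1], ⟨[], false, 0, 2, 1⟩),
  ([1, 2, 1, 0, 3, 2, 1, 0, 2, 1, 2, 3, 2, 1], ⟨[], false, 0, 3, 0⟩),
  ([2, 1, 0, 2, 1, 2, 3, 2, 1, 0, 2, 1, 3, 2], ⟨[2], false, 0, 3, 3⟩),
  ([2, 1, 2, 3, 2, 1, 0, 2, 1, 2, 3, 2, 1, 2], ⟨[2, 1], false, 0, 3, 0⟩),
  ([0, 1, 2, 1, 0, 3, 2, 1, 0, 2, 1, 3, 2, 1, 0], ⟨[2, 3, 0, 1, 2, 1, 0], false, 0, 1, 7⟩),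
  ([0, 2, 1, 0, 2, 1, 2, 3, 2, 1, 0, 2, 1, 3, 2], ⟨[0, 1], true, 2, 1, 0⟩),
  ([1, 0, 2, 1, 0, 3, 2, 1, 0, 2, 1, 2, 3, 2, 1], ⟨[], false, 0, 3, 0⟩),
  ([3, 2, 1, 0, 2, 1, 2, 3, 2, 1, 0, 2, 1, 2, 3], ⟨[2, 1, 2, 0, 1, 2, 3], false, 0, 3, 0⟩),
  ([0, 1, 0, 2, 1, 0, 2, 1, 2, 3, 2, 1, 0, 2, 1, 2], ⟨[0], false, 0, 1, 9⟩),
  ([0, 1, 0, 2, 1, 0, 3, 2, 1, 0, 2, 1, 3, 2, 1, 0], ⟨[2, 1, 2, 0], false, 0, 3, 3⟩),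
  ([0, 1, 0, 2, 1, 3, 2, 1, 0, 2, 1, 2, 3, 2, 1, 0], ⟨[2, 3, 0], false, 0, 1, 9⟩),
  ([0, 1, 2, 1, 0, 2, 3, 2, 1, 0, 2, 1, 3, 2, 1, 0], ⟨[], false, 0, 2, 1⟩),
  ([0, 1, 2, 1, 0, 3, 2, 1, 0, 2, 1, 2, 3, 2, 1, 0], ⟨[], false, 0, 3, 0⟩),
  ([0, 2, 1, 2, 3, 2, 1, 0, 2, 1, 2, 3, 2, 1, 0, 2], ⟨[2, 1, 0], false, 0, 3, 0⟩),
  ([0, 3, 2, 1, 0, 2, 1, 2, 3, 2, 1, 0, 2, 1, 2, 3], ⟨[], false, 0, 0, 12⟩),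
  ([1, 0, 2, 1, 0, 2, 1, 3, 2, 1, 0, 2, 1, 3, 2, 1], ⟨[1, 0], false, 0, 2, 1⟩),
  ([1, 2, 1, 0, 2, 1, 2, 3, 2, 1, 0, 2, 1, 3, 2, 1], ⟨[2, 1], false, 0, 3, 3⟩),
  ([1, 2, 1, 0, 2, 3, 2, 1, 0, 2, 1, 2, 3, 2, 1, 2], ⟨[2], false, 0, 3, 0⟩),
  ([1, 3, 2, 1, 0, 2, 1, 2, 3, 2, 1, 0, 2, 1, 2, 3], ⟨[], false, 0, 1, 10⟩),
  ([2, 1, 0, 2, 1, 3, 2, 1, 0, 2, 1, 2, 3, 2, 1, 2], ⟨[2, 3], false, 0, 1, 10⟩),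
  ([2, 3, 2, 1, 0, 2, 1, 2, 3, 2, 1, 0, 2, 1, 2, 3], ⟨[], false, 0, 2, 3⟩),
  ([0, 1, 0, 2, 1, 0, 3, 2, 1, 0, 2, 1, 2, 3, 2, 1, 0], ⟨[], false, 0, 3, 0⟩),
  ([0, 2, 3, 2, 1, 0, 2, 1, 2, 3, 2, 1, 0, 2, 1, 2, 3], ⟨[3, 0, 1], true, 2, 1, 0⟩),
  ([1, 0, 2, 1, 0, 2, 1, 2, 3, 2, 1, 0, 2, 1, 3, 2, 1], ⟨[0], true, 2, 1, 0⟩),
  ([1, 2, 1, 0, 2, 1, 3, 2, 1, 0, 2, 1, 2, 3, 2, 1, 2], ⟨[2], false, 0, 3, 0⟩),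
  ([0, 1, 0, 2, 1, 0, 2, 1, 3, 2, 1, 0, 2, 1, 3, 2, 1, 0], ⟨[1], false, 0, 2, 1⟩),
  ([0, 1, 0, 3, 2, 1, 0, 2, 1, 2, 3, 2, 1, 0, 2, 1, 2, 3], ⟨[0], false, 0, 1, 10⟩),
  ([0, 1, 2, 1, 0, 2, 1, 2, 3, 2, 1, 0, 2, 1, 3, 2, 1, 0], ⟨[2, 1, 0], false, 0, 3, 3⟩),
  ([0, 1, 2, 1, 0, 2, 3, 2, 1, 0, 2, 1, 2, 3, 2, 1, 0, 2], ⟨[2], false, 0, 3, 0⟩),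
  ([0, 2, 1, 0, 2, 1, 3, 2, 1, 0, 2, 1, 2, 3, 2, 1, 0, 2], ⟨[2, 3, 0], false, 0, 1, 10⟩),
  ([1, 0, 2, 1, 2, 3, 2, 1, 0, 2, 1, 2, 3, 2, 1, 0, 2, 1], ⟨[2, 1, 0], false, 0, 3, 0⟩),
  ([1, 2, 1, 3, 2, 1, 0, 2, 1, 2, 3, 2, 1, 0, 2, 1, 2, 3], ⟨[1], false, 0, 2, 3⟩),
  ([2, 1, 2, 3, 2, 1, 0, 2, 1, 2, 3, 2, 1, 0, 2, 1, 2, 3], ⟨[2], false, 0, 1, 10⟩),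
  ([0, 1, 0, 2, 1, 0, 2, 1, 2, 3, 2, 1, 0, 2, 1, 3, 2, 1, 0], ⟨[], true, 2, 1, 0⟩),
  ([0, 1, 2, 1, 0, 2, 1, 3, 2, 1, 0, 2, 1, 2, 3, 2, 1, 0, 2], ⟨[2], false, 0, 3, 0⟩),
  ([1, 0, 2, 1, 3, 2, 1, 0, 2, 1, 2, 3, 2, 1, 0, 2, 1, 2, 3], ⟨[3, 0], true, 2, 1, 0⟩),
  ([1, 2, 1, 2, 3, 2, 1, 0, 2, 1, 2, 3, 2, 1, 0, 2, 1, 2, 3], ⟨[], false, 0, 2, 1⟩),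
  ([0, 1, 0, 2, 1, 0, 2, 3, 2, 1, 0, 2, 1, 2, 3, 2, 1, 0, 2, 1], ⟨[2, 1], false, 0, 3, 0⟩),
  ([0, 1, 2, 1, 0, 3, 2, 1, 0, 2, 1, 2, 3, 2, 1, 0, 2, 1, 2, 3], ⟨[1, 0], false, 0, 2, 3⟩),
  ([0, 2, 1, 0, 2, 3, 2, 1, 0, 2, 1, 2, 3, 2, 1, 0, 2, 1, 2, 3], ⟨[2, 0], false, 0, 1, 10⟩),
  ([1, 0, 2, 1, 0, 2, 1, 3, 2, 1, 0, 2, 1, 2, 3, 2, 1, 0, 2, 1], ⟨[2, 3, 0, 1], false, 0, 1, 10⟩),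
  ([2, 1, 0, 2, 1, 2, 3, 2, 1, 0, 2, 1, 2, 3, 2, 1, 0, 2, 1, 2], ⟨[2, 1, 2, 0], false, 0, 3, 0⟩),
  ([0, 1, 0, 2, 1, 0, 2, 1, 3, 2, 1, 0, 2, 1, 2, 3, 2, 1, 0, 2, 1], ⟨[2], true, 0, 1, 0⟩),
  ([0, 1, 0, 2, 1, 0, 3, 2, 1, 0, 2, 1, 2, 3, 2, 1, 0, 2, 1, 2, 3], ⟨[3], true, 2, 1, 0⟩),
  ([0, 1, 2, 1, 0, 2, 3, 2, 1, 0, 2, 1, 2, 3, 2, 1, 0, 2, 1, 2, 3], ⟨[], false, 0, 2, 1⟩),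
  ([2, 1, 0, 2, 1, 2, 3, 2, 1, 0, 2, 1, 2, 3, 2, 1, 0, 2, 1, 2, 3], ⟨[1], true, 2, 3, 0⟩),
  ([0, 1, 2, 1, 0, 2, 1, 2, 3, 2, 1, 0, 2, 1, 2, 3, 2, 1, 0, 2, 1, 2], ⟨[2, 1, 2], false, 0, 3, 0⟩),
  ([1, 0, 2, 1, 0, 2, 1, 2, 3, 2, 1, 0, 2, 1, 2, 3, 2, 1, 0, 2, 1, 2], ⟨[2, 1, 2, 0, 1], false, 0, 3, 0⟩),
  ([1, 0, 2, 1, 0, 2, 1, 3, 2, 1, 0, 2, 1, 2, 3, 2, 1, 0, 2, 1, 2, 3], ⟨[2, 0, 1], false, 0, 1, 10⟩),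
  ([0, 1, 0, 2, 1, 0, 2, 1, 2, 3, 2, 1, 0, 2, 1, 2, 3, 2, 1, 0, 2, 1, 2], ⟨[], true, 0, 1, 0⟩),
  ([0, 1, 0, 2, 1, 0, 2, 1, 3, 2, 1, 0, 2, 1, 2, 3, 2, 1, 0, 2, 1, 2, 3], ⟨[1], false, 0, 2, 1⟩),
  ([0, 1, 2, 1, 0, 2, 1, 2, 3, 2, 1, 0, 2, 1, 2, 3, 2, 1, 0, 2, 1, 2, 3], ⟨[1, 0], true, 2, 3, 0⟩),
  ([1, 0, 2, 1, 0, 2, 1, 2, 3, 2, 1, 0, 2, 1, 2, 3, 2, 1, 0, 2, 1, 2, 3], ⟨[], true, 2, 3, 0⟩),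
  ([0, 1, 0, 2, 1, 0, 2, 1, 2, 3, 2, 1, 0, 2, 1, 2, 3, 2, 1, 0, 2, 1, 2, 3], ⟨[], true, 0, 1, 0⟩)]

set_option maxRecDepth 1000000 in
theorem certs_fast : ∀ p ∈ certTable, fastF4.CertOK p.1 p.2 := by
  decide +kernel

end Cfsg.Agent.Helper8.F4Odd
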