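import Mathlib
import Cfsg.Agent.Helper8.F4OddT
import Cfsg.Agent.Helper7.ChevF4f

set_option autoImplicit false

/-!
Type `F₄`: every word of the list of the Weyl group representing an involution is a key of the table of
certificates.
-/

namespace Cfsg.Agent.Helper8.F4Odd

open Cfsg Cfsg.Lie Cfsg.Agent.Helper7 Cfsg.Agent.Helper7.Chev Cfsg.Agent.Helper8.ChevOdd

set_option maxRecDepth 1000000 in
theorem words_fast : ∀ w ∈ wL_F4, fastF4.okWord (certTable.map Prod.fst) w = true := by
  decide +kernel

theorem certs_F4 : ∀ w ∈ wL_F4, w ≠ [] → (tabOf chevF4).IsInv w →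
    ∃ C : Cert, (tabOf chevF4).CertOK w C :=
  tab_F4 ▸ Tab.cert_of_tables fastF4 certs_fast words_fast

end Cfsg.Agent.Helper8.F4Odd
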