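import Mathlib
import Cfsg.Agent.Helper8.F4OddU
import Cfsg.Agent.Helper8.G2OddA
import Cfsg.Agent.Helper7.ChevT5
import Cfsg.Agent.Helper7.ChevT6
import Cfsg.Agent.Helper7.ChevT7
import Cfsg.Agent.Helper7.ChevT9

set_option autoImplicit false
set_option linter.unusedSectionVars false
set_option linter.unusedVariables false

/-!
In `F₄(q)`, `q` odd, every involution is conjugate to an element of `H`.
-/

namespace Cfsg.Agent.Helper8.F4Odd

open Cfsg Cfsg.Lie Matrix Cfsg.Agent.Helper7 Cfsg.Agent.Helper7.Chev Cfsg.Agent.Helper8.G2Odd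
  Cfsg.Agent.Helper8.ChevOdd

variable {F : Type*} [Field F]

abbrev hF2 : Good2 chevF4 := good3_F4.toGood2
abbrev hF1 : Good1 chevF4 := good3_F4.toGood2.toGood1

theorem two_ne_zero_of_odd [Fintype F] (hodd : Odd (Fintype.card F)) : (2 : F) ≠ 0 := by
  have hcard : Fintype.card F % 2 = 1 := Nat.odd_iff.mp hodd
  have hch : ringChar F ≠ 2 := by
    intro h
    have := FiniteField.even_card_of_char_two h
    omega
  exact Ring.two_ne_zero hch

/-- Over a finite field of odd order every involution of `F₄(q)` is conjugate to an element of `H`. -/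
theorem inv_conj_diagonal [Fintype F] (hodd : Odd (Fintype.card F)) {t : GL chevF4.Idx F}
    (ht : t ∈ chevF4.group F) (ht2 : t * t = 1) : ConjD chevF4 t := by
  have hcard : Fintype.card F % 2 = 1 := Nat.odd_iff.mp hodd
  have h2 := two_ne_zero_of_odd hodd
  obtain ⟨g₁, hg₁, hN⟩ := inv_conj_monomial hF2 T0_F4 good3_F4.t3 good3_F4.t4 T5_F4 T6_F4 T7_F4
    T8_F4 T9_F4 hodd ht ht2
  have := conjD_of_mem_monomial hF2 T0_F4 T6_F4 T8_F4 wList_F4 hcard h2 T9_F4 certs_F4 hN
    (sq_conj ht2)
  exact ConjD.of_conj hg₁ rfl this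

end Cfsg.Agent.Helper8.F4Odd
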