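import Mathlib
import Cfsg.Agent.Helper8.F4OddA
import Cfsg.Agent.Helper7.ChevF4h

set_option autoImplicit false
set_option linter.unusedSectionVars false
set_option linter.unusedVariables false

/-!
In `F₄(q)`, `q` odd, the fifteen involutions of `H` are conjugate under `N` to `h_{p₁}(-1)` or to
`h_{p₄}(-1)`.
-/

namespace Cfsg.Agent.Helper7.Chev.Tab

variable (T : Tab)

/-- The sign at the position `m` of the conjugate by the word `w` of the torus element of type `F₄` with
signs `a, b, c, d`. -/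
def sgn4 (w : List ℕ) (a b c d : Bool) (m : ℕ) : Bool :=
  xor (xor (xor (a && decide (T.cr (T.reflWord w (T.simple 0)) m % 2 = 1))
    (b && decide (T.cr (T.reflWord w (T.simple 1)) m % 2 = 1)))
    (c && decide (T.cr (T.reflWord w (T.simple 2)) m % 2 = 1)))
    (d && decide (T.cr (T.reflWord w (T.simple 3)) m % 2 = 1))

end Cfsg.Agent.Helper7.Chev.Tab

namespace Cfsg.Agent.Helper8.F4Odd

open Cfsg Cfsg.Lie Matrix Cfsg.Agent.Helper7 Cfsg.Agent.Helper7.Chev Cfsg.Agent.Helper8.G2Odd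
  Cfsg.Agent.Helper8.ChevOdd

variable {K : Type*} [Field K]

/-- The unit `±1`. -/
def sg (K : Type*) [Field K] (b : Bool) : Kˣ := if b then -1 else 1

theorem sg_mul (a b : Bool) : sg K a * sg K b = sg K (xor a b) := by
  cases a <;> cases b <;> simp [sg]

theorem sg_zpow (a : Bool) (n : ℤ) : sg K a ^ n = sg K (a && decide (n % 2 = 1)) := by
  cases a
  · simp [sg]
  · rcases Int.emod_two_eq_zero_or_one n with h | h
    · have he : Even n := Int.even_iff.mpr h
      simp [sg, h, he.neg_one_zpow]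
    · have ho : Odd n := Int.odd_iff.mpr h
      simp [sg, h, ho.neg_one_zpow]

/-- The torus element with the given signs. -/
noncomputable def tS (K : Type*) [Field K] (a b c d : Bool) : GL chevF4.Idx K :=
  tF4 (sg K a) (sg K b) (sg K c) (sg K d)

theorem tS_mul (a b c d a' b' c' d' : Bool) :
    tS K a b c d * tS K a' b' c' d' = tS K (xor a a') (xor b b') (xor c c') (xor d d') := by
  unfold tS
  rw [tF4_mul, sg_mul, sg_mul, sg_mul, sg_mul]

theorem fh_sg (r : Fin 48) (a : Bool) :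
    fh K r (sg K a) = tS K (a && decide (cr chevF4 r.val 0 % 2 = 1))
      (a && decide (cr chevF4 r.val 1 % 2 = 1)) (a && decide (cr chevF4 r.val 2 % 2 = 1))
      (a && decide (cr chevF4 r.val 3 % 2 = 1)) := by
  unfold tS
  rw [fh_eq_tF4, sg_zpow, sg_zpow, sg_zpow, sg_zpow]

theorem tS_mem_diagonal (a b c d : Bool) : tS K a b c d ∈ chevF4.diagonalSubgroup K :=
  tF4_mem_diagonal _ _ _ _

/-- Conjugation of `h_r(c)` by the element of `N` of a word. -/
theorem conj_fh {w : List ℕ} (hw : ∀ i ∈ w, i < chevF4.rank) (r : Fin 48) (c : Kˣ) :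
    nWordGL hF2 w * fh K r c * (nWordGL hF2 w)⁻¹ =
      fh K ⟨(tabOf chevF4).reflWord w r.val, reflWord_lt hF2 hw r.2⟩ c := by
  rw [mul_inv_eq_iff_eq_mul, fh_def, fh_def, nWordGL_mul_hGL hF2 hw]

/-- Conjugation of the torus elements with signs by the element of `N` of a word. -/
theorem conj_tS {w : List ℕ} (hw : ∀ i ∈ w, i < chevF4.rank) (a b c d : Bool) :
    nWordGL hF2 w * tS K a b c d * (nWordGL hF2 w)⁻¹ =
      tS K ((tabOf chevF4).sgn4 w a b c d 0) ((tabOf chevF4).sgn4 w a b c d 1)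
        ((tabOf chevF4).sgn4 w a b c d 2) ((tabOf chevF4).sgn4 w a b c d 3) := by
  set n := nWordGL (F := K) hF2 w with hn
  have e : tS K a b c d = fh K 33 (sg K a) * fh K 27 (sg K b) * fh K 25 (sg K c) *
      fh K 24 (sg K d) := tF4_eq _ _ _ _
  have e2 : n * (fh K 33 (sg K a) * fh K 27 (sg K b) * fh K 25 (sg K c) * fh K 24 (sg K d)) * n⁻¹ =
      (n * fh K 33 (sg K a) * n⁻¹) * (n * fh K 27 (sg K b) * n⁻¹) *
        (n * fh K 25 (sg K c) * n⁻¹) * (n * fh K 24 (sg K d) * n⁻¹) := by group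
  rw [e, e2, conj_fh hw, conj_fh hw, conj_fh hw, conj_fh hw, fh_sg, fh_sg, fh_sg, fh_sg, tS_mul,
    tS_mul, tS_mul]
  rfl

/-- The two representatives. -/
noncomputable def zS (K : Type*) [Field K] : GL chevF4.Idx K := tS K true false false false

noncomputable def zT (K : Type*) [Field K] : GL chevF4.Idx K := tS K false false false true

/-- The words conjugating the involutions of `H` to the representatives. -/
def fuseWords : List (List ℕ × Bool) :=
  [([], false), ([2, 3], false), ([2], false), ([1, 0], true), ([2, 1, 2], false),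
   ([2, 1, 3], false), ([2, 1], false), ([], true), ([2, 1, 0, 2, 1], false),
   ([2, 1, 0, 2, 1, 2, 3], false), ([2, 1, 0, 2, 1, 2], false), ([1], true),
   ([2, 1, 0, 2], false), ([2, 1, 0, 3], false), ([2, 1, 0], false)]

theorem fuse_fast : ∀ a b c d : Bool, (a || b || c || d) = true → ∃ p ∈ fuseWords,
    (∀ i ∈ p.1, i < 4) ∧ fastF4.sgn4 p.1 a b c d 0 = p.2 ∧ fastF4.sgn4 p.1 a b c d 1 = false ∧
      fastF4.sgn4 p.1 a b c d 2 = false ∧ fastF4.sgn4 p.1 a b c d 3 = !p.2 := by
  decide +kernel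

theorem fuse_F4 : ∀ a b c d : Bool, (a || b || c || d) = true → ∃ p ∈ fuseWords,
    (∀ i ∈ p.1, i < 4) ∧ (tabOf chevF4).sgn4 p.1 a b c d 0 = p.2 ∧
      (tabOf chevF4).sgn4 p.1 a b c d 1 = false ∧
      (tabOf chevF4).sgn4 p.1 a b c d 2 = false ∧ (tabOf chevF4).sgn4 p.1 a b c d 3 = !p.2 :=
  tab_F4 ▸ fuse_fast

theorem unit_sq_one {c : Kˣ} (h : c * c = 1) : ∃ e : Bool, c = sg K e := by
  have h' : (c : K) * (c : K) = 1 := by
    rw [← Units.val_mul, h, Units.val_one]
  rcases mul_self_eq_one_iff.mp h' with h1 | h1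
  · exact ⟨false, Units.ext (by simpa [sg] using h1)⟩
  · exact ⟨true, Units.ext (by simpa [sg] using h1)⟩

theorem tS_false : tS K false false false false = 1 := tF4_one

/-- Every involution of `H` is conjugate under `N` to one of the two representatives. -/
theorem hinv_conj {h : GL chevF4.Idx K} (hh : h ∈ chevF4.diagonalSubgroup K) (hk : h * h = 1)
    (hne : h ≠ 1) :
    ∃ g ∈ chevF4.group K, g * h * g⁻¹ = zS K ∨ g * h * g⁻¹ = zT K := by
  obtain ⟨c₀, c₁, c₂, c₃, rfl⟩ := exists_tF4 hh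
  rw [tF4_mul, ← tF4_one] at hk
  obtain ⟨h0, h1, h2, h3⟩ := tF4_injective hk
  obtain ⟨a, rfl⟩ := unit_sq_one h0
  obtain ⟨b, rfl⟩ := unit_sq_one h1
  obtain ⟨c, rfl⟩ := unit_sq_one h2
  obtain ⟨d, rfl⟩ := unit_sq_one h3
  have hor : (a || b || c || d) = true := by
    by_contra hcon
    apply hne
    cases a <;> cases b <;> cases c <;> cases d <;> simp at hcon
    exact tS_false
  obtain ⟨p, -, hlt, e0, e1, e2, e3⟩ := fuse_F4 a b c d hor
  have hw : ∀ i ∈ p.1, i < chevF4.rank := hlt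
  refine ⟨nWordGL hF2 p.1, monomialSubgroup_le_group hF1 (nWordGL_mem hF2 p.1), ?_⟩
  have := conj_tS (K := K) hw a b c d
  rw [e0, e1, e2, e3] at this
  change nWordGL hF2 p.1 * tS K a b c d * (nWordGL hF2 p.1)⁻¹ = zS K ∨
    nWordGL hF2 p.1 * tS K a b c d * (nWordGL hF2 p.1)⁻¹ = zT K
  rw [this]
  cases p.2
  · right; rfl
  · left; rfl

end Cfsg.Agent.Helper8.F4Odd
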