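import Mathlib
import Cfsg.Agent.Helper8.ChevCzC
import Cfsg.Agent.Helper8.F4OddB
import Cfsg.Agent.Helper7.ChevTwH3

set_option autoImplicit false
set_option linter.unusedSectionVars false
set_option linter.unusedVariables false

/-!
The elements of order at most two of the subgroup `H` of a Chevalley group: the elements with
parameters `±1`, their values at the roots, their conjugates under `N`.
-/

namespace Cfsg.Agent.Helper7.Chev.Tab

variable (T : Tab)

/-- The parity of the value at the root `r` of the element of `H` whose parameters `-1` are at the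
binary digits `1` of `m`. -/
def parB (m r : ℕ) : Bool :=
  (List.range T.l).foldl (fun acc i => xor acc (m.testBit i && decide (T.cartan i r % 2 = 1))) false

/-- The set of the roots at which the value of the element of `H` coded by `m` is `-1`, coded by binary
digits, from the list `PM` of these sets for the fundamental coroots. -/
def parMask (PM : List ℕ) (m : ℕ) : ℕ :=
  (List.range T.l).foldl (fun acc i => if m.testBit i then acc ^^^ PM.getD i 0 else acc) 0

/-- The list `PM` is correct. -/
def ParMaskOK (PM : List ℕ) : Prop :=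
  AllLt T.l fun i => AllLt T.n fun r => (PM.getD i 0).testBit r = decide (T.cartan i r % 2 = 1)

instance (PM : List ℕ) : Decidable (T.ParMaskOK PM) := by unfold ParMaskOK; infer_instance

theorem parB_eq_testBit {PM : List ℕ} (hPM : T.ParMaskOK PM) (m : ℕ) {r : ℕ} (hr : r < T.n) :
    T.parB m r = (T.parMask PM m).testBit r := by
  unfold parB parMask
  have key : ∀ (L : List ℕ) (acc : Bool) (accm : ℕ), (∀ i ∈ L, i < T.l) → acc = accm.testBit r →
      L.foldl (fun acc i => xor acc (m.testBit i && decide (T.cartan i r % 2 = 1))) acc =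
        (L.foldl (fun acc i => if m.testBit i then acc ^^^ PM.getD i 0 else acc) accm).testBit r := by
    intro L
    induction L with
    | nil => intro acc accm _ h; exact h
    | cons i L ih =>
      intro acc accm hL h
      rw [List.foldl_cons, List.foldl_cons]
      apply ih _ _ (fun j hj => hL j (List.mem_cons_of_mem _ hj))
      have hi := hL i List.mem_cons_self
      by_cases hb : m.testBit i = true
      · rw [if_pos hb, Nat.testBit_xor, hPM i hi r hr, hb, Bool.true_and, h]
      · rw [if_neg hb]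
        rw [Bool.not_eq_true] at hb
        rw [hb, Bool.false_and, Bool.xor_false, h]
  exact key _ _ _ (fun i hi => List.mem_range.mp hi) (Nat.zero_testBit r).symm

end Cfsg.Agent.Helper7.Chev.Tab

namespace Cfsg.Agent.Helper8.ChevOdd

open Cfsg Cfsg.Lie Matrix Cfsg.Agent.Helper7 Cfsg.Agent.Helper7.Chev Cfsg.Agent.Helper8.G2Odd
  Cfsg.Agent.Helper8.ChevCz Cfsg.Agent.Helper8.F4Odd

variable {D : ChevalleyDatum} {K : Type*} [Field K]

/-- The parameters `±1`, with `-1` at the binary digits `1` of `m`. -/
def sgv (D : ChevalleyDatum) (K : Type*) [Field K] (m : ℕ) : Fin D.rank → Kˣ :=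
  fun i => sg K (m.testBit i.val)

/-- The element of `H` with parameters `±1`. -/
noncomputable def tSg (D : ChevalleyDatum) (K : Type*) [Field K] (m : ℕ) : GL D.Idx K :=
  torusHom D K (sgv D K m)

theorem tSg_coe (m : ℕ) :
    ((tSg D K m : GL D.Idx K) : Matrix D.Idx D.Idx K) = tMat D (extc D.rank (sgv D K m)) := rfl

theorem sgv_ne_zero (m : ℕ) : ∀ i < D.rank, extc D.rank (sgv D K m) i ≠ 0 :=
  fun i _ => extc_ne_zero _ i

theorem tE_sgv_aux (m r : ℕ) : ∀ (L : List ℕ) (acc : Bool), (∀ i ∈ L, i < D.rank) →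
    ((sg K acc : Kˣ) : K) * (L.map fun i => extc D.rank (sgv D K m) i ^ D.cartan i r).prod =
      ((sg K (L.foldl (fun acc i => xor acc (m.testBit i && decide (D.cartan i r % 2 = 1))) acc) :
        Kˣ) : K) := by
  intro L
  induction L with
  | nil => intro acc _; simp
  | cons i L ih =>
    intro acc hL
    have hi : i < D.rank := hL i List.mem_cons_self
    rw [List.map_cons, List.prod_cons, List.foldl_cons, ← ih _ (fun j hj => hL j (List.mem_cons_of_mem _ hj)),
      ← mul_assoc]
    congr 1
    have e : extc D.rank (sgv D K m) i = ((sg K (m.testBit i) : Kˣ) : K) := by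
      unfold extc
      rw [dif_pos hi]
      rfl
    rw [e, ← Units.val_zpow_eq_zpow_val, sg_zpow, ← Units.val_mul, sg_mul]

/-- The value at a root of the element of `H` with parameters `±1`. -/
theorem tE_sgv (m r : ℕ) :
    tE D (extc D.rank (sgv D K m)) r = ((sg K ((tabOf D).parB m r) : Kˣ) : K) := by
  have h := tE_sgv_aux (D := D) (K := K) m r (List.range D.rank) false
    (fun i hi => List.mem_range.mp hi)
  have e1 : ((sg K false : Kˣ) : K) = 1 := by simp [sg]
  rw [e1, one_mul] at h
  exact h

theorem sg_val' (b : Bool) : ((sg K b : Kˣ) : K) = if b then -1 else 1 := by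
  cases b <;> simp [sg]

theorem neg_one_ne_one_of_two (h2 : (2 : K) ≠ 0) : (-1 : K) ≠ 1 := by
  intro h
  apply h2
  have : (2 : K) = 1 - (-1) := by ring
  rw [this, h, sub_self]

theorem tE_sgv_eq_one_iff (h2 : (2 : K) ≠ 0) (m r : ℕ) :
    tE D (extc D.rank (sgv D K m)) r = 1 ↔ (!(tabOf D).parB m r) = true := by
  rw [tE_sgv, sg_val']
  cases (tabOf D).parB m r
  · simp
  · simp only [if_true, Bool.not_true]
    constructor
    · intro h; exact absurd h (neg_one_ne_one_of_two h2)
    · intro h; exact absurd h (by decide)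

theorem tE_sgv_pm (m r : ℕ) :
    tE D (extc D.rank (sgv D K m)) r = 1 ∨ tE D (extc D.rank (sgv D K m)) r = -1 := by
  rw [tE_sgv, sg_val']
  cases (tabOf D).parB m r
  · left; rfl
  · right; rfl

theorem sgv_mul_self (m : ℕ) : sgv D K m * sgv D K m = 1 := by
  funext i
  simp only [Pi.mul_apply, Pi.one_apply, sgv, sg_mul, Bool.xor_self]
  rfl

theorem tSg_sq (m : ℕ) : tSg D K m * tSg D K m = 1 := by
  unfold tSg
  rw [← map_mul, sgv_mul_self, map_one]

theorem tSg_zero : tSg D K 0 = 1 := by
  unfold tSg
  have : sgv D K 0 = 1 := by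
    funext i
    simp [sgv, sg]
  rw [this, map_one]

section good

variable (hG : Good1 D)

include hG in
theorem tSg_mem_diagonal (m : ℕ) : tSg D K m ∈ D.diagonalSubgroup K := tGL_mem hG _

include hG in
/-- An element of `H` of square `1` has parameters `±1`, if the torus is faithful. -/
theorem exists_tSg (hker : ∀ c : Fin D.rank → Kˣ, torusHom D K c = 1 → c = 1) {h : GL D.Idx K}
    (hh : h ∈ D.diagonalSubgroup K) (hk : h * h = 1) : ∃ m < 2 ^ D.rank, h = tSg D K m := by
  rw [← torusHom_range hG] at hh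
  obtain ⟨c, rfl⟩ := hh
  rw [← map_mul] at hk
  have hcc := hker _ hk
  have hb : ∀ i : Fin D.rank, ∃ b : Bool, c i = sg K b := by
    intro i
    apply unit_sq_one
    have := congrFun hcc i
    simpa using this
  choose b hb using hb
  refine ⟨Nat.ofBits b, Nat.ofBits_lt_two_pow b, ?_⟩
  unfold tSg
  congr 1
  funext i
  rw [hb i]
  unfold sgv
  rw [Nat.testBit_ofBits_lt b i.val i.2]

include hG in
theorem tSg_ne_one (hker : ∀ c : Fin D.rank → Kˣ, torusHom D K c = 1 → c = 1) (h2 : (2 : K) ≠ 0)
    {m : ℕ} (hm : m < 2 ^ D.rank) (hm0 : m ≠ 0) : tSg D K m ≠ 1 := by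
  intro h
  apply hm0
  have hc := hker _ h
  apply Nat.eq_of_testBit_eq
  intro i
  rw [Nat.zero_testBit]
  by_cases hi : i < D.rank
  · have := congrFun hc ⟨i, hi⟩
    simp only [sgv, Pi.one_apply] at this
    by_contra hb
    rw [Bool.not_eq_false] at hb
    rw [hb] at this
    have h' : ((sg K true : Kˣ) : K) = ((1 : Kˣ) : K) := congrArg Units.val this
    rw [sg_val', if_pos rfl, Units.val_one] at h'
    exact neg_one_ne_one_of_two h2 h'
  · apply Nat.testBit_lt_two_pow
    exact lt_of_lt_of_le hm (Nat.pow_le_pow_right (by norm_num) (by omega))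

end good

section conj

variable (hG : Good2 D) (hT : T0 D) (h8 : (tabOf D).T8)

include hG hT h8 in
/-- The conjugate of an element of `H` by the element of `N` of a word. -/
theorem torus_conj_word {z : GL D.Idx K} (hz : z ∈ D.diagonalSubgroup K) {c : ℕ → K}
    (hc : ∀ i < D.rank, c i ≠ 0) (hmat : (z : Matrix D.Idx D.Idx K) = tMat D c)
    {w : List ℕ} (hw : ∀ i ∈ w, i < D.rank) :
    ∃ c' : ℕ → K, (∀ i < D.rank, c' i ≠ 0) ∧
      (((nWordGL hG w)⁻¹ * z * nWordGL hG w : GL D.Idx K) : Matrix D.Idx D.Idx K) = tMat D c' ∧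
      ∀ r < D.nroots, tE D c' r = tE D c ((tabOf D).reflWord w r) := by
  have hG1 := hG.toGood1
  set n := nWordGL (F := K) hG w with hn
  have hh' : n⁻¹ * z * n ∈ D.diagonalSubgroup K :=
    conj_mem_diagonal' (nWordGL_mem_normalizer hG w) hz
  obtain ⟨c', hc', hmat'⟩ := diagonalSubgroup_torus hG1 hh'
  refine ⟨c', hc', hmat', ?_⟩
  intro r hr
  have hr' := reflWord_lt hG hw hr
  have h1 := torus_conj_xGL (F := K) hG hc' hmat' hr (1 : K)
  have hcw := nWordGL_conj (F := K) hG hw hr (1 : K)
  have hcw2 := nWordGL_conj (F := K) hG hw hr (tE D c ((tabOf D).reflWord w r) * 1)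
  have h2 : n⁻¹ * z * n * xGL hG1 hr (1 : K) * (n⁻¹ * z * n)⁻¹ =
      xGL hG1 hr (tE D c ((tabOf D).reflWord w r) * 1) := by
    calc n⁻¹ * z * n * xGL hG1 hr (1 : K) * (n⁻¹ * z * n)⁻¹ =
          n⁻¹ * (z * (n * xGL hG1 hr (1 : K) * n⁻¹) * z⁻¹) * n := by group
      _ = n⁻¹ * (n * xGL hG1 hr (tE D c ((tabOf D).reflWord w r) * 1) * n⁻¹) * n := by
          rw [hcw, torus_conj_xGL hG hc hmat hr', hcw2]
          congr 3
          ring
      _ = _ := by group
  rw [h1] at h2
  have := xGL_injective hG hT h8 hr h2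
  rw [mul_one, mul_one] at this
  exact this

include hG hT h8 in
/-- The conjugate of an element of `H` with parameters `±1` by the element of `N` of a word. -/
theorem tSg_conj {m m' : ℕ} {w : List ℕ} (hw : ∀ i ∈ w, i < D.rank)
    (h : ∀ r < D.nroots, (tabOf D).parB m ((tabOf D).reflWord w r) = (tabOf D).parB m' r) :
    (nWordGL hG w)⁻¹ * tSg D K m * nWordGL hG w = tSg D K m' := by
  obtain ⟨c', hc', hmat', hval⟩ := torus_conj_word hG hT h8
    (tSg_mem_diagonal hG.toGood1 (K := K) m) (sgv_ne_zero m) (tSg_coe m) hw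
  apply Units.ext
  rw [hmat', tSg_coe]
  apply tMat_eq_of_tE
  intro r hr
  rw [hval r hr, tE_sgv, tE_sgv, h r hr]

end conj

end Cfsg.Agent.Helper8.ChevOdd
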