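import Mathlib

/-!
# Class sizes and a disconnected prime graph determine the order

Helper library for S4184 (helper8).  All names carry the `h8_` prefix.
-/

namespace Cfsg.Agent.Helper8.ClassSizeOrder

variable {G : Type*} [Group G]

/-- index of the centralizer of an element (its class size). -/
noncomputable def h8_cs (g : G) : ℕ := (Subgroup.centralizer ({g} : Set G)).index

/-- all prime divisors of `c` lie in `A`. -/
def h8_pin (A : Set ℕ) (c : ℕ) : Prop := ∀ q : ℕ, q.Prime → q ∣ c → q ∈ A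

theorem h8_pin_of_dvd {A : Set ℕ} {c d : ℕ} (h : h8_pin A d) (hcd : c ∣ d) : h8_pin A c :=
  fun q hq hqc => h q hq (hqc.trans hcd)

theorem h8_cs_conj (g x : G) : h8_cs (x * g * x⁻¹) = h8_cs g := by
  unfold h8_cs
  have : Subgroup.centralizer ({x * g * x⁻¹} : Set G)
      = (Subgroup.centralizer ({g} : Set G)).map ((MulAut.conj x : G ≃* G) : G →* G) := by
    ext y
    simp only [Subgroup.mem_centralizer_singleton_iff, Subgroup.mem_map, MonoidHom.coe_coe,
      MulAut.conj_apply]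
    constructor
    · intro hy
      refine ⟨x⁻¹ * y * x, ?_, by group⟩
      calc x⁻¹ * y * x * g = x⁻¹ * (y * (x * g * x⁻¹)) * x := by group
        _ = x⁻¹ * ((x * g * x⁻¹) * y) * x := by rw [hy]
        _ = g * (x⁻¹ * y * x) := by group
    · rintro ⟨w, hw, rfl⟩
      calc x * w * x⁻¹ * (x * g * x⁻¹) = x * (w * g) * x⁻¹ := by group
        _ = x * (g * w) * x⁻¹ := by rw [hw]
        _ = x * g * x⁻¹ * (x * w * x⁻¹) := by group
  rw [this, Subgroup.index_map_equiv]

theorem h8_centralizer_mul_le_left {g h : G} (hc : Commute g h)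
    (hcop : (orderOf g).Coprime (orderOf h)) :
    Subgroup.centralizer ({g * h} : Set G) ≤ Subgroup.centralizer ({g} : Set G) := by
  intro x hx
  rw [Subgroup.mem_centralizer_singleton_iff] at hx ⊢
  obtain ⟨m, hm⟩ := exists_pow_eq_self_of_coprime (x := g) (n := orderOf h) hcop.symm
  have h1 : (g * h) ^ (orderOf h) = g ^ (orderOf h) := by
    rw [hc.mul_pow, pow_orderOf_eq_one, mul_one]
  have h2 : ((g * h) ^ (orderOf h)) ^ m = g := by rw [h1, hm]
  have hcomm : Commute x (g * h) := hx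
  have h3 := (hcomm.pow_right (orderOf h)).pow_right m
  rw [h2] at h3
  exact h3

/-- The hypotheses transferred to `G`. -/
structure h8_Ctx (G : Type*) [Group G] (μ k : ℕ) (A B : Set ℕ) : Prop where
  card : Nat.card G = k * μ
  dvd : ∀ g : G, h8_cs g ∣ μ
  lt : ∀ g : G, g ≠ 1 → 1 < μ / h8_cs g
  typ : ∀ g : G, g ≠ 1 → h8_pin A (μ / h8_cs g) ∨ h8_pin B (μ / h8_cs g)
  disj : ∀ q : ℕ, q ∈ A → q ∈ B → False

namespace h8_Ctx

variable {μ k : ℕ} {A B : Set ℕ}

theorem symm (C : h8_Ctx G μ k A B) : h8_Ctx G μ k B A where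
  card := C.card
  dvd := C.dvd
  lt := C.lt
  typ := fun g hg => (C.typ g hg).symm
  disj := fun q hB hA => C.disj q hA hB

theorem not_both (C : h8_Ctx G μ k A B) {g : G} (hg : g ≠ 1)
    (hA : h8_pin A (μ / h8_cs g)) (hB : h8_pin B (μ / h8_cs g)) : False := by
  obtain ⟨q, hq, hqc⟩ := Nat.exists_prime_and_dvd (C.lt g hg).ne'
  exact C.disj q (hA q hq hqc) (hB q hq hqc)

theorem mono (C : h8_Ctx G μ k A B) {g h : G}
    (hle : Subgroup.centralizer ({g} : Set G) ≤ Subgroup.centralizer ({h} : Set G)) :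
    μ / h8_cs g ∣ μ / h8_cs h :=
  Nat.div_dvd_div_left (C.dvd g) (Subgroup.index_dvd_of_le hle)

theorem cs_pos [Finite G] (g : G) : 0 < h8_cs g :=
  Nat.pos_of_ne_zero (Subgroup.index_ne_zero_of_finite)

theorem card_centralizer [Finite G] (C : h8_Ctx G μ k A B) (g : G) :
    Nat.card ↥(Subgroup.centralizer ({g} : Set G)) = k * (μ / h8_cs g) := by
  have h1 := Subgroup.card_mul_index (Subgroup.centralizer ({g} : Set G))
  rw [C.card] at h1
  have h2 : μ / h8_cs g * h8_cs g = μ := Nat.div_mul_cancel (C.dvd g)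
  have h3 : Nat.card ↥(Subgroup.centralizer ({g} : Set G)) * h8_cs g
      = k * (μ / h8_cs g) * h8_cs g := by
    rw [mul_assoc, h2]; exact h1
  exact Nat.eq_of_mul_eq_mul_right (cs_pos g) h3

theorem lemmaA (C : h8_Ctx G μ k A B) {g h : G} (hc : Commute g h)
    (hcop : (orderOf g).Coprime (orderOf h)) (hg : g ≠ 1)
    (hB : h8_pin B (μ / h8_cs h)) : h8_pin B (μ / h8_cs g) := by
  have hgh : g * h ≠ 1 := by
    intro h1
    have h2 := hc.orderOf_mul_eq_mul_orderOf_of_coprime hcop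
    rw [h1, orderOf_one] at h2
    have h3 : orderOf g = 1 := Nat.eq_one_of_mul_eq_one_right h2.symm
    exact hg (orderOf_eq_one_iff.mp h3)
  have h1 : μ / h8_cs (g * h) ∣ μ / h8_cs g := C.mono (h8_centralizer_mul_le_left hc hcop)
  have h2 : μ / h8_cs (g * h) ∣ μ / h8_cs h := by
    have := C.mono (h8_centralizer_mul_le_left hc.symm hcop.symm)
    rwa [hc.symm.eq] at this
  rcases C.typ g hg with hA | hB'
  · exact (C.not_both hgh (h8_pin_of_dvd hA h1) (h8_pin_of_dvd hB h2)).elim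
  · exact hB'

theorem lemmaZ [Finite G] (C : h8_Ctx G μ k A B) {p : ℕ} [hp : Fact p.Prime] (P : Sylow p G)
    {z : G} (hzc : ∀ s ∈ P, s * z = z * s) (hpμ : p ∣ μ) : p ∣ μ / h8_cs z := by
  have hle : (P : Subgroup G) ≤ Subgroup.centralizer ({z} : Set G) := by
    intro s hs
    rw [Subgroup.mem_centralizer_singleton_iff]
    exact hzc s hs
  have h1 : h8_cs z ∣ (P : Subgroup G).index := Subgroup.index_dvd_of_le hle
  have h2 : ¬ p ∣ h8_cs z := fun h => P.not_dvd_index (h.trans h1)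
  have h3 : μ / h8_cs z * h8_cs z = μ := Nat.div_mul_cancel (C.dvd z)
  rw [← h3] at hpμ
  rcases (Nat.Prime.dvd_mul hp.out).mp hpμ with h | h
  · exact h
  · exact (h2 h).elim

theorem lemmaT [Finite G] (C : h8_Ctx G μ k A B) {p : ℕ} [hp : Fact p.Prime] {y : G}
    (hy : orderOf y = p) (hyB : h8_pin B (μ / h8_cs y)) (hstar : p ∣ μ → p ∈ A)
    {u : G} (hu : u ∈ Subgroup.centralizer ({y} : Set G)) (hu1 : u ≠ 1)
    (hup : ∃ j : ℕ, orderOf u = p ^ j) : h8_pin B (μ / h8_cs u) := by
  have hy1 : y ≠ 1 := by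
    intro h
    rw [h, orderOf_one] at hy
    exact hp.out.one_lt.ne hy
  obtain ⟨q, hq, hqc⟩ := Nat.exists_prime_and_dvd (C.lt y hy1).ne'
  have hqB : q ∈ B := hyB q hq hqc
  have hqμ : q ∣ μ := hqc.trans (Nat.div_dvd_of_dvd (C.dvd y))
  have hqp : q ≠ p := by
    rintro rfl
    exact C.disj q (hstar hqμ) hqB
  have : Fact q.Prime := ⟨hq⟩
  obtain ⟨w', hw'⟩ := exists_prime_orderOf_dvd_card'
    (G := ↥(Subgroup.centralizer ({y} : Set G))) q
    (by rw [C.card_centralizer y]; exact Dvd.dvd.mul_left hqc k)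
  have hwo : orderOf (w' : G) = q := by rw [Subgroup.orderOf_coe]; exact hw'
  have hwy : Commute y (w' : G) := by
    have := w'.2
    rw [Subgroup.mem_centralizer_singleton_iff] at this
    exact this.symm
  have hcop : (orderOf y).Coprime (orderOf (w' : G)) := by
    rw [hy, hwo]; exact (Nat.coprime_primes hp.out hq).mpr hqp.symm
  have hw1 : (w' : G) ≠ 1 := by
    intro h
    rw [h, orderOf_one] at hwo
    exact hq.one_lt.ne hwo
  have hwB : h8_pin B (μ / h8_cs (w' : G)) := C.lemmaA hwy.symm hcop.symm hw1 hyB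
  have hKX : Subgroup.centralizer ({y * (w' : G)} : Set G) ≤ Subgroup.centralizer ({y} : Set G) :=
    h8_centralizer_mul_le_left hwy hcop
  have hKW : Subgroup.centralizer ({y * (w' : G)} : Set G)
      ≤ Subgroup.centralizer ({(w' : G)} : Set G) := by
    have := h8_centralizer_mul_le_left hwy.symm hcop.symm
    rwa [hwy.symm.eq] at this
  have hrel : (Subgroup.centralizer ({y * (w' : G)} : Set G)).relIndex
      (Subgroup.centralizer ({y} : Set G)) * h8_cs y = h8_cs (y * (w' : G)) :=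
    Subgroup.relIndex_mul_index hKX
  have hr_dvd : (Subgroup.centralizer ({y * (w' : G)} : Set G)).relIndex
      (Subgroup.centralizer ({y} : Set G)) ∣ μ / h8_cs y := by
    have h1 : (Subgroup.centralizer ({y * (w' : G)} : Set G)).relIndex
        (Subgroup.centralizer ({y} : Set G)) * h8_cs y ∣ (μ / h8_cs y) * h8_cs y := by
      rw [hrel, Nat.div_mul_cancel (C.dvd y)]; exact C.dvd (y * (w' : G))
    exact Nat.dvd_of_mul_dvd_mul_right (cs_pos y) h1
  have hpr : ¬ p ∣ (Subgroup.centralizer ({y * (w' : G)} : Set G)).relIndex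
      (Subgroup.centralizer ({y} : Set G)) := by
    intro hpd
    have hpc : p ∣ μ / h8_cs y := hpd.trans hr_dvd
    exact C.disj p (hstar (hpc.trans (Nat.div_dvd_of_dvd (C.dvd y)))) (hyB p hp.out hpc)
  -- fixed point argument
  let u' : ↥(Subgroup.centralizer ({y} : Set G)) := ⟨u, hu⟩
  have hPG : IsPGroup p ↥(Subgroup.zpowers u') := by
    obtain ⟨j, hj⟩ := hup
    apply IsPGroup.of_card (n := j)
    rw [Nat.card_zpowers, Subgroup.orderOf_mk, hj]
  obtain ⟨c, hc⟩ := hPG.nonempty_fixed_point_of_prime_not_dvd_card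
    (↥(Subgroup.centralizer ({y} : Set G)) ⧸
      (Subgroup.centralizer ({y * (w' : G)} : Set G)).subgroupOf (Subgroup.centralizer ({y} : Set G)))
    hpr
  induction c using QuotientGroup.induction_on with
  | H x =>
    have h1 := hc ⟨u', Subgroup.mem_zpowers u'⟩
    have h2 : ((u' * x : ↥(Subgroup.centralizer ({y} : Set G))) : ↥(Subgroup.centralizer ({y} : Set G)) ⧸
      (Subgroup.centralizer ({y * (w' : G)} : Set G)).subgroupOf (Subgroup.centralizer ({y} : Set G)))
        = (x : _) := h1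
    rw [QuotientGroup.eq, Subgroup.mem_subgroupOf] at h2
    -- v = x⁻¹ u x
    have hv : (x : G)⁻¹ * u * ((x : G)⁻¹)⁻¹ ∈ Subgroup.centralizer ({y * (w' : G)} : Set G) := by
      have h3 := Subgroup.inv_mem _ h2
      have h4 : (((u' * x)⁻¹ * x : ↥(Subgroup.centralizer ({y} : Set G))) : G)⁻¹
          = (x : G)⁻¹ * u * ((x : G)⁻¹)⁻¹ := by
        simp only [Subgroup.coe_mul, Subgroup.coe_inv, u']
        group
      rwa [h4] at h3
    have hvw := hKW hv
    rw [Subgroup.mem_centralizer_singleton_iff] at hvw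
    have hvo : orderOf ((x : G)⁻¹ * u * ((x : G)⁻¹)⁻¹) = orderOf u := by
      have := MulEquiv.orderOf_eq (MulAut.conj (x : G)⁻¹) u
      simpa [MulAut.conj_apply] using this
    have hv1 : (x : G)⁻¹ * u * ((x : G)⁻¹)⁻¹ ≠ 1 := by
      intro h
      rw [h, orderOf_one] at hvo
      exact hu1 (orderOf_eq_one_iff.mp hvo.symm)
    obtain ⟨j, hj⟩ := hup
    have hcop2 : (orderOf ((x : G)⁻¹ * u * ((x : G)⁻¹)⁻¹)).Coprime (orderOf (w' : G)) := by
      rw [hvo, hj, hwo]
      exact Nat.Coprime.pow_left _ ((Nat.coprime_primes hp.out hq).mpr hqp.symm)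
    have hfin := C.lemmaA (g := (x : G)⁻¹ * u * ((x : G)⁻¹)⁻¹) (h := (w' : G)) hvw hcop2 hv1 hwB
    rwa [h8_cs_conj] at hfin

theorem lemmaS [Finite G] (C : h8_Ctx G μ k A B) {p : ℕ} [hp : Fact p.Prime] (hpk : p ∣ k)
    (P : Sylow p G) {z : G} (hzP : z ∈ P) (hz1 : z ≠ 1) (hzc : ∀ s ∈ P, s * z = z * s)
    (hzA : h8_pin A (μ / h8_cs z)) {b : ℕ} (hb : b.Prime) (hbB : b ∈ B) (hbμ : b ∣ μ) : False := by
  have hstar : p ∣ μ → p ∈ A := fun h => hzA p hp.out (C.lemmaZ P hzc h)
  have hpb : p ≠ b := by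
    rintro rfl
    exact C.disj _ (hstar hbμ) hbB
  have : Fact b.Prime := ⟨hb⟩
  let Q : Sylow b G := default
  have hbG : b ∣ Nat.card G := by rw [C.card]; exact Dvd.dvd.mul_left hbμ k
  have hQ : (Q : Subgroup G) ≠ ⊥ := Q.ne_bot_of_dvd_card hbG
  have : Nontrivial ↥(Q : Subgroup G) := (Subgroup.nontrivial_iff_ne_bot _).mpr hQ
  have := Q.2.center_nontrivial
  obtain ⟨w', hw'⟩ := exists_ne (1 : Subgroup.center ↥(Q : Subgroup G))
  have hwQ : ((w' : ↥(Q : Subgroup G)) : G) ∈ Q := (w' : ↥(Q : Subgroup G)).2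
  have hwc : ∀ s ∈ Q, s * ((w' : ↥(Q : Subgroup G)) : G) = ((w' : ↥(Q : Subgroup G)) : G) * s := by
    intro s hs
    have := Subgroup.mem_center_iff.mp w'.2 ⟨s, hs⟩
    exact congrArg Subtype.val this
  have hw1 : ((w' : ↥(Q : Subgroup G)) : G) ≠ 1 := by
    intro h
    apply hw'
    ext
    exact h
  have hbw : b ∣ μ / h8_cs ((w' : ↥(Q : Subgroup G)) : G) := C.lemmaZ Q hwc hbμ
  have hwB : h8_pin B (μ / h8_cs ((w' : ↥(Q : Subgroup G)) : G)) := by
    rcases C.typ _ hw1 with h | h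
    · exact (C.disj b (h b hb hbw) hbB).elim
    · exact h
  obtain ⟨y', hy'⟩ := exists_prime_orderOf_dvd_card'
    (G := ↥(Subgroup.centralizer ({((w' : ↥(Q : Subgroup G)) : G)} : Set G))) p
    (by rw [C.card_centralizer]; exact Dvd.dvd.mul_right hpk _)
  have hyo : orderOf (y' : G) = p := by rw [Subgroup.orderOf_coe]; exact hy'
  have hyw : Commute (y' : G) ((w' : ↥(Q : Subgroup G)) : G) := by
    have := y'.2
    rw [Subgroup.mem_centralizer_singleton_iff] at this
    exact this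
  obtain ⟨e, he⟩ : ∃ e : ℕ, orderOf ((w' : ↥(Q : Subgroup G)) : G) = b ^ e := by
    obtain ⟨e, he⟩ := (IsPGroup.iff_orderOf.mp Q.2) (w' : ↥(Q : Subgroup G))
    exact ⟨e, by rw [Subgroup.orderOf_coe]; exact he⟩
  have hcop : (orderOf (y' : G)).Coprime (orderOf ((w' : ↥(Q : Subgroup G)) : G)) := by
    rw [hyo, he]
    exact Nat.Coprime.pow_right _ ((Nat.coprime_primes hp.out hb).mpr hpb)
  have hy1 : (y' : G) ≠ 1 := by
    intro h
    rw [h, orderOf_one] at hyo
    exact hp.out.one_lt.ne hyo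
  have hyB : h8_pin B (μ / h8_cs (y' : G)) := C.lemmaA hyw hcop hy1 hwB
  -- move y into P
  have hyP : IsPGroup p ↥(Subgroup.zpowers (y' : G)) := by
    apply IsPGroup.of_card (n := 1)
    rw [Nat.card_zpowers, hyo, pow_one]
  obtain ⟨P', hP'⟩ := hyP.exists_le_sylow
  obtain ⟨g, hg⟩ := MulAction.exists_smul_eq G P' P
  have hyP' : (y' : G) ∈ P' := hP' (Subgroup.mem_zpowers _)
  have hy0P : g * (y' : G) * g⁻¹ ∈ P := by
    rw [← hg]
    have hy'' : (y' : G) ∈ (P' : Subgroup G) := hyP'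
    have : g * (y' : G) * g⁻¹ ∈ ((g • P' : Sylow p G) : Subgroup G) := by
      rw [Sylow.coe_subgroup_smul, Subgroup.mem_pointwise_smul_iff_inv_smul_mem]
      simp only [MulAut.smul_def, MulAut.inv_apply, MulAut.conj_symm_apply]
      simpa [mul_assoc] using hy''
    exact this
  have hy0o : orderOf (g * (y' : G) * g⁻¹) = p := by
    have := MulEquiv.orderOf_eq (MulAut.conj g) (y' : G)
    rw [MulAut.conj_apply] at this
    rw [this, hyo]
  have hy0B : h8_pin B (μ / h8_cs (g * (y' : G) * g⁻¹)) := by rwa [h8_cs_conj]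
  have hzy0 : z ∈ Subgroup.centralizer ({g * (y' : G) * g⁻¹} : Set G) := by
    rw [Subgroup.mem_centralizer_singleton_iff]
    exact (hzc _ hy0P).symm
  have hzp : ∃ j : ℕ, orderOf z = p ^ j := by
    have := (IsPGroup.iff_orderOf.mp P.2) ⟨z, hzP⟩
    rwa [Subgroup.orderOf_mk] at this
  exact C.not_both hz1 hzA (C.lemmaT hy0o hy0B hstar hzy0 hz1 hzp)

end h8_Ctx

/-- In a group whose prime graph splits along `A`, every nontrivial centralizer has all its
prime divisors on one side. -/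
theorem h8_pin_centralizer {M : Type*} [Group M] [Finite M] (A : Set ℕ)
    (hd : ∀ a ∈ A, ∀ b ∉ A, a.Prime → b.Prime → a ∣ Nat.card M → b ∣ Nat.card M →
      ¬ ∃ x : M, orderOf x = a * b)
    (x : M) (hx : x ≠ 1) :
    h8_pin A (Nat.card ↥(Subgroup.centralizer ({x} : Set M))) ∨
      h8_pin Aᶜ (Nat.card ↥(Subgroup.centralizer ({x} : Set M))) := by
  have hox : orderOf x ≠ 1 := by rwa [Ne, orderOf_eq_one_iff]
  obtain ⟨r, hr, hrx⟩ := Nat.exists_prime_and_dvd hox
  have hyo : orderOf (x ^ (orderOf x / r)) = r :=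
    orderOf_pow_orderOf_div (orderOf_pos x).ne' hrx
  have hrM : r ∣ Nat.card M := hrx.trans (orderOf_dvd_natCard x)
  have key : ∀ q : ℕ, q.Prime → q ∣ Nat.card ↥(Subgroup.centralizer ({x} : Set M)) → q ≠ r →
      ∃ v : M, Commute (x ^ (orderOf x / r)) v ∧ orderOf v = q ∧ q ∣ Nat.card M := by
    intro q hq hqc _
    have : Fact q.Prime := ⟨hq⟩
    obtain ⟨v', hv'⟩ := exists_prime_orderOf_dvd_card'
      (G := ↥(Subgroup.centralizer ({x} : Set M))) q hqc
    refine ⟨(v' : M), ?_, by rw [Subgroup.orderOf_coe]; exact hv', ?_⟩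
    · have := v'.2
      rw [Subgroup.mem_centralizer_singleton_iff] at this
      have hc : Commute (v' : M) x := this
      exact (hc.pow_right _).symm
    · exact hqc.trans (Subgroup.card_subgroup_dvd_card _)
  by_cases hrA : r ∈ A
  · left
    intro q hq hqc
    by_contra hqA
    have hne : q ≠ r := fun h => hqA (h ▸ hrA)
    obtain ⟨v, hcv, hvo, hqM⟩ := key q hq hqc hne
    have h1 := hcv.orderOf_mul_eq_mul_orderOf_of_coprime
      (by rw [hyo, hvo]; exact (Nat.coprime_primes hr hq).mpr hne.symm)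
    rw [hyo, hvo] at h1
    exact hd r hrA q hqA hr hq hrM hqM ⟨_, h1⟩
  · right
    intro q hq hqc
    by_contra hqA
    have hqA' : q ∈ A := by
      by_contra h
      exact hqA h
    have hne : q ≠ r := fun h => hrA (h ▸ hqA')
    obtain ⟨v, hcv, hvo, hqM⟩ := key q hq hqc hne
    have h1 := hcv.symm.orderOf_mul_eq_mul_orderOf_of_coprime
      (by rw [hyo, hvo]; exact (Nat.coprime_primes hq hr).mpr hne)
    rw [hyo, hvo] at h1
    exact hd q hqA' r hrA hq hr hqM hrM ⟨_, h1⟩

theorem h8_cs_one_eq {M : Type*} [Group M] : h8_cs (1 : M) = 1 := by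
  unfold h8_cs
  rw [Subgroup.index_eq_one]
  ext y
  simp [Subgroup.mem_centralizer_singleton_iff]

theorem h8_cs_ne_one {G : Type*} [Group G] (hZ : Subgroup.center G = ⊥) {g : G} (hg : g ≠ 1) :
    h8_cs g ≠ 1 := by
  intro h
  unfold h8_cs at h
  rw [Subgroup.index_eq_one] at h
  apply hg
  have : g ∈ Subgroup.center G := by
    rw [Subgroup.mem_center_iff]
    intro y
    have hy : y ∈ Subgroup.centralizer ({g} : Set G) := by rw [h]; trivial
    rw [Subgroup.mem_centralizer_singleton_iff] at hy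
    exact hy
  rw [hZ] at this
  exact Subgroup.mem_bot.mp this

theorem h8_div_cs_eq_card {M : Type*} [Group M] [Finite M] (x : M) :
    Nat.card M / h8_cs x = Nat.card ↥(Subgroup.centralizer ({x} : Set M)) := by
  have h1 := Subgroup.card_mul_index (Subgroup.centralizer ({x} : Set M))
  exact Nat.div_eq_of_eq_mul_left (h8_Ctx.cs_pos x) h1.symm

/-- **Main theorem**: equal sets of class sizes, trivial centres, and a prime graph of `M`
split along `A` force `|G| = |M|`. -/
theorem h8_card_eq_of_classSizes {G M : Type*} [Group G] [Finite G] [Group M] [Finite M]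
    (hZG : Subgroup.center G = ⊥)
    (h : Set.range (fun g : G => (Subgroup.centralizer ({g} : Set G)).index)
      = Set.range (fun g : M => (Subgroup.centralizer ({g} : Set M)).index))
    (A : Set ℕ) (a : ℕ) (haA : a ∈ A) (ha : a.Prime) (haM : a ∣ Nat.card M)
    (b : ℕ) (hbA : b ∉ A) (hb : b.Prime) (hbM : b ∣ Nat.card M)
    (hd : ∀ a ∈ A, ∀ b ∉ A, a.Prime → b.Prime → a ∣ Nat.card M → b ∣ Nat.card M →
      ¬ ∃ x : M, orderOf x = a * b) :
    Nat.card G = Nat.card M := by
  have toM : ∀ g : G, ∃ x : M, h8_cs x = h8_cs g := by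
    intro g
    have : h8_cs g ∈ Set.range (fun g : M => (Subgroup.centralizer ({g} : Set M)).index) := by
      rw [← h]; exact ⟨g, rfl⟩
    obtain ⟨x, hx⟩ := this
    exact ⟨x, hx⟩
  have toG : ∀ x : M, ∃ g : G, h8_cs g = h8_cs x := by
    intro x
    have : h8_cs x ∈ Set.range (fun g : G => (Subgroup.centralizer ({g} : Set G)).index) := by
      rw [h]; exact ⟨x, rfl⟩
    obtain ⟨g, hg⟩ := this
    exact ⟨g, hg⟩
  -- data for nonidentity elements of G
  have data : ∀ g : G, g ≠ 1 → ∃ x : M, x ≠ 1 ∧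
      Nat.card M / h8_cs g = Nat.card ↥(Subgroup.centralizer ({x} : Set M)) := by
    intro g hg
    obtain ⟨x, hx⟩ := toM g
    refine ⟨x, ?_, ?_⟩
    · rintro rfl
      rw [h8_cs_one_eq] at hx
      exact h8_cs_ne_one hZG hg hx.symm
    · rw [← hx]; exact h8_div_cs_eq_card x
  -- the order of M divides the order of G
  have hμG : Nat.card M ∣ Nat.card G := by
    have : Fact a.Prime := ⟨ha⟩
    have : Fact b.Prime := ⟨hb⟩
    obtain ⟨x₁, hx₁⟩ := exists_prime_orderOf_dvd_card' (G := M) a haM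
    obtain ⟨x₂, hx₂⟩ := exists_prime_orderOf_dvd_card' (G := M) b hbM
    have hx₁1 : x₁ ≠ 1 := by
      rintro rfl
      rw [orderOf_one] at hx₁
      exact ha.one_lt.ne hx₁
    have hx₂1 : x₂ ≠ 1 := by
      rintro rfl
      rw [orderOf_one] at hx₂
      exact hb.one_lt.ne hx₂
    have hac : a ∣ Nat.card ↥(Subgroup.centralizer ({x₁} : Set M)) := by
      rw [← hx₁]
      exact Subgroup.orderOf_dvd_natCard _ (by rw [Subgroup.mem_centralizer_singleton_iff])
    have hbc : b ∣ Nat.card ↥(Subgroup.centralizer ({x₂} : Set M)) := by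
      rw [← hx₂]
      exact Subgroup.orderOf_dvd_natCard _ (by rw [Subgroup.mem_centralizer_singleton_iff])
    have h1 : h8_pin A (Nat.card ↥(Subgroup.centralizer ({x₁} : Set M))) := by
      rcases h8_pin_centralizer A hd x₁ hx₁1 with h | h
      · exact h
      · exact ((h a ha hac) haA).elim
    have h2 : h8_pin Aᶜ (Nat.card ↥(Subgroup.centralizer ({x₂} : Set M))) := by
      rcases h8_pin_centralizer A hd x₂ hx₂1 with h | h
      · exact (hbA (h b hb hbc)).elim
      · exact h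
    have hcop : (Nat.card ↥(Subgroup.centralizer ({x₁} : Set M))).Coprime
        (Nat.card ↥(Subgroup.centralizer ({x₂} : Set M))) :=
      Nat.coprime_of_dvd fun q hq hq1 hq2 => (h2 q hq hq2) (h1 q hq hq1)
    obtain ⟨g₁, hg₁⟩ := toG x₁
    obtain ⟨g₂, hg₂⟩ := toG x₂
    have hn1 : h8_cs x₁ ∣ Nat.card G := by rw [← hg₁]; exact Subgroup.index_dvd_card _
    have hn2 : h8_cs x₂ ∣ Nat.card G := by rw [← hg₂]; exact Subgroup.index_dvd_card _
    have e1 := Subgroup.card_mul_index (Subgroup.centralizer ({x₁} : Set M))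
    have e2 := Subgroup.card_mul_index (Subgroup.centralizer ({x₂} : Set M))
    have d1 : Nat.card M ∣ Nat.card ↥(Subgroup.centralizer ({x₁} : Set M)) * Nat.card G := by
      rw [← e1]; exact Nat.mul_dvd_mul_left _ hn1
    have d2 : Nat.card M ∣ Nat.card ↥(Subgroup.centralizer ({x₂} : Set M)) * Nat.card G := by
      rw [← e2]; exact Nat.mul_dvd_mul_left _ hn2
    have d3 := Nat.dvd_gcd d1 d2
    rw [Nat.gcd_mul_right, hcop.gcd_eq_one, one_mul] at d3
    exact d3
  obtain ⟨k, hk⟩ := hμG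
  -- the context
  have C : h8_Ctx G (Nat.card M) k A Aᶜ := by
    refine ⟨by rw [hk, mul_comm], ?_, ?_, ?_, fun q hA hB => hB hA⟩
    · intro g
      obtain ⟨x, hx⟩ := toM g
      rw [← hx]; exact Subgroup.index_dvd_card _
    · intro g hg
      obtain ⟨x, hx1, hx⟩ := data g hg
      rw [hx, Subgroup.one_lt_card_iff_ne_bot]
      intro hbot
      have : x ∈ Subgroup.centralizer ({x} : Set M) := by
        rw [Subgroup.mem_centralizer_singleton_iff]
      rw [hbot] at this
      exact hx1 (Subgroup.mem_bot.mp this)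
    · intro g hg
      obtain ⟨x, hx1, hx⟩ := data g hg
      rw [hx]
      exact h8_pin_centralizer A hd x hx1
  -- k = 1
  have hk0 : k ≠ 0 := by
    rintro rfl
    rw [mul_zero] at hk
    exact (Nat.card_pos (α := G)).ne' hk
  by_cases hk1 : k = 1
  · rw [hk, hk1, mul_one]
  · exfalso
    obtain ⟨p, hp, hpk⟩ := Nat.exists_prime_and_dvd hk1
    have : Fact p.Prime := ⟨hp⟩
    let P : Sylow p G := default
    have hpG : p ∣ Nat.card G := by rw [hk]; exact Dvd.dvd.mul_left hpk _
    have hP : (P : Subgroup G) ≠ ⊥ := P.ne_bot_of_dvd_card hpG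
    have : Nontrivial ↥(P : Subgroup G) := (Subgroup.nontrivial_iff_ne_bot _).mpr hP
    have := P.2.center_nontrivial
    obtain ⟨z', hz'⟩ := exists_ne (1 : Subgroup.center ↥(P : Subgroup G))
    have hzP : ((z' : ↥(P : Subgroup G)) : G) ∈ P := (z' : ↥(P : Subgroup G)).2
    have hzc : ∀ s ∈ P, s * ((z' : ↥(P : Subgroup G)) : G) = ((z' : ↥(P : Subgroup G)) : G) * s := by
      intro s hs
      have := Subgroup.mem_center_iff.mp z'.2 ⟨s, hs⟩
      exact congrArg Subtype.val this
    have hz1 : ((z' : ↥(P : Subgroup G)) : G) ≠ 1 := by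
      intro h
      apply hz'
      ext
      exact h
    rcases C.typ _ hz1 with hA | hB
    · exact C.lemmaS hpk P hzP hz1 hzc hA hb hbA hbM
    · exact C.symm.lemmaS hpk P hzP hz1 hzc hB ha haA haM

end Cfsg.Agent.Helper8.ClassSizeOrder
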