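import Mathlib
import Cfsg.Prelude.Def_LinearParabolics

set_option autoImplicit false

/-! Combinatorics of the block labelling `Cfsg.compLabel`. -/

namespace Cfsg.Agent.Helper8.CompLab

variable {n : ℕ} (μ : Fin n → ℕ)

/-- `μ` extended by zero to `ℕ`. -/
def ext (a : ℕ) : ℕ := if h : a < n then μ ⟨a, h⟩ else 0

/-- Partial sums. -/
def psum (a : ℕ) : ℕ := ∑ k ∈ Finset.range a, ext μ k

theorem ext_of_lt (a : ℕ) (h : a < n) : ext μ a = μ ⟨a, h⟩ := by
  unfold ext
  rw [dif_pos h]

theorem ext_fin (a : Fin n) : ext μ a.val = μ a := ext_of_lt μ a.val a.2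

theorem psum_zero : psum μ 0 = 0 := by
  unfold psum
  rw [Finset.range_zero, Finset.sum_empty]

theorem psum_succ (a : ℕ) : psum μ (a + 1) = psum μ a + ext μ a := by
  unfold psum
  rw [Finset.sum_range_succ]

theorem psum_mono : Monotone (psum μ) := by
  apply monotone_nat_of_le_succ
  intro a
  rw [psum_succ]
  exact Nat.le_add_right _ _

theorem psum_n : psum μ n = ∑ i, μ i := by
  unfold psum
  rw [← Fin.sum_univ_eq_sum_range (fun k => ext μ k) n]
  apply Finset.sum_congr rfl
  intro i _
  exact ext_fin μ i

/-- The sum in the definition of `compLabel`. -/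
theorem sum_le_eq (j : Fin n) :
    (∑ k ∈ Finset.univ.filter (fun k : Fin n => k ≤ j), μ k) = psum μ (j.val + 1) := by
  rw [Finset.sum_filter]
  have h1 : ∀ k : Fin n, (if k ≤ j then μ k else 0)
      = (fun a : ℕ => if a ≤ j.val then ext μ a else 0) k.val := by
    intro k
    simp only [ext_fin, Fin.le_def]
  rw [Finset.sum_congr rfl (fun k _ => h1 k), Fin.sum_univ_eq_sum_range
    (fun a : ℕ => if a ≤ j.val then ext μ a else 0) n, ← Finset.sum_filter]
  unfold psum
  apply Finset.sum_congr _ (fun _ _ => rfl)
  ext a
  simp only [Finset.mem_filter, Finset.mem_range]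
  have := j.2
  omega

theorem compLabel_eq (i : Fin n) :
    Cfsg.compLabel μ i
      = (Finset.univ.filter (fun j : Fin n => psum μ (j.val + 1) ≤ i.val)).card := by
  unfold Cfsg.compLabel
  congr 1
  ext j
  simp only [Finset.mem_filter, Finset.mem_univ, true_and, sum_le_eq]

/-- The label of a position in the `a`-th block. -/
theorem compLabel_of_mem (i : Fin n) (a : ℕ) (h1 : psum μ a ≤ i.val) (h2 : i.val < psum μ (a + 1)) :
    Cfsg.compLabel μ i = a := by
  have han : a < n := by
    by_contra h
    rw [psum_succ, ext, dif_neg h, add_zero] at h2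
    omega
  rw [compLabel_eq]
  have : Finset.univ.filter (fun j : Fin n => psum μ (j.val + 1) ≤ i.val)
      = Finset.univ.filter (fun j : Fin n => j.val < a) := by
    ext j
    simp only [Finset.mem_filter, Finset.mem_univ, true_and]
    constructor
    · intro h
      by_contra hja
      push Not at hja
      have := psum_mono μ (show a + 1 ≤ j.val + 1 by omega)
      omega
    · intro h
      have := psum_mono μ (show j.val + 1 ≤ a by omega)
      omega
  rw [this]
  have h3 : (Finset.univ.filter (fun j : Fin n => j.val < a)).card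
      = ((Finset.range n).filter (fun j => j < a)).card := by
    rw [Finset.card_filter, Finset.card_filter,
      Fin.sum_univ_eq_sum_range (fun j => if j < a then 1 else 0) n]
  rw [h3]
  have h4 : (Finset.range n).filter (fun j => j < a) = Finset.range a := by
    ext j
    simp only [Finset.mem_filter, Finset.mem_range]
    omega
  rw [h4, Finset.card_range]

/-- Every position lies in a block. -/
theorem exists_block (hμ : ∑ i, μ i = n) (i : Fin n) :
    ∃ a, a < n ∧ psum μ a ≤ i.val ∧ i.val < psum μ (a + 1) := by
  have hex : ∃ a, i.val < psum μ (a + 1) := by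
    refine ⟨n, ?_⟩
    have := psum_mono μ (Nat.le_succ n)
    rw [psum_n, hμ] at this
    exact lt_of_lt_of_le i.2 this
  classical
  let a := Nat.find hex
  have ha : i.val < psum μ (a + 1) := Nat.find_spec hex
  have ha' : psum μ a ≤ i.val := by
    rcases Nat.eq_zero_or_pos a with h0 | hpos
    · rw [h0, psum_zero]
      exact Nat.zero_le _
    · have := Nat.find_min hex (show a - 1 < a by omega)
      rw [show a - 1 + 1 = a by omega] at this
      omega
  refine ⟨a, ?_, ha', ha⟩
  by_contra h
  rw [psum_succ, ext, dif_neg h, add_zero] at ha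
  omega

theorem compLabel_lt (hμ : ∑ i, μ i = n) (i : Fin n) : Cfsg.compLabel μ i < n := by
  obtain ⟨a, han, h1, h2⟩ := exists_block μ hμ i
  rw [compLabel_of_mem μ i a h1 h2]
  exact han

theorem compLabel_spec (hμ : ∑ i, μ i = n) (i : Fin n) :
    psum μ (Cfsg.compLabel μ i) ≤ i.val ∧ i.val < psum μ (Cfsg.compLabel μ i + 1) := by
  obtain ⟨a, _, h1, h2⟩ := exists_block μ hμ i
  rw [compLabel_of_mem μ i a h1 h2]
  exact ⟨h1, h2⟩

theorem compLabel_mono (hμ : ∑ i, μ i = n) : Monotone (Cfsg.compLabel μ) := by
  intro i i' hii'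
  obtain ⟨h1, h2⟩ := compLabel_spec μ hμ i
  obtain ⟨h1', h2'⟩ := compLabel_spec μ hμ i'
  by_contra h
  push Not at h
  have := psum_mono μ (show Cfsg.compLabel μ i' + 1 ≤ Cfsg.compLabel μ i by omega)
  have : i.val ≤ i'.val := hii'
  omega

theorem psum_le (hμ : ∑ i, μ i = n) (a : ℕ) : psum μ a ≤ n := by
  rcases le_total a n with h | h
  · have := psum_mono μ h
    rwa [psum_n, hμ] at this
  · have h1 : ∀ b, n ≤ b → psum μ b = psum μ n := by
      intro b hb
      induction b, hb using Nat.le_induction with
      | base => rfl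
      | succ b hb ih =>
        rw [psum_succ, ih, ext, dif_neg (by omega), add_zero]
    rw [h1 a h, psum_n, hμ]

/-- The end of the block of `j`. -/
theorem card_le_label (hμ : ∑ i, μ i = n) (j : Fin n) :
    (Finset.univ.filter (fun i : Fin n => Cfsg.compLabel μ i ≤ Cfsg.compLabel μ j)).card
      = psum μ (Cfsg.compLabel μ j + 1) := by
  set a := Cfsg.compLabel μ j with ha
  have : Finset.univ.filter (fun i : Fin n => Cfsg.compLabel μ i ≤ a)
      = Finset.univ.filter (fun i : Fin n => i.val < psum μ (a + 1)) := by
    ext i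
    simp only [Finset.mem_filter, Finset.mem_univ, true_and]
    obtain ⟨h1, h2⟩ := compLabel_spec μ hμ i
    constructor
    · intro h
      have := psum_mono μ (show Cfsg.compLabel μ i + 1 ≤ a + 1 by omega)
      omega
    · intro h
      by_contra hh
      push Not at hh
      have := psum_mono μ (show a + 1 ≤ Cfsg.compLabel μ i by omega)
      omega
  rw [this]
  have h3 : (Finset.univ.filter (fun i : Fin n => i.val < psum μ (a + 1))).card
      = ((Finset.range n).filter (fun i => i < psum μ (a + 1))).card := by
    rw [Finset.card_filter, Finset.card_filter,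
      Fin.sum_univ_eq_sum_range (fun i => if i < psum μ (a + 1) then 1 else 0) n]
  rw [h3]
  have h4 : (Finset.range n).filter (fun i => i < psum μ (a + 1))
      = Finset.range (psum μ (a + 1)) := by
    ext i
    simp only [Finset.mem_filter, Finset.mem_range]
    have := psum_le μ hμ (a + 1)
    omega
  rw [h4, Finset.card_range]

end Cfsg.Agent.Helper8.CompLab
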