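import Mathlib
import Cfsg.Agent.Helper8.CompLabel

set_option autoImplicit false

/-! Block decomposition of products over positions. -/

namespace Cfsg.Agent.Helper8.CompLab

variable {n : ℕ} (μ : Fin n → ℕ)

/-- Convert a filtered product over `Fin n` to a product over an interval. -/
theorem prod_fin_filter_Ico {M : Type*} [CommMonoid M] (f : ℕ → M) (s t : ℕ) (ht : t ≤ n) :
    ∏ j ∈ Finset.univ.filter (fun j : Fin n => s ≤ j.val ∧ j.val < t), f j.val
      = ∏ j ∈ Finset.Ico s t, f j := by
  rw [Finset.prod_filter, Fin.prod_univ_eq_prod_range (fun j => if s ≤ j ∧ j < t then f j else 1) n,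
    ← Finset.prod_filter]
  apply Finset.prod_congr _ (fun _ _ => rfl)
  ext j
  simp only [Finset.mem_filter, Finset.mem_range, Finset.mem_Ico]
  omega

/-- Block decomposition. -/
theorem prod_blocks {M : Type*} [CommMonoid M] (hμ : ∑ i, μ i = n) (h : ℕ → ℕ → M) :
    ∏ j : Fin n, h (Cfsg.compLabel μ j) j.val
      = ∏ a ∈ Finset.range n, ∏ j ∈ Finset.Ico (psum μ a) (psum μ (a + 1)), h a j := by
  have key : ∀ a, a ≤ n →
      ∏ j ∈ Finset.univ.filter (fun j : Fin n => j.val < psum μ a), h (Cfsg.compLabel μ j) j.val
        = ∏ a' ∈ Finset.range a, ∏ j ∈ Finset.Ico (psum μ a') (psum μ (a' + 1)), h a' j := by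
    intro a
    induction a with
    | zero =>
      intro _
      rw [psum_zero, Finset.range_zero, Finset.prod_empty]
      apply Finset.prod_eq_one
      intro j hj
      rw [Finset.mem_filter] at hj
      omega
    | succ a ih =>
      intro ha
      rw [Finset.prod_range_succ, ← ih (by omega)]
      have hsplit : Finset.univ.filter (fun j : Fin n => j.val < psum μ (a + 1))
          = Finset.univ.filter (fun j : Fin n => j.val < psum μ a)
            ∪ Finset.univ.filter (fun j : Fin n => psum μ a ≤ j.val ∧ j.val < psum μ (a + 1)) := by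
        ext j
        simp only [Finset.mem_filter, Finset.mem_univ, true_and, Finset.mem_union]
        have := psum_mono μ (show a ≤ a + 1 by omega)
        omega
      have hdisj : Disjoint (Finset.univ.filter (fun j : Fin n => j.val < psum μ a))
          (Finset.univ.filter (fun j : Fin n => psum μ a ≤ j.val ∧ j.val < psum μ (a + 1))) := by
        rw [Finset.disjoint_filter]
        intro j _ h1 h2
        omega
      rw [hsplit, Finset.prod_union hdisj]
      congr 1
      rw [← prod_fin_filter_Ico (h a) (psum μ a) (psum μ (a + 1)) (psum_le μ hμ (a + 1))]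
      apply Finset.prod_congr rfl
      intro j hj
      rw [Finset.mem_filter] at hj
      rw [compLabel_of_mem μ j a hj.2.1 hj.2.2]
  have := key n le_rfl
  rw [← this]
  apply Finset.prod_congr _ (fun _ _ => rfl)
  ext j
  simp only [Finset.mem_filter, Finset.mem_univ, true_and, psum_n, hμ]
  exact iff_of_true trivial j.2

/-- Product over one block. -/
theorem prod_block {M : Type*} [CommMonoid M] (G : ℕ → M) (a : ℕ) :
    ∏ j ∈ Finset.Ico (psum μ a) (psum μ (a + 1)), G (psum μ (a + 1) - j)
      = ∏ t ∈ Finset.range (ext μ a), G (t + 1) := by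
  rw [Finset.prod_Ico_eq_prod_range, psum_succ, Nat.add_sub_cancel_left,
    ← Finset.prod_range_reflect (fun t => G (t + 1)) (ext μ a)]
  apply Finset.prod_congr rfl
  intro t ht
  rw [Finset.mem_range] at ht
  congr 1
  omega

/-- The product over all positions of `G (E j - j)`. -/
theorem prod_positions {M : Type*} [CommMonoid M] (hμ : ∑ i, μ i = n) (G : ℕ → M) :
    ∏ j : Fin n, G (psum μ (Cfsg.compLabel μ j + 1) - j.val)
      = ∏ a : Fin n, ∏ t ∈ Finset.range (μ a), G (t + 1) := by
  rw [prod_blocks μ hμ (fun a j => G (psum μ (a + 1) - j)),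
    ← Fin.prod_univ_eq_prod_range
      (fun a => ∏ j ∈ Finset.Ico (psum μ a) (psum μ (a + 1)), G (psum μ (a + 1) - j)) n]
  apply Finset.prod_congr rfl
  intro a _
  rw [prod_block μ G a.val, ext_fin]

end Cfsg.Agent.Helper8.CompLab
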