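import Mathlib
set_option autoImplicit false

/-!
Hilbert 90 for a finite commutative ring with involution, and a noncommutative consequence.
-/

namespace Cfsg.Agent.Helper8.ConjGU

/-- **Hilbert 90** for a finite commutative ring with involution: if `y * τ y = 1` then
`y = z / τ z` for a unit `z` (here `z = w + τ w * y`). -/
theorem exists_isUnit_add_mul {R : Type*} [CommRing R] [Finite R] (τ : R →+* R)
    (hτ : ∀ r, τ (τ r) = r) (y : R) (hy : y * τ y = 1) (κ : R) (hκ : IsUnit (κ - τ κ)) :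
    ∃ w : R, IsUnit (w + τ w * y) := by
  classical
  let ι := {m : Ideal R // m.IsMaximal}
  have : Finite ι := Finite.of_injective (fun m : ι => ((m.1 : Ideal R) : Set R))
    (fun a b h => Subtype.ext (SetLike.coe_injective h))
  have hsurj : Function.Surjective τ := fun r => ⟨τ r, hτ r⟩
  have hcop : Pairwise (Function.onFun IsCoprime fun m : ι => m.1) := by
    intro a b hab
    have := a.2
    have := b.2
    exact Ideal.isCoprime_of_isMaximal (fun h => hab (Subtype.ext h))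
  let x : ι → R := fun m => if 1 + y ∈ m.1 then κ else 1
  obtain ⟨w, hw⟩ := Ideal.exists_forall_sub_mem_ideal hcop x
  refine ⟨w, ?_⟩
  by_contra hnu
  obtain ⟨m, hm, hzm⟩ := exists_max_ideal_of_mem_nonunits hnu
  have hm' : (Ideal.comap τ m).IsMaximal := Ideal.comap_isMaximal_of_surjective τ hsurj
  have hyy : τ y * y = 1 := by rw [mul_comm]; exact hy
  have hsym : (1 + y ∈ Ideal.comap τ m) ↔ (1 + y ∈ m) := by
    rw [Ideal.mem_comap, map_add, map_one]
    constructor
    · intro h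
      have e : 1 + y = y * (1 + τ y) := by rw [mul_add, hy, mul_one, add_comm]
      rw [e]
      exact Ideal.mul_mem_left _ _ h
    · intro h
      have e : 1 + τ y = τ y * (1 + y) := by rw [mul_add, hyy, mul_one, add_comm]
      rw [e]
      exact Ideal.mul_mem_left _ _ h
  have h1 : w - x ⟨m, hm⟩ ∈ m := hw ⟨m, hm⟩
  have h2 : w - x ⟨Ideal.comap τ m, hm'⟩ ∈ Ideal.comap τ m := hw ⟨Ideal.comap τ m, hm'⟩
  have hx : x ⟨Ideal.comap τ m, hm'⟩ = x ⟨m, hm⟩ := by
    show (if 1 + y ∈ Ideal.comap τ m then κ else 1) = (if 1 + y ∈ m then κ else 1)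
    exact if_congr hsym rfl rfl
  rw [hx] at h2
  have h2' : τ w - τ (x ⟨m, hm⟩) ∈ m := by
    rw [Ideal.mem_comap, map_sub] at h2
    exact h2
  have h3 : x ⟨m, hm⟩ + τ (x ⟨m, hm⟩) * y ∈ m := by
    have e : x ⟨m, hm⟩ + τ (x ⟨m, hm⟩) * y
        = (w + τ w * y) - (w - x ⟨m, hm⟩) - (τ w - τ (x ⟨m, hm⟩)) * y := by ring
    rw [e]
    exact Ideal.sub_mem _ (Ideal.sub_mem _ hzm h1) (Ideal.mul_mem_right _ _ h2')
  by_cases hc : 1 + y ∈ m
  · have hxκ : x ⟨m, hm⟩ = κ := if_pos hc
    rw [hxκ] at h3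
    have h4 : κ - τ κ ∈ m := by
      have e : κ - τ κ = (κ + τ κ * y) - τ κ * (1 + y) := by ring
      rw [e]
      exact Ideal.sub_mem _ h3 (Ideal.mul_mem_left _ _ hc)
    exact hm.ne_top (Ideal.eq_top_of_isUnit_mem _ h4 hκ)
  · have hx1 : x ⟨m, hm⟩ = 1 := if_neg hc
    rw [hx1, map_one, one_mul] at h3
    exact hc h3

/-- the noncommutative consequence: for an anti-automorphism `τ` of a finite ring whose square is
conjugation by `y`, with `τ y = y⁻¹`, there is an invertible `z` in the double centraliser of `y`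
with `τ z * y = z`. -/
theorem exists_twisted_fixed {M : Type*} [Ring M] [Finite M] (τ : M → M)
    (hadd : ∀ a b, τ (a + b) = τ a + τ b) (hmul : ∀ a b, τ (a * b) = τ b * τ a) (hone : τ 1 = 1)
    (y yi : M) (hy1 : y * yi = 1) (hy2 : yi * y = 1) (hτy : τ y = yi)
    (hττ : ∀ z, τ (τ z) = y * z * yi)
    (κ di : M) (hκ : ∀ w, Commute w κ)
    (hd : (κ - τ κ) * di = 1) (hdi : ∀ w, Commute w di) :
    ∃ z zi : M, z * zi = 1 ∧ zi * z = 1 ∧ (∀ w, Commute w y → Commute w z) ∧ τ z * y = z := by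
  have hzero : τ 0 = 0 := by
    have h := hadd 0 0
    rw [add_zero] at h
    exact left_eq_add.mp h
  have hcyi : ∀ w, Commute w y → Commute w yi := by
    intro w hw
    rw [Commute, SemiconjBy]
    calc w * yi = (yi * y) * (w * yi) := by rw [hy2, one_mul]
      _ = yi * (y * w) * yi := by simp only [mul_assoc]
      _ = yi * (w * y) * yi := by rw [hw.eq]
      _ = yi * w * (y * yi) := by simp only [mul_assoc]
      _ = yi * w := by rw [hy1, mul_one]
  have hcy : ∀ w, Commute w yi → Commute w y := by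
    intro w hw
    rw [Commute, SemiconjBy]
    calc w * y = (y * yi) * (w * y) := by rw [hy1, one_mul]
      _ = y * (yi * w) * y := by simp only [mul_assoc]
      _ = y * (w * yi) * y := by rw [hw.eq]
      _ = y * w * (yi * y) := by simp only [mul_assoc]
      _ = y * w := by rw [hy2, mul_one]
  -- `τ` preserves the centraliser of `y`
  have hτC : ∀ w, Commute w y → Commute (τ w) y := by
    intro w hw
    apply hcy
    rw [Commute, SemiconjBy, ← hτy, ← hmul, ← hmul, hw.eq]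
  have hττC : ∀ w, Commute w y → τ (τ w) = w := by
    intro w hw
    rw [hττ, ← hw.eq, mul_assoc, hy1, mul_one]
  let S : Subring M :=
    { carrier := {z | ∀ w, Commute w y → Commute w z}
      mul_mem' := fun {a b} ha hb w hw => (ha w hw).mul_right (hb w hw)
      one_mem' := fun w _ => Commute.one_right w
      add_mem' := fun {a b} ha hb w hw => (ha w hw).add_right (hb w hw)
      zero_mem' := fun w _ => Commute.zero_right w
      neg_mem' := fun {a} ha w hw => (ha w hw).neg_right }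
  have hSmem : ∀ z, z ∈ S ↔ ∀ w, Commute w y → Commute w z := fun z => Iff.rfl
  have hSy : y ∈ S := fun w hw => hw
  have hSCy : ∀ z ∈ S, Commute z y := fun z hz => (hz y (Commute.refl y)).symm
  have hScomm : ∀ a ∈ S, ∀ b ∈ S, a * b = b * a := fun a ha b hb => ((ha b (hSCy b hb)).eq).symm
  have hSτ : ∀ z ∈ S, τ z ∈ S := by
    intro z hz w hw
    have h1 : Commute (τ w) z := hz _ (hτC w hw)
    have h2 := congrArg τ h1.eq
    rw [hmul, hmul, hττC w hw] at h2
    exact h2.symm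
  have hSκ : κ ∈ S := fun w _ => hκ w
  have hSdi : di ∈ S := fun w _ => hdi w
  let _ : CommRing ↥S := { S.toRing with mul_comm := fun a b => Subtype.ext (hScomm a.1 a.2 b.1 b.2) }
  let τS : ↥S →+* ↥S :=
    { toFun := fun z => ⟨τ z.1, hSτ z.1 z.2⟩
      map_one' := Subtype.ext hone
      map_mul' := fun a b => Subtype.ext (by
        show τ (a.1 * b.1) = τ a.1 * τ b.1
        rw [hmul]
        exact hScomm _ (hSτ b.1 b.2) _ (hSτ a.1 a.2))
      map_zero' := Subtype.ext hzero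
      map_add' := fun a b => Subtype.ext (hadd a.1 b.1) }
  have hτS : ∀ r : ↥S, τS (τS r) = r := fun r => Subtype.ext (hττC r.1 (hSCy r.1 r.2))
  have hyS : (⟨y, hSy⟩ : ↥S) * τS ⟨y, hSy⟩ = 1 := Subtype.ext (by
    show y * τ y = 1
    rw [hτy, hy1])
  have hκS : IsUnit ((⟨κ, hSκ⟩ : ↥S) - τS ⟨κ, hSκ⟩) := by
    refine IsUnit.of_mul_eq_one (⟨di, hSdi⟩ : ↥S) (Subtype.ext ?_)
    exact hd
  obtain ⟨w, hw⟩ := exists_isUnit_add_mul τS hτS ⟨y, hSy⟩ hyS ⟨κ, hSκ⟩ hκS
  obtain ⟨u, hu⟩ := hw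
  have e1 : ((u : ↥S) : M) * ((u⁻¹ : (↥S)ˣ) : ↥S).1 = 1 := by
    have := congrArg Subtype.val (u.mul_inv)
    exact this
  have e2 : ((u⁻¹ : (↥S)ˣ) : ↥S).1 * ((u : ↥S) : M) = 1 := by
    have := congrArg Subtype.val (u.inv_mul)
    exact this
  have e3 : ((u : ↥S) : M) = w.1 + τ w.1 * y := by
    rw [hu]
    rfl
  refine ⟨w.1 + τ w.1 * y, ((u⁻¹ : (↥S)ˣ) : ↥S).1, ?_, ?_, ?_, ?_⟩
  · rw [← e3]; exact e1
  · rw [← e3]; exact e2
  · rw [← e3]; exact (u : ↥S).2
  · rw [hadd, hmul, hτy, hττC w.1 (hSCy w.1 w.2), add_mul, mul_assoc, (hSCy w.1 w.2).eq,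
      ← mul_assoc, hy2, one_mul, add_comm]

end Cfsg.Agent.Helper8.ConjGU
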