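import Cfsg.Agent.Helper8.WallE
import Cfsg.Agent.Helper8.ConjGUA
set_option autoImplicit false
set_option linter.unusedSectionVars false

/-!
A matrix preserving a nondegenerate sesquilinear form over the field with `q ^ 2` elements
preserves a nondegenerate Hermitian form, hence is conjugate to a unitary matrix.
-/

namespace Cfsg.Agent.Helper8.ConjGU

open Polynomial Matrix Cfsg Cfsg.Agent.Helper8.GUOrder Cfsg.Agent.Helper8.SUCenter
  Cfsg.Agent.Helper8.AutSU Cfsg.Agent.Helper8.PU3 Cfsg.Agent.Helper8.PSUSing
  Cfsg.Agent.Helper8.RegSU Cfsg.Agent.Helper8.Wall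

variable {K : Type*} [Field K] [Fintype K] {q : ℕ} [hF : Fact (Fintype.card K = q ^ 2)]
variable {ι : Type*} [Fintype ι] [DecidableEq ι]

/-- an invariant nondegenerate sesquilinear form gives an invariant nondegenerate Hermitian form -/
theorem exists_hermitian_of_form (A Ai c ci : Matrix ι ι K) (hA1 : A * Ai = 1) (hc1 : c * ci = 1)
    (hA : st (q := q) A * c * A = c) :
    ∃ h hi : Matrix ι ι K, h * hi = 1 ∧ st (q := q) h = h ∧ st (q := q) A * h * A = h := by
  have hA2 : Ai * A = 1 := mul_eq_one_comm.mp hA1
  have hc2 : ci * c = 1 := mul_eq_one_comm.mp hc1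
  have hsc1 : st (q := q) c * st (q := q) ci = 1 := by rw [← st_mul, hc2, st_one]
  have hsc2 : st (q := q) ci * st (q := q) c = 1 := by rw [← st_mul, hc1, st_one]
  have hsA1 : st (q := q) A * st (q := q) Ai = 1 := by rw [← st_mul, hA2, st_one]
  have hsA2 : st (q := q) Ai * st (q := q) A = 1 := by rw [← st_mul, hA1, st_one]
  set y : Matrix ι ι K := ci * st (q := q) c with hy
  set yi : Matrix ι ι K := st (q := q) ci * c with hyi
  have hy1 : y * yi = 1 := by
    calc y * yi = ci * (st (q := q) c * st (q := q) ci) * c := by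
          rw [hy, hyi]; simp only [Matrix.mul_assoc]
      _ = 1 := by rw [hsc1, Matrix.mul_one, hc2]
  have hy2 : yi * y = 1 := mul_eq_one_comm.mp hy1
  -- `A` commutes with `y`
  have e1 : c * A = st (q := q) Ai * c := by
    calc c * A = (st (q := q) Ai * st (q := q) A) * (c * A) := by rw [hsA2, Matrix.one_mul]
      _ = st (q := q) Ai * (st (q := q) A * c * A) := by simp only [Matrix.mul_assoc]
      _ = st (q := q) Ai * c := by rw [hA]
  have hA' : st (q := q) A * st (q := q) c * A = st (q := q) c := by
    have := congrArg (st (q := q)) hA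
    rw [st_mul, st_mul, st_st] at this
    rw [Matrix.mul_assoc]
    exact this
  have e2 : st (q := q) c * A = st (q := q) Ai * st (q := q) c := by
    calc st (q := q) c * A = (st (q := q) Ai * st (q := q) A) * (st (q := q) c * A) := by
          rw [hsA2, Matrix.one_mul]
      _ = st (q := q) Ai * (st (q := q) A * st (q := q) c * A) := by simp only [Matrix.mul_assoc]
      _ = st (q := q) Ai * st (q := q) c := by rw [hA']
  have e3 : A * ci = ci * st (q := q) Ai := by
    calc A * ci = (ci * c) * (A * ci) := by rw [hc2, Matrix.one_mul]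
      _ = ci * (c * A) * ci := by simp only [Matrix.mul_assoc]
      _ = ci * (st (q := q) Ai * c) * ci := by rw [e1]
      _ = ci * st (q := q) Ai * (c * ci) := by simp only [Matrix.mul_assoc]
      _ = ci * st (q := q) Ai := by rw [hc1, Matrix.mul_one]
  have hAy : Commute A y := by
    rw [Commute, SemiconjBy]
    calc A * y = (A * ci) * st (q := q) c := by rw [hy, Matrix.mul_assoc]
      _ = ci * (st (q := q) Ai * st (q := q) c) := by rw [e3, Matrix.mul_assoc]
      _ = ci * (st (q := q) c * A) := by rw [e2]
      _ = y * A := by rw [hy, Matrix.mul_assoc]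
  -- the twisted anti-involution
  obtain ⟨k, hk⟩ := exists_not_fixed (K := K) hF.out
  have hk' : k - k ^ q ≠ 0 := fun h => hk (sub_eq_zero.mp h).symm
  have hτk : ci * st (q := q) (k • (1 : Matrix ι ι K)) * c = k ^ q • (1 : Matrix ι ι K) := by
    rw [st_smul_one, Matrix.mul_smul, Matrix.mul_one, Matrix.smul_mul, hc2]
  obtain ⟨z, zi, hz1, hz2, hzc, hz⟩ := exists_twisted_fixed
    (M := Matrix ι ι K) (fun z => ci * st (q := q) z * c)
    (fun a b => by
      show ci * st (q := q) (a + b) * c = ci * st (q := q) a * c + ci * st (q := q) b * c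
      rw [st_add, Matrix.mul_add, Matrix.add_mul])
    (fun a b => by
      show ci * st (q := q) (a * b) * c = ci * st (q := q) b * c * (ci * st (q := q) a * c)
      rw [st_mul]
      calc ci * (st (q := q) b * st (q := q) a) * c
          = ci * st (q := q) b * 1 * (st (q := q) a * c) := by
            rw [Matrix.mul_one]; simp only [Matrix.mul_assoc]
        _ = ci * st (q := q) b * c * (ci * st (q := q) a * c) := by
            rw [← hc1]; simp only [Matrix.mul_assoc])
    (by
      show ci * st (q := q) (1 : Matrix ι ι K) * c = 1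
      rw [st_one, Matrix.mul_one, hc2])
    y yi hy1 hy2
    (by
      show ci * st (q := q) y * c = yi
      rw [hy, st_mul, st_st, hyi]
      calc ci * (c * st (q := q) ci) * c = (ci * c) * st (q := q) ci * c := by
            simp only [Matrix.mul_assoc]
        _ = st (q := q) ci * c := by rw [hc2, Matrix.one_mul])
    (fun z => by
      show ci * st (q := q) (ci * st (q := q) z * c) * c = y * z * yi
      rw [st_mul, st_mul, st_st, hy, hyi]
      simp only [Matrix.mul_assoc])
    (k • (1 : Matrix ι ι K)) ((k - k ^ q)⁻¹ • (1 : Matrix ι ι K))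
    (fun w => (Commute.one_right w).smul_right k)
    (by
      show (k • (1 : Matrix ι ι K) - ci * st (q := q) (k • (1 : Matrix ι ι K)) * c) *
        ((k - k ^ q)⁻¹ • (1 : Matrix ι ι K)) = 1
      rw [hτk, ← sub_smul, Matrix.smul_mul, Matrix.one_mul, smul_smul, mul_inv_cancel₀ hk',
        one_smul])
    (fun w => (Commute.one_right w).smul_right _)
  have hz' : ci * st (q := q) z * c * y = z := hz
  have hzA : Commute A z := hzc A hAy
  have hherm : st (q := q) (c * z) = c * z := by
    rw [st_mul]
    have e : ci * st (q := q) z * c * y = ci * (st (q := q) z * st (q := q) c) := by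
      rw [hy]
      calc ci * st (q := q) z * c * (ci * st (q := q) c)
          = ci * st (q := q) z * (c * ci) * st (q := q) c := by simp only [Matrix.mul_assoc]
        _ = ci * (st (q := q) z * st (q := q) c) := by
            rw [hc1, Matrix.mul_one, Matrix.mul_assoc]
    rw [e] at hz'
    calc st (q := q) z * st (q := q) c = (c * ci) * (st (q := q) z * st (q := q) c) := by
          rw [hc1, Matrix.one_mul]
      _ = c * (ci * (st (q := q) z * st (q := q) c)) := by rw [Matrix.mul_assoc]
      _ = c * z := by rw [hz']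
  refine ⟨c * z, zi * ci, ?_, hherm, ?_⟩
  · calc c * z * (zi * ci) = c * (z * zi) * ci := by simp only [Matrix.mul_assoc]
      _ = 1 := by rw [hz1, Matrix.mul_one, hc1]
  · calc st (q := q) A * (c * z) * A = st (q := q) A * c * (z * A) := by
          simp only [Matrix.mul_assoc]
      _ = st (q := q) A * c * (A * z) := by rw [hzA.eq]
      _ = (st (q := q) A * c * A) * z := by simp only [Matrix.mul_assoc]
      _ = c * z := by rw [hA]

/-- a matrix preserving a nondegenerate sesquilinear form is conjugate to a unitary matrix -/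
theorem exists_unitary_conj_of_form (A Ai c ci : Matrix ι ι K) (hA1 : A * Ai = 1)
    (hc1 : c * ci = 1) (hA : st (q := q) A * c * A = c) :
    ∃ P Pi : Matrix ι ι K, P * Pi = 1 ∧
      st (q := q) (P * A * Pi) * (P * A * Pi) = 1 := by
  obtain ⟨p, hp⟩ := CharP.exists K
  have hpp : Fact p.Prime := ⟨CharP.char_is_prime K p⟩
  obtain ⟨h, hi, hh1, hherm, hinv⟩ := exists_hermitian_of_form (q := q) A Ai c ci hA1 hc1 hA
  have hh2 : hi * h = 1 := mul_eq_one_comm.mp hh1
  have hu : IsUnit h := ⟨⟨h, hi, hh1, hh2⟩, rfl⟩
  obtain ⟨P, _, hP⟩ := exists_st_mul_eq_of_isUnit (q := q) p h hherm hu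
  have hPi : (hi * st (q := q) P) * P = 1 := by rw [Matrix.mul_assoc, hP, hh2]
  refine ⟨P, hi * st (q := q) P, mul_eq_one_comm.mp hPi, ?_⟩
  exact unitary_conj P _ A h (mul_eq_one_comm.mp hPi) hP hinv

end Cfsg.Agent.Helper8.ConjGU
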