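import Mathlib

set_option autoImplicit false

namespace Cfsg.Agent.Helper8

/-- A prime dividing the lcm of a multiset of naturals divides one of its members. -/
theorem exists_dvd_of_prime_dvd_lcm (m : Multiset ℕ) (p : ℕ) (hp : p.Prime) (h : p ∣ m.lcm) :
    ∃ a ∈ m, p ∣ a := by
  induction m using Multiset.induction_on with
  | empty =>
    simp only [Multiset.lcm_zero] at h
    exact absurd (Nat.dvd_one.mp h) hp.one_lt.ne'
  | cons a s ih =>
    rw [Multiset.lcm_cons] at h
    have h2 : p ∣ a * s.lcm := dvd_trans h (by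
      simp [lcm_eq_nat_lcm, Nat.lcm_dvd_mul a s.lcm])
    rcases (Nat.Prime.dvd_mul hp).mp h2 with h3 | h3
    · exact ⟨a, Multiset.mem_cons_self a s, h3⟩
    · obtain ⟨b, hb, hpb⟩ := ih h3
      exact ⟨b, Multiset.mem_cons_of_mem hb, hpb⟩

/-- Two distinct values in a multiset of naturals: the sum is at least their sum. -/
theorem add_le_sum_of_mem_of_ne (m : Multiset ℕ) (a b : ℕ) (ha : a ∈ m) (hb : b ∈ m) (hab : a ≠ b) :
    a + b ≤ m.sum := by
  obtain ⟨m', rfl⟩ := Multiset.exists_cons_of_mem ha
  have hb' : b ∈ m' := by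
    rcases Multiset.mem_cons.mp hb with h | h
    · exact absurd h.symm hab
    · exact h
  obtain ⟨m'', rfl⟩ := Multiset.exists_cons_of_mem hb'
  simp only [Multiset.sum_cons]
  omega

/-- The sign product over a cycle type is `(-1)^(number of even entries)`. -/
theorem prod_sign_eq_pow_card_even (m : Multiset ℕ) :
    (m.map fun n => -(-1 : ℤˣ) ^ n).prod = (-1 : ℤˣ) ^ (Multiset.card (m.filter (fun n => Even n))) := by
  induction m using Multiset.induction_on with
  | empty => simp
  | cons a s ih =>
    rw [Multiset.map_cons, Multiset.prod_cons, ih]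
    by_cases hea : Even a
    · rw [Multiset.filter_cons_of_pos _ hea, Multiset.card_cons, pow_succ, hea.neg_one_pow]
      simp
    · rw [Multiset.filter_cons_of_neg _ hea]
      have : Odd a := Nat.not_even_iff_odd.mp hea
      rw [this.neg_one_pow]
      simp

end Cfsg.Agent.Helper8
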