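import Mathlib
import Cfsg.Agent.Helper7.D4OK

set_option autoImplicit false
set_option linter.unusedSectionVars false
set_option linter.unusedVariables false
set_option linter.style.haveILetI false

/-!
# Normality of the inner-diagonal group of `PΩ⁺₈(q)`, part A: the isomorphism `D₄(q) ≅ PΩ⁺₈(q)`
with its values on the root elements
-/

namespace Cfsg.Agent.Helper8.D4Nrm

open Cfsg Cfsg.Lie Matrix Cfsg.Agent.Helper7.D4O

/-- A simple group which is the quotient of `S` by its centre is the quotient by the centre of every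
non-commutative homomorphic image of `S`, compatibly with the two projections. -/
theorem exists_equiv_quot_center_spec {S A Γ : Type*} [Group S] [Group A] [Group Γ]
    [IsSimpleGroup A]
    (ψ : S →* A) (hψ : Function.Surjective ψ) (hker : ψ.ker = Subgroup.center S)
    (φ : S →* Γ) (hφ : Function.Surjective φ) (hna : ∃ x y : Γ, x * y ≠ y * x) :
    ∃ e : A ≃* Γ ⧸ Subgroup.center Γ, ∀ s : S, e (ψ s) = QuotientGroup.mk (φ s) := by
  obtain ⟨φb, hφb⟩ : ∃ φb : S →* Γ ⧸ Subgroup.center Γ,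
      φb = (QuotientGroup.mk' (Subgroup.center Γ)).comp φ := ⟨_, rfl⟩
  have hle : ψ.ker ≤ φb.ker := by
    rw [hker]
    intro z hz
    rw [MonoidHom.mem_ker, hφb, MonoidHom.comp_apply, QuotientGroup.mk'_apply,
      QuotientGroup.eq_one_iff, Subgroup.mem_center_iff]
    intro g
    obtain ⟨s, rfl⟩ := hφ g
    rw [← map_mul, ← map_mul, Subgroup.mem_center_iff.mp hz s]
  obtain ⟨θ, hθ_def⟩ : ∃ θ : A →* Γ ⧸ Subgroup.center Γ,
      θ = ψ.liftOfSurjective hψ ⟨φb, hle⟩ := ⟨_, rfl⟩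
  have hθ : ∀ s, θ (ψ s) = φb s := by
    intro s
    rw [hθ_def]
    exact MonoidHom.liftOfRightInverse_comp_apply ψ _ (Function.rightInverse_surjInv hψ)
      ⟨φb, hle⟩ s
  have hsurj : Function.Surjective θ := by
    intro y
    obtain ⟨γ, rfl⟩ := QuotientGroup.mk_surjective y
    obtain ⟨s, rfl⟩ := hφ γ
    exact ⟨ψ s, by rw [hθ, hφb]; rfl⟩
  have hinj : Function.Injective θ := by
    rw [← MonoidHom.ker_eq_bot_iff]
    rcases θ.normal_ker.eq_bot_or_eq_top with h | h
    · exact h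
    · exfalso
      obtain ⟨x, y, hxy⟩ := hna
      apply hxy
      obtain ⟨s, rfl⟩ := hφ x
      have h1 : θ (ψ s) = 1 := by
        have : ψ s ∈ θ.ker := by rw [h]; exact Subgroup.mem_top _
        exact this
      rw [hθ, hφb, MonoidHom.comp_apply, QuotientGroup.mk'_apply, QuotientGroup.eq_one_iff,
        Subgroup.mem_center_iff] at h1
      exact (h1 y).symm
  refine ⟨MulEquiv.ofBijective θ ⟨hinj, hsurj⟩, ?_⟩
  intro s
  show θ (ψ s) = _
  rw [hθ, hφb]
  rfl

variable {F : Type*} [Field F]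

theorem omegaIncl8_symm (y : ↥(EO 4 F)) :
    omegaIncl8 ((omegaEquivEO (F := F)).symm y) = (y : GL (Idx 4) F) := by
  have h1 : ∀ ω : ↥(Omega F (quadFormPlus 4 F)),
      ((omegaEquivEO (F := F) ω : ↥(EO 4 F)) : GL (Idx 4) F) = omegaIncl8 ω := fun ω => rfl
  rw [← h1, MulEquiv.apply_symm_apply]

theorem stGen_eq_of {r : ℕ} (hr : r < 24) (t : F) :
    chevD4.stGen F r t = PresentedGroup.of ((⟨r, hr⟩ : Fin chevD4.nroots), t) := by
  unfold ChevalleyDatum.stGen ChevalleyDatum.stX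
  rw [dif_pos (show r < chevD4.nroots from hr)]
  rfl

theorem stToEO_stGen {r : ℕ} (hr : r < 24) (t : F) :
    ((stToEO (F := F) (chevD4.stGen F r t) : ↥(EO 4 F)) : GL (Idx 4) F) = TG (rI r) (rJ r) t := by
  have h1 : ((stToEO (F := F) (chevD4.stGen F r t) : ↥(EO 4 F)) : GL (Idx 4) F)
      = stToGL (chevD4.stGen F r t) := rfl
  rw [h1, stGen_eq_of hr, stToGL_of, yG_eq_TG hr]

/-- **the isomorphism `D₄(F) ≅ PΩ⁺₈(F)`, with its values on the root elements.** -/
theorem exists_d4_equiv_spec (F : Type*) [Field F] :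
    ∃ (θ : chevD4.SteinbergGroup F →* ↥(chevD4.group F))
      (e : ↥(chevD4.group F) ≃* POmega F (quadFormPlus 4 F)),
      Function.Surjective θ ∧
      (∀ (r : ℕ) (t : F), r < 24 →
        ((θ (chevD4.stGen F r t) : GL chevD4.Idx F) : Matrix chevD4.Idx chevD4.Idx F)
          = chevD4.x F r t) ∧
      ∀ (r : ℕ) (t : F), r < 24 → ∃ ω : ↥(Omega F (quadFormPlus 4 F)),
        omegaIncl8 ω = TG (rI r) (rJ r) t ∧
        e (θ (chevD4.stGen F r t)) = QuotientGroup.mk ω := by
  obtain ⟨θ, hθs, hθk, hθx⟩ := Cfsg.Agent.S1077.result (K := F) chevD4 (by simp)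
  have : IsSimpleGroup ↥(chevD4.group F) := (Cfsg.Agent.S1054.result (F := F) chevD4 (by simp)).1
  obtain ⟨e, he⟩ := exists_equiv_quot_center_spec θ hθs hθk (stToEO (F := F))
    stToEO_surjective EO_not_comm
  refine ⟨θ, e.trans (Cfsg.Agent.Helper7.B2O.quotCenterCongr (omegaEquivEO (F := F)).symm), hθs,
    fun r t hr => hθx r t hr, ?_⟩
  intro r t hr
  refine ⟨(omegaEquivEO (F := F)).symm (stToEO (chevD4.stGen F r t)), ?_, ?_⟩
  · rw [omegaIncl8_symm, stToEO_stGen hr]
  · rw [MulEquiv.trans_apply, he]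
    rfl


/-- the same, for a form given as a function. -/
theorem exists_d4_equiv_spec' (F : Type*) [Field F] (Qf : (Idx 4 → F) → F)
    (hQf : Qf = quadFormPlus 4 F) :
    ∃ (θ : chevD4.SteinbergGroup F →* ↥(chevD4.group F))
      (e : ↥(chevD4.group F) ≃* POmega F Qf),
      Function.Surjective θ ∧
      (∀ (r : ℕ) (t : F), r < 24 →
        ((θ (chevD4.stGen F r t) : GL chevD4.Idx F) : Matrix chevD4.Idx chevD4.Idx F)
          = chevD4.x F r t) ∧
      ∀ (r : ℕ) (t : F), r < 24 → ∃ ω : ↥(Omega F Qf),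
        ((ω : ↥(isometryGroup F Qf)) : GL (Idx 4) F) = TG (rI r) (rJ r) t ∧
        e (θ (chevD4.stGen F r t)) = QuotientGroup.mk ω := by
  subst hQf
  exact exists_d4_equiv_spec F

end Cfsg.Agent.Helper8.D4Nrm
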