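import Mathlib
import Cfsg.Agent.Helper8.D4NrmA

set_option autoImplicit false
set_option linter.unusedSectionVars false
set_option linter.unusedVariables false
set_option linter.style.haveILetI false

/-!
# Normality of the inner-diagonal group of `PΩ⁺₈(q)`, part B: conjugation of the root elements by
diagonal matrices
-/

namespace Cfsg.Agent.Helper8.D4Nrm

open Cfsg Cfsg.Lie Matrix Cfsg.Agent.Helper7.D4O

variable {F : Type*} [Field F] {n : ℕ}

theorem diag_mul_T (δ : Idx n → F) (i j : Idx n) (c t : F) (h1 : c * δ (bar j) = δ i)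
    (h2 : c * δ (bar i) = δ j) :
    Matrix.diagonal δ * T i j t = T i j (c * t) * Matrix.diagonal δ := by
  ext x y
  rw [Matrix.diagonal_mul, Matrix.mul_diagonal]
  unfold T M
  simp only [Matrix.add_apply, Matrix.smul_apply, Matrix.sub_apply, E_apply, Matrix.one_apply,
    smul_eq_mul]
  have e1 : δ x * (if x = y then (1 : F) else 0) = (if x = y then (1 : F) else 0) * δ y := by
    by_cases h : x = y
    · rw [if_pos h, h, mul_one, one_mul]
    · rw [if_neg h, mul_zero, zero_mul]
  have e2 : δ x * (if x = i ∧ y = bar j then (1 : F) else 0)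
      = c * (if x = i ∧ y = bar j then (1 : F) else 0) * δ y := by
    by_cases h : x = i ∧ y = bar j
    · rw [if_pos h, h.1, h.2, mul_one, mul_one, h1]
    · rw [if_neg h, mul_zero, mul_zero, zero_mul]
  have e3 : δ x * (if x = j ∧ y = bar i then (1 : F) else 0)
      = c * (if x = j ∧ y = bar i then (1 : F) else 0) * δ y := by
    by_cases h : x = j ∧ y = bar i
    · rw [if_pos h, h.1, h.2, mul_one, mul_one, h2]
    · rw [if_neg h, mul_zero, mul_zero, zero_mul]
  linear_combination e1 + t * e2 - t * e3

/-- conjugation of a root element by a diagonal matrix. -/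
theorem conj_TG (d : GL (Idx n) F) (δ : Idx n → F)
    (hd : (d : Matrix (Idx n) (Idx n) F) = Matrix.diagonal δ) {i j : Idx n} (hij : i ≠ bar j)
    (c t : F) (h1 : c * δ (bar j) = δ i) (h2 : c * δ (bar i) = δ j) :
    d * TG i j t * d⁻¹ = TG i j (c * t) := by
  rw [mul_inv_eq_iff_eq_mul]
  apply Units.ext
  rw [Units.val_mul, Units.val_mul, TG_coe hij, TG_coe hij, hd]
  exact diag_mul_T δ i j c t h1 h2

end Cfsg.Agent.Helper8.D4Nrm
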