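import Mathlib
import Cfsg.Agent.Helper8.D4NrmB
import Cfsg.Agent.Helper8.AutOQl

set_option autoImplicit false
set_option linter.unusedSectionVars false
set_option linter.unusedVariables false
set_option linter.style.haveILetI false

/-!
# Normality of the inner-diagonal group of `PΩ⁺₈(q)`, part C: the diagonal similarity attached to a
character of the root lattice
-/

namespace Cfsg.Agent.Helper8.D4Nrm

open Cfsg Cfsg.Lie Matrix Cfsg.Agent.Helper7.D4O Cfsg.Agent.Helper8.AutO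
  Cfsg.Agent.Helper8.StdForms

variable {F : Type*} [Field F]

/-- the entries `a₀, …, a₃`. -/
def chA (χ : ℕ → Fˣ) : Fin 4 → Fˣ := ![χ 18 * χ 14 * χ 13, χ 14 * χ 13, χ 13, 1]

/-- the multiplier. -/
def chMu (χ : ℕ → Fˣ) : Fˣ := χ 13 * (χ 12)⁻¹

/-- the entries `μ / aᵢ`. -/
def chB (χ : ℕ → Fˣ) : Fin 4 → Fˣ := fun i => chMu χ * (chA χ i)⁻¹

theorem chA_mul_chB (χ : ℕ → Fˣ) (i : Fin 4) : chA χ i * chB χ i = chMu χ := by
  unfold chB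
  rw [mul_comm (chMu χ), ← mul_assoc, mul_inv_cancel, one_mul]

/-- the diagonal entries. -/
def chDelta (χ : ℕ → Fˣ) : Idx 4 → F :=
  Sum.elim (fun i => (chA χ i : F)) (fun i => (chB χ i : F))

theorem diagGL_ch_val (χ : ℕ → Fˣ) :
    ((diagGL (chA χ) (chB χ) : GL (Idx 4) F) : Matrix (Idx 4) (Idx 4) F)
      = Matrix.diagonal (chDelta χ) := diagGL_val _ _

theorem rIJ_vals : rI 18 = Sum.inl 0 ∧ rJ 18 = Sum.inr 1 ∧ rI 14 = Sum.inl 1 ∧ rJ 14 = Sum.inr 2 ∧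
    rI 13 = Sum.inl 2 ∧ rJ 13 = Sum.inr 3 ∧ rI 12 = Sum.inl 2 ∧ rJ 12 = Sum.inl 3 ∧
    rI 5 = Sum.inl 1 ∧ rJ 5 = Sum.inr 0 ∧ rI 9 = Sum.inl 2 ∧ rJ 9 = Sum.inr 1 ∧
    rI 10 = Sum.inl 3 ∧ rJ 10 = Sum.inr 2 ∧ rI 11 = Sum.inr 3 ∧ rJ 11 = Sum.inr 2 := by
  decide


theorem chDelta_inl (χ : ℕ → Fˣ) (i : Fin 4) : chDelta χ (Sum.inl i) = (chA χ i : F) := rfl

theorem chDelta_inr (χ : ℕ → Fˣ) (i : Fin 4) :
    chDelta χ (Sum.inr i) = (χ 13 : F) * (χ 12 : F)⁻¹ * (chA χ i : F)⁻¹ := by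
  show ((chMu χ * (chA χ i)⁻¹ : Fˣ) : F) = _
  unfold chMu
  rw [Units.val_mul, Units.val_mul, Units.val_inv_eq_inv_val, Units.val_inv_eq_inv_val]

theorem chA_zero (χ : ℕ → Fˣ) : (chA χ 0 : F) = (χ 18 : F) * (χ 14 : F) * (χ 13 : F) := by
  show ((χ 18 * χ 14 * χ 13 : Fˣ) : F) = _
  rw [Units.val_mul, Units.val_mul]

theorem chA_one (χ : ℕ → Fˣ) : (chA χ 1 : F) = (χ 14 : F) * (χ 13 : F) := by
  show ((χ 14 * χ 13 : Fˣ) : F) = _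
  rw [Units.val_mul]

theorem chA_two (χ : ℕ → Fˣ) : (chA χ 2 : F) = (χ 13 : F) := rfl

theorem chA_three (χ : ℕ → Fˣ) : (chA χ 3 : F) = 1 := rfl

/-- the conjugation of the root elements of the fundamental roots and of their negatives by the
diagonal matrix of a character. -/
theorem conj_diag_TG (χ : ℕ → Fˣ) (t : F) :
    (diagGL (chA χ) (chB χ) * TG (rI 18) (rJ 18) t * (diagGL (chA χ) (chB χ))⁻¹
      = TG (rI 18) (rJ 18) ((χ 18 : F) * t)) ∧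
    (diagGL (chA χ) (chB χ) * TG (rI 14) (rJ 14) t * (diagGL (chA χ) (chB χ))⁻¹
      = TG (rI 14) (rJ 14) ((χ 14 : F) * t)) ∧
    (diagGL (chA χ) (chB χ) * TG (rI 13) (rJ 13) t * (diagGL (chA χ) (chB χ))⁻¹
      = TG (rI 13) (rJ 13) ((χ 13 : F) * t)) ∧
    (diagGL (chA χ) (chB χ) * TG (rI 12) (rJ 12) t * (diagGL (chA χ) (chB χ))⁻¹
      = TG (rI 12) (rJ 12) ((χ 12 : F) * t)) ∧
    (diagGL (chA χ) (chB χ) * TG (rI 5) (rJ 5) t * (diagGL (chA χ) (chB χ))⁻¹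
      = TG (rI 5) (rJ 5) ((χ 18 : F)⁻¹ * t)) ∧
    (diagGL (chA χ) (chB χ) * TG (rI 9) (rJ 9) t * (diagGL (chA χ) (chB χ))⁻¹
      = TG (rI 9) (rJ 9) ((χ 14 : F)⁻¹ * t)) ∧
    (diagGL (chA χ) (chB χ) * TG (rI 10) (rJ 10) t * (diagGL (chA χ) (chB χ))⁻¹
      = TG (rI 10) (rJ 10) ((χ 13 : F)⁻¹ * t)) ∧
    (diagGL (chA χ) (chB χ) * TG (rI 11) (rJ 11) t * (diagGL (chA χ) (chB χ))⁻¹
      = TG (rI 11) (rJ 11) ((χ 12 : F)⁻¹ * t)) := by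
  obtain ⟨e1, e2, e3, e4, e5, e6, e7, e8, e9, e10, e11, e12, e13, e14, e15, e16⟩ := rIJ_vals
  have h18 : (χ 18 : F) ≠ 0 := Units.ne_zero _
  have h14 : (χ 14 : F) ≠ 0 := Units.ne_zero _
  have h13 : (χ 13 : F) ≠ 0 := Units.ne_zero _
  have h12 : (χ 12 : F) ≠ 0 := Units.ne_zero _
  rw [e1, e2, e3, e4, e5, e6, e7, e8, e9, e10, e11, e12, e13, e14, e15, e16]
  refine ⟨?_, ?_, ?_, ?_, ?_, ?_, ?_, ?_⟩ <;>
    refine conj_TG _ (chDelta χ) (diagGL_ch_val χ) (by decide) _ t ?_ ?_ <;>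
    simp only [bar_inl, bar_inr, chDelta_inl, chDelta_inr, chA_zero, chA_one, chA_two,
      chA_three] <;>
    field_simp

end Cfsg.Agent.Helper8.D4Nrm
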