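import Mathlib
import Cfsg.Agent.Helper7.ChevOutK
import Cfsg.Agent.Helper7.ChevGraphRoot2

set_option autoImplicit false
set_option linter.unusedSectionVars false
set_option linter.unusedVariables false
set_option linter.style.haveILetI false

/-!
# The outer automorphism group of `D₄(q)`, part A: the graph automorphisms as a group
-/

namespace Cfsg.Agent.Helper8.D4Out

open Cfsg Cfsg.Lie Matrix Cfsg.Agent.Helper7.Chev

variable {F : Type*} [Field F]

/-- `θ` permutes the root elements of the fundamental roots and of their negatives as `ρ` does, without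
scalars. -/
def GrAct (θ : ↥(chevD4.group F) ≃* ↥(chevD4.group F)) (ρ : ℕ → ℕ) : Prop :=
  ∀ (i : ℕ) (hi : i < chevD4.rank), ∃ hj : ρ i < chevD4.rank,
    (∀ t : F, θ (phiG good2_D4 (good1_D4.simple_lt hi) (upperSL t)) =
      phiG good2_D4 (good1_D4.simple_lt hj) (upperSL t)) ∧
    (∀ t : F, θ (phiG good2_D4 (good1_D4.simple_lt hi) (lowerSL t)) =
      phiG good2_D4 (good1_D4.simple_lt hj) (lowerSL t))

theorem GrAct.congr {θ : ↥(chevD4.group F) ≃* ↥(chevD4.group F)} {ρ ρ' : ℕ → ℕ} (h : GrAct θ ρ)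
    (hρ : ∀ i, i < chevD4.rank → ρ i = ρ' i) : GrAct θ ρ' := by
  intro i hi
  obtain ⟨hj, hu, hl⟩ := h i hi
  have key : ∀ (a b : ℕ) (e : a = b) (ha : a < chevD4.rank),
      (∀ t : F, θ (phiG good2_D4 (good1_D4.simple_lt hi) (upperSL t)) =
        phiG good2_D4 (good1_D4.simple_lt ha) (upperSL t)) →
      (∀ t : F, θ (phiG good2_D4 (good1_D4.simple_lt hi) (lowerSL t)) =
        phiG good2_D4 (good1_D4.simple_lt ha) (lowerSL t)) →
      ∃ hb : b < chevD4.rank,
        (∀ t : F, θ (phiG good2_D4 (good1_D4.simple_lt hi) (upperSL t)) =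
          phiG good2_D4 (good1_D4.simple_lt hb) (upperSL t)) ∧
        (∀ t : F, θ (phiG good2_D4 (good1_D4.simple_lt hi) (lowerSL t)) =
          phiG good2_D4 (good1_D4.simple_lt hb) (lowerSL t)) := by
    intro a b e ha h1 h2
    subst e
    exact ⟨ha, h1, h2⟩
  exact key _ _ (hρ i hi) hj hu hl

theorem GrAct.one : GrAct (1 : MulAut ↥(chevD4.group F)) (fun i => i) := by
  intro i hi
  exact ⟨hi, fun t => rfl, fun t => rfl⟩

theorem GrAct.mul {θ θ' : MulAut ↥(chevD4.group F)} {ρ ρ' : ℕ → ℕ} (h : GrAct θ ρ)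
    (h' : GrAct θ' ρ') : GrAct (θ * θ') (fun i => ρ (ρ' i)) := by
  intro i hi
  obtain ⟨hj, hu, hl⟩ := h' i hi
  obtain ⟨hk, hu', hl'⟩ := h (ρ' i) hj
  refine ⟨hk, fun t => ?_, fun t => ?_⟩
  · rw [MulAut.mul_apply, hu, hu']
  · rw [MulAut.mul_apply, hl, hl']

/-- the element is determined by its action on the fundamental root elements. -/
theorem GrAct.unique {θ θ' : MulAut ↥(chevD4.group F)} {ρ : ℕ → ℕ} (h : GrAct θ ρ)
    (h' : GrAct θ' ρ) : θ = θ' := by
  apply mulEquiv_ext_simpleGen good2_D4 T0_D4 T9_D4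
  rintro g ⟨i, t, hi, hg | hg⟩
  · obtain ⟨hj, hu, -⟩ := h i hi
    obtain ⟨hj', hu', -⟩ := h' i hi
    have hg' : g = phiG good2_D4 (good1_D4.simple_lt hi) (upperSL t) :=
      eq_phiG_upper good2_D4 (good1_D4.simple_lt hi) hg
    rw [hg', hu, hu']
  · obtain ⟨hj, -, hl⟩ := h i hi
    obtain ⟨hj', -, hl'⟩ := h' i hi
    have hg' : g = phiG good2_D4 (good1_D4.simple_lt hi) (lowerSL t) :=
      eq_phiG_lower good2_D4 (good1_D4.simple_lt hi) hg
    rw [hg', hl, hl']

/-- the tabulated graph automorphisms act without scalars on the fundamental root elements. -/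
theorem grAct_graphAut {ρ ρ' σ σ' : ℕ → ℕ} {ε : ℕ → ℤ} (hT18 : T18 chevD4 ρ ρ' σ σ' ε) :
    GrAct (graphAut (F := F) good1_D4 hT18) ρ := by
  intro i hi
  have hj := (hT18.rho i hi).1
  have hs := good1_D4.simple_lt hi
  refine ⟨hj, fun t => ?_, fun t => ?_⟩
  · apply eq_phiG_upper
    exact (graphAut_simple good1_D4 hT18 _ i hi t).1 (phiG_upper_mat good2_D4 hs t)
  · apply eq_phiG_lower
    exact (graphAut_simple good1_D4 hT18 _ i hi t).2 (phiG_lower_mat good2_D4 hs t)

/-- an automorphism acting as `ρ` on the fundamental root elements maps the root subgroups accordingly. -/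
theorem GrAct.mapsOnto {θ : MulAut ↥(chevD4.group F)} {ρ : ℕ → ℕ} (h : GrAct θ ρ) {i : ℕ}
    (hi : i < chevD4.rank) :
    MapsOnto θ (chevD4.rootSubgroup F (chevD4.simple i))
      (chevD4.rootSubgroup F (chevD4.simple (ρ i))) := by
  have hG1 := good1_D4
  obtain ⟨hj, hu, -⟩ := h i hi
  have hp := hG1.simple_lt hi
  have hq := hG1.simple_lt hj
  intro x
  constructor
  · intro hx
    obtain ⟨t, ht⟩ := mem_rootSubgroup hG1 hp hx
    have hx' : x = phiG good2_D4 hp (upperSL t) := Subtype.ext ht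
    rw [hx', hu, phiG_upper]
    exact xGL_mem_rootSubgroup good2_D4 hq _
  · intro hx
    obtain ⟨u, hu'⟩ := mem_rootSubgroup hG1 hq hx
    have hx' : θ x = θ (phiG good2_D4 hp (upperSL u)) := by
      rw [hu]
      exact Subtype.ext hu'
    rw [θ.injective hx', phiG_upper]
    exact xGL_mem_rootSubgroup good2_D4 hp _

end Cfsg.Agent.Helper8.D4Out
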