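import Mathlib
import Cfsg.Agent.Helper8.D4OutA

set_option autoImplicit false
set_option linter.unusedSectionVars false
set_option linter.unusedVariables false
set_option linter.style.haveILetI false

/-!
# The outer automorphism group of `D₄(q)`, part B: graph and field automorphisms modulo the
inner-diagonal ones
-/

namespace Cfsg.Agent.Helper8.D4Out

open Cfsg Cfsg.Lie Matrix Cfsg.Agent.Helper7.Chev

variable {F : Type*} [Field F]

/-- the outer nodes of the diagram. -/
def outer : Fin 3 → ℕ := ![0, 2, 3]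

/-- the permutation of the nodes attached to a permutation of the three outer nodes. -/
def nodePerm (π : Equiv.Perm (Fin 3)) : ℕ → ℕ := fun i =>
  if i = 0 then outer (π 0) else if i = 2 then outer (π 1) else if i = 3 then outer (π 2) else i

theorem exists_d4perm_eq : ∀ π : Equiv.Perm (Fin 3), ∃ k : Fin 6,
    ∀ i : Fin 4, d4perm k i = nodePerm π i := by
  decide

theorem exists_nodePerm_eq : ∀ k : Fin 6, ∃ π : Equiv.Perm (Fin 3),
    ∀ i : Fin 4, d4perm k i = nodePerm π i := by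
  decide

theorem nodePerm_mul' : ∀ π π' : Equiv.Perm (Fin 3), ∀ i : Fin 4,
    nodePerm (π * π') i = nodePerm π (nodePerm π' i) := by
  decide

theorem nodePerm_inj' : ∀ π : Equiv.Perm (Fin 3), (∀ i : Fin 4, nodePerm π i = i) → π = 1 := by
  decide

theorem hD4 : chevD4 ∈ [chevG2, chevB2, chevD4, chevF4, chevE6, chevE7, chevE8] := by simp

section fin

variable [Fintype F]

theorem exists_grAct_d4perm (k : Fin 6) :
    ∃ γ : MulAut ↥(chevD4.group F), γ ∈ stabUV chevD4 F ∧ GrAct γ (d4perm k) := by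
  fin_cases k
  · exact ⟨1, one_mem _, GrAct.one.congr (by decide)⟩
  · exact ⟨graphAut good1_D4 T18_D4a, graphAut_mem_stabUV good2_D4 T18_D4a T0_D4 t18s_D4a_pos,
      (grAct_graphAut T18_D4a).congr (by decide)⟩
  · exact ⟨graphAut good1_D4 T18_D4b, graphAut_mem_stabUV good2_D4 T18_D4b T0_D4 t18s_D4b_pos,
      (grAct_graphAut T18_D4b).congr (by decide)⟩
  · exact ⟨graphAut good1_D4 T18_D4c, graphAut_mem_stabUV good2_D4 T18_D4c T0_D4 t18s_D4c_pos,
      (grAct_graphAut T18_D4c).congr (by decide)⟩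
  · exact ⟨graphAut good1_D4 T18_D4d, graphAut_mem_stabUV good2_D4 T18_D4d T0_D4 t18s_D4d_pos,
      (grAct_graphAut T18_D4d).congr (by decide)⟩
  · exact ⟨graphAut good1_D4 T18_D4e, graphAut_mem_stabUV good2_D4 T18_D4e T0_D4 t18s_D4e_pos,
      (grAct_graphAut T18_D4e).congr (by decide)⟩

theorem exists_gr (π : Equiv.Perm (Fin 3)) :
    ∃ γ : MulAut ↥(chevD4.group F), γ ∈ stabUV chevD4 F ∧ GrAct γ (nodePerm π) := by
  obtain ⟨k, hk⟩ := exists_d4perm_eq π
  obtain ⟨γ, h1, h2⟩ := exists_grAct_d4perm (F := F) k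
  exact ⟨γ, h1, h2.congr (fun i hi => hk ⟨i, hi⟩)⟩

/-- the graph automorphism of a permutation of the outer nodes. -/
noncomputable def grFun (π : Equiv.Perm (Fin 3)) : MulAut ↥(chevD4.group F) :=
  Classical.choose (exists_gr (F := F) π)

theorem grFun_mem (π : Equiv.Perm (Fin 3)) : grFun (F := F) π ∈ stabUV chevD4 F :=
  (Classical.choose_spec (exists_gr (F := F) π)).1

theorem grFun_act (π : Equiv.Perm (Fin 3)) : GrAct (grFun (F := F) π) (nodePerm π) :=
  (Classical.choose_spec (exists_gr (F := F) π)).2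

/-- the graph automorphisms, as a homomorphism from the symmetric group of degree three. -/
noncomputable def gr : Equiv.Perm (Fin 3) →* MulAut ↥(chevD4.group F) :=
  MonoidHom.mk' grFun (fun π π' => by
    apply GrAct.unique (grFun_act (π * π'))
    exact ((grFun_act π).mul (grFun_act π')).congr
      (fun i hi => (nodePerm_mul' π π' ⟨i, hi⟩).symm))

theorem gr_apply (π : Equiv.Perm (Fin 3)) : gr (F := F) π = grFun π := rfl

theorem gr_mem (π : Equiv.Perm (Fin 3)) : gr (F := F) π ∈ stabUV chevD4 F := grFun_mem π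

theorem gr_act (π : Equiv.Perm (Fin 3)) : GrAct (gr (F := F) π) (nodePerm π) := grFun_act π

/-- graph and field automorphisms commute. -/
theorem gr_comm_field (π : Equiv.Perm (Fin 3)) (σ : F ≃+* F) :
    Commute (gr (F := F) π) (chevFieldAutHom chevD4 F σ) := by
  show gr π * chevFieldAutHom chevD4 F σ = chevFieldAutHom chevD4 F σ * gr π
  apply mulEquiv_ext_simpleGen good2_D4 T0_D4 T9_D4
  rintro g ⟨i, t, hi, hg | hg⟩
  · obtain ⟨hj, hu, -⟩ := gr_act (F := F) π i hi
    have hg' := eq_phiG_upper good2_D4 (good1_D4.simple_lt hi) hg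
    rw [hg', MulAut.mul_apply, MulAut.mul_apply]
    show gr π (Cfsg.Agent.Helper7.chevFieldAut chevD4 σ _) =
      Cfsg.Agent.Helper7.chevFieldAut chevD4 σ (gr π _)
    rw [chevFieldAut_phiG_upper, hu, hu, chevFieldAut_phiG_upper]
  · obtain ⟨hj, -, hl⟩ := gr_act (F := F) π i hi
    have hg' := eq_phiG_lower good2_D4 (good1_D4.simple_lt hi) hg
    rw [hg', MulAut.mul_apply, MulAut.mul_apply]
    show gr π (Cfsg.Agent.Helper7.chevFieldAut chevD4 σ _) =
      Cfsg.Agent.Helper7.chevFieldAut chevD4 σ (gr π _)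
    rw [chevFieldAut_phiG_lower, hl, hl, chevFieldAut_phiG_lower]

/-- graph times field automorphisms, modulo the inner automorphisms. -/
noncomputable def PsiHom : Equiv.Perm (Fin 3) × (F ≃+* F) →* Cfsg.Out ↥(chevD4.group F) :=
  (QuotientGroup.mk' (Cfsg.Inn ↥(chevD4.group F))).comp
    (MonoidHom.noncommCoprod gr (chevFieldAutHom chevD4 F) gr_comm_field)

theorem PsiHom_apply (π : Equiv.Perm (Fin 3)) (σ : F ≃+* F) :
    PsiHom (π, σ) = QuotientGroup.mk' (Cfsg.Inn ↥(chevD4.group F))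
      (gr π * chevFieldAutHom chevD4 F σ) := rfl

/-- the image of the diagonal automorphisms in the outer automorphism group. -/
def Dbar (F : Type*) [Field F] : Subgroup (Cfsg.Out ↥(chevD4.group F)) :=
  (diagCl chevD4 F).map (QuotientGroup.mk' (Cfsg.Inn ↥(chevD4.group F)))

instance : (Dbar F).Normal := map_diagCl_normal chevD4 hD4

/-- every outer automorphism is a diagonal one times a graph-field one. -/
theorem exists_decomp (o : Cfsg.Out ↥(chevD4.group F)) :
    ∃ d ∈ Dbar F, ∃ x : Equiv.Perm (Fin 3) × (F ≃+* F), o = d * PsiHom x := by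
  obtain ⟨s, hs, rfl⟩ := exists_mem_stabUV_mk chevD4 hD4 o
  obtain ⟨ρ, c, τ, hN, hND⟩ := exists_normalData chevD4 hD4 hs.1 hs.2
  obtain ⟨k, hρ⟩ := normalData_D4_cases hND
  obtain ⟨π, hπ⟩ := exists_nodePerm_eq k
  have hn : (gr π)⁻¹ * s ∈ fixNodes chevD4 F := by
    refine ⟨mul_mem (inv_mem (gr_mem π)) hs, fun i hi => ?_⟩
    have h1 := normalAut_mapsOnto (good3_of_mem chevD4 hD4).toGood2 hN hi
    rw [hρ i hi, hπ ⟨i, hi⟩] at h1
    exact h1.trans ((gr_act (F := F) π).mapsOnto hi).symm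
  obtain ⟨W, N, h40⟩ := T40_of_mem chevD4 hD4
  obtain ⟨a, σ, hdf⟩ := exists_dfAut_of_mem_fixNodes chevD4 hD4 hn h40
  set χ := rootChar chevD4 W N a with hχdef
  have hχ : chevD4.IsRootCharacter χ := isRootCharacter_rootChar (good2_of_mem chevD4 hD4) h40 a
  have hs' : s = (gr π * diagAut hD4 χ hχ * (gr π)⁻¹) *
      (gr π * chevFieldAutHom chevD4 F σ) := by
    have h2 : s = gr π * ((gr π)⁻¹ * s) := by group
    rw [h2, hdf]
    unfold dfAut
    show gr π * (diagAut hD4 χ hχ * chevFieldAutHom chevD4 F σ) = _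
    group
  refine ⟨QuotientGroup.mk' _ (gr π * diagAut hD4 χ hχ * (gr π)⁻¹), ?_, (π, σ), ?_⟩
  · exact Subgroup.mem_map_of_mem _ (conj_mem_diagCl chevD4 hD4 (gr_mem π)
      (Subgroup.subset_closure (isDiagonalAut_diagAut hD4 χ hχ)))
  · rw [PsiHom_apply, ← map_mul, ← hs']

/-- the automorphisms acting linearly on the root subgroup of the first fundamental root. -/
def linSub (F : Type*) [Field F] : Subgroup (MulAut ↥(chevD4.group F)) where
  carrier := {θ | ∃ c : Fˣ, ∀ t : F,
    θ (phiG good2_D4 (good1_D4.simple_lt (i := 0) (by decide)) (upperSL t)) =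
      phiG good2_D4 (good1_D4.simple_lt (i := 0) (by decide)) (upperSL ((c : F) * t))}
  one_mem' := ⟨1, fun t => by rw [Units.val_one, one_mul]; rfl⟩
  mul_mem' := by
    rintro a b ⟨c, hc⟩ ⟨c', hc'⟩
    refine ⟨c * c', fun t => ?_⟩
    rw [MulAut.mul_apply, hc', hc, Units.val_mul, mul_assoc]
  inv_mem' := by
    rintro a ⟨c, hc⟩
    refine ⟨c⁻¹, fun t => ?_⟩
    rw [MulAut.inv_apply, MulEquiv.symm_apply_eq, hc, ← mul_assoc, ← Units.val_mul, mul_inv_cancel,
      Units.val_one, one_mul]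

theorem diagCl_le_linSub : diagCl chevD4 F ≤ linSub F := by
  unfold diagCl
  rw [Subgroup.closure_le]
  intro φ hφ
  obtain ⟨χ, hχ, rfl⟩ := eq_diagAut_of_isDiagonalAut chevD4 hD4 hφ
  exact ⟨χ (chevD4.simple 0), fun t => diagAut_phiG_upper hD4 good2_D4 χ hχ _ t⟩

theorem conj_mem_linSub {y : ↥(chevD4.group F)}
    (hy : (y : GL chevD4.Idx F) ∈ chevD4.diagonalSubgroup F) : MulAut.conj y ∈ linSub F := by
  obtain ⟨χ, hχ, hlin⟩ := diagonal_conj_xGL_lin good2_D4 hy
    (good1_D4.simple_lt (i := 0) (by decide))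
  refine ⟨Units.mk0 χ hχ, fun t => ?_⟩
  apply Subtype.ext
  rw [MulAut.conj_apply, Subgroup.coe_mul, Subgroup.coe_mul, Subgroup.coe_inv, phiG_upper, phiG_upper,
    hlin t]
  rfl

theorem field_eq_one_of_mem_linSub {σ : F ≃+* F} (h : chevFieldAutHom chevD4 F σ ∈ linSub F) :
    σ = 1 := by
  obtain ⟨c, hc⟩ := h
  have key : ∀ t : F, σ t = (c : F) * t := by
    intro t
    have h1 := hc t
    have h2 : chevFieldAutHom chevD4 F σ
        (phiG good2_D4 (good1_D4.simple_lt (i := 0) (by decide)) (upperSL t)) =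
        phiG good2_D4 (good1_D4.simple_lt (i := 0) (by decide)) (upperSL (σ t)) :=
      chevFieldAut_phiG_upper good2_D4 σ _ t
    rw [h2] at h1
    have h3 := congrArg Subtype.val h1
    rw [phiG_upper, phiG_upper] at h3
    exact xGL_injective good2_D4 T0_D4 T8_D4 _ h3
  have hc1 : (c : F) = 1 := by
    have := key 1
    rw [map_one, mul_one] at this
    exact this.symm
  ext t
  rw [key t, hc1, one_mul]
  rfl

/-- a graph-field automorphism that is inner-diagonal is trivial. -/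
theorem eq_one_of_mem_Dbar (d : Cfsg.Out ↥(chevD4.group F)) (hd : d ∈ Dbar F)
    (x : Equiv.Perm (Fin 3) × (F ≃+* F)) (hx : d = PsiHom x) : x = 1 := by
  obtain ⟨π, σ⟩ := x
  obtain ⟨δ, hδ, rfl⟩ := hd
  rw [PsiHom_apply] at hx
  have h1 : δ⁻¹ * (gr π * chevFieldAutHom chevD4 F σ) ∈ Cfsg.Inn ↥(chevD4.group F) :=
    QuotientGroup.eq.mp hx
  obtain ⟨y, hy⟩ := h1
  have hδS : δ ∈ stabUV chevD4 F := fixNodes_le_stabUV (diagCl_le_fixNodes chevD4 hD4 hδ)
  have hφF : chevFieldAutHom chevD4 F σ ∈ fixNodes chevD4 F := chevFieldAut_mem_fixNodes chevD4 hD4 σ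
  have hyS : MulAut.conj y ∈ stabUV chevD4 F := by
    rw [hy]
    exact mul_mem (inv_mem hδS) (mul_mem (gr_mem π) (fixNodes_le_stabUV hφF))
  have hyH := (conj_mem_stabUV_iff chevD4 hD4 y).mp hyS
  have hyF := conj_diagonal_mem_fixNodes chevD4 hD4 hyH
  have hgr : gr π = δ * MulAut.conj y * (chevFieldAutHom chevD4 F σ)⁻¹ := by
    rw [hy]; group
  have hgrF : gr (F := F) π ∈ fixNodes chevD4 F := by
    rw [hgr]
    exact mul_mem (mul_mem (diagCl_le_fixNodes chevD4 hD4 hδ) hyF) (inv_mem hφF)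
  have hπ : π = 1 := by
    apply nodePerm_inj'
    intro i
    have hi : i.val < chevD4.rank := i.2
    obtain ⟨hj, -, -⟩ := gr_act (F := F) π i hi
    exact (mapsOnto_unique good2_D4 T0_D4 T8_D4 hi hi hj (hgrF.2 i hi)
      ((gr_act (F := F) π).mapsOnto hi)).symm
  subst hπ
  have hσ : σ = 1 := by
    apply field_eq_one_of_mem_linSub
    have h2 : chevFieldAutHom chevD4 F σ = δ * MulAut.conj y := by
      rw [hy, map_one]; group
    rw [h2]
    exact mul_mem (diagCl_le_linSub hδ) (conj_mem_linSub hyH)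
  rw [hσ]
  rfl

theorem PsiHom_injective : Function.Injective (PsiHom (F := F)) := by
  rw [injective_iff_map_eq_one]
  intro x hx
  exact eq_one_of_mem_Dbar 1 (one_mem _) x hx.symm

end fin

end Cfsg.Agent.Helper8.D4Out
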