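import Mathlib

set_option autoImplicit false
set_option linter.unusedSectionVars false
set_option linter.unusedVariables false
set_option linter.style.haveILetI false

/-!
# The outer automorphism group of `D₄(q)`, part C: recognising `S₃ × C` and `S₄ × C`
-/

namespace Cfsg.Agent.Helper8.D4Out

section General

variable {O S : Type*} [Group O] [Group S] (D : Subgroup O) (Ψ : S →* O)

/-- the order of a group which is the product of a subgroup and the injective image of another group meeting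
it trivially. -/
theorem card_eq_of_complement (hΨ : Function.Injective Ψ)
    (hgen : ∀ o : O, ∃ d ∈ D, ∃ x : S, o = d * Ψ x) (hint : ∀ d ∈ D, ∀ x : S, d = Ψ x → x = 1) :
    Nat.card O = Nat.card D * Nat.card S := by
  rw [← Nat.card_prod]
  symm
  apply Nat.card_congr
  refine Equiv.ofBijective (fun p : ↥D × S => (p.1 : O) * Ψ p.2) ⟨?_, ?_⟩
  · rintro ⟨⟨d, hd⟩, x⟩ ⟨⟨d', hd'⟩, x'⟩ h
    have h' : d * Ψ x = d' * Ψ x' := h
    have h1 : d'⁻¹ * d = Ψ (x' * x⁻¹) := by
      rw [map_mul, map_inv]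
      calc d'⁻¹ * d = d'⁻¹ * (d * Ψ x) * (Ψ x)⁻¹ := by group
        _ = d'⁻¹ * (d' * Ψ x') * (Ψ x)⁻¹ := by rw [h']
        _ = Ψ x' * (Ψ x)⁻¹ := by group
    have h2 := hint _ (D.mul_mem (D.inv_mem hd') hd) _ h1
    have hx : x' = x := by
      calc x' = x' * x⁻¹ * x := by group
        _ = x := by rw [h2, one_mul]
    subst hx
    have hd : d = d' := mul_right_cancel h'
    subst hd
    rfl
  · intro o
    obtain ⟨d, hd, x, rfl⟩ := hgen o
    exact ⟨(⟨d, hd⟩, x), rfl⟩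

/-- if the orders agree, the injective image is everything. -/
theorem nonempty_equiv_of_card_eq [Finite O] (hΨ : Function.Injective Ψ)
    (hcard : Nat.card O = Nat.card S) : Nonempty (O ≃* S) := by
  haveI : Finite S := Finite.of_injective Ψ hΨ
  have hbij : Function.Bijective Ψ := by
    rw [Nat.bijective_iff_injective_and_card]
    exact ⟨hΨ, hcard.symm⟩
  exact ⟨(MulEquiv.ofBijective Ψ hbij).symm⟩

end General

section S4

set_option maxRecDepth 1000000 in
/-- the three-cycle is a product of at most two conjugates of any non-identity permutation of three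
letters. -/
theorem cycle_mem_normal_S3 : ∀ k : Equiv.Perm (Fin 3), k ≠ 1 → ∃ a b : Equiv.Perm (Fin 3),
    (c[(0 : Fin 3), 1, 2] = (a * k * a⁻¹) * (b * k * b⁻¹)) ∨ c[(0 : Fin 3), 1, 2] = a * k * a⁻¹ := by
  decide

variable {O C : Type*} [Group O] [Group C] [Finite O] (D : Subgroup O) [D.Normal]
  (Ψ : Equiv.Perm (Fin 3) × C →* O)

/-- **recognition of `S₄ × C`**: a group which is the semidirect product of a normal subgroup `D` of order
four and of `S₃ × C`, in which a three-cycle of `S₃` does not centralise `D`. -/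
theorem nonempty_equiv_S4_prod (hD : Nat.card D = 4) (hΨ : Function.Injective Ψ)
    (hgen : ∀ o : O, ∃ d ∈ D, ∃ x : Equiv.Perm (Fin 3) × C, o = d * Ψ x)
    (hint : ∀ d ∈ D, ∀ x : Equiv.Perm (Fin 3) × C, d = Ψ x → x = 1)
    (hfaith : ∃ d ∈ D, Ψ (c[(0 : Fin 3), 1, 2], 1) * d * (Ψ (c[(0 : Fin 3), 1, 2], 1))⁻¹ ≠ d) :
    Nonempty (O ≃* Equiv.Perm (Fin 4) × C) := by
  classical
  haveI : Finite (Equiv.Perm (Fin 3) × C) := Finite.of_injective Ψ hΨ
  haveI : Finite C := Finite.of_injective (fun c : C => ((1 : Equiv.Perm (Fin 3)), c))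
    (fun a b h => (Prod.ext_iff.mp h).2)
  have hDR : ∀ d ∈ D, ∀ x : Equiv.Perm (Fin 3) × C, d = Ψ x → d = 1 := by
    intro d hd x hx
    rw [hx, hint d hd x hx, map_one]
  -- the centraliser of `D` in `S₃` is trivial
  have hcent : ∀ s : Equiv.Perm (Fin 3), (∀ d ∈ D, Ψ (s, 1) * d * (Ψ (s, 1))⁻¹ = d) → s = 1 := by
    intro s hs
    by_contra hne
    obtain ⟨d, hd, hd'⟩ := hfaith
    apply hd'
    have hconj : ∀ a : Equiv.Perm (Fin 3), ∀ e ∈ D,
        Ψ (a * s * a⁻¹, 1) * e * (Ψ (a * s * a⁻¹, 1))⁻¹ = e := by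
      intro a e he
      have h1 : ((a * s * a⁻¹, 1) : Equiv.Perm (Fin 3) × C) = (a, 1) * (s, 1) * (a, 1)⁻¹ := by
        ext <;> simp
      have he' : (Ψ (a, 1))⁻¹ * e * Ψ (a, 1) ∈ D := by
        have := (inferInstance : D.Normal).conj_mem e he (Ψ (a, 1))⁻¹
        rwa [inv_inv] at this
      have h2 := hs _ he'
      rw [h1, map_mul, map_mul, map_inv]
      calc Ψ (a, 1) * Ψ (s, 1) * (Ψ (a, 1))⁻¹ * e * (Ψ (a, 1) * Ψ (s, 1) * (Ψ (a, 1))⁻¹)⁻¹
          = Ψ (a, 1) * (Ψ (s, 1) * ((Ψ (a, 1))⁻¹ * e * Ψ (a, 1)) * (Ψ (s, 1))⁻¹) * (Ψ (a, 1))⁻¹ := by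
            group
        _ = Ψ (a, 1) * ((Ψ (a, 1))⁻¹ * e * Ψ (a, 1)) * (Ψ (a, 1))⁻¹ := by rw [h2]
        _ = e := by group
    obtain ⟨a, b, h | h⟩ := cycle_mem_normal_S3 s hne
    · have h1 : ((c[(0 : Fin 3), 1, 2], 1) : Equiv.Perm (Fin 3) × C)
          = (a * s * a⁻¹, 1) * (b * s * b⁻¹, 1) := by
        rw [h]
        ext <;> simp
      rw [h1, map_mul]
      calc Ψ (a * s * a⁻¹, 1) * Ψ (b * s * b⁻¹, 1) * d * (Ψ (a * s * a⁻¹, 1) * Ψ (b * s * b⁻¹, 1))⁻¹
          = Ψ (a * s * a⁻¹, 1) * (Ψ (b * s * b⁻¹, 1) * d * (Ψ (b * s * b⁻¹, 1))⁻¹) *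
              (Ψ (a * s * a⁻¹, 1))⁻¹ := by group
        _ = d := by rw [hconj b d hd, hconj a d hd]
    · rw [h]
      exact hconj a d hd
  -- the projection onto `S₃ × C`
  have hqbij : Function.Bijective ((QuotientGroup.mk' D).comp Ψ) := by
    constructor
    · rw [injective_iff_map_eq_one]
      intro x hx
      have h1 : Ψ x ∈ D := by
        have : (QuotientGroup.mk' D) (Ψ x) = 1 := hx
        exact (QuotientGroup.eq_one_iff _).mp this
      exact hint _ h1 x rfl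
    · intro y
      obtain ⟨o, rfl⟩ := QuotientGroup.mk'_surjective D y
      obtain ⟨d, hd, x, rfl⟩ := hgen o
      refine ⟨x, ?_⟩
      show (QuotientGroup.mk' D) (Ψ x) = (QuotientGroup.mk' D) (d * Ψ x)
      have hd1 : (QuotientGroup.mk' D) d = 1 := (QuotientGroup.eq_one_iff d).mpr hd
      rw [map_mul, hd1, one_mul]
  let E : Equiv.Perm (Fin 3) × C ≃* O ⧸ D := MulEquiv.ofBijective _ hqbij
  let pr : O →* Equiv.Perm (Fin 3) × C := E.symm.toMonoidHom.comp (QuotientGroup.mk' D)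
  have hpr : ∀ d ∈ D, ∀ x, pr (d * Ψ x) = x := by
    intro d hd x
    show E.symm ((QuotientGroup.mk' D) (d * Ψ x)) = x
    rw [MulEquiv.symm_apply_eq]
    show (QuotientGroup.mk' D) (d * Ψ x) = (QuotientGroup.mk' D) (Ψ x)
    have hd1 : (QuotientGroup.mk' D) d = 1 := (QuotientGroup.eq_one_iff d).mpr hd
    rw [map_mul, hd1, one_mul]
  let R : Subgroup O := Ψ.range
  let act : O →* Equiv.Perm (O ⧸ R) := MulAction.toPermHom O (O ⧸ R)
  let Θ : O →* Equiv.Perm (O ⧸ R) × C := act.prod ((MonoidHom.snd _ _).comp pr)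
  have hΘinj : Function.Injective Θ := by
    rw [injective_iff_map_eq_one]
    intro o ho
    obtain ⟨d, hd, ⟨s, c⟩, rfl⟩ := hgen o
    have h1 : act (d * Ψ (s, c)) = 1 := congrArg Prod.fst ho
    have h2 : (pr (d * Ψ (s, c))).2 = 1 := congrArg Prod.snd ho
    rw [hpr d hd] at h2
    have hc : c = 1 := h2
    subst hc
    -- all conjugates lie in `R`
    have hall : ∀ g : O, g⁻¹ * (d * Ψ (s, 1)) * g ∈ R := by
      intro g
      have h3 := DFunLike.congr_fun h1 (QuotientGroup.mk g : O ⧸ R)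
      rw [Equiv.Perm.one_apply] at h3
      have h4 : ((d * Ψ (s, 1)) • (QuotientGroup.mk g : O ⧸ R)) = QuotientGroup.mk g := h3
      rw [MulAction.Quotient.smul_mk, QuotientGroup.eq] at h4
      have h5 := R.inv_mem h4
      have : ((d * Ψ (s, 1)) • g)⁻¹ * g = (g⁻¹ * (d * Ψ (s, 1)) * g)⁻¹ := by
        rw [smul_eq_mul]; group
      rw [this, inv_inv] at h5
      exact h5
    have hdR : d ∈ R := by
      have := hall 1
      rw [inv_one, one_mul, mul_one] at this
      have h6 : d = (d * Ψ (s, 1)) * (Ψ (s, 1))⁻¹ := by group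
      rw [h6]
      exact R.mul_mem this (R.inv_mem ⟨_, rfl⟩)
    obtain ⟨x, hx⟩ := hdR
    have hd1 : d = 1 := hDR d hd x hx.symm
    subst hd1
    rw [one_mul] at hall ⊢
    have hs : s = 1 := by
      apply hcent
      intro e he
      have h7 : e⁻¹ * Ψ (s, 1) * e * (Ψ (s, 1))⁻¹ ∈ D := by
        have h8 := (inferInstance : D.Normal).conj_mem e he (Ψ (s, 1))
        have : e⁻¹ * Ψ (s, 1) * e * (Ψ (s, 1))⁻¹ = e⁻¹ * (Ψ (s, 1) * e * (Ψ (s, 1))⁻¹) := by group
        rw [this]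
        exact D.mul_mem (D.inv_mem he) h8
      have h9 : e⁻¹ * Ψ (s, 1) * e * (Ψ (s, 1))⁻¹ ∈ R :=
        R.mul_mem (hall e) (R.inv_mem ⟨_, rfl⟩)
      obtain ⟨x, hx⟩ := h9
      have h10 := hDR _ h7 x hx.symm
      calc Ψ (s, 1) * e * (Ψ (s, 1))⁻¹ = e * (e⁻¹ * Ψ (s, 1) * e * (Ψ (s, 1))⁻¹) := by group
        _ = e := by rw [h10, mul_one]
    rw [hs]
    exact map_one Ψ
  -- cardinalities
  have hcardO : Nat.card O = 4 * (6 * Nat.card C) := by
    rw [card_eq_of_complement D Ψ hΨ hgen hint, hD, Nat.card_prod, Nat.card_perm, Nat.card_fin]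
    rfl
  have hcardR : Nat.card R = 6 * Nat.card C := by
    rw [← Nat.card_congr (MonoidHom.ofInjective hΨ).toEquiv, Nat.card_prod, Nat.card_perm,
      Nat.card_fin]
    rfl
  have hidx : Nat.card (O ⧸ R) = 4 := by
    have h1 := Subgroup.card_eq_card_quotient_mul_card_subgroup R
    rw [hcardO, hcardR] at h1
    have hpos : 0 < 6 * Nat.card C := by
      have : 0 < Nat.card C := Nat.card_pos
      omega
    exact (Nat.eq_of_mul_eq_mul_right hpos h1).symm
  have hΘbij : Function.Bijective Θ := by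
    rw [Nat.bijective_iff_injective_and_card]
    refine ⟨hΘinj, ?_⟩
    rw [Nat.card_prod, Nat.card_perm, hidx, hcardO]
    have : Nat.factorial 4 = 24 := rfl
    rw [this]
    ring
  have e4 : O ⧸ R ≃ Fin 4 := Finite.equivFinOfCardEq hidx
  exact ⟨(MulEquiv.ofBijective Θ hΘbij).trans (MulEquiv.prodCongr e4.permCongrHom (MulEquiv.refl C))⟩

end S4

end Cfsg.Agent.Helper8.D4Out
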