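import Mathlib
import Cfsg.Agent.Helper8.D4OutB
import Cfsg.Agent.Helper8.D4OutC
import Cfsg.Agent.Helper8.AutD4B
import Cfsg.Agent.Helper8.AutPSL2E

set_option autoImplicit false
set_option linter.unusedSectionVars false
set_option linter.unusedVariables false
set_option linter.style.haveILetI false

/-!
# The outer automorphism group of `D₄(q)`, part D: the structure
-/

namespace Cfsg.Agent.Helper8.D4Out

open Cfsg Cfsg.Lie Matrix Cfsg.Agent.Helper7.Chev

variable {F : Type*} [Field F]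

theorem GrAct.apply_upper {θ : MulAut ↥(chevD4.group F)} {ρ : ℕ → ℕ} (h : GrAct θ ρ) {i j : ℕ}
    (hi : i < chevD4.rank) (hj : j < chevD4.rank) (e : ρ i = j) (t : F) :
    θ (phiG good2_D4 (good1_D4.simple_lt hi) (upperSL t)) =
      phiG good2_D4 (good1_D4.simple_lt hj) (upperSL t) := by
  subst e
  obtain ⟨_, hu, -⟩ := h i hi
  exact hu t

/-- the action of an element of `H` on a fundamental root element. -/
theorem conj_torus_upper {y : ↥(chevD4.group F)} {c : ℕ → F} (hc : ∀ i < chevD4.rank, c i ≠ 0)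
    (hy : ((y : GL chevD4.Idx F) : Matrix chevD4.Idx chevD4.Idx F) = tMat chevD4 c)
    {j : ℕ} (hj : j < chevD4.rank) (t : F) :
    MulAut.conj y (phiG good2_D4 (good1_D4.simple_lt hj) (upperSL t)) =
      phiG good2_D4 (good1_D4.simple_lt hj) (upperSL
        (((List.range chevD4.rank).map (fun i => c i ^ chevD4.cartan i (chevD4.simple j))).prod * t)) := by
  have hs := good1_D4.simple_lt hj
  apply Subtype.ext
  rw [MulAut.conj_apply, Subgroup.coe_mul, Subgroup.coe_mul, Subgroup.coe_inv, phiG_upper, phiG_upper,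
    mul_inv_eq_iff_eq_mul]
  apply Units.ext
  rw [Units.val_mul, Units.val_mul, hy, xGL_coe, xGL_coe]
  exact tMat_mul_x good2_D4 c hc hs t

section fin

variable [Fintype F]

/-- **in odd characteristic the triality automorphism does not centralise the diagonal automorphisms modulo
the inner ones.** -/
theorem exists_not_centralized (h2 : (2 : F) ≠ 0) :
    ∃ d ∈ Dbar F, PsiHom (c[(0 : Fin 3), 1, 2], 1) * d * (PsiHom (c[(0 : Fin 3), 1, 2], 1))⁻¹ ≠ d := by
  have hchar : ringChar F ≠ 2 := by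
    intro h
    apply h2
    have : ((ringChar F : ℕ) : F) = 0 := ringChar.Nat.cast_ringChar
    rw [h] at this
    exact_mod_cast this
  obtain ⟨ν, hν⟩ := FiniteField.exists_nonsquare hchar
  have hν0 : ν ≠ 0 := by
    rintro rfl
    exact hν ⟨0, by rw [mul_zero]⟩
  set a : ℕ → Fˣ := fun k => if k = 0 then Units.mk0 ν hν0 else 1 with ha
  set χ := rootChar chevD4 wtMatD4 2 a with hχdef
  have hχ : chevD4.IsRootCharacter χ := isRootCharacter_rootChar good2_D4 T40_D4 a
  set d : MulAut ↥(chevD4.group F) := diagAut hD4 χ hχ with hd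
  have hdcl : d ∈ diagCl chevD4 F := Subgroup.subset_closure (isDiagonalAut_diagAut hD4 χ hχ)
  set c₃ : Equiv.Perm (Fin 3) := c[(0 : Fin 3), 1, 2] with hc₃
  set g : MulAut ↥(chevD4.group F) := gr c₃ with hg
  refine ⟨QuotientGroup.mk' _ d, Subgroup.mem_map_of_mem _ hdcl, fun hcomm => ?_⟩
  have hΨ : PsiHom (F := F) (c₃, 1) = QuotientGroup.mk' _ g := by
    rw [PsiHom_apply, map_one, mul_one]
  rw [hΨ, ← map_inv, ← map_mul, ← map_mul] at hcomm
  have h1 : d⁻¹ * (g * d * g⁻¹) ∈ Cfsg.Inn ↥(chevD4.group F) := QuotientGroup.eq.mp hcomm.symm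
  obtain ⟨y, hy⟩ := h1
  have hdS : d ∈ stabUV chevD4 F := fixNodes_le_stabUV (diagCl_le_fixNodes chevD4 hD4 hdcl)
  have hyS : MulAut.conj y ∈ stabUV chevD4 F := by
    rw [hy]
    exact mul_mem (inv_mem hdS) (mul_mem (mul_mem (gr_mem c₃) hdS) (inv_mem (gr_mem c₃)))
  have hyH := (conj_mem_stabUV_iff chevD4 hD4 y).mp hyS
  obtain ⟨c, hc, hmat⟩ := diagonalSubgroup_torus good1_D4 hyH
  have hkey : g * d * g⁻¹ = d * MulAut.conj y := by rw [hy]; group
  have hginv : g⁻¹ = gr c₃⁻¹ := (map_inv gr c₃).symm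
  -- the values of the character
  have hχ0 : χ (chevD4.simple 0) = Units.mk0 ν hν0 := by
    rw [hχdef, rootChar_simple T40_D4 a (by decide : 0 < chevD4.rank)]
    rfl
  have hχ2 : χ (chevD4.simple 2) = 1 := by
    rw [hχdef, rootChar_simple T40_D4 a (by decide : 2 < chevD4.rank)]
    rfl
  have hχ3 : χ (chevD4.simple 3) = 1 := by
    rw [hχdef, rootChar_simple T40_D4 a (by decide : 3 < chevD4.rank)]
    rfl
  have hr0 : (0 : ℕ) < chevD4.rank := by decide
  have hr2 : (2 : ℕ) < chevD4.rank := by decide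
  have hr3 : (3 : ℕ) < chevD4.rank := by decide
  -- evaluation at the node `0`
  have e0 := DFunLike.congr_fun hkey (phiG good2_D4 (good1_D4.simple_lt hr0) (upperSL (1 : F)))
  rw [MulAut.mul_apply, MulAut.mul_apply, MulAut.mul_apply, hginv,
    GrAct.apply_upper (gr_act c₃⁻¹) hr0 hr3 (by decide), hd,
    diagAut_phiG_upper hD4 good2_D4 χ hχ _ _, hχ3, Units.val_one, one_mul, hg,
    GrAct.apply_upper (gr_act c₃) hr3 hr0 (by decide),
    conj_torus_upper hc hmat hr0, diagAut_phiG_upper hD4 good2_D4 χ hχ _ _, hχ0] at e0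
  have e0' := congrArg Subtype.val e0
  rw [phiG_upper, phiG_upper] at e0'
  have e0'' := xGL_injective good2_D4 T0_D4 T8_D4 _ e0'
  -- evaluation at the node `3`
  have e3 := DFunLike.congr_fun hkey (phiG good2_D4 (good1_D4.simple_lt hr3) (upperSL (1 : F)))
  rw [MulAut.mul_apply, MulAut.mul_apply, MulAut.mul_apply, hginv,
    GrAct.apply_upper (gr_act c₃⁻¹) hr3 hr2 (by decide), hd,
    diagAut_phiG_upper hD4 good2_D4 χ hχ _ _, hχ2, Units.val_one, one_mul, hg,
    GrAct.apply_upper (gr_act c₃) hr2 hr3 (by decide),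
    conj_torus_upper hc hmat hr3, diagAut_phiG_upper hD4 good2_D4 χ hχ _ _, hχ3, Units.val_one,
    one_mul] at e3
  have e3' := congrArg Subtype.val e3
  rw [phiG_upper, phiG_upper] at e3'
  have e3'' := xGL_injective good2_D4 T0_D4 T8_D4 _ e3'
  -- the Cartan integers
  have hrange : List.range chevD4.rank = [0, 1, 2, 3] := by decide
  have hA00 : chevD4.cartan 0 (chevD4.simple 0) = 2 := by decide
  have hA10 : chevD4.cartan 1 (chevD4.simple 0) = -1 := by decide
  have hA20 : chevD4.cartan 2 (chevD4.simple 0) = 0 := by decide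
  have hA30 : chevD4.cartan 3 (chevD4.simple 0) = 0 := by decide
  have hA03 : chevD4.cartan 0 (chevD4.simple 3) = 0 := by decide
  have hA13 : chevD4.cartan 1 (chevD4.simple 3) = -1 := by decide
  have hA23 : chevD4.cartan 2 (chevD4.simple 3) = 0 := by decide
  have hA33 : chevD4.cartan 3 (chevD4.simple 3) = 2 := by decide
  rw [hrange] at e0'' e3''
  simp only [List.map_cons, List.map_nil, List.prod_cons, List.prod_nil, hA00, hA10, hA20, hA30,
    hA03, hA13, hA23, hA33, zpow_zero, mul_one, one_mul, Units.val_mk0] at e0'' e3''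
  have hc0 := hc 0 hr0
  have hc1 := hc 1 (by decide : 1 < chevD4.rank)
  have hc3 := hc 3 hr3
  have e0f : 1 = ν * (c 0 ^ 2 * (c 1)⁻¹) := by
    have := e0''
    rw [_root_.zpow_neg, _root_.zpow_one] at this
    exact_mod_cast this
  have e3f : 1 = (c 1)⁻¹ * c 3 ^ 2 := by
    have := e3''
    rw [_root_.zpow_neg, _root_.zpow_one] at this
    exact_mod_cast this
  apply hν
  refine ⟨c 3 / c 0, ?_⟩
  have hc1' : c 1 = c 3 ^ 2 := by
    field_simp at e3f
    exact e3f
  rw [hc1'] at e0f
  field_simp at e0f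
  field_simp
  linear_combination -e0f

end fin

end Cfsg.Agent.Helper8.D4Out
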