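import Mathlib
import Cfsg.Agent.Helper8.D4OutD

set_option autoImplicit false
set_option linter.unusedSectionVars false
set_option linter.unusedVariables false
set_option linter.style.haveILetI false

/-!
# The outer automorphism group of `D₄(q)`, part E: the statements
-/

namespace Cfsg.Agent.Helper8.D4Out

open Cfsg Cfsg.Lie Matrix Cfsg.Agent.Helper7.Chev

variable {F : Type*} [Field F] [Fintype F]

theorem ringAut_equiv_zmod {p f : ℕ} [Fact p.Prime] (hF : Fintype.card F = p ^ f) :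
    Nonempty ((F ≃+* F) ≃* Multiplicative (ZMod f)) := by
  haveI : CharP F p := charP_of_card_eq_prime_pow hF
  have hcardA := Cfsg.Agent.Helper7.FieldAutCard.card_ringAut p f hF
  have hcyc : IsCyclic (F ≃+* F) := Cfsg.Agent.Helper8.AutPSL2.isCyclic_ringAut'
  rw [← hcardA]
  exact ⟨(zmodCyclicMulEquiv hcyc).symm⟩

instance : Finite (Cfsg.Out ↥(chevD4.group F)) := by
  unfold Cfsg.Out
  infer_instance

/-- **the outer automorphism group of `D₄(2^f)` is `S₃ × C_f`.** -/
theorem out_D4_even {f : ℕ} (hF : Fintype.card F = 2 ^ f) :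
    Nonempty (Cfsg.Out ↥(chevD4.group F) ≃* Equiv.Perm (Fin 3) × Multiplicative (ZMod f)) := by
  haveI : Fact (Nat.Prime 2) := ⟨Nat.prime_two⟩
  haveI : CharP F 2 := charP_of_card_eq_prime_pow hF
  have hf : 1 ≤ f := by
    rcases Nat.eq_zero_or_pos f with rfl | h
    · rw [pow_zero] at hF
      have := Fintype.one_lt_card (α := F)
      omega
    · exact h
  have hcardA := Cfsg.Agent.Helper7.FieldAutCard.card_ringAut 2 f hF
  have hcard := Cfsg.Agent.Helper8.AutD4.card_out_D4 (F := F) 2 f hF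
  have hodd : Odd (2 ^ f - 1) := by
    obtain ⟨k, rfl⟩ : ∃ k, f = k + 1 := ⟨f - 1, by omega⟩
    rw [pow_succ]
    have : 0 < 2 ^ k := Nat.pos_of_ne_zero (by positivity)
    exact ⟨2 ^ k - 1, by omega⟩
  have hg : Nat.gcd 2 (2 ^ f - 1) = 1 := Nat.coprime_two_left.mpr hodd
  rw [hg, one_pow, mul_one] at hcard
  obtain ⟨e1⟩ := nonempty_equiv_of_card_eq (PsiHom (F := F)) PsiHom_injective (by
    rw [hcard, Nat.card_prod, Nat.card_perm, Nat.card_fin, hcardA]
    rfl)
  obtain ⟨e2⟩ := ringAut_equiv_zmod (F := F) hF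
  exact ⟨e1.trans (MulEquiv.prodCongr (MulEquiv.refl _) e2)⟩

/-- **the outer automorphism group of `D₄(q)`, `q = p^f` odd, is `S₄ × C_f`.** -/
theorem out_D4_odd {p f : ℕ} [Fact p.Prime] (hF : Fintype.card F = p ^ f) (hp : p ≠ 2) :
    Nonempty (Cfsg.Out ↥(chevD4.group F) ≃* Equiv.Perm (Fin 4) × Multiplicative (ZMod f)) := by
  haveI : CharP F p := charP_of_card_eq_prime_pow hF
  have hf : 1 ≤ f := by
    rcases Nat.eq_zero_or_pos f with rfl | h
    · rw [pow_zero] at hF
      have := Fintype.one_lt_card (α := F)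
      omega
    · exact h
  have h2 : (2 : F) ≠ 0 := by
    intro h0
    have h1 : ((2 : ℕ) : F) = 0 := by exact_mod_cast h0
    have h3 := (CharP.cast_eq_zero_iff F p 2).mp h1
    exact hp ((Nat.prime_dvd_prime_iff_eq Fact.out Nat.prime_two).mp h3)
  have hcardA := Cfsg.Agent.Helper7.FieldAutCard.card_ringAut p f hF
  have hcard := Cfsg.Agent.Helper8.AutD4.card_out_D4 (F := F) p f hF
  have hpodd : Odd p := (Fact.out : p.Prime).odd_of_ne_two hp
  have hqodd : Odd (p ^ f) := hpodd.pow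
  have hev : Even (p ^ f - 1) := by
    obtain ⟨k, hk⟩ := hqodd
    exact ⟨k, by omega⟩
  have hg : Nat.gcd 2 (p ^ f - 1) = 2 := Nat.gcd_eq_left hev.two_dvd
  rw [hg] at hcard
  have hD : Nat.card (Dbar F) = 4 := by
    have h1 := card_eq_of_complement (Dbar F) (PsiHom (F := F)) PsiHom_injective exists_decomp
      eq_one_of_mem_Dbar
    rw [hcard, Nat.card_prod, Nat.card_perm, Nat.card_fin, hcardA] at h1
    have h3 : Nat.factorial 3 = 6 := rfl
    rw [h3] at h1
    have hpos : 0 < 6 * f := by omega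
    have h4 : 4 * (6 * f) = Nat.card (Dbar F) * (6 * f) := by
      rw [← h1]; ring
    exact (Nat.eq_of_mul_eq_mul_right hpos h4).symm
  obtain ⟨e1⟩ := nonempty_equiv_S4_prod (Dbar F) (PsiHom (F := F)) hD PsiHom_injective exists_decomp
    eq_one_of_mem_Dbar (exists_not_centralized h2)
  obtain ⟨e2⟩ := ringAut_equiv_zmod (F := F) hF
  exact ⟨e1.trans (MulEquiv.prodCongr (MulEquiv.refl _) e2)⟩

end Cfsg.Agent.Helper8.D4Out
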