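import Mathlib
import Cfsg.Agent.Helper8.AutOQo
import Cfsg.Agent.Helper8.AutOQk
import Cfsg.Agent.Helper8.AutOQl
import Cfsg.Agent.Helper8.AutOQm
import Cfsg.Agent.Helper8.SsClsU

set_option autoImplicit false
set_option linter.unusedSectionVars false
set_option linter.unusedVariables false
set_option linter.style.haveILetI false

/-!
# Field automorphisms of `PΩ⁺_{2n}(q)`, part A: diagonal similarities over a subfield
-/

namespace Cfsg.Agent.Helper8.FldPl

open Module Matrix Cfsg.Agent.Helper8.QuadForm Cfsg.Agent.Helper8.WittQuad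
  Cfsg.Agent.Helper8.OrthOrder
  Cfsg.Agent.Helper8.Siegel Cfsg.Agent.Helper8.SiegelGeom Cfsg.Agent.Helper8.SiegelGroup
  Cfsg.Agent.Helper8.SiegelPrim Cfsg.Agent.Helper8.SiegelSimple Cfsg.Agent.Helper8.ReflMatrix
  Cfsg.Agent.Helper8.OmegaSimple Cfsg.Agent.Helper8.AutImagePsi Cfsg.Agent.Helper8.AutImageOrth
  Cfsg.Agent.Helper8.StdForms Cfsg.Agent.Helper8.AutImage Cfsg.Agent.Helper8.AutImageKer
  Cfsg.Agent.Helper8.AutImageIdx Cfsg.Agent.Helper8.Cls Cfsg.Agent.Helper8.Reflections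
  Cfsg.Agent.Helper8.InnDiagGen Cfsg.Agent.Helper8.AutO Cfsg.Agent.Helper8.OmegaOdd

universe u v

variable {F₀ : Type u} {F : Type v} [Field F₀] [Field F] (j : F₀ →+* F) {n : ℕ}

/-- base change of a diagonal matrix. -/
theorem map_diagGL (e f : Fin n → F₀ˣ) :
    Matrix.GeneralLinearGroup.map j (diagGL e f)
      = diagGL (fun i => Units.map (j : F₀ →* F) (e i)) (fun i => Units.map (j : F₀ →* F) (f i)) := by
  apply Units.ext
  ext a b
  show j (((diagGL e f : GL (Fin n ⊕ Fin n) F₀) : Matrix (Fin n ⊕ Fin n) (Fin n ⊕ Fin n) F₀) a b) = _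
  rw [diagGL_val, diagGL_val, Matrix.diagonal_apply, Matrix.diagonal_apply]
  by_cases hab : a = b
  · rw [if_pos hab, if_pos hab]
    rcases a with a | a <;> rfl
  · rw [if_neg hab, if_neg hab, map_zero]

theorem plusForm_hvec (v : Fin n ⊕ Fin n → F₀) :
    plusForm F n (hvec j v) = j (plusForm F₀ n v) := by
  rw [plusForm_apply, plusForm_apply]
  unfold Cfsg.quadFormPlus hvec
  simp only [map_sum, map_mul]


section Diag

variable {K : Type*} [Field K] [Fintype K] {n : ℕ}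

/-- a diagonal similarity with the square multiplier `t²`. -/
theorem diag_eq_scalar_mul (e f : Fin n → Kˣ) (t : Kˣ) (hef : ∀ i, e i * f i = t * t) :
    (⟨diagGL e f, diagGL_mem_sim e f (t * t) hef⟩ :
      ↥(Cfsg.Geo.quadSimilarityGroup (F := K) ⇑(plusForm K n)))
      = scalarGO (plusForm K n) t *
        Subgroup.inclusion (isometry_le_similarity ⇑(plusForm K n))
          ⟨diagGL (fun i => e i * t⁻¹) (fun i => f i * t⁻¹), diagGL_mem_iso _ _ (fun i => by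
            calc (e i * t⁻¹) * (f i * t⁻¹) = (e i * f i) * (t * t)⁻¹ := by
                  rw [_root_.mul_inv_rev]; ac_rfl
              _ = 1 := by rw [hef i, mul_inv_cancel])⟩ := by
  apply Subtype.ext
  apply Units.ext
  rw [Subgroup.coe_mul, Units.val_mul, scalarGO_val]
  show ((diagGL e f : GL (Fin n ⊕ Fin n) K) : Matrix (Fin n ⊕ Fin n) (Fin n ⊕ Fin n) K) =
    ((t : K) • (1 : Matrix (Fin n ⊕ Fin n) (Fin n ⊕ Fin n) K)) *
    ((diagGL (fun i => e i * t⁻¹) (fun i => f i * t⁻¹) : GL (Fin n ⊕ Fin n) K) :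
      Matrix (Fin n ⊕ Fin n) (Fin n ⊕ Fin n) K)
  rw [diagGL_val, diagGL_val, Matrix.smul_mul, Matrix.one_mul, ← Matrix.diagonal_smul]
  congr 1
  funext i
  rcases i with i | i
  · simp only [Sum.elim_inl, Pi.smul_apply, smul_eq_mul, Units.val_mul]
    rw [mul_comm, mul_assoc, ← Units.val_mul, inv_mul_cancel, Units.val_one, mul_one]
  · simp only [Sum.elim_inr, Pi.smul_apply, smul_eq_mul, Units.val_mul]
    rw [mul_comm, mul_assoc, ← Units.val_mul, inv_mul_cancel, Units.val_one, mul_one]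

/-- **the criterion for a diagonal similarity with square multiplier to induce an inner
automorphism**, when `-1` lies in `Ω`. -/
theorem Phi_diag_mem_Inn_iff (hn : 3 ≤ n) (h2 : (2 : K) ≠ 0)
    (hneg : ∃ g : ↥(Cfsg.isometryGroup K ⇑(plusForm K n)),
      g ∈ Cfsg.Omega K ⇑(plusForm K n) ∧
      ((g : GL (Fin n ⊕ Fin n) K) : Matrix (Fin n ⊕ Fin n) (Fin n ⊕ Fin n) K) = -1)
    (e f : Fin n → Kˣ) (t : Kˣ) (hef : ∀ i, e i * f i = t * t) :
    Phi ⇑(plusForm K n) ⟨diagGL e f, diagGL_mem_sim e f (t * t) hef⟩ ∈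
      Cfsg.Inn (Cfsg.POmega K ⇑(plusForm K n)) ↔
      IsSquare (∏ i, ((e i * t⁻¹ : Kˣ) : K)) := by
  have hQ := plusForm_nondeg K n
  have h5 : 5 ≤ Fintype.card (Fin n ⊕ Fin n) := by rw [card_idx_plus]; omega
  have hef' : ∀ i, (e i * t⁻¹) * (f i * t⁻¹) = 1 := by
    intro i
    calc (e i * t⁻¹) * (f i * t⁻¹) = (e i * f i) * (t * t)⁻¹ := by
          rw [_root_.mul_inv_rev]; ac_rfl
      _ = 1 := by rw [hef i, mul_inv_cancel]
  obtain ⟨h, hh⟩ : ∃ h : ↥(Cfsg.isometryGroup K ⇑(plusForm K n)),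
      h = ⟨diagGL (fun i => e i * t⁻¹) (fun i => f i * t⁻¹), diagGL_mem_iso _ _ hef'⟩ := ⟨_, rfl⟩
  have hdec := diag_eq_scalar_mul e f t hef
  have hsc : Phi ⇑(plusForm K n) (scalarGO (plusForm K n) t) = 1 :=
    (Phi_eq_one_iff (plusForm K n) h2 hQ h5 _).mpr ⟨(t : K), scalarGO_val _ t⟩
  have hPhi : Phi ⇑(plusForm K n) ⟨diagGL e f, diagGL_mem_sim e f (t * t) hef⟩
      = PhiO ⇑(plusForm K n) h := by
    rw [hdec, map_mul, hsc, one_mul, hh]
    rfl
  have hcard2 : Fintype.card K ≠ 2 := by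
    intro hc
    apply h2
    have := Nat.cast_card_eq_zero K
    rw [hc] at this
    exact_mod_cast this
  have hΩ : h ∈ Cfsg.Omega K ⇑(plusForm K n) ↔ IsSquare (∏ i, ((e i * t⁻¹ : Kˣ) : K)) := by
    rw [hh]
    exact diagGL_mem_Omega_iff (by omega) (Or.inl hcard2) _ _ hef'
  rw [hPhi, ← hΩ]
  constructor
  · intro hmem
    exact Cfsg.Agent.Helper8.AutImageD8.mem_Omega_of_PhiO_mem (plusForm K n) h2 hQ h5 hneg h hmem
  · intro hmem
    rw [Inn_eq']
    exact ⟨h, hmem, rfl⟩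

end Diag


section Sub

variable {F₀ : Type u} {F : Type v} [Field F₀] [Field F] [Fintype F₀] [Fintype F] (j : F₀ →+* F)
  {n : ℕ}

/-- the diagonal similarity `diag(e; f)` with multiplier `c`. -/
noncomputable def dgSim (e f : Fin n → F₀ˣ) (c : F₀ˣ) (h : ∀ i, e i * f i = c) :
    ↥(Cfsg.Geo.quadSimilarityGroup (F := F₀) ⇑(plusForm F₀ n)) :=
  ⟨diagGL e f, diagGL_mem_sim e f c h⟩

theorem mult_dgSim (hne₀ : ∃ v, plusForm F₀ n v ≠ 0) (e f : Fin n → F₀ˣ) (c : F₀ˣ)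
    (h : ∀ i, e i * f i = c) : mult ⇑(plusForm F₀ n) hne₀ (dgSim e f c h) = c :=
  mult_eq_of _ hne₀ _ (diagGL_spec e f c h)

theorem clsChar_dgSim (h2₀ : (2 : F₀) ≠ 0) (hne₀ : ∃ v, plusForm F₀ n v ≠ 0) (e f : Fin n → F₀ˣ)
    (c : F₀ˣ) (h : ∀ i, e i * f i = c) :
    clsChar (plusForm F₀ n) (plusForm_nondeg F₀ n) hne₀ n (card_idx_plus n) (dgSim e f c h) = 1 := by
  rw [clsChar_eq_psi2 _ _ _ _ _ h2₀, psi2_eq_one_iff, mult_dgSim]
  show ((diagGL e f : GL (Fin n ⊕ Fin n) F₀) : Matrix (Fin n ⊕ Fin n) (Fin n ⊕ Fin n) F₀).det = _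
  rw [det_diagGL, ← Finset.prod_mul_distrib]
  have : ∀ i : Fin n, (e i : F₀) * (f i : F₀) = (c : F₀) := by
    intro i
    rw [← Units.val_mul, h i]
  simp only [this, Finset.prod_const, Finset.card_univ, Fintype.card_fin]

theorem simMap_dgSim (e f : Fin n → F₀ˣ) (c : F₀ˣ) (h : ∀ i, e i * f i = c) :
    simMap j (plusForm F₀ n) (plusForm F n) (plusForm_hvec j) (dgSim e f c h)
      = ⟨diagGL (fun i => Units.map (j : F₀ →* F) (e i)) (fun i => Units.map (j : F₀ →* F) (f i)),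
        diagGL_mem_sim _ _ (Units.map (j : F₀ →* F) c) (fun i => by rw [← map_mul, h i])⟩ := by
  apply Subtype.ext
  rw [coe_simMap]
  exact map_diagGL j e f

end Sub

end Cfsg.Agent.Helper8.FldPl
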