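import Mathlib
import Cfsg.Agent.Helper8.D4NrmC
import Cfsg.Agent.Helper8.FldPlA
import Cfsg.Agent.Helper8.D4OutE

set_option autoImplicit false
set_option linter.unusedSectionVars false
set_option linter.unusedVariables false
set_option linter.style.haveILetI false

/-!
# Normality of the inner-diagonal group of `PΩ⁺₈(q)`, part D: diagonal automorphisms of `D₄(q)` are
induced by diagonal similarities
-/

namespace Cfsg.Agent.Helper8.D4Nrm

open Cfsg Cfsg.Lie Matrix Cfsg.Agent.Helper7.D4O Cfsg.Agent.Helper8.AutO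
  Cfsg.Agent.Helper8.StdForms Cfsg.Agent.Helper7.Chev Cfsg.Agent.Helper8.AutImageOrth
  Cfsg.Agent.Helper8.D4Out

variable {F : Type*} [Field F]

/-- the data of the isomorphism `D₄(F) ≅ PΩ⁺₈(F)`. -/
structure IsoSpec (θ : chevD4.SteinbergGroup F →* ↥(chevD4.group F))
    (e : ↥(chevD4.group F) ≃* POmega F ⇑(plusForm F 4)) : Prop where
  surj : Function.Surjective θ
  mat : ∀ (r : ℕ) (t : F), r < 24 →
    ((θ (chevD4.stGen F r t) : GL chevD4.Idx F) : Matrix chevD4.Idx chevD4.Idx F) = chevD4.x F r t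
  spec : ∀ (r : ℕ) (t : F), r < 24 → ∃ ω : ↥(Omega F ⇑(plusForm F 4)),
    ((ω : ↥(isometryGroup F ⇑(plusForm F 4))) : GL (Idx 4) F) = TG (rI r) (rJ r) t ∧
    e (θ (chevD4.stGen F r t)) = QuotientGroup.mk ω

theorem exists_isoSpec (F : Type*) [Field F] :
    ∃ (θ : chevD4.SteinbergGroup F →* ↥(chevD4.group F))
      (e : ↥(chevD4.group F) ≃* POmega F ⇑(plusForm F 4)), IsoSpec θ e := by
  obtain ⟨θ, e, h1, h2, h3⟩ := exists_d4_equiv_spec' F ⇑(plusForm F 4)
    (funext (plusForm_apply F 4))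
  exact ⟨θ, e, ⟨h1, h2, h3⟩⟩

variable {θ : chevD4.SteinbergGroup F →* ↥(chevD4.group F)}
  {e : ↥(chevD4.group F) ≃* POmega F ⇑(plusForm F 4)}

/-- an element with the matrix of a root element is the image of the corresponding generator. -/
theorem IsoSpec.eq_gen (h : IsoSpec θ e) {r : ℕ} (hr : r < 24) {t : F} {g : ↥(chevD4.group F)}
    (hg : ((g : GL chevD4.Idx F) : Matrix chevD4.Idx chevD4.Idx F) = chevD4.x F r t) :
    g = θ (chevD4.stGen F r t) := by
  apply Subtype.ext
  apply Units.ext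
  rw [hg, h.mat r t hr]

/-- the key step: the two automorphisms agree on a root element. -/
theorem IsoSpec.agree (h : IsoSpec θ e) (χ : ℕ → Fˣ) (hχ : chevD4.IsRootCharacter χ)
    (d : ↥(Cfsg.Geo.quadSimilarityGroup (F := F) ⇑(plusForm F 4)))
    {r : ℕ} (hr : r < 24) (c : F) (hc : (χ r : F) = c)
    (hK : ∀ t : F, (d : GL (Idx 4) F) * TG (rI r) (rJ r) t * (d : GL (Idx 4) F)⁻¹
      = TG (rI r) (rJ r) (c * t))
    (t : F) (g : ↥(chevD4.group F))
    (hg : ((g : GL chevD4.Idx F) : Matrix chevD4.Idx chevD4.Idx F) = chevD4.x F r t) :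
    e (diagAut hD4 χ hχ g) = Phi ⇑(plusForm F 4) d (e g) := by
  have h1 : diagAut hD4 χ hχ g = θ (chevD4.stGen F r (c * t)) := by
    apply h.eq_gen hr
    rw [diagAut_coe, Units.val_mul, Units.val_mul, charDiagGL_coe, charDiagGL_inv_coe, hg, ← hc]
    exact Cfsg.Agent.S2157.result chevD4 hD4 χ hχ r hr t
  rw [h1, h.eq_gen hr hg]
  obtain ⟨ω, hω, heω⟩ := h.spec r t hr
  obtain ⟨ω', hω', heω'⟩ := h.spec r (c * t) hr
  rw [heω, heω', Phi_mk]
  congr 1
  apply Subtype.ext
  apply Subtype.ext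
  rw [conjOmega_val, hω, hω', hK]


theorem simple_vals : chevD4.simple 0 = 18 ∧ chevD4.simple 1 = 14 ∧ chevD4.simple 2 = 13 ∧
    chevD4.simple 3 = 12 ∧ chevD4.neg 18 = 5 ∧ chevD4.neg 14 = 9 ∧ chevD4.neg 13 = 10 ∧
    chevD4.neg 12 = 11 := by
  decide

/-- the diagonal similarity attached to a character. -/
noncomputable def chSim (χ : ℕ → Fˣ) : ↥(Cfsg.Geo.quadSimilarityGroup (F := F) ⇑(plusForm F 4)) :=
  ⟨diagGL (chA χ) (chB χ), diagGL_mem_sim _ _ (chMu χ) (chA_mul_chB χ)⟩

/-- **a diagonal automorphism of `D₄(F)` corresponds to the automorphism of `PΩ⁺₈(F)` induced by a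
diagonal similarity.** -/
theorem IsoSpec.diagAut_eq (h : IsoSpec θ e) (χ : ℕ → Fˣ) (hχ : chevD4.IsRootCharacter χ)
    (g : ↥(chevD4.group F)) :
    e (diagAut hD4 χ hχ g) = Phi ⇑(plusForm F 4) (chSim χ) (e g) := by
  obtain ⟨α₂, hα₂⟩ : ∃ α₂ : ↥(chevD4.group F) ≃* ↥(chevD4.group F),
      α₂ = (e.trans (Phi ⇑(plusForm F 4) (chSim χ))).trans e.symm := ⟨_, rfl⟩
  have hα₂' : ∀ g, e (α₂ g) = Phi ⇑(plusForm F 4) (chSim χ) (e g) := by
    intro g
    rw [hα₂]
    show e (e.symm (Phi ⇑(plusForm F 4) (chSim χ) (e g))) = _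
    rw [MulEquiv.apply_symm_apply]
  have key : diagAut hD4 χ hχ = α₂ := by
    apply mulEquiv_ext_simpleGen good2_D4 T0_D4 T9_D4
    rintro g ⟨i, t, hi, hg⟩
    apply e.injective
    rw [hα₂']
    obtain ⟨s0, s1, s2, s3, n0, n1, n2, n3⟩ := simple_vals
    have hi' : i < 4 := hi
    have hneg : ∀ r, r < 24 → (χ (chevD4.neg r) : F) = (χ r : F)⁻¹ := by
      intro r hr
      rw [hχ.1 r hr, Units.val_inv_eq_inv_val]
    interval_cases i
    · rcases hg with hg | hg
      · rw [s0] at hg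
        exact h.agree χ hχ (chSim χ) (by norm_num) _ rfl (fun t => (conj_diag_TG χ t).1) t g hg
      · rw [s0, n0] at hg
        have := hneg 18 (by norm_num)
        rw [n0] at this
        exact h.agree χ hχ (chSim χ) (by norm_num) _ this
          (fun t => (conj_diag_TG χ t).2.2.2.2.1) t g hg
    · rcases hg with hg | hg
      · rw [s1] at hg
        exact h.agree χ hχ (chSim χ) (by norm_num) _ rfl (fun t => (conj_diag_TG χ t).2.1) t g hg
      · rw [s1, n1] at hg
        have := hneg 14 (by norm_num)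
        rw [n1] at this
        exact h.agree χ hχ (chSim χ) (by norm_num) _ this
          (fun t => (conj_diag_TG χ t).2.2.2.2.2.1) t g hg
    · rcases hg with hg | hg
      · rw [s2] at hg
        exact h.agree χ hχ (chSim χ) (by norm_num) _ rfl (fun t => (conj_diag_TG χ t).2.2.1) t g hg
      · rw [s2, n2] at hg
        have := hneg 13 (by norm_num)
        rw [n2] at this
        exact h.agree χ hχ (chSim χ) (by norm_num) _ this
          (fun t => (conj_diag_TG χ t).2.2.2.2.2.2.1) t g hg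
    · rcases hg with hg | hg
      · rw [s3] at hg
        exact h.agree χ hχ (chSim χ) (by norm_num) _ rfl (fun t => (conj_diag_TG χ t).2.2.2.1) t g hg
      · rw [s3, n3] at hg
        have := hneg 12 (by norm_num)
        rw [n3] at this
        exact h.agree χ hχ (chSim χ) (by norm_num) _ this
          (fun t => (conj_diag_TG χ t).2.2.2.2.2.2.2) t g hg
  rw [key, hα₂']

end Cfsg.Agent.Helper8.D4Nrm
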