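import Mathlib
import Cfsg.Agent.Helper8.D4NrmD
import Cfsg.Agent.Helper8.AutOQk
import Cfsg.Agent.Helper8.AutOQn
import Cfsg.Agent.Helper8.AutOzzi
import Cfsg.Agent.Helper8.AutD4A

set_option autoImplicit false
set_option linter.unusedSectionVars false
set_option linter.unusedVariables false
set_option linter.style.haveILetI false

/-!
# Normality of the inner-diagonal group of `PΩ⁺₈(q)`, part E: the theorem
-/

namespace Cfsg.Agent.Helper8.D4Nrm

open Module Cfsg Cfsg.Lie Matrix Cfsg.Agent.Helper7.D4O Cfsg.Agent.Helper8.AutO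
  Cfsg.Agent.Helper8.StdForms Cfsg.Agent.Helper7.Chev Cfsg.Agent.Helper8.AutImageOrth
  Cfsg.Agent.Helper8.D4Out Cfsg.Agent.Helper8.AutImagePsi Cfsg.Agent.Helper8.AutImage
  Cfsg.Agent.Helper8.AutImageKer Cfsg.Agent.Helper8.AutImageIdx Cfsg.Agent.Helper8.Cls
  Cfsg.Agent.Helper8.InnDiagGen Cfsg.Agent.Helper8.OmegaOdd Cfsg.Agent.Helper8.AutD4

variable {F : Type*} [Field F] [Fintype F]

/-- the order of the image of the diagonal automorphisms in `Out(D₄(q))`, `q` odd. -/
theorem card_Dbar {p f : ℕ} [Fact p.Prime] (hF : Fintype.card F = p ^ f) (hp : p ≠ 2) :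
    Nat.card (Dbar F) = 4 := by
  haveI : CharP F p := charP_of_card_eq_prime_pow hF
  have hf : 1 ≤ f := by
    rcases Nat.eq_zero_or_pos f with rfl | h
    · rw [pow_zero] at hF
      have := Fintype.one_lt_card (α := F)
      omega
    · exact h
  have hcardA := Cfsg.Agent.Helper7.FieldAutCard.card_ringAut p f hF
  have hcard := Cfsg.Agent.Helper8.AutD4.card_out_D4 (F := F) p f hF
  have hpodd : Odd p := (Fact.out : p.Prime).odd_of_ne_two hp
  have hqodd : Odd (p ^ f) := hpodd.pow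
  have hev : Even (p ^ f - 1) := by
    obtain ⟨k, hk⟩ := hqodd
    exact ⟨k, by omega⟩
  have hg : Nat.gcd 2 (p ^ f - 1) = 2 := Nat.gcd_eq_left hev.two_dvd
  rw [hg] at hcard
  have h1 := card_eq_of_complement (Dbar F) (PsiHom (F := F)) PsiHom_injective exists_decomp
    eq_one_of_mem_Dbar
  rw [hcard, Nat.card_prod, Nat.card_perm, Nat.card_fin, hcardA] at h1
  have h3 : Nat.factorial 3 = 6 := rfl
  rw [h3] at h1
  have hpos : 0 < 6 * f := by omega
  have h4 : 4 * (6 * f) = Nat.card (Dbar F) * (6 * f) := by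
    rw [← h1]; ring
  exact (Nat.eq_of_mul_eq_mul_right hpos h4).symm

/-- the index of the inner automorphisms in the image of the class-preserving similarities of
`PΩ⁺₈(q)`, `q` odd. -/
theorem relIndex_Inn_cpAut_four (h2 : (2 : F) ≠ 0) (hne : ∃ v, plusForm F 4 v ≠ 0) :
    (Cfsg.Inn (Cfsg.POmega F ⇑(plusForm F 4))).relIndex
      (cpAut (plusForm F 4) (plusForm_nondeg F 4) hne 4 (card_idx_plus 4)) = 4 := by
  classical
  have hQ := plusForm_nondeg F 4
  have hk := card_idx_plus 4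
  have h5 : 5 ≤ Fintype.card (Fin 4 ⊕ Fin 4) := by rw [hk]; norm_num
  have heven : Even (Fintype.card (Fin 4 ⊕ Fin 4)) := by rw [hk]; exact even_two_mul 4
  have hG := cpAut_eq_range_PhiD (plusForm F 4) hQ hne 4 hk h2
  have hd : ∃ d : ↥(Cfsg.Geo.quadSimilarityGroup (F := F) ⇑(plusForm F 4)),
      ¬ IsSquare ((mult ⇑(plusForm F 4) hne d : Fˣ) : F) := by
    obtain ⟨c, hc⟩ := exists_nonsquare (F := F) h2
    have hc0 : c ≠ 0 := by
      rintro rfl
      exact hc IsSquare.zero
    obtain ⟨d, hd⟩ := exists_sim_mult_plus 4 hne (Units.mk0 c hc0)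
    exact ⟨d, by rw [hd]; exact hc⟩
  have hd' := exists_d_of_nonsquare (plusForm F 4) h2 hQ hne 4 hk h5 hd
  have hPG : (Cfsg.psoAut F ⇑(plusForm F 4)).relIndex
      (cpAut (plusForm F 4) hQ hne 4 hk) = 2 := by
    rw [hG, MonoidHom.range_eq_map, ← Subgroup.relIndex_comap,
      comap_pso_eq (plusForm F 4) h2 hQ hne 4 hk h5,
      Subgroup.relIndex_top_right, index_ker_psi1D (plusForm F 4) h2 hQ hne 4 hk hd']
  have hneg := (neg_one_mem_Omega_plus_iff (F := F) (n := 4) (by norm_num) h2).mpr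
    (Or.inl ⟨2, rfl⟩)
  have hIP : (Cfsg.Inn (Cfsg.POmega F ⇑(plusForm F 4))).relIndex
      (Cfsg.psoAut F ⇑(plusForm F 4)) = 2 :=
    (relIndex_Inn_psoAut (plusForm F 4) h2 hQ h5 heven).1 hneg
  have hInnP : Cfsg.Inn (Cfsg.POmega F ⇑(plusForm F 4)) ≤ Cfsg.psoAut F ⇑(plusForm F 4) :=
    Inn_le_pso (plusForm F 4)
  have hPleG : Cfsg.psoAut F ⇑(plusForm F 4) ≤ cpAut (plusForm F 4) hQ hne 4 hk := by
    rw [hG, ← map_ker_psi1D (plusForm F 4) h2 hQ hne 4 hk h5, MonoidHom.range_eq_map]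
    exact Subgroup.map_mono le_top
  rw [← Subgroup.relIndex_mul_relIndex _ _ _ hInnP hPleG, hIP, hPG]


/-- the diagonal similarity of a character is class-preserving. -/
theorem clsChar_chSim (h2 : (2 : F) ≠ 0) (hne : ∃ v, plusForm F 4 v ≠ 0) (χ : ℕ → Fˣ) :
    clsChar (plusForm F 4) (plusForm_nondeg F 4) hne 4 (card_idx_plus 4) (chSim χ) = 1 :=
  Cfsg.Agent.Helper8.FldPl.clsChar_dgSim h2 hne (chA χ) (chB χ) (chMu χ) (chA_mul_chB χ)

set_option maxHeartbeats 1600000 in
/-- **the image of the class-preserving similarities of `PΩ⁺₈(q)` is normal in the automorphism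
group** (in particular, it is normalised by the triality automorphisms). -/
theorem cpAut_plus_normal_four {p f : ℕ} [Fact p.Prime] (hF : Fintype.card F = p ^ f)
    (hne : ∃ v, plusForm F 4 v ≠ 0) :
    (cpAut (plusForm F 4) (plusForm_nondeg F 4) hne 4 (card_idx_plus 4)).Normal := by
  classical
  haveI : CharP F p := charP_of_card_eq_prime_pow hF
  have hQ := plusForm_nondeg F 4
  have hk := card_idx_plus 4
  have h5 : 5 ≤ Fintype.card (Fin 4 ⊕ Fin 4) := by rw [hk]; norm_num
  haveI : Nontrivial (Fin 4 ⊕ Fin 4 → F) := inferInstance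
  have hIle := Inn_le_cpAut (plusForm F 4) hQ hne 4 hk
  by_cases h2 : (2 : F) = 0
  · have heq : cpAut (plusForm F 4) hQ hne 4 hk = Cfsg.Inn (Cfsg.POmega F ⇑(plusForm F 4)) :=
      le_antisymm (cpAut_le_Inn_of_char_two (plusForm F 4) hQ hne 4 hk h5 h2) hIle
    rw [heq]
    infer_instance
  have hp : p ≠ 2 := by
    rintro rfl
    apply h2
    have := CharP.cast_eq_zero F 2
    exact_mod_cast this
  obtain ⟨θ, e, hspec⟩ := exists_isoSpec F
  obtain ⟨C, hCdef⟩ : ∃ C : MulAut ↥(chevD4.group F) ≃* MulAut (Cfsg.POmega F ⇑(plusForm F 4)),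
      C = MulAut.congr e := ⟨_, rfl⟩
  have hCapp : ∀ (β : MulAut ↥(chevD4.group F)) (x : Cfsg.POmega F ⇑(plusForm F 4)),
      C β x = e (β (e.symm x)) := by
    intro β x
    rw [hCdef]
    rfl
  have hCinj : Function.Injective C.toMonoidHom := C.injective
  have hmapInn : (Cfsg.Inn ↥(chevD4.group F)).map C.toMonoidHom
      = Cfsg.Inn (Cfsg.POmega F ⇑(plusForm F 4)) := by
    rw [hCdef]
    exact map_congr_Inn e
  -- the diagonal automorphisms go to the class-preserving similarities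
  have hdiag : ∀ dd ∈ diagCl chevD4 F, C dd ∈ cpAut (plusForm F 4) hQ hne 4 hk := by
    intro dd hdd
    unfold diagCl at hdd
    induction hdd using Subgroup.closure_induction with
    | mem x hx =>
      obtain ⟨χ, hχ, rfl⟩ := eq_diagAut_of_isDiagonalAut chevD4 hD4 hx
      have h1 : C (diagAut hD4 χ hχ) = Phi ⇑(plusForm F 4) (chSim χ) := by
        apply MulEquiv.ext
        intro x
        rw [hCapp, hspec.diagAut_eq χ hχ, MulEquiv.apply_symm_apply]
      rw [h1]
      unfold cpAut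
      exact ⟨chSim χ, clsChar_chSim h2 hne χ, rfl⟩
    | one =>
      rw [map_one]
      exact one_mem _
    | mul x y _ _ hx hy =>
      rw [map_mul]
      exact mul_mem hx hy
    | inv x _ hx =>
      rw [map_inv]
      exact inv_mem hx
  -- the normal subgroup
  obtain ⟨N, hN⟩ : ∃ N : Subgroup (MulAut ↥(chevD4.group F)),
      N = (Dbar F).comap (QuotientGroup.mk' (Cfsg.Inn ↥(chevD4.group F))) := ⟨_, rfl⟩
  have hNnormal : N.Normal := by
    rw [hN]
    infer_instance
  have hInnN : Cfsg.Inn ↥(chevD4.group F) ≤ N := by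
    intro ι hι
    rw [hN, Subgroup.mem_comap, QuotientGroup.mk'_apply, (QuotientGroup.eq_one_iff ι).mpr hι]
    exact one_mem _
  have hN'normal : (N.map C.toMonoidHom).Normal :=
    hNnormal.map C.toMonoidHom C.surjective
  have hle : N.map C.toMonoidHom ≤ cpAut (plusForm F 4) hQ hne 4 hk := by
    rintro _ ⟨n, hn, rfl⟩
    have hn' : n ∈ N := hn
    rw [hN, Subgroup.mem_comap] at hn'
    unfold Dbar at hn'
    obtain ⟨dd, hdd, hddn⟩ := hn'
    have h1 : dd⁻¹ * n ∈ Cfsg.Inn ↥(chevD4.group F) := by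
      rw [← QuotientGroup.eq]
      exact hddn
    have h3 : C.toMonoidHom n = C dd * C (dd⁻¹ * n) := by
      show C n = _
      rw [← map_mul, mul_inv_cancel_left]
    rw [h3]
    apply mul_mem (hdiag dd hdd)
    apply hIle
    rw [← hmapInn]
    exact Subgroup.mem_map_of_mem _ h1
  -- the indices
  have hidxN : (Cfsg.Inn ↥(chevD4.group F)).relIndex N = 4 := by
    have h1 : Cfsg.Inn ↥(chevD4.group F)
        = (⊥ : Subgroup (Cfsg.Out ↥(chevD4.group F))).comap
          (QuotientGroup.mk' (Cfsg.Inn ↥(chevD4.group F))) := by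
      rw [MonoidHom.comap_bot, QuotientGroup.ker_mk']
    rw [h1, Subgroup.relIndex_comap, hN,
      Subgroup.map_comap_eq_self_of_surjective (QuotientGroup.mk'_surjective _),
      Subgroup.relIndex_bot_left]
    exact card_Dbar hF hp
  have hidxN' : (Cfsg.Inn (Cfsg.POmega F ⇑(plusForm F 4))).relIndex (N.map C.toMonoidHom) = 4 := by
    rw [← hmapInn, Subgroup.relIndex_map_map_of_injective _ _ hCinj, hidxN]
  have hInnN' : Cfsg.Inn (Cfsg.POmega F ⇑(plusForm F 4)) ≤ N.map C.toMonoidHom := by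
    rw [← hmapInn]
    exact Subgroup.map_mono hInnN
  have hidx := relIndex_Inn_cpAut_four h2 hne
  have hone : (N.map C.toMonoidHom).relIndex (cpAut (plusForm F 4) hQ hne 4 hk) = 1 := by
    have h1 := Subgroup.relIndex_mul_relIndex _ _ _ hInnN' hle
    rw [hidxN', hidx] at h1
    omega
  have heq : cpAut (plusForm F 4) hQ hne 4 hk = N.map C.toMonoidHom :=
    le_antisymm (Subgroup.relIndex_eq_one.mp hone) hle
  rw [heq]
  exact hN'normal

end Cfsg.Agent.Helper8.D4Nrm
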