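import Mathlib
import Cfsg.Agent.Lead.DicksonA

set_option autoImplicit false
set_option linter.unusedSimpArgs false
set_option linter.unusedVariables false

/-! # Dickson's lemma over general fields, part A: the generated group and its root sets -/

namespace Cfsg.Agent.Helper8.Dick

open Matrix Cfsg.Agent.Lead.DicksonA
open scoped MatrixGroups

variable {k K : Type*} [Field k] [Field K] [Algebra k K]

/-- The subgroup generated by the upper unitriangular matrices with entry in `k` and the lower
unitriangular matrices with entry in `k α`. -/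
def LL (k : Type*) {K : Type*} [Field k] [Field K] [Algebra k K] (α : K) : Subgroup SL(2, K) :=
  Subgroup.closure ({g | ∃ c : k, g = uu (algebraMap k K c)} ∪
    {g | ∃ c : k, g = ll (algebraMap k K c * α)})

theorem uu_mem_LL (α : K) (c : k) : uu (algebraMap k K c) ∈ LL k α :=
  Subgroup.subset_closure (Or.inl ⟨c, rfl⟩)

theorem ll_mem_LL (α : K) (c : k) : ll (algebraMap k K c * α) ∈ LL k α :=
  Subgroup.subset_closure (Or.inr ⟨c, rfl⟩)

/-- The matrices with all entries in a subfield. -/
def entSub (F : Subfield K) : Subgroup SL(2, K) where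
  carrier := {g | ∀ i j, g.1 i j ∈ F}
  mul_mem' := by
    intro g h hg hh i j
    fin_cases i <;> fin_cases j
    · show (g * h).1 0 0 ∈ F
      rw [mul_00]
      exact add_mem (mul_mem (hg 0 0) (hh 0 0)) (mul_mem (hg 0 1) (hh 1 0))
    · show (g * h).1 0 1 ∈ F
      rw [mul_01]
      exact add_mem (mul_mem (hg 0 0) (hh 0 1)) (mul_mem (hg 0 1) (hh 1 1))
    · show (g * h).1 1 0 ∈ F
      rw [mul_10]
      exact add_mem (mul_mem (hg 1 0) (hh 0 0)) (mul_mem (hg 1 1) (hh 1 0))
    · show (g * h).1 1 1 ∈ F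
      rw [mul_11]
      exact add_mem (mul_mem (hg 1 0) (hh 0 1)) (mul_mem (hg 1 1) (hh 1 1))
  one_mem' := by
    intro i j
    fin_cases i <;> fin_cases j <;> simp
  inv_mem' := by
    intro g hg i j
    fin_cases i <;> fin_cases j
    · show (g⁻¹).1 0 0 ∈ F
      rw [inv_00]; exact hg 1 1
    · show (g⁻¹).1 0 1 ∈ F
      rw [inv_01]; exact neg_mem (hg 0 1)
    · show (g⁻¹).1 1 0 ∈ F
      rw [inv_10]; exact neg_mem (hg 1 0)
    · show (g⁻¹).1 1 1 ∈ F
      rw [inv_11]; exact hg 0 0

theorem mem_entSub {F : Subfield K} {g : SL(2, K)} : g ∈ entSub F ↔ ∀ i j, g.1 i j ∈ F := Iff.rfl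

theorem uu_mem_entSub {F : Subfield K} {t : K} (ht : t ∈ F) : uu t ∈ entSub F := by
  intro i j
  fin_cases i <;> fin_cases j
  · exact one_mem F
  · exact ht
  · exact zero_mem F
  · exact one_mem F

theorem ll_mem_entSub {F : Subfield K} {t : K} (ht : t ∈ F) : ll t ∈ entSub F := by
  intro i j
  fin_cases i <;> fin_cases j
  · exact one_mem F
  · exact zero_mem F
  · exact ht
  · exact one_mem F

/-- A subgroup containing all unitriangular matrices with entries in `F` contains `entSub F`. -/
theorem entSub_le {F : Subfield K} {H : Subgroup SL(2, K)} (hu : ∀ t ∈ F, uu t ∈ H)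
    (hl : ∀ t ∈ F, ll t ∈ H) : entSub F ≤ H := by
  have key : ∀ g : SL(2, K), g ∈ entSub F → g.1 1 0 ≠ 0 → g ∈ H := by
    intro g hg hc
    have hdet := det_eq g
    have : g = uu ((g.1 0 0 - 1) / g.1 1 0) * ll (g.1 1 0) * uu ((g.1 1 1 - 1) / g.1 1 0) := by
      apply ext4
      · simp only [mul_00, mul_01, mul_10, mul_11, uu_00, uu_01, uu_10, uu_11, ll_00, ll_01,
          ll_10, ll_11]
        field_simp
        ring
      · simp only [mul_00, mul_01, mul_10, mul_11, uu_00, uu_01, uu_10, uu_11, ll_00, ll_01,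
          ll_10, ll_11]
        field_simp
        linear_combination (-1 : K) * hdet
      · simp only [mul_00, mul_01, mul_10, mul_11, uu_00, uu_01, uu_10, uu_11, ll_00, ll_01,
          ll_10, ll_11]
        ring
      · simp only [mul_00, mul_01, mul_10, mul_11, uu_00, uu_01, uu_10, uu_11, ll_00, ll_01,
          ll_10, ll_11]
        field_simp
        ring
    rw [this]
    refine mul_mem (mul_mem (hu _ ?_) (hl _ (hg 1 0))) (hu _ ?_)
    · exact div_mem (sub_mem (hg 0 0) (one_mem F)) (hg 1 0)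
    · exact div_mem (sub_mem (hg 1 1) (one_mem F)) (hg 1 0)
  intro g hg
  by_cases hc : g.1 1 0 = 0
  · have hdet := det_eq g
    rw [hc, mul_zero, sub_zero] at hdet
    have ha : g.1 0 0 ≠ 0 := left_ne_zero_of_mul_eq_one hdet
    have h1 : (ll (1 : K) * g).1 1 0 ≠ 0 := by
      rw [mul_10]
      simpa [hc] using ha
    have h2 : ll (1 : K) * g ∈ H :=
      key _ (mul_mem (ll_mem_entSub (one_mem F)) hg) h1
    have h3 : g = (ll (1 : K))⁻¹ * (ll (1 : K) * g) := by group
    rw [h3]
    exact mul_mem (inv_mem (hl _ (one_mem F))) h2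
  · exact key g hg hc

/-- The group `LL k α` has all entries in any subfield containing `k` and `α`. -/
theorem LL_le_entSub (α : K) {F : Subfield K} (hk : ∀ c : k, algebraMap k K c ∈ F) (hα : α ∈ F) :
    LL k α ≤ entSub F := by
  rw [LL, Subgroup.closure_le]
  rintro g (⟨c, rfl⟩ | ⟨c, rfl⟩)
  · exact uu_mem_entSub (hk c)
  · exact ll_mem_entSub (mul_mem (hk c) hα)

/-! ### Conjugation by `diag(c, 1)` -/

/-- The matrix of the conjugate by `diag(c, 1)`. -/
def dmat (c : K) (hc : c ≠ 0) (g : SL(2, K)) : SL(2, K) :=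
  ⟨!![g.1 0 0, c * g.1 0 1; c⁻¹ * g.1 1 0, g.1 1 1], by
    rw [Matrix.det_fin_two_of]
    have := det_eq g
    field_simp
    linear_combination this⟩

@[simp] theorem dmat_00 (c : K) (hc : c ≠ 0) (g : SL(2, K)) : (dmat c hc g).1 0 0 = g.1 0 0 := rfl
@[simp] theorem dmat_01 (c : K) (hc : c ≠ 0) (g : SL(2, K)) :
    (dmat c hc g).1 0 1 = c * g.1 0 1 := rfl
@[simp] theorem dmat_10 (c : K) (hc : c ≠ 0) (g : SL(2, K)) :
    (dmat c hc g).1 1 0 = c⁻¹ * g.1 1 0 := rfl
@[simp] theorem dmat_11 (c : K) (hc : c ≠ 0) (g : SL(2, K)) : (dmat c hc g).1 1 1 = g.1 1 1 := rfl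

/-- Conjugation by the diagonal matrix `diag(c, 1)`. -/
def dconj (c : K) (hc : c ≠ 0) : SL(2, K) →* SL(2, K) where
  toFun g := dmat c hc g
  map_one' := by
    apply ext4 <;> simp
  map_mul' g h := by
    apply ext4
    · simp only [mul_00, dmat_00, dmat_01, dmat_10]
      field_simp
    · simp only [mul_01, dmat_00, dmat_01, dmat_11]
      ring
    · simp only [mul_10, dmat_00, dmat_10, dmat_11]
      ring
    · simp only [mul_11, dmat_01, dmat_10, dmat_11]
      field_simp

@[simp] theorem dconj_apply (c : K) (hc : c ≠ 0) (g : SL(2, K)) : dconj c hc g = dmat c hc g := rfl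

theorem dconj_uu (c : K) (hc : c ≠ 0) (t : K) : dconj c hc (uu t) = uu (c * t) := by
  apply ext4 <;> simp

theorem dconj_ll (c : K) (hc : c ≠ 0) (t : K) : dconj c hc (ll t) = ll (c⁻¹ * t) := by
  apply ext4 <;> simp

theorem dconj_mem_LL (α : K) (c : k) (hc : algebraMap k K c ≠ 0) {g : SL(2, K)}
    (hg : g ∈ LL k α) : dconj (algebraMap k K c) hc g ∈ LL k α := by
  have : (LL k α).map (dconj (algebraMap k K c) hc) ≤ LL k α := by
    rw [LL, MonoidHom.map_closure, Subgroup.closure_le]
    rintro _ ⟨g, (⟨d, rfl⟩ | ⟨d, rfl⟩), rfl⟩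
    · rw [dconj_uu, ← map_mul]
      exact uu_mem_LL α _
    · rw [dconj_ll]
      have hc0 : c ≠ 0 := by
        rintro rfl
        exact hc (map_zero _)
      have : (algebraMap k K c)⁻¹ * (algebraMap k K d * α) = algebraMap k K (c⁻¹ * d) * α := by
        rw [map_mul, map_inv₀]
        ring
      rw [this]
      exact ll_mem_LL α _
  exact this (Subgroup.mem_map_of_mem _ hg)

/-- The upper root set, a `k`-subspace. -/
def Uset (k : Type*) {K : Type*} [Field k] [Field K] [Algebra k K] (α : K) : Submodule k K where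
  carrier := {t | uu t ∈ LL k α}
  add_mem' := by
    intro a b ha hb
    show uu (a + b) ∈ LL k α
    rw [← uu_mul]
    exact mul_mem ha hb
  zero_mem' := by
    show uu (0 : K) ∈ LL k α
    rw [uu_zero]
    exact one_mem _
  smul_mem' := by
    intro c t ht
    show uu (c • t) ∈ LL k α
    by_cases hc : c = 0
    · subst hc
      rw [zero_smul, uu_zero]
      exact one_mem _
    · have hc' : algebraMap k K c ≠ 0 := by
        rw [Ne, map_eq_zero]
        exact hc
      have := dconj_mem_LL α c hc' ht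
      rwa [dconj_uu, ← Algebra.smul_def] at this

/-- The lower root set, a `k`-subspace. -/
def Vset (k : Type*) {K : Type*} [Field k] [Field K] [Algebra k K] (α : K) : Submodule k K where
  carrier := {t | ll t ∈ LL k α}
  add_mem' := by
    intro a b ha hb
    show ll (a + b) ∈ LL k α
    rw [← ll_mul]
    exact mul_mem ha hb
  zero_mem' := by
    show ll (0 : K) ∈ LL k α
    rw [ll_zero]
    exact one_mem _
  smul_mem' := by
    intro c t ht
    show ll (c • t) ∈ LL k α
    by_cases hc : c = 0
    · subst hc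
      rw [zero_smul, ll_zero]
      exact one_mem _
    · have hc' : algebraMap k K c⁻¹ ≠ 0 := by
        rw [Ne, map_eq_zero]
        exact inv_ne_zero hc
      have := dconj_mem_LL α c⁻¹ hc' ht
      rwa [dconj_ll, map_inv₀, inv_inv, ← Algebra.smul_def] at this

theorem mem_Uset {α : K} {t : K} : t ∈ Uset k α ↔ uu t ∈ LL k α := Iff.rfl

theorem mem_Vset {α : K} {t : K} : t ∈ Vset k α ↔ ll t ∈ LL k α := Iff.rfl

theorem algebraMap_mem_Uset (α : K) (c : k) : algebraMap k K c ∈ Uset k α := uu_mem_LL α c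

theorem one_mem_Uset (α : K) : (1 : K) ∈ Uset k α := by
  have := algebraMap_mem_Uset (k := k) α 1
  rwa [map_one] at this

theorem smul_alpha_mem_Vset (α : K) (c : k) : algebraMap k K c * α ∈ Vset k α := ll_mem_LL α c

theorem alpha_mem_Vset (α : K) : α ∈ Vset k α := by
  have := smul_alpha_mem_Vset (k := k) α 1
  rwa [map_one, one_mul] at this

/-- The stabiliser of the upper root set, a `k`-subalgebra. -/
def stab (k : Type*) {K : Type*} [Field k] [Field K] [Algebra k K] (α : K) : Subalgebra k K where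
  carrier := {r | ∀ x ∈ Uset k α, r * x ∈ Uset k α}
  mul_mem' := by
    intro a b ha hb x hx
    rw [mul_assoc]
    exact ha _ (hb _ hx)
  one_mem' := by
    intro x hx
    rwa [one_mul]
  add_mem' := by
    intro a b ha hb x hx
    rw [add_mul]
    exact add_mem (ha _ hx) (hb _ hx)
  zero_mem' := by
    intro x _
    rw [zero_mul]
    exact zero_mem _
  algebraMap_mem' := by
    intro c x hx
    rw [← Algebra.smul_def]
    exact Submodule.smul_mem _ c hx

theorem mem_stab {α : K} {r : K} : r ∈ stab k α ↔ ∀ x ∈ Uset k α, r * x ∈ Uset k α := Iff.rfl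

theorem stab_le_Uset (α : K) {r : K} (hr : r ∈ stab k α) : r ∈ Uset k α := by
  have := hr 1 (one_mem_Uset α)
  rwa [mul_one] at this

/-- An upper triangular element of the group gives a stabiliser element. -/
theorem sq_mem_stab_of_triangular (α : K) {g : SL(2, K)} (hg : g ∈ LL k α) (h10 : g.1 1 0 = 0) :
    g.1 0 0 ^ 2 ∈ stab k α := by
  intro x hx
  show uu (g.1 0 0 ^ 2 * x) ∈ LL k α
  rw [← borel_conj_uu g h10 x]
  exact mul_mem (mul_mem hg hx) (inv_mem hg)

/-- If the upper root set contains a subfield containing `α`, so does the lower one. -/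
theorem Vset_of_Uset (α : K) (hα0 : α ≠ 0) {F : Subfield K} (hαF : α ∈ F)
    (hU : ∀ t ∈ F, t ∈ Uset k α) : ∀ t ∈ F, t ∈ Vset k α := by
  intro t ht
  show ll t ∈ LL k α
  have hx : -1 / α ∈ F := div_mem (neg_mem (one_mem F)) hαF
  have hn : uu (-1 / α) * ll α * uu (-1 / α) ∈ LL k α :=
    mul_mem (mul_mem (hU _ hx) (alpha_mem_Vset α)) (hU _ hx)
  have hy : -t / α ^ 2 ∈ F := div_mem (neg_mem ht) (pow_mem hαF 2)
  have hconj : (uu (-1 / α) * ll α * uu (-1 / α)) * uu (-t / α ^ 2) *
      (uu (-1 / α) * ll α * uu (-1 / α))⁻¹ = ll t := by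
    apply ext4
    · simp only [mul_00, mul_01, mul_10, mul_11, inv_00, inv_01, inv_10, inv_11, uu_00, uu_01,
        uu_10, uu_11, ll_00, ll_01, ll_10, ll_11]
      field_simp
      ring
    · simp only [mul_00, mul_01, mul_10, mul_11, inv_00, inv_01, inv_10, inv_11, uu_00, uu_01,
        uu_10, uu_11, ll_00, ll_01, ll_10, ll_11]
      field_simp
      ring
    · simp only [mul_00, mul_01, mul_10, mul_11, inv_00, inv_01, inv_10, inv_11, uu_00, uu_01,
        uu_10, uu_11, ll_00, ll_01, ll_10, ll_11]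
      field_simp
      ring
    · simp only [mul_00, mul_01, mul_10, mul_11, inv_00, inv_01, inv_10, inv_11, uu_00, uu_01,
        uu_10, uu_11, ll_00, ll_01, ll_10, ll_11]
      field_simp
      ring
  rw [← hconj]
  exact mul_mem (mul_mem hn (hU _ hy)) (inv_mem hn)

/-- The final step: if the upper root set contains a subfield `F ∋ α` containing `k`, the group
is exactly the group of matrices with entries in `F`. -/
theorem LL_eq_entSub (α : K) (hα0 : α ≠ 0) {F : Subfield K}
    (hk : ∀ c : k, algebraMap k K c ∈ F) (hαF : α ∈ F)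
    (hU : ∀ t ∈ F, t ∈ Uset k α) : LL k α = entSub F :=
  le_antisymm (LL_le_entSub α hk hαF) (entSub_le hU (Vset_of_Uset α hα0 hαF hU))

end Cfsg.Agent.Helper8.Dick
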