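import Mathlib
import Cfsg.Agent.Helper8.DickA

set_option autoImplicit false
set_option linter.unusedSimpArgs false
set_option linter.unusedVariables false

/-! # Dickson's lemma over general fields, part B: polynomial families and the Euclidean pivots -/

namespace Cfsg.Agent.Helper8.Dick

open Polynomial

variable {k : Type*} [Field k]

/-- Polynomial functions `k → k`. -/
def IsPolyFun (f : k → k) : Prop := ∃ q : k[X], ∀ t, f t = q.eval t

theorem IsPolyFun.const (c : k) : IsPolyFun (fun _ : k => c) := ⟨C c, by simp⟩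

theorem IsPolyFun.id : IsPolyFun (fun t : k => t) := ⟨X, by simp⟩

theorem IsPolyFun.add {f g : k → k} (hf : IsPolyFun f) (hg : IsPolyFun g) :
    IsPolyFun (fun t => f t + g t) := by
  obtain ⟨p, hp⟩ := hf
  obtain ⟨q, hq⟩ := hg
  exact ⟨p + q, fun t => by simp only [eval_add, hp, hq]⟩

theorem IsPolyFun.sub {f g : k → k} (hf : IsPolyFun f) (hg : IsPolyFun g) :
    IsPolyFun (fun t => f t - g t) := by
  obtain ⟨p, hp⟩ := hf
  obtain ⟨q, hq⟩ := hg
  exact ⟨p - q, fun t => by simp only [eval_sub, hp, hq]⟩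

theorem IsPolyFun.mul {f g : k → k} (hf : IsPolyFun f) (hg : IsPolyFun g) :
    IsPolyFun (fun t => f t * g t) := by
  obtain ⟨p, hp⟩ := hf
  obtain ⟨q, hq⟩ := hg
  exact ⟨p * q, fun t => by simp only [eval_mul, hp, hq]⟩

/-- A polynomial function that is nonzero somewhere has finitely many zeros. -/
theorem IsPolyFun.finite_zeros {f : k → k} (hf : IsPolyFun f) (t₀ : k) (h0 : f t₀ ≠ 0) :
    {t | f t = 0}.Finite := by
  obtain ⟨q, hq⟩ := hf
  have hq0 : q ≠ 0 := by
    rintro rfl
    apply h0
    rw [hq, eval_zero]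
  classical
  apply Set.Finite.subset (q.roots.toFinset.finite_toSet)
  intro t ht
  have ht' : q.eval t = 0 := by
    rw [← hq]; exact ht
  rw [Finset.mem_coe, Multiset.mem_toFinset, mem_roots hq0]
  exact ht'

/-- Families of polynomials whose coefficients are polynomial functions of the parameter. -/
def IsPolyFam (F : k → k[X]) : Prop := ∀ i, IsPolyFun (fun t => (F t).coeff i)

theorem IsPolyFam.const (P : k[X]) : IsPolyFam (fun _ : k => P) := fun i => IsPolyFun.const _

theorem IsPolyFam.add {F G : k → k[X]} (hF : IsPolyFam F) (hG : IsPolyFam G) :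
    IsPolyFam (fun t => F t + G t) := by
  intro i
  simp only [coeff_add]
  exact (hF i).add (hG i)

theorem IsPolyFam.sub {F G : k → k[X]} (hF : IsPolyFam F) (hG : IsPolyFam G) :
    IsPolyFam (fun t => F t - G t) := by
  intro i
  simp only [coeff_sub]
  exact (hF i).sub (hG i)

theorem IsPolyFam.C_mul {f : k → k} {F : k → k[X]} (hf : IsPolyFun f) (hF : IsPolyFam F) :
    IsPolyFam (fun t => C (f t) * F t) := by
  intro i
  simp only [coeff_C_mul]
  exact hf.mul (hF i)

theorem IsPolyFam.X_mul {F : k → k[X]} (hF : IsPolyFam F) :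
    IsPolyFam (fun t => X * F t) := by
  intro i
  cases i with
  | zero =>
    simp only [coeff_X_mul_zero]
    exact IsPolyFun.const 0
  | succ i =>
    simp only [coeff_X_mul]
    exact hF i

theorem IsPolyFam.divX {F : k → k[X]} (hF : IsPolyFam F) :
    IsPolyFam (fun t => divX (F t)) := by
  intro i
  simp only [coeff_divX]
  exact hF (i + 1)

theorem IsPolyFam.linear (P Q : k[X]) : IsPolyFam (fun t : k => P + C t * Q) :=
  (IsPolyFam.const P).add (IsPolyFam.C_mul IsPolyFun.id (IsPolyFam.const Q))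

/-! ### The fraction-free Euclidean step and the pivot product -/

/-- The first half of the Euclidean step at level `j + 1`. -/
noncomputable def stepP (j : ℕ) (P R : k[X]) : k[X] := C (R.coeff j) * P - C (P.coeff (j + 1)) * (X * R)

/-- The second component after the full Euclidean step at level `j + 1`. -/
noncomputable def stepR (j : ℕ) (P R : k[X]) : k[X] :=
  C ((stepP j P R).coeff j) * (C (R.coeff j) * R) - C (R.coeff j * R.coeff j) * stepP j P R

/-- The product of all the pivots of the Euclidean algorithm at level `j`. -/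
noncomputable def piv : ℕ → k[X] → k[X] → k
  | 0, P, _ => P.coeff 0
  | j + 1, P, R =>
    R.coeff j * (stepP j P R).coeff j *
      piv j (C ((stepP j P R).coeff j) * stepP j P R) (stepR j P R)

theorem piv_zero (P R : k[X]) : piv 0 P R = P.coeff 0 := rfl

theorem piv_succ (j : ℕ) (P R : k[X]) : piv (j + 1) P R =
    R.coeff j * (stepP j P R).coeff j *
      piv j (C ((stepP j P R).coeff j) * stepP j P R) (stepR j P R) := rfl

theorem IsPolyFam.stepP (j : ℕ) {F G : k → k[X]} (hF : IsPolyFam F) (hG : IsPolyFam G) :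
    IsPolyFam (fun t => Dick.stepP j (F t) (G t)) :=
  (IsPolyFam.C_mul (hG j) hF).sub (IsPolyFam.C_mul (hF (j + 1)) hG.X_mul)

theorem IsPolyFam.stepR (j : ℕ) {F G : k → k[X]} (hF : IsPolyFam F) (hG : IsPolyFam G) :
    IsPolyFam (fun t => Dick.stepR j (F t) (G t)) :=
  (IsPolyFam.C_mul ((IsPolyFam.stepP j hF hG) j) (IsPolyFam.C_mul (hG j) hG)).sub
    (IsPolyFam.C_mul ((hG j).mul (hG j)) (IsPolyFam.stepP j hF hG))

/-- The pivot product of a polynomial family is a polynomial function. -/
theorem isPolyFun_piv : ∀ (j : ℕ) {F G : k → k[X]}, IsPolyFam F → IsPolyFam G →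
    IsPolyFun (fun t => piv j (F t) (G t))
  | 0, F, G, hF, hG => hF 0
  | j + 1, F, G, hF, hG => by
    simp only [piv_succ]
    refine ((hG j).mul ((IsPolyFam.stepP j hF hG) j)).mul ?_
    exact isPolyFun_piv j (IsPolyFam.C_mul ((IsPolyFam.stepP j hF hG) j) (IsPolyFam.stepP j hF hG))
      (IsPolyFam.stepR j hF hG)

theorem stepP_smul (j : ℕ) (b : k) (P R : k[X]) :
    stepP j (C b * P) (C b * R) = C (b ^ 2) * stepP j P R := by
  unfold stepP
  rw [coeff_C_mul, coeff_C_mul, C_mul, C_mul, C_pow]
  ring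

theorem stepR_smul (j : ℕ) (b : k) (P R : k[X]) :
    stepR j (C b * P) (C b * R) = C (b ^ 4) * stepR j P R := by
  unfold stepR
  rw [stepP_smul, coeff_C_mul, coeff_C_mul]
  simp only [C_mul, C_pow]
  ring

/-- Scaling both polynomials scales the pivot product by a power. -/
theorem piv_smul : ∀ j : ℕ, ∃ m : ℕ, ∀ (b : k) (P R : k[X]),
    piv j (C b * P) (C b * R) = b ^ m * piv j P R
  | 0 => ⟨1, fun b P R => by rw [piv_zero, piv_zero, coeff_C_mul, pow_one]⟩
  | j + 1 => by
    obtain ⟨m, hm⟩ := piv_smul j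
    refine ⟨3 + 4 * m, fun b P R => ?_⟩
    rw [piv_succ, piv_succ, stepP_smul, stepR_smul, coeff_C_mul, coeff_C_mul]
    have : C (b ^ 2 * (stepP j P R).coeff j) * (C (b ^ 2) * stepP j P R) =
        C (b ^ 4) * (C ((stepP j P R).coeff j) * stepP j P R) := by
      simp only [C_mul, C_pow]
      ring
    rw [this, hm]
    ring

theorem piv_smul_ne_zero (j : ℕ) {b : k} (hb : b ≠ 0) {P R : k[X]} (h : piv j P R ≠ 0) :
    piv j (C b * P) (C b * R) ≠ 0 := by
  obtain ⟨m, hm⟩ := piv_smul (k := k) j
  rw [hm]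
  exact mul_ne_zero (pow_ne_zero _ hb) h

/-! ### The base pairs -/

/-- The base pair at level `j`: the first column of the word with all parameters one. -/
noncomputable def basePR : ℕ → k[X] × k[X]
  | 0 => (1, 0)
  | j + 1 => ((basePR j).1 + X * ((basePR j).2 + (basePR j).1), (basePR j).2 + (basePR j).1)

theorem basePR_spec : ∀ j : ℕ, (∀ m, j < m → (basePR (k := k) j).1.coeff m = 0) ∧
    (∀ m, j ≤ m → (basePR (k := k) j).2.coeff m = 0) ∧ (basePR (k := k) j).1.coeff j = 1 ∧
    piv j (basePR (k := k) j).1 (basePR j).2 = 1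
  | 0 => by
    refine ⟨fun m hm => ?_, fun m _ => ?_, ?_, ?_⟩
    · show (1 : k[X]).coeff m = 0
      rw [coeff_one, if_neg (by omega)]
    · show (0 : k[X]).coeff m = 0
      simp
    · show (1 : k[X]).coeff 0 = 1
      simp
    · show (1 : k[X]).coeff 0 = 1
      simp
  | j + 1 => by
    obtain ⟨h1, h2, h3, h4⟩ := basePR_spec j
    set P := (basePR (k := k) j).1 with hP
    set R := (basePR (k := k) j).2 with hR
    have e1 : (basePR (k := k) (j + 1)).1 = P + X * (R + P) := rfl
    have e2 : (basePR (k := k) (j + 1)).2 = R + P := rfl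
    have hr : (R + P).coeff j = 1 := by rw [coeff_add, h2 j le_rfl, h3, zero_add]
    have hp : (P + X * (R + P)).coeff (j + 1) = 1 := by
      rw [coeff_add, coeff_X_mul, hr, h1 (j + 1) (by omega), zero_add]
    have hs : stepP j (P + X * (R + P)) (R + P) = P := by
      unfold stepP
      rw [hr, hp]
      simp
    have hsR : stepR j (P + X * (R + P)) (R + P) = R := by
      unfold stepR
      rw [hs, hr, h3]
      simp
    refine ⟨fun m hm => ?_, fun m hm => ?_, ?_, ?_⟩
    · rw [e1]
      obtain ⟨m', rfl⟩ : ∃ m', m = m' + 1 := ⟨m - 1, by omega⟩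
      rw [coeff_add, coeff_X_mul, coeff_add, h1 _ (by omega), h1 _ (by omega), h2 _ (by omega)]
      simp
    · rw [e2, coeff_add, h1 _ (by omega), h2 _ (by omega)]
      simp
    · rw [e1]; exact hp
    · rw [e1, e2, piv_succ, hs, hsR, hr, h3]
      simp [h4]

end Cfsg.Agent.Helper8.Dick
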