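import Mathlib
import Cfsg.Agent.Helper8.DickB

set_option autoImplicit false
set_option linter.unusedSimpArgs false
set_option linter.unusedVariables false

/-! # Dickson's lemma over general fields, part C: reaching first columns by words -/

namespace Cfsg.Agent.Helper8.Dick

open Polynomial Matrix Cfsg.Agent.Lead.DicksonA
open scoped MatrixGroups

variable {k K : Type*} [Field k] [Field K] [Algebra k K]

/-- The vector `(x, y)` is, up to a nonzero scalar of `k`, the first column of a group element. -/
def Reach (k : Type*) {K : Type*} [Field k] [Field K] [Algebra k K] (α : K) (x y : K) : Prop :=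
  ∃ g ∈ LL k α, ∃ a : k, a ≠ 0 ∧ g.1 0 0 = algebraMap k K a * x ∧ g.1 1 0 = algebraMap k K a * y

theorem reach_one (α : K) : Reach k α 1 0 :=
  ⟨1, one_mem _, 1, one_ne_zero, by simp, by simp⟩

theorem reach_scale (α : K) {x y : K} (b : k) (hb : b ≠ 0) (h : Reach k α x y) :
    Reach k α (algebraMap k K b * x) (algebraMap k K b * y) := by
  obtain ⟨g, hg, a, ha, h0, h1⟩ := h
  have hb' : algebraMap k K b ≠ 0 := by rwa [Ne, map_eq_zero]
  refine ⟨g, hg, a / b, div_ne_zero ha hb, ?_, ?_⟩
  · rw [h0, map_div₀]; field_simp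
  · rw [h1, map_div₀]; field_simp

theorem reach_u (α : K) {x y : K} (c : k) (h : Reach k α x y) :
    Reach k α (x + algebraMap k K c * y) y := by
  obtain ⟨g, hg, a, ha, h0, h1⟩ := h
  refine ⟨uu (algebraMap k K c) * g, mul_mem (uu_mem_LL α c) hg, a, ha, ?_, ?_⟩
  · rw [mul_00, uu_00, uu_01, h0, h1]; ring
  · rw [mul_10, uu_10, uu_11, h1]; ring

theorem reach_l (α : K) {x y : K} (d : k) (h : Reach k α x y) :
    Reach k α x (y + algebraMap k K d * α * x) := by
  obtain ⟨g, hg, a, ha, h0, h1⟩ := h
  refine ⟨ll (algebraMap k K d * α) * g, mul_mem (ll_mem_LL α d) hg, a, ha, ?_, ?_⟩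
  · rw [mul_00, ll_00, ll_01, h0]; ring
  · rw [mul_10, ll_10, ll_11, h0, h1]; ring

theorem reach_congr (α : K) {x y x' y' : K} (h : Reach k α x y) (hx : x = x') (hy : y = y') :
    Reach k α x' y' := by
  subst hx; subst hy; exact h

/-- A pair of polynomials is reached when its value at `α` (the second one multiplied by `α`) is. -/
def ReachP (α : K) (P R : k[X]) : Prop := Reach k α (aeval α P) (α * aeval α R)

/-- Nonvanishing of the pivot product implies reachability. -/
theorem reach_of_piv (α : K) : ∀ (j : ℕ) (P R : k[X]), (∀ m, j < m → P.coeff m = 0) →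
    (∀ m, j ≤ m → R.coeff m = 0) → piv j P R ≠ 0 → ReachP α P R
  | 0, P, R, hP, hR, hpiv => by
    have hR0 : R = 0 := by
      ext m
      rw [hR m (Nat.zero_le _), coeff_zero]
    have hP0 : P = C (P.coeff 0) := by
      ext m
      cases m with
      | zero => simp
      | succ m => rw [hP _ (Nat.succ_pos _), coeff_C_succ]
    rw [piv_zero] at hpiv
    have := reach_scale α (P.coeff 0) hpiv (reach_one (k := k) α)
    refine reach_congr α this ?_ ?_
    · rw [hP0, aeval_C, mul_one, coeff_C_zero]
    · rw [hR0, map_zero, mul_zero, mul_zero]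
  | j + 1, P, R, hP, hR, hpiv => by
    rw [piv_succ] at hpiv
    set r := R.coeff j with hr
    set p := P.coeff (j + 1) with hp
    set P' := stepP j P R with hP'
    set p' := P'.coeff j with hp'
    have hr0 : r ≠ 0 := fun h => hpiv (by rw [h, zero_mul, zero_mul])
    have hp'0 : p' ≠ 0 := fun h => hpiv (by rw [h, mul_zero, zero_mul])
    have hpiv' : piv j (C p' * P') (stepR j P R) ≠ 0 := fun h => hpiv (by rw [h, mul_zero])
    have hP'c : ∀ m, j < m → P'.coeff m = 0 := by
      intro m hm
      obtain ⟨m', rfl⟩ : ∃ m', m = m' + 1 := ⟨m - 1, by omega⟩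
      rw [hP', stepP, coeff_sub, coeff_C_mul, coeff_C_mul, coeff_X_mul]
      rcases Nat.lt_or_ge j m' with h | h
      · rw [hP (m' + 1) (by omega), hR m' (by omega)]; ring
      · have : m' = j := by omega
        subst this
        ring
    have hR'c : ∀ m, j ≤ m → (stepR j P R).coeff m = 0 := by
      intro m hm
      rw [stepR, coeff_sub, coeff_C_mul, coeff_C_mul, coeff_C_mul]
      rcases Nat.lt_or_ge j m with h | h
      · rw [hR m (by omega), hP'c m h]; ring
      · have : m = j := by omega
        subst this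
        ring
    have hP''c : ∀ m, j < m → (C p' * P').coeff m = 0 := by
      intro m hm
      rw [coeff_C_mul, hP'c m hm, mul_zero]
    have ih := reach_of_piv α j (C p' * P') (stepR j P R) hP''c hR'c hpiv'
    -- unwinding
    set x := aeval α P with hx
    set y := α * aeval α R with hy
    have hx' : aeval α P' = algebraMap k K r * x - algebraMap k K p * y := by
      rw [hP', stepP, map_sub, map_mul, map_mul, map_mul, aeval_C, aeval_C, aeval_X]
    have hrK : algebraMap k K r ≠ 0 := by rwa [Ne, map_eq_zero]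
    have hpK : algebraMap k K p' ≠ 0 := by rwa [Ne, map_eq_zero]
    have hR' : α * aeval α (stepR j P R) = algebraMap k K p' * (algebraMap k K r * y) -
        algebraMap k K (r * r) * α * aeval α P' := by
      rw [stepR, map_sub, map_mul, map_mul, map_mul, aeval_C, aeval_C, aeval_C]
      ring
    unfold ReachP at ih
    rw [map_mul, aeval_C, hR'] at ih
    -- scale by `p'⁻¹`
    have s1 := reach_scale α p'⁻¹ (inv_ne_zero hp'0) ih
    -- `l`-move
    have s2 := reach_l α (r * r / p') s1
    have s3 : Reach k α (aeval α P') (algebraMap k K r * y) := by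
      refine reach_congr α s2 ?_ ?_
      · rw [map_inv₀]; field_simp
      · rw [map_inv₀, map_div₀, map_mul]; field_simp; ring
    -- scale by `r⁻¹`
    have s4 := reach_scale α r⁻¹ (inv_ne_zero hr0) s3
    have s5 := reach_u α (p / r) s4
    refine reach_congr α s5 ?_ ?_
    · rw [hx', map_inv₀, map_div₀]; field_simp; ring
    · rw [map_inv₀]; field_simp; rfl

/-! ### The wrap-around step -/

/-- The pivot product for a general vector `(P(α), Q(α))`, where `T` represents `α P(α)`. -/
noncomputable def pivW (j : ℕ) (P Q T : k[X]) : k :=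
  T.coeff 0 * piv j (C (T.coeff 0) * P) (divX (C (T.coeff 0) * Q - C (Q.coeff 0) * T))

theorem isPolyFun_pivW (j : ℕ) {F G H : k → k[X]} (hF : IsPolyFam F) (hG : IsPolyFam G)
    (hH : IsPolyFam H) : IsPolyFun (fun t => pivW j (F t) (G t) (H t)) := by
  unfold pivW
  refine (hH 0).mul (isPolyFun_piv j (IsPolyFam.C_mul (hH 0) hF) ?_)
  exact ((IsPolyFam.C_mul (hH 0) hG).sub (IsPolyFam.C_mul (hG 0) hH)).divX

theorem reach_of_pivW (α : K) (j : ℕ) (P Q T : k[X]) (hP : ∀ m, j < m → P.coeff m = 0)
    (hQ : ∀ m, j < m → Q.coeff m = 0) (hT : ∀ m, j < m → T.coeff m = 0)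
    (hTα : aeval α T = α * aeval α P) (hpiv : pivW j P Q T ≠ 0) :
    Reach k α (aeval α P) (aeval α Q) := by
  unfold pivW at hpiv
  set e := T.coeff 0 with he
  set f := Q.coeff 0 with hf
  set Q' := C e * Q - C f * T with hQ'
  have he0 : e ≠ 0 := fun h => hpiv (by rw [h, zero_mul])
  have hpiv' : piv j (C e * P) (divX Q') ≠ 0 := fun h => hpiv (by rw [h, mul_zero])
  have hQ'0 : Q'.coeff 0 = 0 := by
    rw [hQ', coeff_sub, coeff_C_mul, coeff_C_mul]
    ring
  have hQ'X : Q' = X * divX Q' := by
    have := divX_mul_X_add Q'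
    rw [hQ'0, C_0, add_zero] at this
    rw [mul_comm]; exact this.symm
  have h1 : ∀ m, j < m → (C e * P).coeff m = 0 := by
    intro m hm
    rw [coeff_C_mul, hP m hm, mul_zero]
  have h2 : ∀ m, j ≤ m → (divX Q').coeff m = 0 := by
    intro m hm
    rw [coeff_divX, hQ', coeff_sub, coeff_C_mul, coeff_C_mul, hQ (m + 1) (by omega),
      hT (m + 1) (by omega)]
    ring
  have ih := reach_of_piv α j (C e * P) (divX Q') h1 h2 hpiv'
  unfold ReachP at ih
  have h3 : α * aeval α (divX Q') = aeval α Q' := by
    conv_rhs => rw [hQ'X]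
    rw [map_mul, aeval_X]
  have h4 : aeval α Q' = algebraMap k K e * aeval α Q - algebraMap k K f * (α * aeval α P) := by
    rw [hQ', map_sub, map_mul, map_mul, aeval_C, aeval_C, hTα]
  rw [h3, h4, map_mul, aeval_C] at ih
  have heK : algebraMap k K e ≠ 0 := by rwa [Ne, map_eq_zero]
  have s1 := reach_scale α e⁻¹ (inv_ne_zero he0) ih
  have s2 := reach_l α (f / e) s1
  refine reach_congr α s2 ?_ ?_
  · rw [map_inv₀]; field_simp
  · rw [map_inv₀, map_div₀]; field_simp; ring

end Cfsg.Agent.Helper8.Dick
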