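import Mathlib
import Cfsg.Agent.Helper8.DickC

set_option autoImplicit false
set_option linter.unusedSimpArgs false
set_option linter.unusedVariables false
set_option linter.unusedSectionVars false

/-! # Dickson's lemma over general fields, part D: the infinite case -/

namespace Cfsg.Agent.Helper8.Dick

open Polynomial Matrix Cfsg.Agent.Lead.DicksonA
open scoped MatrixGroups

variable {k K : Type*} [Field k] [Field K] [Algebra k K]

/-- Two reachable proportional vectors give a stabiliser element. -/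
theorem sq_mem_stab_of_reach (α : K) {x y lam : K} (h0 : Reach k α x y)
    (h1 : Reach k α (lam * x) (lam * y)) : lam ^ 2 ∈ stab k α := by
  obtain ⟨g0, hg0, a0, ha0, e00, e10⟩ := h0
  obtain ⟨g1, hg1, a1, ha1, f00, f10⟩ := h1
  have ha0K : algebraMap k K a0 ≠ 0 := by rwa [Ne, map_eq_zero]
  have hdet := det_eq g0
  rw [e00, e10] at hdet
  have hg : g0⁻¹ * g1 ∈ LL k α := mul_mem (inv_mem hg0) hg1
  have h10 : (g0⁻¹ * g1).1 1 0 = 0 := by
    rw [mul_10, inv_10, inv_11, e00, e10, f00, f10]
    ring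
  have h00 : (g0⁻¹ * g1).1 0 0 = algebraMap k K (a1 / a0) * lam := by
    rw [mul_00, inv_00, inv_01, f00, f10, map_div₀]
    field_simp
    linear_combination (algebraMap k K a1 * lam) * hdet
  have := sq_mem_stab_of_triangular α hg h10
  rw [h00, mul_pow] at this
  have h2 : lam ^ 2 = algebraMap k K ((a0 / a1) ^ 2) * (algebraMap k K (a1 / a0) ^ 2 * lam ^ 2) := by
    have ha1K : algebraMap k K a1 ≠ 0 := by rwa [Ne, map_eq_zero]
    rw [map_pow, map_div₀, map_div₀]
    field_simp
  rw [h2]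
  exact mul_mem (Subalgebra.algebraMap_mem _ _) this

/-- From `(1 + t μ)² ∈ S` for two distinct nonzero `t` we get `μ ∈ S`. -/
theorem mem_of_sq_mem (h2 : (2 : k) ≠ 0) (S : Subalgebra k K) (μ : K) {t₁ t₂ : k} (ht₁ : t₁ ≠ 0)
    (ht₂ : t₂ ≠ 0) (h12 : t₁ ≠ t₂) (h1 : (1 + algebraMap k K t₁ * μ) ^ 2 ∈ S)
    (h2' : (1 + algebraMap k K t₂ * μ) ^ 2 ∈ S) : μ ∈ S := by
  have ht₁K : algebraMap k K t₁ ≠ 0 := by rwa [Ne, map_eq_zero]
  have ht₂K : algebraMap k K t₂ ≠ 0 := by rwa [Ne, map_eq_zero]
  have h12K : algebraMap k K (t₁ - t₂) ≠ 0 := by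
    rw [Ne, map_eq_zero]; exact sub_ne_zero.2 h12
  have h2K : algebraMap k K 2 ≠ 0 := by rwa [Ne, map_eq_zero]
  -- `2 μ + t μ² ∈ S`
  have a1 : algebraMap k K 2 * μ + algebraMap k K t₁ * μ ^ 2 ∈ S := by
    have : algebraMap k K 2 * μ + algebraMap k K t₁ * μ ^ 2 =
        algebraMap k K t₁⁻¹ * ((1 + algebraMap k K t₁ * μ) ^ 2 - 1) := by
      rw [map_inv₀, map_ofNat]; field_simp; ring
    rw [this]
    exact mul_mem (Subalgebra.algebraMap_mem _ _) (sub_mem h1 (one_mem S))
  have a2 : algebraMap k K 2 * μ + algebraMap k K t₂ * μ ^ 2 ∈ S := by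
    have : algebraMap k K 2 * μ + algebraMap k K t₂ * μ ^ 2 =
        algebraMap k K t₂⁻¹ * ((1 + algebraMap k K t₂ * μ) ^ 2 - 1) := by
      rw [map_inv₀, map_ofNat]; field_simp; ring
    rw [this]
    exact mul_mem (Subalgebra.algebraMap_mem _ _) (sub_mem h2' (one_mem S))
  have a3 : μ ^ 2 ∈ S := by
    have : μ ^ 2 = algebraMap k K (t₁ - t₂)⁻¹ *
        ((algebraMap k K 2 * μ + algebraMap k K t₁ * μ ^ 2) -
          (algebraMap k K 2 * μ + algebraMap k K t₂ * μ ^ 2)) := by
      rw [map_inv₀]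
      rw [map_sub] at h12K ⊢
      field_simp
      ring
    rw [this]
    exact mul_mem (Subalgebra.algebraMap_mem _ _) (sub_mem a1 a2)
  have a4 : μ = algebraMap k K 2⁻¹ * ((algebraMap k K 2 * μ + algebraMap k K t₁ * μ ^ 2) -
      algebraMap k K t₁ * μ ^ 2) := by
    rw [map_inv₀]; field_simp; ring
  rw [a4]
  exact mul_mem (Subalgebra.algebraMap_mem _ _)
    (sub_mem a1 (mul_mem (Subalgebra.algebraMap_mem _ _) a3))

section Infinite

variable (α : K) (hα : IsIntegral k α) (hα0 : α ≠ 0)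

/-- The base polynomials for the wrap-around step. -/
noncomputable def baseP (k : Type*) {K : Type*} [Field k] [Field K] [Algebra k K] (α : K) : k[X] :=
  (basePR (k := k) ((minpoly k α).natDegree - 1)).1

noncomputable def baseT (k : Type*) {K : Type*} [Field k] [Field K] [Algebra k K] (α : K) : k[X] :=
  X * baseP k α - minpoly k α

noncomputable def baseQ (k : Type*) {K : Type*} [Field k] [Field K] [Algebra k K] (α : K) : k[X] :=
  X * (basePR (k := k) ((minpoly k α).natDegree - 1)).2 + baseT k α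

include hα in
theorem baseP_coeff {m : ℕ} (hm : (minpoly k α).natDegree - 1 < m) : (baseP k α).coeff m = 0 :=
  (basePR_spec _).1 m hm

include hα in
theorem baseT_coeff {m : ℕ} (hm : (minpoly k α).natDegree - 1 < m) : (baseT k α).coeff m = 0 := by
  have hn := minpoly.natDegree_pos hα
  obtain ⟨m', rfl⟩ : ∃ m', m = m' + 1 := ⟨m - 1, by omega⟩
  rw [baseT, coeff_sub, coeff_X_mul]
  rcases Nat.lt_or_ge ((minpoly k α).natDegree - 1) m' with h | h
  · rw [baseP_coeff α hα h, coeff_eq_zero_of_natDegree_lt (by omega), sub_zero]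
  · have : m' = (minpoly k α).natDegree - 1 := by omega
    subst this
    have e : (minpoly k α).natDegree - 1 + 1 = (minpoly k α).natDegree := by omega
    rw [e, (minpoly.monic hα).coeff_natDegree, baseP, (basePR_spec _).2.2.1, sub_self]

include hα in
theorem baseQ_coeff {m : ℕ} (hm : (minpoly k α).natDegree - 1 < m) : (baseQ k α).coeff m = 0 := by
  obtain ⟨m', rfl⟩ : ∃ m', m = m' + 1 := ⟨m - 1, by omega⟩
  rw [baseQ, coeff_add, coeff_X_mul, baseT_coeff α hα hm, (basePR_spec _).2.1 m' (by omega),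
    add_zero]

theorem baseT_aeval : aeval α (baseT k α) = α * aeval α (baseP k α) := by
  rw [baseT, map_sub, map_mul, aeval_X, minpoly.aeval, sub_zero]

include hα hα0 in
theorem baseT_coeff_zero : (baseT k α).coeff 0 ≠ 0 := by
  rw [baseT, coeff_sub, coeff_X_mul_zero, zero_sub, neg_ne_zero]
  exact minpoly.coeff_zero_ne_zero hα hα0

include hα hα0 in
theorem base_pivW : pivW ((minpoly k α).natDegree - 1) (baseP k α) (baseQ k α) (baseT k α) ≠ 0 := by
  have he := baseT_coeff_zero α hα hα0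
  unfold pivW
  have hQ0 : (baseQ k α).coeff 0 = (baseT k α).coeff 0 := by
    rw [baseQ, coeff_add, coeff_X_mul_zero, zero_add]
  have hd : divX (C ((baseT k α).coeff 0) * baseQ k α - C ((baseQ k α).coeff 0) * baseT k α) =
      C ((baseT k α).coeff 0) * (basePR (k := k) ((minpoly k α).natDegree - 1)).2 := by
    rw [hQ0]
    ext m
    rw [coeff_divX, coeff_sub, coeff_C_mul, coeff_C_mul, coeff_C_mul, baseQ, coeff_add,
      coeff_X_mul]
    ring
  rw [hd]
  refine mul_ne_zero he (piv_smul_ne_zero _ he ?_)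
  rw [baseP, (basePR_spec _).2.2.2]
  exact one_ne_zero

include hα in
theorem modByMonic_coeff (A : k[X]) {m : ℕ} (hm : (minpoly k α).natDegree - 1 < m) :
    (A %ₘ minpoly k α).coeff m = 0 := by
  have hn := minpoly.natDegree_pos hα
  apply coeff_eq_zero_of_degree_lt
  refine lt_of_lt_of_le (degree_modByMonic_lt A (minpoly.monic hα)) ?_
  rw [degree_eq_natDegree (minpoly.ne_zero hα)]
  exact_mod_cast (by omega : (minpoly k α).natDegree ≤ m)

theorem aeval_modByMonic (A : k[X]) : aeval α (A %ₘ minpoly k α) = aeval α A :=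
  aeval_modByMonic_eq_self_of_root (minpoly.aeval k α)

include hα hα0 in
/-- For all but finitely many `t`, `(1 + t μ)²` stabilises the upper root set. -/
theorem finite_bad (M : k[X]) :
    {t : k | ¬ (1 + algebraMap k K t * aeval α M) ^ 2 ∈ stab k α}.Finite := by
  set j := (minpoly k α).natDegree - 1 with hj
  set ΔP := (M * baseP k α) %ₘ minpoly k α with hΔP
  set ΔQ := (M * baseQ k α) %ₘ minpoly k α with hΔQ
  set ΔT := (M * baseT k α) %ₘ minpoly k α with hΔT
  have hfun : IsPolyFun (fun t : k => pivW j (baseP k α + C t * ΔP) (baseQ k α + C t * ΔQ)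
      (baseT k α + C t * ΔT)) :=
    isPolyFun_pivW j (IsPolyFam.linear _ _) (IsPolyFam.linear _ _) (IsPolyFam.linear _ _)
  have h0 : (fun t : k => pivW j (baseP k α + C t * ΔP) (baseQ k α + C t * ΔQ)
      (baseT k α + C t * ΔT)) 0 ≠ 0 := by
    simp only [C_0, zero_mul, add_zero]
    exact base_pivW α hα hα0
  have hreach0 : Reach k α (aeval α (baseP k α)) (aeval α (baseQ k α)) :=
    reach_of_pivW α j _ _ _ (fun m hm => baseP_coeff α hα hm) (fun m hm => baseQ_coeff α hα hm)
      (fun m hm => baseT_coeff α hα hm) (baseT_aeval α) (base_pivW α hα hα0)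
  refine (hfun.finite_zeros 0 h0).subset ?_
  intro t ht
  by_contra hne
  apply ht
  have hne' : pivW j (baseP k α + C t * ΔP) (baseQ k α + C t * ΔQ) (baseT k α + C t * ΔT) ≠ 0 := hne
  have hr := reach_of_pivW α j _ _ _ ?_ ?_ ?_ ?_ hne'
  · have e1 : aeval α (baseP k α + C t * ΔP) =
        (1 + algebraMap k K t * aeval α M) * aeval α (baseP k α) := by
      rw [map_add, map_mul, aeval_C, hΔP, aeval_modByMonic, map_mul]; ring
    have e2 : aeval α (baseQ k α + C t * ΔQ) =
        (1 + algebraMap k K t * aeval α M) * aeval α (baseQ k α) := by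
      rw [map_add, map_mul, aeval_C, hΔQ, aeval_modByMonic, map_mul]; ring
    rw [e1, e2] at hr
    exact sq_mem_stab_of_reach α hreach0 hr
  · intro m hm
    rw [coeff_add, coeff_C_mul, baseP_coeff α hα hm, hΔP, modByMonic_coeff α hα _ hm]; ring
  · intro m hm
    rw [coeff_add, coeff_C_mul, baseQ_coeff α hα hm, hΔQ, modByMonic_coeff α hα _ hm]; ring
  · intro m hm
    rw [coeff_add, coeff_C_mul, baseT_coeff α hα hm, hΔT, modByMonic_coeff α hα _ hm]; ring
  · rw [map_add, map_add, map_mul, map_mul, aeval_C, hΔT, hΔP, aeval_modByMonic, aeval_modByMonic,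
      map_mul, map_mul, baseT_aeval]
    ring

include hα hα0 in
/-- In the infinite case every value of a polynomial at `α` stabilises the upper root set. -/
theorem aeval_mem_stab [Infinite k] (h2 : (2 : k) ≠ 0) (M : k[X]) : aeval α M ∈ stab k α := by
  have hfin := finite_bad α hα hα0 M
  obtain ⟨t₁, ht₁⟩ := (hfin.union (Set.finite_singleton (0 : k))).exists_notMem
  obtain ⟨t₂, ht₂⟩ := ((hfin.union (Set.finite_singleton (0 : k))).union
    (Set.finite_singleton t₁)).exists_notMem
  simp only [Set.mem_union, Set.mem_ofPred_eq, Set.mem_singleton_iff, not_or, not_not] at ht₁ ht₂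
  exact mem_of_sq_mem h2 (stab k α) _ ht₁.2 ht₂.1.2 (Ne.symm ht₂.2) ht₁.1 ht₂.1.1

include hα hα0 in
/-- In the infinite case the upper root set contains `k[α]`. -/
theorem adjoin_le_Uset [Infinite k] (h2 : (2 : k) ≠ 0) {t : K} (ht : t ∈ Algebra.adjoin k {α}) :
    t ∈ Uset k α := by
  rw [Algebra.adjoin_singleton_eq_range_aeval] at ht
  obtain ⟨M, rfl⟩ := ht
  exact stab_le_Uset α (aeval_mem_stab α hα hα0 h2 M)

end Infinite

end Cfsg.Agent.Helper8.Dick
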