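import Mathlib
import Cfsg.Agent.Helper8.DickA
import Cfsg.Agent.Lead.DicksonJ
import Cfsg.Agent.Lead.DicksonP

set_option autoImplicit false
set_option linter.unusedSimpArgs false
set_option linter.unusedVariables false
set_option linter.unusedSectionVars false

/-! # Dickson's lemma over general fields, part E: the finite case -/

namespace Cfsg.Agent.Helper8.Dick

open Polynomial Matrix Cfsg.Agent.Lead.DicksonA
open scoped MatrixGroups

variable {k K : Type*} [Field k] [Field K] [Algebra k K]

/-- Inside the subfield generated by `x`, the element `x` generates everything. -/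
theorem closure_subtype_eq_top (x : K) :
    Subfield.closure ({(⟨x, Subfield.subset_closure rfl⟩ : Subfield.closure ({x} : Set K))} :
      Set (Subfield.closure ({x} : Set K))) = ⊤ := by
  rw [eq_top_iff]
  rintro ⟨z, hz⟩ _
  have hle : Subfield.closure ({x} : Set K) ≤
      (Subfield.closure ({(⟨x, Subfield.subset_closure rfl⟩ :
        Subfield.closure ({x} : Set K))} : Set (Subfield.closure ({x} : Set K)))).map
        (Subfield.closure ({x} : Set K)).subtype := by
    rw [Subfield.closure_le]
    intro y hy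
    rw [Set.mem_singleton_iff.1 hy]
    exact ⟨⟨x, Subfield.subset_closure rfl⟩, Subfield.subset_closure rfl, rfl⟩
  obtain ⟨w, hw, hwz⟩ := hle hz
  have : w = ⟨z, hz⟩ := Subtype.ext hwz
  rwa [this] at hw

/-- Dickson's lemma transported to a finite subfield of an arbitrary field: if the subfield
generated by `x` is finite, `x ≠ 0` and `x² ≠ -1`, then `uu 1` and `ll x` generate all matrices
with entries in that subfield. -/
theorem entSub_closure_le (h2 : (2 : K) ≠ 0) (x : K) (hx0 : x ≠ 0) (hx1 : x ^ 2 ≠ -1)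
    (hfin : Finite (Subfield.closure ({x} : Set K))) {H : Subgroup SL(2, K)}
    (h1 : uu (1 : K) ∈ H) (hx : ll x ∈ H) : entSub (Subfield.closure ({x} : Set K)) ≤ H := by
  set Fx := Subfield.closure ({x} : Set K) with hFx
  have : Fintype Fx := Fintype.ofFinite _
  set lam : Fx := ⟨x, Subfield.subset_closure rfl⟩ with hlam
  have h2' : (2 : Fx) ≠ 0 := by
    intro h
    apply h2
    have := congrArg (Fx.subtype) h
    rwa [map_ofNat, map_zero] at this
  have hlam0 : lam ≠ 0 := by
    intro h
    apply hx0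
    have := congrArg (Fx.subtype) h
    simpa [hlam] using this
  have hne : ¬ (Fintype.card Fx = 9 ∧ lam ^ 2 = -1) := by
    rintro ⟨_, h⟩
    apply hx1
    have := congrArg (Fx.subtype) h
    simpa [hlam] using this
  have htop := Cfsg.Agent.Lead.DicksonP.partA h2' lam hlam0 (closure_subtype_eq_top x) hne
  have hmap : (Subgroup.closure ({uu 1, ll lam} : Set SL(2, Fx))).map
      (Matrix.SpecialLinearGroup.map Fx.subtype) ≤ H := by
    rw [MonoidHom.map_closure, Subgroup.closure_le]
    rintro _ ⟨g, (rfl | rfl), rfl⟩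
    · rw [Cfsg.Agent.Lead.DicksonJ.map_uu, map_one]; exact h1
    · rw [Cfsg.Agent.Lead.DicksonJ.map_ll]; exact hx
  rw [htop] at hmap
  apply entSub_le
  · intro t ht
    have := hmap (Subgroup.mem_map_of_mem _ (Subgroup.mem_top (uu (⟨t, ht⟩ : Fx))))
    rwa [Cfsg.Agent.Lead.DicksonJ.map_uu] at this
  · intro t ht
    have := hmap (Subgroup.mem_map_of_mem _ (Subgroup.mem_top (ll (⟨t, ht⟩ : Fx))))
    rwa [Cfsg.Agent.Lead.DicksonJ.map_ll] at this

theorem hh_mem_entSub {F : Subfield K} {t : K} (ht0 : t ≠ 0) (ht : t ∈ F) : hh t ht0 ∈ entSub F := by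
  intro i j
  fin_cases i <;> fin_cases j
  · exact ht
  · exact zero_mem F
  · exact zero_mem F
  · exact inv_mem ht

section Finite

variable (α : K) (hα : IsIntegral k α) (hα0 : α ≠ 0)

/-- Entries of upper root elements lie in `k[α]`. -/
theorem Uset_le_adjoin {F : Subfield K} (hk : ∀ c : k, algebraMap k K c ∈ F) (hαF : α ∈ F)
    {t : K} (ht : t ∈ Uset k α) : t ∈ F := by
  have := LL_le_entSub α hk hαF ht 0 1
  simpa using this

/-- The intersection of the two root sets. -/
def Wset (k : Type*) {K : Type*} [Field k] [Field K] [Algebra k K] (α : K) : Submodule k K :=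
  Uset k α ⊓ Vset k α

variable {F : Subfield K} (hk : ∀ c : k, algebraMap k K c ∈ F) (hαF : α ∈ F) (hF : Finite F)
  (h2 : (2 : K) ≠ 0)

include hk hαF hF h2 in
/-- For `x` in the lower root set, not exceptional, the whole subfield generated by `x` consists of
matrices of the group. -/
theorem entSub_closure_le_LL {x : K} (hxF : x ∈ F) (hxV : x ∈ Vset k α) (hx0 : x ≠ 0)
    (hx1 : x ^ 2 ≠ -1) : entSub (Subfield.closure ({x} : Set K)) ≤ LL k α := by
  have hle : Subfield.closure ({x} : Set K) ≤ F := by
    rw [Subfield.closure_le]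
    rintro _ rfl
    exact hxF
  have hfin : Finite (Subfield.closure ({x} : Set K)) :=
    Finite.of_injective (fun z => (⟨z.1, hle z.2⟩ : F)) (by
      intro a b hab
      simp only [Subtype.mk.injEq] at hab
      exact Subtype.ext hab)
  exact entSub_closure_le h2 x hx0 hx1 hfin (one_mem_Uset α) hxV

include hk hαF hF h2 in
theorem sq_mul_mem_Wset {x y : K} (hx : x ∈ Wset k α) (hy : y ∈ Wset k α) :
    x ^ 2 * y ∈ Wset k α := by
  by_cases hx0 : x = 0
  · rw [hx0]; simp
  by_cases hx1 : x ^ 2 = -1
  · rw [hx1, neg_one_mul]; exact neg_mem hy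
  have hxF : x ∈ F := Uset_le_adjoin α hk hαF hx.1
  have hle := entSub_closure_le_LL α hk hαF hF h2 hxF hx.2 hx0 hx1
  have hxc : x ∈ Subfield.closure ({x} : Set K) := Subfield.subset_closure rfl
  have h1 : hh x hx0 ∈ LL k α := hle (hh_mem_entSub hx0 hxc)
  have h2' : hh x⁻¹ (inv_ne_zero hx0) ∈ LL k α := hle (hh_mem_entSub _ (inv_mem hxc))
  constructor
  · show uu (x ^ 2 * y) ∈ LL k α
    rw [← Cfsg.Agent.Lead.DicksonJ.hh_conj_uu x hx0 y]
    exact mul_mem (mul_mem h1 hy.1) (inv_mem h1)
  · show ll (x ^ 2 * y) ∈ LL k α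
    have : x ^ 2 * y = y / (x⁻¹) ^ 2 := by field_simp
    rw [this, ← Cfsg.Agent.Lead.DicksonJ.hh_conj_ll x⁻¹ (inv_ne_zero hx0) y]
    exact mul_mem (mul_mem h2' hy.2) (inv_mem h2')

include hk hαF hF h2 in
theorem mul_mem_Wset (h2k : (2 : k) ≠ 0) (h1 : (1 : K) ∈ Wset k α) {x y : K} (hx : x ∈ Wset k α)
    (hy : y ∈ Wset k α) : x * y ∈ Wset k α := by
  have a1 := sq_mul_mem_Wset α hk hαF hF h2 (add_mem hx h1) hy
  have a2 := sq_mul_mem_Wset α hk hαF hF h2 hx hy
  have a3 : (2 : k) • (x * y) ∈ Wset k α := by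
    have : (2 : k) • (x * y) = (x + 1) ^ 2 * y - x ^ 2 * y - y := by
      rw [Algebra.smul_def, map_ofNat]; ring
    rw [this]
    exact sub_mem (sub_mem a1 a2) hy
  have := Submodule.smul_mem (Wset k α) (2 : k)⁻¹ a3
  rwa [smul_smul, inv_mul_cancel₀ h2k, one_smul] at this

/-- There is a scalar `e ≠ 0` whose square avoids a given element, as soon as `k` has at least
four elements. -/
theorem exists_good_scalar [Finite k] (hcard : 4 ≤ Nat.card k) (c : K) :
    ∃ e : k, e ≠ 0 ∧ (algebraMap k K e) ^ 2 ≠ c := by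
  classical
  have := Fintype.ofFinite k
  by_contra hcon
  push Not at hcon
  by_cases h : ∃ e₁ : k, e₁ ≠ 0 ∧ (algebraMap k K e₁) ^ 2 = c
  · obtain ⟨e₁, he₁, hc⟩ := h
    have hsub : (Finset.univ : Finset k) ⊆ {0, e₁, -e₁} := by
      intro e _
      simp only [Finset.mem_insert, Finset.mem_singleton]
      by_cases he : e = 0
      · left; exact he
      · right
        have h5 := hcon e he
        have h3 : (e - e₁) * (e + e₁) = 0 := by
          apply (algebraMap k K).injective
          rw [map_mul, map_sub, map_add, map_zero]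
          have : (algebraMap k K e) ^ 2 = (algebraMap k K e₁) ^ 2 := by rw [h5, hc]
          linear_combination this
        rcases mul_eq_zero.1 h3 with h4 | h4
        · left; exact sub_eq_zero.1 h4
        · right; exact eq_neg_of_add_eq_zero_left h4
    have h6 := Finset.card_le_card hsub
    rw [Finset.card_univ, ← Nat.card_eq_fintype_card] at h6
    have h3 : ({0, e₁, -e₁} : Finset k).card ≤ 3 := Finset.card_le_three
    omega
  · push Not at h
    have hall : ∀ e : k, e = 0 := by
      intro e
      by_contra he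
      exact h e he (hcon e he)
    have h7 : Nat.card k ≤ 1 := by
      rw [Nat.card_eq_fintype_card]
      exact Fintype.card_le_one_iff.2 (fun a b => by rw [hall a, hall b])
    omega

include hk hαF hF h2 hα0 in
/-- In the finite case the upper root set contains `k[α]`. -/
theorem adjoin_le_Uset_of_finite [Finite k] (h2k : (2 : k) ≠ 0) (hcard : 4 ≤ Nat.card k)
    {t : K} (ht : t ∈ Algebra.adjoin k {α}) : t ∈ Uset k α := by
  obtain ⟨e, he0, he1⟩ := exists_good_scalar (k := k) hcard (-1 / α ^ 2)
  have heK : algebraMap k K e ≠ 0 := by rwa [Ne, map_eq_zero]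
  set x₀ := algebraMap k K e * α with hx₀
  have hx₀V : x₀ ∈ Vset k α := smul_alpha_mem_Vset α e
  have hx₀0 : x₀ ≠ 0 := mul_ne_zero heK hα0
  have hx₀1 : x₀ ^ 2 ≠ -1 := by
    intro h
    apply he1
    rw [hx₀, mul_pow] at h
    field_simp
    linear_combination h
  have hx₀F : x₀ ∈ F := mul_mem (hk e) hαF
  have hle := entSub_closure_le_LL α hk hαF hF h2 hx₀F hx₀V hx₀0 hx₀1
  have hxc : x₀ ∈ Subfield.closure ({x₀} : Set K) := Subfield.subset_closure rfl
  have h1W : (1 : K) ∈ Wset k α := ⟨one_mem_Uset α, hle (ll_mem_entSub (one_mem _))⟩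
  have hx₀W : x₀ ∈ Wset k α := ⟨hle (uu_mem_entSub hxc), hx₀V⟩
  have hαW : α ∈ Wset k α := by
    have := Submodule.smul_mem (Wset k α) e⁻¹ hx₀W
    rwa [hx₀, Algebra.smul_def, map_inv₀, ← mul_assoc, inv_mul_cancel₀ heK, one_mul] at this
  let W' : Subalgebra k K :=
    { carrier := Wset k α
      mul_mem' := fun hx hy => mul_mem_Wset α hk hαF hF h2 h2k h1W hx hy
      one_mem' := h1W
      add_mem' := fun hx hy => add_mem hx hy
      zero_mem' := zero_mem _
      algebraMap_mem' := fun c => by
        have := Submodule.smul_mem (Wset k α) c h1W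
        rwa [Algebra.smul_def, mul_one] at this }
  have hadj : Algebra.adjoin k {α} ≤ W' := by
    apply Algebra.adjoin_le
    intro y hy
    rw [Set.mem_singleton_iff.1 hy]
    exact hαW
  exact (hadj ht).1

end Finite

end Cfsg.Agent.Helper8.Dick
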