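import Mathlib

set_option autoImplicit false

/-!
Arithmetic for the Hall `{2,3}`-subgroups of `PSL₂(q)`, `q` prime to `6`.
-/

namespace Cfsg.Agent.Helper8.Dk

/-- a `{2,3}`-number is prime to a number prime to `6` -/
theorem coprime_of_two_three {n x : ℕ} (hn : ∀ l : ℕ, l.Prime → l ∣ n → l = 2 ∨ l = 3)
    (h2 : ¬ 2 ∣ x) (h3 : ¬ 3 ∣ x) : n.Coprime x := by
  apply Nat.coprime_of_dvd
  intro k hk hkn hkx
  rcases hn k hk hkn with rfl | rfl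
  · exact h2 hkx
  · exact h3 hkx

theorem two_three_pow (a b : ℕ) : ∀ l : ℕ, l.Prime → l ∣ 2 ^ a * 3 ^ b → l = 2 ∨ l = 3 := by
  intro l hl h
  rcases (Nat.Prime.dvd_mul hl).1 h with h | h
  · left
    exact (Nat.prime_dvd_prime_iff_eq hl Nat.prime_two).1 (hl.dvd_of_dvd_pow h)
  · right
    exact (Nat.prime_dvd_prime_iff_eq hl Nat.prime_three).1 (hl.dvd_of_dvd_pow h)

theorem two_three_two_mul {n : ℕ} (hn : ∀ l : ℕ, l.Prime → l ∣ n → l = 2 ∨ l = 3) :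
    ∀ l : ℕ, l.Prime → l ∣ 2 * n → l = 2 ∨ l = 3 := by
  intro l hl h
  rcases (Nat.Prime.dvd_mul hl).1 h with h | h
  · left
    exact (Nat.prime_dvd_prime_iff_eq hl Nat.prime_two).1 h
  · exact hn l hl h

/-- splitting off the `{2,3}`-part -/
theorem exists_two_three_part {T : ℕ} (hT : T ≠ 0) :
    ∃ a b : ℕ, T = a * b ∧ a.Coprime b ∧ (∀ l : ℕ, l.Prime → l ∣ a → l = 2 ∨ l = 3) ∧
      ¬ 2 ∣ b ∧ ¬ 3 ∣ b := by
  obtain ⟨e, T', h2, rfl⟩ := Nat.exists_eq_pow_mul_and_not_dvd hT 2 (by norm_num)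
  have hT' : T' ≠ 0 := by
    rintro rfl
    simp at hT
  obtain ⟨f, T'', h3, rfl⟩ := Nat.exists_eq_pow_mul_and_not_dvd hT' 3 (by norm_num)
  have h2' : ¬ 2 ∣ T'' := fun h => h2 (Dvd.dvd.mul_left h _)
  refine ⟨2 ^ e * 3 ^ f, T'', by ring, ?_, two_three_pow e f, h2', h3⟩
  exact coprime_of_two_three (two_three_pow e f) h2' h3

section

variable {q : ℕ}

theorem sq_sub_one_ne_zero (hq : 5 ≤ q) : q ^ 2 - 1 ≠ 0 := by
  have : 25 ≤ q ^ 2 := by nlinarith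
  omega

theorem sq_sub_one_eq_mul (hq : 5 ≤ q) : q ^ 2 - 1 = (q - 1) * (q + 1) := by
  obtain ⟨j, rfl⟩ : ∃ j, q = j + 1 := ⟨q - 1, by omega⟩
  rw [Nat.add_sub_cancel]
  apply Nat.sub_eq_of_eq_add; ring

/-- the `{2,3}`-part of `q² - 1` -/
theorem part_dvd : 2 ^ (q ^ 2 - 1).factorization 2 * 3 ^ (q ^ 2 - 1).factorization 3 ∣ q ^ 2 - 1 := by
  apply Nat.Coprime.mul_dvd_of_dvd_of_dvd
  · apply Nat.Coprime.pow
    norm_num
  · exact Nat.ordProj_dvd _ _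
  · exact Nat.ordProj_dvd _ _

theorem three_dvd_sq_sub_one (h3 : q % 3 ≠ 0) : 3 ∣ q ^ 2 - 1 := by
  have h1 : q % 3 = 1 ∨ q % 3 = 2 := by omega
  have h2 : q ^ 2 % 3 = 1 := by
    rcases h1 with h | h <;> simp [Nat.pow_mod, h]
  omega

theorem eight_dvd_sq_sub_one (h2 : q % 2 = 1) : 8 ∣ q ^ 2 - 1 := by
  have h1 : q % 8 = 1 ∨ q % 8 = 3 ∨ q % 8 = 5 ∨ q % 8 = 7 := by omega
  have h2 : q ^ 2 % 8 = 1 := by
    rcases h1 with h | h | h | h <;> simp [Nat.pow_mod, h]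
  omega

theorem three_dvd_part (hq : 5 ≤ q) (h3 : q % 3 ≠ 0) :
    3 ∣ 2 ^ (q ^ 2 - 1).factorization 2 * 3 ^ (q ^ 2 - 1).factorization 3 := by
  have h1 := Nat.Prime.factorization_pos_of_dvd Nat.prime_three (sq_sub_one_ne_zero hq)
    (three_dvd_sq_sub_one h3)
  exact Dvd.dvd.mul_left (dvd_pow_self 3 h1.ne') _

/-- the order of a Hall `{2,3}`-subgroup, abstractly -/
theorem hall_card_aux {N A B n i : ℕ} (hA1 : 2 ^ A ∣ N) (hA2 : ¬ 2 ^ (A + 1) ∣ N)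
    (hB1 : 3 ^ B ∣ N) (hB2 : ¬ 3 ^ (B + 1) ∣ N) (h2 : ¬ 2 ∣ q) (h3 : ¬ 3 ∣ q)
    (h : 2 * (n * i) = q * N)
    (hn : ∀ l : ℕ, l.Prime → l ∣ n → l = 2 ∨ l = 3) (hi2 : ¬ 2 ∣ i) (hi3 : ¬ 3 ∣ i) :
    2 * n = 2 ^ A * 3 ^ B := by
  have hdvd : 2 ^ A * 3 ^ B ∣ N := by
    apply Nat.Coprime.mul_dvd_of_dvd_of_dvd _ hA1 hB1
    apply Nat.Coprime.pow
    norm_num
  obtain ⟨N', hN'⟩ := hdvd
  have hN2 : ¬ 2 ∣ N' := by
    rintro ⟨c, rfl⟩
    apply hA2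
    rw [hN']
    exact ⟨3 ^ B * c, by ring⟩
  have hN3 : ¬ 3 ∣ N' := by
    rintro ⟨c, rfl⟩
    apply hB2
    rw [hN']
    exact ⟨2 ^ A * c, by ring⟩
  have hPl : ∀ l : ℕ, l.Prime → l ∣ 2 ^ A * 3 ^ B → l = 2 ∨ l = 3 := two_three_pow _ _
  have h1 : 2 * n * i = q * N' * (2 ^ A * 3 ^ B) := by rw [hN'] at h; linarith
  apply Nat.dvd_antisymm
  · have hc : (2 * n).Coprime (q * N') := by
      apply Nat.Coprime.mul_right
      · exact coprime_of_two_three (two_three_two_mul hn) h2 h3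
      · exact coprime_of_two_three (two_three_two_mul hn) hN2 hN3
    exact hc.dvd_of_dvd_mul_left ⟨i, h1.symm⟩
  · have hc : (2 ^ A * 3 ^ B).Coprime i := coprime_of_two_three hPl hi2 hi3
    exact hc.dvd_of_dvd_mul_right ⟨q * N', by linarith⟩

/-- the order of a Hall `{2,3}`-subgroup -/
theorem hall_card {n i : ℕ} (hq : 5 ≤ q) (h2 : q % 2 = 1) (h3 : q % 3 ≠ 0)
    (h : 2 * (n * i) = q * (q ^ 2 - 1))
    (hn : ∀ l : ℕ, l.Prime → l ∣ n → l = 2 ∨ l = 3) (hi2 : ¬ 2 ∣ i) (hi3 : ¬ 3 ∣ i) :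
    2 * n = 2 ^ (q ^ 2 - 1).factorization 2 * 3 ^ (q ^ 2 - 1).factorization 3 := by
  have hN := sq_sub_one_ne_zero hq
  exact hall_card_aux (Nat.ordProj_dvd _ _) (Nat.pow_succ_factorization_not_dvd hN Nat.prime_two)
    (Nat.ordProj_dvd _ _) (Nat.pow_succ_factorization_not_dvd hN Nat.prime_three)
    (by omega) (by omega) h hn hi2 hi3

/-- the index of a subgroup of Hall order is prime to `6`, abstractly -/
theorem hall_index_aux {N A B n i : ℕ} (hA2 : ¬ 2 ^ (A + 1) ∣ N)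
    (hB2 : ¬ 3 ^ (B + 1) ∣ N) (h2 : ¬ 2 ∣ q) (h3 : ¬ 3 ∣ q)
    (h : 2 * (n * i) = q * N) (hn : 2 * n = 2 ^ A * 3 ^ B) :
    ¬ 2 ∣ i ∧ ¬ 3 ∣ i := by
  constructor
  · rintro ⟨j, rfl⟩
    apply hA2
    have hc : (2 ^ (A + 1)).Coprime q :=
      Nat.Coprime.pow_left _ ((Nat.Prime.coprime_iff_not_dvd Nat.prime_two).2 h2)
    apply hc.dvd_of_dvd_mul_left
    rw [← h]
    refine ⟨3 ^ B * j, ?_⟩
    calc 2 * (n * (2 * j)) = (2 * n) * (2 * j) := by ring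
      _ = _ := by rw [hn]; ring
  · rintro ⟨j, rfl⟩
    apply hB2
    have hc : (3 ^ (B + 1)).Coprime q :=
      Nat.Coprime.pow_left _ ((Nat.Prime.coprime_iff_not_dvd Nat.prime_three).2 h3)
    apply hc.dvd_of_dvd_mul_left
    rw [← h]
    refine ⟨2 ^ A * j, ?_⟩
    calc 2 * (n * (3 * j)) = (2 * n) * (3 * j) := by ring
      _ = _ := by rw [hn]; ring

/-- the index of a subgroup of Hall order is prime to `6` -/
theorem hall_index {n i : ℕ} (hq : 5 ≤ q) (h2 : q % 2 = 1) (h3 : q % 3 ≠ 0)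
    (h : 2 * (n * i) = q * (q ^ 2 - 1))
    (hn : 2 * n = 2 ^ (q ^ 2 - 1).factorization 2 * 3 ^ (q ^ 2 - 1).factorization 3) :
    ¬ 2 ∣ i ∧ ¬ 3 ∣ i := by
  have hN := sq_sub_one_ne_zero hq
  exact hall_index_aux (Nat.pow_succ_factorization_not_dvd hN Nat.prime_two)
    (Nat.pow_succ_factorization_not_dvd hN Nat.prime_three) (by omega) (by omega) h hn

/-- a Hall `{2,3}`-subgroup does not lie in a Borel subgroup -/
theorem hall_not_borel (hq : 5 ≤ q) (h2 : q % 2 = 1) :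
    ¬ 2 ^ (q ^ 2 - 1).factorization 2 ∣ q * (q - 1) := by
  intro h
  have hN := sq_sub_one_ne_zero hq
  have hq2 : ¬ 2 ∣ q := by omega
  have hA2 := Nat.pow_succ_factorization_not_dvd hN Nat.prime_two
  obtain ⟨A, hA⟩ : ∃ A, A = (q ^ 2 - 1).factorization 2 := ⟨_, rfl⟩
  rw [← hA] at h hA2
  have hc : (2 ^ A).Coprime q :=
    Nat.Coprime.pow_left _ ((Nat.Prime.coprime_iff_not_dvd Nat.prime_two).2 hq2)
  obtain ⟨c, hc⟩ := hc.dvd_of_dvd_mul_left h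
  obtain ⟨j, hj⟩ : 2 ∣ q + 1 := by omega
  apply hA2
  refine ⟨c * j, ?_⟩
  rw [sq_sub_one_eq_mul hq, hc, hj]
  ring

/-- a Hall `{2,3}`-subgroup in the normaliser of a split torus -/
theorem hall_split (hq : 5 ≤ q) (h2 : q % 2 = 1) (h3 : q % 3 ≠ 0)
    (h : 2 ^ (q ^ 2 - 1).factorization 2 * 3 ^ (q ^ 2 - 1).factorization 3 ∣ 2 * (q - 1)) :
    3 ∣ q - 1 ∧ q % 4 = 1 := by
  have hN := sq_sub_one_ne_zero hq
  constructor
  · have h1 : 3 ∣ 2 * (q - 1) := (three_dvd_part hq h3).trans h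
    exact (Nat.Coprime.dvd_of_dvd_mul_left (by norm_num) h1)
  · by_contra h4
    obtain ⟨j, hj⟩ : 4 ∣ q + 1 := by omega
    have hA2 := Nat.pow_succ_factorization_not_dvd hN Nat.prime_two
    obtain ⟨A, hA⟩ : ∃ A, A = (q ^ 2 - 1).factorization 2 := ⟨_, rfl⟩
    rw [← hA] at h hA2
    obtain ⟨c, hc⟩ := (Dvd.intro _ rfl).trans h
    apply hA2
    refine ⟨c * j, ?_⟩
    have h5 : 2 * (q ^ 2 - 1) = 2 * (2 ^ (A + 1) * (c * j)) := by
      rw [sq_sub_one_eq_mul hq, ← mul_assoc 2, hc, hj]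
      ring
    exact Nat.eq_of_mul_eq_mul_left (by norm_num) h5

/-- a Hall `{2,3}`-subgroup in the normaliser of a nonsplit torus -/
theorem hall_nonsplit (hq : 5 ≤ q) (h2 : q % 2 = 1) (h3 : q % 3 ≠ 0)
    (h : 2 ^ (q ^ 2 - 1).factorization 2 * 3 ^ (q ^ 2 - 1).factorization 3 ∣ 2 * (q + 1)) :
    3 ∣ q + 1 ∧ q % 4 = 3 := by
  have hN := sq_sub_one_ne_zero hq
  constructor
  · have h1 : 3 ∣ 2 * (q + 1) := (three_dvd_part hq h3).trans h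
    exact (Nat.Coprime.dvd_of_dvd_mul_left (by norm_num) h1)
  · by_contra h4
    obtain ⟨j, hj⟩ : 4 ∣ q - 1 := by omega
    have hA2 := Nat.pow_succ_factorization_not_dvd hN Nat.prime_two
    obtain ⟨A, hA⟩ : ∃ A, A = (q ^ 2 - 1).factorization 2 := ⟨_, rfl⟩
    rw [← hA] at h hA2
    obtain ⟨c, hc⟩ := (Dvd.intro _ rfl).trans h
    apply hA2
    refine ⟨c * j, ?_⟩
    have h5 : 2 * (q ^ 2 - 1) = 2 * (2 ^ (A + 1) * (c * j)) := by
      rw [sq_sub_one_eq_mul hq, mul_comm (q - 1), ← mul_assoc 2, hc, hj]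
      ring
    exact Nat.eq_of_mul_eq_mul_left (by norm_num) h5

/-- the index of a Hall subgroup of a torus normaliser -/
theorem torus_index {T T' a b i : ℕ} (hT : T = a * b) (hb2 : ¬ 2 ∣ b) (hb3 : ¬ 3 ∣ b)
    (ha : a ≠ 0) (h2 : q % 2 = 1) (h3 : q % 3 ≠ 0) (hT2 : T' % 4 = 2)
    (hT3 : ¬ 3 ∣ T') (h : 2 * (a * i) = q * (T * T')) :
    ¬ 2 ∣ i ∧ ¬ 3 ∣ i := by
  have h1 : 2 * i = q * b * T' := by
    have : a * (2 * i) = a * (q * b * T') := by rw [hT] at h; linarith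
    exact Nat.eq_of_mul_eq_mul_left (Nat.pos_of_ne_zero ha) this
  have hq2 : ¬ 2 ∣ q := by omega
  have hq3 : ¬ 3 ∣ q := by omega
  constructor
  · rintro ⟨j, rfl⟩
    obtain ⟨t, ht⟩ : ∃ t, T' = 2 * t := ⟨T' / 2, by omega⟩
    have ht2 : ¬ 2 ∣ t := by omega
    have h4 : 2 * j = q * b * t := by
      have : 2 * (2 * j) = 2 * (q * b * t) := by rw [h1, ht]; ring
      exact Nat.eq_of_mul_eq_mul_left (by norm_num) this
    have h5 : 2 ∣ q * b * t := ⟨j, h4.symm⟩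
    rcases (Nat.Prime.dvd_mul Nat.prime_two).1 h5 with h6 | h6
    · rcases (Nat.Prime.dvd_mul Nat.prime_two).1 h6 with h7 | h7
      · exact hq2 h7
      · exact hb2 h7
    · exact ht2 h6
  · rintro ⟨j, rfl⟩
    have h5 : 3 ∣ q * b * T' := by
      rw [← h1]
      exact ⟨2 * j, by ring⟩
    rcases (Nat.Prime.dvd_mul Nat.prime_three).1 h5 with h6 | h6
    · rcases (Nat.Prime.dvd_mul Nat.prime_three).1 h6 with h7 | h7
      · exact hq3 h7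
      · exact hb3 h7
    · exact hT3 h6

theorem sixteen_dvd_of_part
    (h : 2 ^ (q ^ 2 - 1).factorization 2 * 3 ^ (q ^ 2 - 1).factorization 3 = 48) :
    q ^ 2 % 16 = 1 := by
  have h1 : 16 ∣ 2 ^ (q ^ 2 - 1).factorization 2 * 3 ^ (q ^ 2 - 1).factorization 3 := by
    rw [h]; norm_num
  have hc : (16 : ℕ).Coprime (3 ^ (q ^ 2 - 1).factorization 3) := by
    apply Nat.Coprime.pow_right
    norm_num
  have h2 : 16 ∣ q ^ 2 - 1 := (hc.dvd_of_dvd_mul_right h1).trans (Nat.ordProj_dvd _ _)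
  have h3 : q ^ 2 - 1 ≠ 0 := by
    intro h0
    rw [h0] at h
    simp at h
  omega

end

end Cfsg.Agent.Helper8.Dk
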