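import Mathlib
import Cfsg.Agent.Helper8.DkGenH
import Cfsg.Agent.Lead.PSL2SubF

set_option autoImplicit false

/-!
The generic case of Dickson's theorem with the conjugating element; intermediate subfield subgroups.
-/

namespace Cfsg.Agent.Helper8.Dk

open Matrix Cfsg.Agent.Helper7.SL2 Cfsg.Agent.Helper8.SL2C Subgroup
open scoped Matrix

variable {F : Type*} [Field F]

/-- the generic outcome, with the conjugating element -/
theorem out_generic_conj [Fintype F] (p : ℕ) [Fact p.Prime] [CharP F p]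
    (H : Subgroup (ProjectiveSpecialLinearGroup (Fin 2) F))
    {M : Subgroup (ProjectiveSpecialLinearGroup (Fin 2) F)} (hM : M ∈ GU F) {a k : ℕ} (ha : 2 ≤ a)
    (hQ : Nat.card (M ⊓ H : Subgroup (ProjectiveSpecialLinearGroup (Fin 2) F)) = a)
    (hN : Nat.card (normalizer (M : Set (ProjectiveSpecialLinearGroup (Fin 2) F)) ⊓ H :
        Subgroup (ProjectiveSpecialLinearGroup (Fin 2) F)) = a * k)
    (hH : Nat.card H = (a + 1) * (a * k)) (hk : k = a - 1 ∨ 2 * k = a - 1) :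
    ∃ (K : Type) (_ : Field K) (_ : Fintype K) (f : K →+* F) (m : ℕ) (β₀ : F) (h0 : β₀ ≠ 0)
      (g : ProjectiveSpecialLinearGroup (Fin 2) F), Fintype.card K = a ∧
      Fintype.card K ^ m = Fintype.card F ∧
      (cj g H = (pslTw f β₀ h0).range ∨ (2 : F) ≠ 0) := by
  obtain ⟨A, ⟨c, rfl⟩, rfl⟩ := hM
  have hMc : (cj c (ZU F)).map (ph F) = cj (pmk c) (M0 F) := map_cj (ph F) c (ZU F)
  rw [hMc] at hQ hN
  have hQ₁ : Nat.card (M0 F ⊓ cj (pmk c)⁻¹ H :
      Subgroup (ProjectiveSpecialLinearGroup (Fin 2) F)) = a := by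
    rw [← hQ, ← card_cj (pmk c)⁻¹ (cj (pmk c) (M0 F) ⊓ H), cj_inf, cj_inv_cj]
  have hN₁ : Nat.card (normalizer ((M0 F : Subgroup (ProjectiveSpecialLinearGroup (Fin 2) F)) :
      Set (ProjectiveSpecialLinearGroup (Fin 2) F)) ⊓ cj (pmk c)⁻¹ H :
        Subgroup (ProjectiveSpecialLinearGroup (Fin 2) F)) = a * k := by
    rw [← hN, normalizer_cj, ← card_cj (pmk c)⁻¹ (cj (pmk c) _ ⊓ H), cj_inf, cj_inv_cj]
  have hH₁ : Nat.card (cj (pmk c)⁻¹ H) = (a + 1) * (a * k) := by rw [card_cj, hH]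
  obtain ⟨u, hS, hB⟩ := exists_std (cj (pmk c)⁻¹ H) hQ₁ hN₁ hH₁ (by omega)
  haveI : Nontrivial (TU ((cj (pmk u) (cj (pmk c)⁻¹ H)).comap (ph F))) := by
    rw [← Finite.one_lt_card_iff_nontrivial, hS.card_T]
    omega
  obtain ⟨β₀, hβ₀⟩ := exists_ne (0 : TU ((cj (pmk u) (cj (pmk c)⁻¹ H)).comap (ph F)))
  have h0 : (β₀ : F) ≠ 0 := fun h => hβ₀ (Subtype.ext h)
  obtain ⟨K, iK, iK', f, m, hK, hm, hf⟩ := exists_model p hS β₀.2 h0
  refine ⟨K, iK, iK', f, m, (β₀ : F), h0, pmk u * (pmk c)⁻¹, hK, hm, ?_⟩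
  rcases std_structure f hS ha hB hk β₀.2 h0 hK hf with h | ⟨h2, -⟩
  · left
    rw [cj_mul, pslTw_range, ← h, Subgroup.map_comap_eq_self_of_surjective ph_surjective]
  · right
    exact h2

/-- a subfield of a finite field is contained in the intermediate fields -/
theorem exists_intermediate [Fintype F] {K : Type} [Field K] [Fintype K] (f : K →+* F)
    {m s t : ℕ} (hm : Fintype.card K ^ m = Fintype.card F) (hst : m = s * t) (hs : 1 ≤ s) :
    ∃ (L : Type) (_ : Field L) (_ : Fintype L) (f₂ : L →+* F),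
      Fintype.card L = Fintype.card K ^ s ∧ Fintype.card L ^ t = Fintype.card F ∧
      ∀ b : K, ∃ b' : L, f₂ b' = f b := by
  classical
  obtain ⟨p, hpK⟩ := CharP.exists K
  haveI hp : Fact p.Prime := ⟨CharP.char_is_prime K p⟩
  obtain ⟨a, -, hKa⟩ := FiniteField.card K p
  have has : (a : ℕ) * s ≠ 0 := Nat.mul_ne_zero a.ne_zero (by omega)
  letI : Fintype (GaloisField p ((a : ℕ) * s)) := Fintype.ofFinite _
  have hL : Fintype.card (GaloisField p ((a : ℕ) * s)) = Fintype.card K ^ s := by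
    rw [← Nat.card_eq_fintype_card, GaloisField.card p _ has, hKa, pow_mul]
  have hLt : Fintype.card (GaloisField p ((a : ℕ) * s)) ^ t = Fintype.card F := by
    rw [hL, ← pow_mul, ← hst, hm]
  obtain ⟨f₂⟩ := Cfsg.Agent.Lead.PSL2Sub.exists_ringHom (F := F)
    (K := GaloisField p ((a : ℕ) * s)) t hLt
  refine ⟨GaloisField p ((a : ℕ) * s), inferInstance, inferInstance, f₂, hL, hLt, ?_⟩
  intro b
  set N := Fintype.card (GaloisField p ((a : ℕ) * s)) with hN
  have hN1 : 1 < N := Fintype.one_lt_card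
  have hpoly : (Polynomial.X ^ N - Polynomial.X : Polynomial F) ≠ 0 :=
    FiniteField.X_pow_card_sub_X_ne_zero F hN1
  -- the roots of `X^N - X`
  set R := (Polynomial.X ^ N - Polynomial.X : Polynomial F).roots.toFinset with hR
  have hRcard : R.card ≤ N := by
    calc R.card ≤ Multiset.card (Polynomial.X ^ N - Polynomial.X : Polynomial F).roots :=
          Multiset.toFinset_card_le _
      _ ≤ (Polynomial.X ^ N - Polynomial.X : Polynomial F).natDegree := Polynomial.card_roots' _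
      _ = N := FiniteField.X_pow_card_sub_X_natDegree_eq F hN1
  have hmemR : ∀ y : F, y ∈ R ↔ y ^ N = y := by
    intro y
    rw [hR, Multiset.mem_toFinset, Polynomial.mem_roots hpoly, Polynomial.IsRoot.def,
      Polynomial.eval_sub, Polynomial.eval_pow, Polynomial.eval_X, sub_eq_zero]
  have hsub : Finset.univ.image f₂ ⊆ R := by
    intro y hy
    rw [Finset.mem_image] at hy
    obtain ⟨x, -, rfl⟩ := hy
    rw [hmemR, ← map_pow, FiniteField.pow_card]
  have hScard : (Finset.univ.image f₂).card = N := by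
    rw [Finset.card_image_of_injective _ f₂.injective, Finset.card_univ]
  have heq : Finset.univ.image f₂ = R :=
    Finset.eq_of_subset_of_card_le hsub (by rw [hScard]; exact hRcard)
  have hy : f b ∈ R := by
    rw [hmemR, hL, ← map_pow, FiniteField.pow_card_pow]
  rw [← heq, Finset.mem_image] at hy
  obtain ⟨b', -, hb'⟩ := hy
  exact ⟨b', hb'⟩

/-- the twisted subfield subgroup of a subfield lies in that of an intermediate field -/
theorem pslTw_range_le {K L : Type*} [Field K] [Field L] (f : K →+* F) (f₂ : L →+* F)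
    (β₀ : F) (h0 : β₀ ≠ 0) (h : ∀ b : K, ∃ b' : L, f₂ b' = f b) :
    (pslTw f β₀ h0).range ≤ (pslTw f₂ β₀ h0).range := by
  rw [pslTw_range, pslTw_range]
  apply Subgroup.map_mono
  apply psi_range_le
  · intro b
    obtain ⟨b', hb'⟩ := h b
    rw [← hb', ← psi_up f₂ β₀ h0 b']
    exact ⟨_, rfl⟩
  · intro c
    obtain ⟨c', hc'⟩ := h c
    rw [← hc', ← psi_lo f₂ β₀ h0 c']
    exact ⟨_, rfl⟩

theorem card_pslTw_range [Fintype F] {K : Type*} [Field K] [Fintype K] (f : K →+* F)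
    (β₀ : F) (h0 : β₀ ≠ 0) :
    Nat.card (pslTw f β₀ h0).range = Nat.card (ProjectiveSpecialLinearGroup (Fin 2) K) :=
  (Nat.card_congr (MonoidHom.ofInjective (pslTw_injective f β₀ h0)).toEquiv).symm

/-- the orders of `PSL₂` over a field and over a proper extension -/
theorem card_PSL2_lt {K L : Type*} [Field K] [Fintype K] [Field L] [Fintype L] {s : ℕ}
    (hs : 2 ≤ s) (h : Fintype.card L = Fintype.card K ^ s) :
    Nat.card (ProjectiveSpecialLinearGroup (Fin 2) K) <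
      Nat.card (ProjectiveSpecialLinearGroup (Fin 2) L) := by
  have h1 := Cfsg.Agent.Lead.PSL2Sub.card_mul (F := K) rfl
  have h2 := Cfsg.Agent.Lead.PSL2Sub.card_mul (F := L) rfl
  obtain ⟨r, hrK⟩ : ∃ r, r = Fintype.card K := ⟨_, rfl⟩
  obtain ⟨q, hqL⟩ : ∃ q, q = Fintype.card L := ⟨_, rfl⟩
  rw [← hrK] at h1 h
  rw [← hqL] at h2 h
  have hr2 : 2 ≤ r := hrK ▸ Fintype.one_lt_card
  have hd1 : 1 ≤ Nat.gcd 2 (r - 1) := Nat.gcd_pos_of_pos_left _ (by norm_num)
  have hd2 : Nat.gcd 2 (q - 1) ≤ 2 := Nat.le_of_dvd (by norm_num) (Nat.gcd_dvd_left 2 _)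
  have h3 : Nat.card (ProjectiveSpecialLinearGroup (Fin 2) K) ≤ r * (r ^ 2 - 1) := by
    rw [← h1]; exact Nat.le_mul_of_pos_left _ hd1
  have h4 : q * (q ^ 2 - 1) ≤ 2 * Nat.card (ProjectiveSpecialLinearGroup (Fin 2) L) := by
    rw [← h2]; exact Nat.mul_le_mul_right _ hd2
  have hrq : r ^ 2 ≤ q := by
    rw [h]
    exact Nat.pow_le_pow_right (by omega) hs
  have h5 : r ^ 2 * ((r ^ 2) ^ 2 - 1) ≤ q * (q ^ 2 - 1) :=
    Nat.mul_le_mul hrq (Nat.sub_le_sub_right (Nat.pow_le_pow_left hrq 2) 1)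
  have h6 : 2 * (r * (r ^ 2 - 1)) < r ^ 2 * ((r ^ 2) ^ 2 - 1) := by
    obtain ⟨j, rfl⟩ : ∃ j, r = j + 2 := ⟨r - 2, by omega⟩
    have e1 : (j + 2) ^ 2 - 1 = j ^ 2 + 4 * j + 3 := by
      apply Nat.sub_eq_of_eq_add; ring
    have e2 : ((j + 2) ^ 2) ^ 2 - 1 = (j ^ 2 + 4 * j + 3) * ((j + 2) ^ 2 + 1) := by
      apply Nat.sub_eq_of_eq_add; ring
    rw [e1, e2]
    nlinarith [Nat.zero_le j, Nat.zero_le (j ^ 2), Nat.zero_le (j ^ 3)]
  omega

end Cfsg.Agent.Helper8.Dk
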