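import Mathlib
import Cfsg.Agent.Helper8.DkMaxJ
import Cfsg.Agent.Helper8.DkMaxI
import Cfsg.Agent.S3448

set_option autoImplicit false

/-!
Maximal subgroups of `PSL₂(F)` of subfield type; copies of `A₅` in characteristic two.
-/

namespace Cfsg.Agent.Helper8.Dk

open Matrix Cfsg.Agent.Helper7.SL2 Cfsg.Agent.Helper8.SL2C Subgroup
open scoped Matrix

set_option maxRecDepth 100000 in
theorem A5_cent_card : (Finset.univ.filter (fun y : alternatingGroup (Fin 5) =>
    y * Cfsg.Agent.S3448.c2 = Cfsg.Agent.S3448.c2 * y)).card = 4 := by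
  decide +kernel

set_option maxRecDepth 100000 in
theorem A5_norm_card : (Finset.univ.filter (fun y : alternatingGroup (Fin 5) =>
    (y * Cfsg.Agent.S3448.c2 * y⁻¹) * Cfsg.Agent.S3448.c2 =
      Cfsg.Agent.S3448.c2 * (y * Cfsg.Agent.S3448.c2 * y⁻¹))).card = 12 := by
  decide +kernel

theorem card_eq_of_equiv {G Y : Type*} [Group G] [Group Y] {M S : Subgroup G} (e : M ≃* Y)
    (P : Y → Prop) (hS : ∀ z : G, z ∈ S ↔ ∃ hz : z ∈ M, P (e ⟨z, hz⟩)) :
    Nat.card S = Nat.card {y : Y // P y} := by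
  apply Nat.card_congr
  exact
    { toFun := fun z => ⟨e ⟨z.1, ((hS z.1).mp z.2).choose⟩, ((hS z.1).mp z.2).choose_spec⟩
      invFun := fun y => ⟨(e.symm y.1).1, (hS _).mpr ⟨(e.symm y.1).2, by
        have : (⟨(e.symm y.1).1, (e.symm y.1).2⟩ : M) = e.symm y.1 := rfl
        rw [this, MulEquiv.apply_symm_apply]; exact y.2⟩⟩
      left_inv := fun z => by
        apply Subtype.ext
        simp
      right_inv := fun y => by
        apply Subtype.ext
        simp }

variable {F : Type*} [Field F] [Fintype F]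

/-- a subfield subgroup over a subfield of composite degree is not maximal -/
theorem not_coatom_of_composite {K : Type} [Field K] [Fintype K] (f : K →+* F) (β₀ : F)
    (h0 : β₀ ≠ 0) {m s t : ℕ} (hm : Fintype.card K ^ m = Fintype.card F) (hst : m = s * t)
    (hs : 2 ≤ s) (ht : 2 ≤ t) {H : Subgroup (ProjectiveSpecialLinearGroup (Fin 2) F)}
    (g : ProjectiveSpecialLinearGroup (Fin 2) F) (hH : cj g H = (pslTw f β₀ h0).range) :
    ¬ IsCoatom H := by
  intro hco
  obtain ⟨L, _, _, f₂, hL, hLt, hsub⟩ := exists_intermediate f hm hst (by omega)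
  have hle : H ≤ cj g⁻¹ (pslTw f₂ β₀ h0).range := by
    rw [← cj_inv_cj g H, hH]
    exact cj_mono (pslTw_range_le f f₂ β₀ h0 hsub)
  have hcH : Nat.card H = Nat.card (ProjectiveSpecialLinearGroup (Fin 2) K) := by
    rw [← card_cj g H, hH, card_pslTw_range]
  have hcY : Nat.card (cj g⁻¹ (pslTw f₂ β₀ h0).range) =
      Nat.card (ProjectiveSpecialLinearGroup (Fin 2) L) := by
    rw [card_cj, card_pslTw_range]
  have h1 := card_PSL2_lt (K := K) (L := L) hs hL
  have h2 := card_PSL2_lt (K := L) (L := F) ht hLt.symm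
  rcases eq_or_lt_of_le hle with h | h
  · rw [h, hcY] at hcH
    omega
  · have htop := hco.2 _ h
    rw [htop, Subgroup.card_top] at hcY
    omega

/-- a copy of `A₅` in characteristic two has generic shape -/
theorem A5_generic_shape [CharP F 2] {M : Subgroup (ProjectiveSpecialLinearGroup (Fin 2) F)}
    (e : M ≃* alternatingGroup (Fin 5)) :
    ∃ M' ∈ GU F, Nat.card (M' ⊓ M : Subgroup (ProjectiveSpecialLinearGroup (Fin 2) F)) = 4 ∧
      Nat.card (normalizer (M' : Set (ProjectiveSpecialLinearGroup (Fin 2) F)) ⊓ M :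
        Subgroup (ProjectiveSpecialLinearGroup (Fin 2) F)) = 12 := by
  classical
  haveI : Fact (Nat.Prime 2) := ⟨Nat.prime_two⟩
  set c2 := Cfsg.Agent.S3448.c2 with hc2
  set u : M := e.symm c2 with hu
  have heu : e u = c2 := by rw [hu, MulEquiv.apply_symm_apply]
  have hordu : orderOf (u : ProjectiveSpecialLinearGroup (Fin 2) F) = 2 := by
    rw [Subgroup.orderOf_coe, ← MulEquiv.orderOf_eq e, heu]
    exact Cfsg.Agent.S3448.order_c2
  have hu1 : (u : ProjectiveSpecialLinearGroup (Fin 2) F) ≠ 1 := by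
    intro h
    rw [h, orderOf_one] at hordu
    omega
  obtain ⟨M', hM', huM'⟩ := GM_cover (u : ProjectiveSpecialLinearGroup (Fin 2) F) hu1
  have hU : M' ∈ GU F := by
    rcases mem_GM_iff.mp hM' with hU | hT
    · exact hU
    · exfalso
      have h2 : (2 : F) = 0 := by
        have := CharP.cast_eq_zero F 2
        exact_mod_cast this
      have hd : Nat.card (center (SpecialLinearGroup (Fin 2) F)) = 1 := card_center_of_two_eq h2
      have hq : Even (Fintype.card F) := by
        obtain ⟨n, -, hn⟩ := FiniteField.card F 2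
        rw [hn]
        exact (Nat.even_pow.mpr ⟨even_two, n.ne_zero⟩)
      have hdvd := Subgroup.orderOf_dvd_natCard M' huM'
      rw [hordu] at hdvd
      have hq1 : 1 ≤ Fintype.card F := Fintype.card_pos
      obtain ⟨j, hj⟩ := hq
      rcases card_mul_mem_GT hT with h | h <;> rw [hd, one_mul] at h <;> omega
  refine ⟨M', hU, ?_, ?_⟩
  · have hS : ∀ z : ProjectiveSpecialLinearGroup (Fin 2) F, z ∈ M' ⊓ M ↔
        ∃ hz : z ∈ M, e ⟨z, hz⟩ * c2 = c2 * e ⟨z, hz⟩ := by
      intro z
      constructor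
      · rintro ⟨hz1, hz2⟩
        refine ⟨hz2, ?_⟩
        have h1 := GM_comm M' hM' z hz1 u huM'
        have h2 : (⟨z, hz2⟩ : M) * u = u * ⟨z, hz2⟩ := Subtype.ext h1
        have h3 := congrArg e h2
        rwa [map_mul, map_mul, heu] at h3
      · rintro ⟨hz, hcomm⟩
        refine ⟨?_, hz⟩
        have h2 : (⟨z, hz⟩ : M) * u = u * ⟨z, hz⟩ := by
          apply e.injective
          rw [map_mul, map_mul, heu]
          exact hcomm
        have h1 := congrArg Subtype.val h2
        exact GU_cent M' hU u huM' hu1 z h1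
    rw [card_eq_of_equiv e (fun y => y * c2 = c2 * y) hS, Nat.card_eq_fintype_card,
      Fintype.card_subtype]
    exact A5_cent_card
  · have hS : ∀ z : ProjectiveSpecialLinearGroup (Fin 2) F,
        z ∈ normalizer (M' : Set (ProjectiveSpecialLinearGroup (Fin 2) F)) ⊓ M ↔
        ∃ hz : z ∈ M, (e ⟨z, hz⟩ * c2 * (e ⟨z, hz⟩)⁻¹) * c2 =
          c2 * (e ⟨z, hz⟩ * c2 * (e ⟨z, hz⟩)⁻¹) := by
      intro z
      constructor
      · rintro ⟨hz1, hz2⟩
        refine ⟨hz2, ?_⟩
        have hconj : z * u * z⁻¹ ∈ M' := (mem_normalizer_iff.mp hz1 u).mp huM'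
        have h1 := GM_comm M' hM' _ hconj u huM'
        have h2 : ((⟨z, hz2⟩ : M) * u * (⟨z, hz2⟩ : M)⁻¹) * u =
            u * ((⟨z, hz2⟩ : M) * u * (⟨z, hz2⟩ : M)⁻¹) := Subtype.ext h1
        have h3 := congrArg e h2
        simpa only [map_mul, map_inv, heu] using h3
      · rintro ⟨hz, hcomm⟩
        refine ⟨?_, hz⟩
        have h2 : ((⟨z, hz⟩ : M) * u * (⟨z, hz⟩ : M)⁻¹) * u =
            u * ((⟨z, hz⟩ : M) * u * (⟨z, hz⟩ : M)⁻¹) := by
          apply e.injective
          simp only [map_mul, map_inv, heu]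
          exact hcomm
        have h1 := congrArg Subtype.val h2
        have hconj : z * u * z⁻¹ ∈ M' := GU_cent M' hU u huM' hu1 _ h1
        have hconj' : z * u * z⁻¹ ∈ cj z M' := conj_mem_cj huM'
        have hne : z * (u : ProjectiveSpecialLinearGroup (Fin 2) F) * z⁻¹ ≠ 1 := by
          intro h
          apply hu1
          have : (u : ProjectiveSpecialLinearGroup (Fin 2) F) = z⁻¹ * (z * u * z⁻¹) * z := by group
          rw [this, h]; group
        have heq := GM_ti (cj z M') (GM_conj M' hM' z) M' hM' _ hne hconj' hconj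
        exact cj_eq_self_iff.mp heq
    rw [card_eq_of_equiv e (fun y => (y * c2 * y⁻¹) * c2 = c2 * (y * c2 * y⁻¹)) hS,
      Nat.card_eq_fintype_card, Fintype.card_subtype]
    exact A5_norm_card

end Cfsg.Agent.Helper8.Dk
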