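import Mathlib
import Cfsg.Agent.Helper8.DkMaxK
import Cfsg.Agent.Lead.PSL2SubE

set_option autoImplicit false

/-!
The maximal subgroups of `PSL₂(F)` in characteristic two.
-/

namespace Cfsg.Agent.Helper8.Dk

open Matrix Cfsg.Agent.Helper7.SL2 Cfsg.Agent.Helper8.SL2C Subgroup
open scoped Matrix

theorem A4_normal_invol : ∃ u : alternatingGroup (Fin 4), u ≠ 1 ∧ u ^ 2 = 1 ∧
    ∀ x : alternatingGroup (Fin 4), (x * u * x⁻¹) * u = u * (x * u * x⁻¹) :=
  ⟨⟨Equiv.swap 0 1 * Equiv.swap 2 3, by rw [Equiv.Perm.mem_alternatingGroup]; decide⟩,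
    by decide⟩

variable {F : Type*} [Field F] [Fintype F]

/-- in characteristic two, a member containing an involution is unipotent -/
theorem invol_mem_GU [CharP F 2] {M' : Subgroup (ProjectiveSpecialLinearGroup (Fin 2) F)}
    (hM' : M' ∈ GM F) {u : ProjectiveSpecialLinearGroup (Fin 2) F} (hu : u ∈ M')
    (hord : orderOf u = 2) : M' ∈ GU F := by
  rcases mem_GM_iff.mp hM' with hU | hT
  · exact hU
  · exfalso
    have h2 : (2 : F) = 0 := by
      have := CharP.cast_eq_zero F 2
      exact_mod_cast this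
    have hd : Nat.card (center (SpecialLinearGroup (Fin 2) F)) = 1 := card_center_of_two_eq h2
    haveI : Fact (Nat.Prime 2) := ⟨Nat.prime_two⟩
    have hq : Even (Fintype.card F) := by
      obtain ⟨n, -, hn⟩ := FiniteField.card F 2
      rw [hn]
      exact (Nat.even_pow.mpr ⟨even_two, n.ne_zero⟩)
    have hdvd := Subgroup.orderOf_dvd_natCard M' hu
    rw [hord] at hdvd
    have hq1 : 1 ≤ Fintype.card F := Fintype.card_pos
    obtain ⟨j, hj⟩ := hq
    rcases card_mul_mem_GT hT with h | h <;> rw [hd, one_mul] at h <;> omega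

/-- an element conjugating a non-trivial element of a unipotent member to an element commuting with
it normalises the member -/
theorem mem_normalizer_of_conj_comm {M' : Subgroup (ProjectiveSpecialLinearGroup (Fin 2) F)}
    (hU : M' ∈ GU F) {u z : ProjectiveSpecialLinearGroup (Fin 2) F} (hu : u ∈ M') (hu1 : u ≠ 1)
    (h : (z * u * z⁻¹) * u = u * (z * u * z⁻¹)) :
    z ∈ normalizer (M' : Set (ProjectiveSpecialLinearGroup (Fin 2) F)) := by
  have hconj : z * u * z⁻¹ ∈ M' := GU_cent M' hU u hu hu1 _ h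
  have hconj' : z * u * z⁻¹ ∈ cj z M' := conj_mem_cj hu
  have hne : z * u * z⁻¹ ≠ 1 := by
    intro h1
    apply hu1
    have : u = z⁻¹ * (z * u * z⁻¹) * z := by group
    rw [this, h1]; group
  have heq := GM_ti (cj z M') (GM_conj M' (GU_sub_GM hU) z) M' (GU_sub_GM hU) _ hne hconj' hconj
  exact cj_eq_self_iff.mp heq

/-- a subgroup with a normal subgroup of order three normalises a member -/
theorem le_normalizer_of_card_six {M : Subgroup (ProjectiveSpecialLinearGroup (Fin 2) F)}
    (hc : Nat.card M = 6) :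
    ∃ M'' ∈ GM F, M ≤ normalizer (M'' : Set (ProjectiveSpecialLinearGroup (Fin 2) F)) := by
  haveI : Fact (Nat.Prime 3) := ⟨Nat.prime_three⟩
  obtain ⟨y, hy⟩ := exists_prime_orderOf_dvd_card' (G := M) 3 (by rw [hc]; norm_num)
  have hy1 : (y : ProjectiveSpecialLinearGroup (Fin 2) F) ≠ 1 := by
    intro h
    have : y = 1 := Subtype.ext h
    rw [this, orderOf_one] at hy
    omega
  have hZc : Nat.card (zpowers y) = 3 := by rw [Nat.card_zpowers, hy]
  have hidx : (zpowers y).index = 2 := by
    have := Subgroup.card_mul_index (zpowers y)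
    rw [hZc, hc] at this
    omega
  haveI : (zpowers y).Normal := Subgroup.normal_of_index_eq_two hidx
  obtain ⟨M'', hM'', hyM''⟩ := GM_cover (y : ProjectiveSpecialLinearGroup (Fin 2) F) hy1
  refine ⟨M'', hM'', ?_⟩
  intro x hx
  have hn : (⟨x, hx⟩ : M) * y * (⟨x, hx⟩ : M)⁻¹ ∈ zpowers y :=
    Subgroup.Normal.conj_mem inferInstance y (Subgroup.mem_zpowers y) _
  obtain ⟨j, hj⟩ := Subgroup.mem_zpowers_iff.mp hn
  have hj' : (y : ProjectiveSpecialLinearGroup (Fin 2) F) ^ j = x * y * x⁻¹ := by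
    have := congrArg Subtype.val hj
    simpa using this
  have hconj : x * (y : ProjectiveSpecialLinearGroup (Fin 2) F) * x⁻¹ ∈ M'' := by
    rw [← hj']
    exact Subgroup.zpow_mem _ hyM'' j
  have hconj' : x * (y : ProjectiveSpecialLinearGroup (Fin 2) F) * x⁻¹ ∈ cj x M'' :=
    conj_mem_cj hyM''
  have hne : x * (y : ProjectiveSpecialLinearGroup (Fin 2) F) * x⁻¹ ≠ 1 := by
    intro h1
    apply hy1
    have : (y : ProjectiveSpecialLinearGroup (Fin 2) F) = x⁻¹ * (x * y * x⁻¹) * x := by group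
    rw [this, h1]; group
  have heq := GM_ti (cj x M'') (GM_conj M'' hM'' x) M'' hM'' _ hne hconj' hconj
  exact cj_eq_self_iff.mp heq

/-- the maximal subgroups in characteristic two -/
theorem coatom_char_two [CharP F 2] (h4 : 4 ≤ Fintype.card F)
    {M : Subgroup (ProjectiveSpecialLinearGroup (Fin 2) F)} (hM : IsCoatom M) :
    Nat.card M = Fintype.card F * (Fintype.card F - 1) ∨
    Nonempty (M ≃* DihedralGroup (Fintype.card F - 1)) ∨
    Nonempty (M ≃* DihedralGroup (Fintype.card F + 1)) ∨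
    (∃ (F₀ : Type) (_ : Field F₀) (_ : Fintype F₀) (r : ℕ), r.Prime ∧ Fintype.card F₀ ≠ 2 ∧
        Fintype.card F = Fintype.card F₀ ^ r ∧
        Nonempty (M ≃* Matrix.ProjectiveSpecialLinearGroup (Fin 2) F₀)) := by
  haveI : Fact (Nat.Prime 2) := ⟨Nat.prime_two⟩
  have h2 : (2 : F) = 0 := by
    have := CharP.cast_eq_zero F 2
    exact_mod_cast this
  have hd : Nat.card (center (SpecialLinearGroup (Fin 2) F)) = 1 := card_center_of_two_eq h2
  have hG := card_center_mul_card_PSL2 (F := F)
  rw [hd, one_mul] at hG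
  -- the local case
  have hloc : ∀ M' ∈ GM F, M ≤ normalizer (M' : Set (ProjectiveSpecialLinearGroup (Fin 2) F)) →
      Nat.card M = Fintype.card F * (Fintype.card F - 1) ∨
      Nonempty (M ≃* DihedralGroup (Fintype.card F - 1)) ∨
      Nonempty (M ≃* DihedralGroup (Fintype.card F + 1)) ∨
      (∃ (F₀ : Type) (_ : Field F₀) (_ : Fintype F₀) (r : ℕ), r.Prime ∧ Fintype.card F₀ ≠ 2 ∧
        Fintype.card F = Fintype.card F₀ ^ r ∧
        Nonempty (M ≃* Matrix.ProjectiveSpecialLinearGroup (Fin 2) F₀)) := by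
    intro M' hM' hle
    rcases coatom_local h4 hM hM' hle with h | ⟨k, hk, ⟨e⟩⟩
    · left
      rw [hd, one_mul] at h
      exact h
    · rw [hd, one_mul] at hk
      rcases hk with rfl | rfl
      · right; right; left; exact ⟨e⟩
      · right; left; exact ⟨e⟩
  -- the generic case
  have hgen : ∀ M' ∈ GU F, ∀ a k : ℕ, 2 ≤ a →
      Nat.card (M' ⊓ M : Subgroup (ProjectiveSpecialLinearGroup (Fin 2) F)) = a →
      Nat.card (normalizer (M' : Set (ProjectiveSpecialLinearGroup (Fin 2) F)) ⊓ M :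
        Subgroup (ProjectiveSpecialLinearGroup (Fin 2) F)) = a * k →
      Nat.card M = (a + 1) * (a * k) → (k = a - 1 ∨ 2 * k = a - 1) →
      Nat.card M = Fintype.card F * (Fintype.card F - 1) ∨
      Nonempty (M ≃* DihedralGroup (Fintype.card F - 1)) ∨
      Nonempty (M ≃* DihedralGroup (Fintype.card F + 1)) ∨
      (∃ (F₀ : Type) (_ : Field F₀) (_ : Fintype F₀) (r : ℕ), r.Prime ∧ Fintype.card F₀ ≠ 2 ∧
        Fintype.card F = Fintype.card F₀ ^ r ∧
        Nonempty (M ≃* Matrix.ProjectiveSpecialLinearGroup (Fin 2) F₀)) := by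
    intro M' hM' a k ha hQ hN hcard hk
    by_cases ha2 : a = 2
    · subst ha2
      have hk1 : k = 1 := by omega
      rw [hk1] at hcard
      obtain ⟨M'', hM'', hle⟩ := le_normalizer_of_card_six (by rw [hcard])
      exact hloc M'' hM'' hle
    · obtain ⟨K, iK, iK', f, m, β₀, h0, g, hK, hm, hcases⟩ :=
        out_generic_conj 2 M hM' ha hQ hN hcard hk
      have hH : cj g M = (pslTw f β₀ h0).range := by
        rcases hcases with h | h
        · exact h
        · exact absurd h2 h
      have e : M ≃* Matrix.ProjectiveSpecialLinearGroup (Fin 2) K :=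
        ((cjEquiv g M).trans (MulEquiv.subgroupCongr hH)).trans
          (MonoidHom.ofInjective (pslTw_injective f β₀ h0)).symm
      right; right; right
      refine ⟨K, iK, iK', m, ?_, by rw [hK]; exact ha2, hm.symm, ⟨e⟩⟩
      have hm0 : m ≠ 0 := by
        rintro rfl
        rw [pow_zero] at hm
        omega
      have hm1 : m ≠ 1 := by
        rintro rfl
        rw [pow_one] at hm
        apply hM.1
        apply Subgroup.eq_top_of_card_eq
        have h1 := Cfsg.Agent.Lead.PSL2Sub.card_mul (F := K) rfl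
        have h3 := Cfsg.Agent.Lead.PSL2Sub.card_mul (F := F) rfl
        rw [hm, ← Nat.card_congr e.toEquiv] at h1
        have hpos : 0 < Nat.gcd 2 (Fintype.card F - 1) :=
          Nat.gcd_pos_of_pos_left _ (by norm_num)
        exact Nat.eq_of_mul_eq_mul_left hpos (h1.trans h3.symm)
      by_contra hmp
      obtain ⟨s, hsdvd, hs2, hslt⟩ := Nat.exists_dvd_of_not_prime2 (by omega) hmp
      obtain ⟨t, ht⟩ := hsdvd
      have ht2 : 2 ≤ t := by
        by_contra hcon
        have : t = 0 ∨ t = 1 := by omega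
        rcases this with rfl | rfl
        · omega
        · omega
      exact not_coatom_of_composite f β₀ h0 hm ht hs2 ht2 g hH hM
  rcases dickson_first 2 M with h | ⟨M', hM', -, hle⟩ | ⟨⟨e⟩⟩ | ⟨⟨e⟩⟩ | ⟨⟨e⟩⟩ |
    ⟨M', hM', a, k, ha, hQ, hN, hcard, hk⟩
  · -- the trivial subgroup is not maximal
    exfalso
    have hbot : M = ⊥ := Subgroup.card_eq_one.mp h
    have hX : M < M0 F := by
      rw [hbot, bot_lt_iff_ne_bot, ← Subgroup.one_lt_card_iff_ne_bot, card_GU M0_mem_GU]
      omega
    have htop := hM.2 _ hX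
    have hc := card_GU (M0_mem_GU (F := F))
    rw [htop, Subgroup.card_top, hG] at hc
    have h3 : 3 ≤ Fintype.card F - 1 := by omega
    have : Fintype.card F * 3 ≤ Fintype.card F * (Fintype.card F ^ 2 - 1) := by
      apply Nat.mul_le_mul_left
      have : 16 ≤ Fintype.card F ^ 2 := by nlinarith
      omega
    omega
  · exact hloc M' hM' hle
  · -- `A₄` normalises a unipotent member
    obtain ⟨u₀, hu1, hu2, hcomm⟩ := A4_normal_invol
    set u : M := e.symm u₀ with hu
    have heu : e u = u₀ := by rw [hu, MulEquiv.apply_symm_apply]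
    have hordu : orderOf (u : ProjectiveSpecialLinearGroup (Fin 2) F) = 2 := by
      rw [Subgroup.orderOf_coe, ← MulEquiv.orderOf_eq e, heu]
      exact orderOf_eq_prime hu2 hu1
    have hu1' : (u : ProjectiveSpecialLinearGroup (Fin 2) F) ≠ 1 := by
      intro h
      rw [h, orderOf_one] at hordu
      omega
    obtain ⟨M', hM', huM'⟩ := GM_cover (u : ProjectiveSpecialLinearGroup (Fin 2) F) hu1'
    have hU := invol_mem_GU hM' huM' hordu
    apply hloc M' hM'
    intro z hz
    apply mem_normalizer_of_conj_comm hU huM' hu1'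
    have h1 := hcomm (e ⟨z, hz⟩)
    have h3 : ((⟨z, hz⟩ : M) * u * (⟨z, hz⟩ : M)⁻¹) * u =
        u * ((⟨z, hz⟩ : M) * u * (⟨z, hz⟩ : M)⁻¹) := by
      apply e.injective
      simp only [map_mul, map_inv, heu]
      exact h1
    exact congrArg Subtype.val h3
  · -- no `S₄` in characteristic two
    exfalso
    have h16 := (Cfsg.Agent.Lead.PSL2Sub.s0803 (F := F) rfl).mp ⟨M, ⟨e⟩⟩
    have hq : Even (Fintype.card F) := by
      obtain ⟨n, -, hn⟩ := FiniteField.card F 2
      rw [hn]
      exact (Nat.even_pow.mpr ⟨even_two, n.ne_zero⟩)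
    have hq2 : Even (Fintype.card F ^ 2) := (Nat.even_pow.mpr ⟨hq, by norm_num⟩)
    obtain ⟨j, hj⟩ := hq2
    omega
  · -- `A₅` has generic shape
    obtain ⟨M', hM', h4', h12⟩ := A5_generic_shape e
    have hc : Nat.card M = 60 := by rw [Nat.card_congr e.toEquiv, card_A5]
    exact hgen M' hM' 4 3 (by norm_num) h4' h12 (by rw [hc]) (Or.inl rfl)
  · exact hgen M' hM' a k ha hQ hN hcard hk

end Cfsg.Agent.Helper8.Dk
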