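import Mathlib
import Cfsg.Prelude.Def_OddOrderLocal
import Cfsg.Agent.Helper8.DkMaxL
import Cfsg.Agent.Helper8.DkMin
import Cfsg.Agent.Helper8.DkHallArith
import Cfsg.Agent.Helper1.Hall
import Cfsg.Agent.Lead.PSL2SubD
import Cfsg.Agent.Lead.PSL2SubE

set_option autoImplicit false

/-!
The Hall `{2,3}`-subgroups of `PSL₂(F)`, for `F` of characteristic at least `5`.
-/

namespace Cfsg.Agent.Helper8.Dk

open Matrix Cfsg.Agent.Helper7.SL2 Cfsg.Agent.Helper8.SL2C Subgroup
open scoped Matrix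

variable {F : Type*} [Field F] [Fintype F]

/-- numerical facts in characteristic at least five -/
theorem card_facts_of_five_le (p : ℕ) [Fact p.Prime] [CharP F p] (hp : 5 ≤ p) :
    5 ≤ Fintype.card F ∧ Fintype.card F % 2 = 1 ∧ Fintype.card F % 3 ≠ 0 ∧ (2 : F) ≠ 0 ∧
      ∃ n : ℕ, Fintype.card F = p ^ n := by
  obtain ⟨n, hpp, hn⟩ := FiniteField.card F p
  have hn0 : (n : ℕ) ≠ 0 := n.pos.ne'
  have h5 : 5 ≤ Fintype.card F := by
    rw [hn]
    calc 5 ≤ p := hp
      _ = p ^ 1 := (pow_one p).symm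
      _ ≤ p ^ (n : ℕ) := Nat.pow_le_pow_right hpp.pos n.pos
  have h2 : ¬ 2 ∣ Fintype.card F := by
    intro h
    rw [hn] at h
    have := (Nat.prime_dvd_prime_iff_eq Nat.prime_two hpp).1 (Nat.prime_two.dvd_of_dvd_pow h)
    omega
  have h3 : ¬ 3 ∣ Fintype.card F := by
    intro h
    rw [hn] at h
    have := (Nat.prime_dvd_prime_iff_eq Nat.prime_three hpp).1 (Nat.prime_three.dvd_of_dvd_pow h)
    omega
  refine ⟨h5, by omega, by omega, ?_, n, hn⟩
  intro h20
  have h4 : ((2 : ℕ) : F) = 0 := by exact_mod_cast h20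
  have h6 := (CharP.cast_eq_zero_iff F p 2).1 h4
  have := Nat.le_of_dvd (by norm_num) h6
  omega

theorem two_mul_card_PSL2 (h2 : (2 : F) ≠ 0) :
    2 * Nat.card (ProjectiveSpecialLinearGroup (Fin 2) F) =
      Fintype.card F * (Fintype.card F ^ 2 - 1) := by
  have h := card_center_mul_card_PSL2 (F := F)
  rw [card_center_of_two_ne h2] at h
  exact h

/-- the necessary condition for a Hall `{2,3}`-subgroup -/
theorem hall_only_if (p : ℕ) [Fact p.Prime] [CharP F p] (hp : 5 ≤ p)
    (H : Subgroup (ProjectiveSpecialLinearGroup (Fin 2) F))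
    (hH : Cfsg.IsPiHall ({2, 3} : Set ℕ) H) :
    (3 ∣ Fintype.card F - 1 ∧ Fintype.card F % 4 = 1) ∨
      (3 ∣ Fintype.card F + 1 ∧ Fintype.card F % 4 = 3) ∨
      2 ^ (Fintype.card F ^ 2 - 1).factorization 2 *
        3 ^ (Fintype.card F ^ 2 - 1).factorization 3 = 24 ∨
      2 ^ (Fintype.card F ^ 2 - 1).factorization 2 *
        3 ^ (Fintype.card F ^ 2 - 1).factorization 3 = 48 := by
  obtain ⟨h5, hq2, hq3, h2F, n, hn⟩ := card_facts_of_five_le (F := F) p hp
  have hG := two_mul_card_PSL2 h2F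
  have hd := card_center_of_two_ne h2F
  obtain ⟨hH1, hH2⟩ := hH
  have hHl : ∀ l : ℕ, l.Prime → l ∣ Nat.card H → l = 2 ∨ l = 3 := by
    intro l hl hlH
    have := hH1 l hl hlH
    simpa using this
  have hcard : 2 * Nat.card H = 2 ^ (Fintype.card F ^ 2 - 1).factorization 2 *
      3 ^ (Fintype.card F ^ 2 - 1).factorization 3 := by
    apply hall_card h5 hq2 hq3 (i := H.index) _ hHl
    · exact hH2 2 Nat.prime_two (by simp)
    · exact hH2 3 Nat.prime_three (by simp)
    · rw [Subgroup.card_mul_index, hG]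
  have hp_not : ¬ p ∣ Nat.card H := by
    intro h
    have hpp : p.Prime := Fact.out
    rcases hHl p hpp h with h | h <;> omega
  have hHtop : H ≠ ⊤ := by
    rintro rfl
    apply hp_not
    rw [Subgroup.card_top]
    have h1 : p ∣ Fintype.card F * (Fintype.card F ^ 2 - 1) := by
      apply Dvd.dvd.mul_right
      rw [hn]
      apply dvd_pow_self
      rintro rfl
      rw [pow_zero] at hn
      omega
    rw [← hG] at h1
    have hpp : p.Prime := Fact.out
    rcases (Nat.Prime.dvd_mul hpp).1 h1 with h | h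
    · have := Nat.le_of_dvd (by norm_num) h
      omega
    · exact h
  rcases proper_cases p H hHtop with h | ⟨M, hM, -, hHM⟩ | ⟨⟨e⟩⟩ | ⟨⟨e⟩⟩ | ⟨⟨e⟩⟩ |
    ⟨K, iK, iK', m, hm, hKF, hiso⟩
  · -- trivial
    exfalso
    rw [h] at hcard
    have := three_dvd_part h5 hq3
    rw [← hcard] at this
    omega
  · -- local
    have hdvd : Nat.card H ∣
        Nat.card (normalizer (M : Set (ProjectiveSpecialLinearGroup (Fin 2) F))) :=
      Subgroup.card_dvd_of_le hHM
    rcases mem_GM_iff.mp hM with hU | hT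
    · exfalso
      have h1 := card_normalizer_GU hU
      rw [hd] at h1
      apply hall_not_borel h5 hq2
      rw [← h1]
      exact (Dvd.intro _ rfl).trans (hcard ▸ Nat.mul_dvd_mul_left 2 hdvd)
    · have h1 := card_normalizer_GT hT
      rw [h1] at hdvd
      have h3 := Nat.mul_dvd_mul_left 2 hdvd
      rw [hcard] at h3
      rcases card_mul_mem_GT hT with h4 | h4
      · rw [hd] at h4
        rw [h4] at h3
        exact Or.inr (Or.inl (hall_nonsplit h5 hq2 hq3 h3))
      · rw [hd] at h4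
        rw [h4] at h3
        exact Or.inl (hall_split h5 hq2 hq3 h3)
  · -- A4
    right; right; left
    rw [← hcard, Nat.card_congr e.toEquiv, card_A4]
  · -- S4
    right; right; right
    rw [← hcard, Nat.card_congr e.toEquiv, card_S4]
  · -- A5
    exfalso
    have h1 : Nat.card H = 60 := by rw [Nat.card_congr e.toEquiv, card_A5]
    have h3 : (5 : ℕ) ∣ Nat.card H := by rw [h1]; norm_num
    rcases hHl 5 (by norm_num) h3 with h | h <;> omega
  · -- subfield
    exfalso
    obtain ⟨r, hr⟩ : ∃ r, r = Fintype.card K := ⟨_, rfl⟩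
    rw [← hr] at hKF
    have hr2 : 2 ≤ r := hr ▸ Fintype.one_lt_card
    have hpp : p.Prime := Fact.out
    have hpr : p ∣ r := by
      obtain ⟨l, hl, hlr⟩ := Nat.exists_prime_and_dvd (n := r) (by omega)
      have h1 : l ∣ p ^ n := by
        rw [← hn, ← hKF]
        exact hlr.trans (dvd_pow_self r (by omega))
      have h3 := (Nat.prime_dvd_prime_iff_eq hl hpp).1 (hl.dvd_of_dvd_pow h1)
      rw [← h3]
      exact hlr
    have hcardH : Nat.card H = r * (r ^ 2 - 1) ∨
        Nat.gcd 2 (r - 1) * Nat.card H = r * (r ^ 2 - 1) := by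
      rcases hiso with ⟨⟨e⟩⟩ | ⟨⟨e⟩⟩
      · have h1 := Cfsg.Agent.Lead.PSL2Sub.card_mul (F := K) rfl
        rw [← hr, ← Nat.card_congr e.toEquiv] at h1
        exact Or.inr h1
      · have h1 := Cfsg.Agent.Lead.PSL2Sub.card_PGL2 (K := K)
        rw [← hr, ← Nat.card_congr e.toEquiv] at h1
        exact Or.inl h1
    rcases hcardH with h | h
    · apply hp_not
      rw [h]
      exact Dvd.dvd.mul_right hpr _
    · have h1 : p ∣ Nat.gcd 2 (r - 1) * Nat.card H := by
        rw [h]
        exact Dvd.dvd.mul_right hpr _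
      rcases (Nat.Prime.dvd_mul hpp).1 h1 with h3 | h3
      · have h4 : p ∣ 2 := h3.trans (Nat.gcd_dvd_left _ _)
        have := Nat.le_of_dvd (by norm_num) h4
        omega
      · exact hp_not h3

/-- a subgroup of the Hall order is a Hall subgroup -/
theorem isPiHall_of_card (p : ℕ) [Fact p.Prime] [CharP F p] (hp : 5 ≤ p)
    (H : Subgroup (ProjectiveSpecialLinearGroup (Fin 2) F))
    (hcard : 2 * Nat.card H = 2 ^ (Fintype.card F ^ 2 - 1).factorization 2 *
      3 ^ (Fintype.card F ^ 2 - 1).factorization 3) :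
    Cfsg.IsPiHall ({2, 3} : Set ℕ) H := by
  obtain ⟨h5, hq2, hq3, h2F, n, hn⟩ := card_facts_of_five_le (F := F) p hp
  have hG := two_mul_card_PSL2 h2F
  have hidx := hall_index (i := H.index) h5 hq2 hq3
    (by rw [Subgroup.card_mul_index, hG]) hcard
  constructor
  · intro l hl hlH
    have h1 : l ∣ 2 * Nat.card H := Dvd.dvd.mul_left hlH 2
    rw [hcard] at h1
    have := two_three_pow _ _ l hl h1
    simpa using this
  · intro l hl hl23
    have h1 : l = 2 ∨ l = 3 := by simpa using hl23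
    rcases h1 with rfl | rfl
    · exact hidx.1
    · exact hidx.2

/-- a Hall `{2,3}`-subgroup from a torus normaliser -/
theorem exists_isPiHall_of_torus (p : ℕ) [Fact p.Prime] [CharP F p] (hp : 5 ≤ p)
    {M : Subgroup (ProjectiveSpecialLinearGroup (Fin 2) F)} (hM : M ∈ GT F) {T T' : ℕ}
    (hT : 2 * Nat.card M = T) (hTT' : T * T' = Fintype.card F ^ 2 - 1)
    (hT2 : T' % 4 = 2) (hT3 : ¬ 3 ∣ T') :
    ∃ H : Subgroup (ProjectiveSpecialLinearGroup (Fin 2) F),
      Cfsg.IsPiHall ({2, 3} : Set ℕ) H := by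
  obtain ⟨h5, hq2, hq3, h2F, n, hn⟩ := card_facts_of_five_le (F := F) p hp
  have hG := two_mul_card_PSL2 h2F
  have := isSolvable_normalizer (GT_sub_GM hM)
  have hX := card_normalizer_GT hM
  rw [hT] at hX
  have hT0 : T ≠ 0 := by
    rw [← hT]
    have : 0 < Nat.card M := Nat.card_pos
    omega
  obtain ⟨a, b, hTab, hcop, ha, hb2, hb3⟩ := exists_two_three_part hT0
  have ha0 : a ≠ 0 := by
    rintro rfl
    rw [zero_mul] at hTab
    exact hT0 hTab
  obtain ⟨H', hH', -⟩ := (Cfsg.Agent.Helper1.hallProp_of_solvable _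
    (normalizer (M : Set (ProjectiveSpecialLinearGroup (Fin 2) F))) rfl a b
    (hX.trans hTab) hcop).2 ⊥ (by rw [Subgroup.card_bot]; exact Nat.coprime_one_left _)
  refine ⟨H'.map (normalizer (M : Set (ProjectiveSpecialLinearGroup (Fin 2) F))).subtype, ?_⟩
  have hcard : Nat.card (H'.map
      (normalizer (M : Set (ProjectiveSpecialLinearGroup (Fin 2) F))).subtype) = a := by
    rw [Subgroup.card_map_of_injective (Subgroup.subtype_injective _), hH']
  have hidx := torus_index (q := Fintype.card F) (i := (H'.map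
      (normalizer (M : Set (ProjectiveSpecialLinearGroup (Fin 2) F))).subtype).index)
    hTab hb2 hb3 ha0 hq2 hq3 hT2 hT3
    (by rw [← hcard, Subgroup.card_mul_index, hG, hTT'])
  constructor
  · intro l hl hlH
    rw [hcard] at hlH
    have := ha l hl hlH
    simpa using this
  · intro l hl hl23
    have h1 : l = 2 ∨ l = 3 := by simpa using hl23
    rcases h1 with rfl | rfl
    · exact hidx.1
    · exact hidx.2

/-- the sufficient condition for a Hall `{2,3}`-subgroup -/
theorem hall_if (p : ℕ) [Fact p.Prime] [CharP F p] (hp : 5 ≤ p)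
    (h : (3 ∣ Fintype.card F - 1 ∧ Fintype.card F % 4 = 1) ∨
      (3 ∣ Fintype.card F + 1 ∧ Fintype.card F % 4 = 3) ∨
      2 ^ (Fintype.card F ^ 2 - 1).factorization 2 *
        3 ^ (Fintype.card F ^ 2 - 1).factorization 3 = 24 ∨
      2 ^ (Fintype.card F ^ 2 - 1).factorization 2 *
        3 ^ (Fintype.card F ^ 2 - 1).factorization 3 = 48) :
    ∃ H : Subgroup (ProjectiveSpecialLinearGroup (Fin 2) F),
      Cfsg.IsPiHall ({2, 3} : Set ℕ) H := by
  obtain ⟨h5, hq2, hq3, h2F, n, hn⟩ := card_facts_of_five_le (F := F) p hp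
  have hd := card_center_of_two_ne h2F
  rcases h with ⟨h3, h4⟩ | ⟨h3, h4⟩ | h | h
  · -- split torus
    obtain ⟨t, ht4, ht, w, hw⟩ := exists_split (F := F) (by omega)
    have hM : (Tc t).map (ph F) ∈ GT F := Tc_map_mem_GT ht4
    have hcard := card_Tc_map t
    rw [card_Tc_split ht4 ht, hd] at hcard
    refine exists_isPiHall_of_torus p hp hM hcard (T' := Fintype.card F + 1) ?_ (by omega) (by omega)
    exact (sq_sub_one_eq_mul h5).symm
  · -- nonsplit torus
    obtain ⟨t, ht⟩ := exists_ellt (F := F)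
    have ht4 := ellt_sq_ne ht
    have hM : (Tc t).map (ph F) ∈ GT F := Tc_map_mem_GT ht4
    have hcard := card_Tc_map t
    rw [card_Tc ht, hd] at hcard
    refine exists_isPiHall_of_torus p hp hM hcard (T' := Fintype.card F - 1) ?_ (by omega) (by omega)
    rw [sq_sub_one_eq_mul h5, mul_comm]
  · -- A4
    obtain ⟨H, ⟨e⟩⟩ := (Cfsg.Agent.Lead.PSL2Sub.s0802 (F := F) p n hn).2 (by omega)
    refine ⟨H, isPiHall_of_card p hp H ?_⟩
    rw [h, Nat.card_congr e.toEquiv, card_A4]
  · -- S4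
    obtain ⟨H, ⟨e⟩⟩ := (Cfsg.Agent.Lead.PSL2Sub.s0803 (F := F) rfl).2 (sixteen_dvd_of_part h)
    refine ⟨H, isPiHall_of_card p hp H ?_⟩
    rw [h, Nat.card_congr e.toEquiv, card_S4]

end Cfsg.Agent.Helper8.Dk
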