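import Mathlib
import Cfsg.Agent.Helper8.DkMin
import Cfsg.Agent.Helper8.DkOutT

set_option autoImplicit false

/-!
Subgroups of `PSL₂(F)` that are not contained in the normaliser of a member: copies of `S₄`, and of
`A₄` in odd characteristic.
-/

namespace Cfsg.Agent.Helper8.Dk

open Matrix Cfsg.Agent.Helper7.SL2 Cfsg.Agent.Helper8.SL2C Subgroup
open scoped Matrix

theorem S4_not_metabelian : ∃ a b c d : Equiv.Perm (Fin 4),
    (a * b * a⁻¹ * b⁻¹) * (c * d * c⁻¹ * d⁻¹) ≠ (c * d * c⁻¹ * d⁻¹) * (a * b * a⁻¹ * b⁻¹) :=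
  ⟨Equiv.swap 0 1, Equiv.swap 1 2, Equiv.swap 1 2, Equiv.swap 2 3, by decide⟩

theorem A4_two_invol : ∃ a b c : alternatingGroup (Fin 4),
    a * b * a⁻¹ * b⁻¹ ≠ 1 ∧ a * c * a⁻¹ * c⁻¹ ≠ 1 ∧ a * b * a⁻¹ * b⁻¹ ≠ a * c * a⁻¹ * c⁻¹ ∧
    (a * b * a⁻¹ * b⁻¹) ^ 2 = 1 ∧ (a * c * a⁻¹ * c⁻¹) ^ 2 = 1 :=
  ⟨⟨Equiv.swap 0 1 * Equiv.swap 1 2, by rw [Equiv.Perm.mem_alternatingGroup]; decide⟩,
    ⟨Equiv.swap 0 1 * Equiv.swap 2 3, by rw [Equiv.Perm.mem_alternatingGroup]; decide⟩,
    ⟨Equiv.swap 0 2 * Equiv.swap 1 3, by rw [Equiv.Perm.mem_alternatingGroup]; decide⟩,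
    by decide⟩

variable {F : Type*} [Field F]

/-- commutators of elements of the normaliser of a member lie in the member -/
theorem GM_commutator_mem {M : Subgroup (ProjectiveSpecialLinearGroup (Fin 2) F)} (hM : M ∈ GM F)
    {x y : ProjectiveSpecialLinearGroup (Fin 2) F}
    (hx : x ∈ normalizer (M : Set (ProjectiveSpecialLinearGroup (Fin 2) F)))
    (hy : y ∈ normalizer (M : Set (ProjectiveSpecialLinearGroup (Fin 2) F))) :
    x * y * x⁻¹ * y⁻¹ ∈ M := by
  rcases mem_GM_iff.mp hM with hU | hT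
  · exact GU_commutator_mem hU hx hy
  · exact GT_commutator_mem hT hx hy

theorem not_le_normalizer_of_S4 {H : Subgroup (ProjectiveSpecialLinearGroup (Fin 2) F)}
    (e : H ≃* Equiv.Perm (Fin 4))
    {M : Subgroup (ProjectiveSpecialLinearGroup (Fin 2) F)} (hM : M ∈ GM F) :
    ¬ H ≤ normalizer (M : Set (ProjectiveSpecialLinearGroup (Fin 2) F)) := by
  intro hH
  obtain ⟨a, b, c, d, hne⟩ := S4_not_metabelian
  apply hne
  have h1 := GM_commutator_mem hM (hH (e.symm a).2) (hH (e.symm b).2)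
  have h2 := GM_commutator_mem hM (hH (e.symm c).2) (hH (e.symm d).2)
  have h3 := GM_comm M hM _ h1 _ h2
  have h4 : (e.symm a * e.symm b * (e.symm a)⁻¹ * (e.symm b)⁻¹) *
      (e.symm c * e.symm d * (e.symm c)⁻¹ * (e.symm d)⁻¹) =
      (e.symm c * e.symm d * (e.symm c)⁻¹ * (e.symm d)⁻¹) *
      (e.symm a * e.symm b * (e.symm a)⁻¹ * (e.symm b)⁻¹) := Subtype.ext h3
  have h5 := congrArg e h4
  simpa only [map_mul, map_inv, MulEquiv.apply_symm_apply] using h5

theorem not_le_normalizer_of_A4 [Fintype F] (p : ℕ) [Fact p.Prime] [CharP F p] (hp2 : p ≠ 2)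
    {H : Subgroup (ProjectiveSpecialLinearGroup (Fin 2) F)}
    (e : H ≃* alternatingGroup (Fin 4))
    {M : Subgroup (ProjectiveSpecialLinearGroup (Fin 2) F)} (hM : M ∈ GM F) :
    ¬ H ≤ normalizer (M : Set (ProjectiveSpecialLinearGroup (Fin 2) F)) := by
  intro hH
  obtain ⟨a, b, c, hu1, hv1, huv, hu2, hv2⟩ := A4_two_invol
  set u : H := e.symm a * e.symm b * (e.symm a)⁻¹ * (e.symm b)⁻¹ with hu
  set v : H := e.symm a * e.symm c * (e.symm a)⁻¹ * (e.symm c)⁻¹ with hv
  have heu : e u = a * b * a⁻¹ * b⁻¹ := by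
    rw [hu]; simp only [map_mul, map_inv, MulEquiv.apply_symm_apply]
  have hev : e v = a * c * a⁻¹ * c⁻¹ := by
    rw [hv]; simp only [map_mul, map_inv, MulEquiv.apply_symm_apply]
  have hu1' : (u : ProjectiveSpecialLinearGroup (Fin 2) F) ≠ 1 := by
    intro h
    apply hu1
    rw [← heu, show u = 1 from Subtype.ext h, map_one]
  have hv1' : (v : ProjectiveSpecialLinearGroup (Fin 2) F) ≠ 1 := by
    intro h
    apply hv1
    rw [← hev, show v = 1 from Subtype.ext h, map_one]
  have huv' : (u : ProjectiveSpecialLinearGroup (Fin 2) F) ≠ v := by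
    intro h
    apply huv
    rw [← heu, ← hev, show u = v from Subtype.ext h]
  have hu2' : (u : ProjectiveSpecialLinearGroup (Fin 2) F) ^ 2 = 1 := by
    have : u ^ 2 = 1 := by
      apply e.injective
      rw [map_pow, heu, hu2, map_one]
    have := congrArg Subtype.val this
    simpa using this
  have hv2' : (v : ProjectiveSpecialLinearGroup (Fin 2) F) ^ 2 = 1 := by
    have : v ^ 2 = 1 := by
      apply e.injective
      rw [map_pow, hev, hv2, map_one]
    have := congrArg Subtype.val this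
    simpa using this
  have huM : (u : ProjectiveSpecialLinearGroup (Fin 2) F) ∈ M :=
    GM_commutator_mem hM (hH (e.symm a).2) (hH (e.symm b).2)
  have hvM : (v : ProjectiveSpecialLinearGroup (Fin 2) F) ∈ M :=
    GM_commutator_mem hM (hH (e.symm a).2) (hH (e.symm c).2)
  rcases mem_GM_iff.mp hM with hU | hT
  · -- a `p`-group with an involution
    have hpg := GU_pgroup p M hU
    obtain ⟨k, hk⟩ := hpg ⟨u, huM⟩
    have hord : orderOf (u : ProjectiveSpecialLinearGroup (Fin 2) F) = 2 :=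
      orderOf_eq_prime hu2' hu1'
    have h1 : (u : ProjectiveSpecialLinearGroup (Fin 2) F) ^ p ^ k = 1 := by
      have := congrArg Subtype.val hk
      simpa using this
    have h2 : 2 ∣ p ^ k := hord ▸ orderOf_dvd_of_pow_eq_one h1
    have h3 : 2 ∣ p := Nat.Prime.dvd_of_dvd_pow Nat.prime_two h2
    exact hp2 ((Nat.prime_dvd_prime_iff_eq Nat.prime_two (Fact.out : p.Prime)).mp h3).symm
  · -- a cyclic group with two involutions
    classical
    haveI := isCyclic_of_mem_GT hT
    have hle := IsCyclic.card_pow_eq_one_le (α := M) (n := 2) (by norm_num)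
    have hsub : ({1, ⟨u, huM⟩, ⟨v, hvM⟩} : Finset M) ⊆
        Finset.univ.filter (fun x : M => x ^ 2 = 1) := by
      intro x hx
      rw [Finset.mem_filter]
      refine ⟨Finset.mem_univ _, ?_⟩
      simp only [Finset.mem_insert, Finset.mem_singleton] at hx
      rcases hx with rfl | rfl | rfl
      · exact one_pow 2
      · exact Subtype.ext hu2'
      · exact Subtype.ext hv2'
    have hcard : ({1, ⟨u, huM⟩, ⟨v, hvM⟩} : Finset M).card = 3 := by
      rw [Finset.card_insert_of_notMem, Finset.card_pair]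
      · intro h
        exact huv' (Subtype.mk.inj h)
      · simp only [Finset.mem_insert, Finset.mem_singleton, not_or]
        constructor
        · intro h
          exact hu1' (Subtype.mk.inj h).symm
        · intro h
          exact hv1' (Subtype.mk.inj h).symm
    have := Finset.card_le_card hsub
    omega

end Cfsg.Agent.Helper8.Dk
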