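import Mathlib
import Cfsg.Agent.Helper8.DkMaxF

set_option autoImplicit false

/-!
A criterion for the maximality of a subgroup of `PSL₂(F)`, from Dickson's list.
-/

namespace Cfsg.Agent.Helper8.Dk

open Matrix Cfsg.Agent.Helper7.SL2 Cfsg.Agent.Helper8.SL2C Subgroup
open scoped Matrix

variable {F : Type*} [Field F] [Fintype F]

theorem isCoatom_of_cases (p : ℕ) [Fact p.Prime] [CharP F p]
    (H : Subgroup (ProjectiveSpecialLinearGroup (Fin 2) F)) (hHtop : H ≠ ⊤)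
    (h2 : 2 ≤ Nat.card H)
    (hloc : ∀ M ∈ GM F, ¬ H ≤ normalizer (M : Set (ProjectiveSpecialLinearGroup (Fin 2) F)))
    (hA4 : Nat.card H ∣ 12 → Nat.card H ≠ 12 → False)
    (hS4 : Nat.card H ∣ 24 → Nat.card H ≠ 24 →
      (∃ X : Subgroup (ProjectiveSpecialLinearGroup (Fin 2) F),
        Nonempty (X ≃* Equiv.Perm (Fin 4))) → False)
    (hA5 : Nat.card H ∣ 60 → Nat.card H ≠ 60 →
      (∃ X : Subgroup (ProjectiveSpecialLinearGroup (Fin 2) F),
        Nonempty (X ≃* alternatingGroup (Fin 5))) →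
      Nat.card (ProjectiveSpecialLinearGroup (Fin 2) F) ≠ 60 → False)
    (hgen : ∀ X : Subgroup (ProjectiveSpecialLinearGroup (Fin 2) F), H ≤ X →
      Nat.card H ≠ Nat.card X →
      ∀ (K : Type) (_ : Field K) (_ : Fintype K) (m : ℕ), 2 ≤ m →
      Fintype.card K ^ m = Fintype.card F →
      (Nonempty (X ≃* Matrix.ProjectiveSpecialLinearGroup (Fin 2) K) ∨
        Nonempty (X ≃* Matrix.ProjGenLinGroup (Fin 2) K)) → False) :
    IsCoatom H := by
  refine ⟨hHtop, fun X hX => ?_⟩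
  by_contra hXtop
  have hHX : H ≤ X := hX.le
  have hdvd : Nat.card H ∣ Nat.card X := Subgroup.card_dvd_of_le hHX
  have hne : Nat.card H ≠ Nat.card X := by
    intro h
    exact hX.ne (Subgroup.eq_of_le_of_card_ge hHX h.ge)
  rcases proper_cases p X hXtop with h | ⟨M, hM, -, hXM⟩ | ⟨⟨e⟩⟩ | ⟨⟨e⟩⟩ | ⟨⟨e⟩⟩ |
    ⟨K, iK, iK', m, hm2, hm, hiso⟩
  · rw [h] at hdvd
    have := Nat.le_of_dvd (by norm_num) hdvd
    omega
  · exact hloc M hM (hHX.trans hXM)
  · have hc : Nat.card X = 12 := by rw [Nat.card_congr e.toEquiv, card_A4]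
    rw [hc] at hdvd hne
    exact hA4 hdvd hne
  · have hc : Nat.card X = 24 := by rw [Nat.card_congr e.toEquiv, card_S4]
    rw [hc] at hdvd hne
    exact hS4 hdvd hne ⟨X, ⟨e⟩⟩
  · have hc : Nat.card X = 60 := by rw [Nat.card_congr e.toEquiv, card_A5]
    rw [hc] at hdvd hne
    apply hA5 hdvd hne ⟨X, ⟨e⟩⟩
    intro hG
    apply hXtop
    apply Subgroup.eq_top_of_card_eq
    rw [hc, hG]
  · exact hgen X hHX hne K iK iK' m hm2 hm hiso

end Cfsg.Agent.Helper8.Dk
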