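import Mathlib

set_option autoImplicit false

/-!
Number theory for the subfield subgroups of `PSL₂(q)`.
-/

namespace Cfsg.Agent.Helper8.Dk

/-- `p^(2a) - 1 ∣ 2 (p^(2b) - 1)` forces `a ∣ b` -/
theorem dvd_of_pow_sub_one_dvd {p a b : ℕ} (hp : 2 ≤ p) (ha : 1 ≤ a)
    (h : p ^ (2 * a) - 1 ∣ 2 * (p ^ (2 * b) - 1)) : a ∣ b := by
  have h1 : p ^ (2 * a) - 1 ∣ 2 * (p ^ (2 * a) - 1) := Dvd.intro_left 2 rfl
  have h2 : p ^ (2 * a) - 1 ∣ Nat.gcd (2 * (p ^ (2 * a) - 1)) (2 * (p ^ (2 * b) - 1)) :=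
    Nat.dvd_gcd h1 h
  rw [Nat.gcd_mul_left, Nat.pow_sub_one_gcd_pow_sub_one] at h2
  set g := Nat.gcd (2 * a) (2 * b) with hg
  have hgdvd : g ∣ 2 * a := Nat.gcd_dvd_left _ _
  by_cases hga : g = 2 * a
  · have h3 : 2 * a ∣ 2 * b := hga ▸ Nat.gcd_dvd_right (2 * a) (2 * b)
    exact (Nat.mul_dvd_mul_iff_left (by norm_num)).mp h3
  · exfalso
    have hgle : g ≤ a := by
      obtain ⟨c, hc⟩ := hgdvd
      have hc0 : c ≠ 0 := by
        rintro rfl
        omega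
      have hc1 : c ≠ 1 := by
        rintro rfl
        apply hga
        omega
      have hc2 : 2 ≤ c := by omega
      have : g * 2 ≤ g * c := Nat.mul_le_mul_left _ hc2
      omega
    set t := p ^ a with ht
    have ht2 : 2 ≤ t := by
      calc 2 ≤ p := hp
        _ = p ^ 1 := (pow_one p).symm
        _ ≤ p ^ a := Nat.pow_le_pow_right (by omega) ha
    have hpg : p ^ g ≤ t := Nat.pow_le_pow_right (by omega) hgle
    have hpa : p ^ (2 * a) = t * t := by rw [ht, ← pow_add]; congr 1; omega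
    have hpos : 0 < 2 * (p ^ g - 1) := by
      rcases Nat.eq_zero_or_pos (2 * (p ^ g - 1)) with h0 | h0
      · rw [h0] at h2
        have h44 : 4 ≤ t * t := Nat.mul_le_mul ht2 ht2
        have hgpos : 0 < g := Nat.gcd_pos_of_pos_left _ (by omega)
        have : 2 ≤ p ^ g := by
          calc 2 ≤ p := hp
            _ = p ^ 1 := (pow_one p).symm
            _ ≤ p ^ g := Nat.pow_le_pow_right (by omega) hgpos
        omega
      · exact h0
    have hle := Nat.le_of_dvd hpos h2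
    rw [hpa] at hle
    have : t * t ≥ 2 * t := Nat.mul_le_mul_right t ht2
    have h4 : (t - 1) * (t - 1) + 2 * t = t * t + 1 := by
      obtain ⟨s, hs⟩ : ∃ s, t = s + 1 := ⟨t - 1, by omega⟩
      rw [hs, Nat.add_sub_cancel]; ring
    have h5 : 1 ≤ (t - 1) * (t - 1) := Nat.mul_pos (by omega) (by omega)
    omega

/-- the arithmetic core of the maximality of subfield subgroups -/
theorem subfield_arith {p q r₁ r m n : ℕ} (hp : p.Prime) (hq : 2 ≤ q) (hr₁ : 2 ≤ r₁)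
    (hQ : q ^ r = p ^ n) (hX : r₁ ^ m = p ^ n) (hr : r.Prime) (hm : 2 ≤ m)
    (hdvd : q * (q ^ 2 - 1) ∣ 2 * (r₁ * (r₁ ^ 2 - 1))) : r₁ = q ∧ m = r := by
  have hqd : q ∣ p ^ n := by
    rw [← hQ]; exact dvd_pow_self q hr.ne_zero
  have hrd : r₁ ∣ p ^ n := by
    rw [← hX]; exact dvd_pow_self r₁ (by omega)
  obtain ⟨a, -, rfl⟩ := (Nat.dvd_prime_pow hp).mp hqd
  obtain ⟨b, -, rfl⟩ := (Nat.dvd_prime_pow hp).mp hrd
  have ha : 1 ≤ a := by
    rcases Nat.eq_zero_or_pos a with h | h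
    · rw [h, pow_zero] at hq; omega
    · exact h
  have hb : 1 ≤ b := by
    rcases Nat.eq_zero_or_pos b with h | h
    · rw [h, pow_zero] at hr₁; omega
    · exact h
  rw [← pow_mul] at hQ hX
  have e1 : a * r = n := Nat.pow_right_injective hp.two_le hQ
  have e2 : b * m = n := Nat.pow_right_injective hp.two_le hX
  -- the coprime part
  have hcop : Nat.Coprime ((p ^ a) ^ 2 - 1) (p ^ b) := by
    apply Nat.Coprime.pow_right
    rw [Nat.coprime_comm, Nat.Prime.coprime_iff_not_dvd hp]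
    intro hd
    have h1 : p ∣ (p ^ a) ^ 2 := by
      rw [← pow_mul]
      exact dvd_pow_self p (by omega)
    have h2 : 1 ≤ (p ^ a) ^ 2 := Nat.one_le_pow _ _ (Nat.pow_pos hp.pos)
    have h3 := (Nat.dvd_sub h1 hd)
    rw [Nat.sub_sub_self h2] at h3
    exact hp.one_lt.ne' (Nat.dvd_one.mp h3)
  have h1 : (p ^ a) ^ 2 - 1 ∣ p ^ b * (2 * ((p ^ b) ^ 2 - 1)) := by
    have : 2 * (p ^ b * ((p ^ b) ^ 2 - 1)) = p ^ b * (2 * ((p ^ b) ^ 2 - 1)) := by ring
    rw [← this]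
    exact (Dvd.intro_left _ rfl).trans hdvd
  have h2 : (p ^ a) ^ 2 - 1 ∣ 2 * ((p ^ b) ^ 2 - 1) := hcop.dvd_of_dvd_mul_left h1
  rw [← pow_mul, ← pow_mul, mul_comm a 2, mul_comm b 2] at h2
  obtain ⟨c, hc⟩ := dvd_of_pow_sub_one_dvd hp.two_le ha h2
  -- `r = c m`
  have h3 : a * r = a * (c * m) := by rw [e1, ← e2, hc]; ring
  have h4 : r = c * m := Nat.eq_of_mul_eq_mul_left (by omega) h3
  have h5 : m ∣ r := ⟨c, by rw [h4, mul_comm]⟩
  have h6 : m = r := by
    rcases (Nat.dvd_prime hr).mp h5 with h | h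
    · omega
    · exact h
  have h7 : c = 1 := by
    rw [h6] at h4
    have : 1 * r = c * r := by rw [one_mul]; exact h4
    exact (Nat.eq_of_mul_eq_mul_right hr.pos this).symm
  rw [h7, mul_one] at hc
  exact ⟨by rw [hc], h6⟩

end Cfsg.Agent.Helper8.Dk
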