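import Mathlib
import Cfsg.Agent.Helper8.DkMaxNT
import Cfsg.Agent.Helper8.DkMaxG
import Cfsg.Agent.Lead.PSL2SubF

set_option autoImplicit false

/-!
Overgroups of a subfield subgroup `PSL₂(K)` of `PSL₂(F)` that are themselves of subfield type.
-/

namespace Cfsg.Agent.Helper8.Dk

open Matrix Cfsg.Agent.Helper7.SL2 Cfsg.Agent.Helper8.SL2C Subgroup
open scoped Matrix

variable {F : Type*} [Field F] [Fintype F]

theorem card_dvd_of_subfield_type {K' : Type*} [Field K'] [Fintype K']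
    {X : Subgroup (ProjectiveSpecialLinearGroup (Fin 2) F)}
    (hX : Nonempty (X ≃* Matrix.ProjectiveSpecialLinearGroup (Fin 2) K') ∨
      Nonempty (X ≃* Matrix.ProjGenLinGroup (Fin 2) K')) :
    Nat.card X ∣ Fintype.card K' * (Fintype.card K' ^ 2 - 1) := by
  rcases hX with ⟨⟨e'⟩⟩ | ⟨⟨e'⟩⟩
  · have h1 := Cfsg.Agent.Lead.PSL2Sub.card_mul (F := K') rfl
    rw [← Nat.card_congr e'.toEquiv] at h1
    exact Dvd.intro_left _ h1
  · have h1 := Cfsg.Agent.Lead.PSL2Sub.card_PGL2 (K := K')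
    rw [← Nat.card_congr e'.toEquiv] at h1
    rw [h1]

theorem subfield_overgroup {K : Type*} [Field K] [Fintype K] {K' : Type*} [Field K'] [Fintype K']
    {r m : ℕ} (hr : r.Prime) (hm : 2 ≤ m) (hK : Fintype.card K ^ r = Fintype.card F)
    (hK' : Fintype.card K' ^ m = Fintype.card F)
    {H X : Subgroup (ProjectiveSpecialLinearGroup (Fin 2) F)}
    (eH : H ≃* Matrix.ProjectiveSpecialLinearGroup (Fin 2) K) (hHX : H ≤ X)
    (hX : Nonempty (X ≃* Matrix.ProjectiveSpecialLinearGroup (Fin 2) K') ∨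
      Nonempty (X ≃* Matrix.ProjGenLinGroup (Fin 2) K')) :
    Fintype.card K' = Fintype.card K ∧ m = r := by
  obtain ⟨p, hpF⟩ := CharP.exists F
  have hp : p.Prime := CharP.char_is_prime F p
  haveI : Fact p.Prime := ⟨hp⟩
  obtain ⟨n, -, hn⟩ := FiniteField.card F p
  have h1 := Cfsg.Agent.Lead.PSL2Sub.card_mul (F := K) rfl
  rw [← Nat.card_congr eH.toEquiv] at h1
  have h2 := card_dvd_of_subfield_type hX
  have h3 : Nat.card H ∣ Nat.card X := Subgroup.card_dvd_of_le hHX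
  have hd2 : Nat.gcd 2 (Fintype.card K - 1) ∣ 2 := Nat.gcd_dvd_left 2 _
  have hdvd : Fintype.card K * (Fintype.card K ^ 2 - 1) ∣
      2 * (Fintype.card K' * (Fintype.card K' ^ 2 - 1)) := by
    rw [← h1]
    exact Nat.mul_dvd_mul hd2 (h3.trans h2)
  exact subfield_arith hp Fintype.one_lt_card Fintype.one_lt_card (by rw [hK, hn])
    (by rw [hK', hn]) hr hm hdvd

end Cfsg.Agent.Helper8.Dk
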