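import Mathlib
import Cfsg.Agent.Lead.PSL2SubC

set_option autoImplicit false

/-!
Arithmetic for the list of the minimal simple groups `PSL₂(q)`.
-/

namespace Cfsg.Agent.Helper8.Dk

theorem sq_sub_one_eq' (q : ℕ) (hq : 1 ≤ q) : q ^ 2 - 1 = (q - 1) * (q + 1) := by
  obtain ⟨j, rfl⟩ : ∃ j, q = j + 1 := ⟨q - 1, by omega⟩
  rw [Nat.add_sub_cancel]
  apply Nat.sub_eq_of_eq_add; ring

theorem five_dvd_of_mod (q : ℕ) (hq : 1 ≤ q) (h : q % 5 = 1 ∨ q % 5 = 4) :
    5 ∣ q * (q ^ 2 - 1) := by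
  rw [sq_sub_one_eq' q hq]
  rcases h with h | h
  · have : 5 ∣ q - 1 := by omega
    exact Dvd.dvd.mul_left (Dvd.dvd.mul_right this _) _
  · have : 5 ∣ q + 1 := by omega
    exact Dvd.dvd.mul_left (Dvd.dvd.mul_left this _) _

theorem arith_only_if (p n q : ℕ) (hp : p.Prime) (hn1 : 1 ≤ n) (hq : q = p ^ n) (hq4 : 4 ≤ q)
    (hB : 5 ∣ q * (q ^ 2 - 1) → q * (q ^ 2 - 1) ≤ 120)
    (hA : ∀ s t : ℕ, s ≠ 0 → 2 ≤ t → s * t = n → p ^ s ≤ 3) :
    (∃ r : ℕ, r.Prime ∧ q = 2 ^ r) ∨ (∃ r : ℕ, r.Prime ∧ r ≠ 2 ∧ q = 3 ^ r) ∨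
      (q.Prime ∧ 5 < q ∧ (q % 5 = 2 ∨ q % 5 = 3)) ∨ q = 5 := by
  have hp2 : 2 ≤ p := hp.two_le
  by_cases hn : n = 1
  · subst hn
    rw [pow_one] at hq
    subst hq
    by_cases h5 : q = 5
    · exact Or.inr (Or.inr (Or.inr h5))
    · right; right; left
      have h4 : q ≠ 4 := by rintro rfl; norm_num at hp
      have h6 : q ≠ 6 := by rintro rfl; norm_num at hp
      have h7 : 7 ≤ q := by omega
      refine ⟨hp, by omega, ?_⟩
      have h0 : q % 5 ≠ 0 := by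
        intro h
        have : 5 ∣ q := Nat.dvd_of_mod_eq_zero h
        exact h5 ((Nat.prime_dvd_prime_iff_eq Nat.prime_five hp).mp this).symm
      by_contra hcon
      have h14 : q % 5 = 1 ∨ q % 5 = 4 := by omega
      have := hB (five_dvd_of_mod q (by omega) h14)
      have h48 : 48 ≤ q ^ 2 - 1 := by
        have : 49 ≤ q ^ 2 := by nlinarith
        omega
      have : 7 * 48 ≤ q * (q ^ 2 - 1) := Nat.mul_le_mul h7 h48
      omega
  · have hn2 : 2 ≤ n := by omega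
    have hp3 : p ≤ 3 := by
      have := hA 1 n one_ne_zero hn2 (one_mul n)
      rwa [pow_one] at this
    have hr : n.minFac.Prime := Nat.minFac_prime hn
    obtain ⟨s, hs⟩ := Nat.minFac_dvd n
    have hs0 : s ≠ 0 := by
      rintro rfl
      rw [mul_zero] at hs; omega
    by_cases hs1 : s = 1
    · rw [hs1, mul_one] at hs
      rw [← hs] at hr
      have hp23 : p = 2 ∨ p = 3 := by omega
      rcases hp23 with rfl | rfl
      · exact Or.inl ⟨n, hr, hq⟩
      · right; left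
        refine ⟨n, hr, ?_, hq⟩
        rintro rfl
        have : q = 9 := by rw [hq]; norm_num
        subst this
        have := hB (by norm_num)
        norm_num at this
    · exfalso
      have hs2 : 2 ≤ s := by omega
      have := hA s n.minFac hs0 hr.two_le (by rw [mul_comm]; exact hs.symm)
      have h4 : 2 ^ 2 ≤ p ^ s :=
        (Nat.pow_le_pow_left hp2 2).trans (Nat.pow_le_pow_right (by omega) hs2)
      omega

theorem pow_eq_prime_pow (l r : ℕ) (hl : l.Prime) (hr : r.Prime) (x m : ℕ) (hm : 2 ≤ m)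
    (h : x ^ m = l ^ r) : x = l := by
  have hx : x ∣ l ^ r := by
    rw [← h]; exact dvd_pow_self x (by omega)
  obtain ⟨j, -, rfl⟩ := (Nat.dvd_prime_pow hl).mp hx
  rw [← pow_mul] at h
  have h1 : j * m = r := Nat.pow_right_injective hl.two_le h
  have h2 : m ∣ r := ⟨j, by rw [← h1, mul_comm]⟩
  have h3 : m = r := by
    rcases (Nat.dvd_prime hr).mp h2 with h | h
    · omega
    · exact h
  rw [h3] at h1
  have hr0 : 0 < r := hr.pos
  have : j = 1 := by
    have : j * r = 1 * r := by rw [h1, one_mul]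
    exact Nat.eq_of_mul_eq_mul_right hr0 this
  rw [this, pow_one]

theorem two_pow_odd_mod_five (k : ℕ) : 2 ^ (2 * k + 1) % 5 = 2 ∨ 2 ^ (2 * k + 1) % 5 = 3 := by
  rw [pow_succ, pow_mul]
  have e : (2 : ℕ) ^ 2 = 4 := by norm_num
  rw [e]
  rcases Cfsg.Agent.Lead.PSL2Sub.four_pow_mod_five k with h | h <;> omega

theorem three_pow_odd_mod_five (k : ℕ) : 3 ^ (2 * k + 1) % 5 = 2 ∨ 3 ^ (2 * k + 1) % 5 = 3 := by
  rw [pow_succ, pow_mul]
  have e : (3 : ℕ) ^ 2 = 9 := by norm_num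
  rw [e]
  have h9 : ∀ k : ℕ, 9 ^ k % 5 = 1 ∨ 9 ^ k % 5 = 4 := by
    intro k
    induction k with
    | zero => left; rfl
    | succ k ih =>
      rw [pow_succ]
      rcases ih with ih | ih <;> omega
  rcases h9 k with h | h <;> omega

theorem arith_if (q : ℕ)
    (h : (∃ r : ℕ, r.Prime ∧ q = 2 ^ r) ∨ (∃ r : ℕ, r.Prime ∧ r ≠ 2 ∧ q = 3 ^ r) ∨
      (q.Prime ∧ 5 < q ∧ (q % 5 = 2 ∨ q % 5 = 3)) ∨ q = 5) :
    4 ≤ q ∧ (5 ∣ q * (q ^ 2 - 1) → q = 4 ∨ q = 5) ∧
      (∀ r m : ℕ, 2 ≤ m → r ^ m = q → r ≤ 3) := by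
  rcases h with ⟨r, hr, rfl⟩ | ⟨r, hr, hr2, rfl⟩ | ⟨hq, h5, hmod⟩ | rfl
  · refine ⟨?_, ?_, ?_⟩
    · calc 4 = 2 ^ 2 := by norm_num
        _ ≤ 2 ^ r := Nat.pow_le_pow_right (by norm_num) hr.two_le
    · intro h5
      left
      rcases hr.eq_two_or_odd with h | h
      · rw [h]; norm_num
      · exfalso
        obtain ⟨k, hk⟩ : ∃ k, r = 2 * k + 1 := ⟨r / 2, by omega⟩
        have h1 := Cfsg.Agent.Lead.PSL2Sub.mod_five_of_dvd h5
        rw [hk] at h1
        rcases two_pow_odd_mod_five k with h2 | h2 <;> omega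
    · intro x m hm hx
      have := pow_eq_prime_pow 2 r Nat.prime_two hr x m hm hx
      omega
  · refine ⟨?_, ?_, ?_⟩
    · calc 4 ≤ 3 ^ 2 := by norm_num
        _ ≤ 3 ^ r := Nat.pow_le_pow_right (by norm_num) hr.two_le
    · intro h5
      exfalso
      rcases hr.eq_two_or_odd with h | h
      · exact hr2 h
      · obtain ⟨k, hk⟩ : ∃ k, r = 2 * k + 1 := ⟨r / 2, by omega⟩
        have h1 := Cfsg.Agent.Lead.PSL2Sub.mod_five_of_dvd h5
        rw [hk] at h1
        rcases three_pow_odd_mod_five k with h2 | h2 <;> omega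
    · intro x m hm hx
      have := pow_eq_prime_pow 3 r Nat.prime_three hr x m hm hx
      omega
  · refine ⟨by omega, ?_, ?_⟩
    · intro h
      have h1 := Cfsg.Agent.Lead.PSL2Sub.mod_five_of_dvd h
      omega
    · intro x m hm hx
      have := (Nat.Prime.pow_eq_iff hq).mp hx
      omega
  · refine ⟨by norm_num, fun _ => Or.inr rfl, ?_⟩
    intro x m hm hx
    have := (Nat.Prime.pow_eq_iff Nat.prime_five).mp hx
    omega

end Cfsg.Agent.Helper8.Dk
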