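import Mathlib
import Cfsg.Agent.Helper8.PSL2Basic

set_option autoImplicit false

/-!
Traces of powers in `SL₂` through Dickson polynomials; the field of the trace of an element of
given projective order.
-/

namespace Cfsg.Agent.Helper8.Ds

open Matrix Cfsg.Agent.Helper7.SL2 Cfsg.Agent.Helper8.SL2C Polynomial
open scoped Matrix

variable {F : Type*} [Field F]

/-- Cayley–Hamilton in `SL₂` -/
theorem sq_eq (h : SpecialLinearGroup (Fin 2) F) :
    (h : Matrix (Fin 2) (Fin 2) F) * (h : Matrix (Fin 2) (Fin 2) F) =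
      tr h • (h : Matrix (Fin 2) (Fin 2) F) - 1 := by
  have hd := det_eq h
  unfold tr
  ext i j
  fin_cases i <;> fin_cases j <;>
    simp only [Fin.zero_eta, Fin.isValue, Fin.mk_one, Matrix.mul_apply, Fin.sum_univ_two,
      Matrix.sub_apply, Matrix.smul_apply, smul_eq_mul, Matrix.one_apply_eq, ne_eq, zero_ne_one,
      one_ne_zero, not_false_eq_true, Matrix.one_apply_ne, sub_zero]
  · linear_combination (-1 : F) * hd
  · ring
  · ring
  · linear_combination (-1 : F) * hd

theorem trace_coe (h : SpecialLinearGroup (Fin 2) F) :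
    Matrix.trace (h : Matrix (Fin 2) (Fin 2) F) = tr h := by
  rw [Matrix.trace_fin_two]; rfl

/-- the trace of a power is the Dickson polynomial of the trace -/
theorem trace_pow_eq_dickson (h : SpecialLinearGroup (Fin 2) F) (n : ℕ) :
    Matrix.trace ((h : Matrix (Fin 2) (Fin 2) F) ^ n) = (dickson 1 (1 : F) n).eval (tr h) := by
  induction n using Nat.strong_induction_on with
  | _ n ih =>
    match n with
    | 0 =>
      rw [pow_zero, dickson_zero, Matrix.trace_one]
      simp
      norm_num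
    | 1 => rw [pow_one, dickson_one, eval_X, trace_coe]
    | (m + 2) =>
      have e : (h : Matrix (Fin 2) (Fin 2) F) ^ (m + 2) =
          tr h • (h : Matrix (Fin 2) (Fin 2) F) ^ (m + 1) - (h : Matrix (Fin 2) (Fin 2) F) ^ m := by
        rw [pow_add, pow_two, sq_eq, mul_sub, mul_one, Matrix.mul_smul, pow_succ]
      rw [e, Matrix.trace_sub, Matrix.trace_smul, ih (m + 1) (by omega), ih m (by omega),
        dickson_add_two, eval_sub, eval_mul, eval_mul, eval_X, eval_C, smul_eq_mul]
      ring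

theorem tr_pow_eq_dickson (h : SpecialLinearGroup (Fin 2) F) (n : ℕ) :
    tr (h ^ n) = (dickson 1 (1 : F) n).eval (tr h) := by
  have e : ((h ^ n : SpecialLinearGroup (Fin 2) F) : Matrix (Fin 2) (Fin 2) F) =
      (h : Matrix (Fin 2) (Fin 2) F) ^ n := Matrix.SpecialLinearGroup.coe_pow h n
  rw [← trace_pow_eq_dickson, ← e, trace_coe]

theorem dickson_char_pow (p : ℕ) [Fact p.Prime] [CharP F p] (e : ℕ) :
    dickson 1 (1 : F) (p ^ e) = X ^ (p ^ e) := by
  induction e with
  | zero => rw [pow_zero, dickson_one, pow_one]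
  | succ e ih =>
    rw [pow_succ, dickson_one_one_mul, ih, dickson_one_one_charP, X_pow_comp, ← pow_mul, mul_comm]

/-- in characteristic `p` the trace of a `p`-power power is the power of the trace -/
theorem tr_pow_char_pow (p : ℕ) [Fact p.Prime] [CharP F p] (e : ℕ)
    (h : SpecialLinearGroup (Fin 2) F) : tr (h ^ (p ^ e)) = tr h ^ (p ^ e) := by
  rw [tr_pow_eq_dickson, dickson_char_pow p e, eval_pow, eval_X]

theorem tr_one : tr (1 : SpecialLinearGroup (Fin 2) F) = 2 := by
  unfold tr
  simp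
  norm_num

theorem tr_neg (h : SpecialLinearGroup (Fin 2) F) : tr (-h) = -tr h := by
  unfold tr
  simp
  ring

theorem tr_inv (h : SpecialLinearGroup (Fin 2) F) : tr h⁻¹ = tr h := by
  obtain ⟨i00, i01, i10, i11⟩ := coe_inv_apply h
  unfold tr
  rw [i00, i11, add_comm]

theorem natCast_pow_char_pow (p : ℕ) [Fact p.Prime] [CharP F p] (e : ℕ) (n : ℕ) :
    ((n : F)) ^ (p ^ e) = n := by
  have h1 : ((n : ZMod p) : ZMod p) ^ (p ^ e) = n := ZMod.pow_card_pow _
  have h2 := congrArg (ZMod.castHom (dvd_refl p) F) h1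
  rwa [map_pow, map_natCast] at h2

/-- the trace of an element whose projective order divides `p^e`, `(p^e - 1)/2` or `(p^e + 1)/2`
is fixed by the `e`-th power of the Frobenius map -/
theorem tr_pow_eq_self (p : ℕ) [Fact p.Prime] [CharP F p] (hp2 : p ≠ 2) (e : ℕ)
    (h : SpecialLinearGroup (Fin 2) F) {n : ℕ} (hn : pmk h ^ n = 1)
    (hk : n ∣ p ^ e ∨ 2 * n ∣ p ^ e - 1 ∨ 2 * n ∣ p ^ e + 1) :
    tr h ^ (p ^ e) = tr h := by
  have hp := (Fact.out : p.Prime)
  have hodd : Odd (p ^ e) := (hp.odd_of_ne_two hp2).pow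
  have hpos : 0 < p ^ e := pow_pos hp.pos e
  rw [pmk_pow, pmk_eq_one_iff] at hn
  have h2n : h ^ (2 * n) = 1 := by
    rw [mul_comm, pow_mul]
    rcases hn with hn | hn <;> rw [hn] <;> simp
  rcases hk with hk | hk | hk
  · obtain ⟨c, hc⟩ := hk
    have hcodd : Odd c := by
      rw [hc] at hodd
      exact (Nat.odd_mul.mp hodd).2
    have h1 : h ^ (p ^ e) = 1 ∨ h ^ (p ^ e) = -1 := by
      rw [hc, pow_mul]
      rcases hn with hn | hn <;> rw [hn]
      · left; simp
      · right; exact hcodd.neg_one_pow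
    have h2 : tr h ^ (p ^ e) = 2 ∨ tr h ^ (p ^ e) = -2 := by
      rw [← tr_pow_char_pow]
      rcases h1 with h1 | h1 <;> rw [h1]
      · left; exact tr_one
      · right; rw [tr_neg, tr_one]
    have h2pow : (2 : F) ^ (p ^ e) = 2 := by
      have := natCast_pow_char_pow (F := F) p e 2
      exact_mod_cast this
    rcases h2 with h2 | h2
    · have h3 : (tr h - 2) ^ (p ^ e) = 0 := by
        rw [sub_pow_char_pow, h2, h2pow, sub_self]
      have h4 : tr h = 2 := by
        have := pow_eq_zero_iff (by omega : p ^ e ≠ 0) |>.mp h3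
        linear_combination this
      rw [h4, h2pow]
    · have h3 : (tr h + 2) ^ (p ^ e) = 0 := by
        rw [add_pow_char_pow, h2, h2pow]; ring
      have h4 : tr h = -2 := by
        have := pow_eq_zero_iff (by omega : p ^ e ≠ 0) |>.mp h3
        linear_combination this
      rw [h4, hodd.neg_pow, h2pow]
  · obtain ⟨c, hc⟩ := hk
    have h1 : h ^ (p ^ e - 1) = 1 := by rw [hc, pow_mul, h2n, one_pow]
    have h2 : h ^ (p ^ e) = h := by
      have : p ^ e = (p ^ e - 1) + 1 := by omega
      rw [this, pow_succ, h1, one_mul]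
    rw [← tr_pow_char_pow, h2]
  · obtain ⟨c, hc⟩ := hk
    have h1 : h ^ (p ^ e + 1) = 1 := by rw [hc, pow_mul, h2n, one_pow]
    have h2 : h ^ (p ^ e) = h⁻¹ := by
      rw [pow_succ] at h1
      exact eq_inv_of_mul_eq_one_left h1
    rw [← tr_pow_char_pow, h2, tr_inv]

end Cfsg.Agent.Helper8.Ds
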