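import Mathlib

set_option autoImplicit false

/-!
Arithmetic of prime powers modulo `8` and `10`.
-/

namespace Cfsg.Agent.Helper8.Ds

theorem sq_pow_mod8 (p i : ℕ) (hp : p % 2 = 1) : (p ^ 2) ^ i % 8 = 1 := by
  have h1 : p ^ 2 % 8 = 1 := by
    rw [Nat.pow_mod]
    have : p % 8 = 1 ∨ p % 8 = 3 ∨ p % 8 = 5 ∨ p % 8 = 7 := by omega
    rcases this with h | h | h | h <;> rw [h]
  rw [Nat.pow_mod, h1, one_pow]
  rfl

theorem even_of_pow_mod8 (p n : ℕ) (hp : p % 8 = 3 ∨ p % 8 = 5)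
    (h : p ^ n % 8 = 1 ∨ p ^ n % 8 = 7) : Even n := by
  by_contra hn
  rw [Nat.not_even_iff_odd] at hn
  obtain ⟨i, rfl⟩ := hn
  have h1 := sq_pow_mod8 p i (by omega)
  rw [pow_succ, pow_mul, Nat.mul_mod, h1, one_mul, Nat.mod_mod] at h
  omega

theorem sq_pow_mod10 (p i : ℕ) (hp : p % 10 = 3 ∨ p % 10 = 7) :
    (p ^ 2) ^ i % 10 = 1 ∨ (p ^ 2) ^ i % 10 = 9 := by
  have h1 : p ^ 2 % 10 = 9 := by
    rw [Nat.pow_mod]
    rcases hp with h | h <;> rw [h]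
  induction i with
  | zero => left; rfl
  | succ i ih =>
    rw [pow_succ, Nat.mul_mod, h1]
    rcases ih with h | h <;> rw [h]
    · right; rfl
    · left; rfl

theorem even_of_pow_mod10 (p n : ℕ) (hp : p % 10 = 3 ∨ p % 10 = 7)
    (h : p ^ n % 10 = 1 ∨ p ^ n % 10 = 9) : Even n := by
  by_contra hn
  rw [Nat.not_even_iff_odd] at hn
  obtain ⟨i, rfl⟩ := hn
  have h1 := sq_pow_mod10 p i hp
  rw [pow_succ, pow_mul, Nat.mul_mod] at h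
  rcases h1 with h1 | h1 <;> rw [h1] at h <;> omega

/-- `q ≡ ±1 (mod 10)` when `q` is odd and `5 ∣ q² - 1` -/
theorem mod10_of_dvd (q : ℕ) (hodd : q % 2 = 1) (h : 5 ∣ q ^ 2 - 1) :
    q % 10 = 1 ∨ q % 10 = 9 := by
  have hq1 : 1 ≤ q ^ 2 := Nat.one_le_pow _ _ (by omega)
  have h1 : q ^ 2 % 5 = 1 := by omega
  rw [Nat.pow_mod] at h1
  obtain ⟨r, hr⟩ : ∃ r, r = q % 5 := ⟨_, rfl⟩
  rw [← hr] at h1
  have hr5 : r < 5 := by omega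
  interval_cases r <;> simp at h1 <;> omega

/-- `q ≡ ±1 (mod 8)` when `q` is odd and `16 ∣ q² - 1` -/
theorem mod8_of_dvd (q : ℕ) (hodd : q % 2 = 1) (h : 16 ∣ q ^ 2 - 1) :
    q % 8 = 1 ∨ q % 8 = 7 := by
  have hq1 : 1 ≤ q ^ 2 := Nat.one_le_pow _ _ (by omega)
  have h1 : q ^ 2 % 16 = 1 := by omega
  rw [Nat.pow_mod] at h1
  obtain ⟨r, hr⟩ : ∃ r, r = q % 16 := ⟨_, rfl⟩
  rw [← hr] at h1
  have hr5 : r < 16 := by omega
  interval_cases r <;> simp at h1 <;> omega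

/-- `16 ∣ q² - 1` when `q ≡ ±1 (mod 8)` -/
theorem dvd_of_mod8 (q : ℕ) (h : q % 8 = 1 ∨ q % 8 = 7) : 16 ∣ q ^ 2 - 1 := by
  have hq1 : 1 ≤ q ^ 2 := Nat.one_le_pow _ _ (by omega)
  have h1 : q ^ 2 % 16 = 1 := by
    rw [Nat.pow_mod]
    have : q % 16 = 1 ∨ q % 16 = 7 ∨ q % 16 = 9 ∨ q % 16 = 15 := by omega
    rcases this with h | h | h | h <;> rw [h]
  omega

/-- `q² - 1 ≡ 8 (mod 16)` when `q ≡ ±3 (mod 8)` -/
theorem mod16_of_mod8 (q : ℕ) (h : q % 8 = 3 ∨ q % 8 = 5) : (q ^ 2 - 1) % 16 = 8 := by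
  have hq1 : 1 ≤ q ^ 2 := Nat.one_le_pow _ _ (by omega)
  have h1 : q ^ 2 % 16 = 9 := by
    rw [Nat.pow_mod]
    have : q % 16 = 3 ∨ q % 16 = 5 ∨ q % 16 = 11 ∨ q % 16 = 13 := by omega
    rcases this with h | h | h | h <;> rw [h]
  omega

/-- an odd prime other than `5` -/
theorem prime_mod10 (p : ℕ) (hp : p.Prime) (h2 : p ≠ 2) (h5 : p ≠ 5) :
    p % 10 = 1 ∨ p % 10 = 3 ∨ p % 10 = 7 ∨ p % 10 = 9 := by
  have hodd := hp.eq_two_or_odd.resolve_left h2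
  have h5' : ¬ 5 ∣ p := fun h => h5 ((Nat.prime_dvd_prime_iff_eq Nat.prime_five hp).mp h).symm
  omega

theorem prime_mod8 (p : ℕ) (hp : p.Prime) (h2 : p ≠ 2) :
    p % 8 = 1 ∨ p % 8 = 3 ∨ p % 8 = 5 ∨ p % 8 = 7 := by
  have hodd := hp.eq_two_or_odd.resolve_left h2
  omega

end Cfsg.Agent.Helper8.Ds
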