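import Mathlib

set_option autoImplicit false

/-!
The normal form of a pair of anticommuting square roots of `-1` in `M₂(F)`, and the entries of a
matrix from its traces against the quaternion basis.
-/

namespace Cfsg.Agent.Helper8.Ds

open Matrix
open scoped Matrix

variable {F : Type*} [Field F]

/-- the standard square root of `-1` -/
def A1 : Matrix (Fin 2) (Fin 2) F := !![0, -1; 1, 0]

/-- the standard second square root of `-1`, for `r² + s² = -1` -/
def B1 (r s : F) : Matrix (Fin 2) (Fin 2) F := !![s⁻¹, -(r * s⁻¹); -(r * s⁻¹), -s⁻¹]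

/-- the matrix of `r A + s B` in the normal form -/
def W1 (r : F) : Matrix (Fin 2) (Fin 2) F := !![1, -(2 * r); 0, -1]

theorem A1_00 : (A1 : Matrix (Fin 2) (Fin 2) F) 0 0 = 0 := rfl
theorem A1_01 : (A1 : Matrix (Fin 2) (Fin 2) F) 0 1 = -1 := rfl
theorem A1_10 : (A1 : Matrix (Fin 2) (Fin 2) F) 1 0 = 1 := rfl
theorem A1_11 : (A1 : Matrix (Fin 2) (Fin 2) F) 1 1 = 0 := rfl
theorem W1_00 (r : F) : W1 r 0 0 = 1 := rfl
theorem W1_01 (r : F) : W1 r 0 1 = -(2 * r) := rfl
theorem W1_10 (r : F) : W1 r 1 0 = 0 := rfl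
theorem W1_11 (r : F) : W1 r 1 1 = -1 := rfl

theorem B1_eq (r s : F) : B1 r s = s⁻¹ • (W1 r - r • A1) := by
  unfold B1 W1 A1
  ext i j
  fin_cases i <;> fin_cases j <;> simp <;> ring

/-- the frame matrix with columns `v` and `A v` -/
def frame (A : Matrix (Fin 2) (Fin 2) F) (v : Fin 2 → F) : Matrix (Fin 2) (Fin 2) F :=
  Matrix.of fun i j => if j = 0 then v i else (A *ᵥ v) i

theorem frame_col0 (A : Matrix (Fin 2) (Fin 2) F) (v : Fin 2 → F) (i : Fin 2) :
    frame A v i 0 = v i := rfl

theorem frame_col1 (A : Matrix (Fin 2) (Fin 2) F) (v : Fin 2 → F) (i : Fin 2) :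
    frame A v i 1 = (A *ᵥ v) i := rfl

/-- the columns of `X * frame A v` -/
theorem mul_frame_col0 (X A : Matrix (Fin 2) (Fin 2) F) (v : Fin 2 → F) (i : Fin 2) :
    (X * frame A v) i 0 = (X *ᵥ v) i := by
  rw [Matrix.mul_apply, Matrix.mulVec, dotProduct]
  rfl

theorem mul_frame_col1 (X A : Matrix (Fin 2) (Fin 2) F) (v : Fin 2 → F) (i : Fin 2) :
    (X * frame A v) i 1 = (X *ᵥ (A *ᵥ v)) i := by
  rw [Matrix.mul_apply, Matrix.mulVec, dotProduct]
  rfl

theorem frame_mul_apply (A Y : Matrix (Fin 2) (Fin 2) F) (v : Fin 2 → F) (i j : Fin 2) :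
    (frame A v * Y) i j = v i * Y 0 j + (A *ᵥ v) i * Y 1 j := by
  rw [Matrix.mul_apply, Fin.sum_univ_two, frame_col0, frame_col1]

theorem exists_frame (A B : Matrix (Fin 2) (Fin 2) F) (hA : A * A = -1) (hB : B * B = -1)
    (hAB : A * B = -(B * A)) (h2 : (2 : F) ≠ 0) (r s : F) (hrs : r ^ 2 + s ^ 2 = -1)
    (hs : s ≠ 0) :
    ∃ P : Matrix (Fin 2) (Fin 2) F, P.det ≠ 0 ∧ A * P = P * A1 ∧ B * P = P * B1 r s := by
  set W : Matrix (Fin 2) (Fin 2) F := r • A + s • B with hWdef
  have hBA : B * A = -(A * B) := by rw [hAB, neg_neg]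
  have hWW : W * W = 1 := by
    rw [hWdef, Matrix.add_mul, Matrix.mul_add, Matrix.mul_add, Matrix.smul_mul, Matrix.smul_mul,
      Matrix.smul_mul, Matrix.smul_mul, Matrix.mul_smul, Matrix.mul_smul, Matrix.mul_smul,
      Matrix.mul_smul, hA, hB, hBA]
    ext i j
    simp only [Matrix.add_apply, Matrix.neg_apply, Matrix.smul_apply, smul_eq_mul]
    linear_combination (-(1 : Matrix (Fin 2) (Fin 2) F) i j) * hrs
  have hWA : W * A = -(A * W) - (2 * r) • (1 : Matrix (Fin 2) (Fin 2) F) := by
    rw [hWdef, Matrix.add_mul, Matrix.mul_add, Matrix.smul_mul, Matrix.smul_mul, Matrix.mul_smul,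
      Matrix.mul_smul, hA, hBA]
    ext i j
    simp only [Matrix.add_apply, Matrix.neg_apply, Matrix.smul_apply, smul_eq_mul,
      Matrix.sub_apply]
    ring
  -- `W ≠ -1`
  have hWne : W + 1 ≠ 0 := by
    intro h
    have hW : W = -1 := eq_neg_of_add_eq_zero_left h
    rw [hW] at hWA
    have h1 : (2 : F) • A = (2 * r) • (1 : Matrix (Fin 2) (Fin 2) F) := by
      have e : -(1 : Matrix (Fin 2) (Fin 2) F) * A = -(A * -1) - (2 * r) • 1 := hWA
      rw [neg_mul, one_mul, mul_neg, mul_one, neg_neg] at e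
      rw [two_smul]
      have : A + A = A - (-A) := by rw [sub_neg_eq_add]
      rw [this, e]
      abel
    have h3 : A = r • (1 : Matrix (Fin 2) (Fin 2) F) := by
      have := congrArg (fun X : Matrix (Fin 2) (Fin 2) F => (2 : F)⁻¹ • X) h1
      simp only [smul_smul] at this
      rw [inv_mul_cancel₀ h2, one_smul, ← mul_assoc, inv_mul_cancel₀ h2, one_mul] at this
      exact this
    have h4 : r ^ 2 = -1 := by
      have := congrArg (fun X : Matrix (Fin 2) (Fin 2) F => X 0 0) hA
      rw [h3] at this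
      simp only [Matrix.smul_mul, Matrix.mul_smul, Matrix.one_mul, smul_smul, Matrix.smul_apply,
        Matrix.one_apply_eq, smul_eq_mul, mul_one, Matrix.neg_apply] at this
      rw [pow_two]; exact this
    have h5 : s ^ 2 = 0 := by linear_combination hrs - h4
    exact hs (pow_eq_zero_iff (by norm_num) |>.mp h5)
  -- an eigenvector
  obtain ⟨v, hv0, hWv⟩ : ∃ v : Fin 2 → F, v ≠ 0 ∧ W *ᵥ v = v := by
    have : ∃ j, (fun i => (W + 1) i j) ≠ 0 := by
      by_contra hcon
      push Not at hcon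
      apply hWne
      ext i j
      exact congrFun (hcon j) i
    obtain ⟨j, hj⟩ := this
    refine ⟨(W + 1) *ᵥ (Pi.single j 1), ?_, ?_⟩
    · rw [Matrix.mulVec_single_one]
      exact hj
    · rw [Matrix.mulVec_mulVec, Matrix.mul_add, hWW, mul_one, add_comm]
  refine ⟨frame A v, ?_, ?_, ?_⟩
  · -- independence of `v` and `A v`
    intro hdet
    rw [Matrix.det_fin_two, frame_col0, frame_col0, frame_col1, frame_col1] at hdet
    obtain ⟨lam, hlam⟩ : ∃ lam : F, A *ᵥ v = lam • v := by
      by_cases h0 : v 0 = 0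
      · have h1 : v 1 ≠ 0 := by
          intro h1
          apply hv0
          ext i; fin_cases i <;> simp [h0, h1]
        refine ⟨(A *ᵥ v) 1 / v 1, ?_⟩
        ext i
        fin_cases i
        · simp only [Fin.zero_eta, Pi.smul_apply, smul_eq_mul, h0, mul_zero]
          rw [h0, zero_mul, zero_sub, neg_eq_zero] at hdet
          rcases mul_eq_zero.mp hdet with h | h
          · exact h
          · exact absurd h h1
        · simp only [Fin.mk_one, Pi.smul_apply, smul_eq_mul]
          field_simp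
      · refine ⟨(A *ᵥ v) 0 / v 0, ?_⟩
        ext i
        fin_cases i
        · simp only [Fin.zero_eta, Pi.smul_apply, smul_eq_mul]
          field_simp
        · simp only [Fin.mk_one, Pi.smul_apply, smul_eq_mul]
          field_simp
          linear_combination hdet
    have hAAv : A *ᵥ (A *ᵥ v) = -v := by
      rw [Matrix.mulVec_mulVec, hA, Matrix.neg_mulVec, Matrix.one_mulVec]
    have hl2 : (lam ^ 2 + 1) • v = 0 := by
      have : A *ᵥ (A *ᵥ v) = (lam ^ 2) • v := by
        rw [hlam, Matrix.mulVec_smul, hlam, smul_smul, pow_two]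
      rw [add_smul, one_smul, ← this, hAAv, neg_add_cancel]
    have hWAv : W *ᵥ (A *ᵥ v) = -(A *ᵥ v) - (2 * r) • v := by
      rw [Matrix.mulVec_mulVec, hWA, Matrix.sub_mulVec, Matrix.neg_mulVec, ← Matrix.mulVec_mulVec,
        hWv, Matrix.smul_mulVec, Matrix.one_mulVec]
    have hl1 : (2 * lam + 2 * r) • v = 0 := by
      have h1 : W *ᵥ (A *ᵥ v) = lam • v := by rw [hlam, Matrix.mulVec_smul, hWv]
      rw [h1, hlam] at hWAv
      have : (2 * lam + 2 * r) • v = lam • v - (-(lam • v) - (2 * r) • v) := by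
        rw [add_smul, mul_smul, two_smul]; abel
      rw [this, ← hWAv, sub_self]
    have hl2' : lam ^ 2 + 1 = 0 := by
      rcases smul_eq_zero.mp hl2 with h | h
      · exact h
      · exact absurd h hv0
    have hl1' : 2 * lam + 2 * r = 0 := by
      rcases smul_eq_zero.mp hl1 with h | h
      · exact h
      · exact absurd h hv0
    have hlr : lam = -r := by
      have : 2 * (lam + r) = 0 := by linear_combination hl1'
      rcases mul_eq_zero.mp this with h | h
      · exact absurd h h2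
      · linear_combination h
    have h5 : s ^ 2 = 0 := by
      rw [hlr] at hl2'
      linear_combination hrs - hl2'
    exact hs (pow_eq_zero_iff (by norm_num) |>.mp h5)
  · -- `A`
    ext i j
    fin_cases j
    · simp only [Fin.zero_eta]
      rw [mul_frame_col0, frame_mul_apply, A1_00, A1_10]
      ring
    · simp only [Fin.mk_one]
      rw [mul_frame_col1, frame_mul_apply, Matrix.mulVec_mulVec, hA, Matrix.neg_mulVec,
        Matrix.one_mulVec, A1_01, A1_11]
      simp only [Pi.neg_apply]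
      ring
  · -- `B`
    have hWP : W * frame A v = frame A v * W1 r := by
      ext i j
      fin_cases j
      · simp only [Fin.zero_eta]
        rw [mul_frame_col0, frame_mul_apply, hWv, W1_00, W1_10]
        ring
      · simp only [Fin.mk_one]
        rw [mul_frame_col1, frame_mul_apply, Matrix.mulVec_mulVec, hWA, Matrix.sub_mulVec,
          Matrix.neg_mulVec, ← Matrix.mulVec_mulVec, hWv, Matrix.smul_mulVec, Matrix.one_mulVec,
          W1_01, W1_11]
        simp only [Pi.sub_apply, Pi.neg_apply, Pi.smul_apply, smul_eq_mul]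
        ring
    have hAP : A * frame A v = frame A v * A1 := by
      ext i j
      fin_cases j
      · simp only [Fin.zero_eta]
        rw [mul_frame_col0, frame_mul_apply, A1_00, A1_10]
        ring
      · simp only [Fin.mk_one]
        rw [mul_frame_col1, frame_mul_apply, Matrix.mulVec_mulVec, hA, Matrix.neg_mulVec,
          Matrix.one_mulVec, A1_01, A1_11]
        simp only [Pi.neg_apply]
        ring
    have hBW : B = s⁻¹ • (W - r • A) := by
      rw [hWdef, add_sub_cancel_left, smul_smul, inv_mul_cancel₀ hs, one_smul]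
    rw [hBW, Matrix.smul_mul, Matrix.sub_mul, Matrix.smul_mul, hWP, hAP, B1_eq, Matrix.mul_smul,
      Matrix.mul_sub, Matrix.mul_smul]

/-- the entries of a matrix from its traces against `1`, `A1`, `B1`, `A1 * B1` -/
theorem entries_of_traces (r s : F) (hrs : r ^ 2 + s ^ 2 = -1) (hs : s ≠ 0) (h2 : (2 : F) ≠ 0)
    (H : Matrix (Fin 2) (Fin 2) F) :
    H 0 0 = 2⁻¹ * (H.trace - s⁻¹ * ((H * B1 r s).trace + r * (H * (A1 * B1 r s)).trace)) ∧
    H 0 1 = 2⁻¹ * ((H * A1).trace - s⁻¹ * ((H * (A1 * B1 r s)).trace - r * (H * B1 r s).trace)) ∧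
    H 1 0 = 2⁻¹ * (-(H * A1).trace -
      s⁻¹ * ((H * (A1 * B1 r s)).trace - r * (H * B1 r s).trace)) ∧
    H 1 1 = 2⁻¹ * (H.trace + s⁻¹ * ((H * B1 r s).trace + r * (H * (A1 * B1 r s)).trace)) := by
  have hr2 : r ^ 2 = -1 - s ^ 2 := by linear_combination hrs
  have e0 : H.trace = H 0 0 + H 1 1 := Matrix.trace_fin_two H
  have e1 : (H * A1).trace = H 0 1 - H 1 0 := by
    rw [Matrix.trace_fin_two, Matrix.mul_apply, Matrix.mul_apply, Fin.sum_univ_two,
      Fin.sum_univ_two]
    simp [A1]
    ring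
  have e2 : (H * B1 r s).trace = s⁻¹ * (H 0 0 - r * H 0 1 - r * H 1 0 - H 1 1) := by
    rw [Matrix.trace_fin_two, Matrix.mul_apply, Matrix.mul_apply, Fin.sum_univ_two,
      Fin.sum_univ_two]
    simp [B1]
    ring
  have e3 : (H * (A1 * B1 r s)).trace = s⁻¹ * (r * H 0 0 + H 0 1 + H 1 0 - r * H 1 1) := by
    have hab : (A1 * B1 r s : Matrix (Fin 2) (Fin 2) F) =
        !![r * s⁻¹, s⁻¹; s⁻¹, -(r * s⁻¹)] := by
      unfold A1 B1
      ext i j
      fin_cases i <;> fin_cases j <;> simp
    rw [hab, Matrix.trace_fin_two, Matrix.mul_apply, Matrix.mul_apply, Fin.sum_univ_two,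
      Fin.sum_univ_two]
    simp
    ring
  rw [e0, e1, e2, e3]
  refine ⟨?_, ?_, ?_, ?_⟩
  · field_simp
    linear_combination (H 0 0 - H 1 1) * hrs
  · field_simp
    linear_combination (H 0 1 + H 1 0) * hrs
  · field_simp
    linear_combination (H 0 1 + H 1 0) * hrs
  · field_simp
    linear_combination (H 1 1 - H 0 0) * hrs

end Cfsg.Agent.Helper8.Ds
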