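import Mathlib
import Cfsg.Agent.Helper8.DkGenF
import Cfsg.Agent.Helper8.DsA
import Cfsg.Agent.Helper8.DsB

set_option autoImplicit false
set_option linter.unusedSimpArgs false

/-!
Descent: a subgroup of `PSL₂(F)` containing a four-group, all of whose elements have traces in a
subfield, is conjugate under `PGL₂(F)` into the subfield subgroup.
-/

namespace Cfsg.Agent.Helper8.Ds

open Matrix Cfsg.Agent.Helper7.SL2 Cfsg.Agent.Helper8.SL2C Cfsg.Agent.Helper8.Dk Subgroup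
open scoped Matrix

variable {F : Type*} [Field F] {K : Type*} [Field K]

theorem trace_conj_mul (P H X X₁ : Matrix (Fin 2) (Fin 2) F) (hP : P.det ≠ 0)
    (hX : X * P = P * X₁) : ((P⁻¹ * H * P) * X₁).trace = (H * X).trace := by
  have hu : IsUnit P.det := isUnit_iff_ne_zero.mpr hP
  rw [Matrix.mul_assoc, ← hX, Matrix.mul_assoc, Matrix.trace_mul_comm, Matrix.mul_assoc,
    Matrix.mul_assoc, Matrix.mul_nonsing_inv P hu, Matrix.mul_one]

theorem trace_conj (P H : Matrix (Fin 2) (Fin 2) F) (hP : P.det ≠ 0) :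
    (P⁻¹ * H * P).trace = H.trace := by
  have hu : IsUnit P.det := isUnit_iff_ne_zero.mpr hP
  rw [Matrix.mul_assoc, Matrix.trace_mul_comm, Matrix.mul_assoc, Matrix.mul_nonsing_inv P hu,
    Matrix.mul_one]

/-- the matrix over the subfield given by the four traces -/
def ymat (r₀ s₀ u0 u1 u2 u3 : K) : Matrix (Fin 2) (Fin 2) K :=
  !![2⁻¹ * (u0 - s₀⁻¹ * (u2 + r₀ * u3)), 2⁻¹ * (u1 - s₀⁻¹ * (u3 - r₀ * u2));
     2⁻¹ * (-u1 - s₀⁻¹ * (u3 - r₀ * u2)), 2⁻¹ * (u0 + s₀⁻¹ * (u2 + r₀ * u3))]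

theorem conj_eq_map (f : K →+* F) (h2 : (2 : F) ≠ 0) (r₀ s₀ : K) (hrs : r₀ ^ 2 + s₀ ^ 2 = -1)
    (hs : s₀ ≠ 0) (P A B H : Matrix (Fin 2) (Fin 2) F) (hP : P.det ≠ 0) (hAP : A * P = P * A1)
    (hBP : B * P = P * B1 (f r₀) (f s₀)) (c : F) (u0 u1 u2 u3 : K)
    (h0 : H.trace = c * f u0) (h1 : (H * A).trace = c * f u1) (h2' : (H * B).trace = c * f u2)
    (h3 : (H * (A * B)).trace = c * f u3) :
    P⁻¹ * H * P = c • (ymat r₀ s₀ u0 u1 u2 u3).map f := by
  have hrs' : f r₀ ^ 2 + f s₀ ^ 2 = -1 := by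
    rw [← map_pow, ← map_pow, ← map_add, hrs, map_neg, map_one]
  have hs' : f s₀ ≠ 0 := fun h => hs (f.injective (by rw [h, map_zero]))
  have hABP : (A * B) * P = P * (A1 * B1 (f r₀) (f s₀)) := by
    rw [Matrix.mul_assoc, hBP, ← Matrix.mul_assoc, hAP, Matrix.mul_assoc]
  obtain ⟨e00, e01, e10, e11⟩ := entries_of_traces (f r₀) (f s₀) hrs' hs' h2 (P⁻¹ * H * P)
  have t0 := (trace_conj P H hP).trans h0
  have t1 := (trace_conj_mul P H A A1 hP hAP).trans h1
  have t2 := (trace_conj_mul P H B _ hP hBP).trans h2'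
  have t3 := (trace_conj_mul P H (A * B) _ hP hABP).trans h3
  simp only [t0, t1, t2, t3] at e00 e01 e10 e11
  have hf2 : f (2 : K) = 2 := map_ofNat f 2
  ext i j
  fin_cases i <;> fin_cases j
  · simp only [Fin.zero_eta, Fin.isValue, Matrix.smul_apply, Matrix.map_apply, smul_eq_mul]
    rw [e00]
    simp only [ymat, Matrix.of_apply, Matrix.cons_val', Matrix.cons_val_zero, Matrix.cons_val_fin_one,
      map_mul, map_sub, map_add, map_inv₀, hf2]
    ring
  · simp only [Fin.zero_eta, Fin.isValue, Fin.mk_one, Matrix.smul_apply, Matrix.map_apply,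
      smul_eq_mul]
    rw [e01]
    simp only [ymat, Matrix.of_apply, Matrix.cons_val', Matrix.cons_val_zero, Matrix.cons_val_one,
      Matrix.cons_val_fin_one, map_mul, map_sub, map_add, map_inv₀, hf2]
    ring
  · simp only [Fin.zero_eta, Fin.isValue, Fin.mk_one, Matrix.smul_apply, Matrix.map_apply,
      smul_eq_mul]
    rw [e10]
    simp only [ymat, Matrix.of_apply, Matrix.cons_val', Matrix.cons_val_zero, Matrix.cons_val_one,
      Matrix.cons_val_fin_one, map_mul, map_sub, map_add, map_neg, map_inv₀, hf2]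
    ring
  · simp only [Fin.isValue, Fin.mk_one, Matrix.smul_apply, Matrix.map_apply, smul_eq_mul]
    rw [e11]
    simp only [ymat, Matrix.of_apply, Matrix.cons_val', Matrix.cons_val_one,
      Matrix.cons_val_fin_one, map_mul, map_sub, map_add, map_inv₀, hf2]
    ring


theorem coe_neg_one :
    ((-1 : SpecialLinearGroup (Fin 2) F) : Matrix (Fin 2) (Fin 2) F) = -1 := by
  rw [Matrix.SpecialLinearGroup.coe_neg, Matrix.SpecialLinearGroup.coe_one]

theorem trace_coe_mul (h x : SpecialLinearGroup (Fin 2) F) :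
    ((h : Matrix (Fin 2) (Fin 2) F) * (x : Matrix (Fin 2) (Fin 2) F)).trace = tr (h * x) := by
  rw [← Matrix.SpecialLinearGroup.coe_mul, trace_coe]

/-- descent in `SL₂` -/
theorem descent_SL (f : K →+* F) (h2 : (2 : F) ≠ 0)
    (Mt : Subgroup (SpecialLinearGroup (Fin 2) F)) {a b : SpecialLinearGroup (Fin 2) F}
    (ha : a ∈ Mt) (hb : b ∈ Mt) (haa : a * a = -1) (hbb : b * b = -1) (hab : a * b = -(b * a))
    (r₀ s₀ : K) (hrs : r₀ ^ 2 + s₀ ^ 2 = -1) (hs : s₀ ≠ 0)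
    (htr : ∀ h ∈ Mt, tr h ∈ Set.range f) :
    ∃ (d : F) (hd : d ≠ 0) (S : SpecialLinearGroup (Fin 2) F),
      ∀ h ∈ Mt, S⁻¹ * h * S ∈ (psi f d hd).range := by
  have hA : (a : Matrix (Fin 2) (Fin 2) F) * (a : Matrix (Fin 2) (Fin 2) F) = -1 := by
    rw [← Matrix.SpecialLinearGroup.coe_mul, haa, coe_neg_one]
  have hB : (b : Matrix (Fin 2) (Fin 2) F) * (b : Matrix (Fin 2) (Fin 2) F) = -1 := by
    rw [← Matrix.SpecialLinearGroup.coe_mul, hbb, coe_neg_one]
  have hAB : (a : Matrix (Fin 2) (Fin 2) F) * (b : Matrix (Fin 2) (Fin 2) F) =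
      -((b : Matrix (Fin 2) (Fin 2) F) * (a : Matrix (Fin 2) (Fin 2) F)) := by
    rw [← Matrix.SpecialLinearGroup.coe_mul, hab, Matrix.SpecialLinearGroup.coe_neg,
      Matrix.SpecialLinearGroup.coe_mul]
  have hrs' : f r₀ ^ 2 + f s₀ ^ 2 = -1 := by
    rw [← map_pow, ← map_pow, ← map_add, hrs, map_neg, map_one]
  have hs' : f s₀ ≠ 0 := fun h => hs (f.injective (by rw [h, map_zero]))
  obtain ⟨P, hP, hAP, hBP⟩ := exists_frame _ _ hA hB hAB h2 (f r₀) (f s₀) hrs' hs'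
  have hu : IsUnit P.det := isUnit_iff_ne_zero.mpr hP
  set d := P.det with hd
  let Dinv : Matrix (Fin 2) (Fin 2) F := !![d⁻¹, 0; 0, 1]
  have hSdet : (P * Dinv).det = 1 := by
    rw [Matrix.det_mul, Matrix.det_fin_two_of, ← hd, mul_one, mul_zero, sub_zero,
      mul_inv_cancel₀ hP]
  obtain ⟨S, hS⟩ : ∃ S : SpecialLinearGroup (Fin 2) F,
      (S : Matrix (Fin 2) (Fin 2) F) = P * Dinv := ⟨⟨P * Dinv, hSdet⟩, rfl⟩
  refine ⟨d, hP, S, ?_⟩
  intro h hh
  obtain ⟨u0, hu0⟩ := htr h hh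
  obtain ⟨u1, hu1⟩ := htr (h * a) (Mt.mul_mem hh ha)
  obtain ⟨u2, hu2⟩ := htr (h * b) (Mt.mul_mem hh hb)
  obtain ⟨u3, hu3⟩ := htr (h * (a * b)) (Mt.mul_mem hh (Mt.mul_mem ha hb))
  have hZ := conj_eq_map f h2 r₀ s₀ hrs hs P _ _ (h : Matrix (Fin 2) (Fin 2) F) hP hAP hBP 1
    u0 u1 u2 u3 (by rw [trace_coe, one_mul, hu0]) (by rw [trace_coe_mul, one_mul, hu1])
    (by rw [trace_coe_mul, one_mul, hu2])
    (by rw [← Matrix.SpecialLinearGroup.coe_mul, trace_coe_mul, one_mul, hu3])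
  rw [one_smul] at hZ
  set Y := ymat r₀ s₀ u0 u1 u2 u3 with hY
  have hYdet : Y.det = 1 := by
    apply f.injective
    rw [map_one, RingHom.map_det, RingHom.mapMatrix_apply, ← hZ, Matrix.det_mul, Matrix.det_mul,
      Matrix.det_nonsing_inv, (h : SpecialLinearGroup (Fin 2) F).2, mul_one,
      Ring.inverse_mul_cancel _ hu]
  obtain ⟨y, hy⟩ : ∃ y : SpecialLinearGroup (Fin 2) K,
      (y : Matrix (Fin 2) (Fin 2) K) = Y := ⟨⟨Y, hYdet⟩, rfl⟩
  refine ⟨y, ?_⟩
  -- `psi f d y = S⁻¹ h S`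
  have hHP : (h : Matrix (Fin 2) (Fin 2) F) * P = P * Y.map f := by
    rw [← hZ, ← Matrix.mul_assoc, ← Matrix.mul_assoc, Matrix.mul_nonsing_inv P hu, Matrix.one_mul]
  rw [mul_assoc, eq_inv_mul_iff_mul_eq]
  apply Subtype.ext
  rw [Matrix.SpecialLinearGroup.coe_mul, Matrix.SpecialLinearGroup.coe_mul, hS]
  have hΨ : Dinv * ((psi f d hP y : SpecialLinearGroup (Fin 2) F) :
      Matrix (Fin 2) (Fin 2) F) = Y.map f * Dinv := by
    ext i j
    rw [Matrix.mul_apply, Matrix.mul_apply, Fin.sum_univ_two, Fin.sum_univ_two]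
    fin_cases i <;> fin_cases j
    · simp only [Fin.zero_eta, Fin.isValue]
      rw [psi_00, psi_10, hy]
      simp [Dinv]
      ring
    · simp only [Fin.zero_eta, Fin.isValue, Fin.mk_one]
      rw [psi_01, psi_11, hy]
      simp [Dinv]
      field_simp
    · simp only [Fin.zero_eta, Fin.isValue, Fin.mk_one]
      rw [psi_00, psi_10, hy]
      simp [Dinv]
      ring
    · simp only [Fin.isValue, Fin.mk_one]
      rw [psi_01, psi_11, hy]
      simp [Dinv]
  rw [Matrix.mul_assoc, hΨ, ← Matrix.mul_assoc, ← hHP, Matrix.mul_assoc]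

end Cfsg.Agent.Helper8.Ds
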