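import Mathlib
import Cfsg.Agent.Helper8.DsC
import Cfsg.Agent.Helper8.SL2Order4

set_option autoImplicit false
set_option linter.unusedSimpArgs false

/-!
Descent in `PSL₂`: lifts of commuting involutions, and the main statement.
-/

namespace Cfsg.Agent.Helper8.Ds

open Matrix Cfsg.Agent.Helper7.SL2 Cfsg.Agent.Helper8.SL2C Cfsg.Agent.Helper8.Dk Subgroup
open scoped Matrix

variable {F : Type*} [Field F] {K : Type*} [Field K]

/-- in odd characteristic the square roots of `1` in `SL₂` are `±1` -/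
theorem eq_one_or_of_sq (h2 : (2 : F) ≠ 0) {x : SpecialLinearGroup (Fin 2) F} (h : x * x = 1) :
    x = 1 ∨ x = -1 := by
  have hx := sq_eq x
  have e : (x : Matrix (Fin 2) (Fin 2) F) * (x : Matrix (Fin 2) (Fin 2) F) = 1 := by
    rw [← Matrix.SpecialLinearGroup.coe_mul, h, Matrix.SpecialLinearGroup.coe_one]
  rw [e] at hx
  -- `tr x • x = 2`
  have h1 : tr x • (x : Matrix (Fin 2) (Fin 2) F) = (2 : F) • (1 : Matrix (Fin 2) (Fin 2) F) := by
    rw [two_smul]
    exact (eq_sub_iff_add_eq.mp hx).symm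
  have ht : tr x ≠ 0 := by
    intro ht
    rw [ht, zero_smul] at h1
    have := congrArg (fun X : Matrix (Fin 2) (Fin 2) F => X 0 0) h1
    simp only [Matrix.zero_apply, Matrix.smul_apply, Matrix.one_apply_eq, smul_eq_mul, mul_one] at this
    exact h2 this.symm
  have e00 := congrArg (fun X : Matrix (Fin 2) (Fin 2) F => X 0 0) h1
  have e01 := congrArg (fun X : Matrix (Fin 2) (Fin 2) F => X 0 1) h1
  have e10 := congrArg (fun X : Matrix (Fin 2) (Fin 2) F => X 1 0) h1
  have e11 := congrArg (fun X : Matrix (Fin 2) (Fin 2) F => X 1 1) h1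
  simp only [Matrix.smul_apply, smul_eq_mul, Matrix.one_apply_eq, mul_one, ne_eq, zero_ne_one,
    one_ne_zero, not_false_eq_true, Matrix.one_apply_ne, mul_zero] at e00 e01 e10 e11
  have x01 : (x : Matrix (Fin 2) (Fin 2) F) 0 1 = 0 := by
    rcases mul_eq_zero.mp e01 with h | h
    · exact absurd h ht
    · exact h
  have x10 : (x : Matrix (Fin 2) (Fin 2) F) 1 0 = 0 := by
    rcases mul_eq_zero.mp e10 with h | h
    · exact absurd h ht
    · exact h
  have x11 : (x : Matrix (Fin 2) (Fin 2) F) 1 1 = (x : Matrix (Fin 2) (Fin 2) F) 0 0 := by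
    apply mul_left_cancel₀ ht
    rw [e11, e00]
  have hd := det_eq x
  rw [x01, x10, x11, mul_zero, sub_zero] at hd
  have hsq : ((x : Matrix (Fin 2) (Fin 2) F) 0 0 - 1) * ((x : Matrix (Fin 2) (Fin 2) F) 0 0 + 1) = 0 := by
    linear_combination hd
  rcases mul_eq_zero.mp hsq with h | h
  · left
    apply ext'
    · rw [one_00]; linear_combination h
    · rw [one_01]; exact x01
    · rw [one_10]; exact x10
    · rw [one_11, x11]; linear_combination h
  · right
    apply ext'
    · rw [SL2C.neg_apply, one_00]; linear_combination h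
    · rw [SL2C.neg_apply, one_01, neg_zero]; exact x01
    · rw [SL2C.neg_apply, one_10, neg_zero]; exact x10
    · rw [SL2C.neg_apply, one_11, x11]; linear_combination h

/-- lifts of two distinct commuting involutions anticommute and square to `-1` -/
theorem exists_anticomm (h2 : (2 : F) ≠ 0) {x y : ProjectiveSpecialLinearGroup (Fin 2) F}
    (hx : x ≠ 1) (hy : y ≠ 1) (hxy : x ≠ y) (hx2 : x * x = 1) (hy2 : y * y = 1)
    (hc : x * y = y * x) :
    ∃ a b : SpecialLinearGroup (Fin 2) F, pmk a = x ∧ pmk b = y ∧ a * a = -1 ∧ b * b = -1 ∧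
      a * b = -(b * a) := by
  obtain ⟨a, rfl⟩ := pmk_surjective x
  obtain ⟨b, rfl⟩ := pmk_surjective y
  have haa : a * a = -1 := by
    rw [pmk_mul, pmk_eq_one_iff] at hx2
    rcases hx2 with h | h
    · exfalso
      apply hx
      rw [pmk_eq_one_iff]
      exact eq_one_or_of_sq h2 h
    · exact h
  have hbb : b * b = -1 := by
    rw [pmk_mul, pmk_eq_one_iff] at hy2
    rcases hy2 with h | h
    · exfalso
      apply hy
      rw [pmk_eq_one_iff]
      exact eq_one_or_of_sq h2 h
    · exact h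
  refine ⟨a, b, rfl, rfl, haa, hbb, ?_⟩
  rw [pmk_mul, pmk_mul, pmk_eq_iff] at hc
  rcases hc with h | h
  · exfalso
    have h1 : (a * b) * (a * b) = 1 := by
      calc (a * b) * (a * b) = a * (b * a) * b := by group
        _ = a * (a * b) * b := by rw [h]
        _ = (a * a) * (b * b) := by group
        _ = 1 := by rw [haa, hbb]; simp
    have h3 : pmk (a * b) = 1 := by
      rw [pmk_eq_one_iff]
      exact eq_one_or_of_sq h2 h1
    apply hxy
    rw [← pmk_mul] at h3
    have : pmk a = (pmk b)⁻¹ := eq_inv_of_mul_eq_one_left h3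
    rw [this]
    exact inv_eq_of_mul_eq_one_left hy2
  · exact h

/-- a sum of two squares equal to `-1`, with nonzero second term -/
theorem exists_rs (p : ℕ) [Fact p.Prime] [CharP K p] :
    ∃ r s : K, r ^ 2 + s ^ 2 = -1 ∧ s ≠ 0 := by
  obtain ⟨a, b, hab⟩ := CharP.sq_add_sq K p (-1)
  have hab' : (a : K) ^ 2 + (b : K) ^ 2 = -1 := by
    rw [hab]; simp
  by_cases hb : (b : K) = 0
  · refine ⟨0, a, ?_, ?_⟩
    · rw [hb] at hab'
      linear_combination hab'
    · intro ha
      rw [ha, hb] at hab'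
      simp at hab'
  · exact ⟨a, b, hab', hb⟩

/-- descent in `PSL₂`: a subgroup containing a four-group, with traces in the subfield, is conjugate
into the twisted subfield subgroup -/
theorem descent_PSL (p : ℕ) [Fact p.Prime] [CharP K p] (f : K →+* F) (h2 : (2 : F) ≠ 0)
    (M : Subgroup (ProjectiveSpecialLinearGroup (Fin 2) F))
    {x y : ProjectiveSpecialLinearGroup (Fin 2) F} (hxM : x ∈ M) (hyM : y ∈ M)
    (hx : x ≠ 1) (hy : y ≠ 1) (hxy : x ≠ y) (hx2 : x * x = 1) (hy2 : y * y = 1)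
    (hc : x * y = y * x)
    (htr : ∀ h : SpecialLinearGroup (Fin 2) F, pmk h ∈ M → tr h ∈ Set.range f) :
    ∃ (d : F) (hd : d ≠ 0) (g : ProjectiveSpecialLinearGroup (Fin 2) F),
      cj g M ≤ (pslTw f d hd).range := by
  obtain ⟨a, b, rfl, rfl, haa, hbb, hab⟩ := exists_anticomm h2 hx hy hxy hx2 hy2 hc
  obtain ⟨r₀, s₀, hrs, hs⟩ := exists_rs (K := K) p
  obtain ⟨d, hd, S, hS⟩ := descent_SL f h2 (M.comap (ph F)) (a := a) (b := b) hxM hyM haa hbb hab
    r₀ s₀ hrs hs (fun h hh => htr h hh)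
  refine ⟨d, hd, (pmk S)⁻¹, ?_⟩
  intro z hz
  rw [mem_cj, inv_inv] at hz
  obtain ⟨h', rfl⟩ := pmk_surjective z
  rw [pslTw_range]
  have h1 : S * h' * S⁻¹ ∈ M.comap (ph F) := hz
  have h3 := hS _ h1
  have h4 : S⁻¹ * (S * h' * S⁻¹) * S = h' := by group
  rw [h4] at h3
  exact ⟨h', h3, rfl⟩

end Cfsg.Agent.Helper8.Ds
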