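import Mathlib
import Cfsg.Agent.Helper8.DsD

set_option autoImplicit false
set_option linter.unusedSimpArgs false

/-!
Matrices proportional to a matrix over a subfield, and the subgroup of `SL₂(F)` they define after
a change of basis. This gives proper overgroups of subfield subgroups (the `PGL₂(K)`-type subgroups).
-/

namespace Cfsg.Agent.Helper8.Ds

open Matrix Cfsg.Agent.Helper7.SL2 Cfsg.Agent.Helper8.SL2C Cfsg.Agent.Helper8.Dk Subgroup
open scoped Matrix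

variable {F : Type*} [Field F] {K : Type*} [Field K]

/-- a matrix proportional to a matrix with entries in the subfield -/
def IsKProp (f : K →+* F) (Z : Matrix (Fin 2) (Fin 2) F) : Prop :=
  ∃ (c : F) (Y : Matrix (Fin 2) (Fin 2) K), Z = c • Y.map f

theorem isKProp_one (f : K →+* F) : IsKProp f 1 :=
  ⟨1, 1, by rw [one_smul, Matrix.map_one f (map_zero f) (map_one f)]⟩

theorem IsKProp.mul {f : K →+* F} {Z Z' : Matrix (Fin 2) (Fin 2) F} (h : IsKProp f Z)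
    (h' : IsKProp f Z') : IsKProp f (Z * Z') := by
  obtain ⟨c, Y, rfl⟩ := h
  obtain ⟨c', Y', rfl⟩ := h'
  refine ⟨c * c', Y * Y', ?_⟩
  rw [Matrix.smul_mul, Matrix.mul_smul, smul_smul, Matrix.map_mul]

theorem IsKProp.adjugate {f : K →+* F} {Z : Matrix (Fin 2) (Fin 2) F} (h : IsKProp f Z) :
    IsKProp f Z.adjugate := by
  obtain ⟨c, Y, rfl⟩ := h
  refine ⟨c, Y.adjugate, ?_⟩
  rw [Matrix.adjugate_smul, Fintype.card_fin, Nat.add_one_sub_one, pow_one,
    ← RingHom.mapMatrix_apply, ← RingHom.map_adjugate, RingHom.mapMatrix_apply]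

/-- the subgroup of `SL₂(F)` of the elements proportional to a matrix over the subfield, in the
basis given by `Q` -/
def subQ (f : K →+* F) (Q : Matrix (Fin 2) (Fin 2) F) (hQ : Q.det ≠ 0) :
    Subgroup (SpecialLinearGroup (Fin 2) F) where
  carrier := {h | IsKProp f (Q⁻¹ * (h : Matrix (Fin 2) (Fin 2) F) * Q)}
  one_mem' := by
    have hu : IsUnit Q.det := isUnit_iff_ne_zero.mpr hQ
    change IsKProp f (Q⁻¹ * ((1 : SpecialLinearGroup (Fin 2) F) : Matrix (Fin 2) (Fin 2) F) * Q)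
    rw [Matrix.SpecialLinearGroup.coe_one, Matrix.mul_one, Matrix.nonsing_inv_mul Q hu]
    exact isKProp_one f
  mul_mem' := by
    intro a b ha hb
    have hu : IsUnit Q.det := isUnit_iff_ne_zero.mpr hQ
    change IsKProp f (Q⁻¹ * ((a * b : SpecialLinearGroup (Fin 2) F) : Matrix (Fin 2) (Fin 2) F) * Q)
    have e : Q⁻¹ * ((a * b : SpecialLinearGroup (Fin 2) F) : Matrix (Fin 2) (Fin 2) F) * Q =
        (Q⁻¹ * (a : Matrix (Fin 2) (Fin 2) F) * Q) * (Q⁻¹ * (b : Matrix (Fin 2) (Fin 2) F) * Q) := by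
      rw [Matrix.SpecialLinearGroup.coe_mul]
      calc Q⁻¹ * ((a : Matrix (Fin 2) (Fin 2) F) * (b : Matrix (Fin 2) (Fin 2) F)) * Q
          = Q⁻¹ * (a : Matrix (Fin 2) (Fin 2) F) * 1 * (b : Matrix (Fin 2) (Fin 2) F) * Q := by
            simp only [Matrix.mul_one, Matrix.mul_assoc]
        _ = Q⁻¹ * (a : Matrix (Fin 2) (Fin 2) F) * (Q * Q⁻¹) * (b : Matrix (Fin 2) (Fin 2) F) * Q := by
            rw [Matrix.mul_nonsing_inv Q hu]
        _ = _ := by simp only [Matrix.mul_assoc]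
    rw [e]
    exact IsKProp.mul ha hb
  inv_mem' := by
    intro a ha
    have hu : IsUnit Q.det := isUnit_iff_ne_zero.mpr hQ
    change IsKProp f (Q⁻¹ * ((a⁻¹ : SpecialLinearGroup (Fin 2) F) : Matrix (Fin 2) (Fin 2) F) * Q)
    have ha' : IsKProp f (Q⁻¹ * (a : Matrix (Fin 2) (Fin 2) F) * Q) := ha
    have e : Q⁻¹ * ((a⁻¹ : SpecialLinearGroup (Fin 2) F) : Matrix (Fin 2) (Fin 2) F) * Q =
        (Q⁻¹ * (a : Matrix (Fin 2) (Fin 2) F) * Q).adjugate := by
      set Z := Q⁻¹ * (a : Matrix (Fin 2) (Fin 2) F) * Q with hZ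
      set Z' := Q⁻¹ * ((a⁻¹ : SpecialLinearGroup (Fin 2) F) : Matrix (Fin 2) (Fin 2) F) * Q with hZ'
      have hZZ' : Z * Z' = 1 := by
        calc Z * Z' = Q⁻¹ * (a : Matrix (Fin 2) (Fin 2) F) * (Q * Q⁻¹) *
              ((a⁻¹ : SpecialLinearGroup (Fin 2) F) : Matrix (Fin 2) (Fin 2) F) * Q := by
              rw [hZ, hZ']; simp only [Matrix.mul_assoc]
          _ = Q⁻¹ * ((a : Matrix (Fin 2) (Fin 2) F) *
              ((a⁻¹ : SpecialLinearGroup (Fin 2) F) : Matrix (Fin 2) (Fin 2) F)) * Q := by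
              rw [Matrix.mul_nonsing_inv Q hu, Matrix.mul_one]; simp only [Matrix.mul_assoc]
          _ = 1 := by
              rw [← Matrix.SpecialLinearGroup.coe_mul, mul_inv_cancel,
                Matrix.SpecialLinearGroup.coe_one, Matrix.mul_one, Matrix.nonsing_inv_mul Q hu]
      have hdet : Z.det = 1 := by
        rw [hZ, Matrix.det_mul, Matrix.det_mul, Matrix.det_nonsing_inv, a.2, mul_one,
          Ring.inverse_mul_cancel _ hu]
      have h1 : Z⁻¹ = Z' := Matrix.inv_eq_right_inv hZZ'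
      rw [← h1, Matrix.inv_def, hdet, Ring.inverse_one, one_smul]
    rw [e]
    exact ha'.adjugate


theorem mem_subQ {f : K →+* F} {Q : Matrix (Fin 2) (Fin 2) F} {hQ : Q.det ≠ 0}
    {h : SpecialLinearGroup (Fin 2) F} :
    h ∈ subQ f Q hQ ↔ IsKProp f (Q⁻¹ * (h : Matrix (Fin 2) (Fin 2) F) * Q) := Iff.rfl

theorem neg_mem_subQ {f : K →+* F} {Q : Matrix (Fin 2) (Fin 2) F} {hQ : Q.det ≠ 0}
    {h : SpecialLinearGroup (Fin 2) F} (hh : h ∈ subQ f Q hQ) : -h ∈ subQ f Q hQ := by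
  rw [mem_subQ] at hh ⊢
  obtain ⟨c, Y, hY⟩ := hh
  refine ⟨-c, Y, ?_⟩
  rw [Matrix.SpecialLinearGroup.coe_neg, Matrix.mul_neg, Matrix.neg_mul, hY, neg_smul]

/-- the element of `SL₂(F)` with matrix `Q Z Q⁻¹` -/
theorem exists_conjElt (Q : Matrix (Fin 2) (Fin 2) F) (hQ : Q.det ≠ 0)
    (Z : Matrix (Fin 2) (Fin 2) F) (hZ : Z.det = 1) :
    ∃ h : SpecialLinearGroup (Fin 2) F, Q⁻¹ * (h : Matrix (Fin 2) (Fin 2) F) * Q = Z := by
  have hu : IsUnit Q.det := isUnit_iff_ne_zero.mpr hQ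
  have hdet : (Q * Z * Q⁻¹).det = 1 := by
    rw [Matrix.det_mul, Matrix.det_mul, Matrix.det_nonsing_inv, hZ, mul_one,
      Ring.mul_inverse_cancel _ hu]
  refine ⟨⟨Q * Z * Q⁻¹, hdet⟩, ?_⟩
  change Q⁻¹ * (Q * Z * Q⁻¹) * Q = Z
  calc Q⁻¹ * (Q * Z * Q⁻¹) * Q = (Q⁻¹ * Q) * Z * (Q⁻¹ * Q) := by simp only [Matrix.mul_assoc]
    _ = Z := by rw [Matrix.nonsing_inv_mul Q hu, Matrix.one_mul, Matrix.mul_one]

/-- the image in `PSL₂(F)` is a proper subgroup when the subfield is proper -/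
theorem map_subQ_ne_top (f : K →+* F) (Q : Matrix (Fin 2) (Fin 2) F) (hQ : Q.det ≠ 0)
    {β : F} (hβ : β ∉ Set.range f) : (subQ f Q hQ).map (ph F) ≠ ⊤ := by
  intro htop
  obtain ⟨h₀, hh₀⟩ := exists_conjElt Q hQ (up β : SpecialLinearGroup (Fin 2) F)
    (up β : SpecialLinearGroup (Fin 2) F).2
  have hmem : pmk h₀ ∈ (subQ f Q hQ).map (ph F) := by rw [htop]; exact mem_top _
  obtain ⟨h₁, hh₁, h11⟩ := hmem
  have h2 : h₀ ∈ subQ f Q hQ := by
    rw [ph_apply, pmk_eq_iff] at h11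
    rcases h11 with h | h
    · rw [← h]; exact hh₁
    · have : h₀ = -h₁ := by rw [h, neg_neg]
      rw [this]; exact neg_mem_subQ hh₁
  rw [mem_subQ, hh₀] at h2
  obtain ⟨c, Y, hY⟩ := h2
  have e00 := congrArg (fun X : Matrix (Fin 2) (Fin 2) F => X 0 0) hY
  have e01 := congrArg (fun X : Matrix (Fin 2) (Fin 2) F => X 0 1) hY
  simp only [up_00, up_01, Matrix.smul_apply, Matrix.map_apply, smul_eq_mul] at e00 e01
  apply hβ
  have hy00 : f (Y 0 0) ≠ 0 := by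
    intro h
    rw [h, mul_zero] at e00
    exact one_ne_zero e00
  refine ⟨Y 0 1 / Y 0 0, ?_⟩
  rw [map_div₀, div_eq_iff hy00]
  linear_combination f (Y 0 1) * e00 - f (Y 0 0) * e01

end Cfsg.Agent.Helper8.Ds
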