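import Mathlib
import Cfsg.Agent.Helper8.DsE

set_option autoImplicit false
set_option linter.unusedSimpArgs false

/-!
Descent with proportionality factors; unipotent elements; the subfield as the fixed field of a power
of the Frobenius map; descent from element orders.
-/

namespace Cfsg.Agent.Helper8.Ds

open Matrix Cfsg.Agent.Helper7.SL2 Cfsg.Agent.Helper8.SL2C Cfsg.Agent.Helper8.Dk Subgroup
open scoped Matrix

variable {F : Type*} [Field F] {K : Type*} [Field K]

/-- descent with proportionality factors -/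
theorem descent_prop (f : K →+* F) (h2 : (2 : F) ≠ 0)
    (Mt : Subgroup (SpecialLinearGroup (Fin 2) F)) {a b : SpecialLinearGroup (Fin 2) F}
    (haa : a * a = -1) (hbb : b * b = -1) (hab : a * b = -(b * a))
    (r₀ s₀ : K) (hrs : r₀ ^ 2 + s₀ ^ 2 = -1) (hs : s₀ ≠ 0)
    (htr : ∀ h ∈ Mt, ∃ (c : F) (u0 u1 u2 u3 : K), tr h = c * f u0 ∧ tr (h * a) = c * f u1 ∧
      tr (h * b) = c * f u2 ∧ tr (h * (a * b)) = c * f u3) :
    ∃ (P : Matrix (Fin 2) (Fin 2) F) (hP : P.det ≠ 0), Mt ≤ subQ f P hP := by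
  have hA : (a : Matrix (Fin 2) (Fin 2) F) * (a : Matrix (Fin 2) (Fin 2) F) = -1 := by
    rw [← Matrix.SpecialLinearGroup.coe_mul, haa, coe_neg_one]
  have hB : (b : Matrix (Fin 2) (Fin 2) F) * (b : Matrix (Fin 2) (Fin 2) F) = -1 := by
    rw [← Matrix.SpecialLinearGroup.coe_mul, hbb, coe_neg_one]
  have hAB : (a : Matrix (Fin 2) (Fin 2) F) * (b : Matrix (Fin 2) (Fin 2) F) =
      -((b : Matrix (Fin 2) (Fin 2) F) * (a : Matrix (Fin 2) (Fin 2) F)) := by
    rw [← Matrix.SpecialLinearGroup.coe_mul, hab, Matrix.SpecialLinearGroup.coe_neg,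
      Matrix.SpecialLinearGroup.coe_mul]
  have hrs' : f r₀ ^ 2 + f s₀ ^ 2 = -1 := by
    rw [← map_pow, ← map_pow, ← map_add, hrs, map_neg, map_one]
  have hs' : f s₀ ≠ 0 := fun h => hs (f.injective (by rw [h, map_zero]))
  obtain ⟨P, hP, hAP, hBP⟩ := exists_frame _ _ hA hB hAB h2 (f r₀) (f s₀) hrs' hs'
  refine ⟨P, hP, ?_⟩
  intro h hh
  obtain ⟨c, u0, u1, u2, u3, e0, e1, e2, e3⟩ := htr h hh
  rw [mem_subQ]
  exact ⟨c, _, conj_eq_map f h2 r₀ s₀ hrs hs P _ _ (h : Matrix (Fin 2) (Fin 2) F) hP hAP hBP c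
    u0 u1 u2 u3 (by rw [trace_coe, e0]) (by rw [trace_coe_mul, e1]) (by rw [trace_coe_mul, e2])
    (by rw [← Matrix.SpecialLinearGroup.coe_mul, trace_coe_mul, e3])⟩

/-- powers of an element of trace two -/
theorem unip_pow (h : SpecialLinearGroup (Fin 2) F) (ht : tr h = 2) (n : ℕ) :
    (h : Matrix (Fin 2) (Fin 2) F) ^ n = 1 + (n : F) • ((h : Matrix (Fin 2) (Fin 2) F) - 1) := by
  have hsq := sq_eq h
  rw [ht] at hsq
  induction n with
  | zero => simp
  | succ n ih =>
    rw [pow_succ, ih, Matrix.add_mul, Matrix.one_mul, Matrix.smul_mul, Matrix.sub_mul,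
      Matrix.one_mul, hsq, Nat.cast_succ, add_smul, one_smul, two_smul]
    have e : (h : Matrix (Fin 2) (Fin 2) F) + (h : Matrix (Fin 2) (Fin 2) F) - 1 -
        (h : Matrix (Fin 2) (Fin 2) F) = (h : Matrix (Fin 2) (Fin 2) F) - 1 := by abel
    rw [e]
    abel

/-- a nontrivial element of trace two has no torsion prime to the characteristic -/
theorem no_unip_torsion (h2 : (2 : F) ≠ 0) (h : SpecialLinearGroup (Fin 2) F) (ht : tr h = 2)
    (h1 : h ≠ 1) (n : ℕ) (hn : (n : F) ≠ 0) (hpow : pmk h ^ n = 1) : False := by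
  rw [pmk_pow, pmk_eq_one_iff] at hpow
  have hN : (h : Matrix (Fin 2) (Fin 2) F) - 1 ≠ 0 := by
    intro h0
    apply h1
    apply Subtype.ext
    rw [Matrix.SpecialLinearGroup.coe_one]
    exact sub_eq_zero.mp h0
  have hp := unip_pow h ht n
  rw [← Matrix.SpecialLinearGroup.coe_pow] at hp
  rcases hpow with hpow | hpow
  · rw [hpow, Matrix.SpecialLinearGroup.coe_one] at hp
    have h0 : (n : F) • ((h : Matrix (Fin 2) (Fin 2) F) - 1) = 0 := by
      have := hp
      rw [left_eq_add] at this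
      exact this
    rcases smul_eq_zero.mp h0 with h | h
    · exact hn h
    · exact hN h
  · -- `tr (h^n) = 2` but `tr (-1) = -2`
    have htr : tr (h ^ n) = 2 := by
      rw [← trace_coe, hp, Matrix.trace_add, Matrix.trace_one, Matrix.trace_smul, Matrix.trace_sub,
        Matrix.trace_one, trace_coe, ht]
      simp
    rw [hpow, tr_neg, tr_one] at htr
    apply h2
    have : (2 : F) * 2 = 0 := by linear_combination -htr
    rcases mul_eq_zero.mp this with h | h <;> exact h

/-- the image of a finite field under a homomorphism is the set of fixed points of the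
corresponding power map -/
theorem mem_range_of_pow_card [Fintype F] [Fintype K] (f : K →+* F) {x : F}
    (hx : x ^ Fintype.card K = x) : x ∈ Set.range f := by
  classical
  set N := Fintype.card K with hN
  have hN1 : 1 < N := Fintype.one_lt_card
  have hpoly : (Polynomial.X ^ N - Polynomial.X : Polynomial F) ≠ 0 :=
    FiniteField.X_pow_card_sub_X_ne_zero F hN1
  set R := (Polynomial.X ^ N - Polynomial.X : Polynomial F).roots.toFinset with hR
  have hRcard : R.card ≤ N := by
    calc R.card ≤ Multiset.card (Polynomial.X ^ N - Polynomial.X : Polynomial F).roots :=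
          Multiset.toFinset_card_le _
      _ ≤ (Polynomial.X ^ N - Polynomial.X : Polynomial F).natDegree := Polynomial.card_roots' _
      _ = N := FiniteField.X_pow_card_sub_X_natDegree_eq F hN1
  have hmemR : ∀ y : F, y ∈ R ↔ y ^ N = y := by
    intro y
    rw [hR, Multiset.mem_toFinset, Polynomial.mem_roots hpoly, Polynomial.IsRoot.def,
      Polynomial.eval_sub, Polynomial.eval_pow, Polynomial.eval_X, sub_eq_zero]
  have hsub : Finset.univ.image f ⊆ R := by
    intro y hy
    rw [Finset.mem_image] at hy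
    obtain ⟨z, -, rfl⟩ := hy
    rw [hmemR, ← map_pow, FiniteField.pow_card]
  have hScard : (Finset.univ.image f).card = N := by
    rw [Finset.card_image_of_injective _ f.injective, Finset.card_univ]
  have heq : Finset.univ.image f = R :=
    Finset.eq_of_subset_of_card_le hsub (by rw [hScard]; exact hRcard)
  have hy : x ∈ R := (hmemR x).mpr hx
  rw [← heq, Finset.mem_image] at hy
  obtain ⟨b', -, hb'⟩ := hy
  exact ⟨b', hb'⟩

theorem two_ne_zero_of_char (p : ℕ) [Fact p.Prime] [CharP F p] (hp2 : p ≠ 2) : (2 : F) ≠ 0 := by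
  intro h
  have h1 : ((2 : ℕ) : F) = 0 := by exact_mod_cast h
  rw [CharP.cast_eq_zero_iff F p] at h1
  have := (Nat.prime_dvd_prime_iff_eq (Fact.out : p.Prime) Nat.prime_two).mp h1
  exact hp2 this

/-- the order condition on a subgroup: every element has order dividing `k`, `(k - 1)/2` or
`(k + 1)/2` -/
def Good {G : Type*} [Group G] (k : ℕ) (M : Subgroup G) : Prop :=
  ∀ x ∈ M, ∃ n : ℕ, x ^ n = 1 ∧ (n ∣ k ∨ 2 * n ∣ k - 1 ∨ 2 * n ∣ k + 1)

/-- descent from element orders -/
theorem descent_of_orders [Fintype F] [Fintype K] (p : ℕ) [Fact p.Prime] [CharP F p] (hp2 : p ≠ 2)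
    (f : K →+* F) (e : ℕ) (hK : Fintype.card K = p ^ e)
    (M : Subgroup (ProjectiveSpecialLinearGroup (Fin 2) F))
    {x y : ProjectiveSpecialLinearGroup (Fin 2) F} (hxM : x ∈ M) (hyM : y ∈ M)
    (hx : x ≠ 1) (hy : y ≠ 1) (hxy : x ≠ y) (hx2 : x * x = 1) (hy2 : y * y = 1)
    (hc : x * y = y * x) (hgood : Good (p ^ e) M) :
    ∃ (d : F) (hd : d ≠ 0) (g : ProjectiveSpecialLinearGroup (Fin 2) F),
      cj g M ≤ (pslTw f d hd).range := by
  have : CharP K p := (RingHom.charP_iff f f.injective p).mpr inferInstance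
  have h2 := two_ne_zero_of_char (F := F) p hp2
  apply descent_PSL p f h2 M hxM hyM hx hy hxy hx2 hy2 hc
  intro h hh
  obtain ⟨n, hn, hk⟩ := hgood _ hh
  apply mem_range_of_pow_card f
  rw [hK]
  exact tr_pow_eq_self p hp2 e h hn hk

end Cfsg.Agent.Helper8.Ds
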