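import Mathlib
import Cfsg.Agent.Helper8.DkPartA

set_option autoImplicit false

/-!
Sylow conjugacy arguments showing that a subgroup is not maximal.
-/

namespace Cfsg.Agent.Helper8.Ds

open Subgroup Cfsg.Agent.Helper8.Dk

variable {G : Type*} [Group G] [Finite G]

theorem factorization_eq_of_card (l : ℕ) [Fact l.Prime] {M : Subgroup G} {a : ℕ}
    (hMc : Nat.card M = l ^ a) (hmax : ¬ l ^ (a + 1) ∣ Nat.card G) :
    (Nat.card G).factorization l = a := by
  have hl := (Fact.out : l.Prime)
  have hG : Nat.card G ≠ 0 := Nat.card_pos.ne'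
  have h1 : l ^ a ∣ Nat.card G := hMc ▸ Subgroup.card_subgroup_dvd_card M
  have h2 := (hl.pow_dvd_iff_le_factorization hG).mp h1
  have h3 : ¬ a + 1 ≤ (Nat.card G).factorization l := fun h =>
    hmax ((hl.pow_dvd_iff_le_factorization hG).mpr h)
  omega

/-- two subgroups of the order of a Sylow subgroup are conjugate -/
theorem exists_cj_eq_of_card (l : ℕ) [Fact l.Prime] {M Q : Subgroup G} {a : ℕ}
    (hMc : Nat.card M = l ^ a) (hQc : Nat.card Q = l ^ a) (hmax : ¬ l ^ (a + 1) ∣ Nat.card G) :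
    ∃ g : G, cj g M = Q := by
  have hf := factorization_eq_of_card l hMc hmax
  let P₁ : Sylow l G := Sylow.ofCard M (by rw [hMc, hf])
  let P₂ : Sylow l G := Sylow.ofCard Q (by rw [hQc, hf])
  obtain ⟨g, hg⟩ := MulAction.exists_smul_eq G P₁ P₂
  refine ⟨g, ?_⟩
  have h1 : ((g • P₁ : Sylow l G) : Subgroup G) = Q := by rw [hg]; rfl
  rw [← h1]
  rfl

/-- a subgroup of Sylow order, whose order divides the order of a proper subgroup of other order, is
not maximal -/
theorem not_coatom_of_sylow (l : ℕ) [Fact l.Prime] {M H : Subgroup G} {a : ℕ}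
    (hMc : Nat.card M = l ^ a) (hmax : ¬ l ^ (a + 1) ∣ Nat.card G) (hH : H ≠ ⊤)
    (hdvd : l ^ a ∣ Nat.card H) (hne : Nat.card H ≠ l ^ a) : ¬ IsCoatom M := by
  intro hco
  obtain ⟨Q', hQ'⟩ := Sylow.exists_subgroup_card_pow_prime l hdvd
  set Q := Q'.map H.subtype with hQ
  have hQc : Nat.card Q = l ^ a := by
    rw [← hQ', hQ]
    exact Nat.card_congr (Q'.equivMapOfInjective H.subtype H.subtype_injective).symm.toEquiv
  have hQH : Q ≤ H := by
    rw [hQ]
    rintro _ ⟨z, -, rfl⟩
    exact z.2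
  obtain ⟨g, hg⟩ := exists_cj_eq_of_card l hMc hQc hmax
  have hle : M ≤ cj g⁻¹ H := by
    rw [← cj_inv_cj g M, hg]
    exact cj_mono hQH
  have hne' : cj g⁻¹ H ≠ ⊤ := by
    intro h
    apply hH
    rw [← cj_cj_inv g H, h]
    ext z
    simp only [mem_top, iff_true]
    rw [mem_cj]
    exact mem_top _
  rcases eq_or_lt_of_le hle with h | h
  · apply hne
    rw [← hMc, h, card_cj]
  · exact hne' (hco.2 _ h)

/-- the normaliser of a Sylow subgroup, when the normaliser of a conjugate in a proper subgroup of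
other order is as large, is not maximal -/
theorem not_coatom_of_sylow_normalizer (l : ℕ) [Fact l.Prime] {T Q H : Subgroup G} {a : ℕ}
    (hT : Nat.card T = l ^ a) (hQ : Nat.card Q = l ^ a) (hmax : ¬ l ^ (a + 1) ∣ Nat.card G)
    (hH : H ≠ ⊤)
    (hcard : Nat.card (normalizer (Q : Set G) ⊓ H : Subgroup G) = Nat.card (normalizer (T : Set G)))
    (hne : Nat.card H ≠ Nat.card (normalizer (T : Set G))) :
    ¬ IsCoatom (normalizer (T : Set G)) := by
  intro hco
  obtain ⟨g, hg⟩ := exists_cj_eq_of_card l hT hQ hmax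
  have hN : normalizer (Q : Set G) = cj g (normalizer (T : Set G)) := by
    rw [← hg, normalizer_cj]
  have hc2 : Nat.card (normalizer (Q : Set G)) = Nat.card (normalizer (T : Set G)) := by
    rw [hN, card_cj]
  have hle : normalizer (Q : Set G) ≤ H := by
    have h1 : (normalizer (Q : Set G) ⊓ H : Subgroup G) = normalizer (Q : Set G) := by
      apply Subgroup.eq_of_le_of_card_ge inf_le_left
      rw [hcard, hc2]
    rw [← h1]
    exact inf_le_right
  have hle' : normalizer (T : Set G) ≤ cj g⁻¹ H := by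
    rw [← cj_inv_cj g (normalizer (T : Set G)), ← hN]
    exact cj_mono hle
  have hne' : cj g⁻¹ H ≠ ⊤ := by
    intro h
    apply hH
    rw [← cj_cj_inv g H, h]
    ext z
    simp only [mem_top, iff_true]
    rw [mem_cj]
    exact mem_top _
  rcases eq_or_lt_of_le hle' with h | h
  · apply hne
    rw [h, card_cj]
  · exact hne' (hco.2 _ h)

end Cfsg.Agent.Helper8.Ds
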