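import Mathlib
import Cfsg.Agent.Helper8.DkPartA

set_option autoImplicit false

/-!
Normalisers of cyclic subgroups of prime order in `S₄` and `A₅`, transported to isomorphic copies.
-/

namespace Cfsg.Agent.Helper8.Ds

open Subgroup Cfsg.Agent.Helper8.Dk

/-- membership in the normaliser of a finite cyclic subgroup -/
theorem mem_normalizer_zpowers_iff {Y : Type*} [Group Y] [Finite Y] (c y : Y) :
    y ∈ normalizer ((zpowers c : Subgroup Y) : Set Y) ↔ y * c * y⁻¹ ∈ zpowers c := by
  constructor
  · intro h
    exact (mem_normalizer_iff.mp h c).mp (mem_zpowers c)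
  · intro h
    apply Subgroup.mem_normalizer_fintype
    intro n hn
    obtain ⟨k, rfl⟩ := mem_zpowers_iff.mp hn
    have : y * c ^ k * y⁻¹ = (y * c * y⁻¹) ^ k := by
      rw [conj_zpow]
    rw [this]
    exact zpow_mem h k

theorem card_comap_equiv {H Y : Type*} [Group H] [Group Y] (e : H ≃* Y) (S : Subgroup Y) :
    Nat.card (S.comap e.toMonoidHom) = Nat.card S := by
  apply Nat.card_congr
  exact
    { toFun := fun z => ⟨e z.1, z.2⟩
      invFun := fun y => ⟨e.symm y.1, by
        rw [Subgroup.mem_comap]
        change e (e.symm y.1) ∈ S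
        rw [MulEquiv.apply_symm_apply]; exact y.2⟩
      left_inv := fun z => by
        apply Subtype.ext
        simp
      right_inv := fun y => by
        apply Subtype.ext
        simp }

/-- transport of a subgroup and its normaliser along an isomorphism with a subgroup -/
theorem exists_transport {G Y : Type*} [Group G] [Group Y] [Finite Y] {H : Subgroup G}
    (e : H ≃* Y) (Q₀ : Subgroup Y) :
    ∃ Q : Subgroup G, Q ≤ H ∧ Nat.card Q = Nat.card Q₀ ∧
      Nat.card (normalizer (Q : Set G) ⊓ H : Subgroup G) =
        Nat.card (normalizer (Q₀ : Set Y)) := by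
  set Q' : Subgroup H := Q₀.comap e.toMonoidHom with hQ'
  refine ⟨Q'.map H.subtype, ?_, ?_, ?_⟩
  · rintro _ ⟨z, -, rfl⟩
    exact z.2
  · rw [Nat.card_congr (Q'.equivMapOfInjective H.subtype H.subtype_injective).symm.toEquiv]
    exact card_comap_equiv e Q₀
  · have hle : Q'.map H.subtype ≤ H := by
      rintro _ ⟨z, -, rfl⟩
      exact z.2
    have h1 : (normalizer ((Q'.map H.subtype : Subgroup G) : Set G)).subgroupOf H =
        normalizer (((Q'.map H.subtype).subgroupOf H : Subgroup H) : Set H) :=
      Subgroup.subgroupOf_normalizer_eq hle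
    have h2 : (Q'.map H.subtype).subgroupOf H = Q' := by
      rw [Subgroup.subgroupOf, Subgroup.comap_map_eq_self_of_injective H.subtype_injective]
    rw [h2] at h1
    have h3 : Nat.card (normalizer ((Q'.map H.subtype : Subgroup G) : Set G) ⊓ H : Subgroup G) =
        Nat.card ((normalizer ((Q'.map H.subtype : Subgroup G) : Set G)).subgroupOf H) := by
      rw [← Subgroup.inf_subgroupOf_right]
      exact (Nat.card_congr (Subgroup.subgroupOfEquivOfLe inf_le_right).toEquiv).symm
    rw [h3, h1]
    have h4 : normalizer ((Q' : Subgroup H) : Set H) =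
        (normalizer (Q₀ : Set Y)).comap e.toMonoidHom := by
      rw [hQ']
      exact (Subgroup.comap_normalizer_eq_of_surjective Q₀ e.surjective).symm
    rw [h4]
    exact card_comap_equiv e _

end Cfsg.Agent.Helper8.Ds
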