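import Mathlib
import Cfsg.Agent.Helper8.DsH

set_option autoImplicit false

/-!
Normalisers of Sylow subgroups in `S₄` and `A₅`, and their transport to isomorphic copies.
-/

namespace Cfsg.Agent.Helper8.Ds

open Subgroup Equiv

/-- a `3`-cycle in `S₄` -/
def c3 : Perm (Fin 4) := c[0, 1, 2]

theorem c3_pow : c3 ^ 3 = 1 := by decide
theorem c3_ne : c3 ≠ 1 := by decide

theorem orderOf_c3 : orderOf c3 = 3 := by
  have : Fact (Nat.Prime 3) := ⟨Nat.prime_three⟩
  exact orderOf_eq_prime c3_pow c3_ne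

theorem card_zpowers_c3 : Nat.card (zpowers c3) = 3 := by
  rw [Nat.card_zpowers, orderOf_c3]

theorem mem_zpowers_c3 (x : Perm (Fin 4)) : x ∈ zpowers c3 ↔ x = 1 ∨ x = c3 ∨ x = c3 ^ 2 := by
  rw [mem_zpowers_iff_mem_range_orderOf, orderOf_c3]
  simp [Finset.range]
  tauto

theorem card_normalizer_c3 : Nat.card (normalizer ((zpowers c3 : Subgroup (Perm (Fin 4))) : Set (Perm (Fin 4)))) = 6 := by
  have h : ∀ y : Perm (Fin 4), y ∈ normalizer ((zpowers c3 : Subgroup (Perm (Fin 4))) : Set (Perm (Fin 4))) ↔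
      (y * c3 * y⁻¹ = 1 ∨ y * c3 * y⁻¹ = c3 ∨ y * c3 * y⁻¹ = c3 ^ 2) := by
    intro y
    rw [mem_normalizer_zpowers_iff, mem_zpowers_c3]
  rw [Nat.card_congr (Equiv.subtypeEquivRight h), Nat.card_eq_fintype_card, Fintype.card_subtype]
  decide

/-- a `5`-cycle in `A₅` -/
def c5 : alternatingGroup (Fin 5) :=
  ⟨Equiv.swap 0 1 * Equiv.swap 1 2 * Equiv.swap 2 3 * Equiv.swap 3 4,
    by rw [Equiv.Perm.mem_alternatingGroup]; decide⟩

theorem c5_pow : c5 ^ 5 = 1 := by decide
theorem c5_ne : c5 ≠ 1 := by decide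

theorem orderOf_c5 : orderOf c5 = 5 := by
  have : Fact (Nat.Prime 5) := ⟨Nat.prime_five⟩
  exact orderOf_eq_prime c5_pow c5_ne

theorem card_zpowers_c5 : Nat.card (zpowers c5) = 5 := by
  rw [Nat.card_zpowers, orderOf_c5]

theorem mem_zpowers_c5 (x : alternatingGroup (Fin 5)) :
    x ∈ zpowers c5 ↔ x = 1 ∨ x = c5 ∨ x = c5 ^ 2 ∨ x = c5 ^ 3 ∨ x = c5 ^ 4 := by
  constructor
  · intro h
    obtain ⟨k, rfl⟩ := mem_zpowers_iff.mp h
    have hk : c5 ^ k = c5 ^ (k % 5) := by
      have := (zpow_mod_orderOf c5 k).symm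
      rwa [orderOf_c5] at this
    have h0 : 0 ≤ k % 5 := Int.emod_nonneg _ (by norm_num)
    have h5 : k % 5 < 5 := Int.emod_lt_of_pos _ (by norm_num)
    obtain ⟨n, hn⟩ := Int.eq_ofNat_of_zero_le h0
    rw [hk, hn, zpow_natCast]
    have hn5 : n < 5 := by omega
    interval_cases n
    · left; exact pow_zero _
    · right; left; exact pow_one _
    · right; right; left; rfl
    · right; right; right; left; rfl
    · right; right; right; right; rfl
  · rintro (rfl | rfl | rfl | rfl | rfl)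
    · exact one_mem _
    · exact mem_zpowers _
    · exact pow_mem (mem_zpowers _) _
    · exact pow_mem (mem_zpowers _) _
    · exact pow_mem (mem_zpowers _) _

set_option maxRecDepth 100000 in
theorem card_normalizer_c5_aux : (Finset.univ.filter (fun y : alternatingGroup (Fin 5) =>
    (y * c5 * y⁻¹ = 1 ∨ y * c5 * y⁻¹ = c5 ∨ y * c5 * y⁻¹ = c5 ^ 2 ∨ y * c5 * y⁻¹ = c5 ^ 3 ∨
      y * c5 * y⁻¹ = c5 ^ 4))).card = 10 := by
  decide +kernel

theorem card_normalizer_c5 : Nat.card (normalizer ((zpowers c5 : Subgroup (alternatingGroup (Fin 5))) :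
    Set (alternatingGroup (Fin 5)))) = 10 := by
  have h : ∀ y : alternatingGroup (Fin 5), y ∈ normalizer ((zpowers c5 :
      Subgroup (alternatingGroup (Fin 5))) : Set (alternatingGroup (Fin 5))) ↔
      (y * c5 * y⁻¹ = 1 ∨ y * c5 * y⁻¹ = c5 ∨ y * c5 * y⁻¹ = c5 ^ 2 ∨ y * c5 * y⁻¹ = c5 ^ 3 ∨
        y * c5 * y⁻¹ = c5 ^ 4) := by
    intro y
    rw [mem_normalizer_zpowers_iff, mem_zpowers_c5]
  rw [Nat.card_congr (Equiv.subtypeEquivRight h), Nat.card_eq_fintype_card, Fintype.card_subtype]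
  exact card_normalizer_c5_aux

/-- an involution of `A₅` -/
def a5t : alternatingGroup (Fin 5) :=
  ⟨Equiv.swap 0 1 * Equiv.swap 2 3, by rw [Equiv.Perm.mem_alternatingGroup]; decide⟩

set_option maxRecDepth 100000 in
theorem a5_cent_card : (Finset.univ.filter (fun y : alternatingGroup (Fin 5) =>
    y * a5t = a5t * y)).card = 4 := by
  decide +kernel

set_option maxRecDepth 100000 in
theorem a5_norm_card : (Finset.univ.filter (fun y : alternatingGroup (Fin 5) =>
    (y * a5t * y⁻¹) * a5t = a5t * (y * a5t * y⁻¹))).card = 12 := by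
  decide +kernel

set_option maxRecDepth 100000 in
theorem a5_cent_eq : ∀ v : alternatingGroup (Fin 5), v * a5t = a5t * v → v ≠ 1 →
    ∀ z : alternatingGroup (Fin 5), z * v = v * z ↔ z * a5t = a5t * z := by
  decide +kernel


theorem a5t_ne : a5t ≠ 1 := by decide

theorem card_centralizer_a5t :
    Nat.card (centralizer ({a5t} : Set (alternatingGroup (Fin 5)))) = 4 := by
  have h : ∀ y : alternatingGroup (Fin 5), y ∈ centralizer ({a5t} : Set (alternatingGroup (Fin 5))) ↔
      y * a5t = a5t * y := by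
    intro y
    rw [mem_centralizer_singleton_iff, eq_comm]
  rw [Nat.card_congr (Equiv.subtypeEquivRight h), Nat.card_eq_fintype_card, Fintype.card_subtype]
  exact a5_cent_card

theorem card_normalizer_centralizer_a5t :
    Nat.card (normalizer ((centralizer ({a5t} : Set (alternatingGroup (Fin 5))) :
      Subgroup (alternatingGroup (Fin 5))) : Set (alternatingGroup (Fin 5)))) = 12 := by
  have hc : ∀ y : alternatingGroup (Fin 5), y ∈ centralizer ({a5t} : Set (alternatingGroup (Fin 5))) ↔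
      y * a5t = a5t * y := by
    intro y
    rw [mem_centralizer_singleton_iff, eq_comm]
  have h : ∀ y : alternatingGroup (Fin 5),
      y ∈ normalizer ((centralizer ({a5t} : Set (alternatingGroup (Fin 5))) :
        Subgroup (alternatingGroup (Fin 5))) : Set (alternatingGroup (Fin 5))) ↔
      (y * a5t * y⁻¹) * a5t = a5t * (y * a5t * y⁻¹) := by
    intro y
    constructor
    · intro hy
      have h1 : a5t ∈ centralizer ({a5t} : Set (alternatingGroup (Fin 5))) := (hc _).mpr rfl
      exact (hc _).mp ((mem_normalizer_iff.mp hy a5t).mp h1)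
    · intro hw
      have hw1 : y * a5t * y⁻¹ ≠ 1 := by
        intro h1
        apply a5t_ne
        have : a5t = y⁻¹ * (y * a5t * y⁻¹) * y := by group
        rw [this, h1]; group
      have key := a5_cent_eq _ hw hw1
      rw [mem_normalizer_iff]
      intro n
      rw [hc, hc, ← key (y * n * y⁻¹)]
      constructor
      · intro hn
        calc y * n * y⁻¹ * (y * a5t * y⁻¹) = y * (n * a5t) * y⁻¹ := by group
          _ = y * (a5t * n) * y⁻¹ := by rw [hn]
          _ = y * a5t * y⁻¹ * (y * n * y⁻¹) := by group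
      · intro hn
        have : n * a5t = y⁻¹ * ((y * n * y⁻¹) * (y * a5t * y⁻¹)) * y := by group
        rw [this, hn]; group
  rw [Nat.card_congr (Equiv.subtypeEquivRight h), Nat.card_eq_fintype_card, Fintype.card_subtype]
  exact a5_norm_card

variable {G : Type*} [Group G] {H : Subgroup G}

theorem exists_sub3_of_S4 (e : H ≃* Perm (Fin 4)) :
    ∃ Q : Subgroup G, Q ≤ H ∧ Nat.card Q = 3 ∧
      Nat.card (normalizer (Q : Set G) ⊓ H : Subgroup G) = 6 := by
  obtain ⟨Q, hQ, h1, h2⟩ := exists_transport e (zpowers c3)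
  exact ⟨Q, hQ, h1.trans card_zpowers_c3, h2.trans card_normalizer_c3⟩

theorem exists_sub5_of_A5 (e : H ≃* alternatingGroup (Fin 5)) :
    ∃ Q : Subgroup G, Q ≤ H ∧ Nat.card Q = 5 ∧
      Nat.card (normalizer (Q : Set G) ⊓ H : Subgroup G) = 10 := by
  obtain ⟨Q, hQ, h1, h2⟩ := exists_transport e (zpowers c5)
  exact ⟨Q, hQ, h1.trans card_zpowers_c5, h2.trans card_normalizer_c5⟩

theorem exists_sub4_of_A5 (e : H ≃* alternatingGroup (Fin 5)) :
    ∃ Q : Subgroup G, Q ≤ H ∧ Nat.card Q = 4 ∧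
      Nat.card (normalizer (Q : Set G) ⊓ H : Subgroup G) = 12 := by
  obtain ⟨Q, hQ, h1, h2⟩ := exists_transport e
    (centralizer ({a5t} : Set (alternatingGroup (Fin 5))))
  exact ⟨Q, hQ, h1.trans card_centralizer_a5t, h2.trans card_normalizer_centralizer_a5t⟩

end Cfsg.Agent.Helper8.Ds
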