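import Mathlib
import Cfsg.Agent.Helper8.DkMaxI
import Cfsg.Agent.Helper8.DkMaxD
import Cfsg.Agent.Helper8.DsG
import Cfsg.Agent.Helper8.DsI
import Cfsg.Agent.S5938
import Cfsg.Agent.S5939
import Cfsg.Agent.S5940
import Cfsg.Agent.S5941

set_option autoImplicit false

/-!
The local case of the list of maximal subgroups of `PSL₂(q)`, `q` odd: a maximal subgroup
normalising a member of the partition is a Borel subgroup or dihedral, with the small exceptions
removed.
-/

namespace Cfsg.Agent.Helper8.Ds

open Matrix Cfsg.Agent.Helper7.SL2 Cfsg.Agent.Helper8.SL2C Subgroup Cfsg.Agent.Helper8.Dk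

variable {F : Type*} [Field F] [Fintype F]

theorem char_eq_of_card (p : ℕ) [Fact p.Prime] [CharP F p] (l : ℕ) (hl : l.Prime) (e : ℕ)
    (h : Fintype.card F = l ^ e) : p = l := by
  have h1 : ((Fintype.card F : ℕ) : F) = 0 := Nat.cast_card_eq_zero F
  have h2 : p ∣ Fintype.card F := (CharP.cast_eq_zero_iff F p _).mp h1
  rw [h] at h2
  exact (Nat.prime_dvd_prime_iff_eq Fact.out hl).mp ((Fact.out : p.Prime).dvd_of_dvd_pow h2)

theorem two_ne_zero_of_odd (hodd : Odd (Fintype.card F)) : (2 : F) ≠ 0 := by
  intro h2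
  obtain ⟨p, hp⟩ := CharP.exists F
  have := hp
  have hpp : p.Prime := CharP.char_is_prime F p
  have h3 : ((2 : ℕ) : F) = 0 := by exact_mod_cast h2
  have h4 : p ∣ 2 := (CharP.cast_eq_zero_iff F p 2).mp h3
  have h5 : p = 2 := (Nat.prime_dvd_prime_iff_eq hpp Nat.prime_two).mp h4
  have h1 : ((Fintype.card F : ℕ) : F) = 0 := Nat.cast_card_eq_zero F
  have h6 : p ∣ Fintype.card F := (CharP.cast_eq_zero_iff F p _).mp h1
  rw [h5] at h6
  exact (Nat.not_even_iff_odd.mpr hodd) (even_iff_two_dvd.mpr h6)

theorem two_mul_card_PSL2 (hodd : Odd (Fintype.card F)) :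
    2 * Nat.card (ProjectiveSpecialLinearGroup (Fin 2) F) =
      Fintype.card F * (Fintype.card F ^ 2 - 1) := by
  have h := card_center_mul_card_PSL2 (F := F)
  rwa [card_center_of_two_ne (two_ne_zero_of_odd hodd)] at h

theorem card_A4 : Nat.card (alternatingGroup (Fin 4)) = 12 := by
  rw [nat_card_alternatingGroup]; simp [Nat.factorial]

theorem card_S4 : Nat.card (Equiv.Perm (Fin 4)) = 24 := by
  rw [Nat.card_perm]; simp [Nat.factorial]

theorem card_A5 : Nat.card (alternatingGroup (Fin 5)) = 60 := by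
  rw [nat_card_alternatingGroup]; simp [Nat.factorial]

theorem card_PGL2_three : Nat.card (Matrix.ProjGenLinGroup (Fin 2) (ZMod 3)) = 24 := by
  rw [Cfsg.Agent.Lead.PSL2Sub.card_PGL2, ZMod.card]; norm_num

section excl

variable {M M' : Subgroup (ProjectiveSpecialLinearGroup (Fin 2) F)}

/-- a maximal subgroup of `2`-power order that is too small -/
theorem excl_two {a n c : ℕ} (hG : Nat.card (ProjectiveSpecialLinearGroup (Fin 2) F) = n)
    (hMc : Nat.card M = 2 ^ a) (hmax : ¬ 2 ^ (a + 1) ∣ n)
    {H : Subgroup (ProjectiveSpecialLinearGroup (Fin 2) F)} (hH : IsCoatom H)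
    (hHc : Nat.card H = c) (hdvd : 2 ^ a ∣ c) (hne : c ≠ 2 ^ a) : ¬ IsCoatom M := by
  have : Fact (Nat.Prime 2) := ⟨Nat.prime_two⟩
  exact not_coatom_of_sylow 2 hMc (by rw [hG]; exact hmax) hH.1 (by rw [hHc]; exact hdvd)
    (by rw [hHc]; exact hne)

/-- the normaliser of a member of prime order `l`, when a maximal subgroup of other order
contains a full normaliser of a subgroup of order `l` -/
theorem excl_norm (l : ℕ) (hl : l.Prime) {n c : ℕ}
    (hG : Nat.card (ProjectiveSpecialLinearGroup (Fin 2) F) = n)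
    (hT : M' ∈ GT F) (hTc : Nat.card M' = l) (hmax : ¬ l ^ 2 ∣ n)
    {H : Subgroup (ProjectiveSpecialLinearGroup (Fin 2) F)} (hH : IsCoatom H)
    (hHc : Nat.card H = c) (hne : c ≠ 2 * l)
    (hQ : ∃ Q : Subgroup (ProjectiveSpecialLinearGroup (Fin 2) F), Q ≤ H ∧ Nat.card Q = l ∧
      Nat.card (normalizer (Q : Set (ProjectiveSpecialLinearGroup (Fin 2) F)) ⊓ H :
        Subgroup (ProjectiveSpecialLinearGroup (Fin 2) F)) = 2 * l) :
    ¬ IsCoatom (normalizer (M' : Set (ProjectiveSpecialLinearGroup (Fin 2) F))) := by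
  have : Fact l.Prime := ⟨hl⟩
  obtain ⟨Q, -, hQc, hQn⟩ := hQ
  have hN := card_normalizer_GT hT
  rw [hTc] at hN
  exact not_coatom_of_sylow_normalizer l (a := 1) (by rw [hTc, pow_one]) (by rw [hQc, pow_one])
    (by rw [hG]; exact hmax) hH.1 (by rw [hQn, hN]) (by rw [hHc, hN]; exact hne)

end excl

theorem card_PSL2_eq (hodd : Odd (Fintype.card F)) {q n : ℕ} (hq : Fintype.card F = q)
    (hn : q * (q ^ 2 - 1) = 2 * n) :
    Nat.card (ProjectiveSpecialLinearGroup (Fin 2) F) = n := by
  have h := two_mul_card_PSL2 hodd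
  rw [hq, hn] at h
  omega

/-- the local case -/
theorem local_case (p : ℕ) [Fact p.Prime] [CharP F p] (hodd : Odd (Fintype.card F))
    (h5 : 5 ≤ Fintype.card F)
    {M : Subgroup (ProjectiveSpecialLinearGroup (Fin 2) F)} (hM : IsCoatom M)
    {M' : Subgroup (ProjectiveSpecialLinearGroup (Fin 2) F)} (hM' : M' ∈ GM F)
    (hle : M ≤ normalizer (M' : Set (ProjectiveSpecialLinearGroup (Fin 2) F))) :
    2 * Nat.card M = Fintype.card F * (Fintype.card F - 1) ∨
    (13 ≤ Fintype.card F ∧
      (∃ k : ℕ, 2 * k = Fintype.card F - 1 ∧ Nonempty (M ≃* DihedralGroup k))) ∨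
    (Fintype.card F ≠ 7 ∧ Fintype.card F ≠ 9 ∧
      (∃ k : ℕ, 2 * k = Fintype.card F + 1 ∧ Nonempty (M ≃* DihedralGroup k))) := by
  have h2 := two_ne_zero_of_odd hodd
  have hc := card_center_of_two_ne h2
  have heq := coatom_eq_normalizer (by omega) hM hM' hle
  rcases mem_GM_iff.mp hM' with hU | hT
  · left
    have := card_normalizer_GU hU
    rw [hc] at this
    rw [heq]
    exact this
  · right
    have hcard := card_mul_mem_GT hT
    rw [hc] at hcard
    have hN := card_normalizer_GT hT
    have hiso : Nonempty (M ≃* DihedralGroup (Nat.card M')) := by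
      rw [heq]
      exact normalizer_GT_dihedral hT hN
    have hMc : Nat.card M = 2 * Nat.card M' := by rw [heq]; exact hN
    have hS4 : ∀ l : ℕ, l.Prime → Fintype.card F = l → (l % 8 = 1 ∨ l % 8 = 7) →
        ∃ H : Subgroup (ProjectiveSpecialLinearGroup (Fin 2) F), IsCoatom H ∧
          Nonempty (H ≃* Equiv.Perm (Fin 4)) := by
      intro l hl hq h8
      have : Fact l.Prime := ⟨hl⟩
      exact Cfsg.Agent.S5938.result l hq h8
    rcases hcard with hk | hk
    · -- 2k = q + 1
      right
      refine ⟨?_, ?_, Nat.card M', hk, hiso⟩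
      · intro h7
        obtain ⟨H, hH, ⟨e⟩⟩ := hS4 7 (by norm_num) h7 (Or.inr rfl)
        have hHc : Nat.card H = 24 := (Nat.card_congr e.toEquiv).trans card_S4
        have hG := card_PSL2_eq hodd h7 (n := 168) (by norm_num)
        exact excl_two (a := 3) hG (by rw [hMc]; omega) (by norm_num) hH hHc (by norm_num)
          (by norm_num) hM
      · intro h9
        have hp3 : p = 3 := char_eq_of_card p 3 Nat.prime_three 2 (by rw [h9]; norm_num)
        subst hp3
        obtain ⟨H, hH, ⟨e⟩⟩ := Cfsg.Agent.S5939.result (F := F) 3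
          (Or.inr ⟨by rw [h9]; norm_num, Or.inl rfl⟩)
        have hHc : Nat.card H = 60 := (Nat.card_congr e.toEquiv).trans card_A5
        have hG := card_PSL2_eq hodd h9 (n := 360) (by norm_num)
        have hk5 : Nat.card M' = 5 := by omega
        have := excl_norm 5 Nat.prime_five hG hT hk5 (by norm_num) hH hHc (by norm_num)
          (exists_sub5_of_A5 e)
        rw [← heq] at this
        exact this hM
    · -- 2k = q - 1
      left
      refine ⟨?_, Nat.card M', hk, hiso⟩
      by_contra hlt
      have hodd' := hodd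
      obtain ⟨j, hj⟩ := hodd'
      have hcases : Fintype.card F = 5 ∨ Fintype.card F = 7 ∨ Fintype.card F = 9 ∨
          Fintype.card F = 11 := by omega
      rcases hcases with h | h | h | h
      · -- q = 5
        have hl : Nat.Prime 5 := Nat.prime_five
        have : Fact (Nat.Prime 5) := ⟨hl⟩
        obtain ⟨H, hH, ⟨e⟩⟩ := Cfsg.Agent.S5940.result (F := F) 5 h le_rfl (Or.inr rfl)
          (by norm_num)
        have hHc : Nat.card H = 12 := (Nat.card_congr e.toEquiv).trans card_A4
        have hG := card_PSL2_eq hodd h (n := 60) (by norm_num)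
        exact excl_two (a := 2) hG (by rw [hMc]; omega) (by norm_num) hH hHc (by norm_num)
          (by norm_num) hM
      · -- q = 7
        obtain ⟨H, hH, ⟨e⟩⟩ := hS4 7 (by norm_num) h (Or.inr rfl)
        have hHc : Nat.card H = 24 := (Nat.card_congr e.toEquiv).trans card_S4
        have hG := card_PSL2_eq hodd h (n := 168) (by norm_num)
        have hk3 : Nat.card M' = 3 := by omega
        have := excl_norm 3 Nat.prime_three hG hT hk3 (by norm_num) hH hHc (by norm_num)
          (exists_sub3_of_S4 e)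
        rw [← heq] at this
        exact this hM
      · -- q = 9
        obtain ⟨H, hH, ⟨e⟩⟩ := Cfsg.Agent.S5941.result (F := F) (K := ZMod 3) 3 (ZMod.card 3)
          (by rw [h]; norm_num) (by decide)
        have hHc : Nat.card H = 24 := (Nat.card_congr e.toEquiv).trans card_PGL2_three
        have hG := card_PSL2_eq hodd h (n := 360) (by norm_num)
        exact excl_two (a := 3) hG (by rw [hMc]; omega) (by norm_num) hH hHc (by norm_num)
          (by norm_num) hM
      · -- q = 11
        have hl : Nat.Prime 11 := by norm_num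
        have hp11 : p = 11 := char_eq_of_card p 11 hl 1 (by rw [h]; norm_num)
        subst hp11
        obtain ⟨H, hH, ⟨e⟩⟩ := Cfsg.Agent.S5939.result (F := F) 11
          (Or.inl ⟨h, Or.inl rfl⟩)
        have hHc : Nat.card H = 60 := (Nat.card_congr e.toEquiv).trans card_A5
        have hG := card_PSL2_eq hodd h (n := 660) (by norm_num)
        have hk5 : Nat.card M' = 5 := by omega
        have := excl_norm 5 Nat.prime_five hG hT hk5 (by norm_num) hH hHc (by norm_num)
          (exists_sub5_of_A5 e)
        rw [← heq] at this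
        exact this hM

end Cfsg.Agent.Helper8.Ds
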