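import Mathlib
import Cfsg.Agent.Helper8.DsF

set_option autoImplicit false

/-!
Klein four-subgroups and element orders of the small groups `A₄`, `S₄`, `A₅`, and their transport.
-/

namespace Cfsg.Agent.Helper8.Ds

open Subgroup Equiv

/-- two distinct commuting involutions -/
def HasV4 (Y : Type*) [Group Y] : Prop :=
  ∃ x y : Y, x ≠ 1 ∧ y ≠ 1 ∧ x ≠ y ∧ x * x = 1 ∧ y * y = 1 ∧ x * y = y * x

/-- the order condition on a whole group -/
def GoodG (k : ℕ) (Y : Type*) [Group Y] : Prop :=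
  ∀ x : Y, ∃ n : ℕ, x ^ n = 1 ∧ (n ∣ k ∨ 2 * n ∣ k - 1 ∨ 2 * n ∣ k + 1)

theorem HasV4.of_injective {Y Z : Type*} [Group Y] [Group Z] (φ : Y →* Z)
    (hφ : Function.Injective φ) (h : HasV4 Y) : HasV4 Z := by
  obtain ⟨x, y, hx, hy, hxy, hx2, hy2, hc⟩ := h
  refine ⟨φ x, φ y, ?_, ?_, ?_, ?_, ?_, ?_⟩
  · intro h; exact hx (hφ (by rw [h, map_one]))
  · intro h; exact hy (hφ (by rw [h, map_one]))
  · intro h; exact hxy (hφ h)
  · rw [← map_mul, hx2, map_one]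
  · rw [← map_mul, hy2, map_one]
  · rw [← map_mul, hc, map_mul]

theorem GoodG.of_injective {Y Z : Type*} [Group Y] [Group Z] (φ : Y →* Z)
    (hφ : Function.Injective φ) {k : ℕ} (h : GoodG k Z) : GoodG k Y := by
  intro x
  obtain ⟨n, hn, hk⟩ := h (φ x)
  refine ⟨n, ?_, hk⟩
  apply hφ
  rw [map_pow, hn, map_one]

theorem good_of_equiv {G Y : Type*} [Group G] [Group Y] {M : Subgroup G} (e : M ≃* Y) {k : ℕ}
    (h : GoodG k Y) : Good k M := by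
  intro x hx
  obtain ⟨n, hn, hk⟩ := h (e ⟨x, hx⟩)
  refine ⟨n, ?_, hk⟩
  have h1 : (⟨x, hx⟩ : M) ^ n = 1 := by
    apply e.injective
    rw [map_pow, hn, map_one]
  have := congrArg (Subtype.val) h1
  simpa using this

theorem v4_of_equiv {G Y : Type*} [Group G] [Group Y] {M : Subgroup G} (e : M ≃* Y)
    (h : HasV4 Y) : ∃ x y : G, x ∈ M ∧ y ∈ M ∧ x ≠ 1 ∧ y ≠ 1 ∧ x ≠ y ∧ x * x = 1 ∧ y * y = 1 ∧
      x * y = y * x := by
  obtain ⟨x, y, hx, hy, hxy, hx2, hy2, hc⟩ := h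
  refine ⟨(e.symm x : G), (e.symm y : G), (e.symm x).2, (e.symm y).2, ?_, ?_, ?_, ?_, ?_, ?_⟩
  · intro h
    apply hx
    have : e.symm x = 1 := Subtype.ext h
    rw [← e.apply_symm_apply x, this, map_one]
  · intro h
    apply hy
    have : e.symm y = 1 := Subtype.ext h
    rw [← e.apply_symm_apply y, this, map_one]
  · intro h
    apply hxy
    have : e.symm x = e.symm y := Subtype.ext h
    exact e.symm.injective this
  · rw [← Subgroup.coe_mul, ← map_mul, hx2, map_one, Subgroup.coe_one]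
  · rw [← Subgroup.coe_mul, ← map_mul, hy2, map_one, Subgroup.coe_one]
  · rw [← Subgroup.coe_mul, ← map_mul, hc, map_mul, Subgroup.coe_mul]

theorem good_arith (k : ℕ) (hk : Odd k) (n : ℕ)
    (hn : n = 1 ∨ n = 2 ∨ n = 3 ∨ (n = 4 ∧ (k % 8 = 1 ∨ k % 8 = 7)) ∨
      (n = 5 ∧ (5 ∣ k ∨ k % 10 = 1 ∨ k % 10 = 9))) :
    n ∣ k ∨ 2 * n ∣ k - 1 ∨ 2 * n ∣ k + 1 := by
  obtain ⟨j, hj⟩ := hk
  rcases hn with rfl | rfl | rfl | ⟨rfl, h⟩ | ⟨rfl, h⟩
  · omega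
  · have : k % 4 = 1 ∨ k % 4 = 3 := by omega
    omega
  · have : k % 6 = 1 ∨ k % 6 = 3 ∨ k % 6 = 5 := by omega
    omega
  · omega
  · have : k % 10 = 5 ∨ k % 10 = 1 ∨ k % 10 = 9 := by omega
    omega

theorem A4_orders : ∀ x : alternatingGroup (Fin 4), x ^ 1 = 1 ∨ x ^ 2 = 1 ∨ x ^ 3 = 1 := by
  decide

set_option maxRecDepth 100000 in
theorem S4_orders : ∀ x : Perm (Fin 4), x ^ 1 = 1 ∨ x ^ 2 = 1 ∨ x ^ 3 = 1 ∨ x ^ 4 = 1 := by
  decide +kernel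

set_option maxRecDepth 100000 in
theorem A5_orders : ∀ x : alternatingGroup (Fin 5), x ^ 1 = 1 ∨ x ^ 2 = 1 ∨ x ^ 3 = 1 ∨ x ^ 5 = 1 := by
  decide +kernel

/-- the double transpositions in `A₄` -/
def v4a : alternatingGroup (Fin 4) :=
  ⟨Equiv.swap 0 1 * Equiv.swap 2 3, by rw [Equiv.Perm.mem_alternatingGroup]; decide⟩

def v4b : alternatingGroup (Fin 4) :=
  ⟨Equiv.swap 0 2 * Equiv.swap 1 3, by rw [Equiv.Perm.mem_alternatingGroup]; decide⟩

theorem hasV4_A4 : HasV4 (alternatingGroup (Fin 4)) :=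
  ⟨v4a, v4b, by decide, by decide, by decide, by decide, by decide, by decide⟩

theorem hasV4_S4 : HasV4 (Perm (Fin 4)) :=
  HasV4.of_injective (alternatingGroup (Fin 4)).subtype (Subgroup.subtype_injective _) hasV4_A4

def v5a : alternatingGroup (Fin 5) :=
  ⟨Equiv.swap 0 1 * Equiv.swap 2 3, by rw [Equiv.Perm.mem_alternatingGroup]; decide⟩

def v5b : alternatingGroup (Fin 5) :=
  ⟨Equiv.swap 0 2 * Equiv.swap 1 3, by rw [Equiv.Perm.mem_alternatingGroup]; decide⟩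

theorem hasV4_A5 : HasV4 (alternatingGroup (Fin 5)) :=
  ⟨v5a, v5b, by decide, by decide, by decide, by decide, by decide, by decide⟩

theorem goodG_A4 (k : ℕ) (hk : Odd k) : GoodG k (alternatingGroup (Fin 4)) := by
  intro x
  rcases A4_orders x with h | h | h
  · exact ⟨1, h, good_arith k hk 1 (Or.inl rfl)⟩
  · exact ⟨2, h, good_arith k hk 2 (Or.inr (Or.inl rfl))⟩
  · exact ⟨3, h, good_arith k hk 3 (Or.inr (Or.inr (Or.inl rfl)))⟩

theorem goodG_S4 (k : ℕ) (hk : Odd k) (h8 : k % 8 = 1 ∨ k % 8 = 7) : GoodG k (Perm (Fin 4)) := by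
  intro x
  rcases S4_orders x with h | h | h | h
  · exact ⟨1, h, good_arith k hk 1 (Or.inl rfl)⟩
  · exact ⟨2, h, good_arith k hk 2 (Or.inr (Or.inl rfl))⟩
  · exact ⟨3, h, good_arith k hk 3 (Or.inr (Or.inr (Or.inl rfl)))⟩
  · exact ⟨4, h, good_arith k hk 4 (Or.inr (Or.inr (Or.inr (Or.inl ⟨rfl, h8⟩))))⟩

theorem goodG_A5 (k : ℕ) (hk : Odd k) (h5 : 5 ∣ k ∨ k % 10 = 1 ∨ k % 10 = 9) :
    GoodG k (alternatingGroup (Fin 5)) := by
  intro x
  rcases A5_orders x with h | h | h | h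
  · exact ⟨1, h, good_arith k hk 1 (Or.inl rfl)⟩
  · exact ⟨2, h, good_arith k hk 2 (Or.inr (Or.inl rfl))⟩
  · exact ⟨3, h, good_arith k hk 3 (Or.inr (Or.inr (Or.inl rfl)))⟩
  · exact ⟨5, h, good_arith k hk 5 (Or.inr (Or.inr (Or.inr (Or.inr ⟨rfl, h5⟩))))⟩

end Cfsg.Agent.Helper8.Ds
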