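import Mathlib
import Cfsg.Agent.Helper8.DsK
import Cfsg.Agent.Helper8.DsJ

set_option autoImplicit false

/-!
Klein four-subgroups and element orders of `PSL₂(K)` and `PGL₂(K)`, `K` a finite field of odd order.
-/

namespace Cfsg.Agent.Helper8.Ds

open Matrix Cfsg.Agent.Helper7.SL2 Cfsg.Agent.Helper8.SL2C Cfsg.Agent.Helper8.Dk Subgroup
open scoped Matrix

variable {K : Type*} [Field K] [Fintype K]

theorem goodG_PSL2 (hodd : Odd (Fintype.card K)) :
    GoodG (Fintype.card K) (ProjectiveSpecialLinearGroup (Fin 2) K) := by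
  intro x
  by_cases hx : x = 1
  · exact ⟨1, by rw [hx, one_pow], Or.inl (one_dvd _)⟩
  obtain ⟨M', hM', hxM'⟩ := GM_cover x hx
  have hpow : x ^ Nat.card M' = 1 :=
    orderOf_dvd_iff_pow_eq_one.mp (Subgroup.orderOf_dvd_natCard M' hxM')
  refine ⟨Nat.card M', hpow, ?_⟩
  rcases mem_GM_iff.mp hM' with hU | hT
  · left
    rw [card_GU hU]
  · have h := card_mul_mem_GT hT
    rw [card_center_of_two_ne (two_ne_zero_of_odd hodd)] at h
    rcases h with h | h
    · right; right; rw [h]
    · right; left; rw [h]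

theorem hasV4_PSL2 (hodd : Odd (Fintype.card K)) :
    HasV4 (ProjectiveSpecialLinearGroup (Fin 2) K) := by
  have h2 := two_ne_zero_of_odd hodd
  obtain ⟨p, hp⟩ := CharP.exists K
  have hpp : Fact p.Prime := ⟨CharP.char_is_prime K p⟩
  obtain ⟨r, s, hrs, hs⟩ := exists_rs (K := K) p
  set a : SpecialLinearGroup (Fin 2) K := mk' 0 1 (-1) 0 (by ring) with ha
  set b : SpecialLinearGroup (Fin 2) K := mk' r s s (-r) (by linear_combination -hrs) with hb
  have haa : a * a = -1 := by
    apply ext' <;>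
    simp [coe_mul_apply, ha, mk'_00, mk'_01, mk'_10, mk'_11, Matrix.SpecialLinearGroup.coe_neg]
  have hbb : b * b = -1 := by
    apply ext' <;>
    simp [coe_mul_apply, hb, mk'_00, mk'_01, mk'_10, mk'_11, Matrix.SpecialLinearGroup.coe_neg]
    · linear_combination hrs
    · ring
    · ring
    · linear_combination hrs
  have hab : a * b = -(b * a) := by
    apply ext' <;>
    simp [Matrix.SpecialLinearGroup.coe_mul, Matrix.SpecialLinearGroup.coe_neg, Matrix.mul_apply,
      Fin.sum_univ_two, ha, hb, mk'_00, mk'_01, mk'_10, mk'_11]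
  refine ⟨pmk a, pmk b, ?_, ?_, ?_, ?_, ?_, ?_⟩
  · rw [Ne, pmk_eq_one_iff]
    rintro (h | h)
    · have := congrArg (fun g : SpecialLinearGroup (Fin 2) K => (g : Matrix (Fin 2) (Fin 2) K) 0 1) h
      simp [ha, mk'_01] at this
    · have := congrArg (fun g : SpecialLinearGroup (Fin 2) K => (g : Matrix (Fin 2) (Fin 2) K) 0 1) h
      simp [ha, mk'_01, Matrix.SpecialLinearGroup.coe_neg] at this
  · rw [Ne, pmk_eq_one_iff]
    rintro (h | h)
    · have := congrArg (fun g : SpecialLinearGroup (Fin 2) K => (g : Matrix (Fin 2) (Fin 2) K) 0 1) h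
      simp [hb, mk'_01] at this
      exact hs this
    · have := congrArg (fun g : SpecialLinearGroup (Fin 2) K => (g : Matrix (Fin 2) (Fin 2) K) 0 1) h
      simp [hb, mk'_01, Matrix.SpecialLinearGroup.coe_neg] at this
      exact hs this
  · rw [Ne, pmk_eq_iff]
    rintro (h | h)
    · have e1 := congrArg (fun g : SpecialLinearGroup (Fin 2) K => (g : Matrix (Fin 2) (Fin 2) K) 0 1) h
      have e2 := congrArg (fun g : SpecialLinearGroup (Fin 2) K => (g : Matrix (Fin 2) (Fin 2) K) 1 0) h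
      simp [ha, hb, mk'_01, mk'_10] at e1 e2
      apply h2
      linear_combination e1 - e2
    · have e1 := congrArg (fun g : SpecialLinearGroup (Fin 2) K => (g : Matrix (Fin 2) (Fin 2) K) 0 1) h
      have e2 := congrArg (fun g : SpecialLinearGroup (Fin 2) K => (g : Matrix (Fin 2) (Fin 2) K) 1 0) h
      simp [ha, hb, mk'_01, mk'_10, Matrix.SpecialLinearGroup.coe_neg] at e1 e2
      apply h2
      linear_combination e1 + e2
  · rw [pmk_mul, haa, pmk_neg]; rfl
  · rw [pmk_mul, hbb, pmk_neg]; rfl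
  · rw [pmk_mul, pmk_mul, hab, pmk_neg]

theorem hasV4_PGL2 (hodd : Odd (Fintype.card K)) :
    HasV4 (Matrix.ProjGenLinGroup (Fin 2) K) :=
  HasV4.of_injective (Matrix.ProjectiveSpecialLinearGroup.toPGL (n := Fin 2) (R := K))
    Matrix.ProjectiveSpecialLinearGroup.toPGL_injective (hasV4_PSL2 hodd)

theorem goodG_PGL2 {L : Type*} [Field L] [Fintype L] (f : K →+* L)
    (hL : Fintype.card K ^ 2 = Fintype.card L) (hodd : Odd (Fintype.card K)) :
    GoodG (Fintype.card K ^ 2) (Matrix.ProjGenLinGroup (Fin 2) K) := by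
  have hoddL : Odd (Fintype.card L) := by rw [← hL]; exact hodd.pow
  obtain ⟨H, ⟨e⟩⟩ := Cfsg.Agent.Lead.PSL2Sub.exists_PGL2_sub f
    (Cfsg.Agent.Lead.PSL2Sub.exists_sqrt_of_even f (Nat.odd_iff.mp hoddL) 1
      (by rw [mul_one]; exact hL))
  have h := goodG_PSL2 hoddL
  rw [← hL] at h
  exact GoodG.of_injective (H.subtype.comp e.symm.toMonoidHom)
    (H.subtype_injective.comp e.symm.injective) h

end Cfsg.Agent.Helper8.Ds
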