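import Mathlib
import Cfsg.Agent.Helper8.DsL
import Cfsg.Agent.Helper8.DkMaxK
import Cfsg.Agent.Helper8.DkSolv

set_option autoImplicit false
set_option linter.unusedSimpArgs false

/-!
A maximal subgroup of `PSL₂(F)` conjugate to a subfield subgroup `PSL₂(K)`: the degree of `F` over
`K` is an odd prime.
-/

namespace Cfsg.Agent.Helper8.Ds

open Matrix Cfsg.Agent.Helper7.SL2 Cfsg.Agent.Helper8.SL2C Cfsg.Agent.Helper8.Dk Subgroup
open scoped Matrix

theorem isCoatom_cj {G : Type*} [Group G] (g : G) {M : Subgroup G} (hM : IsCoatom M) :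
    IsCoatom (cj g M) :=
  ((MulAut.conj g).mapSubgroup.isCoatom_iff M).mpr hM

theorem coatom_le_cases {G : Type*} [Group G] (g : G) {M X : Subgroup G} (hM : IsCoatom M)
    (hle : cj g M ≤ X) : X = ⊤ ∨ cj g M = X := by
  rcases eq_or_lt_of_le hle with h | h
  · exact Or.inr h
  · exact Or.inl ((isCoatom_cj g hM).2 _ h)

/-- a subgroup and its conjugate are isomorphic -/
noncomputable def cjEquiv {G : Type*} [Group G] (g : G) (M : Subgroup G) : M ≃* cj g M :=
  M.equivMapOfInjective (MulAut.conj g).toMonoidHom (MulAut.conj g).injective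

variable {F : Type*} [Field F] [Fintype F]

/-- a subfield subgroup over a subfield of index two is not maximal: a diagonal element normalises
it -/
theorem not_coatom_quadratic {K : Type*} [Field K] [Fintype K] (f : K →+* F) (d : F) (hd : d ≠ 0)
    (hodd : Odd (Fintype.card F)) (h4 : 4 ≤ Fintype.card F)
    (hK : Fintype.card K ^ 2 = Fintype.card F) : ¬ IsCoatom (pslTw f d hd).range := by
  intro hco
  have hKodd : Odd (Fintype.card K) := by
    rw [← hK] at hodd
    exact (Nat.odd_pow_iff (by norm_num)).mp hodd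
  have hcharK : ringChar K ≠ 2 := by
    intro hc
    have := FiniteField.even_card_of_char_two hc
    exact (Nat.not_even_iff_odd.mpr hKodd) (Nat.even_iff.mpr this)
  obtain ⟨ν, hν⟩ := FiniteField.exists_nonsquare hcharK
  have hν0 : ν ≠ 0 := by
    rintro rfl
    exact hν ⟨0, by rw [mul_zero]⟩
  obtain ⟨c, hc⟩ := Cfsg.Agent.Lead.PSL2Sub.exists_sqrt_of_even f (Nat.odd_iff.mp hodd) 1
    (by rw [mul_one]; exact hK) ν hν0
  have hfν : f ν ≠ 0 := fun h => hν0 (f.injective (by rw [h, map_zero]))
  have hc0 : c ≠ 0 := by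
    rintro rfl
    rw [mul_zero] at hc
    exact hfν hc.symm
  set n : SpecialLinearGroup (Fin 2) F := mk' c 0 0 c⁻¹ (by field_simp; ring) with hn
  -- `n` normalises
  have hconj : ∀ g : SpecialLinearGroup (Fin 2) K, ∃ g' : SpecialLinearGroup (Fin 2) K,
      n * psi f d hd g = psi f d hd g' * n := by
    intro g
    refine ⟨mk' ((g : Matrix (Fin 2) (Fin 2) K) 0 0) (ν * (g : Matrix (Fin 2) (Fin 2) K) 0 1)
      (ν⁻¹ * (g : Matrix (Fin 2) (Fin 2) K) 1 0) ((g : Matrix (Fin 2) (Fin 2) K) 1 1) ?_, ?_⟩
    · have := det_eq g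
      field_simp
      linear_combination this
    · apply ext'
      · simp only [coe_mul_apply, psi_00, psi_01, psi_10, psi_11, hn, mk'_00, mk'_01, mk'_10,
          mk'_11]
        ring
      · simp only [coe_mul_apply, psi_00, psi_01, psi_10, psi_11, hn, mk'_00, mk'_01, mk'_10,
          mk'_11, map_mul]
        rw [← hc]
        field_simp
        ring
      · simp only [coe_mul_apply, psi_00, psi_01, psi_10, psi_11, hn, mk'_00, mk'_01, mk'_10,
          mk'_11, map_mul, map_inv₀]
        rw [← hc]
        field_simp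
        ring
      · simp only [coe_mul_apply, psi_00, psi_01, psi_10, psi_11, hn, mk'_00, mk'_01, mk'_10,
          mk'_11]
        ring
  have hnorm : pmk n ∈ normalizer (((pslTw f d hd).range :
      Subgroup (ProjectiveSpecialLinearGroup (Fin 2) F)) :
        Set (ProjectiveSpecialLinearGroup (Fin 2) F)) := by
    apply Subgroup.mem_normalizer_fintype
    rintro _ ⟨y, rfl⟩
    obtain ⟨g, rfl⟩ := pmk_surjective y
    obtain ⟨g', hg'⟩ := hconj g
    refine ⟨pmk g', ?_⟩
    rw [pslTw_pmk, pslTw_pmk, pmk_inv, pmk_mul, pmk_mul, hg', mul_inv_cancel_right]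
  have hnot : pmk n ∉ (pslTw f d hd).range := by
    rintro ⟨y, hy⟩
    obtain ⟨g, rfl⟩ := pmk_surjective y
    rw [pslTw_pmk, pmk_eq_iff] at hy
    apply hν
    rcases hy with h | h
    · have e := congrArg (fun z : SpecialLinearGroup (Fin 2) F =>
        (z : Matrix (Fin 2) (Fin 2) F) 0 0) h
      simp only [psi_00, hn, mk'_00] at e
      refine ⟨(g : Matrix (Fin 2) (Fin 2) K) 0 0, ?_⟩
      apply f.injective
      rw [map_mul, e, hc]
    · have e := congrArg (fun z : SpecialLinearGroup (Fin 2) F =>
        (z : Matrix (Fin 2) (Fin 2) F) 0 0) h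
      simp only [psi_00, hn, mk'_00, Matrix.SpecialLinearGroup.coe_neg, Matrix.neg_apply] at e
      refine ⟨(g : Matrix (Fin 2) (Fin 2) K) 0 0, ?_⟩
      apply f.injective
      rw [map_mul, ← hc]
      have e' : c = -f ((g : Matrix (Fin 2) (Fin 2) K) 0 0) := by linear_combination e
      rw [e']
      ring
  have hlt : (pslTw f d hd).range < normalizer (((pslTw f d hd).range :
      Subgroup (ProjectiveSpecialLinearGroup (Fin 2) F)) :
        Set (ProjectiveSpecialLinearGroup (Fin 2) F)) := by
    refine lt_of_le_of_ne Subgroup.le_normalizer ?_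
    intro h
    apply hnot
    rw [h]
    exact hnorm
  have htop := hco.2 _ hlt
  have hnormal : ((pslTw f d hd).range).Normal := Subgroup.normalizer_eq_top_iff.mp htop
  have hsimple := isSimpleGroup_PSL2_of_card (F := F) h4
  rcases hnormal.eq_bot_or_eq_top with h | h
  · -- the range is not trivial
    have hmem : pmk (psi f d hd (up 1)) ∈ (pslTw f d hd).range := ⟨pmk (up 1), rfl⟩
    rw [h, Subgroup.mem_bot, pmk_eq_one_iff, psi_up] at hmem
    rcases hmem with e | e
    · have e' := congrArg (fun z : SpecialLinearGroup (Fin 2) F =>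
        (z : Matrix (Fin 2) (Fin 2) F) 0 1) e
      simp only [up_01, one_01, map_one, mul_one] at e'
      exact hd e'
    · have e' := congrArg (fun z : SpecialLinearGroup (Fin 2) F =>
        (z : Matrix (Fin 2) (Fin 2) F) 0 1) e
      simp only [up_01, one_01, map_one, mul_one, Matrix.SpecialLinearGroup.coe_neg,
        Matrix.neg_apply, neg_zero] at e'
      exact hd e'
  · apply hnot
    rw [h]
    exact Subgroup.mem_top _

theorem card_PSL2_congr {K : Type*} [Field K] [Fintype K] (hodd : Odd (Fintype.card F))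
    (h : Fintype.card K = Fintype.card F) :
    Nat.card (ProjectiveSpecialLinearGroup (Fin 2) K) =
      Nat.card (ProjectiveSpecialLinearGroup (Fin 2) F) := by
  have h1 := two_mul_card_PSL2 hodd
  have h2 := two_mul_card_PSL2 (F := K) (by rw [h]; exact hodd)
  rw [h] at h2
  omega

/-- a maximal subgroup conjugate to a subfield subgroup -/
theorem subfield_conclusion {K : Type} [Field K] [Fintype K] (f : K →+* F) (d : F) (hd : d ≠ 0)
    (hodd : Odd (Fintype.card F)) (h5 : 5 ≤ Fintype.card F) {m : ℕ}
    (hm : Fintype.card K ^ m = Fintype.card F)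
    {M : Subgroup (ProjectiveSpecialLinearGroup (Fin 2) F)} (hM : IsCoatom M)
    (g : ProjectiveSpecialLinearGroup (Fin 2) F) (hX : cj g M = (pslTw f d hd).range) :
    m.Prime ∧ Odd m ∧ Nonempty (M ≃* ProjectiveSpecialLinearGroup (Fin 2) K) := by
  have hiso : Nonempty (M ≃* ProjectiveSpecialLinearGroup (Fin 2) K) :=
    ⟨(cjEquiv g M).trans ((MulEquiv.subgroupCongr hX).trans
      (MonoidHom.ofInjective (pslTw_injective f d hd)).symm)⟩
  have hcoX : IsCoatom (pslTw f d hd).range := hX ▸ isCoatom_cj g hM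
  have hm0 : m ≠ 0 := by
    rintro rfl
    rw [pow_zero] at hm
    omega
  have hm1 : m ≠ 1 := by
    rintro rfl
    rw [pow_one] at hm
    apply hcoX.1
    apply Subgroup.eq_top_of_card_eq
    rw [card_pslTw_range, card_PSL2_congr hodd hm]
  have hm2 : m ≠ 2 := by
    rintro rfl
    exact not_coatom_quadratic f d hd hodd (by omega) hm hcoX
  have hprime : m.Prime := by
    by_contra hnp
    obtain ⟨s, hs, hs2, hsm⟩ := Nat.exists_dvd_of_not_prime2 (by omega) hnp
    obtain ⟨t, ht⟩ := hs
    have ht2 : 2 ≤ t := by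
      by_contra hlt
      have : t = 0 ∨ t = 1 := by omega
      rcases this with rfl | rfl
      · omega
      · omega
    exact not_coatom_of_composite f d hd hm ht hs2 ht2 g hX hM
  refine ⟨hprime, ?_, hiso⟩
  rcases hprime.eq_two_or_odd' with h | h
  · exact absurd h hm2
  · exact h

end Cfsg.Agent.Helper8.Ds
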