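import Mathlib
import Cfsg.Agent.Helper8.DsM

set_option autoImplicit false

/-!
The descent dichotomy for a maximal subgroup with a Klein four-subgroup and controlled element
orders, and the arithmetic of the orders of `PSL₂`.
-/

namespace Cfsg.Agent.Helper8.Ds

open Matrix Cfsg.Agent.Helper7.SL2 Cfsg.Agent.Helper8.SL2C Cfsg.Agent.Helper8.Dk Subgroup
open scoped Matrix

variable {F : Type*} [Field F] [Fintype F]

theorem char_ne_two_of_odd (p : ℕ) [Fact p.Prime] [CharP F p] (hodd : Odd (Fintype.card F)) :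
    p ≠ 2 := by
  rintro rfl
  have h1 : ((Fintype.card F : ℕ) : F) = 0 := Nat.cast_card_eq_zero F
  have h2 : 2 ∣ Fintype.card F := (CharP.cast_eq_zero_iff F 2 _).mp h1
  exact (Nat.not_even_iff_odd.mpr hodd) (even_iff_two_dvd.mpr h2)

theorem cube_strict {k q : ℕ} (hk : 2 ≤ k) (h : k < q) : k * (k ^ 2 - 1) < q * (q ^ 2 - 1) := by
  have h1 : k ^ 2 < q ^ 2 := Nat.pow_lt_pow_left h (by norm_num)
  have h2 : 1 ≤ k ^ 2 := Nat.one_le_pow _ _ (by omega)
  have h3 : k ^ 2 - 1 < q ^ 2 - 1 := by omega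
  have h4 : 0 < k ^ 2 - 1 := by
    have : 2 ^ 2 ≤ k ^ 2 := Nat.pow_le_pow_left hk 2
    omega
  exact Nat.mul_lt_mul'' h h3

theorem cube_inj {k q : ℕ} (hk : 2 ≤ k) (hq : 2 ≤ q) (h : k * (k ^ 2 - 1) = q * (q ^ 2 - 1)) :
    k = q := by
  rcases lt_trichotomy k q with h1 | h1 | h1
  · exact absurd h (cube_strict hk h1).ne
  · exact h1
  · exact absurd h (cube_strict hq h1).ne'

theorem card_eq_of_card_PSL2_eq {K : Type*} [Field K] [Fintype K] (hodd : Odd (Fintype.card F))
    (hoddK : Odd (Fintype.card K))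
    (h : Nat.card (ProjectiveSpecialLinearGroup (Fin 2) K) =
      Nat.card (ProjectiveSpecialLinearGroup (Fin 2) F)) : Fintype.card K = Fintype.card F := by
  have h1 := two_mul_card_PSL2 hodd
  have h2 := two_mul_card_PSL2 hoddK
  rw [h, h1] at h2
  exact cube_inj Fintype.one_lt_card Fintype.one_lt_card h2.symm

/-- the descent dichotomy -/
theorem descent_dichotomy (p : ℕ) [Fact p.Prime] [CharP F p] (hodd : Odd (Fintype.card F))
    {K : Type*} [Field K] [Fintype K] (f : K →+* F) (e : ℕ) (hK : Fintype.card K = p ^ e)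
    {M : Subgroup (ProjectiveSpecialLinearGroup (Fin 2) F)} (hM : IsCoatom M)
    {Y : Type*} [Group Y] (eM : M ≃* Y) (hV : HasV4 Y) (hG : GoodG (p ^ e) Y) :
    Fintype.card K = Fintype.card F ∨
    ∃ (d : F) (hd : d ≠ 0) (g : ProjectiveSpecialLinearGroup (Fin 2) F),
      cj g M = (pslTw f d hd).range := by
  have hp2 := char_ne_two_of_odd p hodd
  obtain ⟨x, y, hxM, hyM, hx, hy, hxy, hx2, hy2, hc⟩ := v4_of_equiv eM hV
  obtain ⟨d, hd, g, hle⟩ := descent_of_orders p hp2 f e hK M hxM hyM hx hy hxy hx2 hy2 hc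
    (good_of_equiv eM hG)
  rcases coatom_le_cases g hM hle with h | h
  · left
    have hoddK : Odd (Fintype.card K) := by
      rw [hK]
      exact (Nat.Prime.odd_of_ne_two Fact.out hp2).pow
    apply card_eq_of_card_PSL2_eq hodd hoddK
    rw [← card_pslTw_range f d hd, h, Subgroup.card_top]
  · exact Or.inr ⟨d, hd, g, h⟩

/-- the order of a maximal subgroup conjugate to a subfield subgroup -/
theorem card_of_cj_eq {K : Type*} [Field K] [Fintype K] (f : K →+* F) (d : F) (hd : d ≠ 0)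
    {M : Subgroup (ProjectiveSpecialLinearGroup (Fin 2) F)}
    (g : ProjectiveSpecialLinearGroup (Fin 2) F) (h : cj g M = (pslTw f d hd).range) :
    Nat.card M = Nat.card (ProjectiveSpecialLinearGroup (Fin 2) K) := by
  rw [← card_cj g M, h, card_pslTw_range]

end Cfsg.Agent.Helper8.Ds
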