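import Mathlib
import Cfsg.Agent.Helper8.DsN

set_option autoImplicit false

/-!
Maximal subgroups of `PSL₂(F)` isomorphic to `PSL₂(K)` or `PGL₂(K)` for a proper subfield `K`.
-/

namespace Cfsg.Agent.Helper8.Ds

open Matrix Cfsg.Agent.Helper7.SL2 Cfsg.Agent.Helper8.SL2C Cfsg.Agent.Helper8.Dk Subgroup
open scoped Matrix

theorem exists_field (p : ℕ) [Fact p.Prime] (e : ℕ) (he : e ≠ 0) :
    ∃ (L : Type) (_ : Field L) (_ : Fintype L), Fintype.card L = p ^ e := by
  let _i : Fintype (GaloisField p e) := Fintype.ofFinite _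
  refine ⟨GaloisField p e, inferInstance, inferInstance, ?_⟩
  rw [← Nat.card_eq_fintype_card, GaloisField.card p _ he]

variable {F : Type*} [Field F] [Fintype F]

omit [Fintype F] in
theorem charP_of_ringHom (p : ℕ) [CharP F p] {K : Type*} [Field K] (f : K →+* F) : CharP K p :=
  (RingHom.charP_iff f f.injective p).mpr inferInstance

theorem case_PSL (p : ℕ) [Fact p.Prime] [CharP F p] (hodd : Odd (Fintype.card F))
    (h5 : 5 ≤ Fintype.card F)
    {M : Subgroup (ProjectiveSpecialLinearGroup (Fin 2) F)} (hM : IsCoatom M)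
    {K : Type} [Field K] [Fintype K] {m : ℕ} (hm2 : 2 ≤ m)
    (hm : Fintype.card K ^ m = Fintype.card F)
    (eM : M ≃* ProjectiveSpecialLinearGroup (Fin 2) K) : m.Prime ∧ Odd m := by
  obtain ⟨f⟩ := Cfsg.Agent.Lead.PSL2Sub.exists_ringHom (F := F) (K := K) m hm
  have := charP_of_ringHom p f
  obtain ⟨n, -, hKn⟩ := FiniteField.card K p
  have hoddK : Odd (Fintype.card K) := by
    rw [← hm] at hodd
    exact (Nat.odd_pow_iff (by omega)).mp hodd
  have hgood := goodG_PSL2 hoddK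
  rw [hKn] at hgood
  rcases descent_dichotomy p hodd f n hKn hM eM (hasV4_PSL2 hoddK) hgood with h | ⟨d, hd, g, h⟩
  · exfalso
    rw [← hm] at h
    have hk2 : 2 ≤ Fintype.card K := Fintype.one_lt_card
    have := Nat.pow_right_injective hk2 ((pow_one _).trans h)
    omega
  · obtain ⟨h1, h2, -⟩ := subfield_conclusion f d hd hodd h5 hm hM g h
    exact ⟨h1, h2⟩

theorem case_PGL (p : ℕ) [Fact p.Prime] [CharP F p] (hodd : Odd (Fintype.card F))
    {M : Subgroup (ProjectiveSpecialLinearGroup (Fin 2) F)} (hM : IsCoatom M)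
    {K : Type} [Field K] [Fintype K] {m : ℕ} (hm2 : 2 ≤ m)
    (hm : Fintype.card K ^ m = Fintype.card F)
    (eM : M ≃* Matrix.ProjGenLinGroup (Fin 2) K) : m = 2 := by
  obtain ⟨f⟩ := Cfsg.Agent.Lead.PSL2Sub.exists_ringHom (F := F) (K := K) m hm
  have := charP_of_ringHom p f
  obtain ⟨n, -, hKn⟩ := FiniteField.card K p
  have hoddK : Odd (Fintype.card K) := by
    rw [← hm] at hodd
    exact (Nat.odd_pow_iff (by omega)).mp hodd
  have hk2 : 2 ≤ Fintype.card K := Fintype.one_lt_card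
  have heven : Even m :=
    ((Cfsg.Agent.Lead.PSL2Sub.s0805 (F := F) (K := K) rfl hodd m (by omega) hm).2).mp
      ⟨M, ⟨eM⟩⟩
  obtain ⟨j, hj⟩ := heven
  by_contra hne
  have hj2 : 2 ≤ j := by omega
  obtain ⟨L, _, _, hL⟩ := exists_field p (2 * (n : ℕ)) (by have := n.pos; omega)
  have hLK : Fintype.card K ^ 2 = Fintype.card L := by rw [hL, hKn, ← pow_mul, mul_comm]
  have hLF : Fintype.card L ^ j = Fintype.card F := by
    rw [← hLK, ← pow_mul, ← hm, hj, two_mul]
  obtain ⟨fKL⟩ := Cfsg.Agent.Lead.PSL2Sub.exists_ringHom (F := L) (K := K) 2 hLK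
  obtain ⟨fLF⟩ := Cfsg.Agent.Lead.PSL2Sub.exists_ringHom (F := F) (K := L) j hLF
  have hgood := goodG_PGL2 fKL hLK hoddK
  rw [hLK, hL] at hgood
  rcases descent_dichotomy p hodd fLF (2 * (n : ℕ)) hL hM eM (hasV4_PGL2 hoddK) hgood with
    h | ⟨d, hd, g, h⟩
  · rw [← hLF] at h
    have hl2 : 2 ≤ Fintype.card L := Fintype.one_lt_card
    have := Nat.pow_right_injective hl2 ((pow_one _).trans h)
    omega
  · have h1 := card_of_cj_eq fLF d hd g h
    rw [Nat.card_congr eM.toEquiv, Cfsg.Agent.Lead.PSL2Sub.card_PGL2] at h1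
    have hoddL : Odd (Fintype.card L) := by rw [← hLK]; exact hoddK.pow
    have h2 := two_mul_card_PSL2 hoddL
    rw [← h1, ← hLK] at h2
    obtain ⟨k, hk⟩ : ∃ k, k = Fintype.card K := ⟨_, rfl⟩
    rw [← hk] at h2 hk2
    obtain ⟨A, hA⟩ : ∃ A, A = k ^ 2 - 1 := ⟨_, rfl⟩
    have hk4 : 4 ≤ k ^ 2 := by nlinarith
    have hA1 : k ^ 2 = A + 1 := by omega
    rw [← hA, hA1] at h2
    have e1 : (A + 1) ^ 2 - 1 = A * (A + 2) := by
      have : (A + 1) ^ 2 = A * (A + 2) + 1 := by ring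
      omega
    rw [e1] at h2
    have hkA : k ≤ A + 1 := by nlinarith
    have hA3 : 3 ≤ A := by omega
    nlinarith

end Cfsg.Agent.Helper8.Ds
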