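import Mathlib
import Cfsg.Agent.Helper8.DsO
import Cfsg.Agent.Helper8.DsArith

set_option autoImplicit false

/-!
Maximal subgroups of `PSL₂(F)` isomorphic to `A₅`.
-/

namespace Cfsg.Agent.Helper8.Ds

open Matrix Cfsg.Agent.Helper7.SL2 Cfsg.Agent.Helper8.SL2C Cfsg.Agent.Helper8.Dk Subgroup
open scoped Matrix

variable {F : Type*} [Field F] [Fintype F]

/-- a subgroup order divides the group order -/
theorem card_dvd_of_equiv {Y : Type*} [Group Y] (hodd : Odd (Fintype.card F))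
    {M : Subgroup (ProjectiveSpecialLinearGroup (Fin 2) F)} (eM : M ≃* Y) :
    2 * Nat.card Y ∣ Fintype.card F * (Fintype.card F ^ 2 - 1) := by
  rw [← two_mul_card_PSL2 hodd, ← Nat.card_congr eM.toEquiv]
  exact Nat.mul_dvd_mul_left 2 (Subgroup.card_subgroup_dvd_card M)

theorem odd_prime_pow (p : ℕ) [Fact p.Prime] [CharP F p] (hodd : Odd (Fintype.card F)) (e : ℕ) :
    Odd (p ^ e) :=
  (Nat.Prime.odd_of_ne_two Fact.out (char_ne_two_of_odd (F := F) p hodd)).pow

theorem case_A5 (p : ℕ) [Fact p.Prime] [CharP F p] (hodd : Odd (Fintype.card F))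
    (h5 : 5 ≤ Fintype.card F)
    {M : Subgroup (ProjectiveSpecialLinearGroup (Fin 2) F)} (hM : IsCoatom M)
    (eM : M ≃* alternatingGroup (Fin 5)) :
    (∃ (F₀ : Type) (_ : Field F₀) (_ : Fintype F₀) (r : ℕ), r.Prime ∧ Odd r ∧
        Fintype.card F = Fintype.card F₀ ^ r ∧
        Nonempty (M ≃* Matrix.ProjectiveSpecialLinearGroup (Fin 2) F₀)) ∨
    ((Fintype.card F % 10 = 1 ∨ Fintype.card F % 10 = 9) ∧
        (Fintype.card F = p ∨ (Fintype.card F = p ^ 2 ∧ (p % 10 = 3 ∨ p % 10 = 7)))) := by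
  have hp2 := char_ne_two_of_odd (F := F) p hodd
  have hpp : p.Prime := Fact.out
  obtain ⟨n, -, hFn⟩ := FiniteField.card F p
  have hMc : Nat.card M = 60 := (Nat.card_congr eM.toEquiv).trans card_A5
  by_cases hp5 : p = 5
  · subst hp5
    left
    set f : ZMod 5 →+* F := ZMod.castHom (dvd_refl 5) F with hf
    have hK : Fintype.card (ZMod 5) = 5 ^ 1 := by rw [ZMod.card, pow_one]
    have hgood : GoodG (5 ^ 1) (alternatingGroup (Fin 5)) :=
      goodG_A5 _ (by decide) (Or.inl (by norm_num))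
    rcases descent_dichotomy 5 hodd f 1 hK hM eM hasV4_A5 hgood with h | ⟨d, hd, g, h⟩
    · exfalso
      rw [ZMod.card] at h
      have hG := card_PSL2_eq hodd h.symm (n := 60) (by norm_num)
      apply hM.1
      apply Subgroup.eq_top_of_card_eq
      rw [hMc, hG]
    · have hm : Fintype.card (ZMod 5) ^ (n : ℕ) = Fintype.card F := by rw [ZMod.card, hFn]
      obtain ⟨h1, h2, h3⟩ := subfield_conclusion f d hd hodd h5 hm hM g h
      exact ⟨ZMod 5, inferInstance, inferInstance, n, h1, h2, hm.symm, h3⟩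
  · right
    have hdvd := card_dvd_of_equiv hodd eM
    rw [card_A5] at hdvd
    have h5dvd : 5 ∣ Fintype.card F * (Fintype.card F ^ 2 - 1) := dvd_trans (by norm_num) hdvd
    have hq10 : Fintype.card F % 10 = 1 ∨ Fintype.card F % 10 = 9 := by
      apply mod10_of_dvd _ (Nat.odd_iff.mp hodd)
      rcases (Nat.Prime.dvd_mul Nat.prime_five).mp h5dvd with h | h
      · exfalso
        rw [hFn] at h
        have := Nat.prime_five.dvd_of_dvd_pow h
        exact hp5 ((Nat.prime_dvd_prime_iff_eq Nat.prime_five hpp).mp this).symm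
      · exact h
    refine ⟨hq10, ?_⟩
    -- the exponent of the field of definition
    obtain ⟨e₁, he₁, hpe, hdvd₁⟩ : ∃ e₁ : ℕ, (e₁ = 1 ∨ (e₁ = 2 ∧ (p % 10 = 3 ∨ p % 10 = 7))) ∧
        (p ^ e₁ % 10 = 1 ∨ p ^ e₁ % 10 = 9) ∧ e₁ ∣ (n : ℕ) := by
      rcases prime_mod10 p hpp hp2 hp5 with h | h | h | h
      · exact ⟨1, Or.inl rfl, by rw [pow_one]; exact Or.inl h, one_dvd _⟩
      · refine ⟨2, Or.inr ⟨rfl, Or.inl h⟩, ?_, ?_⟩
        · right; rw [Nat.pow_mod, h]
        · rw [hFn] at hq10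
          exact (even_iff_two_dvd).mp (even_of_pow_mod10 p n (Or.inl h) hq10)
      · refine ⟨2, Or.inr ⟨rfl, Or.inr h⟩, ?_, ?_⟩
        · right; rw [Nat.pow_mod, h]
        · rw [hFn] at hq10
          exact (even_iff_two_dvd).mp (even_of_pow_mod10 p n (Or.inr h) hq10)
      · exact ⟨1, Or.inl rfl, by rw [pow_one]; exact Or.inr h, one_dvd _⟩
    have he0 : e₁ ≠ 0 := by rcases he₁ with h | ⟨h, -⟩ <;> omega
    obtain ⟨t, ht⟩ := hdvd₁
    obtain ⟨K₁, _, _, hK₁⟩ := exists_field p e₁ he0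
    have hm : Fintype.card K₁ ^ t = Fintype.card F := by rw [hK₁, ← pow_mul, ← ht, hFn]
    obtain ⟨f⟩ := Cfsg.Agent.Lead.PSL2Sub.exists_ringHom (F := F) (K := K₁) t hm
    have hgood : GoodG (p ^ e₁) (alternatingGroup (Fin 5)) :=
      goodG_A5 _ (odd_prime_pow (F := F) p hodd e₁) (Or.inr hpe)
    rcases descent_dichotomy p hodd f e₁ hK₁ hM eM hasV4_A5 hgood with h | ⟨d, hd, g, h⟩
    · rw [hK₁] at h
      rcases he₁ with rfl | ⟨rfl, h10⟩
      · left; rw [← h, pow_one]
      · right; exact ⟨h.symm, h10⟩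
    · exfalso
      have h1 := card_of_cj_eq f d hd g h
      rw [hMc] at h1
      have hoddK : Odd (Fintype.card K₁) := by rw [hK₁]; exact odd_prime_pow (F := F) p hodd e₁
      have h2 := two_mul_card_PSL2 hoddK
      rw [← h1] at h2
      have h3 : Fintype.card K₁ = 5 :=
        cube_inj Fintype.one_lt_card (by norm_num) (by rw [← h2]; norm_num)
      rw [hK₁] at h3
      have : p ∣ 5 := by rw [← h3]; exact dvd_pow_self p he0
      exact hp5 ((Nat.prime_dvd_prime_iff_eq hpp Nat.prime_five).mp this)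

end Cfsg.Agent.Helper8.Ds
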