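import Mathlib
import Cfsg.Agent.Helper8.DsP

set_option autoImplicit false

/-!
Maximal subgroups of `PSL₂(F)` isomorphic to `A₄`.
-/

namespace Cfsg.Agent.Helper8.Ds

open Matrix Cfsg.Agent.Helper7.SL2 Cfsg.Agent.Helper8.SL2C Cfsg.Agent.Helper8.Dk Subgroup
open scoped Matrix

theorem a4_cent_card : (Finset.univ.filter (fun y : alternatingGroup (Fin 4) =>
    y * v4a = v4a * y)).card = 4 := by
  decide

theorem a4_cent_normal : ∀ n g : alternatingGroup (Fin 4), n * v4a = v4a * n →
    (g * n * g⁻¹) * v4a = v4a * (g * n * g⁻¹) := by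
  decide

theorem card_centralizer_v4a :
    Nat.card (centralizer ({v4a} : Set (alternatingGroup (Fin 4)))) = 4 := by
  have h : ∀ y : alternatingGroup (Fin 4), y ∈ centralizer ({v4a} : Set (alternatingGroup (Fin 4))) ↔
      y * v4a = v4a * y := by
    intro y
    rw [mem_centralizer_singleton_iff, eq_comm]
  rw [Nat.card_congr (Equiv.subtypeEquivRight h), Nat.card_eq_fintype_card, Fintype.card_subtype]
  exact a4_cent_card

theorem card_normalizer_centralizer_v4a :
    Nat.card (normalizer ((centralizer ({v4a} : Set (alternatingGroup (Fin 4))) :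
      Subgroup (alternatingGroup (Fin 4))) : Set (alternatingGroup (Fin 4)))) = 12 := by
  have hc : ∀ y : alternatingGroup (Fin 4), y ∈ centralizer ({v4a} : Set (alternatingGroup (Fin 4))) ↔
      y * v4a = v4a * y := by
    intro y
    rw [mem_centralizer_singleton_iff, eq_comm]
  have hN : (centralizer ({v4a} : Set (alternatingGroup (Fin 4)))).Normal := by
    constructor
    intro n hn g
    rw [hc] at hn ⊢
    exact a4_cent_normal n g hn
  rw [Subgroup.normalizer_eq_top_iff.mpr hN, Subgroup.card_top]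
  exact card_A4

theorem exists_sub4_of_A4 {G : Type*} [Group G] {H : Subgroup G}
    (e : H ≃* alternatingGroup (Fin 4)) :
    ∃ Q : Subgroup G, Q ≤ H ∧ Nat.card Q = 4 ∧
      Nat.card (normalizer (Q : Set G) ⊓ H : Subgroup G) = 12 := by
  obtain ⟨Q, hQ, h1, h2⟩ := exists_transport e
    (centralizer ({v4a} : Set (alternatingGroup (Fin 4))))
  exact ⟨Q, hQ, h1.trans card_centralizer_v4a, h2.trans card_normalizer_centralizer_v4a⟩

/-- a maximal subgroup of a simple group normalising a nontrivial subgroup is its normaliser -/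
theorem coatom_eq_normalizer_of_sub {G : Type*} [Group G] [Finite G] [IsSimpleGroup G]
    {M Q : Subgroup G} (hM : IsCoatom M) (hQM : Q ≤ M) (hQ1 : Q ≠ ⊥)
    (hcard : Nat.card (normalizer (Q : Set G) ⊓ M : Subgroup G) = Nat.card M) :
    M = normalizer (Q : Set G) := by
  have h1 : (normalizer (Q : Set G) ⊓ M : Subgroup G) = M :=
    Subgroup.eq_of_le_of_card_ge inf_le_right (by rw [hcard])
  have hle : M ≤ normalizer (Q : Set G) := by
    rw [← h1]; exact inf_le_left
  rcases eq_or_lt_of_le hle with h | h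
  · exact h
  · exfalso
    have htop := hM.2 _ h
    have hnormal : Q.Normal := Subgroup.normalizer_eq_top_iff.mp htop
    rcases hnormal.eq_bot_or_eq_top with h | h
    · exact hQ1 h
    · apply hM.1
      rw [eq_top_iff, ← h]
      exact hQM

variable {F : Type*} [Field F] [Fintype F]

theorem case_A4 (p : ℕ) [Fact p.Prime] [CharP F p] (hodd : Odd (Fintype.card F))
    (h5 : 5 ≤ Fintype.card F)
    {M : Subgroup (ProjectiveSpecialLinearGroup (Fin 2) F)} (hM : IsCoatom M)
    (eM : M ≃* alternatingGroup (Fin 4)) :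
    (∃ (F₀ : Type) (_ : Field F₀) (_ : Fintype F₀) (r : ℕ), r.Prime ∧ Odd r ∧
        Fintype.card F = Fintype.card F₀ ^ r ∧
        Nonempty (M ≃* Matrix.ProjectiveSpecialLinearGroup (Fin 2) F₀)) ∨
    (Fintype.card F = p ∧ (p % 8 = 3 ∨ p % 8 = 5) ∧ ¬ (p % 10 = 1 ∨ p % 10 = 9)) := by
  have hp2 := char_ne_two_of_odd (F := F) p hodd
  have hpp : p.Prime := Fact.out
  obtain ⟨n, -, hFn⟩ := FiniteField.card F p
  have hMc : Nat.card M = 12 := (Nat.card_congr eM.toEquiv).trans card_A4
  set f : ZMod p →+* F := ZMod.castHom (dvd_refl p) F with hf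
  have hK : Fintype.card (ZMod p) = p ^ 1 := by rw [ZMod.card, pow_one]
  have hgood : GoodG (p ^ 1) (alternatingGroup (Fin 4)) :=
    goodG_A4 _ (odd_prime_pow (F := F) p hodd 1)
  rcases descent_dichotomy p hodd f 1 hK hM eM hasV4_A4 hgood with h | ⟨d, hd, g, h⟩
  · right
    rw [ZMod.card] at h
    have hsimple := isSimpleGroup_PSL2_of_card (F := F) (by omega)
    obtain ⟨Q, hQM, hQc, hQn⟩ := exists_sub4_of_A4 eM
    have hQ1 : Q ≠ ⊥ := by
      intro hb
      rw [hb, Subgroup.card_bot] at hQc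
      omega
    have hMN := coatom_eq_normalizer_of_sub hM hQM hQ1 (by rw [hQn, hMc])
    have hNc : Nat.card (normalizer (Q : Set (ProjectiveSpecialLinearGroup (Fin 2) F))) = 12 := by
      rw [← hMN, hMc]
    have h2G := two_mul_card_PSL2 hodd
    have : Fact (Nat.Prime 2) := ⟨Nat.prime_two⟩
    have hmax : ¬ 2 ^ (2 + 1) ∣ Nat.card (ProjectiveSpecialLinearGroup (Fin 2) F) := by
      intro hdvd
      have := Sylow.prime_pow_dvd_card_normalizer hdvd (H := Q) (by rw [hQc]; norm_num)
      rw [hNc] at this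
      omega
    have h8 : p % 8 = 3 ∨ p % 8 = 5 := by
      rcases prime_mod8 p hpp hp2 with h8 | h8 | h8 | h8
      · exfalso
        apply hmax
        have h16 := dvd_of_mod8 p (Or.inl h8)
        rw [← h] at h2G
        obtain ⟨c, hc⟩ := h16
        rw [hc] at h2G
        refine ⟨p * c, ?_⟩
        have e : p * (16 * c) = 2 * (2 ^ (2 + 1) * (p * c)) := by ring
        omega
      · exact Or.inl h8
      · exact Or.inr h8
      · exfalso
        apply hmax
        have h16 := dvd_of_mod8 p (Or.inr h8)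
        rw [← h] at h2G
        obtain ⟨c, hc⟩ := h16
        rw [hc] at h2G
        refine ⟨p * c, ?_⟩
        have e : p * (16 * c) = 2 * (2 ^ (2 + 1) * (p * c)) := by ring
        omega
    refine ⟨h.symm, h8, ?_⟩
    intro h10
    obtain ⟨H₅, hH₅, ⟨e₅⟩⟩ := Cfsg.Agent.S5939.result (F := F) p (Or.inl ⟨h.symm, h10⟩)
    obtain ⟨Q₅, -, hQ₅c, hQ₅n⟩ := exists_sub4_of_A5 e₅
    have hH₅c : Nat.card H₅ = 60 := (Nat.card_congr e₅.toEquiv).trans card_A5
    have := not_coatom_of_sylow_normalizer 2 (a := 2) (T := Q) (Q := Q₅) (H := H₅)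
      (by rw [hQc]; norm_num) (by rw [hQ₅c]; norm_num) hmax hH₅.1 (by rw [hQ₅n, hNc])
      (by rw [hH₅c, hNc]; norm_num)
    rw [← hMN] at this
    exact this hM
  · left
    have h1 := card_of_cj_eq f d hd g h
    rw [hMc] at h1
    have hoddK : Odd (Fintype.card (ZMod p)) := by
      rw [hK]; exact odd_prime_pow (F := F) p hodd 1
    have h2 := two_mul_card_PSL2 hoddK
    rw [← h1] at h2
    have h3 : Fintype.card (ZMod p) = 3 :=
      cube_inj Fintype.one_lt_card (by norm_num) (by rw [← h2]; norm_num)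
    rw [ZMod.card] at h3
    subst h3
    have hm : Fintype.card (ZMod 3) ^ (n : ℕ) = Fintype.card F := by rw [ZMod.card, hFn]
    obtain ⟨h1, h2, h3⟩ := subfield_conclusion f d hd hodd h5 hm hM g h
    exact ⟨ZMod 3, inferInstance, inferInstance, n, h1, h2, hm.symm, h3⟩

end Cfsg.Agent.Helper8.Ds
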