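import Mathlib
import Cfsg.Agent.Helper8.DsQ

set_option autoImplicit false

/-!
Maximal subgroups of `PSL₂(F)` isomorphic to `S₄`: the field of `p²` elements, `p ≡ ±3 (mod 8)`.
-/

namespace Cfsg.Agent.Helper8.Ds

open Matrix Cfsg.Agent.Helper7.SL2 Cfsg.Agent.Helper8.SL2C Cfsg.Agent.Helper8.Dk Subgroup Equiv
open scoped Matrix

/-- the double transpositions in `S₄` -/
def s4a : Perm (Fin 4) := Equiv.swap 0 1 * Equiv.swap 2 3

def s4b : Perm (Fin 4) := Equiv.swap 0 2 * Equiv.swap 1 3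

theorem sign_s4a : Perm.sign s4a = 1 := by decide
theorem sign_s4b : Perm.sign s4b = 1 := by decide

set_option maxRecDepth 100000 in
theorem s4_even_orders : ∀ σ : Perm (Fin 4), Perm.sign σ = 1 →
    (σ ^ 1 = 1 ∨ σ ^ 2 = 1 ∨ σ ^ 3 = 1) := by
  decide +kernel

set_option maxRecDepth 100000 in
theorem s4_odd_orders : ∀ σ : Perm (Fin 4), Perm.sign σ = -1 → (σ ≠ 1 ∧ σ ^ 4 = 1) := by
  decide +kernel

theorem s4_v4 : s4a ≠ 1 ∧ s4b ≠ 1 ∧ s4a ≠ s4b ∧ s4a * s4a = 1 ∧ s4b * s4b = 1 ∧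
    s4a * s4b = s4b * s4a := by
  decide

variable {F : Type*} [Field F]

/-- the trace of a lift of an element of projective order at most three lies in the prime field -/
theorem tr_mem_of_small_order (p : ℕ) [Fact p.Prime] [CharP F p] [Fintype F] (hp2 : p ≠ 2)
    (h : SpecialLinearGroup (Fin 2) F)
    (hn : pmk h ^ 1 = 1 ∨ pmk h ^ 2 = 1 ∨ pmk h ^ 3 = 1) :
    ∃ u : ZMod p, tr h = ZMod.castHom (dvd_refl p) F u := by
  have hodd : Odd (p ^ 1) := (Nat.Prime.odd_of_ne_two Fact.out hp2).pow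
  have key : tr h ^ (p ^ 1) = tr h := by
    rcases hn with hn | hn | hn
    · exact tr_pow_eq_self p hp2 1 h hn (good_arith _ hodd 1 (Or.inl rfl))
    · exact tr_pow_eq_self p hp2 1 h hn (good_arith _ hodd 2 (Or.inr (Or.inl rfl)))
    · exact tr_pow_eq_self p hp2 1 h hn (good_arith _ hodd 3 (Or.inr (Or.inr (Or.inl rfl))))
  have hmem := mem_range_of_pow_card (ZMod.castHom (dvd_refl p) F) (x := tr h)
    (by rw [ZMod.card, ← pow_one p]; exact key)
  obtain ⟨u, hu⟩ := hmem
  exact ⟨u, hu.symm⟩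

theorem tr_mul_self (h : SpecialLinearGroup (Fin 2) F) : tr (h * h) = tr h ^ 2 - 2 := by
  rw [← trace_coe, Matrix.SpecialLinearGroup.coe_mul, sq_eq, Matrix.trace_sub, Matrix.trace_smul,
    trace_coe, Matrix.trace_one, Fintype.card_fin, smul_eq_mul]
  push_cast
  ring

/-- a lift of an involution has trace zero -/
theorem tr_eq_zero_of_involution (h2 : (2 : F) ≠ 0) (h : SpecialLinearGroup (Fin 2) F)
    (h1 : pmk h ≠ 1) (hsq : pmk h * pmk h = 1) : tr h = 0 := by
  rw [pmk_mul, pmk_eq_one_iff] at hsq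
  rcases hsq with e | e
  · exfalso
    apply h1
    rw [pmk_eq_one_iff]
    exact eq_one_or_of_sq h2 e
  · exact tr_eq_zero_of_sq e

/-- the trace of a lift of a nontrivial element of projective order dividing four -/
theorem tr_of_order_four (h2 : (2 : F) ≠ 0) {δ : F} (hδ : δ * δ = 2)
    (h : SpecialLinearGroup (Fin 2) F) (h1 : pmk h ≠ 1) (h4 : pmk h ^ 4 = 1) :
    tr h = 0 ∨ tr h = δ ∨ tr h = -δ := by
  by_cases hsq : pmk h * pmk h = 1
  · exact Or.inl (tr_eq_zero_of_involution h2 h h1 hsq)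
  · right
    have hw : pmk (h * h) * pmk (h * h) = 1 := by
      rw [← pmk_mul h h, ← h4]
      simp only [pow_succ, pow_zero, one_mul, mul_assoc]
    have h0 := tr_eq_zero_of_involution h2 (h * h) (by rw [← pmk_mul]; exact hsq) hw
    rw [tr_mul_self] at h0
    have : (tr h - δ) * (tr h + δ) = 0 := by linear_combination h0 - hδ
    rcases mul_eq_zero.mp this with e | e
    · left; linear_combination e
    · right; linear_combination e

theorem pow_eq_one_of_equiv {G Y : Type*} [Group G] [Group Y] {M : Subgroup G} (e : M ≃* Y)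
    {z : G} (hz : z ∈ M) {n : ℕ} (h : e ⟨z, hz⟩ ^ n = 1) : z ^ n = 1 := by
  have h1 : (⟨z, hz⟩ : M) ^ n = 1 := by
    apply e.injective
    rw [map_pow, h, map_one]
  have := congrArg (Subtype.val) h1
  simpa using this

theorem ne_one_of_equiv {G Y : Type*} [Group G] [Group Y] {M : Subgroup G} (e : M ≃* Y)
    {z : G} (hz : z ∈ M) (h : e ⟨z, hz⟩ ≠ 1) : z ≠ 1 := by
  rintro rfl
  apply h
  have : (⟨1, hz⟩ : M) = 1 := rfl
  rw [this, map_one]

/-- transport of explicit commuting involutions -/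
theorem v4_transport {G Y : Type*} [Group G] [Group Y] {M : Subgroup G} (e : M ≃* Y) {x y : Y}
    (h : x ≠ 1 ∧ y ≠ 1 ∧ x ≠ y ∧ x * x = 1 ∧ y * y = 1 ∧ x * y = y * x) :
    (e.symm x : G) ≠ 1 ∧ (e.symm y : G) ≠ 1 ∧ (e.symm x : G) ≠ (e.symm y : G) ∧
      (e.symm x : G) * (e.symm x : G) = 1 ∧ (e.symm y : G) * (e.symm y : G) = 1 ∧
      (e.symm x : G) * (e.symm y : G) = (e.symm y : G) * (e.symm x : G) := by
  obtain ⟨hx, hy, hxy, hx2, hy2, hc⟩ := h
  refine ⟨?_, ?_, ?_, ?_, ?_, ?_⟩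
  · intro h
    apply hx
    have : e.symm x = 1 := Subtype.ext h
    rw [← e.apply_symm_apply x, this, map_one]
  · intro h
    apply hy
    have : e.symm y = 1 := Subtype.ext h
    rw [← e.apply_symm_apply y, this, map_one]
  · intro h
    apply hxy
    have : e.symm x = e.symm y := Subtype.ext h
    exact e.symm.injective this
  · rw [← Subgroup.coe_mul, ← map_mul, hx2, map_one, Subgroup.coe_one]
  · rw [← Subgroup.coe_mul, ← map_mul, hy2, map_one, Subgroup.coe_one]
  · rw [← Subgroup.coe_mul, ← map_mul, hc, map_mul, Subgroup.coe_mul]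

end Cfsg.Agent.Helper8.Ds
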