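import Mathlib
import Cfsg.Agent.Helper8.DsR

set_option autoImplicit false

/-!
A maximal subgroup of `PSL₂(p²)` isomorphic to `S₄`, `p ≡ ±3 (mod 8)`, forces `p = 3`: otherwise it
lies in a proper subgroup `PGL₂(p)`.
-/

namespace Cfsg.Agent.Helper8.Ds

open Matrix Cfsg.Agent.Helper7.SL2 Cfsg.Agent.Helper8.SL2C Cfsg.Agent.Helper8.Dk Subgroup Equiv
open scoped Matrix

variable {F : Type*} [Field F] [Fintype F]

theorem S4_quadratic (p : ℕ) [Fact p.Prime] [CharP F p] (hodd : Odd (Fintype.card F))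
    (hq : Fintype.card F = p ^ 2) (h8 : p % 8 = 3 ∨ p % 8 = 5)
    {M : Subgroup (ProjectiveSpecialLinearGroup (Fin 2) F)} (hM : IsCoatom M)
    (eM : M ≃* Perm (Fin 4)) : p = 3 := by
  have hp2 := char_ne_two_of_odd (F := F) p hodd
  have hpp : p.Prime := Fact.out
  have h2 := two_ne_zero_of_odd hodd
  set f : ZMod p →+* F := ZMod.castHom (dvd_refl p) F with hf
  have h2p : (2 : ZMod p) ≠ 0 := two_ne_zero_of_char (F := ZMod p) p hp2
  obtain ⟨δ, hδ⟩ := Cfsg.Agent.Lead.PSL2Sub.exists_sqrt_of_even f (Nat.odd_iff.mp hodd) 1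
    (by rw [ZMod.card, mul_one, hq]) 2 h2p
  have hδ' : δ * δ = 2 := by rw [hδ, map_ofNat]
  have hδr : δ ∉ Set.range f := by
    rintro ⟨γ, rfl⟩
    have : γ * γ = 2 := f.injective (by rw [map_mul, hδ])
    have hsq : IsSquare (2 : ZMod p) := ⟨γ, this.symm⟩
    rw [ZMod.exists_sq_eq_two_iff hp2] at hsq
    omega
  -- the Klein four-subgroup
  obtain ⟨hx1, hy1, hxy, hxx, hyy, hc⟩ := v4_transport eM s4_v4
  obtain ⟨a, b, hax, hby, haa, hbb, hab⟩ := exists_anticomm h2 hx1 hy1 hxy hxx hyy hc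
  obtain ⟨r₀, s₀, hrs, hs⟩ := exists_rs (K := ZMod p) p
  -- the sign
  set sg : M →* ℤˣ := (Perm.sign).comp eM.toMonoidHom with hsg
  have hsg_apply : ∀ z : M, sg z = Perm.sign (eM z) := fun z => rfl
  have haM : pmk a ∈ M := by rw [hax]; exact (eM.symm s4a).2
  have hbM : pmk b ∈ M := by rw [hby]; exact (eM.symm s4b).2
  have hsa : sg ⟨pmk a, haM⟩ = 1 := by
    have : (⟨pmk a, haM⟩ : M) = eM.symm s4a := Subtype.ext hax
    rw [hsg_apply, this, MulEquiv.apply_symm_apply, sign_s4a]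
  have hsb : sg ⟨pmk b, hbM⟩ = 1 := by
    have : (⟨pmk b, hbM⟩ : M) = eM.symm s4b := Subtype.ext hby
    rw [hsg_apply, this, MulEquiv.apply_symm_apply, sign_s4b]
  have habM : pmk (a * b) ∈ M := by rw [← pmk_mul]; exact M.mul_mem haM hbM
  have hsab : sg ⟨pmk (a * b), habM⟩ = 1 := by
    have : (⟨pmk (a * b), habM⟩ : M) = ⟨pmk a, haM⟩ * ⟨pmk b, hbM⟩ := rfl
    rw [this, map_mul, hsa, hsb, one_mul]
  -- traces of even and odd elements
  have Leven : ∀ (h : SpecialLinearGroup (Fin 2) F) (hm : pmk h ∈ M), sg ⟨pmk h, hm⟩ = 1 →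
      ∃ u : ZMod p, tr h = f u := by
    intro h hm hs1
    apply tr_mem_of_small_order p hp2 h
    rcases s4_even_orders _ hs1 with e | e | e
    · exact Or.inl (pow_eq_one_of_equiv eM hm e)
    · exact Or.inr (Or.inl (pow_eq_one_of_equiv eM hm e))
    · exact Or.inr (Or.inr (pow_eq_one_of_equiv eM hm e))
  have Lodd : ∀ (h : SpecialLinearGroup (Fin 2) F) (hm : pmk h ∈ M), sg ⟨pmk h, hm⟩ = -1 →
      ∃ u : ZMod p, tr h = δ * f u := by
    intro h hm hs1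
    obtain ⟨e1, e4⟩ := s4_odd_orders _ hs1
    rcases tr_of_order_four h2 hδ' h (ne_one_of_equiv eM hm e1) (pow_eq_one_of_equiv eM hm e4)
      with e | e | e
    · exact ⟨0, by rw [e, map_zero, mul_zero]⟩
    · exact ⟨1, by rw [e, map_one, mul_one]⟩
    · exact ⟨-1, by rw [e, map_neg, map_one, mul_neg, mul_one]⟩
  have hmulM : ∀ (h w : SpecialLinearGroup (Fin 2) F) (hm : pmk h ∈ M) (hw : pmk w ∈ M),
      ∃ hm' : pmk (h * w) ∈ M, sg ⟨pmk (h * w), hm'⟩ = sg ⟨pmk h, hm⟩ * sg ⟨pmk w, hw⟩ := by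
    intro h w hm hw
    have hm' : pmk (h * w) ∈ M := by rw [← pmk_mul]; exact M.mul_mem hm hw
    refine ⟨hm', ?_⟩
    have : (⟨pmk (h * w), hm'⟩ : M) = ⟨pmk h, hm⟩ * ⟨pmk w, hw⟩ := rfl
    rw [this, map_mul]
  set Mt := M.comap (ph F) with hMt
  have htr : ∀ h ∈ Mt, ∃ (c : F) (u0 u1 u2 u3 : ZMod p), tr h = c * f u0 ∧
      tr (h * a) = c * f u1 ∧ tr (h * b) = c * f u2 ∧ tr (h * (a * b)) = c * f u3 := by
    intro h hh
    have hm : pmk h ∈ M := hh
    obtain ⟨hma, hsa'⟩ := hmulM h a hm haM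
    obtain ⟨hmb, hsb'⟩ := hmulM h b hm hbM
    obtain ⟨hmab, hsab'⟩ := hmulM h (a * b) hm habM
    rw [hsa, mul_one] at hsa'
    rw [hsb, mul_one] at hsb'
    rw [hsab, mul_one] at hsab'
    rcases Int.units_eq_one_or (sg ⟨pmk h, hm⟩) with hs1 | hs1
    · obtain ⟨u0, e0⟩ := Leven h hm hs1
      obtain ⟨u1, e1⟩ := Leven (h * a) hma (hsa'.trans hs1)
      obtain ⟨u2, e2⟩ := Leven (h * b) hmb (hsb'.trans hs1)
      obtain ⟨u3, e3⟩ := Leven (h * (a * b)) hmab (hsab'.trans hs1)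
      exact ⟨1, u0, u1, u2, u3, by rw [e0, one_mul], by rw [e1, one_mul], by rw [e2, one_mul],
        by rw [e3, one_mul]⟩
    · obtain ⟨u0, e0⟩ := Lodd h hm hs1
      obtain ⟨u1, e1⟩ := Lodd (h * a) hma (hsa'.trans hs1)
      obtain ⟨u2, e2⟩ := Lodd (h * b) hmb (hsb'.trans hs1)
      obtain ⟨u3, e3⟩ := Lodd (h * (a * b)) hmab (hsab'.trans hs1)
      exact ⟨δ, u0, u1, u2, u3, e0, e1, e2, e3⟩
  obtain ⟨P, hP, hle⟩ := descent_prop f h2 Mt haa hbb hab r₀ s₀ hrs hs htr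
  have hMle : M ≤ (subQ f P hP).map (ph F) := by
    rw [← Subgroup.map_comap_eq_self_of_surjective (ph_surjective (F := F)) M]
    exact Subgroup.map_mono hle
  have hne := map_subQ_ne_top f P hP hδr
  have hMeq : M = (subQ f P hP).map (ph F) := by
    rcases eq_or_lt_of_le hMle with h | h
    · exact h
    · exact absurd (hM.2 _ h) hne
  -- a unipotent element
  obtain ⟨h₀, hh₀⟩ := exists_conjElt P hP !![1, 1; 0, 1] (by simp [Matrix.det_fin_two])
  have hh₀mem : h₀ ∈ subQ f P hP := by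
    rw [mem_subQ, hh₀]
    refine ⟨1, !![1, 1; 0, 1], ?_⟩
    ext i j
    fin_cases i <;> fin_cases j <;> simp
  have hz₀ : pmk h₀ ∈ M := by
    rw [hMeq]
    exact Subgroup.mem_map_of_mem (ph F) hh₀mem
  have hMc : Nat.card M = 24 := (Nat.card_congr eM.toEquiv).trans card_S4
  have hpow : pmk h₀ ^ 24 = 1 := by
    rw [← hMc]
    exact orderOf_dvd_iff_pow_eq_one.mp (Subgroup.orderOf_dvd_natCard M hz₀)
  have htr0 : tr h₀ = 2 := by
    rw [← trace_coe, ← trace_conj P _ hP, hh₀]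
    simp [Matrix.trace_fin_two]
    norm_num
  have hne1 : h₀ ≠ 1 := by
    rintro rfl
    have hu : IsUnit P.det := isUnit_iff_ne_zero.mpr hP
    rw [Matrix.SpecialLinearGroup.coe_one, Matrix.mul_one, Matrix.nonsing_inv_mul P hu] at hh₀
    have := congrFun (congrFun hh₀ 0) 1
    simp at this
  by_contra hp3
  have h24 : ((24 : ℕ) : F) ≠ 0 := by
    rw [Ne, CharP.cast_eq_zero_iff F p]
    intro hd
    have h1 : p ∣ 2 ^ 3 * 3 := by norm_num; exact hd
    rcases (Nat.Prime.dvd_mul hpp).mp h1 with h | h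
    · exact hp2 ((Nat.prime_dvd_prime_iff_eq hpp Nat.prime_two).mp (hpp.dvd_of_dvd_pow h))
    · exact hp3 ((Nat.prime_dvd_prime_iff_eq hpp Nat.prime_three).mp h)
  exact no_unip_torsion h2 h₀ htr0 hne1 24 h24 hpow

end Cfsg.Agent.Helper8.Ds
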