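import Mathlib
import Cfsg.Agent.Helper8.DsS
import Cfsg.Agent.S1012

set_option autoImplicit false

/-!
Maximal subgroups of `PSL₂(F)` isomorphic to `S₄`; `S₄ ≅ PGL₂(3)`.
-/

namespace Cfsg.Agent.Helper8.Ds

open Matrix Cfsg.Agent.Helper7.SL2 Cfsg.Agent.Helper8.SL2C Cfsg.Agent.Helper8.Dk Subgroup Equiv
open scoped Matrix

theorem S4_equiv_PGL2_three :
    Nonempty (Perm (Fin 4) ≃* Matrix.ProjGenLinGroup (Fin 2) (ZMod 3)) := by
  have hcard := card_PGL2_three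
  have : Finite (Matrix.ProjGenLinGroup (Fin 2) (ZMod 3)) :=
    Nat.finite_of_card_ne_zero (by rw [hcard]; norm_num)
  obtain ⟨L, _, _, hL⟩ := exists_field 3 2 (by norm_num)
  have hLK : Fintype.card (ZMod 3) ^ 2 = Fintype.card L := by rw [hL, ZMod.card]
  obtain ⟨fKL⟩ := Cfsg.Agent.Lead.PSL2Sub.exists_ringHom (F := L) (K := ZMod 3) 2 hLK
  have hgood := goodG_PGL2 fKL hLK (by rw [ZMod.card]; decide)
  rw [ZMod.card] at hgood
  obtain ⟨e⟩ := Cfsg.Agent.S1012.result hcard (by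
    intro x hx
    obtain ⟨n, hn, hk⟩ := hgood x
    have hdvd : 6 ∣ n := by rw [← hx]; exact orderOf_dvd_of_pow_eq_one hn
    obtain ⟨c, rfl⟩ := hdvd
    rcases hk with h | h | h
    · have := Nat.le_of_dvd (by norm_num) h
      have hc : c = 0 ∨ c = 1 := by omega
      rcases hc with rfl | rfl <;> omega
    · have := Nat.le_of_dvd (by norm_num) h
      have hc : c = 0 := by omega
      subst hc
      omega
    · have := Nat.le_of_dvd (by norm_num) h
      have hc : c = 0 := by omega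
      subst hc
      omega)
  exact ⟨e.symm⟩

variable {F : Type*} [Field F] [Fintype F]

theorem case_S4 (p : ℕ) [Fact p.Prime] [CharP F p] (hodd : Odd (Fintype.card F))
    {M : Subgroup (ProjectiveSpecialLinearGroup (Fin 2) F)} (hM : IsCoatom M)
    (eM : M ≃* Perm (Fin 4)) :
    (Fintype.card F = p ∧ (p % 8 = 1 ∨ p % 8 = 7)) ∨ Fintype.card F = 9 := by
  have hp2 := char_ne_two_of_odd (F := F) p hodd
  have hpp : p.Prime := Fact.out
  obtain ⟨n, -, hFn⟩ := FiniteField.card F p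
  have hMc : Nat.card M = 24 := (Nat.card_congr eM.toEquiv).trans card_S4
  have hdvd := card_dvd_of_equiv hodd eM
  rw [card_S4] at hdvd
  have h16 : 16 ∣ Fintype.card F ^ 2 - 1 := by
    have h1 : 16 ∣ Fintype.card F * (Fintype.card F ^ 2 - 1) := dvd_trans (by norm_num) hdvd
    have hcop : Nat.Coprime 16 (Fintype.card F) := by
      have : Nat.Coprime 2 (Fintype.card F) := (Nat.coprime_two_left).mpr hodd
      exact Nat.Coprime.pow_left 4 this
    exact hcop.dvd_of_dvd_mul_left h1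
  have hq8 := mod8_of_dvd _ (Nat.odd_iff.mp hodd) h16
  obtain ⟨e₁, he₁, hpe, hdvd₁⟩ : ∃ e₁ : ℕ, ((e₁ = 1 ∧ (p % 8 = 1 ∨ p % 8 = 7)) ∨
      (e₁ = 2 ∧ (p % 8 = 3 ∨ p % 8 = 5))) ∧
      (p ^ e₁ % 8 = 1 ∨ p ^ e₁ % 8 = 7) ∧ e₁ ∣ (n : ℕ) := by
    rcases prime_mod8 p hpp hp2 with h | h | h | h
    · exact ⟨1, Or.inl ⟨rfl, Or.inl h⟩, by rw [pow_one]; exact Or.inl h, one_dvd _⟩
    · refine ⟨2, Or.inr ⟨rfl, Or.inl h⟩, ?_, ?_⟩
      · left; rw [Nat.pow_mod, h]
      · rw [hFn] at hq8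
        exact (even_iff_two_dvd).mp (even_of_pow_mod8 p n (Or.inl h) hq8)
    · refine ⟨2, Or.inr ⟨rfl, Or.inr h⟩, ?_, ?_⟩
      · left; rw [Nat.pow_mod, h]
      · rw [hFn] at hq8
        exact (even_iff_two_dvd).mp (even_of_pow_mod8 p n (Or.inr h) hq8)
    · exact ⟨1, Or.inl ⟨rfl, Or.inr h⟩, by rw [pow_one]; exact Or.inr h, one_dvd _⟩
  have he0 : e₁ ≠ 0 := by rcases he₁ with ⟨h, -⟩ | ⟨h, -⟩ <;> omega
  obtain ⟨t, ht⟩ := hdvd₁
  obtain ⟨K₁, _, _, hK₁⟩ := exists_field p e₁ he0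
  have hm : Fintype.card K₁ ^ t = Fintype.card F := by rw [hK₁, ← pow_mul, ← ht, hFn]
  obtain ⟨f⟩ := Cfsg.Agent.Lead.PSL2Sub.exists_ringHom (F := F) (K := K₁) t hm
  have hgood : GoodG (p ^ e₁) (Perm (Fin 4)) :=
    goodG_S4 _ (odd_prime_pow (F := F) p hodd e₁) hpe
  rcases descent_dichotomy p hodd f e₁ hK₁ hM eM hasV4_S4 hgood with h | ⟨d, hd, g, h⟩
  · rw [hK₁] at h
    rcases he₁ with ⟨rfl, h8⟩ | ⟨rfl, h8⟩
    · left
      rw [pow_one] at h
      exact ⟨h.symm, h8⟩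
    · right
      have hp3 := S4_quadratic p hodd h.symm h8 hM eM
      rw [← h, hp3]
      norm_num
  · exfalso
    have h1 := card_of_cj_eq f d hd g h
    rw [hMc] at h1
    have hoddK : Odd (Fintype.card K₁) := by rw [hK₁]; exact odd_prime_pow (F := F) p hodd e₁
    have h2 := two_mul_card_PSL2 hoddK
    rw [← h1] at h2
    obtain ⟨k, hk⟩ : ∃ k, k = Fintype.card K₁ := ⟨_, rfl⟩
    rw [← hk] at h2 hoddK
    have hk2 : 2 ≤ k := by rw [hk]; exact Fintype.one_lt_card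
    obtain ⟨j, hj⟩ := hoddK
    have hk3 : k = 3 ∨ 3 < k := by omega
    rcases hk3 with rfl | hk3
    · norm_num at h2
    · have hk5 : k = 5 ∨ 5 < k := by omega
      rcases hk5 with rfl | hk5
      · norm_num at h2
      · have := cube_strict (k := 5) (by norm_num) hk5
        norm_num at this
        omega

end Cfsg.Agent.Helper8.Ds
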