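import Mathlib
import Cfsg.Agent.Helper8.E8OddS
import Cfsg.Agent.Helper7.ChevSE8

set_option autoImplicit false
set_option linter.unusedSectionVars false
set_option linter.unusedVariables false
set_option maxHeartbeats 4000000
set_option maxRecDepth 1000000

/-!
Type `E₈`: the involutions of the Weyl group mapping every fundamental root to a positive root or to its
negative, with certificates (generated tables).
-/

namespace Cfsg.Agent.Helper8.E8Odd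

open Cfsg Cfsg.Lie Cfsg.Agent.Helper7 Cfsg.Agent.Helper7.Chev Cfsg.Agent.Helper8.ChevOdd

/-- The tuples of images of the fundamental roots passing the tests, each with a word having these
images and a certificate for this word. -/
def e8Cs : List (List ℕ × List ℕ × Cert) :=
  [([77, 98, 104, 109, 113, 116, 118, 119], [7, 6, 5, 4, 3, 2, 1, 3, 4, 5, 6, 0, 2, 3, 4, 5, 1, 3, 4, 2, 3, 0, 2, 1, 3, 4, 5, 6, 7, 6, 5, 4, 3, 2, 1, 3, 4, 5, 6, 0, 2, 3, 4, 5, 1, 3, 4, 2, 3, 0, 2, 1, 3, 4, 5, 6, 7, 6, 5, 4, 3, 2, 1, 3, 4, 5, 6, 0, 2, 3, 4, 5, 1, 3, 4, 2, 3, 0, 2, 1, 3, 4, 5, 6, 0, 2, 3, 4, 5, 1, 3, 4, 2, 3, 0, 2, 1, 3, 4, 5, 1, 3, 4, 2, 3, 0, 2, 1, 3, 4, 2, 3, 0, 2, 1, 3, 0, 2, 1, 0], ⟨[], true, 2, 0, 0⟩),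
   ([77, 98, 104, 109, 113, 116, 118, 238], [6, 5, 4, 3, 2, 1, 3, 4, 5, 6, 0, 2, 3, 4, 5, 1, 3, 4, 2, 3, 0, 2, 1, 3, 4, 5, 6, 0, 2, 3, 4, 5, 1, 3, 4, 2, 3, 0, 2, 1, 3, 4, 5, 1, 3, 4, 2, 3, 0, 2, 1, 3, 4, 2, 3, 0, 2, 1, 3, 0, 2, 1, 0], ⟨[], true, 2, 0, 0⟩),
   ([77, 98, 163, 142, 126, 123, 121, 120], [1, 0], ⟨[], false, 0, 0, 9⟩),
   ([77, 98, 163, 142, 126, 123, 122, 119], [7, 1, 0], ⟨[], false, 0, 0, 9⟩),
   ([77, 98, 163, 142, 126, 124, 118, 122], [6, 1, 0], ⟨[], false, 0, 0, 9⟩),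
   ([77, 98, 163, 142, 127, 116, 124, 120], [5, 1, 0], ⟨[], false, 0, 0, 9⟩),
   ([77, 98, 163, 142, 127, 116, 125, 119], [7, 5, 1, 0], ⟨[], false, 0, 0, 9⟩),
   ([77, 98, 163, 143, 113, 127, 121, 120], [4, 1, 0], ⟨[], false, 0, 0, 11⟩),
   ([77, 98, 163, 143, 113, 127, 122, 119], [7, 4, 1, 0], ⟨[], false, 0, 0, 11⟩),
   ([77, 98, 163, 143, 113, 128, 118, 122], [6, 4, 1, 0], ⟨[], false, 0, 0, 13⟩),
   ([77, 141, 163, 130, 126, 123, 121, 120], [0], ⟨[], false, 0, 0, 6⟩),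
   ([77, 141, 163, 130, 126, 123, 122, 119], [7, 0], ⟨[], false, 0, 0, 6⟩),
   ([77, 141, 163, 130, 126, 124, 118, 122], [6, 0], ⟨[], false, 0, 0, 6⟩),
   ([77, 141, 163, 130, 127, 116, 124, 120], [5, 0], ⟨[], false, 0, 0, 6⟩),
   ([77, 141, 163, 130, 127, 116, 125, 119], [7, 5, 0], ⟨[], false, 0, 0, 6⟩),
   ([77, 141, 163, 131, 113, 127, 121, 120], [4, 0], ⟨[], false, 0, 0, 6⟩),
   ([77, 141, 163, 131, 113, 127, 122, 119], [7, 4, 0], ⟨[], false, 0, 0, 6⟩),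
   ([77, 141, 163, 131, 113, 128, 118, 122], [6, 4, 0], ⟨[], false, 0, 0, 6⟩),
   ([77, 142, 164, 109, 131, 123, 121, 120], [3, 0], ⟨[], false, 0, 0, 6⟩),
   ([77, 142, 164, 109, 131, 123, 122, 119], [7, 3, 0], ⟨[], false, 0, 0, 6⟩),
   ([77, 142, 164, 109, 131, 124, 118, 122], [6, 3, 0], ⟨[], false, 0, 0, 6⟩),
   ([77, 142, 164, 109, 132, 116, 124, 120], [5, 3, 0], ⟨[], false, 0, 0, 6⟩),
   ([77, 142, 164, 109, 132, 116, 125, 119], [7, 5, 3, 0], ⟨[], false, 0, 0, 6⟩),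
   ([162, 98, 135, 142, 126, 123, 121, 120], [1], ⟨[], false, 0, 1, 5⟩),
   ([162, 98, 135, 142, 126, 123, 122, 119], [7, 1], ⟨[], false, 0, 1, 5⟩),
   ([162, 98, 135, 142, 126, 124, 118, 122], [6, 1], ⟨[], false, 0, 1, 5⟩),
   ([162, 98, 135, 142, 127, 116, 124, 120], [5, 1], ⟨[], false, 0, 1, 5⟩),
   ([162, 98, 135, 142, 127, 116, 125, 119], [7, 5, 1], ⟨[], false, 0, 1, 5⟩),
   ([162, 98, 135, 143, 113, 127, 121, 120], [4, 1], ⟨[], false, 0, 1, 5⟩),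
   ([162, 98, 135, 143, 113, 127, 122, 119], [7, 4, 1], ⟨[], false, 0, 1, 5⟩),
   ([162, 98, 135, 143, 113, 128, 118, 122], [6, 4, 1], ⟨[], false, 0, 1, 5⟩),
   ([162, 141, 135, 130, 126, 123, 121, 120], [], ⟨[], false, 0, 0, 0⟩),
   ([162, 141, 135, 130, 126, 123, 122, 119], [7], ⟨[], false, 0, 7, 0⟩),
   ([162, 141, 135, 130, 126, 124, 118, 122], [6], ⟨[], false, 0, 6, 1⟩),
   ([162, 141, 135, 130, 127, 116, 124, 120], [5], ⟨[], false, 0, 5, 2⟩),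
   ([162, 141, 135, 130, 127, 116, 125, 119], [7, 5], ⟨[], false, 0, 5, 2⟩),
   ([162, 141, 135, 131, 113, 127, 121, 120], [4], ⟨[], false, 0, 4, 3⟩),
   ([162, 141, 135, 131, 113, 127, 122, 119], [7, 4], ⟨[], false, 0, 4, 3⟩),
   ([162, 141, 135, 131, 113, 128, 118, 122], [6, 4], ⟨[], false, 0, 4, 3⟩),
   ([162, 142, 136, 109, 131, 123, 121, 120], [3], ⟨[], false, 0, 3, 4⟩),
   ([162, 142, 136, 109, 131, 123, 122, 119], [7, 3], ⟨[], false, 0, 3, 4⟩),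
   ([162, 142, 136, 109, 131, 124, 118, 122], [6, 3], ⟨[], false, 0, 3, 4⟩),
   ([162, 142, 136, 109, 132, 116, 124, 120], [5, 3], ⟨[], false, 0, 3, 4⟩),
   ([162, 142, 136, 109, 132, 116, 125, 119], [7, 5, 3], ⟨[], false, 0, 3, 4⟩),
   ([163, 98, 104, 147, 126, 123, 121, 120], [2, 1], ⟨[], false, 0, 1, 14⟩),
   ([163, 98, 104, 147, 126, 123, 122, 119], [7, 2, 1], ⟨[], false, 0, 1, 14⟩),
   ([163, 98, 104, 147, 126, 124, 118, 122], [6, 2, 1], ⟨[], false, 0, 1, 14⟩),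
   ([163, 98, 104, 147, 127, 116, 124, 120], [5, 2, 1], ⟨[], false, 0, 1, 14⟩),
   ([163, 98, 104, 147, 127, 116, 125, 119], [7, 5, 2, 1], ⟨[], false, 0, 1, 14⟩),
   ([163, 98, 104, 148, 113, 127, 121, 120], [4, 2, 1], ⟨[], false, 0, 1, 14⟩),
   ([163, 98, 104, 148, 113, 127, 122, 119], [7, 4, 2, 1], ⟨[], false, 0, 1, 14⟩),
   ([163, 98, 104, 148, 113, 128, 118, 122], [6, 4, 2, 1], ⟨[], false, 0, 1, 14⟩),
   ([163, 141, 104, 136, 126, 123, 121, 120], [2], ⟨[], false, 0, 2, 5⟩),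
   ([163, 141, 104, 136, 126, 123, 122, 119], [7, 2], ⟨[], false, 0, 2, 5⟩),
   ([163, 141, 104, 136, 126, 124, 118, 122], [6, 2], ⟨[], false, 0, 2, 5⟩),
   ([163, 141, 104, 136, 127, 116, 124, 120], [5, 2], ⟨[], false, 0, 2, 5⟩),
   ([163, 141, 104, 136, 127, 116, 125, 119], [7, 5, 2], ⟨[], false, 0, 2, 5⟩),
   ([163, 141, 104, 137, 113, 127, 121, 120], [4, 2], ⟨[], false, 0, 2, 5⟩),
   ([163, 141, 104, 137, 113, 127, 122, 119], [7, 4, 2], ⟨[], false, 0, 2, 5⟩),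
   ([163, 141, 104, 137, 113, 128, 118, 122], [6, 4, 2], ⟨[], false, 0, 2, 5⟩),
   ([184, 98, 104, 109, 113, 156, 121, 120], [4, 3, 2, 1, 3, 4, 3, 2, 1, 3, 2, 1], ⟨[], true, 3, 1, 0⟩),
   ([184, 98, 104, 109, 113, 156, 122, 119], [7, 4, 3, 2, 1, 3, 4, 3, 2, 1, 3, 2, 1], ⟨[], false, 0, 7, 0⟩),
   ([184, 98, 104, 109, 113, 157, 118, 122], [6, 4, 3, 2, 1, 3, 4, 3, 2, 1, 3, 2, 1], ⟨[], false, 0, 6, 1⟩),
   ([219, 98, 104, 109, 113, 116, 118, 161], [6, 5, 4, 3, 2, 1, 3, 4, 5, 6, 5, 4, 3, 2, 1, 3, 4, 5, 4, 3, 2, 1, 3, 4, 3, 2, 1, 3, 2, 1], ⟨[], true, 3, 1, 0⟩)]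

theorem e8_tuples_eq : e8Cs.map Prod.fst = e8Tuples := by decide +kernel

theorem e8_cs_ok : ∀ e ∈ e8Cs, (∀ i ∈ e.2.1, i < 8) ∧
    ∀ i < 8, fastE8.reflWord e.2.1.reverse (e.1.getD i 0) = fastE8.simple i := by decide +kernel

theorem e8_certs_okF : ∀ e ∈ e8Cs, e.2.1 ≠ [] → fastE8.CertOK2F wR_E8 e.2.1 e.2.2 := by
  decide +kernel

theorem e8_fastRefl_lt : ∀ i < fastE8.l, ∀ r < fastE8.n, fastRefl wR_E8 i r < fastE8.n := by
  decide +kernel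

theorem e8_simple_lt : ∀ i < fastE8.l, fastE8.simple i < fastE8.n := by decide +kernel

theorem e8_certs_ok : ∀ e ∈ e8Cs, e.2.1 ≠ [] → fastE8.CertOK2 e.2.1 e.2.2 := by
  intro e he hne
  exact Tab.certOK2_of_fast wReflfast_E8 e8_fastRefl_lt e8_simple_lt (e8_cs_ok e he).1
    (e8_certs_okF e he hne)

end Cfsg.Agent.Helper8.E8Odd
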