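import Mathlib
import Cfsg.Agent.Helper8.E8OddT
import Cfsg.Agent.Helper8.G2OddA
import Cfsg.Agent.Helper8.F4OddA
import Cfsg.Agent.Helper7.ChevT5
import Cfsg.Agent.Helper7.ChevT6
import Cfsg.Agent.Helper7.ChevT7
import Cfsg.Agent.Helper7.ChevT9
import Cfsg.Agent.Helper7.ChevTabE8

set_option autoImplicit false
set_option linter.unusedSectionVars false
set_option linter.unusedVariables false

/-!
In `E₈(q)`, `q` odd, every involution is conjugate to an element of `H`.
-/

namespace Cfsg.Agent.Helper8.E8Odd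

open Cfsg Cfsg.Lie Matrix Cfsg.Agent.Helper7 Cfsg.Agent.Helper7.Chev Cfsg.Agent.Helper8.G2Odd
  Cfsg.Agent.Helper8.ChevOdd

variable {F : Type*} [Field F]

abbrev hE2 : Good2 chevE8 := good3_E8.toGood2
abbrev hE1 : Good1 chevE8 := good3_E8.toGood2.toGood1

/-- The words of the involutions of the Weyl group that cannot be shortened by conjugation. -/
def e8L : List (List ℕ) := e8Cs.map fun e => e.2.1

theorem e8L_lt : ∀ x ∈ e8L, ∀ i ∈ x, i < chevE8.rank := by
  intro x hx
  unfold e8L at hx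
  rw [List.mem_map] at hx
  obtain ⟨e, he, rfl⟩ := hx
  exact (e8_cs_ok e he).1

/-- An involution of the Weyl group of type `E₈` can be shortened by conjugation with a fundamental
reflection or acts as a word of the list. -/
theorem e8_desc (w : List ℕ) (hw : ∀ i ∈ w, i < chevE8.rank) (hinv : SameAct chevE8 w.reverse w) :
    (∃ i < chevE8.rank, nMinus chevE8 (i :: w ++ [i]) < nMinus chevE8 w) ∨
      ∃ x ∈ e8L, SameAct chevE8 w x := by
  rcases descent_or_cospecial hE2 T0_E8 T6_E8 hw hinv with h | hspec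
  · exact Or.inl h
  right
  have hmem := tuple_mem_searchC hE2 hw hinv hspec 8 le_rfl
  rw [tab_E8] at hmem
  have hmem := (Tab.mem_tupSearchM fastE8 (d := 8) (by decide) e8_maskRow e8_maskCol e8_pairSimple
    e8_simple_lt 8 (by decide) _ hmem).2.2
  rw [e8_searchM, ← e8_tuples_eq, List.mem_map] at hmem
  obtain ⟨e, he, heq⟩ := hmem
  obtain ⟨hX, hXact⟩ := e8_cs_ok e he
  have hX' : ∀ i ∈ e.2.1.reverse, i < chevE8.rank := fun i hi => hX i (List.mem_reverse.mp hi)
  have hget : ∀ i < 8, e.1.getD i 0 = fastE8.reflWord w (chevE8.simple i) := by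
    intro i hi
    rw [heq, List.getD_eq_getElem _ _ (by simp [hi])]
    simp
  refine ⟨e.2.1, List.mem_map.mpr ⟨e, he, rfl⟩, ?_⟩
  have := sameAct_of_tuple hE2 T0_E8 T6_E8 T8_E8 hw hX' (by
    intro i hi
    have hi8 : i < 8 := hi
    have h1 := hXact i hi8
    rw [hget i hi8] at h1
    have hs : fastE8.simple i = chevE8.simple i := by rw [← tab_E8]; rfl
    rw [hs] at h1
    rw [tab_E8]
    exact h1)
  rwa [List.reverse_reverse] at this

theorem e8_certs : ∀ x ∈ e8L, x ≠ [] → ∃ C : Cert, (tabOf chevE8).CertOK2 x C := by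
  intro x hx hne
  unfold e8L at hx
  rw [List.mem_map] at hx
  obtain ⟨e, he, rfl⟩ := hx
  refine ⟨e.2.2, ?_⟩
  rw [tab_E8]
  exact e8_certs_ok e he hne

/-- Over a finite field of odd order every involution of `E₈(q)` is conjugate to an element of `H`. -/
theorem inv_conj_diagonal [Fintype F] (hodd : Odd (Fintype.card F)) {t : GL chevE8.Idx F}
    (ht : t ∈ chevE8.group F) (ht2 : t * t = 1) : ConjD chevE8 t := by
  have hcard : Fintype.card F % 2 = 1 := Nat.odd_iff.mp hodd
  have h2 := F4Odd.two_ne_zero_of_odd hodd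
  obtain ⟨g₁, hg₁, hN⟩ := inv_conj_monomial hE2 T0_E8 good3_E8.t3 good3_E8.t4 T5_E8 T6_E8 T7_E8
    T8_E8 T9_E8 hodd ht ht2
  have := conjD_of_mem_monomial2 hE2 T0_E8 T6_E8 T8_E8 hcard h2 T9_E8 e8L_lt e8_desc e8_certs hN
    (sq_conj ht2)
  exact ConjD.of_conj hg₁ rfl this

end Cfsg.Agent.Helper8.E8Odd
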