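import Mathlib
import Cfsg.Agent.Helper8.ChevOddI
import Cfsg.Agent.Helper8.E8OddA
import Cfsg.Agent.Helper7.ChevT17

set_option autoImplicit false
set_option linter.unusedSectionVars false
set_option linter.unusedVariables false
set_option maxHeartbeats 4000000
set_option maxRecDepth 1000000

/-!
In `E₈(q)`, `q` odd, the `255` involutions of `H` are conjugate under `N` to one of two of them.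
-/

namespace Cfsg.Agent.Helper8.E8Odd

open Cfsg Cfsg.Lie Matrix Cfsg.Agent.Helper7 Cfsg.Agent.Helper7.Chev Cfsg.Agent.Helper8.G2Odd
  Cfsg.Agent.Helper8.ChevOdd

/-- For every involution of `H`, coded by the binary digits of its place in the list, a word conjugating it
to one of the two representatives, and which one. -/
def e8Fuse : List (List ℕ × Bool) :=
  [([], false),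
   ([2, 3, 4, 5, 6, 7, 1, 3, 4, 5, 6, 2, 3, 4, 5, 1, 3, 4, 2, 3, 0, 2, 1, 3, 4, 5, 6, 7], false),
   ([3, 4, 5, 6, 7, 2, 3, 4, 5, 6, 0, 2, 3, 4, 5, 1, 3, 4, 2, 3, 0, 2, 1, 3, 4, 5, 6, 7], false),
   ([2, 0], true),
   ([3, 4, 5, 6, 7, 1, 3, 4, 5, 6, 0, 2, 3, 4, 5, 1, 3, 4, 2, 3, 0, 2, 1, 3, 4, 5, 6, 7], false),
   ([3, 4, 5, 6, 7, 1, 3, 4, 5, 6, 2, 3, 4, 5, 1, 3, 4, 2, 3, 0, 2, 1, 3, 4, 5, 6, 7], false),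
   ([], true),
   ([0], true),
   ([4, 5, 6, 7, 2, 1, 3, 4, 5, 6, 0, 2, 3, 4, 5, 1, 3, 4, 2, 3, 0, 2, 1, 3, 4, 5, 6, 7], false),
   ([1, 3, 2, 0], true),
   ([4, 5, 6, 7, 2, 3, 4, 5, 6, 0, 2, 3, 4, 5, 1, 3, 4, 2, 3, 0, 2, 1, 3, 4, 5, 6, 7], false),
   ([3, 2, 0], true),
   ([4, 5, 6, 7, 1, 3, 4, 5, 6, 0, 2, 3, 4, 5, 1, 3, 4, 2, 3, 0, 2, 1, 3, 4, 5, 6, 7], false),
   ([4, 5, 6, 7, 1, 3, 4, 5, 6, 2, 3, 4, 5, 1, 3, 4, 2, 3, 0, 2, 1, 3, 4, 5, 6, 7], false),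
   ([4, 5, 6, 7, 3, 4, 5, 6, 0, 2, 3, 4, 5, 1, 3, 4, 2, 3, 0, 2, 1, 3, 4, 5, 6, 7], false),
   ([4, 5, 6, 7, 3, 4, 5, 6, 2, 3, 4, 5, 1, 3, 4, 2, 3, 0, 2, 1, 3, 4, 5, 6, 7], false),
   ([5, 6, 7, 3, 2, 1, 3, 4, 5, 6, 0, 2, 3, 4, 5, 1, 3, 4, 2, 3, 0, 2, 1, 3, 4, 5, 6, 7], false),
   ([3, 4, 1, 3, 2, 0], true),
   ([5, 4, 3, 2, 1, 3, 4, 5, 0, 2, 3, 4, 1, 3, 2, 0], true),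
   ([5, 6, 7, 4, 5, 6, 3, 4, 5, 1, 3, 4, 2, 3, 0, 2, 1, 3, 4, 5, 6, 7], false),
   ([0, 2, 3, 4, 1, 3, 2, 0], true),
   ([2, 3, 4, 1, 3, 2, 0], true),
   ([5, 6, 7, 4, 5, 6, 0, 2, 3, 4, 5, 1, 3, 4, 2, 3, 0, 2, 1, 3, 4, 5, 6, 7], false),
   ([5, 6, 7, 4, 5, 6, 2, 3, 4, 5, 1, 3, 4, 2, 3, 0, 2, 1, 3, 4, 5, 6, 7], false),
   ([5, 6, 7, 2, 1, 3, 4, 5, 6, 0, 2, 3, 4, 5, 1, 3, 4, 2, 3, 0, 2, 1, 3, 4, 5, 6, 7], false),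
   ([4, 1, 3, 2, 0], true),
   ([5, 6, 7, 2, 3, 4, 5, 6, 0, 2, 3, 4, 5, 1, 3, 4, 2, 3, 0, 2, 1, 3, 4, 5, 6, 7], false),
   ([4, 3, 2, 0], true),
   ([5, 6, 7, 1, 3, 4, 5, 6, 0, 2, 3, 4, 5, 1, 3, 4, 2, 3, 0, 2, 1, 3, 4, 5, 6, 7], false),
   ([5, 6, 7, 1, 3, 4, 5, 6, 2, 3, 4, 5, 1, 3, 4, 2, 3, 0, 2, 1, 3, 4, 5, 6, 7], false),
   ([5, 6, 7, 3, 4, 5, 6, 0, 2, 3, 4, 5, 1, 3, 4, 2, 3, 0, 2, 1, 3, 4, 5, 6, 7], false),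
   ([5, 6, 7, 3, 4, 5, 6, 2, 3, 4, 5, 1, 3, 4, 2, 3, 0, 2, 1, 3, 4, 5, 6, 7], false),
   ([6, 7, 4, 3, 2, 1, 3, 4, 5, 6, 0, 2, 3, 4, 5, 1, 3, 4, 2, 3, 0, 2, 1, 3, 4, 5, 6, 7], false),
   ([4, 5, 3, 4, 1, 3, 2, 0], true),
   ([3, 2, 1, 3, 4, 5, 0, 2, 3, 4, 1, 3, 2, 0], true),
   ([6, 7, 5, 6, 3, 4, 5, 1, 3, 4, 2, 3, 0, 2, 1, 3, 4, 5, 6, 7], false),
   ([4, 5, 0, 2, 3, 4, 1, 3, 2, 0], true),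
   ([4, 5, 2, 3, 4, 1, 3, 2, 0], true),
   ([6, 7, 5, 6, 0, 2, 3, 4, 5, 1, 3, 4, 2, 3, 0, 2, 1, 3, 4, 5, 6, 7], false),
   ([6, 7, 5, 6, 2, 3, 4, 5, 1, 3, 4, 2, 3, 0, 2, 1, 3, 4, 5, 6, 7], false),
   ([2, 3, 4, 5, 0, 2, 3, 4, 1, 3, 2, 0], true),
   ([6, 7, 5, 6, 4, 5, 3, 4, 2, 3, 0, 2, 1, 3, 4, 5, 6, 7], false),
   ([2, 1, 3, 4, 5, 0, 2, 3, 4, 1, 3, 2, 0], true),
   ([6, 7, 5, 6, 4, 5, 1, 3, 4, 2, 3, 0, 2, 1, 3, 4, 5, 6, 7], false),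
   ([3, 4, 5, 0, 2, 3, 4, 1, 3, 2, 0], true),
   ([3, 4, 5, 2, 3, 4, 1, 3, 2, 0], true),
   ([1, 3, 4, 5, 0, 2, 3, 4, 1, 3, 2, 0], true),
   ([1, 3, 4, 5, 2, 3, 4, 1, 3, 2, 0], true),
   ([6, 7, 3, 2, 1, 3, 4, 5, 6, 0, 2, 3, 4, 5, 1, 3, 4, 2, 3, 0, 2, 1, 3, 4, 5, 6, 7], false),
   ([5, 3, 4, 1, 3, 2, 0], true),
   ([4, 3, 2, 1, 3, 4, 5, 0, 2, 3, 4, 1, 3, 2, 0], true),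
   ([6, 7, 4, 5, 6, 3, 4, 5, 1, 3, 4, 2, 3, 0, 2, 1, 3, 4, 5, 6, 7], false),
   ([5, 0, 2, 3, 4, 1, 3, 2, 0], true),
   ([5, 2, 3, 4, 1, 3, 2, 0], true),
   ([6, 7, 4, 5, 6, 0, 2, 3, 4, 5, 1, 3, 4, 2, 3, 0, 2, 1, 3, 4, 5, 6, 7], false),
   ([6, 7, 4, 5, 6, 2, 3, 4, 5, 1, 3, 4, 2, 3, 0, 2, 1, 3, 4, 5, 6, 7], false),
   ([6, 7, 2, 1, 3, 4, 5, 6, 0, 2, 3, 4, 5, 1, 3, 4, 2, 3, 0, 2, 1, 3, 4, 5, 6, 7], false),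
   ([5, 4, 1, 3, 2, 0], true),
   ([6, 7, 2, 3, 4, 5, 6, 0, 2, 3, 4, 5, 1, 3, 4, 2, 3, 0, 2, 1, 3, 4, 5, 6, 7], false),
   ([5, 4, 3, 2, 0], true),
   ([6, 7, 1, 3, 4, 5, 6, 0, 2, 3, 4, 5, 1, 3, 4, 2, 3, 0, 2, 1, 3, 4, 5, 6, 7], false),
   ([6, 7, 1, 3, 4, 5, 6, 2, 3, 4, 5, 1, 3, 4, 2, 3, 0, 2, 1, 3, 4, 5, 6, 7], false),
   ([6, 7, 3, 4, 5, 6, 0, 2, 3, 4, 5, 1, 3, 4, 2, 3, 0, 2, 1, 3, 4, 5, 6, 7], false),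
   ([6, 7, 3, 4, 5, 6, 2, 3, 4, 5, 1, 3, 4, 2, 3, 0, 2, 1, 3, 4, 5, 6, 7], false),
   ([7, 5, 4, 3, 2, 1, 3, 4, 5, 6, 0, 2, 3, 4, 5, 1, 3, 4, 2, 3, 0, 2, 1, 3, 4, 5, 6, 7], false),
   ([5, 6, 4, 5, 3, 4, 1, 3, 2, 0], true),
   ([5, 6, 3, 2, 1, 3, 4, 5, 0, 2, 3, 4, 1, 3, 2, 0], true),
   ([7, 6, 3, 4, 5, 1, 3, 4, 2, 3, 0, 2, 1, 3, 4, 5, 6, 7], false),
   ([5, 6, 4, 5, 0, 2, 3, 4, 1, 3, 2, 0], true),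
   ([5, 6, 4, 5, 2, 3, 4, 1, 3, 2, 0], true),
   ([7, 6, 0, 2, 3, 4, 5, 1, 3, 4, 2, 3, 0, 2, 1, 3, 4, 5, 6, 7], false),
   ([7, 6, 2, 3, 4, 5, 1, 3, 4, 2, 3, 0, 2, 1, 3, 4, 5, 6, 7], false),
   ([5, 6, 2, 3, 4, 5, 0, 2, 3, 4, 1, 3, 2, 0], true),
   ([7, 6, 4, 5, 3, 4, 2, 3, 0, 2, 1, 3, 4, 5, 6, 7], false),
   ([5, 6, 2, 1, 3, 4, 5, 0, 2, 3, 4, 1, 3, 2, 0], true),
   ([7, 6, 4, 5, 1, 3, 4, 2, 3, 0, 2, 1, 3, 4, 5, 6, 7], false),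
   ([5, 6, 3, 4, 5, 0, 2, 3, 4, 1, 3, 2, 0], true),
   ([5, 6, 3, 4, 5, 2, 3, 4, 1, 3, 2, 0], true),
   ([5, 6, 1, 3, 4, 5, 0, 2, 3, 4, 1, 3, 2, 0], true),
   ([5, 6, 1, 3, 4, 5, 2, 3, 4, 1, 3, 2, 0], true),
   ([3, 4, 5, 6, 2, 3, 4, 5, 0, 2, 3, 4, 1, 3, 2, 0], true),
   ([7, 6, 5, 4, 2, 3, 0, 2, 1, 3, 4, 5, 6, 7], false),
   ([], false),
   ([2, 3, 4, 5, 6, 1, 3, 4, 5, 2, 3, 4, 1, 3, 2, 0], true),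
   ([7, 6, 5, 4, 3, 2, 1, 3, 4, 5, 6, 7], false),
   ([7, 6, 5, 4, 3, 0, 2, 1, 3, 4, 5, 6, 7], false),
   ([3, 4, 5, 6, 1, 3, 4, 5, 0, 2, 3, 4, 1, 3, 2, 0], true),
   ([3, 4, 5, 6, 1, 3, 4, 5, 2, 3, 4, 1, 3, 2, 0], true),
   ([4, 5, 6, 2, 3, 4, 5, 0, 2, 3, 4, 1, 3, 2, 0], true),
   ([7, 6, 5, 3, 4, 2, 3, 0, 2, 1, 3, 4, 5, 6, 7], false),
   ([4, 5, 6, 2, 1, 3, 4, 5, 0, 2, 3, 4, 1, 3, 2, 0], true),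
   ([7, 6, 5, 1, 3, 4, 2, 3, 0, 2, 1, 3, 4, 5, 6, 7], false),
   ([4, 5, 6, 3, 4, 5, 0, 2, 3, 4, 1, 3, 2, 0], true),
   ([4, 5, 6, 3, 4, 5, 2, 3, 4, 1, 3, 2, 0], true),
   ([4, 5, 6, 1, 3, 4, 5, 0, 2, 3, 4, 1, 3, 2, 0], true),
   ([4, 5, 6, 1, 3, 4, 5, 2, 3, 4, 1, 3, 2, 0], true),
   ([7, 4, 3, 2, 1, 3, 4, 5, 6, 0, 2, 3, 4, 5, 1, 3, 4, 2, 3, 0, 2, 1, 3, 4, 5, 6, 7], false),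
   ([6, 4, 5, 3, 4, 1, 3, 2, 0], true),
   ([6, 3, 2, 1, 3, 4, 5, 0, 2, 3, 4, 1, 3, 2, 0], true),
   ([7, 5, 6, 3, 4, 5, 1, 3, 4, 2, 3, 0, 2, 1, 3, 4, 5, 6, 7], false),
   ([6, 4, 5, 0, 2, 3, 4, 1, 3, 2, 0], true),
   ([6, 4, 5, 2, 3, 4, 1, 3, 2, 0], true),
   ([7, 5, 6, 0, 2, 3, 4, 5, 1, 3, 4, 2, 3, 0, 2, 1, 3, 4, 5, 6, 7], false),
   ([7, 5, 6, 2, 3, 4, 5, 1, 3, 4, 2, 3, 0, 2, 1, 3, 4, 5, 6, 7], false),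
   ([6, 2, 3, 4, 5, 0, 2, 3, 4, 1, 3, 2, 0], true),
   ([7, 5, 6, 4, 5, 3, 4, 2, 3, 0, 2, 1, 3, 4, 5, 6, 7], false),
   ([6, 2, 1, 3, 4, 5, 0, 2, 3, 4, 1, 3, 2, 0], true),
   ([7, 5, 6, 4, 5, 1, 3, 4, 2, 3, 0, 2, 1, 3, 4, 5, 6, 7], false),
   ([6, 3, 4, 5, 0, 2, 3, 4, 1, 3, 2, 0], true),
   ([6, 3, 4, 5, 2, 3, 4, 1, 3, 2, 0], true),
   ([6, 1, 3, 4, 5, 0, 2, 3, 4, 1, 3, 2, 0], true),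
   ([6, 1, 3, 4, 5, 2, 3, 4, 1, 3, 2, 0], true),
   ([7, 3, 2, 1, 3, 4, 5, 6, 0, 2, 3, 4, 5, 1, 3, 4, 2, 3, 0, 2, 1, 3, 4, 5, 6, 7], false),
   ([6, 5, 3, 4, 1, 3, 2, 0], true),
   ([6, 4, 3, 2, 1, 3, 4, 5, 0, 2, 3, 4, 1, 3, 2, 0], true),
   ([7, 4, 5, 6, 3, 4, 5, 1, 3, 4, 2, 3, 0, 2, 1, 3, 4, 5, 6, 7], false),
   ([6, 5, 0, 2, 3, 4, 1, 3, 2, 0], true),
   ([6, 5, 2, 3, 4, 1, 3, 2, 0], true),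
   ([7, 4, 5, 6, 0, 2, 3, 4, 5, 1, 3, 4, 2, 3, 0, 2, 1, 3, 4, 5, 6, 7], false),
   ([7, 4, 5, 6, 2, 3, 4, 5, 1, 3, 4, 2, 3, 0, 2, 1, 3, 4, 5, 6, 7], false),
   ([7, 2, 1, 3, 4, 5, 6, 0, 2, 3, 4, 5, 1, 3, 4, 2, 3, 0, 2, 1, 3, 4, 5, 6, 7], false),
   ([6, 5, 4, 1, 3, 2, 0], true),
   ([7, 2, 3, 4, 5, 6, 0, 2, 3, 4, 5, 1, 3, 4, 2, 3, 0, 2, 1, 3, 4, 5, 6, 7], false),
   ([6, 5, 4, 3, 2, 0], true),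
   ([7, 1, 3, 4, 5, 6, 0, 2, 3, 4, 5, 1, 3, 4, 2, 3, 0, 2, 1, 3, 4, 5, 6, 7], false),
   ([7, 1, 3, 4, 5, 6, 2, 3, 4, 5, 1, 3, 4, 2, 3, 0, 2, 1, 3, 4, 5, 6, 7], false),
   ([7, 3, 4, 5, 6, 0, 2, 3, 4, 5, 1, 3, 4, 2, 3, 0, 2, 1, 3, 4, 5, 6, 7], false),
   ([7, 3, 4, 5, 6, 2, 3, 4, 5, 1, 3, 4, 2, 3, 0, 2, 1, 3, 4, 5, 6, 7], false),
   ([6, 5, 4, 3, 2, 1, 3, 4, 5, 6, 0, 2, 3, 4, 5, 1, 3, 4, 2, 3, 0, 2, 1, 3, 4, 5, 6, 7], false),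
   ([6, 7, 5, 6, 4, 5, 3, 4, 1, 3, 2, 0], true),
   ([6, 7, 5, 6, 3, 2, 1, 3, 4, 5, 0, 2, 3, 4, 1, 3, 2, 0], true),
   ([3, 4, 5, 1, 3, 4, 2, 3, 0, 2, 1, 3, 4, 5, 6, 7], false),
   ([6, 7, 5, 6, 4, 5, 0, 2, 3, 4, 1, 3, 2, 0], true),
   ([6, 7, 5, 6, 4, 5, 2, 3, 4, 1, 3, 2, 0], true),
   ([0, 2, 3, 4, 5, 1, 3, 4, 2, 3, 0, 2, 1, 3, 4, 5, 6, 7], false),
   ([2, 3, 4, 5, 1, 3, 4, 2, 3, 0, 2, 1, 3, 4, 5, 6, 7], false),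
   ([6, 7, 5, 6, 2, 3, 4, 5, 0, 2, 3, 4, 1, 3, 2, 0], true),
   ([4, 5, 3, 4, 2, 3, 0, 2, 1, 3, 4, 5, 6, 7], false),
   ([6, 7, 5, 6, 2, 1, 3, 4, 5, 0, 2, 3, 4, 1, 3, 2, 0], true),
   ([4, 5, 1, 3, 4, 2, 3, 0, 2, 1, 3, 4, 5, 6, 7], false),
   ([6, 7, 5, 6, 3, 4, 5, 0, 2, 3, 4, 1, 3, 2, 0], true),
   ([6, 7, 5, 6, 3, 4, 5, 2, 3, 4, 1, 3, 2, 0], true),
   ([6, 7, 5, 6, 1, 3, 4, 5, 0, 2, 3, 4, 1, 3, 2, 0], true),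
   ([6, 7, 5, 6, 1, 3, 4, 5, 2, 3, 4, 1, 3, 2, 0], true),
   ([6, 7, 3, 4, 5, 6, 2, 3, 4, 5, 0, 2, 3, 4, 1, 3, 2, 0], true),
   ([5, 4, 2, 3, 0, 2, 1, 3, 4, 5, 6, 7], false),
   ([6, 7], false),
   ([6, 7, 2, 3, 4, 5, 6, 1, 3, 4, 5, 2, 3, 4, 1, 3, 2, 0], true),
   ([5, 4, 3, 2, 1, 3, 4, 5, 6, 7], false),
   ([5, 4, 3, 0, 2, 1, 3, 4, 5, 6, 7], false),
   ([6, 7, 3, 4, 5, 6, 1, 3, 4, 5, 0, 2, 3, 4, 1, 3, 2, 0], true),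
   ([6, 7, 3, 4, 5, 6, 1, 3, 4, 5, 2, 3, 4, 1, 3, 2, 0], true),
   ([6, 7, 4, 5, 6, 2, 3, 4, 5, 0, 2, 3, 4, 1, 3, 2, 0], true),
   ([5, 3, 4, 2, 3, 0, 2, 1, 3, 4, 5, 6, 7], false),
   ([6, 7, 4, 5, 6, 2, 1, 3, 4, 5, 0, 2, 3, 4, 1, 3, 2, 0], true),
   ([5, 1, 3, 4, 2, 3, 0, 2, 1, 3, 4, 5, 6, 7], false),
   ([6, 7, 4, 5, 6, 3, 4, 5, 0, 2, 3, 4, 1, 3, 2, 0], true),
   ([6, 7, 4, 5, 6, 3, 4, 5, 2, 3, 4, 1, 3, 2, 0], true),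
   ([6, 7, 4, 5, 6, 1, 3, 4, 5, 0, 2, 3, 4, 1, 3, 2, 0], true),
   ([6, 7, 4, 5, 6, 1, 3, 4, 5, 2, 3, 4, 1, 3, 2, 0], true),
   ([4, 5, 6, 7, 3, 4, 5, 6, 2, 3, 4, 5, 0, 2, 3, 4, 1, 3, 2, 0], true),
   ([2, 3, 0, 2, 1, 3, 4, 5, 6, 7], false),
   ([4, 5, 6, 7], false),
   ([4, 5, 6, 7, 2, 3, 4, 5, 6, 1, 3, 4, 5, 2, 3, 4, 1, 3, 2, 0], true),
   ([3, 2, 1, 3, 4, 5, 6, 7], false),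
   ([3, 0, 2, 1, 3, 4, 5, 6, 7], false),
   ([4, 5, 6, 7, 3, 4, 5, 6, 1, 3, 4, 5, 0, 2, 3, 4, 1, 3, 2, 0], true),
   ([4, 5, 6, 7, 3, 4, 5, 6, 1, 3, 4, 5, 2, 3, 4, 1, 3, 2, 0], true),
   ([1, 3, 4, 5, 6, 7], false),
   ([1, 3, 4, 5, 6, 7, 2, 3, 4, 5, 6, 1, 3, 4, 5, 2, 3, 4, 1, 3, 2, 0], true),
   ([3, 4, 5, 6, 7], false),
   ([3, 4, 5, 6, 7, 2, 3, 4, 5, 6, 1, 3, 4, 5, 2, 3, 4, 1, 3, 2, 0], true),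
   ([2, 1, 3, 4, 5, 6, 7], false),
   ([0, 2, 1, 3, 4, 5, 6, 7], false),
   ([2, 3, 4, 5, 6, 7], false),
   ([0, 2, 3, 4, 5, 6, 7], false),
   ([5, 6, 7, 3, 4, 5, 6, 2, 3, 4, 5, 0, 2, 3, 4, 1, 3, 2, 0], true),
   ([4, 2, 3, 0, 2, 1, 3, 4, 5, 6, 7], false),
   ([5, 6, 7], false),
   ([5, 6, 7, 2, 3, 4, 5, 6, 1, 3, 4, 5, 2, 3, 4, 1, 3, 2, 0], true),
   ([4, 3, 2, 1, 3, 4, 5, 6, 7], false),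
   ([4, 3, 0, 2, 1, 3, 4, 5, 6, 7], false),
   ([5, 6, 7, 3, 4, 5, 6, 1, 3, 4, 5, 0, 2, 3, 4, 1, 3, 2, 0], true),
   ([5, 6, 7, 3, 4, 5, 6, 1, 3, 4, 5, 2, 3, 4, 1, 3, 2, 0], true),
   ([5, 6, 7, 4, 5, 6, 2, 3, 4, 5, 0, 2, 3, 4, 1, 3, 2, 0], true),
   ([3, 4, 2, 3, 0, 2, 1, 3, 4, 5, 6, 7], false),
   ([5, 6, 7, 4, 5, 6, 2, 1, 3, 4, 5, 0, 2, 3, 4, 1, 3, 2, 0], true),
   ([1, 3, 4, 2, 3, 0, 2, 1, 3, 4, 5, 6, 7], false),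
   ([5, 6, 7, 4, 5, 6, 3, 4, 5, 0, 2, 3, 4, 1, 3, 2, 0], true),
   ([5, 6, 7, 4, 5, 6, 3, 4, 5, 2, 3, 4, 1, 3, 2, 0], true),
   ([5, 6, 7, 4, 5, 6, 1, 3, 4, 5, 0, 2, 3, 4, 1, 3, 2, 0], true),
   ([5, 6, 7, 4, 5, 6, 1, 3, 4, 5, 2, 3, 4, 1, 3, 2, 0], true),
   ([5, 4, 3, 2, 1, 3, 4, 5, 6, 0, 2, 3, 4, 5, 1, 3, 4, 2, 3, 0, 2, 1, 3, 4, 5, 6, 7], false),
   ([7, 5, 6, 4, 5, 3, 4, 1, 3, 2, 0], true),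
   ([7, 5, 6, 3, 2, 1, 3, 4, 5, 0, 2, 3, 4, 1, 3, 2, 0], true),
   ([6, 3, 4, 5, 1, 3, 4, 2, 3, 0, 2, 1, 3, 4, 5, 6, 7], false),
   ([7, 5, 6, 4, 5, 0, 2, 3, 4, 1, 3, 2, 0], true),
   ([7, 5, 6, 4, 5, 2, 3, 4, 1, 3, 2, 0], true),
   ([6, 0, 2, 3, 4, 5, 1, 3, 4, 2, 3, 0, 2, 1, 3, 4, 5, 6, 7], false),
   ([6, 2, 3, 4, 5, 1, 3, 4, 2, 3, 0, 2, 1, 3, 4, 5, 6, 7], false),
   ([7, 5, 6, 2, 3, 4, 5, 0, 2, 3, 4, 1, 3, 2, 0], true),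
   ([6, 4, 5, 3, 4, 2, 3, 0, 2, 1, 3, 4, 5, 6, 7], false),
   ([7, 5, 6, 2, 1, 3, 4, 5, 0, 2, 3, 4, 1, 3, 2, 0], true),
   ([6, 4, 5, 1, 3, 4, 2, 3, 0, 2, 1, 3, 4, 5, 6, 7], false),
   ([7, 5, 6, 3, 4, 5, 0, 2, 3, 4, 1, 3, 2, 0], true),
   ([7, 5, 6, 3, 4, 5, 2, 3, 4, 1, 3, 2, 0], true),
   ([7, 5, 6, 1, 3, 4, 5, 0, 2, 3, 4, 1, 3, 2, 0], true),
   ([7, 5, 6, 1, 3, 4, 5, 2, 3, 4, 1, 3, 2, 0], true),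
   ([7, 3, 4, 5, 6, 2, 3, 4, 5, 0, 2, 3, 4, 1, 3, 2, 0], true),
   ([6, 5, 4, 2, 3, 0, 2, 1, 3, 4, 5, 6, 7], false),
   ([7], false),
   ([7, 2, 3, 4, 5, 6, 1, 3, 4, 5, 2, 3, 4, 1, 3, 2, 0], true),
   ([6, 5, 4, 3, 2, 1, 3, 4, 5, 6, 7], false),
   ([6, 5, 4, 3, 0, 2, 1, 3, 4, 5, 6, 7], false),
   ([7, 3, 4, 5, 6, 1, 3, 4, 5, 0, 2, 3, 4, 1, 3, 2, 0], true),
   ([7, 3, 4, 5, 6, 1, 3, 4, 5, 2, 3, 4, 1, 3, 2, 0], true),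
   ([7, 4, 5, 6, 2, 3, 4, 5, 0, 2, 3, 4, 1, 3, 2, 0], true),
   ([6, 5, 3, 4, 2, 3, 0, 2, 1, 3, 4, 5, 6, 7], false),
   ([7, 4, 5, 6, 2, 1, 3, 4, 5, 0, 2, 3, 4, 1, 3, 2, 0], true),
   ([6, 5, 1, 3, 4, 2, 3, 0, 2, 1, 3, 4, 5, 6, 7], false),
   ([7, 4, 5, 6, 3, 4, 5, 0, 2, 3, 4, 1, 3, 2, 0], true),
   ([7, 4, 5, 6, 3, 4, 5, 2, 3, 4, 1, 3, 2, 0], true),
   ([7, 4, 5, 6, 1, 3, 4, 5, 0, 2, 3, 4, 1, 3, 2, 0], true),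
   ([7, 4, 5, 6, 1, 3, 4, 5, 2, 3, 4, 1, 3, 2, 0], true),
   ([4, 3, 2, 1, 3, 4, 5, 6, 0, 2, 3, 4, 5, 1, 3, 4, 2, 3, 0, 2, 1, 3, 4, 5, 6, 7], false),
   ([7, 6, 4, 5, 3, 4, 1, 3, 2, 0], true),
   ([7, 6, 3, 2, 1, 3, 4, 5, 0, 2, 3, 4, 1, 3, 2, 0], true),
   ([5, 6, 3, 4, 5, 1, 3, 4, 2, 3, 0, 2, 1, 3, 4, 5, 6, 7], false),
   ([7, 6, 4, 5, 0, 2, 3, 4, 1, 3, 2, 0], true),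
   ([7, 6, 4, 5, 2, 3, 4, 1, 3, 2, 0], true),
   ([5, 6, 0, 2, 3, 4, 5, 1, 3, 4, 2, 3, 0, 2, 1, 3, 4, 5, 6, 7], false),
   ([5, 6, 2, 3, 4, 5, 1, 3, 4, 2, 3, 0, 2, 1, 3, 4, 5, 6, 7], false),
   ([7, 6, 2, 3, 4, 5, 0, 2, 3, 4, 1, 3, 2, 0], true),
   ([5, 6, 4, 5, 3, 4, 2, 3, 0, 2, 1, 3, 4, 5, 6, 7], false),
   ([7, 6, 2, 1, 3, 4, 5, 0, 2, 3, 4, 1, 3, 2, 0], true),
   ([5, 6, 4, 5, 1, 3, 4, 2, 3, 0, 2, 1, 3, 4, 5, 6, 7], false),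
   ([7, 6, 3, 4, 5, 0, 2, 3, 4, 1, 3, 2, 0], true),
   ([7, 6, 3, 4, 5, 2, 3, 4, 1, 3, 2, 0], true),
   ([7, 6, 1, 3, 4, 5, 0, 2, 3, 4, 1, 3, 2, 0], true),
   ([7, 6, 1, 3, 4, 5, 2, 3, 4, 1, 3, 2, 0], true),
   ([3, 2, 1, 3, 4, 5, 6, 0, 2, 3, 4, 5, 1, 3, 4, 2, 3, 0, 2, 1, 3, 4, 5, 6, 7], false),
   ([7, 6, 5, 3, 4, 1, 3, 2, 0], true),
   ([7, 6, 4, 3, 2, 1, 3, 4, 5, 0, 2, 3, 4, 1, 3, 2, 0], true),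
   ([4, 5, 6, 3, 4, 5, 1, 3, 4, 2, 3, 0, 2, 1, 3, 4, 5, 6, 7], false),
   ([7, 6, 5, 0, 2, 3, 4, 1, 3, 2, 0], true),
   ([7, 6, 5, 2, 3, 4, 1, 3, 2, 0], true),
   ([4, 5, 6, 0, 2, 3, 4, 5, 1, 3, 4, 2, 3, 0, 2, 1, 3, 4, 5, 6, 7], false),
   ([4, 5, 6, 2, 3, 4, 5, 1, 3, 4, 2, 3, 0, 2, 1, 3, 4, 5, 6, 7], false),
   ([2, 1, 3, 4, 5, 6, 0, 2, 3, 4, 5, 1, 3, 4, 2, 3, 0, 2, 1, 3, 4, 5, 6, 7], false),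
   ([7, 6, 5, 4, 1, 3, 2, 0], true),
   ([2, 3, 4, 5, 6, 0, 2, 3, 4, 5, 1, 3, 4, 2, 3, 0, 2, 1, 3, 4, 5, 6, 7], false),
   ([7, 6, 5, 4, 3, 2, 0], true),
   ([1, 3, 4, 5, 6, 0, 2, 3, 4, 5, 1, 3, 4, 2, 3, 0, 2, 1, 3, 4, 5, 6, 7], false),
   ([1, 3, 4, 5, 6, 2, 3, 4, 5, 1, 3, 4, 2, 3, 0, 2, 1, 3, 4, 5, 6, 7], false),
   ([3, 4, 5, 6, 0, 2, 3, 4, 5, 1, 3, 4, 2, 3, 0, 2, 1, 3, 4, 5, 6, 7], false),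
   ([3, 4, 5, 6, 2, 3, 4, 5, 1, 3, 4, 2, 3, 0, 2, 1, 3, 4, 5, 6, 7], false)]

/-- The sets of the roots with odd Cartan integer with the fundamental coroots. -/
def e8PM : List ℕ :=
  [0x2fff800000000fffffbfff81f80000001f81fffdfffff000000001fff40,
   0x783003ffffc00003ff000ffdf7c00003efbff000ffc00003ffffc00c1e0,
   0x780ffc00003ffffc00c00ffdf7c00003efbff003003ffffc00003ff01e0,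
   0xcc183fc00fff003fc180ff061fbc003df860ff0183fc00fff003fc18330,
   0x1860c61f87e07e1f86307e18c30fb81df0c3187e0c61f87e07e1f8630618,
   0x30306331ec79e378cc61e3318618f66f18618cc786331ec79e378cc60c0c,
   0x6018319b36cf36cd98c336630c319db98c30c66cc319b36cf36cd98c1806,
   0xc00c18cde379ec7b3181ecc61863366cc6186337818cde379ec7b3183003]

theorem e8_parMaskOK : fastE8.ParMaskOK e8PM := by decide +kernel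

theorem e8_fuse_fast : ∀ q ∈ e8Fuse.zipIdx, q.2 ≠ 0 → (∀ i ∈ q.1.1, i < 8) ∧
    AllLt 240 fun r => (fastE8.parMask e8PM q.2).testBit (fastWord wR_E8 q.1.1 r) =
      (fastE8.parMask e8PM (if q.1.2 then 6 else 82)).testBit r := by decide +kernel

theorem e8Fuse_length : e8Fuse.length = 256 := by decide

/-- Every involution of `H` has a word conjugating it to one of the two representatives. -/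
theorem e8_fuse (m : ℕ) (hm : m < 256) (hm0 : m ≠ 0) :
    ∃ w : List ℕ, (∀ i ∈ w, i < chevE8.rank) ∧ ∃ b : Bool, ∀ r < chevE8.nroots,
      (tabOf chevE8).parB m ((tabOf chevE8).reflWord w r) =
        (tabOf chevE8).parB (if b then 6 else 82) r := by
  have hlen : m < e8Fuse.length := by rw [e8Fuse_length]; exact hm
  have hmem : (e8Fuse[m], m) ∈ e8Fuse.zipIdx := by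
    rw [List.mem_zipIdx_iff_getElem?]
    simp [hlen]
  obtain ⟨hw, hall⟩ := e8_fuse_fast _ hmem hm0
  refine ⟨e8Fuse[m].1, hw, e8Fuse[m].2, ?_⟩
  intro r hr
  have hr' : r < fastE8.n := hr
  rw [tab_E8]
  obtain ⟨e1, e2⟩ := Tab.reflWord_eq_fastWord wReflfast_E8 e8_fastRefl_lt (T := fastE8) hw hr'
  rw [e1, Tab.parB_eq_testBit fastE8 e8_parMaskOK _ e2, Tab.parB_eq_testBit fastE8 e8_parMaskOK _ hr']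
  exact hall r hr

variable {K : Type*} [Field K]

/-- The two representatives. -/
noncomputable def zS (K : Type*) [Field K] : GL chevE8.Idx K := tSg chevE8 K 6

noncomputable def zT (K : Type*) [Field K] : GL chevE8.Idx K := tSg chevE8 K 82

theorem e8_ker (c : Fin chevE8.rank → Kˣ) (h : torusHom chevE8 K c = 1) : c = 1 := by
  have := torusHom_ker_pow hE1 T17_E8 (n := 1) (by decide) h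
  rwa [pow_one] at this

/-- Every involution of `H` is conjugate under `N` to one of the two representatives. -/
theorem hinv_conj {h : GL chevE8.Idx K} (hh : h ∈ chevE8.diagonalSubgroup K) (hk : h * h = 1)
    (hne : h ≠ 1) :
    ∃ g ∈ chevE8.group K, g * h * g⁻¹ = zS K ∨ g * h * g⁻¹ = zT K := by
  obtain ⟨m, hm, rfl⟩ := exists_tSg hE1 e8_ker hh hk
  have hm0 : m ≠ 0 := by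
    intro h0
    apply hne
    rw [h0]
    exact tSg_zero
  obtain ⟨w, hw, b, hb⟩ := e8_fuse m hm hm0
  refine ⟨(nWordGL hE2 w)⁻¹, inv_mem (monomialSubgroup_le_group hE1 (nWordGL_mem hE2 w)), ?_⟩
  rw [inv_inv, tSg_conj hE2 T0_E8 T8_E8 hw hb]
  cases b
  · right; rfl
  · left; rfl

end Cfsg.Agent.Helper8.E8Odd
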