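import Mathlib
import Cfsg.Agent.Helper8.ChevCosP
import Cfsg.Agent.Helper8.E8OddB
import Cfsg.Agent.Helper8.E8OddK
import Cfsg.Agent.Helper7.ChevSE8s0

set_option autoImplicit false
set_option linter.unusedSectionVars false
set_option linter.unusedVariables false
set_option maxHeartbeats 4000000
set_option maxRecDepth 1000000

/-!
In `E₈(q)`, `q` odd: the sets of roots at which the two representatives of the involutions of `H` have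
value `1`, and the coset representatives preserving them (generated tables).
-/

namespace Cfsg.Agent.Helper8.E8Odd

open Cfsg Cfsg.Lie Matrix Cfsg.Agent.Helper7 Cfsg.Agent.Helper7.Chev Cfsg.Agent.Helper8.G2Odd
  Cfsg.Agent.Helper8.ChevOdd Cfsg.Agent.Helper8.ChevCz Cfsg.Agent.Helper8.ChevCos

/-- The roots at which the first representative has value `-1`. -/
def e8MS : ℕ := 0x3fffffffffffffffc000000000000000000003fffffffffffffffc000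

/-- The roots at which the second representative has value `-1`. -/
def e8MT : ℕ := 0x7ffbf7bb4ed348d221034884104225a442082112c0844b12cb72ddefdffe

theorem e8MS_eq : fastE8.parMask e8PM 6 = e8MS := by decide +kernel

theorem e8MT_eq : fastE8.parMask e8PM 82 = e8MT := by decide +kernel

/-- The roots at which the first representative has value `1`. -/
def pS : ℕ → Bool := fun r => !(e8MS.testBit r)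

/-- The roots at which the second representative has value `1`. -/
def pT : ℕ → Bool := fun r => !(e8MT.testBit r)

theorem parB_S {r : ℕ} (hr : r < 240) : (tabOf chevE8).parB 6 r = e8MS.testBit r := by
  rw [tab_E8, Tab.parB_eq_testBit fastE8 e8_parMaskOK 6 hr, e8MS_eq]

theorem parB_T {r : ℕ} (hr : r < 240) : (tabOf chevE8).parB 82 r = e8MT.testBit r := by
  rw [tab_E8, Tab.parB_eq_testBit fastE8 e8_parMaskOK 82 hr, e8MT_eq]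

theorem closedS_fast : fastE8.ClosedB pS := by decide +kernel

theorem closedT_fast : fastE8.ClosedB pT := by decide +kernel

theorem closedS : (tabOf chevE8).ClosedB pS := tab_E8 ▸ closedS_fast

theorem closedT : (tabOf chevE8).ClosedB pT := tab_E8 ▸ closedT_fast

theorem cntPosS : (tabOf chevE8).cntPos pS = 56 := by decide +kernel

theorem cntPosT : (tabOf chevE8).cntPos pT = 64 := by decide +kernel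

/-! ### The second representative and the parabolic subgroup of type `E₇` -/

theorem pT_refl_fast : ∀ j ∈ sJ_E8_1, ∀ r < 240, pT (fastRefl wR_E8 j r) = pT r := by decide +kernel

theorem pT_refl : ∀ j ∈ sJ_E8_1, ∀ r < chevE8.nroots,
    pT ((tabOf chevE8).refl (chevE8.simple j) r) = pT r := by
  intro j hj r hr
  have hj8 : j < chevE8.rank := by
    have : ∀ j ∈ sJ_E8_1, j < 8 := by decide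
    exact this j hj
  rw [wRefl_E8 j hj8 r hr]
  exact pT_refl_fast j hj r hr

theorem pT_sub : ∀ r < chevE8.nroots, subF sS_E8_0 r = true → pT r = true := by decide +kernel

/-- For every coset representative a root at which the set is not preserved, or `240`. -/
def witT : List ℕ := [240, 0, 0, 0, 0, 0, 0, 0, 0, 0, 0, 0, 0, 0, 0, 0, 0, 0, 0, 0, 0, 0, 0, 14, 0, 0, 0, 14, 0, 0, 0, 14, 0, 0, 0, 14, 0, 0, 14, 0, 14, 0, 0, 0, 14, 14, 0, 0, 0, 14, 14, 14, 0, 0, 14, 0, 14, 14, 0, 14, 0, 14, 14, 14, 0, 14, 0, 14, 14, 14, 0, 14, 14, 0, 14, 14, 14, 0, 0, 14, 14, 14, 14, 14, 0, 14, 14, 14, 14, 14, 14, 0, 14, 14, 14, 14, 14, 14, 0, 14, 14, 14, 14, 14, 14, 0, 14, 14, 14, 14, 14, 14, 0, 14, 14, 14, 14, 14, 14, 14, 0, 14, 14, 14, 14, 14,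 14, 14, 0, 14, 14, 14, 14, 14, 14, 0, 14, 14, 14, 14, 14, 14, 0, 14, 14, 14, 14, 14, 14, 0, 14, 14, 14, 14, 14, 14, 0, 0, 14, 14, 14, 14, 14, 0, 0, 14, 14, 14, 14, 14, 0, 0, 14, 14, 14, 14, 0, 0, 14, 14, 14, 14, 0, 0, 0, 14, 14, 14, 0, 0, 0, 14, 14, 14, 0, 0, 0, 14, 14, 0, 0, 0, 14, 14, 0, 0, 0, 14, 0, 0, 0, 14, 0, 0, 0, 14, 0, 0, 0, 14, 0, 0, 0, 0, 0, 0, 0, 0, 0, 0, 0, 0, 0, 0, 0, 0, 0, 0, 0, 240]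

/-- The coset representatives preserving the set. -/
def keepT : List (List ℕ) := [[], [7, 6, 5, 4, 3, 2, 1, 3, 4, 5, 6, 0, 2, 3, 4, 5, 1, 3, 4, 2, 3, 0, 2, 1, 3, 4, 5, 6, 7, 6, 5, 4, 3, 2, 1, 3, 4, 5, 6, 0, 2, 3, 4, 5, 1, 3, 4, 2, 3, 0, 2, 1, 3, 4, 5, 6, 7]]

theorem witT_ok : witOK chevE8 wR_E8 pT sU_E8_0 witT = true := by decide +kernel

theorem keepT_eq : ((sU_E8_0.zip witT).filter fun p => decide (chevE8.nroots ≤ p.2)).map Prod.fst =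
    keepT := by decide +kernel

theorem cntT_eq : keepT.map (cntMinusF chevE8 wR_E8 pT) = [0, 1] := by decide +kernel

/-! ### The first representative and the parabolic subgroup of type `D₇` -/

theorem pS_refl_fast : ∀ j ∈ e8D7.J', ∀ r < 240, pS (fastRefl wR_E8 j r) = pS r := by decide +kernel

theorem pS_refl : ∀ j ∈ e8D7.J', ∀ r < chevE8.nroots,
    pS ((tabOf chevE8).refl (chevE8.simple j) r) = pS r := by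
  intro j hj r hr
  have hj8 : j < chevE8.rank := by
    have : ∀ j ∈ e8D7.J', j < 8 := by decide
    exact this j hj
  rw [wRefl_E8 j hj8 r hr]
  exact pS_refl_fast j hj r hr

theorem pS_sub : ∀ r < chevE8.nroots, subF e8D7.S r = true → pS r = true := by decide +kernel

/-- For every coset representative a root at which the set is not preserved, or `240`. -/
def witS : List ℕ := [240, 240, 0, 6, 0, 6, 0, 6, 0, 6, 0, 6, 0, 6, 0, 6, 0, 6, 3, 3, 0, 6, 0, 6, 0, 6, 0, 6, 3, 3, 0, 6, 0, 6, 3, 3, 0, 6, 3, 3, 3, 3, 0, 6, 3, 3, 3, 3, 3, 3, 3, 3, 3, 3, 0, 0, 0, 0, 0, 0, 0, 0, 3, 3, 0, 6, 0, 6, 0, 6, 0, 6, 3, 3, 0, 6, 0, 6, 3, 3, 0, 6, 3, 3, 3, 3, 0, 6, 3, 3, 3, 3, 3, 3, 3, 3, 3, 3, 0, 6, 0, 6, 0, 6, 0, 6, 3, 3, 0, 6, 0, 6, 3, 3, 0,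 6, 3, 3, 3, 3, 0, 6, 3, 3, 3, 3, 3, 3, 3, 3, 3, 3, 0, 0, 0, 0, 0, 0, 0, 0, 3, 3, 0, 0, 0, 0, 0, 0, 0, 0, 3, 3, 0, 6, 0, 6, 3, 3, 0, 6, 3, 3, 3, 3, 0, 6, 3, 3, 3, 3, 3, 3, 3, 3, 3, 3, 0, 0, 0, 0, 0, 0, 0, 0, 3, 3, 0, 6, 0, 6, 3, 3, 0, 6, 3, 3, 3, 3, 0, 6, 3, 3, 3, 3, 3, 3, 3, 3, 3, 3, 0, 6, 0, 6, 3, 3, 0, 6, 3, 3, 3, 3, 0, 6, 3, 3, 3, 3, 3, 3, 3, 3, 3, 3, 0, 0, 0, 0, 0, 0, 0, 0, 3, 3, 0, 0, 0, 0, 0, 0, 0, 0, 3, 3, 0, 0, 0, 0, 0, 0, 0, 0, 3, 3, 0, 6, 3, 3, 3, 3, 0, 6, 3, 3, 3, 3, 3, 3, 3, 3, 3, 3, 0, 0, 0, 0, 0, 0, 0, 0, 3, 3, 0, 0, 0, 0, 0, 0, 0, 0, 3, 3, 0, 6, 3, 3, 3, 3, 0, 6, 3, 3, 3, 3, 3, 3, 3, 3, 3, 3, 0, 0, 0, 0, 0, 0, 0, 0, 3, 3, 0, 6, 3, 3, 3, 3, 0, 6, 3, 3, 3, 3, 3, 3, 3, 3, 3, 3, 0, 6, 3, 3, 3, 3, 0, 6, 3, 3, 3, 3,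 3, 3, 3, 3, 3, 3, 0, 0, 0, 0, 0, 0, 0, 0, 3, 3, 0, 0, 0, 0, 0, 0, 0, 0, 3, 3, 0, 0, 0, 0, 0, 0, 0, 0, 3, 3, 0, 0, 0, 0, 0, 0, 0, 0, 3, 3, 3, 3, 0, 6, 3, 3, 3, 3, 3, 3, 3, 3, 3, 3, 0, 0, 0, 0, 0, 0, 0, 0, 3, 3, 0, 0, 0, 0, 0, 0, 0, 0, 3, 3, 0, 0, 0, 0, 0, 0, 0, 0, 3, 3, 3, 3, 0, 6, 3, 3, 3, 3, 3, 3, 3, 3, 3, 3, 0, 0, 0, 0, 0, 0, 0, 0, 3, 3, 0, 0, 0, 0, 0, 0, 0, 0, 3, 3, 3, 3, 0, 6, 3, 3, 3, 3, 3, 3, 3, 3, 3, 3, 0, 0, 0, 0, 0, 0, 0, 0, 3, 3, 3, 3, 0, 6, 3, 3, 3, 3, 3, 3, 3, 3, 3, 3, 3, 3, 0, 6, 3, 3, 3, 3, 3, 3, 3, 3, 3, 3, 0, 6, 0, 0, 0, 0, 0, 0, 0, 0, 3, 3, 0, 0, 0, 0, 0, 0, 0, 0, 3, 3, 0, 0, 0, 0, 0, 0, 0, 0, 3, 3, 0, 0, 0, 0, 0, 0, 0, 0, 3, 3, 0, 0, 0, 0, 0, 0, 0, 0, 3, 3, 0, 6, 3, 3, 3, 3, 3, 3, 3, 3, 3, 3, 0, 0, 0, 0, 0,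 0, 0, 0, 3, 3, 0, 0, 0, 0, 0, 0, 0, 0, 3, 3, 0, 0, 0, 0, 0, 0, 0, 0, 3, 3, 0, 0, 0, 0, 0, 0, 0, 0, 3, 3, 0, 6, 3, 3, 3, 3, 3, 3, 3, 3, 3, 3, 0, 0, 0, 0, 0, 0, 0, 0, 3, 3, 0, 0, 0, 0, 0, 0, 0, 0, 3, 3, 0, 0, 0, 0, 0, 0, 0, 0, 3, 3, 0, 6, 3, 3, 3, 3, 3, 3, 3, 3, 3, 3, 0, 0, 0, 0, 0, 0, 0, 0, 3, 3, 0, 0, 0, 0, 0, 0, 0, 0, 3, 3, 0, 6, 3, 3, 3, 3, 3, 3, 3, 3, 3, 3, 0, 0, 0, 0, 0, 0, 0, 0, 3, 3, 0, 6, 3, 3, 3, 3, 3, 3, 3, 3, 3, 3, 0, 6, 3, 3, 3, 3, 3, 3, 3, 3, 3, 3, 0, 0, 0, 0, 0, 0, 0, 0, 3, 3, 0, 0, 0, 0, 0, 0, 0, 0, 3, 3, 0, 0, 0, 0, 0, 0, 0, 0, 3, 3, 0, 0, 0, 0, 0, 0, 0, 0, 3, 3, 0, 0, 0, 0, 0, 0, 0, 0, 3, 3, 3, 3, 3, 3, 3, 3, 3, 3, 3, 3, 0, 0, 0, 0, 0, 0, 0, 0, 3, 3, 0, 0, 0, 0, 0, 0, 0, 0, 3, 3, 0, 0, 0, 0, 0, 0, 0, 0, 3, 3,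 0, 0, 0, 0, 0, 0, 0, 0, 3, 3, 3, 3, 3, 3, 3, 3, 3, 3, 3, 3, 0, 0, 0, 0, 0, 0, 0, 0, 3, 3, 0, 0, 0, 0, 0, 0, 0, 0, 3, 3, 0, 0, 0, 0, 0, 0, 0, 0, 3, 3, 3, 3, 3, 3, 3, 3, 3, 3, 3, 3, 0, 0, 0, 0, 0, 0, 0, 0, 3, 3, 0, 0, 0, 0, 0, 0, 0, 0, 3, 3, 3, 3, 3, 3, 3, 3, 3, 3, 3, 3, 0, 0, 0, 0, 0, 0, 0, 0, 3, 3, 3, 3, 3, 3, 3, 3, 3, 3, 3, 3, 3, 3, 3, 3, 3, 3, 3, 3, 3, 3, 0, 0, 0, 0, 0, 0, 0, 0, 3, 3, 0, 0, 0, 0, 0, 0, 0, 0, 3, 3, 0, 0, 0, 0, 0, 0, 0, 0, 3, 3, 0, 0, 0, 0, 0, 0, 0, 0, 3, 3, 3, 3, 3, 3, 3, 3, 3, 3, 0, 0, 0, 0, 0, 0, 0, 0, 3, 3, 0, 0, 0, 0, 0, 0, 0, 0, 3, 3, 0, 0, 0, 0, 0, 0, 0, 0, 3, 3, 3, 3, 3, 3, 3, 3, 3, 3, 0, 0, 0, 0, 0, 0, 0, 0, 3, 3, 0, 0, 0, 0, 0, 0, 0, 0, 3, 3, 3, 3, 3, 3, 3, 3, 3, 3, 0, 0, 0, 0, 0, 0, 0, 0, 3, 3, 3,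 3, 3, 3, 3, 3, 3, 3, 3, 3, 3, 3, 3, 3, 3, 3, 0, 0, 0, 0, 0, 0, 0, 0, 3, 3, 0, 0, 0, 0, 0, 0, 0, 0, 3, 3, 0, 0, 0, 0, 0, 0, 0, 0, 3, 3, 3, 3, 3, 3, 3, 3, 0, 0, 0, 0, 0, 0, 0, 0, 3, 3, 0, 0, 0, 0, 0, 0, 0, 0, 3, 3, 3, 3, 3, 3, 3, 3, 0, 0, 0, 0, 0, 0, 0, 0, 3, 3, 3, 3, 3, 3, 3, 3, 3, 3, 3, 3, 3, 3, 0, 0, 0, 0, 0, 0, 0, 0, 3, 3, 0, 0, 0, 0, 0, 0, 0, 0, 3, 3, 3, 3, 3, 3, 0, 0, 0, 0, 0, 0, 0, 0, 3, 3, 3, 3, 3, 3, 3, 3, 3, 3, 0, 0, 0, 0, 0, 0, 0, 0, 3, 3, 3, 3, 3, 3, 0, 0, 1, 1, 0, 1, 0, 1, 0, 1, 0, 0, 1, 1, 0, 1, 0, 1, 0, 1, 0, 1, 0, 0, 1, 1, 0, 1, 0, 1, 0, 1, 0, 0, 1, 1, 0, 1, 0, 1, 0, 1, 0, 0, 1, 1, 0, 1, 0, 1, 0, 1, 0, 0, 1, 1, 0, 1, 0, 1, 0, 1, 0, 0, 1, 1, 0, 1, 0, 1, 0, 1, 0, 1, 0, 1, 0, 1, 0, 1, 0, 1, 0, 1, 0, 1, 0, 0, 1, 1,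 0, 1, 0, 1, 0, 1, 0, 0, 1, 1, 0, 1, 0, 1, 0, 1, 0, 0, 1, 1, 0, 1, 0, 1, 0, 1, 0, 0, 1, 1, 0, 1, 0, 1, 0, 1, 0, 0, 1, 1, 0, 1, 0, 1, 0, 1, 0, 1, 0, 1, 0, 1, 0, 1, 0, 1, 0, 1, 0, 0, 1, 1, 0, 1, 0, 1, 0, 1, 0, 0, 1, 1, 0, 1, 0, 1, 0, 1, 0, 0, 1, 1, 0, 1, 0, 1, 0, 1, 0, 0, 1, 1, 0, 1, 0, 1, 0, 1, 0, 1, 0, 1, 0, 1, 0, 1, 0, 1, 0, 1, 0, 0, 1, 1, 0, 1, 0, 1, 0, 1, 0, 0, 1, 1, 0, 1, 0, 1, 0, 1, 0, 0, 1, 1, 0, 1, 0, 1, 0, 1, 0, 1, 0, 1, 0, 1, 0, 1, 0, 1, 0, 1, 0, 0, 1, 1, 0, 1, 0, 1, 0, 1, 0, 0, 1, 1, 0, 1, 0, 1, 0, 1, 0, 1, 0, 1, 0, 1, 0, 1, 0, 1, 0, 1, 0, 0, 1, 1, 0, 1, 0, 1, 0, 1, 0, 1, 0, 1, 0, 1, 0, 1, 0, 1, 0, 1, 0, 1, 0, 1, 0, 1, 0, 1, 0, 1, 0, 1, 0, 0, 1, 1, 0, 1, 0, 1, 0, 1, 0, 0, 1, 1, 0, 1, 0, 1, 0, 1, 0, 0, 1, 1, 0, 1, 0,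 1, 0, 1, 0, 0, 1, 1, 0, 1, 0, 1, 0, 1, 0, 1, 0, 1, 0, 1, 0, 1, 0, 0, 1, 1, 0, 1, 0, 1, 0, 1, 0, 0, 1, 1, 0, 1, 0, 1, 0, 1, 0, 0, 1, 1, 0, 1, 0, 1, 0, 1, 0, 1, 0, 1, 0, 1, 0, 1, 0, 0, 1, 1, 0, 1, 0, 1, 0, 1, 0, 0, 1, 1, 0, 1, 0, 1, 0, 1, 0, 1, 0, 1, 0, 1, 0, 1, 0, 0, 1, 1, 0, 1, 0, 1, 0, 1, 0, 1, 0, 1, 0, 1, 0, 1, 0, 1, 0, 1, 0, 1, 0, 1, 0, 0, 1, 1, 0, 1, 0, 1, 0, 1, 0, 0, 1, 1, 0, 1, 0, 1, 0, 1, 0, 0, 1, 1, 0, 1, 0, 1, 0, 1, 0, 1, 0, 1, 0, 1, 0, 0, 1, 1, 0, 1, 0, 1, 0, 1, 0, 0, 1, 1, 0, 1, 0, 1, 0, 1, 0, 1, 0, 1, 0, 1, 0, 0, 1, 1, 0, 1, 0, 1, 0, 1, 0, 1, 0, 1, 0, 1, 0, 1, 0, 1, 0, 1, 0, 0, 1, 1, 0, 1, 0, 1, 0, 1, 0, 0, 1, 1, 0, 1, 0, 1, 0, 1, 0, 1, 0, 1, 0, 0, 1, 1, 0, 1, 0, 1, 0, 1, 0, 1, 0, 1, 0, 1, 0, 1, 0, 0, 1, 1, 0, 1,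 0, 1, 0, 1, 0, 1, 0, 1, 0, 0, 1, 1, 0, 1, 0, 1, 0, 1, 0, 0, 1, 1, 0, 1, 0, 1, 0, 1, 0, 0, 1, 1, 0, 1, 0, 1, 0, 1, 0, 1, 0, 1, 0, 1, 0, 0, 1, 1, 0, 1, 0, 1, 0, 1, 0, 0, 1, 1, 0, 1, 0, 1, 0, 1, 0, 1, 0, 1, 0, 1, 0, 0, 1, 1, 0, 1, 0, 1, 0, 1, 0, 1, 0, 1, 0, 1, 0, 1, 0, 1, 0, 1, 0, 0, 1, 1, 0, 1, 0, 1, 0, 1, 0, 0, 1, 1, 0, 1, 0, 1, 0, 1, 0, 1, 0, 1, 0, 0, 1, 1, 0, 1, 0, 1, 0, 1, 0, 1, 0, 1, 0, 1, 0, 1, 0, 0, 1, 1, 0, 1, 0, 1, 0, 1, 0, 1, 0, 1, 0, 0, 1, 1, 0, 1, 0, 1, 0, 1, 0, 0, 1, 1, 0, 1, 0, 1, 0, 1, 0, 1, 0, 1, 0, 0, 1, 1, 0, 1, 0, 1, 0, 1, 0, 1, 0, 1, 0, 1, 0, 1, 0, 0, 1, 1, 0, 1, 0, 1, 0, 1, 0, 1, 0, 1, 0, 0, 1, 1, 0, 1, 0, 1, 0, 1, 0, 1, 0, 1, 0, 0, 1, 1, 0, 1, 0, 1, 0, 1, 0, 0, 1, 1, 0, 1, 0, 1, 0, 1, 0, 1, 0, 1, 0, 0, 1,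 1, 0, 1, 0, 1, 0, 1, 0, 1, 0, 1, 0, 1, 0, 1, 0, 0, 1, 1, 0, 1, 0, 1, 0, 1, 0, 1, 0, 1, 0, 0, 1, 1, 0, 1, 0, 1, 0, 1, 0, 1, 0, 1, 0, 0, 1, 1, 0, 1, 0, 1, 0, 1, 0, 1, 0, 1, 0, 0, 1, 1, 0, 1, 0, 1, 0, 1, 0, 1, 0, 1, 240, 240, 240, 240, 240, 240, 240, 240, 240, 240, 240, 240, 240, 240]

/-- The places of the coset representatives preserving the set. -/
def keepS : List ℕ := [0, 1, 2146, 2147, 2148, 2149, 2150, 2151, 2152, 2153, 2154, 2155, 2156, 2157, 2158, 2159]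

theorem witS_ok : e8D7.witOKK chevE8 pS witS = true := by decide +kernel

theorem keepS_eq : (((List.range e8D7.N).zip witS).filter fun q => decide (chevE8.nroots ≤ q.2)).map
    Prod.fst = keepS := by decide +kernel

theorem cntS_eq : keepS.map (e8D7.cntK chevE8 pS) = [0, 14, 7, 6, 8, 7, 5, 9, 4, 10, 3, 11, 2, 12, 1, 13] := by decide +kernel

end Cfsg.Agent.Helper8.E8Odd
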