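import Mathlib
import Cfsg.Agent.Helper7.ChevSE8

set_option autoImplicit false
set_option maxRecDepth 1000000
set_option maxHeartbeats 4000000

/-! Two steps `D₇ ⊃ D₆ ⊃ D₅` of a chain of parabolic subgroups of the Weyl group of type `E₈` (generated). -/

namespace Cfsg.Agent.Helper8.E8Odd

open Cfsg Cfsg.Lie Cfsg.Agent.Helper7 Cfsg.Agent.Helper7.Chev

def sS_E8_A : ℕ := 0xb77befbdda5bbdf7deed00000000000000000000
def sJ_E8_A : List ℕ := [1, 2, 3, 4, 5, 6, 7]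
def sU_E8_A : List (List ℕ) := [[], [7], [6, 7], [5, 6, 7], [4, 5, 6, 7], [3, 4, 5, 6, 7], [1, 3, 4, 5, 6, 7], [2, 3, 4, 5, 6, 7], [2, 1, 3, 4, 5, 6, 7], [3, 2, 1, 3, 4, 5, 6, 7], [4, 3, 2, 1, 3, 4, 5, 6, 7], [5, 4, 3, 2, 1, 3, 4, 5, 6, 7], [6, 5, 4, 3, 2, 1, 3, 4, 5, 6, 7], [7, 6, 5, 4, 3, 2, 1, 3, 4, 5, 6, 7]]
def sN_E8_A : List (List ℕ) := [[3, 5, 7, 9, 11, 13, 2], [3, 5, 7, 9, 11, 4, 0], [3, 5, 7, 9, 6, 2, 13], [3, 5, 7, 8, 4, 11, 13], [3, 5, 10, 6, 9, 11, 13], [12, 14, 8, 7, 9, 11, 13], [10, 16, 3, 7, 9, 11, 13], [16, 10, 5, 7, 9, 11, 13], [14, 12, 18, 7, 9, 11, 13], [5, 3, 16, 20, 9, 11, 13], [5, 3, 7, 18, 22, 11, 13], [5, 3, 7, 9, 20, 24, 13], [5, 3, 7, 9, 11, 22, 26], [5, 3, 7, 9, 11, 13, 24]]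
def sC_E8_A : List ℕ := [1, 1, 1, 1, 1, 1, 2, 1, 1, 1, 1, 1, 1]
def sK_E8_A : List ℕ := [8681105540019359138, 8609329420958141858, 8464652382440492450, 8248476306086792610, 7960245912771988898, 7599957942498528930, 6735266814044111522, 7167612378270569379, 6374978843854145699, 6086748467786254244, 5870575702835562405, 5726463808999622566, 5654968065403488167, 5654686590426777512]

def sS_E8_B : ℕ := 0x1339e79cc81339e79cc800000000000000000000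
def sJ_E8_B : List ℕ := [1, 2, 3, 4, 5, 6]
def sU_E8_B : List (List ℕ) := [[], [6], [5, 6], [4, 5, 6], [3, 4, 5, 6], [1, 3, 4, 5, 6], [2, 3, 4, 5, 6], [2, 1, 3, 4, 5, 6], [3, 2, 1, 3, 4, 5, 6], [4, 3, 2, 1, 3, 4, 5, 6], [5, 4, 3, 2, 1, 3, 4, 5, 6], [6, 5, 4, 3, 2, 1, 3, 4, 5, 6]]
def sN_E8_B : List (List ℕ) := [[3, 5, 7, 9, 11, 2], [3, 5, 7, 9, 4, 0], [3, 5, 7, 6, 2, 11], [3, 5, 8, 4, 9, 11], [10, 12, 6, 7, 9, 11], [8, 14, 3, 7, 9, 11], [14, 8, 5, 7, 9, 11], [12, 10, 16, 7, 9, 11], [5, 3, 14, 18, 9, 11], [5, 3, 7, 16, 20, 11], [5, 3, 7, 9, 18, 22], [5, 3, 7, 9, 11, 20]]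
def sC_E8_B : List ℕ := [1, 1, 1, 1, 1, 2, 1, 1, 1, 1, 1]
def sK_E8_B : List ℕ := [8681105540019359138, 8824377402676710818, 9039702465620446626, 9326806924702223778, 9685687519924489890, 10547000948659815074, 10116344234291401635, 10905881543965575331, 11192986020294264740, 11408314394641008549, 11551869927003359142, 11623926421529659303]

theorem sCert_E8_A : StepCert chevE8 wR_E8 sS_E8_A sJ_E8_A sJ_E8_B sU_E8_A sN_E8_A sK_E8_A := by
  decide +kernel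

theorem sCount_E8_A : sU_E8_A.map (nMinusF chevE8 wR_E8) =
    (List.range 13).flatMap (fun k => List.replicate (sC_E8_A.getD k 0) k) := by decide +kernel

theorem sCert_E8_B : StepCert chevE8 wR_E8 sS_E8_B sJ_E8_B sJ_E8_3 sU_E8_B sN_E8_B sK_E8_B := by
  decide +kernel

theorem sCount_E8_B : sU_E8_B.map (nMinusF chevE8 wR_E8) =
    (List.range 11).flatMap (fun k => List.replicate (sC_E8_B.getD k 0) k) := by decide +kernel

end Cfsg.Agent.Helper8.E8Odd
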