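import Mathlib
import Cfsg.Agent.Helper8.E8OddC
import Cfsg.Agent.Helper8.E8OddL
import Cfsg.Agent.Helper7.ChevSE8s1
import Cfsg.Agent.Helper7.ChevSE8s2
import Cfsg.Agent.Helper7.ChevSE8s3
import Cfsg.Agent.Helper7.ChevSE8s4
import Cfsg.Agent.Helper7.ChevSE8s5
import Cfsg.Agent.Helper7.ChevSE8s6
import Cfsg.Agent.Helper7.ChevSE8s7

set_option autoImplicit false
set_option linter.unusedSectionVars false
set_option linter.unusedVariables false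
set_option maxHeartbeats 4000000
set_option maxRecDepth 1000000

/-!
In `E₈(q)`, `q` odd: the orders of the centralizers of the two representatives of the involutions.
-/

namespace Cfsg.Agent.Helper8.E8Odd

open Cfsg Cfsg.Lie Matrix Cfsg.Agent.Helper7 Cfsg.Agent.Helper7.Chev Cfsg.Agent.Helper8.G2Odd
  Cfsg.Agent.Helper8.ChevOdd Cfsg.Agent.Helper8.ChevCz Cfsg.Agent.Helper8.ChevCos
  Cfsg.Agent.Helper8.G2Cz

variable {K : Type*} [Field K]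

theorem hP_S (h2 : (2 : K) ≠ 0) : ∀ r < chevE8.nroots,
    (tE chevE8 (extc chevE8.rank (sgv chevE8 K 6)) r = 1 ↔ pS r = true) := by
  intro r hr
  rw [tE_sgv_eq_one_iff h2, parB_S hr]
  rfl

theorem hP_T (h2 : (2 : K) ≠ 0) : ∀ r < chevE8.nroots,
    (tE chevE8 (extc chevE8.rank (sgv chevE8 K 82)) r = 1 ↔ pT r = true) := by
  intro r hr
  rw [tE_sgv_eq_one_iff h2, parB_T hr]
  rfl

theorem card_diagonal_E8 [Fintype K] :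
    Nat.card (chevE8.diagonalSubgroup K) = (Fintype.card K - 1) ^ 8 := by
  have hH := card_diagonal_mul (F := K) hE1 T17_E8
  have hH' : (List.map (fun i => (Fintype.card K - 1).gcd (t17d_E8 i)) (List.range 8)).prod *
      Nat.card ↥(chevE8.diagonalSubgroup K) = (Fintype.card K - 1) ^ 8 := hH
  simp [List.range_succ, t17d_E8] at hH'
  exact hH'

/-- The Poincaré polynomial of the parabolic subgroup of type `D₅`. -/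
theorem PS_D5 (q : ℕ) : PS chevE8 sJ_E8_3 q =
    (1 * q ^ 0 + (1 * q ^ 1 + (1 * q ^ 2 + (1 * q ^ 3 + (2 * q ^ 4 + (1 * q ^ 5 + (1 * q ^ 6 + (1 * q ^ 7 + (1 * q ^ 8 + 0))))))))) * ((1 * q ^ 0 + (1 * q ^ 1 + (1 * q ^ 2 + (2 * q ^ 3 + (1 * q ^ 4 + (1 * q ^ 5 + (1 * q ^ 6 + 0))))))) * ((1 * q ^ 0 + (1 * q ^ 1 + (1 * q ^ 2 + (1 * q ^ 3 + 0)))) * ((1 * q ^ 0 + (1 * q ^ 1 + (1 * q ^ 2 + 0))) * (1 * q ^ 0 + (1 * q ^ 1 + 0))))) := by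
  have s3 := PS_step_cert hE2 T0_E8 T6_E8 T8_E8 T9_E8 wRefl_E8 sCert_E8_3 sCount_E8_3 q
  have s4 := PS_step_cert hE2 T0_E8 T6_E8 T8_E8 T9_E8 wRefl_E8 sCert_E8_4 sCount_E8_4 q
  have s5 := PS_step_cert hE2 T0_E8 T6_E8 T8_E8 T9_E8 wRefl_E8 sCert_E8_5 sCount_E8_5 q
  have s6 := PS_step_cert hE2 T0_E8 T6_E8 T8_E8 T9_E8 wRefl_E8 sCert_E8_6 sCount_E8_6 q
  have s7 := PS_step_cert hE2 T0_E8 T6_E8 T8_E8 T9_E8 wRefl_E8 sCert_E8_7 sCount_E8_7 q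
  have hnil : PS chevE8 sJ_E8_8 q = 1 := PS_nil hE2 q
  have hsum3 : (List.map (fun k => sC_E8_3.getD k 0 * q ^ k) (List.range 9)).sum =
      (1 * q ^ 0 + (1 * q ^ 1 + (1 * q ^ 2 + (1 * q ^ 3 + (2 * q ^ 4 + (1 * q ^ 5 + (1 * q ^ 6 + (1 * q ^ 7 + (1 * q ^ 8 + 0))))))))) := rfl
  have hsum4 : (List.map (fun k => sC_E8_4.getD k 0 * q ^ k) (List.range 7)).sum =
      (1 * q ^ 0 + (1 * q ^ 1 + (1 * q ^ 2 + (2 * q ^ 3 + (1 * q ^ 4 + (1 * q ^ 5 + (1 * q ^ 6 + 0))))))) := rfl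
  have hsum5 : (List.map (fun k => sC_E8_5.getD k 0 * q ^ k) (List.range 4)).sum =
      (1 * q ^ 0 + (1 * q ^ 1 + (1 * q ^ 2 + (1 * q ^ 3 + 0)))) := rfl
  have hsum6 : (List.map (fun k => sC_E8_6.getD k 0 * q ^ k) (List.range 3)).sum =
      (1 * q ^ 0 + (1 * q ^ 1 + (1 * q ^ 2 + 0))) := rfl
  have hsum7 : (List.map (fun k => sC_E8_7.getD k 0 * q ^ k) (List.range 2)).sum =
      (1 * q ^ 0 + (1 * q ^ 1 + 0)) := rfl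
  rw [s3, s4, s5, s6, s7, hnil, hsum3, hsum4, hsum5, hsum6, hsum7, mul_one]

/-- The Poincaré polynomial of the parabolic subgroup of type `E₇`. -/
theorem PS_E7 (q : ℕ) : PS chevE8 sJ_E8_1 q =
    (1 * q ^ 0 + (1 * q ^ 1 + (1 * q ^ 2 + (1 * q ^ 3 + (1 * q ^ 4 + (2 * q ^ 5 + (2 * q ^ 6 + (2 * q ^ 7 + (2 * q ^ 8 + (3 * q ^ 9 + (3 * q ^ 10 + (3 * q ^ 11 + (3 * q ^ 12 + (3 * q ^ 13 + (3 * q ^ 14 + (3 * q ^ 15 + (3 * q ^ 16 + (3 * q ^ 17 + (3 * q ^ 18 + (2 * q ^ 19 + (2 * q ^ 20 + (2 * q ^ 21 + (2 * q ^ 22 + (1 * q ^ 23 + (1 * q ^ 24 + (1 * q ^ 25 + (1 * q ^ 26 + (1 * q ^ 27 + 0)))))))))))))))))))))))))))) * ((1 * q ^ 0 + (1 * q ^ 1 + (1 * q ^ 2 + (1 * q ^ 3 + (2 * q ^ 4 + (2 * q ^ 5 + (2 * q ^ 6 + (2 * q ^ 7 + (3 * q ^ 8 + (2 * q ^ 9 + (2 * q ^ 10 + (2 * q ^ 11 + (2 * q ^ 12 + (1 * q ^ 13 + (1 * q ^ 14 + (1 * q ^ 15 + (1 * q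 ^ 16 + 0))))))))))))))))) * PS chevE8 sJ_E8_3 q) := by
  have s1 := PS_step_cert hE2 T0_E8 T6_E8 T8_E8 T9_E8 wRefl_E8 sCert_E8_1 sCount_E8_1 q
  have s2 := PS_step_cert hE2 T0_E8 T6_E8 T8_E8 T9_E8 wRefl_E8 sCert_E8_2 sCount_E8_2 q
  have hsum1 : (List.map (fun k => sC_E8_1.getD k 0 * q ^ k) (List.range 28)).sum =
      (1 * q ^ 0 + (1 * q ^ 1 + (1 * q ^ 2 + (1 * q ^ 3 + (1 * q ^ 4 + (2 * q ^ 5 + (2 * q ^ 6 + (2 * q ^ 7 + (2 * q ^ 8 + (3 * q ^ 9 + (3 * q ^ 10 + (3 * q ^ 11 + (3 * q ^ 12 + (3 * q ^ 13 + (3 * q ^ 14 + (3 * q ^ 15 + (3 * q ^ 16 + (3 * q ^ 17 + (3 * q ^ 18 + (2 * q ^ 19 + (2 * q ^ 20 + (2 * q ^ 21 + (2 * q ^ 22 + (1 * q ^ 23 + (1 * q ^ 24 + (1 * q ^ 25 + (1 * q ^ 26 + (1 * q ^ 27 + 0)))))))))))))))))))))))))))) := rfl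
  have hsum2 : (List.map (fun k => sC_E8_2.getD k 0 * q ^ k) (List.range 17)).sum =
      (1 * q ^ 0 + (1 * q ^ 1 + (1 * q ^ 2 + (1 * q ^ 3 + (2 * q ^ 4 + (2 * q ^ 5 + (2 * q ^ 6 + (2 * q ^ 7 + (3 * q ^ 8 + (2 * q ^ 9 + (2 * q ^ 10 + (2 * q ^ 11 + (2 * q ^ 12 + (1 * q ^ 13 + (1 * q ^ 14 + (1 * q ^ 15 + (1 * q ^ 16 + 0))))))))))))))))) := rfl
  rw [s1, s2, hsum1, hsum2]

/-- The Poincaré polynomial of the parabolic subgroup of type `D₇`. -/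
theorem PS_D7 (q : ℕ) : PS chevE8 sJ_E8_A q =
    (1 * q ^ 0 + (1 * q ^ 1 + (1 * q ^ 2 + (1 * q ^ 3 + (1 * q ^ 4 + (1 * q ^ 5 + (2 * q ^ 6 + (1 * q ^ 7 + (1 * q ^ 8 + (1 * q ^ 9 + (1 * q ^ 10 + (1 * q ^ 11 + (1 * q ^ 12 + 0))))))))))))) * ((1 * q ^ 0 + (1 * q ^ 1 + (1 * q ^ 2 + (1 * q ^ 3 + (1 * q ^ 4 + (2 * q ^ 5 + (1 * q ^ 6 + (1 * q ^ 7 + (1 * q ^ 8 + (1 * q ^ 9 + (1 * q ^ 10 + 0))))))))))) * PS chevE8 sJ_E8_3 q) := by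
  have sA := PS_step_cert hE2 T0_E8 T6_E8 T8_E8 T9_E8 wRefl_E8 sCert_E8_A sCount_E8_A q
  have sB := PS_step_cert hE2 T0_E8 T6_E8 T8_E8 T9_E8 wRefl_E8 sCert_E8_B sCount_E8_B q
  have hsumA : (List.map (fun k => sC_E8_A.getD k 0 * q ^ k) (List.range 13)).sum =
      (1 * q ^ 0 + (1 * q ^ 1 + (1 * q ^ 2 + (1 * q ^ 3 + (1 * q ^ 4 + (1 * q ^ 5 + (2 * q ^ 6 + (1 * q ^ 7 + (1 * q ^ 8 + (1 * q ^ 9 + (1 * q ^ 10 + (1 * q ^ 11 + (1 * q ^ 12 + 0))))))))))))) := rfl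
  have hsumB : (List.map (fun k => sC_E8_B.getD k 0 * q ^ k) (List.range 11)).sum =
      (1 * q ^ 0 + (1 * q ^ 1 + (1 * q ^ 2 + (1 * q ^ 3 + (1 * q ^ 4 + (2 * q ^ 5 + (1 * q ^ 6 + (1 * q ^ 7 + (1 * q ^ 8 + (1 * q ^ 9 + (1 * q ^ 10 + 0))))))))))) := rfl
  rw [sA, sB, hsumA, hsumB]

section count

variable [Fintype K]

/-- The order of the centralizer of the second representative, before the arithmetic. -/
theorem card_CzSet_zT_aux (h2 : (2 : K) ≠ 0) :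
    Nat.card (CzSet chevE8 (zT K)) = Fintype.card K ^ 64 * (Fintype.card K - 1) ^ 8 *
      ((([0, 1].map fun k => Fintype.card K ^ k).sum) * PS chevE8 sJ_E8_1 (Fintype.card K)) := by
  have hS := stepOK_of_cert hE2 T0_E8 T6_E8 T8_E8 T9_E8 wRefl_E8 sCert_E8_0
  have hU : ∀ u ∈ sU_E8_0, ∀ i ∈ u, i < chevE8.rank :=
    fun u hu i hi => hS.ltJ i (hS.words u hu i hi)
  have h := card_CzSet_step (F := K) hE2 T0_E8 good3_E8.t3 good3_E8.t4 T5_E8 T6_E8 T7_E8 T7n_E8 T8_E8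
    T9_E8 (tSg_mem_diagonal hE1 82) (sgv_ne_zero 82) (tSg_coe 82) (hP_T h2)
    (fun r _ => tE_sgv_pm 82 r) h2 closedT hS pT_refl pT_sub (by decide)
  rw [sum_filter_commB hE2 wRefl_E8 hU (by decide) witT_ok keepT_eq cntT_eq, cntPosT,
    card_diagonal_E8] at h
  exact h

/-- The order of the centralizer of the first representative, before the arithmetic. -/
theorem card_CzSet_zS_aux (h2 : (2 : K) ≠ 0) :
    Nat.card (CzSet chevE8 (zS K)) = Fintype.card K ^ 56 * (Fintype.card K - 1) ^ 8 *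
      ((([0, 14, 7, 6, 8, 7, 5, 9, 4, 10, 3, 11, 2, 12, 1, 13].map fun k => Fintype.card K ^ k).sum) * PS chevE8 sJ_E8_A (Fintype.card K)) := by
  have h := card_CzSet_step (F := K) hE2 T0_E8 good3_E8.t3 good3_E8.t4 T5_E8 T6_E8 T7_E8 T7n_E8 T8_E8
    T9_E8 (tSg_mem_diagonal hE1 6) (sgv_ne_zero 6) (tSg_coe 6) (hP_S h2)
    (fun r _ => tE_sgv_pm 6 r) h2 closedS e8D7_stepOK pS_refl pS_sub (by decide)
  rw [sum_filter_commB_cos hE2 T0_E8 (C := e8D7) wRefl_E8 (by decide) e8_neg_eq (by decide)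
    e8D7_rootkey e8D7_node (by decide) witS_ok keepS_eq cntS_eq, cntPosS, card_diagonal_E8] at h
  exact h

end count

end Cfsg.Agent.Helper8.E8Odd
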