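import Mathlib
import Cfsg.Agent.Helper8.ChevCzC
import Cfsg.Agent.Helper7.ChevF4f

set_option autoImplicit false

/-!
Type `F₄`: table facts for the centralizers of the torus elements `h_{p₁}(-1)` and `h_{p₄}(-1)`, checked
on the fast tables.
-/

namespace Cfsg.Agent.Helper7.Chev.Tab

variable (T : Tab)

/-- The sign at the root `r` of the torus element of type `F₄` with signs `a, b, c, d`. -/
def sgnRoot (a b c d : Bool) (r : ℕ) : Bool :=
  xor (xor (xor (a && decide (T.cartan 0 r % 2 = 1)) (b && decide (T.cartan 1 r % 2 = 1)))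
    (c && decide (T.cartan 2 r % 2 = 1))) (d && decide (T.cartan 3 r % 2 = 1))

/-- The roots at which the torus element with signs `a, b, c, d` has the value `1`. -/
def P4 (a b c d : Bool) : ℕ → Bool := fun r => !(T.sgnRoot a b c d r)

end Cfsg.Agent.Helper7.Chev.Tab

namespace Cfsg.Agent.Helper8.F4Cz

open Cfsg Cfsg.Lie Cfsg.Agent.Helper7 Cfsg.Agent.Helper7.Chev

/-- The numbers of roots of the centralizer made negative by the words commuting with `h_{p₁}(-1)`. -/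
def mListS : List ℕ := [0, 1, 1, 1, 2, 2, 2, 2, 3, 3, 1, 3, 2, 4, 2, 2, 2, 2, 3, 3, 3, 3, 3, 3, 3, 3, 3, 3, 3, 3, 4, 4, 4, 4, 4, 4, 4, 4, 4, 4, 4, 4, 4, 4, 4, 4, 4, 4, 5, 5, 5, 5, 5, 5, 5, 5, 5, 5, 3, 5, 5, 5, 5, 5, 5, 5, 5, 4, 6, 6, 6, 6, 6, 6, 6, 6, 4, 4, 4, 4, 6, 6, 6, 6, 5, 5, 5, 5, 7, 7, 7, 7, 5, 5, 5, 5, 5, 5, 5, 5, 5, 5, 7, 6, 6, 6, 6, 6, 6, 6, 6, 6, 6, 8, 6, 6, 6, 6, 6, 6, 6, 6, 6, 6, 6, 6, 6, 6, 6, 6, 6, 7, 7, 7, 7, 7, 7, 7, 7, 7, 7, 7, 7, 7, 7, 7, 7, 7, 7, 7, 7, 7, 7, 7, 7, 7, 7, 7, 7, 7, 7, 7, 7, 7, 7, 7, 7, 7, 7, 7, 8, 8, 8, 8, 8, 8, 8, 8, 8, 8, 8, 8, 8, 8, 8, 8, 8, 8, 8, 8, 8, 8, 8, 8, 8, 8, 8, 8, 8, 8, 8, 8, 8, 8, 8, 8, 8, 8, 8, 8, 8, 8, 8, 8, 9, 9, 9, 9, 9, 9, 9, 9, 9, 9, 9, 9, 9, 9, 9, 9, 9, 9, 9, 9, 9, 9, 9, 9, 9, 9, 9, 9, 9, 9, 9, 9, 9, 9, 9, 9, 9, 9, 9, 10, 10, 10, 10, 10, 10, 10, 10, 10, 10, 10, 10, 10, 10, 10, 10, 10, 8, 10, 10, 10, 10, 10, 10, 10, 10, 10, 10, 9, 11,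 11, 11, 11, 11, 11, 11, 11, 11, 11, 9, 9, 9, 9, 11, 11, 11, 11, 10, 10, 10, 10, 12, 12, 12, 12, 10, 10, 10, 10, 10, 10, 10, 10, 12, 11, 11, 11, 11, 11, 11, 11, 11, 13, 11, 11, 11, 11, 11, 11, 11, 11, 11, 11, 12, 12, 12, 12, 12, 12, 12, 12, 12, 12, 12, 12, 12, 12, 12, 12, 12, 12, 13, 13, 13, 13, 13, 13, 13, 13, 13, 13, 13, 13, 14, 14, 14, 14, 12, 14, 13, 15, 13, 13, 14, 14, 14, 14, 15, 15, 15, 16]

/-- The numbers of roots of the centralizer made negative by the words commuting with `h_{p₄}(-1)`. -/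
def mListT : List ℕ := [0, 1, 1, 1, 2, 2, 2, 2, 3, 3, 3, 4, 1, 2, 2, 2, 2, 3, 3, 3, 3, 3, 3, 3, 3, 4, 4, 4, 4, 4, 4, 4, 4, 4, 4, 5, 5, 5, 5, 5, 5, 5, 5, 3, 6, 6, 6, 4, 6, 4, 4, 4, 7, 5, 5, 5, 5, 5, 5, 5, 5, 6, 6, 6, 6, 6, 6, 6, 6, 6, 6, 7, 7, 7, 7, 7, 7, 7, 7, 8, 8, 8, 8, 9, 6, 7, 7, 7, 8, 8, 8, 8, 9, 9, 9, 10]

theorem closedS_fast : fastF4.ClosedB (fastF4.P4 true false false false) := by decide +kernel

theorem closedT_fast : fastF4.ClosedB (fastF4.P4 false false false true) := by decide +kernel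

theorem cntPosS_fast : fastF4.cntPos (fastF4.P4 true false false false) = 16 := by decide +kernel

theorem cntPosT_fast : fastF4.cntPos (fastF4.P4 false false false true) = 10 := by decide +kernel

set_option maxRecDepth 1000000 in
theorem mListS_fast : (wL_F4.filter (fastF4.commB (fastF4.P4 true false false false))).map
    (fastF4.cntMinus (fastF4.P4 true false false false)) = mListS := by decide +kernel

set_option maxRecDepth 1000000 in
theorem mListT_fast : (wL_F4.filter (fastF4.commB (fastF4.P4 false false false true))).map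
    (fastF4.cntMinus (fastF4.P4 false false false true)) = mListT := by decide +kernel

theorem closedS : (tabOf chevF4).ClosedB ((tabOf chevF4).P4 true false false false) :=
  tab_F4 ▸ closedS_fast

theorem closedT : (tabOf chevF4).ClosedB ((tabOf chevF4).P4 false false false true) :=
  tab_F4 ▸ closedT_fast

theorem cntPosS : (tabOf chevF4).cntPos ((tabOf chevF4).P4 true false false false) = 16 :=
  tab_F4 ▸ cntPosS_fast

theorem cntPosT : (tabOf chevF4).cntPos ((tabOf chevF4).P4 false false false true) = 10 :=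
  tab_F4 ▸ cntPosT_fast

theorem mListS_eq :
    (wL_F4.filter ((tabOf chevF4).commB ((tabOf chevF4).P4 true false false false))).map
      ((tabOf chevF4).cntMinus ((tabOf chevF4).P4 true false false false)) = mListS :=
  tab_F4 ▸ mListS_fast

theorem mListT_eq :
    (wL_F4.filter ((tabOf chevF4).commB ((tabOf chevF4).P4 false false false true))).map
      ((tabOf chevF4).cntMinus ((tabOf chevF4).P4 false false false true)) = mListT :=
  tab_F4 ▸ mListT_fast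

end Cfsg.Agent.Helper8.F4Cz
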