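import Mathlib
import Cfsg.Agent.Helper8.F4CzT
import Cfsg.Agent.Helper8.F4OddB
import Cfsg.Agent.Helper7.ChevT17

set_option autoImplicit false
set_option linter.unusedSectionVars false
set_option linter.unusedVariables false

/-!
In `F₄(q)`, `q` odd: the orders of the centralizers of `h_{p₁}(-1)` and `h_{p₄}(-1)`.
-/

namespace Cfsg.Agent.Helper8.F4Cz

open Cfsg Cfsg.Lie Matrix Cfsg.Agent.Helper7 Cfsg.Agent.Helper7.Chev Cfsg.Agent.Helper8.G2Odd
  Cfsg.Agent.Helper8.ChevOdd Cfsg.Agent.Helper8.ChevCz Cfsg.Agent.Helper8.F4Odd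

variable {K : Type*} [Field K]

/-- The parameters of the torus element with signs. -/
noncomputable def cS (K : Type*) [Field K] (a b c d : Bool) : ℕ → K :=
  extc chevF4.rank (f4c (sg K a) (sg K b) (sg K c) (sg K d))

theorem tS_coe (a b c d : Bool) :
    ((tS K a b c d : GL chevF4.Idx K) : Matrix chevF4.Idx chevF4.Idx K) =
      tMat chevF4 (cS K a b c d) := rfl

theorem cS_ne_zero (a b c d : Bool) : ∀ i < chevF4.rank, cS K a b c d i ≠ 0 := by
  intro i hi
  unfold cS extc
  rw [dif_pos hi]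
  exact Units.ne_zero _

theorem cS_vals (a b c d : Bool) :
    cS K a b c d 0 = (sg K a : K) ∧ cS K a b c d 1 = (sg K b : K) ∧
      cS K a b c d 2 = (sg K c : K) ∧ cS K a b c d 3 = (sg K d : K) := by
  refine ⟨?_, ?_, ?_, ?_⟩ <;>
  · unfold cS extc
    rw [dif_pos (by decide)]
    rfl

/-- The value at a root of the torus element with signs. -/
theorem tE_cS (a b c d : Bool) (r : ℕ) :
    tE chevF4 (cS K a b c d) r = ((sg K ((tabOf chevF4).sgnRoot a b c d r) : Kˣ) : K) := by
  obtain ⟨e0, e1, e2, e3⟩ := cS_vals (K := K) a b c d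
  have h4 : chevF4.rank = 4 := rfl
  unfold tE
  rw [h4]
  simp only [List.range_succ, List.range_zero, List.nil_append, List.cons_append, List.map_cons,
    List.map_nil, List.prod_cons, List.prod_nil, mul_one]
  rw [e0, e1, e2, e3]
  unfold Tab.sgnRoot
  rw [← sg_mul, ← sg_mul, ← sg_mul, ← sg_zpow, ← sg_zpow, ← sg_zpow, ← sg_zpow]
  simp only [Units.val_mul, Units.val_zpow_eq_zpow_val]
  change _ = (sg K a : K) ^ chevF4.cartan 0 r * (sg K b : K) ^ chevF4.cartan 1 r *
    (sg K c : K) ^ chevF4.cartan 2 r * (sg K d : K) ^ chevF4.cartan 3 r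
  ring

theorem sg_val (b : Bool) : ((sg K b : Kˣ) : K) = if b then -1 else 1 := by
  cases b <;> simp [sg]

theorem neg_one_ne_one' (h2 : (2 : K) ≠ 0) : (-1 : K) ≠ 1 := by
  intro h
  apply h2
  have : (2 : K) = 1 - (-1) := by ring
  rw [this, h, sub_self]

theorem tE_cS_eq_one_iff (h2 : (2 : K) ≠ 0) (a b c d : Bool) (r : ℕ) :
    tE chevF4 (cS K a b c d) r = 1 ↔ (tabOf chevF4).P4 a b c d r = true := by
  rw [tE_cS, sg_val]
  unfold Tab.P4
  cases (tabOf chevF4).sgnRoot a b c d r
  · simp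
  · simp only [if_true, Bool.not_true]
    constructor
    · intro h; exact absurd h (neg_one_ne_one' h2)
    · intro h; exact absurd h (by decide)

theorem tE_cS_pm (a b c d : Bool) (r : ℕ) :
    tE chevF4 (cS K a b c d) r = 1 ∨ tE chevF4 (cS K a b c d) r = -1 := by
  rw [tE_cS, sg_val]
  cases (tabOf chevF4).sgnRoot a b c d r
  · left; rfl
  · right; rfl

section count

variable [Fintype K]

theorem card_diagonal_F4 :
    Nat.card (chevF4.diagonalSubgroup K) = (Fintype.card K - 1) ^ 4 := by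
  have hH := card_diagonal_mul (F := K) good1_F4 T17_F4
  have hH' : (List.map (fun i => (Fintype.card K - 1).gcd (t17d_F4 i)) (List.range 4)).prod *
      Nat.card ↥(chevF4.diagonalSubgroup K) = (Fintype.card K - 1) ^ 4 := hH
  simp [List.range_succ, t17d_F4] at hH'
  exact hH'

/-- The general formula for the torus elements with signs. -/
theorem card_CzSet_tS (h2 : (2 : K) ≠ 0) (a b c d : Bool)
    (hcl : (tabOf chevF4).ClosedB ((tabOf chevF4).P4 a b c d)) :
    Nat.card (CzSet chevF4 (tS K a b c d)) =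
      ((wL_F4.filter ((tabOf chevF4).commB ((tabOf chevF4).P4 a b c d))).map fun w =>
        Fintype.card K ^ (tabOf chevF4).cntPos ((tabOf chevF4).P4 a b c d) *
          (Nat.card (chevF4.diagonalSubgroup K) *
            Fintype.card K ^ (tabOf chevF4).cntMinus ((tabOf chevF4).P4 a b c d) w)).sum :=
  card_CzSet_formula hF2 T0_F4 good3_F4.t3 good3_F4.t4 T5_F4 T6_F4 T7_F4 T7n_F4 T8_F4 T9_F4
    wList_F4 (tS_mem_diagonal a b c d) (cS_ne_zero a b c d) (tS_coe a b c d)
    (fun r _ => tE_cS_eq_one_iff h2 a b c d r) (fun r _ => tE_cS_pm a b c d r) h2 hcl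

theorem sum_map_factor (L : List (List ℕ)) (A B q : ℕ) (m : List ℕ → ℕ) :
    (L.map fun w => A * (B * q ^ m w)).sum = A * B * ((L.map m).map fun k => q ^ k).sum := by
  induction L with
  | nil => simp
  | cons w L ih =>
    rw [List.map_cons, List.sum_cons, ih, List.map_cons, List.map_cons, List.sum_cons]
    ring

theorem sumT (q : ℕ) : (mListT.map (fun k => q ^ k)).sum =
    1 + 4*q + 8*q^2 + 12*q^3 + 15*q^4 + 16*q^5 + 15*q^6 + 12*q^7 + 8*q^8 + 4*q^9 + q^10 := by
  simp only [mListT, List.map_cons, List.map_nil, List.sum_cons, List.sum_nil]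
  ring

set_option maxRecDepth 100000 in
theorem sumS (q : ℕ) : (mListS.map (fun k => q ^ k)).sum =
    1 + 4*q + 9*q^2 + 16*q^3 + 24*q^4 + 32*q^5 + 39*q^6 + 44*q^7 + 46*q^8 + 44*q^9 + 39*q^10
      + 32*q^11 + 24*q^12 + 16*q^13 + 9*q^14 + 4*q^15 + q^16 := by
  simp only [mListS, List.map_cons, List.map_nil, List.sum_cons, List.sum_nil]
  ring

/-- The order of the centralizer of `h_{p₁}(-1)`. -/
theorem card_CzSet_zS (h2 : (2 : K) ≠ 0) :
    Nat.card (CzSet chevF4 (zS K)) = Fintype.card K ^ 16 * (Fintype.card K ^ 2 - 1) *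
      (Fintype.card K ^ 4 - 1) * (Fintype.card K ^ 6 - 1) * (Fintype.card K ^ 8 - 1) := by
  unfold zS
  rw [card_CzSet_tS h2 true false false false closedS, sum_map_factor, mListS_eq, cntPosS,
    card_diagonal_F4, sumS]
  have hq1 : 1 ≤ Fintype.card K := Fintype.card_pos
  set q := Fintype.card K with hq
  have hp : ∀ k : ℕ, 1 ≤ q ^ k := fun k => Nat.one_le_pow _ _ hq1
  zify [hq1, hp 2, hp 4, hp 6, hp 8]
  ring

/-- The order of the centralizer of `h_{p₄}(-1)`. -/
theorem card_CzSet_zT (h2 : (2 : K) ≠ 0) :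
    Nat.card (CzSet chevF4 (zT K)) = Fintype.card K ^ 10 * (Fintype.card K ^ 2 - 1) ^ 2 *
      (Fintype.card K ^ 4 - 1) * (Fintype.card K ^ 6 - 1) := by
  unfold zT
  rw [card_CzSet_tS h2 false false false true closedT, sum_map_factor, mListT_eq, cntPosT,
    card_diagonal_F4, sumT]
  have hq1 : 1 ≤ Fintype.card K := Fintype.card_pos
  set q := Fintype.card K with hq
  have hp : ∀ k : ℕ, 1 ≤ q ^ k := fun k => Nat.one_le_pow _ _ hq1
  zify [hq1, hp 2, hp 4, hp 6]
  ring

end count

end Cfsg.Agent.Helper8.F4Cz
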