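import Mathlib
import Cfsg.Agent.Helper8.G2CzC
import Cfsg.Agent.Helper7.ChevT17

set_option autoImplicit false
set_option linter.unusedSectionVars false
set_option linter.unusedVariables false

/-!
The order of the centralizer of `z = h_8(-1)` in `G₂(q)`, `q` odd.
-/

namespace Cfsg.Agent.Helper8.G2Cz

open Cfsg Cfsg.Lie Matrix Cfsg.Agent.Helper7 Cfsg.Agent.Helper7.Chev Cfsg.Agent.Helper8.G2Odd
open scoped Pointwise

variable {F : Type*} [Field F]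

/-- The elements of the group commuting with `z`. -/
def CzSet (F : Type*) [Field F] : Set (GL chevG2.Idx F) :=
  {g | g ∈ chevG2.group F ∧ zG2 F * g * (zG2 F)⁻¹ = g}

/-- The subgroup `X_8 X_10`. -/
abbrev UP (F : Type*) [Field F] : Subgroup (GL chevG2.Idx F) :=
  UgeS chevG2 F P810 (chevG2.nroots / 2)

/-- The part of `X_8 X_10` in `U_w⁻` for the `i`-th word. -/
abbrev UQ (F : Type*) [Field F] (i : Fin 4) : Subgroup (GL chevG2.Idx F) :=
  UgeS chevG2 F (cP i) (chevG2.nroots / 2)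

section cells

variable (h2 : (2 : F) ≠ 0)

include h2 in
theorem cell_mem (i : Fin 4) {u₁ h₁ u : GL chevG2.Idx F} (hu₁ : u₁ ∈ UP F)
    (hh₁ : h₁ ∈ chevG2.diagonalSubgroup F) (hu : u ∈ UQ F i) :
    u₁ * h₁ * nWordGL hG2 (cW i) * u ∈ CzSet F := by
  obtain ⟨hu₁U, hu₁f⟩ := (pos_fixed_iff h2).mpr hu₁
  obtain ⟨huM, huf⟩ := (minus_fixed_iff h2 (cW_lt i) (cP_spec i)).mpr hu
  have hBG := borelSubgroup_le_group (F := F) hG1
  have hNG := monomialSubgroup_le_group (F := F) hG1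
  have hUB : chevG2.posUnipotent F ≤ chevG2.borelSubgroup F := le_sup_left
  have hHB : chevG2.diagonalSubgroup F ≤ chevG2.borelSubgroup F := le_sup_right
  have hminusU : Subgroup.closure (minusGen chevG2 F (cW i)) ≤ chevG2.posUnipotent F := by
    apply Subgroup.closure_mono
    rintro x ⟨r, t, hr, _, hx⟩
    exact ⟨r, t, hr, hx⟩
  refine ⟨mul_mem (mul_mem (mul_mem (hBG (hUB hu₁U)) (hBG (hHB hh₁)))
    (hNG (nWordGL_mem hG2 _))) (hBG (hUB (hminusU huM))), ?_⟩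
  exact (cent_normal_form hG2 T0_G2 T3_G2 T4_G2 T5_G2 T6_G2 T8_G2 T9_G2 wList_G2
    zG2_mem_diagonal (cWords_sub _ (cW_mem i)) hu₁U hh₁ huM).mpr
    ⟨hu₁f, commute_of_word (cW_mem i), huf⟩

/-- The parametrisation of the centralizer by the four cells. -/
noncomputable def cellMap :
    (Σ i : Fin 4, ↥(UP F) × ↥(chevG2.diagonalSubgroup F) × ↥(UQ F i)) → ↥(CzSet F) :=
  fun x => ⟨(x.2.1 : GL chevG2.Idx F) * (x.2.2.1 : GL chevG2.Idx F) * nWordGL hG2 (cW x.1) *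
    (x.2.2.2 : GL chevG2.Idx F), cell_mem h2 x.1 x.2.1.2 x.2.2.1.2 x.2.2.2.2⟩

include h2 in
theorem cellMap_injective : Function.Injective (cellMap h2) := by
  rintro ⟨i, ⟨u₁, hu₁⟩, ⟨h₁, hh₁⟩, ⟨u, hu⟩⟩ ⟨i', ⟨u₁', hu₁'⟩, ⟨h₁', hh₁'⟩, ⟨u', hu'⟩⟩ e
  have e' : u₁ * h₁ * nWordGL hG2 (cW i) * u = u₁' * h₁' * nWordGL hG2 (cW i') * u' :=
    congrArg (fun x : ↥(CzSet F) => (x : GL chevG2.Idx F)) e
  obtain ⟨hu₁U, -⟩ := (pos_fixed_iff h2).mpr hu₁
  obtain ⟨hu₁U', -⟩ := (pos_fixed_iff h2).mpr hu₁'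
  obtain ⟨huM, -⟩ := (minus_fixed_iff h2 (cW_lt i) (cP_spec i)).mpr hu
  obtain ⟨huM', -⟩ := (minus_fixed_iff h2 (cW_lt i') (cP_spec i')).mpr hu'
  have hb : u₁ * h₁ ∈ chevG2.borelSubgroup F :=
    mul_mem (Subgroup.mem_sup_left hu₁U) (Subgroup.mem_sup_right hh₁)
  have hb' : u₁' * h₁' ∈ chevG2.borelSubgroup F :=
    mul_mem (Subgroup.mem_sup_left hu₁U') (Subgroup.mem_sup_right hh₁')
  obtain ⟨hww, hbb, huu⟩ := normal_form_unique (F := F) hG2 T0_G2 T3_G2 T4_G2 T5_G2 T6_G2 T8_G2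
    T9_G2 wList_G2 (cWords_sub _ (cW_mem i)) (cWords_sub _ (cW_mem i')) hb hb' huM huM' e'
  have hii : i = i' := cW_injective hww
  subst hii
  subst huu
  have hmem : u₁'⁻¹ * u₁ ∈ chevG2.posUnipotent F ⊓ chevG2.diagonalSubgroup F := by
    refine Subgroup.mem_inf.mpr ⟨mul_mem (inv_mem hu₁U') hu₁U, ?_⟩
    have : u₁'⁻¹ * u₁ = h₁' * h₁⁻¹ := by
      calc u₁'⁻¹ * u₁ = u₁'⁻¹ * (u₁ * h₁) * h₁⁻¹ := by group
        _ = u₁'⁻¹ * (u₁' * h₁') * h₁⁻¹ := by rw [hbb]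
        _ = _ := by group
    rw [this]
    exact mul_mem hh₁' (inv_mem hh₁)
  rw [posUnipotent_inf_diagonal hG2 T0_G2, Subgroup.mem_bot] at hmem
  have huu1 : u₁ = u₁' := (inv_mul_eq_one.mp hmem).symm
  subst huu1
  have hhh : h₁ = h₁' := mul_left_cancel hbb
  subst hhh
  rfl

include h2 in
theorem cellMap_surjective : Function.Surjective (cellMap h2) := by
  rintro ⟨g, hgG, hfix⟩
  obtain ⟨w, hwW, b, hb, u, hu, rfl⟩ := exists_normal_form (F := F) hG2 T0_G2 T3_G2 T4_G2 T5_G2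
    T6_G2 T8_G2 T9_G2 wList_G2 hgG
  have hN := diagonalSubgroup_le_normalizer_pos (F := F) hG2
  have hmul := Subgroup.coe_mul_of_right_le_normalizer_left (chevG2.posUnipotent F)
    (chevG2.diagonalSubgroup F) hN
  have hb' : b ∈ (chevG2.posUnipotent F : Set (GL chevG2.Idx F)) *
      (chevG2.diagonalSubgroup F : Set (GL chevG2.Idx F)) := by
    rw [← hmul]; exact hb
  obtain ⟨u₁, hu₁, h₁, hh₁, rfl⟩ := hb'
  obtain ⟨f1, f2, f3⟩ := (cent_normal_form hG2 T0_G2 T3_G2 T4_G2 T5_G2 T6_G2 T8_G2 T9_G2 wList_G2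
    zG2_mem_diagonal hwW hu₁ hh₁ hu).mp hfix
  obtain ⟨i, rfl⟩ := exists_cW (word_of_commute h2 hwW f2)
  have m1 : u₁ ∈ UP F := (pos_fixed_iff h2).mp ⟨hu₁, f1⟩
  have m3 : u ∈ UQ F i := (minus_fixed_iff h2 (cW_lt i) (cP_spec i)).mp ⟨hu, f3⟩
  exact ⟨⟨i, ⟨u₁, m1⟩, ⟨h₁, hh₁⟩, ⟨u, m3⟩⟩, rfl⟩

end cells

section count

variable [Fintype F]

theorem card_diagonal_G2 :
    Nat.card (chevG2.diagonalSubgroup F) = (Fintype.card F - 1) ^ 2 := by
  have hH := card_diagonal_mul (F := F) good1_G2 T17_G2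
  have hH' : (List.map (fun i => (Fintype.card F - 1).gcd (t17d_G2 i)) (List.range 2)).prod *
      Nat.card ↥(chevG2.diagonalSubgroup F) = (Fintype.card F - 1) ^ 2 := hH
  simp [List.range_succ, t17d_G2] at hH'
  exact hH'

/-- The order of the centralizer of `z`. -/
theorem card_CzSet (h2 : (2 : F) ≠ 0) :
    Nat.card (CzSet F) = Fintype.card F ^ 2 * (Fintype.card F ^ 2 - 1) ^ 2 := by
  classical
  rw [← Nat.card_congr (Equiv.ofBijective (cellMap h2)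
    ⟨cellMap_injective h2, cellMap_surjective h2⟩), Nat.card_sigma]
  have hterm : ∀ i : Fin 4,
      Nat.card (↥(UP F) × ↥(chevG2.diagonalSubgroup F) × ↥(UQ F i)) =
        Fintype.card F ^ 2 * ((Fintype.card F - 1) ^ 2 * Fintype.card F ^ cM i) := by
    intro i
    rw [Nat.card_prod, Nat.card_prod, card_UP, card_diagonal_G2, card_UQ]
  simp only [hterm]
  rw [Fin.sum_univ_four]
  have hq1 : 1 ≤ Fintype.card F := Fintype.card_pos
  set q := Fintype.card F with hq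
  have c0 : cM 0 = 0 := rfl
  have c1 : cM 1 = 1 := rfl
  have c2 : cM 2 = 1 := rfl
  have c3 : cM 3 = 2 := rfl
  rw [c0, c1, c2, c3]
  have hp : 1 ≤ q ^ 2 := Nat.one_le_pow _ _ hq1
  zify [hq1, hp]
  ring

end count

end Cfsg.Agent.Helper8.G2Cz
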