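import Mathlib
import Cfsg.Agent.Helper8.G2CzD
import Cfsg.Agent.Helper7.ChevTw1

set_option autoImplicit false
set_option linter.unusedSectionVars false
set_option linter.unusedVariables false

/-!
The homomorphisms `SL₂(F) → G` attached to the roots are injective as soon as `h_r(-1) ≠ 1`.
-/

namespace Cfsg.Agent.Helper8.G2Cz

open Cfsg Cfsg.Lie Matrix Cfsg.Agent.Helper7 Cfsg.Agent.Helper7.Chev Cfsg.Agent.Helper8.G2Odd

variable {F : Type*} [Field F]

theorem ortho_8_10 : Ortho chevG2 8 10 := by decide +kernel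

section kernel

variable {D : ChevalleyDatum} (hG : Good1 D) {r : ℕ} (hr : r < D.nroots)

include hG in
theorem phiMat_entry_rr (g : Matrix (Fin 2) (Fin 2) F) :
    phiMat D r g (Sum.inr ⟨r, hr⟩) (Sum.inr ⟨r, hr⟩) = g 0 0 ^ 2 := by
  have hne : D.neg r ≠ r := hG.neg_ne hr
  unfold phiMat
  rw [Matrix.of_apply]
  change (if (⟨r, hr⟩ : Fin D.nroots).val = r then adjE D r g else _) (Sum.inr ⟨r, hr⟩) = _
  rw [if_pos rfl]
  unfold adjE
  simp [eR_apply_inr, hR_apply_inr, hne]

include hG in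
theorem phiMat_entry_nr (g : Matrix (Fin 2) (Fin 2) F) :
    phiMat D r g (Sum.inr ⟨D.neg r, hG.neg_lt hr⟩) (Sum.inr ⟨r, hr⟩) = -(g 1 0 ^ 2) := by
  have hne : D.neg r ≠ r := hG.neg_ne hr
  unfold phiMat
  rw [Matrix.of_apply]
  change (if (⟨r, hr⟩ : Fin D.nroots).val = r then adjE D r g else _)
    (Sum.inr ⟨D.neg r, hG.neg_lt hr⟩) = _
  rw [if_pos rfl]
  unfold adjE
  simp [eR_apply_inr, hR_apply_inr, hne.symm]

include hG in
theorem phiMat_entry_rn (g : Matrix (Fin 2) (Fin 2) F) :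
    phiMat D r g (Sum.inr ⟨r, hr⟩) (Sum.inr ⟨D.neg r, hG.neg_lt hr⟩) = -(g 0 1 ^ 2) := by
  have hne : D.neg r ≠ r := hG.neg_ne hr
  unfold phiMat
  rw [Matrix.of_apply]
  change (if (⟨D.neg r, hG.neg_lt hr⟩ : Fin D.nroots).val = r then adjE D r g else
    if (⟨D.neg r, hG.neg_lt hr⟩ : Fin D.nroots).val = D.neg r then adjF D r g else _)
    (Sum.inr ⟨r, hr⟩) = _
  rw [if_neg hne, if_pos rfl]
  unfold adjF
  simp [eR_apply_inr, hR_apply_inr, hne]

include hG in
/-- The kernel of the homomorphism attached to a root consists of `±1`. -/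
theorem phiHom_ker_cases {g : Matrix.SpecialLinearGroup (Fin 2) F} (h : phiHom hG hr g = 1) :
    g = 1 ∨ g = diagSL (-1 : F) (neg_ne_zero.mpr one_ne_zero) := by
  have hne : D.neg r ≠ r := hG.neg_ne hr
  have hm : phiMat D r g.val = 1 := by
    rw [← phiHom_coe hG hr, h]
    rfl
  have e1 := phiMat_entry_rr (F := F) hG hr g.val
  have e2 := phiMat_entry_nr (F := F) hG hr g.val
  have e3 := phiMat_entry_rn (F := F) hG hr g.val
  rw [hm] at e1 e2 e3
  rw [Matrix.one_apply_eq] at e1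
  rw [Matrix.one_apply_ne (by
    intro h'
    exact hne (congrArg Fin.val (Sum.inr.inj h')))] at e2
  rw [Matrix.one_apply_ne (by
    intro h'
    exact hne (congrArg Fin.val (Sum.inr.inj h')).symm)] at e3
  have hc : g.val 1 0 = 0 := by
    have : g.val 1 0 ^ 2 = 0 := by
      have := neg_eq_zero.mp e2.symm
      exact this
    exact pow_eq_zero_iff (two_ne_zero) |>.mp this
  have hb : g.val 0 1 = 0 := by
    have : g.val 0 1 ^ 2 = 0 := neg_eq_zero.mp e3.symm
    exact pow_eq_zero_iff (two_ne_zero) |>.mp this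
  have hdet : g.val 0 0 * g.val 1 1 - g.val 0 1 * g.val 1 0 = 1 := by
    rw [← Matrix.det_fin_two]
    exact g.2
  rw [hb, hc, mul_zero, sub_zero] at hdet
  have ha : g.val 0 0 = 1 ∨ g.val 0 0 = -1 := sq_eq_one_iff.mp e1.symm
  rcases ha with ha | ha
  · left
    rw [ha, one_mul] at hdet
    apply Subtype.ext
    rw [Matrix.SpecialLinearGroup.coe_one, Matrix.eta_fin_two g.val, ha, hb, hc, hdet]
    exact Matrix.one_fin_two.symm
  · right
    rw [ha] at hdet
    have hd : g.val 1 1 = (-1 : F)⁻¹ := by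
      rw [inv_neg, inv_one]
      linear_combination -hdet
    apply Subtype.ext
    rw [Matrix.eta_fin_two g.val, ha, hb, hc, hd]
    rfl

include hG in
theorem phiHom_injective_of (hz : hGL hG hr (-1 : F) (neg_ne_zero.mpr one_ne_zero) ≠ 1) :
    Function.Injective (phiHom hG hr (F := F)) := by
  rw [injective_iff_map_eq_one]
  intro g hg
  rcases phiHom_ker_cases hG hr hg with rfl | rfl
  · rfl
  · exact absurd hg hz

end kernel

end Cfsg.Agent.Helper8.G2Cz
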