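import Mathlib
import Cfsg.Agent.Helper8.G2CzE
import Cfsg.Agent.Helper7.LinearCard

set_option autoImplicit false
set_option linter.unusedSectionVars false
set_option linter.unusedVariables false

/-!
The centralizer of `z = h_8(-1)` in `G₂(q)`, `q` odd: its order and the two commuting subgroups
`SL₂(q)`.
-/

namespace Cfsg.Agent.Helper8.G2Cz

open Cfsg Cfsg.Lie Matrix Cfsg.Agent.Helper7 Cfsg.Agent.Helper7.Chev Cfsg.Agent.Helper8.G2Odd

variable {F : Type*} [Field F]

local notation "SL2" => Matrix.SpecialLinearGroup (Fin 2) F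

/-- `z` as an element of the group. -/
noncomputable def zs (F : Type*) [Field F] : ↥(chevG2.group F) := ⟨zG2 F, zG2_mem_group⟩

/-- The homomorphism attached to a root, into the group. -/
noncomputable def phiG {r : ℕ} (hr : r < chevG2.nroots) : SL2 →* ↥(chevG2.group F) :=
  (phiHom hG1 hr).codRestrict (chevG2.group F) (fun g => phiHom_mem_group hG2 hr g)

theorem phiG_coe {r : ℕ} (hr : r < chevG2.nroots) (g : SL2) :
    ((phiG hr g : ↥(chevG2.group F)) : GL chevG2.Idx F) = phiHom hG1 hr g := rfl

/-- The element `-1` of `SL₂`. -/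
def dm (F : Type*) [Field F] : Matrix.SpecialLinearGroup (Fin 2) F :=
  diagSL (-1 : F) neg_one_ne_zero'

theorem dm_comm (A : SL2) : dm F * A = A * dm F := by
  apply Subtype.ext
  rw [Matrix.SpecialLinearGroup.coe_mul, Matrix.SpecialLinearGroup.coe_mul]
  ext i j
  fin_cases i <;> fin_cases j <;>
    simp [dm, diagSL, Matrix.mul_apply, Fin.sum_univ_two, inv_neg]

theorem dm_sq : dm F * dm F = 1 := by
  apply Subtype.ext
  rw [Matrix.SpecialLinearGroup.coe_mul, Matrix.SpecialLinearGroup.coe_one]
  ext i j
  fin_cases i <;> fin_cases j <;>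
    simp [dm, diagSL, Matrix.mul_apply, Fin.sum_univ_two, inv_neg]

theorem zG2_eq_h10 : zG2 F = hGL hG1 lt10 (-1 : F) neg_one_ne_zero' := by
  obtain ⟨-, -, -, -, -, -, -, -, -, -, -, -, -, -, -, -, -, cr100, cr101, -⟩ := factsC
  have cr100' : cr chevG2 10 0 = 1 := cr100
  have cr101' : cr chevG2 10 1 = 1 := cr101
  apply eq_hGL_of_params zG2_mat lt10
  · rw [cz0, cr100', zpow_one]
  · rw [cz1, cr101', zpow_one]

theorem phiG8_dm : phiG lt8 (dm F) = zs F := rfl

theorem phiG10_dm : phiG lt10 (dm F) = zs F := Subtype.ext zG2_eq_h10.symm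

section odd

variable (h2 : (2 : F) ≠ 0)

include h2 in
theorem zG2_ne_one : zG2 F ≠ 1 := by
  intro h
  have h9 := torus_conj_xGL hG2 cz_ne_zero zG2_mat lt9 (1 : F)
  rw [h, one_mul, inv_one, mul_one, mul_one] at h9
  have e := xr_inj (r := 9) (by norm_num) h9
  have := (tEz_eq_one_iff h2 (r := 9) (by norm_num) (by norm_num)).mp e.symm
  omega

include h2 in
theorem phi8_injective : Function.Injective (phiHom hG1 lt8 (F := F)) :=
  phiHom_injective_of hG1 lt8 (zG2_ne_one h2)

include h2 in
theorem phi10_injective : Function.Injective (phiHom hG1 lt10 (F := F)) := by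
  apply phiHom_injective_of hG1 lt10
  rw [← zG2_eq_h10]
  exact zG2_ne_one h2

include h2 in
theorem phiG8_injective : Function.Injective (phiG lt8 (F := F)) := by
  intro a b h
  exact phi8_injective h2 (congrArg Subtype.val h)

include h2 in
theorem phiG10_injective : Function.Injective (phiG lt10 (F := F)) := by
  intro a b h
  exact phi10_injective h2 (congrArg Subtype.val h)

include h2 in
theorem zs_ne_one : zs F ≠ 1 := fun h => zG2_ne_one h2 (congrArg Subtype.val h)

include h2 in
theorem dm_ne_one : dm F ≠ 1 := by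
  intro h
  apply zs_ne_one h2
  rw [← phiG8_dm, h, map_one]

end odd

theorem phiG_commute (A B : SL2) : phiG lt8 A * phiG lt10 B = phiG lt10 B * phiG lt8 A :=
  Subtype.ext (phiHom_commute hG2 T3_G2 T4_G2 lt8 lt10 ortho_8_10 A B).eq

theorem zs_sq : zs F * zs F = 1 := by
  rw [← phiG8_dm, ← map_mul, dm_sq, map_one]

theorem mem_zpowers_zs {x : ↥(chevG2.group F)} :
    x ∈ Subgroup.zpowers (zs F) ↔ x = 1 ∨ x = zs F := by
  constructor
  · rintro ⟨k, rfl⟩
    have hk : k = 2 * (k / 2) + k % 2 := (Int.mul_ediv_add_emod k 2).symm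
    have h2' : zs F ^ (2 : ℤ) = 1 := by
      rw [zpow_ofNat, pow_two]
      exact zs_sq
    have hx : zs F ^ k = zs F ^ (k % 2) := by
      conv_lhs => rw [hk]
      rw [_root_.zpow_add, _root_.zpow_mul, h2', _root_.one_zpow, one_mul]
    change zs F ^ k = 1 ∨ zs F ^ k = zs F
    rw [hx]
    rcases Int.emod_two_eq_zero_or_one k with h | h <;> rw [h]
    · left; exact zpow_zero _
    · right; exact zpow_one _
  · rintro (rfl | rfl)
    · exact one_mem _
    · exact Subgroup.mem_zpowers _

/-- A central element of `SL₂` is `±1`. -/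
theorem central_cases {B : SL2} (h : ∀ B' : SL2, B * B' = B' * B) : B = 1 ∨ B = dm F := by
  have hc : B ∈ Subgroup.center SL2 := by
    rw [Subgroup.mem_center_iff]
    intro g
    exact (h g).symm
  obtain ⟨r, hr, hB⟩ := Matrix.SpecialLinearGroup.mem_center_iff.mp hc
  rw [Fintype.card_fin] at hr
  rcases sq_eq_one_iff.mp hr with rfl | rfl
  · left
    apply Subtype.ext
    rw [← hB]
    simp
  · right
    apply Subtype.ext
    rw [← hB]
    ext i j
    fin_cases i <;> fin_cases j <;> simp [dm, diagSL, inv_neg]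

section odd2

variable (h2 : (2 : F) ≠ 0)

include h2 in
/-- The intersection of the two subgroups. -/
theorem mem_inf_iff {x : ↥(chevG2.group F)} :
    x ∈ (phiG lt8 (F := F)).range ⊓ (phiG lt10 (F := F)).range ↔ x = 1 ∨ x = zs F := by
  constructor
  · rintro ⟨⟨A, rfl⟩, ⟨B, hB⟩⟩
    have hcent : ∀ B' : SL2, B * B' = B' * B := by
      intro B'
      apply phiG10_injective h2
      rw [map_mul, map_mul, hB]
      exact phiG_commute A B'
    rcases central_cases hcent with rfl | rfl
    · left
      rw [← hB, map_one]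
    · right
      rw [← hB, phiG10_dm]
  · rintro (rfl | rfl)
    · exact one_mem _
    · exact ⟨⟨dm F, phiG8_dm⟩, ⟨dm F, phiG10_dm⟩⟩

include h2 in
theorem inf_eq_zpowers :
    (phiG lt8 (F := F)).range ⊓ (phiG lt10 (F := F)).range = Subgroup.zpowers (zs F) := by
  ext x
  rw [mem_inf_iff h2, mem_zpowers_zs]

theorem sup_le_centralizer :
    (phiG lt8 (F := F)).range ⊔ (phiG lt10 (F := F)).range ≤
      Subgroup.centralizer ({zs F} : Set ↥(chevG2.group F)) := by
  apply sup_le
  · rintro x ⟨A, rfl⟩
    rw [Subgroup.mem_centralizer_iff]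
    intro h hh
    rw [Set.mem_singleton_iff] at hh
    subst hh
    rw [← phiG8_dm, ← map_mul, ← map_mul, dm_comm]
  · rintro x ⟨A, rfl⟩
    rw [Subgroup.mem_centralizer_iff]
    intro h hh
    rw [Set.mem_singleton_iff] at hh
    subst hh
    rw [← phiG10_dm, ← map_mul, ← map_mul, dm_comm]

end odd2

section count

variable [Fintype F] (h2 : (2 : F) ≠ 0)

include h2 in
/-- The order of the centralizer of `z` in the group. -/
theorem card_centralizer_zs :
    Nat.card (Subgroup.centralizer ({zs F} : Set ↥(chevG2.group F))) =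
      Fintype.card F ^ 2 * (Fintype.card F ^ 2 - 1) ^ 2 := by
  rw [← card_CzSet h2]
  apply Nat.card_congr
  exact {
    toFun := fun x => ⟨x.1.1, x.1.2, by
      have h := Subgroup.mem_centralizer_iff.mp x.2 (zs F) rfl
      have h' : zG2 F * (x.1 : GL chevG2.Idx F) = x.1 * zG2 F := congrArg Subtype.val h
      rw [h']
      group⟩
    invFun := fun y => ⟨⟨y.1, y.2.1⟩, by
      rw [Subgroup.mem_centralizer_iff]
      intro h hh
      rw [Set.mem_singleton_iff] at hh
      subst hh
      apply Subtype.ext
      change zG2 F * y.1 = y.1 * zG2 F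
      have h := y.2.2
      rw [mul_inv_eq_iff_eq_mul] at h
      exact h⟩
    left_inv := fun x => rfl
    right_inv := fun y => rfl }

theorem card_SL2' : Nat.card SL2 = Fintype.card F * (Fintype.card F ^ 2 - 1) := by
  classical
  have h1 := Matrix.card_GL_field (𝔽 := F) 2
  have h2' := Cfsg.Agent.Helper7.card_units_mul_card_SL (n := Fin 2) (F := F)
  have hq : 2 ≤ Fintype.card F := Fintype.one_lt_card
  rw [h1] at h2'
  simp only [Fin.prod_univ_two, Fin.val_zero, pow_zero, Fin.val_one, pow_one] at h2'
  have h3 : Fintype.card F ^ 2 - Fintype.card F = Fintype.card F * (Fintype.card F - 1) := by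
    rw [Nat.mul_sub, mul_one, pow_two]
  rw [h3] at h2'
  have hpos : 0 < Fintype.card F - 1 := by omega
  have h4 : (Fintype.card F - 1) * Nat.card SL2 =
      (Fintype.card F - 1) * (Fintype.card F * (Fintype.card F ^ 2 - 1)) := by
    rw [h2']; ring
  exact Nat.eq_of_mul_eq_mul_left hpos h4

include h2 in
/-- The order of the product of the two subgroups. -/
theorem two_mul_card_sup :
    2 * Nat.card ↥((phiG lt8 (F := F)).range ⊔ (phiG lt10 (F := F)).range) =
      (Fintype.card F * (Fintype.card F ^ 2 - 1)) ^ 2 := by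
  classical
  set μ : SL2 × SL2 →* ↥(chevG2.group F) :=
    MonoidHom.noncommCoprod (phiG lt8) (phiG lt10) (fun A B => phiG_commute A B) with hμ
  have hrange : μ.range = (phiG lt8 (F := F)).range ⊔ (phiG lt10 (F := F)).range :=
    MonoidHom.noncommCoprod_range _ _ _
  have hker : ∀ p : SL2 × SL2, p ∈ μ.ker ↔ p = 1 ∨ p = (dm F, dm F) := by
    rintro ⟨A, B⟩
    rw [MonoidHom.mem_ker]
    change phiG lt8 A * phiG lt10 B = 1 ↔ _
    constructor
    · intro h
      have hA : phiG lt8 A = phiG lt10 B⁻¹ := by
        rw [map_inv]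
        exact eq_inv_of_mul_eq_one_left h
      have hmem : phiG lt8 A ∈ (phiG lt8 (F := F)).range ⊓ (phiG lt10 (F := F)).range :=
        ⟨⟨A, rfl⟩, ⟨B⁻¹, hA.symm⟩⟩
      rcases (mem_inf_iff h2).mp hmem with h1 | h1
      · left
        have eA : A = 1 := phiG8_injective h2 (h1.trans (map_one _).symm)
        have eB : B⁻¹ = 1 := phiG10_injective h2 ((hA.symm.trans h1).trans (map_one _).symm)
        rw [eA, inv_eq_one.mp eB]
        rfl
      · right
        have eA : A = dm F := phiG8_injective h2 (h1.trans phiG8_dm.symm)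
        have eB : B⁻¹ = dm F := phiG10_injective h2 ((hA.symm.trans h1).trans phiG10_dm.symm)
        have eB' : B = dm F := by
          have : B = (dm F)⁻¹ := by rw [← eB, inv_inv]
          rw [this]
          exact inv_eq_of_mul_eq_one_left dm_sq
        rw [eA, eB']
    · rintro (h | h)
      · have := Prod.mk.inj h
        rw [this.1, this.2, map_one, map_one, one_mul]
      · have := Prod.mk.inj h
        rw [this.1, this.2, phiG8_dm, phiG10_dm, zs_sq]
  have hcardker : Nat.card μ.ker = 2 := by
    rw [Nat.card_eq_two_iff]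
    refine ⟨1, ⟨(dm F, dm F), (hker _).mpr (Or.inr rfl)⟩, ?_, ?_⟩
    · intro h
      have := congrArg (fun x : μ.ker => (x : SL2 × SL2).1) h
      exact dm_ne_one h2 this.symm
    · ext x
      simp only [Set.mem_insert_iff, Set.mem_singleton_iff, Set.mem_univ, iff_true]
      rcases (hker x.1).mp x.2 with h | h
      · left; exact Subtype.ext h
      · right; exact Subtype.ext h
  have h1 := Subgroup.card_mul_index μ.ker
  rw [Subgroup.index_ker, hcardker, hrange, Nat.card_prod, card_SL2'] at h1
  rw [h1]
  ring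

include h2 in
/-- The index of the product of the two subgroups in the centralizer. -/
theorem relIndex_sup :
    ((phiG lt8 (F := F)).range ⊔ (phiG lt10 (F := F)).range).relIndex
      (Subgroup.centralizer ({zs F} : Set ↥(chevG2.group F))) = 2 := by
  classical
  set L := (phiG lt8 (F := F)).range ⊔ (phiG lt10 (F := F)).range with hL
  set C := Subgroup.centralizer ({zs F} : Set ↥(chevG2.group F)) with hC
  have h1 := Subgroup.relIndex_mul_relIndex ⊥ L C bot_le sup_le_centralizer
  rw [Subgroup.relIndex_bot_left, Subgroup.relIndex_bot_left, card_centralizer_zs h2] at h1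
  have h3 := two_mul_card_sup h2
  rw [← hL] at h3
  have hq1 : 1 ≤ Fintype.card F := Fintype.card_pos
  have hpos : 0 < Nat.card ↥L := Nat.card_pos
  have h4 : Nat.card ↥L * L.relIndex C = Nat.card ↥L * 2 := by
    rw [h1, mul_comm (Nat.card ↥L) 2, h3]
    ring
  exact Nat.eq_of_mul_eq_mul_left hpos h4

end count

end Cfsg.Agent.Helper8.G2Cz
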