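import Mathlib
import Cfsg.Agent.Helper8.G2CzF

set_option autoImplicit false
set_option linter.unusedSectionVars false
set_option linter.unusedVariables false

/-!
The centralizer of an involution of `G₂(q)`, `q` odd.
-/

namespace Cfsg.Agent.Helper8.G2Cz

open Cfsg Cfsg.Lie Matrix Cfsg.Agent.Helper7 Cfsg.Agent.Helper7.Chev Cfsg.Agent.Helper8.G2Odd

theorem centralizer_map_equiv {G₀ : Type*} [Group G₀] (c : G₀ ≃* G₀) (z : G₀) :
    Subgroup.centralizer ({c z} : Set G₀) =
      (Subgroup.centralizer ({z} : Set G₀)).map c.toMonoidHom := by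
  rw [Subgroup.map_equiv_eq_comap_symm']
  ext x
  rw [Subgroup.mem_comap, Subgroup.mem_centralizer_iff, Subgroup.mem_centralizer_iff]
  constructor
  · intro h y hy
    rw [Set.mem_singleton_iff] at hy
    subst hy
    have := h (c y) rfl
    have h' := congrArg c.symm this
    rw [map_mul, map_mul, MulEquiv.symm_apply_apply] at h'
    exact h'
  · intro h y hy
    rw [Set.mem_singleton_iff] at hy
    subst hy
    have := h z rfl
    have h' := congrArg c this
    rw [map_mul, map_mul] at h'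
    simp only [MulEquiv.coe_toMonoidHom, MulEquiv.apply_symm_apply] at h'
    exact h'

/-- Transport of the structure of the centralizer along an automorphism. -/
theorem transport {G₀ : Type*} [Group G₀] {S : Type*} [Group S] (c : G₀ ≃* G₀) (z : G₀) (N : ℕ)
    (L₁ L₂ : Subgroup G₀)
    (h1 : Nat.card (Subgroup.centralizer ({z} : Set G₀)) = N) (i1 : Nonempty (L₁ ≃* S))
    (i2 : Nonempty (L₂ ≃* S)) (hc : ∀ x ∈ L₁, ∀ y ∈ L₂, x * y = y * x)
    (hinf : L₁ ⊓ L₂ = Subgroup.zpowers z)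
    (hsup : L₁ ⊔ L₂ ≤ Subgroup.centralizer ({z} : Set G₀))
    (hri : (L₁ ⊔ L₂).relIndex (Subgroup.centralizer ({z} : Set G₀)) = 2) :
    Nat.card (Subgroup.centralizer ({c z} : Set G₀)) = N ∧
      ∃ L₁' L₂' : Subgroup G₀, Nonempty (L₁' ≃* S) ∧ Nonempty (L₂' ≃* S) ∧
        (∀ x ∈ L₁', ∀ y ∈ L₂', x * y = y * x) ∧ L₁' ⊓ L₂' = Subgroup.zpowers (c z) ∧
        L₁' ⊔ L₂' ≤ Subgroup.centralizer ({c z} : Set G₀) ∧
        (L₁' ⊔ L₂').relIndex (Subgroup.centralizer ({c z} : Set G₀)) = 2 := by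
  have hinj : Function.Injective c.toMonoidHom := c.injective
  rw [centralizer_map_equiv]
  refine ⟨by rw [Subgroup.card_map_of_injective hinj, h1], L₁.map c.toMonoidHom,
    L₂.map c.toMonoidHom, ?_, ?_, ?_, ?_, ?_, ?_⟩
  · obtain ⟨e⟩ := i1
    exact ⟨(L₁.equivMapOfInjective c.toMonoidHom hinj).symm.trans e⟩
  · obtain ⟨e⟩ := i2
    exact ⟨(L₂.equivMapOfInjective c.toMonoidHom hinj).symm.trans e⟩
  · rintro x ⟨a, ha, rfl⟩ y ⟨b, hb, rfl⟩
    rw [← map_mul, ← map_mul, hc a ha b hb]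
  · rw [← Subgroup.map_inf _ _ _ hinj, hinf, MonoidHom.map_zpowers]
    rfl
  · rw [← Subgroup.map_sup]
    exact Subgroup.map_mono hsup
  · rw [← Subgroup.map_sup, Subgroup.relIndex_map_map_of_injective _ _ hinj, hri]

variable {F : Type*} [Field F] [Fintype F]

/-- The centralizer of an involution of `G₂(q)`, `q` odd. -/
theorem centralizer_involution (hF : Odd (Fintype.card F)) (t : ↥(chevG2.group F))
    (ht : orderOf t = 2) :
    Nat.card (Subgroup.centralizer ({t} : Set ↥(chevG2.group F))) =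
        Fintype.card F ^ 2 * (Fintype.card F ^ 2 - 1) ^ 2 ∧
      ∃ L₁ L₂ : Subgroup ↥(chevG2.group F),
        Nonempty (L₁ ≃* Matrix.SpecialLinearGroup (Fin 2) F) ∧
        Nonempty (L₂ ≃* Matrix.SpecialLinearGroup (Fin 2) F) ∧
        (∀ x ∈ L₁, ∀ y ∈ L₂, x * y = y * x) ∧ L₁ ⊓ L₂ = Subgroup.zpowers t ∧
        L₁ ⊔ L₂ ≤ Subgroup.centralizer ({t} : Set ↥(chevG2.group F)) ∧
        (L₁ ⊔ L₂).relIndex (Subgroup.centralizer ({t} : Set ↥(chevG2.group F))) = 2 := by
  have hcard : Fintype.card F % 2 = 1 := Nat.odd_iff.mp hF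
  have hch : ringChar F ≠ 2 := by
    intro h
    have := FiniteField.even_card_of_char_two h
    omega
  have h2 : (2 : F) ≠ 0 := Ring.two_ne_zero hch
  have ht2 : (t : GL chevG2.Idx F) * t = 1 := by
    have h := pow_orderOf_eq_one t
    rw [ht, pow_two] at h
    exact congrArg Subtype.val h
  have ht1 : (t : GL chevG2.Idx F) ≠ 1 := by
    intro e
    have h : t = 1 := Subtype.ext e
    rw [h, orderOf_one] at ht
    norm_num at ht
  obtain ⟨g, hg, eg⟩ := inv_conj_z hF t.2 ht2 ht1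
  set gs : ↥(chevG2.group F) := ⟨g, hg⟩ with hgs
  have hct : (MulAut.conj gs⁻¹) (zs F) = t := by
    apply Subtype.ext
    rw [MulAut.conj_apply, inv_inv]
    change g⁻¹ * zG2 F * g = t
    rw [← eg]
    group
  have key := transport (S := Matrix.SpecialLinearGroup (Fin 2) F) (MulAut.conj gs⁻¹) (zs F)
    (Fintype.card F ^ 2 * (Fintype.card F ^ 2 - 1) ^ 2)
    (phiG lt8 (F := F)).range (phiG lt10 (F := F)).range (card_centralizer_zs h2)
    ⟨(MonoidHom.ofInjective (phiG8_injective h2)).symm⟩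
    ⟨(MonoidHom.ofInjective (phiG10_injective h2)).symm⟩
    (by
      rintro x ⟨A, rfl⟩ y ⟨B, rfl⟩
      exact phiG_commute A B)
    (inf_eq_zpowers h2) sup_le_centralizer (relIndex_sup h2)
  rw [hct] at key
  exact key

end Cfsg.Agent.Helper8.G2Cz
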