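import Mathlib
import Cfsg.Agent.Helper8.F4CzA
import Cfsg.Agent.Helper8.G2CzG

set_option autoImplicit false
set_option linter.unusedSectionVars false
set_option linter.unusedVariables false

/-!
In `F₄(q)`, `q` odd, there are exactly two classes of involutions, with centralizers of orders
`q¹⁶(q² - 1)(q⁴ - 1)(q⁶ - 1)(q⁸ - 1)` and `q¹⁰(q² - 1)²(q⁴ - 1)(q⁶ - 1)`.
-/

namespace Cfsg.Agent.Helper8.F4Odd

open Cfsg Cfsg.Lie Matrix Cfsg.Agent.Helper7 Cfsg.Agent.Helper7.Chev Cfsg.Agent.Helper8.G2Odd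
  Cfsg.Agent.Helper8.ChevOdd Cfsg.Agent.Helper8.ChevCz Cfsg.Agent.Helper8.F4Cz
  Cfsg.Agent.Helper8.G2Cz

/-- The centralizer in the group of an element, as a set of matrices. -/
theorem card_centralizer_eq {D : ChevalleyDatum} {F : Type*} [Field F] {z : GL D.Idx F}
    (hz : z ∈ D.group F) :
    Nat.card (Subgroup.centralizer ({(⟨z, hz⟩ : ↥(D.group F))} : Set ↥(D.group F))) =
      Nat.card (CzSet D z) := by
  apply Nat.card_congr
  exact {
    toFun := fun x => ⟨x.1.1, x.1.2, by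
      have h := Subgroup.mem_centralizer_iff.mp x.2 ⟨z, hz⟩ rfl
      have h' : z * (x.1 : GL D.Idx F) = x.1 * z := congrArg Subtype.val h
      rw [h']
      group⟩
    invFun := fun y => ⟨⟨y.1, y.2.1⟩, by
      rw [Subgroup.mem_centralizer_iff]
      intro h hh
      rw [Set.mem_singleton_iff] at hh
      subst hh
      apply Subtype.ext
      change z * y.1 = y.1 * z
      have h := y.2.2
      rw [mul_inv_eq_iff_eq_mul] at h
      exact h⟩
    left_inv := fun x => rfl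
    right_inv := fun y => rfl }

variable {F : Type*} [Field F]

theorem zS_mem : zS F ∈ chevF4.group F :=
  diagonalSubgroup_le_group hF1 (tS_mem_diagonal _ _ _ _)

theorem zT_mem : zT F ∈ chevF4.group F :=
  diagonalSubgroup_le_group hF1 (tS_mem_diagonal _ _ _ _)

theorem zS_sq : zS F * zS F = 1 := by
  unfold zS
  rw [tS_mul]
  exact tS_false

theorem zT_sq : zT F * zT F = 1 := by
  unfold zT
  rw [tS_mul]
  exact tS_false

theorem neg_one_unit_ne_one (h2 : (2 : F) ≠ 0) : (-1 : Fˣ) ≠ 1 := by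
  intro h
  have h' : ((-1 : Fˣ) : F) = ((1 : Fˣ) : F) := congrArg Units.val h
  rw [Units.val_neg, Units.val_one] at h'
  exact neg_one_ne_one' h2 h'

theorem zS_ne_one (h2 : (2 : F) ≠ 0) : zS F ≠ 1 := by
  intro h
  unfold zS tS at h
  rw [← tF4_one] at h
  obtain ⟨h0, -, -, -⟩ := tF4_injective h
  exact neg_one_unit_ne_one h2 (by simpa [sg] using h0)

theorem zT_ne_one (h2 : (2 : F) ≠ 0) : zT F ≠ 1 := by
  intro h
  unfold zT tS at h
  rw [← tF4_one] at h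
  obtain ⟨-, -, -, h3⟩ := tF4_injective h
  exact neg_one_unit_ne_one h2 (by simpa [sg] using h3)

theorem orderOf_two_of {G : Type*} [Group G] {x : G} (h1 : x ≠ 1) (h2 : x * x = 1) :
    orderOf x = 2 := by
  have : Fact (Nat.Prime 2) := ⟨Nat.prime_two⟩
  exact orderOf_eq_prime (by rw [pow_two, h2]) h1

theorem card_ne (q : ℕ) (hq : 2 ≤ q) :
    q ^ 16 * (q ^ 2 - 1) * (q ^ 4 - 1) * (q ^ 6 - 1) * (q ^ 8 - 1) ≠
      q ^ 10 * (q ^ 2 - 1) ^ 2 * (q ^ 4 - 1) * (q ^ 6 - 1) := by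
  have hq1 : 1 ≤ q := by omega
  have h2 : q ^ 2 < q ^ 8 := Nat.pow_lt_pow_right hq (by norm_num)
  have hp : ∀ k : ℕ, 1 ≤ q ^ k := fun k => Nat.one_le_pow _ _ hq1
  have l2 : 2 ^ 2 ≤ q ^ 2 := Nat.pow_le_pow_left hq 2
  have l4 : 2 ^ 4 ≤ q ^ 4 := Nat.pow_le_pow_left hq 4
  have l6 : 2 ^ 6 ≤ q ^ 6 := Nat.pow_le_pow_left hq 6
  have hX : 0 < q ^ 10 * (q ^ 2 - 1) * (q ^ 4 - 1) * (q ^ 6 - 1) := by
    have a : 0 < q ^ 10 := hp 10
    have b : 0 < q ^ 2 - 1 := by omega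
    have c : 0 < q ^ 4 - 1 := by omega
    have d : 0 < q ^ 6 - 1 := by omega
    positivity
  intro h
  have e1 : q ^ 16 * (q ^ 2 - 1) * (q ^ 4 - 1) * (q ^ 6 - 1) * (q ^ 8 - 1) =
      (q ^ 10 * (q ^ 2 - 1) * (q ^ 4 - 1) * (q ^ 6 - 1)) * (q ^ 6 * (q ^ 8 - 1)) := by ring
  have e2 : q ^ 10 * (q ^ 2 - 1) ^ 2 * (q ^ 4 - 1) * (q ^ 6 - 1) =
      (q ^ 10 * (q ^ 2 - 1) * (q ^ 4 - 1) * (q ^ 6 - 1)) * (q ^ 2 - 1) := by ring
  rw [e1, e2] at h
  have h3 := Nat.eq_of_mul_eq_mul_left hX h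
  have h4 : q ^ 8 - 1 ≤ q ^ 6 * (q ^ 8 - 1) := Nat.le_mul_of_pos_left _ (hp 6)
  omega

/-- The two classes of involutions of `F₄(q)`, `q` odd. -/
theorem involution_classes [Fintype F] (hF : Odd (Fintype.card F)) :
    ∃ s t : ↥(chevF4.group F), orderOf s = 2 ∧ orderOf t = 2 ∧ ¬ IsConj s t ∧
      (∀ u : ↥(chevF4.group F), orderOf u = 2 → IsConj u s ∨ IsConj u t) ∧
      Nat.card (Subgroup.centralizer ({s} : Set ↥(chevF4.group F))) =
        Fintype.card F ^ 16 * (Fintype.card F ^ 2 - 1) * (Fintype.card F ^ 4 - 1) *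
          (Fintype.card F ^ 6 - 1) * (Fintype.card F ^ 8 - 1) ∧
      Nat.card (Subgroup.centralizer ({t} : Set ↥(chevF4.group F))) =
        Fintype.card F ^ 10 * (Fintype.card F ^ 2 - 1) ^ 2 * (Fintype.card F ^ 4 - 1) *
          (Fintype.card F ^ 6 - 1) := by
  have h2 := two_ne_zero_of_odd hF
  have hcS := (card_centralizer_eq (zS_mem (F := F))).trans (card_CzSet_zS h2)
  have hcT := (card_centralizer_eq (zT_mem (F := F))).trans (card_CzSet_zT h2)
  refine ⟨⟨zS F, zS_mem⟩, ⟨zT F, zT_mem⟩, ?_, ?_, ?_, ?_, hcS, hcT⟩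
  · apply orderOf_two_of
    · intro h
      exact zS_ne_one h2 (congrArg Subtype.val h)
    · exact Subtype.ext zS_sq
  · apply orderOf_two_of
    · intro h
      exact zT_ne_one h2 (congrArg Subtype.val h)
    · exact Subtype.ext zT_sq
  · intro hconj
    obtain ⟨g, hg⟩ := isConj_iff.mp hconj
    have e : (MulAut.conj g) (⟨zS F, zS_mem⟩ : ↥(chevF4.group F)) = ⟨zT F, zT_mem⟩ := by
      rw [MulAut.conj_apply]; exact hg
    have hmap := centralizer_map_equiv (MulAut.conj g) (⟨zS F, zS_mem⟩ : ↥(chevF4.group F))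
    rw [e] at hmap
    have hcard : Nat.card (Subgroup.centralizer ({(⟨zT F, zT_mem⟩ : ↥(chevF4.group F))} :
        Set ↥(chevF4.group F))) = Nat.card (Subgroup.centralizer
          ({(⟨zS F, zS_mem⟩ : ↥(chevF4.group F))} : Set ↥(chevF4.group F))) := by
      rw [hmap, Subgroup.card_map_of_injective (MulAut.conj g).injective]
    rw [hcS, hcT] at hcard
    have hq : 2 ≤ Fintype.card F := by
      have := Fintype.one_lt_card (α := F)
      omega
    exact card_ne _ hq hcard.symm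
  · intro u hu
    have hu2 : (u : GL chevF4.Idx F) * u = 1 := by
      have h := pow_orderOf_eq_one u
      rw [hu, pow_two] at h
      exact congrArg Subtype.val h
    have hu1 : (u : GL chevF4.Idx F) ≠ 1 := by
      intro e
      have h : u = 1 := Subtype.ext e
      rw [h, orderOf_one] at hu
      norm_num at hu
    obtain ⟨g₁, hg₁, hH⟩ := inv_conj_diagonal hF u.2 hu2
    have hne : g₁ * (u : GL chevF4.Idx F) * g₁⁻¹ ≠ 1 := by
      intro e
      apply hu1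
      have : (u : GL chevF4.Idx F) = g₁⁻¹ * (g₁ * u * g₁⁻¹) * g₁ := by group
      rw [this, e]
      group
    obtain ⟨g₂, hg₂, e⟩ := hinv_conj hH (sq_conj hu2) hne
    have hgg : g₂ * g₁ ∈ chevF4.group F := mul_mem hg₂ hg₁
    have hc : ∀ (z : GL chevF4.Idx F) (hzm : z ∈ chevF4.group F),
        g₂ * (g₁ * (u : GL chevF4.Idx F) * g₁⁻¹) * g₂⁻¹ = z →
        (⟨g₂ * g₁, hgg⟩ : ↥(chevF4.group F)) * u * (⟨g₂ * g₁, hgg⟩ : ↥(chevF4.group F))⁻¹ =
          ⟨z, hzm⟩ := by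
      intro z hzm hz
      apply Subtype.ext
      change g₂ * g₁ * (u : GL chevF4.Idx F) * (g₂ * g₁)⁻¹ = z
      rw [← hz]
      group
    rcases e with e | e
    · left
      exact isConj_iff.mpr ⟨⟨g₂ * g₁, hgg⟩, hc _ zS_mem e⟩
    · right
      exact isConj_iff.mpr ⟨⟨g₂ * g₁, hgg⟩, hc _ zT_mem e⟩

end Cfsg.Agent.Helper8.F4Odd
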