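import Mathlib
import Cfsg.Agent.Helper8.E8OddD
import Cfsg.Agent.Helper8.F4OddC

set_option autoImplicit false
set_option linter.unusedSectionVars false
set_option linter.unusedVariables false
set_option maxHeartbeats 4000000
set_option maxRecDepth 1000000

/-!
In `E₈(q)`, `q` odd, there are exactly two classes of involutions, with centralizers of orders
`q⁵⁶(q⁸ - 1)∏_{i=1}^7(q^{2i} - 1)` and `q⁶⁴(q² - 1)²(q⁶ - 1)(q⁸ - 1)(q¹⁰ - 1)(q¹² - 1)(q¹⁴ - 1)(q¹⁸ - 1)`.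
-/

namespace Cfsg.Agent.Helper8.E8Odd

open Cfsg Cfsg.Lie Matrix Cfsg.Agent.Helper7 Cfsg.Agent.Helper7.Chev Cfsg.Agent.Helper8.G2Odd
  Cfsg.Agent.Helper8.ChevOdd Cfsg.Agent.Helper8.ChevCz Cfsg.Agent.Helper8.G2Cz

theorem arithT (q : ℕ) (hq1 : 1 ≤ q) :
    q ^ 64 * (q - 1) ^ 8 * (([0, 1].map fun k => q ^ k).sum *
      ((1 * q ^ 0 + (1 * q ^ 1 + (1 * q ^ 2 + (1 * q ^ 3 + (1 * q ^ 4 + (2 * q ^ 5 + (2 * q ^ 6 + (2 * q ^ 7 + (2 * q ^ 8 + (3 * q ^ 9 + (3 * q ^ 10 + (3 * q ^ 11 + (3 * q ^ 12 + (3 * q ^ 13 + (3 * q ^ 14 + (3 * q ^ 15 + (3 * q ^ 16 + (3 * q ^ 17 + (3 * q ^ 18 + (2 * q ^ 19 + (2 * q ^ 20 + (2 * q ^ 21 + (2 * q ^ 22 + (1 * q ^ 23 + (1 * q ^ 24 + (1 * q ^ 25 + (1 * q ^ 26 + (1 * q ^ 27 + 0)))))))))))))))))))))))))))) * ((1 * q ^ 0 + (1 * q ^ 1 + (1 * q ^ 2 + (1 * q ^ 3 + (2 * q ^ 4 + (2 * q ^ 5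 + (2 * q ^ 6 + (2 * q ^ 7 + (3 * q ^ 8 + (2 * q ^ 9 + (2 * q ^ 10 + (2 * q ^ 11 + (2 * q ^ 12 + (1 * q ^ 13 + (1 * q ^ 14 + (1 * q ^ 15 + (1 * q ^ 16 + 0))))))))))))))))) * ((1 * q ^ 0 + (1 * q ^ 1 + (1 * q ^ 2 + (1 * q ^ 3 + (2 * q ^ 4 + (1 * q ^ 5 + (1 * q ^ 6 + (1 * q ^ 7 + (1 * q ^ 8 + 0))))))))) * ((1 * q ^ 0 + (1 * q ^ 1 + (1 * q ^ 2 + (2 * q ^ 3 + (1 * q ^ 4 + (1 * q ^ 5 + (1 * q ^ 6 + 0))))))) * ((1 * q ^ 0 + (1 * q ^ 1 + (1 * q ^ 2 + (1 * q ^ 3 + 0)))) * ((1 * q ^ 0 + (1 * q ^ 1 + (1 * q ^ 2 + 0))) * (1 * q ^ 0 + (1 * q ^ 1 + 0))))))))) =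
    q ^ 64 * (q ^ 2 - 1) ^ 2 * (q ^ 6 - 1) * (q ^ 8 - 1) * (q ^ 10 - 1) * (q ^ 12 - 1) *
      (q ^ 14 - 1) * (q ^ 18 - 1) := by
  have hp : ∀ k : ℕ, 1 ≤ q ^ k := fun k => Nat.one_le_pow _ _ hq1
  simp only [List.map_cons, List.map_nil, List.sum_cons, List.sum_nil]
  zify [hq1, hp 2, hp 6, hp 8, hp 10, hp 12, hp 14, hp 18]
  ring

theorem arithS (q : ℕ) (hq1 : 1 ≤ q) :
    q ^ 56 * (q - 1) ^ 8 * (([0, 14, 7, 6, 8, 7, 5, 9, 4, 10, 3, 11, 2, 12, 1, 13].map fun k => q ^ k).sum *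
      ((1 * q ^ 0 + (1 * q ^ 1 + (1 * q ^ 2 + (1 * q ^ 3 + (1 * q ^ 4 + (1 * q ^ 5 + (2 * q ^ 6 + (1 * q ^ 7 + (1 * q ^ 8 + (1 * q ^ 9 + (1 * q ^ 10 + (1 * q ^ 11 + (1 * q ^ 12 + 0))))))))))))) * ((1 * q ^ 0 + (1 * q ^ 1 + (1 * q ^ 2 + (1 * q ^ 3 + (1 * q ^ 4 + (2 * q ^ 5 + (1 * q ^ 6 + (1 * q ^ 7 + (1 * q ^ 8 + (1 * q ^ 9 + (1 * q ^ 10 + 0))))))))))) * ((1 * q ^ 0 + (1 * q ^ 1 + (1 * q ^ 2 + (1 * q ^ 3 + (2 * q ^ 4 + (1 * q ^ 5 + (1 * q ^ 6 + (1 * q ^ 7 + (1 * q ^ 8 + 0))))))))) * ((1 * q ^ 0 + (1 * q ^ 1 + (1 * q ^ 2 + (2 * q ^ 3 + (1 * q ^ 4 + (1 * q ^ 5 + (1 * q ^ 6 + 0))))))) * ((1 * q ^ 0 + (1 * q ^ 1 + (1 * q ^ 2 + (1 * q ^ 3 + 0)))) * ((1 * q ^ 0 + (1 * q ^ 1 + (1 * q ^ 2 + 0))) * (1 * q ^ 0 + (1 * q ^ 1 + 0))))))))) =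
    q ^ 56 * (q ^ 8 - 1) * ((q ^ 2 - 1) * (q ^ 4 - 1) * (q ^ 6 - 1) * (q ^ 8 - 1) * (q ^ 10 - 1) *
      (q ^ 12 - 1) * (q ^ 14 - 1)) := by
  have hp : ∀ k : ℕ, 1 ≤ q ^ k := fun k => Nat.one_le_pow _ _ hq1
  simp only [List.map_cons, List.map_nil, List.sum_cons, List.sum_nil]
  zify [hq1, hp 2, hp 4, hp 6, hp 8, hp 10, hp 12, hp 14]
  ring

theorem prod_Icc_seven (f : ℕ → ℕ) :
    ∏ i ∈ Finset.Icc 1 7, f i = f 1 * f 2 * f 3 * f 4 * f 5 * f 6 * f 7 := by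
  have : Finset.Icc 1 7 = {1, 2, 3, 4, 5, 6, 7} := by decide
  rw [this]
  simp [mul_assoc]

variable {K : Type*} [Field K]

section count

variable [Fintype K]

/-- The order of the centralizer of the second representative. -/
theorem card_CzSet_zT (h2 : (2 : K) ≠ 0) :
    Nat.card (CzSet chevE8 (zT K)) = Fintype.card K ^ 64 * (Fintype.card K ^ 2 - 1) ^ 2 *
      (Fintype.card K ^ 6 - 1) * (Fintype.card K ^ 8 - 1) * (Fintype.card K ^ 10 - 1) *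
      (Fintype.card K ^ 12 - 1) * (Fintype.card K ^ 14 - 1) * (Fintype.card K ^ 18 - 1) := by
  rw [card_CzSet_zT_aux h2, PS_E7, PS_D5]
  exact arithT _ Fintype.card_pos

/-- The order of the centralizer of the first representative. -/
theorem card_CzSet_zS (h2 : (2 : K) ≠ 0) :
    Nat.card (CzSet chevE8 (zS K)) = Fintype.card K ^ 56 * (Fintype.card K ^ 8 - 1) *
      ∏ i ∈ Finset.Icc 1 7, (Fintype.card K ^ (2 * i) - 1) := by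
  rw [card_CzSet_zS_aux h2, PS_D7, PS_D5, prod_Icc_seven]
  exact arithS _ Fintype.card_pos

end count

theorem zS_mem : zS K ∈ chevE8.group K :=
  diagonalSubgroup_le_group hE1 (tSg_mem_diagonal hE1 6)

theorem zT_mem : zT K ∈ chevE8.group K :=
  diagonalSubgroup_le_group hE1 (tSg_mem_diagonal hE1 82)

theorem card_ne (q : ℕ) (hq : 2 ≤ q) :
    q ^ 56 * (q ^ 8 - 1) * ∏ i ∈ Finset.Icc 1 7, (q ^ (2 * i) - 1) ≠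
      q ^ 64 * (q ^ 2 - 1) ^ 2 * (q ^ 6 - 1) * (q ^ 8 - 1) * (q ^ 10 - 1) * (q ^ 12 - 1) *
        (q ^ 14 - 1) * (q ^ 18 - 1) := by
  have hq1 : 1 ≤ q := by omega
  have hp : ∀ k : ℕ, 1 ≤ q ^ k := fun k => Nat.one_le_pow _ _ hq1
  have l : ∀ k : ℕ, 2 ^ k ≤ q ^ k := fun k => Nat.pow_le_pow_left hq k
  have l2 := l 2
  have l4 := l 4
  have l6 := l 6
  have l8 := l 8
  have l10 := l 10
  have l12 := l 12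
  have l14 := l 14
  have l18 := l 18
  rw [prod_Icc_seven]
  set X := q ^ 56 * (q ^ 2 - 1) * (q ^ 6 - 1) * (q ^ 8 - 1) * (q ^ 10 - 1) * (q ^ 12 - 1) *
    (q ^ 14 - 1) with hX
  have hXpos : 0 < X := by
    have a0 : 0 < q ^ 56 := hp 56
    have a2 : 0 < q ^ 2 - 1 := by omega
    have a6 : 0 < q ^ 6 - 1 := by omega
    have a8 : 0 < q ^ 8 - 1 := by omega
    have a10 : 0 < q ^ 10 - 1 := by omega
    have a12 : 0 < q ^ 12 - 1 := by omega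
    have a14 : 0 < q ^ 14 - 1 := by omega
    positivity
  intro h
  have e1 : q ^ 56 * (q ^ 8 - 1) * ((q ^ (2 * 1) - 1) * (q ^ (2 * 2) - 1) * (q ^ (2 * 3) - 1) *
      (q ^ (2 * 4) - 1) * (q ^ (2 * 5) - 1) * (q ^ (2 * 6) - 1) * (q ^ (2 * 7) - 1)) =
      X * ((q ^ 8 - 1) * (q ^ 4 - 1)) := by
    rw [hX]; ring
  have e2 : q ^ 64 * (q ^ 2 - 1) ^ 2 * (q ^ 6 - 1) * (q ^ 8 - 1) * (q ^ 10 - 1) * (q ^ 12 - 1) *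
      (q ^ 14 - 1) * (q ^ 18 - 1) = X * (q ^ 8 * (q ^ 2 - 1) * (q ^ 18 - 1)) := by
    rw [hX]; ring
  rw [e1, e2] at h
  have h3 := Nat.eq_of_mul_eq_mul_left hXpos h
  -- the left hand side is less than `q ^ 12`, the right hand side is at least `q ^ 12`
  have hl : (q ^ 8 - 1) * (q ^ 4 - 1) < q ^ 12 := by
    have : (q ^ 8 - 1) * (q ^ 4 - 1) < q ^ 8 * q ^ 4 := by
      apply Nat.mul_lt_mul'' <;> omega
    calc (q ^ 8 - 1) * (q ^ 4 - 1) < q ^ 8 * q ^ 4 := this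
      _ = q ^ 12 := by ring
  have hr : q ^ 12 ≤ q ^ 8 * (q ^ 2 - 1) * (q ^ 18 - 1) := by
    have h4 : q ^ 4 ≤ q ^ 18 - 1 := by
      have : q ^ 4 < q ^ 18 := Nat.pow_lt_pow_right hq (by norm_num)
      omega
    have h5 : 1 ≤ q ^ 2 - 1 := by omega
    calc q ^ 12 = q ^ 8 * 1 * q ^ 4 := by ring
      _ ≤ q ^ 8 * (q ^ 2 - 1) * (q ^ 18 - 1) :=
        Nat.mul_le_mul (Nat.mul_le_mul_left _ h5) h4
  omega

end Cfsg.Agent.Helper8.E8Odd
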