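import Mathlib
import Cfsg.Agent.Helper8.E8OddE

set_option autoImplicit false
set_option linter.unusedSectionVars false
set_option linter.unusedVariables false

/-!
In `E₈(q)`, `q` odd, there are exactly two classes of involutions, with centralizers of orders
`q⁵⁶(q⁸ - 1)∏_{i=1}^7(q^{2i} - 1)` and `q⁶⁴(q² - 1)²(q⁶ - 1)(q⁸ - 1)(q¹⁰ - 1)(q¹² - 1)(q¹⁴ - 1)(q¹⁸ - 1)`.
-/

namespace Cfsg.Agent.Helper8.E8Odd

open Cfsg Cfsg.Lie Matrix Cfsg.Agent.Helper7 Cfsg.Agent.Helper7.Chev Cfsg.Agent.Helper8.G2Odd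
  Cfsg.Agent.Helper8.ChevOdd Cfsg.Agent.Helper8.ChevCz Cfsg.Agent.Helper8.G2Cz

variable {F : Type*} [Field F]

/-- The two classes of involutions of `E₈(q)`, `q` odd. -/
theorem involution_classes [Fintype F] (hF : Odd (Fintype.card F)) :
    ∃ s t : ↥(chevE8.group F), orderOf s = 2 ∧ orderOf t = 2 ∧ ¬ IsConj s t ∧
      (∀ u : ↥(chevE8.group F), orderOf u = 2 → IsConj u s ∨ IsConj u t) ∧
      Nat.card (Subgroup.centralizer ({s} : Set ↥(chevE8.group F))) =
        Fintype.card F ^ 56 * (Fintype.card F ^ 8 - 1) *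
          ∏ i ∈ Finset.Icc 1 7, (Fintype.card F ^ (2 * i) - 1) ∧
      Nat.card (Subgroup.centralizer ({t} : Set ↥(chevE8.group F))) =
        Fintype.card F ^ 64 * (Fintype.card F ^ 2 - 1) ^ 2 * (Fintype.card F ^ 6 - 1) *
          (Fintype.card F ^ 8 - 1) * (Fintype.card F ^ 10 - 1) * (Fintype.card F ^ 12 - 1) *
          (Fintype.card F ^ 14 - 1) * (Fintype.card F ^ 18 - 1) := by
  have h2 := F4Odd.two_ne_zero_of_odd hF
  have hcS := (F4Odd.card_centralizer_eq (zS_mem (K := F))).trans (card_CzSet_zS h2)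
  have hcT := (F4Odd.card_centralizer_eq (zT_mem (K := F))).trans (card_CzSet_zT h2)
  have hSne : zS F ≠ 1 := tSg_ne_one hE1 e8_ker h2 (by decide) (by decide)
  have hTne : zT F ≠ 1 := tSg_ne_one hE1 e8_ker h2 (by decide) (by decide)
  refine ⟨⟨zS F, zS_mem⟩, ⟨zT F, zT_mem⟩, ?_, ?_, ?_, ?_, hcS, hcT⟩
  · apply F4Odd.orderOf_two_of
    · intro h
      exact hSne (congrArg Subtype.val h)
    · exact Subtype.ext (tSg_sq 6)
  · apply F4Odd.orderOf_two_of
    · intro h
      exact hTne (congrArg Subtype.val h)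
    · exact Subtype.ext (tSg_sq 82)
  · intro hconj
    obtain ⟨g, hg⟩ := isConj_iff.mp hconj
    have e : (MulAut.conj g) (⟨zS F, zS_mem⟩ : ↥(chevE8.group F)) = ⟨zT F, zT_mem⟩ := by
      rw [MulAut.conj_apply]; exact hg
    have hmap := centralizer_map_equiv (MulAut.conj g) (⟨zS F, zS_mem⟩ : ↥(chevE8.group F))
    rw [e] at hmap
    have hcard : Nat.card (Subgroup.centralizer ({(⟨zT F, zT_mem⟩ : ↥(chevE8.group F))} :
        Set ↥(chevE8.group F))) = Nat.card (Subgroup.centralizer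
          ({(⟨zS F, zS_mem⟩ : ↥(chevE8.group F))} : Set ↥(chevE8.group F))) := by
      rw [hmap, Subgroup.card_map_of_injective (MulAut.conj g).injective]
    rw [hcS, hcT] at hcard
    have hq : 2 ≤ Fintype.card F := by
      have := Fintype.one_lt_card (α := F)
      omega
    exact card_ne _ hq hcard.symm
  · intro u hu
    have hu2 : (u : GL chevE8.Idx F) * u = 1 := by
      have h := pow_orderOf_eq_one u
      rw [hu, pow_two] at h
      exact congrArg Subtype.val h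
    have hu1 : (u : GL chevE8.Idx F) ≠ 1 := by
      intro e
      have h : u = 1 := Subtype.ext e
      rw [h, orderOf_one] at hu
      norm_num at hu
    obtain ⟨g₁, hg₁, hH⟩ := inv_conj_diagonal hF u.2 hu2
    have hne : g₁ * (u : GL chevE8.Idx F) * g₁⁻¹ ≠ 1 := by
      intro e
      apply hu1
      have : (u : GL chevE8.Idx F) = g₁⁻¹ * (g₁ * u * g₁⁻¹) * g₁ := by group
      rw [this, e]
      group
    obtain ⟨g₂, hg₂, e⟩ := hinv_conj hH (sq_conj hu2) hne
    have hgg : g₂ * g₁ ∈ chevE8.group F := mul_mem hg₂ hg₁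
    have hc : ∀ (z : GL chevE8.Idx F) (hzm : z ∈ chevE8.group F),
        g₂ * (g₁ * (u : GL chevE8.Idx F) * g₁⁻¹) * g₂⁻¹ = z →
        (⟨g₂ * g₁, hgg⟩ : ↥(chevE8.group F)) * u * (⟨g₂ * g₁, hgg⟩ : ↥(chevE8.group F))⁻¹ =
          ⟨z, hzm⟩ := by
      intro z hzm hz
      apply Subtype.ext
      change g₂ * g₁ * (u : GL chevE8.Idx F) * (g₂ * g₁)⁻¹ = z
      rw [← hz]
      group
    rcases e with e | e
    · left
      exact isConj_iff.mpr ⟨⟨g₂ * g₁, hgg⟩, hc _ zS_mem e⟩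
    · right
      exact isConj_iff.mpr ⟨⟨g₂ * g₁, hgg⟩, hc _ zT_mem e⟩

end Cfsg.Agent.Helper8.E8Odd
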