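import Cfsg.Agent.Helper8.EngelB

/-!
# Engel identity for groups of exponent `p`

`engel_of_exponent`: in a group of prime exponent `p` with `γ_{p+1} = 1`, every `(p-1)`-fold
commutator `⁅a, ⁅a, … ⁅a, b⁆⁆⁆` is trivial.  The proof passes to the relatively free group on two
generators (free group modulo `p`-th powers and `γ_{p+1}`), where the scaling endomorphisms
`x ↦ x`, `y ↦ y ^ l` exist.
-/

set_option autoImplicit false

namespace Cfsg.Agent.Helper8.Engel

open scoped commutatorElement
open Cfsg.Agent.Helper8.HP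

/-- The verbal subgroup of the free group on two generators defining the variety of groups of
exponent `p` and class at most `p`. -/
def verbal (p : ℕ) : Subgroup (FreeGroup (Fin 2)) :=
  Subgroup.normalClosure (Set.range fun g : FreeGroup (Fin 2) => g ^ p) ⊔
    (⊤ : Subgroup (FreeGroup (Fin 2))).lowerCentralSeries p

instance verbal_normal (p : ℕ) : (verbal p).Normal := by
  unfold verbal; infer_instance

theorem verbal_le_comap {H : Type*} [Group H] (p : ℕ) (f : FreeGroup (Fin 2) →* H)
    (K : Subgroup H) [K.Normal] (h1 : ∀ h : H, h ^ p ∈ K)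
    (h2 : (⊤ : Subgroup H).lowerCentralSeries p ≤ K) : verbal p ≤ K.comap f := by
  apply sup_le
  · apply Subgroup.normalClosure_le_normal
    rintro _ ⟨g, rfl⟩
    show f (g ^ p) ∈ K
    rw [map_pow]; exact h1 _
  · rw [← Subgroup.map_le_iff_le_comap, Subgroup.map_lowerCentralSeries]
    exact (Subgroup.lowerCentralSeries_mono p le_top).trans h2

/-- The relatively free group of exponent `p` and class at most `p` on two generators. -/
abbrev RelFree (p : ℕ) : Type := FreeGroup (Fin 2) ⧸ verbal p

/-- First generator. -/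
def gx (p : ℕ) : RelFree p := QuotientGroup.mk' (verbal p) (FreeGroup.of 0)

/-- Second generator. -/
def gy (p : ℕ) : RelFree p := QuotientGroup.mk' (verbal p) (FreeGroup.of 1)

theorem relFree_pow (p : ℕ) (r : RelFree p) : r ^ p = 1 := by
  obtain ⟨g, rfl⟩ := QuotientGroup.mk'_surjective (verbal p) r
  rw [← map_pow]
  exact (QuotientGroup.eq_one_iff _).2
    (Subgroup.mem_sup_left (Subgroup.subset_normalClosure ⟨g, rfl⟩))

theorem relFree_lcs (p : ℕ) : (⊤ : Subgroup (RelFree p)).lowerCentralSeries p = ⊥ := by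
  have h : (⊤ : Subgroup (RelFree p)) =
      (⊤ : Subgroup (FreeGroup (Fin 2))).map (QuotientGroup.mk' (verbal p)) := by
    rw [← MonoidHom.range_eq_map, MonoidHom.range_eq_top.2 (QuotientGroup.mk'_surjective _)]
  rw [h, ← Subgroup.map_lowerCentralSeries, Subgroup.map_eq_bot_iff, QuotientGroup.ker_mk']
  exact le_sup_right

theorem closure_gens (p : ℕ) : Subgroup.closure {gx p, gy p} = ⊤ := by
  rw [eq_top_iff]
  have h : (⊤ : Subgroup (RelFree p)) =
      (⊤ : Subgroup (FreeGroup (Fin 2))).map (QuotientGroup.mk' (verbal p)) := by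
    rw [← MonoidHom.range_eq_map, MonoidHom.range_eq_top.2 (QuotientGroup.mk'_surjective _)]
  rw [h, ← FreeGroup.closure_range_of, MonoidHom.map_closure]
  apply Subgroup.closure_mono
  rintro _ ⟨_, ⟨i, rfl⟩, rfl⟩
  fin_cases i
  · left; rfl
  · right; rfl

/-- The scaling endomorphism of the free group. -/
def scaleFree (l : ℕ) : FreeGroup (Fin 2) →* FreeGroup (Fin 2) :=
  FreeGroup.lift ![FreeGroup.of 0, FreeGroup.of 1 ^ l]

/-- The scaling endomorphism `x ↦ x`, `y ↦ y ^ l` of the relatively free group. -/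
def scale (p l : ℕ) : RelFree p →* RelFree p :=
  QuotientGroup.map (verbal p) (verbal p) (scaleFree l)
    (verbal_le_comap p _ (verbal p)
      (fun h => Subgroup.mem_sup_left (Subgroup.subset_normalClosure ⟨h, rfl⟩)) le_sup_right)

theorem scale_gx (p l : ℕ) : scale p l (gx p) = gx p := by
  simp [scale, gx, scaleFree]

theorem scale_gy (p l : ℕ) : scale p l (gy p) = gy p ^ l := by
  simp [scale, gy, scaleFree]

/-- The homomorphism from the relatively free group to a group of exponent `p` and class at most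
`p` with prescribed images of the generators. -/
def toGroup {H : Type*} [Group H] (p : ℕ) (hexp : ∀ h : H, h ^ p = 1)
    (hcl : (⊤ : Subgroup H).lowerCentralSeries p = ⊥) (a b : H) : RelFree p →* H :=
  QuotientGroup.lift (verbal p) (FreeGroup.lift ![a, b]) (by
    rw [← MonoidHom.comap_bot]
    exact verbal_le_comap p _ ⊥ (fun h => by rw [hexp h]; exact one_mem _) hcl.le)

theorem toGroup_gx {H : Type*} [Group H] (p : ℕ) (hexp : ∀ h : H, h ^ p = 1)
    (hcl : (⊤ : Subgroup H).lowerCentralSeries p = ⊥) (a b : H) :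
    toGroup p hexp hcl a b (gx p) = a := by
  simp [toGroup, gx]

theorem toGroup_gy {H : Type*} [Group H] (p : ℕ) (hexp : ∀ h : H, h ^ p = 1)
    (hcl : (⊤ : Subgroup H).lowerCentralSeries p = ⊥) (a b : H) :
    toGroup p hexp hcl a b (gy p) = b := by
  simp [toGroup, gy]

theorem exists_primitive_root (p : ℕ) [Fact p.Prime] : ∃ l : ℕ, orderOf (l : ZMod p) = p - 1 := by
  obtain ⟨g, hg⟩ := IsCyclic.exists_generator (α := (ZMod p)ˣ)
  refine ⟨(g : ZMod p).val, ?_⟩
  rw [ZMod.natCast_zmod_val, orderOf_units, orderOf_eq_card_of_forall_mem_zpowers hg,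
    Nat.card_eq_fintype_card, ZMod.card_units]

/-- **Engel identity**: in a group of prime exponent `p` with `γ_{p+1} = 1`, every `(p-1)`-fold
commutator `⁅a, ⁅a, … ⁅a, b⁆⁆⁆` is trivial. -/
theorem engel_of_exponent {H : Type*} [Group H] {p : ℕ} (hp : p.Prime) (hexp : ∀ h : H, h ^ p = 1)
    (hcl : (⊤ : Subgroup H).lowerCentralSeries p = ⊥) (a b : H) : adIter a (p - 1) b = 1 := by
  have _ : Fact p.Prime := ⟨hp⟩
  obtain ⟨l, hl⟩ := exists_primitive_root p
  have h := engel_of_endo hp (relFree_pow p) (relFree_lcs p) (gx p) (gy p) (closure_gens p) l hl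
    (scale p l) (scale_gx p l) (scale_gy p l)
  have h' := congrArg (toGroup p hexp hcl a b) h
  rwa [map_adIter, toGroup_gx, toGroup_gy, map_one] at h'

end Cfsg.Agent.Helper8.Engel
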