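import Cfsg.Agent.Helper8.MCA
import Cfsg.Agent.Helper4.ThreeSubgroups

/-!
# Engel identity for groups of exponent `p`, part A: general commutator lemmas

* `norm_formula'`: the first-order norm formula of `MCA` without the superfluous hypothesis.
* `comm_pow_right`, `comm_pow_left`, `comm_mul_left_of_commute`, `comm_mul_right_of_commute`.
* `commutator_closure_le'`: commutators of generators generate the commutator modulo a normal
  subgroup.
* `adIter_pow_mod`: `ad_x^k (y^l) ≡ (ad_x^k y)^l` modulo `γ_{k+2}`.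
* `graded_endo`: an endomorphism acting on `N / N'` as the `l`-th power acts on
  `γ_b(N) / γ_{b+1}(N)` as the `l^b`-th power.
-/

set_option autoImplicit false

namespace Cfsg.Agent.Helper8.Engel

open scoped commutatorElement
open Cfsg.Agent.Helper8.HP Cfsg.Agent.Helper8.MC

/-- The first-order norm formula (no bottom hypothesis). -/
theorem norm_formula' {G : Type*} [Group G] {p : ℕ} (hp : p.Prime) (T : ℕ → Subgroup G) (s : G)
    (hanti : Antitone T) (hcomm : ∀ i j, 1 ≤ i → 1 ≤ j → ⁅T i, T j⁆ ≤ T (i + j + 1))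
    (hs : ∀ j, 1 ≤ j → ∀ x ∈ T j, ⁅s, x⁆ ∈ T (j + 1)) {t : G} (ht : t ∈ T 1) :
    ∃ a ∈ agemo p (T 2), ∃ e ∈ T (p + 1),
      s ^ p * (s⁻¹ * t) ^ p = t ^ p * a * ((fun x => ⁅s, x⁆)^[p - 1] t * e) := by
  have hF := isFilt_thetaF hanti hcomm
  have h2 := hp.two_le
  have hval : ∀ n, normSeq s t n ∈ T 1 := by
    intro n
    induction n with
    | zero => simp [normSeq]
    | succ n ih =>
      rw [normSeq_succ]
      exact mul_mem (conjSeq_mem hs hanti le_rfl ht n) ih
  have hpoly : IsPolyAll (thetaF T) 1 (normSeq s t) := by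
    intro k
    cases k with
    | zero => intro n; rw [thetaF_of_le_one T le_rfl]; exact hval n
    | succ k =>
      refine ⟨fun n => by rw [thetaF_of_le_one T le_rfl]; exact hval n, ?_⟩
      rw [D_normSeq]
      exact isPoly_conjSeq_theta hs hanti k 1 le_rfl t ht
  obtain ⟨hc1, hc2, hc3⟩ := taylor_symbol' hF le_rfl hpoly
  set c := coeff (normSeq s t) with hc
  have hc0 : c 0 = 1 := by simp [hc, coeff, rem, normSeq]
  have hc1' : c 1 = t := by simp [hc, coeff, rem, normSeq]
  have hcm : ∀ m, 1 ≤ m → c m ∈ T m := by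
    intro m hm
    have := hc1 m
    rwa [show 1 + m = m + 1 by omega, thetaF_succ T hm] at this
  have hDp : (D^[p] (normSeq s t)) 0 = (fun x => ⁅s, x⁆)^[p - 1] t := by
    obtain ⟨q, rfl⟩ : ∃ q, p = q + 1 := ⟨p - 1, by omega⟩
    rw [Function.iterate_succ_apply, D_normSeq, iterate_D_conjSeq]
    simp [adIter]
  have he : ((fun x => ⁅s, x⁆)^[p - 1] t)⁻¹ * c p ∈ T (p + 1) := by
    have := hc2 p
    rwa [hDp, show 1 + p + 1 = (p + 1) + 1 by omega, thetaF_succ T (by omega)] at this
  have hmid : (tprod c p 2)⁻¹ * tprod c p ((p - 2) + 2) ∈ agemo p (T 2) := by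
    apply tprod_two_mul
    intro i hi2 hip
    obtain ⟨m, hm⟩ := hp.dvd_choose_self (by omega : i ≠ 0) (by omega : i < p)
    rw [hm, mul_comm, pow_mul]
    exact pow_mem_agemo p (pow_mem (hanti hi2 (hcm i (by omega))) m)
  have h22 : tprod c p 2 = t ^ p := by
    simp [tprod_succ, hc0, hc1']
  rw [show p - 2 + 2 = p by omega, h22] at hmid
  refine ⟨_, hmid, _, he, ?_⟩
  have hN : s ^ p * (s⁻¹ * t) ^ p = tprod c p (p + 1) := hc3 p
  rw [hN, tprod_succ, Nat.choose_self, pow_one]
  group

section basic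
variable {G : Type*} [Group G]

theorem comm_mul_right_eq (a u v : G) : ⁅a, u * v⁆ = ⁅a, u⁆ * (u * ⁅a, v⁆ * u⁻¹) := by
  simp only [commutatorElement_def]; group

theorem comm_mul_left_eq (u v a : G) : ⁅u * v, a⁆ = u * ⁅v, a⁆ * u⁻¹ * ⁅u, a⁆ := by
  simp only [commutatorElement_def]; group

theorem comm_inv_right_eq (a u : G) : ⁅a, u⁻¹⁆ = u⁻¹ * ⁅a, u⁆⁻¹ * u := by
  simp only [commutatorElement_def]; group

theorem comm_inv_left_eq (u a : G) : ⁅u⁻¹, a⁆ = u⁻¹ * ⁅u, a⁆⁻¹ * u := by
  simp only [commutatorElement_def]; group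

/-- If `⁅a, n⁆` commutes with `n` then `⁅a, n ^ m⁆ = ⁅a, n⁆ ^ m`. -/
theorem comm_pow_right {a n : G} (h : Commute ⁅a, n⁆ n) (m : ℕ) : ⁅a, n ^ m⁆ = ⁅a, n⁆ ^ m := by
  induction m with
  | zero => simp
  | succ m ih =>
    rw [pow_succ, comm_mul_right_eq, ih, pow_succ]
    congr 1
    have h2 : Commute (n ^ m) ⁅a, n⁆ := (h.pow_right m).symm
    rw [h2.eq, mul_assoc, mul_inv_cancel, mul_one]

/-- If `⁅a, n⁆` commutes with `a` then `⁅a ^ m, n⁆ = ⁅a, n⁆ ^ m`. -/
theorem comm_pow_left {a n : G} (h : Commute ⁅a, n⁆ a) (m : ℕ) : ⁅a ^ m, n⁆ = ⁅a, n⁆ ^ m := by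
  induction m with
  | zero => simp
  | succ m ih =>
    rw [pow_succ, comm_mul_left_eq, ih, pow_succ']
    congr 1
    have h2 : Commute (a ^ m) ⁅a, n⁆ := (h.pow_right m).symm
    rw [h2.eq, mul_assoc, mul_inv_cancel, mul_one]

theorem comm_mul_left_of_commute {z a m : G} (h1 : Commute z m) (h2 : Commute z ⁅a, m⁆) :
    ⁅z * a, m⁆ = ⁅a, m⁆ := by
  rw [comm_mul_left_eq, (commutatorElement_eq_one_iff_commute).2 h1, mul_one, h2.eq, mul_assoc,
    mul_inv_cancel, mul_one]

theorem comm_mul_right_of_commute {a z m : G} (h1 : Commute a z) (h2 : Commute z ⁅a, m⁆) :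
    ⁅a, z * m⁆ = ⁅a, m⁆ := by
  rw [comm_mul_right_eq, (commutatorElement_eq_one_iff_commute).2 h1, one_mul, h2.eq, mul_assoc,
    mul_inv_cancel, mul_one]

/-- Commutators of generators control the commutator of the closures, modulo a normal subgroup. -/
theorem commutator_closure_le' {S T : Set G} {K : Subgroup G} [hK : K.Normal]
    (h : ∀ s ∈ S, ∀ t ∈ T, ⁅s, t⁆ ∈ K) : ⁅Subgroup.closure S, Subgroup.closure T⁆ ≤ K := by
  have h1 : ∀ t ∈ T, ∀ a ∈ Subgroup.closure S, ⁅a, t⁆ ∈ K := by
    intro t ht a ha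
    induction ha using Subgroup.closure_induction with
    | mem x hx => exact h x hx t ht
    | one => simp
    | mul x y _ _ ihx ihy =>
      rw [comm_mul_left_eq]
      exact mul_mem (hK.conj_mem _ ihy x) ihx
    | inv x _ ihx =>
      rw [comm_inv_left_eq]
      have := hK.conj_mem _ (inv_mem ihx) x⁻¹
      rwa [inv_inv] at this
  rw [Subgroup.commutator_le]
  intro a ha b hb
  induction hb using Subgroup.closure_induction with
  | mem x hx => exact h1 x hx a ha
  | one => simp
  | mul x y _ _ ihx ihy =>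
    rw [comm_mul_right_eq]
    exact mul_mem ihx (hK.conj_mem _ ihy x)
  | inv x _ ihx =>
    rw [comm_inv_right_eq]
    have := hK.conj_mem _ (inv_mem ihx) x⁻¹
    rwa [inv_inv] at this

theorem map_adIter {H : Type*} [Group H] (f : G →* H) (x : G) (k : ℕ) (y : G) :
    f (adIter x k y) = adIter (f x) k (f y) := by
  induction k with
  | zero => simp
  | succ k ih => rw [adIter_succ', adIter_succ', map_commutatorElement, ih]

theorem adIter_mem_lcs (x y : G) (k : ℕ) :
    adIter x k y ∈ (⊤ : Subgroup G).lowerCentralSeries k := by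
  induction k with
  | zero => simp
  | succ k ih =>
    rw [adIter_succ', Subgroup.lowerCentralSeries_succ, Subgroup.commutator_comm]
    exact Subgroup.commutator_mem_commutator (Subgroup.mem_top x) ih

/-- Commuting in a quotient. -/
theorem commute_mk_of_comm_mem (K : Subgroup G) [K.Normal] {a b : G} (h : ⁅a, b⁆ ∈ K) :
    Commute (QuotientGroup.mk' K a) (QuotientGroup.mk' K b) := by
  rw [← commutatorElement_eq_one_iff_commute, ← map_commutatorElement]
  exact (QuotientGroup.eq_one_iff _).2 h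

end basic

section lcs
variable {G : Type*} [Group G]

theorem comm_mem_lcs_succ (x : G) {k : ℕ} {u : G}
    (hu : u ∈ (⊤ : Subgroup G).lowerCentralSeries k) :
    ⁅x, u⁆ ∈ (⊤ : Subgroup G).lowerCentralSeries (k + 1) := by
  rw [Subgroup.lowerCentralSeries_succ, Subgroup.commutator_comm]
  exact Subgroup.commutator_mem_commutator (Subgroup.mem_top x) hu

/-- `⁅x, u ^ l⁆ ≡ ⁅x, u⁆ ^ l` modulo `γ_{k+3}` for `u ∈ γ_{k+1}`. -/
theorem comm_pow_mod_lcs (x : G) {k : ℕ} {u : G}
    (hu : u ∈ (⊤ : Subgroup G).lowerCentralSeries k) (l : ℕ) :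
    (⁅x, u⁆ ^ l)⁻¹ * ⁅x, u ^ l⁆ ∈ (⊤ : Subgroup G).lowerCentralSeries (k + 2) := by
  set K := (⊤ : Subgroup G).lowerCentralSeries (k + 2) with hK
  have h1 : ⁅⁅x, u⁆, u⁆ ∈ K := by
    rw [hK, Subgroup.lowerCentralSeries_succ]
    exact Subgroup.commutator_mem_commutator (comm_mem_lcs_succ x hu) (Subgroup.mem_top u)
  have h2 := commute_mk_of_comm_mem K h1
  rw [map_commutatorElement] at h2
  have h3 := comm_pow_right h2 l
  rw [← map_pow, ← map_commutatorElement, ← map_commutatorElement, ← map_pow] at h3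
  simp only [QuotientGroup.mk'_apply] at h3
  exact QuotientGroup.eq.1 h3.symm

/-- `ad_x^k (y^l) ≡ (ad_x^k y)^l` modulo `γ_{k+2}`. -/
theorem adIter_pow_mod (x y : G) (l : ℕ) : ∀ k, ∃ c ∈ (⊤ : Subgroup G).lowerCentralSeries (k + 1),
    adIter x k (y ^ l) = (adIter x k y) ^ l * c := by
  intro k
  induction k with
  | zero => exact ⟨1, one_mem _, by simp⟩
  | succ k ih =>
    obtain ⟨c, hc, hk⟩ := ih
    have hu' : adIter x k y ∈ (⊤ : Subgroup G).lowerCentralSeries k := adIter_mem_lcs x y k
    have hn : ((⊤ : Subgroup G).lowerCentralSeries (k + 2)).Normal := inferInstance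
    refine ⟨(⁅x, adIter x k y⁆ ^ l)⁻¹ * ⁅x, (adIter x k y) ^ l⁆ *
      ((adIter x k y) ^ l * ⁅x, c⁆ * ((adIter x k y) ^ l)⁻¹),
      mul_mem (comm_pow_mod_lcs x hu' l) (hn.conj_mem _ (comm_mem_lcs_succ x hc) _), ?_⟩
    rw [adIter_succ', hk, adIter_succ', comm_mul_right_eq]
    group

/-- An endomorphism `θ` stabilizing the normal subgroup `N` and acting on `N / N'` as the `l`-th
power acts on `γ_{b+1}(N) / γ_{b+2}(N)` as the `l^(b+1)`-th power. -/
theorem graded_endo (N : Subgroup G) [hN : N.Normal] (θ : G →* G)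
    (hθ : ∀ g ∈ N, θ g ∈ N) (l : ℕ)
    (h1 : ∀ g ∈ N, θ g * (g ^ l)⁻¹ ∈ N.lowerCentralSeries 1) :
    ∀ b, ∀ g ∈ N.lowerCentralSeries b,
      θ g * (g ^ (l ^ (b + 1)))⁻¹ ∈ N.lowerCentralSeries (b + 1) := by
  intro b
  induction b with
  | zero => intro g hg; simpa using h1 g hg
  | succ b ih =>
    set K := N.lowerCentralSeries (b + 2) with hK
    have hKn : K.Normal := inferInstance
    have hi : ∀ h ∈ N.lowerCentralSeries (b + 1), ∀ m ∈ N,
        Commute (QuotientGroup.mk' K h) (QuotientGroup.mk' K m) := by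
      intro h hh m hm
      exact commute_mk_of_comm_mem K (Subgroup.commutator_mem_commutator hh hm)
    have hii : ∀ g ∈ N.lowerCentralSeries b, ∀ v ∈ N.lowerCentralSeries 1,
        Commute (QuotientGroup.mk' K g) (QuotientGroup.mk' K v) := by
      intro g hg v hv
      apply commute_mk_of_comm_mem K
      have := Cfsg.Agent.Helper4.commutator_lowerCentralSeries_le
        (fun i => N.lowerCentralSeries i) (fun i => inferInstance) N (fun i => le_rfl) 1 b
      exact this (Subgroup.commutator_mem_commutator hg hv)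
    have hle : ∀ i, N.lowerCentralSeries i ≤ N := fun i => Subgroup.lowerCentralSeries_le_self N i
    have key : ∀ h ∈ N.lowerCentralSeries (b + 1),
        QuotientGroup.mk' K (θ h) = QuotientGroup.mk' K h ^ (l ^ (b + 2)) := by
      intro h hh
      have hh' := hh
      rw [Subgroup.lowerCentralSeries_succ, Subgroup.commutator_def] at hh'
      induction hh' using Subgroup.closure_induction with
      | mem x hx =>
        obtain ⟨g, hg, n, hn, rfl⟩ := hx
        -- decompose θ g and θ n
        have hz1 := ih g hg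
        have hz2 := h1 n hn
        set z1 := θ g * (g ^ (l ^ (b + 1)))⁻¹ with hz1d
        set z2 := θ n * (n ^ l)⁻¹ with hz2d
        have e1 : θ g = z1 * g ^ (l ^ (b + 1)) := by rw [hz1d]; group
        have e2 : θ n = z2 * n ^ l := by rw [hz2d]; group
        have hgk : g ^ (l ^ (b + 1)) ∈ N.lowerCentralSeries b := pow_mem hg _
        have hθn : θ n ∈ N := hθ n hn
        rw [map_commutatorElement, map_commutatorElement, e1, map_mul, comm_mul_left_of_commute
          (hi z1 hz1 (θ n) hθn)]
        · rw [e2, map_mul, comm_mul_right_of_commute (hii _ hgk z2 hz2)]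
          · rw [map_pow, map_pow, comm_pow_right, comm_pow_left, ← pow_mul, ← pow_succ,
              map_commutatorElement]
            · rw [← map_commutatorElement]
              exact hi _ (Subgroup.commutator_mem_commutator hg hn) g (hle b hg)
            · rw [← map_pow, ← map_commutatorElement]
              exact hi _ (Subgroup.commutator_mem_commutator hgk hn) n hn
          · rw [← map_commutatorElement]
            exact (hi _ (Subgroup.commutator_mem_commutator hgk (pow_mem hn l)) z2
              (hle 1 hz2)).symm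
        · rw [← map_commutatorElement]
          exact (hi _ (Subgroup.commutator_mem_commutator hgk hθn) z1 (hle _ hz1)).symm
      | one => simp
      | mul x y hx hy ihx ihy =>
        have hx' : x ∈ N.lowerCentralSeries (b + 1) := by
          rw [Subgroup.lowerCentralSeries_succ, Subgroup.commutator_def]; exact hx
        have hy' : y ∈ N.lowerCentralSeries (b + 1) := by
          rw [Subgroup.lowerCentralSeries_succ, Subgroup.commutator_def]; exact hy
        rw [map_mul, map_mul, ihx hx', ihy hy', map_mul, (hi x hx' y (hle _ hy')).mul_pow]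
      | inv x hx ihx =>
        have hx' : x ∈ N.lowerCentralSeries (b + 1) := by
          rw [Subgroup.lowerCentralSeries_succ, Subgroup.commutator_def]; exact hx
        rw [map_inv, map_inv, ihx hx', map_inv, inv_pow]
    intro g hg
    have h := key g hg
    rw [← map_pow] at h
    have h' : QuotientGroup.mk' K (θ g * (g ^ (l ^ (b + 1 + 1)))⁻¹) = 1 := by
      rw [map_mul, map_inv, h, mul_inv_cancel]
    exact (QuotientGroup.eq_one_iff _).1 h'

end lcs

end Cfsg.Agent.Helper8.Engel
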