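import Cfsg.Agent.Helper8.EngelA

/-!
# Engel identity for groups of exponent `p`, part B: the scaling argument

`engel_of_endo`: in a group of exponent `p` and class at most `p` generated by `x, y` which has an
endomorphism `x ↦ x`, `y ↦ y ^ l` with `l` a primitive root modulo `p`, the `(p-1)`-fold
commutator `⁅x, ⁅x, … ⁅x, y⁆⁆⁆` is trivial.
-/

set_option autoImplicit false

namespace Cfsg.Agent.Helper8.Engel

open scoped commutatorElement
open Cfsg.Agent.Helper8.HP Cfsg.Agent.Helper8.MC

section
variable {R : Type*} [Group R]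

/-- An endomorphism with `θ y = y ^ l` stabilizes the normal closure of `y`. -/
theorem map_normalClosure_mem (θ : R →* R) {y : R} {l : ℕ} (hy : θ y = y ^ l) :
    ∀ g ∈ Subgroup.normalClosure ({y} : Set R), θ g ∈ Subgroup.normalClosure ({y} : Set R) := by
  intro g hg
  have h : Subgroup.normalClosure ({y} : Set R) ≤
      (Subgroup.normalClosure ({y} : Set R)).comap θ := by
    apply Subgroup.normalClosure_le_normal
    intro z hz
    rw [Set.mem_singleton_iff] at hz
    rw [hz]
    show θ y ∈ Subgroup.normalClosure ({y} : Set R)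
    rw [hy]
    exact pow_mem (Subgroup.subset_normalClosure (Set.mem_singleton _)) l
  exact h hg

/-- `γ_{b+1}(N) ≤ γ_{b+2}(R)` for `N` the normal closure of one element, `b ≥ 1`. -/
theorem normalClosure_lcs_le (y : R) : ∀ b, 1 ≤ b →
    (Subgroup.normalClosure ({y} : Set R)).lowerCentralSeries b ≤
      (⊤ : Subgroup R).lowerCentralSeries (b + 1) := by
  intro b hb
  induction b, hb using Nat.le_induction with
  | base =>
    set M := Subgroup.closure ({y} ∪ ((⊤ : Subgroup R).lowerCentralSeries 1 : Set R)) with hM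
    have hMn : M.Normal := by
      refine ⟨fun m hm g => ?_⟩
      have e : g * m * g⁻¹ = ⁅g, m⁆ * m := by simp only [commutatorElement_def]; group
      rw [e]
      refine mul_mem (Subgroup.subset_closure (Or.inr ?_)) hm
      have := comm_mem_lcs_succ g (k := 0) (u := m) (by simp)
      simpa using this
    have hNM : Subgroup.normalClosure ({y} : Set R) ≤ M := by
      apply Subgroup.normalClosure_le_normal
      intro z hz
      exact Subgroup.subset_closure (Or.inl hz)
    have hMM : ⁅M, M⁆ ≤ (⊤ : Subgroup R).lowerCentralSeries 2 := by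
      apply commutator_closure_le'
      intro s hs t ht
      rcases hs with hs | hs
      · rcases ht with ht | ht
        · rw [Set.mem_singleton_iff] at hs ht
          subst hs; subst ht
          simp
        · exact comm_mem_lcs_succ s ht
      · rw [Subgroup.lowerCentralSeries_succ]
        exact Subgroup.commutator_mem_commutator hs (Subgroup.mem_top t)
    calc (Subgroup.normalClosure ({y} : Set R)).lowerCentralSeries 1
        = ⁅Subgroup.normalClosure ({y} : Set R), Subgroup.normalClosure ({y} : Set R)⁆ := rfl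
      _ ≤ ⁅M, M⁆ := Subgroup.commutator_mono hNM hNM
      _ ≤ _ := hMM
  | succ b _ ih =>
    rw [Subgroup.lowerCentralSeries_succ, Subgroup.lowerCentralSeries_succ]
    exact Subgroup.commutator_mono ih le_top

/-- In a group of exponent `p` and class at most `p`, the `(p-1)`-fold commutator of `x` into `y`
lies in the derived subgroup of the normal closure of `y`. -/
theorem adIter_mem_commutator_normalClosure {p : ℕ} (hp : p.Prime) (hexp : ∀ g : R, g ^ p = 1)
    (hcl : (⊤ : Subgroup R).lowerCentralSeries p = ⊥) (x y : R) :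
    adIter x (p - 1) y ∈ (Subgroup.normalClosure ({y} : Set R)).lowerCentralSeries 1 := by
  set N := Subgroup.normalClosure ({y} : Set R) with hN
  have hNn : N.Normal := Subgroup.normalClosure_normal
  set N' := N.lowerCentralSeries 1 with hN'
  have hN'n : N'.Normal := inferInstance
  have hN'N : N' ≤ N := Subgroup.lowerCentralSeries_le_self N 1
  let T : ℕ → Subgroup R := fun j => (N ⊓ (⊤ : Subgroup R).lowerCentralSeries (j - 1)) ⊔ N'
  have hanti : Antitone T := fun i j hij =>
    sup_le_sup_right (inf_le_inf_left _ (Subgroup.lowerCentralSeries_antitone _ (by omega))) _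
  have hTN : ∀ j, T j ≤ N := fun j => sup_le inf_le_left hN'N
  have hcomm : ∀ i j, 1 ≤ i → 1 ≤ j → ⁅T i, T j⁆ ≤ T (i + j + 1) := fun i j _ _ =>
    (Subgroup.commutator_mono (hTN i) (hTN j)).trans le_sup_right
  have hxN : ∀ a ∈ N, ⁅x, a⁆ ∈ N := by
    intro a ha
    rw [commutatorElement_def]
    exact mul_mem (hNn.conj_mem a ha x) (inv_mem ha)
  have hxN' : ∀ a ∈ N', ⁅x, a⁆ ∈ N' := by
    intro a ha
    rw [commutatorElement_def]
    exact mul_mem (hN'n.conj_mem a ha x) (inv_mem ha)
  have hs : ∀ j, 1 ≤ j → ∀ g ∈ T j, ⁅x, g⁆ ∈ T (j + 1) := by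
    intro j hj g hg
    have hg' : g ∈ (↑((N ⊓ (⊤ : Subgroup R).lowerCentralSeries (j - 1)) ⊔ N') : Set R) := hg
    rw [Subgroup.mul_normal] at hg'
    obtain ⟨a, ha, b, hb, rfl⟩ := Set.mem_mul.1 hg'
    rw [comm_mul_right_eq]
    refine mul_mem (Subgroup.mem_sup_left ⟨hxN a ha.1, ?_⟩) (Subgroup.mem_sup_right ?_)
    · have := comm_mem_lcs_succ x ha.2
      rwa [show j - 1 + 1 = j + 1 - 1 by omega] at this
    · exact hN'n.conj_mem _ (hxN' b hb) a
  have ht : y ∈ T 1 :=
    Subgroup.mem_sup_left ⟨Subgroup.subset_normalClosure (Set.mem_singleton _), by simp⟩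
  obtain ⟨a, ha, e, he, h⟩ := norm_formula' hp T x hanti hcomm hs ht
  have ha1 : a = 1 := by
    have hle : agemo p (T 2) ≤ ⊥ := by
      rw [agemo, Subgroup.closure_le]
      rintro z ⟨h, _, rfl⟩
      simp [hexp h]
    simpa using hle ha
  have he' : e ∈ N' := by
    have : T (p + 1) = N' := by
      show (N ⊓ (⊤ : Subgroup R).lowerCentralSeries (p + 1 - 1)) ⊔ N' = N'
      rw [show p + 1 - 1 = p by omega, hcl, inf_bot_eq, bot_sup_eq]
    rwa [this] at he
  rw [hexp x, hexp (x⁻¹ * y), hexp y, ha1] at h
  have hw : adIter x (p - 1) y = e⁻¹ := by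
    have h' : (1 : R) = adIter x (p - 1) y * e := by simpa [adIter] using h
    exact eq_inv_of_mul_eq_one_left h'.symm
  rw [hw]
  exact inv_mem he'

/-- The endomorphism `x ↦ x`, `y ↦ y ^ l` acts on `N / N'` as the `l`-th power. -/
theorem endo_mod_commutator (x y : R) (htop : Subgroup.closure {x, y} = ⊤) (θ : R →* R) (l : ℕ)
    (hx : θ x = x) (hy : θ y = y ^ l) :
    ∀ g ∈ Subgroup.normalClosure ({y} : Set R),
      θ g * (g ^ l)⁻¹ ∈ (Subgroup.normalClosure ({y} : Set R)).lowerCentralSeries 1 := by
  set N := Subgroup.normalClosure ({y} : Set R) with hN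
  have hNn : N.Normal := Subgroup.normalClosure_normal
  set N' := N.lowerCentralSeries 1 with hN'
  have hN'n : N'.Normal := inferInstance
  have hyN : y ∈ N := Subgroup.subset_normalClosure (Set.mem_singleton _)
  have hmodN : ∀ c : R, c⁻¹ * θ c ∈ N := by
    have hhom : (QuotientGroup.mk' N).comp θ = QuotientGroup.mk' N := by
      apply MonoidHom.eq_of_eqOn_dense htop
      intro z hz
      rcases hz with rfl | hz
      · simp [hx]
      · rw [Set.mem_singleton_iff] at hz
        rw [hz]
        have e1 : QuotientGroup.mk' N (y ^ l) = 1 := (QuotientGroup.eq_one_iff _).2 (pow_mem hyN l)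
        have e2 : QuotientGroup.mk' N y = 1 := (QuotientGroup.eq_one_iff _).2 hyN
        rw [MonoidHom.comp_apply, hy, e1, e2]
    intro c
    have := DFunLike.congr_fun hhom c
    rw [MonoidHom.comp_apply] at this
    simp only [QuotientGroup.mk'_apply] at this
    exact QuotientGroup.eq.1 this.symm
  have hcommN : ∀ a ∈ N, ∀ b ∈ N,
      Commute (QuotientGroup.mk' N' a) (QuotientGroup.mk' N' b) := fun a ha b hb =>
    commute_mk_of_comm_mem N' (Subgroup.commutator_mem_commutator ha hb)
  have key : ∀ g ∈ N, QuotientGroup.mk' N' (θ g) = QuotientGroup.mk' N' g ^ l := by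
    intro g hg
    have hg' : g ∈ Subgroup.closure (Group.conjugatesOfSet ({y} : Set R)) := hg
    induction hg' using Subgroup.closure_induction with
    | mem z hz =>
      obtain ⟨a, ha, hconj⟩ := Group.mem_conjugatesOfSet_iff.1 hz
      rw [Set.mem_singleton_iff] at ha
      rw [ha] at hconj
      obtain ⟨c, rfl⟩ := isConj_iff.1 hconj
      have hn := hmodN c
      set n := c⁻¹ * θ c with hnd
      have e1 : θ c = c * n := by rw [hnd]; group
      have hc1 : Commute (QuotientGroup.mk' N' n) (QuotientGroup.mk' N' y ^ l) :=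
        (hcommN n hn y hyN).pow_right l
      have e0 : θ (c * y * c⁻¹) = c * n * y ^ l * (c * n)⁻¹ := by
        rw [map_mul, map_mul, map_inv, hy, e1]
      rw [e0]
      simp only [map_mul, map_inv, map_pow]
      rw [conj_pow]
      have h3 := hc1.eq
      generalize QuotientGroup.mk' N' c = C at *
      generalize QuotientGroup.mk' N' n = Nn at *
      generalize QuotientGroup.mk' N' y ^ l = A at *
      rw [mul_inv_rev, mul_assoc C Nn A, h3]
      group
    | one => simp
    | mul a b ha hb iha ihb =>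
      rw [map_mul, map_mul, iha ha, ihb hb, map_mul, (hcommN a ha b hb).mul_pow]
    | inv a ha iha =>
      rw [map_inv, map_inv, iha ha, map_inv, inv_pow]
  intro g hg
  have h := key g hg
  rw [← map_pow] at h
  have h' : QuotientGroup.mk' N' (θ g * (g ^ l)⁻¹) = 1 := by
    rw [map_mul, map_inv, h, mul_inv_cancel]
  exact (QuotientGroup.eq_one_iff _).1 h'

theorem mem_of_zpow_mem_of_coprime {H : Subgroup R} {w : R} {p : ℕ} (hwp : w ^ p = 1) {d : ℤ}
    (hd : IsCoprime (p : ℤ) d) (h : w ^ d ∈ H) : w ∈ H := by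
  obtain ⟨u, v, huv⟩ := hd
  have e : w = (w ^ d) ^ v := by
    calc w = w ^ (1 : ℤ) := (zpow_one w).symm
      _ = w ^ (u * (p : ℤ) + v * d) := by rw [huv]
      _ = (w ^ d) ^ v := by
        rw [zpow_add, zpow_mul', zpow_natCast, hwp, one_zpow, one_mul, zpow_mul']
  rw [e]
  exact zpow_mem h v

end

theorem isCoprime_sub_pow {p l b : ℕ} (hp : p.Prime) (hl : orderOf (l : ZMod p) = p - 1)
    (hb1 : 1 ≤ b) (hb : b < p - 1) : IsCoprime (p : ℤ) ((l : ℤ) - (l : ℤ) ^ (b + 1)) := by
  have _ : Fact p.Prime := ⟨hp⟩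
  rw [(Nat.prime_iff_prime_int.mp hp).coprime_iff_not_dvd,
    ← ZMod.intCast_zmod_eq_zero_iff_dvd]
  push_cast
  have ha1 : (l : ZMod p) ^ (p - 1) = 1 := by rw [← hl]; exact pow_orderOf_eq_one _
  have ha0 : (l : ZMod p) ≠ 0 := by
    intro h0
    rw [h0, zero_pow (by omega)] at ha1
    exact zero_ne_one ha1
  have hab : (l : ZMod p) ^ b ≠ 1 := pow_ne_one_of_lt_orderOf (by omega) (by rw [hl]; exact hb)
  rw [pow_succ', ← mul_one_sub]
  exact mul_ne_zero ha0 (sub_ne_zero.2 (Ne.symm hab))

/-- **Engel identity with a scaling endomorphism.** -/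
theorem engel_of_endo {R : Type*} [Group R] {p : ℕ} (hp : p.Prime) (hexp : ∀ g : R, g ^ p = 1)
    (hcl : (⊤ : Subgroup R).lowerCentralSeries p = ⊥) (x y : R)
    (htop : Subgroup.closure {x, y} = ⊤) (l : ℕ) (hl : orderOf (l : ZMod p) = p - 1)
    (θ : R →* R) (hx : θ x = x) (hy : θ y = y ^ l) : adIter x (p - 1) y = 1 := by
  have h2 := hp.two_le
  set N := Subgroup.normalClosure ({y} : Set R) with hN
  have hNn : N.Normal := Subgroup.normalClosure_normal
  have hgr := graded_endo N θ (map_normalClosure_mem θ hy) l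
    (endo_mod_commutator x y htop θ l hx hy)
  have hθw : θ (adIter x (p - 1) y) = adIter x (p - 1) y ^ l := by
    rw [map_adIter, hx, hy]
    obtain ⟨c, hc, h⟩ := adIter_pow_mod x y l (p - 1)
    rw [show p - 1 + 1 = p by omega, hcl, Subgroup.mem_bot] at hc
    rw [h, hc, mul_one]
  have hw1 : adIter x (p - 1) y ∈ N.lowerCentralSeries 1 :=
    adIter_mem_commutator_normalClosure hp hexp hcl x y
  have hind : ∀ b, 1 ≤ b → b ≤ p - 1 → adIter x (p - 1) y ∈ N.lowerCentralSeries b := by
    intro b hb1
    induction b, hb1 using Nat.le_induction with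
    | base => intro _; exact hw1
    | succ b hb ih =>
      intro hbp
      have h := hgr b _ (ih (by omega))
      rw [hθw] at h
      apply mem_of_zpow_mem_of_coprime (hexp _) (isCoprime_sub_pow hp hl hb (by omega))
      rw [zpow_sub, zpow_natCast, ← Nat.cast_pow, zpow_natCast]
      exact h
  have h := normalClosure_lcs_le y (p - 1) (by omega) (hind (p - 1) (by omega) le_rfl)
  rw [show p - 1 + 1 = p by omega, hcl, Subgroup.mem_bot] at h
  exact h

end Cfsg.Agent.Helper8.Engel
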