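import Mathlib
import Cfsg.Agent.Helper8.ExtOA

set_option autoImplicit false
set_option linter.unusedSectionVars false

/-!
# S5700, abstract core, part B (helper8): the geometric toolkit

* `perpFam Q b`: the vectors orthogonal to a finite family, `finrank_perpFam_ge`;
* `exists_singular_perp` (E0): a singular vector orthogonal to a family and outside a small subspace;
* `exists_partner_perp`: a singular partner, orthogonal to the family, of a singular vector outside its span;
* `exists_polar_ne_zero_perp`: the orthogonal of a small family is not totally isotropic;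
* `exists_kpartner`: the partner for the extension.
-/

namespace Cfsg.Agent.Helper8.ExtO

open Module Cfsg.Agent.Helper8.QuadForm Cfsg.Agent.Helper8.Siegel Cfsg.Agent.Helper8.SiegelGroup
  Cfsg.Agent.Helper8.SiegelSimple Cfsg.Agent.Helper8.OrthOrder Cfsg.Agent.Helper8.WittQuad

variable {F : Type*} [Field F] {V : Type*} [AddCommGroup V] [Module F V]

/-- the pairing with a finite family. -/
noncomputable def pairFam (Q : QuadraticForm F V) {k : ℕ} (b : Fin k → V) : V →ₗ[F] (Fin k → F) :=
  LinearMap.pi fun i => QuadraticMap.polarBilin Q (b i)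

theorem pairFam_apply (Q : QuadraticForm F V) {k : ℕ} (b : Fin k → V) (y : V) (i : Fin k) :
    pairFam Q b y i = QuadraticMap.polar Q (b i) y := rfl

/-- the vectors orthogonal to a finite family. -/
noncomputable def perpFam (Q : QuadraticForm F V) {k : ℕ} (b : Fin k → V) : Submodule F V :=
  LinearMap.ker (pairFam Q b)

theorem mem_perpFam (Q : QuadraticForm F V) {k : ℕ} (b : Fin k → V) (y : V) :
    y ∈ perpFam Q b ↔ ∀ i, QuadraticMap.polar Q (b i) y = 0 := by
  unfold perpFam
  rw [LinearMap.mem_ker]
  constructor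
  · intro h i
    rw [← pairFam_apply, h]
    rfl
  · intro h
    funext i
    rw [pairFam_apply, h i]
    rfl

theorem finrank_perpFam_ge [FiniteDimensional F V] (Q : QuadraticForm F V) {k : ℕ}
    (b : Fin k → V) : finrank F V ≤ finrank F (perpFam Q b) + k := by
  have h1 := LinearMap.finrank_range_add_finrank_ker (pairFam Q b)
  have h2 : finrank F (LinearMap.range (pairFam Q b)) ≤ k := by
    have := Submodule.finrank_le (LinearMap.range (pairFam Q b))
    rwa [Module.finrank_fintype_fun_eq_card, Fintype.card_fin] at this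
  unfold perpFam
  omega

theorem polar_eq_zero_of_mem_span (Q : QuadraticForm F V) {k : ℕ} (b : Fin k → V) {y s : V}
    (hy : ∀ i, QuadraticMap.polar Q (b i) y = 0) (hs : s ∈ Submodule.span F (Set.range b)) :
    QuadraticMap.polar Q s y = 0 := by
  induction hs using Submodule.span_induction with
  | mem x hx =>
    obtain ⟨i, rfl⟩ := hx
    exact hy i
  | zero => exact QuadraticMap.polar_zero_left _ _
  | add x z _ _ hx hz => rw [QuadraticMap.polar_add_left, hx, hz, add_zero]
  | smul c x _ hx => rw [QuadraticMap.polar_smul_left, hx, smul_zero]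

/-- **(E0)** a singular vector orthogonal to a family and outside a small subspace. -/
theorem exists_singular_perp [Finite F] [FiniteDimensional F V] (Q : QuadraticForm F V) {k : ℕ}
    (b : Fin k → V) (U : Submodule F V) (hdim : k + finrank F U + 3 ≤ finrank F V) :
    ∃ y, Q y = 0 ∧ (∀ i, QuadraticMap.polar Q (b i) y = 0) ∧ y ∉ U := by
  set S := perpFam Q b with hS
  have hSdim : finrank F V ≤ finrank F S + k := finrank_perpFam_ge Q b
  -- a complement of `S ⊓ U` inside `S`
  set A : Submodule F S := U.comap S.subtype with hA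
  obtain ⟨C, hC⟩ := Submodule.exists_isCompl A
  have h1 : finrank F A + finrank F C = finrank F S := Submodule.finrank_add_eq_of_isCompl hC
  have h2 : finrank F A ≤ finrank F U := by
    apply LinearMap.finrank_le_finrank_of_injective
      (f := (S.subtype.comp A.subtype).codRestrict U (fun x => x.2))
    intro x y hxy
    have h := congrArg (fun u : U => (u : V)) hxy
    exact Subtype.ext (Subtype.ext h)
  have h3 : 3 ≤ finrank F C := by omega
  obtain ⟨u, hu0, hu⟩ := exists_singular ((Q.comp S.subtype).comp C.subtype) h3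
  refine ⟨((u : S) : V), hu, (mem_perpFam Q b _).mp (u : S).2, fun hU => hu0 ?_⟩
  have h4 : (u : S) ∈ A := hU
  have h5 : (u : S) ∈ A ⊓ C := ⟨h4, u.2⟩
  rw [hC.inf_eq_bot, Submodule.mem_bot] at h5
  exact Subtype.ext h5

/-- a singular partner, orthogonal to the family, of a singular vector of the orthogonal outside the span. -/
theorem exists_partner_perp [FiniteDimensional F V] (Q : QuadraticForm F V) (hQ : Nondeg Q) {k : ℕ}
    (b : Fin k → V) {w : V} (hw : Q w = 0) (hwb : ∀ i, QuadraticMap.polar Q (b i) w = 0)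
    (hwS : w ∉ Submodule.span F (Set.range b)) :
    ∃ y, Q y = 0 ∧ (∀ i, QuadraticMap.polar Q (b i) y = 0) ∧ QuadraticMap.polar Q w y = 1 := by
  obtain ⟨y₀, hy₀S, hy₀w⟩ := exists_dual_vec Q ((nondeg_iff Q).mpr hQ) _ hwS
  have hwy₀ : QuadraticMap.polar Q w y₀ = 1 := by rw [QuadraticMap.polar_comm]; exact hy₀w
  have hww : QuadraticMap.polar Q w w = 0 := by rw [polar_self', hw, mul_zero]
  refine ⟨y₀ - Q y₀ • w, ?_, fun i => ?_, ?_⟩
  · rw [sub_eq_add_neg, QuadraticMap.map_add Q, QuadraticMap.map_neg, QuadraticMap.map_smul, hw,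
      QuadraticMap.polar_neg_right, QuadraticMap.polar_smul_right, hy₀w]
    simp
  · rw [QuadraticMap.polar_sub_right, QuadraticMap.polar_smul_right, hwb i, smul_zero, sub_zero,
      QuadraticMap.polar_comm]
    exact hy₀S _ (Submodule.subset_span ⟨i, rfl⟩)
  · rw [QuadraticMap.polar_sub_right, QuadraticMap.polar_smul_right, hww, smul_zero, sub_zero,
      hwy₀]

/-- the orthogonal of a small family is not totally isotropic. -/
theorem exists_polar_ne_zero_perp [FiniteDimensional F V] (Q : QuadraticForm F V) (hQ : Nondeg Q)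
    {k : ℕ} (b : Fin k → V) (hdim : 2 * k < finrank F V) :
    ∃ v₁ v₂, (∀ i, QuadraticMap.polar Q (b i) v₁ = 0) ∧ (∀ i, QuadraticMap.polar Q (b i) v₂ = 0) ∧
      QuadraticMap.polar Q v₁ v₂ ≠ 0 := by
  by_contra hcon
  push Not at hcon
  have hB : (QuadraticMap.polarBilin Q).Nondegenerate := (nondeg_iff Q).mpr hQ
  set S := perpFam Q b with hS
  have hSdim : finrank F V ≤ finrank F S + k := finrank_perpFam_ge Q b
  have hle : S ≤ LinearMap.BilinForm.orthogonal (QuadraticMap.polarBilin Q) S := by
    intro v₂ hv₂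
    rw [LinearMap.BilinForm.mem_orthogonal_iff]
    intro v₁ hv₁
    exact hcon v₁ v₂ ((mem_perpFam Q b v₁).mp hv₁) ((mem_perpFam Q b v₂).mp hv₂)
  have h1 := Submodule.finrank_mono hle
  rw [LinearMap.BilinForm.finrank_orthogonal hB] at h1
  have h2 : finrank F S ≤ finrank F V := Submodule.finrank_le S
  omega

/-- **the partner for the extension**: for a singular `w₀ ⊥ z, ε z` outside the line of `z`, a singular `x₀ ⊥ z, ε z`
with `x₀ ⊥ w₀` and `ε x₀` not orthogonal to `w₀`. -/
theorem exists_kpartner [FiniteDimensional F V] {Q : QuadraticForm F V} {ε : V →ₗ[F] V} {t N : F}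
    (h : UStr Q ε t N) (hQ : Nondeg Q) {z w₀ : V} (hw₀ : Q w₀ = 0)
    (hzw : QuadraticMap.polar Q z w₀ = 0) (hezw : QuadraticMap.polar Q (ε z) w₀ = 0)
    (hw₀K : ∀ a b : F, w₀ ≠ a • z + b • ε z) :
    ∃ x₀, Q x₀ = 0 ∧ QuadraticMap.polar Q z x₀ = 0 ∧ QuadraticMap.polar Q (ε z) x₀ = 0 ∧
      QuadraticMap.polar Q x₀ w₀ = 0 ∧ QuadraticMap.polar Q (ε x₀) w₀ ≠ 0 := by
  have hnS : w₀ ∉ Submodule.span F (Set.range ![z, ε z]) := by
    intro hmem
    have : Set.range ![z, ε z] = {z, ε z} := by
      ext x
      simp only [Set.mem_range, Set.mem_insert_iff, Set.mem_singleton_iff]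
      constructor
      · rintro ⟨i, rfl⟩
        fin_cases i
        · left; rfl
        · right; rfl
      · rintro (rfl | rfl)
        · exact ⟨0, rfl⟩
        · exact ⟨1, rfl⟩
    rw [this, Submodule.mem_span_pair] at hmem
    obtain ⟨a, b, hab⟩ := hmem
    exact hw₀K a b hab.symm
  obtain ⟨y, hy, hyb, hwy⟩ := exists_partner_perp Q hQ ![z, ε z] hw₀ (by
    intro i
    fin_cases i
    · exact hzw
    · exact hezw) hnS
  have hzy : QuadraticMap.polar Q z y = 0 := hyb 0
  have hezy : QuadraticMap.polar Q (ε z) y = 0 := hyb 1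
  set r := QuadraticMap.polar Q w₀ (ε y) with hr
  refine ⟨(-r) • y + (1 : F) • ε y, h.Q_line hy _ _, ?_, ?_, ?_, ?_⟩
  · rw [QuadraticMap.polar_add_right, QuadraticMap.polar_smul_right, QuadraticMap.polar_smul_right,
      hzy, h.adj', hzy, hezy]
    simp
  · rw [QuadraticMap.polar_add_right, QuadraticMap.polar_smul_right, QuadraticMap.polar_smul_right,
      hezy, h.polar_eps_eps, hzy]
    simp
  · rw [QuadraticMap.polar_comm, QuadraticMap.polar_add_right, QuadraticMap.polar_smul_right,
      QuadraticMap.polar_smul_right, hwy, ← hr]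
    simp
  · rw [map_add, map_smul, map_smul, h.sq, QuadraticMap.polar_comm,
      QuadraticMap.polar_add_right, QuadraticMap.polar_smul_right, QuadraticMap.polar_smul_right,
      QuadraticMap.polar_sub_right, QuadraticMap.polar_smul_right, QuadraticMap.polar_smul_right,
      hwy, ← hr]
    simp only [smul_eq_mul, mul_one, one_mul]
    have := h.norm_ne_zero (a := r) (b := -1) (by
      rintro ⟨-, h1⟩
      exact one_ne_zero (neg_eq_zero.mp h1))
    intro h0
    apply this
    linear_combination -h0

end Cfsg.Agent.Helper8.ExtO
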