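import Mathlib
import Cfsg.Agent.Helper8.ExtOB

set_option autoImplicit false
set_option linter.unusedSectionVars false

/-!
# S5700, abstract core, part C (helper8): the orthogonal of a line of the extension

`z` singular, `w₀ ∈ AS Q M z` singular, outside the line of `z`: then `{z, ε z}^⊥ ≤ AS Q M z` (`P4`).
-/

namespace Cfsg.Agent.Helper8.ExtO

open Module Cfsg.Agent.Helper8.QuadForm Cfsg.Agent.Helper8.Siegel Cfsg.Agent.Helper8.SiegelGroup
  Cfsg.Agent.Helper8.SiegelSimple Cfsg.Agent.Helper8.OrthOrder Cfsg.Agent.Helper8.WittQuad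

variable {F : Type*} [Field F] {V : Type*} [AddCommGroup V] [Module F V]

/-- the vectors orthogonal to the lines of `z`, `w`, `x`. -/
def Perp6 (Q : QuadraticForm F V) (ε : V →ₗ[F] V) (z w x v : V) : Prop :=
  QuadraticMap.polar Q z v = 0 ∧ QuadraticMap.polar Q (ε z) v = 0 ∧
  QuadraticMap.polar Q w v = 0 ∧ QuadraticMap.polar Q (ε w) v = 0 ∧
  QuadraticMap.polar Q x v = 0 ∧ QuadraticMap.polar Q (ε x) v = 0

theorem Perp6.swap {Q : QuadraticForm F V} {ε : V →ₗ[F] V} {z w x v : V}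
    (hv : Perp6 Q ε z w x v) : Perp6 Q ε z x w v :=
  ⟨hv.1, hv.2.1, hv.2.2.2.2.1, hv.2.2.2.2.2, hv.2.2.1, hv.2.2.2.1⟩

theorem Perp6.zero (Q : QuadraticForm F V) (ε : V →ₗ[F] V) (z w x : V) : Perp6 Q ε z w x 0 :=
  ⟨QuadraticMap.polar_zero_right _ _, QuadraticMap.polar_zero_right _ _,
    QuadraticMap.polar_zero_right _ _, QuadraticMap.polar_zero_right _ _,
    QuadraticMap.polar_zero_right _ _, QuadraticMap.polar_zero_right _ _⟩

theorem Perp6.add {Q : QuadraticForm F V} {ε : V →ₗ[F] V} {z w x v v' : V}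
    (hv : Perp6 Q ε z w x v) (hv' : Perp6 Q ε z w x v') : Perp6 Q ε z w x (v + v') := by
  obtain ⟨h1, h2, h3, h4, h5, h6⟩ := hv
  obtain ⟨h1', h2', h3', h4', h5', h6'⟩ := hv'
  refine ⟨?_, ?_, ?_, ?_, ?_, ?_⟩ <;> rw [QuadraticMap.polar_add_right] <;> simp [*]

theorem perp6_iff (Q : QuadraticForm F V) (ε : V →ₗ[F] V) (z w x v : V) :
    Perp6 Q ε z w x v ↔ ∀ i, QuadraticMap.polar Q (![z, ε z, w, ε w, x, ε x] i) v = 0 := by
  constructor
  · rintro ⟨h1, h2, h3, h4, h5, h6⟩ i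
    fin_cases i
    · exact h1
    · exact h2
    · exact h3
    · exact h4
    · exact h5
    · exact h6
  · intro hh
    exact ⟨hh 0, hh 1, hh 2, hh 3, hh 4, hh 5⟩

section

variable {Q : QuadraticForm F V} {ε : V →ₗ[F] V} {t N : F} (h : UStr Q ε t N)
  {M : Subgroup ↥(Isom Q)} (H1 : ∀ u, Q u = 0 → ∀ c : F, siegG Q u (c • ε u) ∈ M)

include h H1

/-- the key vector. -/
theorem L23a {z w₀ x₀ : V} (hz : Q z = 0) (hw₀ : Q w₀ = 0) (hx₀ : Q x₀ = 0)
    (hw₀AS : w₀ ∈ AS Q M z) (hezw : QuadraticMap.polar Q (ε z) w₀ = 0)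
    (hzx : QuadraticMap.polar Q z x₀ = 0) (hezx : QuadraticMap.polar Q (ε z) x₀ = 0)
    (hxw : QuadraticMap.polar Q x₀ w₀ = 0) (hβ : QuadraticMap.polar Q (ε x₀) w₀ ≠ 0) {v : V}
    (hv : Perp6 Q ε z w₀ x₀ v) :
    x₀ + v + (Q v / QuadraticMap.polar Q (ε x₀) w₀) • ε w₀ ∈ AS Q M z := by
  obtain ⟨hv1, hv2, hv3, hv4, hv5, hv6⟩ := hv
  have hzw : QuadraticMap.polar Q z w₀ = 0 := hw₀AS.1
  set β := QuadraticMap.polar Q (ε x₀) w₀ with hβdef
  set c := Q v / β with hc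
  -- the symmetric facts
  obtain ⟨a1, a2⟩ := h.kperp_symm hv1 hv2      -- v, z
  obtain ⟨a3, a4⟩ := h.kperp_symm hv3 hv4      -- v, w₀
  obtain ⟨a5, a6⟩ := h.kperp_symm hzx hezx     -- x₀, z
  obtain ⟨a7, a8⟩ := h.kperp_symm hzw hezw     -- w₀, z
  have a9 : QuadraticMap.polar Q x₀ (ε w₀) = -β := by
    rw [h.adj', hxw, ← hβdef]; ring
  have a10 : QuadraticMap.polar Q v (ε w₀) = 0 := by
    rw [QuadraticMap.polar_comm]; exact hv4
  have a11 : QuadraticMap.polar Q x₀ v = 0 := hv5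
  have a12 : QuadraticMap.polar Q (ε w₀) w₀ = 0 := h.polar_eps_self hw₀
  have a13 : QuadraticMap.polar Q w₀ w₀ = 0 := by rw [polar_self', hw₀, mul_zero]
  apply R h H1 hz _ hw₀AS
  · -- `u ⊥ z`
    rw [QuadraticMap.polar_add_left, QuadraticMap.polar_add_left, QuadraticMap.polar_smul_left, a5,
      a1, a8]
    simp
  · -- `ε u ⊥ z`
    rw [map_add, map_add, map_smul, h.sq, QuadraticMap.polar_add_left, QuadraticMap.polar_add_left,
      QuadraticMap.polar_smul_left, QuadraticMap.polar_sub_left, QuadraticMap.polar_smul_left,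
      QuadraticMap.polar_smul_left, a6, a2, a8, a7]
    simp
  · -- `u ⊥ w₀`
    rw [QuadraticMap.polar_add_left, QuadraticMap.polar_add_left, QuadraticMap.polar_smul_left, hxw,
      a3, a12]
    simp
  · -- `ε u` is not orthogonal to `w₀`
    rw [map_add, map_add, map_smul, h.sq, QuadraticMap.polar_add_left, QuadraticMap.polar_add_left,
      QuadraticMap.polar_smul_left, QuadraticMap.polar_sub_left, QuadraticMap.polar_smul_left,
      QuadraticMap.polar_smul_left, a4, a12, a13]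
    simpa using hβ
  · -- `u` is singular
    rw [QuadraticMap.map_add Q, QuadraticMap.map_add Q, QuadraticMap.map_smul, h.quad, hw₀, hx₀,
      QuadraticMap.polar_add_left, QuadraticMap.polar_smul_right, QuadraticMap.polar_smul_right,
      a9, a10, a11]
    simp only [smul_eq_mul, mul_zero, add_zero, zero_add]
    rw [hc]
    field_simp
    ring

/-- with a partner `x₀` of `w₀`, everything orthogonal to the three lines, and `ε w₀`, lie in `AS z`. -/
theorem L23 [FiniteDimensional F V] (hQ : Nondeg Q) (hdim : 13 ≤ finrank F V) {z w₀ x₀ : V}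
    (hz : Q z = 0) (hw₀ : Q w₀ = 0) (hx₀ : Q x₀ = 0)
    (hw₀AS : w₀ ∈ AS Q M z) (hezw : QuadraticMap.polar Q (ε z) w₀ = 0)
    (hzx : QuadraticMap.polar Q z x₀ = 0) (hezx : QuadraticMap.polar Q (ε z) x₀ = 0)
    (hxw : QuadraticMap.polar Q x₀ w₀ = 0) (hβ : QuadraticMap.polar Q (ε x₀) w₀ ≠ 0) :
    x₀ ∈ AS Q M z ∧ ε w₀ ∈ AS Q M z ∧ ∀ v, Perp6 Q ε z w₀ x₀ v → v ∈ AS Q M z := by
  set β := QuadraticMap.polar Q (ε x₀) w₀ with hβdef
  have key : ∀ v, Perp6 Q ε z w₀ x₀ v → x₀ + v + (Q v / β) • ε w₀ ∈ AS Q M z :=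
    fun v hv => L23a h H1 hz hw₀ hx₀ hw₀AS hezw hzx hezx hxw hβ hv
  have hx₀AS : x₀ ∈ AS Q M z := by
    have := key 0 (Perp6.zero Q ε z w₀ x₀)
    rwa [map_zero, zero_div, zero_smul, add_zero, add_zero] at this
  have key' : ∀ v, Perp6 Q ε z w₀ x₀ v → v + (Q v / β) • ε w₀ ∈ AS Q M z := by
    intro v hv
    have := (AS Q M z).sub_mem (key v hv) hx₀AS
    have e : x₀ + v + (Q v / β) • ε w₀ - x₀ = v + (Q v / β) • ε w₀ := by abel
    rwa [e] at this
  obtain ⟨v₁, v₂, hv₁, hv₂, hne⟩ := exists_polar_ne_zero_perp Q hQ ![z, ε z, w₀, ε w₀, x₀, ε x₀]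
    (by omega)
  rw [← perp6_iff] at hv₁ hv₂
  have hew : ε w₀ ∈ AS Q M z := by
    have h1 := (AS Q M z).sub_mem ((AS Q M z).sub_mem (key' _ (hv₁.add hv₂)) (key' _ hv₁))
      (key' _ hv₂)
    have e : v₁ + v₂ + (Q (v₁ + v₂) / β) • ε w₀ - (v₁ + (Q v₁ / β) • ε w₀)
        - (v₂ + (Q v₂ / β) • ε w₀) = (QuadraticMap.polar Q v₁ v₂ / β) • ε w₀ := by
      rw [QuadraticMap.map_add Q]
      have : (Q v₁ + Q v₂ + QuadraticMap.polar Q v₁ v₂) / β
          = Q v₁ / β + Q v₂ / β + QuadraticMap.polar Q v₁ v₂ / β := by ring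
      rw [this]
      module
    rw [e] at h1
    have h2 := (AS Q M z).smul_mem (QuadraticMap.polar Q v₁ v₂ / β)⁻¹ h1
    rwa [smul_smul, inv_mul_cancel₀ (div_ne_zero hne hβ), one_smul] at h2
  refine ⟨hx₀AS, hew, fun v hv => ?_⟩
  have := (AS Q M z).sub_mem (key' v hv) ((AS Q M z).smul_mem (Q v / β) hew)
  rwa [add_sub_cancel_right] at this

/-- **(P4b)** `w₀ ∈ AS z` singular, `w₀ ⊥ z, ε z`, outside the line of `z`: then `{z, ε z}^⊥ ≤ AS z`. -/
theorem P4b [FiniteDimensional F V] (hQ : Nondeg Q) (hdim : 13 ≤ finrank F V) {z w₀ : V}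
    (hz : Q z = 0) (hw₀ : Q w₀ = 0) (hw₀AS : w₀ ∈ AS Q M z)
    (hezw : QuadraticMap.polar Q (ε z) w₀ = 0) (hw₀K : ∀ a b : F, w₀ ≠ a • z + b • ε z) {s : V}
    (hs1 : QuadraticMap.polar Q z s = 0) (hs2 : QuadraticMap.polar Q (ε z) s = 0) :
    s ∈ AS Q M z := by
  have hzw : QuadraticMap.polar Q z w₀ = 0 := hw₀AS.1
  obtain ⟨x₀, hx₀, hzx, hezx, hxw, hβ⟩ := exists_kpartner h hQ hw₀ hzw hezw hw₀K
  set β := QuadraticMap.polar Q (ε x₀) w₀ with hβdef
  obtain ⟨hx₀AS, hew, hP⟩ := L23 h H1 hQ hdim hz hw₀ hx₀ hw₀AS hezw hzx hezx hxw hβ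
  -- the swapped configuration
  have hwx : QuadraticMap.polar Q w₀ x₀ = 0 := by rw [QuadraticMap.polar_comm]; exact hxw
  have hβ' : QuadraticMap.polar Q (ε w₀) x₀ = -β := by
    rw [h.adj, hwx, QuadraticMap.polar_comm, ← hβdef]; ring
  have hβ'0 : QuadraticMap.polar Q (ε w₀) x₀ ≠ 0 := by
    rw [hβ']; exact neg_ne_zero.mpr hβ
  obtain ⟨-, hex, -⟩ := L23 h H1 hQ hdim hz hx₀ hw₀ hx₀AS hezx hzw hezw hwx hβ'0
  -- the decomposition of `s`
  obtain ⟨b1, b2⟩ := h.kperp_symm hs1 hs2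
  set a₁ := QuadraticMap.polar Q s (ε x₀) / β with ha₁
  set a₂ := -(QuadraticMap.polar Q s x₀) / β with ha₂
  set c₁ := -(QuadraticMap.polar Q s (ε w₀)) / β with hc₁
  set c₂ := QuadraticMap.polar Q s w₀ / β with hc₂
  set v := s - a₁ • w₀ - a₂ • ε w₀ - c₁ • x₀ - c₂ • ε x₀ with hvdef
  -- the Gram matrix
  have g1 : QuadraticMap.polar Q w₀ w₀ = 0 := by rw [polar_self', hw₀, mul_zero]
  have g2 : QuadraticMap.polar Q w₀ (ε w₀) = 0 := h.polar_self_eps hw₀
  have g3 : QuadraticMap.polar Q (ε w₀) w₀ = 0 := h.polar_eps_self hw₀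
  have g4 : QuadraticMap.polar Q (ε w₀) (ε w₀) = 0 := by rw [h.polar_eps_eps, g1, mul_zero]
  have g5 : QuadraticMap.polar Q x₀ x₀ = 0 := by rw [polar_self', hx₀, mul_zero]
  have g6 : QuadraticMap.polar Q x₀ (ε x₀) = 0 := h.polar_self_eps hx₀
  have g7 : QuadraticMap.polar Q (ε x₀) x₀ = 0 := h.polar_eps_self hx₀
  have g8 : QuadraticMap.polar Q (ε x₀) (ε x₀) = 0 := by rw [h.polar_eps_eps, g5, mul_zero]
  have g9 : QuadraticMap.polar Q x₀ (ε w₀) = -β := by rw [QuadraticMap.polar_comm]; exact hβ'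
  have g10 : QuadraticMap.polar Q w₀ (ε x₀) = β := by rw [QuadraticMap.polar_comm]
  have g11 : QuadraticMap.polar Q (ε x₀) (ε w₀) = 0 := by rw [h.polar_eps_eps, hxw, mul_zero]
  have g12 : QuadraticMap.polar Q (ε w₀) (ε x₀) = 0 := by rw [h.polar_eps_eps, hwx, mul_zero]
  obtain ⟨z1, z2⟩ := h.kperp_symm hzw hezw     -- polar w₀ z, polar (ε w₀) z
  obtain ⟨z3, z4⟩ := h.kperp_symm hzx hezx     -- polar x₀ z, polar (ε x₀) z
  have z5 : QuadraticMap.polar Q z (ε w₀) = 0 := by rw [QuadraticMap.polar_comm]; exact z2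
  have z6 : QuadraticMap.polar Q z (ε x₀) = 0 := by rw [QuadraticMap.polar_comm]; exact z4
  have z7 : QuadraticMap.polar Q (ε z) (ε w₀) = 0 := by rw [h.polar_eps_eps, hzw, mul_zero]
  have z8 : QuadraticMap.polar Q (ε z) (ε x₀) = 0 := by rw [h.polar_eps_eps, hzx, mul_zero]
  have hvP : Perp6 Q ε z w₀ x₀ v := by
    refine ⟨?_, ?_, ?_, ?_, ?_, ?_⟩
    · rw [hvdef]
      simp only [QuadraticMap.polar_sub_right, QuadraticMap.polar_smul_right, hs1, hzw, z5, hzx, z6]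
      simp
    · rw [hvdef]
      simp only [QuadraticMap.polar_sub_right, QuadraticMap.polar_smul_right, hs2, hezw, z7, hezx,
        z8]
      simp
    · rw [hvdef]
      simp only [QuadraticMap.polar_sub_right, QuadraticMap.polar_smul_right, g1, g2, hwx, g10,
        smul_eq_mul]
      rw [hc₂, QuadraticMap.polar_comm Q w₀ s]
      field_simp
      ring
    · rw [hvdef]
      simp only [QuadraticMap.polar_sub_right, QuadraticMap.polar_smul_right, g3, g4, hβ', g12,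
        smul_eq_mul]
      rw [hc₁, QuadraticMap.polar_comm Q (ε w₀) s]
      field_simp
      ring
    · rw [hvdef]
      simp only [QuadraticMap.polar_sub_right, QuadraticMap.polar_smul_right, hxw, g9, g5, g6,
        smul_eq_mul]
      rw [ha₂, QuadraticMap.polar_comm Q x₀ s]
      field_simp
      ring
    · rw [hvdef]
      simp only [QuadraticMap.polar_sub_right, QuadraticMap.polar_smul_right, ← hβdef, g11, g7, g8,
        smul_eq_mul]
      rw [ha₁, QuadraticMap.polar_comm Q (ε x₀) s]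
      field_simp
      ring
  have hvAS := hP v hvP
  have e : s = v + a₁ • w₀ + a₂ • ε w₀ + c₁ • x₀ + c₂ • ε x₀ := by
    rw [hvdef]; abel
  rw [e]
  exact (AS Q M z).add_mem ((AS Q M z).add_mem ((AS Q M z).add_mem ((AS Q M z).add_mem hvAS
    ((AS Q M z).smul_mem _ hw₀AS)) ((AS Q M z).smul_mem _ hew)) ((AS Q M z).smul_mem _ hx₀AS))
    ((AS Q M z).smul_mem _ hex)

end

end Cfsg.Agent.Helper8.ExtO
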