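import Mathlib
import Cfsg.Agent.Helper8.ExtOC

set_option autoImplicit false
set_option linter.unusedSectionVars false

/-!
# S5700, abstract core, part D (helper8): from a seed to the whole Siegel group

* `P4`: `z` singular, `w₀ ∈ AS Q M z` singular outside the line of `z` ⇒ `{z, ε z}^⊥ ≤ AS Q M z` (`Full z`);
* `full_step`, `full_all` (P5): all singular vectors are full;
* `mem_AS_of_full` (P6);
* **`SG_le_of_seed`**: the abstract theorem.
-/

namespace Cfsg.Agent.Helper8.ExtO

open Module Cfsg.Agent.Helper8.QuadForm Cfsg.Agent.Helper8.Siegel Cfsg.Agent.Helper8.SiegelGroup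
  Cfsg.Agent.Helper8.SiegelSimple Cfsg.Agent.Helper8.OrthOrder Cfsg.Agent.Helper8.WittQuad

variable {F : Type*} [Field F] {V : Type*} [AddCommGroup V] [Module F V]

theorem finrank_span_range_le (b : Fin 4 → V) :
    finrank F (Submodule.span F (Set.range b)) ≤ 4 := by
  have := finrank_range_le_card (R := F) b
  rwa [Fintype.card_fin] at this

theorem mem_span_range4 (a b c d : V) (x : V) (α β γ δ : F)
    (hx : x = α • a + β • b + γ • c + δ • d) :
    x ∈ Submodule.span F (Set.range ![a, b, c, d]) := by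
  rw [hx]
  have h0 : a ∈ Submodule.span F (Set.range ![a, b, c, d]) := Submodule.subset_span ⟨0, rfl⟩
  have h1 : b ∈ Submodule.span F (Set.range ![a, b, c, d]) := Submodule.subset_span ⟨1, rfl⟩
  have h2 : c ∈ Submodule.span F (Set.range ![a, b, c, d]) := Submodule.subset_span ⟨2, rfl⟩
  have h3 : d ∈ Submodule.span F (Set.range ![a, b, c, d]) := Submodule.subset_span ⟨3, rfl⟩
  exact Submodule.add_mem _ (Submodule.add_mem _ (Submodule.add_mem _ (Submodule.smul_mem _ _ h0)
    (Submodule.smul_mem _ _ h1)) (Submodule.smul_mem _ _ h2)) (Submodule.smul_mem _ _ h3)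

/-- all the orthogonal of the line of `z` lies in `AS z`. -/
def Full (Q : QuadraticForm F V) (ε : V →ₗ[F] V) (M : Subgroup ↥(Isom Q)) (z : V) : Prop :=
  ∀ s, QuadraticMap.polar Q z s = 0 → QuadraticMap.polar Q (ε z) s = 0 → s ∈ AS Q M z

section

variable {Q : QuadraticForm F V} {ε : V →ₗ[F] V} {t N : F} (h : UStr Q ε t N)
  {M : Subgroup ↥(Isom Q)} (H1 : ∀ u, Q u = 0 → ∀ c : F, siegG Q u (c • ε u) ∈ M)

include h

/-- the line of a non-zero vector of a line. -/
theorem UStr.line_symm {x z : V} {a b : F} (hz0 : z ≠ 0) (hz : z = a • x + b • ε x) :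
    ∃ a' b' : F, x = a' • z + b' • ε z := by
  have hab : ¬ (a = 0 ∧ b = 0) := by
    rintro ⟨rfl, rfl⟩
    apply hz0
    rw [hz]
    simp
  have hn := h.norm_ne_zero hab
  set n := a * a + t * a * b + N * b * b with hndef
  have h1 : (a + b * t) • z - b • ε z = n • x := by
    rw [hz, map_add, map_smul, map_smul, h.sq]
    module
  refine ⟨n⁻¹ * (a + b * t), -(n⁻¹ * b), ?_⟩
  have h2 : x = n⁻¹ • (n • x) := by rw [smul_smul, inv_mul_cancel₀ hn, one_smul]
  rw [h2, ← h1]
  module

include H1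

/-- **(P4)** -/
theorem P4 [Finite F] [FiniteDimensional F V] (hQ : Nondeg Q) (hdim : 13 ≤ finrank F V) {z w₀ : V}
    (hz : Q z = 0) (hw₀ : Q w₀ = 0) (hw₀AS : w₀ ∈ AS Q M z)
    (hw₀K : ∀ a b : F, w₀ ≠ a • z + b • ε z) : Full Q ε M z := by
  intro s hs1 hs2
  have hzw : QuadraticMap.polar Q z w₀ = 0 := hw₀AS.1
  by_cases hezw : QuadraticMap.polar Q (ε z) w₀ = 0
  · exact P4b h H1 hQ hdim hz hw₀ hw₀AS hezw hw₀K hs1 hs2
  -- reduce to the first case
  obtain ⟨w₁, hw₁, hw₁b, hw₁0⟩ := exists_singular_perp Q ![z, ε z, w₀, ε w₀] ⊥ (by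
    rw [finrank_bot]; omega)
  have c1 : QuadraticMap.polar Q z w₁ = 0 := hw₁b 0
  have c2 : QuadraticMap.polar Q (ε z) w₁ = 0 := hw₁b 1
  have c3 : QuadraticMap.polar Q w₀ w₁ = 0 := hw₁b 2
  have c4 : QuadraticMap.polar Q (ε w₀) w₁ = 0 := hw₁b 3
  obtain ⟨d1, d2⟩ := h.kperp_symm c1 c2     -- polar w₁ z, polar (ε w₁) z
  obtain ⟨d3, d4⟩ := h.kperp_symm c3 c4     -- polar w₁ w₀, polar (ε w₁) w₀
  have hzz : QuadraticMap.polar Q z z = 0 := by rw [polar_self', hz, mul_zero]
  have hu : z + w₁ ∈ AS Q M z := by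
    apply R h H1 hz _ hw₀AS
    · rw [QuadraticMap.polar_add_left, hzz, d1, add_zero]
    · rw [map_add, QuadraticMap.polar_add_left, h.polar_eps_self hz, d2, add_zero]
    · rw [QuadraticMap.polar_add_left, hzw, d3, add_zero]
    · rw [map_add, QuadraticMap.polar_add_left, d4, add_zero]
      exact hezw
    · rw [QuadraticMap.map_add Q, hz, hw₁, c1]
      simp
  have hw₁AS : w₁ ∈ AS Q M z := by
    have := (AS Q M z).sub_mem hu (self_mem_AS Q M hz)
    rwa [add_sub_cancel_left] at this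
  have hw₁K : ∀ a b : F, w₁ ≠ a • z + b • ε z := by
    intro a b hab
    have e1 : QuadraticMap.polar Q w₀ (ε z) ≠ 0 := by rw [QuadraticMap.polar_comm]; exact hezw
    have e2 : QuadraticMap.polar Q w₀ z = 0 := by rw [QuadraticMap.polar_comm]; exact hzw
    have hb : b = 0 := by
      have := c3
      rw [hab, QuadraticMap.polar_add_right, QuadraticMap.polar_smul_right,
        QuadraticMap.polar_smul_right, e2, smul_zero, zero_add, smul_eq_mul] at this
      exact (mul_eq_zero.mp this).resolve_right e1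
    have ha : a = 0 := by
      have := c4
      rw [hab, hb, zero_smul, add_zero, QuadraticMap.polar_smul_right, h.adj, e2, mul_zero,
        zero_sub, smul_eq_mul, mul_neg, neg_eq_zero] at this
      exact (mul_eq_zero.mp this).resolve_right e1
    apply hw₁0
    rw [Submodule.mem_bot, hab, ha, hb]
    simp
  exact P4b h H1 hQ hdim hz hw₁ hw₁AS c2 hw₁K hs1 hs2

/-- propagation of fullness to a neighbour. -/
theorem full_step [Finite F] [FiniteDimensional F V] (hQ : Nondeg Q) (hdim : 13 ≤ finrank F V)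
    {z y : V} (hz : Q z = 0) (hy : Q y = 0) (hfull : Full Q ε M z)
    (hzy : QuadraticMap.polar Q z y = 0) (hezy : QuadraticMap.polar Q (ε z) y = 0)
    (hzK : ∀ a b : F, z ≠ a • y + b • ε y) : Full Q ε M y := by
  have h1 : y ∈ AS Q M z := hfull y hzy hezy
  have h2 : z ∈ AS Q M y := mem_AS_symm Q hz hy h1
  obtain ⟨-, h3⟩ := h.kperp_symm hzy hezy
  exact P4 h H1 hQ hdim hy hz h2 hzK

/-- **(P5)** every non-zero singular vector is full. -/
theorem full_all [Finite F] [FiniteDimensional F V] (hQ : Nondeg Q) (hdim : 13 ≤ finrank F V)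
    {z : V} (hz0 : z ≠ 0) (hz : Q z = 0) (hfull : Full Q ε M z) {y : V} (hy0 : y ≠ 0)
    (hy : Q y = 0) : Full Q ε M y := by
  obtain ⟨x, hx, hxb, hxU⟩ := exists_singular_perp Q ![z, ε z, y, ε y]
    (Submodule.span F (Set.range ![z, ε z, y, ε y])) (by
      have := finrank_span_range_le (F := F) ![z, ε z, y, ε y]
      omega)
  have c1 : QuadraticMap.polar Q z x = 0 := hxb 0
  have c2 : QuadraticMap.polar Q (ε z) x = 0 := hxb 1
  have c3 : QuadraticMap.polar Q y x = 0 := hxb 2
  have c4 : QuadraticMap.polar Q (ε y) x = 0 := hxb 3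
  have hxfull : Full Q ε M x := by
    apply full_step h H1 hQ hdim hz hx hfull c1 c2
    intro a b hab
    obtain ⟨a', b', hx'⟩ := h.line_symm hz0 hab
    exact hxU (mem_span_range4 z (ε z) y (ε y) x a' b' 0 0 (by rw [hx']; simp))
  obtain ⟨d1, d2⟩ := h.kperp_symm c3 c4     -- polar x y, polar (ε x) y
  apply full_step h H1 hQ hdim hx hy hxfull d1 d2
  intro a b hab
  exact hxU (mem_span_range4 z (ε z) y (ε y) x 0 0 a b (by rw [hab]; simp))

/-- **(P6)** if all singular vectors are full, `AS z` contains every singular vector orthogonal to `z`. -/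
theorem mem_AS_of_full [Finite F] [FiniteDimensional F V] (hQ : Nondeg Q)
    (hdim : 13 ≤ finrank F V) (hall : ∀ y, y ≠ 0 → Q y = 0 → Full Q ε M y) {z x : V} (hz : Q z = 0)
    (hx : Q x = 0) (hzx : QuadraticMap.polar Q z x = 0) : x ∈ AS Q M z := by
  by_cases hz0 : z = 0
  · refine ⟨hzx, fun c => ?_⟩
    rw [hz0, siegG_zero_left]
    exact M.one_mem
  by_cases hx0 : x = 0
  · rw [hx0]
    exact (AS Q M z).zero_mem
  obtain ⟨w, hw, hwb, hwU⟩ := exists_singular_perp Q ![z, ε z, x, ε x]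
    (Submodule.span F (Set.range ![z, ε z, x, ε x])) (by
      have := finrank_span_range_le (F := F) ![z, ε z, x, ε x]
      omega)
  obtain ⟨y, hy, hyb, hwy⟩ := exists_partner_perp Q hQ ![z, ε z, x, ε x] hw hwb hwU
  have hwAS : w ∈ AS Q M z := hall z hz0 hz w (hwb 0) (hwb 1)
  have hyAS : y ∈ AS Q M x := hall x hx0 hx y (hyb 2) (hyb 3)
  have hwx : QuadraticMap.polar Q w x = 0 := by rw [QuadraticMap.polar_comm]; exact hwb 2
  exact CR Q hx hwAS hyAS hzx (hyb 0) hwx (by rw [hwy]; exact one_ne_zero)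

/-- **THE ABSTRACT THEOREM**: a subgroup of the isometry group containing the root groups of the lines of the extension,
and the root group of one more totally singular plane through a singular vector `z₁`, contains all Siegel transformations. -/
theorem SG_le_of_seed [Finite F] [FiniteDimensional F V] (hQ : Nondeg Q) (hdim : 13 ≤ finrank F V)
    (z₁ w₀ : V) (hz₁0 : z₁ ≠ 0) (hz₁ : Q z₁ = 0) (hw₀ : Q w₀ = 0) (hw₀AS : w₀ ∈ AS Q M z₁)
    (hw₀K : ∀ a b : F, w₀ ≠ a • z₁ + b • ε z₁) : SG Q ≤ M := by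
  have hfull₁ : Full Q ε M z₁ := P4 h H1 hQ hdim hz₁ hw₀ hw₀AS hw₀K
  have hall : ∀ y, y ≠ 0 → Q y = 0 → Full Q ε M y :=
    fun y hy0 hy => full_all h H1 hQ hdim hz₁0 hz₁ hfull₁ hy0 hy
  unfold SG SGW
  rw [Subgroup.closure_le]
  rintro g ⟨c, -, w, -, hc, hcw, rfl⟩
  apply siegG_mem_of_singular Q hQ (by omega) M hc _ hcw
  intro u' hu' hcu'
  exact siegG_mem_of_mem_AS Q (mem_AS_of_full h H1 hQ hdim hall hc hu' hcu')

end

end Cfsg.Agent.Helper8.ExtO
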