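import Mathlib
import Cfsg.Agent.Helper8.ExtOD

set_option autoImplicit false
set_option linter.unusedSectionVars false

/-!
# S5700, abstract core, part E (helper8): the normaliser of the extension

* `siegE_comm_eps`: the root elements of the lines of the extension commute with `ε`;
* `SG_le_of_not_normalizes`: a subgroup containing these root elements and an isometry `g` with a singular `z₁ ≠ 0` such that
  `g ε g⁻¹ z₁ ∉ F z₁ + F ε z₁` contains the Siegel group;
* `exists_not_normalizes`: some Siegel transformation does not normalise `F + F ε`.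
-/

namespace Cfsg.Agent.Helper8.ExtO

open Module Cfsg.Agent.Helper8.QuadForm Cfsg.Agent.Helper8.Siegel Cfsg.Agent.Helper8.SiegelGroup
  Cfsg.Agent.Helper8.SiegelSimple Cfsg.Agent.Helper8.OrthOrder Cfsg.Agent.Helper8.WittQuad
  Cfsg.Agent.Helper8.SiegelGeom

variable {F : Type*} [Field F] {V : Type*} [AddCommGroup V] [Module F V]

section

variable {Q : QuadraticForm F V} {ε : V →ₗ[F] V} {t N : F} (h : UStr Q ε t N)

include h

/-- **(M2a)** the root elements of the lines of the extension commute with `ε`. -/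
theorem siegE_comm_eps {u : V} (hu : Q u = 0) (c : F) (x : V) :
    siegE Q u (c • ε u) (ε x) = ε (siegE Q u (c • ε u) x) := by
  have huw : QuadraticMap.polar Q u (c • ε u) = 0 := by
    rw [QuadraticMap.polar_smul_right, h.polar_self_eps hu, smul_zero]
  have hQw : Q (c • ε u) = 0 := by
    rw [QuadraticMap.map_smul, h.Q_eps hu, smul_zero]
  rw [siegE_apply Q hu huw, siegE_apply Q hu huw, sieg_apply, sieg_apply, hQw,
    QuadraticMap.polar_smul_right, QuadraticMap.polar_smul_right, h.polar_eps_eps, h.adj x u,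
    map_sub, map_sub, map_add, map_smul, map_smul, map_smul, map_smul, h.sq]
  simp only [smul_eq_mul]
  module

/-- **(M3a)** -/
theorem SG_le_of_not_normalizes [Finite F] [FiniteDimensional F V] {M : Subgroup ↥(Isom Q)}
    (H1 : ∀ u, Q u = 0 → ∀ c : F, siegG Q u (c • ε u) ∈ M) (hQ : Nondeg Q)
    (hdim : 13 ≤ finrank F V) {g : ↥(Isom Q)} (hg : g ∈ M) {z₁ : V} (hz₁0 : z₁ ≠ 0)
    (hz₁ : Q z₁ = 0)
    (hne : ∀ a b : F, (g : V ≃ₗ[F] V) (ε ((g : V ≃ₗ[F] V).symm z₁)) ≠ a • z₁ + b • ε z₁) :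
    SG Q ≤ M := by
  set u₁ := (g : V ≃ₗ[F] V).symm z₁ with hu₁
  have hgu₁ : (g : V ≃ₗ[F] V) u₁ = z₁ := (g : V ≃ₗ[F] V).apply_symm_apply z₁
  have hQu₁ : Q u₁ = 0 := by
    have := g.2 u₁
    rw [hgu₁] at this
    rw [← this, hz₁]
  have hw₀ : Q ((g : V ≃ₗ[F] V) (ε u₁)) = 0 := by
    rw [g.2 (ε u₁), h.Q_eps hQu₁]
  refine SG_le_of_seed h H1 hQ hdim z₁ ((g : V ≃ₗ[F] V) (ε u₁)) hz₁0 hz₁ hw₀ ⟨?_, fun c => ?_⟩ hne
  · rw [← hgu₁, polar_isometry Q g g.2, h.polar_self_eps hQu₁]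
  · have h1 := siegG_conj Q g u₁ (c • ε u₁)
    rw [hgu₁, map_smul] at h1
    rw [← h1]
    exact M.mul_mem (M.mul_mem hg (H1 u₁ hQu₁ c)) (M.inv_mem hg)

/-- **(M4a)** some Siegel transformation does not normalise `F + F ε`. -/
theorem exists_not_normalizes [Finite F] [FiniteDimensional F V] (hQ : Nondeg Q)
    (hdim : 7 ≤ finrank F V) :
    ∃ g ∈ SG Q, ¬ ∃ a b : F, ∀ x,
      (g : V ≃ₗ[F] V) (ε ((g : V ≃ₗ[F] V).symm x)) = a • x + b • ε x := by
  obtain ⟨u, hu0, hu⟩ := exists_singular Q (by omega : 3 ≤ finrank F V)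
  obtain ⟨f, hf⟩ := exists_pair_one Q hQ hu0
  obtain ⟨w, hw, hwb, hw0⟩ := exists_singular_perp Q ![u, ε u, f, ε f] ⊥ (by
    rw [finrank_bot]; omega)
  have hw0' : w ≠ 0 := fun h0 => hw0 (by rw [h0]; exact Submodule.zero_mem _)
  have c1 : QuadraticMap.polar Q u w = 0 := hwb 0
  have c2 : QuadraticMap.polar Q (ε u) w = 0 := hwb 1
  have c3 : QuadraticMap.polar Q f w = 0 := hwb 2
  have c4 : QuadraticMap.polar Q (ε f) w = 0 := hwb 3
  obtain ⟨d1, d2⟩ := h.kperp_symm c1 c2     -- polar w u, polar (ε w) u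
  have hww : QuadraticMap.polar Q w w = 0 := by rw [polar_self', hw, mul_zero]
  refine ⟨siegG Q u w, siegG_mem_SG Q hu c1, ?_⟩
  rintro ⟨a, b, hab⟩
  set g := siegG Q u w with hg
  have key : ∀ y, (g : V ≃ₗ[F] V) (ε y) = a • (g : V ≃ₗ[F] V) y + b • ε ((g : V ≃ₗ[F] V) y) := by
    intro y
    have := hab ((g : V ≃ₗ[F] V) y)
    rwa [LinearEquiv.symm_apply_apply] at this
  have gval : ∀ y, (g : V ≃ₗ[F] V) y
      = y + QuadraticMap.polar Q y w • u - QuadraticMap.polar Q y u • w := by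
    intro y
    rw [hg, siegG_val, siegE_apply Q hu c1, sieg_apply, hw]
    simp
  -- `y = w`
  have e1 : (g : V ≃ₗ[F] V) w = w := by rw [gval, hww, d1]; simp
  have e2 : (g : V ≃ₗ[F] V) (ε w) = ε w := by rw [gval, h.polar_eps_self hw, d2]; simp
  have hab' : a = 0 ∧ b - 1 = 0 := by
    apply h.indep hw0'
    have := key w
    rw [e1, e2] at this
    rw [sub_smul, one_smul]
    rw [← sub_eq_zero] at this
    rw [← neg_eq_zero, ← this]
    abel
  have ha : a = 0 := hab'.1
  have hb : b = 1 := sub_eq_zero.mp hab'.2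
  -- `y = f`
  have hfu : QuadraticMap.polar Q f u = 1 := by rw [QuadraticMap.polar_comm]; exact hf
  have e3 : (g : V ≃ₗ[F] V) f = f - w := by rw [gval, c3, hfu]; simp
  have e4 : (g : V ≃ₗ[F] V) (ε f) = ε f - QuadraticMap.polar Q (ε f) u • w := by
    rw [gval, c4]; simp
  have := key f
  rw [e3, e4, ha, hb, zero_smul, zero_add, one_smul, map_sub] at this
  have h5 : QuadraticMap.polar Q (ε f) u • w + (-1 : F) • ε w = 0 := by
    have h6 : ε f - QuadraticMap.polar Q (ε f) u • w - (ε f - ε w) = 0 := sub_eq_zero.mpr this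
    rw [← neg_eq_zero, ← h6]
    module
  have := (h.indep hw0' h5).2
  exact one_ne_zero (neg_eq_zero.mp this)

end

end Cfsg.Agent.Helper8.ExtO
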