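import Mathlib
import Cfsg.Prelude.Def_GeometricClasses
import Cfsg.Agent.Helper7.OrthMaxC
import Cfsg.Agent.Helper8.ExtOE

set_option autoImplicit false
set_option linter.unusedSectionVars false

/-!
# S5700, part F (helper8): transfer to matrices

* `toGL_mem_normalizer_iff`: the dictionary between `subalgebraNormalizer K` (`K = F + F θ`) and the normaliser of `F + F ε`
  (`ε = toLin' θ`) in the abstract isometry group;
* `unitary_maximal_of_ustr`: the maximality statement from the data `UStr` and the lemma (P3).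
-/

namespace Cfsg.Agent.Helper8.ExtO

open Module Cfsg.Agent.Helper8.QuadForm Cfsg.Agent.Helper8.Siegel Cfsg.Agent.Helper8.SiegelGroup
  Cfsg.Agent.Helper8.SiegelSimple Cfsg.Agent.Helper8.OrthOrder Cfsg.Agent.Helper8.WittQuad
  Cfsg.Agent.Helper8.ReflMatrix Cfsg.Agent.Helper8.OmegaSimple Cfsg.Agent.Helper7.OrthMax
open scoped Matrix

variable {F : Type*} [Field F] {ι : Type} [Fintype ι] [DecidableEq ι]
  (Q : QuadraticForm F (ι → F))

theorem toGL_inv_mulVec (k : ↥(Isom Q)) (v : ι → F) :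
    (((toGL Q k)⁻¹ : GL ι F) : Matrix ι ι F).mulVec v = (k : (ι → F) ≃ₗ[F] (ι → F)).symm v := by
  rw [← map_inv, toGL_mulVec]
  rfl

/-- the conjugate of `θ` by `toGL k`, applied to a vector. -/
theorem conj_mulVec (k : ↥(Isom Q)) (θ : Matrix ι ι F) (x : ι → F) :
    (((toGL Q k : GL ι F) : Matrix ι ι F) * θ * (((toGL Q k)⁻¹ : GL ι F) : Matrix ι ι F)).mulVec x
      = (k : (ι → F) ≃ₗ[F] (ι → F)) (Matrix.toLin' θ ((k : (ι → F) ≃ₗ[F] (ι → F)).symm x)) := by
  rw [← Matrix.mulVec_mulVec, ← Matrix.mulVec_mulVec, toGL_inv_mulVec, toGL_mulVec,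
    Matrix.toLin'_apply]

theorem matrix_eq_of_forall_mulVec {A B : Matrix ι ι F} (hAB : ∀ x, A.mulVec x = B.mulVec x) :
    A = B := by
  apply Matrix.toLin'.injective
  apply LinearMap.ext
  intro x
  rw [Matrix.toLin'_apply, Matrix.toLin'_apply, hAB]

section dict

variable {Q} {K : Subalgebra F (Matrix ι ι F)} {θ : Matrix ι ι F} {t N : F}
  (hθK : θ ∈ K) (hKθ : ∀ k ∈ K, ∃ a b : F, k = a • (1 : Matrix ι ι F) + b • θ)
  (h : UStr Q (Matrix.toLin' θ) t N)

include hθK hKθ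

theorem mem_K_iff (m : Matrix ι ι F) : m ∈ K ↔ ∃ a b : F, m = a • (1 : Matrix ι ι F) + b • θ := by
  constructor
  · exact hKθ m
  · rintro ⟨a, b, rfl⟩
    exact K.add_mem (K.smul_mem K.one_mem a) (K.smul_mem hθK b)

include h

/-- **the dictionary.** -/
theorem toGL_mem_normalizer_iff [Nonempty ι] (k : ↥(Isom Q)) :
    toGL Q k ∈ Cfsg.Geo.subalgebraNormalizer K ↔
      ∃ a b : F, ∀ x, (k : (ι → F) ≃ₗ[F] (ι → F))
        (Matrix.toLin' θ ((k : (ι → F) ≃ₗ[F] (ι → F)).symm x)) = a • x + b • Matrix.toLin' θ x := by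
  set g : GL ι F := toGL Q k with hg
  have hgg : (g : Matrix ι ι F) * ((g⁻¹ : GL ι F) : Matrix ι ι F) = 1 := Units.mul_inv g
  have hgg' : ((g⁻¹ : GL ι F) : Matrix ι ι F) * (g : Matrix ι ι F) = 1 := Units.inv_mul g
  constructor
  · intro hmem
    have h1 : (g : Matrix ι ι F) * θ * ((g⁻¹ : GL ι F) : Matrix ι ι F) ∈ K := (hmem θ).mp hθK
    obtain ⟨a, b, hab⟩ := hKθ _ h1
    refine ⟨a, b, fun x => ?_⟩
    rw [← conj_mulVec, ← hg, hab, Matrix.add_mulVec, Matrix.smul_mulVec, Matrix.smul_mulVec,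
      Matrix.one_mulVec, Matrix.toLin'_apply]
  · rintro ⟨a, b, hab⟩
    have hA : (g : Matrix ι ι F) * θ * ((g⁻¹ : GL ι F) : Matrix ι ι F)
        = a • (1 : Matrix ι ι F) + b • θ := by
      apply matrix_eq_of_forall_mulVec
      intro x
      rw [hg, conj_mulVec, hab x, Matrix.add_mulVec, Matrix.smul_mulVec, Matrix.smul_mulVec,
        Matrix.one_mulVec, Matrix.toLin'_apply]
    -- `θ` in terms of the inverse conjugate
    have hθ : θ = a • (1 : Matrix ι ι F)
        + b • (((g⁻¹ : GL ι F) : Matrix ι ι F) * θ * (g : Matrix ι ι F)) := by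
      have h2 : ((g⁻¹ : GL ι F) : Matrix ι ι F)
          * ((g : Matrix ι ι F) * θ * ((g⁻¹ : GL ι F) : Matrix ι ι F)) * (g : Matrix ι ι F) = θ := by
        rw [Matrix.mul_assoc, Matrix.mul_assoc, Matrix.mul_assoc, hgg', Matrix.mul_one,
          ← Matrix.mul_assoc, hgg', Matrix.one_mul]
      rw [hA] at h2
      have h2' : ((g⁻¹ : GL ι F) : Matrix ι ι F) * (a • (1 : Matrix ι ι F) + b • θ)
          * (g : Matrix ι ι F)
          = a • (1 : Matrix ι ι F)
            + b • (((g⁻¹ : GL ι F) : Matrix ι ι F) * θ * (g : Matrix ι ι F)) := by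
        rw [Matrix.mul_add, Matrix.add_mul, Matrix.mul_smul, Matrix.smul_mul, Matrix.mul_one,
          hgg', Matrix.mul_smul, Matrix.smul_mul]
      exact h2.symm.trans h2'
    have hb : b ≠ 0 := by
      intro hb0
      rw [hb0, zero_smul, add_zero] at hθ
      obtain ⟨i⟩ := ‹Nonempty ι›
      have hx0 : (Pi.single i (1 : F) : ι → F) ≠ 0 := by
        intro h0
        have := congrFun h0 i
        rw [Pi.single_eq_same] at this
        exact one_ne_zero this
      have h3 := h.indep hx0 (a := a) (b := -1) (by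
        rw [Matrix.toLin'_apply]
        conv_lhs => rw [hθ]
        rw [Matrix.smul_mulVec, Matrix.one_mulVec]
        module)
      exact one_ne_zero (neg_eq_zero.mp h3.2)
    have hinvθ : ((g⁻¹ : GL ι F) : Matrix ι ι F) * θ * (g : Matrix ι ι F)
        = (-(b⁻¹ * a)) • (1 : Matrix ι ι F) + b⁻¹ • θ := by
      have h4 : b • (((g⁻¹ : GL ι F) : Matrix ι ι F) * θ * (g : Matrix ι ι F))
          = θ - a • (1 : Matrix ι ι F) := by
        conv_rhs => rw [hθ]
        abel
      have h5 : ((g⁻¹ : GL ι F) : Matrix ι ι F) * θ * (g : Matrix ι ι F)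
          = b⁻¹ • (b • (((g⁻¹ : GL ι F) : Matrix ι ι F) * θ * (g : Matrix ι ι F))) := by
        rw [smul_smul, inv_mul_cancel₀ hb, one_smul]
      rw [h5, h4, smul_sub, smul_smul]
      module
    intro m
    constructor
    · intro hm
      obtain ⟨a', b', rfl⟩ := hKθ m hm
      rw [Matrix.mul_add, Matrix.add_mul, Matrix.mul_smul, Matrix.smul_mul, Matrix.mul_one, hgg,
        Matrix.mul_smul, Matrix.smul_mul, hA]
      exact K.add_mem (K.smul_mem K.one_mem a') (K.smul_mem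
        (K.add_mem (K.smul_mem K.one_mem a) (K.smul_mem hθK b)) b')
    · intro hm
      obtain ⟨a', b', hab'⟩ := hKθ _ hm
      have h6 : m = ((g⁻¹ : GL ι F) : Matrix ι ι F)
          * ((g : Matrix ι ι F) * m * ((g⁻¹ : GL ι F) : Matrix ι ι F)) * (g : Matrix ι ι F) := by
        rw [Matrix.mul_assoc, Matrix.mul_assoc, Matrix.mul_assoc, hgg', Matrix.mul_one,
          ← Matrix.mul_assoc, hgg', Matrix.one_mul]
      rw [h6, hab', Matrix.mul_add, Matrix.add_mul, Matrix.mul_smul, Matrix.smul_mul, Matrix.mul_one,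
        hgg', Matrix.mul_smul, Matrix.smul_mul, hinvθ]
      exact K.add_mem (K.smul_mem K.one_mem a') (K.smul_mem
        (K.add_mem (K.smul_mem K.one_mem _) (K.smul_mem hθK _)) b')

end dict

/-- **the maximality statement from the data.** -/
theorem unitary_maximal_of_ustr [Fintype F] (hQ : (QuadraticMap.polarBilin Q).Nondegenerate)
    (hn : 13 ≤ Fintype.card ι) (K : Subalgebra F (Matrix ι ι F)) (θ : Matrix ι ι F) (t N : F)
    (hθK : θ ∈ K) (hKθ : ∀ k ∈ K, ∃ a b : F, k = a • (1 : Matrix ι ι F) + b • θ)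
    (h : UStr Q (Matrix.toLin' θ) t N)
    (hP3 : ∀ ε' : (ι → F) →ₗ[F] (ι → F),
      (¬ ∃ a b : F, ∀ x, ε' x = a • x + b • Matrix.toLin' θ x) →
      ∃ z, z ≠ 0 ∧ Q z = 0 ∧ ∀ a b : F, ε' z ≠ a • z + b • Matrix.toLin' θ z) :
    Cfsg.Geo.IsMaximalIn (Cfsg.Geo.omegaGL ⇑Q)
      (Cfsg.Geo.subalgebraNormalizer K ⊓ Cfsg.Geo.omegaGL ⇑Q) := by
  have hQ' : Nondeg Q := (nondeg_iff Q).mp hQ
  have hfr : finrank F (ι → F) = Fintype.card ι := Module.finrank_fintype_fun_eq_card F
  have h5 : 5 ≤ Fintype.card ι := by omega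
  have hne : Nonempty ι := by
    rw [← Fintype.card_pos_iff]; omega
  refine ⟨lt_of_le_not_ge inf_le_right ?_, ?_⟩
  · intro hle
    obtain ⟨g, hg, hgn⟩ := exists_not_normalizes h hQ' (by rw [hfr]; omega)
    have h1 : toGL Q g ∈ Cfsg.Geo.subalgebraNormalizer K := (hle (toGL_mem_omegaGL Q hQ h5 hg)).1
    exact hgn ((toGL_mem_normalizer_iff hθK hKθ h g).mp h1)
  · intro M hPM hMG
    -- the root elements of the lines of the extension lie in `M`
    have H1 : ∀ u, Q u = 0 → ∀ c : F, siegG Q u (c • Matrix.toLin' θ u) ∈ M.comap (toGL Q) := by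
      intro u hu c
      rw [Subgroup.mem_comap]
      apply hPM
      have huw : QuadraticMap.polar Q u (c • Matrix.toLin' θ u) = 0 := by
        rw [QuadraticMap.polar_smul_right, h.polar_self_eps hu, smul_zero]
      refine Subgroup.mem_inf.mpr ⟨?_, toGL_mem_omegaGL Q hQ h5 (siegG_mem_SG Q hu huw)⟩
      rw [toGL_mem_normalizer_iff hθK hKθ h]
      refine ⟨0, 1, fun x => ?_⟩
      rw [siegG_val, siegE_comm_eps h hu c, LinearEquiv.apply_symm_apply]
      simp
    by_cases hMN : M ≤ Cfsg.Geo.subalgebraNormalizer K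
    · left
      exact le_antisymm (le_inf hMN hMG) hPM
    · right
      apply le_antisymm hMG
      obtain ⟨g, hgM, hgN⟩ := SetLike.not_le_iff_exists.mp hMN
      obtain ⟨k, hk, rfl⟩ := exists_toGL_eq Q hQ h5 (hMG hgM)
      have hkn : ¬ ∃ a b : F, ∀ x, (k : (ι → F) ≃ₗ[F] (ι → F))
          (Matrix.toLin' θ ((k : (ι → F) ≃ₗ[F] (ι → F)).symm x))
            = a • x + b • Matrix.toLin' θ x :=
        fun hh => hgN ((toGL_mem_normalizer_iff hθK hKθ h k).mpr hh)
      obtain ⟨z₁, hz₁0, hz₁, hz₁ne⟩ := hP3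
        (((k : (ι → F) ≃ₗ[F] (ι → F)) : (ι → F) →ₗ[F] (ι → F)) ∘ₗ Matrix.toLin' θ ∘ₗ
          (((k : (ι → F) ≃ₗ[F] (ι → F)).symm : (ι → F) ≃ₗ[F] (ι → F)) : (ι → F) →ₗ[F] (ι → F)))
        hkn
      have key := SG_le_of_not_normalizes h H1 hQ' (by rw [hfr]; exact hn)
        (Subgroup.mem_comap.mpr hgM) hz₁0 hz₁ hz₁ne
      intro g' hg'
      obtain ⟨k', hk', rfl⟩ := exists_toGL_eq Q hQ h5 hg'
      exact Subgroup.mem_comap.mp (key hk')

end Cfsg.Agent.Helper8.ExtO
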