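import Mathlib
import Cfsg.Prelude.Def_GeometricClasses
import Cfsg.Agent.Lead.OrthPlaneC
import Cfsg.Agent.Helper8.AschOmN2A
import Cfsg.Agent.Helper8.ExtOA

set_option autoImplicit false
set_option linter.unusedSectionVars false

/-!
# S5700, part G (helper8): the data `UStr` from the frozen hypotheses

`exists_ustr`: an adjoint-closed, not self-adjoint field of degree two acting by similarities on a non-degenerate quadratic
space gives the data `UStr` for a generator `θ`.
-/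

namespace Cfsg.Agent.Helper8.ExtO

open Cfsg Cfsg.Geo Cfsg.Agent.Lead.OrthPlane
open scoped Matrix

variable {F : Type*} [Field F] {n : ℕ}

theorem exists_ustr (hn : 1 ≤ n) (Q₀ : (Fin n → F) → F) (hQ₀ : IsNondegenerateQuadraticForm Q₀)
    (K : Subalgebra F (Matrix (Fin n) (Fin n) F)) (hK : IsFieldSubalgebra 2 K)
    (hac : IsAdjointClosedFor (QuadraticMap.polar Q₀) K)
    (hnsa : ¬ IsSelfAdjointFor (QuadraticMap.polar Q₀) K)
    (hsc : ∀ k ∈ K, ∃ c : F, ∀ v : (Fin n → F), Q₀ (Matrix.mulVec k v) = c * Q₀ v) :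
    ∃ (θ : Matrix (Fin n) (Fin n) F) (t N : F), θ ∈ K ∧
      (∀ k ∈ K, ∃ a b : F, k = a • (1 : Matrix (Fin n) (Fin n) F) + b • θ) ∧
      UStr (bundle Q₀ hQ₀) (Matrix.toLin' θ) t N := by
  obtain ⟨θ, θ', t, ν, hθK, hθ'K, hadj, hsum, hprod, hspan⟩ :=
    Cfsg.Agent.Helper8.AschOm.exists_generator_two Q₀ hQ₀ K hK hac hnsa
  set Q := bundle Q₀ hQ₀ with hQdef
  have hQc : ∀ v, Q v = Q₀ v := fun v => rfl
  have hpol : ∀ u v, QuadraticMap.polar Q u v = QuadraticMap.polar Q₀ u v := fun u v => rfl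
  -- a pair of vectors with non-zero pairing
  obtain ⟨u₀, v₀, huv₀⟩ : ∃ u₀ v₀ : Fin n → F, QuadraticMap.polar Q u₀ v₀ ≠ 0 := by
    have hx0 : (Pi.single (⟨0, hn⟩ : Fin n) (1 : F) : Fin n → F) ≠ 0 := by
      intro h0
      have := congrFun h0 ⟨0, hn⟩
      rw [Pi.single_eq_same] at this
      exact one_ne_zero this
    obtain ⟨y, hy⟩ := (hQ₀.nondegenerate _ hx0).1
    exact ⟨y, _, hy⟩
  have hθ' : θ' = t • (1 : Matrix (Fin n) (Fin n) F) - θ := by
    rw [← hsum]; abel
  -- the square of `θ`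
  have hsqM : θ * θ = t • θ - ν • (1 : Matrix (Fin n) (Fin n) F) := by
    have h1 : θ * θ' = t • θ - θ * θ := by
      rw [hθ', Matrix.mul_sub, Matrix.mul_smul, Matrix.mul_one]
    rw [hprod] at h1
    rw [h1]; abel
  have hcomm : θ' * θ = ν • (1 : Matrix (Fin n) (Fin n) F) := by
    rw [hK.comm θ' hθ'K θ hθK, hprod]
  have hε : ∀ x, Matrix.toLin' θ x = θ *ᵥ x := fun x => Matrix.toLin'_apply θ x
  have hadjQ : ∀ x y, QuadraticMap.polar Q (Matrix.toLin' θ x) y
      = t * QuadraticMap.polar Q x y - QuadraticMap.polar Q x (Matrix.toLin' θ y) := by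
    intro x y
    rw [hε, hε, hpol, hadj, hθ', Matrix.sub_mulVec, Matrix.smul_mulVec, Matrix.one_mulVec, ← hpol,
      QuadraticMap.polar_sub_right, QuadraticMap.polar_smul_right, smul_eq_mul]
  have hadjQ' : ∀ x y, QuadraticMap.polar Q x (Matrix.toLin' θ y)
      = t * QuadraticMap.polar Q x y - QuadraticMap.polar Q (Matrix.toLin' θ x) y := by
    intro x y
    rw [hadjQ]; ring
  -- the multiplier of `θ`
  obtain ⟨c, hc⟩ := hsc θ hθK
  have hcν : c = ν := by
    have h1 : QuadraticMap.polar Q (θ *ᵥ u₀) (θ *ᵥ v₀) = c * QuadraticMap.polar Q u₀ v₀ := by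
      unfold QuadraticMap.polar
      rw [← Matrix.mulVec_add, hQc, hQc, hQc, hc, hc, hc, hQc, hQc, hQc]
      ring
    have h2 : QuadraticMap.polar Q (θ *ᵥ u₀) (θ *ᵥ v₀) = ν * QuadraticMap.polar Q u₀ v₀ := by
      rw [hpol, hadj, Matrix.mulVec_mulVec, hcomm, Matrix.smul_mulVec, Matrix.one_mulVec, ← hpol,
        QuadraticMap.polar_smul_right, smul_eq_mul]
    have h3 : (c - ν) * QuadraticMap.polar Q u₀ v₀ = 0 := by
      rw [sub_mul, ← h1, ← h2, sub_self]
    exact sub_eq_zero.mp ((mul_eq_zero.mp h3).resolve_right huv₀)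
  have hquad : ∀ x, Q (Matrix.toLin' θ x) = ν * Q x := by
    intro x
    rw [hε, hQc, hc, hcν, hQc]
  -- the multiplier of `1 + θ`
  obtain ⟨c', hc'⟩ := hsc (1 + θ) (K.add_mem K.one_mem hθK)
  have hself0 : ∀ x, QuadraticMap.polar Q x (Matrix.toLin' θ x) = (c' - 1 - ν) * Q x := by
    intro x
    have h1 := hc' x
    rw [Matrix.add_mulVec, Matrix.one_mulVec, ← hQc, ← hε, QuadraticMap.map_add Q, hquad] at h1
    rw [hQc] at h1 ⊢
    linear_combination h1
  have ht : c' - 1 - ν = t := by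
    have h1 : QuadraticMap.polar Q u₀ (Matrix.toLin' θ v₀) + QuadraticMap.polar Q v₀ (Matrix.toLin' θ u₀)
        = (c' - 1 - ν) * QuadraticMap.polar Q u₀ v₀ := by
      have e1 := hself0 (u₀ + v₀)
      rw [map_add, QuadraticMap.polar_add_left, QuadraticMap.polar_add_right,
        QuadraticMap.polar_add_right, hself0, hself0, QuadraticMap.map_add Q] at e1
      linear_combination e1
    have h2 : QuadraticMap.polar Q v₀ (Matrix.toLin' θ u₀)
        = t * QuadraticMap.polar Q u₀ v₀ - QuadraticMap.polar Q u₀ (Matrix.toLin' θ v₀) := by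
      rw [QuadraticMap.polar_comm, hadjQ]
    rw [h2] at h1
    have h3 : (c' - 1 - ν - t) * QuadraticMap.polar Q u₀ v₀ = 0 := by linear_combination -h1
    exact sub_eq_zero.mp ((mul_eq_zero.mp h3).resolve_right huv₀)
  -- `θ` is not a scalar
  have hns : ∀ s : F, θ ≠ s • (1 : Matrix (Fin n) (Fin n) F) := by
    intro s hs
    apply hnsa
    intro k hk u v
    obtain ⟨a, b, rfl⟩ := hspan k hk
    rw [hs, smul_smul, ← add_smul, Matrix.smul_mulVec, Matrix.smul_mulVec, Matrix.one_mulVec,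
      Matrix.one_mulVec, hQ₀.polar_bilinear.smul_left, hQ₀.polar_bilinear.smul_right]
  have h1ne : (1 : Matrix (Fin n) (Fin n) F) ≠ 0 := by
    intro h1
    have := congrFun (congrFun h1 ⟨0, hn⟩) ⟨0, hn⟩
    rw [Matrix.one_apply_eq, Matrix.zero_apply] at this
    exact one_ne_zero this
  have hli : ∀ a b : F, a • (1 : Matrix (Fin n) (Fin n) F) + b • θ = 0 → a = 0 ∧ b = 0 := by
    intro a b hab
    by_cases hb : b = 0
    · subst hb
      rw [zero_smul, add_zero] at hab
      refine ⟨?_, rfl⟩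
      rcases smul_eq_zero.mp hab with h | h
      · exact h
      · exact absurd h h1ne
    · exfalso
      apply hns (-(b⁻¹ * a))
      have h1 : b • θ = -(a • (1 : Matrix (Fin n) (Fin n) F)) := eq_neg_of_add_eq_zero_right hab
      have h2 : θ = b⁻¹ • (b • θ) := by rw [smul_smul, inv_mul_cancel₀ hb, one_smul]
      rw [h2, h1, smul_neg, smul_smul, neg_smul]
  refine ⟨θ, t, ν, hθK, hspan, ⟨?_, hadjQ, hquad, ?_, ?_⟩⟩
  · intro x
    rw [hε, hε, Matrix.mulVec_mulVec, hsqM, Matrix.sub_mulVec, Matrix.smul_mulVec,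
      Matrix.smul_mulVec, Matrix.one_mulVec]
  · intro x
    rw [hself0, ht]
  · intro a b hab
    -- the product of the two conjugates
    have hprod2 : (a • (1 : Matrix (Fin n) (Fin n) F) + b • θ)
        * (a • (1 : Matrix (Fin n) (Fin n) F) + b • θ')
        = (a * a + t * a * b + ν * b * b) • (1 : Matrix (Fin n) (Fin n) F) := by
      simp only [add_mul, mul_add, smul_mul_assoc, mul_smul_comm, one_mul, mul_one, hprod]
      rw [hθ']
      module
    rw [hab, zero_smul] at hprod2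
    by_contra hne
    have hx : a • (1 : Matrix (Fin n) (Fin n) F) + b • θ ≠ 0 := fun h0 => hne (hli a b h0)
    obtain ⟨y, hyK, hy⟩ := hK.inv _ (K.add_mem (K.smul_mem K.one_mem a) (K.smul_mem hθK b)) hx
    have hcm := hK.comm _ (K.add_mem (K.smul_mem K.one_mem a) (K.smul_mem hθK b)) y hyK
    have h2 : a • (1 : Matrix (Fin n) (Fin n) F) + b • θ' = 0 := by
      have h3 : y * ((a • (1 : Matrix (Fin n) (Fin n) F) + b • θ)
          * (a • (1 : Matrix (Fin n) (Fin n) F) + b • θ')) = 0 := by rw [hprod2, Matrix.mul_zero]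
      rw [← Matrix.mul_assoc, ← hcm, hy, Matrix.one_mul] at h3
      exact h3
    rw [hθ'] at h2
    have h4 : (a + b * t) • (1 : Matrix (Fin n) (Fin n) F) + (-b) • θ = 0 := by
      rw [← h2]; module
    obtain ⟨h5, h6⟩ := hli _ _ h4
    have hb0 : b = 0 := neg_eq_zero.mp h6
    rw [hb0, zero_mul, add_zero] at h5
    exact hne ⟨h5, hb0⟩

end Cfsg.Agent.Helper8.ExtO
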