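import Mathlib
import Cfsg.Agent.Helper7.ChevF4l
import Cfsg.Agent.Helper7.ChevT16

set_option autoImplicit false
set_option linter.unusedSectionVars false

/-! The unipotent subgroup of `F₄`: the height grading with bounded levels, and the exponent. -/

namespace Cfsg.Agent.Helper8.F4Two

open Cfsg Cfsg.Lie Matrix Cfsg.Agent.Helper7 Cfsg.Agent.Helper7.Chev Cfsg.Agent.Helper7.Tri

/-- The total height of a root computed from the tables. -/
def tabHt (T : Tab) (W : List (List ℤ)) (s : ℕ) : ℤ :=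
  ((List.range T.l).map fun k => T.wt W k s).sum

/-- The heights are bounded. -/
def HtBound (T : Tab) (W : List (List ℤ)) (B : ℤ) : Prop :=
  AllLt T.n (fun s => -B ≤ tabHt T W s ∧ tabHt T W s ≤ B)

instance (T : Tab) (W : List (List ℤ)) (B : ℤ) : Decidable (HtBound T W B) := by
  unfold HtBound; infer_instance

set_option maxRecDepth 1000000 in
set_option maxHeartbeats 0 in
theorem htBound_fast : HtBound fastF4 wtMatF4 11 := by decide +kernel

theorem htBound_F4 : HtBound (tabOf chevF4) wtMatF4 11 := tab_F4 ▸ htBound_fast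

theorem sum_range_eq_list (n : ℕ) (f : ℕ → ℤ) :
    ∑ k ∈ Finset.range n, f k = ((List.range n).map f).sum := by
  induction n with
  | zero => simp
  | succ n ih => rw [Finset.sum_range_succ, ih, List.range_succ, List.map_append, List.sum_append]; simp

theorem tabOf_l (D : ChevalleyDatum) : (tabOf D).l = D.rank := rfl

theorem fJ_empty' (D : ChevalleyDatum) (W : List (List ℤ)) (s : ℕ) :
    fJ D W ∅ s = tabHt (tabOf D) W s := by
  unfold fJ tabHt
  rw [tabOf_l, ← sum_range_eq_list]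
  apply Finset.sum_congr rfl
  intro k _
  exact if_neg (Set.notMem_empty k)

theorem fJ_empty (s : ℕ) : fJ chevF4 wtMatF4 ∅ s = tabHt (tabOf chevF4) wtMatF4 s :=
  fJ_empty' chevF4 wtMatF4 s

theorem fJ_bound {s : ℕ} (hs : s < chevF4.nroots) :
    -11 ≤ fJ chevF4 wtMatF4 ∅ s ∧ fJ chevF4 wtMatF4 ∅ s ≤ 11 := by
  rw [fJ_empty]
  exact htBound_F4 s hs

theorem fI_bound (v : chevF4.Idx) :
    -11 ≤ fI chevF4 wtMatF4 ∅ v ∧ fI chevF4 wtMatF4 ∅ v ≤ 11 := by
  rcases v with i | s
  · simp [fI]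
  · exact fJ_bound s.2

/-- The level function: the height shifted by 11. -/
noncomputable def lvl (v : chevF4.Idx) : ℕ := (fI chevF4 wtMatF4 ∅ v + 11).toNat

theorem lvl_cast (v : chevF4.Idx) : ((lvl v : ℕ) : ℤ) = fI chevF4 wtMatF4 ∅ v + 11 := by
  unfold lvl
  apply Int.toNat_of_nonneg
  have := (fI_bound v).1
  omega

theorem lvl_lt (v : chevF4.Idx) : lvl v < 32 := by
  have h1 := lvl_cast v
  have h2 := (fI_bound v).2
  omega

theorem not_inRootSub_empty {r : ℕ} (hr : r < chevF4.nroots) : ¬ chevF4.InRootSub ∅ r := by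
  intro h
  have hp := good3_F4.toGood2.toGood1.pairing_self hr
  unfold Tab.pairing at hp
  have h0 : ((List.range (tabOf chevF4).l).map
      fun i => (tabOf chevF4).cr r i * (tabOf chevF4).cartan i r) =
      (List.range (tabOf chevF4).l).map fun _ => (0 : ℤ) := by
    apply List.map_congr_left
    intro i hi
    rw [List.mem_range] at hi
    have : (tabOf chevF4).cr r i = 0 := h.2 i hi (Set.notMem_empty i)
    rw [this, zero_mul]
  rw [h0] at hp
  simp at hp

variable {F : Type*} [Field F]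

/-- The root elements of the positive roots are unitriangular for the levels. -/
theorem raises_x_pos {r : ℕ} (hr : chevF4.IsPosRoot r) (t : F) :
    Raises lvl 1 (chevF4.x F r t - 1) := by
  have hG := good3_F4.toGood2
  have hrl := hr.1
  have hp := (isPosRoot_iff T0_F4 hrl).mp hr
  have h0 := fJ_nonneg T16_F4 ∅ hrl hp
  have h1 : fJ chevF4 wtMatF4 ∅ r ≠ 0 := fun h =>
    not_inRootSub_empty hrl ((fJ_eq_zero_iff T16_F4 ∅ hrl hp).mp h)
  intro row col h
  rw [x_of_lt chevF4 F hrl] at h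
  obtain ⟨k, hk1, hk⟩ := xMat_sub_one_height (W := wtMatF4) hG ∅ ⟨r, hrl⟩ t row col h
  have e1 := lvl_cast row
  have e2 := lvl_cast col
  have hmul : (1 : ℤ) ≤ (k : ℤ) * fJ chevF4 wtMatF4 ∅ r := by
    have hk' : (1 : ℤ) ≤ (k : ℤ) := by exact_mod_cast hk1
    have : (1 : ℤ) ≤ fJ chevF4 wtMatF4 ∅ r := by omega
    nlinarith
  have hk2 : fI chevF4 wtMatF4 ∅ row = fI chevF4 wtMatF4 ∅ col + (k : ℤ) * fJ chevF4 wtMatF4 ∅ r :=
    hk
  have : ((lvl col : ℕ) : ℤ) + 1 ≤ ((lvl row : ℕ) : ℤ) := by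
    rw [e1, e2, hk2]; linarith
  exact_mod_cast this

theorem posUnipotent_le_UTk : chevF4.posUnipotent F ≤ UTk F lvl 0 := by
  unfold ChevalleyDatum.posUnipotent
  rw [Subgroup.closure_le]
  rintro g ⟨r, t, hr, hg⟩
  change Raises lvl 1 ((g : Matrix chevF4.Idx chevF4.Idx F) - 1)
  rw [hg]
  exact raises_x_pos hr t

/-- The elements of `U` have order dividing 32 in characteristic 2. -/
theorem pow_32_eq_one [CharP F 2] {g : GL chevF4.Idx F} (hg : g ∈ chevF4.posUnipotent F) :
    g ^ 32 = 1 := by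
  have h1 : ((g : Matrix chevF4.Idx chevF4.Idx F) - 1) ^ 32 = 0 :=
    sub_one_pow_eq_zero F lvl (posUnipotent_le_UTk hg) lvl_lt
  have : Fact (Nat.Prime 2) := ⟨Nat.prime_two⟩
  haveI : Nonempty chevF4.Idx := ⟨Sum.inl ⟨0, by decide⟩⟩
  have h2 : ((g : Matrix chevF4.Idx chevF4.Idx F) - 1) ^ 2 ^ 5 =
      (g : Matrix chevF4.Idx chevF4.Idx F) ^ 2 ^ 5 - 1 ^ 2 ^ 5 :=
    sub_pow_char_pow_of_commute (p := 2) (n := 5) (h := Commute.one_right _)
  apply Units.ext
  rw [Units.val_pow_eq_pow_val, Units.val_one]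
  have h3 : (2 : ℕ) ^ 5 = 32 := by norm_num
  rw [h3, one_pow, h1] at h2
  exact (sub_eq_zero.mp h2.symm)

end Cfsg.Agent.Helper8.F4Two
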