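import Mathlib

set_option autoImplicit false

/-!
Arithmetic for the order bounds `|G| < p^{3k}`, `|G|^3 < p^{8k}` of groups of Lie type.
-/

namespace Cfsg.Agent.Helper8.LieOrd

open Finset

/-! ### coprimality calculus -/

theorem cop_succ {p y : ℕ} (h : p ∣ y) : Nat.Coprime p (y + 1) :=
  Nat.Coprime.coprime_dvd_left h (by simp)

theorem cop_pred {p y : ℕ} (h : p ∣ y) (hy : 0 < y) : Nat.Coprime p (y - 1) := by
  have h1 : Nat.Coprime y (y - 1) := by
    have : Nat.Coprime (y - 1 + 1) (y - 1) := by simp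
    rwa [Nat.sub_add_cancel hy] at this
  exact Nat.Coprime.coprime_dvd_left h h1

theorem cop_add {p q : ℕ} (hpq : p ∣ q) (a : ℕ) (ha : 1 ≤ a) : Nat.Coprime p (q ^ a + 1) :=
  cop_succ (dvd_trans hpq (dvd_pow_self q (by omega)))

theorem cop_sub {p q : ℕ} (hpq : p ∣ q) (hq : 0 < q) (a : ℕ) (ha : 1 ≤ a) :
    Nat.Coprime p (q ^ a - 1) :=
  cop_pred (dvd_trans hpq (dvd_pow_self q (by omega))) (pow_pos hq a)

theorem cop_sub' {p q : ℕ} (hpq : p ∣ q) (hq : 0 < q) : Nat.Coprime p (q - 1) := by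
  simpa using cop_sub hpq hq 1 le_rfl

theorem cop_add' {p q : ℕ} (hpq : p ∣ q) : Nat.Coprime p (q + 1) := by
  simpa using cop_add hpq 1 le_rfl

theorem cop_of_dvd {p a b : ℕ} (h : Nat.Coprime p b) (hab : a ∣ b) : Nat.Coprime p a :=
  Nat.Coprime.coprime_dvd_right hab h

theorem cop_prod {p q : ℕ} (hpq : p ∣ q) (hq : 0 < q) {ι : Type*} (s : Finset ι) (a : ι → ℕ)
    (ha : ∀ i ∈ s, 1 ≤ a i) : Nat.Coprime p (∏ i ∈ s, (q ^ a i - 1)) :=
  Nat.Coprime.prod_right fun i hi => cop_sub hpq hq (a i) (ha i hi)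

/-! ### the `Lt` calculus: `A < q ^ a` -/

def Lt (q A a : ℕ) : Prop := A < q ^ a

theorem Lt.mul {q A B a b : ℕ} (h1 : Lt q A a) (h2 : Lt q B b) : Lt q (A * B) (a + b) := by
  unfold Lt at *
  rw [pow_add]
  exact Nat.mul_lt_mul'' h1 h2

theorem lt_sub {q : ℕ} (hq : 0 < q) (a : ℕ) : Lt q (q ^ a - 1) a := by
  unfold Lt
  have := pow_pos hq a
  omega

theorem lt_sub' {q : ℕ} (hq : 0 < q) : Lt q (q - 1) 1 := by
  simpa using lt_sub hq 1

theorem lt_add {q : ℕ} (hq : 2 ≤ q) (a : ℕ) (ha : 1 ≤ a) : Lt q (q ^ a + 1) (a + 1) := by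
  unfold Lt
  rw [pow_succ]
  have h1 : 2 ≤ q ^ a := by
    calc 2 ≤ q := hq
      _ = q ^ 1 := (pow_one q).symm
      _ ≤ q ^ a := Nat.pow_le_pow_right (by omega) ha
  nlinarith

theorem lt_pair {q : ℕ} (hq : 0 < q) {i j : ℕ} (hji : j ≤ i) :
    Lt q ((q ^ j - 1) * (q ^ i + 1)) (j + i) := by
  unfold Lt
  have h1 : 0 < q ^ j := pow_pos hq j
  have h2 : q ^ j ≤ q ^ i := Nat.pow_le_pow_right hq hji
  rw [pow_add]
  generalize q ^ j = y at *
  generalize q ^ i = z at *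
  obtain ⟨x, rfl⟩ : ∃ x, y = x + 1 := ⟨y - 1, by omega⟩
  simp only [Nat.add_sub_cancel]
  nlinarith

theorem lt_prod {q : ℕ} (hq : 2 ≤ q) {ι : Type*} (s : Finset ι) (a : ι → ℕ) (hs : s.Nonempty)
    (ha : ∀ i ∈ s, 1 ≤ a i) : Lt q (∏ i ∈ s, (q ^ a i - 1)) (∑ i ∈ s, a i) := by
  unfold Lt
  rw [← Finset.prod_pow_eq_pow_sum]
  refine Finset.prod_lt_prod_of_nonempty (fun i hi => ?_) (fun i hi => ?_) hs
  · have h1 : 2 ≤ q ^ a i := by
      calc 2 ≤ q := hq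
        _ = q ^ 1 := (pow_one q).symm
        _ ≤ q ^ a i := Nat.pow_le_pow_right (by omega) (ha i hi)
    omega
  · have := pow_pos (show 0 < q by omega) (a i)
    omega

/-! ### the core -/

theorem core {p f N e d n R : ℕ} (hp : p.Prime) (hn : 0 < n)
    (h : d * n = (p ^ f) ^ N * R) (hdp : Nat.Coprime p d) (hR : Nat.Coprime p R)
    (hlt : R < d * (p ^ f) ^ e) (he : e ≤ 2 * N) :
    n.factorization p = f * N ∧ n < p ^ (3 * (f * N)) ∧
      (3 * e ≤ 5 * N → n ^ 3 < p ^ (8 * (f * N))) := by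
  have hd0 : d ≠ 0 := by
    rintro rfl
    rw [Nat.coprime_zero_right] at hdp
    exact hp.one_lt.ne' hdp
  have hR0 : R ≠ 0 := by
    rintro rfl
    rw [Nat.coprime_zero_right] at hR
    exact hp.one_lt.ne' hR
  have hq : 0 < p ^ f := pow_pos hp.pos f
  have h1 : n.factorization p = f * N := by
    have h2 := congrArg (fun x => x.factorization p) h
    rw [Nat.factorization_mul hd0 hn.ne', Nat.factorization_mul (pow_ne_zero _ hq.ne') hR0,
      Finsupp.add_apply, Finsupp.add_apply,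
      Nat.factorization_eq_zero_of_not_dvd ((Nat.Prime.coprime_iff_not_dvd hp).mp hdp),
      Nat.factorization_eq_zero_of_not_dvd ((Nat.Prime.coprime_iff_not_dvd hp).mp hR),
      ← pow_mul, Nat.Prime.factorization_pow hp] at h2
    simpa using h2
  have h2 : n < (p ^ f) ^ (N + e) := by
    have h3 : d * n < d * (p ^ f) ^ (N + e) := by
      rw [h, pow_add]
      calc (p ^ f) ^ N * R < (p ^ f) ^ N * (d * (p ^ f) ^ e) :=
            Nat.mul_lt_mul_of_pos_left hlt (pow_pos hq N)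
        _ = d * ((p ^ f) ^ N * (p ^ f) ^ e) := by ring
    exact lt_of_mul_lt_mul_left h3 (Nat.zero_le _)
  refine ⟨h1, ?_, fun h3 => ?_⟩
  · calc n < (p ^ f) ^ (N + e) := h2
      _ ≤ (p ^ f) ^ (3 * N) := Nat.pow_le_pow_right hq (by omega)
      _ = p ^ (3 * (f * N)) := by rw [← pow_mul]; congr 1; ring
  · calc n ^ 3 < ((p ^ f) ^ (N + e)) ^ 3 := Nat.pow_lt_pow_left h2 (by norm_num)
      _ = (p ^ f) ^ (3 * N + 3 * e) := by rw [← pow_mul]; congr 1; ring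
      _ ≤ (p ^ f) ^ (8 * N) := Nat.pow_le_pow_right hq (by omega)
      _ = p ^ (8 * (f * N)) := by rw [← pow_mul]; congr 1; ring

/-- The form used for every family but `PSL₂`. -/
theorem finish {p f N e d n R : ℕ} (hp : p.Prime) (hn : 0 < n)
    (h : d * n = (p ^ f) ^ N * R) (hdp : Nat.Coprime p d) (hR : Nat.Coprime p R)
    (hlt : R < d * (p ^ f) ^ e) (he : e ≤ 2 * N) (h3 : 3 * e ≤ 5 * N) (X : Prop) :
    n < p ^ (3 * n.factorization p) ∧ (X → n ^ 3 < p ^ (8 * n.factorization p)) := by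
  obtain ⟨h1, h2, h4⟩ := core hp hn h hdp hR hlt he
  rw [h1]
  exact ⟨h2, fun _ => h4 h3⟩

/-- The form used for `PSL₂`. -/
theorem finish' {p f N e d n R : ℕ} (hp : p.Prime) (hn : 0 < n)
    (h : d * n = (p ^ f) ^ N * R) (hdp : Nat.Coprime p d) (hR : Nat.Coprime p R)
    (hlt : R < d * (p ^ f) ^ e) (he : e ≤ 2 * N) :
    n < p ^ (3 * n.factorization p) ∧ n.factorization p = f * N := by
  obtain ⟨h1, h2, -⟩ := core hp hn h hdp hR hlt he
  rw [h1]
  exact ⟨h2, rfl⟩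

/-- `R < q ^ e` gives `R < d * q ^ e` for `d > 0`. -/
theorem lt_mul_of_Lt {q R e d : ℕ} (h : Lt q R e) (hd : 0 < d) : R < d * q ^ e :=
  lt_of_lt_of_le h (Nat.le_mul_of_pos_left _ hd)

end Cfsg.Agent.Helper8.LieOrd
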