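import Mathlib
import Cfsg.Agent.Helper8.LieOrdA

set_option autoImplicit false

/-!
Order bounds, family by family, from the order formulas (taken as hypotheses).
-/

namespace Cfsg.Agent.Helper8.LieOrd

open Finset

/-! ### sums of exponents -/

theorem sum_two_mul (m : ℕ) : ∑ i ∈ range m, 2 * (i + 1) = m * (m + 1) := by
  induction m with
  | zero => simp
  | succ m ih => rw [Finset.sum_range_succ, ih]; ring

theorem sum_add_two (k : ℕ) : 2 * ∑ i ∈ range k, (i + 2) = k * (k + 3) := by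
  induction k with
  | zero => simp
  | succ k ih => rw [Finset.sum_range_succ, mul_add, ih]; ring

theorem sum_id (k : ℕ) : 2 * ∑ i ∈ range (k + 1), i = (k + 1) * k := by
  have := Finset.sum_range_id_mul_two (k + 1)
  simp only [Nat.add_sub_cancel] at this
  omega

section basics

variable {p f q : ℕ}

theorem dvd_q (hf : 1 ≤ f) (hq : q = p ^ f) : p ∣ q := hq ▸ dvd_pow_self p (by omega)

theorem two_le_q (hp : p.Prime) (hf : 1 ≤ f) (hq : q = p ^ f) : 2 ≤ q := by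
  subst hq
  calc 2 ≤ p := hp.two_le
    _ = p ^ 1 := (pow_one p).symm
    _ ≤ p ^ f := Nat.pow_le_pow_right hp.pos hf

end basics

/-! ### linear groups -/

theorem prod_fin_eq (q n : ℕ) :
    ∏ i : Fin n, (q ^ n - q ^ (i : ℕ)) =
      q ^ (∑ i ∈ range n, i) * ∏ i ∈ range n, (q ^ (i + 1) - 1) := by
  rw [Fin.prod_univ_eq_prod_range (fun i => q ^ n - q ^ i) n]
  rw [← Finset.prod_range_reflect (fun i => q ^ (i + 1) - 1) n, ← Finset.prod_pow_eq_pow_sum,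
    ← Finset.prod_mul_distrib]
  refine Finset.prod_congr rfl fun i hi => ?_
  rw [Finset.mem_range] at hi
  rw [Nat.mul_sub, mul_one, ← pow_add]
  congr 2
  omega

theorem fam_psl_aux {p f q : ℕ} (hp : p.Prime) (hf : 1 ≤ f) (hq : q = p ^ f) {k c : ℕ}
    (hc : 0 < c)
    (h : Nat.gcd (k + 2) (q - 1) * ((q - 1) * c) = ∏ i : Fin (k + 2), (q ^ (k + 2) - q ^ (i : ℕ))) :
    ∃ N e d R : ℕ, d * c = (p ^ f) ^ N * R ∧ Nat.Coprime p d ∧ Nat.Coprime p R ∧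
      R < d * (p ^ f) ^ e ∧ 2 * N = (k + 2) * (k + 1) ∧ 2 * e = (k + 1) * (k + 4) := by
  have hpq := dvd_q hf hq
  have hq2 := two_le_q hp hf hq
  have hq0 : 0 < q := by omega
  subst hq
  refine ⟨∑ i ∈ range (k + 2), i, ∑ i ∈ range (k + 1), (i + 2),
    Nat.gcd (k + 2) (p ^ f - 1) * (p ^ f - 1), ∏ i ∈ range (k + 2), ((p ^ f) ^ (i + 1) - 1),
    ?_, ?_, ?_, ?_, ?_, ?_⟩
  · rw [← prod_fin_eq, ← h]; ring
  · exact Nat.Coprime.mul_right (cop_of_dvd (cop_sub' hpq hq0) (Nat.gcd_dvd_right _ _))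
      (cop_sub' hpq hq0)
  · exact cop_prod hpq hq0 _ _ fun i _ => by omega
  · rw [Finset.prod_range_succ']
    have h1 : Lt (p ^ f) (∏ i ∈ range (k + 1), ((p ^ f) ^ (i + 1 + 1) - 1))
        (∑ i ∈ range (k + 1), (i + 2)) :=
      lt_prod hq2 _ (fun i => i + 2) ⟨0, by simp⟩ fun i _ => by omega
    unfold Lt at h1
    have hg : 0 < Nat.gcd (k + 2) (p ^ f - 1) := Nat.gcd_pos_of_pos_left _ (by omega)
    have h2 : 0 < p ^ f - 1 := by omega
    simp only [zero_add, pow_one]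
    calc (∏ i ∈ range (k + 1), ((p ^ f) ^ (i + 1 + 1) - 1)) * (p ^ f - 1)
        < (p ^ f) ^ (∑ i ∈ range (k + 1), (i + 2)) * (p ^ f - 1) :=
          Nat.mul_lt_mul_of_pos_right h1 h2
      _ = 1 * ((p ^ f - 1) * (p ^ f) ^ (∑ i ∈ range (k + 1), (i + 2))) := by ring
      _ ≤ Nat.gcd (k + 2) (p ^ f - 1) * ((p ^ f - 1) * (p ^ f) ^ (∑ i ∈ range (k + 1), (i + 2))) :=
          Nat.mul_le_mul_right _ hg
      _ = _ := by ring
  · rw [sum_id (k + 1)]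
  · rw [sum_add_two]

theorem fam_psl {p f q : ℕ} (hp : p.Prime) (hf : 1 ≤ f) (hq : q = p ^ f) {n c : ℕ}
    (hn : 3 ≤ n) (hc : 0 < c)
    (h : Nat.gcd n (q - 1) * ((q - 1) * c) = ∏ i : Fin n, (q ^ n - q ^ (i : ℕ))) (X : Prop) :
    c < p ^ (3 * c.factorization p) ∧ (X → c ^ 3 < p ^ (8 * c.factorization p)) := by
  obtain ⟨k, rfl⟩ : ∃ k, n = k + 2 := ⟨n - 2, by omega⟩
  obtain ⟨N, e, d, R, h1, h2, h3, h4, h5, h6⟩ := fam_psl_aux hp hf hq hc h
  have hk : 1 ≤ k := by omega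
  refine finish hp hc h1 h2 h3 h4 ?_ ?_ X
  · nlinarith
  · nlinarith

theorem fam_psl2 {p f q : ℕ} (hp : p.Prime) (hf : 1 ≤ f) (hq : q = p ^ f) {c : ℕ}
    (hc : 0 < c)
    (h : Nat.gcd 2 (q - 1) * ((q - 1) * c) = ∏ i : Fin 2, (q ^ 2 - q ^ (i : ℕ))) :
    c < p ^ (3 * c.factorization p) ∧ c.factorization p = f := by
  obtain ⟨N, e, d, R, h1, h2, h3, h4, h5, h6⟩ := fam_psl_aux (k := 0) hp hf hq hc h
  have hN : N = 1 := by omega
  have he : e = 2 := by omega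
  subst hN he
  have := finish' hp hc h1 h2 h3 h4 (by norm_num)
  simpa using this

/-! ### symplectic and odd-dimensional orthogonal groups -/

theorem fam_sp {p f q : ℕ} (hp : p.Prime) (hf : 1 ≤ f) (hq : q = p ^ f) {m c d : ℕ}
    (hm : 2 ≤ m) (hc : 0 < c) (hd : 0 < d) (hdp : Nat.Coprime p d)
    (h : d * c = q ^ (m ^ 2) * ∏ i ∈ range m, (q ^ (2 * (i + 1)) - 1)) (X : Prop) :
    c < p ^ (3 * c.factorization p) ∧ (X → c ^ 3 < p ^ (8 * c.factorization p)) := by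
  have hpq := dvd_q hf hq
  have hq2 := two_le_q hp hf hq
  have hq0 : 0 < q := by omega
  subst hq
  have h1 : Lt (p ^ f) (∏ i ∈ range m, ((p ^ f) ^ (2 * (i + 1)) - 1))
      (∑ i ∈ range m, 2 * (i + 1)) :=
    lt_prod hq2 _ (fun i => 2 * (i + 1)) ⟨0, by simp; omega⟩ fun i _ => by omega
  refine finish hp hc h hdp (cop_prod hpq hq0 _ _ fun i _ => by omega) (lt_mul_of_Lt h1 hd)
    ?_ ?_ X
  · rw [sum_two_mul]; nlinarith
  · rw [sum_two_mul]; nlinarith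

/-! ### even-dimensional orthogonal groups -/

theorem fam_oplus {p f q : ℕ} (hp : p.Prime) (hf : 1 ≤ f) (hq : q = p ^ f) {m c : ℕ}
    (hm : 4 ≤ m) (hc : 0 < c)
    (h : Nat.gcd 4 (q ^ m - 1) * c =
      q ^ (m * (m - 1)) * (q ^ m - 1) * ∏ i ∈ range (m - 1), (q ^ (2 * (i + 1)) - 1)) (X : Prop) :
    c < p ^ (3 * c.factorization p) ∧ (X → c ^ 3 < p ^ (8 * c.factorization p)) := by
  have hpq := dvd_q hf hq
  have hq2 := two_le_q hp hf hq
  have hq0 : 0 < q := by omega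
  subst hq
  obtain ⟨k, rfl⟩ : ∃ k, m = k + 1 := ⟨m - 1, by omega⟩
  simp only [Nat.add_sub_cancel] at h
  have h1 : Lt (p ^ f) (∏ i ∈ range k, ((p ^ f) ^ (2 * (i + 1)) - 1))
      (∑ i ∈ range k, 2 * (i + 1)) :=
    lt_prod hq2 _ (fun i => 2 * (i + 1)) ⟨0, by simp; omega⟩ fun i _ => by omega
  have h2 := (lt_sub hq0 (k + 1)).mul h1
  refine finish hp hc (d := Nat.gcd 4 ((p ^ f) ^ (k + 1) - 1)) (N := (k + 1) * k)
    (R := ((p ^ f) ^ (k + 1) - 1) * ∏ i ∈ range k, ((p ^ f) ^ (2 * (i + 1)) - 1))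
    (by rw [h]; ring)
    (cop_of_dvd (cop_sub hpq hq0 (k + 1) (by omega)) (Nat.gcd_dvd_right _ _))
    (Nat.Coprime.mul_right (cop_sub hpq hq0 (k + 1) (by omega))
      (cop_prod hpq hq0 _ _ fun i _ => by omega))
    (lt_mul_of_Lt h2 (Nat.gcd_pos_of_pos_left _ (by norm_num))) ?_ ?_ X
  · rw [sum_two_mul]; nlinarith
  · rw [sum_two_mul]; nlinarith

theorem fam_ominus {p f q : ℕ} (hp : p.Prime) (hf : 1 ≤ f) (hq : q = p ^ f) {m c : ℕ}
    (hm : 4 ≤ m) (hc : 0 < c)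
    (h : Nat.gcd 4 (q ^ m + 1) * c =
      q ^ (m * (m - 1)) * (q ^ m + 1) * ∏ i ∈ range (m - 1), (q ^ (2 * (i + 1)) - 1)) (X : Prop) :
    c < p ^ (3 * c.factorization p) ∧ (X → c ^ 3 < p ^ (8 * c.factorization p)) := by
  have hpq := dvd_q hf hq
  have hq2 := two_le_q hp hf hq
  have hq0 : 0 < q := by omega
  subst hq
  obtain ⟨k, rfl⟩ : ∃ k, m = k + 1 := ⟨m - 1, by omega⟩
  simp only [Nat.add_sub_cancel] at h
  have h1 : Lt (p ^ f) (∏ i ∈ range k, ((p ^ f) ^ (2 * (i + 1)) - 1))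
      (∑ i ∈ range k, 2 * (i + 1)) :=
    lt_prod hq2 _ (fun i => 2 * (i + 1)) ⟨0, by simp; omega⟩ fun i _ => by omega
  have h2 := (lt_add hq2 (k + 1) (by omega)).mul h1
  refine finish hp hc (d := Nat.gcd 4 ((p ^ f) ^ (k + 1) + 1)) (N := (k + 1) * k)
    (R := ((p ^ f) ^ (k + 1) + 1) * ∏ i ∈ range k, ((p ^ f) ^ (2 * (i + 1)) - 1))
    (by rw [h]; ring)
    (cop_of_dvd (cop_add hpq (k + 1) (by omega)) (Nat.gcd_dvd_right _ _))
    (Nat.Coprime.mul_right (cop_add hpq (k + 1) (by omega))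
      (cop_prod hpq hq0 _ _ fun i _ => by omega))
    (lt_mul_of_Lt h2 (Nat.gcd_pos_of_pos_left _ (by norm_num))) ?_ ?_ X
  · rw [sum_two_mul]; nlinarith
  · rw [sum_two_mul]; nlinarith

end Cfsg.Agent.Helper8.LieOrd
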