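import Mathlib
import Cfsg.Agent.Helper8.LieOrdB

set_option autoImplicit false

/-!
Order bounds: unitary groups and the exceptional families.
-/

namespace Cfsg.Agent.Helper8.LieOrd

open Finset

/-! ### unitary groups -/

/-- the `i`-th factor of the order of `GU_n(q)` -/
def fU (q i : ℕ) : ℕ := if Even i then q ^ (i + 1) + 1 else q ^ (i + 1) - 1

/-- product of the factors `1, …, k` -/
def gU (q k : ℕ) : ℕ := ∏ i ∈ range k, fU q (i + 1)

/-- sum of the exponents `2, …, k+1` -/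
def EU (k : ℕ) : ℕ := ∑ i ∈ range k, (i + 2)

theorem fU_odd (q k : ℕ) : fU q (2 * k + 1) = q ^ (2 * k + 2) - 1 := by
  unfold fU
  rw [if_neg (by simp)]

theorem fU_even (q k : ℕ) : fU q (2 * k + 2) = q ^ (2 * k + 3) + 1 := by
  unfold fU
  rw [if_pos (by simp [Nat.even_add, parity_simps])]

theorem gU_succ (q k : ℕ) : gU q (k + 1) = gU q k * fU q (k + 1) := by
  unfold gU
  rw [Finset.prod_range_succ]

theorem EU_succ (k : ℕ) : EU (k + 1) = EU k + (k + 2) := by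
  unfold EU
  rw [Finset.sum_range_succ]

theorem gU_succ2 (q k : ℕ) :
    gU q (2 * (k + 1)) = gU q (2 * k) * ((q ^ (2 * k + 2) - 1) * (q ^ (2 * k + 3) + 1)) := by
  have e1 : 2 * (k + 1) = 2 * k + 1 + 1 := by ring
  rw [e1, gU_succ, gU_succ, fU_odd, show 2 * k + 1 + 1 = 2 * k + 2 from rfl, fU_even, mul_assoc]

theorem EU_succ2 (k : ℕ) : EU (2 * (k + 1)) = EU (2 * k) + ((2 * k + 2) + (2 * k + 3)) := by
  have e1 : 2 * (k + 1) = 2 * k + 1 + 1 := by ring
  rw [e1, EU_succ, EU_succ]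
  ring

theorem gU_le {q : ℕ} (hq : 0 < q) (k : ℕ) : gU q (2 * k) ≤ q ^ EU (2 * k) := by
  induction k with
  | zero => simp [gU, EU]
  | succ k ih =>
    rw [gU_succ2, EU_succ2, pow_add (a := q) (m := EU (2 * k))]
    have := lt_pair hq (show 2 * k + 2 ≤ 2 * k + 3 by omega)
    unfold Lt at this
    exact Nat.mul_le_mul ih (le_of_lt this)

theorem gU_lt {q : ℕ} (hq : 0 < q) (j : ℕ) (hj : 1 ≤ j) : Lt q (gU q j) (EU j) := by
  rcases Nat.even_or_odd' j with ⟨k, rfl | rfl⟩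
  · obtain ⟨k, rfl⟩ : ∃ k', k = k' + 1 := ⟨k - 1, by omega⟩
    have ih := gU_le hq k
    unfold Lt
    rw [gU_succ2, EU_succ2, pow_add (a := q) (m := EU (2 * k))]
    have := lt_pair hq (show 2 * k + 2 ≤ 2 * k + 3 by omega)
    unfold Lt at this
    exact Nat.mul_lt_mul_of_le_of_lt ih this (pow_pos hq _)
  · have ih := gU_le hq k
    unfold Lt
    rw [gU_succ, EU_succ, fU_odd, pow_add (a := q) (m := EU (2 * k))]
    have := lt_sub hq (2 * k + 2)
    unfold Lt at this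
    exact Nat.mul_lt_mul_of_le_of_lt ih this (pow_pos hq _)

theorem cop_fU {p q : ℕ} (hpq : p ∣ q) (hq : 0 < q) (i : ℕ) : Nat.Coprime p (fU q i) := by
  unfold fU
  split_ifs
  · exact cop_add hpq _ (by omega)
  · exact cop_sub hpq hq _ (by omega)

theorem fam_psu {p f q : ℕ} (hp : p.Prime) (hf : 1 ≤ f) (hq : q = p ^ f) {n c : ℕ}
    (hn : 3 ≤ n) (hc : 0 < c)
    (h : Nat.gcd n (q + 1) * ((q + 1) * c) = q ^ (n * (n - 1) / 2) *
      ∏ i ∈ range n, (if Even i then q ^ (i + 1) + 1 else q ^ (i + 1) - 1)) (X : Prop) :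
    c < p ^ (3 * c.factorization p) ∧ (X → c ^ 3 < p ^ (8 * c.factorization p)) := by
  have hpq := dvd_q hf hq
  have hq2 := two_le_q hp hf hq
  have hq0 : 0 < q := by omega
  subst hq
  obtain ⟨k, rfl⟩ : ∃ k, n = k + 2 := ⟨n - 2, by omega⟩
  have hk : 1 ≤ k := by omega
  rw [← Finset.sum_range_id] at h
  have hR : ∏ i ∈ range (k + 2), (if Even i then (p ^ f) ^ (i + 1) + 1 else (p ^ f) ^ (i + 1) - 1)
      = gU (p ^ f) (k + 1) * (p ^ f + 1) := by
    rw [Finset.prod_range_succ']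
    simp [gU, fU]
  rw [hR] at h
  have h1 := gU_lt hq0 (k + 1) (by omega)
  have hg : 0 < Nat.gcd (k + 2) (p ^ f + 1) := Nat.gcd_pos_of_pos_left _ (by omega)
  refine finish hp hc (d := Nat.gcd (k + 2) (p ^ f + 1) * (p ^ f + 1))
    (N := ∑ i ∈ range (k + 2), i) (e := EU (k + 1))
    (R := gU (p ^ f) (k + 1) * (p ^ f + 1)) (by rw [← h]; ring)
    (Nat.Coprime.mul_right (cop_of_dvd (cop_add' hpq) (Nat.gcd_dvd_right _ _)) (cop_add' hpq))
    (Nat.Coprime.mul_right (Nat.Coprime.prod_right fun i _ => cop_fU hpq hq0 _) (cop_add' hpq))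
    ?_ ?_ ?_ X
  · unfold Lt at h1
    calc gU (p ^ f) (k + 1) * (p ^ f + 1) < (p ^ f) ^ EU (k + 1) * (p ^ f + 1) :=
          Nat.mul_lt_mul_of_pos_right h1 (by omega)
      _ = 1 * ((p ^ f + 1) * (p ^ f) ^ EU (k + 1)) := by ring
      _ ≤ Nat.gcd (k + 2) (p ^ f + 1) * ((p ^ f + 1) * (p ^ f) ^ EU (k + 1)) :=
          Nat.mul_le_mul_right _ hg
      _ = _ := by ring
  · have h5 := sum_id (k + 1)
    have h6 := sum_add_two (k + 1)
    unfold EU
    nlinarith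
  · have h5 := sum_id (k + 1)
    have h6 := sum_add_two (k + 1)
    unfold EU
    nlinarith

/-! ### exceptional families -/

section exc

variable {p f q : ℕ}

theorem fam_g2 (hp : p.Prime) (hf : 1 ≤ f) (hq : q = p ^ f) {c : ℕ} (hc : 0 < c)
    (h : c = q ^ 6 * (q ^ 2 - 1) * (q ^ 6 - 1)) (X : Prop) :
    c < p ^ (3 * c.factorization p) ∧ (X → c ^ 3 < p ^ (8 * c.factorization p)) := by
  have hpq := dvd_q hf hq
  have hq2 := two_le_q hp hf hq
  have hq0 : 0 < q := by omega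
  subst hq
  exact finish hp hc (d := 1) (N := 6) (by rw [h]; ring) (by simp)
    (Nat.Coprime.mul_right (cop_sub hpq hq0 2 (by norm_num)) (cop_sub hpq hq0 6 (by norm_num)))
    (lt_mul_of_Lt ((lt_sub hq0 2).mul (lt_sub hq0 6)) one_pos) (by norm_num) (by norm_num) X

theorem fam_f4 (hp : p.Prime) (hf : 1 ≤ f) (hq : q = p ^ f) {c : ℕ} (hc : 0 < c)
    (h : c = q ^ 24 * (q ^ 2 - 1) * (q ^ 6 - 1) * (q ^ 8 - 1) * (q ^ 12 - 1)) (X : Prop) :
    c < p ^ (3 * c.factorization p) ∧ (X → c ^ 3 < p ^ (8 * c.factorization p)) := by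
  have hpq := dvd_q hf hq
  have hq2 := two_le_q hp hf hq
  have hq0 : 0 < q := by omega
  subst hq
  exact finish hp hc (d := 1) (N := 24) (by rw [h]; ring) (by simp)
    (Nat.Coprime.mul_right (Nat.Coprime.mul_right (Nat.Coprime.mul_right
      (cop_sub hpq hq0 2 (by norm_num)) (cop_sub hpq hq0 6 (by norm_num)))
      (cop_sub hpq hq0 8 (by norm_num))) (cop_sub hpq hq0 12 (by norm_num)))
    (lt_mul_of_Lt ((((lt_sub hq0 2).mul (lt_sub hq0 6)).mul (lt_sub hq0 8)).mul (lt_sub hq0 12))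
      one_pos) (by norm_num) (by norm_num) X

theorem fam_e6 (hp : p.Prime) (hf : 1 ≤ f) (hq : q = p ^ f) {c : ℕ} (hc : 0 < c)
    (h : Nat.gcd 3 (q - 1) * c = q ^ 36 * (q ^ 2 - 1) * (q ^ 5 - 1) * (q ^ 6 - 1) * (q ^ 8 - 1) *
      (q ^ 9 - 1) * (q ^ 12 - 1)) (X : Prop) :
    c < p ^ (3 * c.factorization p) ∧ (X → c ^ 3 < p ^ (8 * c.factorization p)) := by
  have hpq := dvd_q hf hq
  have hq2 := two_le_q hp hf hq
  have hq0 : 0 < q := by omega
  subst hq
  exact finish hp hc (N := 36) (by rw [h]; ring)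
    (cop_of_dvd (cop_sub' hpq hq0) (Nat.gcd_dvd_right _ _))
    (Nat.Coprime.mul_right (Nat.Coprime.mul_right (Nat.Coprime.mul_right (Nat.Coprime.mul_right
      (Nat.Coprime.mul_right
      (cop_sub hpq hq0 2 (by norm_num)) (cop_sub hpq hq0 5 (by norm_num)))
      (cop_sub hpq hq0 6 (by norm_num))) (cop_sub hpq hq0 8 (by norm_num)))
      (cop_sub hpq hq0 9 (by norm_num))) (cop_sub hpq hq0 12 (by norm_num)))
    (lt_mul_of_Lt ((((((lt_sub hq0 2).mul (lt_sub hq0 5)).mul (lt_sub hq0 6)).mul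
      (lt_sub hq0 8)).mul (lt_sub hq0 9)).mul (lt_sub hq0 12))
      (Nat.gcd_pos_of_pos_left _ (by norm_num))) (by norm_num) (by norm_num) X

theorem fam_e7 (hp : p.Prime) (hf : 1 ≤ f) (hq : q = p ^ f) {c : ℕ} (hc : 0 < c)
    (h : Nat.gcd 2 (q - 1) * c = q ^ 63 * (q ^ 2 - 1) * (q ^ 6 - 1) * (q ^ 8 - 1) * (q ^ 10 - 1) *
      (q ^ 12 - 1) * (q ^ 14 - 1) * (q ^ 18 - 1)) (X : Prop) :
    c < p ^ (3 * c.factorization p) ∧ (X → c ^ 3 < p ^ (8 * c.factorization p)) := by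
  have hpq := dvd_q hf hq
  have hq2 := two_le_q hp hf hq
  have hq0 : 0 < q := by omega
  subst hq
  exact finish hp hc (N := 63) (by rw [h]; ring)
    (cop_of_dvd (cop_sub' hpq hq0) (Nat.gcd_dvd_right _ _))
    (Nat.Coprime.mul_right (Nat.Coprime.mul_right (Nat.Coprime.mul_right (Nat.Coprime.mul_right
      (Nat.Coprime.mul_right (Nat.Coprime.mul_right
      (cop_sub hpq hq0 2 (by norm_num)) (cop_sub hpq hq0 6 (by norm_num)))
      (cop_sub hpq hq0 8 (by norm_num))) (cop_sub hpq hq0 10 (by norm_num)))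
      (cop_sub hpq hq0 12 (by norm_num))) (cop_sub hpq hq0 14 (by norm_num)))
      (cop_sub hpq hq0 18 (by norm_num)))
    (lt_mul_of_Lt (((((((lt_sub hq0 2).mul (lt_sub hq0 6)).mul (lt_sub hq0 8)).mul
      (lt_sub hq0 10)).mul (lt_sub hq0 12)).mul (lt_sub hq0 14)).mul (lt_sub hq0 18))
      (Nat.gcd_pos_of_pos_left _ (by norm_num))) (by norm_num) (by norm_num) X

theorem fam_e8 (hp : p.Prime) (hf : 1 ≤ f) (hq : q = p ^ f) {c : ℕ} (hc : 0 < c)
    (h : c = q ^ 120 * (q ^ 2 - 1) * (q ^ 8 - 1) * (q ^ 12 - 1) * (q ^ 14 - 1) * (q ^ 18 - 1) *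
      (q ^ 20 - 1) * (q ^ 24 - 1) * (q ^ 30 - 1)) (X : Prop) :
    c < p ^ (3 * c.factorization p) ∧ (X → c ^ 3 < p ^ (8 * c.factorization p)) := by
  have hpq := dvd_q hf hq
  have hq2 := two_le_q hp hf hq
  have hq0 : 0 < q := by omega
  subst hq
  exact finish hp hc (d := 1) (N := 120) (by rw [h]; ring) (by simp)
    (Nat.Coprime.mul_right (Nat.Coprime.mul_right (Nat.Coprime.mul_right (Nat.Coprime.mul_right
      (Nat.Coprime.mul_right (Nat.Coprime.mul_right (Nat.Coprime.mul_right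
      (cop_sub hpq hq0 2 (by norm_num)) (cop_sub hpq hq0 8 (by norm_num)))
      (cop_sub hpq hq0 12 (by norm_num))) (cop_sub hpq hq0 14 (by norm_num)))
      (cop_sub hpq hq0 18 (by norm_num))) (cop_sub hpq hq0 20 (by norm_num)))
      (cop_sub hpq hq0 24 (by norm_num))) (cop_sub hpq hq0 30 (by norm_num)))
    (lt_mul_of_Lt ((((((((lt_sub hq0 2).mul (lt_sub hq0 8)).mul (lt_sub hq0 12)).mul
      (lt_sub hq0 14)).mul (lt_sub hq0 18)).mul (lt_sub hq0 20)).mul (lt_sub hq0 24)).mul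
      (lt_sub hq0 30)) one_pos) (by norm_num) (by norm_num) X

theorem fam_2e6 (hp : p.Prime) (hf : 1 ≤ f) (hq : q = p ^ f) {c : ℕ} (hc : 0 < c)
    (h : Nat.gcd 3 (q + 1) * c = q ^ 36 * (q ^ 2 - 1) * (q ^ 5 + 1) * (q ^ 6 - 1) * (q ^ 8 - 1) *
      (q ^ 9 + 1) * (q ^ 12 - 1)) (X : Prop) :
    c < p ^ (3 * c.factorization p) ∧ (X → c ^ 3 < p ^ (8 * c.factorization p)) := by
  have hpq := dvd_q hf hq
  have hq2 := two_le_q hp hf hq
  have hq0 : 0 < q := by omega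
  subst hq
  exact finish hp hc (N := 36) (by rw [h]; ring)
    (cop_of_dvd (cop_add' hpq) (Nat.gcd_dvd_right _ _))
    (Nat.Coprime.mul_right (Nat.Coprime.mul_right (Nat.Coprime.mul_right (Nat.Coprime.mul_right
      (Nat.Coprime.mul_right
      (cop_sub hpq hq0 2 (by norm_num)) (cop_add hpq 5 (by norm_num)))
      (cop_sub hpq hq0 6 (by norm_num))) (cop_sub hpq hq0 8 (by norm_num)))
      (cop_add hpq 9 (by norm_num))) (cop_sub hpq hq0 12 (by norm_num)))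
    (lt_mul_of_Lt ((((((lt_sub hq0 2).mul (lt_add hq2 5 (by norm_num))).mul (lt_sub hq0 6)).mul
      (lt_sub hq0 8)).mul (lt_add hq2 9 (by norm_num))).mul (lt_sub hq0 12))
      (Nat.gcd_pos_of_pos_left _ (by norm_num))) (by norm_num) (by norm_num) X

theorem lt_d4 (hq2 : 2 ≤ q) : Lt q (q ^ 8 + q ^ 4 + 1) 9 := by
  unfold Lt
  have h0 : 2 ≤ q ^ 4 := by
    calc 2 ≤ q := hq2
      _ = q ^ 1 := (pow_one q).symm
      _ ≤ q ^ 4 := Nat.pow_le_pow_right (by omega) (by norm_num)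
  have h1 : q ^ 4 + 1 < q ^ 8 := by
    have : q ^ 8 = q ^ 4 * q ^ 4 := by ring
    nlinarith
  have h2 : q ^ 9 = q ^ 8 * q := by ring
  have h3 : q ^ 8 * 2 ≤ q ^ 8 * q := Nat.mul_le_mul_left _ hq2
  omega

theorem cop_d4 (hpq : p ∣ q) : Nat.Coprime p (q ^ 8 + q ^ 4 + 1) :=
  cop_succ (dvd_add (dvd_trans hpq (dvd_pow_self q (by norm_num)))
    (dvd_trans hpq (dvd_pow_self q (by norm_num))))

theorem fam_3d4 (hp : p.Prime) (hf : 1 ≤ f) (hq : q = p ^ f) {c : ℕ} (hc : 0 < c)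
    (h : c = q ^ 12 * (q ^ 2 - 1) * (q ^ 6 - 1) * (q ^ 8 + q ^ 4 + 1)) (X : Prop) :
    c < p ^ (3 * c.factorization p) ∧ (X → c ^ 3 < p ^ (8 * c.factorization p)) := by
  have hpq := dvd_q hf hq
  have hq2 := two_le_q hp hf hq
  have hq0 : 0 < q := by omega
  subst hq
  exact finish hp hc (d := 1) (N := 12) (by rw [h]; ring) (by simp)
    (Nat.Coprime.mul_right (Nat.Coprime.mul_right
      (cop_sub hpq hq0 2 (by norm_num)) (cop_sub hpq hq0 6 (by norm_num))) (cop_d4 hpq))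
    (lt_mul_of_Lt (((lt_sub hq0 2).mul (lt_sub hq0 6)).mul (lt_d4 hq2)) one_pos)
    (by norm_num) (by norm_num) X

theorem fam_sz (hp : p.Prime) (hf : 1 ≤ f) (hq : q = p ^ f) {c : ℕ} (hc : 0 < c)
    (h : c = q * (q * (q - 1)) * (q ^ 2 + 1)) (X : Prop) :
    c < p ^ (3 * c.factorization p) ∧ (X → c ^ 3 < p ^ (8 * c.factorization p)) := by
  have hpq := dvd_q hf hq
  have hq2 := two_le_q hp hf hq
  have hq0 : 0 < q := by omega
  subst hq
  have h1 := lt_pair hq0 (show 1 ≤ 2 by norm_num) (q := p ^ f)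
  rw [pow_one] at h1
  exact finish hp hc (d := 1) (N := 2) (by rw [h]; ring) (by simp)
    (Nat.Coprime.mul_right (cop_sub' hpq hq0) (cop_add hpq 2 (by norm_num)))
    (lt_mul_of_Lt h1 one_pos) (by norm_num) (by norm_num) X

theorem fam_2f4 (hp : p.Prime) (hf : 1 ≤ f) (hq : q = p ^ f) {c : ℕ} (hc : 0 < c)
    (h : c = q ^ 12 * (q - 1) * (q ^ 3 + 1) * (q ^ 4 - 1) * (q ^ 6 + 1)) (X : Prop) :
    c < p ^ (3 * c.factorization p) ∧ (X → c ^ 3 < p ^ (8 * c.factorization p)) := by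
  have hpq := dvd_q hf hq
  have hq2 := two_le_q hp hf hq
  have hq0 : 0 < q := by omega
  subst hq
  exact finish hp hc (d := 1) (N := 12) (by rw [h]; ring) (by simp)
    (Nat.Coprime.mul_right (Nat.Coprime.mul_right (Nat.Coprime.mul_right
      (cop_sub' hpq hq0) (cop_add hpq 3 (by norm_num)))
      (cop_sub hpq hq0 4 (by norm_num))) (cop_add hpq 6 (by norm_num)))
    (lt_mul_of_Lt ((((lt_sub' hq0).mul (lt_add hq2 3 (by norm_num))).mul (lt_sub hq0 4)).mul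
      (lt_add hq2 6 (by norm_num))) one_pos) (by norm_num) (by norm_num) X

theorem fam_2g2 (hp : p.Prime) (hf : 1 ≤ f) (hq : q = p ^ f) {c : ℕ} (hc : 0 < c)
    (h : c = q ^ 3 * (q - 1) * (q ^ 3 + 1)) (X : Prop) :
    c < p ^ (3 * c.factorization p) ∧ (X → c ^ 3 < p ^ (8 * c.factorization p)) := by
  have hpq := dvd_q hf hq
  have hq2 := two_le_q hp hf hq
  have hq0 : 0 < q := by omega
  subst hq
  exact finish hp hc (d := 1) (N := 3) (by rw [h]; ring) (by simp)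
    (Nat.Coprime.mul_right (cop_sub' hpq hq0) (cop_add hpq 3 (by norm_num)))
    (lt_mul_of_Lt ((lt_sub' hq0).mul (lt_add hq2 3 (by norm_num))) one_pos)
    (by norm_num) (by norm_num) X

end exc

end Cfsg.Agent.Helper8.LieOrd
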