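import Mathlib
import Cfsg.Agent.Helper8.F4TwoA
import Cfsg.Agent.Helper8.LieOrdC

set_option autoImplicit false

/-!
Every 2-element of `²F₄(q)` has order at most 32: Sylow's theorem moves it into `U`.
-/

namespace Cfsg.Agent.Helper8.F4Two

open Cfsg Cfsg.Lie Matrix Cfsg.Agent.Helper7 Cfsg.Agent.Helper7.Chev

/-- the 2-part of the order of `²F₄(q)` -/
theorem factorization_2f4 {f c : ℕ} (hf : 1 ≤ f) (hc : 0 < c)
    (h : c = (2 ^ f) ^ 12 * (2 ^ f - 1) * ((2 ^ f) ^ 3 + 1) * ((2 ^ f) ^ 4 - 1) * ((2 ^ f) ^ 6 + 1)) :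
    c.factorization 2 = f * 12 := by
  have hpq := Cfsg.Agent.Helper8.LieOrd.dvd_q hf (rfl : 2 ^ f = 2 ^ f)
  have hq2 := Cfsg.Agent.Helper8.LieOrd.two_le_q Nat.prime_two hf (rfl : 2 ^ f = 2 ^ f)
  have hq0 : 0 < 2 ^ f := by omega
  exact (Cfsg.Agent.Helper8.LieOrd.core Nat.prime_two hc (d := 1) (N := 12) (by rw [h]; ring)
    (by simp)
    (Nat.Coprime.mul_right (Nat.Coprime.mul_right (Nat.Coprime.mul_right
      (Cfsg.Agent.Helper8.LieOrd.cop_sub' hpq hq0)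
      (Cfsg.Agent.Helper8.LieOrd.cop_add hpq 3 (by norm_num)))
      (Cfsg.Agent.Helper8.LieOrd.cop_sub hpq hq0 4 (by norm_num)))
      (Cfsg.Agent.Helper8.LieOrd.cop_add hpq 6 (by norm_num)))
    (Cfsg.Agent.Helper8.LieOrd.lt_mul_of_Lt
      ((((Cfsg.Agent.Helper8.LieOrd.lt_sub' hq0).mul
        (Cfsg.Agent.Helper8.LieOrd.lt_add hq2 3 (by norm_num))).mul
        (Cfsg.Agent.Helper8.LieOrd.lt_sub hq0 4)).mul
        (Cfsg.Agent.Helper8.LieOrd.lt_add hq2 6 (by norm_num))) one_pos) (by norm_num)).1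

variable {K : Type*} [Field K] [Fintype K]

theorem main (m : ℕ) (hK : Fintype.card K = 2 ^ (2 * m + 1))
    (x : ↥(Cfsg.Lie.twistedF4 K (2 ^ m))) (hx : ∃ j : ℕ, orderOf x = 2 ^ j) : orderOf x ≤ 32 := by
  haveI := charP_two_of_card (by omega) hK
  have : Fact (Nat.Prime 2) := ⟨Nat.prime_two⟩
  have hG := f4_card_twisted hK
  have hfac : (Nat.card ↥(twistedF4 K (2 ^ m))).factorization 2 = (2 * m + 1) * 12 :=
    factorization_2f4 (by omega) Nat.card_pos hG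
  -- the Sylow subgroup `U¹`
  set U1 : Subgroup ↥(twistedF4 K (2 ^ m)) :=
    (chevF4.posUnipotent K ⊓ twistedF4 K (2 ^ m)).subgroupOf (twistedF4 K (2 ^ m)) with hU1
  have hcardU : Nat.card U1 = 2 ^ (Nat.card ↥(twistedF4 K (2 ^ m))).factorization 2 := by
    rw [hfac, hU1, Nat.card_congr (Subgroup.subgroupOfEquivOfLe inf_le_right).toEquiv, f4_card_U hK,
      ← pow_mul]
  let PU : Sylow 2 ↥(twistedF4 K (2 ^ m)) := Sylow.ofCard U1 hcardU
  obtain ⟨j, hj⟩ := hx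
  have hp : IsPGroup 2 (Subgroup.zpowers x) := by
    apply IsPGroup.of_card (n := j)
    rw [Nat.card_zpowers, hj]
  obtain ⟨P, hP⟩ := hp.exists_le_sylow
  obtain ⟨y, hy⟩ := MulAction.exists_smul_eq ↥(twistedF4 K (2 ^ m)) PU P
  have hmem : y⁻¹ * x * y ∈ U1 := by
    have h1 : x ∈ (P : Subgroup ↥(twistedF4 K (2 ^ m))) := hP (Subgroup.mem_zpowers x)
    rw [← hy, Sylow.coe_subgroup_smul, Subgroup.mem_pointwise_smul_iff_inv_smul_mem] at h1
    have h2 : (MulAut.conj y)⁻¹ x ∈ U1 := h1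
    rwa [MulAut.conj_inv_apply] at h2
  have h32 : (y⁻¹ * x * y) ^ 32 = 1 := by
    rw [hU1, Subgroup.mem_subgroupOf] at hmem
    apply Subtype.ext
    rw [Subgroup.coe_pow, Subgroup.coe_one]
    exact pow_32_eq_one hmem.1
  have hx32 : x ^ 32 = 1 := by
    have hx : x = y * (y⁻¹ * x * y) * y⁻¹ := by group
    rw [hx, conj_pow, h32]
    group
  exact Nat.le_of_dvd (by norm_num) (orderOf_dvd_of_pow_eq_one hx32)

end Cfsg.Agent.Helper8.F4Two
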