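import Mathlib
import Cfsg.Agent.Helper7.FHDefs
import Cfsg.Agent.Helper6.Fh_L11
import Cfsg.Agent.Helper5.Fh_L13a
import Cfsg.Agent.Helper8.Fh_L14

/-!
# S1142 piece L13: evaluation of the sum in the trace trick, `m` even
-/

set_option autoImplicit false

namespace Cfsg.Agent.Helper7.FH

open Finset

theorem h8_sum_Ico_one_even (g : ℕ → ℝ) (n : ℕ) (hn : 1 ≤ n) :
    ∑ k ∈ Ico 1 (2 * n), g k =
      ∑ i ∈ Ico 1 n, g (2 * i) + ∑ i ∈ range n, g (2 * i + 1) := by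
  have h1 := h8_sum_range_two_mul g n
  have h2 : ∑ k ∈ range (2 * n), g k = g 0 + ∑ k ∈ Ico 1 (2 * n), g k := by
    rw [Finset.range_eq_Ico, Finset.sum_eq_sum_Ico_succ_bot (by omega)]
  have h3 : ∑ i ∈ range n, g (2 * i) = g 0 + ∑ i ∈ Ico 1 n, g (2 * i) := by
    rw [Finset.range_eq_Ico, Finset.sum_eq_sum_Ico_succ_bot (by omega)]
  linarith

/-- the generic odd-index summand -/
theorem h8_odd_term (a b θ : ℝ) (ha : 0 < a) (hb : 0 < b) (hs : Real.sin θ ≠ 0) (i : ℕ) :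
    (chi a b (2 * (Real.sqrt (a * b) * Real.cos θ)) (2 * i + 1)) ^ 2 /
        (a ^ ((2 * i + 1 + 1) / 2) * b ^ ((2 * i + 1) / 2)) =
      1 / (a * Real.sin θ ^ 2) *
        (a * (b - 1) / Real.sqrt (a * b) * Real.sin (i * θ) +
          (a - 1) * Real.sin ((i + 1) * θ)) ^ 2 := by
  have hc : 0 < Real.sqrt (a * b) := Real.sqrt_pos.mpr (mul_pos ha hb)
  have hcc : Real.sqrt (a * b) ^ 2 = a * b := Real.sq_sqrt (mul_pos ha hb).le
  have h2 := (chi_closed a b θ ha hb i).2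
  rw [mul_assoc] at h2
  have h3 : chi a b (2 * (Real.sqrt (a * b) * Real.cos θ)) (2 * i + 1) =
      Real.sqrt (a * b) ^ i * (a * (b - 1) / Real.sqrt (a * b) * Real.sin (i * θ) +
        (a - 1) * Real.sin ((i + 1) * θ)) / Real.sin θ := by
    rw [← h2]; field_simp
  rw [h3, show (2 * i + 1 + 1) / 2 = i + 1 by omega, show (2 * i + 1) / 2 = i by omega]
  have hpow : (Real.sqrt (a * b) ^ i) ^ 2 = a ^ i * b ^ i := by
    rw [← pow_mul, mul_comm i 2, pow_mul, hcc, mul_pow]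
  have hai : a ^ i ≠ 0 := pow_ne_zero _ ha.ne'
  have hbi : b ^ i ≠ 0 := pow_ne_zero _ hb.ne'
  rw [div_pow, mul_pow, hpow, pow_succ]
  field_simp
  ring

/-- the generic even-index summand -/
theorem h8_even_term (a b θ : ℝ) (ha : 0 < a) (hb : 0 < b) (i : ℕ) :
    (chi a b (2 * (Real.sqrt (a * b) * Real.cos θ)) (2 * i)) ^ 2 /
        (a ^ ((2 * i + 1) / 2) * b ^ ((2 * i) / 2)) = (2 * Real.cos (i * θ)) ^ 2 := by
  have hcc : Real.sqrt (a * b) ^ 2 = a * b := Real.sq_sqrt (mul_pos ha hb).le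
  have h1 := (chi_closed a b θ ha hb i).1
  rw [mul_assoc] at h1
  rw [h1, show (2 * i + 1) / 2 = i by omega, show 2 * i / 2 = i by omega]
  have hpow : (Real.sqrt (a * b) ^ i) ^ 2 = a ^ i * b ^ i := by
    rw [← pow_mul, mul_comm i 2, pow_mul, hcc, mul_pow]
  have hai : a ^ i ≠ 0 := pow_ne_zero _ ha.ne'
  have hbi : b ^ i ≠ 0 := pow_ne_zero _ hb.ne'
  rw [mul_pow, mul_pow, hpow]
  field_simp

theorem chi_sum_even (a b : ℝ) (ha : 0 < a) (hb : 0 < b) (d' j : ℕ) (hj : 1 ≤ j) (hjd : j < d') :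
    ∑ k ∈ Finset.range (2 * d' + 1),
        (chi a b (2 * (Real.sqrt (a * b) * Real.cos (Real.pi * j / d'))) k) ^ 2 /
          (a ^ ((k + 1) / 2) * b ^ (k / 2)) +
      ∑ k ∈ Finset.Ico 1 (2 * d'),
        (chi b a (2 * (Real.sqrt (a * b) * Real.cos (Real.pi * j / d'))) k) ^ 2 /
          (b ^ ((k + 1) / 2) * a ^ (k / 2)) =
      (2 * d' : ℝ) * (a + b + 2 * (Real.sqrt (a * b) * Real.cos (Real.pi * j / d'))) *
        (a * b + 1 - 2 * (Real.sqrt (a * b) * Real.cos (Real.pi * j / d'))) /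
        (2 * (a * b - (Real.sqrt (a * b) * Real.cos (Real.pi * j / d')) ^ 2)) := by
  have hd1 : 1 ≤ d' := by omega
  have hd0 : (0 : ℝ) < (d' : ℝ) := by exact_mod_cast (by omega : 0 < d')
  set θ : ℝ := Real.pi * j / d' with hθ
  have hj0 : (0 : ℝ) < (j : ℝ) := by exact_mod_cast (by omega : 0 < j)
  have hjd' : (j : ℝ) < (d' : ℝ) := by exact_mod_cast hjd
  have hθ0 : 0 < θ := by rw [hθ]; positivity
  have hθπ : θ < Real.pi := by
    rw [hθ, div_lt_iff₀ hd0]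
    nlinarith [Real.pi_pos]
  have hs : 0 < Real.sin θ := Real.sin_pos_of_pos_of_lt_pi hθ0 hθπ
  have hc : 0 < Real.sqrt (a * b) := Real.sqrt_pos.mpr (mul_pos ha hb)
  have hcc : Real.sqrt (a * b) ^ 2 = a * b := Real.sq_sqrt (mul_pos ha hb).le
  have hba : Real.sqrt (b * a) = Real.sqrt (a * b) := by rw [mul_comm]
  set c : ℝ := Real.sqrt (a * b) with hcdef
  -- the two families of summands
  set fA : ℕ → ℝ := fun k =>
    (chi a b (2 * (c * Real.cos θ)) k) ^ 2 / (a ^ ((k + 1) / 2) * b ^ (k / 2)) with hfA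
  set fB : ℕ → ℝ := fun k =>
    (chi b a (2 * (c * Real.cos θ)) k) ^ 2 / (b ^ ((k + 1) / 2) * a ^ (k / 2)) with hfB
  have hAe : ∀ i : ℕ, fA (2 * i) = (2 * Real.cos (i * θ)) ^ 2 :=
    fun i => h8_even_term a b θ ha hb i
  have hBe : ∀ i : ℕ, fB (2 * i) = (2 * Real.cos (i * θ)) ^ 2 := by
    intro i
    have := h8_even_term b a θ hb ha i
    rw [hba] at this
    exact this
  have hAo : ∀ i : ℕ, fA (2 * i + 1) = 1 / (a * Real.sin θ ^ 2) *
      (a * (b - 1) / c * Real.sin (i * θ) + (a - 1) * Real.sin ((i + 1) * θ)) ^ 2 :=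
    fun i => h8_odd_term a b θ ha hb hs.ne' i
  have hBo : ∀ i : ℕ, fB (2 * i + 1) = 1 / (b * Real.sin θ ^ 2) *
      (b * (a - 1) / c * Real.sin (i * θ) + (b - 1) * Real.sin ((i + 1) * θ)) ^ 2 := by
    intro i
    have := h8_odd_term b a θ hb ha hs.ne' i
    rw [hba] at this
    exact this
  obtain ⟨hT1, hTA⟩ := trig_even d' j hj hjd (a * (b - 1) / c) (a - 1)
  obtain ⟨_, hTB⟩ := trig_even d' j hj hjd (b * (a - 1) / c) (b - 1)
  rw [← hθ] at hT1 hTA hTB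
  have e1 : ∑ k ∈ Finset.range (2 * d' + 1), fA k =
      ∑ i ∈ range (d' + 1), (2 * Real.cos (i * θ)) ^ 2 +
        1 / (a * Real.sin θ ^ 2) * ∑ i ∈ range d',
          (a * (b - 1) / c * Real.sin (i * θ) + (a - 1) * Real.sin ((i + 1) * θ)) ^ 2 := by
    rw [sum_range_succ, h8_sum_range_two_mul, Finset.mul_sum, sum_range_succ (fun i => (2 * Real.cos (i * θ)) ^ 2)]
    rw [Finset.sum_congr rfl fun i _ => hAe i, Finset.sum_congr rfl fun i _ => hAo i, hAe d']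
    ring
  have e2 : ∑ k ∈ Finset.Ico 1 (2 * d'), fB k =
      ∑ i ∈ Ico 1 d', (2 * Real.cos (i * θ)) ^ 2 +
        1 / (b * Real.sin θ ^ 2) * ∑ i ∈ range d',
          (b * (a - 1) / c * Real.sin (i * θ) + (b - 1) * Real.sin ((i + 1) * θ)) ^ 2 := by
    rw [h8_sum_Ico_one_even _ _ hd1, Finset.mul_sum]
    rw [Finset.sum_congr rfl fun i _ => hBe i, Finset.sum_congr rfl fun i _ => hBo i]
  have hmain : ∑ k ∈ Finset.range (2 * d' + 1), fA k + ∑ k ∈ Finset.Ico 1 (2 * d'), fB k =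
      4 * (d' : ℝ) +
        1 / (a * Real.sin θ ^ 2) * ((d' : ℝ) / 2 * ((a * (b - 1) / c) ^ 2 + (a - 1) ^ 2 +
          2 * (a * (b - 1) / c) * (a - 1) * Real.cos θ)) +
        1 / (b * Real.sin θ ^ 2) * ((d' : ℝ) / 2 * ((b * (a - 1) / c) ^ 2 + (b - 1) ^ 2 +
          2 * (b * (a - 1) / c) * (b - 1) * Real.cos θ)) := by
    rw [e1, e2, hTA, hTB, ← hT1]
    ring
  rw [hmain]
  have hsin2 : Real.sin θ ^ 2 = 1 - Real.cos θ ^ 2 := by
    have := Real.sin_sq_add_cos_sq θ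
    linarith
  have hsin2pos : 0 < 1 - Real.cos θ ^ 2 := by rw [← hsin2]; positivity
  have hden : a * b - (c * Real.cos θ) ^ 2 = a * b * (1 - Real.cos θ ^ 2) := by
    rw [mul_pow, hcc]; ring
  rw [hsin2, hden]
  have hab : a * b ≠ 0 := (mul_pos ha hb).ne'
  have h1 : (1 - Real.cos θ ^ 2) ≠ 0 := hsin2pos.ne'
  have hc0 : c ≠ 0 := hc.ne'
  field_simp
  have hc2 : c ^ 2 = a * b := hcc
  have hc3 : c ^ 3 = a * b * c := by rw [pow_succ, hc2]
  have hc4 : c ^ 4 = (a * b) ^ 2 := by rw [show c ^ 4 = (c ^ 2) ^ 2 by ring, hc2]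
  ring_nf
  simp only [hc2, hc3, hc4]
  ring

end Cfsg.Agent.Helper7.FH
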