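import Mathlib
import Cfsg.Prelude.Def_ParabolicCharacters
import Cfsg.Agent.Lead.SteinCharA

set_option autoImplicit false

/-!
Orbits of a subgroup on cosets of another: the explicit double-coset criterion, a cardinality
transfer principle, and the inner product of two permutation characters as an orbit count.
-/

namespace Cfsg.Agent.Helper8.Flag

open MulAction
open scoped ComplexConjugate

universe u

theorem orbit_quot_eq_iff {G : Type*} [Group G] (Q H : Subgroup G) (x y : G) :
    (Quotient.mk'' (x : G ⧸ H) : orbitRel.Quotient Q (G ⧸ H)) = Quotient.mk'' (y : G ⧸ H) ↔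
      ∃ q ∈ Q, ∃ h ∈ H, x = q * y * h := by
  rw [Quotient.eq'', orbitRel_apply, mem_orbit_iff]
  constructor
  · rintro ⟨q, hq⟩
    have h1 : ((q : G) * y : G ⧸ H) = (x : G ⧸ H) := hq
    rw [QuotientGroup.eq] at h1
    refine ⟨q, q.2, _, h1, ?_⟩
    group
  · rintro ⟨q, hq, h, hh, rfl⟩
    refine ⟨⟨q, hq⟩, ?_⟩
    change ((q * y : G) : G ⧸ H) = _
    rw [QuotientGroup.eq]
    have : (q * y)⁻¹ * (q * y * h) = h := by group
    rw [this]
    exact hh

theorem card_eq_of_surj {X A B : Type*} (f : X → A) (g : X → B) (hf : Function.Surjective f)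
    (hg : Function.Surjective g) (h : ∀ x y, f x = f y ↔ g x = g y) :
    Nat.card A = Nat.card B := by
  apply Nat.card_eq_of_bijective (fun a => g (Function.surjInv hf a))
  constructor
  · intro a a' haa
    have := (h _ _).mpr haa
    rw [Function.surjInv_eq hf, Function.surjInv_eq hf] at this
    exact this
  · intro b
    obtain ⟨x, rfl⟩ := hg b
    refine ⟨f x, ?_⟩
    apply (h _ _).mp
    rw [Function.surjInv_eq hf]

theorem inner_eq_card {G : Type u} [Group G] [Fintype G] (Q H : Subgroup G) :
    (Nat.card G : ℂ)⁻¹ * ∑ g : G, Cfsg.fixedPointCharacter Q g * Cfsg.fixedPointCharacter H g =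
      (Nat.card (orbitRel.Quotient Q (G ⧸ H)) : ℂ) := by
  rw [← Cfsg.Agent.Lead.SteinChar.classInner_fixedPointCharacter]
  unfold Cfsg.classInner
  congr 1
  apply Finset.sum_congr rfl
  intro g _
  congr 1
  unfold Cfsg.fixedPointCharacter
  rw [Complex.conj_natCast]

end Cfsg.Agent.Helper8.Flag
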