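import Mathlib
import Cfsg.Prelude.Def_LinearParabolics

set_option autoImplicit false

/-!
Permutation matrices inside `GL_n(F)`, block labels, and the injectivity of the map from
double cosets of Young subgroups to double cosets of parabolic subgroups.
-/

namespace Cfsg.Agent.Helper8.Flag

open Matrix
open scoped MatrixGroups

variable {F : Type*} [Field F] {n : ℕ}

theorem compLabel_mono (μ : Fin n → ℕ) : Monotone (Cfsg.compLabel μ) := by
  intro i j hij
  unfold Cfsg.compLabel
  apply Finset.card_le_card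
  intro k hk
  rw [Finset.mem_filter] at hk ⊢
  exact ⟨hk.1, hk.2.trans (Fin.le_def.mp hij)⟩

theorem upper_blockTriangular (μ : Fin n → ℕ) {M : Matrix (Fin n) (Fin n) F}
    (h : M.BlockTriangular id) : M.BlockTriangular (Cfsg.compLabel μ) := by
  intro i j hij
  apply h
  change j < i
  by_contra hc
  exact absurd (compLabel_mono μ (not_lt.mp hc)) (not_le.mpr hij)

/-- The permutation matrix of `σ`, mapping `e_j` to `e_{σ j}`. -/
def wM (F : Type*) [Field F] {n : ℕ} (σ : Equiv.Perm (Fin n)) : Matrix (Fin n) (Fin n) F :=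
  fun i j => if i = σ j then 1 else 0

theorem wM_apply (σ : Equiv.Perm (Fin n)) (i j : Fin n) :
    wM F σ i j = if i = σ j then 1 else 0 := rfl

theorem wM_mul_apply (σ : Equiv.Perm (Fin n)) (A : Matrix (Fin n) (Fin n) F) (i j : Fin n) :
    (wM F σ * A) i j = A (σ⁻¹ i) j := by
  rw [Matrix.mul_apply]
  rw [Finset.sum_eq_single (σ⁻¹ i)]
  · rw [wM_apply, if_pos (by simp), one_mul]
  · intro k _ hk
    rw [wM_apply, if_neg, zero_mul]
    intro e
    apply hk
    rw [e]
    simp
  · intro h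
    exact absurd (Finset.mem_univ _) h

theorem mul_wM_apply (σ : Equiv.Perm (Fin n)) (A : Matrix (Fin n) (Fin n) F) (i j : Fin n) :
    (A * wM F σ) i j = A i (σ j) := by
  rw [Matrix.mul_apply]
  rw [Finset.sum_eq_single (σ j)]
  · rw [wM_apply, if_pos rfl, mul_one]
  · intro k _ hk
    rw [wM_apply, if_neg hk, mul_zero]
  · intro h
    exact absurd (Finset.mem_univ _) h

theorem wM_one : wM F (1 : Equiv.Perm (Fin n)) = 1 := by
  ext i j
  rw [wM_apply, Matrix.one_apply]
  rfl

theorem wM_mul (σ τ : Equiv.Perm (Fin n)) : wM F (σ * τ) = wM F σ * wM F τ := by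
  ext i j
  rw [mul_wM_apply, wM_apply, wM_apply]
  rfl

/-- Permutation matrices as a homomorphism into the matrix monoid. -/
def wHom (F : Type*) [Field F] (n : ℕ) : Equiv.Perm (Fin n) →* Matrix (Fin n) (Fin n) F where
  toFun := wM F
  map_one' := wM_one
  map_mul' := wM_mul

/-- Permutation matrices as a homomorphism into `GL_n(F)`. -/
def wGL (F : Type*) [Field F] (n : ℕ) : Equiv.Perm (Fin n) →* GL (Fin n) F :=
  (Units.map (wHom F n)).comp (toUnits (G := Equiv.Perm (Fin n))).toMonoidHom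

theorem wGL_coe (σ : Equiv.Perm (Fin n)) :
    ((wGL F n σ : GL (Fin n) F) : Matrix (Fin n) (Fin n) F) = wM F σ := rfl

theorem wGL_mem_parabolic (ν : Fin n → ℕ) {α : Equiv.Perm (Fin n)}
    (hα : α ∈ Cfsg.youngSubgroup ν) : wGL F n α ∈ Cfsg.parabolicGL n F ν := by
  change (wM F α).BlockTriangular (Cfsg.compLabel ν)
  intro i j hij
  rw [wM_apply, if_neg]
  rintro rfl
  rw [hα j] at hij
  exact lt_irrefl _ hij

theorem label_eq_of_le (f : Fin n → ℕ) (a b : Equiv.Perm (Fin n))
    (h : ∀ k, f (a k) ≤ f (b k)) : ∀ k, f (a k) = f (b k) := by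
  have h1 : ∑ k, f (a k) = ∑ k, f (b k) := by
    rw [Equiv.sum_comp a f, Equiv.sum_comp b f]
  have h2 := (Finset.sum_eq_sum_iff_of_le (s := Finset.univ) (fun k _ => h k)).mp h1
  intro k
  exact h2 k (Finset.mem_univ k)

theorem exists_diag_ne_zero {M : Matrix (Fin n) (Fin n) F} (hM : M.det ≠ 0) :
    ∃ π : Equiv.Perm (Fin n), ∀ k, M (π k) k ≠ 0 := by
  by_contra hc
  push Not at hc
  apply hM
  rw [Matrix.det_apply]
  apply Finset.sum_eq_zero
  intro π _
  obtain ⟨k, hk⟩ := hc π
  have h0 : ∏ i, M (π i) i = 0 := Finset.prod_eq_zero (Finset.mem_univ k) hk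
  rw [h0, smul_zero]

/-- If a permutation matrix lies in the double coset of another for two parabolic subgroups,
the permutations lie in the same double coset for the Young subgroups. -/
theorem young_of_parabolic (ν μ : Fin n → ℕ) (σ τ : Equiv.Perm (Fin n))
    (p q : GL (Fin n) F) (hp : p ∈ Cfsg.parabolicGL n F ν) (hq : q ∈ Cfsg.parabolicGL n F μ)
    (h : wGL F n τ = p * wGL F n σ * q) :
    ∃ α ∈ Cfsg.youngSubgroup ν, ∃ β ∈ Cfsg.youngSubgroup μ, τ = α * σ * β := by
  have hp' : p⁻¹ ∈ Cfsg.parabolicGL n F ν := inv_mem hp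
  have hpT : ((p⁻¹ : GL (Fin n) F) : Matrix (Fin n) (Fin n) F).BlockTriangular
      (Cfsg.compLabel ν) := hp'
  have hqT : (q : Matrix (Fin n) (Fin n) F).BlockTriangular (Cfsg.compLabel μ) := hq
  have h1 : p⁻¹ * wGL F n τ = wGL F n σ * q := by
    rw [h]
    group
  have h2 : ((p⁻¹ : GL (Fin n) F) : Matrix (Fin n) (Fin n) F) * wM F τ =
      wM F σ * (q : Matrix (Fin n) (Fin n) F) := by
    have := congrArg (fun x : GL (Fin n) F => (x : Matrix (Fin n) (Fin n) F)) h1
    simpa only [Units.val_mul, wGL_coe] using this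
  have h3 : ∀ k j, ((p⁻¹ : GL (Fin n) F) : Matrix (Fin n) (Fin n) F) (σ k) (τ j) =
      (q : Matrix (Fin n) (Fin n) F) k j := by
    intro k j
    have := congrFun (congrFun h2 (σ k)) j
    rw [mul_wM_apply, wM_mul_apply] at this
    rw [this]
    simp
  have hdet : (q : Matrix (Fin n) (Fin n) F).det ≠ 0 := by
    have := (Matrix.GeneralLinearGroup.det q).ne_zero
    exact this
  obtain ⟨π, hπ⟩ := exists_diag_ne_zero hdet
  have h4 : ∀ k, Cfsg.compLabel μ (π k) ≤ Cfsg.compLabel μ ((1 : Equiv.Perm (Fin n)) k) := by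
    intro k
    by_contra hc
    exact hπ k (hqT (not_le.mp hc))
  have h5 := label_eq_of_le _ _ _ h4
  have h6 : ∀ k, Cfsg.compLabel ν ((σ * π) k) ≤ Cfsg.compLabel ν (τ k) := by
    intro k
    by_contra hc
    apply hπ k
    rw [← h3]
    exact hpT (not_le.mp hc)
  have h7 := label_eq_of_le _ _ _ h6
  refine ⟨τ * π⁻¹ * σ⁻¹, ?_, π, ?_, ?_⟩
  · intro x
    have := h7 (π⁻¹ (σ⁻¹ x))
    have e1 : π (π⁻¹ (σ⁻¹ x)) = σ⁻¹ x := π.apply_symm_apply _
    have e2 : σ (σ⁻¹ x) = x := σ.apply_symm_apply _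
    simp only [Equiv.Perm.coe_mul, Function.comp_apply] at this ⊢
    rw [e1, e2] at this
    exact this.symm
  · intro k
    exact h5 k
  · group

end Cfsg.Agent.Helper8.Flag
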