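import Mathlib
import Cfsg.Agent.Lead.SLBNC
import Cfsg.Agent.Helper7.BNBasic
import Cfsg.Agent.Helper8.FlagB

set_option autoImplicit false

/-!
The Bruhat decomposition of `GL_n(F)` with permutation matrices, deduced from the `(B, N)`-pair
of `SL_n(F)`.
-/

namespace Cfsg.Agent.Helper8.Flag

open Matrix Cfsg.Agent.Lead.SLBN
open scoped MatrixGroups

variable {F : Type*} [Field F]

theorem bruhat_SL {m : ℕ} (s : SpecialLinearGroup (Fin (m + 1)) F) :
    ∃ (σ : Equiv.Perm (Fin (m + 1))) (B1 B2 : Matrix (Fin (m + 1)) (Fin (m + 1)) F),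
      B1.BlockTriangular id ∧ B2.BlockTriangular id ∧
        (s : Matrix (Fin (m + 1)) (Fin (m + 1)) F) = B1 * wM F σ * B2 := by
  obtain ⟨n, hn, hs⟩ := Cfsg.Agent.Helper7.BN.bruhat_exists (slBN F m) s
  rw [Cfsg.Agent.Helper7.BN.mem_C] at hs
  obtain ⟨b, hb, b', hb', rfl⟩ := hs
  have hn' : n ∈ Ns F m := hn
  have hb1 : (b : Matrix (Fin (m + 1)) (Fin (m + 1)) F).BlockTriangular id := hb
  have hb2 : (b' : Matrix (Fin (m + 1)) (Fin (m + 1)) F).BlockTriangular id := hb'
  obtain ⟨σ, hσ, -⟩ := mem_Ns.mp hn'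
  refine ⟨σ, (b : Matrix (Fin (m + 1)) (Fin (m + 1)) F) *
    Matrix.diagonal (fun i => (n : Matrix (Fin (m + 1)) (Fin (m + 1)) F) i (σ⁻¹ i)), b', ?_, hb2, ?_⟩
  · exact BlockTriangular.mul hb1 (blockTriangular_diagonal _)
  · change (b : Matrix (Fin (m + 1)) (Fin (m + 1)) F) * (n : Matrix (Fin (m + 1)) (Fin (m + 1)) F) *
      (b' : Matrix (Fin (m + 1)) (Fin (m + 1)) F) = _
    rw [Matrix.mul_assoc (b : Matrix (Fin (m + 1)) (Fin (m + 1)) F)
      (Matrix.diagonal _) (wM F σ)]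
    congr 2
    ext i j
    rw [Matrix.diagonal_mul, wM_apply]
    by_cases h : i = σ j
    · rw [if_pos h, mul_one, h]
      have : σ⁻¹ (σ j) = j := σ.symm_apply_apply j
      rw [this]
    · rw [if_neg h, mul_zero]
      exact hσ i j h

theorem bruhat_mat_succ {m : ℕ} (M : Matrix (Fin (m + 1)) (Fin (m + 1)) F) (hM : M.det ≠ 0) :
    ∃ (σ : Equiv.Perm (Fin (m + 1))) (B1 B2 : Matrix (Fin (m + 1)) (Fin (m + 1)) F),
      B1.BlockTriangular id ∧ B2.BlockTriangular id ∧ M = B1 * wM F σ * B2 := by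
  have hDD' : Matrix.diagonal (Function.update (fun _ => (1 : F)) 0 M.det) *
      Matrix.diagonal (Function.update (fun _ => (1 : F)) 0 M.det⁻¹) =
        (1 : Matrix (Fin (m + 1)) (Fin (m + 1)) F) := by
    rw [Matrix.diagonal_mul_diagonal, ← Matrix.diagonal_one]
    congr 1
    funext i
    by_cases hi : i = 0
    · subst hi
      rw [Function.update_self, Function.update_self, mul_inv_cancel₀ hM]
    · rw [Function.update_of_ne hi, Function.update_of_ne hi, mul_one]
  have hdet' : (Matrix.diagonal (Function.update (fun _ => (1 : F)) 0 M.det⁻¹) * M).det = 1 := by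
    rw [det_mul, det_diagonal, Finset.prod_update_of_mem (Finset.mem_univ _)]
    simp only [Finset.prod_const_one, mul_one]
    exact inv_mul_cancel₀ hM
  obtain ⟨σ, B1, B2, h1, h2, h3⟩ := bruhat_SL (F := F) ⟨_, hdet'⟩
  refine ⟨σ, Matrix.diagonal (Function.update (fun _ => (1 : F)) 0 M.det) * B1, B2, ?_, h2, ?_⟩
  · exact BlockTriangular.mul (blockTriangular_diagonal _) h1
  · have h4 : Matrix.diagonal (Function.update (fun _ => (1 : F)) 0 M.det⁻¹) * M =
        B1 * wM F σ * B2 := h3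
    calc M = (Matrix.diagonal (Function.update (fun _ => (1 : F)) 0 M.det) *
          Matrix.diagonal (Function.update (fun _ => (1 : F)) 0 M.det⁻¹)) * M := by
            rw [hDD', Matrix.one_mul]
      _ = Matrix.diagonal (Function.update (fun _ => (1 : F)) 0 M.det) * (B1 * wM F σ * B2) := by
            rw [Matrix.mul_assoc, h4]
      _ = _ := by
            simp only [Matrix.mul_assoc]

theorem bruhat_mat {n : ℕ} (M : Matrix (Fin n) (Fin n) F) (hM : M.det ≠ 0) :
    ∃ (σ : Equiv.Perm (Fin n)) (B1 B2 : Matrix (Fin n) (Fin n) F),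
      B1.BlockTriangular id ∧ B2.BlockTriangular id ∧ M = B1 * wM F σ * B2 := by
  cases n with
  | zero => exact ⟨1, 1, 1, blockTriangular_one, blockTriangular_one, Subsingleton.elim _ _⟩
  | succ m => exact bruhat_mat_succ M hM

theorem bruhat_GL {n : ℕ} (g : GL (Fin n) F) :
    ∃ (σ : Equiv.Perm (Fin n)) (b b' : GL (Fin n) F),
      (b : Matrix (Fin n) (Fin n) F).BlockTriangular id ∧
      (b' : Matrix (Fin n) (Fin n) F).BlockTriangular id ∧ g = b * wGL F n σ * b' := by
  have hg : (g : Matrix (Fin n) (Fin n) F).det ≠ 0 := (Matrix.GeneralLinearGroup.det g).ne_zero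
  obtain ⟨σ, B1, B2, h1, h2, h3⟩ := bruhat_mat (g : Matrix (Fin n) (Fin n) F) hg
  have hd : (B1 * wM F σ * B2).det ≠ 0 := by
    rw [← h3]
    exact hg
  rw [det_mul, det_mul] at hd
  have hd1 : B1.det ≠ 0 := left_ne_zero_of_mul (left_ne_zero_of_mul hd)
  have hd2 : B2.det ≠ 0 := right_ne_zero_of_mul hd
  refine ⟨σ, GeneralLinearGroup.mkOfDetNeZero B1 hd1, GeneralLinearGroup.mkOfDetNeZero B2 hd2,
    h1, h2, ?_⟩
  apply Units.ext
  rw [Units.val_mul, Units.val_mul, wGL_coe]
  exact h3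

end Cfsg.Agent.Helper8.Flag
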