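import Mathlib
import Cfsg.Agent.Helper8.FlagA
import Cfsg.Agent.Helper8.FlagC

set_option autoImplicit false

/-!
The orbits of a parabolic subgroup of `GL_n(F)` on the cosets of another correspond to the
orbits of the Young subgroups in the symmetric group.
-/

namespace Cfsg.Agent.Helper8.Flag

open Matrix MulAction
open scoped MatrixGroups

variable {F : Type*} [Field F] {n : ℕ}

theorem upper_mem_parabolic (ν : Fin n → ℕ) {b : GL (Fin n) F}
    (hb : (b : Matrix (Fin n) (Fin n) F).BlockTriangular id) : b ∈ Cfsg.parabolicGL n F ν :=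
  upper_blockTriangular ν hb

theorem card_orbits_eq (ν μ : Fin n → ℕ) :
    Nat.card (orbitRel.Quotient (Cfsg.parabolicGL n F ν)
        (GL (Fin n) F ⧸ Cfsg.parabolicGL n F μ)) =
      Nat.card (orbitRel.Quotient (Cfsg.youngSubgroup ν)
        (Equiv.Perm (Fin n) ⧸ Cfsg.youngSubgroup μ)) := by
  symm
  apply card_eq_of_surj
    (fun σ : Equiv.Perm (Fin n) =>
      (Quotient.mk'' (σ : Equiv.Perm (Fin n) ⧸ Cfsg.youngSubgroup μ) :
        orbitRel.Quotient (Cfsg.youngSubgroup ν) (Equiv.Perm (Fin n) ⧸ Cfsg.youngSubgroup μ)))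
    (fun σ : Equiv.Perm (Fin n) =>
      (Quotient.mk'' ((wGL F n σ : GL (Fin n) F) : GL (Fin n) F ⧸ Cfsg.parabolicGL n F μ) :
        orbitRel.Quotient (Cfsg.parabolicGL n F ν) (GL (Fin n) F ⧸ Cfsg.parabolicGL n F μ)))
  · intro x
    induction x using Quotient.inductionOn' with
    | _ y =>
      induction y using QuotientGroup.induction_on with
      | _ σ => exact ⟨σ, rfl⟩
  · intro x
    induction x using Quotient.inductionOn' with
    | _ y =>
      induction y using QuotientGroup.induction_on with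
      | _ g =>
        obtain ⟨σ, b, b', hb, hb', rfl⟩ := bruhat_GL g
        refine ⟨σ, ?_⟩
        change (Quotient.mk'' ((wGL F n σ : GL (Fin n) F) :
          GL (Fin n) F ⧸ Cfsg.parabolicGL n F μ) :
          orbitRel.Quotient (Cfsg.parabolicGL n F ν) (GL (Fin n) F ⧸ Cfsg.parabolicGL n F μ)) =
          Quotient.mk'' ((b * wGL F n σ * b' : GL (Fin n) F) :
            GL (Fin n) F ⧸ Cfsg.parabolicGL n F μ)
        rw [orbit_quot_eq_iff]
        refine ⟨b⁻¹, inv_mem (upper_mem_parabolic ν hb), b'⁻¹,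
          inv_mem (upper_mem_parabolic μ hb'), ?_⟩
        group
  · intro σ τ
    change (Quotient.mk'' (σ : Equiv.Perm (Fin n) ⧸ Cfsg.youngSubgroup μ) :
        orbitRel.Quotient (Cfsg.youngSubgroup ν) (Equiv.Perm (Fin n) ⧸ Cfsg.youngSubgroup μ)) =
        Quotient.mk'' (τ : Equiv.Perm (Fin n) ⧸ Cfsg.youngSubgroup μ) ↔
      (Quotient.mk'' ((wGL F n σ : GL (Fin n) F) : GL (Fin n) F ⧸ Cfsg.parabolicGL n F μ) :
        orbitRel.Quotient (Cfsg.parabolicGL n F ν) (GL (Fin n) F ⧸ Cfsg.parabolicGL n F μ)) =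
        Quotient.mk'' ((wGL F n τ : GL (Fin n) F) : GL (Fin n) F ⧸ Cfsg.parabolicGL n F μ)
    rw [orbit_quot_eq_iff, orbit_quot_eq_iff]
    constructor
    · rintro ⟨α, hα, β, hβ, rfl⟩
      exact ⟨wGL F n α, wGL_mem_parabolic ν hα, wGL F n β, wGL_mem_parabolic μ hβ,
        by rw [map_mul, map_mul]⟩
    · rintro ⟨p, hp, q, hq, h⟩
      exact young_of_parabolic ν μ τ σ p q hp hq h

end Cfsg.Agent.Helper8.Flag
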