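import Mathlib
import Cfsg.Agent.Helper8.FlagD

set_option autoImplicit false
set_option linter.unusedSectionVars false
set_option linter.unusedVariables false

/-!
Transfer of the flag orbit counts from `GL_n(F)` to `SL_n(F)`: the parabolic subgroups of `SL_n`
have the same double cosets as those of `GL_n` (both contain the diagonal torus up to determinant).
-/

namespace Cfsg.Agent.Helper8.Flag

open MulAction Matrix
open scoped MatrixGroups

variable {F : Type*} [Field F] {n : ℕ}

/-- the standard parabolic subgroup of `SL_n(F)` of type `ν`. -/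
def parSL (n : ℕ) (F : Type*) [Field F] (ν : Fin n → ℕ) : Subgroup (SpecialLinearGroup (Fin n) F) :=
  (Cfsg.parabolicGL n F ν).comap SpecialLinearGroup.toGL

theorem mem_parSL (ν : Fin n → ℕ) (s : SpecialLinearGroup (Fin n) F) :
    s ∈ parSL n F ν ↔ SpecialLinearGroup.toGL s ∈ Cfsg.parabolicGL n F ν := Iff.rfl

/-- diagonal matrices in `GL_n`. -/
noncomputable def diagGL (d : Fin n → Fˣ) : GL (Fin n) F :=
  GeneralLinearGroup.mkOfDetNeZero (Matrix.diagonal (fun i => (d i : F))) (by
    rw [det_diagonal]
    exact Finset.prod_ne_zero_iff.mpr (fun i _ => (d i).ne_zero))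

theorem diagGL_coe (d : Fin n → Fˣ) :
    ((diagGL d : GL (Fin n) F) : Matrix (Fin n) (Fin n) F) = Matrix.diagonal (fun i => (d i : F)) :=
  rfl

theorem diagGL_upper (d : Fin n → Fˣ) :
    ((diagGL d : GL (Fin n) F) : Matrix (Fin n) (Fin n) F).BlockTriangular id := by
  rw [diagGL_coe]
  exact blockTriangular_diagonal _

theorem diagGL_det (d : Fin n → Fˣ) :
    ((diagGL d : GL (Fin n) F) : Matrix (Fin n) (Fin n) F).det = ∏ i, (d i : F) := by
  rw [diagGL_coe, det_diagonal]

/-- conjugating a diagonal matrix by a permutation matrix. -/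
theorem wGL_conj_diag (σ : Equiv.Perm (Fin n)) (d : Fin n → Fˣ) :
    (wGL F n σ)⁻¹ * diagGL d * wGL F n σ = diagGL (fun i => d (σ i)) := by
  rw [← map_inv]
  apply Units.ext
  rw [Units.val_mul, Units.val_mul, wGL_coe, wGL_coe, diagGL_coe, diagGL_coe]
  ext i j
  rw [Matrix.mul_assoc, wM_mul_apply, mul_wM_apply, inv_inv, diagonal_apply, diagonal_apply]
  by_cases h : i = j
  · rw [if_pos h, if_pos (by rw [h])]
  · rw [if_neg h, if_neg (fun e => h (σ.injective e))]

/-- the torus element `diag(a, 1, …, 1)`. -/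
noncomputable def tdet [NeZero n] (a : Fˣ) : Fin n → Fˣ := fun i => if i = 0 then a else 1

theorem tdet_det [NeZero n] (a : Fˣ) :
    GeneralLinearGroup.det (diagGL (tdet (n := n) a) : GL (Fin n) F) = a := by
  apply Units.ext
  change ((diagGL (tdet (n := n) a) : GL (Fin n) F) : Matrix (Fin n) (Fin n) F).det = (a : F)
  rw [diagGL_det]
  rw [Finset.prod_eq_single (0 : Fin n)]
  · simp [tdet]
  · intro i _ hi
    simp [tdet, hi]
  · intro h
    exact absurd (Finset.mem_univ _) h

/-- elements of `GL_n` of determinant one come from `SL_n`. -/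
theorem exists_SL_of_det (g : GL (Fin n) F) (hg : GeneralLinearGroup.det g = 1) :
    ∃ s : SpecialLinearGroup (Fin n) F, SpecialLinearGroup.toGL s = g := by
  have h1 : (g : Matrix (Fin n) (Fin n) F).det = 1 := by
    have := congrArg Units.val hg
    exact this
  exact ⟨⟨(g : Matrix (Fin n) (Fin n) F), h1⟩, Units.ext rfl⟩

theorem det_toGL (s : SpecialLinearGroup (Fin n) F) :
    GeneralLinearGroup.det (SpecialLinearGroup.toGL s : GL (Fin n) F) = 1 := by
  apply Units.ext
  exact s.2

theorem upper_inv {b : GL (Fin n) F}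
    (hb : (b : Matrix (Fin n) (Fin n) F).BlockTriangular id) :
    ((b⁻¹ : GL (Fin n) F) : Matrix (Fin n) (Fin n) F).BlockTriangular id := by
  have : Invertible (b : Matrix (Fin n) (Fin n) F) := b.invertible
  rw [Matrix.coe_units_inv]
  exact Matrix.blockTriangular_inv_of_blockTriangular hb

theorem upper_mul {b c : GL (Fin n) F}
    (hb : (b : Matrix (Fin n) (Fin n) F).BlockTriangular id)
    (hc : (c : Matrix (Fin n) (Fin n) F).BlockTriangular id) :
    ((b * c : GL (Fin n) F) : Matrix (Fin n) (Fin n) F).BlockTriangular id := by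
  rw [Units.val_mul]
  exact Matrix.BlockTriangular.mul hb hc

/-- **Transfer.** The double cosets of two parabolic subgroups are the same in `SL_n` and `GL_n`. -/
theorem card_orbits_SL [NeZero n] (ν μ : Fin n → ℕ) :
    Nat.card (orbitRel.Quotient (parSL n F ν) (SpecialLinearGroup (Fin n) F ⧸ parSL n F μ)) =
      Nat.card (orbitRel.Quotient (Cfsg.parabolicGL n F ν)
        (GL (Fin n) F ⧸ Cfsg.parabolicGL n F μ)) := by
  apply card_eq_of_surj
    (fun s : SpecialLinearGroup (Fin n) F =>
      (Quotient.mk'' (s : SpecialLinearGroup (Fin n) F ⧸ parSL n F μ) :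
        orbitRel.Quotient (parSL n F ν) (SpecialLinearGroup (Fin n) F ⧸ parSL n F μ)))
    (fun s : SpecialLinearGroup (Fin n) F =>
      (Quotient.mk'' ((SpecialLinearGroup.toGL s : GL (Fin n) F) :
          GL (Fin n) F ⧸ Cfsg.parabolicGL n F μ) :
        orbitRel.Quotient (Cfsg.parabolicGL n F ν) (GL (Fin n) F ⧸ Cfsg.parabolicGL n F μ)))
  · intro x
    induction x using Quotient.inductionOn' with
    | _ y =>
      induction y using QuotientGroup.induction_on with
      | _ s => exact ⟨s, rfl⟩
  · intro x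
    induction x using Quotient.inductionOn' with
    | _ y =>
      induction y using QuotientGroup.induction_on with
      | _ g =>
        -- `g = (g t⁻¹) t` with `t` a torus element of the same determinant
        let t : GL (Fin n) F := diagGL (tdet (n := n) (GeneralLinearGroup.det g))
        have hdet : GeneralLinearGroup.det (g * t⁻¹) = 1 := by
          rw [map_mul, map_inv, tdet_det, mul_inv_cancel]
        obtain ⟨s, hs⟩ := exists_SL_of_det (g * t⁻¹) hdet
        refine ⟨s, ?_⟩
        change (Quotient.mk'' ((SpecialLinearGroup.toGL s : GL (Fin n) F) :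
          GL (Fin n) F ⧸ Cfsg.parabolicGL n F μ) :
          orbitRel.Quotient (Cfsg.parabolicGL n F ν) (GL (Fin n) F ⧸ Cfsg.parabolicGL n F μ)) =
          Quotient.mk'' ((g : GL (Fin n) F) : GL (Fin n) F ⧸ Cfsg.parabolicGL n F μ)
        rw [orbit_quot_eq_iff]
        refine ⟨1, one_mem _, t⁻¹, inv_mem (upper_mem_parabolic μ (diagGL_upper _)), ?_⟩
        rw [hs, one_mul]
  · intro s s'
    change (Quotient.mk'' (s : SpecialLinearGroup (Fin n) F ⧸ parSL n F μ) :
        orbitRel.Quotient (parSL n F ν) (SpecialLinearGroup (Fin n) F ⧸ parSL n F μ)) =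
        Quotient.mk'' (s' : SpecialLinearGroup (Fin n) F ⧸ parSL n F μ) ↔
      (Quotient.mk'' ((SpecialLinearGroup.toGL s : GL (Fin n) F) :
          GL (Fin n) F ⧸ Cfsg.parabolicGL n F μ) :
        orbitRel.Quotient (Cfsg.parabolicGL n F ν) (GL (Fin n) F ⧸ Cfsg.parabolicGL n F μ)) =
        Quotient.mk'' ((SpecialLinearGroup.toGL s' : GL (Fin n) F) :
          GL (Fin n) F ⧸ Cfsg.parabolicGL n F μ)
    rw [orbit_quot_eq_iff, orbit_quot_eq_iff]
    constructor
    · rintro ⟨q, hq, h, hh, rfl⟩
      exact ⟨SpecialLinearGroup.toGL q, hq, SpecialLinearGroup.toGL h, hh, by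
        rw [map_mul, map_mul]⟩
    · rintro ⟨q, hq, h, hh, heq⟩
      -- Bruhat decomposition of `s'`
      obtain ⟨σ, b, b', hb, hb', hbr⟩ := bruhat_GL (SpecialLinearGroup.toGL s' : GL (Fin n) F)
      let t : GL (Fin n) F := diagGL (tdet (n := n) (GeneralLinearGroup.det q))
      -- the correcting element
      let c : GL (Fin n) F := b * t⁻¹ * b⁻¹
      have hc_up : ((c : GL (Fin n) F) : Matrix (Fin n) (Fin n) F).BlockTriangular id :=
        upper_mul (upper_mul hb (upper_inv (diagGL_upper _))) (upper_inv hb)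
      have hc_det : GeneralLinearGroup.det c = (GeneralLinearGroup.det q)⁻¹ := by
        change GeneralLinearGroup.det (b * t⁻¹ * b⁻¹) = _
        rw [map_mul, map_mul, map_inv, map_inv, tdet_det, mul_right_comm, mul_inv_cancel, one_mul]
      -- `s'⁻¹ c⁻¹ s'` is upper triangular
      have hconj : (SpecialLinearGroup.toGL s' : GL (Fin n) F)⁻¹ * c⁻¹ *
          (SpecialLinearGroup.toGL s' : GL (Fin n) F) =
          b'⁻¹ * diagGL (fun i => tdet (n := n) (GeneralLinearGroup.det q) (σ i)) * b' := by
        rw [← wGL_conj_diag, hbr]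
        change (b * wGL F n σ * b')⁻¹ * (b * t⁻¹ * b⁻¹)⁻¹ * (b * wGL F n σ * b') =
          b'⁻¹ * ((wGL F n σ)⁻¹ * t * wGL F n σ) * b'
        group
      have hconj_up : (((SpecialLinearGroup.toGL s' : GL (Fin n) F)⁻¹ * c⁻¹ *
          (SpecialLinearGroup.toGL s' : GL (Fin n) F) : GL (Fin n) F) :
            Matrix (Fin n) (Fin n) F).BlockTriangular id := by
        rw [hconj]
        exact upper_mul (upper_mul (upper_inv hb') (diagGL_upper _)) hb'
      -- the new pair
      have hq1 : GeneralLinearGroup.det (q * c) = 1 := by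
        rw [map_mul, hc_det, mul_inv_cancel]
      have hh1 : GeneralLinearGroup.det ((SpecialLinearGroup.toGL s' : GL (Fin n) F)⁻¹ * c⁻¹ *
          (SpecialLinearGroup.toGL s' : GL (Fin n) F) * h) = 1 := by
        have e := congrArg GeneralLinearGroup.det heq
        rw [det_toGL, map_mul, map_mul, det_toGL, mul_one] at e
        rw [map_mul, map_mul, map_mul, map_inv, map_inv, det_toGL, hc_det, inv_inv, inv_one,
          one_mul, mul_one]
        exact e.symm
      obtain ⟨q1, hq1'⟩ := exists_SL_of_det _ hq1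
      obtain ⟨h1, hh1'⟩ := exists_SL_of_det _ hh1
      refine ⟨q1, ?_, h1, ?_, ?_⟩
      · rw [mem_parSL, hq1']
        exact mul_mem hq (upper_mem_parabolic ν hc_up)
      · rw [mem_parSL, hh1']
        exact mul_mem (upper_mem_parabolic μ hconj_up) hh
      · apply SpecialLinearGroup.toGL_injective
        rw [map_mul, map_mul, hq1', hh1', heq]
        group

end Cfsg.Agent.Helper8.Flag
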