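import Mathlib
import Cfsg.Agent.Helper8.CompLabel

set_option autoImplicit false
set_option linter.unusedSectionVars false
set_option linter.unusedVariables false

/-!
The three compositions `(1, n-1)`, `(2, n-2)`, `(1, 1, n-2)` of `n = m + 3`, their block labels and
their Young subgroups.
-/

namespace Cfsg.Agent.Helper8.Flag

open Cfsg.Agent.Helper8.CompLab

variable {m : ℕ}

/-- the composition `(1, n-1)`. -/
def nu1 (m : ℕ) : Fin (m + 3) → ℕ := fun k => if k.val = 0 then 1 else if k.val = 1 then m + 2 else 0

/-- the composition `(2, n-2)`. -/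
def nu2 (m : ℕ) : Fin (m + 3) → ℕ := fun k => if k.val = 0 then 2 else if k.val = 1 then m + 1 else 0

/-- the composition `(1, 1, n-2)`. -/
def nu12 (m : ℕ) : Fin (m + 3) → ℕ :=
  fun k => if k.val = 0 then 1 else if k.val = 1 then 1 else if k.val = 2 then m + 1 else 0

theorem psum_nu1_1 : psum (nu1 m) 1 = 1 := by
  rw [psum_succ, psum_zero, ext_of_lt _ 0 (by omega)]
  simp [nu1]

theorem psum_nu1_2 : psum (nu1 m) 2 = m + 3 := by
  rw [psum_succ, psum_nu1_1, ext_of_lt _ 1 (by omega)]
  simp [nu1]
  omega

theorem psum_nu2_1 : psum (nu2 m) 1 = 2 := by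
  rw [psum_succ, psum_zero, ext_of_lt _ 0 (by omega)]
  simp [nu2]

theorem psum_nu2_2 : psum (nu2 m) 2 = m + 3 := by
  rw [psum_succ, psum_nu2_1, ext_of_lt _ 1 (by omega)]
  simp [nu2]
  omega

theorem psum_nu12_1 : psum (nu12 m) 1 = 1 := by
  rw [psum_succ, psum_zero, ext_of_lt _ 0 (by omega)]
  simp [nu12]

theorem psum_nu12_2 : psum (nu12 m) 2 = 2 := by
  rw [psum_succ, psum_nu12_1, ext_of_lt _ 1 (by omega)]
  simp [nu12]

theorem psum_nu12_3 : psum (nu12 m) 3 = m + 3 := by
  rw [psum_succ, psum_nu12_2, ext_of_lt _ 2 (by omega)]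
  simp [nu12]
  omega

/-- the label function of `(1, n-1)`. -/
theorem label_nu1 (i : Fin (m + 3)) : Cfsg.compLabel (nu1 m) i = if i.val = 0 then 0 else 1 := by
  by_cases h : i.val = 0
  · rw [if_pos h]
    apply compLabel_of_mem
    · rw [psum_zero]; omega
    · rw [psum_nu1_1]; omega
  · rw [if_neg h]
    apply compLabel_of_mem
    · rw [psum_nu1_1]; omega
    · rw [psum_nu1_2]; exact i.2

/-- the label function of `(2, n-2)`. -/
theorem label_nu2 (i : Fin (m + 3)) : Cfsg.compLabel (nu2 m) i = if i.val < 2 then 0 else 1 := by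
  by_cases h : i.val < 2
  · rw [if_pos h]
    apply compLabel_of_mem
    · rw [psum_zero]; omega
    · rw [psum_nu2_1]; omega
  · rw [if_neg h]
    apply compLabel_of_mem
    · rw [psum_nu2_1]; omega
    · rw [psum_nu2_2]; exact i.2

/-- the label function of `(1, 1, n-2)`. -/
theorem label_nu12 (i : Fin (m + 3)) :
    Cfsg.compLabel (nu12 m) i = if i.val = 0 then 0 else if i.val = 1 then 1 else 2 := by
  by_cases h : i.val = 0
  · rw [if_pos h]
    apply compLabel_of_mem
    · rw [psum_zero]; omega
    · rw [psum_nu12_1]; omega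
  · rw [if_neg h]
    by_cases h1 : i.val = 1
    · rw [if_pos h1]
      apply compLabel_of_mem
      · rw [psum_nu12_1]; omega
      · rw [psum_nu12_2]; omega
    · rw [if_neg h1]
      apply compLabel_of_mem
      · rw [psum_nu12_2]; omega
      · rw [psum_nu12_3]; exact i.2

theorem fin_eq_zero_iff (x : Fin (m + 3)) : x = 0 ↔ x.val = 0 := by
  constructor
  · intro h; rw [h]; rfl
  · intro h; exact Fin.ext h

theorem fin_eq_one_iff (x : Fin (m + 3)) : x = 1 ↔ x.val = 1 := by
  constructor
  · intro h; rw [h]; rfl
  · intro h; exact Fin.ext h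

/-- membership in the Young subgroup of `(1, n-1)`. -/
theorem mem_young_nu1 (σ : Equiv.Perm (Fin (m + 3))) :
    σ ∈ Cfsg.youngSubgroup (nu1 m) ↔ σ 0 = 0 := by
  constructor
  · intro h
    have := h 0
    rw [label_nu1, label_nu1] at this
    simp only [Fin.val_zero, if_true] at this
    by_cases h0 : (σ 0).val = 0
    · exact Fin.ext h0
    · rw [if_neg h0] at this
      omega
  · intro h i
    rw [label_nu1, label_nu1]
    by_cases hi : i.val = 0
    · have : i = 0 := Fin.ext hi
      rw [this, h]
    · have : (σ i).val ≠ 0 := by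
        intro h0
        have e : σ i = σ 0 := by rw [h]; exact Fin.ext h0
        exact hi (by rw [σ.injective e]; rfl)
      rw [if_neg hi, if_neg this]

/-- membership in the Young subgroup of `(1, 1, n-2)`. -/
theorem mem_young_nu12 (σ : Equiv.Perm (Fin (m + 3))) :
    σ ∈ Cfsg.youngSubgroup (nu12 m) ↔ σ 0 = 0 ∧ σ 1 = 1 := by
  constructor
  · intro h
    have h0 := h 0
    have h1 := h 1
    rw [label_nu12, label_nu12] at h0 h1
    have e0 : ((0 : Fin (m + 3)) : ℕ) = 0 := rfl
    have e1 : ((1 : Fin (m + 3)) : ℕ) = 1 := rfl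
    rw [e0] at h0
    rw [e1] at h1
    simp only [if_true, one_ne_zero, if_false] at h0 h1
    constructor
    · apply Fin.ext
      rw [e0]
      by_contra hc
      rw [if_neg hc] at h0
      split_ifs at h0
    · apply Fin.ext
      rw [e1]
      by_contra hc
      by_cases hz : (σ 1).val = 0
      · rw [if_pos hz] at h1
        omega
      · rw [if_neg hz, if_neg hc] at h1
        omega
  · rintro ⟨h0, h1⟩ i
    rw [label_nu12, label_nu12]
    by_cases hi : i.val = 0
    · have : i = 0 := Fin.ext hi
      rw [this, h0]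
    · by_cases hi1 : i.val = 1
      · have : i = 1 := Fin.ext hi1
        rw [this, h1]
      · have n0 : (σ i).val ≠ 0 := by
          intro hz
          have e : σ i = σ 0 := by rw [h0]; exact Fin.ext hz
          exact hi (by rw [σ.injective e]; rfl)
        have n1 : (σ i).val ≠ 1 := by
          intro hz
          have e : σ i = σ 1 := by rw [h1]; exact Fin.ext hz
          exact hi1 (by rw [σ.injective e]; rfl)
        rw [if_neg hi, if_neg hi1, if_neg n0, if_neg n1]

/-- membership in the Young subgroup of `(2, n-2)`. -/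
theorem mem_young_nu2 (σ : Equiv.Perm (Fin (m + 3))) :
    σ ∈ Cfsg.youngSubgroup (nu2 m) ↔ (σ 0).val < 2 ∧ (σ 1).val < 2 := by
  constructor
  · intro h
    have h0 := h 0
    have h1 := h 1
    rw [label_nu2, label_nu2] at h0 h1
    have e0 : ((0 : Fin (m + 3)) : ℕ) = 0 := rfl
    have e1 : ((1 : Fin (m + 3)) : ℕ) = 1 := rfl
    rw [e0] at h0
    rw [e1] at h1
    constructor
    · by_contra hc
      rw [if_neg hc, if_pos (by omega)] at h0
      omega
    · by_contra hc
      rw [if_neg hc, if_pos (by omega)] at h1
      omega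
  · rintro ⟨h0, h1⟩ i
    rw [label_nu2, label_nu2]
    have hne : σ 0 ≠ σ 1 := fun e => by
      have := σ.injective e
      exact absurd (congrArg Fin.val this) (by simp)
    have hne' : (σ 0).val ≠ (σ 1).val := fun e => hne (Fin.ext e)
    by_cases hi : i.val < 2
    · rw [if_pos hi]
      have : i = 0 ∨ i = 1 := by
        rcases Nat.lt_or_ge i.val 1 with h | h
        · left; exact Fin.ext (by rw [Fin.val_zero]; omega)
        · right; exact Fin.ext (by rw [Fin.val_one]; omega)
      rcases this with rfl | rfl
      · rw [if_pos h0]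
      · rw [if_pos h1]
    · rw [if_neg hi]
      have : ¬ (σ i).val < 2 := by
        intro hlt
        -- `σ i` is `σ 0` or `σ 1`
        have hcases : (σ i).val = (σ 0).val ∨ (σ i).val = (σ 1).val := by omega
        rcases hcases with e | e
        · have := σ.injective (Fin.ext e)
          apply hi
          rw [this]
          simp
        · have := σ.injective (Fin.ext e)
          apply hi
          rw [this]
          simp
      rw [if_neg this]

end Cfsg.Agent.Helper8.Flag
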