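import Mathlib
import Cfsg.Agent.Helper8.FlagA
import Cfsg.Agent.Helper8.FlagF

set_option autoImplicit false
set_option linter.unusedSectionVars false
set_option linter.unusedVariables false

/-!
Counting the double cosets of Young subgroups through complete invariants: the general principle
and the one-point and two-point versions.
-/

namespace Cfsg.Agent.Helper8.Flag

open MulAction

/-- counting orbits on cosets through a complete invariant. -/
theorem card_orbits_of_inv {G : Type*} [Group G] (Q H : Subgroup G) {T : Type*} (inv : G → T)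
    (h1 : ∀ q ∈ Q, ∀ h ∈ H, ∀ x, inv (q * x * h) = inv x)
    (h2 : ∀ x y, inv x = inv y → ∃ q ∈ Q, ∃ h ∈ H, x = q * y * h) :
    Nat.card (orbitRel.Quotient Q (G ⧸ H)) = Nat.card (Set.range inv) := by
  apply card_eq_of_surj (fun x : G => (Quotient.mk'' (x : G ⧸ H) : orbitRel.Quotient Q (G ⧸ H)))
    (fun x : G => (⟨inv x, x, rfl⟩ : Set.range inv))
  · intro x
    induction x using Quotient.inductionOn' with
    | _ y =>
      induction y using QuotientGroup.induction_on with
      | _ s => exact ⟨s, rfl⟩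
  · rintro ⟨_, x, rfl⟩
    exact ⟨x, rfl⟩
  · intro x y
    rw [orbit_quot_eq_iff, Subtype.ext_iff]
    constructor
    · rintro ⟨q, hq, h, hh, rfl⟩
      exact h1 q hq h hh y
    · exact h2 x y

variable {n : ℕ}

theorem perm_inv_apply_self {α : Type*} (f : Equiv.Perm α) (x : α) : f⁻¹ (f x) = x :=
  f.symm_apply_apply x

theorem perm_apply_inv_self {α : Type*} (f : Equiv.Perm α) (x : α) : f (f⁻¹ x) = x :=
  f.apply_symm_apply x

/-- a transposition of two points with the same label preserves the labels. -/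
theorem label_swap {T : Type*} (L : Fin n → T) {a b : Fin n} (hab : L a = L b) (x : Fin n) :
    L (Equiv.swap a b x) = L x := by
  by_cases h1 : x = a
  · rw [h1, Equiv.swap_apply_left, hab]
  · by_cases h2 : x = b
    · rw [h2, Equiv.swap_apply_right, hab]
    · rw [Equiv.swap_apply_of_ne_of_ne h1 h2]

theorem exists_label_perm_one {T : Type*} (L : Fin n → T) {c c' : Fin n} (h : L c = L c') :
    ∃ q : Equiv.Perm (Fin n), (∀ x, L (q x) = L x) ∧ q c = c' :=
  ⟨Equiv.swap c c', label_swap L h, Equiv.swap_apply_left _ _⟩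

theorem exists_label_perm_two {T : Type*} (L : Fin n → T) {c d c' d' : Fin n}
    (hc : L c = L c') (hd : L d = L d') (hcd : c ≠ d) (hcd' : c' ≠ d') :
    ∃ q : Equiv.Perm (Fin n), (∀ x, L (q x) = L x) ∧ q c = c' ∧ q d = d' := by
  have hsd : L (Equiv.swap c c' d) = L d' := by rw [label_swap L hc, hd]
  refine ⟨Equiv.swap (Equiv.swap c c' d) d' * Equiv.swap c c', ?_, ?_, ?_⟩
  · intro x
    rw [Equiv.Perm.mul_apply, label_swap L hsd, label_swap L hc]
  · rw [Equiv.Perm.mul_apply, Equiv.swap_apply_left]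
    apply Equiv.swap_apply_of_ne_of_ne
    · intro h
      have h2 : Equiv.swap c c' c' = Equiv.swap c c' (Equiv.swap c c' d) := congrArg _ h
      rw [Equiv.swap_apply_right, Equiv.swap_apply_self] at h2
      exact hcd h2
    · exact hcd'
  · rw [Equiv.Perm.mul_apply, Equiv.swap_apply_left]

variable {m : ℕ}

/-- **one point.** the orbits of a Young subgroup on the cosets of a point stabiliser are
counted by the labels. -/
theorem card_orbits_one (ν : Fin (m + 3) → ℕ) (H : Subgroup (Equiv.Perm (Fin (m + 3))))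
    (hH : ∀ σ, σ ∈ H ↔ σ 0 = 0) :
    Nat.card (orbitRel.Quotient (Cfsg.youngSubgroup ν) (Equiv.Perm (Fin (m + 3)) ⧸ H)) =
      Nat.card (Set.range (Cfsg.compLabel ν)) := by
  rw [card_orbits_of_inv (Cfsg.youngSubgroup ν) H (fun σ => Cfsg.compLabel ν (σ 0))]
  · congr 1
    congr 1
    ext t
    constructor
    · rintro ⟨σ, rfl⟩
      exact ⟨σ 0, rfl⟩
    · rintro ⟨a, rfl⟩
      refine ⟨Equiv.swap 0 a, ?_⟩
      change Cfsg.compLabel ν (Equiv.swap 0 a 0) = _
      rw [Equiv.swap_apply_left]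
  · intro q hq h hh x
    change Cfsg.compLabel ν (q (x (h 0))) = _
    rw [(hH h).mp hh]
    exact hq _
  · intro x y hxy
    obtain ⟨q, hq, hq0⟩ := exists_label_perm_one (Cfsg.compLabel ν) hxy.symm
    refine ⟨q, hq, y⁻¹ * q⁻¹ * x, ?_, by group⟩
    rw [hH]
    change y⁻¹ (q⁻¹ (x 0)) = 0
    rw [← hq0, perm_inv_apply_self, perm_inv_apply_self]

/-- **two points.** the orbits of a Young subgroup on the cosets of the stabiliser of two points
are counted by the pairs of labels of distinct points. -/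
theorem card_orbits_two (ν : Fin (m + 3) → ℕ) (H : Subgroup (Equiv.Perm (Fin (m + 3))))
    (hH : ∀ σ, σ ∈ H ↔ σ 0 = 0 ∧ σ 1 = 1) :
    Nat.card (orbitRel.Quotient (Cfsg.youngSubgroup ν) (Equiv.Perm (Fin (m + 3)) ⧸ H)) =
      Nat.card {p : ℕ × ℕ | ∃ a b : Fin (m + 3), a ≠ b ∧
        p = (Cfsg.compLabel ν a, Cfsg.compLabel ν b)} := by
  have h01 : (0 : Fin (m + 3)) ≠ 1 := by
    intro h
    have := congrArg Fin.val h
    simp at this
  rw [card_orbits_of_inv (Cfsg.youngSubgroup ν) H
    (fun σ => (Cfsg.compLabel ν (σ 0), Cfsg.compLabel ν (σ 1)))]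
  · congr 1
    congr 1
    ext t
    constructor
    · rintro ⟨σ, rfl⟩
      exact ⟨σ 0, σ 1, fun h => h01 (σ.injective h), rfl⟩
    · rintro ⟨a, b, hab, rfl⟩
      obtain ⟨q, -, hq0, hq1⟩ := exists_label_perm_two (fun _ : Fin (m + 3) => ())
        (c := 0) (d := 1) (c' := a) (d' := b) rfl rfl h01 hab
      refine ⟨q, ?_⟩
      change (Cfsg.compLabel ν (q 0), Cfsg.compLabel ν (q 1)) = _
      rw [hq0, hq1]
  · intro q hq h hh x
    change (Cfsg.compLabel ν (q (x (h 0))), Cfsg.compLabel ν (q (x (h 1)))) = _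
    rw [((hH h).mp hh).1, ((hH h).mp hh).2, hq _, hq _]
  · intro x y hxy
    have e0 : Cfsg.compLabel ν (x 0) = Cfsg.compLabel ν (y 0) := congrArg Prod.fst hxy
    have e1 : Cfsg.compLabel ν (x 1) = Cfsg.compLabel ν (y 1) := congrArg Prod.snd hxy
    obtain ⟨q, hq, hq0, hq1⟩ := exists_label_perm_two (Cfsg.compLabel ν) e0.symm e1.symm
      (fun h => h01 (y.injective h)) (fun h => h01 (x.injective h))
    refine ⟨q, hq, y⁻¹ * q⁻¹ * x, ?_, by group⟩
    rw [hH]
    constructor
    · change y⁻¹ (q⁻¹ (x 0)) = 0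
      rw [← hq0, perm_inv_apply_self, perm_inv_apply_self]
    · change y⁻¹ (q⁻¹ (x 1)) = 1
      rw [← hq1, perm_inv_apply_self, perm_inv_apply_self]

end Cfsg.Agent.Helper8.Flag
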