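import Mathlib
import Cfsg.Agent.Helper8.FlagG

set_option autoImplicit false
set_option linter.unusedSectionVars false
set_option linter.unusedVariables false

/-!
The double coset numbers of the Young subgroups of `(1, n-1)`, `(2, n-2)`, `(1, 1, n-2)`.
-/

namespace Cfsg.Agent.Helper8.Flag

open MulAction

variable {m : ℕ}

theorem val_two : ((2 : Fin (m + 3)) : ℕ) = 2 := Fin.val_two

/-- the point `3` when `m ≥ 1`. -/
def pt3 (hm : 1 ≤ m) : Fin (m + 3) := ⟨3, by omega⟩

theorem card_range_label_nu1 : Nat.card (Set.range (Cfsg.compLabel (nu1 m))) = 2 := by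
  have : Set.range (Cfsg.compLabel (nu1 m)) = {0, 1} := by
    ext t
    constructor
    · rintro ⟨i, rfl⟩
      rw [label_nu1]
      split_ifs <;> simp
    · intro ht
      rcases ht with rfl | rfl
      · exact ⟨0, by rw [label_nu1]; simp⟩
      · exact ⟨1, by rw [label_nu1]; simp⟩
  rw [this, Nat.card_coe_set_eq, Set.ncard_pair (by norm_num)]

theorem card_range_label_nu2 : Nat.card (Set.range (Cfsg.compLabel (nu2 m))) = 2 := by
  have : Set.range (Cfsg.compLabel (nu2 m)) = {0, 1} := by
    ext t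
    constructor
    · rintro ⟨i, rfl⟩
      rw [label_nu2]
      split_ifs <;> simp
    · intro ht
      rcases ht with rfl | rfl
      · exact ⟨0, by rw [label_nu2]; simp⟩
      · exact ⟨2, by rw [label_nu2, val_two]; simp⟩
  rw [this, Nat.card_coe_set_eq, Set.ncard_pair (by norm_num)]

theorem card_range_label_nu12 : Nat.card (Set.range (Cfsg.compLabel (nu12 m))) = 3 := by
  have : Set.range (Cfsg.compLabel (nu12 m)) = (({0, 1, 2} : Finset ℕ) : Set ℕ) := by
    ext t
    constructor
    · rintro ⟨i, rfl⟩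
      rw [label_nu12]
      split_ifs <;> simp
    · intro ht
      simp only [Finset.coe_insert, Finset.coe_singleton, Set.mem_insert_iff,
        Set.mem_singleton_iff] at ht
      rcases ht with rfl | rfl | rfl
      · exact ⟨0, by rw [label_nu12]; simp⟩
      · exact ⟨1, by rw [label_nu12]; simp⟩
      · exact ⟨2, by rw [label_nu12, val_two]; simp⟩
  rw [this, Nat.card_coe_set_eq, Set.ncard_coe_finset]
  rfl

theorem val_pt3 (hm : 1 ≤ m) : (pt3 hm).val = 3 := rfl

theorem fin_ne_of_val_ne {a b : Fin (m + 3)} (h : a.val ≠ b.val) : a ≠ b :=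
  fun e => h (congrArg Fin.val e)

/-- the label pairs of distinct points for `(1, 1, n-2)`, `n ≥ 4`. -/
theorem card_pairs_nu12 (hm : 1 ≤ m) :
    Nat.card {p : ℕ × ℕ | ∃ a b : Fin (m + 3), a ≠ b ∧
      p = (Cfsg.compLabel (nu12 m) a, Cfsg.compLabel (nu12 m) b)} = 7 := by
  have : {p : ℕ × ℕ | ∃ a b : Fin (m + 3), a ≠ b ∧
      p = (Cfsg.compLabel (nu12 m) a, Cfsg.compLabel (nu12 m) b)} =
      (({(0, 1), (0, 2), (1, 0), (1, 2), (2, 0), (2, 1), (2, 2)} : Finset (ℕ × ℕ)) :
        Set (ℕ × ℕ)) := by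
    ext t
    constructor
    · rintro ⟨a, b, hab, rfl⟩
      rw [label_nu12, label_nu12]
      have hv : a.val ≠ b.val := fun e => hab (Fin.ext e)
      by_cases a0 : a.val = 0 <;> by_cases a1 : a.val = 1 <;> by_cases b0 : b.val = 0 <;>
        by_cases b1 : b.val = 1 <;> simp [a0, a1, b0, b1] <;> omega
    · intro ht
      simp only [Finset.coe_insert, Finset.coe_singleton, Set.mem_insert_iff,
        Set.mem_singleton_iff] at ht
      rcases ht with rfl | rfl | rfl | rfl | rfl | rfl | rfl
      · refine ⟨0, 1, fin_ne_of_val_ne (by simp), ?_⟩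
        rw [label_nu12, label_nu12]; simp
      · refine ⟨0, 2, fin_ne_of_val_ne (by rw [val_two]; simp), ?_⟩
        rw [label_nu12, label_nu12, val_two]; simp
      · refine ⟨1, 0, fin_ne_of_val_ne (by simp), ?_⟩
        rw [label_nu12, label_nu12]; simp
      · refine ⟨1, 2, fin_ne_of_val_ne (by rw [val_two]; simp), ?_⟩
        rw [label_nu12, label_nu12, val_two]; simp
      · refine ⟨2, 0, fin_ne_of_val_ne (by rw [val_two]; simp), ?_⟩
        rw [label_nu12, label_nu12, val_two]; simp
      · refine ⟨2, 1, fin_ne_of_val_ne (by rw [val_two]; simp), ?_⟩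
        rw [label_nu12, label_nu12, val_two]; simp
      · refine ⟨2, pt3 hm, fin_ne_of_val_ne (by rw [val_two, val_pt3]; simp), ?_⟩
        rw [label_nu12, label_nu12, val_two, val_pt3]; simp
  rw [this, Nat.card_coe_set_eq, Set.ncard_coe_finset]
  rfl

/-- the label pairs of distinct points for `(1, 1, 1)`. -/
theorem card_pairs_nu12_zero :
    Nat.card {p : ℕ × ℕ | ∃ a b : Fin (0 + 3), a ≠ b ∧
      p = (Cfsg.compLabel (nu12 0) a, Cfsg.compLabel (nu12 0) b)} = 6 := by
  have : {p : ℕ × ℕ | ∃ a b : Fin (0 + 3), a ≠ b ∧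
      p = (Cfsg.compLabel (nu12 0) a, Cfsg.compLabel (nu12 0) b)} =
      (({(0, 1), (0, 2), (1, 0), (1, 2), (2, 0), (2, 1)} : Finset (ℕ × ℕ)) :
        Set (ℕ × ℕ)) := by
    ext t
    constructor
    · rintro ⟨a, b, hab, rfl⟩
      rw [label_nu12, label_nu12]
      have hv : a.val ≠ b.val := fun e => hab (Fin.ext e)
      have ha := a.2
      have hb := b.2
      by_cases a0 : a.val = 0 <;> by_cases a1 : a.val = 1 <;> by_cases b0 : b.val = 0 <;>
        by_cases b1 : b.val = 1 <;> simp [a0, a1, b0, b1] <;> omega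
    · intro ht
      simp only [Finset.coe_insert, Finset.coe_singleton, Set.mem_insert_iff,
        Set.mem_singleton_iff] at ht
      rcases ht with rfl | rfl | rfl | rfl | rfl | rfl
      · refine ⟨0, 1, fin_ne_of_val_ne (by simp), ?_⟩
        rw [label_nu12, label_nu12]; simp
      · refine ⟨0, 2, fin_ne_of_val_ne (by rw [val_two]; simp), ?_⟩
        rw [label_nu12, label_nu12, val_two]; simp
      · refine ⟨1, 0, fin_ne_of_val_ne (by simp), ?_⟩
        rw [label_nu12, label_nu12]; simp
      · refine ⟨1, 2, fin_ne_of_val_ne (by rw [val_two]; simp), ?_⟩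
        rw [label_nu12, label_nu12, val_two]; simp
      · refine ⟨2, 0, fin_ne_of_val_ne (by rw [val_two]; simp), ?_⟩
        rw [label_nu12, label_nu12, val_two]; simp
      · refine ⟨2, 1, fin_ne_of_val_ne (by rw [val_two]; simp), ?_⟩
        rw [label_nu12, label_nu12, val_two]; simp
  rw [this, Nat.card_coe_set_eq, Set.ncard_coe_finset]
  rfl

/-- the label pairs of distinct points for `(2, n-2)`, `n ≥ 4`. -/
theorem card_pairs_nu2 (hm : 1 ≤ m) :
    Nat.card {p : ℕ × ℕ | ∃ a b : Fin (m + 3), a ≠ b ∧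
      p = (Cfsg.compLabel (nu2 m) a, Cfsg.compLabel (nu2 m) b)} = 4 := by
  have : {p : ℕ × ℕ | ∃ a b : Fin (m + 3), a ≠ b ∧
      p = (Cfsg.compLabel (nu2 m) a, Cfsg.compLabel (nu2 m) b)} =
      (({(0, 0), (0, 1), (1, 0), (1, 1)} : Finset (ℕ × ℕ)) : Set (ℕ × ℕ)) := by
    ext t
    constructor
    · rintro ⟨a, b, hab, rfl⟩
      rw [label_nu2, label_nu2]
      by_cases a0 : a.val < 2 <;> by_cases b0 : b.val < 2 <;> simp [a0, b0]
    · intro ht
      simp only [Finset.coe_insert, Finset.coe_singleton, Set.mem_insert_iff,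
        Set.mem_singleton_iff] at ht
      rcases ht with rfl | rfl | rfl | rfl
      · refine ⟨0, 1, fin_ne_of_val_ne (by simp), ?_⟩
        rw [label_nu2, label_nu2]; simp
      · refine ⟨0, 2, fin_ne_of_val_ne (by rw [val_two]; simp), ?_⟩
        rw [label_nu2, label_nu2, val_two]; simp
      · refine ⟨2, 0, fin_ne_of_val_ne (by rw [val_two]; simp), ?_⟩
        rw [label_nu2, label_nu2, val_two]; simp
      · refine ⟨2, pt3 hm, fin_ne_of_val_ne (by rw [val_two, val_pt3]; simp), ?_⟩
        rw [label_nu2, label_nu2, val_two, val_pt3]; simp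
  rw [this, Nat.card_coe_set_eq, Set.ncard_coe_finset]
  rfl

end Cfsg.Agent.Helper8.Flag
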