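import Mathlib
import Cfsg.Agent.Helper8.FlagH

set_option autoImplicit false
set_option linter.unusedSectionVars false
set_option linter.unusedVariables false

/-!
The double coset numbers of the Young subgroups of `(1, n-1)`, `(2, n-2)`, `(1, 1, n-2)`:
`2, 2, 3, 3, 4, 7` (and `6` for `n = 3`).
-/

namespace Cfsg.Agent.Helper8.Flag

open MulAction

variable {m : ℕ}

theorem young_11 :
    Nat.card (orbitRel.Quotient (Cfsg.youngSubgroup (nu1 m))
      (Equiv.Perm (Fin (m + 3)) ⧸ Cfsg.youngSubgroup (nu1 m))) = 2 := by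
  rw [card_orbits_one (nu1 m) _ mem_young_nu1, card_range_label_nu1]

theorem young_21 :
    Nat.card (orbitRel.Quotient (Cfsg.youngSubgroup (nu2 m))
      (Equiv.Perm (Fin (m + 3)) ⧸ Cfsg.youngSubgroup (nu1 m))) = 2 := by
  rw [card_orbits_one (nu2 m) _ mem_young_nu1, card_range_label_nu2]

theorem young_P1 :
    Nat.card (orbitRel.Quotient (Cfsg.youngSubgroup (nu12 m))
      (Equiv.Perm (Fin (m + 3)) ⧸ Cfsg.youngSubgroup (nu1 m))) = 3 := by
  rw [card_orbits_one (nu12 m) _ mem_young_nu1, card_range_label_nu12]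

theorem young_PP (hm : 1 ≤ m) :
    Nat.card (orbitRel.Quotient (Cfsg.youngSubgroup (nu12 m))
      (Equiv.Perm (Fin (m + 3)) ⧸ Cfsg.youngSubgroup (nu12 m))) = 7 := by
  rw [card_orbits_two (nu12 m) _ mem_young_nu12, card_pairs_nu12 hm]

theorem young_PP_zero :
    Nat.card (orbitRel.Quotient (Cfsg.youngSubgroup (nu12 0))
      (Equiv.Perm (Fin (0 + 3)) ⧸ Cfsg.youngSubgroup (nu12 0))) = 6 := by
  rw [card_orbits_two (nu12 0) _ mem_young_nu12, card_pairs_nu12_zero]

theorem young_2P (hm : 1 ≤ m) :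
    Nat.card (orbitRel.Quotient (Cfsg.youngSubgroup (nu2 m))
      (Equiv.Perm (Fin (m + 3)) ⧸ Cfsg.youngSubgroup (nu12 m))) = 4 := by
  rw [card_orbits_two (nu2 m) _ mem_young_nu12, card_pairs_nu2 hm]

/-! ### the pair `(2, n-2)`, `(2, n-2)` -/

theorem zero_ne_one_fin : (0 : Fin (m + 3)) ≠ 1 := fin_ne_of_val_ne (by simp)

/-- two permutations with the same labels at `0` and `1` differ by a Young element on the left and
an element fixing `0` and `1` on the right. -/
theorem two_pt (ν : Fin (m + 3) → ℕ) (x y : Equiv.Perm (Fin (m + 3)))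
    (e0 : Cfsg.compLabel ν (x 0) = Cfsg.compLabel ν (y 0))
    (e1 : Cfsg.compLabel ν (x 1) = Cfsg.compLabel ν (y 1)) :
    ∃ q ∈ Cfsg.youngSubgroup ν, ∃ h : Equiv.Perm (Fin (m + 3)), h 0 = 0 ∧ h 1 = 1 ∧
      x = q * y * h := by
  obtain ⟨q, hq, hq0, hq1⟩ := exists_label_perm_two (Cfsg.compLabel ν) e0.symm e1.symm
    (fun h => zero_ne_one_fin (y.injective h)) (fun h => zero_ne_one_fin (x.injective h))
  refine ⟨q, hq, y⁻¹ * q⁻¹ * x, ?_, ?_, by group⟩
  · change y⁻¹ (q⁻¹ (x 0)) = 0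
    rw [← hq0, perm_inv_apply_self, perm_inv_apply_self]
  · change y⁻¹ (q⁻¹ (x 1)) = 1
    rw [← hq1, perm_inv_apply_self, perm_inv_apply_self]

theorem young_nu2_lt {q : Equiv.Perm (Fin (m + 3))} (hq : q ∈ Cfsg.youngSubgroup (nu2 m))
    (i : Fin (m + 3)) : (q i).val < 2 ↔ i.val < 2 := by
  have := hq i
  rw [label_nu2, label_nu2] at this
  by_cases h1 : (q i).val < 2 <;> by_cases h2 : i.val < 2 <;> simp [h1, h2] at this ⊢

theorem label_nu2_eq_iff (a b : Fin (m + 3)) :
    Cfsg.compLabel (nu2 m) a = Cfsg.compLabel (nu2 m) b ↔ (a.val < 2 ↔ b.val < 2) := by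
  rw [label_nu2, label_nu2]
  by_cases h1 : a.val < 2 <;> by_cases h2 : b.val < 2 <;> simp [h1, h2]

/-- the invariant of the `(2, n-2)`, `(2, n-2)` double cosets. -/
def inv22 (σ : Equiv.Perm (Fin (m + 3))) : ℕ :=
  (if (σ 0).val < 2 then 1 else 0) + (if (σ 1).val < 2 then 1 else 0)

theorem young2_cases {h : Equiv.Perm (Fin (m + 3))} (hh : h ∈ Cfsg.youngSubgroup (nu2 m)) :
    (h 0 = 0 ∧ h 1 = 1) ∨ (h 0 = 1 ∧ h 1 = 0) := by
  obtain ⟨h0, h1⟩ := (mem_young_nu2 h).mp hh
  have hne : (h 0).val ≠ (h 1).val := fun e => zero_ne_one_fin (h.injective (Fin.ext e))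
  rcases Nat.lt_or_ge (h 0).val 1 with a | a
  · left
    refine ⟨Fin.ext (by rw [Fin.val_zero]; omega), Fin.ext (by rw [Fin.val_one]; omega)⟩
  · right
    refine ⟨Fin.ext (by rw [Fin.val_one]; omega), Fin.ext (by rw [Fin.val_zero]; omega)⟩

theorem swap01_mem : Equiv.swap (0 : Fin (m + 3)) 1 ∈ Cfsg.youngSubgroup (nu2 m) := by
  rw [mem_young_nu2, Equiv.swap_apply_left, Equiv.swap_apply_right]
  simp

theorem young_22 (hm : 1 ≤ m) :
    Nat.card (orbitRel.Quotient (Cfsg.youngSubgroup (nu2 m))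
      (Equiv.Perm (Fin (m + 3)) ⧸ Cfsg.youngSubgroup (nu2 m))) = 3 := by
  rw [card_orbits_of_inv (Cfsg.youngSubgroup (nu2 m)) (Cfsg.youngSubgroup (nu2 m)) inv22]
  · have : Set.range (inv22 (m := m)) = (({0, 1, 2} : Finset ℕ) : Set ℕ) := by
      ext t
      constructor
      · rintro ⟨σ, rfl⟩
        unfold inv22
        split_ifs <;> simp
      · intro ht
        simp only [Finset.coe_insert, Finset.coe_singleton, Set.mem_insert_iff,
          Set.mem_singleton_iff] at ht
        rcases ht with rfl | rfl | rfl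
        · obtain ⟨q, -, hq0, hq1⟩ := exists_label_perm_two (fun _ : Fin (m + 3) => ())
            (c := 0) (d := 1) (c' := 2) (d' := pt3 hm) rfl rfl zero_ne_one_fin
            (fin_ne_of_val_ne (by rw [val_two, val_pt3]; simp))
          refine ⟨q, ?_⟩
          unfold inv22
          rw [hq0, hq1, val_two, val_pt3]
          simp
        · refine ⟨Equiv.swap 1 2, ?_⟩
          unfold inv22
          rw [Equiv.swap_apply_left, Equiv.swap_apply_of_ne_of_ne zero_ne_one_fin
            (fin_ne_of_val_ne (by rw [val_two]; simp)), val_two]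
          simp
        · refine ⟨1, ?_⟩
          unfold inv22
          simp
    rw [this, Nat.card_coe_set_eq, Set.ncard_coe_finset]
    rfl
  · intro q hq h hh x
    unfold inv22
    change (if (q (x (h 0))).val < 2 then 1 else 0) + (if (q (x (h 1))).val < 2 then 1 else 0) = _
    simp only [young_nu2_lt hq]
    rcases young2_cases hh with ⟨a, b⟩ | ⟨a, b⟩
    · rw [a, b]
    · rw [a, b, add_comm]
  · intro x y hxy
    by_cases hsame : (((x 0).val < 2 ↔ (y 0).val < 2) ∧ ((x 1).val < 2 ↔ (y 1).val < 2))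
    · obtain ⟨q, hq, h, h0, h1, e⟩ := two_pt (nu2 m) x y
        ((label_nu2_eq_iff _ _).mpr hsame.1) ((label_nu2_eq_iff _ _).mpr hsame.2)
      refine ⟨q, hq, h, ?_, e⟩
      rw [mem_young_nu2, h0, h1]
      simp
    · have hswap : (((x 0).val < 2 ↔ (y 1).val < 2) ∧ ((x 1).val < 2 ↔ (y 0).val < 2)) := by
        unfold inv22 at hxy
        by_cases a : (x 0).val < 2 <;> by_cases b : (x 1).val < 2 <;>
          by_cases c : (y 0).val < 2 <;> by_cases d : (y 1).val < 2 <;>
          simp [a, b, c, d] at hxy hsame ⊢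
      obtain ⟨q, hq, h, h0, h1, e⟩ := two_pt (nu2 m) x (y * Equiv.swap 0 1)
        ((label_nu2_eq_iff _ _).mpr (by
          rw [Equiv.Perm.mul_apply, Equiv.swap_apply_left]; exact hswap.1))
        ((label_nu2_eq_iff _ _).mpr (by
          rw [Equiv.Perm.mul_apply, Equiv.swap_apply_right]; exact hswap.2))
      refine ⟨q, hq, Equiv.swap 0 1 * h, ?_, ?_⟩
      · apply Subgroup.mul_mem _ swap01_mem
        rw [mem_young_nu2, h0, h1]
        simp
      · rw [e]
        group

end Cfsg.Agent.Helper8.Flag
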