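import Mathlib

set_option autoImplicit false

/-! Counting linearly independent tuples subject to a flag of subspaces. -/

namespace Cfsg.Agent.Helper8.FlagLI

open Module

variable {K V : Type*} [Field K] [AddCommGroup V] [Module K V]

/-- The set of linearly independent `k`-tuples with `s j ∈ W j`. -/
abbrev FlagSet (k : ℕ) (W : Fin k → Submodule K V) : Type _ :=
  {s : Fin k → V // LinearIndependent K s ∧ ∀ j, s j ∈ W j}

/-- The fibre of the last vector. -/
abbrev Fibre (W : Submodule K V) (k : ℕ) (t : Fin k → V) : Type _ :=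
  {x : V // x ∈ W ∧ x ∉ Submodule.span K (Set.range t)}

/-- The basic equivalence: split off the last vector. -/
def flagEquiv (k : ℕ) (W : Fin (k + 1) → Submodule K V) :
    FlagSet (k + 1) W ≃ Σ t : FlagSet k (fun j => W j.castSucc), Fibre (W (Fin.last k)) k t.1 where
  toFun s := ⟨⟨Fin.init s.1, (linearIndependent_finSucc'.mp s.2.1).1, fun j => s.2.2 j.castSucc⟩,
    ⟨s.1 (Fin.last k), s.2.2 (Fin.last k), (linearIndependent_finSucc'.mp s.2.1).2⟩⟩
  invFun p := ⟨Fin.snoc p.1.1 p.2.1, linearIndependent_finSnoc.mpr ⟨p.1.2.1, p.2.2.2⟩, by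
    intro j
    refine Fin.lastCases ?_ (fun i => ?_) j
    · rw [Fin.snoc_last]
      exact p.2.2.1
    · rw [Fin.snoc_castSucc]
      exact p.1.2.2 i⟩
  left_inv s := by
    apply Subtype.ext
    exact Fin.snoc_init_self s.1
  right_inv p := by
    obtain ⟨⟨t, ht⟩, ⟨x, hx⟩⟩ := p
    have h1 : Fin.init (Fin.snoc t x : Fin (k + 1) → V) = t := by
      funext j
      show (Fin.snoc t x : Fin (k + 1) → V) j.castSucc = t j
      exact Fin.snoc_castSucc (α := fun _ => V) x t j
    have h2 : (Fin.snoc t x : Fin (k + 1) → V) (Fin.last k) = x :=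
      Fin.snoc_last (α := fun _ => V) x t
    apply Sigma.ext
    · exact Subtype.ext h1
    · apply (Subtype.heq_iff_coe_eq ?_).mpr h2
      intro y
      show (y ∈ W (Fin.last k) ∧ y ∉ Submodule.span K (Set.range (Fin.init (Fin.snoc t x : Fin (k + 1) → V))))
        ↔ (y ∈ W (Fin.last k) ∧ y ∉ Submodule.span K (Set.range t))
      rw [h1]

theorem card_fibre [Finite K] [Finite V] (W : Submodule K V) (k : ℕ) (t : Fin k → V)
    (ht : LinearIndependent K t) (hW : ∀ j, t j ∈ W) :
    Nat.card (Fibre W k t) = Nat.card W - Nat.card K ^ k := by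
  have hle : Submodule.span K (Set.range t) ≤ W := by
    rw [Submodule.span_le]
    rintro _ ⟨j, rfl⟩
    exact hW j
  have h1 : Nat.card (Fibre W k t)
      = ((W : Set V) \ (Submodule.span K (Set.range t) : Set V)).ncard := by
    rw [← Nat.card_coe_set_eq]
    rfl
  rw [h1, Set.ncard_sdiff (fun x hx => hle hx) (Set.toFinite _), ← Nat.card_coe_set_eq,
    ← Nat.card_coe_set_eq]
  congr 1
  have h2 : Nat.card ↥(Submodule.span K (Set.range t)) = Nat.card K ^ k := by
    rw [Module.natCard_eq_pow_finrank (K := K), finrank_span_eq_card ht, Fintype.card_fin]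
  exact h2

/-- The count of flag-constrained linearly independent tuples. -/
theorem card_flagSet [Finite K] [Finite V] :
    ∀ (k : ℕ) (W : Fin k → Submodule K V), Monotone W →
      Nat.card (FlagSet k W) = ∏ j : Fin k, (Nat.card (W j) - Nat.card K ^ (j : ℕ)) := by
  intro k
  induction k with
  | zero =>
    intro W _
    rw [Finset.univ_eq_empty, Finset.prod_empty]
    have : Unique (FlagSet 0 W) :=
      { default := ⟨fun i => i.elim0, linearIndependent_empty_type, fun j => j.elim0⟩
        uniq := fun s => Subtype.ext (funext fun i => i.elim0) }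
    exact Nat.card_unique
  | succ k ih =>
    intro W hW
    haveI : Finite (FlagSet k (fun j => W j.castSucc)) := Subtype.finite
    haveI : Fintype (FlagSet k (fun j => W j.castSucc)) := Fintype.ofFinite _
    haveI : ∀ t : FlagSet k (fun j => W j.castSucc), Finite (Fibre (W (Fin.last k)) k t.1) :=
      fun t => Subtype.finite
    rw [Nat.card_congr (flagEquiv k W), Nat.card_sigma]
    have hfib : ∀ t : FlagSet k (fun j => W j.castSucc),
        Nat.card (Fibre (W (Fin.last k)) k t.1)
          = Nat.card (W (Fin.last k)) - Nat.card K ^ k := by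
      intro t
      apply card_fibre _ _ _ t.2.1
      intro j
      exact hW (Fin.le_last j.castSucc) (t.2.2 j)
    rw [Finset.sum_congr rfl (fun t _ => hfib t), Finset.sum_const, smul_eq_mul, Finset.card_univ,
      ← Nat.card_eq_fintype_card, ih (fun j => W j.castSucc)
        (fun i j hij => hW (Fin.castSucc_le_castSucc_iff.mpr hij)), Fin.prod_univ_castSucc]
    rfl

end Cfsg.Agent.Helper8.FlagLI
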