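import Mathlib
import Cfsg.Agent.Helper8.FldPlA

set_option autoImplicit false
set_option linter.unusedSectionVars false
set_option linter.unusedVariables false
set_option linter.style.haveILetI false

/-!
# Field automorphisms of `PΩ⁺_{2n}(q)`, part B: the inner-diagonal group is generated by the inner
automorphisms and the inner-diagonal group over a subfield of odd degree
-/

namespace Cfsg.Agent.Helper8.FldPl

open Module Matrix Cfsg.Agent.Helper8.QuadForm Cfsg.Agent.Helper8.WittQuad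
  Cfsg.Agent.Helper8.OrthOrder
  Cfsg.Agent.Helper8.Siegel Cfsg.Agent.Helper8.SiegelGeom Cfsg.Agent.Helper8.SiegelGroup
  Cfsg.Agent.Helper8.SiegelPrim Cfsg.Agent.Helper8.SiegelSimple Cfsg.Agent.Helper8.ReflMatrix
  Cfsg.Agent.Helper8.OmegaSimple Cfsg.Agent.Helper8.AutImagePsi Cfsg.Agent.Helper8.AutImageOrth
  Cfsg.Agent.Helper8.StdForms Cfsg.Agent.Helper8.AutImage Cfsg.Agent.Helper8.AutImageKer
  Cfsg.Agent.Helper8.AutImageIdx Cfsg.Agent.Helper8.Cls Cfsg.Agent.Helper8.Reflections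
  Cfsg.Agent.Helper8.InnDiagGen Cfsg.Agent.Helper8.AutO Cfsg.Agent.Helper8.OmegaOdd

universe u v

variable {F₀ : Type u} {F : Type v} [Field F₀] [Field F] [Fintype F₀] [Fintype F] (j : F₀ →+* F)
  {n : ℕ}

set_option maxHeartbeats 1600000 in
/-- **odd characteristic**: the image of the class-preserving similarities of `PΩ⁺` is generated by
the inner automorphisms and the class-preserving similarities over a subfield whose nonsquares
stay nonsquares. -/
theorem cpAut_le_sup_plus_odd (hn : 3 ≤ n) (h2 : (2 : F) ≠ 0)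
    (hne : ∃ v, plusForm F n v ≠ 0) (hne₀ : ∃ v, plusForm F₀ n v ≠ 0)
    (hnsq : ∀ c : F₀, ¬ IsSquare c → ¬ IsSquare (j c)) :
    cpAut (plusForm F n) (plusForm_nondeg F n) hne n (card_idx_plus n) ≤
      Cfsg.Inn (Cfsg.POmega F ⇑(plusForm F n)) ⊔
        (subHomCP j (plusForm F₀ n) (plusForm F n) (plusForm_hvec j) (plusForm_nondeg F₀ n)
          hne₀ n (card_idx_plus n)).range := by
  classical
  have hQ := plusForm_nondeg F n
  have hQ₀ := plusForm_nondeg F₀ n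
  have hcard := card_idx_plus n
  have h5 : 5 ≤ Fintype.card (Fin n ⊕ Fin n) := by rw [hcard]; omega
  have heven : Even (Fintype.card (Fin n ⊕ Fin n)) := by rw [hcard]; exact even_two_mul n
  have h2₀ : (2 : F₀) ≠ 0 := two_ne_zero_of_hom j h2
  obtain ⟨R, hR⟩ : ∃ R, R = (subHomCP j (plusForm F₀ n) (plusForm F n) (plusForm_hvec j)
      (plusForm_nondeg F₀ n) hne₀ n (card_idx_plus n)).range := ⟨_, rfl⟩
  rw [← hR]
  -- a nonsquare of the small field
  obtain ⟨c₀, hc₀⟩ := exists_nonsquare (F := F₀) h2₀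
  have hc₀0 : c₀ ≠ 0 := by
    rintro rfl
    exact hc₀ IsSquare.zero
  obtain ⟨cu, hcu⟩ : ∃ cu : F₀ˣ, (cu : F₀) = c₀ := ⟨Units.mk0 c₀ hc₀0, rfl⟩
  have hjc : ¬ IsSquare (j c₀) := hnsq c₀ hc₀
  -- the similarity with the nonsquare multiplier
  obtain ⟨d₀, hd₀⟩ : ∃ d₀, d₀ = dgSim (fun _ : Fin n => cu) (fun _ => 1) cu (fun _ => mul_one cu) :=
    ⟨_, rfl⟩
  have hd₀cp : clsChar (plusForm F₀ n) hQ₀ hne₀ n hcard d₀ = 1 := by
    rw [hd₀]; exact clsChar_dgSim h2₀ hne₀ _ _ _ _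
  have hd₀m : mult ⇑(plusForm F₀ n) hne₀ d₀ = cu := by rw [hd₀]; exact mult_dgSim hne₀ _ _ _ _
  have hd₀R : Phi ⇑(plusForm F n) (simMap j (plusForm F₀ n) (plusForm F n) (plusForm_hvec j) d₀)
      ∈ R := by
    rw [hR]
    exact ⟨⟨d₀, hd₀cp⟩, rfl⟩
  have hd₀mult : ((mult ⇑(plusForm F n) hne
      (simMap j (plusForm F₀ n) (plusForm F n) (plusForm_hvec j) d₀) : Fˣ) : F) = j c₀ := by
    rw [mult_simMap j (plusForm F₀ n) (plusForm F n) (plusForm_hvec j) hne₀ hne, hd₀m, hcu]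
  have hd₀D : simMap j (plusForm F₀ n) (plusForm F n) (plusForm_hvec j) d₀
      ∈ Dsub (plusForm F n) h2 hQ hne n hcard := by
    unfold Dsub
    rw [MonoidHom.mem_ker, ← clsChar_eq_psi2 (plusForm F n) hQ hne n hcard h2,
      clsChar_simMap j (plusForm F₀ n) (plusForm F n) (plusForm_hvec j) hQ₀ hQ hne₀ hne n hcard,
      hd₀cp]
  -- the isometry with the nonsquare spinor norm
  obtain ⟨i₀⟩ : Nonempty (Fin n) := ⟨⟨0, by omega⟩⟩
  have hs₀ef : ∀ i : Fin n, (if i = i₀ then cu else 1) * (if i = i₀ then cu⁻¹ else 1) = (1 : F₀ˣ) := by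
    intro i
    by_cases hi : i = i₀
    · rw [if_pos hi, if_pos hi, mul_inv_cancel]
    · rw [if_neg hi, if_neg hi, mul_one]
  obtain ⟨s₀, hs₀⟩ : ∃ s₀, s₀ = dgSim (fun i : Fin n => if i = i₀ then cu else 1)
      (fun i => if i = i₀ then cu⁻¹ else 1) 1 hs₀ef := ⟨_, rfl⟩
  have hs₀cp : clsChar (plusForm F₀ n) hQ₀ hne₀ n hcard s₀ = 1 := by
    rw [hs₀]; exact clsChar_dgSim h2₀ hne₀ _ _ _ _
  have hs₀R : Phi ⇑(plusForm F n) (simMap j (plusForm F₀ n) (plusForm F n) (plusForm_hvec j) s₀)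
      ∈ R := by
    rw [hR]
    exact ⟨⟨s₀, hs₀cp⟩, rfl⟩
  have hs₀P : Phi ⇑(plusForm F n) (simMap j (plusForm F₀ n) (plusForm F n) (plusForm_hvec j) s₀)
      ∈ Cfsg.psoAut F ⇑(plusForm F n) := by
    rw [← map_ker_psi1D (plusForm F n) h2 hQ hne n hcard h5]
    have hmemD : simMap j (plusForm F₀ n) (plusForm F n) (plusForm_hvec j) s₀
        ∈ Dsub (plusForm F n) h2 hQ hne n hcard := by
      unfold Dsub
      rw [MonoidHom.mem_ker, ← clsChar_eq_psi2 (plusForm F n) hQ hne n hcard h2,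
        clsChar_simMap j (plusForm F₀ n) (plusForm F n) (plusForm_hvec j) hQ₀ hQ hne₀ hne n hcard,
        hs₀cp]
    refine ⟨⟨_, hmemD⟩, ?_, rfl⟩
    rw [SetLike.mem_coe, MonoidHom.mem_ker, psi1D_apply, psi1_eq_one_iff,
      mult_simMap j (plusForm F₀ n) (plusForm F n) (plusForm_hvec j) hne₀ hne, hs₀,
      mult_dgSim, Units.val_one, map_one]
    exact ⟨1, (mul_one 1).symm⟩
  have hs₀I : (∃ g : ↥(Cfsg.isometryGroup F ⇑(plusForm F n)),
      g ∈ Cfsg.Omega F ⇑(plusForm F n) ∧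
      ((g : GL (Fin n ⊕ Fin n) F) : Matrix (Fin n ⊕ Fin n) (Fin n ⊕ Fin n) F) = -1) →
      Phi ⇑(plusForm F n) (simMap j (plusForm F₀ n) (plusForm F n) (plusForm_hvec j) s₀)
        ∉ Cfsg.Inn (Cfsg.POmega F ⇑(plusForm F n)) := by
    intro hneg hmem
    rw [hs₀, simMap_dgSim] at hmem
    have hef1 : ∀ i : Fin n, Units.map (j : F₀ →* F) (if i = i₀ then cu else 1) *
        Units.map (j : F₀ →* F) (if i = i₀ then cu⁻¹ else 1) = (1 : Fˣ) * 1 := by
      intro i
      rw [← map_mul, hs₀ef i, map_one, mul_one]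
    have key := (Phi_diag_mem_Inn_iff hn h2 hneg
      (fun i : Fin n => Units.map (j : F₀ →* F) (if i = i₀ then cu else 1))
      (fun i : Fin n => Units.map (j : F₀ →* F) (if i = i₀ then cu⁻¹ else 1)) 1 hef1).mp hmem
    apply hjc
    have hprod : ∏ i : Fin n, ((Units.map (j : F₀ →* F) (if i = i₀ then cu else 1) * (1 : Fˣ)⁻¹ : Fˣ) : F)
        = j c₀ := by
      have : ∀ i : Fin n, ((Units.map (j : F₀ →* F) (if i = i₀ then cu else 1) * (1 : Fˣ)⁻¹ : Fˣ) : F)
          = if i = i₀ then j c₀ else 1 := by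
        intro i
        rw [inv_one, mul_one]
        by_cases hi : i = i₀
        · rw [if_pos hi, if_pos hi, Units.coe_map, hcu]
          rfl
        · rw [if_neg hi, if_neg hi, map_one, Units.val_one]
      simp only [this]
      rw [Finset.prod_ite_eq' Finset.univ i₀ (fun _ => j c₀), if_pos (Finset.mem_univ _)]
    rw [← hprod]
    exact key
  -- the case of a square multiplier
  have hsqcase : ∀ g : ↥(Cfsg.Geo.quadSimilarityGroup (F := F) ⇑(plusForm F n)),
      g ∈ Dsub (plusForm F n) h2 hQ hne n hcard →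
      IsSquare ((mult ⇑(plusForm F n) hne g : Fˣ) : F) →
      Phi ⇑(plusForm F n) g ∈ Cfsg.Inn (Cfsg.POmega F ⇑(plusForm F n)) ⊔ R := by
    intro g hgD hgsq
    have hgP : Phi ⇑(plusForm F n) g ∈ Cfsg.psoAut F ⇑(plusForm F n) := by
      rw [← map_ker_psi1D (plusForm F n) h2 hQ hne n hcard h5]
      refine ⟨⟨g, hgD⟩, ?_, rfl⟩
      rw [SetLike.mem_coe, MonoidHom.mem_ker, psi1D_apply, psi1_eq_one_iff]
      exact hgsq
    by_cases hgI : Phi ⇑(plusForm F n) g ∈ Cfsg.Inn (Cfsg.POmega F ⇑(plusForm F n))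
    · exact Subgroup.mem_sup_left hgI
    · by_cases hneg : ∃ g : ↥(Cfsg.isometryGroup F ⇑(plusForm F n)),
          g ∈ Cfsg.Omega F ⇑(plusForm F n) ∧
          ((g : GL (Fin n ⊕ Fin n) F) : Matrix (Fin n ⊕ Fin n) (Fin n ⊕ Fin n) F) = -1
      · have hidx := (relIndex_Inn_psoAut (plusForm F n) h2 hQ h5 heven).1 hneg
        have h1 := Cfsg.Agent.Helper8.SsCls.mul_inv_mem_of_relIndex_two hidx hgP hs₀P hgI
          (hs₀I hneg)
        have h3 : Phi ⇑(plusForm F n) g = (Phi ⇑(plusForm F n) g *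
            (Phi ⇑(plusForm F n) (simMap j (plusForm F₀ n) (plusForm F n) (plusForm_hvec j) s₀))⁻¹) *
            Phi ⇑(plusForm F n) (simMap j (plusForm F₀ n) (plusForm F n) (plusForm_hvec j) s₀) := by
          rw [inv_mul_cancel_right]
        rw [h3]
        exact Subgroup.mul_mem_sup h1 hs₀R
      · exfalso
        have hidx := (relIndex_Inn_psoAut (plusForm F n) h2 hQ h5 heven).2 hneg
        exact hgI (Subgroup.relIndex_eq_one.mp hidx hgP)
  -- the general case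
  intro β hβ
  rw [cpAut_eq_range_PhiD (plusForm F n) hQ hne n hcard h2] at hβ
  obtain ⟨⟨g, hgD⟩, rfl⟩ := hβ
  rw [PhiD_apply]
  by_cases hgsq : IsSquare ((mult ⇑(plusForm F n) hne g : Fˣ) : F)
  · exact hsqcase g hgD hgsq
  · have h1 : Phi ⇑(plusForm F n) (g *
        (simMap j (plusForm F₀ n) (plusForm F n) (plusForm_hvec j) d₀)⁻¹) ∈
        Cfsg.Inn (Cfsg.POmega F ⇑(plusForm F n)) ⊔ R := by
      apply hsqcase
      · exact Subgroup.mul_mem _ hgD (Subgroup.inv_mem _ hd₀D)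
      · rw [map_mul, map_inv, Units.val_mul, Units.val_inv_eq_inv_val, hd₀mult]
        apply isSquare_mul_of_not (Units.ne_zero _) hgsq
        intro hcon
        apply hjc
        obtain ⟨t, ht⟩ := hcon
        refine ⟨t⁻¹, ?_⟩
        rw [← mul_inv, ← ht, inv_inv]
    have h3 : Phi ⇑(plusForm F n) g = Phi ⇑(plusForm F n) (g *
        (simMap j (plusForm F₀ n) (plusForm F n) (plusForm_hvec j) d₀)⁻¹) *
        Phi ⇑(plusForm F n) (simMap j (plusForm F₀ n) (plusForm F n) (plusForm_hvec j) d₀) := by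
      rw [← map_mul, inv_mul_cancel_right]
    rw [h3]
    exact Subgroup.mul_mem _ h1 (Subgroup.mem_sup_right hd₀R)

end Cfsg.Agent.Helper8.FldPl
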