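import Mathlib
import Cfsg.Agent.Helper8.FldPlA

set_option autoImplicit false
set_option linter.unusedSectionVars false
set_option linter.unusedVariables false
set_option linter.style.haveILetI false

/-!
# Field automorphisms of `PΩ⁺_{2n}(q)`, part C: the index of `Inn ⊔ (inner-diagonal group over the
subfield of index two)` in the inner-diagonal group
-/

namespace Cfsg.Agent.Helper8.FldPl

open Module Matrix Cfsg.Agent.Helper8.QuadForm Cfsg.Agent.Helper8.WittQuad
  Cfsg.Agent.Helper8.OrthOrder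
  Cfsg.Agent.Helper8.Siegel Cfsg.Agent.Helper8.SiegelGeom Cfsg.Agent.Helper8.SiegelGroup
  Cfsg.Agent.Helper8.SiegelPrim Cfsg.Agent.Helper8.SiegelSimple Cfsg.Agent.Helper8.ReflMatrix
  Cfsg.Agent.Helper8.OmegaSimple Cfsg.Agent.Helper8.AutImagePsi Cfsg.Agent.Helper8.AutImageOrth
  Cfsg.Agent.Helper8.StdForms Cfsg.Agent.Helper8.AutImage Cfsg.Agent.Helper8.AutImageKer
  Cfsg.Agent.Helper8.AutImageIdx Cfsg.Agent.Helper8.Cls Cfsg.Agent.Helper8.Reflections
  Cfsg.Agent.Helper8.InnDiagGen Cfsg.Agent.Helper8.AutO Cfsg.Agent.Helper8.OmegaOdd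

universe u v

variable {F₀ : Type u} {F : Type v} [Field F₀] [Field F] [Fintype F₀] [Fintype F] (j : F₀ →+* F)
  {n : ℕ}

set_option maxHeartbeats 1600000 in
/-- **the index of `Inn ⊔ R` in the inner-diagonal group of `PΩ⁺_{2n}(q₀²)`**, `R` the image of the
class-preserving similarities over the subfield of index two. -/
theorem relIndex_field_two_plus (hn : 3 ≤ n) (h2 : (2 : F) ≠ 0)
    (hcardsq : Fintype.card F = Fintype.card F₀ ^ 2)
    (hne : ∃ v, plusForm F n v ≠ 0) (hne₀ : ∃ v, plusForm F₀ n v ≠ 0) :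
    ((Odd n ∧ Fintype.card F₀ % 4 = 1) →
      (Cfsg.Inn (Cfsg.POmega F ⇑(plusForm F n)) ⊔
        (subHomCP j (plusForm F₀ n) (plusForm F n) (plusForm_hvec j) (plusForm_nondeg F₀ n)
          hne₀ n (card_idx_plus n)).range).relIndex
        (cpAut (plusForm F n) (plusForm_nondeg F n) hne n (card_idx_plus n)) = 2) ∧
    (¬ (Odd n ∧ Fintype.card F₀ % 4 = 1) →
      (Cfsg.Inn (Cfsg.POmega F ⇑(plusForm F n)) ⊔
        (subHomCP j (plusForm F₀ n) (plusForm F n) (plusForm_hvec j) (plusForm_nondeg F₀ n)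
          hne₀ n (card_idx_plus n)).range).relIndex
        (cpAut (plusForm F n) (plusForm_nondeg F n) hne n (card_idx_plus n)) = 4) := by
  classical
  have hQ := plusForm_nondeg F n
  have hQ₀ := plusForm_nondeg F₀ n
  have hcard := card_idx_plus n
  have h5 : 5 ≤ Fintype.card (Fin n ⊕ Fin n) := by rw [hcard]; omega
  have h2₀ : (2 : F₀) ≠ 0 := two_ne_zero_of_hom j h2
  have hsq := isSquare_map_of_card_sq j h2 hcardsq
  have hneg := neg_one_mem_Omega_plus (F := F) n (by omega) h2 (by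
    have := hsq (-1)
    rwa [map_neg, map_one] at this)
  -- a similarity with nonsquare multiplier
  have hd : ∃ d : ↥(Cfsg.Geo.quadSimilarityGroup (F := F) ⇑(plusForm F n)),
      ¬ IsSquare ((mult ⇑(plusForm F n) hne d : Fˣ) : F) := by
    obtain ⟨c, hc⟩ := exists_nonsquare (F := F) h2
    have hc0 : c ≠ 0 := by
      rintro rfl
      exact hc IsSquare.zero
    obtain ⟨d, hd⟩ := exists_sim_mult_plus n hne (Units.mk0 c hc0)
    exact ⟨d, by rw [hd]; exact hc⟩
  -- a nonsquare of the small field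
  obtain ⟨c₀, hc₀⟩ := exists_nonsquare (F := F₀) h2₀
  have hc₀0 : c₀ ≠ 0 := by
    rintro rfl
    exact hc₀ IsSquare.zero
  obtain ⟨cu, hcu⟩ : ∃ cu : F₀ˣ, (cu : F₀) = c₀ := ⟨Units.mk0 c₀ hc₀0, rfl⟩
  obtain ⟨d₀, hd₀⟩ : ∃ d₀, d₀ = dgSim (fun _ : Fin n => cu) (fun _ => 1) cu (fun _ => mul_one cu) :=
    ⟨_, rfl⟩
  have hd₀cp : clsChar (plusForm F₀ n) hQ₀ hne₀ n hcard d₀ = 1 := by
    rw [hd₀]; exact clsChar_dgSim h2₀ hne₀ _ _ _ _
  have hd₀m : mult ⇑(plusForm F₀ n) hne₀ d₀ = cu := by rw [hd₀]; exact mult_dgSim hne₀ _ _ _ _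
  have hd₀ns : ¬ IsSquare ((mult ⇑(plusForm F₀ n) hne₀ d₀ : F₀ˣ) : F₀) := by
    rw [hd₀m, hcu]; exact hc₀
  have key := relIndex_sup_range_subHomCP_odd j (plusForm F₀ n) (plusForm F n) (plusForm_hvec j)
    hQ₀ hQ hne₀ hne n hcard h2 h5 hsq hneg hd d₀ hd₀cp hd₀ns
  -- the square root of the nonsquare
  obtain ⟨t, ht⟩ := hsq c₀
  have ht0 : t ≠ 0 := by
    rintro rfl
    rw [mul_zero] at ht
    exact hc₀0 ((map_eq_zero j).mp ht)
  obtain ⟨tu, htu⟩ : ∃ tu : Fˣ, (tu : F) = t := ⟨Units.mk0 t ht0, rfl⟩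
  have hmapcu : Units.map (j : F₀ →* F) cu = tu * tu := by
    apply Units.ext
    rw [Units.coe_map, Units.val_mul, htu, ← ht, hcu]
    rfl
  have hef : ∀ i : Fin n, (fun _ : Fin n => Units.map (j : F₀ →* F) cu) i *
      (fun _ : Fin n => Units.map (j : F₀ →* F) (1 : F₀ˣ)) i = tu * tu := by
    intro i
    show Units.map (j : F₀ →* F) cu * Units.map (j : F₀ →* F) 1 = tu * tu
    rw [map_one, mul_one, hmapcu]
  have hcrit : Phi ⇑(plusForm F n) (simMap j (plusForm F₀ n) (plusForm F n) (plusForm_hvec j) d₀)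
      ∈ Cfsg.Inn (Cfsg.POmega F ⇑(plusForm F n)) ↔ ¬ (Odd n ∧ Fintype.card F₀ % 4 = 1) := by
    have h1 := Phi_diag_mem_Inn_iff hn h2 hneg (fun _ : Fin n => Units.map (j : F₀ →* F) cu)
      (fun _ : Fin n => Units.map (j : F₀ →* F) (1 : F₀ˣ)) tu hef
    have h3 : simMap j (plusForm F₀ n) (plusForm F n) (plusForm_hvec j) d₀
        = ⟨diagGL (fun _ : Fin n => Units.map (j : F₀ →* F) cu)
          (fun _ : Fin n => Units.map (j : F₀ →* F) (1 : F₀ˣ)),
          diagGL_mem_sim _ _ (tu * tu) hef⟩ := by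
      rw [hd₀, simMap_dgSim]
    rw [h3, h1]
    have hprod : ∏ i : Fin n, ((Units.map (j : F₀ →* F) cu * tu⁻¹ : Fˣ) : F) = t ^ n := by
      rw [Finset.prod_const, Finset.card_univ, Fintype.card_fin, hmapcu, mul_assoc,
        mul_inv_cancel, mul_one, htu]
    rw [hprod]
    have hsiff := isSquare_sqrt_iff j h2 hcardsq hc₀ ht.symm
    have hmod := card_mod_four (F₀ := F₀) h2₀
    rcases Nat.even_or_odd n with hev | hodd
    · constructor
      · intro _ hcon
        exact (Nat.not_even_iff_odd.mpr hcon.1) hev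
      · intro _
        obtain ⟨a, ha⟩ := hev
        exact ⟨t ^ a, by rw [ha, pow_add]⟩
    · obtain ⟨a, ha⟩ := hodd
      have hpow : t ^ n = t * (t ^ a * t ^ a) := by
        rw [ha, pow_succ, two_mul, pow_add]
        ring
      constructor
      · intro hsqn hcon
        have hts : IsSquare t := by
          by_contra hns
          have := not_isSquare_mul (mul_ne_zero (pow_ne_zero a ht0) (pow_ne_zero a ht0))
            ⟨t ^ a, rfl⟩ hns
          rw [mul_comm] at this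
          rw [hpow] at hsqn
          exact this hsqn
        have := hsiff.mp hts
        omega
      · intro hcon
        have h3 : Fintype.card F₀ % 4 = 3 := by
          rcases hmod with h | h
          · exact absurd ⟨⟨a, ha⟩, h⟩ hcon
          · exact h
        obtain ⟨s, hs⟩ := hsiff.mpr h3
        exact ⟨s * t ^ a, by rw [hpow, hs]; ring⟩
  exact ⟨fun h => key.2 (fun hc => (hcrit.mp hc) h), fun h => key.1 (hcrit.mpr h)⟩

end Cfsg.Agent.Helper8.FldPl
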