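import Mathlib
import Cfsg.Agent.Helper8.FldPlB
import Cfsg.Agent.Helper8.FldPlC
import Cfsg.Agent.Helper8.AutOzzi

set_option autoImplicit false
set_option linter.unusedSectionVars false
set_option linter.unusedVariables false
set_option linter.style.haveILetI false

/-!
# Field automorphisms of `PΩ⁺_{2n}(q)`, part D: the main theorem, given that the inner-diagonal
group is normal in the automorphism group
-/

namespace Cfsg.Agent.Helper8.FldPl

open Module Matrix Cfsg.Agent.Helper8.QuadForm Cfsg.Agent.Helper8.WittQuad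
  Cfsg.Agent.Helper8.OrthOrder
  Cfsg.Agent.Helper8.Siegel Cfsg.Agent.Helper8.SiegelGeom Cfsg.Agent.Helper8.SiegelGroup
  Cfsg.Agent.Helper8.SiegelPrim Cfsg.Agent.Helper8.SiegelSimple Cfsg.Agent.Helper8.ReflMatrix
  Cfsg.Agent.Helper8.OmegaSimple Cfsg.Agent.Helper8.AutImagePsi Cfsg.Agent.Helper8.AutImageOrth
  Cfsg.Agent.Helper8.StdForms Cfsg.Agent.Helper8.AutImage Cfsg.Agent.Helper8.AutImageKer
  Cfsg.Agent.Helper8.AutImageIdx Cfsg.Agent.Helper8.Cls Cfsg.Agent.Helper8.Reflections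
  Cfsg.Agent.Helper8.InnDiagGen Cfsg.Agent.Helper8.AutO Cfsg.Agent.Helper8.OmegaOdd

universe u v

variable {F₀ : Type u} {F : Type v} [Field F₀] [Field F] [Fintype F₀] [Fintype F]

set_option maxHeartbeats 3200000 in
/-- **field automorphisms of prime order of `PΩ⁺_{2n}(q)`**, given that the image of the
class-preserving similarities is normal in the automorphism group. -/
theorem field_aut_main_plus {p f : ℕ} [Fact p.Prime] (hF : Fintype.card F = p ^ f)
    {n : ℕ} (hn : 3 ≤ n) (hne : ∃ v, plusForm F n v ≠ 0) (hne₀ : ∃ v, plusForm F₀ n v ≠ 0)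
    (hnormal : (cpAut (plusForm F n) (plusForm_nondeg F n) hne n (card_idx_plus n)).Normal)
    (x : MulAut (Cfsg.POmega F ⇑(plusForm F n)))
    (hx : Cfsg.IsFieldAutClassPOmega ⇑(plusForm F n) x)
    {r : ℕ} (hr : r.Prime) (hxr : orderOf x = r) (hF₀ : Fintype.card F₀ = p ^ (f / r)) :
    r ∣ f ∧
    Nonempty (↥(cpAut (plusForm F n) (plusForm_nondeg F n) hne n (card_idx_plus n) ⊓
      Subgroup.centralizer {x}) ≃*
      ↥(cpAut (plusForm F₀ n) (plusForm_nondeg F₀ n) hne₀ n (card_idx_plus n))) ∧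
    ((Odd r ∨ p = 2) → Cfsg.splitClassCount
      (cpAut (plusForm F n) (plusForm_nondeg F n) hne n (card_idx_plus n))
      (Cfsg.Inn (Cfsg.POmega F ⇑(plusForm F n))) x = 1) ∧
    ((r = 2 ∧ p ≠ 2 ∧ Odd n ∧ p ^ (f / 2) % 4 = 1) → Cfsg.splitClassCount
      (cpAut (plusForm F n) (plusForm_nondeg F n) hne n (card_idx_plus n))
      (Cfsg.Inn (Cfsg.POmega F ⇑(plusForm F n))) x = 2) ∧
    ((r = 2 ∧ p ≠ 2 ∧ ¬ (Odd n ∧ p ^ (f / 2) % 4 = 1)) → Cfsg.splitClassCount
      (cpAut (plusForm F n) (plusForm_nondeg F n) hne n (card_idx_plus n))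
      (Cfsg.Inn (Cfsg.POmega F ⇑(plusForm F n))) x = 4) := by
  classical
  have hc : CharP F p := charP_of_card_eq_prime_pow hF
  haveI : Nonempty (Fin n ⊕ Fin n) := ⟨Sum.inl ⟨0, by omega⟩⟩
  have hcard := card_idx_plus n
  have hQ := plusForm_nondeg F n
  have hQ₀ := plusForm_nondeg F₀ n
  have h5 : 5 ≤ Fintype.card (Fin n ⊕ Fin n) := by rw [hcard]; omega
  obtain ⟨α, φ, σ, -, hφ, hα⟩ := hx
  have hσQ : ∀ v : Fin n ⊕ Fin n → F, plusForm F n (fun i => σ (v i)) = σ (plusForm F n v) :=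
    fun v => plusForm_sigma σ n v
  have e1 : α * x * α⁻¹ = PsiM (plusForm F n) hQ h5 (fieldGammaOne (plusForm F n) σ hσQ) :=
    hα.trans (eq_PsiM_of_isFieldAut_one (plusForm F n) σ hσQ hQ h5 hφ)
  have hσo : orderOf σ = r := by
    rw [← orderOf_PsiM_fieldGammaOne (plusForm F n) σ hσQ hQ h5 p, ← e1, ← hxr]
    exact MulEquiv.orderOf_eq (MulAut.conj α) x
  have hσr : σ ^ r = 1 := by rw [← hσo, pow_orderOf_eq_one]
  have hinj : ∀ i l : Fin r, σ ^ (i : ℕ) = σ ^ (l : ℕ) → i = l := by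
    intro i l e
    apply Fin.ext
    apply pow_injOn_Iio_orderOf (x := σ) _ _ e
    · rw [hσo]
      exact i.2
    · rw [hσo]
      exact l.2
  have hrf : r ∣ f := (Cfsg.Agent.Helper8.AutSLn.card_fixField hF σ hr.pos hσo).1
  obtain ⟨j, hj1, hj2⟩ := Cfsg.Agent.Helper8.AutSLn.exists_embedding hF σ hr.pos hσo F₀ hF₀
  haveI : Nontrivial (Fin n ⊕ Fin n → F₀) := inferInstance
  haveI : Nontrivial (Fin n ⊕ Fin n → F) := inferInstance
  have hrange := range_subHomCP j (plusForm F₀ n) (plusForm F n) (plusForm_hvec j) hQ₀ hQ hne₀ hne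
    n hcard h5 p σ hσQ hr.pos hσr hinj hj1 hj2
  have hcount : Cfsg.splitClassCount (cpAut (plusForm F n) hQ hne n hcard)
      (Cfsg.Inn (Cfsg.POmega F ⇑(plusForm F n))) x
      = (Cfsg.Inn (Cfsg.POmega F ⇑(plusForm F n)) ⊔
        (subHomCP j (plusForm F₀ n) (plusForm F n) (plusForm_hvec j) hQ₀ hne₀ n hcard).range).relIndex
        (cpAut (plusForm F n) hQ hne n hcard) := by
    rw [Cfsg.Agent.Helper8.SplitClass.splitClassCount_eq_relIndex _ _
        (Inn_le_cpAut (plusForm F n) hQ hne n hcard) x,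
      ← Cfsg.Agent.Helper8.SplitClass.relIndex_conj _ _ α x, e1, hrange]
  refine ⟨hrf, ?_, ?_, ?_, ?_⟩
  · obtain ⟨E1⟩ := Cfsg.Agent.Helper8.SplitClass.nonempty_centralizer_equiv
      (cpAut (plusForm F n) hQ hne n hcard) α x
    rw [e1] at E1
    obtain ⟨E2⟩ := nonempty_centralizer_equiv_cp j (plusForm F₀ n) (plusForm F n) (plusForm_hvec j)
      hQ₀ hQ hne₀ hne n hcard h5 p σ hσQ hr.pos hσr hinj hj1 hj2
    exact ⟨E1.trans E2⟩
  · rintro (hrodd | hp2)
    · rw [hcount, Subgroup.relIndex_eq_one]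
      by_cases h2 : (2 : F) = 0
      · exact le_trans (cpAut_le_Inn_of_char_two (plusForm F n) hQ hne n hcard h5 h2) le_sup_left
      · exact cpAut_le_sup_plus_odd j hn h2 hne hne₀
          (fun c hc => not_isSquare_map_of_odd j σ hrodd hσr hj1 hj2 hc)
    · rw [hcount, Subgroup.relIndex_eq_one]
      have h2 : (2 : F) = 0 := by
        have := CharP.cast_eq_zero F p
        rw [hp2] at this
        exact_mod_cast this
      exact le_trans (cpAut_le_Inn_of_char_two (plusForm F n) hQ hne n hcard h5 h2) le_sup_left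
  · rintro ⟨hr2, hp2, hodd, hmod⟩
    have h2 : (2 : F) ≠ 0 := by
      intro h0
      have h1 : ((2 : ℕ) : F) = 0 := by exact_mod_cast h0
      have h3 := (CharP.cast_eq_zero_iff F p 2).mp h1
      exact hp2 ((Nat.prime_dvd_prime_iff_eq Fact.out Nat.prime_two).mp h3)
    have hcardsq : Fintype.card F = Fintype.card F₀ ^ 2 := by
      rw [hF, hF₀, hr2, ← pow_mul, Nat.div_mul_cancel (hr2 ▸ hrf)]
    rw [hcount]
    apply (relIndex_field_two_plus j hn h2 hcardsq hne hne₀).1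
    refine ⟨hodd, ?_⟩
    rw [hF₀, hr2]
    exact hmod
  · rintro ⟨hr2, hp2, hcon⟩
    have h2 : (2 : F) ≠ 0 := by
      intro h0
      have h1 : ((2 : ℕ) : F) = 0 := by exact_mod_cast h0
      have h3 := (CharP.cast_eq_zero_iff F p 2).mp h1
      exact hp2 ((Nat.prime_dvd_prime_iff_eq Fact.out Nat.prime_two).mp h3)
    have hcardsq : Fintype.card F = Fintype.card F₀ ^ 2 := by
      rw [hF, hF₀, hr2, ← pow_mul, Nat.div_mul_cancel (hr2 ▸ hrf)]
    rw [hcount]
    apply (relIndex_field_two_plus j hn h2 hcardsq hne hne₀).2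
    rintro ⟨hodd, hmod⟩
    apply hcon
    refine ⟨hodd, ?_⟩
    rw [hF₀, hr2] at hmod
    exact hmod

end Cfsg.Agent.Helper8.FldPl
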