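import Mathlib
import Cfsg.Agent.Helper8.FldPlD
import Cfsg.Agent.Helper8.AutOQp

set_option autoImplicit false
set_option linter.unusedSectionVars false
set_option linter.unusedVariables false
set_option linter.style.haveILetI false

/-!
# Field automorphisms of `PΩ⁺_{2n}(q)`, part E: the statement in terms of the inner-diagonal group
-/

namespace Cfsg.Agent.Helper8.FldPl

open Module Matrix Cfsg.Agent.Helper8.QuadForm Cfsg.Agent.Helper8.WittQuad
  Cfsg.Agent.Helper8.OrthOrder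
  Cfsg.Agent.Helper8.Siegel Cfsg.Agent.Helper8.SiegelGeom Cfsg.Agent.Helper8.SiegelGroup
  Cfsg.Agent.Helper8.SiegelPrim Cfsg.Agent.Helper8.SiegelSimple Cfsg.Agent.Helper8.ReflMatrix
  Cfsg.Agent.Helper8.OmegaSimple Cfsg.Agent.Helper8.AutImagePsi Cfsg.Agent.Helper8.AutImageOrth
  Cfsg.Agent.Helper8.StdForms Cfsg.Agent.Helper8.AutImage Cfsg.Agent.Helper8.AutImageKer
  Cfsg.Agent.Helper8.AutImageIdx Cfsg.Agent.Helper8.Cls Cfsg.Agent.Helper8.Reflections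
  Cfsg.Agent.Helper8.InnDiagGen Cfsg.Agent.Helper8.AutO Cfsg.Agent.Helper8.OmegaOdd

universe u v

variable {F₀ : Type u} {F : Type v} [Field F₀] [Field F] [Fintype F₀] [Fintype F]

/-- the image of the class-preserving similarities of `PΩ⁺_{2n}(q)`, `n ≥ 5`, is normal in the
automorphism group. -/
theorem cpAut_plus_normal_big {p : ℕ} [Fact p.Prime] [CharP F p] {n : ℕ} (hn : 5 ≤ n)
    (hne : ∃ v, plusForm F n v ≠ 0) :
    (cpAut (plusForm F n) (plusForm_nondeg F n) hne n (card_idx_plus n)).Normal := by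
  haveI : Nonempty (Fin n ⊕ Fin n) := ⟨Sum.inl ⟨0, by omega⟩⟩
  haveI : Nontrivial (Fin n ⊕ Fin n → F) := inferInstance
  have hcard := card_idx_plus n
  have hQ := plusForm_nondeg F n
  have hdim : finrank F (Fin n ⊕ Fin n → F) = 2 * n := by
    rw [Module.finrank_fintype_fun_eq_card, hcard]
  have h5 : 5 ≤ Fintype.card (Fin n ⊕ Fin n) := by rw [hcard]; omega
  have hQn : Nondeg (plusForm F n) := (nondeg_iff _).mp hQ
  have hsurj : Function.Surjective (Psi (Q := plusForm F n)) :=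
    Psi_surjective hQn (by rw [hdim]; omega) p (Or.inl (by rw [hdim]; omega))
  exact cpAut_normal (plusForm F n) hQ hne n hcard h5 hsurj

/-- **field automorphisms of prime order of `PΩ⁺_{2n}(q)`**, in terms of the inner-diagonal
group, given that the latter is normal in the automorphism group. -/
theorem field_aut_plus_Qf {p f : ℕ} [Fact p.Prime] (hF : Fintype.card F = p ^ f)
    {n : ℕ} (hn : 3 ≤ n)
    (Qf : (Fin n ⊕ Fin n → F) → F) (hQf : Qf = ⇑(plusForm F n))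
    (Qf₀ : (Fin n ⊕ Fin n → F₀) → F₀) (hQf₀ : Qf₀ = ⇑(plusForm F₀ n))
    (hnormal : ∀ hne : ∃ v, plusForm F n v ≠ 0,
      (cpAut (plusForm F n) (plusForm_nondeg F n) hne n (card_idx_plus n)).Normal)
    (x : MulAut (Cfsg.POmega F Qf)) (hx : Cfsg.IsFieldAutClassPOmega Qf x)
    {r : ℕ} (hr : r.Prime) (hxr : orderOf x = r) (hF₀ : Fintype.card F₀ = p ^ (f / r)) :
    r ∣ f ∧
    Nonempty (↥(Cfsg.autSubgroupOf (fun β : Cfsg.POmega F Qf ≃* Cfsg.POmega F Qf =>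
        ∃ g : GL (Fin n ⊕ Fin n) F,
        g ∈ Cfsg.Geo.quadSimilarityGroup (F := F) Qf ∧
        Cfsg.PreservesSingularClasses Qf
          (g : Matrix (Fin n ⊕ Fin n) (Fin n ⊕ Fin n) F) ∧
        Cfsg.IsInducedBySemilinearPOmega Qf g (RingEquiv.refl F) β) ⊓
          Subgroup.centralizer {x}) ≃*
      ↥(Cfsg.autSubgroupOf (fun β : Cfsg.POmega F₀ Qf₀ ≃* Cfsg.POmega F₀ Qf₀ =>
        ∃ g : GL (Fin n ⊕ Fin n) F₀,
        g ∈ Cfsg.Geo.quadSimilarityGroup (F := F₀) Qf₀ ∧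
        Cfsg.PreservesSingularClasses Qf₀
          (g : Matrix (Fin n ⊕ Fin n) (Fin n ⊕ Fin n) F₀) ∧
        Cfsg.IsInducedBySemilinearPOmega Qf₀ g (RingEquiv.refl F₀) β))) ∧
    ((Odd r ∨ p = 2) → Cfsg.splitClassCount
      (Cfsg.autSubgroupOf (fun β : Cfsg.POmega F Qf ≃* Cfsg.POmega F Qf =>
        ∃ g : GL (Fin n ⊕ Fin n) F,
        g ∈ Cfsg.Geo.quadSimilarityGroup (F := F) Qf ∧
        Cfsg.PreservesSingularClasses Qf
          (g : Matrix (Fin n ⊕ Fin n) (Fin n ⊕ Fin n) F) ∧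
        Cfsg.IsInducedBySemilinearPOmega Qf g (RingEquiv.refl F) β))
      (Cfsg.Inn (Cfsg.POmega F Qf)) x = 1) ∧
    ((r = 2 ∧ p ≠ 2 ∧ Odd n ∧ p ^ (f / 2) % 4 = 1) → Cfsg.splitClassCount
      (Cfsg.autSubgroupOf (fun β : Cfsg.POmega F Qf ≃* Cfsg.POmega F Qf =>
        ∃ g : GL (Fin n ⊕ Fin n) F,
        g ∈ Cfsg.Geo.quadSimilarityGroup (F := F) Qf ∧
        Cfsg.PreservesSingularClasses Qf
          (g : Matrix (Fin n ⊕ Fin n) (Fin n ⊕ Fin n) F) ∧
        Cfsg.IsInducedBySemilinearPOmega Qf g (RingEquiv.refl F) β))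
      (Cfsg.Inn (Cfsg.POmega F Qf)) x = 2) ∧
    ((r = 2 ∧ p ≠ 2 ∧ ¬ (Odd n ∧ p ^ (f / 2) % 4 = 1)) → Cfsg.splitClassCount
      (Cfsg.autSubgroupOf (fun β : Cfsg.POmega F Qf ≃* Cfsg.POmega F Qf =>
        ∃ g : GL (Fin n ⊕ Fin n) F,
        g ∈ Cfsg.Geo.quadSimilarityGroup (F := F) Qf ∧
        Cfsg.PreservesSingularClasses Qf
          (g : Matrix (Fin n ⊕ Fin n) (Fin n ⊕ Fin n) F) ∧
        Cfsg.IsInducedBySemilinearPOmega Qf g (RingEquiv.refl F) β))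
      (Cfsg.Inn (Cfsg.POmega F Qf)) x = 4) := by
  subst hQf hQf₀
  have hne : ∃ v, plusForm F n v ≠ 0 := Cfsg.Agent.S2722.plus_ne (by omega)
  have hne₀ : ∃ v, plusForm F₀ n v ≠ 0 := Cfsg.Agent.S2722.plus_ne (by omega)
  rw [inndiag_plus_eq_cpAut hn hne, inndiag_plus_eq_cpAut hn hne₀]
  exact field_aut_main_plus hF hn hne hne₀ (hnormal hne) x hx hr hxr hF₀

end Cfsg.Agent.Helper8.FldPl
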