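import Mathlib

set_option autoImplicit false

namespace Cfsg.Agent.Helper8

open Matrix

section MatrixLevel

variable {F : Type*} [Field F]

/-- companion matrix with trace `t` and determinant `d` -/
def compM (t d : F) : Matrix (Fin 2) (Fin 2) F := !![0, -d; 1, t]

@[simp] theorem det_compM (t d : F) : (compM t d).det = d := by
  simp [compM, Matrix.det_fin_two_of]

@[simp] theorem trace_compM (t d : F) : (compM t d).trace = t := by
  simp [compM, Matrix.trace_fin_two_of]

/-- the matrix with columns `v` and `M v`, `v = (x, y)` -/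
def cycP (M : Matrix (Fin 2) (Fin 2) F) (x y : F) : Matrix (Fin 2) (Fin 2) F :=
  !![x, M 0 0 * x + M 0 1 * y; y, M 1 0 * x + M 1 1 * y]

theorem mul_cycP (M : Matrix (Fin 2) (Fin 2) F) (x y : F) :
    M * cycP M x y = cycP M x y * compM M.trace M.det := by
  ext i j
  fin_cases i <;> fin_cases j <;>
    simp [cycP, compM, Matrix.mul_apply, Fin.sum_univ_two, Matrix.det_fin_two, Matrix.trace_fin_two] <;>
    ring

theorem det_cycP (M : Matrix (Fin 2) (Fin 2) F) (x y : F) :
    (cycP M x y).det = M 1 0 * x ^ 2 + (M 1 1 - M 0 0) * x * y - M 0 1 * y ^ 2 := by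
  simp [cycP, Matrix.det_fin_two_of]
  ring

theorem exists_cyc (M : Matrix (Fin 2) (Fin 2) F)
    (h : ¬ (M 0 1 = 0 ∧ M 1 0 = 0 ∧ M 0 0 = M 1 1)) : ∃ x y : F, (cycP M x y).det ≠ 0 := by
  by_cases h10 : M 1 0 = 0
  · by_cases h01 : M 0 1 = 0
    · refine ⟨1, 1, ?_⟩
      rw [det_cycP, h10, h01]
      have : M 0 0 ≠ M 1 1 := fun h' => h ⟨h01, h10, h'⟩
      intro h0
      apply this
      have : M 1 1 - M 0 0 = 0 := by simpa using h0
      exact (sub_eq_zero.mp this).symm
    · refine ⟨0, 1, ?_⟩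
      rw [det_cycP]
      simpa using h01
  · refine ⟨1, 0, ?_⟩
    rw [det_cycP]
    simpa using h10

end MatrixLevel

section GLLevel

variable {F : Type*} [Field F]

/-- companion element of `GL₂` with trace `t` and determinant `d` -/
noncomputable def compGL (t : F) (d : Fˣ) : GL (Fin 2) F :=
  Matrix.GeneralLinearGroup.mkOfDetNeZero (compM t (d : F)) (by rw [det_compM]; exact d.ne_zero)

theorem coe_compGL (t : F) (d : Fˣ) :
    ((compGL t d : GL (Fin 2) F) : Matrix (Fin 2) (Fin 2) F) = compM t (d : F) := rfl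

theorem det_compGL (t : F) (d : Fˣ) : Matrix.GeneralLinearGroup.det (compGL t d) = d := by
  apply Units.ext
  rw [Matrix.GeneralLinearGroup.val_det_apply, coe_compGL, det_compM]

theorem mem_center_GL2_iff (g : GL (Fin 2) F) :
    g ∈ Subgroup.center (GL (Fin 2) F) ↔
      ((g : Matrix (Fin 2) (Fin 2) F) 0 1 = 0 ∧ (g : Matrix (Fin 2) (Fin 2) F) 1 0 = 0 ∧
        (g : Matrix (Fin 2) (Fin 2) F) 0 0 = (g : Matrix (Fin 2) (Fin 2) F) 1 1) := by
  rw [Matrix.GeneralLinearGroup.center_eq_range_scalar]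
  constructor
  · rintro ⟨u, rfl⟩
    simp [Matrix.GeneralLinearGroup.coe_scalar]
  · rintro ⟨h01, h10, h00⟩
    have hdet : (g : Matrix (Fin 2) (Fin 2) F).det ≠ 0 := by
      have := (Matrix.GeneralLinearGroup.det g).ne_zero
      rwa [Matrix.GeneralLinearGroup.val_det_apply] at this
    have ha : (g : Matrix (Fin 2) (Fin 2) F) 0 0 ≠ 0 := by
      intro h0
      apply hdet
      rw [Matrix.det_fin_two, h01, h0]
      ring
    refine ⟨Units.mk0 _ ha, ?_⟩
    apply Units.ext
    rw [Matrix.GeneralLinearGroup.coe_scalar]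
    ext i j
    fin_cases i <;> fin_cases j <;> simp [h01, h10, h00]

theorem isConj_compGL (g : GL (Fin 2) F) (hg : g ∉ Subgroup.center (GL (Fin 2) F)) :
    IsConj g (compGL (g : Matrix (Fin 2) (Fin 2) F).trace (Matrix.GeneralLinearGroup.det g)) := by
  rw [mem_center_GL2_iff] at hg
  obtain ⟨x, y, hxy⟩ := exists_cyc (g : Matrix (Fin 2) (Fin 2) F) hg
  let P : GL (Fin 2) F := Matrix.GeneralLinearGroup.mkOfDetNeZero _ hxy
  have hrel : g * P = P * compGL (g : Matrix (Fin 2) (Fin 2) F).trace (Matrix.GeneralLinearGroup.det g) := by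
    apply Units.ext
    rw [Units.val_mul, Units.val_mul, coe_compGL, Matrix.GeneralLinearGroup.val_det_apply]
    exact mul_cycP _ x y
  rw [isConj_iff]
  refine ⟨P⁻¹, ?_⟩
  rw [inv_inv, mul_assoc, hrel, ← mul_assoc, inv_mul_cancel, one_mul]

theorem trace_conj_GL (c g : GL (Fin 2) F) :
    ((c * g * c⁻¹ : GL (Fin 2) F) : Matrix (Fin 2) (Fin 2) F).trace =
      (g : Matrix (Fin 2) (Fin 2) F).trace := by
  rw [Units.val_mul, Units.val_mul]
  exact Matrix.trace_units_conj c _

theorem compGL_not_mem_center (t : F) (d : Fˣ) : compGL t d ∉ Subgroup.center (GL (Fin 2) F) := by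
  rw [mem_center_GL2_iff, coe_compGL]
  simp [compM]

theorem trace_compGL (t : F) (d : Fˣ) :
    ((compGL t d : GL (Fin 2) F) : Matrix (Fin 2) (Fin 2) F).trace = t := by
  rw [coe_compGL, trace_compM]

end GLLevel

end Cfsg.Agent.Helper8
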