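import Mathlib
import Cfsg.Agent.Helper8.GL2Basic

set_option autoImplicit false

/-!
Conjugacy classes of `GL₂(F)`: scalars and companion matrices. The class number.
-/

namespace Cfsg.Agent.Helper8.GL2C

open Matrix

variable {F : Type*} [Field F]

/-- the trace, in coordinates. -/
def tr2 (g : GL (Fin 2) F) : F :=
  (g : Matrix (Fin 2) (Fin 2) F) 0 0 + (g : Matrix (Fin 2) (Fin 2) F) 1 1

theorem tr2_eq_trace (g : GL (Fin 2) F) : tr2 g = (g : Matrix (Fin 2) (Fin 2) F).trace := by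
  rw [Matrix.trace_fin_two]
  rfl

theorem tr2_conj (x g : GL (Fin 2) F) : tr2 (x * g * x⁻¹) = tr2 g := by
  rw [tr2_eq_trace, tr2_eq_trace, Units.val_mul, Units.val_mul]
  exact Matrix.trace_units_conj x (g : Matrix (Fin 2) (Fin 2) F)

theorem dt_conj (x g : GL (Fin 2) F) : dt (x * g * x⁻¹) = dt g := by
  rw [dt_mul, dt_mul]
  have h : dt x * dt x⁻¹ = 1 := by rw [← dt_mul, mul_inv_cancel, dt_one]
  linear_combination dt g * h

theorem tr2_eq_of_isConj {g h : GL (Fin 2) F} (hc : IsConj g h) : tr2 g = tr2 h := by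
  obtain ⟨c, rfl⟩ := isConj_iff.mp hc
  rw [tr2_conj]

theorem dt_eq_of_isConj {g h : GL (Fin 2) F} (hc : IsConj g h) : dt g = dt h := by
  obtain ⟨c, rfl⟩ := isConj_iff.mp hc
  rw [dt_conj]

/-- the companion matrix. -/
noncomputable def comp2 (t : F) (n : Fˣ) : GL (Fin 2) F :=
  mk2 0 (-(n : F)) 1 t (by
    rw [zero_mul, mul_one, zero_sub, neg_neg]
    exact Units.ne_zero n)

theorem comp2_00 (t : F) (n : Fˣ) : (comp2 t n : Matrix (Fin 2) (Fin 2) F) 0 0 = 0 := rfl
theorem comp2_01 (t : F) (n : Fˣ) : (comp2 t n : Matrix (Fin 2) (Fin 2) F) 0 1 = -(n : F) := rfl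
theorem comp2_10 (t : F) (n : Fˣ) : (comp2 t n : Matrix (Fin 2) (Fin 2) F) 1 0 = 1 := rfl
theorem comp2_11 (t : F) (n : Fˣ) : (comp2 t n : Matrix (Fin 2) (Fin 2) F) 1 1 = t := rfl

theorem tr2_comp2 (t : F) (n : Fˣ) : tr2 (comp2 t n) = t := by
  unfold tr2
  rw [comp2_00, comp2_11, zero_add]

theorem dt_comp2 (t : F) (n : Fˣ) : dt (comp2 t n) = n := by
  unfold dt
  rw [comp2_00, comp2_11, comp2_01, comp2_10]
  ring

/-- the determinant as a unit. -/
noncomputable def dtU (g : GL (Fin 2) F) : Fˣ := Units.mk0 (dt g) (dt_ne_zero g)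

theorem dtU_coe (g : GL (Fin 2) F) : ((dtU g : Fˣ) : F) = dt g := rfl

/-- an element with a cyclic vector is conjugate to the companion matrix. -/
theorem isConj_comp2_of_cyclic (g : GL (Fin 2) F) (v0 v1 : F)
    (hD : v0 * ((g : Matrix (Fin 2) (Fin 2) F) 1 0 * v0 + (g : Matrix (Fin 2) (Fin 2) F) 1 1 * v1) -
      ((g : Matrix (Fin 2) (Fin 2) F) 0 0 * v0 + (g : Matrix (Fin 2) (Fin 2) F) 0 1 * v1) * v1 ≠ 0) :
    IsConj g (comp2 (tr2 g) (dtU g)) := by
  set x : GL (Fin 2) F := mk2 v0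
    ((g : Matrix (Fin 2) (Fin 2) F) 0 0 * v0 + (g : Matrix (Fin 2) (Fin 2) F) 0 1 * v1) v1
    ((g : Matrix (Fin 2) (Fin 2) F) 1 0 * v0 + (g : Matrix (Fin 2) (Fin 2) F) 1 1 * v1) hD with hx
  have key : g * x = x * comp2 (tr2 g) (dtU g) := by
    apply ext' <;>
      simp only [coe_mul_apply, hx, mk2_00, mk2_01, mk2_10, mk2_11, comp2_00, comp2_01, comp2_10,
        comp2_11, dtU_coe, tr2, dt] <;> ring
  rw [isConj_iff]
  refine ⟨x⁻¹, ?_⟩
  rw [inv_inv, mul_assoc, key, ← mul_assoc, inv_mul_cancel, one_mul]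

/-- scalar elements. -/
def IsScal (g : GL (Fin 2) F) : Prop :=
  (g : Matrix (Fin 2) (Fin 2) F) 0 1 = 0 ∧ (g : Matrix (Fin 2) (Fin 2) F) 1 0 = 0 ∧
    (g : Matrix (Fin 2) (Fin 2) F) 0 0 = (g : Matrix (Fin 2) (Fin 2) F) 1 1

theorem isConj_comp2_of_not_isScal {g : GL (Fin 2) F} (hg : ¬ IsScal g) :
    IsConj g (comp2 (tr2 g) (dtU g)) := by
  by_cases h10 : (g : Matrix (Fin 2) (Fin 2) F) 1 0 = 0
  · by_cases h01 : (g : Matrix (Fin 2) (Fin 2) F) 0 1 = 0
    · have hne : (g : Matrix (Fin 2) (Fin 2) F) 0 0 ≠ (g : Matrix (Fin 2) (Fin 2) F) 1 1 :=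
        fun h => hg ⟨h01, h10, h⟩
      apply isConj_comp2_of_cyclic g 1 1
      rw [h10, h01]
      intro h
      apply hne
      linear_combination -h
    · apply isConj_comp2_of_cyclic g 0 1
      intro h
      apply h01
      linear_combination -h
  · apply isConj_comp2_of_cyclic g 1 0
    intro h
    apply h10
    linear_combination h

/-- the scalar element. -/
noncomputable def scal (z : Fˣ) : GL (Fin 2) F := bmat z z 0

theorem scal_00 (z : Fˣ) : (scal z : Matrix (Fin 2) (Fin 2) F) 0 0 = z := rfl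
theorem scal_01 (z : Fˣ) : (scal z : Matrix (Fin 2) (Fin 2) F) 0 1 = 0 := rfl
theorem scal_10 (z : Fˣ) : (scal z : Matrix (Fin 2) (Fin 2) F) 1 0 = 0 := rfl
theorem scal_11 (z : Fˣ) : (scal z : Matrix (Fin 2) (Fin 2) F) 1 1 = z := rfl

theorem scal_comm (z : Fˣ) (x : GL (Fin 2) F) : x * scal z = scal z * x := by
  apply ext' <;> simp only [coe_mul_apply, scal_00, scal_01, scal_10, scal_11] <;> ring

theorem scal_conj (z : Fˣ) (x : GL (Fin 2) F) : x * scal z * x⁻¹ = scal z := by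
  rw [scal_comm, mul_assoc, mul_inv_cancel, mul_one]

theorem isScal_scal (z : Fˣ) : IsScal (scal z) := ⟨rfl, rfl, rfl⟩

theorem eq_scal_of_isScal {g : GL (Fin 2) F} (hg : IsScal g) :
    g = scal (Units.mk0 _ (diag_ne_zero_of_mem_B (mem_B.mpr hg.2.1)).1) := by
  apply ext'
  · rfl
  · exact hg.1
  · exact hg.2.1
  · exact hg.2.2.symm

theorem not_isScal_comp2 (t : F) (n : Fˣ) : ¬ IsScal (comp2 t n) := by
  intro h
  have := h.2.1
  rw [comp2_10] at this
  exact one_ne_zero this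

/-- the parametrisation of the conjugacy classes. -/
noncomputable def classMap : Fˣ ⊕ (F × Fˣ) → ConjClasses (GL (Fin 2) F)
  | Sum.inl z => ConjClasses.mk (scal z)
  | Sum.inr p => ConjClasses.mk (comp2 p.1 p.2)

theorem classMap_injective : Function.Injective (classMap (F := F)) := by
  rintro (z | ⟨t, n⟩) (z' | ⟨t', n'⟩) h
  · have hc : IsConj (scal z) (scal z') := ConjClasses.mk_eq_mk_iff_isConj.mp h
    obtain ⟨c, hc⟩ := isConj_iff.mp hc
    rw [scal_conj] at hc
    congr 1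
    apply Units.ext
    have := congrArg (fun y : GL (Fin 2) F => (y : Matrix (Fin 2) (Fin 2) F) 0 0) hc
    exact this
  · exfalso
    have hc : IsConj (scal z) (comp2 t' n') := ConjClasses.mk_eq_mk_iff_isConj.mp h
    obtain ⟨c, hc⟩ := isConj_iff.mp hc
    rw [scal_conj] at hc
    apply not_isScal_comp2 t' n'
    rw [← hc]
    exact isScal_scal z
  · exfalso
    have hc : IsConj (comp2 t n) (scal z') := ConjClasses.mk_eq_mk_iff_isConj.mp h
    obtain ⟨c, hc⟩ := isConj_iff.mp hc.symm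
    rw [scal_conj] at hc
    apply not_isScal_comp2 t n
    rw [← hc]
    exact isScal_scal z'
  · have hc : IsConj (comp2 t n) (comp2 t' n') := ConjClasses.mk_eq_mk_iff_isConj.mp h
    have h1 := tr2_eq_of_isConj hc
    have h2 := dt_eq_of_isConj hc
    rw [tr2_comp2, tr2_comp2] at h1
    rw [dt_comp2, dt_comp2] at h2
    rw [h1, Units.ext h2]

theorem classMap_surjective : Function.Surjective (classMap (F := F)) := by
  intro C
  obtain ⟨g, rfl⟩ := ConjClasses.mk_surjective C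
  by_cases hg : IsScal g
  · refine ⟨Sum.inl (Units.mk0 _ (diag_ne_zero_of_mem_B (mem_B.mpr hg.2.1)).1), ?_⟩
    change ConjClasses.mk _ = _
    rw [← eq_scal_of_isScal hg]
  · refine ⟨Sum.inr (tr2 g, dtU g), ?_⟩
    change ConjClasses.mk _ = _
    exact (ConjClasses.mk_eq_mk_iff_isConj.mpr (isConj_comp2_of_not_isScal hg)).symm

/-- the class number of `GL₂(F)`. -/
theorem card_conjClasses [Fintype F] :
    Nat.card (ConjClasses (GL (Fin 2) F)) = Fintype.card F ^ 2 - 1 := by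
  classical
  rw [← Nat.card_congr (Equiv.ofBijective _ ⟨classMap_injective (F := F), classMap_surjective⟩),
    Nat.card_sum, Nat.card_prod, Nat.card_eq_fintype_card, Nat.card_eq_fintype_card,
    Fintype.card_units]
  have h1 : 1 ≤ Fintype.card F := Fintype.card_pos
  obtain ⟨k, hk⟩ : ∃ k, Fintype.card F = k + 1 := ⟨Fintype.card F - 1, by omega⟩
  rw [hk, Nat.add_sub_cancel]
  have : (k + 1) ^ 2 - 1 = k + (k + 1) * k := by
    have : (k + 1) ^ 2 = k + (k + 1) * k + 1 := by ring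
    omega
  rw [this]

end Cfsg.Agent.Helper8.GL2C
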