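import Mathlib
import Cfsg.Agent.Helper8.GL2Inner
import Cfsg.Agent.Helper6.Constituent
import Cfsg.Agent.Helper6.NormTwo

set_option autoImplicit false

/-!
Linear characters `α ∘ det` of `GL₂(F)`, the twisted Steinberg characters, and the constituents
of the principal series.
-/

namespace Cfsg.Agent.Helper8.GL2C

open Matrix Cfsg.Agent.Helper6
open scoped Matrix ComplexConjugate

variable {F : Type*} [Field F]

/-- `α ∘ det` as a homomorphism. -/
noncomputable def detHom (α : MulChar F ℂ) : GL (Fin 2) F →* ℂˣ :=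
  α.toUnitHom.comp Matrix.GeneralLinearGroup.det

/-- the linear character `α ∘ det`. -/
noncomputable def detChar (α : MulChar F ℂ) : GL (Fin 2) F → ℂ :=
  fun g => ((detHom α g : ℂˣ) : ℂ)

theorem detChar_apply (α : MulChar F ℂ) (g : GL (Fin 2) F) : detChar α g = α (dt g) := by
  unfold detChar detHom
  rw [MonoidHom.comp_apply, MulChar.coe_toUnitHom, dt_eq_det]
  rfl

theorem isIrrCharacter_detChar (α : MulChar F ℂ) :
    Cfsg.IsIrrCharacter (GL (Fin 2) F) (detChar α) :=
  isIrrCharacter_of_hom _

theorem detChar_one (α : MulChar F ℂ) : detChar α 1 = 1 := by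
  rw [detChar_apply, dt_one, map_one]

theorem detChar_res (α : MulChar F ℂ) :
    (fun b : Cfsg.upperTriangularGL 2 F => detChar α (b : GL (Fin 2) F)) = thB α α := by
  funext b
  rw [detChar_apply]
  unfold dt thB
  rw [mem_B.mp b.2, mul_zero, sub_zero, map_mul]

theorem norm_mulChar [Fintype F] (α : MulChar F ℂ) {x : F} (hx : x ≠ 0) : ‖α x‖ = 1 := by
  apply Complex.norm_eq_one_of_pow_eq_one (n := Fintype.card F - 1)
  · rw [← map_pow, FiniteField.pow_card_sub_one_eq_one x hx, map_one]
  · have : 2 ≤ Fintype.card F := Fintype.one_lt_card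
    omega

theorem norm_detChar [Fintype F] (α : MulChar F ℂ) (g : GL (Fin 2) F) : ‖detChar α g‖ = 1 := by
  rw [detChar_apply]
  exact norm_mulChar α (dt_ne_zero g)

section fin
variable [Fintype F] [DecidableEq F]

theorem classInner_R2_detChar (α β γ : MulChar F ℂ) [Decidable (α = γ ∧ β = γ)] :
    Cfsg.classInner (R2 α β) (detChar γ) = if α = γ ∧ β = γ then 1 else 0 := by
  classical
  haveI : Fintype (Cfsg.upperTriangularGL 2 F) := Fintype.ofFinite _
  have hfr := frobenius_reciprocity (Cfsg.upperTriangularGL 2 F) (thB α β) (detChar γ)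
    (IsCharacter.isClassFunction (IsIrrCharacter.isCharacter (isIrrCharacter_detChar γ)))
  change Cfsg.classInner (R2 α β) (detChar γ) = _ at hfr
  rw [hfr, detChar_res, classInner_irr_ite (isIrrCharacter_thB α β) (isIrrCharacter_thB γ γ)]
  have hiff : thB α β = thB γ γ ↔ α = γ ∧ β = γ := by
    constructor
    · intro h
      constructor
      · apply MulChar.ext
        intro a
        have := congrFun h ⟨bmat a 1 0, bmat_mem _ _ _⟩
        unfold thB at this
        simp only [bmat_00, bmat_11, Units.val_one, map_one, mul_one] at this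
        exact this
      · apply MulChar.ext
        intro a
        have := congrFun h ⟨bmat 1 a 0, bmat_mem _ _ _⟩
        unfold thB at this
        simp only [bmat_00, bmat_11, Units.val_one, map_one, one_mul] at this
        exact this
    · rintro ⟨rfl, rfl⟩
      rfl
  by_cases hc : α = γ ∧ β = γ
  · rw [if_pos hc, if_pos (hiff.mpr hc)]
  · rw [if_neg hc, if_neg (fun h => hc (hiff.mp h))]

/-- the twisted Steinberg character. -/
noncomputable def StTw (α : MulChar F ℂ) : GL (Fin 2) F → ℂ := R2 α α - detChar α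

theorem StTw_apply (α : MulChar F ℂ) (g : GL (Fin 2) F) : StTw α g = R2 α α g - detChar α g := rfl

theorem R2_self_eq (α : MulChar F ℂ) : R2 α α = detChar α + StTw α := by
  unfold StTw
  ring

theorem isCharacter_StTw (α : MulChar F ℂ) : Cfsg.IsCharacter (GL (Fin 2) F) (StTw α) := by
  classical
  apply sub_isCharacter_of_constituent (isCharacter_R2 α α) (isIrrCharacter_detChar α)
  rw [classInner_R2_detChar, if_pos ⟨rfl, rfl⟩]
  exact one_ne_zero

theorem isIrrCharacter_StTw (α : MulChar F ℂ) : Cfsg.IsIrrCharacter (GL (Fin 2) F) (StTw α) := by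
  classical
  apply isIrrCharacter_of_classInner_self (isCharacter_StTw α)
  have h1 : Cfsg.classInner (R2 α α) (detChar α) = 1 := by
    rw [classInner_R2_detChar, if_pos ⟨rfl, rfl⟩]
  have h2 : Cfsg.classInner (detChar α) (R2 α α) = 1 := by
    rw [classInner_conj_symm, h1, map_one]
  have h3 : Cfsg.classInner (R2 α α) (R2 α α) = 2 := by
    rw [classInner_R2, if_pos ⟨rfl, rfl⟩]
    norm_num
  have h4 : Cfsg.classInner (detChar α) (detChar α) = 1 :=
    classInner_irr_self (isIrrCharacter_detChar α)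
  unfold StTw
  rw [classInner_sub_left, classInner_sub_right, classInner_sub_right, h1, h2, h3, h4]
  norm_num

theorem StTw_one (α : MulChar F ℂ) : StTw α 1 = (Fintype.card F : ℂ) := by
  rw [StTw_apply, R2_one, detChar_one]
  ring

theorem card_ne_one : (Fintype.card F : ℂ) ≠ 1 := by
  have : 2 ≤ Fintype.card F := Fintype.one_lt_card
  have : Fintype.card F ≠ 1 := by omega
  exact_mod_cast this

theorem StTw_diag (α : MulChar F ℂ) {g : GL (Fin 2) F}
    (h01 : (g : Matrix (Fin 2) (Fin 2) F) 0 1 = 0) (h10 : (g : Matrix (Fin 2) (Fin 2) F) 1 0 = 0)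
    (hne : (g : Matrix (Fin 2) (Fin 2) F) 0 0 ≠ (g : Matrix (Fin 2) (Fin 2) F) 1 1) :
    StTw α g = detChar α g := by
  rw [StTw_apply, R2_diag α α h01 h10 hne, detChar_apply]
  unfold dt
  rw [h01, zero_mul, sub_zero, map_mul]
  ring

theorem StTw_ell (α : MulChar F ℂ) {g : GL (Fin 2) F}
    (hg : ∀ (c : F) (v : Fin 2 → F), v ≠ 0 → (g : Matrix (Fin 2) (Fin 2) F).mulVec v ≠ c • v) :
    StTw α g = -detChar α g := by
  rw [StTw_apply, R2_ell α α hg, zero_sub]

theorem StTw_unip (α : MulChar F ℂ) {g : GL (Fin 2) F}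
    (h10 : (g : Matrix (Fin 2) (Fin 2) F) 1 0 = 0)
    (heq : (g : Matrix (Fin 2) (Fin 2) F) 0 0 = (g : Matrix (Fin 2) (Fin 2) F) 1 1)
    (h01 : (g : Matrix (Fin 2) (Fin 2) F) 0 1 ≠ 0) :
    StTw α g = 0 := by
  rw [StTw_apply, R2_unip α α h10 heq h01, detChar_apply]
  unfold dt
  rw [h10, mul_zero, sub_zero, map_mul, ← heq]
  ring

/-- the constituents of the principal series. -/
theorem irr_cases {χ : GL (Fin 2) F → ℂ} (hχ : Cfsg.IsIrrCharacter (GL (Fin 2) F) χ) :
    (∃ α : MulChar F ℂ, χ = detChar α) ∨ (∃ α : MulChar F ℂ, χ = StTw α) ∨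
      (∃ α β : MulChar F ℂ, α ≠ β ∧ χ = R2 α β) ∨
      (∀ α β : MulChar F ℂ, Cfsg.classInner (R2 α β) χ = 0) := by
  classical
  by_cases h : ∀ α β : MulChar F ℂ, Cfsg.classInner (R2 α β) χ = 0
  · exact Or.inr (Or.inr (Or.inr h))
  · push Not at h
    obtain ⟨α, β, hαβ⟩ := h
    by_cases hab : α = β
    · subst hab
      rw [R2_self_eq, classInner_add_left] at hαβ
      by_cases h1 : Cfsg.classInner (detChar α) χ = 0
      · rw [h1, zero_add] at hαβ
        right; left
        refine ⟨α, ?_⟩
        by_contra hne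
        exact hαβ (classInner_irr_ne (isIrrCharacter_StTw α) hχ (fun h' => hne h'.symm))
      · left
        refine ⟨α, ?_⟩
        by_contra hne
        exact h1 (classInner_irr_ne (isIrrCharacter_detChar α) hχ (fun h' => hne h'.symm))
    · right; right; left
      refine ⟨α, β, hab, ?_⟩
      by_contra hne
      exact hαβ (classInner_irr_ne (isIrrCharacter_R2 α β hab) hχ (fun h' => hne h'.symm))

end fin

end Cfsg.Agent.Helper8.GL2C
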