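import Mathlib
import Cfsg.Agent.Helper8.GL2Lin
import Cfsg.Agent.Helper8.SL2Steinberg

set_option autoImplicit false

/-!
Fourier inversion for the multiplicities of an irreducible character in the principal series of
`GL₂(F)`; irreducible characters of degree `q`.
-/

namespace Cfsg.Agent.Helper8.GL2C

open Matrix Cfsg.Agent.Helper6
open scoped Matrix ComplexConjugate

variable {F : Type*} [Field F] [Fintype F] [DecidableEq F]

theorem inv1 [Fintype (MulChar F ℂ)] (f : Fˣ → ℂ) (a₀ : Fˣ) :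
    ∑ α : MulChar F ℂ, α⁻¹ (a₀ : F) * ∑ a : Fˣ, α (a : F) * f a =
      ((Fintype.card F - 1 : ℕ) : ℂ) * f a₀ := by
  classical
  simp_rw [Finset.mul_sum]
  rw [Finset.sum_comm]
  have h : ∀ (a : Fˣ) (α : MulChar F ℂ), α⁻¹ (a₀ : F) * (α (a : F) * f a) =
      α ((a₀⁻¹ * a : Fˣ) : F) * f a := by
    intro a α
    rw [MulChar.inv_apply', Units.val_mul, map_mul, Units.val_inv_eq_inv_val]
    ring
  simp_rw [h, ← Finset.sum_mul, SL2C.sum_mulChar_units]
  rw [Finset.sum_eq_single a₀]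
  · rw [if_pos (inv_mul_cancel a₀)]
  · intro a _ ha
    rw [if_neg, zero_mul]
    intro h'
    apply ha
    exact (inv_mul_eq_one.mp h').symm
  · intro h
    exact absurd (Finset.mem_univ _) h

theorem classInner_R2_eq_sum (α β : MulChar F ℂ) (χ : GL (Fin 2) F → ℂ)
    (hχ : Cfsg.IsClassFunction (GL (Fin 2) F) χ) :
    Cfsg.classInner (R2 α β) χ = (Nat.card (Cfsg.upperTriangularGL 2 F) : ℂ)⁻¹ *
      ∑ a : Fˣ, α (a : F) * ∑ d : Fˣ, β (d : F) * ∑ c : F, conj (χ (bmat a d c)) := by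
  classical
  haveI : Fintype (Cfsg.upperTriangularGL 2 F) := Fintype.ofFinite _
  have hfr := frobenius_reciprocity (Cfsg.upperTriangularGL 2 F) (thB α β) χ hχ
  change Cfsg.classInner (R2 α β) χ = _ at hfr
  rw [hfr]
  unfold Cfsg.classInner
  congr 1
  have hsum : ∑ g : Cfsg.upperTriangularGL 2 F, thB α β g * conj (χ (g : GL (Fin 2) F)) =
      ∑ p : Fˣ × Fˣ × F, α (p.1 : F) * β (p.2.1 : F) * conj (χ (bmat p.1 p.2.1 p.2.2)) := by
    symm
    apply Fintype.sum_equiv (eB (F := F))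
    intro p
    rfl
  rw [hsum, Fintype.sum_prod_type]
  apply Finset.sum_congr rfl
  intro a _
  rw [Fintype.sum_prod_type, Finset.mul_sum]
  apply Finset.sum_congr rfl
  intro d _
  rw [Finset.mul_sum, Finset.mul_sum]
  apply Finset.sum_congr rfl
  intro c _
  ring

/-- Fourier inversion. -/
theorem fourier_R2 [Fintype (MulChar F ℂ)] (χ : GL (Fin 2) F → ℂ)
    (hχ : Cfsg.IsClassFunction (GL (Fin 2) F) χ) (a₀ d₀ : Fˣ) :
    ∑ α : MulChar F ℂ, ∑ β : MulChar F ℂ,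
        α⁻¹ (a₀ : F) * β⁻¹ (d₀ : F) * Cfsg.classInner (R2 α β) χ =
      (Fintype.card F : ℂ)⁻¹ * ∑ c : F, conj (χ (bmat a₀ d₀ c)) := by
  classical
  set T : Fˣ → Fˣ → ℂ := fun a d => ∑ c : F, conj (χ (bmat a d c)) with hT
  set K : ℂ := (Nat.card (Cfsg.upperTriangularGL 2 F) : ℂ)⁻¹ with hK
  have h1 : ∀ α : MulChar F ℂ, ∑ β : MulChar F ℂ,
      α⁻¹ (a₀ : F) * β⁻¹ (d₀ : F) * Cfsg.classInner (R2 α β) χ =
      K * ((Fintype.card F - 1 : ℕ) : ℂ) * (α⁻¹ (a₀ : F) * ∑ a : Fˣ, α (a : F) * T a d₀) := by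
    intro α
    have h2 : ∀ β : MulChar F ℂ, α⁻¹ (a₀ : F) * β⁻¹ (d₀ : F) * Cfsg.classInner (R2 α β) χ =
        ∑ a : Fˣ, (K * α⁻¹ (a₀ : F) * α (a : F)) * (β⁻¹ (d₀ : F) * ∑ d : Fˣ, β (d : F) * T a d) := by
      intro β
      rw [classInner_R2_eq_sum α β χ hχ, Finset.mul_sum, Finset.mul_sum]
      apply Finset.sum_congr rfl
      intro a _
      ring
    simp_rw [h2]
    rw [Finset.sum_comm]
    simp_rw [← Finset.mul_sum, inv1]
    rw [Finset.mul_sum, Finset.mul_sum]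
    apply Finset.sum_congr rfl
    intro a _
    ring
  simp_rw [h1]
  rw [← Finset.mul_sum, inv1]
  have hq : ((Fintype.card F : ℕ) : ℂ) ≠ 0 := by
    have : Fintype.card F ≠ 0 := Fintype.card_ne_zero
    exact_mod_cast this
  have hq1 : ((Fintype.card F - 1 : ℕ) : ℂ) ≠ 0 := by
    have h1 : 2 ≤ Fintype.card F := Fintype.one_lt_card
    have : Fintype.card F - 1 ≠ 0 := by omega
    exact_mod_cast this
  rw [hK, card_B, Nat.cast_mul, Nat.cast_mul]
  change _ = _ * T a₀ d₀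
  field_simp

end Cfsg.Agent.Helper8.GL2C
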