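import Mathlib
import Cfsg.Agent.Helper8.GL2Fourier

set_option autoImplicit false

/-!
Irreducible characters of degree `q` of `GL₂(F)` are twisted Steinberg characters.
-/

namespace Cfsg.Agent.Helper8.GL2C

open Matrix Cfsg.Agent.Helper6
open scoped Matrix ComplexConjugate

variable {F : Type*} [Field F]

theorem uu_mul (s t : F) : uu s * uu t = uu (s + t) := by
  apply ext' <;> simp only [coe_mul_apply, uu_00, uu_01, uu_10, uu_11] <;> ring

theorem uu_zero : uu (0 : F) = 1 := by
  apply ext' <;> simp only [uu_00, uu_01, uu_10, uu_11, one_00, one_01, one_10, one_11]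

theorem uu_pow (t : F) (n : ℕ) : uu t ^ n = uu (n * t) := by
  induction n with
  | zero => rw [pow_zero, Nat.cast_zero, zero_mul, uu_zero]
  | succ k ih =>
    rw [pow_succ, ih, uu_mul]
    congr 1
    push_cast
    ring

theorem uu_ne_one {t : F} (ht : t ≠ 0) : uu t ≠ 1 := by
  intro h
  have := congrArg (fun y : GL (Fin 2) F => (y : Matrix (Fin 2) (Fin 2) F) 0 1) h
  simp only [uu_01, one_01] at this
  exact ht this

theorem orderOf_uu (p : ℕ) [Fact p.Prime] [CharP F p] {t : F} (ht : t ≠ 0) :
    orderOf (uu t) = p := by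
  apply orderOf_eq_prime
  · rw [uu_pow, CharP.cast_eq_zero, zero_mul, uu_zero]
  · exact uu_ne_one ht

theorem bmat_one_one (c : F) : bmat 1 1 c = uu c := by
  apply ext' <;> simp only [bmat_00, bmat_01, bmat_10, bmat_11, uu_00, uu_01, uu_10, uu_11,
    Units.val_one]

section fin
variable [Fintype F] [DecidableEq F]

theorem factorization_card_GL2 (p : ℕ) [Fact p.Prime] {k : ℕ} (hk : Fintype.card F = p ^ k)
    (hk1 : 1 ≤ k) : (Nat.card (GL (Fin 2) F)).factorization p = k := by
  have hp : p.Prime := Fact.out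
  have hq2 : 2 ≤ Fintype.card F := Fintype.one_lt_card
  have hpq : p ∣ Fintype.card F := by
    rw [hk]; exact dvd_pow_self p (by omega)
  have hnd2 : ¬ p ∣ (Fintype.card F ^ 2 - 1) := by
    intro h
    have hpq2 : p ∣ Fintype.card F ^ 2 := dvd_pow hpq (by norm_num)
    have h1 : 1 ≤ Fintype.card F ^ 2 := Nat.one_le_pow _ _ (by omega)
    have : p ∣ Fintype.card F ^ 2 - (Fintype.card F ^ 2 - 1) := Nat.dvd_sub hpq2 h
    have e : Fintype.card F ^ 2 - (Fintype.card F ^ 2 - 1) = 1 := by omega
    rw [e] at this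
    exact hp.one_lt.ne' (Nat.dvd_one.mp this)
  have hnd1 : ¬ p ∣ (Fintype.card F - 1) := by
    intro h
    have : p ∣ Fintype.card F - (Fintype.card F - 1) := Nat.dvd_sub hpq h
    have e : Fintype.card F - (Fintype.card F - 1) = 1 := by omega
    rw [e] at this
    exact hp.one_lt.ne' (Nat.dvd_one.mp this)
  have hm0 : Fintype.card F ^ 2 - 1 ≠ 0 := by
    intro h0
    apply hnd2
    rw [h0]; exact dvd_zero p
  have hm1 : Fintype.card F - 1 ≠ 0 := by omega
  have e : Fintype.card F ^ 2 - Fintype.card F = Fintype.card F * (Fintype.card F - 1) := by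
    rw [Nat.mul_sub, mul_one, pow_two]
  rw [card_GL2, e, Nat.factorization_mul hm0 (Nat.mul_ne_zero (by omega) hm1), Finsupp.add_apply,
    Nat.factorization_eq_zero_of_not_dvd hnd2, zero_add,
    Nat.factorization_mul (by omega) hm1, Finsupp.add_apply,
    Nat.factorization_eq_zero_of_not_dvd hnd1, add_zero, hk, Nat.Prime.factorization_pow hp,
    Finsupp.single_eq_same]

/-- an irreducible character of degree `q` vanishes at the nontrivial unipotent elements. -/
theorem vanish_uu_of_degree {χ : GL (Fin 2) F → ℂ}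
    (hχ : Cfsg.IsIrrCharacter (GL (Fin 2) F) χ) (hdeg : χ 1 = (Fintype.card F : ℂ)) {c : F}
    (hc : c ≠ 0) : χ (uu c) = 0 := by
  set p := ringChar F with hp
  haveI : CharP F p := ringChar.charP F
  obtain ⟨n, hpp, hcard⟩ := FiniteField.card F p
  haveI : Fact p.Prime := ⟨hpp⟩
  have hdvd : p ^ (Nat.card (GL (Fin 2) F)).factorization p ∣
      Cfsg.charDegree (χ : GL (Fin 2) F → ℂ) := by
    rw [factorization_card_GL2 p hcard n.pos]
    unfold Cfsg.charDegree
    rw [hdeg, Complex.natCast_re, Nat.floor_natCast, hcard]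
  exact irr_vanish_of_factorization (⟨χ, hχ⟩ : Cfsg.IrrCharacter _) hpp hdvd (uu c)
    (by rw [orderOf_uu p hc])

/-- an irreducible character of degree `q` is a twisted Steinberg character. -/
theorem eq_StTw_of_degree {χ : GL (Fin 2) F → ℂ}
    (hχ : Cfsg.IsIrrCharacter (GL (Fin 2) F) χ) (hdeg : χ 1 = (Fintype.card F : ℂ)) :
    ∃ α : MulChar F ℂ, χ = StTw α := by
  classical
  haveI : Fintype (MulChar F ℂ) := Fintype.ofFinite _
  rcases irr_cases hχ with ⟨α, h⟩ | h | ⟨α, β, _, h⟩ | h
  · exfalso
    rw [h, detChar_one] at hdeg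
    exact card_ne_one (F := F) hdeg.symm
  · exact h
  · exfalso
    rw [h, R2_one] at hdeg
    have : (1 : ℂ) = 0 := by linear_combination hdeg
    exact one_ne_zero this
  · exfalso
    have hf := fourier_R2 χ (IsCharacter.isClassFunction (IsIrrCharacter.isCharacter hχ)) 1 1
    simp_rw [h, mul_zero, Finset.sum_const_zero, bmat_one_one] at hf
    rw [Finset.sum_eq_single (0 : F)] at hf
    · rw [uu_zero, hdeg, Complex.conj_natCast] at hf
      have hq : ((Fintype.card F : ℕ) : ℂ) ≠ 0 := by
        have : Fintype.card F ≠ 0 := Fintype.card_ne_zero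
        exact_mod_cast this
      rw [inv_mul_cancel₀ hq] at hf
      exact zero_ne_one hf
    · intro c _ hc
      rw [vanish_uu_of_degree hχ hdeg hc, map_zero]
    · intro h'
      exact absurd (Finset.mem_univ _) h'

end fin

end Cfsg.Agent.Helper8.GL2C
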