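import Mathlib
import Cfsg.Agent.Helper8.GL2DegQ
import Cfsg.Agent.Helper6.IrrDegree
import Cfsg.Agent.Helper6.CycloVanish
import Cfsg.Agent.Helper6.InvolutionInvert

set_option autoImplicit false

/-!
Cuspidal characters of `GL₂(F)`: values on the Borel subgroup, the degree.
-/

namespace Cfsg.Agent.Helper8.GL2C

open Matrix Cfsg.Agent.Helper6
open scoped Matrix ComplexConjugate

variable {F : Type*} [Field F]

theorem bmat_conj_unip (a c : Fˣ) :
    bmat c 1 0 * bmat a a 1 * (bmat c 1 0)⁻¹ = bmat a a (c : F) := by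
  rw [mul_inv_eq_iff_eq_mul]
  apply ext' <;>
    simp only [coe_mul_apply, bmat_00, bmat_01, bmat_10, bmat_11, Units.val_one] <;> ring

variable [Fintype F] [DecidableEq F]

/-- cuspidal: orthogonal to the principal series. -/
def IsCusp (χ : GL (Fin 2) F → ℂ) : Prop :=
  ∀ α β : MulChar F ℂ, Cfsg.classInner (R2 α β) χ = 0

theorem sum_bmat_of_isCusp {χ : GL (Fin 2) F → ℂ} (hχ : Cfsg.IsClassFunction (GL (Fin 2) F) χ)
    (hc : IsCusp χ) (a d : Fˣ) : ∑ c : F, χ (bmat a d c) = 0 := by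
  classical
  haveI : Fintype (MulChar F ℂ) := Fintype.ofFinite _
  have hf := fourier_R2 χ hχ a d
  simp_rw [hc _ _, mul_zero, Finset.sum_const_zero] at hf
  have hq : ((Fintype.card F : ℕ) : ℂ) ≠ 0 := by
    have : Fintype.card F ≠ 0 := Fintype.card_ne_zero
    exact_mod_cast this
  have h2 : ∑ c : F, conj (χ (bmat a d c)) = 0 := by
    rcases mul_eq_zero.mp hf.symm with h | h
    · exact absurd (inv_eq_zero.mp h) hq
    · exact h
  rw [← map_sum] at h2
  exact (map_eq_zero _).mp h2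

theorem apply_bmat_ne {χ : GL (Fin 2) F → ℂ} (hχ : Cfsg.IsClassFunction (GL (Fin 2) F) χ)
    (a d : Fˣ) (c : F) (h : (a : F) ≠ d) : χ (bmat a d c) = χ (bmat a d 0) := by
  have hcf := hχ (bmat a d 0) (uu (c / ((d : F) - a)))
  have hne : (d : F) - a ≠ 0 := sub_ne_zero.mpr (Ne.symm h)
  rw [uu_conj, div_mul_cancel₀ _ hne] at hcf
  exact hcf

theorem apply_bmat_eq {χ : GL (Fin 2) F → ℂ} (hχ : Cfsg.IsClassFunction (GL (Fin 2) F) χ)
    (a : Fˣ) {c : F} (hc : c ≠ 0) : χ (bmat a a c) = χ (bmat a a 1) := by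
  have hcf := hχ (bmat a a 1) (bmat (Units.mk0 c hc) 1 0)
  rw [bmat_conj_unip] at hcf
  exact hcf

/-- a cuspidal class function vanishes at the split regular elements. -/
theorem isCusp_diag {χ : GL (Fin 2) F → ℂ} (hχ : Cfsg.IsClassFunction (GL (Fin 2) F) χ)
    (hc : IsCusp χ) {g : GL (Fin 2) F}
    (h01 : (g : Matrix (Fin 2) (Fin 2) F) 0 1 = 0) (h10 : (g : Matrix (Fin 2) (Fin 2) F) 1 0 = 0)
    (hne : (g : Matrix (Fin 2) (Fin 2) F) 0 0 ≠ (g : Matrix (Fin 2) (Fin 2) F) 1 1) :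
    χ g = 0 := by
  obtain ⟨h0, h1⟩ := diag_ne_zero_of_mem_B (mem_B.mpr h10)
  have hg : g = bmat (Units.mk0 _ h0) (Units.mk0 _ h1) 0 := by
    apply ext'
    · rfl
    · exact h01
    · exact h10
    · rfl
  have hs := sum_bmat_of_isCusp hχ hc (Units.mk0 _ h0) (Units.mk0 _ h1)
  simp_rw [apply_bmat_ne hχ (Units.mk0 _ h0) (Units.mk0 _ h1) _ hne] at hs
  rw [Finset.sum_const, Finset.card_univ, nsmul_eq_mul] at hs
  have hq : ((Fintype.card F : ℕ) : ℂ) ≠ 0 := by
    have : Fintype.card F ≠ 0 := Fintype.card_ne_zero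
    exact_mod_cast this
  rcases mul_eq_zero.mp hs with h | h
  · exact absurd h hq
  · rw [hg]
    exact h

/-- the value of a cuspidal class function at the non-semisimple elements. -/
theorem isCusp_unip {χ : GL (Fin 2) F → ℂ} (hχ : Cfsg.IsClassFunction (GL (Fin 2) F) χ)
    (hc : IsCusp χ) (a : Fˣ) :
    χ (bmat a a 0) + ((Fintype.card F : ℂ) - 1) * χ (bmat a a 1) = 0 := by
  have hs := sum_bmat_of_isCusp hχ hc a a
  rw [← Finset.add_sum_erase _ _ (Finset.mem_univ (0 : F))] at hs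
  have h2 : ∑ c ∈ Finset.univ.erase (0 : F), χ (bmat a a c) =
      ∑ _c ∈ Finset.univ.erase (0 : F), χ (bmat a a 1) := by
    apply Finset.sum_congr rfl
    intro c hc'
    exact apply_bmat_eq hχ a (Finset.ne_of_mem_erase hc')
  rw [h2, Finset.sum_const, Finset.card_erase_of_mem (Finset.mem_univ _), Finset.card_univ,
    nsmul_eq_mul, Nat.cast_sub Fintype.card_pos, Nat.cast_one] at hs
  exact hs

/-- the degree of a cuspidal irreducible character. -/
theorem isCusp_degree {χ : GL (Fin 2) F → ℂ} (hχ : Cfsg.IsIrrCharacter (GL (Fin 2) F) χ)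
    (hc : IsCusp χ) :
    ∃ m : ℕ, 1 ≤ m ∧ χ 1 = (m : ℂ) * ((Fintype.card F : ℂ) - 1) ∧ χ (uu 1) = -(m : ℂ) := by
  have hcf := IsCharacter.isClassFunction (IsIrrCharacter.isCharacter hχ)
  obtain ⟨n, hn, h1⟩ := IsIrrCharacter.apply_one_pos hχ
  have hu := isCusp_unip hcf hc 1
  rw [bmat_one_one, bmat_one_one, uu_zero, h1] at hu
  have hq2 : 2 ≤ Fintype.card F := Fintype.one_lt_card
  have hq1 : Fintype.card F - 1 ≠ 0 := by omega
  have hq1C : ((Fintype.card F : ℂ) - 1) ≠ 0 := by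
    have : ((Fintype.card F - 1 : ℕ) : ℂ) ≠ 0 := by exact_mod_cast hq1
    rwa [Nat.cast_sub Fintype.card_pos, Nat.cast_one] at this
  have hdvd := int_dvd_of_isIntegral (-(n : ℤ)) (Fintype.card F - 1) hq1 (χ (uu 1))
    (IsIrrCharacter.isIntegral_apply hχ _) (by
      rw [Nat.cast_sub Fintype.card_pos, Nat.cast_one]
      push_cast
      linear_combination -hu)
  rw [dvd_neg, Int.natCast_dvd_natCast] at hdvd
  obtain ⟨m, hm⟩ := hdvd
  refine ⟨m, ?_, ?_, ?_⟩
  · rcases Nat.eq_zero_or_pos m with h0 | h0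
    · rw [h0, mul_zero] at hm
      omega
    · exact h0
  · rw [h1, hm, Nat.cast_mul, Nat.cast_sub Fintype.card_pos, Nat.cast_one]
    ring
  · rw [hm, Nat.cast_mul, Nat.cast_sub Fintype.card_pos, Nat.cast_one] at hu
    apply mul_left_cancel₀ hq1C
    linear_combination hu

end Cfsg.Agent.Helper8.GL2C
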