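import Mathlib
import Cfsg.Agent.Helper8.GL2Cusp
import Cfsg.Agent.Helper8.GL2Classes
import Cfsg.Agent.Helper6.IrrCount

set_option autoImplicit false

/-!
Counting the irreducible characters of `GL₂(F)`: the cuspidal characters have degree `q - 1`.
-/

namespace Cfsg.Agent.Helper8.GL2C

open Matrix Cfsg.Agent.Helper6
open scoped Matrix ComplexConjugate

/-- counting the image of a map whose fibres are the orbits of a fixed-point-free involution. -/
theorem card_eq_two_mul_card_image_of_invol {X β : Type*} [DecidableEq X] [DecidableEq β]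
    (A : Finset X) (σ : X → X) (f : X → β) (hinv : ∀ a ∈ A, σ a ∈ A) (hne : ∀ a ∈ A, a ≠ σ a)
    (hf : ∀ a ∈ A, ∀ b ∈ A, f a = f b ↔ (b = a ∨ b = σ a)) :
    A.card = 2 * (A.image f).card := by
  rw [Finset.card_eq_sum_card_image f A]
  have h2 : ∀ b ∈ A.image f, (A.filter (fun a => f a = b)).card = 2 := by
    intro b hb
    obtain ⟨a, ha, rfl⟩ := Finset.mem_image.mp hb
    have hfil : A.filter (fun x => f x = f a) = {a, σ a} := by
      ext x
      simp only [Finset.mem_filter, Finset.mem_insert, Finset.mem_singleton]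
      constructor
      · rintro ⟨hx, hfx⟩
        exact (hf a ha x hx).mp hfx.symm
      · rintro (rfl | rfl)
        · exact ⟨ha, rfl⟩
        · exact ⟨hinv a ha, ((hf a ha _ (hinv a ha)).mpr (Or.inr rfl)).symm⟩
    rw [hfil, Finset.card_pair (hne a ha)]
  rw [Finset.sum_congr rfl h2, Finset.sum_const, smul_eq_mul, mul_comm]

variable {F : Type*} [Field F] [Fintype F] [DecidableEq F]

/-- the irreducible characters of `GL₂(F)`. -/
abbrev Irr2 (F : Type*) [Field F] := Cfsg.IrrCharacter (GL (Fin 2) F)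

noncomputable def fL (α : MulChar F ℂ) : Irr2 F := ⟨detChar α, isIrrCharacter_detChar α⟩

noncomputable def fS (α : MulChar F ℂ) : Irr2 F := ⟨StTw α, isIrrCharacter_StTw α⟩

noncomputable def fP (p : {p : MulChar F ℂ × MulChar F ℂ // p.1 ≠ p.2}) : Irr2 F :=
  ⟨R2 p.1.1 p.1.2, isIrrCharacter_R2 _ _ p.2⟩

theorem detChar_bmat (α : MulChar F ℂ) (a d : Fˣ) (c : F) :
    detChar α (bmat a d c) = α (a : F) * α (d : F) := by
  rw [detChar_apply]
  unfold dt
  rw [bmat_00, bmat_01, bmat_10, bmat_11, mul_zero, sub_zero, map_mul]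

theorem fL_injective : Function.Injective (fL (F := F)) := by
  intro α α' h
  have h' : detChar α = detChar α' := congrArg Subtype.val h
  apply MulChar.ext
  intro a
  have := congrFun h' (bmat a 1 0)
  rw [detChar_bmat, detChar_bmat, Units.val_one, map_one, map_one, mul_one, mul_one] at this
  exact this

theorem fS_injective : Function.Injective (fS (F := F)) := by
  intro α α' h
  have h' : StTw α = StTw α' := congrArg Subtype.val h
  apply MulChar.ext
  intro a
  by_cases ha : (a : F) = 1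
  · rw [ha, map_one, map_one]
  · have := congrFun h' (bmat a 1 0)
    rw [StTw_diag α (bmat_01 _ _ _) (bmat_10 _ _ _) (by rw [bmat_00, bmat_11, Units.val_one]; exact ha),
      StTw_diag α' (bmat_01 _ _ _) (bmat_10 _ _ _)
        (by rw [bmat_00, bmat_11, Units.val_one]; exact ha),
      detChar_bmat, detChar_bmat, Units.val_one, map_one, map_one, mul_one, mul_one] at this
    exact this

theorem not_isCusp_detChar (α : MulChar F ℂ) : ¬ IsCusp (detChar α) := by
  classical
  intro h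
  have := h α α
  rw [classInner_R2_detChar, if_pos ⟨rfl, rfl⟩] at this
  exact one_ne_zero this

theorem detChar_ne_StTw (α β : MulChar F ℂ) : detChar α ≠ StTw β := by
  intro h
  have := congrFun h 1
  rw [detChar_one, StTw_one] at this
  exact card_ne_one (F := F) this.symm

theorem not_isCusp_StTw (α : MulChar F ℂ) : ¬ IsCusp (StTw α) := by
  classical
  intro h
  have := h α α
  rw [R2_self_eq, classInner_add_left,
    classInner_irr_ne (isIrrCharacter_detChar α) (isIrrCharacter_StTw α) (detChar_ne_StTw α α),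
    classInner_irr_self (isIrrCharacter_StTw α), zero_add] at this
  exact one_ne_zero this

theorem not_isCusp_R2 (α β : MulChar F ℂ) : ¬ IsCusp (R2 α β) := by
  classical
  intro h
  have := h α β
  rw [classInner_R2, if_pos ⟨rfl, rfl⟩] at this
  by_cases hab : α = β ∧ β = α
  · rw [if_pos hab] at this
    norm_num at this
  · rw [if_neg hab] at this
    norm_num at this

theorem fP_eq_iff (p p' : {p : MulChar F ℂ × MulChar F ℂ // p.1 ≠ p.2}) :
    fP p = fP p' ↔ (p' = p ∨ p' = ⟨(p.1.2, p.1.1), fun h => p.2 h.symm⟩) := by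
  have h1 : fP p = fP p' ↔ R2 p.1.1 p.1.2 = R2 p'.1.1 p'.1.2 := by
    constructor
    · intro h
      exact congrArg Subtype.val h
    · intro h
      exact Subtype.ext h
  rw [h1, R2_eq_iff]
  obtain ⟨⟨α, β⟩, hp⟩ := p
  obtain ⟨⟨α', β'⟩, hp'⟩ := p'
  simp only [Subtype.mk.injEq, Prod.mk.injEq]
  constructor
  · rintro (⟨h1, h2⟩ | ⟨h1, h2⟩)
    · exact Or.inl ⟨h1.symm, h2.symm⟩
    · exact Or.inr ⟨h2.symm, h1.symm⟩
  · rintro (⟨h1, h2⟩ | ⟨h1, h2⟩)
    · exact Or.inl ⟨h1.symm, h2.symm⟩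
    · exact Or.inr ⟨h2.symm, h1.symm⟩

/-- the degree as a natural number. -/
noncomputable def dg (χ : Irr2 F) : ℕ := Classical.choose (IsIrrCharacter.apply_one_pos χ.2)

theorem dg_pos (χ : Irr2 F) : 0 < dg χ := (Classical.choose_spec (IsIrrCharacter.apply_one_pos χ.2)).1

theorem dg_spec (χ : Irr2 F) : (χ : GL (Fin 2) F → ℂ) 1 = dg χ :=
  (Classical.choose_spec (IsIrrCharacter.apply_one_pos χ.2)).2

theorem dg_eq {χ : Irr2 F} {n : ℕ} (h : (χ : GL (Fin 2) F → ℂ) 1 = n) : dg χ = n := by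
  rw [dg_spec] at h
  exact_mod_cast h

theorem sum_dg_sq [Fintype (Irr2 F)] :
    ∑ χ : Irr2 F, dg χ ^ 2 = Nat.card (GL (Fin 2) F) := by
  have h := sum_sq_degrees (G := GL (Fin 2) F)
  simp_rw [dg_spec] at h
  exact_mod_cast h

theorem card_Irr2 [Fintype (Irr2 F)] : Fintype.card (Irr2 F) = Fintype.card F ^ 2 - 1 := by
  rw [← Nat.card_eq_fintype_card, card_irr_eq_card_conjClasses, card_conjClasses]

theorem card_offDiag_subtype {M : Type*} [Fintype M] [DecidableEq M] :
    Fintype.card {p : M × M // p.1 ≠ p.2} = Fintype.card M * Fintype.card M - Fintype.card M := by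
  rw [Fintype.card_subtype, ← Finset.card_univ (α := M), ← Finset.offDiag_card]
  congr 1
  ext p
  simp [Finset.mem_offDiag]

theorem count_main [Fintype (MulChar F ℂ)] [Fintype (Irr2 F)] [DecidableEq (Irr2 F)]
    [DecidablePred fun χ : Irr2 F => IsCusp (χ : GL (Fin 2) F → ℂ)] :
    (Finset.univ.image (fL (F := F))).card = Fintype.card F - 1 ∧
    (Finset.univ.image (fS (F := F))).card = Fintype.card F - 1 ∧
    2 * (Finset.univ.image (fP (F := F))).card = (Fintype.card F - 1) * (Fintype.card F - 2) ∧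
    2 * (Finset.univ.filter (fun χ : Irr2 F => IsCusp (χ : GL (Fin 2) F → ℂ))).card =
      Fintype.card F * (Fintype.card F - 1) ∧
    ∀ χ : Irr2 F, IsCusp (χ : GL (Fin 2) F → ℂ) → dg χ = Fintype.card F - 1 := by
  classical
  have hq2 : 2 ≤ Fintype.card F := Fintype.one_lt_card
  obtain ⟨j, hj⟩ : ∃ j, Fintype.card F = j + 2 := ⟨Fintype.card F - 2, by omega⟩
  set L : Finset (Irr2 F) := Finset.univ.image fL with hL
  set S : Finset (Irr2 F) := Finset.univ.image fS with hS
  set P : Finset (Irr2 F) := Finset.univ.image fP with hP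
  set C : Finset (Irr2 F) := Finset.univ.filter (fun χ => IsCusp (χ : GL (Fin 2) F → ℂ)) with hC
  have hM : Fintype.card (MulChar F ℂ) = j + 1 := by
    rw [SL2C.card_mulChar, hj]
    omega
  -- cardinalities
  have cL : L.card = j + 1 := by
    rw [hL, Finset.card_image_of_injective _ fL_injective, Finset.card_univ, hM]
  have cS : S.card = j + 1 := by
    rw [hS, Finset.card_image_of_injective _ fS_injective, Finset.card_univ, hM]
  have cP : 2 * P.card = (j + 1) * j := by
    have h := card_eq_two_mul_card_image_of_invol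
      (Finset.univ : Finset {p : MulChar F ℂ × MulChar F ℂ // p.1 ≠ p.2})
      (fun p => ⟨(p.1.2, p.1.1), fun h => p.2 h.symm⟩) fP (fun _ _ => Finset.mem_univ _)
      (fun p _ h => by
        have h1 := congrArg (fun x => x.1.1) h
        exact p.2 h1)
      (fun p _ p' _ => fP_eq_iff p p')
    rw [← h, Finset.card_univ, card_offDiag_subtype, hM]
    have : (j + 1) * (j + 1) = (j + 1) * j + (j + 1) := by ring
    omega
  -- degrees
  have dL : ∀ χ ∈ L, dg χ = 1 := by
    intro χ hχ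
    obtain ⟨α, -, rfl⟩ := Finset.mem_image.mp hχ
    apply dg_eq
    rw [Nat.cast_one]
    exact detChar_one α
  have dS : ∀ χ ∈ S, dg χ = j + 2 := by
    intro χ hχ
    obtain ⟨α, -, rfl⟩ := Finset.mem_image.mp hχ
    apply dg_eq
    rw [← hj]
    exact StTw_one α
  have dP : ∀ χ ∈ P, dg χ = j + 3 := by
    intro χ hχ
    obtain ⟨p, -, rfl⟩ := Finset.mem_image.mp hχ
    apply dg_eq
    have : (fP p : GL (Fin 2) F → ℂ) 1 = (Fintype.card F : ℂ) + 1 := R2_one _ _
    rw [this, hj]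
    push_cast
    ring
  have dC : ∀ χ ∈ C, ∃ m : ℕ, 1 ≤ m ∧ dg χ = m * (j + 1) := by
    intro χ hχ
    obtain ⟨m, hm1, hm, -⟩ := isCusp_degree χ.2 (Finset.mem_filter.mp hχ).2
    refine ⟨m, hm1, ?_⟩
    apply dg_eq
    rw [hm, hj]
    push_cast
    ring
  -- not cuspidal
  have nL : ∀ χ ∈ L, χ ∉ C := by
    intro χ hχ hc
    obtain ⟨α, -, rfl⟩ := Finset.mem_image.mp hχ
    exact not_isCusp_detChar α (Finset.mem_filter.mp hc).2
  have nS : ∀ χ ∈ S, χ ∉ C := by
    intro χ hχ hc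
    obtain ⟨α, -, rfl⟩ := Finset.mem_image.mp hχ
    exact not_isCusp_StTw α (Finset.mem_filter.mp hc).2
  have nP : ∀ χ ∈ P, χ ∉ C := by
    intro χ hχ hc
    obtain ⟨p, -, rfl⟩ := Finset.mem_image.mp hχ
    exact not_isCusp_R2 _ _ (Finset.mem_filter.mp hc).2
  -- the partition
  have d1 : Disjoint L S := by
    rw [Finset.disjoint_left]
    intro χ h1 h2
    have := dL χ h1
    rw [dS χ h2] at this
    omega
  have d2 : Disjoint (L ∪ S) P := by
    rw [Finset.disjoint_left]
    intro χ h1 h2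
    rcases Finset.mem_union.mp h1 with h1 | h1
    · have := dL χ h1
      rw [dP χ h2] at this
      omega
    · have := dS χ h1
      rw [dP χ h2] at this
      omega
  have d3 : Disjoint (L ∪ S ∪ P) C := by
    rw [Finset.disjoint_left]
    intro χ h1
    rcases Finset.mem_union.mp h1 with h1 | h1
    · rcases Finset.mem_union.mp h1 with h1 | h1
      · exact nL χ h1
      · exact nS χ h1
    · exact nP χ h1
  have huniv : (Finset.univ : Finset (Irr2 F)) = L ∪ S ∪ P ∪ C := by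
    ext χ
    simp only [Finset.mem_univ, Finset.mem_union, true_iff]
    rcases irr_cases χ.2 with ⟨α, h⟩ | ⟨α, h⟩ | ⟨α, β, hab, h⟩ | h
    · left; left; left
      exact Finset.mem_image.mpr ⟨α, Finset.mem_univ _, Subtype.ext h.symm⟩
    · left; left; right
      exact Finset.mem_image.mpr ⟨α, Finset.mem_univ _, Subtype.ext h.symm⟩
    · left; right
      exact Finset.mem_image.mpr ⟨⟨(α, β), hab⟩, Finset.mem_univ _, Subtype.ext h.symm⟩
    · right
      exact Finset.mem_filter.mpr ⟨Finset.mem_univ _, h⟩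
  have hsplit : ∀ f : Irr2 F → ℕ, ∑ χ, f χ = ∑ χ ∈ L, f χ + ∑ χ ∈ S, f χ + ∑ χ ∈ P, f χ +
      ∑ χ ∈ C, f χ := by
    intro f
    rw [huniv, Finset.sum_union d3, Finset.sum_union d2, Finset.sum_union d1]
  -- the number of characters
  have e1 := hsplit (fun _ => 1)
  simp only [Finset.sum_const, smul_eq_mul, mul_one, Finset.card_univ] at e1
  rw [card_Irr2, cL, cS, hj] at e1
  -- the sum of the squares of the degrees
  have e2 := hsplit (fun χ => dg χ ^ 2)
  have sL : ∑ χ ∈ L, dg χ ^ 2 = j + 1 := by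
    rw [Finset.sum_congr rfl (fun χ hχ => by rw [dL χ hχ]), Finset.sum_const, cL, smul_eq_mul]
    ring
  have sS : ∑ χ ∈ S, dg χ ^ 2 = (j + 1) * (j + 2) ^ 2 := by
    rw [Finset.sum_congr rfl (fun χ hχ => by rw [dS χ hχ]), Finset.sum_const, cS, smul_eq_mul]
  have sP : ∑ χ ∈ P, dg χ ^ 2 = P.card * (j + 3) ^ 2 := by
    rw [Finset.sum_congr rfl (fun χ hχ => by rw [dP χ hχ]), Finset.sum_const, smul_eq_mul]
  rw [sum_dg_sq, card_GL2, hj, sL, sS, sP] at e2
  -- the multiplicities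
  set mm : Irr2 F → ℕ := fun χ => dg χ / (j + 1) with hmm
  have hmm1 : ∀ χ ∈ C, 1 ≤ mm χ ∧ dg χ = mm χ * (j + 1) := by
    intro χ hχ
    obtain ⟨m, hm1, hm⟩ := dC χ hχ
    have : mm χ = m := by
      rw [hmm]
      change dg χ / (j + 1) = m
      rw [hm, Nat.mul_div_cancel _ (by omega : 0 < j + 1)]
    rw [this]
    exact ⟨hm1, hm⟩
  have e3 : ∑ χ ∈ C, dg χ ^ 2 = (j + 1) ^ 2 * ∑ χ ∈ C, mm χ ^ 2 := by
    rw [Finset.mul_sum]
    apply Finset.sum_congr rfl
    intro χ hχ
    have h := (hmm1 χ hχ).2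
    rw [h]
    ring
  rw [e3] at e2
  have a1 : (j + 2) ^ 2 - 1 = (j + 1) * (j + 3) := by
    have : (j + 2) ^ 2 = (j + 1) * (j + 3) + 1 := by ring
    omega
  have a2 : (j + 2) ^ 2 - (j + 2) = (j + 2) * (j + 1) := by
    have : (j + 2) ^ 2 = (j + 2) * (j + 1) + (j + 2) := by ring
    omega
  rw [a1] at e1
  rw [a1, a2] at e2
  have hMC : ∑ χ ∈ C, mm χ ^ 2 = C.card := by
    have hz : ((j + 1 : ℕ) : ℤ) ^ 2 * ((∑ χ ∈ C, mm χ ^ 2 : ℕ) : ℤ) =
        ((j + 1 : ℕ) : ℤ) ^ 2 * ((C.card : ℕ) : ℤ) := by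
      have e1z : (((j + 1) * (j + 3) : ℕ) : ℤ) = ((j + 1 + (j + 1) + P.card + C.card : ℕ) : ℤ) := by
        rw [e1]
      have e2z : (((j + 1) * (j + 3) * ((j + 2) * (j + 1)) : ℕ) : ℤ) =
          ((j + 1 + (j + 1) * (j + 2) ^ 2 + P.card * (j + 3) ^ 2 +
            (j + 1) ^ 2 * ∑ χ ∈ C, mm χ ^ 2 : ℕ) : ℤ) := by
        rw [e2]
      have cPz : ((2 * P.card : ℕ) : ℤ) = (((j + 1) * j : ℕ) : ℤ) := by rw [cP]
      push_cast at e1z e2z cPz ⊢
      linear_combination (-1 : ℤ) * e2z + ((j : ℤ) + 1) ^ 2 * e1z - 2 * ((j : ℤ) + 2) * cPz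
    have hk : ((j + 1 : ℕ) : ℤ) ^ 2 ≠ 0 := by positivity
    exact_mod_cast mul_left_cancel₀ hk hz
  have hall : ∀ χ ∈ C, mm χ = 1 := by
    have hle : ∀ χ ∈ C, (1 : ℕ) ≤ mm χ ^ 2 := by
      intro χ hχ
      exact Nat.one_le_pow _ _ (hmm1 χ hχ).1
    have hsum : ∑ _χ ∈ C, (1 : ℕ) = ∑ χ ∈ C, mm χ ^ 2 := by
      rw [hMC, Finset.sum_const, smul_eq_mul, mul_one]
    have := (Finset.sum_eq_sum_iff_of_le hle).mp hsum
    intro χ hχ
    have h1 := this χ hχ
    have h2 := (hmm1 χ hχ).1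
    nlinarith
  refine ⟨by rw [cL, hj]; omega, by rw [cS, hj]; omega, ?_, ?_, ?_⟩
  · rw [cP, hj]
    congr 1
  · rw [hj]
    have : (j + 2 - 1) = j + 1 := by omega
    rw [this]
    have e1z : (((j + 1) * (j + 3) : ℕ) : ℤ) = ((j + 1 + (j + 1) + P.card + C.card : ℕ) : ℤ) := by
      rw [e1]
    have cPz : ((2 * P.card : ℕ) : ℤ) = (((j + 1) * j : ℕ) : ℤ) := by rw [cP]
    have : ((2 * C.card : ℕ) : ℤ) = (((j + 2) * (j + 1) : ℕ) : ℤ) := by
      push_cast at e1z cPz ⊢
      linear_combination (-2 : ℤ) * e1z - cPz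
    exact_mod_cast this
  · intro χ hχ
    have hχC : χ ∈ C := Finset.mem_filter.mpr ⟨Finset.mem_univ _, hχ⟩
    rw [(hmm1 χ hχC).2, hall χ hχC, hj]
    omega

end Cfsg.Agent.Helper8.GL2C
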