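import Mathlib
import Cfsg.Agent.Helper8.GL2Count

set_option autoImplicit false

/-!
The classification of the irreducible characters of `GL₂(F)`, and their number by degree.
-/

namespace Cfsg.Agent.Helper8.GL2C

open Matrix Cfsg.Agent.Helper6
open scoped Matrix ComplexConjugate

variable {F : Type*} [Field F] [Fintype F] [DecidableEq F]

theorem cast_card_sub_one : ((Fintype.card F - 1 : ℕ) : ℂ) = (Fintype.card F : ℂ) - 1 := by
  rw [Nat.cast_sub Fintype.card_pos, Nat.cast_one]

/-- cuspidal irreducible characters have degree `q - 1` and value `-1` at the transvections. -/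
theorem isCusp_values {χ : GL (Fin 2) F → ℂ} (hχ : Cfsg.IsIrrCharacter (GL (Fin 2) F) χ)
    (hc : IsCusp χ) : χ 1 = (Fintype.card F : ℂ) - 1 ∧ χ (uu 1) = -1 := by
  classical
  haveI : Fintype (MulChar F ℂ) := Fintype.ofFinite _
  haveI : Finite (Irr2 F) := irr_finite
  haveI : Fintype (Irr2 F) := Fintype.ofFinite _
  have h := (count_main (F := F)).2.2.2.2 ⟨χ, hχ⟩ hc
  have h1 : χ 1 = (Fintype.card F : ℂ) - 1 := by
    have := dg_spec (⟨χ, hχ⟩ : Irr2 F)
    rw [h, cast_card_sub_one] at this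
    exact this
  refine ⟨h1, ?_⟩
  obtain ⟨m, -, hm, hu⟩ := isCusp_degree hχ hc
  have hq2 : 2 ≤ Fintype.card F := Fintype.one_lt_card
  have hq1C : ((Fintype.card F : ℂ) - 1) ≠ 0 := by
    have : ((Fintype.card F - 1 : ℕ) : ℂ) ≠ 0 := by
      have : Fintype.card F - 1 ≠ 0 := by omega
      exact_mod_cast this
    rwa [cast_card_sub_one] at this
  have hm1 : (m : ℂ) = 1 := by
    apply mul_right_cancel₀ hq1C
    rw [one_mul, ← hm, h1]
  rw [hu, hm1]

/-- the classification of the irreducible characters. -/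
theorem classify {χ : GL (Fin 2) F → ℂ} (hχ : Cfsg.IsIrrCharacter (GL (Fin 2) F) χ) :
    (∃ α : MulChar F ℂ, χ = detChar α) ∨ (∃ α : MulChar F ℂ, χ = StTw α) ∨
      (∃ α β : MulChar F ℂ, α ≠ β ∧ χ = R2 α β) ∨
      (IsCusp χ ∧ χ 1 = (Fintype.card F : ℂ) - 1 ∧ χ (uu 1) = -1) := by
  rcases irr_cases hχ with h | h | h | h
  · exact Or.inl h
  · exact Or.inr (Or.inl h)
  · exact Or.inr (Or.inr (Or.inl h))
  · exact Or.inr (Or.inr (Or.inr ⟨h, isCusp_values hχ h⟩))

theorem card_cast_ne_zero : (Fintype.card F : ℂ) ≠ 0 := by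
  have : Fintype.card F ≠ 0 := Fintype.card_ne_zero
  exact_mod_cast this

theorem card_cast_ne_two (hq : 3 ≤ Fintype.card F) : (Fintype.card F : ℂ) ≠ 2 := by
  have : Fintype.card F ≠ 2 := by omega
  exact_mod_cast this

/-! ### types by degree -/

theorem type_deg_one (hq : 3 ≤ Fintype.card F) {χ : GL (Fin 2) F → ℂ}
    (hχ : Cfsg.IsIrrCharacter (GL (Fin 2) F) χ) (hdeg : χ 1 = 1) :
    ∃ α : MulChar F ℂ, χ = detChar α := by
  rcases classify hχ with h | ⟨α, h⟩ | ⟨α, β, -, h⟩ | ⟨-, h, -⟩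
  · exact h
  · exfalso
    rw [h, StTw_one] at hdeg
    exact card_ne_one (F := F) hdeg
  · exfalso
    rw [h, R2_one] at hdeg
    apply card_cast_ne_zero (F := F)
    linear_combination hdeg
  · exfalso
    rw [h] at hdeg
    apply card_cast_ne_two hq
    linear_combination hdeg

theorem type_deg_add_one {χ : GL (Fin 2) F → ℂ}
    (hχ : Cfsg.IsIrrCharacter (GL (Fin 2) F) χ) (hdeg : χ 1 = (Fintype.card F : ℂ) + 1) :
    ∃ α β : MulChar F ℂ, α ≠ β ∧ χ = R2 α β := by
  rcases classify hχ with ⟨α, h⟩ | ⟨α, h⟩ | h | ⟨-, h, -⟩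
  · exfalso
    rw [h, detChar_one] at hdeg
    apply card_cast_ne_zero (F := F)
    linear_combination -hdeg
  · exfalso
    rw [h, StTw_one] at hdeg
    have : (1 : ℂ) = 0 := by linear_combination -hdeg
    exact one_ne_zero this
  · exact h
  · exfalso
    rw [h] at hdeg
    have : (2 : ℂ) = 0 := by linear_combination -hdeg
    norm_num at this

theorem type_deg_sub_one (hq : 3 ≤ Fintype.card F) {χ : GL (Fin 2) F → ℂ}
    (hχ : Cfsg.IsIrrCharacter (GL (Fin 2) F) χ) (hdeg : χ 1 = (Fintype.card F : ℂ) - 1) :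
    IsCusp χ ∧ χ (uu 1) = -1 := by
  rcases classify hχ with ⟨α, h⟩ | ⟨α, h⟩ | ⟨α, β, -, h⟩ | ⟨h1, -, h2⟩
  · exfalso
    rw [h, detChar_one] at hdeg
    apply card_cast_ne_two hq
    linear_combination -hdeg
  · exfalso
    rw [h, StTw_one] at hdeg
    have : (1 : ℂ) = 0 := by linear_combination hdeg
    exact one_ne_zero this
  · exfalso
    rw [h, R2_one] at hdeg
    have : (2 : ℂ) = 0 := by linear_combination hdeg
    norm_num at this
  · exact ⟨h1, h2⟩

/-! ### the number of characters of each degree -/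

theorem natCard_subtype_eq_card {X : Type*} [Fintype X] (P : X → Prop) (S : Finset X)
    (h : ∀ x, P x ↔ x ∈ S) : Nat.card {x : X // P x} = S.card := by
  classical
  rw [Nat.card_eq_fintype_card, Fintype.card_subtype]
  congr 1
  ext x
  simp [h]

theorem natCard_deg_one (hq : 3 ≤ Fintype.card F) :
    Nat.card {χ : Irr2 F // (χ : GL (Fin 2) F → ℂ) 1 = 1} = Fintype.card F - 1 := by
  classical
  haveI : Fintype (MulChar F ℂ) := Fintype.ofFinite _
  haveI : Finite (Irr2 F) := irr_finite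
  haveI : Fintype (Irr2 F) := Fintype.ofFinite _
  rw [natCard_subtype_eq_card _ (Finset.univ.image (fL (F := F))), (count_main (F := F)).1]
  intro χ
  constructor
  · intro h
    obtain ⟨α, hα⟩ := type_deg_one hq χ.2 h
    exact Finset.mem_image.mpr ⟨α, Finset.mem_univ _, Subtype.ext hα.symm⟩
  · intro h
    obtain ⟨α, -, rfl⟩ := Finset.mem_image.mp h
    exact detChar_one α

theorem natCard_deg_q :
    Nat.card {χ : Irr2 F // (χ : GL (Fin 2) F → ℂ) 1 = (Fintype.card F : ℂ)} =
      Fintype.card F - 1 := by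
  classical
  haveI : Fintype (MulChar F ℂ) := Fintype.ofFinite _
  haveI : Finite (Irr2 F) := irr_finite
  haveI : Fintype (Irr2 F) := Fintype.ofFinite _
  rw [natCard_subtype_eq_card _ (Finset.univ.image (fS (F := F))), (count_main (F := F)).2.1]
  intro χ
  constructor
  · intro h
    obtain ⟨α, hα⟩ := eq_StTw_of_degree χ.2 h
    exact Finset.mem_image.mpr ⟨α, Finset.mem_univ _, Subtype.ext hα.symm⟩
  · intro h
    obtain ⟨α, -, rfl⟩ := Finset.mem_image.mp h
    exact StTw_one α

theorem natCard_deg_add_one :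
    Nat.card {χ : Irr2 F // (χ : GL (Fin 2) F → ℂ) 1 = (Fintype.card F : ℂ) + 1} =
      (Fintype.card F - 1) * (Fintype.card F - 2) / 2 := by
  classical
  haveI : Fintype (MulChar F ℂ) := Fintype.ofFinite _
  haveI : Finite (Irr2 F) := irr_finite
  haveI : Fintype (Irr2 F) := Fintype.ofFinite _
  rw [natCard_subtype_eq_card _ (Finset.univ.image (fP (F := F))), ← (count_main (F := F)).2.2.1,
    Nat.mul_div_cancel_left _ (by norm_num : 0 < 2)]
  intro χ
  constructor
  · intro h
    obtain ⟨α, β, hab, hα⟩ := type_deg_add_one χ.2 h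
    exact Finset.mem_image.mpr ⟨⟨(α, β), hab⟩, Finset.mem_univ _, Subtype.ext hα.symm⟩
  · intro h
    obtain ⟨p, -, rfl⟩ := Finset.mem_image.mp h
    exact R2_one _ _

theorem natCard_deg_sub_one (hq : 3 ≤ Fintype.card F) :
    Nat.card {χ : Irr2 F // (χ : GL (Fin 2) F → ℂ) 1 = (Fintype.card F : ℂ) - 1} =
      Fintype.card F * (Fintype.card F - 1) / 2 := by
  classical
  haveI : Fintype (MulChar F ℂ) := Fintype.ofFinite _
  haveI : Finite (Irr2 F) := irr_finite
  haveI : Fintype (Irr2 F) := Fintype.ofFinite _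
  rw [natCard_subtype_eq_card _
    (Finset.univ.filter (fun χ : Irr2 F => IsCusp (χ : GL (Fin 2) F → ℂ))),
    ← (count_main (F := F)).2.2.2.1, Nat.mul_div_cancel_left _ (by norm_num : 0 < 2)]
  intro χ
  constructor
  · intro h
    exact Finset.mem_filter.mpr ⟨Finset.mem_univ _, (type_deg_sub_one hq χ.2 h).1⟩
  · intro h
    exact (isCusp_values χ.2 (Finset.mem_filter.mp h).2).1

end Cfsg.Agent.Helper8.GL2C
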