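import Cfsg.Agent.Helper8.PGLrMain
set_option autoImplicit false

namespace Cfsg.Agent.Helper8.PGraph

open Polynomial Matrix
open Cfsg.Agent.Helper8.SemiS

variable {F : Type*} [Field F] [Fintype F]

/-- the residue field of a monic irreducible polynomial over a finite field -/
theorem card_adjoinRoot (P : F[X]) (hP : P.Monic) [Fact (Irreducible P)] :
    Nat.card (AdjoinRoot P) = Fintype.card F ^ P.natDegree := by
  haveI : Module.Finite F (AdjoinRoot P) := hP.finite_adjoinRoot
  haveI : Finite (AdjoinRoot P) := Module.finite_of_finite F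
  haveI : Fintype (AdjoinRoot P) := Fintype.ofFinite _
  have hirr : Irreducible P := Fact.out
  rw [Nat.card_eq_fintype_card, Module.card_eq_pow_finrank (K := F) (V := AdjoinRoot P),
    (AdjoinRoot.powerBasis hirr.ne_zero).finrank, AdjoinRoot.powerBasis_dim]

omit [Fintype F] in
theorem mk_X_pow_sub_one (P : F[X]) (m : ℕ) :
    AdjoinRoot.mk P (X ^ m - 1) = AdjoinRoot.root P ^ m - 1 := by
  rw [map_sub, map_pow, AdjoinRoot.mk_X, map_one]

omit [Fintype F] in
theorem root_pow_eq_one_iff (P : F[X]) (m : ℕ) :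
    AdjoinRoot.root P ^ m = 1 ↔ P ∣ X ^ m - 1 := by
  rw [← AdjoinRoot.mk_eq_zero, mk_X_pow_sub_one, sub_eq_zero]

/-- (F1) -/
theorem dvd_natDegree_of_not_dvd (P : F[X]) (hP : P.Monic) (hirr : Irreducible P) (r s : ℕ)
    (hs : s.Prime) (hdvd : P ∣ X ^ (r * s) - 1) (hndvd : ¬ P ∣ X ^ r - 1) :
    orderOf ((Fintype.card F : ℕ) : ZMod s) ∣ P.natDegree := by
  haveI : Fact (Irreducible P) := ⟨hirr⟩
  haveI : Module.Finite F (AdjoinRoot P) := hP.finite_adjoinRoot
  haveI : Finite (AdjoinRoot P) := Module.finite_of_finite F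
  haveI : Fintype (AdjoinRoot P) := Fintype.ofFinite _
  have hcard : Fintype.card (AdjoinRoot P) = Fintype.card F ^ P.natDegree := by
    rw [← Nat.card_eq_fintype_card, card_adjoinRoot P hP]
  set α := AdjoinRoot.root P with hα
  have h1 : α ^ (r * s) = 1 := (root_pow_eq_one_iff P _).mpr hdvd
  have h2 : α ^ r ≠ 1 := fun h => hndvd ((root_pow_eq_one_iff P _).mp h)
  have hα0 : α ≠ 0 := by
    intro h0
    rw [h0, zero_pow] at h1
    · exact zero_ne_one h1
    · intro h
      rw [h] at h1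
      rw [pow_zero] at h1
      rcases Nat.eq_zero_or_pos r with hr0 | hr0
      · rw [hr0, pow_zero] at h2; exact h2 rfl
      · rcases Nat.mul_eq_zero.mp h with h' | h'
        · omega
        · exact hs.ne_zero h'
  have h3 : orderOf α ∣ r * s := orderOf_dvd_of_pow_eq_one h1
  have h4 : ¬ orderOf α ∣ r := fun h => h2 (orderOf_dvd_iff_pow_eq_one.mp h)
  have h5 : s ∣ orderOf α := by
    by_contra hns
    have hcop : Nat.Coprime (orderOf α) s := (Nat.Prime.coprime_iff_not_dvd hs).mpr hns |>.symm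
    exact h4 (hcop.dvd_of_dvd_mul_right h3)
  have h6 : orderOf α ∣ Fintype.card (AdjoinRoot P) - 1 :=
    orderOf_dvd_of_pow_eq_one (FiniteField.pow_card_sub_one_eq_one α hα0)
  rw [hcard] at h6
  have h7 : s ∣ Fintype.card F ^ P.natDegree - 1 := dvd_trans h5 h6
  apply orderOf_dvd_of_pow_eq_one
  have h8 : ((Fintype.card F ^ P.natDegree - 1 : ℕ) : ZMod s) = 0 :=
    (ZMod.natCast_eq_zero_iff _ _).mpr h7
  have h9 : 1 ≤ Fintype.card F ^ P.natDegree := Nat.one_le_pow _ _ Fintype.card_pos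
  rw [Nat.cast_sub h9, Nat.cast_pow, Nat.cast_one, sub_eq_zero] at h8
  exact h8

end Cfsg.Agent.Helper8.PGraph
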