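import Cfsg.Agent.Helper8.PSUSingA
set_option autoImplicit false

/-!
Roots of irreducible polynomials over finite fields are Frobenius conjugates; a polynomial with a
root of large prime order is not its own conjugate reciprocal.
-/

namespace Cfsg.Agent.Helper8.PSUSing

open Polynomial Matrix Cfsg Cfsg.Agent.Helper8.GUOrder Cfsg.Agent.Helper8.SUCenter
  Cfsg.Agent.Helper8.AutSU Cfsg.Agent.Helper8.PS3 Cfsg.Agent.Helper8.PGraph
  Cfsg.Agent.Helper8.PU3

variable {K : Type*} [Field K] [Fintype K]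

/-- the roots of an irreducible polynomial over a finite field are Frobenius conjugates -/
theorem root_eq_frob_pow (P : K[X]) (hP : P.Monic) [hirr : Fact (Irreducible P)] (y : AdjoinRoot P)
    (hy : aeval y P = 0) : ∃ i : ℕ, y = AdjoinRoot.root P ^ (Fintype.card K ^ i) := by
  have : Module.Finite K (AdjoinRoot P) := hP.finite_adjoinRoot
  have : Finite (AdjoinRoot P) := Module.finite_of_finite K
  have hmin : minpoly K (AdjoinRoot.root P) = P := by
    rw [AdjoinRoot.minpoly_root hirr.out.ne_zero, hP.leadingCoeff, inv_one, map_one, mul_one]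
  have halg : IsAlgebraic K (AdjoinRoot.root P) := Algebra.IsAlgebraic.isAlgebraic _
  obtain ⟨σ, hσ⟩ := minpoly.exists_algEquiv_of_root' (x := y) halg (by rw [hmin]; exact hy)
  obtain ⟨i, hi⟩ := (FiniteField.bijective_frobeniusAlgEquivOfAlgebraic_pow K (AdjoinRoot P)).2 σ
  refine ⟨i.1, ?_⟩
  rw [← hσ, ← hi]
  simp only [AlgEquiv.coe_pow, FiniteField.coe_frobeniusAlgEquivOfAlgebraic, pow_iterate]

omit [Fintype K] in
/-- an irreducible factor of the minimal polynomial not dividing `X ^ k - 1` -/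
theorem exists_factor (p : ℕ) [Fact p.Prime] [CharP K p] {n : ℕ}
    (A : Matrix (Fin n) (Fin n) K) (M k : ℕ) (hpM : p.Coprime M) (hAM : A ^ M = 1)
    (hAk : A ^ k ≠ 1) :
    ∃ h₁ : K[X], h₁.Monic ∧ Irreducible h₁ ∧ h₁ ∣ minpoly K A ∧ h₁ ∣ X ^ M - C (1 : K) ∧
      ¬ h₁ ∣ X ^ k - C (1 : K) := by
  classical
  have hp : p.Prime := Fact.out
  have hM0 : ((M : ℕ) : K) ≠ 0 := by
    intro h0
    have h1 := (CharP.cast_eq_zero_iff K p M).mp h0
    have h2 : p ∣ Nat.gcd p M := Nat.dvd_gcd dvd_rfl h1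
    rw [hpM] at h2
    exact hp.one_lt.ne' (Nat.dvd_one.mp h2)
  have hsq : Squarefree (X ^ M - C (1 : K)) :=
    PGLr.squarefree_X_pow_sub_C M hM0 1 one_ne_zero
  have h1 : minpoly K A ∣ X ^ M - C (1 : K) := by
    apply minpoly.dvd
    rw [PGLr.aeval_X_pow_sub_C, hAM, one_smul, sub_self]
  have hsqh : Squarefree (minpoly K A) := hsq.squarefree_of_dvd h1
  have h2 : ¬ minpoly K A ∣ X ^ k - C (1 : K) := by
    rintro ⟨w, hw⟩
    apply hAk
    have h3 : aeval A (X ^ k - C (1 : K)) = 0 := by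
      rw [hw, map_mul, minpoly.aeval, zero_mul]
    rw [PGLr.aeval_X_pow_sub_C, one_smul, sub_eq_zero] at h3
    exact h3
  obtain ⟨h', hh'⟩ := EuclideanDomain.gcd_dvd_left (minpoly K A) (X ^ k - C (1 : K))
  have hh'u : ¬ IsUnit h' := by
    rintro ⟨u, hu⟩
    apply h2
    have h3 : minpoly K A ∣ EuclideanDomain.gcd (minpoly K A) (X ^ k - C (1 : K)) := by
      refine ⟨(↑u⁻¹ : K[X]), ?_⟩
      conv_rhs => rw [hh', ← hu, mul_assoc, Units.mul_inv, mul_one]
    exact dvd_trans h3 (EuclideanDomain.gcd_dvd_right _ _)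
  obtain ⟨h₂, hh₂m, hh₂i, hh₂d⟩ := Polynomial.exists_monic_irreducible_factor h' hh'u
  have hh₂h : h₂ ∣ minpoly K A := by
    rw [hh']
    exact Dvd.dvd.mul_left hh₂d _
  refine ⟨h₂, hh₂m, hh₂i, hh₂h, dvd_trans hh₂h h1, ?_⟩
  intro h3
  have h4 : h₂ ∣ EuclideanDomain.gcd (minpoly K A) (X ^ k - C (1 : K)) :=
    EuclideanDomain.dvd_gcd hh₂h h3
  have h5 : h₂ * h₂ ∣ minpoly K A := by
    rw [hh']
    exact mul_dvd_mul h4 hh₂d
  exact hh₂i.not_isUnit (hsqh h₂ h5)

variable {q : ℕ} [hF : Fact (Fintype.card K = q ^ 2)]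

/-- an irreducible polynomial dividing its conjugate reciprocal -/
theorem pow_eq_one_of_dvd_sig (p : ℕ) [Fact p.Prime] [CharP K p] (P : K[X]) (hP : P.Monic)
    [hirr : Fact (Irreducible P)] (hβ0 : AdjoinRoot.root P ≠ 0) (h : P ∣ sig (q := q) P) :
    ∃ i : ℕ, AdjoinRoot.root P ^ (q ^ (2 * i) + q) = 1 := by
  have hp : p.Prime := Fact.out
  -- `q` is a power of `p`
  obtain ⟨e, _, he⟩ := FiniteField.card K p
  have hqp : q ∣ p ^ (e : ℕ) := by
    rw [← he, hF.out]
    exact Dvd.intro_left _ (sq q).symm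
  obtain ⟨f, _, hf⟩ := (Nat.dvd_prime_pow hp).mp hqp
  have : CharP (AdjoinRoot P) p := charP_of_injective_algebraMap
    (algebraMap K (AdjoinRoot P)).injective p
  -- the root of the reversed polynomial
  have h1 : eval₂ (algebraMap K (AdjoinRoot P)) (AdjoinRoot.root P)
      ((P.map (frobq K q)).reverse) = 0 := by
    obtain ⟨w, hw⟩ := h
    unfold sig at hw
    rw [hw, eval₂_mul, AdjoinRoot.algebraMap_eq, AdjoinRoot.eval₂_root, zero_mul]
  have hinv : Invertible (AdjoinRoot.root P)⁻¹ := invertibleOfNonzero (inv_ne_zero hβ0)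
  have h2 : eval₂ (algebraMap K (AdjoinRoot P)) (AdjoinRoot.root P)⁻¹ (P.map (frobq K q)) = 0 := by
    rw [← Polynomial.eval₂_reverse_eq_zero_iff (algebraMap K (AdjoinRoot P))
      (AdjoinRoot.root P)⁻¹ (P.map (frobq K q))]
    have : ⅟((AdjoinRoot.root P)⁻¹) = AdjoinRoot.root P := by
      rw [invOf_eq_inv, inv_inv]
    rw [this]
    exact h1
  -- apply the `q`-power map
  have h3 := congrArg (iterateFrobenius (AdjoinRoot P) p f) h2
  rw [map_zero, Polynomial.hom_eval₂, Polynomial.eval₂_map] at h3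
  have h4 : ((iterateFrobenius (AdjoinRoot P) p f).comp (algebraMap K (AdjoinRoot P))).comp
      (frobq K q) = algebraMap K (AdjoinRoot P) := by
    ext c
    simp only [RingHom.comp_apply, iterateFrobenius_def, frobq_apply, ← hf, ← map_pow]
    congr 1
    rw [← pow_mul, ← sq]
    exact pow_qsq c
  rw [h4, iterateFrobenius_def, ← hf] at h3
  obtain ⟨i, hi⟩ := root_eq_frob_pow P hP _ h3
  refine ⟨i, ?_⟩
  rw [pow_add, pow_mul, ← hF.out, ← hi, ← mul_pow, inv_mul_cancel₀ hβ0, one_pow]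

end Cfsg.Agent.Helper8.PSUSing
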