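import Cfsg.Agent.Helper8.PSLSingC
set_option autoImplicit false

/-!
Arithmetic for elements of order `q ^ m ± 1` in `PSU_{2m}(q)`.
-/

namespace Cfsg.Agent.Helper8.PSUSing

open Cfsg.Agent.Helper8.PSLSing

/-- the two-part of the cofactor: necessity -/
theorem tp_nec (N Qd T e : ℕ) (hN2 : 2 ∣ N) (hN0 : 0 < N) (hT0 : T ≠ 0)
    (he : 0 < e) (hdvd : e ∣ N * T) (hN : e / Nat.gcd e Qd = N) :
    padicValNat 2 Qd ≤ padicValNat 2 T := by
  have hc : 0 < Nat.gcd e Qd := Nat.gcd_pos_of_pos_left _ he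
  have hec : e = N * Nat.gcd e Qd := by
    rw [← hN]
    exact (Nat.div_mul_cancel (Nat.gcd_dvd_left e Qd)).symm
  have hac : padicValNat 2 Qd ≤ padicValNat 2 (Nat.gcd e Qd) := by
    by_contra hlt
    have h1 : 2 ^ (padicValNat 2 (Nat.gcd e Qd) + 1) ∣ Qd :=
      dvd_trans (pow_dvd_pow 2 (by omega)) pow_padicValNat_dvd
    have h2 : 2 ^ (padicValNat 2 (Nat.gcd e Qd) + 1) ∣ e := by
      rw [pow_succ, mul_comm]
      conv_rhs => rw [hec]
      exact mul_dvd_mul hN2 pow_padicValNat_dvd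
    have h3 := Nat.dvd_gcd h2 h1
    rw [padicValNat_dvd_iff_le hc.ne'] at h3
    omega
  have hcT : Nat.gcd e Qd ∣ T := by
    rw [hec] at hdvd
    exact Nat.dvd_of_mul_dvd_mul_left hN0 hdvd
  rw [← padicValNat_dvd_iff_le hT0]
  exact dvd_trans (dvd_trans (pow_dvd_pow 2 hac) pow_padicValNat_dvd) hcT

/-- the two-part of the cofactor: sufficiency -/
theorem tp_suff (N Qd T : ℕ) (hQ0 : Qd ≠ 0) (hT0 : T ≠ 0)
    (hgcd : Nat.gcd N Qd = 2) (h : padicValNat 2 Qd ≤ padicValNat 2 T) :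
    N * 2 ^ padicValNat 2 Qd ∣ N * T ∧
      N * 2 ^ padicValNat 2 Qd / Nat.gcd (N * 2 ^ padicValNat 2 Qd) Qd = N := by
  have haT : 2 ^ padicValNat 2 Qd ∣ T := by
    rw [padicValNat_dvd_iff_le hT0]
    exact h
  refine ⟨mul_dvd_mul_left _ haT, ?_⟩
  obtain ⟨s, hs⟩ := pow_padicValNat_dvd (p := 2) (n := Qd)
  have hsodd : ¬ 2 ∣ s := by
    rintro ⟨w, hw⟩
    have h1 : 2 ^ (padicValNat 2 Qd + 1) ∣ Qd := by
      refine ⟨w, ?_⟩
      conv_lhs => rw [hs, hw]
      ring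
    rw [padicValNat_dvd_iff_le hQ0] at h1
    omega
  have hg1 : Nat.gcd N s = 1 := by
    have h1 : Nat.gcd N s ∣ 2 := by
      rw [← hgcd]
      apply Nat.dvd_gcd (Nat.gcd_dvd_left _ _)
      rw [hs]
      exact Dvd.dvd.mul_left (Nat.gcd_dvd_right _ _) _
    rcases (Nat.dvd_prime Nat.prime_two).mp h1 with h2 | h2
    · exact h2
    · exfalso
      apply hsodd
      rw [← h2]
      exact Nat.gcd_dvd_right _ _
  have key : ∀ a : ℕ, Qd = 2 ^ a * s → Nat.gcd (N * 2 ^ a) Qd = 2 ^ a := by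
    intro a ha
    rw [ha, mul_comm N, Nat.gcd_mul_left, hg1, mul_one]
  rw [key _ hs]
  exact Nat.mul_div_cancel _ (by positivity)

/-- the facts for even `m` -/
theorem basic_even (q m : ℕ) (hq : Odd q) (hq3 : 3 ≤ q) (hm : 1 ≤ m) (hme : Even m) :
    ∃ T : ℕ, 0 < T ∧ (q + 1) * T = q ^ m - 1 ∧
      (q ^ (m + m) - 1) / (q + 1) = (q ^ m + 1) * T ∧ Nat.gcd (q ^ m + 1) (q + 1) = 2 ∧
      padicValNat 2 T + 1 = padicValNat 2 (q - 1) + padicValNat 2 m := by
  obtain ⟨t, ht⟩ := hme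
  have ht0 : 1 ≤ t := by omega
  have hdvd : q + 1 ∣ q ^ m - 1 := by
    have h1 : q ^ 2 - 1 ∣ (q ^ 2) ^ t - 1 := by
      have := Nat.sub_dvd_pow_sub_pow (q ^ 2) 1 t
      rw [one_pow] at this
      exact this
    have h2 : q + 1 ∣ q ^ 2 - 1 := by
      refine ⟨q - 1, ?_⟩
      obtain ⟨s, hs⟩ : ∃ s, q = s + 1 := ⟨q - 1, by omega⟩
      rw [hs, Nat.add_sub_cancel]
      have : (s + 1) ^ 2 = (s + 1 + 1) * s + 1 := by ring
      omega
    have h3 : (q ^ 2) ^ t = q ^ m := by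
      rw [← pow_mul, ht]
      congr 1
      omega
    rw [h3] at h1
    exact dvd_trans h2 h1
  have hxpos : q ≤ q ^ m := by
    have : q ^ 1 ≤ q ^ m := Nat.pow_le_pow_right (by omega) hm
    rw [pow_one] at this
    exact this
  have hx2 : q ^ 2 ≤ q ^ m := Nat.pow_le_pow_right (by omega) (by omega)
  have hQS := Nat.mul_div_cancel' hdvd
  have hT0 : 0 < (q ^ m - 1) / (q + 1) := by
    apply Nat.div_pos
    · have h9 : 3 * q ≤ q * q := Nat.mul_le_mul_right q hq3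
      have : q ^ 2 = q * q := sq q
      omega
    · omega
  refine ⟨(q ^ m - 1) / (q + 1), hT0, hQS, ?_, ?_, ?_⟩
  · apply Nat.div_eq_of_eq_mul_right (by omega)
    rw [← mul_assoc, mul_comm (q + 1), mul_assoc, hQS, pow_add]
    obtain ⟨y, hy⟩ : ∃ y, q ^ m = y + 1 := ⟨q ^ m - 1, by omega⟩
    rw [hy, Nat.add_sub_cancel]
    have : (y + 1) * (y + 1) = (y + 1 + 1) * y + 1 := by ring
    omega
  · have e1 : q ^ m + 1 = 2 + (q + 1) * ((q ^ m - 1) / (q + 1)) := by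
      rw [hQS]
      omega
    rw [e1, Nat.gcd_add_mul_left_left]
    apply Nat.gcd_eq_left
    obtain ⟨w, hw⟩ := hq
    exact ⟨w + 1, by omega⟩
  · have h2 : ¬ 2 ∣ q := by
      obtain ⟨w, hw⟩ := hq
      omega
    have hlte := padicValNat.pow_two_sub_one (x := q) (n := m) (by omega) h2 (by omega) ⟨t, ht⟩
    rw [← hQS, padicValNat.mul (by omega) hT0.ne'] at hlte
    omega

/-- necessity, `m` even -/
theorem arithU_nec_even (q m e : ℕ) (hq : Odd q) (hq3 : 3 ≤ q) (hm : 1 ≤ m) (hme : Even m)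
    (he : 0 < e) (hdvd : e ∣ (q ^ (m + m) - 1) / (q + 1))
    (hN : e / Nat.gcd e (q + 1) = q ^ m + 1) :
    padicValNat 2 (q + 1) < padicValNat 2 (m + m) := by
  obtain ⟨T, hT0, hQT, hfull, hgcd, hlte⟩ := basic_even q m hq hq3 hm hme
  rw [val_double m hm]
  rw [hfull] at hdvd
  have h2N : 2 ∣ q ^ m + 1 := by
    rw [← hgcd]
    exact Nat.gcd_dvd_left _ _
  have h1 := tp_nec (q ^ m + 1) (q + 1) T e h2N (by positivity) hT0.ne' he hdvd hN
  have hm1 : 1 ≤ padicValNat 2 m := by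
    apply one_le_padicValNat_of_dvd (by omega)
    exact even_iff_two_dvd.mp hme
  rcases val_one q hq hq3 with h5 | h5
  · omega
  · omega

/-- sufficiency, `m` even -/
theorem arithU_suff_even (q m : ℕ) (hq : Odd q) (hq3 : 3 ≤ q) (hm : 1 ≤ m) (hme : Even m)
    (h : padicValNat 2 (q + 1) < padicValNat 2 (m + m)) :
    (q ^ m + 1) * 2 ^ padicValNat 2 (q + 1) ∣ (q ^ (m + m) - 1) / (q + 1) ∧
      (q ^ m + 1) * 2 ^ padicValNat 2 (q + 1) /
        Nat.gcd ((q ^ m + 1) * 2 ^ padicValNat 2 (q + 1)) (q + 1) = q ^ m + 1 := by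
  obtain ⟨T, hT0, hQT, hfull, hgcd, hlte⟩ := basic_even q m hq hq3 hm hme
  rw [val_double m hm] at h
  rw [hfull]
  have hq1 : 1 ≤ padicValNat 2 (q - 1) := by
    apply one_le_padicValNat_of_dvd (by omega)
    obtain ⟨w, hw⟩ := hq
    exact ⟨w, by omega⟩
  apply tp_suff (q ^ m + 1) (q + 1) T (by omega) hT0.ne' hgcd
  omega

/-- the case of odd `m` -/
theorem arithU_odd (q m e : ℕ) (hq : Odd q) (hq3 : 3 ≤ q) (hm : 1 ≤ m) (hmo : Odd m)
    (he : 0 < e) (hdvd : e ∣ (q ^ (m + m) - 1) / (q + 1))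
    (hN : e / Nat.gcd e (q + 1) = q ^ m - 1) : False := by
  obtain ⟨S, hS0, hQS, hSm, -, -, -⟩ := basic q m hq hq3 hm
  have hxpos : q ≤ q ^ m := by
    have : q ^ 1 ≤ q ^ m := Nat.pow_le_pow_right (by omega) hm
    rw [pow_one] at this
    exact this
  have hdvd1 : q + 1 ∣ q ^ m + 1 := by
    have := Odd.nat_add_dvd_pow_add_pow q 1 hmo
    rw [one_pow] at this
    exact this
  obtain ⟨T, hT⟩ := hdvd1
  have hT0 : T ≠ 0 := by
    rintro rfl
    omega
  have h2 : ¬ 2 ∣ q := by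
    obtain ⟨w, hw⟩ := hq
    omega
  -- the two-part of `q ^ m + 1`
  have hSodd : padicValNat 2 S = 0 := by
    apply padicValNat.eq_zero_of_not_dvd
    obtain ⟨w, hw⟩ := hmo
    omega
  have hv1 : padicValNat 2 (q ^ m - 1) = padicValNat 2 (q - 1) := by
    rw [← hQS, padicValNat.mul (by omega) hS0.ne', hSodd, add_zero]
  have hlte := padicValNat.pow_two_sub_one (x := q) (n := m + m) (by omega) h2 (by omega)
    ⟨m, rfl⟩
  have hprod : q ^ (m + m) - 1 = (q ^ m - 1) * (q ^ m + 1) := by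
    rw [pow_add]
    obtain ⟨y, hy⟩ : ∃ y, q ^ m = y + 1 := ⟨q ^ m - 1, by omega⟩
    rw [hy, Nat.add_sub_cancel]
    have : (y + 1) * (y + 1) = y * (y + 1 + 1) + 1 := by ring
    omega
  have hmodd : padicValNat 2 m = 0 := by
    apply padicValNat.eq_zero_of_not_dvd
    obtain ⟨w, hw⟩ := hmo
    omega
  rw [hprod, padicValNat.mul (by omega) (by omega), hv1, val_double m hm, hmodd, hT,
    padicValNat.mul (by omega) hT0] at hlte
  have hTodd : padicValNat 2 T = 0 := by omega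
  -- the full quotient
  have hfull : (q ^ (m + m) - 1) / (q + 1) = (q ^ m - 1) * T := by
    apply Nat.div_eq_of_eq_mul_right (by omega)
    rw [hprod, hT]
    ring
  rw [hfull] at hdvd
  have h2N : 2 ∣ q ^ m - 1 := by
    have : 1 ≤ padicValNat 2 (q - 1) := by
      apply one_le_padicValNat_of_dvd (by omega)
      obtain ⟨w, hw⟩ := hq
      exact ⟨w, by omega⟩
    apply dvd_of_one_le_padicValNat
    omega
  have h1 := tp_nec (q ^ m - 1) (q + 1) T e h2N (by omega) hT0 he hdvd hN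
  have hq1 : 1 ≤ padicValNat 2 (q + 1) := by
    apply one_le_padicValNat_of_dvd (by omega)
    obtain ⟨w, hw⟩ := hq
    exact ⟨w + 1, by omega⟩
  omega

end Cfsg.Agent.Helper8.PSUSing
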