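import Cfsg.Agent.Helper8.PSUSingG
import Cfsg.Agent.Helper8.PSUSingF
import Cfsg.Agent.S2904
set_option autoImplicit false

/-!
Elements of order `q ^ m + (-1) ^ m` in `PSU_{2m}(q)`, `q` odd.
-/

namespace Cfsg.Agent.Helper8.PSUSing

open Polynomial Matrix Cfsg Cfsg.Agent.Helper8.GUOrder Cfsg.Agent.Helper8.SUCenter
  Cfsg.Agent.Helper8.AutSU Cfsg.Agent.Helper8.PS3 Cfsg.Agent.Helper8.PGraph
  Cfsg.Agent.Helper8.PU3

/-- powers in `ZMod r` and divisibility -/
theorem zmod_pow_eq_one_iff (r q k : ℕ) (hq : 1 ≤ q) :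
    ((q : ZMod r)) ^ k = 1 ↔ r ∣ q ^ k - 1 := by
  have h1 : 1 ≤ q ^ k := Nat.one_le_pow _ _ hq
  have e1 : q ^ k = (q ^ k - 1) + 1 := by omega
  rw [← Nat.cast_pow]
  conv_lhs => rw [e1, Nat.cast_add, Nat.cast_one, add_eq_right, ZMod.natCast_eq_zero_iff]

theorem zmod_pow_eq_neg_one_iff (r q k : ℕ) :
    ((q : ZMod r)) ^ k = -1 ↔ r ∣ q ^ k + 1 := by
  rw [← ZMod.natCast_eq_zero_iff, Nat.cast_add, Nat.cast_pow, Nat.cast_one, eq_neg_iff_add_eq_zero]

/-- the order of `q` modulo a primitive prime divisor -/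
theorem orderOf_zmod (r q n : ℕ) (hq : 1 ≤ q) (hn : 0 < n) (hrd : r ∣ q ^ n - 1)
    (hprim : ∀ k : ℕ, 0 < k → k < n → ¬ r ∣ q ^ k - 1) : orderOf (q : ZMod r) = n := by
  rw [orderOf_eq_iff hn]
  refine ⟨(zmod_pow_eq_one_iff r q n hq).mpr hrd, ?_⟩
  intro k hk hk0 h
  exact hprim k hk0 hk ((zmod_pow_eq_one_iff r q k hq).mp h)

/-- the hypotheses on the prime, `m` even -/
theorem prime_hyps_even (q m r : ℕ) (hq3 : 3 ≤ q) (hm : 2 ≤ m) (hme : Even m) (hr : r.Prime)
    (hrd : r ∣ q ^ (m + m) - 1) (hprim : ∀ k : ℕ, 0 < k → k < m + m → ¬ r ∣ q ^ k - 1) :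
    (∀ i : ℕ, 0 < i → i < m → ¬ r ∣ (q ^ 2) ^ i - 1) ∧ (∀ i : ℕ, ¬ r ∣ q ^ (2 * i) + q) ∧
      ¬ r ∣ q + 1 := by
  have hord := orderOf_zmod r q (m + m) (by omega) (by omega) hrd hprim
  have hrq : ¬ r ∣ q := by
    intro h
    have h1 : r ∣ q ^ (m + m) := dvd_trans h (dvd_pow_self _ (by omega))
    have h2 : 1 ≤ q ^ (m + m) := Nat.one_le_pow _ _ (by omega)
    have h3 : r ∣ q ^ (m + m) - (q ^ (m + m) - 1) := Nat.dvd_sub h1 hrd
    have h4 : q ^ (m + m) - (q ^ (m + m) - 1) = 1 := by omega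
    rw [h4] at h3
    exact hr.one_lt.ne' (Nat.dvd_one.mp h3)
  have hq1 : ¬ r ∣ q + 1 := by
    intro h
    apply hprim 2 (by omega) (by omega)
    refine dvd_trans h ⟨q - 1, ?_⟩
    obtain ⟨s, hs⟩ : ∃ s, q = s + 1 := ⟨q - 1, by omega⟩
    rw [hs, Nat.add_sub_cancel]
    have : (s + 1) ^ 2 = (s + 1 + 1) * s + 1 := by ring
    omega
  refine ⟨?_, ?_, hq1⟩
  · intro i hi0 him
    rw [← pow_mul]
    exact hprim (2 * i) (by omega) (by omega)
  · intro i h
    rcases Nat.eq_zero_or_pos i with h0 | h0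
    · subst h0
      rw [mul_zero, pow_zero, add_comm] at h
      exact hq1 h
    · have e1 : q ^ (2 * i) + q = q * (q ^ (2 * i - 1) + 1) := by
        have : 2 * i = (2 * i - 1) + 1 := by omega
        conv_lhs => rw [this, pow_succ]
        ring
      rw [e1] at h
      rcases (Nat.Prime.dvd_mul hr).mp h with h1 | h1
      · exact hrq h1
      · rw [← zmod_pow_eq_neg_one_iff] at h1
        have h2 : ((q : ZMod r)) ^ (2 * (2 * i - 1)) = 1 := by
          rw [mul_comm, pow_mul, h1]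
          norm_num
        have h3 := orderOf_dvd_of_pow_eq_one h2
        rw [hord] at h3
        have h4 : 2 * m ∣ 2 * (2 * i - 1) := by
          have : m + m = 2 * m := by ring
          rw [← this]
          exact h3
        have h5 : m ∣ 2 * i - 1 := Nat.dvd_of_mul_dvd_mul_left (by omega) h4
        obtain ⟨t, ht⟩ := hme
        obtain ⟨w, hw⟩ := h5
        rw [ht] at hw
        have : 2 * i - 1 = 2 * (t * w) := by rw [hw]; ring
        omega

/-- the hypotheses on the prime, `m` odd -/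
theorem prime_hyps_odd (q m r : ℕ) (hq3 : 3 ≤ q) (hqodd : Odd q) (hm : 3 ≤ m) (hmo : Odd m)
    (hr : r.Prime) (hrd : r ∣ q ^ m - 1)
    (hprim : ∀ k : ℕ, 0 < k → k < m → ¬ r ∣ q ^ k - 1) :
    (∀ i : ℕ, 0 < i → i < m → ¬ r ∣ (q ^ 2) ^ i - 1) ∧ (∀ i : ℕ, ¬ r ∣ q ^ (2 * i) + q) ∧
      ¬ r ∣ q + 1 := by
  have hord := orderOf_zmod r q m (by omega) (by omega) hrd hprim
  have hcop : Nat.Coprime m 2 := by
    rw [Nat.coprime_comm, Nat.Prime.coprime_iff_not_dvd Nat.prime_two]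
    obtain ⟨w, hw⟩ := hmo
    omega
  have hrq : ¬ r ∣ q := by
    intro h
    have h1 : r ∣ q ^ m := dvd_trans h (dvd_pow_self _ (by omega))
    have h2 : 1 ≤ q ^ m := Nat.one_le_pow _ _ (by omega)
    have h3 : r ∣ q ^ m - (q ^ m - 1) := Nat.dvd_sub h1 hrd
    have h4 : q ^ m - (q ^ m - 1) = 1 := by omega
    rw [h4] at h3
    exact hr.one_lt.ne' (Nat.dvd_one.mp h3)
  have hr2 : r ≠ 2 := by
    rintro rfl
    apply hprim 1 (by omega) (by omega)
    rw [pow_one]
    obtain ⟨w, hw⟩ := hqodd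
    exact ⟨w, by omega⟩
  have hH1 : ∀ i : ℕ, 0 < i → i < m → ¬ r ∣ (q ^ 2) ^ i - 1 := by
    intro i hi0 him h
    rw [← pow_mul, ← zmod_pow_eq_one_iff r q (2 * i) (by omega)] at h
    have h3 := orderOf_dvd_of_pow_eq_one h
    rw [hord, mul_comm] at h3
    have h4 := Nat.Coprime.dvd_of_dvd_mul_right hcop h3
    have := Nat.le_of_dvd hi0 h4
    omega
  have hq1 : ¬ r ∣ q + 1 := by
    intro h
    apply hH1 1 (by omega) (by omega)
    rw [pow_one]
    refine dvd_trans h ⟨q - 1, ?_⟩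
    obtain ⟨s, hs⟩ : ∃ s, q = s + 1 := ⟨q - 1, by omega⟩
    rw [hs, Nat.add_sub_cancel]
    have : (s + 1) ^ 2 = (s + 1 + 1) * s + 1 := by ring
    omega
  refine ⟨hH1, ?_, hq1⟩
  intro i h
  rcases Nat.eq_zero_or_pos i with h0 | h0
  · subst h0
    rw [mul_zero, pow_zero, add_comm] at h
    exact hq1 h
  · have e1 : q ^ (2 * i) + q = q * (q ^ (2 * i - 1) + 1) := by
      have : 2 * i = (2 * i - 1) + 1 := by omega
      conv_lhs => rw [this, pow_succ]
      ring
    rw [e1] at h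
    rcases (Nat.Prime.dvd_mul hr).mp h with h1 | h1
    · exact hrq h1
    · rw [← zmod_pow_eq_neg_one_iff] at h1
      have h2 : ((q : ZMod r)) ^ (2 * (2 * i - 1)) = 1 := by
        rw [mul_comm, pow_mul, h1]
        norm_num
      have h3 := orderOf_dvd_of_pow_eq_one h2
      rw [hord, mul_comm] at h3
      have h4 := Nat.Coprime.dvd_of_dvd_mul_right hcop h3
      rw [← hord, orderOf_dvd_iff_pow_eq_one, h1] at h4
      have h5 : ((2 : ℕ) : ZMod r) = 0 := by
        have : (1 : ZMod r) + 1 = 0 := by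
          nth_rewrite 1 [← h4]
          norm_num
        rw [← this]
        norm_num
      rw [ZMod.natCast_eq_zero_iff] at h5
      exact hr2 ((Nat.prime_dvd_prime_iff_eq hr Nat.prime_two).mp h5)

variable {K : Type*} [Field K] [Fintype K] {q : ℕ} [hF : Fact (Fintype.card K = q ^ 2)]

theorem char_coprime_pow_add (p : ℕ) [Fact p.Prime] [CharP K p] (m : ℕ) (hm : 1 ≤ m) :
    p.Coprime (q ^ m + 1) := by
  have hp : p.Prime := Fact.out
  rw [hp.coprime_iff_not_dvd]
  intro h1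
  have h2 : p ∣ q ^ m := dvd_trans (char_dvd_q (K := K) p) (dvd_pow_self _ (by omega))
  have h3 : p ∣ q ^ m + 1 - q ^ m := Nat.dvd_sub h1 h2
  rw [Nat.add_sub_cancel_left] at h3
  exact hp.one_lt.ne' (Nat.dvd_one.mp h3)

theorem char_coprime_pow_sub (p : ℕ) [Fact p.Prime] [CharP K p] (m : ℕ) (hm : 1 ≤ m) :
    p.Coprime (q ^ m - 1) := by
  have hp : p.Prime := Fact.out
  have hq2 : 2 ≤ q := two_le_q' (K := K)
  rw [hp.coprime_iff_not_dvd]
  intro h1
  have h2 : p ∣ q ^ m := dvd_trans (char_dvd_q (K := K) p) (dvd_pow_self _ (by omega))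
  have h0 : 1 ≤ q ^ m := Nat.one_le_pow _ _ (by omega)
  have h3 : p ∣ q ^ m - (q ^ m - 1) := Nat.dvd_sub h2 h1
  have h4 : q ^ m - (q ^ m - 1) = 1 := by omega
  rw [h4] at h3
  exact hp.one_lt.ne' (Nat.dvd_one.mp h3)

omit hF [Field K] [Fintype K] in
theorem add_one_dvd (hq2 : 2 ≤ q) (m : ℕ) : q + 1 ∣ q ^ (m + m) - 1 := by
  have h2 : q + 1 ∣ q ^ 2 - 1 := by
    refine ⟨q - 1, ?_⟩
    obtain ⟨s, hs⟩ : ∃ s, q = s + 1 := ⟨q - 1, by omega⟩
    rw [hs, Nat.add_sub_cancel]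
    have : (s + 1) ^ 2 = (s + 1 + 1) * s + 1 := by ring
    omega
  have h3 : q ^ 2 - 1 ∣ (q ^ 2) ^ m - 1 := by
    have := Nat.sub_dvd_pow_sub_pow (q ^ 2) 1 m
    rw [one_pow] at this
    exact this
  have h4 : (q ^ 2) ^ m = q ^ (m + m) := by
    rw [← pow_mul]
    congr 1
    omega
  rw [h4] at h3
  exact dvd_trans h2 h3

/-- the criterion -/
theorem psu_half_iff (hqodd : Odd q) (m : ℕ) (hm : 2 ≤ m) :
    (∃ g : PSU (m + m) K q, orderOf g = if Even m then q ^ m + 1 else q ^ m - 1) ↔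
      padicValNat 2 (q + 1) < padicValNat 2 (m + m) := by
  obtain ⟨p, hp⟩ := CharP.exists K
  have hpp : Fact p.Prime := ⟨CharP.char_is_prime K p⟩
  have hq2 : 2 ≤ q := two_le_q' (K := K)
  have hq3 : 3 ≤ q := by
    obtain ⟨w, hw⟩ := hqodd
    omega
  have hqm : 1 ≤ q ^ m := Nat.one_le_pow _ _ (by omega)
  by_cases hme : Even m
  · rw [if_pos hme]
    obtain ⟨r, hr, hrd, hprim⟩ := Cfsg.Agent.S2904.result q (m + m) (by omega)
      (by omega) (by omega) (by omega)
    obtain ⟨hH1, hH2, hrq⟩ := prime_hyps_even q m r hq3 hm hme hr hrd hprim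
    have hrN : r ∣ q ^ m + 1 := by
      have e1 : q ^ (m + m) - 1 = (q ^ m - 1) * (q ^ m + 1) := by
        rw [pow_add]
        obtain ⟨y, hy⟩ : ∃ y, q ^ m = y + 1 := ⟨q ^ m - 1, by omega⟩
        rw [hy, Nat.add_sub_cancel]
        have : (y + 1) * (y + 1) = y * (y + 1 + 1) + 1 := by ring
        omega
      rw [e1] at hrd
      rcases (Nat.Prime.dvd_mul hr).mp hrd with h1 | h1
      · exact absurd h1 (hprim m (by omega) (by omega))
      · exact h1
    constructor
    · rintro ⟨g, hg⟩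
      obtain ⟨e, he0, hedvd, heN⟩ := psu_order_nec p hqodd (by omega) (q ^ m + 1) r hr hH1 hH2 hrN
        (by positivity) (char_coprime_pow_add (K := K) p m (by omega)) hrq g hg
      exact arithU_nec_even q m e hqodd hq3 (by omega) hme he0 hedvd heN
    · intro h
      obtain ⟨h1, h2⟩ := arithU_suff_even q m hqodd hq3 (by omega) hme h
      set e := (q ^ m + 1) * 2 ^ padicValNat 2 (q + 1) with he
      have he1 : 1 < e := by
        have : 0 < 2 ^ padicValNat 2 (q + 1) := by positivity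
        calc 1 < q ^ m + 1 := by omega
          _ = (q ^ m + 1) * 1 := (mul_one _).symm
          _ ≤ e := Nat.mul_le_mul_left _ this
      have hedvd : e ∣ q ^ (m + m) - 1 := dvd_trans h1 (Nat.div_dvd_of_dvd (add_one_dvd hq2 m))
      have hord : orderOf (((q ^ 2 : ℕ) : ℕ) : ZMod e) = m := by
        rw [orderOf_eq_iff (by omega)]
        constructor
        · rw [zmod_pow_eq_one_iff e (q ^ 2) m (Nat.one_le_pow _ _ (by omega)), ← pow_mul]
          have : 2 * m = m + m := by ring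
          rw [this]
          exact hedvd
        · intro k hk hk0 h3
          rw [zmod_pow_eq_one_iff e (q ^ 2) k (Nat.one_le_pow _ _ (by omega)), ← pow_mul] at h3
          exact hprim (2 * k) (by omega) (by omega)
            (dvd_trans hrN (dvd_trans (Dvd.intro _ rfl) h3))
      obtain ⟨x, hx⟩ := psu_order_suff (K := K) p hqodd (by omega) e he1 hord h1
      exact ⟨x, by rw [hx, h2]⟩
  · rw [if_neg hme]
    have hmo : Odd m := Nat.not_even_iff_odd.mp hme
    have hm3 : 3 ≤ m := by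
      obtain ⟨w, hw⟩ := hmo
      omega
    have hrhs : ¬ padicValNat 2 (q + 1) < padicValNat 2 (m + m) := by
      rw [Cfsg.Agent.Helper8.PSLSing.val_double m (by omega)]
      have h1 : padicValNat 2 m = 0 := by
        apply padicValNat.eq_zero_of_not_dvd
        obtain ⟨w, hw⟩ := hmo
        omega
      have h2 : 1 ≤ padicValNat 2 (q + 1) := by
        apply one_le_padicValNat_of_dvd (by omega)
        obtain ⟨w, hw⟩ := hqodd
        exact ⟨w + 1, by omega⟩
      omega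
    constructor
    · rintro ⟨g, hg⟩
      exfalso
      obtain ⟨r, hr, hrd, hprim⟩ := Cfsg.Agent.S2904.result q m (by omega)
        (by omega) (by omega) (by omega)
      obtain ⟨hH1, hH2, hrq⟩ := prime_hyps_odd q m r hq3 hqodd hm3 hmo hr hrd hprim
      have hN0 : 0 < q ^ m - 1 := by
        have : q ^ 1 ≤ q ^ m := Nat.pow_le_pow_right (by omega) (by omega)
        rw [pow_one] at this
        omega
      obtain ⟨e, he0, hedvd, heN⟩ := psu_order_nec p hqodd (by omega) (q ^ m - 1) r hr hH1 hH2 hrd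
        hN0 (char_coprime_pow_sub (K := K) p m (by omega)) hrq g hg
      exact arithU_odd q m e hqodd hq3 (by omega) hmo he0 hedvd heN
    · intro h
      exact absurd h hrhs

end Cfsg.Agent.Helper8.PSUSing
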