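import Cfsg.Agent.Helper8.SemiSSL
set_option autoImplicit false

namespace Cfsg.Agent.Helper8.SemiS

open Polynomial Module Matrix

variable {F : Type*} [Field F] [Fintype F]

/-- monic polynomials of degree `n` with prescribed constant coefficient -/
abbrev PolyC (F : Type*) [Field F] (n : ℕ) (c : F) : Type _ :=
  {f : F[X] // f.Monic ∧ f.natDegree = n ∧ f.coeff 0 = c}

theorem card_polyC (n : ℕ) (hn : 1 ≤ n) (c : F) :
    Nat.card (PolyC F n c) = Fintype.card F ^ (n - 1) := by
  classical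
  obtain ⟨m, rfl⟩ : ∃ m, n = m + 1 := ⟨n - 1, by omega⟩
  let E : {f : F[X] // f.Monic ∧ f.natDegree = m + 1} ≃ (Fin (m + 1) → F) :=
    (monicEquivDegreeLT (m + 1)).trans (degreeLTEquiv F (m + 1)).toEquiv
  have hE : ∀ f : {f : F[X] // f.Monic ∧ f.natDegree = m + 1}, E f 0 = f.1.coeff 0 := by
    rintro ⟨f, hf1, hf2⟩
    change (f.eraseLead).coeff 0 = f.coeff 0
    rw [Polynomial.eraseLead_coeff_of_ne]
    rw [hf2]
    omega
  have e1 : PolyC F (m + 1) c ≃ {v : Fin (m + 1) → F // v 0 = c} :=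
    { toFun := fun f => ⟨E ⟨f.1, f.2.1, f.2.2.1⟩, by rw [hE]; exact f.2.2.2⟩
      invFun := fun v => ⟨(E.symm v.1).1, (E.symm v.1).2.1, (E.symm v.1).2.2, by
        have := hE (E.symm v.1)
        rw [Equiv.apply_symm_apply] at this
        rw [← this]
        exact v.2⟩
      left_inv := by
        rintro ⟨f, hf1, hf2, hf3⟩
        apply Subtype.ext
        simp only
        have : E.symm (E ⟨f, hf1, hf2⟩) = ⟨f, hf1, hf2⟩ := Equiv.symm_apply_apply _ _
        rw [this]
      right_inv := by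
        rintro ⟨v, hv⟩
        apply Subtype.ext
        simp only
        exact Equiv.apply_symm_apply E v }
  rw [Nat.card_congr e1, Nat.card_eq_fintype_card]
  have e2 : {v : Fin (m + 1) → F // v 0 = c} ≃ (Fin m → F) :=
    { toFun := fun v => Fin.tail v.1
      invFun := fun w => ⟨Fin.cons c w, by simp⟩
      left_inv := by
        rintro ⟨v, hv⟩
        apply Subtype.ext
        subst hv
        simp
      right_inv := by
        intro w
        simp }
  rw [Fintype.card_congr e2, Fintype.card_fun, Fintype.card_fin, Nat.add_sub_cancel]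

theorem sl_charpoly_mem (n : ℕ) (g : Matrix.SpecialLinearGroup (Fin n) F) :
    (g : Matrix (Fin n) (Fin n) F).charpoly.Monic ∧
      (g : Matrix (Fin n) (Fin n) F).charpoly.natDegree = n ∧
      (g : Matrix (Fin n) (Fin n) F).charpoly.coeff 0 = (-1) ^ n := by
  refine ⟨Matrix.charpoly_monic _, ?_, ?_⟩
  · rw [Matrix.charpoly_natDegree_eq_dim, Fintype.card_fin]
  · have h3 := Matrix.det_eq_sign_charpoly_coeff (g : Matrix (Fin n) (Fin n) F)
    rw [g.2, Fintype.card_fin] at h3
    have h4 : ((-1 : F) ^ n) * (-1) ^ n = 1 := by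
      rw [← mul_pow]; simp
    calc (g : Matrix (Fin n) (Fin n) F).charpoly.coeff 0
        = ((-1 : F) ^ n * (-1) ^ n) * (g : Matrix (Fin n) (Fin n) F).charpoly.coeff 0 := by
          rw [h4, one_mul]
      _ = (-1) ^ n * ((-1) ^ n * (g : Matrix (Fin n) (Fin n) F).charpoly.coeff 0) := by ring
      _ = (-1) ^ n := by rw [← h3, mul_one]

theorem card_pprime_classes_SL {q : ℕ} (hq : Fintype.card F = q) (p : ℕ) [Fact p.Prime]
    [CharP F p] (n : ℕ) (hn : 1 ≤ n) :
    Nat.card {c : ConjClasses (Matrix.SpecialLinearGroup (Fin n) F) //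
      ∃ g : Matrix.SpecialLinearGroup (Fin n) F, ConjClasses.mk g = c ∧ (orderOf g).Coprime p} =
      q ^ (n - 1) := by
  classical
  rw [← hq, ← card_polyC n hn ((-1 : F) ^ n)]
  apply Nat.card_congr
  let rep : {c : ConjClasses (Matrix.SpecialLinearGroup (Fin n) F) //
      ∃ g : Matrix.SpecialLinearGroup (Fin n) F, ConjClasses.mk g = c ∧ (orderOf g).Coprime p} →
      Matrix.SpecialLinearGroup (Fin n) F :=
    fun c => Classical.choose c.2
  have hrep1 : ∀ c, ConjClasses.mk (rep c) = c.1 := fun c => (Classical.choose_spec c.2).1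
  have hrep2 : ∀ c, (orderOf (rep c)).Coprime p := fun c => (Classical.choose_spec c.2).2
  refine Equiv.ofBijective
    (fun c => (⟨((rep c : Matrix.SpecialLinearGroup (Fin n) F) :
      Matrix (Fin n) (Fin n) F).charpoly, sl_charpoly_mem n _⟩ : PolyC F n ((-1 : F) ^ n)))
      ⟨?_, ?_⟩
  · intro c c' h
    have h1 : ((rep c : Matrix.SpecialLinearGroup (Fin n) F) : Matrix (Fin n) (Fin n) F).charpoly =
        ((rep c' : Matrix.SpecialLinearGroup (Fin n) F) : Matrix (Fin n) (Fin n) F).charpoly :=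
      congrArg Subtype.val h
    apply Subtype.ext
    rw [← hrep1 c, ← hrep1 c', ConjClasses.mk_eq_mk_iff_isConj]
    exact sl_isConj_of_charpoly_eq p n _ _ (hrep2 c) (hrep2 c') h1
  · rintro ⟨f, hf1, hf2, hf3⟩
    have hf0 : f.coeff 0 ≠ 0 := by
      rw [hf3]
      exact pow_ne_zero _ (neg_ne_zero.mpr one_ne_zero)
    obtain ⟨g₀, hg1, hg2⟩ := exists_realization p n f hf1 hf2 hf0
    have hdet : (g₀ : Matrix (Fin n) (Fin n) F).det = 1 := by
      rw [Matrix.det_eq_sign_charpoly_coeff, hg1, hf3, Fintype.card_fin, ← mul_pow]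
      simp
    let g₁ : Matrix.SpecialLinearGroup (Fin n) F := ⟨(g₀ : Matrix (Fin n) (Fin n) F), hdet⟩
    have hg₁ : Matrix.SpecialLinearGroup.toGL g₁ = g₀ := by
      apply Units.ext
      rfl
    have hord : orderOf g₁ = orderOf g₀ := by
      rw [← hg₁]
      exact (orderOf_injective (Matrix.SpecialLinearGroup.toGL)
        Matrix.SpecialLinearGroup.toGL_injective g₁).symm
    let c : {c : ConjClasses (Matrix.SpecialLinearGroup (Fin n) F) //
      ∃ g : Matrix.SpecialLinearGroup (Fin n) F, ConjClasses.mk g = c ∧ (orderOf g).Coprime p} :=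
      ⟨ConjClasses.mk g₁, g₁, rfl, by rw [hord]; exact hg2⟩
    refine ⟨c, ?_⟩
    apply Subtype.ext
    change ((rep c : Matrix.SpecialLinearGroup (Fin n) F) : Matrix (Fin n) (Fin n) F).charpoly = f
    have h3 : IsConj g₁ (rep c) := ConjClasses.mk_eq_mk_iff_isConj.mp (hrep1 c).symm
    rw [isConj_iff] at h3
    obtain ⟨x, hx⟩ := h3
    rw [← hx, ← hg1]
    change ((x : Matrix (Fin n) (Fin n) F) * (g₀ : Matrix (Fin n) (Fin n) F) *
      ((x⁻¹ : Matrix.SpecialLinearGroup (Fin n) F) : Matrix (Fin n) (Fin n) F)).charpoly = _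
    have key : ((x : Matrix (Fin n) (Fin n) F) * (g₀ : Matrix (Fin n) (Fin n) F) *
        ((x⁻¹ : Matrix.SpecialLinearGroup (Fin n) F) : Matrix (Fin n) (Fin n) F)) =
        ((Matrix.SpecialLinearGroup.toGL x : GL (Fin n) F) : Matrix (Fin n) (Fin n) F) *
          (g₀ : Matrix (Fin n) (Fin n) F) *
          (((Matrix.SpecialLinearGroup.toGL x)⁻¹ : GL (Fin n) F) : Matrix (Fin n) (Fin n) F) := by
      rw [← map_inv]
      rfl
    rw [key, Matrix.coe_units_inv, Matrix.charpoly_units_conj]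

end Cfsg.Agent.Helper8.SemiS
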