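import Mathlib
import Cfsg.Agent.Helper8.SpXBlocks
import Cfsg.Agent.Helper8.PGraphPoly
set_option autoImplicit false

/-! Polynomial lemmas on palindromic polynomials used to realise them as characteristic
polynomials of symplectic matrices. -/

namespace Cfsg.Agent.Helper8.SpX

open Polynomial
open Cfsg.Agent.Helper8.SpG
open Cfsg.Agent.Helper8.PGraph

variable {F : Type*} [Field F]

/-- quotient of palindromic polynomials -/
theorem reverse_of_mul {χ G χ' : F[X]} (h : χ = G * χ') (hχ : χ.reverse = χ) (hG : G.reverse = G)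
    (hG0 : G ≠ 0) : χ'.reverse = χ' := by
  have h1 : G * χ'.reverse = G * χ' := by
    rw [← h, ← hχ, h, Polynomial.reverse_mul_of_domain, hG]
  exact mul_left_cancel₀ hG0 h1

theorem coeff_zero_of_reverse {χ : F[X]} (hm : χ.Monic) (hχ : χ.reverse = χ) : χ.coeff 0 = 1 := by
  rw [← hχ, Polynomial.coeff_zero_reverse]
  exact hm

theorem reverse_mul_star (P : F[X]) (h0 : P.coeff 0 ≠ 0) : (P * star P).reverse = P * star P := by
  unfold star
  rw [Polynomial.reverse_mul_of_domain, Polynomial.reverse_mul_of_domain, Polynomial.reverse_C,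
    reverse_reverse_of_coeff_zero P h0]
  ring

theorem natDegree_mul_star (P : F[X]) (hP : P ≠ 0) (h0 : P.coeff 0 ≠ 0) :
    (P * star P).natDegree = 2 * P.natDegree := by
  rw [natDegree_mul hP (star_monic P h0).ne_zero, natDegree_star P h0]
  ring

/-- a monic polynomial dividing its reverse -/
theorem reverse_eq_of_dvd (P : F[X]) (hP : P.Monic) (h0 : P.coeff 0 ≠ 0) (hd : P ∣ P.reverse) :
    P.reverse = C (P.coeff 0) * P := by
  obtain ⟨c, hc⟩ := hd
  have hrev0 : P.reverse ≠ 0 := by
    intro h
    have := coeff_zero_reverse_ne P hP.ne_zero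
    rw [h, coeff_zero] at this
    exact this rfl
  have hc0 : c ≠ 0 := by
    rintro rfl
    rw [mul_zero] at hc
    exact hrev0 hc
  have h1 := natDegree_reverse_of_coeff_zero P h0
  rw [hc, natDegree_mul hP.ne_zero hc0] at h1
  have h2 : c.natDegree = 0 := by omega
  obtain ⟨c₀, rfl⟩ := natDegree_eq_zero.mp h2
  have h3 : c₀ = P.coeff 0 := by
    have h4 := congrArg Polynomial.leadingCoeff hc
    rw [reverse_leadingCoeff, trailingCoeff,
      Polynomial.natTrailingDegree_eq_zero.mpr (Or.inr h0), leadingCoeff_mul, hP.leadingCoeff,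
      one_mul, leadingCoeff_C] at h4
    exact h4.symm
  rw [hc, h3, mul_comm]

theorem star_eq_of_dvd (P : F[X]) (hP : P.Monic) (h0 : P.coeff 0 ≠ 0) (hd : P ∣ P.reverse) :
    star P = P := by
  unfold star
  rw [reverse_eq_of_dvd P hP h0 hd, ← mul_assoc, ← C_mul, inv_mul_cancel₀ h0, map_one, one_mul]

/-- a self-reciprocal irreducible polynomial of degree at least two is palindromic -/
theorem reverse_eq_self_of_dvd (P : F[X]) (hP : P.Monic) (hirr : Irreducible P)
    (h0 : P.coeff 0 ≠ 0) (hd : P ∣ P.reverse) (hdeg : 2 ≤ P.natDegree) : P.reverse = P := by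
  have h1 := reverse_eq_of_dvd P hP h0 hd
  set c := P.coeff 0 with hc
  -- c ^ 2 = 1
  have h2 : c * c = 1 := by
    have h3 := congrArg Polynomial.reverse h1
    rw [Polynomial.reverse_mul_of_domain, Polynomial.reverse_C, reverse_reverse_of_coeff_zero P h0,
      h1, ← mul_assoc, ← C_mul] at h3
    have h4 := congrArg Polynomial.leadingCoeff h3
    rw [leadingCoeff_mul, leadingCoeff_C, hP.leadingCoeff, mul_one] at h4
    exact h4.symm
  by_cases hc1 : c = 1
  · rw [h1, hc1, map_one, one_mul]
  · exfalso
    -- evaluate at 1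
    have h5 : P.reverse.eval 1 = P.eval 1 := by
      have : Invertible (1 : F) := invertibleOne
      have := Polynomial.eval₂_reverse_mul_pow (RingHom.id F) (1 : F) P
      rw [invOf_one, one_pow, mul_one] at this
      exact this
    rw [h1, eval_mul, eval_C] at h5
    have h6 : (c - 1) * P.eval 1 = 0 := by rw [sub_mul, h5, one_mul, sub_self]
    have h7 : P.eval 1 = 0 := (mul_eq_zero.mp h6).resolve_left (sub_ne_zero.mpr hc1)
    have h8 : (X - C (1 : F)) ∣ P := Polynomial.dvd_iff_isRoot.mpr h7
    have h9 := (irreducible_X_sub_C (1 : F)).associated_of_dvd hirr h8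
    have h10 := Polynomial.natDegree_eq_of_degree_eq (Polynomial.degree_eq_degree_of_associated h9)
    rw [natDegree_X_sub_C] at h10
    omega

/-- a self-reciprocal linear factor of a palindromic polynomial of even degree occurs twice -/
theorem sq_dvd_of_linear (χ P : F[X]) (n : ℕ) (hdeg : χ.natDegree = 2 * n) (hχ : χ.reverse = χ)
    (hχ0 : χ ≠ 0)
    (hP : P.Monic) (hP1 : P.natDegree = 1) (h0 : P.coeff 0 ≠ 0) (hd : P ∣ P.reverse)
    (hPχ : P ∣ χ) : P * P ∣ χ := by
  obtain ⟨g, hg⟩ := hPχ
  have hg0 : g ≠ 0 := by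
    rintro rfl
    rw [mul_zero] at hg
    exact hχ0 hg
  rw [hg]
  apply mul_dvd_mul_left
  set c := P.coeff 0 with hc
  have h1 := reverse_eq_of_dvd P hP h0 hd
  have hPX : P = X + C c := hP.eq_X_add_C hP1
  -- c * c = 1
  have hcc : c * c = 1 := by
    have h3 := congrArg Polynomial.reverse h1
    rw [Polynomial.reverse_mul_of_domain, Polynomial.reverse_C, reverse_reverse_of_coeff_zero P h0,
      h1, ← mul_assoc, ← C_mul] at h3
    have h4 := congrArg Polynomial.leadingCoeff h3
    rw [leadingCoeff_mul, leadingCoeff_C, hP.leadingCoeff, mul_one] at h4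
    exact h4.symm
  -- relation for g
  have hgrev : g = C c * g.reverse := by
    have h2 : P * g = P * (C c * g.reverse) := by
      rw [← hg, ← hχ, hg, Polynomial.reverse_mul_of_domain, h1]
      ring
    exact mul_left_cancel₀ hP.ne_zero h2
  set D := g.natDegree with hD
  have hDodd : D + 1 = 2 * n := by
    have := congrArg Polynomial.natDegree hg
    rw [natDegree_mul hP.ne_zero hg0, hdeg, hP1] at this
    omega
  have hcoeff : ∀ k, k ≤ D → g.coeff k = c * g.coeff (D - k) := by
    intro k hk
    conv_lhs => rw [hgrev]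
    rw [coeff_C_mul, coeff_reverse, revAt_le hk]
  set a : F := -c with ha
  have haa : a ^ 2 = 1 := by rw [ha, neg_sq, pow_two, hcc]
  have hroot : g.eval a = 0 := by
    rw [eval_eq_sum_range]
    apply Finset.sum_involution (fun k _ => D - k)
    · intro k hk
      have hk' : k ≤ D := Nat.lt_succ_iff.mp (Finset.mem_range.mp hk)
      have e1 : g.coeff (D - k) = c * g.coeff k := by
        have := hcoeff (D - k) (Nat.sub_le _ _)
        rwa [Nat.sub_sub_self hk'] at this
      have e2 : a ^ (D - k) = a ^ (k + 1) := by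
        rw [pow_eq_pow_mod (D - k) haa, pow_eq_pow_mod (k + 1) haa]
        congr 1
        omega
      have hca : c * a = -1 := by rw [ha]; linear_combination -hcc
      rw [e1, e2, pow_succ]
      linear_combination (g.coeff k * a ^ k) * hca
    · intro k hk _ h
      have hk' : k ≤ D := Nat.lt_succ_iff.mp (Finset.mem_range.mp hk)
      omega
    · intro k hk
      exact Finset.mem_range.mpr (by omega)
    · intro k hk
      have hk' : k ≤ D := Nat.lt_succ_iff.mp (Finset.mem_range.mp hk)
      exact Nat.sub_sub_self hk'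
  rw [hPX]
  have : (X + C c : F[X]) = X - C a := by rw [ha, map_neg, sub_neg_eq_add]
  rw [this]
  exact Polynomial.dvd_iff_isRoot.mpr hroot

variable [Fintype F]

/-- an irreducible polynomial other than `X` divides `X ^ (q ^ deg - 1) - 1` -/
theorem dvd_X_pow_card_sub_one (P : F[X]) (hP : P.Monic) (hirr : Irreducible P)
    (h0 : P.coeff 0 ≠ 0) : P ∣ X ^ (Fintype.card F ^ P.natDegree - 1) - 1 := by
  have : Fact (Irreducible P) := ⟨hirr⟩
  have : Module.Finite F (AdjoinRoot P) := hP.finite_adjoinRoot
  have : Finite (AdjoinRoot P) := Module.finite_of_finite F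
  let _ : Fintype (AdjoinRoot P) := Fintype.ofFinite _
  rw [← root_pow_eq_one_iff]
  have hcard : Fintype.card (AdjoinRoot P) = Fintype.card F ^ P.natDegree := by
    rw [← Nat.card_eq_fintype_card, card_adjoinRoot P hP]
  rw [← hcard]
  apply FiniteField.pow_card_sub_one_eq_one
  intro hroot
  apply h0
  have h1 : P ∣ X := by
    rw [← AdjoinRoot.mk_eq_zero, AdjoinRoot.mk_X]
    exact hroot
  obtain ⟨r, hr⟩ := h1
  have h2 := congrArg (fun f : F[X] => f.coeff 0) hr
  simp only [coeff_X_zero, mul_coeff_zero] at h2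
  by_contra h3
  have h4 : r.coeff 0 = 0 := by
    rcases mul_eq_zero.mp h2.symm with h | h
    · exact absurd h h3
    · exact h
  have h5 : (X : F[X]) ∣ r := Polynomial.X_dvd_iff.mpr h4
  obtain ⟨r', rfl⟩ := h5
  have h6 : (X : F[X]) * 1 = X * (P * r') := by
    rw [mul_one]
    conv_lhs => rw [hr]
    ring
  have h7 := mul_left_cancel₀ Polynomial.X_ne_zero h6
  exact hirr.not_isUnit (IsUnit.of_mul_eq_one _ h7.symm)

end Cfsg.Agent.Helper8.SpX
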