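import Cfsg.Agent.Helper8.ConjGUB
import Cfsg.Agent.Helper8.SpXPoly
import Cfsg.Agent.Helper8.SemiSSLClasses
set_option autoImplicit false
set_option linter.unusedSectionVars false

/-!
The monic conjugate reciprocal of a polynomial over the field with `q ^ 2` elements, and the
characteristic polynomial of `(A*)⁻¹`.
-/

namespace Cfsg.Agent.Helper8.SUSemi

open Polynomial Matrix Cfsg Cfsg.Agent.Helper8.GUOrder Cfsg.Agent.Helper8.SUCenter
  Cfsg.Agent.Helper8.AutSU Cfsg.Agent.Helper8.PU3 Cfsg.Agent.Helper8.PSUSing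
  Cfsg.Agent.Helper8.RegSU Cfsg.Agent.Helper8.Wall

variable {K : Type*} [Field K] [Fintype K] {q : ℕ} [hF : Fact (Fintype.card K = q ^ 2)]

local notation "σ" => Polynomial.map (frobq K q)

/-- the monic conjugate reciprocal polynomial -/
noncomputable def ustar (P : K[X]) : K[X] := C ((P.coeff 0) ^ q)⁻¹ * sig (q := q) P

theorem ustar_mul (P Q : K[X]) :
    ustar (q := q) (P * Q) = ustar (q := q) P * ustar (q := q) Q := by
  unfold ustar
  rw [sig_mul, Polynomial.mul_coeff_zero, mul_pow, _root_.mul_inv, C_mul]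
  ring

theorem leadingCoeff_sig {P : K[X]} (h0 : P.coeff 0 ≠ 0) :
    (sig (q := q) P).leadingCoeff = (P.coeff 0) ^ q := by
  unfold sig
  rw [Polynomial.reverse_leadingCoeff, Polynomial.trailingCoeff,
    Polynomial.natTrailingDegree_eq_zero.mpr (Or.inr (coeff_zero_map_frobq h0)),
    Polynomial.coeff_map, frobq_apply]

theorem ustar_monic {P : K[X]} (h0 : P.coeff 0 ≠ 0) : (ustar (q := q) P).Monic := by
  unfold ustar Monic
  rw [leadingCoeff_mul, leadingCoeff_C, leadingCoeff_sig h0,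
    inv_mul_cancel₀ (pow_ne_zero q h0)]

theorem natDegree_ustar {P : K[X]} (h0 : P.coeff 0 ≠ 0) :
    (ustar (q := q) P).natDegree = P.natDegree := by
  unfold ustar
  rw [natDegree_C_mul (inv_ne_zero (pow_ne_zero q h0)), sig_natDegree h0]

theorem coeff_zero_sig (P : K[X]) : (sig (q := q) P).coeff 0 = (P.leadingCoeff) ^ q := by
  unfold sig
  rw [Polynomial.coeff_zero_reverse, Polynomial.leadingCoeff,
    natDegree_map_frobq, Polynomial.coeff_map, frobq_apply, Polynomial.leadingCoeff]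

theorem coeff_zero_ustar {P : K[X]} (hP : P.Monic) :
    (ustar (q := q) P).coeff 0 = ((P.coeff 0) ^ q)⁻¹ := by
  unfold ustar
  rw [Polynomial.coeff_C_mul, coeff_zero_sig, hP.leadingCoeff, one_pow, mul_one]

theorem coeff_zero_ustar_ne {P : K[X]} (hP : P.Monic) (h0 : P.coeff 0 ≠ 0) :
    (ustar (q := q) P).coeff 0 ≠ 0 := by
  rw [coeff_zero_ustar hP]
  exact inv_ne_zero (pow_ne_zero q h0)

theorem sig_C (a : K) : sig (q := q) (C a) = C (a ^ q) := by
  unfold sig
  rw [Polynomial.map_C, Polynomial.reverse_C, frobq_apply]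

theorem ustar_ustar {P : K[X]} (hP : P.Monic) (h0 : P.coeff 0 ≠ 0) :
    ustar (q := q) (ustar (q := q) P) = P := by
  have ha : ((P.coeff 0) ^ q)⁻¹ ≠ 0 := inv_ne_zero (pow_ne_zero q h0)
  have e1 : ustar (q := q) (C ((P.coeff 0) ^ q)⁻¹) = 1 := by
    unfold ustar
    rw [sig_C, Polynomial.coeff_C_zero, ← C_mul, inv_mul_cancel₀ (pow_ne_zero q ha), map_one]
  have e2 : ustar (q := q) (sig (q := q) P) = P := by
    unfold ustar
    rw [sig_sig h0, coeff_zero_sig, hP.leadingCoeff, one_pow, one_pow, inv_one, map_one, one_mul]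
  have e3 : ustar (q := q) P = C ((P.coeff 0) ^ q)⁻¹ * sig (q := q) P := rfl
  rw [e3, ustar_mul, e1, e2, one_mul]

theorem irreducible_ustar {P : K[X]} (hP : Irreducible P) (h0 : P.coeff 0 ≠ 0) :
    Irreducible (ustar (q := q) P) := by
  unfold ustar
  have hu : IsUnit (C ((P.coeff 0) ^ q)⁻¹ : K[X]) :=
    Polynomial.isUnit_C.mpr (isUnit_iff_ne_zero.mpr (inv_ne_zero (pow_ne_zero q h0)))
  rw [irreducible_isUnit_mul hu]
  unfold sig
  exact Cfsg.Agent.Helper8.SpG.irreducible_reverse _ (irreducible_map_frobq hP)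
    (coeff_zero_map_frobq h0)

variable {ι : Type*} [Fintype ι] [DecidableEq ι]

theorem charpoly_st (M : Matrix ι ι K) : (st (q := q) M).charpoly = σ M.charpoly := by
  unfold st
  rw [Matrix.charpoly_transpose, Matrix.charpoly_map]

theorem charpoly_st_inv {n : ℕ} (C : GL (Fin n) K) :
    (st (q := q) ((C⁻¹ : GL (Fin n) K) : Matrix (Fin n) (Fin n) K)).charpoly
      = ustar (q := q) (C : Matrix (Fin n) (Fin n) K).charpoly := by
  rw [charpoly_st, Cfsg.Agent.Helper8.SpX.charpoly_inv_eq_star]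
  unfold Cfsg.Agent.Helper8.SpX.star ustar sig
  rw [Polynomial.map_mul, Polynomial.map_C, frobq_apply, inv_pow]
  congr 1
  unfold Polynomial.reverse
  rw [natDegree_map_frobq, Polynomial.reflect_map]

/-- the characteristic polynomial of a unitary matrix is self-dual -/
theorem ustar_charpoly_of_unitary {n : ℕ} (G : GL (Fin n) K)
    (hG : st (q := q) (G : Matrix (Fin n) (Fin n) K) * (G : Matrix (Fin n) (Fin n) K) = 1) :
    ustar (q := q) (G : Matrix (Fin n) (Fin n) K).charpoly
      = (G : Matrix (Fin n) (Fin n) K).charpoly := by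
  rw [← charpoly_st_inv]
  congr 1
  -- `st G⁻¹ = G`
  have h1 : ((G⁻¹ : GL (Fin n) K) : Matrix (Fin n) (Fin n) K) * (G : Matrix (Fin n) (Fin n) K)
      = 1 := by
    rw [← Units.val_mul, inv_mul_cancel, Units.val_one]
  have h2 : st (q := q) (G : Matrix (Fin n) (Fin n) K) *
      st (q := q) ((G⁻¹ : GL (Fin n) K) : Matrix (Fin n) (Fin n) K) = 1 := by
    rw [← st_mul, h1, st_one]
  calc st (q := q) ((G⁻¹ : GL (Fin n) K) : Matrix (Fin n) (Fin n) K)
      = (G : Matrix (Fin n) (Fin n) K) * st (q := q) (G : Matrix (Fin n) (Fin n) K) *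
        st (q := q) ((G⁻¹ : GL (Fin n) K) : Matrix (Fin n) (Fin n) K) := by
        rw [mul_eq_one_comm.mp hG, Matrix.one_mul]
    _ = (G : Matrix (Fin n) (Fin n) K) := by rw [Matrix.mul_assoc, h2, Matrix.mul_one]

end Cfsg.Agent.Helper8.SUSemi
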