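import Mathlib
import Cfsg.Agent.Helper8.SUSemiA
import Cfsg.Agent.Helper8.PSUSingB
import Cfsg.Agent.Helper8.PSUSingH
import Cfsg.Agent.Helper8.PGraphPoly
set_option autoImplicit false
set_option linter.unusedSectionVars false

/-!
Which irreducible factors of `X ^ r - 1` over the field with `q ^ 2` elements are equal to their
monic conjugate reciprocal.
-/

namespace Cfsg.Agent.Helper8.GUR

open Polynomial Matrix Cfsg Cfsg.Agent.Helper8.GUOrder Cfsg.Agent.Helper8.SUCenter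
  Cfsg.Agent.Helper8.AutSU Cfsg.Agent.Helper8.PU3 Cfsg.Agent.Helper8.PSUSing
  Cfsg.Agent.Helper8.SUSemi Cfsg.Agent.Helper8.PGraph

/-- the order of `q ^ 2` modulo `r` -/
theorem orderOf_sq_zmod (r q i : ℕ) (hi : i = orderOf (q : ZMod r)) :
    orderOf (((q ^ 2 : ℕ) : ℕ) : ZMod r) = if Odd i then i else i / 2 := by
  rw [Nat.cast_pow, orderOf_pow' _ (by norm_num : (2 : ℕ) ≠ 0), ← hi]
  split_ifs with h
  · have h1 : Nat.gcd i 2 = 1 := Nat.coprime_two_right.mpr h
    rw [h1, Nat.div_one]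
  · have h2 : Even i := Nat.not_odd_iff_even.mp h
    have h1 : Nat.gcd i 2 = 2 := Nat.gcd_eq_right (even_iff_two_dvd.mp h2)
    rw [h1]

/-- if the order of `q` modulo `r` is `2` modulo `4`, an odd power of `q` is `-1` modulo `r` -/
theorem exists_odd_pow_of_mod4 (r q i : ℕ) (hr : r.Prime) (hi : i = orderOf (q : ZMod r))
    (h4 : i % 4 = 2) : ∃ k, r ∣ q ^ (2 * k + 1) + 1 := by
  have : Fact r.Prime := ⟨hr⟩
  refine ⟨i / 4, ?_⟩
  have hm : i = (2 * (i / 4) + 1) + (2 * (i / 4) + 1) := by omega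
  set m := 2 * (i / 4) + 1 with hm'
  rw [← zmod_pow_eq_neg_one_iff]
  have h2 : ((q : ZMod r) ^ m) * ((q : ZMod r) ^ m) = 1 := by
    rw [← pow_add, ← hm, hi, pow_orderOf_eq_one]
  rcases mul_self_eq_one_iff.mp h2 with h3 | h3
  · exfalso
    have h5 := orderOf_dvd_of_pow_eq_one h3
    rw [← hi] at h5
    have := Nat.le_of_dvd (by omega) h5
    omega
  · exact h3

/-- conversely -/
theorem mod4_of_dvd (r q i k : ℕ) (hr : r.Prime) (hr2 : r ≠ 2)
    (hi : i = orderOf (q : ZMod r)) (hi0 : 0 < i) (h : r ∣ q ^ (2 * k) + q) : i % 4 = 2 := by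
  have : Fact r.Prime := ⟨hr⟩
  have hr3 : 2 < r := lt_of_le_of_ne hr.two_le (Ne.symm hr2)
  have : Fact (2 < r) := ⟨hr3⟩
  have h1 : (q : ZMod r) ^ (2 * k) = -(q : ZMod r) := by
    rw [eq_neg_iff_add_eq_zero, ← Nat.cast_pow, ← Nat.cast_add, ZMod.natCast_eq_zero_iff]
    exact h
  set e := 2 * k + (i - 1) with he
  have h2 : (q : ZMod r) ^ e = -1 := by
    rw [he, pow_add, h1, neg_mul, ← pow_succ', Nat.sub_add_cancel hi0, hi, pow_orderOf_eq_one]
  have h3 : i ∣ 2 * e := by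
    rw [hi]
    apply orderOf_dvd_of_pow_eq_one
    rw [mul_comm, pow_mul, h2, neg_one_sq]
  have h4 : ¬ i ∣ e := by
    intro h5
    rw [hi] at h5
    have h6 := orderOf_dvd_iff_pow_eq_one.mp h5
    rw [h2] at h6
    exact ZMod.neg_one_ne_one h6
  rcases Nat.even_or_odd i with hev | hodd
  · obtain ⟨m, hm⟩ := hev
    have h5 : m ∣ e := by
      rw [hm] at h3
      have : m + m = 2 * m := by ring
      rw [this] at h3
      exact (Nat.mul_dvd_mul_iff_left (by norm_num)).mp h3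
    have heodd : Odd e := ⟨k + m - 1, by omega⟩
    obtain ⟨c, hc⟩ := h5
    rw [hc, Nat.odd_mul] at heodd
    obtain ⟨m', hm'⟩ := heodd.1
    omega
  · exfalso
    apply h4
    exact (Nat.Coprime.dvd_of_dvd_mul_left (Nat.coprime_two_right.mpr hodd) h3)

variable {K : Type*} [Field K] [Fintype K] {q : ℕ} [hF : Fact (Fintype.card K = q ^ 2)]

/-- if an odd `q`-power of the root is its inverse, the polynomial divides its conjugate
reciprocal -/
theorem dvd_sig_of_pow (p : ℕ) [Fact p.Prime] [CharP K p] (P : K[X])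
    [hirr : Fact (Irreducible P)] (hβ0 : AdjoinRoot.root P ≠ 0) (k : ℕ)
    (h : AdjoinRoot.root P ^ (q ^ (2 * k + 1) + 1) = 1) : P ∣ sig (q := q) P := by
  have hp : p.Prime := Fact.out
  obtain ⟨e, _, he⟩ := FiniteField.card K p
  have hqp : q ∣ p ^ (e : ℕ) := by
    rw [← he, hF.out]
    exact Dvd.intro_left _ (sq q).symm
  obtain ⟨f, _, hf⟩ := (Nat.dvd_prime_pow hp).mp hqp
  have : CharP (AdjoinRoot P) p := charP_of_injective_algebraMap
    (algebraMap K (AdjoinRoot P)).injective p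
  set β := AdjoinRoot.root P with hβ
  have h1 : eval₂ (algebraMap K (AdjoinRoot P)) β P = 0 := by
    rw [AdjoinRoot.algebraMap_eq, AdjoinRoot.eval₂_root]
  have h2 := congrArg (iterateFrobenius (AdjoinRoot P) p f) h1
  rw [map_zero, Polynomial.hom_eval₂] at h2
  have h3 : (iterateFrobenius (AdjoinRoot P) p f).comp (algebraMap K (AdjoinRoot P))
      = (algebraMap K (AdjoinRoot P)).comp (frobq K q) := by
    ext c
    simp only [RingHom.comp_apply, iterateFrobenius_def, frobq_apply, ← hf, ← map_pow]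
  rw [h3, ← Polynomial.eval₂_map, iterateFrobenius_def, ← hf] at h2
  have h4 : aeval (β ^ q) (P.map (frobq K q)) = 0 := h2
  have h5 : ((FiniteField.frobeniusAlgHom K (AdjoinRoot P)) ^ k) (β ^ q) = β⁻¹ := by
    rw [AlgHom.coe_pow, FiniteField.coe_frobeniusAlgHom, pow_iterate, hF.out]
    change (β ^ q) ^ (q ^ 2) ^ k = β⁻¹
    rw [← pow_mul, ← pow_mul, ← pow_succ']
    rw [pow_succ] at h
    exact eq_inv_of_mul_eq_one_left h
  have h6 : aeval (β⁻¹) (P.map (frobq K q)) = 0 := by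
    rw [← h5, aeval_algHom_apply, h4, map_zero]
  have hinv : Invertible (β⁻¹) := invertibleOfNonzero (inv_ne_zero hβ0)
  have h7 := (Polynomial.eval₂_reverse_eq_zero_iff (algebraMap K (AdjoinRoot P)) β⁻¹
    (P.map (frobq K q))).mpr h6
  have h8 : ⅟(β⁻¹) = β := by rw [invOf_eq_inv, inv_inv]
  rw [h8] at h7
  have h9 : aeval β (sig (q := q) P) = 0 := h7
  rw [hβ, AdjoinRoot.aeval_eq, AdjoinRoot.mk_eq_zero] at h9
  exact h9

theorem ustar_eq_of_dvd_sig (P : K[X]) (hP : P.Monic) (hirr : Irreducible P)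
    (h0 : P.coeff 0 ≠ 0) (h : P ∣ sig (q := q) P) : ustar (q := q) P = P := by
  have h1 : P ∣ ustar (q := q) P := dvd_mul_of_dvd_right h _
  have h2 : Irreducible (ustar (q := q) P) := irreducible_ustar hirr h0
  have hass : Associated P (ustar (q := q) P) := hirr.associated_of_dvd h2 h1
  exact (Polynomial.eq_of_monic_of_associated hP (ustar_monic h0) hass).symm

/-- if the order of `q` modulo `r` is `2` modulo `4`, every irreducible factor of `X ^ r - 1` is
its own monic conjugate reciprocal -/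
theorem ustar_eq_self_of_mod4 (p : ℕ) [Fact p.Prime] [CharP K p] (P : K[X]) (hP : P.Monic)
    (hirr : Irreducible P) (r : ℕ) (hr : r.Prime) (hdvd : P ∣ X ^ r - 1) (i : ℕ)
    (hi : i = orderOf (q : ZMod r)) (h4 : i % 4 = 2) : ustar (q := q) P = P := by
  have : Fact (Irreducible P) := ⟨hirr⟩
  have h0 : P.coeff 0 ≠ 0 := Cfsg.Agent.Helper8.SpG.coeff_zero_ne_of_dvd P r hr.pos hdvd
  obtain ⟨k, hk⟩ := exists_odd_pow_of_mod4 r q i hr hi h4
  have hβr : AdjoinRoot.root P ^ r = 1 := (root_pow_eq_one_iff P r).mpr hdvd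
  have hβ0 : AdjoinRoot.root P ≠ 0 := by
    intro h
    rw [h, zero_pow hr.ne_zero] at hβr
    exact zero_ne_one hβr
  apply ustar_eq_of_dvd_sig P hP hirr h0
  apply dvd_sig_of_pow p P hβ0 k
  obtain ⟨c, hc⟩ := hk
  rw [hc, pow_mul, hβr, one_pow]

/-- otherwise no irreducible factor other than `X - 1` is -/
theorem ustar_ne_self (p : ℕ) [Fact p.Prime] [CharP K p] (P : K[X]) (hP : P.Monic)
    (hirr : Irreducible P) (r : ℕ) (hr : r.Prime) (hr2 : r ≠ 2) (hdvd : P ∣ X ^ r - 1)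
    (hne : P ≠ X - 1) (i : ℕ) (hi : i = orderOf (q : ZMod r)) (hi0 : 0 < i) (h4 : i % 4 ≠ 2) :
    ustar (q := q) P ≠ P := by
  intro hstar
  have : Fact (Irreducible P) := ⟨hirr⟩
  have h0 : P.coeff 0 ≠ 0 := Cfsg.Agent.Helper8.SpG.coeff_zero_ne_of_dvd P r hr.pos hdvd
  have hβr : AdjoinRoot.root P ^ r = 1 := (root_pow_eq_one_iff P r).mpr hdvd
  have hβ0 : AdjoinRoot.root P ≠ 0 := by
    intro h
    rw [h, zero_pow hr.ne_zero] at hβr
    exact zero_ne_one hβr
  have hu : IsUnit (C ((P.coeff 0) ^ q)⁻¹ : K[X]) :=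
    Polynomial.isUnit_C.mpr (isUnit_iff_ne_zero.mpr (inv_ne_zero (pow_ne_zero q h0)))
  have hds : P ∣ sig (q := q) P := by
    have h1 : P ∣ C ((P.coeff 0) ^ q)⁻¹ * sig (q := q) P := by
      have : ustar (q := q) P = C ((P.coeff 0) ^ q)⁻¹ * sig (q := q) P := rfl
      rw [← this, hstar]
    exact (hu.dvd_mul_left).mp h1
  obtain ⟨k, hk⟩ := pow_eq_one_of_dvd_sig (q := q) p P hP hβ0 hds
  have hβ1 : AdjoinRoot.root P ≠ 1 := by
    intro h1
    apply hne
    have h2 : AdjoinRoot.mk P (X - 1) = 0 := by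
      rw [map_sub, AdjoinRoot.mk_X, map_one, h1, sub_self]
    rw [AdjoinRoot.mk_eq_zero] at h2
    have hX1 : (X - 1 : K[X]) = X - C 1 := by rw [map_one]
    have hmon1 : (X - 1 : K[X]).Monic := by rw [hX1]; exact monic_X_sub_C 1
    have hirr1 : Irreducible (X - 1 : K[X]) := by rw [hX1]; exact irreducible_X_sub_C 1
    exact Polynomial.eq_of_monic_of_associated hP hmon1 (hirr.associated_of_dvd hirr1 h2)
  have hord : orderOf (AdjoinRoot.root P) = r := by
    rcases (Nat.dvd_prime hr).mp (orderOf_dvd_of_pow_eq_one hβr) with h1 | h1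
    · exact absurd (orderOf_eq_one_iff.mp h1) hβ1
    · exact h1
  have hrd : r ∣ q ^ (2 * k) + q := by
    rw [← hord]
    exact orderOf_dvd_of_pow_eq_one hk
  exact h4 (mod4_of_dvd r q i k hr hr2 hi hi0 hrd)

end Cfsg.Agent.Helper8.GUR
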