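import Cfsg.Agent.Helper8.PSUSingB
set_option autoImplicit false

/-!
The characteristic polynomial of a unitary matrix some power of which has large prime order.
-/

namespace Cfsg.Agent.Helper8.PSUSing

open Polynomial Matrix Cfsg Cfsg.Agent.Helper8.GUOrder Cfsg.Agent.Helper8.SUCenter
  Cfsg.Agent.Helper8.AutSU Cfsg.Agent.Helper8.PS3 Cfsg.Agent.Helper8.PGraph
  Cfsg.Agent.Helper8.PU3

variable {K : Type*} [Field K] [Fintype K] {q : ℕ} [hF : Fact (Fintype.card K = q ^ 2)]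

omit [Fintype K] in
theorem coeff_zero_ne_zero_of_dvd {P : K[X]} {M : ℕ} (hM : M ≠ 0) (h : P ∣ X ^ M - C (1 : K)) :
    P.coeff 0 ≠ 0 := by
  intro h0
  have h1 : (X : K[X]) ∣ X ^ M - C (1 : K) := dvd_trans (Polynomial.X_dvd_iff.mpr h0) h
  rw [Polynomial.X_dvd_iff, coeff_sub, coeff_X_pow, coeff_C_zero, if_neg (Ne.symm hM)] at h1
  simp at h1

theorem sig_ne_zero {P : K[X]} (hP : P ≠ 0) : sig (q := q) P ≠ 0 := by
  unfold sig
  rw [Ne, Polynomial.reverse_eq_zero, Polynomial.map_eq_zero_iff frobq_injective]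
  exact hP

theorem sig_dvd_sig {P R : K[X]} (h : P ∣ R) : sig (q := q) P ∣ sig (q := q) R := by
  obtain ⟨w, rfl⟩ := h
  rw [sig_mul]
  exact Dvd.intro _ rfl

/-- the structure of the minimal polynomial -/
theorem minpoly_structure (p : ℕ) [Fact p.Prime] [CharP K p] {m : ℕ}
    (A : Matrix (Fin (m + m)) (Fin (m + m)) K) (hU : Aᵀ * A.map (· ^ q) = 1)
    (M k r : ℕ) (hr : r.Prime)
    (hH1 : ∀ i : ℕ, 0 < i → i < m → ¬ r ∣ (q ^ 2) ^ i - 1)
    (hH2 : ∀ i : ℕ, ¬ r ∣ q ^ (2 * i) + q)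
    (hM : k * r = M) (hpM : p.Coprime M) (hAM : A ^ M = 1) (hAk : A ^ k ≠ 1) :
    ∃ h₁ : K[X], h₁.Monic ∧ Irreducible h₁ ∧ h₁.natDegree = m ∧ h₁ ∣ X ^ M - C (1 : K) ∧
      IsCoprime h₁ (sig (q := q) h₁) ∧
      (∃ v : K, v ≠ 0 ∧ minpoly K A = C v * (h₁ * sig (q := q) h₁)) ∧
      minpoly K A = A.charpoly := by
  classical
  obtain ⟨h₁, hmon, hirr, hdvd, hdvdM, hndvd⟩ := exists_factor p A M k hpM hAM hAk
  have hk0 : k ≠ 0 := by
    rintro rfl
    exact hAk (pow_zero A)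
  have hM0 : M ≠ 0 := by
    rw [← hM]
    exact mul_ne_zero hk0 hr.ne_zero
  have : Fact (Irreducible h₁) := ⟨hirr⟩
  have : Module.Finite K (AdjoinRoot h₁) := hmon.finite_adjoinRoot
  have : Finite (AdjoinRoot h₁) := Module.finite_of_finite K
  have : Fintype (AdjoinRoot h₁) := Fintype.ofFinite _
  have hβM : AdjoinRoot.root h₁ ^ M = 1 := by
    have := (dvd_X_pow_sub_C_iff h₁ M 1).mp hdvdM
    rw [this, map_one]
  have hβk : AdjoinRoot.root h₁ ^ k ≠ 1 := by
    intro h3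
    apply hndvd
    rw [dvd_X_pow_sub_C_iff, h3, map_one]
  have hord : orderOf (AdjoinRoot.root h₁ ^ k) = r := by
    have : Fact r.Prime := ⟨hr⟩
    apply orderOf_eq_prime
    · rw [← pow_mul, hM, hβM]
    · exact hβk
  have hβ0 : AdjoinRoot.root h₁ ≠ 0 := by
    intro h0
    rw [h0, zero_pow hM0] at hβM
    exact zero_ne_one hβM
  have hζ0 : AdjoinRoot.root h₁ ^ k ≠ 0 := pow_ne_zero k hβ0
  have hrdvd : r ∣ (q ^ 2) ^ h₁.natDegree - 1 := by
    rw [← hord, orderOf_dvd_iff_pow_eq_one, ← hF.out, ← card_adjoinRoot h₁ hmon,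
      Nat.card_eq_fintype_card]
    exact FiniteField.pow_card_sub_one_eq_one _ hζ0
  have hdeg1 : 0 < h₁.natDegree := hirr.natDegree_pos
  have hdeg2 : m ≤ h₁.natDegree := by
    by_contra hlt
    exact hH1 _ hdeg1 (by omega) hrdvd
  have hc0 : h₁.coeff 0 ≠ 0 := coeff_zero_ne_zero_of_dvd hM0 hdvdM
  -- the minimal polynomial
  have hh0 : minpoly K A ≠ 0 := minpoly.ne_zero (Matrix.isIntegral A)
  have hhM : minpoly K A ∣ X ^ M - C (1 : K) := by
    apply minpoly.dvd
    rw [PGLr.aeval_X_pow_sub_C, hAM, one_smul, sub_self]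
  have hhc0 : (minpoly K A).coeff 0 ≠ 0 := coeff_zero_ne_zero_of_dvd hM0 hhM
  obtain ⟨w, hw⟩ : minpoly K A ∣ sig (q := q) (minpoly K A) :=
    minpoly.dvd K A (aeval_sig_eq_zero hU (minpoly.aeval K A))
  have hw0 : w ≠ 0 := by
    rintro rfl
    rw [mul_zero] at hw
    exact sig_ne_zero hh0 hw
  have hwdeg : w.natDegree = 0 := by
    have h1 := congrArg Polynomial.natDegree hw
    rw [sig_natDegree hhc0, Polynomial.natDegree_mul hh0 hw0] at h1
    omega
  have hwu : IsUnit w := by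
    rw [Polynomial.eq_C_of_natDegree_eq_zero hwdeg]
    apply Polynomial.isUnit_C.mpr
    rw [isUnit_iff_ne_zero]
    intro h0
    apply hw0
    rw [Polynomial.eq_C_of_natDegree_eq_zero hwdeg, h0, map_zero]
  have h₂dvd : sig (q := q) h₁ ∣ minpoly K A := by
    have h1 : sig (q := q) h₁ ∣ minpoly K A * w := by
      rw [← hw]
      exact sig_dvd_sig hdvd
    exact (IsUnit.dvd_mul_right hwu).mp h1
  have hχdeg : A.charpoly.natDegree = m + m := by
    rw [Matrix.charpoly_natDegree_eq_dim, Fintype.card_fin]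
  have hhdeg : (minpoly K A).natDegree ≤ m + m := by
    have h1 := Polynomial.natDegree_le_of_dvd (Matrix.minpoly_dvd_charpoly A)
      (Matrix.charpoly_monic A).ne_zero
    omega
  by_cases hcop : IsCoprime h₁ (sig (q := q) h₁)
  · have hprod : h₁ * sig (q := q) h₁ ∣ minpoly K A := hcop.mul_dvd hdvd h₂dvd
    have hpdeg : (h₁ * sig (q := q) h₁).natDegree = h₁.natDegree + h₁.natDegree := by
      rw [Polynomial.natDegree_mul hmon.ne_zero (sig_ne_zero hmon.ne_zero), sig_natDegree hc0]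
    have h3 := Polynomial.natDegree_le_of_dvd hprod hh0
    rw [hpdeg] at h3
    have hdm : h₁.natDegree = m := by omega
    have hmin : minpoly K A = A.charpoly := by
      symm
      apply Polynomial.eq_of_monic_of_dvd_of_natDegree_le (minpoly.monic (Matrix.isIntegral A))
        (Matrix.charpoly_monic A) (Matrix.minpoly_dvd_charpoly A)
      rw [hχdeg]
      omega
    refine ⟨h₁, hmon, hirr, hdm, hdvdM, hcop, ?_, hmin⟩
    obtain ⟨w', hw'⟩ := hprod
    have hw'0 : w' ≠ 0 := by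
      rintro rfl
      rw [mul_zero] at hw'
      exact hh0 hw'
    have hw'deg : w'.natDegree = 0 := by
      have h1 := congrArg Polynomial.natDegree hw'
      rw [Polynomial.natDegree_mul (mul_ne_zero hmon.ne_zero (sig_ne_zero hmon.ne_zero)) hw'0,
        hpdeg] at h1
      omega
    refine ⟨w'.coeff 0, ?_, ?_⟩
    · intro h0
      apply hw'0
      rw [Polynomial.eq_C_of_natDegree_eq_zero hw'deg, h0, map_zero]
    · rw [hw', mul_comm]
      congr 1
      exact Polynomial.eq_C_of_natDegree_eq_zero hw'deg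
  · exfalso
    have h1 : h₁ ∣ sig (q := q) h₁ := by
      by_contra h1
      exact hcop ((Irreducible.coprime_iff_not_dvd hirr).mpr h1)
    obtain ⟨i, hi⟩ := pow_eq_one_of_dvd_sig p h₁ hmon hβ0 h1
    apply hH2 i
    rw [← hord, orderOf_dvd_iff_pow_eq_one, ← pow_mul, mul_comm, pow_mul, hi, one_pow]

end Cfsg.Agent.Helper8.PSUSing
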