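import Cfsg.Agent.Helper8.SUSemiG
set_option autoImplicit false
set_option linter.unusedSectionVars false

/-!
Characteristic polynomials of elements of `SU_n(q)` are Hermitian-palindromic.
-/

namespace Cfsg.Agent.Helper8.SUSemi

open Polynomial Matrix Cfsg Cfsg.Agent.Helper8.GUOrder Cfsg.Agent.Helper8.SUCenter
  Cfsg.Agent.Helper8.AutSU Cfsg.Agent.Helper8.PU3 Cfsg.Agent.Helper8.PSUSing
  Cfsg.Agent.Helper8.RegSU Cfsg.Agent.Helper8.SemiS

variable {K : Type*} [Field K] [Fintype K] {q : ℕ} [hF : Fact (Fintype.card K = q ^ 2)]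

theorem coeff_ustar {f : K[X]} {n : ℕ} (hfd : f.natDegree = n) (k : ℕ) (hk : k ≤ n) :
    (ustar (q := q) f).coeff k = ((f.coeff 0) ^ q)⁻¹ * (f.coeff (n - k)) ^ q := by
  unfold ustar
  rw [Polynomial.coeff_C_mul, sig_eq_reflect, hfd, Polynomial.coeff_reflect,
    Polynomial.revAt_le hk, Polynomial.coeff_map, frobq_apply]

theorem inv_neg_one_pow (n : ℕ) : (((-1 : K) ^ n) ^ q)⁻¹ = (-1) ^ n := by
  rw [neg_one_pow_q]
  exact inv_eq_of_mul_eq_one_right (neg_one_pow_mul_self n)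

theorem hpal_of_ustar {f : K[X]} {n : ℕ} (hfd : f.natDegree = n) (h0 : f.coeff 0 = (-1) ^ n)
    (hs : ustar (q := q) f = f) :
    ∀ k ≤ n, f.coeff k = (-1) ^ n * (f.coeff (n - k)) ^ q := by
  intro k hk
  conv_lhs => rw [← hs]
  rw [coeff_ustar hfd k hk, h0, inv_neg_one_pow]

theorem ustar_of_hpal {f : K[X]} {n : ℕ} (hfm : f.Monic) (hfd : f.natDegree = n)
    (hc : ∀ k ≤ n, f.coeff k = (-1) ^ n * (f.coeff (n - k)) ^ q) :
    f.coeff 0 = (-1) ^ n ∧ ustar (q := q) f = f := by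
  have h0 : f.coeff 0 = (-1) ^ n := by
    have h := hc 0 (Nat.zero_le n)
    have hn : f.coeff n = 1 := by rw [← hfd]; exact hfm
    rw [Nat.sub_zero, hn, one_pow, mul_one] at h
    exact h
  refine ⟨h0, ?_⟩
  have h0' : f.coeff 0 ≠ 0 := by
    rw [h0]
    exact pow_ne_zero _ (neg_ne_zero.mpr one_ne_zero)
  ext k
  by_cases hk : k ≤ n
  · rw [coeff_ustar hfd k hk, h0, inv_neg_one_pow]
    exact (hc k hk).symm
  · rw [coeff_eq_zero_of_natDegree_lt (by rw [natDegree_ustar h0', hfd]; omega),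
      coeff_eq_zero_of_natDegree_lt (by rw [hfd]; omega)]

/-- the characteristic polynomial of an element of `SU` -/
theorem su_charpoly_mem (n : ℕ) (g : SU n K q) :
    ((g : Matrix.SpecialLinearGroup (Fin n) K) : Matrix (Fin n) (Fin n) K).charpoly.Monic ∧
      ((g : Matrix.SpecialLinearGroup (Fin n) K) : Matrix (Fin n) (Fin n) K).charpoly.natDegree
        = n ∧
      ∀ k ≤ n, ((g : Matrix.SpecialLinearGroup (Fin n) K) :
        Matrix (Fin n) (Fin n) K).charpoly.coeff k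
        = (-1) ^ n * (((g : Matrix.SpecialLinearGroup (Fin n) K) :
          Matrix (Fin n) (Fin n) K).charpoly.coeff (n - k)) ^ q := by
  obtain ⟨h1, h2, h3⟩ := sl_charpoly_mem n (g : Matrix.SpecialLinearGroup (Fin n) K)
  refine ⟨h1, h2, hpal_of_ustar h2 h3 ?_⟩
  have hGu : st (q := q) ((g : Matrix.SpecialLinearGroup (Fin n) K) : Matrix (Fin n) (Fin n) K) *
      ((g : Matrix.SpecialLinearGroup (Fin n) K) : Matrix (Fin n) (Fin n) K) = 1 :=
    (unitary_iff_st _).mp ((mem_SU_iff hF.out g.1).mp g.2)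
  exact ustar_charpoly_of_unitary
    (Matrix.SpecialLinearGroup.toGL (g : Matrix.SpecialLinearGroup (Fin n) K)) hGu

omit [Fintype K] hF in
/-- conjugate elements of `SU` have the same characteristic polynomial -/
theorem su_charpoly_eq_of_isConj {n : ℕ} (g h : SU n K q) (hc : IsConj g h) :
    ((g : Matrix.SpecialLinearGroup (Fin n) K) : Matrix (Fin n) (Fin n) K).charpoly
      = ((h : Matrix.SpecialLinearGroup (Fin n) K) : Matrix (Fin n) (Fin n) K).charpoly := by
  rw [isConj_iff] at hc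
  obtain ⟨x, hx⟩ := hc
  rw [← hx]
  have key : (((x * g * x⁻¹ : SU n K q) : Matrix.SpecialLinearGroup (Fin n) K) :
      Matrix (Fin n) (Fin n) K) =
      ((Matrix.SpecialLinearGroup.toGL (x : Matrix.SpecialLinearGroup (Fin n) K) : GL (Fin n) K) :
        Matrix (Fin n) (Fin n) K) *
        ((g : Matrix.SpecialLinearGroup (Fin n) K) : Matrix (Fin n) (Fin n) K) *
        (((Matrix.SpecialLinearGroup.toGL (x : Matrix.SpecialLinearGroup (Fin n) K))⁻¹ :
          GL (Fin n) K) : Matrix (Fin n) (Fin n) K) := by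
    rw [← map_inv]
    rfl
  rw [key, Matrix.coe_units_inv, Matrix.charpoly_units_conj]

end Cfsg.Agent.Helper8.SUSemi
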