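import Mathlib
import Cfsg.Agent.Helper8.SpXPoly
import Cfsg.Agent.Helper8.SpGWt
import Cfsg.Agent.Helper8.SpSSelfRec
set_option autoImplicit false

/-! The reversal involution on the irreducible factors of `X ^ r - 1`. -/

namespace Cfsg.Agent.Helper8.SpR

open Polynomial
open Cfsg.Agent.Helper8.SpX Cfsg.Agent.Helper8.SpG Cfsg.Agent.Helper8.PGraph

variable {F : Type*} [Field F]

theorem coeff_zero_star (P : F[X]) (hP : P.Monic) : (SpX.star P).coeff 0 = (P.coeff 0)⁻¹ := by
  unfold SpX.star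
  rw [coeff_C_mul, Polynomial.coeff_zero_reverse, hP.leadingCoeff, mul_one]

theorem star_star (P : F[X]) (hP : P.Monic) (h0 : P.coeff 0 ≠ 0) : SpX.star (SpX.star P) = P := by
  have h1 : (SpX.star P).reverse = C (P.coeff 0)⁻¹ * P := by
    unfold SpX.star
    rw [Polynomial.reverse_mul_of_domain, Polynomial.reverse_C, reverse_reverse_of_coeff_zero P h0]
  conv_lhs => rw [SpX.star, h1, coeff_zero_star P hP, inv_inv, ← mul_assoc, ← C_mul,
    mul_inv_cancel₀ h0, map_one, one_mul]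

theorem star_dvd_X_pow_sub_one (P : F[X]) (h0 : P.coeff 0 ≠ 0) (r : ℕ) (h : P ∣ X ^ r - 1) :
    SpX.star P ∣ X ^ r - 1 := by
  unfold SpX.star
  rw [(isUnit_C.mpr (IsUnit.mk0 _ (inv_ne_zero h0))).mul_left_dvd]
  exact dvd_trans (reverse_dvd_reverse h) (reverse_X_pow_sub_one_dvd r)

theorem star_irreducible (P : F[X]) (hirr : Irreducible P) (h0 : P.coeff 0 ≠ 0) :
    Irreducible (SpX.star P) := by
  unfold SpX.star
  have hu : IsUnit (C (P.coeff 0)⁻¹ : F[X]) := isUnit_C.mpr (IsUnit.mk0 _ (inv_ne_zero h0))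
  exact (irreducible_isUnit_mul hu).mpr (irreducible_reverse P hirr h0)

theorem star_X_sub_one : SpX.star (X - 1 : F[X]) = X - 1 := by
  have h1 : (X - 1 : F[X]) = X + C (-1) := by rw [map_neg, map_one, sub_eq_add_neg]
  have h2 : (X - 1 : F[X]).coeff 0 = -1 := by
    rw [h1, coeff_add, coeff_X_zero, coeff_C_zero, zero_add]
  have h3 : (X - 1 : F[X]).reverse = 1 + C (-1) * X := by
    rw [h1, Polynomial.reverse_add_C, natDegree_X, pow_one]
    congr 1
    have := Polynomial.reverse_mul_X (1 : F[X])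
    rw [one_mul] at this
    rw [this, ← C_1, Polynomial.reverse_C]
  unfold SpX.star
  rw [h2, h3, inv_neg, inv_one, map_neg, map_one]
  ring

/-- the constant coefficient of a monic polynomial dividing its reverse is a square root of 1 -/
theorem coeff_zero_mul_self (P : F[X]) (hP : P.Monic) (h0 : P.coeff 0 ≠ 0) (hd : P ∣ P.reverse) :
    P.coeff 0 * P.coeff 0 = 1 := by
  have h1 := reverse_eq_of_dvd P hP h0 hd
  have h3 := congrArg Polynomial.reverse h1
  rw [Polynomial.reverse_mul_of_domain, Polynomial.reverse_C, reverse_reverse_of_coeff_zero P h0,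
    h1, ← mul_assoc, ← C_mul] at h3
  have h4 := congrArg Polynomial.leadingCoeff h3
  rw [leadingCoeff_mul, leadingCoeff_C, hP.leadingCoeff, mul_one] at h4
  exact h4.symm

theorem dvd_reverse_of_star_eq (P : F[X]) (h0 : P.coeff 0 ≠ 0) (h : SpX.star P = P) :
    P ∣ P.reverse := by
  refine ⟨C (P.coeff 0), ?_⟩
  have h1 : C (P.coeff 0)⁻¹ * P.reverse = P := h
  calc P.reverse = C (P.coeff 0) * (C (P.coeff 0)⁻¹ * P.reverse) := by
        rw [← mul_assoc, ← C_mul, mul_inv_cancel₀ h0, map_one, one_mul]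
    _ = P * C (P.coeff 0) := by rw [h1, mul_comm]

section tau

variable {t : ℕ} (Q : Option (Fin t) → F[X]) (r : ℕ)

/-- the involution induced on the nontrivial factors by reversal -/
theorem exists_tau (hr : 0 < r) (hinj : Function.Injective Q)
    (hQ : ∀ o, (Q o).Monic ∧ Irreducible (Q o)) (hQ0 : Q none = X - 1)
    (hdvd : ∀ o, Q o ∣ X ^ r - 1)
    (hall : ∀ P : F[X], P.Monic → Irreducible P → P ∣ X ^ r - 1 → ∃ o, P = Q o) :
    ∃ τ : Fin t → Fin t, (∀ j, Q (some (τ j)) = SpX.star (Q (some j))) ∧ Function.Involutive τ := by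
  have h0 : ∀ o, (Q o).coeff 0 ≠ 0 := fun o => coeff_zero_ne_of_dvd (Q o) r hr (hdvd o)
  have key : ∀ j : Fin t, ∃ j' : Fin t, Q (some j') = SpX.star (Q (some j)) := by
    intro j
    obtain ⟨o, ho⟩ := hall (SpX.star (Q (some j))) (star_monic _ (h0 _))
      (star_irreducible _ (hQ _).2 (h0 _)) (star_dvd_X_pow_sub_one _ (h0 _) r (hdvd _))
    cases o with
    | none =>
      exfalso
      have h1 : SpX.star (SpX.star (Q (some j))) = SpX.star (X - 1) := by rw [ho, hQ0]
      rw [star_star _ (hQ _).1 (h0 _), star_X_sub_one, ← hQ0] at h1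
      exact Option.some_ne_none j (hinj h1)
    | some j' => exact ⟨j', ho.symm⟩
  choose τ hτ using key
  refine ⟨τ, hτ, ?_⟩
  intro j
  have h1 : Q (some (τ (τ j))) = Q (some j) := by
    rw [hτ, hτ, star_star _ (hQ _).1 (h0 _)]
  exact Option.some_injective _ (hinj h1)

end tau

variable [Fintype F]

/-- for even `i`, every irreducible factor of degree `i` of `X ^ r - 1` is self-reciprocal -/
theorem star_eq_self_of_even (P : F[X]) (hP : P.Monic) (hirr : Irreducible P) (r : ℕ)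
    (hr : r.Prime) (hdvd : P ∣ X ^ r - 1) (i : ℕ)
    (hi : i = orderOf ((Fintype.card F : ℕ) : ZMod r)) (heven : Even i) (hi0 : 0 < i) :
    SpX.star P = P := by
  have : Fact (Irreducible P) := ⟨hirr⟩
  have : Fact r.Prime := ⟨hr⟩
  have h0 : P.coeff 0 ≠ 0 := coeff_zero_ne_of_dvd P r hr.pos hdvd
  apply star_eq_of_dvd P hP h0
  obtain ⟨k, hk⟩ := heven
  have hk0 : 0 < k := by omega
  set q := Fintype.card F with hq
  -- q ^ k = -1 in ZMod r
  have h1 : ((q : ℕ) : ZMod r) ^ k = -1 := by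
    have h2 : (((q : ℕ) : ZMod r) ^ k) * (((q : ℕ) : ZMod r) ^ k) = 1 := by
      rw [← pow_add, ← hk, hi, pow_orderOf_eq_one]
    rcases mul_self_eq_one_iff.mp h2 with h3 | h3
    · exfalso
      have h4 := orderOf_dvd_of_pow_eq_one h3
      rw [← hi] at h4
      have := Nat.le_of_dvd hk0 h4
      omega
    · exact h3
  have h5 : r ∣ q ^ k + 1 := by
    rw [← ZMod.natCast_eq_zero_iff, Nat.cast_add, Nat.cast_pow, h1, Nat.cast_one, neg_add_cancel]
  set α := AdjoinRoot.root P with hα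
  have hαr : α ^ r = 1 := (root_pow_eq_one_iff P r).mpr hdvd
  have hα1 : α ^ (q ^ k + 1) = 1 := by
    obtain ⟨c, hc⟩ := h5
    rw [hc, pow_mul, hαr, one_pow]
  have hα0 : α ≠ 0 := by
    intro h
    rw [h, zero_pow hr.ne_zero] at hαr
    exact zero_ne_one hαr
  have hαinv : α ^ (q ^ k) = α⁻¹ := by
    rw [pow_succ] at hα1
    exact eq_inv_of_mul_eq_one_left hα1
  -- α⁻¹ is a root of P
  have h6 : aeval (α⁻¹) P = 0 := by
    have h7 : ((FiniteField.frobeniusAlgHom F (AdjoinRoot P)) ^ k) α = α⁻¹ := by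
      rw [AlgHom.coe_pow, FiniteField.coe_frobeniusAlgHom, pow_iterate, ← hq]
      exact hαinv
    rw [← h7, aeval_algHom_apply, AdjoinRoot.aeval_eq, AdjoinRoot.mk_self, map_zero]
  have h8 : aeval α P.reverse = 0 := by
    let _ : Invertible (α⁻¹) := ⟨α, mul_inv_cancel₀ hα0, inv_mul_cancel₀ hα0⟩
    have := (Polynomial.eval₂_reverse_eq_zero_iff (algebraMap F (AdjoinRoot P)) α⁻¹ P).mpr h6
    exact this
  rw [AdjoinRoot.aeval_eq, AdjoinRoot.mk_eq_zero] at h8
  exact h8

/-- for odd `i`, no irreducible factor of degree `i` of `X ^ r - 1` other than `X - 1` is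
self-reciprocal -/
theorem star_ne_self_of_odd (P : F[X]) (hP : P.Monic) (hirr : Irreducible P) (r : ℕ)
    (hr : r.Prime) (hr2 : r ≠ 2) (hdvd : P ∣ X ^ r - 1) (hne : P ≠ X - 1)
    (hodd : Odd P.natDegree) : SpX.star P ≠ P := by
  intro hstar
  have : Fact (Irreducible P) := ⟨hirr⟩
  have h0 : P.coeff 0 ≠ 0 := coeff_zero_ne_of_dvd P r hr.pos hdvd
  have hd : P ∣ P.reverse := dvd_reverse_of_star_eq P h0 hstar
  by_cases hdeg : 2 ≤ P.natDegree
  · obtain ⟨d, hd2, -, -, -⟩ := SpS.selfrec_root P hP hd r hr.pos hdvd hdeg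
    rw [hd2] at hodd
    exact (Nat.not_odd_iff_even.mpr ⟨d, by ring⟩) hodd
  · have hdeg1 : P.natDegree = 1 := by
      have := hirr.natDegree_pos
      omega
    have hPX : P = X + C (P.coeff 0) := hP.eq_X_add_C hdeg1
    set c := P.coeff 0 with hc
    have hcc : c * c = 1 := coeff_zero_mul_self P hP h0 hd
    -- the root -c has order dividing 2 and r
    have hroot : (X ^ r - 1 : F[X]).eval (-c) = 0 := by
      obtain ⟨g, hg⟩ := hdvd
      rw [hg, eval_mul, hPX]
      simp
    rw [eval_sub, eval_pow, eval_X, eval_one, sub_eq_zero] at hroot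
    have h2 : (-c) ^ 2 = 1 := by rw [neg_sq, pow_two, hcc]
    have h3 : (-c) ^ (Nat.gcd 2 r) = 1 := pow_gcd_eq_one.mpr ⟨h2, hroot⟩
    have h4 : Nat.gcd 2 r = 1 := by
      rw [Nat.coprime_primes Nat.prime_two hr |>.mpr (Ne.symm hr2)]
    rw [h4, pow_one] at h3
    apply hne
    rw [hPX]
    have : c = -1 := by rw [← neg_neg c, h3]
    rw [this, map_neg, map_one, sub_eq_add_neg]

end Cfsg.Agent.Helper8.SpR
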