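import Mathlib
import Cfsg.Agent.Helper8.SpRFactors
import Cfsg.Agent.Helper8.SemiSExpo
set_option autoImplicit false

/-! Palindromic monomials in the irreducible factors of `X ^ r - 1`. -/

namespace Cfsg.Agent.Helper8.SpR

open Polynomial
open Cfsg.Agent.Helper8.SpX Cfsg.Agent.Helper8.SpG Cfsg.Agent.Helper8.PGraph

variable {F : Type*} [Field F]

/-- reversal as a monoid homomorphism -/
noncomputable def revHom : F[X] →* F[X] where
  toFun := Polynomial.reverse
  map_one' := by rw [← C_1, Polynomial.reverse_C]
  map_mul' := Polynomial.reverse_mul_of_domain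

/-- normalised reversal as a monoid homomorphism -/
noncomputable def starHom : F[X] →* F[X] where
  toFun := SpX.star
  map_one' := by
    unfold SpX.star
    rw [coeff_one_zero, inv_one, map_one, one_mul, ← C_1, Polynomial.reverse_C]
  map_mul' P Q := by
    unfold SpX.star
    rw [mul_coeff_zero, mul_inv, map_mul, Polynomial.reverse_mul_of_domain]
    ring

theorem revHom_apply (P : F[X]) : revHom P = P.reverse := rfl
theorem starHom_apply (P : F[X]) : starHom P = SpX.star P := rfl

theorem reverse_X_sub_one : (X - 1 : F[X]).reverse = -(X - 1) := by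
  have h1 : (X - 1 : F[X]) = X + C (-1) := by rw [map_neg, map_one, sub_eq_add_neg]
  conv_lhs => rw [h1, Polynomial.reverse_add_C, natDegree_X, pow_one]
  have := Polynomial.reverse_mul_X (1 : F[X])
  rw [one_mul] at this
  rw [this, ← C_1, Polynomial.reverse_C, map_neg, map_one]
  ring

section

variable {t : ℕ} (Q : Option (Fin t) → F[X])

/-- the monomial with exponents `a` -/
noncomputable def fprod (a : Option (Fin t) → ℕ) : F[X] := ∏ o, Q o ^ a o

theorem fprod_eq (a : Option (Fin t) → ℕ) :
    fprod Q a = Q none ^ a none * ∏ j, Q (some j) ^ a (some j) := by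
  unfold fprod
  rw [Fintype.prod_option]

variable (hQ0 : Q none = X - 1)
include hQ0

/-- all nontrivial factors palindromic, even multiplicity of `X - 1` -/
theorem reverse_fprod_of_selfrec (hrev : ∀ j, (Q (some j)).reverse = Q (some j))
    (a : Option (Fin t) → ℕ) (ha : Even (a none)) : (fprod Q a).reverse = fprod Q a := by
  rw [← revHom_apply, fprod_eq, map_mul, map_pow, map_prod, revHom_apply, hQ0, reverse_X_sub_one,
    ha.neg_pow]
  congr 1
  apply Finset.prod_congr rfl
  intro j _
  rw [map_pow, revHom_apply, hrev]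

variable (τ : Fin t → Fin t) (hτ : ∀ j, Q (some (τ j)) = SpX.star (Q (some j)))
  (hinv : Function.Involutive τ)
include hτ hinv

theorem prod_tau (a : Option (Fin t) → ℕ) :
    ∏ j, Q (some (τ j)) ^ a (some j) = ∏ j, Q (some j) ^ a (some (τ j)) := by
  rw [← Equiv.prod_comp (hinv.toPerm τ) (fun j => Q (some j) ^ a (some (τ j)))]
  apply Finset.prod_congr rfl
  intro j _
  change Q (some (τ j)) ^ a (some j) = Q (some (τ j)) ^ a (some (τ (τ j)))
  rw [hinv j]

/-- the exponents of a palindromic monomial are symmetric -/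
theorem symm_of_reverse (hinj : Function.Injective Q)
    (hQ : ∀ o, (Q o).Monic ∧ Irreducible (Q o)) (a : Option (Fin t) → ℕ)
    (hrev : (fprod Q a).reverse = fprod Q a) : ∀ j, a (some (τ j)) = a (some j) := by
  have hmon : (fprod Q a).Monic := monic_prod_of_monic _ _ (fun o _ => (hQ o).1.pow _)
  have h1 : SpX.star (fprod Q a) = fprod Q a := by
    unfold SpX.star
    rw [hrev, coeff_zero_of_reverse hmon hrev, inv_one, map_one, one_mul]
  set b : Option (Fin t) → ℕ := fun o => Option.elim o (a none) (fun j => a (some (τ j))) with hb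
  have h2 : SpX.star (fprod Q a) = fprod Q b := by
    rw [← starHom_apply, fprod_eq, fprod_eq, map_mul, map_pow, map_prod, starHom_apply, hQ0,
      star_X_sub_one]
    congr 1
    have : ∀ j, starHom (Q (some j) ^ a (some j)) = Q (some (τ j)) ^ a (some j) := by
      intro j
      rw [map_pow, starHom_apply, hτ]
    rw [Finset.prod_congr rfl (fun j _ => this j), prod_tau Q hQ0 τ hτ hinv a]
    rfl
  have h3 : fprod Q b = fprod Q a := by rw [← h2, h1]
  have h4 := SemiS.prod_pow_injective Q hQ hinj h3
  intro j
  have := congrFun h4 (some j)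
  exact this

/-- a symmetric monomial with even multiplicity of `X - 1` is palindromic -/
theorem reverse_fprod_of_symm (hQm : ∀ o, (Q o).Monic) (h0 : ∀ j, (Q (some j)).coeff 0 ≠ 0)
    (hfix : ∀ j, τ j ≠ j)
    (a : Option (Fin t) → ℕ) (ha : Even (a none)) (hsym : ∀ j, a (some (τ j)) = a (some j)) :
    (fprod Q a).reverse = fprod Q a := by
  rw [← revHom_apply, fprod_eq, map_mul, map_pow, map_prod, revHom_apply, hQ0, reverse_X_sub_one,
    ha.neg_pow]
  congr 1
  have h1 : ∀ j, revHom (Q (some j) ^ a (some j))
      = C ((Q (some j)).coeff 0 ^ a (some j)) * Q (some (τ j)) ^ a (some j) := by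
    intro j
    rw [map_pow, revHom_apply, hτ, SpX.star, mul_pow, ← C_pow, ← mul_assoc, ← C_mul, ← mul_pow,
      mul_inv_cancel₀ (h0 j), one_pow, map_one, one_mul]
  rw [Finset.prod_congr rfl (fun j _ => h1 j), Finset.prod_mul_distrib, prod_tau Q hQ0 τ hτ hinv a]
  have h2 : ∏ j, C ((Q (some j)).coeff 0 ^ a (some j)) = (1 : F[X]) := by
    rw [← map_prod, ← C_1]
    congr 1
    apply Finset.prod_involution (fun j _ => τ j)
    · intro j _
      rw [hsym, hτ, coeff_zero_star _ (hQm _), ← mul_pow, mul_inv_cancel₀ (h0 j), one_pow]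
    · intro j _ _
      exact hfix j
    · intro j _
      exact Finset.mem_univ _
    · intro j _
      exact hinv j
  rw [h2, one_mul]
  apply Finset.prod_congr rfl
  intro j _
  rw [hsym]

/-- the total multiplicity of a symmetric tuple is even -/
theorem even_sum_of_symm (hfix : ∀ j, τ j ≠ j) (a : Option (Fin t) → ℕ)
    (hsym : ∀ j, a (some (τ j)) = a (some j)) : Even (∑ j, a (some j)) := by
  have h1 : ((∑ j, a (some j) : ℕ) : ZMod 2) = 0 := by
    rw [Nat.cast_sum]
    apply Finset.sum_involution (fun j _ => τ j)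
    · intro j _
      rw [hsym]
      have : ((a (some j) : ℕ) : ZMod 2) + a (some j) = ((2 * a (some j) : ℕ) : ZMod 2) := by
        push_cast; ring
      rw [this, Nat.cast_mul]
      have : ((2 : ℕ) : ZMod 2) = 0 := by decide
      rw [this, zero_mul]
    · intro j _ _
      exact hfix j
    · intro j _
      exact Finset.mem_univ _
    · intro j _
      exact hinv j
  rw [ZMod.natCast_eq_zero_iff] at h1
  exact even_iff_two_dvd.mpr h1

end

end Cfsg.Agent.Helper8.SpR
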