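import Mathlib
import Cfsg.Agent.Helper8.GURootA
import Cfsg.Agent.Helper8.SUSemiH
import Cfsg.Agent.Helper8.SpRPal
import Cfsg.Agent.Helper8.PSUSingC
set_option autoImplicit false
set_option linter.unusedSectionVars false

/-!
The involution induced by the monic conjugate reciprocal on the irreducible factors of
`X ^ r - 1`, and self-dual monomials in these factors.
-/

namespace Cfsg.Agent.Helper8.GUR

open Polynomial Matrix Cfsg Cfsg.Agent.Helper8.GUOrder Cfsg.Agent.Helper8.SUCenter
  Cfsg.Agent.Helper8.AutSU Cfsg.Agent.Helper8.PU3 Cfsg.Agent.Helper8.PSUSing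
  Cfsg.Agent.Helper8.SUSemi Cfsg.Agent.Helper8.PGraph Cfsg.Agent.Helper8.SpR

variable {K : Type*} [Field K] [Fintype K] {q : ℕ} [hF : Fact (Fintype.card K = q ^ 2)]

theorem ustar_X_sub_one : ustar (q := q) (X - 1 : K[X]) = X - 1 := by
  have h1 : (X - 1 : K[X]) = X ^ 1 - C 1 := by rw [pow_one, map_one]
  have h2 : (X - 1 : K[X]).coeff 0 = -1 := by simp
  unfold ustar
  rw [h2]
  conv_lhs => rw [h1, sig_X_pow_sub_C 1 1 one_ne_zero]
  rw [one_pow, inv_one, ← mul_assoc, ← C_mul, pow_one, map_one]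
  have h3 : ((-1 : K) ^ q)⁻¹ * (-1) = 1 := by
    have := inv_neg_one_pow (K := K) (q := q) 1
    rw [pow_one] at this
    rw [this]
    ring
  rw [h3, map_one, one_mul]

theorem ustar_dvd_X_pow_sub_one (P : K[X]) (h0 : P.coeff 0 ≠ 0) (r : ℕ) (h : P ∣ X ^ r - 1) :
    ustar (q := q) P ∣ X ^ r - 1 := by
  unfold ustar
  rw [(isUnit_C.mpr (IsUnit.mk0 _ (inv_ne_zero (pow_ne_zero q h0)))).mul_left_dvd]
  have h1 : (X ^ r - 1 : K[X]) = X ^ r - C 1 := by rw [map_one]
  have h2 := sig_dvd_sig (q := q) h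
  rw [h1, sig_X_pow_sub_C r 1 one_ne_zero, one_pow, inv_one] at h2
  rw [h1]
  exact (IsUnit.dvd_mul_left (isUnit_C.mpr (IsUnit.mk0 _ (neg_ne_zero.mpr one_ne_zero)))).mp h2

/-- the monic conjugate reciprocal as a monoid homomorphism -/
noncomputable def ustarHom : K[X] →* K[X] where
  toFun := ustar (q := q)
  map_one' := by
    unfold ustar
    rw [coeff_one_zero, one_pow, inv_one, map_one, one_mul, ← C_1, sig_C, one_pow]
  map_mul' P Q := ustar_mul P Q

theorem ustarHom_apply (P : K[X]) : ustarHom (q := q) P = ustar (q := q) P := rfl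

section tau

variable {t : ℕ} (Q : Option (Fin t) → K[X]) (r : ℕ)

/-- the involution induced on the nontrivial factors by the conjugate reciprocal -/
theorem exists_tau_u (hr : 0 < r) (hinj : Function.Injective Q)
    (hQ : ∀ o, (Q o).Monic ∧ Irreducible (Q o)) (hQ0 : Q none = X - 1)
    (hdvd : ∀ o, Q o ∣ X ^ r - 1)
    (hall : ∀ P : K[X], P.Monic → Irreducible P → P ∣ X ^ r - 1 → ∃ o, P = Q o) :
    ∃ τ : Fin t → Fin t, (∀ j, Q (some (τ j)) = ustar (q := q) (Q (some j))) ∧
      Function.Involutive τ := by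
  have h0 : ∀ o, (Q o).coeff 0 ≠ 0 :=
    fun o => Cfsg.Agent.Helper8.SpG.coeff_zero_ne_of_dvd (Q o) r hr (hdvd o)
  have key : ∀ j : Fin t, ∃ j' : Fin t, Q (some j') = ustar (q := q) (Q (some j)) := by
    intro j
    obtain ⟨o, ho⟩ := hall (ustar (q := q) (Q (some j))) (ustar_monic (h0 _))
      (irreducible_ustar (hQ _).2 (h0 _)) (ustar_dvd_X_pow_sub_one _ (h0 _) r (hdvd _))
    cases o with
    | none =>
      exfalso
      have h1 : ustar (q := q) (ustar (q := q) (Q (some j))) = ustar (q := q) (X - 1) := by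
        rw [ho, hQ0]
      rw [ustar_ustar (hQ _).1 (h0 _), ustar_X_sub_one, ← hQ0] at h1
      exact Option.some_ne_none j (hinj h1)
    | some j' => exact ⟨j', ho.symm⟩
  choose τ hτ using key
  refine ⟨τ, hτ, ?_⟩
  intro j
  have h1 : Q (some (τ (τ j))) = Q (some j) := by
    rw [hτ, hτ, ustar_ustar (hQ _).1 (h0 _)]
  exact Option.some_injective _ (hinj h1)

variable (hQ0 : Q none = X - 1)
include hQ0

/-- all factors self-dual -/
theorem ustar_fprod_of_selfdual (hsd : ∀ j, ustar (q := q) (Q (some j)) = Q (some j))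
    (a : Option (Fin t) → ℕ) : ustar (q := q) (fprod Q a) = fprod Q a := by
  rw [← ustarHom_apply, fprod_eq, map_mul, map_pow, map_prod, ustarHom_apply, hQ0,
    ustar_X_sub_one]
  congr 1
  apply Finset.prod_congr rfl
  intro j _
  rw [map_pow, ustarHom_apply, hsd]

variable (τ : Fin t → Fin t) (hτ : ∀ j, Q (some (τ j)) = ustar (q := q) (Q (some j)))
  (hinv : Function.Involutive τ)
include hτ hinv

theorem ustar_fprod (a : Option (Fin t) → ℕ) :
    ustar (q := q) (fprod Q a) =
      fprod Q (fun o => Option.elim o (a none) (fun j => a (some (τ j)))) := by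
  rw [← ustarHom_apply, fprod_eq, fprod_eq, map_mul, map_pow, map_prod, ustarHom_apply, hQ0,
    ustar_X_sub_one]
  congr 1
  have h1 : ∀ j, ustarHom (q := q) (Q (some j) ^ a (some j)) = Q (some (τ j)) ^ a (some j) := by
    intro j
    rw [map_pow, ustarHom_apply, hτ]
  rw [Finset.prod_congr rfl (fun j _ => h1 j)]
  change ∏ j, Q (some (τ j)) ^ a (some j) = ∏ j, Q (some j) ^ a (some (τ j))
  rw [← Equiv.prod_comp (hinv.toPerm τ) (fun j => Q (some j) ^ a (some (τ j)))]
  apply Finset.prod_congr rfl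
  intro j _
  change Q (some (τ j)) ^ a (some j) = Q (some (τ j)) ^ a (some (τ (τ j)))
  rw [hinv j]

/-- the exponents of a self-dual monomial are symmetric -/
theorem symm_of_ustar (hinj : Function.Injective Q)
    (hQ : ∀ o, (Q o).Monic ∧ Irreducible (Q o)) (a : Option (Fin t) → ℕ)
    (hs : ustar (q := q) (fprod Q a) = fprod Q a) : ∀ j, a (some (τ j)) = a (some j) := by
  rw [ustar_fprod Q hQ0 τ hτ hinv a] at hs
  have h4 := SemiS.prod_pow_injective Q hQ hinj hs
  intro j
  exact congrFun h4 (some j)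

/-- a symmetric monomial is self-dual -/
theorem ustar_fprod_of_symm (a : Option (Fin t) → ℕ)
    (hsym : ∀ j, a (some (τ j)) = a (some j)) : ustar (q := q) (fprod Q a) = fprod Q a := by
  rw [ustar_fprod Q hQ0 τ hτ hinv a]
  congr 1
  funext o
  cases o with
  | none => rfl
  | some j => exact hsym j

end tau

end Cfsg.Agent.Helper8.GUR
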