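import Cfsg.Agent.Helper8.SUSemiA
set_option autoImplicit false
set_option linter.unusedSectionVars false

/-!
Splitting self-dual polynomials, and realising them by semisimple unitary matrices.
-/

namespace Cfsg.Agent.Helper8.SUSemi

open Polynomial Matrix Cfsg Cfsg.Agent.Helper8.GUOrder Cfsg.Agent.Helper8.SUCenter
  Cfsg.Agent.Helper8.AutSU Cfsg.Agent.Helper8.PU3 Cfsg.Agent.Helper8.PSUSing
  Cfsg.Agent.Helper8.RegSU Cfsg.Agent.Helper8.Wall Cfsg.Agent.Helper8.ConjGU
  Cfsg.Agent.Helper8.SemiS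

variable {K : Type*} [Field K] [Fintype K] {q : ℕ} [hF : Fact (Fintype.card K = q ^ 2)]

local notation "σ" => Polynomial.map (frobq K q)

/-- a self-dual polynomial of positive degree has a squarefree self-dual factor of positive degree
with self-dual cofactor -/
theorem exists_split {f : K[X]} (hf : f.Monic) (h0 : f.coeff 0 ≠ 0)
    (hs : ustar (q := q) f = f) (hd : 1 ≤ f.natDegree) :
    ∃ f₁ f₂ : K[X], f = f₁ * f₂ ∧ f₁.Monic ∧ f₂.Monic ∧ Squarefree f₁ ∧ 1 ≤ f₁.natDegree ∧
      ustar (q := q) f₁ = f₁ ∧ ustar (q := q) f₂ = f₂ := by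
  have hu : ¬ IsUnit f := by
    intro hu
    have := Polynomial.natDegree_eq_zero_of_isUnit hu
    omega
  obtain ⟨g, hgm, hg, hgf⟩ := Polynomial.exists_monic_irreducible_factor f hu
  obtain ⟨r, rfl⟩ := hgf
  have hrm : r.Monic := hgm.of_mul_monic_left hf
  have hc0 : g.coeff 0 * r.coeff 0 ≠ 0 := by rwa [← Polynomial.mul_coeff_zero]
  have hg0 : g.coeff 0 ≠ 0 := left_ne_zero_of_mul hc0
  have hr0 : r.coeff 0 ≠ 0 := right_ne_zero_of_mul hc0
  have hgdeg : 1 ≤ g.natDegree := hg.natDegree_pos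
  have hg'm : (ustar (q := q) g).Monic := ustar_monic hg0
  have hg' : Irreducible (ustar (q := q) g) := irreducible_ustar hg hg0
  rw [ustar_mul] at hs
  by_cases hgg : ustar (q := q) g = g
  · refine ⟨g, r, rfl, hgm, hrm, hg.squarefree, hgdeg, hgg, ?_⟩
    rw [hgg] at hs
    exact mul_left_cancel₀ hgm.ne_zero hs
  · have hc : IsCoprime g (ustar (q := q) g) := by
      rw [Irreducible.coprime_iff_not_dvd hg]
      intro hdvd
      apply hgg
      have hass : Associated g (ustar (q := q) g) := hg.associated_of_dvd hg' hdvd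
      exact (Polynomial.eq_of_monic_of_associated hgm hg'm hass).symm
    have hdvd : ustar (q := q) g ∣ g * r := ⟨ustar (q := q) r, hs.symm⟩
    have hdvd2 : g * ustar (q := q) g ∣ g * r := hc.mul_dvd (dvd_mul_right _ _) hdvd
    obtain ⟨r', hr'⟩ := hdvd2
    have hf₁m : (g * ustar (q := q) g).Monic := hgm.mul hg'm
    have hr'm : r'.Monic := by
      have : (g * ustar (q := q) g * r').Monic := by rw [← hr']; exact hf
      exact hf₁m.of_mul_monic_left this
    have hf₁s : ustar (q := q) (g * ustar (q := q) g) = g * ustar (q := q) g := by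
      rw [ustar_mul, ustar_ustar hgm hg0, mul_comm]
    refine ⟨g * ustar (q := q) g, r', hr', hf₁m, hr'm, ?_, ?_, hf₁s, ?_⟩
    · exact squarefree_mul_iff.mpr ⟨hc.isRelPrime, hg.squarefree, hg'.squarefree⟩
    · rw [hgm.natDegree_mul hg'm]
      omega
    · have e : ustar (q := q) (g * r) = g * r := by rw [ustar_mul]; exact hs
      rw [hr', ustar_mul, hf₁s] at e
      exact mul_left_cancel₀ hf₁m.ne_zero e

/-- realising a self-dual polynomial by a unitary matrix of order prime to `p` -/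
theorem exists_unitary_realization (p : ℕ) [Fact p.Prime] [CharP K p] (n : ℕ) (f : K[X])
    (hf : f.Monic) (hn : f.natDegree = n) (h0 : f.coeff 0 ≠ 0) (hs : ustar (q := q) f = f) :
    ∃ U : GL (Fin n) K, st (q := q) (U : Matrix (Fin n) (Fin n) K) *
      (U : Matrix (Fin n) (Fin n) K) = 1 ∧ (U : Matrix (Fin n) (Fin n) K).charpoly = f ∧
      (orderOf U).Coprime p := by
  have hp : p.Prime := Fact.out
  obtain ⟨g₀, hg1, hg2⟩ := exists_realization p n f hf hn h0
  set A : Matrix (Fin n) (Fin n) K := (g₀ : Matrix (Fin n) (Fin n) K) with hA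
  set Ai : Matrix (Fin n) (Fin n) K := ((g₀⁻¹ : GL (Fin n) K) : Matrix (Fin n) (Fin n) K) with hAi
  have hA1 : A * Ai = 1 := by
    rw [hA, hAi, ← Units.val_mul, mul_inv_cancel, Units.val_one]
  have hA2 : Ai * A = 1 := mul_eq_one_comm.mp hA1
  have hsA1 : st (q := q) A * st (q := q) Ai = 1 := by rw [← st_mul, hA2, st_one]
  -- the squarefree polynomial
  set N := orderOf g₀ with hN
  have hsq : Squarefree (X ^ N - 1 : K[X]) := by
    have hm : ((N : ℕ) : K) ≠ 0 := by
      intro h0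
      have h1 := (CharP.cast_eq_zero_iff K p N).mp h0
      have h2 : p ∣ Nat.gcd N p := Nat.dvd_gcd h1 dvd_rfl
      rw [hg2] at h2
      exact hp.one_lt.ne' (Nat.dvd_one.mp h2)
    have := Polynomial.separable_X_pow_sub_C (1 : K) hm one_ne_zero
    rw [map_one] at this
    exact this.squarefree
  have hAN : A ^ N = 1 := by
    rw [hA, ← Units.val_pow_eq_pow_val, pow_orderOf_eq_one, Units.val_one]
  have hAiN : Ai ^ N = 1 := by
    rw [hAi, ← Units.val_pow_eq_pow_val, inv_pow, pow_orderOf_eq_one, inv_one, Units.val_one]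
  have k1 : aeval A (X ^ N - 1 : K[X]) = 0 := by
    rw [map_sub, map_pow, aeval_X, map_one, hAN, sub_self]
  have k2 : aeval (st (q := q) Ai) (X ^ N - 1 : K[X]) = 0 := by
    rw [map_sub, map_pow, aeval_X, map_one, ← st_pow, hAiN, st_one, sub_self]
  have hc : A.charpoly = (st (q := q) Ai).charpoly := by
    rw [hAi, charpoly_st_inv, ← hA, hg1, hs]
  obtain ⟨x, hx⟩ := exists_conj_of_charpoly_eq A (st (q := q) Ai) _ _ hsq hsq k1 k2 hc
  have hx1 : (x : Matrix (Fin n) (Fin n) K) * ((x⁻¹ : GL (Fin n) K) : Matrix (Fin n) (Fin n) K)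
      = 1 := by
    rw [← Units.val_mul, mul_inv_cancel, Units.val_one]
  have hx2 : ((x⁻¹ : GL (Fin n) K) : Matrix (Fin n) (Fin n) K) * (x : Matrix (Fin n) (Fin n) K)
      = 1 := mul_eq_one_comm.mp hx1
  have hxA : (x : Matrix (Fin n) (Fin n) K) * A = st (q := q) Ai * (x : Matrix (Fin n) (Fin n) K) := by
    rw [← hx, Matrix.mul_assoc, hx2, Matrix.mul_one]
  have hform : st (q := q) A * (x : Matrix (Fin n) (Fin n) K) * A
      = (x : Matrix (Fin n) (Fin n) K) := by
    rw [Matrix.mul_assoc, hxA, ← Matrix.mul_assoc, hsA1, Matrix.one_mul]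
  obtain ⟨P, Pi, hP1, hPu⟩ := exists_unitary_conj_of_form (q := q) A Ai _ _ hA1 hx1 hform
  have hP2 : Pi * P = 1 := mul_eq_one_comm.mp hP1
  let Pg : GL (Fin n) K := ⟨P, Pi, hP1, hP2⟩
  refine ⟨Pg * g₀ * Pg⁻¹, hPu, ?_, ?_⟩
  · rw [Units.val_mul, Units.val_mul, Matrix.coe_units_inv, Matrix.charpoly_units_conj, hg1]
  · have := MulEquiv.orderOf_eq (MulAut.conj Pg) g₀
    rw [MulAut.conj_apply] at this
    rw [this]
    exact hg2

end Cfsg.Agent.Helper8.SUSemi
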