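import Mathlib
set_option autoImplicit false

namespace Cfsg.Agent.Helper8.SemiS

theorem card_tuples_sum_eq (t m : ℕ) :
    Nat.card {c : Option (Fin t) → ℕ // ∑ o, c o = m} = Nat.choose (m + t) t := by
  classical
  rw [← Nat.card_congr (Sym.equivNatSumOfFintype (Option (Fin t)) m), Nat.card_eq_fintype_card,
    Sym.card_sym_eq_choose, Fintype.card_option, Fintype.card_fin]
  have : t + 1 + m - 1 = m + t := by omega
  rw [this, Nat.choose_symm_add]

/-- weighted version: first coordinate of weight one, the others of weight `i` -/
noncomputable def weightedEquiv (t i n : ℕ) (hi : 0 < i) :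
    {a : Option (Fin t) → ℕ // a none + (∑ j, a (some j)) * i = n} ≃
      {c : Option (Fin t) → ℕ // ∑ o, c o = n / i} where
  toFun a := ⟨fun o => Option.elim o (n / i - ∑ j, a.1 (some j)) (fun j => a.1 (some j)), by
    rw [Fintype.sum_option]
    simp only [Option.elim_none, Option.elim_some]
    have h1 : (∑ j, a.1 (some j)) ≤ n / i := by
      rw [Nat.le_div_iff_mul_le hi]
      have := a.2
      omega
    omega⟩
  invFun c := ⟨fun o => Option.elim o (n - (∑ j, c.1 (some j)) * i) (fun j => c.1 (some j)), by
    simp only [Option.elim_none, Option.elim_some]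
    have h0 := c.2
    rw [Fintype.sum_option] at h0
    have h1 : (∑ j, c.1 (some j)) ≤ n / i := by omega
    rw [Nat.le_div_iff_mul_le hi] at h1
    omega⟩
  left_inv a := by
    apply Subtype.ext
    funext o
    cases o with
    | none =>
      simp only [Option.elim_none, Option.elim_some]
      have := a.2
      omega
    | some j => rfl
  right_inv c := by
    apply Subtype.ext
    funext o
    cases o with
    | none =>
      simp only [Option.elim_none, Option.elim_some]
      have h0 := c.2
      rw [Fintype.sum_option] at h0
      omega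
    | some j => rfl

theorem card_weighted (t i n : ℕ) (hi : 0 < i) :
    Nat.card {a : Option (Fin t) → ℕ // a none + (∑ j, a (some j)) * i = n} =
      Nat.choose (n / i + t) t := by
  rw [Nat.card_congr (weightedEquiv t i n hi), card_tuples_sum_eq]

theorem card_weighted_ne (t i n : ℕ) (hi : 0 < i) :
    Nat.card {a : Option (Fin t) → ℕ // a none + (∑ j, a (some j)) * i = n ∧
      a ≠ fun o => Option.elim o n (fun _ => 0)} = Nat.choose (n / i + t) t - 1 := by
  classical
  let A0 := {a : Option (Fin t) → ℕ // a none + (∑ j, a (some j)) * i = n}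
  have hfin : Finite A0 := by
    apply Nat.finite_of_card_ne_zero
    rw [card_weighted t i n hi]
    exact (Nat.choose_pos (Nat.le_add_left t (n / i))).ne'
  haveI : Fintype A0 := Fintype.ofFinite A0
  let y₀ : A0 := ⟨fun o => Option.elim o n (fun _ => 0), by simp⟩
  have e : {a : Option (Fin t) → ℕ // a none + (∑ j, a (some j)) * i = n ∧
      a ≠ fun o => Option.elim o n (fun _ => 0)} ≃ {y : A0 // y ≠ y₀} :=
    { toFun := fun a => ⟨⟨a.1, a.2.1⟩, fun h => a.2.2 (congrArg Subtype.val h)⟩
      invFun := fun y => ⟨y.1.1, y.1.2, fun h => y.2 (Subtype.ext h)⟩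
      left_inv := fun a => rfl
      right_inv := fun y => rfl }
  rw [Nat.card_congr e, Nat.card_eq_fintype_card, Fintype.card_subtype_compl,
    Fintype.card_subtype_eq, ← Nat.card_eq_fintype_card, card_weighted t i n hi]

end Cfsg.Agent.Helper8.SemiS
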