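import Cfsg.Agent.Helper8.SemiSCyclo
import Cfsg.Agent.Helper8.SemiSCount
set_option autoImplicit false

namespace Cfsg.Agent.Helper8.SemiS

open Polynomial Module Matrix

variable {F : Type*} [Field F] [Fintype F]

omit [Fintype F] in
theorem aeval_X_pow_sub_one {n : ℕ} (A : Matrix (Fin n) (Fin n) F) (r : ℕ) :
    aeval A (X ^ r - 1 : F[X]) = A ^ r - 1 := by
  rw [map_sub, map_pow, aeval_X, map_one]

omit [Fintype F] in
/-- a matrix killed by a squarefree polynomial with characteristic polynomial `(X - 1) ^ n` is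
the identity -/
theorem eq_one_of_charpoly {n : ℕ} (A : Matrix (Fin n) (Fin n) F) (h : F[X]) (hsq : Squarefree h)
    (hA : aeval A h = 0) (hc : A.charpoly = (X - 1) ^ n) : A = 1 := by
  have h1 : aeval (1 : Matrix (Fin n) (Fin n) F) (X - 1 : F[X]) = 0 := by
    rw [map_sub, aeval_X, map_one, sub_self]
  have hsq1 : Squarefree (X - 1 : F[X]) := by
    have : (X - 1 : F[X]) = X - C 1 := by rw [map_one]
    rw [this]
    exact (irreducible_X_sub_C 1).squarefree
  obtain ⟨x, hx⟩ := exists_conj_of_charpoly_eq A 1 h (X - 1) hsq hsq1 hA h1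
    (by rw [hc, Matrix.charpoly_one, Fintype.card_fin])
  have hxx : ((x⁻¹ : GL (Fin n) F) : Matrix (Fin n) (Fin n) F) * (x : Matrix (Fin n) (Fin n) F) = 1 := by
    rw [← Units.val_mul, inv_mul_cancel, Units.val_one]
  have hxx' : (x : Matrix (Fin n) (Fin n) F) * ((x⁻¹ : GL (Fin n) F) : Matrix (Fin n) (Fin n) F) = 1 := by
    rw [← Units.val_mul, mul_inv_cancel, Units.val_one]
  calc A = (((x⁻¹ : GL (Fin n) F) : Matrix (Fin n) (Fin n) F) * (x : Matrix (Fin n) (Fin n) F)) * A *
        (((x⁻¹ : GL (Fin n) F) : Matrix (Fin n) (Fin n) F) * (x : Matrix (Fin n) (Fin n) F)) := by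
          rw [hxx, Matrix.one_mul, Matrix.mul_one]
    _ = ((x⁻¹ : GL (Fin n) F) : Matrix (Fin n) (Fin n) F) *
        ((x : Matrix (Fin n) (Fin n) F) * A * ((x⁻¹ : GL (Fin n) F) : Matrix (Fin n) (Fin n) F)) *
        (x : Matrix (Fin n) (Fin n) F) := by simp only [Matrix.mul_assoc]
    _ = 1 := by rw [hx, Matrix.mul_one, hxx]

theorem card_order_r_classes {q : ℕ} (p : ℕ) [Fact p.Prime] [CharP F p]
    (hF : Fintype.card F = q) (n r i t : ℕ) (hr : r.Prime) (hrp : r ≠ p)
    (hi : i = orderOf (q : ZMod r)) (ht : t * i = r - 1) :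
    Nat.card {C : ConjClasses (GL (Fin n) F) //
      ∃ g : GL (Fin n) F, ConjClasses.mk g = C ∧ orderOf g = r} =
      Nat.choose (n / i + t) t - 1 := by
  classical
  subst hF
  have hp : p.Prime := Fact.out
  obtain ⟨Q, hinj, hQ, hQ0, hQdeg, hQdvd, hQall⟩ :=
    exists_factors_X_pow_sub_one (F := F) p r hr hrp i t hi ht
  have hsq := squarefree_X_pow_sub_one (F := F) p r hr hrp
  have hmon : ∀ j, (Q j).Monic := fun j => (hQ j).1
  have hipos : 0 < i := by
    rcases Nat.eq_zero_or_pos i with h0 | h0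
    · rw [h0, mul_zero] at ht
      have := hr.two_le
      omega
    · exact h0
  let triv : Option (Fin t) → ℕ := fun o => Option.elim o n (fun _ => 0)
  have htriv : ∏ j, Q j ^ triv j = (X - 1) ^ n := by
    rw [Fintype.prod_option]
    simp only [triv, Option.elim_none, Option.elim_some, pow_zero, Finset.prod_const_one, mul_one]
    rw [hQ0]
  let Rel : (Option (Fin t) → ℕ) → Prop := fun a =>
    (∑ o, a o * (Q o).natDegree = n) ∧ a ≠ triv
  -- order r in terms of matrices
  have hK1 : ∀ g : GL (Fin n) F, orderOf g = r →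
      aeval (g : Matrix (Fin n) (Fin n) F) (X ^ r - 1 : F[X]) = 0 := by
    intro g hg
    rw [aeval_X_pow_sub_one, ← Units.val_pow_eq_pow_val, ← hg, pow_orderOf_eq_one, Units.val_one,
      sub_self]
  have hiff : ∀ g g' : GL (Fin n) F, orderOf g = r → orderOf g' = r →
      (IsConj g g' ↔ (g : Matrix (Fin n) (Fin n) F).charpoly =
        (g' : Matrix (Fin n) (Fin n) F).charpoly) := by
    intro g g' hg hg'
    constructor
    · intro hc
      rw [isConj_iff] at hc
      obtain ⟨x, hx⟩ := hc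
      rw [← hx]
      simp only [Units.val_mul]
      rw [Matrix.coe_units_inv, Matrix.charpoly_units_conj]
    · intro hc
      obtain ⟨x, hx⟩ := exists_conj_of_charpoly_eq _ _ _ _ hsq hsq (hK1 g hg) (hK1 g' hg') hc
      rw [isConj_iff]
      refine ⟨x, ?_⟩
      apply Units.ext
      simp only [Units.val_mul]
      exact hx
  have hPQ : ∀ g : GL (Fin n) F, orderOf g = r →
      ∃ a, Rel a ∧ (g : Matrix (Fin n) (Fin n) F).charpoly = ∏ j, Q j ^ a j := by
    intro g hg
    obtain ⟨a, ha1, ha2⟩ := expo_of_killed Q (X ^ r - 1) hsq hQall hmon _ (hK1 g hg)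
    refine ⟨a, ⟨ha2, ?_⟩, ha1⟩
    intro hat
    rw [hat, htriv] at ha1
    have h1 := eq_one_of_charpoly _ _ hsq (hK1 g hg) ha1
    have h2 : g = 1 := Units.ext h1
    rw [h2, orderOf_one] at hg
    exact hr.one_lt.ne hg
  have hsurj : ∀ f : F[X], (∃ a, Rel a ∧ f = ∏ j, Q j ^ a j) →
      ∃ g : GL (Fin n) F, orderOf g = r ∧ (g : Matrix (Fin n) (Fin n) F).charpoly = f := by
    rintro f ⟨a, ⟨ha1, ha2⟩, rfl⟩
    obtain ⟨A, hA1, hA2⟩ := matrix_of_expo Q (X ^ r - 1) hmon a (fun j _ => hQdvd j) ha1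
    rw [aeval_X_pow_sub_one, sub_eq_zero] at hA2
    have hr0 : r ≠ 0 := hr.ne_zero
    let g : GL (Fin n) F := ⟨A, A ^ (r - 1), by rw [mul_pow_sub_one hr0, hA2],
      by rw [pow_sub_one_mul hr0, hA2]⟩
    refine ⟨g, ?_, hA1⟩
    have hgr : g ^ r = 1 := by
      apply Units.ext
      rw [Units.val_pow_eq_pow_val]
      exact hA2
    have hdvd := orderOf_dvd_of_pow_eq_one hgr
    rcases (Nat.dvd_prime hr).mp hdvd with h1 | h1
    · exfalso
      rw [orderOf_eq_one_iff] at h1
      have hA : A = 1 := congrArg Units.val h1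
      rw [hA, Matrix.charpoly_one, Fintype.card_fin, ← htriv] at hA1
      exact ha2 (prod_pow_injective Q hQ hinj hA1).symm
    · exact h1
  rw [card_classes_of_invariant (fun g : GL (Fin n) F => orderOf g = r)
    (fun g => (g : Matrix (Fin n) (Fin n) F).charpoly)
    (fun f => ∃ a, Rel a ∧ f = ∏ j, Q j ^ a j) hiff hPQ hsurj,
    card_image_expo Q hQ hinj Rel, ← card_weighted_ne t i n hipos]
  apply Nat.card_congr
  apply Equiv.subtypeEquivRight
  intro a
  have hsum : ∑ o, a o * (Q o).natDegree = a none + (∑ j, a (some j)) * i := by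
    rw [Fintype.sum_option, hQ0, Finset.sum_mul]
    have : (X - 1 : F[X]).natDegree = 1 := by
      have : (X - 1 : F[X]) = X - C 1 := by rw [map_one]
      rw [this, natDegree_X_sub_C]
    rw [this, mul_one]
    congr 1
    apply Finset.sum_congr rfl
    intro j _
    rw [hQdeg j]
  change (∑ o, a o * (Q o).natDegree = n ∧ a ≠ triv) ↔ _
  rw [hsum]

end Cfsg.Agent.Helper8.SemiS
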