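import Mathlib
import Cfsg.Agent.Helper8.SemiSCount
set_option autoImplicit false

/-! Counting exponent tuples that are symmetric under a fixed-point-free involution. -/

namespace Cfsg.Agent.Helper8.SpR

/-- a fixed-point-free involution on a finite type pairs up its elements -/
theorem exists_equiv_prod_bool {α : Type*} [Fintype α] [DecidableEq α] (τ : α → α)
    (hinv : Function.Involutive τ) (hfix : ∀ x, τ x ≠ x) :
    ∃ (k : ℕ) (e : α ≃ Fin k × Bool), ∀ x, e (τ x) = ((e x).1, !(e x).2) := by
  classical
  let s : Setoid α :=
    { r := fun x y => x = y ∨ τ x = y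
      iseqv := by
        refine ⟨fun x => Or.inl rfl, ?_, ?_⟩
        · rintro x y (h | h)
          · exact Or.inl h.symm
          · right
            rw [← h, hinv x]
        · rintro x y z (h | h) (h' | h')
          · exact Or.inl (h.trans h')
          · right; rw [h]; exact h'
          · right; rw [h]; exact h'
          · left
            rw [← h', ← h, hinv x] }
  let β := Quotient s
  let rep : β → α := Quotient.out
  have hrep : ∀ x : α, rep ⟦x⟧ = x ∨ τ (rep ⟦x⟧) = x := by
    intro x
    have h1 : (⟦rep ⟦x⟧⟧ : β) = ⟦x⟧ := Quotient.out_eq _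
    exact Quotient.exact h1
  have hmkτ : ∀ x : α, (⟦τ x⟧ : β) = ⟦x⟧ := by
    intro x
    apply Quotient.sound
    change τ x = x ∨ τ (τ x) = x
    exact Or.inr (hinv x)
  let e₀ : α ≃ β × Bool :=
    { toFun := fun x => (⟦x⟧, decide (x = rep ⟦x⟧))
      invFun := fun y => if y.2 then rep y.1 else τ (rep y.1)
      left_inv := by
        intro x
        by_cases hx : x = rep ⟦x⟧
        · have hd : decide (x = rep ⟦x⟧) = true := decide_eq_true hx
          simp only [hd, if_true]
          exact hx.symm
        · have hd : decide (x = rep ⟦x⟧) = false := decide_eq_false hx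
          simp only [hd, Bool.false_eq_true, if_false]
          rcases hrep x with h | h
          · exact absurd h.symm hx
          · exact h
      right_inv := by
        rintro ⟨b, c⟩
        cases c with
        | true =>
          simp only [if_true]
          have h1 : (⟦rep b⟧ : β) = b := Quotient.out_eq b
          rw [Prod.mk.injEq]
          refine ⟨h1, ?_⟩
          rw [h1]
          simp
        | false =>
          simp only [Bool.false_eq_true, if_false]
          have h1 : (⟦τ (rep b)⟧ : β) = b := by rw [hmkτ]; exact Quotient.out_eq b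
          rw [Prod.mk.injEq]
          refine ⟨h1, ?_⟩
          rw [h1]
          simp only [decide_eq_false_iff_not]
          exact hfix (rep b) }
  have he₀ : ∀ x, e₀ (τ x) = ((e₀ x).1, !(e₀ x).2) := by
    intro x
    change ((⟦τ x⟧ : β), decide (τ x = rep ⟦τ x⟧)) = ((⟦x⟧ : β), !decide (x = rep ⟦x⟧))
    rw [hmkτ x]
    rw [Prod.mk.injEq]
    refine ⟨rfl, ?_⟩
    by_cases hx : x = rep ⟦x⟧
    · rw [decide_eq_true hx, Bool.not_true, decide_eq_false_iff_not]
      intro h
      rw [← hx] at h
      exact hfix x h
    · rw [decide_eq_false hx, Bool.not_false, decide_eq_true_eq]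
      rcases hrep x with h | h
      · exact absurd h.symm hx
      · calc τ x = τ (τ (rep ⟦x⟧)) := by rw [h]
          _ = rep ⟦x⟧ := hinv _
  let f : β ≃ Fin (Fintype.card β) := Fintype.equivFin β
  refine ⟨Fintype.card β, e₀.trans (Equiv.prodCongr f (Equiv.refl Bool)), ?_⟩
  intro x
  change (f (e₀ (τ x)).1, (e₀ (τ x)).2) = (f (e₀ x).1, !(e₀ x).2)
  rw [he₀ x]

open Cfsg.Agent.Helper8.SemiS

theorem card_symm_tuples (t i n : ℕ) (hi : 0 < i) (τ : Fin t → Fin t)
    (hinv : Function.Involutive τ) (hfix : ∀ j, τ j ≠ j) :
    Nat.card {a : Option (Fin t) → ℕ // a none + (∑ j, a (some j)) * i = n ∧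
      a ≠ (fun o => Option.elim o n (fun _ => 0)) ∧ ∀ j, a (some (τ j)) = a (some j)} =
      Nat.choose (n / (2 * i) + t / 2) (t / 2) - 1 := by
  classical
  obtain ⟨k, e, he⟩ := exists_equiv_prod_bool τ hinv hfix
  have hk : t / 2 = k := by
    have h1 := Fintype.card_congr e
    rw [Fintype.card_fin, Fintype.card_prod, Fintype.card_fin, Fintype.card_bool] at h1
    omega
  rw [hk, ← card_weighted_ne k (2 * i) n (by omega)]
  have hflip : ∀ l : Fin k, τ (e.symm (l, true)) = e.symm (l, false) := by
    intro l
    apply e.injective
    rw [he, Equiv.apply_symm_apply, Equiv.apply_symm_apply]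
    rfl
  have hsum : ∀ a : Option (Fin t) → ℕ, (∀ j, a (some (τ j)) = a (some j)) →
      ∑ j, a (some j) = 2 * ∑ l : Fin k, a (some (e.symm (l, true))) := by
    intro a ha
    rw [← Equiv.sum_comp e.symm (fun j => a (some j)), Fintype.sum_prod_type, Finset.mul_sum]
    apply Finset.sum_congr rfl
    intro l _
    rw [Fintype.sum_bool, ← hflip l, ha]
    ring
  apply Nat.card_congr
  refine
    { toFun := fun a => ⟨fun o => Option.elim o (a.1 none) (fun l => a.1 (some (e.symm (l, true)))), ?_, ?_⟩
      invFun := fun b => ⟨fun o => Option.elim o (b.1 none) (fun j => b.1 (some (e j).1)), ?_, ?_, ?_⟩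
      left_inv := ?_
      right_inv := ?_ }
  · simp only [Option.elim_none, Option.elim_some]
    have h1 := a.2.1
    rw [hsum a.1 a.2.2.2] at h1
    have h2 : (∑ l : Fin k, a.1 (some (e.symm (l, true)))) * (2 * i)
        = (2 * ∑ l : Fin k, a.1 (some (e.symm (l, true)))) * i := by ring
    rw [h2]
    exact h1
  · intro h
    apply a.2.2.1
    funext o
    cases o with
    | none => exact congrFun h none
    | some j =>
      simp only [Option.elim_some]
      have h2 : a.1 (some (e.symm ((e j).1, true))) = 0 := congrFun h (some (e j).1)
      rcases hb : (e j).2 with _ | _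
      · have h3 : j = τ (e.symm ((e j).1, true)) := by
          rw [hflip]
          apply e.injective
          rw [Equiv.apply_symm_apply, ← hb]
        exact (congrArg (fun x => a.1 (some x)) h3).trans ((a.2.2.2 _).trans h2)
      · have h3 : j = e.symm ((e j).1, true) := by
          apply e.injective
          rw [Equiv.apply_symm_apply, ← hb]
        exact (congrArg (fun x => a.1 (some x)) h3).trans h2
  · simp only [Option.elim_none, Option.elim_some]
    have h1 := b.2.1
    have h2 : ∑ j : Fin t, b.1 (some (e j).1) = 2 * ∑ l : Fin k, b.1 (some l) := by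
      rw [← Equiv.sum_comp e.symm (fun j => b.1 (some (e j).1)), Fintype.sum_prod_type,
        Finset.mul_sum]
      apply Finset.sum_congr rfl
      intro l _
      rw [Fintype.sum_bool]
      simp only [Equiv.apply_symm_apply]
      ring
    rw [h2]
    have h3 : (2 * ∑ l : Fin k, b.1 (some l)) * i = (∑ l : Fin k, b.1 (some l)) * (2 * i) := by
      ring
    rw [h3]
    exact h1
  · intro h
    apply b.2.2
    funext o
    cases o with
    | none => exact congrFun h none
    | some l =>
      simp only [Option.elim_some]
      have h2 := congrFun h (some (e.symm (l, true)))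
      simp only [Option.elim_some, Equiv.apply_symm_apply] at h2
      exact h2
  · intro j
    simp only [Option.elim_some]
    rw [he]
  · intro a
    apply Subtype.ext
    funext o
    cases o with
    | none => rfl
    | some j =>
      simp only [Option.elim_some]
      rcases hb : (e j).2 with _ | _
      · have h3 : j = τ (e.symm ((e j).1, true)) := by
          rw [hflip]
          apply e.injective
          rw [Equiv.apply_symm_apply, ← hb]
        exact ((congrArg (fun x => a.1 (some x)) h3).trans (a.2.2.2 _)).symm
      · have h3 : j = e.symm ((e j).1, true) := by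
          apply e.injective
          rw [Equiv.apply_symm_apply, ← hb]
        exact (congrArg (fun x => a.1 (some x)) h3).symm
  · intro b
    apply Subtype.ext
    funext o
    cases o with
    | none => rfl
    | some l =>
      simp only [Option.elim_some, Equiv.apply_symm_apply]

end Cfsg.Agent.Helper8.SpR
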