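import Cfsg.Agent.Helper8.WallD
set_option autoImplicit false
set_option linter.unusedSectionVars false

/-!
Wall's theorem: conjugacy in the finite general unitary group is controlled by the general linear
group.
-/

namespace Cfsg.Agent.Helper8.Wall

open Polynomial Matrix Cfsg Cfsg.Agent.Helper8.GUOrder Cfsg.Agent.Helper8.SUCenter
  Cfsg.Agent.Helper8.AutSU Cfsg.Agent.Helper8.PU3 Cfsg.Agent.Helper8.PSUSing
  Cfsg.Agent.Helper8.RegSU

variable {K : Type*} [Field K] [Fintype K] {q : ℕ} [hF : Fact (Fintype.card K = q ^ 2)]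
variable {ι : Type*} [Fintype ι] [DecidableEq ι]

/-- matrix form of Wall's theorem -/
theorem exists_unitary_conj_of_conj (A B X Xi : Matrix ι ι K)
    (hA : st (q := q) A * A = 1) (hB : st (q := q) B * B = 1) (hX : X * Xi = 1)
    (hconj : X * A = B * X) :
    ∃ Y : Matrix ι ι K, st (q := q) Y * Y = 1 ∧ Y * A = B * Y := by
  obtain ⟨p, hp⟩ := CharP.exists K
  have hpp : Fact p.Prime := ⟨CharP.char_is_prime K p⟩
  have hXi : Xi * X = 1 := mul_eq_one_comm.mp hX
  have hA' : A * st (q := q) A = 1 := mul_eq_one_comm.mp hA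
  have hB' : B * st (q := q) B = 1 := mul_eq_one_comm.mp hB
  set a : Matrix ι ι K := st (q := q) X * X with ha
  set ai : Matrix ι ι K := Xi * st (q := q) Xi with hai
  have haai : a * ai = 1 := by
    calc a * ai = st (q := q) X * (X * Xi) * st (q := q) Xi := by
          rw [ha, hai]; simp only [Matrix.mul_assoc]
      _ = 1 := by rw [hX, Matrix.mul_one, ← st_mul, hXi, st_one]
  have haia : ai * a = 1 := mul_eq_one_comm.mp haai
  have hast : st (q := q) a = a := by rw [ha, st_mul, st_st]
  have h1 : st (q := q) X * B = A * st (q := q) X := by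
    have e := congrArg (st (q := q)) hconj
    rw [st_mul, st_mul] at e
    calc st (q := q) X * B = (A * st (q := q) A) * st (q := q) X * B := by
          rw [hA', Matrix.one_mul]
      _ = A * (st (q := q) A * st (q := q) X) * B := by simp only [Matrix.mul_assoc]
      _ = A * (st (q := q) X * st (q := q) B) * B := by rw [e]
      _ = A * st (q := q) X * (st (q := q) B * B) := by simp only [Matrix.mul_assoc]
      _ = A * st (q := q) X := by rw [hB, Matrix.mul_one]
  have haA : Commute A a := by
    rw [Commute, SemiconjBy]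
    calc A * a = (A * st (q := q) X) * X := by rw [ha, Matrix.mul_assoc]
      _ = st (q := q) X * (B * X) := by rw [← h1, Matrix.mul_assoc]
      _ = a * A := by rw [← hconj, ha, Matrix.mul_assoc]
  have hau : IsUnit a := ⟨⟨a, ai, haai, haia⟩, rfl⟩
  obtain ⟨c, hcc, hc⟩ := exists_st_mul_eq_of_isUnit (q := q) p a hast hau
  set ci : Matrix ι ι K := ai * st (q := q) c with hci
  have hcic : ci * c = 1 := by rw [hci, Matrix.mul_assoc, hc, haia]
  have hcci : c * ci = 1 := mul_eq_one_comm.mp hcic
  have hAc : Commute A c := hcc A haA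
  have hAci : Commute A ci := commute_inv_of_commute hcci hcic hAc
  refine ⟨X * ci, ?_, ?_⟩
  · rw [st_mul]
    calc st (q := q) ci * st (q := q) X * (X * ci) = st (q := q) ci * a * ci := by
          rw [ha]; simp only [Matrix.mul_assoc]
      _ = st (q := q) ci * (st (q := q) c * c) * ci := by rw [hc]
      _ = (st (q := q) ci * st (q := q) c) * (c * ci) := by simp only [Matrix.mul_assoc]
      _ = 1 := by rw [← st_mul, hcci, st_one, Matrix.mul_one]
  · calc X * ci * A = X * (ci * A) := by rw [Matrix.mul_assoc]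
      _ = X * (A * ci) := by rw [hAci.eq]
      _ = (X * A) * ci := by rw [Matrix.mul_assoc]
      _ = B * (X * ci) := by rw [hconj, Matrix.mul_assoc]

/-- **Wall's theorem** for the general unitary group -/
theorem isConj_GU_iff {n : ℕ} (A B : GU n K q) :
    IsConj A B ↔ IsConj (A : GL (Fin n) K) (B : GL (Fin n) K) := by
  constructor
  · intro h
    rw [isConj_iff] at h ⊢
    obtain ⟨c, hc⟩ := h
    exact ⟨(c : GL (Fin n) K), by rw [← hc]; rfl⟩
  · intro h
    rw [isConj_iff] at h
    obtain ⟨x, hx⟩ := h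
    rw [mul_inv_eq_iff_eq_mul] at hx
    have hA : st (q := q) ((A : GL (Fin n) K) : Matrix (Fin n) (Fin n) K) *
        ((A : GL (Fin n) K) : Matrix (Fin n) (Fin n) K) = 1 :=
      (unitary_iff_st _).mp ((mem_GU_iff hF.out A.1).mp A.2)
    have hB : st (q := q) ((B : GL (Fin n) K) : Matrix (Fin n) (Fin n) K) *
        ((B : GL (Fin n) K) : Matrix (Fin n) (Fin n) K) = 1 :=
      (unitary_iff_st _).mp ((mem_GU_iff hF.out B.1).mp B.2)
    have hX : (x : Matrix (Fin n) (Fin n) K) * ((x⁻¹ : GL (Fin n) K) : Matrix (Fin n) (Fin n) K)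
        = 1 := by
      rw [← Units.val_mul, mul_inv_cancel, Units.val_one]
    have hconj : (x : Matrix (Fin n) (Fin n) K) * ((A : GL (Fin n) K) : Matrix (Fin n) (Fin n) K)
        = ((B : GL (Fin n) K) : Matrix (Fin n) (Fin n) K) * (x : Matrix (Fin n) (Fin n) K) := by
      rw [← Units.val_mul, ← Units.val_mul, hx]
    obtain ⟨Y, hY, hYconj⟩ := exists_unitary_conj_of_conj (q := q) _ _ _ _ hA hB hX hconj
    rw [isConj_iff]
    refine ⟨(guEquiv hF.out).symm ⟨Y, (unitary_iff_st Y).mpr hY⟩, ?_⟩
    rw [mul_inv_eq_iff_eq_mul]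
    apply Subtype.ext
    apply Units.ext
    exact hYconj

end Cfsg.Agent.Helper8.Wall
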