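import Mathlib
import Cfsg.Agent.Helper8.GURFactors
import Cfsg.Agent.Helper8.SpRCount
import Cfsg.Agent.Helper8.SemiSOrderR
import Cfsg.Agent.Helper8.SUSemiB
import Cfsg.Agent.Helper8.WallE
set_option autoImplicit false
set_option linter.unusedSectionVars false

/-! The number of conjugacy classes of elements of odd prime order `r` in `GU_n(q)`. -/

namespace Cfsg.Agent.Helper8.GUR

open Polynomial Matrix Cfsg Cfsg.Agent.Helper8.GUOrder Cfsg.Agent.Helper8.SUCenter
  Cfsg.Agent.Helper8.AutSU Cfsg.Agent.Helper8.PU3 Cfsg.Agent.Helper8.PSUSing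
  Cfsg.Agent.Helper8.SUSemi Cfsg.Agent.Helper8.PGraph Cfsg.Agent.Helper8.SpR
  Cfsg.Agent.Helper8.SemiS Cfsg.Agent.Helper8.Wall

variable {K : Type*} [Field K] [Fintype K]

/-- an element of `GL` of order prime to `p` whose characteristic polynomial divides a power of
`X ^ r - 1` satisfies `g ^ r = 1` -/
theorem pow_eq_one_of_charpoly_gl {n : ℕ} (p : ℕ) [Fact p.Prime] [CharP K p]
    (g : GL (Fin n) K) (hg : (orderOf g).Coprime p) (r N : ℕ)
    (hdvd : (g : Matrix (Fin n) (Fin n) K).charpoly ∣ (X ^ r - 1) ^ N) : g ^ r = 1 := by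
  obtain ⟨h, hsq, hA⟩ := semisimple_of_coprime p g hg
  set A : Matrix (Fin n) (Fin n) K := (g : Matrix (Fin n) (Fin n) K) with hAdef
  have hμ1 : minpoly K A ∣ h := minpoly.dvd K A hA
  have hμsq : Squarefree (minpoly K A) := hsq.squarefree_of_dvd hμ1
  have hμ2 : minpoly K A ∣ (X ^ r - 1) ^ (N + 1) :=
    dvd_trans (Matrix.minpoly_dvd_charpoly A) (dvd_trans hdvd (pow_dvd_pow _ (Nat.le_succ N)))
  have hμ3 : minpoly K A ∣ X ^ r - 1 := (hμsq.dvd_pow_iff_dvd (Nat.succ_ne_zero N)).mp hμ2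
  have h2 : aeval A (X ^ r - 1 : K[X]) = 0 := by
    obtain ⟨c, hc⟩ := hμ3
    rw [hc, map_mul, minpoly.aeval, zero_mul]
  rw [map_sub, map_pow, aeval_X, map_one, sub_eq_zero] at h2
  apply Units.ext
  rw [Units.val_pow_eq_pow_val]
  exact h2

theorem card_order_r_classes_gu {q : ℕ} (p : ℕ) [Fact p.Prime] [CharP K p]
    (hK : Fintype.card K = q ^ 2) (n r i b s : ℕ) (hr : r.Prime) (hr2 : r ≠ 2) (hrp : r ≠ p)
    (hi : i = orderOf (q : ZMod r)) (hb : b = if Odd i then i else i / 2)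
    (hs : s * b = r - 1) :
    Nat.card {C : ConjClasses ↥(GU n K q) //
      ∃ g : ↥(GU n K q), ConjClasses.mk g = C ∧ orderOf g = r} =
      if i % 4 = 2 then Nat.choose (2 * n / i + s) s - 1
      else Nat.choose (n / (2 * b) + s / 2) (s / 2) - 1 := by
  classical
  have hFact : Fact (Fintype.card K = q ^ 2) := ⟨hK⟩
  have hp : p.Prime := Fact.out
  have hb' : b = orderOf ((Fintype.card K : ℕ) : ZMod r) := by
    rw [hK, orderOf_sq_zmod r q i hi, hb]
  obtain ⟨Q, hinj, hQ, hQ0, hQdeg, hQdvd, hQall⟩ :=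
    exists_factors_X_pow_sub_one (F := K) p r hr hrp b s hb' hs
  have hsq := SemiS.squarefree_X_pow_sub_one (F := K) p r hr hrp
  have hmon : ∀ j, (Q j).Monic := fun j => (hQ j).1
  have hbpos : 0 < b := by
    rcases Nat.eq_zero_or_pos b with h0 | h0
    · rw [h0, mul_zero] at hs
      have := hr.two_le
      omega
    · exact h0
  have hipos : 0 < i := by
    rcases Nat.eq_zero_or_pos i with h0 | h0
    · rw [h0] at hb
      simp at hb
      omega
    · exact h0
  have hcop : r.Coprime p := (Nat.coprime_primes hr hp).mpr hrp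
  have h0 : ∀ o, (Q o).coeff 0 ≠ 0 :=
    fun o => Cfsg.Agent.Helper8.SpG.coeff_zero_ne_of_dvd (Q o) r hr.pos (hQdvd o)
  let triv : Option (Fin s) → ℕ := fun o => Option.elim o n (fun _ => 0)
  have htriv : fprod Q triv = (X - 1) ^ n := by
    rw [fprod_eq]
    simp only [triv, Option.elim_none, Option.elim_some, pow_zero, Finset.prod_const_one, mul_one]
    rw [hQ0]
  let Rel : (Option (Fin s) → ℕ) → Prop := fun a =>
    (∑ o, a o * (Q o).natDegree = n) ∧ a ≠ triv ∧ ustar (q := q) (fprod Q a) = fprod Q a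
  let mat : ↥(GU n K q) → Matrix (Fin n) (Fin n) K :=
    fun g => ((g : GL (Fin n) K) : Matrix (Fin n) (Fin n) K)
  have hunit : ∀ g : ↥(GU n K q), st (q := q) (mat g) * mat g = 1 := fun g =>
    (unitary_iff_st _).mp ((mem_GU_iff hK g.1).mp g.2)
  have hord : ∀ g : ↥(GU n K q), orderOf (g : GL (Fin n) K) = orderOf g :=
    fun g => Subgroup.orderOf_coe g
  have hK1 : ∀ g : ↥(GU n K q), orderOf g = r → aeval (mat g) (X ^ r - 1 : K[X]) = 0 := by
    intro g hg
    rw [aeval_X_pow_sub_one]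
    change ((g : GL (Fin n) K) : Matrix (Fin n) (Fin n) K) ^ r - 1 = 0
    rw [← Units.val_pow_eq_pow_val, ← hg, ← hord, pow_orderOf_eq_one, Units.val_one, sub_self]
  have hiff : ∀ g g' : ↥(GU n K q), orderOf g = r → orderOf g' = r →
      (IsConj g g' ↔ (mat g).charpoly = (mat g').charpoly) := by
    intro g g' hg hg'
    rw [isConj_GU_iff]
    constructor
    · intro hc
      rw [isConj_iff] at hc
      obtain ⟨x, hx⟩ := hc
      change ((g : GL (Fin n) K) : Matrix (Fin n) (Fin n) K).charpoly =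
        ((g' : GL (Fin n) K) : Matrix (Fin n) (Fin n) K).charpoly
      rw [← hx]
      simp only [Units.val_mul]
      rw [Matrix.coe_units_inv, Matrix.charpoly_units_conj]
    · intro hc
      obtain ⟨x, hx⟩ := exists_conj_of_charpoly_eq _ _ _ _ hsq hsq (hK1 g hg) (hK1 g' hg') hc
      rw [isConj_iff]
      refine ⟨x, ?_⟩
      apply Units.ext
      simp only [Units.val_mul]
      exact hx
  have hPQ : ∀ g : ↥(GU n K q), orderOf g = r →
      ∃ a, Rel a ∧ (mat g).charpoly = fprod Q a := by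
    intro g hg
    obtain ⟨a, ha1, ha2⟩ := expo_of_killed Q (X ^ r - 1) hsq hQall hmon _ (hK1 g hg)
    refine ⟨a, ⟨ha2, ?_, ?_⟩, ha1⟩
    · intro hat
      have ha1' : (mat g).charpoly = fprod Q triv := by
        rw [ha1, hat]
        rfl
      rw [htriv] at ha1'
      have h1 := eq_one_of_charpoly _ _ hsq (hK1 g hg) ha1'
      have h2 : g = 1 := Subtype.ext (Units.ext h1)
      rw [h2, orderOf_one] at hg
      exact hr.one_lt.ne hg
    · change ustar (q := q) (∏ o, Q o ^ a o) = ∏ o, Q o ^ a o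
      rw [← ha1]
      exact ustar_charpoly_of_unitary (g : GL (Fin n) K) (hunit g)
  have hsurj : ∀ f : K[X], (∃ a, Rel a ∧ f = fprod Q a) →
      ∃ g : ↥(GU n K q), orderOf g = r ∧ (mat g).charpoly = f := by
    rintro f ⟨a, ⟨ha1, ha2, ha3⟩, rfl⟩
    have hfm : (fprod Q a).Monic := monic_prod_of_monic _ _ (fun o _ => (hmon o).pow _)
    have hfdeg : (fprod Q a).natDegree = n := by
      change (∏ o, Q o ^ a o).natDegree = n
      rw [natDegree_prod_pow Q hmon, ha1]
    have hf0 : (fprod Q a).coeff 0 ≠ 0 := by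
      change (∏ o, Q o ^ a o).coeff 0 ≠ 0
      rw [Polynomial.coeff_zero_eq_eval_zero, Polynomial.eval_prod, Finset.prod_ne_zero_iff]
      intro o _
      rw [Polynomial.eval_pow, ← Polynomial.coeff_zero_eq_eval_zero]
      exact pow_ne_zero _ (h0 o)
    obtain ⟨U, hU, hUc, hUo⟩ := exists_unitary_realization (q := q) p n _ hfm hfdeg hf0 ha3
    let g : ↥(GU n K q) := ⟨U, (mem_GU_iff hK U).mpr ((unitary_iff_st _).mpr hU)⟩
    refine ⟨g, ?_, hUc⟩
    have hdvd : (U : Matrix (Fin n) (Fin n) K).charpoly ∣ (X ^ r - 1) ^ (∑ o, a o) := by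
      rw [hUc, ← Finset.prod_pow_eq_pow_sum]
      exact Finset.prod_dvd_prod_of_dvd _ _ (fun o _ => pow_dvd_pow_of_dvd (hQdvd o) _)
    have hUr : U ^ r = 1 := pow_eq_one_of_charpoly_gl p U hUo r _ hdvd
    have hgr : g ^ r = 1 := Subtype.ext hUr
    rcases (Nat.dvd_prime hr).mp (orderOf_dvd_of_pow_eq_one hgr) with h1 | h1
    · exfalso
      rw [orderOf_eq_one_iff] at h1
      have hU1 : U = 1 := congrArg Subtype.val h1
      rw [hU1, Units.val_one, Matrix.charpoly_one, Fintype.card_fin, ← htriv] at hUc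
      exact ha2 (prod_pow_injective Q hQ hinj hUc).symm
    · exact h1
  rw [card_classes_of_invariant (fun g : ↥(GU n K q) => orderOf g = r)
    (fun g => (mat g).charpoly)
    (fun f => ∃ a, Rel a ∧ f = fprod Q a) hiff hPQ hsurj]
  have hcard : Nat.card {f : K[X] // ∃ a, Rel a ∧ f = fprod Q a} = Nat.card {a // Rel a} :=
    card_image_expo Q hQ hinj Rel
  rw [hcard]
  have hsum : ∀ a : Option (Fin s) → ℕ,
      ∑ o, a o * (Q o).natDegree = a none + (∑ j, a (some j)) * b := by
    intro a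
    rw [Fintype.sum_option, hQ0, Finset.sum_mul]
    have : (X - 1 : K[X]).natDegree = 1 := by
      have : (X - 1 : K[X]) = X - C 1 := by rw [map_one]
      rw [this, natDegree_X_sub_C]
    rw [this, mul_one]
    congr 1
    apply Finset.sum_congr rfl
    intro j _
    rw [hQdeg j]
  have hne1 : ∀ j, Q (some j) ≠ X - 1 := by
    intro j h
    rw [← hQ0] at h
    exact Option.some_ne_none j (hinj h)
  by_cases h4 : i % 4 = 2
  · rw [if_pos h4]
    have hsd : ∀ j, ustar (q := q) (Q (some j)) = Q (some j) := fun j =>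
      ustar_eq_self_of_mod4 p _ (hQ _).1 (hQ _).2 r hr (hQdvd _) i hi h4
    have hev : ¬ Odd i := by
      rw [Nat.not_odd_iff_even]
      exact ⟨i / 2, by omega⟩
    have hbi : b = i / 2 := by rw [hb, if_neg hev]
    have h2 : 2 * n / i = n / b := by
      have : i = 2 * b := by omega
      rw [this, Nat.mul_div_mul_left _ _ (by norm_num)]
    rw [h2, ← card_weighted_ne s b n hbpos]
    apply Nat.card_congr
    apply Equiv.subtypeEquivRight
    intro a
    change (∑ o, a o * (Q o).natDegree = n ∧ a ≠ triv ∧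
      ustar (q := q) (fprod Q a) = fprod Q a) ↔ _
    rw [hsum]
    constructor
    · rintro ⟨h1, h2, -⟩
      exact ⟨h1, h2⟩
    · rintro ⟨h1, h2⟩
      exact ⟨h1, h2, ustar_fprod_of_selfdual Q hQ0 hsd a⟩
  · rw [if_neg h4]
    obtain ⟨τ, hτ, hinv⟩ := exists_tau_u (q := q) Q r hr.pos hinj hQ hQ0 hQdvd hQall
    have hfix : ∀ j, τ j ≠ j := by
      intro j hj
      have h1 := hτ j
      rw [hj] at h1
      exact ustar_ne_self p (Q (some j)) (hQ _).1 (hQ _).2 r hr hr2 (hQdvd _) (hne1 j) i hi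
        hipos h4 h1.symm
    rw [← card_symm_tuples s b n hbpos τ hinv hfix]
    apply Nat.card_congr
    apply Equiv.subtypeEquivRight
    intro a
    change (∑ o, a o * (Q o).natDegree = n ∧ a ≠ triv ∧
      ustar (q := q) (fprod Q a) = fprod Q a) ↔ _
    rw [hsum]
    constructor
    · rintro ⟨h1, h2, h3⟩
      exact ⟨h1, h2, symm_of_ustar Q hQ0 τ hτ hinv hinj hQ a h3⟩
    · rintro ⟨h1, h2, h3⟩
      exact ⟨h1, h2, ustar_fprod_of_symm Q hQ0 τ hτ hinv a h3⟩

end Cfsg.Agent.Helper8.GUR
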