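import Cfsg.Agent.Helper8.RegSUF
set_option autoImplicit false
set_option linter.unusedSectionVars false

/-!
The regular unipotent classes of the special unitary group: the count.
-/

namespace Cfsg.Agent.Helper8.RegSU

open Polynomial Matrix Cfsg Cfsg.Agent.Helper8.GUOrder Cfsg.Agent.Helper8.SUCenter
  Cfsg.Agent.Helper8.AutSU Cfsg.Agent.Helper8.PU3 Cfsg.Agent.Helper8.PSUSing
  Cfsg.Agent.Helper8.RegU

variable {K : Type*} [Field K] [Fintype K] {q : ℕ} [hF : Fact (Fintype.card K = q ^ 2)]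
variable {n : ℕ}

/-- the norm-one group -/
abbrev NormOne (K : Type*) [Field K] (q : ℕ) : Subgroup Kˣ := (powMonoidHom (q + 1) : Kˣ →* Kˣ).ker

omit [Fintype K] hF in
theorem normOne_spec (ξ : NormOne K q) : ((ξ : Kˣ) : K) * ((ξ : Kˣ) : K) ^ q = 1 := by
  have h := ξ.2
  rw [MonoidHom.mem_ker, powMonoidHom_apply] at h
  have := congrArg Units.val h
  rw [Units.val_pow_eq_pow_val, Units.val_one, pow_succ'] at this
  exact this

/-- constructor for norm-one elements -/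
def normOneMk (ζ : K) (hζ : ζ * ζ ^ q = 1) : NormOne K q :=
  ⟨Units.mk0 ζ (by rintro rfl; rw [zero_mul] at hζ; exact zero_ne_one hζ), by
    rw [MonoidHom.mem_ker, powMonoidHom_apply]
    apply Units.ext
    rw [Units.val_pow_eq_pow_val, Units.val_mk0, Units.val_one, pow_succ']
    exact hζ⟩

omit [Fintype K] hF in
theorem normOneMk_val (ζ : K) (hζ : ζ * ζ ^ q = 1) :
    (((normOneMk ζ hζ : NormOne K q) : Kˣ) : K) = ζ := rfl

theorem card_normOne : Nat.card (NormOne K q) = q + 1 := by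
  rw [IsCyclic.card_powMonoidHom_ker, card_units_K hF.out, qsq_sub_one hF.out,
    Nat.gcd_eq_right (Dvd.intro_left _ rfl)]

/-- the representatives as elements of `SU` -/
noncomputable def repSU (hn : 1 ≤ n) (u₀ : Matrix (Fin n) (Fin n) K)
    (hu₀ : st (q := q) u₀ * u₀ = 1) (hdet₀ : u₀.det = 1) (ξ : NormOne K q) : SU n K q :=
  mk' (rep (q := q) u₀ ((ξ : Kˣ) : K)) (rep_unitary hu₀ (normOne_spec ξ))
    (rep_det hn hdet₀ (normOne_spec ξ))

theorem mat_repSU (hn : 1 ≤ n) (u₀ : Matrix (Fin n) (Fin n) K)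
    (hu₀ : st (q := q) u₀ * u₀ = 1) (hdet₀ : u₀.det = 1) (ξ : NormOne K q) :
    mat (repSU hn u₀ hu₀ hdet₀ ξ) = rep (q := q) u₀ ((ξ : Kˣ) : K) := rfl

/-- conjugacy of the representatives -/
theorem isConj_repSU_iff (hn : 1 ≤ n) (u₀ : Matrix (Fin n) (Fin n) K)
    (hu₀ : st (q := q) u₀ * u₀ = 1) (hdet₀ : u₀.det = 1) (hreg₀ : IsRegNilp (u₀ - 1) n)
    (ξ η : NormOne K q) :
    IsConj (repSU hn u₀ hu₀ hdet₀ ξ) (repSU hn u₀ hu₀ hdet₀ η) ↔
      (QuotientGroup.mk ξ : NormOne K q ⧸ (powMonoidHom n : NormOne K q →* NormOne K q).range) =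
        QuotientGroup.mk η := by
  rw [isConj_iff_mat, mat_repSU, mat_repSU, QuotientGroup.eq, MonoidHom.mem_range]
  constructor
  · rintro ⟨H, hH, hHdet, hconj⟩
    obtain ⟨ζ, hζ, h⟩ := of_conj_rep (q := q) hn hreg₀ (normOne_spec ξ) (normOne_spec η) H hH
      hHdet hconj
    refine ⟨(normOneMk ζ hζ)⁻¹, ?_⟩
    rw [powMonoidHom_apply, inv_pow, inv_eq_iff_eq_inv, _root_.mul_inv_rev, inv_inv]
    apply Subtype.ext
    apply Units.ext
    rw [Subgroup.coe_pow, Units.val_pow_eq_pow_val, normOneMk_val, Subgroup.coe_mul,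
      Units.val_mul, Subgroup.coe_inv]
    have hη0 : ((η : Kˣ) : K) ≠ 0 := (η : Kˣ).ne_zero
    rw [Units.val_inv_eq_inv_val, h]
    field_simp
  · rintro ⟨ζ, hζ⟩
    rw [powMonoidHom_apply] at hζ
    have h : ((ξ : Kˣ) : K) = ((η : Kˣ) : K) * (((ζ⁻¹ : NormOne K q) : Kˣ) : K) ^ n := by
      have e : ξ = η * (ζ⁻¹) ^ n := by
        rw [inv_pow, hζ, _root_.mul_inv_rev, inv_inv, mul_inv_cancel_left]
      have := congrArg (fun x : NormOne K q => ((x : Kˣ) : K)) e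
      simpa using this
    exact conj_rep_of (q := q) hn u₀ (normOne_spec ξ) (normOne_spec η) (normOne_spec ζ⁻¹) h


/-- **the regular unipotent elements of `SU_n(q)` form `gcd(n, q + 1)` classes** -/
theorem card_regU_classes (hn : 1 ≤ n) :
    Nat.card {C : ConjClasses (SU n K q) // ∃ u : SU n K q, ConjClasses.mk u = C ∧
      (mat u - 1) ^ n = 0 ∧ (mat u - 1).rank = n - 1} = Nat.gcd n (q + 1) := by
  obtain ⟨u₀, hu₀, hdet₀, hreg₀⟩ := exists_regular_unipotent_unitary (K := K) (q := q) n hn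
  have key1 : ∀ C : {C : ConjClasses (SU n K q) // ∃ u : SU n K q, ConjClasses.mk u = C ∧
      (mat u - 1) ^ n = 0 ∧ (mat u - 1).rank = n - 1},
      ∃ ξ : NormOne K q, ConjClasses.mk (repSU hn u₀ hu₀ hdet₀ ξ) = C.1 := by
    rintro ⟨C, u, rfl, h1, h2⟩
    have hAreg : IsRegNilp (mat u - 1) n := ⟨Fintype.card_fin n, hn, h1, h2⟩
    obtain ⟨ξ, hξ, H, hH, hHdet, hconj⟩ :=
      exists_conj_rep (q := q) hn hu₀ hreg₀ (st_mat u) hAreg
    refine ⟨normOneMk ξ hξ, ?_⟩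
    rw [ConjClasses.mk_eq_mk_iff_isConj, isConj_iff_mat]
    exact ⟨H, hH, hHdet, hconj⟩
  let g : {C : ConjClasses (SU n K q) // ∃ u : SU n K q, ConjClasses.mk u = C ∧
      (mat u - 1) ^ n = 0 ∧ (mat u - 1).rank = n - 1} →
      NormOne K q ⧸ (powMonoidHom n : NormOne K q →* NormOne K q).range :=
    fun C => QuotientGroup.mk (Classical.choose (key1 C))
  have hg : ∀ C, ConjClasses.mk (repSU hn u₀ hu₀ hdet₀ (Classical.choose (key1 C))) = C.1 :=
    fun C => Classical.choose_spec (key1 C)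
  have hinj : Function.Injective g := by
    intro C C' h
    have h1 := (isConj_repSU_iff hn u₀ hu₀ hdet₀ hreg₀ _ _).mpr h
    apply Subtype.ext
    rw [← hg C, ← hg C']
    exact ConjClasses.mk_eq_mk_iff_isConj.mpr h1
  have hsurj : Function.Surjective g := by
    intro x
    obtain ⟨ξ, rfl⟩ := QuotientGroup.mk_surjective x
    have hmem : ∃ u : SU n K q, ConjClasses.mk u = ConjClasses.mk (repSU hn u₀ hu₀ hdet₀ ξ) ∧
        (mat u - 1) ^ n = 0 ∧ (mat u - 1).rank = n - 1 := by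
      have hr := rep_reg (q := q) hreg₀ (normOne_spec ξ)
      exact ⟨repSU hn u₀ hu₀ hdet₀ ξ, rfl, hr.pow, hr.rank⟩
    refine ⟨⟨_, hmem⟩, ?_⟩
    have h1 := hg ⟨_, hmem⟩
    exact (isConj_repSU_iff hn u₀ hu₀ hdet₀ hreg₀ _ _).mp
      (ConjClasses.mk_eq_mk_iff_isConj.mp h1)
  rw [Nat.card_congr (Equiv.ofBijective g ⟨hinj, hsurj⟩)]
  have h1 := IsCyclic.index_powMonoidHom_range (G := NormOne K q) n
  rw [card_normOne] at h1
  rw [Nat.gcd_comm, ← h1]
  rfl

end Cfsg.Agent.Helper8.RegSU
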