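import Cfsg.Agent.Helper8.WallE
import Cfsg.Agent.Helper8.RegSUG
import Cfsg.Agent.Helper8.JordanOrderP
set_option autoImplicit false
set_option linter.unusedSectionVars false

/-!
Every unipotent element of `GL_n(q²)` is conjugate to an element of `GU_n(q)`: block diagonal
unitary matrices.
-/

namespace Cfsg.Agent.Helper8.GUUnip

open Polynomial Matrix Cfsg Cfsg.Agent.Helper8.GUOrder Cfsg.Agent.Helper8.SUCenter
  Cfsg.Agent.Helper8.AutSU Cfsg.Agent.Helper8.PU3 Cfsg.Agent.Helper8.PSUSing
  Cfsg.Agent.Helper8.RegSU Cfsg.Agent.Helper8.RegU Cfsg.Agent.Helper8.Jordan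

variable {K : Type*} [Field K] [Fintype K] {q : ℕ} [hF : Fact (Fintype.card K = q ^ 2)]
variable {n d : ℕ} (k : Fin d → ℕ) (e : (Σ i : Fin d, Fin (k i)) ≃ Fin n)

/-- block diagonal matrices, reindexed -/
noncomputable def blk : (∀ i : Fin d, Matrix (Fin (k i)) (Fin (k i)) K) →+*
    Matrix (Fin n) (Fin n) K :=
  ((Matrix.reindexAlgEquiv K K e).toRingEquiv.toRingHom).comp
    (Matrix.blockDiagonal'RingHom (fun i : Fin d => Fin (k i)) K)

omit [Fintype K] hF in
theorem blk_apply (M : ∀ i : Fin d, Matrix (Fin (k i)) (Fin (k i)) K) (x y : Fin n) :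
    blk k e M x y = Matrix.blockDiagonal' M (e.symm x) (e.symm y) := rfl

theorem st_blk (M : ∀ i : Fin d, Matrix (Fin (k i)) (Fin (k i)) K) :
    st (q := q) (blk k e M) = blk k e (fun i => st (q := q) (M i)) := by
  ext x y
  unfold st
  rw [Matrix.transpose_apply, Matrix.map_apply, blk_apply, blk_apply,
    Matrix.blockDiagonal'_apply, Matrix.blockDiagonal'_apply]
  by_cases h : (e.symm y).1 = (e.symm x).1
  · rw [dif_pos h, dif_pos h.symm, Matrix.transpose_apply, Matrix.map_apply]
    congr 1
    generalize e.symm x = a at h ⊢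
    generalize e.symm y = b at h ⊢
    obtain ⟨a1, a2⟩ := a
    obtain ⟨b1, b2⟩ := b
    simp only at h
    subst h
    rfl
  · rw [dif_neg h, dif_neg (fun h' => h h'.symm), map_zero]


omit [Fintype K] hF in
/-- the standard Jordan matrix has the expected type -/
theorem hasType_blk_A₀ :
    HasType (blk k e (fun i => A₀ (F := K) (k i))) (jtype k) := by
  classical
  let b : Module.Basis (Σ i : Fin d, Fin (k i)) K (Fin n → K) :=
    (Pi.basisFun K (Fin n)).reindex e.symm
  refine ⟨d, k, b, ?_, rfl⟩
  intro i l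
  have hb : ∀ y, b y = Pi.single (e y) (1 : K) := by
    intro y
    simp [b, Module.Basis.reindex_apply]
  rw [hb, Matrix.toLin'_apply, Matrix.mulVec_single_one]
  ext x
  rw [Matrix.col_apply, blk_apply, Equiv.symm_apply_apply, Matrix.blockDiagonal'_apply]
  obtain ⟨⟨i', l'⟩, rfl⟩ := e.surjective x
  rw [Equiv.symm_apply_apply]
  by_cases hi : i' = i
  · subst hi
    rw [dif_pos rfl]
    simp only [cast_eq]
    unfold A₀
    by_cases hl : (l : ℕ) + 1 < k i'
    · rw [dif_pos hl, hb, Pi.single_apply]
      by_cases h2 : (l' : ℕ) = (l : ℕ) + 1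
      · rw [if_pos h2, if_pos]
        congr 1
        have : l' = ⟨(l : ℕ) + 1, hl⟩ := Fin.ext h2
        rw [this]
      · rw [if_neg h2, if_neg]
        intro h3
        apply h2
        have := e.injective h3
        have h4 := eq_of_heq (Sigma.mk.inj_iff.mp this).2
        exact congrArg Fin.val h4
    · rw [dif_neg hl, if_neg]
      · rfl
      · have := l'.2
        omega
  · rw [dif_neg hi]
    by_cases hl : (l : ℕ) + 1 < k i
    · rw [dif_pos hl, hb, Pi.single_apply, if_neg]
      intro h3
      have := e.injective h3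
      exact hi (Sigma.mk.inj_iff.mp this).1
    · rw [dif_neg hl]
      rfl

end Cfsg.Agent.Helper8.GUUnip
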