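import Cfsg.Agent.Helper8.GUUnipA
set_option autoImplicit false
set_option linter.unusedSectionVars false

/-!
Every unipotent element of `GL_n(q²)` is conjugate to an element of `GU_n(q)`; the classes of
elements of order `p` in `GU_n(q)`.
-/

namespace Cfsg.Agent.Helper8.GUUnip

open Polynomial Matrix Cfsg Cfsg.Agent.Helper8.GUOrder Cfsg.Agent.Helper8.SUCenter
  Cfsg.Agent.Helper8.AutSU Cfsg.Agent.Helper8.PU3 Cfsg.Agent.Helper8.PSUSing
  Cfsg.Agent.Helper8.RegSU Cfsg.Agent.Helper8.RegU Cfsg.Agent.Helper8.Jordan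

variable {K : Type*} [Field K] [Fintype K] {q : ℕ} [hF : Fact (Fintype.card K = q ^ 2)]
variable {n : ℕ}

/-- the blocks -/
theorem exists_block (m : ℕ) :
    ∃ u Q Qi : Matrix (Fin m) (Fin m) K, st (q := q) u * u = 1 ∧ Q * Qi = 1 ∧
      Q * A₀ (F := K) m = (u - 1) * Q := by
  rcases Nat.eq_zero_or_pos m with rfl | hm
  · exact ⟨1, 1, 1, Subsingleton.elim _ _, Subsingleton.elim _ _, Subsingleton.elim _ _⟩
  · obtain ⟨u₀, hu₀, _, hreg⟩ := exists_regular_unipotent_unitary (K := K) (q := q) m hm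
    obtain ⟨Q, Qi, h1, _, h3⟩ := exists_intertwiner (A₀ (F := K) m) (u₀ - 1) m
      (isRegNilp_A₀ m hm) hreg
    exact ⟨u₀, Q, Qi, hu₀, h1, h3⟩

/-- every unipotent element of `GL` is conjugate to a unitary matrix -/
theorem exists_GU_conj (g : GL (Fin n) K)
    (hnil : IsNilpotent ((g : Matrix (Fin n) (Fin n) K) - 1)) :
    ∃ g' : GU n K q, IsConj g (g' : GL (Fin n) K) := by
  classical
  obtain ⟨ν, d, k, b, hb, rfl⟩ := exists_hasType _ hnil
  have hcard : Fintype.card (Σ i : Fin d, Fin (k i)) = n := by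
    have h1 := Module.finrank_eq_card_basis b
    rw [Module.finrank_fin_fun] at h1
    exact h1.symm
  let e : (Σ i : Fin d, Fin (k i)) ≃ Fin n := Fintype.equivFinOfCardEq hcard
  have hblock := fun i : Fin d => exists_block (K := K) (q := q) (k i)
  choose u Q Qi hu hQ hconj using hblock
  set G' : Matrix (Fin n) (Fin n) K := blk k e u with hG'
  have hG'U : st (q := q) G' * G' = 1 := by
    rw [hG', st_blk, ← map_mul]
    have : (fun i => st (q := q) (u i)) * u = 1 := by
      funext i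
      exact hu i
    rw [this, map_one]
  set QQ : Matrix (Fin n) (Fin n) K := blk k e Q with hQQ
  set QQi : Matrix (Fin n) (Fin n) K := blk k e Qi with hQQi
  have h1 : QQ * QQi = 1 := by
    rw [hQQ, hQQi, ← map_mul]
    have : Q * Qi = 1 := by
      funext i
      exact hQ i
    rw [this, map_one]
  have h2 : QQi * QQ = 1 := mul_eq_one_comm.mp h1
  have h3 : QQ * blk k e (fun i => A₀ (F := K) (k i)) = (G' - 1) * QQ := by
    rw [hQQ, hG', ← map_mul, ← map_one (blk k e), ← map_sub, ← map_mul]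
    congr 1
    funext i
    exact hconj i
  -- conjugate `g - 1` to the standard Jordan matrix
  have ht1 : HasType ((g : Matrix (Fin n) (Fin n) K) - 1) (jtype k) := ⟨d, k, b, hb, rfl⟩
  obtain ⟨x, hx⟩ := ht1.conj (hasType_blk_A₀ (K := K) k e)
  let y : GL (Fin n) K := ⟨QQ, QQi, h1, h2⟩
  let g' : GU n K q := (guEquiv hF.out).symm ⟨G', (unitary_iff_st G').mpr hG'U⟩
  refine ⟨g', ?_⟩
  rw [isConj_iff]
  refine ⟨y * x, ?_⟩
  rw [mul_inv_eq_iff_eq_mul]
  apply Units.ext
  show QQ * (x : Matrix (Fin n) (Fin n) K) * (g : Matrix (Fin n) (Fin n) K) =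
    G' * (QQ * (x : Matrix (Fin n) (Fin n) K))
  have hx' : (x : Matrix (Fin n) (Fin n) K) * ((g : Matrix (Fin n) (Fin n) K) - 1) =
      blk k e (fun i => A₀ (F := K) (k i)) * (x : Matrix (Fin n) (Fin n) K) := by
    rw [← hx, Matrix.mul_assoc, Matrix.mul_assoc, Units.inv_mul, Matrix.mul_one]
  have h4 : QQ * (x : Matrix (Fin n) (Fin n) K) * ((g : Matrix (Fin n) (Fin n) K) - 1) =
      (G' - 1) * (QQ * (x : Matrix (Fin n) (Fin n) K)) := by
    rw [Matrix.mul_assoc, hx', ← Matrix.mul_assoc, h3, Matrix.mul_assoc]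
  rw [Matrix.mul_sub, Matrix.sub_mul, Matrix.mul_one, Matrix.one_mul] at h4
  exact sub_left_injective h4


omit [Fintype K] hF in
theorem orderOf_eq_of_isConj {G : Type*} [Group G] {a b : G} (h : IsConj a b) :
    orderOf a = orderOf b := by
  rw [isConj_iff] at h
  obtain ⟨c, hc⟩ := h
  rw [mul_inv_eq_iff_eq_mul] at hc
  exact SemiconjBy.orderOf_eq c hc

/-- **the classes of elements of order `p` in `GU_n(q)`** -/
theorem card_order_p_classes_GU (p : ℕ) [Fact p.Prime] [CharP K p] (n : ℕ) :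
    Nat.card {C : ConjClasses (GU n K q) //
      ∃ g : GU n K q, ConjClasses.mk g = C ∧ orderOf g = p} =
      (Finset.univ.filter (fun μ : Nat.Partition n => ∀ a ∈ μ.parts, a ≤ p)).card - 1 := by
  rw [← Jordan.card_order_p_classes (F := K) p n]
  apply Nat.card_congr
  have hΦ : ∀ C : {C : ConjClasses (GU n K q) //
      ∃ g : GU n K q, ConjClasses.mk g = C ∧ orderOf g = p},
      ∃ g : GL (Fin n) K, ConjClasses.mk g = ConjClasses.map (GU n K q).subtype C.1 ∧
        orderOf g = p := by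
    rintro ⟨_, g, rfl, hg⟩
    exact ⟨(g : GL (Fin n) K), rfl, by rw [Subgroup.orderOf_coe]; exact hg⟩
  refine Equiv.ofBijective (fun C => ⟨ConjClasses.map (GU n K q).subtype C.1, hΦ C⟩) ⟨?_, ?_⟩
  · rintro ⟨_, g, rfl, hg⟩ ⟨_, g', rfl, hg'⟩ h
    have h1 : ConjClasses.mk (g : GL (Fin n) K) = ConjClasses.mk (g' : GL (Fin n) K) :=
      congrArg Subtype.val h
    have h2 : IsConj (g : GL (Fin n) K) (g' : GL (Fin n) K) :=
      ConjClasses.mk_eq_mk_iff_isConj.mp h1
    apply Subtype.ext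
    exact ConjClasses.mk_eq_mk_iff_isConj.mpr ((Wall.isConj_GU_iff g g').mpr h2)
  · rintro ⟨_, g, rfl, hg⟩
    have hnil : IsNilpotent ((g : Matrix (Fin n) (Fin n) K) - 1) :=
      (Jordan.unip_iff p g).mp ⟨1, by rw [hg, pow_one]⟩
    obtain ⟨g', hg'⟩ := exists_GU_conj (q := q) g hnil
    have hord : orderOf g' = p := by
      rw [← Subgroup.orderOf_coe, ← orderOf_eq_of_isConj hg', hg]
    refine ⟨⟨ConjClasses.mk g', g', rfl, hord⟩, ?_⟩
    apply Subtype.ext
    exact (ConjClasses.mk_eq_mk_iff_isConj.mpr hg').symm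

end Cfsg.Agent.Helper8.GUUnip
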