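import Mathlib
import Cfsg.Prelude.Def_LieTypeDatum
import Cfsg.Agent.Helper8.ReflMatrix

set_option autoImplicit false

/-! Transport of projective similarity groups along a linear equivalence (helper8). -/

namespace Cfsg.Agent.Helper8.GrAut

open Cfsg Cfsg.Agent.Helper8.ReflMatrix
open scoped Matrix

section Conj

variable {F : Type*} [Field F] {ι κ : Type} [Fintype ι] [DecidableEq ι] [Fintype κ]
  [DecidableEq κ]

/-- conjugation of linear automorphisms by a linear equivalence -/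
def conjEquiv (L : (ι → F) ≃ₗ[F] (κ → F)) :
    ((ι → F) ≃ₗ[F] (ι → F)) ≃* ((κ → F) ≃ₗ[F] (κ → F)) where
  toFun φ := L.symm.trans (φ.trans L)
  invFun ψ := L.trans (ψ.trans L.symm)
  left_inv φ := by
    apply LinearEquiv.ext
    intro v
    simp
  right_inv ψ := by
    apply LinearEquiv.ext
    intro v
    simp
  map_mul' φ ψ := by
    apply LinearEquiv.ext
    intro v
    simp [LinearEquiv.mul_apply]

theorem conjEquiv_apply (L : (ι → F) ≃ₗ[F] (κ → F)) (φ : (ι → F) ≃ₗ[F] (ι → F)) (w : κ → F) :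
    conjEquiv L φ w = L (φ (L.symm w)) := rfl

/-- conjugation of invertible matrices by a linear equivalence -/
noncomputable def glConj (L : (ι → F) ≃ₗ[F] (κ → F)) : GL ι F ≃* GL κ F :=
  glEquiv.trans ((conjEquiv L).trans glEquiv.symm)

theorem glConj_mulVec (L : (ι → F) ≃ₗ[F] (κ → F)) (g : GL ι F) (v : ι → F) :
    ((glConj L g : GL κ F) : Matrix κ κ F) *ᵥ (L v) = L ((g : Matrix ι ι F) *ᵥ v) := by
  rw [← glEquiv_apply, ← glEquiv_apply]
  show glEquiv (glEquiv.symm (conjEquiv L (glEquiv g))) (L v) = _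
  rw [MulEquiv.apply_symm_apply, conjEquiv_apply, LinearEquiv.symm_apply_apply]

theorem glConj_symm_mulVec (L : (ι → F) ≃ₗ[F] (κ → F)) (g : GL κ F) (v : ι → F) :
    L ((((glConj L).symm g : GL ι F) : Matrix ι ι F) *ᵥ v) = (g : Matrix κ κ F) *ᵥ (L v) := by
  rw [← glConj_mulVec, MulEquiv.apply_symm_apply]

theorem mem_scalars_iff' (g : GL ι F) :
    g ∈ Geo.scalars ι F ↔ ∃ c : Fˣ, ∀ v : ι → F, (g : Matrix ι ι F) *ᵥ v = (c : F) • v := by
  rw [Geo.mem_scalars_iff]
  constructor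
  · rintro ⟨c, hc⟩
    refine ⟨c, fun v => ?_⟩
    rw [hc, Matrix.smul_mulVec, Matrix.one_mulVec]
  · rintro ⟨c, hc⟩
    refine ⟨c, ?_⟩
    apply matrix_ext
    intro v
    rw [hc, Matrix.smul_mulVec, Matrix.one_mulVec]

theorem glConj_mem_scalars_iff (L : (ι → F) ≃ₗ[F] (κ → F)) (g : GL ι F) :
    glConj L g ∈ Geo.scalars κ F ↔ g ∈ Geo.scalars ι F := by
  rw [mem_scalars_iff', mem_scalars_iff']
  constructor
  · rintro ⟨c, hc⟩
    refine ⟨c, fun v => ?_⟩
    apply L.injective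
    rw [← glConj_mulVec, hc, map_smul]
  · rintro ⟨c, hc⟩
    refine ⟨c, fun w => ?_⟩
    obtain ⟨v, rfl⟩ := L.surjective w
    rw [glConj_mulVec, hc, map_smul]

/-- similar quadratic forms have conjugate similarity groups -/
theorem glConj_mem_quadSim_iff (L : (ι → F) ≃ₗ[F] (κ → F)) (Q₁ : (ι → F) → F) (Q₂ : (κ → F) → F)
    (c₀ : Fˣ) (h : ∀ v, Q₂ (L v) = (c₀ : F) * Q₁ v) (g : GL ι F) :
    glConj L g ∈ Geo.quadSimilarityGroup (F := F) Q₂ ↔ g ∈ Geo.quadSimilarityGroup (F := F) Q₁ := by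
  constructor
  · rintro ⟨c, hc⟩
    refine ⟨c, fun v => ?_⟩
    have h1 := hc (L v)
    rw [glConj_mulVec, h, h] at h1
    apply mul_left_cancel₀ (Units.ne_zero c₀)
    rw [h1]
    ring
  · rintro ⟨c, hc⟩
    refine ⟨c, fun w => ?_⟩
    obtain ⟨v, rfl⟩ := L.surjective w
    rw [glConj_mulVec, h, h, hc]
    ring

/-- similar two-argument forms have conjugate similarity groups -/
theorem glConj_mem_sim_iff (L : (ι → F) ≃ₗ[F] (κ → F)) (f₁ : (ι → F) → (ι → F) → F)
    (f₂ : (κ → F) → (κ → F) → F)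
    (c₀ : Fˣ) (h : ∀ u v, f₂ (L u) (L v) = (c₀ : F) * f₁ u v) (g : GL ι F) :
    glConj L g ∈ Geo.similarityGroup (F := F) f₂ ↔ g ∈ Geo.similarityGroup (F := F) f₁ := by
  constructor
  · rintro ⟨c, hc⟩
    refine ⟨c, fun u v => ?_⟩
    have h1 := hc (L u) (L v)
    rw [glConj_mulVec, glConj_mulVec, h, h] at h1
    apply mul_left_cancel₀ (Units.ne_zero c₀)
    rw [h1]
    ring
  · rintro ⟨c, hc⟩
    refine ⟨c, fun w w' => ?_⟩
    obtain ⟨u, rfl⟩ := L.surjective w
    obtain ⟨v, rfl⟩ := L.surjective w'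
    rw [glConj_mulVec, glConj_mulVec, h, h, hc]
    ring

end Conj

section Proj

variable {F : Type*} [Field F] {ι κ : Type} [Fintype ι] [DecidableEq ι] [Fintype κ]
  [DecidableEq κ]

/-- an isomorphism of general linear groups respecting the scalars and carrying `H` to `H'`
induces an isomorphism of the projective quotients -/
theorem nonempty_projQuot_equiv (Θ : GL ι F ≃* GL κ F)
    (hΘ : ∀ g, Θ g ∈ Geo.scalars κ F ↔ g ∈ Geo.scalars ι F)
    (H : Subgroup (GL ι F)) (H' : Subgroup (GL κ F)) (hH : ∀ g, Θ g ∈ H' ↔ g ∈ H) :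
    Nonempty (projQuot H ≃* projQuot H') := by
  let e : ↥H ≃* ↥H' :=
    { toFun := fun g => ⟨Θ g.1, (hH g.1).mpr g.2⟩
      invFun := fun g => ⟨Θ.symm g.1, (hH _).mp (by rw [MulEquiv.apply_symm_apply]; exact g.2)⟩
      left_inv := fun g => Subtype.ext (MulEquiv.symm_apply_apply _ _)
      right_inv := fun g => Subtype.ext (MulEquiv.apply_symm_apply _ _)
      map_mul' := fun a b => Subtype.ext (map_mul Θ a.1 b.1) }
  have he : ((Geo.scalars ι F).subgroupOf H).map e.toMonoidHom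
      = (Geo.scalars κ F).subgroupOf H' := by
    ext g
    rw [Subgroup.mem_map, Subgroup.mem_subgroupOf]
    constructor
    · rintro ⟨x, hx, rfl⟩
      rw [Subgroup.mem_subgroupOf] at hx
      exact (hΘ x.1).mpr hx
    · intro hg
      refine ⟨e.symm g, ?_, e.apply_symm_apply g⟩
      rw [Subgroup.mem_subgroupOf]
      have : Θ ((e.symm g : ↥H) : GL ι F) = g.1 := MulEquiv.apply_symm_apply Θ g.1
      rw [← hΘ, this]
      exact hg
  exact ⟨QuotientGroup.congr _ _ e he⟩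

end Proj

end Cfsg.Agent.Helper8.GrAut
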