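import Mathlib
import Cfsg.Agent.Helper8.AutSLnV
import Cfsg.Agent.Helper8.AutSLnGFb

set_option autoImplicit false

/-! Graph automorphisms `δ_A ι` of `PSL_n(F)` and their centralisers in the inner-diagonal group
(helper8). -/

namespace Cfsg.Agent.Helper8.GrAut

open Matrix Cfsg Cfsg.Agent.Helper8.AutSLn

section Basic

variable {F : Type*} [Field F] {m : Type*} [Fintype m] [DecidableEq m]

/-- the graph automorphism `x ↦ A x⁻ᵀ A⁻¹` -/
noncomputable def graphAut (A : GL m F) : MulAut (ProjectiveSpecialLinearGroup m F) :=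
  pslConj A * pslInvTr

theorem graphAut_mul_pslConj (A g : GL m F) :
    graphAut A * pslConj g = pslConj (A * glInvTr g) * pslInvTr := by
  unfold graphAut
  rw [mul_assoc, pslInvTr_mul_pslConj, ← mul_assoc, ← map_mul]

theorem pslConj_mul_graphAut (A g : GL m F) :
    pslConj g * graphAut A = pslConj (g * A) * pslInvTr := by
  unfold graphAut
  rw [← mul_assoc, ← map_mul]

theorem commute_graphAut_iff [Nontrivial m] (A g : GL m F) :
    graphAut A * pslConj g = pslConj g * graphAut A ↔
      (g * A)⁻¹ * (A * glInvTr g) ∈ Subgroup.center (GL m F) := by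
  rw [graphAut_mul_pslConj, pslConj_mul_graphAut, mul_left_inj, ← ker_pslConj, MonoidHom.mem_ker,
    map_mul pslConj (g * A)⁻¹, map_inv, inv_mul_eq_one, eq_comm]

/-- the matrix form of the centraliser condition -/
theorem commute_graphAut_iff' [Nontrivial m] (A g : GL m F) :
    graphAut A * pslConj g = pslConj g * graphAut A ↔
      ∃ c : Fˣ, (g : Matrix m m F) * (A : Matrix m m F) * (g : Matrix m m F).transpose
        = (c : F) • (A : Matrix m m F) := by
  rw [commute_graphAut_iff, Matrix.GeneralLinearGroup.center_eq_range_scalar]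
  constructor
  · rintro ⟨c, hc⟩
    refine ⟨c⁻¹, ?_⟩
    have h1 : A * glInvTr g = g * A * Matrix.GeneralLinearGroup.scalar m c := by
      rw [hc, mul_inv_cancel_left]
    have h2 : A = g * A * Matrix.GeneralLinearGroup.scalar m c * (glInvTr g)⁻¹ := by
      rw [← h1, mul_inv_cancel_right]
    have h3 := congrArg (fun x : GL m F => (x : Matrix m m F)) h2
    simp only [Units.val_mul, glInvTr_inv_coe, Matrix.GeneralLinearGroup.coe_scalar,
      Matrix.scalar_apply] at h3
    rw [← Matrix.smul_one_eq_diagonal, Matrix.mul_smul, Matrix.mul_one, Matrix.smul_mul] at h3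
    rw [Units.val_inv_eq_inv_val]
    conv_rhs => rw [h3]
    rw [smul_smul, inv_mul_cancel₀ (Units.ne_zero c), one_smul]
  · rintro ⟨c, hc⟩
    refine ⟨c⁻¹, ?_⟩
    rw [eq_inv_mul_iff_mul_eq]
    apply Units.ext
    have h4 : ((A * glInvTr g : GL m F) : Matrix m m F) * (g : Matrix m m F).transpose
        = (A : Matrix m m F) := by
      rw [← glInvTr_inv_coe, ← Units.val_mul, mul_assoc, mul_inv_cancel, mul_one]
    have hgT : IsUnit (g : Matrix m m F).transpose := by
      rw [← glInvTr_inv_coe]
      exact Units.isUnit _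
    apply hgT.mul_left_injective
    show ((g * A * Matrix.GeneralLinearGroup.scalar m c⁻¹ : GL m F) : Matrix m m F)
      * (g : Matrix m m F).transpose = ((A * glInvTr g : GL m F) : Matrix m m F)
        * (g : Matrix m m F).transpose
    rw [h4]
    simp only [Units.val_mul, Matrix.GeneralLinearGroup.coe_scalar, Matrix.scalar_apply]
    rw [← Matrix.smul_one_eq_diagonal, Matrix.mul_smul, Matrix.mul_one, Matrix.smul_mul, hc,
      smul_smul, Units.val_inv_eq_inv_val, inv_mul_cancel₀ (Units.ne_zero c), one_smul]

/-- the matrices `g` with `g A gᵀ = c A`, as the preimage of the centraliser -/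
noncomputable def simT (A : GL m F) : Subgroup (GL m F) :=
  (Subgroup.centralizer {graphAut A}).comap pslConj

theorem mem_simT_iff [Nontrivial m] (A g : GL m F) :
    g ∈ simT A ↔ ∃ c : Fˣ, (g : Matrix m m F) * (A : Matrix m m F) * (g : Matrix m m F).transpose
        = (c : F) • (A : Matrix m m F) := by
  unfold simT
  rw [Subgroup.mem_comap, Subgroup.mem_centralizer_iff, ← commute_graphAut_iff']
  constructor
  · intro h
    exact h _ rfl
  · intro h y hy
    rw [Set.mem_singleton_iff] at hy
    subst hy
    exact h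

end Basic

section Centralizer

variable {F : Type*} [Field F] {m : Type} [Fintype m] [DecidableEq m]

/-- `simT A` acting on `PSL` -/
noncomputable def simTHom (A : GL m F) : ↥(simT A) →* MulAut (ProjectiveSpecialLinearGroup m F) :=
  pslConj.comp (simT A).subtype

theorem simTHom_apply (A : GL m F) (g : ↥(simT A)) : simTHom A g = pslConj (g : GL m F) := rfl

theorem ker_simTHom [Nontrivial m] (A : GL m F) :
    (simTHom A).ker = (Cfsg.Geo.scalars m F).subgroupOf (simT A) := by
  ext g
  rw [MonoidHom.mem_ker, Subgroup.mem_subgroupOf, simTHom_apply, ← MonoidHom.mem_ker,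
    ker_pslConj, Matrix.GeneralLinearGroup.center_eq_range_scalar]
  rfl

theorem range_simTHom (A : GL m F) :
    (simTHom A).range =
      (pslConj : GL m F →* MulAut (ProjectiveSpecialLinearGroup m F)).range ⊓
        Subgroup.centralizer {graphAut A} := by
  ext β
  constructor
  · rintro ⟨g, rfl⟩
    exact ⟨⟨_, rfl⟩, g.2⟩
  · rintro ⟨⟨g, rfl⟩, h2⟩
    exact ⟨⟨g, h2⟩, rfl⟩

/-- **the centraliser of a graph automorphism in the inner-diagonal group** -/
theorem nonempty_centralizer_equiv [Nontrivial m] (A : GL m F) :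
    Nonempty (↥((pslConj : GL m F →* MulAut (ProjectiveSpecialLinearGroup m F)).range ⊓
        Subgroup.centralizer {graphAut A}) ≃* Cfsg.projQuot (simT A)) := by
  have e1 := QuotientGroup.quotientKerEquivRange (simTHom A)
  have e2 := QuotientGroup.quotientMulEquivOfEq (ker_simTHom A)
  have e3 := MulEquiv.subgroupCongr (range_simTHom A)
  exact ⟨(e3.symm.trans e1.symm).trans e2⟩

end Centralizer

end Cfsg.Agent.Helper8.GrAut
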