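import Mathlib
import Cfsg.Agent.Helper8.GrAutB

set_option autoImplicit false

/-! The group `{g | g A gᵀ = c A}` as a similarity group of the form with matrix `A⁻¹`
(helper8). -/

namespace Cfsg.Agent.Helper8.GrAut

open Matrix Cfsg Cfsg.Agent.Helper8.AutSLn

section GroupLemma

variable {G : Type*} [Group G]

theorem conj_form_iff (X T A S : G) (hS : ∀ y, S * y = y * S) :
    T * A⁻¹ * X = S * A⁻¹ ↔ X * A * T = S * A := by
  constructor
  · intro h
    have hX : X = A * T⁻¹ * S * A⁻¹ := by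
      calc X = A * T⁻¹ * (T * A⁻¹ * X) := by group
        _ = A * T⁻¹ * (S * A⁻¹) := by rw [h]
        _ = A * T⁻¹ * S * A⁻¹ := by group
    rw [hX]
    calc A * T⁻¹ * S * A⁻¹ * A * T = A * T⁻¹ * (S * T) := by group
      _ = A * T⁻¹ * (T * S) := by rw [hS]
      _ = A * S := by group
      _ = S * A := (hS A).symm
  · intro h
    have hT : T = A⁻¹ * X⁻¹ * S * A := by
      calc T = A⁻¹ * X⁻¹ * (X * A * T) := by group
        _ = A⁻¹ * X⁻¹ * (S * A) := by rw [h]
        _ = A⁻¹ * X⁻¹ * S * A := by group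
    rw [hT]
    calc A⁻¹ * X⁻¹ * S * A * A⁻¹ * X = A⁻¹ * X⁻¹ * (S * X) := by group
      _ = A⁻¹ * X⁻¹ * (X * S) := by rw [hS]
      _ = A⁻¹ * S := by group
      _ = S * A⁻¹ := (hS A⁻¹).symm

end GroupLemma

section Forms

variable {F : Type*} [Field F] {m : Type} [Fintype m] [DecidableEq m]

theorem scalar_comm (c : Fˣ) (y : GL m F) :
    Matrix.GeneralLinearGroup.scalar m c * y = y * Matrix.GeneralLinearGroup.scalar m c := by
  have h : Matrix.GeneralLinearGroup.scalar m c ∈ Subgroup.center (GL m F) := by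
    rw [Matrix.GeneralLinearGroup.center_eq_range_scalar]
    exact ⟨c, rfl⟩
  exact (Subgroup.mem_center_iff.mp h y).symm

theorem coe_scalar_mul (c : Fˣ) (y : GL m F) :
    ((Matrix.GeneralLinearGroup.scalar m c * y : GL m F) : Matrix m m F)
      = (c : F) • (y : Matrix m m F) := by
  rw [Units.val_mul, Matrix.GeneralLinearGroup.coe_scalar, Matrix.scalar_apply,
    ← Matrix.smul_one_eq_diagonal, Matrix.smul_mul, Matrix.one_mul]

/-- `g A gᵀ = c A` iff `gᵀ A⁻¹ g = c A⁻¹` -/
theorem form_iff_inv (A g : GL m F) (c : Fˣ) :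
    (g : Matrix m m F) * (A : Matrix m m F) * (g : Matrix m m F).transpose
        = (c : F) • (A : Matrix m m F) ↔
    (g : Matrix m m F).transpose * ((A⁻¹ : GL m F) : Matrix m m F) * (g : Matrix m m F)
        = (c : F) • ((A⁻¹ : GL m F) : Matrix m m F) := by
  have key := conj_form_iff g (glInvTr g)⁻¹ A (Matrix.GeneralLinearGroup.scalar m c)
    (scalar_comm c)
  have e1 : (glInvTr g)⁻¹ * A⁻¹ * g = Matrix.GeneralLinearGroup.scalar m c * A⁻¹ ↔
      (g : Matrix m m F).transpose * ((A⁻¹ : GL m F) : Matrix m m F) * (g : Matrix m m F)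
        = (c : F) • ((A⁻¹ : GL m F) : Matrix m m F) := by
    rw [← coe_scalar_mul, ← glInvTr_inv_coe, ← Units.val_mul, ← Units.val_mul]
    exact Units.ext_iff
  have e2 : g * A * (glInvTr g)⁻¹ = Matrix.GeneralLinearGroup.scalar m c * A ↔
      (g : Matrix m m F) * (A : Matrix m m F) * (g : Matrix m m F).transpose
        = (c : F) • (A : Matrix m m F) := by
    rw [← coe_scalar_mul, ← glInvTr_inv_coe, ← Units.val_mul, ← Units.val_mul]
    exact Units.ext_iff
  rw [← e1, ← e2]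
  exact key.symm

omit [DecidableEq m] in
theorem dotProduct_mulVec_mulVec (g B : Matrix m m F) (u v : m → F) :
    (g *ᵥ u) ⬝ᵥ (B *ᵥ (g *ᵥ v)) = u ⬝ᵥ ((g.transpose * B * g) *ᵥ v) := by
  rw [dotProduct_comm (g *ᵥ u), Matrix.dotProduct_mulVec, ← Matrix.mulVec_transpose,
    dotProduct_comm, Matrix.mulVec_mulVec, Matrix.mulVec_mulVec, Matrix.mul_assoc]

theorem matrix_eq_of_bilin {M N : Matrix m m F}
    (h : ∀ u v : m → F, u ⬝ᵥ (M *ᵥ v) = u ⬝ᵥ (N *ᵥ v)) : M = N := by
  ext i j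
  have := h (Pi.single i 1) (Pi.single j 1)
  rw [Matrix.mulVec_single_one, Matrix.mulVec_single_one, single_one_dotProduct,
    single_one_dotProduct] at this
  exact this

/-- `simT A` is the similarity group of the bilinear form with matrix `A⁻¹` -/
theorem simT_eq_similarityGroup [Nontrivial m] (A : GL m F) :
    simT A = Geo.similarityGroup (F := F)
      (fun u v : m → F => u ⬝ᵥ (((A⁻¹ : GL m F) : Matrix m m F) *ᵥ v)) := by
  ext g
  rw [mem_simT_iff]
  constructor
  · rintro ⟨c, hc⟩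
    refine ⟨c, fun u v => ?_⟩
    beta_reduce
    rw [dotProduct_mulVec_mulVec, (form_iff_inv A g c).mp hc, Matrix.smul_mulVec,
      dotProduct_smul, smul_eq_mul]
  · rintro ⟨c, hc⟩
    refine ⟨c, (form_iff_inv A g c).mpr ?_⟩
    apply matrix_eq_of_bilin
    intro u v
    have hc' := hc u v
    beta_reduce at hc'
    rw [← dotProduct_mulVec_mulVec, hc', Matrix.smul_mulVec, dotProduct_smul, smul_eq_mul]

theorem matrix_eq_of_quad (h2 : (2 : F) ≠ 0) {M N : Matrix m m F} (hM : M.transpose = M)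
    (hN : N.transpose = N) (h : ∀ v : m → F, v ⬝ᵥ (M *ᵥ v) = v ⬝ᵥ (N *ᵥ v)) : M = N := by
  have hb : ∀ (P : Matrix m m F) (u v : m → F), P.transpose = P →
      (u + v) ⬝ᵥ (P *ᵥ (u + v)) = u ⬝ᵥ (P *ᵥ u) + v ⬝ᵥ (P *ᵥ v) + 2 * (u ⬝ᵥ (P *ᵥ v)) := by
    intro P u v hP
    have hsym : v ⬝ᵥ (P *ᵥ u) = u ⬝ᵥ (P *ᵥ v) := by
      rw [Matrix.dotProduct_mulVec, ← Matrix.mulVec_transpose, hP, dotProduct_comm]
    rw [Matrix.mulVec_add, add_dotProduct, dotProduct_add, dotProduct_add, hsym]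
    ring
  apply matrix_eq_of_bilin
  intro u v
  have h1 := h (u + v)
  rw [hb M u v hM, hb N u v hN, h u, h v] at h1
  have h3 : 2 * (u ⬝ᵥ (M *ᵥ v)) = 2 * (u ⬝ᵥ (N *ᵥ v)) := by linear_combination h1
  exact mul_left_cancel₀ h2 h3

/-- for symmetric `A` in odd characteristic, `simT A` is the similarity group of the quadratic
form `v ↦ v · A⁻¹ v` -/
theorem simT_eq_quadSimilarityGroup [Nontrivial m] (h2 : (2 : F) ≠ 0) (A : GL m F)
    (hA : (A : Matrix m m F).transpose = (A : Matrix m m F)) :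
    simT A = Geo.quadSimilarityGroup (F := F)
      (fun v : m → F => v ⬝ᵥ (((A⁻¹ : GL m F) : Matrix m m F) *ᵥ v)) := by
  have hAi : ((A⁻¹ : GL m F) : Matrix m m F).transpose = ((A⁻¹ : GL m F) : Matrix m m F) := by
    have h1 : ((A⁻¹ : GL m F) : Matrix m m F).transpose * (A : Matrix m m F) = 1 := by
      rw [← hA, ← Matrix.transpose_mul, ← Units.val_mul, mul_inv_cancel, Units.val_one,
        Matrix.transpose_one]
    calc ((A⁻¹ : GL m F) : Matrix m m F).transpose
        = ((A⁻¹ : GL m F) : Matrix m m F).transpose * ((A : Matrix m m F)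
          * ((A⁻¹ : GL m F) : Matrix m m F)) := by
          rw [← Units.val_mul, mul_inv_cancel, Units.val_one, Matrix.mul_one]
      _ = ((A⁻¹ : GL m F) : Matrix m m F) := by rw [← Matrix.mul_assoc, h1, Matrix.one_mul]
  ext g
  rw [mem_simT_iff]
  constructor
  · rintro ⟨c, hc⟩
    refine ⟨c, fun v => ?_⟩
    beta_reduce
    rw [dotProduct_mulVec_mulVec, (form_iff_inv A g c).mp hc, Matrix.smul_mulVec,
      dotProduct_smul, smul_eq_mul]
  · rintro ⟨c, hc⟩
    refine ⟨c, (form_iff_inv A g c).mpr ?_⟩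
    apply matrix_eq_of_quad h2
    · rw [Matrix.transpose_mul, Matrix.transpose_mul, Matrix.transpose_transpose, hAi,
        Matrix.mul_assoc]
    · rw [Matrix.transpose_smul, hAi]
    · intro v
      have hc' := hc v
      beta_reduce at hc'
      rw [← dotProduct_mulVec_mulVec, hc', Matrix.smul_mulVec, dotProduct_smul, smul_eq_mul]

end Forms

end Cfsg.Agent.Helper8.GrAut
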