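import Mathlib
import Cfsg.Agent.Helper8.GrAutA
import Cfsg.Agent.Helper8.GrAutC
import Cfsg.Agent.Helper8.StdForms
import Cfsg.Agent.S2623

set_option autoImplicit false

/-! The centraliser of the inverse-transpose automorphism in the inner-diagonal group as a
projective conformal orthogonal group (helper8). -/

namespace Cfsg.Agent.Helper8.GrAut

open Matrix Cfsg Cfsg.Agent.Helper8.AutSLn

section DotForm

variable (F : Type*) [Field F] (n : ℕ)

/-- the dot-product quadratic form `Σ xᵢ²` -/
noncomputable def dotForm : QuadraticForm F (Fin n → F) :=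
  ∑ i : Fin n, QuadraticMap.proj (R := F) (A := F) i i

theorem dotForm_apply (v : Fin n → F) : dotForm F n v = v ⬝ᵥ v := by
  unfold dotForm
  rw [_root_.sum_apply]
  rfl

theorem polar_dotForm (u v : Fin n → F) :
    QuadraticMap.polar (dotForm F n) u v = 2 * (u ⬝ᵥ v) := by
  unfold QuadraticMap.polar
  rw [dotForm_apply, dotForm_apply, dotForm_apply, add_dotProduct, dotProduct_add,
    dotProduct_add, dotProduct_comm v u]
  ring

theorem dotForm_nondeg (h2 : (2 : F) ≠ 0) :
    (QuadraticMap.polarBilin (dotForm F n)).Nondegenerate := by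
  rw [Cfsg.Agent.Helper8.QuadForm.nondeg_iff]
  intro v hv
  funext k
  have := hv (Pi.single k 1)
  rw [polar_dotForm, dotProduct_single_one] at this
  exact (mul_eq_zero.mp this).resolve_left h2

theorem det_gram_dotForm :
    (Matrix.of (fun i j : Fin n => QuadraticMap.polar (⇑(dotForm F n)) (Pi.single i 1)
      (Pi.single j 1))).det = 2 ^ n := by
  have h : (Matrix.of (fun i j : Fin n => QuadraticMap.polar (⇑(dotForm F n)) (Pi.single i 1)
      (Pi.single j 1))) = (2 : F) • (1 : Matrix (Fin n) (Fin n) F) := by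
    ext i j
    rw [Matrix.of_apply, polar_dotForm, dotProduct_single_one, Matrix.smul_apply, smul_eq_mul,
      Matrix.one_apply, Pi.single_apply]
    by_cases h : i = j
    · rw [if_pos h, if_pos h.symm]
    · rw [if_neg h, if_neg (Ne.symm h)]
  rw [h, Matrix.det_smul, Matrix.det_one, mul_one, Fintype.card_fin]

end DotForm

section Transport

variable {F : Type*} [Field F] {n : ℕ} {κ : Type} [Fintype κ] [DecidableEq κ]

/-- reindexing of coordinates -/
noncomputable def reidx (F : Type*) [Field F] {n : ℕ} {κ : Type} (e : Fin n ≃ κ) :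
    (Fin n → F) ≃ₗ[F] (κ → F) :=
  LinearEquiv.funCongrLeft F F e.symm

omit [Fintype κ] [DecidableEq κ] in
theorem reidx_apply (e : Fin n ≃ κ) (v : Fin n → F) (k : κ) : reidx F e v k = v (e.symm k) := rfl

omit [Fintype κ] in
theorem reidx_single (e : Fin n ≃ κ) (i : Fin n) :
    reidx F e (Pi.single i 1) = Pi.single (e i) 1 := by
  funext k
  rw [reidx_apply, Pi.single_apply, Pi.single_apply]
  by_cases h : k = e i
  · rw [if_pos h, if_pos (by rw [h, Equiv.symm_apply_apply])]
  · rw [if_neg h, if_neg (fun h' => h (by rw [← h', Equiv.apply_symm_apply]))]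

/-- the basis of `κ → F` indexed by `Fin n` -/
noncomputable def reBasis (F : Type*) [Field F] {n : ℕ} {κ : Type} (e : Fin n ≃ κ) :
    Module.Basis (Fin n) F (κ → F) :=
  (Pi.basisFun F (Fin n)).map (reidx F e)

omit [Fintype κ] [DecidableEq κ] in
theorem reBasis_apply (e : Fin n ≃ κ) (i : Fin n) :
    reBasis F e i = reidx F e (Pi.single i 1) := by
  unfold reBasis
  rw [Module.Basis.map_apply, Pi.basisFun_apply]

omit [Fintype κ] in
/-- a quadratic form on `κ → F` with `|κ| = n` even whose discriminant is a square is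
isometric to the dot product -/
theorem exists_isometry_dot [Fintype F] (h2 : (2 : F) ≠ 0) (hn : Even n) (e : Fin n ≃ κ)
    (Q : QuadraticForm F (κ → F)) (hQ : (QuadraticMap.polarBilin Q).Nondegenerate)
    (hsq : IsSquare (Matrix.of (fun i j : Fin n =>
      QuadraticMap.polar (⇑Q) (reBasis F e i) (reBasis F e j))).det) :
    ∃ L : (Fin n → F) ≃ₗ[F] (κ → F), ∀ v, Q (L v) = v ⬝ᵥ v := by
  set Q₂ : QuadraticForm F (Fin n → F) := Q.comp (reidx F e).toLinearMap with hQ₂
  have hQ₂a : ∀ v, Q₂ v = Q (reidx F e v) := fun v => rfl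
  have hpol : ∀ u v, QuadraticMap.polar (⇑Q₂) u v
      = QuadraticMap.polar (⇑Q) (reidx F e u) (reidx F e v) := by
    intro u v
    unfold QuadraticMap.polar
    rw [hQ₂a, hQ₂a, hQ₂a, map_add]
  have hnd : (QuadraticMap.polarBilin Q₂).Nondegenerate := by
    rw [Cfsg.Agent.Helper8.QuadForm.nondeg_iff]
    rw [Cfsg.Agent.Helper8.QuadForm.nondeg_iff] at hQ
    intro v hv
    have h1 : reidx F e v = 0 := by
      apply hQ
      intro w
      obtain ⟨w', rfl⟩ := (reidx F e).surjective w
      rw [← hpol]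
      exact hv w'
    exact (reidx F e).injective (by rw [h1, map_zero])
  have hdet : (Matrix.of (fun i j : Fin n => QuadraticMap.polar (⇑Q₂) (Pi.single i 1)
      (Pi.single j 1))) = (Matrix.of (fun i j : Fin n =>
      QuadraticMap.polar (⇑Q) (reBasis F e i) (reBasis F e j))) := by
    ext i j
    rw [Matrix.of_apply, Matrix.of_apply, hpol, reBasis_apply, reBasis_apply]
  have key := (Cfsg.Agent.S2623.result h2 (dotForm F n) Q₂ (dotForm_nondeg F n h2) hnd).mpr (by
    rw [hdet, det_gram_dotForm]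
    obtain ⟨k, hk⟩ := hn
    obtain ⟨s, hs⟩ := hsq
    refine ⟨2 ^ k * s, ?_⟩
    rw [hs, hk, pow_add]
    ring)
  obtain ⟨g, hg⟩ := key
  refine ⟨g.trans (reidx F e), fun v => ?_⟩
  rw [LinearEquiv.trans_apply, ← hQ₂a, hg, dotForm_apply]

end Transport

section Main

variable {F : Type*} [Field F] {n : ℕ} {κ : Type} [Fintype κ] [DecidableEq κ]

theorem graphAut_one : graphAut (1 : GL (Fin n) F) = pslInvTr := by
  unfold graphAut
  rw [map_one, one_mul]

/-- a quadratic form isometric to the dot product has the centraliser of the inverse-transpose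
automorphism as its projective similarity group -/
theorem nonempty_centralizer_equiv_PGO (h2 : (2 : F) ≠ 0) (hn : 2 ≤ n) (Q : (κ → F) → F)
    (L : (Fin n → F) ≃ₗ[F] (κ → F)) (hL : ∀ v, Q (L v) = v ⬝ᵥ v) :
    Nonempty (↥(Cfsg.inndiagPSL n F ⊓ Subgroup.centralizer
      {(pslInvTr : MulAut (ProjectiveSpecialLinearGroup (Fin n) F))}) ≃* Cfsg.PGO F Q) := by
  have : Nontrivial (Fin n) := Fin.nontrivial_iff_two_le.mpr hn
  obtain ⟨e1⟩ := nonempty_centralizer_equiv (1 : GL (Fin n) F)
  rw [graphAut_one] at e1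
  have hsim : simT (1 : GL (Fin n) F)
      = Geo.quadSimilarityGroup (F := F) (fun v : Fin n → F => v ⬝ᵥ v) := by
    rw [simT_eq_quadSimilarityGroup h2 1 (by rw [Units.val_one, Matrix.transpose_one])]
    congr 1
    funext v
    rw [inv_one, Units.val_one, Matrix.one_mulVec]
  obtain ⟨e2⟩ := nonempty_projQuot_equiv (glConj L) (glConj_mem_scalars_iff L)
    (Geo.quadSimilarityGroup (F := F) (fun v : Fin n → F => v ⬝ᵥ v))
    (Geo.quadSimilarityGroup (F := F) Q)
    (glConj_mem_quadSim_iff L _ Q 1 (fun v => by rw [hL, Units.val_one, one_mul]))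
  have e3 : Cfsg.projQuot (simT (1 : GL (Fin n) F)) ≃*
      Cfsg.projQuot (Geo.quadSimilarityGroup (F := F) (fun v : Fin n → F => v ⬝ᵥ v)) := by
    rw [hsim]
  rw [inndiagPSL_eq]
  exact ⟨(e1.trans e3).trans e2⟩

end Main

end Cfsg.Agent.Helper8.GrAut
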