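import Mathlib
import Cfsg.Agent.Helper8.GrAutC

set_option autoImplicit false

/-! Involutory graph automorphisms of `PSL_n(F)`: order two means symmetric or skew-symmetric,
and conjugacy under the inner-diagonal group is congruence up to scalars (helper8). -/

namespace Cfsg.Agent.Helper8.GrAut

open Matrix Cfsg Cfsg.Agent.Helper8.AutSLn

section Order

variable {F : Type*} [Field F] {m : Type} [Fintype m] [DecidableEq m]

theorem graphAut_mul_self (A : GL m F) :
    graphAut A * graphAut A = pslConj (A * glInvTr A) := by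
  unfold graphAut
  rw [mul_assoc, ← mul_assoc pslInvTr, pslInvTr_mul_pslConj, mul_assoc, pslInvTr_mul_self,
    mul_one, ← map_mul]

theorem graphAut_ne_one (h3 : 3 ≤ Fintype.card m) (A : GL m F) : graphAut A ≠ 1 := by
  intro h
  apply pslInvTr_not_mem_stdSub (F := F) h3
  have h1 : (pslInvTr : MulAut (ProjectiveSpecialLinearGroup m F)) = pslConj A⁻¹ := by
    unfold graphAut at h
    rw [map_inv]
    exact (inv_eq_of_mul_eq_one_right h).symm
  rw [h1]
  exact ⟨A⁻¹, 1, by rw [map_one, mul_one]⟩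

theorem pslConj_eq_one_iff [Nontrivial m] (X : GL m F) :
    pslConj X = 1 ↔ ∃ c : Fˣ, X = Matrix.GeneralLinearGroup.scalar m c := by
  rw [← MonoidHom.mem_ker, ker_pslConj, Matrix.GeneralLinearGroup.center_eq_range_scalar]
  constructor
  · rintro ⟨c, hc⟩
    exact ⟨c, hc.symm⟩
  · rintro ⟨c, hc⟩
    exact ⟨c, hc.symm⟩

theorem graphAut_mul_self_eq_one_iff [Nontrivial m] (A : GL m F) :
    graphAut A * graphAut A = 1 ↔
      ∃ c : Fˣ, (A : Matrix m m F) = (c : F) • (A : Matrix m m F).transpose := by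
  rw [graphAut_mul_self, pslConj_eq_one_iff]
  constructor
  · rintro ⟨c, hc⟩
    refine ⟨c, ?_⟩
    have h1 : A = Matrix.GeneralLinearGroup.scalar m c * (glInvTr A)⁻¹ := by
      rw [← hc, mul_inv_cancel_right]
    have h2 := congrArg (fun x : GL m F => (x : Matrix m m F)) h1
    simp only [coe_scalar_mul, glInvTr_inv_coe] at h2
    exact h2
  · rintro ⟨c, hc⟩
    refine ⟨c, ?_⟩
    rw [← eq_mul_inv_iff_mul_eq]
    apply Units.ext
    rw [coe_scalar_mul, glInvTr_inv_coe]
    exact hc

theorem transpose_eq_or [Nontrivial m] (A : GL m F) (c : Fˣ)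
    (h : (A : Matrix m m F) = (c : F) • (A : Matrix m m F).transpose) :
    (A : Matrix m m F).transpose = (A : Matrix m m F) ∨
      (A : Matrix m m F).transpose = -(A : Matrix m m F) := by
  have hT : (A : Matrix m m F).transpose = (c : F) • (A : Matrix m m F) := by
    conv_lhs => rw [h]
    rw [Matrix.transpose_smul, Matrix.transpose_transpose]
  have h2 : (A : Matrix m m F) = ((c : F) * (c : F)) • (A : Matrix m m F) := by
    conv_lhs => rw [h, hT]
    rw [smul_smul]
  have hA0 : (A : Matrix m m F) ≠ 0 := by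
    intro h0
    have := Units.isUnit A
    rw [h0] at this
    exact not_isUnit_zero this
  have hc : (c : F) * (c : F) = 1 := by
    by_contra hne
    apply hA0
    have h3 : ((1 : F) - (c : F) * (c : F)) • (A : Matrix m m F) = 0 := by
      rw [sub_smul, one_smul, ← h2, sub_self]
    rcases smul_eq_zero.mp h3 with h4 | h4
    · exact absurd (sub_eq_zero.mp h4).symm hne
    · exact h4
  rcases mul_self_eq_one_iff.mp hc with h1 | h1
  · left
    rw [hT, h1, one_smul]
  · right
    rw [hT, h1, neg_smul, one_smul]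

theorem orderOf_graphAut_eq_two_iff (h3 : 3 ≤ Fintype.card m) (A : GL m F) :
    orderOf (graphAut A) = 2 ↔ ((A : Matrix m m F).transpose = (A : Matrix m m F) ∨
      (A : Matrix m m F).transpose = -(A : Matrix m m F)) := by
  have : Nontrivial m := Fintype.one_lt_card_iff_nontrivial.mp (by omega)
  rw [orderOf_eq_prime_iff, pow_two, graphAut_mul_self_eq_one_iff]
  constructor
  · rintro ⟨⟨c, hc⟩, -⟩
    exact transpose_eq_or A c hc
  · intro h
    refine ⟨?_, graphAut_ne_one h3 A⟩
    rcases h with h | h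
    · exact ⟨1, by rw [h, Units.val_one, one_smul]⟩
    · exact ⟨-1, by rw [h, Units.val_neg, Units.val_one, neg_smul, one_smul, neg_neg]⟩

end Order

section Conj

variable {F : Type*} [Field F] {m : Type} [Fintype m] [DecidableEq m]

theorem pslConj_graphAut_conj (g A : GL m F) :
    pslConj g * graphAut A * (pslConj g)⁻¹ = graphAut (g * A * (glInvTr g)⁻¹) := by
  rw [mul_inv_eq_iff_eq_mul, graphAut_mul_pslConj, pslConj_mul_graphAut, inv_mul_cancel_right]

theorem graphAut_eq_iff [Nontrivial m] (A B : GL m F) :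
    graphAut A = graphAut B ↔
      ∃ c : Fˣ, (B : Matrix m m F) = (c : F) • (A : Matrix m m F) := by
  unfold graphAut
  rw [mul_left_inj]
  have h1 : pslConj A = pslConj B ↔ pslConj (B * A⁻¹) = (1 : MulAut (ProjectiveSpecialLinearGroup m F)) := by
    rw [map_mul, map_inv, mul_inv_eq_one, eq_comm]
  rw [h1, pslConj_eq_one_iff]
  constructor
  · rintro ⟨c, hc⟩
    refine ⟨c, ?_⟩
    rw [mul_inv_eq_iff_eq_mul] at hc
    rw [hc, coe_scalar_mul]
  · rintro ⟨c, hc⟩
    refine ⟨c, ?_⟩
    rw [mul_inv_eq_iff_eq_mul]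
    apply Units.ext
    rw [coe_scalar_mul]
    exact hc

/-- conjugacy of graph automorphisms under the inner-diagonal group is congruence of the
matrices up to a scalar -/
theorem isConjUnder_graphAut_iff [Nontrivial m] (A B : GL m F) :
    Cfsg.IsConjUnder (pslConj : GL m F →* MulAut (ProjectiveSpecialLinearGroup m F)).range
      (graphAut A) (graphAut B) ↔
    ∃ (g : GL m F) (c : Fˣ), (B : Matrix m m F)
      = (c : F) • ((g : Matrix m m F) * (A : Matrix m m F) * (g : Matrix m m F).transpose) := by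
  constructor
  · rintro ⟨_, ⟨g, rfl⟩, h⟩
    rw [pslConj_graphAut_conj, eq_comm, graphAut_eq_iff] at h
    obtain ⟨c, hc⟩ := h
    refine ⟨g, c, ?_⟩
    rw [hc, Units.val_mul, Units.val_mul, glInvTr_inv_coe]
  · rintro ⟨g, c, h⟩
    refine ⟨pslConj g, ⟨g, rfl⟩, ?_⟩
    rw [pslConj_graphAut_conj, eq_comm, graphAut_eq_iff]
    refine ⟨c, ?_⟩
    rw [h, Units.val_mul, Units.val_mul, glInvTr_inv_coe]

end Conj

section Fin

variable {F : Type*} [Field F] {n : ℕ}

theorem exists_eq_graphAut {γ : MulAut (ProjectiveSpecialLinearGroup (Fin n) F)}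
    (h : Cfsg.IsGraphAutClassPSL γ) : ∃ A : GL (Fin n) F, γ = graphAut A := by
  obtain ⟨-, δ, ι, hδ, hι, rfl⟩ := h
  obtain ⟨A, rfl⟩ := eq_pslConj_of_isInnerDiagonal hδ
  rw [eq_pslInvTr_of_isInverseTranspose hι]
  exact ⟨A, rfl⟩

theorem isGraphAutClass_graphAut (h3 : 3 ≤ n) (A : GL (Fin n) F) :
    Cfsg.IsGraphAutClassPSL (graphAut A) :=
  ⟨h3, pslConj A, pslInvTr, isInnerDiagonal_pslConj A, isInverseTranspose_pslInvTr, rfl⟩

theorem isConjUnder_inndiag_iff (h2 : 2 ≤ n) (A B : GL (Fin n) F) :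
    Cfsg.IsConjUnder (Cfsg.inndiagPSL n F) (graphAut A) (graphAut B) ↔
    ∃ (g : GL (Fin n) F) (c : Fˣ), (B : Matrix (Fin n) (Fin n) F)
      = (c : F) • ((g : Matrix (Fin n) (Fin n) F) * (A : Matrix (Fin n) (Fin n) F)
        * (g : Matrix (Fin n) (Fin n) F).transpose) := by
  have : Nontrivial (Fin n) := Fin.nontrivial_iff_two_le.mpr h2
  rw [inndiagPSL_eq]
  exact isConjUnder_graphAut_iff A B

theorem orderOf_graphAut_fin (h3 : 3 ≤ n) (A : GL (Fin n) F) :
    orderOf (graphAut A) = 2 ↔ ((A : Matrix (Fin n) (Fin n) F).transpose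
        = (A : Matrix (Fin n) (Fin n) F) ∨
      (A : Matrix (Fin n) (Fin n) F).transpose = -(A : Matrix (Fin n) (Fin n) F)) :=
  orderOf_graphAut_eq_two_iff (by rw [Fintype.card_fin]; exact h3) A

end Fin

end Cfsg.Agent.Helper8.GrAut
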