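import Mathlib
import Cfsg.Agent.Helper8.GrAutD
import Cfsg.Agent.Helper8.SpSSympIso
import Cfsg.Agent.Helper8.SpSMat

set_option autoImplicit false

/-! Congruence of symmetric matrices over a finite field of odd order (by the discriminant) and
of invertible skew-symmetric matrices (helper8). -/

namespace Cfsg.Agent.Helper8.GrAut

open Matrix Cfsg Cfsg.Agent.Helper8.AutSLn

section MatQ

variable {F : Type*} [Field F] {n : ℕ}

/-- the quadratic form `v ↦ v · M v` -/
noncomputable def matQ (M : Matrix (Fin n) (Fin n) F) : QuadraticForm F (Fin n → F) :=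
  LinearMap.BilinMap.toQuadraticMap (Matrix.toLinearMap₂' F M)

theorem matQ_apply (M : Matrix (Fin n) (Fin n) F) (v : Fin n → F) :
    matQ M v = v ⬝ᵥ M *ᵥ v := by
  unfold matQ
  rw [LinearMap.BilinMap.toQuadraticMap_apply, Matrix.toLinearMap₂'_apply']

theorem dot_symm {M : Matrix (Fin n) (Fin n) F} (hM : M.transpose = M) (u v : Fin n → F) :
    v ⬝ᵥ M *ᵥ u = u ⬝ᵥ M *ᵥ v := by
  rw [Matrix.dotProduct_mulVec, ← Matrix.mulVec_transpose, hM, dotProduct_comm]

theorem polar_matQ {M : Matrix (Fin n) (Fin n) F} (hM : M.transpose = M) (u v : Fin n → F) :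
    QuadraticMap.polar (⇑(matQ M)) u v = 2 * (u ⬝ᵥ M *ᵥ v) := by
  unfold QuadraticMap.polar
  rw [matQ_apply, matQ_apply, matQ_apply, Matrix.mulVec_add, add_dotProduct, dotProduct_add,
    dotProduct_add, dot_symm hM u v]
  ring

theorem matQ_nondeg (h2 : (2 : F) ≠ 0) {M : Matrix (Fin n) (Fin n) F} (hM : M.transpose = M)
    (hdet : M.det ≠ 0) : (QuadraticMap.polarBilin (matQ M)).Nondegenerate := by
  rw [Cfsg.Agent.Helper8.QuadForm.nondeg_iff]
  intro v hv
  have h1 : ∀ w, v ⬝ᵥ M *ᵥ w = 0 := by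
    intro w
    have := hv w
    rw [polar_matQ hM] at this
    exact (mul_eq_zero.mp this).resolve_left h2
  have h3 : Cfsg.Agent.Helper8.SpS.Nondeg (Cfsg.Agent.Helper8.SpS.bform M) :=
    Cfsg.Agent.Helper8.SpS.nondeg_bform M hdet
  apply h3 v
  intro w
  rw [Cfsg.Agent.Helper8.SpS.bform, Matrix.toLinearMap₂'_apply']
  exact h1 w

theorem det_gram_matQ {M : Matrix (Fin n) (Fin n) F} (hM : M.transpose = M) :
    (Matrix.of (fun i j : Fin n => QuadraticMap.polar (⇑(matQ M)) (Pi.single i 1)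
      (Pi.single j 1))).det = 2 ^ n * M.det := by
  have h : (Matrix.of (fun i j : Fin n => QuadraticMap.polar (⇑(matQ M)) (Pi.single i 1)
      (Pi.single j 1))) = (2 : F) • M := by
    ext i j
    rw [Matrix.of_apply, polar_matQ hM, Matrix.mulVec_single_one, single_one_dotProduct,
      Matrix.smul_apply, smul_eq_mul]
    rfl
  rw [h, Matrix.det_smul, Fintype.card_fin]

end MatQ

section Congruence

variable {F : Type*} [Field F] {n : ℕ}

/-- a matrix as an element of the general linear group from a linear equivalence -/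
theorem exists_gl_of_linearEquiv (g : (Fin n → F) ≃ₗ[F] (Fin n → F)) :
    ∃ G : GL (Fin n) F, ∀ v, (G : Matrix (Fin n) (Fin n) F) *ᵥ v = g v := by
  refine ⟨Cfsg.Agent.Helper8.ReflMatrix.glEquiv.symm g, fun v => ?_⟩
  rw [← Cfsg.Agent.Helper8.ReflMatrix.glEquiv_apply, MulEquiv.apply_symm_apply]

/-- symmetric invertible matrices over a finite field of odd order whose determinants lie in the
same square class are congruent -/
theorem exists_congr_of_isSquare [Fintype F] (h2 : (2 : F) ≠ 0) (A B : GL (Fin n) F)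
    (hA : (A : Matrix (Fin n) (Fin n) F).transpose = (A : Matrix (Fin n) (Fin n) F))
    (hB : (B : Matrix (Fin n) (Fin n) F).transpose = (B : Matrix (Fin n) (Fin n) F))
    (h : IsSquare ((A : Matrix (Fin n) (Fin n) F).det * (B : Matrix (Fin n) (Fin n) F).det)) :
    ∃ g : GL (Fin n) F, (g : Matrix (Fin n) (Fin n) F) * (A : Matrix (Fin n) (Fin n) F)
      * (g : Matrix (Fin n) (Fin n) F).transpose = (B : Matrix (Fin n) (Fin n) F) := by
  have hdA : (A : Matrix (Fin n) (Fin n) F).det ≠ 0 :=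
    ((Matrix.isUnit_iff_isUnit_det _).mp (Units.isUnit A)).ne_zero
  have hdB : (B : Matrix (Fin n) (Fin n) F).det ≠ 0 :=
    ((Matrix.isUnit_iff_isUnit_det _).mp (Units.isUnit B)).ne_zero
  obtain ⟨g, hg⟩ := (Cfsg.Agent.S2623.result h2 (matQ (B : Matrix (Fin n) (Fin n) F))
    (matQ (A : Matrix (Fin n) (Fin n) F)) (matQ_nondeg h2 hB hdB) (matQ_nondeg h2 hA hdA)).mpr (by
      rw [det_gram_matQ hA, det_gram_matQ hB]
      obtain ⟨s, hs⟩ := h
      refine ⟨2 ^ n * s, ?_⟩
      linear_combination (2 ^ n * 2 ^ n : F) * hs)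
  obtain ⟨G, hG⟩ := exists_gl_of_linearEquiv g
  refine ⟨(glInvTr G)⁻¹, ?_⟩
  rw [glInvTr_inv_coe, Matrix.transpose_transpose]
  apply matrix_eq_of_quad h2
  · rw [Matrix.transpose_mul, Matrix.transpose_mul, Matrix.transpose_transpose, hA,
      Matrix.mul_assoc]
  · exact hB
  · intro v
    rw [← dotProduct_mulVec_mulVec, hG, ← matQ_apply, hg, matQ_apply]

/-- invertible skew-symmetric matrices in characteristic not two are congruent -/
theorem exists_congr_of_skew (h2 : (2 : F) ≠ 0) (A B : GL (Fin n) F)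
    (hA : (A : Matrix (Fin n) (Fin n) F).transpose = -(A : Matrix (Fin n) (Fin n) F))
    (hB : (B : Matrix (Fin n) (Fin n) F).transpose = -(B : Matrix (Fin n) (Fin n) F)) :
    ∃ g : GL (Fin n) F, (g : Matrix (Fin n) (Fin n) F) * (A : Matrix (Fin n) (Fin n) F)
      * (g : Matrix (Fin n) (Fin n) F).transpose = (B : Matrix (Fin n) (Fin n) F) := by
  have hdA : (A : Matrix (Fin n) (Fin n) F).det ≠ 0 :=
    ((Matrix.isUnit_iff_isUnit_det _).mp (Units.isUnit A)).ne_zero
  have hdB : (B : Matrix (Fin n) (Fin n) F).det ≠ 0 :=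
    ((Matrix.isUnit_iff_isUnit_det _).mp (Units.isUnit B)).ne_zero
  have halt : ∀ (M : Matrix (Fin n) (Fin n) F), M.transpose = -M →
      Cfsg.Agent.Helper8.SpS.Alt (Cfsg.Agent.Helper8.SpS.bform M) := by
    intro M hM v
    rw [Cfsg.Agent.Helper8.SpS.bform, Matrix.toLinearMap₂'_apply']
    have h1 : v ⬝ᵥ M *ᵥ v = -(v ⬝ᵥ M *ᵥ v) := by
      conv_lhs => rw [Matrix.dotProduct_mulVec, ← Matrix.mulVec_transpose, hM, dotProduct_comm,
        Matrix.neg_mulVec, dotProduct_neg]
    have h3 : 2 * (v ⬝ᵥ M *ᵥ v) = 0 := by linear_combination h1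
    exact (mul_eq_zero.mp h3).resolve_left h2
  obtain ⟨z, hz⟩ := Cfsg.Agent.Helper8.SpS.exists_symp_isometry
    (Cfsg.Agent.Helper8.SpS.bform (A : Matrix (Fin n) (Fin n) F))
    (Cfsg.Agent.Helper8.SpS.bform (B : Matrix (Fin n) (Fin n) F)) (halt _ hA)
    (Cfsg.Agent.Helper8.SpS.nondeg_bform _ hdA) (halt _ hB)
    (Cfsg.Agent.Helper8.SpS.nondeg_bform _ hdB)
  set Z : Matrix (Fin n) (Fin n) F := LinearMap.toMatrix' z with hZ
  have hZv : ∀ v, Z *ᵥ v = z v := by
    intro v
    rw [hZ, ← Matrix.toLin'_apply, Matrix.toLin'_toMatrix']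
  have hmat : Z.transpose * (A : Matrix (Fin n) (Fin n) F) * Z
      = (B : Matrix (Fin n) (Fin n) F) := by
    apply matrix_eq_of_bilin
    intro u v
    have := hz u v
    simp only [Cfsg.Agent.Helper8.SpS.bform, Matrix.toLinearMap₂'_apply'] at this
    rw [← dotProduct_mulVec_mulVec, hZv, hZv, this]
  have hdZ : Z.det ≠ 0 := by
    intro h0
    apply hdB
    rw [← hmat, Matrix.det_mul, Matrix.det_mul, h0, mul_zero]
  refine ⟨Matrix.GeneralLinearGroup.mkOfDetNeZero Z.transpose (by rwa [Matrix.det_transpose]), ?_⟩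
  show Z.transpose * _ * Z.transpose.transpose = _
  rw [Matrix.transpose_transpose]
  exact hmat

end Congruence

end Cfsg.Agent.Helper8.GrAut
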