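import Mathlib
import Cfsg.Agent.Helper8.GrAutE
import Cfsg.Agent.Helper8.GrAutF
import Cfsg.Agent.Helper8.AutSLnQ

set_option autoImplicit false

/-! Centralisers and classes of involutory graph automorphisms of `PSL_n(F)`, `n` even, `q` odd
(helper8). -/

namespace Cfsg.Agent.Helper8.GrAut

open Matrix Cfsg Cfsg.Agent.Helper8.AutSLn

section Squares

variable {F : Type*} [Field F] [Fintype F]

theorem isSquare_mul_of_not_isSquare {a b : F} (ha : ¬ IsSquare a) (hb : ¬ IsSquare b) :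
    IsSquare (a * b) := by
  classical
  have ha0 : a ≠ 0 := fun h => ha (h ▸ IsSquare.zero)
  have hb0 : b ≠ 0 := fun h => hb (h ▸ IsSquare.zero)
  rw [← quadraticChar_one_iff_isSquare (mul_ne_zero ha0 hb0), map_mul,
    quadraticChar_neg_one_iff_not_isSquare.mpr ha, quadraticChar_neg_one_iff_not_isSquare.mpr hb]
  norm_num

omit [Fintype F] in
theorem isSquare_mul_cancel {a b c : F} (hb : b ≠ 0) (h1 : IsSquare (a * b))
    (h2 : IsSquare (b * c)) : IsSquare (a * c) := by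
  obtain ⟨s, hs⟩ := h1
  obtain ⟨t, ht⟩ := h2
  refine ⟨s * t / b, ?_⟩
  field_simp
  linear_combination b * c * hs + s * s * ht

end Squares

section Isometry

variable {F : Type*} [Field F] {n : ℕ} {κ : Type} [Fintype κ] [DecidableEq κ]

omit [Fintype κ] [DecidableEq κ] in
/-- a quadratic form on `κ → F`, `|κ| = n` even, is isometric to `v ↦ v · A⁻¹ v` when its
discriminant lies in the square class of `det A` -/
theorem exists_isometry_matQ [Fintype F] (h2 : (2 : F) ≠ 0) (hn : Even n) (e : Fin n ≃ κ)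
    (Q : QuadraticForm F (κ → F)) (hQ : (QuadraticMap.polarBilin Q).Nondegenerate)
    (A : GL (Fin n) F)
    (hA : (A : Matrix (Fin n) (Fin n) F).transpose = (A : Matrix (Fin n) (Fin n) F))
    (hsq : IsSquare ((A : Matrix (Fin n) (Fin n) F).det * (Matrix.of (fun i j : Fin n =>
      QuadraticMap.polar (⇑Q) (reBasis F e i) (reBasis F e j))).det)) :
    ∃ L : (Fin n → F) ≃ₗ[F] (κ → F),
      ∀ v, Q (L v) = v ⬝ᵥ ((A⁻¹ : GL (Fin n) F) : Matrix (Fin n) (Fin n) F) *ᵥ v := by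
  set Q₂ : QuadraticForm F (Fin n → F) := Q.comp (reidx F e).toLinearMap with hQ₂
  have hQ₂a : ∀ v, Q₂ v = Q (reidx F e v) := fun v => rfl
  have hpol : ∀ u v, QuadraticMap.polar (⇑Q₂) u v
      = QuadraticMap.polar (⇑Q) (reidx F e u) (reidx F e v) := by
    intro u v
    unfold QuadraticMap.polar
    rw [hQ₂a, hQ₂a, hQ₂a, map_add]
  have hnd : (QuadraticMap.polarBilin Q₂).Nondegenerate := by
    rw [Cfsg.Agent.Helper8.QuadForm.nondeg_iff]
    rw [Cfsg.Agent.Helper8.QuadForm.nondeg_iff] at hQ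
    intro v hv
    have h1 : reidx F e v = 0 := by
      apply hQ
      intro w
      obtain ⟨w', rfl⟩ := (reidx F e).surjective w
      rw [← hpol]
      exact hv w'
    exact (reidx F e).injective (by rw [h1, map_zero])
  have hdet : (Matrix.of (fun i j : Fin n => QuadraticMap.polar (⇑Q₂) (Pi.single i 1)
      (Pi.single j 1))) = (Matrix.of (fun i j : Fin n =>
      QuadraticMap.polar (⇑Q) (reBasis F e i) (reBasis F e j))) := by
    ext i j
    rw [Matrix.of_apply, Matrix.of_apply, hpol, reBasis_apply, reBasis_apply]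
  have hAi : ((A⁻¹ : GL (Fin n) F) : Matrix (Fin n) (Fin n) F).transpose
      = ((A⁻¹ : GL (Fin n) F) : Matrix (Fin n) (Fin n) F) := by
    have h1 : ((A⁻¹ : GL (Fin n) F) : Matrix (Fin n) (Fin n) F).transpose
        * (A : Matrix (Fin n) (Fin n) F) = 1 := by
      rw [← hA, ← Matrix.transpose_mul, ← Units.val_mul, mul_inv_cancel, Units.val_one,
        Matrix.transpose_one]
    calc ((A⁻¹ : GL (Fin n) F) : Matrix (Fin n) (Fin n) F).transpose
        = ((A⁻¹ : GL (Fin n) F) : Matrix (Fin n) (Fin n) F).transpose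
          * ((A : Matrix (Fin n) (Fin n) F) * ((A⁻¹ : GL (Fin n) F) : Matrix (Fin n) (Fin n) F)) := by
          rw [← Units.val_mul, mul_inv_cancel, Units.val_one, Matrix.mul_one]
      _ = ((A⁻¹ : GL (Fin n) F) : Matrix (Fin n) (Fin n) F) := by
          rw [← Matrix.mul_assoc, h1, Matrix.one_mul]
  have hdA : (A : Matrix (Fin n) (Fin n) F).det ≠ 0 :=
    ((Matrix.isUnit_iff_isUnit_det _).mp (Units.isUnit A)).ne_zero
  have hdAi : ((A⁻¹ : GL (Fin n) F) : Matrix (Fin n) (Fin n) F).det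
      = ((A : Matrix (Fin n) (Fin n) F).det)⁻¹ := by
    have : ((A⁻¹ : GL (Fin n) F) : Matrix (Fin n) (Fin n) F).det
        * (A : Matrix (Fin n) (Fin n) F).det = 1 := by
      rw [← Matrix.det_mul, ← Units.val_mul, inv_mul_cancel, Units.val_one, Matrix.det_one]
    exact eq_inv_of_mul_eq_one_left this
  have key := (Cfsg.Agent.S2623.result h2
    (matQ ((A⁻¹ : GL (Fin n) F) : Matrix (Fin n) (Fin n) F)) Q₂
    (matQ_nondeg h2 hAi (by rw [hdAi]; exact inv_ne_zero hdA)) hnd).mpr (by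
    rw [hdet, det_gram_matQ hAi, hdAi]
    obtain ⟨k, hk⟩ := hn
    obtain ⟨s, hs⟩ := hsq
    refine ⟨2 ^ k * s / (A : Matrix (Fin n) (Fin n) F).det, ?_⟩
    have h2n : (2 : F) ^ n = 2 ^ k * 2 ^ k := by rw [hk, pow_add]
    rw [h2n]
    field_simp
    linear_combination hs)
  obtain ⟨g, hg⟩ := key
  refine ⟨g.trans (reidx F e), fun v => ?_⟩
  rw [LinearEquiv.trans_apply, ← hQ₂a, hg, matQ_apply]

/-- the centraliser of the graph automorphism of a symmetric matrix `A` is the projective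
similarity group of any quadratic form isometric to `v ↦ v · A⁻¹ v` -/
theorem nonempty_centralizer_equiv_PGO' (h2 : (2 : F) ≠ 0) (hn : 2 ≤ n) (Q : (κ → F) → F)
    (A : GL (Fin n) F)
    (hA : (A : Matrix (Fin n) (Fin n) F).transpose = (A : Matrix (Fin n) (Fin n) F))
    (L : (Fin n → F) ≃ₗ[F] (κ → F))
    (hL : ∀ v, Q (L v) = v ⬝ᵥ ((A⁻¹ : GL (Fin n) F) : Matrix (Fin n) (Fin n) F) *ᵥ v) :
    Nonempty (↥(Cfsg.inndiagPSL n F ⊓ Subgroup.centralizer {graphAut A}) ≃* Cfsg.PGO F Q) := by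
  have : Nontrivial (Fin n) := Fin.nontrivial_iff_two_le.mpr hn
  obtain ⟨e1⟩ := nonempty_centralizer_equiv A
  obtain ⟨e2⟩ := nonempty_projQuot_equiv (glConj L) (glConj_mem_scalars_iff L)
    (Geo.quadSimilarityGroup (F := F)
      (fun v : Fin n → F => v ⬝ᵥ ((A⁻¹ : GL (Fin n) F) : Matrix (Fin n) (Fin n) F) *ᵥ v))
    (Geo.quadSimilarityGroup (F := F) Q)
    (glConj_mem_quadSim_iff L _ Q 1 (fun v => by rw [hL, Units.val_one, one_mul]))
  have e3 : Cfsg.projQuot (simT A) ≃*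
      Cfsg.projQuot (Geo.quadSimilarityGroup (F := F)
        (fun v : Fin n → F => v ⬝ᵥ ((A⁻¹ : GL (Fin n) F) : Matrix (Fin n) (Fin n) F) *ᵥ v)) := by
    rw [simT_eq_quadSimilarityGroup h2 A hA]
  rw [inndiagPSL_eq]
  exact ⟨(e1.trans e3).trans e2⟩

end Isometry

section Symplectic

variable {F : Type*} [Field F] {n m : ℕ}

/-- reindexing an invertible matrix -/
def reGL {κ : Type} [Fintype κ] [DecidableEq κ] (e : Fin n ≃ κ) (M : GL κ F) : GL (Fin n) F :=
  ⟨(M : Matrix κ κ F).submatrix e e, ((M⁻¹ : GL κ F) : Matrix κ κ F).submatrix e e,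
    by rw [Matrix.submatrix_mul_equiv, ← Units.val_mul, mul_inv_cancel, Units.val_one,
      Matrix.submatrix_one_equiv],
    by rw [Matrix.submatrix_mul_equiv, ← Units.val_mul, inv_mul_cancel, Units.val_one,
      Matrix.submatrix_one_equiv]⟩

theorem reGL_coe {κ : Type} [Fintype κ] [DecidableEq κ] (e : Fin n ≃ κ) (M : GL κ F) :
    ((reGL e M : GL (Fin n) F) : Matrix (Fin n) (Fin n) F) = (M : Matrix κ κ F).submatrix e e :=
  rfl

theorem reGL_inv_coe {κ : Type} [Fintype κ] [DecidableEq κ] (e : Fin n ≃ κ) (M : GL κ F) :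
    (((reGL e M)⁻¹ : GL (Fin n) F) : Matrix (Fin n) (Fin n) F)
      = ((M⁻¹ : GL κ F) : Matrix κ κ F).submatrix e e :=
  rfl

theorem submatrix_form {κ : Type} [Fintype κ] [DecidableEq κ] (e : Fin n ≃ κ)
    (N : Matrix κ κ F) (u v : Fin n → F) :
    u ⬝ᵥ (N.submatrix e e) *ᵥ v = (reidx F e u) ⬝ᵥ N *ᵥ (reidx F e v) := by
  rw [Matrix.submatrix_mulVec_equiv, ← comp_equiv_symm_dotProduct]
  rfl

/-- the matrix `J` as an invertible matrix -/
def Jgl (m : ℕ) (F : Type*) [Field F] : GL (Fin m ⊕ Fin m) F :=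
  ⟨Matrix.J (Fin m) F, -Matrix.J (Fin m) F,
    by rw [Matrix.mul_neg, Matrix.J_squared, neg_neg],
    by rw [Matrix.neg_mul, Matrix.J_squared, neg_neg]⟩

theorem Jgl_coe : ((Jgl m F : GL (Fin m ⊕ Fin m) F) : Matrix _ _ F) = Matrix.J (Fin m) F := rfl

theorem Jgl_inv_coe :
    (((Jgl m F)⁻¹ : GL (Fin m ⊕ Fin m) F) : Matrix _ _ F) = -Matrix.J (Fin m) F := rfl

theorem reGL_Jgl_transpose (e : Fin n ≃ Fin m ⊕ Fin m) :
    ((reGL e (Jgl m F) : GL (Fin n) F) : Matrix (Fin n) (Fin n) F).transpose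
      = -((reGL e (Jgl m F) : GL (Fin n) F) : Matrix (Fin n) (Fin n) F) := by
  rw [reGL_coe, Matrix.transpose_submatrix, Jgl_coe, Matrix.J_transpose]
  rfl

/-- the centraliser of the graph automorphism of `J` is the projective conformal symplectic
group -/
theorem nonempty_centralizer_equiv_PGSp (hn : 2 ≤ n) (e : Fin n ≃ Fin m ⊕ Fin m) :
    Nonempty (↥(Cfsg.inndiagPSL n F ⊓ Subgroup.centralizer {graphAut (reGL e (Jgl m F))})
      ≃* Cfsg.PGSp m F) := by
  have : Nontrivial (Fin n) := Fin.nontrivial_iff_two_le.mpr hn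
  obtain ⟨e1⟩ := nonempty_centralizer_equiv (reGL e (Jgl m F))
  obtain ⟨e2⟩ := nonempty_projQuot_equiv (glConj (reidx F e)) (glConj_mem_scalars_iff (reidx F e))
    (Geo.similarityGroup (F := F)
      (fun u v : Fin n → F => u ⬝ᵥ (((reGL e (Jgl m F))⁻¹ : GL (Fin n) F) :
        Matrix (Fin n) (Fin n) F) *ᵥ v))
    (Cfsg.GSp m F)
    (glConj_mem_sim_iff (reidx F e) _ (Cfsg.sympForm m F) (-1) (fun u v => by
      rw [reGL_inv_coe, submatrix_form, Jgl_inv_coe, Matrix.neg_mulVec, dotProduct_neg,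
        Units.val_neg, Units.val_one, neg_one_mul, neg_neg]
      rfl))
  have e3 : Cfsg.projQuot (simT (reGL e (Jgl m F))) ≃*
      Cfsg.projQuot (Geo.similarityGroup (F := F)
      (fun u v : Fin n → F => u ⬝ᵥ (((reGL e (Jgl m F))⁻¹ : GL (Fin n) F) :
        Matrix (Fin n) (Fin n) F) *ᵥ v)) := by
    rw [simT_eq_similarityGroup]
  rw [inndiagPSL_eq]
  exact ⟨(e1.trans e3).trans e2⟩

end Symplectic

section Classes

variable {F : Type*} [Field F] {n : ℕ}

theorem conj_of_congr (h2 : 2 ≤ n) (A B : GL (Fin n) F)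
    (h : ∃ g : GL (Fin n) F, (g : Matrix (Fin n) (Fin n) F) * (A : Matrix (Fin n) (Fin n) F)
      * (g : Matrix (Fin n) (Fin n) F).transpose = (B : Matrix (Fin n) (Fin n) F)) :
    Cfsg.IsConjUnder (Cfsg.inndiagPSL n F) (graphAut A) (graphAut B) := by
  obtain ⟨g, hg⟩ := h
  rw [isConjUnder_inndiag_iff h2]
  exact ⟨g, 1, by rw [hg, Units.val_one, one_smul]⟩

/-- symmetric matrices with determinants in different square classes give non-conjugate graph
automorphisms when `n` is even -/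
theorem not_conj_of_not_isSquare (h2 : 2 ≤ n) (hn : Even n) (A B : GL (Fin n) F)
    (h : ¬ IsSquare ((A : Matrix (Fin n) (Fin n) F).det * (B : Matrix (Fin n) (Fin n) F).det)) :
    ¬ Cfsg.IsConjUnder (Cfsg.inndiagPSL n F) (graphAut A) (graphAut B) := by
  rw [isConjUnder_inndiag_iff h2]
  rintro ⟨g, c, hc⟩
  apply h
  obtain ⟨k, hk⟩ := hn
  have hcn : (c : F) ^ n = (c : F) ^ k * (c : F) ^ k := by rw [hk, pow_add]
  rw [hc, Matrix.det_smul, Matrix.det_mul, Matrix.det_mul, Matrix.det_transpose, Fintype.card_fin,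
    hcn]
  exact ⟨(c : F) ^ k * (g : Matrix (Fin n) (Fin n) F).det * (A : Matrix (Fin n) (Fin n) F).det,
    by ring⟩

/-- a skew-symmetric and a symmetric matrix give non-conjugate graph automorphisms -/
theorem not_conj_skew_symm (h2 : 2 ≤ n) (hF2 : (2 : F) ≠ 0) (A B : GL (Fin n) F)
    (hA : (A : Matrix (Fin n) (Fin n) F).transpose = -(A : Matrix (Fin n) (Fin n) F))
    (hB : (B : Matrix (Fin n) (Fin n) F).transpose = (B : Matrix (Fin n) (Fin n) F)) :
    ¬ Cfsg.IsConjUnder (Cfsg.inndiagPSL n F) (graphAut A) (graphAut B) := by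
  rw [isConjUnder_inndiag_iff h2]
  rintro ⟨g, c, hc⟩
  have h1 : (B : Matrix (Fin n) (Fin n) F).transpose = -(B : Matrix (Fin n) (Fin n) F) := by
    rw [hc, Matrix.transpose_smul, Matrix.transpose_mul, Matrix.transpose_mul,
      Matrix.transpose_transpose, hA, Matrix.neg_mul, Matrix.mul_neg, smul_neg, Matrix.mul_assoc]
  rw [hB] at h1
  have h3 : (2 : F) • (B : Matrix (Fin n) (Fin n) F) = 0 := by
    rw [two_smul]
    nth_rewrite 1 [h1]
    rw [neg_add_cancel]
  have hB0 : (B : Matrix (Fin n) (Fin n) F) = 0 := (smul_eq_zero.mp h3).resolve_left hF2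
  have := Units.isUnit B
  rw [hB0] at this
  have : Nontrivial (Fin n) := Fin.nontrivial_iff_two_le.mpr h2
  exact not_isUnit_zero ‹IsUnit (0 : Matrix (Fin n) (Fin n) F)›

end Classes

end Cfsg.Agent.Helper8.GrAut
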