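import Mathlib
import Cfsg.Agent.Helper8.GrAutE

set_option autoImplicit false

/-! Projective similarity groups in characteristic two as isometry groups, and centralisers of
conjugate elements (helper8). -/

namespace Cfsg.Agent.Helper8.GrAut

open Matrix Cfsg Cfsg.Agent.Helper8.AutSLn

section ConjCentralizer

variable {X : Type*} [Group X]

/-- conjugate elements (under `H`) have isomorphic centralisers in `H` -/
theorem nonempty_centralizer_equiv_of_isConjUnder (H : Subgroup X) {x y : X}
    (h : Cfsg.IsConjUnder H x y) :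
    Nonempty (↥(H ⊓ Subgroup.centralizer {x}) ≃* ↥(H ⊓ Subgroup.centralizer {y})) := by
  obtain ⟨k, hk, rfl⟩ := h
  have key : ∀ g : X, k * g * k⁻¹ ∈ H ⊓ Subgroup.centralizer {k * x * k⁻¹} ↔
      g ∈ H ⊓ Subgroup.centralizer {x} := by
    intro g
    rw [Subgroup.mem_inf, Subgroup.mem_inf, Subgroup.mem_centralizer_singleton_iff,
      Subgroup.mem_centralizer_singleton_iff]
    constructor
    · rintro ⟨h1, h2⟩
      refine ⟨?_, ?_⟩
      · have := H.mul_mem (H.mul_mem (H.inv_mem hk) h1) hk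
        convert this using 1
        group
      · have h3 : k * (g * x) * k⁻¹ = k * (x * g) * k⁻¹ := by
          calc k * (g * x) * k⁻¹ = k * g * k⁻¹ * (k * x * k⁻¹) := by group
            _ = k * x * k⁻¹ * (k * g * k⁻¹) := h2
            _ = k * (x * g) * k⁻¹ := by group
        exact mul_left_cancel (mul_right_cancel h3)
    · rintro ⟨h1, h2⟩
      refine ⟨H.mul_mem (H.mul_mem hk h1) (H.inv_mem hk), ?_⟩
      calc k * g * k⁻¹ * (k * x * k⁻¹) = k * (g * x) * k⁻¹ := by group
        _ = k * (x * g) * k⁻¹ := by rw [h2]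
        _ = k * x * k⁻¹ * (k * g * k⁻¹) := by group
  exact ⟨{ toFun := fun g => ⟨k * g.1 * k⁻¹, (key g.1).mpr g.2⟩
           invFun := fun g => ⟨k⁻¹ * g.1 * k, (key _).mp (by
             have : k * (k⁻¹ * g.1 * k) * k⁻¹ = g.1 := by group
             rw [this]
             exact g.2)⟩
           left_inv := fun g => Subtype.ext (by show k⁻¹ * (k * g.1 * k⁻¹) * k = g.1; group)
           right_inv := fun g => Subtype.ext (by show k * (k⁻¹ * g.1 * k) * k⁻¹ = g.1; group)
           map_mul' := fun a b => Subtype.ext (by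
             show k * (a.1 * b.1) * k⁻¹ = k * a.1 * k⁻¹ * (k * b.1 * k⁻¹)
             group) }⟩

end ConjCentralizer

section ProjQuot

variable {F : Type*} [Field F] {ι : Type} [Fintype ι] [DecidableEq ι]

/-- a subgroup `K ≤ H` meeting the scalars trivially with `H ≤ K · scalars` is isomorphic to the
projective quotient of `H` -/
theorem nonempty_equiv_projQuot (H K : Subgroup (GL ι F)) (hKH : K ≤ H)
    (hKZ : ∀ g ∈ K, g ∈ Geo.scalars ι F → g = 1)
    (hH : ∀ g ∈ H, ∃ z ∈ Geo.scalars ι F, g * z⁻¹ ∈ K) :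
    Nonempty (↥K ≃* Cfsg.projQuot H) := by
  let φ : ↥K →* Cfsg.projQuot H :=
    (QuotientGroup.mk' ((Geo.scalars ι F).subgroupOf H)).comp (Subgroup.inclusion hKH)
  have hinj : Function.Injective φ := by
    rw [injective_iff_map_eq_one]
    intro k hk
    have h1 : (Subgroup.inclusion hKH k) ∈ (Geo.scalars ι F).subgroupOf H :=
      (QuotientGroup.eq_one_iff _).mp hk
    rw [Subgroup.mem_subgroupOf] at h1
    exact Subtype.ext (hKZ k.1 k.2 h1)
  have hsurj : Function.Surjective φ := by
    intro x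
    induction x using QuotientGroup.induction_on with
    | H h =>
      obtain ⟨z, hz, hk⟩ := hH h.1 h.2
      refine ⟨⟨h.1 * z⁻¹, hk⟩, ?_⟩
      show (QuotientGroup.mk (Subgroup.inclusion hKH ⟨h.1 * z⁻¹, hk⟩) : Cfsg.projQuot H)
        = QuotientGroup.mk h
      rw [QuotientGroup.eq, Subgroup.mem_subgroupOf]
      have : (((Subgroup.inclusion hKH ⟨h.1 * z⁻¹, hk⟩)⁻¹ * h : ↥H) : GL ι F) = z := by
        show (h.1 * z⁻¹)⁻¹ * h.1 = z
        group
      rw [this]
      exact hz
  exact ⟨MulEquiv.ofBijective φ ⟨hinj, hsurj⟩⟩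

end ProjQuot

section CharTwo

variable {F : Type*} [Field F] [Fintype F] [CharP F 2] {ι : Type} [Fintype ι] [DecidableEq ι]

omit [Fintype F] in
theorem eq_one_of_sq_eq_one {a : F} (h : a * a = 1) : a = 1 := by
  have h1 : (a - 1) * (a - 1) = 0 := by
    have h2 : (2 : F) = 0 := CharTwo.two_eq_zero
    linear_combination h - (a - 1) * h2
  have := mul_self_eq_zero.mp h1
  exact sub_eq_zero.mp this

theorem exists_sqrt (c : F) : ∃ d : F, c = d * d :=
  FiniteField.isSquare_of_char_two (ringChar.eq F 2) c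

theorem exists_sqrt_unit (c : Fˣ) : ∃ d : Fˣ, c = d * d := by
  obtain ⟨d, hd⟩ := exists_sqrt (c : F)
  have hd0 : d ≠ 0 := by
    rintro rfl
    rw [mul_zero] at hd
    exact c.ne_zero hd
  exact ⟨Units.mk0 d hd0, Units.ext hd⟩

/-- the matrices `g` with `g A gᵀ = A` -/
def isoSub (A : GL ι F) : Subgroup (GL ι F) where
  carrier := {g | (g : Matrix ι ι F) * (A : Matrix ι ι F) * (g : Matrix ι ι F).transpose
    = (A : Matrix ι ι F)}
  mul_mem' {a b} ha hb := by
    show ((a * b : GL ι F) : Matrix ι ι F) * (A : Matrix ι ι F)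
      * ((a * b : GL ι F) : Matrix ι ι F).transpose = (A : Matrix ι ι F)
    have ha' : (a : Matrix ι ι F) * (A : Matrix ι ι F) * (a : Matrix ι ι F).transpose
      = (A : Matrix ι ι F) := ha
    have hb' : (b : Matrix ι ι F) * (A : Matrix ι ι F) * (b : Matrix ι ι F).transpose
      = (A : Matrix ι ι F) := hb
    rw [Units.val_mul, Matrix.transpose_mul]
    calc (a : Matrix ι ι F) * (b : Matrix ι ι F) * (A : Matrix ι ι F)
          * ((b : Matrix ι ι F).transpose * (a : Matrix ι ι F).transpose)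
        = (a : Matrix ι ι F) * ((b : Matrix ι ι F) * (A : Matrix ι ι F)
          * (b : Matrix ι ι F).transpose) * (a : Matrix ι ι F).transpose := by
          simp only [Matrix.mul_assoc]
      _ = (A : Matrix ι ι F) := by rw [hb', ha']
  one_mem' := by
    show ((1 : GL ι F) : Matrix ι ι F) * (A : Matrix ι ι F)
      * ((1 : GL ι F) : Matrix ι ι F).transpose = (A : Matrix ι ι F)
    rw [Units.val_one, Matrix.one_mul, Matrix.transpose_one, Matrix.mul_one]
  inv_mem' {a} ha := by
    show ((a⁻¹ : GL ι F) : Matrix ι ι F) * (A : Matrix ι ι F)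
      * ((a⁻¹ : GL ι F) : Matrix ι ι F).transpose = (A : Matrix ι ι F)
    have ha' : (a : Matrix ι ι F) * (A : Matrix ι ι F) * (a : Matrix ι ι F).transpose
      = (A : Matrix ι ι F) := ha
    have h1 : ((a⁻¹ : GL ι F) : Matrix ι ι F) * (a : Matrix ι ι F) = 1 := by
      rw [← Units.val_mul, inv_mul_cancel, Units.val_one]
    have h2 : (a : Matrix ι ι F).transpose * ((a⁻¹ : GL ι F) : Matrix ι ι F).transpose = 1 := by
      rw [← Matrix.transpose_mul, h1, Matrix.transpose_one]
    calc ((a⁻¹ : GL ι F) : Matrix ι ι F) * (A : Matrix ι ι F)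
          * ((a⁻¹ : GL ι F) : Matrix ι ι F).transpose
        = ((a⁻¹ : GL ι F) : Matrix ι ι F) * ((a : Matrix ι ι F) * (A : Matrix ι ι F)
          * (a : Matrix ι ι F).transpose) * ((a⁻¹ : GL ι F) : Matrix ι ι F).transpose := by
          rw [ha']
      _ = (((a⁻¹ : GL ι F) : Matrix ι ι F) * (a : Matrix ι ι F)) * (A : Matrix ι ι F)
          * ((a : Matrix ι ι F).transpose * ((a⁻¹ : GL ι F) : Matrix ι ι F).transpose) := by
          simp only [Matrix.mul_assoc]
      _ = (A : Matrix ι ι F) := by rw [h1, h2, Matrix.one_mul, Matrix.mul_one]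

omit [Fintype F] [CharP F 2] in
theorem mem_isoSub_iff (A g : GL ι F) :
    g ∈ isoSub A ↔ (g : Matrix ι ι F) * (A : Matrix ι ι F) * (g : Matrix ι ι F).transpose
      = (A : Matrix ι ι F) := Iff.rfl

omit [Fintype F] [CharP F 2] in
theorem coe_scalar (c : Fˣ) :
    ((Matrix.GeneralLinearGroup.scalar ι c : GL ι F) : Matrix ι ι F) = (c : F) • (1 : Matrix ι ι F) := by
  rw [Matrix.GeneralLinearGroup.coe_scalar, Matrix.scalar_apply, ← Matrix.smul_one_eq_diagonal]

omit [Fintype F] [CharP F 2] in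
theorem mem_scalars_iff_scalar (g : GL ι F) :
    g ∈ Geo.scalars ι F ↔ ∃ c : Fˣ, g = Matrix.GeneralLinearGroup.scalar ι c := by
  rw [Geo.mem_scalars_iff]
  constructor
  · rintro ⟨c, hc⟩
    exact ⟨c, Units.ext (by rw [hc, coe_scalar])⟩
  · rintro ⟨c, rfl⟩
    exact ⟨c, coe_scalar c⟩

/-- in characteristic two over a finite field, the projective similarity group of the form with
matrix `A` is the group of matrices with `g A gᵀ = A` -/
theorem nonempty_isoSub_equiv [Nontrivial ι] (A : GL ι F) :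
    Nonempty (↥(isoSub A) ≃* Cfsg.projQuot (simT A)) := by
  have hA0 : (A : Matrix ι ι F) ≠ 0 := by
    intro h0
    have := Units.isUnit A
    rw [h0] at this
    exact not_isUnit_zero this
  apply nonempty_equiv_projQuot
  · intro g hg
    rw [mem_simT_iff]
    exact ⟨1, by rw [(mem_isoSub_iff A g).mp hg, Units.val_one, one_smul]⟩
  · intro g hg hz
    obtain ⟨c, rfl⟩ := (mem_scalars_iff_scalar g).mp hz
    have h1 := (mem_isoSub_iff A _).mp hg
    rw [coe_scalar, Matrix.transpose_smul, Matrix.transpose_one, Matrix.smul_mul, Matrix.one_mul,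
      Matrix.mul_smul, Matrix.mul_one, smul_smul] at h1
    have h2 : ((c : F) * (c : F) - 1) • (A : Matrix ι ι F) = 0 := by
      rw [sub_smul, one_smul, h1, sub_self]
    have h3 : (c : F) * (c : F) = 1 := by
      rcases smul_eq_zero.mp h2 with h | h
      · exact sub_eq_zero.mp h
      · exact absurd h hA0
    have h4 : c = 1 := Units.ext (eq_one_of_sq_eq_one h3)
    rw [h4, map_one]
  · intro g hg
    rw [mem_simT_iff] at hg
    obtain ⟨c, hc⟩ := hg
    obtain ⟨d, hd⟩ := exists_sqrt_unit c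
    refine ⟨Matrix.GeneralLinearGroup.scalar ι d, (mem_scalars_iff_scalar _).mpr ⟨d, rfl⟩, ?_⟩
    rw [mem_isoSub_iff, ← map_inv, ← scalar_comm, coe_scalar_mul, Matrix.transpose_smul]
    simp only [Matrix.smul_mul, Matrix.mul_smul, smul_smul]
    rw [hc, smul_smul, hd]
    have : ((d⁻¹ : Fˣ) : F) * ((d⁻¹ : Fˣ) : F) * (((d * d : Fˣ) : Fˣ) : F) = 1 := by
      rw [← Units.val_mul, ← Units.val_mul]
      have : d⁻¹ * d⁻¹ * (d * d) = 1 := by group
      rw [this, Units.val_one]
    rw [this, one_smul]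

/-- in characteristic two over a finite field, the projective similarity group of a quadratic
form is its isometry group -/
theorem nonempty_isometryGroup_equiv (Q : (ι → F) → F)
    (hsm : ∀ (a : F) (v : ι → F), Q (a • v) = a * a * Q v) (hne : ∃ v, Q v ≠ 0) :
    Nonempty (↥(Cfsg.isometryGroup F Q) ≃* Cfsg.PGO F Q) := by
  apply nonempty_equiv_projQuot
  · intro g hg
    exact ⟨1, fun v => by rw [Units.val_one, one_mul]; exact hg v v⟩
  · intro g hg hz
    obtain ⟨c, rfl⟩ := (mem_scalars_iff_scalar g).mp hz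
    obtain ⟨v, hv⟩ := hne
    have h1 : Q (((Matrix.GeneralLinearGroup.scalar ι c : GL ι F) : Matrix ι ι F) *ᵥ v) = Q v :=
      hg v v
    rw [coe_scalar, Matrix.smul_mulVec, Matrix.one_mulVec, hsm] at h1
    have h3 : (c : F) * (c : F) = 1 := by
      have : ((c : F) * (c : F) - 1) * Q v = 0 := by linear_combination h1
      rcases mul_eq_zero.mp this with h | h
      · exact sub_eq_zero.mp h
      · exact absurd h hv
    have h4 : c = 1 := Units.ext (eq_one_of_sq_eq_one h3)
    rw [h4, map_one]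
  · intro g hg
    obtain ⟨c, hc⟩ := hg
    obtain ⟨d, hd⟩ := exists_sqrt_unit c
    refine ⟨Matrix.GeneralLinearGroup.scalar ι d, (mem_scalars_iff_scalar _).mpr ⟨d, rfl⟩, ?_⟩
    intro u _
    show Q (((g * (Matrix.GeneralLinearGroup.scalar ι d)⁻¹ : GL ι F) : Matrix ι ι F) *ᵥ u) = Q u
    rw [← map_inv, ← scalar_comm, coe_scalar_mul, Matrix.smul_mulVec, hsm, hc, hd, Units.val_mul]
    have : ((d⁻¹ : Fˣ) : F) * (d : F) = 1 := by
      rw [← Units.val_mul, inv_mul_cancel, Units.val_one]
    linear_combination ((d⁻¹ : Fˣ) : F) * (d : F) * Q u * this + Q u * this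

end CharTwo

end Cfsg.Agent.Helper8.GrAut
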