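import Mathlib
import Cfsg.Agent.Helper8.GrAutG
import Cfsg.Agent.Helper8.GrAutH
import Cfsg.Agent.S2622

set_option autoImplicit false

/-! Graph automorphisms of `PSL_n(F)`: general-degree isometry lemma, characteristic two
centralisers as groups `{g | g M gᵀ = M}`, and congruence of non-alternating symmetric matrices
in characteristic two (helper8). -/

namespace Cfsg.Agent.Helper8.GrAut

open Matrix Cfsg Cfsg.Agent.Helper8.AutSLn

section ConjUnder

variable {X : Type*} [Group X]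

theorem isConjUnder_symm (H : Subgroup X) {x y : X} (h : Cfsg.IsConjUnder H x y) :
    Cfsg.IsConjUnder H y x := by
  obtain ⟨k, hk, rfl⟩ := h
  exact ⟨k⁻¹, H.inv_mem hk, by group⟩

theorem isConjUnder_trans (H : Subgroup X) {x y z : X} (h : Cfsg.IsConjUnder H x y)
    (h' : Cfsg.IsConjUnder H y z) : Cfsg.IsConjUnder H x z := by
  obtain ⟨k, hk, rfl⟩ := h
  obtain ⟨l, hl, rfl⟩ := h'
  exact ⟨l * k, H.mul_mem hl hk, by group⟩

end ConjUnder

section Isometry

variable {F : Type*} [Field F] {n : ℕ} {κ : Type} [Fintype κ] [DecidableEq κ]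

omit [Fintype κ] [DecidableEq κ] in
/-- a quadratic form on `κ → F`, `|κ| = n`, is isometric to `v ↦ v · A⁻¹ v` when
`2ⁿ det A disc Q` is a square -/
theorem exists_isometry_matQ' [Fintype F] (h2 : (2 : F) ≠ 0) (e : Fin n ≃ κ)
    (Q : QuadraticForm F (κ → F)) (hQ : (QuadraticMap.polarBilin Q).Nondegenerate)
    (A : GL (Fin n) F)
    (hA : (A : Matrix (Fin n) (Fin n) F).transpose = (A : Matrix (Fin n) (Fin n) F))
    (hsq : IsSquare ((2 : F) ^ n * (A : Matrix (Fin n) (Fin n) F).det * (Matrix.of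
      (fun i j : Fin n => QuadraticMap.polar (⇑Q) (reBasis F e i) (reBasis F e j))).det)) :
    ∃ L : (Fin n → F) ≃ₗ[F] (κ → F),
      ∀ v, Q (L v) = v ⬝ᵥ ((A⁻¹ : GL (Fin n) F) : Matrix (Fin n) (Fin n) F) *ᵥ v := by
  set Q₂ : QuadraticForm F (Fin n → F) := Q.comp (reidx F e).toLinearMap with hQ₂
  have hQ₂a : ∀ v, Q₂ v = Q (reidx F e v) := fun v => rfl
  have hpol : ∀ u v, QuadraticMap.polar (⇑Q₂) u v
      = QuadraticMap.polar (⇑Q) (reidx F e u) (reidx F e v) := by
    intro u v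
    unfold QuadraticMap.polar
    rw [hQ₂a, hQ₂a, hQ₂a, map_add]
  have hnd : (QuadraticMap.polarBilin Q₂).Nondegenerate := by
    rw [Cfsg.Agent.Helper8.QuadForm.nondeg_iff]
    rw [Cfsg.Agent.Helper8.QuadForm.nondeg_iff] at hQ
    intro v hv
    have h1 : reidx F e v = 0 := by
      apply hQ
      intro w
      obtain ⟨w', rfl⟩ := (reidx F e).surjective w
      rw [← hpol]
      exact hv w'
    exact (reidx F e).injective (by rw [h1, map_zero])
  have hdet : (Matrix.of (fun i j : Fin n => QuadraticMap.polar (⇑Q₂) (Pi.single i 1)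
      (Pi.single j 1))) = (Matrix.of (fun i j : Fin n =>
      QuadraticMap.polar (⇑Q) (reBasis F e i) (reBasis F e j))) := by
    ext i j
    rw [Matrix.of_apply, Matrix.of_apply, hpol, reBasis_apply, reBasis_apply]
  have hAi : ((A⁻¹ : GL (Fin n) F) : Matrix (Fin n) (Fin n) F).transpose
      = ((A⁻¹ : GL (Fin n) F) : Matrix (Fin n) (Fin n) F) := by
    have h1 : ((A⁻¹ : GL (Fin n) F) : Matrix (Fin n) (Fin n) F).transpose
        * (A : Matrix (Fin n) (Fin n) F) = 1 := by
      rw [← hA, ← Matrix.transpose_mul, ← Units.val_mul, mul_inv_cancel, Units.val_one,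
        Matrix.transpose_one]
    calc ((A⁻¹ : GL (Fin n) F) : Matrix (Fin n) (Fin n) F).transpose
        = ((A⁻¹ : GL (Fin n) F) : Matrix (Fin n) (Fin n) F).transpose
          * ((A : Matrix (Fin n) (Fin n) F) * ((A⁻¹ : GL (Fin n) F) : Matrix (Fin n) (Fin n) F)) := by
          rw [← Units.val_mul, mul_inv_cancel, Units.val_one, Matrix.mul_one]
      _ = ((A⁻¹ : GL (Fin n) F) : Matrix (Fin n) (Fin n) F) := by
          rw [← Matrix.mul_assoc, h1, Matrix.one_mul]
  have hdA : (A : Matrix (Fin n) (Fin n) F).det ≠ 0 :=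
    ((Matrix.isUnit_iff_isUnit_det _).mp (Units.isUnit A)).ne_zero
  have hdAi : ((A⁻¹ : GL (Fin n) F) : Matrix (Fin n) (Fin n) F).det
      = ((A : Matrix (Fin n) (Fin n) F).det)⁻¹ := by
    have : ((A⁻¹ : GL (Fin n) F) : Matrix (Fin n) (Fin n) F).det
        * (A : Matrix (Fin n) (Fin n) F).det = 1 := by
      rw [← Matrix.det_mul, ← Units.val_mul, inv_mul_cancel, Units.val_one, Matrix.det_one]
    exact eq_inv_of_mul_eq_one_left this
  have key := (Cfsg.Agent.S2623.result h2
    (matQ ((A⁻¹ : GL (Fin n) F) : Matrix (Fin n) (Fin n) F)) Q₂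
    (matQ_nondeg h2 hAi (by rw [hdAi]; exact inv_ne_zero hdA)) hnd).mpr (by
    rw [hdet, det_gram_matQ hAi, hdAi]
    obtain ⟨s, hs⟩ := hsq
    refine ⟨s / (A : Matrix (Fin n) (Fin n) F).det, ?_⟩
    field_simp
    linear_combination hs)
  obtain ⟨g, hg⟩ := key
  refine ⟨g.trans (reidx F e), fun v => ?_⟩
  rw [LinearEquiv.trans_apply, ← hQ₂a, hg, matQ_apply]

end Isometry

section CharTwo

variable {F : Type*} [Field F] [Fintype F] [CharP F 2] {n : ℕ} {κ : Type} [Fintype κ]
  [DecidableEq κ]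

omit [Fintype F] [CharP F 2] in
theorem nonempty_projQuot_simT_reGL [Nontrivial κ] (hn : 2 ≤ n) (e : Fin n ≃ κ) (M : GL κ F) :
    Nonempty (Cfsg.projQuot (simT (reGL e M)) ≃* Cfsg.projQuot (simT M)) := by
  have : Nontrivial (Fin n) := Fin.nontrivial_iff_two_le.mpr hn
  rw [simT_eq_similarityGroup, simT_eq_similarityGroup]
  exact nonempty_projQuot_equiv (glConj (reidx F e)) (glConj_mem_scalars_iff (reidx F e)) _ _
    (glConj_mem_sim_iff (reidx F e) _ _ 1 (fun u v => by
      rw [reGL_inv_coe, submatrix_form, Units.val_one, one_mul]))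

/-- in characteristic two the centraliser of the graph automorphism of (the reindexed) `M` is the
group of matrices `g` with `g M gᵀ = M` -/
theorem nonempty_centralizer_equiv_isoSub [Nontrivial κ] (hn : 2 ≤ n) (e : Fin n ≃ κ)
    (M : GL κ F) :
    Nonempty (↥(Cfsg.inndiagPSL n F ⊓ Subgroup.centralizer {graphAut (reGL e M)})
      ≃* ↥(isoSub M)) := by
  have : Nontrivial (Fin n) := Fin.nontrivial_iff_two_le.mpr hn
  obtain ⟨e1⟩ := nonempty_centralizer_equiv (reGL e M)
  obtain ⟨e2⟩ := nonempty_projQuot_simT_reGL hn e M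
  obtain ⟨e3⟩ := nonempty_isoSub_equiv M
  rw [inndiagPSL_eq]
  exact ⟨(e1.trans e2).trans e3.symm⟩

/-- a symmetric invertible matrix over a finite field of characteristic two which is not
alternating is of the form `g gᵀ` -/
theorem exists_congr_one (A : GL (Fin n) F)
    (hA : (A : Matrix (Fin n) (Fin n) F).transpose = (A : Matrix (Fin n) (Fin n) F))
    (hna : ∃ v : Fin n → F, v ⬝ᵥ (A : Matrix (Fin n) (Fin n) F) *ᵥ v ≠ 0) :
    ∃ g : GL (Fin n) F, (g : Matrix (Fin n) (Fin n) F) * ((1 : GL (Fin n) F) : Matrix (Fin n) (Fin n) F)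
      * (g : Matrix (Fin n) (Fin n) F).transpose = (A : Matrix (Fin n) (Fin n) F) := by
  have hdA : (A : Matrix (Fin n) (Fin n) F).det ≠ 0 :=
    ((Matrix.isUnit_iff_isUnit_det _).mp (Units.isUnit A)).ne_zero
  set B : LinearMap.BilinForm F (Fin n → F) :=
    Matrix.toLinearMap₂' F (A : Matrix (Fin n) (Fin n) F) with hB
  have hBa : ∀ u v, B u v = u ⬝ᵥ (A : Matrix (Fin n) (Fin n) F) *ᵥ v := by
    intro u v
    rw [hB, Matrix.toLinearMap₂'_apply']
  obtain ⟨b, hb⟩ := Cfsg.Agent.S2622.result (F := F) (V := Fin n → F) (n := n)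
    (by rw [Module.finrank_fin_fun]) B
    ⟨fun u v => by
      rw [hBa, hBa]
      exact (dot_symm hA v u)⟩
    (LinearMap.nondegenerate_toLinearMap₂'_of_det_ne_zero' hdA)
    (by
      obtain ⟨v, hv⟩ := hna
      exact ⟨v, by rw [hBa]; exact hv⟩)
  -- the matrix with columns `b i`
  set P : Matrix (Fin n) (Fin n) F := Matrix.of (fun k i => b i k) with hP
  have hPv : ∀ i, P *ᵥ (Pi.single i 1) = b i := by
    intro i
    rw [Matrix.mulVec_single_one]
    funext k
    rfl
  have hmat : P.transpose * (A : Matrix (Fin n) (Fin n) F) * P = 1 := by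
    ext i j
    have := hb i j
    rw [hBa, ← hPv i, ← hPv j, dotProduct_mulVec_mulVec, Matrix.mulVec_single_one,
      single_one_dotProduct] at this
    rw [Matrix.one_apply]
    exact this
  have hdP : P.det ≠ 0 := by
    intro h0
    have := congrArg Matrix.det hmat
    rw [Matrix.det_mul, Matrix.det_mul, h0, mul_zero, Matrix.det_one] at this
    exact zero_ne_one this
  set Pg : GL (Fin n) F := Matrix.GeneralLinearGroup.mkOfDetNeZero P hdP with hPg
  have hPgc : (Pg : Matrix (Fin n) (Fin n) F) = P := rfl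
  -- `A = (Pᵀ)⁻¹ P⁻¹`
  refine ⟨glInvTr Pg, ?_⟩
  rw [Units.val_one, Matrix.mul_one, glInvTr_coe, Matrix.transpose_transpose]
  have h1 : (Pg : Matrix (Fin n) (Fin n) F).transpose * (A : Matrix (Fin n) (Fin n) F)
      * (Pg : Matrix (Fin n) (Fin n) F) = 1 := by rw [hPgc]; exact hmat
  have h2 : ((Pg⁻¹ : GL (Fin n) F) : Matrix (Fin n) (Fin n) F).transpose
      * (Pg : Matrix (Fin n) (Fin n) F).transpose = 1 := by
    rw [← Matrix.transpose_mul, ← Units.val_mul, mul_inv_cancel, Units.val_one,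
      Matrix.transpose_one]
  have h3 : (Pg : Matrix (Fin n) (Fin n) F) * ((Pg⁻¹ : GL (Fin n) F) : Matrix (Fin n) (Fin n) F)
      = 1 := by
    rw [← Units.val_mul, mul_inv_cancel, Units.val_one]
  calc ((Pg⁻¹ : GL (Fin n) F) : Matrix (Fin n) (Fin n) F).transpose
        * ((Pg⁻¹ : GL (Fin n) F) : Matrix (Fin n) (Fin n) F)
      = ((Pg⁻¹ : GL (Fin n) F) : Matrix (Fin n) (Fin n) F).transpose
        * ((Pg : Matrix (Fin n) (Fin n) F).transpose * (A : Matrix (Fin n) (Fin n) F)
          * (Pg : Matrix (Fin n) (Fin n) F))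
        * ((Pg⁻¹ : GL (Fin n) F) : Matrix (Fin n) (Fin n) F) := by
        rw [h1, Matrix.mul_one]
    _ = (((Pg⁻¹ : GL (Fin n) F) : Matrix (Fin n) (Fin n) F).transpose
        * (Pg : Matrix (Fin n) (Fin n) F).transpose) * (A : Matrix (Fin n) (Fin n) F)
          * ((Pg : Matrix (Fin n) (Fin n) F)
        * ((Pg⁻¹ : GL (Fin n) F) : Matrix (Fin n) (Fin n) F)) := by
        simp only [Matrix.mul_assoc]
    _ = (A : Matrix (Fin n) (Fin n) F) := by rw [h2, h3, Matrix.one_mul, Matrix.mul_one]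

/-- in characteristic two any two non-alternating symmetric matrices give conjugate graph
automorphisms -/
theorem conj_of_nonalt (hn : 2 ≤ n) (A B : GL (Fin n) F)
    (hA : (A : Matrix (Fin n) (Fin n) F).transpose = (A : Matrix (Fin n) (Fin n) F))
    (hnaA : ∃ v : Fin n → F, v ⬝ᵥ (A : Matrix (Fin n) (Fin n) F) *ᵥ v ≠ 0)
    (hB : (B : Matrix (Fin n) (Fin n) F).transpose = (B : Matrix (Fin n) (Fin n) F))
    (hnaB : ∃ v : Fin n → F, v ⬝ᵥ (B : Matrix (Fin n) (Fin n) F) *ᵥ v ≠ 0) :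
    Cfsg.IsConjUnder (Cfsg.inndiagPSL n F) (graphAut A) (graphAut B) :=
  isConjUnder_trans _ (isConjUnder_symm _ (conj_of_congr hn 1 A (exists_congr_one A hA hnaA)))
    (conj_of_congr hn 1 B (exists_congr_one B hB hnaB))

end CharTwo

end Cfsg.Agent.Helper8.GrAut
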