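import Mathlib
import Cfsg.Agent.Helper8.GrAutI

set_option autoImplicit false

/-! The matrices `g` with `g A₀ gᵀ = A₀`, `A₀ = 1 ⊕ J`, in characteristic two form the symplectic
group (helper8). -/

namespace Cfsg.Agent.Helper8.GrAut

open Matrix Cfsg Cfsg.Agent.Helper8.AutSLn

/-- the index type of the odd-dimensional form -/
abbrev OI (m : ℕ) : Type := Unit ⊕ (Fin m ⊕ Fin m)

section

variable {F : Type*} [Field F] {m : ℕ}

/-- `(X J Xᵀ)` has zero diagonal -/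
theorem diag_J_conj {α : Type*} (X : Matrix α (Fin m ⊕ Fin m) F) (k : α) :
    (X * Matrix.J (Fin m) F * X.transpose) k k = 0 := by
  have h1 : (X * Matrix.J (Fin m) F * X.transpose) k k
      = (X k) ⬝ᵥ Matrix.J (Fin m) F *ᵥ (X k) := by
    rw [Matrix.mul_apply, Matrix.dotProduct_mulVec]
    apply Finset.sum_congr rfl
    intro j _
    rw [Matrix.transpose_apply]
    rfl
  rw [h1]
  have := Cfsg.Agent.Helper8.SpS.alt_bform_J (F := F) (m := m) (X k)
  rwa [Cfsg.Agent.Helper8.SpS.bform, Matrix.toLinearMap₂'_apply'] at this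

/-- the block embedding `h ↦ 1 ⊕ h` -/
def blockHom (m : ℕ) (F : Type*) [Field F] :
    Matrix (Fin m ⊕ Fin m) (Fin m ⊕ Fin m) F →* Matrix (Unit ⊕ (Fin m ⊕ Fin m))
      (Unit ⊕ (Fin m ⊕ Fin m)) F where
  toFun h := Matrix.fromBlocks 1 0 0 h
  map_one' := Matrix.fromBlocks_one
  map_mul' a b := by
    rw [Matrix.fromBlocks_multiply]
    simp

/-- `A₀ = 1 ⊕ J` -/
def A0gl (m : ℕ) (F : Type*) [Field F] : GL (Unit ⊕ (Fin m ⊕ Fin m)) F :=
  ⟨Matrix.fromBlocks 1 0 0 (Matrix.J (Fin m) F), Matrix.fromBlocks 1 0 0 (-Matrix.J (Fin m) F),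
    by rw [Matrix.fromBlocks_multiply]; simp [Matrix.J_squared, Matrix.fromBlocks_one],
    by rw [Matrix.fromBlocks_multiply]; simp [Matrix.J_squared, Matrix.fromBlocks_one]⟩

theorem A0gl_coe : ((A0gl m F : GL (Unit ⊕ (Fin m ⊕ Fin m)) F) : Matrix (OI m) (OI m) F)
    = Matrix.fromBlocks 1 0 0 (Matrix.J (Fin m) F) := rfl

variable [CharP F 2]

theorem neg_J : -Matrix.J (Fin m) F = Matrix.J (Fin m) F := by
  ext i j
  rw [Matrix.neg_apply]
  exact CharTwo.neg_eq _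

theorem A0gl_transpose : ((A0gl m F : GL (Unit ⊕ (Fin m ⊕ Fin m)) F) : Matrix (OI m) (OI m) F).transpose
    = ((A0gl m F : GL (Unit ⊕ (Fin m ⊕ Fin m)) F) : Matrix (OI m) (OI m) F) := by
  rw [A0gl_coe, Matrix.fromBlocks_transpose, Matrix.transpose_one, Matrix.transpose_zero,
    Matrix.transpose_zero, Matrix.J_transpose, neg_J]

omit [CharP F 2] in
theorem A0gl_nonalt : ∃ v : Unit ⊕ (Fin m ⊕ Fin m) → F,
    v ⬝ᵥ ((A0gl m F : GL (Unit ⊕ (Fin m ⊕ Fin m)) F) : Matrix (OI m) (OI m) F) *ᵥ v ≠ 0 := by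
  refine ⟨Pi.single (Sum.inl ()) 1, ?_⟩
  rw [Matrix.mulVec_single_one, single_one_dotProduct, A0gl_coe]
  simp

/-- the structure of the elements of `isoSub A₀` -/
theorem isoSub_A0_structure (g : GL (Unit ⊕ (Fin m ⊕ Fin m)) F) (hg : g ∈ isoSub (A0gl m F)) :
    ∃ h : Matrix (Fin m ⊕ Fin m) (Fin m ⊕ Fin m) F, h ∈ Matrix.symplecticGroup (Fin m) F ∧
      (g : Matrix (OI m) (OI m) F) = Matrix.fromBlocks 1 0 0 h := by
  rw [mem_isoSub_iff, A0gl_coe] at hg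
  set a := (g : Matrix (Unit ⊕ (Fin m ⊕ Fin m)) (Unit ⊕ (Fin m ⊕ Fin m)) F).toBlocks₁₁ with ha
  set r := (g : Matrix (Unit ⊕ (Fin m ⊕ Fin m)) (Unit ⊕ (Fin m ⊕ Fin m)) F).toBlocks₁₂ with hr
  set s := (g : Matrix (Unit ⊕ (Fin m ⊕ Fin m)) (Unit ⊕ (Fin m ⊕ Fin m)) F).toBlocks₂₁ with hs
  set h := (g : Matrix (Unit ⊕ (Fin m ⊕ Fin m)) (Unit ⊕ (Fin m ⊕ Fin m)) F).toBlocks₂₂ with hh
  have hgb : (g : Matrix (Unit ⊕ (Fin m ⊕ Fin m)) (Unit ⊕ (Fin m ⊕ Fin m)) F)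
      = Matrix.fromBlocks a r s h := (Matrix.fromBlocks_toBlocks _).symm
  rw [hgb, Matrix.fromBlocks_transpose, Matrix.fromBlocks_multiply, Matrix.fromBlocks_multiply,
    Matrix.fromBlocks_inj] at hg
  simp only [Matrix.mul_one, Matrix.mul_zero, add_zero, zero_add] at hg
  obtain ⟨h11, h12, h21, h22⟩ := hg
  -- `s = 0`
  have hs0 : s = 0 := by
    ext k u
    have h1 := congrFun (congrFun h22 k) k
    rw [Matrix.add_apply, diag_J_conj] at h1
    have hJkk : Matrix.J (Fin m) F k k = 0 := by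
      rcases k with k | k <;> simp [Matrix.J]
    rw [hJkk, add_zero, Matrix.mul_apply, Fintype.sum_unique, Matrix.transpose_apply] at h1
    have := mul_self_eq_zero.mp h1
    rw [Matrix.zero_apply]
    convert this
  rw [hs0, Matrix.zero_mul, zero_add] at h22
  have hsp : h ∈ Matrix.symplecticGroup (Fin m) F := SymplecticGroup.mem_iff.mpr h22
  -- `r = 0`
  have hr0 : r = 0 := by
    rw [hs0, Matrix.transpose_zero, Matrix.mul_zero, zero_add] at h12
    have hunit : IsUnit (Matrix.J (Fin m) F * h.transpose) := by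
      rw [Matrix.isUnit_iff_isUnit_det, Matrix.det_mul, Matrix.det_transpose]
      exact (Matrix.isUnit_det_J (Fin m) F).mul (SymplecticGroup.symplectic_det hsp)
    obtain ⟨U, hU⟩ := hunit
    have : r * (U : Matrix (Fin m ⊕ Fin m) (Fin m ⊕ Fin m) F) = 0 := by rw [hU, ← Matrix.mul_assoc]; exact h12
    calc r = r * ((U : Matrix (Fin m ⊕ Fin m) (Fin m ⊕ Fin m) F) * ((U⁻¹ : (Matrix (Fin m ⊕ Fin m) (Fin m ⊕ Fin m) F)ˣ) : Matrix (Fin m ⊕ Fin m) (Fin m ⊕ Fin m) F)) := by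
          rw [← Units.val_mul, mul_inv_cancel, Units.val_one, Matrix.mul_one]
      _ = 0 := by rw [← Matrix.mul_assoc, this, Matrix.zero_mul]
  -- `a = 1`
  have ha1 : a = 1 := by
    rw [hr0, Matrix.zero_mul, Matrix.zero_mul, add_zero] at h11
    ext u v
    have h1 := congrFun (congrFun h11 ()) ()
    rw [Matrix.mul_apply, Fintype.sum_unique, Matrix.transpose_apply, Matrix.one_apply_eq] at h1
    have h2 := eq_one_of_sq_eq_one h1
    rw [Matrix.one_apply_eq]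
    convert h2
  exact ⟨h, hsp, by rw [hgb, hs0, hr0, ha1]⟩

/-- the symplectic group is `isoSub A₀` -/
theorem nonempty_isoSub_A0_equiv :
    Nonempty (↥(isoSub (A0gl m F)) ≃* ↥(Matrix.symplecticGroup (Fin m) F)) := by
  let φ₀ : ↥(Matrix.symplecticGroup (Fin m) F) →* GL (Unit ⊕ (Fin m ⊕ Fin m)) F :=
    ((blockHom m F).comp (Matrix.symplecticGroup (Fin m) F).subtype).toHomUnits
  have hφ₀ : ∀ h : ↥(Matrix.symplecticGroup (Fin m) F),
      ((φ₀ h : GL (Unit ⊕ (Fin m ⊕ Fin m)) F) : Matrix (OI m) (OI m) F)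
        = Matrix.fromBlocks 1 0 0 (h : Matrix (Fin m ⊕ Fin m) (Fin m ⊕ Fin m) F) := fun h => rfl
  have hmem : ∀ h, φ₀ h ∈ isoSub (A0gl m F) := by
    intro h
    rw [mem_isoSub_iff, hφ₀, A0gl_coe, Matrix.fromBlocks_transpose, Matrix.fromBlocks_multiply,
      Matrix.fromBlocks_multiply]
    simp only [Matrix.mul_one, Matrix.mul_zero, add_zero, zero_add, Matrix.zero_mul,
      Matrix.transpose_one, Matrix.transpose_zero]
    rw [SymplecticGroup.mem_iff.mp h.2]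
  let φ : ↥(Matrix.symplecticGroup (Fin m) F) →* ↥(isoSub (A0gl m F)) :=
    φ₀.codRestrict _ hmem
  have hinj : Function.Injective φ := by
    intro h h' hh
    have h1 : ((φ₀ h : GL (Unit ⊕ (Fin m ⊕ Fin m)) F) : Matrix (OI m) (OI m) F)
        = ((φ₀ h' : GL (Unit ⊕ (Fin m ⊕ Fin m)) F) : Matrix (OI m) (OI m) F) := by
      have := congrArg (fun x : ↥(isoSub (A0gl m F)) =>
        ((x : GL (Unit ⊕ (Fin m ⊕ Fin m)) F) : Matrix (OI m) (OI m) F)) hh
      exact this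
    rw [hφ₀, hφ₀, Matrix.fromBlocks_inj] at h1
    exact Subtype.ext h1.2.2.2
  have hsurj : Function.Surjective φ := by
    rintro ⟨g, hg⟩
    obtain ⟨h, hsp, hgh⟩ := isoSub_A0_structure g hg
    refine ⟨⟨h, hsp⟩, Subtype.ext (Units.ext ?_)⟩
    show ((φ₀ ⟨h, hsp⟩ : GL (Unit ⊕ (Fin m ⊕ Fin m)) F) : Matrix (OI m) (OI m) F) = (g : Matrix (OI m) (OI m) F)
    rw [hφ₀, hgh]
  exact ⟨(MulEquiv.ofBijective φ ⟨hinj, hsurj⟩).symm⟩

end

end Cfsg.Agent.Helper8.GrAut
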