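import Mathlib
import Cfsg.Agent.Helper8.GrAutJ
import Cfsg.Agent.S0304

set_option autoImplicit false

/-! Involutory graph automorphisms of `PSL_n(F)`, `n` odd: a single class, with centraliser the
projective conformal orthogonal group (helper8). -/

namespace Cfsg.Agent.Helper8.GrAut

open Matrix Cfsg Cfsg.Agent.Helper8.AutSLn Cfsg.Agent.Helper8.StdForms

section OddChar

variable {F : Type*} [Field F] {n : ℕ}

theorem not_skew_of_odd (h2 : (2 : F) ≠ 0) (hn : Odd n) (A : GL (Fin n) F)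
    (hA : (A : Matrix (Fin n) (Fin n) F).transpose = -(A : Matrix (Fin n) (Fin n) F)) : False := by
  have hdA : (A : Matrix (Fin n) (Fin n) F).det ≠ 0 :=
    ((Matrix.isUnit_iff_isUnit_det _).mp (Units.isUnit A)).ne_zero
  have h1 := congrArg Matrix.det hA
  rw [Matrix.det_transpose, Matrix.det_neg, Fintype.card_fin, hn.neg_one_pow] at h1
  have h3 : 2 * (A : Matrix (Fin n) (Fin n) F).det = 0 := by linear_combination h1
  rcases mul_eq_zero.mp h3 with h | h
  · exact h2 h
  · exact hdA h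

theorem det_scalar_mul (c : Fˣ) (A : GL (Fin n) F) :
    ((Matrix.GeneralLinearGroup.scalar (Fin n) c * A : GL (Fin n) F) :
      Matrix (Fin n) (Fin n) F).det = (c : F) ^ n * (A : Matrix (Fin n) (Fin n) F).det := by
  rw [coe_scalar_mul, Matrix.det_smul, Fintype.card_fin]

theorem scalar_mul_transpose (c : Fˣ) (A : GL (Fin n) F)
    (hA : (A : Matrix (Fin n) (Fin n) F).transpose = (A : Matrix (Fin n) (Fin n) F)) :
    ((Matrix.GeneralLinearGroup.scalar (Fin n) c * A : GL (Fin n) F) :
      Matrix (Fin n) (Fin n) F).transpose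
      = ((Matrix.GeneralLinearGroup.scalar (Fin n) c * A : GL (Fin n) F) :
      Matrix (Fin n) (Fin n) F) := by
  rw [coe_scalar_mul, Matrix.transpose_smul, hA]

theorem graphAut_scalar_mul (hn : 2 ≤ n) (c : Fˣ) (A : GL (Fin n) F) :
    graphAut (Matrix.GeneralLinearGroup.scalar (Fin n) c * A) = graphAut A := by
  have : Nontrivial (Fin n) := Fin.nontrivial_iff_two_le.mpr hn
  rw [eq_comm, graphAut_eq_iff]
  exact ⟨c, coe_scalar_mul c A⟩

/-- for `n` odd all symmetric matrices give conjugate graph automorphisms -/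
theorem conj_of_symm_odd [Fintype F] (h2 : (2 : F) ≠ 0) (hn : 2 ≤ n) {m : ℕ} (hnm : n = 2 * m + 1)
    (A B : GL (Fin n) F)
    (hA : (A : Matrix (Fin n) (Fin n) F).transpose = (A : Matrix (Fin n) (Fin n) F))
    (hB : (B : Matrix (Fin n) (Fin n) F).transpose = (B : Matrix (Fin n) (Fin n) F)) :
    Cfsg.IsConjUnder (Cfsg.inndiagPSL n F) (graphAut A) (graphAut B) := by
  have hdA : (A : Matrix (Fin n) (Fin n) F).det ≠ 0 :=
    ((Matrix.isUnit_iff_isUnit_det _).mp (Units.isUnit A)).ne_zero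
  have hdB : (B : Matrix (Fin n) (Fin n) F).det ≠ 0 :=
    ((Matrix.isUnit_iff_isUnit_det _).mp (Units.isUnit B)).ne_zero
  set c : Fˣ := Units.mk0 ((A : Matrix (Fin n) (Fin n) F).det * (B : Matrix (Fin n) (Fin n) F).det)
    (mul_ne_zero hdA hdB) with hc
  have hcv : (c : F) = (A : Matrix (Fin n) (Fin n) F).det * (B : Matrix (Fin n) (Fin n) F).det :=
    rfl
  rw [← graphAut_scalar_mul hn c A]
  apply conj_of_congr hn
  apply exists_congr_of_isSquare h2 _ B (scalar_mul_transpose c A hA) hB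
  rw [det_scalar_mul]
  refine ⟨(c : F) ^ (m + 1), ?_⟩
  have hcn : (c : F) ^ n = (c : F) ^ m * (c : F) ^ m * (c : F) := by
    rw [hnm, pow_succ, two_mul, pow_add]
  rw [hcn, mul_assoc, ← hcv, pow_succ]
  ring

/-- for `n` odd the centraliser of an involutory graph automorphism is the projective conformal
orthogonal group, odd characteristic -/
theorem nonempty_centralizer_equiv_PGO_odd [Fintype F] (h2 : (2 : F) ≠ 0) (hn : 2 ≤ n) {m : ℕ}
    (hnm : n = 2 * m + 1) (A : GL (Fin n) F)
    (hA : (A : Matrix (Fin n) (Fin n) F).transpose = (A : Matrix (Fin n) (Fin n) F)) :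
    Nonempty (↥(Cfsg.inndiagPSL n F ⊓ Subgroup.centralizer {graphAut A})
      ≃* Cfsg.PGO F (Cfsg.quadFormOdd m F)) := by
  classical
  let e : Fin n ≃ Unit ⊕ (Fin m ⊕ Fin m) :=
    (finCongr (by omega : n = 1 + (m + m))).trans
      (finSumFinEquiv.symm.trans (Equiv.sumCongr (Equiv.equivPUnit _) finSumFinEquiv.symm))
  set d : F := (Matrix.of (fun i j : Fin n =>
      QuadraticMap.polar (⇑(oddForm F m)) (reBasis F e i) (reBasis F e j))).det with hd
  obtain ⟨c, hc⟩ : ∃ c : Fˣ, IsSquare ((2 : F) ^ n *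
      ((Matrix.GeneralLinearGroup.scalar (Fin n) c * A : GL (Fin n) F) :
        Matrix (Fin n) (Fin n) F).det * d) := by
    by_cases hsq : IsSquare ((2 : F) ^ n * (A : Matrix (Fin n) (Fin n) F).det * d)
    · exact ⟨1, by rw [map_one, one_mul]; exact hsq⟩
    · obtain ⟨ε, hε⟩ := FiniteField.exists_nonsquare (F := F) (by
        intro h
        apply h2
        have : ((ringChar F : ℕ) : F) = 0 := ringChar.Nat.cast_ringChar
        rw [h] at this
        exact_mod_cast this)
      have hε0 : ε ≠ 0 := fun h => hε (h ▸ IsSquare.zero)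
      refine ⟨Units.mk0 ε hε0, ?_⟩
      rw [det_scalar_mul]
      obtain ⟨s, hs⟩ := isSquare_mul_of_not_isSquare hε hsq
      refine ⟨ε ^ m * s, ?_⟩
      have hcn : ((Units.mk0 ε hε0 : Fˣ) : F) ^ n = ε ^ m * ε ^ m * ε := by
        rw [hnm, pow_succ, two_mul, pow_add]
        rfl
      rw [hcn]
      linear_combination (ε ^ m * ε ^ m) * hs
  rw [← graphAut_scalar_mul hn c A]
  have hA' := scalar_mul_transpose c A hA
  obtain ⟨L, hL⟩ := exists_isometry_matQ' h2 e (oddForm F m) (oddForm_nondeg F m h2) _ hA' hc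
  exact nonempty_centralizer_equiv_PGO' h2 hn (Cfsg.quadFormOdd m F) _ hA' L
    (fun v => by rw [← oddForm_apply, hL])

end OddChar

section CharTwo

variable {F : Type*} [Field F] [Fintype F] [CharP F 2] {n : ℕ}

omit [Fintype F] in
theorem symm_of_or (A : GL (Fin n) F)
    (h : (A : Matrix (Fin n) (Fin n) F).transpose = (A : Matrix (Fin n) (Fin n) F) ∨
      (A : Matrix (Fin n) (Fin n) F).transpose = -(A : Matrix (Fin n) (Fin n) F)) :
    (A : Matrix (Fin n) (Fin n) F).transpose = (A : Matrix (Fin n) (Fin n) F) := by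
  rcases h with h | h
  · exact h
  · rw [h]
    ext i j
    rw [Matrix.neg_apply]
    exact CharTwo.neg_eq _

omit [Fintype F] [CharP F 2] in
/-- an invertible matrix of odd size is not alternating -/
theorem nonalt_of_odd (hn : Odd n) (A : GL (Fin n) F) :
    ∃ v : Fin n → F, v ⬝ᵥ (A : Matrix (Fin n) (Fin n) F) *ᵥ v ≠ 0 := by
  by_contra hcon
  push Not at hcon
  have hdA : (A : Matrix (Fin n) (Fin n) F).det ≠ 0 :=
    ((Matrix.isUnit_iff_isUnit_det _).mp (Units.isUnit A)).ne_zero
  have halt : Cfsg.Agent.Helper8.SpS.Alt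
      (Cfsg.Agent.Helper8.SpS.bform (A : Matrix (Fin n) (Fin n) F)) := by
    intro v
    rw [Cfsg.Agent.Helper8.SpS.bform, Matrix.toLinearMap₂'_apply']
    exact hcon v
  obtain ⟨k, b, -⟩ := Cfsg.Agent.Helper8.SpS.exists_symp_basis _ halt
    (Cfsg.Agent.Helper8.SpS.nondeg_bform _ hdA)
  have h1 := Module.finrank_eq_card_basis b
  rw [Module.finrank_fin_fun, Fintype.card_sum, Fintype.card_fin] at h1
  obtain ⟨j, hj⟩ := hn
  omega

/-- for `n` odd the centraliser of an involutory graph automorphism is the projective conformal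
orthogonal group, characteristic two -/
theorem nonempty_centralizer_equiv_PGO_two (hn : 2 ≤ n) {m : ℕ}
    (hnm : n = 2 * m + 1) (A : GL (Fin n) F)
    (hA : (A : Matrix (Fin n) (Fin n) F).transpose = (A : Matrix (Fin n) (Fin n) F)) :
    Nonempty (↥(Cfsg.inndiagPSL n F ⊓ Subgroup.centralizer {graphAut A})
      ≃* Cfsg.PGO F (Cfsg.quadFormOdd m F)) := by
  classical
  let e : Fin n ≃ OI m :=
    (finCongr (by omega : n = 1 + (m + m))).trans
      (finSumFinEquiv.symm.trans (Equiv.sumCongr (Equiv.equivPUnit _) finSumFinEquiv.symm))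
  have hodd : Odd n := ⟨m, hnm⟩
  have hm1 : 1 ≤ m := by omega
  have : Nontrivial (OI m) :=
    ⟨⟨Sum.inl (), Sum.inr (Sum.inl ⟨0, by omega⟩), by simp⟩⟩
  -- the representative
  have hR : ((reGL e (A0gl m F) : GL (Fin n) F) : Matrix (Fin n) (Fin n) F).transpose
      = ((reGL e (A0gl m F) : GL (Fin n) F) : Matrix (Fin n) (Fin n) F) := by
    rw [reGL_coe, Matrix.transpose_submatrix, A0gl_transpose]
  have hconj := conj_of_nonalt hn A (reGL e (A0gl m F)) hA (nonalt_of_odd hodd A) hR
    (nonalt_of_odd hodd _)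
  obtain ⟨e1⟩ := nonempty_centralizer_equiv_of_isConjUnder _ hconj
  obtain ⟨e2⟩ := nonempty_centralizer_equiv_isoSub hn e (A0gl m F)
  obtain ⟨e3⟩ := nonempty_isoSub_A0_equiv (F := F) (m := m)
  obtain ⟨e4⟩ := Cfsg.Agent.S0304.result (F := F) m
  obtain ⟨e5⟩ := nonempty_isometryGroup_equiv (F := F) (Cfsg.quadFormOdd m F)
    (fun a v => by
      unfold Cfsg.quadFormOdd
      simp only [Pi.smul_apply, smul_eq_mul]
      rw [mul_add, Finset.mul_sum]
      congr 1
      · ring
      · exact Finset.sum_congr rfl (fun i _ => by ring))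
    ⟨Pi.single (Sum.inl ()) 1, by
      unfold Cfsg.quadFormOdd
      simp⟩
  exact ⟨(((e1.trans e2).trans e3).trans e4.symm).trans e5⟩

end CharTwo

end Cfsg.Agent.Helper8.GrAut
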