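import Mathlib
import Cfsg.Agent.Helper8.GrAutJ
import Cfsg.Agent.Helper7.SympTransitive

set_option autoImplicit false

/-! Involutory graph automorphisms of `PSL_n(F)`, `n` even, characteristic two: the alternating
class (centraliser `Sp_n`) and the non-alternating class (centraliser of a transvection)
(helper8). -/

namespace Cfsg.Agent.Helper8.GrAut

open Matrix Cfsg Cfsg.Agent.Helper8.AutSLn Cfsg.Agent.Helper7.Symp

section Alt

variable {F : Type*} [Field F] {n : ℕ}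

/-- invertible alternating matrices are congruent -/
theorem exists_congr_of_alt (A B : GL (Fin n) F)
    (hA : ∀ v : Fin n → F, v ⬝ᵥ (A : Matrix (Fin n) (Fin n) F) *ᵥ v = 0)
    (hB : ∀ v : Fin n → F, v ⬝ᵥ (B : Matrix (Fin n) (Fin n) F) *ᵥ v = 0) :
    ∃ g : GL (Fin n) F, (g : Matrix (Fin n) (Fin n) F) * (A : Matrix (Fin n) (Fin n) F)
      * (g : Matrix (Fin n) (Fin n) F).transpose = (B : Matrix (Fin n) (Fin n) F) := by
  have hdA : (A : Matrix (Fin n) (Fin n) F).det ≠ 0 :=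
    ((Matrix.isUnit_iff_isUnit_det _).mp (Units.isUnit A)).ne_zero
  have hdB : (B : Matrix (Fin n) (Fin n) F).det ≠ 0 :=
    ((Matrix.isUnit_iff_isUnit_det _).mp (Units.isUnit B)).ne_zero
  have halt : ∀ (M : Matrix (Fin n) (Fin n) F), (∀ v : Fin n → F, v ⬝ᵥ M *ᵥ v = 0) →
      Cfsg.Agent.Helper8.SpS.Alt (Cfsg.Agent.Helper8.SpS.bform M) := by
    intro M hM v
    rw [Cfsg.Agent.Helper8.SpS.bform, Matrix.toLinearMap₂'_apply']
    exact hM v
  obtain ⟨z, hz⟩ := Cfsg.Agent.Helper8.SpS.exists_symp_isometry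
    (Cfsg.Agent.Helper8.SpS.bform (A : Matrix (Fin n) (Fin n) F))
    (Cfsg.Agent.Helper8.SpS.bform (B : Matrix (Fin n) (Fin n) F)) (halt _ hA)
    (Cfsg.Agent.Helper8.SpS.nondeg_bform _ hdA) (halt _ hB)
    (Cfsg.Agent.Helper8.SpS.nondeg_bform _ hdB)
  set Z : Matrix (Fin n) (Fin n) F := LinearMap.toMatrix' z with hZ
  have hZv : ∀ v, Z *ᵥ v = z v := by
    intro v
    rw [hZ, ← Matrix.toLin'_apply, Matrix.toLin'_toMatrix']
  have hmat : Z.transpose * (A : Matrix (Fin n) (Fin n) F) * Z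
      = (B : Matrix (Fin n) (Fin n) F) := by
    apply matrix_eq_of_bilin
    intro u v
    have := hz u v
    simp only [Cfsg.Agent.Helper8.SpS.bform, Matrix.toLinearMap₂'_apply'] at this
    rw [← dotProduct_mulVec_mulVec, hZv, hZv, this]
  have hdZ : Z.det ≠ 0 := by
    intro h0
    apply hdB
    rw [← hmat, Matrix.det_mul, Matrix.det_mul, h0, mul_zero]
  refine ⟨Matrix.GeneralLinearGroup.mkOfDetNeZero Z.transpose (by rwa [Matrix.det_transpose]), ?_⟩
  show Z.transpose * _ * Z.transpose.transpose = _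
  rw [Matrix.transpose_transpose]
  exact hmat

/-- alternating and non-alternating matrices give non-conjugate graph automorphisms -/
theorem not_conj_alt_nonalt (h2 : 2 ≤ n) (A B : GL (Fin n) F)
    (hA : ∀ v : Fin n → F, v ⬝ᵥ (A : Matrix (Fin n) (Fin n) F) *ᵥ v = 0)
    (hB : ∃ v : Fin n → F, v ⬝ᵥ (B : Matrix (Fin n) (Fin n) F) *ᵥ v ≠ 0) :
    ¬ Cfsg.IsConjUnder (Cfsg.inndiagPSL n F) (graphAut A) (graphAut B) := by
  rw [isConjUnder_inndiag_iff h2]
  rintro ⟨g, c, hc⟩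
  obtain ⟨v, hv⟩ := hB
  apply hv
  rw [hc, Matrix.smul_mulVec, dotProduct_smul, Matrix.mul_assoc, ← Matrix.mulVec_mulVec,
    ← Matrix.mulVec_mulVec, Matrix.dotProduct_mulVec, ← Matrix.mulVec_transpose,
    hA, smul_zero]

end Alt

section SpJ

variable {F : Type*} [Field F] {m : ℕ}

/-- `{g | g J gᵀ = J}` is the symplectic group -/
theorem nonempty_isoSub_J_equiv :
    Nonempty (↥(isoSub (Jgl m F)) ≃* ↥(Matrix.symplecticGroup (Fin m) F)) := by
  let φ₀ : ↥(Matrix.symplecticGroup (Fin m) F) →* GL (Fin m ⊕ Fin m) F :=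
    (Matrix.symplecticGroup (Fin m) F).subtype.toHomUnits
  have hφ₀ : ∀ h : ↥(Matrix.symplecticGroup (Fin m) F),
      ((φ₀ h : GL (Fin m ⊕ Fin m) F) : Matrix (Fin m ⊕ Fin m) (Fin m ⊕ Fin m) F)
        = (h : Matrix (Fin m ⊕ Fin m) (Fin m ⊕ Fin m) F) := fun h => rfl
  have hmem : ∀ h, φ₀ h ∈ isoSub (Jgl m F) := by
    intro h
    rw [mem_isoSub_iff, hφ₀, Jgl_coe]
    exact SymplecticGroup.mem_iff.mp h.2
  let φ : ↥(Matrix.symplecticGroup (Fin m) F) →* ↥(isoSub (Jgl m F)) :=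
    φ₀.codRestrict _ hmem
  have hinj : Function.Injective φ := by
    intro h h' hh
    have h1 : ((φ₀ h : GL (Fin m ⊕ Fin m) F) : Matrix (Fin m ⊕ Fin m) (Fin m ⊕ Fin m) F)
        = ((φ₀ h' : GL (Fin m ⊕ Fin m) F) : Matrix (Fin m ⊕ Fin m) (Fin m ⊕ Fin m) F) := by
      have := congrArg (fun x : ↥(isoSub (Jgl m F)) =>
        ((x : GL (Fin m ⊕ Fin m) F) : Matrix (Fin m ⊕ Fin m) (Fin m ⊕ Fin m) F)) hh
      exact this
    rw [hφ₀, hφ₀] at h1
    exact Subtype.ext h1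
  have hsurj : Function.Surjective φ := by
    rintro ⟨g, hg⟩
    rw [mem_isoSub_iff, Jgl_coe] at hg
    refine ⟨⟨(g : Matrix (Fin m ⊕ Fin m) (Fin m ⊕ Fin m) F), SymplecticGroup.mem_iff.mpr hg⟩,
      Subtype.ext (Units.ext ?_)⟩
    rfl
  exact ⟨(MulEquiv.ofBijective φ ⟨hinj, hsurj⟩).symm⟩

theorem J_alt (v : Fin m ⊕ Fin m → F) : v ⬝ᵥ Matrix.J (Fin m) F *ᵥ v = 0 := by
  have := Cfsg.Agent.Helper8.SpS.alt_bform_J (F := F) (m := m) v
  rwa [Cfsg.Agent.Helper8.SpS.bform, Matrix.toLinearMap₂'_apply'] at this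

end SpJ

section Transvection

variable {F : Type*} [Field F] {m : ℕ}

theorem rank_vecMulVec_eq_one {ι : Type} [Fintype ι] [DecidableEq ι] (w v : ι → F) (hw : w ≠ 0)
    (hv : v ≠ 0) : (Matrix.vecMulVec w v).rank = 1 := by
  apply le_antisymm (Matrix.rank_vecMulVec_le w v)
  obtain ⟨i, hi⟩ : ∃ i, v i ≠ 0 := by
    by_contra h
    push Not at h
    exact hv (funext h)
  have hmem : (v i) • w ∈ LinearMap.range (Matrix.vecMulVec w v).mulVecLin := by
    refine ⟨Pi.single i 1, ?_⟩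
    rw [Matrix.mulVecLin_apply, Matrix.vecMulVec_mulVec, dotProduct_single_one,
      op_smul_eq_smul]
  have hne : (v i) • w ≠ 0 := smul_ne_zero hi hw
  unfold Matrix.rank
  rw [Nat.succ_le_iff, Module.finrank_pos_iff_exists_ne_zero]
  exact ⟨⟨_, hmem⟩, fun h => hne (congrArg Subtype.val h)⟩

/-- the matrix `J + z zᵀ` -/
def A3gl (z : Fin m ⊕ Fin m → F) : GL (Fin m ⊕ Fin m) F :=
  ⟨Matrix.J (Fin m) F + Matrix.vecMulVec z z,
    -Matrix.J (Fin m) F - Matrix.J (Fin m) F * Matrix.vecMulVec z z * Matrix.J (Fin m) F,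
    by
      have h0 : Matrix.vecMulVec z z * Matrix.J (Fin m) F * Matrix.vecMulVec z z = 0 := by
        rw [Matrix.vecMulVec_mul, Matrix.vecMulVec_mul_vecMulVec, ← Matrix.dotProduct_mulVec,
          J_alt, zero_smul]
        ext i j
        simp [Matrix.vecMulVec_apply]
      have hJ : Matrix.J (Fin m) F * Matrix.J (Fin m) F = -1 := Matrix.J_squared (Fin m) F
      calc (Matrix.J (Fin m) F + Matrix.vecMulVec z z) *
          (-Matrix.J (Fin m) F - Matrix.J (Fin m) F * Matrix.vecMulVec z z * Matrix.J (Fin m) F)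
          = -(Matrix.J (Fin m) F * Matrix.J (Fin m) F)
            - (Matrix.J (Fin m) F * Matrix.J (Fin m) F) * Matrix.vecMulVec z z * Matrix.J (Fin m) F
            - Matrix.vecMulVec z z * Matrix.J (Fin m) F
            - (Matrix.vecMulVec z z * Matrix.J (Fin m) F * Matrix.vecMulVec z z)
              * Matrix.J (Fin m) F := by
            simp only [Matrix.add_mul, Matrix.mul_sub, Matrix.mul_neg, Matrix.mul_assoc]
            abel
        _ = 1 := by
            rw [hJ, h0]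
            simp,
    by
      have h0 : Matrix.vecMulVec z z * Matrix.J (Fin m) F * Matrix.vecMulVec z z = 0 := by
        rw [Matrix.vecMulVec_mul, Matrix.vecMulVec_mul_vecMulVec, ← Matrix.dotProduct_mulVec,
          J_alt, zero_smul]
        ext i j
        simp [Matrix.vecMulVec_apply]
      have hJ : Matrix.J (Fin m) F * Matrix.J (Fin m) F = -1 := Matrix.J_squared (Fin m) F
      calc (-Matrix.J (Fin m) F - Matrix.J (Fin m) F * Matrix.vecMulVec z z * Matrix.J (Fin m) F)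
          * (Matrix.J (Fin m) F + Matrix.vecMulVec z z)
          = -(Matrix.J (Fin m) F * Matrix.J (Fin m) F)
            - Matrix.J (Fin m) F * Matrix.vecMulVec z z
            - Matrix.J (Fin m) F * Matrix.vecMulVec z z * (Matrix.J (Fin m) F * Matrix.J (Fin m) F)
            - Matrix.J (Fin m) F * (Matrix.vecMulVec z z * Matrix.J (Fin m) F
              * Matrix.vecMulVec z z) := by
            simp only [Matrix.sub_mul, Matrix.mul_add, Matrix.neg_mul, Matrix.mul_assoc]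
            abel
        _ = 1 := by
            rw [hJ, h0]
            simp⟩

theorem A3gl_coe (z : Fin m ⊕ Fin m → F) :
    ((A3gl z : GL (Fin m ⊕ Fin m) F) : Matrix (Fin m ⊕ Fin m) (Fin m ⊕ Fin m) F)
      = Matrix.J (Fin m) F + Matrix.vecMulVec z z := rfl

variable [CharP F 2]

theorem A3gl_transpose (z : Fin m ⊕ Fin m → F) :
    ((A3gl z : GL (Fin m ⊕ Fin m) F) : Matrix (Fin m ⊕ Fin m) (Fin m ⊕ Fin m) F).transpose
      = ((A3gl z : GL (Fin m ⊕ Fin m) F) : Matrix (Fin m ⊕ Fin m) (Fin m ⊕ Fin m) F) := by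
  rw [A3gl_coe, Matrix.transpose_add, Matrix.J_transpose, neg_J, Matrix.transpose_vecMulVec]

omit [CharP F 2] in
theorem A3gl_nonalt (z : Fin m ⊕ Fin m → F) (hz : z ≠ 0) :
    ∃ v : Fin m ⊕ Fin m → F,
      v ⬝ᵥ ((A3gl z : GL (Fin m ⊕ Fin m) F) : Matrix (Fin m ⊕ Fin m) (Fin m ⊕ Fin m) F) *ᵥ v ≠ 0 := by
  obtain ⟨i, hi⟩ : ∃ i, z i ≠ 0 := by
    by_contra h
    push Not at h
    exact hz (funext h)
  refine ⟨Pi.single i 1, ?_⟩
  rw [A3gl_coe, Matrix.add_mulVec, dotProduct_add, J_alt, zero_add, Matrix.vecMulVec_mulVec,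
    dotProduct_single_one, op_smul_eq_smul, dotProduct_smul, single_one_dotProduct, smul_eq_mul]
  exact mul_ne_zero hi hi

omit [CharP F 2] in
theorem conj_vecMulVec (g : Matrix (Fin m ⊕ Fin m) (Fin m ⊕ Fin m) F) (z : Fin m ⊕ Fin m → F) :
    g * Matrix.vecMulVec z z * g.transpose = Matrix.vecMulVec (g *ᵥ z) (g *ᵥ z) := by
  rw [Matrix.mul_vecMulVec, Matrix.vecMulVec_mul, Matrix.vecMul_transpose]

theorem eq_of_sq_eq {a b : F} (h : a * a = b * b) : a = b := by
  have h1 : (a - b) * (a - b) = 0 := by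
    have h2 : (2 : F) = 0 := CharTwo.two_eq_zero
    linear_combination h - (a * b - b * b) * h2
  exact sub_eq_zero.mp (mul_self_eq_zero.mp h1)

/-- the elements of `isoSub (J + z zᵀ)` -/
theorem mem_isoSub_A3_iff (z : Fin m ⊕ Fin m → F) (g : GL (Fin m ⊕ Fin m) F) :
    g ∈ isoSub (A3gl z) ↔
      (g : Matrix (Fin m ⊕ Fin m) (Fin m ⊕ Fin m) F) ∈ Matrix.symplecticGroup (Fin m) F ∧
        (g : Matrix (Fin m ⊕ Fin m) (Fin m ⊕ Fin m) F) *ᵥ z = z := by
  rw [mem_isoSub_iff, A3gl_coe, Matrix.mul_add, Matrix.add_mul, conj_vecMulVec,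
    SymplecticGroup.mem_iff]
  constructor
  · intro h
    have hz : (g : Matrix (Fin m ⊕ Fin m) (Fin m ⊕ Fin m) F) *ᵥ z = z := by
      funext k
      have h1 := congrFun (congrFun h k) k
      rw [Matrix.add_apply, Matrix.add_apply, diag_J_conj, zero_add, Matrix.vecMulVec_apply,
        Matrix.vecMulVec_apply] at h1
      have hJkk : Matrix.J (Fin m) F k k = 0 := by
        rcases k with k | k <;> simp [Matrix.J]
      rw [hJkk, zero_add] at h1
      exact eq_of_sq_eq h1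
    refine ⟨?_, hz⟩
    rw [hz] at h
    exact add_right_cancel h
  · rintro ⟨h1, h2⟩
    rw [h1, h2]

omit [CharP F 2] in
theorem T_one_coe (z : Fin m ⊕ Fin m → F) :
    ((T z 1 : Matrix.symplecticGroup (Fin m) F) : Matrix (Fin m ⊕ Fin m) (Fin m ⊕ Fin m) F) - 1
      = Matrix.vecMulVec z (Matrix.J (Fin m) F *ᵥ z) := by
  show Cfsg.sympTransvection m z 1 - 1 = _
  unfold Cfsg.sympTransvection
  rw [one_smul, add_sub_cancel_left]

omit [CharP F 2] in
theorem isTransvection_T (z : Fin m ⊕ Fin m → F) (hz : z ≠ 0) :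
    Cfsg.IsTransvection
      ((T z 1 : Matrix.symplecticGroup (Fin m) F) : Matrix (Fin m ⊕ Fin m) (Fin m ⊕ Fin m) F) := by
  have hJz : Matrix.J (Fin m) F *ᵥ z ≠ 0 := by
    intro h
    apply hz
    have := congrArg (fun w => Matrix.J (Fin m) F *ᵥ w) h
    simp only [Matrix.mulVec_mulVec, Matrix.J_squared, Matrix.mulVec_zero, Matrix.neg_mulVec,
      Matrix.one_mulVec] at this
    exact neg_eq_zero.mp this
  constructor
  · rw [T_one_coe]
    exact rank_vecMulVec_eq_one z _ hz hJz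
  · rw [T_one_coe, Matrix.vecMulVec_mul_vecMulVec, dotProduct_comm, J_alt, zero_smul]
    ext i j
    simp [Matrix.vecMulVec_apply]

/-- a symplectic matrix commutes with the transvection `T z 1` iff it fixes `z` -/
theorem mem_centralizer_T_iff (z : Fin m ⊕ Fin m → F) (hz : z ≠ 0)
    (g : Matrix.symplecticGroup (Fin m) F) :
    g ∈ Subgroup.centralizer ({T z 1} : Set ↥(Matrix.symplecticGroup (Fin m) F)) ↔
      (g : Matrix (Fin m ⊕ Fin m) (Fin m ⊕ Fin m) F) *ᵥ z = z := by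
  rw [Subgroup.mem_centralizer_singleton_iff]
  constructor
  · intro h
    obtain ⟨y, hy⟩ := exists_sympForm_ne_zero (F := F) hz
    -- normalise `x` with `f(x, z) = 1`
    set x : Fin m ⊕ Fin m → F := (-(Cfsg.sympForm m F z y))⁻¹ • y with hx
    have hxz : Cfsg.sympForm m F x z = 1 := by
      rw [hx, sympForm_smul_left, sympForm_swap y z]
      exact inv_mul_cancel₀ (neg_ne_zero.mpr hy)
    have key : ∀ w : Fin m ⊕ Fin m → F,
        (Cfsg.sympForm m F w z) • ((g : Matrix (Fin m ⊕ Fin m) (Fin m ⊕ Fin m) F) *ᵥ z)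
          = (Cfsg.sympForm m F ((g : Matrix (Fin m ⊕ Fin m) (Fin m ⊕ Fin m) F) *ᵥ w) z) • z := by
      intro w
      have h1 := congrArg (fun t : Matrix.symplecticGroup (Fin m) F =>
        (t : Matrix (Fin m ⊕ Fin m) (Fin m ⊕ Fin m) F) *ᵥ w) h
      simp only [coe_mul_mulVec, T_mulVec, one_mul, Matrix.mulVec_add, Matrix.mulVec_smul] at h1
      exact (add_left_cancel h1)
    set a : F := Cfsg.sympForm m F ((g : Matrix (Fin m ⊕ Fin m) (Fin m ⊕ Fin m) F) *ᵥ x) z
      with ha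
    have hgz : (g : Matrix (Fin m ⊕ Fin m) (Fin m ⊕ Fin m) F) *ᵥ z = a • z := by
      have := key x
      rwa [hxz, one_smul] at this
    have ha2 : a * a = 1 := by
      have h3 := sympForm_mulVec g x z
      rw [hgz, sympForm_smul_right, hxz] at h3
      exact h3
    rw [hgz, eq_one_of_sq_eq_one ha2, one_smul]
  · intro h
    apply Subtype.ext
    apply Cfsg.Agent.Helper8.ReflMatrix.matrix_ext
    intro w
    rw [coe_mul_mulVec, coe_mul_mulVec, T_mulVec, T_mulVec, Matrix.mulVec_add, Matrix.mulVec_smul,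
      h]
    congr 2
    conv_rhs => rw [← h]
    rw [sympForm_mulVec]

/-- `isoSub (J + z zᵀ)` is the centraliser of a transvection -/
theorem nonempty_isoSub_A3_equiv (z : Fin m ⊕ Fin m → F) (hz : z ≠ 0) :
    Nonempty (↥(isoSub (A3gl z)) ≃*
      ↥(Subgroup.centralizer ({T z 1} : Set ↥(Matrix.symplecticGroup (Fin m) F)))) := by
  let φ₀ : ↥(Subgroup.centralizer ({T z 1} : Set ↥(Matrix.symplecticGroup (Fin m) F))) →*
      GL (Fin m ⊕ Fin m) F :=
    ((Matrix.symplecticGroup (Fin m) F).subtype.comp (Subgroup.subtype _)).toHomUnits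
  have hφ₀ : ∀ h : ↥(Subgroup.centralizer ({T z 1} : Set ↥(Matrix.symplecticGroup (Fin m) F))),
      ((φ₀ h : GL (Fin m ⊕ Fin m) F) : Matrix (Fin m ⊕ Fin m) (Fin m ⊕ Fin m) F)
        = ((h : Matrix.symplecticGroup (Fin m) F) : Matrix (Fin m ⊕ Fin m) (Fin m ⊕ Fin m) F) :=
    fun h => rfl
  have hmem : ∀ h, φ₀ h ∈ isoSub (A3gl z) := by
    intro h
    rw [mem_isoSub_A3_iff, hφ₀]
    exact ⟨h.1.2, (mem_centralizer_T_iff z hz h.1).mp h.2⟩
  let φ := φ₀.codRestrict _ hmem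
  have hinj : Function.Injective φ := by
    intro h h' hh
    have h1 : ((φ₀ h : GL (Fin m ⊕ Fin m) F) : Matrix (Fin m ⊕ Fin m) (Fin m ⊕ Fin m) F)
        = ((φ₀ h' : GL (Fin m ⊕ Fin m) F) : Matrix (Fin m ⊕ Fin m) (Fin m ⊕ Fin m) F) := by
      have := congrArg (fun x : ↥(isoSub (A3gl z)) =>
        ((x : GL (Fin m ⊕ Fin m) F) : Matrix (Fin m ⊕ Fin m) (Fin m ⊕ Fin m) F)) hh
      exact this
    rw [hφ₀, hφ₀] at h1
    exact Subtype.ext (Subtype.ext h1)
  have hsurj : Function.Surjective φ := by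
    rintro ⟨g, hg⟩
    rw [mem_isoSub_A3_iff] at hg
    refine ⟨⟨⟨(g : Matrix (Fin m ⊕ Fin m) (Fin m ⊕ Fin m) F), hg.1⟩,
      (mem_centralizer_T_iff z hz _).mpr hg.2⟩, Subtype.ext (Units.ext ?_)⟩
    rfl
  exact ⟨(MulEquiv.ofBijective φ ⟨hinj, hsurj⟩).symm⟩

end Transvection

end Cfsg.Agent.Helper8.GrAut
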