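import Mathlib
import Cfsg.Agent.Helper8.GrAutE
import Cfsg.Agent.Helper8.AutSLnGFc
import Cfsg.Agent.Helper8.SplitClassA

set_option autoImplicit false

/-! The number of `Inn`-classes in the inner-diagonal class of a graph automorphism of `PSL_n(F)`
as an index in `Fˣ` (helper8). -/

namespace Cfsg.Agent.Helper8.GrAut

open Matrix Cfsg Cfsg.Agent.Helper8.AutSLn

section

variable {F : Type*} [Field F] {m : Type} [Fintype m] [DecidableEq m]

/-- the preimage in `GL` of `Inn · C(graph automorphism)` is given by a condition on the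
determinant -/
theorem comap_inn_sup_centralizer_graph [Nontrivial m] (A : GL m F) :
    (Cfsg.Inn (ProjectiveSpecialLinearGroup m F) ⊔
      ((pslConj : GL m F →* MulAut (ProjectiveSpecialLinearGroup m F)).range ⊓
        Subgroup.centralizer {graphAut A})).comap pslConj =
      ((powMonoidHom (Fintype.card m) : Fˣ →* Fˣ).range ⊔
        (simT A).map Matrix.GeneralLinearGroup.det).comap Matrix.GeneralLinearGroup.det := by
  ext g
  rw [Subgroup.mem_comap, Subgroup.mem_comap]
  constructor
  · intro h
    rw [← SetLike.mem_coe, Subgroup.normal_mul, Set.mem_mul] at h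
    obtain ⟨a, ha, b, hb, e⟩ := h
    obtain ⟨x, rfl⟩ := ha
    obtain ⟨s, rfl⟩ := QuotientGroup.mk_surjective x
    obtain ⟨⟨g₁, rfl⟩, hbC⟩ := hb
    have hg₁ : g₁ ∈ simT A := hbC
    rw [conj_mk_eq_pslConj, ← map_mul] at e
    have h1 : (Matrix.SpecialLinearGroup.toGL s * g₁)⁻¹ * g ∈
        (pslConj : GL m F →* MulAut (ProjectiveSpecialLinearGroup m F)).ker := by
      rw [MonoidHom.mem_ker, map_mul, map_inv, e, inv_mul_cancel]
    rw [ker_pslConj, Matrix.GeneralLinearGroup.center_eq_range_scalar] at h1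
    obtain ⟨z, hz⟩ := h1
    have h2 : g = Matrix.SpecialLinearGroup.toGL s * g₁ * Matrix.GeneralLinearGroup.scalar m z := by
      rw [hz, mul_inv_cancel_left]
    have h4 : Matrix.GeneralLinearGroup.det g =
        powMonoidHom (Fintype.card m) z * Matrix.GeneralLinearGroup.det g₁ := by
      rw [h2, map_mul Matrix.GeneralLinearGroup.det, map_mul Matrix.GeneralLinearGroup.det,
        Matrix.SpecialLinearGroup.coeToGL_det, one_mul,
        Matrix.GeneralLinearGroup.det_scalar, powMonoidHom_apply, mul_comm]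
    rw [h4]
    exact Subgroup.mul_mem_sup ⟨_, rfl⟩ (Subgroup.mem_map_of_mem _ hg₁)
  · intro h
    rw [Subgroup.mem_sup] at h
    obtain ⟨_, ⟨u, rfl⟩, κ, hκ, e⟩ := h
    obtain ⟨g₁, hg₁, rfl⟩ := Subgroup.mem_map.mp hκ
    rw [powMonoidHom_apply] at e
    obtain ⟨s, hs⟩ := exists_toGL_eq
      (g := Matrix.GeneralLinearGroup.scalar m u⁻¹ * g * g₁⁻¹)
      (by rw [map_mul, map_mul, map_inv Matrix.GeneralLinearGroup.det g₁,
        Matrix.GeneralLinearGroup.det_scalar, ← e, inv_pow, inv_mul_cancel_left, mul_inv_cancel])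
    have h1 : pslConj g = (pslConj (Matrix.SpecialLinearGroup.toGL s) * pslConj g₁ :
        MulAut (ProjectiveSpecialLinearGroup m F)) := by
      rw [hs, ← map_mul, inv_mul_cancel_right, pslConj_scalar_mul]
    rw [h1]
    exact Subgroup.mul_mem_sup (pslConj_toGL_mem_inn s) ⟨⟨_, rfl⟩, hg₁⟩

/-- **the index of `Inn · C(graph automorphism)` in the inner-diagonal group** -/
theorem relIndex_inn_sup_centralizer_graph [Nontrivial m] (A : GL m F) :
    (Cfsg.Inn (ProjectiveSpecialLinearGroup m F) ⊔
      ((pslConj : GL m F →* MulAut (ProjectiveSpecialLinearGroup m F)).range ⊓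
        Subgroup.centralizer {graphAut A})).relIndex
          (pslConj : GL m F →* MulAut (ProjectiveSpecialLinearGroup m F)).range =
      ((powMonoidHom (Fintype.card m) : Fˣ →* Fˣ).range ⊔
        (simT A).map Matrix.GeneralLinearGroup.det).index := by
  rw [← Subgroup.index_comap, comap_inn_sup_centralizer_graph,
    Subgroup.index_comap_of_surjective]
  intro c
  obtain ⟨i₀⟩ := (inferInstance : Nonempty m)
  exact ⟨diag1 i₀ c, det_diag1 i₀ c⟩

end

section Fin

variable {F : Type*} [Field F] {n : ℕ}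

/-- **the number of `Inn`-classes in the inner-diagonal class of a graph automorphism** -/
theorem splitClassCount_graphAut (hn : 2 ≤ n) (A : GL (Fin n) F) :
    Cfsg.splitClassCount (Cfsg.inndiagPSL n F)
      (Cfsg.Inn (ProjectiveSpecialLinearGroup (Fin n) F)) (graphAut A) =
      ((powMonoidHom n : Fˣ →* Fˣ).range ⊔
        (simT A).map Matrix.GeneralLinearGroup.det).index := by
  have : Nontrivial (Fin n) := Fin.nontrivial_iff_two_le.mpr hn
  rw [inndiagPSL_eq,
    Cfsg.Agent.Helper8.SplitClass.splitClassCount_eq_relIndex (diagSub n F)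
      (Cfsg.Inn (ProjectiveSpecialLinearGroup (Fin n) F)) inn_le_range_pslConj (graphAut A)]
  show (Cfsg.Inn (ProjectiveSpecialLinearGroup (Fin n) F) ⊔
    ((pslConj : GL (Fin n) F →* MulAut (ProjectiveSpecialLinearGroup (Fin n) F)).range ⊓
      Subgroup.centralizer {graphAut A})).relIndex
        (pslConj : GL (Fin n) F →* MulAut (ProjectiveSpecialLinearGroup (Fin n) F)).range = _
  rw [relIndex_inn_sup_centralizer_graph, Fintype.card_fin]

end Fin

end Cfsg.Agent.Helper8.GrAut
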