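import Mathlib
import Cfsg.Agent.Helper8.GrAutM
import Cfsg.Agent.Helper8.GrAutL

set_option autoImplicit false

/-! Determinants of the matrices `g` with `g A gᵀ = c A` (helper8). -/

namespace Cfsg.Agent.Helper8.GrAut

open Matrix Cfsg Cfsg.Agent.Helper8.AutSLn

section DetSq

variable {F : Type*} [Field F] {n : ℕ}

theorem det_mul_self_of_form (A g : GL (Fin n) F) (c : Fˣ)
    (h : (g : Matrix (Fin n) (Fin n) F) * (A : Matrix (Fin n) (Fin n) F)
      * (g : Matrix (Fin n) (Fin n) F).transpose = (c : F) • (A : Matrix (Fin n) (Fin n) F)) :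
    Matrix.GeneralLinearGroup.det g * Matrix.GeneralLinearGroup.det g = c ^ n := by
  have hdA : (A : Matrix (Fin n) (Fin n) F).det ≠ 0 :=
    ((Matrix.isUnit_iff_isUnit_det _).mp (Units.isUnit A)).ne_zero
  have h1 := congrArg Matrix.det h
  rw [Matrix.det_mul, Matrix.det_mul, Matrix.det_transpose, Matrix.det_smul, Fintype.card_fin]
    at h1
  apply Units.ext
  rw [Units.val_mul, Units.val_pow_eq_pow_val, Matrix.GeneralLinearGroup.val_det_apply]
  apply mul_right_cancel₀ hdA
  linear_combination h1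

/-- `n` odd: the determinant of a similitude is an `n`-th power -/
theorem map_det_simT_le_of_odd (hn2 : 2 ≤ n) (hn : Odd n) (A : GL (Fin n) F) :
    (simT A).map Matrix.GeneralLinearGroup.det ≤ (powMonoidHom n : Fˣ →* Fˣ).range := by
  have : Nontrivial (Fin n) := Fin.nontrivial_iff_two_le.mpr hn2
  rintro _ ⟨g, hg, rfl⟩
  obtain ⟨c, hc⟩ := (mem_simT_iff A g).mp hg
  have h1 := det_mul_self_of_form A g c hc
  obtain ⟨k, hk⟩ := hn
  set D := Matrix.GeneralLinearGroup.det g with hD
  -- `c = d²` with `d = D c⁻ᵏ`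
  set d : Fˣ := D * (c ^ k)⁻¹ with hd
  have hcd : c = d * d := by
    have : d * d = D * D * ((c ^ k)⁻¹ * (c ^ k)⁻¹) := by rw [hd]; exact mul_mul_mul_comm _ _ _ _
    rw [this, h1, hk, pow_succ, two_mul, pow_add]
    have h3 : c ^ k * c ^ k * c * ((c ^ k)⁻¹ * (c ^ k)⁻¹) = c := by
      rw [mul_comm (c ^ k * c ^ k) c, mul_assoc, ← mul_inv, mul_inv_cancel, mul_one]
    exact h3.symm
  have h2 : (D : F) * (D : F) = ((d : F) ^ n) * ((d : F) ^ n) := by
    have := congrArg Units.val h1
    rw [Units.val_mul, Units.val_pow_eq_pow_val] at this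
    rw [this, hcd, Units.val_mul, mul_pow]
  rcases mul_self_eq_mul_self_iff.mp h2 with h | h
  · exact ⟨d, Units.ext (by rw [powMonoidHom_apply, Units.val_pow_eq_pow_val, h])⟩
  · refine ⟨-d, Units.ext ?_⟩
    rw [powMonoidHom_apply, Units.val_pow_eq_pow_val, Units.val_neg, h,
      Odd.neg_pow ⟨k, hk⟩]

/-- characteristic two: the determinant of a similitude is an `n`-th power -/
theorem map_det_simT_le_of_two [Fintype F] [CharP F 2] (hn2 : 2 ≤ n) (A : GL (Fin n) F) :
    (simT A).map Matrix.GeneralLinearGroup.det ≤ (powMonoidHom n : Fˣ →* Fˣ).range := by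
  have : Nontrivial (Fin n) := Fin.nontrivial_iff_two_le.mpr hn2
  rintro _ ⟨g, hg, rfl⟩
  obtain ⟨c, hc⟩ := (mem_simT_iff A g).mp hg
  have h1 := det_mul_self_of_form A g c hc
  obtain ⟨d, hd⟩ := exists_sqrt_unit c
  refine ⟨d, Units.ext ?_⟩
  rw [powMonoidHom_apply, Units.val_pow_eq_pow_val]
  apply eq_of_sq_eq
  have := congrArg Units.val h1
  rw [Units.val_mul, Units.val_pow_eq_pow_val] at this
  rw [this, hd, Units.val_mul, mul_pow]

/-- the number of classes when the determinants of the similitudes are `n`-th powers -/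
theorem splitClassCount_of_le [Fintype F] (hn2 : 2 ≤ n) (A : GL (Fin n) F)
    (h : (simT A).map Matrix.GeneralLinearGroup.det ≤ (powMonoidHom n : Fˣ →* Fˣ).range) :
    Cfsg.splitClassCount (Cfsg.inndiagPSL n F)
      (Cfsg.Inn (ProjectiveSpecialLinearGroup (Fin n) F)) (graphAut A) =
      Nat.gcd n (Fintype.card F - 1) := by
  rw [splitClassCount_graphAut hn2, sup_eq_left.mpr h, IsCyclic.index_powMonoidHom_range,
    Nat.card_units, Nat.card_eq_fintype_card, Nat.gcd_comm]

end DetSq

section Conj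

variable {F : Type*} [Field F] {n : ℕ}

/-- congruent (up to scalars) matrices have the same determinants of similitudes -/
theorem map_det_simT_le_of_congr (hn2 : 2 ≤ n) (A B g : GL (Fin n) F) (c : Fˣ)
    (h : (B : Matrix (Fin n) (Fin n) F) = (c : F) • ((g : Matrix (Fin n) (Fin n) F)
      * (A : Matrix (Fin n) (Fin n) F) * (g : Matrix (Fin n) (Fin n) F).transpose)) :
    (simT A).map Matrix.GeneralLinearGroup.det ≤ (simT B).map Matrix.GeneralLinearGroup.det := by
  have : Nontrivial (Fin n) := Fin.nontrivial_iff_two_le.mpr hn2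
  rintro _ ⟨x, hx, rfl⟩
  refine ⟨g * x * g⁻¹, ?_, ?_⟩
  · have hB : graphAut B = pslConj g * graphAut A * (pslConj g)⁻¹ := by
      rw [pslConj_graphAut_conj, eq_comm, graphAut_eq_iff]
      exact ⟨c, by rw [h, Units.val_mul, Units.val_mul, glInvTr_inv_coe]⟩
    show pslConj (g * x * g⁻¹) ∈ Subgroup.centralizer {graphAut B}
    have hx' : pslConj x ∈ Subgroup.centralizer {graphAut A} := hx
    rw [Subgroup.mem_centralizer_singleton_iff] at hx' ⊢
    rw [hB, map_mul, map_mul, map_inv]
    calc pslConj g * pslConj x * (pslConj g)⁻¹ * (pslConj g * graphAut A * (pslConj g)⁻¹)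
        = pslConj g * (pslConj x * graphAut A) * (pslConj g)⁻¹ := by group
      _ = pslConj g * (graphAut A * pslConj x) * (pslConj g)⁻¹ := by rw [hx']
      _ = pslConj g * graphAut A * (pslConj g)⁻¹ * (pslConj g * pslConj x * (pslConj g)⁻¹) := by
          group
  · rw [map_mul, map_mul, map_inv, mul_comm, inv_mul_cancel_left]

theorem map_det_simT_eq_of_congr (hn2 : 2 ≤ n) (A B g : GL (Fin n) F) (c : Fˣ)
    (h : (B : Matrix (Fin n) (Fin n) F) = (c : F) • ((g : Matrix (Fin n) (Fin n) F)
      * (A : Matrix (Fin n) (Fin n) F) * (g : Matrix (Fin n) (Fin n) F).transpose)) :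
    (simT B).map Matrix.GeneralLinearGroup.det = (simT A).map Matrix.GeneralLinearGroup.det := by
  apply le_antisymm
  · apply map_det_simT_le_of_congr hn2 B A g⁻¹ c⁻¹
    rw [h, Matrix.mul_smul, Matrix.smul_mul, smul_smul, Units.val_inv_eq_inv_val,
      inv_mul_cancel₀ (Units.ne_zero c), one_smul]
    have h1 : ((g⁻¹ : GL (Fin n) F) : Matrix (Fin n) (Fin n) F) * (g : Matrix (Fin n) (Fin n) F)
        = 1 := by rw [← Units.val_mul, inv_mul_cancel, Units.val_one]
    have h2 : (g : Matrix (Fin n) (Fin n) F).transpose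
        * ((g⁻¹ : GL (Fin n) F) : Matrix (Fin n) (Fin n) F).transpose = 1 := by
      rw [← Matrix.transpose_mul, h1, Matrix.transpose_one]
    calc (A : Matrix (Fin n) (Fin n) F)
        = (((g⁻¹ : GL (Fin n) F) : Matrix (Fin n) (Fin n) F) * (g : Matrix (Fin n) (Fin n) F))
          * (A : Matrix (Fin n) (Fin n) F) * ((g : Matrix (Fin n) (Fin n) F).transpose
          * ((g⁻¹ : GL (Fin n) F) : Matrix (Fin n) (Fin n) F).transpose) := by
          rw [h1, h2, Matrix.one_mul, Matrix.mul_one]
      _ = _ := by simp only [Matrix.mul_assoc]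
  · exact map_det_simT_le_of_congr hn2 A B g c h

end Conj

end Cfsg.Agent.Helper8.GrAut
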