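import Mathlib
import Cfsg.Agent.Helper8.GrAutN
import Cfsg.Agent.Helper7.SympGeneration

set_option autoImplicit false

/-! Determinants of conformal symplectic matrices (helper8). -/

namespace Cfsg.Agent.Helper8.GrAut

open Matrix Cfsg Cfsg.Agent.Helper8.AutSLn Cfsg.Agent.Helper7.Symp

section DetSp

variable {F : Type*} [Field F] {m : ℕ}

theorem det_sympTransvection (w : Fin m ⊕ Fin m → F) (c : F) :
    (Cfsg.sympTransvection m w c).det = 1 := by
  unfold Cfsg.sympTransvection
  have h1 : (1 : Matrix (Fin m ⊕ Fin m) (Fin m ⊕ Fin m) F)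
      + c • Matrix.vecMulVec w (Matrix.J (Fin m) F *ᵥ w)
      = 1 + Matrix.replicateCol Unit (c • w)
        * Matrix.replicateRow Unit (Matrix.J (Fin m) F *ᵥ w) := by
    rw [← Matrix.vecMulVec_eq, Matrix.smul_vecMulVec]
  rw [h1, Matrix.det_one_add_replicateCol_mul_replicateRow, dotProduct_smul, dotProduct_comm,
    J_alt, smul_zero, add_zero]

/-- symplectic matrices have determinant one -/
theorem det_eq_one_of_mem_symplectic {A : Matrix (Fin m ⊕ Fin m) (Fin m ⊕ Fin m) F}
    (hA : A ∈ Matrix.symplecticGroup (Fin m) F) : A.det = 1 := by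
  have key : ∀ g : Matrix.symplecticGroup (Fin m) F,
      (g : Matrix (Fin m ⊕ Fin m) (Fin m ⊕ Fin m) F).det = 1 := by
    intro g
    have hg : g ∈ transvectionSubgroup m F := by
      rw [transvectionSubgroup_eq_top]
      exact Subgroup.mem_top g
    unfold transvectionSubgroup at hg
    induction hg using Subgroup.closure_induction with
    | mem x hx =>
      obtain ⟨w, c, hx⟩ := hx
      rw [hx, det_sympTransvection]
    | one => exact Matrix.det_one
    | mul x y _ _ hx hy =>
      show ((x : Matrix (Fin m ⊕ Fin m) (Fin m ⊕ Fin m) F)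
        * (y : Matrix (Fin m ⊕ Fin m) (Fin m ⊕ Fin m) F)).det = 1
      rw [Matrix.det_mul, hx, hy, one_mul]
    | inv x _ hx =>
      have h1 : ((x⁻¹ : Matrix.symplecticGroup (Fin m) F) :
          Matrix (Fin m ⊕ Fin m) (Fin m ⊕ Fin m) F).det
          * (x : Matrix (Fin m ⊕ Fin m) (Fin m ⊕ Fin m) F).det = 1 := by
        rw [← Matrix.det_mul]
        have : ((x⁻¹ : Matrix.symplecticGroup (Fin m) F) :
          Matrix (Fin m ⊕ Fin m) (Fin m ⊕ Fin m) F)
          * (x : Matrix (Fin m ⊕ Fin m) (Fin m ⊕ Fin m) F)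
          = ((x⁻¹ * x : Matrix.symplecticGroup (Fin m) F) :
          Matrix (Fin m ⊕ Fin m) (Fin m ⊕ Fin m) F) := rfl
        rw [this, inv_mul_cancel]
        exact Matrix.det_one
      rwa [hx, mul_one] at h1
  exact key ⟨A, hA⟩

/-- the diagonal matrix `diag(c, …, c, 1, …, 1)` -/
def dmat (m : ℕ) {F : Type*} [Field F] (c : F) : Matrix (Fin m ⊕ Fin m) (Fin m ⊕ Fin m) F :=
  Matrix.fromBlocks (c • (1 : Matrix (Fin m) (Fin m) F)) 0 0 1

theorem dmat_mul (a b : F) : dmat m a * dmat m b = dmat m (a * b) := by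
  unfold dmat
  rw [Matrix.fromBlocks_multiply]
  simp [smul_smul, mul_comm]

theorem dmat_one : dmat m (1 : F) = 1 := by
  unfold dmat
  rw [one_smul, Matrix.fromBlocks_one]

theorem dmat_transpose (c : F) : (dmat m c).transpose = dmat m c := by
  unfold dmat
  rw [Matrix.fromBlocks_transpose, Matrix.transpose_smul, Matrix.transpose_one,
    Matrix.transpose_zero]

theorem dmat_J (c : F) : dmat m c * Matrix.J (Fin m) F * dmat m c = c • Matrix.J (Fin m) F := by
  unfold dmat Matrix.J
  rw [Matrix.fromBlocks_multiply, Matrix.fromBlocks_multiply, Matrix.fromBlocks_smul]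
  simp

theorem det_dmat (c : F) : (dmat m c).det = c ^ m := by
  unfold dmat
  rw [Matrix.det_fromBlocks_zero₂₁, Matrix.det_smul, Matrix.det_one, mul_one, mul_one,
    Fintype.card_fin]

/-- `g J gᵀ = c J` forces `det g = c^m` -/
theorem det_of_conformal (g : Matrix (Fin m ⊕ Fin m) (Fin m ⊕ Fin m) F) (c : F) (hc : c ≠ 0)
    (h : g * Matrix.J (Fin m) F * g.transpose = c • Matrix.J (Fin m) F) : g.det = c ^ m := by
  have hx : dmat m c⁻¹ * g ∈ Matrix.symplecticGroup (Fin m) F := by
    rw [SymplecticGroup.mem_iff, Matrix.transpose_mul, dmat_transpose]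
    calc dmat m c⁻¹ * g * Matrix.J (Fin m) F * (g.transpose * dmat m c⁻¹)
        = dmat m c⁻¹ * (g * Matrix.J (Fin m) F * g.transpose) * dmat m c⁻¹ := by
          simp only [Matrix.mul_assoc]
      _ = Matrix.J (Fin m) F := by
          rw [h, Matrix.mul_smul, Matrix.smul_mul, dmat_J, smul_smul, mul_inv_cancel₀ hc, one_smul]
  have h1 := det_eq_one_of_mem_symplectic hx
  rw [Matrix.det_mul, det_dmat, inv_pow] at h1
  have hcm : c ^ m ≠ 0 := pow_ne_zero _ hc
  field_simp at h1
  exact h1

end DetSp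

section Skew

variable {F : Type*} [Field F] {n m : ℕ}

/-- the determinants of the similitudes of `J` (reindexed) are the `m`-th powers -/
theorem map_det_simT_J (hn2 : 2 ≤ n) (e : Fin n ≃ Fin m ⊕ Fin m) :
    (simT (reGL e (Jgl m F))).map Matrix.GeneralLinearGroup.det
      = (powMonoidHom m : Fˣ →* Fˣ).range := by
  have : Nontrivial (Fin n) := Fin.nontrivial_iff_two_le.mpr hn2
  apply le_antisymm
  · rintro _ ⟨g, hg, rfl⟩
    obtain ⟨c, hc⟩ := (mem_simT_iff _ g).mp hg
    refine ⟨c, Units.ext ?_⟩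
    rw [powMonoidHom_apply, Units.val_pow_eq_pow_val, Matrix.GeneralLinearGroup.val_det_apply]
    rw [reGL_coe, Jgl_coe] at hc
    set g' : Matrix (Fin m ⊕ Fin m) (Fin m ⊕ Fin m) F :=
      (g : Matrix (Fin n) (Fin n) F).submatrix e.symm e.symm with hg'
    have h1 : g' * Matrix.J (Fin m) F * g'.transpose = (c : F) • Matrix.J (Fin m) F := by
      have h2 : ((g : Matrix (Fin n) (Fin n) F) * (Matrix.J (Fin m) F).submatrix e e
          * (g : Matrix (Fin n) (Fin n) F).transpose).submatrix e.symm e.symm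
          = ((c : F) • (Matrix.J (Fin m) F).submatrix e e).submatrix e.symm e.symm := by
        rw [hc]
      rw [← Matrix.submatrix_mul_equiv _ _ e.symm e.symm e.symm,
        ← Matrix.submatrix_mul_equiv _ _ e.symm e.symm e.symm,
        Matrix.submatrix_submatrix, ← Matrix.transpose_submatrix] at h2
      have h3 : ((c : F) • (Matrix.J (Fin m) F).submatrix e e).submatrix e.symm e.symm
          = (c : F) • Matrix.J (Fin m) F := by
        ext i j
        simp
      rw [h3] at h2
      have h4 : (⇑e ∘ ⇑e.symm) = id := by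
        funext x
        simp
      rw [h4, Matrix.submatrix_id_id] at h2
      exact h2
    rw [← det_of_conformal g' c (Units.ne_zero c) h1, hg', Matrix.det_submatrix_equiv_self]
  · rintro _ ⟨u, rfl⟩
    have hd1 : dmat m (u : F) * dmat m ((u⁻¹ : Fˣ) : F) = 1 := by
      rw [dmat_mul, ← Units.val_mul, mul_inv_cancel, Units.val_one, dmat_one]
    have hd2 : dmat m ((u⁻¹ : Fˣ) : F) * dmat m (u : F) = 1 := by
      rw [dmat_mul, ← Units.val_mul, inv_mul_cancel, Units.val_one, dmat_one]
    set D : GL (Fin m ⊕ Fin m) F := ⟨dmat m (u : F), dmat m ((u⁻¹ : Fˣ) : F), hd1, hd2⟩ with hD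
    refine ⟨reGL e D, ?_, ?_⟩
    · rw [SetLike.mem_coe, mem_simT_iff]
      refine ⟨u, ?_⟩
      rw [reGL_coe, reGL_coe, Jgl_coe, Matrix.transpose_submatrix, Matrix.submatrix_mul_equiv,
        Matrix.submatrix_mul_equiv]
      have h5 : (D : Matrix (Fin m ⊕ Fin m) (Fin m ⊕ Fin m) F) * Matrix.J (Fin m) F
          * (D : Matrix (Fin m ⊕ Fin m) (Fin m ⊕ Fin m) F).transpose
          = (u : F) • Matrix.J (Fin m) F := by
        show dmat m (u : F) * Matrix.J (Fin m) F * (dmat m (u : F)).transpose = _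
        rw [dmat_transpose, dmat_J]
      rw [h5]
      rfl
    · apply Units.ext
      rw [powMonoidHom_apply, Units.val_pow_eq_pow_val, Matrix.GeneralLinearGroup.val_det_apply,
        reGL_coe, Matrix.det_submatrix_equiv_self]
      exact det_dmat (u : F)

end Skew

end Cfsg.Agent.Helper8.GrAut
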