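import Mathlib
import Cfsg.Agent.Helper8.GrAutO
import Cfsg.Agent.Helper8.GrAutG
import Cfsg.Agent.Helper8.AutSLnX

set_option autoImplicit false

/-! Determinants of the similitudes of a symmetric matrix, `n` even, `q` odd, and the resulting
class counts (helper8). -/

namespace Cfsg.Agent.Helper8.GrAut

open Matrix Cfsg Cfsg.Agent.Helper8.AutSLn

section Sym

variable {F : Type*} [Field F] {n : ℕ}

theorem inv_transpose_of_symm (A : GL (Fin n) F)
    (hA : (A : Matrix (Fin n) (Fin n) F).transpose = (A : Matrix (Fin n) (Fin n) F)) :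
    ((A⁻¹ : GL (Fin n) F) : Matrix (Fin n) (Fin n) F).transpose
      = ((A⁻¹ : GL (Fin n) F) : Matrix (Fin n) (Fin n) F) := by
  have h1 : ((A⁻¹ : GL (Fin n) F) : Matrix (Fin n) (Fin n) F).transpose
      * (A : Matrix (Fin n) (Fin n) F) = 1 := by
    rw [← hA, ← Matrix.transpose_mul, ← Units.val_mul, mul_inv_cancel, Units.val_one,
      Matrix.transpose_one]
  calc ((A⁻¹ : GL (Fin n) F) : Matrix (Fin n) (Fin n) F).transpose
      = ((A⁻¹ : GL (Fin n) F) : Matrix (Fin n) (Fin n) F).transpose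
        * ((A : Matrix (Fin n) (Fin n) F) * ((A⁻¹ : GL (Fin n) F) : Matrix (Fin n) (Fin n) F)) := by
        rw [← Units.val_mul, mul_inv_cancel, Units.val_one, Matrix.mul_one]
    _ = ((A⁻¹ : GL (Fin n) F) : Matrix (Fin n) (Fin n) F) := by
        rw [← Matrix.mul_assoc, h1, Matrix.one_mul]

/-- a reflection: `-1` is the determinant of an isometry -/
theorem neg_one_mem_map_det_simT (h2 : (2 : F) ≠ 0) (hn2 : 2 ≤ n) (A : GL (Fin n) F)
    (hA : (A : Matrix (Fin n) (Fin n) F).transpose = (A : Matrix (Fin n) (Fin n) F)) :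
    (-1 : Fˣ) ∈ (simT A).map Matrix.GeneralLinearGroup.det := by
  have : Nontrivial (Fin n) := Fin.nontrivial_iff_two_le.mpr hn2
  have hAi := inv_transpose_of_symm A hA
  have hdAi : ((A⁻¹ : GL (Fin n) F) : Matrix (Fin n) (Fin n) F).det ≠ 0 :=
    ((Matrix.isUnit_iff_isUnit_det _).mp (Units.isUnit A⁻¹)).ne_zero
  set Q : QuadraticForm F (Fin n → F) :=
    matQ ((A⁻¹ : GL (Fin n) F) : Matrix (Fin n) (Fin n) F) with hQ
  have hnd := (Cfsg.Agent.Helper8.QuadForm.nondeg_iff Q).mp (matQ_nondeg h2 hAi hdAi)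
  obtain ⟨z, hz⟩ : ∃ z, Q z ≠ 0 := by
    by_contra hcon
    push Not at hcon
    have h0 : (Pi.single (⟨0, by omega⟩ : Fin n) (1 : F) : Fin n → F) = 0 := by
      apply hnd
      intro w
      unfold QuadraticMap.polar
      rw [hcon, hcon, hcon]
      ring
    have := congrFun h0 ⟨0, by omega⟩
    rw [Pi.single_eq_same, Pi.zero_apply] at this
    exact one_ne_zero this
  set r := Cfsg.Agent.Helper8.ReflMatrix.reflElt Q z with hr
  refine ⟨(r : GL (Fin n) F), ?_, ?_⟩
  · rw [SetLike.mem_coe, simT_eq_quadSimilarityGroup h2 A hA]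
    refine ⟨1, fun v => ?_⟩
    have := r.2 v v
    rw [Units.val_one, one_mul]
    show (((r : GL (Fin n) F) : Matrix (Fin n) (Fin n) F) *ᵥ v)
      ⬝ᵥ ((A⁻¹ : GL (Fin n) F) : Matrix (Fin n) (Fin n) F)
        *ᵥ (((r : GL (Fin n) F) : Matrix (Fin n) (Fin n) F) *ᵥ v)
      = v ⬝ᵥ ((A⁻¹ : GL (Fin n) F) : Matrix (Fin n) (Fin n) F) *ᵥ v
    rw [← matQ_apply, ← matQ_apply]
    exact this
  · apply Units.ext
    rw [Matrix.GeneralLinearGroup.val_det_apply, hr,
      Cfsg.Agent.Helper8.ReflMatrix.reflElt_val,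
      Cfsg.Agent.Helper8.ReflMatrix.det_reflectionMatrix Q hz]
    rfl

/-- a similitude with non-square multiplier -/
theorem exists_nonsquare_multiplier [Fintype F] (h2 : (2 : F) ≠ 0) {m : ℕ} (hnm : n = 2 * m)
    (A : GL (Fin n) F)
    (hA : (A : Matrix (Fin n) (Fin n) F).transpose = (A : Matrix (Fin n) (Fin n) F))
    (ε : Fˣ) :
    ∃ g : GL (Fin n) F, (g : Matrix (Fin n) (Fin n) F) * (A : Matrix (Fin n) (Fin n) F)
      * (g : Matrix (Fin n) (Fin n) F).transpose = (ε : F) • (A : Matrix (Fin n) (Fin n) F) := by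
  obtain ⟨g, hg⟩ := exists_congr_of_isSquare h2 A (Matrix.GeneralLinearGroup.scalar (Fin n) ε * A)
    hA (by rw [coe_scalar_mul, Matrix.transpose_smul, hA]) (by
      rw [coe_scalar_mul, Matrix.det_smul, Fintype.card_fin]
      refine ⟨(ε : F) ^ m * (A : Matrix (Fin n) (Fin n) F).det, ?_⟩
      have : (ε : F) ^ n = (ε : F) ^ m * (ε : F) ^ m := by rw [hnm, two_mul, pow_add]
      rw [this]
      ring)
  exact ⟨g, by rw [hg, coe_scalar_mul]⟩

/-- the subgroup of `Fˣ` generated by the `n`-th powers and the determinants of the similitudes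
of a symmetric matrix -/
theorem sup_map_det_simT_symm [Fintype F] (h2 : (2 : F) ≠ 0) (hn2 : 2 ≤ n) {m : ℕ}
    (hnm : n = 2 * m) (A : GL (Fin n) F)
    (hA : (A : Matrix (Fin n) (Fin n) F).transpose = (A : Matrix (Fin n) (Fin n) F)) :
    (powMonoidHom n : Fˣ →* Fˣ).range ⊔ (simT A).map Matrix.GeneralLinearGroup.det
      = (powMonoidHom m : Fˣ →* Fˣ).range ⊔ Subgroup.zpowers (-1 : Fˣ) := by
  have : Nontrivial (Fin n) := Fin.nontrivial_iff_two_le.mpr hn2
  have hneg := neg_one_mem_map_det_simT h2 hn2 A hA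
  have hdet : ∀ g ∈ simT A, ∀ c : Fˣ, (g : Matrix (Fin n) (Fin n) F) * (A : Matrix (Fin n) (Fin n) F)
      * (g : Matrix (Fin n) (Fin n) F).transpose = (c : F) • (A : Matrix (Fin n) (Fin n) F) →
      Matrix.GeneralLinearGroup.det g = c ^ m ∨ Matrix.GeneralLinearGroup.det g = -c ^ m := by
    intro g _ c hc
    have h1 := det_mul_self_of_form A g c hc
    have h3 : ((Matrix.GeneralLinearGroup.det g : Fˣ) : F) * ((Matrix.GeneralLinearGroup.det g : Fˣ) : F)
        = ((c : F) ^ m) * ((c : F) ^ m) := by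
      have := congrArg Units.val h1
      rw [Units.val_mul, Units.val_pow_eq_pow_val] at this
      rw [this, hnm, two_mul, pow_add]
    rcases mul_self_eq_mul_self_iff.mp h3 with h | h
    · left
      exact Units.ext (by rw [Units.val_pow_eq_pow_val, h])
    · right
      exact Units.ext (by rw [Units.val_neg, Units.val_pow_eq_pow_val, h])
  apply le_antisymm
  · rw [sup_le_iff]
    constructor
    · rintro _ ⟨x, rfl⟩
      apply Subgroup.mem_sup_left
      refine MonoidHom.mem_range.mpr ⟨x ^ 2, ?_⟩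
      rw [powMonoidHom_apply, powMonoidHom_apply, ← pow_mul, hnm]
    · rintro _ ⟨g, hg, rfl⟩
      obtain ⟨c, hc⟩ := (mem_simT_iff A g).mp hg
      rcases hdet g hg c hc with h | h
      · rw [h]
        have hc1 : c ^ m ∈ (powMonoidHom m : Fˣ →* Fˣ).range := MonoidHom.mem_range.mpr ⟨c, rfl⟩
        exact Subgroup.mem_sup_left hc1
      · have h5 : Matrix.GeneralLinearGroup.det g = c ^ m * (-1 : Fˣ) := by rw [h, mul_neg_one]
        have hc1 : c ^ m ∈ (powMonoidHom m : Fˣ →* Fˣ).range := MonoidHom.mem_range.mpr ⟨c, rfl⟩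
        have hz1 : (-1 : Fˣ) ∈ Subgroup.zpowers (-1 : Fˣ) := Subgroup.mem_zpowers (-1 : Fˣ)
        rw [h5]
        exact Subgroup.mul_mem_sup hc1 hz1
  · rw [sup_le_iff]
    constructor
    · rintro _ ⟨u, rfl⟩
      rw [powMonoidHom_apply]
      by_cases hu : IsSquare (u : F)
      · obtain ⟨s, hs⟩ := hu
        have hs0 : s ≠ 0 := by
          rintro rfl
          rw [mul_zero] at hs
          exact Units.ne_zero u hs
        apply Subgroup.mem_sup_left
        refine MonoidHom.mem_range.mpr ⟨Units.mk0 s hs0, Units.ext ?_⟩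
        rw [powMonoidHom_apply, Units.val_pow_eq_pow_val, Units.val_pow_eq_pow_val, Units.val_mk0,
          hs, hnm, two_mul, pow_add, mul_pow]
      · obtain ⟨g, hg⟩ := exists_nonsquare_multiplier h2 hnm A hA u
        have hgm : g ∈ simT A := (mem_simT_iff A g).mpr ⟨u, hg⟩
        apply Subgroup.mem_sup_right
        rcases hdet g hgm u hg with h | h
        · rw [← h]
          exact Subgroup.mem_map_of_mem _ hgm
        · have : u ^ m = (-1 : Fˣ) * Matrix.GeneralLinearGroup.det g := by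
            rw [h]
            simp
          rw [this]
          exact Subgroup.mul_mem _ hneg (Subgroup.mem_map_of_mem _ hgm)
    · rw [Subgroup.zpowers_le]
      exact Subgroup.mem_sup_right hneg

/-- the index of `⟨-1⟩` -/
theorem index_zpowers_neg_one [Fintype F] (h2 : (2 : F) ≠ 0) :
    (Subgroup.zpowers (-1 : Fˣ)).index = (Fintype.card F - 1) / 2 := by
  have hord : orderOf (-1 : Fˣ) = 2 := by
    apply orderOf_eq_prime
    · simp
    · intro h
      have h1 := congrArg Units.val h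
      rw [Units.val_neg, Units.val_one] at h1
      apply h2
      linear_combination -h1
  have h1 := (Subgroup.zpowers (-1 : Fˣ)).card_mul_index
  rw [Nat.card_zpowers, hord, Nat.card_units, Nat.card_eq_fintype_card] at h1
  omega

/-- **class count, symmetric type** -/
theorem splitClassCount_symm [Fintype F] (h2 : (2 : F) ≠ 0) (hn2 : 2 ≤ n) {m : ℕ}
    (hnm : n = 2 * m) (A : GL (Fin n) F)
    (hA : (A : Matrix (Fin n) (Fin n) F).transpose = (A : Matrix (Fin n) (Fin n) F)) :
    Cfsg.splitClassCount (Cfsg.inndiagPSL n F)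
      (Cfsg.Inn (ProjectiveSpecialLinearGroup (Fin n) F)) (graphAut A) =
      Nat.gcd n (Fintype.card F - 1) / 2 := by
  rw [splitClassCount_graphAut hn2, sup_map_det_simT_symm h2 hn2 hnm A hA, index_range_pow_sup,
    index_zpowers_neg_one h2]
  have hodd : Odd (Fintype.card F) := by
    by_contra hcon
    rw [Nat.not_odd_iff_even] at hcon
    apply h2
    have h3 : ringChar F = 2 := by
      obtain ⟨k, hp, hk⟩ := FiniteField.card F (ringChar F)
      have : (2 : ℕ) ∣ ringChar F ^ (k : ℕ) := by rw [← hk]; exact even_iff_two_dvd.mp hcon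
      have h4 := (Nat.Prime.dvd_of_dvd_pow Nat.prime_two this)
      exact ((Nat.prime_dvd_prime_iff_eq Nat.prime_two hp).mp h4).symm
    have : ((ringChar F : ℕ) : F) = 0 := ringChar.Nat.cast_ringChar
    rw [h3] at this
    exact_mod_cast this
  obtain ⟨k, hk⟩ := hodd
  have hq : Fintype.card F - 1 = 2 * k := by omega
  rw [hq, hnm, Nat.gcd_mul_left, Nat.mul_div_cancel_left _ (by norm_num : 0 < 2),
    Nat.mul_div_cancel_left _ (by norm_num : 0 < 2)]

/-- **class count, symplectic type** -/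
theorem splitClassCount_skew [Fintype F] (h2 : (2 : F) ≠ 0) (hn2 : 2 ≤ n) {m : ℕ}
    (hnm : n = 2 * m) (A : GL (Fin n) F)
    (hA : (A : Matrix (Fin n) (Fin n) F).transpose = -(A : Matrix (Fin n) (Fin n) F)) :
    Cfsg.splitClassCount (Cfsg.inndiagPSL n F)
      (Cfsg.Inn (ProjectiveSpecialLinearGroup (Fin n) F)) (graphAut A) =
      Nat.gcd m (Fintype.card F - 1) := by
  let e : Fin n ≃ Fin m ⊕ Fin m := (finCongr (by omega : n = m + m)).trans finSumFinEquiv.symm
  obtain ⟨g, hg⟩ := exists_congr_of_skew h2 (reGL e (Jgl m F)) A (reGL_Jgl_transpose e) hA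
  have h1 := map_det_simT_eq_of_congr hn2 (reGL e (Jgl m F)) A g 1
    (by rw [hg, Units.val_one, one_smul])
  rw [splitClassCount_graphAut hn2, h1, map_det_simT_J hn2 e]
  have hle : (powMonoidHom n : Fˣ →* Fˣ).range ≤ (powMonoidHom m : Fˣ →* Fˣ).range := by
    rintro _ ⟨x, rfl⟩
    refine ⟨x ^ 2, ?_⟩
    rw [powMonoidHom_apply, powMonoidHom_apply, ← pow_mul, hnm]
  rw [sup_eq_right.mpr hle, IsCyclic.index_powMonoidHom_range, Nat.card_units,
    Nat.card_eq_fintype_card, Nat.gcd_comm]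

end Sym

end Cfsg.Agent.Helper8.GrAut
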