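import Mathlib
import Cfsg.Agent.Helper8.GrAutH
import Cfsg.Agent.Helper7.SympTransitive

set_option autoImplicit false

/-! Cardinality bounds for projective conformal groups (helper8). -/

namespace Cfsg.Agent.Helper8.GrAut

open Matrix Cfsg Cfsg.Agent.Helper8.AutSLn Cfsg.Agent.Helper7.Symp

section CardPGO

variable {F : Type*} [Field F] [Fintype F] {ι : Type} [Fintype ι] [DecidableEq ι] [Nonempty ι]

theorem card_scalars : Nat.card (Geo.scalars ι F) = Fintype.card F - 1 := by
  unfold Geo.scalars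
  have hinj : Function.Injective
      (Units.map (Matrix.scalar ι : F →+* Matrix ι ι F).toMonoidHom) := by
    apply Units.map_injective
    intro a b h
    exact Matrix.scalar_inj.mp h
  rw [← Nat.card_congr (MonoidHom.ofInjective hinj).toEquiv, Nat.card_units,
    Nat.card_eq_fintype_card]

/-- `|PGO(Q)| ≤ |O(Q)|` -/
theorem card_PGO_le (Q : (ι → F) → F) (hsm : ∀ (a : F) (v : ι → F), Q (a • v) = a * a * Q v)
    (hne : ∃ v, Q v ≠ 0) :
    Nat.card (Cfsg.PGO F Q) ≤ Nat.card ↥(Cfsg.isometryGroup F Q) := by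
  classical
  obtain ⟨v₀, hv₀⟩ := hne
  set H := Geo.quadSimilarityGroup (F := F) Q with hH
  have hq : 0 < Fintype.card F - 1 := by
    have := Fintype.one_lt_card (α := F)
    omega
  -- the multiplier
  have hspec : ∀ g : ↥H, ∀ v, Q (((g : GL ι F) : Matrix ι ι F) *ᵥ v)
      = ((Classical.choose g.2 : Fˣ) : F) * Q v := fun g => Classical.choose_spec g.2
  let μ : ↥H →* Fˣ := MonoidHom.mk' (fun g => Classical.choose g.2) (by
    intro a b
    apply Units.ext
    have h1 := hspec (a * b) v₀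
    have h2 : Q ((((a * b : ↥H) : GL ι F) : Matrix ι ι F) *ᵥ v₀)
        = ((Classical.choose a.2 : Fˣ) : F) * (((Classical.choose b.2 : Fˣ) : F) * Q v₀) := by
      rw [Subgroup.coe_mul, Units.val_mul, ← Matrix.mulVec_mulVec, hspec a, hspec b]
    rw [h2] at h1
    rw [Units.val_mul]
    have h3 : (((Classical.choose a.2 : Fˣ) : F) * ((Classical.choose b.2 : Fˣ) : F)
        - ((Classical.choose (a * b).2 : Fˣ) : F)) * Q v₀ = 0 := by linear_combination h1
    rcases mul_eq_zero.mp h3 with h | h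
    · exact (sub_eq_zero.mp h).symm
    · exact absurd h hv₀)
  have hμ : ∀ g : ↥H, μ g = Classical.choose g.2 := fun g => rfl
  have hμ1 : ∀ g : ↥H, (∀ v, Q (((g : GL ι F) : Matrix ι ι F) *ᵥ v) = Q v) → μ g = 1 := by
    intro g hg
    apply Units.ext
    have h2 := hspec g v₀
    rw [hg v₀, ← hμ] at h2
    have h4 : (((μ g : Fˣ) : F) - 1) * Q v₀ = 0 := by linear_combination -h2
    rw [Units.val_one]
    rcases mul_eq_zero.mp h4 with h | h
    · exact sub_eq_zero.mp h
    · exact absurd h hv₀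
  -- the kernel is the isometry group
  have hker : Nat.card ↥μ.ker = Nat.card ↥(Cfsg.isometryGroup F Q) := by
    apply Nat.card_congr
    refine
      { toFun := fun g => ⟨(g.1 : GL ι F), fun u _ => ?_⟩
        invFun := fun g => ⟨⟨g.1, ⟨1, fun v => by
          rw [Units.val_one, one_mul]; exact g.2 v v⟩⟩, ?_⟩
        left_inv := fun g => rfl
        right_inv := fun g => rfl }
    · have h1 : μ g.1 = 1 := g.2
      have h2 := hspec g.1 u
      rw [← hμ, h1, Units.val_one, one_mul] at h2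
      exact h2
    · rw [MonoidHom.mem_ker]
      apply hμ1
      intro v
      exact g.2 v v
  have hcard1 : Nat.card ↥H = Nat.card ↥μ.ker * Nat.card ↥μ.range := by
    rw [← Subgroup.index_ker, Subgroup.card_mul_index]
  have hrange : Nat.card ↥μ.range ≤ Fintype.card F - 1 := by
    have := Nat.card_le_card_of_injective (Subtype.val : ↥μ.range → Fˣ) Subtype.val_injective
    have h7 : Nat.card Fˣ = Fintype.card F - 1 := by rw [Nat.card_units, Nat.card_eq_fintype_card]
    rwa [h7] at this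
  -- the scalars
  have hZH : Geo.scalars ι F ≤ H := by
    intro g hg
    obtain ⟨c, rfl⟩ := (mem_scalars_iff_scalar g).mp hg
    refine ⟨c * c, fun v => ?_⟩
    rw [coe_scalar, Matrix.smul_mulVec, Matrix.one_mulVec, hsm, Units.val_mul]
  have hZ : Nat.card ↥((Geo.scalars ι F).subgroupOf H) = Fintype.card F - 1 := by
    rw [Nat.card_congr (Subgroup.subgroupOfEquivOfLe hZH).toEquiv, card_scalars]
  have hcard2 : Nat.card ↥H = Nat.card (Cfsg.PGO F Q) * (Fintype.card F - 1) := by
    rw [← hZ]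
    exact Subgroup.card_eq_card_quotient_mul_card_subgroup _
  have h5 : Nat.card (Cfsg.PGO F Q) * (Fintype.card F - 1)
      ≤ Nat.card ↥(Cfsg.isometryGroup F Q) * (Fintype.card F - 1) := by
    rw [← hcard2, hcard1, hker]
    exact Nat.mul_le_mul_left _ hrange
  exact Nat.le_of_mul_le_mul_right h5 hq

end CardPGO

section CardPGSp

variable {F : Type*} [Field F] [Fintype F] {m : ℕ}

/-- `|Sp_{2m}(F)| ≤ 2 |PGSp_{2m}(F)|` -/
theorem card_Sp_le (hm : 1 ≤ m) :
    Nat.card ↥(Matrix.symplecticGroup (Fin m) F) ≤ 2 * Nat.card (Cfsg.PGSp m F) := by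
  classical
  let φ₀ : ↥(Matrix.symplecticGroup (Fin m) F) →* GL (Fin m ⊕ Fin m) F :=
    (Matrix.symplecticGroup (Fin m) F).subtype.toHomUnits
  have hφ₀ : ∀ h : ↥(Matrix.symplecticGroup (Fin m) F),
      ((φ₀ h : GL (Fin m ⊕ Fin m) F) : Matrix (Fin m ⊕ Fin m) (Fin m ⊕ Fin m) F)
        = (h : Matrix (Fin m ⊕ Fin m) (Fin m ⊕ Fin m) F) := fun h => rfl
  have hmem : ∀ h, φ₀ h ∈ Cfsg.GSp m F := by
    intro h
    refine ⟨1, fun u v => ?_⟩
    rw [hφ₀, Units.val_one, one_mul]
    exact sympForm_mulVec h u v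
  let φ : ↥(Matrix.symplecticGroup (Fin m) F) →* ↥(Cfsg.GSp m F) := φ₀.codRestrict _ hmem
  let ψ : ↥(Matrix.symplecticGroup (Fin m) F) →* Cfsg.PGSp m F :=
    (QuotientGroup.mk' ((Geo.scalars (Fin m ⊕ Fin m) F).subgroupOf (Cfsg.GSp m F))).comp φ
  have hcard : Nat.card ↥(Matrix.symplecticGroup (Fin m) F)
      = Nat.card ↥ψ.ker * Nat.card ↥ψ.range := by
    rw [← Subgroup.index_ker, Subgroup.card_mul_index]
  have hrange : Nat.card ↥ψ.range ≤ Nat.card (Cfsg.PGSp m F) :=
    Nat.card_le_card_of_injective (Subtype.val : ↥ψ.range → Cfsg.PGSp m F) Subtype.val_injective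
  have hJ : Matrix.J (Fin m) F (Sum.inr ⟨0, by omega⟩) (Sum.inl ⟨0, by omega⟩) = 1 := by
    simp [Matrix.J]
  -- the kernel has at most two elements
  have hkerel : ∀ k : ↥ψ.ker, ∃ a : F, a * a = 1 ∧
      ((k : Matrix.symplecticGroup (Fin m) F) : Matrix (Fin m ⊕ Fin m) (Fin m ⊕ Fin m) F)
        = a • (1 : Matrix (Fin m ⊕ Fin m) (Fin m ⊕ Fin m) F) := by
    intro k
    have h1 : ψ k.1 = 1 := k.2
    have h2 : φ k.1 ∈ (Geo.scalars (Fin m ⊕ Fin m) F).subgroupOf (Cfsg.GSp m F) :=
      (QuotientGroup.eq_one_iff _).mp h1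
    rw [Subgroup.mem_subgroupOf, Geo.mem_scalars_iff] at h2
    obtain ⟨c, hc⟩ := h2
    have hc' : ((k : Matrix.symplecticGroup (Fin m) F) :
        Matrix (Fin m ⊕ Fin m) (Fin m ⊕ Fin m) F)
        = (c : F) • (1 : Matrix (Fin m ⊕ Fin m) (Fin m ⊕ Fin m) F) := hc
    refine ⟨c, ?_, hc'⟩
    have h3 := SymplecticGroup.mem_iff.mp k.1.2
    rw [hc', Matrix.transpose_smul, Matrix.transpose_one, Matrix.smul_mul, Matrix.one_mul,
      Matrix.mul_smul, Matrix.mul_one, smul_smul] at h3
    have h4 := congrFun (congrFun h3 (Sum.inr ⟨0, by omega⟩)) (Sum.inl ⟨0, by omega⟩)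
    rw [Matrix.smul_apply, hJ, smul_eq_mul, mul_one] at h4
    exact h4
  have hker2 : Nat.card ↥ψ.ker ≤ 2 := by
    have h2F : Nat.card (Fin 2) = 2 := by rw [Nat.card_eq_fintype_card, Fintype.card_fin]
    rw [← h2F]
    apply Nat.card_le_card_of_injective (fun k : ↥ψ.ker =>
      if ((k : Matrix.symplecticGroup (Fin m) F) : Matrix (Fin m ⊕ Fin m) (Fin m ⊕ Fin m) F) = 1
        then (0 : Fin 2) else 1)
    intro k k' hkk
    apply Subtype.ext
    apply Subtype.ext
    obtain ⟨a, ha, hka⟩ := hkerel k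
    obtain ⟨a', ha', hka'⟩ := hkerel k'
    have hcase : ∀ b : F, b * b = 1 → b = 1 ∨ b = -1 := fun b hb => mul_self_eq_one_iff.mp hb
    simp only at hkk
    by_cases h1 : ((k : Matrix.symplecticGroup (Fin m) F) :
        Matrix (Fin m ⊕ Fin m) (Fin m ⊕ Fin m) F) = 1
    · by_cases h1' : ((k' : Matrix.symplecticGroup (Fin m) F) :
          Matrix (Fin m ⊕ Fin m) (Fin m ⊕ Fin m) F) = 1
      · rw [h1, h1']
      · rw [if_pos h1, if_neg h1'] at hkk
        exact absurd hkk (by decide)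
    · by_cases h1' : ((k' : Matrix.symplecticGroup (Fin m) F) :
          Matrix (Fin m ⊕ Fin m) (Fin m ⊕ Fin m) F) = 1
      · rw [if_neg h1, if_pos h1'] at hkk
        exact absurd hkk (by decide)
      · have e1 : a = -1 := by
          rcases hcase a ha with h | h
          · exact absurd (by rw [hka, h, one_smul]) h1
          · exact h
        have e2 : a' = -1 := by
          rcases hcase a' ha' with h | h
          · exact absurd (by rw [hka', h, one_smul]) h1'
          · exact h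
        rw [hka, hka', e1, e2]
  calc Nat.card ↥(Matrix.symplecticGroup (Fin m) F)
      = Nat.card ↥ψ.ker * Nat.card ↥ψ.range := hcard
    _ ≤ 2 * Nat.card (Cfsg.PGSp m F) := Nat.mul_le_mul hker2 hrange

end CardPGSp

end Cfsg.Agent.Helper8.GrAut
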