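import Mathlib
import Cfsg.Agent.Helper8.GrAutP
import Cfsg.Agent.Helper8.GrAutQ
import Cfsg.Agent.Helper8.OmegaOdd
import Cfsg.Agent.S0245
import Cfsg.Agent.S0287
import Cfsg.Agent.S0288
import Cfsg.Agent.S2620
import Cfsg.Agent.S2621

set_option autoImplicit false

/-! The type of an involutory graph automorphism of `PSL_n(F)` (`n` even, `q` odd) is detected
by its centraliser; the class counts (helper8). -/

namespace Cfsg.Agent.Helper8.GrAut

open Matrix Cfsg Cfsg.Agent.Helper8.AutSLn Cfsg.Agent.Helper8.StdForms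

section Numeric

theorem prod_pos_aux (q k : ℕ) (hq : 2 ≤ q) :
    0 < ∏ i ∈ Finset.range k, (q ^ (2 * (i + 1)) - 1) := by
  apply Finset.prod_pos
  intro i _
  have : 1 < q ^ (2 * (i + 1)) := Nat.one_lt_pow (by omega) (by omega)
  omega

theorem two_mul_orth_lt_symp (q m : ℕ) (hq : 3 ≤ q) (hm : 2 ≤ m) :
    2 * (2 * q ^ (m * (m - 1)) * (q ^ m + 1) * ∏ i ∈ Finset.range (m - 1), (q ^ (2 * (i + 1)) - 1))
      < q ^ (m ^ 2) * ∏ i ∈ Finset.range m, (q ^ (2 * (i + 1)) - 1) := by
  obtain ⟨k, rfl⟩ : ∃ k, m = k + 1 := ⟨m - 1, by omega⟩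
  rw [Nat.add_sub_cancel, Finset.prod_range_succ]
  set P := ∏ i ∈ Finset.range k, (q ^ (2 * (i + 1)) - 1) with hP
  have hPpos : 0 < P := prod_pos_aux q k (by omega)
  have e1 : q ^ ((k + 1) ^ 2) = q ^ ((k + 1) * k) * q ^ (k + 1) := by
    rw [← pow_add]
    congr 1
    ring
  have e2 : q ^ (2 * (k + 1)) = q ^ (k + 1) * q ^ (k + 1) := by
    rw [← pow_add]
    congr 1
    ring
  rw [e1, e2]
  set R := q ^ ((k + 1) * k) with hR
  have hRpos : 0 < R := Nat.pos_of_ne_zero (pow_ne_zero _ (by omega))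
  have hX : 9 ≤ q ^ (k + 1) := by
    calc 9 = 3 ^ 2 := by norm_num
      _ ≤ q ^ 2 := Nat.pow_le_pow_left hq 2
      _ ≤ q ^ (k + 1) := Nat.pow_le_pow_right (by omega) (by omega)
  obtain ⟨Y, hY⟩ : ∃ Y, q ^ (k + 1) = Y + 1 := ⟨q ^ (k + 1) - 1, by omega⟩
  rw [hY]
  have e3 : (Y + 1) * (Y + 1) - 1 = Y * (Y + 2) := by
    have : (Y + 1) * (Y + 1) = Y * (Y + 2) + 1 := by ring
    omega
  rw [e3]
  have hY8 : 8 ≤ Y := by omega
  have hW : 0 < R * P * (Y + 2) := by positivity
  calc 2 * (2 * R * (Y + 1 + 1) * P) = 4 * (R * P * (Y + 2)) := by ring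
    _ < (Y + 1) * Y * (R * P * (Y + 2)) := by
        apply Nat.mul_lt_mul_of_pos_right _ hW
        nlinarith
    _ = R * (Y + 1) * (P * (Y * (Y + 2))) := by ring

theorem two_mul_orth_lt_symp' (q m : ℕ) (hq : 3 ≤ q) (hm : 2 ≤ m) :
    2 * (2 * q ^ (m * (m - 1)) * (q ^ m - 1) * ∏ i ∈ Finset.range (m - 1), (q ^ (2 * (i + 1)) - 1))
      < q ^ (m ^ 2) * ∏ i ∈ Finset.range m, (q ^ (2 * (i + 1)) - 1) := by
  refine lt_of_le_of_lt ?_ (two_mul_orth_lt_symp q m hq hm)
  apply Nat.mul_le_mul_left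
  apply Nat.mul_le_mul_right
  apply Nat.mul_le_mul_left
  omega

end Numeric

section Criterion

variable {F : Type*} [Field F] [Fintype F] {n m : ℕ}

theorem two_ne_zero_of_odd (hodd : Odd (Fintype.card F)) : (2 : F) ≠ 0 := by
  intro h
  have hc : ringChar F = 2 := by
    have : CharP F 2 := CharTwo.of_one_ne_zero_of_two_eq_zero one_ne_zero h
    exact ringChar.eq F 2
  have hp : ringChar F ∣ Fintype.card F := by
    obtain ⟨k, hp, hk⟩ := FiniteField.card F (ringChar F)
    rw [hk]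
    exact dvd_pow_self _ k.ne_zero
  rw [hc] at hp
  exact (Nat.not_even_iff_odd.mpr hodd) (even_iff_two_dvd.mpr hp)

omit [Fintype F] in
/-- skew type: the centraliser is the projective conformal symplectic group -/
theorem nonempty_equiv_PGSp_of_skew (h2 : (2 : F) ≠ 0) (hn2 : 2 ≤ n) (hnm : n = 2 * m)
    (A : GL (Fin n) F)
    (hA : (A : Matrix (Fin n) (Fin n) F).transpose = -(A : Matrix (Fin n) (Fin n) F)) :
    Nonempty (↥(Cfsg.inndiagPSL n F ⊓ Subgroup.centralizer {graphAut A}) ≃* Cfsg.PGSp m F) := by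
  let e : Fin n ≃ Fin m ⊕ Fin m := (finCongr (by omega : n = m + m)).trans finSumFinEquiv.symm
  have hconj := conj_of_congr hn2 A (reGL e (Jgl m F))
    (exists_congr_of_skew h2 A _ hA (reGL_Jgl_transpose e))
  obtain ⟨e1⟩ := nonempty_centralizer_equiv_of_isConjUnder _ hconj
  obtain ⟨e2⟩ := nonempty_centralizer_equiv_PGSp (F := F) hn2 e
  exact ⟨e1.trans e2⟩

/-- symmetric type: the centraliser is not the projective conformal symplectic group -/
theorem not_nonempty_equiv_PGSp_of_symm (hodd : Odd (Fintype.card F)) (hm : 2 ≤ m)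
    (hnm : n = 2 * m) (A : GL (Fin n) F)
    (hA : (A : Matrix (Fin n) (Fin n) F).transpose = (A : Matrix (Fin n) (Fin n) F)) :
    ¬ Nonempty (↥(Cfsg.inndiagPSL n F ⊓ Subgroup.centralizer {graphAut A}) ≃* Cfsg.PGSp m F) := by
  classical
  have h2 := two_ne_zero_of_odd hodd
  have hn2 : 2 ≤ n := by omega
  have hev : Even n := ⟨m, by omega⟩
  have hq3 : 3 ≤ Fintype.card F := by
    have h1 := Fintype.one_lt_card (α := F)
    obtain ⟨k, hk⟩ := hodd
    omega
  obtain ⟨ε, hε⟩ := Cfsg.Agent.Helper8.OmegaOdd.exists_nonsquare (F := F) h2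
  have haniso : ∀ z₁ z₂ : F, z₁ ^ 2 + 0 * z₁ * z₂ + (-ε) * z₂ ^ 2 = 0 → z₁ = 0 ∧ z₂ = 0 := by
    intro z₁ z₂ h
    have hz2 : z₂ = 0 := by
      by_contra hz
      apply hε
      refine ⟨z₁ / z₂, ?_⟩
      field_simp
      linear_combination -h
    subst hz2
    refine ⟨?_, rfl⟩
    have : z₁ ^ 2 = 0 := by linear_combination h
    exact pow_eq_zero_iff (two_ne_zero) |>.mp this
  let eP : Fin n ≃ Fin m ⊕ Fin m := (finCongr (by omega : n = m + m)).trans finSumFinEquiv.symm
  let eM : Fin n ≃ (Fin (m - 1) ⊕ Fin (m - 1)) ⊕ Fin 2 :=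
    (finCongr (by omega : n = (m - 1 + (m - 1)) + 2)).trans
      (finSumFinEquiv.symm.trans (Equiv.sumCongr finSumFinEquiv.symm (Equiv.refl _)))
  have hfunP : ⇑(plusForm F m) = quadFormPlus m F := funext (plusForm_apply F m)
  have hfunM : ⇑(minusForm F (m - 1) 0 (-ε)) = quadFormMinus (m - 1) F 0 (-ε) :=
    funext (minusForm_apply F (m - 1) 0 (-ε))
  have hP := Cfsg.Agent.S2620.result (F := F) rfl hodd (by omega : 1 ≤ m) (reBasis F eP)
  have hM := Cfsg.Agent.S2621.result (F := F) rfl hodd (by omega : 1 ≤ m) 0 (-ε) haniso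
    (reBasis F eM)
  rw [← hfunP] at hP
  rw [← hfunM] at hM
  set dP := (Matrix.of (fun i j : Fin n =>
        QuadraticMap.polar (⇑(plusForm F m)) (reBasis F eP i) (reBasis F eP j))).det with hdP
  set dM := (Matrix.of (fun i j : Fin n =>
        QuadraticMap.polar (⇑(minusForm F (m - 1) 0 (-ε))) (reBasis F eM i)
          (reBasis F eM j))).det with hdM
  have hSp := Cfsg.Agent.S0245.result (F := F) rfl m
  have hSp2 := card_Sp_le (F := F) (m := m) (by omega)
  rintro ⟨E⟩
  have hcardE := Nat.card_congr E.toEquiv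
  have hneP : Nonempty (Fin m ⊕ Fin m) := ⟨Sum.inl ⟨0, by omega⟩⟩
  have hneM : Nonempty ((Fin (m - 1) ⊕ Fin (m - 1)) ⊕ Fin 2) := ⟨Sum.inr 0⟩
  have hdA : (A : Matrix (Fin n) (Fin n) F).det ≠ 0 :=
    ((Matrix.isUnit_iff_isUnit_det _).mp (Units.isUnit A)).ne_zero
  -- the centraliser is a projective conformal orthogonal group of order at most `|O^±|`
  have hbound : Nat.card ↥(Cfsg.inndiagPSL n F ⊓ Subgroup.centralizer {graphAut A})
      ≤ 2 * Fintype.card F ^ (m * (m - 1)) * (Fintype.card F ^ m + 1)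
        * ∏ i ∈ Finset.range (m - 1), (Fintype.card F ^ (2 * (i + 1)) - 1) := by
    by_cases hsq : IsSquare ((A : Matrix (Fin n) (Fin n) F).det * dP)
    · obtain ⟨L, hL⟩ := exists_isometry_matQ h2 hev eP (plusForm F m) (plusForm_nondeg F m) A hA
        hsq
      obtain ⟨E1⟩ := nonempty_centralizer_equiv_PGO' h2 hn2 (quadFormPlus m F) A hA L
        (fun v => by rw [← plusForm_apply, hL])
      rw [Nat.card_congr E1.toEquiv]
      refine le_trans (card_PGO_le (quadFormPlus m F) (fun a v => by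
        rw [← plusForm_apply, ← plusForm_apply, QuadraticMap.map_smul, smul_eq_mul])
        ⟨Pi.single (Sum.inl ⟨0, by omega⟩) 1 + Pi.single (Sum.inr ⟨0, by omega⟩) 1, by
          unfold quadFormPlus
          rw [Finset.sum_eq_single (⟨0, by omega⟩ : Fin m)]
          · simp
          · intro b _ hb
            simp [hb]
          · intro h
            exact absurd (Finset.mem_univ _) h⟩) ?_
      rw [Cfsg.Agent.S0287.result (F := F) rfl m (by omega)]
      apply Nat.mul_le_mul_right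
      apply Nat.mul_le_mul_left
      omega
    · have hsqM : IsSquare ((A : Matrix (Fin n) (Fin n) F).det * dM) := by
        by_cases hE : Even (m * (Fintype.card F - 1) / 2)
        · have h1 : IsSquare dP := hP.mpr hE
          have h3 : ¬ IsSquare dM := fun h => (hM.mp h) hE
          have ha : ¬ IsSquare (A : Matrix (Fin n) (Fin n) F).det := fun h => hsq (h.mul h1)
          exact isSquare_mul_of_not_isSquare ha h3
        · have h1 : ¬ IsSquare dP := fun h => hE (hP.mp h)
          have h3 : IsSquare dM := hM.mpr hE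
          have ha : IsSquare (A : Matrix (Fin n) (Fin n) F).det := by
            by_contra ha
            exact hsq (isSquare_mul_of_not_isSquare ha h1)
          exact ha.mul h3
      obtain ⟨L, hL⟩ := exists_isometry_matQ h2 hev eM (minusForm F (m - 1) 0 (-ε))
        (minusForm_nondeg F (m - 1) haniso) A hA hsqM
      obtain ⟨E1⟩ := nonempty_centralizer_equiv_PGO' h2 hn2 (quadFormMinus (m - 1) F 0 (-ε)) A hA L
        (fun v => by rw [← minusForm_apply, hL])
      rw [Nat.card_congr E1.toEquiv]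
      refine le_trans (card_PGO_le (quadFormMinus (m - 1) F 0 (-ε)) (fun a v => by
        rw [← minusForm_apply, ← minusForm_apply, QuadraticMap.map_smul, smul_eq_mul])
        ⟨Pi.single (Sum.inr 0) 1, by
          unfold quadFormMinus
          simp⟩) ?_
      rw [Cfsg.Agent.S0288.result (F := F) rfl m (by omega) 0 (-ε) haniso]
  have h9 : Nat.card ↥(Matrix.symplecticGroup (Fin m) F)
      ≤ 2 * (2 * Fintype.card F ^ (m * (m - 1)) * (Fintype.card F ^ m + 1)
        * ∏ i ∈ Finset.range (m - 1), (Fintype.card F ^ (2 * (i + 1)) - 1)) := by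
    rw [← hcardE] at hSp2
    exact le_trans hSp2 (Nat.mul_le_mul_left 2 hbound)
  rw [hSp] at h9
  exact absurd h9 (not_le.mpr (two_mul_orth_lt_symp (Fintype.card F) m hq3 hm))

end Criterion

end Cfsg.Agent.Helper8.GrAut
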