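import Mathlib
import Cfsg.Agent.Helper8.GrInvC

set_option autoImplicit false
set_option linter.unusedSectionVars false

/-!
# Involutory graph automorphisms of orthogonal groups, part F: determinants of matrices whose square
is a scalar

In dimension `2k` a matrix `M` with `M² = μ` has determinant `(-μ)^k` as soon as `M` is conjugate
to `-M`, or `μ` is not a square.
-/

namespace Cfsg.Agent.Helper8.GrInv

open Module Matrix Polynomial

section SqScalar

variable {F : Type*} [Field F] {ι : Type} [Fintype ι] [DecidableEq ι]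

theorem map_C_mul (N N' : Matrix ι ι F) :
    (N * N').map (C : F →+* F[X]) = N.map C * N'.map (C : F →+* F[X]) :=
  Matrix.map_mul

/-- `(X - M)(X + M) = X² - μ` -/
theorem charmatrix_mul (M : Matrix ι ι F) (μ : F) (hM2 : M * M = μ • (1 : Matrix ι ι F)) :
    (Matrix.scalar ι (X : F[X]) - M.map C) * (Matrix.scalar ι (X : F[X]) + M.map C)
      = Matrix.scalar ι ((X : F[X]) ^ 2 - C μ) := by
  have e2 : Matrix.scalar ι (X : F[X]) * M.map C = M.map C * Matrix.scalar ι (X : F[X]) :=
    (Matrix.scalar_commute _ (fun r' => Commute.all _ _) _)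
  rw [Matrix.sub_mul, Matrix.mul_add, Matrix.mul_add, e2, ← map_C_mul, hM2]
  have e3 : (μ • (1 : Matrix ι ι F)).map C = Matrix.scalar ι (C μ : F[X]) := by
    ext i j
    simp [Matrix.map_apply, Matrix.one_apply, Matrix.scalar_apply, Matrix.diagonal_apply]
    split_ifs <;> simp
  rw [e3, ← map_mul, ← pow_two, map_sub]
  abel

theorem det_charmatrix_mul (M : Matrix ι ι F) (μ : F) (hM2 : M * M = μ • (1 : Matrix ι ι F)) :
    (Matrix.scalar ι (X : F[X]) - M.map C).det * (Matrix.scalar ι (X : F[X]) + M.map C).det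
      = ((X : F[X]) ^ 2 - C μ) ^ Fintype.card ι := by
  rw [← Matrix.det_mul, charmatrix_mul M μ hM2, Matrix.scalar_apply, Matrix.det_diagonal,
    Finset.prod_const, Finset.card_univ]

theorem det_X_add_eq (M : Matrix ι ι F) :
    (Matrix.scalar ι (X : F[X]) + M.map C).det = (-M).charpoly := by
  rw [Matrix.charpoly, Matrix.charmatrix]
  congr 1
  rw [sub_eq_add_neg]
  congr 1
  ext i j
  simp [Matrix.map_apply]

theorem eval_det_X_add (M : Matrix ι ι F) :
    Polynomial.eval 0 (Matrix.scalar ι (X : F[X]) + M.map C).det = M.det := by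
  have : Polynomial.eval 0 (Matrix.scalar ι (X : F[X]) + M.map C).det
      = ((Polynomial.evalRingHom (0 : F)).mapMatrix
        (Matrix.scalar ι (X : F[X]) + M.map C)).det := by
    rw [← RingHom.map_det]
    rfl
  rw [this]
  congr 1
  ext i j
  simp only [RingHom.mapMatrix_apply, Matrix.map_apply, Matrix.add_apply, Matrix.scalar_apply,
    Matrix.diagonal_apply, Polynomial.coe_evalRingHom, Polynomial.eval_add, Polynomial.eval_C]
  split_ifs <;> simp

/-- **if `X + M` and `X - M` have the same determinant and `M² = μ`, then `det M = (-μ)^k`.** -/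
theorem det_of_charpoly_sym (h2 : (2 : F) ≠ 0) (M : Matrix ι ι F) (μ : F)
    (hM2 : M * M = μ • (1 : Matrix ι ι F))
    (hsym : (Matrix.scalar ι (X : F[X]) + M.map C).det
      = (Matrix.scalar ι (X : F[X]) - M.map C).det)
    (k : ℕ) (hk : Fintype.card ι = 2 * k) : M.det = (-μ) ^ k := by
  obtain ⟨A, hA⟩ : ∃ A : Matrix ι ι F[X], A = Matrix.scalar ι (X : F[X]) + M.map C := ⟨_, rfl⟩
  have hdet := det_charmatrix_mul M μ hM2
  rw [← hsym, ← hA, hk] at hdet
  obtain ⟨P, hP⟩ : ∃ P : F[X], P = ((X : F[X]) ^ 2 - C μ) ^ k := ⟨_, rfl⟩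
  have hsq : A.det ^ 2 = P ^ 2 := by
    rw [hP, ← pow_mul, mul_comm k 2, ← hdet, pow_two]
  have hAchar : A.det = (-M).charpoly := by rw [hA]; exact det_X_add_eq M
  have hmonic : A.det.Monic := by
    rw [hAchar]
    exact Matrix.charpoly_monic _
  have hdeg : A.det.natDegree = 2 * k := by
    rw [hAchar, Matrix.charpoly_natDegree_eq_dim, hk]
  have hPm : P.Monic := by
    rw [hP]
    apply Monic.pow
    exact monic_X_pow_sub_C μ (by norm_num)
  have hPdeg : P.natDegree = 2 * k := by
    rw [hP, natDegree_pow, natDegree_X_pow_sub_C, mul_comm]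
  have hcases : A.det = P ∨ A.det = -P := sq_eq_sq_iff_eq_or_eq_neg.mp hsq
  have hAP : A.det = P := by
    rcases hcases with h | h
    · exact h
    · exfalso
      have hl := congrArg (fun p : F[X] => p.coeff (2 * k)) h
      simp only [coeff_neg] at hl
      have e1 : A.det.coeff (2 * k) = 1 := by
        have := hmonic.coeff_natDegree
        rwa [hdeg] at this
      have e2 : P.coeff (2 * k) = 1 := by
        have := hPm.coeff_natDegree
        rwa [hPdeg] at this
      rw [e1, e2] at hl
      apply h2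
      linear_combination hl
  have hev := congrArg (Polynomial.eval 0) hAP
  rw [hA, eval_det_X_add, hP] at hev
  rw [hev]
  simp

/-- **a matrix `M` with `M² = μ` conjugate to `-M` has determinant `(-μ)^k`.** -/
theorem det_of_anticomm (h2 : (2 : F) ≠ 0) (M d : Matrix ι ι F) (μ : F)
    (hM2 : M * M = μ • (1 : Matrix ι ι F)) (hd : d.det ≠ 0) (hanti : d * M = -(M * d))
    (k : ℕ) (hk : Fintype.card ι = 2 * k) : M.det = (-μ) ^ k := by
  apply det_of_charpoly_sym h2 M μ hM2 _ k hk
  have e2 : Matrix.scalar ι (X : F[X]) * d.map C = d.map C * Matrix.scalar ι (X : F[X]) :=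
    (Matrix.scalar_commute _ (fun r' => Commute.all _ _) _)
  have e3 : (-(M * d)).map (C : F →+* F[X]) = -(M.map C * d.map C) := by
    rw [← map_C_mul]
    ext i j
    rw [Matrix.map_apply, Matrix.neg_apply, Matrix.neg_apply, Matrix.map_apply, map_neg]
  have h1 : d.map C * (Matrix.scalar ι (X : F[X]) + M.map C)
      = (Matrix.scalar ι (X : F[X]) - M.map C) * d.map C := by
    rw [Matrix.mul_add, Matrix.sub_mul, ← e2, ← map_C_mul, hanti, e3, sub_eq_add_neg]
  have hdet := congrArg Matrix.det h1
  rw [Matrix.det_mul, Matrix.det_mul] at hdet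
  have hd'det : (d.map (C : F →+* F[X])).det = C d.det := by
    rw [← RingHom.mapMatrix_apply, ← RingHom.map_det]
  have hCd : (C d.det : F[X]) ≠ 0 := by
    rw [Ne, C_eq_zero]
    exact hd
  rw [hd'det] at hdet
  apply mul_left_cancel₀ hCd
  rw [hdet, mul_comm]

/-- **a matrix `M` with `M² = τ` not a square has determinant `(-τ)^k`.** -/
theorem det_of_sq_nonsquare (M : Matrix ι ι F) (τ : F) (hτ : ¬ IsSquare τ)
    (hM2 : M * M = τ • (1 : Matrix ι ι F)) (k : ℕ) (hk : Fintype.card ι = 2 * k) :
    M.det = (-τ) ^ k := by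
  obtain ⟨A, hA⟩ : ∃ A : Matrix ι ι F[X], A = Matrix.scalar ι (X : F[X]) + M.map C := ⟨_, rfl⟩
  have hdet := det_charmatrix_mul M τ hM2
  rw [← hA] at hdet
  obtain ⟨q, hq⟩ : ∃ q : F[X], q = (X : F[X]) ^ 2 - C τ := ⟨_, rfl⟩
  rw [← hq] at hdet
  have hirr : Irreducible q := by
    rw [hq]
    exact X_pow_sub_C_irreducible_of_prime Nat.prime_two
      (fun b hb => hτ ⟨b, by rw [← hb]; ring⟩)
  have hdvd : A.det ∣ q ^ Fintype.card ι := Dvd.intro_left _ hdet
  obtain ⟨j, -, hassoc⟩ := (dvd_prime_pow hirr.prime _).mp hdvd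
  have hAchar : A.det = (-M).charpoly := by rw [hA]; exact det_X_add_eq M
  have hmonic : A.det.Monic := by
    rw [hAchar]
    exact Matrix.charpoly_monic _
  have hdeg : A.det.natDegree = 2 * k := by
    rw [hAchar, Matrix.charpoly_natDegree_eq_dim, hk]
  have hqm : q.Monic := by
    rw [hq]
    exact monic_X_pow_sub_C τ (by norm_num)
  have heq : A.det = q ^ j := eq_of_monic_of_associated hmonic (hqm.pow j) hassoc
  have hjk : j = k := by
    have h1 := congrArg Polynomial.natDegree heq
    rw [hdeg, natDegree_pow, hq, natDegree_X_pow_sub_C] at h1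
    omega
  have hev := congrArg (Polynomial.eval 0) heq
  rw [hA, eval_det_X_add, hq, hjk] at hev
  rw [hev]
  simp

end SqScalar

end Cfsg.Agent.Helper8.GrInv
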