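import Mathlib
import Cfsg.Agent.Helper8.GrInvF

set_option autoImplicit false
set_option linter.unusedSectionVars false

/-!
# Involutory graph automorphisms of orthogonal groups, part G: a similarity commuting with an
involutive isometry of determinant `-1` has square multiplier
-/

namespace Cfsg.Agent.Helper8.GrInv

open Module Matrix

section Commuting

variable {F : Type*} [Field F] {ι : Type} [Fintype ι] [DecidableEq ι]

/-- the matrix `t P₊ + P₋` for the involution `G`, written without the projections. -/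
noncomputable def eigMat (G : Matrix ι ι F) (t : F) : Matrix ι ι F :=
  ((t + 1) / 2) • (1 : Matrix ι ι F) + ((t - 1) / 2) • G

theorem eigMat_mul (h2 : (2 : F) ≠ 0) (G : Matrix ι ι F) (hG2 : G * G = 1) (t s : F) :
    eigMat G t * eigMat G s = eigMat G (t * s) := by
  unfold eigMat
  rw [Matrix.add_mul, Matrix.mul_add, Matrix.mul_add, Matrix.smul_mul, Matrix.smul_mul,
    Matrix.smul_mul, Matrix.smul_mul, Matrix.mul_smul, Matrix.mul_smul, Matrix.mul_smul,
    Matrix.mul_smul, Matrix.one_mul, Matrix.one_mul, Matrix.mul_one, hG2, smul_smul, smul_smul,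
    smul_smul, smul_smul]
  have e1 : (t * s + 1) / 2 = (t + 1) / 2 * ((s + 1) / 2) + (t - 1) / 2 * ((s - 1) / 2) := by
    field_simp
    ring
  have e2 : (t * s - 1) / 2 = (t + 1) / 2 * ((s - 1) / 2) + (t - 1) / 2 * ((s + 1) / 2) := by
    field_simp
    ring
  rw [e1, e2, add_smul, add_smul]
  abel

theorem eigMat_one (h2 : (2 : F) ≠ 0) (G : Matrix ι ι F) : eigMat G 1 = 1 := by
  unfold eigMat
  rw [sub_self, zero_div, zero_smul, add_zero]
  have : ((1 : F) + 1) / 2 = 1 := by
    field_simp
    norm_num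
  rw [this, one_smul]

theorem eigMat_neg_one (h2 : (2 : F) ≠ 0) (G : Matrix ι ι F) : eigMat G (-1) = -G := by
  unfold eigMat
  rw [neg_add_cancel, zero_div, zero_smul, zero_add]
  have : ((-1 : F) - 1) / 2 = -1 := by
    field_simp
    norm_num
  rw [this, neg_smul, one_smul]

theorem eigMat_pow (h2 : (2 : F) ≠ 0) (G : Matrix ι ι F) (hG2 : G * G = 1) (t : F) (n : ℕ) :
    eigMat G (t ^ n) = eigMat G t ^ n := by
  induction n with
  | zero => rw [pow_zero, pow_zero, eigMat_one h2]
  | succ n ih => rw [pow_succ, pow_succ, ← eigMat_mul h2 G hG2, ih]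

/-- **a similarity commuting with an involutive isometry of determinant `-1` has square
multiplier** (even dimension). -/
theorem isSquare_of_commuting [Fintype F] (h2 : (2 : F) ≠ 0) (Q : QuadraticForm F (ι → F))
    (hQ : (QuadraticMap.polarBilin Q).Nondegenerate)
    (G d : Matrix ι ι F) (hG2 : G * G = 1) (hGQ : ∀ v, Q (G *ᵥ v) = Q v) (hGdet : G.det = -1)
    (lam : F) (hlam : lam ≠ 0) (hdQ : ∀ v, Q (d *ᵥ v) = lam * Q v) (hcomm : d * G = G * d)
    (heven : Even (Fintype.card ι)) : IsSquare lam := by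
  obtain ⟨B, hB⟩ : ∃ B : LinearMap.BilinForm F (ι → F), B = QuadraticMap.polarBilin Q := ⟨_, rfl⟩
  obtain ⟨J, hJ⟩ : ∃ J : Matrix ι ι F, J = LinearMap.BilinForm.toMatrix' B := ⟨_, rfl⟩
  have hJdet : J.det ≠ 0 := by
    rw [hJ, ← Matrix.nondegenerate_iff_det_ne_zero,
      LinearMap.BilinForm.nondegenerate_toMatrix'_iff, hB]
    exact hQ
  -- the similarity relation
  have hdJ : dᵀ * J * d = lam • J := by
    have hcomp : B.comp (Matrix.toLin' d) (Matrix.toLin' d) = lam • B := by
      refine LinearMap.ext fun x => LinearMap.ext fun y => ?_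
      rw [hB]
      show QuadraticMap.polar Q (Matrix.toLin' d x) (Matrix.toLin' d y)
        = lam * QuadraticMap.polar Q x y
      rw [Matrix.toLin'_apply, Matrix.toLin'_apply]
      unfold QuadraticMap.polar
      rw [← Matrix.mulVec_add, hdQ, hdQ, hdQ]
      ring
    have hmat := congrArg LinearMap.BilinForm.toMatrix' hcomp
    rw [LinearMap.BilinForm.toMatrix'_comp, LinearMap.toMatrix'_toLin', map_smul] at hmat
    rw [hJ]
    exact hmat
  -- the involution is self-adjoint
  have hGJ : Gᵀ * J = J * G := by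
    have hpol : ∀ x y, QuadraticMap.polar Q (G *ᵥ x) (G *ᵥ y) = QuadraticMap.polar Q x y := by
      intro x y
      unfold QuadraticMap.polar
      rw [← Matrix.mulVec_add, hGQ, hGQ, hGQ]
    have := transpose_mul_gram Q G 1 (fun x y => by
      rw [one_mul]
      conv_lhs => rw [← Matrix.one_mulVec y, ← hG2, ← Matrix.mulVec_mulVec]
      exact hpol x (G *ᵥ y))
    rw [one_smul, ← hB, ← hJ] at this
    exact this
  -- the projections
  obtain ⟨P, hP⟩ : ∃ P : Matrix ι ι F, P = (2 : F)⁻¹ • (1 + G) := ⟨_, rfl⟩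
  obtain ⟨R, hR⟩ : ∃ R : Matrix ι ι F, R = (2 : F)⁻¹ • (1 - G) := ⟨_, rfl⟩
  have h4 : (2 : F)⁻¹ * (2 : F)⁻¹ * 2 = (2 : F)⁻¹ := by field_simp
  have hPP : P * P = P := by
    rw [hP, Matrix.smul_mul, Matrix.mul_smul, smul_smul]
    have : (1 + G) * (1 + G) = (2 : F) • (1 + G) := by
      rw [Matrix.add_mul, Matrix.mul_add, Matrix.mul_add, hG2, Matrix.one_mul, Matrix.one_mul,
        Matrix.mul_one, two_smul]
      abel
    rw [this, smul_smul, h4]
  have hRR : R * R = R := by
    rw [hR, Matrix.smul_mul, Matrix.mul_smul, smul_smul]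
    have : (1 - G) * (1 - G) = (2 : F) • (1 - G) := by
      rw [Matrix.sub_mul, Matrix.mul_sub, Matrix.mul_sub, hG2, Matrix.one_mul, Matrix.one_mul,
        Matrix.mul_one, two_smul]
      abel
    rw [this, smul_smul, h4]
  have hPR : P * R = 0 := by
    rw [hP, hR, Matrix.smul_mul, Matrix.mul_smul, smul_smul]
    have : (1 + G) * (1 - G) = 0 := by
      rw [Matrix.add_mul, Matrix.mul_sub, Matrix.mul_sub, hG2, Matrix.one_mul, Matrix.one_mul,
        Matrix.mul_one]
      abel
    rw [this, smul_zero]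
  have hRP : R * P = 0 := by
    rw [hP, hR, Matrix.smul_mul, Matrix.mul_smul, smul_smul]
    have : (1 - G) * (1 + G) = 0 := by
      rw [Matrix.sub_mul, Matrix.mul_add, Matrix.mul_add, hG2, Matrix.one_mul, Matrix.one_mul,
        Matrix.mul_one]
      abel
    rw [this, smul_zero]
  have hPJ : Pᵀ * J = J * P := by
    rw [hP, Matrix.transpose_smul, Matrix.transpose_add, Matrix.transpose_one, Matrix.smul_mul,
      Matrix.mul_smul, Matrix.add_mul, Matrix.mul_add, hGJ, Matrix.one_mul, Matrix.mul_one]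
  have hRJ : Rᵀ * J = J * R := by
    rw [hR, Matrix.transpose_smul, Matrix.transpose_sub, Matrix.transpose_one, Matrix.smul_mul,
      Matrix.mul_smul, Matrix.sub_mul, Matrix.mul_sub, hGJ, Matrix.one_mul, Matrix.mul_one]
  have hPd : P * d = d * P := by
    rw [hP, Matrix.smul_mul, Matrix.mul_smul, Matrix.add_mul, Matrix.mul_add, hcomm,
      Matrix.one_mul, Matrix.mul_one]
  have heig : eigMat G lam = lam • P + R := by
    unfold eigMat
    rw [hP, hR, smul_add, smul_sub, smul_add, smul_smul, smul_smul]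
    have e1 : (lam + 1) / 2 = lam * 2⁻¹ + 2⁻¹ := by field_simp
    have e2 : (lam - 1) / 2 = lam * 2⁻¹ - 2⁻¹ := by field_simp
    rw [e1, e2, add_smul, sub_smul]
    abel
  -- the key identity
  obtain ⟨N, hN⟩ : ∃ N : Matrix ι ι F, N = P * d + R := ⟨_, rfl⟩
  have hkey : Nᵀ * J * N = J * eigMat G lam := by
    rw [heig, hN, Matrix.transpose_add, Matrix.transpose_mul]
    have t1 : dᵀ * Pᵀ * J * (P * d) = lam • (J * P) := by
      calc dᵀ * Pᵀ * J * (P * d) = dᵀ * (Pᵀ * J) * (P * d) := by
            simp only [Matrix.mul_assoc]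
        _ = dᵀ * (J * P) * (P * d) := by rw [hPJ]
        _ = dᵀ * J * (P * P) * d := by simp only [Matrix.mul_assoc]
        _ = dᵀ * J * (P * d) := by rw [hPP]; simp only [Matrix.mul_assoc]
        _ = dᵀ * J * d * P := by rw [hPd]; simp only [Matrix.mul_assoc]
        _ = lam • (J * P) := by rw [hdJ, Matrix.smul_mul]
    have t2 : dᵀ * Pᵀ * J * R = 0 := by
      calc dᵀ * Pᵀ * J * R = dᵀ * (Pᵀ * J) * R := by simp only [Matrix.mul_assoc]
        _ = dᵀ * J * (P * R) := by rw [hPJ]; simp only [Matrix.mul_assoc]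
        _ = 0 := by rw [hPR, Matrix.mul_zero]
    have t3 : Rᵀ * J * (P * d) = 0 := by
      calc Rᵀ * J * (P * d) = J * (R * P) * d := by rw [hRJ]; simp only [Matrix.mul_assoc]
        _ = 0 := by rw [hRP, Matrix.mul_zero, Matrix.zero_mul]
    have t4 : Rᵀ * J * R = J * R := by
      rw [hRJ, Matrix.mul_assoc, hRR]
    rw [Matrix.add_mul, Matrix.add_mul, Matrix.mul_add, Matrix.mul_add, t1, t2, t3, t4,
      Matrix.mul_add, Matrix.mul_smul]
    abel
  have hdet := congrArg Matrix.det hkey
  rw [Matrix.det_mul, Matrix.det_mul, Matrix.det_transpose, Matrix.det_mul] at hdet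
  have hE : (eigMat G lam).det = N.det * N.det := by
    apply mul_left_cancel₀ hJdet
    rw [← hdet]
    ring
  -- Euler's criterion
  by_contra hns
  have hchar : ringChar F ≠ 2 := by
    intro h
    apply h2
    have : CharP F 2 := ringChar.of_eq h
    exact_mod_cast CharP.cast_eq_zero F 2
  have hlamq : lam ^ (Fintype.card F / 2) = -1 := by
    rcases FiniteField.pow_dichotomy hchar hlam with h | h
    · exact absurd ((FiniteField.isSquare_iff hchar hlam).mpr h) hns
    · exact h
  have h1 : (eigMat G lam).det ^ (Fintype.card F / 2) = -1 := by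
    rw [← Matrix.det_pow, ← eigMat_pow h2 G hG2, hlamq, eigMat_neg_one h2, Matrix.det_neg,
      heven.neg_one_pow, one_mul, hGdet]
  have hE0 : (eigMat G lam).det ≠ 0 := by
    intro h0
    rw [h0, zero_pow] at h1
    · have : (1 : F) = 0 := by linear_combination h1
      exact one_ne_zero this
    · have hcard : 1 < Fintype.card F := Fintype.one_lt_card
      have hodd : Fintype.card F % 2 = 1 := FiniteField.odd_card_of_char_ne_two hchar
      omega
  have h3 : (eigMat G lam).det ^ (Fintype.card F / 2) = 1 :=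
    (FiniteField.isSquare_iff hchar hE0).mp ⟨N.det, hE⟩
  rw [h3] at h1
  apply h2
  linear_combination h1

end Commuting

end Cfsg.Agent.Helper8.GrInv
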