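import Mathlib
import Cfsg.Agent.Helper8.GrInvE
import Cfsg.Agent.Helper8.GrInvG

set_option autoImplicit false
set_option linter.unusedSectionVars false
set_option linter.style.haveILetI false

/-!
# Involutory graph automorphisms of orthogonal groups, part H: when `-1 ∉ Ω` and the dimension is
divisible by four, the centralizer of an involutory graph automorphism in the inner-diagonal group
consists of inner automorphisms
-/

namespace Cfsg.Agent.Helper8.GrInv

open Module Matrix Cfsg.Agent.Helper8.QuadForm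
  Cfsg.Agent.Helper8.ReflMatrix Cfsg.Agent.Helper8.Reflections
  Cfsg.Agent.Helper8.AutImagePsi Cfsg.Agent.Helper8.AutImageOrth
  Cfsg.Agent.Helper8.AutImage Cfsg.Agent.Helper8.AutImageKer
  Cfsg.Agent.Helper8.AutImageIdx Cfsg.Agent.Helper8.AutImageD8
  Cfsg.Agent.Helper8.OmegaOdd Cfsg.Agent.Helper8.Cls Cfsg.Agent.Helper8.InnDiagGen
  Cfsg.Agent.Helper8.AutO

variable {F : Type*} [Field F] [Fintype F] {ι : Type} [Fintype ι] [DecidableEq ι]
  (Q : QuadraticForm F (ι → F)) (h2 : (2 : F) ≠ 0)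
  (hQ : (QuadraticMap.polarBilin Q).Nondegenerate) (hne : ∃ v, Q v ≠ 0) (k : ℕ)
  (hk : Fintype.card ι = 2 * k) (h5 : 5 ≤ Fintype.card ι)

include h2 hQ hk h5 in
/-- a similarity with `det = μ^k` inducing an automorphism that commutes with the graph
involution has square multiplier, when `k` is even. -/
theorem isSquare_mult_of_commute (hkeven : Even k)
    (g d : ↥(Cfsg.Geo.quadSimilarityGroup (F := F) ⇑Q))
    (hgg : Phi ⇑Q (g * g) = 1)
    (hdet : ((g : GL ι F) : Matrix ι ι F).det ≠ ((mult ⇑Q hne g : Fˣ) : F) ^ k)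
    (hcomm : Phi ⇑Q d * Phi ⇑Q g = Phi ⇑Q g * Phi ⇑Q d) :
    IsSquare ((mult ⇑Q hne d : Fˣ) : F) := by
  obtain ⟨M, hM⟩ : ∃ M : Matrix ι ι F, M = ((g : GL ι F) : Matrix ι ι F) := ⟨_, rfl⟩
  obtain ⟨D, hD⟩ : ∃ D : Matrix ι ι F, D = ((d : GL ι F) : Matrix ι ι F) := ⟨_, rfl⟩
  obtain ⟨τ, hτdef⟩ : ∃ τ : F, τ = ((mult ⇑Q hne g : Fˣ) : F) := ⟨_, rfl⟩
  obtain ⟨lam, hlamdef⟩ : ∃ lam : F, lam = ((mult ⇑Q hne d : Fˣ) : F) := ⟨_, rfl⟩
  rw [← hM, ← hτdef] at hdet
  rw [← hlamdef]
  have hτ0 : τ ≠ 0 := by rw [hτdef]; exact Units.ne_zero _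
  have hlam0 : lam ≠ 0 := by rw [hlamdef]; exact Units.ne_zero _
  have hτ : ∀ v, Q (M *ᵥ v) = τ * Q v := by
    intro v
    rw [hM, hτdef]
    exact mult_spec ⇑Q hne g v
  have hlam : ∀ v, Q (D *ᵥ v) = lam * Q v := by
    intro v
    rw [hD, hlamdef]
    exact mult_spec ⇑Q hne d v
  have hDdet : D.det ≠ 0 := by
    rw [hD]
    exact (Matrix.GeneralLinearGroup.det (d : GL ι F)).ne_zero
  -- `M² = c`
  obtain ⟨c, hc⟩ := (Phi_eq_one_iff Q h2 hQ h5 (g * g)).mp hgg
  rw [Subgroup.coe_mul, Units.val_mul, ← hM] at hc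
  -- `D M = s M D`
  have hcomm' : Phi ⇑Q (d * g * d⁻¹ * g⁻¹) = 1 := by
    rw [map_mul, map_mul, map_mul, map_inv, map_inv, hcomm]
    group
  obtain ⟨s, hs⟩ := (Phi_eq_one_iff Q h2 hQ h5 _).mp hcomm'
  have hDM : D * M = s • (M * D) := by
    have h1 : ((d * g * d⁻¹ * g⁻¹ : ↥(Cfsg.Geo.quadSimilarityGroup (F := F) ⇑Q)) : GL ι F)
        * ((g : GL ι F) * (d : GL ι F)) = (d : GL ι F) * (g : GL ι F) := by
      rw [Subgroup.coe_mul, Subgroup.coe_mul, Subgroup.coe_mul, Subgroup.coe_inv,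
        Subgroup.coe_inv]
      group
    have h3 := congrArg (fun x : GL ι F => (x : Matrix ι ι F)) h1
    simp only [Units.val_mul] at h3
    rw [hs, ← hM, ← hD, Matrix.smul_mul, Matrix.one_mul] at h3
    exact h3.symm
  -- the determinant of `M`
  have hMdet : M.det = -τ ^ k := by
    rcases det_cases Q hQ hne k hk g with h | h
    · rw [← hM, ← hτdef] at h
      exact absurd h hdet
    · rw [← hM, ← hτdef] at h
      exact h
  rcases sq_scalar_eq Q hne M τ c hτ hc with hcτ | hcτ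
  swap
  · exfalso
    apply hdet
    have hc0 : c ≠ 0 := by rw [hcτ]; exact neg_ne_zero.mpr hτ0
    have hskew : ∀ x y, QuadraticMap.polar Q (M *ᵥ x) y = - QuadraticMap.polar Q x (M *ᵥ y) := by
      intro x y
      rw [adjoint_of_sq Q M τ c hc0 hτ hc, hcτ, div_neg, div_self hτ0, neg_one_mul]
    rw [det_of_skew Q hQ h2 M c hc hskew k hk, hcτ, neg_neg]
  · subst hcτ
    by_cases hsq : IsSquare c
    swap
    · exfalso
      apply hdet
      rw [det_of_sq_nonsquare M c hsq hc k hk, hkeven.neg_pow]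
    · obtain ⟨ν, hν⟩ := hsq
      have hν0 : ν ≠ 0 := by
        rintro rfl
        rw [mul_zero] at hν
        exact hτ0 hν
      obtain ⟨G, hG⟩ : ∃ G : Matrix ι ι F, G = ν⁻¹ • M := ⟨_, rfl⟩
      have hG2 : G * G = 1 := by
        rw [hG, Matrix.smul_mul, Matrix.mul_smul, smul_smul, hc, smul_smul, hν]
        have : ν⁻¹ * ν⁻¹ * (ν * ν) = 1 := by field_simp
        rw [this, one_smul]
      have hGQ : ∀ v, Q (G *ᵥ v) = Q v := by
        intro v
        rw [hG, Matrix.smul_mulVec, QuadraticMap.map_smul, hτ, hν, smul_eq_mul]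
        field_simp
      have hGdet : G.det = -1 := by
        rw [hG, Matrix.det_smul, hMdet, hk, hν]
        have : (ν⁻¹) ^ (2 * k) * -(ν * ν) ^ k = -((ν⁻¹ * ν) ^ (2 * k)) := by
          rw [mul_pow, mul_pow, pow_mul, pow_mul, ← pow_two]
          ring
        rw [this, inv_mul_cancel₀ hν0, one_pow]
      have hDG : D * G = s • (G * D) := by
        rw [hG, Matrix.mul_smul, hDM, Matrix.smul_mul, smul_comm]
      -- `s² = 1`
      have hs2 : s * s = 1 := by
        obtain ⟨v₀, hv₀⟩ := hne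
        have hw : D *ᵥ v₀ ≠ 0 := by
          intro h0
          have := hlam v₀
          rw [h0, QuadraticMap.map_zero] at this
          exact mul_ne_zero hlam0 hv₀ this.symm
        have h1 : D * G * G = (s * s) • D := by
          rw [hDG, Matrix.smul_mul, Matrix.mul_assoc, hDG, Matrix.mul_smul, smul_smul,
            ← Matrix.mul_assoc, hG2, Matrix.one_mul]
        rw [Matrix.mul_assoc, hG2, Matrix.mul_one] at h1
        have h3 := congrArg (fun X : Matrix ι ι F => X *ᵥ v₀) h1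
        simp only [Matrix.smul_mulVec] at h3
        have h4 : (1 : F) • (D *ᵥ v₀) = (s * s) • (D *ᵥ v₀) := by rw [one_smul]; exact h3
        exact (smul_left_injective F hw h4).symm
      have hs1 : s = 1 ∨ s = -1 := by
        have : (s - 1) * (s + 1) = 0 := by linear_combination hs2
        rcases mul_eq_zero.mp this with h | h
        · exact Or.inl (sub_eq_zero.mp h)
        · exact Or.inr (eq_neg_of_add_eq_zero_left h)
      have heven : Even (Fintype.card ι) := by rw [hk]; exact even_two_mul k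
      rcases hs1 with rfl | rfl
      · rw [one_smul] at hDG
        exact isSquare_of_commuting h2 Q hQ G D hG2 hGQ hGdet lam hlam0 hlam hDG heven
      · exfalso
        rw [neg_smul, one_smul] at hDG
        have := det_of_anticomm h2 G D 1 (by rw [hG2, one_smul]) hDdet hDG k hk
        rw [hGdet, hkeven.neg_pow, one_pow] at this
        apply h2
        linear_combination (-1 : F) * this

include h2 h5 in
/-- **the class of an involutory graph automorphism when `-1 ∉ Ω` and `k` is even**: it splits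
into two classes under the inner automorphisms. -/
theorem count_graph_involution_even
    (hd : ∃ d : ↥(Cfsg.Geo.quadSimilarityGroup (F := F) ⇑Q),
      ¬ IsSquare ((mult ⇑Q hne d : Fˣ) : F))
    (hneg : ¬ ∃ g : ↥(Cfsg.isometryGroup F ⇑Q), g ∈ Cfsg.Omega F ⇑Q ∧
      ((g : GL ι F) : Matrix ι ι F) = -1)
    (hkeven : Even k)
    (g : ↥(Cfsg.Geo.quadSimilarityGroup (F := F) ⇑Q))
    (hgg : Phi ⇑Q (g * g) = 1)
    (hdet : ((g : GL ι F) : Matrix ι ι F).det ≠ ((mult ⇑Q hne g : Fˣ) : F) ^ k) :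
    Cfsg.splitClassCount (cpAut Q hQ hne k hk) (Cfsg.Inn (Cfsg.POmega F ⇑Q)) (Phi ⇑Q g) = 2 := by
  classical
  have heven : Even (Fintype.card ι) := by rw [hk]; exact even_two_mul k
  have hInnG := Inn_le_cpAut Q hQ hne k hk
  have hInnP : Cfsg.Inn (Cfsg.POmega F ⇑Q) ≤ Cfsg.psoAut F ⇑Q := Inn_le_pso Q
  have hPG := pso_le_cpAut Q h2 hQ hne k hk h5
  have hPGi := relIndex_pso_cpAut Q h2 hQ hne k hk h5 hd
  have hIP := (relIndex_Inn_psoAut Q h2 hQ h5 heven).2 hneg
  have hPI : Cfsg.psoAut F ⇑Q ≤ Cfsg.Inn (Cfsg.POmega F ⇑Q) := Subgroup.relIndex_eq_one.mp hIP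
  have hX : cpAut Q hQ hne k hk ⊓ Subgroup.centralizer {Phi ⇑Q g}
      ≤ Cfsg.Inn (Cfsg.POmega F ⇑Q) := by
    rintro x ⟨hxG, hxC⟩
    have hxG' : x ∈ cpAut Q hQ hne k hk := hxG
    have hxC' : x ∈ Subgroup.centralizer {Phi ⇑Q g} := hxC
    clear hxG hxC
    rw [cpAut_eq_range_PhiD Q hQ hne k hk h2] at hxG'
    obtain ⟨d, rfl⟩ := hxG'
    have hcommute : Phi ⇑Q d.1 * Phi ⇑Q g = Phi ⇑Q g * Phi ⇑Q d.1 := by
      have := Subgroup.mem_centralizer_singleton_iff.mp hxC'
      rw [PhiD_apply] at this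
      exact this
    have hs := isSquare_mult_of_commute Q h2 hQ hne k hk h5 hkeven g d.1 hgg hdet hcommute
    apply hPI
    rw [← map_ker_psi1D Q h2 hQ hne k hk h5]
    refine Subgroup.mem_map_of_mem _ ?_
    rw [MonoidHom.mem_ker, psi1D_apply, psi1_eq_one_iff]
    exact hs
  rw [Cfsg.Agent.Helper8.SplitClass.splitClassCount_eq_relIndex _ _ hInnG (Phi ⇑Q g),
    sup_eq_left.mpr hX, ← Subgroup.relIndex_mul_relIndex _ _ _ hInnP hPG, hIP, hPGi]

end Cfsg.Agent.Helper8.GrInv
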