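import Mathlib
import Cfsg.Agent.Helper8.AutOzu

set_option autoImplicit false
set_option linter.unusedSectionVars false
set_option linter.style.haveILetI false

/-!
# Involutory graph automorphisms of orthogonal groups, part I: every involutory automorphism of
`PΩ⁻_{2k+2}(q)`, `q` odd, is induced by a linear similarity
-/

namespace Cfsg.Agent.Helper8.GrInv

open Module Matrix Cfsg.Agent.Helper8.QuadForm Cfsg.Agent.Helper8.WittQuad
  Cfsg.Agent.Helper8.OrthOrder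
  Cfsg.Agent.Helper8.Siegel Cfsg.Agent.Helper8.SiegelGeom Cfsg.Agent.Helper8.SiegelGroup
  Cfsg.Agent.Helper8.SiegelPrim Cfsg.Agent.Helper8.SiegelSimple Cfsg.Agent.Helper8.ReflMatrix
  Cfsg.Agent.Helper8.OmegaSimple Cfsg.Agent.Helper8.AutImagePsi Cfsg.Agent.Helper8.AutImageOrth
  Cfsg.Agent.Helper8.StdForms Cfsg.Agent.Helper8.Reflections Cfsg.Agent.Helper8.AutImage
  Cfsg.Agent.Helper8.AutImageKer Cfsg.Agent.Helper8.AutImageIdx Cfsg.Agent.Helper8.AutImageD8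
  Cfsg.Agent.Helper8.OmegaStd Cfsg.Agent.Helper8.AutO

variable {F : Type*} [Field F] [Fintype F]

set_option maxHeartbeats 1600000 in
/-- **every involutory automorphism of `PΩ⁻_{2k+2}(q)`, `q` odd, `k ≥ 3`, is induced by a linear
similarity.** -/
theorem involution_mem_range_Phi {p f : ℕ} [Fact p.Prime] (hf : 1 ≤ f)
    (hF : Fintype.card F = p ^ f) (hp : p ≠ 2) {k : ℕ} (hk : 3 ≤ k) (a b : F)
    (hab : ∀ z₁ z₂ : F, z₁ ^ 2 + a * z₁ * z₂ + b * z₂ ^ 2 = 0 → z₁ = 0 ∧ z₂ = 0)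
    (Q : QuadraticForm F ((Fin k ⊕ Fin k) ⊕ Fin 2 → F)) (hQdef : Q = minusForm F k a b)
    (γ : MulAut (Cfsg.POmega F ⇑Q)) (hγ2 : γ * γ = 1) :
    ∃ g : ↥(Cfsg.Geo.quadSimilarityGroup (F := F) ⇑Q), Phi ⇑Q g = γ := by
  classical
  have hchar : CharP F p := charP_of_card_eq_prime_pow hF
  have hpodd : Odd p := (Fact.out : p.Prime).odd_of_ne_two hp
  have hodd : Odd (Fintype.card F) := by rw [hF]; exact hpodd.pow
  have h2 : (2 : F) ≠ 0 := two_ne_zero_of_odd hodd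
  have hcard : Fintype.card ((Fin k ⊕ Fin k) ⊕ Fin 2) = 2 * (k + 1) := by
    simp only [Fintype.card_sum, Fintype.card_fin]; ring
  haveI : Nonempty ((Fin k ⊕ Fin k) ⊕ Fin 2) := ⟨Sum.inr 0⟩
  have hQ : (QuadraticMap.polarBilin Q).Nondegenerate := by
    rw [hQdef]; exact minusForm_nondeg F k hab
  have hQ' : Nondeg Q := (nondeg_iff Q).mp hQ
  have hdim : finrank F ((Fin k ⊕ Fin k) ⊕ Fin 2 → F) = 2 * (k + 1) := by
    rw [Module.finrank_fintype_fun_eq_card, hcard]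
  have h5 : 5 ≤ Fintype.card ((Fin k ⊕ Fin k) ⊕ Fin 2) := by rw [hcard]; omega
  have hB2 : 9 ≤ finrank F ((Fin k ⊕ Fin k) ⊕ Fin 2 → F) ∨ NoB2 Q := by
    by_cases h4 : 4 ≤ k
    · left; rw [hdim]; omega
    · right
      obtain rfl : k = 3 := by omega
      rw [hQdef]
      exact noB2_minus hab
  have hsurj : Function.Surjective (Psi (Q := Q)) :=
    Psi_surjective hQ' (by rw [hdim]; omega) p hB2
  have hker : (Psi (Q := Q)).ker ≤ (tau (Q := Q)).ker := by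
    rw [ker_Psi hQ' (by rw [hdim]; omega) p]
    rintro _ ⟨c, rfl⟩
    exact MonoidHom.mem_ker.mpr (tau_scalarGamma c)
  have hne : ∃ v, Q v ≠ 0 := by
    rw [hQdef]; exact Cfsg.Agent.S2726.minus_ne (by omega) a b
  obtain ⟨γ₁, rfl⟩ := PsiM_surjective Q hQ h5 hsurj γ
  have hγ₁ker : γ₁ * γ₁ ∈ (PsiM Q hQ h5).ker := by
    rw [MonoidHom.mem_ker, map_mul]
    exact hγ2
  have hθ2 : tau γ₁ * tau γ₁ = 1 := by
    rw [ker_PsiM] at hγ₁ker
    have := hker hγ₁ker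
    rw [MonoidHom.mem_ker, map_mul] at this
    exact this
  by_cases hθ : tau γ₁ = 1
  · have : γ₁ ∈ (tau (Q := Q)).ker := hθ
    rw [ker_tau] at this
    obtain ⟨g, rfl⟩ := this
    exact ⟨g, (PsiM_simGamma Q hQ h5 g).symm⟩
  exfalso
  -- the Frobenius semilinear map
  obtain ⟨σ, c, d, hσ, hs1, hs2, hQw, hiter⟩ := exists_frob_semi hF hp k hab
  obtain ⟨hσord, hσgen⟩ := frob_generates hF hf hσ
  have hsemi : SemiSim Q (minusSemi k σ c d) σ 1 := by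
    rw [hQdef]; exact semiSim_minusSemi k a b hab σ hs1 hs2
  obtain ⟨γ₀, hγ₀⟩ : ∃ γ₀ : ↥(GammaO Q), γ₀ = mkGamma hsemi := ⟨_, rfl⟩
  have hγ₀gap : gap γ₀ = minusSemi k σ c d := by
    funext v
    rw [hγ₀, gap_mkGamma]
  have hγ₀tau : tau γ₀ = σ := by rw [hγ₀]; exact tau_eq hsemi
  -- the reflection
  obtain ⟨w, hw⟩ : ∃ w : (Fin k ⊕ Fin k) ⊕ Fin 2 → F, w = Sum.elim (fun _ => 0) ![a, -2] :=
    ⟨_, rfl⟩
  have hQw' : Q w ≠ 0 := by rw [hQdef, hw]; exact hQw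
  obtain ⟨ρ, hρ⟩ : ∃ ρ : ↥(Cfsg.Geo.quadSimilarityGroup (F := F) ⇑Q),
      ρ = Subgroup.inclusion (isometry_le_similarity ⇑Q) (reflElt Q w) := ⟨_, rfl⟩
  have hρρ : ρ * ρ = 1 := by
    rw [hρ, ← map_mul, reflElt_mul_self, map_one]
  have hγf : γ₀ ^ f = simGamma Q ρ := by
    apply ext_gap
    intro v
    rw [gap_pow, hγ₀gap, hiter, gap_simGamma, hρ]
    show _ = (((reflElt Q w : ↥(Cfsg.isometryGroup F ⇑Q)) :
      GL ((Fin k ⊕ Fin k) ⊕ Fin 2) F) : Matrix ((Fin k ⊕ Fin k) ⊕ Fin 2) ((Fin k ⊕ Fin k) ⊕ Fin 2) F) *ᵥ v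
    rw [reflElt_val, reflectionMatrix_mulVec, hQdef, hw]
  have hρ2 : psi2 Q h2 hQ hne (k + 1) hcard ρ = -1 := by
    have hρO : (ρ : GL ((Fin k ⊕ Fin k) ⊕ Fin 2) F) ∈ Cfsg.isometryGroup F ⇑Q := by
      rw [hρ]; exact (reflElt Q w).2
    have hρm : mult ⇑Q hne ρ = 1 := mult_of_isometry ⇑Q hne ρ hρO
    have hρdet : ((ρ : GL ((Fin k ⊕ Fin k) ⊕ Fin 2) F) : Matrix ((Fin k ⊕ Fin k) ⊕ Fin 2) ((Fin k ⊕ Fin k) ⊕ Fin 2) F).det = -1 := by
      rw [hρ]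
      show (((reflElt Q w : ↥(Cfsg.isometryGroup F ⇑Q)) :
        GL ((Fin k ⊕ Fin k) ⊕ Fin 2) F) : Matrix ((Fin k ⊕ Fin k) ⊕ Fin 2) ((Fin k ⊕ Fin k) ⊕ Fin 2) F).det = -1
      rw [reflElt_val, det_reflectionMatrix Q hQw']
    rw [psi2_eq_neg_one_iff, hρm, Units.val_one, one_pow, hρdet]
    intro h
    apply h2
    have : (2 : F) = 1 - (-1) := by norm_num
    rw [this, h, sub_self]
  -- the exponent
  haveI : Finite (F ≃+* F) :=
    Finite.of_injective (fun e : F ≃+* F => (e : F → F)) DFunLike.coe_injective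
  obtain ⟨j, hj⟩ : ∃ j : ℕ, σ ^ j = tau γ₁ := by
    have := hσgen (tau γ₁)
    rw [← mem_powers_iff_mem_zpowers] at this
    exact (Submonoid.mem_powers_iff _ _).mp this
  have hf2j : f ∣ 2 * j := by
    rw [← hσord]
    apply orderOf_dvd_of_pow_eq_one
    rw [two_mul, pow_add, hj]
    exact hθ2
  have hfj : ¬ f ∣ j := by
    rw [← hσord, orderOf_dvd_iff_pow_eq_one, hj]
    exact hθ
  obtain ⟨t, ht⟩ := hf2j
  have htodd : Odd t := by
    rw [← Nat.not_even_iff_odd]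
    rintro ⟨u, hu⟩
    apply hfj
    refine ⟨u, ?_⟩
    rw [hu] at ht
    have : 2 * j = 2 * (f * u) := by rw [ht]; ring
    omega
  -- the decomposition of `γ₁`
  have hδ : γ₁ * (γ₀ ^ j)⁻¹ ∈ (tau (Q := Q)).ker := by
    rw [MonoidHom.mem_ker, map_mul, map_inv, map_pow, hγ₀tau, hj, mul_inv_cancel]
  rw [ker_tau] at hδ
  obtain ⟨dd, hdd⟩ := hδ
  have hγ₁eq : γ₁ = simGamma Q dd * γ₀ ^ j := by
    rw [hdd]
    group
  obtain ⟨dd', hdd', hdd'm, hdd'det⟩ := exists_conj_simGamma Q hne (γ₀ ^ j) dd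
  have hpow2j : γ₀ ^ j * γ₀ ^ j = simGamma Q ρ := by
    rw [← pow_add, ← two_mul, ht, pow_mul, hγf, ← map_pow]
    congr 1
    obtain ⟨u, hu⟩ := htodd
    rw [hu, pow_succ, pow_mul, pow_two, hρρ, one_pow, one_mul]
  have hsq : γ₁ * γ₁ = simGamma Q (dd * dd' * ρ) := by
    rw [map_mul, map_mul, ← hdd', ← hpow2j, hγ₁eq]
    group
  have hone : Phi ⇑Q (dd * dd' * ρ) = 1 := by
    rw [← PsiM_simGamma Q hQ h5, ← hsq, map_mul]
    exact hγ2
  have hpsi2 : psi2 Q h2 hQ hne (k + 1) hcard (dd * dd' * ρ) = 1 := by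
    have hmem : dd * dd' * ρ ∈ (psi Q h2 hQ hne (k + 1) hcard).ker := by
      rw [psi_ker_eq Q h2 hQ h5 hne (k + 1) hcard]
      exact Subgroup.mem_sup_right hone
    rw [MonoidHom.mem_ker, psi_apply, Prod.mk_eq_one] at hmem
    exact hmem.2
  have hsame : psi2 Q h2 hQ hne (k + 1) hcard dd' = psi2 Q h2 hQ hne (k + 1) hcard dd := by
    apply units_int_eq_of_iff
    rw [psi2_eq_one_iff, psi2_eq_one_iff, hdd'm, hdd'det, ← map_pow]
    exact (tau (γ₀ ^ j)).injective.eq_iff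
  rw [map_mul, map_mul, hsame, hρ2] at hpsi2
  rcases Int.units_eq_one_or (psi2 Q h2 hQ hne (k + 1) hcard dd) with h | h
  · rw [h] at hpsi2
    exact absurd hpsi2 (by decide)
  · rw [h] at hpsi2
    exact absurd hpsi2 (by decide)

end Cfsg.Agent.Helper8.GrInv
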