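import Cfsg.Agent.Helper8.HallSymK

/-!
# Hall subgroups of alternating groups, part A: basic definitions and the extension criterion
-/

set_option autoImplicit false
set_option linter.unusedSectionVars false

namespace Cfsg.Agent.Helper8.HallSym

open Equiv MulAction

universe u

variable {α : Type u} [Fintype α] [DecidableEq α] {π : Set ℕ}

/-- `M` is contained in the alternating group and is a Hall `π`-subgroup of it. -/
def AHall (π : Set ℕ) (M : Subgroup (Perm α)) : Prop :=
  M ≤ alternatingGroup α ∧ (∀ p : ℕ, p.Prime → p ∣ Nat.card M → p ∈ π) ∧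
    ∀ p : ℕ, p.Prime → p ∈ π → ¬ p ∣ M.relIndex (alternatingGroup α)

theorem card_subgroupOf_of_le {G : Type*} [Group G] {H K : Subgroup G} (h : H ≤ K) :
    Nat.card (H.subgroupOf K) = Nat.card H :=
  Nat.card_congr (Subgroup.subgroupOfEquivOfLe h).toEquiv

theorem card_mul_relIndex_of_le {G : Type*} [Group G] {H K : Subgroup G} (h : H ≤ K) :
    Nat.card H * H.relIndex K = Nat.card K := by
  rw [← card_subgroupOf_of_le h]
  exact Subgroup.card_mul_index (H.subgroupOf K)

theorem ahall_iff {M : Subgroup (Perm α)} (hM : M ≤ alternatingGroup α) :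
    AHall π M ↔ Cfsg.IsPiHall π (M.subgroupOf (alternatingGroup α)) := by
  unfold AHall Cfsg.IsPiHall
  rw [card_subgroupOf_of_le hM]
  constructor
  · rintro ⟨_, h1, h2⟩
    exact ⟨h1, h2⟩
  · rintro ⟨h1, h2⟩
    exact ⟨hM, h1, h2⟩

theorem nontrivial_of_two_le (hn : 2 ≤ Fintype.card α) : Nontrivial α :=
  Fintype.one_lt_card_iff_nontrivial.mp (by omega)

theorem two_mul_card_alt (hn : 2 ≤ Fintype.card α) :
    2 * Nat.card (alternatingGroup α) = (Fintype.card α).factorial := by
  have := nontrivial_of_two_le hn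
  rw [Nat.card_eq_fintype_card, two_mul_card_alternatingGroup, Fintype.card_perm]

/-- Maximality of Hall subgroups among `π`-subgroups. -/
theorem eq_of_hall_le {G : Type*} [Group G] [Finite G] {H L : Subgroup G}
    (hH : Cfsg.IsPiHall π H) (hHL : H ≤ L) (hL : ∀ p : ℕ, p.Prime → p ∣ Nat.card L → p ∈ π) :
    H = L := by
  apply Subgroup.eq_of_le_of_card_ge hHL
  have h1 : Nat.card L ∣ Nat.card H * H.index := by
    rw [Subgroup.card_mul_index]
    exact Subgroup.card_subgroup_dvd_card L
  have hc : (Nat.card L).Coprime H.index :=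
    Nat.coprime_of_dvd fun p hp h1 h2 => hH.2 p hp (hL p hp h1) h2
  exact Nat.le_of_dvd Nat.card_pos (hc.dvd_of_dvd_mul_right h1)

/-- A `p`-subgroup is conjugate into a Hall `π`-subgroup if `p ∈ π`. -/
theorem exists_conj_le_of_hall {G : Type*} [Group G] [Finite G] {H : Subgroup G}
    (hH : Cfsg.IsPiHall π H) {p : ℕ} (hp : p.Prime) (hpπ : p ∈ π) (K : Subgroup G)
    (hK : IsPGroup p K) : ∃ g : G, ∀ c ∈ K, g * c * g⁻¹ ∈ H := by
  have : Fact p.Prime := ⟨hp⟩
  obtain Q : Sylow p H := default
  have hQ : Nat.card ((Q : Subgroup H).map H.subtype) = p ^ (Nat.card G).factorization p := by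
    rw [Subgroup.card_map_of_injective H.subtype_injective, Q.card_eq_multiplicity,
      Nat.factorization_def _ hp, Nat.factorization_def _ hp, padic_card_of_hall hH hp hpπ]
  let Q' : Sylow p G := Sylow.ofCard _ hQ
  obtain ⟨P, hP⟩ := hK.exists_le_sylow
  obtain ⟨g, hg⟩ := MulAction.exists_smul_eq G P Q'
  refine ⟨g, fun c hc => ?_⟩
  have h1 : g * c * g⁻¹ ∈ ((g • P : Sylow p G) : Subgroup G) := by
    rw [Sylow.coe_subgroup_smul, Subgroup.mem_smul_pointwise_iff_exists]
    exact ⟨c, hP hc, by simp [MulAut.smul_def]⟩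
  rw [hg] at h1
  have h2 : ((Q' : Sylow p G) : Subgroup G) ≤ H := by
    change (Q : Subgroup H).map H.subtype ≤ H
    exact Subgroup.map_subtype_le _
  exact h2 h1

/-- **Extension criterion.** If a Hall `π`-subgroup `M` of the alternating group (`2 ∈ π`) lies
in a `π`-subgroup `K` containing an odd permutation, then `K` is a Hall `π`-subgroup of the
symmetric group and `K ∩ Alt = M`. -/
theorem hall_of_ext {M K : Subgroup (Perm α)} (hn : 2 ≤ Fintype.card α) (hM : AHall π M)
    (hMK : M ≤ K) (hK : ∀ p : ℕ, p.Prime → p ∣ Nat.card K → p ∈ π)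
    (hodd : ¬ K ≤ alternatingGroup α) :
    Cfsg.IsPiHall π K ∧ K ⊓ alternatingGroup α = M := by
  have hnt := nontrivial_of_two_le hn
  obtain ⟨hMA, hM1, hM2⟩ := hM
  have hle : M ≤ K ⊓ alternatingGroup α := le_inf hMK hMA
  -- `K ⊓ Alt = M`
  have hcard1 := card_mul_relIndex_of_le hMA
  have hdvd : Nat.card (K ⊓ alternatingGroup α : Subgroup (Perm α)) ∣
      Nat.card M * M.relIndex (alternatingGroup α) := by
    rw [hcard1]
    exact Subgroup.card_dvd_of_le inf_le_right
  have hKp : ∀ p : ℕ, p.Prime → p ∣ Nat.card (K ⊓ alternatingGroup α : Subgroup (Perm α)) →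
      p ∈ π := fun p hp hpd => hK p hp (hpd.trans (Subgroup.card_dvd_of_le inf_le_left))
  have hc : (Nat.card (K ⊓ alternatingGroup α : Subgroup (Perm α))).Coprime
      (M.relIndex (alternatingGroup α)) :=
    Nat.coprime_of_dvd fun p hp h1 h2 => hM2 p hp (hKp p hp h1) h2
  have heq : M = K ⊓ alternatingGroup α :=
    Subgroup.eq_of_le_of_card_ge hle (Nat.le_of_dvd Nat.card_pos (hc.dvd_of_dvd_mul_right hdvd))
  refine ⟨⟨hK, ?_⟩, heq.symm⟩
  -- the index
  have hrel : (alternatingGroup α).relIndex K = 2 := by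
    have h1 : (alternatingGroup α).relIndex K ∣ 2 := by
      have := Subgroup.relIndex_dvd_index_of_normal (alternatingGroup α) K
      rwa [alternatingGroup.index_eq_two] at this
    have h2 : (alternatingGroup α).relIndex K ≠ 1 := fun h => hodd (Subgroup.relIndex_eq_one.mp h)
    rcases (Nat.dvd_prime Nat.prime_two).mp h1 with h | h
    · exact absurd h h2
    · exact h
  have hcardK : Nat.card M * 2 = Nat.card K := by
    have := card_mul_relIndex_of_le (inf_le_left : K ⊓ alternatingGroup α ≤ K)
    rw [Subgroup.inf_relIndex_left, hrel, ← heq] at this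
    exact this
  have hidx : K.index = M.relIndex (alternatingGroup α) := by
    have h1 := Subgroup.card_mul_index K
    have h2 := two_mul_card_alt hn
    rw [card_perm'] at h1
    rw [← hcard1] at h2
    rw [← hcardK, ← h2] at h1
    have hpos : 0 < Nat.card M * 2 := Nat.mul_pos Nat.card_pos (by norm_num)
    apply Nat.eq_of_mul_eq_mul_left hpos
    rw [h1]
    ring
  intro p hp hpπ
  rw [hidx]
  exact hM2 p hp hpπ

/-- The intersection of a Hall `π`-subgroup of the symmetric group with the alternating group is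
a Hall `π`-subgroup of the alternating group. -/
theorem ahall_inf_of_hall {H : Subgroup (Perm α)} (hH : Cfsg.IsPiHall π H) :
    AHall π (H ⊓ alternatingGroup α) := by
  refine ⟨inf_le_right, fun p hp hpd => hH.1 p hp (hpd.trans (Subgroup.card_dvd_of_le inf_le_left)),
    fun p hp hpπ hpd => hH.2 p hp hpπ (hpd.trans ?_)⟩
  rw [Subgroup.inf_relIndex_right]
  -- `H.relIndex Alt ∣ H.index`
  have h1 := card_mul_relIndex_of_le (inf_le_left : H ⊓ alternatingGroup α ≤ H)
  rw [Subgroup.inf_relIndex_left] at h1
  have h2 := card_mul_relIndex_of_le (inf_le_right : H ⊓ alternatingGroup α ≤ alternatingGroup α)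
  rw [Subgroup.inf_relIndex_right] at h2
  have h3 := Subgroup.card_mul_index H
  have h4 := Subgroup.card_mul_index (alternatingGroup α)
  obtain ⟨f, hf⟩ := Subgroup.relIndex_dvd_index_of_normal (alternatingGroup α) H
  refine ⟨f, ?_⟩
  have hpos : 0 < Nat.card (H ⊓ alternatingGroup α : Subgroup (Perm α)) *
      (alternatingGroup α).relIndex H := by
    rw [h1]
    exact Nat.card_pos
  apply Nat.eq_of_mul_eq_mul_left hpos
  calc Nat.card (H ⊓ alternatingGroup α : Subgroup (Perm α)) * (alternatingGroup α).relIndex H *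
        H.index = Nat.card H * H.index := by rw [h1]
    _ = Nat.card (Perm α) := h3
    _ = Nat.card (alternatingGroup α) * (alternatingGroup α).index := h4.symm
    _ = (Nat.card (H ⊓ alternatingGroup α : Subgroup (Perm α)) *
          H.relIndex (alternatingGroup α)) * ((alternatingGroup α).relIndex H * f) := by
        rw [h2, hf]
    _ = _ := by ring

end Cfsg.Agent.Helper8.HallSym
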