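import Cfsg.Agent.Helper8.HallAltA

/-!
# Hall subgroups of alternating groups, part B: `2`-groups, point stabilisers
-/

set_option autoImplicit false
set_option linter.unusedSectionVars false

namespace Cfsg.Agent.Helper8.HallSym

open Equiv MulAction

universe u

variable {α : Type u} [Fintype α] [DecidableEq α] {π : Set ℕ}

/-- `M` lies in a `π`-subgroup of `Perm α` containing an odd permutation. -/
def Ext (π : Set ℕ) (M : Subgroup (Perm α)) : Prop :=
  ∃ K : Subgroup (Perm α), M ≤ K ∧ (∀ p : ℕ, p.Prime → p ∣ Nat.card K → p ∈ π) ∧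
    ¬ K ≤ alternatingGroup α

/-- A Sylow `2`-subgroup of `Perm α` is not contained in the alternating group. -/
theorem sylow_two_not_le_alt (hn : 2 ≤ Fintype.card α) (Q : Sylow 2 (Perm α)) :
    ¬ (Q : Subgroup (Perm α)) ≤ alternatingGroup α := by
  intro hle
  have h1 : Nat.card (Q : Subgroup (Perm α)) ∣ Nat.card (alternatingGroup α) :=
    Subgroup.card_dvd_of_le hle
  rw [Q.card_eq_multiplicity] at h1
  have h2 : 2 ^ ((Nat.card (Perm α)).factorization 2 + 1) ∣ Nat.card (Perm α) := by
    have h3 : Nat.card (Perm α) = 2 * Nat.card (alternatingGroup α) := by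
      rw [card_perm', ← two_mul_card_alt hn]
    rw [pow_succ, mul_comm]
    nth_rewrite 2 [h3]
    exact Nat.mul_dvd_mul_left 2 h1
  exact Nat.pow_succ_factorization_not_dvd Nat.card_pos.ne' Nat.prime_two h2

/-- A `2`-subgroup extends (when `2 ∈ π`). -/
theorem ext_of_two_group (hn : 2 ≤ Fintype.card α) (h2 : 2 ∈ π) {M : Subgroup (Perm α)}
    (hM : ∀ p : ℕ, p.Prime → p ∣ Nat.card M → p = 2) : Ext π M := by
  have hcard := Nat.eq_prime_pow_of_unique_prime_dvd (card_ne_zero' M) (fun {d} hd hdd => hM d hd hdd)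
  have hp : IsPGroup 2 M := IsPGroup.of_card hcard
  obtain ⟨Q, hQ⟩ := hp.exists_le_sylow
  refine ⟨Q, hQ, ?_, sylow_two_not_le_alt hn Q⟩
  intro p hp hpd
  rw [Q.card_eq_multiplicity] at hpd
  have := (Nat.prime_dvd_prime_iff_eq hp Nat.prime_two).mp (hp.dvd_of_dvd_pow hpd)
  exact this ▸ h2

/-- The point stabiliser `pt M x` lies in the alternating group if `M` does. -/
theorem pt_le_alt {M : Subgroup (Perm α)} (hM : M ≤ alternatingGroup α) (x : α) :
    pt M x ≤ alternatingGroup {y // y ≠ x} := by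
  intro σ hσ
  have := hM (mem_pt.mp hσ)
  rw [Perm.mem_alternatingGroup, Perm.sign_ofSubtype] at this
  exact Perm.mem_alternatingGroup.mpr this

/-- The point stabiliser of a Hall subgroup of the alternating group is a Hall subgroup of the
alternating group on the remaining points, provided the orbit length of the point divides the
degree suitably (orbit length `c` with `c * d = n`). -/
theorem ahall_pt_aux (hn : 3 ≤ Fintype.card α) {M : Subgroup (Perm α)} (hM : AHall π M) (x : α)
    {c d : ℕ} (hcd : c * d = Fintype.card α) (hc : Nat.card M = c * Nat.card (pt M x)) :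
    AHall π (pt M x) := by
  obtain ⟨hMA, hM1, hM2⟩ := hM
  have hle := pt_le_alt hMA x
  refine ⟨hle, fun p hp hpd => hM1 p hp (hc ▸ Dvd.dvd.mul_left hpd c), fun p hp hpπ hpd => ?_⟩
  apply hM2 p hp hpπ
  refine hpd.trans ⟨d, ?_⟩
  -- `I = I' * d`
  have h1 := card_mul_relIndex_of_le hMA
  have h2 := card_mul_relIndex_of_le hle
  have h3 := two_mul_card_alt (α := α) (by omega)
  have h4 := two_mul_card_alt (α := {y // y ≠ x}) (by rw [card_subtype_ne]; omega)
  rw [card_subtype_ne] at h4
  obtain ⟨m, hm⟩ : ∃ m, Fintype.card α = m + 1 := ⟨Fintype.card α - 1, by omega⟩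
  rw [hm, Nat.factorial_succ] at h3
  rw [hm, Nat.add_sub_cancel] at h4
  rw [hm] at hcd
  have hpos : 0 < 2 * Nat.card M := Nat.mul_pos (by norm_num) Nat.card_pos
  apply Nat.eq_of_mul_eq_mul_left hpos
  calc 2 * Nat.card M * M.relIndex (alternatingGroup α)
      = 2 * (Nat.card M * M.relIndex (alternatingGroup α)) := by ring
    _ = (m + 1) * m.factorial := by rw [h1, h3]
    _ = (c * d) * (2 * (Nat.card (pt M x) *
          (pt M x).relIndex (alternatingGroup {y // y ≠ x}))) := by rw [hcd, h2, h4]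
    _ = 2 * (c * Nat.card (pt M x)) *
          ((pt M x).relIndex (alternatingGroup {y // y ≠ x}) * d) := by ring
    _ = _ := by rw [← hc]

/-- Transitive case. -/
theorem ahall_pt_of_trans (hn : 3 ≤ Fintype.card α) {M : Subgroup (Perm α)} (hM : AHall π M)
    [IsPretransitive M α] (x : α) : AHall π (pt M x) :=
  ahall_pt_aux hn hM x (c := Fintype.card α) (d := 1) (mul_one _) (card_eq_card_mul_pt M x)

theorem card_pt_of_fixed {M : Subgroup (Perm α)} {x : α} (hfix : ∀ g ∈ M, g x = x) :
    Nat.card M = Nat.card (pt M x) := by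
  rw [card_pt]
  have : stabilizer M x = ⊤ := by
    ext g
    simp only [mem_stabilizer_iff, Subgroup.mem_top, iff_true]
    exact hfix g g.2
  rw [this, Subgroup.card_top]

/-- Fixed point case. -/
theorem ahall_pt_of_fixed (hn : 3 ≤ Fintype.card α) {M : Subgroup (Perm α)} (hM : AHall π M)
    {x : α} (hfix : ∀ g ∈ M, g x = x) : AHall π (pt M x) :=
  ahall_pt_aux hn hM x (c := 1) (d := Fintype.card α) (one_mul _)
    (by rw [one_mul]; exact card_pt_of_fixed hfix)

/-- Lifting an extension of the point stabiliser when `M` fixes the point. -/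
theorem ext_of_fixed {M : Subgroup (Perm α)} {x : α} (hfix : ∀ g ∈ M, g x = x)
    (h : Ext π (pt M x)) : Ext π M := by
  obtain ⟨K, hK1, hK2, hK3⟩ := h
  refine ⟨K.map (Perm.ofSubtype (p := fun y => y ≠ x)), ?_, ?_, ?_⟩
  · intro m hm
    have hmx := hfix m hm
    have h₁ : ∀ y, (m y ≠ x) ↔ (y ≠ x) := fun y =>
      not_congr ⟨fun h => by apply m.injective; rw [h, hmx], fun h => by rw [h, hmx]⟩
    have h₂ : ∀ y, m y ≠ y → y ≠ x := fun y hy hyx => hy (by rw [hyx, hmx])
    have e := Perm.ofSubtype_subtypePerm h₁ h₂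
    refine ⟨m.subtypePerm h₁, hK1 (mem_pt.mpr (by rw [e]; exact hm)), e⟩
  · intro p hp hpd
    rw [Subgroup.card_map_of_injective Perm.ofSubtype_injective] at hpd
    exact hK2 p hp hpd
  · intro hle
    apply hK3
    intro σ hσ
    have := hle (Subgroup.mem_map_of_mem _ hσ)
    rw [Perm.mem_alternatingGroup, Perm.sign_ofSubtype] at this
    exact Perm.mem_alternatingGroup.mpr this

end Cfsg.Agent.Helper8.HallSym
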