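import Cfsg.Agent.Helper8.HallAltB

/-!
# Hall subgroups of alternating groups, part C: the intransitive case without fixed points
-/

set_option autoImplicit false
set_option linter.unusedSectionVars false

namespace Cfsg.Agent.Helper8.HallSym

open Equiv MulAction

universe u

variable {α : Type u} [Fintype α] [DecidableEq α] {π : Set ℕ}

/-- An element of `M` is the product of its two restrictions. -/
theorem eq_subtypeCongr_res {M : Subgroup (Perm α)} (P : α → Prop) [DecidablePred P]
    (hP : Inv M P) (m : M) :
    (m : Perm α) = Perm.subtypeCongrHom P (resHom M P hP m, resHom M (fun x => ¬ P x) hP.not m) := by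
  ext a
  rw [Perm.subtypeCongrHom_apply, Perm.subtypeCongr.apply]
  by_cases h : P a
  · rw [dif_pos h]
    rfl
  · rw [dif_neg h]
    rfl

theorem sign_eq_mul_res {M : Subgroup (Perm α)} (P : α → Prop) [DecidablePred P]
    (hP : Inv M P) (m : M) :
    Perm.sign (m : Perm α) =
      Perm.sign (resHom M P hP m) * Perm.sign (resHom M (fun x => ¬ P x) hP.not m) := by
  conv_lhs => rw [eq_subtypeCongr_res P hP m]
  rw [Perm.subtypeCongrHom_apply, Perm.sign_subtypeCongr]

/-- **Intransitive case**: if a Hall subgroup `M` of the alternating group (`2 ∈ π`) has an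
invariant subset `P` with `|P| ≥ 2` and `|Pᶜ| ≥ 2`, then the product of its two constituents is a
`π`-group containing `M` and an odd permutation. -/
theorem ext_of_inv (h2 : 2 ∈ π) {M : Subgroup (Perm α)} (hM : AHall π M) (P : α → Prop)
    (hP : Inv M P) (hk : 2 ≤ Nat.card {x // P x}) (hk' : 2 ≤ Nat.card {x // ¬ P x}) :
    Ext π M := by
  classical
  obtain ⟨hMA, hM1, hM2⟩ := hM
  have hn : Fintype.card α = Nat.card {x // P x} + Nat.card {x // ¬ P x} := by
    rw [Nat.card_eq_fintype_card, Nat.card_eq_fintype_card]
    exact (card_subtype_add P).symm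
  -- there is an element of `M` odd on `P`
  have hodd : ∃ u : M, Perm.sign (resHom M P hP u) = -1 := by
    by_contra hcon
    push Not at hcon
    have hev : ∀ u : M, Perm.sign (resHom M P hP u) = 1 := fun u =>
      (Int.units_eq_one_or _).resolve_right (hcon u)
    have hev' : ∀ u : M, Perm.sign (resHom M (fun x => ¬ P x) hP.not u) = 1 := by
      intro u
      have h1 := sign_eq_mul_res P hP u
      rw [hev u, one_mul, Perm.mem_alternatingGroup.mp (hMA u.2)] at h1
      exact h1.symm
    have hle1 : res M P hP ≤ alternatingGroup {x // P x} := by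
      rintro t ⟨u, rfl⟩
      exact Perm.mem_alternatingGroup.mpr (hev u)
    have hle2 : res M (fun x => ¬ P x) hP.not ≤ alternatingGroup {x // ¬ P x} := by
      rintro t ⟨u, rfl⟩
      exact Perm.mem_alternatingGroup.mpr (hev' u)
    have h3 := card_dvd_res_mul M P hP
    have h4 : Nat.card (res M P hP) * Nat.card (res M (fun x => ¬ P x) hP.not) ∣
        Nat.card (alternatingGroup {x // P x}) * Nat.card (alternatingGroup {x // ¬ P x}) :=
      Nat.mul_dvd_mul (Subgroup.card_dvd_of_le hle1) (Subgroup.card_dvd_of_le hle2)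
    have h5 := two_mul_card_alt (α := {x // P x}) (by rw [← Nat.card_eq_fintype_card]; exact hk)
    have h6 := two_mul_card_alt (α := {x // ¬ P x})
      (by rw [← Nat.card_eq_fintype_card]; exact hk')
    have h7 : 4 * Nat.card M ∣ (Fintype.card α).factorial := by
      have h8 : 4 * Nat.card M ∣ (2 * Nat.card (alternatingGroup {x // P x})) *
          (2 * Nat.card (alternatingGroup {x // ¬ P x})) := by
        have : (2 * Nat.card (alternatingGroup {x // P x})) *
          (2 * Nat.card (alternatingGroup {x // ¬ P x})) =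
          4 * (Nat.card (alternatingGroup {x // P x}) *
            Nat.card (alternatingGroup {x // ¬ P x})) := by ring
        rw [this]
        exact Nat.mul_dvd_mul_left 4 (h3.trans h4)
      rw [h5, h6] at h8
      refine h8.trans ?_
      rw [hn, Nat.card_eq_fintype_card, Nat.card_eq_fintype_card]
      exact Nat.factorial_mul_factorial_dvd_factorial_add _ _
    have h9 := two_mul_card_alt (α := α) (by omega)
    rw [← h9, ← card_mul_relIndex_of_le hMA] at h7
    have h10 : 2 * (2 * Nat.card M) ∣ (2 * Nat.card M) * M.relIndex (alternatingGroup α) := by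
      have e1 : 2 * (2 * Nat.card M) = 4 * Nat.card M := by ring
      have e2 : (2 * Nat.card M) * M.relIndex (alternatingGroup α) =
          2 * (Nat.card M * M.relIndex (alternatingGroup α)) := by ring
      rw [e1, e2]
      exact h7
    have hpos : 0 < 2 * Nat.card M := Nat.mul_pos (by norm_num) Nat.card_pos
    rw [mul_comm 2 (2 * Nat.card M)] at h10
    exact hM2 2 Nat.prime_two h2 (Nat.dvd_of_mul_dvd_mul_left hpos h10)
  obtain ⟨u, hu⟩ := hodd
  refine ⟨((res M P hP).prod (res M (fun x => ¬ P x) hP.not)).map (Perm.subtypeCongrHom P),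
    ?_, ?_, ?_⟩
  · intro m hm
    refine ⟨(resHom M P hP ⟨m, hm⟩, resHom M (fun x => ¬ P x) hP.not ⟨m, hm⟩), ?_, ?_⟩
    · exact Subgroup.mem_prod.mpr ⟨⟨_, rfl⟩, ⟨_, rfl⟩⟩
    · exact (eq_subtypeCongr_res P hP ⟨m, hm⟩).symm
  · intro p hp hpd
    rw [Subgroup.card_map_of_injective (Perm.subtypeCongrHom_injective P),
      Nat.card_congr (Subgroup.prodEquiv _ _).toEquiv, Nat.card_prod] at hpd
    rcases (Nat.Prime.dvd_mul hp).mp hpd with h | h
    · exact hM1 p hp (h.trans (card_res_dvd M P hP))
    · exact hM1 p hp (h.trans (card_res_dvd M _ hP.not))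
  · intro hle
    have hmem : Perm.subtypeCongrHom P (resHom M P hP u, 1) ∈
        ((res M P hP).prod (res M (fun x => ¬ P x) hP.not)).map (Perm.subtypeCongrHom P) :=
      Subgroup.mem_map_of_mem _ (Subgroup.mem_prod.mpr ⟨⟨_, rfl⟩, Subgroup.one_mem _⟩)
    have := Perm.mem_alternatingGroup.mp (hle hmem)
    rw [Perm.subtypeCongrHom_apply, Perm.sign_subtypeCongr, hu, Perm.sign_one, mul_one] at this
    exact absurd this (by decide)

end Cfsg.Agent.Helper8.HallSym
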