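import Cfsg.Agent.Helper8.HallAltC

/-!
# Hall subgroups of alternating groups, part D: bisections in degree `8`
-/

set_option autoImplicit false
set_option linter.unusedSectionVars false

namespace Cfsg.Agent.Helper8.HallSym

open Equiv MulAction
open scoped Pointwise

universe u

variable {α : Type u} [Fintype α] [DecidableEq α] {π : Set ℕ}

/-- The stabiliser of the bisection `{B, Bᶜ}`. -/
def bisect (B : Set α) : Subgroup (Perm α) where
  carrier := {σ | σ • B = B ∨ σ • B = Bᶜ}
  one_mem' := Or.inl (one_smul _ _)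
  mul_mem' := by
    rintro σ τ (hσ | hσ) (hτ | hτ)
    · left; rw [mul_smul, hτ, hσ]
    · right; rw [mul_smul, hτ, Set.smul_set_compl, hσ]
    · right; rw [mul_smul, hτ, hσ]
    · left; rw [mul_smul, hτ, Set.smul_set_compl, hσ, compl_compl]
  inv_mem' := by
    rintro σ (hσ | hσ)
    · left
      rw [inv_smul_eq_iff, hσ]
    · right
      rw [inv_smul_eq_iff, Set.smul_set_compl, hσ, compl_compl]

theorem mem_bisect {B : Set α} {σ : Perm α} : σ ∈ bisect B ↔ σ • B = B ∨ σ • B = Bᶜ := Iff.rfl

theorem mem_smul_set_perm {σ : Perm α} {B : Set α} {x : α} : x ∈ σ • B ↔ σ⁻¹ x ∈ B :=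
  Set.mem_smul_set_iff_inv_smul_mem

/-- A permutation stabilising a `4`-set has `24`-th power fixing it pointwise. -/
theorem pow_fix_of_smul_eq {σ : Perm α} {B : Set α} (h : σ • B = B) (hB : B.ncard = 4) :
    ∀ x ∈ B, (σ ^ 24) x = x := by
  intro x hx
  have hf : ∀ y, (σ y ∈ B) ↔ (y ∈ B) := by
    intro y
    constructor
    · intro hy
      rw [← h, mem_smul_set_perm] at hy
      simpa using hy
    · intro hy
      rw [← h, mem_smul_set_perm]
      simpa using hy
  have h1 : (σ.subtypePerm hf) ^ 24 = 1 := by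
    have h2 : Nat.card (Perm {y // y ∈ B}) = 24 := by
      rw [Nat.card_perm]
      have : Nat.card {y // y ∈ B} = 4 := by
        rw [← hB]
        rfl
      rw [this]
      rfl
    rw [← h2]
    exact pow_card_eq_one'
  rw [Perm.subtypePerm_pow] at h1
  have h3 := congrArg (fun τ : Perm {y // y ∈ B} => ((τ ⟨x, hx⟩ : {y // y ∈ B}) : α)) h1
  simpa using h3

theorem pow_eq_one_of_smul_eq {σ : Perm α} {B : Set α} (h : σ • B = B) (hB : B.ncard = 4)
    (hBc : Bᶜ.ncard = 4) : σ ^ 24 = 1 := by
  ext x
  by_cases hx : x ∈ B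
  · simpa using pow_fix_of_smul_eq h hB x hx
  · have h' : σ • Bᶜ = Bᶜ := by rw [Set.smul_set_compl, h]
    simpa using pow_fix_of_smul_eq h' hBc x hx

theorem pow_eq_one_of_mem_bisect {σ : Perm α} {B : Set α} (h : σ ∈ bisect B) (hB : B.ncard = 4)
    (hBc : Bᶜ.ncard = 4) : σ ^ 48 = 1 := by
  have h2 : (σ ^ 2) • B = B := by
    rw [pow_two, mul_smul]
    rcases h with h | h
    · rw [h, h]
    · rw [h, Set.smul_set_compl, h, compl_compl]
  have := pow_eq_one_of_smul_eq h2 hB hBc
  rwa [← pow_mul] at this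

/-- The stabiliser of a bisection of `8` points is a `{2, 3}`-group. -/
theorem bisect_pi {B : Set α} (hB : B.ncard = 4) (hBc : Bᶜ.ncard = 4) (h2 : (2 : ℕ) ∈ π)
    (h3 : (3 : ℕ) ∈ π) : ∀ p : ℕ, p.Prime → p ∣ Nat.card (bisect B) → p ∈ π := by
  intro p hp hpd
  have : Fact p.Prime := ⟨hp⟩
  obtain ⟨g, hg⟩ := exists_prime_orderOf_dvd_card' p hpd
  have h48 : g ^ 48 = 1 := by
    apply Subtype.ext
    rw [Subgroup.coe_pow]
    exact pow_eq_one_of_mem_bisect g.2 hB hBc
  have hd : p ∣ 2 ^ 4 * 3 ^ 1 := by
    rw [← hg]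
    exact orderOf_dvd_of_pow_eq_one h48
  rcases two_three_of_dvd hp hd with rfl | rfl
  · exact h2
  · exact h3

theorem swap_mem_bisect {B : Set α} {a b : α} (ha : a ∈ B) (hb : b ∈ B) :
    swap a b ∈ bisect B := by
  left
  ext x
  rw [mem_smul_set_perm, swap_inv]
  by_cases hxa : x = a
  · rw [hxa, swap_apply_left]
    exact ⟨fun _ => ha, fun _ => hb⟩
  · by_cases hxb : x = b
    · rw [hxb, swap_apply_right]
      exact ⟨fun _ => hb, fun _ => ha⟩
    · rw [swap_apply_of_ne_of_ne hxa hxb]

theorem coe_smul_set (H : Subgroup (Perm α)) (g : H) (B : Set α) :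
    g • B = (g : Perm α) • B := rfl

/-- A group containing a `3`-cycle has no block of size `2`. -/
theorem no_block_two {H : Subgroup (Perm α)} [IsPretransitive H α] {c : Perm α} (hc : c ∈ H)
    (h3 : c.IsThreeCycle) {B : Set α} (hB : IsBlock H B) : B.ncard ≠ 2 := by
  intro hB2
  -- a point moved by `c`
  have hne : c.support.Nonempty := by
    rw [← Finset.card_pos, h3.card_support]
    norm_num
  obtain ⟨x, hx⟩ := hne
  have hBne : B.Nonempty := by
    rw [← Set.ncard_pos, hB2]
    norm_num
  obtain ⟨b, hb⟩ := hBne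
  obtain ⟨g, hg⟩ := exists_smul_eq H b x
  set C : Set α := g • B with hC
  have hCblock : IsBlock H C := hB.translate g
  have hxC : x ∈ C := by rw [← hg]; exact Set.smul_mem_smul_set hb
  have hC2 : C.ncard = 2 := by rw [hC, Set.ncard_smul_set, hB2]
  obtain ⟨y, z, hyz, hCeq⟩ := Set.ncard_eq_two.mp hC2
  -- write `C = {x, x'}`
  obtain ⟨x', hxx', hCx⟩ : ∃ x', x' ≠ x ∧ C = {x, x'} := by
    rw [hCeq] at hxC
    rcases hxC with h | h
    · exact ⟨z, fun h' => hyz (h' ▸ h).symm, by rw [hCeq, h]⟩
    · rw [Set.mem_singleton_iff] at h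
      exact ⟨y, fun h' => hyz (h' ▸ h ▸ rfl), by rw [hCeq, h, Set.pair_comm]⟩
  have hx'C : x' ∈ C := by rw [hCx]; simp
  have hcx : c x ≠ x := Perm.mem_support.mp hx
  rcases (isBlock_iff_smul_eq_or_disjoint.mp hCblock) ⟨c, hc⟩ with h | h
  · -- `c` swaps `x` and `x'`
    rw [coe_smul_set] at h
    have h1 : c x ∈ C := by
      rw [← h, mem_smul_set_perm]
      simpa using hxC
    have h2 : c x' ∈ C := by
      rw [← h, mem_smul_set_perm]
      simpa using hx'C
    rw [hCx] at h1 h2
    have e1 : c x = x' := by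
      rcases h1 with h1 | h1
      · exact absurd h1 hcx
      · exact h1
    have e2 : c x' = x := by
      rcases h2 with h2 | h2
      · exact h2
      · exfalso
        rw [Set.mem_singleton_iff] at h2
        apply hxx'
        apply c.injective
        rw [h2, e1]
    have h3' : (c ^ 3) x = x := by
      have := h3.orderOf ▸ pow_orderOf_eq_one c
      rw [this]
      rfl
    have : (c ^ 3) x = x' := by
      rw [pow_succ, pow_two]
      simp only [Perm.mul_apply]
      rw [e1, e2, e1]
    exact hxx' (this.symm.trans h3')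
  · -- `c • C` is disjoint from `C`
    rw [coe_smul_set] at h
    have h1 : c x ∉ C := fun hh => Set.disjoint_left.mp h (by
      rw [mem_smul_set_perm]; simpa using hxC) hh
    have h2 : c x' ∉ C := fun hh => Set.disjoint_left.mp h (by
      rw [mem_smul_set_perm]; simpa using hx'C) hh
    have hx' : x' ∈ c.support := by
      rw [Perm.mem_support]
      intro h'
      exact h2 (by rw [h']; exact hx'C)
    have hcx1 : c x ≠ x' := fun h' => h1 (h' ▸ hx'C)
    have hsub : ({x, x', c x} : Finset α) ⊆ c.support := by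
      intro w hw
      simp only [Finset.mem_insert, Finset.mem_singleton] at hw
      rcases hw with rfl | rfl | rfl
      · exact hx
      · exact hx'
      · exact Perm.apply_mem_support.mpr hx
    have hcard : ({x, x', c x} : Finset α).card = 3 := by
      rw [Finset.card_insert_of_notMem, Finset.card_insert_of_notMem, Finset.card_singleton]
      · simpa using hcx1.symm
      · simp only [Finset.mem_insert, Finset.mem_singleton, not_or]
        exact ⟨hxx'.symm, hcx.symm⟩
    have heq := Finset.eq_of_subset_of_card_le hsub (by rw [hcard, h3.card_support])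
    have hmem : c x' ∈ ({x, x', c x} : Finset α) := by
      rw [heq]
      exact Perm.apply_mem_support.mpr hx'
    simp only [Finset.mem_insert, Finset.mem_singleton] at hmem
    rcases hmem with h' | h' | h'
    · exact h2 (by rw [h']; exact hxC)
    · exact h2 (by rw [h']; exact hx'C)
    · exact hxx' (c.injective h')

/-- **Bisection lemma.** A transitive imprimitive group of degree `8` containing a `3`-cycle
stabilises a bisection. -/
theorem exists_bisection {H : Subgroup (Perm α)} [IsPretransitive H α]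
    (hn : Fintype.card α = 8) (hnp : ¬ IsPreprimitive H α) {c : Perm α} (hc : c ∈ H)
    (h3 : c.IsThreeCycle) :
    ∃ B : Set α, B.ncard = 4 ∧ Bᶜ.ncard = 4 ∧ H ≤ bisect B := by
  have hex : ∃ B : Set α, IsBlock H B ∧ ¬ IsTrivialBlock B := by
    by_contra hcon
    push Not at hcon
    exact hnp (IsPreprimitive.mk fun {B} hB => hcon B hB)
  obtain ⟨B, hB, hnt⟩ := hex
  have hB1 : ¬ B.Subsingleton := fun h => hnt (Or.inl h)
  have hB2 : B ≠ Set.univ := fun h => hnt (Or.inr h)
  have hBne : B.Nonempty := by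
    rw [Set.not_subsingleton_iff] at hB1
    exact hB1.nonempty
  have hdvd : B.ncard ∣ 8 := by
    have := hB.ncard_dvd_card hBne
    rwa [Nat.card_eq_fintype_card, hn] at this
  have hgt : 1 < B.ncard := by
    by_contra hle
    push Not at hle
    exact hB1 (Set.ncard_le_one_iff_subsingleton.mp hle)
  have hlt : B.ncard ≠ 8 := by
    intro h
    apply hB2
    apply Set.eq_of_subset_of_ncard_le (Set.subset_univ B)
    rw [Set.ncard_univ, Nat.card_eq_fintype_card, hn, h]
  have hne2 : B.ncard ≠ 2 := no_block_two hc h3 hB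
  have h4 : B.ncard = 4 := by
    have hle : B.ncard ≤ 8 := Nat.le_of_dvd (by norm_num) hdvd
    interval_cases h : B.ncard <;> simp_all
  have hc4 : Bᶜ.ncard = 4 := by
    rw [Set.ncard_compl, Nat.card_eq_fintype_card, hn, h4]
  refine ⟨B, h4, hc4, ?_⟩
  intro g hg
  rcases (isBlock_iff_smul_eq_or_disjoint.mp hB) ⟨g, hg⟩ with h | h
  · left
    rw [coe_smul_set] at h
    exact h
  · right
    rw [coe_smul_set] at h
    apply Set.eq_of_subset_of_ncard_le
    · intro w hw hwB
      exact Set.disjoint_left.mp h hw hwB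
    · rw [Set.ncard_smul_set, h4, hc4]
    · exact Set.toFinite _

end Cfsg.Agent.Helper8.HallSym
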