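import Cfsg.Agent.Helper8.HallAltD

/-!
# Hall subgroups of alternating groups, part E: Klein four-groups inside Hall subgroups
-/

set_option autoImplicit false
set_option linter.unusedSectionVars false

namespace Cfsg.Agent.Helper8.HallSym

open Equiv MulAction
open scoped Pointwise

universe u

variable {α : Type u} [Fintype α] [DecidableEq α] {π : Set ℕ}

/-- The elements of the Klein four-group in `Perm (Fin 4)`. -/
def v4list : Finset (Perm (Fin 4)) :=
  {1, swap 0 1 * swap 2 3, swap 0 2 * swap 1 3, swap 0 3 * swap 1 2}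

/-- The Klein four-group in `Perm (Fin 4)`. -/
def v4 : Subgroup (Perm (Fin 4)) where
  carrier := {σ | σ ∈ v4list}
  one_mem' := by decide
  mul_mem' := by
    intro a b ha hb
    revert a b
    decide
  inv_mem' := by
    intro a ha
    revert a
    decide

theorem v4_sq : ∀ σ ∈ v4, σ ^ 2 = 1 := by
  intro σ hσ
  change σ ∈ v4list at hσ
  revert σ
  decide

theorem v4_sign : ∀ σ ∈ v4, Perm.sign σ = 1 := by
  intro σ hσ
  change σ ∈ v4list at hσ
  revert σ
  decide

theorem v4_trans : ∀ i j : Fin 4, ∃ σ ∈ v4, σ i = j := by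
  intro i j
  change ∃ σ, σ ∈ v4list ∧ σ i = j
  revert i j
  decide

theorem v4_isPGroup : IsPGroup 2 v4 := by
  intro g
  refine ⟨1, ?_⟩
  apply Subtype.ext
  rw [pow_one, Subgroup.coe_pow]
  exact v4_sq g g.2

theorem sign_viaEmbedding {β : Type*} [Fintype β] [DecidableEq β] (e : Perm β) (ι : β ↪ α) :
    Perm.sign (e.viaEmbedding ι) = Perm.sign e := by
  classical
  unfold Perm.viaEmbedding
  convert Perm.sign_extendDomain e (Equiv.ofInjective ι.1 ι.2)

theorem conj_viaEmbedding {β : Type*} (e : Perm β) (ι : β ↪ α) (g : Perm α) :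
    g * e.viaEmbedding ι * g⁻¹ = e.viaEmbedding (ι.trans g.toEmbedding) := by
  ext y
  by_cases hy : y ∈ Set.range (ι.trans g.toEmbedding)
  · obtain ⟨i, rfl⟩ := hy
    rw [Perm.viaEmbedding_apply]
    simp [Perm.viaEmbedding_apply]
  · rw [Perm.viaEmbedding_apply_of_notMem _ _ _ hy]
    have hy' : g⁻¹ y ∉ Set.range ι := by
      rintro ⟨i, hi⟩
      apply hy
      refine ⟨i, ?_⟩
      simp [hi]
    rw [Perm.mul_apply, Perm.mul_apply, Perm.viaEmbedding_apply_of_notMem _ _ _ hy']
    simp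

/-- A Hall `π`-subgroup of the alternating group (`2 ∈ π`) on at least `4` points contains a
Klein four-group acting on four points. -/
theorem exists_klein (h2 : 2 ∈ π) (hn : 4 ≤ Fintype.card α) {M : Subgroup (Perm α)}
    (hM : AHall π M) : ∃ ι : Fin 4 ↪ α, ∀ σ ∈ v4, σ.viaEmbedding ι ∈ M := by
  have hemb : Nonempty (Fin 4 ↪ α) := by
    rw [Function.Embedding.nonempty_iff_card_le]
    simpa using hn
  obtain ⟨ι0⟩ := hemb
  have hMA := hM.1
  have hH := (ahall_iff hMA).mp hM
  -- the Klein four-group inside the alternating group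
  have hV : IsPGroup 2 (v4.map (Perm.viaEmbeddingHom ι0)) := v4_isPGroup.map _
  have hVA : v4.map (Perm.viaEmbeddingHom ι0) ≤ alternatingGroup α := by
    rintro _ ⟨σ, hσ, rfl⟩
    rw [Perm.mem_alternatingGroup, Perm.viaEmbeddingHom_apply, sign_viaEmbedding]
    exact v4_sign σ hσ
  obtain ⟨g, hg⟩ := exists_conj_le_of_hall hH Nat.prime_two h2
    ((v4.map (Perm.viaEmbeddingHom ι0)).subgroupOf (alternatingGroup α)) hV.comap_subtype
  refine ⟨ι0.trans (g : Perm α).toEmbedding, fun σ hσ => ?_⟩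
  have hmem : σ.viaEmbedding ι0 ∈ alternatingGroup α :=
    hVA ⟨σ, hσ, rfl⟩
  have := hg ⟨σ.viaEmbedding ι0, hmem⟩ (by
    rw [Subgroup.mem_subgroupOf]
    exact ⟨σ, hσ, rfl⟩)
  rw [Subgroup.mem_subgroupOf] at this
  rw [← conj_viaEmbedding]
  exact this

end Cfsg.Agent.Helper8.HallSym
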