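import Cfsg.Agent.Helper8.HallAltE

/-!
# Hall subgroups of alternating groups, part F: Witt's lemma for `2`-transitive groups
-/

set_option autoImplicit false
set_option linter.unusedSectionVars false

namespace Cfsg.Agent.Helper8.HallSym

open MulAction

section Witt

variable {G : Type*} [Group G] {X : Type*} [MulAction G X]

/-- The pointwise stabiliser of two points. -/
def twoPt (G : Type*) [Group G] {X : Type*} [MulAction G X] (a b : X) : Subgroup G :=
  stabilizer G a ⊓ stabilizer G b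

theorem mem_twoPt {a b : X} {g : G} : g ∈ twoPt G a b ↔ g • a = a ∧ g • b = b := by
  unfold twoPt
  rw [Subgroup.mem_inf, mem_stabilizer_iff, mem_stabilizer_iff]

/-- The set of common fixed points of a subgroup. -/
def fixSet (U : Subgroup G) : Set X := {z | ∀ u ∈ U, u • z = z}

theorem card_twoPt (h2 : IsMultiplyPretransitive G X 2) {a b c d : X} (hab : a ≠ b)
    (hcd : c ≠ d) : Nat.card (twoPt G a b) = Nat.card (twoPt G c d) := by
  obtain ⟨g, hga, hgb⟩ := (is_two_pretransitive_iff.mp h2) hab hcd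
  have : (twoPt G a b).map (MulAut.conj g).toMonoidHom = twoPt G c d := by
    ext k
    rw [Subgroup.mem_map_equiv, mem_twoPt, mem_twoPt, MulAut.conj_symm_apply, mul_smul, mul_smul,
      mul_smul, mul_smul, inv_smul_eq_iff, inv_smul_eq_iff, hga, hgb]
  rw [← this, Subgroup.card_map_of_injective (MulAut.conj g).injective]

variable [Finite G]

theorem twoPt_eq_of_mem_fixSet (h2 : IsMultiplyPretransitive G X 2) {x y : X} (hxy : x ≠ y)
    {a b : X} (ha : a ∈ fixSet (twoPt G x y)) (hb : b ∈ fixSet (twoPt G x y)) (hab : a ≠ b) :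
    twoPt G x y = twoPt G a b := by
  apply Subgroup.eq_of_le_of_card_ge
  · intro u hu
    exact mem_twoPt.mpr ⟨ha u hu, hb u hu⟩
  · exact (card_twoPt h2 hab hxy).le

theorem mem_normalizer_of_smul_mem (h2 : IsMultiplyPretransitive G X 2) {x y : X} (hxy : x ≠ y)
    {a b : X} (ha : a ∈ fixSet (twoPt G x y)) (hb : b ∈ fixSet (twoPt G x y)) (hab : a ≠ b)
    {m : G} (hma : m • a ∈ fixSet (twoPt G x y)) (hmb : m • b ∈ fixSet (twoPt G x y)) :
    m ∈ Subgroup.normalizer (twoPt G x y : Set G) := by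
  have e1 := twoPt_eq_of_mem_fixSet h2 hxy ha hb hab
  have e2 := twoPt_eq_of_mem_fixSet h2 hxy hma hmb (fun h => hab (smul_left_cancel m h))
  rw [Subgroup.mem_normalizer_iff]
  intro h
  constructor
  · intro hh
    rw [e1, mem_twoPt] at hh
    rw [e2, mem_twoPt, ← mul_smul, ← mul_smul, inv_mul_cancel_right, mul_smul, mul_smul, hh.1, hh.2]
    exact ⟨rfl, rfl⟩
  · intro hh
    rw [e2, mem_twoPt, ← mul_smul, ← mul_smul, inv_mul_cancel_right, mul_smul, mul_smul] at hh
    rw [e1, mem_twoPt]
    exact ⟨smul_left_cancel m hh.1, smul_left_cancel m hh.2⟩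

theorem smul_mem_fixSet_of_mem_normalizer {U : Subgroup G} {m : G} (hm : m ∈ Subgroup.normalizer (U : Set G))
    {z : X} (hz : z ∈ fixSet U) : m • z ∈ fixSet U := by
  intro u hu
  have hm' : m⁻¹ ∈ Subgroup.normalizer (U : Set G) := inv_mem hm
  rw [Subgroup.mem_normalizer_iff] at hm'
  have h1 : m⁻¹ * u * m⁻¹⁻¹ ∈ U := (hm' u).mp hu
  rw [inv_inv] at h1
  have h2 := hz _ h1
  rw [mul_smul, mul_smul, inv_smul_eq_iff] at h2
  exact h2

/-- **Witt's lemma** (counting form): in a `2`-transitive group, the normaliser of a two-point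
stabiliser `U` acts `2`-transitively on the fixed points of `U`; hence `f * (f - 1)` divides the
group order, where `f` is the number of fixed points of `U`. -/
theorem witt_dvd (h2 : IsMultiplyPretransitive G X 2) {x y : X} (hxy : x ≠ y) :
    (fixSet (X := X) (twoPt G x y)).ncard * ((fixSet (X := X) (twoPt G x y)).ncard - 1) ∣
      Nat.card G := by
  set U := twoPt G x y with hU
  have hxF : x ∈ fixSet (X := X) U := fun u hu => (mem_twoPt.mp hu).1
  have hyF : y ∈ fixSet (X := X) U := fun u hu => (mem_twoPt.mp hu).2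
  set N : Subgroup G := Subgroup.normalizer (U : Set G) with hN
  -- orbit of `x` under the normaliser
  have horb1 : orbit N x = fixSet (X := X) U := by
    ext c
    constructor
    · rintro ⟨n, rfl⟩
      exact smul_mem_fixSet_of_mem_normalizer n.2 hxF
    · intro hc
      by_cases hcx : c = x
      · rw [hcx]
        exact mem_orbit_self x
      · obtain ⟨g, hgx, hgy⟩ := (is_two_pretransitive_iff.mp h2) hxy hcx
        have hg : g ∈ N :=
          mem_normalizer_of_smul_mem h2 hxy hxF hyF hxy (by rw [hgx]; exact hc) (by rw [hgy]; exact hxF)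
        exact ⟨⟨g, hg⟩, hgx⟩
  have horb2 : orbit (stabilizer N x) y = fixSet (X := X) U \ {x} := by
    ext c
    constructor
    · rintro ⟨k, rfl⟩
      refine ⟨smul_mem_fixSet_of_mem_normalizer (k : N).2 hyF, ?_⟩
      rw [Set.mem_singleton_iff]
      intro h
      have hk : (k : N) • x = x := k.2
      apply hxy
      have h' : (k : N) • y = (k : N) • x := by
        rw [hk]
        exact h
      exact (smul_left_cancel _ h').symm
    · rintro ⟨hc, hcx⟩
      rw [Set.mem_singleton_iff] at hcx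
      obtain ⟨g, hgx, hgy⟩ := (is_two_pretransitive_iff.mp h2) hxy (Ne.symm hcx)
      have hg : g ∈ N :=
        mem_normalizer_of_smul_mem h2 hxy hxF hyF hxy (by rw [hgx]; exact hxF) (by rw [hgy]; exact hc)
      refine ⟨⟨⟨g, hg⟩, ?_⟩, hgy⟩
      rw [mem_stabilizer_iff]
      exact hgx
  have h3 := index_stabilizer N x
  rw [horb1] at h3
  have h4 := index_stabilizer (stabilizer N x) y
  rw [horb2, Set.ncard_sdiff_singleton_of_mem hxF] at h4
  have h5 := Subgroup.index_mul_card (stabilizer N x)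
  have h6 := Subgroup.index_mul_card (stabilizer (stabilizer N x) y)
  rw [h3] at h5
  rw [h4] at h6
  refine Dvd.dvd.trans ⟨Nat.card (stabilizer (stabilizer N x) y), ?_⟩
    (Subgroup.card_subgroup_dvd_card N)
  rw [← h5, ← h6]
  ring

/-- A third fixed point of the two-point stabiliser in a `2`-transitive group of odd degree whose
point stabiliser is a `2`-group. -/
theorem exists_third_fixed [Finite X] (h2 : IsMultiplyPretransitive G X 2) {x y : X}
    (hxy : x ≠ y) (hT : IsPGroup 2 (stabilizer G x)) (hodd : ¬ 2 ∣ Nat.card X) :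
    ∃ w ∈ fixSet (X := X) (twoPt G x y), w ≠ x ∧ w ≠ y := by
  set U := twoPt G x y with hU
  have hxF : x ∈ fixSet (X := X) U := fun u hu => (mem_twoPt.mp hu).1
  have hyF : y ∈ fixSet (X := X) U := fun u hu => (mem_twoPt.mp hu).2
  obtain ⟨m, hmx, hmy⟩ := (is_two_pretransitive_iff.mp h2) hxy (Ne.symm hxy)
  have hmN : m ∈ Subgroup.normalizer (U : Set G) :=
    mem_normalizer_of_smul_mem h2 hxy hxF hyF hxy (by rw [hmx]; exact hyF) (by rw [hmy]; exact hxF)
  have hUp : IsPGroup 2 U := hT.to_le inf_le_left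
  have hm2 : m ^ 2 ∈ stabilizer G x := by
    rw [mem_stabilizer_iff, pow_two, mul_smul, hmx, hmy]
  obtain ⟨k, hk⟩ := hT ⟨m ^ 2, hm2⟩
  have hk' : m ^ (2 ^ (k + 1)) = 1 := by
    have := congrArg Subtype.val hk
    rw [Subgroup.coe_pow] at this
    rw [pow_succ, mul_comm, pow_mul]
    exact this
  have hzp : IsPGroup 2 (Subgroup.zpowers m) := by
    have hd : orderOf m ∣ 2 ^ (k + 1) := orderOf_dvd_of_pow_eq_one hk'
    obtain ⟨i, _, hi⟩ := (Nat.dvd_prime_pow Nat.prime_two).mp hd
    exact IsPGroup.of_card (n := i) (by rw [Nat.card_zpowers, hi])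
  have hL : IsPGroup 2 (Subgroup.zpowers m ⊔ U : Subgroup G) :=
    IsPGroup.to_sup_of_normal_right' hzp hUp (Subgroup.zpowers_le.mpr hmN)
  have : Fact (Nat.Prime 2) := ⟨Nat.prime_two⟩
  obtain ⟨w, hw⟩ := hL.nonempty_fixed_point_of_prime_not_dvd_card X hodd
  rw [mem_fixedPoints] at hw
  have hmw : m • w = w :=
    hw ⟨m, Subgroup.mem_sup_left (Subgroup.mem_zpowers m)⟩
  refine ⟨w, fun u hu => hw ⟨u, Subgroup.mem_sup_right hu⟩, ?_, ?_⟩
  · intro h
    rw [h, hmx] at hmw
    exact hxy hmw.symm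
  · intro h
    rw [h, hmy] at hmw
    exact hxy hmw

end Witt

/-- Arithmetic: `f * (f - 1) ∣ n * 2 ^ j` with `n` an odd prime and `3 ≤ f ≤ n` forces `f = n`. -/
theorem eq_of_mul_pred_dvd {f n j : ℕ} (hn : n.Prime) (hf3 : 3 ≤ f) (hfn : f ≤ n)
    (h : f * (f - 1) ∣ n * 2 ^ j) : f = n := by
  rcases Nat.even_or_odd f with he | ho
  · exfalso
    have hodd : Odd (f - 1) := by
      obtain ⟨k, hk⟩ := he
      exact ⟨k - 1, by omega⟩
    have hc : (f - 1).Coprime (2 ^ j) := Nat.Coprime.pow_right j (Nat.coprime_two_right.mpr hodd)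
    have hd : f - 1 ∣ n := hc.dvd_of_dvd_mul_right ((Dvd.intro_left f rfl).trans h)
    rcases (Nat.dvd_prime hn).mp hd with h1 | h1 <;> omega
  · have hc : f.Coprime (2 ^ j) := Nat.Coprime.pow_right j (Nat.coprime_two_right.mpr ho)
    have hd : f ∣ n := hc.dvd_of_dvd_mul_right ((Dvd.intro (f - 1) rfl).trans h)
    rcases (Nat.dvd_prime hn).mp hd with h1 | h1 <;> omega

end Cfsg.Agent.Helper8.HallSym
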