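import Cfsg.Agent.Helper8.HallAltF

/-!
# Hall subgroups of alternating groups, part G: no Hall `{2, n}`-subgroups in prime degree `n ≥ 5`
-/

set_option autoImplicit false
set_option linter.unusedSectionVars false

namespace Cfsg.Agent.Helper8.HallSym

open Equiv MulAction
open scoped Pointwise

universe u

variable {α : Type u} [Fintype α] [DecidableEq α] {π : Set ℕ}

/-- A primitive group containing a Klein four-group on four points (fixing the others) is
`2`-transitive (Jordan). -/
theorem two_trans_of_klein {M : Subgroup (Perm α)} (hprim : IsPreprimitive M α)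
    (hn : 5 ≤ Fintype.card α) (ι : Fin 4 ↪ α) (hι : ∀ σ ∈ v4, σ.viaEmbedding ι ∈ M) :
    IsMultiplyPretransitive M α 2 := by
  have hs : ((Set.range ι)ᶜ).ncard = (Fintype.card α - 5) + 1 := by
    rw [Set.ncard_compl, Set.ncard_range_of_injective ι.injective, Nat.card_eq_fintype_card,
      Nat.card_eq_fintype_card, Fintype.card_fin]
    omega
  refine hprim.is_two_pretransitive hs (by rw [Nat.card_eq_fintype_card]; omega) ?_
  constructor
  rintro ⟨a, ha⟩ ⟨b, hb⟩
  rw [SubMulAction.mem_ofFixingSubgroup_iff] at ha hb
  have ha' : a ∈ Set.range ι := by simpa using ha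
  have hb' : b ∈ Set.range ι := by simpa using hb
  obtain ⟨i, rfl⟩ := ha'
  obtain ⟨j, rfl⟩ := hb'
  obtain ⟨σ, hσ, hσij⟩ := v4_trans i j
  refine ⟨⟨⟨σ.viaEmbedding ι, hι σ hσ⟩, ?_⟩, ?_⟩
  · rw [mem_fixingSubgroup_iff]
    intro y hy
    exact Perm.viaEmbedding_apply_of_notMem _ _ _ hy
  · apply Subtype.ext
    change σ.viaEmbedding ι (ι i) = ι j
    rw [Perm.viaEmbedding_apply, hσij]

/-- The alternating group of degree `5` has no subgroup of order `20`. -/
theorem no_card_twenty (hn : Fintype.card α = 5) {M : Subgroup (Perm α)}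
    (hMA : M ≤ alternatingGroup α) (h : Nat.card M = 20) : False := by
  have hs : IsSimpleGroup (alternatingGroup α) :=
    alternatingGroup.isSimpleGroup (by rw [Nat.card_eq_fintype_card, hn])
  have hG : Nat.card (alternatingGroup α) = 60 := by
    have := two_mul_card_alt (α := α) (by omega)
    rw [hn] at this
    have h120 : (5 : ℕ).factorial = 120 := by decide
    omega
  set H := M.subgroupOf (alternatingGroup α) with hH
  have hHc : Nat.card H = 20 := by rw [hH, card_subgroupOf_of_le hMA, h]
  have hidx : H.index = 3 := by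
    have := Subgroup.card_mul_index H
    rw [hHc, hG] at this
    omega
  rcases hs.eq_bot_or_eq_top_of_normal H.normalCore (Subgroup.normalCore_normal H) with hb | ht
  · rw [Subgroup.normalCore_eq_ker, MonoidHom.ker_eq_bot_iff] at hb
    have hd := Subgroup.card_dvd_of_injective _ hb
    rw [hG, Nat.card_perm, ← Subgroup.index_eq_card, hidx] at hd
    exact absurd hd (by decide)
  · have : H = ⊤ := top_le_iff.mp (ht ▸ Subgroup.normalCore_le H)
    rw [this, Subgroup.card_top, hG] at hHc
    omega

/-- **No Hall `{2, n}`-subgroups.** A transitive Hall subgroup of the alternating group of prime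
degree `n ≥ 5` (with `2 ∈ π`) cannot have a `2`-group as point stabiliser. -/
theorem no_hall_two_prime (hnp : (Fintype.card α).Prime) (hn5 : 5 ≤ Fintype.card α) (h2 : 2 ∈ π)
    {M : Subgroup (Perm α)} (hM : AHall π M) [IsPretransitive M α] (x : α)
    (hT : ∀ p : ℕ, p.Prime → p ∣ Nat.card (pt M x) → p = 2) : False := by
  have hcard := card_eq_card_mul_pt M x
  have hpow := Nat.eq_prime_pow_of_unique_prime_dvd (card_ne_zero' (pt M x))
    (fun {d} hd hdd => hT d hd hdd)
  set j := (Nat.card (pt M x)).primeFactorsList.length with hj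
  rw [hpow] at hcard
  by_cases h5 : Fintype.card α = 5
  · -- degree `5`
    obtain ⟨hMA, hM1, hM2⟩ := hM
    have h1 := card_mul_relIndex_of_le hMA
    have h2' := two_mul_card_alt (α := α) (by omega)
    rw [h5] at h2' hcard
    have h120 : (5 : ℕ).factorial = 120 := by decide
    rw [h120] at h2'
    have h60 : Nat.card (alternatingGroup α) = 60 := by omega
    rw [h60, hcard] at h1
    have hI2 : ¬ 2 ∣ M.relIndex (alternatingGroup α) := hM2 2 Nat.prime_two h2
    have h5π : (5 : ℕ) ∈ π := hM1 5 (by norm_num) (by rw [hcard]; exact Dvd.intro _ rfl)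
    have hjle : j < 4 := by
      by_contra hge
      push Not at hge
      have : 2 ^ 4 ≤ 2 ^ j := Nat.pow_le_pow_right (by norm_num) hge
      have hpos : 0 < M.relIndex (alternatingGroup α) := by
        rcases Nat.eq_zero_or_pos (M.relIndex (alternatingGroup α)) with h0 | h0
        · rw [h0] at h1; omega
        · exact h0
      nlinarith
    interval_cases j
    · exact hI2 ⟨6, by omega⟩
    · exact hI2 ⟨3, by omega⟩
    · exact no_card_twenty h5 hMA (by rw [hcard]; norm_num)
    · omega
  · -- degree at least `7`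
    have hn7 : 7 ≤ Fintype.card α := by
      have h6 : Fintype.card α ≠ 6 := fun h => by
        rw [h] at hnp
        exact absurd hnp (by norm_num)
      omega
    have hprim : IsPreprimitive M α :=
      IsPreprimitive.of_prime_card (by rw [Nat.card_eq_fintype_card]; exact hnp)
    obtain ⟨ι, hι⟩ := exists_klein h2 (by omega) hM
    have h2t := two_trans_of_klein hprim (by omega) ι hι
    obtain ⟨y, hxy⟩ : ∃ y, x ≠ y := by
      have := nontrivial_of_two_le (α := α) (by omega)
      obtain ⟨y, hy⟩ := exists_ne x
      exact ⟨y, hy.symm⟩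
    have hTp : IsPGroup 2 (stabilizer M x) :=
      IsPGroup.of_card (n := j) (by rw [← card_pt, hpow])
    have hodd : ¬ 2 ∣ Nat.card α := by
      rw [Nat.card_eq_fintype_card]
      intro hd
      have := (Nat.prime_dvd_prime_iff_eq Nat.prime_two hnp).mp hd
      omega
    obtain ⟨w, hwF, hwx, hwy⟩ := exists_third_fixed h2t hxy hTp hodd
    have hxF : x ∈ fixSet (X := α) (twoPt M x y) := fun u hu => (mem_twoPt.mp hu).1
    have hyF : y ∈ fixSet (X := α) (twoPt M x y) := fun u hu => (mem_twoPt.mp hu).2
    have hf3 : 3 ≤ (fixSet (X := α) (twoPt M x y)).ncard := by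
      have hsub : ({x, y, w} : Set α) ⊆ fixSet (X := α) (twoPt M x y) := by
        intro z hz
        rcases hz with rfl | rfl | rfl
        · exact hxF
        · exact hyF
        · exact hwF
      have h3 : ({x, y, w} : Set α).ncard = 3 :=
        Set.ncard_eq_three.mpr ⟨x, y, w, hxy, Ne.symm hwx, Ne.symm hwy, rfl⟩
      rw [← h3]
      exact Set.ncard_le_ncard hsub (Set.toFinite _)
    have hfn : (fixSet (X := α) (twoPt M x y)).ncard ≤ Fintype.card α := by
      rw [← Nat.card_eq_fintype_card]
      exact Set.ncard_le_card _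
    have hdvd := witt_dvd h2t hxy
    rw [hcard] at hdvd
    have hfeq := eq_of_mul_pred_dvd hnp hf3 hfn hdvd
    have hFuniv : fixSet (X := α) (twoPt M x y) = Set.univ := by
      apply Set.eq_of_subset_of_ncard_le (Set.subset_univ _) _ (Set.toFinite _)
      rw [Set.ncard_univ, Nat.card_eq_fintype_card, hfeq]
    have hU1 : Nat.card (twoPt M x y) = 1 := by
      have : twoPt M x y = ⊥ := by
        rw [eq_bot_iff]
        intro u hu
        rw [Subgroup.mem_bot]
        apply Subtype.ext
        ext z
        have hz : z ∈ fixSet (X := α) (twoPt M x y) := hFuniv ▸ Set.mem_univ z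
        exact hz u hu
      rw [this, Subgroup.card_bot]
    -- two points outside the Klein four-group
    have hs : 1 < ((Set.range ι)ᶜ).ncard := by
      rw [Set.ncard_compl, Set.ncard_range_of_injective ι.injective, Nat.card_eq_fintype_card,
        Nat.card_eq_fintype_card, Fintype.card_fin]
      omega
    obtain ⟨a, ha, b, hb, hab⟩ := (Set.one_lt_ncard (Set.toFinite _)).mp hs
    obtain ⟨σ, hσ, hσ01⟩ := v4_trans 0 1
    have hv : (⟨σ.viaEmbedding ι, hι σ hσ⟩ : M) ∈ twoPt M a b := by
      rw [mem_twoPt]
      exact ⟨Perm.viaEmbedding_apply_of_notMem _ _ _ ha,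
        Perm.viaEmbedding_apply_of_notMem _ _ _ hb⟩
    have hab1 : Nat.card (twoPt M a b) = 1 := (card_twoPt h2t hab hxy).trans hU1
    have hbot := Subgroup.eq_bot_of_card_eq _ hab1
    rw [hbot, Subgroup.mem_bot] at hv
    have hv' : σ.viaEmbedding ι = 1 := congrArg Subtype.val hv
    have := Perm.viaEmbedding_apply σ ι 0
    rw [hv', hσ01] at this
    have h01 : (0 : Fin 4) = 1 := ι.injective (by rw [← this]; rfl)
    exact absurd h01 (by decide)

end Cfsg.Agent.Helper8.HallSym
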