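import Cfsg.Agent.Helper8.HallAltG

/-!
# Hall subgroups of alternating groups, part H: primitivity with the even two-point stabiliser
-/

set_option autoImplicit false
set_option linter.unusedSectionVars false

namespace Cfsg.Agent.Helper8.HallSym

open Equiv MulAction
open scoped Pointwise

universe u

variable {α : Type u} [Fintype α] [DecidableEq α] {π : Set ℕ}

theorem exists_notMem_of_card_lt (s : Finset α) (h : s.card < Fintype.card α) : ∃ a, a ∉ s := by
  obtain ⟨e, _, he⟩ := Finset.exists_mem_notMem_of_card_lt_card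
    (s := s) (t := Finset.univ) (by rwa [Finset.card_univ])
  exact ⟨e, he⟩

/-- The `3`-cycle `z ↦ w ↦ v ↦ z`. -/
theorem tc_apply_of_ne {z w v y : α} (h1 : y ≠ z) (h2 : y ≠ w) (h3 : y ≠ v) :
    (swap z w * swap w v) y = y := by
  rw [Perm.mul_apply, swap_apply_of_ne_of_ne h2 h3, swap_apply_of_ne_of_ne h1 h2]

theorem tc_apply_left {z w v : α} (h1 : z ≠ w) (h2 : z ≠ v) : (swap z w * swap w v) z = w := by
  rw [Perm.mul_apply, swap_apply_of_ne_of_ne h1 h2, swap_apply_left]

theorem tc_sign {z w v : α} (h1 : z ≠ w) (h2 : w ≠ v) : Perm.sign (swap z w * swap w v) = 1 := by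
  rw [Perm.sign_mul, Perm.sign_swap h1, Perm.sign_swap h2]
  rfl

/-- A transitive group on at least `6` points containing all even permutations fixing two given
points is primitive. -/
theorem prim_of_two_point_stab_alt {H : Subgroup (Perm α)} [IsPretransitive H α]
    (hn : 6 ≤ Fintype.card α) {x x' : α} (hxx' : x ≠ x')
    (hstab : ∀ σ : Perm α, σ x = x → σ x' = x' → Perm.sign σ = 1 → σ ∈ H) :
    IsPreprimitive H α := by
  refine IsPreprimitive.mk ?_
  intro B hB
  by_contra hnt
  have hB1 : ¬ B.Subsingleton := fun h => hnt (Or.inl h)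
  have hB2 : B ≠ Set.univ := fun h => hnt (Or.inr h)
  rw [Set.not_subsingleton_iff] at hB1
  obtain ⟨b1, hb1, b2, hb2, hb12⟩ := hB1
  obtain ⟨g0, hg0⟩ := exists_smul_eq H b1 x
  set C : Set α := g0 • B with hC
  have hCblock : IsBlock H C := hB.translate g0
  have hxC : x ∈ C := by rw [← hg0]; exact Set.smul_mem_smul_set hb1
  have hzC : g0 • b2 ∈ C := Set.smul_mem_smul_set hb2
  have hzx : g0 • b2 ≠ x := by
    rw [← hg0]; intro h; exact hb12 (smul_left_cancel g0 h).symm
  have hCuniv : C ≠ Set.univ := by
    intro h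
    apply hB2
    have : g0⁻¹ • C = B := by rw [hC, inv_smul_smul]
    rw [← this, h, Set.smul_set_univ]
  have hstabC : ∀ σ : Perm α, σ x = x → σ x' = x' → Perm.sign σ = 1 → ∀ w ∈ C, σ w ∈ C := by
    intro σ h1 h2 h3 w hw
    have hσ : (⟨σ, hstab σ h1 h2 h3⟩ : H) ∈ stabilizer H C := by
      apply hCblock.stabilizer_le hxC
      rw [mem_stabilizer_iff]
      exact h1
    rw [mem_stabilizer_iff] at hσ
    rw [← hσ]
    exact Set.smul_mem_smul_set (a := (⟨σ, hstab σ h1 h2 h3⟩ : H)) hw
  have hcardC : C.ncard ∣ Fintype.card α := by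
    have := hCblock.ncard_dvd_card ⟨x, hxC⟩
    rwa [Nat.card_eq_fintype_card] at this
  by_cases hz : ∃ z ∈ C, z ≠ x ∧ z ≠ x'
  · obtain ⟨z, hzC', hzx', hzx''⟩ := hz
    have hsub : ∀ w, w ≠ x' → w ∈ C := by
      intro w hw
      by_cases hwx : w = x
      · rw [hwx]; exact hxC
      by_cases hwz : w = z
      · rw [hwz]; exact hzC'
      · obtain ⟨v, hv⟩ := exists_notMem_of_card_lt ({x, x', z, w} : Finset α)
          (lt_of_le_of_lt Finset.card_le_four (by omega))
        simp only [Finset.mem_insert, Finset.mem_singleton, not_or] at hv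
        obtain ⟨hvx, hvx', hvz, hvw⟩ := hv
        have := hstabC (swap z w * swap w v)
          (tc_apply_of_ne hzx'.symm (Ne.symm hwx) (Ne.symm hvx))
          (tc_apply_of_ne hzx''.symm (Ne.symm hw) (Ne.symm hvx'))
          (tc_sign (Ne.symm hwz) (Ne.symm hvw)) z hzC'
        rwa [tc_apply_left (Ne.symm hwz) (Ne.symm hvz)] at this
    have hge : Fintype.card α - 1 ≤ C.ncard := by
      have h1 : ({x'}ᶜ : Set α) ⊆ C := fun w hw => hsub w hw
      have h2 := Set.ncard_le_ncard h1 (Set.toFinite C)
      rw [Set.ncard_compl, Set.ncard_singleton, Nat.card_eq_fintype_card] at h2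
      exact h2
    have hle : C.ncard ≤ Fintype.card α := by
      have := Set.ncard_le_ncard (Set.subset_univ C) (Set.toFinite _)
      rwa [Set.ncard_univ, Nat.card_eq_fintype_card] at this
    have hne : C.ncard ≠ Fintype.card α := by
      intro h
      apply hCuniv
      apply Set.eq_of_subset_of_ncard_le (Set.subset_univ C) _ (Set.toFinite _)
      rw [Set.ncard_univ, Nat.card_eq_fintype_card, h]
    have heq : C.ncard = Fintype.card α - 1 := by omega
    rw [heq] at hcardC
    have h3 : Fintype.card α - 1 ∣ 1 := by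
      have h4 : Fintype.card α - 1 ∣ Fintype.card α - (Fintype.card α - 1) :=
        Nat.dvd_sub hcardC (dvd_refl _)
      have h5 : Fintype.card α - (Fintype.card α - 1) = 1 := by omega
      rwa [h5] at h4
    have := Nat.le_of_dvd one_pos h3
    omega
  · push Not at hz
    have hz' : g0 • b2 = x' := by
      by_contra h
      exact h (hz _ hzC hzx)
    have hx'C : x' ∈ C := hz' ▸ hzC
    have hCeq : ∀ w, w ∈ C ↔ w = x ∨ w = x' := by
      intro w
      constructor
      · intro hw
        by_cases hwx : w = x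
        · exact Or.inl hwx
        · exact Or.inr (hz w hw hwx)
      · rintro (h | h)
        · rw [h]; exact hxC
        · rw [h]; exact hx'C
    obtain ⟨y, hy⟩ := exists_notMem_of_card_lt ({x, x'} : Finset α)
      (lt_of_le_of_lt Finset.card_le_two (by omega))
    simp only [Finset.mem_insert, Finset.mem_singleton, not_or] at hy
    obtain ⟨g, hg⟩ := exists_smul_eq H x y
    set D : Set α := g • C with hD
    have hDblock : IsBlock H D := hCblock.translate g
    have hyD : y ∈ D := by rw [← hg]; exact Set.smul_mem_smul_set hxC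
    have hy'D : g • x' ∈ D := Set.smul_mem_smul_set hx'C
    have hyy' : g • x' ≠ y := by
      rw [← hg]; intro h; exact hxx' (smul_left_cancel g h).symm
    have hDeq : ∀ w, w ∈ D ↔ w = y ∨ w = g • x' := by
      intro w
      rw [hD, Set.mem_smul_set_iff_inv_smul_mem, hCeq]
      constructor
      · rintro (h | h)
        · left; rw [← hg, ← h, smul_inv_smul]
        · right; rw [← h, smul_inv_smul]
      · rintro (h | h)
        · left; rw [h, ← hg, inv_smul_smul]
        · right; rw [h, inv_smul_smul]
    have hdisj : Disjoint D C := by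
      rcases (isBlock_iff_smul_eq_or_disjoint.mp hCblock) g with h | h
      · exfalso
        rw [← hD] at h
        have : y ∈ C := h ▸ hyD
        rw [hCeq] at this
        rcases this with h1 | h1
        · exact hy.1 h1
        · exact hy.2 h1
      · exact h
    have hy'x : g • x' ≠ x := fun h => Set.disjoint_left.mp hdisj hy'D (by rw [h]; exact hxC)
    have hy'x' : g • x' ≠ x' := fun h => Set.disjoint_left.mp hdisj hy'D (by rw [h]; exact hx'C)
    obtain ⟨y'', hy''⟩ := exists_notMem_of_card_lt ({x, x', y, g • x'} : Finset α)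
      (lt_of_le_of_lt Finset.card_le_four (by omega))
    simp only [Finset.mem_insert, Finset.mem_singleton, not_or] at hy''
    obtain ⟨y''', hy'''⟩ := exists_notMem_of_card_lt ({x, x', y, g • x', y''} : Finset α)
      (lt_of_le_of_lt Finset.card_le_five (by omega))
    simp only [Finset.mem_insert, Finset.mem_singleton, not_or] at hy'''
    have hσmem : swap (g • x') y'' * swap y'' y''' ∈ H :=
      hstab _ (tc_apply_of_ne hy'x.symm (Ne.symm hy''.1) (Ne.symm hy'''.1))
        (tc_apply_of_ne hy'x'.symm (Ne.symm hy''.2.1) (Ne.symm hy'''.2.1))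
        (tc_sign (Ne.symm hy''.2.2.2) (Ne.symm hy'''.2.2.2.2))
    rcases (isBlock_iff_smul_eq_or_disjoint.mp hDblock) ⟨_, hσmem⟩ with h | h
    · have h1 : (⟨_, hσmem⟩ : H) • (g • x') ∈ D := by
        rw [← h]; exact Set.smul_mem_smul_set hy'D
      change (swap (g • x') y'' * swap y'' y''') (g • x') ∈ D at h1
      rw [tc_apply_left (Ne.symm hy''.2.2.2) (Ne.symm hy'''.2.2.2.1), hDeq] at h1
      rcases h1 with h1 | h1
      · exact hy''.2.2.1 h1
      · exact hy''.2.2.2 h1
    · have h1 : (⟨_, hσmem⟩ : H) • y ∈ (⟨_, hσmem⟩ : H) • D := Set.smul_mem_smul_set hyD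
      have h2 : (⟨_, hσmem⟩ : H) • y = y := by
        change (swap (g • x') y'' * swap y'' y''') y = y
        exact tc_apply_of_ne hyy'.symm (Ne.symm hy''.2.2.1) (Ne.symm hy'''.2.2.1)
      rw [h2] at h1
      exact Set.disjoint_left.mp h h1 hyD

end Cfsg.Agent.Helper8.HallSym
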