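import Cfsg.Agent.Helper8.HallAltH

/-!
# Hall subgroups of alternating groups, part I: auxiliary lemmas for the transitive case
-/

set_option autoImplicit false
set_option linter.unusedSectionVars false

namespace Cfsg.Agent.Helper8.HallSym

open Equiv MulAction
open scoped Pointwise

universe u

variable {α : Type u} [Fintype α] [DecidableEq α] {π : Set ℕ}

/-- A Hall `π`-subgroup of the alternating group with `3 ∈ π` contains a `3`-cycle. -/
theorem exists_three_cycle_mem_of_ahall (h3 : 3 ∈ π) (hn : 3 ≤ Fintype.card α)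
    {M : Subgroup (Perm α)} (hM : AHall π M) : ∃ c ∈ M, c.IsThreeCycle := by
  have hemb : Nonempty (Fin 3 ↪ α) := by
    rw [Function.Embedding.nonempty_iff_card_le]
    simpa using hn
  obtain ⟨ι⟩ := hemb
  have h01 : ι 0 ≠ ι 1 := fun h => absurd (ι.injective h) (by decide)
  have h02 : ι 0 ≠ ι 2 := fun h => absurd (ι.injective h) (by decide)
  have h12 : ι 1 ≠ ι 2 := fun h => absurd (ι.injective h) (by decide)
  have hc := Perm.isThreeCycle_swap_mul_swap_same h01 h02 h12
  have hH := (ahall_iff hM.1).mp hM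
  obtain ⟨g, hg⟩ := exists_conj_mem_of_hall hH Nat.prime_three h3
    (⟨_, hc.mem_alternatingGroup⟩ : alternatingGroup α) (k := 1)
    (by rw [Subgroup.orderOf_mk, hc.orderOf, pow_one])
  rw [Subgroup.mem_subgroupOf] at hg
  refine ⟨_, hg, ?_⟩
  change ((g : Perm α) * (swap (ι 0) (ι 1) * swap (ι 0) (ι 2)) * (g : Perm α)⁻¹).IsThreeCycle
  unfold Perm.IsThreeCycle
  rw [Perm.cycleType_conj]
  exact hc

/-- The even part of a transitive Hall `π`-subgroup of a symmetric group (`2 ∈ π`) is
transitive. -/
theorem trans_inf_alt (h2 : 2 ∈ π) (hn : 3 ≤ Fintype.card α) {K : Subgroup (Perm α)}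
    (hK : Cfsg.IsPiHall π K) [IsPretransitive K α] :
    IsPretransitive (K ⊓ alternatingGroup α : Subgroup (Perm α)) α := by
  constructor
  intro a b
  obtain ⟨g, hg⟩ := exists_smul_eq K a b
  by_cases hs : Perm.sign (g : Perm α) = 1
  · have hev : (g : Perm α) ∈ alternatingGroup α := Perm.mem_alternatingGroup.mpr hs
    exact ⟨⟨g, g.2, hev⟩, hg⟩
  · have hs' : Perm.sign (g : Perm α) = -1 := (Int.units_eq_one_or _).resolve_left hs
    obtain ⟨τ, hτ, hsw⟩ := exists_swap_mem (hall_pt hK a) h2 (by rw [card_subtype_ne]; omega)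
    have hmem : Perm.ofSubtype τ ∈ K := mem_pt.mp hτ
    have hev : (g : Perm α) * Perm.ofSubtype τ ∈ alternatingGroup α := by
      rw [Perm.mem_alternatingGroup, Perm.sign_mul, hs', Perm.sign_ofSubtype, hsw.sign_eq]
      rfl
    refine ⟨⟨(g : Perm α) * Perm.ofSubtype τ, K.mul_mem g.2 hmem, hev⟩, ?_⟩
    · change ((g : Perm α) * Perm.ofSubtype τ) a = b
      rw [Perm.mul_apply, ofSubtype_fix]
      exact hg

/-- If `M` has the order of the alternating group, it extends to the full symmetric group. -/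
theorem ext_of_card_eq_alt (hn : 2 ≤ Fintype.card α) (h2 : 2 ∈ π) {M : Subgroup (Perm α)}
    (hM : AHall π M) (hcard : Nat.card M = Nat.card (alternatingGroup α)) : Ext π M := by
  have hnt := nontrivial_of_two_le hn
  refine ⟨⊤, le_top, ?_, ?_⟩
  · intro p hp hpd
    rw [Subgroup.card_top, card_perm', ← two_mul_card_alt hn] at hpd
    rcases (Nat.Prime.dvd_mul hp).mp hpd with h | h
    · rw [(Nat.prime_dvd_prime_iff_eq hp Nat.prime_two).mp h]
      exact h2
    · exact hM.2.1 p hp (hcard ▸ h)
  · intro hle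
    have h1 : alternatingGroup α = ⊤ := top_le_iff.mp hle
    have h3 := alternatingGroup.index_eq_two (α := α)
    rw [h1, Subgroup.index_top] at h3
    omega

/-- If `M` contains the alternating group, every odd prime up to the degree lies in `π`. -/
theorem mem_of_alt_le (hn : 2 ≤ Fintype.card α) {M : Subgroup (Perm α)} (hM : AHall π M)
    (hle : alternatingGroup α ≤ M) {r : ℕ} (hr : r.Prime) (hr2 : r ≠ 2)
    (hrn : r ≤ Fintype.card α) : r ∈ π := by
  apply hM.2.1 r hr
  have h1 : r ∣ 2 * Nat.card (alternatingGroup α) := by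
    rw [two_mul_card_alt hn]
    exact (Nat.Prime.dvd_factorial hr).mpr hrn
  rcases (Nat.Prime.dvd_mul hr).mp h1 with h | h
  · exact absurd ((Nat.prime_dvd_prime_iff_eq hr Nat.prime_two).mp h) hr2
  · exact h.trans (Subgroup.card_dvd_of_le hle)

theorem card_eq_of_alt_le {M : Subgroup (Perm α)} (hM : AHall π M)
    (hle : alternatingGroup α ≤ M) : Nat.card M = Nat.card (alternatingGroup α) := by
  rw [le_antisymm hM.1 hle]

end Cfsg.Agent.Helper8.HallSym
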