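import Cfsg.Agent.Helper8.HallAltI

/-!
# Hall subgroups of alternating groups, part J: the extension theorem
-/

set_option autoImplicit false
set_option linter.unusedSectionVars false

namespace Cfsg.Agent.Helper8.HallSym

open Equiv MulAction
open scoped Pointwise

universe u

variable {α : Type u} [Fintype α] [DecidableEq α] {π : Set ℕ}

/-- **The transitive case** of the extension theorem. -/
theorem ext_trans (hn : 3 ≤ Fintype.card α) (h2 : 2 ∈ π) {M : Subgroup (Perm α)}
    (hM : AHall π M) [IsPretransitive M α] (x : α) (hK : Ext π (pt M x))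
    (hq : ∃ q : ℕ, q.Prime ∧ q ∣ Nat.card M ∧ q ≠ 2) : Ext π M := by
  obtain ⟨K₀, hK1, hK2, hK3⟩ := hK
  have hsub := card_subtype_ne x
  have hpt := ahall_pt_of_trans hn hM x
  obtain ⟨hKhall, hKinf⟩ := hall_of_ext (by rw [hsub]; omega) hpt hK1 hK2 hK3
  have hcard := card_eq_card_mul_pt M x
  obtain ⟨q, hq, hqd, hq2⟩ := hq
  have hqπ : q ∈ π := hM.2.1 q hq hqd
  have hqn : q ≤ Fintype.card α := by
    have : q ∣ Nat.card (Perm α) := hqd.trans (Subgroup.card_subgroup_dvd_card M)
    rw [card_perm'] at this
    exact (Nat.Prime.dvd_factorial hq).mp this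
  have ht := hall_classify hKhall
  cases ht with
  | top h =>
    apply ext_of_card_eq_alt (by omega) h2 hM
    have h1 : pt M x = alternatingGroup {y // y ≠ x} := by rw [← hKinf, h, top_inf_eq]
    have h3 := two_mul_card_alt (α := α) (by omega)
    have h4 := two_mul_card_alt (α := {y // y ≠ x}) (by rw [hsub]; omega)
    rw [hsub] at h4
    rw [hcard, h1]
    obtain ⟨m, hm⟩ : ∃ m, Fintype.card α = m + 1 := ⟨Fintype.card α - 1, by omega⟩
    rw [hm, Nat.factorial_succ] at h3
    rw [hm, Nat.add_sub_cancel] at h4
    rw [hm]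
    have : 2 * ((m + 1) * Nat.card (alternatingGroup {y // y ≠ x})) =
        2 * Nat.card (alternatingGroup α) := by
      rw [h3, ← h4]
      ring
    omega
  | pgroup p k hp hk =>
    have hp2 : 2 = p := prime_eq_of_pgroup hKhall hp hk Nat.prime_two h2 (by rw [hsub]; omega)
    subst hp2
    have hT : ∀ p' : ℕ, p'.Prime → p' ∣ Nat.card (pt M x) → p' = 2 := by
      intro p' hp' hpd
      have : p' ∣ 2 ^ k := hk ▸ hpd.trans (Subgroup.card_dvd_of_le hK1)
      exact (Nat.prime_dvd_prime_iff_eq hp' Nat.prime_two).mp (hp'.dvd_of_dvd_pow this)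
    have hqn' : q ∣ Fintype.card α := by
      rw [hcard] at hqd
      rcases (Nat.Prime.dvd_mul hq).mp hqd with h | h
      · exact h
      · exact absurd (hT q hq h) hq2
    have hqeq : q = Fintype.card α := by
      by_contra hne
      have hlt : q ≤ Fintype.card α - 1 := by omega
      have := prime_eq_of_pgroup hKhall Nat.prime_two hk hq hqπ (by rw [hsub]; exact hlt)
      exact hq2 this
    have hnp : (Fintype.card α).Prime := hqeq ▸ hq
    by_cases h3 : Fintype.card α = 3
    · apply ext_of_card_eq_alt (by omega) h2 hM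
      have h4 := two_mul_card_alt (α := α) (by omega)
      rw [h3] at h4
      have h6 : (3 : ℕ).factorial = 6 := by decide
      have hA : Nat.card (alternatingGroup α) = 3 := by omega
      rw [hA]
      have hd1 : Nat.card M ∣ 3 := hA ▸ Subgroup.card_dvd_of_le hM.1
      have hd2 : 3 ∣ Nat.card M := by
        rw [hcard, h3]
        exact Dvd.intro _ rfl
      exact Nat.dvd_antisymm hd1 hd2
    · exfalso
      have h5 : 5 ≤ Fintype.card α := by
        have h4 : Fintype.card α ≠ 4 := fun h => by
          rw [h] at hnp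
          exact absurd hnp (by norm_num)
        omega
      exact no_hall_two_prime hnp h5 h2 hM x hT
  | point x' hprime hmem hπ =>
    exfalso
    rw [Nat.card_eq_fintype_card, hsub] at hprime hπ
    have h2lt : 2 < Fintype.card α - 1 := (hπ 2 Nat.prime_two (by omega)).mp h2
    by_cases h3 : Fintype.card α - 1 = 3
    · have hq3 : q = 3 := by
        have := hq.two_le
        have h4 : q ≠ 4 := fun h => by
          rw [h] at hq
          exact absurd hq (by norm_num)
        omega
      rw [hq3] at hqπ
      have := (hπ 3 Nat.prime_three (by omega)).mp hqπ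
      omega
    · have h5 : 5 ≤ Fintype.card α - 1 := by
        have h4 : Fintype.card α - 1 ≠ 4 := fun h => by
          rw [h] at hprime
          exact absurd hprime (by norm_num)
        omega
      have hstab : ∀ σ : Perm α, σ x = x → σ (x' : α) = x' → Perm.sign σ = 1 → σ ∈ M := by
        intro σ hσx hσx' hσs
        have h₁ : ∀ y, (σ y ≠ x) ↔ (y ≠ x) := fun y =>
          not_congr ⟨fun h => by apply σ.injective; rw [h, hσx], fun h => by rw [h, hσx]⟩
        have h₂ : ∀ y, σ y ≠ y → y ≠ x := fun y hy hyx => hy (by rw [hyx, hσx])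
        have hτ1 : σ.subtypePerm h₁ ∈ K₀ := (hmem _).mpr (by
          apply Subtype.ext
          simp [hσx'])
        have hτ2 : σ.subtypePerm h₁ ∈ alternatingGroup {y // y ≠ x} := by
          rw [Perm.mem_alternatingGroup, Perm.sign_subtypePerm σ h₁ h₂]
          exact hσs
        have hτ : σ.subtypePerm h₁ ∈ pt M x := by
          rw [← hKinf]
          exact ⟨hτ1, hτ2⟩
        have := mem_pt.mp hτ
        rwa [Perm.ofSubtype_subtypePerm h₁ h₂] at this
      have hprim := prim_of_two_point_stab_alt (H := M) (by omega) x'.2.symm hstab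
      have h3π : (3 : ℕ) ∈ π := (hπ 3 Nat.prime_three (by omega)).mpr (by omega)
      obtain ⟨c, hc, hc3⟩ := exists_three_cycle_mem_of_ahall h3π hn hM
      have hle := Perm.alternatingGroup_le_of_isPreprimitive_of_isThreeCycle_mem hprim hc3 hc
      have hmem' := mem_of_alt_le (by omega) hM hle hprime (by omega) (by omega)
      have := (hπ _ hprime le_rfl).mp hmem'
      omega
  | seven P hc hk' hP hP4 hπ =>
    rw [Nat.card_eq_fintype_card, hsub] at hc
    have h8 : Fintype.card α = 8 := by omega
    have h3π : (3 : ℕ) ∈ π := (hπ 3 Nat.prime_three (by norm_num)).mpr (Or.inr rfl)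
    have h5π : (5 : ℕ) ∉ π := fun h => by
      have := (hπ 5 (by norm_num) (by norm_num)).mp h
      omega
    obtain ⟨c, hcM, hc3⟩ := exists_three_cycle_mem_of_ahall h3π hn hM
    by_cases hprim : IsPreprimitive M α
    · exfalso
      have hle := Perm.alternatingGroup_le_of_isPreprimitive_of_isThreeCycle_mem hprim hc3 hcM
      exact h5π (mem_of_alt_le (by omega) hM hle (by norm_num) (by norm_num) (by omega))
    · obtain ⟨B, hB4, hBc4, hle⟩ := exists_bisection h8 hprim hcM hc3
      refine ⟨bisect B, hle, bisect_pi hB4 hBc4 h2 h3π, ?_⟩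
      have h1 : 1 < B.ncard := by omega
      obtain ⟨a, ha, b, hb, hab⟩ := (Set.one_lt_ncard (Set.toFinite _)).mp h1
      intro hle'
      have := Perm.mem_alternatingGroup.mp (hle' (swap_mem_bisect ha hb))
      rw [Perm.sign_swap hab] at this
      exact absurd this (by decide)
  | eight hc hk' htr hπ =>
    exfalso
    rw [Nat.card_eq_fintype_card, hsub] at hc
    have h3π : (3 : ℕ) ∈ π := (hπ 3 Nat.prime_three (by norm_num)).mpr (Or.inr rfl)
    have h5π : (5 : ℕ) ∉ π := fun h => by
      have := (hπ 5 (by norm_num) (by norm_num)).mp h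
      omega
    have htr' : IsPretransitive (K₀ ⊓ alternatingGroup {y // y ≠ x} : Subgroup _) {y // y ≠ x} :=
      trans_inf_alt h2 (by rw [hsub]; omega) hKhall
    rw [hKinf] at htr'
    have h2t := two_trans_of_pt x htr'
    have hprim := isPreprimitive_of_is_two_pretransitive h2t
    obtain ⟨c, hcM, hc3⟩ := exists_three_cycle_mem_of_ahall h3π hn hM
    have hle := Perm.alternatingGroup_le_of_isPreprimitive_of_isThreeCycle_mem hprim hc3 hcM
    exact h5π (mem_of_alt_le (by omega) hM hle (by norm_num) (by norm_num) (by omega))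

end Cfsg.Agent.Helper8.HallSym
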