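import Cfsg.Agent.Helper8.HallAltJ

/-!
# Hall subgroups of alternating groups, part K: the extension theorem (induction)
-/

set_option autoImplicit false
set_option linter.unusedSectionVars false

namespace Cfsg.Agent.Helper8.HallSym

open Equiv MulAction
open scoped Pointwise

universe u

theorem two_le_card_orbP {α : Type u} [Fintype α] [DecidableEq α] {M : Subgroup (Perm α)} {x : α}
    (h : ∃ g ∈ M, g x ≠ x) : 2 ≤ Nat.card {z // orbP M x z} := by
  obtain ⟨g, hg, hgx⟩ := h
  have : Nontrivial {z // orbP M x z} :=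
    ⟨⟨⟨g x, (inv_orbP M x g hg x).mpr (orbP_self M x)⟩, ⟨x, orbP_self M x⟩,
      fun h => hgx (congrArg Subtype.val h)⟩⟩
  exact Finite.one_lt_card_iff_nontrivial.mpr this

theorem ext_of_ahall_aux (π : Set ℕ) (h2 : 2 ∈ π) : ∀ n : ℕ, ∀ (α : Type u) [Fintype α]
    [DecidableEq α] (M : Subgroup (Perm α)), Fintype.card α = n → 2 ≤ n → AHall π M →
    Ext π M := by
  intro n
  induction n using Nat.strong_induction_on with
  | _ n ih =>
    intro α _ _ M hn h2n hM
    by_cases h2g : ∀ p : ℕ, p.Prime → p ∣ Nat.card M → p = 2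
    · exact ext_of_two_group (by omega) h2 h2g
    push Not at h2g
    obtain ⟨q, hq, hqd, hq2⟩ := h2g
    -- `n ≥ 3`
    have hn3 : 3 ≤ n := by
      by_contra hlt
      have hn2 : Fintype.card α = 2 := by omega
      have h4 := two_mul_card_alt (α := α) (by omega)
      rw [hn2] at h4
      have hA : Nat.card (alternatingGroup α) = 1 := by
        have : (2 : ℕ).factorial = 2 := by decide
        omega
      have hd : q ∣ 1 := hA ▸ hqd.trans (Subgroup.card_dvd_of_le hM.1)
      exact hq.one_lt.ne' (Nat.dvd_one.mp hd)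
    by_cases hfix : ∃ x, ∀ g ∈ M, g x = x
    · obtain ⟨x, hx⟩ := hfix
      have hpt := ahall_pt_of_fixed (by omega) hM hx
      have := ih (n - 1) (by omega) {y // y ≠ x} (pt M x) (by rw [card_subtype_ne, hn])
        (by omega) hpt
      exact ext_of_fixed hx this
    push Not at hfix
    have hne : Nonempty α := Fintype.card_pos_iff.mp (by omega)
    obtain ⟨x⟩ := hne
    by_cases htr : IsPretransitive M α
    · have hpt := ahall_pt_of_trans (by omega) hM x
      have hK := ih (n - 1) (by omega) {y // y ≠ x} (pt M x) (by rw [card_subtype_ne, hn])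
        (by omega) hpt
      exact ext_trans (by omega) h2 hM x hK ⟨q, hq, hqd, hq2⟩
    · -- intransitive, no fixed points
      obtain ⟨y, hy⟩ := exists_not_orbP_of_not_trans htr x
      have hk : 2 ≤ Nat.card {z // orbP M x z} := two_le_card_orbP (hfix x)
      have hk' : 2 ≤ Nat.card {z // ¬ orbP M x z} := by
        obtain ⟨g, hg, hgy⟩ := hfix y
        have hgy' : ¬ orbP M x (g y) := fun h => hy ((inv_orbP M x g hg y).mp h)
        have : Nontrivial {z // ¬ orbP M x z} :=
          ⟨⟨⟨g y, hgy'⟩, ⟨y, hy⟩, fun h => hgy (congrArg Subtype.val h)⟩⟩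
        exact Finite.one_lt_card_iff_nontrivial.mpr this
      exact ext_of_inv h2 hM (orbP M x) (inv_orbP M x) hk hk'

/-- **Extension theorem.** A Hall `π`-subgroup of the alternating group of degree at least `2`,
with `2 ∈ π`, lies in a `π`-subgroup of the symmetric group containing an odd permutation. -/
theorem ext_of_ahall {α : Type u} [Fintype α] [DecidableEq α] {π : Set ℕ} (h2 : 2 ∈ π)
    (hn : 2 ≤ Fintype.card α) {M : Subgroup (Perm α)} (hM : AHall π M) : Ext π M :=
  ext_of_ahall_aux π h2 _ α M rfl hn hM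

/-- Every Hall `π`-subgroup of the alternating group is the intersection of the alternating group
with a Hall `π`-subgroup of the symmetric group. -/
theorem exists_hall_of_ahall {α : Type u} [Fintype α] [DecidableEq α] {π : Set ℕ}
    {M : Subgroup (Perm α)} (hM : AHall π M) :
    ∃ M₀ : Subgroup (Perm α), Cfsg.IsPiHall π M₀ ∧ M₀ ⊓ alternatingGroup α = M := by
  by_cases hn : 2 ≤ Fintype.card α
  · by_cases h2 : 2 ∈ π
    · obtain ⟨K, hK1, hK2, hK3⟩ := ext_of_ahall h2 hn hM
      exact ⟨K, hall_of_ext hn hM hK1 hK2 hK3⟩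
    · refine ⟨M, ⟨hM.2.1, ?_⟩, inf_eq_left.mpr hM.1⟩
      intro p hp hpπ hpd
      have hnt := nontrivial_of_two_le hn
      rw [← Subgroup.relIndex_mul_index hM.1, alternatingGroup.index_eq_two] at hpd
      rcases (Nat.Prime.dvd_mul hp).mp hpd with h | h
      · exact hM.2.2 p hp hpπ h
      · exact h2 ((Nat.prime_dvd_prime_iff_eq hp Nat.prime_two).mp h ▸ hpπ)
  · -- the symmetric group is trivial
    have hsub : Subsingleton (Perm α) := by
      have : Fintype.card α ≤ 1 := by omega
      have := Fintype.card_le_one_iff_subsingleton.mp this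
      infer_instance
    have htop : ∀ K : Subgroup (Perm α), K = ⊤ := fun K => by
      ext g
      simp only [Subgroup.mem_top, iff_true]
      rw [Subsingleton.elim g 1]
      exact K.one_mem
    refine ⟨⊤, ⟨fun p hp hpd => ?_, fun p hp _ hpd => ?_⟩, ?_⟩
    · rw [Subgroup.card_top, Nat.card_unique] at hpd
      exact absurd (Nat.dvd_one.mp hpd) hp.one_lt.ne'
    · rw [Subgroup.index_top] at hpd
      exact absurd (Nat.dvd_one.mp hpd) hp.one_lt.ne'
    · rw [htop M, htop (alternatingGroup α), inf_idem]

end Cfsg.Agent.Helper8.HallSym
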