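import Cfsg.Agent.Helper8.HallAltK

/-!
# Conjugacy of Hall subgroups of symmetric groups, part A: tools
-/

set_option autoImplicit false
set_option linter.unusedSectionVars false

namespace Cfsg.Agent.Helper8.HallSym

open Equiv MulAction
open scoped Pointwise

universe u

variable {α : Type u} [Fintype α] [DecidableEq α] {π : Set ℕ}

/-- Two Hall `π`-subgroups have the same order. -/
theorem card_eq_of_hall {G : Type*} [Group G] [Finite G] {H K : Subgroup G}
    (hH : Cfsg.IsPiHall π H) (hK : Cfsg.IsPiHall π K) : Nat.card H = Nat.card K := by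
  have key : ∀ {A B : Subgroup G}, Cfsg.IsPiHall π A → Cfsg.IsPiHall π B →
      Nat.card A ∣ Nat.card B := by
    intro A B hA hB
    have h1 : Nat.card A ∣ Nat.card B * B.index := by
      rw [Subgroup.card_mul_index]
      exact Subgroup.card_subgroup_dvd_card A
    have hc : (Nat.card A).Coprime B.index :=
      Nat.coprime_of_dvd fun p hp h1 h2 => hB.2 p hp (hA.1 p hp h1) h2
    exact hc.dvd_of_dvd_mul_right h1
  exact Nat.dvd_antisymm (key hH hK) (key hK hH)

theorem eq_map_conj_iff {G : Type*} [Group G] {H K : Subgroup G} {g : G} :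
    K = H.map (MulAut.conj g).toMonoidHom ↔ ∀ σ, σ ∈ K ↔ g⁻¹ * σ * g ∈ H := by
  constructor
  · intro h σ
    rw [h, Subgroup.mem_map_equiv, MulAut.conj_symm_apply]
  · intro h
    ext σ
    rw [Subgroup.mem_map_equiv, MulAut.conj_symm_apply]
    exact h σ

/-- Hall subgroups of prime power order are conjugate (Sylow). -/
theorem conj_of_hall_pgroup {G : Type*} [Group G] [Finite G] {H K : Subgroup G}
    (hH : Cfsg.IsPiHall π H) (hK : Cfsg.IsPiHall π K) {p k : ℕ} (hp : p.Prime)
    (hcard : Nat.card H = p ^ k) : ∃ g : G, K = H.map (MulAut.conj g).toMonoidHom := by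
  have hcardK : Nat.card K = p ^ k := (card_eq_of_hall hH hK).symm.trans hcard
  have : Fact p.Prime := ⟨hp⟩
  rcases Nat.eq_zero_or_pos k with hk | hk
  · -- both trivial
    rw [hk, pow_zero] at hcard hcardK
    refine ⟨1, ?_⟩
    rw [Subgroup.eq_bot_of_card_eq H hcard, Subgroup.eq_bot_of_card_eq K hcardK, Subgroup.map_bot]
  · have hpπ : p ∈ π := hH.1 p hp (by rw [hcard]; exact dvd_pow_self p (by omega))
    let P : Sylow p G := (IsPGroup.of_card hcard).toSylow (hH.2 p hp hpπ)
    let Q : Sylow p G := (IsPGroup.of_card hcardK).toSylow (hK.2 p hp hpπ)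
    obtain ⟨g, hg⟩ := MulAction.exists_smul_eq G P Q
    refine ⟨g, ?_⟩
    have h1 : ((g • P : Sylow p G) : Subgroup G) = (Q : Subgroup G) := by rw [hg]
    rw [Sylow.coe_subgroup_smul, Subgroup.pointwise_smul_def] at h1
    exact h1.symm

theorem exists_perm_iff (P P' : α → Prop) (h : Nat.card {x // P x} = Nat.card {x // P' x}) :
    ∃ g : Perm α, ∀ x, P' (g x) ↔ P x := by
  classical
  obtain ⟨e⟩ := Finite.card_eq.mp h
  refine ⟨e.extendSubtype, fun x => ?_⟩
  by_cases hx : P x
  · exact ⟨fun _ => hx, fun _ => e.extendSubtype_mem x hx⟩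
  · exact ⟨fun h' => absurd h' (e.extendSubtype_not_mem x hx), fun h' => absurd h' hx⟩

/-- The setwise stabiliser of a predicate. -/
def stabSet (P : α → Prop) : Subgroup (Perm α) where
  carrier := {σ | ∀ x, P (σ x) ↔ P x}
  one_mem' := fun x => Iff.rfl
  mul_mem' := fun {a b} ha hb x => (ha (b x)).trans (hb x)
  inv_mem' := fun {a} ha x => by
    have := ha (a⁻¹ x)
    simp only [Perm.coe_inv, apply_symm_apply] at this
    simp only [Perm.coe_inv]
    exact this.symm

theorem mem_stabSet {P : α → Prop} {σ : Perm α} : σ ∈ stabSet P ↔ ∀ x, P (σ x) ↔ P x := Iff.rfl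

theorem pow_fix_of_mem_stabSet {P : α → Prop} {σ : Perm α} (h : σ ∈ stabSet P) :
    ∀ x, P x → (σ ^ (Nat.card {x // P x}).factorial) x = x := by
  intro x hx
  have hf : ∀ x, P (σ x) ↔ P x := h
  have h1 : (σ.subtypePerm hf) ^ (Nat.card {x // P x}).factorial = 1 := by
    rw [← Nat.card_perm]
    exact pow_card_eq_one'
  rw [Perm.subtypePerm_pow] at h1
  have h3 := congrArg (fun τ : Perm {y // P y} => ((τ ⟨x, hx⟩ : {y // P y}) : α)) h1
  simpa using h3

theorem stabSet_not (P : α → Prop) : stabSet (fun x => ¬ P x) = stabSet P := by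
  ext σ
  rw [mem_stabSet, mem_stabSet]
  exact ⟨fun h x => not_iff_not.mp (h x), fun h x => not_congr (h x)⟩

/-- The stabiliser of a `4`-subset of `7` points is a `{2, 3}`-group. -/
theorem stabSet_pi {P : α → Prop} (hP4 : Nat.card {x // P x} = 4)
    (hP3 : Nat.card {x // ¬ P x} = 3) (h2 : (2 : ℕ) ∈ π) (h3 : (3 : ℕ) ∈ π) :
    ∀ p : ℕ, p.Prime → p ∣ Nat.card (stabSet P) → p ∈ π := by
  intro p hp hpd
  have : Fact p.Prime := ⟨hp⟩
  obtain ⟨g, hg⟩ := exists_prime_orderOf_dvd_card' p hpd
  have h24 : (g : Perm α) ^ 24 = 1 := by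
    ext x
    by_cases hx : P x
    · have := pow_fix_of_mem_stabSet g.2 x hx
      rw [hP4] at this
      have e : (4 : ℕ).factorial = 24 := by decide
      rw [e] at this
      simpa using this
    · have hg' : (g : Perm α) ∈ stabSet (fun x => ¬ P x) := by
        rw [stabSet_not]
        exact g.2
      have := pow_fix_of_mem_stabSet hg' x hx
      rw [hP3] at this
      have h6 : ((g : Perm α) ^ 6) x = x := this
      have e : (g : Perm α) ^ 24 = ((g : Perm α) ^ 6) ^ 4 := by rw [← pow_mul]
      rw [e, Perm.one_apply]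
      generalize (g : Perm α) ^ 6 = τ at h6
      rw [pow_succ, pow_succ, pow_succ, pow_one]
      simp only [Perm.mul_apply, h6]
  have h24' : g ^ 24 = 1 := by
    apply Subtype.ext
    rw [Subgroup.coe_pow]
    exact h24
  have hd : p ∣ 2 ^ 3 * 3 ^ 1 := by
    rw [← hg]
    exact orderOf_dvd_of_pow_eq_one h24'
  rcases two_three_of_dvd hp hd with rfl | rfl
  · exact h2
  · exact h3

theorem stabSet_conj {P P' : α → Prop} {g : Perm α} (hg : ∀ x, P' (g x) ↔ P x) :
    stabSet P' = (stabSet P).map (MulAut.conj g).toMonoidHom := by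
  rw [eq_map_conj_iff]
  intro σ
  rw [mem_stabSet, mem_stabSet]
  constructor
  · intro h x
    rw [← hg, ← hg x]
    simp only [Perm.mul_apply, Perm.coe_inv, apply_symm_apply]
    exact h (g x)
  · intro h x
    have := h (g⁻¹ x)
    rw [← hg, ← hg (g⁻¹ x)] at this
    simpa using this

theorem bisect_conj {B B' : Set α} {g : Perm α} (hg : g • B = B') :
    bisect B' = (bisect B).map (MulAut.conj g).toMonoidHom := by
  rw [eq_map_conj_iff]
  intro σ
  rw [mem_bisect, mem_bisect, ← hg, mul_smul, mul_smul, inv_smul_eq_iff, inv_smul_eq_iff,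
    Set.smul_set_compl]

end Cfsg.Agent.Helper8.HallSym
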