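import Cfsg.Agent.Helper8.HallConjA

/-!
# Conjugacy of Hall subgroups of symmetric groups, part B: the theorem
-/

set_option autoImplicit false
set_option linter.unusedSectionVars false

namespace Cfsg.Agent.Helper8.HallSym

open Equiv MulAction
open scoped Pointwise

universe u

variable {α : Type u} [Fintype α] [DecidableEq α] {π : Set ℕ}

theorem exists_perm_smul_eq {B B' : Set α} (h : B.ncard = B'.ncard) :
    ∃ g : Perm α, g • B = B' := by
  obtain ⟨g, hg⟩ := exists_perm_iff (fun x => x ∈ B) (fun x => x ∈ B') h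
  refine ⟨g, ?_⟩
  ext y
  rw [mem_smul_set_perm, ← hg]
  simp

/-- A transitive Hall `{2, 3}`-subgroup of degree `8` is the stabiliser of a bisection. -/
theorem eight_eq_bisect {H : Subgroup (Perm α)} (hH : Cfsg.IsPiHall π H)
    (hc : Fintype.card α = 8) [IsPretransitive H α]
    (hπ : ∀ q : ℕ, q.Prime → q ≤ 8 → (q ∈ π ↔ q = 2 ∨ q = 3)) :
    ∃ B : Set α, B.ncard = 4 ∧ H = bisect B := by
  have h2π : (2 : ℕ) ∈ π := (hπ 2 Nat.prime_two (by norm_num)).mpr (Or.inl rfl)
  have h3π : (3 : ℕ) ∈ π := (hπ 3 Nat.prime_three (by norm_num)).mpr (Or.inr rfl)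
  have h5π : (5 : ℕ) ∉ π := fun h => by
    have := (hπ 5 (by norm_num) (by norm_num)).mp h
    omega
  obtain ⟨c, hcH, -, hcs⟩ := exists_cycle_mem hH Nat.prime_three h3π (by omega)
  have hc3 : c.IsThreeCycle := card_support_eq_three_iff.mp hcs
  have hnp : ¬ IsPreprimitive H α := by
    intro hprim
    have htop := top_of_prim_swap hH hprim h2π (by omega)
    subst htop
    exact h5π (mem_of_top hH (by norm_num) (by omega))
  obtain ⟨B, hB4, hBc4, hle⟩ := exists_bisection hc hnp hcH hc3
  exact ⟨B, hB4, eq_of_hall_le hH hle (bisect_pi hB4 hBc4 h2π h3π)⟩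

theorem card_not_of_seven {P : α → Prop} (h7 : Nat.card α = 7) (h4 : Nat.card {x // P x} = 4) :
    Nat.card {x // ¬ P x} = 3 := by
  classical
  have := card_subtype_add P
  rw [Nat.card_eq_fintype_card] at h7 h4 ⊢
  omega

/-- **Conjugacy of Hall subgroups of symmetric groups.** -/
theorem conj_of_hall_perm {H K : Subgroup (Perm α)} (hH : Cfsg.IsPiHall π H)
    (hK : Cfsg.IsPiHall π K) : ∃ g : Perm α, K = H.map (MulAut.conj g).toMonoidHom := by
  have hcard := card_eq_of_hall hH hK
  by_cases hHtop : H = ⊤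
  · refine ⟨1, ?_⟩
    have : K = ⊤ := Subgroup.eq_top_of_card_eq K (by rw [← hcard, hHtop, Subgroup.card_top])
    rw [eq_map_conj_iff, this, hHtop]
    simp
  by_cases hKtop : K = ⊤
  · exfalso
    apply hHtop
    exact Subgroup.eq_top_of_card_eq H (by rw [hcard, hKtop, Subgroup.card_top])
  by_cases hpp : ∃ p k : ℕ, p.Prime ∧ Nat.card H = p ^ k
  · obtain ⟨p, k, hp, hk⟩ := hpp
    exact conj_of_hall_pgroup hH hK hp hk
  have htH := hall_classify hH
  have htK := hall_classify hK
  cases htH with
  | top h => exact absurd h hHtop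
  | pgroup p k hp hk => exact absurd ⟨p, k, hp, hk⟩ hpp
  | point x hprime hmem hπ =>
    cases htK with
    | top h => exact absurd h hKtop
    | pgroup p k hp hk => exact absurd ⟨p, k, hp, hcard.trans hk⟩ hpp
    | point x' hprime' hmem' hπ' =>
      refine ⟨swap x x', ?_⟩
      rw [eq_map_conj_iff]
      intro σ
      rw [hmem', hmem, swap_inv]
      simp only [Perm.mul_apply, swap_apply_left]
      constructor
      · intro h
        rw [h, swap_apply_right]
      · intro h
        have := congrArg (swap x x') h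
        simpa using this
    | seven P hc hk hP hP4 hπ' =>
      exfalso
      rw [hc] at hπ
      have h1 := (hπ 5 (by norm_num) (by norm_num)).mpr (by norm_num)
      have := (hπ' 5 (by norm_num) (by norm_num)).mp h1
      omega
    | eight hc hk htr hπ' =>
      exfalso
      rw [hc] at hprime
      exact absurd hprime (by norm_num)
  | seven P hc hk hP hP4 hπ =>
    cases htK with
    | top h => exact absurd h hKtop
    | pgroup p k hp hk' => exact absurd ⟨p, k, hp, hcard.trans hk'⟩ hpp
    | point x' hprime' hmem' hπ' =>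
      exfalso
      rw [hc] at hπ'
      have h1 := (hπ' 5 (by norm_num) (by norm_num)).mpr (by norm_num)
      have := (hπ 5 (by norm_num) (by norm_num)).mp h1
      omega
    | seven P' hc' hk' hP' hP4' hπ' =>
      have h2π : (2 : ℕ) ∈ π := (hπ 2 Nat.prime_two (by norm_num)).mpr (Or.inl rfl)
      have h3π : (3 : ℕ) ∈ π := (hπ 3 Nat.prime_three (by norm_num)).mpr (Or.inr rfl)
      have e1 : H = stabSet P :=
        eq_of_hall_le hH (fun σ hσ => hP σ hσ) (stabSet_pi hP4 (card_not_of_seven hc hP4) h2π h3π)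
      have e2 : K = stabSet P' :=
        eq_of_hall_le hK (fun σ hσ => hP' σ hσ)
          (stabSet_pi hP4' (card_not_of_seven hc hP4') h2π h3π)
      obtain ⟨g, hg⟩ := exists_perm_iff P P' (hP4.trans hP4'.symm)
      exact ⟨g, by rw [e1, e2]; exact stabSet_conj hg⟩
    | eight hc' hk' htr hπ' =>
      exfalso
      omega
  | eight hc hk htr hπ =>
    cases htK with
    | top h => exact absurd h hKtop
    | pgroup p k hp hk' => exact absurd ⟨p, k, hp, hcard.trans hk'⟩ hpp
    | point x' hprime' hmem' hπ' =>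
      exfalso
      rw [hc] at hprime'
      exact absurd hprime' (by norm_num)
    | seven P' hc' hk' hP' hP4' hπ' =>
      exfalso
      omega
    | eight hc' hk' htr' hπ' =>
      rw [Nat.card_eq_fintype_card] at hc
      obtain ⟨B, hB4, e1⟩ := eight_eq_bisect hH hc hπ
      obtain ⟨B', hB4', e2⟩ := eight_eq_bisect hK hc hπ
      obtain ⟨g, hg⟩ := exists_perm_smul_eq (hB4.trans hB4'.symm)
      exact ⟨g, by rw [e1, e2]; exact bisect_conj hg⟩

end Cfsg.Agent.Helper8.HallSym
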