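import Cfsg.Agent.Helper8.HallConjB

/-!
# Conjugacy of Hall subgroups of alternating groups
-/

set_option autoImplicit false
set_option linter.unusedSectionVars false

namespace Cfsg.Agent.Helper8.HallSym

open Equiv MulAction
open scoped Pointwise

universe u

variable {α : Type u} [Fintype α] [DecidableEq α] {π : Set ℕ}

theorem mem_map_subtype_iff {G : Type*} [Group G] {A : Subgroup G} {M : Subgroup A} {τ : A} :
    (τ : G) ∈ M.map A.subtype ↔ τ ∈ M := by
  constructor
  · rintro ⟨τ', hτ', heq⟩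
    have : τ' = τ := Subtype.ext heq
    exact this ▸ hτ'
  · intro h
    exact ⟨τ, h, rfl⟩

theorem ahall_map_subtype {M : Subgroup (alternatingGroup α)} (h : Cfsg.IsPiHall π M) :
    AHall π (M.map (alternatingGroup α).subtype) := by
  have hle : M.map (alternatingGroup α).subtype ≤ alternatingGroup α := Subgroup.map_subtype_le M
  have hback : (M.map (alternatingGroup α).subtype).subgroupOf (alternatingGroup α) = M :=
    Subgroup.comap_map_eq_self_of_injective (Subgroup.subtype_injective _) M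
  rw [ahall_iff hle, hback]
  exact h

/-- If a Hall `π`-subgroup of the alternating group does not have prime power order, then
`2 ∈ π` and the degree is at least `2`. -/
theorem two_mem_of_not_pgroup {M : Subgroup (alternatingGroup α)} (h : Cfsg.IsPiHall π M)
    (hpp : ¬ ∃ p k : ℕ, p.Prime ∧ Nat.card M = p ^ k) : 2 ∈ π ∧ 2 ≤ Fintype.card α := by
  have hcardM : Nat.card (M.map (alternatingGroup α).subtype) = Nat.card M :=
    Subgroup.card_map_of_injective (Subgroup.subtype_injective _)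
  have hn : 2 ≤ Fintype.card α := by
    by_contra hlt
    apply hpp
    refine ⟨2, 0, Nat.prime_two, ?_⟩
    have hsub : Subsingleton (Perm α) := by
      have : Fintype.card α ≤ 1 := by omega
      have := Fintype.card_le_one_iff_subsingleton.mp this
      infer_instance
    have : Subsingleton M := ⟨fun a b => Subtype.ext (Subtype.ext (Subsingleton.elim _ _))⟩
    rw [pow_zero]
    exact Nat.card_of_subsingleton 1
  refine ⟨?_, hn⟩
  by_contra h2
  have hA := ahall_map_subtype h
  obtain ⟨K, hK, hKinf⟩ := exists_hall_of_ahall hA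
  have hdvd : Nat.card M ∣ Nat.card K := by
    rw [← hcardM, ← hKinf]
    exact Subgroup.card_dvd_of_le inf_le_left
  have ht := hall_classify hK
  cases ht with
  | top htop =>
    apply h2
    rw [htop] at hK
    exact mem_of_top hK Nat.prime_two hn
  | pgroup p k hp hk =>
    apply hpp
    rw [hk] at hdvd
    obtain ⟨j, _, hj⟩ := (Nat.dvd_prime_pow hp).mp hdvd
    exact ⟨p, j, hp, hj⟩
  | point x hprime hmem hπ =>
    rw [Nat.card_eq_fintype_card] at hprime hπ
    by_cases h3 : 3 ≤ Fintype.card α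
    · exact h2 ((hπ 2 Nat.prime_two (by omega)).mpr (by omega))
    · apply hpp
      have hn2 : Fintype.card α = 2 := by omega
      have h4 := two_mul_card_alt (α := α) hn
      rw [hn2] at h4
      have hA1 : Nat.card (alternatingGroup α) = 1 := by
        have : (2 : ℕ).factorial = 2 := by decide
        omega
      have hM1 : Nat.card M = 1 :=
        Nat.dvd_one.mp (hA1 ▸ Subgroup.card_subgroup_dvd_card M)
      exact ⟨2, 0, Nat.prime_two, by rw [hM1, pow_zero]⟩
  | seven P hc hk hP hP4 hπ =>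
    exact h2 ((hπ 2 Nat.prime_two (by norm_num)).mpr (Or.inl rfl))
  | eight hc hk htr hπ =>
    exact h2 ((hπ 2 Nat.prime_two (by norm_num)).mpr (Or.inl rfl))

/-- **Conjugacy of Hall subgroups of alternating groups.** -/
theorem conj_of_hall_alt {M1 M2 : Subgroup (alternatingGroup α)} (h1 : Cfsg.IsPiHall π M1)
    (h2 : Cfsg.IsPiHall π M2) :
    ∃ g : alternatingGroup α, M2 = M1.map (MulAut.conj g).toMonoidHom := by
  by_cases hpp : ∃ p k : ℕ, p.Prime ∧ Nat.card M1 = p ^ k
  · obtain ⟨p, k, hp, hk⟩ := hpp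
    exact conj_of_hall_pgroup h1 h2 hp hk
  obtain ⟨h2π, hn⟩ := two_mem_of_not_pgroup h1 hpp
  obtain ⟨K1, hK1, hK1inf⟩ := exists_hall_of_ahall (ahall_map_subtype h1)
  obtain ⟨K2, hK2, hK2inf⟩ := exists_hall_of_ahall (ahall_map_subtype h2)
  obtain ⟨g, hg⟩ := conj_of_hall_perm hK1 hK2
  rw [eq_map_conj_iff] at hg
  obtain ⟨s, hsK, hsw⟩ := exists_swap_mem hK1 h2π hn
  -- an even conjugating element
  obtain ⟨g', hg's, hg'⟩ : ∃ g' : Perm α, Perm.sign g' = 1 ∧ ∀ σ, σ ∈ K2 ↔ g'⁻¹ * σ * g' ∈ K1 := by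
    by_cases hs : Perm.sign g = 1
    · exact ⟨g, hs, hg⟩
    · have hs' : Perm.sign g = -1 := (Int.units_eq_one_or _).resolve_left hs
      refine ⟨g * s, by rw [Perm.sign_mul, hs', hsw.sign_eq]; rfl, fun σ => ?_⟩
      rw [hg σ]
      have e : (g * s)⁻¹ * σ * (g * s) = s⁻¹ * (g⁻¹ * σ * g) * s := by group
      rw [e]
      constructor
      · intro h
        exact K1.mul_mem (K1.mul_mem (K1.inv_mem hsK) h) hsK
      · intro h
        have := K1.mul_mem (K1.mul_mem hsK h) (K1.inv_mem hsK)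
        have e2 : s * (s⁻¹ * (g⁻¹ * σ * g) * s) * s⁻¹ = g⁻¹ * σ * g := by group
        rwa [e2] at this
  have hg'A : g' ∈ alternatingGroup α := Perm.mem_alternatingGroup.mpr hg's
  refine ⟨⟨g', hg'A⟩, ?_⟩
  rw [eq_map_conj_iff]
  intro τ
  have e1 : τ ∈ M2 ↔ (τ : Perm α) ∈ K2 := by
    rw [← mem_map_subtype_iff, ← hK2inf, Subgroup.mem_inf]
    exact ⟨fun h => h.1, fun h => ⟨h, τ.2⟩⟩
  have e2 : (⟨g', hg'A⟩ : alternatingGroup α)⁻¹ * τ * ⟨g', hg'A⟩ ∈ M1 ↔
      g'⁻¹ * (τ : Perm α) * g' ∈ K1 := by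
    rw [← mem_map_subtype_iff, ← hK1inf, Subgroup.mem_inf]
    constructor
    · intro h
      exact h.1
    · intro h
      exact ⟨h, ((⟨g', hg'A⟩ : alternatingGroup α)⁻¹ * τ * ⟨g', hg'A⟩).2⟩
  rw [e1, e2]
  exact hg' τ

end Cfsg.Agent.Helper8.HallSym
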