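import Cfsg.Agent.Helper8.HallConjC
import Cfsg.Prelude.Def_HallClasses

/-!
# The `D_π` property: general finite-group lemmas
-/

set_option autoImplicit false
set_option linter.unusedSectionVars false

namespace Cfsg.Agent.Helper8.HallSym

open Equiv MulAction
open scoped Pointwise

variable {G : Type*} [Group G] [Finite G] {π : Set ℕ}

/-- Every `π`-subgroup of a finite group lies in a maximal one. -/
theorem exists_le_maximal_pi {A : Subgroup G} (hA : Cfsg.IsPiSubgroup π A) :
    ∃ H, A ≤ H ∧ Maximal (Cfsg.IsPiSubgroup π) H :=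
  Finite.exists_le_maximal hA

theorem card_map_conj (H : Subgroup G) (g : G) :
    Nat.card (H.map (MulAut.conj g).toMonoidHom) = Nat.card H :=
  Subgroup.card_map_of_injective (MulAut.conj g).injective

/-- Under `D_π` every maximal `π`-subgroup is a Hall `π`-subgroup. -/
theorem hall_of_dpi (hD : Cfsg.IsDPiGroup π G) {H : Subgroup G}
    (hH : Maximal (Cfsg.IsPiSubgroup π) H) : Cfsg.IsPiHall π H := by
  refine ⟨hH.1, fun p hp hpπ hdvd => ?_⟩
  have : Fact p.Prime := ⟨hp⟩
  obtain ⟨P⟩ : Nonempty (Sylow p G) := inferInstance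
  have hPπ : Cfsg.IsPiSubgroup π (P : Subgroup G) := by
    intro q hq hqd
    rw [Sylow.card_eq_multiplicity] at hqd
    have := (Nat.prime_dvd_prime_iff_eq hq hp).mp (hq.dvd_of_dvd_pow hqd)
    rw [this]
    exact hpπ
  obtain ⟨H', hPH', hH'⟩ := exists_le_maximal_pi hPπ
  obtain ⟨g, hg⟩ := hD H H' hH hH'
  have hcard : Nat.card H' = Nat.card H := by rw [hg, card_map_conj]
  have h1 : p ^ (Nat.card G).factorization p ∣ Nat.card H := by
    rw [← hcard, ← Sylow.card_eq_multiplicity P]
    exact Subgroup.card_dvd_of_le hPH'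
  have h2 : p ^ ((Nat.card G).factorization p + 1) ∣ Nat.card G := by
    have h3 := mul_dvd_mul h1 hdvd
    rwa [Subgroup.card_mul_index H, ← pow_succ] at h3
  exact Nat.pow_succ_factorization_not_dvd Nat.card_pos.ne' hp h2

/-- If every prime divisor of `|G|` lies in `π`, then `G` is a `D_π`-group. -/
theorem dpi_of_all (h : ∀ r : ℕ, r.Prime → r ∣ Nat.card G → r ∈ π) : Cfsg.IsDPiGroup π G := by
  have htop : Cfsg.IsPiSubgroup π (⊤ : Subgroup G) := by
    intro p hp hpd
    rw [Subgroup.card_top] at hpd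
    exact h p hp hpd
  have key : ∀ H : Subgroup G, Maximal (Cfsg.IsPiSubgroup π) H → H = ⊤ := fun H hH =>
    top_le_iff.mp (hH.2 htop le_top)
  intro H K hH hK
  refine ⟨1, ?_⟩
  rw [key H hH, key K hK, eq_map_conj_iff]
  intro σ
  simp

/-- If at most one prime of `π` divides `|G|`, then `G` is a `D_π`-group (Sylow). -/
theorem dpi_of_le_one (h : ∀ r s : ℕ, r.Prime → s.Prime → r ∈ π → s ∈ π → r ∣ Nat.card G →
    s ∣ Nat.card G → r = s) : Cfsg.IsDPiGroup π G := by
  by_cases hex : ∃ p : ℕ, p.Prime ∧ p ∈ π ∧ p ∣ Nat.card G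
  · obtain ⟨p, hp, hpπ, hpd⟩ := hex
    have : Fact p.Prime := ⟨hp⟩
    -- every `π`-subgroup is a `p`-group
    have hpg : ∀ A : Subgroup G, Cfsg.IsPiSubgroup π A → IsPGroup p A := by
      intro A hA
      have hne : Nat.card A ≠ 0 := Nat.card_pos.ne'
      have := Nat.eq_prime_pow_of_unique_prime_dvd hne (p := p) (fun {d} hd hdd =>
        h d p hd hp (hA d hd hdd) hpπ (hdd.trans (Subgroup.card_subgroup_dvd_card A)) hpd)
      exact IsPGroup.of_card this
    have hsyl : ∀ P : Sylow p G, Cfsg.IsPiSubgroup π (P : Subgroup G) := by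
      intro P q hq hqd
      rw [Sylow.card_eq_multiplicity] at hqd
      have := (Nat.prime_dvd_prime_iff_eq hq hp).mp (hq.dvd_of_dvd_pow hqd)
      rw [this]
      exact hpπ
    have key : ∀ H : Subgroup G, Maximal (Cfsg.IsPiSubgroup π) H →
        ∃ P : Sylow p G, H = (P : Subgroup G) := by
      intro H hH
      obtain ⟨P, hP⟩ := (hpg H hH.1).exists_le_sylow
      exact ⟨P, le_antisymm hP (hH.2 (hsyl P) hP)⟩
    intro H K hH hK
    obtain ⟨P, rfl⟩ := key H hH
    obtain ⟨Q, rfl⟩ := key K hK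
    obtain ⟨g, hg⟩ := MulAction.exists_smul_eq G P Q
    refine ⟨g, ?_⟩
    have h1 : ((g • P : Sylow p G) : Subgroup G) = (Q : Subgroup G) := by rw [hg]
    rw [Sylow.coe_subgroup_smul, Subgroup.pointwise_smul_def] at h1
    exact h1.symm
  · have key : ∀ H : Subgroup G, Cfsg.IsPiSubgroup π H → H = ⊥ := by
      intro H hH
      apply Subgroup.eq_bot_of_card_eq
      by_contra hne
      obtain ⟨p, hp, hpd⟩ := Nat.exists_prime_and_dvd hne
      exact hex ⟨p, hp, hH p hp hpd, hpd.trans (Subgroup.card_subgroup_dvd_card H)⟩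
    intro H K hH hK
    refine ⟨1, ?_⟩
    rw [key H hH.1, key K hK.1, Subgroup.map_bot]

end Cfsg.Agent.Helper8.HallSym
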