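import Cfsg.Agent.Helper8.HallDpiA

/-!
# The `D_π` property for alternating groups: tools
-/

set_option autoImplicit false
set_option linter.unusedSectionVars false

namespace Cfsg.Agent.Helper8.HallSym

open Equiv MulAction
open scoped Pointwise

universe u

variable {α : Type u} [Fintype α] [DecidableEq α] {π : Set ℕ}

/-- Under `D_π` for the alternating group, every `π`-subgroup of the alternating group lies in a
Hall `π`-subgroup of the symmetric group. -/
theorem exists_hall_ge (hD : Cfsg.IsDPiGroup π ↥(alternatingGroup α)) {L : Subgroup (Perm α)}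
    (hL : L ≤ alternatingGroup α) (hLπ : ∀ p : ℕ, p.Prime → p ∣ Nat.card L → p ∈ π) :
    ∃ K : Subgroup (Perm α), Cfsg.IsPiHall π K ∧ L ≤ K := by
  have h1 : Cfsg.IsPiSubgroup π (L.subgroupOf (alternatingGroup α)) := by
    intro p hp hpd
    apply hLπ p hp
    have : Nat.card (L.subgroupOf (alternatingGroup α)) = Nat.card L :=
      Nat.card_congr (Subgroup.subgroupOfEquivOfLe hL).toEquiv
    rwa [this] at hpd
  obtain ⟨M, hLM, hM⟩ := exists_le_maximal_pi h1
  have hMhall := hall_of_dpi hD hM
  obtain ⟨K, hK, hKinf⟩ := exists_hall_of_ahall (ahall_map_subtype hMhall)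
  refine ⟨K, hK, fun σ hσ => ?_⟩
  have : σ ∈ M.map (alternatingGroup α).subtype := by
    refine ⟨⟨σ, hL hσ⟩, hLM ?_, rfl⟩
    exact Subgroup.mem_subgroupOf.mpr hσ
  rw [← hKinf] at this
  exact this.1

/-- Under `D_π` the alternating group has a Hall `π`-subgroup of the symmetric group above its
Hall subgroups; in particular there is a Hall `π`-subgroup of the symmetric group. -/
theorem exists_hall_of_dpi (hD : Cfsg.IsDPiGroup π ↥(alternatingGroup α)) :
    ∃ K : Subgroup (Perm α), Cfsg.IsPiHall π K := by
  obtain ⟨K, hK, _⟩ := exists_hall_ge hD (L := ⊥) bot_le (fun p hp hpd => by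
    rw [Subgroup.card_bot] at hpd
    exact absurd (Nat.dvd_one.mp hpd) hp.one_lt.ne')
  exact ⟨K, hK⟩

/-- A Hall `π`-subgroup of the symmetric group does not have prime power order if two primes of
`π` are at most the degree. -/
theorem not_pgroup_of_two {K : Subgroup (Perm α)} (hK : Cfsg.IsPiHall π K) {r s : ℕ}
    (hr : r.Prime) (hs : s.Prime) (hrπ : r ∈ π) (hsπ : s ∈ π) (hrn : r ≤ Fintype.card α)
    (hsn : s ≤ Fintype.card α) (hrs : r ≠ s) {p k : ℕ} (hp : p.Prime)
    (hk : Nat.card K = p ^ k) : False :=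
  hrs ((prime_eq_of_pgroup hK hp hk hr hrπ hrn).trans
    (prime_eq_of_pgroup hK hp hk hs hsπ hsn).symm)

theorem swap_mem_stabSet {P : α → Prop} {a b : α} (h : P a ↔ P b) : swap a b ∈ stabSet P := by
  rw [mem_stabSet]
  intro x
  by_cases hxa : x = a
  · rw [hxa, swap_apply_left]
    exact h.symm
  · by_cases hxb : x = b
    · rw [hxb, swap_apply_right]
      exact h
    · rw [swap_apply_of_ne_of_ne hxa hxb]

/-- Primes dividing the order of a group stabilising a subset are at most the size of the subset
or of its complement. -/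
theorem prime_le_of_le_stabSet {P : α → Prop} {L : Subgroup (Perm α)} (hL : L ≤ stabSet P)
    {p : ℕ} (hp : p.Prime) (hpd : p ∣ Nat.card L) :
    p ≤ Nat.card {x // P x} ∨ p ≤ Nat.card {x // ¬ P x} := by
  classical
  have hInv : Inv L P := fun g hg x => hL hg x
  have h1 := hpd.trans (card_dvd_res_mul L P hInv)
  rcases (Nat.Prime.dvd_mul hp).mp h1 with h | h
  · left
    have := h.trans (card_res_dvd_factorial L P hInv)
    rw [Nat.card_eq_fintype_card]
    exact (Nat.Prime.dvd_factorial hp).mp this
  · right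
    have := h.trans (card_res_dvd_factorial L (fun x => ¬ P x) hInv.not)
    rw [Nat.card_eq_fintype_card]
    exact (Nat.Prime.dvd_factorial hp).mp this

/-- Elements of the even part of a set stabiliser moving a given point. -/
theorem exists_moves {P : α → Prop} {x y u v : α} (hxy : P x ↔ P y) (huv : P u ↔ P v)
    (hxu : ¬ (P x ↔ P u)) (hne : x ≠ y) (hne' : u ≠ v) :
    ∃ σ ∈ stabSet P ⊓ alternatingGroup α, σ x ≠ x := by
  refine ⟨swap x y * swap u v, ⟨(stabSet P).mul_mem (swap_mem_stabSet hxy) (swap_mem_stabSet huv),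
    ?_⟩, ?_⟩
  · show swap x y * swap u v ∈ alternatingGroup α
    rw [Perm.mem_alternatingGroup, Perm.sign_mul, Perm.sign_swap hne, Perm.sign_swap hne']
    rfl
  · have hxu' : x ≠ u := fun h => hxu (by rw [h])
    have hxv' : x ≠ v := fun h => hxu (by rw [h]; exact huv.symm)
    rw [Perm.mul_apply, swap_apply_of_ne_of_ne hxu' hxv', swap_apply_left]
    exact hne.symm

end Cfsg.Agent.Helper8.HallSym
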