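import Cfsg.Agent.Helper8.HallDpiB

/-!
# The `D_π` property for alternating groups: the prime degree case
-/

set_option autoImplicit false
set_option linter.unusedSectionVars false

namespace Cfsg.Agent.Helper8.HallSym

open Equiv MulAction
open scoped Pointwise

universe u

variable {α : Type u} [Fintype α] [DecidableEq α] {π : Set ℕ}

theorem exists_four (h4 : 4 ≤ Fintype.card α) :
    ∃ a b c d : α, a ≠ b ∧ a ≠ c ∧ a ≠ d ∧ b ≠ c ∧ b ≠ d ∧ c ≠ d := by
  obtain ⟨f⟩ : Nonempty (Fin 4 ↪ α) :=
    Function.Embedding.nonempty_of_card_le (by rw [Fintype.card_fin]; exact h4)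
  exact ⟨f 0, f 1, f 2, f 3, f.injective.ne (by decide), f.injective.ne (by decide),
    f.injective.ne (by decide), f.injective.ne (by decide), f.injective.ne (by decide),
    f.injective.ne (by decide)⟩

/-- If the degree `n` is a prime and `π` contains exactly the primes below `n`, then the
alternating group of degree `n ≥ 5` is not a `D_π`-group: the even part of the stabiliser of a
pair of points is a `π`-subgroup without fixed points. -/
theorem not_dpi_point (hD : Cfsg.IsDPiGroup π ↥(alternatingGroup α)) (h5 : 5 ≤ Fintype.card α)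
    (hπ : ∀ q : ℕ, q.Prime → q ≤ Fintype.card α → (q ∈ π ↔ q < Fintype.card α))
    (hprime : (Fintype.card α).Prime) : False := by
  classical
  obtain ⟨a, b, c, d, hab, hac, had, hbc, hbd, hcd⟩ := exists_four (α := α) (by omega)
  set P : α → Prop := fun x => x = a ∨ x = b with hPdef
  have hPa : P a := Or.inl rfl
  have hPb : P b := Or.inr rfl
  have hPc : ¬ P c := fun h => h.elim (fun h => hac h.symm) (fun h => hbc h.symm)
  have hPd : ¬ P d := fun h => h.elim (fun h => had h.symm) (fun h => hbd h.symm)
  have hadd := card_subtype_add P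
  have hpos1 : 0 < Fintype.card {x // P x} := Fintype.card_pos_iff.mpr ⟨⟨a, hPa⟩⟩
  have hpos2 : 0 < Fintype.card {x // ¬ P x} := Fintype.card_pos_iff.mpr ⟨⟨c, hPc⟩⟩
  have hLπ : ∀ p : ℕ, p.Prime → p ∣ Nat.card ↥(stabSet P ⊓ alternatingGroup α) → p ∈ π := by
    intro p hp hpd
    have hlt : p < Fintype.card α := by
      rcases prime_le_of_le_stabSet (L := stabSet P ⊓ alternatingGroup α) inf_le_left hp hpd
        with h | h
      · rw [Nat.card_eq_fintype_card] at h
        omega
      · rw [Nat.card_eq_fintype_card] at h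
        omega
    exact (hπ p hp hlt.le).mpr hlt
  obtain ⟨K, hK, hLK⟩ := exists_hall_ge hD inf_le_right hLπ
  have h2π : 2 ∈ π := (hπ 2 Nat.prime_two (by omega)).mpr (by omega)
  have h3π : 3 ∈ π := (hπ 3 Nat.prime_three (by omega)).mpr (by omega)
  have h5π : 5 < Fintype.card α → 5 ∈ π := fun h => (hπ 5 (by norm_num) h.le).mpr h
  have ht := hall_classify hK
  cases ht with
  | top htop =>
    rw [htop] at hK
    have := mem_of_top hK hprime le_rfl
    exact lt_irrefl _ ((hπ _ hprime le_rfl).mp this)
  | pgroup p k hp hk =>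
    exact not_pgroup_of_two hK Nat.prime_two Nat.prime_three h2π h3π (by omega) (by omega)
      (by norm_num) hp hk
  | point x hprime' hmem hπ' =>
    have hfix : ∀ σ ∈ stabSet P ⊓ alternatingGroup α, σ x = x := fun σ hσ =>
      (hmem σ).mp (hLK hσ)
    by_cases hx : P x
    · rcases hx with rfl | rfl
      · obtain ⟨σ, hσ, hne⟩ := exists_moves (P := P) (x := x) (y := b) (u := c) (v := d)
          (iff_of_true hPa hPb) (iff_of_false hPc hPd) (fun h => hPc (h.mp hPa)) hab hcd
        exact hne (hfix σ hσ)
      · obtain ⟨σ, hσ, hne⟩ := exists_moves (P := P) (x := x) (y := a) (u := c) (v := d)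
          (iff_of_true hPb hPa) (iff_of_false hPc hPd) (fun h => hPc (h.mp hPb)) hab.symm hcd
        exact hne (hfix σ hσ)
    · by_cases hxc : x = c
      · obtain ⟨σ, hσ, hne⟩ := exists_moves (P := P) (x := x) (y := d) (u := a) (v := b)
          (iff_of_false hx hPd) (iff_of_true hPa hPb) (fun h => hx (h.mpr hPa))
          (by rw [hxc]; exact hcd) hab
        exact hne (hfix σ hσ)
      · obtain ⟨σ, hσ, hne⟩ := exists_moves (P := P) (x := x) (y := c) (u := a) (v := b)
          (iff_of_false hx hPc) (iff_of_true hPa hPb) (fun h => hx (h.mpr hPa)) hxc hab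
        exact hne (hfix σ hσ)
  | seven P' hc hk hP hP4 hπ' =>
    rw [Nat.card_eq_fintype_card] at hc
    have := (hπ' 5 (by norm_num) (by norm_num)).mp (h5π (by omega))
    omega
  | eight hc hk htr hπ' =>
    rw [Nat.card_eq_fintype_card] at hc
    rw [hc] at hprime
    exact absurd hprime (by norm_num)

end Cfsg.Agent.Helper8.HallSym
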