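import Cfsg.Agent.Helper8.HallDpiC

/-!
# The `D_π` property for alternating groups: the wreath subgroup `S₃ ≀ C₂`
-/

set_option autoImplicit false
set_option linter.unusedSectionVars false

namespace Cfsg.Agent.Helper8.HallSym

open Equiv MulAction
open scoped Pointwise

universe u

variable {α : Type u} [Fintype α] [DecidableEq α] {π : Set ℕ}

/-- The group of permutations fixing every point outside two blocks `P₁`, `P₂` and preserving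
or interchanging the two blocks. -/
def wr (P₁ P₂ : α → Prop) : Subgroup (Perm α) where
  carrier := {σ | (∀ x, ¬ P₁ x → ¬ P₂ x → σ x = x) ∧
    (((∀ x, P₁ (σ x) ↔ P₁ x) ∧ (∀ x, P₂ (σ x) ↔ P₂ x)) ∨
      ((∀ x, P₁ (σ x) ↔ P₂ x) ∧ (∀ x, P₂ (σ x) ↔ P₁ x)))}
  one_mem' := ⟨fun x _ _ => rfl, Or.inl ⟨fun x => Iff.rfl, fun x => Iff.rfl⟩⟩
  mul_mem' := by
    rintro a b ⟨ha0, ha⟩ ⟨hb0, hb⟩
    refine ⟨fun x h1 h2 => ?_, ?_⟩
    · rw [Perm.mul_apply, hb0 x h1 h2, ha0 x h1 h2]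
    · rcases ha with ⟨ha1, ha2⟩ | ⟨ha1, ha2⟩ <;> rcases hb with ⟨hb1, hb2⟩ | ⟨hb1, hb2⟩
      · exact Or.inl ⟨fun x => (ha1 (b x)).trans (hb1 x), fun x => (ha2 (b x)).trans (hb2 x)⟩
      · exact Or.inr ⟨fun x => (ha1 (b x)).trans (hb1 x), fun x => (ha2 (b x)).trans (hb2 x)⟩
      · exact Or.inr ⟨fun x => (ha1 (b x)).trans (hb2 x), fun x => (ha2 (b x)).trans (hb1 x)⟩
      · exact Or.inl ⟨fun x => (ha1 (b x)).trans (hb2 x), fun x => (ha2 (b x)).trans (hb1 x)⟩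
  inv_mem' := by
    rintro a ⟨ha0, ha⟩
    have key : ∀ Q R : α → Prop, (∀ x, Q (a x) ↔ R x) → ∀ x, R (a⁻¹ x) ↔ Q x := by
      intro Q R h x
      have := h (a⁻¹ x)
      have e : a (a⁻¹ x) = x := by simp
      rw [e] at this
      exact this.symm
    refine ⟨fun x h1 h2 => ?_, ?_⟩
    · rw [Perm.inv_eq_iff_eq]
      exact (ha0 x h1 h2).symm
    · rcases ha with ⟨ha1, ha2⟩ | ⟨ha1, ha2⟩
      · exact Or.inl ⟨key _ _ ha1, key _ _ ha2⟩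
      · exact Or.inr ⟨key _ _ ha2, key _ _ ha1⟩

theorem mem_wr {P₁ P₂ : α → Prop} {σ : Perm α} : σ ∈ wr P₁ P₂ ↔
    (∀ x, ¬ P₁ x → ¬ P₂ x → σ x = x) ∧
      (((∀ x, P₁ (σ x) ↔ P₁ x) ∧ (∀ x, P₂ (σ x) ↔ P₂ x)) ∨
        ((∀ x, P₁ (σ x) ↔ P₂ x) ∧ (∀ x, P₂ (σ x) ↔ P₁ x))) := Iff.rfl

theorem pow_twelve_of_mem_wr {P₁ P₂ : α → Prop} {σ : Perm α} (h : σ ∈ wr P₁ P₂)
    (h1 : Nat.card {x // P₁ x} = 3) (h2 : Nat.card {x // P₂ x} = 3) : σ ^ 12 = 1 := by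
  obtain ⟨h0, hc⟩ := h
  have hs1 : σ * σ ∈ stabSet P₁ := by
    rw [mem_stabSet]
    intro x
    rw [Perm.mul_apply]
    rcases hc with ⟨hc1, hc2⟩ | ⟨hc1, hc2⟩
    · exact (hc1 (σ x)).trans (hc1 x)
    · exact (hc1 (σ x)).trans (hc2 x)
  have hs2 : σ * σ ∈ stabSet P₂ := by
    rw [mem_stabSet]
    intro x
    rw [Perm.mul_apply]
    rcases hc with ⟨hc1, hc2⟩ | ⟨hc1, hc2⟩
    · exact (hc2 (σ x)).trans (hc2 x)
    · exact (hc2 (σ x)).trans (hc1 x)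
  have e : σ ^ 12 = (σ * σ) ^ 6 := by
    rw [← pow_two, ← pow_mul]
  have e6 : (3 : ℕ).factorial = 6 := by decide
  rw [e]
  ext x
  rw [Perm.one_apply]
  by_cases hx1 : P₁ x
  · have := pow_fix_of_mem_stabSet hs1 x hx1
    rwa [h1, e6] at this
  · by_cases hx2 : P₂ x
    · have := pow_fix_of_mem_stabSet hs2 x hx2
      rwa [h2, e6] at this
    · apply Perm.pow_apply_eq_self_of_apply_eq_self
      rw [Perm.mul_apply, h0 x hx1 hx2, h0 x hx1 hx2]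

/-- Subgroups of `wr P₁ P₂` are `{2, 3}`-groups when both blocks have three points. -/
theorem wr_pi {P₁ P₂ : α → Prop} (h1 : Nat.card {x // P₁ x} = 3)
    (h2 : Nat.card {x // P₂ x} = 3) (h2π : (2 : ℕ) ∈ π) (h3π : (3 : ℕ) ∈ π)
    {L : Subgroup (Perm α)} (hL : L ≤ wr P₁ P₂) :
    ∀ p : ℕ, p.Prime → p ∣ Nat.card L → p ∈ π := by
  intro p hp hpd
  have : Fact p.Prime := ⟨hp⟩
  obtain ⟨g, hg⟩ := exists_prime_orderOf_dvd_card' p hpd
  have h12 : g ^ 12 = 1 := by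
    apply Subtype.ext
    rw [Subgroup.coe_pow]
    exact pow_twelve_of_mem_wr (hL g.2) h1 h2
  have hd : p ∣ 2 ^ 2 * 3 ^ 1 := by
    rw [← hg]
    exact orderOf_dvd_of_pow_eq_one h12
  rcases two_three_of_dvd hp hd with rfl | rfl
  · exact h2π
  · exact h3π

theorem sum_of_card {n k : ℕ} (P : Fin n → Prop) [DecidablePred P]
    (h : Nat.card {x // P x} = k) : ∑ i : Fin n, (if P i then 1 else 0) = k := by
  rw [Nat.card_eq_fintype_card, Fintype.card_subtype, Finset.card_filter] at h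
  exact h

theorem forall_of_smul_eq {σ : Perm α} {B : Set α} (h : σ • B = B) : ∀ x, σ x ∈ B ↔ x ∈ B := by
  intro x
  have h1 : σ x ∈ σ • B ↔ x ∈ B := Set.smul_mem_smul_set_iff
  rwa [h] at h1

theorem forall_of_smul_eq_compl {σ : Perm α} {B : Set α} (h : σ • B = Bᶜ) :
    ∀ x, σ x ∈ B ↔ x ∉ B := by
  intro x
  have h1 : σ x ∈ σ • B ↔ x ∈ B := Set.smul_mem_smul_set_iff
  rw [h, Set.mem_compl_iff] at h1
  exact ⟨fun h2 h3 => (h1.mpr h3) h2, fun h2 => by_contra fun h3 => h2 (h1.mp h3)⟩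

end Cfsg.Agent.Helper8.HallSym
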