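import Cfsg.Agent.Helper8.HallDpiD

/-!
# The `D_π` property for alternating groups: degrees seven and eight
-/

set_option autoImplicit false
set_option linter.unusedSectionVars false

namespace Cfsg.Agent.Helper8.HallSym

open Equiv MulAction
open scoped Pointwise

variable {π : Set ℕ}

/-- The first block. -/
def blkA (n : ℕ) : Fin n → Prop := fun i => i.val < 3

/-- The second block. -/
def blkB (n : ℕ) : Fin n → Prop := fun i => 3 ≤ i.val ∧ i.val < 6

instance (n : ℕ) : DecidablePred (blkA n) := fun i => inferInstanceAs (Decidable (i.val < 3))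

instance (n : ℕ) : DecidablePred (blkB n) := fun i =>
  inferInstanceAs (Decidable (3 ≤ i.val ∧ i.val < 6))

theorem card_blkA7 : Nat.card {x // blkA 7 x} = 3 := by
  rw [Nat.card_eq_fintype_card]
  decide

theorem card_blkB7 : Nat.card {x // blkB 7 x} = 3 := by
  rw [Nat.card_eq_fintype_card]
  decide

theorem card_blkA8 : Nat.card {x // blkA 8 x} = 3 := by
  rw [Nat.card_eq_fintype_card]
  decide

theorem card_blkB8 : Nat.card {x // blkB 8 x} = 3 := by
  rw [Nat.card_eq_fintype_card]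
  decide

/-- Degree seven. -/
theorem not_dpi_seven (hD : Cfsg.IsDPiGroup π ↥(alternatingGroup (Fin 7)))
    (hπ : ∀ q : ℕ, q.Prime → q ≤ 7 → (q ∈ π ↔ q = 2 ∨ q = 3)) : False := by
  classical
  have h2π : (2 : ℕ) ∈ π := (hπ 2 Nat.prime_two (by norm_num)).mpr (Or.inl rfl)
  have h3π : (3 : ℕ) ∈ π := (hπ 3 Nat.prime_three (by norm_num)).mpr (Or.inr rfl)
  have h5π : (5 : ℕ) ∉ π := fun h => by
    have := (hπ 5 (by norm_num) (by norm_num)).mp h
    omega
  obtain ⟨K, hK, hLK⟩ := exists_hall_ge hD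
    (L := wr (blkA 7) (blkB 7) ⊓ alternatingGroup (Fin 7)) inf_le_right
    (wr_pi card_blkA7 card_blkB7 h2π h3π inf_le_left)
  have hc1 : swap (0 : Fin 7) 1 * swap 1 2 ∈ wr (blkA 7) (blkB 7) ⊓ alternatingGroup (Fin 7) := by
    refine ⟨?_, ?_⟩
    · show _ ∈ wr (blkA 7) (blkB 7)
      rw [mem_wr]
      decide
    · show _ ∈ alternatingGroup (Fin 7)
      rw [Perm.mem_alternatingGroup]
      decide
  have hc2 : swap (3 : Fin 7) 4 * swap 4 5 ∈ wr (blkA 7) (blkB 7) ⊓ alternatingGroup (Fin 7) := by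
    refine ⟨?_, ?_⟩
    · show _ ∈ wr (blkA 7) (blkB 7)
      rw [mem_wr]
      decide
    · show _ ∈ alternatingGroup (Fin 7)
      rw [Perm.mem_alternatingGroup]
      decide
  have ht : swap (0 : Fin 7) 3 * swap 1 4 * swap 2 5 * swap 0 1 ∈
      wr (blkA 7) (blkB 7) ⊓ alternatingGroup (Fin 7) := by
    refine ⟨?_, ?_⟩
    · show _ ∈ wr (blkA 7) (blkB 7)
      rw [mem_wr]
      decide
    · show _ ∈ alternatingGroup (Fin 7)
      rw [Perm.mem_alternatingGroup]
      decide
  have hty := hall_classify hK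
  cases hty with
  | top htop =>
    rw [htop] at hK
    exact h5π (mem_of_top hK (by norm_num) (by rw [Fintype.card_fin]; norm_num))
  | pgroup p k hp hk =>
    exact not_pgroup_of_two hK Nat.prime_two Nat.prime_three h2π h3π
      (by rw [Fintype.card_fin]; norm_num) (by rw [Fintype.card_fin]; norm_num) (by norm_num) hp hk
  | point x hprime hmem hπ' =>
    rw [Nat.card_eq_fintype_card, Fintype.card_fin] at hπ'
    exact h5π ((hπ' 5 (by norm_num) (by norm_num)).mpr (by norm_num))
  | seven P hc hk hP hP4 hπ' =>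
    have e1 := hP _ (hLK hc1) 0
    have e2 := hP _ (hLK hc1) 1
    have e3 := hP _ (hLK hc2) 3
    have e4 := hP _ (hLK hc2) 4
    have e5 := hP _ (hLK ht) 0
    have v1 : (swap (0 : Fin 7) 1 * swap 1 2 : Perm (Fin 7)) 0 = 1 := by decide
    have v2 : (swap (0 : Fin 7) 1 * swap 1 2 : Perm (Fin 7)) 1 = 2 := by decide
    have v3 : (swap (3 : Fin 7) 4 * swap 4 5 : Perm (Fin 7)) 3 = 4 := by decide
    have v4 : (swap (3 : Fin 7) 4 * swap 4 5 : Perm (Fin 7)) 4 = 5 := by decide
    have v5 : (swap (0 : Fin 7) 3 * swap 1 4 * swap 2 5 * swap 0 1 : Perm (Fin 7)) 0 = 4 := by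
      decide
    rw [v1] at e1
    rw [v2] at e2
    rw [v3] at e3
    rw [v4] at e4
    rw [v5] at e5
    have hsum := sum_of_card P hP4
    rw [Fin.sum_univ_seven] at hsum
    by_cases h0 : P 0
    · have h1 : P 1 := e1.mpr h0
      have h2 : P 2 := e2.mpr h1
      have h4 : P 4 := e5.mpr h0
      have h3 : P 3 := e3.mp h4
      have h5 : P 5 := e4.mpr h4
      rw [if_pos h0, if_pos h1, if_pos h2, if_pos h3, if_pos h4, if_pos h5] at hsum
      omega
    · have h1 : ¬ P 1 := fun h => h0 (e1.mp h)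
      have h2 : ¬ P 2 := fun h => h1 (e2.mp h)
      have h4 : ¬ P 4 := fun h => h0 (e5.mp h)
      have h3 : ¬ P 3 := fun h => h4 (e3.mpr h)
      have h5 : ¬ P 5 := fun h => h4 (e4.mp h)
      rw [if_neg h0, if_neg h1, if_neg h2, if_neg h3, if_neg h4, if_neg h5] at hsum
      split_ifs at hsum <;> omega
  | eight hc hk htr hπ' =>
    rw [Nat.card_eq_fintype_card, Fintype.card_fin] at hc
    omega

theorem pointwise_of_mem_bisect {α : Type*} [Fintype α] [DecidableEq α] {σ : Perm α} {B : Set α}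
    (h : σ ∈ bisect B) : (∀ x, σ x ∈ B ↔ x ∈ B) ∨ (∀ x, σ x ∈ B ↔ x ∉ B) := by
  rcases mem_bisect.mp h with h | h
  · exact Or.inl (forall_of_smul_eq h)
  · exact Or.inr (forall_of_smul_eq_compl h)

/-- Degree eight. -/
theorem not_dpi_eight (hD : Cfsg.IsDPiGroup π ↥(alternatingGroup (Fin 8)))
    (hπ : ∀ q : ℕ, q.Prime → q ≤ 8 → (q ∈ π ↔ q = 2 ∨ q = 3)) : False := by
  classical
  have h2π : (2 : ℕ) ∈ π := (hπ 2 Nat.prime_two (by norm_num)).mpr (Or.inl rfl)
  have h3π : (3 : ℕ) ∈ π := (hπ 3 Nat.prime_three (by norm_num)).mpr (Or.inr rfl)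
  have h5π : (5 : ℕ) ∉ π := fun h => by
    have := (hπ 5 (by norm_num) (by norm_num)).mp h
    omega
  obtain ⟨K, hK, hLK⟩ := exists_hall_ge hD
    (L := wr (blkA 8) (blkB 8) ⊓ alternatingGroup (Fin 8)) inf_le_right
    (wr_pi card_blkA8 card_blkB8 h2π h3π inf_le_left)
  have hc1 : swap (0 : Fin 8) 1 * swap 1 2 ∈ wr (blkA 8) (blkB 8) ⊓ alternatingGroup (Fin 8) := by
    refine ⟨?_, ?_⟩
    · show _ ∈ wr (blkA 8) (blkB 8)
      rw [mem_wr]
      decide
    · show _ ∈ alternatingGroup (Fin 8)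
      rw [Perm.mem_alternatingGroup]
      decide
  have hc2 : swap (3 : Fin 8) 4 * swap 4 5 ∈ wr (blkA 8) (blkB 8) ⊓ alternatingGroup (Fin 8) := by
    refine ⟨?_, ?_⟩
    · show _ ∈ wr (blkA 8) (blkB 8)
      rw [mem_wr]
      decide
    · show _ ∈ alternatingGroup (Fin 8)
      rw [Perm.mem_alternatingGroup]
      decide
  have ht : swap (0 : Fin 8) 3 * swap 1 4 * swap 2 5 * swap 0 1 ∈
      wr (blkA 8) (blkB 8) ⊓ alternatingGroup (Fin 8) := by
    refine ⟨?_, ?_⟩
    · show _ ∈ wr (blkA 8) (blkB 8)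
      rw [mem_wr]
      decide
    · show _ ∈ alternatingGroup (Fin 8)
      rw [Perm.mem_alternatingGroup]
      decide
  have hty := hall_classify hK
  cases hty with
  | top htop =>
    rw [htop] at hK
    exact h5π (mem_of_top hK (by norm_num) (by rw [Fintype.card_fin]; norm_num))
  | pgroup p k hp hk =>
    exact not_pgroup_of_two hK Nat.prime_two Nat.prime_three h2π h3π
      (by rw [Fintype.card_fin]; norm_num) (by rw [Fintype.card_fin]; norm_num) (by norm_num) hp hk
  | point x hprime hmem hπ' =>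
    rw [Nat.card_eq_fintype_card, Fintype.card_fin] at hprime
    exact absurd hprime (by norm_num)
  | seven P hc hk hP hP4 hπ' =>
    rw [Nat.card_eq_fintype_card, Fintype.card_fin] at hc
    omega
  | eight hc hk htr hπ' =>
    obtain ⟨B, hB4, hKB⟩ := eight_eq_bisect hK (by rw [Fintype.card_fin]) hπ
    rw [hKB] at hLK
    have p1 := pointwise_of_mem_bisect (hLK hc1)
    have p2 := pointwise_of_mem_bisect (hLK hc2)
    have p3 := pointwise_of_mem_bisect (hLK ht)
    have v1 : (swap (0 : Fin 8) 1 * swap 1 2 : Perm (Fin 8)) 0 = 1 := by decide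
    have v2 : (swap (0 : Fin 8) 1 * swap 1 2 : Perm (Fin 8)) 1 = 2 := by decide
    have v2' : (swap (0 : Fin 8) 1 * swap 1 2 : Perm (Fin 8)) 2 = 0 := by decide
    have v3 : (swap (3 : Fin 8) 4 * swap 4 5 : Perm (Fin 8)) 3 = 4 := by decide
    have v4 : (swap (3 : Fin 8) 4 * swap 4 5 : Perm (Fin 8)) 4 = 5 := by decide
    have v4' : (swap (3 : Fin 8) 4 * swap 4 5 : Perm (Fin 8)) 5 = 3 := by decide
    have v5 : (swap (0 : Fin 8) 3 * swap 1 4 * swap 2 5 * swap 0 1 : Perm (Fin 8)) 0 = 4 := by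
      decide
    have v6 : (swap (0 : Fin 8) 3 * swap 1 4 * swap 2 5 * swap 0 1 : Perm (Fin 8)) 6 = 6 := by
      decide
    -- the two three-cycles preserve `B`
    have q1 : ∀ x, (swap (0 : Fin 8) 1 * swap 1 2 : Perm (Fin 8)) x ∈ B ↔ x ∈ B := by
      rcases p1 with h | h
      · exact h
      · exfalso
        have a0 := h 0
        have a1 := h 1
        have a2 := h 2
        rw [v1] at a0
        rw [v2] at a1
        rw [v2'] at a2
        tauto
    have q2 : ∀ x, (swap (3 : Fin 8) 4 * swap 4 5 : Perm (Fin 8)) x ∈ B ↔ x ∈ B := by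
      rcases p2 with h | h
      · exact h
      · exfalso
        have a0 := h 3
        have a1 := h 4
        have a2 := h 5
        rw [v3] at a0
        rw [v4] at a1
        rw [v4'] at a2
        tauto
    have e1 := q1 0
    have e2 := q1 1
    have e3 := q2 3
    have e4 := q2 4
    rw [v1] at e1
    rw [v2] at e2
    rw [v3] at e3
    rw [v4] at e4
    have hcard : Nat.card {x // x ∈ B} = 4 := by
      rw [← hB4]
      exact Nat.card_coe_set_eq B
    have hsum := sum_of_card (fun x => x ∈ B) hcard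
    rw [Fin.sum_univ_eight] at hsum
    rcases p3 with h | h
    · -- `t` preserves `B`: then blocks `A` and `B` are on the same side
      have e5 := h 0
      rw [v5] at e5
      by_cases h0 : (0 : Fin 8) ∈ B
      · have h1 : (1 : Fin 8) ∈ B := e1.mpr h0
        have h2 : (2 : Fin 8) ∈ B := e2.mpr h1
        have h4 : (4 : Fin 8) ∈ B := e5.mpr h0
        have h3 : (3 : Fin 8) ∈ B := e3.mp h4
        have h5 : (5 : Fin 8) ∈ B := e4.mpr h4
        rw [if_pos h0, if_pos h1, if_pos h2, if_pos h3, if_pos h4, if_pos h5] at hsum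
        omega
      · have h1 : (1 : Fin 8) ∉ B := fun h => h0 (e1.mp h)
        have h2 : (2 : Fin 8) ∉ B := fun h => h1 (e2.mp h)
        have h4 : (4 : Fin 8) ∉ B := fun h => h0 (e5.mp h)
        have h3 : (3 : Fin 8) ∉ B := fun h => h4 (e3.mpr h)
        have h5 : (5 : Fin 8) ∉ B := fun h => h4 (e4.mp h)
        rw [if_neg h0, if_neg h1, if_neg h2, if_neg h3, if_neg h4, if_neg h5] at hsum
        split_ifs at hsum <;> omega
    · -- `t` interchanges `B` and its complement, but fixes the point `6`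
      have e6 := h 6
      rw [v6] at e6
      tauto

end Cfsg.Agent.Helper8.HallSym
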