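import Cfsg.Agent.Helper8.HallDpiE

/-!
# The `D_π` property for alternating groups: the main theorem
-/

set_option autoImplicit false
set_option linter.unusedSectionVars false

namespace Cfsg.Agent.Helper8.HallSym

open Equiv MulAction
open scoped Pointwise

/-- Under `D_π`, either at most one prime of `π` divides the order of the alternating group of
degree `n ≥ 5`, or all primes dividing this order lie in `π`. -/
theorem dpi_alt_imp (n : ℕ) (hn : 5 ≤ n) (π : Set ℕ)
    (hD : Cfsg.IsDPiGroup π ↥(alternatingGroup (Fin n))) :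
    (∀ r s : ℕ, r.Prime → s.Prime → r ∈ π → s ∈ π →
        r ∣ Nat.card ↥(alternatingGroup (Fin n)) → s ∣ Nat.card ↥(alternatingGroup (Fin n)) →
        r = s) ∨
      ∀ r : ℕ, r.Prime → r ∣ Nat.card ↥(alternatingGroup (Fin n)) → r ∈ π := by
  by_contra hcon
  rw [not_or] at hcon
  obtain ⟨h1, h2⟩ := hcon
  push Not at h1 h2
  obtain ⟨r, s, hr, hs, hrπ, hsπ, hrd, hsd, hrs⟩ := h1
  obtain ⟨t, ht, htd, htπ⟩ := h2
  have hcard : Fintype.card (Fin n) = n := Fintype.card_fin n
  have hle : ∀ p : ℕ, p.Prime → p ∣ Nat.card ↥(alternatingGroup (Fin n)) →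
      p ≤ Fintype.card (Fin n) := by
    intro p hp hpd
    have h2 := two_mul_card_alt (α := Fin n) (by rw [hcard]; omega)
    have : p ∣ (Fintype.card (Fin n)).factorial := by
      rw [← h2]
      exact Dvd.dvd.mul_left hpd 2
    exact (Nat.Prime.dvd_factorial hp).mp this
  obtain ⟨K, hK⟩ := exists_hall_of_dpi hD
  have hty := hall_classify hK
  cases hty with
  | top htop =>
    rw [htop] at hK
    exact htπ (mem_of_top hK ht (hle t ht htd))
  | pgroup p k hp hk =>
    exact not_pgroup_of_two hK hr hs hrπ hsπ (hle r hr hrd) (hle s hs hsd) hrs hp hk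
  | point x hprime hmem hπ' =>
    rw [Nat.card_eq_fintype_card] at hprime hπ'
    exact not_dpi_point hD (by rw [hcard]; exact hn) hπ' hprime
  | seven P hc hk hP hP4 hπ' =>
    rw [Nat.card_eq_fintype_card, hcard] at hc
    subst hc
    exact not_dpi_seven hD hπ'
  | eight hc hk htr hπ' =>
    rw [Nat.card_eq_fintype_card, hcard] at hc
    subst hc
    exact not_dpi_eight hD hπ'

/-- **The `D_π` property of alternating groups.** -/
theorem dpi_alt_iff (n : ℕ) (hn : 5 ≤ n) (π : Set ℕ) :
    Cfsg.IsDPiGroup π ↥(alternatingGroup (Fin n)) ↔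
      ((∀ r s : ℕ, r.Prime → s.Prime → r ∈ π → s ∈ π →
          r ∣ Nat.card ↥(alternatingGroup (Fin n)) → s ∣ Nat.card ↥(alternatingGroup (Fin n)) →
          r = s) ∨
        ∀ r : ℕ, r.Prime → r ∣ Nat.card ↥(alternatingGroup (Fin n)) → r ∈ π) := by
  constructor
  · exact dpi_alt_imp n hn π
  · rintro (h | h)
    · exact dpi_of_le_one h
    · exact dpi_of_all h

end Cfsg.Agent.Helper8.HallSym
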