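import Mathlib

/-!
# Polynomial sequences in a filtered group (Lazard, Leibman)

`F : ℕ → Subgroup G` is an antitone family with `⁅F i, F j⁆ ≤ F (i + j)`.  A sequence `f : ℕ → G`
is *polynomial of shift `d` up to order `k`* (`IsPoly F d k f`) when its `j`-th discrete derivative
takes values in `F (d + j)` for all `j ≤ k`.  These sequences are closed under pointwise
products, inverses and commutators (adding the shifts), and a sequence that is polynomial of
shift `0` to all orders has a Taylor expansion `f n = ∏_{i ≤ n} c i ^ (n.choose i)` with `c i ∈ F i`.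
-/

set_option autoImplicit false

namespace Cfsg.Agent.Helper8.HP

open scoped commutatorElement

variable {G : Type*} [Group G]

/-- Discrete (left) derivative of a sequence. -/
def D (f : ℕ → G) : ℕ → G := fun n => f (n + 1) * (f n)⁻¹

@[simp] theorem D_apply (f : ℕ → G) (n : ℕ) : D f n = f (n + 1) * (f n)⁻¹ := rfl

/-- `f` is polynomial of shift `d` up to order `k`. -/
def IsPoly (F : ℕ → Subgroup G) : ℕ → ℕ → (ℕ → G) → Prop
  | d, 0, f => ∀ n, f n ∈ F d
  | d, k + 1, f => (∀ n, f n ∈ F d) ∧ IsPoly F (d + 1) k (D f)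

theorem isPoly_zero (F : ℕ → Subgroup G) (d : ℕ) (f : ℕ → G) :
    IsPoly F d 0 f ↔ ∀ n, f n ∈ F d := Iff.rfl

theorem isPoly_succ (F : ℕ → Subgroup G) (d k : ℕ) (f : ℕ → G) :
    IsPoly F d (k + 1) f ↔ (∀ n, f n ∈ F d) ∧ IsPoly F (d + 1) k (D f) := Iff.rfl

theorem IsPoly.values {F : ℕ → Subgroup G} {d k : ℕ} {f : ℕ → G} (h : IsPoly F d k f) :
    ∀ n, f n ∈ F d := by
  cases k with
  | zero => exact h
  | succ k => exact h.1

theorem IsPoly.mono_d {F : ℕ → Subgroup G} (hF : Antitone F) {k : ℕ} :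
    ∀ {d d' : ℕ} {f : ℕ → G}, d' ≤ d → IsPoly F d k f → IsPoly F d' k f := by
  induction k with
  | zero => intro d d' f hd h n; exact hF hd (h n)
  | succ k ih =>
    intro d d' f hd h
    exact ⟨fun n => hF hd (h.1 n), ih (Nat.succ_le_succ hd) h.2⟩

theorem IsPoly.pred {F : ℕ → Subgroup G} {k : ℕ} :
    ∀ {d : ℕ} {f : ℕ → G}, IsPoly F d (k + 1) f → IsPoly F d k f := by
  induction k with
  | zero => intro d f h; exact h.1
  | succ k ih => intro d f h; exact ⟨h.1, ih h.2⟩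

theorem IsPoly.mono_k {F : ℕ → Subgroup G} {k k' : ℕ} {d : ℕ} {f : ℕ → G} (hk : k' ≤ k)
    (h : IsPoly F d k f) : IsPoly F d k' f := by
  induction hk with
  | refl => exact h
  | step _ ih => exact ih h.pred

theorem isPoly_one (F : ℕ → Subgroup G) (k : ℕ) : ∀ d : ℕ, IsPoly F d k (1 : ℕ → G) := by
  induction k with
  | zero => intro d n; exact one_mem _
  | succ k ih =>
    intro d
    refine ⟨fun n => one_mem _, ?_⟩
    have : D (1 : ℕ → G) = 1 := by funext n; simp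
    rw [this]; exact ih _

/-- The iterated derivatives of a polynomial sequence lie in the right terms. -/
theorem IsPoly.iterate {F : ℕ → Subgroup G} {k : ℕ} :
    ∀ {d : ℕ} {f : ℕ → G}, IsPoly F d k f → ∀ j ≤ k, ∀ n, (D^[j] f) n ∈ F (d + j) := by
  induction k with
  | zero =>
    intro d f h j hj n
    obtain rfl : j = 0 := by omega
    exact h n
  | succ k ih =>
    intro d f h j hj n
    cases j with
    | zero => exact h.1 n
    | succ j =>
      have := ih h.2 j (by omega) n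
      rw [Function.iterate_succ_apply]
      rwa [show d + (j + 1) = d + 1 + j by omega]

section identities

theorem D_mul (f g : ℕ → G) : D (f * g) = D f * ⁅f, D g⁆ * D g := by
  funext n
  simp only [D_apply, Pi.mul_apply, commutatorElement_def, Pi.inv_apply]
  group

theorem D_inv (f : ℕ → G) : D f⁻¹ = ⁅f⁻¹, (D f)⁻¹⁆ * (D f)⁻¹ := by
  funext n
  simp only [D_apply, Pi.mul_apply, commutatorElement_def, Pi.inv_apply]
  group

theorem D_comm (f g : ℕ → G) :
    D ⁅f, g⁆ = (⁅D f, ⁅f, D g⁆⁆ * ⁅f, D g⁆) * ⁅D f * D g, ⁅f, g⁆⁆ *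
      (⁅⁅f, g⁆, ⁅D f, D g⁆ * (⁅D g, ⁅D f, g⁆⁆ * ⁅D f, g⁆)⁆ *
        (⁅D f, D g⁆ * (⁅D g, ⁅D f, g⁆⁆ * ⁅D f, g⁆))) := by
  funext n
  simp only [D_apply, Pi.mul_apply, commutatorElement_def, Pi.inv_apply]
  group

end identities

/-- A filtration: antitone with `⁅F i, F j⁆ ≤ F (i + j)`. -/
structure IsFilt (F : ℕ → Subgroup G) : Prop where
  anti : Antitone F
  comm : ∀ i j, ⁅F i, F j⁆ ≤ F (i + j)

/-- Closure of polynomial sequences under product, inverse and commutator. -/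
theorem isPoly_closure {F : ℕ → Subgroup G} (hF : IsFilt F) (k : ℕ) :
    (∀ (d : ℕ) (f g : ℕ → G), IsPoly F d k f → IsPoly F d k g → IsPoly F d k (f * g)) ∧
    (∀ (d : ℕ) (f : ℕ → G), IsPoly F d k f → IsPoly F d k f⁻¹) ∧
    (∀ (d e : ℕ) (f g : ℕ → G), IsPoly F d k f → IsPoly F e k g → IsPoly F (d + e) k ⁅f, g⁆) := by
  induction k with
  | zero =>
    refine ⟨fun d f g hf hg n => mul_mem (hf n) (hg n), fun d f hf n => inv_mem (hf n),
      fun d e f g hf hg n => ?_⟩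
    exact hF.comm d e (Subgroup.commutator_mem_commutator (hf n) (hg n))
  | succ k ih =>
    obtain ⟨ihm, ihi, ihc⟩ := ih
    refine ⟨?_, ?_, ?_⟩
    · intro d f g hf hg
      refine ⟨fun n => mul_mem (hf.1 n) (hg.1 n), ?_⟩
      rw [D_mul]
      refine ihm _ _ _ (ihm _ _ _ hf.2 ?_) hg.2
      exact (ihc _ _ _ _ hf.pred hg.2).mono_d hF.anti (by omega)
    · intro d f hf
      refine ⟨fun n => inv_mem (hf.1 n), ?_⟩
      rw [D_inv]
      refine ihm _ _ _ ?_ (ihi _ _ hf.2)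
      exact (ihc _ _ _ _ (ihi _ _ hf.pred) (ihi _ _ hf.2)).mono_d hF.anti (by omega)
    · intro d e f g hf hg
      refine ⟨fun n => hF.comm d e (Subgroup.commutator_mem_commutator (hf.1 n) (hg.1 n)), ?_⟩
      rw [D_comm]
      have hf' := hf.pred
      have hg' := hg.pred
      have hDf := hf.2
      have hDg := hg.2
      -- basic pieces
      have h1 : IsPoly F (d + e + 1) k ⁅f, D g⁆ :=
        (ihc _ _ _ _ hf' hDg).mono_d hF.anti (by omega)
      have h2 : IsPoly F (d + e + 1) k ⁅D f, g⁆ :=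
        (ihc _ _ _ _ hDf hg').mono_d hF.anti (by omega)
      have h3 : IsPoly F (d + e + 1) k ⁅D f, D g⁆ :=
        (ihc _ _ _ _ hDf hDg).mono_d hF.anti (by omega)
      have h4 : IsPoly F (d + e) k ⁅f, g⁆ := ihc _ _ _ _ hf' hg'
      have hA : IsPoly F (d + e + 1) k (⁅D f, ⁅f, D g⁆⁆ * ⁅f, D g⁆) :=
        ihm _ _ _ ((ihc _ _ _ _ hDf h1).mono_d hF.anti (by omega)) h1
      have hu : IsPoly F 1 k (D f * D g) :=
        ihm _ _ _ (hDf.mono_d hF.anti (by omega)) (hDg.mono_d hF.anti (by omega))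
      have hB : IsPoly F (d + e + 1) k ⁅D f * D g, ⁅f, g⁆⁆ :=
        (ihc _ _ _ _ hu h4).mono_d hF.anti (by omega)
      have hE : IsPoly F (d + e + 1) k (⁅D g, ⁅D f, g⁆⁆ * ⁅D f, g⁆) :=
        ihm _ _ _ ((ihc _ _ _ _ hDg h2).mono_d hF.anti (by omega)) h2
      have hCE : IsPoly F (d + e + 1) k (⁅D f, D g⁆ * (⁅D g, ⁅D f, g⁆⁆ * ⁅D f, g⁆)) :=
        ihm _ _ _ h3 hE
      have hW : IsPoly F (d + e + 1) k
          ⁅⁅f, g⁆, ⁅D f, D g⁆ * (⁅D g, ⁅D f, g⁆⁆ * ⁅D f, g⁆)⁆ :=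
        (ihc _ _ _ _ h4 hCE).mono_d hF.anti (by omega)
      exact ihm _ _ _ (ihm _ _ _ hA hB) (ihm _ _ _ hW hCE)

end Cfsg.Agent.Helper8.HP
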