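import Cfsg.Agent.Helper8.HallPetrescuA

/-!
# Taylor expansion of polynomial sequences
-/

set_option autoImplicit false

namespace Cfsg.Agent.Helper8.HP

open scoped commutatorElement

variable {G : Type*} [Group G]

/-- `f` is polynomial of shift `d` to all orders. -/
def IsPolyAll (F : ℕ → Subgroup G) (d : ℕ) (f : ℕ → G) : Prop := ∀ k, IsPoly F d k f

theorem IsPolyAll.mul {F : ℕ → Subgroup G} (hF : IsFilt F) {d : ℕ} {f g : ℕ → G}
    (hf : IsPolyAll F d f) (hg : IsPolyAll F d g) : IsPolyAll F d (f * g) :=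
  fun k => (isPoly_closure hF k).1 d f g (hf k) (hg k)

theorem IsPolyAll.inv {F : ℕ → Subgroup G} (hF : IsFilt F) {d : ℕ} {f : ℕ → G}
    (hf : IsPolyAll F d f) : IsPolyAll F d f⁻¹ :=
  fun k => (isPoly_closure hF k).2.1 d f (hf k)

theorem IsPolyAll.comm {F : ℕ → Subgroup G} (hF : IsFilt F) {d e : ℕ} {f g : ℕ → G}
    (hf : IsPolyAll F d f) (hg : IsPolyAll F e g) : IsPolyAll F (d + e) ⁅f, g⁆ :=
  fun k => (isPoly_closure hF k).2.2 d e f g (hf k) (hg k)

theorem IsPolyAll.mono_d {F : ℕ → Subgroup G} (hF : IsFilt F) {d d' : ℕ} {f : ℕ → G}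
    (hd : d' ≤ d) (hf : IsPolyAll F d f) : IsPolyAll F d' f :=
  fun k => (hf k).mono_d hF.anti hd

theorem isPolyAll_one (F : ℕ → Subgroup G) (d : ℕ) : IsPolyAll F d (1 : ℕ → G) :=
  fun k => isPoly_one F k d

/-- The binomial power sequence `n ↦ g ^ (n.choose j)`. -/
def bin (g : G) (j : ℕ) : ℕ → G := fun n => g ^ (n.choose j)

@[simp] theorem bin_apply (g : G) (j n : ℕ) : bin g j n = g ^ (n.choose j) := rfl

theorem D_bin_zero (g : G) : D (bin g 0) = 1 := by
  funext n; simp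

theorem D_bin_succ (g : G) (j : ℕ) : D (bin g (j + 1)) = bin g j := by
  funext n
  simp only [D_apply, bin_apply]
  rw [Nat.choose_succ_succ, pow_add, mul_inv_cancel_right]

theorem isPoly_bin {F : ℕ → Subgroup G} (hF : Antitone F) {i : ℕ} {g : G} (hg : g ∈ F i)
    (k : ℕ) : ∀ d j : ℕ, d + j ≤ i → IsPoly F d k (bin g j) := by
  induction k with
  | zero =>
    intro d j hdj n
    exact hF (by omega : d ≤ i) (pow_mem hg _)
  | succ k ih =>
    intro d j hdj
    refine ⟨fun n => hF (by omega : d ≤ i) (pow_mem hg _), ?_⟩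
    cases j with
    | zero => rw [D_bin_zero]; exact isPoly_one F k _
    | succ j => rw [D_bin_succ]; exact ih _ _ (by omega)

theorem isPolyAll_bin {F : ℕ → Subgroup G} (hF : Antitone F) {i : ℕ} {g : G} (hg : g ∈ F i) :
    IsPolyAll F 0 (bin g i) :=
  fun k => isPoly_bin hF hg k 0 i (by omega)

/-- The power sequence `n ↦ x ^ n` is polynomial of shift `0` as soon as `x ∈ F 1`. -/
theorem isPolyAll_pow {F : ℕ → Subgroup G} (hF : Antitone F) {x : G} (hx : x ∈ F 1) :
    IsPolyAll F 0 (fun n => x ^ n) := by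
  have : (fun n => x ^ n) = bin x 1 := by funext n; simp
  rw [this]; exact isPolyAll_bin hF hx

/-- If `f` vanishes below `i`, its `i`-th derivative at `0` is `f i`. -/
theorem iterate_D_zero_of_vanish (i : ℕ) :
    ∀ f : ℕ → G, (∀ j < i, f j = 1) → (D^[i] f) 0 = f i := by
  induction i with
  | zero => intro f _; rfl
  | succ i ih =>
    intro f hf
    rw [Function.iterate_succ_apply, ih (D f)]
    · simp [hf i (Nat.lt_succ_self i)]
    · intro j hj
      simp [hf j (by omega), hf (j + 1) (by omega)]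

/-- The Taylor remainders: `rem f 0 = f`, `rem f (i+1) n = (c_i ^ C(n,i))⁻¹ * rem f i n`
with `c_i = rem f i i`. -/
def rem (f : ℕ → G) : ℕ → (ℕ → G)
  | 0 => f
  | i + 1 => (bin (rem f i i) i)⁻¹ * rem f i

/-- The Taylor coefficients. -/
def coeff (f : ℕ → G) (i : ℕ) : G := rem f i i

theorem rem_succ (f : ℕ → G) (i : ℕ) : rem f (i + 1) = (bin (coeff f i) i)⁻¹ * rem f i := rfl

theorem rem_vanish (f : ℕ → G) (i : ℕ) : ∀ j < i, rem f i j = 1 := by
  induction i with
  | zero => intro j hj; omega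
  | succ i ih =>
    intro j hj
    rw [rem_succ]
    rcases Nat.lt_succ_iff_lt_or_eq.mp hj with h | rfl
    · simp [ih j h, Nat.choose_eq_zero_of_lt h]
    · simp [coeff]

theorem rem_poly {F : ℕ → Subgroup G} (hF : IsFilt F) {f : ℕ → G} (hf : IsPolyAll F 0 f)
    (i : ℕ) : IsPolyAll F 0 (rem f i) ∧ coeff f i ∈ F i := by
  induction i with
  | zero =>
    refine ⟨hf, ?_⟩
    exact (hf 0).values 0
  | succ i ih =>
    have h1 : IsPolyAll F 0 (rem f (i + 1)) := by
      rw [rem_succ]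
      exact ((isPolyAll_bin hF.anti ih.2).inv hF).mul hF ih.1
    refine ⟨h1, ?_⟩
    have h2 := (h1 (i + 1)).iterate (i + 1) le_rfl 0
    rw [iterate_D_zero_of_vanish (i + 1) _ (rem_vanish f (i + 1))] at h2
    simpa [coeff] using h2

/-- Ordered product `c 0 ^ C(n,0) * c 1 ^ C(n,1) * ⋯ * c (m-1) ^ C(n,m-1)`. -/
def tprod (c : ℕ → G) (n : ℕ) : ℕ → G
  | 0 => 1
  | m + 1 => tprod c n m * c m ^ (n.choose m)

@[simp] theorem tprod_zero (c : ℕ → G) (n : ℕ) : tprod c n 0 = 1 := rfl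

theorem tprod_succ (c : ℕ → G) (n m : ℕ) :
    tprod c n (m + 1) = tprod c n m * c m ^ (n.choose m) := rfl

theorem tprod_mem {c : ℕ → G} {N : Subgroup G} (n m : ℕ)
    (h : ∀ i < m, c i ^ (n.choose i) ∈ N) : tprod c n m ∈ N := by
  induction m with
  | zero => exact one_mem _
  | succ m ih =>
    rw [tprod_succ]
    exact mul_mem (ih fun i hi => h i (by omega)) (h m (by omega))

theorem eq_tprod_mul_rem (f : ℕ → G) (n m : ℕ) :
    f n = tprod (coeff f) n m * rem f m n := by
  induction m with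
  | zero => simp [rem]
  | succ m ih =>
    rw [tprod_succ, rem_succ, ih]
    simp [mul_assoc]

/-- **Taylor expansion** of a polynomial sequence. -/
theorem taylor {F : ℕ → Subgroup G} (hF : IsFilt F) {f : ℕ → G} (hf : IsPolyAll F 0 f) :
    (∀ i, coeff f i ∈ F i) ∧ ∀ n, f n = tprod (coeff f) n (n + 1) := by
  refine ⟨fun i => (rem_poly hF hf i).2, fun n => ?_⟩
  rw [eq_tprod_mul_rem f n (n + 1), rem_vanish f (n + 1) n (Nat.lt_succ_self n), mul_one]

end Cfsg.Agent.Helper8.HP
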