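import Mathlib
import Cfsg.Prelude.Def_HallClasses

/-!
# Hall subgroups of symmetric groups, part A: numeric form of the Hall property, restriction
to invariant subsets, point stabilisers.
-/

set_option autoImplicit false

namespace Cfsg.Agent.Helper8.HallSym

open Equiv

section general

variable {G : Type*} [Group G] [Finite G] {π : Set ℕ}

theorem card_ne_zero' (H : Subgroup G) : Nat.card H ≠ 0 := Nat.card_pos.ne'

theorem index_ne_zero' (H : Subgroup G) : H.index ≠ 0 := Subgroup.index_ne_zero_of_finite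

/-- For a Hall `π`-subgroup and `p ∈ π`, the `p`-parts of `|H|` and `|G|` agree. -/
theorem padic_card_of_hall {H : Subgroup G} (hH : Cfsg.IsPiHall π H) {p : ℕ} (hp : p.Prime)
    (hpπ : p ∈ π) : padicValNat p (Nat.card H) = padicValNat p (Nat.card G) := by
  have : Fact p.Prime := ⟨hp⟩
  rw [← Subgroup.card_mul_index H, padicValNat.mul (card_ne_zero' H) (index_ne_zero' H),
    padicValNat.eq_zero_of_not_dvd (hH.2 p hp hpπ), add_zero]

/-- Numeric criterion for the Hall property. -/
theorem isPiHall_of_padic {H : Subgroup G}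
    (h1 : ∀ p : ℕ, p.Prime → p ∣ Nat.card H → p ∈ π)
    (h2 : ∀ p : ℕ, p.Prime → p ∈ π → padicValNat p (Nat.card G) ≤ padicValNat p (Nat.card H)) :
    Cfsg.IsPiHall π H := by
  refine ⟨h1, fun p hp hpπ hdvd => ?_⟩
  have : Fact p.Prime := ⟨hp⟩
  have h3 := h2 p hp hpπ
  rw [← Subgroup.card_mul_index H, padicValNat.mul (card_ne_zero' H) (index_ne_zero' H)] at h3
  have h4 : 1 ≤ padicValNat p H.index :=
    one_le_padicValNat_of_dvd (index_ne_zero' H) hdvd
  omega

/-- A prime of `π` dividing `|G|` divides the order of a Hall `π`-subgroup. -/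
theorem dvd_card_of_hall {H : Subgroup G} (hH : Cfsg.IsPiHall π H) {p : ℕ} (hp : p.Prime)
    (hpπ : p ∈ π) (hd : p ∣ Nat.card G) : p ∣ Nat.card H := by
  have : Fact p.Prime := ⟨hp⟩
  have h1 : 1 ≤ padicValNat p (Nat.card G) :=
    one_le_padicValNat_of_dvd Nat.card_pos.ne' hd
  rw [← padic_card_of_hall hH hp hpπ] at h1
  exact dvd_of_one_le_padicValNat h1

/-- If every prime dividing `|G|` lies in `π`, the only Hall `π`-subgroup is `⊤`. -/
theorem eq_top_of_hall_of_forall {H : Subgroup G} (hH : Cfsg.IsPiHall π H)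
    (hall : ∀ p : ℕ, p.Prime → p ∣ Nat.card G → p ∈ π) : H = ⊤ := by
  rw [← Subgroup.index_eq_one]
  by_contra hne
  obtain ⟨p, hp, hpd⟩ := Nat.exists_prime_and_dvd hne
  exact hH.2 p hp (hall p hp (hpd.trans (Subgroup.index_dvd_card H))) hpd

/-- The Hall property is invariant under group isomorphisms. -/
theorem isPiHall_map_equiv {G' : Type*} [Group G'] (e : G ≃* G') {H : Subgroup G}
    (hH : Cfsg.IsPiHall π H) : Cfsg.IsPiHall π (H.map e.toMonoidHom) := by
  have hcard : Nat.card (H.map e.toMonoidHom) = Nat.card H :=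
    Nat.card_congr (e.subgroupMap H).symm.toEquiv
  have hidx : (H.map e.toMonoidHom).index = H.index := by
    have := Subgroup.index_map_of_bijective (f := e.toMonoidHom) e.bijective H
    simpa using this
  exact ⟨fun p hp hd => hH.1 p hp (hcard ▸ hd), fun p hp hpπ hd => hH.2 p hp hpπ (hidx ▸ hd)⟩

end general

end Cfsg.Agent.Helper8.HallSym
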