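import Cfsg.Agent.Helper8.HallSymA

/-!
# Hall subgroups of symmetric groups, part B: restriction to invariant subsets
-/

set_option autoImplicit false

namespace Cfsg.Agent.Helper8.HallSym

open Equiv

variable {α : Type*} [Fintype α] [DecidableEq α] {π : Set ℕ}

/-- `P` is invariant under the permutation group `H`. -/
def Inv (H : Subgroup (Perm α)) (P : α → Prop) : Prop :=
  ∀ g ∈ H, ∀ x, P (g x) ↔ P x

theorem Inv.not {H : Subgroup (Perm α)} {P : α → Prop} (h : Inv H P) : Inv H (fun x => ¬ P x) :=
  fun g hg x => not_congr (h g hg x)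

/-- Restriction of a permutation group to an invariant subset. -/
def resHom (H : Subgroup (Perm α)) (P : α → Prop) (hP : Inv H P) : H →* Perm {x // P x} where
  toFun g := Perm.subtypePerm (g : Perm α) (hP g g.2)
  map_one' := by
    ext x; simp
  map_mul' g h := by
    ext x; rfl

@[simp] theorem resHom_apply (H : Subgroup (Perm α)) (P : α → Prop) (hP : Inv H P) (g : H)
    (x : {x // P x}) : ((resHom H P hP g) x : α) = (g : Perm α) x := rfl

/-- The constituent of `H` on an invariant subset. -/
def res (H : Subgroup (Perm α)) (P : α → Prop) (hP : Inv H P) : Subgroup (Perm {x // P x}) :=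
  (resHom H P hP).range

theorem card_res_dvd (H : Subgroup (Perm α)) (P : α → Prop) (hP : Inv H P) :
    Nat.card (res H P hP) ∣ Nat.card H :=
  Subgroup.card_range_dvd _

theorem card_dvd_res_mul (H : Subgroup (Perm α)) (P : α → Prop) (hP : Inv H P) :
    Nat.card H ∣ Nat.card (res H P hP) * Nat.card (res H (fun x => ¬ P x) hP.not) := by
  rw [← Nat.card_prod]
  let f : H →* (res H P hP) × (res H (fun x => ¬ P x) hP.not) :=
    MonoidHom.prod (resHom H P hP).rangeRestrict (resHom H (fun x => ¬ P x) hP.not).rangeRestrict
  refine Subgroup.card_dvd_of_injective f ?_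
  intro g h hgh
  have h1 : resHom H P hP g = resHom H P hP h :=
    congrArg Subtype.val (Prod.ext_iff.mp hgh).1
  have h2 : resHom H (fun x => ¬ P x) hP.not g = resHom H (fun x => ¬ P x) hP.not h :=
    congrArg Subtype.val (Prod.ext_iff.mp hgh).2
  apply Subtype.ext
  ext x
  by_cases hx : P x
  · have := congrArg (fun z : Perm {x // P x} => ((z ⟨x, hx⟩ : {x // P x}) : α)) h1
    simpa using this
  · have := congrArg (fun z : Perm {x // ¬ P x} => ((z ⟨x, hx⟩ : {x // ¬ P x}) : α)) h2
    simpa using this

theorem card_perm' (β : Type*) [Fintype β] : Nat.card (Perm β) = (Fintype.card β).factorial := by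
  rw [Nat.card_perm, Nat.card_eq_fintype_card]

theorem card_res_dvd_factorial (H : Subgroup (Perm α)) (P : α → Prop) [DecidablePred P]
    (hP : Inv H P) : Nat.card (res H P hP) ∣ (Fintype.card {x // P x}).factorial := by
  rw [← card_perm']
  exact Subgroup.card_subgroup_dvd_card _

theorem card_subtype_add (P : α → Prop) [DecidablePred P] :
    Fintype.card {x // P x} + Fintype.card {x // ¬ P x} = Fintype.card α :=
  Fintype.card_subtype_compl P ▸ by
    have := Fintype.card_subtype_le P
    omega

/-- **Restriction lemma.** The constituent of a Hall subgroup of `Perm α` on an invariant subset is a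
Hall subgroup, and the binomial coefficient is prime to `π`. -/
theorem hall_res {H : Subgroup (Perm α)} (hH : Cfsg.IsPiHall π H) (P : α → Prop) [DecidablePred P]
    (hP : Inv H P) :
    Cfsg.IsPiHall π (res H P hP) ∧
      ∀ p : ℕ, p.Prime → p ∈ π →
        ¬ p ∣ (Fintype.card α).choose (Fintype.card {x // P x}) := by
  set s := Fintype.card {x // P x} with hs
  set t := Fintype.card {x // ¬ P x} with ht
  have hst : s + t = Fintype.card α := card_subtype_add P
  have key : ∀ p : ℕ, p.Prime → p ∈ π →
      padicValNat p s.factorial ≤ padicValNat p (Nat.card (res H P hP)) ∧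
        padicValNat p ((s + t).choose s) = 0 := by
    intro p hp hpπ
    have : Fact p.Prime := ⟨hp⟩
    have h1 := padic_card_of_hall hH hp hpπ
    rw [card_perm', ← hst] at h1
    have h2 : padicValNat p (Nat.card H) ≤
        padicValNat p (Nat.card (res H P hP)) +
          padicValNat p (Nat.card (res H (fun x => ¬ P x) hP.not)) := by
      rw [← padicValNat.mul (card_ne_zero' _) (card_ne_zero' _)]
      exact (padicValNat_dvd_iff_le (mul_ne_zero (card_ne_zero' _) (card_ne_zero' _))).mp
        ((pow_padicValNat_dvd).trans (card_dvd_res_mul H P hP))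
    have h3 : padicValNat p (Nat.card (res H P hP)) ≤ padicValNat p s.factorial :=
      (padicValNat_dvd_iff_le (Nat.factorial_ne_zero _)).mp
        ((pow_padicValNat_dvd).trans (card_res_dvd_factorial H P hP))
    have h4 : padicValNat p (Nat.card (res H (fun x => ¬ P x) hP.not)) ≤
        padicValNat p t.factorial :=
      (padicValNat_dvd_iff_le (Nat.factorial_ne_zero _)).mp
        ((pow_padicValNat_dvd).trans (card_res_dvd_factorial H (fun x => ¬ P x) hP.not))
    have h5 : padicValNat p (s + t).factorial =
        padicValNat p ((s + t).choose s) + padicValNat p s.factorial +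
          padicValNat p t.factorial := by
      have := Nat.add_choose_mul_factorial_mul_factorial s t
      rw [← Nat.choose_symm_add] at this
      rw [← this, padicValNat.mul (mul_ne_zero (Nat.choose_pos (Nat.le_add_right s t)).ne'
        (Nat.factorial_ne_zero _)) (Nat.factorial_ne_zero _),
        padicValNat.mul (Nat.choose_pos (Nat.le_add_right s t)).ne' (Nat.factorial_ne_zero _)]
    constructor <;> omega
  refine ⟨isPiHall_of_padic ?_ ?_, ?_⟩
  · intro p hp hd
    exact hH.1 p hp (hd.trans (card_res_dvd H P hP))
  · intro p hp hpπ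
    rw [card_perm']
    exact (key p hp hpπ).1
  · intro p hp hpπ hd
    have : Fact p.Prime := ⟨hp⟩
    have h1 := (key p hp hpπ).2
    rw [hst] at h1
    have h2 : 1 ≤ padicValNat p ((Fintype.card α).choose s) :=
      one_le_padicValNat_of_dvd (Nat.choose_pos (by omega)).ne' hd
    omega

end Cfsg.Agent.Helper8.HallSym
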