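import Cfsg.Agent.Helper8.HallSymB

/-!
# Hall subgroups of symmetric groups, part C: point stabilisers, cycles in Hall subgroups
-/

set_option autoImplicit false
set_option linter.unusedSectionVars false

namespace Cfsg.Agent.Helper8.HallSym

open Equiv

variable {α : Type*} [Fintype α] [DecidableEq α] {π : Set ℕ}

/-- The point stabiliser of `x` in `H`, as a permutation group on the other points. -/
def pt (H : Subgroup (Perm α)) (x : α) : Subgroup (Perm {y // y ≠ x}) :=
  H.comap (Perm.ofSubtype (p := fun y => y ≠ x))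

theorem mem_pt {H : Subgroup (Perm α)} {x : α} {σ : Perm {y // y ≠ x}} :
    σ ∈ pt H x ↔ Perm.ofSubtype σ ∈ H := Iff.rfl

theorem ofSubtype_fix (x : α) (σ : Perm {y // y ≠ x}) : Perm.ofSubtype σ x = x :=
  Perm.ofSubtype_apply_of_not_mem σ (by simp)

/-- The bijection between `pt H x` and the stabiliser of `x` in `H`. -/
theorem card_pt (H : Subgroup (Perm α)) (x : α) :
    Nat.card (pt H x) = Nat.card (MulAction.stabilizer H x) := by
  let f : pt H x → MulAction.stabilizer H x := fun σ =>
    ⟨⟨Perm.ofSubtype (σ : Perm {y // y ≠ x}), σ.2⟩, by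
      rw [MulAction.mem_stabilizer_iff]
      exact ofSubtype_fix x σ⟩
  refine Nat.card_eq_of_bijective f ⟨?_, ?_⟩
  · intro σ τ h
    have h1 : Perm.ofSubtype (σ : Perm {y // y ≠ x}) = Perm.ofSubtype (τ : Perm {y // y ≠ x}) :=
      congrArg (fun z : MulAction.stabilizer H x => ((z : H) : Perm α)) h
    exact Subtype.ext (Perm.ofSubtype_injective h1)
  · rintro ⟨⟨g, hg⟩, hgx⟩
    have hgx' : g x = x := by
      have := (MulAction.mem_stabilizer_iff).mp hgx
      exact this
    have h₁ : ∀ y, g y ≠ x ↔ y ≠ x := by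
      intro y
      constructor
      · intro h hy; exact h (hy ▸ hgx')
      · intro h hy
        apply h
        apply g.injective
        rw [hy, hgx']
    have h₂ : ∀ y, g y ≠ y → y ≠ x := by
      intro y hy hyx; exact hy (hyx ▸ hgx')
    have h3 : Perm.ofSubtype (g.subtypePerm h₁) = g := Perm.ofSubtype_subtypePerm h₁ h₂
    refine ⟨⟨g.subtypePerm h₁, ?_⟩, ?_⟩
    · rw [mem_pt, h3]; exact hg
    · apply Subtype.ext; apply Subtype.ext
      exact h3

theorem card_eq_card_mul_pt (H : Subgroup (Perm α)) [MulAction.IsPretransitive H α] (x : α) :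
    Nat.card H = Fintype.card α * Nat.card (pt H x) := by
  rw [card_pt, ← Nat.card_eq_fintype_card, ← MulAction.index_stabilizer_of_transitive H x,
    mul_comm, Subgroup.card_mul_index]

theorem card_subtype_ne (x : α) : Fintype.card {y // y ≠ x} = Fintype.card α - 1 := by
  rw [Fintype.card_subtype_compl, Fintype.card_subtype_eq]

/-- **Point stabiliser lemma.** The point stabiliser of a transitive Hall subgroup of `Perm α` is a
Hall subgroup of the symmetric group on the remaining points. -/
theorem hall_pt {H : Subgroup (Perm α)} (hH : Cfsg.IsPiHall π H)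
    [MulAction.IsPretransitive H α] (x : α) : Cfsg.IsPiHall π (pt H x) := by
  have hn : 0 < Fintype.card α := Fintype.card_pos_iff.mpr ⟨x⟩
  have hcard := card_eq_card_mul_pt H x
  refine isPiHall_of_padic ?_ ?_
  · intro p hp hd
    exact hH.1 p hp (hcard ▸ Dvd.dvd.mul_left hd _)
  · intro p hp hpπ
    have : Fact p.Prime := ⟨hp⟩
    have h1 := padic_card_of_hall hH hp hpπ
    rw [card_perm', hcard, padicValNat.mul hn.ne' (card_ne_zero' _)] at h1
    rw [card_perm', card_subtype_ne]
    obtain ⟨m, hm⟩ : ∃ m, Fintype.card α = m + 1 := ⟨Fintype.card α - 1, by omega⟩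
    rw [hm] at h1 ⊢
    rw [Nat.factorial_succ, padicValNat.mul (by omega) (Nat.factorial_ne_zero _)] at h1
    simp only [Nat.add_sub_cancel]
    omega

/-! ### Sylow subgroups: cycles in Hall subgroups -/

/-- If `p ∈ π` and `c` is an element of `p`-power order of `G`, then a Hall `π`-subgroup contains a
conjugate of `c`. -/
theorem exists_conj_mem_of_hall {G : Type*} [Group G] [Finite G] {H : Subgroup G}
    (hH : Cfsg.IsPiHall π H) {p : ℕ} (hp : p.Prime) (hpπ : p ∈ π) (c : G) {k : ℕ}
    (hc : orderOf c = p ^ k) : ∃ g : G, g * c * g⁻¹ ∈ H := by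
  have : Fact p.Prime := ⟨hp⟩
  -- a Sylow `p`-subgroup of `H`, pushed to `G`, is Sylow in `G`
  obtain Q : Sylow p H := default
  have hQ : Nat.card ((Q : Subgroup H).map H.subtype) = p ^ (Nat.card G).factorization p := by
    rw [Subgroup.card_map_of_injective H.subtype_injective, Q.card_eq_multiplicity,
      Nat.factorization_def _ hp, Nat.factorization_def _ hp, padic_card_of_hall hH hp hpπ]
  let Q' : Sylow p G := Sylow.ofCard _ hQ
  have hcp : IsPGroup p (Subgroup.zpowers c) := IsPGroup.of_card (n := k) (by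
    rw [Nat.card_zpowers, hc])
  obtain ⟨P, hP⟩ := hcp.exists_le_sylow
  obtain ⟨g, hg⟩ := MulAction.exists_smul_eq G P Q'
  refine ⟨g, ?_⟩
  have h1 : g * c * g⁻¹ ∈ ((g • P : Sylow p G) : Subgroup G) := by
    rw [Sylow.coe_subgroup_smul, Subgroup.mem_smul_pointwise_iff_exists]
    exact ⟨c, hP (Subgroup.mem_zpowers c), by simp [MulAut.smul_def]⟩
  rw [hg] at h1
  have h2 : ((Q' : Sylow p G) : Subgroup G) ≤ H := by
    change (Q : Subgroup H).map H.subtype ≤ H
    exact Subgroup.map_subtype_le _
  exact h2 h1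

/-- A Hall `π`-subgroup of `Perm α` with `2 ∈ π` contains a transposition (if `2 ≤ |α|`). -/
theorem exists_swap_mem {H : Subgroup (Perm α)} (hH : Cfsg.IsPiHall π H) (h2 : 2 ∈ π)
    (hn : 2 ≤ Fintype.card α) : ∃ g ∈ H, Perm.IsSwap g := by
  obtain ⟨a, b, hab⟩ := Fintype.exists_pair_of_one_lt_card (by omega : 1 < Fintype.card α)
  obtain ⟨g, hg⟩ := exists_conj_mem_of_hall hH Nat.prime_two h2 (swap a b) (k := 1)
    (by rw [pow_one]; exact Perm.IsSwap.orderOf ⟨a, b, hab, rfl⟩)
  refine ⟨_, hg, ?_⟩
  rw [← Perm.card_support_eq_two, Perm.card_support_conj, Perm.card_support_eq_two]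
  exact ⟨a, b, hab, rfl⟩

/-- A Hall `π`-subgroup of `Perm α` with `p ∈ π` contains a `p`-cycle (if `p ≤ |α|`). -/
theorem exists_cycle_mem {H : Subgroup (Perm α)} (hH : Cfsg.IsPiHall π H) {p : ℕ} (hp : p.Prime)
    (hpπ : p ∈ π) (hn : p ≤ Fintype.card α) :
    ∃ g ∈ H, Perm.IsCycle g ∧ g.support.card = p := by
  obtain ⟨s, -, hs⟩ := Finset.exists_subset_card_eq (s := (Finset.univ : Finset α)) (n := p)
    (by simpa using hn)
  have hl : s.toList.Nodup := s.nodup_toList
  have hlen : s.toList.length = p := by rw [Finset.length_toList, hs]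
  have h2 : 2 ≤ s.toList.length := hlen ▸ hp.two_le
  have hc : (s.toList.formPerm).IsCycle := List.isCycle_formPerm hl h2
  have hsupp : (s.toList.formPerm).support = s := by
    rw [List.support_formPerm_of_nodup _ hl, Finset.toList_toFinset]
    intro x hx
    rw [hx] at h2
    simp at h2
  have hcard : (s.toList.formPerm).support.card = p := by rw [hsupp, hs]
  obtain ⟨g, hg⟩ := exists_conj_mem_of_hall hH hp hpπ (s.toList.formPerm) (k := 1)
    (by rw [pow_one, hc.orderOf, hcard])
  exact ⟨_, hg, hc.conj, by rw [Perm.card_support_conj, hcard]⟩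

end Cfsg.Agent.Helper8.HallSym
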