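import Cfsg.Agent.Helper8.HallSymC

/-!
# Hall subgroups of symmetric groups, part D: primitivity lemmas
-/

set_option autoImplicit false
set_option linter.unusedSectionVars false

namespace Cfsg.Agent.Helper8.HallSym

open Equiv MulAction
open scoped Pointwise

variable {α : Type*} [Fintype α] [DecidableEq α] {π : Set ℕ}

theorem smul_def' (H : Subgroup (Perm α)) (g : H) (a : α) : g • a = (g : Perm α) a := rfl

/-- A transitive group whose point stabiliser is transitive on the remaining points is
`2`-transitive. -/
theorem two_trans_of_pt {H : Subgroup (Perm α)} [IsPretransitive H α] (x : α)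
    (hx : IsPretransitive (pt H x) {y // y ≠ x}) : IsMultiplyPretransitive H α 2 := by
  rw [is_two_pretransitive_iff]
  intro a b c d hab hcd
  obtain ⟨h1, hh1⟩ := exists_smul_eq H a x
  obtain ⟨h2, hh2⟩ := exists_smul_eq H c x
  have hb : h1 • b ≠ x := by
    intro h; rw [← hh1] at h; exact hab (smul_left_cancel h1 h).symm
  have hd : h2 • d ≠ x := by
    intro h; rw [← hh2] at h; exact hcd (smul_left_cancel h2 h).symm
  obtain ⟨k, hk⟩ := hx.exists_smul_eq ⟨h1 • b, hb⟩ ⟨h2 • d, hd⟩
  let k' : H := ⟨Perm.ofSubtype (k : Perm {y // y ≠ x}), k.2⟩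
  have hk1 : k' • x = x := ofSubtype_fix x _
  have hk2 : k' • (h1 • b) = h2 • d := by
    change Perm.ofSubtype (k : Perm {y // y ≠ x}) (h1 • b) = h2 • d
    rw [Perm.ofSubtype_apply_of_mem (p := fun y => y ≠ x) (a := h1 • b) _ hb]
    exact congrArg Subtype.val hk
  refine ⟨h2⁻¹ * k' * h1, ?_, ?_⟩
  · rw [mul_smul, mul_smul, hh1, hk1, ← hh2, inv_smul_smul]
  · rw [mul_smul, mul_smul, hk2, inv_smul_smul]

/-- The order of a `2`-transitive group on `n` points is divisible by `n (n - 1)`. -/
theorem two_trans_dvd {H : Subgroup (Perm α)} (h2 : IsMultiplyPretransitive H α 2)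
    (hn : 2 ≤ Fintype.card α) :
    Fintype.card α * (Fintype.card α - 1) ∣ Nat.card H := by
  obtain ⟨a, b, hab⟩ := Fintype.exists_pair_of_one_lt_card (by omega : 1 < Fintype.card α)
  have h3 := h2.index_of_fixingSubgroup_mul (s := ({a, b} : Set α)) (Set.ncard_pair hab)
  rw [Nat.card_eq_fintype_card] at h3
  obtain ⟨m, hm⟩ : ∃ m, Fintype.card α = m + 2 := ⟨Fintype.card α - 2, by omega⟩
  rw [hm] at h3 ⊢
  have h4 : (m + 2).factorial = (m + 2) * (m + 1) * m.factorial := by
    rw [Nat.factorial_succ, Nat.factorial_succ]; ring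
  rw [h4] at h3
  simp only [Nat.add_sub_cancel] at h3
  have h5 : (fixingSubgroup H ({a, b} : Set α)).index = (m + 2) * (m + 1) :=
    Nat.eq_of_mul_eq_mul_right (Nat.factorial_pos m) h3
  have h6 : (m + 2) - 1 = m + 1 := by omega
  rw [h6, ← h5]
  exact Subgroup.index_dvd_card _

/-- Jordan: a primitive group containing a cycle with at least one fixed point is `2`-transitive. -/
theorem two_trans_of_cycle {H : Subgroup (Perm α)} (hprim : IsPreprimitive H α) {g : Perm α}
    (hg : g ∈ H) (hc : g.IsCycle) (hlt : g.support.card < Fintype.card α) :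
    IsMultiplyPretransitive H α 2 := by
  have h2 : 2 ≤ g.support.card := hc.two_le_card_support
  have hs : ((g.support : Set α)ᶜ).ncard = (Fintype.card α - g.support.card - 1) + 1 := by
    rw [Set.ncard_compl, Set.ncard_coe_finset, Nat.card_eq_fintype_card]
    omega
  refine hprim.is_two_pretransitive hs ?_ (Perm.isPretransitive_of_isCycle_mem hc hg)
  rw [Nat.card_eq_fintype_card]
  omega

/-- A transitive group on at least `5` points containing the full pointwise stabiliser of two
points is primitive. -/
theorem prim_of_two_point_stab {H : Subgroup (Perm α)} [IsPretransitive H α]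
    (hn : 5 ≤ Fintype.card α) {x x' : α} (hxx' : x ≠ x')
    (hstab : ∀ σ : Perm α, σ x = x → σ x' = x' → σ ∈ H) : IsPreprimitive H α := by
  refine IsPreprimitive.mk ?_
  intro B hB
  by_contra hnt
  -- `B` is not a subsingleton and not everything
  have hB1 : ¬ B.Subsingleton := fun h => hnt (Or.inl h)
  have hB2 : B ≠ Set.univ := fun h => hnt (Or.inr h)
  rw [Set.not_subsingleton_iff] at hB1
  obtain ⟨b1, hb1, b2, hb2, hb12⟩ := hB1
  -- move `b1` to `x`
  obtain ⟨g0, hg0⟩ := exists_smul_eq H b1 x
  set C : Set α := g0 • B with hC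
  have hCblock : IsBlock H C := hB.translate g0
  have hxC : x ∈ C := by rw [← hg0]; exact Set.smul_mem_smul_set hb1
  have hzC : g0 • b2 ∈ C := Set.smul_mem_smul_set hb2
  have hzx : g0 • b2 ≠ x := by
    rw [← hg0]; intro h; exact hb12 (smul_left_cancel g0 h).symm
  have hCuniv : C ≠ Set.univ := by
    intro h
    apply hB2
    have : g0⁻¹ • C = B := by rw [hC, inv_smul_smul]
    rw [← this, h, Set.smul_set_univ]
  -- the stabiliser of `x` stabilises `C`
  have hstabC : ∀ σ : Perm α, σ x = x → σ x' = x' → ∀ w ∈ C, σ w ∈ C := by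
    intro σ h1 h2 w hw
    have hσ : (⟨σ, hstab σ h1 h2⟩ : H) ∈ stabilizer H C := by
      apply hCblock.stabilizer_le hxC
      rw [mem_stabilizer_iff]
      exact h1
    rw [mem_stabilizer_iff] at hσ
    rw [← hσ]
    exact Set.smul_mem_smul_set (a := (⟨σ, hstab σ h1 h2⟩ : H)) hw
  have hcardC : C.ncard ∣ Fintype.card α := by
    have := hCblock.ncard_dvd_card ⟨x, hxC⟩
    rwa [Nat.card_eq_fintype_card] at this
  by_cases hz : ∃ z ∈ C, z ≠ x ∧ z ≠ x'
  · -- `C` contains everything except possibly `x'`
    obtain ⟨z, hzC', hzx', hzx''⟩ := hz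
    have hsub : ∀ w, w ≠ x' → w ∈ C := by
      intro w hw
      by_cases hwx : w = x
      · rw [hwx]; exact hxC
      · have := hstabC (swap z w) (swap_apply_of_ne_of_ne hzx'.symm (Ne.symm hwx))
          (swap_apply_of_ne_of_ne hzx''.symm (Ne.symm hw)) z hzC'
        rwa [swap_apply_left] at this
    have hge : Fintype.card α - 1 ≤ C.ncard := by
      have h1 : ({x'}ᶜ : Set α) ⊆ C := fun w hw => hsub w hw
      have h2 := Set.ncard_le_ncard h1 (Set.toFinite C)
      rw [Set.ncard_compl, Set.ncard_singleton, Nat.card_eq_fintype_card] at h2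
      exact h2
    have hle : C.ncard ≤ Fintype.card α := by
      have := Set.ncard_le_ncard (Set.subset_univ C) (Set.toFinite _)
      rwa [Set.ncard_univ, Nat.card_eq_fintype_card] at this
    have hne : C.ncard ≠ Fintype.card α := by
      intro h
      apply hCuniv
      apply Set.eq_of_subset_of_ncard_le (Set.subset_univ C) _ (Set.toFinite _)
      rw [Set.ncard_univ, Nat.card_eq_fintype_card, h]
    have heq : C.ncard = Fintype.card α - 1 := by omega
    rw [heq] at hcardC
    have h3 : Fintype.card α - 1 ∣ 1 := by
      have h4 : Fintype.card α - 1 ∣ Fintype.card α - (Fintype.card α - 1) :=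
        Nat.dvd_sub hcardC (dvd_refl _)
      have h5 : Fintype.card α - (Fintype.card α - 1) = 1 := by omega
      rwa [h5] at h4
    have := Nat.le_of_dvd one_pos h3
    omega
  · -- `C = {x, x'}`
    push Not at hz
    have hz' : g0 • b2 = x' := by
      by_contra h
      exact h (hz _ hzC hzx)
    have hx'C : x' ∈ C := hz' ▸ hzC
    have hCeq : ∀ w, w ∈ C ↔ w = x ∨ w = x' := by
      intro w
      constructor
      · intro hw
        by_cases hwx : w = x
        · exact Or.inl hwx
        · exact Or.inr (hz w hw hwx)
      · rintro (h | h)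
        · rw [h]; exact hxC
        · rw [h]; exact hx'C
    -- pick `y` outside
    obtain ⟨y, hy⟩ : ∃ y : α, y ≠ x ∧ y ≠ x' := by
      by_contra h
      push Not at h
      have : Fintype.card α ≤ 2 := by
        rw [← Finset.card_univ]
        calc (Finset.univ : Finset α).card ≤ ({x, x'} : Finset α).card := by
              apply Finset.card_le_card
              intro w _
              by_cases hw : w = x
              · simp [hw]
              · simp [h w hw]
          _ ≤ 2 := Finset.card_le_two
      omega
    obtain ⟨g, hg⟩ := exists_smul_eq H x y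
    set D : Set α := g • C with hD
    have hDblock : IsBlock H D := hCblock.translate g
    have hyD : y ∈ D := by rw [← hg]; exact Set.smul_mem_smul_set hxC
    have hy'D : g • x' ∈ D := Set.smul_mem_smul_set hx'C
    have hyy' : g • x' ≠ y := by
      rw [← hg]; intro h; exact hxx' (smul_left_cancel g h).symm
    have hDeq : ∀ w, w ∈ D ↔ w = y ∨ w = g • x' := by
      intro w
      rw [hD, Set.mem_smul_set_iff_inv_smul_mem, hCeq]
      constructor
      · rintro (h | h)
        · left; rw [← hg, ← h, smul_inv_smul]
        · right; rw [← h, smul_inv_smul]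
      · rintro (h | h)
        · left; rw [h, ← hg, inv_smul_smul]
        · right; rw [h, inv_smul_smul]
    have hdisj : Disjoint D C := by
      rcases (isBlock_iff_smul_eq_or_disjoint.mp hCblock) g with h | h
      · exfalso
        rw [← hD] at h
        have : y ∈ C := h ▸ hyD
        rw [hCeq] at this
        rcases this with h1 | h1
        · exact hy.1 h1
        · exact hy.2 h1
      · exact h
    have hy'x : g • x' ≠ x := fun h => Set.disjoint_left.mp hdisj hy'D (by rw [h]; exact hxC)
    have hy'x' : g • x' ≠ x' := fun h => Set.disjoint_left.mp hdisj hy'D (by rw [h]; exact hx'C)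
    -- pick `y''` outside `{x, x', y, g x'}`
    obtain ⟨y'', hy''⟩ : ∃ w : α, w ≠ x ∧ w ≠ x' ∧ w ≠ y ∧ w ≠ g • x' := by
      by_contra h
      push Not at h
      have : Fintype.card α ≤ 4 := by
        rw [← Finset.card_univ]
        calc (Finset.univ : Finset α).card ≤ ({x, x', y, g • x'} : Finset α).card := by
              apply Finset.card_le_card
              intro w _
              by_cases hw1 : w = x
              · simp [hw1]
              by_cases hw2 : w = x'
              · simp [hw2]
              by_cases hw3 : w = y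
              · simp [hw3]
              · simp [h w hw1 hw2 hw3]
          _ ≤ 4 := Finset.card_le_four
      omega
    have hσmem : swap (g • x') y'' ∈ H :=
      hstab _ (swap_apply_of_ne_of_ne hy'x.symm hy''.1.symm)
        (swap_apply_of_ne_of_ne hy'x'.symm hy''.2.1.symm)
    rcases (isBlock_iff_smul_eq_or_disjoint.mp hDblock) ⟨_, hσmem⟩ with h | h
    · have h1 : (⟨_, hσmem⟩ : H) • (g • x') ∈ D := by
        rw [← h]; exact Set.smul_mem_smul_set hy'D
      change swap (g • x') y'' (g • x') ∈ D at h1
      rw [swap_apply_left, hDeq] at h1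
      rcases h1 with h1 | h1
      · exact hy''.2.2.1 h1
      · exact hy''.2.2.2 h1
    · have h1 : (⟨_, hσmem⟩ : H) • y ∈ (⟨_, hσmem⟩ : H) • D := Set.smul_mem_smul_set hyD
      have h2 : (⟨_, hσmem⟩ : H) • y = y := by
        change swap (g • x') y'' y = y
        exact swap_apply_of_ne_of_ne hyy'.symm hy''.2.2.1.symm
      rw [h2] at h1
      exact Set.disjoint_left.mp h h1 hyD

end Cfsg.Agent.Helper8.HallSym
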