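import Cfsg.Agent.Helper8.HallSymD

/-!
# Hall subgroups of symmetric groups, part E: orbits, constituents, pairwise binomial condition
-/

set_option autoImplicit false
set_option linter.unusedSectionVars false

namespace Cfsg.Agent.Helper8.HallSym

open Equiv MulAction

variable {α : Type*} [Fintype α] [DecidableEq α] {π : Set ℕ}

/-- The orbit predicate. -/
def orbP (H : Subgroup (Perm α)) (x : α) : α → Prop := fun y => y ∈ MulAction.orbit H x

theorem orbP_self (H : Subgroup (Perm α)) (x : α) : orbP H x x := MulAction.mem_orbit_self x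

theorem inv_orbP (H : Subgroup (Perm α)) (x : α) : Inv H (orbP H x) := by
  intro g hg y
  change (⟨g, hg⟩ : H) • y ∈ MulAction.orbit H x ↔ y ∈ MulAction.orbit H x
  rw [← MulAction.orbit_eq_iff, ← MulAction.orbit_eq_iff, MulAction.orbit_smul]

theorem orbP_exists {H : Subgroup (Perm α)} {x y z : α} (hy : orbP H x y) (hz : orbP H x z) :
    ∃ g ∈ H, g y = z := by
  obtain ⟨g1, hg1⟩ := hy
  obtain ⟨g2, hg2⟩ := hz
  refine ⟨(g2 * g1⁻¹ : H), (g2 * g1⁻¹ : H).2, ?_⟩
  rw [← hg1, ← hg2]
  change (g2 * g1⁻¹) • (g1 • x) = g2 • x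
  rw [smul_smul, inv_mul_cancel_right]

/-- A point outside the orbit of `x` has an orbit disjoint from that of `x`. -/
theorem orbP_disjoint {H : Subgroup (Perm α)} {x y : α} (hxy : ¬ orbP H x y) :
    ∀ z, orbP H x z → ¬ orbP H y z := by
  intro z hz hz'
  apply hxy
  change y ∈ MulAction.orbit H x
  have h1 : MulAction.orbit H z = MulAction.orbit H x := MulAction.orbit_eq_iff.mpr hz
  have h2 : MulAction.orbit H z = MulAction.orbit H y := MulAction.orbit_eq_iff.mpr hz'
  rw [← h1, h2]
  exact MulAction.mem_orbit_self y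

/-- The constituent on an orbit is transitive. -/
theorem res_orbP_trans (H : Subgroup (Perm α)) (x : α) :
    IsPretransitive (res H (orbP H x) (inv_orbP H x)) {y // orbP H x y} := by
  constructor
  intro y z
  obtain ⟨g, hg, hgy⟩ := orbP_exists y.2 z.2
  refine ⟨⟨resHom H (orbP H x) (inv_orbP H x) ⟨g, hg⟩, ⟨_, rfl⟩⟩, ?_⟩
  apply Subtype.ext
  exact hgy

/-- `Nat.card` version of the restriction lemma. -/
theorem hall_res' {H : Subgroup (Perm α)} (hH : Cfsg.IsPiHall π H) (P : α → Prop) (hP : Inv H P) :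
    Cfsg.IsPiHall π (res H P hP) ∧
      ∀ p : ℕ, p.Prime → p ∈ π → ¬ p ∣ (Nat.card α).choose (Nat.card {x // P x}) := by
  classical
  have := hall_res hH P hP
  rw [Nat.card_eq_fintype_card, Nat.card_eq_fintype_card]
  exact this

theorem inv_or {H : Subgroup (Perm α)} {P Q : α → Prop} (hP : Inv H P) (hQ : Inv H Q) :
    Inv H (fun x => P x ∨ Q x) :=
  fun g hg x => or_congr (hP g hg x) (hQ g hg x)

theorem card_subtype_or' (P Q : α → Prop) (hd : ∀ x, P x → ¬ Q x) :
    Nat.card {x // P x ∨ Q x} = Nat.card {x // P x} + Nat.card {x // Q x} := by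
  classical
  rw [Nat.card_eq_fintype_card, Nat.card_eq_fintype_card, Nat.card_eq_fintype_card]
  exact Fintype.card_subtype_or_disjoint P Q (by
    rw [Pi.disjoint_iff] 
    intro x
    rw [Prop.disjoint_iff]
    intro h
    exact hd x h.1 h.2)

/-- **Pairwise binomial condition.** For two disjoint invariant subsets of a Hall `π`-subgroup of
`Perm α`, the binomial coefficient is prime to `π`. -/
theorem hall_two_inv {H : Subgroup (Perm α)} (hH : Cfsg.IsPiHall π H) (P Q : α → Prop)
    (hP : Inv H P) (hQ : Inv H Q) (hd : ∀ x, P x → ¬ Q x) {p : ℕ} (hp : p.Prime) (hpπ : p ∈ π) :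
    ¬ p ∣ (Nat.card {x // P x} + Nat.card {x // Q x}).choose (Nat.card {x // P x}) := by
  classical
  have hR := inv_or hP hQ
  have h1 := (hall_res' hH _ hR).1
  have hP' : Inv (res H _ hR) (fun z : {x // P x ∨ Q x} => P z.1) := by
    rintro t ⟨g, rfl⟩ z
    exact hP g g.2 z.1
  have h2 := (hall_res' h1 _ hP').2 p hp hpπ
  rw [card_subtype_or' P Q hd] at h2
  have e : {z : {x // P x ∨ Q x} // P z.1} ≃ {x // P x} :=
    (Equiv.subtypeSubtypeEquivSubtypeInter (fun x => P x ∨ Q x) P).trans
      (Equiv.subtypeEquivRight (fun x => ⟨fun h => h.2, fun h => ⟨Or.inl h, h⟩⟩))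
  rw [Nat.card_congr e] at h2
  exact h2

/-- **Cauchy for constituents.** A prime dividing the order of a permutation group divides the order
of one of its transitive constituents. -/
theorem exists_orbit_dvd (H : Subgroup (Perm α)) {p : ℕ} (hp : p.Prime) (hd : p ∣ Nat.card H) :
    ∃ x, p ∣ Nat.card (res H (orbP H x) (inv_orbP H x)) := by
  have : Fact p.Prime := ⟨hp⟩
  obtain ⟨g, hg⟩ := exists_prime_orderOf_dvd_card' p hd
  have hg1 : g ≠ 1 := by
    intro h
    rw [h, orderOf_one] at hg
    exact hp.one_lt.ne hg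
  have : ∃ x, (g : Perm α) x ≠ x := by
    by_contra hcon
    push Not at hcon
    apply hg1
    apply Subtype.ext
    ext x
    exact hcon x
  obtain ⟨x, hx⟩ := this
  refine ⟨x, ?_⟩
  set t := resHom H (orbP H x) (inv_orbP H x) g with ht
  have htm : t ∈ res H (orbP H x) (inv_orbP H x) := ⟨g, rfl⟩
  have htp : t ^ p = 1 := by
    rw [ht, ← map_pow, ← hg, pow_orderOf_eq_one, map_one]
  have ht1 : t ≠ 1 := by
    intro h
    apply hx
    have := congrArg (fun z : Perm {y // orbP H x y} => ((z ⟨x, orbP_self H x⟩ : {y // orbP H x y}) : α)) h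
    simpa [ht] using this
  have hord : orderOf t = p := orderOf_eq_prime htp ht1
  rw [← hord]
  exact Subgroup.orderOf_dvd_natCard _ htm

theorem card_stabilizer_perm (x : α) :
    Nat.card (stabilizer (Perm α) x) = (Fintype.card α - 1).factorial := by
  have h1 : (stabilizer (Perm α) x).index = Nat.card α := index_stabilizer_of_transitive (Perm α) x
  have h2 := Subgroup.card_mul_index (stabilizer (Perm α) x)
  rw [h1, card_perm', Nat.card_eq_fintype_card (α := α)] at h2
  have hpos : 0 < Fintype.card α := Fintype.card_pos_iff.mpr ⟨x⟩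
  obtain ⟨m, hm⟩ : ∃ m, Fintype.card α = m + 1 := ⟨Fintype.card α - 1, by omega⟩
  rw [hm] at h2 ⊢
  rw [Nat.factorial_succ, mul_comm] at h2
  have h3 := Nat.eq_of_mul_eq_mul_left (Nat.succ_pos m) h2
  rw [h3]
  simp

/-- A Hall subgroup fixing a point, when all primes below the degree lie in `π`, is the full point
stabiliser. -/
theorem eq_stab_of_fixed {H : Subgroup (Perm α)} (hH : Cfsg.IsPiHall π H) (x : α)
    (hfix : ∀ g ∈ H, g x = x) (hπ : ∀ q : ℕ, q.Prime → q < Fintype.card α → q ∈ π) :
    ∀ σ : Perm α, σ ∈ H ↔ σ x = x := by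
  have hle : H ≤ stabilizer (Perm α) x := fun g hg => hfix g hg
  have h1 : H.relIndex (stabilizer (Perm α) x) ∣ H.index := Subgroup.relIndex_dvd_index_of_le hle
  have h2 : H.relIndex (stabilizer (Perm α) x) ∣ Nat.card (stabilizer (Perm α) x) :=
    Subgroup.relIndex_dvd_card _ _
  rw [card_stabilizer_perm] at h2
  have h3 : H.relIndex (stabilizer (Perm α) x) = 1 := by
    by_contra hne
    obtain ⟨p, hp, hpd⟩ := Nat.exists_prime_and_dvd hne
    have hp1 : p ∣ (Fintype.card α - 1).factorial := hpd.trans h2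
    have hp2 : p ≤ Fintype.card α - 1 := (Nat.Prime.dvd_factorial hp).mp hp1
    have hpos : 0 < Fintype.card α := Fintype.card_pos_iff.mpr ⟨x⟩
    exact hH.2 p hp (hπ p hp (by omega)) (hpd.trans h1)
  have h4 : stabilizer (Perm α) x ≤ H := Subgroup.relIndex_eq_one.mp h3
  intro σ
  exact ⟨fun h => hfix σ h, fun h => h4 h⟩

end Cfsg.Agent.Helper8.HallSym
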