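import Cfsg.Agent.Helper8.HallSymNT3

/-!
# Hall subgroups of symmetric groups, part F: numerics of orbit sizes
-/

set_option autoImplicit false

namespace Cfsg.Agent.Helper8.HallSym

/-- The admissible pairs of orbit sizes. -/
def PairT (r a b : ℕ) : Prop :=
  (r = 5 ∧ ((a = 4 ∧ b = 3) ∨ (a = 3 ∧ b = 4))) ∨ (a + 1 = r ∧ b = 1) ∨ (a = 1 ∧ b + 1 = r)

theorem num_pair_le {r a b : ℕ} (hr5 : 5 ≤ r) (hb : 1 ≤ b) (hba : b ≤ a)
    (ha' : a < r ∨ (a = 8 ∧ r = 5)) (hb' : b < r ∨ (b = 8 ∧ r = 5))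
    (h : ∀ p : ℕ, p.Prime → p < r → ¬ p ∣ (a + b).choose a) :
    (r = 5 ∧ a = 4 ∧ b = 3) ∨ (a + 1 = r ∧ b = 1) := by
  rcases ha' with ha' | ⟨ha8, hr⟩
  · rcases Nat.lt_or_ge b 2 with hb2 | hb2
    · -- b = 1
      have hb1 : b = 1 := by omega
      subst hb1
      right
      refine ⟨?_, rfl⟩
      by_contra hne
      have hlt : a + 1 < r := by omega
      have h2 : a + 1 ≠ 1 := by omega
      obtain ⟨p, hp, hpd⟩ := Nat.exists_prime_and_dvd h2
      have hple : p ≤ a + 1 := Nat.le_of_dvd (by omega) hpd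
      apply h p hp (by omega)
      rw [Nat.choose_symm_add, Nat.choose_one_right]
      exact hpd
    · left
      have h' : ∀ p : ℕ, p.Prime → p ≤ a → ¬ p ∣ (a + b).choose b := by
        intro p hp hpa
        rw [← Nat.choose_symm_add]
        exact h p hp (by omega)
      obtain ⟨h4, h3⟩ := weak_ecklund hb2 hba h'
      subst h4 h3
      refine ⟨?_, rfl, rfl⟩
      by_contra hne
      have : 5 < r := by omega
      exact h 5 (by norm_num) this (by decide)
  · subst ha8 hr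
    exfalso
    have hb5 : b < 5 ∨ b = 8 := by omega
    rcases hb5 with hb5 | hb5
    · interval_cases b
      · exact h 3 (by norm_num) (by norm_num) (by decide)
      · exact h 3 (by norm_num) (by norm_num) (by decide)
      · exact h 3 (by norm_num) (by norm_num) (by decide)
      · exact h 3 (by norm_num) (by norm_num) (by decide)
    · subst hb5
      exact h 2 (by norm_num) (by norm_num) (by decide)

theorem num_pair {r a b : ℕ} (hr5 : 5 ≤ r) (ha : 1 ≤ a) (hb : 1 ≤ b)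
    (ha' : a < r ∨ (a = 8 ∧ r = 5)) (hb' : b < r ∨ (b = 8 ∧ r = 5))
    (h : ∀ p : ℕ, p.Prime → p < r → ¬ p ∣ (a + b).choose a) : PairT r a b := by
  rcases Nat.le_total b a with hba | hab
  · rcases num_pair_le hr5 hb hba ha' hb' h with ⟨h1, h2, h3⟩ | ⟨h1, h2⟩
    · exact Or.inl ⟨h1, Or.inl ⟨h2, h3⟩⟩
    · exact Or.inr (Or.inl ⟨h1, h2⟩)
  · have h' : ∀ p : ℕ, p.Prime → p < r → ¬ p ∣ (b + a).choose b := by
      intro p hp hpr
      rw [Nat.choose_symm_add, Nat.add_comm]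
      exact h p hp hpr
    rcases num_pair_le hr5 ha hab hb' ha' h' with ⟨h1, h2, h3⟩ | ⟨h1, h2⟩
    · exact Or.inl ⟨h1, Or.inr ⟨h3, h2⟩⟩
    · exact Or.inr (Or.inr ⟨h2, h1⟩)

theorem num_triple {r a b c : ℕ} (hr5 : 5 ≤ r) (hab : PairT r a b) (hac : PairT r a c)
    (hbc : PairT r b c) : False := by
  unfold PairT at hab hac hbc
  omega

end Cfsg.Agent.Helper8.HallSym
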