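import Cfsg.Agent.Helper8.HallSymE
import Cfsg.Agent.Helper8.HallSymF

/-!
# Hall subgroups of symmetric groups, part G: the types of Hall subgroups
-/

set_option autoImplicit false
set_option linter.unusedSectionVars false

namespace Cfsg.Agent.Helper8.HallSym

open Equiv MulAction

universe u

variable {α : Type u} [Fintype α] [DecidableEq α] {π : Set ℕ}

/-- The possible types of a Hall `π`-subgroup of a finite symmetric group. -/
inductive HType (π : Set ℕ) (H : Subgroup (Perm α)) : Prop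
  | top : H = ⊤ → HType π H
  | pgroup (p k : ℕ) : p.Prime → Nat.card H = p ^ k → HType π H
  | point (x : α) : (Nat.card α).Prime → (∀ σ : Perm α, σ ∈ H ↔ σ x = x) →
      (∀ q : ℕ, q.Prime → q ≤ Nat.card α → (q ∈ π ↔ q < Nat.card α)) → HType π H
  | seven (P : α → Prop) : Nat.card α = 7 → Nat.card H = 144 → Inv H P → Nat.card {x // P x} = 4 →
      (∀ q : ℕ, q.Prime → q ≤ 7 → (q ∈ π ↔ q = 2 ∨ q = 3)) → HType π H
  | eight : Nat.card α = 8 → Nat.card H = 1152 → IsPretransitive H α →
      (∀ q : ℕ, q.Prime → q ≤ 8 → (q ∈ π ↔ q = 2 ∨ q = 3)) → HType π H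

/-- The order of a Hall subgroup from a factorisation of the group order. -/
theorem card_of_hall_split {G : Type*} [Group G] [Finite G] {H : Subgroup G}
    (hH : Cfsg.IsPiHall π H) {a b : ℕ} (hab : Nat.card G = a * b)
    (ha : ∀ p : ℕ, p.Prime → p ∣ a → p ∈ π) (hb : ∀ p : ℕ, p.Prime → p ∣ b → p ∉ π) :
    Nat.card H = a := by
  have h0 : Nat.card G ≠ 0 := Nat.card_pos.ne'
  have ha0 : a ≠ 0 := by
    rintro rfl
    simp at hab
    exact h0 hab
  have hb0 : b ≠ 0 := by
    rintro rfl
    simp at hab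
    exact h0 hab
  have h1 := Subgroup.card_mul_index H
  have hc1 : (Nat.card H).Coprime b :=
    Nat.coprime_of_dvd fun p hp h1 h2 => hb p hp h2 (hH.1 p hp h1)
  have hc2 : H.index.Coprime a :=
    Nat.coprime_of_dvd fun p hp h1 h2 => hH.2 p hp (ha p hp h2) h1
  have hd1 : Nat.card H ∣ a := by
    apply hc1.dvd_of_dvd_mul_right
    rw [← hab, ← h1]
    exact Dvd.intro _ rfl
  have hd2 : H.index ∣ b := by
    apply hc2.dvd_of_dvd_mul_left
    rw [← hab, ← h1]
    exact Dvd.intro_left _ rfl
  have hl1 := Nat.le_of_dvd (Nat.pos_of_ne_zero ha0) hd1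
  have hl2 := Nat.le_of_dvd (Nat.pos_of_ne_zero hb0) hd2
  rw [hab] at h1
  by_contra hne
  have hlt : Nat.card H < a := lt_of_le_of_ne hl1 hne
  have : Nat.card H * H.index < a * b := by
    calc Nat.card H * H.index ≤ Nat.card H * b := Nat.mul_le_mul_left _ hl2
      _ < a * b := Nat.mul_lt_mul_of_pos_right hlt (Nat.pos_of_ne_zero hb0)
  omega

/-- In a Hall subgroup of prime power order `p ^ k` of `Perm α`, the only prime of `π` up to
the degree is `p`. -/
theorem prime_eq_of_pgroup {H : Subgroup (Perm α)} (hH : Cfsg.IsPiHall π H) {p k : ℕ}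
    (hp : p.Prime) (hk : Nat.card H = p ^ k) {q : ℕ} (hq : q.Prime) (hqπ : q ∈ π)
    (hqn : q ≤ Fintype.card α) : q = p := by
  have h1 : q ∣ Nat.card (Perm α) := by
    rw [card_perm']
    exact (Nat.Prime.dvd_factorial hq).mpr hqn
  have h2 := dvd_card_of_hall hH hq hqπ h1
  rw [hk] at h2
  exact (Nat.prime_dvd_prime_iff_eq hq hp).mp (hq.dvd_of_dvd_pow h2)

/-- Every prime up to the degree lies in `π` when `⊤` is a Hall `π`-subgroup. -/
theorem mem_of_top (hH : Cfsg.IsPiHall π (⊤ : Subgroup (Perm α))) {q : ℕ} (hq : q.Prime)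
    (hqn : q ≤ Fintype.card α) : q ∈ π := by
  apply hH.1 q hq
  rw [Subgroup.card_top, card_perm']
  exact (Nat.Prime.dvd_factorial hq).mpr hqn

/-- Analysis of the type of a transitive Hall subgroup, relative to the least prime `r ∉ π`. -/
theorem trans_type {T : Subgroup (Perm α)} (hT : Cfsg.IsPiHall π T) [IsPretransitive T α]
    (ht : HType π T) {r : ℕ} (hr : r.Prime) (hrπ : r ∉ π)
    (hmin : ∀ q : ℕ, q.Prime → q < r → q ∈ π) :
    (∃ p k : ℕ, p.Prime ∧ Nat.card T = p ^ k) ∨ Fintype.card α < r ∨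
      (Fintype.card α = 8 ∧ r = 5) := by
  cases ht with
  | top h =>
    right; left
    by_contra hcon
    push Not at hcon
    subst h
    exact hrπ (mem_of_top hT hr hcon)
  | pgroup p k hp hk => exact Or.inl ⟨p, k, hp, hk⟩
  | point x hprime hmem hπ =>
    exfalso
    have hsub : ∀ y : α, y = x := by
      intro y
      obtain ⟨g, hg⟩ := exists_smul_eq T x y
      rw [← hg]
      exact (hmem g).mp g.2
    have : Nat.card α ≤ 1 := by
      rw [Nat.card_eq_fintype_card, Fintype.card_le_one_iff]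
      intro a b
      rw [hsub a, hsub b]
    have := hprime.two_le
    omega
  | seven P hc hk hP hP4 hπ =>
    exfalso
    rw [Nat.card_eq_fintype_card] at hc
    have hne : Nonempty α := Fintype.card_pos_iff.mp (by omega)
    obtain ⟨x⟩ := hne
    have := card_eq_card_mul_pt T x
    rw [hk, hc] at this
    omega
  | eight hc hk htr hπ =>
    right; right
    rw [Nat.card_eq_fintype_card] at hc
    refine ⟨hc, ?_⟩
    have h2 : (2 : ℕ) ∈ π := (hπ 2 (by norm_num) (by norm_num)).mpr (Or.inl rfl)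
    have h3 : (3 : ℕ) ∈ π := (hπ 3 (by norm_num) (by norm_num)).mpr (Or.inr rfl)
    have h5 : (5 : ℕ) ∉ π := fun h => by
      have := (hπ 5 (by norm_num) (by norm_num)).mp h
      omega
    have hr2 : r ≠ 2 := fun h => hrπ (h ▸ h2)
    have hr3 : r ≠ 3 := fun h => hrπ (h ▸ h3)
    have hr5 : ¬ 5 < r := fun h => h5 (hmin 5 (by norm_num) h)
    have hr4 : r ≠ 4 := fun h => by
      rw [h] at hr
      exact absurd hr (by norm_num)
    have := hr.two_le
    omega

end Cfsg.Agent.Helper8.HallSym
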