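import Cfsg.Agent.Helper8.HallSymG

/-!
# Hall subgroups of symmetric groups, part H: the transitive case
-/

set_option autoImplicit false
set_option linter.unusedSectionVars false

namespace Cfsg.Agent.Helper8.HallSym

open Equiv MulAction

universe u

variable {α : Type u} [Fintype α] [DecidableEq α] {π : Set ℕ}

theorem top_of_prim_swap {H : Subgroup (Perm α)} (hH : Cfsg.IsPiHall π H)
    (hprim : IsPreprimitive H α) (h2 : 2 ∈ π) (hn : 2 ≤ Fintype.card α) : H = ⊤ := by
  obtain ⟨g, hg, hs⟩ := exists_swap_mem hH h2 hn
  exact Perm.subgroup_eq_top_of_isPreprimitive_of_isSwap_mem hprim g hs hg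

/-- **The transitive case**: the type of a transitive Hall subgroup from the type of its point
stabiliser. -/
theorem classify_trans {H : Subgroup (Perm α)} (hH : Cfsg.IsPiHall π H) [IsPretransitive H α]
    (x : α) (hK : HType π (pt H x)) {p1 p2 : ℕ} (hp1 : p1.Prime) (hp2 : p2.Prime) (h12 : p1 ≠ p2)
    (hp1π : p1 ∈ π) (hp2π : p2 ∈ π) (hp1n : p1 ≤ Fintype.card α) (hp2n : p2 ≤ Fintype.card α) :
    HType π H := by
  have hcard := card_eq_card_mul_pt H x
  have hKhall := hall_pt hH x
  have hsub := card_subtype_ne x
  have hn2 : 2 ≤ Fintype.card α := le_trans hp1.two_le hp1n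
  cases hK with
  | top h =>
    apply HType.top
    apply Subgroup.eq_top_of_card_eq
    rw [hcard, h, Subgroup.card_top, card_perm', card_perm', hsub]
    obtain ⟨m, hm⟩ : ∃ m, Fintype.card α = m + 1 := ⟨Fintype.card α - 1, by omega⟩
    rw [hm]
    simp [Nat.factorial_succ]
  | pgroup p k hp hk =>
    have hq : ∀ q : ℕ, q.Prime → q ∈ π → q ≤ Fintype.card α - 1 → q = p :=
      fun q hq hqπ hqn => prime_eq_of_pgroup hKhall hp hk hq hqπ (by rw [hsub]; exact hqn)
    have key : (Fintype.card α).Prime ∧ p ∈ π ∧ p < Fintype.card α := by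
      by_cases h1 : p1 ≤ Fintype.card α - 1
      · have e1 := hq p1 hp1 hp1π h1
        by_cases h2 : p2 ≤ Fintype.card α - 1
        · exact absurd (e1.trans (hq p2 hp2 hp2π h2).symm) h12
        · have h3 : p2 = Fintype.card α := by omega
          refine ⟨h3 ▸ hp2, e1 ▸ hp1π, ?_⟩
          omega
      · have h3 : p1 = Fintype.card α := by omega
        have h2 : p2 ≤ Fintype.card α - 1 := by omega
        have e2 := hq p2 hp2 hp2π h2
        refine ⟨h3 ▸ hp1, e2 ▸ hp2π, ?_⟩
        omega
    obtain ⟨hnprime, hpπ, hpn⟩ := key
    have hprim : IsPreprimitive H α :=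
      IsPreprimitive.of_prime_card (by rw [Nat.card_eq_fintype_card]; exact hnprime)
    by_cases hp2' : p = 2
    · exact HType.top (top_of_prim_swap hH hprim (hp2' ▸ hpπ) hn2)
    · exfalso
      obtain ⟨g, hg, hc, hs⟩ := exists_cycle_mem hH hp hpπ hpn.le
      have h2t := two_trans_of_cycle hprim hg hc (by rw [hs]; exact hpn)
      have hdvd := two_trans_dvd h2t hn2
      rw [hcard, hk] at hdvd
      have hd2 : Fintype.card α - 1 ∣ p ^ k := Nat.dvd_of_mul_dvd_mul_left (by omega) hdvd
      have hodd : 2 ∣ Fintype.card α - 1 := by
        rcases hnprime.eq_two_or_odd with h | h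
        · exfalso
          have := hp.two_le
          omega
        · omega
      have h2d : 2 ∣ p ^ k := hodd.trans hd2
      have := (Nat.prime_dvd_prime_iff_eq Nat.prime_two hp).mp (Nat.prime_two.dvd_of_dvd_pow h2d)
      exact hp2' this.symm
  | point x' hprime hmem hπ =>
    rw [Nat.card_eq_fintype_card, hsub] at hprime hπ
    have hq : ∀ q : ℕ, q.Prime → q ∈ π → q ≤ Fintype.card α →
        q < Fintype.card α - 1 ∨ q = Fintype.card α := by
      intro q hq hqπ hqn
      by_cases h : q ≤ Fintype.card α - 1
      · exact Or.inl ((hπ q hq h).mp hqπ)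
      · right; omega
    have h5 : 5 ≤ Fintype.card α - 1 := by
      by_contra hlt
      have hcases : Fintype.card α - 1 = 2 ∨ Fintype.card α - 1 = 3 := by
        have := hprime.two_le
        have h4 : Fintype.card α - 1 ≠ 4 := fun h => by
          rw [h] at hprime
          exact absurd hprime (by norm_num)
        omega
      rcases hcases with h | h
      · have e1 : p1 = 3 := by
          rcases hq p1 hp1 hp1π hp1n with h' | h'
          · have := hp1.two_le
            omega
          · omega
        have e2 : p2 = 3 := by
          rcases hq p2 hp2 hp2π hp2n with h' | h'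
          · have := hp2.two_le
            omega
          · omega
        exact h12 (e1.trans e2.symm)
      · have e1 : p1 = 2 := by
          rcases hq p1 hp1 hp1π hp1n with h' | h'
          · have := hp1.two_le
            omega
          · exfalso
            have h4 : p1 = 4 := by omega
            rw [h4] at hp1
            exact absurd hp1 (by norm_num)
        have e2 : p2 = 2 := by
          rcases hq p2 hp2 hp2π hp2n with h' | h'
          · have := hp2.two_le
            omega
          · exfalso
            have h4 : p2 = 4 := by omega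
            rw [h4] at hp2
            exact absurd hp2 (by norm_num)
        exact h12 (e1.trans e2.symm)
    have h2π : (2 : ℕ) ∈ π := (hπ 2 Nat.prime_two (by omega)).mpr (by omega)
    have hstab : ∀ σ : Perm α, σ x = x → σ (x' : α) = x' → σ ∈ H := by
      intro σ hσx hσx'
      have h₁ : ∀ y, (σ y ≠ x) ↔ (y ≠ x) := fun y =>
        not_congr ⟨fun h => by apply σ.injective; rw [h, hσx], fun h => by rw [h, hσx]⟩
      have h₂ : ∀ y, σ y ≠ y → y ≠ x := fun y hy hyx => hy (by rw [hyx, hσx])
      have hτ : σ.subtypePerm h₁ ∈ pt H x := (hmem _).mpr (by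
        apply Subtype.ext
        simp [hσx'])
      have := mem_pt.mp hτ
      rwa [Perm.ofSubtype_subtypePerm h₁ h₂] at this
    have hprim := prim_of_two_point_stab (H := H) (by omega : 5 ≤ Fintype.card α) x'.2.symm hstab
    exact HType.top (top_of_prim_swap hH hprim h2π hn2)
  | seven P hc hk' hP hP4 hπ =>
    rw [Nat.card_eq_fintype_card, hsub] at hc
    have h8 : Fintype.card α = 8 := by omega
    refine HType.eight (by rw [Nat.card_eq_fintype_card]; exact h8) (by rw [hcard, hk', h8])
      inferInstance ?_
    intro q hq hq8
    have : q ≤ 7 := by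
      rcases Nat.lt_or_ge q 8 with h | h
      · omega
      · exfalso
        have h8' : q = 8 := by omega
        rw [h8'] at hq
        exact absurd hq (by norm_num)
    exact hπ q hq this
  | eight hc hk' htr hπ =>
    have h2t := two_trans_of_pt x htr
    have hprim := isPreprimitive_of_is_two_pretransitive h2t
    have h2π : (2 : ℕ) ∈ π := (hπ 2 Nat.prime_two (by norm_num)).mpr (Or.inl rfl)
    exact HType.top (top_of_prim_swap hH hprim h2π hn2)

end Cfsg.Agent.Helper8.HallSym
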