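import Cfsg.Agent.Helper8.HallSymH

/-!
# Hall subgroups of symmetric groups, part I: the intransitive case
-/

set_option autoImplicit false
set_option linter.unusedSectionVars false

namespace Cfsg.Agent.Helper8.HallSym

open Equiv MulAction

universe u

variable {α : Type u} [Fintype α] [DecidableEq α] {π : Set ℕ}

theorem exists_not_orbP_of_not_trans {H : Subgroup (Perm α)} (hnt : ¬ IsPretransitive H α)
    (x : α) : ∃ y, ¬ orbP H x y := by
  by_contra hcon
  push Not at hcon
  apply hnt
  constructor
  intro a b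
  obtain ⟨g, hg, hgab⟩ := orbP_exists (hcon a) (hcon b)
  exact ⟨⟨g, hg⟩, hgab⟩

theorem card_orbP_lt {H : Subgroup (Perm α)} (hnt : ¬ IsPretransitive H α) (x : α) :
    Nat.card {y // orbP H x y} < Fintype.card α := by
  classical
  obtain ⟨y, hy⟩ := exists_not_orbP_of_not_trans hnt x
  rw [Nat.card_eq_fintype_card]
  exact Fintype.card_subtype_lt hy

theorem card_orbP_pos (H : Subgroup (Perm α)) (x : α) : 1 ≤ Nat.card {y // orbP H x y} := by
  have : Nonempty {y // orbP H x y} := ⟨⟨x, orbP_self H x⟩⟩
  exact Nat.card_pos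

theorem fixed_of_card_orbP_one {H : Subgroup (Perm α)} {y : α}
    (h : Nat.card {z // orbP H y z} = 1) : ∀ g ∈ H, g y = y := by
  intro g hg
  have h1 : orbP H y (g y) := (inv_orbP H y g hg y).mpr (orbP_self H y)
  obtain ⟨hs, _⟩ := Nat.card_eq_one_iff_unique.mp h
  have := hs.elim ⟨g y, h1⟩ ⟨y, orbP_self H y⟩
  exact congrArg Subtype.val this

theorem card_res_dvd_factorial' (H : Subgroup (Perm α)) (P : α → Prop) (hP : Inv H P) :
    Nat.card (res H P hP) ∣ (Nat.card {x // P x}).factorial := by
  rw [← Nat.card_perm]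
  exact Subgroup.card_subgroup_dvd_card _

theorem point_of_fixed {H : Subgroup (Perm α)} (hH : Cfsg.IsPiHall π H) {r : ℕ} (hr : r.Prime)
    (hrπ : r ∉ π) (hmin : ∀ q : ℕ, q.Prime → q < r → q ∈ π) (hnr : Fintype.card α = r) {y : α}
    (h : Nat.card {z // orbP H y z} = 1) : HType π H := by
  have hfix := fixed_of_card_orbP_one h
  refine HType.point y (by rw [Nat.card_eq_fintype_card, hnr]; exact hr)
    (eq_stab_of_fixed hH y hfix (fun q hq hqn => hmin q hq (by omega))) ?_
  intro q hq hqn
  rw [Nat.card_eq_fintype_card, hnr] at hqn ⊢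
  constructor
  · intro hqπ
    by_contra hcon
    have : q = r := by omega
    exact hrπ (this ▸ hqπ)
  · intro h
    exact hmin q hq h

/-- **The intransitive case.** -/
theorem classify_intrans {H : Subgroup (Perm α)} (hH : Cfsg.IsPiHall π H)
    (hnt : ¬ IsPretransitive H α)
    (IH : ∀ x, HType π (res H (orbP H x) (inv_orbP H x)))
    {r : ℕ} (hr : r.Prime) (hrπ : r ∉ π) (hmin : ∀ q : ℕ, q.Prime → q < r → q ∈ π)
    {p1 p2 : ℕ} (hp1 : p1.Prime) (hp2 : p2.Prime) (h12 : p1 ≠ p2)
    (hp1π : p1 ∈ π) (hp2π : p2 ∈ π) (hp1n : p1 ≤ Fintype.card α) (hp2n : p2 ≤ Fintype.card α) :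
    HType π H := by
  have hT : ∀ x, Cfsg.IsPiHall π (res H (orbP H x) (inv_orbP H x)) :=
    fun x => (hall_res' hH _ _).1
  have htt : ∀ x, (∃ p k : ℕ, p.Prime ∧ Nat.card (res H (orbP H x) (inv_orbP H x)) = p ^ k) ∨
      Nat.card {y // orbP H x y} < r ∨ (Nat.card {y // orbP H x y} = 8 ∧ r = 5) := by
    intro x
    classical
    have := res_orbP_trans H x
    have h := trans_type (hT x) (IH x) hr hrπ hmin
    rwa [← Nat.card_eq_fintype_card] at h
  have hfact : ∀ x, Nat.card (res H (orbP H x) (inv_orbP H x)) ∣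
      (Nat.card {y // orbP H x y}).factorial := fun x => card_res_dvd_factorial' H _ _
  rcases Nat.lt_or_ge r 5 with hr5 | hr5
  · -- the least prime outside `π` is `2` or `3`
    exfalso
    have hr3 : r ≤ 3 := by
      have h4 : r ≠ 4 := fun h => by
        rw [h] at hr
        exact absurd hr (by norm_num)
      omega
    have hpp : ∀ x, ∃ p k : ℕ, p.Prime ∧
        Nat.card (res H (orbP H x) (inv_orbP H x)) = p ^ k := by
      intro x
      rcases htt x with h | h | ⟨_, h⟩
      · exact h
      · have hm2 : Nat.card {y // orbP H x y} = 0 ∨ Nat.card {y // orbP H x y} = 1 ∨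
            Nat.card {y // orbP H x y} = 2 := by omega
        have h2 : Nat.card (res H (orbP H x) (inv_orbP H x)) ∣ 2 := by
          refine (hfact x).trans ?_
          rcases hm2 with h | h | h <;> rw [h] <;> decide
        rcases (Nat.dvd_prime Nat.prime_two).mp h2 with h | h
        · exact ⟨2, 0, Nat.prime_two, by rw [h]; rfl⟩
        · exact ⟨2, 1, Nat.prime_two, by rw [h]; rfl⟩
      · omega
    have key : ∀ p : ℕ, p.Prime → p ∈ π → p ≤ Fintype.card α →
        ∃ x, p ≤ Nat.card {y // orbP H x y} ∧
          ∀ q : ℕ, q.Prime → q ∈ π → q ≤ Nat.card {y // orbP H x y} → q = p := by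
      intro p hp hpπ hpn
      have h1 : p ∣ Nat.card H := dvd_card_of_hall hH hp hpπ (by
        rw [card_perm']
        exact (Nat.Prime.dvd_factorial hp).mpr hpn)
      obtain ⟨x, hx⟩ := exists_orbit_dvd H hp h1
      obtain ⟨p', k, hp', hk⟩ := hpp x
      have e : p = p' := by
        rw [hk] at hx
        exact (Nat.prime_dvd_prime_iff_eq hp hp').mp (hp.dvd_of_dvd_pow hx)
      subst e
      refine ⟨x, (Nat.Prime.dvd_factorial hp).mp (hx.trans (hfact x)), ?_⟩
      intro q hq hqπ hqm
      classical
      exact prime_eq_of_pgroup (hT x) hp hk hq hqπ (by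
        rw [← Nat.card_eq_fintype_card]
        exact hqm)
    obtain ⟨x1, hx1, hx1'⟩ := key p1 hp1 hp1π hp1n
    obtain ⟨x2, hx2, hx2'⟩ := key p2 hp2 hp2π hp2n
    rcases Nat.lt_or_gt_of_ne h12 with h | h
    · exact h12 (hx2' p1 hp1 hp1π (by omega))
    · exact h12 (hx1' p2 hp2 hp2π (by omega)).symm
  · -- the least prime outside `π` is at least `5`
    have h2π : (2 : ℕ) ∈ π := hmin 2 Nat.prime_two (by omega)
    have h3π : (3 : ℕ) ∈ π := hmin 3 Nat.prime_three (by omega)
    have hm : ∀ x, Nat.card {y // orbP H x y} < r ∨ (Nat.card {y // orbP H x y} = 8 ∧ r = 5) := by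
      intro x
      rcases htt x with ⟨p, k, hp, hk⟩ | h | h
      · left
        by_contra hcon
        classical
        have e2 := prime_eq_of_pgroup (hT x) hp hk Nat.prime_two h2π (by
          rw [← Nat.card_eq_fintype_card]
          omega)
        have e3 := prime_eq_of_pgroup (hT x) hp hk Nat.prime_three h3π (by
          rw [← Nat.card_eq_fintype_card]
          omega)
        omega
      · exact Or.inl h
      · exact Or.inr h
    have hne : Nonempty α := Fintype.card_pos_iff.mp (by
      have := hp1.two_le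
      omega)
    obtain ⟨x⟩ := hne
    obtain ⟨y, hxy⟩ := exists_not_orbP_of_not_trans hnt x
    have hpair : ∀ x y, ¬ orbP H x y →
        PairT r (Nat.card {z // orbP H x z}) (Nat.card {z // orbP H y z}) := by
      intro x y hxy
      apply num_pair hr5 (card_orbP_pos H x) (card_orbP_pos H y) (hm x) (hm y)
      intro p hp hpr
      exact hall_two_inv hH _ _ (inv_orbP H x) (inv_orbP H y) (orbP_disjoint hxy) hp
        (hmin p hp hpr)
    have hxy' := hpair x y hxy
    have hall : ∀ z, orbP H x z ∨ orbP H y z := by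
      intro z
      by_contra hcon
      push Not at hcon
      exact num_triple hr5 hxy' (hpair x z hcon.1) (hpair y z hcon.2)
    have hn : Fintype.card α = Nat.card {z // orbP H x z} + Nat.card {z // orbP H y z} := by
      rw [← card_subtype_or' _ _ (orbP_disjoint hxy), ← Nat.card_eq_fintype_card]
      exact (Nat.card_congr (Equiv.subtypeUnivEquiv hall)).symm
    have hbin : ∀ p : ℕ, p.Prime → p ∈ π →
        ¬ p ∣ (Nat.card {z // orbP H x z} + Nat.card {z // orbP H y z}).choose
          (Nat.card {z // orbP H x z}) :=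
      fun p hp hpπ => hall_two_inv hH _ _ (inv_orbP H x) (inv_orbP H y) (orbP_disjoint hxy) hp hpπ
    rcases hxy' with ⟨hr5', h43⟩ | ⟨ha, hb⟩ | ⟨ha, hb⟩
    · have h7 : Fintype.card α = 7 := by
        rcases h43 with ⟨h1, h2⟩ | ⟨h1, h2⟩ <;> omega
      have hchoose : (Nat.card {z // orbP H x z} + Nat.card {z // orbP H y z}).choose
          (Nat.card {z // orbP H x z}) = 35 := by
        rcases h43 with ⟨h1, h2⟩ | ⟨h1, h2⟩ <;> rw [h1, h2] <;> decide
      have h5π : (5 : ℕ) ∉ π := fun h => hbin 5 (by norm_num) h (by rw [hchoose]; decide)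
      have h7π : (7 : ℕ) ∉ π := fun h => hbin 7 (by norm_num) h (by rw [hchoose]; decide)
      have hπ : ∀ q : ℕ, q.Prime → q ≤ 7 → (q ∈ π ↔ q = 2 ∨ q = 3) := by
        intro q hq hq7
        have := hq.two_le
        interval_cases q
        · exact ⟨fun _ => Or.inl rfl, fun _ => h2π⟩
        · exact ⟨fun _ => Or.inr rfl, fun _ => h3π⟩
        · exact absurd hq (by norm_num)
        · exact ⟨fun h => absurd h h5π, fun h => by omega⟩
        · exact absurd hq (by norm_num)
        · exact ⟨fun h => absurd h h7π, fun h => by omega⟩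
      have hcardH : Nat.card H = 144 := by
        refine card_of_hall_split hH (a := 144) (b := 35) (by rw [card_perm', h7]; decide) ?_ ?_
        · intro p hp hpd
          have h144 : (144 : ℕ) = 2 ^ 4 * 3 ^ 2 := by norm_num
          rw [h144] at hpd
          rcases (Nat.Prime.dvd_mul hp).mp hpd with h | h
          · have := (Nat.prime_dvd_prime_iff_eq hp Nat.prime_two).mp (hp.dvd_of_dvd_pow h)
            exact this ▸ h2π
          · have := (Nat.prime_dvd_prime_iff_eq hp Nat.prime_three).mp (hp.dvd_of_dvd_pow h)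
            exact this ▸ h3π
        · intro p hp hpd
          have h35 : (35 : ℕ) = 5 * 7 := by norm_num
          rw [h35] at hpd
          rcases (Nat.Prime.dvd_mul hp).mp hpd with h | h
          · have := (Nat.prime_dvd_prime_iff_eq hp (by norm_num)).mp h
            exact this ▸ h5π
          · have := (Nat.prime_dvd_prime_iff_eq hp (by norm_num)).mp h
            exact this ▸ h7π
      rcases h43 with ⟨h1, h2⟩ | ⟨h1, h2⟩
      · exact HType.seven (orbP H x) (by rw [Nat.card_eq_fintype_card]; exact h7) hcardH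
          (inv_orbP H x) h1 hπ
      · exact HType.seven (orbP H y) (by rw [Nat.card_eq_fintype_card]; exact h7) hcardH
          (inv_orbP H y) h2 hπ
    · exact point_of_fixed hH hr hrπ hmin (by omega) hb
    · exact point_of_fixed hH hr hrπ hmin (by omega) ha

end Cfsg.Agent.Helper8.HallSym
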