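import Cfsg.Agent.Helper8.HallSymI

/-!
# Hall subgroups of symmetric groups, part J: the classification theorem
-/

set_option autoImplicit false
set_option linter.unusedSectionVars false

namespace Cfsg.Agent.Helper8.HallSym

open Equiv MulAction

universe u

theorem hall_classify_aux (π : Set ℕ) : ∀ n : ℕ, ∀ (α : Type u) [Fintype α] [DecidableEq α]
    (H : Subgroup (Perm α)), Fintype.card α = n → Cfsg.IsPiHall π H → HType π H := by
  intro n
  induction n using Nat.strong_induction_on with
  | _ n ih =>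
    intro α _ _ H hn hH
    by_cases hall : ∀ q : ℕ, q.Prime → q ≤ n → q ∈ π
    · apply HType.top
      apply eq_top_of_hall_of_forall hH
      intro p hp hpd
      rw [card_perm', hn] at hpd
      exact hall p hp ((Nat.Prime.dvd_factorial hp).mp hpd)
    push Not at hall
    have hex : ∃ r : ℕ, r.Prime ∧ r ∉ π := by
      obtain ⟨q, hq, _, hqπ⟩ := hall
      exact ⟨q, hq, hqπ⟩
    classical
    have hr : (Nat.find hex).Prime ∧ Nat.find hex ∉ π := Nat.find_spec hex
    have hmin : ∀ q : ℕ, q.Prime → q < Nat.find hex → q ∈ π := fun q hq hqr => by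
      by_contra hcon
      exact Nat.find_min hex hqr ⟨hq, hcon⟩
    by_cases htwo : ∃ p1 p2 : ℕ, p1.Prime ∧ p2.Prime ∧ p1 ≠ p2 ∧ p1 ∈ π ∧ p2 ∈ π ∧ p1 ≤ n ∧ p2 ≤ n
    swap
    · by_cases h1 : Nat.card H = 1
      · exact HType.pgroup 2 0 Nat.prime_two (by rw [h1]; rfl)
      · obtain ⟨p, hp, hpd⟩ := Nat.exists_prime_and_dvd h1
        have hle : ∀ d : ℕ, d.Prime → d ∣ Nat.card H → d ≤ n := by
          intro d hd hdd
          have h2 : d ∣ Nat.card (Perm α) := hdd.trans (Subgroup.card_subgroup_dvd_card H)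
          rw [card_perm', hn] at h2
          exact (Nat.Prime.dvd_factorial hd).mp h2
        refine HType.pgroup p _ hp (Nat.eq_prime_pow_of_unique_prime_dvd (card_ne_zero' H) ?_)
        intro d hd hdd
        by_contra hne
        exact htwo ⟨d, p, hd, hp, hne, hH.1 d hd hdd, hH.1 p hp hpd, hle d hd hdd, hle p hp hpd⟩
    obtain ⟨p1, p2, hp1, hp2, h12, hp1π, hp2π, hp1n, hp2n⟩ := htwo
    by_cases htr : IsPretransitive H α
    · have hne : Nonempty α := Fintype.card_pos_iff.mp (by
        have := hp1.two_le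
        omega)
      obtain ⟨x⟩ := hne
      have hK := ih (n - 1) (by have := hp1.two_le; omega) {y // y ≠ x} (pt H x)
        (by rw [card_subtype_ne, hn]) (hall_pt hH x)
      exact classify_trans hH x hK hp1 hp2 h12 hp1π hp2π (hn ▸ hp1n) (hn ▸ hp2n)
    · refine classify_intrans hH htr ?_ hr.1 hr.2 hmin hp1 hp2 h12 hp1π hp2π
        (hn ▸ hp1n) (hn ▸ hp2n)
      intro x
      exact ih (Nat.card {y // orbP H x y}) (by rw [← hn]; exact card_orbP_lt htr x)
        {y // orbP H x y} _ Nat.card_eq_fintype_card.symm (hall_res' hH _ _).1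

/-- **Classification of the Hall subgroups of finite symmetric groups** (Hall, Thompson). -/
theorem hall_classify {α : Type u} [Fintype α] [DecidableEq α] {π : Set ℕ}
    {H : Subgroup (Perm α)} (hH : Cfsg.IsPiHall π H) : HType π H :=
  hall_classify_aux π _ α H rfl hH

end Cfsg.Agent.Helper8.HallSym
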