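import Cfsg.Agent.Helper8.HallSymJ
import Mathlib.GroupTheory.RegularWreathProduct

/-!
# Hall subgroups of symmetric groups, part K: existence
-/

set_option autoImplicit false
set_option linter.unusedSectionVars false

namespace Cfsg.Agent.Helper8.HallSym

open Equiv MulAction

universe u

variable {π : Set ℕ}

/-- A subgroup of order `a`, where `|G| = a * b`, `a` is a `π`-number and `b` a `π'`-number, is a
Hall `π`-subgroup. -/
theorem isPiHall_of_card {G : Type*} [Group G] [Finite G] (H : Subgroup G) {a b : ℕ}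
    (hab : Nat.card G = a * b) (hH : Nat.card H = a)
    (ha : ∀ p : ℕ, p.Prime → p ∣ a → p ∈ π) (hb : ∀ p : ℕ, p.Prime → p ∣ b → p ∉ π) :
    Cfsg.IsPiHall π H := by
  have h1 := Subgroup.card_mul_index H
  rw [hab, hH] at h1
  have ha0 : a ≠ 0 := hH ▸ card_ne_zero' H
  have h2 : H.index = b := Nat.eq_of_mul_eq_mul_left (Nat.pos_of_ne_zero ha0) h1
  refine ⟨fun p hp hpd => ha p hp (hH ▸ hpd), fun p hp hpπ hpd => hb p hp (h2 ▸ hpd) hpπ⟩

theorem card_range_of_inj {G N : Type*} [Group G] [Group N] (f : G →* N)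
    (hf : Function.Injective f) : Nat.card f.range = Nat.card G :=
  (Nat.card_congr (MonoidHom.ofInjective hf).toEquiv).symm

/-- Existence, prime degree: a point stabiliser. -/
theorem exists_hall_prime {n : ℕ} (hn : n.Prime)
    (hπ : ∀ r : ℕ, r.Prime → r ≤ n → (r ∈ π ↔ r < n)) :
    ∃ H : Subgroup (Perm (Fin n)), Cfsg.IsPiHall π H := by
  have hpos : 0 < n := hn.pos
  refine ⟨stabilizer (Perm (Fin n)) (⟨0, hpos⟩ : Fin n), ?_⟩
  refine isPiHall_of_card _ (a := (n - 1).factorial) (b := n) ?_ ?_ ?_ ?_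
  · rw [card_perm', Fintype.card_fin]
    obtain ⟨m, rfl⟩ : ∃ m, n = m + 1 := ⟨n - 1, by omega⟩
    rw [Nat.factorial_succ, Nat.add_sub_cancel, mul_comm]
  · rw [card_stabilizer_perm, Fintype.card_fin]
  · intro p hp hpd
    have := (Nat.Prime.dvd_factorial hp).mp hpd
    exact (hπ p hp (by omega)).mpr (by omega)
  · intro p hp hpd hpπ
    have e := (Nat.prime_dvd_prime_iff_eq hp hn).mp hpd
    have := (hπ p hp e.le).mp hpπ
    omega

theorem two_three_of_dvd {p a b : ℕ} (hp : p.Prime) (h : p ∣ 2 ^ a * 3 ^ b) : p = 2 ∨ p = 3 := by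
  rcases (Nat.Prime.dvd_mul hp).mp h with h | h
  · exact Or.inl ((Nat.prime_dvd_prime_iff_eq hp Nat.prime_two).mp (hp.dvd_of_dvd_pow h))
  · exact Or.inr ((Nat.prime_dvd_prime_iff_eq hp Nat.prime_three).mp (hp.dvd_of_dvd_pow h))

theorem five_seven_of_dvd {p : ℕ} (hp : p.Prime) (h : p ∣ 5 * 7) : p = 5 ∨ p = 7 := by
  rcases (Nat.Prime.dvd_mul hp).mp h with h | h
  · exact Or.inl ((Nat.prime_dvd_prime_iff_eq hp (by norm_num)).mp h)
  · exact Or.inr ((Nat.prime_dvd_prime_iff_eq hp (by norm_num)).mp h)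

/-- Existence, degree `7`: `S₄ × S₃`. -/
theorem exists_hall_seven (h2 : (2 : ℕ) ∈ π) (h3 : (3 : ℕ) ∈ π) (h5 : (5 : ℕ) ∉ π)
    (h7 : (7 : ℕ) ∉ π) : ∃ H : Subgroup (Perm (Fin 7)), Cfsg.IsPiHall π H := by
  have hH : Cfsg.IsPiHall π (Perm.sumCongrHom (Fin 4) (Fin 3)).range := by
    refine isPiHall_of_card _ (a := 2 ^ 4 * 3 ^ 2) (b := 5 * 7) ?_ ?_ ?_ ?_
    · rw [card_perm']
      decide
    · rw [card_range_of_inj _ Perm.sumCongrHom_injective, Nat.card_prod, card_perm', card_perm']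
      decide
    · intro p hp hpd
      rcases two_three_of_dvd hp hpd with rfl | rfl
      · exact h2
      · exact h3
    · intro p hp hpd
      rcases five_seven_of_dvd hp hpd with rfl | rfl
      · exact h5
      · exact h7
  exact ⟨_, isPiHall_map_equiv (finSumFinEquiv (m := 4) (n := 3)).permCongrHom hH⟩

/-- Existence, degree `8`: `S₄ ≀ S₂`. -/
theorem exists_hall_eight (h2 : (2 : ℕ) ∈ π) (h3 : (3 : ℕ) ∈ π) (h5 : (5 : ℕ) ∉ π)
    (h7 : (7 : ℕ) ∉ π) : ∃ H : Subgroup (Perm (Fin 8)), Cfsg.IsPiHall π H := by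
  have hH : Cfsg.IsPiHall π
      (RegularWreathProduct.toPerm (Perm (Fin 4)) (Perm (Fin 2)) (Fin 4)).range := by
    refine isPiHall_of_card _ (a := 2 ^ 7 * 3 ^ 2) (b := 5 * 7) ?_ ?_ ?_ ?_
    · rw [card_perm']
      simp only [Fintype.card_prod, Fintype.card_fin, Fintype.card_perm]
      decide
    · rw [card_range_of_inj _ (RegularWreathProduct.toPermInj _ _ _), RegularWreathProduct.card,
        card_perm', card_perm']
      decide
    · intro p hp hpd
      rcases two_three_of_dvd hp hpd with rfl | rfl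
      · exact h2
      · exact h3
    · intro p hp hpd
      rcases five_seven_of_dvd hp hpd with rfl | rfl
      · exact h5
      · exact h7
  have hc : Fintype.card (Fin 4 × Perm (Fin 2)) = 8 := by
    simp only [Fintype.card_prod, Fintype.card_fin, Fintype.card_perm]
    decide
  exact ⟨_, isPiHall_map_equiv (Fintype.equivFinOfCardEq hc).permCongrHom hH⟩

end Cfsg.Agent.Helper8.HallSym
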