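import Mathlib

/-!
# A weak form of Ecklund's theorem, part 1

If `2 ≤ k ≤ m` and no prime `p ≤ m` divides `C(m + k, k)` then `(m, k) = (4, 3)`.
This file: Kummer's no-carry condition and the first consequences
(`m + 1` and `m + k` are prime, `m` even, `k ≥ 3` odd).
-/

set_option autoImplicit false

namespace Cfsg.Agent.Helper8.HallSym

/-- Kummer: if `p ∤ C(m + k, k)` there is no carry when adding `m` and `k` in base `p`. -/
theorem nc_of_not_dvd {p m k : ℕ} (hp : p.Prime) (h : ¬ p ∣ (m + k).choose k) (i : ℕ) :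
    m % p ^ i + k % p ^ i < p ^ i := by
  by_contra hcon
  push Not at hcon
  have hi : 1 ≤ i := by
    rcases Nat.eq_zero_or_pos i with h0 | h0
    · subst h0
      simp [Nat.mod_one] at hcon
    · exact h0
  apply h
  apply Nat.dvd_of_factorization_pos
  rw [Nat.factorization_choose' hp (b := max (Nat.log p (m + k) + 1) (i + 1))
    (lt_of_lt_of_le (Nat.lt_succ_self _) (le_max_left _ _))]
  apply Finset.card_ne_zero.mpr
  refine ⟨i, ?_⟩
  rw [Finset.mem_filter, Finset.mem_Ico]
  refine ⟨⟨hi, lt_of_lt_of_le (Nat.lt_succ_self _) (le_max_right _ _)⟩, ?_⟩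
  rw [add_comm]
  exact hcon

/-- The no-carry hypothesis. -/
def NC (m k : ℕ) : Prop :=
  ∀ p : ℕ, p.Prime → p ≤ m → ∀ i : ℕ, m % p ^ i + k % p ^ i < p ^ i

theorem nc_of_hyp {m k : ℕ} (h : ∀ p : ℕ, p.Prime → p ≤ m → ¬ p ∣ (m + k).choose k) : NC m k :=
  fun p hp hpm i => nc_of_not_dvd hp (h p hp hpm) i

/-- If `q ∣ m + c` with `0 < c ≤ q` then `m % q = q - c`. -/
theorem mod_of_dvd_add {m q c : ℕ} (hc : 0 < c) (hcq : c ≤ q) (h : q ∣ m + c) : m % q = q - c := by
  obtain ⟨d, hd⟩ := h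
  have hd1 : 1 ≤ d := by
    rcases Nat.eq_zero_or_pos d with h0 | h0
    · subst h0; omega
    · exact h0
  obtain ⟨e, rfl⟩ : ∃ e, d = e + 1 := ⟨d - 1, by omega⟩
  have hm : m = (q - c) + q * e := by
    have : q * (e + 1) = q * e + q := by ring
    omega
  rw [hm, Nat.add_mul_mod_self_left]
  exact Nat.mod_eq_of_lt (by omega)

/-- A prime factor of a composite number `N` is at most `N / 2`. -/
theorem prime_le_half {p N : ℕ} (_hp : p.Prime) (hpN : p ∣ N) (hN : 0 < N) (hne : p ≠ N) :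
    2 * p ≤ N := by
  obtain ⟨d, hd⟩ := hpN
  have hd2 : 2 ≤ d := by
    rcases d with _ | _ | d
    · omega
    · omega
    · omega
  calc 2 * p = p * 2 := by ring
    _ ≤ p * d := Nat.mul_le_mul_left _ hd2
    _ = N := hd.symm

/-- If `p ^ j ∣ N` with `j ≥ 1` then `p ∣ N`. -/
theorem dvd_of_pow_dvd' {p j N : ℕ} (hj : 1 ≤ j) (h : p ^ j ∣ N) : p ∣ N :=
  (dvd_pow_self p (by omega)).trans h

section steps

variable {m k : ℕ}

/-- Step 1: `m + 1` is prime. -/
theorem step_succ_prime (hk : 2 ≤ k) (hkm : k ≤ m) (hnc : NC m k) : (m + 1).Prime := by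
  by_contra hnp
  have hdvd : m + 1 ∣ k := by
    rw [Nat.dvd_iff_prime_pow_dvd_dvd]
    intro p j hp hpj
    rcases Nat.eq_zero_or_pos j with h0 | h0
    · subst h0; simp
    have hpm : p ∣ m + 1 := dvd_of_pow_dvd' h0 hpj
    have hne : p ≠ m + 1 := fun h => hnp (h ▸ hp)
    have hple : p ≤ m := by
      have := prime_le_half hp hpm (by omega) hne
      omega
    have hq1 : 1 ≤ p ^ j := Nat.one_le_pow _ _ hp.pos
    have h1 := mod_of_dvd_add (m := m) (q := p ^ j) (c := 1) one_pos hq1 hpj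
    have h2 := hnc p hp hple j
    rw [h1] at h2
    have h4 : k % p ^ j = 0 := by
      generalize k % p ^ j = r at h2
      omega
    exact Nat.dvd_of_mod_eq_zero h4
  have := Nat.le_of_dvd (by omega) hdvd
  omega

/-- Step 2: `m + k` is prime. -/
theorem step_sum_prime (hk : 2 ≤ k) (hkm : k ≤ m) (hnc : NC m k) : (m + k).Prime := by
  by_contra hnp
  have hdvd : m + k ∣ k := by
    rw [Nat.dvd_iff_prime_pow_dvd_dvd]
    intro p j hp hpj
    rcases Nat.eq_zero_or_pos j with h0 | h0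
    · subst h0; simp
    have hpm : p ∣ m + k := dvd_of_pow_dvd' h0 hpj
    have hne : p ≠ m + k := fun h => hnp (h ▸ hp)
    have hple : p ≤ m := by
      have := prime_le_half hp hpm (by omega) hne
      omega
    have h2 := hnc p hp hple j
    have h3 : (m % p ^ j + k % p ^ j) % p ^ j = 0 := by
      rw [← Nat.add_mod]; exact Nat.mod_eq_zero_of_dvd hpj
    rw [Nat.mod_eq_of_lt h2] at h3
    have h4 : k % p ^ j = 0 := by
      generalize k % p ^ j = r at h3
      generalize m % p ^ j = r' at h3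
      omega
    exact Nat.dvd_of_mod_eq_zero h4
  have := Nat.le_of_dvd (by omega) hdvd
  omega

/-- Step 3: `k ≥ 3`, `m` is even and `k` is odd. -/
theorem step_parity (hk : 2 ≤ k) (hkm : k ≤ m) (hnc : NC m k) :
    3 ≤ k ∧ m % 2 = 0 ∧ k % 2 = 1 := by
  have h1 := step_succ_prime hk hkm hnc
  have h2 := step_sum_prime hk hkm hnc
  have hm2 : m % 2 = 0 := by
    rcases h1.eq_two_or_odd with h | h
    · omega
    · omega
  have hk2 : k % 2 = 1 := by
    rcases h2.eq_two_or_odd with h | h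
    · omega
    · omega
  refine ⟨by omega, hm2, hk2⟩

end steps

end Cfsg.Agent.Helper8.HallSym
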