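import Cfsg.Agent.Helper8.HallSymNT1

/-!
# A weak form of Ecklund's theorem, part 2: the numbers `m + 2` and `m + k - 1`
-/

set_option autoImplicit false

namespace Cfsg.Agent.Helper8.HallSym

variable {m k : ℕ}

theorem two_le_prime_pow {p j : ℕ} (hp : p.Prime) (hj : 1 ≤ j) : 2 ≤ p ^ j :=
  le_trans hp.two_le (Nat.le_self_pow (by omega) p)

/-- `m + 2 ∣ k (k - 1)`. -/
theorem step_u_dvd (hk : 3 ≤ k) (hkm : k ≤ m) (hm2 : m % 2 = 0) (hnc : NC m k) :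
    m + 2 ∣ k * (k - 1) := by
  rw [Nat.dvd_iff_prime_pow_dvd_dvd]
  intro p j hp hpj
  rcases Nat.eq_zero_or_pos j with h0 | h0
  · subst h0; simp
  have hpm : p ∣ m + 2 := dvd_of_pow_dvd' h0 hpj
  have hne : p ≠ m + 2 := by
    intro h
    rcases hp.eq_two_or_odd with h2 | h2
    · omega
    · omega
  have hple : p ≤ m := by
    have := prime_le_half hp hpm (by omega) hne
    omega
  have hq2 : 2 ≤ p ^ j := two_le_prime_pow hp h0
  have h1 := mod_of_dvd_add (m := m) (q := p ^ j) (c := 2) (by omega) hq2 hpj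
  have h2 := hnc p hp hple j
  rw [h1] at h2
  have h3 : k % p ^ j = 0 ∨ k % p ^ j = 1 := by
    generalize k % p ^ j = r at h2
    omega
  rcases h3 with h3 | h3
  · exact Dvd.dvd.mul_right (Nat.dvd_of_mod_eq_zero h3) _
  · apply Dvd.dvd.mul_left
    apply Nat.dvd_of_mod_eq_zero
    apply Nat.sub_mod_eq_zero_of_mod_eq
    rw [h3, Nat.mod_eq_of_lt (by omega : 1 < p ^ j)]

/-- For a prime power `q ∣ m + k - 1`: `(m % q, k % q)` is `(1, 0)` or `(0, 1)`. -/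
theorem step_t_mod (hk : 3 ≤ k) (hkm : k ≤ m) (hm2 : m % 2 = 0) (hk2 : k % 2 = 1) (hnc : NC m k)
    {p j : ℕ} (hp : p.Prime) (hj : 1 ≤ j) (hpj : p ^ j ∣ m + k - 1) :
    (m % p ^ j = 1 ∧ k % p ^ j = 0) ∨ (m % p ^ j = 0 ∧ k % p ^ j = 1) := by
  have hpm : p ∣ m + k - 1 := dvd_of_pow_dvd' hj hpj
  have hne : p ≠ m + k - 1 := by
    intro h
    rcases hp.eq_two_or_odd with h2 | h2
    · omega
    · omega
  have hple : p ≤ m := by
    have := prime_le_half hp hpm (by omega) hne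
    omega
  have hq2 : 2 ≤ p ^ j := two_le_prime_pow hp hj
  have h2 := hnc p hp hple j
  have h3 : (m % p ^ j + k % p ^ j) % p ^ j = 1 := by
    rw [← Nat.add_mod]
    obtain ⟨d, hd⟩ := hpj
    have : m + k = 1 + p ^ j * d := by omega
    rw [this, Nat.add_mul_mod_self_left]
    exact Nat.mod_eq_of_lt (by omega)
  rw [Nat.mod_eq_of_lt h2] at h3
  generalize k % p ^ j = r at h3 ⊢
  generalize m % p ^ j = r' at h3 ⊢
  omega

theorem step_t_dvd_k (hk : 3 ≤ k) (hkm : k ≤ m) (hm2 : m % 2 = 0) (hk2 : k % 2 = 1) (hnc : NC m k) :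
    m + k - 1 ∣ k * (k - 1) := by
  rw [Nat.dvd_iff_prime_pow_dvd_dvd]
  intro p j hp hpj
  rcases Nat.eq_zero_or_pos j with h0 | h0
  · subst h0; simp
  have hq2 : 2 ≤ p ^ j := two_le_prime_pow hp h0
  rcases step_t_mod hk hkm hm2 hk2 hnc hp h0 hpj with ⟨-, h3⟩ | ⟨-, h3⟩
  · exact Dvd.dvd.mul_right (Nat.dvd_of_mod_eq_zero h3) _
  · apply Dvd.dvd.mul_left
    apply Nat.dvd_of_mod_eq_zero
    apply Nat.sub_mod_eq_zero_of_mod_eq
    rw [h3, Nat.mod_eq_of_lt (by omega : 1 < p ^ j)]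

theorem step_t_dvd_m (hk : 3 ≤ k) (hkm : k ≤ m) (hm2 : m % 2 = 0) (hk2 : k % 2 = 1) (hnc : NC m k) :
    m + k - 1 ∣ m * (m - 1) := by
  rw [Nat.dvd_iff_prime_pow_dvd_dvd]
  intro p j hp hpj
  rcases Nat.eq_zero_or_pos j with h0 | h0
  · subst h0; simp
  have hq2 : 2 ≤ p ^ j := two_le_prime_pow hp h0
  rcases step_t_mod hk hkm hm2 hk2 hnc hp h0 hpj with ⟨h3, -⟩ | ⟨h3, -⟩
  · apply Dvd.dvd.mul_left
    apply Nat.dvd_of_mod_eq_zero
    apply Nat.sub_mod_eq_zero_of_mod_eq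
    rw [h3, Nat.mod_eq_of_lt (by omega : 1 < p ^ j)]
  · exact Dvd.dvd.mul_right (Nat.dvd_of_mod_eq_zero h3) _

/-- `gcd (m + 2) (m + k - 1) ∣ 6`. -/
theorem step_gcd_dvd (hk : 3 ≤ k) (hkm : k ≤ m) (hm2 : m % 2 = 0) (hk2 : k % 2 = 1) (hnc : NC m k) :
    Nat.gcd (m + 2) (m + k - 1) ∣ 6 := by
  have h1 : Nat.gcd (m + 2) (m + k - 1) ∣ m + 2 := Nat.gcd_dvd_left _ _
  have h2 : Nat.gcd (m + 2) (m + k - 1) ∣ m * (m - 1) :=
    (Nat.gcd_dvd_right _ _).trans (step_t_dvd_m hk hkm hm2 hk2 hnc)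
  obtain ⟨m', rfl⟩ : ∃ m', m = m' + 3 := ⟨m - 3, by omega⟩
  have h3 : (m' + 3) * (m' + 3 - 1) = (m' + 3 + 2) * m' + 6 := by
    have : m' + 3 - 1 = m' + 2 := by omega
    rw [this]; ring
  rw [h3] at h2
  exact (Nat.dvd_add_right (Dvd.dvd.mul_right h1 _)).mp h2

/-- The dichotomy `u t = 6 k (k-1)` or `u t = 3 k (k-1)`, together with `3 ∣ gcd`. -/
theorem step_lambda (hk : 3 ≤ k) (hkm : k ≤ m) (hm2 : m % 2 = 0) (hk2 : k % 2 = 1) (hnc : NC m k) :
    ((m + 2) * (m + k - 1) = 6 * (k * (k - 1)) ∨ (m + 2) * (m + k - 1) = 3 * (k * (k - 1))) ∧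
      m % 3 = 1 ∧ k % 3 = 0 := by
  set u := m + 2 with hu
  set t := m + k - 1 with ht
  set K := k * (k - 1) with hK
  have hKpos : 0 < K := Nat.mul_pos (by omega) (by omega)
  have hG : Nat.gcd u t ∣ 6 := step_gcd_dvd hk hkm hm2 hk2 hnc
  have hL : Nat.lcm u t ∣ K := Nat.lcm_dvd (step_u_dvd hk hkm hm2 hnc)
    (step_t_dvd_k hk hkm hm2 hk2 hnc)
  have hGL : Nat.gcd u t * Nat.lcm u t = u * t := Nat.gcd_mul_lcm u t
  have hdvd : u * t ∣ 6 * K := hGL ▸ Nat.mul_dvd_mul hG hL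
  have hbig : 2 * K < u * t := by
    obtain ⟨k', rfl⟩ : ∃ k', k = k' + 1 := ⟨k - 1, by omega⟩
    have h1 : k' + 1 + 2 ≤ u := by omega
    have h2 : 2 * k' + 1 ≤ t := by omega
    have h3 : (k' + 1 + 2) * (2 * k' + 1) ≤ u * t := Nat.mul_le_mul h1 h2
    have h4 : K = (k' + 1) * k' := by rw [hK, Nat.add_sub_cancel]
    rw [h4]
    nlinarith
  obtain ⟨c, hc⟩ := hdvd
  have hc12 : c = 1 ∨ c = 2 := by
    have hc0 : c ≠ 0 := by
      rintro rfl
      omega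
    have hc3 : c < 3 := by
      by_contra h
      push Not at h
      have : u * t * 3 ≤ u * t * c := Nat.mul_le_mul_left _ h
      omega
    omega
  have hlam : u * t = 6 * K ∨ u * t = 3 * K := by
    rcases hc12 with rfl | rfl
    · left; omega
    · right; omega
  -- `3 ∣ gcd`
  obtain ⟨e, he⟩ := hL
  have hLpos : 0 < Nat.lcm u t := Nat.lcm_pos (by omega) (by omega)
  have h3G : 3 ∣ Nat.gcd u t := by
    rcases hlam with h | h
    · have : Nat.gcd u t * Nat.lcm u t = Nat.lcm u t * (6 * e) := by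
        rw [hGL, h, he]; ring
      have h5 : Nat.gcd u t = 6 * e := by
        rw [mul_comm] at this
        exact Nat.eq_of_mul_eq_mul_left hLpos this
      rw [h5]; exact ⟨2 * e, by ring⟩
    · have : Nat.gcd u t * Nat.lcm u t = Nat.lcm u t * (3 * e) := by
        rw [hGL, h, he]; ring
      have h5 : Nat.gcd u t = 3 * e := by
        rw [mul_comm] at this
        exact Nat.eq_of_mul_eq_mul_left hLpos this
      rw [h5]; exact ⟨e, rfl⟩
  have h3u : 3 ∣ u := h3G.trans (Nat.gcd_dvd_left _ _)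
  have h3t : 3 ∣ t := h3G.trans (Nat.gcd_dvd_right _ _)
  have hm3 : m % 3 = 1 := by omega
  have hnc3 := hnc 3 Nat.prime_three (by omega) 1
  rw [pow_one] at hnc3
  refine ⟨hlam, hm3, ?_⟩
  omega

end Cfsg.Agent.Helper8.HallSym
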