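import Cfsg.Agent.Helper8.HallSymNT2

/-!
# A weak form of Ecklund's theorem, part 3: the two final cases
-/

set_option autoImplicit false

namespace Cfsg.Agent.Helper8.HallSym

variable {m k : ℕ}

/-- Case `λ = 6`: `(m, k) = (4, 3)`. -/
theorem case_six (hk : 3 ≤ k) (hkm : k ≤ m) (hnc : NC m k)
    (h6 : (m + 2) * (m + k - 1) = 6 * (k * (k - 1))) : m = 4 ∧ k = 3 := by
  obtain ⟨k', rfl⟩ : ∃ k', k = k' + 1 := ⟨k - 1, by omega⟩
  have hk' : 2 ≤ k' := by omega
  have e1 : m + (k' + 1) - 1 = m + k' := by omega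
  have e2 : k' + 1 - 1 = k' := by omega
  rw [e1, e2] at h6
  have hm : m = 2 * k' := by
    rcases lt_trichotomy m (2 * k') with h | h | h
    · exfalso
      have : m + 1 ≤ 2 * k' := h
      nlinarith
    · exact h
    · exfalso
      have : 2 * k' + 1 ≤ m := h
      nlinarith
  subst hm
  -- no odd prime divides `k' + 2`
  have hodd : ¬ ∃ p, p.Prime ∧ p ∣ (k' + 2) ∧ Odd p := by
    rintro ⟨p, hp, hpd, hpo⟩
    have hple : p ≤ 2 * k' := by
      have := Nat.le_of_dvd (by omega) hpd
      omega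
    have h1 := hnc p hp hple 1
    rw [pow_one] at h1
    have hk1 : (k' + 1) % p = p - 1 := mod_of_dvd_add (c := 1) one_pos hp.one_le hpd
    have hp3 : 3 ≤ p := by
      rcases hpo with ⟨c, hc⟩
      have := hp.two_le
      omega
    have hpd4 : p ∣ 2 * k' + 4 := by
      have : 2 * k' + 4 = 2 * (k' + 2) := by ring
      rw [this]; exact Dvd.dvd.mul_left hpd _
    rcases Nat.lt_or_ge p 5 with h5 | h5
    · have hp34 : p = 3 ∨ p = 4 := by omega
      rcases hp34 with rfl | rfl
      · omega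
      · exact absurd hp (by decide)
    · have hm1 : (2 * k') % p = p - 4 := mod_of_dvd_add (c := 4) (by omega) (by omega) hpd4
      rw [hm1, hk1] at h1
      omega
  rcases Nat.eq_two_pow_or_exists_odd_prime_and_dvd (k' + 2) with ⟨e, he⟩ | h
  · rcases Nat.lt_or_ge e 3 with h3 | h3
    · have : e = 0 ∨ e = 1 ∨ e = 2 := by omega
      rcases this with rfl | rfl | rfl
      · omega
      · omega
      · have : k' = 2 := by norm_num at he; omega
        subst this
        exact ⟨rfl, rfl⟩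
    · exfalso
      have h8 : 8 ∣ k' + 2 := by
        rw [he]
        exact (by norm_num : (8 : ℕ) = 2 ^ 3) ▸ pow_dvd_pow 2 h3
      have h1 := hnc 2 Nat.prime_two (by omega) 3
      norm_num at h1
      omega
  · exact absurd h hodd

/-- The finite verification for the case `λ = 3`. -/
theorem case_three_check :
    ∀ s ∈ Nat.divisors 280, ∀ f ∈ Finset.range 215,
      3 * f * f < s * s + s * f →
      (11 * f + 5 * s) % (s * s + s * f - 3 * f * f) = 0 →
      ((11 * f + 5 * s) / (s * s + s * f - 3 * f * f) * f + 2) % 6 = 3 →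
      (s * ((11 * f + 5 * s) / (s * s + s * f - 3 * f * f)) - 4) % 6 = 4 →
      (s * ((11 * f + 5 * s) / (s * s + s * f - 3 * f * f)) - 4 + 2) *
          (s * ((11 * f + 5 * s) / (s * s + s * f - 3 * f * f)) - 4 +
            ((11 * f + 5 * s) / (s * s + s * f - 3 * f * f) * f + 2) - 1) =
        3 * (((11 * f + 5 * s) / (s * s + s * f - 3 * f * f) * f + 2) *
          ((11 * f + 5 * s) / (s * s + s * f - 3 * f * f) * f + 2 - 1)) →
      s * ((11 * f + 5 * s) / (s * s + s * f - 3 * f * f)) - 4 = 10 ∧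
        (11 * f + 5 * s) / (s * s + s * f - 3 * f * f) * f + 2 = 9 := by
  decide +kernel

end Cfsg.Agent.Helper8.HallSym

namespace Cfsg.Agent.Helper8.HallSym

variable {m k : ℕ}

/-- `m + 4 ∣ 280 (k - 2)` in the case `λ = 3`. -/
theorem case_three_dvd (hk : 9 ≤ k) (hkm : k ≤ m) (hm2 : m % 2 = 0) (hnc : NC m k)
    (hm3 : m % 3 = 1)
    (hid : (m + 4) * (m + k - 3) = (3 * k + 5) * (k - 2)) : m + 4 ∣ 280 * (k - 2) := by
  rw [Nat.dvd_iff_prime_pow_dvd_dvd]
  intro p j hp hpj
  rcases Nat.eq_zero_or_pos j with h0 | h0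
  · subst h0; simp
  have hpm : p ∣ m + 4 := dvd_of_pow_dvd' h0 hpj
  have hne : p ≠ m + 4 := by
    intro h
    rcases hp.eq_two_or_odd with h2 | h2
    · omega
    · omega
  have hple : p ≤ m := by
    have := prime_le_half hp hpm (by omega) hne
    omega
  have hq2 : 2 ≤ p ^ j := two_le_prime_pow hp h0
  have hqE : p ^ j ∣ (3 * k + 5) * (k - 2) := hid ▸ Dvd.dvd.mul_right hpj _
  generalize hq : p ^ j = q at *
  rcases Nat.lt_or_ge q 5 with h5 | h5
  · have : q = 2 ∨ q = 3 ∨ q = 4 := by omega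
    rcases this with rfl | rfl | rfl
    · exact Dvd.dvd.mul_right (by norm_num) _
    · omega
    · exact Dvd.dvd.mul_right (by norm_num) _
  · have h1 := mod_of_dvd_add (m := m) (q := q) (c := 4) (by omega) (by omega) hpj
    have h2 := hnc p hp hple j
    rw [hq, h1] at h2
    have hkdm := Nat.div_add_mod k q
    obtain ⟨k2, rfl⟩ : ∃ k2, k = k2 + 3 := ⟨k - 3, by omega⟩
    have hκ : (k2 + 3) % q = 0 ∨ (k2 + 3) % q = 1 ∨ (k2 + 3) % q = 2 ∨ (k2 + 3) % q = 3 := by
      generalize (k2 + 3) % q = r at h2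
      omega
    have e1 : k2 + 3 - 2 = k2 + 1 := by omega
    rw [e1] at hqE ⊢
    rcases hκ with h | h | h | h
    · -- `q ∣ k`, so `q ∣ 10`
      have hqk : q ∣ k2 + 3 := Nat.dvd_of_mod_eq_zero h
      have h10 : q ∣ 10 := by
        have e : (k2 + 3) * (3 * k2 + 8) = (3 * (k2 + 3) + 5) * (k2 + 1) + 10 := by ring
        have := Dvd.dvd.mul_right hqk (3 * k2 + 8)
        rw [e] at this
        exact (Nat.dvd_add_right hqE).mp this
      exact Dvd.dvd.mul_right (h10.trans (by norm_num)) _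
    · -- `q ∣ k - 1`, so `q ∣ 8`
      have hqk : q ∣ k2 + 2 := by
        have : (k2 + 3 - 1) % q = 0 := Nat.sub_mod_eq_zero_of_mod_eq (by
          rw [h, Nat.mod_eq_of_lt (by omega : 1 < q)])
        have e : k2 + 3 - 1 = k2 + 2 := by omega
        rw [e] at this
        exact Nat.dvd_of_mod_eq_zero this
      have h8 : q ∣ 8 := by
        have e : (k2 + 2) * (3 * k2 + 11) = (3 * (k2 + 3) + 5) * (k2 + 1) + 8 := by ring
        have := Dvd.dvd.mul_right hqk (3 * k2 + 11)
        rw [e] at this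
        exact (Nat.dvd_add_right hqE).mp this
      exact Dvd.dvd.mul_right (h8.trans (by norm_num)) _
    · -- `q ∣ k - 2`
      have hqk : q ∣ k2 + 1 := by
        have : (k2 + 3 - 2) % q = 0 := Nat.sub_mod_eq_zero_of_mod_eq (by
          rw [h, Nat.mod_eq_of_lt (by omega : 2 < q)])
        have e : k2 + 3 - 2 = k2 + 1 := by omega
        rw [e] at this
        exact Nat.dvd_of_mod_eq_zero this
      exact Dvd.dvd.mul_left hqk _
    · -- `q ∣ k - 3`, so `q ∣ 14`
      have hqk : q ∣ k2 := by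
        have : (k2 + 3 - 3) % q = 0 := Nat.sub_mod_eq_zero_of_mod_eq (by
          rw [h, Nat.mod_eq_of_lt (by omega : 3 < q)])
        rw [Nat.add_sub_cancel] at this
        exact Nat.dvd_of_mod_eq_zero this
      have h14 : q ∣ 14 := by
        have e : (3 * (k2 + 3) + 5) * (k2 + 1) = k2 * (3 * k2 + 17) + 14 := by ring
        rw [e] at hqE
        exact (Nat.dvd_add_right (Dvd.dvd.mul_right hqk _)).mp hqE
      exact Dvd.dvd.mul_right (h14.trans (by norm_num)) _

/-- Case `λ = 3` is impossible. -/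
theorem case_three (hk : 3 ≤ k) (hkm : k ≤ m) (hm2 : m % 2 = 0) (hk2 : k % 2 = 1) (hnc : NC m k)
    (hm3 : m % 3 = 1) (hk3 : k % 3 = 0)
    (h3 : (m + 2) * (m + k - 1) = 3 * (k * (k - 1))) : False := by
  -- `k ≠ 3`
  have hk9 : 9 ≤ k := by
    by_contra hlt
    have : k = 3 := by omega
    subst this
    have e : m + 3 - 1 = m + 2 := by omega
    rw [e] at h3
    norm_num at h3
    rcases Nat.lt_or_ge m 3 with h | h
    · omega
    · nlinarith
  -- the identity
  have hid : (m + 4) * (m + k - 3) = (3 * k + 5) * (k - 2) := by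
    obtain ⟨j, rfl⟩ : ∃ j, k = j + 7 := ⟨k - 7, by omega⟩
    have e1 : m + (j + 7) - 1 = m + j + 6 := by omega
    have e2 : j + 7 - 1 = j + 6 := by omega
    have e3 : m + (j + 7) - 3 = m + j + 4 := by omega
    have e4 : j + 7 - 2 = j + 5 := by omega
    rw [e1, e2] at h3
    rw [e3, e4]
    nlinarith
  have hdvd := case_three_dvd hk9 hkm hm2 hnc hm3 hid
  -- decomposition
  set g := Nat.gcd (m + 4) (k - 2) with hg
  have hgpos : 0 < g := Nat.gcd_pos_of_pos_left _ (by omega)
  obtain ⟨s, hs⟩ : g ∣ m + 4 := Nat.gcd_dvd_left _ _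
  obtain ⟨f, hf⟩ : g ∣ k - 2 := Nat.gcd_dvd_right _ _
  have hcop : Nat.Coprime s f := by
    have := Nat.coprime_div_gcd_div_gcd (m := m + 4) (n := k - 2) hgpos
    rw [← hg] at this
    have e1 : (m + 4) / g = s := by rw [hs]; exact Nat.mul_div_cancel_left _ hgpos
    have e2 : (k - 2) / g = f := by rw [hf]; exact Nat.mul_div_cancel_left _ hgpos
    rwa [e1, e2] at this
  have hs280 : s ∣ 280 := by
    rw [hs, hf] at hdvd
    have h1 : g * s ∣ g * (280 * f) := by
      have : 280 * (g * f) = g * (280 * f) := by ring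
      rwa [this] at hdvd
    have h2 : s ∣ 280 * f := (Nat.mul_dvd_mul_iff_left hgpos).mp h1
    exact hcop.dvd_of_dvd_mul_right h2
  have hspos : 0 < s := Nat.pos_of_dvd_of_pos hs280 (by norm_num)
  have hs_le : s ≤ 280 := Nat.le_of_dvd (by norm_num) hs280
  have hfpos : 0 < f := by
    rcases Nat.eq_zero_or_pos f with h | h
    · subst h; omega
    · exact h
  have hK : k = g * f + 2 := by omega
  have hW : m + 4 = s * g := by rw [hs]; ring
  -- the key equation
  have hkey : g * (s * s + s * f) = 3 * g * f * f + 11 * f + 5 * s := by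
    have e1 : m + (g * f + 2) - 1 = m + g * f + 1 := by omega
    have e2 : g * f + 2 - 1 = g * f + 1 := by omega
    rw [hK, e1, e2] at h3
    have h3' : ((m : ℤ) + 2) * (m + g * f + 1) = 3 * ((g * f + 2) * (g * f + 1)) := by
      exact_mod_cast h3
    have hW' : (m : ℤ) + 4 = s * g := by exact_mod_cast hW
    have hgz : (g : ℤ) ≠ 0 := by exact_mod_cast hgpos.ne'
    have : (g : ℤ) * (g * (s * s + s * f)) = g * (3 * g * f * f + 11 * f + 5 * s) := by
      linear_combination h3' - (s * g + m + g * f - 1) * hW'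
    have h4 := mul_left_cancel₀ hgz this
    exact_mod_cast h4
  -- bound on `f`
  have hAB : 3 * f * f < s * s + s * f := by
    have : g * (3 * f * f) < g * (s * s + s * f) := by
      rw [hkey]
      have : g * (3 * f * f) = 3 * g * f * f := by ring
      omega
    exact Nat.lt_of_mul_lt_mul_left this
  have hf215 : f < 215 := by
    by_contra h
    push Not at h
    nlinarith [Nat.mul_le_mul h h, Nat.mul_le_mul hs_le hs_le, Nat.mul_le_mul hs_le h]
  have hD : g * (s * s + s * f - 3 * f * f) = 11 * f + 5 * s := by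
    rw [Nat.mul_sub, hkey]
    have : g * (3 * f * f) = 3 * g * f * f := by ring
    omega
  have hDpos : 0 < s * s + s * f - 3 * f * f := by omega
  have hmod : (11 * f + 5 * s) % (s * s + s * f - 3 * f * f) = 0 := by
    rw [← hD]; exact Nat.mul_mod_left _ _
  have hdiv : (11 * f + 5 * s) / (s * s + s * f - 3 * f * f) = g := by
    rw [← hD]; exact Nat.mul_div_cancel _ hDpos
  have hchk := case_three_check s (Nat.mem_divisors.mpr ⟨hs280, by norm_num⟩) f
    (Finset.mem_range.mpr hf215) hAB hmod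
  rw [hdiv] at hchk
  have hm' : s * g - 4 = m := by omega
  rw [hm', ← hK] at hchk
  obtain ⟨hm10, hk9'⟩ := hchk (by omega) (by omega) h3
  have h1 := hnc 2 Nat.prime_two (by omega) 4
  rw [hm10, hk9'] at h1
  norm_num at h1

/-- **Weak Ecklund theorem.** If `2 ≤ k ≤ m` and no prime `p ≤ m` divides `C(m + k, k)`, then
`(m, k) = (4, 3)`. -/
theorem weak_ecklund {m k : ℕ} (hk : 2 ≤ k) (hkm : k ≤ m)
    (h : ∀ p : ℕ, p.Prime → p ≤ m → ¬ p ∣ (m + k).choose k) : m = 4 ∧ k = 3 := by
  have hnc := nc_of_hyp h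
  obtain ⟨hk3, hm2, hk2⟩ := step_parity hk hkm hnc
  obtain ⟨hlam, hm3, hk3'⟩ := step_lambda hk3 hkm hm2 hk2 hnc
  rcases hlam with h6 | h3
  · exact case_six hk3 hkm hnc h6
  · exact (case_three hk3 hkm hm2 hk2 hnc hm3 hk3' h3).elim

end Cfsg.Agent.Helper8.HallSym
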