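import Mathlib

set_option autoImplicit false
set_option linter.unusedSectionVars false
set_option linter.unusedVariables false

/-!
A continuity principle for the dimension of a family of subspaces cut out by a continuous family of
projections of "Casimir type".

Complex twin of `HeckeCont`. Let `Z u` (for real `u > 0`) be subspaces of `ι → ℂ`, and let `Cas u`, `Lc u` be matrices depending
continuously on `u`, with `Lc u` invertible, such that `Cas u` maps everything into `Z u`, agrees
with `Lc u` on `Z u`, and `Lc u` preserves `Z u`.  Then `Cas u * (Lc u)⁻¹` is a projection onto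
`Z u`, its trace is the dimension of `Z u`, and being a continuous integer valued function on the
connected set of positive reals it is constant.
-/

namespace Cfsg.Agent.Helper8.HeckeContC

open Matrix

variable {ι : Type*} [Fintype ι] [DecidableEq ι]

/-- An injective endomorphism of a finite dimensional subspace is surjective: if `L` maps `Z` into
`Z` and is invertible, then `L⁻¹` maps `Z` into `Z`. -/
theorem h8hcc_inv_mem {Z : Submodule ℂ (ι → ℂ)} {L : Matrix ι ι ℂ} (hdet : IsUnit L.det)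
    (hLZ : ∀ z ∈ Z, L.mulVec z ∈ Z) : ∀ z ∈ Z, (L⁻¹).mulVec z ∈ Z := by
  -- the restriction of `L` to `Z`
  let f : Z →ₗ[ℂ] Z :=
    { toFun := fun z => ⟨L.mulVec z.1, hLZ z.1 z.2⟩
      map_add' := fun a b => by
        apply Subtype.ext
        show L.mulVec (a.1 + b.1) = L.mulVec a.1 + L.mulVec b.1
        exact Matrix.mulVec_add _ _ _
      map_smul' := fun c a => by
        apply Subtype.ext
        show L.mulVec (c • a.1) = c • L.mulVec a.1
        exact Matrix.mulVec_smul _ _ _ }
  have hinj : Function.Injective f := by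
    intro a b hab
    have h1 : L.mulVec a.1 = L.mulVec b.1 := congrArg Subtype.val hab
    apply Subtype.ext
    have h2 : (L⁻¹).mulVec (L.mulVec a.1) = (L⁻¹).mulVec (L.mulVec b.1) := by rw [h1]
    rwa [Matrix.mulVec_mulVec, Matrix.mulVec_mulVec, Matrix.nonsing_inv_mul _ hdet,
      Matrix.one_mulVec, Matrix.one_mulVec] at h2
  have hsurj : Function.Surjective f := LinearMap.surjective_of_injective hinj
  intro z hz
  obtain ⟨z', hz'⟩ := hsurj ⟨z, hz⟩
  have h1 : L.mulVec z'.1 = z := congrArg Subtype.val hz'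
  have h2 : (L⁻¹).mulVec z = z'.1 := by
    rw [← h1, Matrix.mulVec_mulVec, Matrix.nonsing_inv_mul _ hdet, Matrix.one_mulVec]
  rw [h2]
  exact z'.2

/-- The trace of `Cas * Lc⁻¹` is the dimension of `Z`. -/
theorem h8hcc_trace_eq {Z : Submodule ℂ (ι → ℂ)} {Cas Lc : Matrix ι ι ℂ} (hdet : IsUnit Lc.det)
    (hCasZ : ∀ v, Cas.mulVec v ∈ Z) (hCasOnZ : ∀ z ∈ Z, Cas.mulVec z = Lc.mulVec z)
    (hLcZ : ∀ z ∈ Z, Lc.mulVec z ∈ Z) :
    (Cas * Lc⁻¹).trace = (Module.finrank ℂ Z : ℂ) := by
  have hinv := h8hcc_inv_mem hdet hLcZ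
  have hproj : LinearMap.IsProj Z (Matrix.toLin' (Cas * Lc⁻¹)) := by
    refine ⟨fun v => ?_, fun z hz => ?_⟩
    · rw [Matrix.toLin'_apply, ← Matrix.mulVec_mulVec]
      exact hCasZ _
    · rw [Matrix.toLin'_apply, ← Matrix.mulVec_mulVec, hCasOnZ _ (hinv z hz),
        Matrix.mulVec_mulVec, Matrix.mul_nonsing_inv _ hdet, Matrix.one_mulVec]
  rw [← Matrix.trace_toLin'_eq]
  exact hproj.trace

/-- The dimension of `Z u` does not depend on `u > 0`. -/
theorem h8hcc_finrank_const (Z : ℝ → Submodule ℂ (ι → ℂ)) (Cas Lc : ℝ → Matrix ι ι ℂ)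
    (hCas : ContinuousOn Cas (Set.Ioi 0)) (hLc : ContinuousOn Lc (Set.Ioi 0))
    (hdet : ∀ u : ℝ, 0 < u → IsUnit (Lc u).det)
    (hCasZ : ∀ u : ℝ, 0 < u → ∀ v, (Cas u).mulVec v ∈ Z u)
    (hCasOnZ : ∀ u : ℝ, 0 < u → ∀ z ∈ Z u, (Cas u).mulVec z = (Lc u).mulVec z)
    (hLcZ : ∀ u : ℝ, 0 < u → ∀ z ∈ Z u, (Lc u).mulVec z ∈ Z u) :
    ∀ u : ℝ, 0 < u → ∀ u' : ℝ, 0 < u' → Module.finrank ℂ (Z u) = Module.finrank ℂ (Z u') := by
  -- the trace function
  set f : ℝ → ℝ := fun u => ((Cas u * (Lc u)⁻¹).trace).re with hf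
  have hfval : ∀ u : ℝ, 0 < u → f u = (Module.finrank ℂ (Z u) : ℝ) := fun u hu => by
    show ((Cas u * (Lc u)⁻¹).trace).re = _
    rw [h8hcc_trace_eq (hdet u hu) (hCasZ u hu) (hCasOnZ u hu) (hLcZ u hu)]
    exact Complex.natCast_re _
  have hfc : ContinuousOn f (Set.Ioi 0) := by
    have hinvc : ContinuousOn (fun u => (Lc u)⁻¹) (Set.Ioi 0) := by
      intro u hu
      have hu0 : (0 : ℝ) < u := hu
      have hne : (Lc u).det ≠ 0 := (hdet u hu0).ne_zero
      have h1 : ContinuousAt Ring.inverse (Lc u).det := by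
        rw [Ring.inverse_eq_inv']
        exact continuousAt_inv₀ hne
      have h2 : ContinuousAt (Inv.inv : Matrix ι ι ℂ → Matrix ι ι ℂ) (Lc u) :=
        continuousAt_matrix_inv (Lc u) h1
      exact h2.comp_continuousWithinAt (hLc u hu)
    rw [continuousOn_iff_continuous_domRestrict] at hCas hinvc ⊢
    have hmul : Continuous (fun u : Set.Ioi (0 : ℝ) => Cas u * (Lc u)⁻¹) :=
      Continuous.matrix_mul hCas hinvc
    exact Complex.continuous_re.comp hmul.matrix_trace
  -- a continuous function with natural number values on a connected set is constant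
  intro u hu u' hu'
  by_contra hne
  have hne' : f u ≠ f u' := by
    rw [hfval u hu, hfval u' hu']
    exact fun h => hne (by exact_mod_cast h)
  -- intermediate value: the value (n + 1/2) would be attained
  rcases lt_or_gt_of_ne hne' with hlt | hlt
  · have hn : (Module.finrank ℂ (Z u) : ℝ) + 1 / 2 ∈ Set.Icc (f u) (f u') := by
      rw [hfval u hu, hfval u' hu']
      rw [hfval u hu, hfval u' hu'] at hlt
      have h1 : Module.finrank ℂ (Z u) < Module.finrank ℂ (Z u') := by exact_mod_cast hlt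
      have h2 : (Module.finrank ℂ (Z u) : ℝ) + 1 ≤ (Module.finrank ℂ (Z u') : ℝ) := by
        exact_mod_cast h1
      constructor <;> linarith
    obtain ⟨x, hx, hfx⟩ := isPreconnected_Ioi.intermediate_value (show u ∈ Set.Ioi (0 : ℝ) from hu)
      (show u' ∈ Set.Ioi (0 : ℝ) from hu') hfc hn
    rw [hfval x hx] at hfx
    have h3 : (2 : ℝ) * (Module.finrank ℂ (Z x) : ℝ) = 2 * (Module.finrank ℂ (Z u) : ℝ) + 1 := by
      linarith
    have h4 : 2 * Module.finrank ℂ (Z x) = 2 * Module.finrank ℂ (Z u) + 1 := by exact_mod_cast h3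
    omega
  · have hn : (Module.finrank ℂ (Z u') : ℝ) + 1 / 2 ∈ Set.Icc (f u') (f u) := by
      rw [hfval u hu, hfval u' hu']
      rw [hfval u hu, hfval u' hu'] at hlt
      have h1 : Module.finrank ℂ (Z u') < Module.finrank ℂ (Z u) := by exact_mod_cast hlt
      have h2 : (Module.finrank ℂ (Z u') : ℝ) + 1 ≤ (Module.finrank ℂ (Z u) : ℝ) := by
        exact_mod_cast h1
      constructor <;> linarith
    obtain ⟨x, hx, hfx⟩ := isPreconnected_Ioi.intermediate_value (show u' ∈ Set.Ioi (0 : ℝ) from hu')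
      (show u ∈ Set.Ioi (0 : ℝ) from hu) hfc hn
    rw [hfval x hx] at hfx
    have h3 : (2 : ℝ) * (Module.finrank ℂ (Z x) : ℝ) = 2 * (Module.finrank ℂ (Z u') : ℝ) + 1 := by
      linarith
    have h4 : 2 * Module.finrank ℂ (Z x) = 2 * Module.finrank ℂ (Z u') + 1 := by exact_mod_cast h3
    omega

end Cfsg.Agent.Helper8.HeckeContC
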