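import Mathlib

set_option autoImplicit false

namespace Cfsg.Agent.Helper8.HeckeOne

variable {W : Type*} [Group W]

/-- Functions on `W` with `v (s x) = v (x s)` for all `s ∈ S`. -/
def h8ho_Z1 (K : Type*) [Semiring K] (S : Set W) : Submodule K (W → K) where
  carrier := {v | ∀ s ∈ S, ∀ x, v (s * x) = v (x * s)}
  add_mem' := by
    intro a b ha hb s hs x
    simp only [Pi.add_apply, ha s hs x, hb s hs x]
  zero_mem' := by
    intro s _ x
    rfl
  smul_mem' := by
    intro c a ha s hs x
    simp only [Pi.smul_apply, ha s hs x]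

theorem h8ho_mem_Z1 {K : Type*} [Semiring K] {S : Set W} {v : W → K} :
    v ∈ h8ho_Z1 K S ↔ ∀ s ∈ S, ∀ x, v (s * x) = v (x * s) := Iff.rfl

/-- If `S` generates `W`, the elements of `h8ho_Z1` are the class functions. -/
theorem h8ho_conj_of_mem {K : Type*} [Semiring K] {S : Set W} (hS : Subgroup.closure S = ⊤)
    {v : W → K} (hv : v ∈ h8ho_Z1 K S) (g x : W) : v (g * x * g⁻¹) = v x := by
  have hg : g ∈ Subgroup.closure S := by rw [hS]; trivial
  revert x
  induction hg using Subgroup.closure_induction with
  | mem s hs =>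
    intro x
    have := hv s hs (x * s⁻¹)
    rw [← mul_assoc] at this
    rw [this]
    simp
  | one => intro x; simp
  | mul a b _ _ iha ihb =>
    intro x
    have : a * b * x * (a * b)⁻¹ = a * (b * x * b⁻¹) * a⁻¹ := by group
    rw [this, iha, ihb]
  | inv a _ iha =>
    intro x
    have := iha (a⁻¹ * x * a⁻¹⁻¹)
    rw [← this]
    congr 1
    group

theorem h8ho_mem_of_conj {K : Type*} [Semiring K] {S : Set W}
    {v : W → K} (hv : ∀ g x : W, v (g * x * g⁻¹) = v x) : v ∈ h8ho_Z1 K S := by
  intro s _ x
  have := hv s (x * s)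
  rw [← this]
  congr 1
  group

/-- The linear equivalence between class functions and functions on conjugacy classes. -/
noncomputable def h8ho_equiv (K : Type*) [Semiring K] {S : Set W}
    (hS : Subgroup.closure S = ⊤) : h8ho_Z1 K S ≃ₗ[K] (ConjClasses W → K) where
  toFun v := fun c => v.1 (Quotient.out c)
  map_add' := by intro a b; rfl
  map_smul' := by intro c a; rfl
  invFun f := ⟨fun x => f (ConjClasses.mk x), h8ho_mem_of_conj (by
    intro g x
    have : ConjClasses.mk (g * x * g⁻¹) = ConjClasses.mk x := by
      rw [ConjClasses.mk_eq_mk_iff_isConj]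
      exact (isConj_iff.mpr ⟨g, rfl⟩).symm
    show f _ = f _
    rw [this])⟩
  left_inv := by
    intro v
    apply Subtype.ext
    funext x
    show v.1 (Quotient.out (ConjClasses.mk x)) = v.1 x
    have h1 : ConjClasses.mk (Quotient.out (ConjClasses.mk x)) = ConjClasses.mk x :=
      Quotient.out_eq _
    rw [ConjClasses.mk_eq_mk_iff_isConj, isConj_iff] at h1
    obtain ⟨c, hc⟩ := h1
    have := h8ho_conj_of_mem hS v.2 c (Quotient.out (ConjClasses.mk x))
    rw [hc] at this
    exact this.symm
  right_inv := by
    intro f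
    funext c
    show f (ConjClasses.mk (Quotient.out c)) = f c
    congr 1
    exact Quotient.out_eq c

theorem h8ho_finrank_Z1 [Finite W] (K : Type*) [Field K] {S : Set W}
    (hS : Subgroup.closure S = ⊤) :
    Module.finrank K (h8ho_Z1 K S) = Nat.card (ConjClasses W) := by
  classical
  have : Fintype W := Fintype.ofFinite W
  have : Fintype (ConjClasses W) := Fintype.ofFinite _
  rw [LinearEquiv.finrank_eq (h8ho_equiv K hS), Module.finrank_fintype_fun_eq_card,
    Nat.card_eq_fintype_card]

end Cfsg.Agent.Helper8.HeckeOne
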