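import Mathlib
import Cfsg.Prelude.Def_Characters
import Cfsg.Prelude.Def_Blocks
import Cfsg.Agent.Helper6.IrrOver
import Cfsg.Agent.Helper6.IrrCrit
import Cfsg.Agent.Helper6.IrrDegree
import Cfsg.Agent.Helper6.BlockPart

/-!
# Isaacs–Passman `(b!)²`: basic facts about characters of maximal degree
-/

set_option autoImplicit false
set_option linter.style.haveILetI false

namespace Cfsg.Agent.Helper8.IP

open Cfsg.Agent.Helper6

universe u

variable {G : Type u} [Group G]

/-- the degree of an irreducible character, as a natural number, is positive -/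
theorem charDegree_pos {X : Type u} [Group X] (χ : Cfsg.IrrCharacter X) :
    0 < Cfsg.charDegree (χ : X → ℂ) := by
  obtain ⟨n, hn, h1⟩ := IsIrrCharacter.apply_one_pos χ.2
  have h2 := charDegree_cast_of_isCharacter (IsIrrCharacter.isCharacter χ.2)
  rw [h1] at h2
  have : Cfsg.charDegree (χ : X → ℂ) = n := by exact_mod_cast h2
  omega

theorem charDegree_eq_of_apply_one {X : Type u} [Group X] (f : X → ℂ) (n : ℕ)
    (h : f 1 = (n : ℂ)) : Cfsg.charDegree f = n := by
  unfold Cfsg.charDegree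
  rw [h, Complex.natCast_re, Nat.floor_natCast]

/-- A character having the irreducible character `θ` as a constituent and of degree at most
`θ(1)` is equal to `θ`. -/
theorem eq_of_constituent_of_degree_le {H : Type u} [Group H] [Fintype H] (res θ : H → ℂ)
    (hres : Cfsg.IsCharacter H res) (hθ : Cfsg.IsIrrCharacter H θ)
    (hne : Cfsg.classInner res θ ≠ 0) (hdeg : Cfsg.charDegree res ≤ Cfsg.charDegree θ) :
    res = θ := by
  classical
  haveI : Finite (Cfsg.IrrCharacter H) := irr_finite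
  haveI : Fintype (Cfsg.IrrCharacter H) := Fintype.ofFinite _
  set θ' : Cfsg.IrrCharacter H := ⟨θ, hθ⟩ with hθ'
  have hcf := IsCharacter.isClassFunction hres
  have hn : ∀ φ : Cfsg.IrrCharacter H, ∃ n : ℕ, Cfsg.classInner res (φ : H → ℂ) = n := fun φ =>
    classInner_char_char_nat hres (IsIrrCharacter.isCharacter φ.2)
  choose n hn using hn
  have hd : ∀ φ : Cfsg.IrrCharacter H, ∃ d : ℕ, 0 < d ∧ (φ : H → ℂ) 1 = d := fun φ =>
    IsIrrCharacter.apply_one_pos φ.2
  choose d hdpos hd using hd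
  have hexp := classFunction_expansion res hcf
  have h1 : res 1 = ((∑ φ : Cfsg.IrrCharacter H, n φ * d φ : ℕ) : ℂ) := by
    conv_lhs => rw [hexp]
    rw [Finset.sum_apply]
    push_cast
    apply Finset.sum_congr rfl
    intro φ _
    rw [Pi.smul_apply, smul_eq_mul, hn, hd]
  have hsum : Cfsg.charDegree res = ∑ φ : Cfsg.IrrCharacter H, n φ * d φ :=
    charDegree_eq_of_apply_one res _ h1
  have hdθ : Cfsg.charDegree θ = d θ' := charDegree_eq_of_apply_one θ _ (hd θ')
  have hnθ : n θ' ≠ 0 := by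
    intro h0
    apply hne
    have := hn θ'
    rw [h0, Nat.cast_zero] at this
    exact this
  have hle : ∑ φ : Cfsg.IrrCharacter H, n φ * d φ ≤ d θ' := by
    rw [← hsum, ← hdθ]
    exact hdeg
  have hbpos : 0 < d θ' := hdpos θ'
  have hsplit : ∑ φ : Cfsg.IrrCharacter H, n φ * d φ =
      n θ' * d θ' + ∑ φ ∈ Finset.univ.erase θ', n φ * d φ :=
    (Finset.add_sum_erase Finset.univ (fun φ => n φ * d φ) (Finset.mem_univ θ')).symm
  have hnθ1 : n θ' = 1 := by
    rw [hsplit] at hle
    have h2 : n θ' * d θ' ≤ d θ' := le_trans (Nat.le_add_right _ _) hle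
    have h3 : n θ' ≤ 1 := by
      by_contra hcon
      push Not at hcon
      have : 2 * d θ' ≤ n θ' * d θ' := Nat.mul_le_mul_right _ hcon
      omega
    omega
  have hrest : ∑ φ ∈ Finset.univ.erase θ', n φ * d φ = 0 := by
    rw [hsplit, hnθ1] at hle
    omega
  have hzero : ∀ φ : Cfsg.IrrCharacter H, φ ≠ θ' → n φ = 0 := by
    intro φ hφ
    have h4 := (Finset.sum_eq_zero_iff.mp hrest) φ (Finset.mem_erase.mpr ⟨hφ, Finset.mem_univ _⟩)
    rcases Nat.mul_eq_zero.mp h4 with h5 | h5
    · exact h5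
    · exact absurd h5 (hdpos φ).ne'
  rw [hexp]
  rw [Finset.sum_eq_single θ']
  · rw [hn θ', hnθ1, Nat.cast_one, one_smul]
  · intro φ _ hφ
    rw [hn φ, hzero φ hφ, Nat.cast_zero, zero_smul]
  · intro h
    exact absurd (Finset.mem_univ _) h

theorem charDegree_restrict (H : Subgroup G) (χ : G → ℂ) :
    Cfsg.charDegree (fun h : H => χ h) = Cfsg.charDegree χ := by
  unfold Cfsg.charDegree
  simp only [Subgroup.coe_one]

/-- (E) An irreducible character of a subgroup whose degree is the maximal degree of `G` is the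
restriction of an irreducible character of `G`. -/
theorem restrict_eq_of_max_degree [Finite G] (b : ℕ)
    (hb : ∀ χ : Cfsg.IrrCharacter G, Cfsg.charDegree (χ : G → ℂ) ≤ b)
    (H : Subgroup G) (θ : Cfsg.IrrCharacter H) (hθ : Cfsg.charDegree (θ : H → ℂ) = b) :
    ∃ χ : Cfsg.IrrCharacter G, (fun h : H => (χ : G → ℂ) h) = (θ : H → ℂ) := by
  classical
  haveI := Fintype.ofFinite G
  haveI : Fintype H := Fintype.ofFinite H
  obtain ⟨χ, hχ⟩ := exists_irr_over H θ
  refine ⟨χ, ?_⟩
  apply eq_of_constituent_of_degree_le _ _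
    (IsCharacter.restrict H (IsIrrCharacter.isCharacter χ.2)) θ.2 hχ
  rw [charDegree_restrict, hθ]
  exact hb χ

/-- (N) An irreducible character `θ` of `H` vanishing off a subgroup `C ≤ H` forces
`|H : C| ≤ θ(1)²`. -/
theorem relIndex_le_of_vanish [Finite G] (H C : Subgroup G) (_hCH : C ≤ H)
    (θ : Cfsg.IrrCharacter H) (hvan : ∀ h : H, (θ : H → ℂ) h ≠ 0 → (h : G) ∈ C) :
    C.relIndex H ≤ Cfsg.charDegree (θ : H → ℂ) ^ 2 := by
  classical
  haveI : Fintype H := Fintype.ofFinite H
  have hchar := IsIrrCharacter.isCharacter θ.2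
  have hnorm := classInner_irr_self θ.2
  rw [classInner_def] at hnorm
  -- ∑_{h} |θ h|² = |H|
  have hdeg : (Cfsg.charDegree (θ : H → ℂ) : ℂ) = (θ : H → ℂ) 1 :=
    charDegree_cast_of_isCharacter hchar
  set d := Cfsg.charDegree (θ : H → ℂ) with hd_def
  have hHpos : (0 : ℝ) < (Nat.card H : ℝ) := by exact_mod_cast Nat.card_pos
  have hsumR : ∑ h : H, ‖(θ : H → ℂ) h‖ ^ 2 = (Nat.card H : ℝ) := by
    have h1 : (∑ h : H, (θ : H → ℂ) h * (starRingEnd ℂ) ((θ : H → ℂ) h)) = (Nat.card H : ℂ) := by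
      have hne : (Nat.card H : ℂ) ≠ 0 := by exact_mod_cast Nat.card_pos.ne'
      field_simp at hnorm
      rw [hnorm]
    have h2 : ∀ h : H, (θ : H → ℂ) h * (starRingEnd ℂ) ((θ : H → ℂ) h) =
        ((‖(θ : H → ℂ) h‖ ^ 2 : ℝ) : ℂ) := by
      intro h
      rw [Complex.mul_conj, Complex.normSq_eq_norm_sq]
    simp_rw [h2] at h1
    rw [← Complex.ofReal_sum] at h1
    exact_mod_cast h1
  -- each term ≤ d², and is 0 off C
  have hbound : ∀ h : H, ‖(θ : H → ℂ) h‖ ^ 2 ≤ if (h : G) ∈ C then (d : ℝ) ^ 2 else 0 := by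
    intro h
    split_ifs with hc
    · have h3 := IsCharacter.norm_le_norm_one hchar h
      rw [← hdeg, Complex.norm_natCast] at h3
      exact pow_le_pow_left₀ (norm_nonneg _) h3 2
    · have : (θ : H → ℂ) h = 0 := by
        by_contra hne
        exact hc (hvan h hne)
      rw [this, norm_zero]
      norm_num
  have hle : (Nat.card H : ℝ) ≤ ∑ h : H, (if (h : G) ∈ C then (d : ℝ) ^ 2 else 0) := by
    rw [← hsumR]
    exact Finset.sum_le_sum (fun h _ => hbound h)
  rw [← Finset.sum_filter, Finset.sum_const, nsmul_eq_mul] at hle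
  have hcardC : (Finset.univ.filter (fun h : H => (h : G) ∈ C)).card = Nat.card (C.subgroupOf H) := by
    rw [Nat.card_eq_fintype_card, Fintype.card_subtype]
    rfl
  rw [hcardC] at hle
  have hmul : Nat.card H ≤ Nat.card (C.subgroupOf H) * d ^ 2 := by exact_mod_cast hle
  have hidx : Nat.card (C.subgroupOf H) * (C.subgroupOf H).index = Nat.card H :=
    Subgroup.card_mul_index _
  rw [Subgroup.relIndex]
  have hpos : 0 < Nat.card (C.subgroupOf H) := Nat.card_pos
  rw [← hidx] at hmul
  exact Nat.le_of_mul_le_mul_left hmul hpos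

end Cfsg.Agent.Helper8.IP
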