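import Mathlib
import Cfsg.Prelude.Def_Characters
import Cfsg.Prelude.Def_Blocks
import Cfsg.Agent.Helper8.IPa
import Cfsg.Agent.Helper6.AbelianInertia

/-!
# Isaacs–Passman `(b!)²`: characters of maximal degree of a normal subgroup with abelian section
-/

set_option autoImplicit false
set_option linter.style.haveILetI false

namespace Cfsg.Agent.Helper8.IP

open Cfsg.Agent.Helper6

universe u

variable {G : Type u} [Group G]

/-- An irreducible character of maximal degree of a subgroup is invariant under conjugation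
by elements of `G` (whenever the conjugate stays in the subgroup). -/
theorem conj_invariant_of_max_degree [Finite G] (b : ℕ)
    (hb : ∀ χ : Cfsg.IrrCharacter G, Cfsg.charDegree (χ : G → ℂ) ≤ b)
    (H : Subgroup G) (θ : H → ℂ) (hirr : Cfsg.IsIrrCharacter H θ)
    (hθ : Cfsg.charDegree θ = b) (x y : H) (g : G) (hxy : (y : G) = g * (x : G) * g⁻¹) :
    θ y = θ x := by
  obtain ⟨χ, hχ⟩ := restrict_eq_of_max_degree b hb H ⟨θ, hirr⟩ hθ
  have hcf := IsCharacter.isClassFunction (IsIrrCharacter.isCharacter χ.2)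
  have h1 : θ y = (χ : G → ℂ) y := (congrFun hχ y).symm
  have h2 : θ x = (χ : G → ℂ) x := (congrFun hχ x).symm
  rw [h1, h2, hxy]
  exact hcf (x : G) g

/-- (L4') Let `K ≤ N` be normal subgroups of `G` with `N / K` abelian and let `θ ∈ Irr(N)` have
the maximal degree of `G`.  If `θ n ≠ 0` then `n` is central modulo `K`. -/
theorem comm_mem_of_max_degree [Finite G] (b : ℕ)
    (hb : ∀ χ : Cfsg.IrrCharacter G, Cfsg.charDegree (χ : G → ℂ) ≤ b)
    (N K : Subgroup G) [hN : N.Normal] [hK : K.Normal]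
    (hab : ∀ a ∈ N, ∀ c ∈ N, a * c * a⁻¹ * c⁻¹ ∈ K)
    (θ : Cfsg.IrrCharacter N) (hθ : Cfsg.charDegree (θ : N → ℂ) = b)
    (n : N) (hn : (θ : N → ℂ) n ≠ 0) (g : G) : g * (n : G) * g⁻¹ * (n : G)⁻¹ ∈ K := by
  classical
  haveI : Fintype N := Fintype.ofFinite N
  by_contra hx
  have hgn : g * (n : G) * g⁻¹ ∈ N := hN.conj_mem _ n.2 g
  set y : N := ⟨g * (n : G) * g⁻¹, hgn⟩ with hy
  haveI : (K.subgroupOf N).Normal := inferInstance
  set Q := N ⧸ K.subgroupOf N with hQ
  have hcomm : ∀ a c : Q, a * c = c * a := by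
    intro a c
    induction a using QuotientGroup.induction_on with
    | H a =>
      induction c using QuotientGroup.induction_on with
      | H c =>
        rw [← QuotientGroup.mk_mul, ← QuotientGroup.mk_mul, QuotientGroup.eq,
          Subgroup.mem_subgroupOf]
        have h2 := hab _ c⁻¹.2 _ a⁻¹.2
        convert h2 using 1
        simp only [Subgroup.coe_mul, Subgroup.coe_inv, inv_inv, mul_inv_rev]
        group
  letI : CommGroup Q := { (inferInstance : Group Q) with mul_comm := hcomm }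
  haveI : NeZero ((Monoid.exponent Q : ℕ) : ℂ) :=
    ⟨by exact_mod_cast Monoid.exponent_ne_zero_of_finite⟩
  have hq : (QuotientGroup.mk (y * n⁻¹) : Q) ≠ 1 := by
    intro h
    rw [QuotientGroup.eq_one_iff, Subgroup.mem_subgroupOf] at h
    apply hx
    simpa [hy] using h
  obtain ⟨φ, hφ⟩ := CommGroup.exists_apply_ne_one_of_hasEnoughRootsOfUnity Q ℂ hq
  set μ : N →* ℂˣ := φ.comp (QuotientGroup.mk' (K.subgroupOf N)) with hμ
  have hirr2 : Cfsg.IsIrrCharacter N ((θ : N → ℂ) * fun a => ((μ a : ℂˣ) : ℂ)) :=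
    IsIrrCharacter.mul_hom μ θ.2
  have hdeg2 : Cfsg.charDegree ((θ : N → ℂ) * fun a => ((μ a : ℂˣ) : ℂ)) = b := by
    rw [← hθ]
    unfold Cfsg.charDegree
    simp only [Pi.mul_apply, map_one, Units.val_one, mul_one]
  have h1 := conj_invariant_of_max_degree b hb N (θ : N → ℂ) θ.2 hθ n y g rfl
  have h2 := conj_invariant_of_max_degree b hb N _ hirr2 hdeg2 n y g rfl
  simp only [Pi.mul_apply] at h2
  rw [h1] at h2
  have h3 : ((μ y : ℂˣ) : ℂ) = ((μ n : ℂˣ) : ℂ) := mul_left_cancel₀ hn h2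
  have h4 : μ y = μ n := Units.ext h3
  apply hφ
  have h5 : μ (y * n⁻¹) = 1 := by
    rw [map_mul, map_inv, h4, mul_inv_cancel]
  exact h5

end Cfsg.Agent.Helper8.IP
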