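import Mathlib
import Cfsg.Prelude.Def_Characters
import Cfsg.Prelude.Def_Blocks
import Cfsg.Agent.Helper8.IPa
import Cfsg.Agent.Helper6.AbelianInertia
import Cfsg.Agent.Helper6.CliffordCorr
import Cfsg.Agent.Helper6.CliffordOrbit

/-!
# Isaacs–Passman `(b!)²`: a fixed-point-free quotient has order at most the maximal degree
-/

set_option autoImplicit false
set_option linter.style.haveILetI false

namespace Cfsg.Agent.Helper8.IP

open Cfsg.Agent.Helper6

universe u

variable {G : Type u} [Group G]

theorem quot_comm (N K : Subgroup G) [hK : K.Normal]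
    (hab : ∀ a ∈ N, ∀ c ∈ N, a * c * a⁻¹ * c⁻¹ ∈ K) :
    ∀ a c : N ⧸ K.subgroupOf N, a * c = c * a := by
  intro a c
  induction a using QuotientGroup.induction_on with
  | H a =>
    induction c using QuotientGroup.induction_on with
    | H c =>
      rw [← QuotientGroup.mk_mul, ← QuotientGroup.mk_mul, QuotientGroup.eq,
        Subgroup.mem_subgroupOf]
      have h2 := hab _ c⁻¹.2 _ a⁻¹.2
      convert h2 using 1
      simp only [Subgroup.coe_mul, Subgroup.coe_inv, inv_inv, mul_inv_rev]
      group

/-- If `N / K` is abelian and nontrivial and every element outside `N` acts on `N / K` without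
nontrivial fixed points, then `|G : N|` is at most the maximal degree of `G`. -/
theorem index_le_of_fpf [Finite G] (b : ℕ)
    (hb : ∀ χ : Cfsg.IrrCharacter G, Cfsg.charDegree (χ : G → ℂ) ≤ b)
    (N K : Subgroup G) [hN : N.Normal] [hK : K.Normal]
    (hNK : ¬ N ≤ K)
    (hab : ∀ a ∈ N, ∀ c ∈ N, a * c * a⁻¹ * c⁻¹ ∈ K)
    (hfpf : ∀ x : G, x ∉ N → ∀ y ∈ N, x * y * x⁻¹ * y⁻¹ ∈ K → y ∈ K) : N.index ≤ b := by
  classical
  haveI := Fintype.ofFinite G
  haveI : Fintype N := Fintype.ofFinite N
  haveI : (K.subgroupOf N).Normal := inferInstance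
  set Q := N ⧸ K.subgroupOf N with hQ
  have hcomm := quot_comm N K hab
  letI : CommGroup Q := { (inferInstance : Group Q) with mul_comm := hcomm }
  haveI : NeZero ((Monoid.exponent Q : ℕ) : ℂ) :=
    ⟨by exact_mod_cast Monoid.exponent_ne_zero_of_finite⟩
  -- a nontrivial element of Q
  obtain ⟨y₀, hy₀N, hy₀K⟩ := SetLike.not_le_iff_exists.mp hNK
  have hq : (QuotientGroup.mk (⟨y₀, hy₀N⟩ : N) : Q) ≠ 1 := by
    intro h
    rw [QuotientGroup.eq_one_iff, Subgroup.mem_subgroupOf] at h
    exact hy₀K h
  obtain ⟨φ, hφ⟩ := CommGroup.exists_apply_ne_one_of_hasEnoughRootsOfUnity Q ℂ hq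
  set μ : N →* ℂˣ := φ.comp (QuotientGroup.mk' (K.subgroupOf N)) with hμ
  set lam : N → ℂ := fun a => ((μ a : ℂˣ) : ℂ) with hlam
  have hlamirr : Cfsg.IsIrrCharacter N lam := isIrrCharacter_of_hom μ
  -- the stabilizer of lam is N
  have hstab : conjStab N lam = N := by
    apply le_antisymm
    · intro x hx
      by_contra hxN
      rw [mem_conjStab] at hx
      -- the induced automorphism of Q
      have hle : K.subgroupOf N ≤ (K.subgroupOf N).comap
          ((MulAut.conjNormal x : N ≃* N) : N →* N) := by
        intro a ha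
        rw [Subgroup.mem_comap, Subgroup.mem_subgroupOf]
        rw [Subgroup.mem_subgroupOf] at ha
        have := hK.conj_mem _ ha x
        simpa [MulAut.conjNormal_apply] using this
      set σ : Q →* Q := QuotientGroup.map (K.subgroupOf N) (K.subgroupOf N)
        ((MulAut.conjNormal x : N ≃* N) : N →* N) hle with hσ
      set τ : Q →* Q := σ / MonoidHom.id Q with hτ
      have hτinj : Function.Injective τ := by
        rw [injective_iff_map_eq_one]
        intro q hq1
        induction q using QuotientGroup.induction_on with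
        | H a =>
          rw [hτ, MonoidHom.div_apply, MonoidHom.id_apply, div_eq_one] at hq1
          rw [hσ, QuotientGroup.map_mk, QuotientGroup.eq, Subgroup.mem_subgroupOf] at hq1
          rw [QuotientGroup.eq_one_iff, Subgroup.mem_subgroupOf]
          have h1 : x * ((a⁻¹ : N) : G) * x⁻¹ * ((a⁻¹ : N) : G)⁻¹ ∈ K := by
            convert hq1 using 1
            simp [MulAut.conjNormal_apply]
            group
          have h2 := hfpf x hxN _ a⁻¹.2 h1
          simpa using h2
      have hτsurj : Function.Surjective τ := Finite.injective_iff_surjective.mp hτinj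
      apply hφ
      obtain ⟨q', hq'⟩ := hτsurj (QuotientGroup.mk (⟨y₀, hy₀N⟩ : N) : Q)
      rw [← hq']
      induction q' using QuotientGroup.induction_on with
      | H a =>
        rw [hτ, MonoidHom.div_apply, MonoidHom.id_apply, map_div, div_eq_one, hσ,
          QuotientGroup.map_mk]
        have h3 := congrFun hx a
        simp only [hlam, conjFun] at h3
        have h4 : μ ⟨x * (a : G) * x⁻¹, hN.conj_mem a a.2 x⟩ = μ a := Units.ext h3
        simp only [hμ, MonoidHom.comp_apply, QuotientGroup.mk'_apply] at h4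
        have h5 : ((MulAut.conjNormal x : N ≃* N) : N →* N) a =
            ⟨x * (a : G) * x⁻¹, hN.conj_mem a a.2 x⟩ :=
          Subtype.ext (by simp [MulAut.conjNormal_apply])
        rw [h5]
        exact h4
    · exact le_conjStab_of_isClassFunction N lam
        (IsCharacter.isClassFunction (IsIrrCharacter.isCharacter hlamirr))
  -- an irreducible character over lam
  obtain ⟨χ, hχ⟩ := exists_irr_over N ⟨lam, hlamirr⟩
  have hdeg := clifford_degree N (χ : G → ℂ) χ.2 lam hlamirr hχ (conjStab N lam)
    (fun g => mem_conjStab N lam g)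
  rw [hstab] at hdeg
  obtain ⟨e, he⟩ := classInner_char_char_nat
    (IsCharacter.restrict N (IsIrrCharacter.isCharacter χ.2)) (IsIrrCharacter.isCharacter hlamirr)
  have hepos : e ≠ 0 := by
    intro h0
    apply hχ
    rw [he, h0, Nat.cast_zero]
  have hlam1 : lam 1 = 1 := by simp [hlam]
  rw [he, hlam1, mul_one] at hdeg
  have hχdeg : (Cfsg.charDegree (χ : G → ℂ) : ℂ) = (χ : G → ℂ) 1 :=
    charDegree_cast_of_isCharacter (IsIrrCharacter.isCharacter χ.2)
  rw [hdeg] at hχdeg
  have h5 : Cfsg.charDegree (χ : G → ℂ) = e * N.index := by exact_mod_cast hχdeg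
  have h6 := hb χ
  rw [h5] at h6
  calc N.index ≤ e * N.index := Nat.le_mul_of_pos_left _ (Nat.pos_of_ne_zero hepos)
    _ ≤ b := h6

end Cfsg.Agent.Helper8.IP
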