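import Mathlib
import Cfsg.Prelude.Def_Characters
import Cfsg.Prelude.Def_Blocks
import Cfsg.Agent.Helper8.IPa
import Cfsg.Agent.Helper6.Linear

/-!
# Isaacs–Passman `(b!)²`: arithmetic and the induction skeleton
-/

set_option autoImplicit false
set_option linter.style.haveILetI false

namespace Cfsg.Agent.Helper8.IP

open Cfsg.Agent.Helper6

open Nat

universe u

theorem arith_one (b i : ℕ) (hb : 1 ≤ b) (hi : i ≤ b ^ 2) :
    i * ((b - 1)! ) ^ 2 ≤ (b !) ^ 2 := by
  obtain ⟨c, rfl⟩ : ∃ c, b = c + 1 := ⟨b - 1, by omega⟩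
  rw [Nat.add_sub_cancel, Nat.factorial_succ, mul_pow]
  exact Nat.mul_le_mul_right _ hi

theorem sq_mul_half_factorial_le (b : ℕ) (hb : 5 ≤ b) : b ^ 2 * (b / 2)! ≤ b ! := by
  induction b, hb using Nat.le_induction with
  | base => decide
  | succ b hb ih =>
    have h1 : ((b + 1) / 2)! ≤ (b / 2 + 1)! := Nat.factorial_le (by omega)
    rw [Nat.factorial_succ (b / 2)] at h1
    rw [Nat.factorial_succ b]
    have h2 : (b + 1) * (b / 2 + 1) ≤ b ^ 2 := by
      have h3 : 2 * (b / 2) ≤ b := Nat.mul_div_le b 2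
      nlinarith
    calc (b + 1) ^ 2 * ((b + 1) / 2)! ≤ (b + 1) ^ 2 * ((b / 2 + 1) * (b / 2)!) :=
          Nat.mul_le_mul_left _ h1
      _ = (b + 1) * ((b + 1) * (b / 2 + 1) * (b / 2)!) := by ring
      _ ≤ (b + 1) * (b ^ 2 * (b / 2)!) :=
          Nat.mul_le_mul_left _ (Nat.mul_le_mul_right _ h2)
      _ ≤ (b + 1) * b ! := Nat.mul_le_mul_left _ ih

theorem arith_three (b i : ℕ) (hb : 5 ≤ b) (hi : i ≤ b ^ 4) :
    i * ((b / 2)!) ^ 2 ≤ (b !) ^ 2 := by
  have h1 := sq_mul_half_factorial_le b hb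
  calc i * ((b / 2)!) ^ 2 ≤ b ^ 4 * ((b / 2)!) ^ 2 := Nat.mul_le_mul_right _ hi
    _ = (b ^ 2 * (b / 2)!) ^ 2 := by ring
    _ ≤ (b !) ^ 2 := Nat.pow_le_pow_left h1 2

theorem arith_two (b i : ℕ) (hb : 3 ≤ b) (hi : i ≤ b ^ 3) :
    i * ((b / 2)!) ^ 2 ≤ (b !) ^ 2 := by
  rcases Nat.lt_or_ge b 5 with h5 | h5
  · interval_cases b
    · have : (3 / 2)! = 1 := by decide
      rw [this]
      have : (3 !) = 6 := by decide
      rw [this]
      omega
    · have : (4 / 2)! = 2 := by decide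
      rw [this]
      have : (4 !) = 24 := by decide
      rw [this]
      omega
  · apply arith_three b i h5
    calc i ≤ b ^ 3 := hi
      _ ≤ b ^ 4 := Nat.pow_le_pow_right (by omega) (by omega)

/-- The induction skeleton: if every nonabelian group with maximal degree `b` has a proper
subgroup `H` with degrees bounded by `c` and `|G:H| (c!)² ≤ (b!)²`, then every group has an
abelian subgroup of index at most `(b!)²`. -/
theorem induction_skeleton
    (step : ∀ (G : Type u) [Group G] [Finite G] (b : ℕ),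
      (∀ χ : Cfsg.IrrCharacter G, Cfsg.charDegree (χ : G → ℂ) ≤ b) →
      (∃ χ : Cfsg.IrrCharacter G, Cfsg.charDegree (χ : G → ℂ) = b) →
      (¬ ∀ x y : G, x * y = y * x) →
      ∃ (H : Subgroup G) (c : ℕ), H ≠ ⊤ ∧
        (∀ θ : Cfsg.IrrCharacter H, Cfsg.charDegree (θ : H → ℂ) ≤ c) ∧
        H.index * (c !) ^ 2 ≤ (b !) ^ 2)
    (n : ℕ) : ∀ (G : Type u) [Group G] [Finite G], Nat.card G ≤ n → ∀ b : ℕ,
      (∀ χ : Cfsg.IrrCharacter G, Cfsg.charDegree (χ : G → ℂ) ≤ b) →
      ∃ A : Subgroup G, (∀ x ∈ A, ∀ y ∈ A, x * y = y * x) ∧ A.index ≤ (b !) ^ 2 := by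
  induction n with
  | zero =>
    intro G _ _ hcard
    have := Nat.card_pos (α := G)
    omega
  | succ n ih =>
    intro G _ _ hcard b hb
    classical
    by_cases hab : ∀ x y : G, x * y = y * x
    · refine ⟨⊤, fun x _ y _ => hab x y, ?_⟩
      rw [Subgroup.index_top]
      exact Nat.one_le_iff_ne_zero.mpr (pow_ne_zero _ (Nat.factorial_ne_zero b))
    · -- the maximal degree
      haveI : Finite (Cfsg.IrrCharacter G) := irr_finite
      haveI : Fintype (Cfsg.IrrCharacter G) := Fintype.ofFinite _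
      haveI : Nonempty (Cfsg.IrrCharacter G) :=
        ⟨⟨_, isIrrCharacter_of_hom (1 : G →* ℂˣ)⟩⟩
      obtain ⟨χ₀, -, hχ₀⟩ := Finset.exists_max_image (Finset.univ : Finset (Cfsg.IrrCharacter G))
        (fun χ => Cfsg.charDegree (χ : G → ℂ)) Finset.univ_nonempty
      set b₀ := Cfsg.charDegree (χ₀ : G → ℂ) with hb₀
      have hb₀le : b₀ ≤ b := hb χ₀
      obtain ⟨H, c, hHtop, hHc, hHidx⟩ := step G b₀ (fun χ => hχ₀ χ (Finset.mem_univ _))
        ⟨χ₀, rfl⟩ hab
      have hlt : Nat.card H < Nat.card G := by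
        have h1 : Nat.card H * H.index = Nat.card G := Subgroup.card_mul_index H
        have h2 : H.index ≠ 1 := fun h => hHtop (Subgroup.index_eq_one.mp h)
        have h3 : H.index ≠ 0 := Subgroup.index_ne_zero_of_finite
        have h4 : 0 < Nat.card H := Nat.card_pos
        have h5 : 2 ≤ H.index := by omega
        nlinarith
      obtain ⟨A, hA, hAidx⟩ := ih H (by omega) c hHc
      refine ⟨A.map H.subtype, ?_, ?_⟩
      · rintro x ⟨x', hx', rfl⟩ y ⟨y', hy', rfl⟩
        have := hA x' hx' y' hy'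
        rw [← map_mul, ← map_mul, this]
      · have h1 : (A.map H.subtype).index = A.index * H.index := by
          rw [Subgroup.index_map_subtype]
        rw [h1]
        calc A.index * H.index ≤ (c !) ^ 2 * H.index := Nat.mul_le_mul_right _ hAidx
          _ = H.index * (c !) ^ 2 := Nat.mul_comm _ _
          _ ≤ (b₀ !) ^ 2 := hHidx
          _ ≤ (b !) ^ 2 := Nat.pow_le_pow_left (Nat.factorial_le hb₀le) 2

end Cfsg.Agent.Helper8.IP
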