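import Mathlib
import Cfsg.Prelude.Def_Characters
import Cfsg.Prelude.Def_Blocks
import Cfsg.Agent.Helper8.IPa
import Cfsg.Agent.Helper8.IPb
import Cfsg.Agent.Helper8.IPc
import Cfsg.Agent.Helper8.IPm
import Cfsg.Agent.Helper1.DegLtA
import Cfsg.Agent.Helper6.Ito
import Cfsg.Agent.Helper6.Codegree

/-!
# Isaacs–Passman `(b!)²`: the Frobenius case
-/

set_option autoImplicit false
set_option linter.style.haveILetI false

namespace Cfsg.Agent.Helper8.IP

open Cfsg.Agent.Helper6

open Nat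

universe u

variable {G : Type u} [Group G]

/-- degrees of subgroups are bounded by the bound for the group -/
theorem degree_le_subgroup [Finite G] (b : ℕ)
    (hb : ∀ χ : Cfsg.IrrCharacter G, Cfsg.charDegree (χ : G → ℂ) ≤ b) (H : Subgroup G)
    (ψ : Cfsg.IrrCharacter H) : Cfsg.charDegree (ψ : H → ℂ) ≤ b := by
  have := Cfsg.Agent.Helper1.DegLt.degree_lt_subgroup (b + 1)
    (fun χ => Nat.lt_succ_of_le (hb χ)) H ψ
  omega

/-- a group all of whose irreducible characters have degree at most `1` is abelian -/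
theorem comm_of_degree_le_one {X : Type u} [Group X] [Finite X]
    (h : ∀ χ : Cfsg.IrrCharacter X, Cfsg.charDegree (χ : X → ℂ) ≤ 1) :
    ∀ a c : X, a * c = c * a := by
  rw [comm_iff_forall_irr_degree_one]
  intro χ
  have h1 := charDegree_pos χ
  have h2 : Cfsg.charDegree (χ : X → ℂ) = 1 := le_antisymm (h χ) h1
  rw [← charDegree_cast_of_isCharacter (IsIrrCharacter.isCharacter χ.2), h2, Nat.cast_one]

/-- Itô's theorem in character form -/
theorem charDegree_dvd_index_of_abelian [Finite G] (χ : Cfsg.IrrCharacter G) (A : Subgroup G)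
    [A.Normal] (hA : ∀ a ∈ A, ∀ c ∈ A, a * c = c * a) :
    Cfsg.charDegree (χ : G → ℂ) ∣ A.index := by
  obtain ⟨n, ρ, hirr, hρ⟩ := χ.2
  haveI := hirr
  have hn : Cfsg.charDegree (χ : G → ℂ) = n := by
    rw [← hρ, charDegree_rep]
  rw [hn]
  have h1 := ito ρ A hA
  rwa [Module.finrank_fin_fun] at h1

/-- The Frobenius case of the step. -/
theorem frobenius_case [Finite G] (b : ℕ)
    (hb : ∀ χ : Cfsg.IrrCharacter G, Cfsg.charDegree (χ : G → ℂ) ≤ b) (hb2 : 2 ≤ b)
    (K N : Subgroup G) [hK : K.Normal] [hN : N.Normal] (hKN : K ≤ N) (hNK : ¬ N ≤ K)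
    (hab : ∀ a ∈ N, ∀ c ∈ N, a * c * a⁻¹ * c⁻¹ ∈ K)
    (hNtop : N ≠ ⊤)
    (hcop : (K.relIndex N).Coprime N.index)
    (hfpf : ∀ x : G, x ∉ N → ∀ y ∈ N, x * y * x⁻¹ * y⁻¹ ∈ K → y ∈ K)
    (hD : ∀ β : Cfsg.IrrCharacter K, 2 * Cfsg.charDegree (β : K → ℂ) ≤ b) :
    ∃ (H : Subgroup G) (c : ℕ), H ≠ ⊤ ∧
      (∀ θ : Cfsg.IrrCharacter H, Cfsg.charDegree (θ : H → ℂ) ≤ c) ∧
      H.index * (c !) ^ 2 ≤ (b !) ^ 2 := by
  classical
  have hf : N.index ≤ b := index_le_of_fpf b hb N K hNK hab hfpf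
  by_cases hNdeg : ∀ θ : Cfsg.IrrCharacter N, Cfsg.charDegree (θ : N → ℂ) ≤ b - 1
  · refine ⟨N, b - 1, hNtop, hNdeg, ?_⟩
    apply arith_one b _ (by omega)
    calc N.index ≤ b := hf
      _ ≤ b ^ 2 := by nlinarith
  · push Not at hNdeg
    obtain ⟨θ, hθ⟩ := hNdeg
    have hθb : Cfsg.charDegree (θ : N → ℂ) = b := by
      have := degree_le_subgroup b hb N θ
      omega
    -- θ vanishes off K
    obtain ⟨x, hx⟩ : ∃ x : G, x ∉ N := by
      by_contra hcon
      push Not at hcon
      exact hNtop (Subgroup.eq_top_iff' N |>.mpr hcon)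
    have hvan : ∀ n : N, (θ : N → ℂ) n ≠ 0 → (n : G) ∈ K := by
      intro n hn
      have h1 := comm_mem_of_max_degree b hb N K hab θ hθb n hn x
      exact hfpf x hx n n.2 h1
    have hrel : K.relIndex N ≤ b ^ 2 := by
      have := relIndex_le_of_vanish N K hKN θ hvan
      rwa [hθb] at this
    have hKidx : K.index = K.relIndex N * N.index := (Subgroup.relIndex_mul_index hKN).symm
    have hKdeg : ∀ β : Cfsg.IrrCharacter K, Cfsg.charDegree (β : K → ℂ) ≤ b / 2 := by
      intro β
      have := hD β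
      omega
    have hKtop : K ≠ ⊤ := by
      intro h
      apply hNtop
      rw [eq_top_iff, ← h]
      exact hKN
    -- b = 2 is impossible
    have hb3 : 3 ≤ b := by
      by_contra hcon
      have hb2' : b = 2 := by omega
      subst hb2'
      have hKab : ∀ a c : K, a * c = c * a := comm_of_degree_le_one (fun β => by
        have := hKdeg β
        omega)
      have hKNab : ∀ a ∈ K.subgroupOf N, ∀ c ∈ K.subgroupOf N, a * c = c * a := by
        intro a ha c hc
        rw [Subgroup.mem_subgroupOf] at ha hc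
        have := hKab ⟨a, ha⟩ ⟨c, hc⟩
        apply Subtype.ext
        have h2 := congrArg (fun z : K => (z : G)) this
        simpa using h2
      have hdvd := charDegree_dvd_index_of_abelian θ (K.subgroupOf N) hKNab
      rw [hθb] at hdvd
      change 2 ∣ K.relIndex N at hdvd
      have hN2 : N.index = 2 := by
        have h1 : N.index ≠ 1 := fun h => hNtop (Subgroup.index_eq_one.mp h)
        have h0 : N.index ≠ 0 := Subgroup.index_ne_zero_of_finite
        omega
      rw [hN2] at hcop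
      have := Nat.Coprime.eq_one_of_dvd hcop.symm hdvd
      omega
    refine ⟨K, b / 2, hKtop, hKdeg, ?_⟩
    apply arith_two b _ hb3
    rw [hKidx]
    calc K.relIndex N * N.index ≤ b ^ 2 * b := Nat.mul_le_mul hrel hf
      _ = b ^ 3 := by ring

end Cfsg.Agent.Helper8.IP
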