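import Mathlib
import Cfsg.Prelude.Def_Characters
import Cfsg.Prelude.Def_Blocks
import Cfsg.Agent.Helper8.IPa
import Cfsg.Agent.Helper6.IrrCount
import Cfsg.Agent.Helper6.Linear

/-!
# Isaacs–Passman `(b!)²`: a nontrivial class of size at most `b²`
-/

set_option autoImplicit false
set_option linter.style.haveILetI false

namespace Cfsg.Agent.Helper8.IP

open Cfsg.Agent.Helper6

universe u

variable {Q : Type u} [Group Q]

theorem card_carrier_mk [Finite Q] (x : Q) :
    Nat.card (ConjClasses.mk x).carrier = (Subgroup.centralizer ({x} : Set Q)).index := by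
  have h1 := card_conj_mul_card_centralizer x
  have h2 : (Subgroup.centralizer ({x} : Set Q)).index *
      Nat.card (Subgroup.centralizer ({x} : Set Q)) = Nat.card Q :=
    Subgroup.index_mul_card _
  have h3 : Nat.card (ConjClasses.mk x).carrier = Nat.card {y : Q // IsConj x y} := by
    apply Nat.card_congr
    refine Equiv.subtypeEquivRight ?_
    intro y
    rw [ConjClasses.mem_carrier_iff_mk_eq, ConjClasses.mk_eq_mk_iff_isConj]
    exact ⟨fun h => h.symm, fun h => h.symm⟩
  rw [h3]
  have hpos : 0 < Nat.card (Subgroup.centralizer ({x} : Set Q)) := Nat.card_pos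
  exact Nat.eq_of_mul_eq_mul_right hpos (h1.trans h2.symm)

/-- A nontrivial finite group all of whose degrees are at most `b` has a nonidentity element
whose class has at most `b²` elements. -/
theorem exists_small_class [Finite Q] [Nontrivial Q] (b : ℕ)
    (hb : ∀ χ : Cfsg.IrrCharacter Q, Cfsg.charDegree (χ : Q → ℂ) ≤ b) :
    ∃ x : Q, x ≠ 1 ∧ (Subgroup.centralizer ({x} : Set Q)).index ≤ b ^ 2 := by
  classical
  haveI := Fintype.ofFinite Q
  haveI : Finite (Cfsg.IrrCharacter Q) := irr_finite
  haveI : Fintype (Cfsg.IrrCharacter Q) := Fintype.ofFinite _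
  haveI : Fintype (ConjClasses Q) := Fintype.ofFinite _
  by_contra hcon
  push Not at hcon
  -- the class equation
  have hcls : ∑ c : ConjClasses Q, Nat.card c.carrier = Nat.card Q := by
    have := sum_conjClasses_card_eq_card Q
    rw [Nat.card_eq_fintype_card, ← this]
    apply Finset.sum_congr rfl
    intro c _
    rw [Nat.card_eq_fintype_card, Set.toFinset_card]
  have hk : Fintype.card (Cfsg.IrrCharacter Q) = Fintype.card (ConjClasses Q) := by
    rw [← Nat.card_eq_fintype_card, ← Nat.card_eq_fintype_card]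
    exact card_irr_eq_card_conjClasses
  -- lower bound
  have hlow : 1 + (Fintype.card (ConjClasses Q) - 1) * (b ^ 2 + 1) ≤ Nat.card Q := by
    rw [← hcls, ← Finset.add_sum_erase Finset.univ _ (Finset.mem_univ (ConjClasses.mk (1 : Q)))]
    have h1 : Nat.card (ConjClasses.mk (1 : Q)).carrier = 1 := by
      rw [card_carrier_mk, centralizer_one, Subgroup.index_top]
    rw [h1]
    apply Nat.add_le_add_left
    have h2 : (Finset.univ.erase (ConjClasses.mk (1 : Q))).card =
        Fintype.card (ConjClasses Q) - 1 := by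
      rw [Finset.card_erase_of_mem (Finset.mem_univ _), Finset.card_univ]
    rw [← h2, ← smul_eq_mul, ← Finset.sum_const]
    apply Finset.sum_le_sum
    intro c hc
    rw [Finset.mem_erase] at hc
    obtain ⟨x, rfl⟩ := ConjClasses.mk_surjective c
    rw [card_carrier_mk]
    have hx : x ≠ 1 := by
      rintro rfl
      exact hc.1 rfl
    have := hcon x hx
    omega
  -- upper bound
  have hd : ∀ χ : Cfsg.IrrCharacter Q, (χ : Q → ℂ) 1 = (Cfsg.charDegree (χ : Q → ℂ) : ℂ) := fun χ =>
    (charDegree_cast_of_isCharacter (IsIrrCharacter.isCharacter χ.2)).symm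
  have hsum : ∑ χ : Cfsg.IrrCharacter Q, Cfsg.charDegree (χ : Q → ℂ) ^ 2 = Nat.card Q := by
    have h := sum_sq_degrees (G := Q)
    simp_rw [hd] at h
    exact_mod_cast h
  set χ₁ : Cfsg.IrrCharacter Q := ⟨_, isIrrCharacter_of_hom (1 : Q →* ℂˣ)⟩ with hχ₁
  have hχ₁deg : Cfsg.charDegree (χ₁ : Q → ℂ) = 1 := by
    have : ((Cfsg.charDegree (χ₁ : Q → ℂ) : ℕ) : ℂ) = 1 := by
      rw [← hd]
      simp [hχ₁]
    exact_mod_cast this
  have hup : Nat.card Q ≤ 1 + (Fintype.card (ConjClasses Q) - 1) * b ^ 2 := by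
    rw [← hsum, ← Finset.add_sum_erase Finset.univ _ (Finset.mem_univ χ₁), hχ₁deg, one_pow]
    apply Nat.add_le_add_left
    have h2 : (Finset.univ.erase χ₁).card = Fintype.card (ConjClasses Q) - 1 := by
      rw [Finset.card_erase_of_mem (Finset.mem_univ _), Finset.card_univ, hk]
    rw [← h2, ← smul_eq_mul, ← Finset.sum_const]
    apply Finset.sum_le_sum
    intro χ _
    exact Nat.pow_le_pow_left (hb χ) 2
  -- so there is only one class
  have hk1 : Fintype.card (ConjClasses Q) - 1 = 0 := by
    by_contra hne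
    have hpos : 0 < Fintype.card (ConjClasses Q) - 1 := Nat.pos_of_ne_zero hne
    have : (Fintype.card (ConjClasses Q) - 1) * (b ^ 2 + 1) ≤
        (Fintype.card (ConjClasses Q) - 1) * b ^ 2 := by omega
    have h3 := Nat.le_of_mul_le_mul_left this hpos
    omega
  obtain ⟨x, hx⟩ := exists_ne (1 : Q)
  have hne : ConjClasses.mk x ≠ ConjClasses.mk (1 : Q) := by
    intro h
    rw [ConjClasses.mk_eq_mk_iff_isConj, isConj_one_left] at h
    exact hx h
  have h2 : 1 < Fintype.card (ConjClasses Q) :=
    Fintype.one_lt_card_iff.mpr ⟨_, _, hne⟩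
  omega

end Cfsg.Agent.Helper8.IP
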