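import Mathlib
import Cfsg.Prelude.Def_Characters
import Cfsg.Prelude.Def_Blocks
import Cfsg.Agent.Helper8.IPa
import Cfsg.Agent.Helper6.CliffordCorr
import Cfsg.Agent.Helper6.CliffordOrbit
import Cfsg.Agent.Helper6.Gallagher
import Cfsg.Agent.Helper6.Inflation
import Cfsg.Agent.Helper6.Linear

/-!
# Isaacs–Passman `(b!)²`: degrees of a normal subgroup with nonabelian quotient
-/

set_option autoImplicit false
set_option linter.style.haveILetI false

namespace Cfsg.Agent.Helper8.IP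

open Cfsg.Agent.Helper6

universe u

variable {G : Type u} [Group G]

/-- (D) If `G / N` is nonabelian then twice every degree of `N` is at most the maximal degree
of `G`. -/
theorem two_mul_degree_le [Finite G] (b : ℕ)
    (hb : ∀ χ : Cfsg.IrrCharacter G, Cfsg.charDegree (χ : G → ℂ) ≤ b)
    (N : Subgroup G) [hN : N.Normal] (hna : ¬ commutator G ≤ N)
    (β : Cfsg.IrrCharacter N) : 2 * Cfsg.charDegree (β : N → ℂ) ≤ b := by
  classical
  haveI := Fintype.ofFinite G
  haveI : Fintype N := Fintype.ofFinite N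
  obtain ⟨χ, hχ⟩ := exists_irr_over N β
  have hdeg := clifford_degree N (χ : G → ℂ) χ.2 (β : N → ℂ) β.2 hχ (conjStab N (β : N → ℂ))
    (fun g => mem_conjStab N (β : N → ℂ) g)
  obtain ⟨e, he⟩ := classInner_char_char_nat
    (IsCharacter.restrict N (IsIrrCharacter.isCharacter χ.2)) (IsIrrCharacter.isCharacter β.2)
  have hepos : e ≠ 0 := by
    intro h0
    apply hχ
    rw [he, h0, Nat.cast_zero]
  set t := (conjStab N (β : N → ℂ)).index with ht
  have htpos : t ≠ 0 := Subgroup.index_ne_zero_of_finite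
  have hχdeg : (Cfsg.charDegree (χ : G → ℂ) : ℂ) = (χ : G → ℂ) 1 :=
    charDegree_cast_of_isCharacter (IsIrrCharacter.isCharacter χ.2)
  have hβdeg : (Cfsg.charDegree (β : N → ℂ) : ℂ) = (β : N → ℂ) 1 :=
    charDegree_cast_of_isCharacter (IsIrrCharacter.isCharacter β.2)
  rw [he, ← hχdeg, ← hβdeg] at hdeg
  have h1 : Cfsg.charDegree (χ : G → ℂ) = e * t * Cfsg.charDegree (β : N → ℂ) := by
    exact_mod_cast hdeg
  by_cases het : 2 ≤ e * t
  · calc 2 * Cfsg.charDegree (β : N → ℂ) ≤ e * t * Cfsg.charDegree (β : N → ℂ) :=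
        Nat.mul_le_mul_right _ het
      _ = Cfsg.charDegree (χ : G → ℂ) := h1.symm
      _ ≤ b := hb χ
  · have het1 : e * t = 1 := by
      have : e * t ≠ 0 := Nat.mul_ne_zero hepos htpos
      omega
    rw [het1, one_mul] at h1
    -- χ restricts to β
    have hres : (fun n : N => (χ : G → ℂ) n) = (β : N → ℂ) := by
      apply eq_of_constituent_of_degree_le _ _
        (IsCharacter.restrict N (IsIrrCharacter.isCharacter χ.2)) β.2 hχ
      rw [charDegree_restrict, h1]
    have hχN : Cfsg.IsIrrCharacter N (fun n : N => (χ : G → ℂ) n) := by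
      rw [hres]
      exact β.2
    -- a nonlinear character of the quotient
    have hnc : ¬ ∀ a c : G ⧸ N, a * c = c * a := by
      intro hc
      apply hna
      rw [← Subgroup.Normal.quotient_commutative_iff_commutator_le]
      exact ⟨⟨hc⟩⟩
    rw [comm_iff_forall_irr_degree_one] at hnc
    push Not at hnc
    obtain ⟨ξ, hξ⟩ := hnc
    set ξ₀ : Cfsg.IrrCharacter G := ⟨_, isIrrCharacter_inflate N ξ⟩ with hξ₀
    have hξker : ∀ n ∈ N, (ξ₀ : G → ℂ) n = (ξ₀ : G → ℂ) 1 := by
      intro n hn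
      simp only [hξ₀, Function.comp_apply]
      rw [(QuotientGroup.eq_one_iff n).mpr hn, QuotientGroup.mk_one]
    have hirr := gallagher_irr N χ.2 hχN ξ₀ hξker
    have h2 := hb ⟨_, hirr⟩
    have hξdeg : (Cfsg.charDegree (ξ : G ⧸ N → ℂ) : ℂ) = (ξ : G ⧸ N → ℂ) 1 :=
      charDegree_cast_of_isCharacter (IsIrrCharacter.isCharacter ξ.2)
    have h3 : Cfsg.charDegree ((ξ₀ : G → ℂ) * (χ : G → ℂ)) =
        Cfsg.charDegree (ξ : G ⧸ N → ℂ) * Cfsg.charDegree (χ : G → ℂ) := by
      apply charDegree_eq_of_apply_one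
      rw [Pi.mul_apply, Nat.cast_mul, hχdeg, hξdeg]
      simp only [hξ₀, Function.comp_apply, QuotientGroup.mk_one]
    have h4 : 2 ≤ Cfsg.charDegree (ξ : G ⧸ N → ℂ) := by
      have hpos := charDegree_pos ξ
      have hne1 : Cfsg.charDegree (ξ : G ⧸ N → ℂ) ≠ 1 := by
        intro h
        apply hξ
        rw [← hξdeg, h, Nat.cast_one]
      omega
    change Cfsg.charDegree ((ξ₀ : G → ℂ) * (χ : G → ℂ)) ≤ b at h2
    rw [h3, h1] at h2
    calc 2 * Cfsg.charDegree (β : N → ℂ)
        ≤ Cfsg.charDegree (ξ : G ⧸ N → ℂ) * Cfsg.charDegree (β : N → ℂ) :=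
          Nat.mul_le_mul_right _ h4
      _ ≤ b := h2

end Cfsg.Agent.Helper8.IP
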