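import Mathlib
import Cfsg.Prelude.Def_Characters
import Cfsg.Prelude.Def_Blocks
import Cfsg.Agent.Helper8.IPa
import Cfsg.Agent.Helper6.DixD
import Cfsg.Agent.Helper6.Inflation
import Cfsg.Agent.Helper6.Linear

/-!
# Isaacs–Passman `(b!)²`: the fully ramified character in the `p`-group case
-/

set_option autoImplicit false
set_option linter.style.haveILetI false

namespace Cfsg.Agent.Helper8.IP

open Cfsg.Agent.Helper6 Cfsg.Agent.Helper6.Dix

open scoped ComplexConjugate

universe u

variable {Q : Type u} [Group Q]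

/-- the sum of `‖χ g‖²` over the group is the group order -/
theorem sum_norm_sq_irr [Fintype Q] (χ : Cfsg.IrrCharacter Q) :
    ∑ g : Q, ‖(χ : Q → ℂ) g‖ ^ 2 = (Nat.card Q : ℝ) := by
  have hnorm := classInner_irr_self χ.2
  rw [classInner_def] at hnorm
  have h1 : (∑ h : Q, (χ : Q → ℂ) h * conj ((χ : Q → ℂ) h)) = (Nat.card Q : ℂ) := by
    have hne : (Nat.card Q : ℂ) ≠ 0 := by exact_mod_cast Nat.card_pos.ne'
    field_simp at hnorm
    rw [hnorm]
  have h2 : ∀ h : Q, (χ : Q → ℂ) h * conj ((χ : Q → ℂ) h) =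
      ((‖(χ : Q → ℂ) h‖ ^ 2 : ℝ) : ℂ) := by
    intro h
    rw [Complex.mul_conj, Complex.normSq_eq_norm_sq]
  simp_rw [h2] at h1
  rw [← Complex.ofReal_sum] at h1
  exact_mod_cast h1

/-- the absolute value of an irreducible character at a central element is its degree -/
theorem norm_sq_of_mem_center [Finite Q] (χ : Cfsg.IrrCharacter Q) (z : Q)
    (hz : z ∈ Subgroup.center Q) :
    ‖(χ : Q → ℂ) z‖ ^ 2 = ((Cfsg.charDegree (χ : Q → ℂ) : ℕ) : ℝ) ^ 2 := by
  have hchar := IsIrrCharacter.isCharacter χ.2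
  have h1 := char_central_mul χ.2 z hz z⁻¹
  rw [mul_inv_cancel, IsCharacter.inv_eq_conj hchar, Complex.mul_conj,
    Complex.normSq_eq_norm_sq] at h1
  have hdeg : (Cfsg.charDegree (χ : Q → ℂ) : ℂ) = (χ : Q → ℂ) 1 :=
    charDegree_cast_of_isCharacter hchar
  rw [← hdeg] at h1
  have h2 : (((Cfsg.charDegree (χ : Q → ℂ) : ℕ) : ℝ) ^ 2 : ℂ) =
      ((‖(χ : Q → ℂ) z‖ ^ 2 : ℝ) : ℂ) := by
    rw [← h1]
    push_cast
    ring
  exact_mod_cast h2.symm

/-- In a nonabelian `p`-group all of whose nontrivial normal subgroups contain the commutator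
subgroup there is a nonlinear irreducible character vanishing off the centre, and the square
of its degree is the index of the centre. -/
theorem exists_fully_ramified [Finite Q] (p : ℕ) [hp : Fact p.Prime] (hQ : IsPGroup p Q)
    (hnc : ¬ ∀ a c : Q, a * c = c * a)
    (hmin : ∀ M : Subgroup Q, M.Normal → M ≠ ⊥ → commutator Q ≤ M) :
    ∃ ξ : Cfsg.IrrCharacter Q, 2 ≤ Cfsg.charDegree (ξ : Q → ℂ) ∧
      (∀ q : Q, q ∉ Subgroup.center Q → (ξ : Q → ℂ) q = 0) ∧
      Cfsg.charDegree (ξ : Q → ℂ) ^ 2 = (Subgroup.center Q).index := by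
  classical
  haveI := Fintype.ofFinite Q
  have hnc' := hnc
  rw [comm_iff_forall_irr_degree_one] at hnc'
  push Not at hnc'
  obtain ⟨ξ, hξ⟩ := hnc'
  have hchar := IsIrrCharacter.isCharacter ξ.2
  have hdeg : (Cfsg.charDegree (ξ : Q → ℂ) : ℂ) = (ξ : Q → ℂ) 1 :=
    charDegree_cast_of_isCharacter hchar
  have hd2 : 2 ≤ Cfsg.charDegree (ξ : Q → ℂ) := by
    have hpos := charDegree_pos ξ
    have hne1 : Cfsg.charDegree (ξ : Q → ℂ) ≠ 1 := by
      intro h
      apply hξ
      rw [← hdeg, h, Nat.cast_one]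
    omega
  -- the centre is nontrivial, so contains the commutator subgroup
  haveI : Nontrivial Q := by
    by_contra hcon
    rw [not_nontrivial_iff_subsingleton] at hcon
    exact hnc (fun a c => Subsingleton.elim _ _)
  have hZne : Subgroup.center Q ≠ ⊥ := by
    have := hQ.center_nontrivial
    intro h
    rw [h] at this
    exact not_nontrivial _ this
  have hcomZ : commutator Q ≤ Subgroup.center Q := hmin _ inferInstance hZne
  have hvan : ∀ q : Q, q ∉ Subgroup.center Q → (ξ : Q → ℂ) q = 0 := by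
    intro q hq
    rw [Subgroup.mem_center_iff] at hq
    push Not at hq
    obtain ⟨k, hk⟩ := hq
    have hcne : k * q * k⁻¹ * q⁻¹ ≠ 1 := by
      intro h
      apply hk
      have : k * q = q * k := by
        have h2 : k * q * k⁻¹ * q⁻¹ * q * k = 1 * q * k := by rw [h]
        simpa [mul_assoc] using h2
      exact this
    have hcmem : k * q * k⁻¹ * q⁻¹ ∈ commutator Q := by
      rw [commutator_def]
      have := Subgroup.commutator_mem_commutator (Subgroup.mem_top k) (Subgroup.mem_top q)
      rwa [commutatorElement_def] at this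
    apply char_vanish_of_central_commutator ξ.2 q k (hcomZ hcmem)
    intro heq
    -- then the kernel is nontrivial, so contains the commutator subgroup, so ξ is linear
    have hker : k * q * k⁻¹ * q⁻¹ ∈ kerSub ξ := (mem_kerSub ξ _).mpr heq
    have hkne : kerSub ξ ≠ ⊥ := by
      intro h
      rw [h, Subgroup.mem_bot] at hker
      exact hcne hker
    have hcomK : commutator Q ≤ kerSub ξ := hmin _ (kerSub_normal ξ) hkne
    obtain ⟨ξ', hξ'⟩ := exists_deflate (commutator Q) ξ
      (fun n hn => (mem_kerSub ξ n).mp (hcomK hn))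
    have hab : ∀ a c : Q ⧸ commutator Q, a * c = c * a := by
      intro a c
      have h := (Subgroup.Normal.quotient_commutative_iff_commutator_le
        (N := commutator Q)).mpr le_rfl
      exact h.is_comm.comm a c
    rw [comm_iff_forall_irr_degree_one] at hab
    apply hξ
    rw [hξ', Function.comp_apply, QuotientGroup.mk_one]
    exact hab ξ'
  refine ⟨ξ, hd2, hvan, ?_⟩
  -- the index of the centre
  have hsum := sum_norm_sq_irr ξ
  have h1 : ∀ g : Q, ‖(ξ : Q → ℂ) g‖ ^ 2 =
      if g ∈ Subgroup.center Q then ((Cfsg.charDegree (ξ : Q → ℂ) : ℕ) : ℝ) ^ 2 else 0 := by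
    intro g
    split_ifs with hg
    · exact norm_sq_of_mem_center ξ g hg
    · rw [hvan g hg, norm_zero]
      norm_num
  simp_rw [h1] at hsum
  rw [← Finset.sum_filter, Finset.sum_const, nsmul_eq_mul] at hsum
  have hcard : (Finset.univ.filter (fun g : Q => g ∈ Subgroup.center Q)).card =
      Nat.card (Subgroup.center Q) := by
    rw [Nat.card_eq_fintype_card, Fintype.card_subtype]
  rw [hcard] at hsum
  have h2 : Nat.card (Subgroup.center Q) * Cfsg.charDegree (ξ : Q → ℂ) ^ 2 = Nat.card Q := by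
    exact_mod_cast hsum
  have h3 : Nat.card (Subgroup.center Q) * (Subgroup.center Q).index = Nat.card Q :=
    Subgroup.card_mul_index _
  have hpos : 0 < Nat.card (Subgroup.center Q) := Nat.card_pos
  exact Nat.eq_of_mul_eq_mul_left hpos (h2.trans h3.symm)

end Cfsg.Agent.Helper8.IP
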