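import Mathlib
import Cfsg.Prelude.Def_Characters
import Cfsg.Prelude.Def_Blocks
import Cfsg.Agent.Helper8.IPa
import Cfsg.Agent.Helper8.IPd
import Cfsg.Agent.Helper8.IPg
import Cfsg.Agent.Helper8.IPm

/-!
# Isaacs–Passman `(b!)²`: the `p`-group case
-/

set_option autoImplicit false
set_option linter.style.haveILetI false

namespace Cfsg.Agent.Helper8.IP

open Cfsg.Agent.Helper6

open scoped ComplexConjugate

open Nat

universe u

variable {G : Type u} [Group G]

/-- If `χ` vanishes off the subgroup `Z`, has absolute value `d` on `Z` with `d² = |G : Z|`, and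
`ψ` restricts irreducibly to `Z`, then `ψ χ` has norm one. -/
theorem classInner_mul_fully_ramified [Fintype G] (Z : Subgroup G) [Fintype Z] (d : ℕ)
    (hidx : d ^ 2 = Z.index) (χ ψ : G → ℂ)
    (hχ1 : ∀ g : G, g ∈ Z → ‖χ g‖ ^ 2 = ((d : ℕ) : ℝ) ^ 2)
    (hχ0 : ∀ g : G, g ∉ Z → χ g = 0)
    (hψ : Cfsg.IsIrrCharacter Z (fun z : Z => ψ z)) :
    Cfsg.classInner (ψ * χ) (ψ * χ) = 1 := by
  classical
  rw [classInner_def]
  have h1 : ∀ g : G, (ψ * χ) g * conj ((ψ * χ) g) =
      if g ∈ Z then ((d : ℂ) ^ 2) * (ψ g * conj (ψ g)) else 0 := by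
    intro g
    have h2 : χ g * conj (χ g) = ((‖χ g‖ ^ 2 : ℝ) : ℂ) := by
      rw [Complex.mul_conj, Complex.normSq_eq_norm_sq]
    rw [Pi.mul_apply, map_mul]
    have h3 : ψ g * χ g * (conj (ψ g) * conj (χ g)) =
        (χ g * conj (χ g)) * (ψ g * conj (ψ g)) := by ring
    rw [h3, h2]
    split_ifs with hg
    · rw [hχ1 g hg]
      push_cast
      ring
    · rw [hχ0 g hg]
      simp
  simp_rw [h1]
  rw [← Finset.sum_filter]
  have h4 : ∑ g ∈ Finset.univ.filter (fun g : G => g ∈ Z), ((d : ℂ) ^ 2) * (ψ g * conj (ψ g)) =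
      ∑ z : Z, ((d : ℂ) ^ 2) * (ψ z * conj (ψ z)) := by
    rw [Finset.sum_subtype (Finset.univ.filter (fun g : G => g ∈ Z)) (p := fun g => g ∈ Z)
      (by simp) (fun g => ((d : ℂ) ^ 2) * (ψ g * conj (ψ g)))]
  rw [h4, ← Finset.mul_sum]
  have hnorm := classInner_irr_self hψ
  rw [classInner_def] at hnorm
  have hZne : (Nat.card Z : ℂ) ≠ 0 := by exact_mod_cast Nat.card_pos.ne'
  have h5 : ∑ z : Z, ψ z * conj (ψ z) = (Nat.card Z : ℂ) := by
    field_simp at hnorm
    rw [hnorm]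
  rw [h5]
  have hGne : (Nat.card G : ℂ) ≠ 0 := by exact_mod_cast Nat.card_pos.ne'
  have h6 : (Nat.card G : ℂ) = (d : ℂ) ^ 2 * (Nat.card Z : ℂ) := by
    have : Nat.card G = d ^ 2 * Nat.card Z := by
      rw [hidx, mul_comm]
      exact (Subgroup.card_mul_index Z).symm
    exact_mod_cast this
  rw [h6]
  rw [h6] at hGne
  exact inv_mul_cancel₀ hGne

/-- The `p`-group case of the step. -/
theorem pgroup_case [Finite G] (b : ℕ)
    (hb : ∀ χ : Cfsg.IrrCharacter G, Cfsg.charDegree (χ : G → ℂ) ≤ b) (hb1 : 1 ≤ b)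
    (K : Subgroup G) [hK : K.Normal] (p : ℕ) (hp : p.Prime) (hpg : IsPGroup p (G ⧸ K))
    (hna : ¬ commutator G ≤ K)
    (hmax : ∀ M : Subgroup G, M.Normal → K < M → commutator G ≤ M) :
    ∃ (H : Subgroup G) (c : ℕ), H ≠ ⊤ ∧
      (∀ θ : Cfsg.IrrCharacter H, Cfsg.charDegree (θ : H → ℂ) ≤ c) ∧
      H.index * (c !) ^ 2 ≤ (b !) ^ 2 := by
  classical
  haveI := Fintype.ofFinite G
  haveI : Fact p.Prime := ⟨hp⟩
  set π := QuotientGroup.mk' K with hπ
  have hπs : Function.Surjective π := QuotientGroup.mk'_surjective K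
  have hker : π.ker = K := QuotientGroup.ker_mk' K
  have hnc : ¬ ∀ a c : G ⧸ K, a * c = c * a := by
    intro hc
    apply hna
    rw [← Subgroup.Normal.quotient_commutative_iff_commutator_le]
    exact ⟨⟨hc⟩⟩
  have hcomm : commutator (G ⧸ K) = (commutator G).map π := by
    rw [commutator_def, commutator_def, Subgroup.map_commutator,
      Subgroup.map_top_of_surjective π hπs]
  have hmin : ∀ M : Subgroup (G ⧸ K), M.Normal → M ≠ ⊥ → commutator (G ⧸ K) ≤ M := by
    intro M hM hMne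
    have hlt : K < M.comap π := by
      rw [lt_iff_le_and_ne]
      constructor
      · intro k hk
        rw [Subgroup.mem_comap]
        have : π k = 1 := by
          rw [← MonoidHom.mem_ker, hker]
          exact hk
        rw [this]
        exact M.one_mem
      · intro h
        apply hMne
        rw [eq_bot_iff]
        intro q hq
        obtain ⟨g, rfl⟩ := hπs q
        have : g ∈ M.comap π := hq
        rw [← h, ← hker, MonoidHom.mem_ker] at this
        rw [Subgroup.mem_bot]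
        exact this
    have := hmax (M.comap π) (hM.comap π) hlt
    rw [hcomm]
    rw [Subgroup.map_le_iff_le_comap]
    exact this
  obtain ⟨ξ, hd2, hvan, hidx⟩ := exists_fully_ramified p hpg hnc hmin
  set d := Cfsg.charDegree (ξ : G ⧸ K → ℂ) with hd
  set χ : G → ℂ := (ξ : G ⧸ K → ℂ) ∘ QuotientGroup.mk with hχ
  have hχirr : Cfsg.IsIrrCharacter G χ := isIrrCharacter_inflate K ξ
  have hξdeg : (d : ℂ) = (ξ : G ⧸ K → ℂ) 1 :=
    charDegree_cast_of_isCharacter (IsIrrCharacter.isCharacter ξ.2)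
  have hχdeg : Cfsg.charDegree χ = d := by
    apply charDegree_eq_of_apply_one
    rw [hχ, Function.comp_apply, QuotientGroup.mk_one, hξdeg]
  have hdb : d ≤ b := by
    have := hb ⟨χ, hχirr⟩
    rwa [hχdeg] at this
  set Z : Subgroup G := (Subgroup.center (G ⧸ K)).comap π with hZ
  haveI : Fintype Z := Fintype.ofFinite Z
  have hZidx : Z.index = d ^ 2 := by
    rw [hZ, Subgroup.index_comap_of_surjective _ hπs, hidx]
  have hZtop : Z ≠ ⊤ := by
    intro h
    apply hnc
    intro a c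
    obtain ⟨g, rfl⟩ := hπs a
    have hg : g ∈ Z := by
      rw [h]
      exact Subgroup.mem_top g
    rw [hZ, Subgroup.mem_comap, Subgroup.mem_center_iff] at hg
    exact (hg c).symm
  have hχ1 : ∀ g : G, g ∈ Z → ‖χ g‖ ^ 2 = ((d : ℕ) : ℝ) ^ 2 := by
    intro g hg
    rw [hZ, Subgroup.mem_comap] at hg
    exact norm_sq_of_mem_center ξ _ hg
  have hχ0 : ∀ g : G, g ∉ Z → χ g = 0 := by
    intro g hg
    have : (π g) ∉ Subgroup.center (G ⧸ K) := fun h => hg h
    exact hvan _ this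
  refine ⟨Z, b - 1, hZtop, ?_, ?_⟩
  · intro θ
    by_contra hcon
    push Not at hcon
    have hθb : Cfsg.charDegree (θ : Z → ℂ) = b := by
      have := degree_le_subgroup b hb Z θ
      omega
    obtain ⟨ψ, hψ⟩ := restrict_eq_of_max_degree b hb Z θ hθb
    have hψZ : Cfsg.IsIrrCharacter Z (fun z : Z => (ψ : G → ℂ) z) := by
      rw [hψ]
      exact θ.2
    have hnorm := classInner_mul_fully_ramified Z d hZidx.symm χ (ψ : G → ℂ) hχ1 hχ0 hψZ
    have hprod : Cfsg.IsIrrCharacter G ((ψ : G → ℂ) * χ) :=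
      isIrrCharacter_of_classInner_self
        (IsCharacter.mul (IsIrrCharacter.isCharacter ψ.2) (IsIrrCharacter.isCharacter hχirr)) hnorm
    have hψdeg : Cfsg.charDegree (ψ : G → ℂ) = b := by
      rw [← charDegree_restrict Z (ψ : G → ℂ), hψ, hθb]
    have hψ1 : ((b : ℕ) : ℂ) = (ψ : G → ℂ) 1 := by
      rw [← hψdeg]
      exact charDegree_cast_of_isCharacter (IsIrrCharacter.isCharacter ψ.2)
    have hpdeg : Cfsg.charDegree ((ψ : G → ℂ) * χ) = b * d := by
      apply charDegree_eq_of_apply_one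
      rw [Pi.mul_apply, Nat.cast_mul, hψ1, hξdeg, hχ, Function.comp_apply, QuotientGroup.mk_one]
    have := hb ⟨_, hprod⟩
    change Cfsg.charDegree ((ψ : G → ℂ) * χ) ≤ b at this
    rw [hpdeg] at this
    have : b * 2 ≤ b * d := Nat.mul_le_mul_left b hd2
    omega
  · apply arith_one b _ hb1
    rw [hZidx]
    exact Nat.pow_le_pow_left hdb 2

end Cfsg.Agent.Helper8.IP
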