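import Mathlib
import Cfsg.Prelude.Def_Characters
import Cfsg.Prelude.Def_Blocks
import Cfsg.Agent.Helper8.IPa
import Cfsg.Agent.Helper6.IndFun
import Cfsg.Agent.Helper6.IrrCrit

/-!
# Isaacs–Passman `(b!)²`: a character of maximal degree of a subgroup vanishes off the core
-/

set_option autoImplicit false
set_option linter.style.haveILetI false

namespace Cfsg.Agent.Helper8.IP

open Cfsg.Agent.Helper6

open scoped ComplexConjugate

universe u

variable {G : Type u} [Group G]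

/-- (V) Let `θ ∈ Irr(H)` have the maximal degree of `G`.  If `θ h ≠ 0` then every `G`-conjugate
of `h` lies in `H`. -/
theorem conj_mem_of_max_degree [Finite G] (b : ℕ)
    (hb : ∀ χ : Cfsg.IrrCharacter G, Cfsg.charDegree (χ : G → ℂ) ≤ b)
    (H : Subgroup G) (θ : Cfsg.IrrCharacter H) (hθ : Cfsg.charDegree (θ : H → ℂ) = b)
    (h : H) (hh : (θ : H → ℂ) h ≠ 0) (g : G) : g * (h : G) * g⁻¹ ∈ H := by
  classical
  haveI := Fintype.ofFinite G
  haveI : Fintype H := Fintype.ofFinite H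
  haveI : Finite (Cfsg.IrrCharacter G) := irr_finite
  haveI : Fintype (Cfsg.IrrCharacter G) := Fintype.ofFinite _
  obtain ⟨χ, hχ⟩ := restrict_eq_of_max_degree b hb H θ hθ
  have hχchar := IsIrrCharacter.isCharacter χ.2
  have hχcf := IsCharacter.isClassFunction hχchar
  have hθchar := IsIrrCharacter.isCharacter θ.2
  have hbpos : 0 < b := hθ ▸ charDegree_pos θ
  have hχ1 : (χ : G → ℂ) 1 = (b : ℂ) := by
    have h1 : (Cfsg.charDegree (θ : H → ℂ) : ℂ) = (θ : H → ℂ) 1 :=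
      charDegree_cast_of_isCharacter hθchar
    rw [hθ] at h1
    rw [h1, ← hχ]
    simp
  have hGne : (Nat.card G : ℂ) ≠ 0 := by exact_mod_cast Nat.card_pos.ne'
  have hHne : (Nat.card H : ℂ) ≠ 0 := by exact_mod_cast Nat.card_pos.ne'
  -- the counting function
  set Nn : G → ℕ := fun y => (Finset.univ.filter (fun x : G => x⁻¹ * y * x ∈ H)).card with hNn
  set Φ : G → ℂ := Cfsg.indFun H (θ : H → ℂ) with hΦdef
  have hΦ : ∀ y : G, Φ y = (Nat.card H : ℂ)⁻¹ * ((Nn y : ℂ) * (χ : G → ℂ) y) := by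
    intro y
    rw [hΦdef, indFun_apply]
    congr 1
    have h1 : ∀ x : G, Cfsg.extendByZero H (θ : H → ℂ) (x⁻¹ * y * x) =
        if x⁻¹ * y * x ∈ H then (χ : G → ℂ) y else 0 := by
      intro x
      split_ifs with hx
      · rw [extendByZero_mem H _ hx, ← hχ]
        have := hχcf y x⁻¹
        rw [inv_inv] at this
        exact this
      · exact extendByZero_not_mem H _ hx
    simp_rw [h1]
    rw [← Finset.sum_filter, Finset.sum_const, nsmul_eq_mul]
  have hΦcf : Cfsg.IsClassFunction G Φ := indFun_isClassFunction H _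
  -- the coefficients of Φ
  have hcoef : ∀ ξ : Cfsg.IrrCharacter G, Cfsg.classInner Φ (ξ : G → ℂ) = 0 ∨
      (Cfsg.classInner Φ (ξ : G → ℂ) = 1 ∧ (ξ : G → ℂ) 1 = (b : ℂ)) := by
    intro ξ
    have hξchar := IsIrrCharacter.isCharacter ξ.2
    have hfr := frobenius_reciprocity H (θ : H → ℂ) (ξ : G → ℂ)
      (IsCharacter.isClassFunction hξchar)
    rw [hΦdef, hfr]
    by_cases hne : Cfsg.classInner (fun h : H => (ξ : G → ℂ) h) (θ : H → ℂ) = 0
    · left
      rw [classInner_conj_symm, hne, map_zero]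
    · right
      have heq : (fun h : H => (ξ : G → ℂ) h) = (θ : H → ℂ) := by
        apply eq_of_constituent_of_degree_le _ _ (IsCharacter.restrict H hξchar) θ.2 hne
        rw [charDegree_restrict, hθ]
        exact hb ξ
      rw [heq]
      refine ⟨classInner_irr_self θ.2, ?_⟩
      have h1 : (Cfsg.charDegree (θ : H → ℂ) : ℂ) = (θ : H → ℂ) 1 :=
        charDegree_cast_of_isCharacter hθchar
      rw [hθ] at h1
      rw [h1, ← heq]
      simp
  -- Φ(1)
  have hN1 : Nn 1 = Nat.card G := by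
    rw [hNn, Nat.card_eq_fintype_card, ← Finset.card_univ]
    show (Finset.univ.filter (fun x : G => x⁻¹ * 1 * x ∈ H)).card = Finset.univ.card
    congr 1
    apply Finset.filter_true_of_mem
    intro x _
    simp
  have hΦ1 : Φ 1 = (Nat.card H : ℂ)⁻¹ * ((Nat.card G : ℂ) * (b : ℂ)) := by
    rw [hΦ 1, hN1, hχ1]
  -- expansion
  have hexp := classFunction_expansion Φ hΦcf
  have hΦ1' : Φ 1 = (b : ℂ) * ∑ ξ : Cfsg.IrrCharacter G, Cfsg.classInner Φ (ξ : G → ℂ) := by
    conv_lhs => rw [hexp]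
    rw [Finset.sum_apply, Finset.mul_sum]
    apply Finset.sum_congr rfl
    intro ξ _
    rw [Pi.smul_apply, smul_eq_mul]
    rcases hcoef ξ with h0 | ⟨-, h1⟩
    · rw [h0, zero_mul, mul_zero]
    · rw [h1, mul_comm]
  have hnormΦ : Cfsg.classInner Φ Φ =
      ∑ ξ : Cfsg.IrrCharacter G, Cfsg.classInner Φ (ξ : G → ℂ) := by
    rw [classInner_self_expansion Φ hΦcf Φ]
    apply Finset.sum_congr rfl
    intro ξ _
    rw [classInner_conj_symm Φ (ξ : G → ℂ)]
    rcases hcoef ξ with h0 | ⟨h1, -⟩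
    · rw [h0, zero_mul]
    · rw [h1, map_one, mul_one]
  have hbne : (b : ℂ) ≠ 0 := by exact_mod_cast hbpos.ne'
  have hnormval : Cfsg.classInner Φ Φ = (Nat.card H : ℂ)⁻¹ * (Nat.card G : ℂ) := by
    rw [hnormΦ]
    have h2 : (b : ℂ) * ∑ ξ : Cfsg.IrrCharacter G, Cfsg.classInner Φ (ξ : G → ℂ) =
        (b : ℂ) * ((Nat.card H : ℂ)⁻¹ * (Nat.card G : ℂ)) := by
      rw [← hΦ1', hΦ1]
      ring
    exact mul_left_cancel₀ hbne h2
  have hinnerχ : Cfsg.classInner Φ (χ : G → ℂ) = 1 := by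
    rw [hΦdef, frobenius_reciprocity H (θ : H → ℂ) (χ : G → ℂ) hχcf, hχ]
    exact classInner_irr_self θ.2
  -- the two sums
  set w : G → ℂ := fun y => (χ : G → ℂ) y * conj ((χ : G → ℂ) y) with hw
  have hS2 : ∑ y : G, ((Nn y : ℂ)) ^ 2 * w y =
      (Nat.card G : ℂ) ^ 2 * (Nat.card H : ℂ) := by
    have h1 := hnormval
    rw [classInner_def] at h1
    have h2 : ∀ y : G, Φ y * conj (Φ y) =
        ((Nat.card H : ℂ)⁻¹) ^ 2 * (((Nn y : ℂ)) ^ 2 * w y) := by
      intro y
      rw [hΦ y, hw]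
      simp only [map_mul, map_inv₀, Complex.conj_natCast]
      ring
    simp_rw [h2] at h1
    rw [← Finset.mul_sum] at h1
    field_simp at h1
    linear_combination h1
  have hS1 : ∑ y : G, (Nn y : ℂ) * w y = (Nat.card G : ℂ) * (Nat.card H : ℂ) := by
    have h1 := hinnerχ
    rw [classInner_def] at h1
    have h2 : ∀ y : G, Φ y * conj ((χ : G → ℂ) y) =
        (Nat.card H : ℂ)⁻¹ * ((Nn y : ℂ) * w y) := by
      intro y
      rw [hΦ y, hw]
      ring
    simp_rw [h2] at h1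
    rw [← Finset.mul_sum] at h1
    field_simp at h1
    linear_combination h1
  have hzero : ∑ y : G, (Nn y : ℂ) * ((Nat.card G : ℂ) - (Nn y : ℂ)) * w y = 0 := by
    have h1 : ∀ y : G, (Nn y : ℂ) * ((Nat.card G : ℂ) - (Nn y : ℂ)) * w y =
        (Nat.card G : ℂ) * ((Nn y : ℂ) * w y) - (Nn y : ℂ) ^ 2 * w y := by
      intro y
      ring
    simp_rw [h1]
    rw [Finset.sum_sub_distrib, ← Finset.mul_sum, hS1, hS2]
    ring
  -- pass to the reals
  have hNle : ∀ y : G, Nn y ≤ Nat.card G := by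
    intro y
    rw [hNn, Nat.card_eq_fintype_card, ← Finset.card_univ]
    exact Finset.card_le_card (Finset.filter_subset _ _)
  have hwR : ∀ y : G, w y = ((‖(χ : G → ℂ) y‖ ^ 2 : ℝ) : ℂ) := by
    intro y
    rw [hw]
    simp only
    rw [Complex.mul_conj, Complex.normSq_eq_norm_sq]
  have hzeroR : ∑ y : G, (Nn y : ℝ) * ((Nat.card G : ℝ) - (Nn y : ℝ)) *
      ‖(χ : G → ℂ) y‖ ^ 2 = 0 := by
    have h1 : ((∑ y : G, (Nn y : ℝ) * ((Nat.card G : ℝ) - (Nn y : ℝ)) *
        ‖(χ : G → ℂ) y‖ ^ 2 : ℝ) : ℂ) = 0 := by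
      rw [← hzero]
      push_cast
      apply Finset.sum_congr rfl
      intro y _
      rw [hwR y]
      push_cast
      ring
    exact_mod_cast h1
  have hterm := (Finset.sum_eq_zero_iff_of_nonneg (fun y _ => by
    have h1 : (Nn y : ℝ) ≤ (Nat.card G : ℝ) := by exact_mod_cast hNle y
    have h2 : (0 : ℝ) ≤ (Nn y : ℝ) := Nat.cast_nonneg _
    have h3 : (0 : ℝ) ≤ (Nat.card G : ℝ) - (Nn y : ℝ) := by linarith
    exact mul_nonneg (mul_nonneg h2 h3) (sq_nonneg _))).mp hzeroR (h : G) (Finset.mem_univ _)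
  -- at `h`
  have hχh : (χ : G → ℂ) h ≠ 0 := by
    have h1 : (χ : G → ℂ) (h : G) = (θ : H → ℂ) h := congrFun hχ h
    rw [h1]
    exact hh
  have hNh : 0 < Nn (h : G) := by
    rw [hNn]
    show 0 < (Finset.univ.filter (fun x : G => x⁻¹ * (h : G) * x ∈ H)).card
    apply Finset.card_pos.mpr
    refine ⟨1, ?_⟩
    rw [Finset.mem_filter]
    refine ⟨Finset.mem_univ _, ?_⟩
    rw [inv_one, one_mul, mul_one]
    exact h.2
  have hnormpos : (0 : ℝ) < ‖(χ : G → ℂ) h‖ ^ 2 := pow_pos (norm_pos_iff.mpr hχh) 2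
  have hNhR : (0 : ℝ) < (Nn (h : G) : ℝ) := by exact_mod_cast hNh
  have hEq : (Nat.card G : ℝ) - (Nn (h : G) : ℝ) = 0 := by
    rcases mul_eq_zero.mp hterm with h1 | h1
    · rcases mul_eq_zero.mp h1 with h2 | h2
      · exact absurd h2 hNhR.ne'
      · exact h2
    · exact absurd h1 hnormpos.ne'
  have hEqN : Nn (h : G) = Nat.card G := by
    have : (Nn (h : G) : ℝ) = (Nat.card G : ℝ) := by linarith
    exact_mod_cast this
  have hall : Finset.univ.filter (fun x : G => x⁻¹ * (h : G) * x ∈ H) = Finset.univ := by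
    apply Finset.eq_univ_of_card
    rw [← Nat.card_eq_fintype_card]
    exact hEqN
  have hmem : g⁻¹ ∈ Finset.univ.filter (fun x : G => x⁻¹ * (h : G) * x ∈ H) := by
    rw [hall]
    exact Finset.mem_univ _
  rw [Finset.mem_filter, inv_inv] at hmem
  exact hmem.2

end Cfsg.Agent.Helper8.IP
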