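import Mathlib
import Cfsg.Prelude.Def_Characters
import Cfsg.Prelude.Def_Blocks
import Cfsg.Agent.Helper8.IPa
import Cfsg.Agent.Helper1.DegLtA
import Cfsg.Agent.Helper1.DegLtC
import Cfsg.Agent.Helper6.BurnsidePQ

/-!
# Isaacs–Passman `(b!)²`: group theory of a nonsolvable quotient with a unique minimal normal
subgroup
-/

set_option autoImplicit false
set_option linter.style.haveILetI false

namespace Cfsg.Agent.Helper8.IP

open Cfsg.Agent.Helper6

universe u

variable {Q : Type u} [Group Q]

theorem isSolvable_of_commutator_abelian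
    (h : ∀ a ∈ commutator Q, ∀ c ∈ commutator Q, a * c = c * a) : Group.IsSolvable Q := by
  rw [Group.isSolvable_def]
  refine ⟨2, ?_⟩
  have h1 : derivedSeries Q 1 = commutator Q := by
    rw [derivedSeries_succ, derivedSeries_zero, commutator_def]
  rw [derivedSeries_succ, h1, Subgroup.commutator_eq_bot_iff_le_centralizer]
  intro a ha
  rw [Subgroup.mem_centralizer_iff]
  intro c hc
  exact h c hc a ha

theorem exists_two_three_pow (n : ℕ) (hn : n ≠ 0)
    (h : ∀ p : ℕ, p.Prime → p ∣ n → p = 2 ∨ p = 3) : ∃ a c : ℕ, n = 2 ^ a * 3 ^ c := by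
  induction n using Nat.strong_induction_on with
  | _ n ih =>
    by_cases h1 : n = 1
    · exact ⟨0, 0, by simp [h1]⟩
    · obtain ⟨p, hp, hpn⟩ := Nat.exists_prime_and_dvd h1
      obtain ⟨m, rfl⟩ := hpn
      have hm0 : m ≠ 0 := by
        rintro rfl
        exact hn (mul_zero _)
      have hlt : m < p * m := by
        have := hp.two_le
        nlinarith [Nat.pos_of_ne_zero hm0]
      obtain ⟨a, c, hac⟩ := ih m hlt hm0 (fun q hq hqm => h q hq (Dvd.dvd.mul_left hqm p))
      rcases h p hp (Dvd.intro m rfl) with rfl | rfl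
      · exact ⟨a + 1, c, by rw [hac]; ring⟩
      · exact ⟨a, c + 1, by rw [hac]; ring⟩

/-- In a nonsolvable group whose nontrivial normal subgroups all contain the commutator
subgroup, an element all of whose conjugates commute with a fixed nonidentity element is
trivial. -/
theorem eq_one_of_conj_commute (hns : ¬ Group.IsSolvable Q)
    (hmin : ∀ M : Subgroup Q, M.Normal → M ≠ ⊥ → commutator Q ≤ M)
    (x y : Q) (hx : x ≠ 1) (hxy : ∀ g : Q, (g * y * g⁻¹) * x = x * (g * y * g⁻¹)) : y = 1 := by
  by_contra hy
  apply hns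
  set M := Subgroup.normalClosure ({y} : Set Q) with hM
  have hyM : y ∈ M := Subgroup.subset_normalClosure (Set.mem_singleton y)
  have hMne : M ≠ ⊥ := by
    intro h
    rw [h, Subgroup.mem_bot] at hyM
    exact hy hyM
  have hMle : M ≤ Subgroup.centralizer ({x} : Set Q) := by
    rw [hM, Subgroup.normalClosure]
    rw [Subgroup.closure_le]
    intro z hz
    rw [Group.mem_conjugatesOfSet_iff] at hz
    obtain ⟨a, ha, hconj⟩ := hz
    rw [Set.mem_singleton_iff] at ha
    subst ha
    rw [isConj_iff] at hconj
    obtain ⟨c, rfl⟩ := hconj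
    rw [SetLike.mem_coe, Subgroup.mem_centralizer_iff]
    intro w hw
    rw [Set.mem_singleton_iff] at hw
    subst hw
    exact (hxy c).symm
  set C := Subgroup.centralizer (M : Set Q) with hC
  have hxC : x ∈ C := by
    rw [hC, Subgroup.mem_centralizer_iff]
    intro m hm
    have := hMle hm
    rw [Subgroup.mem_centralizer_iff] at this
    exact (this x (Set.mem_singleton x)).symm
  have hCne : C ≠ ⊥ := by
    intro h
    rw [h, Subgroup.mem_bot] at hxC
    exact hx hxC
  have hCn : C.Normal := by
    rw [hC]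
    infer_instance
  have h1 : commutator Q ≤ M := hmin M inferInstance hMne
  have h2 : commutator Q ≤ C := hmin C hCn hCne
  apply isSolvable_of_commutator_abelian
  intro a ha c hc
  have h3 := h2 ha
  rw [hC, Subgroup.mem_centralizer_iff] at h3
  exact (h3 c (h1 hc)).symm

/-- Under the same hypotheses the centre is trivial. -/
theorem not_mem_center_of_ne_one (hns : ¬ Group.IsSolvable Q)
    (hmin : ∀ M : Subgroup Q, M.Normal → M ≠ ⊥ → commutator Q ≤ M)
    (x : Q) (hx : x ≠ 1) : x ∉ Subgroup.center Q := by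
  intro hxc
  apply hns
  have hne : Subgroup.center Q ≠ ⊥ := by
    intro h
    rw [h, Subgroup.mem_bot] at hxc
    exact hx hxc
  have h1 := hmin _ inferInstance hne
  apply isSolvable_of_commutator_abelian
  intro a ha c hc
  have := h1 hc
  rw [Subgroup.mem_center_iff] at this
  exact (this a)

/-- Under the same hypotheses some irreducible character has degree at least `5`. -/
theorem five_le_degree [Finite Q] (hns : ¬ Group.IsSolvable Q)
    (hmin : ∀ M : Subgroup Q, M.Normal → M ≠ ⊥ → commutator Q ≤ M) :
    ∃ χ : Cfsg.IrrCharacter Q, 5 ≤ Cfsg.charDegree (χ : Q → ℂ) := by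
  by_contra hcon
  push Not at hcon
  apply hns
  have hprime : ∀ p : ℕ, p.Prime → p ∣ Nat.card Q → p = 2 ∨ p = 3 := by
    intro p hp hdvd
    by_contra hp23
    push Not at hp23
    have hp5 : 5 ≤ p := by
      have h2 := hp.two_le
      by_contra hlt
      push Not at hlt
      interval_cases p
      · exact hp23.1 rfl
      · exact hp23.2 rfl
      · exact absurd hp (by decide)
    haveI : Fact p.Prime := ⟨hp⟩
    have hb : ∀ χ : Cfsg.IrrCharacter Q, Cfsg.charDegree (χ : Q → ℂ) < p := fun χ => by
      have := hcon χ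
      omega
    obtain ⟨P⟩ : Nonempty (Sylow p Q) := inferInstance
    have hPn : (P : Subgroup Q).Normal := Cfsg.Agent.Helper1.DegLt.sylow_normal p hp hb P
    have hPab := Cfsg.Agent.Helper1.DegLt.comm_of_isPGroup p hp hb (P : Subgroup Q) P.isPGroup'
    have hPne : (P : Subgroup Q) ≠ ⊥ := Sylow.ne_bot_of_dvd_card P hdvd
    have h1 := hmin _ hPn hPne
    apply hns
    apply isSolvable_of_commutator_abelian
    intro a ha c hc
    have := hPab ⟨a, h1 ha⟩ ⟨c, h1 hc⟩
    have h2 := congrArg (fun z : (P : Subgroup Q) => (z : Q)) this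
    simpa using h2
  obtain ⟨a, c, hac⟩ := exists_two_three_pow (Nat.card Q) Nat.card_pos.ne' hprime
  exact burnside_pq 2 3 a c Nat.prime_two Nat.prime_three hac

end Cfsg.Agent.Helper8.IP
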