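import Mathlib
import Cfsg.Prelude.Def_Characters
import Cfsg.Prelude.Def_Blocks
import Cfsg.Agent.Helper8.IPa
import Cfsg.Agent.Helper8.IPd
import Cfsg.Agent.Helper8.IPe
import Cfsg.Agent.Helper8.IPf
import Cfsg.Agent.Helper8.IPh
import Cfsg.Agent.Helper8.IPi
import Cfsg.Agent.Helper8.IPj
import Cfsg.Agent.Helper8.IPm
import Cfsg.Agent.Helper1.Isaacs123

/-!
# Isaacs–Passman `(b!)²`: the nonsolvable case, the step and the theorem
-/

set_option autoImplicit false
set_option linter.style.haveILetI false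

namespace Cfsg.Agent.Helper8.IP

open Cfsg.Agent.Helper6

open Nat

universe u

variable {G : Type u} [Group G]

/-- degrees of a quotient are bounded by the bound for the group -/
theorem degree_le_quotient [Finite G] (b : ℕ)
    (hb : ∀ χ : Cfsg.IrrCharacter G, Cfsg.charDegree (χ : G → ℂ) ≤ b) (K : Subgroup G)
    [hK : K.Normal] (ξ : Cfsg.IrrCharacter (G ⧸ K)) : Cfsg.charDegree (ξ : G ⧸ K → ℂ) ≤ b := by
  have h1 := hb ⟨_, isIrrCharacter_inflate K ξ⟩
  have h2 : Cfsg.charDegree ((ξ : G ⧸ K → ℂ) ∘ QuotientGroup.mk) =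
      Cfsg.charDegree (ξ : G ⧸ K → ℂ) := by
    unfold Cfsg.charDegree
    rw [Function.comp_apply, QuotientGroup.mk_one]
  change Cfsg.charDegree ((ξ : G ⧸ K → ℂ) ∘ QuotientGroup.mk) ≤ b at h1
  rwa [h2] at h1

/-- The nonsolvable case of the step. -/
theorem nonsolvable_case [Finite G] (b : ℕ)
    (hb : ∀ χ : Cfsg.IrrCharacter G, Cfsg.charDegree (χ : G → ℂ) ≤ b) (hb1 : 1 ≤ b)
    (K : Subgroup G) [hK : K.Normal] (hns : ¬ Group.IsSolvable (G ⧸ K))
    (hna : ¬ commutator G ≤ K)
    (hmax : ∀ M : Subgroup G, M.Normal → K < M → commutator G ≤ M) :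
    ∃ (H : Subgroup G) (c : ℕ), H ≠ ⊤ ∧
      (∀ θ : Cfsg.IrrCharacter H, Cfsg.charDegree (θ : H → ℂ) ≤ c) ∧
      H.index * (c !) ^ 2 ≤ (b !) ^ 2 := by
  classical
  set π := QuotientGroup.mk' K with hπ
  have hπs : Function.Surjective π := QuotientGroup.mk'_surjective K
  have hker : π.ker = K := QuotientGroup.ker_mk' K
  have hone : ∀ x : G, π x = 1 ↔ x ∈ K := fun x => by rw [← MonoidHom.mem_ker, hker]
  have hcomm : commutator (G ⧸ K) = (commutator G).map π := by
    rw [commutator_def, commutator_def, Subgroup.map_commutator,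
      Subgroup.map_top_of_surjective π hπs]
  have hmin : ∀ M : Subgroup (G ⧸ K), M.Normal → M ≠ ⊥ → commutator (G ⧸ K) ≤ M := by
    intro M hM hMne
    have hlt : K < M.comap π := by
      rw [lt_iff_le_and_ne]
      constructor
      · intro k hk
        rw [Subgroup.mem_comap, (hone k).mpr hk]
        exact M.one_mem
      · intro h
        apply hMne
        rw [eq_bot_iff]
        intro q hq
        obtain ⟨g, rfl⟩ := hπs q
        have : g ∈ M.comap π := hq
        rw [← h] at this
        rw [Subgroup.mem_bot]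
        exact (hone g).mpr this
    have := hmax (M.comap π) (hM.comap π) hlt
    rw [hcomm, Subgroup.map_le_iff_le_comap]
    exact this
  have hbQ : ∀ ξ : Cfsg.IrrCharacter (G ⧸ K), Cfsg.charDegree (ξ : G ⧸ K → ℂ) ≤ b :=
    degree_le_quotient b hb K
  haveI : Nontrivial (G ⧸ K) := by
    by_contra hcon
    rw [not_nontrivial_iff_subsingleton] at hcon
    apply hns
    exact isSolvable_of_commutator_abelian (fun a _ c _ => Subsingleton.elim _ _)
  obtain ⟨x, hx1, hxidx⟩ := exists_small_class b hbQ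
  set H : Subgroup G := (Subgroup.centralizer ({x} : Set (G ⧸ K))).comap π with hH
  have hHidx : H.index ≤ b ^ 2 := by
    rw [hH, Subgroup.index_comap_of_surjective _ hπs]
    exact hxidx
  have hKH : K ≤ H := by
    intro k hk
    rw [hH, Subgroup.mem_comap, (hone k).mpr hk]
    exact Subgroup.one_mem _
  have hHtop : H ≠ ⊤ := by
    intro h
    apply not_mem_center_of_ne_one hns hmin x hx1
    rw [Subgroup.mem_center_iff]
    intro q
    obtain ⟨g, rfl⟩ := hπs q
    have hg : g ∈ H := by
      rw [h]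
      exact Subgroup.mem_top g
    rw [hH, Subgroup.mem_comap, Subgroup.mem_centralizer_iff] at hg
    exact (hg x (Set.mem_singleton x)).symm
  have hKtop : K ≠ ⊤ := by
    intro h
    apply hHtop
    rw [eq_top_iff, ← h]
    exact hKH
  by_cases hHdeg : ∀ θ : Cfsg.IrrCharacter H, Cfsg.charDegree (θ : H → ℂ) ≤ b - 1
  · exact ⟨H, b - 1, hHtop, hHdeg, arith_one b _ hb1 hHidx⟩
  · push Not at hHdeg
    obtain ⟨θ, hθ⟩ := hHdeg
    have hθb : Cfsg.charDegree (θ : H → ℂ) = b := by
      have := degree_le_subgroup b hb H θ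
      omega
    have hvan : ∀ h : H, (θ : H → ℂ) h ≠ 0 → (h : G) ∈ K := by
      intro h hh
      have hconj := conj_mem_of_max_degree b hb H θ hθb h hh
      rw [← hone]
      apply eq_one_of_conj_commute hns hmin x (π h) hx1
      intro q
      obtain ⟨g, rfl⟩ := hπs q
      have hmem : g * (h : G) * g⁻¹ ∈
          (Subgroup.centralizer ({x} : Set (G ⧸ K))).comap π := hconj g
      rw [Subgroup.mem_comap, Subgroup.mem_centralizer_iff] at hmem
      have h2 := hmem x (Set.mem_singleton x)
      rw [map_mul, map_mul, map_inv] at h2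
      exact h2.symm
    have hrel : K.relIndex H ≤ b ^ 2 := by
      have := relIndex_le_of_vanish H K hKH θ hvan
      rwa [hθb] at this
    have hKidx : K.index = K.relIndex H * H.index := (Subgroup.relIndex_mul_index hKH).symm
    have hKdeg : ∀ β : Cfsg.IrrCharacter K, Cfsg.charDegree (β : K → ℂ) ≤ b / 2 := by
      intro β
      have := two_mul_degree_le b hb K hna β
      omega
    have hb5 : 5 ≤ b := by
      obtain ⟨ξ, hξ⟩ := five_le_degree hns hmin
      exact le_trans hξ (hbQ ξ)
    refine ⟨K, b / 2, hKtop, hKdeg, ?_⟩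
    apply arith_three b _ hb5
    rw [hKidx]
    calc K.relIndex H * H.index ≤ b ^ 2 * b ^ 2 := Nat.mul_le_mul hrel hHidx
      _ = b ^ 4 := by ring

/-- The step: a nonabelian group with maximal degree `b` has a proper subgroup `H` with degrees
bounded by `c` and `|G:H| (c!)² ≤ (b!)²`. -/
theorem step (G : Type u) [Group G] [Finite G] (b : ℕ)
    (hb : ∀ χ : Cfsg.IrrCharacter G, Cfsg.charDegree (χ : G → ℂ) ≤ b)
    (_hatt : ∃ χ : Cfsg.IrrCharacter G, Cfsg.charDegree (χ : G → ℂ) = b)
    (hnab : ¬ ∀ x y : G, x * y = y * x) :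
    ∃ (H : Subgroup G) (c : ℕ), H ≠ ⊤ ∧
      (∀ θ : Cfsg.IrrCharacter H, Cfsg.charDegree (θ : H → ℂ) ≤ c) ∧
      H.index * (c !) ^ 2 ≤ (b !) ^ 2 := by
  classical
  -- b ≥ 2
  have hb2 : 2 ≤ b := by
    by_contra hcon
    apply hnab
    apply comm_of_degree_le_one
    intro χ
    have := hb χ
    omega
  have hna0 : ¬ commutator G ≤ (⊥ : Subgroup G) := by
    intro h
    apply hnab
    intro x y
    have h1 : x * y * x⁻¹ * y⁻¹ ∈ commutator G := by
      rw [commutator_def]
      have := Subgroup.commutator_mem_commutator (Subgroup.mem_top x) (Subgroup.mem_top y)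
      rwa [commutatorElement_def] at this
    have h2 := h h1
    rw [Subgroup.mem_bot] at h2
    have : x * y * x⁻¹ * y⁻¹ * y * x = 1 * y * x := by rw [h2]
    simpa [mul_assoc] using this
  obtain ⟨K, hKn, -, hna, hmax⟩ :=
    Cfsg.Agent.Helper1.exists_max_nonabelian_quotient (⊥ : Subgroup G) inferInstance hna0
  haveI := hKn
  by_cases hsolv : Group.IsSolvable (G ⧸ K)
  · obtain ⟨p, j, hp, hj0, hj, hexp, hab, hntop, hd⟩ :=
      Cfsg.Agent.Helper1.isaacs_twelve_three_full K hsolv hna hmax
    rcases hd with ⟨hpg, -⟩ | ⟨-, hcop, hfpf⟩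
    · exact pgroup_case b hb (by omega) K p hp hpg hna hmax
    · have hNK : ¬ K ⊔ commutator G ≤ K := fun h => hna (le_sup_right.trans h)
      exact frobenius_case b hb hb2 K (K ⊔ commutator G) le_sup_left hNK hab hntop hcop hfpf
        (two_mul_degree_le b hb K hna)
  · exact nonsolvable_case b hb (by omega) K hsolv hna hmax

/-- **Isaacs–Passman**: a finite group all of whose irreducible characters have degree at most
`b` has an abelian subgroup of index at most `(b!)²`. -/
theorem isaacs_passman {G : Type u} [Group G] [Finite G] (b : ℕ)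
    (hb : ∀ χ : Cfsg.IrrCharacter G, Cfsg.charDegree (χ : G → ℂ) ≤ b) :
    ∃ A : Subgroup G, (∀ x ∈ A, ∀ y ∈ A, x * y = y * x) ∧ A.index ≤ (b !) ^ 2 :=
  induction_skeleton (fun G _ _ b hb hatt hnab => step G b hb hatt hnab) (Nat.card G) G le_rfl b hb

end Cfsg.Agent.Helper8.IP
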