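import Mathlib

/-!
# Sylow subgroups pairwise intersecting in subgroups of index `p` (pure group theory)
-/

set_option autoImplicit false
set_option linter.style.haveILetI false

namespace Cfsg.Agent.Helper8.IQ

universe u

variable {G : Type u} [Group G]

theorem card_mul_relIndex_of_le [Finite G] {D P : Subgroup G} (hDP : D ≤ P) :
    Nat.card D * D.relIndex P = Nat.card P := by
  have := Subgroup.relIndex_mul_relIndex (⊥ : Subgroup G) D P bot_le hDP
  rwa [Subgroup.relIndex_bot_left, Subgroup.relIndex_bot_left] at this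

/-- a subgroup of index `p` of a `p`-group is normalized by the group -/
theorem le_normalizer_of_relIndex_prime [Finite G] (p : ℕ) [hp : Fact p.Prime] (P D : Subgroup G)
    (hP : IsPGroup p P) (hDP : D ≤ P) (hidx : D.relIndex P = p) : P ≤ Subgroup.normalizer (D : Set G) := by
  rw [← Subgroup.normal_subgroupOf_iff_le_normalizer hDP]
  apply Subgroup.normal_of_index_eq_minFac_card
  obtain ⟨n, hn⟩ := IsPGroup.iff_card.mp hP
  have hn0 : n ≠ 0 := by
    rintro rfl
    have h1 : D.relIndex P ∣ Nat.card P := Subgroup.relIndex_dvd_card D P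
    rw [hidx, hn, pow_zero] at h1
    exact hp.out.one_lt.ne' (Nat.dvd_one.mp h1)
  rw [hn, Nat.Prime.pow_minFac hp.out hn0]
  exact hidx

/-- If any two distinct Sylow `p`-subgroups meet in a subgroup of index `p`, then the
intersection of two of them lies in every Sylow `p`-subgroup. -/
theorem inter_le_sylow [Finite G] (p : ℕ) [hp : Fact p.Prime]
    (hidx : ∀ P Q : Sylow p G, P ≠ Q → ((P : Subgroup G) ⊓ Q).relIndex P = p)
    (P₁ P₂ : Sylow p G) (h12 : P₁ ≠ P₂) (Q : Sylow p G) :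
    (P₁ : Subgroup G) ⊓ P₂ ≤ Q := by
  by_cases h1 : Q = P₁
  · rw [h1]; exact inf_le_left
  by_cases h2 : Q = P₂
  · rw [h2]; exact inf_le_right
  have hi1 : ((P₁ : Subgroup G) ⊓ P₂).relIndex P₁ = p := hidx P₁ P₂ h12
  have hi2 : ((P₁ : Subgroup G) ⊓ Q).relIndex P₁ = p := hidx P₁ Q (Ne.symm h1)
  have hi3 : ((P₂ : Subgroup G) ⊓ Q).relIndex P₂ = p := hidx P₂ Q (Ne.symm h2)
  have hi1' : ((P₁ : Subgroup G) ⊓ P₂).relIndex P₂ = p := by
    have := hidx P₂ P₁ (Ne.symm h12)
    rwa [inf_comm] at this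
  have hi2' : ((P₁ : Subgroup G) ⊓ Q).relIndex Q = p := by
    have := hidx Q P₁ h1
    rwa [inf_comm] at this
  obtain ⟨D, hD⟩ : ∃ D : Subgroup G, D = (P₁ : Subgroup G) ⊓ P₂ := ⟨_, rfl⟩
  obtain ⟨D', hD'⟩ : ∃ D' : Subgroup G, D' = (P₁ : Subgroup G) ⊓ Q := ⟨_, rfl⟩
  obtain ⟨D'', hD''⟩ : ∃ D'' : Subgroup G, D'' = (P₂ : Subgroup G) ⊓ Q := ⟨_, rfl⟩
  rw [← hD] at hi1 hi1'
  rw [← hD'] at hi2 hi2'
  rw [← hD''] at hi3
  have hDP₁ : D ≤ (P₁ : Subgroup G) := hD ▸ inf_le_left
  have hDP₂ : D ≤ (P₂ : Subgroup G) := hD ▸ inf_le_right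
  have hD'P₁ : D' ≤ (P₁ : Subgroup G) := hD' ▸ inf_le_left
  have hD'Q : D' ≤ (Q : Subgroup G) := hD' ▸ inf_le_right
  have hD''P₂ : D'' ≤ (P₂ : Subgroup G) := hD'' ▸ inf_le_left
  have hD''Q : D'' ≤ (Q : Subgroup G) := hD'' ▸ inf_le_right
  rw [← hD]
  have hcardP : Nat.card (P₁ : Subgroup G) = Nat.card (P₂ : Subgroup G) := by
    rw [Sylow.card_eq_multiplicity, Sylow.card_eq_multiplicity]
  have hc1 := card_mul_relIndex_of_le hDP₁
  have hc2 := card_mul_relIndex_of_le hD'P₁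
  have hc3 := card_mul_relIndex_of_le hD''P₂
  rw [hi1] at hc1
  rw [hi2] at hc2
  rw [hi3] at hc3
  have hppos : 0 < p := hp.out.pos
  have hcD' : Nat.card D' = Nat.card D := Nat.eq_of_mul_eq_mul_right hppos (hc2.trans hc1.symm)
  have hcD'' : Nat.card D'' = Nat.card D :=
    Nat.eq_of_mul_eq_mul_right hppos (hc3.trans (hcardP.symm.trans hc1.symm))
  -- it suffices to show D = D'
  suffices hDD' : D = D' by
    rw [hDD']
    exact hD'Q
  by_contra hne
  -- D ⊔ D' = P₁
  have hsup : D ⊔ D' = (P₁ : Subgroup G) := by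
    apply le_antisymm (sup_le hDP₁ hD'P₁)
    have h3 := Subgroup.relIndex_mul_relIndex D (D ⊔ D') P₁ le_sup_left
      (sup_le hDP₁ hD'P₁)
    rw [hi1] at h3
    have h4 : D.relIndex (D ⊔ D') = 1 ∨ (D ⊔ D').relIndex P₁ = 1 := by
      rcases (Nat.dvd_prime hp.out).mp (Dvd.intro _ h3) with h5 | h5
      · left; exact h5
      · right
        rw [h5] at h3
        have : p * (D ⊔ D').relIndex P₁ = p * 1 := by rw [h3, mul_one]
        exact Nat.eq_of_mul_eq_mul_left hppos this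
    rcases h4 with h4 | h4
    · exfalso
      rw [Subgroup.relIndex_eq_one] at h4
      have h5 : D' ≤ D := le_sup_right.trans h4
      apply hne
      exact (Subgroup.eq_of_le_of_card_ge h5 hcD'.ge).symm
    · rwa [Subgroup.relIndex_eq_one] at h4
  -- D'' normalizes D and D'
  have hn1 : D'' ≤ Subgroup.normalizer (D : Set G) :=
    le_trans hD''P₂ (le_normalizer_of_relIndex_prime p (P₂ : Subgroup G) D P₂.isPGroup' hDP₂ hi1')
  have hn2 : D'' ≤ Subgroup.normalizer (D' : Set G) :=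
    le_trans hD''Q (le_normalizer_of_relIndex_prime p (Q : Subgroup G) D' Q.isPGroup' hD'Q hi2')
  have hn3 : D ≤ Subgroup.normalizer (D' : Set G) :=
    le_trans hDP₁ (le_normalizer_of_relIndex_prime p (P₁ : Subgroup G) D' P₁.isPGroup' hD'P₁ hi2)
  have hpD : IsPGroup p D := P₁.isPGroup'.to_le hDP₁
  have hpD' : IsPGroup p D' := P₁.isPGroup'.to_le hD'P₁
  have hpD'' : IsPGroup p D'' := P₂.isPGroup'.to_le hD''P₂
  have hp1 : IsPGroup p (D'' ⊔ D : Subgroup G) := IsPGroup.to_sup_of_normal_right' hpD'' hpD hn1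
  have hp2 : IsPGroup p ((D'' ⊔ D) ⊔ D' : Subgroup G) :=
    IsPGroup.to_sup_of_normal_right' hp1 hpD' (sup_le hn2 hn3)
  have hle : (P₁ : Subgroup G) ≤ (D'' ⊔ D) ⊔ D' := by
    rw [← hsup]
    exact sup_le (le_sup_right.trans le_sup_left) le_sup_right
  have heq := P₁.3 hp2 hle
  have hD''P₁ : D'' ≤ (P₁ : Subgroup G) := by
    rw [← heq]
    exact le_sup_left.trans le_sup_left
  have h6 : D'' ≤ D := hD ▸ le_inf hD''P₁ hD''P₂
  have h7 : D'' ≤ D' := hD' ▸ le_inf hD''P₁ hD''Q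
  have h8 : D'' = D := Subgroup.eq_of_le_of_card_ge h6 hcD''.ge
  have h9 : D'' = D' := Subgroup.eq_of_le_of_card_ge h7 (hcD'.trans hcD''.symm).le
  exact hne (h8.symm.trans h9)

/-- In a simple group whose distinct Sylow `p`-subgroups pairwise meet in subgroups of index `p`
and are not normal, the Sylow `p`-subgroups have order `p`. -/
theorem card_sylow_eq_prime [Finite G] [IsSimpleGroup G] (p : ℕ) [hp : Fact p.Prime]
    (hidx : ∀ P Q : Sylow p G, P ≠ Q → ((P : Subgroup G) ⊓ Q).relIndex P = p)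
    (P₁ P₂ : Sylow p G) (h12 : P₁ ≠ P₂) : Nat.card (P₁ : Subgroup G) = p := by
  set D : Subgroup G := (P₁ : Subgroup G) ⊓ P₂ with hD
  have hcore : D ≤ (P₁ : Subgroup G).normalCore := by
    intro a ha
    rw [Subgroup.normalCore]
    intro b
    have h1 := inter_le_sylow p hidx P₁ P₂ h12 (b⁻¹ • P₁) ha
    rw [Sylow.coe_subgroup_smul, Subgroup.mem_pointwise_smul_iff_inv_smul_mem] at h1
    simpa [MulAut.smul_def, MulAut.conj_apply] using h1
  have hbot : (P₁ : Subgroup G).normalCore = ⊥ := by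
    rcases (Subgroup.normalCore_normal (P₁ : Subgroup G)).eq_bot_or_eq_top with h | h
    · exact h
    · exfalso
      have h1 : (P₁ : Subgroup G) = ⊤ := by
        rw [eq_top_iff, ← h]
        exact Subgroup.normalCore_le _
      apply h12
      have h2 : (P₁ : Subgroup G) ≤ P₂ ∨ True := Or.inr trivial
      apply Sylow.ext
      have h3 := P₂.3 P₁.2 (show (P₂ : Subgroup G) ≤ P₁ by rw [h1]; exact le_top)
      exact h3
  have hDbot : D = ⊥ := by
    rw [eq_bot_iff, ← hbot]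
    exact hcore
  have hc := card_mul_relIndex_of_le (D := D) (P := P₁) inf_le_left
  rw [hidx P₁ P₂ h12, hDbot, Subgroup.card_bot, one_mul] at hc
  exact hc.symm

end Cfsg.Agent.Helper8.IQ
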