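import Mathlib
import Cfsg.Prelude.Def_Characters
import Cfsg.Prelude.Def_Blocks
import Cfsg.Agent.Helper1.DegLtA
import Cfsg.Agent.Helper1.DegLtB
import Cfsg.Agent.Helper1.DegLtC
import Cfsg.Agent.Helper6.PermChar
import Cfsg.Agent.Helper6.Induced
import Cfsg.Agent.Helper6.IndFun
import Cfsg.Agent.Helper6.Expansion
import Cfsg.Agent.Helper6.OddReal

/-!
# Degrees at most `p`: distinct Sylow `p`-subgroups meet in subgroups of index `p`
-/

set_option autoImplicit false
set_option linter.style.haveILetI false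

namespace Cfsg.Agent.Helper8.IQ

open Cfsg.Agent.Helper6 Cfsg.Agent.Helper1.DegLt MulAction

open scoped ComplexConjugate

universe u

variable {G : Type u} [Group G]

/-- If all degrees are at most `p`, the number of Sylow `p`-subgroups is at most
`1 + p (c - 1)`, `c` the number of orbits of `P` on them. -/
theorem card_sylow_le [Finite G] (p : ℕ) (hp : p.Prime)
    (hb : ∀ χ : Cfsg.IrrCharacter G, Cfsg.charDegree (χ : G → ℂ) ≤ p) (P : Sylow p G) :
    Nat.card (Sylow p G) + p ≤
      p * Nat.card (Quotient (orbitRel (P : Subgroup G) (Sylow p G))) + 1 := by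
  classical
  haveI := Fintype.ofFinite G
  haveI : Fact p.Prime := ⟨hp⟩
  haveI : Fintype (Sylow p G) := Fintype.ofFinite _
  haveI : Finite (Cfsg.IrrCharacter G) := irr_finite
  haveI : Fintype (Cfsg.IrrCharacter G) := Fintype.ofFinite _
  set π : G → ℂ := fun g : G => (Nat.card (fixedBy (Sylow p G) g) : ℂ) with hπdef
  obtain ⟨hπ1, hππ⟩ := permChar_inner (G := G) (Sylow p G) P
  have hπ := permChar_eq_indFun (G := G) (Sylow p G) P
  have hπc : Cfsg.IsCharacter G π := by
    rw [hπdef, hπ]
    exact isCharacter_indFun _ _ isCharacter_one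
  have hcf := IsCharacter.isClassFunction hπc
  have hn : ∀ θ : Cfsg.IrrCharacter G, ∃ n : ℕ, Cfsg.classInner π (θ : G → ℂ) = n := fun θ =>
    classInner_char_char_nat hπc (IsIrrCharacter.isCharacter θ.2)
  choose n hn using hn
  have hd : ∀ θ : Cfsg.IrrCharacter G, (θ : G → ℂ) 1 = (Cfsg.charDegree (θ : G → ℂ) : ℂ) :=
    fun θ => (charDegree_cast_of_isCharacter (IsIrrCharacter.isCharacter θ.2)).symm
  have hexp := classFunction_expansion π hcf
  have hX : Nat.card (Sylow p G) = ∑ θ : Cfsg.IrrCharacter G, n θ * Cfsg.charDegree (θ : G → ℂ) := by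
    have h1 : π 1 = (Nat.card (Sylow p G) : ℂ) := by
      rw [hπdef]
      simp only
      congr 1
      rw [fixedBy_one_eq_univ]
      exact Nat.card_congr (Equiv.Set.univ _)
    have h2 : π 1 = ((∑ θ : Cfsg.IrrCharacter G, n θ * Cfsg.charDegree (θ : G → ℂ) : ℕ) : ℂ) := by
      conv_lhs => rw [hexp]
      rw [Finset.sum_apply]
      push_cast
      apply Finset.sum_congr rfl
      intro θ _
      rw [Pi.smul_apply, smul_eq_mul, hn, hd]
    rw [h1] at h2
    exact_mod_cast h2
  have hnorm : Nat.card (Quotient (orbitRel (stabilizer G P) (Sylow p G))) =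
      ∑ θ : Cfsg.IrrCharacter G, n θ * n θ := by
    have h2 : Cfsg.classInner π π = ((∑ θ : Cfsg.IrrCharacter G, n θ * n θ : ℕ) : ℂ) := by
      conv_lhs => arg 2; rw [hexp]
      rw [classInner_sum_right]
      push_cast
      apply Finset.sum_congr rfl
      intro θ _
      rw [classInner_smul_right, hn, Complex.conj_natCast]
    rw [hππ] at h2
    exact_mod_cast h2
  set t : Cfsg.IrrCharacter G := ⟨fun _ => (1 : ℂ), isIrrCharacter_one⟩ with ht
  have hnt : n t = 1 := by
    have := hn t
    rw [ht] at this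
    simp only at this
    rw [hπ1] at this
    exact_mod_cast this.symm
  have hdt : Cfsg.charDegree (t : G → ℂ) = 1 := by
    apply charDegree_eq_of_apply_one'
    rw [ht]
    simp
  have hX' := hX
  rw [← Finset.add_sum_erase Finset.univ _ (Finset.mem_univ t), hnt, hdt] at hX'
  have hnorm' := hnorm
  rw [← Finset.add_sum_erase Finset.univ _ (Finset.mem_univ t), hnt] at hnorm'
  have hle : ∑ θ ∈ Finset.univ.erase t, n θ * Cfsg.charDegree (θ : G → ℂ) ≤
      p * ∑ θ ∈ Finset.univ.erase t, n θ * n θ := by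
    rw [Finset.mul_sum]
    apply Finset.sum_le_sum
    intro θ _
    have h2 := hb θ
    by_cases h0 : n θ = 0
    · rw [h0]; simp
    · calc n θ * Cfsg.charDegree (θ : G → ℂ) ≤ n θ * p := Nat.mul_le_mul_left _ h2
        _ = p * (n θ * 1) := by ring
        _ ≤ p * (n θ * n θ) :=
          Nat.mul_le_mul_left _ (Nat.mul_le_mul_left _ (Nat.one_le_iff_ne_zero.mpr h0))
  have hPH : (P : Subgroup G) ≤ stabilizer G P := by
    intro g hg
    rw [mem_stabilizer_iff, Sylow.smul_eq_iff_mem_normalizer]
    exact Subgroup.le_normalizer hg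
  have horb := card_orbits_le (X := Sylow p G) (P : Subgroup G) (stabilizer G P) hPH
  -- X = 1 + S1, cH = 1 + S2, S1 ≤ p S2, cH ≤ c
  set S1 := ∑ θ ∈ Finset.univ.erase t, n θ * Cfsg.charDegree (θ : G → ℂ) with hS1
  set S2 := ∑ θ ∈ Finset.univ.erase t, n θ * n θ with hS2
  set c := Nat.card (Quotient (orbitRel (P : Subgroup G) (Sylow p G))) with hc
  set cH := Nat.card (Quotient (orbitRel (stabilizer G P) (Sylow p G))) with hcH
  have h1 : Nat.card (Sylow p G) = 1 * 1 + S1 := hX'
  have h2 : cH = 1 * 1 + S2 := hnorm'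
  have h3 : p * S2 + p ≤ p * c := by
    have : S2 + 1 ≤ c := by omega
    calc p * S2 + p = p * (S2 + 1) := by ring
      _ ≤ p * c := Nat.mul_le_mul_left p this
  omega

/-- If all degrees are at most `p`, every orbit of `P` on the other Sylow `p`-subgroups has
exactly `p` elements. -/
theorem card_orbit_sylow [Finite G] (p : ℕ) (hp : p.Prime)
    (hb : ∀ χ : Cfsg.IrrCharacter G, Cfsg.charDegree (χ : G → ℂ) ≤ p) (P Q : Sylow p G)
    (hPQ : Q ≠ P) : Nat.card (orbit (P : Subgroup G) Q) = p := by
  classical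
  haveI : Fact p.Prime := ⟨hp⟩
  haveI : Fintype (Sylow p G) := Fintype.ofFinite _
  haveI : Fintype (Quotient (orbitRel (P : Subgroup G) (Sylow p G))) := Fintype.ofFinite _
  have hupper := card_sylow_le p hp hb P
  have e := selfEquivSigmaOrbits' (P : Subgroup G) (Sylow p G)
  have hcard : Nat.card (Sylow p G) =
      ∑ ω : orbitRel.Quotient (P : Subgroup G) (Sylow p G), Nat.card ω.orbit := by
    rw [Nat.card_congr e, Nat.card_sigma]
  have hterm : ∀ ω : orbitRel.Quotient (P : Subgroup G) (Sylow p G),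
      p ≤ Nat.card ω.orbit + if ω = Quotient.mk'' P then (p - 1) else 0 := by
    intro ω
    induction ω using Quotient.inductionOn' with
    | h Q =>
      have horb : orbitRel.Quotient.orbit
          (Quotient.mk'' Q : orbitRel.Quotient (P : Subgroup G) (Sylow p G)) =
          orbit (P : Subgroup G) Q := orbitRel.Quotient.orbit_mk Q
      rw [horb]
      obtain ⟨n, hn⟩ := P.2.card_orbit Q
      rw [hn]
      by_cases hn0 : n = 0
      · have hfix : Q ∈ fixedPoints (P : Subgroup G) (Sylow p G) := by
          rw [mem_fixedPoints_iff_card_orbit_eq_one, ← Nat.card_eq_fintype_card, hn, hn0, pow_zero]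
        have hPQ : (P : Subgroup G) ≤ Q := (P.2.sylow_mem_fixedPoints_iff).mp hfix
        have hQP : Q = P := by
          apply Sylow.ext
          exact P.3 Q.2 hPQ
        rw [hQP, if_pos rfl, hn0, pow_zero]
        have := hp.pos
        omega
      · have : p ^ 1 ≤ p ^ n :=
          Nat.pow_le_pow_right hp.pos (Nat.one_le_iff_ne_zero.mpr hn0)
        rw [pow_one] at this
        omega
  -- the sum of the slacks is zero
  have hsum : ∑ ω : orbitRel.Quotient (P : Subgroup G) (Sylow p G),
      (Nat.card ω.orbit + if ω = Quotient.mk'' P then (p - 1) else 0) =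
      Nat.card (Sylow p G) + (p - 1) := by
    rw [Finset.sum_add_distrib, Finset.sum_ite_eq' Finset.univ, if_pos (Finset.mem_univ _), ← hcard]
  have hconst : ∑ _ω : orbitRel.Quotient (P : Subgroup G) (Sylow p G), p =
      p * Nat.card (Quotient (orbitRel (P : Subgroup G) (Sylow p G))) := by
    rw [Finset.sum_const, Finset.card_univ, smul_eq_mul, mul_comm, Nat.card_eq_fintype_card]
  have htot : ∑ ω : orbitRel.Quotient (P : Subgroup G) (Sylow p G),
      (Nat.card ω.orbit + if ω = Quotient.mk'' P then (p - 1) else 0) ≤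
      ∑ _ω : orbitRel.Quotient (P : Subgroup G) (Sylow p G), p := by
    rw [hsum, hconst]
    have := hp.pos
    omega
  -- hence each term is an equality
  have heq : ∀ ω : orbitRel.Quotient (P : Subgroup G) (Sylow p G),
      (Nat.card ω.orbit + if ω = Quotient.mk'' P then (p - 1) else 0) = p := by
    by_contra hcon
    push Not at hcon
    obtain ⟨ω₀, hω₀⟩ := hcon
    have hlt : p < (Nat.card ω₀.orbit + if ω₀ = Quotient.mk'' P then (p - 1) else 0) :=
      lt_of_le_of_ne (hterm ω₀) (Ne.symm hω₀)
    have := Finset.sum_lt_sum (fun ω _ => hterm ω) ⟨ω₀, Finset.mem_univ _, hlt⟩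
    omega
  have h1 := heq (Quotient.mk'' Q)
  have hne : (Quotient.mk'' Q : orbitRel.Quotient (P : Subgroup G) (Sylow p G)) ≠
      Quotient.mk'' P := by
    intro h
    rw [Quotient.eq''] at h
    obtain ⟨g, hg⟩ := h
    apply hPQ
    rw [← hg]
    have : (g : G) • P = P := by
      rw [Sylow.smul_eq_iff_mem_normalizer]
      exact Subgroup.le_normalizer g.2
    exact this
  rw [if_neg hne, add_zero, orbitRel.Quotient.orbit_mk] at h1
  exact h1

end Cfsg.Agent.Helper8.IQ
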