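import Mathlib
import Cfsg.Prelude.Def_Characters
import Cfsg.Prelude.Def_Blocks
import Cfsg.Agent.Helper8.IQa
import Cfsg.Agent.Helper8.IQb

/-!
# Degrees at most `p` in a simple group: the Sylow `p`-subgroups have order `p`
-/

set_option autoImplicit false
set_option linter.style.haveILetI false

namespace Cfsg.Agent.Helper8.IQ

open MulAction

universe u

variable {G : Type u} [Group G]

theorem relIndex_inf_sylow [Finite G] (p : ℕ) (hp : p.Prime)
    (hb : ∀ χ : Cfsg.IrrCharacter G, Cfsg.charDegree (χ : G → ℂ) ≤ p) (P Q : Sylow p G)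
    (hPQ : P ≠ Q) : ((P : Subgroup G) ⊓ Q).relIndex P = p := by
  haveI : Fact p.Prime := ⟨hp⟩
  have h1 := card_orbit_sylow p hp hb P Q (Ne.symm hPQ)
  have h2 : (stabilizer (P : Subgroup G) Q).index = (orbit (P : Subgroup G) Q).ncard :=
    index_stabilizer _ _
  rw [← Nat.card_coe_set_eq, h1] at h2
  have h3 : stabilizer (P : Subgroup G) Q = ((P : Subgroup G) ⊓ Q).subgroupOf P := by
    ext x
    rw [mem_stabilizer_iff, Subgroup.mem_subgroupOf, Subgroup.smul_def,
      Sylow.smul_eq_iff_mem_normalizer]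
    constructor
    · intro hx
      have h4 := P.isPGroup'.inf_normalizer_sylow Q
      rw [← h4]
      exact ⟨x.2, hx⟩
    · intro hx
      exact Subgroup.le_normalizer hx.2
  rw [Subgroup.relIndex, ← h3]
  exact h2

/-- In a simple group all of whose degrees are at most the prime `p` and with `p` dividing the
order, a Sylow `p`-subgroup has order `p` (unless it is normal). -/
theorem card_sylow_of_degree_le [Finite G] [IsSimpleGroup G] (p : ℕ) (hp : p.Prime)
    (hb : ∀ χ : Cfsg.IrrCharacter G, Cfsg.charDegree (χ : G → ℂ) ≤ p) (P : Sylow p G)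
    (hPn : ¬ (P : Subgroup G).Normal) : Nat.card (P : Subgroup G) = p := by
  haveI : Fact p.Prime := ⟨hp⟩
  obtain ⟨P₂, hP₂⟩ : ∃ P₂ : Sylow p G, P ≠ P₂ := by
    by_contra hcon
    push Not at hcon
    apply hPn
    haveI : Subsingleton (Sylow p G) := ⟨fun a b => (hcon a).symm.trans (hcon b)⟩
    exact Sylow.normal_of_subsingleton P
  exact card_sylow_eq_prime p (fun P Q h => relIndex_inf_sylow p hp hb P Q h) P P₂ hP₂

end Cfsg.Agent.Helper8.IQ
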