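import Mathlib
import Cfsg.Prelude.Def_Characters
import Cfsg.Prelude.Def_Blocks
import Cfsg.Agent.Helper8.IPa
import Cfsg.Agent.Helper6.BLeoD
import Cfsg.Agent.Helper6.Induced

/-!
# A character of small degree constant on the nonidentity elements of a subgroup of prime order
-/

set_option autoImplicit false
set_option linter.style.haveILetI false

namespace Cfsg.Agent.Helper8.IQ

open Cfsg.Agent.Helper6 Cfsg.Agent.Helper8.IP

open scoped ComplexConjugate

universe u

variable {G : Type u} [Group G]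

/-- Let `P` have prime order `p ≥ 3` and let the irreducible character `χ` of degree `d ≤ p`,
`d ≠ p - 1`, take the constant value `a` on `P - {1}`.  If `a ≠ 0` or `d < p` then `a = χ(1)`. -/
theorem const_eq_degree [Finite G] (p : ℕ) (hp : p.Prime) (hp3 : 3 ≤ p) (P : Subgroup G)
    (hP : Nat.card P = p) (χ : Cfsg.IrrCharacter G) (a : ℂ)
    (hconst : ∀ y : P, y ≠ 1 → (χ : G → ℂ) y = a)
    (hd : Cfsg.charDegree (χ : G → ℂ) ≤ p) (hd' : Cfsg.charDegree (χ : G → ℂ) + 1 ≠ p)
    (ha : a ≠ 0 ∨ Cfsg.charDegree (χ : G → ℂ) < p) : a = (χ : G → ℂ) 1 := by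
  classical
  haveI : Fact p.Prime := ⟨hp⟩
  haveI : Fintype P := Fintype.ofFinite P
  haveI : IsCyclic P := isCyclic_of_prime_card hP
  letI : CommGroup P := IsCyclic.commGroup
  haveI : Nontrivial P := by
    rw [← Finite.one_lt_card_iff_nontrivial, hP]
    exact hp.one_lt
  haveI : NeZero ((Monoid.exponent P : ℕ) : ℂ) :=
    ⟨by exact_mod_cast Monoid.exponent_ne_zero_of_finite⟩
  obtain ⟨y₀, hy₀⟩ := exists_ne (1 : P)
  obtain ⟨φ, hφ⟩ := CommGroup.exists_apply_ne_one_of_hasEnoughRootsOfUnity P ℂ hy₀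
  have hφ1 : φ ≠ 1 := by
    intro h
    apply hφ
    rw [h]
    rfl
  set d := Cfsg.charDegree (χ : G → ℂ) with hd_def
  have hχchar := IsIrrCharacter.isCharacter χ.2
  have hdeg : (d : ℂ) = (χ : G → ℂ) 1 := charDegree_cast_of_isCharacter hχchar
  set res : P → ℂ := fun y : P => (χ : G → ℂ) y with hres
  have hresc : Cfsg.IsCharacter P res := IsCharacter.restrict P hχchar
  have hpne : (Nat.card P : ℂ) ≠ 0 := by exact_mod_cast Nat.card_pos.ne'
  have hres1 : res 1 = (d : ℂ) := by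
    rw [hres, hdeg]
    simp
  -- inner product with a linear character `μ`
  have hinner : ∀ μ : P →* ℂˣ, (Nat.card P : ℂ) * Cfsg.classInner res (fun y => ((μ y : ℂˣ) : ℂ)) =
      (d : ℂ) - a + a * ∑ y : P, conj ((μ y : ℂˣ) : ℂ) := by
    intro μ
    rw [classInner_def, ← mul_assoc, mul_inv_cancel₀ hpne, one_mul]
    rw [← Finset.add_sum_erase Finset.univ _ (Finset.mem_univ (1 : P))]
    rw [← Finset.add_sum_erase Finset.univ (fun y : P => conj ((μ y : ℂˣ) : ℂ))
      (Finset.mem_univ (1 : P))]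
    have h1 : ∑ y ∈ Finset.univ.erase (1 : P), res y * conj ((μ y : ℂˣ) : ℂ) =
        a * ∑ y ∈ Finset.univ.erase (1 : P), conj ((μ y : ℂˣ) : ℂ) := by
      rw [Finset.mul_sum]
      apply Finset.sum_congr rfl
      intro y hy
      rw [Finset.mem_erase] at hy
      rw [hres]
      simp only
      rw [hconst y hy.1]
    rw [h1, hres1]
    simp only [map_one, Units.val_one]
    ring
  -- the trivial character
  obtain ⟨m₀, hm₀⟩ := classInner_char_char_nat hresc
    (IsIrrCharacter.isCharacter (isIrrCharacter_of_hom (1 : P →* ℂˣ)))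
  obtain ⟨m₁, hm₁⟩ := classInner_char_char_nat hresc
    (IsIrrCharacter.isCharacter (isIrrCharacter_of_hom φ))
  have h0 := hinner 1
  rw [hm₀] at h0
  have h1 := hinner φ
  rw [hm₁] at h1
  have hsum0 : ∑ y : P, conj (((1 : P →* ℂˣ) y : ℂˣ) : ℂ) = (Nat.card P : ℂ) := by
    simp [Nat.card_eq_fintype_card]
  have hsum1 : ∑ y : P, conj ((φ y : ℂˣ) : ℂ) = 0 := by
    rw [← map_sum, Cfsg.Agent.Helper6.BLeo.sum_hom_eq_zero φ hφ1, map_zero]
  rw [hsum0, hP] at h0
  rw [hsum1, hP, mul_zero, add_zero] at h1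
  -- a = d - p m₁ and m₀ + (p-1) m₁ = d
  have ha_eq : a = (d : ℂ) - (p : ℂ) * (m₁ : ℂ) := by linear_combination h1
  have hpne' : (p : ℂ) ≠ 0 := by exact_mod_cast hp.pos.ne'
  have hm : ((m₀ + (p - 1) * m₁ : ℕ) : ℂ) = (d : ℂ) := by
    have hp1 : ((p - 1 : ℕ) : ℂ) = (p : ℂ) - 1 := by
      rw [Nat.cast_sub hp.pos]
      simp
    push_cast
    rw [hp1]
    have h2 : (p : ℂ) * ((m₀ : ℂ) + ((p : ℂ) - 1) * (m₁ : ℂ)) = (p : ℂ) * (d : ℂ) := by
      rw [ha_eq] at h0
      linear_combination h0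
    exact mul_left_cancel₀ hpne' h2
  have hmN : m₀ + (p - 1) * m₁ = d := by exact_mod_cast hm
  rcases Nat.eq_zero_or_pos m₁ with hm1 | hm1
  · rw [ha_eq, hm1, Nat.cast_zero, mul_zero, sub_zero, hdeg]
  · exfalso
    have h3 : p - 1 ≤ (p - 1) * m₁ := Nat.le_mul_of_pos_right _ hm1
    have hdp : d = p := by omega
    have hm11 : m₁ = 1 := by
      by_contra hne
      have : 2 ≤ m₁ := by omega
      have : (p - 1) * 2 ≤ (p - 1) * m₁ := Nat.mul_le_mul_left _ this
      omega
    have ha0 : a = 0 := by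
      rw [ha_eq, hdp, hm11]
      simp
    rcases ha with ha | ha
    · exact ha ha0
    · omega

end Cfsg.Agent.Helper8.IQ
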