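import Mathlib
import Cfsg.Prelude.Def_Characters
import Cfsg.Prelude.Def_Blocks
import Cfsg.Agent.Helper8.IPa
import Cfsg.Agent.Helper6.Linear
import Cfsg.Agent.Helper6.BlockKernel

/-!
# Simple groups: basic facts on characters, and the normalizer of a subgroup of prime order
-/

set_option autoImplicit false
set_option linter.style.haveILetI false

namespace Cfsg.Agent.Helper8.IQ

open Cfsg.Agent.Helper6 Cfsg.Agent.Helper8.IP

universe u

variable {G : Type u} [Group G]

/-- a linear character of a nonabelian simple group is trivial -/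
theorem eq_one_of_linear [Finite G] [IsSimpleGroup G] (hnab : ¬ ∀ a b : G, a * b = b * a)
    (η : Cfsg.IrrCharacter G) (hη : Cfsg.charDegree (η : G → ℂ) = 1) :
    (η : G → ℂ) = fun _ => 1 := by
  have h1 : (η : G → ℂ) 1 = 1 := by
    rw [← charDegree_cast_of_isCharacter (IsIrrCharacter.isCharacter η.2), hη, Nat.cast_one]
  obtain ⟨lam, hlam⟩ := exists_hom_of_irr_degree_one η.2 h1
  rcases (lam.normal_ker).eq_bot_or_eq_top with hk | hk
  · exfalso
    apply hnab
    intro a b
    have hinj : Function.Injective lam := (MonoidHom.ker_eq_bot_iff lam).mp hk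
    apply hinj
    rw [map_mul, map_mul, mul_comm]
  · rw [hlam]
    funext g
    have : g ∈ lam.ker := by rw [hk]; exact Subgroup.mem_top g
    rw [MonoidHom.mem_ker] at this
    rw [this, Units.val_one]

/-- an irreducible character of a nonabelian simple group with a nonidentity element in its
kernel is trivial -/
theorem eq_one_of_mem_ker [Finite G] [IsSimpleGroup G] (hnab : ¬ ∀ a b : G, a * b = b * a)
    (χ : Cfsg.IrrCharacter G) (y : G) (hy : y ≠ 1) (hχy : (χ : G → ℂ) y = (χ : G → ℂ) 1) :
    (χ : G → ℂ) = fun _ => 1 := by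
  classical
  haveI := Fintype.ofFinite G
  have hk : kerSub χ = ⊤ := by
    rcases (kerSub_normal χ).eq_bot_or_eq_top with h | h
    · exfalso
      have : y ∈ kerSub χ := (mem_kerSub χ y).mpr hχy
      rw [h, Subgroup.mem_bot] at this
      exact hy this
    · exact h
  have hall : ∀ g : G, (χ : G → ℂ) g = (χ : G → ℂ) 1 := by
    intro g
    rw [← mem_kerSub, hk]
    exact Subgroup.mem_top g
  -- the norm is χ(1)²
  have hnorm := classInner_irr_self χ.2
  rw [classInner_def] at hnorm
  have hdeg : (Cfsg.charDegree (χ : G → ℂ) : ℂ) = (χ : G → ℂ) 1 :=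
    charDegree_cast_of_isCharacter (IsIrrCharacter.isCharacter χ.2)
  simp_rw [hall, ← hdeg] at hnorm
  rw [Finset.sum_const, Finset.card_univ, nsmul_eq_mul, ← Nat.card_eq_fintype_card] at hnorm
  have hGne : (Nat.card G : ℂ) ≠ 0 := by exact_mod_cast Nat.card_pos.ne'
  rw [Complex.conj_natCast, ← mul_assoc, inv_mul_cancel₀ hGne, one_mul] at hnorm
  have hd1 : Cfsg.charDegree (χ : G → ℂ) * Cfsg.charDegree (χ : G → ℂ) = 1 := by
    exact_mod_cast hnorm
  have hd : Cfsg.charDegree (χ : G → ℂ) = 1 := Nat.eq_one_of_mul_eq_one_left hd1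
  exact eq_one_of_linear hnab χ hd

/-- a nonabelian simple group is not a `p`-group -/
theorem not_isPGroup_of_simple [Finite G] [IsSimpleGroup G] (hnab : ¬ ∀ a b : G, a * b = b * a)
    (p : ℕ) [Fact p.Prime] : ¬ IsPGroup p G := by
  intro hpg
  haveI : Nontrivial G := IsSimpleGroup.toNontrivial
  have hZ : Subgroup.center G ≠ ⊥ := by
    have := hpg.center_nontrivial
    intro h
    rw [h] at this
    exact not_nontrivial _ this
  rcases (inferInstance : (Subgroup.center G).Normal).eq_bot_or_eq_top with h | h
  · exact hZ h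
  · apply hnab
    intro a b
    have : a ∈ Subgroup.center G := by rw [h]; exact Subgroup.mem_top a
    rw [Subgroup.mem_center_iff] at this
    exact (this b).symm

/-- If `P` has prime order `p` and `|N(P) : C(P)| ≥ p - 1` then any two nonidentity elements of
`P` are conjugate. -/
theorem conj_of_relIndex_ge [Finite G] (p : ℕ) (hp : p.Prime) (P : Subgroup G)
    (hP : Nat.card P = p)
    (he : p - 1 ≤ (Subgroup.centralizer (P : Set G)).relIndex (Subgroup.normalizer (P : Set G)))
    (y₀ y : P) (hy₀ : y₀ ≠ 1) (hy : y ≠ 1) : ∃ n : G, n * (y₀ : G) * n⁻¹ = (y : G) := by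
  classical
  haveI : Fact p.Prime := ⟨hp⟩
  set N := Subgroup.normalizer (P : Set G) with hN
  set C := Subgroup.centralizer (P : Set G) with hC
  have hCN : C ≤ N := Subgroup.centralizer_le_normalizer _
  have hgen : Subgroup.zpowers y₀ = ⊤ := zpowers_eq_top_of_prime_card hP hy₀
  -- an element commuting with y₀ centralizes P
  have hcent : ∀ g : G, g * (y₀ : G) = (y₀ : G) * g → g ∈ C := by
    intro g hg
    rw [hC, Subgroup.mem_centralizer_iff]
    intro z hz
    have hz' : (⟨z, hz⟩ : P) ∈ Subgroup.zpowers y₀ := by rw [hgen]; exact Subgroup.mem_top _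
    obtain ⟨k, hk⟩ := Subgroup.mem_zpowers_iff.mp hz'
    have hzk : z = (y₀ : G) ^ k := by
      have := congrArg (fun w : P => (w : G)) hk
      simpa using this.symm
    rw [hzk]
    exact ((Commute.zpow_left (show Commute (y₀ : G) g from hg.symm) k)).eq
  -- the map N/C → P - {1}
  let F : (N ⧸ C.subgroupOf N) → {z : P // z ≠ 1} :=
    Quotient.lift (fun n : N => (⟨⟨(n : G) * (y₀ : G) * (n : G)⁻¹,
        (Subgroup.mem_normalizer_iff.mp n.2 (y₀ : G)).mp y₀.2⟩, by
          intro h
          apply hy₀
          have h1 := congrArg (fun w : P => (w : G)) h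
          simp only [Subgroup.coe_one] at h1
          apply Subtype.ext
          rw [Subgroup.coe_one]
          have : (n : G)⁻¹ * ((n : G) * (y₀ : G) * (n : G)⁻¹) * (n : G) = (n : G)⁻¹ * 1 * (n : G) := by
            rw [h1]
          simpa [mul_assoc] using this⟩ : {z : P // z ≠ 1}))
      (by
        intro n n' hnn'
        apply Subtype.ext
        apply Subtype.ext
        simp only
        have hrel : n⁻¹ * n' ∈ C.subgroupOf N := QuotientGroup.leftRel_apply.mp hnn'
        rw [Subgroup.mem_subgroupOf, hC, Subgroup.mem_centralizer_iff] at hrel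
        have h2 := hrel (y₀ : G) y₀.2
        simp only [Subgroup.coe_mul, Subgroup.coe_inv] at h2
        -- y₀ * (n⁻¹ n') = (n⁻¹ n') * y₀
        have h3 : (n' : G) * (y₀ : G) * (n' : G)⁻¹ =
            (n : G) * (((n : G)⁻¹ * (n' : G)) * (y₀ : G)) * (n' : G)⁻¹ := by group
        rw [h3, ← h2]
        group)
  have hFinj : Function.Injective F := by
    intro q q' hqq'
    induction q using Quotient.inductionOn with
    | h n =>
      induction q' using Quotient.inductionOn with
      | h n' =>
        apply Quotient.sound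
        apply QuotientGroup.leftRel_apply.mpr
        rw [Subgroup.mem_subgroupOf]
        have h1 : (n : G) * (y₀ : G) * (n : G)⁻¹ = (n' : G) * (y₀ : G) * (n' : G)⁻¹ := by
          have := congrArg (fun w : {z : P // z ≠ 1} => ((w : P) : G)) hqq'
          exact this
        apply hcent
        simp only [Subgroup.coe_mul, Subgroup.coe_inv]
        have h2 : (n : G)⁻¹ * ((n : G) * (y₀ : G) * (n : G)⁻¹) * (n' : G) =
            (n : G)⁻¹ * ((n' : G) * (y₀ : G) * (n' : G)⁻¹) * (n' : G) := by rw [h1]
        have h3 : (y₀ : G) * ((n : G)⁻¹ * (n' : G)) = (n : G)⁻¹ * (n' : G) * (y₀ : G) := by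
          have e1 : (n : G)⁻¹ * ((n : G) * (y₀ : G) * (n : G)⁻¹) * (n' : G) =
              (y₀ : G) * ((n : G)⁻¹ * (n' : G)) := by group
          have e2 : (n : G)⁻¹ * ((n' : G) * (y₀ : G) * (n' : G)⁻¹) * (n' : G) =
              (n : G)⁻¹ * (n' : G) * (y₀ : G) := by group
          rw [← e1, ← e2]
          exact h2
        exact h3.symm
  have hcardQ : Nat.card (N ⧸ C.subgroupOf N) = C.relIndex N := rfl
  have hcardT : Nat.card {z : P // z ≠ 1} = p - 1 := by
    haveI : Fintype P := Fintype.ofFinite P
    rw [Nat.card_eq_fintype_card, Fintype.card_subtype_compl, Fintype.card_subtype_eq,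
      ← Nat.card_eq_fintype_card, hP]
  have hFbij : Function.Bijective F := by
    apply (Function.Injective.bijective_of_nat_card_le hFinj)
    rw [hcardQ, hcardT]
    exact he
  obtain ⟨q, hq⟩ := hFbij.2 ⟨y, hy⟩
  induction q using Quotient.inductionOn with
  | h n =>
    refine ⟨(n : G), ?_⟩
    have := congrArg (fun w : {z : P // z ≠ 1} => ((w : P) : G)) hq
    exact this

end Cfsg.Agent.Helper8.IQ
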