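import Mathlib
import Cfsg.Prelude.Def_Characters
import Cfsg.Prelude.Def_Blocks
import Cfsg.Agent.Helper8.IPa
import Cfsg.Agent.Helper8.IPj
import Cfsg.Agent.Helper8.IQc
import Cfsg.Agent.Helper8.IQd
import Cfsg.Agent.Helper8.IQe
import Cfsg.Agent.Helper6.BLeoJ
import Cfsg.Agent.Helper6.PowCongr
import Cfsg.Agent.S4456

/-!
# A nonabelian simple group has an irreducible character whose degree is neither one nor a prime
-/

set_option autoImplicit false
set_option linter.style.haveILetI false

namespace Cfsg.Agent.Helper8.IQ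

open Cfsg.Agent.Helper6 Cfsg.Agent.Helper8.IP

universe u

variable {G : Type u} [Group G]

/-- setting: a nonabelian simple group with all degrees `1` or prime, `p` the largest degree,
`P` a Sylow `p`-subgroup of order `p`; a character constant and nonzero on `P - {1}`, or
constant with degree `< p`, is trivial. -/
theorem eq_one_of_const [Finite G] [IsSimpleGroup G] (hnab : ¬ ∀ a b : G, a * b = b * a)
    (h : ∀ χ : Cfsg.IrrCharacter G, Cfsg.charDegree (χ : G → ℂ) ≠ 1 →
      (Cfsg.charDegree (χ : G → ℂ)).Prime)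
    (p : ℕ) (hp : p.Prime) (hp5 : 5 ≤ p)
    (hb : ∀ χ : Cfsg.IrrCharacter G, Cfsg.charDegree (χ : G → ℂ) ≤ p)
    (P : Subgroup G) (hP : Nat.card P = p) (χ : Cfsg.IrrCharacter G) (a : ℂ)
    (hconst : ∀ y : P, y ≠ 1 → (χ : G → ℂ) y = a)
    (ha : a ≠ 0 ∨ Cfsg.charDegree (χ : G → ℂ) < p) : (χ : G → ℂ) = fun _ => 1 := by
  have hd' : Cfsg.charDegree (χ : G → ℂ) + 1 ≠ p := by
    intro hd
    have h1 : Cfsg.charDegree (χ : G → ℂ) ≠ 1 := by omega
    have h2 := h χ h1
    rcases hp.eq_two_or_odd with h3 | h3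
    · omega
    · rcases h2.eq_two_or_odd with h4 | h4
      · omega
      · omega
  have h1 := const_eq_degree p hp (by omega) P hP χ a hconst (hb χ) hd' ha
  haveI : Nontrivial P := by
    rw [← Finite.one_lt_card_iff_nontrivial, hP]
    exact hp.one_lt
  obtain ⟨y₀, hy₀⟩ := exists_ne (1 : P)
  apply eq_one_of_mem_ker hnab χ (y₀ : G)
  · intro h0
    apply hy₀
    exact Subtype.ext h0
  · rw [hconst y₀ hy₀, h1]

set_option maxHeartbeats 800000 in
/-- A nonabelian finite simple group has an irreducible character whose degree is neither `1`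
nor a prime. -/
theorem simple_false [Finite G] [IsSimpleGroup G] (hnab : ¬ ∀ a b : G, a * b = b * a)
    (h : ∀ χ : Cfsg.IrrCharacter G, Cfsg.charDegree (χ : G → ℂ) ≠ 1 →
      (Cfsg.charDegree (χ : G → ℂ)).Prime) : False := by
  classical
  haveI : Finite (Cfsg.IrrCharacter G) := irr_finite
  haveI : Fintype (Cfsg.IrrCharacter G) := Fintype.ofFinite _
  haveI : Nonempty (Cfsg.IrrCharacter G) := ⟨⟨_, isIrrCharacter_of_hom (1 : G →* ℂˣ)⟩⟩
  obtain ⟨χ₀, -, hχ₀⟩ := Finset.exists_max_image (Finset.univ : Finset (Cfsg.IrrCharacter G))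
    (fun χ => Cfsg.charDegree (χ : G → ℂ)) Finset.univ_nonempty
  set p := Cfsg.charDegree (χ₀ : G → ℂ) with hpdef
  have hb : ∀ χ : Cfsg.IrrCharacter G, Cfsg.charDegree (χ : G → ℂ) ≤ p :=
    fun χ => hχ₀ χ (Finset.mem_univ _)
  have hns : ¬ Group.IsSolvable G := fun hs => hnab (IsSimpleGroup.comm_iff_isSolvable.mpr hs)
  have hmin : ∀ M : Subgroup G, M.Normal → M ≠ ⊥ → commutator G ≤ M := by
    intro M hM hne
    rw [(hM.eq_bot_or_eq_top).resolve_left hne]
    exact le_top
  obtain ⟨ξ, hξ5⟩ := five_le_degree hns hmin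
  have hp5 : 5 ≤ p := le_trans hξ5 (hb ξ)
  have hpp : p.Prime := h χ₀ (by omega)
  haveI : Fact p.Prime := ⟨hpp⟩
  have hdvd : p ∣ Nat.card G := charDegree_dvd_card χ₀.2
  obtain ⟨P⟩ : Nonempty (Sylow p G) := inferInstance
  have hPn : ¬ (P : Subgroup G).Normal := by
    intro hn
    rcases hn.eq_bot_or_eq_top with h0 | h0
    · exact Sylow.ne_bot_of_dvd_card P hdvd h0
    · apply not_isPGroup_of_simple hnab p
      have := P.isPGroup'
      rw [h0] at this
      exact this.of_equiv Subgroup.topEquiv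
  have hPcard : Nat.card (P : Subgroup G) = p := card_sylow_of_degree_le p hpp hb P hPn
  haveI : Nontrivial (P : Subgroup G) := by
    rw [← Finite.one_lt_card_iff_nontrivial, hPcard]
    exact hpp.one_lt
  obtain ⟨y₀, hy₀⟩ := exists_ne (1 : (P : Subgroup G))
  have hy₀G : (y₀ : G) ≠ 1 := fun h0 => hy₀ (Subtype.ext h0)
  set e := (Subgroup.centralizer ((P : Subgroup G) : Set G)).relIndex
    (Subgroup.normalizer ((P : Subgroup G) : Set G)) with he
  have he0 : e ≠ 0 :=
    (Nat.pos_of_dvd_of_pos (Subgroup.relIndex_dvd_card _ _) Nat.card_pos).ne'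
  -- the final contradiction once all nonlinear degrees are `p`
  have hthompson : (∀ χ : Cfsg.IrrCharacter G, Cfsg.charDegree (χ : G → ℂ) ≠ 1 →
      p ∣ Cfsg.charDegree (χ : G → ℂ)) → False := by
    intro hall
    obtain ⟨K, hKn, hKcop, k, hKidx⟩ := Cfsg.Agent.S4456.result p hpp hall
    rcases hKn.eq_bot_or_eq_top with h0 | h0
    · apply not_isPGroup_of_simple hnab p
      rw [IsPGroup.iff_card]
      refine ⟨k, ?_⟩
      rw [← hKidx, h0, Subgroup.index_bot]
    · rw [h0] at hKcop
      have : Nat.card (⊤ : Subgroup G) = Nat.card G := Subgroup.card_top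
      rw [this] at hKcop
      exact (Nat.Prime.coprime_iff_not_dvd hpp).mp hKcop.symm hdvd
  have hcases : e = 1 ∨ (1 < e ∧ e + 1 < p) ∨ p - 1 ≤ e := by omega
  rcases hcases with he1 | ⟨he2, he3⟩ | he4
  · -- Burnside's transfer theorem
    have hNC : Subgroup.normalizer ((P : Subgroup G) : Set G) ≤
        Subgroup.centralizer ((P : Subgroup G) : Set G) := Subgroup.relIndex_eq_one.mp he1
    have hcompl := MonoidHom.ker_transferSylow_isComplement' P hNC
    have hnd := MonoidHom.not_dvd_card_ker_transferSylow P hNC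
    rcases (MonoidHom.normal_ker (MonoidHom.transferSylow P hNC)).eq_bot_or_eq_top with h0 | h0
    · rw [h0, Subgroup.isComplement'_bot_left] at hcompl
      apply hPn
      rw [hcompl]
      infer_instance
    · rw [h0] at hnd
      have : Nat.card (⊤ : Subgroup G) = Nat.card G := Subgroup.card_top
      rw [this] at hnd
      exact hnd hdvd
  · -- Brauer–Leonard
    obtain ⟨M, hM⟩ := exists_isPModular p hpp
    have hab : ∀ a ∈ (P : Subgroup G), ∀ b ∈ (P : Subgroup G), a * b = b * a := by
      haveI : IsCyclic (P : Subgroup G) := isCyclic_of_prime_card hPcard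
      intro a ha b hb'
      have := (IsCyclic.commGroup (α := (P : Subgroup G))).mul_comm ⟨a, ha⟩ ⟨b, hb'⟩
      have h2 := congrArg (fun w : (P : Subgroup G) => (w : G)) this
      simpa using h2
    have hP1 : Nat.card ↥(P : Subgroup G) ≠ 1 := by
      rw [hPcard]
      exact hpp.one_lt.ne'
    have hfrob : ∀ y : G, y ∈ (P : Subgroup G) → y ≠ 1 →
        Subgroup.centralizer ({y} : Set G) ⊓ Subgroup.normalizer ((P : Subgroup G) : Set G) =
          Subgroup.centralizer ((P : Subgroup G) : Set G) := by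
      intro y hy hy1
      apply le_antisymm
      · intro g hg
        have hgy : g ∈ Subgroup.centralizer ({y} : Set G) := hg.1
        rw [Subgroup.mem_centralizer_iff] at hgy ⊢
        intro z hz
        have hgen : Subgroup.zpowers (⟨y, hy⟩ : (P : Subgroup G)) = ⊤ :=
          zpowers_eq_top_of_prime_card hPcard (fun h0 => hy1 (congrArg Subtype.val h0))
        have hz' : (⟨z, hz⟩ : (P : Subgroup G)) ∈ Subgroup.zpowers (⟨y, hy⟩ : (P : Subgroup G)) := by
          rw [hgen]; exact Subgroup.mem_top _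
        obtain ⟨k, hk⟩ := Subgroup.mem_zpowers_iff.mp hz'
        have hzk : z = y ^ k := by
          have := congrArg (fun w : (P : Subgroup G) => (w : G)) hk
          simpa using this.symm
        rw [hzk]
        have hc : Commute y g := hgy y (Set.mem_singleton y)
        exact (Commute.zpow_left hc k).eq
      · apply le_inf
        · exact Subgroup.centralizer_le (Set.singleton_subset_iff.mpr hy)
        · exact Subgroup.centralizer_le_normalizer _
    have hm2 : e + 1 < Nat.card ↥(P : Subgroup G) := by rw [hPcard]; exact he3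
    obtain ⟨s, X, Y, -, -, hdisj, -, hcardY, ⟨χ₁, hχ₁X, hχ₁⟩, a, d, δ, ζ, -, hX, -, -, -, -, -,
      -, hrel⟩ := BLeo.brauer_leonard p M hM P hab hP1 e he2 hm2 rfl hfrob
    -- every member of X is trivial
    have hIsPPart : ∀ y : (P : Subgroup G), Cfsg.IsPPart p (y : G) (y : G) := by
      intro y
      refine ⟨1, mul_one _, Commute.one_right _, ?_, ?_⟩
      · have hord : orderOf (y : G) ∣ p := by
          have := orderOf_dvd_natCard y
          rw [hPcard] at this
          rwa [Subgroup.orderOf_coe]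
        rcases (Nat.dvd_prime hpp).mp hord with h1 | h1
        · exact ⟨0, by rw [h1, pow_zero]⟩
        · exact ⟨1, by rw [h1, pow_one]⟩
      · rw [orderOf_one]
        exact hpp.one_lt.ne' ∘ Nat.dvd_one.mp
    have hXtriv : ∀ χ ∈ X, χ = χ₁ := by
      intro χ hχ
      obtain ⟨ha0, hconst⟩ := hX χ hχ
      have h1 := eq_one_of_const hnab h p hpp hp5 hb (P : Subgroup G) hPcard χ (a χ : ℂ)
        (fun y hy => hconst (y : G) (y : G) (hIsPPart y) y.2 (fun h0 => hy (Subtype.ext h0)))
        (Or.inl (by exact_mod_cast ha0))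
      apply Subtype.ext
      rw [h1, hχ₁]
    have hXeq : X = {χ₁} := by
      ext χ
      constructor
      · intro hχ
        exact hXtriv χ hχ
      · intro hχ
        rw [Set.mem_singleton_iff] at hχ
        rw [hχ]
        exact hχ₁X
    have haχ₁ : a χ₁ = 1 := by
      obtain ⟨-, hconst⟩ := hX χ₁ hχ₁X
      have := hconst (y₀ : G) (y₀ : G) (hIsPPart y₀) y₀.2 hy₀G
      rw [hχ₁] at this
      have h2 : ((a χ₁ : ℤ) : ℂ) = ((1 : ℤ) : ℂ) := by
        rw [← this]
        simp
      exact_mod_cast h2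
    -- Y is nonempty
    have hYne : Y.Nonempty := by
      rw [← Set.nonempty_coe_sort, ← Finite.card_pos_iff (α := Y)]
      · rw [hcardY, hPcard]
        apply Nat.div_pos
        · omega
        · omega
    obtain ⟨η, hηY⟩ := hYne
    have hrel1 := hrel η hηY 1 (by rw [orderOf_one]; exact hpp.one_lt.ne' ∘ Nat.dvd_one.mp)
    rw [hXeq, finsum_mem_singleton, haχ₁, hχ₁] at hrel1
    have hηdeg : (Cfsg.charDegree (η : G → ℂ) : ℂ) = (η : G → ℂ) 1 :=
      charDegree_cast_of_isCharacter (IsIrrCharacter.isCharacter η.2)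
    rw [← hηdeg] at hrel1
    set t : ℕ := (Nat.card ↥(P : Subgroup G) - 1) / e with ht
    have hint : ((t : ℤ) * d - δ) * (Cfsg.charDegree (η : G → ℂ) : ℤ) = -1 := by
      have : ((((t : ℤ) * d - δ) * (Cfsg.charDegree (η : G → ℂ) : ℤ) : ℤ) : ℂ) = ((-1 : ℤ) : ℂ) := by
        push_cast
        linear_combination hrel1
      exact_mod_cast this
    have hη1 : Cfsg.charDegree (η : G → ℂ) = 1 := by
      have hdvd1 : (Cfsg.charDegree (η : G → ℂ) : ℤ) ∣ 1 := by
        refine ⟨-((t : ℤ) * d - δ), ?_⟩
        linear_combination hint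
      have := Int.natAbs_dvd_natAbs.mpr hdvd1
      simpa using this
    have hηtriv := eq_one_of_linear hnab η hη1
    have hηχ₁ : η = χ₁ := by
      apply Subtype.ext
      rw [hηtriv, hχ₁]
    rw [hηχ₁] at hηY
    exact (Set.disjoint_left.mp hdisj hχ₁X) hηY
  · -- all nonidentity elements of P are conjugate
    apply hthompson
    intro χ hχ1
    by_contra hnd
    have hlt : Cfsg.charDegree (χ : G → ℂ) < p := by
      have h1 := hb χ
      rcases Nat.lt_or_ge (Cfsg.charDegree (χ : G → ℂ)) p with h2 | h2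
      · exact h2
      · exfalso
        apply hnd
        have : Cfsg.charDegree (χ : G → ℂ) = p := le_antisymm h1 h2
        rw [this]
    have hcf := IsCharacter.isClassFunction (IsIrrCharacter.isCharacter χ.2)
    have htriv := eq_one_of_const hnab h p hpp hp5 hb (P : Subgroup G) hPcard χ
      ((χ : G → ℂ) (y₀ : G))
      (fun y hy => by
        obtain ⟨n, hn⟩ := conj_of_relIndex_ge p hpp (P : Subgroup G) hPcard he4 y₀ y hy₀ hy
        rw [← hn]
        exact hcf (y₀ : G) n)
      (Or.inr hlt)
    apply hχ1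
    apply charDegree_eq_of_apply_one
    rw [htriv]
    simp

end Cfsg.Agent.Helper8.IQ
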