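import Mathlib
import Cfsg.Prelude.Def_Characters
import Cfsg.Prelude.Def_Blocks
import Cfsg.Agent.Helper8.IPa
import Cfsg.Agent.Helper8.IQf
import Cfsg.Agent.Helper6.CliffordCorr
import Cfsg.Agent.Helper6.CliffordOrbit
import Cfsg.Agent.Helper6.Inflation

/-!
# Isaacs–Passman: all nonlinear irreducible characters of prime degree implies solvable
-/

set_option autoImplicit false
set_option linter.style.haveILetI false

namespace Cfsg.Agent.Helper8.IQ

open Cfsg.Agent.Helper6 Cfsg.Agent.Helper8.IP

universe u

variable {G : Type u} [Group G]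

/-- the degree of an irreducible character of a normal subgroup divides the degree of an
irreducible character of the group lying over it -/
theorem exists_degree_dvd [Finite G] (N : Subgroup G) [hN : N.Normal] (θ : Cfsg.IrrCharacter N) :
    ∃ χ : Cfsg.IrrCharacter G, Cfsg.charDegree (θ : N → ℂ) ∣ Cfsg.charDegree (χ : G → ℂ) := by
  classical
  haveI := Fintype.ofFinite G
  haveI : Fintype N := Fintype.ofFinite N
  obtain ⟨χ, hχ⟩ := exists_irr_over N θ
  refine ⟨χ, ?_⟩
  have hdeg := clifford_degree N (χ : G → ℂ) χ.2 (θ : N → ℂ) θ.2 hχ (conjStab N (θ : N → ℂ))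
    (fun g => mem_conjStab N (θ : N → ℂ) g)
  obtain ⟨e, he⟩ := classInner_char_char_nat
    (IsCharacter.restrict N (IsIrrCharacter.isCharacter χ.2)) (IsIrrCharacter.isCharacter θ.2)
  have hχdeg : (Cfsg.charDegree (χ : G → ℂ) : ℂ) = (χ : G → ℂ) 1 :=
    charDegree_cast_of_isCharacter (IsIrrCharacter.isCharacter χ.2)
  have hθdeg : (Cfsg.charDegree (θ : N → ℂ) : ℂ) = (θ : N → ℂ) 1 :=
    charDegree_cast_of_isCharacter (IsIrrCharacter.isCharacter θ.2)
  rw [he, ← hχdeg, ← hθdeg] at hdeg
  have h1 : Cfsg.charDegree (χ : G → ℂ) =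
      e * (conjStab N (θ : N → ℂ)).index * Cfsg.charDegree (θ : N → ℂ) := by
    exact_mod_cast hdeg
  rw [h1]
  exact Dvd.intro_left _ rfl

theorem prime_degrees_solvable_aux (n : ℕ) : ∀ (G : Type u) [Group G] [Finite G],
    Nat.card G ≤ n →
    (∀ χ : Cfsg.IrrCharacter G, Cfsg.charDegree (χ : G → ℂ) ≠ 1 →
      (Cfsg.charDegree (χ : G → ℂ)).Prime) → Group.IsSolvable G := by
  induction n with
  | zero =>
    intro G _ _ hcard
    have := Nat.card_pos (α := G)
    omega
  | succ n ih =>
    intro G _ _ hcard h
    classical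
    by_cases hcomm : ∀ a b : G, a * b = b * a
    · exact Group.isSolvable_of_comm hcomm
    · by_cases hsimple : IsSimpleGroup G
      · exact (simple_false hcomm h).elim
      · -- a proper nontrivial normal subgroup
        haveI : Nontrivial G := by
          by_contra hcon
          rw [not_nontrivial_iff_subsingleton] at hcon
          exact hcomm (fun a b => Subsingleton.elim _ _)
        obtain ⟨N, hNn, hNbot, hNtop⟩ : ∃ N : Subgroup G, N.Normal ∧ N ≠ ⊥ ∧ N ≠ ⊤ := by
          by_contra hcon
          push Not at hcon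
          apply hsimple
          exact ⟨fun H hH => by
            by_cases hb : H = ⊥
            · exact Or.inl hb
            · exact Or.inr (hcon H hH hb)⟩
        haveI := hNn
        have hNprop : ∀ θ : Cfsg.IrrCharacter N, Cfsg.charDegree (θ : N → ℂ) ≠ 1 →
            (Cfsg.charDegree (θ : N → ℂ)).Prime := by
          intro θ hθ1
          obtain ⟨χ, hdvd⟩ := exists_degree_dvd N θ
          have hχ1 : Cfsg.charDegree (χ : G → ℂ) ≠ 1 := by
            intro h1
            rw [h1] at hdvd
            exact hθ1 (Nat.dvd_one.mp hdvd)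
          have hχp := h χ hχ1
          rcases (Nat.dvd_prime hχp).mp hdvd with h2 | h2
          · exact absurd h2 hθ1
          · rw [h2]
            exact hχp
        have hQprop : ∀ ξ : Cfsg.IrrCharacter (G ⧸ N), Cfsg.charDegree (ξ : G ⧸ N → ℂ) ≠ 1 →
            (Cfsg.charDegree (ξ : G ⧸ N → ℂ)).Prime := by
          intro ξ hξ1
          have h2 : Cfsg.charDegree ((ξ : G ⧸ N → ℂ) ∘ QuotientGroup.mk) =
              Cfsg.charDegree (ξ : G ⧸ N → ℂ) := by
            unfold Cfsg.charDegree
            rw [Function.comp_apply, QuotientGroup.mk_one]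
          have h3 := h ⟨_, isIrrCharacter_inflate N ξ⟩
          change Cfsg.charDegree ((ξ : G ⧸ N → ℂ) ∘ QuotientGroup.mk) ≠ 1 →
            (Cfsg.charDegree ((ξ : G ⧸ N → ℂ) ∘ QuotientGroup.mk)).Prime at h3
          rw [h2] at h3
          exact h3 hξ1
        have hNcard : Nat.card N < Nat.card G := by
          have h1 : Nat.card N * N.index = Nat.card G := Subgroup.card_mul_index N
          have h2 : N.index ≠ 1 := fun h => hNtop (Subgroup.index_eq_one.mp h)
          have h3 : N.index ≠ 0 := Subgroup.index_ne_zero_of_finite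
          have h4 : 0 < Nat.card N := Nat.card_pos
          have h5 : 2 ≤ N.index := by omega
          nlinarith
        have hQcard : Nat.card (G ⧸ N) < Nat.card G := by
          have h1 : Nat.card N * N.index = Nat.card G := Subgroup.card_mul_index N
          have h2 : Nat.card N ≠ 1 := fun h => hNbot (Subgroup.card_eq_one.mp h)
          have h4 : 0 < Nat.card N := Nat.card_pos
          have h5 : 2 ≤ Nat.card N := by omega
          have h6 : 0 < N.index := Nat.pos_of_ne_zero Subgroup.index_ne_zero_of_finite
          change N.index < Nat.card G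
          nlinarith
        haveI hNs : Group.IsSolvable N := ih N (by omega) hNprop
        haveI hQs : Group.IsSolvable (G ⧸ N) := ih (G ⧸ N) (by omega) hQprop
        apply Group.isSolvable_of_ker_le_range N.subtype (QuotientGroup.mk' N)
        rw [QuotientGroup.ker_mk', Subgroup.range_subtype]

/-- **Isaacs–Passman**: if every nonlinear irreducible character has prime degree, the group is
solvable. -/
theorem prime_degrees_solvable {G : Type u} [Group G] [Finite G]
    (h : ∀ χ : Cfsg.IrrCharacter G, Cfsg.charDegree (χ : G → ℂ) ≠ 1 →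
      (Cfsg.charDegree (χ : G → ℂ)).Prime) : Group.IsSolvable G :=
  prime_degrees_solvable_aux (Nat.card G) G le_rfl h

end Cfsg.Agent.Helper8.IQ
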