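import Mathlib
import Cfsg.Prelude.Def_Characters
import Cfsg.Prelude.Def_Blocks
import Cfsg.Agent.Helper8.IPa
import Cfsg.Agent.Helper8.IPd
import Cfsg.Agent.Helper8.IPg
import Cfsg.Agent.Helper8.IPh
import Cfsg.Agent.Helper6.CharTripleD
import Cfsg.Agent.Helper6.NormalComplementBlock2

/-!
# Groups whose nonlinear irreducible characters have prime degree: the `p`-group case
-/

set_option autoImplicit false
set_option linter.style.haveILetI false

namespace Cfsg.Agent.Helper8.IR

open Cfsg.Agent.Helper6 Cfsg.Agent.Helper8.IP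

universe u

variable {G : Type u} [Group G]

/-- degree ratio for a constituent on a normal subgroup, in terms of `charDegree` -/
theorem ratio_dvd [Fintype G] (N : Subgroup G) [hN : N.Normal] [Fintype N]
    (χ : Cfsg.IrrCharacter G) (θ : Cfsg.IrrCharacter N)
    (hcon : Cfsg.classInner (fun n : N => (χ : G → ℂ) n) (θ : N → ℂ) ≠ 0) :
    Cfsg.charDegree (θ : N → ℂ) ∣ Cfsg.charDegree (χ : G → ℂ) ∧
      Cfsg.charDegree (χ : G → ℂ) / Cfsg.charDegree (θ : N → ℂ) ∣ N.index := by
  classical
  exact degree_ratio_dvd_index N (χ : G → ℂ) χ.2 (θ : N → ℂ) θ.2 hcon _ _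
    (charDegree_cast_of_isCharacter (IsIrrCharacter.isCharacter χ.2)).symm
    (charDegree_cast_of_isCharacter (IsIrrCharacter.isCharacter θ.2)).symm

/-- a constituent of the same degree is the restriction -/
theorem restrict_eq_of_degree_eq (N : Subgroup G) [Fintype N] (χ : Cfsg.IrrCharacter G)
    (θ : Cfsg.IrrCharacter N)
    (hcon : Cfsg.classInner (fun n : N => (χ : G → ℂ) n) (θ : N → ℂ) ≠ 0)
    (hdeg : Cfsg.charDegree (χ : G → ℂ) ≤ Cfsg.charDegree (θ : N → ℂ)) :
    (fun n : N => (χ : G → ℂ) n) = (θ : N → ℂ) := by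
  classical
  apply eq_of_constituent_of_degree_le _ _
    (IsCharacter.restrict N (IsIrrCharacter.isCharacter χ.2)) θ.2 hcon
  rw [charDegree_restrict]
  exact hdeg

/-- a constituent of a character of prime degree `q` on a normal subgroup whose index is not
divisible by `q` has degree `q`. -/
theorem restrict_irr_of_prime [Finite G] (N : Subgroup G) [hN : N.Normal]
    (χ : Cfsg.IrrCharacter G) (hq : (Cfsg.charDegree (χ : G → ℂ)).Prime)
    (hndvd : ¬ Cfsg.charDegree (χ : G → ℂ) ∣ N.index) :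
    Cfsg.IsIrrCharacter N (fun n : N => (χ : G → ℂ) n) := by
  classical
  haveI := Fintype.ofFinite G
  haveI : Fintype N := Fintype.ofFinite N
  obtain ⟨θ, hθ⟩ := exists_constituent_restrict N χ
  obtain ⟨h1, h2⟩ := ratio_dvd N χ θ hθ
  rcases (Nat.dvd_prime hq).mp h1 with h3 | h3
  · rw [h3, Nat.div_one] at h2
    exact (hndvd h2).elim
  · rw [restrict_eq_of_degree_eq N χ θ hθ h3.ge]
    exact θ.2

/-- The `p`-group case: all degrees are `1` or `d`. -/
theorem pgroup_degrees [Finite G]
    (hP : ∀ χ : Cfsg.IrrCharacter G, Cfsg.charDegree (χ : G → ℂ) = 1 ∨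
      (Cfsg.charDegree (χ : G → ℂ)).Prime)
    (K : Subgroup G) [hK : K.Normal] (p : ℕ) (hp : p.Prime) (hpg : IsPGroup p (G ⧸ K))
    (hna : ¬ commutator G ≤ K)
    (hmax : ∀ M : Subgroup G, M.Normal → K < M → commutator G ≤ M) :
    ∃ d : ℕ, ∀ χ : Cfsg.IrrCharacter G, Cfsg.charDegree (χ : G → ℂ) = 1 ∨
      Cfsg.charDegree (χ : G → ℂ) = d := by
  classical
  haveI := Fintype.ofFinite G
  haveI : Fact p.Prime := ⟨hp⟩
  set π := QuotientGroup.mk' K with hπ
  have hπs : Function.Surjective π := QuotientGroup.mk'_surjective K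
  have hker : π.ker = K := QuotientGroup.ker_mk' K
  have hnc : ¬ ∀ a c : G ⧸ K, a * c = c * a := by
    intro hc
    apply hna
    rw [← Subgroup.Normal.quotient_commutative_iff_commutator_le]
    exact ⟨⟨hc⟩⟩
  have hcomm : commutator (G ⧸ K) = (commutator G).map π := by
    rw [commutator_def, commutator_def, Subgroup.map_commutator,
      Subgroup.map_top_of_surjective π hπs]
  have hmin : ∀ M : Subgroup (G ⧸ K), M.Normal → M ≠ ⊥ → commutator (G ⧸ K) ≤ M := by
    intro M hM hMne
    have hlt : K < M.comap π := by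
      rw [lt_iff_le_and_ne]
      constructor
      · intro k hk
        rw [Subgroup.mem_comap]
        have : π k = 1 := by
          rw [← MonoidHom.mem_ker, hker]
          exact hk
        rw [this]
        exact M.one_mem
      · intro h
        apply hMne
        rw [eq_bot_iff]
        intro q hq
        obtain ⟨g, rfl⟩ := hπs q
        have : g ∈ M.comap π := hq
        rw [← h, ← hker, MonoidHom.mem_ker] at this
        rw [Subgroup.mem_bot]
        exact this
    have := hmax (M.comap π) (hM.comap π) hlt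
    rw [hcomm]
    rw [Subgroup.map_le_iff_le_comap]
    exact this
  obtain ⟨ξ, hd2, hvan, hidx⟩ := exists_fully_ramified p hpg hnc hmin
  set d := Cfsg.charDegree (ξ : G ⧸ K → ℂ) with hd
  set χ : G → ℂ := (ξ : G ⧸ K → ℂ) ∘ QuotientGroup.mk with hχ
  have hχirr : Cfsg.IsIrrCharacter G χ := isIrrCharacter_inflate K ξ
  have hξdeg : (d : ℂ) = (ξ : G ⧸ K → ℂ) 1 :=
    charDegree_cast_of_isCharacter (IsIrrCharacter.isCharacter ξ.2)
  have hχdeg : Cfsg.charDegree χ = d := by
    apply charDegree_eq_of_apply_one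
    rw [hχ, Function.comp_apply, QuotientGroup.mk_one, hξdeg]
  have hdprime : d.Prime := by
    rcases hP ⟨χ, hχirr⟩ with h | h
    · change Cfsg.charDegree χ = 1 at h
      omega
    · change (Cfsg.charDegree χ).Prime at h
      rwa [hχdeg] at h
  set Z : Subgroup G := (Subgroup.center (G ⧸ K)).comap π with hZ
  haveI : Z.Normal := by
    rw [hZ]
    exact Subgroup.Normal.comap inferInstance π
  haveI : Fintype Z := Fintype.ofFinite Z
  have hZidx : Z.index = d ^ 2 := by
    rw [hZ, Subgroup.index_comap_of_surjective _ hπs, hidx]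
  have hχ1 : ∀ g : G, g ∈ Z → ‖χ g‖ ^ 2 = ((d : ℕ) : ℝ) ^ 2 := by
    intro g hg
    rw [hZ, Subgroup.mem_comap] at hg
    exact norm_sq_of_mem_center ξ _ hg
  have hχ0 : ∀ g : G, g ∉ Z → χ g = 0 := by
    intro g hg
    have : (π g) ∉ Subgroup.center (G ⧸ K) := fun h => hg h
    exact hvan _ this
  refine ⟨d, fun ψ => ?_⟩
  rcases hP ψ with h1 | hq
  · exact Or.inl h1
  · right
    by_contra hne
    have hndvd : ¬ Cfsg.charDegree (ψ : G → ℂ) ∣ Z.index := by
      intro h
      rw [hZidx] at h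
      have := (Nat.prime_dvd_prime_iff_eq hq hdprime).mp (hq.dvd_of_dvd_pow h)
      exact hne this
    have hψZ : Cfsg.IsIrrCharacter Z (fun z : Z => (ψ : G → ℂ) z) :=
      restrict_irr_of_prime Z ψ hq hndvd
    have hnorm := classInner_mul_fully_ramified Z d hZidx.symm χ (ψ : G → ℂ) hχ1 hχ0 hψZ
    have hprod : Cfsg.IsIrrCharacter G ((ψ : G → ℂ) * χ) :=
      isIrrCharacter_of_classInner_self
        (IsCharacter.mul (IsIrrCharacter.isCharacter ψ.2) (IsIrrCharacter.isCharacter hχirr)) hnorm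
    have hψ1 : ((Cfsg.charDegree (ψ : G → ℂ) : ℕ) : ℂ) = (ψ : G → ℂ) 1 :=
      charDegree_cast_of_isCharacter (IsIrrCharacter.isCharacter ψ.2)
    have hpdeg : Cfsg.charDegree ((ψ : G → ℂ) * χ) = Cfsg.charDegree (ψ : G → ℂ) * d := by
      apply charDegree_eq_of_apply_one
      rw [Pi.mul_apply, Nat.cast_mul, hψ1, hξdeg, hχ, Function.comp_apply, QuotientGroup.mk_one]
    have hq2 := hq.two_le
    rcases hP ⟨_, hprod⟩ with h | h
    · change Cfsg.charDegree ((ψ : G → ℂ) * χ) = 1 at h
      rw [hpdeg] at h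
      have := Nat.eq_one_of_mul_eq_one_left h
      omega
    · change (Cfsg.charDegree ((ψ : G → ℂ) * χ)).Prime at h
      rw [hpdeg] at h
      exact Nat.not_prime_mul (by omega) (by omega) h

end Cfsg.Agent.Helper8.IR
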