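import Mathlib
import Cfsg.Prelude.Def_Characters
import Cfsg.Prelude.Def_Blocks
import Cfsg.Agent.Helper8.IPa
import Cfsg.Agent.Helper8.IPc
import Cfsg.Agent.Helper8.IPg
import Cfsg.Agent.Helper8.IRa
import Cfsg.Agent.Helper6.AbelianInertia
import Cfsg.Agent.Helper6.CliffordCorr
import Cfsg.Agent.Helper6.CliffordOrbit

/-!
# Groups whose nonlinear irreducible characters have prime degree: the Frobenius case, part 1
-/

set_option autoImplicit false
set_option linter.style.haveILetI false

namespace Cfsg.Agent.Helper8.IR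

open Cfsg.Agent.Helper6 Cfsg.Agent.Helper8.IP

universe u

variable {G : Type u} [Group G]

/-- If `N / K` is abelian and nontrivial and every element outside `N` acts on `N / K` without
nontrivial fixed points, then some irreducible character of `G` has degree a multiple of
`|G : N|`. -/
theorem exists_degree_mul_index [Finite G]
    (N K : Subgroup G) [hN : N.Normal] [hK : K.Normal]
    (hNK : ¬ N ≤ K)
    (hab : ∀ a ∈ N, ∀ c ∈ N, a * c * a⁻¹ * c⁻¹ ∈ K)
    (hfpf : ∀ x : G, x ∉ N → ∀ y ∈ N, x * y * x⁻¹ * y⁻¹ ∈ K → y ∈ K) :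
    ∃ (χ : Cfsg.IrrCharacter G) (e : ℕ), e ≠ 0 ∧
      Cfsg.charDegree (χ : G → ℂ) = e * N.index := by
  classical
  haveI := Fintype.ofFinite G
  haveI : Fintype N := Fintype.ofFinite N
  haveI : (K.subgroupOf N).Normal := inferInstance
  set Q := N ⧸ K.subgroupOf N with hQ
  have hcomm := quot_comm N K hab
  letI : CommGroup Q := { (inferInstance : Group Q) with mul_comm := hcomm }
  haveI : NeZero ((Monoid.exponent Q : ℕ) : ℂ) :=
    ⟨by exact_mod_cast Monoid.exponent_ne_zero_of_finite⟩
  -- a nontrivial element of Q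
  obtain ⟨y₀, hy₀N, hy₀K⟩ := SetLike.not_le_iff_exists.mp hNK
  have hq : (QuotientGroup.mk (⟨y₀, hy₀N⟩ : N) : Q) ≠ 1 := by
    intro h
    rw [QuotientGroup.eq_one_iff, Subgroup.mem_subgroupOf] at h
    exact hy₀K h
  obtain ⟨φ, hφ⟩ := CommGroup.exists_apply_ne_one_of_hasEnoughRootsOfUnity Q ℂ hq
  set μ : N →* ℂˣ := φ.comp (QuotientGroup.mk' (K.subgroupOf N)) with hμ
  set lam : N → ℂ := fun a => ((μ a : ℂˣ) : ℂ) with hlam
  have hlamirr : Cfsg.IsIrrCharacter N lam := isIrrCharacter_of_hom μ
  -- the stabilizer of lam is N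
  have hstab : conjStab N lam = N := by
    apply le_antisymm
    · intro x hx
      by_contra hxN
      rw [mem_conjStab] at hx
      -- the induced automorphism of Q
      have hle : K.subgroupOf N ≤ (K.subgroupOf N).comap
          ((MulAut.conjNormal x : N ≃* N) : N →* N) := by
        intro a ha
        rw [Subgroup.mem_comap, Subgroup.mem_subgroupOf]
        rw [Subgroup.mem_subgroupOf] at ha
        have := hK.conj_mem _ ha x
        simpa [MulAut.conjNormal_apply] using this
      set σ : Q →* Q := QuotientGroup.map (K.subgroupOf N) (K.subgroupOf N)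
        ((MulAut.conjNormal x : N ≃* N) : N →* N) hle with hσ
      set τ : Q →* Q := σ / MonoidHom.id Q with hτ
      have hτinj : Function.Injective τ := by
        rw [injective_iff_map_eq_one]
        intro q hq1
        induction q using QuotientGroup.induction_on with
        | H a =>
          rw [hτ, MonoidHom.div_apply, MonoidHom.id_apply, div_eq_one] at hq1
          rw [hσ, QuotientGroup.map_mk, QuotientGroup.eq, Subgroup.mem_subgroupOf] at hq1
          rw [QuotientGroup.eq_one_iff, Subgroup.mem_subgroupOf]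
          have h1 : x * ((a⁻¹ : N) : G) * x⁻¹ * ((a⁻¹ : N) : G)⁻¹ ∈ K := by
            convert hq1 using 1
            simp [MulAut.conjNormal_apply]
            group
          have h2 := hfpf x hxN _ a⁻¹.2 h1
          simpa using h2
      have hτsurj : Function.Surjective τ := Finite.injective_iff_surjective.mp hτinj
      apply hφ
      obtain ⟨q', hq'⟩ := hτsurj (QuotientGroup.mk (⟨y₀, hy₀N⟩ : N) : Q)
      rw [← hq']
      induction q' using QuotientGroup.induction_on with
      | H a =>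
        rw [hτ, MonoidHom.div_apply, MonoidHom.id_apply, map_div, div_eq_one, hσ,
          QuotientGroup.map_mk]
        have h3 := congrFun hx a
        simp only [hlam, conjFun] at h3
        have h4 : μ ⟨x * (a : G) * x⁻¹, hN.conj_mem a a.2 x⟩ = μ a := Units.ext h3
        simp only [hμ, MonoidHom.comp_apply, QuotientGroup.mk'_apply] at h4
        have h5 : ((MulAut.conjNormal x : N ≃* N) : N →* N) a =
            ⟨x * (a : G) * x⁻¹, hN.conj_mem a a.2 x⟩ :=
          Subtype.ext (by simp [MulAut.conjNormal_apply])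
        rw [h5]
        exact h4
    · exact le_conjStab_of_isClassFunction N lam
        (IsCharacter.isClassFunction (IsIrrCharacter.isCharacter hlamirr))
  -- an irreducible character over lam
  obtain ⟨χ, hχ⟩ := exists_irr_over N ⟨lam, hlamirr⟩
  have hdeg := clifford_degree N (χ : G → ℂ) χ.2 lam hlamirr hχ (conjStab N lam)
    (fun g => mem_conjStab N lam g)
  rw [hstab] at hdeg
  obtain ⟨e, he⟩ := classInner_char_char_nat
    (IsCharacter.restrict N (IsIrrCharacter.isCharacter χ.2)) (IsIrrCharacter.isCharacter hlamirr)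
  have hepos : e ≠ 0 := by
    intro h0
    apply hχ
    rw [he, h0, Nat.cast_zero]
  have hlam1 : lam 1 = 1 := by simp [hlam]
  rw [he, hlam1, mul_one] at hdeg
  have hχdeg : (Cfsg.charDegree (χ : G → ℂ) : ℂ) = (χ : G → ℂ) 1 :=
    charDegree_cast_of_isCharacter (IsIrrCharacter.isCharacter χ.2)
  rw [hdeg] at hχdeg
  have h5 : Cfsg.charDegree (χ : G → ℂ) = e * N.index := by exact_mod_cast hχdeg
  exact ⟨χ, e, hepos, h5⟩

/-- in the Frobenius case the index of `N` is a prime -/
theorem index_prime [Finite G]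
    (hP : ∀ χ : Cfsg.IrrCharacter G, Cfsg.charDegree (χ : G → ℂ) = 1 ∨
      (Cfsg.charDegree (χ : G → ℂ)).Prime)
    (N K : Subgroup G) [hN : N.Normal] [hK : K.Normal]
    (hNK : ¬ N ≤ K) (hNtop : N ≠ ⊤)
    (hab : ∀ a ∈ N, ∀ c ∈ N, a * c * a⁻¹ * c⁻¹ ∈ K)
    (hfpf : ∀ x : G, x ∉ N → ∀ y ∈ N, x * y * x⁻¹ * y⁻¹ ∈ K → y ∈ K) : N.index.Prime := by
  obtain ⟨χ, e, he, hdeg⟩ := exists_degree_mul_index N K hNK hab hfpf
  have hidx1 : N.index ≠ 1 := fun h => hNtop (Subgroup.index_eq_one.mp h)
  rcases hP χ with h | h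
  · rw [hdeg] at h
    exact (hidx1 (Nat.eq_one_of_mul_eq_one_left h)).elim
  · rw [hdeg, Nat.prime_mul_iff] at h
    rcases h with ⟨-, h1⟩ | ⟨h1, -⟩
    · exact (hidx1 h1).elim
    · exact h1

/-- a nonlinear irreducible character of a normal subgroup has prime degree and is the
restriction of an irreducible character of `G` -/
theorem exists_extension_of_nonlinear [Finite G]
    (hP : ∀ χ : Cfsg.IrrCharacter G, Cfsg.charDegree (χ : G → ℂ) = 1 ∨
      (Cfsg.charDegree (χ : G → ℂ)).Prime)
    (N : Subgroup G) [hN : N.Normal] (θ : Cfsg.IrrCharacter N)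
    (hθ1 : Cfsg.charDegree (θ : N → ℂ) ≠ 1) :
    (Cfsg.charDegree (θ : N → ℂ)).Prime ∧
      ∃ χ : Cfsg.IrrCharacter G, (fun n : N => (χ : G → ℂ) n) = (θ : N → ℂ) := by
  classical
  haveI := Fintype.ofFinite G
  haveI : Fintype N := Fintype.ofFinite N
  obtain ⟨χ, hχ⟩ := exists_irr_over N θ
  obtain ⟨h1, -⟩ := ratio_dvd N χ θ hχ
  have hχp : (Cfsg.charDegree (χ : G → ℂ)).Prime := by
    rcases hP χ with h | h
    · rw [h] at h1
      exact (hθ1 (Nat.dvd_one.mp h1)).elim
    · exact h
  have heq : Cfsg.charDegree (θ : N → ℂ) = Cfsg.charDegree (χ : G → ℂ) := by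
    rcases (Nat.dvd_prime hχp).mp h1 with h | h
    · exact (hθ1 h).elim
    · exact h
  refine ⟨heq ▸ hχp, χ, restrict_eq_of_degree_eq N χ θ hχ heq.ge⟩

/-- a nonlinear irreducible character of a normal subgroup is invariant -/
theorem invariant_of_nonlinear [Finite G]
    (hP : ∀ χ : Cfsg.IrrCharacter G, Cfsg.charDegree (χ : G → ℂ) = 1 ∨
      (Cfsg.charDegree (χ : G → ℂ)).Prime)
    (N : Subgroup G) [hN : N.Normal] (θ : N → ℂ) (hirr : Cfsg.IsIrrCharacter N θ)
    (hθ1 : Cfsg.charDegree θ ≠ 1) (x y : N) (g : G) (hxy : (y : G) = g * (x : G) * g⁻¹) :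
    θ y = θ x := by
  obtain ⟨-, χ, hχ⟩ := exists_extension_of_nonlinear hP N ⟨θ, hirr⟩ hθ1
  have hcf := IsCharacter.isClassFunction (IsIrrCharacter.isCharacter χ.2)
  have h1 : θ y = (χ : G → ℂ) y := (congrFun hχ y).symm
  have h2 : θ x = (χ : G → ℂ) x := (congrFun hχ x).symm
  rw [h1, h2, hxy]
  exact hcf (x : G) g

end Cfsg.Agent.Helper8.IR
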