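import Mathlib
import Cfsg.Prelude.Def_Characters
import Cfsg.Prelude.Def_Blocks
import Cfsg.Agent.Helper8.IPa
import Cfsg.Agent.Helper8.IPc
import Cfsg.Agent.Helper8.IPg
import Cfsg.Agent.Helper8.IRa
import Cfsg.Agent.Helper8.IRb
import Cfsg.Agent.Helper6.AbelianInertia

/-!
# Groups whose nonlinear irreducible characters have prime degree: the Frobenius case, part 2
-/

set_option autoImplicit false
set_option linter.style.haveILetI false

namespace Cfsg.Agent.Helper8.IR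

open Cfsg.Agent.Helper6 Cfsg.Agent.Helper8.IP

universe u

variable {G : Type u} [Group G]

/-- a nonlinear irreducible character of `N` vanishes off `K` in the Frobenius case -/
theorem vanish_off [Finite G]
    (hP : ∀ χ : Cfsg.IrrCharacter G, Cfsg.charDegree (χ : G → ℂ) = 1 ∨
      (Cfsg.charDegree (χ : G → ℂ)).Prime)
    (N K : Subgroup G) [hN : N.Normal] [hK : K.Normal] (hNtop : N ≠ ⊤)
    (hab : ∀ a ∈ N, ∀ c ∈ N, a * c * a⁻¹ * c⁻¹ ∈ K)
    (hfpf : ∀ x : G, x ∉ N → ∀ y ∈ N, x * y * x⁻¹ * y⁻¹ ∈ K → y ∈ K)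
    (θ : Cfsg.IrrCharacter N) (hθ1 : Cfsg.charDegree (θ : N → ℂ) ≠ 1)
    (n : N) (hn : (θ : N → ℂ) n ≠ 0) : (n : G) ∈ K := by
  classical
  haveI : Fintype N := Fintype.ofFinite N
  obtain ⟨g, hg⟩ : ∃ g : G, g ∉ N := by
    by_contra hcon
    push Not at hcon
    exact hNtop (eq_top_iff.mpr fun x _ => hcon x)
  apply hfpf g hg _ n.2
  by_contra hx
  have hgn : g * (n : G) * g⁻¹ ∈ N := hN.conj_mem _ n.2 g
  set y : N := ⟨g * (n : G) * g⁻¹, hgn⟩ with hy
  haveI : (K.subgroupOf N).Normal := inferInstance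
  set Q := N ⧸ K.subgroupOf N with hQ
  have hcomm := quot_comm N K hab
  letI : CommGroup Q := { (inferInstance : Group Q) with mul_comm := hcomm }
  haveI : NeZero ((Monoid.exponent Q : ℕ) : ℂ) :=
    ⟨by exact_mod_cast Monoid.exponent_ne_zero_of_finite⟩
  have hq : (QuotientGroup.mk (y * n⁻¹) : Q) ≠ 1 := by
    intro h
    rw [QuotientGroup.eq_one_iff, Subgroup.mem_subgroupOf] at h
    apply hx
    simpa [hy] using h
  obtain ⟨φ, hφ⟩ := CommGroup.exists_apply_ne_one_of_hasEnoughRootsOfUnity Q ℂ hq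
  set μ : N →* ℂˣ := φ.comp (QuotientGroup.mk' (K.subgroupOf N)) with hμ
  have hirr2 : Cfsg.IsIrrCharacter N ((θ : N → ℂ) * fun a => ((μ a : ℂˣ) : ℂ)) :=
    IsIrrCharacter.mul_hom μ θ.2
  have hdeg2 : Cfsg.charDegree ((θ : N → ℂ) * fun a => ((μ a : ℂˣ) : ℂ)) ≠ 1 := by
    have : Cfsg.charDegree ((θ : N → ℂ) * fun a => ((μ a : ℂˣ) : ℂ)) =
        Cfsg.charDegree (θ : N → ℂ) := by
      unfold Cfsg.charDegree
      simp only [Pi.mul_apply, map_one, Units.val_one, mul_one]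
    rw [this]
    exact hθ1
  have h1 := invariant_of_nonlinear hP N (θ : N → ℂ) θ.2 hθ1 n y g rfl
  have h2 := invariant_of_nonlinear hP N _ hirr2 hdeg2 n y g rfl
  simp only [Pi.mul_apply] at h2
  rw [h1] at h2
  have h3 : ((μ y : ℂˣ) : ℂ) = ((μ n : ℂˣ) : ℂ) := mul_left_cancel₀ hn h2
  have h4 : μ y = μ n := Units.ext h3
  apply hφ
  have h5 : μ (y * n⁻¹) = 1 := by
    rw [map_mul, map_inv, h4, mul_inv_cancel]
  exact h5

/-- an irreducible character vanishing off a subgroup on which it restricts irreducibly: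
the subgroup is everything -/
theorem eq_top_of_restrict_irr {H : Type u} [Group H] [Fintype H] (C : Subgroup H) [Fintype C]
    (θ : Cfsg.IrrCharacter H) (hres : Cfsg.IsIrrCharacter C (fun c : C => (θ : H → ℂ) c))
    (hvan : ∀ h : H, (θ : H → ℂ) h ≠ 0 → h ∈ C) : C = ⊤ := by
  classical
  have h1 := sum_norm_sq_irr θ
  have h2 := sum_norm_sq_irr (⟨_, hres⟩ : Cfsg.IrrCharacter C)
  change ∑ c : C, ‖(θ : H → ℂ) c‖ ^ 2 = (Nat.card C : ℝ) at h2
  have h3 : ∑ h : H, ‖(θ : H → ℂ) h‖ ^ 2 = ∑ c : C, ‖(θ : H → ℂ) c‖ ^ 2 := by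
    have h4 : ∑ h : H, ‖(θ : H → ℂ) h‖ ^ 2 =
        ∑ h ∈ Finset.univ.filter (fun h : H => h ∈ C), ‖(θ : H → ℂ) h‖ ^ 2 := by
      symm
      apply Finset.sum_subset (Finset.filter_subset _ _)
      intro h _ hh
      have : (θ : H → ℂ) h = 0 := by
        by_contra hne
        apply hh
        rw [Finset.mem_filter]
        exact ⟨Finset.mem_univ _, hvan h hne⟩
      rw [this, norm_zero]
      norm_num
    rw [h4]
    rw [Finset.sum_subtype (Finset.univ.filter (fun h : H => h ∈ C)) (p := fun h => h ∈ C)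
      (by simp) (fun h => ‖(θ : H → ℂ) h‖ ^ 2)]
  rw [h1, h2] at h3
  have h5 : Nat.card C = Nat.card H := by exact_mod_cast h3.symm
  exact Subgroup.eq_top_of_card_eq C h5

/-- nonlinear irreducible characters of `N` have degree `p` in the Frobenius case -/
theorem degree_eq_of_nonlinear [Finite G]
    (hP : ∀ χ : Cfsg.IrrCharacter G, Cfsg.charDegree (χ : G → ℂ) = 1 ∨
      (Cfsg.charDegree (χ : G → ℂ)).Prime)
    (N K : Subgroup G) [hN : N.Normal] [hK : K.Normal] (hNtop : N ≠ ⊤) (hNK : ¬ N ≤ K)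
    (hab : ∀ a ∈ N, ∀ c ∈ N, a * c * a⁻¹ * c⁻¹ ∈ K)
    (hfpf : ∀ x : G, x ∉ N → ∀ y ∈ N, x * y * x⁻¹ * y⁻¹ ∈ K → y ∈ K)
    (p j : ℕ) (hp : p.Prime) (hrel : K.relIndex N = p ^ j)
    (θ : Cfsg.IrrCharacter N) (hθ1 : Cfsg.charDegree (θ : N → ℂ) ≠ 1) :
    Cfsg.charDegree (θ : N → ℂ) = p := by
  classical
  haveI : Fintype N := Fintype.ofFinite N
  haveI : Fintype (K.subgroupOf N) := Fintype.ofFinite _
  by_contra hne
  obtain ⟨hr, -⟩ := exists_extension_of_nonlinear hP N θ hθ1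
  have hndvd : ¬ Cfsg.charDegree (θ : N → ℂ) ∣ (K.subgroupOf N).index := by
    intro h
    change Cfsg.charDegree (θ : N → ℂ) ∣ K.relIndex N at h
    rw [hrel] at h
    exact hne ((Nat.prime_dvd_prime_iff_eq hr hp).mp (hr.dvd_of_dvd_pow h))
  have hres := restrict_irr_of_prime (K.subgroupOf N) θ hr hndvd
  have htop := eq_top_of_restrict_irr (K.subgroupOf N) θ hres (fun n hn => by
    rw [Subgroup.mem_subgroupOf]
    exact vanish_off hP N K hNtop hab hfpf θ hθ1 n hn)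
  apply hNK
  rw [← Subgroup.subgroupOf_eq_top]
  exact htop

/-- The Frobenius case: all degrees are `1`, `p` or `|G : N|`. -/
theorem frobenius_degrees [Finite G]
    (hP : ∀ χ : Cfsg.IrrCharacter G, Cfsg.charDegree (χ : G → ℂ) = 1 ∨
      (Cfsg.charDegree (χ : G → ℂ)).Prime)
    (N K : Subgroup G) [hN : N.Normal] [hK : K.Normal] (hNtop : N ≠ ⊤) (hNK : ¬ N ≤ K)
    (hab : ∀ a ∈ N, ∀ c ∈ N, a * c * a⁻¹ * c⁻¹ ∈ K)
    (hfpf : ∀ x : G, x ∉ N → ∀ y ∈ N, x * y * x⁻¹ * y⁻¹ ∈ K → y ∈ K)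
    (p j : ℕ) (hp : p.Prime) (hrel : K.relIndex N = p ^ j) (χ : Cfsg.IrrCharacter G) :
    Cfsg.charDegree (χ : G → ℂ) = 1 ∨ Cfsg.charDegree (χ : G → ℂ) = p ∨
      Cfsg.charDegree (χ : G → ℂ) = N.index := by
  classical
  haveI := Fintype.ofFinite G
  haveI : Fintype N := Fintype.ofFinite N
  have hq := index_prime hP N K hNK hNtop hab hfpf
  rcases hP χ with h1 | hc
  · exact Or.inl h1
  · right
    obtain ⟨θ, hθ⟩ := exists_constituent_restrict N χ
    obtain ⟨h1, h2⟩ := ratio_dvd N χ θ hθ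
    rcases (Nat.dvd_prime hc).mp h1 with h3 | h3
    · right
      rw [h3, Nat.div_one] at h2
      exact (Nat.prime_dvd_prime_iff_eq hc hq).mp h2
    · left
      rw [← h3]
      apply degree_eq_of_nonlinear hP N K hNtop hNK hab hfpf p j hp hrel θ
      rw [h3]
      exact hc.one_lt.ne'

end Cfsg.Agent.Helper8.IR
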