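import Mathlib
import Cfsg.Prelude.Def_Characters
import Cfsg.Prelude.Def_Blocks
import Cfsg.Prelude.Def_DegreeGraph
import Cfsg.Agent.Helper8.IPa
import Cfsg.Agent.Helper8.IPd
import Cfsg.Agent.Helper8.IQg
import Cfsg.Agent.Helper8.IRa
import Cfsg.Agent.Helper8.IRb
import Cfsg.Agent.Helper8.IRc
import Cfsg.Agent.Helper1.Isaacs123

/-!
# Groups whose nonlinear irreducible characters have prime degree have at most three degrees
-/

set_option autoImplicit false
set_option linter.style.haveILetI false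

namespace Cfsg.Agent.Helper8.IR

open Cfsg.Agent.Helper6 Cfsg.Agent.Helper8.IP

universe u

variable {G : Type u} [Group G]

/-- all degrees lie in a set `{1, a, c}` -/
theorem exists_three_degrees [Finite G]
    (hP : ∀ χ : Cfsg.IrrCharacter G, Cfsg.charDegree (χ : G → ℂ) = 1 ∨
      (Cfsg.charDegree (χ : G → ℂ)).Prime) :
    ∃ a c : ℕ, ∀ χ : Cfsg.IrrCharacter G, Cfsg.charDegree (χ : G → ℂ) = 1 ∨
      Cfsg.charDegree (χ : G → ℂ) = a ∨ Cfsg.charDegree (χ : G → ℂ) = c := by
  classical
  by_cases hnab : ∀ x y : G, x * y = y * x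
  · refine ⟨1, 1, fun χ => Or.inl ?_⟩
    haveI := Fintype.ofFinite G
    apply charDegree_eq_of_apply_one
    rw [(comm_iff_forall_irr_degree_one.mp hnab) χ, Nat.cast_one]
  have hsolvG : Group.IsSolvable G := by
    apply Cfsg.Agent.Helper8.IQ.prime_degrees_solvable
    intro χ hχ
    rcases hP χ with h | h
    · exact (hχ h).elim
    · exact h
  have hna0 : ¬ commutator G ≤ (⊥ : Subgroup G) := by
    intro h
    apply hnab
    intro x y
    have h1 : x * y * x⁻¹ * y⁻¹ ∈ commutator G := by
      rw [commutator_def]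
      have := Subgroup.commutator_mem_commutator (Subgroup.mem_top x) (Subgroup.mem_top y)
      rwa [commutatorElement_def] at this
    have h2 := h h1
    rw [Subgroup.mem_bot] at h2
    have : x * y * x⁻¹ * y⁻¹ * y * x = 1 * y * x := by rw [h2]
    simpa [mul_assoc] using this
  obtain ⟨K, hKn, -, hna, hmax⟩ :=
    Cfsg.Agent.Helper1.exists_max_nonabelian_quotient (⊥ : Subgroup G) inferInstance hna0
  haveI := hKn
  have hsolv : Group.IsSolvable (G ⧸ K) :=
    Group.isSolvable_of_surjective (QuotientGroup.mk'_surjective K)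
  obtain ⟨p, j, hp, hj0, hj, hexp, hab, hntop, hd⟩ :=
    Cfsg.Agent.Helper1.isaacs_twelve_three_full K hsolv hna hmax
  rcases hd with ⟨hpg, -⟩ | ⟨-, hcop, hfpf⟩
  · obtain ⟨d, hd⟩ := pgroup_degrees hP K p hp hpg hna hmax
    refine ⟨d, d, fun χ => ?_⟩
    rcases hd χ with h | h
    · exact Or.inl h
    · exact Or.inr (Or.inl h)
  · have hNK : ¬ K ⊔ commutator G ≤ K := fun h => hna (le_sup_right.trans h)
    haveI : (K ⊔ commutator G).Normal := inferInstance
    exact ⟨p, (K ⊔ commutator G).index, fun χ =>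
      frobenius_degrees hP (K ⊔ commutator G) K hntop hNK hab hfpf p j hp hj χ⟩

/-- **Isaacs–Passman**: if all nonlinear irreducible characters of `G` have prime degree then `G`
has at most three character degrees. -/
theorem card_charDegrees_le_three [Finite G]
    (hprime : ∀ d ∈ Cfsg.charDegrees G, d = 1 ∨ d.Prime) :
    Nat.card ↥(Cfsg.charDegrees G) ≤ 3 := by
  classical
  have hP : ∀ χ : Cfsg.IrrCharacter G, Cfsg.charDegree (χ : G → ℂ) = 1 ∨
      (Cfsg.charDegree (χ : G → ℂ)).Prime := fun χ => hprime _ ⟨χ, rfl⟩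
  obtain ⟨a, c, h⟩ := exists_three_degrees hP
  have hsub : Cfsg.charDegrees G ⊆ (({1, a, c} : Finset ℕ) : Set ℕ) := by
    rintro d ⟨χ, rfl⟩
    rw [Finset.mem_coe, Finset.mem_insert, Finset.mem_insert, Finset.mem_singleton]
    exact h χ
  calc Nat.card ↥(Cfsg.charDegrees G) ≤ Nat.card ↥(({1, a, c} : Finset ℕ) : Set ℕ) :=
        Nat.card_mono (Finset.finite_toSet _) hsub
    _ = ({1, a, c} : Finset ℕ).card := by
        rw [Nat.card_eq_fintype_card]
        simp
    _ ≤ 3 := Finset.card_le_three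

end Cfsg.Agent.Helper8.IR
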