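import Mathlib
import Cfsg.Prelude.Def_Characters
import Cfsg.Prelude.Def_Blocks
import Cfsg.Agent.Helper8.IPa
import Cfsg.Agent.Helper8.IRa
import Cfsg.Agent.Helper8.Cd3Grp
import Cfsg.Agent.Helper6.Cd3B
import Cfsg.Agent.Helper6.Cd3C
import Cfsg.Agent.Helper6.Gallagher
import Cfsg.Agent.Helper6.DefectZeroBlock

/-!
# The degree graph of a solvable group: the character theory
-/

set_option autoImplicit false
set_option linter.style.haveILetI false

namespace Cfsg.Agent.Helper8.IS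

open Cfsg.Agent.Helper6 Cfsg.Agent.Helper6.Cd3 Cfsg.Agent.Helper8.IP Cfsg.Agent.Helper8.IR

universe u

variable {G : Type u} [Group G]

/-- an irreducible character of degree coprime to the index of a normal subgroup restricts
irreducibly -/
theorem restrict_irr_of_coprime [Finite G] (N : Subgroup G) [hN : N.Normal]
    (χ : Cfsg.IrrCharacter G) (hcop : (Cfsg.charDegree (χ : G → ℂ)).Coprime N.index) :
    Cfsg.IsIrrCharacter N (fun n : N => (χ : G → ℂ) n) := by
  classical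
  haveI := Fintype.ofFinite G
  haveI : Fintype N := Fintype.ofFinite N
  obtain ⟨θ, hθ⟩ := exists_constituent_restrict N χ
  obtain ⟨h1, h2⟩ := ratio_dvd N χ θ hθ
  have h3 : Cfsg.charDegree (χ : G → ℂ) / Cfsg.charDegree (θ : N → ℂ) ∣
      Cfsg.charDegree (χ : G → ℂ) := Nat.div_dvd_of_dvd h1
  have h4 : Cfsg.charDegree (χ : G → ℂ) / Cfsg.charDegree (θ : N → ℂ) = 1 :=
    Nat.eq_one_of_dvd_coprimes hcop h3 h2
  have h5 : Cfsg.charDegree (χ : G → ℂ) = Cfsg.charDegree (θ : N → ℂ) := by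
    have := Nat.div_mul_cancel h1
    rw [h4, one_mul] at this
    exact this.symm
  rw [restrict_eq_of_degree_eq N χ θ hθ h5.le]
  exact θ.2

/-- The `p`-group case: `p` divides some degree and every other prime dividing a degree divides
a degree together with `p`. -/
theorem pgroup_primes [Finite G] (K : Subgroup G) [hK : K.Normal] (p k : ℕ) (hp : p.Prime)
    (hidx : K.index = p ^ k) (hna : ¬ commutator G ≤ K) :
    (∃ χ' : Cfsg.IrrCharacter G, p ∣ Cfsg.charDegree (χ' : G → ℂ)) ∧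
    ∀ χ : Cfsg.IrrCharacter G, ∀ r : ℕ, r.Prime → r ∣ Cfsg.charDegree (χ : G → ℂ) →
      ∃ χ' : Cfsg.IrrCharacter G, p ∣ Cfsg.charDegree (χ' : G → ℂ) ∧
        r ∣ Cfsg.charDegree (χ' : G → ℂ) := by
  classical
  haveI := Fintype.ofFinite G
  have hnc : ¬ ∀ a c : G ⧸ K, a * c = c * a := by
    intro hc
    apply hna
    rw [← Subgroup.Normal.quotient_commutative_iff_commutator_le]
    exact ⟨⟨hc⟩⟩
  haveI : Fintype (G ⧸ K) := Fintype.ofFinite _
  rw [comm_iff_forall_irr_degree_one] at hnc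
  push Not at hnc
  obtain ⟨ξ, hξ⟩ := hnc
  have hξdeg : ((Cfsg.charDegree (ξ : G ⧸ K → ℂ) : ℕ) : ℂ) = (ξ : G ⧸ K → ℂ) 1 :=
    charDegree_cast_of_isCharacter (IsIrrCharacter.isCharacter ξ.2)
  have hξ1 : Cfsg.charDegree (ξ : G ⧸ K → ℂ) ≠ 1 := by
    intro h
    apply hξ
    rw [← hξdeg, h, Nat.cast_one]
  have hξdvd : Cfsg.charDegree (ξ : G ⧸ K → ℂ) ∣ p ^ k := by
    rw [← hidx, Subgroup.index_eq_card]
    exact charDegree_dvd_card ξ.2
  have hpξ : p ∣ Cfsg.charDegree (ξ : G ⧸ K → ℂ) := by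
    obtain ⟨i, -, hi⟩ := (Nat.dvd_prime_pow hp).mp hξdvd
    rw [hi]
    rcases Nat.eq_zero_or_pos i with h0 | h0
    · rw [h0, pow_zero] at hi
      exact (hξ1 hi).elim
    · exact dvd_pow_self p h0.ne'
  set β : G → ℂ := (ξ : G ⧸ K → ℂ) ∘ QuotientGroup.mk with hβ
  have hβirr : Cfsg.IsIrrCharacter G β := isIrrCharacter_inflate K ξ
  have hβdeg : Cfsg.charDegree β = Cfsg.charDegree (ξ : G ⧸ K → ℂ) := by
    apply charDegree_eq_of_apply_one
    rw [hβ, Function.comp_apply, QuotientGroup.mk_one, hξdeg]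
  have hβK : ∀ n ∈ K, β n = β 1 := by
    intro n hn
    rw [hβ, Function.comp_apply, Function.comp_apply, QuotientGroup.mk_one,
      (QuotientGroup.eq_one_iff n).mpr hn]
  refine ⟨⟨⟨β, hβirr⟩, by rw [hβdeg]; exact hpξ⟩, ?_⟩
  intro χ r hr hrχ
  by_cases hpχ : p ∣ Cfsg.charDegree (χ : G → ℂ)
  · exact ⟨χ, hpχ, hrχ⟩
  · have hcop : (Cfsg.charDegree (χ : G → ℂ)).Coprime K.index := by
      rw [hidx]
      exact Nat.Coprime.pow_right k ((Nat.Prime.coprime_iff_not_dvd hp).mpr hpχ).symm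
    have hχK := restrict_irr_of_coprime K χ hcop
    have hprod : Cfsg.IsIrrCharacter G (β * (χ : G → ℂ)) :=
      gallagher_irr K χ.2 hχK ⟨β, hβirr⟩ hβK
    have hχ1 : ((Cfsg.charDegree (χ : G → ℂ) : ℕ) : ℂ) = (χ : G → ℂ) 1 :=
      charDegree_cast_of_isCharacter (IsIrrCharacter.isCharacter χ.2)
    have hpdeg : Cfsg.charDegree (β * (χ : G → ℂ)) =
        Cfsg.charDegree (ξ : G ⧸ K → ℂ) * Cfsg.charDegree (χ : G → ℂ) := by
      apply charDegree_eq_of_apply_one
      rw [Pi.mul_apply, Nat.cast_mul, hχ1, hξdeg, hβ, Function.comp_apply, QuotientGroup.mk_one]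
    refine ⟨⟨_, hprod⟩, ?_, ?_⟩
    · change p ∣ Cfsg.charDegree (β * (χ : G → ℂ))
      rw [hpdeg]
      exact Dvd.dvd.mul_right hpξ _
    · change r ∣ Cfsg.charDegree (β * (χ : G → ℂ))
      rw [hpdeg]
      exact Dvd.dvd.mul_left hrχ _

/-- The Frobenius case: `|G : N|` is a degree; every prime dividing a degree divides `|G : N|`,
or the degree is divisible by `p`, or the prime divides a degree together with `|G : N|`. -/
theorem frobenius_primes [Finite G] (K N : Subgroup G) [hK : K.Normal] [hN : N.Normal]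
    (hKN : K ≤ N) (hGN : commutator G ≤ N)
    (hab : ∀ a ∈ N, ∀ b ∈ N, a * b * a⁻¹ * b⁻¹ ∈ K) (hlt : K.relIndex N ≠ 1)
    (hfpf : ∀ x : G, x ∉ N → ∀ y ∈ N, x * y * x⁻¹ * y⁻¹ ∈ K → y ∈ K)
    (p j : ℕ) (hp : p.Prime) (hrel : K.relIndex N = p ^ j) :
    (∃ χf : Cfsg.IrrCharacter G, Cfsg.charDegree (χf : G → ℂ) = N.index) ∧
    ∀ χ : Cfsg.IrrCharacter G, ∀ r : ℕ, r.Prime → r ∣ Cfsg.charDegree (χ : G → ℂ) →
      r ∣ N.index ∨ p ∣ Cfsg.charDegree (χ : G → ℂ) ∨
      ∃ χ' : Cfsg.IrrCharacter G, N.index * r ∣ Cfsg.charDegree (χ' : G → ℂ) := by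
  classical
  haveI := Fintype.ofFinite G
  haveI : Fintype N := Fintype.ofFinite N
  have hGN' : ∀ x y : G, x * y * x⁻¹ * y⁻¹ ∈ N := by
    intro x y
    apply hGN
    rw [commutator_def]
    have := Subgroup.commutator_mem_commutator (Subgroup.mem_top x) (Subgroup.mem_top y)
    rwa [commutatorElement_def] at this
  have hdual : ∀ x : G, x ∉ N → ∀ μ : N →* ℂˣ, μ ∈ trivOn N K →
      Cfsg.Agent.Helper6.Cd3.conjHom N μ x = μ → μ = 1 := by
    intro x hx μ hμ hfix
    ext y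
    have h1 := Cfsg.Agent.Helper8.Cd3Grp.hom_eq_one_of_fpf K N hKN hab x (hfpf x hx) μ hμ (by
      intro y hy
      have h2 := congrArg (fun ν : N →* ℂˣ => ν y) hfix
      simp only [Cfsg.Agent.Helper6.Cd3.conjHom_apply] at h2
      exact h2) y
    rw [h1]
    rfl
  constructor
  · obtain ⟨χf, hχf, hχf1⟩ := exists_irr_degree_index N K hab hlt hdual
    exact ⟨⟨χf, hχf⟩, charDegree_eq_of_apply_one _ _ hχf1⟩
  · intro χ r hr hrχ
    obtain ⟨θ, hθ⟩ := exists_constituent_restrict N χ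
    obtain ⟨h1, h2⟩ := ratio_dvd N χ θ hθ
    have hmul := Nat.div_mul_cancel h1
    rw [← hmul] at hrχ
    rcases (Nat.Prime.dvd_mul hr).mp hrχ with h3 | h3
    · exact Or.inl (h3.trans h2)
    · by_cases hpθ : p ∣ Cfsg.charDegree (θ : N → ℂ)
      · exact Or.inr (Or.inl (hpθ.trans h1))
      · right
        right
        have hθ1 : (θ : N → ℂ) 1 = ((Cfsg.charDegree (θ : N → ℂ) : ℕ) : ℂ) :=
          (charDegree_cast_of_isCharacter (IsIrrCharacter.isCharacter θ.2)).symm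
        have hcop : (Cfsg.charDegree (θ : N → ℂ)).Coprime (K.relIndex N) := by
          rw [hrel]
          exact Nat.Coprime.pow_right j ((Nat.Prime.coprime_iff_not_dvd hp).mpr hpθ).symm
        have hkey : ∀ θ' : N → ℂ, Cfsg.IsIrrCharacter N θ' →
            θ' 1 = ((Cfsg.charDegree (θ : N → ℂ) : ℕ) : ℂ) → conjStab N θ' ≤ N →
            ∃ χ' : Cfsg.IrrCharacter G, N.index * r ∣ Cfsg.charDegree (χ' : G → ℂ) := by
          intro θ' hθ' hθ'1 hstab
          have hirr := isIrr_indFun_of_stab_le N θ' hθ' hstab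
          have hdeg : Cfsg.charDegree (Cfsg.indFun N θ') =
              N.index * Cfsg.charDegree (θ : N → ℂ) := by
            apply charDegree_eq_of_apply_one
            rw [indFun_apply_one, hθ'1]
            push_cast
            rfl
          refine ⟨⟨_, hirr⟩, ?_⟩
          change N.index * r ∣ Cfsg.charDegree (Cfsg.indFun N θ')
          rw [hdeg]
          exact Nat.mul_dvd_mul_left _ h3
        by_cases hinv : ∀ μ : N →* ℂˣ, μ ∈ trivOn N K →
            (θ : N → ℂ) * (fun y => ((μ y : ℂˣ) : ℂ)) = (θ : N → ℂ)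
        · exact (not_coprime_of_twist_invariant N K hab hlt (θ : N → ℂ) θ.2 hinv _ hθ1 hcop).elim
        · push Not at hinv
          obtain ⟨μ₁, hμ₁K, hne⟩ := hinv
          rcases stab_dichotomy N K hGN' hdual (θ : N → ℂ)
            (IsCharacter.isClassFunction (IsIrrCharacter.isCharacter θ.2)) μ₁ hμ₁K hne with h | h
          · exact hkey _ θ.2 hθ1 h
          · refine hkey _ (IsIrrCharacter.mul_hom μ₁ θ.2) ?_ h
            simp [hθ1]

end Cfsg.Agent.Helper8.IS
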