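import Mathlib
import Cfsg.Prelude.Def_Characters
import Cfsg.Prelude.Def_Blocks
import Cfsg.Prelude.Def_DegreeGraph
import Cfsg.Agent.Helper8.IPa
import Cfsg.Agent.Helper8.ISa
import Cfsg.Agent.Helper1.Isaacs123

/-!
# The degree graph of a solvable group has at most two connected components
-/

set_option autoImplicit false
set_option linter.style.haveILetI false

namespace Cfsg.Agent.Helper8.IS

open Cfsg.Agent.Helper6 Cfsg.Agent.Helper8.IP

universe u

variable {G : Type u} [Group G]

/-- a graph in which every vertex is reachable from one of two given vertices has at most two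
connected components -/
theorem card_cc_le_two {V : Type*} (Γ : SimpleGraph V) (a b : V)
    (h : ∀ v, Γ.Reachable a v ∨ Γ.Reachable b v) : Nat.card Γ.ConnectedComponent ≤ 2 := by
  have hsurj : Function.Surjective (fun i : Fin 2 =>
      if i = 0 then Γ.connectedComponentMk a else Γ.connectedComponentMk b) := by
    intro c
    induction c using SimpleGraph.ConnectedComponent.ind with
    | _ v =>
      rcases h v with h1 | h1
      · exact ⟨0, by simpa using SimpleGraph.ConnectedComponent.sound h1⟩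
      · exact ⟨1, by simpa using SimpleGraph.ConnectedComponent.sound h1⟩
  have := Nat.card_le_card_of_surjective _ hsurj
  simpa using this

theorem card_cc_of_isEmpty {V : Type*} [IsEmpty V] (Γ : SimpleGraph V) :
    Nat.card Γ.ConnectedComponent = 0 := by
  haveI : IsEmpty Γ.ConnectedComponent :=
    ⟨fun c => SimpleGraph.ConnectedComponent.ind (fun v => IsEmpty.false v) c⟩
  exact Nat.card_of_isEmpty

theorem mem_degreePrimes (r : ℕ) (hr : r.Prime) (χ : Cfsg.IrrCharacter G)
    (h : r ∣ Cfsg.charDegree (χ : G → ℂ)) : r ∈ Cfsg.degreePrimes G :=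
  ⟨hr, _, ⟨χ, rfl⟩, h⟩

/-- two primes dividing a common degree are in the same component -/
theorem reachable_of_dvd (r s : ℕ) (hr : r ∈ Cfsg.degreePrimes G) (hs : s ∈ Cfsg.degreePrimes G)
    (χ : Cfsg.IrrCharacter G) (h1 : r ∣ Cfsg.charDegree (χ : G → ℂ))
    (h2 : s ∣ Cfsg.charDegree (χ : G → ℂ)) :
    ((Cfsg.degreeGraph G).induce (Cfsg.degreePrimes G)).Reachable ⟨r, hr⟩ ⟨s, hs⟩ := by
  by_cases hrs : r = s
  · subst hrs
    exact SimpleGraph.Reachable.refl _
  · apply SimpleGraph.Adj.reachable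
    rw [SimpleGraph.induce_adj]
    refine ⟨hrs, hr.1, hs.1, _, ⟨χ, rfl⟩, ?_⟩
    exact Nat.Coprime.mul_dvd_of_dvd_of_dvd ((Nat.coprime_primes hr.1 hs.1).mpr hrs) h1 h2

/-- the degree graph of a solvable group has at most two connected components -/
theorem card_components_le_two [Finite G] [hsolvG : Group.IsSolvable G] :
    Nat.card ((Cfsg.degreeGraph G).induce (Cfsg.degreePrimes G)).ConnectedComponent ≤ 2 := by
  classical
  by_cases hnab : ∀ x y : G, x * y = y * x
  · haveI : IsEmpty ↥(Cfsg.degreePrimes G) := by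
      constructor
      rintro ⟨r, hr, d, ⟨χ, rfl⟩, hdvd⟩
      haveI := Fintype.ofFinite G
      have h1 : Cfsg.charDegree (χ : G → ℂ) = 1 := by
        apply charDegree_eq_of_apply_one
        rw [(comm_iff_forall_irr_degree_one.mp hnab) χ, Nat.cast_one]
      rw [h1] at hdvd
      exact hr.one_lt.ne' (Nat.dvd_one.mp hdvd)
    rw [card_cc_of_isEmpty]
    omega
  have hna0 : ¬ commutator G ≤ (⊥ : Subgroup G) := by
    intro h
    apply hnab
    intro x y
    have h1 : x * y * x⁻¹ * y⁻¹ ∈ commutator G := by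
      rw [commutator_def]
      have := Subgroup.commutator_mem_commutator (Subgroup.mem_top x) (Subgroup.mem_top y)
      rwa [commutatorElement_def] at this
    have h2 := h h1
    rw [Subgroup.mem_bot] at h2
    have : x * y * x⁻¹ * y⁻¹ * y * x = 1 * y * x := by rw [h2]
    simpa [mul_assoc] using this
  obtain ⟨K, hKn, -, hna, hmax⟩ :=
    Cfsg.Agent.Helper1.exists_max_nonabelian_quotient (⊥ : Subgroup G) inferInstance hna0
  haveI := hKn
  have hsolv : Group.IsSolvable (G ⧸ K) :=
    Group.isSolvable_of_surjective (QuotientGroup.mk'_surjective K)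
  obtain ⟨p, j, hp, hj0, hj, hexp, hab, hntop, hd⟩ :=
    Cfsg.Agent.Helper1.isaacs_twelve_three_full K hsolv hna hmax
  rcases hd with ⟨-, k, hidx⟩ | ⟨-, hcop, hfpf⟩
  · obtain ⟨⟨χp, hχp⟩, hall⟩ := pgroup_primes K p k hp hidx hna
    have hpmem : p ∈ Cfsg.degreePrimes G := mem_degreePrimes p hp χp hχp
    apply card_cc_le_two _ ⟨p, hpmem⟩ ⟨p, hpmem⟩
    rintro ⟨r, hr⟩
    left
    obtain ⟨d, ⟨χ, rfl⟩, hdvd⟩ := hr.2
    obtain ⟨χ', h1, h2⟩ := hall χ r hr.1 hdvd
    exact reachable_of_dvd p r hpmem hr χ' h1 h2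
  · have hNK : ¬ K ⊔ commutator G ≤ K := fun h => hna (le_sup_right.trans h)
    haveI : (K ⊔ commutator G).Normal := inferInstance
    have hlt : K.relIndex (K ⊔ commutator G) ≠ 1 := by
      intro h
      rw [Subgroup.relIndex_eq_one] at h
      exact hNK h
    obtain ⟨⟨χf, hχf⟩, hall⟩ := frobenius_primes K (K ⊔ commutator G) le_sup_left le_sup_right
      hab hlt hfpf p j hp hj
    have hf1 : (K ⊔ commutator G).index ≠ 1 := fun h => hntop (Subgroup.index_eq_one.mp h)
    obtain ⟨s, hs, hsf⟩ := Nat.exists_prime_and_dvd hf1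
    have hsmem : s ∈ Cfsg.degreePrimes G := mem_degreePrimes s hs χf (hχf ▸ hsf)
    by_cases hpmem : p ∈ Cfsg.degreePrimes G
    · apply card_cc_le_two _ ⟨s, hsmem⟩ ⟨p, hpmem⟩
      rintro ⟨r, hr⟩
      obtain ⟨d, ⟨χ, rfl⟩, hdvd⟩ := hr.2
      rcases hall χ r hr.1 hdvd with h | h | ⟨χ', h⟩
      · left
        exact reachable_of_dvd s r hsmem hr χf (hχf ▸ hsf) (hχf ▸ h)
      · right
        exact reachable_of_dvd p r hpmem hr χ h hdvd
      · left
        exact reachable_of_dvd s r hsmem hr χ' ((Dvd.dvd.mul_right hsf r).trans h)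
          ((Dvd.intro_left _ rfl).trans h)
    · apply card_cc_le_two _ ⟨s, hsmem⟩ ⟨s, hsmem⟩
      rintro ⟨r, hr⟩
      left
      obtain ⟨d, ⟨χ, rfl⟩, hdvd⟩ := hr.2
      rcases hall χ r hr.1 hdvd with h | h | ⟨χ', h⟩
      · exact reachable_of_dvd s r hsmem hr χf (hχf ▸ hsf) (hχf ▸ h)
      · exact (hpmem (mem_degreePrimes p hp χ h)).elim
      · exact reachable_of_dvd s r hsmem hr χ' ((Dvd.dvd.mul_right hsf r).trans h)
          ((Dvd.intro_left _ rfl).trans h)

end Cfsg.Agent.Helper8.IS
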