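import Mathlib
import Cfsg.Agent.Helper8.InnDiagPlusF

set_option autoImplicit false

/-! The structure of `Inndiag(PΩ⁺_{2m}(q)) / Inn`: indices and the three cases (helper8). -/

namespace Cfsg.Agent.Helper8.InnDiagPlus

open Module Cfsg Cfsg.Agent.Helper8.StdForms Cfsg.Agent.Helper8.AutImage
  Cfsg.Agent.Helper8.AutImageOrth Cfsg.Agent.Helper8.AutImageKer Cfsg.Agent.Helper8.AutImagePsi
  Cfsg.Agent.Helper8.AutImageIdx Cfsg.Agent.Helper8.AutImageD8
open scoped Matrix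

section Structure

variable {F : Type*} [Field F] [Fintype F] {m : ℕ} (h2 : (2 : F) ≠ 0)
  (hne : ∃ v, plusForm F m v ≠ 0)

/-- the quadratic character of the multiplier on `Dsub` -/
noncomputable def psi1D : ↥(Dsub h2 hne) →* ℤˣ :=
  (psi1 (plusForm F m) hne).comp (Dsub h2 hne).subtype

theorem psi1D_apply (g : ↥(Dsub h2 hne)) : psi1D h2 hne g = psi1 (plusForm F m) hne g.1 := rfl

theorem map_subtype_ker :
    (psi1D h2 hne).ker.map (Dsub h2 hne).subtype =
      (psi (plusForm F m) h2 (plusForm_nondeg F m) hne m (card_idx m)).ker := by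
  ext g
  rw [Subgroup.mem_map, MonoidHom.mem_ker, psi_apply, Prod.mk_eq_one]
  constructor
  · rintro ⟨x, hx, rfl⟩
    exact ⟨hx, x.2⟩
  · rintro ⟨h1, h3⟩
    exact ⟨⟨g, h3⟩, h1, rfl⟩

variable (hm : 4 ≤ m)

include hm in
theorem map_ker_psi1D :
    (psi1D h2 hne).ker.map (PhiD h2 hne) = psoAut F ⇑(plusForm F m) := by
  have h5 : 5 ≤ Fintype.card (Fin m ⊕ Fin m) := by rw [card_idx]; omega
  unfold PhiD
  rw [← Subgroup.map_map, map_subtype_ker, psi_ker_eq (plusForm F m) h2 (plusForm_nondeg F m) h5,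
    Subgroup.map_sup, (MonoidHom.ker (Phi ⇑(plusForm F m))).map_eq_bot_iff.mpr le_rfl, sup_bot_eq,
    ← psoAut_eq]

theorem Inn_le_pso : Cfsg.Inn (Cfsg.POmega F ⇑(plusForm F m)) ≤ psoAut F ⇑(plusForm F m) := by
  rw [Inn_eq', psoAut_eq']
  exact Subgroup.map_mono (Abelianization.commutator_subset_ker _)

include hm in
theorem ker_PhiD_le : (PhiD h2 hne).ker ≤ (psi1D h2 hne).ker := by
  have h5 : 5 ≤ Fintype.card (Fin m ⊕ Fin m) := by rw [card_idx]; omega
  intro x hx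
  have h1 : x.1 ∈ (Phi ⇑(plusForm F m)).ker := hx
  have h3 : x.1 ∈ (psi (plusForm F m) h2 (plusForm_nondeg F m) hne m (card_idx m)).ker := by
    rw [psi_ker_eq (plusForm F m) h2 (plusForm_nondeg F m) h5]
    exact Subgroup.mem_sup_right h1
  rw [MonoidHom.mem_ker, psi_apply, Prod.mk_eq_one] at h3
  exact h3.1

include hm in
theorem comap_pso_eq :
    (psoAut F ⇑(plusForm F m)).comap (PhiD h2 hne) = (psi1D h2 hne).ker := by
  rw [← map_ker_psi1D h2 hne hm, Subgroup.comap_map_eq, sup_eq_left]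
  exact ker_PhiD_le h2 hne hm

include hm in
theorem comap_Inn_le :
    (Cfsg.Inn (Cfsg.POmega F ⇑(plusForm F m))).comap (PhiD h2 hne) ≤ (psi1D h2 hne).ker := by
  rw [← comap_pso_eq h2 hne hm]
  exact Subgroup.comap_mono Inn_le_pso

theorem psi1_dG (c : Fˣ) (hc : ¬ IsSquare (c : F)) : psi1 (plusForm F m) hne (dG c) = -1 := by
  rcases Int.units_eq_one_or (psi1 (plusForm F m) hne (dG c)) with h | h
  · rw [psi1_eq_one_iff, mult_dG] at h
    exact absurd h hc
  · exact h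

theorem psi1D_surjective : Function.Surjective (psi1D h2 hne) := by
  obtain ⟨e, he⟩ := Cfsg.Agent.Helper8.OmegaOdd.exists_nonsquare (F := F) h2
  have he0 : e ≠ 0 := by
    rintro rfl
    exact he ⟨0, (mul_zero 0).symm⟩
  intro u
  rcases Int.units_eq_one_or u with rfl | rfl
  · exact ⟨1, map_one _⟩
  · exact ⟨⟨dG (Units.mk0 e he0), dG_mem h2 hne _⟩, psi1_dG hne _ he⟩

theorem index_ker_psi1D : (psi1D h2 hne).ker.index = 2 := by
  rw [Subgroup.index_ker, MonoidHom.range_eq_top.mpr (psi1D_surjective h2 hne), Subgroup.card_top]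
  simp

include hm in
/-- the index of the preimage of `Inn` in `Dsub` -/
theorem index_comap_Inn :
    ((Cfsg.Inn (Cfsg.POmega F ⇑(plusForm F m))).comap (PhiD h2 hne)).index =
      (Cfsg.Inn (Cfsg.POmega F ⇑(plusForm F m))).relIndex (psoAut F ⇑(plusForm F m)) * 2 := by
  rw [← Subgroup.relIndex_mul_index (comap_Inn_le h2 hne hm), index_ker_psi1D,
    Subgroup.relIndex_comap, map_ker_psi1D h2 hne hm]

end Structure

section GenericTwo

variable {B : Type*} [Group B]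

theorem mul_self_mem_of_relIndex_two {I P : Subgroup B} (h : (I.subgroupOf P).index = 2) {a : B}
    (ha : a ∈ P) : a * a ∈ I := by
  have := Subgroup.mul_self_mem_of_index_two h (⟨a, ha⟩ : ↥P)
  rw [Subgroup.mem_subgroupOf] at this
  exact this

theorem mul_conj_mem_of_relIndex_two {I P : Subgroup B} [hI : I.Normal]
    (h : (I.subgroupOf P).index = 2) {a : B} (ha : a ∈ P) (δ : B) (hb : δ * a * δ⁻¹ ∈ P) :
    a * (δ * a * δ⁻¹) ∈ I := by
  have h3 := Subgroup.mul_mem_iff_of_index_two h (a := (⟨a, ha⟩ : ↥P)) (b := ⟨δ * a * δ⁻¹, hb⟩)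
  rw [Subgroup.mem_subgroupOf, Subgroup.mem_subgroupOf, Subgroup.mem_subgroupOf] at h3
  apply h3.mpr
  show a ∈ I ↔ δ * a * δ⁻¹ ∈ I
  constructor
  · intro h
    exact hI.conj_mem _ h _
  · intro h
    have := hI.conj_mem _ h δ⁻¹
    rw [inv_inv] at this
    have h4 : δ⁻¹ * (δ * a * δ⁻¹) * δ = a := by group
    rw [h4] at this
    exact this

end GenericTwo

section Cases

variable {F : Type*} [Field F] [Fintype F] {m : ℕ} (h2 : (2 : F) ≠ 0)
  (hne : ∃ v, plusForm F m v ≠ 0) (hm : 4 ≤ m)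

include hm in
/-- the image of `dG c * dG c` is the image of the isometry `hO c` -/
theorem PhiD_dG_sq (c : Fˣ) :
    PhiD h2 hne (⟨dG c, dG_mem h2 hne c⟩ * ⟨dG c, dG_mem h2 hne c⟩) = PhiO ⇑(plusForm F m) (hO c) := by
  have h5 : 5 ≤ Fintype.card (Fin m ⊕ Fin m) := by rw [card_idx]; omega
  rw [PhiD_apply]
  show Phi ⇑(plusForm F m) (dG c * dG c) = _
  rw [dG_mul_dG, map_mul]
  have h1 : Phi ⇑(plusForm F m) (scalarGO (plusForm F m) c) = 1 := by
    rw [Phi_eq_one_iff (plusForm F m) h2 (plusForm_nondeg F m) h5]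
    exact ⟨c, scalarGO_val (plusForm F m) c⟩
  rw [h1, one_mul]
  rfl

include h2 hne hm in
/-- **case `-1 ∉ Ω`:** the quotient is cyclic of order two -/
theorem hom_caseA
    (hneg : ¬ ∃ g : ↥(Cfsg.isometryGroup F ⇑(plusForm F m)), g ∈ Cfsg.Omega F ⇑(plusForm F m) ∧
      ((g : GL (Fin m ⊕ Fin m) F) : Matrix (Fin m ⊕ Fin m) (Fin m ⊕ Fin m) F) = -1) :
    ∃ φ : ↥(inndiagP F m) →* Multiplicative (ZMod 2), Function.Surjective φ ∧
      φ.ker = (Cfsg.Inn (Cfsg.POmega F ⇑(plusForm F m))).subgroupOf (inndiagP F m) := by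
  have h5 : 5 ≤ Fintype.card (Fin m ⊕ Fin m) := by rw [card_idx]; omega
  have heven : Even (Fintype.card (Fin m ⊕ Fin m)) := by rw [card_idx]; exact even_two_mul m
  have hidx1 := (relIndex_Inn_psoAut (plusForm F m) h2 (plusForm_nondeg F m) h5 heven).2 hneg
  have hidx : ((Cfsg.Inn (Cfsg.POmega F ⇑(plusForm F m))).comap (PhiD h2 hne)).index = 2 := by
    rw [index_comap_Inn h2 hne hm, hidx1]
  obtain ⟨ψ, hψs, hψk⟩ := exists_hom_zmod_two _ hidx
  exact exists_hom_of_comap (PhiD h2 hne) (inndiagP F m) (inndiagP_eq h2 hne (by omega)) _ ψ hψs hψk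

include h2 hne hm in
/-- **case `-1 ∈ Ω`, `m` odd:** the quotient is cyclic of order four -/
theorem hom_caseB
    (hneg : ∃ g : ↥(Cfsg.isometryGroup F ⇑(plusForm F m)), g ∈ Cfsg.Omega F ⇑(plusForm F m) ∧
      ((g : GL (Fin m ⊕ Fin m) F) : Matrix (Fin m ⊕ Fin m) (Fin m ⊕ Fin m) F) = -1)
    (hodd : Odd m) :
    ∃ φ : ↥(inndiagP F m) →* Multiplicative (ZMod 4), Function.Surjective φ ∧
      φ.ker = (Cfsg.Inn (Cfsg.POmega F ⇑(plusForm F m))).subgroupOf (inndiagP F m) := by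
  have h5 : 5 ≤ Fintype.card (Fin m ⊕ Fin m) := by rw [card_idx]; omega
  have heven : Even (Fintype.card (Fin m ⊕ Fin m)) := by rw [card_idx]; exact even_two_mul m
  have hidx2 := (relIndex_Inn_psoAut (plusForm F m) h2 (plusForm_nondeg F m) h5 heven).1 hneg
  have hidx : ((Cfsg.Inn (Cfsg.POmega F ⇑(plusForm F m))).comap (PhiD h2 hne)).index = 4 := by
    rw [index_comap_Inn h2 hne hm, hidx2]
  obtain ⟨e, he⟩ := Cfsg.Agent.Helper8.OmegaOdd.exists_nonsquare (F := F) h2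
  have he0 : e ≠ 0 := by
    rintro rfl
    exact he ⟨0, (mul_zero 0).symm⟩
  obtain ⟨c, hc⟩ : ∃ c : Fˣ, c = Units.mk0 e he0 := ⟨_, rfl⟩
  have hcv : (c : F) = e := by rw [hc]; rfl
  have hx : (⟨dG c, dG_mem h2 hne c⟩ * ⟨dG c, dG_mem h2 hne c⟩ : ↥(Dsub h2 hne)) ∉
      (Cfsg.Inn (Cfsg.POmega F ⇑(plusForm F m))).comap (PhiD h2 hne) := by
    intro hmem
    rw [Subgroup.mem_comap, PhiD_dG_sq h2 hne hm] at hmem
    have h3 := mem_Omega_of_PhiO_mem (plusForm F m) h2 (plusForm_nondeg F m) h5 hneg _ hmem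
    rw [hO_mem_iff (by omega) (Or.inr (by omega)), hcv] at h3
    obtain ⟨k, hk⟩ := hodd
    obtain ⟨r, hr⟩ := h3
    apply he
    refine ⟨r / e ^ k, ?_⟩
    have hek : e ^ k ≠ 0 := pow_ne_zero _ he0
    field_simp
    rw [hk] at hr
    linear_combination hr
  obtain ⟨ψ, hψs, hψk⟩ := exists_hom_zmod_four _ hidx _ hx
  exact exists_hom_of_comap (PhiD h2 hne) (inndiagP F m) (inndiagP_eq h2 hne (by omega)) _ ψ hψs hψk

set_option maxHeartbeats 1600000 in
include h2 hne hm in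
/-- **case `-1 ∈ Ω`, `m` even:** the quotient is a four-group -/
theorem hom_caseC
    (hneg : ∃ g : ↥(Cfsg.isometryGroup F ⇑(plusForm F m)), g ∈ Cfsg.Omega F ⇑(plusForm F m) ∧
      ((g : GL (Fin m ⊕ Fin m) F) : Matrix (Fin m ⊕ Fin m) (Fin m ⊕ Fin m) F) = -1)
    (hmeven : Even m) :
    ∃ φ : ↥(inndiagP F m) →* Multiplicative (ZMod 2 × ZMod 2), Function.Surjective φ ∧
      φ.ker = (Cfsg.Inn (Cfsg.POmega F ⇑(plusForm F m))).subgroupOf (inndiagP F m) := by
  have h5 : 5 ≤ Fintype.card (Fin m ⊕ Fin m) := by rw [card_idx]; omega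
  have heven : Even (Fintype.card (Fin m ⊕ Fin m)) := by rw [card_idx]; exact even_two_mul m
  have hidx2 := (relIndex_Inn_psoAut (plusForm F m) h2 (plusForm_nondeg F m) h5 heven).1 hneg
  have hidx : ((Cfsg.Inn (Cfsg.POmega F ⇑(plusForm F m))).comap (PhiD h2 hne)).index = 4 := by
    rw [index_comap_Inn h2 hne hm, hidx2]
  have hidx2' : ((Cfsg.Inn (Cfsg.POmega F ⇑(plusForm F m))).subgroupOf
      (psoAut F ⇑(plusForm F m))).index = 2 := hidx2
  obtain ⟨e, he⟩ := Cfsg.Agent.Helper8.OmegaOdd.exists_nonsquare (F := F) h2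
  have he0 : e ≠ 0 := by
    rintro rfl
    exact he ⟨0, (mul_zero 0).symm⟩
  obtain ⟨c, hc⟩ : ∃ c : Fˣ, c = Units.mk0 e he0 := ⟨_, rfl⟩
  have hcv : (c : F) = e := by rw [hc]; rfl
  obtain ⟨d, hd⟩ : ∃ d : ↥(Dsub h2 hne), d = ⟨dG c, dG_mem h2 hne c⟩ := ⟨_, rfl⟩
  have hd1 : psi1D h2 hne d = -1 := by
    rw [hd, psi1D_apply]
    exact psi1_dG hne c (by rw [hcv]; exact he)
  have hdd : PhiD h2 hne (d * d) ∈ Cfsg.Inn (Cfsg.POmega F ⇑(plusForm F m)) := by
    rw [hd, PhiD_dG_sq h2 hne hm, Inn_eq']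
    apply Subgroup.mem_map_of_mem
    rw [hO_mem_iff (by omega) (Or.inr (by omega))]
    obtain ⟨k, hk⟩ := hmeven
    exact ⟨(c : F) ^ k, by rw [hk, pow_add]⟩
  have hpso : ∀ y : ↥(Dsub h2 hne), y ∈ (psi1D h2 hne).ker →
      PhiD h2 hne y ∈ psoAut F ⇑(plusForm F m) := by
    intro y hy
    rw [← map_ker_psi1D h2 hne hm]
    exact Subgroup.mem_map_of_mem _ hy
  have hx : ∀ x : ↥(Dsub h2 hne),
      x * x ∈ (Cfsg.Inn (Cfsg.POmega F ⇑(plusForm F m))).comap (PhiD h2 hne) := by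
    intro x
    rw [Subgroup.mem_comap]
    rcases Int.units_eq_one_or (psi1D h2 hne x) with h1 | h1
    · rw [map_mul]
      exact mul_self_mem_of_relIndex_two hidx2' (hpso x h1)
    · obtain ⟨y, hy⟩ : ∃ y : ↥(Dsub h2 hne), y = x * d⁻¹ := ⟨_, rfl⟩
      have hyM : y ∈ (psi1D h2 hne).ker := by
        rw [MonoidHom.mem_ker, hy, map_mul, map_inv, h1, hd1]
        rfl
      have hxy : x = y * d := by rw [hy, inv_mul_cancel_right]
      have hdyM : d * y * d⁻¹ ∈ (psi1D h2 hne).ker :=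
        (MonoidHom.normal_ker (psi1D h2 hne)).conj_mem y hyM d
      have hexp : x * x = (y * (d * y * d⁻¹)) * (d * d) := by rw [hxy]; group
      rw [hexp, map_mul]
      apply Subgroup.mul_mem _ _ hdd
      have ha := hpso y hyM
      have hb := hpso _ hdyM
      rw [map_mul, map_mul, map_inv] at hb
      rw [map_mul, map_mul, map_mul, map_inv]
      exact mul_conj_mem_of_relIndex_two hidx2' ha _ hb
  obtain ⟨ψ, hψs, hψk⟩ := exists_hom_klein _ hidx hx
  exact exists_hom_of_comap (PhiD h2 hne) (inndiagP F m) (inndiagP_eq h2 hne (by omega)) _ ψ hψs hψk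

end Cases

end Cfsg.Agent.Helper8.InnDiagPlus
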