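import Mathlib
import Cfsg.Prelude.Def_JordanBlocks
import Cfsg.Agent.Helper8.UJRank

set_option autoImplicit false

/-!
Matrices commuting with a unipotent matrix in Jordan form: the entries.
-/

namespace Cfsg.Agent.Helper8.JCent

open Matrix Cfsg.Agent.Helper8.UJ

variable {F : Type*} [Field F] {t : ℕ} {d : Fin t → ℕ}

/-- the index type of the Jordan matrix -/
abbrev Idx (d : Fin t → ℕ) := (k : Fin t) × Fin (d k)

/-- the nilpotent part of the Jordan matrix -/
def NN (d : Fin t → ℕ) (F : Type*) [Field F] : Matrix (Idx d) (Idx d) F :=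
  Cfsg.jordanTypeMatrix d F - 1

theorem NN_apply (x y : Idx d) :
    NN d F y x = if y.1 = x.1 ∧ (y.2 : ℕ) = (x.2 : ℕ) + 1 then 1 else 0 :=
  jordanType_sub_one_apply d x y

/-- entries with natural-number indices, zero outside the range -/
def ent (X : Matrix (Idx d) (Idx d) F) (l : Fin t) (i : ℕ) (k : Fin t) (j : ℕ) : F :=
  if h : i < d l ∧ j < d k then X ⟨l, ⟨i, h.1⟩⟩ ⟨k, ⟨j, h.2⟩⟩ else 0

theorem ent_idx (X : Matrix (Idx d) (Idx d) F) (a b : Idx d) :
    ent X a.1 a.2 b.1 b.2 = X a b := by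
  obtain ⟨l, i, hi⟩ := a
  obtain ⟨k, j, hj⟩ := b
  unfold ent
  rw [dif_pos ⟨hi, hj⟩]

theorem ent_eq_zero_left (X : Matrix (Idx d) (Idx d) F) {l : Fin t} {i : ℕ} (k : Fin t) (j : ℕ)
    (h : ¬ i < d l) : ent X l i k j = 0 := by
  unfold ent
  rw [dif_neg (fun h' => h h'.1)]

theorem ent_eq_zero_right (X : Matrix (Idx d) (Idx d) F) (l : Fin t) (i : ℕ) {k : Fin t} {j : ℕ}
    (h : ¬ j < d k) : ent X l i k j = 0 := by
  unfold ent
  rw [dif_neg (fun h' => h h'.2)]

theorem idx_ext {a b : Idx d} (h1 : a.1 = b.1) (h2 : (a.2 : ℕ) = (b.2 : ℕ)) : a = b := by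
  obtain ⟨l, i⟩ := a
  obtain ⟨k, j⟩ := b
  simp only at h1 h2
  subst h1
  congr 1
  exact Fin.ext h2

theorem mul_NN_apply (X : Matrix (Idx d) (Idx d) F) (a b : Idx d) :
    (X * NN d F) a b = ent X a.1 a.2 b.1 ((b.2 : ℕ) + 1) := by
  rw [Matrix.mul_apply]
  by_cases h : (b.2 : ℕ) + 1 < d b.1
  · rw [Finset.sum_eq_single (⟨b.1, ⟨(b.2 : ℕ) + 1, h⟩⟩ : Idx d)]
    · rw [NN_apply, if_pos ⟨rfl, rfl⟩, mul_one]
      exact (ent_idx X a ⟨b.1, ⟨(b.2 : ℕ) + 1, h⟩⟩).symm
    · intro c _ hc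
      rw [NN_apply, if_neg, mul_zero]
      rintro ⟨h1, h2⟩
      exact hc (idx_ext h1 h2)
    · intro h'
      exact absurd (Finset.mem_univ _) h'
  · rw [ent_eq_zero_right X _ _ h]
    apply Finset.sum_eq_zero
    intro c _
    rw [NN_apply, if_neg, mul_zero]
    rintro ⟨h1, h2⟩
    apply h
    rw [← h2, ← h1]
    exact c.2.2

theorem NN_mul_apply (X : Matrix (Idx d) (Idx d) F) (a b : Idx d) :
    (NN d F * X) a b = if (a.2 : ℕ) = 0 then 0 else ent X a.1 ((a.2 : ℕ) - 1) b.1 b.2 := by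
  rw [Matrix.mul_apply]
  by_cases h : (a.2 : ℕ) = 0
  · rw [if_pos h]
    apply Finset.sum_eq_zero
    intro c _
    rw [NN_apply, if_neg, zero_mul]
    rintro ⟨_, h2⟩
    omega
  · rw [if_neg h]
    have hlt : (a.2 : ℕ) - 1 < d a.1 := by
      have := a.2.2
      omega
    rw [Finset.sum_eq_single (⟨a.1, ⟨(a.2 : ℕ) - 1, hlt⟩⟩ : Idx d)]
    · rw [NN_apply, if_pos ⟨rfl, by simp only; omega⟩, one_mul]
      exact (ent_idx X ⟨a.1, ⟨(a.2 : ℕ) - 1, hlt⟩⟩ b).symm
    · intro c _ hc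
      rw [NN_apply, if_neg, zero_mul]
      rintro ⟨h1, h2⟩
      apply hc
      refine idx_ext (b := ⟨a.1, ⟨(a.2 : ℕ) - 1, hlt⟩⟩) h1.symm ?_
      simp only
      omega
    · intro h'
      exact absurd (Finset.mem_univ _) h'

/-- the commutation relation in terms of entries -/
theorem comm_iff (X : Matrix (Idx d) (Idx d) F) :
    X * NN d F = NN d F * X ↔
      ∀ (l k : Fin t) (i j : ℕ), i < d l → j < d k →
        ent X l i k (j + 1) = if i = 0 then 0 else ent X l (i - 1) k j := by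
  constructor
  · intro h l k i j hi hj
    have := congrFun (congrFun h ⟨l, ⟨i, hi⟩⟩) ⟨k, ⟨j, hj⟩⟩
    rw [mul_NN_apply, NN_mul_apply] at this
    exact this
  · intro h
    ext a b
    rw [mul_NN_apply, NN_mul_apply]
    exact h a.1 b.1 a.2 b.2 a.2.2 b.2.2

/-- commuting with the Jordan matrix and with its nilpotent part -/
theorem comm_jordan_iff (X : Matrix (Idx d) (Idx d) F) :
    X * Cfsg.jordanTypeMatrix d F = Cfsg.jordanTypeMatrix d F * X ↔
      X * NN d F = NN d F * X := by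
  unfold NN
  rw [Matrix.mul_sub, Matrix.sub_mul, Matrix.mul_one, Matrix.one_mul]
  constructor
  · intro h; rw [h]
  · intro h
    exact sub_left_injective h

end Cfsg.Agent.Helper8.JCent
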