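import Cfsg.Agent.Helper8.JCentA

set_option autoImplicit false

/-!
Matrices commuting with a unipotent matrix in Jordan form: the Toeplitz structure.
-/

namespace Cfsg.Agent.Helper8.JCent

open Matrix Cfsg.Agent.Helper8.UJ

variable {F : Type*} [Field F] {t : ℕ} {d : Fin t → ℕ}

/-- the commutation relation on entries -/
def Rel (d : Fin t → ℕ) (X : Matrix (Idx d) (Idx d) F) : Prop :=
  ∀ (l k : Fin t) (i j : ℕ), i < d l → j < d k →
    ent X l i k (j + 1) = if i = 0 then 0 else ent X l (i - 1) k j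

theorem rel_of_comm {X : Matrix (Idx d) (Idx d) F} (h : X * NN d F = NN d F * X) : Rel d X :=
  (comm_iff X).mp h

theorem comm_of_rel {X : Matrix (Idx d) (Idx d) F} (h : Rel d X) : X * NN d F = NN d F * X :=
  (comm_iff X).mpr h

/-- entries above the diagonal of each block vanish -/
theorem Rel.upper {X : Matrix (Idx d) (Idx d) F} (h : Rel d X) (l k : Fin t) :
    ∀ (j i : ℕ), i < d l → j < d k → i < j → ent X l i k j = 0 := by
  intro j
  induction j with
  | zero => intro i _ _ hij; omega
  | succ j ih =>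
    intro i hi hj hij
    rw [h l k i j hi (by omega)]
    by_cases h0 : i = 0
    · rw [if_pos h0]
    · rw [if_neg h0]
      exact ih (i - 1) (by omega) (by omega) (by omega)

/-- the entries are constant along the diagonals of each block -/
theorem Rel.diag {X : Matrix (Idx d) (Idx d) F} (h : Rel d X) (l k : Fin t) :
    ∀ (j i : ℕ), i < d l → j < d k → j ≤ i → ent X l i k j = ent X l (i - j) k 0 := by
  intro j
  induction j with
  | zero => intro i _ _ _; rfl
  | succ j ih =>
    intro i hi hj hij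
    rw [h l k i j hi (by omega), if_neg (by omega), ih (i - 1) (by omega) (by omega) (by omega)]
    congr 1
    omega

/-- the support condition -/
theorem Rel.supp {X : Matrix (Idx d) (Idx d) F} (h : Rel d X) (l k : Fin t) (hk : 1 ≤ d k)
    (m : ℕ) (hm : m + d k < d l) : ent X l m k 0 = 0 := by
  have h1 := h l k (m + d k) (d k - 1) hm (by omega)
  have e : d k - 1 + 1 = d k := by omega
  rw [e, ent_eq_zero_right X _ _ (lt_irrefl _), if_neg (by omega)] at h1
  rw [h.diag l k (d k - 1) (m + d k - 1) (by omega) (by omega) (by omega)] at h1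
  have e2 : m + d k - 1 - (d k - 1) = m := by omega
  rw [e2] at h1
  exact h1.symm

/-- the entry formula -/
theorem Rel.apply {X : Matrix (Idx d) (Idx d) F} (h : Rel d X) (a b : Idx d) :
    X a b = if (b.2 : ℕ) ≤ (a.2 : ℕ) then ent X a.1 ((a.2 : ℕ) - (b.2 : ℕ)) b.1 0 else 0 := by
  rw [← ent_idx X a b]
  by_cases hab : (b.2 : ℕ) ≤ (a.2 : ℕ)
  · rw [if_pos hab]
    exact h.diag a.1 b.1 b.2 a.2 a.2.2 b.2.2 hab
  · rw [if_neg hab]
    exact h.upper a.1 b.1 b.2 a.2 a.2.2 b.2.2 (by omega)

/-- the Toeplitz matrix with given coefficients -/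
def toep (d : Fin t → ℕ) (c : Fin t → Fin t → ℕ → F) : Matrix (Idx d) (Idx d) F :=
  fun a b => if (b.2 : ℕ) ≤ (a.2 : ℕ) then c a.1 b.1 ((a.2 : ℕ) - (b.2 : ℕ)) else 0

theorem ent_toep (c : Fin t → Fin t → ℕ → F) (l k : Fin t) (i j : ℕ) (hi : i < d l)
    (hj : j < d k) : ent (toep d c) l i k j = if j ≤ i then c l k (i - j) else 0 := by
  unfold ent
  rw [dif_pos ⟨hi, hj⟩]
  rfl

theorem toep_rel (c : Fin t → Fin t → ℕ → F)
    (hc : ∀ l k m, m + d k < d l → c l k m = 0) : Rel d (toep d c) := by
  intro l k i j hi hj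
  by_cases hj1 : j + 1 < d k
  · rw [ent_toep c l k i (j + 1) hi hj1]
    by_cases h0 : i = 0
    · rw [if_pos h0, if_neg (by omega)]
    · rw [if_neg h0, ent_toep c l k (i - 1) j (by omega) hj]
      by_cases hji : j + 1 ≤ i
      · rw [if_pos hji, if_pos (by omega)]
        congr 1
        omega
      · rw [if_neg hji, if_neg (by omega)]
  · rw [ent_eq_zero_right _ _ _ hj1]
    by_cases h0 : i = 0
    · rw [if_pos h0]
    · rw [if_neg h0, ent_toep c l k (i - 1) j (by omega) hj]
      by_cases hji : j ≤ i - 1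
      · rw [if_pos hji]
        exact (hc l k _ (by omega)).symm
      · rw [if_neg hji]

end Cfsg.Agent.Helper8.JCent
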