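import Cfsg.Agent.Helper8.JCentB

set_option autoImplicit false

/-!
Matrices commuting with a unipotent matrix in Jordan form: block triangular shape and the
determinant.
-/

namespace Cfsg.Agent.Helper8.JCent

open Matrix Cfsg.Agent.Helper8.UJ

variable {F : Type*} [Field F] {t : ℕ} {d : Fin t → ℕ}

/-- the block labels -/
def blk (d : Fin t → ℕ) (a : Idx d) : ℕ ×ₗ ℕ :=
  toLex (d a.1 - (a.2 : ℕ), Finset.univ.sup d - d a.1)

theorem le_sup (l : Fin t) : d l ≤ Finset.univ.sup d := Finset.le_sup (Finset.mem_univ l)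

theorem blk_eq_iff (a a' : Idx d) :
    blk d a = blk d a' ↔ d a.1 = d a'.1 ∧ (a.2 : ℕ) = (a'.2 : ℕ) := by
  unfold blk
  rw [toLex_inj, Prod.ext_iff]
  simp only
  have h1 := le_sup (d := d) a.1
  have h2 := le_sup (d := d) a'.1
  have h3 := a.2.2
  have h4 := a'.2.2
  constructor
  · rintro ⟨e1, e2⟩
    omega
  · rintro ⟨e1, e2⟩
    omega

/-- the block triangular shape -/
theorem Rel.blockTriangular {X : Matrix (Idx d) (Idx d) F} (h : Rel d X) (hd : ∀ k, 1 ≤ d k) :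
    X.BlockTriangular (blk d) := by
  intro a a' hlt
  by_contra hX
  rw [h.apply a a'] at hX
  have hle : (a'.2 : ℕ) ≤ (a.2 : ℕ) := by
    by_contra hle
    rw [if_neg hle] at hX
    exact hX rfl
  rw [if_pos hle] at hX
  have hs : ¬ ((a.2 : ℕ) - (a'.2 : ℕ)) + d a'.1 < d a.1 := by
    intro hs
    exact hX (h.supp a.1 a'.1 (hd a'.1) _ hs)
  unfold blk at hlt
  rw [Prod.Lex.toLex_lt_toLex] at hlt
  simp only at hlt
  have h1 := le_sup (d := d) a.1
  have h2 := le_sup (d := d) a'.1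
  have h3 := a.2.2
  have h4 := a'.2.2
  rcases hlt with hlt | ⟨e1, hlt⟩
  · omega
  · omega

/-- the diagonal blocks of the top coefficients -/
def Cs (X : Matrix (Idx d) (Idx d) F) (s : ℕ) :
    Matrix {l : Fin t // d l = s} {l : Fin t // d l = s} F :=
  fun l k => ent X l.1 0 k.1 0

/-- the square blocks -/
noncomputable def blkEquiv (hd : ∀ k, 1 ≤ d k) (a₀ : Idx d) :
    {a : Idx d // blk d a = blk d a₀} ≃ {l : Fin t // d l = d a₀.1} where
  toFun a := ⟨a.1.1, ((blk_eq_iff a.1 a₀).mp a.2).1⟩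
  invFun l := ⟨⟨l.1, ⟨(a₀.2 : ℕ), by rw [l.2]; exact a₀.2.2⟩⟩,
    (blk_eq_iff _ a₀).mpr ⟨l.2, rfl⟩⟩
  left_inv a := by
    apply Subtype.ext
    refine idx_ext (b := a.1) rfl ?_
    exact ((blk_eq_iff a.1 a₀).mp a.2).2.symm
  right_inv l := rfl

theorem Rel.det_block {X : Matrix (Idx d) (Idx d) F} (h : Rel d X) (hd : ∀ k, 1 ≤ d k)
    (a₀ : Idx d) : (X.toSquareBlock (blk d) (blk d a₀)).det = (Cs X (d a₀.1)).det := by
  rw [← Matrix.det_submatrix_equiv_self (blkEquiv hd a₀) (Cs X (d a₀.1))]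
  congr 1
  ext a a'
  rw [Matrix.toSquareBlock_def, Matrix.of_apply, Matrix.submatrix_apply, h.apply a.1 a'.1]
  have e1 := ((blk_eq_iff a.1 a₀).mp a.2).2
  have e2 := ((blk_eq_iff a'.1 a₀).mp a'.2).2
  rw [if_pos (by omega)]
  have e3 : ((a.1.2 : ℕ) - (a'.1.2 : ℕ)) = 0 := by omega
  rw [e3]
  rfl

/-- the invertibility criterion -/
theorem Rel.det_ne_zero_iff {X : Matrix (Idx d) (Idx d) F} (h : Rel d X) (hd : ∀ k, 1 ≤ d k) :
    X.det ≠ 0 ↔ ∀ s : ℕ, (Cs X s).det ≠ 0 := by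
  classical
  rw [(h.blockTriangular hd).det, Finset.prod_ne_zero_iff]
  constructor
  · intro hall s
    by_cases hs : Nonempty {l : Fin t // d l = s}
    · obtain ⟨⟨l, hl⟩⟩ := hs
      have h0 : 0 < d l := hd l
      have := hall (blk d ⟨l, ⟨0, h0⟩⟩) (Finset.mem_image_of_mem _ (Finset.mem_univ _))
      rw [h.det_block hd] at this
      simp only at this
      rw [hl] at this
      exact this
    · rw [not_nonempty_iff] at hs
      rw [Matrix.det_isEmpty]
      exact one_ne_zero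
  · intro hall κ hκ
    obtain ⟨a₀, _, rfl⟩ := Finset.mem_image.mp hκ
    rw [h.det_block hd]
    exact hall _

end Cfsg.Agent.Helper8.JCent
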