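import Cfsg.Agent.Helper8.JCentC

set_option autoImplicit false

/-!
Matrices commuting with a unipotent matrix in Jordan form: the additive group of commuting
matrices, its parametrisation, and the top coefficient map.
-/

namespace Cfsg.Agent.Helper8.JCent

open Matrix Cfsg.Agent.Helper8.UJ

/-- counting a preimage under a surjective additive homomorphism -/
theorem card_preimage_mul {V T : Type*} [AddCommGroup V] [AddCommGroup T] [Finite V] [Finite T]
    (Φ : V →+ T) (hΦ : Function.Surjective Φ) (U : Set T) :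
    Nat.card {x : V // Φ x ∈ U} * Nat.card T = Nat.card U * Nat.card V := by
  classical
  have hσΦ : ∀ u, Φ (Function.surjInv hΦ u) = u := Function.surjInv_eq hΦ
  generalize Function.surjInv hΦ = σ at hσΦ
  rw [← Nat.card_prod, ← Nat.card_prod]
  apply Nat.card_congr
  refine
    { toFun := fun p => (⟨Φ p.1.1, p.1.2⟩, p.1.1 - σ (Φ p.1.1) + σ p.2)
      invFun := fun p => (⟨σ p.1.1 + (p.2 - σ (Φ p.2)), ?_⟩, Φ p.2)
      left_inv := ?_
      right_inv := ?_ }
  · rw [map_add, map_sub, hσΦ, hσΦ, sub_self, add_zero]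
    exact p.1.2
  · rintro ⟨⟨x, hx⟩, u⟩
    apply Prod.ext
    · apply Subtype.ext
      simp only [map_add, map_sub, hσΦ, sub_self, zero_add]
      abel
    · simp only [map_add, map_sub, hσΦ, sub_self, zero_add]
  · rintro ⟨⟨u, hu⟩, v⟩
    apply Prod.ext
    · apply Subtype.ext
      simp only [map_add, map_sub, hσΦ, sub_self, add_zero]
    · simp only [map_add, map_sub, hσΦ, sub_self, add_zero]
      abel

variable {F : Type*} [Field F] {t : ℕ} (d : Fin t → ℕ)

/-- the commuting matrices -/
def VV (d : Fin t → ℕ) (F : Type*) [Field F] : AddSubgroup (Matrix (Idx d) (Idx d) F) where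
  carrier := {X | X * NN d F = NN d F * X}
  zero_mem' := by
    simp only [Set.mem_ofPred_eq, zero_mul, mul_zero]
  add_mem' := by
    intro a b ha hb
    simp only [Set.mem_ofPred_eq] at ha hb ⊢
    rw [add_mul, mul_add, ha, hb]
  neg_mem' := by
    intro a ha
    simp only [Set.mem_ofPred_eq] at ha ⊢
    rw [neg_mul, mul_neg, ha]

theorem mem_VV (X : Matrix (Idx d) (Idx d) F) : X ∈ VV d F ↔ X * NN d F = NN d F * X := Iff.rfl

/-- the blocks of a given size -/
abbrev fib (d : Fin t → ℕ) (s : ℕ) := {l : Fin t // d l = s}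

/-- the target of the top coefficient map -/
abbrev TT (d : Fin t → ℕ) (F : Type*) [Field F] :=
  (s : Fin (Finset.univ.sup d + 1)) → Matrix (fib d s) (fib d s) F

theorem ent_add (X Y : Matrix (Idx d) (Idx d) F) (l : Fin t) (i : ℕ) (k : Fin t) (j : ℕ) :
    ent (X + Y) l i k j = ent X l i k j + ent Y l i k j := by
  unfold ent
  split_ifs
  · rfl
  · simp

theorem ent_zero (l : Fin t) (i : ℕ) (k : Fin t) (j : ℕ) :
    ent (0 : Matrix (Idx d) (Idx d) F) l i k j = 0 := by
  unfold ent
  split_ifs
  · rfl
  · rfl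

/-- the top coefficient map -/
def Phi : VV d F →+ TT d F where
  toFun X s := Cs X.1 s
  map_zero' := by
    funext s
    ext l k
    exact ent_zero d _ _ _ _
  map_add' X Y := by
    funext s
    ext l k
    exact ent_add d _ _ _ _ _ _

theorem Phi_apply (X : VV d F) (s : Fin (Finset.univ.sup d + 1)) : Phi d X s = Cs X.1 s := rfl

/-- the parameter set -/
abbrev Om (d : Fin t → ℕ) := (lk : Fin t × Fin t) × Fin (min (d lk.1) (d lk.2))

/-- the coefficients from a function on the parameter set -/
def cf (f : Om d → F) (l k : Fin t) (m : ℕ) : F :=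
  if h : d l - d k ≤ m ∧ m < d l then f ⟨(l, k), ⟨m - (d l - d k), by
    show m - (d l - d k) < min (d l) (d k)
    omega⟩⟩ else 0

/-- the parametrisation of the commuting matrices -/
noncomputable def VVequiv (hd : ∀ k, 1 ≤ d k) : VV d F ≃ (Om d → F) where
  toFun X ω := ent X.1 ω.1.1 (d ω.1.1 - d ω.1.2 + ω.2) ω.1.2 0
  invFun f := ⟨toep d (cf d f), comm_of_rel (toep_rel _ (by
    intro l k m hm
    unfold cf
    rw [dif_neg]
    omega))⟩
  left_inv X := by
    apply Subtype.ext
    have hX := rel_of_comm X.2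
    ext a b
    rw [hX.apply a b]
    show toep d _ a b = _
    unfold toep
    by_cases hab : (b.2 : ℕ) ≤ a.2
    · rw [if_pos hab, if_pos hab]
      unfold cf
      by_cases h : d a.1 - d b.1 ≤ (a.2 : ℕ) - b.2 ∧ (a.2 : ℕ) - b.2 < d a.1
      · rw [dif_pos h]
        simp only
        congr 1
        omega
      · rw [dif_neg h]
        symm
        apply hX.supp a.1 b.1 (hd b.1)
        have := a.2.2
        omega
    · rw [if_neg hab, if_neg hab]
  right_inv f := by
    funext ω
    obtain ⟨⟨l, k⟩, r, hr⟩ := ω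
    change r < min (d l) (d k) at hr
    simp only
    have hk := hd k
    rw [ent_toep _ _ _ _ _ (by omega) (hd k), if_pos (Nat.zero_le _)]
    unfold cf
    rw [dif_pos (by omega)]
    congr 2
    apply Fin.ext
    simp only
    omega

end Cfsg.Agent.Helper8.JCent
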