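import Cfsg.Agent.Helper8.JCentD

set_option autoImplicit false

/-!
Matrices commuting with a unipotent matrix in Jordan form: cardinalities.
-/

namespace Cfsg.Agent.Helper8.JCent

open Matrix Cfsg.Agent.Helper8.UJ

variable {F : Type*} [Field F] {t : ℕ} (d : Fin t → ℕ)

/-- the top coefficient map is onto -/
theorem Phi_surjective (hd : ∀ k, 1 ≤ d k) : Function.Surjective (Phi (F := F) d) := by
  intro M
  set c : Fin t → Fin t → ℕ → F := fun l k m =>
    if h : d l = d k ∧ m = 0 then
      M ⟨d l, Nat.lt_succ_of_le (le_sup l)⟩ ⟨l, rfl⟩ ⟨k, h.1.symm⟩ else 0 with hc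
  have hrel : Rel d (toep d c) := by
    apply toep_rel
    intro l k m hm
    rw [hc]
    simp only
    rw [dif_neg]
    omega
  refine ⟨⟨toep d c, comm_of_rel hrel⟩, ?_⟩
  funext s
  obtain ⟨s, hs⟩ := s
  ext ⟨l, hl⟩ ⟨k, hk⟩
  simp only at hl hk
  subst hl
  rw [Phi_apply]
  unfold Cs
  simp only
  rw [ent_toep c l k 0 0 (hd l) (hd k), if_pos (le_refl _), hc]
  simp only
  rw [dif_pos ⟨hk.symm, trivial⟩]

/-- the invertible tuples -/
def UU (d : Fin t → ℕ) (F : Type*) [Field F] : Set (TT d F) := {M | ∀ s, (M s).det ≠ 0}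

/-- the number of invertible matrices -/
theorem card_det_ne_zero [Fintype F] (n : Type*) [Fintype n] [DecidableEq n] :
    Nat.card {M : Matrix n n F // M.det ≠ 0} =
      ∏ j : Fin (Fintype.card n),
        (Fintype.card F ^ Fintype.card n - Fintype.card F ^ (j : ℕ)) := by
  rw [← Matrix.card_GL_field]
  apply Nat.card_congr
  refine
    { toFun := fun M => Matrix.GeneralLinearGroup.mkOfDetNeZero
        (Matrix.reindex (Fintype.equivFin n) (Fintype.equivFin n) M.1) (by
          rw [Matrix.det_reindex_self]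
          exact M.2)
      invFun := fun g =>
        ⟨Matrix.reindex (Fintype.equivFin n).symm (Fintype.equivFin n).symm g.1, by
          rw [Matrix.det_reindex_self]
          exact ((Matrix.isUnit_iff_isUnit_det _).mp g.isUnit).ne_zero⟩
      left_inv := ?_
      right_inv := ?_ }
  · intro M
    apply Subtype.ext
    ext i j
    simp [Matrix.GeneralLinearGroup.mkOfDetNeZero]
  · intro g
    apply Units.ext
    ext i j
    simp [Matrix.GeneralLinearGroup.mkOfDetNeZero]

theorem card_fib (s : ℕ) :
    Fintype.card (fib d s) = (Finset.univ.filter (fun k : Fin t => d k = s)).card :=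
  Fintype.card_subtype _

/-- the number of invertible tuples -/
theorem card_UU [Fintype F] :
    Nat.card (UU d F) = ∏ i ∈ Finset.range (Finset.univ.sup d + 1),
      ∏ j : Fin ((Finset.univ.filter (fun k : Fin t => d k = i)).card),
        (Fintype.card F ^ (Finset.univ.filter (fun k : Fin t => d k = i)).card
          - Fintype.card F ^ (j : ℕ)) := by
  rw [← Fin.prod_univ_eq_prod_range
    (fun i => ∏ j : Fin ((Finset.univ.filter (fun k : Fin t => d k = i)).card),
        (Fintype.card F ^ (Finset.univ.filter (fun k : Fin t => d k = i)).card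
          - Fintype.card F ^ (j : ℕ)))]
  have e : ↥(UU d F) ≃ ((s : Fin (Finset.univ.sup d + 1)) →
      {M : Matrix (fib d s) (fib d s) F // M.det ≠ 0}) :=
    Equiv.subtypePiEquivPi (β := fun s : Fin (Finset.univ.sup d + 1) =>
      Matrix (fib d s) (fib d s) F) (p := fun _ M => M.det ≠ 0)
  rw [Nat.card_congr e, Nat.card_pi]
  apply Finset.prod_congr rfl
  intro s _
  rw [card_det_ne_zero, card_fib]

/-- the number of commuting matrices -/
theorem card_VV [Fintype F] (hd : ∀ k, 1 ≤ d k) :
    Nat.card (VV d F) = Fintype.card F ^ (∑ l : Fin t, ∑ k : Fin t, min (d l) (d k)) := by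
  rw [Nat.card_congr (VVequiv d hd), Nat.card_eq_fintype_card, Fintype.card_fun,
    Fintype.card_sigma, Fintype.sum_prod_type]
  simp only [Fintype.card_fin]

/-- the cardinality of the target -/
theorem card_TT [Fintype F] :
    Nat.card (TT d F) = Fintype.card F ^ (∑ i ∈ Finset.range (Finset.univ.sup d + 1),
      (Finset.univ.filter (fun k : Fin t => d k = i)).card ^ 2) := by
  rw [← Fin.sum_univ_eq_sum_range
    (fun i => (Finset.univ.filter (fun k : Fin t => d k = i)).card ^ 2)]
  rw [Nat.card_pi, ← Finset.prod_pow_eq_pow_sum]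
  apply Finset.prod_congr rfl
  intro s _
  unfold Matrix
  rw [Nat.card_eq_fintype_card, Fintype.card_fun, Fintype.card_fun, ← pow_mul, card_fib, sq]

/-- the centraliser in terms of the top coefficient map -/
noncomputable def centEquiv (hd : ∀ k, 1 ≤ d k) :
    {g : GL (Idx d) F // (g : Matrix (Idx d) (Idx d) F) * Cfsg.jordanTypeMatrix d F =
      Cfsg.jordanTypeMatrix d F * (g : Matrix (Idx d) (Idx d) F)} ≃
    {x : VV d F // Phi d x ∈ UU d F} where
  toFun g := ⟨⟨g.1.1, (comm_jordan_iff _).mp g.2⟩, by
    have h1 := ((rel_of_comm ((comm_jordan_iff _).mp g.2)).det_ne_zero_iff hd).mp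
      ((Matrix.isUnit_iff_isUnit_det _).mp g.1.isUnit).ne_zero
    intro s
    exact h1 s⟩
  invFun x := ⟨Matrix.GeneralLinearGroup.mkOfDetNeZero x.1.1 (by
      rw [(rel_of_comm x.1.2).det_ne_zero_iff hd]
      intro s
      by_cases hs : s < Finset.univ.sup d + 1
      · exact x.2 ⟨s, hs⟩
      · have : IsEmpty (fib d s) := ⟨fun l => hs (by
          have := le_sup (d := d) l.1
          have := l.2
          omega)⟩
        rw [Matrix.det_isEmpty]
        exact one_ne_zero), (comm_jordan_iff _).mpr x.1.2⟩
  left_inv g := by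
    apply Subtype.ext
    apply Units.ext
    rfl
  right_inv x := rfl

end Cfsg.Agent.Helper8.JCent
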