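import Cfsg.Agent.Helper8.JCentE

set_option autoImplicit false

/-!
Matrices commuting with a unipotent matrix in Jordan form: the exponent.
-/

namespace Cfsg.Agent.Helper8.JCent

open Matrix Cfsg.Agent.Helper8.UJ

variable {t : ℕ} (d : Fin t → ℕ)

/-- summing over the fibres of `d` -/
theorem sum_fiber (h : ℕ → ℕ) :
    ∑ l : Fin t, h (d l) = ∑ i ∈ Finset.range (Finset.univ.sup d + 1),
      (Finset.univ.filter (fun k : Fin t => d k = i)).card * h i := by
  rw [← Finset.sum_fiberwise_of_maps_to (s := Finset.univ)
    (t := Finset.range (Finset.univ.sup d + 1)) (g := d)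
    (fun l _ => Finset.mem_range.mpr (Nat.lt_succ_of_le (le_sup l)))]
  apply Finset.sum_congr rfl
  intro i _
  rw [Finset.sum_congr rfl (g := fun _ => h i)
    (fun l hl => by rw [(Finset.mem_filter.mp hl).2]), Finset.sum_const, smul_eq_mul]

/-- the symmetric splitting of the sum of minima -/
theorem sum_min_split (a : ℕ → ℕ) (ha : a 0 = 0) (n : ℕ) :
    ∑ i ∈ Finset.range n, a i * ∑ j ∈ Finset.range n, a j * min i j =
      ∑ i ∈ Finset.range n, a i ^ 2 +
        (2 * (∑ i ∈ Finset.range n, ∑ j ∈ Finset.range n,
          if i < j then i * a i * a j else 0) + ∑ i ∈ Finset.range n, (i - 1) * a i ^ 2) := by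
  have h1 : ∀ i j : ℕ, a i * (a j * min i j) =
      (if i < j then i * a i * a j else 0) + (if j < i then j * a j * a i else 0) +
        (if i = j then i * a i ^ 2 else 0) := by
    intro i j
    rcases lt_trichotomy i j with h | h | h
    · rw [if_pos h, if_neg (by omega), if_neg (by omega), min_eq_left h.le]
      ring
    · subst h
      simp only [lt_irrefl, if_false, if_true, min_self]
      ring
    · rw [if_neg (by omega), if_pos h, if_neg (by omega), min_eq_right h.le]
      ring
  have h2 : ∑ i ∈ Finset.range n, a i * ∑ j ∈ Finset.range n, a j * min i j =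
      ∑ i ∈ Finset.range n, ∑ j ∈ Finset.range n,
        ((if i < j then i * a i * a j else 0) + (if j < i then j * a j * a i else 0) +
        (if i = j then i * a i ^ 2 else 0)) := by
    apply Finset.sum_congr rfl
    intro i _
    rw [Finset.mul_sum]
    apply Finset.sum_congr rfl
    intro j _
    exact h1 i j
  rw [h2]
  simp only [Finset.sum_add_distrib]
  have h3 : ∑ i ∈ Finset.range n, ∑ j ∈ Finset.range n,
      (if j < i then j * a j * a i else 0) =
      ∑ i ∈ Finset.range n, ∑ j ∈ Finset.range n, (if i < j then i * a i * a j else 0) :=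
    Finset.sum_comm
  have h4 : ∑ i ∈ Finset.range n, ∑ j ∈ Finset.range n, (if i = j then i * a i ^ 2 else 0) =
      ∑ i ∈ Finset.range n, a i ^ 2 + ∑ i ∈ Finset.range n, (i - 1) * a i ^ 2 := by
    rw [← Finset.sum_add_distrib]
    apply Finset.sum_congr rfl
    intro i hi
    rw [Finset.sum_ite_eq, if_pos hi]
    rcases Nat.eq_zero_or_pos i with h0 | h0
    · subst h0
      rw [ha]
      simp
    · obtain ⟨m, rfl⟩ : ∃ m, i = m + 1 := ⟨i - 1, by omega⟩
      rw [Nat.add_sub_cancel]
      ring
  rw [h3, h4]
  ring

/-- the exponent identity -/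
theorem sum_min_eq (hd : ∀ k, 1 ≤ d k) :
    ∑ l : Fin t, ∑ k : Fin t, min (d l) (d k) =
      ∑ i ∈ Finset.range (Finset.univ.sup d + 1),
        (Finset.univ.filter (fun k : Fin t => d k = i)).card ^ 2 +
      (2 * (∑ i ∈ Finset.range (Finset.univ.sup d + 1),
        ∑ j ∈ Finset.range (Finset.univ.sup d + 1),
          if i < j then i * (Finset.univ.filter (fun k : Fin t => d k = i)).card *
            (Finset.univ.filter (fun k : Fin t => d k = j)).card else 0) +
        ∑ i ∈ Finset.range (Finset.univ.sup d + 1),
          (i - 1) * (Finset.univ.filter (fun k : Fin t => d k = i)).card ^ 2) := by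
  have ha : (Finset.univ.filter (fun k : Fin t => d k = 0)).card = 0 := by
    rw [Finset.card_eq_zero, Finset.filter_eq_empty_iff]
    intro k _ hk
    have := hd k
    omega
  rw [← sum_min_split (fun i => (Finset.univ.filter (fun k : Fin t => d k = i)).card) ha]
  have e1 : ∀ l : Fin t, ∑ k : Fin t, min (d l) (d k) =
      ∑ j ∈ Finset.range (Finset.univ.sup d + 1),
        (Finset.univ.filter (fun k : Fin t => d k = j)).card * min (d l) j :=
    fun l => sum_fiber d (fun j => min (d l) j)
  rw [Finset.sum_congr rfl (fun l _ => e1 l)]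
  exact sum_fiber d (fun i => ∑ j ∈ Finset.range (Finset.univ.sup d + 1),
        (Finset.univ.filter (fun k : Fin t => d k = j)).card * min i j)

end Cfsg.Agent.Helper8.JCent
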