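import Mathlib
import Cfsg.Agent.Helper2.Quasisimple

set_option autoImplicit false

/-!
helper8: a normal quasisimple subgroup `K` of `H` lies in the closure of the `K`-conjugates of
any `c ∈ H` that does not centralize it; a perfect permutation group cannot centralize a
three-cycle that it contains.
-/

namespace Cfsg.Agent.Helper8.Jd

open scoped commutatorElement

section abstract

variable {G : Type*} [Group G]

/-- A perfect subgroup lies in any subgroup containing all its commutators. -/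
theorem perfect_le_of_commutators (K X : Subgroup G) (hK : Group.IsPerfect ↥K)
    (h : ∀ a ∈ K, ∀ b ∈ K, ⁅a, b⁆ ∈ X) : K ≤ X := by
  have h1 : ⁅K, K⁆ = K := Subgroup.isPerfect_iff.mp hK
  rw [← h1, Subgroup.commutator_le]
  exact h

/-- the set of `K`-conjugates of `c` -/
def conjSet (K : Subgroup G) (c : G) : Set G := {g | ∃ k ∈ K, g = k * c * k⁻¹}

theorem self_mem_conjSet (K : Subgroup G) (c : G) : c ∈ conjSet K c :=
  ⟨1, K.one_mem, by simp⟩

theorem quasisimple_le_closure_conj (K H : Subgroup G)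
    (hn : ∀ h ∈ H, ∀ k ∈ K, h * k * h⁻¹ ∈ K) (hq : Cfsg.IsQuasisimple ↥K) (c : G) (hc : c ∈ H)
    (hnc : ¬ ∀ k ∈ K, k * c = c * k) : K ≤ Subgroup.closure (conjSet K c) := by
  set L := Subgroup.closure (conjSet K c) with hL
  set D := Subgroup.closure {g | ∃ k ∈ K, g = k * c * k⁻¹ * c⁻¹} with hD
  have hcL : c ∈ L := Subgroup.subset_closure (self_mem_conjSet K c)
  have hDK : D ≤ K := by
    rw [hD, Subgroup.closure_le]
    rintro g ⟨k, hk, rfl⟩
    have := hn c hc k⁻¹ (K.inv_mem hk)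
    have e : k * c * k⁻¹ * c⁻¹ = k * (c * k⁻¹ * c⁻¹) := by group
    rw [e]
    exact K.mul_mem hk this
  have hDL : D ≤ L := by
    rw [hD, Subgroup.closure_le]
    rintro g ⟨k, hk, rfl⟩
    exact L.mul_mem (Subgroup.subset_closure ⟨k, hk, rfl⟩) (L.inv_mem hcL)
  have hgen : ∀ k ∈ K, k * c * k⁻¹ * c⁻¹ ∈ D := fun k hk =>
    Subgroup.subset_closure ⟨k, hk, rfl⟩
  have hconj : ∀ k ∈ K, ∀ d ∈ D, k * d * k⁻¹ ∈ D := by
    intro k hk d hd
    induction hd using Subgroup.closure_induction with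
    | mem x hx =>
      obtain ⟨k₁, hk₁, rfl⟩ := hx
      have e : k * (k₁ * c * k₁⁻¹ * c⁻¹) * k⁻¹
          = ((k * k₁) * c * (k * k₁)⁻¹ * c⁻¹) * (k * c * k⁻¹ * c⁻¹)⁻¹ := by group
      rw [e]
      exact D.mul_mem (hgen _ (K.mul_mem hk hk₁)) (D.inv_mem (hgen _ hk))
    | one => simp
    | mul x y _ _ hx hy =>
      have e : k * (x * y) * k⁻¹ = (k * x * k⁻¹) * (k * y * k⁻¹) := by group
      rw [e]; exact D.mul_mem hx hy
    | inv x _ hx =>
      have e : k * x⁻¹ * k⁻¹ = (k * x * k⁻¹)⁻¹ := by group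
      rw [e]; exact D.inv_mem hx
  have hnorm : (D.subgroupOf K).Normal := by
    refine ⟨fun d hd k => ?_⟩
    rw [Subgroup.mem_subgroupOf] at hd ⊢
    simpa using hconj k k.2 d hd
  rcases Cfsg.Agent.Helper2.isSubnormal_quasisimple hq (D.subgroupOf K) hnorm.isSubnormal
    with h | h
  · rw [Subgroup.subgroupOf_eq_top] at h
    exact h.trans hDL
  · exfalso
    apply hnc
    -- the commutator map is a homomorphism into the center
    have hcen : ∀ k ∈ K, ∀ x ∈ K, (k * c * k⁻¹ * c⁻¹) * x = x * (k * c * k⁻¹ * c⁻¹) := by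
      intro k hk x hx
      have h1 : (⟨k * c * k⁻¹ * c⁻¹, hDK (hgen k hk)⟩ : ↥K) ∈ D.subgroupOf K := by
        rw [Subgroup.mem_subgroupOf]; exact hgen k hk
      have h2 := Subgroup.mem_center_iff.mp (h h1) ⟨x, hx⟩
      have h3 := congrArg Subtype.val h2
      simpa using h3.symm
    obtain ⟨φ, hφ⟩ : ∃ φ : ↥K →* ↥(Subgroup.center ↥K), ∀ k : ↥K,
        ((φ k : ↥K) : G) = (k : G) * c * (k : G)⁻¹ * c⁻¹ := ⟨
      MonoidHom.mk' (fun k => ⟨⟨(k : G) * c * (k : G)⁻¹ * c⁻¹, hDK (hgen k k.2)⟩, by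
        rw [Subgroup.mem_center_iff]
        intro x
        apply Subtype.ext
        simpa using (hcen k k.2 x x.2).symm⟩) (by
        intro a b
        apply Subtype.ext
        apply Subtype.ext
        show ((a * b : ↥K) : G) * c * ((a * b : ↥K) : G)⁻¹ * c⁻¹
          = ((a : G) * c * (a : G)⁻¹ * c⁻¹) * ((b : G) * c * (b : G)⁻¹ * c⁻¹)
        have h1 := hcen b b.2 (a : G)⁻¹ (K.inv_mem a.2)
        have h2 := hcen b b.2 ((a : G) * c * (a : G)⁻¹ * c⁻¹) (hDK (hgen a a.2))
        have e : ((a * b : ↥K) : G) * c * ((a * b : ↥K) : G)⁻¹ * c⁻¹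
            = (a : G) * (((b : G) * c * (b : G)⁻¹ * c⁻¹) * (a : G)⁻¹)
              * ((a : G) * c * (a : G)⁻¹ * c⁻¹) := by
          simp only [Subgroup.coe_mul]; group
        rw [e, h1, ← h2]
        group), fun k => rfl⟩
    have hker : φ.ker = ⊤ := by
      have h1 : commutator ↥K ≤ φ.ker := by
        rw [commutator_eq_closure, Subgroup.closure_le]
        rintro x ⟨p, q, rfl⟩
        rw [SetLike.mem_coe, MonoidHom.mem_ker, commutatorElement_def, map_mul, map_mul,
          map_mul, map_inv, map_inv]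
        have hcm : φ p * φ q = φ q * φ p := by
          apply Subtype.ext
          exact (Subgroup.mem_center_iff.mp (φ p).2 (φ q)).symm
        rw [hcm]; group
      have h2 : commutator ↥K = ⊤ := hq.1.commutator_eq_top
      rw [h2] at h1
      exact eq_top_iff.mpr h1
    intro k hk
    have h1 : (⟨k, hk⟩ : ↥K) ∈ φ.ker := by rw [hker]; trivial
    rw [MonoidHom.mem_ker] at h1
    have h2 := hφ ⟨k, hk⟩
    rw [h1] at h2
    simp only [Subgroup.coe_one] at h2
    have e : k * c = (k * c * k⁻¹ * c⁻¹) * (c * k) := by group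
    rw [e, ← h2, one_mul]

end abstract

section perm

open Equiv Equiv.Perm

variable {α : Type*} [Fintype α] [DecidableEq α]

omit [Fintype α] [DecidableEq α] in
theorem moved_of_commute {c k : Perm α} (hk : k * c = c * k) {y : α} (hy : c y ≠ y) :
    c (k y) ≠ k y := by
  intro h
  apply hy
  have h1 : (c * k) y = k y := h
  rw [← hk] at h1
  exact k.injective h1

omit [DecidableEq α] in
theorem commute_apply_of_cycle {c k₁ k₂ : Perm α} (hcyc : c.IsCycle) (h₁ : k₁ * c = c * k₁)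
    (h₂ : k₂ * c = c * k₂) {y : α} (hy : c y ≠ y) : k₁ (k₂ y) = k₂ (k₁ y) := by
  obtain ⟨i, hi⟩ := hcyc.exists_pow_eq hy (moved_of_commute h₂ hy)
  obtain ⟨j, hj⟩ := hcyc.exists_pow_eq hy (moved_of_commute h₁ hy)
  have c₁ : ∀ n : ℕ, k₁ * c ^ n = c ^ n * k₁ := fun n =>
    ((show Commute k₁ c from h₁).pow_right n).eq
  have c₂ : ∀ n : ℕ, k₂ * c ^ n = c ^ n * k₂ := fun n =>
    ((show Commute k₂ c from h₂).pow_right n).eq
  have e1 : k₁ (k₂ y) = (c ^ i * c ^ j) y := by
    rw [← hi]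
    have : (k₁ * c ^ i) y = (c ^ i * k₁) y := by rw [c₁]
    simp only [Perm.mul_apply] at this
    rw [this, ← hj]
    rfl
  have e2 : k₂ (k₁ y) = (c ^ j * c ^ i) y := by
    rw [← hj]
    have : (k₂ * c ^ j) y = (c ^ j * k₂) y := by rw [c₂]
    simp only [Perm.mul_apply] at this
    rw [this, ← hi]
    rfl
  rw [e1, e2, (Commute.pow_pow (Commute.refl c) i j).eq]

omit [DecidableEq α] in
theorem commutator_fixes {c k₁ k₂ : Perm α} (hcyc : c.IsCycle) (h₁ : k₁ * c = c * k₁)
    (h₂ : k₂ * c = c * k₂) {x : α} (hx : c x ≠ x) : ⁅k₁, k₂⁆ x = x := by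
  have hi₁ : k₁⁻¹ * c = c * k₁⁻¹ := by
    have : k₁⁻¹ * (k₁ * c) * k₁⁻¹ = k₁⁻¹ * (c * k₁) * k₁⁻¹ := by rw [h₁]
    simpa [mul_assoc] using this.symm
  have hi₂ : k₂⁻¹ * c = c * k₂⁻¹ := by
    have : k₂⁻¹ * (k₂ * c) * k₂⁻¹ = k₂⁻¹ * (c * k₂) * k₂⁻¹ := by rw [h₂]
    simpa [mul_assoc] using this.symm
  set y := k₁⁻¹ (k₂⁻¹ x) with hy
  have hy' : c y ≠ y := moved_of_commute hi₁ (moved_of_commute hi₂ hx)
  have h := commute_apply_of_cycle hcyc h₁ h₂ hy'
  have e : ⁅k₁, k₂⁆ x = k₁ (k₂ y) := by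
    rw [commutatorElement_def]; simp [hy]
  rw [e, h, hy]
  simp

/-- A perfect permutation group does not contain a three-cycle that it centralizes. -/
theorem perfect_not_centralize (K : Subgroup (Perm α)) (hK : Group.IsPerfect ↥K) (c : Perm α)
    (h3 : c.IsThreeCycle) (hcK : c ∈ K) (hcen : ∀ k ∈ K, k * c = c * k) : False := by
  obtain ⟨x, hx⟩ : ∃ x, c x ≠ x := by
    by_contra h
    push Not at h
    have : c = 1 := Equiv.ext h
    rw [this] at h3
    have := h3.card_support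
    simp at this
  have hle : K ≤ MulAction.stabilizer (Perm α) x := by
    apply perfect_le_of_commutators K _ hK
    intro a ha b hb
    rw [MulAction.mem_stabilizer_iff]
    exact commutator_fixes h3.isCycle (hcen a ha) (hcen b hb) hx
  exact hx (MulAction.mem_stabilizer_iff.mp (hle hcK))

end perm

end Cfsg.Agent.Helper8.Jd
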