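import Mathlib
import Cfsg.Agent.Helper8.JdA
import Cfsg.Agent.Helper8.JdB
import Cfsg.Agent.S3378

set_option autoImplicit false

/-!
helper8: a normal quasisimple subgroup `K` of a permutation group `H` that is not centralized by
some three-cycle of `H` is the alternating group on its support.
-/

namespace Cfsg.Agent.Helper8.Jd

open Equiv Equiv.Perm MulAction

variable {α : Type*} [Fintype α] [DecidableEq α]

theorem sixty_le_card_of_perfect {K : Type*} [Group K] [Finite K] [Nontrivial K]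
    (hK : Group.IsPerfect K) : 60 ≤ Nat.card K := by
  by_contra h
  push Not at h
  exact Group.IsPerfect.not_isSolvable K
    (Cfsg.Agent.S3378.solvable_of_card_lt (Nat.card K) h K rfl)

theorem exists_alt (K H : Subgroup (Perm α)) (hn : ∀ h ∈ H, ∀ k ∈ K, h * k * h⁻¹ ∈ K)
    (hKH : K ≤ H)
    (hq : Cfsg.IsQuasisimple ↥K) (c : Perm α) (hc : c ∈ H) (h3 : c.IsThreeCycle)
    (hnc : ¬ ∀ k ∈ K, k * c = c * k) :
    ∃ (m : ℕ) (Δ : Finset α), Δ.card = m ∧ (∀ x ∈ Δ, ∃ k ∈ K, k x ≠ x) ∧
      (∀ k ∈ K, ∀ x, x ∉ Δ → k x = x) ∧ (∀ x, c x ≠ x → x ∈ Δ) ∧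
      Nonempty (↥K ≃* ↥(alternatingGroup (Fin m))) := by
  classical
  set S := conjSet K c with hS
  set L := Subgroup.closure S with hL
  have hKL : K ≤ L := quasisimple_le_closure_conj K H hn hq c hc hnc
  have hcS : c ∈ S := self_mem_conjSet K c
  have hcL : c ∈ L := Subgroup.subset_closure hcS
  have hLH : L ≤ H := by
    rw [hL, Subgroup.closure_le]
    rintro g ⟨k, hk, rfl⟩
    exact H.mul_mem (H.mul_mem (hKH hk) hc) (H.inv_mem (hKH hk))
  obtain ⟨a, ha⟩ : ∃ a, c a ≠ a := by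
    by_contra h
    push Not at h
    have : c = 1 := Equiv.ext h
    rw [this] at h3
    have := h3.card_support
    simp at this
  let p : α → Prop := fun x => ∃ l ∈ L, l a = x
  have hp_inv : ∀ l ∈ L, ∀ x, p (l x) ↔ p x := by
    intro l hl x
    constructor
    · rintro ⟨l', hl', e⟩
      refine ⟨l⁻¹ * l', L.mul_mem (L.inv_mem hl) hl', ?_⟩
      rw [Perm.mul_apply, e]; simp
    · rintro ⟨l', hl', e⟩
      exact ⟨l * l', L.mul_mem hl hl', by rw [Perm.mul_apply, e]⟩
  have hpa : p a := ⟨1, L.one_mem, rfl⟩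
  have hS_supp : ∀ s ∈ S, ∀ x, ¬ p x → s x = x := by
    rintro s ⟨k, hk, rfl⟩ x hx
    by_contra hne
    apply hx
    have h1 : c (k⁻¹ x) ≠ k⁻¹ x := by
      intro h
      apply hne
      simp only [Perm.mul_apply]
      rw [h]; simp
    obtain ⟨i, hi⟩ := h3.isCycle.exists_pow_eq ha h1
    have h2 : p (k⁻¹ x) := ⟨c ^ i, L.pow_mem hcL i, hi⟩
    have h3' := (hp_inv k (hKL hk) (k⁻¹ x)).mpr h2
    simpa using h3'
  have hL_supp : ∀ l ∈ L, ∀ x, ¬ p x → l x = x := by
    intro l hl x hx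
    induction hl using Subgroup.closure_induction with
    | mem s hs => exact hS_supp s hs x hx
    | one => rfl
    | mul u v _ _ hu hv => rw [Perm.mul_apply, hv, hu]
    | inv u _ hu =>
      rw [Perm.inv_eq_iff_eq]; exact hu.symm
  let ι : Perm (Subtype p) →* Perm α := ofSubtype
  have hι : Function.Injective ι := ofSubtype_injective
  have hrange : ∀ l (hl : l ∈ L), ι (subtypePerm l (fun x => hp_inv l hl x)) = l := by
    intro l hl
    apply ofSubtype_subtypePerm
    intro x hx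
    by_contra hpx
    exact hx (hL_supp l hl x hpx)
  set SΔ : Set (Perm (Subtype p)) := ι ⁻¹' S with hSΔ
  set GΔ := Subgroup.closure SΔ with hGΔ
  have hmap : GΔ.map ι = L := by
    rw [hGΔ, MonoidHom.map_closure, hSΔ, Set.image_preimage_eq_of_subset]
    intro s hs
    exact ⟨_, hrange s (Subgroup.subset_closure hs)⟩
  have hS3 : ∀ t ∈ SΔ, t.IsThreeCycle := by
    intro t ht
    obtain ⟨k, hk, e⟩ := ht
    have h1 : (ι t).cycleType = {3} := by
      rw [e, cycleType_conj]; exact h3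
    unfold IsThreeCycle
    rw [← h1]
    exact (cycleType_ofSubtype).symm
  have hne : SΔ.Nonempty := ⟨subtypePerm c (fun x => hp_inv c hcL x), by
    show ι _ ∈ S
    rw [hrange c hcL]; exact hcS⟩
  have : IsPretransitive GΔ (Subtype p) := by
    refine ⟨fun x y => ?_⟩
    obtain ⟨l₁, hl₁, e₁⟩ := x.2
    obtain ⟨l₂, hl₂, e₂⟩ := y.2
    have hl : l₂ * l₁⁻¹ ∈ L := L.mul_mem hl₂ (L.inv_mem hl₁)
    have hm : l₂ * l₁⁻¹ ∈ GΔ.map ι := by rw [hmap]; exact hl
    obtain ⟨t, ht, e⟩ := hm
    refine ⟨⟨t, ht⟩, ?_⟩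
    apply Subtype.ext
    show (t x : α) = y
    rw [← ofSubtype_apply_coe]
    have : ofSubtype t = l₂ * l₁⁻¹ := e
    rw [this, ← e₁, ← e₂]
    simp
  have hGA : GΔ = alternatingGroup (Subtype p) :=
    eq_alternatingGroup_of_threeCycles SΔ hS3 hne GΔ hGΔ
  set KΔ := K.comap ι with hKΔ
  have hKmap : KΔ.map ι = K := by
    apply Subgroup.map_comap_eq_self
    intro k hk
    exact ⟨_, hrange k (hKL hk)⟩
  have hKG : KΔ ≤ GΔ := by
    have h1 : KΔ ≤ (GΔ.map ι).comap ι := by
      rw [hmap]; exact Subgroup.comap_mono hKL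
    rwa [Subgroup.comap_map_eq_self_of_injective hι] at h1
  have : Nontrivial ↥K := by
    by_contra h
    rw [not_nontrivial_iff_subsingleton] at h
    apply hnc
    intro k hk
    have : (⟨k, hk⟩ : ↥K) = 1 := Subsingleton.elim _ _
    have hk1 : k = 1 := congrArg Subtype.val this
    rw [hk1]; simp
  have h60 : 60 ≤ Nat.card ↥K := sixty_le_card_of_perfect hq.1
  have hcard5 : 5 ≤ Nat.card (Subtype p) := by
    by_contra h
    push Not at h
    have h1 : Nat.card ↥K ≤ Nat.card (Perm (Subtype p)) := by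
      rw [← hKmap]
      rw [Nat.card_congr (KΔ.equivMapOfInjective ι hι).symm.toEquiv]
      exact Subgroup.card_le_card_group KΔ
    rw [Nat.card_perm] at h1
    have h2 : (Nat.card (Subtype p)).factorial ≤ Nat.factorial 4 :=
      Nat.factorial_le (by omega)
    have : Nat.factorial 4 = 24 := by decide
    omega
  have hsimp : IsSimpleGroup ↥(alternatingGroup (Subtype p)) :=
    alternatingGroup.isSimpleGroup hcard5
  have hnorm : (KΔ.subgroupOf (alternatingGroup (Subtype p))).Normal := by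
    refine ⟨fun k hk g => ?_⟩
    rw [Subgroup.mem_subgroupOf] at hk ⊢
    show ι ((g : Perm (Subtype p)) * (k : Perm (Subtype p)) * (g : Perm (Subtype p))⁻¹) ∈ K
    rw [map_mul, map_mul, map_inv]
    apply hn _ _ _ hk
    apply hLH
    apply hmap.le
    refine ⟨g, ?_, rfl⟩
    rw [hGA]; exact g.2
  have hKA : KΔ = alternatingGroup (Subtype p) := by
    apply le_antisymm (hGA ▸ hKG)
    rcases hnorm.eq_bot_or_eq_top with h | h
    · exfalso
      rw [Subgroup.subgroupOf_eq_bot] at h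
      have h1 : KΔ = ⊥ := by
        rw [eq_bot_iff]
        intro x hx
        have : x ∈ KΔ ⊓ alternatingGroup (Subtype p) := ⟨hx, hGA ▸ hKG hx⟩
        have hd := h.le_bot this
        exact hd
      rw [h1, Subgroup.map_bot] at hKmap
      have : Nat.card ↥K = 1 := by rw [← hKmap]; simp
      omega
    · rwa [Subgroup.subgroupOf_eq_top] at h
  have hKLeq : K = L := by rw [← hKmap, ← hmap, hKA, hGA]
  refine ⟨Fintype.card (Subtype p), Finset.univ.filter p, (Fintype.card_subtype p).symm,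
    ?_, ?_, ?_, ?_⟩
  · intro x hx
    rw [Finset.mem_filter] at hx
    obtain ⟨l, hl, rfl⟩ := hx.2
    refine ⟨l * c * l⁻¹, ?_, ?_⟩
    · rw [hKLeq]; exact L.mul_mem (L.mul_mem hl hcL) (L.inv_mem hl)
    · intro h
      apply ha
      apply l.injective
      simpa using h
  · intro k hk x hx
    apply hL_supp k (hKL hk) x
    intro hpx
    exact hx (Finset.mem_filter.mpr ⟨Finset.mem_univ _, hpx⟩)
  · intro x hx
    rw [Finset.mem_filter]
    refine ⟨Finset.mem_univ _, ?_⟩
    by_contra hpx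
    exact hx (hL_supp c hcL x hpx)
  · refine ⟨?_⟩
    have e1 : ↥K ≃* ↥(KΔ.map ι) := MulEquiv.subgroupCongr hKmap.symm
    have e2 : ↥(KΔ.map ι) ≃* ↥KΔ := (KΔ.equivMapOfInjective ι hι).symm
    have e3 : ↥KΔ ≃* ↥(alternatingGroup (Subtype p)) := MulEquiv.subgroupCongr hKA
    have e4 : ↥(alternatingGroup (Subtype p)) ≃* ↥(alternatingGroup (Fin (Fintype.card (Subtype p)))) :=
      Equiv.altCongrHom (Fintype.equivFin (Subtype p))
    exact ((e1.trans e2).trans e3).trans e4

end Cfsg.Agent.Helper8.Jd
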