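import Mathlib

set_option autoImplicit false

/-!
helper8: the three-cycles of a Sylow 3-subgroup of `Perm (Fin n)` move at least `n - 2` points.
-/

namespace Cfsg.Agent.Helper8.Jd

open Equiv Equiv.Perm

section abstract

variable {G : Type*} [Group G]

/-- A subgroup generated by commuting elements of order dividing `p` has exponent dividing `p`. -/
theorem pow_eq_one_of_closure_comm (S : Set G) (p : ℕ)
    (hcomm : ∀ x ∈ S, ∀ y ∈ S, x * y = y * x) (hp : ∀ x ∈ S, x ^ p = 1) :
    ∀ x ∈ Subgroup.closure S, x ^ p = 1 := by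
  have hc : IsMulCommutative (Subgroup.closure S) := Subgroup.isMulCommutative_closure hcomm
  intro x hx
  induction hx using Subgroup.closure_induction with
  | mem s hs => exact hp s hs
  | one => simp
  | mul u v hu hv hu' hv' =>
    have : Commute u v := setLike_mul_comm hu hv
    rw [this.mul_pow, hu', hv', one_mul]
  | inv u _ hu => rw [inv_pow, hu, inv_one]

theorem isPGroup_closure_comm (S : Set G) (p : ℕ)
    (hcomm : ∀ x ∈ S, ∀ y ∈ S, x * y = y * x) (hp : ∀ x ∈ S, x ^ p = 1) :
    IsPGroup p ↥(Subgroup.closure S) := by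
  intro x
  refine ⟨1, ?_⟩
  apply Subtype.ext
  rw [pow_one, Subgroup.coe_pow, Subgroup.coe_one]
  exact pow_eq_one_of_closure_comm S p hcomm hp x x.2

end abstract

variable {n : ℕ}

/-- the three-cycle `(3j, 3j+1, 3j+2)` -/
def cyc (j : ℕ) (hj : 3 * j + 2 < n) : Perm (Fin n) :=
  swap (⟨3 * j, by omega⟩ : Fin n) ⟨3 * j + 1, by omega⟩ *
    swap (⟨3 * j, by omega⟩ : Fin n) ⟨3 * j + 2, hj⟩

theorem cyc_isThreeCycle (j : ℕ) (hj : 3 * j + 2 < n) : (cyc j hj).IsThreeCycle := by
  unfold cyc
  apply isThreeCycle_swap_mul_swap_same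
  · intro h; have := congrArg Fin.val h; simp at this
  · intro h; have := congrArg Fin.val h; simp at this
  · intro h; have := congrArg Fin.val h; simp at this

theorem cyc_apply_of_ne (j : ℕ) (hj : 3 * j + 2 < n) (x : Fin n) (hx : x.val / 3 ≠ j) :
    cyc j hj x = x := by
  unfold cyc
  have h1 : swap (⟨3 * j, by omega⟩ : Fin n) ⟨3 * j + 2, hj⟩ x = x := by
    apply swap_apply_of_ne_of_ne
    · intro h; have := congrArg Fin.val h; simp only at this; omega
    · intro h; have := congrArg Fin.val h; simp only at this; omega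
  have h2 : swap (⟨3 * j, by omega⟩ : Fin n) ⟨3 * j + 1, by omega⟩ x = x := by
    apply swap_apply_of_ne_of_ne
    · intro h; have := congrArg Fin.val h; simp only at this; omega
    · intro h; have := congrArg Fin.val h; simp only at this; omega
  rw [Perm.mul_apply, h1, h2]

theorem cyc_apply_ne (j : ℕ) (hj : 3 * j + 2 < n) (x : Fin n) (hx : x.val / 3 = j) :
    cyc j hj x ≠ x := by
  have h3 := cyc_isThreeCycle j hj
  unfold cyc at h3 ⊢
  have hcase : x = ⟨3 * j, by omega⟩ ∨ x = ⟨3 * j + 1, by omega⟩ ∨ x = ⟨3 * j + 2, hj⟩ := by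
    have : x.val = 3 * j ∨ x.val = 3 * j + 1 ∨ x.val = 3 * j + 2 := by omega
    rcases this with h | h | h
    · left; exact Fin.ext h
    · right; left; exact Fin.ext h
    · right; right; exact Fin.ext h
  have hab : (⟨3 * j, by omega⟩ : Fin n) ≠ ⟨3 * j + 1, by omega⟩ := by
    intro h; have := congrArg Fin.val h; simp at this
  have had : (⟨3 * j, by omega⟩ : Fin n) ≠ ⟨3 * j + 2, hj⟩ := by
    intro h; have := congrArg Fin.val h; simp at this
  have hbd : (⟨3 * j + 1, by omega⟩ : Fin n) ≠ ⟨3 * j + 2, hj⟩ := by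
    intro h; have := congrArg Fin.val h; simp at this
  rcases hcase with h | h | h
  · rw [h, Perm.mul_apply, swap_apply_left, swap_apply_of_ne_of_ne had.symm hbd.symm]
    exact had.symm
  · rw [h, Perm.mul_apply, swap_apply_of_ne_of_ne hab.symm hbd, swap_apply_right]
    exact hab
  · rw [h, Perm.mul_apply, swap_apply_right, swap_apply_left]
    exact hbd

theorem cyc_comm (j j' : ℕ) (hj : 3 * j + 2 < n) (hj' : 3 * j' + 2 < n) :
    cyc j hj * cyc j' hj' = cyc j' hj' * cyc j hj := by
  by_cases h : j = j'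
  · subst h; rfl
  · have hd : Perm.Disjoint (cyc j hj) (cyc j' hj') := by
      intro x
      by_cases hx : x.val / 3 = j
      · right; exact cyc_apply_of_ne j' hj' x (by omega)
      · left; exact cyc_apply_of_ne j hj x hx
    exact hd.commute.eq

/-- the group generated by the `cyc j` -/
def cycGroup (n : ℕ) : Subgroup (Perm (Fin n)) :=
  Subgroup.closure {c | ∃ (j : ℕ) (hj : 3 * j + 2 < n), c = cyc j hj}

theorem isPGroup_cycGroup (n : ℕ) : IsPGroup 3 ↥(cycGroup n) := by
  apply isPGroup_closure_comm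
  · rintro x ⟨j, hj, rfl⟩ y ⟨j', hj', rfl⟩
    exact cyc_comm j j' hj hj'
  · rintro x ⟨j, hj, rfl⟩
    have := (cyc_isThreeCycle j hj).orderOf
    rw [← this]
    exact pow_orderOf_eq_one _

theorem exists_moved_of_sylow (P : Sylow 3 (Perm (Fin n))) :
    ∃ T : Finset (Fin n), n - 2 ≤ T.card ∧
      ∀ x ∈ T, ∃ c ∈ (P : Subgroup (Perm (Fin n))), c.IsThreeCycle ∧ c x ≠ x := by
  obtain ⟨P₀, hP₀⟩ := (isPGroup_cycGroup n).exists_le_sylow
  obtain ⟨g, hg⟩ := MulAction.exists_smul_eq (Perm (Fin n)) P₀ P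
  have hle : 3 * (n / 3) ≤ n := Nat.mul_div_le n 3
  refine ⟨(Finset.univ.map (Fin.castLEEmb hle)).map g.toEmbedding, ?_, ?_⟩
  · rw [Finset.card_map, Finset.card_map, Finset.card_univ, Fintype.card_fin]
    omega
  · intro y hy
    rw [Finset.mem_map] at hy
    obtain ⟨x, hx, rfl⟩ := hy
    rw [Finset.mem_map] at hx
    obtain ⟨i, _, rfl⟩ := hx
    have hi : (Fin.castLEEmb hle i).val = i.val := rfl
    have hj : 3 * (i.val / 3) + 2 < n := by
      have := i.2
      omega
    refine ⟨g * cyc (i.val / 3) hj * g⁻¹, ?_, ?_, ?_⟩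
    · rw [← hg]
      have h1 : cyc (i.val / 3) hj ∈ (P₀ : Subgroup (Perm (Fin n))) :=
        hP₀ (Subgroup.subset_closure ⟨_, hj, rfl⟩)
      rw [Sylow.coe_subgroup_smul]
      exact ⟨_, h1, rfl⟩
    · unfold IsThreeCycle
      rw [cycleType_conj]
      exact cyc_isThreeCycle _ hj
    · intro h
      apply cyc_apply_ne (i.val / 3) hj (Fin.castLEEmb hle i) (by rw [hi])
      apply g.injective
      simpa using h

end Cfsg.Agent.Helper8.Jd
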