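import Mathlib
set_option autoImplicit false

namespace Cfsg.Agent.Helper8.Jordan

open Polynomial DirectSum Module

variable {F : Type*} [Field F]

theorem dim_eq (k : ℕ) : (AdjoinRoot.powerBasis' (monic_X_pow (R := F) k)).dim = k := by
  rw [AdjoinRoot.powerBasis'_dim, natDegree_X_pow]

/-- power basis of `AdjoinRoot (X^k)` indexed by `Fin k` -/
noncomputable def qb0 (k : ℕ) : Basis (Fin k) F (AdjoinRoot (X ^ k : F[X])) :=
  ((AdjoinRoot.powerBasis' (monic_X_pow (R := F) k)).basis).reindex (finCongr (dim_eq k))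

theorem qb0_apply (k : ℕ) (l : Fin k) :
    qb0 (F := F) k l = AdjoinRoot.mk (X ^ k : F[X]) (X ^ (l : ℕ)) := by
  unfold qb0
  rw [Basis.reindex_apply, PowerBasis.basis_eq_pow, AdjoinRoot.powerBasis'_gen]
  simp only [finCongr_symm, finCongr_apply, Fin.val_cast]
  rw [map_pow, AdjoinRoot.mk_X]

/-- power basis of `F[X]/(X^k)` indexed by `Fin k` -/
noncomputable def qb (k : ℕ) : Basis (Fin k) F (F[X] ⧸ (F[X] ∙ (X ^ k : F[X]))) := qb0 k

theorem qb_apply (k : ℕ) (l : Fin k) :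
    qb (F := F) k l = Submodule.Quotient.mk (X ^ (l : ℕ) : F[X]) := qb0_apply k l

theorem X_smul_qb (k : ℕ) (l : Fin k) :
    (X : F[X]) • qb (F := F) k l =
      if h : (l : ℕ) + 1 < k then qb k ⟨l + 1, h⟩ else 0 := by
  rw [qb_apply]
  split_ifs with h
  · rw [qb_apply, ← Submodule.Quotient.mk_smul, smul_eq_mul, ← pow_succ']
  · rw [← Submodule.Quotient.mk_smul, smul_eq_mul, ← pow_succ', Submodule.Quotient.mk_eq_zero]
    have : (l : ℕ) + 1 = k := by omega
    rw [this]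
    exact Submodule.mem_span_singleton_self _

theorem dfinsupp_basis_apply {ι : Type*} {R : Type*} {M : ι → Type*} [DecidableEq ι]
    [Semiring R] [∀ i, AddCommMonoid (M i)] [∀ i, Module R (M i)]
    {η : ι → Type*} (b : ∀ i, Basis (η i) R (M i)) (i : ι) (l : η i) :
    DFinsupp.basis b ⟨i, l⟩ = DFinsupp.single i (b i l) := by
  classical
  apply (DFinsupp.basis b).repr.injective
  rw [Basis.repr_self]
  simp only [DFinsupp.basis, LinearEquiv.trans_apply]
  rw [eq_comm, LinearEquiv.symm_apply_eq]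
  ext j m
  simp only [DFinsupp.mapRange.linearEquiv_apply, DFinsupp.mapRange_single, Basis.repr_self,
    sigmaFinsuppLequivDFinsupp_apply]
  by_cases hij : i = j
  · subst hij
    simp [Finsupp.single_apply, DFinsupp.single_apply]
  · simp [DFinsupp.single_apply, hij]

variable {V : Type*} [AddCommGroup V] [Module F V] [FiniteDimensional F V]

theorem exists_jordan_basis (φ : Module.End F V) (hφ : IsNilpotent φ) :
    ∃ (d : ℕ) (k : Fin d → ℕ) (b : Basis (Σ i : Fin d, Fin (k i)) F V),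
      ∀ (i : Fin d) (l : Fin (k i)),
        φ (b ⟨i, l⟩) = if h : (l : ℕ) + 1 < k i then b ⟨i, ⟨l + 1, h⟩⟩ else 0 := by
  classical
  obtain ⟨j, hj⟩ := hφ
  have hM : Module.IsTorsion' (AEval' φ) (Submonoid.powers (X : F[X])) := by
    intro m
    refine ⟨⟨X ^ j, j, rfl⟩, ?_⟩
    obtain ⟨v, rfl⟩ := (AEval'.of φ).surjective m
    change (X ^ j : F[X]) • (AEval'.of φ) v = 0
    rw [← AEval.of_aeval_smul, map_pow, aeval_X, hj]
    simp
  obtain ⟨d, k, ⟨Ψ⟩⟩ := Module.torsion_by_prime_power_decomposition (irreducible_X (R := F)) hM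
  let B₀ : Basis (Σ i : Fin d, Fin (k i)) F (⨁ i : Fin d, F[X] ⧸ (F[X] ∙ (X ^ (k i) : F[X]))) :=
    DFinsupp.basis (fun i => qb (k i))
  let b : Basis (Σ i : Fin d, Fin (k i)) F V :=
    (B₀.map (Ψ.symm.restrictScalars F)).map (AEval'.of φ).symm
  refine ⟨d, k, b, ?_⟩
  intro i l
  have hb : ∀ x, b x = (AEval'.of φ).symm (Ψ.symm (B₀ x)) := fun x => rfl
  have hB₀ : ∀ (i : Fin d) (l : Fin (k i)), B₀ ⟨i, l⟩ =
      DirectSum.of (fun i : Fin d => F[X] ⧸ (F[X] ∙ (X ^ (k i) : F[X]))) i (qb (k i) l) := by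
    intro i l
    exact dfinsupp_basis_apply _ _ _
  have h1 : φ (b ⟨i, l⟩) = (AEval'.of φ).symm ((X : F[X]) • (AEval'.of φ) (b ⟨i, l⟩)) := by
    rw [AEval'.X_smul_of, LinearEquiv.symm_apply_apply]
  rw [h1, hb, LinearEquiv.apply_symm_apply, ← map_smul, hB₀, ← DirectSum.of_smul, X_smul_qb]
  split_ifs with h
  · rw [hb, hB₀]
  · rw [map_zero, map_zero, map_zero]

end Cfsg.Agent.Helper8.Jordan
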