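import Mathlib
set_option autoImplicit false
namespace Cfsg.Agent.Helper8.NilCount

/-- ratio `|GL_n| / |GL_k|` -/
def R (q n k : ℕ) : ℕ := ∏ j ∈ Finset.Ico k n, q ^ j * (q ^ (j + 1) - 1)

theorem R_self (q n : ℕ) : R q n n = 1 := by
  unfold R
  simp

theorem R_succ (q n k : ℕ) (hk : k ≤ n) : R q (n + 1) k = R q n k * (q ^ n * (q ^ (n + 1) - 1)) := by
  unfold R
  rw [Finset.prod_Ico_succ_top hk]

theorem R_zero_mul (q n k : ℕ) (hk : k ≤ n) : R q n 0 = R q n k * R q k 0 := by
  unfold R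
  rw [mul_comm]
  exact (Finset.prod_Ico_consecutive _ (Nat.zero_le k) hk).symm

theorem sum_R (q n : ℕ) (hq : 1 ≤ q) :
    ∑ k ∈ Finset.range (n + 1), R q n k * q ^ (k * (k - 1)) = q ^ (n * n) := by
  induction n with
  | zero => simp [R]
  | succ n ih =>
    rw [Finset.sum_range_succ, R_self, one_mul]
    have h1 : ∑ k ∈ Finset.range (n + 1), R q (n + 1) k * q ^ (k * (k - 1)) =
        (q ^ n * (q ^ (n + 1) - 1)) * ∑ k ∈ Finset.range (n + 1), R q n k * q ^ (k * (k - 1)) := by
      rw [Finset.mul_sum]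
      apply Finset.sum_congr rfl
      intro k hk
      rw [Finset.mem_range] at hk
      rw [R_succ q n k (by omega)]
      ring
    rw [h1, ih]
    have h2 : 1 ≤ q ^ (n + 1) := Nat.one_le_pow _ _ hq
    obtain ⟨t, ht⟩ := Nat.exists_eq_add_of_le h2
    have h3 : q ^ (n + 1) - 1 = t := by omega
    rw [h3]
    have h4 : (n + 1) * (n + 1 - 1) = n * n + n := by
      rw [Nat.add_sub_cancel]; ring
    have h5 : (n + 1) * (n + 1) = n * n + n + (n + 1) := by ring
    rw [h4, h5, pow_add (q) (n * n + n) (n + 1), ht, pow_add]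
    ring

variable {F : Type*} [Field F] [Fintype F]

theorem card_GL_succ (n : ℕ) :
    Nat.card (GL (Fin (n + 1)) F) =
      Nat.card (GL (Fin n) F) * (Fintype.card F ^ n * (Fintype.card F ^ (n + 1) - 1)) := by
  rw [Matrix.card_GL_field, Matrix.card_GL_field,
    Fin.prod_univ_eq_prod_range (fun i => Fintype.card F ^ (n + 1) - Fintype.card F ^ i) (n + 1),
    Fin.prod_univ_eq_prod_range (fun i => Fintype.card F ^ n - Fintype.card F ^ i) n,
    Finset.prod_range_succ', pow_zero]
  have h1 : ∀ i ∈ Finset.range n, Fintype.card F ^ (n + 1) - Fintype.card F ^ (i + 1) =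
      Fintype.card F * (Fintype.card F ^ n - Fintype.card F ^ i) := by
    intro i _
    rw [Nat.mul_sub, pow_succ', pow_succ']
  rw [Finset.prod_congr rfl h1, Finset.prod_mul_distrib, Finset.prod_const, Finset.card_range]
  ring

theorem card_GL_eq_R (n : ℕ) : Nat.card (GL (Fin n) F) = R (Fintype.card F) n 0 := by
  induction n with
  | zero =>
    rw [R_self]
    rw [Matrix.card_GL_field]
    simp
  | succ n ih =>
    rw [card_GL_succ, ih, R_succ _ _ _ (Nat.zero_le n)]

theorem card_GL_eq_R_mul (n k : ℕ) (hk : k ≤ n) :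
    Nat.card (GL (Fin n) F) = R (Fintype.card F) n k * Nat.card (GL (Fin k) F) := by
  rw [card_GL_eq_R, card_GL_eq_R, R_zero_mul _ n k hk]

end Cfsg.Agent.Helper8.NilCount
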