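import Cfsg.Agent.Helper8.NilCountFitting
import Cfsg.Agent.Helper8.NilCountArith
set_option autoImplicit false
namespace Cfsg.Agent.Helper8.NilCount
open Matrix Polynomial

variable {F : Type*} [Field F] [Fintype F]

/-- matrices of a given Fitting type -/
abbrev T (F : Type*) [Field F] (ι : Type*) [Fintype ι] [DecidableEq ι] (k : ℕ) : Type _ :=
  {M : Matrix ι ι F // M.charpoly.natTrailingDegree = k}

/-- number of nilpotent matrices -/
noncomputable def a (F : Type*) [Field F] (k : ℕ) : ℕ :=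
  Nat.card {N : Matrix (Fin k) (Fin k) F // IsNilpotent N}

theorem card_T_congr {ι ι' : Type*} [Fintype ι] [DecidableEq ι] [Fintype ι'] [DecidableEq ι']
    (e : ι ≃ ι') (k : ℕ) : Nat.card (T F ι k) = Nat.card (T F ι' k) := by
  apply Nat.card_congr
  refine Equiv.subtypeEquiv (Matrix.reindex e e) ?_
  intro M
  rw [Matrix.charpoly_reindex]

theorem card_GL_congr {ι ι' : Type*} [Fintype ι] [DecidableEq ι] [Fintype ι'] [DecidableEq ι']
    (e : ι ≃ ι') : Nat.card (GL ι F) = Nat.card (GL ι' F) := by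
  apply Nat.card_congr
  exact (Units.mapEquiv ((Matrix.reindexAlgEquiv F F e).toMulEquiv)).toEquiv

theorem card_T_mul (k m : ℕ) :
    Nat.card (T F (Fin (k + m)) k) * Nat.card (GL (Fin k) F) =
      Nat.card (GL (Fin (k + m)) F) * a F k := by
  have h1 := card_param (F := F) (κ := Fin k) (μ := Fin m)
  rw [range_conjMat, Nat.card_prod, Nat.card_prod] at h1
  simp only [Fintype.card_fin] at h1
  have h2 : Nat.card {M : Matrix (Fin k ⊕ Fin m) (Fin k ⊕ Fin m) F |
      M.charpoly.natTrailingDegree = k} = Nat.card (T F (Fin (k + m)) k) :=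
    card_T_congr (F := F) finSumFinEquiv k
  have h3 : Nat.card (GL (Fin k ⊕ Fin m) F) = Nat.card (GL (Fin (k + m)) F) :=
    card_GL_congr finSumFinEquiv
  rw [h2, h3] at h1
  have hpos : 0 < Nat.card (GL (Fin m) F) := Nat.card_pos
  apply Nat.eq_of_mul_eq_mul_right hpos
  have h4 : Nat.card {N : Matrix (Fin k) (Fin k) F // IsNilpotent N} = a F k := rfl
  rw [h4] at h1
  rw [mul_assoc, ← h1]
  ring

theorem card_T_eq (n k : ℕ) (hk : k ≤ n) :
    Nat.card (T F (Fin n) k) = R (Fintype.card F) n k * a F k := by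
  obtain ⟨m, rfl⟩ := Nat.exists_eq_add_of_le hk
  have h1 := card_T_mul (F := F) k m
  rw [card_GL_eq_R_mul (k + m) k hk] at h1
  have hpos : 0 < Nat.card (GL (Fin k) F) := Nat.card_pos
  apply Nat.eq_of_mul_eq_mul_right hpos
  rw [h1]
  ring

theorem sum_card_T (n : ℕ) :
    ∑ k ∈ Finset.range (n + 1), Nat.card (T F (Fin n) k) = Fintype.card F ^ (n * n) := by
  classical
  have h1 : Fintype.card (Matrix (Fin n) (Fin n) F) = Fintype.card F ^ (n * n) := by
    change Fintype.card (Fin n → Fin n → F) = _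
    rw [Fintype.card_fun, Fintype.card_fun, Fintype.card_fin, ← pow_mul]
  rw [← h1, ← Finset.card_univ]
  rw [Finset.card_eq_sum_card_fiberwise (f := fun M : Matrix (Fin n) (Fin n) F =>
    M.charpoly.natTrailingDegree) (t := Finset.range (n + 1))]
  · apply Finset.sum_congr rfl
    intro k _
    rw [Nat.card_eq_fintype_card, Fintype.card_subtype]
  · intro M _
    rw [Finset.mem_coe, Finset.mem_range]
    change M.charpoly.natTrailingDegree < n + 1
    have h2 := Polynomial.natTrailingDegree_le_natDegree (p := M.charpoly)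
    have h3 := Matrix.charpoly_natDegree_eq_dim M
    rw [Fintype.card_fin] at h3
    omega

theorem a_eq (n : ℕ) : a F n = Fintype.card F ^ (n * (n - 1)) := by
  induction n using Nat.strong_induction_on with
  | _ n ih =>
    have hq : 1 ≤ Fintype.card F := Fintype.card_pos
    have h1 := sum_card_T (F := F) n
    have h2 := sum_R (Fintype.card F) n hq
    rw [Finset.sum_range_succ] at h1 h2
    rw [card_T_eq n n le_rfl, R_self, one_mul] at h1
    rw [R_self, one_mul] at h2
    have h3 : ∑ k ∈ Finset.range n, Nat.card (T F (Fin n) k) =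
        ∑ k ∈ Finset.range n, R (Fintype.card F) n k * Fintype.card F ^ (k * (k - 1)) := by
      apply Finset.sum_congr rfl
      intro k hk
      rw [Finset.mem_range] at hk
      rw [card_T_eq n k hk.le, ih k hk]
    rw [h3] at h1
    omega

theorem sub_one_pow_char (p : ℕ) [Fact p.Prime] [CharP F p] (n : ℕ)
    (A : Matrix (Fin n) (Fin n) F) (j : ℕ) : (A - 1) ^ (p ^ j) = A ^ (p ^ j) - 1 := by
  rcases Nat.eq_zero_or_pos n with rfl | hn
  · exact Subsingleton.elim _ _
  · haveI : Nonempty (Fin n) := ⟨⟨0, hn⟩⟩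
    rw [sub_pow_char_pow_of_commute p j (Commute.one_right A), one_pow]

theorem card_unipotent (p : ℕ) [Fact p.Prime] [CharP F p] (n : ℕ) :
    Nat.card {g : GL (Fin n) F // ∃ k : ℕ, orderOf g = p ^ k} =
      Fintype.card F ^ (n * (n - 1)) := by
  rw [← a_eq]
  unfold a
  have hp : p.Prime := Fact.out
  apply Nat.card_congr
  refine Equiv.ofBijective
    (fun g => (⟨(g.1 : Matrix (Fin n) (Fin n) F) - 1, ?_⟩ :
      {N : Matrix (Fin n) (Fin n) F // IsNilpotent N})) ⟨?_, ?_⟩
  · obtain ⟨k, hk⟩ := g.2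
    refine ⟨p ^ k, ?_⟩
    rw [sub_one_pow_char, ← Units.val_pow_eq_pow_val, ← hk, pow_orderOf_eq_one, Units.val_one,
      sub_self]
  · intro g g' h
    have h1 : (g.1 : Matrix (Fin n) (Fin n) F) - 1 = (g'.1 : Matrix (Fin n) (Fin n) F) - 1 :=
      congrArg Subtype.val h
    exact Subtype.ext (Units.ext (sub_left_injective h1))
  · rintro ⟨N, j, hj⟩
    have h1 : N ^ (p ^ j) = 0 := pow_eq_zero_of_le (Nat.lt_pow_self hp.one_lt).le hj
    have h2 : (N + 1) ^ (p ^ j) = 1 := by
      have := sub_one_pow_char p n (N + 1) j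
      rw [add_sub_cancel_right, h1] at this
      exact (sub_eq_zero.mp this.symm)
    have hpj : p ^ j ≠ 0 := pow_ne_zero _ hp.ne_zero
    let g : GL (Fin n) F := ⟨N + 1, (N + 1) ^ (p ^ j - 1),
      by rw [mul_pow_sub_one hpj, h2], by rw [pow_sub_one_mul hpj, h2]⟩
    have hg : g ^ (p ^ j) = 1 := by
      apply Units.ext
      rw [Units.val_pow_eq_pow_val]
      exact h2
    have hg2 : ∃ k : ℕ, orderOf g = p ^ k := by
      obtain ⟨i, _, hi⟩ := (Nat.dvd_prime_pow hp).mp (orderOf_dvd_of_pow_eq_one hg)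
      exact ⟨i, hi⟩
    refine ⟨⟨g, hg2⟩, ?_⟩
    apply Subtype.ext
    change (N + 1) - 1 = N
    rw [add_sub_cancel_right]

end Cfsg.Agent.Helper8.NilCount
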