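import Cfsg.Agent.Helper8.JordanMatrix
import Cfsg.Agent.Helper8.NilCountMain
set_option autoImplicit false

namespace Cfsg.Agent.Helper8.Jordan

open Matrix Module

variable {F : Type*} [Field F] [Fintype F] {n : ℕ}

theorem unip_iff (p : ℕ) [Fact p.Prime] [CharP F p] (g : GL (Fin n) F) :
    (∃ k : ℕ, orderOf g = p ^ k) ↔ IsNilpotent ((g : Matrix (Fin n) (Fin n) F) - 1) := by
  have hp : p.Prime := Fact.out
  constructor
  · rintro ⟨k, hk⟩
    refine ⟨p ^ k, ?_⟩
    rw [NilCount.sub_one_pow_char, ← Units.val_pow_eq_pow_val, ← hk, pow_orderOf_eq_one,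
      Units.val_one, sub_self]
  · rintro ⟨j, hj⟩
    have h1 : ((g : Matrix (Fin n) (Fin n) F) - 1) ^ (p ^ j) = 0 :=
      pow_eq_zero_of_le (Nat.lt_pow_self hp.one_lt).le hj
    rw [NilCount.sub_one_pow_char, sub_eq_zero, ← Units.val_pow_eq_pow_val] at h1
    have h2 : g ^ (p ^ j) = 1 := Units.ext h1
    obtain ⟨i, _, hi⟩ := (Nat.dvd_prime_pow hp).mp (orderOf_dvd_of_pow_eq_one h2)
    exact ⟨i, hi⟩

/-- the Jordan type of `g - 1` (junk value `0` if `g` is not unipotent) -/
noncomputable def typeOf (g : GL (Fin n) F) : Multiset ℕ := by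
  classical
  exact if h : IsNilpotent ((g : Matrix (Fin n) (Fin n) F) - 1) then
    Classical.choose (exists_hasType _ h) else 0

theorem typeOf_spec (g : GL (Fin n) F) (h : IsNilpotent ((g : Matrix (Fin n) (Fin n) F) - 1)) :
    HasType ((g : Matrix (Fin n) (Fin n) F) - 1) (typeOf g) := by
  unfold typeOf
  rw [dif_pos h]
  exact Classical.choose_spec (exists_hasType _ h)

theorem conj_sub_one (x g : GL (Fin n) F) :
    (x : Matrix (Fin n) (Fin n) F) * ((g : Matrix (Fin n) (Fin n) F) - 1) *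
      ((x⁻¹ : GL (Fin n) F) : Matrix (Fin n) (Fin n) F) =
      ((x * g * x⁻¹ : GL (Fin n) F) : Matrix (Fin n) (Fin n) F) - 1 := by
  rw [Matrix.mul_sub, Matrix.sub_mul, Matrix.mul_one, Units.mul_inv]
  rfl

theorem typeOf_eq_of_hasType (g : GL (Fin n) F) (ν : Multiset ℕ)
    (h : HasType ((g : Matrix (Fin n) (Fin n) F) - 1) ν) : typeOf g = ν := by
  have h1 := typeOf_spec g h.isNilpotent
  apply h1.unique h 1
  simp

theorem typeOf_conj (x g : GL (Fin n) F)
    (h : IsNilpotent ((g : Matrix (Fin n) (Fin n) F) - 1)) :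
    typeOf (x * g * x⁻¹) = typeOf g := by
  have h1 := typeOf_spec g h
  have h2 : IsNilpotent (((x * g * x⁻¹ : GL (Fin n) F) : Matrix (Fin n) (Fin n) F) - 1) := by
    rw [← conj_sub_one]
    obtain ⟨j, hj⟩ := h
    refine ⟨j, ?_⟩
    have := Units.conj_pow x ((g : Matrix (Fin n) (Fin n) F) - 1) j
    rw [this, hj, Matrix.mul_zero, Matrix.zero_mul]
  have h3 := typeOf_spec _ h2
  exact (h1.unique h3 x (conj_sub_one x g)).symm

theorem isConj_of_typeOf_eq (g g' : GL (Fin n) F)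
    (h : IsNilpotent ((g : Matrix (Fin n) (Fin n) F) - 1))
    (h' : IsNilpotent ((g' : Matrix (Fin n) (Fin n) F) - 1)) (ht : typeOf g = typeOf g') :
    IsConj g g' := by
  have h1 := typeOf_spec g h
  have h2 := typeOf_spec g' h'
  rw [← ht] at h2
  obtain ⟨x, hx⟩ := h1.conj h2
  rw [isConj_iff]
  refine ⟨x, ?_⟩
  apply Units.ext
  rw [conj_sub_one] at hx
  exact sub_left_injective hx

/-- the partition attached to a unipotent element -/
noncomputable def partOf (g : GL (Fin n) F)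
    (h : IsNilpotent ((g : Matrix (Fin n) (Fin n) F) - 1)) : Nat.Partition n :=
  ⟨typeOf g, fun {_} hi => (typeOf_spec g h).pos _ hi, (typeOf_spec g h).sum_eq⟩

theorem card_unipotent_classes (p : ℕ) [Fact p.Prime] [CharP F p] (n : ℕ) :
    Nat.card {C : ConjClasses (GL (Fin n) F) //
      ∃ g : GL (Fin n) F, (∃ k : ℕ, orderOf g = p ^ k) ∧ ConjClasses.mk g = C} =
      Fintype.card (Nat.Partition n) := by
  classical
  rw [← Nat.card_eq_fintype_card]
  apply Nat.card_congr
  let rep : {C : ConjClasses (GL (Fin n) F) //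
      ∃ g : GL (Fin n) F, (∃ k : ℕ, orderOf g = p ^ k) ∧ ConjClasses.mk g = C} → GL (Fin n) F :=
    fun C => Classical.choose C.2
  have hrep1 : ∀ C, IsNilpotent (((rep C : GL (Fin n) F) : Matrix (Fin n) (Fin n) F) - 1) :=
    fun C => (unip_iff p _).mp (Classical.choose_spec C.2).1
  have hrep2 : ∀ C, ConjClasses.mk (rep C) = C.1 := fun C => (Classical.choose_spec C.2).2
  refine Equiv.ofBijective (fun C => partOf (rep C) (hrep1 C)) ⟨?_, ?_⟩
  · intro C C' h
    have h1 : typeOf (rep C) = typeOf (rep C') := congrArg Nat.Partition.parts h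
    have h2 := isConj_of_typeOf_eq _ _ (hrep1 C) (hrep1 C') h1
    apply Subtype.ext
    rw [← hrep2 C, ← hrep2 C']
    exact ConjClasses.mk_eq_mk_iff_isConj.mpr h2
  · intro ν
    obtain ⟨N, hN⟩ := exists_of_partition (F := F) ν
    have hnil := hN.isNilpotent
    obtain ⟨j, hj⟩ := hnil
    have hp : p.Prime := Fact.out
    have h1 : N ^ (p ^ j) = 0 := pow_eq_zero_of_le (Nat.lt_pow_self hp.one_lt).le hj
    have h2 : (N + 1) ^ (p ^ j) = 1 := by
      have := NilCount.sub_one_pow_char p n (N + 1) j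
      rw [add_sub_cancel_right, h1] at this
      exact (sub_eq_zero.mp this.symm)
    have hpj : p ^ j ≠ 0 := pow_ne_zero _ hp.ne_zero
    let g₀ : GL (Fin n) F := ⟨N + 1, (N + 1) ^ (p ^ j - 1),
      by rw [mul_pow_sub_one hpj, h2], by rw [pow_sub_one_mul hpj, h2]⟩
    have hg₀ : ((g₀ : GL (Fin n) F) : Matrix (Fin n) (Fin n) F) - 1 = N := add_sub_cancel_right N 1
    have hg₀n : IsNilpotent (((g₀ : GL (Fin n) F) : Matrix (Fin n) (Fin n) F) - 1) := by
      rw [hg₀]; exact ⟨j, hj⟩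
    let C : {C : ConjClasses (GL (Fin n) F) //
      ∃ g : GL (Fin n) F, (∃ k : ℕ, orderOf g = p ^ k) ∧ ConjClasses.mk g = C} :=
      ⟨ConjClasses.mk g₀, g₀, (unip_iff p g₀).mpr hg₀n, rfl⟩
    refine ⟨C, ?_⟩
    have h3 : IsConj g₀ (rep C) := ConjClasses.mk_eq_mk_iff_isConj.mp (hrep2 C).symm
    rw [isConj_iff] at h3
    obtain ⟨x, hx⟩ := h3
    have h4 : typeOf (rep C) = typeOf g₀ := by
      rw [← hx]
      exact typeOf_conj x g₀ hg₀n
    have h5 : typeOf g₀ = ν.parts := by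
      apply typeOf_eq_of_hasType
      rw [hg₀]
      exact hN
    apply Nat.Partition.ext
    change typeOf (rep C) = ν.parts
    rw [h4, h5]

end Cfsg.Agent.Helper8.Jordan
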