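import Mathlib
set_option autoImplicit false

namespace Cfsg.Agent.Helper8.Jordan

/-- regroup the index type of a block decomposition by block size -/
def regroup {ι : Type*} (k : ι → ℕ) :
    (Σ i : ι, Fin (k i)) ≃ Σ v : ℕ, {i : ι // k i = v} × Fin v where
  toFun x := ⟨k x.1, ⟨x.1, rfl⟩, x.2⟩
  invFun y := ⟨y.2.1.1, Fin.cast y.2.1.2.symm y.2.2⟩
  left_inv := by
    rintro ⟨i, l⟩
    rfl
  right_inv := by
    rintro ⟨v, ⟨i, h⟩, l⟩
    subst h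
    rfl

theorem exists_matching {ι ι' : Type*} (k : ι → ℕ) (k' : ι' → ℕ)
    (ε : ∀ v : ℕ, 0 < v → ({i : ι // k i = v} ≃ {i : ι' // k' i = v})) :
    ∃ E : (Σ i : ι, Fin (k i)) ≃ (Σ i : ι', Fin (k' i)),
      (∀ x, k' (E x).1 = k x.1) ∧ (∀ x, ((E x).2 : ℕ) = (x.2 : ℕ)) ∧
        (∀ (i : ι) (l l' : Fin (k i)), (E ⟨i, l⟩).1 = (E ⟨i, l'⟩).1) := by
  classical
  let mid : ∀ v : ℕ, ({i : ι // k i = v} × Fin v) ≃ ({i : ι' // k' i = v} × Fin v) := fun v =>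
    if hv : 0 < v then Equiv.prodCongr (ε v hv) (Equiv.refl _)
    else
      haveI : IsEmpty (Fin v) := by
        have : v = 0 := by omega
        subst this
        infer_instance
      Equiv.equivOfIsEmpty _ _
  let E := (regroup k).trans ((Equiv.sigmaCongrRight mid).trans (regroup k').symm)
  have hE : ∀ (i : ι) (l : Fin (k i)), E ⟨i, l⟩ =
      ⟨((ε (k i) (Nat.lt_of_le_of_lt (Nat.zero_le _) l.2)) ⟨i, rfl⟩).1,
        Fin.cast ((ε (k i) (Nat.lt_of_le_of_lt (Nat.zero_le _) l.2)) ⟨i, rfl⟩).2.symm l⟩ := by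
    intro i l
    have hv : 0 < k i := Nat.lt_of_le_of_lt (Nat.zero_le _) l.2
    change (regroup k').symm ⟨k i, mid (k i) (⟨i, rfl⟩, l)⟩ = _
    have : mid (k i) = Equiv.prodCongr (ε (k i) hv) (Equiv.refl _) := dif_pos hv
    rw [this]
    rfl
  refine ⟨E, ?_, ?_, ?_⟩
  · rintro ⟨i, l⟩
    rw [hE]
    exact ((ε (k i) _) ⟨i, rfl⟩).2
  · rintro ⟨i, l⟩
    rw [hE]
    rfl
  · intro i l l'
    rw [hE, hE]

end Cfsg.Agent.Helper8.Jordan
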