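import Mathlib
set_option autoImplicit false

namespace Cfsg.Agent.Helper8.Jordan

/-- the multiset of nonzero block sizes -/
def jtype {ι : Type*} [Fintype ι] (k : ι → ℕ) : Multiset ℕ :=
  (Finset.univ.val.map k).filter (fun a => 0 < a)

theorem count_jtype {ι : Type*} [Fintype ι] [DecidableEq ι] (k : ι → ℕ) (a : ℕ) (ha : 0 < a) :
    (jtype k).count a = (Finset.univ.filter (fun i => k i = a)).card := by
  unfold jtype
  rw [Multiset.count_filter_of_pos ha, Multiset.count_map]
  congr 1
  simp only [Finset.filter_val]
  congr 1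
  ext i
  exact eq_comm

theorem card_gt_eq {ι : Type*} [Fintype ι] (k : ι → ℕ) (j : ℕ) :
    (Finset.univ.filter (fun i => j < k i)).card + ∑ i, (k i - (j + 1)) = ∑ i, (k i - j) := by
  rw [Finset.card_filter, ← Finset.sum_add_distrib]
  apply Finset.sum_congr rfl
  intro i _
  split_ifs with h <;> omega

theorem card_eq_eq {ι : Type*} [Fintype ι] [DecidableEq ι] (k : ι → ℕ) (a : ℕ) (ha : 0 < a) :
    (Finset.univ.filter (fun i => k i = a)).card + (Finset.univ.filter (fun i => a < k i)).card =
      (Finset.univ.filter (fun i => a - 1 < k i)).card := by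
  rw [← Finset.card_union_of_disjoint]
  · congr 1
    ext i
    simp only [Finset.mem_union, Finset.mem_filter, Finset.mem_univ, true_and]
    omega
  · rw [Finset.disjoint_filter]
    intro i _ h1 h2
    omega

theorem jtype_eq_of_sums {ι ι' : Type*} [Fintype ι] [Fintype ι'] (k : ι → ℕ) (k' : ι' → ℕ)
    (h : ∀ j : ℕ, ∑ i, (k i - j) = ∑ i, (k' i - j)) : jtype k = jtype k' := by
  classical
  have hgt : ∀ j : ℕ, (Finset.univ.filter (fun i => j < k i)).card =
      (Finset.univ.filter (fun i => j < k' i)).card := by
    intro j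
    have h1 := card_gt_eq k j
    have h2 := card_gt_eq k' j
    have h3 := h j
    have h4 := h (j + 1)
    omega
  ext a
  by_cases ha : 0 < a
  · rw [count_jtype k a ha, count_jtype k' a ha]
    have h1 := card_eq_eq k a ha
    have h2 := card_eq_eq k' a ha
    have h3 := hgt a
    have h4 := hgt (a - 1)
    omega
  · unfold jtype
    rw [Multiset.count_filter_of_neg ha, Multiset.count_filter_of_neg ha]

theorem sum_jtype {ι : Type*} [Fintype ι] (k : ι → ℕ) : (jtype k).sum = ∑ i, k i := by
  unfold jtype
  have h1 : (Finset.univ.val.map k).sum = ∑ i, k i := rfl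
  rw [← h1]
  have h2 := Multiset.filter_add_not (fun a => 0 < a) (Finset.univ.val.map k)
  have h3 : ((Finset.univ.val.map k).filter (fun a => ¬ 0 < a)).sum = 0 := by
    apply Multiset.sum_eq_zero
    intro x hx
    rw [Multiset.mem_filter] at hx
    omega
  conv_rhs => rw [← h2, Multiset.sum_add, h3, add_zero]

end Cfsg.Agent.Helper8.Jordan
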