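import Cfsg.Agent.Helper8.JordanRank
import Cfsg.Agent.Helper8.JordanType
import Cfsg.Agent.Helper8.JordanMatch
set_option autoImplicit false

namespace Cfsg.Agent.Helper8.Jordan

open Module

variable {F : Type*} [Field F] {V : Type*} [AddCommGroup V] [Module F V]
  {V' : Type*} [AddCommGroup V'] [Module F V']

theorem sigma_fin_ext {ι : Type*} {k : ι → ℕ} (x y : Σ i : ι, Fin (k i)) (h1 : x.1 = y.1)
    (h2 : (x.2 : ℕ) = (y.2 : ℕ)) : x = y := by
  obtain ⟨i, l⟩ := x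
  obtain ⟨i', l'⟩ := y
  simp only at h1
  subst h1
  simp only at h2
  rw [Fin.ext h2]

theorem exists_equiv_of_jtype_eq {ι ι' : Type*} [Fintype ι] [Fintype ι']
    {φ : Module.End F V} {φ' : Module.End F V'} {k : ι → ℕ} {k' : ι' → ℕ}
    {b : Basis (Σ i : ι, Fin (k i)) F V} {b' : Basis (Σ i : ι', Fin (k' i)) F V'}
    (hJ : IsJordan φ k b) (hJ' : IsJordan φ' k' b') (h : jtype k = jtype k') :
    ∃ g : V ≃ₗ[F] V', ∀ v, g (φ v) = φ' (g v) := by
  classical
  have hcard : ∀ v : ℕ, 0 < v →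
      Fintype.card {i : ι // k i = v} = Fintype.card {i : ι' // k' i = v} := by
    intro v hv
    rw [Fintype.card_subtype, Fintype.card_subtype, ← count_jtype k v hv, ← count_jtype k' v hv, h]
  obtain ⟨E, P1, P2, P3⟩ := exists_matching k k' (fun v hv => Fintype.equivOfCardEq (hcard v hv))
  let g : V ≃ₗ[F] V' := b.equiv b' E
  refine ⟨g, ?_⟩
  have hg : ∀ x, g (b x) = b' (E x) := fun x => Basis.equiv_apply _ _ _ _
  suffices hs : g.toLinearMap ∘ₗ φ = φ' ∘ₗ g.toLinearMap from fun v => LinearMap.congr_fun hs v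
  apply b.ext
  rintro ⟨i, l⟩
  simp only [LinearMap.coe_comp, LinearEquiv.coe_coe, Function.comp_apply]
  rw [hg, hJ i l]
  have hx : b' (E ⟨i, l⟩) = b' ⟨(E ⟨i, l⟩).1, (E ⟨i, l⟩).2⟩ := rfl
  rw [hx, hJ' (E ⟨i, l⟩).1 (E ⟨i, l⟩).2]
  have e1 := P1 ⟨i, l⟩
  have e2 := P2 ⟨i, l⟩
  simp only at e1 e2
  by_cases h1 : (l : ℕ) + 1 < k i
  · rw [dif_pos h1, dif_pos (by omega), hg]
    congr 1
    apply sigma_fin_ext
    · exact P3 i _ _
    · rw [P2]
      simp only
      rw [e2]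
  · rw [dif_neg h1, dif_neg (by omega), map_zero]

theorem jtype_eq_of_equiv {ι ι' : Type*} [Fintype ι] [Fintype ι']
    {φ : Module.End F V} {φ' : Module.End F V'} {k : ι → ℕ} {k' : ι' → ℕ}
    {b : Basis (Σ i : ι, Fin (k i)) F V} {b' : Basis (Σ i : ι', Fin (k' i)) F V'}
    (hJ : IsJordan φ k b) (hJ' : IsJordan φ' k' b')
    (g : V ≃ₗ[F] V') (hg : ∀ v, g (φ v) = φ' (g v)) : jtype k = jtype k' := by
  apply jtype_eq_of_sums
  intro j
  rw [← hJ.finrank_range_pow j, ← hJ'.finrank_range_pow j]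
  have hpow : ∀ v, g ((φ ^ j) v) = (φ' ^ j) (g v) := by
    induction j with
    | zero => intro v; rfl
    | succ j ih =>
      intro v
      rw [pow_succ', pow_succ', Module.End.mul_apply, Module.End.mul_apply, hg, ih]
  have hmap : (LinearMap.range (φ ^ j)).map g.toLinearMap = LinearMap.range (φ' ^ j) := by
    ext w
    constructor
    · rintro ⟨_, ⟨v, rfl⟩, rfl⟩
      exact ⟨g v, (hpow v).symm⟩
    · rintro ⟨v', rfl⟩
      refine ⟨(φ ^ j) (g.symm v'), ⟨_, rfl⟩, ?_⟩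
      change g ((φ ^ j) (g.symm v')) = _
      rw [hpow, LinearEquiv.apply_symm_apply]
  rw [← hmap]
  exact (LinearEquiv.finrank_map_eq g _).symm

theorem IsJordan.isNilpotent {ι : Type*} [Fintype ι] {φ : Module.End F V} {k : ι → ℕ}
    {b : Basis (Σ i : ι, Fin (k i)) F V} (hJ : IsJordan φ k b) : IsNilpotent φ := by
  refine ⟨∑ i, k i, ?_⟩
  apply b.ext
  rintro ⟨i, l⟩
  rw [hJ.pow_apply, dif_neg, LinearMap.zero_apply]
  have : k i ≤ ∑ i, k i := Finset.single_le_sum (f := k) (fun _ _ => Nat.zero_le _) (Finset.mem_univ i)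
  omega

/-- `φ ^ p = 0` iff all blocks have size at most `p`. -/
theorem IsJordan.pow_eq_zero_iff {ι : Type*} {φ : Module.End F V} {k : ι → ℕ}
    {b : Basis (Σ i : ι, Fin (k i)) F V} (hJ : IsJordan φ k b) (p : ℕ) :
    φ ^ p = 0 ↔ ∀ i, k i ≤ p := by
  constructor
  · intro h i
    by_contra hlt
    rw [not_le] at hlt
    have h0 : 0 < k i := by omega
    have h1 := hJ.pow_apply p i ⟨0, h0⟩
    rw [h, LinearMap.zero_apply, dif_pos (by simpa using hlt)] at h1
    exact b.ne_zero _ h1.symm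
  · intro h
    apply b.ext
    rintro ⟨i, l⟩
    rw [hJ.pow_apply, dif_neg, LinearMap.zero_apply]
    have := h i
    omega

end Cfsg.Agent.Helper8.Jordan
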