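import Cfsg.Agent.Helper8.JordanBasis
set_option autoImplicit false

namespace Cfsg.Agent.Helper8.Jordan

open Module

variable {F : Type*} [Field F] {V : Type*} [AddCommGroup V] [Module F V]

/-- `b` is a Jordan basis for `φ` with block sizes `k`. -/
def IsJordan {ι : Type*} (φ : Module.End F V) (k : ι → ℕ) (b : Basis (Σ i : ι, Fin (k i)) F V) :
    Prop :=
  ∀ (i : ι) (l : Fin (k i)),
    φ (b ⟨i, l⟩) = if h : (l : ℕ) + 1 < k i then b ⟨i, ⟨l + 1, h⟩⟩ else 0

theorem IsJordan.pow_apply {ι : Type*} {φ : Module.End F V} {k : ι → ℕ}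
    {b : Basis (Σ i : ι, Fin (k i)) F V} (hJ : IsJordan φ k b) (j : ℕ) (i : ι) (l : Fin (k i)) :
    (φ ^ j) (b ⟨i, l⟩) = if h : (l : ℕ) + j < k i then b ⟨i, ⟨l + j, h⟩⟩ else 0 := by
  induction j generalizing l with
  | zero => simp
  | succ j ih =>
    rw [pow_succ, Module.End.mul_apply, hJ i l]
    by_cases h1 : (l : ℕ) + 1 < k i
    · rw [dif_pos h1, ih]
      by_cases h2 : (l : ℕ) + (j + 1) < k i
      · rw [dif_pos h2, dif_pos (by simpa [add_assoc, add_comm 1 j] using h2)]
        congr 2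
        apply Fin.ext
        simp only
        omega
      · rw [dif_neg h2, dif_neg (by simp only; omega)]
    · rw [dif_neg h1, map_zero, dif_neg (by omega)]

theorem card_filter_le_fin (m j : ℕ) :
    (Finset.univ.filter (fun l : Fin m => j ≤ (l : ℕ))).card = m - j := by
  rw [Finset.card_filter, Fin.sum_univ_eq_sum_range (fun l => if j ≤ l then 1 else 0) m,
    ← Finset.card_filter]
  have : (Finset.range m).filter (fun l => j ≤ l) = Finset.Ico j m := by
    ext l
    simp only [Finset.mem_filter, Finset.mem_range, Finset.mem_Ico]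
    omega
  rw [this, Nat.card_Ico]

theorem IsJordan.finrank_range_pow {ι : Type*} [Fintype ι] {φ : Module.End F V} {k : ι → ℕ}
    {b : Basis (Σ i : ι, Fin (k i)) F V} (hJ : IsJordan φ k b) (j : ℕ) :
    finrank F (LinearMap.range (φ ^ j)) = ∑ i, (k i - j) := by
  classical
  let T := {x : Σ i : ι, Fin (k i) // j ≤ (x.2 : ℕ)}
  let f : T → V := fun x => b x.1
  have hf : LinearIndependent F f := b.linearIndependent.comp Subtype.val Subtype.val_injective
  have hspan : LinearMap.range (φ ^ j) = Submodule.span F (Set.range f) := by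
    rw [LinearMap.range_eq_map, ← b.span_eq, Submodule.map_span]
    apply le_antisymm
    · rw [Submodule.span_le]
      rintro _ ⟨_, ⟨⟨i, l⟩, rfl⟩, rfl⟩
      rw [hJ.pow_apply]
      split_ifs with h
      · apply Submodule.subset_span
        exact ⟨⟨⟨i, ⟨l + j, h⟩⟩, by simp⟩, rfl⟩
      · exact Submodule.zero_mem _
    · rw [Submodule.span_le]
      rintro _ ⟨⟨⟨i, l⟩, hl⟩, rfl⟩
      apply Submodule.subset_span
      have hl' : j ≤ (l : ℕ) := hl
      refine ⟨b ⟨i, ⟨l - j, by omega⟩⟩, ⟨_, rfl⟩, ?_⟩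
      change (φ ^ j) (b ⟨i, ⟨l - j, by omega⟩⟩) = b ⟨i, l⟩
      rw [hJ.pow_apply]
      have h2 : (l : ℕ) - j + j < k i := by omega
      rw [dif_pos h2]
      congr 2
      apply Fin.ext
      simp only
      omega
  rw [hspan, finrank_span_eq_card hf, Fintype.card_subtype, Finset.card_filter,
    Fintype.sum_sigma]
  apply Finset.sum_congr rfl
  intro i _
  rw [← Finset.card_filter]
  exact card_filter_le_fin (k i) j

end Cfsg.Agent.Helper8.Jordan
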