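import Mathlib

set_option autoImplicit false

/-!
Products of two conjugates in `SL₃`: similarity framework and the normal forms of the
non-scalar `3 × 3` matrices (a cyclic vector, or a companion block plus an eigenvalue).
-/

namespace Cfsg.Agent.Helper8.L3Cov

open Matrix

variable {F : Type*} [Field F]

/-- `B` is similar to `X`. -/
def Sim (B X : Matrix (Fin 3) (Fin 3) F) : Prop :=
  ∃ U : Matrix (Fin 3) (Fin 3) F, U.det ≠ 0 ∧ B * U = U * X

/-- `A` is a product of two matrices similar to `X`. -/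
def IsProd (X A : Matrix (Fin 3) (Fin 3) F) : Prop :=
  ∃ B C : Matrix (Fin 3) (Fin 3) F, Sim B X ∧ Sim C X ∧ A = B * C

theorem Sim.refl (A : Matrix (Fin 3) (Fin 3) F) : Sim A A :=
  ⟨1, by simp, by simp⟩

theorem Sim.trans {A B C : Matrix (Fin 3) (Fin 3) F} (h1 : Sim A B) (h2 : Sim B C) : Sim A C := by
  obtain ⟨U, hU, h1⟩ := h1
  obtain ⟨V, hV, h2⟩ := h2
  refine ⟨U * V, by rw [det_mul]; exact mul_ne_zero hU hV, ?_⟩
  rw [← Matrix.mul_assoc, h1, Matrix.mul_assoc, h2, Matrix.mul_assoc]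

theorem Sim.det_eq {A B : Matrix (Fin 3) (Fin 3) F} (h : Sim A B) : A.det = B.det := by
  obtain ⟨U, hU, h⟩ := h
  have h2 := congrArg det h
  rw [det_mul, det_mul] at h2
  exact mul_right_cancel₀ hU (by rw [h2, mul_comm])

theorem Sim.conj_left {B X Q : Matrix (Fin 3) (Fin 3) F} (h : Sim B X) (hQ : Q.det ≠ 0) :
    Sim (Q * B * Q⁻¹) X := by
  obtain ⟨U, hU, h⟩ := h
  have hQu : IsUnit Q.det := isUnit_iff_ne_zero.mpr hQ
  refine ⟨Q * U, by rw [det_mul]; exact mul_ne_zero hQ hU, ?_⟩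
  calc Q * B * Q⁻¹ * (Q * U) = Q * B * (Q⁻¹ * Q) * U := by simp only [Matrix.mul_assoc]
    _ = Q * (B * U) := by rw [Matrix.nonsing_inv_mul _ hQu, Matrix.mul_one, Matrix.mul_assoc]
    _ = Q * U * X := by rw [h, Matrix.mul_assoc]

theorem IsProd.of_sim {X A Z : Matrix (Fin 3) (Fin 3) F} (h : IsProd X Z) (hs : Sim A Z) :
    IsProd X A := by
  obtain ⟨B, C, hB, hC, rfl⟩ := h
  obtain ⟨Q, hQ, hAQ⟩ := hs
  have hQu : IsUnit Q.det := isUnit_iff_ne_zero.mpr hQ
  refine ⟨Q * B * Q⁻¹, Q * C * Q⁻¹, hB.conj_left hQ, hC.conj_left hQ, ?_⟩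
  have h1 : A = Q * (B * C) * Q⁻¹ := by
    rw [← hAQ, Matrix.mul_assoc, Matrix.mul_nonsing_inv _ hQu, Matrix.mul_one]
  rw [h1]
  calc Q * (B * C) * Q⁻¹ = Q * B * 1 * C * Q⁻¹ := by simp only [Matrix.mul_assoc, Matrix.one_mul]
    _ = Q * B * (Q⁻¹ * Q) * C * Q⁻¹ := by rw [Matrix.nonsing_inv_mul _ hQu]
    _ = Q * B * Q⁻¹ * (Q * C * Q⁻¹) := by simp only [Matrix.mul_assoc]

/-- The matrix with columns `u`, `v`, `w`. -/
def cols (u v w : Fin 3 → F) : Matrix (Fin 3) (Fin 3) F :=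
  Matrix.of fun i j => ![u, v, w] j i

omit [Field F] in
@[simp] theorem cols_apply_zero (u v w : Fin 3 → F) (i : Fin 3) : cols u v w i 0 = u i := rfl
omit [Field F] in
@[simp] theorem cols_apply_one (u v w : Fin 3 → F) (i : Fin 3) : cols u v w i 1 = v i := rfl
omit [Field F] in
@[simp] theorem cols_apply_two (u v w : Fin 3 → F) (i : Fin 3) : cols u v w i 2 = w i := rfl

theorem mul_cols (A : Matrix (Fin 3) (Fin 3) F) (u v w : Fin 3 → F) :
    A * cols u v w = cols (A *ᵥ u) (A *ᵥ v) (A *ᵥ w) := by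
  ext i j
  fin_cases j <;> simp [Matrix.mul_apply, mulVec, dotProduct]

theorem cols_mul (u v w : Fin 3 → F) (Z : Matrix (Fin 3) (Fin 3) F) :
    cols u v w * Z = cols (Z 0 0 • u + Z 1 0 • v + Z 2 0 • w) (Z 0 1 • u + Z 1 1 • v + Z 2 1 • w)
      (Z 0 2 • u + Z 1 2 • v + Z 2 2 • w) := by
  ext i j
  fin_cases j <;> simp [Matrix.mul_apply, Fin.sum_univ_three] <;> ring

/-- A non-scalar matrix moves some vector off its line. -/
theorem exists_det_cols_ne_zero {A : Matrix (Fin 3) (Fin 3) F}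
    (hA : ∀ μ : F, A ≠ Matrix.scalar (Fin 3) μ) :
    ∃ v w : Fin 3 → F, (cols v (A *ᵥ v) w).det ≠ 0 := by
  by_contra hcon
  push Not at hcon
  have e1 := hcon ![1, 0, 0] ![0, 0, 1]
  have e2 := hcon ![1, 0, 0] ![0, 1, 0]
  have e3 := hcon ![0, 1, 0] ![0, 0, 1]
  have e4 := hcon ![0, 1, 0] ![1, 0, 0]
  have e5 := hcon ![0, 0, 1] ![1, 0, 0]
  have e6 := hcon ![0, 0, 1] ![0, 1, 0]
  have e7 := hcon ![1, 1, 0] ![0, 0, 1]
  have e8 := hcon ![1, 0, 1] ![0, 1, 0]
  simp [det_fin_three, mulVec, dotProduct, Fin.sum_univ_three] at e1 e2 e3 e4 e5 e6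
  simp [det_fin_three, mulVec, dotProduct, Fin.sum_univ_three, e1, e2, e3, e4, e5, e6] at e7 e8
  apply hA (A 0 0)
  ext i j
  fin_cases i <;> fin_cases j <;> simp [e1, e2, e3, e4, e5, e6]
  · linear_combination e7
  · linear_combination -e8

/-- A non-scalar matrix is similar to one whose first column is the second basis vector. -/
theorem exists_sim_first_col {A : Matrix (Fin 3) (Fin 3) F}
    (hA : ∀ μ : F, A ≠ Matrix.scalar (Fin 3) μ) :
    ∃ β x α y δ t : F, Sim A !![0, β, x; 1, α, y; 0, δ, t] := by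
  obtain ⟨v, w, hdet⟩ := exists_det_cols_ne_zero hA
  set Q := cols v (A *ᵥ v) w with hQ
  have hQu : IsUnit Q.det := isUnit_iff_ne_zero.mpr hdet
  set A₁ := Q⁻¹ * (A * Q) with hA₁
  have hsim : A * Q = Q * A₁ := by
    rw [hA₁, ← Matrix.mul_assoc, Matrix.mul_nonsing_inv _ hQu, Matrix.one_mul]
  have hcol : ∀ i, A₁ i 0 = (1 : Matrix (Fin 3) (Fin 3) F) i 1 := by
    intro i
    have h1 : ∀ k, (A * Q) k 0 = Q k 1 := by
      intro k
      rw [hQ, mul_cols]
      rfl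
    rw [hA₁, Matrix.mul_apply]
    simp_rw [h1]
    rw [← Matrix.mul_apply, Matrix.nonsing_inv_mul _ hQu]
  refine ⟨A₁ 0 1, A₁ 0 2, A₁ 1 1, A₁ 1 2, A₁ 2 1, A₁ 2 2, Q, hdet, ?_⟩
  rw [hsim]
  congr 1
  ext i j
  fin_cases i <;> fin_cases j <;> simp [hcol]

/-- The matrix with columns `u`, `(A - 1) u`, `(A - 1)² u`. -/
def cyc (A : Matrix (Fin 3) (Fin 3) F) (u : Fin 3 → F) : Matrix (Fin 3) (Fin 3) F :=
  cols u ((A - 1) *ᵥ u) ((A - 1) *ᵥ ((A - 1) *ᵥ u))

/-- A matrix with a cyclic vector is similar to a shifted companion matrix. -/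
theorem cyc_sim {A : Matrix (Fin 3) (Fin 3) F} {u : Fin 3 → F} (h : (cyc A u).det ≠ 0) :
    ∃ c₀ c₁ c₂ : F, Sim A !![1, 0, c₀; 1, 1, c₁; 0, 1, 1 + c₂] := by
  unfold cyc at h
  set N := A - 1 with hN
  set u₁ := N *ᵥ u with hu₁
  set u₂ := N *ᵥ u₁ with hu₂
  set u₃ := N *ᵥ u₂ with hu₃
  set Q := cols u u₁ u₂ with hQ
  have hQu : IsUnit Q.det := isUnit_iff_ne_zero.mpr h
  set c := Q⁻¹ *ᵥ u₃ with hc
  have hc1 : Q *ᵥ c = u₃ := by
    rw [hc, mulVec_mulVec, Matrix.mul_nonsing_inv _ hQu, one_mulVec]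
  have hc2 : c 0 • u + c 1 • u₁ + c 2 • u₂ = u₃ := by
    rw [← hc1]
    ext i
    simp [hQ, mulVec, dotProduct, Fin.sum_univ_three]
    ring
  have hAx : ∀ x, A *ᵥ x = x + N *ᵥ x := by
    intro x
    rw [hN, sub_mulVec, one_mulVec]
    abel
  refine ⟨c 0, c 1, c 2, Q, h, ?_⟩
  rw [hQ, mul_cols, cols_mul]
  congr 1
  · rw [hAx]
    simp [hu₁]
  · rw [hAx]
    simp [hu₂]
  · rw [hAx, ← hu₃, ← hc2]
    simp
    module

/-- Matrices with first column the second basis vector: a cyclic vector, or a companion block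
and an eigenvalue of it. -/
theorem first_col_cases (β x α y δ t : F) :
    (∃ u, (cyc !![0, β, x; 1, α, y; 0, δ, t] u).det ≠ 0) ∨
    (∃ s : F, Sim !![0, β, x; 1, α, y; 0, δ, t] !![0, -(t * s), 0; 1, t + s, 0; 0, 0, t]) := by
  by_cases hδ : δ = 0
  · subst hδ
    by_cases hc : ∃ u, (cyc !![0, β, x; 1, α, y; 0, 0, t] u).det ≠ 0
    · exact Or.inl hc
    · right
      push Not at hc
      have key : ∀ z₁ z₂ : F, (cyc !![0, β, x; 1, α, y; 0, 0, t] ![z₁, z₂, 1]).det =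
          (-t * z₁ + β * z₂ + x) ^ 2 + α * (-t * z₁ + β * z₂ + x) * (z₁ + (α - t) * z₂ + y)
            - β * (z₁ + (α - t) * z₂ + y) ^ 2 := by
        intro z₁ z₂
        simp [cyc, det_fin_three, mulVec, dotProduct, Fin.sum_univ_three, Matrix.mul_apply]
        ring
      have h1 := hc ![-y, 0, 1]
      rw [key] at h1
      have hx : x = -(t * y) := by
        have h2 : (t * y + x) ^ 2 = 0 := by linear_combination h1
        have h3 := pow_eq_zero_iff (two_ne_zero) |>.mp h2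
        linear_combination h3
      have h2 := hc ![1 - y, 0, 1]
      rw [key] at h2
      have hβ : β = t ^ 2 - α * t := by
        subst hx
        linear_combination -h2
      refine ⟨α - t, !![1, 0, -y; 0, 1, 0; 0, 0, 1], by simp [det_fin_three], ?_⟩
      subst hx hβ
      ext i j
      fin_cases i <;> fin_cases j <;> simp [Matrix.mul_apply, Fin.sum_univ_three] <;> ring
  · left
    refine ⟨![1, 0, 0], ?_⟩
    have h1 : (cyc !![0, β, x; 1, α, y; 0, δ, t] ![1, 0, 0]).det = δ := by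
      simp [cyc, det_fin_three, mulVec, dotProduct, Fin.sum_univ_three, Matrix.mul_apply]
    rwa [h1]

/-- The normal form of a matrix of determinant `1` with a cyclic vector. -/
def Acyc (β γ : F) : Matrix (Fin 3) (Fin 3) F := !![1, 0, β - γ; 1, 1, β; 0, 1, 1 + γ]

/-- The normal form of a non-scalar matrix of determinant `1` without cyclic vectors. -/
def Nn (t : F) : Matrix (Fin 3) (Fin 3) F := !![0, -t⁻¹, 0; 1, t + (t⁻¹) ^ 2, 0; 0, 0, t]

/-- Normal forms of the non-scalar matrices of determinant `1`. -/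
theorem structure_thm {A : Matrix (Fin 3) (Fin 3) F}
    (hA : ∀ μ : F, A ≠ Matrix.scalar (Fin 3) μ) (hdet : A.det = 1) :
    (∃ β γ : F, Sim A (Acyc β γ)) ∨ (∃ t : F, t ≠ 0 ∧ Sim A (Nn t)) := by
  obtain ⟨β, x, α, y, δ, t, h1⟩ := exists_sim_first_col hA
  rcases first_col_cases β x α y δ t with ⟨u, hu⟩ | ⟨s, hs⟩
  · left
    obtain ⟨c₀, c₁, c₂, h2⟩ := cyc_sim hu
    have h3 := h1.trans h2
    have hd := h3.det_eq
    rw [hdet, det_fin_three] at hd
    simp at hd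
    have h4 : c₀ = c₁ - c₂ := by linear_combination -hd
    refine ⟨c₁, c₂, ?_⟩
    rw [Acyc, ← h4]
    exact h3
  · right
    have h3 := h1.trans hs
    have hd := h3.det_eq
    rw [hdet, det_fin_three] at hd
    simp at hd
    have ht : t ≠ 0 := by
      rintro rfl
      simp at hd
    have hs' : s = (t⁻¹) ^ 2 := by
      field_simp
      linear_combination -hd
    refine ⟨t, ht, ?_⟩
    have h5 : Nn t = !![0, -(t * s), 0; 1, t + s, 0; 0, 0, t] := by
      rw [Nn, hs']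
      congr 3
      field_simp
    rw [h5]
    exact h3

end Cfsg.Agent.Helper8.L3Cov
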