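import Mathlib
import Cfsg.Agent.Helper8.L3CovA

set_option autoImplicit false

/-!
Over a field with an element `a ≠ 0`, `a² ≠ 1`: every normal form is a product of two matrices
similar to `diag(a, a⁻¹, 1)`.
-/

namespace Cfsg.Agent.Helper8.L3Cov

open Matrix

variable {F : Type*} [Field F]

theorem lowerSim (d₁ d₂ d₃ m₁ m₂ m₃ : F) (h12 : d₁ ≠ d₂) (h13 : d₁ ≠ d₃) (h23 : d₂ ≠ d₃) :
    Sim !![d₁, 0, 0; m₁, d₂, 0; m₂, m₃, d₃] !![d₁, 0, 0; 0, d₂, 0; 0, 0, d₃] := by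
  have e12 : d₁ - d₂ ≠ 0 := sub_ne_zero.mpr h12
  have e13 : d₁ - d₃ ≠ 0 := sub_ne_zero.mpr h13
  have e23 : d₂ - d₃ ≠ 0 := sub_ne_zero.mpr h23
  refine ⟨!![1, 0, 0; m₁ / (d₁ - d₂), 1, 0;
    (m₂ + m₃ * (m₁ / (d₁ - d₂))) / (d₁ - d₃), m₃ / (d₂ - d₃), 1], by simp [det_fin_three], ?_⟩
  ext i j
  fin_cases i <;> fin_cases j <;> simp [Matrix.mul_apply, Fin.sum_univ_three] <;> field_simp <;> ring

theorem upperSim (d₁ d₂ d₃ m₁ m₂ m₃ : F) (h12 : d₁ ≠ d₂) (h13 : d₁ ≠ d₃) (h23 : d₂ ≠ d₃) :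
    Sim !![d₁, m₁, m₂; 0, d₂, m₃; 0, 0, d₃] !![d₁, 0, 0; 0, d₂, 0; 0, 0, d₃] := by
  have e12 : d₂ - d₁ ≠ 0 := sub_ne_zero.mpr h12.symm
  have e13 : d₃ - d₁ ≠ 0 := sub_ne_zero.mpr h13.symm
  have e23 : d₃ - d₂ ≠ 0 := sub_ne_zero.mpr h23.symm
  refine ⟨!![1, m₁ / (d₂ - d₁), (m₁ * (m₃ / (d₃ - d₂)) + m₂) / (d₃ - d₁);
    0, 1, m₃ / (d₃ - d₂); 0, 0, 1], by simp [det_fin_three], ?_⟩
  ext i j
  fin_cases i <;> fin_cases j <;> simp [Matrix.mul_apply, Fin.sum_univ_three] <;> field_simp <;> ring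

theorem swapSim (d₁ d₂ d₃ : F) :
    Sim !![d₂, 0, 0; 0, d₁, 0; 0, 0, d₃] !![d₁, 0, 0; 0, d₂, 0; 0, 0, d₃] := by
  refine ⟨!![0, 1, 0; 1, 0, 0; 0, 0, 1], by simp [det_fin_three], ?_⟩
  ext i j
  fin_cases i <;> fin_cases j <;> simp [Matrix.mul_apply, Fin.sum_univ_three]

/-- The diagonal matrix `diag(a, a⁻¹, 1)`. -/
def Dg (a : F) : Matrix (Fin 3) (Fin 3) F := !![a, 0, 0; 0, a⁻¹, 0; 0, 0, 1]

/-- A product of a lower and an upper unitriangular matrix is a product of two matrices similar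
to `diag(a, a⁻¹, 1)`. -/
theorem isProd_LU {a : F} (ha : a ≠ 0) (ha2 : a ^ 2 ≠ 1) (l₁ l₂ l₃ u₁ u₂ u₃ : F) :
    IsProd (Dg a) (!![1, 0, 0; l₁, 1, 0; l₂, l₃, 1] * !![1, u₁, u₂; 0, 1, u₃; 0, 0, 1]) := by
  have h1 : a ≠ 1 := by
    rintro rfl
    exact ha2 (one_pow 2)
  have h2 : a⁻¹ ≠ 1 := by
    intro h
    exact h1 (inv_eq_one.mp h)
  have h3 : a ≠ a⁻¹ := by
    intro h
    apply ha2
    rw [pow_two]
    nth_rewrite 2 [h]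
    exact mul_inv_cancel₀ ha
  refine ⟨!![a, 0, 0; l₁ * a, a⁻¹, 0; l₂ * a, l₃ * a⁻¹, 1],
    !![a⁻¹, a⁻¹ * u₁, a⁻¹ * u₂; 0, a, a * u₃; 0, 0, 1], ?_, ?_, ?_⟩
  · exact lowerSim a a⁻¹ 1 _ _ _ h3 h1 h2
  · exact (upperSim a⁻¹ a 1 _ _ _ h3.symm h2 h1).trans (swapSim a a⁻¹ 1)
  · ext i j
    fin_cases i <;> fin_cases j <;> simp [Matrix.mul_apply, Fin.sum_univ_three] <;> field_simp

theorem isProd_Acyc {a : F} (ha : a ≠ 0) (ha2 : a ^ 2 ≠ 1) (β γ : F) :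
    IsProd (Dg a) (Acyc β γ) := by
  have h := isProd_LU ha ha2 1 0 1 0 (β - γ) γ
  have h2 : Acyc β γ = !![1, 0, 0; 1, 1, 0; 0, 1, 1] * !![1, 0, β - γ; 0, 1, γ; 0, 0, 1] := by
    ext i j
    fin_cases i <;> fin_cases j <;> simp [Acyc, Matrix.mul_apply, Fin.sum_univ_three]
    ring
  rw [h2]
  exact h

theorem isProd_Nn {a : F} (ha : a ≠ 0) (ha2 : a ^ 2 ≠ 1) {t : F} (ht : t ≠ 0) :
    IsProd (Dg a) (Nn t) := by
  by_cases ht1 : t = 1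
  · subst ht1
    have h := isProd_LU ha ha2 0 0 0 1 0 0
    refine h.of_sim ⟨!![-1, 1, 0; 1, 0, 0; 0, 0, 1], by simp [det_fin_three], ?_⟩
    ext i j
    fin_cases i <;> fin_cases j <;> simp [Nn, Matrix.mul_apply, Fin.sum_univ_three]
  · have h1t : 1 - t ≠ 0 := sub_ne_zero.mpr (Ne.symm ht1)
    have h := isProd_LU ha ha2 (1 - t) (1 - t) (1 - t) ((1 - t) / t) ((1 - t) / t ^ 2) ((1 - t) / t)
    refine h.of_sim ⟨!![1 - t, (1 - t) / t, -1 / t; 0, 0, 1; 1, 0, -1], ?_, ?_⟩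
    · simp [det_fin_three]
      exact ⟨h1t, ht⟩
    · ext i j
      fin_cases i <;> fin_cases j <;> simp [Nn, Matrix.mul_apply, Fin.sum_univ_three] <;>
        field_simp <;> ring

/-- Every non-scalar matrix of determinant `1` is a product of two matrices similar to
`diag(a, a⁻¹, 1)`. -/
theorem isProd_Dg {a : F} (ha : a ≠ 0) (ha2 : a ^ 2 ≠ 1) {A : Matrix (Fin 3) (Fin 3) F}
    (hA : ∀ μ : F, A ≠ Matrix.scalar (Fin 3) μ) (hdet : A.det = 1) : IsProd (Dg a) A := by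
  rcases structure_thm hA hdet with ⟨β, γ, h⟩ | ⟨t, ht, h⟩
  · exact (isProd_Acyc ha ha2 β γ).of_sim h
  · exact (isProd_Nn ha ha2 ht).of_sim h

end Cfsg.Agent.Helper8.L3Cov
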