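import Mathlib
import Cfsg.Agent.Helper8.L3CovA

set_option autoImplicit false

/-!
The field with three elements: every normal form is a product of two matrices similar to the
element `X3` of order `4`; checked over `ZMod 3` and transported along a ring homomorphism.
-/

namespace Cfsg.Agent.Helper8.L3Cov

open Matrix

/-- Witnesses, over a commutative ring, for `A` being a product of two conjugates of `X`. -/
def Wit {R : Type*} [CommRing R] (X A : Matrix (Fin 3) (Fin 3) R) : Prop :=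
  ∃ B C U V U' V' : Matrix (Fin 3) (Fin 3) R,
    U * U' = 1 ∧ V * V' = 1 ∧ B * U = U * X ∧ C * V = V * X ∧ A = B * C

theorem Wit.isProd_map {R F : Type*} [CommRing R] [Field F] (f : R →+* F)
    {X A : Matrix (Fin 3) (Fin 3) R} (h : Wit X A) :
    IsProd (X.map f) (A.map f) := by
  obtain ⟨B, C, U, V, U', V', hU, hV, hB, hC, hA⟩ := h
  have hdet : ∀ W W' : Matrix (Fin 3) (Fin 3) R, W * W' = 1 → (W.map f).det ≠ 0 := by
    intro W W' hW
    have h1 : (W.map f) * (W'.map f) = 1 := by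
      rw [← Matrix.map_mul, hW, Matrix.map_one f (map_zero f) (map_one f)]
    have h2 := congrArg det h1
    rw [det_mul, det_one] at h2
    intro h0
    rw [h0, zero_mul] at h2
    exact zero_ne_one h2
  refine ⟨B.map f, C.map f, ⟨U.map f, hdet U U' hU, ?_⟩, ⟨V.map f, hdet V V' hV, ?_⟩, ?_⟩
  · rw [← Matrix.map_mul, ← Matrix.map_mul, hB]
  · rw [← Matrix.map_mul, ← Matrix.map_mul, hC]
  · rw [← Matrix.map_mul, hA]

/-- An element of order `4`. -/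
def X3 (R : Type*) [CommRing R] : Matrix (Fin 3) (Fin 3) R := !![0, 0, 1; 0, 1, 0; -1, 0, 0]

theorem wit_cyc : ∀ β γ : ZMod 3,
    Wit (X3 (ZMod 3)) !![1, 0, β - γ; 1, 1, β; 0, 1, 1 + γ] := by
  intro β γ
  unfold Wit X3
  fin_cases β <;> fin_cases γ
  · exact ⟨!![0, 1, -1; -1, 0, 1; 0, 0, 1],
      !![-1, 0, 1; 1, 1, 1; 0, 1, 1],
      !![0, 0, 1; -1, 1, 0; 0, 1, 0],
      !![0, 1, 1; 0, 0, 1; -1, -1, 1],
      !![0, -1, 1; 0, 0, 1; 1, 0, 0],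
      !![-1, -1, -1; 1, -1, 0; 0, 1, 0],
      by decide, by decide, by decide, by decide, by decide⟩
  · exact ⟨!![1, 0, -1; 0, 1, 0; -1, 0, -1],
      !![-1, 1, 0; 1, 1, 0; 1, 1, 1],
      !![0, 0, 1; 0, 1, 0; 1, 0, 1],
      !![0, 0, 1; -1, 0, 1; 0, 1, 1],
      !![-1, 0, 1; 0, 1, 0; 1, 0, 0],
      !![1, -1, 0; -1, 0, 1; 1, 0, 0],
      by decide, by decide, by decide, by decide, by decide⟩
  · exact ⟨!![-1, -1, -1; 0, 1, 0; -1, 0, 1],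
      !![-1, -1, 1; 1, 1, 0; -1, 0, 1],
      !![0, 0, 1; 0, 1, 0; 1, -1, -1],
      !![0, 0, 1; -1, 1, 1; 1, 1, -1],
      !![1, 1, 1; 0, 1, 0; 1, 0, 0],
      !![1, 1, -1; 0, -1, -1; 1, 0, 0],
      by decide, by decide, by decide, by decide, by decide⟩
  · exact ⟨!![0, -1, 1; 0, 1, 0; -1, 1, 0],
      !![1, 0, 0; 1, 1, 1; -1, 1, -1],
      !![0, 0, 1; 0, 1, 0; -1, 1, 0],
      !![0, 1, 0; 0, -1, 1; -1, -1, -1],
      !![0, 1, -1; 0, 1, 0; 1, 0, 0],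
      !![1, -1, -1; 1, 0, 0; 1, 1, 0],
      by decide, by decide, by decide, by decide, by decide⟩
  · exact ⟨!![0, 0, -1; 0, 1, 0; 1, 0, 0],
      !![0, 1, -1; 1, 1, 1; -1, 0, 0],
      !![0, 0, 1; 0, 1, 0; 1, 0, 0],
      !![0, 1, 1; 1, 0, 0; -1, -1, 0],
      !![0, 0, 1; 0, 1, 0; 1, 0, 0],
      !![0, 1, 0; 0, -1, -1; 1, 1, 1],
      by decide, by decide, by decide, by decide, by decide⟩
  · exact ⟨!![1, 1, -1; 0, 1, 0; -1, -1, -1],
      !![1, 0, 0; 1, 1, 1; 1, 1, -1],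
      !![0, 0, 1; 0, 1, 0; 1, 1, 1],
      !![0, 1, 0; 0, 0, 1; -1, -1, -1],
      !![-1, -1, 1; 0, 1, 0; 1, 0, 0],
      !![-1, -1, -1; 1, 0, 0; 0, 1, 0],
      by decide, by decide, by decide, by decide, by decide⟩
  · exact ⟨!![1, -1, -1; 0, 1, 0; -1, 1, -1],
      !![0, -1, 1; 1, 1, -1; 1, 1, 0],
      !![0, 0, 1; 0, 1, 0; 1, -1, 1],
      !![0, 1, 1; 1, 0, -1; 0, 1, -1],
      !![-1, 1, 1; 0, 1, 0; 1, 0, 0],
      !![-1, 1, 1; -1, 0, -1; -1, 0, 1],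
      by decide, by decide, by decide, by decide, by decide⟩
  · exact ⟨!![-1, 1, -1; 0, 1, 0; -1, 0, 1],
      !![0, 0, 1; 1, 1, -1; 0, 1, 0],
      !![0, 0, 1; 0, 1, 0; 1, 1, -1],
      !![0, 1, 1; 0, 1, -1; -1, 1, 0],
      !![1, -1, 1; 0, 1, 0; 1, 0, 0],
      !![-1, -1, -1; -1, -1, 0; -1, 1, 0],
      by decide, by decide, by decide, by decide, by decide⟩
  · exact ⟨!![0, 0, 1; 0, 1, 0; -1, 0, 0],
      !![0, -1, 0; 1, 1, -1; 1, 0, 0],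
      !![0, 0, 1; 0, 1, 0; -1, 0, 0],
      !![0, 1, 1; 1, -1, 0; 1, 1, 0],
      !![0, 0, -1; 0, 1, 0; 1, 0, 0],
      !![0, -1, -1; 0, 1, -1; 1, -1, 1],
      by decide, by decide, by decide, by decide, by decide⟩

theorem wit_N1 : Wit (X3 (ZMod 3)) !![0, -1, 0; 1, -1, 0; 0, 0, 1] := by
  unfold Wit X3
  exact ⟨!![0, 0, -1; 1, 1, 1; 1, 0, 0],
    !![0, 0, 1; 1, 1, -1; 0, 1, 0],
    !![0, 0, 1; 0, 1, -1; 1, 0, 0],
    !![0, 1, 1; 0, 1, -1; -1, 1, 0],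
    !![0, 0, 1; 1, 1, 0; 1, 0, 0],
    !![-1, -1, -1; -1, -1, 0; -1, 1, 0],
    by decide, by decide, by decide, by decide, by decide⟩

theorem wit_N2 : Wit (X3 (ZMod 3)) !![0, 1, 0; 1, 0, 0; 0, 0, -1] := by
  unfold Wit X3
  exact ⟨!![0, 0, -1; 1, 1, 1; 1, 0, 0],
    !![0, 0, -1; 1, 1, 1; 0, -1, 0],
    !![0, 0, 1; 0, 1, -1; 1, 0, 0],
    !![0, 1, 1; 0, 1, -1; 1, -1, 0],
    !![0, 0, 1; 1, 1, 0; 1, 0, 0],
    !![-1, -1, 1; -1, -1, 0; -1, 1, 0],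
    by decide, by decide, by decide, by decide, by decide⟩

end Cfsg.Agent.Helper8.L3Cov
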