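import Mathlib
import Cfsg.Agent.Helper8.L3CovB
import Cfsg.Agent.Helper8.L3CovC

set_option autoImplicit false

/-!
From similarity of matrices to conjugacy in `SL₃` and in `PSL₃`.
-/

namespace Cfsg.Agent.Helper8.L3Cov

open Matrix

/-- Over the field with three elements every non-scalar matrix of determinant `1` is a product of
two matrices similar to `X3`. -/
theorem isProd_X3 {F : Type*} [Field F] [Fintype F] [CharP F 3] (h3 : Fintype.card F = 3)
    {A : Matrix (Fin 3) (Fin 3) F} (hA : ∀ μ : F, A ≠ Matrix.scalar (Fin 3) μ)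
    (hdet : A.det = 1) : IsProd (X3 F) A := by
  set f := ZMod.castHom (dvd_refl 3) F with hf
  have hbij := ZMod.castHom_bijective F h3
  have hX : (X3 (ZMod 3)).map f = X3 F := by
    ext i j
    fin_cases i <;> fin_cases j <;> simp [X3]
  have h30 : (3 : F) = 0 := by
    have := CharP.cast_eq_zero F 3
    exact_mod_cast this
  have h2 : (2 : F) = -1 := by linear_combination h30
  rcases structure_thm hA hdet with ⟨β, γ, h⟩ | ⟨t, ht, h⟩
  · obtain ⟨β₀, rfl⟩ := hbij.2 β
    obtain ⟨γ₀, rfl⟩ := hbij.2 γ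
    have h1 := (wit_cyc β₀ γ₀).isProd_map f
    rw [hX] at h1
    have h4 : (!![1, 0, β₀ - γ₀; 1, 1, β₀; 0, 1, 1 + γ₀] : Matrix (Fin 3) (Fin 3) (ZMod 3)).map f =
        Acyc (f β₀) (f γ₀) := by
      ext i j
      fin_cases i <;> fin_cases j <;> simp [Acyc]
    rw [h4] at h1
    exact h1.of_sim h
  · obtain ⟨t₀, rfl⟩ := hbij.2 t
    have ht0 : t₀ = 0 ∨ t₀ = 1 ∨ t₀ = 2 := by
      fin_cases t₀
      · exact Or.inl rfl
      · exact Or.inr (Or.inl rfl)
      · exact Or.inr (Or.inr rfl)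
    rcases ht0 with rfl | rfl | rfl
    · exact absurd (map_zero f) ht
    · have h1 := wit_N1.isProd_map f
      rw [hX] at h1
      have h4 : (!![0, -1, 0; 1, -1, 0; 0, 0, 1] : Matrix (Fin 3) (Fin 3) (ZMod 3)).map f =
          Nn (f 1) := by
        ext i j
        fin_cases i <;> fin_cases j <;> simp [Nn]
        linear_combination -h2
      rw [h4] at h1
      exact h1.of_sim h
    · have h1 := wit_N2.isProd_map f
      rw [hX] at h1
      have hf2 : f 2 = -1 := by
        rw [map_ofNat]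
        exact h2
      have h4 : (!![0, 1, 0; 1, 0, 0; 0, 0, -1] : Matrix (Fin 3) (Fin 3) (ZMod 3)).map f =
          Nn (f 2) := by
        rw [hf2]
        ext i j
        fin_cases i <;> fin_cases j <;> simp [Nn, inv_neg]
      rw [h4] at h1
      exact h1.of_sim h

variable {F : Type*} [Field F]

/-- From similarity to conjugacy in the special linear group. -/
theorem exists_conj_of_isProd {X A : Matrix.SpecialLinearGroup (Fin 3) F}
    (hE : ∀ e : F, e ≠ 0 → ∃ E : Matrix (Fin 3) (Fin 3) F,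
      E * (X : Matrix (Fin 3) (Fin 3) F) = (X : Matrix (Fin 3) (Fin 3) F) * E ∧ E.det = e)
    (h : IsProd (X : Matrix (Fin 3) (Fin 3) F) (A : Matrix (Fin 3) (Fin 3) F)) :
    ∃ u v : Matrix.SpecialLinearGroup (Fin 3) F, A = u * X * u⁻¹ * (v * X * v⁻¹) := by
  obtain ⟨B, C, hB, hC, hA⟩ := h
  have key : ∀ B : Matrix (Fin 3) (Fin 3) F, Sim B (X : Matrix (Fin 3) (Fin 3) F) →
      ∃ u : Matrix.SpecialLinearGroup (Fin 3) F,
        B = ((u * X * u⁻¹ : Matrix.SpecialLinearGroup (Fin 3) F) : Matrix (Fin 3) (Fin 3) F) := by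
    intro B hB
    obtain ⟨U, hU, hBU⟩ := hB
    obtain ⟨E, hEX, hEd⟩ := hE (U.det)⁻¹ (inv_ne_zero hU)
    have hdet : (U * E).det = 1 := by
      rw [det_mul, hEd, mul_inv_cancel₀ hU]
    refine ⟨⟨U * E, hdet⟩, ?_⟩
    set u : Matrix.SpecialLinearGroup (Fin 3) F := ⟨U * E, hdet⟩ with hu
    have h1 : B * (u : Matrix (Fin 3) (Fin 3) F) =
        (u : Matrix (Fin 3) (Fin 3) F) * (X : Matrix (Fin 3) (Fin 3) F) := by
      change B * (U * E) = U * E * (X : Matrix (Fin 3) (Fin 3) F)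
      rw [← Matrix.mul_assoc, hBU, Matrix.mul_assoc, ← hEX, Matrix.mul_assoc]
    have h2 : ((u * X * u⁻¹ : Matrix.SpecialLinearGroup (Fin 3) F) : Matrix (Fin 3) (Fin 3) F) *
        (u : Matrix (Fin 3) (Fin 3) F) =
        (u : Matrix (Fin 3) (Fin 3) F) * (X : Matrix (Fin 3) (Fin 3) F) := by
      rw [← Matrix.SpecialLinearGroup.coe_mul, ← Matrix.SpecialLinearGroup.coe_mul,
        inv_mul_cancel_right]
    have h3 : (u : Matrix (Fin 3) (Fin 3) F) *
        ((u⁻¹ : Matrix.SpecialLinearGroup (Fin 3) F) : Matrix (Fin 3) (Fin 3) F) = 1 := by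
      rw [← Matrix.SpecialLinearGroup.coe_mul, mul_inv_cancel, Matrix.SpecialLinearGroup.coe_one]
    calc B = B * ((u : Matrix (Fin 3) (Fin 3) F) *
          ((u⁻¹ : Matrix.SpecialLinearGroup (Fin 3) F) : Matrix (Fin 3) (Fin 3) F)) := by
            rw [h3, Matrix.mul_one]
      _ = ((u * X * u⁻¹ : Matrix.SpecialLinearGroup (Fin 3) F) : Matrix (Fin 3) (Fin 3) F) *
          ((u : Matrix (Fin 3) (Fin 3) F) *
          ((u⁻¹ : Matrix.SpecialLinearGroup (Fin 3) F) : Matrix (Fin 3) (Fin 3) F)) := by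
            rw [← Matrix.mul_assoc, h1, ← h2, Matrix.mul_assoc]
      _ = _ := by rw [h3, Matrix.mul_one]
  obtain ⟨u, hu⟩ := key B hB
  obtain ⟨v, hv⟩ := key C hC
  refine ⟨u, v, ?_⟩
  apply Subtype.ext
  rw [Matrix.SpecialLinearGroup.coe_mul, ← hu, ← hv]
  exact hA

/-- A non-central element of `SL₃` is not a scalar matrix. -/
theorem not_scalar_of_not_mem_center {A : Matrix.SpecialLinearGroup (Fin 3) F}
    (hA : A ∉ Subgroup.center (Matrix.SpecialLinearGroup (Fin 3) F)) (μ : F) :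
    (A : Matrix (Fin 3) (Fin 3) F) ≠ Matrix.scalar (Fin 3) μ := by
  intro h
  apply hA
  rw [Matrix.SpecialLinearGroup.mem_center_iff]
  refine ⟨μ, ?_, h.symm⟩
  have h1 := A.2
  rw [h] at h1
  simpa using h1

/-- From `SL₃` to `PSL₃`. -/
theorem psl_cover (X : Matrix.SpecialLinearGroup (Fin 3) F)
    (hX : ∀ A : Matrix.SpecialLinearGroup (Fin 3) F,
      A ∉ Subgroup.center (Matrix.SpecialLinearGroup (Fin 3) F) →
      ∃ u v : Matrix.SpecialLinearGroup (Fin 3) F, A = u * X * u⁻¹ * (v * X * v⁻¹))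
    (g : Matrix.ProjectiveSpecialLinearGroup (Fin 3) F) (hg : g ≠ 1) :
    ∃ u v : Matrix.ProjectiveSpecialLinearGroup (Fin 3) F,
      g = (u * (QuotientGroup.mk X : Matrix.ProjectiveSpecialLinearGroup (Fin 3) F) * u⁻¹) *
        (v * (QuotientGroup.mk X : Matrix.ProjectiveSpecialLinearGroup (Fin 3) F) * v⁻¹) := by
  obtain ⟨A, rfl⟩ := QuotientGroup.mk_surjective g
  have hA : A ∉ Subgroup.center (Matrix.SpecialLinearGroup (Fin 3) F) := by
    intro h
    exact hg ((QuotientGroup.eq_one_iff A).mpr h)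
  obtain ⟨u, v, huv⟩ := hX A hA
  refine ⟨QuotientGroup.mk u, QuotientGroup.mk v, ?_⟩
  rw [huv]
  rfl

end Cfsg.Agent.Helper8.L3Cov
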