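import Mathlib
import Cfsg.Agent.Helper8.L3CovD

set_option autoImplicit false

/-!
`PSL₃(F)`, `F` finite with more than two elements, has a semisimple class whose square covers
the non-identity elements.
-/

namespace Cfsg.Agent.Helper8.L3Cov

open Matrix

theorem exists_sq_ne_one {F : Type*} [Field F] [Fintype F] (h4 : 4 ≤ Fintype.card F) :
    ∃ a : F, a ≠ 0 ∧ a ^ 2 ≠ 1 := by
  classical
  by_contra hcon
  push Not at hcon
  have hsub : (Finset.univ : Finset F) ⊆ {0, 1, -1} := by
    intro a _
    by_cases ha : a = 0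
    · simp [ha]
    · have h1 := hcon a ha
      have h2 : (a - 1) * (a + 1) = 0 := by linear_combination h1
      rcases mul_eq_zero.mp h2 with h | h
      · have : a = 1 := by linear_combination h
        simp [this]
      · have : a = -1 := by linear_combination h
        simp [this]
  have h1 := Finset.card_le_card hsub
  have h2 : ({0, 1, -1} : Finset F).card ≤ 3 := Finset.card_le_three
  rw [Finset.card_univ] at h1
  omega

theorem X3_pow_four (F : Type*) [Field F] : X3 F ^ 4 = 1 := by
  have hsq : X3 F * X3 F = !![-1, 0, 0; 0, 1, 0; 0, 0, -1] := by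
    ext i j
    fin_cases i <;> fin_cases j <;> simp [X3, Matrix.mul_apply, Fin.sum_univ_three]
  rw [show (4 : ℕ) = 2 + 2 from rfl, pow_add, pow_two, hsq]
  ext i j
  fin_cases i <;> fin_cases j <;> simp [Matrix.mul_apply, Fin.sum_univ_three]

theorem Dg_pow {F : Type*} [Field F] [Fintype F] {a : F} (ha : a ≠ 0) :
    Dg a ^ (Fintype.card F - 1) = 1 := by
  have h1 : Dg a = Matrix.diagonal ![a, a⁻¹, 1] := by
    ext i j
    fin_cases i <;> fin_cases j <;> simp [Dg]
  rw [h1, Matrix.diagonal_pow, ← Matrix.diagonal_one]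
  congr 1
  ext i
  fin_cases i <;> simp [FiniteField.pow_card_sub_one_eq_one a ha]

theorem main {F : Type*} [Field F] [Fintype F] (p : ℕ) [Fact p.Prime] [CharP F p]
    (h3 : 3 ≤ Fintype.card F) :
    ∃ x : Matrix.ProjectiveSpecialLinearGroup (Fin 3) F, ¬ p ∣ orderOf x ∧
      ∀ g : Matrix.ProjectiveSpecialLinearGroup (Fin 3) F, g ≠ 1 →
        ∃ u v : Matrix.ProjectiveSpecialLinearGroup (Fin 3) F,
          g = (u * x * u⁻¹) * (v * x * v⁻¹) := by
  have hp : p.Prime := Fact.out
  have hpdvd : p ∣ Fintype.card F := by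
    rw [← CharP.cast_eq_zero_iff F p]
    exact Nat.cast_card_eq_zero F
  by_cases hq : Fintype.card F = 3
  · have hp3 : p = 3 := by
      rw [hq] at hpdvd
      exact (Nat.prime_dvd_prime_iff_eq hp Nat.prime_three).mp hpdvd
    subst hp3
    have hdet : (X3 F).det = 1 := by simp [X3, det_fin_three]
    set X : Matrix.SpecialLinearGroup (Fin 3) F := ⟨X3 F, hdet⟩ with hX
    refine ⟨QuotientGroup.mk X, ?_, ?_⟩
    · have h4 : X ^ 4 = 1 := by
        apply Subtype.ext
        rw [Matrix.SpecialLinearGroup.coe_pow, Matrix.SpecialLinearGroup.coe_one]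
        exact X3_pow_four F
      have h5 : (QuotientGroup.mk X : Matrix.ProjectiveSpecialLinearGroup (Fin 3) F) ^ 4 = 1 := by
        rw [← QuotientGroup.mk_pow, h4]
        rfl
      intro hdiv
      have h6 := Nat.dvd_trans hdiv (orderOf_dvd_of_pow_eq_one h5)
      omega
    · apply psl_cover X
      intro A hA
      apply exists_conj_of_isProd
      · intro e he
        refine ⟨!![1, 0, 0; 0, e, 0; 0, 0, 1], ?_, by simp [det_fin_three]⟩
        change !![1, 0, 0; 0, e, 0; 0, 0, 1] * X3 F = X3 F * !![1, 0, 0; 0, e, 0; 0, 0, 1]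
        ext i j
        fin_cases i <;> fin_cases j <;> simp [X3, Matrix.mul_apply, Fin.sum_univ_three]
      · exact isProd_X3 hq (not_scalar_of_not_mem_center hA) A.2
  · have h4 : 4 ≤ Fintype.card F := by omega
    obtain ⟨a, ha, ha2⟩ := exists_sq_ne_one h4
    have hdet : (Dg a).det = 1 := by simp [Dg, det_fin_three, ha]
    set X : Matrix.SpecialLinearGroup (Fin 3) F := ⟨Dg a, hdet⟩ with hX
    refine ⟨QuotientGroup.mk X, ?_, ?_⟩
    · have h5 : X ^ (Fintype.card F - 1) = 1 := by
        apply Subtype.ext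
        rw [Matrix.SpecialLinearGroup.coe_pow, Matrix.SpecialLinearGroup.coe_one]
        exact Dg_pow ha
      have h6 : (QuotientGroup.mk X : Matrix.ProjectiveSpecialLinearGroup (Fin 3) F) ^
          (Fintype.card F - 1) = 1 := by
        rw [← QuotientGroup.mk_pow, h5]
        rfl
      intro hdiv
      have h7 := Nat.dvd_trans hdiv (orderOf_dvd_of_pow_eq_one h6)
      have h8 : p ∣ Fintype.card F - (Fintype.card F - 1) := Nat.dvd_sub hpdvd h7
      have h9 : Fintype.card F - (Fintype.card F - 1) = 1 := by omega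
      rw [h9] at h8
      exact hp.one_lt.ne' (Nat.dvd_one.mp h8)
    · apply psl_cover X
      intro A hA
      apply exists_conj_of_isProd
      · intro e he
        refine ⟨!![1, 0, 0; 0, 1, 0; 0, 0, e], ?_, by simp [det_fin_three]⟩
        change !![1, 0, 0; 0, 1, 0; 0, 0, e] * Dg a = Dg a * !![1, 0, 0; 0, 1, 0; 0, 0, e]
        ext i j
        fin_cases i <;> fin_cases j <;> simp [Dg, Matrix.mul_apply, Fin.sum_univ_three]
      · exact isProd_Dg ha ha2 (not_scalar_of_not_mem_center hA) A.2

end Cfsg.Agent.Helper8.L3Cov
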