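import Mathlib
import Cfsg.Agent.Helper8.LSB

set_option autoImplicit false

/-! An abelian unipotent subgroup of `Sp_{2n}` and some normalising elements. -/

namespace Cfsg.Agent.Helper8.LS

open scoped BigOperators
open Matrix

section sp

variable {F : Type*} [Field F] {k : ℕ}

/-- The first basis vector. -/
def E0 (F : Type*) [Field F] (k : ℕ) : Fin (k + 1) → F := Pi.single 0 1

theorem mulVec_E0 (M : Matrix (Fin (k + 1)) (Fin (k + 1)) F) : M *ᵥ E0 F k = fun i => M i 0 := by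
  ext i
  simp [E0]

theorem E0_dot (a : Fin (k + 1) → F) : E0 F k ⬝ᵥ a = a 0 := by simp [E0]

theorem dot_E0 (a : Fin (k + 1) → F) : a ⬝ᵥ E0 F k = a 0 := by simp [E0]

/-- The symmetric matrix `e₀ ⊗ a + a ⊗ e₀`. -/
def Bmat (a : Fin (k + 1) → F) : Matrix (Fin (k + 1)) (Fin (k + 1)) F :=
  vecMulVec (E0 F k) a + vecMulVec a (E0 F k)

theorem Bmat_transpose (a : Fin (k + 1) → F) : (Bmat a)ᵀ = Bmat a := by
  unfold Bmat
  rw [transpose_add, transpose_vecMulVec, transpose_vecMulVec]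
  exact add_comm _ _

theorem Bmat_add (a a' : Fin (k + 1) → F) : Bmat (a + a') = Bmat a + Bmat a' := by
  unfold Bmat
  rw [vecMulVec_add, add_vecMulVec]
  abel

theorem Bmat_zero : Bmat (0 : Fin (k + 1) → F) = 0 := by
  unfold Bmat
  simp

theorem Bmat_E0_apply : Bmat (E0 F k) 0 0 = 2 := by
  simp [Bmat, vecMulVec_apply, E0]
  norm_num

theorem mul_Bmat_mul (g : Matrix (Fin (k + 1)) (Fin (k + 1)) F) (c : F)
    (hg : g *ᵥ E0 F k = c • E0 F k) (a : Fin (k + 1) → F) :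
    g * Bmat a * gᵀ = Bmat (c • g *ᵥ a) := by
  unfold Bmat
  rw [mul_add, add_mul, mul_vecMulVec, mul_vecMulVec, vecMulVec_mul, vecMulVec_mul,
    vecMul_transpose, vecMul_transpose, hg]
  rw [smul_vecMulVec, vecMulVec_smul, vecMulVec_smul, smul_vecMulVec]

/-- The unipotent elements. -/
def Usp (a : Fin (k + 1) → F) : ↥(Matrix.symplecticGroup (Fin (k + 1)) F) :=
  ⟨fromBlocks 1 (Bmat a) 0 1, by
    rw [SymplecticGroup.fromBlocks_mem_iff]
    refine ⟨by simp, ?_, by simp⟩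
    rw [Bmat_transpose]
    simp⟩

theorem Usp_coe (a : Fin (k + 1) → F) :
    ((Usp a : ↥(Matrix.symplecticGroup (Fin (k + 1)) F)) :
      Matrix (Fin (k + 1) ⊕ Fin (k + 1)) (Fin (k + 1) ⊕ Fin (k + 1)) F)
      = fromBlocks 1 (Bmat a) 0 1 := rfl

theorem Usp_mul (a a' : Fin (k + 1) → F) : Usp a * Usp a' = Usp (a + a') := by
  apply Subtype.ext
  rw [Submonoid.coe_mul, Usp_coe, Usp_coe, Usp_coe, fromBlocks_multiply, Bmat_add]
  simp [add_comm]

theorem Usp_zero : Usp (0 : Fin (k + 1) → F) = 1 := by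
  apply Subtype.ext
  rw [Usp_coe, Bmat_zero, Submonoid.coe_one, fromBlocks_one]

/-- The unipotent elements as a homomorphism. -/
def UspHom : Multiplicative (Fin (k + 1) → F) →* ↥(Matrix.symplecticGroup (Fin (k + 1)) F) where
  toFun a := Usp a.toAdd
  map_one' := Usp_zero
  map_mul' := by
    intro a b
    rw [Usp_mul]
    rfl

/-- The Levi elements `diag(g, g⁻ᵀ)`. -/
def Lsp (g : GL (Fin (k + 1)) F) : ↥(Matrix.symplecticGroup (Fin (k + 1)) F) :=
  ⟨fromBlocks (g : Matrix (Fin (k + 1)) (Fin (k + 1)) F) 0 0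
      ((g⁻¹ : GL (Fin (k + 1)) F) : Matrix (Fin (k + 1)) (Fin (k + 1)) F)ᵀ, by
    rw [SymplecticGroup.fromBlocks_mem_iff]
    refine ⟨by simp, by simp, ?_⟩
    rw [← transpose_mul, ← Units.val_mul, inv_mul_cancel]
    simp⟩

theorem Lsp_coe (g : GL (Fin (k + 1)) F) :
    ((Lsp g : ↥(Matrix.symplecticGroup (Fin (k + 1)) F)) :
      Matrix (Fin (k + 1) ⊕ Fin (k + 1)) (Fin (k + 1) ⊕ Fin (k + 1)) F)
      = fromBlocks (g : Matrix (Fin (k + 1)) (Fin (k + 1)) F) 0 0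
      ((g⁻¹ : GL (Fin (k + 1)) F) : Matrix (Fin (k + 1)) (Fin (k + 1)) F)ᵀ := rfl

theorem Lsp_mul_Usp (g : GL (Fin (k + 1)) F) (c : F)
    (hg : (g : Matrix (Fin (k + 1)) (Fin (k + 1)) F) *ᵥ E0 F k = c • E0 F k)
    (a : Fin (k + 1) → F) :
    Lsp g * Usp a = Usp (c • (g : Matrix (Fin (k + 1)) (Fin (k + 1)) F) *ᵥ a) * Lsp g := by
  apply Subtype.ext
  rw [Submonoid.coe_mul, Submonoid.coe_mul, Usp_coe, Usp_coe, Lsp_coe, fromBlocks_multiply,
    fromBlocks_multiply, ← mul_Bmat_mul _ c hg a]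
  simp only [mul_one, mul_zero, add_zero, zero_mul, zero_add, one_mul]
  congr 1
  rw [Matrix.mul_assoc, ← transpose_mul, ← Units.val_mul, inv_mul_cancel]
  simp

theorem Usp_E0_not_mem_center (h2 : (2 : F) ≠ 0) :
    UspHom (Multiplicative.ofAdd (E0 F k)) ∉
      Subgroup.center ↥(Matrix.symplecticGroup (Fin (k + 1)) F) := by
  intro h
  rw [Subgroup.mem_center_iff] at h
  have h1 := h (SymplecticGroup.symJ (Fin (k + 1)) F)
  have h3 := congrArg Subtype.val h1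
  rw [Submonoid.coe_mul, Submonoid.coe_mul, SymplecticGroup.coe_J] at h3
  change J (Fin (k + 1)) F * fromBlocks 1 (Bmat (E0 F k)) 0 1
    = fromBlocks 1 (Bmat (E0 F k)) 0 1 * J (Fin (k + 1)) F at h3
  unfold J at h3
  rw [fromBlocks_multiply, fromBlocks_multiply] at h3
  have h4 := congrFun (congrFun h3 (Sum.inl 0)) (Sum.inl 0)
  simp only [fromBlocks_apply₁₁] at h4
  simp at h4
  rw [Bmat_E0_apply] at h4
  exact h2 h4.symm

end sp

end Cfsg.Agent.Helper8.LS
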