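import Mathlib
import Cfsg.Agent.Helper8.LSE

set_option autoImplicit false

/-! The Landazuri–Seitz bound for `Sp_{2n}(q)`, `q` odd. -/

namespace Cfsg.Agent.Helper8.LS

open scoped BigOperators
open Matrix

section gl

variable {F : Type*} [Field F] {k : ℕ}

/-- The unipotent element `1 + e₀ ⊗ y` of `GL`. -/
def unipGL (y : Fin (k + 1) → F) (hy : y 0 = 0) : GL (Fin (k + 1)) F :=
  ⟨1 + vecMulVec (E0 F k) y, 1 - vecMulVec (E0 F k) y, by
    rw [add_mul, mul_sub, mul_sub, mul_one, one_mul, vecMulVec_mul_vecMulVec, dot_E0, hy, zero_smul]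
    simp, by
    rw [sub_mul, mul_add, mul_add, mul_one, one_mul, vecMulVec_mul_vecMulVec, dot_E0, hy, zero_smul]
    simp⟩

theorem unipGL_coe (y : Fin (k + 1) → F) (hy : y 0 = 0) :
    ((unipGL y hy : GL (Fin (k + 1)) F) : Matrix (Fin (k + 1)) (Fin (k + 1)) F)
      = 1 + vecMulVec (E0 F k) y := rfl

theorem unipGL_mulVec_E0 (y : Fin (k + 1) → F) (hy : y 0 = 0) :
    ((unipGL y hy : GL (Fin (k + 1)) F) : Matrix (Fin (k + 1)) (Fin (k + 1)) F) *ᵥ E0 F k
      = (1 : F) • E0 F k := by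
  rw [unipGL_coe, add_mulVec, one_mulVec, vecMulVec_mulVec, dot_E0, hy, one_smul]
  simp

theorem unipGL_transpose_mulVec (y : Fin (k + 1) → F) (hy : y 0 = 0) (b : Fin (k + 1) → F) :
    ((unipGL y hy : GL (Fin (k + 1)) F) : Matrix (Fin (k + 1)) (Fin (k + 1)) F)ᵀ *ᵥ b
      = b + b 0 • y := by
  rw [unipGL_coe, transpose_add, transpose_one, transpose_vecMulVec, add_mulVec, one_mulVec,
    vecMulVec_mulVec, E0_dot]
  congr 1
  ext i
  simp [mul_comm]

/-- The diagonal element `diag(μ, 1, …, 1)` of `GL`. -/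
def diagGL (μ : Fˣ) : GL (Fin (k + 1)) F :=
  ⟨diagonal (Function.update 1 0 (μ : F)), diagonal (Function.update 1 0 ((μ⁻¹ : Fˣ) : F)), by
    rw [diagonal_mul_diagonal, ← diagonal_one]
    congr 1
    ext i
    by_cases hi : i = 0
    · subst hi; simp
    · simp [hi], by
    rw [diagonal_mul_diagonal, ← diagonal_one]
    congr 1
    ext i
    by_cases hi : i = 0
    · subst hi; simp
    · simp [hi]⟩

theorem diagGL_coe (μ : Fˣ) :
    ((diagGL μ : GL (Fin (k + 1)) F) : Matrix (Fin (k + 1)) (Fin (k + 1)) F)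
      = diagonal (Function.update 1 0 (μ : F)) := rfl

theorem diagGL_mulVec_E0 (μ : Fˣ) :
    ((diagGL μ : GL (Fin (k + 1)) F) : Matrix (Fin (k + 1)) (Fin (k + 1)) F) *ᵥ E0 F k
      = (μ : F) • E0 F k := by
  rw [diagGL_coe]
  ext i
  rw [mulVec_diagonal]
  by_cases hi : i = 0
  · subst hi; simp [E0]
  · simp [hi, E0]

theorem diagGL_transpose_mulVec (μ : Fˣ) (b : Fin (k + 1) → F) (i : Fin (k + 1)) :
    (((diagGL μ : GL (Fin (k + 1)) F) : Matrix (Fin (k + 1)) (Fin (k + 1)) F)ᵀ *ᵥ b) i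
      = if i = 0 then (μ : F) * b 0 else b i := by
  rw [diagGL_coe, diagonal_transpose, mulVec_diagonal]
  by_cases hi : i = 0
  · subst hi; simp
  · simp [hi]

end gl

end Cfsg.Agent.Helper8.LS
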