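import Mathlib
import Cfsg.Agent.Helper8.LSF

set_option autoImplicit false

/-! The Landazuri–Seitz bound for `Sp_{2n}(q)`, `q` odd: assembly. -/

namespace Cfsg.Agent.Helper8.LS

open scoped BigOperators
open Matrix

section main

variable {F : Type*} [Field F] [Fintype F] {k : ℕ} {K₀ : Type*} [Field K₀] {d : ℕ}

theorem sp_bound (hodd : Odd (Fintype.card F)) (hK : ringChar K₀ ≠ ringChar F)
    (ρ : ↥(Matrix.symplecticGroup (Fin (k + 2)) F) →* GL (Fin d) K₀)
    (hker : ρ.ker ≤ Subgroup.center ↥(Matrix.symplecticGroup (Fin (k + 2)) F)) :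
    Fintype.card F ^ (k + 1) * (Fintype.card F - 1) / 2 ≤ d := by
  classical
  obtain ⟨r, hcr⟩ := CharP.exists F
  haveI := hcr
  have hrp : r.Prime := CharP.char_is_prime F r
  have hrF : ringChar F = r := ringChar.eq F r
  have h2 : (2 : F) ≠ 0 := by
    intro h2
    haveI : CharP F 2 := CharTwo.of_one_ne_zero_of_two_eq_zero one_ne_zero h2
    have h := FiniteField.even_card_of_char_two (ringChar.eq F 2)
    rw [Nat.odd_iff] at hodd
    omega
  have hr0 : (r : K₀) ≠ 0 := by
    intro h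
    have h1 : ringChar K₀ ∣ r := ringChar.dvd h
    rcases (Nat.dvd_prime hrp).mp h1 with h2 | h2
    · exact CharP.ringChar_ne_one h2
    · exact hK (h2.trans hrF.symm)
  haveI : NeZero (r : K₀) := ⟨hr0⟩
  have hrK : (r : AlgebraicClosure K₀) ≠ 0 := by
    intro h
    apply hr0
    apply (algebraMap K₀ (AlgebraicClosure K₀)).injective
    rw [map_natCast, h, map_zero]
  haveI hE0 : HasEnoughRootsOfUnity (AlgebraicClosure K₀) r := inferInstance
  haveI hE1 : HasEnoughRootsOfUnity (AlgebraicClosure K₀)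
      (Monoid.exponent (Multiplicative (Fin (k + 2) → F))) := hasEnough_exponent r
  haveI hE2 : HasEnoughRootsOfUnity (AlgebraicClosure K₀)
      (Monoid.exponent (Multiplicative F)) := hasEnough_exponent' r
  obtain ⟨ψ, hψ⟩ := exists_char_ne_one (F := F) (K := AlgebraicClosure K₀)
  let T : Multiplicative (Fin (k + 2) → F) →*
      Module.End (AlgebraicClosure K₀) (Fin d → AlgebraicClosure K₀) :=
    (extRep ρ).comp (UspHom (k := k + 1))
  have hA : (Fintype.card (Multiplicative (Fin (k + 2) → F)) : AlgebraicClosure K₀) ≠ 0 := by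
    have : Fintype.card (Multiplicative (Fin (k + 2) → F)) = Fintype.card F ^ (k + 2) := by
      rw [Fintype.card_multiplicative, Fintype.card_fun, Fintype.card_fin]
    rw [this]
    exact card_ne_zero_of_charP r hrK _
  -- a weight with nonzero first coordinate
  have hz : T (Multiplicative.ofAdd (E0 F (k + 1))) ≠ 1 := by
    intro h
    have h1 : extRep ρ (UspHom (Multiplicative.ofAdd (E0 F (k + 1)))) = 1 := h
    rw [extRep_eq_one_iff] at h1
    exact Usp_E0_not_mem_center h2 (hker h1)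
  obtain ⟨χ, hχne, hχ1⟩ := exists_wt_ne_bot T hA _ hz
  obtain ⟨b, rfl⟩ := (dotChar_bijective (ι := Fin (k + 2)) hψ).2 χ
  have hb0 : b 0 ≠ 0 := by
    intro h
    apply hχ1
    rw [dotChar_apply, E0_dot, h, ofAdd_zero, map_one]
  -- moving weights
  have hmove : ∀ (g : GL (Fin (k + 2)) F) (c : F), c ≠ 0 →
      (g : Matrix (Fin (k + 2)) (Fin (k + 2)) F) *ᵥ E0 F (k + 1) = c • E0 F (k + 1) →
      ∀ b₁ b₂ : Fin (k + 2) → F,
        b₁ = c • ((g : Matrix (Fin (k + 2)) (Fin (k + 2)) F)ᵀ *ᵥ b₂) →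
        wt T (dotChar ψ b₁) ≠ ⊥ → wt T (dotChar ψ b₂) ≠ ⊥ := by
    intro g c hc hg b₁ b₂ hb hne
    refine wt_ne_bot_of_conj' T (extRep ρ (Lsp g)) (extRep_injective_apply ρ _) (dotChar ψ b₂)
      (dotChar ψ b₁) ?_ hne
    intro a'
    refine ⟨Multiplicative.ofAdd (((g⁻¹ : GL (Fin (k + 2)) F) :
      Matrix (Fin (k + 2)) (Fin (k + 2)) F) *ᵥ (c⁻¹ • a'.toAdd)), ?_, ?_⟩
    · show extRep ρ (Lsp g) * extRep ρ (UspHom _) = extRep ρ (UspHom a') * extRep ρ (Lsp g)
      rw [← map_mul, ← map_mul]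
      congr 1
      show Lsp g * Usp _ = Usp a'.toAdd * Lsp g
      rw [Lsp_mul_Usp g c hg]
      congr 2
      rw [toAdd_ofAdd, mulVec_mulVec, ← Units.val_mul, mul_inv_cancel, Units.val_one, one_mulVec,
        smul_smul, mul_inv_cancel₀ hc, one_smul]
    · rw [dotChar_apply]
      have : a' = Multiplicative.ofAdd a'.toAdd := rfl
      rw [this, dotChar_apply]
      congr 2
      rw [hb, dotProduct_smul, dotProduct_mulVec, vecMul_transpose, mulVec_mulVec,
        ← Units.val_mul, mul_inv_cancel, Units.val_one, one_mulVec, smul_dotProduct, smul_smul,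
        mul_inv_cancel₀ hc, one_smul]
      rfl
  -- all the weights in the orbit
  have hall : ∀ (μ : Fˣ) (c : Fin (k + 1) → F),
      wt T (dotChar ψ (Fin.cons ((μ : F) ^ 2 * b 0) c : Fin (k + 2) → F)) ≠ ⊥ := by
    intro μ c
    set b' : Fin (k + 2) → F := Fin.cons (b 0) (((μ⁻¹ : Fˣ) : F) • c) with hb'
    have hb'0 : b' 0 = b 0 := by simp [hb']
    have h1 : wt T (dotChar ψ b') ≠ ⊥ := by
      have hy : ((b 0)⁻¹ • (b - b')) 0 = 0 := by
        simp [hb'0]
      refine hmove (unipGL _ hy) 1 one_ne_zero (unipGL_mulVec_E0 _ hy) b b' ?_ hχne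
      rw [one_smul, unipGL_transpose_mulVec, hb'0, smul_smul, mul_inv_cancel₀ hb0, one_smul]
      abel
    refine hmove (diagGL μ⁻¹) ((μ⁻¹ : Fˣ) : F) (Units.ne_zero _) (diagGL_mulVec_E0 _) b' _ ?_ h1
    ext i
    rw [Pi.smul_apply, diagGL_transpose_mulVec]
    refine Fin.cases ?_ (fun j => ?_) i
    · simp [hb']
      field_simp
    · simp [hb', Fin.succ_ne_zero]
  -- count
  let φ : Fˣ × (Fin (k + 1) → F) → (Multiplicative (Fin (k + 2) → F) →* (AlgebraicClosure K₀)ˣ) :=
    fun x => dotChar ψ (Fin.cons ((x.1 : F) ^ 2 * b 0) x.2 : Fin (k + 2) → F)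
  let S : Finset (Multiplicative (Fin (k + 2) → F) →* (AlgebraicClosure K₀)ˣ) :=
    Finset.univ.image φ
  have hS : S.card ≤ d := by
    have h1 := card_le_finrank T hA (fun x : S => x.1) Subtype.val_injective (by
      intro x
      obtain ⟨y, _, hy⟩ := Finset.mem_image.mp x.2
      rw [← hy]
      exact hall y.1 y.2)
    rwa [Module.finrank_fin_fun, Fintype.card_coe] at h1
  have hfib : ∀ a ∈ S, (Finset.univ.filter (fun x => φ x = a)).card ≤ 2 := by
    intro a ha
    obtain ⟨y, _, hy⟩ := Finset.mem_image.mp ha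
    have hsub : Finset.univ.filter (fun x => φ x = a) ⊆ {y, (-y.1, y.2)} := by
      intro x hx
      rw [Finset.mem_filter] at hx
      have h1 := dotChar_injective hψ (hx.2.trans hy.symm)
      have h2 := congrFun h1 0
      simp only [Fin.cons_zero] at h2
      have h3 : x.2 = y.2 := Fin.cons_right_injective _ (by
        have : (Fin.cons ((x.1 : F) ^ 2 * b 0) x.2 : Fin (k + 2) → F)
            = Fin.cons ((x.1 : F) ^ 2 * b 0) y.2 := by
          rw [h1, h2]
        exact this)
      have h4 : (x.1 : F) ^ 2 = (y.1 : F) ^ 2 := mul_right_cancel₀ hb0 h2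
      rw [Finset.mem_insert, Finset.mem_singleton]
      rcases sq_eq_sq_iff_eq_or_eq_neg.mp h4 with h5 | h5
      · left
        exact Prod.ext (Units.ext h5) h3
      · right
        exact Prod.ext (Units.ext (by simpa using h5)) h3
    exact le_trans (Finset.card_le_card hsub) Finset.card_le_two
  have hcard := Finset.card_le_mul_card_image (s := Finset.univ) (f := φ) 2 hfib
  rw [Finset.card_univ, Fintype.card_prod, Fintype.card_units, Fintype.card_fun,
    Fintype.card_fin] at hcard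
  apply Nat.div_le_of_le_mul
  calc Fintype.card F ^ (k + 1) * (Fintype.card F - 1)
      = (Fintype.card F - 1) * Fintype.card F ^ (k + 1) := mul_comm _ _
    _ ≤ 2 * S.card := hcard
    _ ≤ 2 * d := Nat.mul_le_mul_left _ hS

end main

end Cfsg.Agent.Helper8.LS
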