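import Mathlib
import Cfsg.Agent.Helper8.LSI

set_option autoImplicit false

/-! The Landazuri–Seitz bound for the Suzuki groups. -/

namespace Cfsg.Agent.Helper8.LS

open scoped BigOperators
open Cfsg.Agent.Helper7.Sz

section suzuki

variable {F : Type*} [Field F] [Fintype F] {m : ℕ} {k : ℕ}

/-- The dimension of a non-zero weight space of the centre of the Sylow 2-subgroup. -/
theorem finrank_wt_ge (h : FH F m) (ρ : Cfsg.Sz F m →* Module.End ℂ (Fin k → ℂ))
    [HasEnoughRootsOfUnity ℂ (Monoid.exponent (Multiplicative F))]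
    {ψ : Multiplicative F →* ℂˣ} (hψ : ψ ≠ 1)
    (hinv : ∀ x : F, ψ (Multiplicative.ofAdd (sg m x)) = ψ (Multiplicative.ofAdd x))
    {c : F} (hc : c ≠ 0)
    (hW : wt (ρ.comp (zetaHom h)) (scalChar ψ c) ≠ ⊥) :
    2 ^ m ≤ Module.finrank ℂ (wt (ρ.comp (zetaHom h)) (scalChar ψ c)) := by
  classical
  set T := ρ.comp (zetaHom h) with hT
  set W := wt T (scalChar ψ c) with hWdef
  haveI : Nontrivial W := (Submodule.nontrivial_iff_ne_bot).mpr hW
  haveI hcp : CharP F 2 := h.charP
  -- `W` is stable under the Sylow subgroup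
  have stab : ∀ (a b : F) (v : Fin k → ℂ), v ∈ W → ρ (TelS h a b) v ∈ W := by
    intro a b v hv z
    have hz : z = Multiplicative.ofAdd z.toAdd := rfl
    have h1 : T z (ρ (TelS h a b) v) = ρ (TelS h a b) (T z v) := by
      show ρ (zetaHom h z) (ρ (TelS h a b) v) = ρ (TelS h a b) (ρ (zetaHom h z) v)
      rw [← Module.End.mul_apply, ← Module.End.mul_apply, ← map_mul, ← map_mul, hz, TelS_comm_zeta]
    rw [h1, hv z, map_smul]
  let R : F → F → Module.End ℂ W := fun a b => (ρ (TelS h a b)).restrict (stab a b)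
  have R_apply : ∀ (a b : F) (w : W), ((R a b w : W) : Fin k → ℂ) = ρ (TelS h a b) w :=
    fun _ _ _ => rfl
  -- the index set
  set u : F := c / sg m c with hu
  have hu0 : u ≠ 0 := div_ne_zero hc (sg_ne_zero hc)
  let N : AddSubgroup F := AddSubgroup.zmultiples u
  have hN : ∀ d : F, d ∈ N ↔ d = 0 ∨ d = u := by
    intro d
    constructor
    · intro hd
      obtain ⟨n, rfl⟩ := AddSubgroup.mem_zmultiples_iff.mp hd
      rcases Int.even_or_odd n with ⟨j, rfl⟩ | ⟨j, rfl⟩
      · left
        rw [add_zsmul, h.add_self]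
      · right
        rw [add_zsmul, one_zsmul, two_mul, add_zsmul, h.add_self, zero_add]
    · rintro (rfl | rfl)
      · exact N.zero_mem
      · exact AddSubgroup.mem_zmultiples u
  let rep : F ⧸ N → F := fun i => Quotient.out i
  have hrep : ∀ i j : F ⧸ N, rep i - rep j ∈ N → i = j := by
    intro i j hij
    have hi : ((rep i : F) : F ⧸ N) = i := Quotient.out_eq i
    have hj : ((rep j : F) : F ⧸ N) = j := Quotient.out_eq j
    rw [← hi, ← hj]
    exact (QuotientAddGroup.eq_iff_sub_mem).mpr hij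
  -- the characters
  let ε : F ⧸ N → (Multiplicative F →* ℂˣ) := fun i =>
    ψ.comp (AddMonoidHom.toMultiplicative
      ({ toFun := fun y => c * (sg m y * rep i + sg m (rep i) * y)
         map_zero' := by simp [sg_zero]
         map_add' := by
           intro x y
           rw [h.sg_add]
           ring } : F →+ F))
  have ε_apply : ∀ (i : F ⧸ N) (y : F), ε i (Multiplicative.ofAdd y)
      = ψ (Multiplicative.ofAdd (c * (sg m y * rep i + sg m (rep i) * y))) := fun _ _ => rfl
  have hε : Function.Injective ε := by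
    intro i j hij
    apply hrep
    rw [hN]
    apply char_radical h hψ hinv hc
    intro y
    have h1 := DFunLike.congr_fun hij (Multiplicative.ofAdd y)
    rw [ε_apply, ε_apply] at h1
    have h2 : c * (sg m y * (rep i - rep j) + sg m (rep i - rep j) * y)
        = c * (sg m y * rep i + sg m (rep i) * y) - c * (sg m y * rep j + sg m (rep j) * y) := by
      rw [h.sub_eq, h.sg_add, h.sub_eq]
      ring
    rw [h2, sub_eq_add_neg, ofAdd_add, map_mul, ofAdd_neg, map_inv, h1, mul_inv_cancel]
  -- the operators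
  have hS : ∀ i : F ⧸ N, R (rep i) 0 ≠ 0 := by
    intro i h0
    obtain ⟨w, hw⟩ := exists_ne (0 : W)
    apply hw
    have h1 : (R (rep i) 0 w : W) = 0 := by rw [h0]; rfl
    have h2 : ρ (TelS h (rep i) 0) (w : Fin k → ℂ) = 0 := by
      rw [← R_apply, h1]; rfl
    have h3 : ρ (TelS h (rep i) 0)⁻¹ (ρ (TelS h (rep i) 0) (w : Fin k → ℂ)) = (w : Fin k → ℂ) := by
      rw [← Module.End.mul_apply, ← map_mul, inv_mul_cancel, map_one]
      rfl
    rw [h2, map_zero] at h3
    exact Subtype.ext h3.symm
  have hrel : ∀ (y : Multiplicative F) (i : F ⧸ N),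
      R y.toAdd 0 * R (rep i) 0 * R y.toAdd (0 + sg m y.toAdd * y.toAdd)
        = ((ε i y : ℂˣ) : ℂ) • R (rep i) 0 := by
    intro y i
    apply LinearMap.ext
    intro w
    apply Subtype.ext
    rw [Module.End.mul_apply, Module.End.mul_apply, R_apply, R_apply, R_apply,
      LinearMap.smul_apply, Submodule.coe_smul, R_apply]
    rw [← TelS_inv h y.toAdd 0, ← Module.End.mul_apply, ← Module.End.mul_apply, ← map_mul,
      ← map_mul, TelS_conj, map_mul, Module.End.mul_apply]
    have hmem : ρ (TelS h (rep i) 0) (w : Fin k → ℂ) ∈ W := stab _ _ _ w.2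
    have := hmem (Multiplicative.ofAdd (sg m y.toAdd * rep i + sg m (rep i) * y.toAdd))
    rw [show T (Multiplicative.ofAdd (sg m y.toAdd * rep i + sg m (rep i) * y.toAdd))
      = ρ (zetaHom h (Multiplicative.ofAdd (sg m y.toAdd * rep i + sg m (rep i) * y.toAdd)))
      from rfl] at this
    rw [this, scalChar_apply]
    rfl
  have hY : (Fintype.card (Multiplicative F) : ℂ) ≠ 0 :=
    Nat.cast_ne_zero.mpr Fintype.card_ne_zero
  have hmain := card_le_finrank_sq hY (fun i : F ⧸ N => R (rep i) 0) hS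
    (fun y => R y.toAdd 0) (fun y => R y.toAdd (0 + sg m y.toAdd * y.toAdd)) ε hε hrel
  -- the count
  have hcardN : Nat.card N = 2 := by
    rw [Nat.card_zmultiples]
    have h1 : addOrderOf u ∣ 2 := addOrderOf_dvd_of_nsmul_eq_zero (by rw [two_nsmul, h.add_self])
    rcases (Nat.dvd_prime Nat.prime_two).mp h1 with h2 | h2
    · exact absurd (AddMonoid.addOrderOf_eq_one_iff.mp h2) hu0
    · exact h2
  have hcard : Fintype.card (F ⧸ N) * 2 = 2 ^ (2 * m + 1) := by
    have h1 := AddSubgroup.card_eq_card_quotient_mul_card_addSubgroup N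
    rw [hcardN, Nat.card_eq_fintype_card, Nat.card_eq_fintype_card, h.card] at h1
    exact h1.symm
  have hcard' : Fintype.card (F ⧸ N) = 2 ^ m * 2 ^ m := by
    have : 2 ^ (2 * m + 1) = (2 ^ m * 2 ^ m) * 2 := by ring
    rw [this] at hcard
    exact Nat.eq_of_mul_eq_mul_right (by norm_num) hcard
  rw [hcard'] at hmain
  exact Nat.mul_self_le_mul_self_iff.mp hmain

end suzuki

end Cfsg.Agent.Helper8.LS
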