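import Mathlib
import Cfsg.Agent.Helper8.LSJ

set_option autoImplicit false

/-! The Landazuri–Seitz bound for the Suzuki groups: assembly. -/

namespace Cfsg.Agent.Helper8.LS

open scoped BigOperators
open Cfsg.Agent.Helper7.Sz

section suzuki

variable {F : Type*} [Field F] [Fintype F] {m : ℕ} {k : ℕ}

theorem rep_apply_injective {G : Type*} [Group G] {V : Type*} [AddCommGroup V] [Module ℂ V]
    (ρ : G →* Module.End ℂ V) (g : G) : Function.Injective (ρ g) := by
  intro v w hvw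
  have h1 : ρ g⁻¹ (ρ g v) = ρ g⁻¹ (ρ g w) := by rw [hvw]
  rw [← Module.End.mul_apply, ← Module.End.mul_apply, ← map_mul, inv_mul_cancel, map_one] at h1
  exact h1

theorem sz_bound (h : FH F m) (ρ : Cfsg.Sz F m →* Module.End ℂ (Fin k → ℂ))
    (hρ : Function.Injective ρ) : 2 ^ m * (2 ^ (2 * m + 1) - 1) ≤ k := by
  classical
  haveI hcp : CharP F 2 := h.charP
  haveI : NeZero ((2 : ℕ) : ℂ) := ⟨by norm_num⟩
  haveI : HasEnoughRootsOfUnity ℂ 2 := inferInstance
  haveI hE : HasEnoughRootsOfUnity ℂ (Monoid.exponent (Multiplicative F)) := hasEnough_exponent' 2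
  let σ : F →+ F := { toFun := sg m, map_zero' := sg_zero m, map_add' := h.sg_add }
  obtain ⟨ψ, hψ, hinv⟩ := exists_invariant_char (K := ℂ) σ ⟨1, one_ne_zero, sg_one m⟩
  set T := ρ.comp (zetaHom h) with hT
  have hA : (Fintype.card (Multiplicative F) : ℂ) ≠ 0 :=
    Nat.cast_ne_zero.mpr Fintype.card_ne_zero
  have hz : T (Multiplicative.ofAdd 1) ≠ 1 := by
    intro h1
    have h2 : zetaHom h (Multiplicative.ofAdd 1) = 1 :=
      hρ ((show ρ (zetaHom h (Multiplicative.ofAdd 1)) = 1 from h1).trans (map_one ρ).symm)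
    rw [zetaHom_apply, ← TelS_zero h] at h2
    exact one_ne_zero (TelS_injective h h2).2
  obtain ⟨χ, hχne, hχ1⟩ := exists_wt_ne_bot T hA _ hz
  obtain ⟨c, rfl⟩ := (scalChar_bijective hψ).2 χ
  have hc : c ≠ 0 := by
    rintro rfl
    apply hχ1
    rw [scalChar_zero]
    rfl
  have hall : ∀ c' : F, c' ≠ 0 → wt T (scalChar ψ c') ≠ ⊥ := by
    intro c' hc'
    obtain ⟨u, hu0, hu⟩ := h.exists_sg_mul_self (div_ne_zero hc hc')
    obtain ⟨t, ht⟩ := h.sg_surjective u
    have ht0 : t ≠ 0 := by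
      rintro rfl
      rw [sg_zero] at ht
      exact hu0 ht.symm
    have hκ : t * t * sg m t = c / c' := by
      rw [← h.sg_sg t, ht, hu]
    have hκ0 : t * t * sg m t ≠ 0 := by
      rw [hκ]
      exact div_ne_zero hc hc'
    refine wt_ne_bot_of_conj' T (ρ (HelS h (Units.mk0 t ht0))) (rep_apply_injective ρ _)
      (scalChar ψ c') (scalChar ψ c) ?_ hχne
    intro a'
    refine ⟨Multiplicative.ofAdd ((t * t * sg m t)⁻¹ * a'.toAdd), ?_, ?_⟩
    · show ρ (HelS h (Units.mk0 t ht0)) * ρ (zetaHom h _) = ρ (zetaHom h a') * ρ (HelS h (Units.mk0 t ht0))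
      rw [← map_mul, ← map_mul, HelS_mul_zeta]
      congr 3
      show Multiplicative.ofAdd (t * t * sg m t * ((t * t * sg m t)⁻¹ * a'.toAdd)) = a'
      rw [← mul_assoc, mul_inv_cancel₀ hκ0, one_mul]
      rfl
    · have : a' = Multiplicative.ofAdd a'.toAdd := rfl
      rw [scalChar_apply, this, scalChar_apply]
      congr 2
      rw [toAdd_ofAdd, hκ, ← mul_assoc]
      congr 1
      field_simp
  have hdim : ∀ c' : F, c' ≠ 0 → 2 ^ m ≤ Module.finrank ℂ (wt T (scalChar ψ c')) :=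
    fun c' hc' => finrank_wt_ge h ρ hψ hinv hc' (hall c' hc')
  have hsum := sum_finrank_le T hA (fun c' : {c' : F // c' ≠ 0} => scalChar ψ c'.1)
    (fun x y hxy => Subtype.ext (scalChar_injective hψ hxy))
  rw [Module.finrank_fin_fun] at hsum
  calc 2 ^ m * (2 ^ (2 * m + 1) - 1) = ∑ _c' : {c' : F // c' ≠ 0}, 2 ^ m := by
        rw [Finset.sum_const, Finset.card_univ, Fintype.card_subtype_compl, h.card, smul_eq_mul,
          mul_comm]
        simp
    _ ≤ ∑ c' : {c' : F // c' ≠ 0}, Module.finrank ℂ (wt T (scalChar ψ c'.1)) :=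
        Finset.sum_le_sum (fun c' _ => hdim c'.1 c'.2)
    _ ≤ k := hsum

end suzuki

end Cfsg.Agent.Helper8.LS
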