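import Mathlib
import Cfsg.Agent.Helper8.LSK
import Cfsg.Agent.S1162

set_option autoImplicit false

/-! Irreducible representations of degree at least two are non-trivial; the Suzuki bound for the
Lie-type model. -/

namespace Cfsg.Agent.Helper8.LS

open Cfsg.Agent.Helper7.Sz

theorem exists_ne_one_of_irreducible {G : Type*} [Group G] {k : ℕ}
    (ρ : Representation ℂ G (Fin k → ℂ)) (hirr : ρ.IsIrreducible) (hk : 2 ≤ k) :
    ∃ g : G, ρ g ≠ 1 := by
  classical
  by_contra hcon
  push_neg at hcon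
  let i0 : Fin k := ⟨0, by omega⟩
  let i1 : Fin k := ⟨1, by omega⟩
  let W : Subrepresentation ρ :=
    ⟨Submodule.span ℂ {(Pi.single i0 1 : Fin k → ℂ)}, fun g v hv => by
      rw [hcon g]
      exact hv⟩
  haveI := hirr
  rcases eq_bot_or_eq_top W with hW | hW
  · have h1 : W.toSubmodule = ⊥ := by rw [hW]; rfl
    have h2 : (Pi.single i0 1 : Fin k → ℂ) ∈ W.toSubmodule :=
      Submodule.subset_span (Set.mem_singleton _)
    rw [h1, Submodule.mem_bot] at h2
    have := congrFun h2 i0
    simp at this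
  · have h1 : W.toSubmodule = ⊤ := by rw [hW]; rfl
    have h2 : (Pi.single i1 1 : Fin k → ℂ) ∈ W.toSubmodule := by rw [h1]; exact Submodule.mem_top
    obtain ⟨a, ha⟩ := Submodule.mem_span_singleton.mp h2
    have := congrFun ha i1
    have hne : i1 ≠ i0 := by
      intro h
      have := congrArg Fin.val h
      simp [i0, i1] at this
    simp [hne] at this

theorem sz_lie_bound {F : Type*} [Field F] [Fintype F] (m : ℕ) (hm : 1 ≤ m)
    (hF : Fintype.card F = 2 ^ (2 * m + 1)) (k : ℕ)
    (ρ : Representation ℂ (Cfsg.Lie.Sz F (2 ^ (m + 1))) (Fin k → ℂ)) (hirr : ρ.IsIrreducible)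
    (hk : 2 ≤ k) : 2 ^ m * (2 ^ (2 * m + 1) - 1) ≤ k := by
  have h : FH F m := ⟨hm, hF⟩
  obtain ⟨g, hg⟩ := exists_ne_one_of_irreducible ρ hirr hk
  haveI := Cfsg.Agent.S1162.result hm hF
  have hker : MonoidHom.ker ρ = ⊥ := by
    rcases (MonoidHom.normal_ker ρ).eq_bot_or_eq_top with h1 | h1
    · exact h1
    · exfalso
      apply hg
      have : g ∈ MonoidHom.ker ρ := by rw [h1]; exact Subgroup.mem_top g
      exact MonoidHom.mem_ker.mp this
  have hinj : Function.Injective ρ := (MonoidHom.ker_eq_bot_iff ρ).mp hker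
  exact sz_bound h (ρ.comp (Cfsg.Agent.Helper7.SzLie.lieEquiv h).toMonoidHom)
    (hinj.comp (Cfsg.Agent.Helper7.SzLie.lieEquiv h).injective)

end Cfsg.Agent.Helper8.LS
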