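import Mathlib
set_option autoImplicit false

/-!
Invariant hyperbolic families for an isometry `x` of an alternating space with `x² = z`:
the induction skeleton.
-/

namespace Cfsg.Agent.Helper8.LagPair

variable {F : Type*} [Field F] {V : Type*} [AddCommGroup V] [Module F V]

theorem skew (B : LinearMap.BilinForm F V) (hB : ∀ v, B v v = 0) (u v : V) : B u v = -B v u := by
  have h := hB (u + v)
  rw [map_add, map_add, LinearMap.add_apply, LinearMap.add_apply, hB u, hB v, zero_add,
    add_zero, add_comm] at h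
  exact eq_neg_of_add_eq_zero_left h

variable [FiniteDimensional F V]

theorem exists_hyp_family (B : LinearMap.BilinForm F V) (hB : ∀ v, B v v = 0)
    (x : V →ₗ[F] V) (hxB : ∀ u v, B (x u) (x v) = B u v) (z : F) (hz : z ≠ 0)
    (hx : ∀ v, x (x v) = z • v) (P : V → V → Prop)
    (hP : ∀ N : Submodule F V, (∀ u ∈ N, x u ∈ N) → (∀ u ∈ N, (∀ v ∈ N, B u v = 0) → u = 0) →
      N ≠ ⊥ → ∃ e ∈ N, ∃ f ∈ N, B e f ≠ 0 ∧ P e f ∧ x e ∈ Submodule.span F {e, f} ∧
        x f ∈ Submodule.span F {e, f}) :
    ∀ (n : ℕ) (N : Submodule F V), Module.finrank F N = n → (∀ u ∈ N, x u ∈ N) →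
      (∀ u ∈ N, (∀ v ∈ N, B u v = 0) → u = 0) →
      ∃ (k : ℕ) (e f : Fin k → V), (∀ i j, B (e i) (e j) = 0) ∧ (∀ i j, B (f i) (f j) = 0) ∧
        (∀ i j, i ≠ j → B (e i) (f j) = 0) ∧ (∀ i, B (e i) (f i) ≠ 0) ∧ (∀ i, P (e i) (f i)) ∧
        Submodule.span F (Set.range e ∪ Set.range f) = N := by
  intro n
  induction n using Nat.strong_induction_on with
  | _ n ih =>
  intro N hNn hNx hNnd
  by_cases hN0 : N = ⊥
  · subst hN0
    refine ⟨0, Fin.elim0, Fin.elim0, fun i => i.elim0, fun i => i.elim0, fun i => i.elim0,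
      fun i => i.elim0, fun i => i.elim0, ?_⟩
    rw [Set.range_eq_empty, Set.union_empty, Submodule.span_empty]
  obtain ⟨e, heN, f, hfN, hef, hPef, hxe, hxf⟩ := hP N hNx hNnd hN0
  set c := B e f with hc
  have hfe : B f e = -c := by rw [skew B hB f e]
  set N' : Submodule F V := N ⊓ (LinearMap.ker (B e) ⊓ LinearMap.ker (B f)) with hN'
  have hmemN' : ∀ u, u ∈ N' ↔ u ∈ N ∧ B e u = 0 ∧ B f u = 0 := by
    intro u
    rw [hN', Submodule.mem_inf, Submodule.mem_inf, LinearMap.mem_ker, LinearMap.mem_ker]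
  have hN'le : N' ≤ N := inf_le_left
  have hperp : ∀ w ∈ Submodule.span F {e, f}, ∀ u ∈ N', B w u = 0 := by
    intro w hw u hu
    rw [Submodule.mem_span_pair] at hw
    obtain ⟨s, t, rfl⟩ := hw
    rw [hmemN'] at hu
    rw [map_add, LinearMap.add_apply, map_smul, map_smul, LinearMap.smul_apply,
      LinearMap.smul_apply, hu.2.1, hu.2.2, smul_zero, smul_zero, add_zero]
  have hN'x : ∀ u ∈ N', x u ∈ N' := by
    intro u hu
    have key : ∀ w, x w ∈ Submodule.span F {e, f} → B w (x u) = 0 := by
      intro w hw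
      have h1 : w = x (z⁻¹ • x w) := by
        rw [map_smul, hx w, smul_smul, inv_mul_cancel₀ hz, one_smul]
      rw [h1, hxB, map_smul, LinearMap.smul_apply, hperp _ hw u hu, smul_zero]
    rw [hmemN']
    exact ⟨hNx u (hN'le hu), key e hxe, key f hxf⟩
  have hdecomp : ∀ v ∈ N, v + (c⁻¹ * B f v) • e - (c⁻¹ * B e v) • f ∈ N' := by
    intro v hv
    rw [hmemN']
    refine ⟨N.sub_mem (N.add_mem hv (N.smul_mem _ heN)) (N.smul_mem _ hfN), ?_, ?_⟩
    · rw [map_sub, map_add, map_smul, map_smul, hB e, smul_zero, add_zero, smul_eq_mul, ← hc,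
        mul_assoc, mul_comm (B e v) c, ← mul_assoc, inv_mul_cancel₀ hef, one_mul, sub_self]
    · rw [map_sub, map_add, map_smul, map_smul, hB f, smul_zero, sub_zero, smul_eq_mul, hfe]
      field_simp
      ring
  have hN'nd : ∀ u ∈ N', (∀ v ∈ N', B u v = 0) → u = 0 := by
    intro u hu h
    apply hNnd u (hN'le hu)
    intro v hv
    have h1 := h _ (hdecomp v hv)
    have hu' := (hmemN' u).1 hu
    have hue : B u e = 0 := by rw [skew B hB, hu'.2.1, neg_zero]
    have huf : B u f = 0 := by rw [skew B hB, hu'.2.2, neg_zero]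
    rw [map_sub, map_add, map_smul, map_smul, hue, huf, smul_zero, smul_zero, add_zero,
      sub_zero] at h1
    exact h1
  have hN'lt : N' < N := by
    refine lt_of_le_of_ne hN'le ?_
    intro heq
    have : e ∈ N' := by rw [heq]; exact heN
    rw [hmemN'] at this
    rw [hfe] at this
    exact hef (neg_eq_zero.1 this.2.2)
  have hfin : Module.finrank F N' < n := by
    rw [← hNn]
    exact Submodule.finrank_lt_finrank_of_lt hN'lt
  obtain ⟨k, e', f', hee, hff, hef', hefi, hP', hspan⟩ := ih _ hfin N' rfl hN'x hN'nd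
  have he'N' : ∀ i, e' i ∈ N' := fun i => by
    rw [← hspan]; exact Submodule.subset_span (Or.inl ⟨i, rfl⟩)
  have hf'N' : ∀ i, f' i ∈ N' := fun i => by
    rw [← hspan]; exact Submodule.subset_span (Or.inr ⟨i, rfl⟩)
  have hN'mem := fun u hu => (hmemN' u).1 hu
  refine ⟨k + 1, Fin.cons e e', Fin.cons f f', ?_, ?_, ?_, ?_, ?_, ?_⟩
  · intro i j
    refine Fin.cases ?_ (fun i => ?_) i <;> refine Fin.cases ?_ (fun j => ?_) j
    · simp only [Fin.cons_zero]; exact hB e
    · simp only [Fin.cons_zero, Fin.cons_succ]; exact (hN'mem _ (he'N' j)).2.1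
    · simp only [Fin.cons_zero, Fin.cons_succ]
      rw [skew B hB, (hN'mem _ (he'N' i)).2.1, neg_zero]
    · simp only [Fin.cons_succ]; exact hee i j
  · intro i j
    refine Fin.cases ?_ (fun i => ?_) i <;> refine Fin.cases ?_ (fun j => ?_) j
    · simp only [Fin.cons_zero]; exact hB f
    · simp only [Fin.cons_zero, Fin.cons_succ]; exact (hN'mem _ (hf'N' j)).2.2
    · simp only [Fin.cons_zero, Fin.cons_succ]
      rw [skew B hB, (hN'mem _ (hf'N' i)).2.2, neg_zero]
    · simp only [Fin.cons_succ]; exact hff i j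
  · intro i j
    refine Fin.cases ?_ (fun i => ?_) i <;> refine Fin.cases ?_ (fun j => ?_) j
    · intro h; exact absurd rfl h
    · intro _; simp only [Fin.cons_zero, Fin.cons_succ]; exact (hN'mem _ (hf'N' j)).2.1
    · intro _; simp only [Fin.cons_zero, Fin.cons_succ]
      rw [skew B hB, (hN'mem _ (he'N' i)).2.2, neg_zero]
    · intro h; simp only [Fin.cons_succ]
      exact hef' i j (fun h' => h (by rw [h']))
  · intro i
    refine Fin.cases ?_ (fun i => ?_) i
    · simp only [Fin.cons_zero]; exact hef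
    · simp only [Fin.cons_succ]; exact hefi i
  · intro i
    refine Fin.cases ?_ (fun i => ?_) i
    · simp only [Fin.cons_zero]; exact hPef
    · simp only [Fin.cons_succ]; exact hP' i
  · rw [Fin.range_cons, Fin.range_cons]
    apply le_antisymm
    · rw [Submodule.span_le]
      intro w hw
      rcases hw with hw | hw
      · rcases hw with rfl | hw
        · exact heN
        · obtain ⟨i, rfl⟩ := hw; exact hN'le (he'N' i)
      · rcases hw with rfl | hw
        · exact hfN
        · obtain ⟨i, rfl⟩ := hw; exact hN'le (hf'N' i)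
    · intro v hv
      have h1 := hdecomp v hv
      rw [← hspan] at h1
      have hsub : Submodule.span F (Set.range e' ∪ Set.range f') ≤
          Submodule.span F (insert e (Set.range e') ∪ insert f (Set.range f')) := by
        apply Submodule.span_mono
        intro w hw
        rcases hw with hw | hw
        · exact Or.inl (Set.mem_insert_of_mem _ hw)
        · exact Or.inr (Set.mem_insert_of_mem _ hw)
      have he_mem : e ∈ Submodule.span F (insert e (Set.range e') ∪ insert f (Set.range f')) :=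
        Submodule.subset_span (Or.inl (Set.mem_insert _ _))
      have hf_mem : f ∈ Submodule.span F (insert e (Set.range e') ∪ insert f (Set.range f')) :=
        Submodule.subset_span (Or.inr (Set.mem_insert _ _))
      have h2 : v = (v + (c⁻¹ * B f v) • e - (c⁻¹ * B e v) • f) - (c⁻¹ * B f v) • e +
          (c⁻¹ * B e v) • f := by abel
      rw [h2]
      exact Submodule.add_mem _ (Submodule.sub_mem _ (hsub h1) (Submodule.smul_mem _ _ he_mem))
        (Submodule.smul_mem _ _ hf_mem)

end Cfsg.Agent.Helper8.LagPair
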