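import Mathlib
import Cfsg.Agent.Helper8.LagPairA
set_option autoImplicit false

/-!
An isometry `x` of a nondegenerate alternating space (characteristic not 2) with `x² = ±1` fixes or
swaps the two members of some pair of complementary totally isotropic subspaces.
-/

namespace Cfsg.Agent.Helper8.LagPair

variable {F : Type*} [Field F] {V : Type*} [AddCommGroup V] [Module F V]

theorem span_isotropic (B : LinearMap.BilinForm F V) (s t : Set V)
    (h : ∀ a ∈ s, ∀ b ∈ t, B a b = 0) :
    ∀ u ∈ Submodule.span F s, ∀ v ∈ Submodule.span F t, B u v = 0 := by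
  intro u hu v hv
  induction hu using Submodule.span_induction with
  | mem a ha =>
    induction hv using Submodule.span_induction with
    | mem b hb => exact h a ha b hb
    | zero => rw [map_zero]
    | add y w _ _ hy hw => rw [map_add, hy, hw, add_zero]
    | smul r y _ hy => rw [map_smul, hy, smul_zero]
  | zero => rw [map_zero, LinearMap.zero_apply]
  | add y w _ _ hy hw => rw [map_add, LinearMap.add_apply, hy, hw, add_zero]
  | smul r y _ hy => rw [map_smul, LinearMap.smul_apply, hy, smul_zero]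

theorem map_eq_of_le (x : V →ₗ[F] V) (z : F) (hz : z ≠ 0) (hx : ∀ v, x (x v) = z • v)
    (U W : Submodule F V) (hWU : W.map x ≤ U) (hUW : U.map x ≤ W) : U.map x = W := by
  apply le_antisymm hUW
  intro w hw
  have h1 : w = x (z⁻¹ • x w) := by
    rw [map_smul, hx w, smul_smul, inv_mul_cancel₀ hz, one_smul]
  rw [h1]
  apply Submodule.mem_map_of_mem
  apply Submodule.smul_mem
  exact hWU (Submodule.mem_map_of_mem hw)

/-- eigenvector hyperbolic pairs when `x² = 1` -/
theorem exists_pair_one (B : LinearMap.BilinForm F V) (hB : ∀ v, B v v = 0) (h2 : (2 : F) ≠ 0)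
    (x : V →ₗ[F] V) (hxB : ∀ u v, B (x u) (x v) = B u v) (hx : ∀ v, x (x v) = v)
    (N : Submodule F V) (hNx : ∀ u ∈ N, x u ∈ N)
    (hNnd : ∀ u ∈ N, (∀ v ∈ N, B u v = 0) → u = 0) (hN0 : N ≠ ⊥) :
    ∃ e ∈ N, ∃ f ∈ N, B e f ≠ 0 ∧ (∃ ε : F, x e = ε • e ∧ x f = ε • f) ∧
      x e ∈ Submodule.span F {e, f} ∧ x f ∈ Submodule.span F {e, f} := by
  obtain ⟨u, huN, hu0⟩ := Submodule.exists_mem_ne_zero_of_ne_bot hN0
  have key : ∀ ε : F, ε * ε = 1 → u + ε • x u ≠ 0 →
      ∃ e ∈ N, ∃ f ∈ N, B e f ≠ 0 ∧ (∃ ε : F, x e = ε • e ∧ x f = ε • f) ∧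
      x e ∈ Submodule.span F {e, f} ∧ x f ∈ Submodule.span F {e, f} := by
    intro ε hε he0
    have hxe : ∀ w, x (w + ε • x w) = ε • (w + ε • x w) := by
      intro w
      rw [map_add, map_smul, hx w, smul_add, smul_smul, hε, one_smul, add_comm]
    set e := u + ε • x u with he
    have heN : e ∈ N := N.add_mem huN (N.smul_mem _ (hNx u huN))
    have hex : ∃ g ∈ N, B e g ≠ 0 := by
      by_contra hcon
      push_neg at hcon
      exact he0 (hNnd e heN hcon)
    obtain ⟨g, hgN, hg⟩ := hex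
    have hfN : g + ε • x g ∈ N := N.add_mem hgN (N.smul_mem _ (hNx g hgN))
    have h1 : B e (x g) = ε * B e g := by
      have h3 : e = ε • x e := by
        rw [hxe u, smul_smul, hε, one_smul]
      conv_lhs => rw [h3]
      rw [map_smul, LinearMap.smul_apply, hxB, smul_eq_mul]
    have hBef : B e (g + ε • x g) = 2 * B e g := by
      rw [map_add, map_smul, h1, smul_eq_mul, ← mul_assoc, hε, one_mul, two_mul]
    refine ⟨e, heN, g + ε • x g, hfN, ?_, ⟨ε, hxe u, hxe g⟩, ?_, ?_⟩
    · rw [hBef]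
      exact mul_ne_zero h2 hg
    · rw [hxe u]
      exact Submodule.smul_mem _ _ (Submodule.subset_span (Set.mem_insert _ _))
    · rw [hxe g]
      exact Submodule.smul_mem _ _
        (Submodule.subset_span (Set.mem_insert_of_mem _ (Set.mem_singleton _)))
  by_cases hp : u + (1 : F) • x u = 0
  · apply key (-1) (by ring)
    intro hm
    apply hu0
    have h3 : (2 : F) • u = 0 := by
      have : (2 : F) • u = (u + (1 : F) • x u) + (u + (-1 : F) • x u) := by
        rw [two_smul, one_smul, neg_smul, one_smul]; abel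
      rw [this, hp, hm, add_zero]
    rcases smul_eq_zero.1 h3 with h | h
    · exact absurd h h2
    · exact h
  · exact key 1 (by ring) hp

/-- pairs `(v, x v)` when `x² = -1` -/
theorem exists_pair_neg (B : LinearMap.BilinForm F V) (hB : ∀ v, B v v = 0) (h2 : (2 : F) ≠ 0)
    (x : V →ₗ[F] V) (hxB : ∀ u v, B (x u) (x v) = B u v) (hx : ∀ v, x (x v) = (-1 : F) • v)
    (N : Submodule F V) (hNx : ∀ u ∈ N, x u ∈ N)
    (hNnd : ∀ u ∈ N, (∀ v ∈ N, B u v = 0) → u = 0) (hN0 : N ≠ ⊥) :
    ∃ e ∈ N, ∃ f ∈ N, B e f ≠ 0 ∧ f = x e ∧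
      x e ∈ Submodule.span F {e, f} ∧ x f ∈ Submodule.span F {e, f} := by
  have hex : ∃ v ∈ N, B v (x v) ≠ 0 := by
    by_contra hcon
    push_neg at hcon
    have h1 : ∀ u ∈ N, ∀ v ∈ N, B u (x v) = 0 := by
      intro u hu v hv
      have h3 := hcon (u + v) (N.add_mem hu hv)
      rw [map_add, map_add, LinearMap.add_apply, map_add, map_add, hcon u hu,
        hcon v hv, zero_add, add_zero] at h3
      have h4 : B v (x u) = B u (x v) := by
        rw [← hxB v (x u), hx u, map_smul, smul_eq_mul, neg_one_mul, ← skew B hB]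
      rw [h4, ← two_mul] at h3
      rcases mul_eq_zero.1 h3 with h | h
      · exact absurd h h2
      · exact h
    obtain ⟨u, huN, hu0⟩ := Submodule.exists_mem_ne_zero_of_ne_bot hN0
    apply hu0
    apply hNnd u huN
    intro w hw
    have h5 : w = x ((-1 : F) • x w) := by
      rw [map_smul, hx w, smul_smul]; norm_num
    rw [h5]
    exact h1 u huN _ (N.smul_mem _ (hNx w hw))
  obtain ⟨v, hvN, hv⟩ := hex
  refine ⟨v, hvN, x v, hNx v hvN, hv, rfl, ?_, ?_⟩
  · exact Submodule.subset_span (Set.mem_insert_of_mem _ (Set.mem_singleton _))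
  · rw [hx v]
    exact Submodule.smul_mem _ _ (Submodule.subset_span (Set.mem_insert _ _))

variable [FiniteDimensional F V]

theorem exists_lagrangian_pair (B : LinearMap.BilinForm F V) (hB : ∀ v, B v v = 0)
    (hnd : ∀ u, (∀ v, B u v = 0) → u = 0) (h2 : (2 : F) ≠ 0)
    (x : V →ₗ[F] V) (hxB : ∀ u v, B (x u) (x v) = B u v) (z : F) (hz : z = 1 ∨ z = -1)
    (hx : ∀ v, x (x v) = z • v) :
    ∃ U W : Submodule F V, IsCompl U W ∧ (∀ u ∈ U, ∀ v ∈ U, B u v = 0) ∧
      (∀ u ∈ W, ∀ v ∈ W, B u v = 0) ∧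
      ((U.map x = U ∧ W.map x = W) ∨ (U.map x = W ∧ W.map x = U)) := by
  have hz0 : z ≠ 0 := by
    rcases hz with h | h <;> rw [h] <;> norm_num
  have hfinal : ∀ (k : ℕ) (e f : Fin k → V), (∀ i j, B (e i) (e j) = 0) →
      (∀ i j, B (f i) (f j) = 0) →
      Submodule.span F (Set.range e ∪ Set.range f) = ⊤ →
      IsCompl (Submodule.span F (Set.range e)) (Submodule.span F (Set.range f)) ∧
      (∀ u ∈ Submodule.span F (Set.range e), ∀ v ∈ Submodule.span F (Set.range e), B u v = 0) ∧
      (∀ u ∈ Submodule.span F (Set.range f), ∀ v ∈ Submodule.span F (Set.range f), B u v = 0) := by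
    intro k e f hee hff hspan
    have hU := span_isotropic B (Set.range e) (Set.range e) (by
      rintro _ ⟨i, rfl⟩ _ ⟨j, rfl⟩; exact hee i j)
    have hW := span_isotropic B (Set.range f) (Set.range f) (by
      rintro _ ⟨i, rfl⟩ _ ⟨j, rfl⟩; exact hff i j)
    refine ⟨⟨?_, ?_⟩, hU, hW⟩
    · rw [Submodule.disjoint_def]
      intro u huU huW
      apply hnd u
      intro v
      have hv : v ∈ Submodule.span F (Set.range e ∪ Set.range f) := by rw [hspan]; trivial
      rw [Submodule.span_union, Submodule.mem_sup] at hv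
      obtain ⟨a, ha, b, hb, rfl⟩ := hv
      rw [map_add, hU u huU a ha, hW u huW b hb, add_zero]
    · rw [codisjoint_iff, ← Submodule.span_union, hspan]
  rcases hz with h1 | h1
  · subst h1
    have hx' : ∀ v, x (x v) = v := fun v => by rw [hx v, one_smul]
    obtain ⟨k, e, f, hee, hff, _, _, hP, hspan⟩ :=
      exists_hyp_family B hB x hxB 1 one_ne_zero hx (fun e f => ∃ ε : F, x e = ε • e ∧ x f = ε • f)
        (fun N hNx hNnd hN0 => exists_pair_one B hB h2 x hxB hx' N hNx hNnd hN0)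
        _ ⊤ rfl (fun _ _ => Submodule.mem_top) (fun u _ h => hnd u (fun v => h v Submodule.mem_top))
    obtain ⟨hc, hU, hW⟩ := hfinal k e f hee hff hspan
    refine ⟨_, _, hc, hU, hW, Or.inl ⟨?_, ?_⟩⟩
    · apply map_eq_of_le x 1 one_ne_zero hx <;>
      · rw [Submodule.map_span, Submodule.span_le]
        rintro _ ⟨_, ⟨i, rfl⟩, rfl⟩
        obtain ⟨ε, h3, _⟩ := hP i
        rw [h3]
        exact Submodule.smul_mem _ _ (Submodule.subset_span ⟨i, rfl⟩)
    · apply map_eq_of_le x 1 one_ne_zero hx <;>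
      · rw [Submodule.map_span, Submodule.span_le]
        rintro _ ⟨_, ⟨i, rfl⟩, rfl⟩
        obtain ⟨ε, _, h3⟩ := hP i
        rw [h3]
        exact Submodule.smul_mem _ _ (Submodule.subset_span ⟨i, rfl⟩)
  · subst h1
    obtain ⟨k, e, f, hee, hff, _, _, hP, hspan⟩ :=
      exists_hyp_family B hB x hxB (-1) (by norm_num) hx (fun e f => f = x e)
        (fun N hNx hNnd hN0 => exists_pair_neg B hB h2 x hxB hx N hNx hNnd hN0)
        _ ⊤ rfl (fun _ _ => Submodule.mem_top) (fun u _ h => hnd u (fun v => h v Submodule.mem_top))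
    obtain ⟨hc, hU, hW⟩ := hfinal k e f hee hff hspan
    have hUW : (Submodule.span F (Set.range e)).map x ≤ Submodule.span F (Set.range f) := by
      rw [Submodule.map_span, Submodule.span_le]
      rintro _ ⟨_, ⟨i, rfl⟩, rfl⟩
      rw [← hP i]
      exact Submodule.subset_span ⟨i, rfl⟩
    have hWU : (Submodule.span F (Set.range f)).map x ≤ Submodule.span F (Set.range e) := by
      rw [Submodule.map_span, Submodule.span_le]
      rintro _ ⟨_, ⟨i, rfl⟩, rfl⟩
      rw [hP i, hx (e i)]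
      exact Submodule.smul_mem _ _ (Submodule.subset_span ⟨i, rfl⟩)
    refine ⟨_, _, hc, hU, hW, Or.inr ⟨?_, ?_⟩⟩
    · exact map_eq_of_le x (-1) (by norm_num) hx _ _ hWU hUW
    · exact map_eq_of_le x (-1) (by norm_num) hx _ _ hUW hWU

end Cfsg.Agent.Helper8.LagPair
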