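import Mathlib

set_option autoImplicit false

namespace Cfsg.Agent.Helper8.Laws

open Matrix

/-- `w` takes a non-central value in `S`. -/
def CLF (w : FreeGroup ℕ) (S : Type*) [Group S] : Prop :=
  ∃ f : ℕ → S, FreeGroup.lift f w ∉ Subgroup.center S

theorem lift_comp {S Y : Type*} [Group S] [Group Y] (φ : S →* Y) (f : ℕ → S) (w : FreeGroup ℕ) :
    FreeGroup.lift (fun i => φ (f i)) w = φ (FreeGroup.lift f w) :=
  (FreeGroup.lift_unique (φ.comp (FreeGroup.lift f)) (fun i => by simp)).symm

theorem CLF.of_injective {w : FreeGroup ℕ} {S Y : Type*} [Group S] [Group Y] (φ : S →* Y)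
    (hφ : Function.Injective φ) (h : CLF w S) : CLF w Y := by
  obtain ⟨f, hf⟩ := h
  refine ⟨fun i => φ (f i), ?_⟩
  rw [lift_comp]
  intro hc
  apply hf
  rw [Subgroup.mem_center_iff] at hc ⊢
  intro s
  apply hφ
  rw [map_mul, map_mul]
  exact hc (φ s)

/-- a non-trivial value in the central quotient gives a non-central value -/
theorem CLF.of_quotient {w : FreeGroup ℕ} {S : Type*} [Group S]
    (h : ∃ f : ℕ → S ⧸ Subgroup.center S, FreeGroup.lift f w ≠ 1) : CLF w S := by
  obtain ⟨f, hf⟩ := h
  refine ⟨fun i => (f i).out, ?_⟩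
  intro hc
  apply hf
  have h1 := lift_comp (QuotientGroup.mk' (Subgroup.center S)) (fun i => (f i).out) w
  have h2 : (fun i => (QuotientGroup.mk' (Subgroup.center S)) ((f i).out)) = f := by
    funext i
    exact QuotientGroup.out_eq' (f i)
  rw [h2] at h1
  rw [h1]
  exact (QuotientGroup.eq_one_iff _).mpr hc

/-- if `w` is a law in a group isomorphic to the central quotient, there is no non-central value -/
theorem not_CLF_of_law {w : FreeGroup ℕ} {G S : Type*} [Group G] [Group S]
    (e : G ≃* S ⧸ Subgroup.center S) (hlaw : ∀ f : ℕ → G, FreeGroup.lift f w = 1) : ¬ CLF w S := by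
  rintro ⟨f, hf⟩
  apply hf
  have h1 := lift_comp (e.symm.toMonoidHom.comp (QuotientGroup.mk' (Subgroup.center S))) f w
  rw [hlaw] at h1
  have h2 : (QuotientGroup.mk' (Subgroup.center S)) (FreeGroup.lift f w) = 1 := by
    apply e.symm.injective
    rw [map_one]
    exact h1.symm
  exact (QuotientGroup.eq_one_iff _).mp h2

/-- a non-trivial value in a group with trivial centre -/
theorem CLF.of_ne_one {w : FreeGroup ℕ} {S : Type*} [Group S] (hZ : Subgroup.center S = ⊥)
    (h : ∃ f : ℕ → S, FreeGroup.lift f w ≠ 1) : CLF w S := by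
  obtain ⟨f, hf⟩ := h
  exact ⟨f, by rw [hZ, Subgroup.mem_bot]; exact hf⟩

section Embeddings

variable {F : Type*} [Field F]

/-- block embedding `SL_m → SL_{m ⊕ k}` -/
def slBlock (m k : Type*) [Fintype m] [DecidableEq m] [Fintype k] [DecidableEq k] :
    Matrix.SpecialLinearGroup m F →* Matrix.SpecialLinearGroup (m ⊕ k) F where
  toFun A := ⟨fromBlocks (A : Matrix m m F) 0 0 1, by
    rw [det_fromBlocks_zero₂₁, A.det_coe, det_one, mul_one]⟩
  map_one' := by
    apply Subtype.ext
    simp [fromBlocks_one]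
  map_mul' A B := by
    apply Subtype.ext
    show fromBlocks ((A * B : Matrix.SpecialLinearGroup m F) : Matrix m m F) 0 0 1 =
      fromBlocks (A : Matrix m m F) 0 0 1 * fromBlocks (B : Matrix m m F) 0 0 1
    rw [fromBlocks_multiply]
    simp

theorem slBlock_injective (m k : Type*) [Fintype m] [DecidableEq m] [Fintype k] [DecidableEq k] :
    Function.Injective (slBlock (F := F) m k) := by
  intro A B h
  have h1 := congrArg (fun M : Matrix.SpecialLinearGroup (m ⊕ k) F => (M : Matrix (m ⊕ k) (m ⊕ k) F)) h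
  apply Subtype.ext
  exact (fromBlocks_inj.mp h1).1

/-- reindexing `SL_m ≃ SL_n` -/
def slReindex {m n : Type*} [Fintype m] [DecidableEq m] [Fintype n] [DecidableEq n] (e : m ≃ n) :
    Matrix.SpecialLinearGroup m F →* Matrix.SpecialLinearGroup n F where
  toFun A := ⟨reindex e e (A : Matrix m m F), by rw [det_reindex_self]; exact A.det_coe⟩
  map_one' := by
    apply Subtype.ext
    simp
  map_mul' A B := by
    apply Subtype.ext
    show reindex e e ((A * B : Matrix.SpecialLinearGroup m F) : Matrix m m F) =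
      reindex e e (A : Matrix m m F) * reindex e e (B : Matrix m m F)
    rw [Matrix.SpecialLinearGroup.coe_mul, reindex_apply, reindex_apply, reindex_apply,
      submatrix_mul_equiv]

theorem slReindex_injective {m n : Type*} [Fintype m] [DecidableEq m] [Fintype n] [DecidableEq n]
    (e : m ≃ n) : Function.Injective (slReindex (F := F) e) := by
  intro A B h
  have h1 := congrArg (fun M : Matrix.SpecialLinearGroup n F => (M : Matrix n n F)) h
  apply Subtype.ext
  exact (reindex e e).injective h1

/-- `SL₂ → SL_n` for `n ≥ 2`. -/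
noncomputable def sl2ToSLn (n : ℕ) (hn : 2 ≤ n) :
    Matrix.SpecialLinearGroup (Fin 2) F →* Matrix.SpecialLinearGroup (Fin n) F :=
  (slReindex ((finSumFinEquiv (m := 2) (n := n - 2)).trans (finCongr (by omega)))).comp
    (slBlock (Fin 2) (Fin (n - 2)))

theorem sl2ToSLn_injective (n : ℕ) (hn : 2 ≤ n) : Function.Injective (sl2ToSLn (F := F) n hn) :=
  (slReindex_injective _).comp (slBlock_injective _ _)

/-- even permutation matrices -/
noncomputable def altToSL (n : ℕ) : alternatingGroup (Fin n) →* Matrix.SpecialLinearGroup (Fin n) F where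
  toFun σ := ⟨Matrix.permMatrixHom (R := F) (σ : Equiv.Perm (Fin n)), by
    have h : Equiv.Perm.sign (σ : Equiv.Perm (Fin n)) = 1 := Equiv.Perm.mem_alternatingGroup.mp σ.2
    show (((σ : Equiv.Perm (Fin n))⁻¹).permMatrix F).det = 1
    rw [Matrix.det_permutation, Equiv.Perm.sign_inv, h]
    simp⟩
  map_one' := by
    apply Subtype.ext
    simp
  map_mul' σ τ := by
    apply Subtype.ext
    show Matrix.permMatrixHom (R := F) (((σ * τ : alternatingGroup (Fin n)) : Equiv.Perm (Fin n))) =
      Matrix.permMatrixHom (R := F) (σ : Equiv.Perm (Fin n)) *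
        Matrix.permMatrixHom (R := F) (τ : Equiv.Perm (Fin n))
    rw [Subgroup.coe_mul, map_mul]

theorem altToSL_injective (n : ℕ) : Function.Injective (altToSL (F := F) n) := by
  intro σ τ h
  have h1 : ((σ : Equiv.Perm (Fin n))⁻¹).permMatrix F = ((τ : Equiv.Perm (Fin n))⁻¹).permMatrix F :=
    congrArg (fun M : Matrix.SpecialLinearGroup (Fin n) F => (M : Matrix (Fin n) (Fin n) F)) h
  apply Subtype.ext
  have h2 : (σ : Equiv.Perm (Fin n))⁻¹ = (τ : Equiv.Perm (Fin n))⁻¹ := by
    ext i
    have h3 := congrArg (fun M : Matrix (Fin n) (Fin n) F =>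
      M.mulVec (Pi.single ((σ : Equiv.Perm (Fin n))⁻¹ i) 1) i) h1
    simp only [Matrix.permMatrix_mulVec, Function.comp_apply, Pi.single_eq_same] at h3
    by_contra hne
    rw [Pi.single_eq_of_ne (fun h => hne (congrArg Fin.val h.symm))] at h3
    exact one_ne_zero h3
  exact inv_injective h2

theorem CLF_SL_of_alt {w : FreeGroup ℕ} (n : ℕ) (hn : 4 ≤ n)
    (h : ∃ f : ℕ → alternatingGroup (Fin n), FreeGroup.lift f w ≠ 1) :
    CLF w (Matrix.SpecialLinearGroup (Fin n) F) := by
  apply CLF.of_injective (altToSL n) (altToSL_injective n)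
  apply CLF.of_ne_one _ h
  apply alternatingGroup.center_eq_bot
  simpa using hn

theorem CLF_SL_of_SL2 {w : FreeGroup ℕ} (n : ℕ) (hn : 2 ≤ n)
    (h : CLF w (Matrix.SpecialLinearGroup (Fin 2) F)) :
    CLF w (Matrix.SpecialLinearGroup (Fin n) F) :=
  CLF.of_injective (sl2ToSLn n hn) (sl2ToSLn_injective n hn) h

/-- the hyperbolic block matrix `diag(A, A⁻ᵀ)` -/
def hypMat {m : Type*} [Fintype m] [DecidableEq m] (A : Matrix.SpecialLinearGroup m F) :
    Matrix (m ⊕ m) (m ⊕ m) F :=
  fromBlocks (A : Matrix m m F) 0 0 ((A⁻¹ : Matrix.SpecialLinearGroup m F) : Matrix m m F)ᵀ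

theorem hypMat_one {m : Type*} [Fintype m] [DecidableEq m] :
    hypMat (1 : Matrix.SpecialLinearGroup m F) = 1 := by
  simp [hypMat, fromBlocks_one]

theorem hypMat_mul {m : Type*} [Fintype m] [DecidableEq m] (A B : Matrix.SpecialLinearGroup m F) :
    hypMat (A * B) = hypMat A * hypMat B := by
  unfold hypMat
  rw [fromBlocks_multiply, _root_.mul_inv_rev, Matrix.SpecialLinearGroup.coe_mul,
    Matrix.SpecialLinearGroup.coe_mul, Matrix.transpose_mul]
  simp

theorem hypMat_injective {m : Type*} [Fintype m] [DecidableEq m] :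
    Function.Injective (hypMat (F := F) (m := m)) := by
  intro A B h
  apply Subtype.ext
  exact (fromBlocks_inj.mp h).1

theorem coe_mul_coe_inv {m : Type*} [Fintype m] [DecidableEq m] (A : Matrix.SpecialLinearGroup m F) :
    (A : Matrix m m F) * ((A⁻¹ : Matrix.SpecialLinearGroup m F) : Matrix m m F) = 1 := by
  rw [← Matrix.SpecialLinearGroup.coe_mul, mul_inv_cancel, Matrix.SpecialLinearGroup.coe_one]

theorem coe_inv_mul_coe {m : Type*} [Fintype m] [DecidableEq m] (A : Matrix.SpecialLinearGroup m F) :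
    ((A⁻¹ : Matrix.SpecialLinearGroup m F) : Matrix m m F) * (A : Matrix m m F) = 1 := by
  rw [← Matrix.SpecialLinearGroup.coe_mul, inv_mul_cancel, Matrix.SpecialLinearGroup.coe_one]

/-- `SL_m → Sp_{2m}` -/
def slToSp (m : ℕ) : Matrix.SpecialLinearGroup (Fin m) F →* Matrix.symplecticGroup (Fin m) F where
  toFun A := ⟨hypMat A, by
    unfold hypMat
    rw [SymplecticGroup.fromBlocks_mem_iff]
    refine ⟨by simp, by simp, ?_⟩
    rw [Matrix.mul_zero, sub_zero, ← Matrix.transpose_mul, coe_inv_mul_coe, Matrix.transpose_one]⟩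
  map_one' := by
    apply Subtype.ext
    exact hypMat_one
  map_mul' A B := by
    apply Subtype.ext
    exact hypMat_mul A B

theorem slToSp_injective (m : ℕ) : Function.Injective (slToSp (F := F) m) := by
  intro A B h
  exact hypMat_injective (congrArg Subtype.val h)

end Embeddings

end Cfsg.Agent.Helper8.Laws
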