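import Mathlib
import Cfsg.Prelude.Def_Classical
import Cfsg.Agent.Helper8.Laws
import Cfsg.Agent.Helper7.Transvections

set_option autoImplicit false

namespace Cfsg.Agent.Helper8.Laws

open Matrix

section Orth

variable {F : Type*} [Field F]

/-- `diag(A, A⁻ᵀ)` as an element of `GL` -/
def hypGL {m : Type*} [Fintype m] [DecidableEq m] : Matrix.SpecialLinearGroup m F →* GL (m ⊕ m) F where
  toFun A := ⟨hypMat A, hypMat A⁻¹, by rw [← hypMat_mul, mul_inv_cancel, hypMat_one],
    by rw [← hypMat_mul, inv_mul_cancel, hypMat_one]⟩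
  map_one' := by
    apply Units.ext
    exact hypMat_one
  map_mul' A B := by
    apply Units.ext
    exact hypMat_mul A B

theorem hypGL_injective {m : Type*} [Fintype m] [DecidableEq m] :
    Function.Injective (hypGL (F := F) (m := m)) := by
  intro A B h
  exact hypMat_injective (congrArg Units.val h)

/-- the hyperbolic pairing is preserved -/
theorem hyp_pairing {m : Type*} [Fintype m] [DecidableEq m] (A : Matrix.SpecialLinearGroup m F)
    (v : m ⊕ m → F) :
    ∑ i : m, (hypMat A *ᵥ v) (Sum.inl i) * (hypMat A *ᵥ v) (Sum.inr i) =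
      ∑ i : m, v (Sum.inl i) * v (Sum.inr i) := by
  unfold hypMat
  rw [fromBlocks_mulVec]
  simp only [Sum.elim_inl, Sum.elim_inr, Matrix.zero_mulVec, add_zero, zero_add]
  change ((A : Matrix m m F) *ᵥ (v ∘ Sum.inl)) ⬝ᵥ
    (((A⁻¹ : Matrix.SpecialLinearGroup m F) : Matrix m m F)ᵀ *ᵥ (v ∘ Sum.inr)) =
    (v ∘ Sum.inl) ⬝ᵥ (v ∘ Sum.inr)
  rw [Matrix.mulVec_transpose, dotProduct_comm, Matrix.dotProduct_mulVec, Matrix.vecMul_vecMul,
    coe_inv_mul_coe, Matrix.vecMul_one, dotProduct_comm]

/-- block embedding on the right: `g ↦ diag(1, g)` -/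
def glBlockR (k n : Type*) [Fintype k] [DecidableEq k] [Fintype n] [DecidableEq n] :
    GL n F →* GL (k ⊕ n) F where
  toFun g := ⟨fromBlocks 1 0 0 (g : Matrix n n F), fromBlocks 1 0 0 ((g⁻¹ : GL n F) : Matrix n n F),
    by rw [fromBlocks_multiply]; simp [fromBlocks_one], by rw [fromBlocks_multiply]; simp [fromBlocks_one]⟩
  map_one' := by
    apply Units.ext
    simp [fromBlocks_one]
  map_mul' g h := by
    apply Units.ext
    show fromBlocks 1 0 0 ((g * h : GL n F) : Matrix n n F) =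
      fromBlocks 1 0 0 (g : Matrix n n F) * fromBlocks 1 0 0 (h : Matrix n n F)
    rw [fromBlocks_multiply]
    simp

/-- block embedding on the left: `g ↦ diag(g, 1)` -/
def glBlockL (k n : Type*) [Fintype k] [DecidableEq k] [Fintype n] [DecidableEq n] :
    GL n F →* GL (n ⊕ k) F where
  toFun g := ⟨fromBlocks (g : Matrix n n F) 0 0 1, fromBlocks ((g⁻¹ : GL n F) : Matrix n n F) 0 0 1,
    by rw [fromBlocks_multiply]; simp [fromBlocks_one], by rw [fromBlocks_multiply]; simp [fromBlocks_one]⟩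
  map_one' := by
    apply Units.ext
    simp [fromBlocks_one]
  map_mul' g h := by
    apply Units.ext
    show fromBlocks ((g * h : GL n F) : Matrix n n F) 0 0 1 =
      fromBlocks (g : Matrix n n F) 0 0 1 * fromBlocks (h : Matrix n n F) 0 0 1
    rw [fromBlocks_multiply]
    simp

theorem glBlockR_injective (k n : Type*) [Fintype k] [DecidableEq k] [Fintype n] [DecidableEq n] :
    Function.Injective (glBlockR (F := F) k n) := by
  intro g h e
  apply Units.ext
  exact (fromBlocks_inj.mp (congrArg Units.val e)).2.2.2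

theorem glBlockL_injective (k n : Type*) [Fintype k] [DecidableEq k] [Fintype n] [DecidableEq n] :
    Function.Injective (glBlockL (F := F) k n) := by
  intro g h e
  apply Units.ext
  exact (fromBlocks_inj.mp (congrArg Units.val e)).1

theorem plus_mem (m : ℕ) (A : Matrix.SpecialLinearGroup (Fin m) F) :
    hypGL A ∈ Cfsg.isometryGroup F (Cfsg.quadFormPlus m F) := by
  intro u _
  show Cfsg.quadFormPlus m F (hypMat A *ᵥ u) = Cfsg.quadFormPlus m F u
  unfold Cfsg.quadFormPlus
  exact hyp_pairing A u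

theorem odd_mem (m : ℕ) (A : Matrix.SpecialLinearGroup (Fin m) F) :
    glBlockR Unit (Fin m ⊕ Fin m) (hypGL A) ∈ Cfsg.isometryGroup F (Cfsg.quadFormOdd m F) := by
  intro u _
  show Cfsg.quadFormOdd m F (fromBlocks (1 : Matrix Unit Unit F) 0 0 (hypMat A) *ᵥ u) =
    Cfsg.quadFormOdd m F u
  unfold Cfsg.quadFormOdd
  rw [fromBlocks_mulVec]
  simp only [Sum.elim_inl, Sum.elim_inr, Matrix.zero_mulVec, add_zero, zero_add, Matrix.one_mulVec]
  have := hyp_pairing A (u ∘ Sum.inr)
  simp only [Function.comp_apply] at this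
  rw [this]
  rfl

theorem minus_mem (m : ℕ) (a b : F) (A : Matrix.SpecialLinearGroup (Fin m) F) :
    glBlockL (Fin 2) (Fin m ⊕ Fin m) (hypGL A) ∈
      Cfsg.isometryGroup F (Cfsg.quadFormMinus m F a b) := by
  intro u _
  show Cfsg.quadFormMinus m F a b (fromBlocks (hypMat A) 0 0 (1 : Matrix (Fin 2) (Fin 2) F) *ᵥ u) =
    Cfsg.quadFormMinus m F a b u
  unfold Cfsg.quadFormMinus
  rw [fromBlocks_mulVec]
  simp only [Sum.elim_inl, Sum.elim_inr, Matrix.zero_mulVec, add_zero, zero_add, Matrix.one_mulVec]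
  have := hyp_pairing A (u ∘ Sum.inl)
  simp only [Function.comp_apply] at this
  rw [this]
  rfl

end Orth

/-- a homomorphism from a perfect group lands in the commutator subgroup -/
theorem exists_hom_commutator {S Y : Type*} [Group S] [Group Y] (hS : commutator S = ⊤) (φ : S →* Y)
    (hφ : Function.Injective φ) :
    ∃ ψ : S →* ↥(commutator Y), Function.Injective ψ := by
  have h : ∀ s, φ s ∈ commutator Y := by
    intro s
    have hs : s ∈ commutator S := by rw [hS]; trivial
    have h1 : φ s ∈ (commutator S).map φ := ⟨s, hs, rfl⟩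
    rw [commutator_def, Subgroup.map_commutator] at h1
    exact Subgroup.commutator_mono le_top le_top h1
  refine ⟨φ.codRestrict _ h, ?_⟩
  intro a b hab
  apply hφ
  exact congrArg Subtype.val hab

section OmegaCLF

variable {F : Type*} [Field F] {w : FreeGroup ℕ}

theorem CLF_Omega_of_hom {ι : Type} [Fintype ι] [DecidableEq ι] (Q : (ι → F) → F) (m : ℕ) (hm : 3 ≤ m)
    (φ : Matrix.SpecialLinearGroup (Fin m) F →* GL ι F) (hφ : Function.Injective φ)
    (hmem : ∀ A, φ A ∈ Cfsg.isometryGroup F Q)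
    (h : CLF w (Matrix.SpecialLinearGroup (Fin m) F)) : CLF w ↥(Cfsg.Omega F Q) := by
  have hinj : Function.Injective (φ.codRestrict (Cfsg.isometryGroup F Q) hmem) := by
    intro a b hab
    exact hφ (congrArg Subtype.val hab)
  obtain ⟨ψ, hψ⟩ := exists_hom_commutator
    (Cfsg.Agent.Helper7.Transv.commutator_SL_eq_top (F := F) hm) _ hinj
  exact CLF.of_injective ψ hψ h

theorem CLF_Omega_plus (m : ℕ) (hm : 3 ≤ m) (h : CLF w (Matrix.SpecialLinearGroup (Fin m) F)) :
    CLF w ↥(Cfsg.Omega F (Cfsg.quadFormPlus m F)) :=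
  CLF_Omega_of_hom _ m hm hypGL hypGL_injective (plus_mem m) h

theorem CLF_Omega_odd (m : ℕ) (hm : 3 ≤ m) (h : CLF w (Matrix.SpecialLinearGroup (Fin m) F)) :
    CLF w ↥(Cfsg.Omega F (Cfsg.quadFormOdd m F)) :=
  CLF_Omega_of_hom _ m hm ((glBlockR Unit (Fin m ⊕ Fin m)).comp hypGL)
    ((glBlockR_injective _ _).comp hypGL_injective) (odd_mem m) h

theorem CLF_Omega_minus (m : ℕ) (hm : 3 ≤ m) (a b : F)
    (h : CLF w (Matrix.SpecialLinearGroup (Fin m) F)) :
    CLF w ↥(Cfsg.Omega F (Cfsg.quadFormMinus m F a b)) :=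
  CLF_Omega_of_hom _ m hm ((glBlockL (Fin 2) (Fin m ⊕ Fin m)).comp hypGL)
    ((glBlockL_injective _ _).comp hypGL_injective) (minus_mem m a b) h

theorem CLF_Sp (m : ℕ) (h : CLF w (Matrix.SpecialLinearGroup (Fin m) F)) :
    CLF w (Matrix.symplecticGroup (Fin m) F) :=
  CLF.of_injective (slToSp m) (slToSp_injective m) h

end OmegaCLF

end Cfsg.Agent.Helper8.Laws
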