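import Mathlib
import Cfsg.Agent.S2353
import Cfsg.Agent.Helper8.Laws

set_option autoImplicit false

namespace Cfsg.Agent.Helper8.Laws

open Matrix Polynomial

section NonScalar

variable {F : Type*} [Field F]

/-- evaluation of the polynomial generators at `t` -/
noncomputable def gEval (t : F) (i : ℕ) : Matrix.SpecialLinearGroup (Fin 2) F :=
  Matrix.SpecialLinearGroup.map (Polynomial.evalRingHom t) (Cfsg.Agent.S2353.gSL i)

theorem gEval_coe (t : F) (i : ℕ) : ((gEval t i : Matrix.SpecialLinearGroup (Fin 2) F) :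
    Matrix (Fin 2) (Fin 2) F) =
    !![t ^ (i + 1) * t ^ (i + 1) - 1, t ^ (i + 1); -t ^ (i + 1), -1] := by
  show (!![X ^ (i + 1) * X ^ (i + 1) - 1, X ^ (i + 1); -X ^ (i + 1), -1] :
    Matrix (Fin 2) (Fin 2) F[X]).map (Polynomial.evalRingHom t) = _
  ext a b
  fin_cases a <;> fin_cases b <;> simp

/-- For a non-trivial word and a large enough finite set `T` of scalars, some `t ∈ T` makes the
value of the word on the evaluated generators move the vector `(1,1)` off its line. -/
theorem exists_eval_nonscalar [DecidableEq F] (w : FreeGroup ℕ) (hw : w ≠ 1) (T : Finset F)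
    (hT : Cfsg.Agent.S2353.bnd w.toWord < T.card) :
    ∃ t ∈ T, ((FreeGroup.lift (gEval t) w : Matrix.SpecialLinearGroup (Fin 2) F) :
      Matrix (Fin 2) (Fin 2) F).mulVec ![1, 1] 0 ≠
      ((FreeGroup.lift (gEval t) w : Matrix.SpecialLinearGroup (Fin 2) F) :
      Matrix (Fin 2) (Fin 2) F).mulVec ![1, 1] 1 := by
  have hL : w.toWord ≠ [] := fun h => hw (FreeGroup.toWord_eq_nil_iff.mp h)
  obtain ⟨x, L', hxL⟩ := List.exists_cons_of_ne_nil hL
  have hred : FreeGroup.IsReduced w.toWord := FreeGroup.isReduced_toWord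
  set q : F[X] × F[X] := Cfsg.Agent.S2353.actWord w.toWord ((1 : F[X]), (1 : F[X])) with hq
  have hSt : Cfsg.Agent.S2353.St x q :=
    Cfsg.Agent.S2353.main_inv w.toWord hred x (by rw [hxL]; simp)
  have hbound := Cfsg.Agent.S2353.actWord_bound (F := F) w.toWord
  rw [← hq] at hbound
  have hne : q.1 - q.2 ≠ 0 := by
    intro h
    obtain ⟨_, _, h3⟩ := hSt
    rw [sub_eq_zero] at h
    rw [h] at h3
    split_ifs at h3 <;> omega
  have hdeg : (q.1 - q.2).natDegree < T.card := by
    have := natDegree_sub_le q.1 q.2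
    omega
  -- some `t ∈ T` is not a root
  have hex : ∃ t ∈ T, eval t (q.1 - q.2) ≠ 0 := by
    by_contra hcon
    push Not at hcon
    have := card_le_degree_of_subset_roots (p := q.1 - q.2) (Z := T) (by
      intro t ht
      rw [mem_roots hne]
      exact hcon t ht)
    omega
  obtain ⟨t, htT, ht⟩ := hex
  refine ⟨t, htT, ?_⟩
  have hlift : FreeGroup.lift (gEval t) w =
      Matrix.SpecialLinearGroup.map (Polynomial.evalRingHom t)
        (FreeGroup.lift Cfsg.Agent.S2353.gSL w) :=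
    lift_comp (Matrix.SpecialLinearGroup.map (Polynomial.evalRingHom t)) Cfsg.Agent.S2353.gSL w
  have hM : FreeGroup.lift (Cfsg.Agent.S2353.gSL (F := F)) w =
      ((w.toWord).map Cfsg.Agent.S2353.letter).prod := by
    conv_lhs => rw [← FreeGroup.mk_toWord (x := w), FreeGroup.lift_mk]
    rfl
  have hmv := Cfsg.Agent.S2353.mulVec_word w.toWord ((1 : F[X]), (1 : F[X]))
  rw [← hM, ← hq] at hmv
  have e0 := RingHom.map_mulVec (Polynomial.evalRingHom t)
    ((FreeGroup.lift Cfsg.Agent.S2353.gSL w : Matrix.SpecialLinearGroup (Fin 2) F[X]) :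
      Matrix (Fin 2) (Fin 2) F[X]) ![(1 : F[X]), 1] 0
  have e1 := RingHom.map_mulVec (Polynomial.evalRingHom t)
    ((FreeGroup.lift Cfsg.Agent.S2353.gSL w : Matrix.SpecialLinearGroup (Fin 2) F[X]) :
      Matrix (Fin 2) (Fin 2) F[X]) ![(1 : F[X]), 1] 1
  have hcoe : ((Matrix.SpecialLinearGroup.map (Polynomial.evalRingHom t)
      (FreeGroup.lift Cfsg.Agent.S2353.gSL w) : Matrix.SpecialLinearGroup (Fin 2) F) :
      Matrix (Fin 2) (Fin 2) F) =
      ((FreeGroup.lift Cfsg.Agent.S2353.gSL w : Matrix.SpecialLinearGroup (Fin 2) F[X]) :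
        Matrix (Fin 2) (Fin 2) F[X]).map (Polynomial.evalRingHom t) := rfl
  rw [hmv] at e0 e1
  rw [← hcoe, ← hlift] at e0 e1
  have hv : (⇑(Polynomial.evalRingHom t) ∘ ![(1 : F[X]), 1]) = ![(1 : F), 1] := by
    funext k
    fin_cases k <;> simp
  rw [hv] at e0 e1
  rw [← e0, ← e1]
  intro h
  apply ht
  rw [eval_sub, sub_eq_zero]
  exact h

end NonScalar

end Cfsg.Agent.Helper8.Laws
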