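import Mathlib
import Cfsg.Prelude.Def_Classical
import Cfsg.Agent.Helper8.Laws
import Cfsg.Agent.Helper8.FieldTwo
import Cfsg.Agent.Helper8.LawsSL2

set_option autoImplicit false

namespace Cfsg.Agent.Helper8.Laws

open Matrix Polynomial

section FieldFacts

variable {F : Type*} [Field F] [Fintype F] {q : ℕ}

theorem two_le_q (hF : Fintype.card F = q ^ 2) : 2 ≤ q := by
  have h1 : 1 < Fintype.card F := Fintype.one_lt_card
  rw [hF] at h1
  by_contra h
  have : q ≤ 1 := by omega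
  have : q ^ 2 ≤ 1 ^ 2 := Nat.pow_le_pow_left this 2
  omega

theorem pow_q_pow_q (hF : Fintype.card F = q ^ 2) (x : F) : (x ^ q) ^ q = x := by
  rw [← pow_mul, ← pow_two, ← hF, FiniteField.pow_card]

/-- `q` is a power of the characteristic, so `x ↦ x ^ q` is additive -/
theorem exists_frob (hF : Fintype.card F = q ^ 2) :
    ∃ σ : F →+* F, ∀ x, σ x = x ^ q := by
  obtain ⟨n, hp, hn⟩ := FiniteField.card F (ringChar F)
  haveI : Fact (ringChar F).Prime := ⟨hp⟩
  haveI : CharP F (ringChar F) := ringChar.charP F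
  have hq : q ∣ (ringChar F) ^ (n : ℕ) := by
    rw [← hn, hF]; exact dvd_pow_self q (by norm_num)
  obtain ⟨k, -, hk⟩ := (Nat.dvd_prime_pow hp).mp hq
  refine ⟨iterateFrobenius F (ringChar F) k, ?_⟩
  intro x
  rw [iterateFrobenius_def, hk]

theorem card_roots_le [DecidableEq F] (hF : Fintype.card F = q ^ 2) (s : F) :
    (Finset.univ.filter (fun x : F => x ^ q + x = s)).card ≤ q := by
  have hq := two_le_q hF
  set P : F[X] := X ^ q + X - C s with hP
  have hdeg : P.natDegree = q := by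
    rw [hP]
    have h1 : (X ^ q + X - C s : F[X]) = X ^ q + (X - C s) := by ring
    rw [h1, natDegree_add_eq_left_of_natDegree_lt]
    · exact natDegree_X_pow q
    · rw [natDegree_X_pow, natDegree_X_sub_C]; omega
  have hP0 : P ≠ 0 := by
    intro h
    rw [h, natDegree_zero] at hdeg
    omega
  have := card_le_degree_of_subset_roots (p := P)
    (Z := Finset.univ.filter (fun x : F => x ^ q + x = s)) (by
      intro x hx
      rw [Finset.mem_val, Finset.mem_filter] at hx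
      rw [mem_roots hP0, IsRoot, hP]
      simp [hx.2])
  rwa [hdeg] at this

/-- the fixed points of `x ↦ x ^ q` -/
noncomputable def fixSet (F : Type*) [Field F] [Fintype F] (q : ℕ) : Finset F :=
  by classical exact Finset.univ.filter (fun x : F => x ^ q = x)

theorem mem_fixSet (x : F) : x ∈ fixSet F q ↔ x ^ q = x := by
  classical
  simp [fixSet]

theorem card_fixSet_ge (hF : Fintype.card F = q ^ 2) : q ≤ (fixSet F q).card := by
  classical
  obtain ⟨σ, hσ⟩ := exists_frob hF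
  have hq := two_le_q hF
  have h1 := Finset.card_le_mul_card_image (f := fun x : F => x ^ q + x) Finset.univ q (by
    intro a _
    exact card_roots_le hF a)
  have h2 : (Finset.univ.image (fun x : F => x ^ q + x)) ⊆ fixSet F q := by
    intro y hy
    rw [Finset.mem_image] at hy
    obtain ⟨x, -, rfl⟩ := hy
    rw [mem_fixSet, ← hσ, map_add, hσ, hσ, pow_q_pow_q hF, add_comm]
  have h3 := Finset.card_le_card h2
  rw [Finset.card_univ, hF, pow_two] at h1
  have h4 : q * q ≤ q * (fixSet F q).card := h1.trans (Nat.mul_le_mul_left q h3)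
  exact Nat.le_of_mul_le_mul_left h4 (by omega)

theorem exists_not_fixed (hF : Fintype.card F = q ^ 2) : ∃ z : F, z ^ q ≠ z := by
  classical
  have hq := two_le_q hF
  by_contra h
  push Not at h
  -- all elements are roots of `X ^ q - X`
  set P : F[X] := X ^ q - X with hP
  have hdeg : P.natDegree = q := by
    rw [hP, natDegree_sub_eq_left_of_natDegree_lt]
    · exact natDegree_X_pow q
    · rw [natDegree_X_pow, natDegree_X]; omega
  have hP0 : P ≠ 0 := by
    intro h0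
    rw [h0, natDegree_zero] at hdeg
    omega
  have := card_le_degree_of_subset_roots (p := P) (Z := Finset.univ) (by
    intro x _
    rw [mem_roots hP0, IsRoot, hP]
    simp [h x])
  rw [hdeg, Finset.card_univ, hF] at this
  nlinarith

theorem exists_norm_neg_one (hF : Fintype.card F = q ^ 2) : ∃ c : F, c * c ^ q = -1 := by
  classical
  have hq := two_le_q hF
  rcases Nat.even_or_odd q with he | ho
  · -- characteristic two
    refine ⟨1, ?_⟩
    obtain ⟨n, hp, hn⟩ := FiniteField.card F (ringChar F)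
    have h2 : 2 ∣ (ringChar F) ^ (n : ℕ) := by
      rw [← hn, hF]
      exact dvd_pow he.two_dvd (by norm_num)
    have h3 : 2 ∣ ringChar F := Nat.Prime.dvd_of_dvd_pow Nat.prime_two h2
    have h4 : ringChar F = 2 := ((Nat.prime_dvd_prime_iff_eq Nat.prime_two hp).mp h3).symm
    haveI : CharP F 2 := by rw [← h4]; exact ringChar.charP F
    simp [CharTwo.neg_eq]
  · obtain ⟨g, hg⟩ := IsCyclic.exists_ofOrder_eq_natCard (α := Fˣ)
    rw [Nat.card_eq_fintype_card, Fintype.card_units, hF] at hg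
    obtain ⟨e, he⟩ := ho
    -- q = 2 e + 1, q² - 1 = 4 e (e + 1)
    have hq2 : q ^ 2 - 1 = 2 * (2 * e * (e + 1)) := by
      rw [he]
      have : (2 * e + 1) ^ 2 = 2 * (2 * e * (e + 1)) + 1 := by ring
      omega
    have he0 : e ≠ 0 := by omega
    have hord : orderOf ((g : F) ^ (2 * e * (e + 1))) = 2 := by
      have h1 : orderOf (g : F) = q ^ 2 - 1 := by rw [orderOf_units]; exact hg
      rw [orderOf_pow_of_dvd (by positivity) (by rw [h1, hq2]; exact Dvd.intro_left _ rfl), h1, hq2]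
      exact Nat.mul_div_cancel _ (by positivity)
    have hneg := Cfsg.Agent.Helper8.eq_neg_one_of_orderOf_eq_two _ hord
    refine ⟨(g : F) ^ e, ?_⟩
    rw [← pow_mul, ← pow_add, ← hneg]
    congr 1
    rw [he]
    ring

end FieldFacts

section Real

variable {F : Type*} [Field F] (σ : F →+* F)

/-- matrices in `SL₂(F)` with all entries fixed by `σ` -/
def realSL2 : Subgroup (Matrix.SpecialLinearGroup (Fin 2) F) where
  carrier := {g | ∀ i j, σ ((g : Matrix (Fin 2) (Fin 2) F) i j) = (g : Matrix (Fin 2) (Fin 2) F) i j}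
  mul_mem' := by
    intro a b ha hb i j
    rw [Matrix.SpecialLinearGroup.coe_mul, Matrix.mul_apply, map_sum]
    apply Finset.sum_congr rfl
    intro k _
    rw [map_mul, ha, hb]
  one_mem' := by
    intro i j
    rw [Matrix.SpecialLinearGroup.coe_one, Matrix.one_apply]
    split_ifs <;> simp
  inv_mem' := by
    intro a ha i j
    rw [Matrix.SpecialLinearGroup.coe_inv, Matrix.adjugate_fin_two]
    have ha' : ∀ i j, σ ((a : Matrix (Fin 2) (Fin 2) F) i j) = (a : Matrix (Fin 2) (Fin 2) F) i j := ha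
    fin_cases i <;> fin_cases j <;> simp [ha']

theorem gEval_mem_real (t : F) (ht : σ t = t) (i : ℕ) : gEval t i ∈ realSL2 σ := by
  intro a b
  rw [gEval_coe]
  fin_cases a <;> fin_cases b <;> simp [ht]

/-- upper elementary matrix -/
def T1 : Matrix.SpecialLinearGroup (Fin 2) F := ⟨!![1, 1; 0, 1], by simp [Matrix.det_fin_two]⟩

/-- lower elementary matrix -/
def T2 : Matrix.SpecialLinearGroup (Fin 2) F := ⟨!![1, 0; 1, 1], by simp [Matrix.det_fin_two]⟩

theorem T1_mem : (T1 : Matrix.SpecialLinearGroup (Fin 2) F) ∈ realSL2 σ := by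
  intro a b
  show σ ((!![1, 1; 0, 1] : Matrix (Fin 2) (Fin 2) F) a b) = (!![1, 1; 0, 1] : Matrix (Fin 2) (Fin 2) F) a b
  fin_cases a <;> fin_cases b <;> simp

theorem T2_mem : (T2 : Matrix.SpecialLinearGroup (Fin 2) F) ∈ realSL2 σ := by
  intro a b
  show σ ((!![1, 0; 1, 1] : Matrix (Fin 2) (Fin 2) F) a b) = (!![1, 0; 1, 1] : Matrix (Fin 2) (Fin 2) F) a b
  fin_cases a <;> fin_cases b <;> simp

theorem comm_T_scalar (M : Matrix.SpecialLinearGroup (Fin 2) F) (h1 : M * T1 = T1 * M)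
    (h2 : M * T2 = T2 * M) :
    (M : Matrix (Fin 2) (Fin 2) F).mulVec ![1, 1] 0 = (M : Matrix (Fin 2) (Fin 2) F).mulVec ![1, 1] 1 := by
  have e1 := congrArg (fun X : Matrix.SpecialLinearGroup (Fin 2) F => (X : Matrix (Fin 2) (Fin 2) F)) h1
  have e2 := congrArg (fun X : Matrix.SpecialLinearGroup (Fin 2) F => (X : Matrix (Fin 2) (Fin 2) F)) h2
  simp only [Matrix.SpecialLinearGroup.coe_mul] at e1 e2
  change (M : Matrix (Fin 2) (Fin 2) F) * !![1, 1; 0, 1] = !![1, 1; 0, 1] * (M : Matrix (Fin 2) (Fin 2) F) at e1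
  change (M : Matrix (Fin 2) (Fin 2) F) * !![1, 0; 1, 1] = !![1, 0; 1, 1] * (M : Matrix (Fin 2) (Fin 2) F) at e2
  have a1 := congrFun (congrFun e1 0) 0
  have a2 := congrFun (congrFun e1 0) 1
  have b1 := congrFun (congrFun e2 0) 0
  simp [Matrix.mul_apply, Fin.sum_univ_two] at a1 a2 b1
  simp [Matrix.mulVec, dotProduct, Fin.sum_univ_two]
  rw [a1, b1] at *
  linear_combination a2

theorem CLF_real [DecidableEq F] (w : FreeGroup ℕ) (hw : w ≠ 1) (T : Finset F)
    (hTσ : ∀ t ∈ T, σ t = t) (hT : Cfsg.Agent.S2353.bnd w.toWord < T.card) :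
    CLF w ↥(realSL2 σ) := by
  obtain ⟨t, htT, ht⟩ := exists_eval_nonscalar w hw T hT
  refine ⟨fun i => ⟨gEval t i, gEval_mem_real σ t (hTσ t htT) i⟩, ?_⟩
  intro hc
  apply ht
  have hl : ((realSL2 σ).subtype) (FreeGroup.lift (fun i => (⟨gEval t i, gEval_mem_real σ t (hTσ t htT) i⟩ :
      ↥(realSL2 σ))) w) = FreeGroup.lift (gEval t) w :=
    (lift_comp (realSL2 σ).subtype _ w).symm
  rw [Subgroup.mem_center_iff] at hc
  have c1 := hc ⟨T1, T1_mem σ⟩
  have c2 := hc ⟨T2, T2_mem σ⟩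
  have d1 := congrArg (realSL2 σ).subtype c1
  have d2 := congrArg (realSL2 σ).subtype c2
  rw [map_mul, map_mul, hl] at d1 d2
  exact comm_T_scalar _ d1.symm d2.symm

/-- the diagonal hermitian form on `F²` -/
def hdiag (u v : Fin 2 → F) : F := u 0 * σ (v 0) + u 1 * σ (v 1)

/-- a hyperbolic hermitian form on `F²` -/
def hhyp (z : F) (u v : Fin 2 → F) : F := (σ z - z)⁻¹ * (u 0 * σ (v 1) - u 1 * σ (v 0))

/-- the change of basis matrix -/
def Pmat (z c : F) : Matrix (Fin 2) (Fin 2) F := !![1, c; z, c * σ z]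

theorem hhyp_P (hσσ : ∀ x, σ (σ x) = x) (z c : F) (hz : σ z ≠ z) (hc : c * σ c = -1)
    (u v : Fin 2 → F) :
    hhyp σ z ((Pmat σ z c).mulVec u) ((Pmat σ z c).mulVec v) = hdiag σ u v := by
  have hd : σ z - z ≠ 0 := sub_ne_zero.mpr hz
  have hγ : (σ z - z)⁻¹ * (σ z - z) = 1 := inv_mul_cancel₀ hd
  simp only [hhyp, hdiag, Pmat, Matrix.mulVec, dotProduct, Fin.sum_univ_two, Matrix.of_apply,
    Matrix.cons_val_zero, Matrix.cons_val_one, Matrix.cons_val', Matrix.cons_val_fin_one,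
    map_add, map_mul, hσσ, one_mul, map_one]
  linear_combination (u 0 * σ (v 0) + u 1 * σ (v 1)) * hγ
    - ((σ z - z)⁻¹ * (σ z - z) * u 1 * σ (v 1)) * hc

theorem hhyp_real (z : F) (g : Matrix.SpecialLinearGroup (Fin 2) F) (hg : g ∈ realSL2 σ)
    (u v : Fin 2 → F) :
    hhyp σ z ((g : Matrix (Fin 2) (Fin 2) F).mulVec u) ((g : Matrix (Fin 2) (Fin 2) F).mulVec v) =
      hhyp σ z u v := by
  have hdet := g.det_coe
  rw [Matrix.det_fin_two] at hdet
  have h00 := hg 0 0
  have h01 := hg 0 1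
  have h10 := hg 1 0
  have h11 := hg 1 1
  simp only [hhyp, Matrix.mulVec, dotProduct, Fin.sum_univ_two, map_add, map_mul, h00, h01, h10, h11]
  linear_combination ((σ z - z)⁻¹ * (u 0 * σ (v 1) - u 1 * σ (v 0))) * hdet

theorem det_Pmat (z c : F) : (Pmat σ z c).det = c * (σ z - z) := by
  rw [Pmat, Matrix.det_fin_two_of]; ring

/-- conjugation by an invertible matrix, on `SL₂` -/
noncomputable def conjSL (P : Matrix (Fin 2) (Fin 2) F) (hP : P.det ≠ 0) :
    Matrix.SpecialLinearGroup (Fin 2) F →* Matrix.SpecialLinearGroup (Fin 2) F where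
  toFun g := ⟨P⁻¹ * (g : Matrix (Fin 2) (Fin 2) F) * P, by
    rw [Matrix.det_mul, Matrix.det_mul, g.det_coe, mul_one, ← Matrix.det_mul,
      Matrix.nonsing_inv_mul P (isUnit_iff_ne_zero.mpr hP), Matrix.det_one]⟩
  map_one' := by
    apply Subtype.ext
    show P⁻¹ * ((1 : Matrix.SpecialLinearGroup (Fin 2) F) : Matrix (Fin 2) (Fin 2) F) * P = 1
    rw [Matrix.SpecialLinearGroup.coe_one, Matrix.mul_one,
      Matrix.nonsing_inv_mul P (isUnit_iff_ne_zero.mpr hP)]
  map_mul' g h := by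
    apply Subtype.ext
    show P⁻¹ * ((g * h : Matrix.SpecialLinearGroup (Fin 2) F) : Matrix (Fin 2) (Fin 2) F) * P =
      (P⁻¹ * (g : Matrix (Fin 2) (Fin 2) F) * P) * (P⁻¹ * (h : Matrix (Fin 2) (Fin 2) F) * P)
    have hPP : P * P⁻¹ = 1 := Matrix.mul_nonsing_inv P (isUnit_iff_ne_zero.mpr hP)
    rw [Matrix.SpecialLinearGroup.coe_mul]
    calc P⁻¹ * ((g : Matrix (Fin 2) (Fin 2) F) * (h : Matrix (Fin 2) (Fin 2) F)) * P
        = P⁻¹ * (g : Matrix (Fin 2) (Fin 2) F) * 1 * (h : Matrix (Fin 2) (Fin 2) F) * P := by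
          simp [Matrix.mul_assoc]
      _ = P⁻¹ * (g : Matrix (Fin 2) (Fin 2) F) * (P * P⁻¹) * (h : Matrix (Fin 2) (Fin 2) F) * P := by
          rw [hPP]
      _ = _ := by simp only [Matrix.mul_assoc]

theorem conjSL_coe (P : Matrix (Fin 2) (Fin 2) F) (hP : P.det ≠ 0)
    (g : Matrix.SpecialLinearGroup (Fin 2) F) :
    ((conjSL P hP g : Matrix.SpecialLinearGroup (Fin 2) F) : Matrix (Fin 2) (Fin 2) F) =
      P⁻¹ * (g : Matrix (Fin 2) (Fin 2) F) * P := rfl

theorem conjSL_injective (P : Matrix (Fin 2) (Fin 2) F) (hP : P.det ≠ 0) :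
    Function.Injective (conjSL P hP) := by
  intro g h e
  have hPP : P * P⁻¹ = 1 := Matrix.mul_nonsing_inv P (isUnit_iff_ne_zero.mpr hP)
  have e1 : P⁻¹ * (g : Matrix (Fin 2) (Fin 2) F) * P = P⁻¹ * (h : Matrix (Fin 2) (Fin 2) F) * P :=
    congrArg (fun X : Matrix.SpecialLinearGroup (Fin 2) F => (X : Matrix (Fin 2) (Fin 2) F)) e
  apply Subtype.ext
  calc (g : Matrix (Fin 2) (Fin 2) F)
      = (P * P⁻¹) * (g : Matrix (Fin 2) (Fin 2) F) * (P * P⁻¹) := by rw [hPP]; simp
    _ = P * (P⁻¹ * (g : Matrix (Fin 2) (Fin 2) F) * P) * P⁻¹ := by simp only [Matrix.mul_assoc]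
    _ = P * (P⁻¹ * (h : Matrix (Fin 2) (Fin 2) F) * P) * P⁻¹ := by rw [e1]
    _ = (P * P⁻¹) * (h : Matrix (Fin 2) (Fin 2) F) * (P * P⁻¹) := by simp only [Matrix.mul_assoc]
    _ = (h : Matrix (Fin 2) (Fin 2) F) := by rw [hPP]; simp

theorem hdiag_conj (hσσ : ∀ x, σ (σ x) = x) (z c : F) (hz : σ z ≠ z) (hc : c * σ c = -1)
    (hP : (Pmat σ z c).det ≠ 0)
    (g : Matrix.SpecialLinearGroup (Fin 2) F) (hg : g ∈ realSL2 σ) (u v : Fin 2 → F) :
    hdiag σ (((conjSL (Pmat σ z c) hP g : Matrix.SpecialLinearGroup (Fin 2) F) :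
        Matrix (Fin 2) (Fin 2) F).mulVec u)
      (((conjSL (Pmat σ z c) hP g : Matrix.SpecialLinearGroup (Fin 2) F) :
        Matrix (Fin 2) (Fin 2) F).mulVec v) = hdiag σ u v := by
  have hPP : Pmat σ z c * (Pmat σ z c)⁻¹ = 1 :=
    Matrix.mul_nonsing_inv _ (isUnit_iff_ne_zero.mpr hP)
  have key : ∀ x : Fin 2 → F, (Pmat σ z c).mulVec
      (((conjSL (Pmat σ z c) hP g : Matrix.SpecialLinearGroup (Fin 2) F) :
        Matrix (Fin 2) (Fin 2) F).mulVec x) =
      (g : Matrix (Fin 2) (Fin 2) F).mulVec ((Pmat σ z c).mulVec x) := by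
    intro x
    rw [conjSL_coe, Matrix.mulVec_mulVec, Matrix.mulVec_mulVec, ← Matrix.mul_assoc, ← Matrix.mul_assoc,
      hPP, Matrix.one_mul]
  rw [← hhyp_P σ hσσ z c hz hc, key, key, hhyp_real σ z g hg, hhyp_P σ hσσ z c hz hc]

end Real

section SUn

variable {F : Type*} [Field F]

theorem sl2ToSLn_coe (n : ℕ) (hn : 2 ≤ n) (A : Matrix.SpecialLinearGroup (Fin 2) F) :
    ((sl2ToSLn n hn A : Matrix.SpecialLinearGroup (Fin n) F) : Matrix (Fin n) (Fin n) F) =
      Matrix.reindex ((finSumFinEquiv (m := 2) (n := n - 2)).trans (finCongr (by omega)))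
        ((finSumFinEquiv (m := 2) (n := n - 2)).trans (finCongr (by omega)))
        (Matrix.fromBlocks (A : Matrix (Fin 2) (Fin 2) F) 0 0 1) := rfl

/-- a block matrix built from a `2 × 2` isometry of the diagonal hermitian form lies in `SU_n` -/
theorem su_block_mem (n q : ℕ) (hn : 2 ≤ n) (A : Matrix.SpecialLinearGroup (Fin 2) F)
    (hA : ∀ u v : Fin 2 → F,
      ∑ i, ((A : Matrix (Fin 2) (Fin 2) F).mulVec u) i * (((A : Matrix (Fin 2) (Fin 2) F).mulVec v) i) ^ q =
        ∑ i, u i * (v i) ^ q) :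
    sl2ToSLn n hn A ∈ Cfsg.SU n F q := by
  intro u v
  show Cfsg.hermForm n F q
    (((sl2ToSLn n hn A : Matrix.SpecialLinearGroup (Fin n) F) : Matrix (Fin n) (Fin n) F).mulVec u)
    (((sl2ToSLn n hn A : Matrix.SpecialLinearGroup (Fin n) F) : Matrix (Fin n) (Fin n) F).mulVec v) =
    Cfsg.hermForm n F q u v
  rw [sl2ToSLn_coe]
  set e : Fin 2 ⊕ Fin (n - 2) ≃ Fin n :=
    (finSumFinEquiv (m := 2) (n := n - 2)).trans (finCongr (by omega)) with he
  unfold Cfsg.hermForm
  rw [Matrix.reindex_apply, Matrix.submatrix_mulVec_equiv, Matrix.submatrix_mulVec_equiv,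
    Equiv.symm_symm]
  rw [← Equiv.sum_comp e.symm.symm, Equiv.symm_symm]
  simp only [Function.comp_apply, Equiv.symm_apply_apply]
  rw [Fintype.sum_sum_type, Matrix.fromBlocks_mulVec, Matrix.fromBlocks_mulVec]
  simp only [Sum.elim_inl, Sum.elim_inr, Matrix.zero_mulVec, add_zero, zero_add, Matrix.one_mulVec]
  have h1 := hA (u ∘ e ∘ Sum.inl) (v ∘ e ∘ Sum.inl)
  rw [← Equiv.sum_comp e (fun i => u i * v i ^ q), Fintype.sum_sum_type]
  simp only [Function.comp_apply] at h1 ⊢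
  rw [← h1]
  rfl

theorem alt_mem_SU (n q : ℕ) (s : alternatingGroup (Fin n)) : altToSL (F := F) n s ∈ Cfsg.SU n F q := by
  intro u v
  show Cfsg.hermForm n F q
    ((((s : Equiv.Perm (Fin n))⁻¹).permMatrix F).mulVec u)
    ((((s : Equiv.Perm (Fin n))⁻¹).permMatrix F).mulVec v) = Cfsg.hermForm n F q u v
  rw [Matrix.permMatrix_mulVec, Matrix.permMatrix_mulVec]
  unfold Cfsg.hermForm
  exact Equiv.sum_comp ((s : Equiv.Perm (Fin n))⁻¹) (fun i => u i * v i ^ q)

theorem CLF_SU_of_alt {w : FreeGroup ℕ} (n q : ℕ) (hn : 4 ≤ n)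
    (h : ∃ f : ℕ → alternatingGroup (Fin n), FreeGroup.lift f w ≠ 1) :
    CLF w ↥(Cfsg.SU n F q) := by
  have hinj : Function.Injective ((altToSL (F := F) n).codRestrict (Cfsg.SU n F q) (alt_mem_SU n q)) := by
    intro a b hab
    exact altToSL_injective n (congrArg Subtype.val hab)
  apply CLF.of_injective _ hinj
  apply CLF.of_ne_one _ h
  apply alternatingGroup.center_eq_bot
  simpa using hn

theorem CLF_SU_of_field [Fintype F] {w : FreeGroup ℕ} (hw : w ≠ 1) (n q : ℕ) (hn : 2 ≤ n)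
    (hF : Fintype.card F = q ^ 2) (hq : Cfsg.Agent.S2353.bnd w.toWord < q) :
    CLF w ↥(Cfsg.SU n F q) := by
  classical
  obtain ⟨σ, hσ⟩ := exists_frob hF
  have hσσ : ∀ x, σ (σ x) = x := by
    intro x; rw [hσ, hσ, pow_q_pow_q hF]
  obtain ⟨z, hz⟩ := exists_not_fixed hF
  obtain ⟨c, hc⟩ := exists_norm_neg_one hF
  have hz' : σ z ≠ z := by rw [hσ]; exact hz
  have hc' : c * σ c = -1 := by rw [hσ]; exact hc
  have hc0 : c ≠ 0 := by
    rintro rfl
    simp at hc
  have hP : (Pmat σ z c).det ≠ 0 := by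
    rw [det_Pmat]
    exact mul_ne_zero hc0 (sub_ne_zero.mpr hz')
  have hreal : CLF w ↥(realSL2 σ) := by
    apply CLF_real σ w hw (fixSet F q)
    · intro t ht
      rw [hσ]
      exact (mem_fixSet t).mp ht
    · exact lt_of_lt_of_le hq (card_fixSet_ge hF)
  -- the embedding
  let φ : ↥(realSL2 σ) →* Matrix.SpecialLinearGroup (Fin n) F :=
    ((sl2ToSLn n hn).comp (conjSL (Pmat σ z c) hP)).comp (realSL2 σ).subtype
  have hφmem : ∀ g, φ g ∈ Cfsg.SU n F q := by
    intro g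
    refine su_block_mem n q hn _ ?_
    intro u v
    have := hdiag_conj σ hσσ z c hz' hc' hP g.1 g.2 u v
    simp only [hdiag, hσ] at this
    rw [Fin.sum_univ_two, Fin.sum_univ_two]
    exact this
  have hinj : Function.Injective (φ.codRestrict (Cfsg.SU n F q) hφmem) := by
    intro a b hab
    have h1 : φ a = φ b := congrArg Subtype.val hab
    exact Subtype.ext (conjSL_injective _ hP (sl2ToSLn_injective n hn h1))
  exact CLF.of_injective _ hinj hreal

end SUn

end Cfsg.Agent.Helper8.Laws
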