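import Mathlib
import Cfsg.Prelude.Def_LieTypeChar
import Cfsg.Agent.Helper8.LieOrdC
import Cfsg.Agent.S0243
import Cfsg.Agent.S0246
import Cfsg.Agent.S0280
import Cfsg.Agent.S0292
import Cfsg.Agent.S0293
import Cfsg.Agent.S0294
import Cfsg.Agent.Helper8.SpOrder
import Cfsg.Agent.Helper7.SzOrder
import Cfsg.Agent.Helper7.SzLie

set_option autoImplicit false

/-!
Order bounds for the classical families and the Suzuki groups.
-/

namespace Cfsg.Agent.Helper8.LieOrd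

/-- the conclusion of the theorem -/
def Goal (p : ℕ) (G : Type*) [Group G] : Prop :=
  Nat.card G < p ^ (3 * (Nat.card G).factorization p) ∧
    ((¬ ∃ (F : Type) (_ : Field F) (_ : Fintype F),
        Fintype.card F = p ^ (Nat.card G).factorization p ∧
          Nonempty (G ≃* Matrix.ProjectiveSpecialLinearGroup (Fin 2) F)) →
      Nat.card G ^ 3 < p ^ (8 * (Nat.card G).factorization p))

theorem field_card (F : Type*) [Field F] [Fintype F] (p : ℕ) [CharP F p] :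
    ∃ f, 1 ≤ f ∧ Fintype.card F = p ^ f := by
  obtain ⟨n, -, hn⟩ := FiniteField.card F p
  exact ⟨n, n.pos, hn⟩

theorem root_card {p q t n : ℕ} (hp : p.Prime) (ht : 1 ≤ t) (hn : 1 ≤ n) (h : q ^ t = p ^ n) :
    ∃ j, 1 ≤ j ∧ q = p ^ j := by
  have h1 : q ∣ p ^ n := h ▸ dvd_pow_self q (by omega)
  obtain ⟨j, -, rfl⟩ := (Nat.dvd_prime_pow hp).mp h1
  refine ⟨j, ?_, rfl⟩
  by_contra hj
  have hj0 : j = 0 := by omega
  subst hj0
  rw [pow_zero, one_pow] at h
  have : 2 ≤ p ^ n := by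
    calc 2 ≤ p := hp.two_le
      _ = p ^ 1 := (pow_one p).symm
      _ ≤ p ^ n := Nat.pow_le_pow_right hp.pos hn
  omega

variable {G : Type*} [Group G] [Finite G]

theorem case_psl (p : ℕ) (hp : p.Prime) (hG : Cfsg.IsPSLChar p G) : Goal p G := by
  obtain ⟨F, _, _, _, n, hn, hn2, ⟨e⟩⟩ := hG
  have hc : Nat.card G = Nat.card (Matrix.ProjectiveSpecialLinearGroup (Fin n) F) :=
    Nat.card_congr e.toEquiv
  obtain ⟨f, hf, hF⟩ := field_card F p
  have h := Cfsg.Agent.S0243.result hF n hn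
  rw [← hc] at h
  rcases Nat.lt_or_ge n 3 with h3 | h3
  · obtain rfl : n = 2 := by omega
    obtain ⟨h1, h2⟩ := fam_psl2 hp hf rfl Nat.card_pos h
    refine ⟨h1, fun hX => absurd ⟨F, inferInstance, inferInstance, ?_, ⟨e⟩⟩ hX⟩
    rw [h2]
    exact hF
  · exact fam_psl hp hf rfl h3 Nat.card_pos h _

theorem case_psp (p : ℕ) (hp : p.Prime) (hG : Cfsg.IsPSpChar p G) : Goal p G := by
  obtain ⟨F, _, _, _, m, hm, -, ⟨e⟩⟩ := hG
  have hc : Nat.card G = Nat.card (Cfsg.PSp m F) := Nat.card_congr e.toEquiv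
  obtain ⟨f, hf, hF⟩ := field_card F p
  have h1 := Cfsg.Agent.Helper8.SpOrder.card_symp (F := F) m
  have h2 := Cfsg.Agent.S0246.result hF m (by omega)
  have h3 := Subgroup.card_eq_card_quotient_mul_card_subgroup
    (Subgroup.center (Matrix.symplecticGroup (Fin m) F))
  rw [h1, h2, hF] at h3
  have hpq := dvd_q hf (rfl : p ^ f = p ^ f)
  have hq2 := two_le_q hp hf (rfl : p ^ f = p ^ f)
  refine fam_sp hp hf rfl hm Nat.card_pos (d := Nat.gcd 2 (p ^ f - 1))
    (Nat.gcd_pos_of_pos_left _ (by norm_num))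
    (cop_of_dvd (cop_sub' hpq (by omega)) (Nat.gcd_dvd_right _ _)) ?_ _
  rw [hc, h3, mul_comm]

theorem case_psu (p : ℕ) (hp : p.Prime) (hG : Cfsg.IsPSUChar p G) : Goal p G := by
  obtain ⟨F, _, _, _, n, q, hFq, hn, -, ⟨e⟩⟩ := hG
  have hc : Nat.card G = Nat.card (Cfsg.PSU n F q) := Nat.card_congr e.toEquiv
  obtain ⟨f, hf, hF⟩ := field_card F p
  obtain ⟨j, hj, rfl⟩ := root_card hp (show 1 ≤ 2 by norm_num) hf (hFq.symm.trans hF)
  have h := Cfsg.Agent.S0280.result hFq n (by omega)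
  rw [← hc] at h
  exact fam_psu hp hj rfl hn Nat.card_pos h _

theorem case_oodd (p : ℕ) (hp : p.Prime) (hG : Cfsg.IsPOmegaOddChar p G) : Goal p G := by
  obtain ⟨F, _, _, _, m, hm, hodd, ⟨e⟩⟩ := hG
  have hc : Nat.card G = Nat.card (Cfsg.POmega F (Cfsg.quadFormOdd m F)) :=
    Nat.card_congr e.toEquiv
  obtain ⟨f, hf, hF⟩ := field_card F p
  rw [hF] at hodd
  have h := Cfsg.Agent.S0292.result hF hodd m hm
  rw [← hc] at h
  have hp2 : p ≠ 2 := by
    rintro rfl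
    have h2 : Even (2 ^ f) := (Nat.even_pow' (by omega)).mpr even_two
    exact (Nat.not_odd_iff_even.mpr h2) hodd
  exact fam_sp hp hf rfl (by omega) Nat.card_pos (by norm_num)
    ((Nat.coprime_primes hp Nat.prime_two).mpr hp2) h _

theorem case_oplus (p : ℕ) (hp : p.Prime) (hG : Cfsg.IsPOmegaPlusChar p G) : Goal p G := by
  obtain ⟨F, _, _, _, m, hm, ⟨e⟩⟩ := hG
  have hc : Nat.card G = Nat.card (Cfsg.POmega F (Cfsg.quadFormPlus m F)) :=
    Nat.card_congr e.toEquiv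
  obtain ⟨f, hf, hF⟩ := field_card F p
  have h := Cfsg.Agent.S0293.result hF m hm
  rw [← hc] at h
  exact fam_oplus hp hf rfl hm Nat.card_pos h _

theorem case_ominus (p : ℕ) (hp : p.Prime) (hG : Cfsg.IsPOmegaMinusChar p G) : Goal p G := by
  obtain ⟨F, _, _, _, m, a, b, hm, hab, ⟨e⟩⟩ := hG
  have hc : Nat.card G = Nat.card (Cfsg.POmega F (Cfsg.quadFormMinus (m - 1) F a b)) :=
    Nat.card_congr e.toEquiv
  obtain ⟨f, hf, hF⟩ := field_card F p
  have h := Cfsg.Agent.S0294.result hF m hm a b hab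
  rw [← hc] at h
  exact fam_ominus hp hf rfl hm Nat.card_pos h _

theorem case_sz (hG : Cfsg.Lie.IsoSuzuki G) : Goal 2 G := by
  obtain ⟨F, _, _, m, hm, hF, ⟨e⟩⟩ := hG
  have hFH : Cfsg.Agent.Helper7.Sz.FH F m := ⟨hm, hF⟩
  have hc : Nat.card G = Nat.card (Cfsg.Sz F m) :=
    Nat.card_congr (e.trans (Cfsg.Agent.Helper7.SzLie.lieEquiv hFH).symm).toEquiv
  have h := Cfsg.Agent.Helper7.Sz.card_Sz hFH
  rw [← hc, hF] at h
  exact fam_sz Nat.prime_two (show 1 ≤ 2 * m + 1 by omega) rfl Nat.card_pos h _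

end Cfsg.Agent.Helper8.LieOrd
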