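import Mathlib
import Cfsg.Prelude.Def_LieTypeChar
import Cfsg.Agent.Helper8.LieOrdD
import Cfsg.Agent.S1059
import Cfsg.Agent.S1062
import Cfsg.Agent.S1063
import Cfsg.Agent.S1064
import Cfsg.Agent.S1065
import Cfsg.Agent.S1066
import Cfsg.Agent.S1067
import Cfsg.Agent.S1068
import Cfsg.Agent.S1069

set_option autoImplicit false

/-!
Order bounds for the exceptional and twisted families, and the assembly.
-/

namespace Cfsg.Agent.Helper8.LieOrd

variable {G : Type*} [Group G] [Finite G]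

theorem case_exc (p : ℕ) (hp : p.Prime) (hG : Cfsg.IsExceptionalChevChar p G) : Goal p G := by
  obtain ⟨F, _, _, _, hG⟩ := hG
  obtain ⟨f, hf, hF⟩ := field_card F p
  rcases hG with ⟨-, ⟨e⟩⟩ | ⟨⟨e⟩⟩ | ⟨⟨e⟩⟩ | ⟨⟨e⟩⟩ | ⟨⟨e⟩⟩
  · have hc : Nat.card G = Nat.card ↥(Cfsg.Lie.chevG2.group F) := Nat.card_congr e.toEquiv
    have h := Cfsg.Agent.S1059.result hF
    rw [← hc] at h
    exact fam_g2 hp hf rfl Nat.card_pos h _
  · have hc : Nat.card G = Nat.card ↥(Cfsg.Lie.chevF4.group F) := Nat.card_congr e.toEquiv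
    have h := Cfsg.Agent.S1062.result hF
    rw [← hc] at h
    exact fam_f4 hp hf rfl Nat.card_pos h _
  · have hc : Nat.card G = Nat.card ↥(Cfsg.Lie.chevE6.group F) := Nat.card_congr e.toEquiv
    have h := Cfsg.Agent.S1063.result hF
    rw [← hc] at h
    exact fam_e6 hp hf rfl Nat.card_pos h _
  · have hc : Nat.card G = Nat.card ↥(Cfsg.Lie.chevE7.group F) := Nat.card_congr e.toEquiv
    have h := Cfsg.Agent.S1064.result hF
    rw [← hc] at h
    exact fam_e7 hp hf rfl Nat.card_pos h _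
  · have hc : Nat.card G = Nat.card ↥(Cfsg.Lie.chevE8.group F) := Nat.card_congr e.toEquiv
    have h := Cfsg.Agent.S1065.result hF
    rw [← hc] at h
    exact fam_e8 hp hf rfl Nat.card_pos h _

theorem case_tw (p : ℕ) (hp : p.Prime) (hG : Cfsg.IsTwistedE6D4Char p G) : Goal p G := by
  obtain ⟨K, _, _, _, q, hq, hG⟩ := hG
  obtain ⟨f, hf, hF⟩ := field_card K p
  rcases hG with ⟨hK, ⟨e⟩⟩ | ⟨hK, ⟨e⟩⟩
  · obtain ⟨j, hj, rfl⟩ := root_card hp (show 1 ≤ 2 by norm_num) hf (hK.symm.trans hF)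
    have hc : Nat.card G = Nat.card ↥(Cfsg.Lie.twistedE6 K (p ^ j)) := Nat.card_congr e.toEquiv
    have h := Cfsg.Agent.S1066.result hq hK
    rw [← hc] at h
    exact fam_2e6 hp hj rfl Nat.card_pos h _
  · obtain ⟨j, hj, rfl⟩ := root_card hp (show 1 ≤ 3 by norm_num) hf (hK.symm.trans hF)
    have hc : Nat.card G = Nat.card ↥(Cfsg.Lie.twistedD4 K (p ^ j)) := Nat.card_congr e.toEquiv
    have h := Cfsg.Agent.S1067.result hq hK
    rw [← hc] at h
    exact fam_3d4 hp hj rfl Nat.card_pos h _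

theorem case_2f4 (hG : Cfsg.Lie.Iso2F4 G) : Goal 2 G := by
  obtain ⟨K, _, _, m, -, hK, ⟨e⟩⟩ := hG
  have hc : Nat.card G = Nat.card ↥(Cfsg.Lie.twistedF4 K (2 ^ m)) := Nat.card_congr e.toEquiv
  have h := Cfsg.Agent.S1068.result hK
  rw [← hc] at h
  exact fam_2f4 Nat.prime_two (show 1 ≤ 2 * m + 1 by omega) rfl Nat.card_pos h _

theorem case_2g2 (hG : Cfsg.Lie.IsoRee G) : Goal 3 G := by
  obtain ⟨K, _, _, m, -, hK, ⟨e⟩⟩ := hG
  have hc : Nat.card G = Nat.card ↥(Cfsg.Lie.twistedG2 K (3 ^ m)) := Nat.card_congr e.toEquiv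
  have h := Cfsg.Agent.S1069.result hK
  rw [← hc] at h
  exact fam_2g2 Nat.prime_three (show 1 ≤ 2 * m + 1 by omega) rfl Nat.card_pos h _

theorem main (p : ℕ) (hp : p.Prime) (hG : Cfsg.IsLieTypeChar p G) : Goal p G := by
  rcases hG with h | h | h | h | h | h | h | h | ⟨rfl, h⟩ | ⟨rfl, h⟩ | ⟨rfl, h⟩
  · exact case_psl p hp h
  · exact case_psp p hp h
  · exact case_psu p hp h
  · exact case_oodd p hp h
  · exact case_oplus p hp h
  · exact case_ominus p hp h
  · exact case_exc p hp h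
  · exact case_tw p hp h
  · exact case_sz h
  · exact case_2f4 h
  · exact case_2g2 h

end Cfsg.Agent.Helper8.LieOrd
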