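import Mathlib

set_option autoImplicit false

namespace Cfsg.Agent.Helper8

/-- product of prime powers from a list of `(prime, exponent)` pairs -/
def listProd (L : List (ℕ × ℕ)) : ℕ := (L.map (fun x => x.1 ^ x.2)).prod

theorem listProd_cons (x : ℕ × ℕ) (L : List (ℕ × ℕ)) :
    listProd (x :: L) = x.1 ^ x.2 * listProd L := by
  simp [listProd]

theorem listProd_ne_zero (L : List (ℕ × ℕ)) (hprime : ∀ x ∈ L, x.1.Prime) : listProd L ≠ 0 := by
  induction L with
  | nil => simp [listProd]
  | cons x L ih =>
    rw [listProd_cons]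
    apply mul_ne_zero
    · exact pow_ne_zero _ (hprime x (List.mem_cons_self)).ne_zero
    · exact ih (fun y hy => hprime y (List.mem_cons_of_mem _ hy))

theorem exists_of_prime_dvd_listProd (L : List (ℕ × ℕ)) (hprime : ∀ x ∈ L, x.1.Prime)
    (p : ℕ) (hp : p.Prime) (hdvd : p ∣ listProd L) : ∃ x ∈ L, x.1 = p := by
  induction L with
  | nil =>
    simp only [listProd, List.map_nil, List.prod_nil, Nat.dvd_one] at hdvd
    exact absurd hdvd hp.one_lt.ne'
  | cons x L ih =>
    rw [listProd_cons] at hdvd
    rcases (Nat.Prime.dvd_mul hp).mp hdvd with h | h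
    · have h1 : p ∣ x.1 := hp.dvd_of_dvd_pow h
      have h2 : p = x.1 := (Nat.prime_dvd_prime_iff_eq hp (hprime x List.mem_cons_self)).mp h1
      exact ⟨x, List.mem_cons_self, h2.symm⟩
    · obtain ⟨y, hy, hyp⟩ := ih (fun y hy => hprime y (List.mem_cons_of_mem _ hy)) h
      exact ⟨y, List.mem_cons_of_mem _ hy, hyp⟩

theorem factorization_listProd (L : List (ℕ × ℕ)) (hprime : ∀ x ∈ L, x.1.Prime)
    (hnodup : (L.map Prod.fst).Nodup) : ∀ x ∈ L, (listProd L).factorization x.1 = x.2 := by
  induction L with
  | nil => intro x hx; simp at hx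
  | cons y L ih =>
    intro x hx
    have hprime' : ∀ z ∈ L, z.1.Prime := fun z hz => hprime z (List.mem_cons_of_mem _ hz)
    have hy : y.1.Prime := hprime y List.mem_cons_self
    rw [List.map_cons, List.nodup_cons] at hnodup
    rw [listProd_cons, Nat.factorization_mul (pow_ne_zero _ hy.ne_zero) (listProd_ne_zero L hprime'),
      Nat.factorization_pow, Finsupp.add_apply, Finsupp.smul_apply, hy.factorization]
    rcases List.mem_cons.mp hx with rfl | hxL
    · have : (listProd L).factorization x.1 = 0 := by
        apply Nat.factorization_eq_zero_of_not_dvd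
        intro hdvd
        obtain ⟨z, hz, hzx⟩ := exists_of_prime_dvd_listProd L hprime' x.1 hy hdvd
        apply hnodup.1
        rw [← hzx]
        exact List.mem_map_of_mem hz
      rw [this]
      simp
    · have hne : y.1 ≠ x.1 := by
        intro h
        apply hnodup.1
        rw [h]
        exact List.mem_map_of_mem hxL
      rw [Finsupp.single_apply, if_neg hne, ih hprime' hnodup.2 x hxL]
      simp

/-- main consequence: if `N = listProd L` then any prime with `N.factorization p = e`, `e ≠ 0`,
has `(p, e) ∈ L`. -/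
theorem mem_of_factorization_eq (L : List (ℕ × ℕ)) (hprime : ∀ x ∈ L, x.1.Prime)
    (hnodup : (L.map Prod.fst).Nodup) (p e : ℕ) (hp : p.Prime) (he : e ≠ 0)
    (h : (listProd L).factorization p = e) : (p, e) ∈ L := by
  have hdvd : p ∣ listProd L := by
    apply Nat.dvd_of_factorization_pos
    rw [h]; exact he
  obtain ⟨x, hx, hxp⟩ := exists_of_prime_dvd_listProd L hprime p hp hdvd
  have := factorization_listProd L hprime hnodup x hx
  rw [hxp, h] at this
  have hx' : x = (p, e) := by
    ext
    · exact hxp
    · exact this.symm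
  rw [← hx']
  exact hx

end Cfsg.Agent.Helper8
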