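import Mathlib

/-!
Generic lemmas for S2490 (groups of order 7920 with disconnected prime graph).
-/

set_option autoImplicit false

namespace Cfsg.Agent.Helper8.M11

open Subgroup MulAction
open scoped Pointwise

theorem prime_dvd_7920 {p : ℕ} (hp : p.Prime) (h : p ∣ 7920) : p = 2 ∨ p = 3 ∨ p = 5 ∨ p = 11 := by
  have h1 : (7920 : ℕ) = 2 ^ 4 * 3 ^ 2 * 5 * 11 := by norm_num
  rw [h1] at h
  rcases (Nat.Prime.dvd_mul hp).mp h with h | h
  · rcases (Nat.Prime.dvd_mul hp).mp h with h | h
    · rcases (Nat.Prime.dvd_mul hp).mp h with h | h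
      · left; exact (Nat.prime_dvd_prime_iff_eq hp (by norm_num)).mp (hp.dvd_of_dvd_pow h)
      · right; left; exact (Nat.prime_dvd_prime_iff_eq hp (by norm_num)).mp (hp.dvd_of_dvd_pow h)
    · right; right; left; exact (Nat.prime_dvd_prime_iff_eq hp (by norm_num)).mp h
  · right; right; right; exact (Nat.prime_dvd_prime_iff_eq hp (by norm_num)).mp h

theorem prime_pow_dvd_7920 {p a : ℕ} (hp : p.Prime) (ha : 1 ≤ a) (h : p ^ a ∣ 7920) :
    p ^ a = 2 ∨ p ^ a = 4 ∨ p ^ a = 8 ∨ p ^ a = 16 ∨ p ^ a = 3 ∨ p ^ a = 9 ∨ p ^ a = 5 ∨ p ^ a = 11 := by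
  have hp' : p ∣ 7920 := (dvd_pow_self p (by omega)).trans h
  rcases prime_dvd_7920 hp hp' with rfl | rfl | rfl | rfl
  · have : a ≤ 4 := by
      by_contra hc
      have : 2 ^ 5 ∣ 7920 := (pow_dvd_pow 2 (by omega)).trans h
      norm_num at this
    interval_cases a <;> simp
  · have : a ≤ 2 := by
      by_contra hc
      have : 3 ^ 3 ∣ 7920 := (pow_dvd_pow 3 (by omega)).trans h
      norm_num at this
    interval_cases a <;> simp
  · have : a ≤ 1 := by
      by_contra hc
      have : 5 ^ 2 ∣ 7920 := (pow_dvd_pow 5 (by omega)).trans h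
      norm_num at this
    interval_cases a <;> simp
  · have : a ≤ 1 := by
      by_contra hc
      have : 11 ^ 2 ∣ 7920 := (pow_dvd_pow 11 (by omega)).trans h
      norm_num at this
    interval_cases a <;> simp

variable {T : Type*} [Group T]

section
variable [Finite T]

/-- The index of the centralizer in the normalizer of a subgroup of order 11 divides 10. -/
theorem relIndex_centralizer_dvd_ten (P : Subgroup T) (hP : Nat.card P = 11) :
    (centralizer (P : Set T)).relIndex (normalizer (P : Set T)) ∣ 10 := by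
  have key := card_dvd_of_injective _ (QuotientGroup.kerLift_injective P.normalizerMonoidHom)
  rw [normalizerMonoidHom_ker, ← index, ← relIndex] at key
  have : Fact (Nat.Prime 11) := ⟨by norm_num⟩
  have hc : IsCyclic P := isCyclic_of_prime_card hP
  rw [IsCyclic.card_mulAut, hP] at key
  have h10 : Nat.totient 11 = 10 := by
    rw [Nat.totient_prime (by norm_num)]
  rwa [h10] at key

end

/-- A nontrivial element of prime power order has a power of prime order. -/
theorem exists_pow_orderOf_eq_prime {t : T} {p : ℕ} (hp : p.Prime) (ht : t ≠ 1)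
    (hpow : ∃ k, orderOf t = p ^ k) : ∃ j : ℕ, orderOf (t ^ j) = p := by
  obtain ⟨k, hk⟩ := hpow
  rcases Nat.eq_zero_or_pos k with h0 | h0
  · subst h0
    rw [pow_zero, orderOf_eq_one_iff] at hk
    exact absurd hk ht
  · refine ⟨p ^ (k - 1), ?_⟩
    have hne : p ^ (k - 1) ≠ 0 := pow_ne_zero _ hp.ne_zero
    have hdvd : p ^ (k - 1) ∣ orderOf t := by
      rw [hk]; exact pow_dvd_pow _ (Nat.sub_le _ _)
    rw [orderOf_pow_of_dvd hne hdvd, hk]
    have : p ^ k = p ^ (k - 1) * p := by
      rw [← pow_succ]; congr 1; omega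
    rw [this, Nat.mul_div_cancel_left _ (Nat.pos_of_ne_zero hne)]

/-- Commuting elements of distinct prime orders have a product of order the product. -/
theorem orderOf_mul_of_commute_primes {x y : T} {p q : ℕ} (hp : p.Prime) (hq : q.Prime)
    (hpq : p ≠ q) (hx : orderOf x = p) (hy : orderOf y = q) (hc : x * y = y * x) :
    orderOf (x * y) = p * q := by
  have h := Commute.orderOf_mul_eq_mul_orderOf_of_coprime (x := x) (y := y) hc
    (by rw [hx, hy]; exact (Nat.coprime_primes hp hq).mpr hpq)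
  rw [h, hx, hy]

section
variable [Finite T]

/-- Pigeonhole: a subgroup `H` larger than `N \ {1}` normalizing `N` contains a nontrivial
element commuting with a given nontrivial `n ∈ N`. -/
theorem exists_commuting_of_card_lt (N H : Subgroup T) (hle : H ≤ normalizer (N : Set T))
    (n : T) (hn : n ∈ N) (hn1 : n ≠ 1) (hlt : Nat.card N < Nat.card H + 1) :
    ∃ h ∈ H, h ≠ 1 ∧ h * n = n * h := by
  classical
  by_contra hcon
  push Not at hcon
  -- the map h ↦ h n h⁻¹ from H to N \ {1} is injective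
  have hmem : ∀ h : H, (h : T) * n * (h : T)⁻¹ ∈ N := fun h =>
    ((mem_normalizer_iff.mp (hle h.2)) n).mp hn
  let f : H → {m : N // m ≠ 1} := fun h => ⟨⟨(h : T) * n * (h : T)⁻¹, hmem h⟩, by
    intro h1
    have h2 : (h : T) * n * (h : T)⁻¹ = 1 := congrArg Subtype.val h1
    apply hn1
    have : n = (h : T)⁻¹ * ((h : T) * n * (h : T)⁻¹) * (h : T) := by group
    rw [this, h2]; group⟩
  have hinj : Function.Injective f := by
    intro a b hab
    have h1 : (a : T) * n * (a : T)⁻¹ = (b : T) * n * (b : T)⁻¹ := by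
      have := congrArg (fun z => ((z : {m : N // m ≠ 1}) : N).1) hab
      exact this
    by_contra hne
    have hab1 : (b : T)⁻¹ * (a : T) ≠ 1 := by
      intro h2
      apply hne
      apply Subtype.ext
      have : (a : T) = (b : T) * ((b : T)⁻¹ * (a : T)) := by group
      rw [this, h2, mul_one]
    have hc := hcon ((b : T)⁻¹ * (a : T)) (H.mul_mem (H.inv_mem b.2) a.2) hab1
    apply hc
    have : (b : T)⁻¹ * (a : T) * n = (b : T)⁻¹ * ((a : T) * n * (a : T)⁻¹) * (a : T) := by group
    rw [this, h1]; group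
  have hcard := Nat.card_le_card_of_injective f hinj
  have hsub : Nat.card {m : N // m ≠ 1} + 1 = Nat.card N := by
    haveI := Fintype.ofFinite N
    rw [Nat.card_eq_fintype_card, Nat.card_eq_fintype_card]
    have h1 : Fintype.card {m : N // m ≠ 1} = Fintype.card N - Fintype.card {m : N // m = 1} :=
      Fintype.card_subtype_compl (fun m : N => m = 1)
    have h2 : Fintype.card {m : N // m = 1} = 1 := Fintype.card_subtype_eq (1 : N)
    have h3 : 0 < Fintype.card N := Fintype.card_pos
    omega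
  omega


/-- A `q`-group normalizing a subgroup `S` whose order is not `≡ 1 mod q` centralizes a
nontrivial element of `S`. -/
theorem exists_fixed_of_pgroup_conj {q : ℕ} [Fact q.Prime] (H S : Subgroup T) (hH : IsPGroup q H)
    (hle : H ≤ normalizer (S : Set T)) (hS : ¬ Nat.card S ≡ 1 [MOD q]) :
    ∃ s ∈ S, s ≠ 1 ∧ ∀ h ∈ H, h * s = s * h := by
  classical
  letI : MulAction H S := MulAction.compHom S (Subgroup.inclusion hle)
  have h1 := hH.card_modEq_card_fixedPoints S
  by_contra hcon
  push Not at hcon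
  apply hS
  have hfix : fixedPoints H S = {1} := by
    ext s
    simp only [mem_fixedPoints, Set.mem_singleton_iff]
    constructor
    · intro hs
      by_contra hs1
      obtain ⟨h, hh, hne⟩ := hcon s s.2 (fun h0 => hs1 (Subtype.ext h0))
      apply hne
      have := hs ⟨h, hh⟩
      have h2 : (h : T) * s * h⁻¹ = s := congrArg Subtype.val this
      calc h * s = h * s * h⁻¹ * h := by group
        _ = s * h := by rw [h2]
    · rintro rfl h
      apply Subtype.ext
      show ((h : T) * 1 * (h : T)⁻¹) = 1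
      group
  rw [hfix] at h1
  simpa using h1

/-- A `q`-group `H` normalizes some Sylow `p`-subgroup of a normal subgroup `M` whose order
is prime to `q`. -/
theorem exists_sylow_normalized {q p : ℕ} [Fact q.Prime] [Fact p.Prime] (M : Subgroup T)
    [M.Normal] (H : Subgroup T) (hH : IsPGroup q H) (hq : ¬ q ∣ Nat.card M) :
    ∃ S : Sylow p M,
      H ≤ normalizer (((S : Subgroup M).map M.subtype : Subgroup T) : Set T) := by
  classical
  letI : MulAction H (Sylow p M) :=
    MulAction.compHom (Sylow p M) ((MulAut.conjNormal (H := M)).comp H.subtype)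
  have h1 := hH.card_modEq_card_fixedPoints (Sylow p M)
  have hne : (fixedPoints H (Sylow p M)).Nonempty := by
    by_contra hemp
    rw [Set.not_nonempty_iff_eq_empty] at hemp
    rw [hemp] at h1
    simp only [Nat.card_eq_fintype_card] at h1
    obtain ⟨S0⟩ : Nonempty (Sylow p M) := inferInstance
    have hd : Nat.card (Sylow p M) ∣ Nat.card M :=
      (S0.card_dvd_index).trans (S0 : Subgroup M).index_dvd_card
    exact hq ((Nat.modEq_zero_iff_dvd.mp h1).trans hd)
  obtain ⟨S, hS⟩ := hne
  have key : ∀ g ∈ H, ∀ m : M, m ∈ (S : Subgroup M) →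
      (⟨g * m * g⁻¹, ‹M.Normal›.conj_mem _ m.2 g⟩ : M) ∈ (S : Subgroup M) := by
    intro g hg m hm
    have hfix : (MulAut.conjNormal g : MulAut M) • S = S := hS ⟨g, hg⟩
    have h2 : (MulAut.conjNormal g : MulAut M) • m ∈
        (MulAut.conjNormal g : MulAut M) • (S : Subgroup M) :=
      Subgroup.smul_mem_pointwise_smul _ _ _ hm
    rw [← Sylow.pointwise_smul_def, hfix] at h2
    have h3 : (MulAut.conjNormal g : MulAut M) • m = ⟨g * m * g⁻¹, ‹M.Normal›.conj_mem _ m.2 g⟩ := by
      apply Subtype.ext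
      simp [MulAut.smul_def]
    rwa [h3] at h2
  refine ⟨S, fun h hh => ?_⟩
  refine mem_normalizer_iff.mpr fun x => ⟨?_, ?_⟩
  · rintro ⟨m, hm, rfl⟩
    exact ⟨_, key h hh m hm, rfl⟩
  · rintro ⟨m, hm, hmx⟩
    refine ⟨_, key h⁻¹ (H.inv_mem hh) m hm, ?_⟩
    show h⁻¹ * (m : T) * h⁻¹⁻¹ = x
    have : (m : T) = h * x * h⁻¹ := hmx
    rw [this]; group

/-- An element of a Sylow `p`-subgroup of a subgroup, pushed to the ambient group, has
`p`-power order. -/
theorem orderOf_eq_pow_of_mem_sylow_map {p : ℕ} [Fact p.Prime] (M : Subgroup T) (S : Sylow p M)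
    {s : T} (hs : s ∈ ((S : Subgroup M).map M.subtype : Subgroup T)) : ∃ k, orderOf s = p ^ k := by
  obtain ⟨m, hm, rfl⟩ := hs
  obtain ⟨k, hk⟩ := (IsPGroup.iff_orderOf.mp S.isPGroup') ⟨m, hm⟩
  refine ⟨k, ?_⟩
  have h1 : orderOf (⟨m, hm⟩ : (S : Subgroup M)) = orderOf m := (Subgroup.orderOf_mk m hm)
  have h2 : orderOf ((M.subtype) m) = orderOf m := Subgroup.orderOf_coe m
  rw [h2, ← h1, hk]

theorem card_sylow_map (p : ℕ) [Fact p.Prime] (M : Subgroup T) (S : Sylow p M) :
    Nat.card ((S : Subgroup M).map M.subtype : Subgroup T) = p ^ (Nat.card M).factorization p := by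
  rw [← S.card_eq_multiplicity]
  exact Nat.card_congr ((S : Subgroup M).equivMapOfInjective M.subtype M.subtype_injective).symm.toEquiv

/-- In a group of order dividing 7920, a subgroup `P` of order 11 centralizes an element of
order `p` of any normal subgroup `M` of order prime to 11 and divisible by `p`. -/
theorem exists_prime_order_centralized (hT : Nat.card T ∣ 7920) (P M : Subgroup T) [M.Normal]
    (hP : Nat.card P = 11) (hM : ¬ 11 ∣ Nat.card M) (p : ℕ) (hp : p.Prime)
    (hpM : p ∣ Nat.card M) :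
    ∃ m ∈ M, orderOf m = p ∧ ∀ x ∈ P, x * m = m * x := by
  have : Fact (Nat.Prime 11) := ⟨by norm_num⟩
  have : Fact p.Prime := ⟨hp⟩
  have hP11 : IsPGroup 11 P := IsPGroup.of_card (n := 1) (by rw [hP]; norm_num)
  obtain ⟨S, hS⟩ := exists_sylow_normalized (q := 11) (p := p) M P hP11 hM
  have hcard := card_sylow_map p M S
  have hMpos : Nat.card M ≠ 0 := Nat.card_pos.ne'
  have ha : 1 ≤ (Nat.card M).factorization p :=
    (hp.dvd_iff_one_le_factorization hMpos).mp hpM
  have hdvd : p ^ (Nat.card M).factorization p ∣ 7920 :=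
    ((Nat.ordProj_dvd _ _).trans (Subgroup.card_subgroup_dvd_card M)).trans hT
  have hmod : ¬ Nat.card ((S : Subgroup M).map M.subtype : Subgroup T) ≡ 1 [MOD 11] := by
    rw [hcard]
    rcases prime_pow_dvd_7920 hp ha hdvd with h | h | h | h | h | h | h | h <;> rw [h]
    all_goals decide
  obtain ⟨s, hsS, hs1, hsc⟩ := exists_fixed_of_pgroup_conj (q := 11) P _ hP11 hS hmod
  obtain ⟨j, hj⟩ := exists_pow_orderOf_eq_prime hp hs1 (orderOf_eq_pow_of_mem_sylow_map M S hsS)
  have hsM : s ∈ M := by
    obtain ⟨m, _, rfl⟩ := hsS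
    exact m.2
  refine ⟨s ^ j, M.pow_mem hsM j, hj, fun x hx => ?_⟩
  exact ((Commute.pow_right (hsc x hx) j : Commute x (s ^ j))).eq

/-- A group of order dividing 7920 and divisible by 4, 3, 5 with a normal subgroup of order 11
has elements of orders 22, 33 and (55 or 15). -/
theorem normal_eleven_orders (hT : Nat.card T ∣ 7920) (h4 : 4 ∣ Nat.card T)
    (h3 : 3 ∣ Nat.card T) (h5 : 5 ∣ Nat.card T) (P : Subgroup T) [P.Normal]
    (hP : Nat.card P = 11) :
    (∃ g : T, orderOf g = 11 * 2) ∧ (∃ g : T, orderOf g = 11 * 3) ∧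
      ((∃ g : T, orderOf g = 11 * 5) ∨ ∃ g : T, orderOf g = 5 * 3) := by
  have : Fact (Nat.Prime 11) := ⟨by norm_num⟩
  have : Fact (Nat.Prime 2) := ⟨by norm_num⟩
  have : Fact (Nat.Prime 3) := ⟨by norm_num⟩
  have : Fact (Nat.Prime 5) := ⟨by norm_num⟩
  set C : Subgroup T := centralizer (P : Set T) with hC
  have hidx : C.index ∣ 10 := by
    have h := relIndex_centralizer_dvd_ten P hP
    rwa [normalizer_eq_top, relIndex_top_right] at h
  have hmul : Nat.card C * C.index = Nat.card T := C.card_mul_index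
  have hidx' : C.index = 1 ∨ C.index = 2 ∨ C.index = 5 ∨ C.index = 10 := by
    have : C.index ∈ Nat.divisors 10 := Nat.mem_divisors.mpr ⟨hidx, by norm_num⟩
    have h10 : Nat.divisors 10 = {1, 2, 5, 10} := by decide
    rw [h10] at this
    simpa using this
  have h2C : 2 ∣ Nat.card C := by
    rcases hidx' with h | h | h | h <;> rw [h] at hmul <;> omega
  have h3C : 3 ∣ Nat.card C := by
    rcases hidx' with h | h | h | h <;> rw [h] at hmul <;> omega
  -- elements
  obtain ⟨x0, hx0⟩ := exists_prime_orderOf_dvd_card' (G := P) 11 (by rw [hP])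
  have hx : orderOf (x0 : T) = 11 := by rw [Subgroup.orderOf_coe]; exact hx0
  obtain ⟨u0, hu0⟩ := exists_prime_orderOf_dvd_card' (G := C) 2 h2C
  have hu : orderOf (u0 : T) = 2 := by rw [Subgroup.orderOf_coe]; exact hu0
  obtain ⟨v0, hv0⟩ := exists_prime_orderOf_dvd_card' (G := C) 3 h3C
  have hv : orderOf (v0 : T) = 3 := by rw [Subgroup.orderOf_coe]; exact hv0
  have hcomm : ∀ c ∈ C, (x0 : T) * c = c * x0 := fun c hc =>
    (mem_centralizer_iff.mp hc) x0 x0.2
  refine ⟨⟨_, orderOf_mul_of_commute_primes (by norm_num) (by norm_num) (by norm_num) hx hu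
      (hcomm _ u0.2)⟩,
    ⟨_, orderOf_mul_of_commute_primes (by norm_num) (by norm_num) (by norm_num) hx hv
      (hcomm _ v0.2)⟩, ?_⟩
  by_cases h5C : 5 ∣ Nat.card C
  · left
    obtain ⟨w0, hw0⟩ := exists_prime_orderOf_dvd_card' (G := C) 5 h5C
    have hw : orderOf (w0 : T) = 5 := by rw [Subgroup.orderOf_coe]; exact hw0
    exact ⟨_, orderOf_mul_of_commute_primes (by norm_num) (by norm_num) (by norm_num) hx hw
      (hcomm _ w0.2)⟩
  · right
    obtain ⟨y, hy⟩ := exists_prime_orderOf_dvd_card' (G := T) 5 h5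
    have hH : IsPGroup 5 (zpowers y) :=
      IsPGroup.of_card (n := 1) (by rw [Nat.card_zpowers, hy]; norm_num)
    obtain ⟨S, hS⟩ := exists_sylow_normalized (q := 5) (p := 3) C (zpowers y) hH h5C
    have hcard := card_sylow_map 3 C S
    have hCpos : Nat.card C ≠ 0 := Nat.card_pos.ne'
    have ha : 1 ≤ (Nat.card C).factorization 3 :=
      ((Nat.Prime.dvd_iff_one_le_factorization (by norm_num)) hCpos).mp h3C
    have hdvd : 3 ^ (Nat.card C).factorization 3 ∣ 7920 :=
      ((Nat.ordProj_dvd _ _).trans (Subgroup.card_subgroup_dvd_card C)).trans hT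
    have hmod : ¬ Nat.card ((S : Subgroup C).map C.subtype : Subgroup T) ≡ 1 [MOD 5] := by
      rw [hcard]
      have ha2 : (Nat.card C).factorization 3 ≤ 2 := by
        by_contra hc
        have : 3 ^ 3 ∣ 7920 := (pow_dvd_pow 3 (by omega)).trans hdvd
        norm_num at this
      interval_cases (Nat.card C).factorization 3 <;> decide
    obtain ⟨s, hsS, hs1, hsc⟩ := exists_fixed_of_pgroup_conj (q := 5) (zpowers y) _ hH hS hmod
    obtain ⟨j, hj⟩ := exists_pow_orderOf_eq_prime (p := 3) (by norm_num) hs1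
      (orderOf_eq_pow_of_mem_sylow_map C S hsS)
    have hc : y * s ^ j = s ^ j * y :=
      ((Commute.pow_right (hsc y (mem_zpowers y)) j : Commute y (s ^ j))).eq
    exact ⟨_, orderOf_mul_of_commute_primes (by norm_num) (by norm_num) (by norm_num) hy hj hc⟩

end

end Cfsg.Agent.Helper8.M11
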