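import Cfsg.Agent.Helper8.M11A

/-!
S2490: connectivity bookkeeping and the cases `n₁₁ ∈ {1, 12}`.
-/

set_option autoImplicit false

namespace Cfsg.Agent.Helper8.M11

open Subgroup MulAction

variable {G : Type*} [Group G]

/-- Symmetric adjacency in the prime graph. -/
def Adj (G : Type*) [Group G] (u v : ℕ) : Prop := ∃ g : G, orderOf g = u * v ∨ orderOf g = v * u

theorem Adj.symm {u v : ℕ} (h : Adj G u v) : Adj G v u := by
  obtain ⟨g, hg⟩ := h
  exact ⟨g, hg.symm⟩

theorem adj_of_orderOf {u v : ℕ} (g : G) (h : orderOf g = u * v) : Adj G u v := ⟨g, Or.inl h⟩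

/-- The vertex set. -/
def V : Finset ℕ := {2, 3, 5, 11}

theorem mem_V_of_prime_dvd {p : ℕ} (hp : p.Prime) (h : p ∣ 7920) : p ∈ V := by
  rcases prime_dvd_7920 hp h with rfl | rfl | rfl | rfl <;> decide

theorem prime_of_mem_V {p : ℕ} (h : p ∈ V) : p.Prime ∧ p ∣ 7920 := by
  unfold V at h
  simp only [Finset.mem_insert, Finset.mem_singleton] at h
  rcases h with rfl | rfl | rfl | rfl <;> norm_num

/-- If every vertex is reachable from 11, the prime graph has no cut. -/
theorem no_cut (hord : Nat.card G = 7920) (A : Set ℕ)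
    (hA : ∃ a ∈ A, a.Prime ∧ a ∣ Nat.card G) (hB : ∃ b ∉ A, b.Prime ∧ b ∣ Nat.card G)
    (hcut : ∀ a ∈ A, ∀ b ∉ A, a.Prime → b.Prime → a ∣ Nat.card G → b ∣ Nat.card G →
      ¬ ∃ g : G, orderOf g = a * b)
    (hreach : ∀ x ∈ V, Relation.ReflTransGen (fun u v => v ∈ V ∧ Adj G u v) 11 x) : False := by
  rw [hord] at hA hB hcut
  by_cases h11 : 11 ∈ A
  · have key : ∀ x, Relation.ReflTransGen (fun u v => v ∈ V ∧ Adj G u v) 11 x → x ∈ A ∧ x ∈ V := by
      intro x hx
      induction hx with
      | refl => exact ⟨h11, by decide⟩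
      | tail _ hbc ih =>
        obtain ⟨hbA, hbV⟩ := ih
        obtain ⟨hcV, g, hg⟩ := hbc
        refine ⟨?_, hcV⟩
        by_contra hcA
        have hb := prime_of_mem_V hbV
        have hc := prime_of_mem_V hcV
        apply hcut _ hbA _ hcA hb.1 hc.1 hb.2 hc.2
        rcases hg with hg | hg
        · exact ⟨g, hg⟩
        · exact ⟨g, by rw [hg, mul_comm]⟩
    obtain ⟨b, hbA, hbp, hbd⟩ := hB
    exact hbA (key b (hreach b (mem_V_of_prime_dvd hbp hbd))).1
  · have key : ∀ x, Relation.ReflTransGen (fun u v => v ∈ V ∧ Adj G u v) 11 x → x ∉ A ∧ x ∈ V := by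
      intro x hx
      induction hx with
      | refl => exact ⟨h11, by decide⟩
      | tail _ hbc ih =>
        obtain ⟨hbA, hbV⟩ := ih
        obtain ⟨hcV, g, hg⟩ := hbc
        refine ⟨?_, hcV⟩
        intro hcA
        have hb := prime_of_mem_V hbV
        have hc := prime_of_mem_V hcV
        apply hcut _ hcA _ hbA hc.1 hb.1 hc.2 hb.2
        rcases hg with hg | hg
        · exact ⟨g, by rw [hg, mul_comm]⟩
        · exact ⟨g, hg⟩
    obtain ⟨a, haA, hap, had⟩ := hA
    exact (key a (hreach a (mem_V_of_prime_dvd hap had))).1 haA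

/-- Reachability from a list of established edges: star at `c` containing 11. -/
theorem reach_of_star {c : ℕ} (hc : c ∈ V) (h11 : c = 11 ∨ Adj G 11 c)
    (hstar : ∀ x ∈ V, x ≠ c → x ≠ 11 → Adj G c x) :
    ∀ x ∈ V, Relation.ReflTransGen (fun u v => v ∈ V ∧ Adj G u v) 11 x := by
  have hc' : Relation.ReflTransGen (fun u v => v ∈ V ∧ Adj G u v) 11 c := by
    rcases h11 with rfl | h
    · exact Relation.ReflTransGen.refl
    · exact Relation.ReflTransGen.single ⟨hc, h⟩
  intro x hx
  by_cases hxc : x = c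
  · rw [hxc]; exact hc'
  by_cases hx11 : x = 11
  · rw [hx11]
  exact hc'.tail ⟨hx, hstar x hx hxc hx11⟩

section
variable [Finite G]

theorem fact11 : Fact (Nat.Prime 11) := ⟨by norm_num⟩

attribute [local instance] fact11

theorem factorization_7920_eleven : (7920 : ℕ).factorization 11 = 1 := by
  have h : (7920 : ℕ) = 11 * 720 := by norm_num
  rw [h, Nat.factorization_mul (by norm_num) (by norm_num)]
  simp [Nat.Prime.factorization_self (show Nat.Prime 11 by norm_num),
    Nat.factorization_eq_zero_of_not_dvd (show ¬ 11 ∣ 720 by norm_num)]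

theorem card_sylow_eleven (hord : Nat.card G = 7920) (P : Sylow 11 G) :
    Nat.card (P : Subgroup G) = 11 := by
  have := P.card_eq_multiplicity
  rw [hord, factorization_7920_eleven, pow_one] at this
  exact this

theorem card_normalizer_mul (hord : Nat.card G = 7920) (P : Sylow 11 G) :
    Nat.card (normalizer (P : Set G)) * Nat.card (Sylow 11 G) = 7920 := by
  rw [P.card_eq_index_normalizer, Subgroup.card_mul_index, hord]

theorem card_sylow_set_mem (hord : Nat.card G = 7920) :
    Nat.card (Sylow 11 G) = 1 ∨ Nat.card (Sylow 11 G) = 12 ∨ Nat.card (Sylow 11 G) = 45 ∨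
      Nat.card (Sylow 11 G) = 144 := by
  obtain ⟨P⟩ : Nonempty (Sylow 11 G) := inferInstance
  have h1 : Nat.card (Sylow 11 G) ≡ 1 [MOD 11] := card_sylow_modEq_one 11 G
  have h2 : Nat.card (Sylow 11 G) ∣ 720 := by
    have h3 := P.card_dvd_index
    have h4 : Nat.card (P : Subgroup G) * (P : Subgroup G).index = 7920 := by
      rw [Subgroup.card_mul_index, hord]
    rw [card_sylow_eleven hord P] at h4
    have h5 : (P : Subgroup G).index = 720 := by omega
    rwa [h5] at h3
  have h3 : Nat.card (Sylow 11 G) ∈ (Nat.divisors 720).filter (fun d => d % 11 = 1) := by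
    rw [Finset.mem_filter, Nat.mem_divisors]
    exact ⟨⟨h2, by norm_num⟩, h1⟩
  have h4 : (Nat.divisors 720).filter (fun d => d % 11 = 1) = {1, 12, 45, 144} := by decide
  rw [h4] at h3
  simpa using h3

/-- Cases `n₁₁ ∈ {1, 12}`. -/
theorem caseA (hord : Nat.card G = 7920) (P : Sylow 11 G)
    (hn : Nat.card (Sylow 11 G) = 1 ∨ Nat.card (Sylow 11 G) = 12) :
    Adj G 11 2 ∧ Adj G 11 3 ∧ (Adj G 11 5 ∨ Adj G 5 3) := by
  have hmul := card_normalizer_mul hord P
  have hT : Nat.card (normalizer (P : Set G)) = 7920 ∨ Nat.card (normalizer (P : Set G)) = 660 := by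
    rcases hn with h | h <;> rw [h] at hmul <;> [left; right] <;> omega
  have hnorm : ((P : Subgroup G).subgroupOf (normalizer (P : Set G))).Normal :=
    Subgroup.normal_in_normalizer
  have hcard : Nat.card ((P : Subgroup G).subgroupOf (normalizer (P : Set G))) = 11 := by
    exact (Nat.card_congr (Subgroup.subgroupOfEquivOfLe le_normalizer).toEquiv).trans
      (card_sylow_eleven hord P)
  have hres := normal_eleven_orders (T := normalizer (P : Set G))
    (by rcases hT with h | h <;> rw [h] <;> norm_num)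
    (by rcases hT with h | h <;> rw [h] <;> norm_num)
    (by rcases hT with h | h <;> rw [h] <;> norm_num)
    (by rcases hT with h | h <;> rw [h] <;> norm_num)
    ((P : Subgroup G).subgroupOf (normalizer (P : Set G))) hcard
  obtain ⟨⟨g1, h1⟩, ⟨g2, h2⟩, h3⟩ := hres
  refine ⟨adj_of_orderOf (g1 : G) (by rw [Subgroup.orderOf_coe]; exact h1),
    adj_of_orderOf (g2 : G) (by rw [Subgroup.orderOf_coe]; exact h2), ?_⟩
  rcases h3 with ⟨g3, h3⟩ | ⟨g3, h3⟩
  · left; exact adj_of_orderOf (g3 : G) (by rw [Subgroup.orderOf_coe]; exact h3)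
  · right; exact adj_of_orderOf (g3 : G) (by rw [Subgroup.orderOf_coe]; exact h3)

end

end Cfsg.Agent.Helper8.M11
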