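import Cfsg.Agent.Helper8.M11B

/-!
S2490: the case `n₁₁ = 45`.
-/

set_option autoImplicit false

namespace Cfsg.Agent.Helper8.M11

open Subgroup MulAction

variable {G : Type*} [Group G] [Finite G]

attribute [local instance] fact11

theorem sylow_inf_eq_bot (hord : Nat.card G = 7920) {P Q : Sylow 11 G} (h : P ≠ Q) :
    (P : Subgroup G) ⊓ Q = ⊥ := by
  have hd : Nat.card ((P : Subgroup G) ⊓ Q : Subgroup G) ∣ 11 := by
    have := Subgroup.card_dvd_of_le (inf_le_left : (P : Subgroup G) ⊓ Q ≤ P)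
    rwa [card_sylow_eleven hord P] at this
  rcases (Nat.dvd_prime (by norm_num)).mp hd with h1 | h11
  · exact Subgroup.eq_bot_of_card_eq _ h1
  · exfalso
    have hP : (P : Subgroup G) ⊓ Q = P :=
      Subgroup.eq_of_le_of_card_ge inf_le_left (by rw [h11, card_sylow_eleven hord P])
    have hQ : (P : Subgroup G) ⊓ Q = Q :=
      Subgroup.eq_of_le_of_card_ge inf_le_right (by rw [h11, card_sylow_eleven hord Q])
    exact h (Sylow.ext (hP.symm.trans hQ))

/-- An element killed by `11` that normalizes a Sylow 11-subgroup lies in it. -/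
theorem mem_sylow_of_pow_eleven {Q : Sylow 11 G} {c : G} (hc : c ^ 11 = 1) (hcQ : c • Q = Q) :
    c ∈ (Q : Subgroup G) := by
  have hp : IsPGroup 11 (zpowers c) := by
    intro g
    refine ⟨1, ?_⟩
    obtain ⟨g, hg⟩ := g
    obtain ⟨z, rfl⟩ := mem_zpowers_iff.mp hg
    apply Subtype.ext
    simp only [pow_one, SubmonoidClass.mk_pow, OneMemClass.coe_one]
    rw [← zpow_natCast, ← zpow_mul, mul_comm, zpow_mul, zpow_natCast, hc, one_zpow]
  have h1 := hp.inf_normalizer_sylow Q
  have h2 : c ∈ zpowers c ⊓ normalizer (Q : Set G) :=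
    ⟨mem_zpowers c, Sylow.smul_eq_iff_mem_normalizer.mp hcQ⟩
  rw [h1] at h2
  exact h2.2

theorem eq_one_of_mem_of_normalizes (hord : Nat.card G = 7920) {P Q : Sylow 11 G} (h : P ≠ Q)
    {x : G} (hx : x ∈ (P : Subgroup G)) (hxQ : x • Q = Q) : x = 1 := by
  have h11 : x ^ 11 = 1 := by
    have := pow_card_eq_one' (G := (P : Subgroup G)) (x := ⟨x, hx⟩)
    rw [card_sylow_eleven hord P] at this
    exact congrArg Subtype.val this
  have hxQ' := mem_sylow_of_pow_eleven h11 hxQ
  have : x ∈ (P : Subgroup G) ⊓ Q := ⟨hx, hxQ'⟩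
  rw [sylow_inf_eq_bot hord h] at this
  exact this

theorem card_ne_add_one {α : Type*} [Finite α] (a : α) :
    Nat.card {x : α // x ≠ a} + 1 = Nat.card α := by
  classical
  haveI := Fintype.ofFinite α
  rw [Nat.card_eq_fintype_card, Nat.card_eq_fintype_card]
  have h1 : Fintype.card {x : α // x ≠ a} = Fintype.card α - Fintype.card {x : α // x = a} :=
    Fintype.card_subtype_compl (fun x : α => x = a)
  have h2 : Fintype.card {x : α // x = a} = 1 := Fintype.card_subtype_eq a
  have h3 : 0 < Fintype.card α := Fintype.card_pos_iff.mpr ⟨a⟩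
  omega

/-- A nontrivial element of a Sylow 11-subgroup generates it. -/
theorem mem_zpowers_of_ne_one (hord : Nat.card G = 7920) (Q : Sylow 11 G) {u v : G}
    (hu : u ∈ (Q : Subgroup G)) (hu1 : u ≠ 1) (hv : v ∈ (Q : Subgroup G)) : v ∈ zpowers u := by
  have hle : zpowers u ≤ (Q : Subgroup G) := zpowers_le.mpr hu
  have hd : Nat.card (zpowers u) ∣ 11 := by
    have := Subgroup.card_dvd_of_le hle
    rwa [card_sylow_eleven hord Q] at this
  rcases (Nat.dvd_prime (by norm_num)).mp hd with h1 | h11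
  · exfalso
    apply hu1
    have := Subgroup.eq_bot_of_card_eq _ h1
    rw [zpowers_eq_bot] at this
    exact this
  · have : zpowers u = (Q : Subgroup G) :=
      Subgroup.eq_of_le_of_card_ge hle (by rw [h11, card_sylow_eleven hord Q])
    rw [this]; exact hv

/-- If `k` normalizes the Sylow 11-subgroup `Q₀` without centralizing it, then `k` normalizes
at most 5 Sylow 11-subgroups (when there are 45 of them). -/
theorem card_fix_le_five (hord : Nat.card G = 7920) (h45 : Nat.card (Sylow 11 G) = 45)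
    (k : G) (Q₀ : Sylow 11 G) (hQ₀ : k • Q₀ = Q₀)
    (hnc : ∃ u₀ ∈ (Q₀ : Subgroup G), k * u₀ ≠ u₀ * k) :
    Nat.card {Q : Sylow 11 G // k • Q = Q} ≤ 5 := by
  obtain ⟨u₀, hu₀, hu₀k⟩ := hnc
  have hkinv : k⁻¹ • Q₀ = Q₀ := by
    rw [inv_smul_eq_iff, hQ₀]
  let ψ : ↥(Q₀ : Subgroup G) ×
      {R : {Q : Sylow 11 G // k • Q = Q} // R ≠ (⟨Q₀, hQ₀⟩ : {Q : Sylow 11 G // k • Q = Q})} →
      {R : Sylow 11 G // R ≠ Q₀} := fun a => ⟨(a.1 : G) • a.2.1.1, by
    intro h
    apply a.2.2
    have h1 : (a.1 : G) • Q₀ = Q₀ :=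
      Sylow.smul_eq_iff_mem_normalizer.mpr (le_normalizer a.1.2)
    exact Subtype.ext (smul_left_cancel _ (h.trans h1.symm))⟩
  have hinj : Function.Injective ψ := by
    rintro ⟨x, ⟨⟨R, hR⟩, hRQ⟩⟩ ⟨x', ⟨⟨R', hR'⟩, hRQ'⟩⟩ hab
    have hab' : (x : G) • R = (x' : G) • R' := congrArg Subtype.val hab
    have hRQ : R ≠ Q₀ := fun h => hRQ (Subtype.ext h)
    -- u = x'⁻¹ x
    set u : G := (x' : G)⁻¹ * x with hu
    have huQ : u ∈ (Q₀ : Subgroup G) := (Q₀ : Subgroup G).mul_mem ((Q₀ : Subgroup G).inv_mem x'.2) x.2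
    have hR'u : R' = u • R := by
      rw [hu, mul_smul, hab', inv_smul_smul]
    have hw : (k⁻¹ * u⁻¹ * k * u) • R = R := by
      rw [mul_smul, mul_smul, mul_smul, ← hR'u, hR', hR'u, inv_smul_smul, inv_smul_eq_iff, hR]
    have hwQ : k⁻¹ * u⁻¹ * k * u ∈ (Q₀ : Subgroup G) := by
      have h1 : k⁻¹ * u⁻¹ * k⁻¹⁻¹ ∈ (Q₀ : Subgroup G) :=
        (mem_normalizer_iff.mp (Sylow.smul_eq_iff_mem_normalizer.mp hkinv) u⁻¹).mp
          ((Q₀ : Subgroup G).inv_mem huQ)
      rw [inv_inv] at h1
      exact (Q₀ : Subgroup G).mul_mem h1 huQ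
    have hw1 : k⁻¹ * u⁻¹ * k * u = 1 :=
      eq_one_of_mem_of_normalizes hord (Ne.symm hRQ) hwQ hw
    have hcomm : k * u = u * k := by
      have : k * u = u * (k * (k⁻¹ * u⁻¹ * k * u)) := by group
      rw [this, hw1, mul_one]
    have hu1 : u = 1 := by
      by_contra hne
      apply hu₀k
      obtain ⟨z, rfl⟩ := mem_zpowers_iff.mp (mem_zpowers_of_ne_one hord Q₀ huQ hne hu₀)
      exact ((Commute.zpow_right (show Commute k u from hcomm) z)).eq
    have hxx : x = x' := by
      apply Subtype.ext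
      have : (x : G) = x' * u := by rw [hu]; group
      rw [this, hu1, mul_one]
    subst hxx
    have hRR : R = R' := by rw [hR'u, hu1, one_smul]
    subst hRR
    rfl
  have hcard := Nat.card_le_card_of_injective ψ hinj
  rw [Nat.card_prod, card_sylow_eleven hord Q₀] at hcard
  have h1 := card_ne_add_one (⟨Q₀, hQ₀⟩ : {Q : Sylow 11 G // k • Q = Q})
  have h2 := card_ne_add_one Q₀
  rw [h45] at h2
  omega

theorem card_fix_ge_twelve (hord : Nat.card G = 7920) (k : G) (P P₃ : Sylow 11 G) (hne : P₃ ≠ P)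
    (hkC : k ∈ centralizer ((P : Subgroup G) : Set G)) (hk3 : k • P₃ = P₃) :
    12 ≤ Nat.card {Q : Sylow 11 G // k • Q = Q} := by
  have hkP : k • P = P :=
    Sylow.smul_eq_iff_mem_normalizer.mpr (centralizer_le_normalizer _ hkC)
  have hcomm : ∀ x ∈ (P : Subgroup G), k * x = x * k := fun x hx =>
    ((mem_centralizer_iff.mp hkC) x hx).symm
  let φ : ↥(P : Subgroup G) →
      {R : {Q : Sylow 11 G // k • Q = Q} // R ≠ (⟨P, hkP⟩ : {Q : Sylow 11 G // k • Q = Q})} :=
    fun x => ⟨⟨(x : G) • P₃, by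
      rw [smul_smul, hcomm x x.2, mul_smul, hk3]⟩, by
      intro h
      have h0 : (x : G) • P₃ = P := congrArg Subtype.val h
      have h1 : (x : G) • P = P :=
        Sylow.smul_eq_iff_mem_normalizer.mpr (le_normalizer x.2)
      exact hne (smul_left_cancel _ (h0.trans h1.symm))⟩
  have hinj : Function.Injective φ := by
    intro x x' hxx
    have h0 : (x : G) • P₃ = (x' : G) • P₃ := congrArg (fun z => z.1.1) hxx
    have h1 : ((x' : G)⁻¹ * x) • P₃ = P₃ := by
      rw [mul_smul, h0, inv_smul_smul]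
    have h2 : (x' : G)⁻¹ * x = 1 :=
      eq_one_of_mem_of_normalizes hord (Ne.symm hne)
        ((P : Subgroup G).mul_mem ((P : Subgroup G).inv_mem x'.2) x.2) h1
    apply Subtype.ext
    have : (x : G) = x' * ((x' : G)⁻¹ * x) := by group
    rw [this, h2, mul_one]
  have hcard := Nat.card_le_card_of_injective φ hinj
  rw [card_sylow_eleven hord P] at hcard
  have h1 := card_ne_add_one (⟨P, hkP⟩ : {Q : Sylow 11 G // k • Q = Q})
  omega

theorem smul_eq_of_le_centralizer {k : G} {Q : Sylow 11 G}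
    (h : ∀ u ∈ (Q : Subgroup G), k * u = u * k) : k • Q = Q := by
  refine Sylow.smul_eq_iff_mem_normalizer.mpr (mem_normalizer_iff.mpr fun u => ⟨?_, ?_⟩)
  · intro hu
    have : k * u * k⁻¹ = u := by rw [h u hu]; group
    rw [this]; exact hu
  · intro hv
    have h1 := h _ hv
    have : u = k * u * k⁻¹ := by
      calc u = k⁻¹ * (k * u * k⁻¹ * k) := by group
        _ = k⁻¹ * (k * (k * u * k⁻¹)) := by rw [h1]
        _ = k * u * k⁻¹ := by group
    rw [this]; exact hv

theorem card_fix_eq_card_sylow_centralizer (k : G) (P : Sylow 11 G)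
    (hkP : ∀ u ∈ (P : Subgroup G), k * u = u * k)
    (hall : ∀ Q : Sylow 11 G, k • Q = Q → ∀ u ∈ (Q : Subgroup G), k * u = u * k) :
    Nat.card {Q : Sylow 11 G // k • Q = Q} =
      Nat.card (Sylow 11 (centralizer ({k} : Set G))) := by
  have hmem : ∀ u : G, u ∈ centralizer ({k} : Set G) ↔ k * u = u * k := by
    intro u
    simp [mem_centralizer_iff]
  have hle : ∀ Q : Sylow 11 G, k • Q = Q → (Q : Subgroup G) ≤ centralizer ({k} : Set G) :=
    fun Q hQ u hu => (hmem u).mpr (hall Q hQ u hu)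
  have hPH : (P : Subgroup G) ≤ centralizer ({k} : Set G) := fun u hu => (hmem u).mpr (hkP u hu)
  let e : {Q : Sylow 11 G // k • Q = Q} → Sylow 11 (centralizer ({k} : Set G)) :=
    fun Q => Q.1.subtype (hle Q.1 Q.2)
  have hbij : Function.Bijective e := by
    constructor
    · intro Q Q' h
      exact Subtype.ext (Sylow.subtype_injective h)
    · intro S
      obtain ⟨h, hh⟩ := MulAction.exists_smul_eq (centralizer ({k} : Set G)) (P.subtype hPH) S
      have hle' : ((h • P : Sylow 11 G) : Subgroup G) ≤ centralizer ({k} : Set G) :=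
        Sylow.smul_le hPH h
      have hfix : k • (h • P : Sylow 11 G) = h • P :=
        smul_eq_of_le_centralizer fun u hu => (hmem u).mp (hle' hu)
      refine ⟨⟨h • P, hfix⟩, ?_⟩
      rw [← hh, Sylow.smul_subtype hPH h]
  exact Nat.card_congr (Equiv.ofBijective e hbij)

theorem card_fix_odd (h45 : Nat.card (Sylow 11 G) = 45) (k : G) (hk16 : k ^ 16 = 1) :
    Nat.card {Q : Sylow 11 G // k • Q = Q} % 2 = 1 := by
  have : Fact (Nat.Prime 2) := ⟨by norm_num⟩
  have hp : IsPGroup 2 (zpowers k) := by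
    have h1 : orderOf k ∣ 2 ^ 4 := orderOf_dvd_of_pow_eq_one hk16
    obtain ⟨j, _, hj⟩ := (Nat.dvd_prime_pow (by norm_num)).mp h1
    exact IsPGroup.of_card (n := j) (by rw [Nat.card_zpowers, hj])
  have h1 := hp.card_modEq_card_fixedPoints (Sylow 11 G)
  have h2 : Nat.card (fixedPoints (zpowers k) (Sylow 11 G)) =
      Nat.card {Q : Sylow 11 G // k • Q = Q} := by
    apply Nat.card_congr
    apply Equiv.subtypeEquivRight
    intro Q
    rw [mem_fixedPoints]
    constructor
    · intro h
      exact h ⟨k, mem_zpowers k⟩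
    · rintro h ⟨g, hg⟩
      have : zpowers k ≤ stabilizer G Q := zpowers_le.mpr h
      exact this hg
  rw [h2, h45] at h1
  have := h1.symm
  unfold Nat.ModEq at this
  omega

theorem fixes_all (hord : Nat.card G = 7920) (h45 : Nat.card (Sylow 11 G) = 45) (k : G)
    (P P₃ : Sylow 11 G) (hne : P₃ ≠ P) (hkC : k ∈ centralizer ((P : Subgroup G) : Set G))
    (hk16 : k ^ 16 = 1) (hk3 : k • P₃ = P₃) : ∀ Q : Sylow 11 G, k • Q = Q := by
  have h12 := card_fix_ge_twelve hord k P P₃ hne hkC hk3
  have hall : ∀ Q : Sylow 11 G, k • Q = Q → ∀ u ∈ (Q : Subgroup G), k * u = u * k := by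
    intro Q hQ
    by_contra hcon
    push Not at hcon
    have := card_fix_le_five hord h45 k Q hQ hcon
    omega
  have hkP : ∀ u ∈ (P : Subgroup G), k * u = u * k := fun x hx =>
    ((mem_centralizer_iff.mp hkC) x hx).symm
  have hm := card_fix_eq_card_sylow_centralizer k P hkP hall
  have hmod : Nat.card (Sylow 11 (centralizer ({k} : Set G))) ≡ 1 [MOD 11] :=
    card_sylow_modEq_one 11 _
  have hdvd : Nat.card (Sylow 11 (centralizer ({k} : Set G))) ∣ 7920 := by
    obtain ⟨S⟩ : Nonempty (Sylow 11 (centralizer ({k} : Set G))) := inferInstance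
    have h1 := S.card_dvd_index
    have h2 := (S : Subgroup (centralizer ({k} : Set G))).index_dvd_card
    have h3 := Subgroup.card_subgroup_dvd_card (centralizer ({k} : Set G))
    rw [hord] at h3
    exact (h1.trans h2).trans h3
  have hodd := card_fix_odd h45 k hk16
  have hle : Nat.card {Q : Sylow 11 G // k • Q = Q} ≤ 45 := by
    rw [← h45]
    exact Nat.card_le_card_of_injective _ Subtype.val_injective
  rw [← hm] at hmod hdvd
  have h45' : Nat.card {Q : Sylow 11 G // k • Q = Q} = 45 := by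
    unfold Nat.ModEq at hmod
    have h3 := Nat.mod_eq_zero_of_dvd hdvd
    generalize Nat.card {Q : Sylow 11 G // k • Q = Q} = m at *
    interval_cases m <;> omega
  intro Q
  by_contra hQ
  let f : {Q : Sylow 11 G // k • Q = Q} → {R : Sylow 11 G // R ≠ Q} :=
    fun R => ⟨R.1, fun h => hQ (h ▸ R.2)⟩
  have hf : Function.Injective f := by
    intro a b hab
    have : (f a).1 = (f b).1 := congrArg Subtype.val hab
    exact Subtype.ext this
  have h1 := Nat.card_le_card_of_injective f hf
  have h2 := card_ne_add_one Q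
  omega

/-- When `n₁₁ = 45`, some nontrivial 2-element of `C_G(P)` normalizes every Sylow
11-subgroup. -/
theorem exists_two_element_in_kernel (hord : Nat.card G = 7920)
    (h45 : Nat.card (Sylow 11 G) = 45) (P : Sylow 11 G) :
    ∃ k : G, k ≠ 1 ∧ k ^ 16 = 1 ∧ ∀ Q : Sylow 11 G, k • Q = Q := by
  have hN : Nat.card (normalizer (P : Set G)) = 176 := by
    have := card_normalizer_mul hord P
    rw [h45] at this
    omega
  have hCN : centralizer ((P : Subgroup G) : Set G) ≤ normalizer (P : Set G) :=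
    centralizer_le_normalizer _
  have hrel := relIndex_centralizer_dvd_ten (P : Subgroup G) (card_sylow_eleven hord P)
  have hmul : Nat.card (centralizer ((P : Subgroup G) : Set G)) *
      (centralizer ((P : Subgroup G) : Set G)).relIndex (normalizer (P : Set G)) = 176 := by
    have := Subgroup.relIndex_mul_relIndex ⊥ _ _ bot_le hCN
    rw [Subgroup.relIndex_bot_left, Subgroup.relIndex_bot_left] at this
    rw [← hN]; exact this
  have hC : 88 ≤ Nat.card (centralizer ((P : Subgroup G) : Set G)) ∧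
      Nat.card (centralizer ((P : Subgroup G) : Set G)) ∣ 176 := by
    have hr : (centralizer ((P : Subgroup G) : Set G)).relIndex (normalizer (P : Set G)) ∈
        Nat.divisors 10 := Nat.mem_divisors.mpr ⟨hrel, by norm_num⟩
    have h10 : Nat.divisors 10 = {1, 2, 5, 10} := by decide
    rw [h10] at hr
    simp only [Finset.mem_insert, Finset.mem_singleton] at hr
    refine ⟨?_, Dvd.intro _ hmul⟩
    rcases hr with h | h | h | h <;> rw [h] at hmul <;> omega
  obtain ⟨hC88, hC176⟩ := hC
  -- a second Sylow subgroup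
  have hnt : Nontrivial (Sylow 11 G) :=
    Finite.one_lt_card_iff_nontrivial.mp (by rw [h45]; norm_num)
  obtain ⟨P₂, hP₂⟩ := exists_ne P
  -- pigeonhole
  let f : centralizer ((P : Subgroup G) : Set G) → {Q : Sylow 11 G // Q ≠ P} :=
    fun c => ⟨(c : G) • P₂, by
      intro h
      have h1 : (c : G) • P = P :=
        Sylow.smul_eq_iff_mem_normalizer.mpr (hCN c.2)
      exact hP₂ (smul_left_cancel _ (h.trans h1.symm))⟩
  have hninj : ¬ Function.Injective f := by
    intro hinj
    have h1 := Nat.card_le_card_of_injective f hinj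
    have h2 := card_ne_add_one P
    omega
  rw [Function.Injective] at hninj
  push Not at hninj
  obtain ⟨c₁, c₂, heq, hne⟩ := hninj
  have heq' : (c₁ : G) • P₂ = (c₂ : G) • P₂ := congrArg Subtype.val heq
  set P₃ : Sylow 11 G := (c₁ : G) • P₂ with hP₃
  have hP₃ne : P₃ ≠ P := (f c₁).2
  set c : G := (c₂ : G) * (c₁ : G)⁻¹ with hc
  have hcC : c ∈ centralizer ((P : Subgroup G) : Set G) :=
    Subgroup.mul_mem _ c₂.2 (Subgroup.inv_mem _ c₁.2)
  have hc1 : c ≠ 1 := by
    intro h
    apply hne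
    apply Subtype.ext
    have : (c₂ : G) = c * c₁ := by rw [hc]; group
    rw [this, h, one_mul]
  have hcP₃ : c • P₃ = P₃ := by
    rw [hc, hP₃, mul_smul, inv_smul_smul, ← heq']
  have hcP : c • P = P := Sylow.smul_eq_iff_mem_normalizer.mpr (hCN hcC)
  refine ⟨c ^ 11, ?_, ?_, ?_⟩
  · intro h
    have h1 := mem_sylow_of_pow_eleven h hcP
    exact hc1 (eq_one_of_mem_of_normalizes hord (Ne.symm hP₃ne) h1 hcP₃)
  · have h1 : c ^ Nat.card (centralizer ((P : Subgroup G) : Set G)) = 1 := by
      have := pow_card_eq_one' (G := centralizer ((P : Subgroup G) : Set G)) (x := ⟨c, hcC⟩)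
      exact congrArg Subtype.val this
    obtain ⟨d, hd⟩ := hC176
    rw [← pow_mul]
    have : 11 * 16 = Nat.card (centralizer ((P : Subgroup G) : Set G)) * d := by omega
    rw [this, pow_mul, h1, one_pow]
  · have hk3 : (c ^ 11) • P₃ = P₃ := by
      have : zpowers c ≤ stabilizer G P₃ := zpowers_le.mpr hcP₃
      exact this (Subgroup.pow_mem _ (mem_zpowers c) 11)
    have hk16 : (c ^ 11) ^ 16 = 1 := by
      have h1 : c ^ Nat.card (centralizer ((P : Subgroup G) : Set G)) = 1 := by
        have := pow_card_eq_one' (G := centralizer ((P : Subgroup G) : Set G)) (x := ⟨c, hcC⟩)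
        exact congrArg Subtype.val this
      obtain ⟨d, hd⟩ := hC176
      rw [← pow_mul]
      have : 11 * 16 = Nat.card (centralizer ((P : Subgroup G) : Set G)) * d := by omega
      rw [this, pow_mul, h1, one_pow]
    exact fixes_all hord h45 (c ^ 11) P P₃ hP₃ne (Subgroup.pow_mem _ hcC 11) hk16 hk3

/-- The case `n₁₁ = 45`: the prime graph contains the star at 2. -/
theorem case45 (hord : Nat.card G = 7920) (h45 : Nat.card (Sylow 11 G) = 45) :
    Adj G 2 11 ∧ Adj G 2 3 ∧ Adj G 2 5 := by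
  obtain ⟨P⟩ : Nonempty (Sylow 11 G) := inferInstance
  obtain ⟨k, hk1, hk16, hkall⟩ := exists_two_element_in_kernel hord h45 P
  have hnt : Nontrivial (Sylow 11 G) :=
    Finite.one_lt_card_iff_nontrivial.mp (by rw [h45]; norm_num)
  obtain ⟨P₂, hP₂⟩ := exists_ne P
  have hN : Nat.card (normalizer (P : Set G)) = 176 := by
    have := card_normalizer_mul hord P
    rw [h45] at this
    omega
  set L : Subgroup G := (MulAction.toPermHom G (Sylow 11 G)).ker with hLdef
  have hL : ∀ g, g ∈ L ↔ ∀ Q : Sylow 11 G, g • Q = Q := by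
    intro g
    rw [hLdef, MonoidHom.mem_ker]
    constructor
    · intro h Q
      have := congrArg (fun σ : Equiv.Perm (Sylow 11 G) => σ Q) h
      simpa using this
    · intro h
      ext Q
      simp [h Q]
  have hkL : k ∈ L := (hL k).mpr hkall
  have hLn : L.Normal := MonoidHom.normal_ker _
  have hcomm : ∀ g ∈ L, ∀ x ∈ (P : Subgroup G), g * x = x * g := by
    intro g hg x hx
    have hwP : g * x * g⁻¹ * x⁻¹ ∈ (P : Subgroup G) := by
      have h1 : g * x * g⁻¹ ∈ (P : Subgroup G) :=
        (mem_normalizer_iff.mp (Sylow.smul_eq_iff_mem_normalizer.mp ((hL g).mp hg P)) x).mp hx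
      exact (P : Subgroup G).mul_mem h1 ((P : Subgroup G).inv_mem hx)
    have hwL : g * x * g⁻¹ * x⁻¹ ∈ L := by
      have h1 : x * g⁻¹ * x⁻¹ ∈ L := hLn.conj_mem _ (L.inv_mem hg) x
      have : g * x * g⁻¹ * x⁻¹ = g * (x * g⁻¹ * x⁻¹) := by group
      rw [this]
      exact L.mul_mem hg h1
    have hw1 : g * x * g⁻¹ * x⁻¹ = 1 :=
      eq_one_of_mem_of_normalizes hord (Ne.symm hP₂) hwP ((hL _).mp hwL P₂)
    calc g * x = (g * x * g⁻¹ * x⁻¹) * x * g := by group
      _ = x * g := by rw [hw1, one_mul]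
  have hEn : (centralizer (L : Set G)).Normal := normal_centralizer
  have hPE : (P : Subgroup G) ≤ centralizer (L : Set G) := fun x hx =>
    mem_centralizer_iff.mpr fun g hg => hcomm g hg x hx
  have hfr := Sylow.normalizer_sup_eq_top' P hPE
  have hidx : (centralizer (L : Set G)).index ∣ 176 := by
    have h1 := relIndex_sup_right (normalizer (P : Set G)) (centralizer (L : Set G))
    rw [hfr, relIndex_top_right] at h1
    rw [h1, ← hN]
    exact relIndex_dvd_card _ _
  have h45E : 45 ∣ Nat.card (centralizer (L : Set G)) := by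
    have hmul := (centralizer (L : Set G)).card_mul_index
    rw [hord] at hmul
    obtain ⟨d, hd⟩ := hidx
    have hpos : 0 < (centralizer (L : Set G)).index := Nat.pos_of_ne_zero (by
      intro h0; rw [h0] at hd; omega)
    refine ⟨d, ?_⟩
    have h2 : Nat.card (centralizer (L : Set G)) * (centralizer (L : Set G)).index =
        (45 * d) * (centralizer (L : Set G)).index := by
      rw [hmul]
      have : (45 * d) * (centralizer (L : Set G)).index =
          45 * ((centralizer (L : Set G)).index * d) := by ring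
      rw [this, ← hd]
    exact Nat.eq_of_mul_eq_mul_right hpos h2
  have : Fact (Nat.Prime 3) := ⟨by norm_num⟩
  have : Fact (Nat.Prime 5) := ⟨by norm_num⟩
  obtain ⟨v3, hv3⟩ := exists_prime_orderOf_dvd_card' (G := centralizer (L : Set G)) 3
    (Dvd.dvd.trans (by norm_num) h45E)
  obtain ⟨v5, hv5⟩ := exists_prime_orderOf_dvd_card' (G := centralizer (L : Set G)) 5
    (Dvd.dvd.trans (by norm_num) h45E)
  obtain ⟨x0, hx0⟩ := exists_prime_orderOf_dvd_card' (G := (P : Subgroup G)) 11
    (by rw [card_sylow_eleven hord P])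
  have hx : orderOf (x0 : G) = 11 := by rw [Subgroup.orderOf_coe]; exact hx0
  have hv3' : orderOf (v3 : G) = 3 := by rw [Subgroup.orderOf_coe]; exact hv3
  have hv5' : orderOf (v5 : G) = 5 := by rw [Subgroup.orderOf_coe]; exact hv5
  -- an involution in L
  have hkpow : ∃ j, orderOf k = 2 ^ j := by
    have h1 : orderOf k ∣ 2 ^ 4 := orderOf_dvd_of_pow_eq_one hk16
    obtain ⟨j, _, hj⟩ := (Nat.dvd_prime_pow (by norm_num)).mp h1
    exact ⟨j, hj⟩
  obtain ⟨i, hi⟩ := exists_pow_orderOf_eq_prime (p := 2) (by norm_num) hk1 hkpow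
  have hzL : k ^ i ∈ L := L.pow_mem hkL i
  refine ⟨adj_of_orderOf (k ^ i * x0) (orderOf_mul_of_commute_primes (by norm_num) (by norm_num)
      (by norm_num) hi hx (hcomm _ hzL _ x0.2)),
    adj_of_orderOf (k ^ i * v3) (orderOf_mul_of_commute_primes (by norm_num) (by norm_num)
      (by norm_num) hi hv3' ((mem_centralizer_iff.mp v3.2) _ hzL)),
    adj_of_orderOf (k ^ i * v5) (orderOf_mul_of_commute_primes (by norm_num) (by norm_num)
      (by norm_num) hi hv5' ((mem_centralizer_iff.mp v5.2) _ hzL))⟩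

end Cfsg.Agent.Helper8.M11
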