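import Mathlib

/-!
# Commuting graphs: transfer of the order and of centralizer orders

A bijection between the non-identity elements of two finite groups preserving commutation
preserves the group order and the orders of the centralizers of non-identity elements.
-/

set_option autoImplicit false
set_option linter.style.haveILetI false

namespace Cfsg.Agent.Helper8.M11Recog

universe u v

/-- the non-identity elements commuting with `k` -/
def h8_commSet (K : Type u) [Group K] (k : K) : Set {h : K // h ≠ 1} :=
  {y | k * (y : K) = (y : K) * k}

theorem h8_card_centralizer_eq (K : Type u) [Group K] [Finite K] (k : K) :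
    Nat.card (Subgroup.centralizer ({k} : Set K)) = Nat.card (h8_commSet K k) + 1 := by
  classical
  have hset : ((Subgroup.centralizer ({k} : Set K) : Subgroup K) : Set K) =
      insert 1 (Subtype.val '' h8_commSet K k) := by
    ext y
    simp only [SetLike.mem_coe, Subgroup.mem_centralizer_singleton_iff, Set.mem_insert_iff,
      Set.mem_image, h8_commSet, Set.mem_ofPred_eq, Subtype.exists, exists_and_right,
      exists_eq_right]
    constructor
    · intro hy
      by_cases h1 : y = 1
      · exact Or.inl h1
      · exact Or.inr ⟨h1, hy.symm⟩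
    · rintro (rfl | ⟨_, hy⟩)
      · simp
      · exact hy.symm
  have h1 : (1 : K) ∉ Subtype.val '' h8_commSet K k := by
    rintro ⟨y, -, hy⟩
    exact y.2 hy
  rw [Nat.card_coe_set_eq (h8_commSet K k), ← Set.ncard_image_of_injective _
    Subtype.val_injective, ← Set.ncard_insert_of_notMem h1 (Set.toFinite _), ← hset,
    ← Nat.card_coe_set_eq]
  rfl

variable {H : Type u} {M : Type v} [Group H] [Group M] [Finite H] [Finite M]

theorem h8_card_eq_of_commuting_equiv (f : {h : H // h ≠ 1} ≃ {g : M // g ≠ 1}) :
    Nat.card H = Nat.card M := by
  classical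
  have hH : Nat.card {h : H // h ≠ 1} = Nat.card H - 1 := by
    haveI := Fintype.ofFinite H
    rw [Nat.card_eq_fintype_card, Nat.card_eq_fintype_card, Fintype.card_subtype_compl,
      Fintype.card_subtype_eq]
  have hM : Nat.card {g : M // g ≠ 1} = Nat.card M - 1 := by
    haveI := Fintype.ofFinite M
    rw [Nat.card_eq_fintype_card, Nat.card_eq_fintype_card, Fintype.card_subtype_compl,
      Fintype.card_subtype_eq]
  have h := Nat.card_congr f
  rw [hH, hM] at h
  have p1 : 0 < Nat.card H := Nat.card_pos
  have p2 : 0 < Nat.card M := Nat.card_pos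
  omega

theorem h8_card_centralizer_of_commuting_equiv (f : {h : H // h ≠ 1} ≃ {g : M // g ≠ 1})
    (hf : ∀ x y : {h : H // h ≠ 1}, (x : H) * y = y * x ↔ ((f x) : M) * (f y) = (f y) * (f x))
    (x : {h : H // h ≠ 1}) :
    Nat.card (Subgroup.centralizer ({(x : H)} : Set H)) =
      Nat.card (Subgroup.centralizer ({((f x) : M)} : Set M)) := by
  rw [h8_card_centralizer_eq H (x : H), h8_card_centralizer_eq M ((f x) : M)]
  congr 1
  apply Nat.card_congr
  exact f.subtypeEquiv (fun y => by simp only [h8_commSet, Set.mem_ofPred_eq]; exact hf x y)

end Cfsg.Agent.Helper8.M11Recog
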