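import Cfsg.Agent.Helper8.M11C

/-!
S2490: the case `n₁₁ = 144` and the final assembly.
-/

set_option autoImplicit false

namespace Cfsg.Agent.Helper8.M11

open Subgroup MulAction
open scoped Pointwise

variable {G : Type*} [Group G] [Finite G]

attribute [local instance] fact11

/-- If `n₁₁ = 144` then an element centralizing a Sylow 11-subgroup has order dividing 55. -/
theorem orderOf_dvd_of_centralizes (hord : Nat.card G = 7920)
    (h144 : Nat.card (Sylow 11 G) = 144) (P : Sylow 11 G) {m : G}
    (hm : ∀ x ∈ (P : Subgroup G), x * m = m * x) : orderOf m ∣ 55 := by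
  have hN : Nat.card (normalizer (P : Set G)) = 55 := by
    have := card_normalizer_mul hord P
    rw [h144] at this
    omega
  have hmN : m ∈ normalizer (P : Set G) :=
    centralizer_le_normalizer _ (mem_centralizer_iff.mpr hm)
  have := orderOf_dvd_natCard (⟨m, hmN⟩ : normalizer (P : Set G))
  rw [hN] at this
  rwa [← Subgroup.orderOf_mk m hmN]

/-- A normal subgroup of order divisible by 11 contains every Sylow 11-subgroup. -/
theorem sylow_le_of_dvd_card (hord : Nat.card G = 7920) (N : Subgroup G) [N.Normal]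
    (h11 : 11 ∣ Nat.card N) (P : Sylow 11 G) : (P : Subgroup G) ≤ N := by
  obtain ⟨g, hg⟩ := exists_prime_orderOf_dvd_card' (G := N) 11 h11
  have hg' : orderOf (g : G) = 11 := by rw [Subgroup.orderOf_coe]; exact hg
  have hpg : IsPGroup 11 (zpowers (g : G)) :=
    IsPGroup.of_card (n := 1) (by rw [Nat.card_zpowers, hg', pow_one])
  obtain ⟨Q, hQ⟩ := hpg.exists_le_sylow
  have hQeq : zpowers (g : G) = (Q : Subgroup G) :=
    Subgroup.eq_of_le_of_card_ge hQ (by rw [card_sylow_eleven hord Q, Nat.card_zpowers, hg'])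
  have hQN : (Q : Subgroup G) ≤ N := by
    rw [← hQeq]; exact zpowers_le.mpr g.2
  obtain ⟨h, hh⟩ := MulAction.exists_smul_eq G Q P
  intro x hx
  rw [← hh] at hx
  have hx' : x ∈ (MulAut.conj h • (Q : Subgroup G)) := by
    rwa [← Sylow.pointwise_smul_def, ← Sylow.smul_def]
  rw [Subgroup.mem_pointwise_smul_iff_inv_smul_mem] at hx'
  have h1 : (MulAut.conj h)⁻¹ • x ∈ N := hQN hx'
  have h2 : x = h * ((MulAut.conj h)⁻¹ • x) * h⁻¹ := by
    simp [MulAut.smul_def]
    group
  rw [h2]
  exact ‹N.Normal›.conj_mem _ h1 h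

/-- Case `n₁₁ = 144`, subcase `11 ∣ |N|`: impossible. -/
theorem case144_a (hord : Nat.card G = 7920) (h144 : Nat.card (Sylow 11 G) = 144)
    (N : Subgroup G) [N.Normal] (hN2 : N ≠ ⊤) (h11 : 11 ∣ Nat.card N) : False := by
  obtain ⟨P⟩ : Nonempty (Sylow 11 G) := inferInstance
  have hNP : Nat.card (normalizer (P : Set G)) = 55 := by
    have := card_normalizer_mul hord P
    rw [h144] at this
    omega
  have hPN : (P : Subgroup G) ≤ N := sylow_le_of_dvd_card hord N h11 P
  have hfr := Sylow.normalizer_sup_eq_top' P hPN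
  have hidx : N.index = N.relIndex (normalizer (P : Set G)) := by
    have h1 := relIndex_sup_right (normalizer (P : Set G)) N
    rwa [hfr, relIndex_top_right] at h1
  have hmulN := N.card_mul_index
  rw [hord] at hmulN
  -- card (N ⊓ normalizer P) * index = 55
  have hinf : Nat.card (N ⊓ normalizer (P : Set G) : Subgroup G) * N.index = 55 := by
    have h1 := Subgroup.relIndex_mul_relIndex ⊥ (N ⊓ normalizer (P : Set G))
      (normalizer (P : Set G)) bot_le inf_le_right
    rw [Subgroup.relIndex_bot_left, Subgroup.relIndex_bot_left, inf_relIndex_right, ← hidx,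
      hNP] at h1
    exact h1
  have hidx5 : N.index = 5 := by
    have hd : N.index ∣ 55 := Dvd.intro_left _ hinf
    have hmem : N.index ∈ Nat.divisors 55 := Nat.mem_divisors.mpr ⟨hd, by norm_num⟩
    have h55 : Nat.divisors 55 = {1, 5, 11, 55} := by decide
    rw [h55] at hmem
    simp only [Finset.mem_insert, Finset.mem_singleton] at hmem
    rcases hmem with h | h | h | h
    · exact absurd (Subgroup.index_eq_one.mp h) hN2
    · exact h
    · exfalso
      obtain ⟨d, hd⟩ := h11
      rw [h, hd] at hmulN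
      omega
    · exfalso
      obtain ⟨d, hd⟩ := h11
      rw [h, hd] at hmulN
      omega
  have hcardN : Nat.card N = 1584 := by rw [hidx5] at hmulN; omega
  have hcardinf : Nat.card (N ⊓ normalizer (P : Set G) : Subgroup G) = 11 := by
    rw [hidx5] at hinf; omega
  have hinfP : (P : Subgroup G) = N ⊓ normalizer (P : Set G) :=
    Subgroup.eq_of_le_of_card_ge (le_inf hPN le_normalizer)
      (by rw [hcardinf, card_sylow_eleven hord P])
  -- P is abelian
  have hPcomm : ∀ a ∈ (P : Subgroup G), ∀ b ∈ (P : Subgroup G), a * b = b * a := by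
    intro a ha b hb
    by_cases ha1 : a = 1
    · rw [ha1, one_mul, mul_one]
    obtain ⟨z, rfl⟩ := mem_zpowers_iff.mp (mem_zpowers_of_ne_one hord P ha ha1 hb)
    exact ((Commute.refl a).zpow_right z).eq
  -- transfer hypothesis
  have hP' : normalizer ((P.subtype hPN : Sylow 11 N) : Set N) ≤
      centralizer ((P.subtype hPN : Sylow 11 N) : Set N) := by
    intro n hn
    have hn' : n ∈ normalizer (((P : Subgroup G).subgroupOf N : Subgroup N) : Set N) := by
      have : ((P.subtype hPN : Sylow 11 N) : Subgroup N) = (P : Subgroup G).subgroupOf N :=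
        Sylow.coe_subtype _ _
      have h2 : ((P.subtype hPN : Sylow 11 N) : Set N) =
          (((P : Subgroup G).subgroupOf N : Subgroup N) : Set N) := by
        ext y; exact Iff.of_eq (congrArg (fun K : Subgroup N => y ∈ K) this)
      rw [← h2]; exact hn
    rw [← Subgroup.subgroupOf_normalizer_eq hPN, Subgroup.mem_subgroupOf] at hn'
    have hnP : (n : G) ∈ (P : Subgroup G) := by
      rw [hinfP]; exact ⟨n.2, hn'⟩
    rw [mem_centralizer_iff]
    intro y hy
    have hy' : (y : G) ∈ (P : Subgroup G) := by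
      have : y ∈ ((P.subtype hPN : Sylow 11 N) : Subgroup N) := hy
      rw [Sylow.coe_subtype, Subgroup.mem_subgroupOf] at this
      exact this
    apply Subtype.ext
    exact hPcomm _ hy' _ hnP
  have hcompl := MonoidHom.ker_transferSylow_isComplement' (P.subtype hPN) hP'
  have hcm := hcompl.card_mul_card
  have hcardPN : Nat.card ((P.subtype hPN : Sylow 11 N) : Subgroup N) = 11 := by
    rw [Sylow.coe_subtype]
    exact (Nat.card_congr (Subgroup.subgroupOfEquivOfLe hPN).toEquiv).trans
      (card_sylow_eleven hord P)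
  rw [hcardPN, hcardN] at hcm
  have hker : Nat.card (MonoidHom.transferSylow (P.subtype hPN) hP').ker = 144 := by omega
  obtain ⟨m, _, hm2, hmc⟩ := exists_prime_order_centralized (T := N)
    (by rw [hcardN]; norm_num) ((P.subtype hPN : Sylow 11 N) : Subgroup N)
    (MonoidHom.transferSylow (P.subtype hPN) hP').ker hcardPN
    (by rw [hker]; norm_num) 2 (by norm_num) (by rw [hker]; norm_num)
  have hmG : ∀ x ∈ (P : Subgroup G), x * (m : G) = (m : G) * x := by
    intro x hx
    have hx' : (⟨x, hPN hx⟩ : N) ∈ ((P.subtype hPN : Sylow 11 N) : Subgroup N) := by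
      rw [Sylow.coe_subtype, Subgroup.mem_subgroupOf]; exact hx
    exact congrArg Subtype.val (hmc _ hx')
  have hdvd := orderOf_dvd_of_centralizes hord h144 P hmG
  rw [Subgroup.orderOf_coe, hm2] at hdvd
  norm_num at hdvd

/-- A `p`-subgroup of order exceeding 4 contains an element of order `p` commuting with a
given nontrivial element of a normal subgroup of order 5. -/
theorem exists_order_p_commuting (N : Subgroup G) [N.Normal] (hN5 : Nat.card N = 5)
    {m : G} (hm : m ∈ N) (hm1 : m ≠ 1) (p : ℕ) (hp : p.Prime) (n : ℕ) (hn : 4 < p ^ n)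
    (hdvd : p ^ n ∣ Nat.card G) : ∃ t : G, orderOf t = p ∧ t * m = m * t := by
  have : Fact p.Prime := ⟨hp⟩
  obtain ⟨K, hK⟩ := Sylow.exists_subgroup_card_pow_prime p hdvd
  have hKp : IsPGroup p K := IsPGroup.of_card hK
  have hle : K ≤ normalizer (N : Set G) := by
    rw [normalizer_eq_top]; exact le_top
  obtain ⟨h, hhK, hh1, hhc⟩ := exists_commuting_of_card_lt N K hle m hm hm1 (by rw [hN5, hK]; omega)
  obtain ⟨j, hj⟩ := (IsPGroup.iff_orderOf.mp hKp) ⟨h, hhK⟩
  have hj' : orderOf h = p ^ j := by rw [← Subgroup.orderOf_mk h hhK]; exact hj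
  obtain ⟨i, hi⟩ := exists_pow_orderOf_eq_prime hp hh1 ⟨j, hj'⟩
  exact ⟨h ^ i, hi, ((Commute.pow_left (show Commute h m from hhc) i)).eq⟩

/-- Case `n₁₁ = 144`, subcase `11 ∤ |N|`: the prime graph contains the star at 5. -/
theorem case144_b (hord : Nat.card G = 7920) (h144 : Nat.card (Sylow 11 G) = 144)
    (N : Subgroup G) [N.Normal] (hN1 : N ≠ ⊥) (h11 : ¬ 11 ∣ Nat.card N) :
    Adj G 11 5 ∧ Adj G 5 2 ∧ Adj G 5 3 := by
  obtain ⟨P⟩ : Nonempty (Sylow 11 G) := inferInstance
  have hT : Nat.card G ∣ 7920 := by rw [hord]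
  have hprime : ∀ {p : ℕ}, p.Prime → p ∣ Nat.card N → p = 5 := by
    intro p hp hpN
    obtain ⟨m, _, hmp, hmc⟩ := exists_prime_order_centralized hT (P : Subgroup G) N
      (card_sylow_eleven hord P) h11 p hp hpN
    have hd := orderOf_dvd_of_centralizes hord h144 P hmc
    rw [hmp] at hd
    have h55 : (55 : ℕ) = 5 * 11 := by norm_num
    rw [h55] at hd
    rcases (Nat.Prime.dvd_mul hp).mp hd with h | h
    · exact (Nat.prime_dvd_prime_iff_eq hp (by norm_num)).mp h
    · exfalso
      have := (Nat.prime_dvd_prime_iff_eq hp (by norm_num)).mp h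
      exact h11 (this ▸ hpN)
  have hNpos : Nat.card N ≠ 0 := Nat.card_pos.ne'
  have hpow := Nat.eq_prime_pow_of_unique_prime_dvd hNpos (fun {d} hd hdN => hprime hd hdN)
  have hNdvd : Nat.card N ∣ 7920 := by
    have := Subgroup.card_subgroup_dvd_card N
    rwa [hord] at this
  have hN5 : Nat.card N = 5 := by
    set a := (Nat.card N).primeFactorsList.length with ha
    have ha1 : a ≤ 1 := by
      by_contra hc
      have h25 : 5 ^ 2 ∣ 7920 := by
        have : 5 ^ 2 ∣ 5 ^ a := pow_dvd_pow 5 (by omega)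
        exact this.trans (hpow ▸ hNdvd)
      norm_num at h25
    have ha0 : a ≠ 0 := by
      intro h0
      rw [h0, pow_zero] at hpow
      exact hN1 (Subgroup.eq_bot_of_card_eq N hpow)
    have : a = 1 := by omega
    rw [hpow, this, pow_one]
  obtain ⟨m, hmN, hm5, hmc⟩ := exists_prime_order_centralized hT (P : Subgroup G) N
    (card_sylow_eleven hord P) h11 5 (by norm_num) (by rw [hN5])
  have hm1 : m ≠ 1 := by
    intro h
    rw [h, orderOf_one] at hm5
    norm_num at hm5
  obtain ⟨x0, hx0⟩ := exists_prime_orderOf_dvd_card' (G := (P : Subgroup G)) 11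
    (by rw [card_sylow_eleven hord P])
  have hx : orderOf (x0 : G) = 11 := by rw [Subgroup.orderOf_coe]; exact hx0
  obtain ⟨t2, ht2, ht2c⟩ := exists_order_p_commuting N hN5 hmN hm1 2 (by norm_num) 3
    (by norm_num) (by rw [hord]; norm_num)
  obtain ⟨t3, ht3, ht3c⟩ := exists_order_p_commuting N hN5 hmN hm1 3 (by norm_num) 2
    (by norm_num) (by rw [hord]; norm_num)
  refine ⟨adj_of_orderOf ((x0 : G) * m) (orderOf_mul_of_commute_primes (by norm_num)
      (by norm_num) (by norm_num) hx hm5 (hmc _ x0.2)),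
    adj_of_orderOf (m * t2) (orderOf_mul_of_commute_primes (by norm_num)
      (by norm_num) (by norm_num) hm5 ht2 ht2c.symm),
    adj_of_orderOf (m * t3) (orderOf_mul_of_commute_primes (by norm_num)
      (by norm_num) (by norm_num) hm5 ht3 ht3c.symm)⟩

/-- **S2490**: a group of order 7920 with disconnected prime graph is simple. -/
theorem main (hord : Nat.card G = 7920)
    (hdisc : (∃ A : Set ℕ, (∃ a ∈ A, a.Prime ∧ a ∣ Nat.card G) ∧
      (∃ b ∉ A, b.Prime ∧ b ∣ Nat.card G) ∧
      ∀ a ∈ A, ∀ b ∉ A, a.Prime → b.Prime → a ∣ Nat.card G → b ∣ Nat.card G →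
        ¬ ∃ g : G, orderOf g = a * b)) :
    IsSimpleGroup G := by
  obtain ⟨A, hA, hB, hcut⟩ := hdisc
  have key := no_cut hord A hA hB hcut
  obtain ⟨P⟩ : Nonempty (Sylow 11 G) := inferInstance
  have hVcases : ∀ x ∈ V, x = 2 ∨ x = 3 ∨ x = 5 ∨ x = 11 := by
    intro x hx
    unfold V at hx
    simpa using hx
  have hcaseA : (Nat.card (Sylow 11 G) = 1 ∨ Nat.card (Sylow 11 G) = 12) → False := by
    intro hn
    obtain ⟨h2, h3, h5⟩ := caseA hord P hn
    apply key
    intro x hx
    rcases hVcases x hx with rfl | rfl | rfl | rfl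
    · exact Relation.ReflTransGen.single ⟨hx, h2⟩
    · exact Relation.ReflTransGen.single ⟨hx, h3⟩
    · rcases h5 with h5 | h5
      · exact Relation.ReflTransGen.single ⟨hx, h5⟩
      · exact (Relation.ReflTransGen.single ⟨by decide, h3⟩).tail ⟨hx, h5.symm⟩
    · exact Relation.ReflTransGen.refl
  rcases card_sylow_set_mem hord with h | h | h | h
  · exact (hcaseA (Or.inl h)).elim
  · exact (hcaseA (Or.inr h)).elim
  · exfalso
    obtain ⟨h11, h3, h5⟩ := case45 hord h
    apply key
    refine reach_of_star (c := 2) (by decide) (Or.inr h11.symm) ?_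
    intro x hx hx2 hx11
    rcases hVcases x hx with rfl | rfl | rfl | rfl
    · exact absurd rfl hx2
    · exact h3
    · exact h5
    · exact absurd rfl hx11
  · have hnt : Nontrivial G := by
      rw [← Finite.one_lt_card_iff_nontrivial, hord]; norm_num
    refine { exists_pair_ne := hnt.exists_pair_ne, eq_bot_or_eq_top_of_normal := ?_ }
    intro N hN
    by_contra hcon
    push Not at hcon
    obtain ⟨hN1, hN2⟩ := hcon
    by_cases h11 : 11 ∣ Nat.card N
    · exact case144_a hord h N hN2 h11
    · obtain ⟨h115, h2, h3⟩ := case144_b hord h N hN1 h11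
      apply key
      refine reach_of_star (c := 5) (by decide) (Or.inr h115) ?_
      intro x hx hx5 hx11
      rcases hVcases x hx with rfl | rfl | rfl | rfl
      · exact h2
      · exact h3
      · exact absurd rfl hx5
      · exact absurd rfl hx11

end Cfsg.Agent.Helper8.M11
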