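import Mathlib
import Cfsg.Prelude.Def_Sporadic_a
import Cfsg.Prelude.Def_Sporadic
import Cfsg.Prelude.Def_Spor_Mathieu
import Cfsg.Agent.S0426
import Cfsg.Agent.Helper9.Golay.SqDod
import Cfsg.Agent.M11U.H9_ConcreteIso
import Cfsg.Agent.Helper7.M11_TableA
import Cfsg.Agent.S2490

/-!
# Recognising the concrete `M11` (`Cfsg.Spor.M11`) — tools for corollaries of S0420

* `h8_sporM11Equiv`: `Spor.M11` is the stabiliser of the dodecad of squares and of the point `0`.
* `h8_isM11_sporM11`: `Spor.M11` is simple of order `7920`.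
* `h8_card_centralizer_of_eleven_dvd`: in a simple group of order `7920`, a non-identity element
  whose centralizer has order divisible by `11` has centralizer of order `11`.
* `h8_no_eleven_mul`: a group of order `7920` in which this centralizer property holds has no
  element of order `11 b`, `b > 1`.
-/

set_option autoImplicit false
set_option linter.style.haveILetI false

namespace Cfsg.Agent.Helper8.M11Recog

open Cfsg
open scoped Pointwise

universe u v

theorem h8_mem_M11_iff {x : Equiv.Perm GolayPt} :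
    x ∈ Spor.M11 ↔ x ∈ M24 ∧ x • Spor.squareDodecad = Spor.squareDodecad ∧
      x (some 0) = some 0 := by
  unfold Spor.M11 Spor.M12
  rw [Subgroup.mem_inf, Subgroup.mem_inf]
  constructor
  · rintro ⟨⟨h1, h2⟩, h3⟩
    exact ⟨h1, h2, h3⟩
  · rintro ⟨h1, h2, h3⟩
    exact ⟨⟨h1, h2⟩, h3⟩

/-- `Spor.M11` is (isomorphic to) the joint stabiliser in `M24` of the dodecad of squares and the
point `0`. -/
noncomputable def h8_sporM11Equiv : ↥Spor.M11 ≃*
    ↥(MulAction.stabilizer M24 Spor.squareDodecad ⊓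
      MulAction.stabilizer M24 (some 0 : GolayPt)) where
  toFun x := ⟨⟨x.1, (h8_mem_M11_iff.mp x.2).1⟩,
    Subgroup.mem_inf.mpr ⟨(h8_mem_M11_iff.mp x.2).2.1, (h8_mem_M11_iff.mp x.2).2.2⟩⟩
  invFun x := ⟨x.1.1, h8_mem_M11_iff.mpr ⟨x.1.2, (Subgroup.mem_inf.mp x.2).1,
    (Subgroup.mem_inf.mp x.2).2⟩⟩
  left_inv _ := rfl
  right_inv _ := rfl
  map_mul' _ _ := rfl

/-- `IsM11` is invariant under isomorphism -/
theorem h8_isM11_congr {G : Type u} {K : Type v} [Group G] [Group K] (e : G ≃* K)
    (h : IsM11 G) : IsM11 K := by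
  obtain ⟨hs, hc⟩ := h
  refine ⟨?_, ?_⟩
  · haveI := hs
    exact e.symm.isSimpleGroup
  · rw [← hc]
    exact (Nat.card_congr e.toEquiv).symm

/-- the concrete `M11` is simple of order `7920` -/
theorem h8_isM11_sporM11 : IsM11 ↥Spor.M11 := by
  obtain ⟨Ω, hF, hD, B, hΩ, hB, ⟨e⟩⟩ := Cfsg.Agent.M11U.concrete_iso_aut Spor.squareDodecad
    Cfsg.Agent.Helper9.Golay.sqDod_mem (some 0) Cfsg.Agent.Helper9.Golay.zero_mem_sqDod
  have h1 : IsM11 (setSystemAut B) := (Cfsg.Agent.S0426.result hΩ hB).1
  exact h8_isM11_congr (h8_sporM11Equiv.trans e).symm h1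

section Cent

variable {G : Type u} [Group G] [Finite G]

/-- In a simple group of order `7920`: if `11` divides `|C(g)|`, `g ≠ 1`, then `|C(g)| = 11`. -/
theorem h8_card_centralizer_of_eleven_dvd (hG : IsM11 G) (g : G) (hg : g ≠ 1)
    (h11 : 11 ∣ Nat.card (Subgroup.centralizer ({g} : Set G))) :
    Nat.card (Subgroup.centralizer ({g} : Set G)) = 11 := by
  haveI : Fact (Nat.Prime 11) := ⟨by norm_num⟩
  obtain ⟨z, hz⟩ := exists_prime_orderOf_dvd_card' (G := ↥(Subgroup.centralizer ({g} : Set G)))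
    11 h11
  have hz' : orderOf (z : G) = 11 := by rw [Subgroup.orderOf_coe, hz]
  have hcz := Cfsg.Agent.Helper2.M11.h7_card_centralizer_order11 hG (z : G) hz'
  -- `g` centralizes `z`
  have hcomm : (z : G) * g = g * (z : G) := by
    have := z.2
    rw [Subgroup.mem_centralizer_singleton_iff] at this
    exact this
  have hgz : g ∈ Subgroup.centralizer ({(z : G)} : Set G) := by
    rw [Subgroup.mem_centralizer_singleton_iff]
    exact hcomm.symm
  have hog : orderOf g ∣ 11 := by
    have h1 : orderOf (⟨g, hgz⟩ : ↥(Subgroup.centralizer ({(z : G)} : Set G))) ∣ 11 := by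
      rw [← hcz]
      exact orderOf_dvd_natCard _
    rwa [← Subgroup.orderOf_coe] at h1
  have hog' : orderOf g = 11 := by
    rcases (Nat.dvd_prime (by norm_num : Nat.Prime 11)).mp hog with h | h
    · exact absurd (orderOf_eq_one_iff.mp h) hg
    · exact h
  exact Cfsg.Agent.Helper2.M11.h7_card_centralizer_order11 hG g hog'

end Cent

/-- If in a finite group every non-identity element whose centralizer has order divisible by `11`
has centralizer of order exactly `11`, then no element has order `11 b` with `b > 1`. -/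
theorem h8_no_eleven_mul {H : Type u} [Group H] [Finite H]
    (hcent : ∀ z : H, z ≠ 1 → 11 ∣ Nat.card (Subgroup.centralizer ({z} : Set H)) →
      Nat.card (Subgroup.centralizer ({z} : Set H)) = 11)
    (b : ℕ) (hb : 1 < b) : ¬ ∃ g : H, orderOf g = 11 * b := by
  rintro ⟨g, hg⟩
  have hb0 : 0 < b := by omega
  have hz : orderOf (g ^ b) = 11 := by
    rw [orderOf_pow' g (by omega), hg, Nat.gcd_eq_right (Dvd.intro_left 11 rfl)]
    exact Nat.mul_div_cancel 11 hb0
  have hz1 : g ^ b ≠ 1 := by
    intro h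
    rw [h, orderOf_one] at hz
    omega
  have hzmem : g ^ b ∈ Subgroup.centralizer ({g ^ b} : Set H) := by
    rw [Subgroup.mem_centralizer_singleton_iff]
  have h11 : 11 ∣ Nat.card (Subgroup.centralizer ({g ^ b} : Set H)) := by
    have h1 : orderOf (⟨g ^ b, hzmem⟩ : ↥(Subgroup.centralizer ({g ^ b} : Set H))) ∣
        Nat.card (Subgroup.centralizer ({g ^ b} : Set H)) := orderOf_dvd_natCard _
    rwa [← Subgroup.orderOf_coe, hz] at h1
  have hc := hcent (g ^ b) hz1 h11
  have hgmem : g ∈ Subgroup.centralizer ({g ^ b} : Set H) := by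
    rw [Subgroup.mem_centralizer_singleton_iff]
    exact (pow_mul_comm' g b).symm
  have h2 : orderOf (⟨g, hgmem⟩ : ↥(Subgroup.centralizer ({g ^ b} : Set H))) ∣ 11 := by
    rw [← hc]
    exact orderOf_dvd_natCard _
  rw [← Subgroup.orderOf_coe, hg] at h2
  have : 11 * b ≤ 11 := Nat.le_of_dvd (by norm_num) h2
  nlinarith

/-- a group of order `7920` with the centralizer property at `11` is simple -/
theorem h8_isM11_of_cent {H : Type u} [Group H] [Finite H] (hcard : Nat.card H = 7920)
    (hcent : ∀ z : H, z ≠ 1 → 11 ∣ Nat.card (Subgroup.centralizer ({z} : Set H)) →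
      Nat.card (Subgroup.centralizer ({z} : Set H)) = 11) : IsM11 H := by
  refine ⟨?_, hcard⟩
  apply Cfsg.Agent.S2490.result hcard
  refine ⟨{11}, ⟨11, rfl, by norm_num, by rw [hcard]; norm_num⟩,
    ⟨2, by simp, by norm_num, by rw [hcard]; norm_num⟩, ?_⟩
  intro a ha b hbA _ hbp _ _
  rw [Set.mem_singleton_iff] at ha
  subst ha
  exact h8_no_eleven_mul hcent b hbp.one_lt

end Cfsg.Agent.Helper8.M11Recog
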