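import Mathlib

/-!
# Counting elements of a given order (generic lemmas)

* `h8_dvd_card_of_dvd_orbits`: if every orbit has size divisible by `m`, so has the whole set;
* `h8_dvd_card_orderOf_eq`: if all elements of prime order `p` have centralizer of order `c` and
  `p ∣ n`, then `|G| / c` divides the number of elements of order `n`;
* `h8_card_orderOf_prime`: if `p` divides `|G|` exactly once, the number of elements of order `p`
  is `(p - 1)` times the number of Sylow `p`-subgroups;
* `h8_centralizer_le_normalizer_of_zpowers`: `C(w) ≤ N(P)` when `P = ⟨w⟩`.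
-/

set_option autoImplicit false
set_option linter.style.haveILetI false

namespace Cfsg.Agent.Helper8.NseGen

open MulAction

/-- If every orbit has size divisible by `m` then so has the set. -/
theorem h8_dvd_card_of_dvd_orbits {M X : Type*} [Group M] [MulAction M X] [Finite X] (m : ℕ)
    (h : ∀ x : X, m ∣ Nat.card (orbit M x)) : m ∣ Nat.card X := by
  classical
  haveI : Fintype (Quotient (orbitRel M X)) := Fintype.ofFinite _
  rw [Nat.card_congr (selfEquivSigmaOrbits M X), Nat.card_sigma]
  exact Finset.dvd_sum (fun ω _ => h _)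

theorem h8_orderOf_conj {G : Type*} [Group G] (k g : G) : orderOf (k * g * k⁻¹) = orderOf g :=
  (MulAut.conj k).orderOf_eq g

/-- The elements of order `n`, as a set stable under conjugation. -/
def h8_ordSub (G : Type*) [Group G] (n : ℕ) : SubMulAction (ConjAct G) G where
  carrier := {g | orderOf g = n}
  smul_mem' := by
    intro k g hg
    change orderOf (k • g) = n
    rw [ConjAct.smul_def, h8_orderOf_conj]
    exact hg

theorem h8_mem_ordSub {G : Type*} [Group G] (n : ℕ) (g : G) :
    g ∈ h8_ordSub G n ↔ orderOf g = n := Iff.rfl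

/-- `C(g) ≤ C(g ^ k)`. -/
theorem h8_centralizer_le_pow {G : Type*} [Group G] (g : G) (k : ℕ) :
    Subgroup.centralizer ({g} : Set G) ≤ Subgroup.centralizer ({g ^ k} : Set G) := by
  intro x hx
  rw [Subgroup.mem_centralizer_singleton_iff] at hx ⊢
  have hc : Commute x g := hx
  exact (hc.pow_right k).eq

/-- If all elements of prime order `p` have centralizer of order `c` and `p ∣ n`, then `|G| / c`
divides the number of elements of order `n`. -/
theorem h8_dvd_card_orderOf_eq {G : Type*} [Group G] [Finite G] (n p c : ℕ) (_hp : p.Prime)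
    (hpn : p ∣ n)
    (hc : ∀ h : G, orderOf h = p → Nat.card (Subgroup.centralizer ({h} : Set G)) = c) :
    Nat.card G / c ∣ Nat.card {g : G // orderOf g = n} := by
  have hcard : Nat.card {g : G // orderOf g = n} = Nat.card (h8_ordSub G n) := rfl
  rw [hcard]
  apply h8_dvd_card_of_dvd_orbits (M := ConjAct G)
  intro x
  have hx : orderOf (x : G) = n := x.2
  have hn0 : n ≠ 0 := by
    rw [← hx]; exact (orderOf_pos (x : G)).ne'
  have h1 : Nat.card (orbit (ConjAct G) x) = (stabilizer (ConjAct G) x).index := by
    rw [index_stabilizer, Nat.card_coe_set_eq]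
  have h2 : stabilizer (ConjAct G) x = stabilizer (ConjAct G) (x : G) :=
    SubMulAction.stabilizer_of_subMul x
  have h3 : Nat.card (stabilizer (ConjAct G) (x : G)) =
      Nat.card (Subgroup.centralizer ({(x : G)} : Set G)) :=
    (Subgroup.nat_card_centralizer_nat_card_stabilizer _).symm
  have h4 : (stabilizer (ConjAct G) x).index * Nat.card (stabilizer (ConjAct G) x) =
      Nat.card G := by
    rw [mul_comm, Subgroup.card_mul_index]
    exact Nat.card_congr ConjAct.ofConjAct.toEquiv
  rw [h2, h3] at h4
  rw [h1, h2]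
  -- the power of order `p`
  obtain ⟨k, hk⟩ := hpn
  have hk0 : k ≠ 0 := by
    rintro rfl; exact hn0 (by rw [hk, mul_zero])
  have hord : orderOf ((x : G) ^ k) = p := by
    rw [orderOf_pow' _ hk0, hx, hk, Nat.gcd_eq_right (Dvd.intro_left p rfl),
      Nat.mul_div_cancel _ (Nat.pos_of_ne_zero hk0)]
  have h5 := Subgroup.card_dvd_of_le (h8_centralizer_le_pow (x : G) k)
  rw [hc _ hord] at h5
  have h6 : c ∣ Nat.card G := by
    rw [← hc _ hord]; exact Subgroup.card_subgroup_dvd_card _
  obtain ⟨b, hb⟩ := h5
  obtain ⟨t, ht⟩ := h6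
  have ha : 0 < Nat.card (Subgroup.centralizer ({(x : G)} : Set G)) := Nat.card_pos
  have hc0 : 0 < c := by
    rcases Nat.eq_zero_or_pos c with h | h
    · rw [h, zero_mul] at ht
      exact absurd ht Nat.card_pos.ne'
    · exact h
  rw [ht, Nat.mul_div_cancel_left _ hc0]
  rw [ht, hb] at h4
  refine ⟨b, ?_⟩
  have : (stabilizer (ConjAct G) (x : G)).index *
      Nat.card (Subgroup.centralizer ({(x : G)} : Set G)) =
      (t * b) * Nat.card (Subgroup.centralizer ({(x : G)} : Set G)) := by
    rw [h4]; ring
  exact Nat.eq_of_mul_eq_mul_right ha this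

theorem h8_card_eq_mul_of_fibers {α β : Type*} [Finite α] [Finite β] (f : α → β) (k : ℕ)
    (h : ∀ b, Nat.card {a // f a = b} = k) : Nat.card α = Nat.card β * k := by
  classical
  haveI := Fintype.ofFinite β
  rw [← Nat.card_congr (Equiv.sigmaFiberEquiv f), Nat.card_sigma]
  simp only [h, Finset.sum_const, Finset.card_univ, smul_eq_mul, Nat.card_eq_fintype_card]

theorem h8_card_ne {α : Type*} [Finite α] (a : α) :
    Nat.card {x : α // x ≠ a} = Nat.card α - 1 := by
  classical
  haveI := Fintype.ofFinite α
  rw [Nat.card_eq_fintype_card, Nat.card_eq_fintype_card, Fintype.card_subtype_compl,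
    Fintype.card_subtype_eq]

/-- If `p` divides `|G|` exactly once, the number of elements of order `p` is `(p - 1)` times the
number of Sylow `p`-subgroups. -/
theorem h8_card_orderOf_prime {G : Type*} [Group G] [Finite G] (p : ℕ) [hp : Fact p.Prime]
    (hfac : (Nat.card G).factorization p = 1) :
    Nat.card {g : G // orderOf g = p} = Nat.card (Sylow p G) * (p - 1) := by
  let f : {g : G // orderOf g = p} → Sylow p G := fun g =>
    Sylow.ofCard (Subgroup.zpowers g.1) (by rw [Nat.card_zpowers, g.2, hfac, pow_one])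
  apply h8_card_eq_mul_of_fibers f
  intro Q
  have hQc : Nat.card (Q : Subgroup G) = p := by
    rw [Q.card_eq_multiplicity, hfac, pow_one]
  have hne1 : Nat.card {x : ↥(Q : Subgroup G) // x ≠ 1} = p - 1 := by
    rw [h8_card_ne, hQc]
  rw [← hne1]
  apply Nat.card_congr
  refine
    { toFun := fun a => ⟨⟨a.1.1, ?_⟩, ?_⟩
      invFun := fun x => ⟨⟨x.1.1, ?_⟩, ?_⟩
      left_inv := fun a => by rfl
      right_inv := fun x => by rfl }
  · have h1 : (f a.1 : Subgroup G) = (Q : Subgroup G) := by rw [a.2]
    rw [← h1]
    exact Subgroup.mem_zpowers _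
  · intro h
    have h1 : a.1.1 = 1 := congrArg Subtype.val h
    have h2 := a.1.2
    rw [h1, orderOf_one] at h2
    exact hp.out.one_lt.ne h2
  · have h0 : orderOf x.1 ∣ Nat.card ↥(Q : Subgroup G) := orderOf_dvd_natCard _
    have h1 : orderOf x.1 ∣ p := by rw [hQc] at h0; exact h0
    rcases (Nat.dvd_prime hp.out).mp h1 with h | h
    · exfalso
      exact x.2 (orderOf_eq_one_iff.mp h)
    · exact (Subgroup.orderOf_coe x.1).trans h
  · have ho : orderOf (x.1 : G) = p := by
      have h0 : orderOf x.1 ∣ Nat.card ↥(Q : Subgroup G) := orderOf_dvd_natCard _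
      have h1 : orderOf x.1 ∣ p := by rw [hQc] at h0; exact h0
      rcases (Nat.dvd_prime hp.out).mp h1 with h | h
      · exfalso
        exact x.2 (orderOf_eq_one_iff.mp h)
      · exact (Subgroup.orderOf_coe x.1).trans h
    apply Sylow.ext
    change Subgroup.zpowers (x.1 : G) = (Q : Subgroup G)
    apply Subgroup.eq_of_le_of_card_ge
    · rw [Subgroup.zpowers_le]; exact x.1.2
    · rw [Nat.card_zpowers, ho, hQc]

/-- `C(w)` normalizes `⟨w⟩`. -/
theorem h8_centralizer_le_normalizer_zpowers {G : Type*} [Group G] (w : G) :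
    Subgroup.centralizer ({w} : Set G) ≤
      Subgroup.normalizer ((Subgroup.zpowers w : Subgroup G) : Set G) := by
  intro g hg
  rw [Subgroup.mem_centralizer_singleton_iff] at hg
  have hc : Commute g w := hg
  rw [Subgroup.mem_normalizer_iff]
  intro h
  have key : ∀ y : G, y ∈ Subgroup.zpowers w → g * y * g⁻¹ = y := by
    intro y hy
    obtain ⟨n, rfl⟩ := Subgroup.mem_zpowers_iff.mp hy
    have : Commute g (w ^ n) := hc.zpow_right n
    rw [this.eq, mul_inv_cancel_right]
  constructor
  · intro hh
    rw [key h hh]; exact hh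
  · intro hh
    have h3 : h = g * h * g⁻¹ := by
      calc h = g⁻¹ * (g * h * g⁻¹) * g := by group
        _ = g⁻¹ * (g * (g * h * g⁻¹) * g⁻¹) * g := by rw [key _ hh]
        _ = g * h * g⁻¹ := by group
    rw [h3]; exact hh

end Cfsg.Agent.Helper8.NseGen
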