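import Mathlib
import Cfsg.Agent.Helper8.NseGen
import Cfsg.Agent.Helper8.M11Recog
import Cfsg.Agent.S0435
import Cfsg.Agent.Helper5.M11_S0434f
import Cfsg.Agent.Helper3.M11_C10fin
import Cfsg.Agent.Helper7.M11_Ord5
import Cfsg.Agent.Helper3.M11_L1

/-!
# The numbers of elements of given orders in a simple group of order 7920, and recognition

* `h8_T`: a coarse description of the possible values of "number of elements of order `n`" in a
  simple group of order `7920` (`1`, a multiple of `165`, `440` or `1584`, or `1440`);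
* `h8_nse_T`: these values do satisfy `h8_T`;
* `h8_isM11_of_nse`: a group of order `7920` all of whose positive counts satisfy `h8_T` is simple.
-/

set_option autoImplicit false
set_option linter.style.haveILetI false

namespace Cfsg.Agent.Helper8.M11Recog

open Cfsg Cfsg.Agent.Helper8.NseGen

universe u

/-- coarse description of the values of `n ↦ #{g | orderOf g = n}` for `M11` -/
def h8_T (s : ℕ) : Prop := s = 1 ∨ 165 ∣ s ∨ 440 ∣ s ∨ 1584 ∣ s ∨ s = 1440

section Facts

variable {G : Type u} [Group G] [Finite G]

theorem h8_card_centralizer_three (hG : IsM11 G) (x : G) (hx : orderOf x = 3) :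
    Nat.card (Subgroup.centralizer ({x} : Set G)) = 18 := by
  obtain ⟨u, hu⟩ := Cfsg.Agent.Helper5.M11c.exists_involution hG
  obtain ⟨e, H⟩ := Cfsg.Agent.Helper5.M11c.exists_hyp hG
    (Cfsg.Agent.Helper2.M11.centralizer_sylow5 hG) u hu
  have hx1 : x ≠ 1 := by
    intro h
    rw [h, orderOf_one] at hx
    omega
  have hx9 : x ^ 9 = 1 := by
    have : x ^ 3 = 1 := by rw [← hx]; exact pow_orderOf_eq_one x
    calc x ^ 9 = (x ^ 3) ^ 3 := by rw [← pow_mul]
      _ = 1 := by rw [this, one_pow]
  exact (Cfsg.Agent.Helper5.M11c.three_main H x hx1 hx9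
    (Cfsg.Agent.Helper5.M11c.card_centralizer_cases H x hx1 hx9)).1

theorem h8_card_centralizer_five (hG : IsM11 G) (x : G) (hx : orderOf x = 5) :
    Nat.card (Subgroup.centralizer ({x} : Set G)) = 5 :=
  (Cfsg.Agent.Helper2.M11.order5_facts hG (Cfsg.Agent.Helper2.M11.centralizer_sylow5 hG) x hx).1

theorem h8_fact5 (hcard : Nat.card G = 7920) : (Nat.card G).factorization 5 = 1 := by
  haveI : Fact (Nat.Prime 5) := ⟨by norm_num⟩
  rw [hcard, Nat.factorization_def _ (by norm_num : Nat.Prime 5)]
  have h : (7920 : ℕ) = 5 ^ 1 * 1584 := by norm_num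
  rw [h, padicValNat.mul (by norm_num) (by norm_num), padicValNat.prime_pow,
    padicValNat.eq_zero_of_not_dvd (by norm_num)]

theorem h8_fact11 (hcard : Nat.card G = 7920) : (Nat.card G).factorization 11 = 1 := by
  haveI : Fact (Nat.Prime 11) := ⟨by norm_num⟩
  rw [hcard, Nat.factorization_def _ (by norm_num : Nat.Prime 11)]
  have h : (7920 : ℕ) = 11 ^ 1 * 720 := by norm_num
  rw [h, padicValNat.mul (by norm_num) (by norm_num), padicValNat.prime_pow,
    padicValNat.eq_zero_of_not_dvd (by norm_num)]

theorem h8_card_order_eleven (hG : IsM11 G) : Nat.card {g : G // orderOf g = 11} = 1440 := by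
  haveI : Fact (Nat.Prime 11) := ⟨by norm_num⟩
  rw [h8_card_orderOf_prime 11 (h8_fact11 hG.2),
    Cfsg.Agent.Helper2.M11.card_sylow11 hG.1 hG.2]

/-- the numbers of elements of given order in a simple group of order `7920` -/
theorem h8_nse_T (hG : IsM11 G) (n : ℕ) (hpos : 0 < Nat.card {g : G // orderOf g = n}) :
    h8_T (Nat.card {g : G // orderOf g = n}) := by
  haveI : Nonempty {g : G // orderOf g = n} := (Nat.card_pos_iff.mp hpos).1
  obtain ⟨⟨g, hg⟩⟩ := ‹Nonempty {g : G // orderOf g = n}›
  have hn7920 : n ∣ 7920 := by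
    rw [← hG.2, ← hg]; exact orderOf_dvd_natCard g
  by_cases hn1 : n = 1
  · left
    subst hn1
    rw [Nat.card_eq_one_iff_unique]
    refine ⟨⟨fun a b => ?_⟩, ⟨⟨1, orderOf_one⟩⟩⟩
    apply Subtype.ext
    rw [orderOf_eq_one_iff.mp a.2, orderOf_eq_one_iff.mp b.2]
  · obtain ⟨p, hp, hpn⟩ := Nat.exists_prime_and_dvd hn1
    have hp7920 : p ∣ 2 ^ 4 * 3 ^ 2 * 5 * 11 := by
      have : p ∣ 7920 := hpn.trans hn7920
      norm_num
      exact this
    have hpcases : p = 2 ∨ p = 3 ∨ p = 5 ∨ p = 11 := by
      rcases (Nat.Prime.dvd_mul hp).mp hp7920 with h | h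
      · rcases (Nat.Prime.dvd_mul hp).mp h with h | h
        · rcases (Nat.Prime.dvd_mul hp).mp h with h | h
          · left
            exact (Nat.prime_dvd_prime_iff_eq hp Nat.prime_two).mp (hp.dvd_of_dvd_pow h)
          · right; left
            exact (Nat.prime_dvd_prime_iff_eq hp Nat.prime_three).mp (hp.dvd_of_dvd_pow h)
        · right; right; left
          exact (Nat.prime_dvd_prime_iff_eq hp Nat.prime_five).mp h
      · right; right; right
        exact (Nat.prime_dvd_prime_iff_eq hp (by norm_num)).mp h
    rcases hpcases with rfl | rfl | rfl | rfl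
    · right; left
      have h := h8_dvd_card_orderOf_eq (G := G) n 2 48 hp hpn
        (fun h hh => Cfsg.Agent.S0435.result hG h hh)
      rw [hG.2] at h
      norm_num at h
      exact h
    · right; right; left
      have h := h8_dvd_card_orderOf_eq (G := G) n 3 18 hp hpn
        (fun h hh => h8_card_centralizer_three hG h hh)
      rw [hG.2] at h
      norm_num at h
      exact h
    · right; right; right; left
      have h := h8_dvd_card_orderOf_eq (G := G) n 5 5 hp hpn
        (fun h hh => h8_card_centralizer_five hG h hh)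
      rw [hG.2] at h
      norm_num at h
      exact h
    · right; right; right; right
      -- `n = 11`
      obtain ⟨k, hk⟩ := hpn
      have hn0 : n ≠ 0 := by
        rw [← hg]; exact (orderOf_pos g).ne'
      have hk0 : k ≠ 0 := by
        rintro rfl; exact hn0 (by rw [hk, mul_zero])
      have hord : orderOf (g ^ k) = 11 := by
        rw [orderOf_pow' _ hk0, hg, hk, Nat.gcd_eq_right (Dvd.intro_left 11 rfl),
          Nat.mul_div_cancel _ (Nat.pos_of_ne_zero hk0)]
      have hz1 : g ^ k ≠ 1 := by
        intro h
        rw [h, orderOf_one] at hord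
        omega
      have hzmem : g ^ k ∈ Subgroup.centralizer ({g ^ k} : Set G) := by
        rw [Subgroup.mem_centralizer_singleton_iff]
      have h11 : 11 ∣ Nat.card (Subgroup.centralizer ({g ^ k} : Set G)) := by
        have h1 : orderOf (⟨g ^ k, hzmem⟩ : ↥(Subgroup.centralizer ({g ^ k} : Set G))) ∣
            Nat.card (Subgroup.centralizer ({g ^ k} : Set G)) := orderOf_dvd_natCard _
        rwa [← Subgroup.orderOf_coe, hord] at h1
      have hc := h8_card_centralizer_of_eleven_dvd hG (g ^ k) hz1 h11
      have hgmem : g ∈ Subgroup.centralizer ({g ^ k} : Set G) := by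
        rw [Subgroup.mem_centralizer_singleton_iff]
        exact (pow_mul_comm' g k).symm
      have h2 : orderOf (⟨g, hgmem⟩ : ↥(Subgroup.centralizer ({g ^ k} : Set G))) ∣ 11 := by
        rw [← hc]
        exact orderOf_dvd_natCard _
      rw [← Subgroup.orderOf_coe, hg] at h2
      have hn11 : n = 11 := Nat.dvd_antisymm h2 ⟨k, hk⟩
      subst hn11
      exact h8_card_order_eleven hG

end Facts

section Recog

variable {G : Type u} [Group G] [Finite G]

theorem h8_eleven_dvd_card_centralizer (w : G) (hw : orderOf w = 11) :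
    11 ∣ Nat.card (Subgroup.centralizer ({w} : Set G)) := by
  have hzmem : w ∈ Subgroup.centralizer ({w} : Set G) := by
    rw [Subgroup.mem_centralizer_singleton_iff]
  have h1 : orderOf (⟨w, hzmem⟩ : ↥(Subgroup.centralizer ({w} : Set G))) ∣
      Nat.card (Subgroup.centralizer ({w} : Set G)) := orderOf_dvd_natCard _
  rwa [← Subgroup.orderOf_coe, hw] at h1

theorem h8_orderOf_dvd_card_centralizer (u x : G) (hx : x * u = u * x) :
    orderOf x ∣ Nat.card (Subgroup.centralizer ({u} : Set G)) := by
  have hzmem : x ∈ Subgroup.centralizer ({u} : Set G) := by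
    rw [Subgroup.mem_centralizer_singleton_iff]; exact hx
  have h1 : orderOf (⟨x, hzmem⟩ : ↥(Subgroup.centralizer ({u} : Set G))) ∣
      Nat.card (Subgroup.centralizer ({u} : Set G)) := orderOf_dvd_natCard _
  rwa [← Subgroup.orderOf_coe] at h1

/-- numbers dividing `144` and congruent to `1` mod `5` -/
theorem h8_div144 (d : ℕ) (hd : d ∣ 144) (h5 : d % 5 = 1) : d = 1 ∨ d = 6 ∨ d = 16 ∨ d = 36 := by
  have hmem : d ∈ (Nat.divisors 144).filter (fun d => d % 5 = 1) := by
    rw [Finset.mem_filter, Nat.mem_divisors]
    exact ⟨⟨hd, by norm_num⟩, h5⟩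
  have hset : (Nat.divisors 144).filter (fun d => d % 5 = 1) = {1, 6, 16, 36} := by decide
  rw [hset] at hmem
  simpa using hmem

/-- numbers dividing `55` and divisible by `11` -/
theorem h8_div55 (d : ℕ) (hd : d ∣ 55) (h11 : 11 ∣ d) : d = 11 ∨ d = 55 := by
  have hmem : d ∈ (Nat.divisors 55).filter (fun d => 11 ∣ d) := by
    rw [Finset.mem_filter, Nat.mem_divisors]
    exact ⟨⟨hd, by norm_num⟩, h11⟩
  have hset : (Nat.divisors 55).filter (fun d => 11 ∣ d) = {11, 55} := by decide
  rw [hset] at hmem
  simpa using hmem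

/-- A group of order `7920` whose numbers of elements of given orders all satisfy `h8_T` is
simple. -/
theorem h8_isM11_of_nse (hcard : Nat.card G = 7920)
    (hT : ∀ n : ℕ, 0 < Nat.card {g : G // orderOf g = n} →
      h8_T (Nat.card {g : G // orderOf g = n})) : IsM11 G := by
  haveI h11p : Fact (Nat.Prime 11) := ⟨by norm_num⟩
  haveI h5p : Fact (Nat.Prime 5) := ⟨by norm_num⟩
  have hs11 := h8_card_orderOf_prime (G := G) 11 (h8_fact11 hcard)
  have hs5 := h8_card_orderOf_prime (G := G) 5 (h8_fact5 hcard)
  -- 144 Sylow 11-subgroups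
  have hn11 : Nat.card (Sylow 11 G) = 144 := by
    have hpos : 0 < Nat.card (Sylow 11 G) := Nat.card_pos
    have h1 := hT 11 (by rw [hs11]; omega)
    rw [hs11] at h1
    unfold h8_T at h1
    rcases Cfsg.Agent.Helper1.M7920.card_sylow_eleven_cases hcard with h | h | h | h
    · rw [h] at h1; omega
    · rw [h] at h1; omega
    · rw [h] at h1; omega
    · exact h
  -- centralizers of elements of order 11
  have B1 : ∀ w : G, orderOf w = 11 → Nat.card (Subgroup.centralizer ({w} : Set G)) = 11 := by
    intro w hw
    have hzc : Nat.card (Subgroup.zpowers w) = 11 ^ (Nat.card G).factorization 11 := by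
      rw [Nat.card_zpowers, hw, h8_fact11 hcard, pow_one]
    obtain ⟨P, hP⟩ : ∃ P : Sylow 11 G, (P : Subgroup G) = Subgroup.zpowers w :=
      ⟨Sylow.ofCard (Subgroup.zpowers w) hzc, rfl⟩
    have hN : Nat.card (Subgroup.normalizer ((P : Subgroup G) : Set G)) = 55 := by
      have h1 := (Subgroup.normalizer ((P : Subgroup G) : Set G)).card_mul_index
      have h0 : Nat.card (Sylow 11 G) =
          (Subgroup.normalizer ((P : Subgroup G) : Set G)).index := P.card_eq_index_normalizer
      rw [← h0, hn11, hcard] at h1
      omega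
    have hle : Subgroup.centralizer ({w} : Set G) ≤
        Subgroup.normalizer ((P : Subgroup G) : Set G) := by
      rw [hP]; exact h8_centralizer_le_normalizer_zpowers w
    have hd55 : Nat.card (Subgroup.centralizer ({w} : Set G)) ∣ 55 := by
      rw [← hN]; exact Subgroup.card_dvd_of_le hle
    rcases h8_div55 _ hd55 (h8_eleven_dvd_card_centralizer w hw) with h | h
    · exact h
    · exfalso
      -- an element of order 5 commuting with `w`
      obtain ⟨u', hu'⟩ := exists_prime_orderOf_dvd_card'
        (G := ↥(Subgroup.centralizer ({w} : Set G))) 5 (by rw [h]; norm_num)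
      have hu : orderOf (u' : G) = 5 := by rw [Subgroup.orderOf_coe, hu']
      have hcomm : (u' : G) * w = w * (u' : G) := by
        have := u'.2
        rw [Subgroup.mem_centralizer_singleton_iff] at this
        exact this
      -- `55 ∣ |C(u)|`
      have hd5 : 5 ∣ Nat.card (Subgroup.centralizer ({(u' : G)} : Set G)) := by
        have := h8_orderOf_dvd_card_centralizer (u' : G) (u' : G) rfl
        rwa [hu] at this
      have hd11 : 11 ∣ Nat.card (Subgroup.centralizer ({(u' : G)} : Set G)) := by
        have := h8_orderOf_dvd_card_centralizer (u' : G) w hcomm.symm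
        rwa [hw] at this
      have hd55' : 55 ∣ Nat.card (Subgroup.centralizer ({(u' : G)} : Set G)) := by
        have : (55 : ℕ) = 5 * 11 := by norm_num
        rw [this]
        exact Nat.Coprime.mul_dvd_of_dvd_of_dvd (by norm_num) hd5 hd11
      -- the Sylow 5-subgroup generated by `u`
      have hzc5 : Nat.card (Subgroup.zpowers (u' : G)) = 5 ^ (Nat.card G).factorization 5 := by
        rw [Nat.card_zpowers, hu, h8_fact5 hcard, pow_one]
      obtain ⟨Q, hQ⟩ : ∃ Q : Sylow 5 G, (Q : Subgroup G) = Subgroup.zpowers (u' : G) :=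
        ⟨Sylow.ofCard (Subgroup.zpowers (u' : G)) hzc5, rfl⟩
      have hle5 : Subgroup.centralizer ({(u' : G)} : Set G) ≤
          Subgroup.normalizer ((Q : Subgroup G) : Set G) := by
        rw [hQ]; exact h8_centralizer_le_normalizer_zpowers (u' : G)
      have hdN : 55 ∣ Nat.card (Subgroup.normalizer ((Q : Subgroup G) : Set G)) :=
        hd55'.trans (Subgroup.card_dvd_of_le hle5)
      have hidx : Nat.card (Sylow 5 G) ∣ 144 := by
        have h1 := (Subgroup.normalizer ((Q : Subgroup G) : Set G)).card_mul_index
        have h0 : Nat.card (Sylow 5 G) =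
            (Subgroup.normalizer ((Q : Subgroup G) : Set G)).index := Q.card_eq_index_normalizer
        rw [← h0, hcard] at h1
        obtain ⟨m, hm⟩ := hdN
        rw [hm] at h1
        refine ⟨m, ?_⟩
        have : 55 * (m * Nat.card (Sylow 5 G)) = 55 * 144 := by
          rw [← mul_assoc]; omega
        have := Nat.eq_of_mul_eq_mul_left (by norm_num) this
        rw [← this, mul_comm]
      have hmod : Nat.card (Sylow 5 G) % 5 = 1 := card_sylow_modEq_one 5 G
      have hpos5 : 0 < Nat.card (Sylow 5 G) := Nat.card_pos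
      have h1 := hT 5 (by rw [hs5]; omega)
      rw [hs5] at h1
      unfold h8_T at h1
      rcases h8_div144 _ hidx hmod with h | h | h | h
      · rw [h] at h1; omega
      · rw [h] at h1; omega
      · rw [h] at h1; omega
      · rw [h] at h1; omega
  apply h8_isM11_of_cent hcard
  intro z hz h11
  obtain ⟨w', hw'⟩ := exists_prime_orderOf_dvd_card'
    (G := ↥(Subgroup.centralizer ({z} : Set G))) 11 h11
  have hw : orderOf (w' : G) = 11 := by rw [Subgroup.orderOf_coe, hw']
  have hcomm : (w' : G) * z = z * (w' : G) := by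
    have := w'.2
    rw [Subgroup.mem_centralizer_singleton_iff] at this
    exact this
  have hcw := B1 (w' : G) hw
  have hoz : orderOf z ∣ 11 := by
    have := h8_orderOf_dvd_card_centralizer (w' : G) z hcomm.symm
    rwa [hcw] at this
  rcases (Nat.dvd_prime (by norm_num : Nat.Prime 11)).mp hoz with h | h
  · exact absurd (orderOf_eq_one_iff.mp h) hz
  · exact B1 z h

end Recog

end Cfsg.Agent.Helper8.M11Recog
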