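import Cfsg.Agent.Helper8.Engel
import Cfsg.Agent.Helper4.MCBase
import Cfsg.Agent.Helper1.MCB2

/-!
# Blackburn project, PIECE (D): a `p`-group of maximal class of order `p ^ (p+1)` does not have
exponent `p`

`exists_pow_ne_one_of`: hypothesis form (existence of a uniform element as hypothesis).  The proof
uses the Engel identity `engel_of_exponent` for groups of exponent `p` and class at most `p`: for a
uniform `s` and `t ∈ lev 1 ∖ lev 2`, the `(p-1)`-fold commutator `⁅s, … ⁅s, t⁆⁆` generates the
centre.
-/

set_option autoImplicit false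

namespace Cfsg.Agent.Helper8.MC

open scoped commutatorElement
open Cfsg.Agent.Helper8.HP Cfsg.Agent.Helper8.Engel
open Cfsg.Agent.Helper4.MC

variable {G : Type*} [Group G] [Finite G] {p : ℕ} [Fact p.Prime]

/-- Iterating `⁅s, ·⁆` along the chain `lev`. -/
theorem adIter_lev {n : ℕ} (hG : IsMC p n G) (hn : 4 ≤ n) {s : G} (hs : IsUniform p s) {t : G}
    (ht : t ∈ lev G 1) (ht' : t ∉ lev G 2) :
    ∀ i, 1 ≤ i → i + 1 ≤ n → adIter s (i - 1) t ∈ lev G i ∧ adIter s (i - 1) t ∉ lev G (i + 1) := by
  intro i hi
  induction i, hi using Nat.le_induction with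
  | base => intro _; exact ⟨ht, ht'⟩
  | succ i hi ih =>
    intro hin
    obtain ⟨h1, h2⟩ := ih (by omega)
    have := Cfsg.Agent.Helper1.MC.IsUniform.comm_lev hG hn hs hi (by omega) h1 h2
    rw [show i + 1 - 1 = (i - 1) + 1 by omega, adIter_succ']
    exact this

/-- PIECE (D), hypothesis form: a `p`-group of maximal class of order `p ^ (p+1)` with a uniform
element does not have exponent `p`. -/
theorem exists_pow_ne_one_of (hG : IsMC p (p + 1) G) (hU : ∃ s : G, IsUniform p s) :
    ∃ x : G, x ^ p ≠ 1 := by
  by_contra hne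
  push Not at hne
  have hp : p.Prime := Fact.out
  have hcl : (⊤ : Subgroup G).lowerCentralSeries p = ⊥ := by
    have := hG.gam_eq_bot (i := p + 1) le_rfl
    simpa [gam] using this
  have hengel := engel_of_exponent hp hne hcl
  have h3 := hG.three_le
  by_cases hp2 : p = 2
  · -- exponent 2: abelian
    subst hp2
    have hcard := hG.card_gam_two
    have hbot : gam G 2 = ⊥ := by
      show (⊤ : Subgroup G).lowerCentralSeries (2 - 1) = ⊥
      rw [show 2 - 1 = 0 + 1 by norm_num, Subgroup.lowerCentralSeries_succ, eq_bot_iff,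
        Subgroup.commutator_le]
      intro a _ b _
      have := hengel a b
      rw [Subgroup.mem_bot]
      simpa [adIter] using this
    rw [hbot] at hcard
    simp at hcard
  · have hp3 : 3 ≤ p := by have := hp.two_le; omega
    have hn4 : 4 ≤ p + 1 := by omega
    obtain ⟨s, hs⟩ := hU
    -- an element of `lev 1 ∖ lev 2`
    obtain ⟨t, ht, ht'⟩ : ∃ t, t ∈ lev G 1 ∧ t ∉ lev G 2 := by
      by_contra hcon
      push Not at hcon
      have hle : lev G 1 ≤ lev G 2 := fun t ht => hcon t ht
      have heq : lev G 1 = lev G 2 := le_antisymm hle (lev_antitone (by norm_num))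
      have c1 := hG.card_lev hn4 (i := 1) (by omega)
      have c2 := hG.card_lev hn4 (i := 2) (by omega)
      rw [heq, c2] at c1
      have := Nat.pow_right_injective hp.two_le c1
      omega
    have h := (adIter_lev hG hn4 hs ht ht' p (by omega) le_rfl).2
    rw [hengel s t] at h
    exact h (one_mem _)

end Cfsg.Agent.Helper8.MC
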