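import Cfsg.Agent.Helper8.MCD
import Cfsg.Agent.Lead.MCUE
import Cfsg.Agent.Helper6.MCB3
import Cfsg.Agent.Helper5.MCPer
import Cfsg.Agent.Helper4.MCPearl
import Cfsg.Agent.Helper3.MCC1

/-!
# Blackburn project, PIECE (D), literal form

`exists_uniform'`: every `p`-group of maximal class has a uniform element (plug of the landed
pieces UE, B3, Per, C, C1, B2).
`exists_pow_ne_one`: a `p`-group of maximal class of order `p ^ (p+1)` does not have exponent `p`.
-/

set_option autoImplicit false

namespace Cfsg.Agent.Helper8.MC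

open scoped commutatorElement
open Cfsg.Agent.Helper4.MC

universe u

/-- Every `p`-group of maximal class has a uniform element. -/
theorem exists_uniform' {G : Type u} [Group G] [Finite G] {p n : ℕ} [Fact p.Prime]
    (hG : IsMC p n G) : ∃ s : G, IsUniform p s := by
  refine Cfsg.Agent.Lead.MC.exists_uniform_of (p := p) ?_ ?_ n G hG
  · intro G _ _ n hG hn s hs
    exact Cfsg.Agent.Helper6.MC.isUniform_of_not_mem_twoStep hG hn hs
  · intro G _ _ n hG hn hU j hj hjn
    obtain ⟨s, hs⟩ := hU
    exact Cfsg.Agent.Helper5.MC.twoStep_periodic hG hn (powerStr_of_uniform hG hn hs)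
      (Cfsg.Agent.Helper3.MC.agemo_gam_le_of_mul_pow hG
        (fun x hx => Cfsg.Agent.Helper1.MC.IsUniform.mul_pow hG hs hx)) hj hjn

/-- PIECE (D): a `p`-group of maximal class of order `p ^ (p+1)` does not have exponent `p`. -/
theorem exists_pow_ne_one {G : Type*} [Group G] [Finite G] {p : ℕ} [Fact p.Prime]
    (hG : IsMC p (p + 1) G) : ∃ x : G, x ^ p ≠ 1 :=
  exists_pow_ne_one_of hG (exists_uniform' hG)

end Cfsg.Agent.Helper8.MC
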