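import Cfsg.Agent.Helper8.MCTS3
import Cfsg.Agent.Helper6.MCB3

/-!
# Blackburn project, PIECE TS: two-step centralizers of `p`-groups of maximal class

* `twoStep_eq_two` (in `MCTS3`): `K_j = K₂` for `2 ≤ j ≤ n - 3`.
* `twoStep_last_of_odd`: `K_{n-2} = K₂` if `n` is odd (exceptional groups have even `n`).
* `twoStep_last_of_le`: `K_{n-2} = K₂` if `n ≥ p + 2` (exceptional groups have order at most
  `p ^ (p+1)`).
* `twoStep_eq_two'`: all two-step centralizers coincide if `n ≥ p + 2` or `n` is odd.
* `isUniform_of_not_mem`: every element outside `K₂ ∪ K_{n-2}` is uniform.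
* `lev_comm_gam_le'`: `⁅lev i, γ_j⁆ ≤ γ_{i+j+1}` for `i + j ≤ n - 2`.
-/

set_option autoImplicit false

namespace Cfsg.Agent.Helper8.MC

open scoped commutatorElement
open Cfsg.Agent.Helper8.HP Cfsg.Agent.Helper8.Engel
open Cfsg.Agent.Helper4.MC

universe u

variable {G : Type u} [Group G] [Finite G] {p n : ℕ} [Fact p.Prime]

/-- Positive degree of commutativity below the top: `⁅lev i, γ_j⁆ ≤ γ_{i+j+1}` for `i ≥ 1`,
`j ≥ 2`, `i + j ≤ n - 2`. -/
theorem lev_comm_gam_le' (hG : IsMC p n G) (hn : 4 ≤ n) {i j : ℕ} (hi : 1 ≤ i) (hj : 2 ≤ j)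
    (hij : i + j + 2 ≤ n) : ⁅lev G i, gam G j⁆ ≤ gam G (i + j + 1) :=
  lev_comm_gam_le hG hn (M := n - 3) (fun j hj hjM => twoStep_eq_two hG hj (by omega)) i hi j hj
    (by omega)

/-- Every element outside `K₂ ∪ K_{n-2}` is uniform. -/
theorem isUniform_of_not_mem (hG : IsMC p n G) (hn : 4 ≤ n) {s : G} (h2 : s ∉ twoStep G 2)
    (hl : s ∉ twoStep G (n - 2)) : IsUniform p s := by
  apply Cfsg.Agent.Helper6.MC.isUniform_of_not_mem_twoStep hG hn
  intro j hj hjn
  rcases Nat.lt_or_ge (j + 2) n with hlt | hge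
  · rw [twoStep_eq_two hG hj (by omega)]; exact h2
  · have : j = n - 2 := by omega
    rw [this]; exact hl

/-- Exceptional groups have even `n`: if `n` is odd then `K_{n-2} = K₂`. -/
theorem twoStep_last_of_odd (hG : IsMC p n G) (hn : 5 ≤ n) (hodd : Odd n) :
    twoStep G (n - 2) = twoStep G 2 := by
  obtain ⟨m, rfl⟩ : ∃ m, n = m + 3 := ⟨n - 3, by omega⟩
  have hm2 : 2 ≤ m := by omega
  have hn4 : 4 ≤ m + 3 := by omega
  obtain ⟨k, hk⟩ : ∃ k, m = 2 * k := by
    obtain ⟨r, hr⟩ := hodd
    exact ⟨r - 1, by omega⟩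
  obtain ⟨s, hs⟩ := Cfsg.Agent.Lead.MC.exists_uniform hG
  obtain ⟨t, ht, ht'⟩ := exists_mem_lev_one hG hn4
  have hTl : ∀ k, k ≤ m + 1 →
      adIter s k t ∈ lev G (k + 1) ∧ adIter s k t ∉ lev G (k + 2) := by
    intro k hk
    have := adIter_lev hG hn4 hs ht ht' (k + 1) (by omega) (by omega)
    simpa using this
  have hTg : ∀ k, 1 ≤ k → k ≤ m + 1 → adIter s k t ∈ gam G (k + 1) := by
    intro k hk1 hk
    rw [← lev_of_two_le G (by omega)]
    exact (hTl k hk).1
  -- improved commutator bound
  have hF : ∀ a b, a + b + 2 ≤ m + 1 →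
      ⁅adIter s a t, adIter s b t⁆ ∈ gam G (a + b + 3) := by
    intro a b hab
    rcases Nat.eq_zero_or_pos b with hb0 | hbpos
    · subst hb0
      rcases Nat.eq_zero_or_pos a with ha0 | hapos
      · subst ha0
        simp
      · have h1 : ⁅adIter s 0 t, adIter s a t⁆ ∈ gam G (a + 0 + 3) := by
          have := lev_comm_gam_le' hG hn4 (i := 1) (j := a + 1) le_rfl (by omega) (by omega)
            (Subgroup.commutator_mem_commutator (hTl 0 (by omega)).1 (hTg a hapos (by omega)))
          rwa [show 1 + (a + 1) + 1 = a + 0 + 3 by omega] at this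
        rw [← commutatorElement_inv]
        exact inv_mem h1
    · have := lev_comm_gam_le' hG hn4 (i := a + 1) (j := b + 1) (by omega) (by omega) (by omega)
        (Subgroup.commutator_mem_commutator (hTl a (by omega)).1 (hTg b hbpos (by omega)))
      rwa [show a + 1 + (b + 1) + 1 = a + b + 3 by omega] at this
  have hD : TSData G m s (fun k => adIter s k t) := by
    refine ⟨fun k => adIter_succ' s k t, fun k hk => (hTl k hk).1,
      fun k hk => hG.gam_eq_bot hk, ?_, ?_⟩
    · rw [hG.center_eq]
      rfl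
    · intro a b hab
      have := hF a b (by omega)
      rwa [show a + b + 3 = m + 1 by omega] at this
  -- the chain
  have hchain : ∀ j b, j + b = m →
      (Even j → ⁅adIter s j t, adIter s b t⁆ = ⁅adIter s 0 t, adIter s m t⁆) ∧
      (Odd j → ⁅adIter s j t, adIter s b t⁆ = ⁅adIter s 0 t, adIter s m t⁆⁻¹) := by
    intro j
    induction j with
    | zero =>
      intro b hb
      have : b = m := by omega
      subst this
      exact ⟨fun _ => rfl, fun h0 => absurd h0 (by decide)⟩
    | succ j ih =>
      intro b hb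
      have hI := ih (b + 1) (by omega)
      have hR2 := hD.R2 (a := j) (b := b) (by omega)
      beta_reduce at hR2
      have hy : ⁅adIter s j t, adIter s b t⁆ ∈ Subgroup.center G := by
        rw [hG.center_eq]
        have := hF j b (by omega)
        rwa [show j + b + 3 = m + 3 - 1 by omega] at this
      have h1 : ⁅s, ⁅adIter s j t, adIter s b t⁆⁆ = 1 :=
        commutatorElement_eq_one_iff_commute.2 ((Subgroup.mem_center_iff.1 hy) s)
      rw [h1] at hR2
      have h2 : ⁅adIter s (j + 1) t, adIter s b t⁆ = ⁅adIter s j t, adIter s (b + 1) t⁆⁻¹ :=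
        (eq_inv_of_mul_eq_one_right hR2.symm)
      constructor
      · intro hev
        have hodd : Odd j := by
          rcases Nat.even_or_odd j with he | ho
          · exact absurd (Nat.even_add_one.1 hev) (by simpa using he)
          · exact ho
        rw [h2, hI.2 hodd, inv_inv]
      · intro hod
        have hev : Even j := by
          rcases Nat.even_or_odd j with he | ho
          · exact he
          · exact absurd hod (by rw [Nat.odd_add_one]; simpa using ho)
        rw [h2, hI.1 hev]
  have hz : ⁅adIter s 0 t, adIter s m t⁆ = 1 := by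
    have hkk := hchain k k (by omega)
    have hone : ⁅adIter s k t, adIter s k t⁆ = 1 := commutatorElement_self _
    rcases Nat.even_or_odd k with he | ho
    · rw [← hkk.1 he, hone]
    · have := hkk.2 ho
      rw [hone] at this
      exact inv_eq_one.1 this.symm
  rw [adIter_zero] at hz
  have hTm := hTl m (by omega)
  rw [lev_of_two_le G (by omega), lev_of_two_le G (by omega)] at hTm
  have hmem : t ∈ twoStep G (m + 1) := by
    rw [hG.mem_twoStep_iff (j := m + 1) (by omega) (by omega) hTm.1 hTm.2 t, hz]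
    exact one_mem _
  rw [show m + 3 - 2 = m + 1 by omega]
  exact twoStep_eq_of_mem hG hn4 (by omega) (by omega) ht ht' hmem

/-- Blackburn: a `p`-group of maximal class of order `p ^ n`, `n ≥ p + 2`, is not exceptional:
`K_{n-2} = K₂`. -/
theorem twoStep_last_of_le (hG : IsMC p n G) (hn : p + 2 ≤ n) :
    twoStep G (n - 2) = twoStep G 2 := by
  have hp : p.Prime := Fact.out
  have h2 := hp.two_le
  have h3 := hG.three_le
  rcases Nat.lt_or_ge n (p + 3) with hlt | hge
  · -- `n = p + 2`
    have hnp : n = p + 2 := by omega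
    rcases hp.eq_two_or_odd' with hp2 | hpodd
    · have : n - 2 = 2 := by omega
      rw [this]
    · apply twoStep_last_of_odd hG (by obtain ⟨r, hr⟩ := hpodd; omega)
      rw [hnp]
      exact Odd.add_even hpodd (by decide)
  · have hn2 : p + 2 ≤ n := hn
    have hper := Cfsg.Agent.Helper5.MC.twoStep_periodic hG hn2
      (Cfsg.Agent.Lead.MC.powerStr hG hn2) (Cfsg.Agent.Lead.MC.agemo_gam_le hG)
      (j := n - 2 - (p - 1)) (by omega) (by omega)
    rw [show n - 2 - (p - 1) + p - 1 = n - 2 by omega] at hper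
    rw [hper]
    rcases Nat.lt_or_ge (n - 2 - (p - 1)) 3 with h | h
    · have : n - 2 - (p - 1) = 2 := by omega
      rw [this]
    · exact twoStep_eq_two hG (by omega) (by omega)

/-- All two-step centralizers coincide if `n ≥ p + 2` or `n` is odd. -/
theorem twoStep_eq_two' (hG : IsMC p n G) (h : p + 2 ≤ n ∨ Odd n) {j : ℕ} (hj : 2 ≤ j)
    (hjn : j + 2 ≤ n) : twoStep G j = twoStep G 2 := by
  rcases Nat.lt_or_ge (j + 2) n with hlt | hge
  · exact twoStep_eq_two hG hj (by omega)
  · have hjeq : j = n - 2 := by omega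
    rw [hjeq]
    rcases h with h | h
    · exact twoStep_last_of_le hG h
    · rcases Nat.lt_or_ge n 5 with h5 | h5
      · have : n - 2 = 2 := by
          have := hG.three_le
          obtain ⟨r, hr⟩ := h
          omega
        rw [this]
      · exact twoStep_last_of_odd hG h5 h

end Cfsg.Agent.Helper8.MC
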