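import Cfsg.Agent.Helper8.MCD
import Cfsg.Agent.Lead.MCUE2
import Cfsg.Agent.Helper5.MCPer

/-!
# Blackburn project, PIECE TS (part 1): tools for the two-step centralizer theorem

* `comm_conj_leibniz`: exact Leibniz rule for `⁅s, ⁅b, d⁆⁆` when the error terms vanish.
* `comm_mem_gam_of_lev`: `⁅lev i, lev j⁆ ⊆ γ_{i+j}`.
* `gam_two_le_comm_lev_one`: `γ₂ ≤ ⁅lev 1, G⁆`.
* `lev_comm_gam_le`: if `K_j = K₂` for `2 ≤ j ≤ M` then `⁅lev i, γ_j⁆ ≤ γ_{i+j+1}` for `i + j ≤ M + 1`.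
-/

set_option autoImplicit false

namespace Cfsg.Agent.Helper8.MC

open scoped commutatorElement
open Cfsg.Agent.Helper8.HP Cfsg.Agent.Helper8.Engel
open Cfsg.Agent.Helper4.MC

section pure
variable {G : Type*} [Group G]

theorem conj_eq_of_commute {c y : G} (h : Commute c y) : c * y * c⁻¹ = y := by
  rw [h.eq, mul_assoc, mul_inv_cancel, mul_one]

/-- Exact Leibniz rule: conjugating `⁅b, d⁆` by `s`. -/
theorem comm_conj_leibniz (s b d : G)
    (h1 : Commute ⁅s, b⁆ ⁅b, ⁅s, d⁆⁆) (h2 : Commute ⁅s, b⁆ ⁅b, d⁆) (h3 : Commute ⁅s, d⁆ ⁅b, d⁆)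
    (h4 : Commute ⁅s, d⁆ ⁅⁅s, b⁆, d⁆) (h5 : Commute ⁅b, d⁆ ⁅⁅s, b⁆, d⁆)
    (h6 : ⁅⁅s, b⁆, ⁅s, d⁆⁆ = 1) :
    ⁅s, ⁅b, d⁆⁆ = ⁅b, ⁅s, d⁆⁆ * ⁅⁅s, b⁆, d⁆ := by
  have e1 : s * ⁅b, d⁆ * s⁻¹ = ⁅⁅s, b⁆ * b, ⁅s, d⁆ * d⁆ := by
    simp only [commutatorElement_def]; group
  have e2 : ⁅⁅s, b⁆ * b, ⁅s, d⁆ * d⁆ = ⁅b, ⁅s, d⁆⁆ * ⁅b, d⁆ * ⁅⁅s, b⁆, d⁆ := by
    rw [comm_mul_left_eq, comm_mul_right_eq, comm_mul_right_eq, h6, one_mul,
      conj_eq_of_commute h3, conj_eq_of_commute h4, conj_eq_of_commute (h1.mul_right h2)]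
  have e3 : ⁅s, ⁅b, d⁆⁆ = s * ⁅b, d⁆ * s⁻¹ * ⁅b, d⁆⁻¹ := by rw [commutatorElement_def]
  rw [e3, e1, e2, mul_assoc ⁅b, ⁅s, d⁆⁆, mul_assoc ⁅b, ⁅s, d⁆⁆, conj_eq_of_commute h5]

theorem comm_inv_right_of_commute {s u : G} (h : Commute u ⁅s, u⁆) : ⁅s, u⁻¹⁆ = ⁅s, u⁆⁻¹ := by
  rw [comm_inv_right_eq]
  have h' : Commute u ⁅s, u⁆⁻¹ := h.inv_right
  rw [mul_assoc, h'.symm.eq, ← mul_assoc, inv_mul_cancel, one_mul]

end pure

section mc
variable {G : Type*} [Group G]

/-- `⁅lev i, lev j⁆ ⊆ γ_{i+j}` for `i, j ≥ 1`. -/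
theorem comm_mem_gam_of_lev {i j : ℕ} (hi : 1 ≤ i) (hj : 1 ≤ j) {u v : G} (hu : u ∈ lev G i)
    (hv : v ∈ lev G j) : ⁅u, v⁆ ∈ gam G (i + j) := by
  rcases Nat.lt_or_ge i 2 with hi2 | hi2
  · have hi1 : i = 1 := by omega
    subst hi1
    rcases Nat.lt_or_ge j 2 with hj2 | hj2
    · have hj1 : j = 1 := by omega
      subst hj1
      show ⁅u, v⁆ ∈ (⊤ : Subgroup G).lowerCentralSeries 1
      exact Subgroup.commutator_mem_commutator (Subgroup.mem_top u) (Subgroup.mem_top v)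
    · rw [lev_of_two_le G hj2] at hv
      rw [add_comm]
      exact comm_mem_gam_succ (by omega) u hv
  · rw [lev_of_two_le G hi2] at hu
    rcases Nat.lt_or_ge j 2 with hj2 | hj2
    · have hj1 : j = 1 := by omega
      subst hj1
      exact Cfsg.Agent.Helper4.MC.comm_mem_gam_succ' (by omega) v hu
    · rw [lev_of_two_le G hj2] at hv
      exact comm_mem_gam (by omega) (by omega) hu hv

theorem lev_le_gam_pred {i : ℕ} (hi : 2 ≤ i) : lev G i = gam G i := lev_of_two_le G hi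

theorem gam_succ_eq {i : ℕ} (hi : 1 ≤ i) : gam G (i + 1) = ⁅gam G i, (⊤ : Subgroup G)⁆ := by
  show (⊤ : Subgroup G).lowerCentralSeries (i + 1 - 1) = _
  rw [show i + 1 - 1 = (i - 1) + 1 by omega, Subgroup.lowerCentralSeries_succ]

variable [Finite G] {p n : ℕ} [Fact p.Prime]

/-- `γ₂ ≤ ⁅lev 1, G⁆`: modulo `⁅lev 1, G⁆` the group is cyclic over a central subgroup. -/
theorem gam_two_le_comm_lev_one (hG : IsMC p n G) (hn : 4 ≤ n) :
    gam G 2 ≤ ⁅lev G 1, (⊤ : Subgroup G)⁆ := by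
  have hp : p.Prime := Fact.out
  have hL : (lev G 1).Normal := lev_normal 1
  set N : Subgroup G := ⁅lev G 1, (⊤ : Subgroup G)⁆ with hN
  have hNn : N.Normal := inferInstance
  have hNL : N ≤ lev G 1 := Subgroup.commutator_le_left _ _
  -- the quotient by `lev 1` is cyclic
  have hidx : (lev G 1).index = p := by
    have h1 := hG.card_lev hn (i := 1) (by omega)
    have h2 := (lev G 1).card_mul_index
    rw [h1, hG.card, show n = (n - 1) + 1 by omega, pow_succ] at h2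
    simp only [Nat.add_sub_cancel] at h2
    exact Nat.eq_of_mul_eq_mul_left (pow_pos hp.pos _) h2
  have hcyc : IsCyclic (G ⧸ lev G 1) := by
    have : Nat.card (G ⧸ lev G 1) = p := by rw [← Subgroup.index_eq_card]; exact hidx
    exact isCyclic_of_prime_card this
  let f : G ⧸ N →* G ⧸ lev G 1 := QuotientGroup.map N (lev G 1) (MonoidHom.id G) hNL
  have hker : f.ker ≤ Subgroup.center (G ⧸ N) := by
    intro q hq
    obtain ⟨a, rfl⟩ := QuotientGroup.mk'_surjective N q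
    have ha : a ∈ lev G 1 := by
      have h1 : f (QuotientGroup.mk' N a) = 1 := hq
      have h2 : f (QuotientGroup.mk' N a) = QuotientGroup.mk' (lev G 1) a := rfl
      rw [h2] at h1
      exact (QuotientGroup.eq_one_iff a).1 h1
    rw [Subgroup.mem_center_iff]
    intro r
    obtain ⟨b, rfl⟩ := QuotientGroup.mk'_surjective N r
    have := commute_mk_of_comm_mem N (Subgroup.commutator_mem_commutator ha (Subgroup.mem_top b))
    exact this.eq.symm
  show (⊤ : Subgroup G).lowerCentralSeries (2 - 1) ≤ N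
  rw [show 2 - 1 = 0 + 1 by norm_num, Subgroup.lowerCentralSeries_succ, Subgroup.commutator_le]
  intro a _ b _
  have hcomm : IsMulCommutative (G ⧸ N) :=
    MonoidHom.isMulCommutative_of_isCyclic_of_ker_le_center f hker
  have hab : QuotientGroup.mk' N a * QuotientGroup.mk' N b =
      QuotientGroup.mk' N b * QuotientGroup.mk' N a := hcomm.is_comm.comm _ _
  have h1 : QuotientGroup.mk' N ⁅a, b⁆ = 1 := by
    rw [map_commutatorElement, commutatorElement_eq_one_iff_commute]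
    exact hab
  exact (QuotientGroup.eq_one_iff _).1 h1

/-- If the two-step centralizers `K_j`, `2 ≤ j ≤ M`, all equal `K₂ = lev 1`, then
`⁅lev i, γ_j⁆ ≤ γ_{i+j+1}` for `i ≥ 1`, `j ≥ 2`, `i + j ≤ M + 1`. -/
theorem lev_comm_gam_le (hG : IsMC p n G) (hn : 4 ≤ n) {M : ℕ}
    (hM : ∀ j, 2 ≤ j → j ≤ M → twoStep G j = twoStep G 2) :
    ∀ i, 1 ≤ i → ∀ j, 2 ≤ j → i + j ≤ M + 1 → ⁅lev G i, gam G j⁆ ≤ gam G (i + j + 1) := by
  intro i hi
  induction i, hi using Nat.le_induction with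
  | base =>
    intro j hj hij
    rw [lev_one, ← hM j hj (by omega), Subgroup.commutator_le]
    intro x hx y hy
    have := (mem_twoStep j x).1 hx y hy
    rwa [show 1 + j + 1 = j + 2 by omega]
  | succ i hi ih =>
    intro j hj hij
    have hle : lev G (i + 1) ≤ ⁅lev G i, (⊤ : Subgroup G)⁆ := by
      rcases Nat.lt_or_ge i 2 with hi2 | hi2
      · have : i = 1 := by omega
        subst this
        rw [lev_of_two_le G (by norm_num)]
        exact gam_two_le_comm_lev_one hG hn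
      · rw [lev_of_two_le G (by omega), lev_of_two_le G hi2, gam_succ_eq (by omega)]
    refine (Subgroup.commutator_mono hle le_rfl).trans ?_
    have hNn : (gam G (i + 1 + j + 1)).Normal := gam_normal _
    apply Cfsg.Agent.Helper4.three_subgroups_normal
    · -- ⁅⁅⊤, γ_j⁆, lev i⁆
      rw [Subgroup.commutator_comm (⊤ : Subgroup G), ← gam_succ_eq (by omega),
        Subgroup.commutator_comm]
      have := ih (j + 1) (by omega) (by omega)
      rwa [show i + (j + 1) + 1 = i + 1 + j + 1 by omega] at this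
    · -- ⁅⁅γ_j, lev i⁆, ⊤⁆
      rw [Subgroup.commutator_comm (gam G j)]
      refine (Subgroup.commutator_mono (ih j hj (by omega)) le_rfl).trans ?_
      rw [← gam_succ_eq (by omega)]
      exact gam_anti (by omega)

end mc

end Cfsg.Agent.Helper8.MC
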