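import Cfsg.Agent.Helper8.MCTS1

/-!
# Blackburn project, PIECE TS (part 2): the top two-step centralizer

`twoStep_top`: if `n ≤ p + 3` and `K_i = K₂` for `2 ≤ i ≤ n - 4` then `K_{n-3} = K₂`.
-/

set_option autoImplicit false

namespace Cfsg.Agent.Helper8.MC

open scoped commutatorElement
open Cfsg.Agent.Helper8.HP Cfsg.Agent.Helper8.Engel
open Cfsg.Agent.Helper4.MC

section pure
variable {G : Type*} [Group G]

/-- Mapped form of the exact Leibniz rule. -/
theorem comm_conj_leibniz_map {H : Type*} [Group H] (f : G →* H) (s b d : G)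
    (h1 : Commute (f ⁅s, b⁆) (f ⁅b, ⁅s, d⁆⁆)) (h2 : Commute (f ⁅s, b⁆) (f ⁅b, d⁆))
    (h3 : Commute (f ⁅s, d⁆) (f ⁅b, d⁆)) (h4 : Commute (f ⁅s, d⁆) (f ⁅⁅s, b⁆, d⁆))
    (h5 : Commute (f ⁅b, d⁆) (f ⁅⁅s, b⁆, d⁆)) (h6 : f ⁅⁅s, b⁆, ⁅s, d⁆⁆ = 1) :
    f ⁅s, ⁅b, d⁆⁆ = f ⁅b, ⁅s, d⁆⁆ * f ⁅⁅s, b⁆, d⁆ := by
  simp only [map_commutatorElement] at h1 h2 h3 h4 h5 h6 ⊢
  exact comm_conj_leibniz (f s) (f b) (f d) h1 h2 h3 h4 h5 h6

/-- If `u, v ∈ γ_{n-2}` with `u * v` central then `⁅s, v⁆ = ⁅s, u⁆⁻¹`. -/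
theorem comm_eq_inv_of_mul_mem_center {s u v : G} (hu : ⁅s, u⁆ ∈ Subgroup.center G)
    (huv : u * v ∈ Subgroup.center G) : ⁅s, v⁆ = ⁅s, u⁆⁻¹ := by
  have hc1 : Commute u ⁅s, u⁆ := (Subgroup.mem_center_iff.1 hu) u
  have hc2 : Commute s (u * v) := (Subgroup.mem_center_iff.1 huv) s
  have h1 : ⁅s, u * v⁆ = 1 := commutatorElement_eq_one_iff_commute.2 hc2
  have hv : ⁅s, v⁆ = ⁅s, u⁻¹ * (u * v)⁆ := by rw [inv_mul_cancel_left]
  rw [hv, comm_mul_right_eq, h1, mul_one, mul_inv_cancel, mul_one,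
    comm_inv_right_of_commute hc1]

end pure

variable {G : Type*} [Group G] [Finite G] {p n : ℕ} [Fact p.Prime]

theorem exists_mem_lev_one (hG : IsMC p n G) (hn : 4 ≤ n) : ∃ t : G, t ∈ lev G 1 ∧ t ∉ lev G 2 := by
  have hp : p.Prime := Fact.out
  by_contra hcon
  push Not at hcon
  have hle : lev G 1 ≤ lev G 2 := fun t ht => hcon t ht
  have heq : lev G 1 = lev G 2 := le_antisymm hle (lev_antitone (by norm_num))
  have c1 := hG.card_lev hn (i := 1) (by omega)
  have c2 := hG.card_lev hn (i := 2) (by omega)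
  rw [heq, c2] at c1
  have := Nat.pow_right_injective hp.two_le c1
  omega

/-- A two-step centralizer containing an element of `lev 1 ∖ lev 2` equals `K₂`. -/
theorem twoStep_eq_of_mem (hG : IsMC p n G) (hn : 4 ≤ n) {j : ℕ} (hj : 2 ≤ j) (hjn : j + 2 ≤ n)
    {t : G} (ht : t ∈ lev G 1) (ht' : t ∉ lev G 2) (h : t ∈ twoStep G j) :
    twoStep G j = twoStep G 2 := by
  have h1 : lev G 1 = Subgroup.zpowers t ⊔ lev G 2 :=
    hG.lev_eq_zpowers_sup hn (by omega) ht ht'
  have hle : lev G 1 ≤ twoStep G j := by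
    rw [h1]
    apply sup_le
    · exact (Subgroup.zpowers_le).2 h
    · rw [lev_of_two_le G le_rfl]; exact gam_two_le_twoStep hj
  rw [lev_one] at hle
  symm
  apply Subgroup.eq_of_le_of_card_ge hle
  rw [hG.card_twoStep hj hjn, hG.card_twoStep le_rfl (by omega)]

/-- The data of the chain argument: `T k = ad_s^k t` of weight `k + 1`, class `m + 2`, and the
improved commutator bound at total weight `m`. -/
structure TSData (G : Type*) [Group G] (m : ℕ) (s : G) (T : ℕ → G) : Prop where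
  succ : ∀ k, T (k + 1) = ⁅s, T k⁆
  mem : ∀ k, k ≤ m + 1 → T k ∈ lev G (k + 1)
  bot : ∀ k, m + 3 ≤ k → gam G k = ⊥
  cen : gam G (m + 2) = Subgroup.center G
  x : ∀ a b, a + b + 2 = m → ⁅T a, T b⁆ ∈ gam G (m + 1)

namespace TSData

omit [Finite G] in
theorem comm_mem {m : ℕ} {s : G} {T : ℕ → G} (h : TSData G m s T) {a b : ℕ} (ha : a ≤ m + 1)
    (hb : b ≤ m + 1) : ⁅T a, T b⁆ ∈ gam G (a + b + 2) := by
  have := comm_mem_gam_of_lev (by omega) (by omega) (h.mem a ha) (h.mem b hb)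
  rwa [show a + 1 + (b + 1) = a + b + 2 by omega] at this

omit [Finite G] in
theorem commute_of_weight {m : ℕ} {s : G} {T : ℕ → G} (h : TSData G m s T) {u v : G} {k l : ℕ}
    (hk : 1 ≤ k) (hl : 1 ≤ l) (hu : u ∈ lev G k) (hv : v ∈ lev G l) (hkl : m + 3 ≤ k + l) :
    Commute u v := by
  have := comm_mem_gam_of_lev hk hl hu hv
  rw [h.bot _ hkl, Subgroup.mem_bot] at this
  exact commutatorElement_eq_one_iff_commute.1 this

omit [Finite G] in
theorem commute_center {m : ℕ} {s : G} {T : ℕ → G} (h : TSData G m s T) {z : G}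
    (hz : z ∈ gam G (m + 2)) (g : G) : Commute z g := by
  rw [h.cen] at hz
  exact ((Subgroup.mem_center_iff.1 hz) g).symm

omit [Finite G] in
/-- Exact Leibniz rule at the top level. -/
theorem R2 {m : ℕ} {s : G} {T : ℕ → G} (h : TSData G m s T) {a b : ℕ} (hab : a + b + 1 = m) :
    ⁅s, ⁅T a, T b⁆⁆ = ⁅T a, T (b + 1)⁆ * ⁅T (a + 1), T b⁆ := by
  have hy : ⁅T a, T b⁆ ∈ lev G (m + 1) := by
    rw [lev_of_two_le G (by omega)]
    have := h.comm_mem (a := a) (b := b) (by omega) (by omega)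
    rwa [show a + b + 2 = m + 1 by omega] at this
  have hu : ⁅T a, T (b + 1)⁆ ∈ gam G (m + 2) := by
    have := h.comm_mem (a := a) (b := b + 1) (by omega) (by omega)
    rwa [show a + (b + 1) + 2 = m + 2 by omega] at this
  have hv : ⁅T (a + 1), T b⁆ ∈ gam G (m + 2) := by
    have := h.comm_mem (a := a + 1) (b := b) (by omega) (by omega)
    rwa [show a + 1 + b + 2 = m + 2 by omega] at this
  have h6 : ⁅T (a + 1), T (b + 1)⁆ = 1 := by
    have := h.comm_mem (a := a + 1) (b := b + 1) (by omega) (by omega)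
    rwa [h.bot _ (by omega), Subgroup.mem_bot] at this
  have key := comm_conj_leibniz s (T a) (T b)
  rw [← h.succ a, ← h.succ b] at key
  exact key ((h.commute_center hu _).symm)
    (h.commute_of_weight (by omega) (by omega) (h.mem (a + 1) (by omega)) hy (by omega))
    (h.commute_of_weight (by omega) (by omega) (h.mem (b + 1) (by omega)) hy (by omega))
    ((h.commute_center hv _).symm) ((h.commute_center hv _).symm) h6

omit [Finite G] in
/-- Leibniz rule modulo the centre one level below. -/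
theorem R1 {m : ℕ} {s : G} {T : ℕ → G} (h : TSData G m s T) {a b : ℕ} (hab : a + b + 2 = m) :
    ⁅T a, T (b + 1)⁆ * ⁅T (a + 1), T b⁆ ∈ gam G (m + 2) := by
  have hKn : (gam G (m + 2)).Normal := gam_normal _
  have hQ : ∀ u ∈ gam G (m + 1), ∀ g : G,
      Commute (QuotientGroup.mk' (gam G (m + 2)) u) (QuotientGroup.mk' (gam G (m + 2)) g) := by
    intro u hu g
    exact commute_mk_of_comm_mem _
      (Cfsg.Agent.Helper4.MC.comm_mem_gam_succ' (by omega) g hu)
  have hy : ⁅T a, T b⁆ ∈ gam G (m + 1) := h.x a b hab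
  have hu : ⁅T a, T (b + 1)⁆ ∈ gam G (m + 1) := by
    have := h.comm_mem (a := a) (b := b + 1) (by omega) (by omega)
    rwa [show a + (b + 1) + 2 = m + 1 by omega] at this
  have hv : ⁅T (a + 1), T b⁆ ∈ gam G (m + 1) := by
    have := h.comm_mem (a := a + 1) (b := b) (by omega) (by omega)
    rwa [show a + 1 + b + 2 = m + 1 by omega] at this
  have h6 : QuotientGroup.mk' (gam G (m + 2)) ⁅T (a + 1), T (b + 1)⁆ = 1 := by
    have := h.comm_mem (a := a + 1) (b := b + 1) (by omega) (by omega)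
    rw [show a + 1 + (b + 1) + 2 = m + 2 by omega] at this
    exact (QuotientGroup.eq_one_iff _).2 this
  have key := comm_conj_leibniz_map (QuotientGroup.mk' (gam G (m + 2))) s (T a) (T b)
  rw [← h.succ a, ← h.succ b] at key
  have hk := key ((hQ _ hu _).symm) ((hQ _ hy _).symm) ((hQ _ hy _).symm) ((hQ _ hv _).symm)
    (hQ _ hy _) h6
  have h0 : QuotientGroup.mk' (gam G (m + 2)) ⁅s, ⁅T a, T b⁆⁆ = 1 :=
    (QuotientGroup.eq_one_iff _).2 (comm_mem_gam_succ (by omega) s hy)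
  rw [h0, ← map_mul] at hk
  exact (QuotientGroup.eq_one_iff _).1 hk.symm

omit [Finite G] in
/-- Odd case: the chain ends at `⁅T k, T k⁆ = 1`. -/
theorem odd_case {m : ℕ} {s : G} {T : ℕ → G} (h : TSData G m s T) {k : ℕ} (hm : m = 2 * k + 1) :
    ⁅T 0, T (2 * k)⁆ ∈ gam G (m + 2) := by
  have key : ∀ j a, a + j = k → ⁅T a, T (k + j)⁆ ∈ gam G (m + 2) := by
    intro j
    induction j with
    | zero =>
      intro a ha
      have : a = k := by omega
      subst this
      simp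
    | succ j ih =>
      intro a ha
      have h1 := ih (a + 1) (by omega)
      have h2 := h.R1 (a := a) (b := k + j) (by omega)
      rw [show k + j + 1 = k + (j + 1) by omega] at h2
      exact (Subgroup.mul_mem_cancel_right _ h1).1 h2
  have := key k 0 (by omega)
  rwa [show k + k = 2 * k by omega] at this

omit [Finite G] in
/-- Even case: the chain gives `w ^ (k + 1) = 1` for `w = ⁅s, ⁅T 0, T (m - 1)⁆⁆`. -/
theorem even_case {m : ℕ} {s : G} {T : ℕ → G} (h : TSData G m s T) {k : ℕ} (hm : m = 2 * k + 2)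
    (hz0 : ⁅T 0, T m⁆ = 1) : ⁅s, ⁅T 0, T (2 * k + 1)⁆⁆ ^ (k + 1) = 1 := by
  set w := ⁅s, ⁅T 0, T (2 * k + 1)⁆⁆ with hw
  have hwc : ∀ a b, a + b + 1 = m → ⁅s, ⁅T a, T b⁆⁆ ∈ Subgroup.center G := by
    intro a b hab
    rw [← h.cen]
    have hy : ⁅T a, T b⁆ ∈ gam G (m + 1) := by
      have := h.comm_mem (a := a) (b := b) (by omega) (by omega)
      rwa [show a + b + 2 = m + 1 by omega] at this
    exact comm_mem_gam_succ (by omega) s hy
  have key : ∀ j b, j + b + 1 = m →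
      (Even j → ⁅s, ⁅T j, T b⁆⁆ = w ∧ ⁅T j, T (b + 1)⁆ = (w ^ j)⁻¹) ∧
      (Odd j → ⁅s, ⁅T j, T b⁆⁆ = w⁻¹ ∧ ⁅T j, T (b + 1)⁆ = w ^ j) := by
    intro j
    induction j with
    | zero =>
      intro b hb
      have hb' : b = 2 * k + 1 := by omega
      subst hb'
      refine ⟨fun _ => ⟨rfl, ?_⟩, fun h0 => absurd h0 (by decide)⟩
      rw [show 2 * k + 1 + 1 = m by omega, hz0]; simp
    | succ j ih =>
      intro b hb
      have hI := ih (b + 1) (by omega)
      have hR1 := h.R1 (a := j) (b := b) (by omega)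
      rw [h.cen] at hR1
      have ht : ⁅s, ⁅T (j + 1), T b⁆⁆ = ⁅s, ⁅T j, T (b + 1)⁆⁆⁻¹ :=
        comm_eq_inv_of_mul_mem_center (hwc j (b + 1) (by omega)) hR1
      have hR2 := h.R2 (a := j) (b := b + 1) (by omega)
      have hZ : ⁅T (j + 1), T (b + 1)⁆ = ⁅T j, T (b + 1 + 1)⁆⁻¹ * ⁅s, ⁅T j, T (b + 1)⁆⁆ := by
        rw [hR2, inv_mul_cancel_left]
      constructor
      · intro hev
        have hodd : Odd j := by
          rcases Nat.even_or_odd j with he | ho
          · exact absurd (Nat.even_add_one.1 hev) (by simpa using he)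
          · exact ho
        obtain ⟨e1, e2⟩ := hI.2 hodd
        refine ⟨by rw [ht, e1, inv_inv], ?_⟩
        rw [hZ, e2, e1, pow_succ', mul_inv_rev]
      · intro hod
        have hev : Even j := by
          rcases Nat.even_or_odd j with he | ho
          · exact he
          · exact absurd hod (by rw [Nat.odd_add_one]; simpa using ho)
        obtain ⟨e1, e2⟩ := hI.1 hev
        refine ⟨by rw [ht, e1], ?_⟩
        rw [hZ, e2, e1, inv_inv, pow_succ]
  have hfin := key (k + 1) k (by omega)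
  have hone : ⁅T (k + 1), T (k + 1)⁆ = 1 := commutatorElement_self _
  rcases Nat.even_or_odd (k + 1) with he | ho
  · have := (hfin.1 he).2
    rw [hone] at this
    exact inv_eq_one.1 this.symm
  · have := (hfin.2 ho).2
    rw [hone] at this
    exact this.symm

end TSData

end Cfsg.Agent.Helper8.MC
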