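import Cfsg.Agent.Helper8.MCTS2

/-!
# Blackburn project, PIECE TS (part 3): the two-step centralizer theorem

* `twoStep_top`: the top case for `n ≤ p + 3`.
* `twoStep_eq_two`: `K_j = K₂` for `2 ≤ j ≤ n - 3` in every `p`-group of maximal class of order
  `p ^ n` (Blackburn; Huppert III.14.6 a).
-/

set_option autoImplicit false

namespace Cfsg.Agent.Helper8.MC

open scoped commutatorElement
open Cfsg.Agent.Helper8.HP Cfsg.Agent.Helper8.Engel
open Cfsg.Agent.Helper4.MC

section top
variable {G : Type*} [Group G] [Finite G] {p n : ℕ} [Fact p.Prime]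

/-- The top two-step centralizer, small case `n ≤ p + 3`. -/
theorem twoStep_top (hG : IsMC p n G) (hn : 7 ≤ n) (hnp : n ≤ p + 3)
    (hlow : ∀ i, 2 ≤ i → i + 4 ≤ n → twoStep G i = twoStep G 2) :
    twoStep G (n - 3) = twoStep G 2 := by
  by_contra hne
  have hp : p.Prime := Fact.out
  obtain ⟨m, rfl⟩ : ∃ m, n = m + 3 := ⟨n - 3, by omega⟩
  rw [Nat.add_sub_cancel] at hne
  have hm4 : 4 ≤ m := by omega
  have hmp : m ≤ p := by omega
  have hn4 : 4 ≤ m + 3 := by omega
  obtain ⟨s, hs⟩ := Cfsg.Agent.Lead.MC.exists_uniform hG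
  obtain ⟨t, ht, ht'⟩ := exists_mem_lev_one hG hn4
  have hTl : ∀ k, k ≤ m + 1 →
      adIter s k t ∈ lev G (k + 1) ∧ adIter s k t ∉ lev G (k + 2) := by
    intro k hk
    have := adIter_lev hG hn4 hs ht ht' (k + 1) (by omega) (by omega)
    simpa using this
  have hF1 := lev_comm_gam_le hG hn4 (M := m - 1) (fun j hj hjM => hlow j hj (by omega))
  have hTg : ∀ k, 1 ≤ k → k ≤ m + 1 → adIter s k t ∈ gam G (k + 1) := by
    intro k hk1 hk
    rw [← lev_of_two_le G (by omega)]
    exact (hTl k hk).1
  -- the data of the chain argument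
  have hD : TSData G m s (fun k => adIter s k t) := by
    refine ⟨fun k => adIter_succ' s k t, fun k hk => (hTl k hk).1,
      fun k hk => hG.gam_eq_bot hk, ?_, ?_⟩
    · rw [hG.center_eq]
      rfl
    · intro a b hab
      rcases Nat.eq_zero_or_pos b with hb0 | hbpos
      · subst hb0
        have h1 : ⁅adIter s 0 t, adIter s a t⁆ ∈ gam G (m + 1) := by
          have := hF1 1 le_rfl (a + 1) (by omega) (by omega)
            (Subgroup.commutator_mem_commutator (hTl 0 (by omega)).1 (hTg a (by omega) (by omega)))
          rwa [show 1 + (a + 1) + 1 = m + 1 by omega] at this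
        show ⁅adIter s a t, adIter s 0 t⁆ ∈ gam G (m + 1)
        rw [← commutatorElement_inv]
        exact inv_mem h1
      · have := hF1 (a + 1) (by omega) (b + 1) (by omega) (by omega)
          (Subgroup.commutator_mem_commutator (hTl a (by omega)).1 (hTg b hbpos (by omega)))
        rwa [show a + 1 + (b + 1) + 1 = m + 1 by omega] at this
  -- (B): `⁅T 0, T m⁆ = 1`
  have hz0 : ⁅adIter s 0 t, adIter s m t⁆ = 1 := by
    -- `⁅γ₂, γ_{m-1}⁆ ≰ γ_{m+2}`
    have hA : ¬ ⁅gam G 2, gam G (m - 1)⁆ ≤ gam G (m + 2) := by
      intro hle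
      apply hne
      apply twoStep_eq_of_mem hG hn4 (by omega) (by omega) ht ht'
      rw [mem_twoStep]
      have hNn : (gam G (m + 2)).Normal := gam_normal _
      have h3 : ⁅⁅gam G (m - 1), (⊤ : Subgroup G)⁆, lev G 1⁆ ≤ gam G (m + 2) := by
        apply Cfsg.Agent.Helper4.three_subgroups_normal
        · refine (Subgroup.commutator_mono ?_ le_rfl).trans hle
          rw [Subgroup.commutator_le]
          intro a _ b _
          show ⁅a, b⁆ ∈ (⊤ : Subgroup G).lowerCentralSeries 1
          exact Subgroup.commutator_mem_commutator (Subgroup.mem_top a) (Subgroup.mem_top b)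
        · have := hF1 1 le_rfl (m - 1) (by omega) (by omega)
          rw [show 1 + (m - 1) + 1 = m + 1 by omega] at this
          refine (Subgroup.commutator_mono this le_rfl).trans ?_
          rw [← gam_succ_eq (by omega)]
      intro y hy
      have hy' : y ∈ ⁅gam G (m - 1), (⊤ : Subgroup G)⁆ := by
        rw [← gam_succ_eq (by omega), show m - 1 + 1 = m by omega]; exact hy
      have := h3 (Subgroup.commutator_mem_commutator hy' ht)
      rw [← commutatorElement_inv]
      exact inv_mem this
    rw [Subgroup.commutator_le] at hA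
    push Not at hA
    obtain ⟨g, hg, h, hh, hgh⟩ := hA
    have hy0 : ⁅g, h⁆ ∈ gam G (m + 1) := by
      have := comm_mem_gam (by omega) (by omega) hg hh
      rwa [show 2 + (m - 1) = m + 1 by omega] at this
    -- `⁅⁅γ₂, γ_{m-1}⁆, lev 1⁆ = ⊥`
    have h3 : ⁅⁅gam G 2, gam G (m - 1)⁆, lev G 1⁆ ≤ (⊥ : Subgroup G) := by
      apply Cfsg.Agent.Helper4.three_subgroups_normal
      · have h1 := hF1 1 le_rfl (m - 1) (by omega) (by omega)
        rw [show 1 + (m - 1) + 1 = m + 1 by omega] at h1
        rw [Subgroup.commutator_comm (gam G (m - 1))]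
        refine (Subgroup.commutator_mono h1 le_rfl).trans ?_
        refine (gam_comm_le (by omega) (by omega)).trans ?_
        rw [hG.gam_eq_bot (by omega)]
      · have h1 := hF1 1 le_rfl 2 le_rfl (by omega)
        refine (Subgroup.commutator_mono h1 le_rfl).trans ?_
        refine (gam_comm_le (by omega) (by omega)).trans ?_
        rw [hG.gam_eq_bot (by omega)]
    have hcomm : Commute ⁅g, h⁆ t := by
      rw [← commutatorElement_eq_one_iff_commute, ← Subgroup.mem_bot]
      exact h3 (Subgroup.commutator_mem_commutator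
        (Subgroup.commutator_mem_commutator hg hh) ht)
    have hsup := hG.gam_eq_zpowers_sup (i := m + 1) (by omega) (by omega) hy0 hgh
    have hle : gam G (m + 1) ≤ Subgroup.centralizer ({t} : Set G) := by
      rw [hsup]
      apply sup_le
      · rw [Subgroup.zpowers_le, Subgroup.mem_centralizer_singleton_iff]
        exact hcomm.eq
      · rw [show m + 1 + 1 = m + 3 - 1 by omega, ← hG.center_eq]
        exact Subgroup.center_le_centralizer _
    have hTm := hle (hTg m (by omega) (by omega))
    rw [Subgroup.mem_centralizer_singleton_iff] at hTm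
    rw [adIter_zero, commutatorElement_eq_one_iff_commute]
    exact hTm.symm
  -- the chain argument gives `⁅T 0, T (m-1)⁆ ∈ γ_{m+2}`
  have hY0 : ⁅t, adIter s (m - 1) t⁆ ∈ gam G (m + 2) := by
    rcases Nat.even_or_odd' m with ⟨k, hk | hk⟩
    · -- `m = 2 * k`, write `k = k' + 1`
      obtain ⟨k', rfl⟩ : ∃ k', k = k' + 1 := ⟨k - 1, by omega⟩
      have hm' : m = 2 * k' + 2 := by omega
      have hw := hD.even_case hm' hz0
      beta_reduce at hw
      set Y0 := ⁅adIter s 0 t, adIter s (2 * k' + 1) t⁆ with hY0d
      have hY0m : Y0 ∈ gam G (m + 1) := by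
        have := hD.comm_mem (a := 0) (b := 2 * k' + 1) (by omega) (by omega)
        beta_reduce at this
        rwa [show 0 + (2 * k' + 1) + 2 = m + 1 by omega] at this
      have hwc : ⁅s, Y0⁆ ∈ Subgroup.center G := by
        rw [hG.center_eq, show m + 3 - 1 = m + 1 + 1 by omega]
        exact comm_mem_gam_succ (by omega) s hY0m
      have hwp : ⁅s, Y0⁆ ^ p = 1 := by
        have := pow_card_eq_one' (G := Subgroup.center G) (x := ⟨⁅s, Y0⁆, hwc⟩)
        rw [hG.card_center] at this
        exact congrArg Subtype.val this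
      have hcop : Nat.Coprime p (k' + 1) :=
        (Nat.Prime.coprime_iff_not_dvd hp).2 (Nat.not_dvd_of_pos_of_lt (by omega) (by omega))
      have hw1 : ⁅s, Y0⁆ = 1 := by
        rw [← orderOf_eq_one_iff]
        have h1 := orderOf_dvd_of_pow_eq_one hwp
        have h2 := orderOf_dvd_of_pow_eq_one hw
        have := Nat.dvd_gcd h1 h2
        rw [hcop] at this
        exact Nat.dvd_one.1 this
      have hY0z : Y0 ∈ gam G (m + 2) := by
        by_contra hcon
        have hx : Y0 ∈ lev G (m + 1) := by rw [lev_of_two_le G (by omega)]; exact hY0m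
        have hx' : Y0 ∉ lev G (m + 1 + 1) := by rw [lev_of_two_le G (by omega)]; exact hcon
        have := (Cfsg.Agent.Helper1.MC.IsUniform.comm_lev hG hn4 hs (by omega) (by omega) hx hx').2
        rw [hw1] at this
        exact this (one_mem _)
      rw [hY0d, adIter_zero] at hY0z
      rwa [show m - 1 = 2 * k' + 1 by omega]
    · have := hD.odd_case hk
      simp only [adIter_zero] at this
      rwa [show m - 1 = 2 * k by omega]
  -- conclusion
  have hTm1 := hTl (m - 1) (by omega)
  rw [show m - 1 + 1 = m by omega, show m - 1 + 2 = m + 1 by omega, lev_of_two_le G (by omega),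
    lev_of_two_le G (by omega)] at hTm1
  have hmem : t ∈ twoStep G m :=
    (hG.mem_twoStep_iff (by omega) (by omega) hTm1.1 hTm1.2 t).2 hY0
  exact hne (twoStep_eq_of_mem hG hn4 (by omega) (by omega) ht ht' hmem)

end top

section main

universe u

variable {p : ℕ} [Fact p.Prime]

theorem twoStep_eq_two_aux : ∀ (n : ℕ) (G : Type u) [Group G] [Finite G], IsMC p n G →
    ∀ j, 2 ≤ j → j + 3 ≤ n → twoStep G j = twoStep G 2 := by
  intro n
  induction n with
  | zero => intro G _ _ _ j _ hjn; omega
  | succ n ih =>
    intro G _ _ hG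
    have hp : p.Prime := Fact.out
    -- indices below the top, through `G ⧸ Z(G)`
    have hlow : ∀ i, 2 ≤ i → i + 4 ≤ n + 1 → twoStep G i = twoStep G 2 := by
      intro i hi hin
      have hQ := Cfsg.Agent.Lead.MC.IsMC.quotient_center hG (by omega)
      rw [Nat.add_sub_cancel] at hQ
      have hIH := ih (G ⧸ Subgroup.center G) hQ i hi (by omega)
      have hcen := hG.center_eq
      rw [Nat.add_sub_cancel] at hcen
      ext x
      have hN1 : Subgroup.center G ≤ gam G (i + 2) := by
        rw [hcen]; exact gam_anti (by omega)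
      have hN2 : Subgroup.center G ≤ gam G (2 + 2) := by
        rw [hcen]; exact gam_anti (by omega)
      rw [← Cfsg.Agent.Lead.MC.mem_twoStep_quotient_iff (Subgroup.center G) hN1 x,
        ← Cfsg.Agent.Lead.MC.mem_twoStep_quotient_iff (Subgroup.center G) hN2 x, hIH]
    intro j hj hjn
    rcases Nat.lt_or_ge (j + 3) (n + 1) with hlt | hge
    · exact hlow j hj (by omega)
    · -- top index `j = n + 1 - 3`
      have hjeq : j = n + 1 - 3 := by omega
      rcases Nat.lt_or_ge j 4 with hj4 | hj4
      · -- `j = 2` or `j = 3`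
        rcases Nat.lt_or_ge j 3 with hj3 | hj3
        · have : j = 2 := by omega
          rw [this]
        · have : j = 3 := by omega
          rw [this]
          exact Cfsg.Agent.Helper5.MC.twoStep_three hG (by omega)
      · rcases Nat.lt_or_ge (p + 3) (n + 1) with hbig | hsmall
        · -- periodicity
          have hn2 : p + 2 ≤ n + 1 := by omega
          have hper := Cfsg.Agent.Helper5.MC.twoStep_periodic hG hn2
            (Cfsg.Agent.Lead.MC.powerStr hG hn2) (Cfsg.Agent.Lead.MC.agemo_gam_le hG)
            (j := j - (p - 1)) (by have := hp.two_le; omega) (by have := hp.two_le; omega)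
          rw [show j - (p - 1) + p - 1 = j by have := hp.two_le; omega] at hper
          rw [hper]
          rcases Nat.lt_or_ge (j - (p - 1)) 3 with h3 | h3
          · have : j - (p - 1) = 2 := by have := hp.two_le; omega
            rw [this]
          · exact hlow (j - (p - 1)) (by omega) (by have := hp.two_le; omega)
        · rw [hjeq]
          exact twoStep_top hG (by omega) (by omega) hlow

/-- **Blackburn's two-step centralizer theorem**: in a `p`-group of maximal class of order `p ^ n`
all two-step centralizers `K_j = C_G(γ_j / γ_{j+2})`, `2 ≤ j ≤ n - 3`, coincide. -/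
theorem twoStep_eq_two {G : Type u} [Group G] [Finite G] {n : ℕ} (hG : IsMC p n G) {j : ℕ}
    (hj : 2 ≤ j) (hjn : j + 3 ≤ n) : twoStep G j = twoStep G 2 :=
  twoStep_eq_two_aux n G hG j hj hjn

end main

end Cfsg.Agent.Helper8.MC
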