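import Mathlib
import Cfsg.Prelude.Def_Blocks
import Cfsg.Agent.Helper6.CopB
import Cfsg.Agent.Helper6.IrrCount
import Cfsg.Agent.Helper6.BlockPart
import Cfsg.Agent.Helper6.ItoMichler
import Cfsg.Agent.Helper6.Linear

set_option autoImplicit false

/-!
General tools for counting irreducible characters of degree prime to a given prime
(the two sides of the McKay equality).
-/

namespace Cfsg.Agent.Helper8.McK

open Cfsg Cfsg.Agent.Helper6

universe u v

/-- isomorphic groups have the same number of irreducible characters of degree prime to `ℓ`. -/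
theorem card_pdeg_congr {X : Type u} {Y : Type v} [Group X] [Group Y] [Finite X] [Finite Y]
    (e : X ≃* Y) (ℓ : ℕ) :
    Nat.card {χ : Cfsg.IrrCharacter X // ¬ ℓ ∣ Cfsg.charDegree (χ : X → ℂ)} =
      Nat.card {ψ : Cfsg.IrrCharacter Y // ¬ ℓ ∣ Cfsg.charDegree (ψ : Y → ℂ)} := by
  apply Nat.card_congr
  refine ⟨fun χ => ⟨⟨(χ.1 : X → ℂ) ∘ e.symm, IsIrrCharacter.comp_mulEquiv e.symm χ.1.2⟩, ?_⟩,
    fun ψ => ⟨⟨(ψ.1 : Y → ℂ) ∘ e, IsIrrCharacter.comp_mulEquiv e ψ.1.2⟩, ?_⟩, ?_, ?_⟩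
  · have : Cfsg.charDegree ((χ.1 : X → ℂ) ∘ e.symm) = Cfsg.charDegree (χ.1 : X → ℂ) := by
      unfold Cfsg.charDegree
      rw [Function.comp_apply, map_one]
    change ¬ ℓ ∣ Cfsg.charDegree ((χ.1 : X → ℂ) ∘ e.symm)
    rw [this]
    exact χ.2
  · have : Cfsg.charDegree ((ψ.1 : Y → ℂ) ∘ e) = Cfsg.charDegree (ψ.1 : Y → ℂ) := by
      unfold Cfsg.charDegree
      rw [Function.comp_apply, map_one]
    change ¬ ℓ ∣ Cfsg.charDegree ((ψ.1 : Y → ℂ) ∘ e)
    rw [this]
    exact ψ.2
  · intro χ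
    apply Subtype.ext
    apply Subtype.ext
    funext x
    simp
  · intro ψ
    apply Subtype.ext
    apply Subtype.ext
    funext y
    simp

/-- if no degree is divisible by `ℓ`, the count is the class number. -/
theorem card_pdeg_eq_card_conjClasses {X : Type u} [Group X] [Finite X] (ℓ : ℕ)
    (h : ∀ χ : Cfsg.IrrCharacter X, ¬ ℓ ∣ Cfsg.charDegree (χ : X → ℂ)) :
    Nat.card {χ : Cfsg.IrrCharacter X // ¬ ℓ ∣ Cfsg.charDegree (χ : X → ℂ)} =
      Nat.card (ConjClasses X) := by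
  rw [← card_irr_eq_card_conjClasses]
  exact Nat.card_congr (Equiv.subtypeUnivEquiv h)

/-- the normalisers of two Sylow subgroups are isomorphic. -/
theorem nonempty_normalizer_equiv {G : Type u} [Group G] [Finite G] (ℓ : ℕ) [Fact ℓ.Prime]
    (S S' : Sylow ℓ G) :
    Nonempty (Subgroup.normalizer ((S : Subgroup G) : Set G) ≃*
      Subgroup.normalizer ((S' : Subgroup G) : Set G)) := by
  obtain ⟨g, hg⟩ := MulAction.exists_smul_eq G S S'
  have h1 : ((S' : Sylow ℓ G) : Subgroup G) = (S : Subgroup G).map (MulAut.conj g).toMonoidHom := by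
    rw [← hg]
    rfl
  have h2 : Subgroup.normalizer ((S' : Subgroup G) : Set G) =
      (Subgroup.normalizer ((S : Subgroup G) : Set G)).map (MulAut.conj g).toMonoidHom := by
    rw [h1]
    exact (Subgroup.map_equiv_normalizer_eq (S : Subgroup G) (MulAut.conj g)).symm
  rw [h2]
  exact ⟨(MulAut.conj g).subgroupMap _⟩

/-- the McKay count on the local side does not depend on the Sylow subgroup. -/
theorem card_pdeg_normalizer_eq {G : Type u} [Group G] [Finite G] (ℓ : ℕ) [Fact ℓ.Prime]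
    (S S' : Sylow ℓ G) :
    Nat.card {ψ : Cfsg.IrrCharacter (Subgroup.normalizer ((S : Subgroup G) : Set G)) //
        ¬ ℓ ∣ Cfsg.charDegree (ψ : Subgroup.normalizer ((S : Subgroup G) : Set G) → ℂ)} =
      Nat.card {ψ : Cfsg.IrrCharacter (Subgroup.normalizer ((S' : Subgroup G) : Set G)) //
        ¬ ℓ ∣ Cfsg.charDegree (ψ : Subgroup.normalizer ((S' : Subgroup G) : Set G) → ℂ)} := by
  obtain ⟨e⟩ := nonempty_normalizer_equiv ℓ S S'
  exact card_pdeg_congr e ℓ

/-- if the normaliser is the whole group, the McKay equality is trivial. -/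
theorem mckay_of_normalizer_eq_top {G : Type u} [Group G] [Finite G] (ℓ : ℕ) (H : Subgroup G)
    (h : H = ⊤) :
    Nat.card {χ : Cfsg.IrrCharacter G // ¬ ℓ ∣ Cfsg.charDegree (χ : G → ℂ)} =
      Nat.card {ψ : Cfsg.IrrCharacter H // ¬ ℓ ∣ Cfsg.charDegree (ψ : H → ℂ)} := by
  subst h
  exact (card_pdeg_congr (Subgroup.topEquiv (G := G)) ℓ).symm

/-- the natural-number degree determines the value at one. -/
theorem charDegree_eq_iff {X : Type u} [Group X] [Finite X] (χ : Cfsg.IrrCharacter X) (d : ℕ) :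
    Cfsg.charDegree (χ : X → ℂ) = d ↔ (χ : X → ℂ) 1 = (d : ℂ) := by
  have h1 := charDegree_cast_of_isCharacter (IsIrrCharacter.isCharacter χ.2)
  constructor
  · intro h
    rw [← h1, h]
  · intro h
    rw [h] at h1
    exact_mod_cast h1

end Cfsg.Agent.Helper8.McK
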