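import Mathlib
import Cfsg.Agent.Helper8.SL2Ind
import Cfsg.Agent.Helper8.SL2Ell2
import Cfsg.Agent.Helper8.PSL2ClassSize

set_option autoImplicit false

/-!
Induction from the non-split torus `Tc t` of `SL₂(F)`: values of the induced functions.
-/

namespace Cfsg.Agent.Helper8.SL2C

open Matrix Cfsg.Agent.Helper7.SL2 Cfsg.Agent.Helper6
open scoped Matrix

variable {F : Type*} [Field F]

/-- an element of the non-trivial coset of the normaliser inverts the torus. -/
theorem isW_mul_eq {t : F} {w h : SpecialLinearGroup (Fin 2) F} (hw : IsW t w) (hh : h ∈ Tc t) :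
    w * h = h⁻¹ * w := by
  obtain ⟨i00, i01, i10, i11⟩ := coe_inv_apply h
  obtain ⟨w11, w01⟩ := hw
  obtain ⟨h01, h11⟩ := hh
  apply ext' <;> simp only [coe_mul_apply, i00, i01, i10, i11, w11, w01, h01, h11] <;> ring

theorem conj_eq_inv_of_isW {t : F} {w h : SpecialLinearGroup (Fin 2) F} (hw : IsW t w)
    (hh : h ∈ Tc t) : w⁻¹ * h * w = h⁻¹ := by
  have := isW_mul_eq (isW_inv hw) hh
  rw [this]
  group

theorem conj_eq_self_of_mem_Tc {t : F} {x h : SpecialLinearGroup (Fin 2) F} (hx : x ∈ Tc t)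
    (hh : h ∈ Tc t) : x⁻¹ * h * x = h := by
  rw [mul_assoc, Tc_comm hh hx, ← mul_assoc, inv_mul_cancel, one_mul]

/-- if a conjugate of a non-central element of the torus lies in the torus, the conjugating
element normalises the torus. -/
theorem mem_or_isW_of_conj_mem {t : F} (ht : t ^ 2 ≠ 4) {g x : SpecialLinearGroup (Fin 2) F}
    (hg : g ∈ Tc t) (hz : (g : Matrix (Fin 2) (Fin 2) F) 1 0 ≠ 0) (hx : x⁻¹ * g * x ∈ Tc t) :
    x ∈ Tc t ∨ IsW t x := by
  have hz' : ((x⁻¹ * g * x : SpecialLinearGroup (Fin 2) F) : Matrix (Fin 2) (Fin 2) F) 1 0 ≠ 0 := by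
    intro h0
    have hc : x⁻¹ * g * x = 1 ∨ x⁻¹ * g * x = -1 := eq_one_or_neg_one_of_mem_Tc hx h0
    have hg' : g = 1 ∨ g = -1 := by
      rcases hc with h | h
      · left
        have : g = x * (x⁻¹ * g * x) * x⁻¹ := by group
        rw [this, h]; group
      · right
        have : g = x * (x⁻¹ * g * x) * x⁻¹ := by group
        rw [this, h, mul_neg', mul_one, neg_mul', mul_inv_cancel]
    rcases hg' with h | h
    · rw [h, one_10] at hz; exact hz rfl
    · rw [h, SL2C.neg_apply, one_10, neg_zero] at hz; exact hz rfl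
  have hCg := centralizer_of_mem_Tc hg hz
  have hCh := centralizer_of_mem_Tc hx hz'
  have hn : x⁻¹ ∈ Subgroup.normalizer ((Tc t : Subgroup (SpecialLinearGroup (Fin 2) F)) :
      Set (SpecialLinearGroup (Fin 2) F)) := by
    rw [Subgroup.mem_normalizer_iff]
    intro k
    rw [inv_inv]
    constructor
    · intro hk
      rw [← hCh, Subgroup.mem_centralizer_singleton_iff]
      have hkg : k * g = g * k := Tc_comm hk hg
      have e1 : x⁻¹ * k * x * (x⁻¹ * g * x) = x⁻¹ * (k * g) * x := by group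
      have e2 : x⁻¹ * g * x * (x⁻¹ * k * x) = x⁻¹ * (g * k) * x := by group
      rw [e1, e2, hkg]
    · intro hk
      rw [← hCg, Subgroup.mem_centralizer_singleton_iff]
      have hkh : x⁻¹ * k * x * (x⁻¹ * g * x) = x⁻¹ * g * x * (x⁻¹ * k * x) := Tc_comm hk hx
      have e1 : k * g = x * (x⁻¹ * k * x * (x⁻¹ * g * x)) * x⁻¹ := by group
      have e2 : g * k = x * (x⁻¹ * g * x * (x⁻¹ * k * x)) * x⁻¹ := by group
      rw [e1, e2, hkh]
  rcases (mem_normalizer_Tc_iff ht).mp hn with h | h
  · left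
    have := Subgroup.inv_mem _ h
    rwa [inv_inv] at this
  · right
    have := isW_inv h
    rwa [inv_inv] at this

section fin
variable [Fintype F] [DecidableEq F]

theorem sum_ite_mem_Tc (t : F) (c : ℂ)
    [DecidablePred (fun x : SpecialLinearGroup (Fin 2) F => x ∈ Tc t)] :
    ∑ x : SpecialLinearGroup (Fin 2) F, (if x ∈ Tc t then c else 0) = (Nat.card (Tc t) : ℂ) * c := by
  classical
  rw [← Finset.sum_filter, Finset.sum_const, nsmul_eq_mul]
  congr 2
  rw [Nat.card_eq_fintype_card, Fintype.card_subtype]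

theorem sum_ite_isW {t : F} (ht : Ellt t) (c : ℂ)
    [DecidablePred (fun x : SpecialLinearGroup (Fin 2) F => IsW t x)] :
    ∑ x : SpecialLinearGroup (Fin 2) F, (if IsW t x then c else 0) = (Nat.card (Tc t) : ℂ) * c := by
  classical
  obtain ⟨w, hw⟩ := exists_isW ht
  rw [← sum_ite_mem_Tc t c]
  apply Fintype.sum_equiv (Equiv.mulLeft w)
  intro x
  have : IsW t x ↔ (Equiv.mulLeft w) x ∈ Tc t := by
    change IsW t x ↔ w * x ∈ Tc t
    constructor
    · intro hx
      exact mul_mem_Tc_of_isW hw hx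
    · intro hx
      have h1 : x = w⁻¹ * (w * x) := by group
      rw [h1, isW_iff, mul_assoc, Tc_comm hx (comp_mem_Tc t), ← mul_assoc, ← mul_assoc]
      have := isW_iff.mp (isW_inv hw)
      rw [this]
      group
  by_cases h : IsW t x
  · rw [if_pos h, if_pos (this.mp h)]
  · rw [if_neg h, if_neg (fun h' => h (this.mpr h'))]

/-- the value of an induced function at a non-central element of the torus. -/
theorem indT_apply {t : F} (ht : Ellt t) (θ : Tc t → ℂ) {g : SpecialLinearGroup (Fin 2) F}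
    (hg : g ∈ Tc t) (hz : (g : Matrix (Fin 2) (Fin 2) F) 1 0 ≠ 0) :
    Cfsg.indFun (Tc t) θ g = θ ⟨g, hg⟩ + θ ⟨g⁻¹, Subgroup.inv_mem _ hg⟩ := by
  classical
  rw [indFun_apply]
  have key : ∀ x : SpecialLinearGroup (Fin 2) F, Cfsg.extendByZero (Tc t) θ (x⁻¹ * g * x) =
      (if x ∈ Tc t then θ ⟨g, hg⟩ else 0) +
        (if IsW t x then θ ⟨g⁻¹, Subgroup.inv_mem _ hg⟩ else 0) := by
    intro x
    by_cases hx : x ∈ Tc t
    · have hnw : ¬ IsW t x := not_isW_of_mem_Tc (ellt_sq_ne ht) hx
      rw [if_pos hx, if_neg hnw, add_zero]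
      have e := conj_eq_self_of_mem_Tc hx hg
      have hm : x⁻¹ * g * x ∈ Tc t := by rw [e]; exact hg
      rw [extendByZero_mem _ _ hm]
      congr 1
      exact Subtype.ext e
    · by_cases hw : IsW t x
      · rw [if_neg hx, if_pos hw, zero_add]
        have e := conj_eq_inv_of_isW hw hg
        have hm : x⁻¹ * g * x ∈ Tc t := by rw [e]; exact Subgroup.inv_mem _ hg
        rw [extendByZero_mem _ _ hm]
        congr 1
        exact Subtype.ext e
      · rw [if_neg hx, if_neg hw, add_zero]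
        apply extendByZero_not_mem
        intro hm
        rcases mem_or_isW_of_conj_mem (ellt_sq_ne ht) hg hz hm with h | h
        · exact hx h
        · exact hw h
  simp_rw [key]
  rw [Finset.sum_add_distrib, sum_ite_mem_Tc, sum_ite_isW ht, ← mul_add, ← mul_assoc,
    inv_mul_cancel₀, one_mul]
  have : Nat.card (Tc t) ≠ 0 := Nat.card_pos.ne'
  exact_mod_cast this

/-- the value of an induced function at a central element. -/
theorem indT_central {t : F} (ht : Ellt t) (θ : Tc t → ℂ) {g : SpecialLinearGroup (Fin 2) F}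
    (hg : g ∈ Tc t) (hc : g ∈ Subgroup.center (SpecialLinearGroup (Fin 2) F)) :
    Cfsg.indFun (Tc t) θ g =
      (Fintype.card F : ℂ) * ((Fintype.card F : ℂ) - 1) * θ ⟨g, hg⟩ := by
  classical
  rw [indFun_apply]
  have key : ∀ x : SpecialLinearGroup (Fin 2) F, Cfsg.extendByZero (Tc t) θ (x⁻¹ * g * x) =
      θ ⟨g, hg⟩ := by
    intro x
    have e : x⁻¹ * g * x = g := by
      rw [mul_assoc, ← Subgroup.mem_center_iff.mp hc x, inv_mul_cancel_left]
    have hm : x⁻¹ * g * x ∈ Tc t := by rw [e]; exact hg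
    rw [extendByZero_mem _ _ hm]
    congr 1
    exact Subtype.ext e
  simp_rw [key]
  rw [Finset.sum_const, nsmul_eq_mul, Finset.card_univ, ← Nat.card_eq_fintype_card, card_SL2,
    card_Tc ht]
  have h1 : 1 ≤ Fintype.card F := Fintype.card_pos
  have h2 : 1 ≤ Fintype.card F ^ 2 := Nat.one_le_pow _ _ h1
  have hq1 : ((Fintype.card F : ℂ) + 1) ≠ 0 := by
    have : Fintype.card F + 1 ≠ 0 := by omega
    exact_mod_cast this
  push_cast [Nat.cast_sub h2]
  field_simp
  ring

/-- an induced function vanishes at non-central elements with an eigenvector. -/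
theorem indT_eq_zero {t : F} (ht : Ellt t) (θ : Tc t → ℂ) {g : SpecialLinearGroup (Fin 2) F}
    (hne : ¬ IsEll g) (hc : g ∉ Subgroup.center (SpecialLinearGroup (Fin 2) F)) :
    Cfsg.indFun (Tc t) θ g = 0 := by
  classical
  rw [indFun_apply]
  have key : ∀ x : SpecialLinearGroup (Fin 2) F, Cfsg.extendByZero (Tc t) θ (x⁻¹ * g * x) = 0 := by
    intro x
    apply extendByZero_not_mem
    intro hm
    by_cases hz : ((x⁻¹ * g * x : SpecialLinearGroup (Fin 2) F) : Matrix (Fin 2) (Fin 2) F) 1 0 = 0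
    · apply hc
      have hcc : x⁻¹ * g * x = 1 ∨ x⁻¹ * g * x = -1 := eq_one_or_neg_one_of_mem_Tc hm hz
      have e : g = x * (x⁻¹ * g * x) * x⁻¹ := by group
      rw [mem_center_iff']
      rcases hcc with h | h
      · left; rw [e, h]; group
      · right; rw [e, h, mul_neg', mul_one, neg_mul', mul_inv_cancel]
    · apply hne
      have hE := isEll_of_mem_Tc ht hm hz
      have := (isEll_conj (x⁻¹) (g := g)).mp (by rwa [inv_inv])
      exact this
  simp_rw [key]
  rw [Finset.sum_const_zero, mul_zero]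

end fin

end Cfsg.Agent.Helper8.SL2C
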