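import Mathlib
import Cfsg.Agent.Helper8.SL2IndT
import Cfsg.Agent.Helper8.SL2Steinberg

set_option autoImplicit false

/-!
Inner products between principal series functions and functions induced from the non-split
torus of `SL₂(F)`.
-/

namespace Cfsg.Agent.Helper8.SL2C

open Matrix Cfsg.Agent.Helper7.SL2 Cfsg.Agent.S2437 Cfsg.Agent.Helper6
open scoped Matrix ComplexConjugate

variable {F : Type*} [Field F]

section fin
variable [Fintype F] [DecidableEq F]

theorem conj_extB (α : MulChar F ℂ) (h : SpecialLinearGroup (Fin 2) F) :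
    conj (extB α h) = extB α⁻¹ h := by
  unfold extB
  split_ifs
  · exact MulChar.star_apply' α _
  · exact map_zero _

theorem conj_Rind (α : MulChar F ℂ) (g : SpecialLinearGroup (Fin 2) F) :
    conj (Rind α g) = Rind α⁻¹ g := by
  rw [Rind_apply, Rind_apply, map_mul, map_inv₀, Complex.conj_natCast, map_sum]
  simp_rw [conj_extB]

theorem conj_St (g : SpecialLinearGroup (Fin 2) F) : conj (St g) = St g := by
  rw [St_apply, map_sub, conj_Rind, inv_one, map_one]

/-- `⟨R(β), Y⟩` as a sum over the Borel subgroup. -/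
theorem classInner_Rind_left (β : MulChar F ℂ) (Y : SpecialLinearGroup (Fin 2) F → ℂ)
    (hY : Cfsg.IsClassFunction (SpecialLinearGroup (Fin 2) F) Y) :
    Cfsg.classInner (Rind β) Y =
      (Nat.card (Bor F) : ℂ)⁻¹ * ∑ a : Fˣ, β (a : F) * ∑ c : F, conj (Y (bmat a c)) := by
  classical
  haveI : Fintype (Bor F) := Fintype.ofFinite _
  have hfr := frobenius_reciprocity (Bor F) (thB β) Y hY
  change Cfsg.classInner (Rind β) Y = _ at hfr
  rw [hfr]
  unfold Cfsg.classInner
  congr 1
  have hsum : ∑ g : Bor F, thB β g * conj (Y (g : SpecialLinearGroup (Fin 2) F)) =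
      ∑ p : Fˣ × F, β (p.1 : F) * conj (Y (bmat p.1 p.2)) := by
    symm
    apply Fintype.sum_equiv (eB (F := F))
    intro p
    rfl
  rw [hsum, Fintype.sum_prod_type]
  simp_rw [← Finset.mul_sum]

/-- values of the Steinberg character on the Borel subgroup. -/
theorem St_bmat_ne (a : Fˣ) (c : F) (ha : (a : F) ^ 2 ≠ 1) : St (bmat a c) = 1 := by
  rw [St_apply, Rind_bmat_ne 1 a c ha, MulChar.one_apply_coe, MulChar.one_apply_coe]
  norm_num

theorem St_bmat_eq (a : Fˣ) (c : F) (ha : (a : F) ^ 2 = 1) :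
    St (bmat a c) = if c = 0 then (Fintype.card F : ℂ) else 0 := by
  rw [St_apply, Rind_bmat_eq 1 a c ha, MulChar.one_apply_coe]
  split_ifs <;> ring

/-- the central sum. -/
noncomputable def Zsum (f : F → ℂ) : ℂ := ∑ a : Fˣ, if (a : F) ^ 2 = 1 then f (a : F) else 0

theorem mulChar_inv_of_sq (α : MulChar F ℂ) {a : Fˣ} (ha : (a : F) ^ 2 = 1) :
    α⁻¹ (a : F) = α (a : F) := by
  rw [MulChar.inv_apply']
  congr 1
  apply inv_eq_of_mul_eq_one_left
  rw [← pow_two]
  exact ha

/-- `⟨R(β), St^k R(α)⟩` for `k ≥ 1`. -/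
theorem classInner_Rind_St_pow (β α : MulChar F ℂ) [Decidable (β = α)] [Decidable (β = α⁻¹)]
    (k : ℕ) (hk : k ≠ 0) :
    Cfsg.classInner (Rind β) (fun g => St g ^ k * Rind α g) =
      (if β = α then 1 else 0) + (if β = α⁻¹ then 1 else 0) +
        (((Fintype.card F : ℂ) ^ k * ((Fintype.card F : ℂ) + 1) - 2 * (Fintype.card F : ℂ)) /
          ((Fintype.card F : ℂ) * ((Fintype.card F : ℂ) - 1))) *
          Zsum (fun a => β a * conj (α a)) := by
  classical
  have hcf : Cfsg.IsClassFunction (SpecialLinearGroup (Fin 2) F) (fun g => St g ^ k * Rind α g) := by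
    intro g h
    have h1 := IsCharacter.isClassFunction (isCharacter_St (F := F)) g h
    have h2 := IsCharacter.isClassFunction (isCharacter_Rind α) g h
    simp only [h1, h2]
  rw [classInner_Rind_left β _ hcf]
  have hinner : ∀ a : Fˣ, ∑ c : F, conj (St (bmat a c) ^ k * Rind α (bmat a c)) =
      (Fintype.card F : ℂ) * (α⁻¹ (a : F) + α (a : F)) +
        (if (a : F) ^ 2 = 1 then
          ((Fintype.card F : ℂ) ^ k * ((Fintype.card F : ℂ) + 1) - 2 * (Fintype.card F : ℂ)) *
            conj (α (a : F)) else 0) := by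
    intro a
    have hs1 : conj (α (a : F)) = α⁻¹ (a : F) := MulChar.star_apply' α a
    have hs2 : conj (α ((a⁻¹ : Fˣ) : F)) = α (a : F) := by
      have := MulChar.star_apply' α ((a⁻¹ : Fˣ) : F)
      rw [MulChar.inv_apply', Units.val_inv_eq_inv_val, inv_inv] at this
      rw [Units.val_inv_eq_inv_val]
      exact this
    by_cases ha : (a : F) ^ 2 = 1
    · rw [if_pos ha]
      simp_rw [St_bmat_eq a _ ha, Rind_bmat_eq α a _ ha]
      have hterm : ∀ c : F, conj ((if c = 0 then (Fintype.card F : ℂ) else 0) ^ k *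
          (α (a : F) + if c = 0 then (Fintype.card F : ℂ) * α (a : F) else 0)) =
          if c = 0 then (Fintype.card F : ℂ) ^ k * ((Fintype.card F : ℂ) + 1) * conj (α (a : F))
            else 0 := by
        intro c
        by_cases hc : c = 0
        · simp only [if_pos hc, map_mul, map_add, map_pow, Complex.conj_natCast]
          ring
        · simp only [if_neg hc, zero_pow hk, zero_mul, map_zero]
      simp_rw [hterm]
      rw [Finset.sum_ite_eq', if_pos (Finset.mem_univ _)]
      have e1 : α⁻¹ (a : F) = conj (α (a : F)) := hs1.symm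
      have e2 : α (a : F) = conj (α (a : F)) :=
        (mulChar_inv_of_sq α ha).symm.trans hs1.symm
      linear_combination (-(Fintype.card F : ℂ)) * e1 + (-(Fintype.card F : ℂ)) * e2
    · rw [if_neg ha, add_zero]
      simp_rw [St_bmat_ne a _ ha, Rind_bmat_ne α a _ ha, one_pow, one_mul]
      rw [Finset.sum_const, Finset.card_univ, nsmul_eq_mul, map_add, hs1, hs2]
  have h3 : ∀ a : Fˣ, β (a : F) * ∑ c : F, conj (St (bmat a c) ^ k * Rind α (bmat a c)) =
      (Fintype.card F : ℂ) * ((β * α⁻¹) (a : F) + (β * α) (a : F)) +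
        ((Fintype.card F : ℂ) ^ k * ((Fintype.card F : ℂ) + 1) - 2 * (Fintype.card F : ℂ)) *
          (if (a : F) ^ 2 = 1 then β (a : F) * conj (α (a : F)) else 0) := by
    intro a
    rw [hinner a, MulChar.mul_apply, MulChar.mul_apply]
    split_ifs <;> ring
  simp_rw [h3]
  rw [Finset.sum_add_distrib, ← Finset.mul_sum, ← Finset.mul_sum, Finset.sum_add_distrib,
    sum_units_mulChar_eq, sum_units_mulChar_eq, card_Bor]
  have e1 : (β * α⁻¹ = 1) ↔ β = α := mul_inv_eq_one
  have e2 : (β * α = 1) ↔ β = α⁻¹ := mul_eq_one_iff_eq_inv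
  simp only [e1, e2]
  change _ * (_ + ((Fintype.card F : ℂ) ^ k * ((Fintype.card F : ℂ) + 1) - 2 * (Fintype.card F : ℂ)) *
    Zsum (fun a => β a * conj (α a))) = _
  have hq : ((Fintype.card F : ℕ) : ℂ) ≠ 0 := by
    have : Fintype.card F ≠ 0 := Fintype.card_ne_zero
    exact_mod_cast this
  have hq1' : (Fintype.card F : ℂ) - 1 ≠ 0 := by
    have h1 : 2 ≤ Fintype.card F := Fintype.one_lt_card
    have : (Fintype.card F : ℂ) ≠ 1 := by
      have : Fintype.card F ≠ 1 := by omega
      exact_mod_cast this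
    exact sub_ne_zero.mpr this
  have hcast : ((Fintype.card F - 1 : ℕ) : ℂ) = (Fintype.card F : ℂ) - 1 := by
    rw [Nat.cast_sub Fintype.card_pos, Nat.cast_one]
  rw [Nat.cast_mul, hcast]
  split_ifs <;> field_simp <;> ring


/-! ### the torus side -/

variable {t : F}

/-- a linear character of the torus, as a function. -/
noncomputable def thT (θ : Tc t →* ℂˣ) : Tc t → ℂ := fun x => ((θ x : ℂˣ) : ℂ)

/-- the function induced from a linear character of the torus. -/
noncomputable def Iind (θ : Tc t →* ℂˣ) : SpecialLinearGroup (Fin 2) F → ℂ :=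
  Cfsg.indFun (Tc t) (thT θ)

theorem isIrrCharacter_thT (θ : Tc t →* ℂˣ) : Cfsg.IsIrrCharacter (Tc t) (thT θ) :=
  isIrrCharacter_of_hom θ

theorem isCharacter_Iind (θ : Tc t →* ℂˣ) :
    Cfsg.IsCharacter (SpecialLinearGroup (Fin 2) F) (Iind θ) :=
  isCharacter_indFun (Tc t) (thT θ) (IsIrrCharacter.isCharacter (isIrrCharacter_thT θ))

theorem conj_thT (θ : Tc t →* ℂˣ) (x : Tc t) : conj (thT θ x) = thT θ x⁻¹ := by
  unfold thT
  rw [map_inv, Units.val_inv_eq_inv_val]
  have hn : ‖((θ x : ℂˣ) : ℂ)‖ = 1 := by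
    have hpow : (θ x) ^ orderOf x = 1 := by rw [← map_pow, pow_orderOf_eq_one, map_one]
    apply Complex.norm_eq_one_of_pow_eq_one (n := orderOf x) _ (orderOf_pos x).ne'
    rw [← Units.val_pow_eq_pow_val, hpow, Units.val_one]
  rw [Complex.inv_eq_conj hn]

/-- `⟨I_θ, Y⟩` as a sum over the torus. -/
theorem classInner_Iind_left [Fintype (Tc t)] (θ : Tc t →* ℂˣ)
    (Y : SpecialLinearGroup (Fin 2) F → ℂ)
    (hY : Cfsg.IsClassFunction (SpecialLinearGroup (Fin 2) F) Y) :
    Cfsg.classInner (Iind θ) Y =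
      (Nat.card (Tc t) : ℂ)⁻¹ * ∑ x : Tc t, thT θ x * conj (Y (x : SpecialLinearGroup (Fin 2) F)) := by
  have hfr := frobenius_reciprocity (Tc t) (thT θ) Y hY
  exact hfr

/-- the central elements of the torus. -/
theorem central_of_mem_Tc {x : SpecialLinearGroup (Fin 2) F} (hx : x ∈ Tc t)
    (hz : (x : Matrix (Fin 2) (Fin 2) F) 1 0 = 0) :
    x ∈ Subgroup.center (SpecialLinearGroup (Fin 2) F) := by
  rw [mem_center_iff']
  exact eq_one_or_neg_one_of_mem_Tc hx hz

theorem entries_of_central {x : SpecialLinearGroup (Fin 2) F} (hx : x ∈ Tc t)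
    (hz : (x : Matrix (Fin 2) (Fin 2) F) 1 0 = 0) :
    (x : Matrix (Fin 2) (Fin 2) F) 0 1 = 0 ∧
      (x : Matrix (Fin 2) (Fin 2) F) 0 0 = (x : Matrix (Fin 2) (Fin 2) F) 1 1 := by
  obtain ⟨h01, h11⟩ := hx
  rw [hz] at h01 h11
  exact ⟨by rw [h01, neg_zero], by rw [h11, mul_zero, add_zero]⟩

theorem Rind_of_mem_Tc (ht : Ellt t) (α : MulChar F ℂ) {x : SpecialLinearGroup (Fin 2) F}
    (hx : x ∈ Tc t) :
    Rind α x = if (x : Matrix (Fin 2) (Fin 2) F) 1 0 = 0 then
      ((Fintype.card F : ℂ) + 1) * α ((x : Matrix (Fin 2) (Fin 2) F) 0 0) else 0 := by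
  by_cases hz : (x : Matrix (Fin 2) (Fin 2) F) 1 0 = 0
  · rw [if_pos hz]
    obtain ⟨h01, heq⟩ := entries_of_central hx hz
    exact Rind_scalar α h01 hz heq
  · rw [if_neg hz]
    exact Rind_ell α (isEll_of_mem_Tc ht hx hz)

theorem unit_00_of_central {x : SpecialLinearGroup (Fin 2) F} (hx : x ∈ Tc t)
    (hz : (x : Matrix (Fin 2) (Fin 2) F) 1 0 = 0) :
    (x : Matrix (Fin 2) (Fin 2) F) 0 0 * (x : Matrix (Fin 2) (Fin 2) F) 0 0 = 1 := by
  obtain ⟨h01, heq⟩ := entries_of_central hx hz
  have hd := det_eq x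
  rw [hz, mul_zero, sub_zero, ← heq] at hd
  exact hd

theorem St_of_mem_Tc (ht : Ellt t) {x : SpecialLinearGroup (Fin 2) F} (hx : x ∈ Tc t) :
    St x = if (x : Matrix (Fin 2) (Fin 2) F) 1 0 = 0 then (Fintype.card F : ℂ) else -1 := by
  rw [St_apply, Rind_of_mem_Tc ht 1 hx]
  by_cases hz : (x : Matrix (Fin 2) (Fin 2) F) 1 0 = 0
  · rw [if_pos hz, if_pos hz, MulChar.one_apply (IsUnit.of_mul_eq_one _ (unit_00_of_central hx hz))]
    ring
  · rw [if_neg hz, if_neg hz]
    ring

theorem inv_eq_self_of_central {x : Tc t}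
    (hz : ((x : SpecialLinearGroup (Fin 2) F) : Matrix (Fin 2) (Fin 2) F) 1 0 = 0) : x⁻¹ = x := by
  apply Subtype.ext
  rw [Subgroup.coe_inv]
  rcases eq_one_or_neg_one_of_mem_Tc x.2 hz with h | h
  · rw [h, inv_one]
  · rw [h]
    apply inv_eq_of_mul_eq_one_left
    exact neg_one_mul_neg_one

theorem Iind_of_mem_Tc (ht : Ellt t) (θ : Tc t →* ℂˣ) (x : Tc t) :
    Iind θ (x : SpecialLinearGroup (Fin 2) F) = thT θ x + thT θ x⁻¹ +
      (if ((x : SpecialLinearGroup (Fin 2) F) : Matrix (Fin 2) (Fin 2) F) 1 0 = 0 then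
        ((Fintype.card F : ℂ) * ((Fintype.card F : ℂ) - 1) - 2) * thT θ x else 0) := by
  by_cases hz : ((x : SpecialLinearGroup (Fin 2) F) : Matrix (Fin 2) (Fin 2) F) 1 0 = 0
  · rw [if_pos hz, inv_eq_self_of_central hz]
    unfold Iind
    rw [indT_central ht (thT θ) x.2 (central_of_mem_Tc x.2 hz)]
    ring
  · rw [if_neg hz, add_zero]
    unfold Iind
    rw [indT_apply ht (thT θ) x.2 hz]
    rfl

/-- the central sum over the torus. -/
noncomputable def ZsumT [Fintype (Tc t)] (f : Tc t → ℂ) : ℂ :=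
  ∑ x : Tc t, if ((x : SpecialLinearGroup (Fin 2) F) : Matrix (Fin 2) (Fin 2) F) 1 0 = 0 then f x else 0

/-- `⟨I_θ, St^k R(α)⟩`. -/
theorem classInner_Iind_St_pow [Fintype (Tc t)] (ht : Ellt t) (θ : Tc t →* ℂˣ) (α : MulChar F ℂ)
    (k : ℕ) :
    Cfsg.classInner (Iind θ) (fun g => St g ^ k * Rind α g) =
      (Fintype.card F : ℂ) ^ k * ZsumT (fun x => thT θ x *
        conj (α (((x : SpecialLinearGroup (Fin 2) F) : Matrix (Fin 2) (Fin 2) F) 0 0))) := by
  have hcf : Cfsg.IsClassFunction (SpecialLinearGroup (Fin 2) F) (fun g => St g ^ k * Rind α g) := by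
    intro g h
    have h1 := IsCharacter.isClassFunction (isCharacter_St (F := F)) g h
    have h2 := IsCharacter.isClassFunction (isCharacter_Rind α) g h
    simp only [h1, h2]
  rw [classInner_Iind_left θ _ hcf]
  have hterm : ∀ x : Tc t, thT θ x * conj (St (x : SpecialLinearGroup (Fin 2) F) ^ k *
      Rind α (x : SpecialLinearGroup (Fin 2) F)) =
      ((Fintype.card F : ℂ) + 1) * ((Fintype.card F : ℂ) ^ k *
        (if ((x : SpecialLinearGroup (Fin 2) F) : Matrix (Fin 2) (Fin 2) F) 1 0 = 0 then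
          thT θ x * conj (α (((x : SpecialLinearGroup (Fin 2) F) : Matrix (Fin 2) (Fin 2) F) 0 0))
          else 0)) := by
    intro x
    rw [St_of_mem_Tc ht x.2, Rind_of_mem_Tc ht α x.2]
    by_cases hz : ((x : SpecialLinearGroup (Fin 2) F) : Matrix (Fin 2) (Fin 2) F) 1 0 = 0
    · simp only [if_pos hz, map_mul, map_add, map_pow, map_one, Complex.conj_natCast]
      ring
    · simp only [if_neg hz, mul_zero, map_zero]
  simp_rw [hterm]
  rw [← Finset.mul_sum, ← Finset.mul_sum, card_Tc ht]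
  unfold ZsumT
  have hq1 : ((Fintype.card F : ℂ) + 1) ≠ 0 := by
    have : Fintype.card F + 1 ≠ 0 := by omega
    exact_mod_cast this
  push_cast
  field_simp

/-- `⟨I_θ, I_θ'⟩`. -/
theorem classInner_Iind_Iind [Fintype (Tc t)] (ht : Ellt t) (θ θ' : Tc t →* ℂˣ) :
    Cfsg.classInner (Iind θ) (Iind θ') =
      Cfsg.classInner (thT θ) (thT θ') + Cfsg.classInner (thT θ) (thT θ'⁻¹) +
        ((Fintype.card F : ℂ) - 2) * ZsumT (fun x => thT θ x * conj (thT θ' x)) := by
  rw [classInner_Iind_left θ _ (IsCharacter.isClassFunction (isCharacter_Iind θ'))]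
  have hterm : ∀ x : Tc t, thT θ x * conj (Iind θ' (x : SpecialLinearGroup (Fin 2) F)) =
      thT θ x * conj (thT θ' x) + thT θ x * conj (thT θ'⁻¹ x) +
        ((Fintype.card F : ℂ) * ((Fintype.card F : ℂ) - 1) - 2) *
        (if ((x : SpecialLinearGroup (Fin 2) F) : Matrix (Fin 2) (Fin 2) F) 1 0 = 0 then
          thT θ x * conj (thT θ' x) else 0) := by
    intro x
    rw [Iind_of_mem_Tc ht θ' x]
    have e : thT θ'⁻¹ x = thT θ' x⁻¹ := by
      unfold thT
      rw [MonoidHom.inv_apply, map_inv]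
    rw [e]
    by_cases hz : ((x : SpecialLinearGroup (Fin 2) F) : Matrix (Fin 2) (Fin 2) F) 1 0 = 0
    · simp only [if_pos hz, map_mul, map_add, map_sub, map_one, map_ofNat, Complex.conj_natCast]
      ring
    · simp only [if_neg hz, add_zero, mul_zero, map_add]
      ring
  simp_rw [hterm]
  rw [Finset.sum_add_distrib, Finset.sum_add_distrib, ← Finset.mul_sum, card_Tc ht]
  unfold Cfsg.classInner ZsumT
  rw [card_Tc ht]
  have hq1 : ((Fintype.card F : ℂ) + 1) ≠ 0 := by
    have : Fintype.card F + 1 ≠ 0 := by omega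
    exact_mod_cast this
  push_cast
  field_simp
  ring


/-! ### the cuspidal virtual characters -/

theorem tor_mem_Tc_of_sq (t : F) {a : Fˣ} (ha : (a : F) ^ 2 = 1) : tor a ∈ Tc t := by
  have hinv : ((a⁻¹ : Fˣ) : F) = (a : F) := by
    rw [Units.val_inv_eq_inv_val]
    apply inv_eq_of_mul_eq_one_left
    rw [← pow_two]; exact ha
  rw [mem_Tc, tor_01, tor_10, tor_11, tor_00, hinv]
  constructor <;> ring

/-- the central sum over the torus is the central sum over the units. -/
theorem ZsumT_eq_Zsum [Fintype (Tc t)] (f : F → ℂ) :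
    ZsumT (fun x : Tc t => f (((x : SpecialLinearGroup (Fin 2) F) : Matrix (Fin 2) (Fin 2) F) 0 0)) =
      Zsum f := by
  classical
  unfold ZsumT Zsum
  rw [← Finset.sum_filter, ← Finset.sum_filter]
  refine Finset.sum_bij'
    (fun (x : Tc t) hx => Units.mk0 (((x : SpecialLinearGroup (Fin 2) F) : Matrix (Fin 2) (Fin 2) F) 0 0)
      (by
        intro h0
        have := unit_00_of_central x.2 (Finset.mem_filter.mp hx).2
        rw [h0, mul_zero] at this
        exact zero_ne_one this))
    (fun (a : Fˣ) ha => (⟨tor a, tor_mem_Tc_of_sq t (Finset.mem_filter.mp ha).2⟩ : Tc t))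
    ?_ ?_ ?_ ?_ ?_
  · intro x hx
    rw [Finset.mem_filter]
    refine ⟨Finset.mem_univ _, ?_⟩
    rw [Units.val_mk0, pow_two]
    exact unit_00_of_central x.2 (Finset.mem_filter.mp hx).2
  · intro a ha
    rw [Finset.mem_filter]
    exact ⟨Finset.mem_univ _, tor_10 a⟩
  · intro x hx
    have hz := (Finset.mem_filter.mp hx).2
    obtain ⟨h01, heq⟩ := entries_of_central x.2 hz
    apply Subtype.ext
    apply ext'
    · rw [tor_00, Units.val_mk0]
    · rw [tor_01, h01]
    · rw [tor_10, hz]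
    · rw [tor_11, Units.val_inv_eq_inv_val, Units.val_mk0, ← heq]
      apply inv_eq_of_mul_eq_one_left
      exact unit_00_of_central x.2 hz
  · intro a ha
    apply Units.ext
    rw [Units.val_mk0]
    exact tor_00 a
  · intro x hx
    rw [Units.val_mk0]

/-- compatibility of a multiplicative character and a character of the torus on the centre. -/
def Compat (α : MulChar F ℂ) (θ : Tc t →* ℂˣ) : Prop :=
  ∀ x : Tc t, ((x : SpecialLinearGroup (Fin 2) F) : Matrix (Fin 2) (Fin 2) F) 1 0 = 0 →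
    α (((x : SpecialLinearGroup (Fin 2) F) : Matrix (Fin 2) (Fin 2) F) 0 0) = thT θ x

/-- the cuspidal virtual character. -/
noncomputable def cusp (α : MulChar F ℂ) (θ : Tc t →* ℂˣ) : SpecialLinearGroup (Fin 2) F → ℂ :=
  fun g => (St g - 1) * Rind α g - Iind θ g

theorem cusp_eq (α : MulChar F ℂ) (θ : Tc t →* ℂˣ) :
    cusp α θ = (fun g => St g ^ 1 * Rind α g) - Rind α - Iind θ := by
  funext g
  simp only [cusp, Pi.sub_apply, pow_one]
  ring

theorem classInner_St_mul_left (X Y : SpecialLinearGroup (Fin 2) F → ℂ) :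
    Cfsg.classInner (fun g => St g * X g) Y = Cfsg.classInner X (fun g => St g * Y g) := by
  unfold Cfsg.classInner
  congr 1
  apply Finset.sum_congr rfl
  intro g _
  rw [map_mul, conj_St]
  ring

theorem ZsumT_congr [Fintype (Tc t)] {f g : Tc t → ℂ}
    (h : ∀ x : Tc t, ((x : SpecialLinearGroup (Fin 2) F) : Matrix (Fin 2) (Fin 2) F) 1 0 = 0 →
      f x = g x) : ZsumT f = ZsumT g := by
  unfold ZsumT
  apply Finset.sum_congr rfl
  intro x _
  split_ifs with hz
  · exact h x hz
  · rfl

theorem conj_ZsumT [Fintype (Tc t)] (f : Tc t → ℂ) : conj (ZsumT f) = ZsumT (fun x => conj (f x)) := by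
  unfold ZsumT
  rw [map_sum]
  apply Finset.sum_congr rfl
  intro x _
  split_ifs
  · rfl
  · exact map_zero _

theorem card_ne_zero' : (Fintype.card F : ℂ) ≠ 0 := by
  have : Fintype.card F ≠ 0 := Fintype.card_ne_zero
  exact_mod_cast this

theorem card_sub_one_ne_zero' : (Fintype.card F : ℂ) - 1 ≠ 0 := by
  have h1 : 2 ≤ Fintype.card F := Fintype.one_lt_card
  have : (Fintype.card F : ℂ) ≠ 1 := by
    have : Fintype.card F ≠ 1 := by omega
    exact_mod_cast this
  exact sub_ne_zero.mpr this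

/-- the principal series functions are orthogonal to the cuspidal virtual characters. -/
theorem classInner_Rind_cusp (ht : Ellt t) (β α : MulChar F ℂ) (θ : Tc t →* ℂˣ)
    (hc : Compat α θ) : Cfsg.classInner (Rind β) (cusp α θ) = 0 := by
  classical
  haveI : Fintype (Tc t) := Fintype.ofFinite _
  rw [cusp_eq, classInner_sub_right, classInner_sub_right, classInner_Rind_St_pow β α 1 one_ne_zero,
    classInner_Rind β α]
  have h3 : Cfsg.classInner (Rind β) (Iind θ) =
      conj (ZsumT (fun x : Tc t => thT θ x *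
        conj (β (((x : SpecialLinearGroup (Fin 2) F) : Matrix (Fin 2) (Fin 2) F) 0 0)))) := by
    rw [classInner_conj_symm]
    have := classInner_Iind_St_pow ht θ β 0
    simp only [pow_zero, one_mul] at this
    rw [this]
  rw [h3, conj_ZsumT, ← ZsumT_eq_Zsum (t := t)]
  have hq := card_ne_zero' (F := F)
  have hq1 := card_sub_one_ne_zero' (F := F)
  have e : ZsumT (fun x : Tc t => conj (thT θ x *
      conj (β (((x : SpecialLinearGroup (Fin 2) F) : Matrix (Fin 2) (Fin 2) F) 0 0)))) =
      ZsumT (fun x : Tc t => β (((x : SpecialLinearGroup (Fin 2) F) : Matrix (Fin 2) (Fin 2) F) 0 0) *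
        conj (α (((x : SpecialLinearGroup (Fin 2) F) : Matrix (Fin 2) (Fin 2) F) 0 0))) := by
    apply ZsumT_congr
    intro x hz
    rw [map_mul, Complex.conj_conj, hc x hz]
    ring
  rw [e]
  field_simp
  ring

/-- the inner products of the cuspidal virtual characters. -/
theorem classInner_cusp_cusp (ht : Ellt t) (α α' : MulChar F ℂ) (θ θ' : Tc t →* ℂˣ)
    (hc : Compat α θ) (hc' : Compat α' θ') [Fintype (Tc t)] :
    Cfsg.classInner (cusp α θ) (cusp α' θ') =
      Cfsg.classInner (thT θ) (thT θ') + Cfsg.classInner (thT θ) (thT θ'⁻¹) := by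
  classical
  set P := ZsumT (fun x : Tc t => thT θ x * conj (thT θ' x)) with hP
  have hPB : Zsum (fun a => α a * conj (α' a)) = P := by
    rw [← ZsumT_eq_Zsum (t := t)]
    apply ZsumT_congr
    intro x hz
    rw [hc x hz, hc' x hz]
  have hP2 : ZsumT (fun x : Tc t => thT θ x *
      conj (α' (((x : SpecialLinearGroup (Fin 2) F) : Matrix (Fin 2) (Fin 2) F) 0 0))) = P := by
    apply ZsumT_congr
    intro x hz
    rw [hc' x hz]
  have hP1 : conj (ZsumT (fun x : Tc t => thT θ' x *
      conj (α (((x : SpecialLinearGroup (Fin 2) F) : Matrix (Fin 2) (Fin 2) F) 0 0)))) = P := by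
    rw [conj_ZsumT]
    apply ZsumT_congr
    intro x hz
    rw [map_mul, Complex.conj_conj, hc x hz]
    ring
  -- the nine inner products
  have h22 := classInner_Rind α α'
  have h21 := classInner_Rind_St_pow α α' 1 one_ne_zero
  have h12 : Cfsg.classInner (fun g => St g ^ 1 * Rind α g) (Rind α') =
      Cfsg.classInner (Rind α) (fun g => St g ^ 1 * Rind α' g) := by
    simp only [pow_one]
    exact classInner_St_mul_left _ _
  have h11 : Cfsg.classInner (fun g => St g ^ 1 * Rind α g) (fun g => St g ^ 1 * Rind α' g) =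
      Cfsg.classInner (Rind α) (fun g => St g ^ 2 * Rind α' g) := by
    simp only [pow_one]
    rw [classInner_St_mul_left]
    congr 1
    funext g
    ring
  have h11' := classInner_Rind_St_pow α α' 2 two_ne_zero
  have h31 := classInner_Iind_St_pow ht θ α' 1
  have h32 : Cfsg.classInner (Iind θ) (Rind α') = P := by
    have := classInner_Iind_St_pow ht θ α' 0
    simp only [pow_zero, one_mul] at this
    rw [this, hP2]
  have h13 : Cfsg.classInner (fun g => St g ^ 1 * Rind α g) (Iind θ') =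
      (Fintype.card F : ℂ) * P := by
    rw [classInner_conj_symm, classInner_Iind_St_pow ht θ' α 1, map_mul, hP1, map_pow,
      Complex.conj_natCast, pow_one]
  have h23 : Cfsg.classInner (Rind α) (Iind θ') = P := by
    rw [classInner_conj_symm]
    have := classInner_Iind_St_pow ht θ' α 0
    simp only [pow_zero, one_mul] at this
    rw [this, hP1]
  have h33 := classInner_Iind_Iind ht θ θ'
  rw [cusp_eq, cusp_eq]
  simp only [classInner_sub_left, classInner_sub_right]
  rw [h11, h11', h12, h21, h13, h22, h23, h31, h32, h33, hPB, hP2]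
  have hq := card_ne_zero' (F := F)
  have hq1 := card_sub_one_ne_zero' (F := F)
  field_simp
  ring

end fin

end Cfsg.Agent.Helper8.SL2C
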