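import Mathlib
import Cfsg.Agent.Helper8.SL2Cusp
import Cfsg.Agent.Helper6.NormOne

set_option autoImplicit false

/-!
The cuspidal characters of `SL₂(F)`: existence, irreducibility, values.
-/

namespace Cfsg.Agent.Helper8.SL2C

open Matrix Cfsg.Agent.Helper7.SL2 Cfsg.Agent.S2437 Cfsg.Agent.Helper6
open scoped Matrix ComplexConjugate

variable {F : Type*} [Field F]

section fin
variable [Fintype F] [DecidableEq F] {t : F}

/-- every character of the torus is compatible with some multiplicative character. -/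
theorem exists_compat (θ : Tc t →* ℂˣ) : ∃ α : MulChar F ℂ, Compat α θ := by
  classical
  set m : Tc t := ⟨-1, neg_one_mem_Tc t⟩ with hm
  have hmm : m * m = 1 := Subtype.ext neg_one_mul_neg_one
  have hθm : ((θ m : ℂˣ) : ℂ) = 1 ∨ ((θ m : ℂˣ) : ℂ) = -1 := by
    have h : (θ m) * (θ m) = 1 := by rw [← map_mul, hmm, map_one]
    have h' : ((θ m : ℂˣ) : ℂ) * ((θ m : ℂˣ) : ℂ) = 1 := by
      rw [← Units.val_mul, h, Units.val_one]
    exact mul_self_eq_one_iff.mp h'
  have hcases : ∀ x : Tc t,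
      ((x : SpecialLinearGroup (Fin 2) F) : Matrix (Fin 2) (Fin 2) F) 1 0 = 0 → x = 1 ∨ x = m := by
    intro x hz
    rcases eq_one_or_neg_one_of_mem_Tc x.2 hz with h | h
    · left; exact Subtype.ext h
    · right; exact Subtype.ext h
  rcases hθm with h1 | h1
  · refine ⟨1, ?_⟩
    intro x hz
    rw [MulChar.one_apply (IsUnit.of_mul_eq_one _ (unit_00_of_central x.2 hz))]
    rcases hcases x hz with h | h
    · rw [h]; unfold thT; rw [map_one, Units.val_one]
    · rw [h]; exact h1.symm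
  · have hne : (-1 : F) ≠ 1 := by
      intro h
      have h20 : (2 : F) = 0 := by
        have : (2 : F) = 1 - (-1) := by ring
        rw [this, h, sub_self]
      have : m = 1 := Subtype.ext (neg_one_eq_one_of_char_two h20)
      rw [this, map_one, Units.val_one] at h1
      norm_num at h1
    haveI := neZero_exponent (F := F)
    obtain ⟨α, hα⟩ := MulChar.exists_apply_ne_one_of_hasEnoughRootsOfUnity F ℂ hne
    have hα1 : α (-1) = -1 := by
      have h : α (-1) * α (-1) = 1 := by
        rw [← map_mul, neg_mul_neg, one_mul, map_one]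
      rcases mul_self_eq_one_iff.mp h with h | h
      · exact absurd h hα
      · exact h
    refine ⟨α, ?_⟩
    intro x hz
    rcases hcases x hz with h | h
    · rw [h]
      unfold thT
      rw [map_one, Units.val_one]
      change α (((1 : SpecialLinearGroup (Fin 2) F) : Matrix (Fin 2) (Fin 2) F) 0 0) = 1
      rw [one_00, map_one]
    · rw [h]
      change α (((-1 : SpecialLinearGroup (Fin 2) F) : Matrix (Fin 2) (Fin 2) F) 0 0) = _
      rw [SL2C.neg_apply, one_00, hα1]
      exact h1.symm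

/-- a chosen compatible multiplicative character. -/
noncomputable def alphaOf (θ : Tc t →* ℂˣ) : MulChar F ℂ := Classical.choose (exists_compat θ)

theorem compat_alphaOf (θ : Tc t →* ℂˣ) : Compat (alphaOf θ) θ := Classical.choose_spec (exists_compat θ)

/-- the cuspidal virtual character attached to a character of the torus. -/
noncomputable def cuspOf (θ : Tc t →* ℂˣ) : SpecialLinearGroup (Fin 2) F → ℂ := cusp (alphaOf θ) θ

theorem isGeneralizedCharacter_cusp (α : MulChar F ℂ) (θ : Tc t →* ℂˣ) :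
    Cfsg.IsGeneralizedCharacter (SpecialLinearGroup (Fin 2) F) (cusp α θ) := by
  refine ⟨St * Rind α, Rind α + Iind θ, IsCharacter.mul isCharacter_St (isCharacter_Rind α),
    IsCharacter.add (isCharacter_Rind α) (isCharacter_Iind θ), ?_⟩
  funext g
  simp only [cusp, Pi.sub_apply, Pi.mul_apply, Pi.add_apply]
  ring

theorem Iind_one (ht : Ellt t) (θ : Tc t →* ℂˣ) :
    Iind θ 1 = (Fintype.card F : ℂ) * ((Fintype.card F : ℂ) - 1) := by
  unfold Iind
  rw [indT_central ht (thT θ) (Subgroup.one_mem _) (Subgroup.one_mem _)]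
  have : thT θ ⟨1, Subgroup.one_mem _⟩ = 1 := by
    unfold thT
    have : (⟨1, Subgroup.one_mem _⟩ : Tc t) = 1 := rfl
    rw [this, map_one, Units.val_one]
  rw [this, mul_one]

theorem cusp_one (ht : Ellt t) (α : MulChar F ℂ) (θ : Tc t →* ℂˣ) :
    cusp α θ 1 = (Fintype.card F : ℂ) - 1 := by
  unfold cusp
  rw [St_one, Rind_one, Iind_one ht]
  ring

theorem thT_injective : Function.Injective (thT (t := t)) := by
  intro θ θ' h
  apply MonoidHom.ext
  intro x
  apply Units.ext
  exact congrFun h x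

theorem classInner_thT [Fintype (Tc t)] (θ θ' : Tc t →* ℂˣ) [Decidable (θ = θ')] :
    Cfsg.classInner (thT θ) (thT θ') = if θ = θ' then 1 else 0 := by
  classical
  rw [classInner_irr_ite (isIrrCharacter_thT θ) (isIrrCharacter_thT θ')]
  by_cases h : θ = θ'
  · rw [if_pos h, if_pos (by rw [h])]
  · rw [if_neg h, if_neg (fun h' => h (thT_injective h'))]

theorem classInner_cusp_self (ht : Ellt t) (α : MulChar F ℂ) (θ : Tc t →* ℂˣ) (hc : Compat α θ)
    [Decidable (θ = θ⁻¹)] :
    Cfsg.classInner (cusp α θ) (cusp α θ) = if θ = θ⁻¹ then 2 else 1 := by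
  classical
  haveI : Fintype (Tc t) := Fintype.ofFinite _
  rw [classInner_cusp_cusp ht α α θ θ hc hc, classInner_thT, classInner_thT, if_pos rfl]
  split_ifs <;> norm_num

/-- the cuspidal characters. -/
theorem isIrrCharacter_cusp (ht : Ellt t) (α : MulChar F ℂ) (θ : Tc t →* ℂˣ) (hc : Compat α θ)
    (hθ : θ ≠ θ⁻¹) : Cfsg.IsIrrCharacter (SpecialLinearGroup (Fin 2) F) (cusp α θ) := by
  classical
  have hn : Cfsg.classInner (cusp α θ) (cusp α θ) = 1 := by
    rw [classInner_cusp_self ht α θ hc, if_neg hθ]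
  obtain ⟨χ, hχ, h | h⟩ := exists_signed_irr_of_norm_one (isGeneralizedCharacter_cusp α θ) hn
  · rw [h]; exact hχ
  · exfalso
    have h1 := congrFun h 1
    rw [cusp_one ht, Pi.neg_apply] at h1
    obtain ⟨n, hn1, -, hnpos⟩ := IsIrrCharacter.degree_dvd_card hχ
    rw [hn1] at h1
    have hq2 : 2 ≤ Fintype.card F := Fintype.one_lt_card
    have h2 : ((Fintype.card F : ℤ) : ℂ) - 1 = -((n : ℤ) : ℂ) := by
      push_cast
      exact h1
    have h3 : (Fintype.card F : ℤ) - 1 = -(n : ℤ) := by exact_mod_cast h2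
    omega


/-! ### values -/

theorem cusp_of_mem_Tc (ht : Ellt t) (α : MulChar F ℂ) (θ : Tc t →* ℂˣ) (x : Tc t)
    (hz : ((x : SpecialLinearGroup (Fin 2) F) : Matrix (Fin 2) (Fin 2) F) 1 0 ≠ 0) :
    cusp α θ (x : SpecialLinearGroup (Fin 2) F) = -(thT θ x + thT θ x⁻¹) := by
  unfold cusp
  rw [Rind_of_mem_Tc ht α x.2, if_neg hz, Iind_of_mem_Tc ht θ x, if_neg hz]
  ring

theorem not_central_of_01 {g : SpecialLinearGroup (Fin 2) F}
    (h : (g : Matrix (Fin 2) (Fin 2) F) 0 1 ≠ 0) :
    g ∉ Subgroup.center (SpecialLinearGroup (Fin 2) F) := by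
  intro hc
  rcases mem_center_iff'.mp hc with h1 | h1
  · rw [h1, one_01] at h; exact h rfl
  · rw [h1, SL2C.neg_apply, one_01, neg_zero] at h; exact h rfl

theorem not_central_of_sq {g : SpecialLinearGroup (Fin 2) F}
    (h : (g : Matrix (Fin 2) (Fin 2) F) 0 0 ^ 2 ≠ 1) :
    g ∉ Subgroup.center (SpecialLinearGroup (Fin 2) F) := by
  intro hc
  apply h
  rcases mem_center_iff'.mp hc with h1 | h1
  · rw [h1, one_00, one_pow]
  · rw [h1, SL2C.neg_apply, one_00]; ring

/-- a cuspidal virtual character vanishes at split semisimple elements. -/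
theorem cusp_split (ht : Ellt t) (α : MulChar F ℂ) (θ : Tc t →* ℂˣ)
    {g : SpecialLinearGroup (Fin 2) F} (h01 : (g : Matrix (Fin 2) (Fin 2) F) 0 1 = 0)
    (h10 : (g : Matrix (Fin 2) (Fin 2) F) 1 0 = 0)
    (ha : (g : Matrix (Fin 2) (Fin 2) F) 0 0 ^ 2 ≠ 1) : cusp α θ g = 0 := by
  have hd := det_eq g
  rw [h01, zero_mul, sub_zero] at hd
  have hu0 : IsUnit ((g : Matrix (Fin 2) (Fin 2) F) 0 0) := IsUnit.of_mul_eq_one _ hd
  have hu1 : IsUnit ((g : Matrix (Fin 2) (Fin 2) F) 1 1) := IsUnit.of_mul_eq_one_right _ hd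
  have hSt : St g = 1 := by
    rw [St_apply, Rind_diag 1 h01 h10 ha, MulChar.one_apply hu0, MulChar.one_apply hu1]
    norm_num
  have hI : Iind θ g = 0 :=
    indT_eq_zero ht (thT θ) (not_ell_of_mem_B (mem_B.mpr h10)) (not_central_of_sq ha)
  unfold cusp
  rw [hSt, hI]
  ring

/-- the value of a cuspidal virtual character at `±` a non-trivial unipotent element. -/
theorem cusp_unip (ht : Ellt t) (α : MulChar F ℂ) (θ : Tc t →* ℂˣ)
    {g : SpecialLinearGroup (Fin 2) F} (h10 : (g : Matrix (Fin 2) (Fin 2) F) 1 0 = 0)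
    (heq : (g : Matrix (Fin 2) (Fin 2) F) 0 0 = (g : Matrix (Fin 2) (Fin 2) F) 1 1)
    (h01 : (g : Matrix (Fin 2) (Fin 2) F) 0 1 ≠ 0) :
    cusp α θ g = -α ((g : Matrix (Fin 2) (Fin 2) F) 0 0) := by
  have hd := det_eq g
  rw [h10, mul_zero, sub_zero] at hd
  have hu0 : IsUnit ((g : Matrix (Fin 2) (Fin 2) F) 0 0) := IsUnit.of_mul_eq_one _ hd
  have hSt : St g = 0 := by
    rw [St_apply, Rind_unip 1 h10 heq h01, MulChar.one_apply hu0]
    norm_num
  have hI : Iind θ g = 0 :=
    indT_eq_zero ht (thT θ) (not_ell_of_mem_B (mem_B.mpr h10)) (not_central_of_01 h01)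
  unfold cusp
  rw [hSt, hI, Rind_unip α h10 heq h01]
  ring

theorem extB_central_mul (α : MulChar F ℂ) {z : SpecialLinearGroup (Fin 2) F}
    (hz01 : (z : Matrix (Fin 2) (Fin 2) F) 0 1 = 0) (hz10 : (z : Matrix (Fin 2) (Fin 2) F) 1 0 = 0)
    (h : SpecialLinearGroup (Fin 2) F) :
    extB α (z * h) = α ((z : Matrix (Fin 2) (Fin 2) F) 0 0) * extB α h := by
  have hd := det_eq z
  rw [hz01, zero_mul, sub_zero] at hd
  have h11 : (z : Matrix (Fin 2) (Fin 2) F) 1 1 ≠ 0 := by
    intro h0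
    rw [h0, mul_zero] at hd
    exact zero_ne_one hd
  unfold extB
  rw [coe_mul_apply, coe_mul_apply, hz01, hz10, zero_mul, zero_mul, add_zero, zero_add]
  by_cases hh : (h : Matrix (Fin 2) (Fin 2) F) 1 0 = 0
  · rw [if_pos hh, if_pos (by rw [hh, mul_zero]), map_mul]
  · rw [if_neg hh, if_neg (mul_ne_zero h11 hh), mul_zero]

theorem Rind_central_mul (α : MulChar F ℂ) {z : SpecialLinearGroup (Fin 2) F}
    (hz : z ∈ Subgroup.center (SpecialLinearGroup (Fin 2) F))
    (g : SpecialLinearGroup (Fin 2) F) :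
    Rind α (z * g) = α ((z : Matrix (Fin 2) (Fin 2) F) 0 0) * Rind α g := by
  have hz01 : (z : Matrix (Fin 2) (Fin 2) F) 0 1 = 0 := by
    rcases mem_center_iff'.mp hz with h | h
    · rw [h, one_01]
    · rw [h, SL2C.neg_apply, one_01, neg_zero]
  have hz10 : (z : Matrix (Fin 2) (Fin 2) F) 1 0 = 0 := by
    rcases mem_center_iff'.mp hz with h | h
    · rw [h, one_10]
    · rw [h, SL2C.neg_apply, one_10, neg_zero]
  rw [Rind_apply, Rind_apply]
  have key : ∀ x : SpecialLinearGroup (Fin 2) F, extB α (x⁻¹ * (z * g) * x) =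
      α ((z : Matrix (Fin 2) (Fin 2) F) 0 0) * extB α (x⁻¹ * g * x) := by
    intro x
    have e : x⁻¹ * (z * g) * x = z * (x⁻¹ * g * x) := by
      rw [← mul_assoc x⁻¹ z g, Subgroup.mem_center_iff.mp hz x⁻¹]
      group
    rw [e, extB_central_mul α hz01 hz10]
  simp_rw [key]
  rw [← Finset.mul_sum]
  ring

theorem St_central_mul {z : SpecialLinearGroup (Fin 2) F}
    (hz : z ∈ Subgroup.center (SpecialLinearGroup (Fin 2) F))
    (g : SpecialLinearGroup (Fin 2) F) : St (z * g) = St g := by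
  rw [St_apply, St_apply, Rind_central_mul 1 hz]
  have hu : IsUnit ((z : Matrix (Fin 2) (Fin 2) F) 0 0) := by
    rcases mem_center_iff'.mp hz with h | h
    · rw [h, one_00]; exact isUnit_one
    · rw [h, SL2C.neg_apply, one_00]; exact isUnit_one.neg
  rw [MulChar.one_apply hu, one_mul]

theorem Iind_central_mul (θ : Tc t →* ℂˣ) (z : Tc t)
    (hz : (z : SpecialLinearGroup (Fin 2) F) ∈ Subgroup.center (SpecialLinearGroup (Fin 2) F))
    (g : SpecialLinearGroup (Fin 2) F) :
    Iind θ ((z : SpecialLinearGroup (Fin 2) F) * g) = thT θ z * Iind θ g := by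
  unfold Iind
  rw [indFun_apply, indFun_apply]
  have key : ∀ x : SpecialLinearGroup (Fin 2) F,
      Cfsg.extendByZero (Tc t) (thT θ) (x⁻¹ * ((z : SpecialLinearGroup (Fin 2) F) * g) * x) =
      thT θ z * Cfsg.extendByZero (Tc t) (thT θ) (x⁻¹ * g * x) := by
    intro x
    have e : x⁻¹ * ((z : SpecialLinearGroup (Fin 2) F) * g) * x =
        (z : SpecialLinearGroup (Fin 2) F) * (x⁻¹ * g * x) := by
      rw [← mul_assoc x⁻¹ _ g, Subgroup.mem_center_iff.mp hz x⁻¹]
      group
    rw [e]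
    by_cases hm : x⁻¹ * g * x ∈ Tc t
    · have hm' : (z : SpecialLinearGroup (Fin 2) F) * (x⁻¹ * g * x) ∈ Tc t :=
        Subgroup.mul_mem _ z.2 hm
      rw [extendByZero_mem _ _ hm, extendByZero_mem _ _ hm']
      unfold thT
      rw [← Units.val_mul, ← map_mul]
      rfl
    · have hm' : (z : SpecialLinearGroup (Fin 2) F) * (x⁻¹ * g * x) ∉ Tc t := by
        intro h
        apply hm
        have := Subgroup.mul_mem _ (Subgroup.inv_mem _ z.2) h
        rwa [inv_mul_cancel_left] at this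
      rw [extendByZero_not_mem _ _ hm, extendByZero_not_mem _ _ hm', mul_zero]
  simp_rw [key]
  rw [← Finset.mul_sum]
  ring

/-- the central character of a cuspidal virtual character. -/
theorem cusp_central_mul (α : MulChar F ℂ) (θ : Tc t →* ℂˣ) (hc : Compat α θ) (z : Tc t)
    (hz : (z : SpecialLinearGroup (Fin 2) F) ∈ Subgroup.center (SpecialLinearGroup (Fin 2) F))
    (g : SpecialLinearGroup (Fin 2) F) :
    cusp α θ ((z : SpecialLinearGroup (Fin 2) F) * g) = thT θ z * cusp α θ g := by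
  have hz10 : ((z : SpecialLinearGroup (Fin 2) F) : Matrix (Fin 2) (Fin 2) F) 1 0 = 0 := by
    rcases mem_center_iff'.mp hz with h | h
    · rw [h, one_10]
    · rw [h, SL2C.neg_apply, one_10, neg_zero]
  unfold cusp
  rw [St_central_mul hz, Rind_central_mul α hz, Iind_central_mul θ z hz, hc z hz10]
  ring

end fin

end Cfsg.Agent.Helper8.SL2C
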