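import Mathlib
import Cfsg.Agent.Helper8.SL2Cusp2

set_option autoImplicit false

/-!
The master identity for class functions of `SL₂(F)`: every irreducible character is a constituent
of a principal series function or of a cuspidal virtual character.
-/

namespace Cfsg.Agent.Helper8.SL2C

open Matrix Cfsg.Agent.Helper7.SL2 Cfsg.Agent.S2437 Cfsg.Agent.Helper6
open scoped Matrix ComplexConjugate

variable {F : Type*} [Field F]

/-- the torus is commutative. -/
@[reducible] def commGroupTc (t : F) : CommGroup (Tc t) :=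
  { (inferInstance : Group (Tc t)) with mul_comm := fun a b => Subtype.ext (Tc_comm a.2 b.2) }

section fin
variable [Fintype F] [DecidableEq F] {t : F}

theorem neZero_exponent_Tc (t : F) : NeZero ((Monoid.exponent (Tc t) : ℕ) : ℂ) :=
  ⟨by exact_mod_cast (Monoid.exponent_ne_zero_of_finite (G := Tc t))⟩

theorem natCard_hom_Tc (t : F) : Nat.card (Tc t →* ℂˣ) = Nat.card (Tc t) := by
  letI := commGroupTc t
  haveI := neZero_exponent_Tc t
  exact CommGroup.card_monoidHom_of_hasEnoughRootsOfUnity (Tc t) ℂ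

theorem finite_hom_Tc (t : F) : Finite (Tc t →* ℂˣ) := by
  apply Nat.finite_of_card_ne_zero
  rw [natCard_hom_Tc]
  exact Nat.card_pos.ne'

theorem sum_hom_Tc_eq_zero [Fintype (Tc t →* ℂˣ)] {x : Tc t} (hx : x ≠ 1) :
    ∑ θ : Tc t →* ℂˣ, thT θ x = 0 := by
  letI := commGroupTc t
  haveI := neZero_exponent_Tc t
  obtain ⟨φ, hφ⟩ := CommGroup.exists_apply_ne_one_of_hasEnoughRootsOfUnity (Tc t) ℂ hx
  have hφ' : ((φ x : ℂˣ) : ℂ) ≠ 1 := by
    intro h
    apply hφ
    exact Units.ext h
  refine eq_zero_of_mul_eq_self_left hφ' ?_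
  rw [Finset.mul_sum]
  apply Fintype.sum_bijective _ (Group.mulLeft_bijective φ)
  intro θ
  unfold thT
  rw [MonoidHom.mul_apply, Units.val_mul]

theorem sum_hom_Tc [Fintype (Tc t →* ℂˣ)] (ht : Ellt t) (x : Tc t) [Decidable (x = 1)] :
    ∑ θ : Tc t →* ℂˣ, thT θ x = if x = 1 then ((Fintype.card F : ℂ) + 1) else 0 := by
  by_cases hx : x = 1
  · rw [if_pos hx, hx]
    have : ∀ θ : Tc t →* ℂˣ, thT θ 1 = 1 := by
      intro θ
      unfold thT
      rw [map_one, Units.val_one]
    simp_rw [this]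
    rw [Finset.sum_const, Finset.card_univ, nsmul_eq_mul, mul_one, ← Nat.card_eq_fintype_card,
      natCard_hom_Tc, card_Tc ht]
    push_cast
    rfl
  · rw [if_neg hx]
    exact sum_hom_Tc_eq_zero hx

/-- the sum over `θ` of `⟨I_θ, η⟩`. -/
theorem sum_classInner_Iind [Fintype (Tc t →* ℂˣ)] (ht : Ellt t)
    (η : SpecialLinearGroup (Fin 2) F → ℂ)
    (hη : Cfsg.IsClassFunction (SpecialLinearGroup (Fin 2) F) η) :
    ∑ θ : Tc t →* ℂˣ, Cfsg.classInner (Iind θ) η = conj (η 1) := by
  classical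
  haveI : Fintype (Tc t) := Fintype.ofFinite _
  simp_rw [classInner_Iind_left _ η hη]
  rw [← Finset.mul_sum, Finset.sum_comm]
  simp_rw [← Finset.sum_mul, sum_hom_Tc ht]
  rw [Finset.sum_eq_single (1 : Tc t)]
  · rw [if_pos rfl, card_Tc ht]
    have hq1 : ((Fintype.card F : ℂ) + 1) ≠ 0 := by
      have : Fintype.card F + 1 ≠ 0 := by omega
      exact_mod_cast this
    push_cast
    rw [← mul_assoc, inv_mul_cancel₀ hq1, one_mul]
  · intro x _ hx
    rw [if_neg hx, zero_mul]
  · intro h
    exact absurd (Finset.mem_univ _) h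

theorem classInner_St_sub_one_mul_left (X Y : SpecialLinearGroup (Fin 2) F → ℂ) :
    Cfsg.classInner (fun g => (St g - 1) * X g) Y =
      Cfsg.classInner X (fun g => (St g - 1) * Y g) := by
  unfold Cfsg.classInner
  congr 1
  apply Finset.sum_congr rfl
  intro g _
  rw [map_mul, map_sub, conj_St, map_one]
  ring

theorem cusp_eq' (α : MulChar F ℂ) (θ : Tc t →* ℂˣ) :
    cusp α θ = (fun g => (St g - 1) * Rind α g) - Iind θ := rfl

/-- the sum over `c` of `conj ((St - 1) η)` at `bmat a c`. -/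
theorem sum_St_sub_one (η : SpecialLinearGroup (Fin 2) F → ℂ) (a : Fˣ) (ha : (a : F) ^ 2 ≠ 1) :
    ∑ c : F, conj ((St (bmat a c) - 1) * η (bmat a c)) = 0 := by
  apply Finset.sum_eq_zero
  intro c _
  rw [St_bmat_ne a c ha, sub_self, zero_mul, map_zero]

theorem sum_St_sub_one_one (η : SpecialLinearGroup (Fin 2) F → ℂ) :
    ∑ c : F, conj ((St (up c) - 1) * η (up c)) =
      (Fintype.card F : ℂ) * conj (η 1) - ∑ c : F, conj (η (up c)) := by
  have hterm : ∀ c : F, conj ((St (up c) - 1) * η (up c)) =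
      (if c = 0 then (Fintype.card F : ℂ) * conj (η 1) else 0) - conj (η (up c)) := by
    intro c
    rw [← bmat_one, St_bmat_eq 1 c (by rw [Units.val_one, one_pow])]
    by_cases hc : c = 0
    · rw [if_pos hc, if_pos hc, hc, bmat_one, up_zero, map_mul, map_sub, Complex.conj_natCast,
        map_one]
      ring
    · rw [if_neg hc, if_neg hc, map_mul, map_sub, map_zero, map_one]
      ring
  simp_rw [hterm]
  rw [Finset.sum_sub_distrib, Finset.sum_ite_eq', if_pos (Finset.mem_univ _)]

/-- the master identity. -/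
theorem master_identity [Fintype (MulChar F ℂ)] [Fintype (Tc t →* ℂˣ)] (ht : Ellt t)
    (η : SpecialLinearGroup (Fin 2) F → ℂ)
    (hη : Cfsg.IsClassFunction (SpecialLinearGroup (Fin 2) F) η) :
    (((Fintype.card F : ℂ) + 1) / 2) * ∑ α : MulChar F ℂ, Cfsg.classInner (Rind α) η +
      (((Fintype.card F : ℂ) - 1) / 2) * ∑ θ : Tc t →* ℂˣ, Cfsg.classInner (cuspOf θ) η =
      conj (η 1) := by
  classical
  have hcf : Cfsg.IsClassFunction (SpecialLinearGroup (Fin 2) F) (fun g => (St g - 1) * η g) := by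
    intro g h
    have h1 := IsCharacter.isClassFunction (isCharacter_St (F := F)) g h
    have h2 := hη g h
    simp only [h1, h2]
  -- the cuspidal part
  have hcusp : ∀ θ : Tc t →* ℂˣ, Cfsg.classInner (cuspOf θ) η =
      (Nat.card (Bor F) : ℂ)⁻¹ * ∑ a : Fˣ, alphaOf θ (a : F) *
        ∑ c : F, conj ((St (bmat a c) - 1) * η (bmat a c)) - Cfsg.classInner (Iind θ) η := by
    intro θ
    unfold cuspOf
    rw [cusp_eq', classInner_sub_left, classInner_St_sub_one_mul_left,
      classInner_Rind_left _ _ hcf]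
  simp_rw [hcusp]
  rw [Finset.sum_sub_distrib, sum_classInner_Iind ht η hη, ← Finset.mul_sum, Finset.sum_comm]
  simp_rw [← Finset.sum_mul]
  rw [Finset.sum_eq_single (1 : Fˣ)]
  · -- the term `a = 1`
    have h1 : ∑ θ : Tc t →* ℂˣ, alphaOf θ ((1 : Fˣ) : F) = (Fintype.card F : ℂ) + 1 := by
      simp_rw [Units.val_one, map_one]
      rw [Finset.sum_const, Finset.card_univ, nsmul_eq_mul, mul_one, ← Nat.card_eq_fintype_card,
        natCard_hom_Tc, card_Tc ht]
      push_cast
      rfl
    rw [h1]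
    simp_rw [bmat_one]
    rw [sum_St_sub_one_one, sum_classInner_Rind η hη, card_Bor]
    have hq := card_ne_zero' (F := F)
    have hq1 := card_sub_one_ne_zero' (F := F)
    have hcast : ((Fintype.card F - 1 : ℕ) : ℂ) = (Fintype.card F : ℂ) - 1 := by
      rw [Nat.cast_sub Fintype.card_pos, Nat.cast_one]
    rw [Nat.cast_mul, hcast]
    field_simp
    ring
  · intro a _ ha
    by_cases ha2 : (a : F) ^ 2 = 1
    · -- `Σ_θ α_θ(a) = Σ_θ θ(tor a) = 0`
      have hm : tor a ∈ Tc t := tor_mem_Tc_of_sq t ha2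
      have hsum : ∑ θ : Tc t →* ℂˣ, alphaOf θ (a : F) = ∑ θ : Tc t →* ℂˣ, thT θ ⟨tor a, hm⟩ := by
        apply Finset.sum_congr rfl
        intro θ _
        have := compat_alphaOf θ ⟨tor a, hm⟩ (tor_10 a)
        rw [← this]
        rfl
      rw [hsum, sum_hom_Tc_eq_zero, zero_mul]
      intro h
      apply ha
      have h00 := congrArg (fun x : Tc t =>
        ((x : SpecialLinearGroup (Fin 2) F) : Matrix (Fin 2) (Fin 2) F) 0 0) h
      simp only at h00
      apply Units.ext
      rw [Units.val_one]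
      have e : (((1 : Tc t) : SpecialLinearGroup (Fin 2) F) : Matrix (Fin 2) (Fin 2) F) 0 0 = 1 :=
        one_00
      rw [e] at h00
      exact h00
    · rw [sum_St_sub_one η a ha2, mul_zero]
  · intro h
    exact absurd (Finset.mem_univ _) h

end fin

end Cfsg.Agent.Helper8.SL2C
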