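import Mathlib
import Cfsg.Agent.Helper8.SL2Steinberg
import Cfsg.Agent.Helper6.BrauerPerm2
import Cfsg.Agent.Helper6.Degrees
import Cfsg.Agent.Helper6.SmallDegree
import Cfsg.Agent.Helper6.CycloVanish
import Cfsg.Agent.Helper6.InvolutionInvert
import Cfsg.Agent.Helper7.FiniteFieldBasics

set_option autoImplicit false

/-!
The two halves of the reducible principal series of `SL₂(F)`, `|F|` odd.
-/

namespace Cfsg.Agent.Helper8.SL2C

open Matrix Cfsg.Agent.Helper7.SL2 Cfsg.Agent.S2437 Cfsg.Agent.Helper6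
open scoped Matrix ComplexConjugate

/-- a character of norm two is the sum of two distinct irreducible characters. -/
theorem exists_add_of_norm_two {G : Type*} [Group G] [Fintype G] {ψ : G → ℂ}
    (hψ : Cfsg.IsCharacter G ψ) (hn : Cfsg.classInner ψ ψ = 2) :
    ∃ a b : G → ℂ, Cfsg.IsIrrCharacter G a ∧ Cfsg.IsIrrCharacter G b ∧ a ≠ b ∧ ψ = a + b := by
  have hne : ψ ≠ 0 := by
    intro h
    rw [h, classInner_zero_left] at hn
    norm_num at hn
  obtain ⟨χ, hχ, hm0⟩ := exists_irr_constituent hψ hne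
  obtain ⟨m, hm⟩ := classInner_char_char_nat hψ (IsIrrCharacter.isCharacter hχ)
  have hΔ := sub_isCharacter_of_constituent hψ hχ hm0
  obtain ⟨n, hnn⟩ := classInner_char_char_nat hΔ hΔ
  have hm' : Cfsg.classInner χ ψ = m := by
    rw [classInner_conj_symm, hm, Complex.conj_natCast]
  have hcalc : Cfsg.classInner (ψ - χ) (ψ - χ) = 3 - 2 * (m : ℂ) := by
    rw [classInner_sub_left, classInner_sub_right, classInner_sub_right, hn, hm, hm',
      classInner_irr_self hχ]
    ring
  rw [hnn] at hcalc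
  have hnat : n + 2 * m = 3 := by
    have : ((n + 2 * m : ℕ) : ℂ) = 3 := by
      push_cast
      linear_combination hcalc
    exact_mod_cast this
  have hm1 : m ≠ 0 := by
    intro h
    apply hm0
    rw [hm, h, Nat.cast_zero]
  have hm_eq : m = 1 := by omega
  have hn_eq : n = 1 := by omega
  rw [hn_eq, Nat.cast_one] at hnn
  have hΔirr := isIrrCharacter_of_classInner_self hΔ hnn
  refine ⟨χ, ψ - χ, hχ, hΔirr, ?_, by ring⟩
  intro h
  have h2 : ψ = χ + χ := by
    nth_rewrite 2 [h]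
    ring
  rw [h2, classInner_add_left, classInner_irr_self hχ, hm_eq] at hm
  norm_num at hm

variable {F : Type*} [Field F]

/-- conjugation by `diag(ν, 1)`. -/
def dconjFun (ν : Fˣ) (g : SpecialLinearGroup (Fin 2) F) : SpecialLinearGroup (Fin 2) F :=
  mk' ((g : Matrix (Fin 2) (Fin 2) F) 0 0) ((ν : F) * (g : Matrix (Fin 2) (Fin 2) F) 0 1)
    (((ν⁻¹ : Fˣ) : F) * (g : Matrix (Fin 2) (Fin 2) F) 1 0) ((g : Matrix (Fin 2) (Fin 2) F) 1 1) (by
      have h : (ν : F) * ((ν⁻¹ : Fˣ) : F) = 1 := by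
        rw [← Units.val_mul, mul_inv_cancel, Units.val_one]
      have hd := det_eq g
      linear_combination hd - (g : Matrix (Fin 2) (Fin 2) F) 0 1 * (g : Matrix (Fin 2) (Fin 2) F) 1 0 * h)

theorem dconjFun_mul (ν : Fˣ) (g h : SpecialLinearGroup (Fin 2) F) :
    dconjFun ν (g * h) = dconjFun ν g * dconjFun ν h := by
  have hν : (ν : F) * ((ν⁻¹ : Fˣ) : F) = 1 := by
    rw [← Units.val_mul, mul_inv_cancel, Units.val_one]
  apply ext' <;> simp only [dconjFun, coe_mul_apply, mk'_00, mk'_01, mk'_10, mk'_11]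
  · linear_combination (-(g : Matrix (Fin 2) (Fin 2) F) 0 1 * (h : Matrix (Fin 2) (Fin 2) F) 1 0) * hν
  · ring
  · ring
  · linear_combination (-(g : Matrix (Fin 2) (Fin 2) F) 1 0 * (h : Matrix (Fin 2) (Fin 2) F) 0 1) * hν

theorem dconjFun_inv (ν : Fˣ) (g : SpecialLinearGroup (Fin 2) F) :
    dconjFun ν⁻¹ (dconjFun ν g) = g := by
  have hν : (ν : F) * ((ν⁻¹ : Fˣ) : F) = 1 := by
    rw [← Units.val_mul, mul_inv_cancel, Units.val_one]
  apply ext' <;> simp only [dconjFun, mk'_00, mk'_01, mk'_10, mk'_11, inv_inv]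
  · linear_combination ((g : Matrix (Fin 2) (Fin 2) F) 0 1) * hν
  · linear_combination ((g : Matrix (Fin 2) (Fin 2) F) 1 0) * hν

/-- conjugation by `diag(ν, 1)`, as an automorphism. -/
def dconj (ν : Fˣ) : SpecialLinearGroup (Fin 2) F ≃* SpecialLinearGroup (Fin 2) F where
  toFun := dconjFun ν
  invFun := dconjFun ν⁻¹
  left_inv := dconjFun_inv ν
  right_inv g := by
    have := dconjFun_inv ν⁻¹ g
    rwa [inv_inv] at this
  map_mul' := dconjFun_mul ν

theorem dconj_00 (ν : Fˣ) (g : SpecialLinearGroup (Fin 2) F) :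
    (dconj ν g : Matrix (Fin 2) (Fin 2) F) 0 0 = (g : Matrix (Fin 2) (Fin 2) F) 0 0 := rfl
theorem dconj_01 (ν : Fˣ) (g : SpecialLinearGroup (Fin 2) F) :
    (dconj ν g : Matrix (Fin 2) (Fin 2) F) 0 1 = (ν : F) * (g : Matrix (Fin 2) (Fin 2) F) 0 1 := rfl
theorem dconj_10 (ν : Fˣ) (g : SpecialLinearGroup (Fin 2) F) :
    (dconj ν g : Matrix (Fin 2) (Fin 2) F) 1 0 =
      ((ν⁻¹ : Fˣ) : F) * (g : Matrix (Fin 2) (Fin 2) F) 1 0 := rfl
theorem dconj_11 (ν : Fˣ) (g : SpecialLinearGroup (Fin 2) F) :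
    (dconj ν g : Matrix (Fin 2) (Fin 2) F) 1 1 = (g : Matrix (Fin 2) (Fin 2) F) 1 1 := rfl

theorem dconj_up (ν : Fˣ) (x : F) : dconj ν (up x) = up ((ν : F) * x) := by
  apply ext'
  · rw [dconj_00, up_00, up_00]
  · rw [dconj_01, up_01, up_01]
  · rw [dconj_10, up_10, up_10, mul_zero]
  · rw [dconj_11, up_11, up_11]

theorem extB_dconj (α : MulChar F ℂ) (ν : Fˣ) (g : SpecialLinearGroup (Fin 2) F) :
    extB α (dconj ν g) = extB α g := by
  unfold extB
  by_cases h : (g : Matrix (Fin 2) (Fin 2) F) 1 0 = 0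
  · rw [if_pos h, if_pos (by rw [dconj_10, h, mul_zero]), dconj_00]
  · rw [if_neg h, if_neg]
    rw [dconj_10]
    intro h'
    rcases mul_eq_zero.mp h' with h'' | h''
    · exact absurd h'' (Units.ne_zero _)
    · exact h h''

theorem Rind_dconj [Fintype F] [DecidableEq F] (α : MulChar F ℂ) (ν : Fˣ)
    (g : SpecialLinearGroup (Fin 2) F) : Rind α (dconj ν g) = Rind α g := by
  rw [Rind_apply, Rind_apply]
  congr 1
  symm
  apply Fintype.sum_equiv (dconj ν).toEquiv
  intro z
  change _ = extB α ((dconj ν z)⁻¹ * dconj ν g * dconj ν z)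
  rw [← map_inv, ← map_mul, ← map_mul, extB_dconj]


theorem up_const_of_dconj_inv [Fintype F] {χ : SpecialLinearGroup (Fin 2) F → ℂ}
    (hcf : Cfsg.IsClassFunction (SpecialLinearGroup (Fin 2) F) χ) {ν : Fˣ} (hν : ¬ IsSquare (ν : F))
    (hinv : ∀ g, χ (dconj ν g) = χ g) {x y : F} (hx : x ≠ 0) (hy : y ≠ 0) :
    χ (up x) = χ (up y) := by
  by_cases hr : IsSquare (y / x)
  · obtain ⟨s, hs⟩ := hr
    have hs0 : s ≠ 0 := by
      intro h
      rw [h, mul_zero] at hs
      exact (div_ne_zero hy hx) hs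
    have e : up y = tor (Units.mk0 s hs0) * up x * (tor (Units.mk0 s hs0))⁻¹ := by
      rw [tor_conj_up]
      congr 1
      rw [Units.val_mk0]
      field_simp at hs
      linear_combination hs
    rw [e, hcf]
  · have hsq := sq_mul_of_not (div_ne_zero hy hx) hr hν
    obtain ⟨s, hs⟩ := hsq
    have hν0 : (ν : F) ≠ 0 := Units.ne_zero ν
    have hs0 : s ≠ 0 := by
      intro h
      rw [h, mul_zero] at hs
      exact (mul_ne_zero (div_ne_zero hy hx) hν0) hs
    have ht0 : s / (ν : F) ≠ 0 := div_ne_zero hs0 hν0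
    have e : up y = dconj ν (tor (Units.mk0 _ ht0) * up x * (tor (Units.mk0 _ ht0))⁻¹) := by
      rw [tor_conj_up, dconj_up]
      congr 1
      rw [Units.val_mk0]
      field_simp at hs ⊢
      linear_combination hs
    rw [e, hinv, hcf]

section fin
variable [Fintype F] [DecidableEq F]

theorem degree_of_up_const [Fintype (MulChar F ℂ)] {χ : SpecialLinearGroup (Fin 2) F → ℂ}
    (hχ : Cfsg.IsIrrCharacter (SpecialLinearGroup (Fin 2) F) χ) {c : ℂ}
    (hc : ∀ x : F, x ≠ 0 → χ (up x) = c)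
    (hsum : ∑ β : MulChar F ℂ, Cfsg.classInner (Rind β) χ = 1)
    {n : ℕ} (hn : χ 1 = n) (hn1 : 1 ≤ n) (hnq : n ≤ Fintype.card F) :
    n = 1 ∨ n = Fintype.card F := by
  classical
  have hq2 : 2 ≤ Fintype.card F := Fintype.one_lt_card
  have hs := sum_classInner_Rind χ (IsCharacter.isClassFunction (IsIrrCharacter.isCharacter hχ))
  rw [hsum] at hs
  have hU : ∑ x : F, conj (χ (up x)) = (n : ℂ) + ((Fintype.card F - 1 : ℕ) : ℂ) * conj c := by
    rw [← Finset.add_sum_erase Finset.univ _ (Finset.mem_univ (0 : F)), up_zero, hn,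
      Complex.conj_natCast]
    congr 1
    rw [Finset.sum_congr rfl (fun x hx => by rw [hc x (Finset.ne_of_mem_erase hx)]),
      Finset.sum_const, Finset.card_erase_of_mem (Finset.mem_univ _), Finset.card_univ,
      nsmul_eq_mul]
  rw [hU] at hs
  have hq : ((Fintype.card F : ℕ) : ℂ) ≠ 0 := by
    have : Fintype.card F ≠ 0 := Fintype.card_ne_zero
    exact_mod_cast this
  have h1 : (Fintype.card F : ℂ) = (n : ℂ) + ((Fintype.card F - 1 : ℕ) : ℂ) * conj c := by
    field_simp at hs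
    exact hs
  have h2 : (((Fintype.card F : ℤ) - n : ℤ) : ℂ) = ((Fintype.card F - 1 : ℕ) : ℂ) * c := by
    have := congrArg conj h1
    rw [map_add, map_mul, Complex.conj_conj, Complex.conj_natCast, Complex.conj_natCast,
      Complex.conj_natCast] at this
    push_cast
    linear_combination this
  have hint : IsIntegral ℤ c := by
    rw [← hc 1 one_ne_zero]
    exact IsIrrCharacter.isIntegral_apply hχ _
  have hdvd := int_dvd_of_isIntegral _ (Fintype.card F - 1) (by omega) c hint h2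
  obtain ⟨k, hk⟩ := hdvd
  have hcast : ((Fintype.card F - 1 : ℕ) : ℤ) = (Fintype.card F : ℤ) - 1 := by
    rw [Nat.cast_sub (by omega)]
    rfl
  rw [hcast] at hk
  have hk0 : 0 ≤ k := by
    by_contra hneg
    push Not at hneg
    have : ((Fintype.card F : ℤ) - 1) * k < 0 := by
      apply mul_neg_of_pos_of_neg <;> omega
    omega
  have hk1 : k ≤ 1 := by
    by_contra hgt
    push Not at hgt
    have : ((Fintype.card F : ℤ) - 1) * 2 ≤ ((Fintype.card F : ℤ) - 1) * k := by
      apply mul_le_mul_of_nonneg_left <;> omega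
    omega
  have hk01 : k = 0 ∨ k = 1 := by omega
  rcases hk01 with h | h
  · right
    rw [h, mul_zero] at hk
    omega
  · left
    rw [h, mul_one] at hk
    omega

/-- the two halves of the reducible principal series. -/
theorem exists_halves (hodd : Odd (Fintype.card F)) (α : MulChar F ℂ) (hα : α ^ 2 = 1)
    (hα1 : α ≠ 1) :
    ∃ χ₁ χ₂ : SpecialLinearGroup (Fin 2) F → ℂ,
      Cfsg.IsIrrCharacter (SpecialLinearGroup (Fin 2) F) χ₁ ∧
      Cfsg.IsIrrCharacter (SpecialLinearGroup (Fin 2) F) χ₂ ∧ χ₁ ≠ χ₂ ∧ Rind α = χ₁ + χ₂ ∧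
      ∃ ν : Fˣ, ∀ g, χ₂ (dconj ν g) = χ₁ g := by
  classical
  haveI : Fintype (MulChar F ℂ) := Fintype.ofFinite _
  have hq2 : 2 ≤ Fintype.card F := Fintype.one_lt_card
  have h2 : (2 : F) ≠ 0 := Cfsg.Agent.Helper7.two_ne_zero_of_odd_card hodd
  obtain ⟨χ₁, χ₂, h1, h2', hne, hR⟩ := exists_add_of_norm_two (isCharacter_Rind α)
    (by rw [classInner_Rind_self, if_pos hα])
  obtain ⟨e, he⟩ := exists_nonsq (F := F) h2
  have he0 : e ≠ 0 := by
    intro h
    apply he
    rw [h]
    exact ⟨0, (mul_zero 0).symm⟩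
  set ν : Fˣ := Units.mk0 e he0 with hν
  have hνns : ¬ IsSquare (ν : F) := he
  refine ⟨χ₁, χ₂, h1, h2', hne, hR, ν, ?_⟩
  have hφ1 : Cfsg.IsIrrCharacter (SpecialLinearGroup (Fin 2) F) (χ₁ ∘ dconj ν) :=
    IsIrrCharacter.comp_mulEquiv (dconj ν) h1
  have hφ2 : Cfsg.IsIrrCharacter (SpecialLinearGroup (Fin 2) F) (χ₂ ∘ dconj ν) :=
    IsIrrCharacter.comp_mulEquiv (dconj ν) h2'
  have hsumφ : χ₁ ∘ dconj ν + χ₂ ∘ dconj ν = χ₁ + χ₂ := by
    funext g
    have := Rind_dconj α ν g
    rw [hR] at this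
    exact this
  have hneφ : χ₁ ∘ dconj ν ≠ χ₂ ∘ dconj ν := by
    intro h
    apply hne
    funext g
    have := congrFun h ((dconj ν).symm g)
    simpa using this
  have hin : Cfsg.classInner (χ₁ ∘ dconj ν) χ₁ + Cfsg.classInner (χ₁ ∘ dconj ν) χ₂ = 1 := by
    rw [← classInner_add_right, ← hsumφ, classInner_add_right, classInner_irr_self hφ1,
      classInner_irr_ne hφ1 hφ2 hneφ, add_zero]
  by_cases hcase : χ₁ ∘ dconj ν = χ₁
  · -- the bad case
    exfalso
    have hcase2 : χ₂ ∘ dconj ν = χ₂ := by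
      have := hsumφ
      rw [hcase] at this
      exact add_left_cancel this
    have hsum : ∀ χ : SpecialLinearGroup (Fin 2) F → ℂ,
        Cfsg.IsIrrCharacter (SpecialLinearGroup (Fin 2) F) χ → Cfsg.classInner (Rind α) χ = 1 →
        (∀ β : MulChar F ℂ, β ≠ α → Cfsg.classInner (Rind β) χ = 0) →
        ∑ β : MulChar F ℂ, Cfsg.classInner (Rind β) χ = 1 := by
      intro χ _ hα' hβ
      rw [Finset.sum_eq_single α (fun β _ hb => hβ β hb)
        (fun h => absurd (Finset.mem_univ _) h), hα']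
    have hαinv : α⁻¹ = α := by
      rw [inv_eq_iff_mul_eq_one, ← pow_two, hα]
    have hβ0 : ∀ β : MulChar F ℂ, β ≠ α →
        Cfsg.classInner (Rind β) χ₁ = 0 ∧ Cfsg.classInner (Rind β) χ₂ = 0 := by
      intro β hβ
      have h0 : Cfsg.classInner (Rind β) (Rind α) = 0 := by
        rw [classInner_Rind, hαinv, if_neg hβ, add_zero]
      rw [hR, classInner_add_right] at h0
      obtain ⟨a, ha⟩ := classInner_char_char_nat (isCharacter_Rind β) (IsIrrCharacter.isCharacter h1)
      obtain ⟨b, hb⟩ := classInner_char_char_nat (isCharacter_Rind β) (IsIrrCharacter.isCharacter h2')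
      rw [ha, hb] at h0 ⊢
      have : a + b = 0 := by exact_mod_cast h0
      have ha0 : a = 0 := by omega
      have hb0 : b = 0 := by omega
      rw [ha0, hb0]
      exact ⟨Nat.cast_zero, Nat.cast_zero⟩
    have hα1' : Cfsg.classInner (Rind α) χ₁ = 1 := by
      rw [hR, classInner_add_left, classInner_irr_self h1,
        classInner_irr_ne h2' h1 (fun h => hne h.symm), add_zero]
    have hα2' : Cfsg.classInner (Rind α) χ₂ = 1 := by
      rw [hR, classInner_add_left, classInner_irr_self h2', classInner_irr_ne h1 h2' hne, zero_add]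
    have hs1 := hsum χ₁ h1 hα1' (fun β hβ => (hβ0 β hβ).1)
    have hs2 := hsum χ₂ h2' hα2' (fun β hβ => (hβ0 β hβ).2)
    obtain ⟨n₁, hn₁, -, hn₁pos⟩ := IsIrrCharacter.degree_dvd_card h1
    obtain ⟨n₂, hn₂, -, hn₂pos⟩ := IsIrrCharacter.degree_dvd_card h2'
    have hdeg : n₁ + n₂ = Fintype.card F + 1 := by
      have := congrFun hR 1
      rw [Rind_one, Pi.add_apply, hn₁, hn₂] at this
      exact_mod_cast this.symm
    have hc1 : ∀ x : F, x ≠ 0 → χ₁ (up x) = χ₁ (up 1) := fun x hx =>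
      up_const_of_dconj_inv (IsCharacter.isClassFunction (IsIrrCharacter.isCharacter h1)) hνns
        (fun g => congrFun hcase g) hx one_ne_zero
    have hc2 : ∀ x : F, x ≠ 0 → χ₂ (up x) = χ₂ (up 1) := fun x hx =>
      up_const_of_dconj_inv (IsCharacter.isClassFunction (IsIrrCharacter.isCharacter h2')) hνns
        (fun g => congrFun hcase2 g) hx one_ne_zero
    have hd1 := degree_of_up_const h1 hc1 hs1 hn₁ hn₁pos (by omega)
    have hd2 := degree_of_up_const h2' hc2 hs2 hn₂ hn₂pos (by omega)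
    have hSt0 : Cfsg.classInner (Rind α) (St (F := F)) = 0 := by
      unfold St
      rw [classInner_sub_right, classInner_Rind, classInner_Rind_triv, if_neg hα1, inv_one,
        if_neg hα1]
      ring
    have hq : n₁ = Fintype.card F ∨ n₂ = Fintype.card F := by
      rcases hd1 with h | h
      · right; omega
      · left; exact h
    rcases hq with h | h
    · have := eq_St_of_degree h1 (by rw [hn₁, h])
      rw [this, hSt0] at hα1'
      exact zero_ne_one hα1'
    · have := eq_St_of_degree h2' (by rw [hn₂, h])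
      rw [this, hSt0] at hα2'
      exact zero_ne_one hα2'
  · have h12 : χ₁ ∘ dconj ν = χ₂ := by
      by_contra hcase'
      rw [classInner_irr_ne hφ1 h1 hcase, classInner_irr_ne hφ1 h2' hcase', add_zero] at hin
      exact zero_ne_one hin
    have h21 : χ₂ ∘ dconj ν = χ₁ := by
      have := hsumφ
      rw [h12, add_comm] at this
      exact add_right_cancel this
    intro g
    exact congrFun h21 g

end fin

end Cfsg.Agent.Helper8.SL2C
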