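import Mathlib
import Cfsg.Agent.Helper8.SL2Complete
import Cfsg.Agent.Helper8.SL2Half
import Cfsg.Agent.Helper6.Brauer8

set_option autoImplicit false

/-!
Classification of the irreducible characters of `SL₂(F)`.
-/

namespace Cfsg.Agent.Helper8.SL2C

open Matrix Cfsg.Agent.Helper7.SL2 Cfsg.Agent.S2437 Cfsg.Agent.Helper6
open scoped Matrix ComplexConjugate

/-- a generalized character of norm two is `η₁ + η₂`, `η₁ - η₂` or `-(η₁ + η₂)`. -/
theorem exists_signed_pair_of_norm_two {G : Type*} [Group G] [Fintype G] {ψ : G → ℂ}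
    (hψ : Cfsg.IsGeneralizedCharacter G ψ) (hn : Cfsg.classInner ψ ψ = 2) :
    ∃ η₁ η₂ : G → ℂ, Cfsg.IsIrrCharacter G η₁ ∧ Cfsg.IsIrrCharacter G η₂ ∧ η₁ ≠ η₂ ∧
      (ψ = η₁ + η₂ ∨ ψ = η₁ - η₂ ∨ ψ = -(η₁ + η₂)) := by
  have hne : ψ ≠ 0 := by
    intro h
    rw [h, classInner_zero_left] at hn
    norm_num at hn
  obtain ⟨χ, hχ, hm0⟩ : ∃ χ : G → ℂ, Cfsg.IsIrrCharacter G χ ∧ Cfsg.classInner ψ χ ≠ 0 := by
    by_contra hcon
    push Not at hcon
    exact hne (eq_zero_of_classInner_irr_eq_zero ψ (IsGeneralizedCharacter.isClassFunction hψ) hcon)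
  obtain ⟨m, hm⟩ := IsGeneralizedCharacter.classInner_irr_int hψ hχ
  have hm' : Cfsg.classInner χ ψ = m := by
    rw [classInner_conj_symm, hm, map_intCast]
  have hm1 : m ≠ 0 := by
    intro h
    apply hm0
    rw [hm, h, Int.cast_zero]
  -- the norm of `ψ - m χ`
  have hcalc : Cfsg.classInner (ψ - (m : ℂ) • χ) (ψ - (m : ℂ) • χ) = 2 - (m : ℂ) ^ 2 := by
    rw [classInner_sub_left, classInner_sub_right, classInner_sub_right, classInner_smul_left,
      classInner_smul_left, classInner_smul_right, classInner_smul_right, hn, hm, hm',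
      classInner_irr_self hχ, map_intCast]
    ring
  have hnonneg : (0 : ℝ) ≤ 2 - (m : ℝ) ^ 2 := by
    have h1 := classInner_self_eq (ψ - (m : ℂ) • χ)
    rw [hcalc] at h1
    have h2 : ((2 - (m : ℝ) ^ 2 : ℝ) : ℂ) = ((Nat.card G : ℝ)⁻¹ *
        (∑ g : G, ‖(ψ - (m : ℂ) • χ) g‖ ^ 2 : ℝ) : ℝ) := by
      have e1 : ((2 - (m : ℝ) ^ 2 : ℝ) : ℂ) = 2 - (m : ℂ) ^ 2 := by push_cast; rfl
      rw [e1, h1]
      push_cast
      rfl
    have h3 : (2 - (m : ℝ) ^ 2 : ℝ) = (Nat.card G : ℝ)⁻¹ *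
        (∑ g : G, ‖(ψ - (m : ℂ) • χ) g‖ ^ 2 : ℝ) := by exact_mod_cast h2
    rw [h3]
    apply mul_nonneg
    · exact inv_nonneg.mpr (Nat.cast_nonneg _)
    · exact Finset.sum_nonneg (fun g _ => sq_nonneg _)
  have hm2 : m ^ 2 ≤ 2 := by
    have : ((m ^ 2 : ℤ) : ℝ) ≤ 2 := by
      push_cast
      linarith
    exact_mod_cast this
  have hm_cases : m = 1 ∨ m = -1 := by
    have h1 : -1 ≤ m := by nlinarith
    have h2 : m ≤ 1 := by nlinarith
    omega
  have hχgc := IsGeneralizedCharacter.of_isCharacter (IsIrrCharacter.isCharacter hχ)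
  rcases hm_cases with h | h
  · -- `m = 1`
    rw [h] at hcalc hm
    simp only [Int.cast_one, one_smul, one_pow] at hcalc hm
    have hn1 : Cfsg.classInner (ψ - χ) (ψ - χ) = 1 := by rw [hcalc]; norm_num
    have hgc : Cfsg.IsGeneralizedCharacter G (ψ - χ) := by
      rw [sub_eq_add_neg]
      exact IsGeneralizedCharacter.add hψ (IsGeneralizedCharacter.neg hχgc)
    obtain ⟨χ', hχ', hs⟩ := exists_signed_irr_of_norm_one hgc hn1
    have horth : Cfsg.classInner (ψ - χ) χ = 0 := by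
      rw [classInner_sub_left, hm, classInner_irr_self hχ, sub_self]
    have hne' : χ ≠ χ' := by
      intro he
      rcases hs with hs | hs
      · rw [hs, ← he, classInner_irr_self hχ] at horth
        exact one_ne_zero horth
      · rw [hs, ← he, classInner_neg_left, classInner_irr_self hχ] at horth
        norm_num at horth
    refine ⟨χ, χ', hχ, hχ', hne', ?_⟩
    rcases hs with hs | hs
    · left
      rw [← hs]; ring
    · right; left
      have : ψ = χ + (ψ - χ) := by ring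
      rw [this, hs]; ring
  · -- `m = -1`
    rw [h] at hcalc hm
    simp only [Int.cast_neg, Int.cast_one, neg_smul, one_smul, sub_neg_eq_add] at hcalc hm
    have hn1 : Cfsg.classInner (ψ + χ) (ψ + χ) = 1 := by rw [hcalc]; norm_num
    have hgc : Cfsg.IsGeneralizedCharacter G (ψ + χ) := IsGeneralizedCharacter.add hψ hχgc
    obtain ⟨χ', hχ', hs⟩ := exists_signed_irr_of_norm_one hgc hn1
    have horth : Cfsg.classInner (ψ + χ) χ = 0 := by
      rw [classInner_add_left, hm, classInner_irr_self hχ]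
      ring
    have hne' : χ' ≠ χ := by
      intro he
      rcases hs with hs | hs
      · rw [hs, he, classInner_irr_self hχ] at horth
        exact one_ne_zero horth
      · rw [hs, he, classInner_neg_left, classInner_irr_self hχ] at horth
        norm_num at horth
    rcases hs with hs | hs
    · refine ⟨χ', χ, hχ', hχ, hne', Or.inr (Or.inl ?_)⟩
      rw [← hs]; ring
    · refine ⟨χ', χ, hχ', hχ, hne', Or.inr (Or.inr ?_)⟩
      have : ψ = (ψ + χ) - χ := by ring
      rw [this, hs]; ring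


variable {F : Type*} [Field F]

section fin
variable [Fintype F] [DecidableEq F] {t : F}

theorem thT_one : thT (1 : Tc t →* ℂˣ) = fun _ => (1 : ℂ) := by
  funext x
  unfold thT
  rw [MonoidHom.one_apply, Units.val_one]

theorem classInner_Iind_triv (θ : Tc t →* ℂˣ) [Decidable (θ = 1)] :
    Cfsg.classInner (Iind θ) (fun _ => (1 : ℂ)) = if θ = 1 then 1 else 0 := by
  classical
  haveI : Fintype (Tc t) := Fintype.ofFinite _
  have hcf : Cfsg.IsClassFunction (SpecialLinearGroup (Fin 2) F) (fun _ => (1 : ℂ)) := fun _ _ => rfl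
  have hfr := frobenius_reciprocity (Tc t) (thT θ) (fun _ => (1 : ℂ)) hcf
  change Cfsg.classInner (Iind θ) _ = _ at hfr
  rw [hfr, ← thT_one, classInner_thT]

theorem classInner_Rind_St (α : MulChar F ℂ) [Decidable (α = 1)] :
    Cfsg.classInner (Rind α) (St (F := F)) = if α = 1 then 1 else 0 := by
  classical
  unfold St
  rw [classInner_sub_right, classInner_Rind, classInner_Rind_triv, inv_one]
  split_ifs <;> norm_num

theorem classInner_cusp_triv (α : MulChar F ℂ) (θ : Tc t →* ℂˣ) [Decidable (θ = 1)] :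
    Cfsg.classInner (cusp α θ) (fun _ => (1 : ℂ)) = -(if θ = 1 then 1 else 0) := by
  classical
  rw [cusp_eq', classInner_sub_left, classInner_St_sub_one_mul_left, classInner_Iind_triv]
  have e : (fun g : SpecialLinearGroup (Fin 2) F => (St g - 1) * (1 : ℂ)) = St - fun _ => (1 : ℂ) := by
    funext g
    simp
  rw [e, classInner_sub_right, classInner_Rind_St, classInner_Rind_triv]
  ring

theorem classInner_cusp_St (ht : Ellt t) (α : MulChar F ℂ) (θ : Tc t →* ℂˣ) (hc : Compat α θ)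
    [Decidable (θ = 1)] :
    Cfsg.classInner (cusp α θ) (St (F := F)) = if θ = 1 then 1 else 0 := by
  classical
  have h1 : Cfsg.classInner (cusp α θ) (Rind (1 : MulChar F ℂ)) = 0 := by
    rw [classInner_conj_symm, classInner_Rind_cusp ht 1 α θ hc, map_zero]
  unfold St
  rw [classInner_sub_right, h1, classInner_cusp_triv]
  ring

theorem St_ne_triv : (St (F := F)) ≠ fun _ => (1 : ℂ) := by
  intro h
  have := congrFun h 1
  rw [St_one] at this
  have h1 : 2 ≤ Fintype.card F := Fintype.one_lt_card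
  have : Fintype.card F = 1 := by exact_mod_cast this
  omega

/-- the cuspidal virtual character attached to the trivial character of the torus. -/
theorem cusp_triv_eq (ht : Ellt t) (α : MulChar F ℂ) (hc : Compat α (1 : Tc t →* ℂˣ)) :
    cusp α (1 : Tc t →* ℂˣ) = St - fun _ => (1 : ℂ) := by
  classical
  have hSt := isIrrCharacter_St (F := F)
  have htr := isIrrCharacter_triv (G := SpecialLinearGroup (Fin 2) F)
  have h1 := classInner_cusp_St ht α 1 hc
  have h2 := classInner_cusp_triv α (1 : Tc t →* ℂˣ)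
  rw [if_pos rfl] at h1 h2
  have h3 : Cfsg.classInner (cusp α (1 : Tc t →* ℂˣ)) (cusp α (1 : Tc t →* ℂˣ)) = 2 := by
    rw [classInner_cusp_self ht α 1 hc, if_pos]
    exact MonoidHom.ext fun x => by simp
  have h1' : Cfsg.classInner (St (F := F)) (cusp α (1 : Tc t →* ℂˣ)) = 1 := by
    rw [classInner_conj_symm, h1, map_one]
  have h2' : Cfsg.classInner (fun _ => (1 : ℂ)) (cusp α (1 : Tc t →* ℂˣ)) = -1 := by
    rw [classInner_conj_symm, h2, map_neg, map_one]
  have hD : Cfsg.classInner (cusp α (1 : Tc t →* ℂˣ) - (St - fun _ => (1 : ℂ)))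
      (cusp α (1 : Tc t →* ℂˣ) - (St - fun _ => (1 : ℂ))) = 0 := by
    simp only [classInner_sub_left, classInner_sub_right]
    rw [h1, h2, h3, h1', h2', classInner_irr_self hSt, classInner_irr_self htr,
      classInner_irr_ne hSt htr St_ne_triv, classInner_irr_ne htr hSt (fun h => St_ne_triv h.symm)]
    ring
  have := classInner_self_eq_zero hD
  exact sub_eq_zero.mp this

/-- characters of order two of the torus coincide. -/
theorem hom_eq_of_order_two (ht : Ellt t) {θ θ' : Tc t →* ℂˣ} (h : θ = θ⁻¹) (h' : θ' = θ'⁻¹)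
    (hθ : θ ≠ 1) (hθ' : θ' ≠ 1) : θ = θ' := by
  haveI := isCyclic_Tc (F := F) (ellt_sq_ne ht)
  obtain ⟨g, hg⟩ := IsCyclic.exists_generator (α := Tc t)
  have hval : ∀ φ : Tc t →* ℂˣ, φ = φ⁻¹ → φ ≠ 1 → φ g = -1 := by
    intro φ hφ hφ1
    have hsq : φ g * φ g = 1 := by
      have := congrArg (fun ψ : Tc t →* ℂˣ => ψ g) hφ
      simp only [MonoidHom.inv_apply] at this
      rw [mul_eq_one_iff_eq_inv]
      exact this
    have hsq' : ((φ g : ℂˣ) : ℂ) * ((φ g : ℂˣ) : ℂ) = 1 := by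
      rw [← Units.val_mul, hsq, Units.val_one]
    rcases mul_self_eq_one_iff.mp hsq' with h1 | h1
    · exfalso
      apply hφ1
      apply MonoidHom.ext
      intro x
      obtain ⟨k, rfl⟩ := Subgroup.mem_zpowers_iff.mp (hg x)
      have : φ g = 1 := Units.ext h1
      rw [map_zpow, this, _root_.one_zpow, MonoidHom.one_apply]
    · apply Units.ext
      rw [h1]
      rfl
  apply MonoidHom.ext
  intro x
  obtain ⟨k, rfl⟩ := Subgroup.mem_zpowers_iff.mp (hg x)
  rw [map_zpow, map_zpow, hval θ h hθ, hval θ' h' hθ']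

/-- the constituents of the principal series functions. -/
theorem ps_constituent_cases {η : SpecialLinearGroup (Fin 2) F → ℂ}
    (hη : Cfsg.IsIrrCharacter (SpecialLinearGroup (Fin 2) F) η) {α : MulChar F ℂ}
    (h : Cfsg.classInner (Rind α) η ≠ 0) :
    η = (fun _ => (1 : ℂ)) ∨ η = St ∨ (α ^ 2 ≠ 1 ∧ η = Rind α) ∨ (α ^ 2 = 1 ∧ α ≠ 1) := by
  classical
  by_cases h2 : α ^ 2 = 1
  · by_cases h1 : α = 1
    · subst h1
      have hR : Rind (1 : MulChar F ℂ) = (fun _ => (1 : ℂ)) + St := by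
        unfold St
        ring
      rw [hR, classInner_add_left] at h
      by_cases ht : η = fun _ => (1 : ℂ)
      · left; exact ht
      · right; left
        by_contra hs
        rw [classInner_irr_ne isIrrCharacter_triv hη (fun h' => ht h'.symm),
          classInner_irr_ne isIrrCharacter_St hη (fun h' => hs h'.symm), add_zero] at h
        exact h rfl
    · right; right; right
      exact ⟨h2, h1⟩
  · right; right; left
    refine ⟨h2, ?_⟩
    have hirr := (isIrrCharacter_Rind_iff α).mpr h2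
    by_contra hne
    exact h (classInner_irr_ne hirr hη (fun h' => hne h'.symm))

/-- the cuspidal identity. -/
theorem cuspidal_identity [Fintype (MulChar F ℂ)] [Fintype (Tc t →* ℂˣ)] (ht : Ellt t)
    {η : SpecialLinearGroup (Fin 2) F → ℂ}
    (hη : Cfsg.IsClassFunction (SpecialLinearGroup (Fin 2) F) η)
    (h0 : ∀ β : MulChar F ℂ, Cfsg.classInner (Rind β) η = 0) :
    (((Fintype.card F : ℂ) - 1) / 2) * ∑ θ : Tc t →* ℂˣ, Cfsg.classInner (cuspOf θ) η =
      conj (η 1) := by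
  have h := master_identity ht η hη
  rw [Finset.sum_eq_zero (fun β _ => h0 β), mul_zero, zero_add] at h
  exact h

theorem classInner_cuspOf_ne (ht : Ellt t) {θ θ' : Tc t →* ℂˣ} (h1 : θ ≠ θ') (h2 : θ ≠ θ'⁻¹) :
    Cfsg.classInner (cuspOf θ) (cuspOf θ') = 0 := by
  classical
  haveI : Fintype (Tc t) := Fintype.ofFinite _
  unfold cuspOf
  rw [classInner_cusp_cusp ht _ _ θ θ' (compat_alphaOf θ) (compat_alphaOf θ'), classInner_thT,
    classInner_thT, if_neg h1, if_neg h2, add_zero]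

theorem cuspOf_one_eq (ht : Ellt t) : cuspOf (1 : Tc t →* ℂˣ) = St - fun _ => (1 : ℂ) :=
  cusp_triv_eq ht _ (compat_alphaOf 1)

theorem isIrrCharacter_cuspOf (ht : Ellt t) {θ : Tc t →* ℂˣ} (hθ : θ ≠ θ⁻¹) :
    Cfsg.IsIrrCharacter (SpecialLinearGroup (Fin 2) F) (cuspOf θ) :=
  isIrrCharacter_cusp ht _ θ (compat_alphaOf θ) hθ

/-- the constituents of the cuspidal virtual characters. -/
theorem cusp_constituent_cases (ht : Ellt t) {η : SpecialLinearGroup (Fin 2) F → ℂ}
    (hη : Cfsg.IsIrrCharacter (SpecialLinearGroup (Fin 2) F) η) {θ : Tc t →* ℂˣ}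
    (h : Cfsg.classInner (cuspOf θ) η ≠ 0) :
    η = (fun _ => (1 : ℂ)) ∨ η = St ∨ (θ ≠ θ⁻¹ ∧ η = cuspOf θ) ∨ (θ = θ⁻¹ ∧ θ ≠ 1) := by
  classical
  by_cases h2 : θ = θ⁻¹
  · by_cases h1 : θ = 1
    · subst h1
      rw [cuspOf_one_eq ht, classInner_sub_left] at h
      by_cases hs : η = St
      · right; left; exact hs
      · left
        by_contra ht1
        rw [classInner_irr_ne isIrrCharacter_triv hη (fun h' => ht1 h'.symm),
          classInner_irr_ne isIrrCharacter_St hη (fun h' => hs h'.symm), sub_zero] at h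
        exact h rfl
    · right; right; right
      exact ⟨h2, h1⟩
  · right; right; left
    refine ⟨h2, ?_⟩
    have hirr := isIrrCharacter_cuspOf ht h2
    by_contra hne
    exact h (classInner_irr_ne hirr hη (fun h' => hne h'.symm))

theorem classInner_cuspOf_triv (θ : Tc t →* ℂˣ) (hθ : θ ≠ 1) :
    Cfsg.classInner (cuspOf θ) (fun _ => (1 : ℂ)) = 0 := by
  classical
  unfold cuspOf
  rw [classInner_cusp_triv, if_neg hθ, neg_zero]

theorem classInner_cuspOf_St (ht : Ellt t) (θ : Tc t →* ℂˣ) (hθ : θ ≠ 1) :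
    Cfsg.classInner (cuspOf θ) (St (F := F)) = 0 := by
  classical
  unfold cuspOf
  rw [classInner_cusp_St ht _ _ (compat_alphaOf θ), if_neg hθ]

theorem classInner_Rind_cuspOf (ht : Ellt t) (β : MulChar F ℂ) (θ : Tc t →* ℂˣ) :
    Cfsg.classInner (Rind β) (cuspOf θ) = 0 :=
  classInner_Rind_cusp ht β _ θ (compat_alphaOf θ)

theorem cuspOf_one (ht : Ellt t) (θ : Tc t →* ℂˣ) : cuspOf θ 1 = (Fintype.card F : ℂ) - 1 :=
  cusp_one ht _ θ

/-- the other cuspidal virtual characters are orthogonal to a constituent of `cuspOf θ₀`,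
`θ₀` of order two. -/
theorem classInner_cuspOf_eq_zero_of_constituent (ht : Ellt t) {θ₀ : Tc t →* ℂˣ} (h2 : θ₀ = θ₀⁻¹)
    (h1 : θ₀ ≠ 1) {η : SpecialLinearGroup (Fin 2) F → ℂ}
    (hη : Cfsg.IsIrrCharacter (SpecialLinearGroup (Fin 2) F) η)
    (h : Cfsg.classInner (cuspOf θ₀) η ≠ 0) {θ : Tc t →* ℂˣ} (hθ : θ ≠ θ₀) :
    Cfsg.classInner (cuspOf θ) η = 0 := by
  by_contra hne
  rcases cusp_constituent_cases ht hη hne with h' | h' | ⟨h3, h'⟩ | ⟨h3, h4⟩
  · rw [h', classInner_cuspOf_triv θ₀ h1] at h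
    exact h rfl
  · rw [h', classInner_cuspOf_St ht θ₀ h1] at h
    exact h rfl
  · rw [h', classInner_cuspOf_ne ht (fun e => hθ e.symm)] at h
    · exact h rfl
    · intro e
      apply hθ
      apply MonoidHom.ext
      intro x
      have e1 := congrArg (fun φ : Tc t →* ℂˣ => φ x) h2
      have e2 := congrArg (fun φ : Tc t →* ℂˣ => φ x) e
      simp only [MonoidHom.inv_apply] at e1 e2
      rw [e1, e2, inv_inv]
  · exact hθ (hom_eq_of_order_two ht h3 h2 h4 h1)

theorem cast_half_sub (hodd : Odd (Fintype.card F)) :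
    (((Fintype.card F - 1) / 2 : ℕ) : ℂ) = ((Fintype.card F : ℂ) - 1) / 2 := by
  obtain ⟨k, hk⟩ := hodd
  rw [hk]
  have : (2 * k + 1 - 1) / 2 = k := by omega
  rw [this]
  push_cast
  ring

theorem cast_half_add (hodd : Odd (Fintype.card F)) :
    (((Fintype.card F + 1) / 2 : ℕ) : ℂ) = ((Fintype.card F : ℂ) + 1) / 2 := by
  obtain ⟨k, hk⟩ := hodd
  rw [hk]
  have : (2 * k + 1 + 1) / 2 = k + 1 := by omega
  rw [this]
  push_cast
  ring

/-- the two halves of the cuspidal virtual character attached to the character of order two. -/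
theorem exists_cusp_halves (hodd : Odd (Fintype.card F)) (ht : Ellt t) {θ₀ : Tc t →* ℂˣ}
    (h2 : θ₀ = θ₀⁻¹) (h1 : θ₀ ≠ 1) :
    ∃ η₁ η₂ : SpecialLinearGroup (Fin 2) F → ℂ,
      Cfsg.IsIrrCharacter (SpecialLinearGroup (Fin 2) F) η₁ ∧
      Cfsg.IsIrrCharacter (SpecialLinearGroup (Fin 2) F) η₂ ∧ η₁ ≠ η₂ ∧ cuspOf θ₀ = η₁ + η₂ ∧
      (∀ β : MulChar F ℂ, Cfsg.classInner (Rind β) η₁ = 0) ∧
      (∀ β : MulChar F ℂ, Cfsg.classInner (Rind β) η₂ = 0) ∧
      η₁ 1 = (((Fintype.card F - 1) / 2 : ℕ) : ℂ) ∧ η₂ 1 = (((Fintype.card F - 1) / 2 : ℕ) : ℂ) := by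
  classical
  haveI : Fintype (MulChar F ℂ) := Fintype.ofFinite _
  haveI := finite_hom_Tc t
  haveI : Fintype (Tc t →* ℂˣ) := Fintype.ofFinite _
  have hq2 : 2 ≤ Fintype.card F := Fintype.one_lt_card
  have hnorm : Cfsg.classInner (cuspOf θ₀) (cuspOf θ₀) = 2 := by
    unfold cuspOf
    rw [classInner_cusp_self ht _ _ (compat_alphaOf θ₀), if_pos h2]
  obtain ⟨η₁, η₂, hη₁, hη₂, hne, hcases⟩ :=
    exists_signed_pair_of_norm_two (isGeneralizedCharacter_cusp (alphaOf θ₀) θ₀) hnorm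
  change (cuspOf θ₀ = η₁ + η₂ ∨ cuspOf θ₀ = η₁ - η₂ ∨ cuspOf θ₀ = -(η₁ + η₂)) at hcases
  have key : ∀ η : SpecialLinearGroup (Fin 2) F → ℂ,
      Cfsg.IsIrrCharacter (SpecialLinearGroup (Fin 2) F) η → Cfsg.classInner (cuspOf θ₀) η ≠ 0 →
      (((Fintype.card F : ℂ) + 1) / 2) * ∑ α : MulChar F ℂ, Cfsg.classInner (Rind α) η +
        (((Fintype.card F : ℂ) - 1) / 2) * Cfsg.classInner (cuspOf θ₀) η = conj (η 1) := by
    intro η hη h
    have hm := master_identity ht η (IsCharacter.isClassFunction (IsIrrCharacter.isCharacter hη))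
    rw [Finset.sum_eq_single θ₀
      (fun θ _ hθ => classInner_cuspOf_eq_zero_of_constituent ht h2 h1 hη h hθ)
      (fun h => absurd (Finset.mem_univ _) h)] at hm
    exact hm
  have hdeg : ∀ η : SpecialLinearGroup (Fin 2) F → ℂ,
      Cfsg.IsIrrCharacter (SpecialLinearGroup (Fin 2) F) η → ∃ n : ℕ, η 1 = n ∧ 1 ≤ n := by
    intro η hη
    obtain ⟨n, hn, -, hpos⟩ := IsIrrCharacter.degree_dvd_card hη
    exact ⟨n, hn, hpos⟩
  have hψ1 : cuspOf θ₀ 1 = (Fintype.card F : ℂ) - 1 := cuspOf_one ht θ₀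
  have hR0 : ∀ β : MulChar F ℂ, Cfsg.classInner (Rind β) (cuspOf θ₀) = 0 :=
    fun β => classInner_Rind_cuspOf ht β θ₀
  rcases hcases with hc | hc | hc
  · -- `ψ = η₁ + η₂`
    have hz : ∀ β : MulChar F ℂ,
        Cfsg.classInner (Rind β) η₁ = 0 ∧ Cfsg.classInner (Rind β) η₂ = 0 := by
      intro β
      have h0 := hR0 β
      rw [hc, classInner_add_right] at h0
      obtain ⟨a, ha⟩ := classInner_char_char_nat (isCharacter_Rind β) (IsIrrCharacter.isCharacter hη₁)
      obtain ⟨b, hb⟩ := classInner_char_char_nat (isCharacter_Rind β) (IsIrrCharacter.isCharacter hη₂)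
      rw [ha, hb] at h0 ⊢
      have : a + b = 0 := by exact_mod_cast h0
      have ha0 : a = 0 := by omega
      have hb0 : b = 0 := by omega
      rw [ha0, hb0]
      exact ⟨Nat.cast_zero, Nat.cast_zero⟩
    have hi1 : Cfsg.classInner (cuspOf θ₀) η₁ = 1 := by
      rw [hc, classInner_add_left, classInner_irr_self hη₁,
        classInner_irr_ne hη₂ hη₁ (Ne.symm hne), add_zero]
    have hi2 : Cfsg.classInner (cuspOf θ₀) η₂ = 1 := by
      rw [hc, classInner_add_left, classInner_irr_self hη₂,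
        classInner_irr_ne hη₁ hη₂ hne, zero_add]
    have k1 := key η₁ hη₁ (by rw [hi1]; exact one_ne_zero)
    have k2 := key η₂ hη₂ (by rw [hi2]; exact one_ne_zero)
    rw [Finset.sum_eq_zero (fun β _ => (hz β).1), hi1] at k1
    rw [Finset.sum_eq_zero (fun β _ => (hz β).2), hi2] at k2
    obtain ⟨n₁, hn₁, -⟩ := hdeg η₁ hη₁
    obtain ⟨n₂, hn₂, -⟩ := hdeg η₂ hη₂
    rw [hn₁, Complex.conj_natCast] at k1
    rw [hn₂, Complex.conj_natCast] at k2
    refine ⟨η₁, η₂, hη₁, hη₂, hne, hc, fun β => (hz β).1, fun β => (hz β).2, ?_, ?_⟩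
    · rw [hn₁, cast_half_sub hodd, ← k1]; ring
    · rw [hn₂, cast_half_sub hodd, ← k2]; ring
  · -- `ψ = η₁ - η₂`
    exfalso
    have heq : ∀ β : MulChar F ℂ, Cfsg.classInner (Rind β) η₁ = Cfsg.classInner (Rind β) η₂ := by
      intro β
      have h0 := hR0 β
      rw [hc, classInner_sub_right] at h0
      exact sub_eq_zero.mp h0
    have hi1 : Cfsg.classInner (cuspOf θ₀) η₁ = 1 := by
      rw [hc, classInner_sub_left, classInner_irr_self hη₁,
        classInner_irr_ne hη₂ hη₁ (Ne.symm hne), sub_zero]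
    have hi2 : Cfsg.classInner (cuspOf θ₀) η₂ = -1 := by
      rw [hc, classInner_sub_left, classInner_irr_self hη₂,
        classInner_irr_ne hη₁ hη₂ hne, zero_sub]
    by_cases hall : ∀ β : MulChar F ℂ, Cfsg.classInner (Rind β) η₂ = 0
    · have k2 := key η₂ hη₂ (by rw [hi2]; norm_num)
      rw [Finset.sum_eq_zero (fun β _ => hall β), hi2] at k2
      obtain ⟨n₂, hn₂, hpos⟩ := hdeg η₂ hη₂
      rw [hn₂, Complex.conj_natCast] at k2
      have e1 : ((Fintype.card F : ℤ) : ℂ) - 1 = -(2 * ((n₂ : ℤ) : ℂ)) := by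
        push_cast
        linear_combination (-2 : ℂ) * k2
      have e2 : (Fintype.card F : ℤ) - 1 = -(2 * (n₂ : ℤ)) := by exact_mod_cast e1
      omega
    · push Not at hall
      obtain ⟨β, hβ⟩ := hall
      have hβ1 : Cfsg.classInner (Rind β) η₁ ≠ 0 := by rw [heq β]; exact hβ
      rcases ps_constituent_cases hη₁ hβ1 with h' | h' | ⟨h3, h'⟩ | ⟨h3, h4⟩
      · rw [h', classInner_cuspOf_triv θ₀ h1] at hi1
        exact zero_ne_one hi1
      · rw [h', classInner_cuspOf_St ht θ₀ h1] at hi1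
        exact zero_ne_one hi1
      · rw [← h', classInner_irr_ne hη₁ hη₂ hne] at hβ
        exact hβ rfl
      · obtain ⟨χ₁, χ₂, hχ₁, hχ₂, hχne, hR, ν, hν⟩ := exists_halves hodd β h3 h4
        have hmem : ∀ η : SpecialLinearGroup (Fin 2) F → ℂ,
            Cfsg.IsIrrCharacter (SpecialLinearGroup (Fin 2) F) η →
            Cfsg.classInner (Rind β) η ≠ 0 → η = χ₁ ∨ η = χ₂ := by
          intro η hη h
          by_contra hcon
          push Not at hcon
          rw [hR, classInner_add_left, classInner_irr_ne hχ₁ hη (Ne.symm hcon.1),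
            classInner_irr_ne hχ₂ hη (Ne.symm hcon.2), add_zero] at h
          exact h rfl
        have hdeq : χ₂ 1 = χ₁ 1 := by
          have := hν 1
          rw [map_one] at this
          exact this
        have h11 : η₁ 1 = η₂ 1 := by
          rcases hmem η₁ hη₁ hβ1 with e1 | e1 <;> rcases hmem η₂ hη₂ hβ with e2 | e2
          · exact absurd (e1.trans e2.symm) hne
          · rw [e1, e2, hdeq]
          · rw [e1, e2, hdeq]
          · exact absurd (e1.trans e2.symm) hne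
        have h5 := congrFun hc 1
        rw [hψ1, Pi.sub_apply, h11, sub_self] at h5
        have h6 : ((Fintype.card F : ℕ) : ℂ) = ((1 : ℕ) : ℂ) := by
          push_cast
          linear_combination h5
        have h7 : Fintype.card F = 1 := by exact_mod_cast h6
        omega
  · -- `ψ = -(η₁ + η₂)`
    exfalso
    obtain ⟨n₁, hn₁, hp1⟩ := hdeg η₁ hη₁
    obtain ⟨n₂, hn₂, hp2⟩ := hdeg η₂ hη₂
    have h5 := congrFun hc 1
    rw [hψ1, Pi.neg_apply, Pi.add_apply, hn₁, hn₂] at h5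
    have e1 : ((Fintype.card F : ℤ) : ℂ) - 1 = -(((n₁ : ℤ) : ℂ) + ((n₂ : ℤ) : ℂ)) := by
      push_cast
      exact h5
    have e2 : (Fintype.card F : ℤ) - 1 = -((n₁ : ℤ) + n₂) := by exact_mod_cast e1
    omega

theorem odd_of_mulChar_order_two {α : MulChar F ℂ} (h2 : α ^ 2 = 1) (h1 : α ≠ 1) :
    Odd (Fintype.card F) := by
  classical
  haveI : Fintype (MulChar F ℂ) := Fintype.ofFinite _
  have hq2 : 2 ≤ Fintype.card F := Fintype.one_lt_card
  have ho : orderOf α = 2 := orderOf_eq_prime h2 h1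
  have hd : orderOf α ∣ Fintype.card (MulChar F ℂ) := orderOf_dvd_card
  rw [ho, card_mulChar] at hd
  obtain ⟨k, hk⟩ := hd
  exact ⟨k, by omega⟩

theorem odd_of_hom_order_two (ht : Ellt t) {θ : Tc t →* ℂˣ} (h2 : θ = θ⁻¹) (h1 : θ ≠ 1) :
    Odd (Fintype.card F) := by
  classical
  haveI := finite_hom_Tc t
  have hq2 : 2 ≤ Fintype.card F := Fintype.one_lt_card
  have hsq : θ ^ 2 = 1 := by
    rw [pow_two]
    exact mul_eq_one_iff_eq_inv.mpr h2
  have ho : orderOf θ = 2 := orderOf_eq_prime hsq h1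
  have hd : orderOf θ ∣ Nat.card (Tc t →* ℂˣ) := orderOf_dvd_natCard θ
  rw [ho, natCard_hom_Tc, card_Tc ht] at hd
  obtain ⟨k, hk⟩ := hd
  exact ⟨k - 1, by omega⟩

/-- the classification of the irreducible characters of `SL₂(F)`. -/
theorem classify_irr (ht : Ellt t) {η : SpecialLinearGroup (Fin 2) F → ℂ}
    (hη : Cfsg.IsIrrCharacter (SpecialLinearGroup (Fin 2) F) η) :
    η = (fun _ => (1 : ℂ)) ∨ η = St ∨ (∃ α : MulChar F ℂ, α ^ 2 ≠ 1 ∧ η = Rind α) ∨
      (∃ θ : Tc t →* ℂˣ, θ ≠ θ⁻¹ ∧ η = cuspOf θ) ∨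
      (∃ α : MulChar F ℂ, α ^ 2 = 1 ∧ α ≠ 1 ∧ Cfsg.classInner (Rind α) η ≠ 0) ∨
      (∃ θ : Tc t →* ℂˣ, θ = θ⁻¹ ∧ θ ≠ 1 ∧ Cfsg.classInner (cuspOf θ) η ≠ 0) := by
  classical
  haveI : Fintype (MulChar F ℂ) := Fintype.ofFinite _
  haveI := finite_hom_Tc t
  haveI : Fintype (Tc t →* ℂˣ) := Fintype.ofFinite _
  have hm := master_identity ht η (IsCharacter.isClassFunction (IsIrrCharacter.isCharacter hη))
  obtain ⟨n, hn, -, hpos⟩ := IsIrrCharacter.degree_dvd_card hη
  have hne : conj (η 1) ≠ 0 := by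
    rw [hn, Complex.conj_natCast]
    have : n ≠ 0 := by omega
    exact_mod_cast this
  by_cases hA : ∃ α : MulChar F ℂ, Cfsg.classInner (Rind α) η ≠ 0
  · obtain ⟨α, hα⟩ := hA
    rcases ps_constituent_cases hη hα with h | h | ⟨h3, h⟩ | ⟨h3, h4⟩
    · exact Or.inl h
    · exact Or.inr (Or.inl h)
    · exact Or.inr (Or.inr (Or.inl ⟨α, h3, h⟩))
    · exact Or.inr (Or.inr (Or.inr (Or.inr (Or.inl ⟨α, h3, h4, hα⟩))))
  · push Not at hA
    by_cases hC : ∃ θ : Tc t →* ℂˣ, Cfsg.classInner (cuspOf θ) η ≠ 0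
    · obtain ⟨θ, hθ⟩ := hC
      rcases cusp_constituent_cases ht hη hθ with h | h | ⟨h3, h⟩ | ⟨h3, h4⟩
      · exact Or.inl h
      · exact Or.inr (Or.inl h)
      · exact Or.inr (Or.inr (Or.inr (Or.inl ⟨θ, h3, h⟩)))
      · exact Or.inr (Or.inr (Or.inr (Or.inr (Or.inr ⟨θ, h3, h4, hθ⟩))))
    · push Not at hC
      exfalso
      rw [Finset.sum_eq_zero (fun α _ => hA α), Finset.sum_eq_zero (fun θ _ => hC θ), mul_zero,
        mul_zero, add_zero] at hm
      exact hne hm.symm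

end fin

end Cfsg.Agent.Helper8.SL2C
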