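import Mathlib
import Cfsg.Agent.Helper8.SL2Classify
import Cfsg.Agent.Helper8.SL2Cent
import Cfsg.Agent.Helper8.SL2Unip

set_option autoImplicit false

/-!
The half-degree characters of `SL₂(F)`, `|F|` odd: pairs swapped by the diagonal automorphism.
-/

namespace Cfsg.Agent.Helper8.SL2C

open Matrix Cfsg.Agent.Helper7.SL2 Cfsg.Agent.S2437 Cfsg.Agent.Helper6
open scoped Matrix ComplexConjugate

variable {F : Type*} [Field F]

theorem dconj_sq (s : Fˣ) (g : SpecialLinearGroup (Fin 2) F) :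
    dconj (s * s) g = tor s * g * (tor s)⁻¹ := by
  obtain ⟨i00, i01, i10, i11⟩ := coe_inv_apply (tor s)
  have hs : (s : F) * ((s⁻¹ : Fˣ) : F) = 1 := by rw [← Units.val_mul, mul_inv_cancel, Units.val_one]
  apply ext'
  · rw [dconj_00]
    simp only [coe_mul_apply, i00, i10, tor_00, tor_01, tor_10, tor_11]
    linear_combination (-(g : Matrix (Fin 2) (Fin 2) F) 0 0) * hs
  · rw [dconj_01]
    simp only [coe_mul_apply, i01, i11, tor_00, tor_01, tor_10, tor_11, Units.val_mul]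
    ring
  · rw [dconj_10]
    simp only [coe_mul_apply, i00, i10, tor_00, tor_01, tor_10, tor_11, mul_inv, Units.val_mul]
    ring
  · rw [dconj_11]
    simp only [coe_mul_apply, i01, i11, tor_00, tor_01, tor_10, tor_11]
    linear_combination (-(g : Matrix (Fin 2) (Fin 2) F) 1 1) * hs

theorem apply_dconj_of_isSquare {χ : SpecialLinearGroup (Fin 2) F → ℂ}
    (hcf : Cfsg.IsClassFunction (SpecialLinearGroup (Fin 2) F) χ) {ν : Fˣ} (h : IsSquare (ν : F))
    (g : SpecialLinearGroup (Fin 2) F) : χ (dconj ν g) = χ g := by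
  obtain ⟨s, hs⟩ := h
  have hs0 : s ≠ 0 := by
    intro h0
    rw [h0, mul_zero] at hs
    exact Units.ne_zero ν hs
  have e : ν = Units.mk0 s hs0 * Units.mk0 s hs0 := by
    apply Units.ext
    rw [Units.val_mul, Units.val_mk0]
    exact hs
  rw [e, dconj_sq, hcf]

theorem tr_dconj (ν : Fˣ) (g : SpecialLinearGroup (Fin 2) F) : tr (dconj ν g) = tr g := by
  unfold tr
  rw [dconj_00, dconj_11]

theorem isEll_dconj (ν : Fˣ) {g : SpecialLinearGroup (Fin 2) F} :
    IsEll (dconj ν g) ↔ IsEll g := by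
  rw [isEll_iff_ellt, isEll_iff_ellt, tr_dconj]

theorem isConj_dconj_of_ell [Finite F] (ν : Fˣ) {g : SpecialLinearGroup (Fin 2) F} (hg : IsEll g) :
    IsConj g (dconj ν g) := by
  have h1 := isConj_comp_of_ell hg
  have h2 := isConj_comp_of_ell ((isEll_dconj ν).mpr hg)
  rw [tr_dconj] at h2
  exact h1.trans h2.symm

theorem dconj_diag (ν : Fˣ) {g : SpecialLinearGroup (Fin 2) F}
    (h01 : (g : Matrix (Fin 2) (Fin 2) F) 0 1 = 0) (h10 : (g : Matrix (Fin 2) (Fin 2) F) 1 0 = 0) :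
    dconj ν g = g := by
  apply ext'
  · rw [dconj_00]
  · rw [dconj_01, h01, mul_zero]
  · rw [dconj_10, h10, mul_zero]
  · rw [dconj_11]

theorem dconj_central (ν : Fˣ) {g : SpecialLinearGroup (Fin 2) F}
    (hc : g ∈ Subgroup.center (SpecialLinearGroup (Fin 2) F)) : dconj ν g = g := by
  apply dconj_diag
  · rcases mem_center_iff'.mp hc with h | h
    · rw [h, one_01]
    · rw [h, SL2C.neg_apply, one_01, neg_zero]
  · rcases mem_center_iff'.mp hc with h | h
    · rw [h, one_10]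
    · rw [h, SL2C.neg_apply, one_10, neg_zero]

theorem dconj_mem_center_iff (ν : Fˣ) {g : SpecialLinearGroup (Fin 2) F} :
    dconj ν g ∈ Subgroup.center (SpecialLinearGroup (Fin 2) F) ↔
      g ∈ Subgroup.center (SpecialLinearGroup (Fin 2) F) := by
  constructor
  · intro h
    have := dconj_central ν⁻¹ h
    have e : dconj ν⁻¹ (dconj ν g) = g := dconjFun_inv ν g
    rw [e] at this
    rw [this]
    exact h
  · intro h
    rw [dconj_central ν h]
    exact h

/-- a pair of irreducible characters swapped by the diagonal automorphism, with sum `Φ`. -/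
structure HalfPair (Φ η η' : SpecialLinearGroup (Fin 2) F → ℂ) (ν : Fˣ) : Prop where
  irr : Cfsg.IsIrrCharacter (SpecialLinearGroup (Fin 2) F) η
  irr' : Cfsg.IsIrrCharacter (SpecialLinearGroup (Fin 2) F) η'
  ne : η ≠ η'
  sum : Φ = η + η'
  swap : ∀ g, η' (dconj ν g) = η g
  swap' : ∀ g, η (dconj ν g) = η' g

namespace HalfPair

variable {Φ η η' : SpecialLinearGroup (Fin 2) F → ℂ} {ν : Fˣ}

theorem symm (h : HalfPair Φ η η' ν) : HalfPair Φ η' η ν :=
  ⟨h.irr', h.irr, h.ne.symm, by rw [h.sum, add_comm], h.swap', h.swap⟩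

theorem nonsq (h : HalfPair Φ η η' ν) : ¬ IsSquare (ν : F) := by
  intro hs
  apply h.ne
  funext g
  have h1 := h.swap' g
  rw [apply_dconj_of_isSquare (IsCharacter.isClassFunction (IsIrrCharacter.isCharacter h.irr)) hs]
    at h1
  exact h1

theorem eq_of_isConj (h : HalfPair Φ η η' ν) {g : SpecialLinearGroup (Fin 2) F}
    (hg : IsConj g (dconj ν g)) : η g = η' g := by
  obtain ⟨c, hc⟩ := isConj_iff.mp hg
  rw [← h.swap' g, ← hc,
    IsCharacter.isClassFunction (IsIrrCharacter.isCharacter h.irr)]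

theorem apply_of_isConj (h : HalfPair Φ η η' ν) {g : SpecialLinearGroup (Fin 2) F}
    (hg : IsConj g (dconj ν g)) : η g = Φ g / 2 := by
  rw [h.sum, Pi.add_apply, ← h.eq_of_isConj hg]
  ring

theorem apply_of_fixed (h : HalfPair Φ η η' ν) {g : SpecialLinearGroup (Fin 2) F}
    (hg : dconj ν g = g) : η g = Φ g / 2 := by
  apply h.apply_of_isConj
  rw [hg]

theorem apply_one (h : HalfPair Φ η η' ν) : η 1 = Φ 1 / 2 :=
  h.apply_of_fixed (map_one _)

theorem apply_ell [Finite F] (h : HalfPair Φ η η' ν) {g : SpecialLinearGroup (Fin 2) F}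
    (hg : IsEll g) : η g = Φ g / 2 :=
  h.apply_of_isConj (isConj_dconj_of_ell ν hg)

theorem apply_diag (h : HalfPair Φ η η' ν) {g : SpecialLinearGroup (Fin 2) F}
    (h01 : (g : Matrix (Fin 2) (Fin 2) F) 0 1 = 0) (h10 : (g : Matrix (Fin 2) (Fin 2) F) 1 0 = 0) :
    η g = Φ g / 2 :=
  h.apply_of_fixed (dconj_diag ν h01 h10)

theorem sum_up [Fintype F] (h : HalfPair Φ η η' ν) : ∑ x : F, η (up x) = ∑ x : F, η' (up x) := by
  have hν0 : (ν : F) ≠ 0 := Units.ne_zero ν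
  rw [← Equiv.sum_comp (Equiv.mulLeft₀ (ν : F) hν0) (fun x => η (up x))]
  apply Finset.sum_congr rfl
  intro x _
  rw [Equiv.mulLeft₀_apply, ← dconj_up, h.swap']

theorem sum_up_eq [Fintype F] (h : HalfPair Φ η η' ν) :
    ∑ x : F, η (up x) = (∑ x : F, Φ (up x)) / 2 := by
  have h1 : ∑ x : F, Φ (up x) = ∑ x : F, η (up x) + ∑ x : F, η' (up x) := by
    rw [← Finset.sum_add_distrib]
    apply Finset.sum_congr rfl
    intro x _
    rw [h.sum, Pi.add_apply]
  rw [h1, ← h.sum_up]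
  ring

/-- the irreducible constituents of `Φ`. -/
theorem eq_or_eq [Fintype F] [DecidableEq F] (h : HalfPair Φ η η' ν)
    {χ : SpecialLinearGroup (Fin 2) F → ℂ}
    (hχ : Cfsg.IsIrrCharacter (SpecialLinearGroup (Fin 2) F) χ)
    (hne : Cfsg.classInner Φ χ ≠ 0) : χ = η ∨ χ = η' := by
  by_contra hcon
  push Not at hcon
  rw [h.sum, classInner_add_left, classInner_irr_ne h.irr hχ (Ne.symm hcon.1),
    classInner_irr_ne h.irr' hχ (Ne.symm hcon.2), add_zero] at hne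
  exact hne rfl

end HalfPair

section fin
variable [Fintype F] [DecidableEq F] {t : F}

theorem Iind_dconj (ht : Ellt t) (θ : Tc t →* ℂˣ) (ν : Fˣ) (g : SpecialLinearGroup (Fin 2) F) :
    Iind θ (dconj ν g) = Iind θ g := by
  have hcf : Cfsg.IsClassFunction (SpecialLinearGroup (Fin 2) F) (Iind θ) :=
    indFun_isClassFunction _ _
  by_cases hg : IsEll g
  · obtain ⟨c, hc⟩ := isConj_iff.mp (isConj_dconj_of_ell ν hg)
    rw [← hc, hcf]
  · by_cases hz : g ∈ Subgroup.center (SpecialLinearGroup (Fin 2) F)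
    · rw [dconj_central ν hz]
    · have h1 : Iind θ g = 0 := indT_eq_zero ht (thT θ) hg hz
      have h2 : Iind θ (dconj ν g) = 0 :=
        indT_eq_zero ht (thT θ) (fun h => hg ((isEll_dconj ν).mp h))
          (fun h => hz ((dconj_mem_center_iff ν).mp h))
      rw [h1, h2]

theorem St_dconj (ν : Fˣ) (g : SpecialLinearGroup (Fin 2) F) : St (dconj ν g) = St g := by
  rw [St_apply, St_apply, Rind_dconj]

theorem cuspOf_dconj (ht : Ellt t) (θ : Tc t →* ℂˣ) (ν : Fˣ) (g : SpecialLinearGroup (Fin 2) F) :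
    cuspOf θ (dconj ν g) = cuspOf θ g := by
  unfold cuspOf cusp
  rw [St_dconj, Rind_dconj, Iind_dconj ht]

/-- the halves of the reducible principal series function, as a pair. -/
theorem exists_halfPair_ps (hodd : Odd (Fintype.card F)) (α : MulChar F ℂ) (hα : α ^ 2 = 1)
    (hα1 : α ≠ 1) :
    ∃ (η η' : SpecialLinearGroup (Fin 2) F → ℂ) (ν : Fˣ), HalfPair (Rind α) η η' ν := by
  obtain ⟨χ₁, χ₂, h1, h2, hne, hR, ν, hν⟩ := exists_halves hodd α hα hα1
  refine ⟨χ₁, χ₂, ν, h1, h2, hne, hR, hν, ?_⟩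
  intro g
  have h := Rind_dconj α ν g
  rw [hR, Pi.add_apply, Pi.add_apply, hν g] at h
  linear_combination h

/-- the halves of the cuspidal virtual character attached to the character of order two, as a
pair. -/
theorem exists_halfPair_cusp (hodd : Odd (Fintype.card F)) (ht : Ellt t) {θ₀ : Tc t →* ℂˣ}
    (h2 : θ₀ = θ₀⁻¹) (h1 : θ₀ ≠ 1) :
    ∃ (η η' : SpecialLinearGroup (Fin 2) F → ℂ) (ν : Fˣ), HalfPair (cuspOf θ₀) η η' ν ∧
      (∀ β : MulChar F ℂ, Cfsg.classInner (Rind β) η = 0) ∧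
      (∀ β : MulChar F ℂ, Cfsg.classInner (Rind β) η' = 0) := by
  classical
  haveI : Fintype (MulChar F ℂ) := Fintype.ofFinite _
  have hq2 : 2 ≤ Fintype.card F := Fintype.one_lt_card
  have h2F : (2 : F) ≠ 0 := Cfsg.Agent.Helper7.two_ne_zero_of_odd_card hodd
  obtain ⟨η₁, η₂, hη₁, hη₂, hne, hsum, hc1, hc2, hd1, hd2⟩ := exists_cusp_halves hodd ht h2 h1
  obtain ⟨e, he⟩ := exists_nonsq (F := F) h2F
  have he0 : e ≠ 0 := by
    intro h
    apply he
    rw [h]
    exact ⟨0, (mul_zero 0).symm⟩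
  set ν : Fˣ := Units.mk0 e he0 with hν
  have hνns : ¬ IsSquare (ν : F) := he
  have hφ1 : Cfsg.IsIrrCharacter (SpecialLinearGroup (Fin 2) F) (η₁ ∘ dconj ν) :=
    IsIrrCharacter.comp_mulEquiv (dconj ν) hη₁
  have hφ2 : Cfsg.IsIrrCharacter (SpecialLinearGroup (Fin 2) F) (η₂ ∘ dconj ν) :=
    IsIrrCharacter.comp_mulEquiv (dconj ν) hη₂
  have hsumφ : η₁ ∘ dconj ν + η₂ ∘ dconj ν = η₁ + η₂ := by
    funext g
    have := cuspOf_dconj ht θ₀ ν g
    rw [hsum] at this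
    exact this
  have hneφ : η₁ ∘ dconj ν ≠ η₂ ∘ dconj ν := by
    intro h
    apply hne
    funext g
    have := congrFun h ((dconj ν).symm g)
    simpa using this
  have hin : Cfsg.classInner (η₁ ∘ dconj ν) η₁ + Cfsg.classInner (η₁ ∘ dconj ν) η₂ = 1 := by
    rw [← classInner_add_right, ← hsumφ, classInner_add_right, classInner_irr_self hφ1,
      classInner_irr_ne hφ1 hφ2 hneφ, add_zero]
  by_cases hcase : η₁ ∘ dconj ν = η₁
  · -- the bad case
    exfalso
    have hconst : ∀ x : F, x ≠ 0 → η₁ (up x) = η₁ (up 1) := fun x hx =>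
      up_const_of_dconj_inv (IsCharacter.isClassFunction (IsIrrCharacter.isCharacter hη₁)) hνns
        (fun g => congrFun hcase g) hx one_ne_zero
    have hs := sum_classInner_Rind η₁ (IsCharacter.isClassFunction (IsIrrCharacter.isCharacter hη₁))
    rw [Finset.sum_eq_zero (fun β _ => hc1 β)] at hs
    have hq : ((Fintype.card F : ℕ) : ℂ) ≠ 0 := by
      have : Fintype.card F ≠ 0 := Fintype.card_ne_zero
      exact_mod_cast this
    have hs' : ∑ c : F, conj (η₁ (up c)) = 0 := by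
      rcases mul_eq_zero.mp hs.symm with h | h
      · exact absurd (inv_eq_zero.mp h) hq
      · exact h
    have hU : ∑ x : F, conj (η₁ (up x)) =
        conj (η₁ 1) + ((Fintype.card F - 1 : ℕ) : ℂ) * conj (η₁ (up 1)) := by
      rw [← Finset.add_sum_erase Finset.univ _ (Finset.mem_univ (0 : F)), up_zero]
      congr 1
      rw [Finset.sum_congr rfl (fun x hx => by rw [hconst x (Finset.ne_of_mem_erase hx)]),
        Finset.sum_const, Finset.card_erase_of_mem (Finset.mem_univ _), Finset.card_univ,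
        nsmul_eq_mul]
    rw [hU] at hs'
    have hs'' := congrArg conj hs'
    rw [map_add, map_mul, Complex.conj_conj, Complex.conj_conj, Complex.conj_natCast, map_zero,
      hd1, cast_half_sub hodd] at hs''
    have hcast : ((Fintype.card F - 1 : ℕ) : ℂ) = (Fintype.card F : ℂ) - 1 := by
      rw [Nat.cast_sub Fintype.card_pos, Nat.cast_one]
    rw [hcast] at hs''
    have hq1 := card_sub_one_ne_zero' (F := F)
    have hval : ((-1 : ℤ) : ℂ) = ((2 : ℕ) : ℂ) * η₁ (up 1) := by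
      have : ((Fintype.card F : ℂ) - 1) * (1 + 2 * η₁ (up 1)) = 0 := by
        linear_combination 2 * hs''
      rcases mul_eq_zero.mp this with h | h
      · exact absurd h hq1
      · push_cast
        linear_combination -h
    have hint : IsIntegral ℤ (η₁ (up 1)) := IsIrrCharacter.isIntegral_apply hη₁ _
    have hdvd := int_dvd_of_isIntegral (-1) 2 (by norm_num) _ hint hval
    omega
  · have h0 : Cfsg.classInner (η₁ ∘ dconj ν) η₁ = 0 := classInner_irr_ne hφ1 hη₁ hcase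
    rw [h0, zero_add] at hin
    have heq : η₁ ∘ dconj ν = η₂ := by
      by_contra hne'
      rw [classInner_irr_ne hφ1 hη₂ hne'] at hin
      exact zero_ne_one hin
    have heq2 : η₂ ∘ dconj ν = η₁ := by
      have := hsumφ
      rw [heq, add_comm] at this
      exact add_right_cancel this
    refine ⟨η₁, η₂, ν, ⟨hη₁, hη₂, hne, hsum, fun g => congrFun heq2 g, fun g => congrFun heq g⟩,
      hc1, hc2⟩

theorem half_ps_of_constituent (hodd : Odd (Fintype.card F)) {α : MulChar F ℂ} (h2 : α ^ 2 = 1)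
    (h1 : α ≠ 1) {χ : SpecialLinearGroup (Fin 2) F → ℂ}
    (hχ : Cfsg.IsIrrCharacter (SpecialLinearGroup (Fin 2) F) χ)
    (h : Cfsg.classInner (Rind α) χ ≠ 0) :
    ∃ (χ' : SpecialLinearGroup (Fin 2) F → ℂ) (ν : Fˣ), HalfPair (Rind α) χ χ' ν := by
  obtain ⟨η, η', ν, hp⟩ := exists_halfPair_ps hodd α h2 h1
  rcases hp.eq_or_eq hχ h with e | e
  · exact ⟨η', ν, e ▸ hp⟩
  · exact ⟨η, ν, e ▸ hp.symm⟩

theorem half_cusp_of_constituent (hodd : Odd (Fintype.card F)) (ht : Ellt t) {θ₀ : Tc t →* ℂˣ}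
    (h2 : θ₀ = θ₀⁻¹) (h1 : θ₀ ≠ 1) {χ : SpecialLinearGroup (Fin 2) F → ℂ}
    (hχ : Cfsg.IsIrrCharacter (SpecialLinearGroup (Fin 2) F) χ)
    (h : Cfsg.classInner (cuspOf θ₀) χ ≠ 0) :
    ∃ (χ' : SpecialLinearGroup (Fin 2) F → ℂ) (ν : Fˣ), HalfPair (cuspOf θ₀) χ χ' ν ∧
      (∀ β : MulChar F ℂ, Cfsg.classInner (Rind β) χ = 0) ∧
      (∀ β : MulChar F ℂ, Cfsg.classInner (Rind β) χ' = 0) := by
  obtain ⟨η, η', ν, hp, hc, hc'⟩ := exists_halfPair_cusp hodd ht h2 h1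
  rcases hp.eq_or_eq hχ h with e | e
  · exact ⟨η', ν, e ▸ hp, e ▸ hc, hc'⟩
  · exact ⟨η, ν, e ▸ hp.symm, e ▸ hc', hc⟩

theorem HalfPair.degree_ps {α : MulChar F ℂ} {η η' : SpecialLinearGroup (Fin 2) F → ℂ} {ν : Fˣ}
    (hodd : Odd (Fintype.card F)) (h : HalfPair (Rind α) η η' ν) :
    η 1 = (((Fintype.card F + 1) / 2 : ℕ) : ℂ) := by
  rw [h.apply_one, Rind_one, cast_half_add hodd]

theorem HalfPair.degree_cusp {θ : Tc t →* ℂˣ} {η η' : SpecialLinearGroup (Fin 2) F → ℂ} {ν : Fˣ}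
    (hodd : Odd (Fintype.card F)) (ht : Ellt t) (h : HalfPair (cuspOf θ) η η' ν) :
    η 1 = (((Fintype.card F - 1) / 2 : ℕ) : ℂ) := by
  rw [h.apply_one, cuspOf_one ht, cast_half_sub hodd]

/-- the classification of the irreducible characters of `SL₂(F)`, with degrees. -/
theorem natDegree_cases (ht : Ellt t) {χ : SpecialLinearGroup (Fin 2) F → ℂ}
    (hχ : Cfsg.IsIrrCharacter (SpecialLinearGroup (Fin 2) F) χ) :
    ∃ n : ℕ, χ 1 = (n : ℂ) ∧
      ((n = 1 ∧ χ = fun _ => (1 : ℂ)) ∨ (n = Fintype.card F ∧ χ = St) ∨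
        (n = Fintype.card F + 1 ∧ ∃ α : MulChar F ℂ, α ^ 2 ≠ 1 ∧ χ = Rind α) ∨
        (n = Fintype.card F - 1 ∧ ∃ θ : Tc t →* ℂˣ, θ ≠ θ⁻¹ ∧ χ = cuspOf θ) ∨
        (Odd (Fintype.card F) ∧ n = (Fintype.card F + 1) / 2 ∧
          ∃ (α : MulChar F ℂ) (χ' : SpecialLinearGroup (Fin 2) F → ℂ) (ν : Fˣ),
            α ^ 2 = 1 ∧ α ≠ 1 ∧ HalfPair (Rind α) χ χ' ν) ∨
        (Odd (Fintype.card F) ∧ n = (Fintype.card F - 1) / 2 ∧
          ∃ (θ : Tc t →* ℂˣ) (χ' : SpecialLinearGroup (Fin 2) F → ℂ) (ν : Fˣ),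
            θ = θ⁻¹ ∧ θ ≠ 1 ∧ HalfPair (cuspOf θ) χ χ' ν ∧
            (∀ β : MulChar F ℂ, Cfsg.classInner (Rind β) χ = 0) ∧
            (∀ β : MulChar F ℂ, Cfsg.classInner (Rind β) χ' = 0))) := by
  have hq1 : 1 ≤ Fintype.card F := Fintype.card_pos
  rcases classify_irr ht hχ with h | h | ⟨α, hα, h⟩ | ⟨θ, hθ, h⟩ | ⟨α, h2, h1, h⟩ | ⟨θ, h2, h1, h⟩
  · exact ⟨1, by rw [h, Nat.cast_one], Or.inl ⟨rfl, h⟩⟩
  · exact ⟨Fintype.card F, by rw [h, St_one], Or.inr (Or.inl ⟨rfl, h⟩)⟩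
  · refine ⟨Fintype.card F + 1, ?_, Or.inr (Or.inr (Or.inl ⟨rfl, α, hα, h⟩))⟩
    rw [h, Rind_one]
    push_cast
    rfl
  · refine ⟨Fintype.card F - 1, ?_, Or.inr (Or.inr (Or.inr (Or.inl ⟨rfl, θ, hθ, h⟩)))⟩
    rw [h, cuspOf_one ht, Nat.cast_sub hq1, Nat.cast_one]
  · have hodd := odd_of_mulChar_order_two h2 h1
    obtain ⟨χ', ν, hp⟩ := half_ps_of_constituent hodd h2 h1 hχ h
    exact ⟨(Fintype.card F + 1) / 2, hp.degree_ps hodd,
      Or.inr (Or.inr (Or.inr (Or.inr (Or.inl ⟨hodd, rfl, α, χ', ν, h2, h1, hp⟩))))⟩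
  · have hodd := odd_of_hom_order_two ht h2 h1
    obtain ⟨χ', ν, hp, hc, hc'⟩ := half_cusp_of_constituent hodd ht h2 h1 hχ h
    exact ⟨(Fintype.card F - 1) / 2, hp.degree_cusp hodd ht,
      Or.inr (Or.inr (Or.inr (Or.inr (Or.inr ⟨hodd, rfl, θ, χ', ν, h2, h1, hp, hc, hc'⟩))))⟩

end fin

end Cfsg.Agent.Helper8.SL2C
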