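import Mathlib
import Cfsg.Agent.Helper8.SL2Values

set_option autoImplicit false

/-!
Values of the cuspidal characters of `SL₂(F)` at elliptic elements.
-/

namespace Cfsg.Agent.Helper8.SL2C

open Matrix Cfsg.Agent.Helper7.SL2 Cfsg.Agent.S2437 Cfsg.Agent.Helper6
open scoped Matrix ComplexConjugate

variable {F : Type*} [Field F]

section fin
variable [Fintype F] [DecidableEq F] {t : F}

theorem isClassFunction_cuspOf (θ : Tc t →* ℂˣ) :
    Cfsg.IsClassFunction (SpecialLinearGroup (Fin 2) F) (cuspOf θ) :=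
  IsGeneralizedCharacter.isClassFunction (isGeneralizedCharacter_cusp (alphaOf θ) θ)

theorem g10_ne_zero_of_ell {g : SpecialLinearGroup (Fin 2) F} (hg : IsEll g) :
    (g : Matrix (Fin 2) (Fin 2) F) 1 0 ≠ 0 := fun h => not_ell_of_mem_B (mem_B.mpr h) hg

/-- the value of a cuspidal virtual character at an elliptic element. -/
theorem cuspOf_ell (h2 : (2 : F) ≠ 0) (ht : Ellt t) (θ : Tc t →* ℂˣ)
    {g : SpecialLinearGroup (Fin 2) F} (hg : IsEll g) :
    ∃ x : Tc t, IsConj g (x : SpecialLinearGroup (Fin 2) F) ∧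
      IsEll (x : SpecialLinearGroup (Fin 2) F) ∧
      cuspOf θ g = -(((θ x : ℂˣ) : ℂ) + ((θ x⁻¹ : ℂˣ) : ℂ)) := by
  obtain ⟨h, hx⟩ := exists_conj_mem_Tc h2 ht hg
  have hxe : IsEll (h * g * h⁻¹) := (isEll_conj h).mpr hg
  refine ⟨⟨h * g * h⁻¹, hx⟩, isConj_iff.mpr ⟨h, rfl⟩, hxe, ?_⟩
  rw [← isClassFunction_cuspOf θ g h]
  unfold cuspOf
  rw [cusp_of_mem_Tc ht _ θ ⟨h * g * h⁻¹, hx⟩ (g10_ne_zero_of_ell hxe)]
  rfl

theorem not_ell_of_sq_eq_one (h2 : (2 : F) ≠ 0) {x : SpecialLinearGroup (Fin 2) F}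
    (h : x * x = 1) : ¬ IsEll x := by
  intro hx
  apply g10_ne_zero_of_ell hx
  rcases eq_one_or_neg_one_of_sq h2 h with h1 | h1
  · rw [h1, one_10]
  · rw [h1, SL2C.neg_apply, one_10, neg_zero]

/-- for `q = 3` the cuspidal characters of degree `2` vanish at the elliptic elements. -/
theorem cuspOf_ell_card_three (hq : Fintype.card F = 3) (ht : Ellt t) {θ : Tc t →* ℂˣ}
    (hθ : θ ≠ θ⁻¹) {g : SpecialLinearGroup (Fin 2) F} (hg : IsEll g) : cuspOf θ g = 0 := by
  have h2 : (2 : F) ≠ 0 := Cfsg.Agent.Helper7.two_ne_zero_of_odd_card ⟨1, by omega⟩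
  obtain ⟨X, -, hXe, hval⟩ := cuspOf_ell h2 ht θ hg
  rw [hval]
  -- `X` has order four
  have hX4 : X ^ 4 = 1 := by
    apply Subtype.ext
    have := pow_card_add_one_of_ell hXe
    rw [hq] at this
    rw [Subgroup.coe_pow, Subgroup.coe_one]
    exact this
  have hX2 : ¬ X ^ 2 = 1 := by
    intro h
    apply not_ell_of_sq_eq_one h2 _ hXe
    have := congrArg (fun y : Tc t => (y : SpecialLinearGroup (Fin 2) F)) h
    simp only [Subgroup.coe_pow, Subgroup.coe_one] at this
    rw [← pow_two]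
    exact this
  have ho : orderOf X = 2 ^ (1 + 1) := orderOf_eq_prime_pow (by simpa using hX2) (by simpa using hX4)
  have htop : Subgroup.zpowers X = ⊤ := by
    apply Subgroup.eq_top_of_card_eq
    rw [Nat.card_zpowers, ho, card_Tc ht, hq]
    norm_num
  -- the value of `θ` at `X`
  have hw2 : (θ X) ^ 2 ≠ 1 := by
    intro h
    apply hθ
    apply MonoidHom.ext
    intro y
    have hy : y ∈ Subgroup.zpowers X := by rw [htop]; exact Subgroup.mem_top y
    obtain ⟨k, rfl⟩ := Subgroup.mem_zpowers_iff.mp hy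
    rw [MonoidHom.inv_apply, map_zpow, eq_inv_iff_mul_eq_one, ← mul_zpow, ← pow_two, h,
      _root_.one_zpow]
  have hw4 : (θ X) ^ 4 = 1 := by rw [← map_pow, hX4, map_one]
  set w : ℂ := ((θ X : ℂˣ) : ℂ) with hw
  have hw0 : w ≠ 0 := Units.ne_zero _
  have e2 : w ^ 2 ≠ 1 := by
    intro h
    apply hw2
    apply Units.ext
    rw [Units.val_pow_eq_pow_val, Units.val_one]
    exact h
  have e4 : w ^ 4 = 1 := by
    have := congrArg (fun u : ℂˣ => (u : ℂ)) hw4
    simp only [Units.val_pow_eq_pow_val, Units.val_one] at this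
    exact this
  have e3 : w ^ 2 = -1 := by
    have : (w ^ 2 - 1) * (w ^ 2 + 1) = 0 := by linear_combination e4
    rcases mul_eq_zero.mp this with h | h
    · exact absurd (sub_eq_zero.mp h) e2
    · linear_combination h
  have einv : ((θ X⁻¹ : ℂˣ) : ℂ) = w⁻¹ := by
    rw [map_inv, Units.val_inv_eq_inv_val]
  rw [einv]
  field_simp
  linear_combination (-1 : ℂ) * e3

end fin

end Cfsg.Agent.Helper8.SL2C
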