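import Mathlib
import Cfsg.Agent.Helper8.SL2Values2

set_option autoImplicit false

/-!
Sums over the unipotent subgroup, the quadratic character, and the character of order two of the
non-split torus.
-/

namespace Cfsg.Agent.Helper8.SL2C

open Matrix Cfsg.Agent.Helper7.SL2 Cfsg.Agent.S2437 Cfsg.Agent.Helper6
open scoped Matrix ComplexConjugate

variable {F : Type*} [Field F]

section fin
variable [Fintype F] [DecidableEq F] {t : F}

/-- a sum over the upper unitriangular subgroup. -/
theorem sum_ite_unip (f : SpecialLinearGroup (Fin 2) F → ℂ)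
    [DecidablePred (fun g : SpecialLinearGroup (Fin 2) F =>
      (g : Matrix (Fin 2) (Fin 2) F) 1 0 = 0 ∧ (g : Matrix (Fin 2) (Fin 2) F) 0 0 = 1 ∧
        (g : Matrix (Fin 2) (Fin 2) F) 1 1 = 1)] :
    (∑ g : SpecialLinearGroup (Fin 2) F,
      if (g : Matrix (Fin 2) (Fin 2) F) 1 0 = 0 ∧ (g : Matrix (Fin 2) (Fin 2) F) 0 0 = 1 ∧
        (g : Matrix (Fin 2) (Fin 2) F) 1 1 = 1 then f g else 0) = ∑ x : F, f (up x) := by
  rw [← Finset.sum_filter]
  symm
  apply Finset.sum_bij (fun x _ => up x)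
  · intro x _
    rw [Finset.mem_filter]
    exact ⟨Finset.mem_univ _, up_10 x, up_00 x, up_11 x⟩
  · intro x _ y _ h
    have := congrArg (fun g : SpecialLinearGroup (Fin 2) F => (g : Matrix (Fin 2) (Fin 2) F) 0 1) h
    simpa [up_01] using this
  · intro g hg
    rw [Finset.mem_filter] at hg
    obtain ⟨-, h10, h00, h11⟩ := hg
    refine ⟨(g : Matrix (Fin 2) (Fin 2) F) 0 1, Finset.mem_univ _, ?_⟩
    apply ext'
    · rw [up_00, h00]
    · rw [up_01]
    · rw [up_10, h10]
    · rw [up_11, h11]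
  · intro x _
    rfl

theorem sum_up_of_const (f : SpecialLinearGroup (Fin 2) F → ℂ) {c : ℂ}
    (hc : ∀ x : F, x ≠ 0 → f (up x) = c) :
    ∑ x : F, f (up x) = f 1 + ((Fintype.card F : ℂ) - 1) * c := by
  rw [← Finset.add_sum_erase Finset.univ _ (Finset.mem_univ (0 : F)), up_zero]
  congr 1
  rw [Finset.sum_congr rfl (fun x hx => by rw [hc x (Finset.ne_of_mem_erase hx)]),
    Finset.sum_const, Finset.card_erase_of_mem (Finset.mem_univ _), Finset.card_univ,
    nsmul_eq_mul, Nat.cast_sub Fintype.card_pos, Nat.cast_one]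

theorem Rind_up (α : MulChar F ℂ) {x : F} (hx : x ≠ 0) : Rind α (up x) = 1 := by
  rw [Rind_unip α (up_10 x) (by rw [up_00, up_11]) (by rw [up_01]; exact hx), up_00, map_one]

theorem St_up {x : F} (hx : x ≠ 0) : St (up x) = 0 := by
  rw [St_apply, Rind_up 1 hx, sub_self]

theorem cuspOf_up (ht : Ellt t) (θ : Tc t →* ℂˣ) {x : F} (hx : x ≠ 0) : cuspOf θ (up x) = -1 := by
  unfold cuspOf
  rw [cusp_unip ht _ θ (up_10 x) (by rw [up_00, up_11]) (by rw [up_01]; exact hx), up_00, map_one]

theorem sum_Rind_up (α : MulChar F ℂ) : ∑ x : F, Rind α (up x) = 2 * (Fintype.card F : ℂ) := by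
  rw [sum_up_of_const (Rind α) (fun x hx => Rind_up α hx), Rind_one]
  ring

theorem sum_St_up : ∑ x : F, St (up x) = (Fintype.card F : ℂ) := by
  rw [sum_up_of_const St (fun x hx => St_up hx), St_one]
  ring

theorem sum_cuspOf_up (ht : Ellt t) (θ : Tc t →* ℂˣ) : ∑ x : F, cuspOf θ (up x) = 0 := by
  rw [sum_up_of_const (cuspOf θ) (fun x hx => cuspOf_up ht θ hx), cuspOf_one ht]
  ring

/-! ### the quadratic character -/

theorem mulChar_order_two_sq {α : MulChar F ℂ} (h2 : α ^ 2 = 1) {a : F} (ha : a ≠ 0) :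
    α a * α a = 1 := by
  have h := congrArg (fun β : MulChar F ℂ => β a) h2
  simp only [MulChar.pow_apply' _ two_ne_zero, MulChar.one_apply (Ne.isUnit ha)] at h
  rw [← pow_two]
  exact h

theorem mulChar_order_two_of_isSquare {α : MulChar F ℂ} (h2 : α ^ 2 = 1) {a : F} (ha : a ≠ 0)
    (hs : IsSquare a) : α a = 1 := by
  obtain ⟨s, rfl⟩ := hs
  have hs0 : s ≠ 0 := fun h => ha (by rw [h, mul_zero])
  rw [map_mul]
  exact mulChar_order_two_sq h2 hs0

theorem mulChar_order_two_of_not_isSquare {α : MulChar F ℂ} (h2 : α ^ 2 = 1) (h1 : α ≠ 1) {a : F}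
    (hs : ¬ IsSquare a) : α a = -1 := by
  have ha : a ≠ 0 := by
    rintro rfl
    exact hs IsSquare.zero
  rcases mul_self_eq_one_iff.mp (mulChar_order_two_sq h2 ha) with h | h
  · exfalso
    apply h1
    apply MulChar.ext
    intro b
    rw [MulChar.one_apply_coe]
    by_cases hb : IsSquare (b : F)
    · exact mulChar_order_two_of_isSquare h2 (Units.ne_zero b) hb
    · have hab := sq_mul_of_not (Units.ne_zero b) hb hs
      have := mulChar_order_two_of_isSquare h2 (mul_ne_zero (Units.ne_zero b) ha) hab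
      rw [map_mul, h, mul_one] at this
      exact this
  · exact h

/-! ### the character of order two of the torus -/

theorem hom_order_two_gen (ht : Ellt t) {θ : Tc t →* ℂˣ} (h2 : θ = θ⁻¹) (h1 : θ ≠ 1) {y : Tc t}
    (hy : ∀ x : Tc t, x ∈ Subgroup.zpowers y) : θ y = -1 := by
  have hsq : θ y * θ y = 1 := by
    have := congrArg (fun ψ : Tc t →* ℂˣ => ψ y) h2
    simp only [MonoidHom.inv_apply] at this
    rw [mul_eq_one_iff_eq_inv]
    exact this
  have hsq' : ((θ y : ℂˣ) : ℂ) * ((θ y : ℂˣ) : ℂ) = 1 := by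
    rw [← Units.val_mul, hsq, Units.val_one]
  rcases mul_self_eq_one_iff.mp hsq' with h | h
  · exfalso
    apply h1
    apply MonoidHom.ext
    intro x
    obtain ⟨k, rfl⟩ := Subgroup.mem_zpowers_iff.mp (hy x)
    have : θ y = 1 := Units.ext h
    rw [map_zpow, this, _root_.one_zpow, MonoidHom.one_apply]
  · apply Units.ext
    rw [h]
    rfl

/-- the values of the character of order two of the torus. -/
theorem hom_order_two_apply (hodd : Odd (Fintype.card F)) (ht : Ellt t) {θ : Tc t →* ℂˣ}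
    (h2 : θ = θ⁻¹) (h1 : θ ≠ 1) (x : Tc t) :
    (x ^ ((Fintype.card F + 1) / 2) = 1 → θ x = 1) ∧
      (x ^ ((Fintype.card F + 1) / 2) ≠ 1 → θ x = -1) := by
  haveI := isCyclic_Tc (F := F) (ellt_sq_ne ht)
  obtain ⟨y, hy⟩ := IsCyclic.exists_generator (α := Tc t)
  have hθy := hom_order_two_gen ht h2 h1 hy
  obtain ⟨k, rfl⟩ := Subgroup.mem_zpowers_iff.mp (hy x)
  have hord : orderOf y = Fintype.card F + 1 := by
    rw [orderOf_eq_card_of_forall_mem_zpowers hy, card_Tc ht]
  obtain ⟨m, hm⟩ := hodd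
  have hhalf : (Fintype.card F + 1) / 2 = m + 1 := by omega
  rw [hhalf, map_zpow, hθy]
  have hiff : (y ^ k) ^ (m + 1) = 1 ↔ Even k := by
    rw [← zpow_natCast, ← _root_.zpow_mul, ← orderOf_dvd_iff_zpow_eq_one, hord, hm]
    constructor
    · rintro ⟨c, hc⟩
      have h3 : k * ((m : ℤ) + 1) = 2 * ((m : ℤ) + 1) * c := by
        push_cast at hc
        linear_combination hc
      have h4 : k = 2 * c := by
        have hm0 : ((m : ℤ) + 1) ≠ 0 := by omega
        apply mul_right_cancel₀ hm0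
        linear_combination h3
      exact ⟨c, by omega⟩
    · rintro ⟨c, rfl⟩
      exact ⟨c, by push_cast; ring⟩
  constructor
  · intro h
    exact Even.neg_one_zpow (hiff.mp h)
  · intro h
    have hk : Odd k := by
      rcases Int.even_or_odd k with he | ho
      · exact absurd (hiff.mpr he) h
      · exact ho
    exact Odd.neg_one_zpow hk

end fin

end Cfsg.Agent.Helper8.SL2C
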