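import Mathlib
import Cfsg.Agent.Helper8.SL2Values3

set_option autoImplicit false

/-!
Cyclic subgroups of order `q + 1` of `SL₂(F)` are conjugate to the standard non-split torus.
-/

namespace Cfsg.Agent.Helper8.SL2C

open Matrix Cfsg.Agent.Helper7.SL2 Cfsg.Agent.S2437 Cfsg.Agent.Helper6
open scoped Matrix ComplexConjugate

variable {F : Type*} [Field F]

section fin
variable [Fintype F] [DecidableEq F]

/-- an element of order `q + 1` is elliptic. -/
theorem isEll_of_orderOf {x : SpecialLinearGroup (Fin 2) F} (hx : orderOf x = Fintype.card F + 1) :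
    IsEll x := by
  by_contra hne
  have hq2 : 2 ≤ Fintype.card F := Fintype.one_lt_card
  obtain ⟨P, hP⟩ := exists_conj_mem_B hne
  have hP' : P⁻¹ * x * P ∈ Bor F := (mem_Bor _).mpr (mem_B.mp hP)
  have h1 : (⟨P⁻¹ * x * P, hP'⟩ : Bor F) ^ Nat.card (Bor F) = 1 := pow_card_eq_one'
  have h2 : (P⁻¹ * x * P) ^ Nat.card (Bor F) = 1 := by
    have := congrArg (fun y : Bor F => (y : SpecialLinearGroup (Fin 2) F)) h1
    simpa using this
  have h3 : x ^ Nat.card (Bor F) = 1 := by
    have e : P⁻¹ * x * P = P⁻¹ * x * P⁻¹⁻¹ := by rw [inv_inv]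
    rw [e, conj_pow] at h2
    have := congrArg (fun y => P * y * P⁻¹) h2
    simp only [mul_one, mul_inv_cancel] at this
    rw [← this]
    group
  have hd : Fintype.card F + 1 ∣ (Fintype.card F - 1) * Fintype.card F := by
    rw [← hx, ← card_Bor]
    exact orderOf_dvd_of_pow_eq_one h3
  have hcop : Nat.Coprime (Fintype.card F + 1) (Fintype.card F) := by
    have : Nat.Coprime (Fintype.card F) (Fintype.card F + 1) := by
      rw [Nat.coprime_self_add_right]
      exact Nat.coprime_one_right _
    exact this.symm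
  have hd' := hcop.dvd_of_dvd_mul_right hd
  have := Nat.le_of_dvd (by omega) hd'
  omega

/-- a cyclic subgroup of order `q + 1` is conjugate to a standard non-split torus. -/
theorem exists_conj_Tc_of_cyclic (C : Subgroup (SpecialLinearGroup (Fin 2) F)) (hC : IsCyclic C)
    (hcard : Nat.card C = Fintype.card F + 1) :
    ∃ (t : F) (h : SpecialLinearGroup (Fin 2) F), Ellt t ∧
      ∀ c : SpecialLinearGroup (Fin 2) F, c ∈ C ↔ h * c * h⁻¹ ∈ Tc t := by
  obtain ⟨x₀, hx₀⟩ := IsCyclic.exists_generator (α := C)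
  have hord : orderOf x₀ = Fintype.card F + 1 := by
    rw [orderOf_eq_card_of_forall_mem_zpowers hx₀, hcard]
  have hord' : orderOf (x₀ : SpecialLinearGroup (Fin 2) F) = Fintype.card F + 1 := by
    rw [Subgroup.orderOf_coe, hord]
  have hell := isEll_of_orderOf hord'
  have ht : Ellt (tr (x₀ : SpecialLinearGroup (Fin 2) F)) := isEll_iff_ellt.mp hell
  obtain ⟨h, hh⟩ := isConj_iff.mp (isConj_comp_of_ell hell)
  refine ⟨tr (x₀ : SpecialLinearGroup (Fin 2) F), h, ht, ?_⟩
  set t := tr (x₀ : SpecialLinearGroup (Fin 2) F) with htdef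
  -- the image of `C` under conjugation by `h`
  have hle : C.map (MulAut.conj h).toMonoidHom ≤ Tc t := by
    rintro y ⟨c, hc, rfl⟩
    obtain ⟨k, hk⟩ := Subgroup.mem_zpowers_iff.mp (hx₀ ⟨c, hc⟩)
    have hck : c = (x₀ : SpecialLinearGroup (Fin 2) F) ^ k := by
      have := congrArg (fun y : C => (y : SpecialLinearGroup (Fin 2) F)) hk
      simp only [Subgroup.coe_zpow] at this
      exact this.symm
    change h * c * h⁻¹ ∈ Tc t
    rw [hck, ← conj_zpow, hh]
    exact Subgroup.zpow_mem _ (comp_mem_Tc t) k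
  have hcardmap : Nat.card (C.map (MulAut.conj h).toMonoidHom) = Nat.card C := by
    apply Nat.card_congr
    exact (C.equivMapOfInjective _ (MulAut.conj h).injective).symm.toEquiv
  have heq : C.map (MulAut.conj h).toMonoidHom = Tc t := by
    apply Subgroup.eq_of_le_of_card_ge hle
    rw [hcardmap, hcard, card_Tc ht]
  intro c
  constructor
  · intro hc
    rw [← heq]
    exact ⟨c, hc, rfl⟩
  · intro hc
    rw [← heq] at hc
    obtain ⟨c', hc', he⟩ := hc
    have : c' = c := (MulAut.conj h).injective he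
    rw [← this]
    exact hc'

/-- the torus has a character which is not self-inverse. -/
theorem exists_hom_ne_inv {t : F} (ht : Ellt t) : ∃ θ : Tc t →* ℂˣ, θ ≠ θ⁻¹ := by
  letI := commGroupTc t
  haveI := neZero_exponent_Tc t
  have hq2 : 2 ≤ Fintype.card F := Fintype.one_lt_card
  haveI := isCyclic_Tc (F := F) (ellt_sq_ne ht)
  obtain ⟨y, hy⟩ := IsCyclic.exists_generator (α := Tc t)
  have hord : orderOf y = Fintype.card F + 1 := by
    rw [orderOf_eq_card_of_forall_mem_zpowers hy, card_Tc ht]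
  have hy2 : y ^ 2 ≠ 1 := by
    intro h
    have := orderOf_dvd_of_pow_eq_one h
    rw [hord] at this
    have := Nat.le_of_dvd (by norm_num) this
    omega
  obtain ⟨φ, hφ⟩ := CommGroup.exists_apply_ne_one_of_hasEnoughRootsOfUnity (Tc t) ℂ hy2
  refine ⟨φ, ?_⟩
  intro h
  apply hφ
  have := congrArg (fun ψ : Tc t →* ℂˣ => ψ y) h
  simp only [MonoidHom.inv_apply] at this
  rw [map_pow, pow_two]
  exact mul_eq_one_iff_eq_inv.mpr this

end fin

end Cfsg.Agent.Helper8.SL2C
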