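import Mathlib
import Cfsg.Agent.Helper8.SL2Cyclic
import Cfsg.Agent.Helper8.PSL2Basic
import Cfsg.Agent.Helper6.Extraspecial
import Cfsg.Agent.Helper6.RepEigen

set_option autoImplicit false

/-!
The values of the half-degree characters of `SL₂(F)` at the transvections.
-/

namespace Cfsg.Agent.Helper8.SL2C

open Matrix Cfsg.Agent.Helper7.SL2 Cfsg.Agent.S2437 Cfsg.Agent.Helper6
open scoped Matrix ComplexConjugate

theorem irr_apply_inv {G : Type*} [Group G] [Finite G] {χ : G → ℂ}
    (hχ : Cfsg.IsIrrCharacter G χ) (g : G) : χ g⁻¹ = conj (χ g) := by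
  obtain ⟨n, ρ, -, rfl⟩ := hχ
  exact char_inv_eq_conj ρ g

theorem irr_central_mul {G : Type*} [Group G] [Finite G] {χ : G → ℂ}
    (hχ : Cfsg.IsIrrCharacter G χ) {z : G} (hz : z ∈ Subgroup.center G) :
    ∃ ω : ℂ, ∀ g : G, χ (z * g) = ω * χ g := by
  obtain ⟨n, ρ, hirr, rfl⟩ := hχ
  haveI := hirr
  obtain ⟨ω, hω⟩ := exists_scalar_of_mem_center ρ z hz
  refine ⟨ω, fun g => ?_⟩
  unfold Representation.character
  rw [map_mul, hω]
  change LinearMap.trace ℂ _ ((ω • (1 : Module.End ℂ _)) * ρ g) = _
  rw [smul_mul_assoc, one_mul, map_smul, smul_eq_mul]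

variable {F : Type*} [Field F]

theorem neg_one_mem_center :
    (-1 : SpecialLinearGroup (Fin 2) F) ∈ Subgroup.center (SpecialLinearGroup (Fin 2) F) :=
  mem_center_iff'.mpr (Or.inr rfl)

theorem bmat_neg_one (c : F) : bmat (-1 : Fˣ) c = (-1 : SpecialLinearGroup (Fin 2) F) * up (-c) := by
  apply ext'
  · rw [bmat_coe, coe_mul_apply, SL2C.neg_apply, SL2C.neg_apply, one_00, one_01, up_00, up_10]
    simp
  · rw [bmat_coe, coe_mul_apply, SL2C.neg_apply, SL2C.neg_apply, one_00, one_01, up_01, up_11]
    simp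
  · rw [bmat_coe, coe_mul_apply, SL2C.neg_apply, SL2C.neg_apply, one_10, one_11, up_00, up_10]
    simp
  · rw [bmat_coe, coe_mul_apply, SL2C.neg_apply, SL2C.neg_apply, one_10, one_11, up_01, up_11]
    simp

theorem bmat_zero_mem_center {a : Fˣ} (ha : (a : F) ^ 2 = 1) :
    bmat a 0 ∈ Subgroup.center (SpecialLinearGroup (Fin 2) F) := by
  have h : ((a : F) - 1) * ((a : F) + 1) = 0 := by linear_combination ha
  rw [mem_center_iff']
  rcases mul_eq_zero.mp h with h1 | h1
  · left
    have : a = 1 := Units.ext (by rw [Units.val_one]; linear_combination h1)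
    rw [this, bmat_one, up_zero]
  · right
    have : a = -1 := Units.ext (by rw [Units.val_neg, Units.val_one]; linear_combination h1)
    rw [this, bmat_neg_one, neg_zero, up_zero, mul_one]

/-- a sum over the square roots of one. -/
theorem sum_units_sq_eq_one [Fintype F] [DecidableEq F] (h2 : (2 : F) ≠ 0) (f : Fˣ → ℂ) :
    ∑ a : Fˣ, (if (a : F) ^ 2 = 1 then f a else 0) = f 1 + f (-1) := by
  rw [← Finset.sum_filter]
  have hne : (1 : Fˣ) ≠ -1 := by
    intro h
    have := congrArg (fun u : Fˣ => (u : F)) h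
    simp only [Units.val_one, Units.val_neg] at this
    apply h2
    linear_combination this
  have hfil : Finset.univ.filter (fun a : Fˣ => (a : F) ^ 2 = 1) = {1, -1} := by
    ext a
    rw [Finset.mem_filter, Finset.mem_insert, Finset.mem_singleton]
    constructor
    · rintro ⟨-, ha⟩
      have h : ((a : F) - 1) * ((a : F) + 1) = 0 := by linear_combination ha
      rcases mul_eq_zero.mp h with h1 | h1
      · left
        exact Units.ext (by rw [Units.val_one]; linear_combination h1)
      · right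
        exact Units.ext (by rw [Units.val_neg, Units.val_one]; linear_combination h1)
    · rintro (rfl | rfl)
      · exact ⟨Finset.mem_univ _, by rw [Units.val_one, one_pow]⟩
      · exact ⟨Finset.mem_univ _, by rw [Units.val_neg, Units.val_one]; ring⟩
  rw [hfil, Finset.sum_pair hne]

namespace HalfPair

variable {Φ η η' : SpecialLinearGroup (Fin 2) F → ℂ} {ν : Fˣ}

theorem isClassFunction_left (h : HalfPair Φ η η' ν) :
    Cfsg.IsClassFunction (SpecialLinearGroup (Fin 2) F) η :=
  IsCharacter.isClassFunction (IsIrrCharacter.isCharacter h.irr)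

theorem isClassFunction_right (h : HalfPair Φ η η' ν) :
    Cfsg.IsClassFunction (SpecialLinearGroup (Fin 2) F) η' :=
  IsCharacter.isClassFunction (IsIrrCharacter.isCharacter h.irr')

theorem apply_of_isConj' {χ : SpecialLinearGroup (Fin 2) F → ℂ}
    (hcf : Cfsg.IsClassFunction (SpecialLinearGroup (Fin 2) F) χ)
    {a b : SpecialLinearGroup (Fin 2) F} (hab : IsConj a b) : χ a = χ b := by
  obtain ⟨c, hc⟩ := isConj_iff.mp hab
  rw [← hc, hcf]

theorem up_of_isSquare (h : HalfPair Φ η η' ν) {c : F} (hc : c ≠ 0) (hs : IsSquare c) :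
    η (up c) = η (up 1) ∧ η' (up c) = η' (up 1) := by
  have hconj : IsConj (up c) (up (1 : F)) := by
    rw [isConj_up_iff_isSquare hc one_ne_zero, mul_one]
    exact hs
  exact ⟨apply_of_isConj' h.isClassFunction_left hconj,
    apply_of_isConj' h.isClassFunction_right hconj⟩

theorem up_of_not_isSquare [Fintype F] (h : HalfPair Φ η η' ν) {c : F} (hs : ¬ IsSquare c) :
    η (up c) = η' (up 1) ∧ η' (up c) = η (up 1) := by
  have hc : c ≠ 0 := by
    rintro rfl
    exact hs IsSquare.zero
  have hν0 : (ν : F) ≠ 0 := Units.ne_zero ν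
  have hconj : IsConj (up c) (up (ν : F)) := by
    rw [isConj_up_iff_isSquare hc hν0]
    exact sq_mul_of_not hc hs h.nonsq
  have e : up (ν : F) = dconj ν (up 1) := by rw [dconj_up, mul_one]
  constructor
  · rw [apply_of_isConj' h.isClassFunction_left hconj, e, h.swap']
  · rw [apply_of_isConj' h.isClassFunction_right hconj, e, h.swap]

/-- the central character. -/
theorem exists_central_sign (h : HalfPair Φ η η' ν) [Finite F] :
    ∃ ω : ℂ, ω * ω = 1 ∧ (∀ g, η (-1 * g) = ω * η g) ∧ (∀ g, η' (-1 * g) = ω * η' g) := by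
  obtain ⟨ω, hω⟩ := irr_central_mul h.irr (neg_one_mem_center (F := F))
  refine ⟨ω, ?_, hω, ?_⟩
  · obtain ⟨n, hn, -, hpos⟩ := IsIrrCharacter.degree_dvd_card h.irr
    have h1 := hω (-1 * 1)
    rw [hω 1, ← mul_assoc, neg_one_mul_neg_one, one_mul, hn] at h1
    have hn0 : (n : ℂ) ≠ 0 := by
      have : n ≠ 0 := by omega
      exact_mod_cast this
    have : (ω * ω - 1) * (n : ℂ) = 0 := by linear_combination -h1
    rcases mul_eq_zero.mp this with h2 | h2
    · linear_combination h2
    · exact absurd h2 hn0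
  · intro g
    rw [← h.swap' (-1 * g), map_mul, dconj_central ν neg_one_mem_center, hω, h.swap']

end HalfPair

namespace HalfPair

variable {Φ η η' : SpecialLinearGroup (Fin 2) F → ℂ} {ν : Fˣ}

/-- the difference of the two halves vanishes at the elements whose class is stable under the
diagonal automorphism. -/
theorem diff_eq_zero (h : HalfPair Φ η η' ν) {g : SpecialLinearGroup (Fin 2) F}
    (hg : IsConj g (dconj ν g)) : (η - η') g = 0 := by
  rw [Pi.sub_apply, h.eq_of_isConj hg, sub_self]

theorem diff_eq_zero_of_conj_fixed (h : HalfPair Φ η η' ν) {g k : SpecialLinearGroup (Fin 2) F}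
    (hgk : IsConj g k) (hk : dconj ν k = k) : (η - η') g = 0 := by
  have hcf : Cfsg.IsClassFunction (SpecialLinearGroup (Fin 2) F) (η - η') := by
    intro a b
    rw [Pi.sub_apply, Pi.sub_apply, h.isClassFunction_left, h.isClassFunction_right]
  rw [apply_of_isConj' hcf hgk]
  apply h.diff_eq_zero
  rw [hk]

/-- the absolute value of the difference of the values at the transvection. -/
theorem normSq_diff [Fintype F] [DecidableEq F] (hodd : Odd (Fintype.card F))
    (h : HalfPair Φ η η' ν) :
    (η (up 1) - η' (up 1)) * conj (η (up 1) - η' (up 1)) = (Fintype.card F : ℂ) := by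
  have h2F : (2 : F) ≠ 0 := Cfsg.Agent.Helper7.two_ne_zero_of_odd_card hodd
  have hq2 : 2 ≤ Fintype.card F := Fintype.one_lt_card
  set D : SpecialLinearGroup (Fin 2) F → ℂ := η - η' with hD
  set N : ℂ := (η (up 1) - η' (up 1)) * conj (η (up 1) - η' (up 1)) with hN
  have hDcf : Cfsg.IsClassFunction (SpecialLinearGroup (Fin 2) F) D := by
    intro a b
    rw [hD, Pi.sub_apply, Pi.sub_apply, h.isClassFunction_left, h.isClassFunction_right]
  set Y : SpecialLinearGroup (Fin 2) F → ℂ := fun g => D g * conj (D g) with hY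
  have hYcf : Cfsg.IsClassFunction (SpecialLinearGroup (Fin 2) F) Y := by
    intro a b
    simp only [hY, hDcf a b]
  have hYconj : ∀ g, conj (Y g) = Y g := by
    intro g
    simp only [hY, map_mul, Complex.conj_conj]
    ring
  have hY0 : ∀ g, D g = 0 → Y g = 0 := by
    intro g hg
    simp only [hY, hg, zero_mul]
  -- the norm of `D`
  have hnorm : Cfsg.classInner D D = 2 := by
    rw [hD, classInner_sub_left, classInner_sub_right, classInner_sub_right,
      classInner_irr_self h.irr, classInner_irr_self h.irr', classInner_irr_ne h.irr h.irr' h.ne,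
      classInner_irr_ne h.irr' h.irr h.ne.symm]
    norm_num
  -- `Y` at the transvections
  have hYup : ∀ c : F, c ≠ 0 → Y (up c) = N := by
    intro c hc
    by_cases hs : IsSquare c
    · obtain ⟨e1, e2⟩ := h.up_of_isSquare hc hs
      simp only [hY, hD, Pi.sub_apply, e1, e2]
      rfl
    · obtain ⟨e1, e2⟩ := h.up_of_not_isSquare hs
      simp only [hY, hD, Pi.sub_apply, e1, e2, hN, map_sub]
      ring
  obtain ⟨ω, hω2, hω, hω'⟩ := h.exists_central_sign
  have hωconj : conj ω = ω := by
    rcases mul_self_eq_one_iff.mp hω2 with h1 | h1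
    · rw [h1, map_one]
    · rw [h1, map_neg, map_one]
  have hYneg : ∀ g, Y (-1 * g) = Y g := by
    intro g
    simp only [hY, hD, Pi.sub_apply, hω, hω', map_sub, map_mul, hωconj]
    linear_combination (η g - η' g) * (conj (η g) - conj (η' g)) * hω2
  -- the first computation
  have hway1 : Cfsg.classInner (Rind (1 : MulChar F ℂ)) Y = Cfsg.classInner D D := by
    unfold Cfsg.classInner
    congr 1
    apply Finset.sum_congr rfl
    intro g _
    rw [hYconj]
    change Rind (1 : MulChar F ℂ) g * Y g = Y g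
    have hRcf : Cfsg.IsClassFunction (SpecialLinearGroup (Fin 2) F) (Rind (1 : MulChar F ℂ)) :=
      indFun_isClassFunction _ _
    rcases classify g with hg | ⟨a, ha, hg⟩ | ⟨β, hg⟩ | ⟨β, hg⟩
    · rw [hY0 g (h.diff_eq_zero (isConj_dconj_of_ell ν hg)), mul_zero]
    · rw [hY0 g (h.diff_eq_zero_of_conj_fixed hg (dconj_diag ν (tor_01 a) (tor_10 a))), mul_zero]
    · by_cases hβ : β = 0
      · rw [hβ, up_zero] at hg
        rw [hY0 g (h.diff_eq_zero_of_conj_fixed hg (map_one _)), mul_zero]
      · rw [apply_of_isConj' hRcf hg, Rind_up 1 hβ, one_mul]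
    · by_cases hβ : β = 0
      · rw [hβ, up_zero] at hg
        rw [hY0 g (h.diff_eq_zero_of_conj_fixed hg (dconj_central ν neg_one_mem_center)), mul_zero]
      · have h10 : ((-up β : SpecialLinearGroup (Fin 2) F) : Matrix (Fin 2) (Fin 2) F) 1 0 = 0 := by
          rw [SL2C.neg_apply, up_10, neg_zero]
        have heq : ((-up β : SpecialLinearGroup (Fin 2) F) : Matrix (Fin 2) (Fin 2) F) 0 0 =
            ((-up β : SpecialLinearGroup (Fin 2) F) : Matrix (Fin 2) (Fin 2) F) 1 1 := by
          rw [SL2C.neg_apply, SL2C.neg_apply, up_00, up_11]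
        have h01 : ((-up β : SpecialLinearGroup (Fin 2) F) : Matrix (Fin 2) (Fin 2) F) 0 1 ≠ 0 := by
          rw [SL2C.neg_apply, up_01]
          exact neg_ne_zero.mpr hβ
        rw [apply_of_isConj' hRcf hg, Rind_unip 1 h10 heq h01, SL2C.neg_apply, up_00,
          MulChar.one_apply (isUnit_one.neg), one_mul]
  -- the second computation
  have hinner : ∀ a : Fˣ, ∑ c : F, conj (Y (bmat a c)) =
      if (a : F) ^ 2 = 1 then ((Fintype.card F : ℂ) - 1) * N else 0 := by
    intro a
    by_cases ha : (a : F) ^ 2 = 1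
    · rw [if_pos ha]
      have hterm : ∀ c : F, conj (Y (bmat a c)) = N - (if c = 0 then N else 0) := by
        intro c
        rw [hYconj]
        by_cases hc : c = 0
        · rw [if_pos hc, sub_self, hc]
          apply hY0
          exact h.diff_eq_zero_of_conj_fixed (IsConj.refl _)
            (dconj_central ν (bmat_zero_mem_center ha))
        · rw [if_neg hc, sub_zero]
          have h' : ((a : F) - 1) * ((a : F) + 1) = 0 := by linear_combination ha
          rcases mul_eq_zero.mp h' with h1 | h1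
          · have : a = 1 := Units.ext (by rw [Units.val_one]; linear_combination h1)
            rw [this, bmat_one]
            exact hYup c hc
          · have : a = -1 := Units.ext (by rw [Units.val_neg, Units.val_one]; linear_combination h1)
            rw [this, bmat_neg_one, hYneg]
            exact hYup (-c) (neg_ne_zero.mpr hc)
      simp_rw [hterm]
      rw [Finset.sum_sub_distrib, Finset.sum_const, Finset.card_univ, nsmul_eq_mul,
        Finset.sum_ite_eq', if_pos (Finset.mem_univ _)]
      ring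
    · rw [if_neg ha]
      apply Finset.sum_eq_zero
      intro c _
      rw [hYconj]
      apply hY0
      have hb : bmat a c ∈ B F := by
        rw [mem_B, bmat_coe]
        rfl
      have hne : (bmat a c : Matrix (Fin 2) (Fin 2) F) 0 0 ≠ (bmat a c : Matrix (Fin 2) (Fin 2) F) 1 1 := by
        rw [bmat_coe]
        change (a : F) ≠ ((a⁻¹ : Fˣ) : F)
        intro he
        apply ha
        have : (a : F) * ((a⁻¹ : Fˣ) : F) = 1 := by
          rw [← Units.val_mul, mul_inv_cancel, Units.val_one]
        rw [← he] at this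
        rw [pow_two]
        exact this
      obtain ⟨a', -, hconj⟩ := isConj_tor_of_mem_B hb hne
      exact h.diff_eq_zero_of_conj_fixed hconj (dconj_diag ν (tor_01 a') (tor_10 a'))
  have hway2 : Cfsg.classInner (Rind (1 : MulChar F ℂ)) Y = 2 * N / (Fintype.card F : ℂ) := by
    rw [classInner_Rind_left 1 Y hYcf]
    simp_rw [hinner, MulChar.one_apply_coe, one_mul]
    rw [sum_units_sq_eq_one h2F (fun _ => ((Fintype.card F : ℂ) - 1) * N), card_Bor]
    have hq := card_ne_zero' (F := F)
    have hq1 := card_sub_one_ne_zero' (F := F)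
    have hcast : ((Fintype.card F - 1 : ℕ) : ℂ) = (Fintype.card F : ℂ) - 1 := by
      rw [Nat.cast_sub Fintype.card_pos, Nat.cast_one]
    rw [Nat.cast_mul, hcast]
    field_simp
    ring
  rw [hway1, hnorm] at hway2
  have hq := card_ne_zero' (F := F)
  field_simp at hway2
  exact hway2.symm

end HalfPair

theorem up_inv' (x : F) : (up x)⁻¹ = up (-x) := by
  apply inv_eq_of_mul_eq_one_right
  apply ext' <;> simp only [coe_mul_apply, up_00, up_01, up_10, up_11, one_00, one_01, one_10, one_11]
    <;> ring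

namespace HalfPair

variable {Φ η η' : SpecialLinearGroup (Fin 2) F → ℂ} {ν : Fˣ}

/-- the square of the difference of the values at the transvection. -/
theorem sq_diff [Fintype F] [DecidableEq F] (hodd : Odd (Fintype.card F))
    (h : HalfPair Φ η η' ν) :
    (η (up 1) - η' (up 1)) ^ 2 =
      (-1 : ℂ) ^ ((Fintype.card F - 1) / 2) * (Fintype.card F : ℂ) := by
  have hN := h.normSq_diff hodd
  have hc1 : conj (η (up 1)) = η (up (-1)) := by
    rw [← irr_apply_inv h.irr, up_inv']
  have hc2 : conj (η' (up 1)) = η' (up (-1)) := by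
    rw [← irr_apply_inv h.irr', up_inv']
  rw [map_sub, hc1, hc2] at hN
  obtain ⟨k, hk⟩ := hodd
  have hmod := FiniteField.isSquare_neg_one_iff (F := F)
  by_cases hs : IsSquare (-1 : F)
  · obtain ⟨e1, e2⟩ := h.up_of_isSquare (neg_ne_zero.mpr one_ne_zero) hs
    rw [e1, e2] at hN
    have h4 : Fintype.card F % 4 ≠ 3 := hmod.mp hs
    have hev : Even ((Fintype.card F - 1) / 2) := by
      have : (Fintype.card F - 1) / 2 = k := by omega
      rw [this]
      have : k % 2 = 0 := by omega
      exact Nat.even_iff.mpr this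
    rw [hev.neg_one_pow, one_mul, pow_two]
    exact hN
  · obtain ⟨e1, e2⟩ := h.up_of_not_isSquare hs
    rw [e1, e2] at hN
    have h4 : Fintype.card F % 4 = 3 := by
      by_contra hcon
      exact hs (hmod.mpr hcon)
    have hod : Odd ((Fintype.card F - 1) / 2) := by
      have : (Fintype.card F - 1) / 2 = k := by omega
      rw [this]
      have : k % 2 = 1 := by omega
      exact Nat.odd_iff.mpr this
    rw [hod.neg_one_pow]
    linear_combination -hN

end HalfPair

/-- the multiplicative character of order two is unique. -/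
theorem mulChar_eq_of_order_two [Fintype F] [DecidableEq F] {α β : MulChar F ℂ} (hα2 : α ^ 2 = 1) (hα1 : α ≠ 1)
    (hβ2 : β ^ 2 = 1) (hβ1 : β ≠ 1) : α = β := by
  apply MulChar.ext
  intro a
  by_cases hs : IsSquare (a : F)
  · rw [mulChar_order_two_of_isSquare hα2 (Units.ne_zero a) hs,
      mulChar_order_two_of_isSquare hβ2 (Units.ne_zero a) hs]
  · rw [mulChar_order_two_of_not_isSquare hα2 hα1 hs,
      mulChar_order_two_of_not_isSquare hβ2 hβ1 hs]

namespace HalfPair

variable {Φ η η' : SpecialLinearGroup (Fin 2) F → ℂ} {ν : Fˣ}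

theorem classInner_left [Fintype F] [DecidableEq F] (h : HalfPair Φ η η' ν) :
    Cfsg.classInner Φ η = 1 := by
  rw [h.sum, classInner_add_left, classInner_irr_self h.irr,
    classInner_irr_ne h.irr' h.irr h.ne.symm, add_zero]

/-- two distinct constituents of `Φ` are the two halves. -/
theorem eq_right_of_ne [Fintype F] [DecidableEq F] (h : HalfPair Φ η η' ν)
    {χ : SpecialLinearGroup (Fin 2) F → ℂ}
    (hχ : Cfsg.IsIrrCharacter (SpecialLinearGroup (Fin 2) F) χ)
    (hne : Cfsg.classInner Φ χ ≠ 0) (hχη : χ ≠ η) : χ = η' := by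
  rcases h.eq_or_eq hχ hne with e | e
  · exact absurd e hχη
  · exact e

end HalfPair

section types
variable [Fintype F] [DecidableEq F] {t : F}

/-- the irreducible characters of degree `(q + 1) / 2`. -/
theorem type_half_add (hodd : Odd (Fintype.card F)) (hq : 5 ≤ Fintype.card F) (ht : Ellt t)
    {χ : SpecialLinearGroup (Fin 2) F → ℂ}
    (hχ : Cfsg.IsIrrCharacter (SpecialLinearGroup (Fin 2) F) χ)
    (hdeg : χ 1 = (((Fintype.card F + 1) / 2 : ℕ) : ℂ)) :
    ∃ (α : MulChar F ℂ) (χ' : SpecialLinearGroup (Fin 2) F → ℂ) (ν : Fˣ),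
      α ^ 2 = 1 ∧ α ≠ 1 ∧ HalfPair (Rind α) χ χ' ν := by
  obtain ⟨n, hn, hcases⟩ := natDegree_cases ht hχ
  obtain ⟨k, hk⟩ := hodd
  rw [hn] at hdeg
  have hn' : n = (Fintype.card F + 1) / 2 := by exact_mod_cast hdeg
  rcases hcases with ⟨h1, -⟩ | ⟨h1, -⟩ | ⟨h1, -⟩ | ⟨h1, -⟩ | ⟨-, -, h⟩ | ⟨-, h1, -⟩
  · omega
  · omega
  · omega
  · omega
  · exact h
  · omega

/-- the irreducible characters of degree `(q - 1) / 2`. -/
theorem type_half_sub (hodd : Odd (Fintype.card F)) (hq : 5 ≤ Fintype.card F) (ht : Ellt t)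
    {χ : SpecialLinearGroup (Fin 2) F → ℂ}
    (hχ : Cfsg.IsIrrCharacter (SpecialLinearGroup (Fin 2) F) χ)
    (hdeg : χ 1 = (((Fintype.card F - 1) / 2 : ℕ) : ℂ)) :
    ∃ (θ : Tc t →* ℂˣ) (χ' : SpecialLinearGroup (Fin 2) F → ℂ) (ν : Fˣ),
      θ = θ⁻¹ ∧ θ ≠ 1 ∧ HalfPair (cuspOf θ) χ χ' ν := by
  obtain ⟨n, hn, hcases⟩ := natDegree_cases ht hχ
  obtain ⟨k, hk⟩ := hodd
  rw [hn] at hdeg
  have hn' : n = (Fintype.card F - 1) / 2 := by exact_mod_cast hdeg
  rcases hcases with ⟨h1, -⟩ | ⟨h1, -⟩ | ⟨h1, -⟩ | ⟨h1, -⟩ | ⟨-, h1, -⟩ |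
    ⟨-, -, θ, χ', ν, h2, h1, hp, -, -⟩
  · omega
  · omega
  · omega
  · omega
  · omega
  · exact ⟨θ, χ', ν, h2, h1, hp⟩

end types

end Cfsg.Agent.Helper8.SL2C
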