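import Mathlib
import Cfsg.Agent.Helper8.SL2Trans

set_option autoImplicit false

/-!
Counting the irreducible characters of `SL₂(F)` by degree.
-/

namespace Cfsg.Agent.Helper8.SL2C

open Matrix Cfsg.Agent.Helper7.SL2 Cfsg.Agent.S2437 Cfsg.Agent.Helper6
open scoped Matrix ComplexConjugate

/-- counting the image of a map whose fibres are the pairs `{a, a⁻¹}`. -/
theorem card_eq_two_mul_card_image {G β : Type*} [Group G] [DecidableEq G] [DecidableEq β]
    (A : Finset G) (f : G → β) (hinv : ∀ a ∈ A, a⁻¹ ∈ A) (hne : ∀ a ∈ A, a ≠ a⁻¹)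
    (hf : ∀ a ∈ A, ∀ b ∈ A, f a = f b ↔ (b = a ∨ b = a⁻¹)) :
    A.card = 2 * (A.image f).card := by
  rw [Finset.card_eq_sum_card_image f A]
  have h2 : ∀ b ∈ A.image f, (A.filter (fun a => f a = b)).card = 2 := by
    intro b hb
    obtain ⟨a, ha, rfl⟩ := Finset.mem_image.mp hb
    have hfil : A.filter (fun x => f x = f a) = {a, a⁻¹} := by
      ext x
      simp only [Finset.mem_filter, Finset.mem_insert, Finset.mem_singleton]
      constructor
      · rintro ⟨hx, hfx⟩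
        exact (hf a ha x hx).mp hfx.symm
      · rintro (rfl | rfl)
        · exact ⟨ha, rfl⟩
        · exact ⟨hinv a ha, ((hf a ha _ (hinv a ha)).mpr (Or.inr rfl)).symm⟩
    rw [hfil, Finset.card_pair (hne a ha)]
  rw [Finset.sum_congr rfl h2, Finset.sum_const, smul_eq_mul, mul_comm]

/-- the number of irreducible characters with a property, as the cardinality of a finset. -/
theorem natCard_irr_eq {G : Type*} [Group G] (P : (G → ℂ) → Prop) (S : Finset (G → ℂ))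
    (hS : ∀ χ : G → ℂ, (Cfsg.IsIrrCharacter G χ ∧ P χ) ↔ χ ∈ S) :
    Nat.card {χ : Cfsg.IrrCharacter G // P (χ : G → ℂ)} = S.card := by
  have e1 : {χ : Cfsg.IrrCharacter G // P (χ : G → ℂ)} ≃
      {χ : G → ℂ // Cfsg.IsIrrCharacter G χ ∧ P χ} :=
    Equiv.subtypeSubtypeEquivSubtypeInter (Cfsg.IsIrrCharacter G) P
  have e2 : {χ : G → ℂ // Cfsg.IsIrrCharacter G χ ∧ P χ} ≃ {χ : G → ℂ // χ ∈ S} :=
    Equiv.subtypeEquivRight hS
  rw [Nat.card_congr (e1.trans e2), Nat.card_eq_fintype_card, Fintype.card_coe]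

variable {F : Type*} [Field F]

section fin
variable [Fintype F] [DecidableEq F] {t : F}

/-! ### types by degree -/

theorem type_one (hq : 4 ≤ Fintype.card F) (ht : Ellt t)
    {χ : SpecialLinearGroup (Fin 2) F → ℂ}
    (hχ : Cfsg.IsIrrCharacter (SpecialLinearGroup (Fin 2) F) χ) (hdeg : χ 1 = 1) :
    χ = fun _ => (1 : ℂ) := by
  obtain ⟨n, hn, hcases⟩ := natDegree_cases ht hχ
  rw [hn] at hdeg
  have hn' : n = 1 := by exact_mod_cast hdeg
  rcases hcases with ⟨-, h⟩ | ⟨h1, -⟩ | ⟨h1, -⟩ | ⟨h1, -⟩ | ⟨⟨k, hk⟩, h1, -⟩ | ⟨⟨k, hk⟩, h1, -⟩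
  · exact h
  · omega
  · omega
  · omega
  · omega
  · omega

theorem type_add_one (hq : 4 ≤ Fintype.card F) (ht : Ellt t)
    {χ : SpecialLinearGroup (Fin 2) F → ℂ}
    (hχ : Cfsg.IsIrrCharacter (SpecialLinearGroup (Fin 2) F) χ)
    (hdeg : χ 1 = (Fintype.card F : ℂ) + 1) : ∃ α : MulChar F ℂ, α ^ 2 ≠ 1 ∧ χ = Rind α := by
  obtain ⟨n, hn, hcases⟩ := natDegree_cases ht hχ
  rw [hn] at hdeg
  have hn' : n = Fintype.card F + 1 := by exact_mod_cast hdeg
  rcases hcases with ⟨h1, -⟩ | ⟨h1, -⟩ | ⟨-, h⟩ | ⟨h1, -⟩ | ⟨⟨k, hk⟩, h1, -⟩ | ⟨⟨k, hk⟩, h1, -⟩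
  · omega
  · omega
  · exact h
  · omega
  · omega
  · omega

theorem type_sub_one (hq : 4 ≤ Fintype.card F) (ht : Ellt t)
    {χ : SpecialLinearGroup (Fin 2) F → ℂ}
    (hχ : Cfsg.IsIrrCharacter (SpecialLinearGroup (Fin 2) F) χ)
    (hdeg : χ 1 = (Fintype.card F : ℂ) - 1) : ∃ θ : Tc t →* ℂˣ, θ ≠ θ⁻¹ ∧ χ = cuspOf θ := by
  obtain ⟨n, hn, hcases⟩ := natDegree_cases ht hχ
  rw [hn] at hdeg
  have hn' : n = Fintype.card F - 1 := by
    have h' : (n : ℂ) = ((Fintype.card F - 1 : ℕ) : ℂ) := by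
      rw [hdeg, Nat.cast_sub (by omega), Nat.cast_one]
    exact_mod_cast h'
  rcases hcases with ⟨h1, -⟩ | ⟨h1, -⟩ | ⟨h1, -⟩ | ⟨-, h⟩ | ⟨⟨k, hk⟩, h1, -⟩ | ⟨⟨k, hk⟩, h1, -⟩
  · omega
  · omega
  · omega
  · exact h
  · omega
  · omega

/-! ### the fibres of the two parametrisations -/

theorem Rind_eq_iff {α β : MulChar F ℂ} (hα : α ^ 2 ≠ 1) (hβ : β ^ 2 ≠ 1) :
    Rind α = Rind β ↔ (β = α ∨ β = α⁻¹) := by
  classical
  have hiα := (isIrrCharacter_Rind_iff α).mpr hα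
  have hiβ := (isIrrCharacter_Rind_iff β).mpr hβ
  constructor
  · intro h
    have h1 : Cfsg.classInner (Rind α) (Rind β) = 1 := by rw [← h, classInner_irr_self hiα]
    rw [classInner_Rind] at h1
    by_cases e1 : α = β
    · exact Or.inl e1.symm
    · by_cases e2 : α = β⁻¹
      · right
        rw [e2, inv_inv]
      · rw [if_neg e1, if_neg e2] at h1
        norm_num at h1
  · rintro (rfl | rfl)
    · rfl
    · by_contra hne
      have h0 := classInner_irr_ne hiα hiβ hne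
      rw [classInner_Rind, inv_inv, if_pos rfl] at h0
      split_ifs at h0 <;> norm_num at h0

theorem cuspOf_eq_iff (ht : Ellt t) {θ θ' : Tc t →* ℂˣ} (hθ : θ ≠ θ⁻¹) (hθ' : θ' ≠ θ'⁻¹) :
    cuspOf θ = cuspOf θ' ↔ (θ' = θ ∨ θ' = θ⁻¹) := by
  classical
  haveI : Fintype (Tc t) := Fintype.ofFinite _
  have hi := isIrrCharacter_cuspOf ht hθ
  have hi' := isIrrCharacter_cuspOf ht hθ'
  have hinner : Cfsg.classInner (cuspOf θ) (cuspOf θ') =
      (if θ = θ' then 1 else 0) + (if θ = θ'⁻¹ then 1 else 0) := by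
    unfold cuspOf
    rw [classInner_cusp_cusp ht _ _ θ θ' (compat_alphaOf θ) (compat_alphaOf θ'), classInner_thT,
      classInner_thT]
  constructor
  · intro h
    have h1 : Cfsg.classInner (cuspOf θ) (cuspOf θ') = 1 := by rw [← h, classInner_irr_self hi]
    rw [hinner] at h1
    by_cases e1 : θ = θ'
    · exact Or.inl e1.symm
    · by_cases e2 : θ = θ'⁻¹
      · right
        apply MonoidHom.ext
        intro x
        have := congrArg (fun φ : Tc t →* ℂˣ => φ x) e2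
        simp only [MonoidHom.inv_apply] at this
        rw [MonoidHom.inv_apply, this, inv_inv]
      · rw [if_neg e1, if_neg e2] at h1
        norm_num at h1
  · rintro (rfl | rfl)
    · rfl
    · by_contra hne
      have h0 := classInner_irr_ne hi hi' hne
      rw [hinner] at h0
      have e : θ = θ⁻¹⁻¹ := by
        apply MonoidHom.ext
        intro x
        rw [MonoidHom.inv_apply, MonoidHom.inv_apply, inv_inv]
      rw [if_pos e] at h0
      split_ifs at h0 <;> norm_num at h0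

/-! ### the counts -/

theorem natCard_subtype_not {X : Type*} [Finite X] (P : X → Prop) :
    Nat.card {x : X // ¬ P x} = Nat.card X - Nat.card {x : X // P x} := by
  classical
  haveI := Fintype.ofFinite X
  rw [Nat.card_eq_fintype_card, Nat.card_eq_fintype_card, Nat.card_eq_fintype_card,
    Fintype.card_subtype_compl]

theorem natCard_subtype_eq_card_filter {X : Type*} [Fintype X] (P : X → Prop) [DecidablePred P] :
    Nat.card {x : X // P x} = (Finset.univ.filter P).card := by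
  rw [Nat.card_eq_fintype_card, Fintype.card_subtype]

/-- twice the number of irreducible characters of degree `q + 1`. -/
theorem two_mul_card_deg_add_one (hq : 4 ≤ Fintype.card F) :
    2 * Nat.card {χ : Cfsg.IrrCharacter (SpecialLinearGroup (Fin 2) F) //
      (χ : SpecialLinearGroup (Fin 2) F → ℂ) 1 = (Fintype.card F : ℂ) + 1} =
      Nat.card {α : MulChar F ℂ // α ^ 2 ≠ 1} := by
  classical
  haveI : Fintype (MulChar F ℂ) := Fintype.ofFinite _
  obtain ⟨t, ht⟩ := exists_ellt (F := F)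
  set A : Finset (MulChar F ℂ) := Finset.univ.filter (fun α => α ^ 2 ≠ 1) with hA
  have hmemA : ∀ α : MulChar F ℂ, α ∈ A ↔ α ^ 2 ≠ 1 := by
    intro α
    rw [hA, Finset.mem_filter]
    exact ⟨fun h => h.2, fun h => ⟨Finset.mem_univ _, h⟩⟩
  have hS : ∀ χ : SpecialLinearGroup (Fin 2) F → ℂ,
      (Cfsg.IsIrrCharacter (SpecialLinearGroup (Fin 2) F) χ ∧ χ 1 = (Fintype.card F : ℂ) + 1) ↔
        χ ∈ A.image Rind := by
    intro χ
    rw [Finset.mem_image]
    constructor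
    · rintro ⟨hχ, hdeg⟩
      obtain ⟨α, hα, rfl⟩ := type_add_one hq ht hχ hdeg
      exact ⟨α, (hmemA α).mpr hα, rfl⟩
    · rintro ⟨α, hα, rfl⟩
      exact ⟨(isIrrCharacter_Rind_iff α).mpr ((hmemA α).mp hα), Rind_one α⟩
  rw [natCard_irr_eq (fun χ => χ 1 = (Fintype.card F : ℂ) + 1) (A.image Rind) hS,
    natCard_subtype_eq_card_filter]
  symm
  apply card_eq_two_mul_card_image A Rind
  · intro α hα
    rw [hmemA] at hα ⊢
    intro h
    apply hα
    rw [inv_pow, inv_eq_one] at h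
    exact h
  · intro α hα h
    apply (hmemA α).mp hα
    rw [pow_two]
    exact mul_eq_one_iff_eq_inv.mpr h
  · intro α hα β hβ
    exact Rind_eq_iff ((hmemA α).mp hα) ((hmemA β).mp hβ)

/-- twice the number of irreducible characters of degree `q - 1`. -/
theorem two_mul_card_deg_sub_one (hq : 4 ≤ Fintype.card F) (ht : Ellt t) :
    2 * Nat.card {χ : Cfsg.IrrCharacter (SpecialLinearGroup (Fin 2) F) //
      (χ : SpecialLinearGroup (Fin 2) F → ℂ) 1 = (Fintype.card F : ℂ) - 1} =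
      Nat.card {θ : Tc t →* ℂˣ // θ ≠ θ⁻¹} := by
  classical
  haveI := finite_hom_Tc t
  haveI : Fintype (Tc t →* ℂˣ) := Fintype.ofFinite _
  set A : Finset (Tc t →* ℂˣ) := Finset.univ.filter (fun θ => θ ≠ θ⁻¹) with hA
  have hmemA : ∀ θ : Tc t →* ℂˣ, θ ∈ A ↔ θ ≠ θ⁻¹ := by
    intro θ
    rw [hA, Finset.mem_filter]
    exact ⟨fun h => h.2, fun h => ⟨Finset.mem_univ _, h⟩⟩
  have hS : ∀ χ : SpecialLinearGroup (Fin 2) F → ℂ,
      (Cfsg.IsIrrCharacter (SpecialLinearGroup (Fin 2) F) χ ∧ χ 1 = (Fintype.card F : ℂ) - 1) ↔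
        χ ∈ A.image cuspOf := by
    intro χ
    rw [Finset.mem_image]
    constructor
    · rintro ⟨hχ, hdeg⟩
      obtain ⟨θ, hθ, rfl⟩ := type_sub_one hq ht hχ hdeg
      exact ⟨θ, (hmemA θ).mpr hθ, rfl⟩
    · rintro ⟨θ, hθ, rfl⟩
      exact ⟨isIrrCharacter_cuspOf ht ((hmemA θ).mp hθ), cuspOf_one ht θ⟩
  rw [natCard_irr_eq (fun χ => χ 1 = (Fintype.card F : ℂ) - 1) (A.image cuspOf) hS,
    natCard_subtype_eq_card_filter]
  symm
  apply card_eq_two_mul_card_image A cuspOf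
  · intro θ hθ
    rw [hmemA] at hθ ⊢
    intro h
    apply hθ
    apply MonoidHom.ext
    intro x
    have := congrArg (fun φ : Tc t →* ℂˣ => φ x) h
    simp only [MonoidHom.inv_apply, inv_inv] at this
    rw [MonoidHom.inv_apply]
    exact this.symm
  · intro θ hθ
    exact (hmemA θ).mp hθ
  · intro θ hθ θ' hθ'
    exact cuspOf_eq_iff ht ((hmemA θ).mp hθ) ((hmemA θ').mp hθ')

/-! ### counting the parameters -/

theorem natCard_mulChar : Nat.card (MulChar F ℂ) = Fintype.card F - 1 := by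
  classical
  haveI : Fintype (MulChar F ℂ) := Fintype.ofFinite _
  rw [Nat.card_eq_fintype_card, card_mulChar]

theorem exists_mulChar_order_two (hodd : Odd (Fintype.card F)) :
    ∃ α : MulChar F ℂ, α ^ 2 = 1 ∧ α ≠ 1 := by
  classical
  haveI : Fintype (MulChar F ℂ) := Fintype.ofFinite _
  have hq2 : 2 ≤ Fintype.card F := Fintype.one_lt_card
  obtain ⟨k, hk⟩ := hodd
  have hdvd : 2 ∣ Fintype.card (MulChar F ℂ) := by
    rw [card_mulChar, hk]
    exact ⟨k, by omega⟩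
  obtain ⟨α, hα⟩ := exists_prime_orderOf_dvd_card 2 hdvd
  refine ⟨α, ?_, ?_⟩
  · have := pow_orderOf_eq_one α
    rw [hα] at this
    exact this
  · intro h
    rw [h, orderOf_one] at hα
    omega

theorem exists_hom_order_two (hodd : Odd (Fintype.card F)) (ht : Ellt t) :
    ∃ θ : Tc t →* ℂˣ, θ = θ⁻¹ ∧ θ ≠ 1 := by
  classical
  haveI := finite_hom_Tc t
  obtain ⟨k, hk⟩ := hodd
  have hdvd : 2 ∣ Nat.card (Tc t →* ℂˣ) := by
    rw [natCard_hom_Tc, card_Tc ht, hk]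
    exact ⟨k + 1, by omega⟩
  obtain ⟨θ, hθ⟩ := exists_prime_orderOf_dvd_card' 2 hdvd
  refine ⟨θ, ?_, ?_⟩
  · have h2 : θ ^ 2 = 1 := by
      have := pow_orderOf_eq_one θ
      rw [hθ] at this
      exact this
    rw [pow_two] at h2
    exact mul_eq_one_iff_eq_inv.mp h2
  · intro h
    rw [h, orderOf_one] at hθ
    omega

theorem natCard_mulChar_sq_eq_one_odd (hodd : Odd (Fintype.card F)) :
    Nat.card {α : MulChar F ℂ // α ^ 2 = 1} = 2 := by
  obtain ⟨α₀, h2, h1⟩ := exists_mulChar_order_two hodd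
  rw [Nat.card_eq_two_iff]
  refine ⟨⟨1, one_pow 2⟩, ⟨α₀, h2⟩, ?_, ?_⟩
  · intro h
    apply h1
    exact (congrArg Subtype.val h).symm
  · ext ⟨β, hβ⟩
    simp only [Set.mem_insert_iff, Set.mem_singleton_iff, Set.mem_univ, iff_true, Subtype.mk.injEq]
    by_cases hβ1 : β = 1
    · exact Or.inl hβ1
    · exact Or.inr (mulChar_eq_of_order_two hβ hβ1 h2 h1)

theorem natCard_mulChar_sq_eq_one_even (heven : Even (Fintype.card F)) :
    Nat.card {α : MulChar F ℂ // α ^ 2 = 1} = 1 := by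
  rw [Nat.card_eq_one_iff_unique]
  refine ⟨⟨?_⟩, ⟨⟨1, one_pow 2⟩⟩⟩
  rintro ⟨α, hα⟩ ⟨β, hβ⟩
  apply Subtype.ext
  have key : ∀ γ : MulChar F ℂ, γ ^ 2 = 1 → γ = 1 := by
    intro γ hγ
    by_contra hne
    exact (Nat.not_even_iff_odd.mpr (odd_of_mulChar_order_two hγ hne)) heven
  change α = β
  rw [key α hα, key β hβ]

theorem natCard_hom_eq_inv_odd (hodd : Odd (Fintype.card F)) (ht : Ellt t) :
    Nat.card {θ : Tc t →* ℂˣ // θ = θ⁻¹} = 2 := by
  obtain ⟨θ₀, h2, h1⟩ := exists_hom_order_two hodd ht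
  rw [Nat.card_eq_two_iff]
  refine ⟨⟨1, ?_⟩, ⟨θ₀, h2⟩, ?_, ?_⟩
  · apply MonoidHom.ext
    intro x
    simp
  · intro h
    apply h1
    exact (congrArg Subtype.val h).symm
  · ext ⟨θ, hθ⟩
    simp only [Set.mem_insert_iff, Set.mem_singleton_iff, Set.mem_univ, iff_true, Subtype.mk.injEq]
    by_cases hθ1 : θ = 1
    · exact Or.inl hθ1
    · exact Or.inr (hom_eq_of_order_two ht hθ h2 hθ1 h1)

theorem natCard_hom_eq_inv_even (heven : Even (Fintype.card F)) (ht : Ellt t) :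
    Nat.card {θ : Tc t →* ℂˣ // θ = θ⁻¹} = 1 := by
  rw [Nat.card_eq_one_iff_unique]
  have h11 : (1 : Tc t →* ℂˣ) = 1⁻¹ := by
    apply MonoidHom.ext
    intro x
    simp
  refine ⟨⟨?_⟩, ⟨⟨1, h11⟩⟩⟩
  rintro ⟨θ, hθ⟩ ⟨θ', hθ'⟩
  apply Subtype.ext
  have key : ∀ γ : Tc t →* ℂˣ, γ = γ⁻¹ → γ = 1 := by
    intro γ hγ
    by_contra hne
    exact (Nat.not_even_iff_odd.mpr (odd_of_hom_order_two ht hγ hne)) heven
  change θ = θ'
  rw [key θ hθ, key θ' hθ']

theorem natCard_mulChar_sq_ne_one_odd (hodd : Odd (Fintype.card F)) :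
    Nat.card {α : MulChar F ℂ // α ^ 2 ≠ 1} = Fintype.card F - 3 := by
  haveI : Finite (MulChar F ℂ) := inferInstance
  rw [natCard_subtype_not, natCard_mulChar, natCard_mulChar_sq_eq_one_odd hodd]
  omega

theorem natCard_mulChar_sq_ne_one_even (heven : Even (Fintype.card F)) :
    Nat.card {α : MulChar F ℂ // α ^ 2 ≠ 1} = Fintype.card F - 2 := by
  haveI : Finite (MulChar F ℂ) := inferInstance
  rw [natCard_subtype_not, natCard_mulChar, natCard_mulChar_sq_eq_one_even heven]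
  omega

theorem natCard_hom_ne_inv_odd (hodd : Odd (Fintype.card F)) (ht : Ellt t) :
    Nat.card {θ : Tc t →* ℂˣ // θ ≠ θ⁻¹} = Fintype.card F - 1 := by
  haveI := finite_hom_Tc t
  rw [natCard_subtype_not, natCard_hom_Tc, card_Tc ht, natCard_hom_eq_inv_odd hodd ht]
  omega

theorem natCard_hom_ne_inv_even (heven : Even (Fintype.card F)) (ht : Ellt t) :
    Nat.card {θ : Tc t →* ℂˣ // θ ≠ θ⁻¹} = Fintype.card F := by
  haveI := finite_hom_Tc t
  rw [natCard_subtype_not, natCard_hom_Tc, card_Tc ht, natCard_hom_eq_inv_even heven ht]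
  omega

/-! ### the remaining degrees -/

theorem natCard_deg_one (hq : 4 ≤ Fintype.card F) :
    Nat.card {χ : Cfsg.IrrCharacter (SpecialLinearGroup (Fin 2) F) //
      (χ : SpecialLinearGroup (Fin 2) F → ℂ) 1 = 1} = 1 := by
  obtain ⟨t, ht⟩ := exists_ellt (F := F)
  rw [natCard_irr_eq (fun χ => χ 1 = 1) {fun _ => (1 : ℂ)}, Finset.card_singleton]
  intro χ
  rw [Finset.mem_singleton]
  constructor
  · rintro ⟨hχ, hdeg⟩
    exact type_one hq ht hχ hdeg
  · rintro rfl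
    exact ⟨isIrrCharacter_triv, rfl⟩

theorem natCard_deg_q :
    Nat.card {χ : Cfsg.IrrCharacter (SpecialLinearGroup (Fin 2) F) //
      (χ : SpecialLinearGroup (Fin 2) F → ℂ) 1 = (Fintype.card F : ℂ)} = 1 := by
  rw [natCard_irr_eq (fun χ => χ 1 = (Fintype.card F : ℂ)) {St}, Finset.card_singleton]
  intro χ
  rw [Finset.mem_singleton]
  constructor
  · rintro ⟨hχ, hdeg⟩
    exact eq_St_of_degree hχ hdeg
  · rintro rfl
    exact ⟨isIrrCharacter_St, St_one⟩

theorem natCard_deg_half_add (hodd : Odd (Fintype.card F)) (hq : 5 ≤ Fintype.card F) :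
    Nat.card {χ : Cfsg.IrrCharacter (SpecialLinearGroup (Fin 2) F) //
      (χ : SpecialLinearGroup (Fin 2) F → ℂ) 1 = (((Fintype.card F + 1) / 2 : ℕ) : ℂ)} = 2 := by
  classical
  obtain ⟨t, ht⟩ := exists_ellt (F := F)
  obtain ⟨α₀, h2, h1⟩ := exists_mulChar_order_two hodd
  obtain ⟨η, η', ν, hp⟩ := exists_halfPair_ps hodd α₀ h2 h1
  rw [natCard_irr_eq (fun χ => χ 1 = (((Fintype.card F + 1) / 2 : ℕ) : ℂ)) {η, η'},
    Finset.card_pair hp.ne]
  intro χ
  rw [Finset.mem_insert, Finset.mem_singleton]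
  constructor
  · rintro ⟨hχ, hdeg⟩
    obtain ⟨α, χ', ν', hα2, hα1, hp'⟩ := type_half_add hodd hq ht hχ hdeg
    have hα : α = α₀ := mulChar_eq_of_order_two hα2 hα1 h2 h1
    subst hα
    exact hp.eq_or_eq hχ (by rw [hp'.classInner_left]; exact one_ne_zero)
  · rintro (rfl | rfl)
    · exact ⟨hp.irr, hp.degree_ps hodd⟩
    · exact ⟨hp.irr', hp.symm.degree_ps hodd⟩

theorem natCard_deg_half_sub (hodd : Odd (Fintype.card F)) (hq : 5 ≤ Fintype.card F) :
    Nat.card {χ : Cfsg.IrrCharacter (SpecialLinearGroup (Fin 2) F) //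
      (χ : SpecialLinearGroup (Fin 2) F → ℂ) 1 = (((Fintype.card F - 1) / 2 : ℕ) : ℂ)} = 2 := by
  classical
  obtain ⟨t, ht⟩ := exists_ellt (F := F)
  obtain ⟨θ₀, h2, h1⟩ := exists_hom_order_two hodd ht
  obtain ⟨η, η', ν, hp, -, -⟩ := exists_halfPair_cusp hodd ht h2 h1
  rw [natCard_irr_eq (fun χ => χ 1 = (((Fintype.card F - 1) / 2 : ℕ) : ℂ)) {η, η'},
    Finset.card_pair hp.ne]
  intro χ
  rw [Finset.mem_insert, Finset.mem_singleton]
  constructor
  · rintro ⟨hχ, hdeg⟩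
    obtain ⟨θ, χ', ν', hθ2, hθ1, hp'⟩ := type_half_sub hodd hq ht hχ hdeg
    have hθ : θ = θ₀ := hom_eq_of_order_two ht hθ2 h2 hθ1 h1
    subst hθ
    exact hp.eq_or_eq hχ (by rw [hp'.classInner_left]; exact one_ne_zero)
  · rintro (rfl | rfl)
    · exact ⟨hp.irr, hp.degree_cusp hodd ht⟩
    · exact ⟨hp.irr', hp.symm.degree_cusp hodd ht⟩

end fin

end Cfsg.Agent.Helper8.SL2C
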