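import Mathlib
import Cfsg.Agent.Helper8.McKA
import Cfsg.Agent.Helper8.SL2Count
import Cfsg.Agent.S2325

set_option autoImplicit false

/-!
The global side of the McKay equality for `SL₂(F)`, `|F|` odd: counting irreducible characters
by degree.
-/

namespace Cfsg.Agent.Helper8.McK

open Matrix Cfsg Cfsg.Agent.Helper6 Cfsg.Agent.Helper8.SL2C
open Cfsg.Agent.Helper7.SL2 Cfsg.Agent.S2437

variable {F : Type*} [Field F] [Fintype F]

/-- the possible degrees. -/
theorem degree_cases
    (χ : Cfsg.IrrCharacter (SpecialLinearGroup (Fin 2) F)) :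
    Cfsg.charDegree (χ : SpecialLinearGroup (Fin 2) F → ℂ) = 1 ∨
    Cfsg.charDegree (χ : SpecialLinearGroup (Fin 2) F → ℂ) = Fintype.card F ∨
    Cfsg.charDegree (χ : SpecialLinearGroup (Fin 2) F → ℂ) = Fintype.card F + 1 ∨
    Cfsg.charDegree (χ : SpecialLinearGroup (Fin 2) F → ℂ) = Fintype.card F - 1 ∨
    Cfsg.charDegree (χ : SpecialLinearGroup (Fin 2) F → ℂ) = (Fintype.card F + 1) / 2 ∨
    Cfsg.charDegree (χ : SpecialLinearGroup (Fin 2) F → ℂ) = (Fintype.card F - 1) / 2 := by
  classical
  obtain ⟨t, ht⟩ := exists_ellt (F := F)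
  obtain ⟨n, hn, hc⟩ := natDegree_cases ht χ.2
  have hd : Cfsg.charDegree (χ : SpecialLinearGroup (Fin 2) F → ℂ) = n :=
    (charDegree_eq_iff χ n).mpr hn
  rw [hd]
  rcases hc with ⟨h, -⟩ | ⟨h, -⟩ | ⟨h, -⟩ | ⟨h, -⟩ | ⟨-, h, -⟩ | ⟨-, h, -⟩
  · exact Or.inl h
  · exact Or.inr (Or.inl h)
  · exact Or.inr (Or.inr (Or.inl h))
  · exact Or.inr (Or.inr (Or.inr (Or.inl h)))
  · exact Or.inr (Or.inr (Or.inr (Or.inr (Or.inl h))))
  · exact Or.inr (Or.inr (Or.inr (Or.inr (Or.inr h))))

/-- number of irreducible characters of a given natural degree. -/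
noncomputable def cdeg (F : Type*) [Field F] (d : ℕ) : ℕ :=
  Nat.card {χ : Cfsg.IrrCharacter (SpecialLinearGroup (Fin 2) F) //
    Cfsg.charDegree (χ : SpecialLinearGroup (Fin 2) F → ℂ) = d}

theorem cdeg_eq (d : ℕ) : cdeg F d =
    Nat.card {χ : Cfsg.IrrCharacter (SpecialLinearGroup (Fin 2) F) //
      (χ : SpecialLinearGroup (Fin 2) F → ℂ) 1 = (d : ℂ)} :=
  Nat.card_congr (Equiv.subtypeEquivRight (fun χ => charDegree_eq_iff χ d))

theorem cdeg_q : cdeg F (Fintype.card F) = 1 := by
  classical
  rw [cdeg_eq]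
  exact natCard_deg_q

theorem cdeg_one (hq : 4 ≤ Fintype.card F) : cdeg F 1 = 1 := by
  classical
  rw [cdeg_eq, Nat.cast_one]
  exact natCard_deg_one hq

theorem cdeg_add_one (hodd : Odd (Fintype.card F)) (hq : 4 ≤ Fintype.card F) :
    2 * cdeg F (Fintype.card F + 1) = Fintype.card F - 3 := by
  classical
  rw [cdeg_eq, Nat.cast_add, Nat.cast_one, two_mul_card_deg_add_one hq,
    natCard_mulChar_sq_ne_one_odd hodd]

theorem cdeg_sub_one (hodd : Odd (Fintype.card F)) (hq : 4 ≤ Fintype.card F) :
    2 * cdeg F (Fintype.card F - 1) = Fintype.card F - 1 := by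
  classical
  obtain ⟨t, ht⟩ := exists_ellt (F := F)
  rw [cdeg_eq, Nat.cast_sub (by omega), Nat.cast_one, two_mul_card_deg_sub_one hq ht,
    natCard_hom_ne_inv_odd hodd ht]

theorem cdeg_half_add (hodd : Odd (Fintype.card F)) (hq : 5 ≤ Fintype.card F) :
    cdeg F ((Fintype.card F + 1) / 2) = 2 := by
  classical
  rw [cdeg_eq]
  exact natCard_deg_half_add hodd hq

theorem cdeg_half_sub (hodd : Odd (Fintype.card F)) (hq : 5 ≤ Fintype.card F) :
    cdeg F ((Fintype.card F - 1) / 2) = 2 := by
  classical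
  rw [cdeg_eq]
  exact natCard_deg_half_sub hodd hq

/-- counting the characters whose degree satisfies a predicate. -/
theorem card_pred_degree (hodd : Odd (Fintype.card F)) (hq : 5 ≤ Fintype.card F)
    (P : ℕ → Prop) [DecidablePred P] :
    2 * Nat.card {χ : Cfsg.IrrCharacter (SpecialLinearGroup (Fin 2) F) //
        P (Cfsg.charDegree (χ : SpecialLinearGroup (Fin 2) F → ℂ))} =
      (if P 1 then 2 else 0) + (if P (Fintype.card F) then 2 else 0) +
      (if P (Fintype.card F + 1) then Fintype.card F - 3 else 0) +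
      (if P (Fintype.card F - 1) then Fintype.card F - 1 else 0) +
      (if P ((Fintype.card F + 1) / 2) then 4 else 0) +
      (if P ((Fintype.card F - 1) / 2) then 4 else 0) := by
  classical
  have : Finite (Cfsg.IrrCharacter (SpecialLinearGroup (Fin 2) F)) := irr_finite
  have : Fintype (Cfsg.IrrCharacter (SpecialLinearGroup (Fin 2) F)) := Fintype.ofFinite _
  obtain ⟨j, hj⟩ := hodd
  have hj2 : 2 ≤ j := by omega
  set f : Cfsg.IrrCharacter (SpecialLinearGroup (Fin 2) F) → ℕ :=
    fun χ => Cfsg.charDegree (χ : SpecialLinearGroup (Fin 2) F → ℂ) with hf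
  have hodd' : Odd (Fintype.card F) := ⟨j, hj⟩
  have hmaps : ∀ χ ∈ Finset.univ.filter (fun χ => P (f χ)),
      f χ ∈ ({1, 2 * j + 1, 2 * j + 2, 2 * j, j + 1, j} : Finset ℕ) := by
    intro χ _
    have := degree_cases χ
    rw [hj] at this
    simp only [Finset.mem_insert, Finset.mem_singleton]
    rcases this with h | h | h | h | h | h
    · exact Or.inl h
    · exact Or.inr (Or.inl h)
    · exact Or.inr (Or.inr (Or.inl h))
    · right; right; right; left
      rw [hf]; dsimp only; rw [h]; omega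
    · right; right; right; right; left
      rw [hf]; dsimp only; rw [h]; omega
    · right; right; right; right; right
      rw [hf]; dsimp only; rw [h]; omega
  have hfib : ∀ d : ℕ, ((Finset.univ.filter (fun χ => P (f χ))).filter (fun χ => f χ = d)).card =
      if P d then cdeg F d else 0 := by
    intro d
    split_ifs with hP
    · unfold cdeg
      rw [natCard_subtype_eq_card_filter]
      congr 1
      ext χ
      simp only [Finset.mem_filter, Finset.mem_univ, true_and]
      constructor
      · rintro ⟨-, h⟩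
        exact h
      · intro h
        refine ⟨?_, h⟩
        change P (Cfsg.charDegree (χ : SpecialLinearGroup (Fin 2) F → ℂ))
        rw [h]
        exact hP
    · rw [Finset.card_eq_zero, Finset.filter_eq_empty_iff]
      intro χ hχ h
      rw [Finset.mem_filter] at hχ
      apply hP
      rw [← h]
      exact hχ.2
  rw [natCard_subtype_eq_card_filter, Finset.card_eq_sum_card_fiberwise hmaps]
  simp only [hfib]
  have c1 := cdeg_one (F := F) (by omega)
  have c2 := cdeg_q (F := F)
  have c3 := cdeg_add_one hodd' (by omega)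
  have c4 := cdeg_sub_one hodd' (by omega)
  have c5 := cdeg_half_add hodd' hq
  have c6 := cdeg_half_sub hodd' hq
  rw [hj] at c2 c3 c4 c5 c6 ⊢
  have e1 : 2 * j + 1 + 1 = 2 * j + 2 := by ring
  have e2 : 2 * j + 1 - 1 = 2 * j := by omega
  have e3 : (2 * j + 2) / 2 = j + 1 := by omega
  have e4 : (2 * j) / 2 = j := by omega
  have e5 : 2 * j + 1 - 3 = 2 * j - 2 := by omega
  rw [e1] at c3 c5 ⊢
  rw [e2] at c4 c6 ⊢
  rw [e3] at c5 ⊢
  rw [e4] at c6 ⊢
  rw [e5] at c3 ⊢
  rw [Finset.sum_insert (by simp only [Finset.mem_insert, Finset.mem_singleton]; omega),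
    Finset.sum_insert (by simp only [Finset.mem_insert, Finset.mem_singleton]; omega),
    Finset.sum_insert (by simp only [Finset.mem_insert, Finset.mem_singleton]; omega),
    Finset.sum_insert (by simp only [Finset.mem_insert, Finset.mem_singleton]; omega),
    Finset.sum_insert (by simp only [Finset.mem_singleton]; omega), Finset.sum_singleton]
  by_cases p1 : P 1 <;> by_cases p2 : P (2 * j + 1) <;> by_cases p3 : P (2 * j + 2) <;>
    by_cases p4 : P (2 * j) <;> by_cases p5 : P (j + 1) <;> by_cases p6 : P j <;>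
    simp only [p1, p2, p3, p4, p5, p6, if_true, if_false] <;> omega

end Cfsg.Agent.Helper8.McK
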