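import Mathlib
import Cfsg.Agent.Helper8.McKB

set_option autoImplicit false

/-!
The global side of the McKay equality for `SL₂(F)`, `|F|` odd: the counts for each kind of prime.
-/

namespace Cfsg.Agent.Helper8.McK

open Matrix Cfsg Cfsg.Agent.Helper6 Cfsg.Agent.Helper8.SL2C
open Cfsg.Agent.Helper7.SL2 Cfsg.Agent.S2437

variable {F : Type*} [Field F] [Fintype F]

theorem char_dvd_card (p : ℕ) [Fact p.Prime] [CharP F p] : p ∣ Fintype.card F := by
  rw [← CharP.cast_eq_zero_iff F p]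
  exact Nat.cast_card_eq_zero F

/-- the defining characteristic: all characters but the Steinberg character. -/
theorem lhs_p (hodd : Odd (Fintype.card F)) (p : ℕ) [Fact p.Prime] [CharP F p] :
    Nat.card {χ : Cfsg.IrrCharacter (SpecialLinearGroup (Fin 2) F) //
        ¬ p ∣ Cfsg.charDegree (χ : SpecialLinearGroup (Fin 2) F → ℂ)} = Fintype.card F + 3 := by
  classical
  have hp : p.Prime := Fact.out
  have hpq := char_dvd_card (F := F) p
  have : Finite (Cfsg.IrrCharacter (SpecialLinearGroup (Fin 2) F)) := irr_finite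
  rw [natCard_subtype_not, card_irr_eq_card_conjClasses, Cfsg.Agent.S2325.result hodd]
  have h1 : Nat.card {χ : Cfsg.IrrCharacter (SpecialLinearGroup (Fin 2) F) //
      p ∣ Cfsg.charDegree (χ : SpecialLinearGroup (Fin 2) F → ℂ)} = cdeg F (Fintype.card F) := by
    unfold cdeg
    apply Nat.card_congr
    apply Equiv.subtypeEquivRight
    intro χ
    constructor
    · intro h
      obtain ⟨j, hj⟩ := hodd
      have hp1 : ¬ p ∣ 1 := hp.one_lt.ne' ∘ Nat.dvd_one.mp
      rcases degree_cases χ with e | e | e | e | e | e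
      · rw [e] at h
        exact absurd h hp1
      · exact e
      · rw [e] at h
        exact absurd ((Nat.dvd_add_right hpq).mp h) hp1
      · rw [e] at h
        exfalso
        apply hp1
        have h2 : p ∣ (Fintype.card F - 1) + 1 := by
          rw [Nat.sub_add_cancel Fintype.card_pos]
          exact hpq
        exact (Nat.dvd_add_right h).mp h2
      · rw [e] at h
        exfalso
        apply hp1
        have h2 : p ∣ Fintype.card F + 1 := by
          have : Fintype.card F + 1 = 2 * ((Fintype.card F + 1) / 2) := by omega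
          rw [this]
          exact Dvd.dvd.mul_left h 2
        exact (Nat.dvd_add_right hpq).mp h2
      · rw [e] at h
        exfalso
        apply hp1
        have h2 : p ∣ Fintype.card F - 1 := by
          have : Fintype.card F - 1 = 2 * ((Fintype.card F - 1) / 2) := by omega
          rw [this]
          exact Dvd.dvd.mul_left h 2
        have h3 : p ∣ (Fintype.card F - 1) + 1 := by
          rw [Nat.sub_add_cancel Fintype.card_pos]
          exact hpq
        exact (Nat.dvd_add_right h2).mp h3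
    · intro h
      rw [h]
      exact hpq
  rw [h1, cdeg_q]
  rfl

/-- the prime two. -/
theorem lhs_two (hodd : Odd (Fintype.card F)) (hq : 5 ≤ Fintype.card F) :
    Nat.card {χ : Cfsg.IrrCharacter (SpecialLinearGroup (Fin 2) F) //
        ¬ 2 ∣ Cfsg.charDegree (χ : SpecialLinearGroup (Fin 2) F → ℂ)} = 4 := by
  classical
  have h := card_pred_degree hodd hq (fun d => ¬ 2 ∣ d)
  obtain ⟨j, hj⟩ := hodd
  rw [hj] at h
  have e1 : (2 * j + 1 + 1) / 2 = j + 1 := by omega
  have e2 : (2 * j + 1 - 1) / 2 = j := by omega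
  rw [e1, e2] at h
  have p1 : ¬ 2 ∣ 1 := by omega
  have p2 : ¬ 2 ∣ 2 * j + 1 := by omega
  have p3 : ¬ ¬ 2 ∣ 2 * j + 1 + 1 := by omega
  have p4 : ¬ ¬ 2 ∣ 2 * j + 1 - 1 := by omega
  rw [if_pos p1, if_pos p2, if_neg p3, if_neg p4] at h
  by_cases p5 : 2 ∣ j
  · have p6 : ¬ 2 ∣ j + 1 := by omega
    rw [if_pos p6, if_neg (not_not.mpr p5)] at h
    omega
  · have p6 : 2 ∣ j + 1 := by omega
    rw [if_neg (not_not.mpr p6), if_pos p5] at h
    omega

/-- odd primes dividing `q - 1`. -/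
theorem lhs_minus (hodd : Odd (Fintype.card F)) (hq : 5 ≤ Fintype.card F) (ℓ : ℕ) (hℓ : ℓ.Prime)
    (hℓ2 : ℓ ≠ 2) (hdvd : ℓ ∣ Fintype.card F - 1) :
    2 * Nat.card {χ : Cfsg.IrrCharacter (SpecialLinearGroup (Fin 2) F) //
        ¬ ℓ ∣ Cfsg.charDegree (χ : SpecialLinearGroup (Fin 2) F → ℂ)} = Fintype.card F + 5 := by
  classical
  have h := card_pred_degree hodd hq (fun d => ¬ ℓ ∣ d)
  have hℓ1 : ¬ ℓ ∣ 1 := hℓ.one_lt.ne' ∘ Nat.dvd_one.mp
  have hℓ2' : ¬ ℓ ∣ 2 := by
    intro h2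
    exact hℓ2 ((Nat.prime_dvd_prime_iff_eq hℓ Nat.prime_two).mp h2)
  have hq1 : Fintype.card F - 1 + 1 = Fintype.card F := Nat.sub_add_cancel Fintype.card_pos
  have p2 : ¬ ℓ ∣ Fintype.card F := by
    intro hc
    apply hℓ1
    rw [← hq1] at hc
    exact (Nat.dvd_add_right hdvd).mp hc
  have p3 : ¬ ℓ ∣ Fintype.card F + 1 := by
    intro hc
    apply hℓ2'
    have : Fintype.card F + 1 = (Fintype.card F - 1) + 2 := by omega
    rw [this] at hc
    exact (Nat.dvd_add_right hdvd).mp hc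
  have p5 : ¬ ℓ ∣ (Fintype.card F + 1) / 2 := by
    intro hc
    apply p3
    obtain ⟨j, hj⟩ := hodd
    have : Fintype.card F + 1 = 2 * ((Fintype.card F + 1) / 2) := by omega
    rw [this]
    exact Dvd.dvd.mul_left hc 2
  have p6 : ℓ ∣ (Fintype.card F - 1) / 2 := by
    obtain ⟨j, hj⟩ := hodd
    have e : Fintype.card F - 1 = 2 * ((Fintype.card F - 1) / 2) := by omega
    rw [e] at hdvd
    exact ((Nat.Prime.dvd_mul hℓ).mp hdvd).resolve_left hℓ2'
  rw [if_pos hℓ1, if_pos p2, if_pos p3, if_neg (not_not.mpr hdvd), if_pos p5,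
    if_neg (not_not.mpr p6)] at h
  omega

/-- odd primes dividing `q + 1`. -/
theorem lhs_plus (hodd : Odd (Fintype.card F)) (hq : 5 ≤ Fintype.card F) (ℓ : ℕ) (hℓ : ℓ.Prime)
    (hℓ2 : ℓ ≠ 2) (hdvd : ℓ ∣ Fintype.card F + 1) :
    2 * Nat.card {χ : Cfsg.IrrCharacter (SpecialLinearGroup (Fin 2) F) //
        ¬ ℓ ∣ Cfsg.charDegree (χ : SpecialLinearGroup (Fin 2) F → ℂ)} = Fintype.card F + 7 := by
  classical
  have h := card_pred_degree hodd hq (fun d => ¬ ℓ ∣ d)
  have hℓ1 : ¬ ℓ ∣ 1 := hℓ.one_lt.ne' ∘ Nat.dvd_one.mp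
  have hℓ2' : ¬ ℓ ∣ 2 := by
    intro h2
    exact hℓ2 ((Nat.prime_dvd_prime_iff_eq hℓ Nat.prime_two).mp h2)
  have p2 : ¬ ℓ ∣ Fintype.card F := by
    intro hc
    apply hℓ1
    exact (Nat.dvd_add_right hc).mp hdvd
  have p4 : ¬ ℓ ∣ Fintype.card F - 1 := by
    intro hc
    apply hℓ2'
    have : Fintype.card F + 1 = (Fintype.card F - 1) + 2 := by omega
    rw [this] at hdvd
    exact (Nat.dvd_add_right hc).mp hdvd
  have p6 : ¬ ℓ ∣ (Fintype.card F - 1) / 2 := by
    intro hc
    apply p4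
    obtain ⟨j, hj⟩ := hodd
    have : Fintype.card F - 1 = 2 * ((Fintype.card F - 1) / 2) := by omega
    rw [this]
    exact Dvd.dvd.mul_left hc 2
  have p5 : ℓ ∣ (Fintype.card F + 1) / 2 := by
    obtain ⟨j, hj⟩ := hodd
    have e : Fintype.card F + 1 = 2 * ((Fintype.card F + 1) / 2) := by omega
    rw [e] at hdvd
    exact ((Nat.Prime.dvd_mul hℓ).mp hdvd).resolve_left hℓ2'
  rw [if_pos hℓ1, if_pos p2, if_neg (not_not.mpr hdvd), if_pos p4, if_neg (not_not.mpr p5),
    if_pos p6] at h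
  omega

end Cfsg.Agent.Helper8.McK
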