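import Mathlib
import Cfsg.Agent.Helper8.McKA
import Cfsg.Agent.Helper8.SL2SylTwo
import Cfsg.Agent.Helper8.DicyclicClasses

set_option autoImplicit false

/-!
The local side of the McKay equality for an odd prime whose Sylow subgroup lies in a torus.
-/

namespace Cfsg.Agent.Helper8.McK

open Cfsg Cfsg.Agent.Helper6

universe u

section generic

variable {G : Type u} [Group G]

theorem normalizer_eq_of_torus (T S₀ : Subgroup G) (hST : S₀ ≤ T)
    (comm : ∀ a ∈ T, ∀ b ∈ T, a * b = b * a)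
    (cent : ∀ a ∈ T, a * a ≠ 1 → ∀ g : G, g * a = a * g → g ∈ T)
    (inv : ∀ g ∈ Subgroup.normalizer (T : Set G), g ∉ T → ∀ a ∈ T, g * a * g⁻¹ = a⁻¹)
    (hs : ∃ s ∈ S₀, s * s ≠ 1) :
    Subgroup.normalizer (S₀ : Set G) = Subgroup.normalizer (T : Set G) := by
  apply le_antisymm
  · intro g hg
    obtain ⟨s, hs, hss⟩ := hs
    rw [Subgroup.mem_normalizer_iff] at hg
    have hs' : g * s * g⁻¹ ∈ S₀ := (hg s).mp hs
    have hss' : (g * s * g⁻¹) * (g * s * g⁻¹) ≠ 1 := by
      intro h
      apply hss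
      have e : (g * s * g⁻¹) * (g * s * g⁻¹) = g * (s * s) * g⁻¹ := by group
      rw [e] at h
      have : s * s = g⁻¹ * (g * (s * s) * g⁻¹) * g := by group
      rw [this, h]
      group
    rw [Subgroup.mem_normalizer_iff]
    intro h
    constructor
    · intro hh
      apply cent _ (hST hs') hss'
      have e1 : h * s = s * h := comm h hh s (hST hs)
      have : g * h * g⁻¹ * (g * s * g⁻¹) = g * (h * s) * g⁻¹ := by group
      rw [this, e1]
      group
    · intro hh
      apply cent _ (hST hs) hss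
      have e1 : (g * h * g⁻¹) * (g * s * g⁻¹) = (g * s * g⁻¹) * (g * h * g⁻¹) :=
        comm _ hh _ (hST hs')
      have e2 : h * s = g⁻¹ * ((g * h * g⁻¹) * (g * s * g⁻¹)) * g := by group
      rw [e2, e1]
      group
  · have key : ∀ g ∈ Subgroup.normalizer (T : Set G), ∀ h ∈ S₀, g * h * g⁻¹ ∈ S₀ := by
      intro g hg h hh
      by_cases hgT : g ∈ T
      · have : g * h * g⁻¹ = h := by
          rw [comm g hgT h (hST hh)]
          group
        rw [this]
        exact hh
      · rw [inv g hg hgT h (hST hh)]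
        exact S₀.inv_mem hh
    intro g hg
    rw [Subgroup.mem_normalizer_iff]
    intro h
    constructor
    · exact key g hg h
    · intro hh
      have := key g⁻¹ (Subgroup.inv_mem _ hg) _ hh
      have e : g⁻¹ * (g * h * g⁻¹) * g⁻¹⁻¹ = h := by group
      rwa [e] at this

variable [Finite G]

/-- the local McKay count for an odd prime whose Sylow subgroup lies in a torus with
dihedral-like normaliser. -/
theorem rhs_torus (ℓ : ℕ) [Fact ℓ.Prime] (hℓ2 : ℓ ≠ 2) (T : Subgroup G)
    (comm : ∀ a ∈ T, ∀ b ∈ T, a * b = b * a)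
    (cent : ∀ a ∈ T, a * a ≠ 1 → ∀ g : G, g * a = a * g → g ∈ T)
    (inv : ∀ g ∈ Subgroup.normalizer (T : Set G), g ∉ T → ∀ a ∈ T, g * a * g⁻¹ = a⁻¹)
    (hidx : (T.subgroupOf (Subgroup.normalizer (T : Set G))).index = 2)
    (hdvd : ℓ ∣ Nat.card T)
    (hval : (Nat.card T).factorization ℓ = (Nat.card G).factorization ℓ)
    (S : Sylow ℓ G) :
    Nat.card {ψ : Cfsg.IrrCharacter (Subgroup.normalizer ((S : Subgroup G) : Set G)) //
        ¬ ℓ ∣ Cfsg.charDegree (ψ : Subgroup.normalizer ((S : Subgroup G) : Set G) → ℂ)} =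
      Nat.card (ConjClasses (Subgroup.normalizer (T : Set G))) := by
  classical
  have hℓ : ℓ.Prime := Fact.out
  -- a Sylow subgroup inside the torus
  obtain ⟨P⟩ : Nonempty (Sylow ℓ T) := inferInstance
  have hcardP : Nat.card ((P : Subgroup T).map T.subtype) =
      ℓ ^ (Nat.card G).factorization ℓ := by
    rw [Nat.card_congr ((P : Subgroup T).equivMapOfInjective T.subtype
      T.subtype_injective).symm.toEquiv, P.card_eq_multiplicity, hval]
  set S₀ : Sylow ℓ G := Sylow.ofCard ((P : Subgroup T).map T.subtype) hcardP with hS₀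
  have hS₀T : (S₀ : Subgroup G) ≤ T := by
    rw [hS₀, Sylow.coe_ofCard]
    rintro _ ⟨x, -, rfl⟩
    exact x.2
  have hcard0 : Nat.card (S₀ : Subgroup G) = ℓ ^ (Nat.card G).factorization ℓ := by
    rw [hS₀, Sylow.coe_ofCard]
    exact hcardP
  have hpos : 0 < (Nat.card G).factorization ℓ := by
    rw [← hval]
    exact hℓ.factorization_pos_of_dvd Nat.card_pos.ne' hdvd
  have hs : ∃ s ∈ (S₀ : Subgroup G), s * s ≠ 1 := by
    have hne : (S₀ : Subgroup G) ≠ ⊥ := by
      intro h
      rw [h, Subgroup.card_bot] at hcard0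
      have : 1 < ℓ ^ (Nat.card G).factorization ℓ := Nat.one_lt_pow hpos.ne' hℓ.one_lt
      omega
    obtain ⟨s, hs1⟩ := (Subgroup.ne_bot_iff_exists_ne_one).mp hne
    refine ⟨s, s.2, ?_⟩
    intro hss
    obtain ⟨k, hk⟩ := (IsPGroup.iff_orderOf.mp S₀.isPGroup') s
    have h2 : orderOf s ∣ 2 := by
      apply orderOf_dvd_of_pow_eq_one
      rw [pow_two]
      exact Subtype.ext hss
    rw [hk] at h2
    have : k = 0 := by
      by_contra hk0
      have : ℓ ∣ 2 := (dvd_pow_self ℓ hk0).trans h2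
      exact hℓ2 ((Nat.prime_dvd_prime_iff_eq hℓ Nat.prime_two).mp this)
    rw [this, pow_zero, orderOf_eq_one_iff] at hk
    exact hs1 hk
  have hN : Subgroup.normalizer ((S₀ : Subgroup G) : Set G) = Subgroup.normalizer (T : Set G) :=
    normalizer_eq_of_torus T S₀ hS₀T comm cent inv hs
  rw [card_pdeg_normalizer_eq ℓ S S₀, card_pdeg_congr (MulEquiv.subgroupCongr hN) ℓ]
  apply card_pdeg_eq_card_conjClasses
  intro χ
  have hnorm : (T.subgroupOf (Subgroup.normalizer (T : Set G))).Normal :=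
    Subgroup.normal_of_index_eq_two hidx
  apply not_dvd_degree_of_abelian_normal ℓ (T.subgroupOf (Subgroup.normalizer (T : Set G)))
  · rintro ⟨a, ha'⟩ ha ⟨b, hb'⟩ hb
    rw [Subgroup.mem_subgroupOf] at ha hb
    exact Subtype.ext (comm a ha b hb)
  · rw [hidx]
    intro h
    exact hℓ2 ((Nat.prime_dvd_prime_iff_eq hℓ Nat.prime_two).mp h)

end generic

end Cfsg.Agent.Helper8.McK
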