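import Mathlib
import Cfsg.Agent.Helper8.McKD
import Cfsg.Agent.Helper8.SL2Ell2
import Cfsg.Agent.Helper8.SL2HermOmega

set_option autoImplicit false

/-!
The local side of the McKay equality for `SL₂(F)` at odd primes different from the characteristic.
-/

namespace Cfsg.Agent.Helper8.McK

open Matrix Cfsg Cfsg.Agent.Helper6 Cfsg.Agent.Helper8.SL2C Cfsg.Agent.Helper7.SL2

variable {F : Type*} [Field F] [Fintype F]

theorem sq_sub_one_eq (q : ℕ) (hq : 1 ≤ q) : q ^ 2 - 1 = (q - 1) * (q + 1) := by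
  obtain ⟨m, rfl⟩ : ∃ m, q = m + 1 := ⟨q - 1, by omega⟩
  apply Nat.sub_eq_of_eq_add
  rw [Nat.add_sub_cancel]
  ring

theorem card_SL2' : Nat.card (SpecialLinearGroup (Fin 2) F) =
    Fintype.card F * ((Fintype.card F - 1) * (Fintype.card F + 1)) := by
  rw [card_SL2, sq_sub_one_eq _ Fintype.card_pos]

theorem factorization_minus (ℓ : ℕ) (hℓ : ℓ.Prime) (hℓ2 : ℓ ≠ 2)
    (hq : 2 ≤ Fintype.card F) (hdvd : ℓ ∣ Fintype.card F - 1) :
    (Fintype.card F - 1).factorization ℓ =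
      (Nat.card (SpecialLinearGroup (Fin 2) F)).factorization ℓ := by
  have hℓ1 : ¬ ℓ ∣ 1 := hℓ.one_lt.ne' ∘ Nat.dvd_one.mp
  have hℓ2' : ¬ ℓ ∣ 2 := by
    intro h2
    exact hℓ2 ((Nat.prime_dvd_prime_iff_eq hℓ Nat.prime_two).mp h2)
  have hq1 : Fintype.card F - 1 + 1 = Fintype.card F := Nat.sub_add_cancel Fintype.card_pos
  have p2 : ¬ ℓ ∣ Fintype.card F := by
    intro hc
    apply hℓ1
    rw [← hq1] at hc
    exact (Nat.dvd_add_right hdvd).mp hc
  have p3 : ¬ ℓ ∣ Fintype.card F + 1 := by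
    intro hc
    apply hℓ2'
    have : Fintype.card F + 1 = (Fintype.card F - 1) + 2 := by omega
    rw [this] at hc
    exact (Nat.dvd_add_right hdvd).mp hc
  rw [card_SL2', Nat.factorization_mul (by omega) (Nat.mul_ne_zero (by omega) (by omega)),
    Nat.factorization_mul (by omega) (by omega), Finsupp.add_apply, Finsupp.add_apply,
    Nat.factorization_eq_zero_of_not_dvd p2, Nat.factorization_eq_zero_of_not_dvd p3]
  omega

theorem factorization_plus (ℓ : ℕ) (hℓ : ℓ.Prime) (hℓ2 : ℓ ≠ 2)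
    (hq : 2 ≤ Fintype.card F) (hdvd : ℓ ∣ Fintype.card F + 1) :
    (Fintype.card F + 1).factorization ℓ =
      (Nat.card (SpecialLinearGroup (Fin 2) F)).factorization ℓ := by
  have hℓ1 : ¬ ℓ ∣ 1 := hℓ.one_lt.ne' ∘ Nat.dvd_one.mp
  have hℓ2' : ¬ ℓ ∣ 2 := by
    intro h2
    exact hℓ2 ((Nat.prime_dvd_prime_iff_eq hℓ Nat.prime_two).mp h2)
  have p2 : ¬ ℓ ∣ Fintype.card F := by
    intro hc
    apply hℓ1
    exact (Nat.dvd_add_right hc).mp hdvd
  have p4 : ¬ ℓ ∣ Fintype.card F - 1 := by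
    intro hc
    apply hℓ2'
    have : Fintype.card F + 1 = (Fintype.card F - 1) + 2 := by omega
    rw [this] at hdvd
    exact (Nat.dvd_add_right hc).mp hdvd
  rw [card_SL2', Nat.factorization_mul (by omega) (Nat.mul_ne_zero (by omega) (by omega)),
    Nat.factorization_mul (by omega) (by omega), Finsupp.add_apply, Finsupp.add_apply,
    Nat.factorization_eq_zero_of_not_dvd p2, Nat.factorization_eq_zero_of_not_dvd p4]
  omega

/-- odd primes dividing `q - 1`: the normaliser of the split torus. -/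
theorem rhs_minus (hodd : Odd (Fintype.card F)) (hq : 5 ≤ Fintype.card F) (ℓ : ℕ)
    [Fact ℓ.Prime] (hℓ2 : ℓ ≠ 2) (hdvd : ℓ ∣ Fintype.card F - 1)
    (S : Sylow ℓ (SpecialLinearGroup (Fin 2) F)) :
    2 * Nat.card {ψ : Cfsg.IrrCharacter (Subgroup.normalizer
          ((S : Subgroup (SpecialLinearGroup (Fin 2) F)) : Set (SpecialLinearGroup (Fin 2) F))) //
        ¬ ℓ ∣ Cfsg.charDegree (ψ : Subgroup.normalizer
          ((S : Subgroup (SpecialLinearGroup (Fin 2) F)) : Set (SpecialLinearGroup (Fin 2) F)) → ℂ)} =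
      Fintype.card F + 5 := by
  have hℓ : ℓ.Prime := Fact.out
  have h2 : (2 : F) ≠ 0 := Cfsg.Agent.Helper7.two_ne_zero_of_odd_card hodd
  obtain ⟨c, hc0, hc1⟩ := Cfsg.Agent.Helper8.SL2HermOmega.exists_sq_ne_one (E := F) (by omega)
  have hex : ∃ d ∈ D F, (d : Matrix (Fin 2) (Fin 2) F) 0 0 ^ 2 ≠ 1 :=
    ⟨tor (Units.mk0 c hc0), tor_mem_D _, by rw [tor_00]; exact hc1⟩
  have hidx : ((D F).subgroupOf (Subgroup.normalizer
      ((D F : Subgroup (SpecialLinearGroup (Fin 2) F)) : Set (SpecialLinearGroup (Fin 2) F)))).index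
      = 2 := by
    rw [normalizer_D hex]
    exact index_D_subgroupOf_Mon
  rw [rhs_torus ℓ hℓ2 (D F) (fun a ha b hb => D_comm ha hb)
    (fun a ha haa g hg => D_cent ha haa hg)
    (fun g hg hgD a ha => D_inv (by omega) hg hgD ha) hidx
    (by rw [card_D]; exact hdvd)
    (by rw [card_D]; exact factorization_minus ℓ hℓ hℓ2 (by omega) hdvd) S,
    normalizer_D hex]
  exact card_conjClasses_Mon h2

/-- the class number of the normaliser of the non-split torus. -/
theorem card_conjClasses_normalizer_Tc (h2 : (2 : F) ≠ 0) {t : F} (ht : Ellt t) :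
    2 * Nat.card (ConjClasses (Subgroup.normalizer
      ((Tc t : Subgroup (SpecialLinearGroup (Fin 2) F)) : Set (SpecialLinearGroup (Fin 2) F)))) =
      Fintype.card F + 7 := by
  obtain ⟨w, hw⟩ := exists_isW ht
  have htne := ellt_sq_ne ht
  have := Dicyclic.card_conjClasses ((Tc t).subgroupOf (Subgroup.normalizer
      ((Tc t : Subgroup (SpecialLinearGroup (Fin 2) F)) : Set (SpecialLinearGroup (Fin 2) F))))
    ⟨-1, Subgroup.le_normalizer (neg_one_mem_Tc t)⟩ (index_Tc_subgroupOf htne hw) ?_ ?_ ?_ ?_ ?_ ?_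
  · rw [this, Nat.card_congr (Subgroup.subgroupOfEquivOfLe
      (Subgroup.le_normalizer (H := Tc t))).toEquiv, card_Tc ht]
  · rintro ⟨a, ha'⟩ ha ⟨b, hb'⟩ hb
    rw [Subgroup.mem_subgroupOf] at ha hb
    exact Subtype.ext (Tc_comm ha hb)
  · rw [Subgroup.mem_subgroupOf]
    exact neg_one_mem_Tc t
  · intro h
    exact neg_one_ne_one h2 (congrArg Subtype.val h)
  · exact Subtype.ext neg_one_mul_neg_one
  · rintro ⟨x, hx'⟩ hx
    rw [Subgroup.mem_subgroupOf] at hx
    rcases (mem_normalizer_Tc_iff htne).mp hx' with h | h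
    · exact absurd h hx
    · exact Subtype.ext (sq_of_isW h)
  · rintro ⟨a, ha'⟩ ha h
    rcases eq_one_or_neg_one_of_sq h2 (congrArg Subtype.val h) with h1 | h1
    · exact Or.inl (Subtype.ext h1)
    · exact Or.inr (Subtype.ext h1)

/-- odd primes dividing `q + 1`: the normaliser of the non-split torus. -/
theorem rhs_plus (hodd : Odd (Fintype.card F)) (ℓ : ℕ)
    [Fact ℓ.Prime] (hℓ2 : ℓ ≠ 2) (hdvd : ℓ ∣ Fintype.card F + 1)
    (S : Sylow ℓ (SpecialLinearGroup (Fin 2) F)) :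
    2 * Nat.card {ψ : Cfsg.IrrCharacter (Subgroup.normalizer
          ((S : Subgroup (SpecialLinearGroup (Fin 2) F)) : Set (SpecialLinearGroup (Fin 2) F))) //
        ¬ ℓ ∣ Cfsg.charDegree (ψ : Subgroup.normalizer
          ((S : Subgroup (SpecialLinearGroup (Fin 2) F)) : Set (SpecialLinearGroup (Fin 2) F)) → ℂ)} =
      Fintype.card F + 7 := by
  have hℓ : ℓ.Prime := Fact.out
  have h2 : (2 : F) ≠ 0 := Cfsg.Agent.Helper7.two_ne_zero_of_odd_card hodd
  obtain ⟨t, ht⟩ := exists_ellt (F := F)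
  obtain ⟨w, hw⟩ := exists_isW ht
  have htne := ellt_sq_ne ht
  rw [rhs_torus ℓ hℓ2 (Tc t) (fun a ha b hb => Tc_comm ha hb)
    (fun a ha haa g hg => Tc_cent ha haa hg)
    (fun g hg hgT a ha => Tc_inv htne hg hgT ha) (index_Tc_subgroupOf htne hw)
    (by rw [card_Tc ht]; exact hdvd)
    (by rw [card_Tc ht]; exact factorization_plus ℓ hℓ hℓ2 Fintype.one_lt_card hdvd) S]
  exact card_conjClasses_normalizer_Tc h2 ht

end Cfsg.Agent.Helper8.McK
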