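import Mathlib
import Cfsg.Agent.Helper8.McKA
import Cfsg.Agent.Helper7.SL2Sylow
import Cfsg.Agent.S2437

set_option autoImplicit false

/-!
The local side of the McKay equality for `SL₂(F)` in the defining characteristic.
-/

namespace Cfsg.Agent.Helper8.McK

open Matrix Cfsg Cfsg.Agent.Helper6 Cfsg.Agent.Helper7.SL2 Cfsg.Agent.S2437

variable {F : Type*} [Field F]

theorem normalizer_U : Subgroup.normalizer ((U F : Subgroup (SpecialLinearGroup (Fin 2) F)) :
    Set (SpecialLinearGroup (Fin 2) F)) = Bor F := by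
  ext g
  rw [mem_Bor, ← mem_B]
  constructor
  · intro hg
    rw [Subgroup.mem_normalizer_iff] at hg
    have h1 : up (1 : F) ∈ U F := up_mem_U 1
    have h2 : g * up (1 : F) * g⁻¹ ∈ U F := (hg _).mp h1
    have hne : up (1 : F) ≠ 1 := by
      intro h
      have := congrArg (fun x : SpecialLinearGroup (Fin 2) F =>
        (x : Matrix (Fin 2) (Fin 2) F) 0 1) h
      simp only [up_01, one_01] at this
      exact one_ne_zero this
    apply mem_B_of_intertwine h2 h1 hne
    group
  · intro hg
    rw [Subgroup.mem_normalizer_iff]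
    intro h
    constructor
    · exact conj_mem_U hg
    · intro hh
      have := conj_mem_U ((B F).inv_mem hg) hh
      have e : g⁻¹ * (g * h * g⁻¹) * g⁻¹⁻¹ = h := by group
      rwa [e] at this

theorem U_le_Bor : U F ≤ Bor F := by
  intro g hg
  rw [mem_Bor]
  exact hg.2.1

theorem U_comm {a b : SpecialLinearGroup (Fin 2) F} (ha : a ∈ U F) (hb : b ∈ U F) :
    a * b = b * a := by
  obtain ⟨a00, a10, a11⟩ := ha
  obtain ⟨b00, b10, b11⟩ := hb
  apply ext' <;> simp only [coe_mul_apply, a00, a10, a11, b00, b10, b11] <;> ring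

variable [Fintype F]

theorem index_U_subgroupOf_Bor : ((U F).subgroupOf (Bor F)).index = Fintype.card F - 1 := by
  classical
  have h1 := Subgroup.card_mul_index ((U F).subgroupOf (Bor F))
  rw [Nat.card_congr (Subgroup.subgroupOfEquivOfLe (U_le_Bor (F := F))).toEquiv, card_U] at h1
  have hB : Nat.card (Bor F) = (Fintype.card F - 1) * Fintype.card F := by
    rw [← Nat.card_congr (eB (F := F)), Nat.card_prod, Nat.card_eq_fintype_card,
      Nat.card_eq_fintype_card, Fintype.card_units]
  rw [hB, mul_comm] at h1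
  exact Nat.eq_of_mul_eq_mul_right Fintype.card_pos h1

/-- the defining characteristic: the Borel subgroup. -/
theorem rhs_p (hodd : Odd (Fintype.card F)) (p : ℕ) [Fact p.Prime] [CharP F p]
    (S : Sylow p (SpecialLinearGroup (Fin 2) F)) :
    Nat.card {ψ : Cfsg.IrrCharacter (Subgroup.normalizer
          ((S : Subgroup (SpecialLinearGroup (Fin 2) F)) : Set (SpecialLinearGroup (Fin 2) F))) //
        ¬ p ∣ Cfsg.charDegree (ψ : Subgroup.normalizer
          ((S : Subgroup (SpecialLinearGroup (Fin 2) F)) : Set (SpecialLinearGroup (Fin 2) F)) → ℂ)} =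
      Fintype.card F + 3 := by
  have hp : p.Prime := Fact.out
  have hN : Subgroup.normalizer (((sylowU (F := F) p : Sylow p (SpecialLinearGroup (Fin 2) F)) :
      Subgroup (SpecialLinearGroup (Fin 2) F)) : Set (SpecialLinearGroup (Fin 2) F)) = Bor F := by
    rw [coe_sylowU]
    exact normalizer_U
  rw [card_pdeg_normalizer_eq p S (sylowU (F := F) p), card_pdeg_congr (MulEquiv.subgroupCongr hN) p,
    card_pdeg_eq_card_conjClasses]
  · exact Cfsg.Agent.S2437.result hodd
  · intro χ
    have hnorm : ((U F).subgroupOf (Bor F)).Normal := by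
      constructor
      rintro ⟨n, hn'⟩ hn ⟨g, hg'⟩
      rw [Subgroup.mem_subgroupOf] at hn ⊢
      exact conj_mem_U (mem_B.mpr ((mem_Bor g).mp hg')) hn
    apply not_dvd_degree_of_abelian_normal p ((U F).subgroupOf (Bor F))
    · rintro ⟨a, ha'⟩ ha ⟨b, hb'⟩ hb
      rw [Subgroup.mem_subgroupOf] at ha hb
      exact Subtype.ext (U_comm ha hb)
    · rw [index_U_subgroupOf_Bor]
      intro h
      have hpq : p ∣ Fintype.card F := by
        rw [← CharP.cast_eq_zero_iff F p]
        exact Nat.cast_card_eq_zero F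
      have h2 : p ∣ (Fintype.card F - 1) + 1 := by
        rw [Nat.sub_add_cancel Fintype.card_pos]
        exact hpq
      exact hp.one_lt.ne' (Nat.dvd_one.mp ((Nat.dvd_add_right h).mp h2))

end Cfsg.Agent.Helper8.McK
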