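import Mathlib

set_option autoImplicit false

/-!
The commutator subgroup of a generalised quaternion group `QuaternionGroup n`, `n` even, has
index four.
-/

namespace Cfsg.Agent.Helper8.McK

open QuaternionGroup
open scoped commutatorElement

variable {n : ℕ}

/-- reduction mod 2 of the exponent. -/
noncomputable def qc (n : ℕ) : ZMod (2 * n) →+* ZMod 2 := ZMod.castHom (Dvd.intro n rfl) (ZMod 2)

theorem qc_n (hn : Even n) : qc n (n : ZMod (2 * n)) = 0 := by
  rw [map_natCast]
  exact (ZMod.natCast_eq_zero_iff n 2).mpr (even_iff_two_dvd.mp hn)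

theorem zmod2_sub (x y : ZMod 2) : y - x = x + y := by
  revert x y
  decide

/-- the abelianisation map onto the four-group. -/
noncomputable def qab (n : ℕ) (hn : Even n) : QuaternionGroup n →* Multiplicative (ZMod 2 × ZMod 2) where
  toFun
    | a i => Multiplicative.ofAdd (qc n i, 0)
    | xa i => Multiplicative.ofAdd (qc n i, 1)
  map_one' := by
    rw [one_def]
    change Multiplicative.ofAdd (qc n 0, (0 : ZMod 2)) = 1
    rw [map_zero]
    rfl
  map_mul' := by
    rintro (i | i) (j | j)
    · rw [a_mul_a]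
      change Multiplicative.ofAdd (qc n (i + j), (0 : ZMod 2)) =
        Multiplicative.ofAdd ((qc n i, (0 : ZMod 2)) + (qc n j, (0 : ZMod 2)))
      rw [map_add, Prod.mk_add_mk, add_zero]
    · rw [a_mul_xa]
      change Multiplicative.ofAdd (qc n (j - i), (1 : ZMod 2)) =
        Multiplicative.ofAdd ((qc n i, (0 : ZMod 2)) + (qc n j, (1 : ZMod 2)))
      rw [map_sub, Prod.mk_add_mk, zero_add, zmod2_sub]
    · rw [xa_mul_a]
      change Multiplicative.ofAdd (qc n (i + j), (1 : ZMod 2)) =
        Multiplicative.ofAdd ((qc n i, (1 : ZMod 2)) + (qc n j, (0 : ZMod 2)))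
      rw [map_add, Prod.mk_add_mk, add_zero]
    · rw [xa_mul_xa]
      change Multiplicative.ofAdd (qc n ((n : ZMod (2 * n)) + j - i), (0 : ZMod 2)) =
        Multiplicative.ofAdd ((qc n i, (1 : ZMod 2)) + (qc n j, (1 : ZMod 2)))
      rw [map_sub, map_add, qc_n hn, zero_add, Prod.mk_add_mk, zmod2_sub]
      congr 1

theorem qab_a (hn : Even n) (i : ZMod (2 * n)) :
    qab n hn (a i) = Multiplicative.ofAdd (qc n i, 0) := rfl

theorem qab_xa (hn : Even n) (i : ZMod (2 * n)) :
    qab n hn (xa i) = Multiplicative.ofAdd (qc n i, 1) := rfl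

theorem qab_surjective (hn : Even n) : Function.Surjective (qab n hn) := by
  intro y
  obtain ⟨⟨u, v⟩, rfl⟩ := Multiplicative.ofAdd.surjective y
  have h1 : qc n 1 = 1 := map_one _
  have h0 : qc n 0 = 0 := map_zero _
  have hu : u = 0 ∨ u = 1 := by revert u; decide
  have hv : v = 0 ∨ v = 1 := by revert v; decide
  rcases hu with rfl | rfl <;> rcases hv with rfl | rfl
  · exact ⟨a 0, by rw [qab_a, h0]⟩
  · exact ⟨xa 0, by rw [qab_xa, h0]⟩
  · exact ⟨a 1, by rw [qab_a, h1]⟩
  · exact ⟨xa 1, by rw [qab_xa, h1]⟩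

theorem a_two_mul_mem_commutator (j : ZMod (2 * n)) :
    (a (2 * j) : QuaternionGroup n) ∈ commutator (QuaternionGroup n) := by
  have h : (a (2 * j) : QuaternionGroup n) = ⁅(xa 0 : QuaternionGroup n), (a (-j) : QuaternionGroup n)⁆ := by
    rw [commutatorElement_def]
    have e : (a (2 * j) : QuaternionGroup n) * (a (-j) * xa 0) = xa 0 * a (-j) := by
      rw [a_mul_xa, a_mul_xa, xa_mul_a]
      congr 1
      ring
    have e2 : xa 0 * a (-j) * (xa 0 : QuaternionGroup n)⁻¹ * (a (-j))⁻¹ =
        (xa 0 * a (-j)) * (a (-j) * xa 0)⁻¹ := by group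
    rw [e2, ← e]
    group
  rw [h]
  exact Subgroup.commutator_mem_commutator (Subgroup.mem_top _) (Subgroup.mem_top _)

theorem qc_eq_zero_iff (i : ZMod (2 * n)) [NeZero n] : qc n i = 0 ↔ ∃ j : ZMod (2 * n), i = 2 * j := by
  constructor
  · intro h
    have h1 : qc n i = ((i.val : ℕ) : ZMod 2) := by
      conv_lhs => rw [← ZMod.natCast_zmod_val i]
      rw [map_natCast]
    rw [h1, ZMod.natCast_eq_zero_iff] at h
    obtain ⟨m, hm⟩ := h
    refine ⟨(m : ZMod (2 * n)), ?_⟩
    conv_lhs => rw [← ZMod.natCast_zmod_val i, hm]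
    push_cast
    rfl
  · rintro ⟨j, rfl⟩
    rw [map_mul]
    have : qc n 2 = 0 := by
      have : (2 : ZMod (2 * n)) = ((2 : ℕ) : ZMod (2 * n)) := by norm_cast
      rw [this, map_natCast]
      decide
    rw [this, zero_mul]

theorem commutator_quaternion_eq_ker (hn : Even n) [NeZero n] :
    commutator (QuaternionGroup n) = (qab n hn).ker := by
  apply le_antisymm
  · exact Abelianization.commutator_subset_ker _
  · rintro (i | i) hx
    · rw [MonoidHom.mem_ker, qab_a] at hx
      have h0 : qc n i = 0 := by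
        have := congrArg (fun z => (Multiplicative.toAdd z).1) hx
        exact this
      obtain ⟨j, rfl⟩ := (qc_eq_zero_iff i).mp h0
      exact a_two_mul_mem_commutator j
    · rw [MonoidHom.mem_ker, qab_xa] at hx
      exfalso
      have := congrArg (fun z => (Multiplicative.toAdd z).2) hx
      exact one_ne_zero this

theorem index_commutator_quaternion (hn : Even n) [NeZero n] :
    (commutator (QuaternionGroup n)).index = 4 := by
  rw [commutator_quaternion_eq_ker hn, Subgroup.index_ker,
    MonoidHom.range_eq_top.mpr (qab_surjective hn), Subgroup.card_top, Nat.card_eq_fintype_card]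
  rfl

end Cfsg.Agent.Helper8.McK
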