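import Mathlib
import Cfsg.Agent.Helper8.McKA
import Cfsg.Agent.Helper8.SL2Count

set_option autoImplicit false

/-!
Abstract counts of irreducible characters of odd degree: in a `p`-group the characters of
degree prime to `p` are the linear ones; in a group of order `24` with a normal subgroup of
order `8` having a unique involution and a small centraliser (the shape of `SL₂(3)`), exactly
four irreducible characters have odd degree.
-/

namespace Cfsg.Agent.Helper8.McK

open Cfsg Cfsg.Agent.Helper6 Cfsg.Agent.Helper8.SL2C
open scoped commutatorElement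

universe u

/-- in a `p`-group, the irreducible characters of degree prime to `p` are the linear ones. -/
theorem card_pdeg_of_pgroup {X : Type u} [Group X] [Finite X] (p : ℕ) [hp : Fact p.Prime]
    (hX : IsPGroup p X) :
    Nat.card {ψ : Cfsg.IrrCharacter X // ¬ p ∣ Cfsg.charDegree (ψ : X → ℂ)} =
      (commutator X).index := by
  rw [← card_linear_irr]
  apply Nat.card_congr
  apply Equiv.subtypeEquivRight
  intro ψ
  have h1 : ((ψ : X → ℂ) 1 = 1) ↔ Cfsg.charDegree (ψ : X → ℂ) = 1 := by
    rw [charDegree_eq_iff ψ 1, Nat.cast_one]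
  rw [h1]
  have hd : Cfsg.charDegree (ψ : X → ℂ) ∣ Nat.card X := charDegree_dvd_card ψ.2
  obtain ⟨k, hk⟩ := IsPGroup.iff_card.mp hX
  rw [hk] at hd
  obtain ⟨j, -, hj'⟩ := (Nat.dvd_prime_pow hp.out).mp hd
  constructor
  · intro h
    rw [hj'] at h ⊢
    rcases Nat.eq_zero_or_pos j with rfl | hpos
    · rfl
    · exact absurd (dvd_pow_self p hpos.ne') h
  · intro h hdiv
    rw [h] at hdiv
    exact hp.out.one_lt.ne' (Nat.dvd_one.mp hdiv)

/-- iterating a twisted conjugation. -/
theorem pow_mul_eq_of_twist {N : Type u} [Group N] (g x c : N) (h1 : g * x = c * x * g)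
    (h2 : g * c = c * g) (n : ℕ) : g ^ n * x = c ^ n * x * g ^ n := by
  induction n with
  | zero => simp
  | succ n ih =>
    have h3 : g * c ^ n = c ^ n * g := (Commute.pow_right (show Commute g c from h2) n).eq
    calc g ^ (n + 1) * x = g * (g ^ n * x) := by rw [pow_succ', mul_assoc]
      _ = g * (c ^ n * x * g ^ n) := by rw [ih]
      _ = (g * c ^ n) * x * g ^ n := by simp only [mul_assoc]
      _ = c ^ n * (g * x) * g ^ n := by rw [h3]; simp only [mul_assoc]
      _ = c ^ n * (c * x * g) * g ^ n := by rw [h1]
      _ = c ^ (n + 1) * x * g ^ (n + 1) := by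
        rw [pow_succ, pow_succ']
        simp only [mul_assoc]

/-- the derived subgroup of a group of the shape of `SL₂(3)`. -/
theorem commutator_eq_of_order_24 {N : Type u} [Group N] [Finite N] (hN : Nat.card N = 24)
    (S : Subgroup N) [hSn : S.Normal] (hS : Nat.card S = 8) (z : N) (hz2 : z * z = 1)
    (hinv : ∀ x : N, x * x = 1 → x = 1 ∨ x = z)
    (hcent : ∀ g : N, (∀ s ∈ S, g * s = s * g) → g = 1 ∨ g = z) :
    commutator N = S := by
  classical
  have hidx : S.index = 3 := by
    have := S.card_mul_index
    rw [hS, hN] at this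
    omega
  have h3 : Fact (Nat.Prime 3) := ⟨by norm_num⟩
  have h2 : Fact (Nat.Prime 2) := ⟨by norm_num⟩
  have hle : commutator N ≤ S := by
    have hq : Nat.card (N ⧸ S) = 3 := hidx
    have : IsCyclic (N ⧸ S) := isCyclic_of_prime_card hq
    let _ : CommGroup (N ⧸ S) := IsCyclic.commGroup
    have := Abelianization.commutator_subset_ker (QuotientGroup.mk' S)
    rwa [QuotientGroup.ker_mk'] at this
  by_contra hne
  have hKS : Nat.card (commutator N) ∣ 8 := hS ▸ Subgroup.card_dvd_of_le hle
  have hK8 : Nat.card (commutator N) ≠ 8 := by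
    intro h
    apply hne
    exact Subgroup.eq_of_le_of_card_ge hle (by rw [hS, h])
  have hK4 : Nat.card (commutator N) = 1 ∨ Nat.card (commutator N) = 2 ∨
      Nat.card (commutator N) = 4 := by
    have : Nat.card (commutator N) ∈ Nat.divisors 8 := Nat.mem_divisors.mpr ⟨hKS, by norm_num⟩
    have h8 : Nat.divisors 8 = {1, 2, 4, 8} := by decide
    rw [h8] at this
    simp only [Finset.mem_insert, Finset.mem_singleton] at this
    rcases this with h | h | h | h
    · exact Or.inl h
    · exact Or.inr (Or.inl h)
    · exact Or.inr (Or.inr h)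
    · exact absurd h hK8
  obtain ⟨g, hg⟩ := exists_prime_orderOf_dvd_card' (G := N) 3 (by rw [hN]; norm_num)
  have hg3 : g ^ 3 = 1 := by rw [← hg]; exact pow_orderOf_eq_one g
  have hKn : (commutator N).Normal := inferInstance
  -- the conjugation action of `g` on the derived subgroup
  let f : Function.End (commutator N) := fun k =>
    ⟨g * (k : N) * g⁻¹, hKn.conj_mem _ k.2 g⟩
  have hf : ∀ (n : ℕ) (k : commutator N), (((f ^ n) k : commutator N) : N) =
      g ^ n * (k : N) * (g ^ n)⁻¹ := by
    intro n
    induction n with
    | zero =>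
      intro k
      simp only [pow_zero, one_mul, inv_one, mul_one]
      rfl
    | succ n ih =>
      intro k
      rw [pow_succ']
      change ((f ((f ^ n) k) : commutator N) : N) = _
      change g * (((f ^ n) k : commutator N) : N) * g⁻¹ = _
      rw [ih, pow_succ']
      group
  have hf3 : f ^ 3 ^ 1 = 1 := by
    rw [pow_one]
    funext k
    apply Subtype.ext
    rw [hf, hg3]
    simp only [one_mul, inv_one, mul_one]
    rfl
  haveI : Fintype (commutator N) := Fintype.ofFinite _
  have hmod := Equiv.Perm.card_fixedPoints_modEq (p := 3) (n := 1) hf3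
  have hfixle : Fintype.card (Function.fixedPoints f) ≤ Fintype.card (commutator N) :=
    Fintype.card_subtype_le _
  have hone : (1 : commutator N) ∈ Function.fixedPoints f := by
    change f 1 = 1
    apply Subtype.ext
    change g * ((1 : commutator N) : N) * g⁻¹ = _
    simp
  have hcardK : Nat.card (commutator N) = Fintype.card (commutator N) := Nat.card_eq_fintype_card
  have hfixeq : Fintype.card (Function.fixedPoints f) = Fintype.card (commutator N) := by
    rw [hcardK] at hK4
    have hpos : 0 < Fintype.card (Function.fixedPoints f) := Fintype.card_pos_iff.mpr ⟨⟨1, hone⟩⟩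
    rcases hK4 with h | h | h
    · omega
    · rw [h] at hmod hfixle ⊢
      have := hmod
      unfold Nat.ModEq at this
      omega
    · rw [h] at hmod hfixle ⊢
      -- an involution in the derived subgroup
      obtain ⟨k, hk⟩ := exists_prime_orderOf_dvd_card' (G := commutator N) 2
        (by rw [hcardK, h]; norm_num)
      have hk2 : (k : N) * (k : N) = 1 := by
        have : k ^ 2 = 1 := by rw [← hk]; exact pow_orderOf_eq_one k
        have := congrArg (Subtype.val) this
        rwa [Subgroup.coe_pow, pow_two, Subgroup.coe_one] at this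
      have hk1 : (k : N) ≠ 1 := by
        intro h1
        have : k = 1 := Subtype.ext h1
        rw [this, orderOf_one] at hk
        omega
      have hkz : (k : N) = z := (hinv _ hk2).resolve_left hk1
      have hkfix : k ∈ Function.fixedPoints f := by
        change f k = k
        apply Subtype.ext
        change g * (k : N) * g⁻¹ = (k : N)
        have hsq : (g * (k : N) * g⁻¹) * (g * (k : N) * g⁻¹) = 1 := by
          have : (g * (k : N) * g⁻¹) * (g * (k : N) * g⁻¹) = g * ((k : N) * (k : N)) * g⁻¹ := by
            group
          rw [this, hk2]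
          group
        rcases hinv _ hsq with h1 | h1
        · exfalso
          apply hk1
          have : (k : N) = g⁻¹ * (g * (k : N) * g⁻¹) * g := by group
          rw [this, h1]
          group
        · rw [h1, hkz]
      have h2le : 1 < Fintype.card (Function.fixedPoints f) := by
        rw [Fintype.one_lt_card_iff]
        refine ⟨⟨1, hone⟩, ⟨k, hkfix⟩, ?_⟩
        intro he
        apply hk1
        have := congrArg (fun t : Function.fixedPoints f => ((t : commutator N) : N)) he
        exact this.symm
      have := hmod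
      unfold Nat.ModEq at this
      omega
  have hfixall : ∀ k : commutator N, f k = k := by
    intro k
    by_contra hk
    have hlt : Nat.card {x : commutator N // x ∈ Function.fixedPoints f} <
        Nat.card (commutator N) := Finite.card_subtype_lt (x := k) hk
    rw [Nat.card_eq_fintype_card, Nat.card_eq_fintype_card] at hlt
    have e : Fintype.card {x : commutator N // x ∈ Function.fixedPoints f} =
        Fintype.card (Function.fixedPoints f) := by
      convert rfl
    omega
  have hclaimA : ∀ k ∈ commutator N, g * k = k * g := by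
    intro k hk
    have := congrArg Subtype.val (hfixall ⟨k, hk⟩)
    change g * k * g⁻¹ = k at this
    calc g * k = (g * k * g⁻¹) * g := by group
      _ = k * g := by rw [this]
  -- `g` centralises `S`
  have hgS : ∀ s ∈ S, g * s = s * g := by
    intro x hx
    set c : N := ⁅g, x⁆ with hc
    have hcK : c ∈ commutator N :=
      Subgroup.commutator_mem_commutator (Subgroup.mem_top _) (Subgroup.mem_top _)
    have h1 : g * x = c * x * g := by
      rw [hc, commutatorElement_def]
      group
    have hpow := pow_mul_eq_of_twist g x c h1 (hclaimA c hcK) 3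
    rw [hg3, one_mul, mul_one] at hpow
    have hc3 : c ^ 3 = 1 := by
      have : c ^ 3 * x = 1 * x := by rw [one_mul]; exact hpow.symm
      exact mul_right_cancel this
    have hc8 : c ^ 8 = 1 := by
      have hcS : c ∈ S := hle hcK
      have : (⟨c, hcS⟩ : S) ^ Nat.card S = 1 := pow_card_eq_one'
      rw [hS] at this
      have := congrArg Subtype.val this
      rwa [Subgroup.coe_pow, Subgroup.coe_one] at this
    have hc1 : c = 1 := by
      have : c = (c ^ 3) ^ 3 * (c ^ 8)⁻¹ := by group
      rw [this, hc3, hc8]
      simp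
    rw [h1, hc1, one_mul]
  rcases hcent g hgS with h | h
  · rw [h, orderOf_one] at hg
    omega
  · have : orderOf z ∣ 2 := orderOf_dvd_of_pow_eq_one (by rw [pow_two]; exact hz2)
    rw [← h, hg] at this
    omega

/-- a group of the shape of `SL₂(3)` has exactly four irreducible characters of odd degree. -/
theorem card_odd_of_order_24 {N : Type u} [Group N] [Finite N] (hN : Nat.card N = 24)
    (S : Subgroup N) [hSn : S.Normal] (hS : Nat.card S = 8) (z : N) (hz2 : z * z = 1)
    (hinv : ∀ x : N, x * x = 1 → x = 1 ∨ x = z)
    (hcent : ∀ g : N, (∀ s ∈ S, g * s = s * g) → g = 1 ∨ g = z) :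
    Nat.card {ψ : Cfsg.IrrCharacter N // ¬ 2 ∣ Cfsg.charDegree (ψ : N → ℂ)} = 4 := by
  classical
  have hcomm := commutator_eq_of_order_24 hN S hS z hz2 hinv hcent
  have hidx : S.index = 3 := by
    have := S.card_mul_index
    rw [hS, hN] at this
    omega
  have hlin : Nat.card {χ : Cfsg.IrrCharacter N // (χ : N → ℂ) 1 = 1} = 3 := by
    rw [card_linear_irr, hcomm, hidx]
  have : Finite (Cfsg.IrrCharacter N) := irr_finite
  have : Fintype (Cfsg.IrrCharacter N) := Fintype.ofFinite _
  have : Fintype N := Fintype.ofFinite _
  set f : Cfsg.IrrCharacter N → ℕ := fun χ => Cfsg.charDegree (χ : N → ℂ) with hf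
  have hsum : ∑ χ : Cfsg.IrrCharacter N, f χ ^ 2 = 24 := by
    have h := sum_sq_degrees (G := N)
    rw [hN] at h
    have h' : ∑ χ : Cfsg.IrrCharacter N, ((f χ : ℕ) : ℂ) ^ 2 = ((24 : ℕ) : ℂ) := by
      rw [← h]
      apply Finset.sum_congr rfl
      intro χ _
      rw [hf]
      dsimp only
      rw [charDegree_cast_of_isCharacter (IsIrrCharacter.isCharacter χ.2)]
    exact_mod_cast h'
  have hdvd : ∀ χ, f χ ∣ 24 := by
    intro χ
    have := charDegree_dvd_card χ.2
    rwa [hN] at this
  have hmaps : ∀ χ ∈ (Finset.univ : Finset (Cfsg.IrrCharacter N)),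
      f χ ∈ ({1, 2, 3, 4} : Finset ℕ) := by
    intro χ _
    have h1 : f χ ^ 2 ≤ 24 := by
      rw [← hsum]
      exact Finset.single_le_sum (f := fun χ => f χ ^ 2) (fun _ _ => Nat.zero_le _)
        (Finset.mem_univ χ)
    have h2 : f χ ∈ Nat.divisors 24 := Nat.mem_divisors.mpr ⟨hdvd χ, by norm_num⟩
    have h24 : Nat.divisors 24 = {1, 2, 3, 4, 6, 8, 12, 24} := by decide
    rw [h24] at h2
    simp only [Finset.mem_insert, Finset.mem_singleton] at h2 ⊢
    rcases h2 with h | h | h | h | h | h | h | h
    · exact Or.inl h
    · exact Or.inr (Or.inl h)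
    · exact Or.inr (Or.inr (Or.inl h))
    · exact Or.inr (Or.inr (Or.inr h))
    all_goals (rw [h] at h1; norm_num at h1)
  set n : ℕ → ℕ := fun d => (Finset.univ.filter (fun χ : Cfsg.IrrCharacter N => f χ = d)).card
    with hn
  have hsum' : n 1 * 1 + n 2 * 4 + n 3 * 9 + n 4 * 16 = 24 := by
    rw [← hsum, ← Finset.sum_fiberwise_of_maps_to hmaps]
    have hin : ∀ d : ℕ, ∑ χ ∈ Finset.univ.filter (fun χ : Cfsg.IrrCharacter N => f χ = d),
        f χ ^ 2 = n d * d ^ 2 := by
      intro d
      rw [hn]
      dsimp only
      rw [Finset.card_eq_sum_ones, Finset.sum_mul]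
      apply Finset.sum_congr rfl
      intro χ hχ
      rw [(Finset.mem_filter.mp hχ).2, one_mul]
    simp only [hin]
    rw [Finset.sum_insert (by decide), Finset.sum_insert (by decide),
      Finset.sum_insert (by decide), Finset.sum_singleton]
    norm_num
    ring
  have hn1 : n 1 = 3 := by
    rw [← hlin, natCard_subtype_eq_card_filter, hn]
    dsimp only
    congr 1
    ext χ
    simp only [Finset.mem_filter, Finset.mem_univ, true_and]
    rw [hf]
    dsimp only
    rw [charDegree_eq_iff χ 1, Nat.cast_one]
  have hodd : Nat.card {ψ : Cfsg.IrrCharacter N // ¬ 2 ∣ Cfsg.charDegree (ψ : N → ℂ)} =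
      n 1 + n 3 := by
    rw [natCard_subtype_eq_card_filter]
    have hunion : Finset.univ.filter
        (fun ψ : Cfsg.IrrCharacter N => ¬ 2 ∣ Cfsg.charDegree (ψ : N → ℂ)) =
        Finset.univ.filter (fun χ : Cfsg.IrrCharacter N => f χ = 1) ∪
        Finset.univ.filter (fun χ : Cfsg.IrrCharacter N => f χ = 3) := by
      ext χ
      have hm := hmaps χ (Finset.mem_univ χ)
      simp only [Finset.mem_insert, Finset.mem_singleton] at hm
      simp only [Finset.mem_filter, Finset.mem_univ, true_and, Finset.mem_union]
      change ¬ 2 ∣ f χ ↔ _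
      rcases hm with h | h | h | h <;> rw [h] <;> norm_num
    rw [hunion, Finset.card_union_of_disjoint]
    rw [Finset.disjoint_filter]
    intro χ _ h1 h3
    rw [h1] at h3
    norm_num at h3
  rw [hodd]
  omega

end Cfsg.Agent.Helper8.McK
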