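import Mathlib
import Cfsg.Agent.Helper8.McKE
import Cfsg.Agent.Helper8.McKG
import Cfsg.Agent.Helper8.McKH
import Cfsg.Agent.Helper7.FiniteFieldBasics
import Cfsg.Agent.S2431
import Cfsg.Agent.S0261

set_option autoImplicit false

/-!
The local side of the McKay equality for `SL₂(F)`, `|F|` odd, at the prime two: the normaliser of
a Sylow 2-subgroup has exactly four irreducible characters of odd degree.
-/

namespace Cfsg.Agent.Helper8.McK

open Matrix Cfsg Cfsg.Agent.Helper6 Cfsg.Agent.Helper8.SL2C Cfsg.Agent.Helper7.SL2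

variable {F : Type*} [Field F] [Fintype F]

/-- the Sylow 2-subgroups have order eight when `q ≡ ±3 mod 8`. -/
theorem card_sylow_two_of_mod8 (h : Fintype.card F % 8 = 3 ∨ Fintype.card F % 8 = 5)
    (S : Sylow 2 (SpecialLinearGroup (Fin 2) F)) :
    Nat.card (S : Subgroup (SpecialLinearGroup (Fin 2) F)) = 8 := by
  have : Fact (Nat.Prime 2) := ⟨Nat.prime_two⟩
  rw [Sylow.card_eq_multiplicity]
  have hcard := card_SL2' (F := F)
  have hne : Nat.card (SpecialLinearGroup (Fin 2) F) ≠ 0 := Nat.card_pos.ne'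
  have key : ∃ X : ℕ, Odd X ∧ Nat.card (SpecialLinearGroup (Fin 2) F) = 8 * X := by
    rcases h with h | h
    · obtain ⟨m, hm⟩ : ∃ m, Fintype.card F = 8 * m + 3 := ⟨Fintype.card F / 8, by omega⟩
      refine ⟨(8 * m + 3) * ((4 * m + 1) * (2 * m + 1)),
        Odd.mul ⟨4 * m + 1, by ring⟩ (Odd.mul ⟨2 * m, by ring⟩ ⟨m, by ring⟩), ?_⟩
      rw [hcard, hm]
      have e1 : 8 * m + 3 - 1 = 8 * m + 2 := by omega
      rw [e1]
      ring
    · obtain ⟨m, hm⟩ : ∃ m, Fintype.card F = 8 * m + 5 := ⟨Fintype.card F / 8, by omega⟩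
      refine ⟨(8 * m + 5) * ((2 * m + 1) * (4 * m + 3)),
        Odd.mul ⟨4 * m + 2, by ring⟩ (Odd.mul ⟨m, by ring⟩ ⟨2 * m + 1, by ring⟩), ?_⟩
      rw [hcard, hm]
      have e1 : 8 * m + 5 - 1 = 8 * m + 4 := by omega
      rw [e1]
      ring
  obtain ⟨X, hX, hGX⟩ := key
  have h8 : 2 ^ 3 ∣ Nat.card (SpecialLinearGroup (Fin 2) F) := ⟨X, by rw [hGX]; norm_num⟩
  have h16 : ¬ 2 ^ 4 ∣ Nat.card (SpecialLinearGroup (Fin 2) F) := by
    rintro ⟨c, hc⟩
    obtain ⟨r, hr⟩ := hX
    rw [hGX] at hc
    omega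
  rw [Nat.prime_two.pow_dvd_iff_le_factorization hne] at h8 h16
  have : (Nat.card (SpecialLinearGroup (Fin 2) F)).factorization 2 = 3 := by omega
  rw [this]
  norm_num

/-- the normaliser of a Sylow 2-subgroup has exactly four irreducible characters of odd degree. -/
theorem rhs_two (hodd : Odd (Fintype.card F)) (S : Sylow 2 (SpecialLinearGroup (Fin 2) F)) :
    Nat.card {ψ : Cfsg.IrrCharacter (Subgroup.normalizer
        ((S : Subgroup (SpecialLinearGroup (Fin 2) F)) : Set (SpecialLinearGroup (Fin 2) F))) //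
        ¬ 2 ∣ Cfsg.charDegree (ψ : Subgroup.normalizer
        ((S : Subgroup (SpecialLinearGroup (Fin 2) F)) : Set (SpecialLinearGroup (Fin 2) F)) → ℂ)}
      = 4 := by
  classical
  have h2F : (2 : F) ≠ 0 := Cfsg.Agent.Helper7.two_ne_zero_of_odd_card hodd
  have h2p : Fact (Nat.Prime 2) := ⟨Nat.prime_two⟩
  obtain ⟨hcentr, hA, hB⟩ := Cfsg.Agent.S2431.result hodd S
  have hmod : (Fintype.card F % 8 = 1 ∨ Fintype.card F % 8 = 7) ∨
      (Fintype.card F % 8 = 3 ∨ Fintype.card F % 8 = 5) := by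
    obtain ⟨j, hj⟩ := hodd
    omega
  rcases hmod with h | h
  · have hN := hA h
    obtain ⟨k, hk1, ⟨e⟩⟩ := Cfsg.Agent.S0261.result hodd S
    have e' : ↥(Subgroup.normalizer
        ((S : Subgroup (SpecialLinearGroup (Fin 2) F)) : Set (SpecialLinearGroup (Fin 2) F))) ≃*
        QuaternionGroup (2 ^ k) := (MulEquiv.subgroupCongr hN).trans e
    have : NeZero (2 ^ k) := ⟨by positivity⟩
    rw [card_pdeg_congr e' 2]
    have hX : IsPGroup 2 (QuaternionGroup (2 ^ k)) :=
      IsPGroup.of_card (n := k + 2) (by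
        rw [Nat.card_eq_fintype_card, QuaternionGroup.card]
        ring)
    rw [card_pdeg_of_pgroup 2 hX]
    apply index_commutator_quaternion
    obtain ⟨k', rfl⟩ : ∃ k', k = k' + 1 := ⟨k - 1, by omega⟩
    rw [pow_succ]
    exact even_two.mul_left _
  · have hS8 := card_sylow_two_of_mod8 h S
    have hN24 : Nat.card (Subgroup.normalizer
        ((S : Subgroup (SpecialLinearGroup (Fin 2) F)) : Set (SpecialLinearGroup (Fin 2) F))) =
        24 := by
      rw [hB h, hS8]
    have hnorm : ((S : Subgroup (SpecialLinearGroup (Fin 2) F)).subgroupOf (Subgroup.normalizer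
        ((S : Subgroup (SpecialLinearGroup (Fin 2) F)) : Set (SpecialLinearGroup (Fin 2) F)))).Normal :=
      Subgroup.normal_in_normalizer
    have hS' : Nat.card ((S : Subgroup (SpecialLinearGroup (Fin 2) F)).subgroupOf
        (Subgroup.normalizer
        ((S : Subgroup (SpecialLinearGroup (Fin 2) F)) : Set (SpecialLinearGroup (Fin 2) F)))) =
        8 := by
      rw [Nat.card_congr (Subgroup.subgroupOfEquivOfLe Subgroup.le_normalizer).toEquiv, hS8]
    refine card_odd_of_order_24 hN24 _ hS'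
      ⟨-1, Subgroup.center_le_normalizer _ (mem_center_iff'.mpr (Or.inr rfl))⟩ ?_ ?_ ?_
    · apply Subtype.ext
      exact neg_one_mul_neg_one
    · intro x hx
      have hx' : (x : SpecialLinearGroup (Fin 2) F) * (x : SpecialLinearGroup (Fin 2) F) = 1 :=
        congrArg Subtype.val hx
      rcases eq_one_or_neg_one_of_sq h2F hx' with h1 | h1
      · left
        exact Subtype.ext h1
      · right
        exact Subtype.ext h1
    · intro g hg
      have hgc : (g : SpecialLinearGroup (Fin 2) F) ∈ Subgroup.centralizer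
          ((S : Subgroup (SpecialLinearGroup (Fin 2) F)) : Set (SpecialLinearGroup (Fin 2) F)) := by
        rw [Subgroup.mem_centralizer_iff]
        intro s hs
        have := hg ⟨s, Subgroup.le_normalizer hs⟩ (Subgroup.mem_subgroupOf.mpr hs)
        exact (congrArg Subtype.val this).symm
      rw [hcentr, mem_center_iff'] at hgc
      rcases hgc with h1 | h1
      · left
        exact Subtype.ext h1
      · right
        exact Subtype.ext h1

/-- over the field with three elements, a Sylow 2-subgroup is normal. -/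
theorem normalizer_two_eq_top (hq : Fintype.card F = 3)
    (S : Sylow 2 (SpecialLinearGroup (Fin 2) F)) :
    Subgroup.normalizer
      ((S : Subgroup (SpecialLinearGroup (Fin 2) F)) : Set (SpecialLinearGroup (Fin 2) F)) = ⊤ := by
  have hodd : Odd (Fintype.card F) := by rw [hq]; exact ⟨1, rfl⟩
  obtain ⟨-, -, hB⟩ := Cfsg.Agent.S2431.result hodd S
  have h : Fintype.card F % 8 = 3 ∨ Fintype.card F % 8 = 5 := Or.inl (by rw [hq])
  have hS8 := card_sylow_two_of_mod8 h S
  rw [← Subgroup.card_eq_iff_eq_top, hB h, hS8, card_SL2', hq]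

end Cfsg.Agent.Helper8.McK
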