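import Mathlib
set_option autoImplicit false

/-!
Combinatorics of the element orders of `Sp_8(q)`, `q` even: primary blocks (`Base`), signatures
(`Sig`), and the verification that every combination of blocks of total degree at most `8`
is dominated by one of twelve signatures.
-/

namespace Cfsg.Agent.Helper8.SpO8

/-- a primary block: `U e` is `(X-1)^e`; `P d e` is `f^e` with `f` self-reciprocal irreducible
of degree `2d`; `M d e` is `(f f*)^e` with `f` irreducible of degree `d`, `f* ≠ f`. -/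
inductive Base
  | U (e : ℕ)
  | P (d e : ℕ)
  | M (d e : ℕ)
deriving DecidableEq

def Base.deg : Base → ℕ
  | .U e => e
  | .P d e => 2 * d * e
  | .M d e => 2 * d * e

def Base.valid : Base → Prop
  | .U e => 1 ≤ e
  | .P d e => 1 ≤ d ∧ 1 ≤ e
  | .M d e => 1 ≤ d ∧ 1 ≤ e

def Base.val (q : ℕ) : Base → ℕ
  | .U e => 2 ^ Nat.clog 2 e
  | .P d e => (q ^ d + 1) * 2 ^ Nat.clog 2 e
  | .M d e => (q ^ d - 1) * 2 ^ Nat.clog 2 e

structure Sig where
  j : ℕ
  a : Bool
  b : Bool
  c : Bool
  d : Bool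
  e : Bool
  g : Bool
deriving DecidableEq

def fac (x : Bool) (n : ℕ) : ℕ := if x then n else 1

def Sig.val (q : ℕ) (s : Sig) : ℕ :=
  2 ^ s.j * fac s.a (q - 1) * fac s.b (q + 1) * fac s.c (q ^ 2 + 1) * fac s.d (q ^ 2 + q + 1)
    * fac s.e (q ^ 2 - q + 1) * fac s.g (q ^ 4 + 1)

def Sig.sup (s t : Sig) : Sig :=
  ⟨max s.j t.j, s.a || t.a, s.b || t.b, s.c || t.c, s.d || t.d, s.e || t.e, s.g || t.g⟩

def Sig.le (s t : Sig) : Bool :=
  decide (s.j ≤ t.j) && (!s.a || t.a) && (!s.b || t.b) && (!s.c || t.c) && (!s.d || t.d)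
    && (!s.e || t.e) && (!s.g || t.g)

def Sig.bot : Sig := ⟨0, false, false, false, false, false, false⟩

theorem fac_dvd {x y : Bool} (h : (!x || y) = true) (n : ℕ) : fac x n ∣ fac y n := by
  unfold fac
  cases x <;> cases y <;> simp_all

theorem Sig.le_val (q : ℕ) {s t : Sig} (h : s.le t = true) : s.val q ∣ t.val q := by
  unfold Sig.le at h
  simp only [Bool.and_eq_true, decide_eq_true_eq] at h
  obtain ⟨⟨⟨⟨⟨⟨h1, h2⟩, h3⟩, h4⟩, h5⟩, h6⟩, h7⟩ := h
  unfold Sig.val
  exact mul_dvd_mul (mul_dvd_mul (mul_dvd_mul (mul_dvd_mul (mul_dvd_mul (mul_dvd_mul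
    (pow_dvd_pow 2 h1) (fac_dvd h2 _)) (fac_dvd h3 _)) (fac_dvd h4 _)) (fac_dvd h5 _))
    (fac_dvd h6 _)) (fac_dvd h7 _)

theorem Sig.le_of_sup_le {s t u : Sig} (h : (s.sup t).le u = true) :
    s.le u = true ∧ t.le u = true := by
  unfold Sig.le Sig.sup at *
  simp only [Bool.and_eq_true, decide_eq_true_eq, Bool.or_eq_true, Bool.not_eq_true'] at *
  obtain ⟨⟨⟨⟨⟨⟨h1, h2⟩, h3⟩, h4⟩, h5⟩, h6⟩, h7⟩ := h
  have hj := max_le_iff.mp h1
  refine ⟨⟨⟨⟨⟨⟨⟨hj.1, ?_⟩, ?_⟩, ?_⟩, ?_⟩, ?_⟩, ?_⟩, ⟨⟨⟨⟨⟨⟨hj.2, ?_⟩, ?_⟩, ?_⟩, ?_⟩, ?_⟩, ?_⟩⟩ <;>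
    (first | (cases hs : s.a <;> cases ht : t.a <;> simp_all; done)
           | (cases hs : s.b <;> cases ht : t.b <;> simp_all; done)
           | (cases hs : s.c <;> cases ht : t.c <;> simp_all; done)
           | (cases hs : s.d <;> cases ht : t.d <;> simp_all; done)
           | (cases hs : s.e <;> cases ht : t.e <;> simp_all; done)
           | (cases hs : s.g <;> cases ht : t.g <;> simp_all; done))

/-- the signature of a block -/
def sig : Base → Sig
  | .U e => ⟨Nat.clog 2 e, false, false, false, false, false, false⟩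
  | .P 1 e => ⟨Nat.clog 2 e, false, true, false, false, false, false⟩
  | .P 2 e => ⟨Nat.clog 2 e, false, false, true, false, false, false⟩
  | .P 3 e => ⟨Nat.clog 2 e, false, true, false, false, true, false⟩
  | .P 4 e => ⟨Nat.clog 2 e, false, false, false, false, false, true⟩
  | .P _ _ => Sig.bot
  | .M 1 e => ⟨Nat.clog 2 e, true, false, false, false, false, false⟩
  | .M 2 e => ⟨Nat.clog 2 e, true, true, false, false, false, false⟩
  | .M 3 e => ⟨Nat.clog 2 e, true, false, false, true, false, false⟩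
  | .M 4 e => ⟨Nat.clog 2 e, true, true, true, false, false, false⟩
  | .M _ _ => Sig.bot

/-- the twelve maximal signatures -/
def Llist : List Sig :=
  [⟨0, false, false, false, false, false, true⟩,
   ⟨0, true, true, true, false, false, false⟩,
   ⟨0, true, true, false, false, true, false⟩,
   ⟨0, true, true, false, true, false, false⟩,
   ⟨1, false, true, false, false, true, false⟩,
   ⟨1, true, false, false, true, false, false⟩,
   ⟨1, true, false, true, false, false, false⟩,
   ⟨1, false, true, true, false, false, false⟩,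
   ⟨2, false, false, true, false, false, false⟩,
   ⟨2, true, true, false, false, false, false⟩,
   ⟨3, true, false, false, false, false, false⟩,
   ⟨3, false, true, false, false, false, false⟩]

def okSig (s : Sig) : Bool := Llist.any (fun l => s.le l)

def catalog : List Base :=
  [.U 1, .U 2, .U 3, .U 4, .U 5, .U 6, .U 7, .U 8,
   .P 1 1, .P 1 2, .P 1 3, .P 1 4, .M 1 1, .M 1 2, .M 1 3, .M 1 4,
   .P 2 1, .P 2 2, .M 2 1, .M 2 2, .P 3 1, .M 3 1, .P 4 1, .M 4 1]

def chk : ℕ → ℕ → Sig → Bool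
  | 0, _, _ => false
  | f + 1, b, acc =>
    okSig acc && catalog.all (fun x => decide (b < x.deg) || chk f (b - x.deg) (acc.sup (sig x)))

set_option maxRecDepth 100000 in
theorem chk_main : chk 9 8 Sig.bot = true := by decide


theorem mem_catalog (x : Base) (hv : x.valid) (hd : x.deg ≤ 8) : x ∈ catalog := by
  cases x with
  | U e =>
    change 1 ≤ e at hv
    change e ≤ 8 at hd
    interval_cases e <;> decide
  | P d e =>
    change 1 ≤ d ∧ 1 ≤ e at hv
    change 2 * d * e ≤ 8 at hd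
    obtain ⟨h1, h2⟩ := hv
    have hd4 : d ≤ 4 := by nlinarith
    have he4 : e ≤ 4 := by nlinarith
    interval_cases d <;> interval_cases e <;> first | decide | omega
  | M d e =>
    change 1 ≤ d ∧ 1 ≤ e at hv
    change 2 * d * e ≤ 8 at hd
    obtain ⟨h1, h2⟩ := hv
    have hd4 : d ≤ 4 := by nlinarith
    have he4 : e ≤ 4 := by nlinarith
    interval_cases d <;> interval_cases e <;> first | decide | omega

theorem deg_pos_of_valid (x : Base) (hv : x.valid) : 1 ≤ x.deg := by
  cases x with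
  | U e => exact hv
  | P d e =>
    obtain ⟨h1, h2⟩ := hv
    change 1 ≤ 2 * d * e
    nlinarith
  | M d e =>
    obtain ⟨h1, h2⟩ := hv
    change 1 ≤ 2 * d * e
    nlinarith

theorem chk_sound : ∀ (l : List Base) (f b : ℕ) (acc : Sig), chk f b acc = true → b < f → b ≤ 8 →
    (∀ x ∈ l, x.valid) → (l.map Base.deg).sum ≤ b →
    ∃ t ∈ Llist, acc.le t = true ∧ ∀ x ∈ l, (sig x).le t = true := by
  intro l
  induction l with
  | nil =>
    intro f b acc h hfb _ _ _
    cases f with
    | zero => omega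
    | succ f =>
      unfold chk at h
      rw [Bool.and_eq_true] at h
      have h1 := h.1
      unfold okSig at h1
      rw [List.any_eq_true] at h1
      obtain ⟨t, ht, hle⟩ := h1
      exact ⟨t, ht, hle, fun x hx => absurd hx List.not_mem_nil⟩
  | cons y l ih =>
    intro f b acc h hfb hb8 hv hd
    cases f with
    | zero => omega
    | succ f =>
      unfold chk at h
      rw [Bool.and_eq_true] at h
      have h2 := h.2
      rw [List.all_eq_true] at h2
      have hyv : y.valid := hv y List.mem_cons_self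
      rw [List.map_cons, List.sum_cons] at hd
      have hyd : y.deg ≤ b := by omega
      have hy1 := deg_pos_of_valid y hyv
      have h3 := h2 y (mem_catalog y hyv (by omega))
      rw [Bool.or_eq_true, decide_eq_true_eq] at h3
      rcases h3 with h3 | h3
      · omega
      · obtain ⟨t, ht, hle, hall⟩ := ih f (b - y.deg) (acc.sup (sig y)) h3 (by omega) (by omega)
          (fun x hx => hv x (List.mem_cons_of_mem _ hx)) (by omega)
        have h4 := Sig.le_of_sup_le hle
        refine ⟨t, ht, h4.1, fun x hx => ?_⟩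
        rcases List.mem_cons.mp hx with rfl | hx
        · exact h4.2
        · exact hall x hx

/-- **combinatorial main lemma** -/
theorem comb (l : List Base) (hv : ∀ x ∈ l, x.valid) (hd : (l.map Base.deg).sum ≤ 8) :
    ∃ t ∈ Llist, ∀ x ∈ l, (sig x).le t = true := by
  obtain ⟨t, ht, -, hall⟩ := chk_sound l 9 8 Sig.bot chk_main (by omega) le_rfl hv hd
  exact ⟨t, ht, hall⟩

/-! ### values -/

theorem sq_sub_one (q : ℕ) (hq : 1 ≤ q) : q ^ 2 - 1 = (q - 1) * (q + 1) := by
  obtain ⟨k, rfl⟩ := Nat.exists_eq_add_of_le hq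
  have : (1 + k) ^ 2 = (1 + k - 1) * (1 + k + 1) + 1 := by
    rw [Nat.add_sub_cancel_left]; ring
  omega

theorem cube_sub_one (q : ℕ) (hq : 1 ≤ q) : q ^ 3 - 1 = (q - 1) * (q ^ 2 + q + 1) := by
  obtain ⟨k, rfl⟩ := Nat.exists_eq_add_of_le hq
  have : (1 + k) ^ 3 = (1 + k - 1) * ((1 + k) ^ 2 + (1 + k) + 1) + 1 := by
    rw [Nat.add_sub_cancel_left]; ring
  omega

theorem four_sub_one (q : ℕ) (hq : 1 ≤ q) : q ^ 4 - 1 = (q - 1) * (q + 1) * (q ^ 2 + 1) := by
  obtain ⟨k, rfl⟩ := Nat.exists_eq_add_of_le hq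
  have : (1 + k) ^ 4 = (1 + k - 1) * (1 + k + 1) * ((1 + k) ^ 2 + 1) + 1 := by
    rw [Nat.add_sub_cancel_left]; ring
  omega

theorem cube_add_one (q : ℕ) (hq : 1 ≤ q) : q ^ 3 + 1 = (q + 1) * (q ^ 2 - q + 1) := by
  obtain ⟨k, rfl⟩ := Nat.exists_eq_add_of_le hq
  have h1 : (1 + k) ^ 2 - (1 + k) = k * (1 + k) := by
    have : (1 + k) ^ 2 = k * (1 + k) + (1 + k) := by ring
    omega
  rw [h1]
  ring

/-- the value of a block divides the value of its signature -/
theorem val_dvd_sig (q : ℕ) (hq : 1 ≤ q) (x : Base) (hv : x.valid) (hd : x.deg ≤ 8) :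
    x.val q ∣ (sig x).val q := by
  have hmem := mem_catalog x hv hd
  unfold catalog at hmem
  simp only [List.mem_cons, List.not_mem_nil, or_false] at hmem
  rcases hmem with rfl | rfl | rfl | rfl | rfl | rfl | rfl | rfl | rfl | rfl | rfl | rfl | rfl |
    rfl | rfl | rfl | rfl | rfl | rfl | rfl | rfl | rfl | rfl | rfl <;>
  simp only [Base.val, sig, Sig.val, fac, if_true, if_false, Bool.false_eq_true, mul_one,
    pow_one] <;>
  first
  | exact dvd_rfl
  | (refine Dvd.intro 1 ?_; ring1)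
  | (rw [sq_sub_one q hq]; refine Dvd.intro 1 ?_; ring1)
  | (rw [cube_sub_one q hq]; refine Dvd.intro 1 ?_; ring1)
  | (rw [cube_add_one q hq]; refine Dvd.intro 1 ?_; ring1)
  | (rw [four_sub_one q hq]; refine Dvd.intro 1 ?_; ring1)

end Cfsg.Agent.Helper8.SpO8
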