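import Mathlib
import Cfsg.Agent.Helper8.SpO8A
import Cfsg.Agent.Helper8.SpGRev
import Cfsg.Agent.Helper8.SpGWt
import Cfsg.Agent.Lead.SpecSpD
set_option autoImplicit false

/-!
Self-reciprocal polynomials over a finite field of characteristic two: decomposition into primary
blocks, each dividing `X ^ N - 1` for the value `N` of the block.
-/

namespace Cfsg.Agent.Helper8.SpO8

open Polynomial
open Cfsg.Agent.Helper8.SpG (reverse_reverse_of_coeff_zero natDegree_reverse_of_coeff_zero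
  coeff_zero_reverse_ne reverse_dvd_reverse irreducible_reverse reverse_pow')

variable {F : Type*} [Field F]

theorem X_pow_sub_one_dvd {a N : ℕ} (h : a ∣ N) : (X ^ a - 1 : F[X]) ∣ X ^ N - 1 := by
  obtain ⟨k, rfl⟩ := h
  have := sub_dvd_pow_sub_pow ((X : F[X]) ^ a) 1 k
  rwa [one_pow, ← pow_mul] at this

theorem pow_dvd_of_dvd [CharP F 2] (p : F[X]) (M e : ℕ) (h : p ∣ X ^ M - 1) :
    p ^ e ∣ X ^ (M * 2 ^ Nat.clog 2 e) - 1 := by
  have h1 : p ^ e ∣ p ^ (2 ^ Nat.clog 2 e) := pow_dvd_pow p (Nat.le_pow_clog (by norm_num) e)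
  have h2 : p ^ (2 ^ Nat.clog 2 e) ∣ (X ^ M - 1) ^ (2 ^ Nat.clog 2 e) := pow_dvd_pow_of_dvd h _
  have h3 : ((X : F[X]) ^ M - 1) ^ (2 ^ Nat.clog 2 e) = X ^ (M * 2 ^ Nat.clog 2 e) - 1 := by
    have : Fact (Nat.Prime 2) := ⟨Nat.prime_two⟩
    rw [sub_pow_char_pow, one_pow, ← pow_mul]
  rw [← h3]
  exact h1.trans h2

/-- cancelling a self-reciprocal factor -/
theorem sr_cancel (ν ρ : F[X]) (hν : ν ≠ 0) (hass : Associated ν ν.reverse)
    (h : ν * ρ ∣ (ν * ρ).reverse) : ρ ∣ ρ.reverse := by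
  rw [Polynomial.reverse_mul_of_domain] at h
  obtain ⟨u, hu⟩ := hass
  rw [← hu, mul_assoc] at h
  have h1 := (mul_dvd_mul_iff_left hν).mp h
  rw [mul_comm] at h1
  exact (Units.dvd_mul_right).mp h1

theorem coeff_zero_ne_of_mul {a b : F[X]} (h : (a * b).coeff 0 ≠ 0) :
    a.coeff 0 ≠ 0 ∧ b.coeff 0 ≠ 0 := by
  rw [Polynomial.mul_coeff_zero] at h
  exact ⟨left_ne_zero_of_mul h, right_ne_zero_of_mul h⟩

theorem reverse_dvd_self {μ : F[X]} (h0 : μ.coeff 0 ≠ 0) (h : μ ∣ μ.reverse) : μ.reverse ∣ μ := by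
  have := reverse_dvd_reverse h
  rwa [reverse_reverse_of_coeff_zero μ h0] at this

variable [Fintype F]

theorem even_card [CharP F 2] : Even (Fintype.card F) := by
  have h2 : (2 : ℕ) ∣ Fintype.card F := by
    have := FiniteField.cast_card_eq_zero F
    exact (CharP.cast_eq_zero_iff F 2 _).mp this
  exact even_iff_two_dvd.mpr h2

theorem odd_pow_sub_one [CharP F 2] {k : ℕ} (hk : 1 ≤ k) : Odd (Fintype.card F ^ k - 1) := by
  have h1 : Even (Fintype.card F ^ k) := (even_card (F := F)).pow_of_ne_zero (by omega)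
  have h2 : 1 ≤ Fintype.card F ^ k := Nat.one_le_pow _ _ Fintype.card_pos
  obtain ⟨m, hm⟩ := h1
  exact ⟨m - 1, by omega⟩

/-- **decomposition into primary blocks** -/
theorem exists_blocks [CharP F 2] : ∀ (d : ℕ) (μ : F[X]), μ.natDegree = d → μ ≠ 0 →
    μ.coeff 0 ≠ 0 → μ ∣ μ.reverse →
    ∃ l : List Base, (∀ x ∈ l, x.valid) ∧ (l.map Base.deg).sum = d ∧
      ∀ N : ℕ, (∀ x ∈ l, x.val (Fintype.card F) ∣ N) → μ ∣ X ^ N - 1 := by
  intro d
  induction d using Nat.strong_induction_on with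
  | _ d ih =>
  intro μ hd hμ0 hc0 hsr
  by_cases hu : IsUnit μ
  · refine ⟨[], fun x hx => absurd hx List.not_mem_nil, ?_, fun N _ => hu.dvd⟩
    rw [List.map_nil, List.sum_nil, ← hd, Polynomial.natDegree_eq_zero_of_isUnit hu]
  obtain ⟨p, hpm, hpi, hpd⟩ := Polynomial.exists_monic_irreducible_factor μ hu
  have hp0 : p.coeff 0 ≠ 0 := by
    obtain ⟨c, hc⟩ := hpd
    rw [hc] at hc0
    exact (coeff_zero_ne_of_mul hc0).1
  obtain ⟨e, ρ₀, hnd, hμe⟩ := WfDvdMonoid.max_power_factor hμ0 hpi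
  have he1 : 1 ≤ e := by
    rcases Nat.eq_zero_or_pos e with h | h
    · exfalso
      rw [h, pow_zero, one_mul] at hμe
      rw [hμe] at hpd
      exact hnd hpd
    · exact h
  have hρ₀0 : ρ₀ ≠ 0 := by
    rintro rfl
    rw [mul_zero] at hμe
    exact hμ0 hμe
  have hpe0 : p ^ e ≠ 0 := pow_ne_zero _ hpi.ne_zero
  have hpdeg : 1 ≤ p.natDegree := hpi.natDegree_pos
  have hcop : IsCoprime (p ^ e) ρ₀ := ((Irreducible.coprime_iff_not_dvd hpi).mpr hnd).pow_left
  have hpa : p ∣ X ^ (Fintype.card F ^ p.natDegree - 1) - 1 :=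
    Cfsg.Agent.Lead.SpecSp.irred_dvd_X_pow_sub_one p hpm hpi hp0
  by_cases hrev : p ∣ p.reverse
  · -- self-reciprocal irreducible factor
    have hpri : Irreducible p.reverse := irreducible_reverse p hpi hp0
    have hass : Associated (p ^ e) (p ^ e).reverse := by
      rw [reverse_pow']
      exact (hpi.associated_of_dvd hpri hrev).pow_pow
    have hρsr : ρ₀ ∣ ρ₀.reverse := sr_cancel (p ^ e) ρ₀ hpe0 hass (by rw [← hμe]; exact hsr)
    have hρc0 : ρ₀.coeff 0 ≠ 0 := by
      rw [hμe] at hc0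
      exact (coeff_zero_ne_of_mul hc0).2
    have hdeg : d = e * p.natDegree + ρ₀.natDegree := by
      rw [← hd, hμe, Polynomial.natDegree_mul hpe0 hρ₀0, Polynomial.natDegree_pow]
    obtain ⟨l, hlv, hls, hlN⟩ := ih ρ₀.natDegree (by nlinarith) ρ₀ rfl hρ₀0 hρc0 hρsr
    rcases Cfsg.Agent.Lead.SpecSp.self_reciprocal_dvd p hpm hpi hrev _
        (odd_pow_sub_one (F := F) hpdeg) hpa with hX | ⟨δ, hδ1, hδ, hpδ⟩
    · -- p = X - 1
      refine ⟨Base.U e :: l, ?_, ?_, ?_⟩
      · intro x hx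
        rcases List.mem_cons.mp hx with rfl | hx
        · exact he1
        · exact hlv x hx
      · rw [List.map_cons, List.sum_cons, hls, hdeg]
        have : p.natDegree = 1 := by
          rw [hX]
          have : (X - 1 : F[X]) = X - C 1 := by rw [C_1]
          rw [this, natDegree_X_sub_C]
        rw [this, mul_one]
        rfl
      · intro N hN
        rw [hμe]
        refine IsCoprime.mul_dvd hcop ?_ (hlN N fun x hx => hN x (List.mem_cons_of_mem _ hx))
        have h1 : p ∣ X ^ 1 - 1 := by rw [hX, pow_one]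
        have h2 := pow_dvd_of_dvd p 1 e h1
        have h3 := hN (Base.U e) List.mem_cons_self
        change 2 ^ Nat.clog 2 e ∣ N at h3
        rw [one_mul] at h2
        exact h2.trans (X_pow_sub_one_dvd h3)
    · refine ⟨Base.P δ e :: l, ?_, ?_, ?_⟩
      · intro x hx
        rcases List.mem_cons.mp hx with rfl | hx
        · exact ⟨hδ1, he1⟩
        · exact hlv x hx
      · rw [List.map_cons, List.sum_cons, hls, hdeg, hδ]
        change 2 * δ * e + ρ₀.natDegree = e * (2 * δ) + ρ₀.natDegree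
        ring
      · intro N hN
        rw [hμe]
        refine IsCoprime.mul_dvd hcop ?_ (hlN N fun x hx => hN x (List.mem_cons_of_mem _ hx))
        have h2 := pow_dvd_of_dvd p _ e hpδ
        have h3 := hN (Base.P δ e) List.mem_cons_self
        change (Fintype.card F ^ δ + 1) * 2 ^ Nat.clog 2 e ∣ N at h3
        exact h2.trans (X_pow_sub_one_dvd h3)
  · -- a pair of reciprocal factors
    set p' := p.reverse with hp'
    have hp'i : Irreducible p' := irreducible_reverse p hpi hp0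
    have hp'0 : p'.coeff 0 ≠ 0 := coeff_zero_reverse_ne p hpi.ne_zero
    have hp'deg : p'.natDegree = p.natDegree := natDegree_reverse_of_coeff_zero p hp0
    have hp'rev : p'.reverse = p := reverse_reverse_of_coeff_zero p hp0
    have hcpp : IsCoprime p p' := (Irreducible.coprime_iff_not_dvd hpi).mpr hrev
    have hrd : μ.reverse ∣ μ := reverse_dvd_self hc0 hsr
    have h1 : p' ^ e ∣ μ := by
      have : (p ^ e).reverse ∣ μ.reverse := reverse_dvd_reverse ⟨ρ₀, hμe⟩
      rw [reverse_pow'] at this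
      exact this.trans hrd
    have h2 : p' ^ e ∣ ρ₀ := by
      rw [hμe] at h1
      exact (hcpp.symm.pow).dvd_of_dvd_mul_left h1
    obtain ⟨ρ₁, hρ₁⟩ := h2
    have hρ₁0 : ρ₁ ≠ 0 := by
      rintro rfl
      rw [mul_zero] at hρ₁
      exact hρ₀0 hρ₁
    have hnd1 : ¬ p ∣ ρ₁ := fun h => hnd (by rw [hρ₁]; exact h.mul_left _)
    have hnd2 : ¬ p' ∣ ρ₁ := by
      intro h
      obtain ⟨c, hc⟩ := h
      have h3 : p' ^ (e + 1) ∣ μ := by
        rw [hμe, hρ₁, hc]
        exact ⟨p ^ e * c, by ring⟩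
      have h4 : (p' ^ (e + 1)).reverse ∣ μ.reverse := reverse_dvd_reverse h3
      rw [reverse_pow', hp'rev] at h4
      have h5 : p ^ (e + 1) ∣ p ^ e * ρ₀ := by
        rw [← hμe]
        exact h4.trans hrd
      rw [pow_succ] at h5
      exact hnd ((mul_dvd_mul_iff_left hpe0).mp h5)
    have hp'e0 : p' ^ e ≠ 0 := pow_ne_zero _ hp'i.ne_zero
    set ν := p ^ e * p' ^ e with hν
    have hν0 : ν ≠ 0 := mul_ne_zero hpe0 hp'e0
    have hμν : μ = ν * ρ₁ := by rw [hμe, hρ₁, hν, mul_assoc]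
    have hass : Associated ν ν.reverse := by
      rw [hν, Polynomial.reverse_mul_of_domain, reverse_pow', reverse_pow', hp'rev, ← hp',
        mul_comm]
    have hρsr : ρ₁ ∣ ρ₁.reverse := sr_cancel ν ρ₁ hν0 hass (by rw [← hμν]; exact hsr)
    have hρc0 : ρ₁.coeff 0 ≠ 0 := by
      rw [hμν] at hc0
      exact (coeff_zero_ne_of_mul hc0).2
    have hdeg : d = 2 * p.natDegree * e + ρ₁.natDegree := by
      rw [← hd, hμν, Polynomial.natDegree_mul hν0 hρ₁0, hν,
        Polynomial.natDegree_mul hpe0 hp'e0, Polynomial.natDegree_pow, Polynomial.natDegree_pow,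
        hp'deg]
      ring
    obtain ⟨l, hlv, hls, hlN⟩ := ih ρ₁.natDegree (by nlinarith) ρ₁ rfl hρ₁0 hρc0 hρsr
    have hcopν : IsCoprime ν ρ₁ := by
      rw [hν]
      exact IsCoprime.mul_left ((Irreducible.coprime_iff_not_dvd hpi).mpr hnd1).pow_left
        ((Irreducible.coprime_iff_not_dvd hp'i).mpr hnd2).pow_left
    -- p' divides the same binomial
    have hpa' : p' ∣ X ^ (Fintype.card F ^ p.natDegree - 1) - 1 := by
      have hm : (p' * C p'.leadingCoeff⁻¹).Monic :=
        Polynomial.monic_mul_leadingCoeff_inv hp'i.ne_zero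
      have hirr : Irreducible (p' * C p'.leadingCoeff⁻¹) :=
        Polynomial.irreducible_mul_leadingCoeff_inv.mpr hp'i
      have hlc : p'.leadingCoeff⁻¹ ≠ 0 := inv_ne_zero (leadingCoeff_ne_zero.mpr hp'i.ne_zero)
      have hc : (p' * C p'.leadingCoeff⁻¹).coeff 0 ≠ 0 := by
        rw [Polynomial.mul_coeff_zero, Polynomial.coeff_C_zero]
        exact mul_ne_zero hp'0 hlc
      have hdg : (p' * C p'.leadingCoeff⁻¹).natDegree = p.natDegree := by
        rw [Polynomial.natDegree_mul_C hlc, hp'deg]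
      have := Cfsg.Agent.Lead.SpecSp.irred_dvd_X_pow_sub_one _ hm hirr hc
      rw [hdg] at this
      exact (Dvd.intro _ rfl).trans this
    refine ⟨Base.M p.natDegree e :: l, ?_, ?_, ?_⟩
    · intro x hx
      rcases List.mem_cons.mp hx with rfl | hx
      · exact ⟨hpdeg, he1⟩
      · exact hlv x hx
    · rw [List.map_cons, List.sum_cons, hls, hdeg]
      rfl
    · intro N hN
      rw [hμν]
      refine IsCoprime.mul_dvd hcopν ?_ (hlN N fun x hx => hN x (List.mem_cons_of_mem _ hx))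
      have h3 := hN (Base.M p.natDegree e) List.mem_cons_self
      change (Fintype.card F ^ p.natDegree - 1) * 2 ^ Nat.clog 2 e ∣ N at h3
      have h4 := (pow_dvd_of_dvd p _ e hpa).trans (X_pow_sub_one_dvd (F := F) h3)
      have h5 := (pow_dvd_of_dvd p' _ e hpa').trans (X_pow_sub_one_dvd (F := F) h3)
      rw [hν]
      exact IsCoprime.mul_dvd (hcpp.pow) h4 h5

end Cfsg.Agent.Helper8.SpO8
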