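import Mathlib
import Cfsg.Agent.Helper8.SpO8B
import Cfsg.Agent.Lead.SpecSpE
set_option autoImplicit false

/-!
Self-reciprocal polynomials over a finite field (any characteristic): a self-reciprocal
irreducible polynomial is `X - 1`, `X + 1`, or has even degree `2e` and divides
`X ^ (q ^ e + 1) - 1`; a self-reciprocal polynomial prime to `X - 1` and `X + 1` decomposes into
primary blocks of two kinds.
-/

namespace Cfsg.Agent.Helper8.Meo

open Polynomial
open Cfsg.Agent.Helper8.SpG (reverse_reverse_of_coeff_zero natDegree_reverse_of_coeff_zero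
  coeff_zero_reverse_ne reverse_dvd_reverse irreducible_reverse reverse_pow')
open Cfsg.Agent.Helper8.PGraph (root_pow_eq_one_iff card_adjoinRoot)
open Cfsg.Agent.Helper8.SpO8 (X_pow_sub_one_dvd sr_cancel coeff_zero_ne_of_mul reverse_dvd_self)

set_option linter.style.haveILetI false
set_option linter.unusedSectionVars false

variable {F : Type*} [Field F] [Fintype F]

/-- a self-reciprocal monic irreducible polynomial is `X - 1`, `X + 1`, or has even degree `2e`
and divides `X^(q^e+1) - 1` -/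
theorem sr_cases (f : F[X]) (hf : f.Monic) (hirr : Irreducible f) (h0 : f.coeff 0 ≠ 0)
    (hrev : f ∣ f.reverse) :
    f = X - 1 ∨ f = X + 1 ∨
      ∃ e : ℕ, 1 ≤ e ∧ f.natDegree = 2 * e ∧ f ∣ X ^ (Fintype.card F ^ e + 1) - 1 := by
  haveI : Fact (Irreducible f) := ⟨hirr⟩
  haveI : Module.Finite F (AdjoinRoot f) := hf.finite_adjoinRoot
  haveI : Finite (AdjoinRoot f) := Module.finite_of_finite F
  set α := AdjoinRoot.root f with hα
  have hdvd := Cfsg.Agent.Lead.SpecSp.irred_dvd_X_pow_sub_one f hf hirr h0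
  have h1 : α ^ (Fintype.card F ^ f.natDegree - 1) = 1 := (root_pow_eq_one_iff f _).mpr hdvd
  have hα0 : α ≠ 0 := by
    intro h0'
    have hpos : 0 < Fintype.card F ^ f.natDegree - 1 := by
      have h2 : 2 ≤ Fintype.card F := Fintype.one_lt_card
      have h3 : 1 ≤ f.natDegree := hirr.natDegree_pos
      have : 2 ^ 1 ≤ Fintype.card F ^ f.natDegree :=
        (Nat.pow_le_pow_left h2 1).trans (Nat.pow_le_pow_right (by omega) h3)
      omega
    rw [h0', zero_pow hpos.ne'] at h1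
    exact zero_ne_one h1
  have hfr : Module.finrank F (AdjoinRoot f) = f.natDegree := by
    rw [(AdjoinRoot.powerBasis hirr.ne_zero).finrank, AdjoinRoot.powerBasis_dim]
  have hroot0 : eval₂ (algebraMap F (AdjoinRoot f)) α f.reverse = 0 := by
    obtain ⟨c, hc⟩ := hrev
    rw [hc, eval₂_mul]
    have : eval₂ (algebraMap F (AdjoinRoot f)) α f = 0 := by
      have := AdjoinRoot.eval₂_root f
      rwa [AdjoinRoot.algebraMap_eq]
    rw [this, zero_mul]
  have hroot : eval₂ ((Algebra.ofId F (AdjoinRoot f)) : F →+* AdjoinRoot f) α⁻¹ f = 0 := by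
    let _ : Invertible (α⁻¹) := ⟨α, mul_inv_cancel₀ hα0, inv_mul_cancel₀ hα0⟩
    have := (Polynomial.eval₂_reverse_eq_zero_iff (algebraMap F (AdjoinRoot f)) α⁻¹ f).mp hroot0
    exact this
  let σ : AdjoinRoot f →ₐ[F] AdjoinRoot f :=
    AdjoinRoot.liftAlgHom f (Algebra.ofId F (AdjoinRoot f)) α⁻¹ hroot
  have hσα : σ α = α⁻¹ := AdjoinRoot.liftAlgHom_root _ _ _ _
  obtain ⟨⟨j, hjlt'⟩, hj⟩ := (FiniteField.bijective_frobeniusAlgHom_pow F (AdjoinRoot f)).2 σ
  have hj' : (FiniteField.frobeniusAlgHom F (AdjoinRoot f)) ^ j = σ := hj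
  have hfrob : ∀ (m : ℕ) (x : AdjoinRoot f),
      ((FiniteField.frobeniusAlgHom F (AdjoinRoot f)) ^ m) x = x ^ (Fintype.card F ^ m) := by
    intro m x
    rw [AlgHom.coe_pow, FiniteField.coe_frobeniusAlgHom, pow_iterate]
  have h6 : α⁻¹ = α ^ (Fintype.card F ^ j) := by
    rw [← hσα, ← hj', hfrob]
  have h7 : σ * σ = 1 := by
    apply AdjoinRoot.algHom_ext
    rw [AlgHom.mul_apply, AlgHom.one_apply, hσα, map_inv₀, hσα, inv_inv]
  have h8 : f.natDegree ∣ 2 * j := by
    rw [← hfr, ← FiniteField.orderOf_frobeniusAlgHom F (AdjoinRoot f)]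
    apply orderOf_dvd_of_pow_eq_one
    rw [two_mul, pow_add, hj', h7]
  have hjlt : j < f.natDegree := by rwa [hfr] at hjlt'
  have hlin : ∀ c : F, α = algebraMap F (AdjoinRoot f) c → f = X - C c := by
    intro c hc
    have h12 : f ∣ X - C c := by
      rw [← AdjoinRoot.mk_eq_zero, map_sub, AdjoinRoot.mk_X, AdjoinRoot.mk_C, ← hα, hc,
        AdjoinRoot.algebraMap_eq, sub_self]
    have hm1 : (X - C c : F[X]).Monic := monic_X_sub_C c
    have hi1 : Irreducible (X - C c : F[X]) := irreducible_X_sub_C c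
    have hassoc : Associated f (X - C c) :=
      ((hi1.dvd_iff.mp h12).resolve_left hirr.not_isUnit).symm
    exact eq_of_monic_of_associated hf hm1 hassoc
  rcases Nat.eq_zero_or_pos j with hj0 | hjpos
  · rw [hj0, pow_zero, pow_one] at h6
    have h10 : α * α = 1 := by
      nth_rw 1 [← h6]
      exact inv_mul_cancel₀ hα0
    have h11 : (α - 1) * (α + 1) = 0 := by
      have : (α - 1) * (α + 1) = α * α - 1 := by ring
      rw [this, h10, sub_self]
    rcases mul_eq_zero.mp h11 with h | h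
    · left
      have := hlin 1 (by rw [map_one]; exact sub_eq_zero.mp h)
      rwa [C_1] at this
    · right; left
      have := hlin (-1) (by rw [map_neg, map_one]; exact eq_neg_of_add_eq_zero_left h)
      rwa [C_neg, C_1, sub_neg_eq_add] at this
  · right; right
    have h10 : 2 * j = f.natDegree := by
      obtain ⟨c, hc⟩ := h8
      have hc1 : c = 1 := by
        rcases Nat.lt_or_ge c 1 with h | h
        · have : c = 0 := by omega
          subst this
          omega
        · rcases Nat.lt_or_ge 1 c with h' | h'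
          · have : 2 * f.natDegree ≤ f.natDegree * c := by
              calc 2 * f.natDegree = f.natDegree * 2 := by ring
                _ ≤ f.natDegree * c := Nat.mul_le_mul_left _ h'
            omega
          · omega
      rw [hc, hc1, mul_one]
    refine ⟨j, hjpos, h10.symm, ?_⟩
    rw [← root_pow_eq_one_iff, pow_succ, ← hα, ← h6, inv_mul_cancel₀ hα0]

/-- the reverse of a non-self-reciprocal irreducible factor divides the same binomial -/
theorem reverse_dvd_X_pow_sub_one (p : F[X]) (hpi : Irreducible p) (hp0 : p.coeff 0 ≠ 0) :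
    p.reverse ∣ X ^ (Fintype.card F ^ p.natDegree - 1) - 1 := by
  set p' := p.reverse with hp'
  have hp'i : Irreducible p' := irreducible_reverse p hpi hp0
  have hp'0 : p'.coeff 0 ≠ 0 := coeff_zero_reverse_ne p hpi.ne_zero
  have hp'deg : p'.natDegree = p.natDegree := natDegree_reverse_of_coeff_zero p hp0
  have hm : (p' * C p'.leadingCoeff⁻¹).Monic :=
    Polynomial.monic_mul_leadingCoeff_inv hp'i.ne_zero
  have hirr : Irreducible (p' * C p'.leadingCoeff⁻¹) :=
    Polynomial.irreducible_mul_leadingCoeff_inv.mpr hp'i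
  have hlc : p'.leadingCoeff⁻¹ ≠ 0 := inv_ne_zero (leadingCoeff_ne_zero.mpr hp'i.ne_zero)
  have hc : (p' * C p'.leadingCoeff⁻¹).coeff 0 ≠ 0 := by
    rw [Polynomial.mul_coeff_zero, Polynomial.coeff_C_zero]
    exact mul_ne_zero hp'0 hlc
  have hdg : (p' * C p'.leadingCoeff⁻¹).natDegree = p.natDegree := by
    rw [Polynomial.natDegree_mul_C hlc, hp'deg]
  have := Cfsg.Agent.Lead.SpecSp.irred_dvd_X_pow_sub_one _ hm hirr hc
  rw [hdg] at this
  exact (Dvd.intro _ rfl).trans this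

/-- `sdeg l` is the sum of `a * μ` over the blocks `(a, μ)` of `l` -/
def sdeg (l : List (ℕ × ℕ)) : ℕ := (l.map fun x => x.1 * x.2).sum

theorem sdeg_cons (x : ℕ × ℕ) (l : List (ℕ × ℕ)) : sdeg (x :: l) = x.1 * x.2 + sdeg l := by
  unfold sdeg
  rw [List.map_cons, List.sum_cons]

/-- **decomposition into primary blocks**: `lP` lists the blocks `f ^ μ` with `f` self-reciprocal
irreducible of degree `2a`, `lM` the blocks `(f f*) ^ μ` with `f` irreducible of degree `a`. -/
theorem exists_blocks (p : ℕ) [Fact p.Prime] [CharP F p] : ∀ (d : ℕ) (ρ : F[X]),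
    ρ.natDegree = d → ρ ≠ 0 → ρ.coeff 0 ≠ 0 → ρ ∣ ρ.reverse → ¬ (X - 1 ∣ ρ) → ¬ (X + 1 ∣ ρ) →
    ∃ lP lM : List (ℕ × ℕ), (∀ x ∈ lP, 1 ≤ x.1 ∧ 1 ≤ x.2) ∧ (∀ x ∈ lM, 1 ≤ x.1 ∧ 1 ≤ x.2) ∧
      2 * (sdeg lP + sdeg lM) = d ∧
      ∀ k T : ℕ, (∀ x ∈ lP, Fintype.card F ^ x.1 + 1 ∣ k ∧ x.2 ≤ p ^ T) →
        (∀ x ∈ lM, Fintype.card F ^ x.1 - 1 ∣ k ∧ x.2 ≤ p ^ T) → ρ ∣ X ^ (k * p ^ T) - 1 := by
  intro d
  induction d using Nat.strong_induction_on with
  | _ d ih =>
  intro μ hd hμ0 hc0 hsr hn1 hn2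
  by_cases hu : IsUnit μ
  · refine ⟨[], [], fun x hx => absurd hx List.not_mem_nil,
      fun x hx => absurd hx List.not_mem_nil, ?_, fun k T _ _ => hu.dvd⟩
    rw [← hd, Polynomial.natDegree_eq_zero_of_isUnit hu]
    rfl
  obtain ⟨f, hpm, hpi, hpd⟩ := Polynomial.exists_monic_irreducible_factor μ hu
  have hp0 : f.coeff 0 ≠ 0 := by
    obtain ⟨c, hc⟩ := hpd
    rw [hc] at hc0
    exact (coeff_zero_ne_of_mul hc0).1
  obtain ⟨e, ρ₀, hnd, hμe⟩ := WfDvdMonoid.max_power_factor hμ0 hpi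
  have he1 : 1 ≤ e := by
    rcases Nat.eq_zero_or_pos e with h | h
    · exfalso
      rw [h, pow_zero, one_mul] at hμe
      rw [hμe] at hpd
      exact hnd hpd
    · exact h
  have hρ₀0 : ρ₀ ≠ 0 := by
    rintro rfl
    rw [mul_zero] at hμe
    exact hμ0 hμe
  have hpe0 : f ^ e ≠ 0 := pow_ne_zero _ hpi.ne_zero
  have hpdeg : 1 ≤ f.natDegree := hpi.natDegree_pos
  have hcop : IsCoprime (f ^ e) ρ₀ := ((Irreducible.coprime_iff_not_dvd hpi).mpr hnd).pow_left
  have hpa : f ∣ X ^ (Fintype.card F ^ f.natDegree - 1) - 1 :=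
    Cfsg.Agent.Lead.SpecSp.irred_dvd_X_pow_sub_one f hpm hpi hp0
  by_cases hrev : f ∣ f.reverse
  · -- self-reciprocal irreducible factor
    have hpri : Irreducible f.reverse := irreducible_reverse f hpi hp0
    have hass : Associated (f ^ e) (f ^ e).reverse := by
      rw [reverse_pow']
      exact (hpi.associated_of_dvd hpri hrev).pow_pow
    have hρsr : ρ₀ ∣ ρ₀.reverse := sr_cancel (f ^ e) ρ₀ hpe0 hass (by rw [← hμe]; exact hsr)
    have hρc0 : ρ₀.coeff 0 ≠ 0 := by
      rw [hμe] at hc0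
      exact (coeff_zero_ne_of_mul hc0).2
    have hdeg : d = e * f.natDegree + ρ₀.natDegree := by
      rw [← hd, hμe, Polynomial.natDegree_mul hpe0 hρ₀0, Polynomial.natDegree_pow]
    have hρdvd : ρ₀ ∣ μ := ⟨f ^ e, by rw [hμe, mul_comm]⟩
    obtain ⟨lP, lM, hlP, hlM, hls, hlN⟩ := ih ρ₀.natDegree (by nlinarith) ρ₀ rfl hρ₀0 hρc0 hρsr
      (fun h => hn1 (h.trans hρdvd)) (fun h => hn2 (h.trans hρdvd))
    rcases sr_cases f hpm hpi hp0 hrev with hX | hX | ⟨δ, hδ1, hδ, hpδ⟩
    · exact absurd (hX ▸ hpd) hn1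
    · exact absurd (hX ▸ hpd) hn2
    · refine ⟨(δ, e) :: lP, lM, ?_, hlM, ?_, ?_⟩
      · intro x hx
        rcases List.mem_cons.mp hx with rfl | hx
        · exact ⟨hδ1, he1⟩
        · exact hlP x hx
      · rw [sdeg_cons, hdeg, hδ, ← hls]
        ring
      · intro k T hP hM
        rw [hμe]
        refine IsCoprime.mul_dvd hcop ?_
          (hlN k T (fun x hx => hP x (List.mem_cons_of_mem _ hx)) hM)
        have h3 := hP (δ, e) List.mem_cons_self
        have h2 := Cfsg.Agent.Lead.SpecSp.pow_dvd_X_pow_sub_one p f _ e T hpδ h3.2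
        exact h2.trans (X_pow_sub_one_dvd (Nat.mul_dvd_mul_right h3.1 _))
  · -- a pair of reciprocal factors
    set p' := f.reverse with hp'
    have hp'i : Irreducible p' := irreducible_reverse f hpi hp0
    have hp'0 : p'.coeff 0 ≠ 0 := coeff_zero_reverse_ne f hpi.ne_zero
    have hp'deg : p'.natDegree = f.natDegree := natDegree_reverse_of_coeff_zero f hp0
    have hp'rev : p'.reverse = f := reverse_reverse_of_coeff_zero f hp0
    have hcpp : IsCoprime f p' := (Irreducible.coprime_iff_not_dvd hpi).mpr hrev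
    have hrd : μ.reverse ∣ μ := reverse_dvd_self hc0 hsr
    have h1 : p' ^ e ∣ μ := by
      have : (f ^ e).reverse ∣ μ.reverse := reverse_dvd_reverse ⟨ρ₀, hμe⟩
      rw [reverse_pow'] at this
      exact this.trans hrd
    have h2 : p' ^ e ∣ ρ₀ := by
      rw [hμe] at h1
      exact (hcpp.symm.pow).dvd_of_dvd_mul_left h1
    obtain ⟨ρ₁, hρ₁⟩ := h2
    have hρ₁0 : ρ₁ ≠ 0 := by
      rintro rfl
      rw [mul_zero] at hρ₁
      exact hρ₀0 hρ₁
    have hnd1 : ¬ f ∣ ρ₁ := fun h => hnd (by rw [hρ₁]; exact h.mul_left _)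
    have hnd2 : ¬ p' ∣ ρ₁ := by
      intro h
      obtain ⟨c, hc⟩ := h
      have h3 : p' ^ (e + 1) ∣ μ := by
        rw [hμe, hρ₁, hc]
        exact ⟨f ^ e * c, by ring⟩
      have h4 : (p' ^ (e + 1)).reverse ∣ μ.reverse := reverse_dvd_reverse h3
      rw [reverse_pow', hp'rev] at h4
      have h5 : f ^ (e + 1) ∣ f ^ e * ρ₀ := by
        rw [← hμe]
        exact h4.trans hrd
      rw [pow_succ] at h5
      exact hnd ((mul_dvd_mul_iff_left hpe0).mp h5)
    have hp'e0 : p' ^ e ≠ 0 := pow_ne_zero _ hp'i.ne_zero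
    set ν := f ^ e * p' ^ e with hν
    have hν0 : ν ≠ 0 := mul_ne_zero hpe0 hp'e0
    have hμν : μ = ν * ρ₁ := by rw [hμe, hρ₁, hν, mul_assoc]
    have hass : Associated ν ν.reverse := by
      rw [hν, Polynomial.reverse_mul_of_domain, reverse_pow', reverse_pow', hp'rev, ← hp',
        mul_comm]
    have hρsr : ρ₁ ∣ ρ₁.reverse := sr_cancel ν ρ₁ hν0 hass (by rw [← hμν]; exact hsr)
    have hρc0 : ρ₁.coeff 0 ≠ 0 := by
      rw [hμν] at hc0
      exact (coeff_zero_ne_of_mul hc0).2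
    have hdeg : d = 2 * f.natDegree * e + ρ₁.natDegree := by
      rw [← hd, hμν, Polynomial.natDegree_mul hν0 hρ₁0, hν,
        Polynomial.natDegree_mul hpe0 hp'e0, Polynomial.natDegree_pow, Polynomial.natDegree_pow,
        hp'deg]
      ring
    have hρdvd : ρ₁ ∣ μ := ⟨ν, by rw [hμν, mul_comm]⟩
    obtain ⟨lP, lM, hlP, hlM, hls, hlN⟩ := ih ρ₁.natDegree (by nlinarith) ρ₁ rfl hρ₁0 hρc0 hρsr
      (fun h => hn1 (h.trans hρdvd)) (fun h => hn2 (h.trans hρdvd))
    have hcopν : IsCoprime ν ρ₁ := by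
      rw [hν]
      exact IsCoprime.mul_left ((Irreducible.coprime_iff_not_dvd hpi).mpr hnd1).pow_left
        ((Irreducible.coprime_iff_not_dvd hp'i).mpr hnd2).pow_left
    have hpa' : p' ∣ X ^ (Fintype.card F ^ f.natDegree - 1) - 1 :=
      reverse_dvd_X_pow_sub_one f hpi hp0
    refine ⟨lP, (f.natDegree, e) :: lM, hlP, ?_, ?_, ?_⟩
    · intro x hx
      rcases List.mem_cons.mp hx with rfl | hx
      · exact ⟨hpdeg, he1⟩
      · exact hlM x hx
    · rw [sdeg_cons, hdeg, ← hls]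
      ring
    · intro k T hP hM
      rw [hμν]
      refine IsCoprime.mul_dvd hcopν ?_
        (hlN k T hP (fun x hx => hM x (List.mem_cons_of_mem _ hx)))
      have h3 := hM (f.natDegree, e) List.mem_cons_self
      have hk := X_pow_sub_one_dvd (F := F) (Nat.mul_dvd_mul_right h3.1 (p ^ T))
      have h4 := (Cfsg.Agent.Lead.SpecSp.pow_dvd_X_pow_sub_one p f _ e T hpa h3.2).trans hk
      have h5 := (Cfsg.Agent.Lead.SpecSp.pow_dvd_X_pow_sub_one p p' _ e T hpa' h3.2).trans hk
      rw [hν]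
      exact IsCoprime.mul_dvd (hcpp.pow) h4 h5

end Cfsg.Agent.Helper8.Meo
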