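import Mathlib
set_option autoImplicit false

/-!
Arithmetic lemmas for the bound on element orders of classical groups: sizes of `p`-parts.
-/

namespace Cfsg.Agent.Helper8.Meo

theorem clog_le_pred (p : ℕ) (hp : 2 ≤ p) (μ : ℕ) (hμ : 1 ≤ μ) : Nat.clog p μ ≤ μ - 1 := by
  apply Nat.clog_le_of_le_pow
  have h1 : μ - 1 < 2 ^ (μ - 1) := Nat.lt_two_pow_self
  have h2 : 2 ^ (μ - 1) ≤ p ^ (μ - 1) := Nat.pow_le_pow_left hp _
  omega

theorem two_mul_add_one_le_three_pow (j : ℕ) : 2 * j + 1 ≤ 3 ^ j := by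
  induction j with
  | zero => norm_num
  | succ j ih => rw [pow_succ]; omega

theorem clog_le_half_odd (p : ℕ) (hp : 3 ≤ p) (c : ℕ) : Nat.clog p c ≤ c / 2 := by
  apply Nat.clog_le_of_le_pow
  have h1 := two_mul_add_one_le_three_pow (c / 2)
  have h2 : 3 ^ (c / 2) ≤ p ^ (c / 2) := Nat.pow_le_pow_left hp _
  omega

theorem two_mul_le_two_pow (j : ℕ) : 2 * j ≤ 2 ^ j := by
  induction j with
  | zero => norm_num
  | succ j ih =>
    rw [pow_succ]
    have : j < 2 ^ j := Nat.lt_two_pow_self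
    omega

theorem clog_le_half_even (p : ℕ) (hp : 2 ≤ p) (c : ℕ) (hc : Even c) : Nat.clog p c ≤ c / 2 := by
  apply Nat.clog_le_of_le_pow
  obtain ⟨j, rfl⟩ := hc
  have h1 := two_mul_le_two_pow j
  have h2 : 2 ^ j ≤ p ^ j := Nat.pow_le_pow_left hp _
  have h3 : (j + j) / 2 = j := by omega
  rw [h3]
  omega

theorem two_mul_le_three_pow_pred (j : ℕ) (hj : 3 ≤ j) : 2 * j ≤ 3 ^ (j - 1) := by
  induction j, hj using Nat.le_induction with
  | base => norm_num
  | succ j hj ih =>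
    have : j + 1 - 1 = (j - 1) + 1 := by omega
    rw [this, pow_succ]
    omega

theorem clog_two_mul_le (p : ℕ) (hp : 3 ≤ p) (j : ℕ) (hj : 3 ≤ j) :
    Nat.clog p (2 * j) ≤ j - 1 := by
  apply Nat.clog_le_of_le_pow
  have h1 := two_mul_le_three_pow_pred j hj
  have h2 : 3 ^ (j - 1) ≤ p ^ (j - 1) := Nat.pow_le_pow_left hp _
  omega

/-- a common exponent for finitely many `p`-parts -/
theorem exists_T (p B : ℕ) (hp : 1 ≤ p) (hB : 1 ≤ B) (es : List ℕ)
    (h : ∀ e ∈ es, ∃ t, e ≤ p ^ t ∧ p ^ t ≤ B) :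
    ∃ T, (∀ e ∈ es, e ≤ p ^ T) ∧ p ^ T ≤ B := by
  induction es with
  | nil => exact ⟨0, fun e he => absurd he List.not_mem_nil, by simpa using hB⟩
  | cons e es ih =>
    obtain ⟨T, hT1, hT2⟩ := ih fun x hx => h x (List.mem_cons_of_mem _ hx)
    obtain ⟨t, ht1, ht2⟩ := h e List.mem_cons_self
    rcases le_total t T with htT | htT
    · refine ⟨T, ?_, hT2⟩
      intro x hx
      rcases List.mem_cons.mp hx with rfl | hx
      · exact ht1.trans (Nat.pow_le_pow_right hp htT)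
      · exact hT1 x hx
    · refine ⟨t, ?_, ht2⟩
      intro x hx
      rcases List.mem_cons.mp hx with rfl | hx
      · exact ht1
      · exact (hT1 x hx).trans (Nat.pow_le_pow_right hp htT)

/-- the sum of the `a` over the blocks `(a, μ)` -/
def ssig (l : List (ℕ × ℕ)) : ℕ := (l.map Prod.fst).sum

theorem ssig_cons (x : ℕ × ℕ) (l : List (ℕ × ℕ)) : ssig (x :: l) = x.1 + ssig l := by
  unfold ssig
  rw [List.map_cons, List.sum_cons]

end Cfsg.Agent.Helper8.Meo
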