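import Mathlib
import Cfsg.Agent.Helper8.MeoA
import Cfsg.Agent.Helper8.MeoB
import Cfsg.Agent.Helper1.MeoArith
set_option autoImplicit false

/-!
The order bound for self-reciprocal polynomials over a finite field with `q` elements: a
self-reciprocal polynomial `χ` of degree `N` with nonzero constant term divides `X ^ k - 1` or
`X ^ k + 1` for some `k` with `(q - 1) * k ≤ q ^ (N / 2 + 1)`.
-/

namespace Cfsg.Agent.Helper8.Meo

open Polynomial
open Cfsg.Agent.Helper8.SpG (reverse_pow')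
open Cfsg.Agent.Helper8.SpO8 (X_pow_sub_one_dvd sr_cancel coeff_zero_ne_of_mul)

theorem ssig_le_sdeg (l : List (ℕ × ℕ)) (hl : ∀ x ∈ l, 1 ≤ x.1 ∧ 1 ≤ x.2) : ssig l ≤ sdeg l := by
  induction l with
  | nil => exact le_refl _
  | cons y l ih =>
    rw [ssig_cons, sdeg_cons]
    have h1 := ih fun x hx => hl x (List.mem_cons_of_mem _ hx)
    have h2 := (hl y List.mem_cons_self).2
    have h3 : y.1 * 1 ≤ y.1 * y.2 := Nat.mul_le_mul_left _ h2
    omega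

theorem slack (l : List (ℕ × ℕ)) (hl : ∀ x ∈ l, 1 ≤ x.1 ∧ 1 ≤ x.2) (x : ℕ × ℕ) (hx : x ∈ l) :
    x.1 * (x.2 - 1) + ssig l ≤ sdeg l := by
  induction l with
  | nil => exact absurd hx List.not_mem_nil
  | cons y l ih =>
    rw [ssig_cons, sdeg_cons]
    have hl' : ∀ x ∈ l, 1 ≤ x.1 ∧ 1 ≤ x.2 := fun x hx => hl x (List.mem_cons_of_mem _ hx)
    have h2 := (hl y List.mem_cons_self).2
    rcases List.mem_cons.mp hx with rfl | hx'
    · have h1 := ssig_le_sdeg l hl'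
      have h3 : x.1 * (x.2 - 1) + x.1 = x.1 * x.2 := by
        have : x.2 = (x.2 - 1) + 1 := by omega
        nth_rw 2 [this]
        ring
      omega
    · have h1 := ih hl' hx'
      have h3 : y.1 * 1 ≤ y.1 * y.2 := Nat.mul_le_mul_left _ h2
      omega

variable {F : Type*} [Field F]

theorem X_sub_one_eq : (X - 1 : F[X]) = X - C 1 := by rw [C_1]

theorem X_add_one_eq : (X + 1 : F[X]) = X - C (-1) := by rw [C_neg, C_1, sub_neg_eq_add]

theorem irreducible_X_sub_one : Irreducible (X - 1 : F[X]) := by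
  rw [X_sub_one_eq]; exact irreducible_X_sub_C 1

theorem irreducible_X_add_one : Irreducible (X + 1 : F[X]) := by
  rw [X_add_one_eq]; exact irreducible_X_sub_C (-1)

theorem reverse_X_eq_one : (X : F[X]).reverse = 1 := by
  have := reverse_mul_X (1 : F[X])
  rw [one_mul] at this
  rw [this]
  have h := reverse_C (1 : F)
  rwa [C_1] at h

theorem reverse_X_sub_one : (X - 1 : F[X]).reverse = -(X - 1) := by
  have h : (X - 1 : F[X]) = X + C (-1) := by rw [C_neg, C_1, sub_eq_add_neg]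
  rw [h, reverse_add_C, reverse_X_eq_one, natDegree_X, pow_one, C_neg, C_1]
  ring

theorem reverse_X_add_one : (X + 1 : F[X]).reverse = X + 1 := by
  have h : (X + 1 : F[X]) = X + C 1 := by rw [C_1]
  rw [h, reverse_add_C, reverse_X_eq_one, natDegree_X, pow_one, C_1]
  ring

theorem assoc_X_sub_one_pow (c : ℕ) :
    Associated ((X - 1 : F[X]) ^ c) ((X - 1 : F[X]) ^ c).reverse := by
  rw [reverse_pow', reverse_X_sub_one, neg_pow]
  have hu : IsUnit ((-1 : F[X]) ^ c) := (isUnit_one.neg).pow c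
  exact (associated_unit_mul_left ((X - 1 : F[X]) ^ c) _ hu).symm

theorem assoc_X_add_one_pow (c : ℕ) :
    Associated ((X + 1 : F[X]) ^ c) ((X + 1 : F[X]) ^ c).reverse := by
  rw [reverse_pow', reverse_X_add_one]

theorem natDegree_X_sub_one : (X - 1 : F[X]).natDegree = 1 := by
  rw [X_sub_one_eq, natDegree_X_sub_C]

theorem natDegree_X_add_one : (X + 1 : F[X]).natDegree = 1 := by
  rw [X_add_one_eq, natDegree_X_sub_C]

theorem not_X_add_one_dvd_X_sub_one (h2 : (2 : F) ≠ 0) : ¬ ((X + 1 : F[X]) ∣ X - 1) := by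
  intro h
  have h1 : (X + 1 : F[X]) ∣ (X + 1) - (X - 1) := dvd_sub (dvd_refl _) h
  have h3 : ((X + 1 : F[X]) - (X - 1)) = C 2 := by
    rw [show (C (2 : F) : F[X]) = 2 from rfl]
    ring
  rw [h3] at h1
  have hu : IsUnit (C (2 : F)) := Polynomial.isUnit_C.mpr (isUnit_iff_ne_zero.mpr h2)
  exact irreducible_X_add_one.not_isUnit (isUnit_of_dvd_unit h1 hu)

/-- splitting off the powers of `X - 1` and `X + 1` -/
theorem split3 (χ : F[X]) (hχ0 : χ ≠ 0) (h0 : χ.coeff 0 ≠ 0) (hsr : χ ∣ χ.reverse) :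
    ∃ (cp cm : ℕ) (ρ : F[X]), χ = (X - 1) ^ cp * ((X + 1) ^ cm * ρ) ∧ ρ ≠ 0 ∧ ρ.coeff 0 ≠ 0 ∧
      ρ ∣ ρ.reverse ∧ ¬ (X - 1 ∣ (X + 1) ^ cm * ρ) ∧ ¬ (X - 1 ∣ ρ) ∧ ¬ (X + 1 ∣ ρ) ∧
      (cm ≠ 0 → (2 : F) ≠ 0) ∧ χ.natDegree = cp + cm + ρ.natDegree := by
  obtain ⟨ψ, hψ, hnψ⟩ := exists_eq_pow_rootMultiplicity_mul_and_not_dvd χ hχ0 1
  rw [← X_sub_one_eq] at hψ hnψ
  set cp := rootMultiplicity 1 χ
  have hψ0 : ψ ≠ 0 := by
    rintro rfl
    rw [mul_zero] at hψ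
    exact hχ0 hψ
  obtain ⟨ρ, hρ, hnρ⟩ := exists_eq_pow_rootMultiplicity_mul_and_not_dvd ψ hψ0 (-1)
  rw [← X_add_one_eq] at hρ hnρ
  set cm := rootMultiplicity (-1) ψ
  have hρ0 : ρ ≠ 0 := by
    rintro rfl
    rw [mul_zero] at hρ
    exact hψ0 hρ
  have hp1 : ((X - 1 : F[X]) ^ cp) ≠ 0 := pow_ne_zero _ irreducible_X_sub_one.ne_zero
  have hp2 : ((X + 1 : F[X]) ^ cm) ≠ 0 := pow_ne_zero _ irreducible_X_add_one.ne_zero
  have hψsr : ψ ∣ ψ.reverse :=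
    sr_cancel _ ψ hp1 (assoc_X_sub_one_pow cp) (by rw [← hψ]; exact hsr)
  have hρsr : ρ ∣ ρ.reverse :=
    sr_cancel _ ρ hp2 (assoc_X_add_one_pow cm) (by rw [← hρ]; exact hψsr)
  have hψc : ψ.coeff 0 ≠ 0 := by
    rw [hψ] at h0
    exact (coeff_zero_ne_of_mul h0).2
  have hρc : ρ.coeff 0 ≠ 0 := by
    rw [hρ] at hψc
    exact (coeff_zero_ne_of_mul hψc).2
  have hρψ : ρ ∣ ψ := ⟨(X + 1) ^ cm, by rw [hρ, mul_comm]⟩
  refine ⟨cp, cm, ρ, by rw [← hρ]; exact hψ, hρ0, hρc, hρsr, by rw [← hρ]; exact hnψ,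
    fun h => hnψ (h.trans hρψ), hnρ, ?_, ?_⟩
  · intro hcm h2
    have h11 : (1 : F) = -1 := by
      have : (1 : F) + 1 = 0 := by rw [one_add_one_eq_two]; exact h2
      exact eq_neg_of_add_eq_zero_left this
    have h12 : (X + 1 : F[X]) = X - 1 := by
      rw [X_add_one_eq, X_sub_one_eq, ← h11]
    apply hnψ
    rw [hρ, ← h12]
    exact Dvd.dvd.mul_right (dvd_pow_self _ hcm) _
  · rw [hψ, hρ, natDegree_mul hp1 (by rw [← hρ]; exact hψ0), natDegree_mul hp2 hρ0,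
      natDegree_pow, natDegree_pow, natDegree_X_sub_one, natDegree_X_add_one]
    ring

variable (p : ℕ) [Fact p.Prime] [CharP F p]

theorem X_sub_one_pow_dvd (c k T : ℕ) (hc : c ≤ p ^ T) :
    (X - 1 : F[X]) ^ c ∣ X ^ (k * p ^ T) - 1 := by
  have h1 : (X - 1 : F[X]) ∣ X ^ 1 - 1 := by rw [pow_one]
  have h2 := Cfsg.Agent.Lead.SpecSp.pow_dvd_X_pow_sub_one p (X - 1 : F[X]) 1 c T h1 hc
  exact h2.trans (X_pow_sub_one_dvd (Nat.mul_dvd_mul_right (one_dvd k) _))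

theorem X_add_one_pow_dvd (c k T : ℕ) (hc : c ≤ p ^ T) (hk : 2 ∣ k) :
    (X + 1 : F[X]) ^ c ∣ X ^ (k * p ^ T) - 1 := by
  have h1 : (X + 1 : F[X]) ∣ X ^ 2 - 1 := ⟨X - 1, by ring⟩
  have h2 := Cfsg.Agent.Lead.SpecSp.pow_dvd_X_pow_sub_one p (X + 1 : F[X]) 2 c T h1 hc
  exact h2.trans (X_pow_sub_one_dvd (Nat.mul_dvd_mul_right hk _))

theorem X_add_one_pow_dvd' (c T : ℕ) (hc : c ≤ p ^ T) :
    (X + 1 : F[X]) ^ c ∣ X ^ (p ^ T) + 1 := by
  have h1 : ((X : F[X]) + 1) ^ p ^ T = X ^ p ^ T + 1 := by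
    rw [add_pow_char_pow, one_pow]
  rw [← h1]
  exact pow_dvd_pow _ hc

end Cfsg.Agent.Helper8.Meo
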