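import Mathlib
import Cfsg.Agent.Helper8.MeoC
set_option autoImplicit false

/-!
The order bound for self-reciprocal polynomials over a finite field with `q` elements.
-/

namespace Cfsg.Agent.Helper8.Meo

open Polynomial

variable {F : Type*} [Field F] [Fintype F]

theorem two_mul_pred_le_sq (q : ℕ) : 2 * (q - 1) ≤ q ^ 2 := by
  rcases Nat.eq_zero_or_pos q with h | h
  · subst h; norm_num
  · obtain ⟨r, rfl⟩ : ∃ r, q = r + 1 := ⟨q - 1, by omega⟩
    have : r + 1 - 1 = r := by omega
    rw [this]
    nlinarith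

/-- **the order bound for self-reciprocal polynomials** -/
theorem main_bound (p : ℕ) [Fact p.Prime] [CharP F p] (χ : F[X]) (hχ0 : χ ≠ 0)
    (h0 : χ.coeff 0 ≠ 0) (hsr : χ ∣ χ.reverse) (hpar : p = 2 → Even χ.natDegree)
    (hodd : Odd χ.natDegree → 7 ≤ χ.natDegree ∧
      ∀ (c : ℕ) (ψ : F[X]), χ = (X + 1) ^ c * ψ → ¬ (X + 1 ∣ ψ) → Even c) :
    ∃ k, 1 ≤ k ∧ (Fintype.card F - 1) * k ≤ Fintype.card F ^ (χ.natDegree / 2 + 1) ∧
      (χ ∣ X ^ k - 1 ∨ χ ∣ X ^ k + 1) := by
  obtain ⟨cp, cm, ρ, hχ, hρ0, hρc, hρsr, hnψ, hρ1, hρ2, hcm2, hdeg⟩ := split3 χ hχ0 h0 hsr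
  obtain ⟨lP, lM, hlP, hlM, hls, hlN⟩ :=
    exists_blocks p ρ.natDegree ρ rfl hρ0 hρc hρsr hρ1 hρ2
  set q := Fintype.card F with hq
  obtain ⟨f, hf, hqp⟩ : ∃ f, 1 ≤ f ∧ q = p ^ f := by
    obtain ⟨n, _, hn⟩ := FiniteField.card F p
    exact ⟨n, n.pos, hn⟩
  have hp2 : 2 ≤ p := (Fact.out : p.Prime).two_le
  have hpq : p ≤ q := by
    rw [hqp]
    calc p = p ^ 1 := (pow_one p).symm
      _ ≤ p ^ f := Nat.pow_le_pow_right (by omega) hf
  have hq2 : 2 ≤ q := hp2.trans hpq
  have hpqpow : ∀ a b : ℕ, a ≤ b → p ^ a ≤ q ^ b := fun a b hab =>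
    (Nat.pow_le_pow_left hpq a).trans (Nat.pow_le_pow_right (by omega) hab)
  set N := χ.natDegree with hN
  set h := sdeg lP + sdeg lM with hh
  have hNh : N = cp + cm + 2 * h := by rw [hdeg, ← hls]
  have hpodd : cm ≠ 0 → 3 ≤ p := by
    intro hc
    have h2 := hcm2 hc
    by_contra hlt
    have hp : p = 2 := by omega
    have h3 : ((p : ℕ) : F) = 0 := CharP.cast_eq_zero F p
    rw [hp] at h3
    exact h2 (by exact_mod_cast h3)
  have hcop1 : IsCoprime ((X - 1 : F[X]) ^ cp) ((X + 1) ^ cm * ρ) :=
    ((Irreducible.coprime_iff_not_dvd irreducible_X_sub_one).mpr hnψ).pow_left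
  have hcop2 : IsCoprime ((X + 1 : F[X]) ^ cm) ρ :=
    ((Irreducible.coprime_iff_not_dvd irreducible_X_add_one).mpr hρ2).pow_left
  have hσP := ssig_le_sdeg lP hlP
  have hσM := ssig_le_sdeg lM hlM
  by_cases hcase : cm = 0 ∨ lP ≠ [] ∨ lM ≠ []
  · -- generic case
    obtain ⟨k₀, hk1, hkP, hkM, hkb⟩ := Cfsg.Agent.Helper1.MeoArith.exists_mult q hq2
      (lP.map Prod.fst) (lM.map Prod.fst)
      (fun a ha => by
        obtain ⟨x, hx, rfl⟩ := List.mem_map.mp ha
        exact (hlP x hx).1)
      (fun a ha => by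
        obtain ⟨x, hx, rfl⟩ := List.mem_map.mp ha
        exact (hlM x hx).1)
    change (q - 1) * k₀ ≤ q ^ (ssig lP + ssig lM + 1) at hkb
    set σ := ssig lP + ssig lM with hσ
    have hσh : σ ≤ h := by omega
    have hB1 : 1 ≤ q ^ (N / 2 - σ) := Nat.one_le_pow _ _ (by omega)
    have hcpt : ∃ t, cp ≤ p ^ t ∧ p ^ t ≤ q ^ (N / 2 - σ) := by
      refine ⟨Nat.clog p cp, Nat.le_pow_clog (by omega) cp, hpqpow _ _ ?_⟩
      have h1 : Nat.clog p cp ≤ cp / 2 := by
        by_cases hp3 : 3 ≤ p
        · exact clog_le_half_odd p hp3 cp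
        · have hp : p = 2 := by omega
          have hcm0 : cm = 0 := by
            by_contra hc
            exact hp3 (hpodd hc)
          have hev : Even cp := by
            have := hpar hp
            rw [hNh, hcm0] at this
            have h2 : Even (2 * h) := even_two_mul h
            rw [add_zero] at this
            exact (Nat.even_add.mp this).mpr h2
          exact clog_le_half_even p hp2 cp hev
      omega
    have hcmt : ∃ t, cm ≤ p ^ t ∧ p ^ t ≤ q ^ (N / 2 - σ) := by
      by_cases hc : cm = 0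
      · exact ⟨0, by rw [hc]; exact Nat.zero_le _, by rw [pow_zero]; exact hB1⟩
      · refine ⟨Nat.clog p cm, Nat.le_pow_clog (by omega) cm, hpqpow _ _ ?_⟩
        have h1 := clog_le_half_odd p (hpodd hc) cm
        omega
    have hμt : ∀ (l : List (ℕ × ℕ)), (∀ x ∈ l, 1 ≤ x.1 ∧ 1 ≤ x.2) → sdeg l - ssig l ≤ N / 2 - σ →
        ∀ x ∈ l, ∃ t, x.2 ≤ p ^ t ∧ p ^ t ≤ q ^ (N / 2 - σ) := by
      intro l hl hle x hx
      refine ⟨Nat.clog p x.2, Nat.le_pow_clog (by omega) x.2, hpqpow _ _ ?_⟩
      have h1 := clog_le_pred p hp2 x.2 (hl x hx).2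
      have h2 := slack l hl x hx
      have h3 : 1 * (x.2 - 1) ≤ x.1 * (x.2 - 1) := Nat.mul_le_mul_right _ (hl x hx).1
      omega
    obtain ⟨T, hT1, hT2⟩ := exists_T p (q ^ (N / 2 - σ)) (by omega) hB1
      (cp :: cm :: (lP.map Prod.snd ++ lM.map Prod.snd)) (by
        intro e he
        rcases List.mem_cons.mp he with rfl | he
        · exact hcpt
        rcases List.mem_cons.mp he with rfl | he
        · exact hcmt
        rcases List.mem_append.mp he with he | he
        · obtain ⟨x, hx, rfl⟩ := List.mem_map.mp he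
          exact hμt lP hlP (by omega) x hx
        · obtain ⟨x, hx, rfl⟩ := List.mem_map.mp he
          exact hμt lM hlM (by omega) x hx)
    have hTcp : cp ≤ p ^ T := hT1 cp List.mem_cons_self
    have hTcm : cm ≤ p ^ T := hT1 cm (List.mem_cons_of_mem _ List.mem_cons_self)
    have hTP : ∀ x ∈ lP, x.2 ≤ p ^ T := fun x hx =>
      hT1 x.2 (List.mem_cons_of_mem _ (List.mem_cons_of_mem _
        (List.mem_append_left _ (List.mem_map_of_mem hx))))
    have hTM : ∀ x ∈ lM, x.2 ≤ p ^ T := fun x hx =>
      hT1 x.2 (List.mem_cons_of_mem _ (List.mem_cons_of_mem _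
        (List.mem_append_right _ (List.mem_map_of_mem hx))))
    refine ⟨k₀ * p ^ T, Nat.mul_pos hk1 (Nat.pow_pos (by omega)), ?_, Or.inl ?_⟩
    · calc (q - 1) * (k₀ * p ^ T) = ((q - 1) * k₀) * p ^ T := by ring
        _ ≤ q ^ (σ + 1) * q ^ (N / 2 - σ) := Nat.mul_le_mul hkb hT2
        _ = q ^ (N / 2 + 1) := by
          rw [← pow_add]
          congr 1
          omega
    · rw [hχ]
      refine IsCoprime.mul_dvd hcop1 (X_sub_one_pow_dvd p cp k₀ T hTcp)
        (IsCoprime.mul_dvd hcop2 ?_ ?_)
      · by_cases hc : cm = 0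
        · rw [hc, pow_zero]; exact one_dvd _
        · apply X_add_one_pow_dvd p cm k₀ T hTcm
          have hp3 := hpodd hc
          have hpo : Odd p := (Fact.out : p.Prime).odd_of_ne_two (by omega)
          have hqo : Odd q := by rw [hqp]; exact hpo.pow
          rcases hcase with hc' | hl | hl
          · exact absurd hc' hc
          · obtain ⟨x, hx⟩ := List.exists_mem_of_ne_nil lP hl
            have h1 := hkP x.1 (List.mem_map_of_mem hx)
            have h2 : 2 ∣ q ^ x.1 + 1 := by
              have : Even (q ^ x.1 + 1) := (hqo.pow).add_one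
              exact even_iff_two_dvd.mp this
            exact h2.trans h1
          · obtain ⟨x, hx⟩ := List.exists_mem_of_ne_nil lM hl
            have h1 := hkM x.1 (List.mem_map_of_mem hx)
            have h2 : 2 ∣ q ^ x.1 - 1 := by
              have h3 : Odd (q ^ x.1) := hqo.pow
              obtain ⟨r, hr⟩ := h3
              exact ⟨r, by omega⟩
            exact h2.trans h1
      · exact hlN k₀ T (fun x hx => ⟨hkP x.1 (List.mem_map_of_mem hx), hTP x hx⟩)
          (fun x hx => ⟨hkM x.1 (List.mem_map_of_mem hx), hTM x hx⟩)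
  · -- only `X - 1` and `X + 1` occur, and `X + 1` does occur
    have hcm : cm ≠ 0 := fun h => hcase (Or.inl h)
    have hlP0 : lP = [] := by
      by_contra h; exact hcase (Or.inr (Or.inl h))
    have hlM0 : lM = [] := by
      by_contra h; exact hcase (Or.inr (Or.inr h))
    have hh0 : h = 0 := by
      rw [hh, hlP0, hlM0]; rfl
    have hρu : IsUnit ρ := by
      have hd0 : ρ.natDegree = 0 := by rw [← hls, hh0]
      rw [Polynomial.eq_C_of_natDegree_eq_zero hd0]
      exact Polynomial.isUnit_C.mpr (isUnit_iff_ne_zero.mpr (by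
        rw [Polynomial.eq_C_of_natDegree_eq_zero hd0] at hρ0
        exact fun h => hρ0 (by rw [h, C_0])))
    have hp3 : 3 ≤ p := hpodd hcm
    have hN2 : N = cp + cm := by rw [hNh, hh0, mul_zero, add_zero]
    by_cases hcp : cp = 0
    · -- `χ` is a power of `X + 1`
      refine ⟨p ^ Nat.clog p cm, Nat.pow_pos (by omega), ?_, Or.inr ?_⟩
      · have h1 := clog_le_half_odd p hp3 cm
        have h2 : p ^ Nat.clog p cm ≤ q ^ (N / 2) := hpqpow _ _ (by omega)
        calc (q - 1) * p ^ Nat.clog p cm ≤ q * q ^ (N / 2) := Nat.mul_le_mul (Nat.sub_le _ _) h2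
          _ = q ^ (N / 2 + 1) := by rw [pow_succ]; ring
      · rw [hχ, hcp, pow_zero, one_mul]
        exact (IsUnit.mul_right_dvd hρu).mpr
          (X_add_one_pow_dvd' p cm _ (Nat.le_pow_clog (by omega) cm))
    · -- both occur
      set T := max (Nat.clog p cp) (Nat.clog p cm) with hT
      have hTcp : cp ≤ p ^ T :=
        (Nat.le_pow_clog (by omega) cp).trans (Nat.pow_le_pow_right (by omega) (le_max_left _ _))
      have hTcm : cm ≤ p ^ T :=
        (Nat.le_pow_clog (by omega) cm).trans (Nat.pow_le_pow_right (by omega) (le_max_right _ _))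
      refine ⟨2 * p ^ T, Nat.mul_pos (by norm_num) (Nat.pow_pos (by omega)), ?_, Or.inl ?_⟩
      · have hsq := two_mul_pred_le_sq q
        have key : ∃ j, T ≤ j ∧ j + 1 ≤ N / 2 := by
          have h1 := clog_le_half_odd p hp3 cp
          have h2 := clog_le_half_odd p hp3 cm
          by_cases hbig : max cp cm / 2 + 1 ≤ N / 2
          · refine ⟨max cp cm / 2, ?_, hbig⟩
            rcases le_total (Nat.clog p cp) (Nat.clog p cm) with hle | hle
            · rw [hT, max_eq_right hle]
              exact h2.trans (Nat.div_le_div_right (le_max_right _ _))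
            · rw [hT, max_eq_left hle]
              exact h1.trans (Nat.div_le_div_right (le_max_left _ _))
          · -- the tight case
            have hNodd : Odd N := by
              rw [hN2]
              rcases le_total cp cm with hle | hle
              · rw [max_eq_right hle] at hbig
                rw [hN2] at hbig
                exact ⟨cm / 2, by omega⟩
              · rw [max_eq_left hle] at hbig
                rw [hN2] at hbig
                exact ⟨cp / 2, by omega⟩
            obtain ⟨h7, hev⟩ := hodd hNodd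
            have hcmev : Even cm := by
              apply hev cm ((X - 1) ^ cp * ρ) (by rw [hχ]; ring)
              intro hd
              rcases (irreducible_X_add_one.prime).dvd_or_dvd hd with hd | hd
              · exact not_X_add_one_dvd_X_sub_one (hcm2 hcm)
                  ((irreducible_X_add_one.prime).dvd_of_dvd_pow hd)
              · exact hρ2 hd
            obtain ⟨j, hj⟩ := hcmev
            have hcp1 : cp = 1 := by
              rcases le_total cp cm with hle | hle
              · rw [max_eq_right hle, hN2] at hbig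
                omega
              · rw [max_eq_left hle, hN2] at hbig
                omega
            have hj3 : 3 ≤ j := by omega
            refine ⟨j - 1, ?_, by omega⟩
            rw [hT, hcp1, Nat.clog_one_right, Nat.zero_max, hj, ← two_mul]
            exact clog_two_mul_le p hp3 j hj3
        obtain ⟨j, hj1, hj2⟩ := key
        have h3 : p ^ T ≤ q ^ j := hpqpow _ _ hj1
        calc (q - 1) * (2 * p ^ T) = (2 * (q - 1)) * p ^ T := by ring
          _ ≤ q ^ 2 * q ^ j := Nat.mul_le_mul hsq h3
          _ = q ^ (j + 1 + 1) := by rw [← pow_add]; congr 1; ring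
          _ ≤ q ^ (N / 2 + 1) := Nat.pow_le_pow_right (by omega) (by omega)
      · rw [hχ]
        refine IsCoprime.mul_dvd hcop1 (X_sub_one_pow_dvd p cp 2 T hTcp) ?_
        exact (IsUnit.mul_right_dvd hρu).mpr (X_add_one_pow_dvd p cm 2 T hTcm (dvd_refl 2))

end Cfsg.Agent.Helper8.Meo
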