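import Mathlib
import Cfsg.Agent.Helper8.MeoD
import Cfsg.Agent.Lead.SpecSpA
set_option autoImplicit false

/-!
Matrices with self-reciprocal characteristic polynomial over a finite field: a bounded power is
`1` or `-1`. Application to `PSp_{2m}(q)`.
-/

namespace Cfsg.Agent.Helper8.Meo

open Polynomial Matrix

variable {F : Type*} [Field F] [Fintype F]

/-- a matrix whose characteristic polynomial is self-reciprocal has a bounded power equal to
`1` or `-1` -/
theorem matrix_pow_eq {ι : Type*} [Fintype ι] [DecidableEq ι] (A : Matrix ι ι F)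
    (h0 : A.charpoly.coeff 0 ≠ 0) (hsr : A.charpoly ∣ A.charpoly.reverse)
    (hpar : (2 : F) = 0 → Even (Fintype.card ι))
    (hodd : Odd (Fintype.card ι) → 7 ≤ Fintype.card ι ∧
      ∀ (c : ℕ) (ψ : F[X]), A.charpoly = (X + 1) ^ c * ψ → ¬ (X + 1 ∣ ψ) → Even c) :
    ∃ k, 1 ≤ k ∧ (Fintype.card F - 1) * k ≤ Fintype.card F ^ (Fintype.card ι / 2 + 1) ∧
      (A ^ k = 1 ∨ A ^ k = -1) := by
  have : Fact (ringChar F).Prime := ⟨CharP.char_is_prime F (ringChar F)⟩
  have hdeg : A.charpoly.natDegree = Fintype.card ι := A.charpoly_natDegree_eq_dim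
  have hmon : A.charpoly.Monic := A.charpoly_monic
  obtain ⟨k, hk1, hkb, hk⟩ := main_bound (ringChar F) A.charpoly hmon.ne_zero h0 hsr
    (by
      intro hp
      rw [hdeg]
      apply hpar
      have h3 : ((ringChar F : ℕ) : F) = 0 := CharP.cast_eq_zero F (ringChar F)
      rw [hp] at h3
      exact_mod_cast h3)
    (by rw [hdeg]; exact hodd)
  rw [hdeg] at hkb
  refine ⟨k, hk1, hkb, ?_⟩
  have hA : aeval A A.charpoly = 0 := Matrix.aeval_self_charpoly A
  rcases hk with ⟨c, hc⟩ | ⟨c, hc⟩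
  · left
    have := congrArg (aeval A) hc
    rw [map_mul, hA, zero_mul, map_sub, map_pow, aeval_X, map_one, sub_eq_zero] at this
    exact this
  · right
    have := congrArg (aeval A) hc
    rw [map_mul, hA, zero_mul, map_add, map_pow, aeval_X, map_one] at this
    exact eq_neg_of_add_eq_zero_left this

/-- the bound on element orders of `PSp_{2m}(q)` -/
theorem psp_order_bound (m : ℕ) (hm : 1 ≤ m) (g : Cfsg.PSp m F) :
    (Fintype.card F - 1) * orderOf g ≤ Fintype.card F ^ (m + 1) := by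
  obtain ⟨g₀, rfl⟩ := QuotientGroup.mk_surjective g
  set A : Matrix (Fin m ⊕ Fin m) (Fin m ⊕ Fin m) F := g₀.1 with hA
  have hrev : A.charpoly.reverse = A.charpoly :=
    Cfsg.Agent.Helper8.SpG.reverse_charpoly_symp A g₀.2
  have hcard : Fintype.card (Fin m ⊕ Fin m) = 2 * m := by
    rw [Fintype.card_sum, Fintype.card_fin]; ring
  have h0 : A.charpoly.coeff 0 ≠ 0 := by
    rw [← hrev, Polynomial.coeff_zero_reverse, A.charpoly_monic.leadingCoeff]
    exact one_ne_zero
  obtain ⟨k, hk1, hkb, hk⟩ := matrix_pow_eq A h0 (by rw [hrev])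
    (by intro _; rw [hcard]; exact even_two_mul m)
    (by
      intro ho
      rw [hcard] at ho
      exact absurd (even_two_mul m) (Nat.not_even_iff_odd.mpr ho))
  rw [hcard, Nat.mul_div_cancel_left m (by norm_num : 0 < 2)] at hkb
  have hpow : (QuotientGroup.mk g₀ : Cfsg.PSp m F) ^ k = 1 := by
    rw [Cfsg.Agent.Lead.SpecSp.psp_pow_eq_one_iff hm]
    rcases hk with hk | hk
    · left
      apply Subtype.ext
      rw [SubmonoidClass.coe_pow]
      exact hk
    · right
      apply Subtype.ext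
      rw [SubmonoidClass.coe_pow, Cfsg.Agent.Lead.SpecSp.coe_negOne]
      exact hk
  have hle : orderOf (QuotientGroup.mk g₀ : Cfsg.PSp m F) ≤ k :=
    Nat.le_of_dvd hk1 (orderOf_dvd_of_pow_eq_one hpow)
  exact (Nat.mul_le_mul_left _ hle).trans hkb

end Cfsg.Agent.Helper8.Meo
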