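import Mathlib
import Cfsg.Agent.Helper8.MeoE
import Cfsg.Agent.Helper8.StdForms
set_option autoImplicit false

/-!
Isometries of a nondegenerate quadratic form over a finite field: the characteristic polynomial
is self-reciprocal, and a bounded power is `1` or `-1`.
-/

namespace Cfsg.Agent.Helper8.Meo

open Polynomial Matrix

variable {F : Type*} [Field F]

/-- the characteristic polynomial of an isometry of a nondegenerate quadratic form -/
theorem charpoly_of_isometry {ι : Type*} [Fintype ι] [DecidableEq ι]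
    (Q : QuadraticForm F (ι → F)) (hQ : (QuadraticMap.polarBilin Q).Nondegenerate)
    (A : Matrix ι ι F) (hA : IsUnit A) (hpres : ∀ u, Q (A *ᵥ u) = Q u) :
    A.charpoly = (-1) ^ Fintype.card ι * C A.det⁻¹ * A.charpoly.reverse := by
  set B : LinearMap.BilinForm F (ι → F) := QuadraticMap.polarBilin Q with hB
  set M := LinearMap.BilinForm.toMatrix' B with hM
  have hcomp : LinearMap.BilinForm.comp B A.toLin' A.toLin' = B := by
    refine LinearMap.ext₂ fun u v => ?_
    rw [LinearMap.BilinForm.comp_apply, hB, QuadraticMap.polarBilin_apply_apply,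
      QuadraticMap.polarBilin_apply_apply, Matrix.toLin'_apply, Matrix.toLin'_apply]
    unfold QuadraticMap.polar
    rw [← Matrix.mulVec_add, hpres, hpres, hpres]
  have h1 : Aᵀ * M * A = M := by
    rw [hM, LinearMap.BilinForm.mul_toMatrix'_mul, Matrix.transpose_transpose, hcomp]
  have hdet : M.det ≠ 0 := by
    have := (LinearMap.BilinForm.nondegenerate_toMatrix'_iff (B := B)).mpr hQ
    exact Matrix.nondegenerate_iff_det_ne_zero.mp this
  have hMu : IsUnit M.det := isUnit_iff_ne_zero.mpr hdet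
  have h2 : A⁻¹ = M⁻¹ * (Aᵀ * M) := by
    apply Matrix.inv_eq_left_inv
    rw [Matrix.mul_assoc, Matrix.mul_assoc, ← Matrix.mul_assoc Aᵀ, h1, Matrix.nonsing_inv_mul _ hMu]
  have h3 : A⁻¹.charpoly = A.charpoly := by
    rw [h2, Matrix.charpoly_mul_comm, Matrix.mul_assoc, Matrix.mul_nonsing_inv _ hMu, Matrix.mul_one,
      Matrix.charpoly_transpose]
  have h4 := Matrix.charpoly_inv A hA
  rw [← Matrix.reverse_charpoly, h3, Ring.inverse_eq_inv'] at h4
  exact h4

/-- if `χ.reverse = -χ` and `χ` has odd degree, then `X + 1` divides `χ` an even number of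
times (odd characteristic) -/
theorem even_of_reverse_neg (h2 : (2 : F) ≠ 0) (χ : F[X]) (hrev : χ.reverse = -χ)
    (hN : Odd χ.natDegree) (c : ℕ) (ψ : F[X]) (hχ : χ = (X + 1) ^ c * ψ) (hψ : ¬ (X + 1 ∣ ψ)) :
    Even c := by
  have hχ0 : χ ≠ 0 := by
    rintro rfl
    rw [natDegree_zero] at hN
    exact absurd hN (by decide)
  have hψ0 : ψ ≠ 0 := by
    rintro rfl
    rw [mul_zero] at hχ
    exact hχ0 hχ
  have hp0 : ((X + 1 : F[X]) ^ c) ≠ 0 := pow_ne_zero _ irreducible_X_add_one.ne_zero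
  have h1 : ψ.reverse = -ψ := by
    have h3 : (X + 1 : F[X]) ^ c * ψ.reverse = (X + 1) ^ c * (-ψ) := by
      have := hrev
      rw [hχ, Polynomial.reverse_mul_of_domain, Cfsg.Agent.Helper8.SpG.reverse_pow',
        reverse_X_add_one] at this
      rw [this]
      ring
    exact mul_left_cancel₀ hp0 h3
  have hev : eval (-1) ψ ≠ 0 := by
    intro h
    apply hψ
    rw [X_add_one_eq, Polynomial.dvd_iff_isRoot]
    exact h
  let _ : Invertible (-1 : F) := invertibleOfNonzero (neg_ne_zero.mpr one_ne_zero)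
  have hinv : ⅟(-1 : F) = -1 := by
    rw [invOf_eq_inv, inv_neg, inv_one]
  have h4 := Polynomial.eval₂_reverse_mul_pow (RingHom.id F) (-1 : F) ψ
  rw [hinv, h1, Polynomial.eval₂_id, Polynomial.eval₂_id, Polynomial.eval_neg] at h4
  have hdeg : χ.natDegree = c + ψ.natDegree := by
    rw [hχ, natDegree_mul hp0 hψ0, natDegree_pow, natDegree_X_add_one, mul_one]
  by_contra hc
  have hco : Odd c := Nat.not_even_iff_odd.mp hc
  have hψe : Even ψ.natDegree := by
    rw [hdeg] at hN
    by_contra hne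
    have := Nat.not_even_iff_odd.mp hne
    exact absurd (hco.add_odd this) (Nat.not_even_iff_odd.mpr hN)
  rw [hψe.neg_one_pow, mul_one] at h4
  have h5 : (2 : F) * eval (-1) ψ = 0 := by linear_combination -h4
  rcases mul_eq_zero.mp h5 with h | h
  · exact h2 h
  · exact hev h

variable [Fintype F]

/-- an isometry of a nondegenerate quadratic form has a bounded power equal to `1` or `-1` -/
theorem isometry_pow_eq {ι : Type*} [Fintype ι] [DecidableEq ι]
    (Q : QuadraticForm F (ι → F)) (hQ : (QuadraticMap.polarBilin Q).Nondegenerate)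
    (A : Matrix ι ι F) (hA : IsUnit A) (hpres : ∀ u, Q (A *ᵥ u) = Q u)
    (hpar : (2 : F) = 0 → Even (Fintype.card ι))
    (hodd : Odd (Fintype.card ι) → 7 ≤ Fintype.card ι ∧ A.det = 1 ∧ (2 : F) ≠ 0) :
    ∃ k, 1 ≤ k ∧ (Fintype.card F - 1) * k ≤ Fintype.card F ^ (Fintype.card ι / 2 + 1) ∧
      (A ^ k = 1 ∨ A ^ k = -1) := by
  have hχ := charpoly_of_isometry Q hQ A hA hpres
  have hdet : A.det ≠ 0 := by
    have := (Matrix.isUnit_iff_isUnit_det A).mp hA
    exact this.ne_zero
  have hdeg : A.charpoly.natDegree = Fintype.card ι := A.charpoly_natDegree_eq_dim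
  have h0 : A.charpoly.coeff 0 ≠ 0 := by
    intro h
    have := Matrix.det_eq_sign_charpoly_coeff A
    rw [h, mul_zero] at this
    exact hdet this
  set c : F := (-1) ^ Fintype.card ι * A.det⁻¹ with hc
  have hc0 : c ≠ 0 := mul_ne_zero (pow_ne_zero _ (neg_ne_zero.mpr one_ne_zero)) (inv_ne_zero hdet)
  have hχ' : A.charpoly = C c * A.charpoly.reverse := by
    rw [hc, C_mul, C_pow, C_neg, C_1]
    exact hχ
  have hsr : A.charpoly ∣ A.charpoly.reverse := by
    refine ⟨C c⁻¹, ?_⟩
    nth_rw 2 [hχ']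
    rw [mul_comm (C c * _) _, ← mul_assoc, ← C_mul, inv_mul_cancel₀ hc0, C_1, one_mul]
  refine matrix_pow_eq A h0 hsr hpar ?_
  intro ho
  obtain ⟨h7, hd1, h2⟩ := hodd ho
  refine ⟨h7, ?_⟩
  apply even_of_reverse_neg h2 A.charpoly ?_ (by rw [hdeg]; exact ho)
  have hc1 : c = -1 := by
    rw [hc, hd1, inv_one, mul_one, ho.neg_one_pow]
  rw [hc1, C_neg, C_1, neg_one_mul] at hχ'
  rw [eq_neg_iff_add_eq_zero, add_comm, ← eq_neg_iff_add_eq_zero]
  exact hχ'

end Cfsg.Agent.Helper8.Meo
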