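import Mathlib
import Cfsg.Agent.Helper8.MeoF
set_option autoImplicit false

/-!
The bound on element orders of `PΩ(Q)` for a nondegenerate quadratic form `Q` over a finite field.
-/

namespace Cfsg.Agent.Helper8.Meo

open Polynomial Matrix

variable {F : Type*} [Field F] [Fintype F]

omit [Fintype F] in
theorem det_eq_one_of_mem_Omega {ι : Type} [Fintype ι] [DecidableEq ι] (Q₀ : (ι → F) → F)
    (g : Cfsg.isometryGroup F Q₀) (hg : g ∈ Cfsg.Omega F Q₀) :
    ((g : Matrix.GeneralLinearGroup ι F) : Matrix ι ι F).det = 1 := by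
  have h1 := Abelianization.commutator_subset_ker
    (Matrix.GeneralLinearGroup.det.comp (Cfsg.isometryGroup F Q₀).subtype) hg
  rw [MonoidHom.mem_ker, MonoidHom.comp_apply] at h1
  have h2 := congrArg Units.val h1
  rw [Matrix.GeneralLinearGroup.val_det_apply] at h2
  exact h2

theorem pomega_order_bound {ι : Type} [Fintype ι] [DecidableEq ι] (Q₀ : (ι → F) → F)
    (Q : QuadraticForm F (ι → F)) (hQQ : ∀ v, Q v = Q₀ v)
    (hQ : (QuadraticMap.polarBilin Q).Nondegenerate)
    (hpar : (2 : F) = 0 → Even (Fintype.card ι))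
    (hodd : Odd (Fintype.card ι) → 7 ≤ Fintype.card ι ∧ (2 : F) ≠ 0)
    (g : Cfsg.POmega F Q₀) :
    (Fintype.card F - 1) * orderOf g ≤ Fintype.card F ^ (Fintype.card ι / 2 + 1) := by
  obtain ⟨g₀, rfl⟩ := QuotientGroup.mk_surjective g
  set A : Matrix ι ι F := ((g₀.1 : Matrix.GeneralLinearGroup ι F) : Matrix ι ι F) with hA
  have hAu : IsUnit A := ⟨(g₀.1 : Matrix.GeneralLinearGroup ι F), rfl⟩
  have hpres : ∀ u, Q (A *ᵥ u) = Q u := by
    intro u
    rw [hQQ, hQQ]
    exact g₀.1.2 u u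
  have hdet : A.det = 1 := det_eq_one_of_mem_Omega Q₀ g₀.1 g₀.2
  obtain ⟨k, hk1, hkb, hk⟩ := isometry_pow_eq Q hQ A hAu hpres hpar
    (fun ho => ⟨(hodd ho).1, hdet, (hodd ho).2⟩)
  have hpowA : (((g₀ ^ k : Cfsg.Omega F Q₀).1 : Matrix.GeneralLinearGroup ι F) : Matrix ι ι F)
      = A ^ k := by
    rw [Subgroup.coe_pow, Subgroup.coe_pow, Units.val_pow_eq_pow_val]
  have hcen : g₀ ^ k ∈ Subgroup.center (Cfsg.Omega F Q₀) := by
    rw [Subgroup.mem_center_iff]
    intro h
    apply Subtype.ext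
    apply Subtype.ext
    apply Units.ext
    rw [Subgroup.coe_mul, Subgroup.coe_mul, Subgroup.coe_mul, Subgroup.coe_mul, Units.val_mul,
      Units.val_mul, hpowA]
    rcases hk with hk | hk
    · rw [hk, mul_one, one_mul]
    · rw [hk, mul_neg, neg_mul, mul_one, one_mul]
  have hpow : (QuotientGroup.mk g₀ : Cfsg.POmega F Q₀) ^ k = 1 := by
    rw [← QuotientGroup.mk_pow, QuotientGroup.eq_one_iff]
    exact hcen
  have hle : orderOf (QuotientGroup.mk g₀ : Cfsg.POmega F Q₀) ≤ k :=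
    Nat.le_of_dvd hk1 (orderOf_dvd_of_pow_eq_one hpow)
  exact (Nat.mul_le_mul_left _ hle).trans hkb

theorem two_ne_zero_of_odd_card (h : Odd (Fintype.card F)) : (2 : F) ≠ 0 := by
  intro h2
  have : CharP F 2 := CharTwo.of_one_ne_zero_of_two_eq_zero one_ne_zero h2
  have h3 : (2 : ℕ) ∣ Fintype.card F := by
    have := FiniteField.cast_card_eq_zero F
    exact (CharP.cast_eq_zero_iff F 2 _).mp this
  exact absurd (even_iff_two_dvd.mpr h3) (Nat.not_even_iff_odd.mpr h)

open Cfsg.Agent.Helper8.StdForms in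
theorem pomega_odd_bound (m : ℕ) (hm : 3 ≤ m) (hq : Odd (Fintype.card F))
    (g : Cfsg.POmega F (Cfsg.quadFormOdd m F)) :
    (Fintype.card F - 1) * orderOf g ≤ Fintype.card F ^ (m + 1) := by
  have h2 := two_ne_zero_of_odd_card hq
  have hcard : Fintype.card (Unit ⊕ (Fin m ⊕ Fin m)) = 2 * m + 1 := by
    rw [Fintype.card_sum, Fintype.card_sum, Fintype.card_fin, Fintype.card_unit]; ring
  have := pomega_order_bound (Cfsg.quadFormOdd m F) (oddForm F m) (oddForm_apply F m)
    (oddForm_nondeg F m h2) (fun h => absurd h h2)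
    (fun _ => ⟨by rw [hcard]; omega, h2⟩) g
  rw [hcard] at this
  have h3 : (2 * m + 1) / 2 = m := by omega
  rwa [h3] at this

open Cfsg.Agent.Helper8.StdForms in
theorem pomega_plus_bound (m : ℕ) (g : Cfsg.POmega F (Cfsg.quadFormPlus m F)) :
    (Fintype.card F - 1) * orderOf g ≤ Fintype.card F ^ (m + 1) := by
  have hcard : Fintype.card (Fin m ⊕ Fin m) = 2 * m := by
    rw [Fintype.card_sum, Fintype.card_fin]; ring
  have := pomega_order_bound (Cfsg.quadFormPlus m F) (plusForm F m) (plusForm_apply F m)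
    (plusForm_nondeg F m) (fun _ => by rw [hcard]; exact even_two_mul m)
    (fun ho => by
      rw [hcard] at ho
      exact absurd (even_two_mul m) (Nat.not_even_iff_odd.mpr ho)) g
  rw [hcard, Nat.mul_div_cancel_left m (by norm_num : 0 < 2)] at this
  exact this

open Cfsg.Agent.Helper8.StdForms in
theorem pomega_minus_bound (m : ℕ) (a b : F)
    (hab : ∀ z₁ z₂ : F, z₁ ^ 2 + a * z₁ * z₂ + b * z₂ ^ 2 = 0 → z₁ = 0 ∧ z₂ = 0)
    (g : Cfsg.POmega F (Cfsg.quadFormMinus m F a b)) :
    (Fintype.card F - 1) * orderOf g ≤ Fintype.card F ^ (m + 2) := by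
  have hcard : Fintype.card ((Fin m ⊕ Fin m) ⊕ Fin 2) = 2 * (m + 1) := by
    rw [Fintype.card_sum, Fintype.card_sum, Fintype.card_fin, Fintype.card_fin]; ring
  have := pomega_order_bound (Cfsg.quadFormMinus m F a b) (minusForm F m a b)
    (minusForm_apply F m a b) (minusForm_nondeg F m hab)
    (fun _ => by rw [hcard]; exact even_two_mul _)
    (fun ho => by
      rw [hcard] at ho
      exact absurd (even_two_mul _) (Nat.not_even_iff_odd.mpr ho)) g
  rw [hcard, Nat.mul_div_cancel_left _ (by norm_num : 0 < 2)] at this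
  exact this

end Cfsg.Agent.Helper8.Meo
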