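import Mathlib
set_option autoImplicit false

/-!
Combinatorics: an involution on a finite linearly ordered type of size `a * t` admits an invariant
system of `t` blocks of size `a`.
-/

namespace Cfsg.Agent.Helper8.MonoDecomp

open Finset

variable {ι : Type*} [DecidableEq ι] [LinearOrder ι]

theorem card_up_eq_card_down (π : ι → ι) (hπ : Function.Involutive π) (S : Finset ι)
    (hS : ∀ i ∈ S, π i ∈ S) :
    (S.filter (fun k => π k < k)).card = (S.filter (fun k => k < π k)).card := by
  apply Finset.card_bij (fun k _ => π k)
  · intro k hk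
    rw [Finset.mem_filter] at hk ⊢
    refine ⟨hS k hk.1, ?_⟩
    rw [hπ k]; exact hk.2
  · intro k _ l _ h
    exact hπ.injective h
  · intro k hk
    rw [Finset.mem_filter] at hk
    refine ⟨π k, ?_, hπ k⟩
    rw [Finset.mem_filter]
    refine ⟨hS k hk.1, ?_⟩
    rw [hπ k]; exact hk.2

theorem card_eq_fixed_add (π : ι → ι) (hπ : Function.Involutive π) (S : Finset ι)
    (hS : ∀ i ∈ S, π i ∈ S) :
    S.card = (S.filter (fun k => π k = k)).card + 2 * (S.filter (fun k => k < π k)).card := by
  have h1 : S = (S.filter (fun k => π k = k)) ∪
      ((S.filter (fun k => k < π k)) ∪ (S.filter (fun k => π k < k))) := by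
    ext k
    simp only [Finset.mem_union, Finset.mem_filter]
    constructor
    · intro hk
      rcases lt_trichotomy (π k) k with h | h | h
      · exact Or.inr (Or.inr ⟨hk, h⟩)
      · exact Or.inl ⟨hk, h⟩
      · exact Or.inr (Or.inl ⟨hk, h⟩)
    · rintro (h | h | h) <;> exact h.1
  have hd1 : Disjoint (S.filter (fun k => k < π k)) (S.filter (fun k => π k < k)) := by
    rw [Finset.disjoint_left]
    intro k hk hk'
    rw [Finset.mem_filter] at hk hk'
    exact lt_asymm hk.2 hk'.2
  have hd2 : Disjoint (S.filter (fun k => π k = k))
      ((S.filter (fun k => k < π k)) ∪ (S.filter (fun k => π k < k))) := by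
    rw [Finset.disjoint_left]
    intro k hk hk'
    rw [Finset.mem_filter] at hk
    rw [Finset.mem_union, Finset.mem_filter, Finset.mem_filter] at hk'
    rcases hk' with h | h
    · exact absurd hk.2 (ne_of_gt h.2)
    · exact absurd hk.2 (ne_of_lt h.2)
  calc S.card = ((S.filter (fun k => π k = k)) ∪
      ((S.filter (fun k => k < π k)) ∪ (S.filter (fun k => π k < k)))).card := by rw [← h1]
    _ = _ := by
      rw [Finset.card_union_of_disjoint hd2, Finset.card_union_of_disjoint hd1,
        card_up_eq_card_down π hπ S hS]
      ring

/-- An invariant subset with `j` fixed points and `i` two-cycles. -/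
theorem exists_invariant_subset (π : ι → ι) (hπ : Function.Involutive π) (S : Finset ι)
    (j i : ℕ) (hj : j ≤ (S.filter (fun k => π k = k)).card)
    (hi : i ≤ (S.filter (fun k => k < π k)).card) (hS : ∀ i ∈ S, π i ∈ S) :
    ∃ B ⊆ S, (∀ k ∈ B, π k ∈ B) ∧ B.card = j + 2 * i := by
  obtain ⟨X, hXsub, hXcard⟩ := Finset.exists_subset_card_eq hj
  obtain ⟨T, hTsub, hTcard⟩ := Finset.exists_subset_card_eq hi
  have hXp : ∀ k ∈ X, k ∈ S ∧ π k = k := fun k hk => by
    have := hXsub hk; rwa [Finset.mem_filter] at this
  have hTp : ∀ k ∈ T, k ∈ S ∧ k < π k := fun k hk => by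
    have := hTsub hk; rwa [Finset.mem_filter] at this
  refine ⟨X ∪ (T ∪ T.image π), ?_, ?_, ?_⟩
  · intro k hk
    simp only [Finset.mem_union, Finset.mem_image] at hk
    rcases hk with h | h | ⟨l, hl, rfl⟩
    · exact (hXp k h).1
    · exact (hTp k h).1
    · exact hS l (hTp l hl).1
  · intro k hk
    simp only [Finset.mem_union, Finset.mem_image] at hk ⊢
    rcases hk with h | h | ⟨l, hl, rfl⟩
    · left; rw [(hXp k h).2]; exact h
    · right; right; exact ⟨k, h, rfl⟩
    · right; left; rw [hπ l]; exact hl
  · have hd1 : Disjoint T (T.image π) := by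
      rw [Finset.disjoint_left]
      intro k hk hk'
      rw [Finset.mem_image] at hk'
      obtain ⟨l, hl, rfl⟩ := hk'
      have h1 := (hTp _ hk).2
      rw [hπ l] at h1
      exact lt_asymm h1 (hTp l hl).2
    have hd2 : Disjoint X (T ∪ T.image π) := by
      rw [Finset.disjoint_left]
      intro k hk hk'
      simp only [Finset.mem_union, Finset.mem_image] at hk'
      rcases hk' with h | ⟨l, hl, rfl⟩
      · exact absurd (hXp k hk).2 (ne_of_gt (hTp k h).2)
      · have h1 := (hXp _ hk).2
        rw [hπ l] at h1
        exact absurd h1.symm (ne_of_gt (hTp l hl).2)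
    rw [Finset.card_union_of_disjoint hd2, Finset.card_union_of_disjoint hd1,
      Finset.card_image_of_injective _ hπ.injective, hXcard, hTcard]
    ring

/-- A half-transversal: `a` two-cycles split into two swapped halves. -/
theorem exists_swapped_pair (π : ι → ι) (hπ : Function.Involutive π) (S : Finset ι)
    (a : ℕ) (ha : a ≤ (S.filter (fun k => k < π k)).card) (hS : ∀ i ∈ S, π i ∈ S) :
    ∃ B ⊆ S, B.card = a ∧ Disjoint B (B.image π) ∧ B.image π ⊆ S := by
  obtain ⟨T, hTsub, hTcard⟩ := Finset.exists_subset_card_eq ha
  have hTp : ∀ k ∈ T, k ∈ S ∧ k < π k := fun k hk => by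
    have := hTsub hk; rwa [Finset.mem_filter] at this
  refine ⟨T, fun k hk => (hTp k hk).1, hTcard, ?_, ?_⟩
  · rw [Finset.disjoint_left]
    intro k hk hk'
    rw [Finset.mem_image] at hk'
    obtain ⟨l, hl, rfl⟩ := hk'
    have h1 := (hTp _ hk).2
    rw [hπ l] at h1
    exact lt_asymm h1 (hTp l hl).2
  · intro k hk
    rw [Finset.mem_image] at hk
    obtain ⟨l, hl, rfl⟩ := hk
    exact hS l (hTp l hl).1


/-- Block systems for an involution: an invariant finset of size `a * t` splits into `t` blocks of
size `a` permuted by the involution. -/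
theorem exists_blocks (π : ι → ι) (hπ : Function.Involutive π) (a : ℕ) (ha : 0 < a) :
    ∀ (t : ℕ) (S : Finset ι), (∀ i ∈ S, π i ∈ S) → S.card = a * t →
    ∃ (β : ι → ℕ) (σ : ℕ → ℕ), (∀ i ∈ S, β i < t) ∧
      (∀ j < t, (S.filter (fun i => β i = j)).card = a) ∧ (∀ i ∈ S, β (π i) = σ (β i)) := by
  intro t
  induction t using Nat.strong_induction_on with
  | _ t ih =>
  intro S hS hcard
  rcases Nat.eq_zero_or_pos t with ht0 | htpos
  · subst ht0
    have hSe : S = ∅ := by
      rw [← Finset.card_eq_zero, hcard, Nat.mul_zero]
    subst hSe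
    exact ⟨fun _ => 0, fun _ => 0, by simp, by simp, by simp⟩
  set f := (S.filter (fun k => π k = k)).card with hf
  set s := (S.filter (fun k => k < π k)).card with hs
  have hfs : a * t = f + 2 * s := by rw [← hcard]; exact card_eq_fixed_add π hπ S hS
  have hat : a ≤ a * t := Nat.le_mul_of_pos_right a htpos
  by_cases hcase : f = 0 ∧ ¬ 2 ∣ a
  · -- swapped pair of blocks
    obtain ⟨hf0, hodd⟩ := hcase
    have ht2 : 2 ∣ t := by
      have h2 : 2 ∣ a * t := by rw [hfs, hf0]; exact ⟨s, by ring⟩
      rcases (Nat.Prime.dvd_mul Nat.prime_two).1 h2 with h | h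
      · exact absurd h hodd
      · exact h
    obtain ⟨u, hu⟩ := ht2
    have hu1 : 1 ≤ u := by omega
    have hsa : a ≤ s := by
      have : a * t = 2 * (a * u) := by rw [hu]; ring
      have h3 : a * u ≥ a := Nat.le_mul_of_pos_right a hu1
      omega
    obtain ⟨B, hBS, hBcard, hBdisj, hBπS⟩ := exists_swapped_pair π hπ S a hsa hS
    have hBπcard : (B.image π).card = a := by
      rw [Finset.card_image_of_injective _ hπ.injective, hBcard]
    set S' := S \ (B ∪ B.image π) with hS'
    have hS'inv : ∀ i ∈ S', π i ∈ S' := by
      intro i hi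
      rw [hS', Finset.mem_sdiff] at hi ⊢
      refine ⟨hS i hi.1, ?_⟩
      intro hmem
      apply hi.2
      rw [Finset.mem_union] at hmem ⊢
      rcases hmem with h | h
      · right
        rw [Finset.mem_image]
        exact ⟨π i, h, hπ i⟩
      · left
        rw [Finset.mem_image] at h
        obtain ⟨l, hl, hl'⟩ := h
        have : l = i := hπ.injective hl'
        rwa [← this]
    have hS'card : S'.card = a * (t - 2) := by
      have hsub : B ∪ B.image π ⊆ S := Finset.union_subset hBS hBπS
      rw [hS', Finset.card_sdiff_of_subset hsub, Finset.card_union_of_disjoint hBdisj, hBcard,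
        hBπcard, hcard]
      have : a * t = a * (t - 2) + 2 * a := by
        have : t = (t - 2) + 2 := by omega
        conv_lhs => rw [this]
        ring
      omega
    obtain ⟨β', σ', hβ'lt, hβ'card, hβ'σ⟩ := ih (t - 2) (by omega) S' hS'inv hS'card
    refine ⟨fun i => if i ∈ B then t - 1 else if i ∈ B.image π then t - 2 else β' i,
      fun j => if j = t - 1 then t - 2 else if j = t - 2 then t - 1 else σ' j, ?_, ?_, ?_⟩
    · intro i hi
      dsimp only
      split_ifs with h1 h2
      · omega
      · omega
      · have : i ∈ S' := by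
          rw [hS', Finset.mem_sdiff, Finset.mem_union]
          exact ⟨hi, fun h => h.elim h1 h2⟩
        have := hβ'lt i this
        omega
    · intro j hj
      dsimp only
      by_cases hj1 : j = t - 1
      · subst hj1
        have : S.filter (fun i => (if i ∈ B then t - 1 else if i ∈ B.image π then t - 2 else β' i)
            = t - 1) = B := by
          ext i
          rw [Finset.mem_filter]
          constructor
          · rintro ⟨hi, h⟩
            by_contra hiB
            rw [if_neg hiB] at h
            split_ifs at h with h2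
            · omega
            · have : i ∈ S' := by
                rw [hS', Finset.mem_sdiff, Finset.mem_union]
                exact ⟨hi, fun h => h.elim hiB h2⟩
              have := hβ'lt i this
              omega
          · intro hi
            exact ⟨hBS hi, by rw [if_pos hi]⟩
        rw [this, hBcard]
      by_cases hj2 : j = t - 2
      · subst hj2
        have : S.filter (fun i => (if i ∈ B then t - 1 else if i ∈ B.image π then t - 2 else β' i)
            = t - 2) = B.image π := by
          ext i
          rw [Finset.mem_filter]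
          constructor
          · rintro ⟨hi, h⟩
            by_contra hiB
            split_ifs at h with h1
            · omega
            · have : i ∈ S' := by
                rw [hS', Finset.mem_sdiff, Finset.mem_union]
                exact ⟨hi, fun h => h.elim h1 hiB⟩
              have := hβ'lt i this
              omega
          · intro hi
            have hiB : i ∉ B := fun h => (Finset.disjoint_left.1 hBdisj) h hi
            exact ⟨hBπS hi, by rw [if_neg hiB, if_pos hi]⟩
        rw [this, hBπcard]
      · have hj' : j < t - 2 := by omega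
        have : S.filter (fun i => (if i ∈ B then t - 1 else if i ∈ B.image π then t - 2 else β' i)
            = j) = S'.filter (fun i => β' i = j) := by
          ext i
          rw [Finset.mem_filter, Finset.mem_filter, hS', Finset.mem_sdiff, Finset.mem_union]
          constructor
          · rintro ⟨hi, h⟩
            split_ifs at h with h1 h2
            · omega
            · omega
            · exact ⟨⟨hi, fun h => h.elim h1 h2⟩, h⟩
          · rintro ⟨⟨hi, hn⟩, h⟩
            push_neg at hn
            exact ⟨hi, by rw [if_neg hn.1, if_neg hn.2]; exact h⟩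
        rw [this]
        exact hβ'card j hj'
    · intro i hi
      dsimp only
      by_cases h1 : i ∈ B
      · have h2 : π i ∈ B.image π := Finset.mem_image_of_mem π h1
        have h3 : π i ∉ B := fun h => (Finset.disjoint_left.1 hBdisj) h h2
        rw [if_pos h1, if_neg h3, if_pos h2, if_pos rfl]
      by_cases h2 : i ∈ B.image π
      · have h3 : π i ∈ B := by
          rw [Finset.mem_image] at h2
          obtain ⟨l, hl, rfl⟩ := h2
          rw [hπ l]; exact hl
        rw [if_neg h1, if_pos h2, if_pos h3]
        have : t - 2 ≠ t - 1 := by omega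
        rw [if_neg this, if_pos rfl]
      · have hiS' : i ∈ S' := by
          rw [hS', Finset.mem_sdiff, Finset.mem_union]
          exact ⟨hi, fun h => h.elim h1 h2⟩
        have hπiS' := hS'inv i hiS'
        rw [hS', Finset.mem_sdiff, Finset.mem_union] at hπiS'
        have h3 := hπiS'.2
        push_neg at h3
        rw [if_neg h1, if_neg h2, if_neg h3.1, if_neg h3.2]
        have hlt := hβ'lt i hiS'
        have h4 : β' i ≠ t - 1 := by omega
        have h5 : β' i ≠ t - 2 := by omega
        rw [if_neg h4, if_neg h5]
        exact hβ'σ i hiS'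
  · -- an invariant block
    have hcase' : 1 ≤ f ∨ 2 ∣ a := by
      by_contra hne
      push_neg at hne
      exact hcase ⟨by omega, hne.2⟩
    have hex : ∃ j i : ℕ, j ≤ f ∧ i ≤ s ∧ j + 2 * i = a := by
      refine ⟨a - 2 * min s (a / 2), min s (a / 2), ?_, Nat.min_le_left _ _, ?_⟩
      · rcases hcase' with h | h
        · rcases Nat.le_total s (a / 2) with h1 | h1
          · rw [Nat.min_eq_left h1]; omega
          · rw [Nat.min_eq_right h1]; omega
        · obtain ⟨w, hw⟩ := h
          rcases Nat.le_total s (a / 2) with h1 | h1
          · rw [Nat.min_eq_left h1]; omega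
          · rw [Nat.min_eq_right h1]; omega
      · have : 2 * min s (a / 2) ≤ a := by
          have := Nat.min_le_right s (a / 2)
          omega
        omega
    obtain ⟨j, i, hj, hi, hji⟩ := hex
    obtain ⟨B, hBS, hBinv, hBcard⟩ := exists_invariant_subset π hπ S j i hj hi hS
    rw [hji] at hBcard
    set S' := S \ B with hS'
    have hS'inv : ∀ i ∈ S', π i ∈ S' := by
      intro i hi
      rw [hS', Finset.mem_sdiff] at hi ⊢
      refine ⟨hS i hi.1, ?_⟩
      intro hmem
      apply hi.2
      have := hBinv _ hmem
      rwa [hπ i] at this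
    have hS'card : S'.card = a * (t - 1) := by
      rw [hS', Finset.card_sdiff_of_subset hBS, hBcard, hcard]
      have : a * t = a * (t - 1) + a := by
        have : t = (t - 1) + 1 := by omega
        conv_lhs => rw [this]
        ring
      omega
    obtain ⟨β', σ', hβ'lt, hβ'card, hβ'σ⟩ := ih (t - 1) (by omega) S' hS'inv hS'card
    refine ⟨fun i => if i ∈ B then t - 1 else β' i,
      fun j => if j = t - 1 then t - 1 else σ' j, ?_, ?_, ?_⟩
    · intro i hi
      dsimp only
      split_ifs with h1
      · omega
      · have : i ∈ S' := by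
          rw [hS', Finset.mem_sdiff]
          exact ⟨hi, h1⟩
        have := hβ'lt i this
        omega
    · intro j hj
      dsimp only
      by_cases hj1 : j = t - 1
      · subst hj1
        have : S.filter (fun i => (if i ∈ B then t - 1 else β' i) = t - 1) = B := by
          ext i
          rw [Finset.mem_filter]
          constructor
          · rintro ⟨hi, h⟩
            by_contra hiB
            rw [if_neg hiB] at h
            have : i ∈ S' := by
              rw [hS', Finset.mem_sdiff]
              exact ⟨hi, hiB⟩
            have := hβ'lt i this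
            omega
          · intro hi
            exact ⟨hBS hi, by rw [if_pos hi]⟩
        rw [this, hBcard]
      · have hj' : j < t - 1 := by omega
        have : S.filter (fun i => (if i ∈ B then t - 1 else β' i) = j)
            = S'.filter (fun i => β' i = j) := by
          ext i
          rw [Finset.mem_filter, Finset.mem_filter, hS', Finset.mem_sdiff]
          constructor
          · rintro ⟨hi, h⟩
            split_ifs at h with h1
            · omega
            · exact ⟨⟨hi, h1⟩, h⟩
          · rintro ⟨⟨hi, hn⟩, h⟩
            exact ⟨hi, by rw [if_neg hn]; exact h⟩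
        rw [this]
        exact hβ'card j hj'
    · intro i hi
      dsimp only
      by_cases h1 : i ∈ B
      · rw [if_pos h1, if_pos (hBinv i h1), if_pos rfl]
      · have hiS' : i ∈ S' := by
          rw [hS', Finset.mem_sdiff]
          exact ⟨hi, h1⟩
        have hπiS' := hS'inv i hiS'
        rw [hS', Finset.mem_sdiff] at hπiS'
        rw [if_neg h1, if_neg hπiS'.2]
        have hlt := hβ'lt i hiS'
        have h4 : β' i ≠ t - 1 := by omega
        rw [if_neg h4]
        exact hβ'σ i hiS'


/-- The version on `Fin k` with blocks indexed by `Fin t`. -/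
theorem exists_blocks_fin {k : ℕ} (π : Fin k → Fin k) (hπ : Function.Involutive π) (a t : ℕ)
    (ha : 0 < a) (hk : k = a * t) :
    ∃ (β : Fin k → Fin t) (σ : Equiv.Perm (Fin t)),
      (∀ j, (Finset.univ.filter (fun i => β i = j)).card = a) ∧ ∀ i, β (π i) = σ (β i) := by
  obtain ⟨β, σ, hlt, hcard, hσ⟩ := exists_blocks π hπ a ha t Finset.univ (fun i _ => Finset.mem_univ _)
    (by rw [Finset.card_univ, Fintype.card_fin, hk])
  have hne : ∀ j < t, ∃ i, β i = j := by
    intro j hj
    have h1 := hcard j hj
    have h2 : (Finset.univ.filter (fun i => β i = j)).Nonempty := by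
      rw [← Finset.card_pos, h1]; exact ha
    obtain ⟨i, hi⟩ := h2
    rw [Finset.mem_filter] at hi
    exact ⟨i, hi.2⟩
  have hσlt : ∀ j < t, σ j < t := by
    intro j hj
    obtain ⟨i, rfl⟩ := hne j hj
    rw [← hσ i (Finset.mem_univ _)]
    exact hlt _ (Finset.mem_univ _)
  have hσσ : ∀ j < t, σ (σ j) = j := by
    intro j hj
    obtain ⟨i, rfl⟩ := hne j hj
    rw [← hσ i (Finset.mem_univ _), ← hσ (π i) (Finset.mem_univ _), hπ i]
  let σ' : Fin t → Fin t := fun j => ⟨σ j, hσlt j j.2⟩
  have hσ'inv : Function.Involutive σ' := by
    intro j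
    apply Fin.ext
    exact hσσ j j.2
  refine ⟨fun i => ⟨β i, hlt i (Finset.mem_univ _)⟩, hσ'inv.toPerm σ', ?_, ?_⟩
  · intro j
    rw [← hcard j j.2]
    congr 1
    ext i
    simp only [Finset.mem_filter, Finset.mem_univ, true_and]
    constructor
    · intro h; rw [← h]
    · intro h; exact Fin.ext h
  · intro i
    apply Fin.ext
    exact hσ i (Finset.mem_univ _)

end Cfsg.Agent.Helper8.MonoDecomp
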