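import Mathlib
set_option autoImplicit false

/-!
An operator `x` with `x² = z` (`z ≠ 0`) on a finite-dimensional space has a monomial basis:
`x (b i) = c i • b (π i)` for an involution `π` of the index set and nonzero scalars `c i`.
-/

namespace Cfsg.Agent.Helper8.MonoDecomp

variable {F : Type*} [Field F] {V : Type*} [AddCommGroup V] [Module F V] [FiniteDimensional F V]

theorem exists_monomial_family (x : V →ₗ[F] V) (z : F) (hz : z ≠ 0) (hx : ∀ v, x (x v) = z • v) :
    ∀ (n : ℕ) (W : Submodule F V), Module.finrank F W = n → (∀ u ∈ W, x u ∈ W) →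
    ∃ (ι : Type) (_ : Fintype ι) (b : ι → V) (π : ι → ι) (c : ι → F),
      LinearIndependent F b ∧ Submodule.span F (Set.range b) = W ∧ Function.Involutive π ∧
      (∀ i, c i ≠ 0) ∧ ∀ i, x (b i) = c i • b (π i) := by
  intro n
  induction n using Nat.strong_induction_on with
  | _ n ih =>
  intro W hWn hWx
  by_cases h : ∀ u ∈ W, ∃ l : F, x u = l • u
  · -- every vector of W is an eigenvector
    let bs := Module.finBasis F W
    have hl : ∀ i, ∃ l : F, x (bs i : V) = l • (bs i : V) := fun i => h _ (bs i).2
    choose c hc using hl
    refine ⟨Fin (Module.finrank F W), inferInstance, fun i => (bs i : V), id, c, ?_, ?_,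
      fun i => rfl, ?_, ?_⟩
    · have := bs.linearIndependent.map' W.subtype (Submodule.ker_subtype W)
      exact this
    · have h1 : Set.range (fun i => (bs i : V)) = W.subtype '' (Set.range bs) := by
        rw [← Set.range_comp]; rfl
      rw [h1, Submodule.span_image, bs.span_eq, Submodule.map_subtype_top]
    · intro i hci
      have h1 := hc i
      rw [hci, zero_smul] at h1
      have h2 := hx (bs i : V)
      rw [h1, map_zero] at h2
      have h3 : (bs i : V) = 0 := by
        rcases smul_eq_zero.1 h2.symm with h | h
        · exact absurd h hz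
        · exact h
      have h4 : bs i = 0 := Subtype.ext h3
      exact bs.ne_zero i h4
    · intro i
      exact hc i
  · push_neg at h
    obtain ⟨v, hvW, hv⟩ := h
    have hv0 : v ≠ 0 := by
      intro h0
      apply hv 0
      rw [h0, map_zero, smul_zero]
    have hxvW : x v ∈ W := hWx v hvW
    have hnot : x v ∉ Submodule.span F {v} := by
      intro hmem
      rw [Submodule.mem_span_singleton] at hmem
      obtain ⟨l, hl⟩ := hmem
      exact hv l hl.symm
    obtain ⟨f, hf1, hf2⟩ := Submodule.exists_dual_map_eq_bot_of_notMem hnot inferInstance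
    have hfv : f v = 0 := by
      have : f v ∈ (Submodule.span F {v}).map f :=
        Submodule.mem_map_of_mem (Submodule.mem_span_singleton_self v)
      rw [hf2] at this
      exact (Submodule.mem_bot F).1 this
    set φ : V →ₗ[F] F := (f (x v))⁻¹ • f with hφ
    have hφv : φ v = 0 := by
      rw [hφ, LinearMap.smul_apply, hfv, smul_zero]
    have hφxv : φ (x v) = 1 := by
      rw [hφ, LinearMap.smul_apply, smul_eq_mul, inv_mul_cancel₀ hf1]
    set W' : Submodule F V := W ⊓ (LinearMap.ker φ ⊓ LinearMap.ker (φ ∘ₗ x)) with hW'
    have hW'le : W' ≤ W := inf_le_left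
    have hmemW' : ∀ u, u ∈ W' ↔ u ∈ W ∧ φ u = 0 ∧ φ (x u) = 0 := by
      intro u
      rw [hW', Submodule.mem_inf, Submodule.mem_inf, LinearMap.mem_ker, LinearMap.mem_ker,
        LinearMap.comp_apply]
    have hW'x : ∀ u ∈ W', x u ∈ W' := by
      intro u hu
      rw [hmemW'] at hu ⊢
      refine ⟨hWx u hu.1, hu.2.2, ?_⟩
      rw [hx u, map_smul, hu.2.1, smul_zero]
    have hW'lt : W' < W := by
      refine lt_of_le_of_ne hW'le ?_
      intro heq
      have : x v ∈ W' := by rw [heq]; exact hxvW
      rw [hmemW'] at this
      rw [hφxv] at this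
      exact one_ne_zero this.2.1
    have hfin : Module.finrank F W' < n := by
      rw [← hWn]
      exact Submodule.finrank_lt_finrank_of_lt hW'lt
    obtain ⟨ι', hι', b', π', c', hli', hspan', hπ', hc', hxb'⟩ :=
      ih _ hfin W' rfl hW'x
    have hpair : LinearIndependent F ![v, x v] := by
      rw [LinearIndependent.pair_iff]
      intro s t hst
      by_cases ht : t = 0
      · subst ht
        rw [zero_smul, add_zero] at hst
        rcases smul_eq_zero.1 hst with h | h
        · exact ⟨h, rfl⟩
        · exact absurd h hv0
      · exfalso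
        apply hv (-(t⁻¹ * s))
        have h1 : t • x v = -(s • v) := by
          rw [eq_neg_iff_add_eq_zero, add_comm]; exact hst
        have h2 : x v = t⁻¹ • (t • x v) := by
          rw [smul_smul, inv_mul_cancel₀ ht, one_smul]
        rw [h2, h1, smul_neg, smul_smul, neg_smul]
    have hrange2 : Set.range ![v, x v] = {v, x v} := by
      ext w
      simp only [Set.mem_range, Set.mem_insert_iff, Set.mem_singleton_iff]
      constructor
      · rintro ⟨i, rfl⟩
        fin_cases i
        · left; rfl
        · right; rfl
      · rintro (h | h)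
        · exact ⟨0, h.symm⟩
        · exact ⟨1, h.symm⟩
    have hdisj : Disjoint (Submodule.span F (Set.range ![v, x v]))
        (Submodule.span F (Set.range b')) := by
      rw [hspan', hrange2, Submodule.disjoint_def]
      intro u hu1 hu2
      rw [Submodule.mem_span_pair] at hu1
      obtain ⟨s, t, rfl⟩ := hu1
      rw [hmemW'] at hu2
      obtain ⟨_, h2, h3⟩ := hu2
      rw [map_add, map_smul, map_smul, hφv, hφxv, smul_zero, zero_add, smul_eq_mul, mul_one] at h2
      rw [map_add, map_smul, map_smul, hx v, map_add, map_smul, map_smul, map_smul, hφv, hφxv,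
        smul_zero, smul_zero, add_zero, smul_eq_mul, mul_one] at h3
      rw [h2, h3, zero_smul, zero_smul, add_zero]
    refine ⟨Fin 2 ⊕ ι', inferInstance, Sum.elim ![v, x v] b',
      Sum.map (fun k : Fin 2 => 1 - k) π', Sum.elim ![1, z] c', ?_, ?_, ?_, ?_, ?_⟩
    · exact LinearIndependent.sum_type hpair hli' hdisj
    · rw [Set.Sum.elim_range, Submodule.span_union, hspan', hrange2]
      apply le_antisymm
      · apply sup_le _ hW'le
        rw [Submodule.span_le]
        intro w hw
        rcases hw with h | h
        · rw [h]; exact hvW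
        · rw [Set.mem_singleton_iff] at h; rw [h]; exact hxvW
      · intro u hu
        have hdecomp : u = (φ (x u) • v + φ u • x v) + (u - φ (x u) • v - φ u • x v) := by abel
        rw [hdecomp]
        apply Submodule.add_mem_sup
        · rw [Submodule.mem_span_pair]
          exact ⟨_, _, rfl⟩
        · rw [hmemW']
          refine ⟨?_, ?_, ?_⟩
          · exact W.sub_mem (W.sub_mem hu (W.smul_mem _ hvW)) (W.smul_mem _ hxvW)
          · rw [map_sub, map_sub, map_smul, map_smul, hφv, hφxv, smul_zero, sub_zero, smul_eq_mul,
              mul_one, sub_self]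
          · rw [map_sub, map_sub, map_smul, map_smul, hx v, map_sub, map_sub, map_smul, map_smul,
              map_smul, hφv, hφxv, smul_zero, smul_zero, sub_zero, smul_eq_mul, mul_one, sub_self]
    · intro i
      rcases i with k | k
      · simp only [Sum.map_inl]
        congr 1
        fin_cases k <;> rfl
      · simp only [Sum.map_inr]
        rw [hπ' k]
    · intro i
      rcases i with k | k
      · fin_cases k
        · simp
        · simpa using hz
      · exact hc' k
    · intro i
      rcases i with k | k
      · fin_cases k
        · simp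
        · simp [hx v]
      · simp only [Sum.elim_inr, Sum.map_inr]
        exact hxb' k

/-- The version indexed by `Fin k` with a basis of the whole space. -/
theorem exists_monomial_basis (x : V →ₗ[F] V) (z : F) (hz : z ≠ 0) (hx : ∀ v, x (x v) = z • v) :
    ∃ (b : Module.Basis (Fin (Module.finrank F V)) F V)
      (π : Fin (Module.finrank F V) → Fin (Module.finrank F V))
      (c : Fin (Module.finrank F V) → F),
      Function.Involutive π ∧ (∀ i, c i ≠ 0) ∧ ∀ i, x (b i) = c i • b (π i) := by
  obtain ⟨ι, hι, b, π, c, hli, hspan, hπ, hc, hxb⟩ :=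
    exists_monomial_family x z hz hx _ ⊤ rfl (fun _ _ => Submodule.mem_top)
  let B : Module.Basis ι F V := Module.Basis.mk hli (by rw [hspan])
  have hB : ∀ i, B i = b i := fun i => by rw [Module.Basis.mk_apply]
  have hcard : Fintype.card ι = Module.finrank F V := (Module.finrank_eq_card_basis B).symm
  let e : ι ≃ Fin (Module.finrank F V) := Fintype.equivFinOfCardEq hcard
  refine ⟨B.reindex e, fun i => e (π (e.symm i)), fun i => c (e.symm i), ?_, ?_, ?_⟩
  · intro i
    simp only [Equiv.symm_apply_apply, hπ (e.symm i), Equiv.apply_symm_apply]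
  · intro i
    exact hc _
  · intro i
    rw [Module.Basis.reindex_apply, Module.Basis.reindex_apply, Equiv.symm_apply_apply, hB, hB]
    exact hxb _

end Cfsg.Agent.Helper8.MonoDecomp
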