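import Mathlib
set_option autoImplicit false

/-!
A monomial basis together with an invariant block system gives a direct sum decomposition whose
summands are permuted by the operator.
-/

namespace Cfsg.Agent.Helper8.MonoDecomp

variable {F : Type*} [Field F] {V : Type*} [AddCommGroup V] [Module F V]

theorem decomposition_of_monomial {k : ℕ} (b : Module.Basis (Fin k) F V) (x : V →ₗ[F] V)
    (π : Fin k → Fin k) (c : Fin k → F) (hπ : Function.Involutive π) (hc : ∀ i, c i ≠ 0)
    (hx : ∀ i, x (b i) = c i • b (π i)) {t a : ℕ} (β : Fin k → Fin t) (σ : Equiv.Perm (Fin t))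
    (hβ : ∀ j, (Finset.univ.filter (fun i => β i = j)).card = a)
    (hσ : ∀ i, β (π i) = σ (β i)) :
    (∀ j, Module.finrank F (Submodule.span F (b '' {i | β i = j})) = a) ∧
    iSupIndep (fun j => Submodule.span F (b '' {i | β i = j})) ∧
    (⨆ j, Submodule.span F (b '' {i | β i = j})) = ⊤ ∧
    ∀ j, (Submodule.span F (b '' {i | β i = j})).map x = Submodule.span F (b '' {i | β i = σ j}) := by
  refine ⟨?_, ?_, ?_, ?_⟩
  · intro j
    have h1 : b '' {i | β i = j} = Set.range (b ∘ (Subtype.val : {i // β i = j} → Fin k)) := by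
      rw [Set.image_eq_range]; rfl
    rw [h1, finrank_span_eq_card (b.linearIndependent.comp _ Subtype.val_injective),
      Fintype.card_subtype, hβ j]
  · rw [iSupIndep_def]
    intro j
    have h1 : (⨆ k, ⨆ (_ : k ≠ j), Submodule.span F (b '' {i | β i = k})) ≤
        Submodule.span F (b '' {i | β i ≠ j}) := by
      apply iSup_le; intro k; apply iSup_le; intro hk
      apply Submodule.span_mono
      apply Set.image_mono
      intro i hi
      rw [Set.mem_ofPred_eq] at hi ⊢
      rw [hi]; exact hk
    refine Disjoint.mono_right h1 ?_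
    apply b.linearIndependent.disjoint_span_image
    rw [Set.disjoint_left]
    intro i hi hi'
    exact hi' hi
  · rw [eq_top_iff, ← b.span_eq, Submodule.span_le]
    rintro _ ⟨i, rfl⟩
    apply Submodule.mem_iSup_of_mem (β i)
    apply Submodule.subset_span
    exact ⟨i, rfl, rfl⟩
  · intro j
    rw [Submodule.map_span]
    apply le_antisymm
    · rw [Submodule.span_le]
      rintro _ ⟨_, ⟨i, hi, rfl⟩, rfl⟩
      rw [hx i]
      apply Submodule.smul_mem
      apply Submodule.subset_span
      refine ⟨π i, ?_, rfl⟩
      rw [Set.mem_ofPred_eq] at hi ⊢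
      rw [hσ i, hi]
    · rw [Submodule.span_le]
      rintro _ ⟨i', hi', rfl⟩
      rw [Set.mem_ofPred_eq] at hi'
      have h1 : β (π i') = j := by
        apply σ.injective
        rw [← hσ (π i'), hπ i', hi']
      have h2 : b i' = (c (π i'))⁻¹ • x (b (π i')) := by
        rw [hx (π i'), hπ i', smul_smul, inv_mul_cancel₀ (hc _), one_smul]
      rw [h2]
      apply Submodule.smul_mem
      apply Submodule.subset_span
      exact ⟨b (π i'), ⟨π i', h1, rfl⟩, rfl⟩

end Cfsg.Agent.Helper8.MonoDecomp
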