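import Mathlib
import Cfsg.Agent.Lead.SylowLemmas

set_option autoImplicit false

/-!
Normal subgroups of exponent two in Sylow `2`-subgroups of `(H ≀ Sym m) × C`: the abstract
argument.
-/

namespace Cfsg.Agent.Helper8.NRk

/-- permuting the coordinates of a family. -/
def permAut (m : ℕ) (H : Type*) [Group H] : Equiv.Perm (Fin m) →* MulAut (Fin m → H) where
  toFun σ :=
    { toFun := fun A i => A (σ⁻¹ i)
      invFun := fun A i => A (σ i)
      left_inv := fun A => by funext i; simp
      right_inv := fun A => by funext i; simp
      map_mul' := fun _ _ => rfl }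
  map_one' := by
    ext A i
    rfl
  map_mul' σ τ := by
    ext A i
    change A ((σ * τ)⁻¹ i) = A (τ⁻¹ (σ⁻¹ i))
    rw [_root_.mul_inv_rev]
    rfl

theorem permAut_apply {m : ℕ} (H : Type*) [Group H] (σ : Equiv.Perm (Fin m)) (A : Fin m → H)
    (i : Fin m) : permAut m H σ A i = A (σ⁻¹ i) := rfl

/-- the wreath product `H ≀ Sym m`. -/
abbrev Wr (H : Type*) [Group H] (m : ℕ) : Type _ :=
  (Fin m → H) ⋊[permAut m H] Equiv.Perm (Fin m)

/-- the wreath product times a further factor. -/
abbrev WC (H : Type*) [Group H] (m : ℕ) (C : Type*) [Group C] : Type _ := Wr H m × C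

variable {H : Type*} [Group H] {m : ℕ} {C : Type*} [Group C]

/-- the permutation part. -/
def sig : WC H m C →* Equiv.Perm (Fin m) :=
  SemidirectProduct.rightHom.comp (MonoidHom.fst _ _)

theorem sig_apply (w : WC H m C) : sig w = w.1.right := rfl

/-- the `i`-th factor of the base group. -/
def iota (i : Fin m) : H →* WC H m C :=
  (MonoidHom.inl _ _).comp (SemidirectProduct.inl.comp (MonoidHom.mulSingle (fun _ : Fin m => H) i))

theorem iota_fst_left (i : Fin m) (h : H) :
    (iota (C := C) i h).1.left = Pi.mulSingle i h := rfl

theorem iota_fst_right (i : Fin m) (h : H) : (iota (C := C) i h).1.right = 1 := rfl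

theorem iota_snd (i : Fin m) (h : H) : (iota (C := C) i h).2 = 1 := rfl

theorem iota_injective (i : Fin m) : Function.Injective (iota (H := H) (C := C) i) := by
  intro a b hab
  have h1 := congrArg (fun w : WC H m C => w.1.left i) hab
  simpa [iota_fst_left] using h1

theorem sig_iota (i : Fin m) (h : H) : sig (iota (C := C) i h) = 1 := rfl

/-- conjugating a factor of the base group. -/
theorem conj_iota (w : WC H m C) (i : Fin m) (h : H) :
    w * iota i h * w⁻¹ =
      iota (sig w i) (w.1.left (sig w i) * h * (w.1.left (sig w i))⁻¹) := by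
  apply Prod.ext
  · apply SemidirectProduct.ext
    · funext j
      simp only [Prod.fst_mul, Prod.fst_inv, SemidirectProduct.mul_left,
        SemidirectProduct.mul_right, SemidirectProduct.inv_left,
        iota_fst_left, iota_fst_right, mul_one, Pi.mul_apply, permAut_apply, sig_apply]
      change w.1.left j * (Pi.mulSingle i h : Fin m → H) (w.1.right⁻¹ j) *
        (permAut m H w.1.right ((permAut m H w.1.right⁻¹) w.1.left⁻¹)) j = _
      have e1 : (permAut m H w.1.right ((permAut m H w.1.right⁻¹) w.1.left⁻¹)) j =
          (w.1.left j)⁻¹ := by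
        rw [permAut_apply, permAut_apply, inv_inv]
        have : w.1.right (w.1.right⁻¹ j) = j := by simp
        rw [this]
        rfl
      rw [e1]
      by_cases hj : j = w.1.right i
      · subst hj
        have : w.1.right⁻¹ (w.1.right i) = i := by simp
        rw [this, Pi.mulSingle_eq_same, Pi.mulSingle_eq_same]
      · have hj' : w.1.right⁻¹ j ≠ i := by
          intro h'
          apply hj
          rw [← h']
          simp
        rw [Pi.mulSingle_eq_of_ne hj', Pi.mulSingle_eq_of_ne hj, mul_one, mul_inv_cancel]
    · simp only [Prod.fst_mul, Prod.fst_inv, SemidirectProduct.mul_right,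
        SemidirectProduct.inv_right, iota_fst_right, mul_one, mul_inv_cancel]
  · simp only [Prod.snd_mul, Prod.snd_inv, iota_snd, mul_one, mul_inv_cancel]

/-- squares in the base group are computed coordinatewise. -/
theorem sq_left_of_sig_eq_one (w : WC H m C) (hw : sig w = 1) (i : Fin m) :
    (w ^ 2).1.left i = (w.1.left i) ^ 2 := by
  rw [sig_apply] at hw
  rw [pow_two, pow_two, Prod.fst_mul, SemidirectProduct.mul_left, hw, map_one]
  rfl

end Cfsg.Agent.Helper8.NRk
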