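import Mathlib
import Cfsg.Agent.Helper8.NRkA

set_option autoImplicit false

/-!
Normal subgroups of exponent two in Sylow `2`-subgroups of `(H ≀ Sym m) × C`: the Sylow
subgroup meets each factor of the base group in a Sylow subgroup.
-/

namespace Cfsg.Agent.Helper8.NRk

variable {H : Type*} [Group H] {m : ℕ} {C : Type*} [Group C]

instance finite_Wr [Finite H] : Finite (Wr H m) :=
  Finite.of_equiv _ SemidirectProduct.equivProd.symm

theorem range_iota_le_ker (i : Fin m) : (iota (H := H) (C := C) i).range ≤ (sig (H := H) (m := m) (C := C)).ker := by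
  rintro _ ⟨h, rfl⟩
  rw [MonoidHom.mem_ker]
  exact sig_iota i h

theorem ker_le_normalizer (i : Fin m) :
    (sig (H := H) (m := m) (C := C)).ker ≤
      Subgroup.normalizer ((iota (H := H) (C := C) i).range : Set (WC H m C)) := by
  intro w hw
  rw [MonoidHom.mem_ker] at hw
  have key : ∀ v : WC H m C, sig v = 1 → ∀ x ∈ (iota (H := H) (C := C) i).range,
      v * x * v⁻¹ ∈ (iota (H := H) (C := C) i).range := by
    rintro v hv _ ⟨h, rfl⟩
    rw [conj_iota, hv]
    exact ⟨_, rfl⟩
  rw [Subgroup.mem_normalizer_iff]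
  intro x
  constructor
  · exact key w hw x
  · intro hx
    have := key w⁻¹ (by rw [map_inv, hw, inv_one]) _ hx
    have e : w⁻¹ * (w * x * w⁻¹) * w⁻¹⁻¹ = x := by group
    rwa [e] at this

/-- a Sylow subgroup meets each factor of the base group in a Sylow subgroup. -/
theorem card_comap_iota [Finite H] [Finite C] (P : Sylow 2 (WC H m C)) (i : Fin m) :
    Nat.card ((P : Subgroup (WC H m C)).comap (iota i)) = 2 ^ (Nat.card H).factorization 2 := by
  have h2p : Fact (Nat.Prime 2) := ⟨Nat.prime_two⟩
  set K : Subgroup (WC H m C) := (sig (H := H) (m := m) (C := C)).ker with hK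
  have hKn : K.Normal := MonoidHom.normal_ker _
  have h1 : Nat.card ↥((P : Subgroup (WC H m C)) ⊓ K) = 2 ^ (Nat.card K).factorization 2 := by
    apply Cfsg.Agent.Lead.card_inf_eq_ppart_of_normal (N := ⊤) le_top le_top ?_ P.isPGroup'
    · rw [Subgroup.card_top]
      exact P.card_eq_multiplicity
    · rw [Subgroup.normalizer_eq_top]
  have h2 : Nat.card ↥(((P : Subgroup (WC H m C)) ⊓ K) ⊓ (iota (H := H) (C := C) i).range) =
      2 ^ (Nat.card (iota (H := H) (C := C) i).range).factorization 2 :=
    Cfsg.Agent.Lead.card_inf_eq_ppart_of_normal (N := K) inf_le_right (range_iota_le_ker i)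
      (ker_le_normalizer i) (P.isPGroup'.to_le inf_le_left) h1
  have h3 : ((P : Subgroup (WC H m C)) ⊓ K) ⊓ (iota (H := H) (C := C) i).range =
      (iota (H := H) (C := C) i).range ⊓ (P : Subgroup (WC H m C)) := by
    rw [inf_assoc, inf_eq_right.mpr (range_iota_le_ker i), inf_comm]
  have h4 : Nat.card (iota (H := H) (C := C) i).range = Nat.card H :=
    (Nat.card_congr (MonoidHom.ofInjective (iota_injective (H := H) (C := C) i)).toEquiv).symm
  rw [← Subgroup.card_map_of_injective (iota_injective (H := H) (C := C) i),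
    Subgroup.map_comap_eq, ← h3, h2, h4]

end Cfsg.Agent.Helper8.NRk
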