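import Mathlib
import Cfsg.Agent.Helper8.NRkB

set_option autoImplicit false

/-!
Normal subgroups of exponent two in Sylow `2`-subgroups of `(H ≀ Sym m) × C`: they lie in the
product of the "small" parts of the factors.
-/

namespace Cfsg.Agent.Helper8.NRk

variable {H : Type*} [Group H] {m : ℕ} {C : Type*} [Group C]

theorem mul_iota_left (x : WC H m C) (hx : sig x = 1) (i : Fin m) (b : H) :
    (x * iota i b).1.left i = x.1.left i * b := by
  rw [sig_apply] at hx
  rw [Prod.fst_mul, SemidirectProduct.mul_left, hx, map_one, iota_fst_left]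
  change x.1.left i * (Pi.mulSingle i b : Fin m → H) i = _
  rw [Pi.mulSingle_eq_same]

/-- the main step: a normal subgroup of exponent two of a Sylow `2`-subgroup lies in the base
group and has small coordinates. -/
theorem mem_of_normal [Finite H] [Finite C] (Z₀ : Set H)
    (h1 : ∀ Q : Subgroup H, IsPGroup 2 Q → Nat.card Q = 2 ^ (Nat.card H).factorization 2 →
      ∃ b ∈ Q, b ^ 2 ≠ 1)
    (h2 : ∀ Q A : Subgroup H, IsPGroup 2 Q → Nat.card Q = 2 ^ (Nat.card H).factorization 2 →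
      (∀ a ∈ A, a ^ 2 = 1) → (∀ b ∈ Q, ∀ a ∈ A, b * a * b⁻¹ ∈ A) →
      ∀ t : H, t ^ 2 = 1 → (∀ b ∈ Q, t * b * t⁻¹ * b⁻¹ ∈ A) → t ∈ Z₀)
    (P : Sylow 2 (WC H m C)) (E : Subgroup (WC H m C))
    (hnorm : ∀ x ∈ (P : Subgroup (WC H m C)), ∀ e ∈ E, x * e * x⁻¹ ∈ E)
    (hexp : ∀ e ∈ E, e ^ 2 = 1) (e : WC H m C) (he : e ∈ E) :
    sig e = 1 ∧ (∀ i, e.1.left i ∈ Z₀) ∧ e.2 ^ 2 = 1 := by
  have hQp : ∀ i : Fin m, IsPGroup 2 ((P : Subgroup (WC H m C)).comap (iota i)) := fun i =>
    P.isPGroup'.comap_of_injective _ (iota_injective i)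
  have hQc := fun i : Fin m => card_comap_iota P i
  -- commutators with elements of the Sylow subgroup stay in `E`
  have hcomm : ∀ (i : Fin m) (b : H), iota i b ∈ (P : Subgroup (WC H m C)) →
      e * iota i b * e⁻¹ * (iota i b)⁻¹ ∈ E := by
    intro i b hb
    have h3 := hnorm _ hb _ (E.inv_mem he)
    have h4 := E.mul_mem he h3
    have e1 : e * (iota i b * e⁻¹ * (iota i b)⁻¹) = e * iota i b * e⁻¹ * (iota i b)⁻¹ := by
      group
    rwa [e1] at h4
  have hσ : sig e = 1 := by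
    by_contra hne
    obtain ⟨i, hi⟩ : ∃ i, sig e i ≠ i := by
      by_contra hall
      push Not at hall
      exact hne (Equiv.ext hall)
    obtain ⟨b, hb, hb2⟩ := h1 _ (hQp i) (hQc i)
    have hc := hcomm i b hb
    rw [conj_iota, ← map_inv] at hc
    set b' := e.1.left (sig e i) * b * (e.1.left (sig e i))⁻¹ with hb'
    have hsig : sig (iota (C := C) (sig e i) b' * iota i b⁻¹) = 1 := by
      rw [map_mul, sig_iota, sig_iota, one_mul]
    have h5 := hexp _ hc
    have h6 := sq_left_of_sig_eq_one _ hsig i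
    rw [h5, mul_iota_left _ (sig_iota _ _) i, iota_fst_left, Pi.mulSingle_eq_of_ne (Ne.symm hi),
      one_mul] at h6
    apply hb2
    have h7 : (b⁻¹) ^ 2 = 1 := h6.symm
    rwa [inv_pow, inv_eq_one] at h7
  refine ⟨hσ, fun i => ?_, ?_⟩
  · apply h2 _ (E.comap (iota i)) (hQp i) (hQc i)
    · intro a ha
      apply iota_injective (C := C) i
      rw [map_pow, map_one]
      exact hexp _ ha
    · intro b hb a ha
      rw [Subgroup.mem_comap, map_mul, map_mul, map_inv]
      exact hnorm _ hb _ ha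
    · have h5 := sq_left_of_sig_eq_one e hσ i
      rw [hexp e he] at h5
      exact h5.symm
    · intro b hb
      have hc := hcomm i b hb
      rw [conj_iota, hσ, ← map_inv, Equiv.Perm.one_apply, ← map_mul] at hc
      exact hc
  · have h5 := hexp e he
    have h6 : (e ^ 2).2 = e.2 ^ 2 := rfl
    rw [← h6, h5]
    rfl

/-- the resulting bound on the order. -/
theorem card_le_of_normal [Finite H] [Finite C] (Z₀ : Set H)
    (h1 : ∀ Q : Subgroup H, IsPGroup 2 Q → Nat.card Q = 2 ^ (Nat.card H).factorization 2 →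
      ∃ b ∈ Q, b ^ 2 ≠ 1)
    (h2 : ∀ Q A : Subgroup H, IsPGroup 2 Q → Nat.card Q = 2 ^ (Nat.card H).factorization 2 →
      (∀ a ∈ A, a ^ 2 = 1) → (∀ b ∈ Q, ∀ a ∈ A, b * a * b⁻¹ ∈ A) →
      ∀ t : H, t ^ 2 = 1 → (∀ b ∈ Q, t * b * t⁻¹ * b⁻¹ ∈ A) → t ∈ Z₀)
    (P : Sylow 2 (WC H m C)) (E : Subgroup (WC H m C))
    (hnorm : ∀ x ∈ (P : Subgroup (WC H m C)), ∀ e ∈ E, x * e * x⁻¹ ∈ E)
    (hexp : ∀ e ∈ E, e ^ 2 = 1) :
    Nat.card E ≤ Nat.card Z₀ ^ m * Nat.card {c : C // c ^ 2 = 1} := by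
  have key := mem_of_normal Z₀ h1 h2 P E hnorm hexp
  let f : E → (Fin m → Z₀) × {c : C // c ^ 2 = 1} := fun e =>
    (fun i => ⟨e.1.1.left i, (key e.1 e.2).2.1 i⟩, ⟨e.1.2, (key e.1 e.2).2.2⟩)
  have hf : Function.Injective f := by
    intro a b hab
    have h3 := congrArg Prod.fst hab
    have h4 := congrArg Prod.snd hab
    apply Subtype.ext
    apply Prod.ext
    · apply SemidirectProduct.ext
      · funext i
        exact congrArg Subtype.val (congrFun h3 i)
      · have ha := (key a.1 a.2).1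
        have hb := (key b.1 b.2).1
        rw [sig_apply] at ha hb
        rw [ha, hb]
    · exact congrArg Subtype.val h4
  have := Nat.card_le_card_of_injective f hf
  rwa [Nat.card_prod, Nat.card_fun, Nat.card_eq_fintype_card (α := Fin m), Fintype.card_fin]
    at this

end Cfsg.Agent.Helper8.NRk
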