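import Mathlib
import Cfsg.Prelude.Def_Transfer

set_option autoImplicit false

/-!
Transfer of statements about normal subgroups of exponent two of Sylow `2`-subgroups along an
embedding of odd index.
-/

namespace Cfsg.Agent.Helper8.NRk

theorem comm_of_sq_eq_one {G : Type*} [Group G] {a b : G} (ha : a ^ 2 = 1) (hb : b ^ 2 = 1)
    (hab : (a * b) ^ 2 = 1) : a * b = b * a := by
  have h1 : a⁻¹ = a := by
    rw [inv_eq_iff_mul_eq_one, ← pow_two, ha]
  have h2 : b⁻¹ = b := by
    rw [inv_eq_iff_mul_eq_one, ← pow_two, hb]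
  have h3 : (a * b)⁻¹ = a * b := by
    rw [inv_eq_iff_mul_eq_one, ← pow_two, hab]
  rw [← h3, _root_.mul_inv_rev, h1, h2]

variable {G W : Type*} [Group G] [Finite G] [Group W] [Finite W]

/-- the Sylow `2`-subgroups of a subgroup of odd index are those of the group. -/
theorem exists_mulEquiv_sylow (ψ : W →* G) (hψ : Function.Injective ψ)
    (hval : (Nat.card W).factorization 2 = (Nat.card G).factorization 2)
    (P : Sylow 2 W) (S : Sylow 2 G) :
    Nonempty (↥(P : Subgroup W) ≃* ↥(S : Subgroup G)) := by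
  have h2p : Fact (Nat.Prime 2) := ⟨Nat.prime_two⟩
  have hT : Nat.card ((P : Subgroup W).map ψ) = 2 ^ (Nat.card G).factorization 2 := by
    rw [Subgroup.card_map_of_injective hψ, Sylow.card_eq_multiplicity, hval]
  have e1 : ↥(P : Subgroup W) ≃* ↥((P : Subgroup W).map ψ) :=
    Subgroup.equivMapOfInjective _ ψ hψ
  have e2 : ↥((Sylow.ofCard _ hT : Sylow 2 G) : Subgroup G) ≃* ↥(S : Subgroup G) :=
    Sylow.equiv _ S
  rw [Sylow.coe_ofCard] at e2
  exact ⟨e1.trans e2⟩

/-- transfer of an upper bound. -/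
theorem upper_transfer (ψ : W →* G) (hψ : Function.Injective ψ)
    (hval : (Nat.card W).factorization 2 = (Nat.card G).factorization 2) (K : ℕ)
    (hup : ∀ P : Sylow 2 W, ∀ E : Subgroup W,
      (∀ x ∈ (P : Subgroup W), ∀ e ∈ E, x * e * x⁻¹ ∈ E) → (∀ e ∈ E, e ^ 2 = 1) →
      Nat.card E ≤ K)
    (S : Sylow 2 G) (E : Subgroup ↥(S : Subgroup G)) (hE : E.Normal)
    (hEl : Cfsg.IsElementaryAbelian 2 E) : Nat.card E ≤ K := by
  have h2p : Fact (Nat.Prime 2) := ⟨Nat.prime_two⟩
  obtain ⟨P⟩ : Nonempty (Sylow 2 W) := inferInstance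
  obtain ⟨e⟩ := exists_mulEquiv_sylow ψ hψ hval P S
  set E₁ : Subgroup ↥(P : Subgroup W) := E.comap e.toMonoidHom with hE₁
  set E₂ : Subgroup W := E₁.map (P : Subgroup W).subtype with hE₂
  have hc1 : Nat.card E₂ = Nat.card E₁ :=
    Subgroup.card_map_of_injective (Subgroup.subtype_injective _)
  have hc2 : Nat.card E₁ = Nat.card E := by
    have : E₁.map e.toMonoidHom = E := Subgroup.map_comap_eq_self_of_surjective e.surjective E
    rw [← this]
    exact (Subgroup.card_map_of_injective e.injective).symm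
  rw [← hc2, ← hc1]
  apply hup P E₂
  · rintro x hx _ ⟨y, hy, rfl⟩
    refine ⟨⟨x, hx⟩ * y * ⟨x, hx⟩⁻¹, ?_, rfl⟩
    rw [hE₁, SetLike.mem_coe, Subgroup.mem_comap, map_mul, map_mul, map_inv]
    exact hE.conj_mem _ hy _
  · rintro _ ⟨y, hy, rfl⟩
    rw [← map_pow]
    have : y ^ 2 = 1 := by
      apply e.injective
      rw [map_pow, map_one]
      exact hEl.2 _ hy
    rw [this, map_one]

/-- transfer of a normal subgroup of exponent two. -/
theorem lower_transfer (ψ : W →* G) (hψ : Function.Injective ψ)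
    (hval : (Nat.card W).factorization 2 = (Nat.card G).factorization 2)
    (E0 : Subgroup W) (hn : E0.Normal) (hexp : ∀ e ∈ E0, e ^ 2 = 1) (S : Sylow 2 G) :
    ∃ E : Subgroup ↥(S : Subgroup G), E.Normal ∧ Cfsg.IsElementaryAbelian 2 E ∧
      Nat.card E = Nat.card E0 := by
  have h2p : Fact (Nat.Prime 2) := ⟨Nat.prime_two⟩
  obtain ⟨P⟩ : Nonempty (Sylow 2 W) := inferInstance
  obtain ⟨e⟩ := exists_mulEquiv_sylow ψ hψ hval P S
  have hpg : IsPGroup 2 E0 := by
    intro y
    refine ⟨1, ?_⟩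
    apply Subtype.ext
    rw [pow_one]
    exact hexp _ y.2
  have hle : E0 ≤ (P : Subgroup W) := IsPGroup.le_sylow_of_normal hpg P
  set ET : Subgroup ↥(P : Subgroup W) := E0.subgroupOf (P : Subgroup W) with hET
  have hETn : ET.Normal := by
    refine ⟨fun y hy t => ?_⟩
    rw [hET, Subgroup.mem_subgroupOf] at hy ⊢
    exact hn.conj_mem _ hy _
  have hETcard : Nat.card ET = Nat.card E0 :=
    Nat.card_congr (Subgroup.subgroupOfEquivOfLe hle).toEquiv
  refine ⟨ET.map e.toMonoidHom, hETn.map e.toMonoidHom e.surjective, ⟨?_, ?_⟩, ?_⟩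
  · refine ⟨⟨?_⟩⟩
    rintro ⟨_, a, ha, rfl⟩ ⟨_, b, hb, rfl⟩
    apply Subtype.ext
    change e.toMonoidHom a * e.toMonoidHom b = e.toMonoidHom b * e.toMonoidHom a
    rw [← map_mul, ← map_mul]
    congr 1
    apply Subtype.ext
    rw [hET, SetLike.mem_coe, Subgroup.mem_subgroupOf] at ha hb
    exact comm_of_sq_eq_one (hexp _ ha) (hexp _ hb) (hexp _ (E0.mul_mem ha hb))
  · rintro _ ⟨a, ha, rfl⟩
    rw [← map_pow]
    have : a ^ 2 = 1 := by
      apply Subtype.ext
      exact hexp _ (Subgroup.mem_subgroupOf.mp ha)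
    rw [this, map_one]
  · rw [Subgroup.card_map_of_injective e.injective, hETcard]

end Cfsg.Agent.Helper8.NRk
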