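import Mathlib
import Cfsg.Agent.Helper8.NRkA

set_option autoImplicit false

/-!
The block monomial embedding of `(GL_k ≀ Sym m) × (Fˣ)^r` into `GL_{km+r}`.
-/

namespace Cfsg.Agent.Helper8.NRk

open Matrix

variable {F : Type*} [Field F] {k m r : ℕ}

/-- the block monomial matrix. -/
def bm (A : Fin m → Matrix (Fin k) (Fin k) F) (σ : Equiv.Perm (Fin m)) :
    Matrix (Fin k × Fin m) (Fin k × Fin m) F :=
  Matrix.of fun p q => if p.2 = σ q.2 then A p.2 p.1 q.1 else 0

theorem bm_apply (A : Fin m → Matrix (Fin k) (Fin k) F) (σ : Equiv.Perm (Fin m))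
    (p q : Fin k × Fin m) : bm A σ p q = if p.2 = σ q.2 then A p.2 p.1 q.1 else 0 := rfl

theorem bm_mul (A A' : Fin m → Matrix (Fin k) (Fin k) F) (σ σ' : Equiv.Perm (Fin m)) :
    bm A σ * bm A' σ' = bm (fun i => A i * A' (σ⁻¹ i)) (σ * σ') := by
  ext ⟨a, i⟩ ⟨b, j⟩
  rw [Matrix.mul_apply, Fintype.sum_prod_type, bm_apply]
  simp only [bm_apply]
  have h1 : ∀ c : Fin k, (∑ l : Fin m, (if i = σ l then A i a c else 0) *
      (if l = σ' j then A' l c b else 0)) =
      if i = σ (σ' j) then A i a c * A' (σ' j) c b else 0 := by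
    intro c
    rw [Finset.sum_eq_single (σ' j)]
    · rw [if_pos rfl]
      split_ifs <;> simp
    · intro l _ hl
      rw [if_neg hl, mul_zero]
    · intro h
      exact absurd (Finset.mem_univ _) h
  simp only [h1]
  rw [Equiv.Perm.mul_apply]
  by_cases h : i = σ (σ' j)
  · rw [if_pos h, Matrix.mul_apply]
    have : σ⁻¹ i = σ' j := by
      rw [h]
      simp
    rw [this]
    simp only [if_pos h]
  · simp only [if_neg h, Finset.sum_const_zero]

theorem bm_one : bm (fun _ : Fin m => (1 : Matrix (Fin k) (Fin k) F)) 1 = 1 := by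
  ext ⟨a, i⟩ ⟨b, j⟩
  rw [bm_apply, Equiv.Perm.one_apply]
  by_cases h : i = j
  · subst h
    rw [if_pos rfl]
    by_cases hab : a = b
    · subst hab
      rw [one_apply_eq, one_apply_eq]
    · rw [one_apply_ne hab, one_apply_ne]
      intro h'
      exact hab (congrArg Prod.fst h')
  · rw [if_neg h, one_apply_ne]
    intro h'
    exact h (congrArg Prod.snd h')

/-- the wreath product as block monomial matrices. -/
def phi0 (F : Type*) [Field F] (k m : ℕ) :
    Wr (GL (Fin k) F) m →* Matrix (Fin k × Fin m) (Fin k × Fin m) F where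
  toFun x := bm (fun i => ((x.left i : GL (Fin k) F) : Matrix (Fin k) (Fin k) F)) x.right
  map_one' := by
    have : (fun i => (((1 : Wr (GL (Fin k) F) m).left i : GL (Fin k) F) :
        Matrix (Fin k) (Fin k) F)) = fun _ => 1 := by
      funext i
      rfl
    rw [this]
    exact bm_one
  map_mul' x y := by
    rw [bm_mul]
    rfl

theorem phi0_apply (x : Wr (GL (Fin k) F) m) :
    phi0 F k m x = bm (fun i => ((x.left i : GL (Fin k) F) : Matrix (Fin k) (Fin k) F)) x.right :=
  rfl

/-- the full group as block matrices. -/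
def psi0 (F : Type*) [Field F] (k m r : ℕ) :
    WC (GL (Fin k) F) m (Fin r → Fˣ) →*
      Matrix ((Fin k × Fin m) ⊕ Fin r) ((Fin k × Fin m) ⊕ Fin r) F where
  toFun w := fromBlocks (phi0 F k m w.1) 0 0 (diagonal fun j => ((w.2 j : Fˣ) : F))
  map_one' := by
    rw [Prod.fst_one, map_one]
    have : (diagonal fun j => (((1 : WC (GL (Fin k) F) m (Fin r → Fˣ)).2 j : Fˣ) : F)) =
        (1 : Matrix (Fin r) (Fin r) F) := by
      rw [← diagonal_one]
      rfl
    rw [this, fromBlocks_one]
  map_mul' w w' := by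
    rw [fromBlocks_multiply, Prod.fst_mul, map_mul]
    simp only [Matrix.zero_mul, Matrix.mul_zero, add_zero, zero_add, diagonal_mul_diagonal]
    rfl

theorem psi0_apply (w : WC (GL (Fin k) F) m (Fin r → Fˣ)) :
    psi0 F k m r w = fromBlocks (phi0 F k m w.1) 0 0 (diagonal fun j => ((w.2 j : Fˣ) : F)) :=
  rfl

/-- the embedding into the general linear group. -/
def psi (F : Type*) [Field F] (k m r : ℕ) :
    WC (GL (Fin k) F) m (Fin r → Fˣ) →* GL ((Fin k × Fin m) ⊕ Fin r) F :=
  (psi0 F k m r).toHomUnits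

theorem psi_coe (w : WC (GL (Fin k) F) m (Fin r → Fˣ)) :
    ((psi F k m r w : GL ((Fin k × Fin m) ⊕ Fin r) F) :
      Matrix ((Fin k × Fin m) ⊕ Fin r) ((Fin k × Fin m) ⊕ Fin r) F) = psi0 F k m r w := rfl

theorem psi_injective (hk : 0 < k) : Function.Injective (psi F k m r) := by
  rw [injective_iff_map_eq_one]
  intro w hw
  have h1 : psi0 F k m r w = 1 := by
    rw [← psi_coe, hw]
    rfl
  rw [psi0_apply, ← fromBlocks_one, fromBlocks_inj] at h1
  obtain ⟨h2, -, -, h3⟩ := h1
  rw [phi0_apply] at h2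
  have hσ : w.1.right = 1 := by
    apply Equiv.ext
    intro j
    by_contra hne
    have h4 := congrFun (congrFun h2 (⟨0, hk⟩, j)) (⟨0, hk⟩, j)
    rw [bm_apply, one_apply_eq, if_neg] at h4
    · exact zero_ne_one h4
    · intro h5
      apply hne
      rw [Equiv.Perm.one_apply]
      exact h5.symm
  apply Prod.ext
  · apply SemidirectProduct.ext
    · funext i
      apply Units.ext
      ext a b
      have h4 := congrFun (congrFun h2 (a, i)) (b, i)
      rw [bm_apply, hσ, Equiv.Perm.one_apply, if_pos rfl] at h4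
      change ((w.1.left i : GL (Fin k) F) : Matrix (Fin k) (Fin k) F) a b =
        (1 : Matrix (Fin k) (Fin k) F) a b
      rw [h4]
      by_cases hab : a = b
      · subst hab
        rw [one_apply_eq, one_apply_eq]
      · rw [one_apply_ne hab, one_apply_ne]
        intro h'
        exact hab (congrArg Prod.fst h')
    · exact hσ
  · funext j
    apply Units.ext
    have h4 := congrFun (congrFun h3 j) j
    rw [diagonal_apply_eq, one_apply_eq] at h4
    exact h4

end Cfsg.Agent.Helper8.NRk
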