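import Mathlib

set_option autoImplicit false

/-!
The `2`-part of the order of `GL_n(q)`, `q` odd.
-/

namespace Cfsg.Agent.Helper8.NRk

/-- lifting the exponent for `q^(2j) - 1`. -/
theorem val_pow_even {q : ℕ} (hq : Odd q) (hq1 : 1 < q) (j : ℕ) (hj : j ≠ 0) :
    padicValNat 2 (q ^ (2 * j) - 1) = padicValNat 2 (q ^ 2 - 1) + padicValNat 2 j := by
  have h2 : Fact (Nat.Prime 2) := ⟨Nat.prime_two⟩
  have hnd : ¬ 2 ∣ q := by
    intro h
    exact (Nat.not_even_iff_odd.mpr hq) (even_iff_two_dvd.mpr h)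
  have hd : 2 ∣ q - 1 := by
    obtain ⟨k, hk⟩ := hq
    exact ⟨k, by omega⟩
  have e1 := padicValNat.pow_two_sub_pow (x := q) (y := 1) hq1 hd hnd (n := 2 * j)
    (by omega) (even_two_mul j)
  have e2 := padicValNat.pow_two_sub_pow (x := q) (y := 1) hq1 hd hnd (n := 2)
    (by norm_num) even_two
  rw [one_pow] at e1 e2
  have e3 : padicValNat 2 (2 * j) = 1 + padicValNat 2 j := by
    rw [padicValNat.mul (by norm_num) hj, padicValNat.self (by norm_num)]
  have e4 : padicValNat 2 2 = 1 := padicValNat.self (by norm_num)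
  omega

theorem pow_sub_one_ne_zero {q : ℕ} (hq1 : 1 < q) (j : ℕ) (hj : j ≠ 0) : q ^ j - 1 ≠ 0 := by
  have : 1 < q ^ j := Nat.one_lt_pow hj hq1
  omega

theorem geom_eq {q : ℕ} (hq1 : 1 ≤ q) (j : ℕ) :
    (q - 1) * (∑ i ∈ Finset.range j, q ^ i) + 1 = q ^ j := by
  induction j with
  | zero => simp
  | succ j ih =>
    rw [Finset.sum_range_succ, mul_add, pow_succ]
    have : (q - 1) * q ^ j + q ^ j = q ^ j * q := by
      obtain ⟨t, rfl⟩ : ∃ t, q = t + 1 := ⟨q - 1, by omega⟩
      rw [Nat.add_sub_cancel]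
      ring
    omega

theorem odd_geom {q : ℕ} (hq : Odd q) (i : ℕ) :
    Odd (∑ l ∈ Finset.range (2 * i + 1), q ^ l) := by
  induction i with
  | zero => simp
  | succ i ih =>
    have e : 2 * (i + 1) + 1 = (2 * i + 1) + 1 + 1 := by ring
    rw [e, Finset.sum_range_succ, Finset.sum_range_succ, add_assoc]
    exact ih.add_even ((hq.pow).add_odd hq.pow)

/-- the odd exponents. -/
theorem val_pow_odd {q : ℕ} (hq : Odd q) (hq1 : 1 < q) (i : ℕ) :
    padicValNat 2 (q ^ (2 * i + 1) - 1) = padicValNat 2 (q - 1) := by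
  have h2 : Fact (Nat.Prime 2) := ⟨Nat.prime_two⟩
  have h1 := geom_eq (q := q) (by omega) (2 * i + 1)
  have h3 : q ^ (2 * i + 1) - 1 = (q - 1) * ∑ l ∈ Finset.range (2 * i + 1), q ^ l := by omega
  have hodd := odd_geom hq i
  have hne : (∑ l ∈ Finset.range (2 * i + 1), q ^ l) ≠ 0 := by
    intro h0
    rw [h0] at hodd
    exact (Nat.not_odd_iff_even.mpr ⟨0, rfl⟩) hodd
  rw [h3, padicValNat.mul (by omega) hne]
  have : padicValNat 2 (∑ l ∈ Finset.range (2 * i + 1), q ^ l) = 0 := by
    apply padicValNat.eq_zero_of_not_dvd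
    intro h
    exact (Nat.not_even_iff_odd.mpr hodd) (even_iff_two_dvd.mpr h)
  rw [this, add_zero]

/-- the `2`-adic valuation of a product. -/
theorem val_prod_range (f : ℕ → ℕ) (n : ℕ) (hf : ∀ i < n, f i ≠ 0) :
    padicValNat 2 (∏ i ∈ Finset.range n, f i) = ∑ i ∈ Finset.range n, padicValNat 2 (f i) := by
  have h2 : Fact (Nat.Prime 2) := ⟨Nat.prime_two⟩
  induction n with
  | zero => simp
  | succ n ih =>
    have hne : ∏ i ∈ Finset.range n, f i ≠ 0 := by
      rw [Finset.prod_ne_zero_iff]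
      intro i hi
      exact hf i (by rw [Finset.mem_range] at hi; omega)
    rw [Finset.prod_range_succ, Finset.sum_range_succ, padicValNat.mul hne (hf n (by omega)),
      ih (fun i hi => hf i (by omega))]

/-- the `2`-part of the order formula of `GL_n(q)`. -/
theorem val_GL_formula {q : ℕ} (hq : Odd q) (hq1 : 1 < q) (n : ℕ) :
    padicValNat 2 (∏ i : Fin n, (q ^ n - q ^ (i : ℕ))) =
      ∑ j ∈ Finset.range n, padicValNat 2 (q ^ (j + 1) - 1) := by
  have h2 : Fact (Nat.Prime 2) := ⟨Nat.prime_two⟩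
  have hnd : ¬ 2 ∣ q := by
    intro h
    exact (Nat.not_even_iff_odd.mpr hq) (even_iff_two_dvd.mpr h)
  rw [Fin.prod_univ_eq_prod_range (fun i => q ^ n - q ^ i) n, val_prod_range]
  · rw [← Finset.sum_range_reflect]
    apply Finset.sum_congr rfl
    intro j hj
    rw [Finset.mem_range] at hj
    have e : q ^ n - q ^ (n - 1 - j) = q ^ (n - 1 - j) * (q ^ (j + 1) - 1) := by
      rw [Nat.mul_sub, mul_one, ← pow_add]
      congr 2
      omega
    rw [e, padicValNat.mul (by positivity) (pow_sub_one_ne_zero hq1 _ (by omega)),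
      padicValNat.pow, padicValNat.eq_zero_of_not_dvd hnd, mul_zero, zero_add]
  · intro i hi
    have : q ^ i < q ^ n := Nat.pow_lt_pow_right hq1 hi
    omega

/-- the case `q ≡ 1 (mod 4)`. -/
theorem val_GL_one_mod_four {q : ℕ} (hq4 : q % 4 = 1) (hq1 : 1 < q) (n : ℕ) :
    ∑ j ∈ Finset.range n, padicValNat 2 (q ^ (j + 1) - 1) =
      n * padicValNat 2 (q - 1) + padicValNat 2 n.factorial := by
  have h2 : Fact (Nat.Prime 2) := ⟨Nat.prime_two⟩
  have hq : Odd q := by
    rw [Nat.odd_iff]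
    omega
  have hstep : ∀ j : ℕ, padicValNat 2 (q ^ (j + 1) - 1) =
      padicValNat 2 (q - 1) + padicValNat 2 (j + 1) := by
    intro j
    rcases Nat.even_or_odd' j with ⟨i, hi | hi⟩
    · -- `j + 1` is odd
      rw [hi, val_pow_odd hq hq1]
      have : padicValNat 2 (2 * i + 1) = 0 := by
        apply padicValNat.eq_zero_of_not_dvd
        omega
      rw [this, add_zero]
    · -- `j + 1 = 2 (i + 1)`
      have e : j + 1 = 2 * (i + 1) := by omega
      rw [e, val_pow_even hq hq1 (i + 1) (by omega),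
        padicValNat.mul (by norm_num) (by omega), padicValNat.self (by norm_num)]
      have e2 : q ^ 2 - 1 = (q - 1) * (q + 1) := by
        have : q ^ 2 = (q - 1) * (q + 1) + 1 := by
          obtain ⟨t, rfl⟩ : ∃ t, q = t + 1 := ⟨q - 1, by omega⟩
          rw [Nat.add_sub_cancel]
          ring
        omega
      have e3 : padicValNat 2 (q + 1) = 1 := by
        have e4 : q + 1 = 2 * ((q + 1) / 2) := by omega
        rw [e4, padicValNat.mul (by norm_num) (by omega), padicValNat.self (by norm_num)]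
        have : padicValNat 2 ((q + 1) / 2) = 0 := by
          apply padicValNat.eq_zero_of_not_dvd
          omega
        rw [this]
      rw [e2, padicValNat.mul (by omega) (by omega), e3]
      ring
  induction n with
  | zero => simp
  | succ n ih =>
    rw [Finset.sum_range_succ, ih, hstep, Nat.factorial_succ,
      padicValNat.mul (by omega) (Nat.factorial_ne_zero n)]
    ring

/-- the case `q ≡ 3 (mod 4)`, even degree. -/
theorem val_GL_three_mod_four_even {q : ℕ} (hq4 : q % 4 = 3) (m : ℕ) :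
    ∑ j ∈ Finset.range (2 * m), padicValNat 2 (q ^ (j + 1) - 1) =
      m * (1 + padicValNat 2 (q ^ 2 - 1)) + padicValNat 2 m.factorial := by
  have h2 : Fact (Nat.Prime 2) := ⟨Nat.prime_two⟩
  have hq : Odd q := by
    rw [Nat.odd_iff]
    omega
  have hq1 : 1 < q := by omega
  have h1 : padicValNat 2 (q - 1) = 1 := by
    have e4 : q - 1 = 2 * ((q - 1) / 2) := by omega
    rw [e4, padicValNat.mul (by norm_num) (by omega), padicValNat.self (by norm_num)]
    have : padicValNat 2 ((q - 1) / 2) = 0 := by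
      apply padicValNat.eq_zero_of_not_dvd
      omega
    rw [this]
  induction m with
  | zero => simp
  | succ m ih =>
    have e : 2 * (m + 1) = 2 * m + 1 + 1 := by ring
    rw [e, Finset.sum_range_succ, Finset.sum_range_succ, ih, val_pow_odd hq hq1, h1]
    have e2 : 2 * m + 1 + 1 = 2 * (m + 1) := by ring
    rw [e2, val_pow_even hq hq1 (m + 1) (by omega), Nat.factorial_succ,
      padicValNat.mul (by omega) (Nat.factorial_ne_zero m)]
    ring

/-- the case `q ≡ 3 (mod 4)`, odd degree. -/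
theorem val_GL_three_mod_four_odd {q : ℕ} (hq4 : q % 4 = 3) (m : ℕ) :
    ∑ j ∈ Finset.range (2 * m + 1), padicValNat 2 (q ^ (j + 1) - 1) =
      m * (1 + padicValNat 2 (q ^ 2 - 1)) + padicValNat 2 m.factorial + 1 := by
  have hq : Odd q := by
    rw [Nat.odd_iff]
    omega
  have hq1 : 1 < q := by omega
  have h2 : Fact (Nat.Prime 2) := ⟨Nat.prime_two⟩
  have h1 : padicValNat 2 (q - 1) = 1 := by
    have e4 : q - 1 = 2 * ((q - 1) / 2) := by omega
    rw [e4, padicValNat.mul (by norm_num) (by omega), padicValNat.self (by norm_num)]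
    have : padicValNat 2 ((q - 1) / 2) = 0 := by
      apply padicValNat.eq_zero_of_not_dvd
      omega
    rw [this]
  rw [Finset.sum_range_succ, val_GL_three_mod_four_even hq4, val_pow_odd hq hq1, h1]

/-- `8` divides `q² - 1` for odd `q`. -/
theorem three_le_val_sq {q : ℕ} (hq : Odd q) (hq1 : 1 < q) : 3 ≤ padicValNat 2 (q ^ 2 - 1) := by
  have h2 : Fact (Nat.Prime 2) := ⟨Nat.prime_two⟩
  have hne : q ^ 2 - 1 ≠ 0 := pow_sub_one_ne_zero hq1 2 (by norm_num)
  have hdvd : 2 ^ 3 ∣ q ^ 2 - 1 := by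
    obtain ⟨k, rfl⟩ := hq
    have e : (2 * k + 1) ^ 2 - 1 = 4 * (k * (k + 1)) := by
      have : (2 * k + 1) ^ 2 = 4 * (k * (k + 1)) + 1 := by ring
      omega
    rw [e]
    have h3 : 2 ∣ k * (k + 1) := (Nat.even_mul_succ_self k).two_dvd
    obtain ⟨c, hc⟩ := h3
    rw [hc]
    exact ⟨c, by ring⟩
  exact (padicValNat_dvd_iff_le hne).mp hdvd

end Cfsg.Agent.Helper8.NRk
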