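import Mathlib
import Cfsg.Agent.Helper8.NRkB
import Cfsg.Agent.Helper8.NRkE
import Cfsg.Agent.Helper8.NRkF

set_option autoImplicit false

/-!
The block monomial subgroups of `GL_n(q)` have odd index.
-/

namespace Cfsg.Agent.Helper8.NRk

open Matrix

variable {F : Type*} [Field F] {k m r : ℕ}

/-- reindexing to `Fin n`. -/
noncomputable def reidx (F : Type*) [Field F] {ι : Type*} [Fintype ι] [DecidableEq ι] {n : ℕ}
    (h : Fintype.card ι = n) : GL ι F ≃* GL (Fin n) F :=
  Units.mapEquiv ((Matrix.reindexAlgEquiv F F (Fintype.equivFinOfCardEq h)).toMulEquiv)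

theorem card_index (k m r : ℕ) : Fintype.card ((Fin k × Fin m) ⊕ Fin r) = k * m + r := by
  rw [Fintype.card_sum, Fintype.card_prod, Fintype.card_fin, Fintype.card_fin, Fintype.card_fin]

/-- the embedding into `GL_n`. -/
noncomputable def psiN (F : Type*) [Field F] (k m r : ℕ) {n : ℕ} (h : k * m + r = n) :
    WC (GL (Fin k) F) m (Fin r → Fˣ) →* GL (Fin n) F :=
  (reidx F ((card_index k m r).trans h)).toMonoidHom.comp (psi F k m r)

theorem psiN_injective (hk : 0 < k) {n : ℕ} (h : k * m + r = n) :
    Function.Injective (psiN F k m r h) := by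
  unfold psiN
  exact (reidx F ((card_index k m r).trans h)).injective.comp (psi_injective hk)

variable [Fintype F]

theorem card_WC :
    Nat.card (WC (GL (Fin k) F) m (Fin r → Fˣ)) =
      Nat.card (GL (Fin k) F) ^ m * m.factorial * (Fintype.card F - 1) ^ r := by
  rw [Nat.card_prod, SemidirectProduct.card, Nat.card_fun, Nat.card_fun, Nat.card_perm,
    Nat.card_eq_fintype_card (α := Fin m), Nat.card_eq_fintype_card (α := Fin r),
    Fintype.card_fin, Fintype.card_fin, Nat.card_units, Nat.card_eq_fintype_card (α := F)]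

theorem val_card_GL (hodd : Odd (Fintype.card F)) (n : ℕ) :
    padicValNat 2 (Nat.card (GL (Fin n) F)) =
      ∑ j ∈ Finset.range n, padicValNat 2 (Fintype.card F ^ (j + 1) - 1) := by
  rw [Matrix.card_GL_field, val_GL_formula hodd Fintype.one_lt_card]

theorem card_GL_ne_zero (n : ℕ) : Nat.card (GL (Fin n) F) ≠ 0 := Nat.card_pos.ne'

/-- the monomial group has odd index when `q ≡ 1 (mod 4)`. -/
theorem val_eq_one_mod_four (hq4 : Fintype.card F % 4 = 1) (n : ℕ) :
    (Nat.card (WC (GL (Fin 1) F) n (Fin 0 → Fˣ))).factorization 2 =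
      (Nat.card (GL (Fin n) F)).factorization 2 := by
  have h2 : Fact (Nat.Prime 2) := ⟨Nat.prime_two⟩
  have hodd : Odd (Fintype.card F) := by
    rw [Nat.odd_iff]
    omega
  have hq1 : 1 < Fintype.card F := Fintype.one_lt_card
  rw [Nat.factorization_def _ Nat.prime_two, Nat.factorization_def _ Nat.prime_two, card_WC,
    pow_zero, mul_one, padicValNat.mul (pow_ne_zero _ (card_GL_ne_zero 1))
      (Nat.factorial_ne_zero n), padicValNat.pow, val_card_GL hodd,
    val_card_GL hodd, val_GL_one_mod_four hq4 hq1, val_GL_one_mod_four hq4 hq1]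
  simp

/-- the block monomial group has odd index when `q ≡ 3 (mod 4)`. -/
theorem val_eq_three_mod_four (hq4 : Fintype.card F % 4 = 3) (n : ℕ) :
    (Nat.card (WC (GL (Fin 2) F) (n / 2) (Fin (n % 2) → Fˣ))).factorization 2 =
      (Nat.card (GL (Fin n) F)).factorization 2 := by
  have h2 : Fact (Nat.Prime 2) := ⟨Nat.prime_two⟩
  have hodd : Odd (Fintype.card F) := by
    rw [Nat.odd_iff]
    omega
  have hq1 : 1 < Fintype.card F := Fintype.one_lt_card
  have h1 : padicValNat 2 (Fintype.card F - 1) = 1 := by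
    have e4 : Fintype.card F - 1 = 2 * ((Fintype.card F - 1) / 2) := by omega
    rw [e4, padicValNat.mul (by norm_num) (by omega), padicValNat.self (by norm_num)]
    have : padicValNat 2 ((Fintype.card F - 1) / 2) = 0 := by
      apply padicValNat.eq_zero_of_not_dvd
      omega
    rw [this]
  have hG2 : padicValNat 2 (Nat.card (GL (Fin 2) F)) =
      1 + padicValNat 2 (Fintype.card F ^ 2 - 1) := by
    have := val_GL_three_mod_four_even hq4 1
    rw [val_card_GL hodd, this]
    simp
  rw [Nat.factorization_def _ Nat.prime_two, Nat.factorization_def _ Nat.prime_two, card_WC,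
    padicValNat.mul (mul_ne_zero (pow_ne_zero _ (card_GL_ne_zero 2)) (Nat.factorial_ne_zero _))
      (pow_ne_zero _ (by omega)),
    padicValNat.mul (pow_ne_zero _ (card_GL_ne_zero 2)) (Nat.factorial_ne_zero _),
    padicValNat.pow, padicValNat.pow, hG2, h1,
    val_card_GL hodd]
  rcases Nat.mod_two_eq_zero_or_one n with h | h
  · have e : n = 2 * (n / 2) := by omega
    rw [h]
    conv_rhs => rw [e]
    rw [val_GL_three_mod_four_even hq4]
    ring
  · have e : n = 2 * (n / 2) + 1 := by omega
    rw [h]
    conv_rhs => rw [e]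
    rw [val_GL_three_mod_four_odd hq4]
    try ring

end Cfsg.Agent.Helper8.NRk
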