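import Mathlib

set_option autoImplicit false

/-!
The centraliser of a non-scalar involution of `GL₂(q)`, `q ≡ 3 (mod 4)`: its `2`-elements.
-/

namespace Cfsg.Agent.Helper8.NRk

open Matrix

variable {F : Type*} [Field F]

theorem ext2 {R : Type*} {x y : Matrix (Fin 2) (Fin 2) R} (h00 : x 0 0 = y 0 0)
    (h01 : x 0 1 = y 0 1) (h10 : x 1 0 = y 1 0) (h11 : x 1 1 = y 1 1) : x = y := by
  ext i j
  fin_cases i <;> fin_cases j
  · exact h00
  · exact h01
  · exact h10
  · exact h11

theorem lin_apply (α β : F) (s : Matrix (Fin 2) (Fin 2) F) (i j : Fin 2) :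
    (α • (1 : Matrix (Fin 2) (Fin 2) F) + β • s) i j =
      α * (1 : Matrix (Fin 2) (Fin 2) F) i j + β * s i j := by
  rw [Matrix.add_apply, Matrix.smul_apply, Matrix.smul_apply, smul_eq_mul, smul_eq_mul]

/-- the commutant of a non-scalar `2 × 2` matrix. -/
theorem comm_decomp {s x : Matrix (Fin 2) (Fin 2) F}
    (hns : s 0 1 ≠ 0 ∨ s 1 0 ≠ 0 ∨ s 0 0 ≠ s 1 1) (hc : x * s = s * x) :
    ∃ α β : F, x = α • (1 : Matrix (Fin 2) (Fin 2) F) + β • s := by
  have e00 := congrFun (congrFun hc 0) 0
  have e01 := congrFun (congrFun hc 0) 1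
  have e10 := congrFun (congrFun hc 1) 0
  simp only [Matrix.mul_apply, Fin.sum_univ_two] at e00 e01 e10
  have o01 : (1 : Matrix (Fin 2) (Fin 2) F) 0 1 = 0 := one_apply_ne (by decide)
  have o10 : (1 : Matrix (Fin 2) (Fin 2) F) 1 0 = 0 := one_apply_ne (by decide)
  have o00 : (1 : Matrix (Fin 2) (Fin 2) F) 0 0 = 1 := one_apply_eq 0
  have o11 : (1 : Matrix (Fin 2) (Fin 2) F) 1 1 = 1 := one_apply_eq 1
  by_cases h : s 0 1 = 0
  swap
  · refine ⟨x 0 0 - x 0 1 / s 0 1 * s 0 0, x 0 1 / s 0 1, ?_⟩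
    refine ext2 ?_ ?_ ?_ ?_ <;> rw [lin_apply] <;> simp only [o00, o01, o10, o11]
    · ring
    · field_simp
      ring
    · field_simp
      linear_combination (-1 : F) * e00
    · field_simp
      linear_combination (-1 : F) * e01
  by_cases h10 : s 1 0 = 0
  swap
  · refine ⟨x 0 0 - x 1 0 / s 1 0 * s 0 0, x 1 0 / s 1 0, ?_⟩
    refine ext2 ?_ ?_ ?_ ?_ <;> rw [lin_apply] <;> simp only [o00, o01, o10, o11]
    · ring
    · field_simp
      linear_combination e00
    · field_simp
      ring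
    · field_simp
      linear_combination e10
  have hd : s 0 0 ≠ s 1 1 := by
    rcases hns with h3 | h3 | h3
    · exact absurd h h3
    · exact absurd h10 h3
    · exact h3
  have h' : s 0 0 - s 1 1 ≠ 0 := sub_ne_zero.mpr hd
  rw [h] at e01
  rw [h10] at e10
  have hx01 : x 0 1 = 0 := by
    have : x 0 1 * (s 0 0 - s 1 1) = 0 := by linear_combination (-1 : F) * e01
    rcases mul_eq_zero.mp this with h3 | h3
    · exact h3
    · exact absurd h3 h'
  have hx10 : x 1 0 = 0 := by
    have : x 1 0 * (s 0 0 - s 1 1) = 0 := by linear_combination e10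
    rcases mul_eq_zero.mp this with h3 | h3
    · exact h3
    · exact absurd h3 h'
  refine ⟨x 0 0 - (x 0 0 - x 1 1) / (s 0 0 - s 1 1) * s 0 0,
    (x 0 0 - x 1 1) / (s 0 0 - s 1 1), ?_⟩
  refine ext2 ?_ ?_ ?_ ?_ <;> rw [lin_apply] <;> simp only [o00, o01, o10, o11]
  · ring
  · rw [hx01, h]
    ring
  · rw [hx10, h10]
    ring
  · field_simp
    ring

/-- an involution other than `±1` is not scalar. -/
theorem nonscalar_of_invol {s : Matrix (Fin 2) (Fin 2) F} (hs : s * s = 1) (h1 : s ≠ 1)
    (hm1 : s ≠ -1) : s 0 1 ≠ 0 ∨ s 1 0 ≠ 0 ∨ s 0 0 ≠ s 1 1 := by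
  by_contra hcon
  push Not at hcon
  obtain ⟨ha, hb, hc⟩ := hcon
  have e00 := congrFun (congrFun hs 0) 0
  simp only [Matrix.mul_apply, Fin.sum_univ_two] at e00
  rw [ha, zero_mul, add_zero, one_apply_eq] at e00
  have h3 : (s 0 0 - 1) * (s 0 0 + 1) = 0 := by linear_combination e00
  rcases mul_eq_zero.mp h3 with h4 | h4
  · apply h1
    have h5 : s 0 0 = 1 := by linear_combination h4
    apply ext2
    · rw [h5, one_apply_eq]
    · rw [ha, one_apply_ne (by decide)]
    · rw [hb, one_apply_ne (by decide)]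
    · rw [← hc, h5, one_apply_eq]
  · apply hm1
    have h5 : s 0 0 = -1 := by linear_combination h4
    apply ext2 <;> rw [Matrix.neg_apply]
    · rw [h5, one_apply_eq]
    · rw [ha, one_apply_ne (by decide), neg_zero]
    · rw [hb, one_apply_ne (by decide), neg_zero]
    · rw [← hc, h5, one_apply_eq]

/-- `1` and a non-scalar matrix are linearly independent. -/
theorem indep {s : Matrix (Fin 2) (Fin 2) F}
    (hns : s 0 1 ≠ 0 ∨ s 1 0 ≠ 0 ∨ s 0 0 ≠ s 1 1) {a b a' b' : F}
    (h : a • (1 : Matrix (Fin 2) (Fin 2) F) + b • s = a' • (1 : Matrix (Fin 2) (Fin 2) F) + b' • s) :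
    a = a' ∧ b = b' := by
  have e00 := congrFun (congrFun h 0) 0
  have e01 := congrFun (congrFun h 0) 1
  have e10 := congrFun (congrFun h 1) 0
  have e11 := congrFun (congrFun h 1) 1
  rw [lin_apply, lin_apply] at e00 e01 e10 e11
  rw [one_apply_eq] at e00 e11
  rw [one_apply_ne (by decide)] at e01 e10
  have hb : b = b' := by
    rcases hns with h3 | h3 | h3
    · have : (b - b') * s 0 1 = 0 := by linear_combination e01
      rcases mul_eq_zero.mp this with h4 | h4
      · linear_combination h4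
      · exact absurd h4 h3
    · have : (b - b') * s 1 0 = 0 := by linear_combination e10
      rcases mul_eq_zero.mp this with h4 | h4
      · linear_combination h4
      · exact absurd h4 h3
    · have : (b - b') * (s 0 0 - s 1 1) = 0 := by linear_combination e00 - e11
      rcases mul_eq_zero.mp this with h4 | h4
      · linear_combination h4
      · exact absurd h4 (sub_ne_zero.mpr h3)
  refine ⟨?_, hb⟩
  rw [hb] at e00
  linear_combination e00

/-- multiplication in the commutant of an involution. -/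
theorem rep_mul {s : Matrix (Fin 2) (Fin 2) F} (hs : s * s = 1) (a b a' b' : F) :
    (a • (1 : Matrix (Fin 2) (Fin 2) F) + b • s) * (a' • (1 : Matrix (Fin 2) (Fin 2) F) + b' • s) =
      (a * a' + b * b') • (1 : Matrix (Fin 2) (Fin 2) F) + (a * b' + b * a') • s := by
  simp only [add_mul, mul_add, smul_mul_assoc, mul_smul_comm, one_mul, mul_one, smul_smul, hs]
  module

/-- powers in the commutant of an involution. -/
theorem pow_rep {s : Matrix (Fin 2) (Fin 2) F} (hs : s * s = 1) {h : F} (hh : 2 * h = 1)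
    (u v : F) (n : ℕ) :
    (((u + v) * h) • (1 : Matrix (Fin 2) (Fin 2) F) + ((u - v) * h) • s) ^ n =
      ((u ^ n + v ^ n) * h) • (1 : Matrix (Fin 2) (Fin 2) F) + ((u ^ n - v ^ n) * h) • s := by
  induction n with
  | zero =>
    rw [pow_zero, pow_zero, pow_zero, sub_self, zero_mul, zero_smul, add_zero]
    have : ((1 : F) + 1) * h = 1 := by linear_combination hh
    rw [this, one_smul]
  | succ n ih =>
    rw [pow_succ, ih, rep_mul hs]
    congr 2
    · linear_combination ((u ^ n * u + v ^ n * v) * h) * hh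
    · linear_combination ((u ^ n * u - v ^ n * v) * h) * hh

/-- `2`-power roots of unity in a field with `q ≡ 3 (mod 4)` elements. -/
theorem root_cases [Fintype F] (hq4 : Fintype.card F % 4 = 3) {u : F} {j : ℕ}
    (hu : u ^ (2 ^ j) = 1) : u = 1 ∨ u = -1 := by
  classical
  have hu0 : u ≠ 0 := by
    rintro rfl
    rw [zero_pow (by positivity)] at hu
    exact zero_ne_one hu
  set U : Fˣ := Units.mk0 u hu0 with hU
  have h1 : U ^ (2 ^ j) = 1 := by
    apply Units.ext
    rw [Units.val_pow_eq_pow_val, Units.val_mk0, hu]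
    rfl
  have h2 : orderOf U ∣ 2 ^ j := orderOf_dvd_of_pow_eq_one h1
  have h3 : orderOf U ∣ Fintype.card F - 1 := by
    rw [← Fintype.card_units]
    exact orderOf_dvd_card
  obtain ⟨i, -, hi⟩ := (Nat.dvd_prime_pow Nat.prime_two).mp h2
  have hi1 : i ≤ 1 := by
    by_contra hcon
    push Not at hcon
    have h4 : 2 ^ 2 ∣ orderOf U := by
      rw [hi]
      exact pow_dvd_pow 2 hcon
    have h5 := h4.trans h3
    omega
  have h6 : U ^ 2 = 1 := by
    apply orderOf_dvd_iff_pow_eq_one.mp
    rw [hi]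
    exact pow_dvd_pow 2 hi1
  have h7 : u ^ 2 = 1 := by
    have := congrArg Units.val h6
    rwa [Units.val_pow_eq_pow_val, Units.val_mk0, Units.val_one] at this
  have h8 : (u - 1) * (u + 1) = 0 := by linear_combination h7
  rcases mul_eq_zero.mp h8 with h9 | h9
  · left
    linear_combination h9
  · right
    linear_combination h9

/-- the `2`-elements commuting with a non-scalar involution. -/
theorem two_elt_cases [Fintype F] (hq4 : Fintype.card F % 4 = 3) (h2 : (2 : F) ≠ 0)
    {s x : Matrix (Fin 2) (Fin 2) F} (hs : s * s = 1) (h1 : s ≠ 1) (hm1 : s ≠ -1)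
    (hc : x * s = s * x) {j : ℕ} (hx : x ^ (2 ^ j) = 1) :
    x = 1 ∨ x = -1 ∨ x = s ∨ x = -s := by
  have hns := nonscalar_of_invol hs h1 hm1
  obtain ⟨α, β, rfl⟩ := comm_decomp hns hc
  set h : F := 2⁻¹ with hh'
  have hh : 2 * h = 1 := mul_inv_cancel₀ h2
  obtain ⟨u, v, rfl, rfl⟩ : ∃ u v : F, α = (u + v) * h ∧ β = (u - v) * h :=
    ⟨α + β, α - β, by linear_combination (-α) * hh, by linear_combination (-β) * hh⟩
  rw [pow_rep hs hh] at hx
  have h3 : ((u ^ 2 ^ j + v ^ 2 ^ j) * h) • (1 : Matrix (Fin 2) (Fin 2) F) +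
      ((u ^ 2 ^ j - v ^ 2 ^ j) * h) • s =
      (1 : F) • (1 : Matrix (Fin 2) (Fin 2) F) + (0 : F) • s := by
    rw [hx, one_smul, zero_smul, add_zero]
  obtain ⟨h4, h5⟩ := indep hns h3
  have hu : u ^ 2 ^ j = 1 := by
    linear_combination h4 + h5 - (u ^ 2 ^ j) * hh
  have hv : v ^ 2 ^ j = 1 := by
    linear_combination h4 - h5 - (v ^ 2 ^ j) * hh
  rcases root_cases hq4 hu with rfl | rfl <;> rcases root_cases hq4 hv with rfl | rfl
  · left
    have e1 : ((1 : F) + 1) * h = 1 := by linear_combination hh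
    rw [e1, sub_self, zero_mul, zero_smul, add_zero, one_smul]
  · right; right; left
    have e1 : ((1 : F) + -1) * h = 0 := by ring
    have e2 : ((1 : F) - -1) * h = 1 := by linear_combination hh
    rw [e1, e2, zero_smul, zero_add, one_smul]
  · right; right; right
    have e1 : ((-1 : F) + 1) * h = 0 := by ring
    have e2 : ((-1 : F) - 1) * h = -1 := by linear_combination (-1 : F) * hh
    rw [e1, e2, zero_smul, zero_add, neg_smul, one_smul]
  · right; left
    have e1 : ((-1 : F) + -1) * h = -1 := by linear_combination (-1 : F) * hh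
    have e2 : ((-1 : F) - -1) * h = 0 := by ring
    rw [e1, e2, zero_smul, add_zero, neg_smul, one_smul]

end Cfsg.Agent.Helper8.NRk
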