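import Mathlib
import Cfsg.Agent.Helper8.NRkD
import Cfsg.Agent.Helper8.NRkH

set_option autoImplicit false

/-!
Sylow `2`-subgroups of `GL₂(q)`, `q ≡ 3 (mod 4)`, and of `GL₁(q)`: the facts needed for the
wreath product argument.
-/

namespace Cfsg.Agent.Helper8.NRk

open Matrix

variable {F : Type*} [Field F] [Fintype F]

omit [Fintype F] in
theorem comm_of_conj {s b : GL (Fin 2) F} (hc : b * s * b⁻¹ = s) :
    (b : Matrix (Fin 2) (Fin 2) F) * (s : Matrix (Fin 2) (Fin 2) F) =
      (s : Matrix (Fin 2) (Fin 2) F) * (b : Matrix (Fin 2) (Fin 2) F) := by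
  rw [mul_inv_eq_iff_eq_mul] at hc
  rw [← Units.val_mul, ← Units.val_mul, hc]

/-- the `2`-elements centralising a non-scalar involution. -/
theorem mem_four (hq4 : Fintype.card F % 4 = 3) (h2 : (2 : F) ≠ 0) {s b : GL (Fin 2) F}
    (hs : s * s = 1) (h1 : s ≠ 1) (hm1 : s ≠ -1) (hc : b * s * b⁻¹ = s) {j : ℕ}
    (hb : b ^ (2 ^ j) = 1) : b = 1 ∨ b = -1 ∨ b = s ∨ b = -s := by
  have hs' : (s : Matrix (Fin 2) (Fin 2) F) * (s : Matrix (Fin 2) (Fin 2) F) = 1 := by
    rw [← Units.val_mul, hs, Units.val_one]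
  have h1' : (s : Matrix (Fin 2) (Fin 2) F) ≠ 1 := fun h => h1 (Units.ext h)
  have hm1' : (s : Matrix (Fin 2) (Fin 2) F) ≠ -1 := fun h => hm1 (Units.ext h)
  have hb' : (b : Matrix (Fin 2) (Fin 2) F) ^ (2 ^ j) = 1 := by
    rw [← Units.val_pow_eq_pow_val, hb, Units.val_one]
  rcases two_elt_cases hq4 h2 hs' h1' hm1' (comm_of_conj hc) hb' with h | h | h | h
  · left; exact Units.ext h
  · right; left; exact Units.ext h
  · right; right; left; exact Units.ext h
  · right; right; right; exact Units.ext h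

/-- a `2`-subgroup normalising `{s, -s}` has order at most `8`. -/
theorem card_le_eight (hq4 : Fintype.card F % 4 = 3) (h2 : (2 : F) ≠ 0)
    (Q : Subgroup (GL (Fin 2) F)) (hQ : IsPGroup 2 Q) (s : GL (Fin 2) F) (hs : s * s = 1)
    (h1 : s ≠ 1) (hm1 : s ≠ -1) (hN : ∀ b ∈ Q, b * s * b⁻¹ = s ∨ b * s * b⁻¹ = -s) :
    Nat.card Q ≤ 8 := by
  classical
  set T : Finset (GL (Fin 2) F) := {1, -1, s, -s} with hT
  have hTc : T.card ≤ 4 := Finset.card_le_four
  have hmem : ∀ b ∈ Q, b * s * b⁻¹ = s → b ∈ T := by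
    intro b hb hc
    obtain ⟨j, hj⟩ := hQ ⟨b, hb⟩
    have hj' : b ^ (2 ^ j) = 1 := by
      have := congrArg Subtype.val hj
      rwa [Subgroup.coe_pow, Subgroup.coe_one] at this
    rw [hT]
    simp only [Finset.mem_insert, Finset.mem_singleton]
    exact mem_four hq4 h2 hs h1 hm1 hc hj'
  have hbound : ∀ T' : Finset (GL (Fin 2) F), (∀ b ∈ Q, b ∈ T') → Nat.card Q ≤ T'.card := by
    intro T' h
    have := Nat.card_le_card_of_injective (fun b : Q => (⟨b.1, h b.1 b.2⟩ : T'))
      (fun a b hab => Subtype.ext (by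
        have := congrArg Subtype.val hab
        exact this))
    rwa [Nat.card_eq_fintype_card (α := T'), Fintype.card_coe] at this
  by_cases hex : ∃ b₀ ∈ Q, b₀ * s * b₀⁻¹ = -s
  · obtain ⟨b₀, hb₀, hb₀s⟩ := hex
    have h3 : b₀⁻¹ * (-s) * b₀ = s := by
      rw [← hb₀s]
      group
    have key : ∀ b ∈ Q, b ∈ T ∪ T.image (fun c => b₀ * c) := by
      intro b hb
      rcases hN b hb with hc | hc
      · exact Finset.mem_union_left _ (hmem b hb hc)
      · apply Finset.mem_union_right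
        rw [Finset.mem_image]
        refine ⟨b₀⁻¹ * b, hmem _ (Q.mul_mem (Q.inv_mem hb₀) hb) ?_, by group⟩
        calc b₀⁻¹ * b * s * (b₀⁻¹ * b)⁻¹ = b₀⁻¹ * (b * s * b⁻¹) * b₀ := by group
          _ = s := by rw [hc, h3]
    have h4 := hbound _ key
    have h5 : (T ∪ T.image (fun c => b₀ * c)).card ≤ 4 + 4 :=
      (Finset.card_union_le _ _).trans (Nat.add_le_add hTc (Finset.card_image_le.trans hTc))
    omega
  · push Not at hex
    have key : ∀ b ∈ Q, b ∈ T := by
      intro b hb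
      rcases hN b hb with hc | hc
      · exact hmem b hb hc
      · exact absurd hc (hex b hb)
    have h4 := hbound _ key
    omega

/-- a large `2`-subgroup of `GL₂(q)` has an element of order at least `4`. -/
theorem exists_sq_ne_one_GL2 (hq4 : Fintype.card F % 4 = 3) (h2 : (2 : F) ≠ 0)
    (Q : Subgroup (GL (Fin 2) F)) (hQ : IsPGroup 2 Q) (hcard : 16 ≤ Nat.card Q) :
    ∃ b ∈ Q, b ^ 2 ≠ 1 := by
  classical
  by_contra hcon
  push Not at hcon
  by_cases hsc : ∀ b ∈ Q, b = 1 ∨ b = -1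
  · have := Nat.card_le_card_of_injective
      (fun b : Q => (⟨b.1, by
        rcases hsc b.1 b.2 with h | h
        · rw [h]; simp
        · rw [h]; simp⟩ : ({1, -1} : Finset (GL (Fin 2) F))))
      (fun a b hab => Subtype.ext (by
        have := congrArg Subtype.val hab
        exact this))
    rw [Nat.card_eq_fintype_card (α := ({1, -1} : Finset (GL (Fin 2) F))),
      Fintype.card_coe] at this
    have h3 : ({1, -1} : Finset (GL (Fin 2) F)).card ≤ 2 := Finset.card_le_two
    omega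
  · push Not at hsc
    obtain ⟨a, ha, ha1, ham1⟩ := hsc
    have haa : a * a = 1 := by
      rw [← pow_two]
      exact hcon a ha
    have h3 := card_le_eight hq4 h2 Q hQ a haa ha1 ham1 (fun b hb => by
      left
      have hcomm := comm_of_sq_eq_one (hcon b hb) (hcon a ha) (hcon _ (Q.mul_mem hb ha))
      rw [hcomm, mul_assoc, mul_inv_cancel, mul_one])
    omega

/-- the key property of the Sylow `2`-subgroups of `GL₂(q)`. -/
theorem mem_pm_one_GL2 (hq4 : Fintype.card F % 4 = 3) (h2 : (2 : F) ≠ 0)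
    (Q A : Subgroup (GL (Fin 2) F)) (hQ : IsPGroup 2 Q) (hcard : 16 ≤ Nat.card Q)
    (hA : ∀ a ∈ A, a ^ 2 = 1) (hnorm : ∀ b ∈ Q, ∀ a ∈ A, b * a * b⁻¹ ∈ A)
    (t : GL (Fin 2) F) (ht : t ^ 2 = 1) (hcomm : ∀ b ∈ Q, t * b * t⁻¹ * b⁻¹ ∈ A) :
    t ∈ ({1, -1} : Set (GL (Fin 2) F)) := by
  by_contra htn
  rw [Set.mem_insert_iff, Set.mem_singleton_iff] at htn
  push Not at htn
  obtain ⟨ht1, htm1⟩ := htn
  have htt : t * t = 1 := by rw [← pow_two, ht]
  have htinv : t⁻¹ = t := inv_eq_of_mul_eq_one_right htt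
  -- find a non-scalar involution normalised up to sign
  obtain ⟨s, hs, hs1, hsm1, hN⟩ : ∃ s : GL (Fin 2) F, s * s = 1 ∧ s ≠ 1 ∧ s ≠ -1 ∧
      ∀ b ∈ Q, b * s * b⁻¹ = s ∨ b * s * b⁻¹ = -s := by
    by_cases hsc : ∀ a ∈ A, a = 1 ∨ a = -1
    · refine ⟨t, htt, ht1, htm1, fun b hb => ?_⟩
      have e : b * t * b⁻¹ = t * (t * b * t⁻¹ * b⁻¹) := by
        rw [htinv]
        calc b * t * b⁻¹ = (t * t) * (b * t * b⁻¹) := by rw [htt, one_mul]
          _ = t * (t * b * t * b⁻¹) := by group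
      rcases hsc _ (hcomm b hb) with h | h
      · left
        rw [e, h, mul_one]
      · right
        rw [e, h, mul_neg, mul_one]
    · push Not at hsc
      obtain ⟨a, ha, ha1, ham1⟩ := hsc
      have haa : a * a = 1 := by
        rw [← pow_two]
        exact hA a ha
      refine ⟨a, haa, ha1, ham1, fun b hb => ?_⟩
      have hc := hnorm b hb a ha
      have hcc : (b * a * b⁻¹) * a * (b * a * b⁻¹)⁻¹ = a := by
        have := comm_of_sq_eq_one (hA _ hc) (hA a ha) (hA _ (A.mul_mem hc ha))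
        rw [this, mul_assoc, mul_inv_cancel, mul_one]
      have hpow : (b * a * b⁻¹) ^ (2 ^ 1) = 1 := by
        rw [pow_one]
        exact hA _ hc
      rcases mem_four hq4 h2 haa ha1 ham1 hcc hpow with h | h | h | h
      · exfalso
        apply ha1
        have : a = b⁻¹ * (b * a * b⁻¹) * b := by group
        rw [this, h]
        group
      · exfalso
        apply ham1
        have : a = b⁻¹ * (b * a * b⁻¹) * b := by group
        rw [this, h, mul_neg, mul_one, neg_mul, inv_mul_cancel]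
      · left; exact h
      · right; exact h
  have := card_le_eight hq4 h2 Q hQ s hs hs1 hsm1 hN
  omega

end Cfsg.Agent.Helper8.NRk
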