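import Mathlib
import Cfsg.Agent.Helper8.NRkA

set_option autoImplicit false

/-!
The central subgroup of exponent two of `(H ≀ Sym m) × C`.
-/

namespace Cfsg.Agent.Helper8.NRk

variable {H : Type*} [Group H] {m : ℕ} {C : Type*} [Group C]
variable {Z Z' : Type*} [Group Z] [Group Z']

/-- the product of central subgroups of the factors. -/
def e0 (m : ℕ) (ζ : Z →* H) (ζ' : Z' →* C) : (Fin m → Z) × Z' →* WC H m C :=
  MonoidHom.prodMap (SemidirectProduct.inl.comp (ζ.compLeft (Fin m))) ζ'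

theorem e0_fst_left (ζ : Z →* H) (ζ' : Z' →* C) (p : (Fin m → Z) × Z') (i : Fin m) :
    (e0 m ζ ζ' p).1.left i = ζ (p.1 i) := rfl

theorem e0_fst_right (ζ : Z →* H) (ζ' : Z' →* C) (p : (Fin m → Z) × Z') :
    (e0 m ζ ζ' p).1.right = 1 := rfl

theorem e0_snd (ζ : Z →* H) (ζ' : Z' →* C) (p : (Fin m → Z) × Z') :
    (e0 m ζ ζ' p).2 = ζ' p.2 := rfl

theorem e0_injective {ζ : Z →* H} {ζ' : Z' →* C} (hζ : Function.Injective ζ)
    (hζ' : Function.Injective ζ') : Function.Injective (e0 m ζ ζ') := by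
  intro p p' h
  apply Prod.ext
  · funext i
    apply hζ
    have := congrArg (fun w : WC H m C => w.1.left i) h
    exact this
  · apply hζ'
    exact congrArg (fun w : WC H m C => w.2) h

/-- conjugation permutes the coordinates. -/
theorem conj_e0 {ζ : Z →* H} {ζ' : Z' →* C} (hζ : ∀ z h, ζ z * h = h * ζ z)
    (hζ' : ∀ z c, ζ' z * c = c * ζ' z) (w : WC H m C) (p : (Fin m → Z) × Z') :
    w * e0 m ζ ζ' p * w⁻¹ = e0 m ζ ζ' (fun i => p.1 ((sig w)⁻¹ i), p.2) := by
  apply Prod.ext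
  · apply SemidirectProduct.ext
    · funext j
      rw [e0_fst_left]
      simp only [Prod.fst_mul, Prod.fst_inv, SemidirectProduct.mul_left,
        SemidirectProduct.mul_right, SemidirectProduct.inv_left,
        e0_fst_right, mul_one, Pi.mul_apply, permAut_apply, sig_apply]
      change w.1.left j * (e0 m ζ ζ' p).1.left (w.1.right⁻¹ j) *
        (permAut m H w.1.right ((permAut m H w.1.right⁻¹) w.1.left⁻¹)) j = _
      have e1 : (permAut m H w.1.right ((permAut m H w.1.right⁻¹) w.1.left⁻¹)) j =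
          (w.1.left j)⁻¹ := by
        rw [permAut_apply, permAut_apply, inv_inv]
        have : w.1.right (w.1.right⁻¹ j) = j := by simp
        rw [this]
        rfl
      rw [e1, e0_fst_left, ← hζ, mul_assoc, mul_inv_cancel, mul_one]
    · simp only [Prod.fst_mul, Prod.fst_inv, SemidirectProduct.mul_right,
        SemidirectProduct.inv_right, e0_fst_right, mul_one, mul_inv_cancel]
  · simp only [Prod.snd_mul, Prod.snd_inv, e0_snd]
    rw [← hζ', mul_assoc, mul_inv_cancel, mul_one]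

theorem range_e0_normal {ζ : Z →* H} {ζ' : Z' →* C} (hζ : ∀ z h, ζ z * h = h * ζ z)
    (hζ' : ∀ z c, ζ' z * c = c * ζ' z) : (e0 m ζ ζ').range.Normal := by
  refine ⟨fun y hy w => ?_⟩
  obtain ⟨p, rfl⟩ := hy
  rw [conj_e0 hζ hζ']
  exact ⟨_, rfl⟩

theorem range_e0_sq {ζ : Z →* H} {ζ' : Z' →* C} (hZ : ∀ z : Z, z ^ 2 = 1)
    (hZ' : ∀ z : Z', z ^ 2 = 1) : ∀ y ∈ (e0 m ζ ζ').range, y ^ 2 = 1 := by
  rintro _ ⟨p, rfl⟩
  rw [← map_pow]
  have : p ^ 2 = 1 := by
    apply Prod.ext
    · funext i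
      exact hZ (p.1 i)
    · exact hZ' p.2
  rw [this, map_one]

theorem card_range_e0 [Finite Z] {ζ : Z →* H} {ζ' : Z' →* C} (hζ : Function.Injective ζ)
    (hζ' : Function.Injective ζ') :
    Nat.card (e0 m ζ ζ').range = Nat.card Z ^ m * Nat.card Z' := by
  rw [← Nat.card_congr (MonoidHom.ofInjective (e0_injective (m := m) hζ hζ')).toEquiv,
    Nat.card_prod, Nat.card_fun, Nat.card_eq_fintype_card (α := Fin m), Fintype.card_fin]

end Cfsg.Agent.Helper8.NRk
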