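import Mathlib

set_option autoImplicit false

/-!
Sign matrices, and the `1 × 1` case.
-/

namespace Cfsg.Agent.Helper8.NRk

open Matrix

variable {F : Type*} [Field F]

/-- the signs as units of the field. -/
def sgnF (F : Type*) [Field F] : ℤˣ →* Fˣ := Units.map ((Int.castRingHom F : ℤ →+* F) : ℤ →* F)

theorem sgnF_injective (h2 : (2 : F) ≠ 0) : Function.Injective (sgnF F) := by
  rw [injective_iff_map_eq_one]
  intro ε hε
  rcases Int.units_eq_one_or ε with h | h
  · exact h
  · exfalso
    rw [h] at hε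
    have h3 := congrArg Units.val hε
    change ((Int.castRingHom F : ℤ →+* F) : ℤ →* F) ((-1 : ℤˣ) : ℤ) = ((1 : Fˣ) : F) at h3
    simp at h3
    apply h2
    linear_combination (-1 : F) * h3

/-- the signs as scalar matrices. -/
def sgnGL (F : Type*) [Field F] (k : ℕ) : ℤˣ →* GL (Fin k) F :=
  (Units.map ((Matrix.scalar (Fin k) : F →+* Matrix (Fin k) (Fin k) F) : F →* _)).comp (sgnF F)

theorem sgnGL_coe (k : ℕ) (ε : ℤˣ) :
    ((sgnGL F k ε : GL (Fin k) F) : Matrix (Fin k) (Fin k) F) =
      Matrix.scalar (Fin k) ((sgnF F ε : Fˣ) : F) := rfl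

theorem sgnGL_central (k : ℕ) (ε : ℤˣ) (g : GL (Fin k) F) : sgnGL F k ε * g = g * sgnGL F k ε := by
  apply Units.ext
  rw [Units.val_mul, Units.val_mul, sgnGL_coe]
  exact (Matrix.scalar_commute _ (fun _ => Commute.all _ _) _).eq

theorem sgnGL_injective (h2 : (2 : F) ≠ 0) {k : ℕ} (hk : 0 < k) :
    Function.Injective (sgnGL F k) := by
  intro a b hab
  apply sgnF_injective h2
  apply Units.ext
  have h3 := congrArg (fun g : GL (Fin k) F => (g : Matrix (Fin k) (Fin k) F) ⟨0, hk⟩ ⟨0, hk⟩) hab
  simp only [sgnGL_coe, Matrix.scalar_apply, Matrix.diagonal_apply_eq] at h3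
  exact h3

theorem sgnGL_neg_one (k : ℕ) : sgnGL F k (-1) = -1 := by
  apply Units.ext
  rw [sgnGL_coe, Units.val_neg, Units.val_one]
  have : ((sgnF F (-1) : Fˣ) : F) = -1 := by
    change ((Int.castRingHom F : ℤ →+* F) : ℤ →* F) ((-1 : ℤˣ) : ℤ) = -1
    simp
  rw [this, map_neg, map_one]

/-- involutions of `GL₁`. -/
theorem GL1_cases (t : GL (Fin 1) F) (ht : t ^ 2 = 1) : t = 1 ∨ t = -1 := by
  have h1 : (t : Matrix (Fin 1) (Fin 1) F) * (t : Matrix (Fin 1) (Fin 1) F) = 1 := by
    rw [← Units.val_mul, ← pow_two, ht, Units.val_one]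
  have h2 := congrFun (congrFun h1 0) 0
  rw [Matrix.mul_apply, Fin.sum_univ_one, one_apply_eq] at h2
  have h3 : ((t : Matrix (Fin 1) (Fin 1) F) 0 0 - 1) * ((t : Matrix (Fin 1) (Fin 1) F) 0 0 + 1) = 0 := by
    linear_combination h2
  rcases mul_eq_zero.mp h3 with h4 | h4
  · left
    apply Units.ext
    ext i j
    rw [Subsingleton.elim i 0, Subsingleton.elim j 0, Units.val_one, one_apply_eq]
    linear_combination h4
  · right
    apply Units.ext
    ext i j
    rw [Subsingleton.elim i 0, Subsingleton.elim j 0, Units.val_neg, Units.val_one,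
      Matrix.neg_apply, one_apply_eq]
    linear_combination h4

/-- the number of families of units of square one. -/
theorem card_sq_units_le [Finite F] (r : ℕ) :
    Nat.card {c : Fin r → Fˣ // c ^ 2 = 1} ≤ 2 ^ r := by
  classical
  have hcases : ∀ u : Fˣ, u ^ 2 = 1 → u = 1 ∨ u = -1 := by
    intro u hu
    have h1 : ((u : F) - 1) * ((u : F) + 1) = 0 := by
      have := congrArg Units.val hu
      rw [Units.val_pow_eq_pow_val, Units.val_one] at this
      linear_combination this
    rcases mul_eq_zero.mp h1 with h | h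
    · left
      apply Units.ext
      rw [Units.val_one]
      linear_combination h
    · right
      apply Units.ext
      rw [Units.val_neg, Units.val_one]
      linear_combination h
  let f : {c : Fin r → Fˣ // c ^ 2 = 1} → (Fin r → Bool) := fun c j => decide (c.1 j = 1)
  have hf : Function.Injective f := by
    intro c c' h
    apply Subtype.ext
    funext j
    have h1 := congrFun h j
    have hc : (c.1 j) ^ 2 = 1 := congrFun c.2 j
    have hc' : (c'.1 j) ^ 2 = 1 := congrFun c'.2 j
    simp only [f, decide_eq_decide] at h1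
    rcases hcases _ hc with h3 | h3
    · rw [h3, h1.mp h3]
    · rcases hcases _ hc' with h4 | h4
      · rw [h4, h1.mpr h4]
      · rw [h3, h4]
  have := Nat.card_le_card_of_injective f hf
  rwa [Nat.card_fun, Nat.card_eq_fintype_card (α := Fin r), Fintype.card_fin,
    Nat.card_eq_fintype_card (α := Bool), Fintype.card_bool] at this

theorem card_pm_one_le (k : ℕ) : Nat.card ({1, -1} : Set (GL (Fin k) F)) ≤ 2 := by
  classical
  have h := Set.ncard_insert_le (1 : GL (Fin k) F) ({-1} : Set (GL (Fin k) F))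
  rw [Set.ncard_singleton] at h
  rw [Nat.card_coe_set_eq]
  exact h

end Cfsg.Agent.Helper8.NRk
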