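import Mathlib
import Cfsg.Agent.Helper8.NRkC
import Cfsg.Agent.Helper8.NRkG
import Cfsg.Agent.Helper8.NRkI
import Cfsg.Agent.Helper8.NRkJ
import Cfsg.Agent.Helper8.NRkK
import Cfsg.Agent.Helper7.FiniteFieldBasics

set_option autoImplicit false

/-!
The normal `2`-rank of `GL_n(q)`, `q` odd.
-/

namespace Cfsg.Agent.Helper8.NRk

open Matrix

variable {F : Type*} [Field F] [Fintype F]

theorem sixteen_le (hq4 : Fintype.card F % 4 = 3) :
    16 ≤ 2 ^ (Nat.card (GL (Fin 2) F)).factorization 2 := by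
  have hodd : Odd (Fintype.card F) := by
    rw [Nat.odd_iff]
    omega
  have h1 := val_GL_three_mod_four_even hq4 1
  have h2 := three_le_val_sq hodd Fintype.one_lt_card
  have h3 : 4 ≤ (Nat.card (GL (Fin 2) F)).factorization 2 := by
    rw [Nat.factorization_def _ Nat.prime_two, val_card_GL hodd, h1]
    simp
    omega
  calc 16 = 2 ^ 4 := by norm_num
    _ ≤ _ := Nat.pow_le_pow_right (by norm_num) h3

theorem four_le (hq4 : Fintype.card F % 4 = 1) :
    4 ≤ 2 ^ (Nat.card (GL (Fin 1) F)).factorization 2 := by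
  have h2p : Fact (Nat.Prime 2) := ⟨Nat.prime_two⟩
  have hodd : Odd (Fintype.card F) := by
    rw [Nat.odd_iff]
    omega
  have hq1 : 1 < Fintype.card F := Fintype.one_lt_card
  have h3 : 2 ≤ (Nat.card (GL (Fin 1) F)).factorization 2 := by
    rw [Nat.factorization_def _ Nat.prime_two, val_card_GL hodd, Finset.sum_range_one, zero_add,
      pow_one]
    apply (padicValNat_dvd_iff_le (by omega)).mp
    omega
  calc 4 = 2 ^ 2 := by norm_num
    _ ≤ _ := Nat.pow_le_pow_right (by norm_num) h3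

/-- the general upper bound in the block monomial group. -/
theorem card_le_pow {k m r : ℕ}
    (h1 : ∀ Q : Subgroup (GL (Fin k) F), IsPGroup 2 Q →
      Nat.card Q = 2 ^ (Nat.card (GL (Fin k) F)).factorization 2 → ∃ b ∈ Q, b ^ 2 ≠ 1)
    (h2 : ∀ Q A : Subgroup (GL (Fin k) F), IsPGroup 2 Q →
      Nat.card Q = 2 ^ (Nat.card (GL (Fin k) F)).factorization 2 →
      (∀ a ∈ A, a ^ 2 = 1) → (∀ b ∈ Q, ∀ a ∈ A, b * a * b⁻¹ ∈ A) →
      ∀ t : GL (Fin k) F, t ^ 2 = 1 → (∀ b ∈ Q, t * b * t⁻¹ * b⁻¹ ∈ A) →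
        t ∈ ({1, -1} : Set (GL (Fin k) F)))
    (P : Sylow 2 (WC (GL (Fin k) F) m (Fin r → Fˣ)))
    (E : Subgroup (WC (GL (Fin k) F) m (Fin r → Fˣ)))
    (hnorm : ∀ x ∈ (P : Subgroup (WC (GL (Fin k) F) m (Fin r → Fˣ))), ∀ e ∈ E, x * e * x⁻¹ ∈ E)
    (hexp : ∀ e ∈ E, e ^ 2 = 1) : Nat.card E ≤ 2 ^ (m + r) := by
  have h3 := card_le_of_normal ({1, -1} : Set (GL (Fin k) F)) h1 h2 P E hnorm hexp
  have h4 := card_pm_one_le (F := F) k
  have h5 := card_sq_units_le (F := F) r
  calc Nat.card E ≤ _ := h3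
    _ ≤ 2 ^ m * 2 ^ r := Nat.mul_le_mul (Nat.pow_le_pow_left h4 m) h5
    _ = 2 ^ (m + r) := (pow_add 2 m r).symm

/-- the upper bound, `q ≡ 3 (mod 4)`. -/
theorem upper_three (hq4 : Fintype.card F % 4 = 3) (n : ℕ) (S : Sylow 2 (GL (Fin n) F))
    (E : Subgroup ↥(S : Subgroup (GL (Fin n) F))) (hE : E.Normal)
    (hEl : Cfsg.IsElementaryAbelian 2 E) : Nat.card E ≤ 2 ^ ((n + 1) / 2) := by
  have hodd : Odd (Fintype.card F) := by
    rw [Nat.odd_iff]
    omega
  have h2 : (2 : F) ≠ 0 := Cfsg.Agent.Helper7.two_ne_zero_of_odd_card hodd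
  have hn : 2 * (n / 2) + n % 2 = n := by omega
  apply upper_transfer (psiN F 2 (n / 2) (n % 2) hn) (psiN_injective (by norm_num) hn)
    (val_eq_three_mod_four hq4 n) _ _ S E hE hEl
  intro P E' hnorm hexp
  have e : (n + 1) / 2 = n / 2 + n % 2 := by omega
  rw [e]
  apply card_le_pow _ _ P E' hnorm hexp
  · intro Q hQ hc
    exact exists_sq_ne_one_GL2 hq4 h2 Q hQ (by rw [hc]; exact sixteen_le hq4)
  · intro Q A hQ hc hA hn' t ht hcomm
    exact mem_pm_one_GL2 hq4 h2 Q A hQ (by rw [hc]; exact sixteen_le hq4) hA hn' t ht hcomm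

/-- the upper bound, `q ≡ 1 (mod 4)`. -/
theorem upper_one (hq4 : Fintype.card F % 4 = 1) (n : ℕ) (S : Sylow 2 (GL (Fin n) F))
    (E : Subgroup ↥(S : Subgroup (GL (Fin n) F))) (hE : E.Normal)
    (hEl : Cfsg.IsElementaryAbelian 2 E) : Nat.card E ≤ 2 ^ n := by
  classical
  have hn : 1 * n + 0 = n := by omega
  apply upper_transfer (psiN F 1 n 0 hn) (psiN_injective (by norm_num) hn)
    (val_eq_one_mod_four hq4 n) _ _ S E hE hEl
  intro P E' hnorm hexp
  have e : n = n + 0 := by omega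
  conv_rhs => rw [e]
  apply card_le_pow _ _ P E' hnorm hexp
  · intro Q hQ hc
    by_contra hcon
    push Not at hcon
    have := Nat.card_le_card_of_injective
      (fun b : Q => (⟨b.1, by
        rcases GL1_cases b.1 (hcon b.1 b.2) with h | h
        · rw [h]; simp
        · rw [h]; simp⟩ : ({1, -1} : Finset (GL (Fin 1) F))))
      (fun a b hab => Subtype.ext (by
        have := congrArg Subtype.val hab
        exact this))
    rw [Nat.card_eq_fintype_card (α := ({1, -1} : Finset (GL (Fin 1) F))),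
      Fintype.card_coe, hc] at this
    have h3 : ({1, -1} : Finset (GL (Fin 1) F)).card ≤ 2 := Finset.card_le_two
    have h4 := four_le hq4
    omega
  · intro Q A _ _ _ _ t ht _
    rw [Set.mem_insert_iff, Set.mem_singleton_iff]
    exact GL1_cases t ht

/-- the normal subgroup of exponent two. -/
theorem lower_gen (h2 : (2 : F) ≠ 0) {k m r n : ℕ} (hk : 0 < k) (hn : k * m + r = n)
    (hval : (Nat.card (WC (GL (Fin k) F) m (Fin r → Fˣ))).factorization 2 =
      (Nat.card (GL (Fin n) F)).factorization 2) (S : Sylow 2 (GL (Fin n) F)) :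
    ∃ E : Subgroup ↥(S : Subgroup (GL (Fin n) F)), E.Normal ∧ Cfsg.IsElementaryAbelian 2 E ∧
      Nat.card E = 2 ^ (m + r) := by
  have hζc : ∀ (z : Fin r → ℤˣ) (c : Fin r → Fˣ),
      ((sgnF F).compLeft (Fin r)) z * c = c * ((sgnF F).compLeft (Fin r)) z :=
    fun z c => mul_comm _ _
  have hζ'inj : Function.Injective ((sgnF F).compLeft (Fin r)) :=
    (sgnF_injective h2).comp_left
  obtain ⟨E, hEn, hEl, hEc⟩ := lower_transfer (psiN F k m r hn) (psiN_injective hk hn) hval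
    (e0 m (sgnGL F k) ((sgnF F).compLeft (Fin r))).range
    (range_e0_normal (sgnGL_central k) hζc)
    (range_e0_sq Int.units_sq (fun z => by
      funext j
      exact Int.units_sq (z j))) S
  refine ⟨E, hEn, hEl, ?_⟩
  rw [hEc, card_range_e0 (sgnGL_injective h2 hk) hζ'inj, Nat.card_fun,
    Nat.card_eq_fintype_card (α := ℤˣ), Fintype.card_units_int,
    Nat.card_eq_fintype_card (α := Fin r), Fintype.card_fin, pow_add]

end Cfsg.Agent.Helper8.NRk
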