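import Mathlib

set_option autoImplicit false

namespace Cfsg.Agent.Helper8.NilCount

open Matrix

variable {F : Type*} [Field F]
variable {κ μ : Type*} [Fintype κ] [DecidableEq κ] [Fintype μ] [DecidableEq μ]

theorem eq_zero_of_nil_mul_eq_mul_unit (N₀ : Matrix κ κ F) (D : Matrix μ μ F) (X : Matrix κ μ F)
    (hN : IsNilpotent N₀) (hD : IsUnit D) (h : N₀ * X = X * D) : X = 0 := by
  obtain ⟨j, hj⟩ := hN
  have hpow : ∀ i : ℕ, N₀ ^ i * X = X * D ^ i := by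
    intro i
    induction i with
    | zero => simp
    | succ i ih =>
      rw [pow_succ', Matrix.mul_assoc, ih, ← Matrix.mul_assoc, h, Matrix.mul_assoc, ← pow_succ']
  have h1 := hpow j
  rw [hj, Matrix.zero_mul] at h1
  obtain ⟨u, hu⟩ := hD.pow j
  have h2 : X * D ^ j * (↑u⁻¹ : Matrix μ μ F) = 0 := by rw [← h1, Matrix.zero_mul]
  rw [Matrix.mul_assoc, ← hu, Units.mul_inv, Matrix.mul_one] at h2
  exact h2

theorem eq_zero_of_unit_mul_eq_mul_nil (D₀ : Matrix μ μ F) (N : Matrix κ κ F) (Y : Matrix μ κ F)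
    (hN : IsNilpotent N) (hD : IsUnit D₀) (h : D₀ * Y = Y * N) : Y = 0 := by
  obtain ⟨j, hj⟩ := hN
  have hpow : ∀ i : ℕ, D₀ ^ i * Y = Y * N ^ i := by
    intro i
    induction i with
    | zero => simp
    | succ i ih =>
      rw [pow_succ', Matrix.mul_assoc, ih, ← Matrix.mul_assoc, h, Matrix.mul_assoc, ← pow_succ']
  have h1 := hpow j
  rw [hj, Matrix.mul_zero] at h1
  obtain ⟨u, hu⟩ := hD.pow j
  have h2 : (↑u⁻¹ : Matrix μ μ F) * (D₀ ^ j * Y) = 0 := by rw [h1, Matrix.mul_zero]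
  rw [← Matrix.mul_assoc, ← hu, Units.inv_mul, Matrix.one_mul] at h2
  exact h2

/-- Block diagonal element of `GL`. -/
def diagGL (h1 : GL κ F) (h2 : GL μ F) : GL (κ ⊕ μ) F :=
  ⟨fromBlocks (h1 : Matrix κ κ F) 0 0 (h2 : Matrix μ μ F),
    fromBlocks ((h1⁻¹ : GL κ F) : Matrix κ κ F) 0 0 ((h2⁻¹ : GL μ F) : Matrix μ μ F),
    by simp [fromBlocks_multiply], by simp [fromBlocks_multiply]⟩

theorem diagGL_coe (h1 : GL κ F) (h2 : GL μ F) :
    ((diagGL h1 h2 : GL (κ ⊕ μ) F) : Matrix (κ ⊕ μ) (κ ⊕ μ) F) =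
      fromBlocks (h1 : Matrix κ κ F) 0 0 (h2 : Matrix μ μ F) := rfl

theorem diagGL_inv_coe (h1 : GL κ F) (h2 : GL μ F) :
    (((diagGL h1 h2)⁻¹ : GL (κ ⊕ μ) F) : Matrix (κ ⊕ μ) (κ ⊕ μ) F) =
      fromBlocks ((h1⁻¹ : GL κ F) : Matrix κ κ F) 0 0 ((h2⁻¹ : GL μ F) : Matrix μ μ F) := rfl

/-- the parameter space -/
abbrev Param (F : Type*) [Field F] (κ μ : Type*) [Fintype κ] [DecidableEq κ] [Fintype μ]
    [DecidableEq μ] : Type _ :=
  GL (κ ⊕ μ) F × {N : Matrix κ κ F // IsNilpotent N} × GL μ F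

/-- the conjugated block matrix -/
def conjMat (x : Param F κ μ) : Matrix (κ ⊕ μ) (κ ⊕ μ) F :=
  (x.1 : Matrix (κ ⊕ μ) (κ ⊕ μ) F) *
    fromBlocks (x.2.1 : Matrix κ κ F) 0 0 (x.2.2 : Matrix μ μ F) *
    ((x.1⁻¹ : GL (κ ⊕ μ) F) : Matrix (κ ⊕ μ) (κ ⊕ μ) F)

/-- the action of the Levi subgroup on parameters -/
def act (x : Param F κ μ) (h : GL κ F × GL μ F) : Param F κ μ :=
  (x.1 * diagGL h.1 h.2,
    ⟨((h.1⁻¹ : GL κ F) : Matrix κ κ F) * (x.2.1 : Matrix κ κ F) * (h.1 : Matrix κ κ F), by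
      obtain ⟨j, hj⟩ := x.2.1.2
      refine ⟨j, ?_⟩
      rw [Units.conj_pow', hj, Matrix.mul_zero, Matrix.zero_mul]⟩,
    h.2⁻¹ * x.2.2 * h.2)

theorem conjMat_act (x : Param F κ μ) (h : GL κ F × GL μ F) : conjMat (act x h) = conjMat x := by
  obtain ⟨g, ⟨N, hN⟩, D⟩ := x
  obtain ⟨h1, h2⟩ := h
  unfold conjMat act
  simp only [Units.val_mul, _root_.mul_inv_rev, diagGL_coe, diagGL_inv_coe]
  have key : fromBlocks (h1 : Matrix κ κ F) 0 0 (h2 : Matrix μ μ F) *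
      (fromBlocks (((h1⁻¹ : GL κ F) : Matrix κ κ F) * N * (h1 : Matrix κ κ F)) 0 0
        (((h2⁻¹ : GL μ F) : Matrix μ μ F) * (D : Matrix μ μ F) * (h2 : Matrix μ μ F)) *
      fromBlocks ((h1⁻¹ : GL κ F) : Matrix κ κ F) 0 0 ((h2⁻¹ : GL μ F) : Matrix μ μ F)) =
      fromBlocks N 0 0 (D : Matrix μ μ F) := by
    simp only [fromBlocks_multiply, Matrix.mul_zero, Matrix.zero_mul, add_zero, zero_add]
    congr 1
    · rw [Matrix.mul_assoc, Matrix.mul_assoc, Units.mul_inv, Matrix.mul_one, ← Matrix.mul_assoc,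
        Units.mul_inv, Matrix.one_mul]
    · rw [Matrix.mul_assoc, Matrix.mul_assoc, Units.mul_inv, Matrix.mul_one, ← Matrix.mul_assoc,
        Units.mul_inv, Matrix.one_mul]
  calc (g : Matrix (κ ⊕ μ) (κ ⊕ μ) F) * fromBlocks (h1 : Matrix κ κ F) 0 0 (h2 : Matrix μ μ F) *
        fromBlocks (((h1⁻¹ : GL κ F) : Matrix κ κ F) * N * (h1 : Matrix κ κ F)) 0 0
          (((h2⁻¹ * D * h2 : GL μ F)) : Matrix μ μ F) *
        (fromBlocks ((h1⁻¹ : GL κ F) : Matrix κ κ F) 0 0 ((h2⁻¹ : GL μ F) : Matrix μ μ F) *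
          ((g⁻¹ : GL (κ ⊕ μ) F) : Matrix (κ ⊕ μ) (κ ⊕ μ) F))
      = (g : Matrix (κ ⊕ μ) (κ ⊕ μ) F) * (fromBlocks (h1 : Matrix κ κ F) 0 0 (h2 : Matrix μ μ F) *
        (fromBlocks (((h1⁻¹ : GL κ F) : Matrix κ κ F) * N * (h1 : Matrix κ κ F)) 0 0
          (((h2⁻¹ : GL μ F) : Matrix μ μ F) * (D : Matrix μ μ F) * (h2 : Matrix μ μ F)) *
        fromBlocks ((h1⁻¹ : GL κ F) : Matrix κ κ F) 0 0 ((h2⁻¹ : GL μ F) : Matrix μ μ F))) *
          ((g⁻¹ : GL (κ ⊕ μ) F) : Matrix (κ ⊕ μ) (κ ⊕ μ) F) := by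
        simp only [Units.val_mul, Matrix.mul_assoc]
    _ = _ := by rw [key]

theorem act_injective (x₀ : Param F κ μ) : Function.Injective (act x₀) := by
  intro l l' h
  have h1 : x₀.1 * diagGL l.1 l.2 = x₀.1 * diagGL l'.1 l'.2 := congrArg Prod.fst h
  have h2 : diagGL l.1 l.2 = diagGL l'.1 l'.2 := mul_left_cancel h1
  have h3 := congrArg (fun u : GL (κ ⊕ μ) F => (u : Matrix (κ ⊕ μ) (κ ⊕ μ) F)) h2
  simp only [diagGL_coe] at h3
  rw [fromBlocks_inj] at h3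
  exact Prod.ext (Units.ext h3.1) (Units.ext h3.2.2.2)

theorem exists_act_of_conjMat_eq (x₀ x : Param F κ μ) (h : conjMat x = conjMat x₀) :
    ∃ l : GL κ F × GL μ F, act x₀ l = x := by
  obtain ⟨g₀, ⟨N₀, hN₀⟩, D₀⟩ := x₀
  obtain ⟨g, ⟨N, hN⟩, D⟩ := x
  unfold conjMat at h
  simp only at h
  set H : GL (κ ⊕ μ) F := g₀⁻¹ * g with hH
  -- intertwining relation
  have hrel : fromBlocks N₀ 0 0 (D₀ : Matrix μ μ F) * (H : Matrix (κ ⊕ μ) (κ ⊕ μ) F) =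
      (H : Matrix (κ ⊕ μ) (κ ⊕ μ) F) * fromBlocks N 0 0 (D : Matrix μ μ F) := by
    have h1 := congrArg (fun X => ((g₀⁻¹ : GL (κ ⊕ μ) F) : Matrix (κ ⊕ μ) (κ ⊕ μ) F) * X *
      (g : Matrix (κ ⊕ μ) (κ ⊕ μ) F)) h
    simp only [Matrix.mul_assoc, Units.inv_mul, Matrix.mul_one] at h1
    simp only [← Matrix.mul_assoc, Units.inv_mul, Matrix.one_mul] at h1
    rw [hH, Units.val_mul, ← Matrix.mul_assoc, ← h1, Matrix.mul_assoc]
  set H11 := (H : Matrix (κ ⊕ μ) (κ ⊕ μ) F).toBlocks₁₁ with hH11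
  set H12 := (H : Matrix (κ ⊕ μ) (κ ⊕ μ) F).toBlocks₁₂ with hH12
  set H21 := (H : Matrix (κ ⊕ μ) (κ ⊕ μ) F).toBlocks₂₁ with hH21
  set H22 := (H : Matrix (κ ⊕ μ) (κ ⊕ μ) F).toBlocks₂₂ with hH22
  have hHb : (H : Matrix (κ ⊕ μ) (κ ⊕ μ) F) = fromBlocks H11 H12 H21 H22 :=
    (fromBlocks_toBlocks _).symm
  rw [hHb, fromBlocks_multiply, fromBlocks_multiply, fromBlocks_inj] at hrel
  simp only [Matrix.zero_mul, Matrix.mul_zero, add_zero, zero_add] at hrel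
  obtain ⟨r11, r12, r21, r22⟩ := hrel
  have hD₀ : IsUnit (D₀ : Matrix μ μ F) := ⟨D₀, rfl⟩
  have hD : IsUnit (D : Matrix μ μ F) := ⟨D, rfl⟩
  have z12 : H12 = 0 := eq_zero_of_nil_mul_eq_mul_unit N₀ D H12 hN₀ hD r12
  have z21 : H21 = 0 := eq_zero_of_unit_mul_eq_mul_nil D₀ N H21 hN hD₀ r21
  rw [z12, z21] at hHb
  have hdet : (H : Matrix (κ ⊕ μ) (κ ⊕ μ) F).det ≠ 0 := by
    have := (Matrix.isUnit_iff_isUnit_det _).mp ⟨H, rfl⟩
    exact this.ne_zero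
  rw [hHb, det_fromBlocks_zero₁₂] at hdet
  have hd1 : H11.det ≠ 0 := left_ne_zero_of_mul hdet
  have hd2 : H22.det ≠ 0 := right_ne_zero_of_mul hdet
  set l1 : GL κ F := Matrix.GeneralLinearGroup.mkOfDetNeZero H11 hd1 with hl1
  set l2 : GL μ F := Matrix.GeneralLinearGroup.mkOfDetNeZero H22 hd2 with hl2
  have hl1c : (l1 : Matrix κ κ F) = H11 := rfl
  have hl2c : (l2 : Matrix μ μ F) = H22 := rfl
  refine ⟨(l1, l2), ?_⟩
  unfold act
  have e1 : g₀ * diagGL l1 l2 = g := by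
    have : diagGL l1 l2 = H := by
      apply Units.ext
      rw [diagGL_coe, hHb, hl1c, hl2c]
    rw [this, hH, mul_inv_cancel_left]
  have e2 : ((l1⁻¹ : GL κ F) : Matrix κ κ F) * N₀ * (l1 : Matrix κ κ F) = N := by
    rw [Matrix.mul_assoc, hl1c, r11, ← Matrix.mul_assoc, ← hl1c, Units.inv_mul, Matrix.one_mul]
  have e3 : l2⁻¹ * D₀ * l2 = D := by
    apply Units.ext
    simp only [Units.val_mul]
    rw [Matrix.mul_assoc, hl2c, r22, ← Matrix.mul_assoc, ← hl2c, Units.inv_mul, Matrix.one_mul]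
  simp only
  rw [e1, e3]
  congr 2
  exact Subtype.ext e2

theorem card_param [Finite F] :
    Nat.card (Param F κ μ) =
      Nat.card (Set.range (conjMat (F := F) (κ := κ) (μ := μ))) *
        (Nat.card (GL κ F) * Nat.card (GL μ F)) := by
  rw [← Nat.card_prod, ← Nat.card_prod]
  symm
  let Ψ : Set.range (conjMat (F := F) (κ := κ) (μ := μ)) × (GL κ F × GL μ F) → Param F κ μ :=
    fun y => act (Classical.choose y.1.2) y.2
  have hΨ : ∀ y, conjMat (Ψ y) = y.1.1 := by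
    intro y
    rw [conjMat_act]
    exact Classical.choose_spec y.1.2
  apply Nat.card_congr
  refine Equiv.ofBijective Ψ ⟨?_, ?_⟩
  · intro y y' hyy
    have h1 : y.1 = y'.1 := by
      apply Subtype.ext
      rw [← hΨ y, ← hΨ y', hyy]
    have h2 : act (Classical.choose y.1.2) y.2 = act (Classical.choose y.1.2) y'.2 := by
      have : Ψ y' = act (Classical.choose y.1.2) y'.2 := by
        change act (Classical.choose y'.1.2) y'.2 = _
        rw [h1]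
      rw [← this]
      exact hyy
    exact Prod.ext h1 (act_injective _ h2)
  · intro x
    let M : Set.range (conjMat (F := F) (κ := κ) (μ := μ)) := ⟨conjMat x, x, rfl⟩
    obtain ⟨l, hl⟩ := exists_act_of_conjMat_eq (Classical.choose M.2) x
      (Classical.choose_spec M.2).symm
    exact ⟨(M, l), hl⟩

end Cfsg.Agent.Helper8.NilCount
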