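import Mathlib
import Cfsg.Agent.Helper8.NilCount
set_option autoImplicit false
namespace Cfsg.Agent.Helper8.NilCount
open Matrix Module Polynomial

variable {F : Type*} [Field F]
variable {κ μ : Type*} [Fintype κ] [DecidableEq κ] [Fintype μ] [DecidableEq μ]

/-- Fitting decomposition in matrix form. -/
theorem exists_block_form (M : Matrix (κ ⊕ μ) (κ ⊕ μ) F)
    (hM : M.charpoly.natTrailingDegree = Fintype.card κ) :
    ∃ (P Q : Matrix (κ ⊕ μ) (κ ⊕ μ) F) (N : Matrix κ κ F) (D : Matrix μ μ F),
      P * Q = 1 ∧ Q * P = 1 ∧ IsNilpotent N ∧ D.det ≠ 0 ∧ M = P * fromBlocks N 0 0 D * Q := by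
  classical
  set φ : Module.End F (κ ⊕ μ → F) := Matrix.toLin' M with hφ
  set V := φ.maxGenEigenspace 0 with hVdef
  have hV : V = ⨆ (n : ℕ), LinearMap.ker (φ ^ n) := by
    simp [V, ← Module.End.iSup_genEigenspace_eq, Module.End.genEigenspace_nat]
  set W := ⨅ (n : ℕ), LinearMap.range (φ ^ n) with hWdef
  have hVW : IsCompl V W := by
    rw [hV]
    exact LinearMap.isCompl_iSup_ker_pow_iInf_range_pow φ
  have hφV : ∀ x ∈ V, φ x ∈ V := by
    simp only [V, Module.End.mem_maxGenEigenspace, zero_smul, sub_zero,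
      forall_exists_index]
    intro x n hx
    use n
    rw [← Module.End.mul_apply, ← pow_succ, pow_succ', Module.End.mul_apply, hx, map_zero]
  have hφW : ∀ x ∈ W, φ x ∈ W := by
    simp only [W, Submodule.mem_iInf, LinearMap.mem_range]
    intro x H n
    obtain ⟨y, rfl⟩ := H n
    use φ y
    rw [← Module.End.mul_apply, ← pow_succ, pow_succ', Module.End.mul_apply]
  let F₁ := φ.restrict hφV
  let G := φ.restrict hφW
  let e := Submodule.prodEquivOfIsCompl V W hVW
  have hdimV : finrank F V = Fintype.card κ := by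
    rw [LinearMap.finrank_maxGenEigenspace_zero_eq, ← hM, hφ, Matrix.charpoly_toLin']
  have hdimW : finrank F W = Fintype.card μ := by
    have := Submodule.finrank_add_eq_of_isCompl hVW
    rw [hdimV, Module.finrank_fintype_fun_eq_card, Fintype.card_sum] at this
    omega
  let bV : Basis κ F V := (Module.finBasisOfFinrankEq F V hdimV).reindex (Fintype.equivFin κ).symm
  let bW : Basis μ F W := (Module.finBasisOfFinrankEq F W hdimW).reindex (Fintype.equivFin μ).symm
  let b := bV.prod bW
  have hψ : F₁.prodMap G = e.symm.conj φ := by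
    apply b.ext
    simp only [Basis.prod_apply, LinearMap.coe_inl, LinearMap.coe_inr, LinearMap.prodMap_apply,
      LinearEquiv.conj_apply,
      LinearEquiv.symm_symm, Submodule.coe_prodEquivOfIsCompl, LinearMap.coe_comp,
      LinearEquiv.coe_coe,
      Function.comp_apply, LinearMap.coprod_apply, Submodule.coe_subtype, map_add, Sum.forall,
      Sum.elim_inl,
      map_zero, ZeroMemClass.coe_zero, add_zero, LinearEquiv.eq_symm_apply, and_self,
      Submodule.coe_prodEquivOfIsCompl', LinearMap.coe_restrict_apply, implies_true, Sum.elim_inr,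
      zero_add,
      e, V, W, F₁, G, b]
  let b' : Basis (κ ⊕ μ) F (κ ⊕ μ → F) := b.map e
  let c : Basis (κ ⊕ μ) F (κ ⊕ μ → F) := Pi.basisFun F (κ ⊕ μ)
  have hA : LinearMap.toMatrix b' b' φ =
      fromBlocks (LinearMap.toMatrix bV bV F₁) 0 0 (LinearMap.toMatrix bW bW G) := by
    rw [← LinearMap.toMatrix_prodMap, hψ]
    ext i j
    rw [LinearMap.toMatrix_apply, LinearMap.toMatrix_apply]
    simp only [b', Basis.map_repr, Basis.map_apply, LinearEquiv.trans_apply,
      LinearEquiv.conj_apply, LinearMap.coe_comp, LinearEquiv.coe_coe, Function.comp_apply,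
      LinearEquiv.symm_symm]
    rfl
  have hMc : M = LinearMap.toMatrix c c φ := by
    rw [LinearMap.toMatrix_eq_toMatrix', hφ, LinearMap.toMatrix'_toLin']
  refine ⟨c.toMatrix b', b'.toMatrix c, LinearMap.toMatrix bV bV F₁, LinearMap.toMatrix bW bW G,
    Basis.toMatrix_mul_toMatrix_flip c b', Basis.toMatrix_mul_toMatrix_flip b' c, ?_, ?_, ?_⟩
  · -- nilpotent
    have hF₁ : IsNilpotent F₁ := by
      apply ((LinearMap.charpoly_nilpotent_tfae F₁).out 0 2).mpr
      rintro ⟨x, hx⟩
      have hx' := hx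
      simp only [V, Module.End.mem_maxGenEigenspace, zero_smul, sub_zero] at hx'
      obtain ⟨n, hn⟩ := hx'
      use n
      apply Subtype.ext
      rw [Module.End.pow_restrict n hφV, LinearMap.restrict_apply]
      exact hn
    obtain ⟨j, hj⟩ := hF₁
    exact ⟨j, by rw [LinearMap.toMatrix_pow, hj, map_zero]⟩
  · rw [LinearMap.det_toMatrix]
    apply ((LinearMap.not_hasEigenvalue_zero_tfae G).out 3 5).mpr
    intro x hx
    apply Subtype.ext
    suffices x.1 ∈ V ⊓ W by rwa [hVW.inf_eq_bot, Submodule.mem_bot] at this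
    suffices x.1 ∈ V from ⟨this, x.2⟩
    simp only [Module.End.mem_maxGenEigenspace, zero_smul, sub_zero, V]
    use 1
    rw [pow_one]
    rwa [Subtype.ext_iff] at hx
  · rw [← hA, hMc]
    exact (basis_toMatrix_mul_linearMap_toMatrix_mul_basis_toMatrix c b' c b' φ).symm

theorem natTrailingDegree_conjMat (x : Param F κ μ) :
    (conjMat x).charpoly.natTrailingDegree = Fintype.card κ := by
  obtain ⟨g, ⟨N, hN⟩, D⟩ := x
  unfold conjMat
  simp only
  rw [Matrix.coe_units_inv, Matrix.charpoly_units_conj, charpoly_fromBlocks_zero₁₂]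
  have h1 : N.charpoly = X ^ Fintype.card κ := by
    rw [← sub_eq_zero]
    exact IsNilpotent.eq_zero (Matrix.isNilpotent_charpoly_sub_pow_of_isNilpotent hN)
  have h2 : (D : Matrix μ μ F).charpoly.coeff 0 ≠ 0 := by
    intro h0
    have h3 := Matrix.det_eq_sign_charpoly_coeff (D : Matrix μ μ F)
    rw [h0, mul_zero] at h3
    have h4 := (Matrix.isUnit_iff_isUnit_det (D : Matrix μ μ F)).mp ⟨D, rfl⟩
    exact h4.ne_zero h3
  have h5 : (D : Matrix μ μ F).charpoly ≠ 0 := by
    intro h0
    rw [h0] at h2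
    simp at h2
  rw [h1, mul_comm, natTrailingDegree_mul_X_pow h5,
    natTrailingDegree_eq_zero.mpr (Or.inr h2), zero_add]

theorem range_conjMat :
    Set.range (conjMat (F := F) (κ := κ) (μ := μ)) =
      {M | M.charpoly.natTrailingDegree = Fintype.card κ} := by
  ext M
  constructor
  · rintro ⟨x, rfl⟩
    exact natTrailingDegree_conjMat x
  · intro hM
    obtain ⟨P, Q, N, D, hPQ, hQP, hN, hD, rfl⟩ := exists_block_form M hM
    refine ⟨(⟨P, Q, hPQ, hQP⟩, ⟨N, hN⟩, Matrix.GeneralLinearGroup.mkOfDetNeZero D hD), ?_⟩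
    rfl

end Cfsg.Agent.Helper8.NilCount
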