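import Mathlib

set_option autoImplicit false

namespace Cfsg.Agent.Helper8

open Module LinearMap

/-- `dim ker (f^k) ≤ k * dim ker f`. -/
theorem finrank_ker_pow_le {K V : Type*} [Field K] [AddCommGroup V] [Module K V]
    [FiniteDimensional K V] (f : Module.End K V) (k : ℕ) :
    finrank K (LinearMap.ker (f ^ k)) ≤ k * finrank K (LinearMap.ker f) := by
  induction k with
  | zero =>
    have : LinearMap.ker (f ^ 0) = ⊥ := by
      rw [pow_zero]
      exact LinearMap.ker_id
    rw [this, finrank_bot]
    exact Nat.zero_le _
  | succ k ih =>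
    set p := LinearMap.ker (f ^ (k + 1)) with hp
    let g : p →ₗ[K] V := (f ^ k).comp p.subtype
    have hrk := LinearMap.finrank_range_add_finrank_ker g
    have h1 : LinearMap.range g ≤ LinearMap.ker f := by
      rintro _ ⟨x, rfl⟩
      rw [LinearMap.mem_ker]
      have hx : (f ^ (k + 1)) (x : V) = 0 := LinearMap.mem_ker.mp x.2
      rw [pow_succ'] at hx
      exact hx
    have h1' : finrank K (LinearMap.range g) ≤ finrank K (LinearMap.ker f) :=
      Submodule.finrank_mono h1
    have hle : LinearMap.ker (f ^ k) ≤ p := by
      intro x hx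
      rw [hp, LinearMap.mem_ker, pow_succ', Module.End.mul_apply, LinearMap.mem_ker.mp hx, map_zero]
    have h2 : LinearMap.ker g = Submodule.comap p.subtype (LinearMap.ker (f ^ k)) := by
      ext x
      simp [g]
    have h2' : finrank K (LinearMap.ker g) = finrank K (LinearMap.ker (f ^ k)) := by
      rw [h2]
      exact LinearEquiv.finrank_eq (Submodule.comapSubtypeEquivOfLe hle)
    calc finrank K p = finrank K (LinearMap.range g) + finrank K (LinearMap.ker g) := hrk.symm
      _ ≤ finrank K (LinearMap.ker f) + k * finrank K (LinearMap.ker f) := by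
        rw [h2']
        exact Nat.add_le_add h1' ih
      _ = (k + 1) * finrank K (LinearMap.ker f) := by ring

/-- A nilpotent endomorphism restricted to an invariant subspace `W` is killed by the
`dim W`-th power. -/
theorem pow_finrank_apply_eq_zero {K V : Type*} [Field K] [AddCommGroup V] [Module K V]
    [FiniteDimensional K V] (f : Module.End K V) (n : ℕ) (hf : f ^ n = 0)
    (W : Submodule K V) (hW : ∀ v ∈ W, f v ∈ W) (w : V) (hw : w ∈ W) :
    (f ^ finrank K W) w = 0 := by
  set g : Module.End K W := f.restrict hW with hg
  have hgn : g ^ n = 0 := by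
    rw [hg, Module.End.pow_restrict n hW]
    ext x
    simp [hf]
  have hgd : g ^ finrank K W = 0 := by
    rcases le_or_gt (finrank K W) n with hle | hlt
    · have h1 := Module.End.ker_pow_eq_ker_pow_finrank_of_le (f := g) hle
      rw [hgn, LinearMap.ker_zero] at h1
      exact LinearMap.ker_eq_top.mp h1.symm
    · have : finrank K W = n + (finrank K W - n) := by omega
      rw [this, pow_add, hgn, zero_mul]
  have h3 := congrArg (fun φ : Module.End K W => ((φ ⟨w, hw⟩ : W) : V)) hgd
  simp only [hg, Module.End.pow_restrict _ hW, LinearMap.restrict_apply, LinearMap.zero_apply,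
    ZeroMemClass.coe_zero] at h3
  exact h3

end Cfsg.Agent.Helper8
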