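import Mathlib
set_option autoImplicit false

/-! The Artin–Schreier subgroup `{c² + c}` of a finite field of characteristic two, and a
counting lemma (helper8). -/

namespace Cfsg.Agent.Helper8.O2C

variable {F : Type*} [Field F] [CharP F 2]

/-- the Artin–Schreier map `c ↦ c² + c` -/
def wp : F →+ F where
  toFun c := c * c + c
  map_zero' := by simp
  map_add' a b := by
    have := CharTwo.add_self_eq_zero (a * b)
    linear_combination this

theorem wp_apply (c : F) : wp c = c * c + c := rfl

/-- the Artin–Schreier subgroup -/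
def WP (F : Type*) [Field F] [CharP F 2] : AddSubgroup F := (wp (F := F)).range

theorem mem_WP (c : F) : c ∈ WP F ↔ ∃ d : F, d * d + d = c := Iff.rfl

theorem zero_mem_WP : (0 : F) ∈ WP F := (WP F).zero_mem

theorem sq_add_mem_WP (c : F) : c ^ 2 + c ∈ WP F := ⟨c, by rw [wp_apply]; ring⟩

theorem mem_ker_wp (c : F) : c ∈ (wp (F := F)).ker ↔ c = 0 ∨ c = 1 := by
  rw [AddMonoidHom.mem_ker, wp_apply]
  constructor
  · intro h
    have h1 : c * (c + 1) = 0 := by linear_combination h
    rcases mul_eq_zero.mp h1 with h2 | h2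
    · exact Or.inl h2
    · right
      have := CharTwo.add_self_eq_zero (1 : F)
      linear_combination h2 - this
  · rintro (rfl | rfl)
    · simp
    · have := CharTwo.add_self_eq_zero (1 : F)
      linear_combination this

variable [Fintype F]

omit [Fintype F] in
theorem card_ker_wp : Nat.card (wp (F := F)).ker = 2 := by
  classical
  have : ((wp (F := F)).ker : Set F) = {0, 1} := by
    ext c
    rw [SetLike.mem_coe, mem_ker_wp]
    simp
  rw [← SetLike.coe_sort_coe, this, Nat.card_eq_fintype_card, ← Set.toFinset_card]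
  simp

theorem two_mul_card_WP : 2 * Nat.card (WP F) = Fintype.card F := by
  have h1 := AddSubgroup.card_eq_card_quotient_mul_card_addSubgroup (wp (F := F)).ker
  rw [card_ker_wp, Nat.card_congr (QuotientAddGroup.quotientKerEquivRange (wp (F := F))).toEquiv,
    Nat.card_eq_fintype_card] at h1
  rw [h1, mul_comm]
  rfl

theorem index_WP : (WP F).index = 2 := by
  have h1 := AddSubgroup.card_mul_index (WP F)
  have h2 := two_mul_card_WP (F := F)
  rw [Nat.card_eq_fintype_card (α := F), ← h2] at h1
  have hpos : 0 < Nat.card (WP F) := Nat.card_pos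
  nlinarith

theorem exists_not_mem_WP : ∃ c₀ : F, c₀ ∉ WP F := by
  by_contra hcon
  push Not at hcon
  have : WP F = ⊤ := by
    rw [eq_top_iff]
    intro c _
    exact hcon c
  have h1 := index_WP (F := F)
  rw [this, AddSubgroup.index_top] at h1
  omega

theorem add_mem_WP_iff {c₀ : F} (hc₀ : c₀ ∉ WP F) (c : F) : c + c₀ ∈ WP F ↔ c ∉ WP F := by
  rw [AddSubgroup.add_mem_iff_of_index_two index_WP]
  constructor
  · intro h hc
    exact hc₀ (h.mp hc)
  · intro h
    exact ⟨fun hc => absurd hc h, fun hc => absurd hc hc₀⟩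

/-- an involution shifting the values by a non-Artin–Schreier element halves the set -/
theorem two_mul_card_wp {X : Type*} [Finite X] (f : X → F) (σ : X → X)
    (hσ : Function.Involutive σ) {c₀ : F} (hc₀ : c₀ ∉ WP F) (hf : ∀ x, f (σ x) = f x + c₀) :
    2 * Nat.card {x : X // f x ∈ WP F} = Nat.card X := by
  classical
  have := Fintype.ofFinite X
  have h1 : Nat.card {x : X // f x ∈ WP F} = Nat.card {x : X // ¬ f x ∈ WP F} := by
    apply Nat.card_congr
    refine ⟨fun x => ⟨σ x.1, by rw [hf, add_mem_WP_iff hc₀]; exact not_not.mpr x.2⟩,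
      fun x => ⟨σ x.1, by rw [hf, add_mem_WP_iff hc₀]; exact x.2⟩, ?_, ?_⟩
    · intro x
      apply Subtype.ext
      exact hσ x.1
    · intro x
      apply Subtype.ext
      exact hσ x.1
  have h2 := Fintype.card_subtype_compl (fun x : X => f x ∈ WP F)
  rw [Nat.card_eq_fintype_card, Nat.card_eq_fintype_card] at h1
  rw [Nat.card_eq_fintype_card, Nat.card_eq_fintype_card]
  have h3 := Fintype.card_subtype_le (fun x : X => f x ∈ WP F)
  omega

end Cfsg.Agent.Helper8.O2C
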