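import Mathlib
import Cfsg.Agent.Helper8.O2WP
import Cfsg.Agent.Helper8.Sp2Frame
import Cfsg.Agent.Helper8.QuadForm
set_option autoImplicit false

/-! Characteristic two: the isometries of the polar form commuting with `N` fibre over the
quadratic forms `Q + B(a,·)²`; the fibres are cosets of the orthogonal centraliser (helper8). -/

universe u

namespace Cfsg.Agent.Helper8.O2C

open Module Cfsg.Agent.Helper8.Sp2

variable {F : Type*} [Field F] [CharP F 2] {V : Type u} [AddCommGroup V] [Module F V]

theorem add_self_V (F : Type*) [Field F] [CharP F 2] {V : Type u} [AddCommGroup V] [Module F V]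
    (v : V) : v + v = 0 := by
  rw [← two_smul F v, CharTwo.two_eq_zero, zero_smul]

/-- the isometries of `Q` commuting with `N` -/
def OAutSet (Q : QuadraticForm F V) (N : Module.End F V) : Type u :=
  {z : Module.End F V // (∀ v, Q (z v) = Q v) ∧ ∀ u, z (N u) = N (z u)}

/-- the symplectic transvection `v ↦ v + l B(a,v) a` -/
noncomputable def tv (Q : QuadraticForm F V) (l : F) (a : V) : Module.End F V :=
  LinearMap.id + l • (QuadraticMap.polarBilin Q a).smulRight a

omit [CharP F 2] in
theorem tv_apply (Q : QuadraticForm F V) (l : F) (a v : V) :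
    tv Q l a v = v + (l * QuadraticMap.polar Q a v) • a := by
  simp [tv, LinearMap.smulRight_apply, smul_smul]

theorem polar_self_zero (Q : QuadraticForm F V) (a : V) : QuadraticMap.polar Q a a = 0 := by
  rw [Cfsg.Agent.Helper8.QuadForm.polar_self', CharTwo.two_eq_zero, zero_mul]

omit [CharP F 2] in
theorem Q_tv (Q : QuadraticForm F V) {l : F} {a : V} (h : l + l * l * Q a = 1) (v : V) :
    Q (tv Q l a v) = Q v + QuadraticMap.polar Q a v ^ 2 := by
  rw [tv_apply, QuadraticMap.map_add Q, QuadraticMap.map_smul, QuadraticMap.polar_smul_right,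
    QuadraticMap.polar_comm Q v a, smul_eq_mul, smul_eq_mul]
  linear_combination (QuadraticMap.polar Q a v ^ 2) * h

theorem polar_tv (Q : QuadraticForm F V) (l : F) (a u v : V) :
    QuadraticMap.polar Q (tv Q l a u) (tv Q l a v) = QuadraticMap.polar Q u v := by
  rw [tv_apply, tv_apply, QuadraticMap.polar_add_left, QuadraticMap.polar_add_right,
    QuadraticMap.polar_add_right, QuadraticMap.polar_smul_left, QuadraticMap.polar_smul_left,
    QuadraticMap.polar_smul_right, QuadraticMap.polar_smul_right, polar_self_zero,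
    QuadraticMap.polar_comm Q u a, smul_eq_mul, smul_eq_mul, smul_eq_mul, smul_eq_mul]
  have := CharTwo.add_self_eq_zero
    (l * QuadraticMap.polar Q a v * QuadraticMap.polar Q a u)
  linear_combination this

theorem tv_tv (Q : QuadraticForm F V) (l : F) (a v : V) : tv Q l a (tv Q l a v) = v := by
  rw [tv_apply Q l a (tv Q l a v), tv_apply, QuadraticMap.polar_add_right,
    QuadraticMap.polar_smul_right, polar_self_zero, smul_eq_mul, mul_zero, add_zero, add_assoc,
    add_self_V F, add_zero]

theorem polar_a_tv (Q : QuadraticForm F V) (l : F) (a v : V) :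
    QuadraticMap.polar Q a (tv Q l a v) = QuadraticMap.polar Q a v := by
  rw [tv_apply, QuadraticMap.polar_add_right, QuadraticMap.polar_smul_right, polar_self_zero,
    smul_eq_mul, mul_zero, add_zero]

omit [CharP F 2] in
theorem polar_of_Q (Q : QuadraticForm F V) {y : Module.End F V} (hy : ∀ v, Q (y v) = Q v)
    (u v : V) : QuadraticMap.polar Q (y u) (y v) = QuadraticMap.polar Q u v := by
  unfold QuadraticMap.polar
  rw [← map_add y u v, hy, hy, hy]

omit [CharP F 2] in
theorem tv_N (Q : QuadraticForm F V) (l : F) {a : V} {N : Module.End F V} (ha : N a = 0)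
    (hsa : ∀ u v, QuadraticMap.polar Q (N u) v = QuadraticMap.polar Q u (N v)) (v : V) :
    tv Q l a (N v) = N (tv Q l a v) := by
  rw [tv_apply, tv_apply, map_add, map_smul, ha, smul_zero, add_zero, ← hsa, ha,
    QuadraticMap.polar_zero_left, mul_zero, zero_smul, add_zero]

/-- the scalar making the transvection carry `Q` to `Q + B(a,·)²` -/
noncomputable def lam (Q : QuadraticForm F V) (a : V) : F := by
  classical
  exact if h : Q a ∈ WP F then (if Q a = 0 then 1 else ((mem_WP _).mp h).choose / Q a) else 0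

theorem lam_spec (Q : QuadraticForm F V) {a : V} (h : Q a ∈ WP F) :
    lam Q a + lam Q a * lam Q a * Q a = 1 := by
  classical
  unfold lam
  rw [dif_pos h]
  by_cases h0 : Q a = 0
  · rw [if_pos h0, h0]
    ring
  · rw [if_neg h0]
    obtain ⟨d, hd⟩ : ∃ d, d = ((mem_WP _).mp h).choose := ⟨_, rfl⟩
    have hd' : d * d + d = Q a := by
      rw [hd]
      exact ((mem_WP _).mp h).choose_spec
    rw [← hd]
    field_simp
    linear_combination hd'

variable [Finite F] [FiniteDimensional F V]

/-- every quadratic form with the same polar form is `Q + B(a,·)²` -/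
theorem exists_aOf (Q : QuadraticForm F V) (hQ : (QuadraticMap.polarBilin Q).Nondegenerate)
    (z : Module.End F V)
    (hz : ∀ u v, QuadraticMap.polar Q (z u) (z v) = QuadraticMap.polar Q u v) :
    ∃ a, ∀ v, Q (z v) = Q v + QuadraticMap.polar Q a v ^ 2 := by
  have := Fintype.ofFinite F
  let ℓ : V →ₗ[F] F :=
    { toFun := fun v => (frobeniusEquiv F 2).symm (Q (z v) + Q v)
      map_add' := by
        intro u v
        rw [← map_add (frobeniusEquiv F 2).symm (Q (z u) + Q u) (Q (z v) + Q v)]
        congr 1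
        rw [map_add z u v, QuadraticMap.map_add Q (z u) (z v), QuadraticMap.map_add Q u v, hz]
        have := CharTwo.add_self_eq_zero (QuadraticMap.polar Q u v)
        linear_combination this
      map_smul' := by
        intro c v
        rw [map_smul z c v, QuadraticMap.map_smul, QuadraticMap.map_smul, RingHom.id_apply,
          smul_eq_mul, smul_eq_mul, smul_eq_mul, ← mul_add, map_mul]
        congr 1
        have := frobeniusEquiv_symm_apply_frobenius F 2 c
        rw [frobenius_def, pow_two] at this
        exact this }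
  have hℓ : ∀ v, ℓ v ^ 2 = Q (z v) + Q v := fun v => frobeniusEquiv_symm_pow_p F 2 _
  refine ⟨(LinearMap.BilinForm.toDual (QuadraticMap.polarBilin Q) hQ).symm ℓ, fun v => ?_⟩
  have h1 : QuadraticMap.polar Q ((LinearMap.BilinForm.toDual (QuadraticMap.polarBilin Q) hQ).symm ℓ) v = ℓ v :=
    LinearMap.BilinForm.apply_toDual_symm_apply (B := QuadraticMap.polarBilin Q) (hB := hQ) ℓ v
  rw [h1, hℓ]
  have := CharTwo.add_self_eq_zero (Q v)
  linear_combination -this

omit [Finite F] [FiniteDimensional F V] in
theorem aOf_unique (Q : QuadraticForm F V) (hQ : (QuadraticMap.polarBilin Q).Nondegenerate)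
    {a a' : V} (h : ∀ v, QuadraticMap.polar Q a v ^ 2 = QuadraticMap.polar Q a' v ^ 2) :
    a = a' := by
  rw [← sub_eq_zero]
  apply hQ.1
  intro v
  show QuadraticMap.polar Q (a - a') v = 0
  rw [QuadraticMap.polar_sub_left, sub_eq_zero]
  exact CharTwo.sq_injective (h v)

/-- the fibration of the symplectic centraliser over the invariant forms of the same type -/
theorem card_autSet_eq_mul (Q : QuadraticForm F V)
    (hQ : (QuadraticMap.polarBilin Q).Nondegenerate) (N : Module.End F V)
    (hsa : ∀ u v, QuadraticMap.polar Q (N u) v = QuadraticMap.polar Q u (N v))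
    (hNQ : ∀ v, Q (v + N v) = Q v)
    (H : ∀ z : Module.End F V,
      (∀ u v, QuadraticMap.polar Q (z u) (z v) = QuadraticMap.polar Q u v) →
      ∀ a, (∀ v, Q (z v) = Q v + QuadraticMap.polar Q a v ^ 2) → Q a ∈ WP F) :
    Nat.card (AutSet (QuadraticMap.polarBilin Q) N) =
      Nat.card {a : V // N a = 0 ∧ Q a ∈ WP F} * Nat.card (OAutSet Q N) := by
  classical
  have hex : ∀ z : AutSet (QuadraticMap.polarBilin Q) N,
      ∃ a : V, ∀ v, Q (z.1 v) = Q v + QuadraticMap.polar Q a v ^ 2 :=
    fun z => exists_aOf Q hQ z.1 z.2.1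
  choose aOf haOf using hex
  have hker : ∀ z, N (aOf z) = 0 := by
    intro z
    apply hQ.1
    intro v
    show QuadraticMap.polar Q (N (aOf z)) v = 0
    rw [hsa]
    have h1 := haOf z (v + N v)
    rw [map_add, z.2.2, hNQ, hNQ, haOf z v, QuadraticMap.polar_add_right] at h1
    have h2 : QuadraticMap.polar Q (aOf z) (N v) ^ 2 = 0 := by
      have := CharTwo.add_self_eq_zero
        (QuadraticMap.polar Q (aOf z) v * QuadraticMap.polar Q (aOf z) (N v))
      linear_combination -h1 - this
    exact pow_eq_zero_iff (two_ne_zero) |>.mp h2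
  have hwp : ∀ z, Q (aOf z) ∈ WP F := fun z => H z.1 z.2.1 _ (haOf z)
  rw [← Nat.card_prod]
  have hfun1 : ∀ z : AutSet (QuadraticMap.polarBilin Q) N,
      (∀ v, Q ((z.1 ∘ₗ tv Q (lam Q (aOf z)) (aOf z)) v) = Q v) ∧
      ∀ u, (z.1 ∘ₗ tv Q (lam Q (aOf z)) (aOf z)) (N u) =
        N ((z.1 ∘ₗ tv Q (lam Q (aOf z)) (aOf z)) u) := by
    intro z
    constructor
    · intro v
      rw [LinearMap.comp_apply, haOf z, Q_tv Q (lam_spec Q (hwp z)), polar_a_tv]
      have := CharTwo.add_self_eq_zero (QuadraticMap.polar Q (aOf z) v ^ 2)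
      linear_combination this
    · intro u
      rw [LinearMap.comp_apply, LinearMap.comp_apply, tv_N Q _ (hker z) hsa, z.2.2]
  apply Nat.card_eq_of_bijective
    (fun z : AutSet (QuadraticMap.polarBilin Q) N =>
      ((⟨aOf z, hker z, hwp z⟩ : {a : V // N a = 0 ∧ Q a ∈ WP F}),
        (⟨z.1 ∘ₗ tv Q (lam Q (aOf z)) (aOf z), hfun1 z⟩ : OAutSet Q N)))
  constructor
  · intro z₁ z₂ h
    have h1 : aOf z₁ = aOf z₂ := congrArg (fun p => p.1.1) h
    have h2 : z₁.1 ∘ₗ tv Q (lam Q (aOf z₁)) (aOf z₁) = z₂.1 ∘ₗ tv Q (lam Q (aOf z₂)) (aOf z₂) :=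
      congrArg (fun p => p.2.1) h
    rw [h1] at h2
    apply Subtype.ext
    apply LinearMap.ext
    intro v
    have h3 := congrArg (fun f : Module.End F V => f (tv Q (lam Q (aOf z₂)) (aOf z₂) v)) h2
    simp only [LinearMap.comp_apply] at h3
    rw [tv_tv] at h3
    exact h3
  · rintro ⟨⟨a, ha1, ha2⟩, y⟩
    obtain ⟨z', hz'⟩ : ∃ z' : AutSet (QuadraticMap.polarBilin Q) N,
        z'.1 = y.1 ∘ₗ tv Q (lam Q a) a := by
      refine ⟨⟨y.1 ∘ₗ tv Q (lam Q a) a, ?_, ?_⟩, rfl⟩
      · intro u v
        show QuadraticMap.polar Q _ _ = QuadraticMap.polar Q u v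
        rw [LinearMap.comp_apply, LinearMap.comp_apply, polar_of_Q Q y.2.1, polar_tv]
      · intro u
        rw [LinearMap.comp_apply, LinearMap.comp_apply, tv_N Q _ ha1 hsa, y.2.2]
    have hk : aOf z' = a := by
      apply aOf_unique Q hQ
      intro v
      have h1 := haOf z' v
      rw [hz', LinearMap.comp_apply, y.2.1, Q_tv Q (lam_spec Q ha2)] at h1
      exact (add_left_cancel h1).symm
    refine ⟨z', ?_⟩
    apply Prod.ext
    · apply Subtype.ext
      exact hk
    · apply Subtype.ext
      apply LinearMap.ext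
      intro v
      show z'.1 (tv Q (lam Q (aOf z')) (aOf z') v) = y.1 v
      rw [hk, hz', LinearMap.comp_apply, tv_tv]

/-- if more than half of the vectors have `Q` in the Artin–Schreier subgroup, every form
`Q + B(a,·)²` in the symplectic orbit of `Q` has `Q a` in that subgroup -/
theorem mem_WP_of_card (Q : QuadraticForm F V)
    (hQ : (QuadraticMap.polarBilin Q).Nondegenerate)
    (hcount : Nat.card V < 2 * Nat.card {a : V // Q a ∈ WP F})
    (z : Module.End F V)
    (hz : ∀ u v, QuadraticMap.polar Q (z u) (z v) = QuadraticMap.polar Q u v) (a : V)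
    (ha : ∀ v, Q (z v) = Q v + QuadraticMap.polar Q a v ^ 2) : Q a ∈ WP F := by
  classical
  have hfin : Finite V := Module.finite_of_finite F
  have := Fintype.ofFinite V
  have := Fintype.ofFinite F
  by_contra hna
  have hinj : Function.Injective z := by
    rw [injective_iff_map_eq_zero]
    intro u hu
    apply hQ.1
    intro v
    show QuadraticMap.polar Q u v = 0
    rw [← hz, hu, QuadraticMap.polar_zero_left]
  have hbij : Function.Bijective z := Finite.injective_iff_bijective.mp hinj
  have h1 : Nat.card {c : V // Q c ∈ WP F} = Nat.card {b : V // Q (z b) ∈ WP F} := by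
    symm
    apply Nat.card_congr
    exact Equiv.subtypeEquiv (Equiv.ofBijective z hbij) (fun b => Iff.rfl)
  have h2 : Nat.card {b : V // Q (z b) ∈ WP F} ≤ Nat.card {a' : V // ¬ Q a' ∈ WP F} := by
    apply Nat.card_le_card_of_injective (fun b => (⟨a + b.1, by
      have hb := b.2
      rw [ha] at hb
      rw [QuadraticMap.map_add Q, add_assoc, add_comm, add_mem_WP_iff hna]
      apply not_not.mpr
      have h3 := (WP F).add_mem hb (sq_add_mem_WP (QuadraticMap.polar Q a b.1))
      have h4 : Q b.1 + QuadraticMap.polar Q a b.1 ^ 2 +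
          (QuadraticMap.polar Q a b.1 ^ 2 + QuadraticMap.polar Q a b.1) =
          Q b.1 + QuadraticMap.polar Q a b.1 := by
        have := CharTwo.add_self_eq_zero (QuadraticMap.polar Q a b.1 ^ 2)
        linear_combination this
      rw [h4] at h3
      exact h3⟩ : {a' : V // ¬ Q a' ∈ WP F}))
    intro b₁ b₂ h
    have h3 : a + b₁.1 = a + b₂.1 := congrArg Subtype.val h
    exact Subtype.ext (add_left_cancel h3)
  have h3 := Fintype.card_subtype_compl (fun x : V => Q x ∈ WP F)
  rw [Nat.card_eq_fintype_card, Nat.card_eq_fintype_card] at h1 h2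
  rw [Nat.card_eq_fintype_card, Nat.card_eq_fintype_card] at hcount
  have h4 := Fintype.card_subtype_le (fun x : V => Q x ∈ WP F)
  omega

end Cfsg.Agent.Helper8.O2C
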