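import Mathlib
import Cfsg.Agent.Helper8.O2Trans
import Cfsg.Agent.Helper8.StdForms
set_option autoImplicit false

/-! Counting the vectors of the fixed space of an involution whose `Q`-value lies in the
Artin–Schreier subgroup (helper8). -/

universe u

namespace Cfsg.Agent.Helper8.O2C

open Module Cfsg.Agent.Helper8.StdForms

variable {F : Type*} [Field F] [CharP F 2] [Fintype F]

theorem two_mul_card_dot {n : ℕ} (w : Fin n → F) (hw : w ≠ 0) :
    2 * Nat.card {u : Fin n → F // u ⬝ᵥ w ∈ WP F} = Fintype.card F ^ n := by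
  obtain ⟨c₀, hc₀⟩ := exists_not_mem_WP (F := F)
  obtain ⟨i, hi⟩ : ∃ i, w i ≠ 0 := by
    by_contra h
    push Not at h
    exact hw (funext h)
  obtain ⟨u₀, hu₀⟩ : ∃ u₀ : Fin n → F, u₀ ⬝ᵥ w = c₀ := by
    refine ⟨Pi.single i (c₀ / w i), ?_⟩
    rw [single_dotProduct]
    field_simp
  rw [two_mul_card_wp (fun u : Fin n → F => u ⬝ᵥ w) (fun u => u + u₀) ?_ hc₀ ?_]
  · rw [Nat.card_eq_fintype_card, Fintype.card_fun, Fintype.card_fin]
  · intro u
    show u + u₀ + u₀ = u
    rw [add_assoc, add_self_V F, add_zero]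
  · intro u
    show (u + u₀) ⬝ᵥ w = u ⬝ᵥ w + c₀
    rw [add_dotProduct, hu₀]

/-- more than half of the vectors of the hyperbolic space have `Q` in the Artin–Schreier subgroup -/
theorem two_mul_card_plus (m : ℕ) :
    2 * Nat.card {v : Fin m ⊕ Fin m → F // plusForm F m v ∈ WP F} =
      Fintype.card F ^ m * (Fintype.card F ^ m + 1) := by
  classical
  have e : {v : Fin m ⊕ Fin m → F // plusForm F m v ∈ WP F} ≃
      Σ w : Fin m → F, {u : Fin m → F // u ⬝ᵥ w ∈ WP F} :=
    { toFun := fun v => ⟨v.1 ∘ Sum.inr, ⟨v.1 ∘ Sum.inl, by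
        have := v.2
        rw [plusForm_apply] at this
        exact this⟩⟩
      invFun := fun p => ⟨Sum.elim p.2.1 p.1, by
        rw [plusForm_apply]
        exact p.2.2⟩
      left_inv := by
        intro v
        apply Subtype.ext
        funext j
        rcases j with j | j <;> rfl
      right_inv := by
        rintro ⟨w, u, hu⟩
        rfl }
  rw [Nat.card_congr e, Nat.card_eq_fintype_card, Fintype.card_sigma,
    ← Finset.add_sum_erase Finset.univ _ (Finset.mem_univ (0 : Fin m → F)), mul_add,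
    Finset.mul_sum]
  have h0 : Fintype.card {u : Fin m → F // u ⬝ᵥ (0 : Fin m → F) ∈ WP F} = Fintype.card F ^ m := by
    have hc : Fintype.card F ^ m = Fintype.card (Fin m → F) := by
      rw [Fintype.card_fun, Fintype.card_fin]
    rw [hc]
    apply Fintype.card_congr
    exact Equiv.subtypeUnivEquiv (p := fun u : Fin m → F => u ⬝ᵥ (0 : Fin m → F) ∈ WP F)
      (fun u => by rw [dotProduct_zero]; exact zero_mem_WP)
  have h1 : ∀ w ∈ Finset.univ.erase (0 : Fin m → F),
      2 * Fintype.card {u : Fin m → F // u ⬝ᵥ w ∈ WP F} = Fintype.card F ^ m := by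
    intro w hw
    rw [← Nat.card_eq_fintype_card]
    exact two_mul_card_dot w (Finset.ne_of_mem_erase hw)
  rw [h0, Finset.sum_congr rfl h1, Finset.sum_const, Finset.card_erase_of_mem (Finset.mem_univ _),
    Finset.card_univ, Fintype.card_fun, Fintype.card_fin, smul_eq_mul]
  have hpos : 0 < Fintype.card F ^ m := pow_pos Fintype.card_pos m
  obtain ⟨k, hk⟩ : ∃ k, Fintype.card F ^ m = k + 1 := ⟨Fintype.card F ^ m - 1, by omega⟩
  rw [hk]
  simp only [Nat.add_sub_cancel]
  ring

variable {V : Type u} [AddCommGroup V] [Module F V] [FiniteDimensional F V]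

omit [CharP F 2] in
theorem card_ker_eq (N : Module.End F V) {n s : ℕ} (hV : finrank F V = n)
    (hs : finrank F (LinearMap.range N) = s) :
    Nat.card {a : V // N a = 0} = Fintype.card F ^ (n - s) := by
  have h1 : Nat.card {a : V // N a = 0} = Nat.card ↥(LinearMap.ker N) :=
    Nat.card_congr (Equiv.subtypeEquivRight (fun a => LinearMap.mem_ker.symm))
  rw [h1, Module.natCard_eq_pow_finrank (K := F), Nat.card_eq_fintype_card]
  congr 1
  have := LinearMap.finrank_range_add_finrank_ker N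
  omega

/-- non-alternating type: half of the fixed vectors -/
theorem two_mul_card_S_na (Q : QuadraticForm F V) (N : Module.End F V)
    (hsq : ∀ v, N (N v) = 0)
    (hsa : ∀ u v, QuadraticMap.polar Q (N u) v = QuadraticMap.polar Q u (N v))
    (hna : ∃ v, Q (N v) ≠ 0) :
    2 * Nat.card {a : V // N a = 0 ∧ Q a ∈ WP F} = Nat.card {a : V // N a = 0} := by
  have hfin : Finite V := Module.finite_of_finite F
  obtain ⟨c₀, hc₀⟩ := exists_not_mem_WP (F := F)
  obtain ⟨v₀, hv₀⟩ := hna
  obtain ⟨l₀, hl₀⟩ : ∃ l₀ : F, l₀ * l₀ * Q (N v₀) = c₀ := by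
    obtain ⟨d, hd⟩ := FiniteField.isSquare_of_char_two (ringChar.eq F 2) (c₀ / Q (N v₀))
    refine ⟨d, ?_⟩
    rw [← hd]
    field_simp
  have e : {a : V // N a = 0 ∧ Q a ∈ WP F} ≃ {x : {a : V // N a = 0} // Q x.1 ∈ WP F} :=
    (Equiv.subtypeSubtypeEquivSubtypeInter (fun a : V => N a = 0) (fun a => Q a ∈ WP F)).symm
  rw [Nat.card_congr e]
  apply two_mul_card_wp (fun x : {a : V // N a = 0} => Q x.1)
    (fun x => ⟨x.1 + l₀ • N v₀, by rw [map_add, map_smul, x.2, hsq, smul_zero, add_zero]⟩) ?_ hc₀ ?_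
  · intro x
    apply Subtype.ext
    show x.1 + l₀ • N v₀ + l₀ • N v₀ = x.1
    rw [add_assoc, add_self_V F, add_zero]
  · intro x
    show Q (x.1 + l₀ • N v₀) = Q x.1 + c₀
    rw [QuadraticMap.map_add Q, QuadraticMap.map_smul, QuadraticMap.polar_smul_right, ← hsa, x.2,
      QuadraticMap.polar_zero_left, smul_eq_mul, smul_eq_mul, mul_zero, add_zero, hl₀]

/-- alternating type -/
theorem two_mul_card_S_alt (Q : QuadraticForm F V)
    (hQ : (QuadraticMap.polarBilin Q).Nondegenerate) (N : Module.End F V)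
    (hsq : ∀ v, N (N v) = 0)
    (hsa : ∀ u v, QuadraticMap.polar Q (N u) v = QuadraticMap.polar Q u (N v))
    (halt : ∀ v, Q (N v) = 0) :
    2 * Nat.card {a : V // N a = 0 ∧ Q a ∈ WP F} + Nat.card V =
      2 * Nat.card {a : V // Q a ∈ WP F} + Nat.card {a : V // N a = 0} := by
  classical
  have hfin : Finite V := Module.finite_of_finite F
  have := Fintype.ofFinite V
  obtain ⟨c₀, hc₀⟩ := exists_not_mem_WP (F := F)
  have hpick : ∀ w : V, ∃ p : V, w ≠ 0 → QuadraticMap.polar Q w p = c₀ := by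
    intro w
    by_cases hw : w = 0
    · exact ⟨0, fun h => absurd hw h⟩
    · obtain ⟨p', hp'⟩ : ∃ p', QuadraticMap.polar Q w p' ≠ 0 := by
        by_contra hcon
        push Not at hcon
        exact hw (hQ.1 w hcon)
      refine ⟨(c₀ / QuadraticMap.polar Q w p') • p', fun _ => ?_⟩
      rw [QuadraticMap.polar_smul_right, smul_eq_mul]
      field_simp
  choose pick hpick using hpick
  have h1 : 2 * Nat.card {x : {a : V // ¬ N a = 0} // Q x.1 ∈ WP F} = Nat.card {a : V // ¬ N a = 0} := by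
    apply two_mul_card_wp (fun x : {a : V // ¬ N a = 0} => Q x.1)
      (fun x => ⟨x.1 + N (pick (N x.1)), by
        rw [map_add, hsq, add_zero]; exact x.2⟩) ?_ hc₀ ?_
    · intro x
      apply Subtype.ext
      show x.1 + N (pick (N x.1)) + N (pick (N (x.1 + N (pick (N x.1))))) = x.1
      rw [map_add N, hsq, add_zero, add_assoc, add_self_V F, add_zero]
    · intro x
      show Q (x.1 + N (pick (N x.1))) = Q x.1 + c₀
      rw [QuadraticMap.map_add Q, halt, add_zero, ← hsa, hpick _ x.2]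
  have e1 : {x : {a : V // ¬ N a = 0} // Q x.1 ∈ WP F} ≃ {a : V // ¬ N a = 0 ∧ Q a ∈ WP F} :=
    Equiv.subtypeSubtypeEquivSubtypeInter (fun a : V => ¬ N a = 0) (fun a => Q a ∈ WP F)
  rw [Nat.card_congr e1] at h1
  have h2 : Nat.card {a : V // Q a ∈ WP F} =
      Nat.card {a : V // N a = 0 ∧ Q a ∈ WP F} + Nat.card {a : V // ¬ N a = 0 ∧ Q a ∈ WP F} := by
    have e2 : {a : V // N a = 0 ∧ Q a ∈ WP F} ≃ {x : {a : V // Q a ∈ WP F} // N x.1 = 0} :=
      (Equiv.subtypeEquivRight (fun a => and_comm)).trans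
        (Equiv.subtypeSubtypeEquivSubtypeInter (fun a : V => Q a ∈ WP F) (fun a => N a = 0)).symm
    have e3 : {a : V // ¬ N a = 0 ∧ Q a ∈ WP F} ≃ {x : {a : V // Q a ∈ WP F} // ¬ N x.1 = 0} :=
      (Equiv.subtypeEquivRight (fun a => and_comm)).trans
        (Equiv.subtypeSubtypeEquivSubtypeInter (fun a : V => Q a ∈ WP F) (fun a => ¬ N a = 0)).symm
    rw [Nat.card_congr e2, Nat.card_congr e3, Nat.card_eq_fintype_card, Nat.card_eq_fintype_card,
      Nat.card_eq_fintype_card]
    have := Fintype.card_subtype_compl (fun x : {a : V // Q a ∈ WP F} => N x.1 = 0)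
    have hle := Fintype.card_subtype_le (fun x : {a : V // Q a ∈ WP F} => N x.1 = 0)
    omega
  have h3 : Nat.card V = Nat.card {a : V // N a = 0} + Nat.card {a : V // ¬ N a = 0} := by
    rw [Nat.card_eq_fintype_card, Nat.card_eq_fintype_card, Nat.card_eq_fintype_card]
    have := Fintype.card_subtype_compl (fun a : V => N a = 0)
    have hle := Fintype.card_subtype_le (fun a : V => N a = 0)
    omega
  omega

end Cfsg.Agent.Helper8.O2C
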