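import Mathlib
import Cfsg.Agent.Helper8.Sp2CntProp
set_option autoImplicit false

/-! The order of the group of isometries commuting with `N`, by type. -/

namespace Cfsg.Agent.Helper8.Sp2

open Module Cfsg.Agent.Helper8.SpS

universe u v

variable {F : Type v} [Field F] [Fintype F] [CharP F 2]
variable {V : Type u} [AddCommGroup V] [Module F V] [FiniteDimensional F V]

/-- alternating type -/
theorem card_autSet_alt {B : V →ₗ[F] V →ₗ[F] F} {N : Module.End F V} (hAlt : Alt B)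
    (hND : Nondeg B) (hsq : ∀ v, N (N v) = 0) (hsa : ∀ u v, B (N u) v = B u (N v))
    (halt : ∀ x, B x (N x) = 0) {m s : ℕ} (hm : finrank F V = 2 * m)
    (hs : finrank F (LinearMap.range N) = s) :
    Nat.card (AutSet B N) = cntA (Fintype.card F) (s / 2) (m - s) := by
  obtain ⟨l, r, hd, hne⟩ := exists_frame_TA _ V B N hAlt hND hsq hsa halt rfl
  have hrank := rank_of_frame hAlt (TA l r) (TA_inj l r) hd hne
  rw [TA_somes, hs] at hrank
  rw [card_autSet_eq hAlt hd hne, count_TA l r V B N hAlt hND hsq hsa hd hne]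
  rw [TA_fst] at hd
  have e1 : s / 2 = l := by omega
  have e2 : m - s = r := by omega
  rw [e1, e2]

/-- odd rank -/
theorem card_autSet_odd {B : V →ₗ[F] V →ₗ[F] F} {N : Module.End F V} (hAlt : Alt B)
    (hND : Nondeg B) (hsq : ∀ v, N (N v) = 0) (hsa : ∀ u v, B (N u) v = B u (N v))
    {m s : ℕ} (hm : finrank F V = 2 * m) (hs : finrank F (LinearMap.range N) = s)
    (hodd : Odd s) :
    Nat.card (AutSet B N) = cntB (Fintype.card F) ((s - 1) / 2) (m - s) := by
  have hna : ∃ v, B v (N v) ≠ 0 := by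
    by_contra hcon
    rw [not_exists] at hcon
    have halt : ∀ x, B x (N x) = 0 := fun x => not_not.mp (hcon x)
    obtain ⟨l, r, hd, hne⟩ := exists_frame_TA _ V B N hAlt hND hsq hsa halt rfl
    have hrank := rank_of_frame hAlt (TA l r) (TA_inj l r) hd hne
    rw [TA_somes, hs] at hrank
    obtain ⟨k, hk⟩ := hodd
    omega
  obtain ⟨K', s', E, Fv, hNF⟩ := exists_NF hperf' _ V B N hAlt hND hsq hsa rfl
  have hf1 := hNF.isFrame1 (Or.inl hna)
  have hK' := hNF.finrank_eq hAlt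
  have hs' := hNF.finrank_range hAlt
  have hs'K' : s' ≤ K' := hNF.2.2.2.1
  have hs's : s' = s := by rw [← hs', hs]
  subst hs's
  obtain ⟨l, r, hd, hne⟩ := exists_frame_TB hAlt hND hsq hsa hf1 hK' hs'K' hodd
  have hrank := rank_of_frame hAlt (TB l r) (TB_inj l r) hd hne
  rw [TB_somes, hs] at hrank
  rw [card_autSet_eq hAlt hd hne, count_TB l r V B N hAlt hND hsq hsa hd hne]
  rw [TB_fst] at hd
  have e1 : (s' - 1) / 2 = l := by omega
  have e2 : m - s' = r := by omega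
  rw [e1, e2]

/-- even rank, non-alternating type -/
theorem card_autSet_even_na {B : V →ₗ[F] V →ₗ[F] F} {N : Module.End F V} (hAlt : Alt B)
    (hND : Nondeg B) (hsq : ∀ v, N (N v) = 0) (hsa : ∀ u v, B (N u) v = B u (N v))
    {m s : ℕ} (hm : finrank F V = 2 * m) (hs : finrank F (LinearMap.range N) = s)
    (heven : Even s) (hna : ∃ v, B v (N v) ≠ 0) :
    Nat.card (AutSet B N) = cntC (Fintype.card F) ((s - 2) / 2) (m - s) := by
  obtain ⟨K', s', E, Fv, hNF⟩ := exists_NF hperf' _ V B N hAlt hND hsq hsa rfl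
  have hf1 := hNF.isFrame1 (Or.inl hna)
  have hK' := hNF.finrank_eq hAlt
  have hs' := hNF.finrank_range hAlt
  have hs'K' : s' ≤ K' := hNF.2.2.2.1
  have hs's : s' = s := by rw [← hs', hs]
  subst hs's
  -- a vector with `Q = 1`
  obtain ⟨v', hv'⟩ := hna
  obtain ⟨d, hd⟩ := hperf' (B v' (N v'))⁻¹
  have hQv : B (d • v') (N (d • v')) = 1 := by
    rw [Q_smul, hd, inv_mul_cancel₀ hv']
  have h₀ := isFrame_one0 hAlt hsq hQv
  obtain ⟨l, r, hdH, ⟨⟨⟨E', F'⟩, hp'⟩⟩, hl⟩ := exists_frame_perp_TB hperf' hAlt hND hsq hsa hf1 hK'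
    hs'K' heven h₀
  simp only at hp'
  have h2 := finrank_perpFam hAlt hND h₀.1
  have happ := h₀.append hAlt hp'.coe (fun j => ⟨(E' j).2, (F' j).2⟩)
  have hne : Nonempty (FrameSet B N (TC l r).2) := ⟨⟨(_, _), happ⟩⟩
  have hd2 : finrank F V = 2 * (TC l r).1 := by
    show finrank F V = 2 * (1 + (TB l r).1)
    omega
  rw [card_autSet_eq hAlt hd2 hne, count_TC l r V B N hAlt hND hsq hsa hd2 hne]
  rw [TC_fst] at hd2
  have e1 : (s' - 2) / 2 = l := by omega
  have e2 : m - s' = r := by omega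
  rw [e1, e2]

/-! ### closed forms -/

theorem spCard_zero (q : ℕ) : spCard q 0 = 1 := by
  simp [spCard]

theorem spCard_succ (q r : ℕ) :
    spCard q (r + 1) = (q ^ (2 * (r + 1)) - 1) * q ^ (2 * r + 1) * spCard q r := by
  unfold spCard
  rw [Fin.prod_univ_castSucc]
  simp only [Fin.val_castSucc, Fin.val_last]
  have e1 : (r + 1) ^ 2 = r ^ 2 + (2 * r + 1) := by ring
  rw [e1, pow_add q (r ^ 2) (2 * r + 1)]
  ring

theorem cntA_eq (q l r : ℕ) :
    cntA q l r = q ^ (2 * l ^ 2 + 4 * l * r + l) * spCard q l * spCard q r := by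
  induction l with
  | zero =>
    show spCard q r = _
    rw [spCard_zero]
    simp
  | succ l ih =>
    show (q ^ (2 * (2 * (l + 1) + r)) - q ^ (2 * (2 * (l + 1) + r) - 2 * (l + 1))) *
      q ^ (2 * (2 * l + r) + 2) * cntA q l r = _
    have e1 : 2 * (2 * (l + 1) + r) - 2 * (l + 1) = 2 * l + 2 * r + 2 := by omega
    have e2 : q ^ (2 * (2 * (l + 1) + r)) - q ^ (2 * l + 2 * r + 2) =
        q ^ (2 * l + 2 * r + 2) * (q ^ (2 * (l + 1)) - 1) := by
      rw [Nat.mul_sub, mul_one, ← pow_add]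
      congr 2
      ring
    rw [e1, e2, ih, spCard_succ]
    generalize q ^ (2 * (l + 1)) - 1 = X
    ring

theorem cntB_eq (q l r : ℕ) :
    cntB q l r = q ^ (2 * l ^ 2 + 4 * l * r + 3 * l + 2 * r + 1) * spCard q l * spCard q r := by
  rw [cntB, cntA_eq]
  ring

theorem cntC_eq (q l r : ℕ) :
    cntC q l r = q ^ (2 * l ^ 2 + 4 * l * r + 7 * l + 4 * r + 4) * spCard q l * spCard q r := by
  rw [cntC, cntB_eq]
  ring

/-! ### the exponents -/

theorem expA (l r : ℕ) :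
    2 * (2 * l + r) * (2 * l) - (3 * (2 * l) ^ 2 - 2 * l) / 2 = 2 * l ^ 2 + 4 * l * r + l := by
  have h1 : 3 * (2 * l) ^ 2 - 2 * l = 2 * (6 * (l * l) - l) := by
    rw [Nat.mul_sub]
    congr 1
    ring
  rw [h1, Nat.mul_div_cancel_left _ (by norm_num : 0 < 2)]
  have e1 : 2 * (2 * l + r) * (2 * l) = 8 * (l * l) + 4 * (l * r) := by ring
  have e3 : 2 * l ^ 2 + 4 * l * r + l = 2 * (l * l) + 4 * (l * r) + l := by ring
  have e4 : l ≤ l * l := Nat.le_mul_self l
  rw [e1, e3]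
  generalize l * l = a at *
  generalize l * r = b
  omega

theorem expB (l r : ℕ) :
    2 * (1 + 2 * l + r) * (2 * l + 1) - (3 * (2 * l + 1) ^ 2 - (2 * l + 1)) / 2 =
      2 * l ^ 2 + 4 * l * r + 3 * l + 2 * r + 1 := by
  have h1 : 3 * (2 * l + 1) ^ 2 - (2 * l + 1) = 2 * (6 * (l * l) + 5 * l + 1) := by
    have : 3 * (2 * l + 1) ^ 2 = 2 * (6 * (l * l) + 5 * l + 1) + (2 * l + 1) := by ring
    rw [this, Nat.add_sub_cancel]
  rw [h1, Nat.mul_div_cancel_left _ (by norm_num : 0 < 2)]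
  have e1 : 2 * (1 + 2 * l + r) * (2 * l + 1) = 8 * (l * l) + 4 * (l * r) + 8 * l + 2 * r + 2 := by
    ring
  have e3 : 2 * l ^ 2 + 4 * l * r + 3 * l + 2 * r + 1 =
      2 * (l * l) + 4 * (l * r) + 3 * l + 2 * r + 1 := by ring
  rw [e1, e3]
  generalize l * l = a at *
  generalize l * r = b
  omega

theorem expC (l r : ℕ) :
    2 * (2 + 2 * l + r) * (2 * l + 2) - (3 * (2 * l + 2) ^ 2 - 3 * (2 * l + 2)) / 2 - 1 =
      2 * l ^ 2 + 4 * l * r + 7 * l + 4 * r + 4 := by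
  have h1 : 3 * (2 * l + 2) ^ 2 - 3 * (2 * l + 2) = 2 * (6 * (l * l) + 9 * l + 3) := by
    have : 3 * (2 * l + 2) ^ 2 = 2 * (6 * (l * l) + 9 * l + 3) + 3 * (2 * l + 2) := by ring
    rw [this, Nat.add_sub_cancel]
  rw [h1, Nat.mul_div_cancel_left _ (by norm_num : 0 < 2)]
  have e1 : 2 * (2 + 2 * l + r) * (2 * l + 2) =
      8 * (l * l) + 4 * (l * r) + 16 * l + 4 * r + 8 := by
    ring
  have e3 : 2 * l ^ 2 + 4 * l * r + 7 * l + 4 * r + 4 =
      2 * (l * l) + 4 * (l * r) + 7 * l + 4 * r + 4 := by ring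
  rw [e1, e3]
  generalize l * l = a at *
  generalize l * r = b
  omega

end Cfsg.Agent.Helper8.Sp2
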