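import Mathlib
import Cfsg.Agent.Helper8.O2CountS
import Cfsg.Agent.Helper8.O2OmegaPlus
import Cfsg.Agent.Helper8.Sp2CntMain
set_option autoImplicit false

/-! Centralisers of involutions in `O⁺_2m(q)` and `Ω⁺_2m(q)`, `q` even (helper8). -/

namespace Cfsg.Agent.Helper8.O2C

open Module Matrix Cfsg.Agent.Helper8.SpS Cfsg.Agent.Helper8.Sp2 Cfsg.Agent.Helper8.StdForms
  Cfsg.Agent.Helper8.ReflMatrix Cfsg.Agent.Helper8.OmegaEven Cfsg.Agent.Helper8.O2
  Cfsg.Agent.Helper8.OrthOrder

section generic

variable {F : Type*} [Field F] {ι : Type} [Fintype ι] [DecidableEq ι]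
variable (Q : QuadraticForm F (ι → F))

/-- the centraliser in the orthogonal group as the set of isometries commuting with `x - 1` -/
theorem card_cent_eq_oautSet (hQ : (QuadraticMap.polarBilin Q).Nondegenerate)
    (x : ↥(Cfsg.isometryGroup F ⇑Q)) :
    Nat.card {g : ↥(Cfsg.isometryGroup F ⇑Q) // g * x = x * g} =
      Nat.card (OAutSet Q (opN Q x)) := by
  apply Nat.card_eq_of_bijective
    (fun g : {g : ↥(Cfsg.isometryGroup F ⇑Q) // g * x = x * g} =>
      (⟨Matrix.toLin' ((g.1 : GL ι F) : Matrix ι ι F), by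
        intro v
        rw [Matrix.toLin'_apply]
        exact Q_mulVec Q g.1 v, by
        intro u
        have h2 : ((g.1 : GL ι F) : Matrix ι ι F) * ((x : GL ι F) : Matrix ι ι F) =
            ((x : GL ι F) : Matrix ι ι F) * ((g.1 : GL ι F) : Matrix ι ι F) :=
          congrArg (fun y : ↥(Cfsg.isometryGroup F ⇑Q) => ((y : GL ι F) : Matrix ι ι F)) g.2
        rw [O2.opN_apply, O2.opN_apply, Matrix.toLin'_apply, Matrix.toLin'_apply, Matrix.mulVec_sub,
          Matrix.mulVec_mulVec, Matrix.mulVec_mulVec, h2]⟩ : OAutSet Q (opN Q x)))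
  constructor
  · intro g h hgh
    have h1 := congrArg Subtype.val hgh
    simp only [] at h1
    exact Subtype.ext (Subtype.ext (Units.ext (Matrix.toLin'.injective h1)))
  · intro z
    have hinj : Function.Injective z.1 := by
      rw [injective_iff_map_eq_zero]
      intro u hu
      apply hQ.1
      intro v
      show QuadraticMap.polar Q u v = 0
      rw [← polar_of_Q Q z.2.1, hu, QuadraticMap.polar_zero_left]
    obtain ⟨e, he⟩ : ∃ e : (ι → F) ≃ₗ[F] (ι → F), ∀ v, e v = z.1 v :=
      ⟨LinearEquiv.ofInjectiveEndo z.1 hinj, fun v => rfl⟩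
    have heI : e ∈ Isom Q := fun v => by rw [he]; exact z.2.1 v
    obtain ⟨g, hg⟩ : ∃ g : ↥(Cfsg.isometryGroup F ⇑Q), isomEquiv Q g = ⟨e, heI⟩ :=
      ⟨(isomEquiv Q).symm ⟨e, heI⟩, MulEquiv.apply_symm_apply _ _⟩
    have hgv : ∀ v, ((g : GL ι F) : Matrix ι ι F) *ᵥ v = z.1 v := by
      intro v
      rw [← isomEquiv_apply, hg]
      exact he v
    refine ⟨⟨g, ?_⟩, ?_⟩
    · apply Subtype.ext
      apply Units.ext
      show ((g : GL ι F) : Matrix ι ι F) * ((x : GL ι F) : Matrix ι ι F) =
        ((x : GL ι F) : Matrix ι ι F) * ((g : GL ι F) : Matrix ι ι F)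
      apply matrix_ext
      intro v
      have h1 := z.2.2 v
      rw [O2.opN_apply, O2.opN_apply, map_sub] at h1
      simp only [← hgv] at h1
      rw [← Matrix.mulVec_mulVec, ← Matrix.mulVec_mulVec]
      exact sub_left_injective h1
    · apply Subtype.ext
      apply LinearMap.ext
      intro v
      show Matrix.toLin' ((g : GL ι F) : Matrix ι ι F) v = z.1 v
      rw [Matrix.toLin'_apply, hgv]

end generic

/-- the centraliser in a subgroup of index two defined by a sign character -/
theorem card_cent_eq_two_mul {G : Type*} [Group G] [Finite G] (H : Subgroup G) (D : G →* ℤˣ)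
    (hH : ∀ g, g ∈ H ↔ D g = 1) (x r : G) (hr : r * x = x * r) (hDr : D r = -1) :
    Nat.card {g : G // g * x = x * g} =
      2 * Nat.card {g : ↥H // (g : G) * x = x * (g : G)} := by
  classical
  have := Fintype.ofFinite G
  have e1 : {g : ↥H // (g : G) * x = x * (g : G)} ≃
      {g : {g : G // g * x = x * g} // D g.1 = 1} :=
    { toFun := fun g => ⟨⟨g.1.1, g.2⟩, (hH _).mp g.1.2⟩
      invFun := fun g => ⟨⟨g.1.1, (hH _).mpr g.2⟩, g.1.2⟩
      left_inv := fun g => rfl
      right_inv := fun g => rfl }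
  have e2 : {g : {g : G // g * x = x * g} // D g.1 = 1} ≃
      {g : {g : G // g * x = x * g} // ¬ D g.1 = 1} :=
    { toFun := fun g => ⟨⟨r * g.1.1, by rw [mul_assoc, g.1.2, ← mul_assoc, hr, mul_assoc]⟩, by
        show ¬ D (r * g.1.1) = 1
        rw [map_mul, g.2, hDr]
        decide⟩
      invFun := fun g => ⟨⟨r⁻¹ * g.1.1, by
        have hr' : r⁻¹ * x = x * r⁻¹ := by
          rw [eq_mul_inv_iff_mul_eq, mul_assoc, ← hr, ← mul_assoc, inv_mul_cancel, one_mul]
        rw [mul_assoc, g.1.2, ← mul_assoc, hr', mul_assoc]⟩, by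
        show D (r⁻¹ * g.1.1) = 1
        rw [map_mul, map_inv, hDr]
        rcases Int.units_eq_one_or (D g.1.1) with h | h
        · exact absurd h g.2
        · rw [h]; rfl⟩
      left_inv := by
        intro g
        apply Subtype.ext
        apply Subtype.ext
        show r⁻¹ * (r * g.1.1) = g.1.1
        rw [inv_mul_cancel_left]
      right_inv := by
        intro g
        apply Subtype.ext
        apply Subtype.ext
        show r * (r⁻¹ * g.1.1) = g.1.1
        rw [mul_inv_cancel_left] }
  have h3 := Fintype.card_subtype_compl (fun g : {g : G // g * x = x * g} => D g.1 = 1)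
  have h4 := Fintype.card_subtype_le (fun g : {g : G // g * x = x * g} => D g.1 = 1)
  have h5 := Fintype.card_congr e2
  rw [Nat.card_congr e1, Nat.card_eq_fintype_card, Nat.card_eq_fintype_card]
  omega

theorem card_cent_eq_of_le {G : Type*} [Group G] (H : Subgroup G) (x : G)
    (hle : ∀ g : G, g * x = x * g → g ∈ H) :
    Nat.card {g : G // g * x = x * g} = Nat.card {g : ↥H // (g : G) * x = x * (g : G)} := by
  apply Nat.card_congr
  exact
    { toFun := fun g => ⟨⟨g.1, hle g.1 g.2⟩, g.2⟩
      invFun := fun g => ⟨g.1.1, g.2⟩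
      left_inv := fun g => rfl
      right_inv := fun g => rfl }

end Cfsg.Agent.Helper8.O2C
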