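import Mathlib
import Cfsg.Agent.Helper8.O2Cent
set_option autoImplicit false

/-! Orders of the centralisers of involutions in `Ω⁺_2m(q)`, `q` even (helper8). -/

namespace Cfsg.Agent.Helper8.O2C

open Module Matrix Cfsg.Agent.Helper8.SpS Cfsg.Agent.Helper8.Sp2 Cfsg.Agent.Helper8.StdForms
  Cfsg.Agent.Helper8.ReflMatrix Cfsg.Agent.Helper8.OmegaEven Cfsg.Agent.Helper8.O2
  Cfsg.Agent.Helper8.OrthOrder Cfsg.Agent.Helper8.MaxSingular

variable {F : Type*} [Field F] [Fintype F] [CharP F 2] {m : ℕ}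

local notation "PI" m => Fin m ⊕ Fin m

omit [Field F] [CharP F 2] in
theorem card_space : Nat.card ((PI m) → F) = Fintype.card F ^ (2 * m) := by
  rw [Nat.card_eq_fintype_card, Fintype.card_fun, Fintype.card_sum, Fintype.card_fin, two_mul]

/-- the symplectic centraliser fibres over the orthogonal one -/
theorem card_autSet_plus (x : ↥(Cfsg.isometryGroup F ⇑(plusForm F m))) (hx : x ^ 2 = 1) :
    Nat.card (AutSet (QuadraticMap.polarBilin (plusForm F m)) (O2.opN _ x)) =
      Nat.card {a : (PI m) → F // O2.opN (plusForm F m) x a = 0 ∧ plusForm F m a ∈ WP F} *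
        Nat.card {g : ↥(Cfsg.isometryGroup F ⇑(plusForm F m)) // g * x = x * g} := by
  rw [card_cent_eq_oautSet _ (plusForm_nondeg F m)]
  apply card_autSet_eq_mul _ (plusForm_nondeg F m) _ (opN_sa _ x hx)
  · intro v
    rw [O2.opN_apply, add_sub_cancel]
    exact Q_mulVec _ x v
  · intro z hz a ha
    apply mem_WP_of_card _ (plusForm_nondeg F m) _ z hz a ha
    rw [two_mul_card_plus, card_space, two_mul, pow_add, mul_add, mul_one]
    have : 0 < Fintype.card F ^ m := pow_pos Fintype.card_pos m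
    omega

omit [Fintype F] in
theorem rk_le (x : ↥(Cfsg.isometryGroup F ⇑(plusForm F m))) (hx : x ^ 2 = 1) :
    rk _ x ≤ m := by
  have := two_mul_rk_le _ x hx
  rw [card_PI] at this
  omega

/-- non-alternating types `b_s`, `c_s` -/
theorem card_cent_omega_na (hm : 1 ≤ m) (hex : Fintype.card F ≠ 2 ∨ m ≠ 2)
    (x : ↥(Cfsg.isometryGroup F ⇑(plusForm F m))) (hx : x ^ 2 = 1)
    (hna : ∃ v, plusForm F m (O2.opN _ x v) ≠ 0) :
    Nat.card (AutSet (QuadraticMap.polarBilin (plusForm F m)) (O2.opN _ x)) =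
      Fintype.card F ^ (2 * m - rk _ x) *
        Nat.card {g : ↥(commutator ↥(Cfsg.isometryGroup F ⇑(plusForm F m))) //
          (g : ↥(Cfsg.isometryGroup F ⇑(plusForm F m))) * x =
            x * (g : ↥(Cfsg.isometryGroup F ⇑(plusForm F m)))} := by
  have hnalt : ¬ IsAltType _ x := by
    intro h
    obtain ⟨v, hv⟩ := hna
    apply hv
    rw [Q_opN, polar_opN]
    exact h v
  obtain ⟨z, hz, hxz⟩ := exists_fixed_of_not_alt _ x hx hnalt
  have h1 := card_cent_eq_two_mul (commutator ↥(Cfsg.isometryGroup F ⇑(plusForm F m)))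
    (dicksonMat (plusForm F m) two_eq_zero' (plusForm_nondeg F m))
    (mem_omega_plus_iff hm hex) x (reflElt _ z) (reflElt_comm _ x hxz)
    (dicksonMat_reflElt _ _ _ hz)
  have h2 := two_mul_card_S_na (plusForm F m) (O2.opN _ x) (opN_sq _ x hx) (opN_sa _ x hx) hna
  have h3 := card_ker_eq (O2.opN (plusForm F m) x) (n := 2 * m) (s := rk (plusForm F m) x)
    (finrank_plus F m) (rank_eq_finrank _ x).symm
  rw [card_autSet_plus x hx, h1]
  have h4 : 2 * (Nat.card {a : (PI m) → F // O2.opN (plusForm F m) x a = 0 ∧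
      plusForm F m a ∈ WP F} * (2 * Nat.card {g : ↥(commutator
        ↥(Cfsg.isometryGroup F ⇑(plusForm F m))) //
          (g : ↥(Cfsg.isometryGroup F ⇑(plusForm F m))) * x =
            x * (g : ↥(Cfsg.isometryGroup F ⇑(plusForm F m)))})) =
      2 * (Fintype.card F ^ (2 * m - rk _ x) *
        Nat.card {g : ↥(commutator ↥(Cfsg.isometryGroup F ⇑(plusForm F m))) //
          (g : ↥(Cfsg.isometryGroup F ⇑(plusForm F m))) * x =
            x * (g : ↥(Cfsg.isometryGroup F ⇑(plusForm F m)))}) := by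
    rw [← h3, ← h2]
    ring
  exact Nat.eq_of_mul_eq_mul_left (by norm_num) h4

theorem two_mul_card_S_alt_plus (x : ↥(Cfsg.isometryGroup F ⇑(plusForm F m))) (hx : x ^ 2 = 1)
    (halt : ∀ v, plusForm F m (O2.opN _ x v) = 0) :
    2 * Nat.card {a : (PI m) → F // O2.opN (plusForm F m) x a = 0 ∧ plusForm F m a ∈ WP F} =
      Fintype.card F ^ m * (Fintype.card F ^ (m - rk _ x) + 1) := by
  have h2 := two_mul_card_S_alt (plusForm F m) (plusForm_nondeg F m) (O2.opN _ x)
    (opN_sq _ x hx) (opN_sa _ x hx) halt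
  have h3 := card_ker_eq (O2.opN (plusForm F m) x) (n := 2 * m) (s := rk (plusForm F m) x)
    (finrank_plus F m) (rank_eq_finrank _ x).symm
  rw [h3, two_mul_card_plus, card_space] at h2
  have hle := rk_le x hx
  have e1 : 2 * m = m + m := two_mul m
  have e2 : 2 * m - rk _ x = m + (m - rk _ x) := by omega
  rw [e2, e1, pow_add, pow_add] at h2
  have h4 : 2 * Nat.card {a : (PI m) → F // O2.opN (plusForm F m) x a = 0 ∧
      plusForm F m a ∈ WP F} + Fintype.card F ^ m * Fintype.card F ^ m =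
      Fintype.card F ^ m * (Fintype.card F ^ (m - rk _ x) + 1) +
        Fintype.card F ^ m * Fintype.card F ^ m := by
    rw [h2]
    ring
  exact Nat.add_right_cancel h4

/-- type `a_s`, `s < m` -/
theorem card_cent_omega_alt_lt (hm : 1 ≤ m) (hex : Fintype.card F ≠ 2 ∨ m ≠ 2)
    (x : ↥(Cfsg.isometryGroup F ⇑(plusForm F m))) (hx : x ^ 2 = 1)
    (halt : ∀ v, plusForm F m (O2.opN _ x v) = 0) (hlt : rk _ x < m) :
    Nat.card (AutSet (QuadraticMap.polarBilin (plusForm F m)) (O2.opN _ x)) =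
      Fintype.card F ^ m * (Fintype.card F ^ (m - rk _ x) + 1) *
        Nat.card {g : ↥(commutator ↥(Cfsg.isometryGroup F ⇑(plusForm F m))) //
          (g : ↥(Cfsg.isometryGroup F ⇑(plusForm F m))) * x =
            x * (g : ↥(Cfsg.isometryGroup F ⇑(plusForm F m)))} := by
  obtain ⟨z, hz, hxz⟩ := exists_fixed_plus x hx (fun h => absurd h.1 (by omega))
  have h1 := card_cent_eq_two_mul (commutator ↥(Cfsg.isometryGroup F ⇑(plusForm F m)))
    (dicksonMat (plusForm F m) two_eq_zero' (plusForm_nondeg F m))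
    (mem_omega_plus_iff hm hex) x (reflElt _ z) (reflElt_comm _ x hxz)
    (dicksonMat_reflElt _ _ _ hz)
  rw [card_autSet_plus x hx, h1, ← two_mul_card_S_alt_plus x hx halt]
  ring

/-- type `a_m` -/
theorem card_cent_omega_alt_eq (hm : 1 ≤ m) (hex : Fintype.card F ≠ 2 ∨ m ≠ 2)
    (x : ↥(Cfsg.isometryGroup F ⇑(plusForm F m))) (hx : x ^ 2 = 1)
    (halt : ∀ v, plusForm F m (O2.opN _ x v) = 0) (heq : rk _ x = m) :
    Nat.card (AutSet (QuadraticMap.polarBilin (plusForm F m)) (O2.opN _ x)) =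
      Fintype.card F ^ m *
        Nat.card {g : ↥(commutator ↥(Cfsg.isometryGroup F ⇑(plusForm F m))) //
          (g : ↥(Cfsg.isometryGroup F ⇑(plusForm F m))) * x =
            x * (g : ↥(Cfsg.isometryGroup F ⇑(plusForm F m)))} := by
  have haltT : IsAltType _ x := by
    intro v
    rw [← polar_opN, ← Q_opN]
    exact halt v
  have hU : IsMTS (plusForm F m) m (LinearMap.range (O2.opN _ x)) := by
    have := isMTS_range_opN _ x haltT
    rw [heq] at this
    exact this
  have h1 := card_cent_eq_of_le (commutator ↥(Cfsg.isometryGroup F ⇑(plusForm F m))) x (by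
    intro g hg
    rw [mem_omega_plus_iff_inf hm hex _ hU g,
      ← range_opN_conj _ g x x (by rw [hg, mul_assoc, mul_inv_cancel, mul_one]), inf_idem, hU.1,
      Nat.sub_self]
    exact Even.zero)
  have h2 := two_mul_card_S_alt_plus x hx halt
  rw [heq, Nat.sub_self, pow_zero] at h2
  have h3 : Nat.card {a : (PI m) → F // O2.opN (plusForm F m) x a = 0 ∧
      plusForm F m a ∈ WP F} = Fintype.card F ^ m := by omega
  rw [card_autSet_plus x hx, h1, h3]

end Cfsg.Agent.Helper8.O2C
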