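import Mathlib
import Cfsg.Agent.Helper8.O2CentPlus
set_option autoImplicit false

/-! Closed formulas for the orders of the centralisers of involutions in `Ω⁺_2m(q)`, `q` even. -/

namespace Cfsg.Agent.Helper8.O2C

open Module Matrix Cfsg.Agent.Helper8.SpS Cfsg.Agent.Helper8.Sp2 Cfsg.Agent.Helper8.StdForms
  Cfsg.Agent.Helper8.ReflMatrix Cfsg.Agent.Helper8.OmegaEven Cfsg.Agent.Helper8.O2
  Cfsg.Agent.Helper8.OrthOrder Cfsg.Agent.Helper8.MaxSingular

/-! ### exponents -/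

theorem expOB (l r : ℕ) :
    2 * (1 + 2 * l + r) * (2 * l + 1 - 1) - (3 * (2 * l + 1) ^ 2 - 3 * (2 * l + 1)) / 2 =
      2 * l ^ 2 + 4 * l * r + l := by
  have h1 : 3 * (2 * l + 1) ^ 2 - 3 * (2 * l + 1) = 2 * (6 * (l * l) + 3 * l) := by
    have : 3 * (2 * l + 1) ^ 2 = 2 * (6 * (l * l) + 3 * l) + 3 * (2 * l + 1) := by ring
    rw [this, Nat.add_sub_cancel]
  rw [h1, Nat.mul_div_cancel_left _ (by norm_num : 0 < 2), Nat.add_sub_cancel]
  have : 2 * (1 + 2 * l + r) * (2 * l) = (2 * l ^ 2 + 4 * l * r + l) + (6 * (l * l) + 3 * l) := by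
    ring
  rw [this, Nat.add_sub_cancel]

theorem expOC (l r : ℕ) :
    2 * (2 + 2 * l + r) * (2 * l + 2 - 1) - (3 * (2 * l + 2) ^ 2 - 5 * (2 * l + 2)) / 2 - 1 =
      2 * l ^ 2 + 4 * l * r + 5 * l + 2 * r + 2 := by
  have h1 : 3 * (2 * l + 2) ^ 2 - 5 * (2 * l + 2) = 2 * (6 * (l * l) + 7 * l + 1) := by
    have : 3 * (2 * l + 2) ^ 2 = 2 * (6 * (l * l) + 7 * l + 1) + 5 * (2 * l + 2) := by ring
    rw [this, Nat.add_sub_cancel]
  rw [h1, Nat.mul_div_cancel_left _ (by norm_num : 0 < 2)]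
  have h2 : 2 * l + 2 - 1 = 2 * l + 1 := by omega
  rw [h2]
  have : 2 * (2 + 2 * l + r) * (2 * l + 1) =
      (2 * l ^ 2 + 4 * l * r + 5 * l + 2 * r + 2) + 1 + (6 * (l * l) + 7 * l + 1) := by
    ring
  rw [this, Nat.add_sub_cancel, Nat.add_sub_cancel]

theorem expOA (l r : ℕ) :
    2 * (2 * l + r) * (2 * l) - (3 * (2 * l) ^ 2 + 2 * l) / 2 + l = 2 * l ^ 2 + 4 * l * r := by
  have h1 : 3 * (2 * l) ^ 2 + 2 * l = 2 * (6 * (l * l) + l) := by ring
  rw [h1, Nat.mul_div_cancel_left _ (by norm_num : 0 < 2)]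
  have : 2 * (2 * l + r) * (2 * l) = (2 * l ^ 2 + 4 * l * r) + (6 * (l * l)) := by ring
  rw [this]
  have h3 : l ≤ 2 * l ^ 2 + 4 * l * r := by nlinarith
  omega

variable {F : Type*} [Field F] [Fintype F] [CharP F 2] {m : ℕ}

local notation "PI" m => Fin m ⊕ Fin m

omit [Fintype F] in
theorem alt_of_Q (x : ↥(Cfsg.isometryGroup F ⇑(plusForm F m)))
    (halt : ∀ v, plusForm F m (O2.opN _ x v) = 0) : IsAltType _ x := by
  intro v
  rw [← polar_opN, ← Q_opN]
  exact halt v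

omit [Fintype F] [CharP F 2] in
theorem opN_eq_mulVec (x : ↥(Cfsg.isometryGroup F ⇑(plusForm F m))) (v : (PI m) → F) :
    O2.opN (plusForm F m) x v =
      (((x : GL (PI m) F) : Matrix (PI m) (PI m) F) - 1).mulVec v := by
  rw [O2.opN, Matrix.toLin'_apply]

/-- type `b_s` -/
theorem card_cent_omega_odd {q : ℕ} (hF : Fintype.card F = q) {s : ℕ}
    (hex : Fintype.card F ≠ 2 ∨ m ≠ 2)
    (x : ↥(Cfsg.isometryGroup F ⇑(plusForm F m))) (hx : x ^ 2 = 1)
    (hs : (((x : GL (PI m) F) : Matrix (PI m) (PI m) F) - 1).rank = s) (hodd : Odd s) :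
    Nat.card {g : ↥(commutator ↥(Cfsg.isometryGroup F ⇑(plusForm F m))) //
        (g : ↥(Cfsg.isometryGroup F ⇑(plusForm F m))) * x =
          x * (g : ↥(Cfsg.isometryGroup F ⇑(plusForm F m)))} =
      q ^ (2 * m * (s - 1) - (3 * s ^ 2 - 3 * s) / 2) * spCard q ((s - 1) / 2) *
        spCard q (m - s) := by
  have hQ := plusForm_nondeg F m
  have hrk : rk (plusForm F m) x = s := hs
  have hsm : s ≤ m := by rw [← hrk]; exact rk_le x hx
  have hna : ∃ v, plusForm F m (O2.opN _ x v) ≠ 0 := by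
    by_contra hcon
    push Not at hcon
    have := even_rk_of_alt _ hQ x hx (alt_of_Q x hcon)
    rw [hrk] at this
    exact (Nat.not_even_iff_odd.mpr hodd) this
  obtain ⟨l, hl⟩ := hodd
  have hm : 1 ≤ m := by omega
  have h1 := card_cent_omega_na hm hex x hx hna
  have hs' : finrank F (LinearMap.range (O2.opN (plusForm F m) x)) = s := by
    rw [← O2.rank_eq_finrank, hs]
  have h2 := card_autSet_odd (B := QuadraticMap.polarBilin (plusForm F m))
    (N := O2.opN (plusForm F m) x) (alt_polar _) (nondeg_polar _ hQ) (opN_sq _ x hx)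
    (opN_sa _ x hx) (finrank_plus F m) hs' ⟨l, hl⟩
  rw [h1, hF, cntB_eq, hrk] at h2
  obtain ⟨r, hr⟩ : ∃ r, m = 1 + 2 * l + r := ⟨m - s, by omega⟩
  have e1 : (s - 1) / 2 = l := by omega
  have e2 : m - s = r := by omega
  have e3 : 2 * m - s = 2 * l + 2 * r + 1 := by omega
  rw [e1, e2, e3] at h2
  have hexp : 2 * m * (s - 1) - (3 * s ^ 2 - 3 * s) / 2 = 2 * l ^ 2 + 4 * l * r + l := by
    rw [hl, hr]
    exact expOB l r
  rw [e1, e2, hexp]
  have hq : 0 < q ^ (2 * l + 2 * r + 1) := by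
    apply pow_pos
    rw [← hF]
    exact Fintype.card_pos
  apply Nat.eq_of_mul_eq_mul_left hq
  rw [h2]
  have : 2 * l ^ 2 + 4 * l * r + 3 * l + 2 * r + 1 =
      (2 * l + 2 * r + 1) + (2 * l ^ 2 + 4 * l * r + l) := by ring
  rw [this, pow_add]
  ring

/-- type `c_s` -/
theorem card_cent_omega_even_na {q : ℕ} (hF : Fintype.card F = q) {s : ℕ}
    (hex : Fintype.card F ≠ 2 ∨ m ≠ 2)
    (x : ↥(Cfsg.isometryGroup F ⇑(plusForm F m))) (hx : x ^ 2 = 1)
    (hs : (((x : GL (PI m) F) : Matrix (PI m) (PI m) F) - 1).rank = s) (heven : Even s)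
    (hna : ∃ v, plusForm F m (O2.opN _ x v) ≠ 0) :
    Nat.card {g : ↥(commutator ↥(Cfsg.isometryGroup F ⇑(plusForm F m))) //
        (g : ↥(Cfsg.isometryGroup F ⇑(plusForm F m))) * x =
          x * (g : ↥(Cfsg.isometryGroup F ⇑(plusForm F m)))} =
      q ^ (2 * m * (s - 1) - (3 * s ^ 2 - 5 * s) / 2 - 1) * spCard q ((s - 2) / 2) *
        spCard q (m - s) := by
  have hQ := plusForm_nondeg F m
  have hrk : rk (plusForm F m) x = s := hs
  have hsm : s ≤ m := by rw [← hrk]; exact rk_le x hx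
  have hs' : finrank F (LinearMap.range (O2.opN (plusForm F m) x)) = s := by
    rw [← O2.rank_eq_finrank, hs]
  have hs0 : s ≠ 0 := by
    intro h0
    obtain ⟨v, hv⟩ := hna
    apply hv
    have h1 : LinearMap.range (O2.opN (plusForm F m) x) = ⊥ :=
      Submodule.finrank_eq_zero.mp (by rw [hs', h0])
    have h2 : O2.opN (plusForm F m) x v ∈ LinearMap.range (O2.opN (plusForm F m) x) := ⟨v, rfl⟩
    rw [h1] at h2
    rw [(Submodule.mem_bot F).mp h2, map_zero]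
  obtain ⟨k, hk⟩ := heven
  have hm : 1 ≤ m := by omega
  have h1 := card_cent_omega_na hm hex x hx hna
  have hna' : ∃ v, QuadraticMap.polarBilin (plusForm F m) v (O2.opN (plusForm F m) x v) ≠ 0 := by
    obtain ⟨v, hv⟩ := hna
    refine ⟨v, ?_⟩
    show QuadraticMap.polar (plusForm F m) v (O2.opN (plusForm F m) x v) ≠ 0
    rw [← Q_opN]
    exact hv
  have h2 := card_autSet_even_na (B := QuadraticMap.polarBilin (plusForm F m))
    (N := O2.opN (plusForm F m) x) (alt_polar _) (nondeg_polar _ hQ) (opN_sq _ x hx)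
    (opN_sa _ x hx) (finrank_plus F m) hs' ⟨k, hk⟩ hna'
  rw [h1, hF, cntC_eq, hrk] at h2
  obtain ⟨l, hl⟩ : ∃ l, s = 2 * l + 2 := ⟨k - 1, by omega⟩
  obtain ⟨r, hr⟩ : ∃ r, m = 2 + 2 * l + r := ⟨m - s, by omega⟩
  have e1 : (s - 2) / 2 = l := by omega
  have e2 : m - s = r := by omega
  have e3 : 2 * m - s = 2 * l + 2 * r + 2 := by omega
  rw [e1, e2, e3] at h2
  have hexp : 2 * m * (s - 1) - (3 * s ^ 2 - 5 * s) / 2 - 1 =
      2 * l ^ 2 + 4 * l * r + 5 * l + 2 * r + 2 := by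
    rw [hl, hr]
    exact expOC l r
  rw [e1, e2, hexp]
  have hq : 0 < q ^ (2 * l + 2 * r + 2) := by
    apply pow_pos
    rw [← hF]
    exact Fintype.card_pos
  apply Nat.eq_of_mul_eq_mul_left hq
  rw [h2]
  have : 2 * l ^ 2 + 4 * l * r + 7 * l + 4 * r + 4 =
      (2 * l + 2 * r + 2) + (2 * l ^ 2 + 4 * l * r + 5 * l + 2 * r + 2) := by ring
  rw [this, pow_add]
  ring

theorem pow_sub_one_mul (q r : ℕ) (hq : 0 < q) :
    (q ^ r - 1) * (q ^ r + 1) = q ^ (2 * r) - 1 := by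
  obtain ⟨b, hb⟩ : ∃ b, q ^ r = b + 1 := ⟨q ^ r - 1, by have := pow_pos hq r; omega⟩
  have h2 : q ^ (2 * r) = (b + 1) * (b + 1) := by rw [two_mul, pow_add, hb]
  rw [h2, hb, Nat.add_sub_cancel]
  have : (b + 1) * (b + 1) = b * (b + 1 + 1) + 1 := by ring
  rw [this, Nat.add_sub_cancel]

/-- type `a_s` -/
theorem card_cent_omega_alt {q : ℕ} (hF : Fintype.card F = q) {s : ℕ}
    (hex : Fintype.card F ≠ 2 ∨ m ≠ 2)
    (x : ↥(Cfsg.isometryGroup F ⇑(plusForm F m))) (hx : x ^ 2 = 1) (hx1 : x ≠ 1)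
    (hs : (((x : GL (PI m) F) : Matrix (PI m) (PI m) F) - 1).rank = s) (heven : Even s)
    (halt : ∀ v, plusForm F m (O2.opN _ x v) = 0) :
    Nat.card {g : ↥(commutator ↥(Cfsg.isometryGroup F ⇑(plusForm F m))) //
        (g : ↥(Cfsg.isometryGroup F ⇑(plusForm F m))) * x =
          x * (g : ↥(Cfsg.isometryGroup F ⇑(plusForm F m)))} =
      q ^ (2 * m * s - (3 * s ^ 2 + s) / 2) * spCard q (s / 2) *
        (if s = m then 1 else q ^ ((m - s) * (m - s - 1)) * (q ^ (m - s) - 1) *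
          ∏ i : Fin (m - s - 1), (q ^ (2 * ((i : ℕ) + 1)) - 1)) := by
  have hQ := plusForm_nondeg F m
  have hq0 : 0 < q := by rw [← hF]; exact Fintype.card_pos
  have hrk : rk (plusForm F m) x = s := hs
  have hsm : s ≤ m := by rw [← hrk]; exact rk_le x hx
  have hpos : 1 ≤ s := by rw [← hrk]; exact rk_pos _ x hx1
  have hs' : finrank F (LinearMap.range (O2.opN (plusForm F m) x)) = s := by
    rw [← O2.rank_eq_finrank, hs]
  obtain ⟨k, hk⟩ := heven
  have hm : 1 ≤ m := by omega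
  have halt' : ∀ v, QuadraticMap.polarBilin (plusForm F m) v (O2.opN (plusForm F m) x v) = 0 := by
    intro v
    show QuadraticMap.polar (plusForm F m) v (O2.opN (plusForm F m) x v) = 0
    rw [← Q_opN]
    exact halt v
  have h2 := card_autSet_alt (B := QuadraticMap.polarBilin (plusForm F m))
    (N := O2.opN (plusForm F m) x) (alt_polar _) (nondeg_polar _ hQ) (opN_sq _ x hx)
    (opN_sa _ x hx) halt' (finrank_plus F m) hs'
  rw [hF, cntA_eq] at h2
  obtain ⟨l, hl⟩ : ∃ l, s = 2 * l := ⟨k, by omega⟩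
  obtain ⟨r, hr⟩ : ∃ r, m = 2 * l + r := ⟨m - s, by omega⟩
  have e1 : s / 2 = l := by omega
  have e2 : m - s = r := by omega
  obtain ⟨E, hE1, hE2⟩ : ∃ E, 2 * m * s - (3 * s ^ 2 + s) / 2 = E ∧
      E + l = 2 * l ^ 2 + 4 * l * r := by
    refine ⟨_, rfl, ?_⟩
    rw [hl, hr]
    exact expOA l r
  rw [e1, e2] at h2
  rw [e1, e2, hE1]
  by_cases hsm' : s = m
  · rw [if_pos hsm', mul_one]
    have hr0 : r = 0 := by omega
    have h1 := card_cent_omega_alt_eq hm hex x hx halt (hrk.trans hsm')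
    rw [h1, hF, hr0, spCard_zero, mul_one] at h2
    have hq : 0 < q ^ m := pow_pos hq0 m
    apply Nat.eq_of_mul_eq_mul_left hq
    rw [h2, ← mul_assoc, ← pow_add]
    congr 2
    rw [hr0] at hE2
    omega
  · rw [if_neg hsm']
    obtain ⟨r', hr'⟩ : ∃ r', r = r' + 1 := ⟨r - 1, by omega⟩
    have h1 := card_cent_omega_alt_lt hm hex x hx halt (by rw [hrk]; omega)
    rw [h1, hF, hrk, e2] at h2
    have hq : 0 < q ^ m * (q ^ r + 1) := by positivity
    apply Nat.eq_of_mul_eq_mul_left hq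
    rw [h2, hr', spCard_succ, Nat.add_sub_cancel, ← pow_sub_one_mul q (r' + 1) hq0]
    have hsp : spCard q r' = q ^ (r' ^ 2) * ∏ i : Fin r', (q ^ (2 * ((i : ℕ) + 1)) - 1) := rfl
    rw [hsp]
    have hexp : q ^ (2 * l ^ 2 + 4 * l * r + l) * (q ^ (2 * r' + 1) * q ^ (r' ^ 2)) =
        q ^ m * (q ^ E * q ^ ((r' + 1) * r')) := by
      rw [← pow_add, ← pow_add, ← pow_add, ← pow_add]
      congr 1
      have h3 : (r' + 1) * r' = r' ^ 2 + r' := by ring
      omega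
    rw [hr'] at hexp
    calc q ^ (2 * l ^ 2 + 4 * l * (r' + 1) + l) * spCard q l *
          ((q ^ (r' + 1) - 1) * (q ^ (r' + 1) + 1) * q ^ (2 * r' + 1) *
            (q ^ (r' ^ 2) * ∏ i : Fin r', (q ^ (2 * ((i : ℕ) + 1)) - 1)))
        = (q ^ (2 * l ^ 2 + 4 * l * (r' + 1) + l) * (q ^ (2 * r' + 1) * q ^ (r' ^ 2))) *
            (spCard q l * ((q ^ (r' + 1) - 1) * (q ^ (r' + 1) + 1) *
              ∏ i : Fin r', (q ^ (2 * ((i : ℕ) + 1)) - 1))) := by ring
      _ = q ^ m * (q ^ (r' + 1) + 1) * (q ^ E * spCard q l * (q ^ ((r' + 1) * r') *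
            (q ^ (r' + 1) - 1) * ∏ i : Fin r', (q ^ (2 * ((i : ℕ) + 1)) - 1))) := by
          rw [hexp]
          ring

end Cfsg.Agent.Helper8.O2C
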