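import Mathlib
import Cfsg.Agent.Helper8.OGenE
import Cfsg.Agent.S2403

set_option autoImplicit false

/-!
# Two generators for the Siegel group: the fields with two or three elements, abstractly
(helper8)
-/

namespace Cfsg.Agent.Helper8.OGenF

open Module Matrix Cfsg.Agent.Helper8.QuadForm Cfsg.Agent.Helper8.WittQuad
  Cfsg.Agent.Helper8.OrthOrder Cfsg.Agent.Helper8.Siegel Cfsg.Agent.Helper8.SiegelGroup
  Cfsg.Agent.Helper8.OGenA Cfsg.Agent.Helper8.OGenB Cfsg.Agent.Helper8.OGenC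
  Cfsg.Agent.Helper8.OGenD Cfsg.Agent.Helper8.OGenE

variable {F : Type*} [Field F] {V : Type*} [AddCommGroup V] [Module F V]
  {Q : QuadraticForm F V} {n : ℕ} {e f : Fin (n + 1) → V}

/-- **two generators of the Siegel group over a field with at most three elements**, given a
mixing element `g` of order prime to the characteristic. -/
theorem two_gen_small [Fintype F] (hF : Fintype.card F ≤ 3) (hQ : Nondeg Q) (hn : 2 ≤ n)
    (hyp : IsHyp Q e f) {i2 : Fin (n + 1)} (hi2 : i2.val = 2)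
    {g : ↥(Isom Q)} (hgSG : g ∈ SG Q) {k : ℕ} (hgk : g ^ k = 1) (hcop : (ringChar F).Coprime k)
    (hg0 : (g : V ≃ₗ[F] V) (e 0) = e 0) (hg1 : (g : V ≃ₗ[F] V) (f 1) = f 1)
    {α' β'' α β' : F} {γ' γ : V}
    (hgf : (g : V ≃ₗ[F] V) (f i2) = α' • e i2 + β'' • f i2 + γ') (hα' : α' ≠ 0)
    (hγ'1 : QuadraticMap.polar Q (e 1) γ' = 0)
    (hγ'2 : QuadraticMap.polar Q (f i2) γ' = 0)
    (hge : (g : V ≃ₗ[F] V) (e i2) = α • e i2 + β' • f i2 + γ) (hβ' : β' ≠ 0)
    (hγ2 : QuadraticMap.polar Q (e i2) γ = 0)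
    (hA : ∀ w, co Q e w = 0 → co Q f w = 0 → ∃ c d : F, w = c • γ' + d • γ) :
    ∃ a b : ↥(Isom Q), a ∈ SG Q ∧ b ∈ SG Q ∧
      Subgroup.closure ({a, b} : Set ↥(Isom Q)) = SG Q := by
  classical
  have h1v : ((1 : Fin (n + 1)) : ℕ) = 1 := fin_one_val (by omega)
  have h01 : (0 : Fin (n + 1)) ≠ 1 := fin_zero_ne_one (by omega)
  have h02 : (0 : Fin (n + 1)) ≠ i2 := by
    intro h
    have := congrArg Fin.val h
    rw [hi2] at this
    simp at this
  have h12 : (1 : Fin (n + 1)) ≠ i2 := by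
    intro h
    have := congrArg Fin.val h
    rw [hi2, h1v] at this
    omega
  set x₀ : SpecialLinearGroup (Fin (n + 1)) F := SpecialLinearGroup.transvection h01 (1 : F)
    with hx₀
  have hS := Cfsg.Agent.S2403.result hF n (by omega) x₀ (wSL F n) rfl rfl
  have hjx : j hyp x₀ = siegG Q (e 0) ((1 : F) • f 1) := j_transvection hyp h01 1
  have he0 : Q (e 0) = 0 := (hyp.1 0).1
  have he0f1 : QuadraticMap.polar Q (e 0) ((1 : F) • f 1) = 0 := by
    rw [QuadraticMap.polar_smul_right, hyp.2.1, if_neg h01, smul_zero]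
  refine ⟨j hyp x₀ * g, j hyp (wSL F n),
    (SG Q).mul_mem (j_mem_SG hyp (by omega) _) hgSG, j_mem_SG hyp (by omega) _, ?_⟩
  apply le_antisymm
  · rw [Subgroup.closure_le]
    intro x hx
    rcases hx with rfl | rfl
    · exact (SG Q).mul_mem (j_mem_SG hyp (by omega) _) hgSG
    · exact j_mem_SG hyp (by omega) _
  set H := Subgroup.closure ({j hyp x₀ * g, j hyp (wSL F n)} : Set ↥(Isom Q)) with hH
  have haH : j hyp x₀ * g ∈ H := Subgroup.subset_closure (Set.mem_insert _ _)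
  have hbH : j hyp (wSL F n) ∈ H := Subgroup.subset_closure (Set.mem_insert_of_mem _ rfl)
  have hcomm : Commute (j hyp x₀) g := by
    have h1 := siegG_conj Q g (e 0) ((1 : F) • f 1)
    rw [map_smul, hg0, hg1, ← hjx] at h1
    exact (mul_inv_eq_iff_eq_mul.mp h1).symm
  have hpow1 : (j hyp x₀) ^ (ringChar F) = 1 := by
    rw [hjx, siegG_pow Q he0 he0f1, ← Nat.cast_smul_eq_nsmul F, CharP.cast_eq_zero F (ringChar F),
      zero_smul, siegG_zero]
  obtain ⟨hxH, hgH⟩ := mem_of_commute_coprime hcomm hpow1 hgk hcop H haH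
  have hsup : H.comap (j hyp) ⊔ Subgroup.center (SpecialLinearGroup (Fin (n + 1)) F) = ⊤ := by
    rw [eq_top_iff, ← hS]
    apply sup_le_sup_right
    rw [Subgroup.closure_le]
    intro x hx
    rcases hx with rfl | rfl
    · exact hxH
    · exact hbH
  have hroot := root_mem_of_sup_center hyp (by omega) H hsup
  exact SG_le_of_seeds hQ hyp h01 h02 h12 hroot hgH hg0 hgf hα' hγ'1 hγ'2 hge hβ' hγ2 hA

end Cfsg.Agent.Helper8.OGenF
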