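import Mathlib
import Cfsg.Agent.Helper8.OGenG

set_option autoImplicit false
set_option linter.unusedSimpArgs false
set_option linter.unusedSectionVars false

/-!
# Elements of order three and five in the Siegel group in characteristic two (helper8)

For a hyperbolic pair `(e, f)` and vectors `a₀, a₁` of norm one orthogonal to it, the product
`X Y` of `X = siegG e a₀` and `Y = siegG f a₁` has order dividing three when `a₁ = a₀` and
dividing five when `B(a₀, a₁) = 1` (characteristic two).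
-/

namespace Cfsg.Agent.Helper8.OGenH

open Module Cfsg.Agent.Helper8.QuadForm Cfsg.Agent.Helper8.WittQuad Cfsg.Agent.Helper8.OrthOrder
  Cfsg.Agent.Helper8.Siegel Cfsg.Agent.Helper8.SiegelGroup Cfsg.Agent.Helper8.OGenA
  Cfsg.Agent.Helper8.OGenG

theorem order_three {G : Type*} [Group G] {X Y : G} (hX : X * X = 1) (hY : Y * Y = 1)
    (h : X * Y * X⁻¹ = Y * X * Y⁻¹) : (X * Y) ^ 3 = 1 := by
  have hXi : X⁻¹ = X := inv_eq_of_mul_eq_one_left hX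
  have hYi : Y⁻¹ = Y := inv_eq_of_mul_eq_one_left hY
  rw [hXi, hYi] at h
  have hX' : ∀ z, X * (X * z) = z := fun z => by rw [← mul_assoc, hX, one_mul]
  have hY' : ∀ z, Y * (Y * z) = z := fun z => by rw [← mul_assoc, hY, one_mul]
  have e1 : (X * Y) ^ 3 = (X * Y * X) * (Y * X * Y) := by
    rw [pow_succ, pow_succ, pow_one]
    simp only [mul_assoc]
  rw [e1, ← h]
  simp only [mul_assoc, hX', hY', hX]

theorem order_five {G : Type*} [Group G] {X Y : G} (hX : X * X = 1) (hY : Y * Y = 1)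
    (h : (X * Y) * X * (X * Y)⁻¹ = (Y * X) * Y * (Y * X)⁻¹) : (X * Y) ^ 5 = 1 := by
  have hXi : X⁻¹ = X := inv_eq_of_mul_eq_one_left hX
  have hYi : Y⁻¹ = Y := inv_eq_of_mul_eq_one_left hY
  rw [_root_.mul_inv_rev, _root_.mul_inv_rev, hXi, hYi] at h
  have hX' : ∀ z, X * (X * z) = z := fun z => by rw [← mul_assoc, hX, one_mul]
  have hY' : ∀ z, Y * (Y * z) = z := fun z => by rw [← mul_assoc, hY, one_mul]
  have e1 : (X * Y) ^ 5 = (X * Y * X * (Y * X)) * (Y * X * Y * (X * Y)) := by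
    rw [pow_succ, pow_succ, pow_succ, pow_succ, pow_one]
    simp only [mul_assoc]
  rw [e1, ← h]
  simp only [mul_assoc, hX', hY', hX]

variable {F : Type*} [Field F] {V : Type*} [AddCommGroup V] [Module F V]
  {Q : QuadraticForm F V} {e f a₀ a₁ : V}

/-- the element of odd order. -/
noncomputable def oddG (Q : QuadraticForm F V) (e f a₀ a₁ : V) : ↥(Isom Q) :=
  siegG Q e a₀ * siegG Q f a₁

theorem oddG_apply (v : V) : ((oddG Q e f a₀ a₁ : ↥(Isom Q)) : V ≃ₗ[F] V) v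
    = ((siegG Q e a₀ : ↥(Isom Q)) : V ≃ₗ[F] V) (((siegG Q f a₁ : ↥(Isom Q)) : V ≃ₗ[F] V) v) := rfl

section

variable (D : MixData Q e f a₀ a₁) (hQ1 : Q a₁ = 1)
include D

theorem X_a₁ : ((siegG Q e a₀ : ↥(Isom Q)) : V ≃ₗ[F] V) a₁
    = a₁ + QuadraticMap.polar Q a₀ a₁ • e := by
  rw [siegG_apply Q D.he D.he0, D.h1e, MixData.h10]
  module

theorem oddG_mem_SG : oddG Q e f a₀ a₁ ∈ SG Q :=
  (SG Q).mul_mem (siegG_mem_SG Q D.he D.he0) (siegG_mem_SG Q D.hf D.hf1)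

theorem oddG_fix {v : V} (hve : QuadraticMap.polar Q v e = 0) (hvf : QuadraticMap.polar Q v f = 0)
    (hv0 : QuadraticMap.polar Q v a₀ = 0) (hv1 : QuadraticMap.polar Q v a₁ = 0) :
    ((oddG Q e f a₀ a₁ : ↥(Isom Q)) : V ≃ₗ[F] V) v = v := by
  rw [oddG_apply, siegG_fix Q hvf hv1, siegG_fix Q hve hv0]

include hQ1

theorem Y1_f : ((siegG Q f a₁ : ↥(Isom Q)) : V ≃ₗ[F] V) f = f :=
  siegG_fix Q D.hff D.hf1

theorem Y1_e : ((siegG Q f a₁ : ↥(Isom Q)) : V ≃ₗ[F] V) e = e - a₁ - f := by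
  rw [siegG_apply Q D.hf D.hf1, D.he1, D.hef, hQ1]
  module

theorem Y1_a₀ : ((siegG Q f a₁ : ↥(Isom Q)) : V ≃ₗ[F] V) a₀
    = a₀ + QuadraticMap.polar Q a₀ a₁ • f := by
  rw [siegG_apply Q D.hf D.hf1, D.h0f]
  module

theorem Y1_a₁ : ((siegG Q f a₁ : ↥(Isom Q)) : V ≃ₗ[F] V) a₁ = a₁ + (2 : F) • f := by
  rw [siegG_apply Q D.hf D.hf1, MixData.h11, D.h1f, hQ1]
  module

theorem oddG_f : ((oddG Q e f a₀ a₁ : ↥(Isom Q)) : V ≃ₗ[F] V) f
    = (-1 : F) • e + (1 : F) • f + (-a₀) := by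
  rw [oddG_apply, Y1_f D hQ1, D.X_f]
  module

theorem oddG_e : ((oddG Q e f a₀ a₁ : ↥(Isom Q)) : V ≃ₗ[F] V) e
    = (2 - QuadraticMap.polar Q a₀ a₁) • e + (-1 : F) • f + (a₀ - a₁) := by
  rw [oddG_apply, Y1_e D hQ1]
  simp only [map_sub, D.X_e, D.X_f, X_a₁ D]
  module

theorem X_sq (h2 : (2 : F) = 0) : siegG Q e a₀ * siegG Q e a₀ = 1 := by
  rw [siegG_mul Q D.he D.he0 D.he0, ← two_smul F a₀, h2, zero_smul, siegG_zero]

theorem Y_sq (h2 : (2 : F) = 0) : siegG Q f a₁ * siegG Q f a₁ = 1 := by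
  rw [siegG_mul Q D.hf D.hf1 D.hf1, ← two_smul F a₁, h2, zero_smul, siegG_zero]

/-- order five: the case `B(a₀, a₁) = 1`. -/
theorem oddG_pow_five (h2 : (2 : F) = 0) (hb : QuadraticMap.polar Q a₀ a₁ = 1) :
    oddG Q e f a₀ a₁ ^ 5 = 1 := by
  unfold oddG
  apply order_five (X_sq D hQ1 h2) (Y_sq D hQ1 h2)
  rw [siegG_conj, siegG_conj]
  have e1 : ((siegG Q e a₀ * siegG Q f a₁ : ↥(Isom Q)) : V ≃ₗ[F] V) e
      = ((siegG Q f a₁ * siegG Q e a₀ : ↥(Isom Q)) : V ≃ₗ[F] V) f := by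
    show ((siegG Q e a₀ : ↥(Isom Q)) : V ≃ₗ[F] V) (((siegG Q f a₁ : ↥(Isom Q)) : V ≃ₗ[F] V) e)
      = ((siegG Q f a₁ : ↥(Isom Q)) : V ≃ₗ[F] V) (((siegG Q e a₀ : ↥(Isom Q)) : V ≃ₗ[F] V) f)
    rw [Y1_e D hQ1, D.X_f]
    simp only [map_sub, D.X_e, D.X_f, X_a₁ D, Y1_e D hQ1, Y1_f D hQ1, Y1_a₀ D hQ1, hb]
    have : e - (a₁ + (1 : F) • e) - (f - a₀ - e) - (f - (a₀ + (1 : F) • f) - (e - a₁ - f))
        = (2 : F) • (e - f + a₀ - a₁) := by module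
    rw [← sub_eq_zero, this, h2, zero_smul]
  have e2 : ((siegG Q e a₀ * siegG Q f a₁ : ↥(Isom Q)) : V ≃ₗ[F] V) a₀
      = ((siegG Q f a₁ * siegG Q e a₀ : ↥(Isom Q)) : V ≃ₗ[F] V) a₁ := by
    show ((siegG Q e a₀ : ↥(Isom Q)) : V ≃ₗ[F] V) (((siegG Q f a₁ : ↥(Isom Q)) : V ≃ₗ[F] V) a₀)
      = ((siegG Q f a₁ : ↥(Isom Q)) : V ≃ₗ[F] V) (((siegG Q e a₀ : ↥(Isom Q)) : V ≃ₗ[F] V) a₁)
    rw [Y1_a₀ D hQ1, X_a₁ D]
    simp only [map_add, map_smul, D.X_a₀, D.X_f, Y1_a₁ D hQ1, Y1_e D hQ1, hb]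
    module
  rw [e1, e2]

end

/-- order three: the case `a₁ = a₀`. -/
theorem oddG_pow_three (D : MixData Q e f a₀ a₀) (h2 : (2 : F) = 0) :
    oddG Q e f a₀ a₀ ^ 3 = 1 := by
  unfold oddG
  apply order_three (X_sq D D.hQ0 h2) (Y_sq D D.hQ0 h2)
  rw [siegG_conj, siegG_conj, D.X_f, D.X_a₀, Y1_e D D.hQ0, Y1_a₁ D D.hQ0, h2, zero_smul, zero_smul,
    add_zero]
  have : f - a₀ - e = e - a₀ - f := by
    have : f - a₀ - e - (e - a₀ - f) = (2 : F) • (f - e) := by module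
    rw [← sub_eq_zero, this, h2, zero_smul]
  rw [this]

end Cfsg.Agent.Helper8.OGenH
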