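import Mathlib
import Cfsg.Agent.Helper8.OGenF
import Cfsg.Agent.Helper8.OGenH
import Cfsg.Agent.Helper8.OmegaSimple

set_option autoImplicit false

/-!
# Two generators for the Siegel group, all finite fields; transfer to `PΩ` (helper8)
-/

namespace Cfsg.Agent.Helper8.OGenI

open Module Matrix Cfsg.Agent.Helper8.QuadForm Cfsg.Agent.Helper8.WittQuad
  Cfsg.Agent.Helper8.OrthOrder Cfsg.Agent.Helper8.Siegel Cfsg.Agent.Helper8.SiegelGroup
  Cfsg.Agent.Helper8.OGenA Cfsg.Agent.Helper8.OGenB Cfsg.Agent.Helper8.OGenC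
  Cfsg.Agent.Helper8.OGenD Cfsg.Agent.Helper8.OGenE Cfsg.Agent.Helper8.OGenF
  Cfsg.Agent.Helper8.OGenG Cfsg.Agent.Helper8.OGenH

variable {F : Type*} [Field F] {V : Type*} [AddCommGroup V] [Module F V]

/-- in the field with three elements a sum of two squares, one of them nonzero, is nonzero. -/
theorem sq_add_sq_ne_zero [Fintype F] (hF : Fintype.card F = 3) (h2 : (2 : F) ≠ 0) (x : F) {y : F}
    (hy : y ≠ 0) : x ^ 2 + y ^ 2 ≠ 0 := by
  have hsq : ∀ z : F, z ≠ 0 → z ^ 2 = 1 := by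
    intro z hz
    have := FiniteField.pow_card_sub_one_eq_one z hz
    rwa [hF] at this
  rw [hsq y hy]
  by_cases hx : x = 0
  · rw [hx]
    simp
  · rw [hsq x hx, one_add_one_eq_two]
    exact h2

variable {Q : QuadraticForm F V} {n : ℕ} {e f : Fin (n + 1) → V}

/-- **two generators of the Siegel group over any finite field.** -/
theorem two_gen_all [Fintype F] (hQ : Nondeg Q) (hn : 2 ≤ n) (hyp : IsHyp Q e f) (a₀ a₁ : V)
    (ha₀ : ∀ i : Fin (n + 1), i.val ≤ 2 →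
      QuadraticMap.polar Q (e i) a₀ = 0 ∧ QuadraticMap.polar Q (f i) a₀ = 0)
    (ha₁ : ∀ i : Fin (n + 1), i.val ≤ 2 →
      QuadraticMap.polar Q (e i) a₁ = 0 ∧ QuadraticMap.polar Q (f i) a₁ = 0)
    (hQ₀ : Q a₀ = 1) (hQ₁ : Q a₁ ≠ 0)
    (hβ : (2 : F) ≠ 0 → QuadraticMap.polar Q a₀ a₁ ≠ 0)
    (hA : (∀ w, co Q e w = 0 → co Q f w = 0 → w = 0) ∨
      (QuadraticMap.polar Q a₀ a₁ ≠ 0 ∧
        ∀ w, co Q e w = 0 → co Q f w = 0 → ∃ c d : F, w = c • a₀ + d • a₁))
    (h2case : Fintype.card F = 2 →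
      a₁ = a₀ ∨ (Q a₁ = 1 ∧ QuadraticMap.polar Q a₀ a₁ = 1)) :
    ∃ a b : ↥(Isom Q), a ∈ SG Q ∧ b ∈ SG Q ∧
      Subgroup.closure ({a, b} : Set ↥(Isom Q)) = SG Q := by
  classical
  set β := QuadraticMap.polar Q a₀ a₁ with hβdef
  by_cases hF : 3 < Fintype.card F
  · apply two_gen_large hF hQ hn hyp a₀ a₁ ha₀ ha₁ (by rw [hQ₀]; exact one_ne_zero) hQ₁
    intro w h1 h2
    rcases hA with h | ⟨hb, h⟩
    · refine ⟨0, 0, ?_⟩
      rw [h w h1 h2]
      simp
    · obtain ⟨c', d', hw⟩ := h w h1 h2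
      refine ⟨(c' * (Q a₁ - β) - d' * Q a₁) / (-β), (d' - c') / (-β), ?_⟩
      rw [hw, hQ₀, ← hβdef]
      match_scalars <;> field_simp <;> ring
  have h1lt : 1 < Fintype.card F := Fintype.one_lt_card
  have h1v : ((1 : Fin (n + 1)) : ℕ) = 1 := fin_one_val (by omega)
  have h01 : (0 : Fin (n + 1)) ≠ 1 := fin_zero_ne_one (by omega)
  obtain ⟨i2, hi2⟩ : ∃ i2 : Fin (n + 1), i2.val = 2 := ⟨⟨2, by omega⟩, rfl⟩
  have h02 : (0 : Fin (n + 1)) ≠ i2 := by
    intro h
    have := congrArg Fin.val h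
    rw [hi2] at this
    simp at this
  have h12 : (1 : Fin (n + 1)) ≠ i2 := by
    intro h
    have := congrArg Fin.val h
    rw [hi2, h1v] at this
    omega
  have he : ∀ i, Q (e i) = 0 := fun i => (hyp.1 i).1
  have hf : ∀ i, Q (f i) = 0 := fun i => (hyp.1 i).2
  have hee : ∀ i k, QuadraticMap.polar Q (e i) (e k) = 0 := fun i k => (hyp.2.2 i k).1
  have hff : ∀ i k, QuadraticMap.polar Q (f i) (f k) = 0 := fun i k => (hyp.2.2 i k).2
  have hef : ∀ i k, QuadraticMap.polar Q (e i) (f k) = if i = k then 1 else 0 := hyp.2.1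
  have hfe : ∀ i k, QuadraticMap.polar Q (f i) (e k) = if i = k then 1 else 0 := polar_fe hyp
  have h0a₀ := ha₀ 0 (by simp)
  have h0a₁ := ha₁ 0 (by simp)
  have h1a₀ := ha₀ 1 (by rw [h1v]; omega)
  have h1a₁ := ha₁ 1 (by rw [h1v]; omega)
  have h2a₀ := ha₀ i2 (by rw [hi2])
  have h2a₁ := ha₁ i2 (by rw [hi2])
  have D : MixData Q (e i2) (f i2) a₀ a₁ :=
    ⟨he i2, hf i2, by rw [hef, if_pos rfl], by rw [QuadraticMap.polar_comm]; exact h2a₀.1,
      by rw [QuadraticMap.polar_comm]; exact h2a₀.2, by rw [QuadraticMap.polar_comm]; exact h2a₁.1,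
      by rw [QuadraticMap.polar_comm]; exact h2a₁.2, hQ₀⟩
  -- vectors fixed by the mixing elements
  have hfix0 : QuadraticMap.polar Q (e 0) (e i2) = 0 ∧ QuadraticMap.polar Q (e 0) (f i2) = 0 :=
    ⟨hee 0 i2, by rw [hef, if_neg h02]⟩
  have hfix1 : QuadraticMap.polar Q (f 1) (e i2) = 0 ∧ QuadraticMap.polar Q (f 1) (f i2) = 0 :=
    ⟨by rw [hfe, if_neg h12], hff 1 i2⟩
  by_cases hF3 : Fintype.card F = 3
  · -- three elements
    have : Fact (Nat.Prime 3) := ⟨Nat.prime_three⟩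
    have hchar : CharP F 3 := charP_of_card_eq_prime hF3
    have hrc : ringChar F = 3 := ringChar.eq F 3
    have h2 : (2 : F) ≠ 0 := by
      intro h
      have h' : ((2 : ℕ) : F) = 0 := by exact_mod_cast h
      rw [CharP.cast_eq_zero_iff F 3] at h'
      omega
    have hb : β ≠ 0 := hβ h2
    refine two_gen_small (by omega) hQ hn hyp hi2 D.mixG_mem_SG (D.mixG_sq h2)
      (by rw [hrc]; decide)
      (D.mixG_fix hfix0.1 hfix0.2 h0a₀.1 h0a₁.1) (D.mixG_fix hfix1.1 hfix1.2 h1a₀.2 h1a₁.2)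
      (D.mixG_f h2) (neg_ne_zero.mpr (sq_add_sq_ne_zero hF3 h2 _ hb)) ?_ ?_ D.mixG_e
      (neg_ne_zero.mpr one_ne_zero) h2a₁.1 ?_
    · rw [QuadraticMap.polar_sub_right, QuadraticMap.polar_smul_right,
        QuadraticMap.polar_smul_right, h1a₀.1, h1a₁.1]
      simp
    · rw [QuadraticMap.polar_sub_right, QuadraticMap.polar_smul_right,
        QuadraticMap.polar_smul_right, h2a₀.2, h2a₁.2]
      simp
    · intro w hw1 hw2
      rcases hA with h | ⟨_, h⟩
      · refine ⟨0, 0, ?_⟩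
        rw [h w hw1 hw2]
        simp
      · obtain ⟨c', d', hw⟩ := h w hw1 hw2
        refine ⟨-c' / β, d' + c' / β * (1 - Q a₁), ?_⟩
        rw [hw]
        match_scalars <;> field_simp <;> ring
  · -- two elements
    have hF2 : Fintype.card F = 2 := by omega
    have : Fact (Nat.Prime 2) := ⟨Nat.prime_two⟩
    have hchar : CharP F 2 := charP_of_card_eq_prime hF2
    have hrc : ringChar F = 2 := ringChar.eq F 2
    have h2 : (2 : F) = 0 := CharTwo.two_eq_zero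
    rcases h2case hF2 with h10 | ⟨hQ1, hb1⟩
    · subst h10
      refine two_gen_small (by omega) hQ hn hyp hi2 (oddG_mem_SG D) (oddG_pow_three D h2)
        (by rw [hrc]; decide)
        (oddG_fix D hfix0.1 hfix0.2 h0a₀.1 h0a₀.1) (oddG_fix D hfix1.1 hfix1.2 h1a₀.2 h1a₀.2)
        (oddG_f D hQ₀) (neg_ne_zero.mpr one_ne_zero) ?_ ?_ (oddG_e D hQ₀)
        (neg_ne_zero.mpr one_ne_zero) ?_ ?_
      · rw [QuadraticMap.polar_neg_right, h1a₀.1, neg_zero]
      · rw [QuadraticMap.polar_neg_right, h2a₀.2, neg_zero]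
      · rw [sub_self, QuadraticMap.polar_zero_right]
      · intro w hw1 hw2
        rcases hA with h | ⟨_, h⟩
        · refine ⟨0, 0, ?_⟩
          rw [h w hw1 hw2]
          simp
        · obtain ⟨c', d', hw⟩ := h w hw1 hw2
          refine ⟨-(c' + d'), 0, ?_⟩
          rw [hw]
          module
    · refine two_gen_small (by omega) hQ hn hyp hi2 (oddG_mem_SG D) (oddG_pow_five D hQ1 h2 hb1)
        (by rw [hrc]; decide)
        (oddG_fix D hfix0.1 hfix0.2 h0a₀.1 h0a₁.1) (oddG_fix D hfix1.1 hfix1.2 h1a₀.2 h1a₁.2)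
        (oddG_f D hQ1) (neg_ne_zero.mpr one_ne_zero) ?_ ?_ (oddG_e D hQ1)
        (neg_ne_zero.mpr one_ne_zero) ?_ ?_
      · rw [QuadraticMap.polar_neg_right, h1a₀.1, neg_zero]
      · rw [QuadraticMap.polar_neg_right, h2a₀.2, neg_zero]
      · rw [QuadraticMap.polar_sub_right, h2a₀.1, h2a₁.1, sub_zero]
      · intro w hw1 hw2
        rcases hA with h | ⟨_, h⟩
        · refine ⟨0, 0, ?_⟩
          rw [h w hw1 hw2]
          simp
        · obtain ⟨c', d', hw⟩ := h w hw1 hw2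
          refine ⟨-(c' + d'), -d', ?_⟩
          rw [hw]
          module

theorem closure_pair_of_surjective {G G' : Type*} [Group G] [Group G'] (φ : G →* G')
    (hφ : Function.Surjective φ) {a b : G} (h : Subgroup.closure ({a, b} : Set G) = ⊤) :
    Subgroup.closure ({φ a, φ b} : Set G') = ⊤ := by
  have h1 := MonoidHom.map_closure φ ({a, b} : Set G)
  rw [h, Set.image_pair, Subgroup.map_top_of_surjective _ hφ] at h1
  exact h1.symm

/-- **transfer to `PΩ`.** -/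
theorem two_gen_POmega [Fintype F] {ι : Type} [Fintype ι] [DecidableEq ι]
    (Q : QuadraticForm F (ι → F)) (hQ : (QuadraticMap.polarBilin Q).Nondegenerate)
    (h5 : 5 ≤ Fintype.card ι)
    (h : ∃ a b : ↥(Isom Q), a ∈ SG Q ∧ b ∈ SG Q ∧
      Subgroup.closure ({a, b} : Set ↥(Isom Q)) = SG Q) :
    ∃ a b : Cfsg.POmega F ⇑Q, Subgroup.closure ({a, b} : Set (Cfsg.POmega F ⇑Q)) = ⊤ := by
  obtain ⟨a, b, ha, hb, hab⟩ := h
  -- inside the Siegel group
  have h1 : Subgroup.closure ({⟨a, ha⟩, ⟨b, hb⟩} : Set ↥(SG Q)) = ⊤ := by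
    apply Subgroup.map_injective (SG Q).subtype_injective
    rw [MonoidHom.map_closure, Set.image_pair, ← MonoidHom.range_eq_map, Subgroup.range_subtype]
    exact hab
  set φ := Cfsg.Agent.Helper8.OmegaSimple.omegaEquiv Q hQ h5 with hφ
  have h2 := closure_pair_of_surjective φ.symm.toMonoidHom φ.symm.surjective h1
  have h3 := closure_pair_of_surjective
    (QuotientGroup.mk' (Subgroup.center ↥(Cfsg.Omega F ⇑Q))) (QuotientGroup.mk'_surjective _) h2
  exact ⟨_, _, h3⟩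

end Cfsg.Agent.Helper8.OGenI
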