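import Mathlib
import Cfsg.Agent.Helper8.StdForms
import Cfsg.Agent.Helper8.ReflMatrix
import Cfsg.Agent.Helper8.SL2Omega

set_option autoImplicit false

/-!
The action of `SL₂(F) × SL₂(F)` on the `2 × 2` matrices by `N ↦ g N h⁻¹`, in the coordinates of the
quadratic form `x₀ y₀ + x₁ y₁ = det`.
-/

namespace Cfsg.Agent.Helper8.SL2Plus

open Matrix Cfsg Cfsg.Agent.Helper8.StdForms Cfsg.Agent.Helper8.OrthOrder
  Cfsg.Agent.Helper8.ReflMatrix

variable {F : Type*} [Field F]

/-- the index type of the four-dimensional space. -/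
abbrev I4 := Fin 2 ⊕ Fin 2

/-- the acting group. -/
abbrev G2 (F : Type*) [Field F] := SpecialLinearGroup (Fin 2) F × SpecialLinearGroup (Fin 2) F

/-- coordinates to matrices. -/
def toMat : (I4 → F) →ₗ[F] Matrix (Fin 2) (Fin 2) F where
  toFun v := !![v (.inl 0), v (.inl 1); -v (.inr 1), v (.inr 0)]
  map_add' u v := by
    ext i j
    fin_cases i <;> fin_cases j <;> simp [add_comm]
  map_smul' c v := by
    ext i j
    fin_cases i <;> fin_cases j <;> simp

theorem toMat_apply (v : I4 → F) :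
    toMat v = !![v (.inl 0), v (.inl 1); -v (.inr 1), v (.inr 0)] := rfl

/-- matrices to coordinates. -/
def fromMat : Matrix (Fin 2) (Fin 2) F →ₗ[F] (I4 → F) where
  toFun N := Sum.elim ![N 0 0, N 0 1] ![N 1 1, -N 1 0]
  map_add' M N := by
    funext i
    rcases i with i | i <;> fin_cases i <;> simp [add_comm]
  map_smul' c N := by
    funext i
    rcases i with i | i <;> fin_cases i <;> simp

theorem fromMat_toMat (v : I4 → F) : fromMat (toMat v) = v := by
  funext i
  rcases i with i | i <;> fin_cases i <;> simp [fromMat, toMat]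

theorem toMat_fromMat (N : Matrix (Fin 2) (Fin 2) F) : toMat (fromMat N) = N := by
  ext i j
  fin_cases i <;> fin_cases j <;> simp [fromMat, toMat]

theorem toMat_injective : Function.Injective (toMat (F := F)) := by
  intro u v h
  rw [← fromMat_toMat u, h, fromMat_toMat]

theorem coe_mul_inv (g : SpecialLinearGroup (Fin 2) F) : g.1 * (g⁻¹).1 = 1 :=
  congrArg Subtype.val (mul_inv_cancel g)

theorem coe_inv_mul (g : SpecialLinearGroup (Fin 2) F) : (g⁻¹).1 * g.1 = 1 :=
  congrArg Subtype.val (inv_mul_cancel g)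

/-- the action `N ↦ g N h⁻¹`. -/
def act (x : G2 F) (N : Matrix (Fin 2) (Fin 2) F) : Matrix (Fin 2) (Fin 2) F :=
  x.1.1 * N * (x.2⁻¹).1

theorem det_act (x : G2 F) (N : Matrix (Fin 2) (Fin 2) F) : (act x N).det = N.det := by
  unfold act
  rw [Matrix.det_mul, Matrix.det_mul, x.1.2, (x.2⁻¹).2, one_mul, mul_one]

theorem act_mul (x y : G2 F) (N : Matrix (Fin 2) (Fin 2) F) : act (x * y) N = act x (act y N) := by
  unfold act
  rw [Prod.snd_mul, Prod.fst_mul, _root_.mul_inv_rev]
  show x.1.1 * y.1.1 * N * ((y.2⁻¹).1 * (x.2⁻¹).1) = _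
  simp only [Matrix.mul_assoc]

theorem act_one (N : Matrix (Fin 2) (Fin 2) F) : act (1 : G2 F) N = N := by
  unfold act
  rw [Prod.snd_one, Prod.fst_one, inv_one]
  show (1 : Matrix (Fin 2) (Fin 2) F) * N * 1 = N
  rw [Matrix.one_mul, Matrix.mul_one]

/-- the action on coordinates. -/
def L (x : G2 F) : (I4 → F) →ₗ[F] (I4 → F) where
  toFun v := fromMat (act x (toMat v))
  map_add' u v := by
    unfold act
    rw [map_add, Matrix.mul_add, Matrix.add_mul, map_add]
  map_smul' c v := by
    unfold act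
    rw [map_smul, Matrix.mul_smul, Matrix.smul_mul, map_smul]
    rfl

theorem L_apply (x : G2 F) (v : I4 → F) : L x v = fromMat (act x (toMat v)) := rfl

theorem toMat_L (x : G2 F) (v : I4 → F) : toMat (L x v) = act x (toMat v) := by
  rw [L_apply, toMat_fromMat]

theorem L_mul (x y : G2 F) (v : I4 → F) : L (x * y) v = L x (L y v) := by
  apply toMat_injective
  rw [toMat_L, toMat_L, toMat_L, act_mul]

theorem L_one (v : I4 → F) : L (1 : G2 F) v = v := by
  apply toMat_injective
  rw [toMat_L, act_one]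

theorem quadFormPlus_eq (v : I4 → F) : Cfsg.quadFormPlus 2 F v = (toMat v).det := by
  unfold Cfsg.quadFormPlus
  rw [Matrix.det_fin_two, toMat_apply, Fin.sum_univ_two]
  simp

theorem quadFormPlus_L (x : G2 F) (v : I4 → F) :
    Cfsg.quadFormPlus 2 F (L x v) = Cfsg.quadFormPlus 2 F v := by
  rw [quadFormPlus_eq, quadFormPlus_eq, toMat_L, det_act]

/-- the action as a linear equivalence. -/
def Lequiv (x : G2 F) : (I4 → F) ≃ₗ[F] (I4 → F) :=
  LinearEquiv.ofLinear (L x) (L x⁻¹)
    (LinearMap.ext fun v => by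
      rw [LinearMap.comp_apply, ← L_mul, mul_inv_cancel, L_one]
      rfl)
    (LinearMap.ext fun v => by
      rw [LinearMap.comp_apply, ← L_mul, inv_mul_cancel, L_one]
      rfl)

theorem Lequiv_apply (x : G2 F) (v : I4 → F) : Lequiv x v = L x v := rfl

/-- the homomorphism to the isometries of the form `x₀ y₀ + x₁ y₁`. -/
noncomputable def rhoIsom : G2 F →* ↥(Isom (plusForm F 2)) where
  toFun x := ⟨Lequiv x, fun v => by
    rw [Lequiv_apply, plusForm_apply, plusForm_apply, quadFormPlus_L]⟩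
  map_one' := by
    apply Subtype.ext
    apply LinearEquiv.ext
    intro v
    exact L_one v
  map_mul' x y := by
    apply Subtype.ext
    apply LinearEquiv.ext
    intro v
    exact L_mul x y v

theorem rhoIsom_apply (x : G2 F) (v : I4 → F) : (rhoIsom x).1 v = L x v := rfl

/-- the homomorphism to the matrix isometry group. -/
noncomputable def rho : G2 F →* ↥(Cfsg.isometryGroup F ⇑(plusForm F 2)) :=
  (isomEquiv (plusForm F 2)).symm.toMonoidHom.comp rhoIsom

theorem isomEquiv_rho (x : G2 F) : isomEquiv (plusForm F 2) (rho x) = rhoIsom x := by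
  unfold rho
  rw [MonoidHom.comp_apply]
  exact MulEquiv.apply_symm_apply _ _

theorem rho_eq_one_iff (x : G2 F) : rho x = 1 ↔ ∀ N : Matrix (Fin 2) (Fin 2) F, act x N = N := by
  constructor
  · intro h N
    have := isomEquiv_rho x
    rw [h, map_one] at this
    have h1 : L x (fromMat N) = fromMat N := by
      rw [← rhoIsom_apply, ← this]
      rfl
    have h2 := congrArg toMat h1
    rwa [toMat_L, toMat_fromMat] at h2
  · intro h
    apply (isomEquiv (plusForm F 2)).injective
    rw [isomEquiv_rho, map_one]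
    apply Subtype.ext
    apply LinearEquiv.ext
    intro v
    show L x v = v
    apply toMat_injective
    rw [toMat_L, h]

theorem eq_one_of_rho_left {u : SpecialLinearGroup (Fin 2) F} (h : rho ((u, 1) : G2 F) = 1) :
    u = 1 := by
  have := (rho_eq_one_iff _).mp h 1
  unfold act at this
  apply Subtype.ext
  have h1 : u.1 * 1 * ((1 : SpecialLinearGroup (Fin 2) F)⁻¹).1 = 1 := this
  rw [inv_one] at h1
  have h2 : u.1 * 1 * (1 : Matrix (Fin 2) (Fin 2) F) = 1 := h1
  rw [Matrix.mul_one, Matrix.mul_one] at h2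
  exact h2

theorem eq_one_of_rho_right {u : SpecialLinearGroup (Fin 2) F} (h : rho ((1, u) : G2 F) = 1) :
    u = 1 := by
  have := (rho_eq_one_iff _).mp h 1
  unfold act at this
  have h1 : (u⁻¹).1 = 1 := by
    rw [← this]
    show (u⁻¹).1 = (1 : Matrix (Fin 2) (Fin 2) F) * 1 * (u⁻¹).1
    rw [Matrix.mul_one, Matrix.one_mul]
  have h2 : u⁻¹ = 1 := Subtype.ext h1
  exact inv_eq_one.mp h2

/-- the kernel: the diagonally embedded centre. -/
theorem rho_eq_one_iff' (x : G2 F) :
    rho x = 1 ↔ x.1 = x.2 ∧ x.1 ∈ Subgroup.center (SpecialLinearGroup (Fin 2) F) := by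
  rw [rho_eq_one_iff]
  constructor
  · intro h
    have h1 := h 1
    unfold act at h1
    rw [Matrix.mul_one] at h1
    have h12 : x.1 = x.2 := by
      have : x.1 * x.2⁻¹ = 1 := Subtype.ext h1
      exact mul_inv_eq_one.mp this
    refine ⟨h12, ?_⟩
    rw [Subgroup.mem_center_iff]
    intro k
    have hk := h k.1
    unfold act at hk
    rw [← h12] at hk
    apply Subtype.ext
    show k.1 * x.1.1 = x.1.1 * k.1
    nth_rewrite 1 [← hk]
    rw [Matrix.mul_assoc, coe_inv_mul, Matrix.mul_one]
  · rintro ⟨h12, hc⟩ N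
    rw [Matrix.SpecialLinearGroup.mem_center_iff] at hc
    obtain ⟨r, -, hr⟩ := hc
    unfold act
    rw [← h12]
    have hg : x.1.1 = r • (1 : Matrix (Fin 2) (Fin 2) F) := by
      rw [← hr]
      ext i j
      simp [Matrix.scalar_apply, Matrix.diagonal_apply, Matrix.one_apply]
    have hcomm : x.1.1 * N = N * x.1.1 := by
      rw [hg, Matrix.smul_mul, Matrix.mul_smul, Matrix.one_mul, Matrix.mul_one]
    rw [hcomm, Matrix.mul_assoc, coe_mul_inv, Matrix.mul_one]

/-- the kernel has the order of the centre of `SL₂`. -/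
theorem card_ker :
    Nat.card (rho (F := F)).ker = Nat.card (Subgroup.center (SpecialLinearGroup (Fin 2) F)) := by
  apply Nat.card_congr
  refine ⟨fun k => ⟨k.1.1, ((rho_eq_one_iff' k.1).mp (MonoidHom.mem_ker.mp k.2)).2⟩,
    fun z => ⟨(z.1, z.1), MonoidHom.mem_ker.mpr ((rho_eq_one_iff' _).mpr ⟨rfl, z.2⟩)⟩, ?_, ?_⟩
  · intro k
    apply Subtype.ext
    have := ((rho_eq_one_iff' k.1).mp (MonoidHom.mem_ker.mp k.2)).1
    show (k.1.1, k.1.1) = k.1
    rw [Prod.ext_iff]
    exact ⟨rfl, this⟩
  · intro z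
    rfl

end Cfsg.Agent.Helper8.SL2Plus
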