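import Mathlib
import Cfsg.Agent.Helper8.SL2Plus

set_option autoImplicit false

/-!
# The four-dimensional plus-type orthogonal group over the field of two elements (helper8)

The sign of the permutation action on the six vectors of norm one, and the isometry exchanging the
two factors of `SL₂ × SL₂`.
-/

namespace Cfsg.Agent.Helper8.OPl

open Matrix Cfsg Cfsg.Agent.Helper8.StdForms Cfsg.Agent.Helper8.OrthOrder
  Cfsg.Agent.Helper8.ReflMatrix Cfsg.Agent.Helper8.SL2Plus

/-- the sign of a fixed-point-free involution. -/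
theorem sign_fpf_involution {α : Type*} [Fintype α] [DecidableEq α] (π : Equiv.Perm α)
    (h2 : π * π = 1) (hfix : ∀ x, π x ≠ x) (k : ℕ) (hcard : Fintype.card α = 2 * k) :
    Equiv.Perm.sign π = (-1) ^ k := by
  by_cases hk : k = 0
  · subst hk
    have hemp : IsEmpty α := Fintype.card_eq_zero_iff.mp (by rw [hcard])
    have : π = 1 := Equiv.ext (fun x => (hemp.false x).elim)
    rw [this, map_one, pow_zero]
  have hne : π ≠ 1 := by
    have hpos : 0 < Fintype.card α := by omega
    obtain ⟨x⟩ := Fintype.card_pos_iff.mp hpos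
    intro h
    apply hfix x
    rw [h]
    rfl
  have ho : orderOf π = 2 := orderOf_eq_prime (by rw [pow_two]; exact h2) hne
  obtain ⟨n, hn⟩ := Equiv.Perm.cycleType_prime_order (σ := π) (by rw [ho]; exact Nat.prime_two)
  rw [ho] at hn
  have hsum := Equiv.Perm.sum_cycleType π
  have hsupp : π.support = Finset.univ := by
    ext x
    simp [hfix x]
  rw [hn, Multiset.sum_replicate, hsupp, Finset.card_univ, hcard, smul_eq_mul] at hsum
  have hnk : n + 1 = k := by omega
  rw [Equiv.Perm.sign_of_cycleType', hn, Multiset.map_replicate, Multiset.prod_replicate, hnk]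
  norm_num

variable {F : Type*} [Field F]

/-- the vectors of norm one. -/
def X1 (F : Type*) [Field F] : Type _ := {v : I4 → F // plusForm F 2 v = 1}

instance [Finite F] : Finite (X1 F) :=
  inferInstanceAs (Finite {v : I4 → F // plusForm F 2 v = 1})

noncomputable instance [Finite F] : Fintype (X1 F) := Fintype.ofFinite _

noncomputable instance : DecidableEq (X1 F) := Classical.decEq _

/-- the isometries permute the vectors of norm one. -/
instance : MulAction ↥(Isom (plusForm F 2)) (X1 F) where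
  smul g v := ⟨g.1 v.1, by rw [g.2 v.1]; exact v.2⟩
  one_smul _ := Subtype.ext rfl
  mul_smul _ _ _ := Subtype.ext rfl

theorem smul_val (g : ↥(Isom (plusForm F 2))) (v : X1 F) : (g • v).1 = g.1 v.1 := rfl

/-- the vectors of norm one correspond to the matrices of determinant one. -/
def x1Equiv : X1 F ≃ SpecialLinearGroup (Fin 2) F where
  toFun v := ⟨toMat v.1, by rw [← quadFormPlus_eq, ← plusForm_apply]; exact v.2⟩
  invFun N := ⟨fromMat N.1, by rw [plusForm_apply, quadFormPlus_eq, toMat_fromMat]; exact N.2⟩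
  left_inv v := Subtype.ext (fromMat_toMat v.1)
  right_inv N := Subtype.ext (toMat_fromMat N.1)

theorem card_X1 [Fintype F] (hF : Fintype.card F = 2) : Fintype.card (X1 F) = 2 * 3 := by
  rw [← Nat.card_eq_fintype_card, Nat.card_congr x1Equiv, Cfsg.Agent.Helper7.SL2.card_SL2, hF]
  norm_num

/-- the sign character of the orthogonal group on the vectors of norm one. -/
noncomputable def Phi [Finite F] : ↥(Cfsg.isometryGroup F ⇑(plusForm F 2)) →* ℤˣ :=
  (Equiv.Perm.sign.comp (MulAction.toPermHom ↥(Isom (plusForm F 2)) (X1 F))).comp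
    (isomEquiv (plusForm F 2)).toMonoidHom

theorem Phi_rho [Finite F] (x : G2 F) :
    Phi (rho x) = Equiv.Perm.sign (MulAction.toPerm (rhoIsom x) : Equiv.Perm (X1 F)) := by
  unfold Phi
  rw [MonoidHom.comp_apply, MonoidHom.comp_apply]
  show Equiv.Perm.sign (MulAction.toPermHom _ _ (isomEquiv (plusForm F 2) (rho x))) = _
  rw [isomEquiv_rho]
  rfl

/-- `(a, 1)` has no fixed points on the vectors of norm one. -/
theorem rho_left_fpf {a : SpecialLinearGroup (Fin 2) F} (ha : a ≠ 1) (v : X1 F) :
    (rhoIsom ((a, 1) : G2 F)) • v ≠ v := by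
  intro h
  apply ha
  have h1 : L ((a, 1) : G2 F) v.1 = v.1 := congrArg Subtype.val h
  have h2 := congrArg toMat h1
  rw [toMat_L] at h2
  unfold act at h2
  have h3 : a.1 * toMat v.1 * ((1 : SpecialLinearGroup (Fin 2) F)⁻¹).1 = toMat v.1 := h2
  rw [inv_one] at h3
  have h4 : a.1 * toMat v.1 * (1 : Matrix (Fin 2) (Fin 2) F) = toMat v.1 := h3
  rw [Matrix.mul_one] at h4
  have hdet : (toMat v.1).det = 1 := by
    rw [← quadFormPlus_eq, ← plusForm_apply]
    exact v.2
  have h5 : toMat v.1 * (toMat v.1).adjugate = 1 := by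
    rw [Matrix.mul_adjugate, hdet, one_smul]
  apply Subtype.ext
  calc a.1 = a.1 * (toMat v.1 * (toMat v.1).adjugate) := by rw [h5, Matrix.mul_one]
    _ = (a.1 * toMat v.1) * (toMat v.1).adjugate := by rw [Matrix.mul_assoc]
    _ = 1 := by rw [h4, h5]

/-- the transvection. -/
def T (F : Type*) [Field F] : SpecialLinearGroup (Fin 2) F :=
  ⟨!![1, 1; 0, 1], by rw [Matrix.det_fin_two_of]; ring⟩

theorem T_ne_one : T F ≠ 1 := by
  intro h
  have := congrArg (fun M : SpecialLinearGroup (Fin 2) F => M.1 0 1) h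
  simp [T] at this

theorem T_mul_T (h2 : (2 : F) = 0) : T F * T F = 1 := by
  apply Subtype.ext
  show (!![1, 1; 0, 1] : Matrix (Fin 2) (Fin 2) F) * !![1, 1; 0, 1] = 1
  rw [Matrix.mul_fin_two, Matrix.one_fin_two]
  have : (1 : F) + 1 = 0 := by rw [one_add_one_eq_two, h2]
  simp [this]

/-- the sign of `(T, 1)`. -/
theorem Phi_rho_T [Fintype F] (hF : Fintype.card F = 2) (h2 : (2 : F) = 0) :
    Phi (rho ((T F, 1) : G2 F)) = -1 := by
  rw [Phi_rho]
  have key := sign_fpf_involution (MulAction.toPerm (rhoIsom ((T F, 1) : G2 F)) : Equiv.Perm (X1 F))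
    ?_ ?_ 3 ?_
  · rw [key]
    norm_num
  · have h1 : (MulAction.toPerm (rhoIsom ((T F, 1) : G2 F)) : Equiv.Perm (X1 F))
        = MulAction.toPermHom ↥(Isom (plusForm F 2)) (X1 F) (rhoIsom ((T F, 1) : G2 F)) := rfl
    rw [h1, ← map_mul, ← map_mul, Prod.mk_mul_mk, T_mul_T h2, mul_one]
    show MulAction.toPermHom ↥(Isom (plusForm F 2)) (X1 F) (rhoIsom (1 : G2 F)) = 1
    rw [map_one, map_one]
  · intro v
    exact rho_left_fpf T_ne_one v
  · convert card_X1 hF

end Cfsg.Agent.Helper8.OPl
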