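import Mathlib
import Cfsg.Agent.Helper8.OPlA

set_option autoImplicit false

/-!
# The isometry exchanging the two factors of `SL₂ × SL₂` in characteristic two (helper8)
-/

namespace Cfsg.Agent.Helper8.OPl

open Matrix Cfsg Cfsg.Agent.Helper8.StdForms Cfsg.Agent.Helper8.OrthOrder
  Cfsg.Agent.Helper8.ReflMatrix Cfsg.Agent.Helper8.SL2Plus
open scoped commutatorElement

variable {F : Type*} [Field F]

theorem neg_eq_self (h2 : (2 : F) = 0) (x : F) : -x = x := by
  linear_combination (-x) * h2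

/-- the coordinate exchange `x₀ ↔ y₀`. -/
def tLin (F : Type*) [Field F] : (I4 → F) ≃ₗ[F] (I4 → F) :=
  LinearEquiv.funCongrLeft F F (Equiv.swap (Sum.inl 0) (Sum.inr 0))

theorem tLin_apply (v : I4 → F) (i : I4) :
    tLin F v i = v (Equiv.swap (Sum.inl 0) (Sum.inr 0) i) := rfl

theorem plusForm_tLin (v : I4 → F) : plusForm F 2 (tLin F v) = plusForm F 2 v := by
  rw [plusForm_apply, plusForm_apply]
  unfold Cfsg.quadFormPlus
  rw [Fin.sum_univ_two, Fin.sum_univ_two, tLin_apply, tLin_apply, tLin_apply, tLin_apply,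
    Equiv.swap_apply_left, Equiv.swap_apply_right,
    Equiv.swap_apply_of_ne_of_ne (by simp) (by simp),
    Equiv.swap_apply_of_ne_of_ne (by simp) (by simp)]
  ring

/-- the coordinate exchange as an isometry. -/
def tIsom (F : Type*) [Field F] : ↥(Isom (plusForm F 2)) := ⟨tLin F, plusForm_tLin⟩

/-- in characteristic two the coordinate exchange is the adjugate. -/
theorem toMat_tLin (h2 : (2 : F) = 0) (v : I4 → F) : toMat (tLin F v) = (toMat v).adjugate := by
  rw [Matrix.adjugate_fin_two, toMat_apply, toMat_apply]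
  ext i j
  have e1 : Equiv.swap (Sum.inl 0 : I4) (Sum.inr 0) (Sum.inl 1) = Sum.inl 1 :=
    Equiv.swap_apply_of_ne_of_ne (by simp) (by simp)
  have e2 : Equiv.swap (Sum.inl 0 : I4) (Sum.inr 0) (Sum.inr 1) = Sum.inr 1 :=
    Equiv.swap_apply_of_ne_of_ne (by simp) (by simp)
  fin_cases i <;> fin_cases j
  · simp [tLin_apply]
  · simp [tLin_apply, e1, neg_eq_self h2]
  · simp [tLin_apply, e2, neg_eq_self h2]
  · simp [tLin_apply]

theorem tIsom_mul_rhoIsom (h2 : (2 : F) = 0) (a b : SpecialLinearGroup (Fin 2) F) :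
    tIsom F * rhoIsom ((a, b) : G2 F) = rhoIsom ((b, a) : G2 F) * tIsom F := by
  apply Subtype.ext
  apply LinearEquiv.ext
  intro v
  show tLin F (L ((a, b) : G2 F) v) = L ((b, a) : G2 F) (tLin F v)
  apply toMat_injective
  rw [toMat_tLin h2, toMat_L, toMat_L, toMat_tLin h2]
  unfold act
  show (a.1 * toMat v * (b⁻¹).1).adjugate = b.1 * (toMat v).adjugate * (a⁻¹).1
  rw [Matrix.adjugate_mul_distrib, Matrix.adjugate_mul_distrib, Matrix.mul_assoc]
  have h1 : (b⁻¹).1.adjugate = b.1 := by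
    have := Matrix.SpecialLinearGroup.coe_inv (b⁻¹)
    rw [inv_inv] at this
    exact this.symm
  have h3 : a.1.adjugate = (a⁻¹).1 := (Matrix.SpecialLinearGroup.coe_inv a).symm
  rw [h1, h3]

/-- the coordinate exchange in the matrix group. -/
noncomputable def tO (F : Type*) [Field F] : ↥(Cfsg.isometryGroup F ⇑(plusForm F 2)) :=
  (isomEquiv (plusForm F 2)).symm (tIsom F)

theorem tO_mul_rho (h2 : (2 : F) = 0) (a b : SpecialLinearGroup (Fin 2) F) :
    tO F * rho ((a, b) : G2 F) = rho ((b, a) : G2 F) * tO F := by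
  apply (isomEquiv (plusForm F 2)).injective
  rw [map_mul, map_mul, isomEquiv_rho, isomEquiv_rho]
  unfold tO
  rw [MulEquiv.apply_symm_apply]
  exact tIsom_mul_rhoIsom h2 a b

/-- `(a⁻¹, a)` is a commutator. -/
theorem rho_inv_self_mem (h2 : (2 : F) = 0) (a : SpecialLinearGroup (Fin 2) F) :
    rho ((a⁻¹, a) : G2 F) ∈ commutator ↥(Cfsg.isometryGroup F ⇑(plusForm F 2)) := by
  have h : rho ((a⁻¹, a) : G2 F) = ⁅tO F, (rho ((a, 1) : G2 F) :
      ↥(Cfsg.isometryGroup F ⇑(plusForm F 2)))⁆ := by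
    rw [commutatorElement_def, tO_mul_rho h2, mul_assoc (rho _), mul_inv_cancel, mul_one, ← map_inv,
      ← map_mul]
    congr 1
    rw [Prod.inv_mk, Prod.mk_mul_mk, inv_one, one_mul, mul_one]
  rw [h, commutator_def]
  exact Subgroup.commutator_mem_commutator (Subgroup.mem_top _) (Subgroup.mem_top _)

end Cfsg.Agent.Helper8.OPl
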