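import Mathlib
import Cfsg.Agent.Helper6.BrauerPerm2

set_option autoImplicit false

/-!
# Transfer of the Steinberg property along an isomorphism (helper8)
-/

namespace Cfsg.Agent.Helper8.OSt

universe u v

/-- the Steinberg property of a finite group at the prime `p`. -/
def HasSteinberg (p : ℕ) (G : Type u) [Group G] : Prop :=
  ∃ χ : G → ℂ, Cfsg.IsIrrCharacter G χ ∧
    ∀ P : Sylow p G, χ 1 = Nat.card P ∧ ∀ x : G, x ∈ P → x ≠ 1 → χ x = 0

theorem HasSteinberg.of_mulEquiv {p : ℕ} {G : Type u} [Group G] [Finite G] {H : Type v} [Group H]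
    [Finite H] (φ : H ≃* G) (h : HasSteinberg p G) : HasSteinberg p H := by
  obtain ⟨χ, hirr, hχ⟩ := h
  refine ⟨χ ∘ φ, Cfsg.Agent.Helper6.IsIrrCharacter.comp_mulEquiv φ hirr, fun P => ?_⟩
  have hr : (P : Subgroup H) ≤ φ.symm.toMonoidHom.range := by
    rw [MonoidHom.range_eq_top.mpr φ.symm.surjective]
    exact le_top
  obtain ⟨h1, h2⟩ := hχ (P.comapOfInjective φ.symm.toMonoidHom φ.symm.injective hr)
  have hmem : ∀ g : G, g ∈ P.comapOfInjective φ.symm.toMonoidHom φ.symm.injective hr ↔
      φ.symm g ∈ P := by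
    intro g
    exact Iff.rfl
  constructor
  · rw [Function.comp_apply, map_one, h1]
    congr 1
    apply Nat.card_congr
    exact
      { toFun := fun g => ⟨φ.symm g.1, (hmem g.1).mp g.2⟩
        invFun := fun x => ⟨φ x.1, (hmem _).mpr (by rw [MulEquiv.symm_apply_apply]; exact x.2)⟩
        left_inv := fun g => Subtype.ext (φ.apply_symm_apply g.1)
        right_inv := fun x => Subtype.ext (φ.symm_apply_apply x.1) }
  · intro x hx hx1
    rw [Function.comp_apply]
    apply h2
    · rw [hmem, MulEquiv.symm_apply_apply]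
      exact hx
    · intro h
      apply hx1
      have := congrArg φ.symm h
      rwa [MulEquiv.symm_apply_apply, map_one] at this

end Cfsg.Agent.Helper8.OSt
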