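import Mathlib
import Cfsg.Agent.Helper8.OPlB
import Cfsg.Agent.Helper8.OStV
import Cfsg.Agent.Helper7.LinearCard
import Cfsg.Agent.Helper6.BrolineA
import Cfsg.Agent.Helper1.SUJn
import Cfsg.Agent.Lead.SLBND
import Cfsg.Agent.S0287

set_option autoImplicit false

/-!
# The Steinberg character of `PΩ⁺₄(2)` (helper8)
-/

namespace Cfsg.Agent.Helper8.OPl

open Matrix Cfsg Cfsg.Agent.Helper8.StdForms Cfsg.Agent.Helper8.OrthOrder
  Cfsg.Agent.Helper8.ReflMatrix Cfsg.Agent.Helper8.SL2Plus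

variable {F : Type*} [Field F]

/-- the two-part of a number which is `6` or `18`. -/
theorem two_part (a i n e : ℕ) (ha : a = 2 ^ e) (h : a * i = n) (hodd : ¬ 2 ∣ i)
    (hn : n = 6 ∨ n = 18) : a = 2 := by
  rcases e with _ | _ | e
  · exfalso
    rw [pow_zero] at ha
    subst ha
    rw [one_mul] at h
    apply hodd
    rcases hn with hn | hn <;> omega
  · rw [ha]
    norm_num
  · exfalso
    rw [pow_succ, pow_succ] at ha
    obtain ⟨k, hk⟩ : ∃ k, k = 2 ^ e * i := ⟨_, rfl⟩
    have : n = 4 * k := by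
      rw [← h, ha, hk]
      ring
    rcases hn with hn | hn <;> omega

theorem card_quot_eq_index {G : Type*} [Group G] (H : Subgroup G) : Nat.card (G ⧸ H) = H.index := rfl

/-- **The Steinberg character of `PΩ⁺₄(2)`**, a group of order `18`. -/
theorem hasSteinberg_plus_two [Fintype F] (hF : Fintype.card F = 2) :
    Cfsg.Agent.Helper8.OSt.HasSteinberg 2 (Cfsg.POmega F ⇑(plusForm F 2)) := by
  classical
  have : Fact (Nat.Prime 2) := ⟨Nat.prime_two⟩
  have h2 : (2 : F) = 0 := by
    have := Nat.cast_card_eq_zero F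
    rw [hF] at this
    exact_mod_cast this
  have hinj : Function.Injective (rho (F := F)) := by
    rw [← MonoidHom.ker_eq_bot_iff]
    apply Subgroup.eq_bot_of_card_eq
    rw [card_ker, Cfsg.Agent.Helper7.card_center_SL 2 (by norm_num), hF]
    norm_num
  have hSL : Nat.card (SpecialLinearGroup (Fin 2) F) = 6 := by
    rw [Cfsg.Agent.Helper7.SL2.card_SL2, hF]
    norm_num
  have hG : Nat.card (G2 F) = 36 := by
    rw [Nat.card_prod, hSL]
  have hO : Nat.card ↥(isometryGroup F ⇑(plusForm F 2)) = 72 := by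
    have hQeq : Cfsg.quadFormPlus 2 F = ⇑(plusForm F 2) :=
      funext (fun v => (plusForm_apply F 2 v).symm)
    have := Cfsg.Agent.S0287.result (F := F) hF 2 (by norm_num)
    rw [hQeq] at this
    rw [this]
    norm_num [Finset.prod_range_one]
  have hrange : Nat.card (rho (F := F)).range = 36 := by
    rw [← hG]
    exact (Nat.card_congr (MonoidHom.ofInjective hinj).toEquiv).symm
  have hidx : (rho (F := F)).range.index = 2 := by
    have := Subgroup.card_mul_index (rho (F := F)).range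
    rw [hrange, hO] at this
    omega
  have hnorm : (rho (F := F)).range.Normal := Subgroup.normal_of_index_eq_two hidx
  have hle : commutator ↥(isometryGroup F ⇑(plusForm F 2)) ≤ (rho (F := F)).range := by
    apply Subgroup.Normal.quotient_commutative_iff_commutator_le.mp
    have hcard : Nat.card (↥(isometryGroup F ⇑(plusForm F 2)) ⧸ (rho (F := F)).range) = 2 := by
      rw [card_quot_eq_index, hidx]
    have : IsCyclic (↥(isometryGroup F ⇑(plusForm F 2)) ⧸ (rho (F := F)).range) :=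
      isCyclic_of_prime_card hcard
    exact IsCyclic.isMulCommutative
  -- the preimage of `Ω`
  obtain ⟨Ω', hΩ'⟩ : ∃ Ω' : Subgroup (G2 F),
      Ω' = (commutator ↥(isometryGroup F ⇑(plusForm F 2))).comap rho := ⟨_, rfl⟩
  have hmem : ∀ x : G2 F, x ∈ Ω' ↔ rho x ∈ commutator ↥(isometryGroup F ⇑(plusForm F 2)) := by
    intro x
    rw [hΩ']
    exact Iff.rfl
  -- the isomorphism
  obtain ⟨f, hf⟩ : ∃ f : ↥Ω' →* ↥(Omega F ⇑(plusForm F 2)), ∀ x, (f x).1 = rho x.1 :=
    ⟨{ toFun := fun x => ⟨rho x.1, (hmem x.1).mp x.2⟩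
       map_one' := Subtype.ext (map_one rho)
       map_mul' := fun x y => Subtype.ext (map_mul rho x.1 y.1) }, fun x => rfl⟩
  have hfbij : Function.Bijective f := by
    constructor
    · intro x y hxy
      apply Subtype.ext
      apply hinj
      rw [← hf, ← hf, hxy]
    · intro w
      obtain ⟨x, hx⟩ := hle w.2
      refine ⟨⟨x, (hmem x).mpr (by rw [hx]; exact w.2)⟩, ?_⟩
      apply Subtype.ext
      rw [hf]
      exact hx
  obtain ⟨φ, hφ⟩ : ∃ φ : ↥(Omega F ⇑(plusForm F 2)) ≃* ↥Ω', φ = (MulEquiv.ofBijective f hfbij).symm :=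
    ⟨_, rfl⟩
  -- the projection
  obtain ⟨π, hπ⟩ : ∃ π : ↥Ω' →* SpecialLinearGroup (Fin 2) F, ∀ x, π x = x.1.1 :=
    ⟨(MonoidHom.fst _ _).comp Ω'.subtype, fun x => rfl⟩
  have hπsurj : Function.Surjective π := by
    intro a
    refine ⟨⟨(a, a⁻¹), (hmem _).mpr ?_⟩, ?_⟩
    · have := rho_inv_self_mem h2 a⁻¹
      rwa [inv_inv] at this
    · rw [hπ]
  -- the order of `Ω'`
  have hdvd6 : 6 ∣ Nat.card ↥Ω' := by
    rw [← hSL]
    exact Subgroup.card_dvd_of_surjective π hπsurj
  have hdvd18 : Nat.card ↥Ω' ∣ 18 := by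
    obtain ⟨σ, hσ⟩ : ∃ σ : G2 F →* ℤˣ, σ = (Phi (F := F)).comp rho := ⟨_, rfl⟩
    have hσsurj : Function.Surjective σ := by
      intro u
      rcases Int.units_eq_one_or u with rfl | rfl
      · exact ⟨1, map_one σ⟩
      · exact ⟨(T F, 1), by rw [hσ, MonoidHom.comp_apply, Phi_rho_T hF h2]⟩
    have hker_index : σ.ker.index = 2 := by
      rw [Subgroup.index_ker, MonoidHom.range_eq_top.mpr hσsurj,
        Nat.card_congr Subgroup.topEquiv.toEquiv, Nat.card_eq_fintype_card]
      rfl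
    have hker_card : Nat.card σ.ker = 18 := by
      have := Subgroup.card_mul_index σ.ker
      rw [hker_index, hG] at this
      omega
    have hle' : Ω' ≤ σ.ker := by
      intro x hx
      rw [MonoidHom.mem_ker, hσ, MonoidHom.comp_apply]
      exact Abelianization.commutator_subset_ker (Phi (F := F)) ((hmem x).mp hx)
    rw [← hker_card]
    exact Subgroup.card_dvd_of_le hle'
  have hcases : Nat.card ↥Ω' = 6 ∨ Nat.card ↥Ω' = 18 := by
    obtain ⟨k, hk⟩ := hdvd6
    obtain ⟨l, hl⟩ := hdvd18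
    rw [hk] at hl ⊢
    have hl' : k * l = 3 := by
      have : 6 * (k * l) = 6 * 3 := by rw [← mul_assoc, ← hl]
      omega
    have hk3 : k ∣ 3 := ⟨l, hl'.symm⟩
    rcases (Nat.dvd_prime Nat.prime_three).mp hk3 with rfl | rfl
    · left; rfl
    · right; rfl
  -- the character
  obtain ⟨χ0, hirr0, h10, hz0⟩ := Cfsg.Agent.Lead.SLBN.exists_steinberg_SL (F := F) 1
  have hUT : Nat.card (Cfsg.Agent.Helper8.AutSLn.UT F (1 + 1)) = 2 := by
    have : CharP F 2 := CharTwo.of_one_ne_zero_of_two_eq_zero one_ne_zero h2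
    obtain ⟨e, he⟩ := (Cfsg.Agent.Helper8.AutSLn.isPGroup_UT (F := F) (k := 1 + 1) 2).exists_card_eq
    exact two_part _ _ _ e he (Subgroup.card_mul_index _)
      (Cfsg.Agent.Helper8.AutSLn.not_dvd_index_UT (F := F) 2 (1 + 1)) (Or.inl hSL)
  obtain ⟨P⟩ : Nonempty (Sylow 2 ↥Ω') := inferInstance
  have hP : Nat.card (P : Subgroup ↥Ω') = 2 := by
    obtain ⟨e, he⟩ := (P.isPGroup').exists_card_eq
    exact two_part _ _ _ e he (Subgroup.card_mul_index _) P.not_dvd_index hcases
  have hcenter : ∀ z ∈ Subgroup.center ↥Ω', π z ∈ Subgroup.center (SpecialLinearGroup (Fin 2) F) := by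
    intro z hz
    rw [Subgroup.mem_center_iff] at hz ⊢
    intro g
    obtain ⟨g', rfl⟩ := hπsurj g
    rw [← map_mul, ← map_mul, hz g']
  have key := Cfsg.Agent.Helper1.SUJ.steinberg_of_iso φ 2 (P : Subgroup ↥Ω') P.isPGroup'
    P.not_dvd_index (χ0 ∘ π)
    (Cfsg.Agent.Helper6.isIrrCharacter_comp_surjective π hπsurj hirr0) ?_ ?_
  · exact key
  · rw [Function.comp_apply, map_one, h10, hUT, hP]
  · intro z hz
    rw [Function.comp_apply, Function.comp_apply, map_one]
    exact hz0 _ (hcenter z hz)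

end Cfsg.Agent.Helper8.OPl
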