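import Mathlib
import Cfsg.Agent.Helper8.OStV
import Cfsg.Agent.Helper6.OddReal

set_option autoImplicit false

/-!
# The Steinberg property for trivial central quotients (helper8)
-/

namespace Cfsg.Agent.Helper8.OSt

universe u v

theorem hasSteinberg_of_subsingleton (p : ℕ) (H : Type u) [Group H] [Subsingleton H] :
    HasSteinberg p H := by
  refine ⟨fun _ => 1, Cfsg.Agent.Helper6.isIrrCharacter_one, fun P => ⟨?_, ?_⟩⟩
  · rw [Nat.card_unique, Nat.cast_one]
  · intro x _ hx
    exact absurd (Subsingleton.elim x 1) hx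

theorem hasSteinberg_quot_center_of_comm (p : ℕ) (G : Type u) [Group G]
    (hcomm : ∀ x y : G, x * y = y * x) : HasSteinberg p (G ⧸ Subgroup.center G) := by
  haveI : Subsingleton (G ⧸ Subgroup.center G) := by
    refine ⟨fun x y => ?_⟩
    have h1 : ∀ z : G ⧸ Subgroup.center G, z = 1 := by
      intro z
      induction z using QuotientGroup.induction_on with
      | H g =>
        rw [QuotientGroup.eq_one_iff, Subgroup.mem_center_iff]
        exact fun h => hcomm h g
    rw [h1 x, h1 y]
  exact hasSteinberg_of_subsingleton p _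

/-- the rotations of a dihedral group. -/
def rotD (n : ℕ) : Subgroup (DihedralGroup n) where
  carrier := {g | ∃ i, g = DihedralGroup.r i}
  mul_mem' := by
    rintro _ _ ⟨i, rfl⟩ ⟨j, rfl⟩
    exact ⟨i + j, DihedralGroup.r_mul_r i j⟩
  one_mem' := ⟨0, DihedralGroup.one_def⟩
  inv_mem' := by
    rintro _ ⟨i, rfl⟩
    exact ⟨-i, by simp⟩

theorem commutator_dihedral_le (n : ℕ) : commutator (DihedralGroup n) ≤ rotD n := by
  rw [commutator_def, Subgroup.commutator_le]
  intro g _ h _
  rw [commutatorElement_def]
  rcases g with i | i <;> rcases h with j | j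
  · refine ⟨0, ?_⟩
    rw [← DihedralGroup.one_def]
    simp
  · exact ⟨_, by simp; rfl⟩
  · exact ⟨_, by simp; rfl⟩
  · exact ⟨_, by simp; rfl⟩

/-- the commutator subgroup of a group isomorphic to a dihedral group is commutative. -/
theorem comm_of_iso_dihedral {G : Type u} [Group G] {n : ℕ} (φ : G ≃* DihedralGroup n)
    (x y : ↥(commutator G)) : x * y = y * x := by
  have hmap : ∀ z : ↥(commutator G), φ z.1 ∈ rotD n := by
    intro z
    apply commutator_dihedral_le
    have h0 : (commutator G).map φ.toMonoidHom ≤ commutator (DihedralGroup n) := by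
      rw [commutator_def, Subgroup.map_commutator, commutator_def]
      exact Subgroup.commutator_mono le_top le_top
    exact h0 ⟨z.1, z.2, rfl⟩
  obtain ⟨i, hi⟩ := hmap x
  obtain ⟨j, hj⟩ := hmap y
  apply Subtype.ext
  apply φ.injective
  rw [Subgroup.coe_mul, Subgroup.coe_mul, map_mul, map_mul, hi, hj, DihedralGroup.r_mul_r,
    DihedralGroup.r_mul_r, add_comm]

end Cfsg.Agent.Helper8.OSt
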