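import Mathlib
import Cfsg.Agent.Helper8.OStV
import Cfsg.Agent.Helper6.ProdIrr

set_option autoImplicit false

/-!
# The Steinberg property of a direct product (helper8)
-/

namespace Cfsg.Agent.Helper8.OSt

universe u v

theorem mem_sylow_of_pow_eq_one {p : ℕ} [Fact p.Prime] {G : Type u} [Group G] (x : G) (k : ℕ)
    (hx : x ^ (p ^ k) = 1) : ∃ P : Sylow p G, x ∈ P := by
  have hp : IsPGroup p (Subgroup.zpowers x) := by
    intro y
    obtain ⟨n, hn⟩ := Subgroup.mem_zpowers_iff.mp y.2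
    refine ⟨k, ?_⟩
    apply Subtype.ext
    rw [Subgroup.coe_pow, Subgroup.coe_one, ← hn, ← zpow_natCast, ← zpow_mul, mul_comm, zpow_mul,
      zpow_natCast, hx, one_zpow]
  obtain ⟨P, hP⟩ := hp.exists_le_sylow
  exact ⟨P, hP (Subgroup.mem_zpowers x)⟩

theorem HasSteinberg.prod {p : ℕ} [Fact p.Prime] {G : Type u} [Group G] [Finite G] {H : Type v}
    [Group H] [Finite H] (hG : HasSteinberg p G) (hH : HasSteinberg p H) :
    HasSteinberg p (G × H) := by
  obtain ⟨φ, hφ, hφ'⟩ := hG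
  obtain ⟨ψ, hψ, hψ'⟩ := hH
  refine ⟨fun x => φ x.1 * ψ x.2, Cfsg.Agent.Helper6.isIrrCharacter_prod hφ hψ, fun P => ?_⟩
  constructor
  · obtain ⟨PG⟩ : Nonempty (Sylow p G) := inferInstance
    obtain ⟨PH⟩ : Nonempty (Sylow p H) := inferInstance
    show φ 1 * ψ 1 = _
    rw [(hφ' PG).1, (hψ' PH).1, Sylow.card_eq_multiplicity, Sylow.card_eq_multiplicity,
      Sylow.card_eq_multiplicity, Nat.card_prod,
      Nat.factorization_mul Nat.card_pos.ne' Nat.card_pos.ne', Finsupp.add_apply, pow_add]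
    push_cast
    rfl
  · intro x hx hx1
    obtain ⟨k, hk⟩ := (P.isPGroup' : IsPGroup p (P : Subgroup (G × H))) ⟨x, hx⟩
    have hk' : x ^ (p ^ k) = 1 := by
      have := congrArg Subtype.val hk
      simpa using this
    have h1 : x.1 ^ (p ^ k) = 1 := by
      have := congrArg Prod.fst hk'
      simpa using this
    have h2 : x.2 ^ (p ^ k) = 1 := by
      have := congrArg Prod.snd hk'
      simpa using this
    by_cases hx1' : x.1 = 1
    · have hx2' : x.2 ≠ 1 := by
        intro h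
        exact hx1 (Prod.ext hx1' h)
      obtain ⟨Q, hQ⟩ := mem_sylow_of_pow_eq_one x.2 k h2
      show φ x.1 * ψ x.2 = 0
      rw [(hψ' Q).2 x.2 hQ hx2', mul_zero]
    · obtain ⟨Q, hQ⟩ := mem_sylow_of_pow_eq_one x.1 k h1
      show φ x.1 * ψ x.2 = 0
      rw [(hφ' Q).2 x.1 hQ hx1', zero_mul]

end Cfsg.Agent.Helper8.OSt
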