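import Mathlib
import Cfsg.Agent.Helper8.OWallA
import Cfsg.Agent.Helper8.SpRPal
set_option autoImplicit false

/-!
Semisimple isometries of odd order of a nondegenerate quadratic space that are conjugate under
the general linear group are conjugate under the isometry group (abstract form).
-/

namespace Cfsg.Agent.Helper8.OWall

open Polynomial Module
open Cfsg.Agent.Helper8.SpS

universe u v

section poly

variable (F : Type v) [Field F]

/-- the geometric sum `1 + X + ⋯ + X ^ (N - 1)` -/
noncomputable def gs (N : ℕ) : F[X] := ∑ i ∈ Finset.range N, X ^ i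

theorem gs_mul (N : ℕ) : gs F N * (X - 1) = X ^ N - 1 := geom_sum_mul X N

theorem eval_one_gs (N : ℕ) : (gs F N).eval 1 = N := by
  unfold gs
  rw [eval_finsetSum]
  simp

variable {F}

theorem isCoprime_gs {N : ℕ} (hN : (N : F) ≠ 0) : IsCoprime (X - 1 : F[X]) (gs F N) := by
  have hX1 : (X - 1 : F[X]) = X - C 1 := by rw [map_one]
  have hirr : Irreducible (X - 1 : F[X]) := by rw [hX1]; exact irreducible_X_sub_C 1
  rw [hirr.coprime_iff_not_dvd]
  intro hd
  rw [hX1, dvd_iff_isRoot, IsRoot.def, eval_one_gs] at hd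
  exact hN hd

theorem isCoprime_reverse_gs {N : ℕ} (hN : (N : F) ≠ 0) :
    IsCoprime (X - 1 : F[X]).reverse (gs F N) := by
  rw [Cfsg.Agent.Helper8.SpR.reverse_X_sub_one]
  exact (isCoprime_gs hN).neg_left

end poly

variable {F : Type v} [Field F]
variable {V : Type u} [AddCommGroup V] [Module F V]

/-- polynomials in intertwined operators are intertwined -/
theorem aeval_intertwine (a b c : Module.End F V) (h : c * a = b * c) (p : F[X]) :
    c * aeval a p = aeval b p * c := by
  induction p using Polynomial.induction_on' with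
  | add f g hf hg => rw [map_add, map_add, mul_add, add_mul, hf, hg]
  | monomial n k =>
    rw [← C_mul_X_pow_eq_monomial, map_mul, map_mul, aeval_C, aeval_C, map_pow, map_pow, aeval_X,
      aeval_X]
    have h1 : c * a ^ n = b ^ n * c := by
      induction n with
      | zero => rw [pow_zero, pow_zero, mul_one, one_mul]
      | succ n ih => rw [pow_succ, ← mul_assoc, ih, mul_assoc, h, ← mul_assoc, ← pow_succ]
    rw [← mul_assoc, ← Algebra.commutes k c, mul_assoc, h1, mul_assoc]

theorem conj_pow' (a c c' : Module.End F V) (hc'c : c' * c = 1) (k : ℕ) :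
    (c * a * c') ^ k = c * a ^ k * c' ∨ k = 0 := by
  induction k with
  | zero => right; rfl
  | succ k ih =>
    left
    rcases ih with ih | ih
    · rw [pow_succ, ih]
      calc c * a ^ k * c' * (c * a * c') = c * a ^ k * (c' * c) * a * c' := by
            simp only [mul_assoc]
        _ = c * a ^ (k + 1) * c' := by rw [hc'c, mul_one, pow_succ, mul_assoc c]
    · rw [ih, zero_add, pow_one, pow_one]

section decomposition

variable (N : ℕ) (hN : (N : F) ≠ 0) (t : Module.End F V) (htN : t ^ N = 1)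
include hN htN

theorem isCompl_ker :
    IsCompl (LinearMap.ker (aeval t (X - 1 : F[X]))) (LinearMap.ker (aeval t (gs F N))) := by
  have hcop := isCoprime_gs hN
  constructor
  · exact disjoint_ker_aeval_of_isCoprime t hcop
  · rw [codisjoint_iff, sup_ker_aeval_eq_ker_aeval_mul_of_coprime t hcop, mul_comm, gs_mul,
      map_sub, map_pow, aeval_X, map_one, htN, sub_self, LinearMap.ker_zero]

omit htN in
theorem orth_ker (β : V →ₗ[F] V →ₗ[F] F) (hI : Inv β t) (u w : V)
    (hu : u ∈ LinearMap.ker (aeval t (X - 1 : F[X]))) (hw : w ∈ LinearMap.ker (aeval t (gs F N))) :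
    β u w = 0 :=
  hI.orth (X - 1) (gs F N) (isCoprime_reverse_gs hN) u w (LinearMap.mem_ker.mp hu)
    (LinearMap.mem_ker.mp hw)

omit hN htN in
theorem mem_ker_sub_one (v : V) : v ∈ LinearMap.ker (aeval t (X - 1 : F[X])) ↔ t v = v := by
  rw [LinearMap.mem_ker, map_sub, aeval_X, map_one, LinearMap.sub_apply, Module.End.one_apply,
    sub_eq_zero]

/-- vectors of the second summand fixed by the operator vanish -/
theorem eq_zero_of_fixed (w : V) (hw : w ∈ LinearMap.ker (aeval t (gs F N))) (h : t w = w) :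
    w = 0 := by
  have h1 : w ∈ LinearMap.ker (aeval t (X - 1 : F[X])) := (mem_ker_sub_one t w).mpr h
  have h2 := (isCompl_ker N hN t htN).disjoint
  rw [Submodule.disjoint_def] at h2
  exact h2 w h1 hw

omit hN in
/-- `(t' - 1) x` lies in the second summand -/
theorem sub_one_mem (t' : Module.End F V) (htt' : t * t' = 1) (x : V) :
    t' x - x ∈ LinearMap.ker (aeval t (gs F N)) := by
  rw [LinearMap.mem_ker]
  have h1 : t' x - x = (aeval t (X - 1 : F[X])) (-(t' x)) := by
    rw [map_sub, aeval_X, map_one, LinearMap.sub_apply, Module.End.one_apply, map_neg,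
      ← Module.End.mul_apply, htt', Module.End.one_apply]
    abel
  rw [h1, ← Module.End.mul_apply, ← map_mul, gs_mul, map_sub, map_pow, aeval_X, map_one, htN,
    sub_self, LinearMap.zero_apply]

end decomposition

variable [Fintype F] [FiniteDimensional F V]

theorem exists_isometry_conj (Q : QuadraticForm F V)
    (hQ : (QuadraticMap.polarBilin Q).Nondegenerate)
    (N : ℕ) (hN : (N : F) ≠ 0) (hodd : Odd N)
    (a a' b b' c c' : Module.End F V) (haa' : a * a' = 1) (ha'a : a' * a = 1)
    (hbb' : b * b' = 1) (hb'b : b' * b = 1) (hcc' : c * c' = 1) (hc'c : c' * c = 1)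
    (ha : ∀ v, Q (a v) = Q v) (hb : ∀ v, Q (b v) = Q v) (haN : a ^ N = 1)
    (hcab : c * a = b * c) :
    ∃ g : V ≃ₗ[F] V, (∀ v, Q (g v) = Q v) ∧ ∀ v, g (a v) = b (g v) := by
  have hN0 : N ≠ 0 := by
    rintro rfl
    exact hN Nat.cast_zero
  -- `b ^ N = 1`
  have hbc : b = c * a * c' := by rw [hcab, mul_assoc, hcc', mul_one]
  have hbN : b ^ N = 1 := by
    rcases conj_pow' a c c' hc'c N with h | h
    · rw [hbc, h, haN, mul_one, hcc']
    · exact absurd h hN0
  have hc'ba : c' * b = a * c' := by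
    rw [hbc, ← mul_assoc, ← mul_assoc, hc'c, one_mul]
  set β := QuadraticMap.polarBilin Q with hβ
  have hβapp : ∀ x y, β x y = QuadraticMap.polar Q x y := fun x y => rfl
  have hNDβ : Nondeg β := fun u hu => hQ.1 u hu
  have hIa : Inv β a := inv_polarBilin Q a ha
  have hIb : Inv β b := inv_polarBilin Q b hb
  have hsymm : ∀ x y, β x y = β y x := fun x y => QuadraticMap.polar_comm Q x y
  set Ua := LinearMap.ker (aeval a (X - 1 : F[X])) with hUa
  set Wa := LinearMap.ker (aeval a (gs F N)) with hWa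
  set Ub := LinearMap.ker (aeval b (X - 1 : F[X])) with hUb
  set Wb := LinearMap.ker (aeval b (gs F N)) with hWb
  have hcompa : IsCompl Ua Wa := isCompl_ker N hN a haN
  have hcompb : IsCompl Ub Wb := isCompl_ker N hN b hbN
  have hortha : ∀ w ∈ Wa, ∀ u ∈ Ua, β w u = 0 := fun w hw u hu => by
    rw [hsymm]; exact orth_ker N hN a β hIa u w hu hw
  have horthb : ∀ w ∈ Wb, ∀ u ∈ Ub, β w u = 0 := fun w hw u hu => by
    rw [hsymm]; exact orth_ker N hN b β hIb u w hu hw
  -- invariance of the summands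
  have hinv : ∀ (t s : Module.End F V), s * t = t * s →
      ∀ x ∈ LinearMap.ker (aeval t (gs F N)), s x ∈ LinearMap.ker (aeval t (gs F N)) := by
    intro t s hst x hx
    rw [LinearMap.mem_ker] at hx ⊢
    have h1 := congrArg (fun f : Module.End F V => f x) (aeval_comm_of_comm t s hst (gs F N))
    simp only [Module.End.mul_apply] at h1
    rw [← h1, hx, map_zero]
  have haW : ∀ x ∈ Wa, a x ∈ Wa := hinv a a rfl
  have ha'W : ∀ x ∈ Wa, a' x ∈ Wa := hinv a a' (by rw [ha'a, haa'])
  have hcW : ∀ x ∈ Wa, c x ∈ Wb := by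
    intro x hx
    rw [hWa, LinearMap.mem_ker] at hx
    rw [hWb, LinearMap.mem_ker]
    have h1 := congrArg (fun f : Module.End F V => f x) (aeval_intertwine a b c hcab (gs F N))
    simp only [Module.End.mul_apply] at h1
    rw [← h1, hx, map_zero]
  have hc'W : ∀ x ∈ Wb, c' x ∈ Wa := by
    intro x hx
    rw [hWb, LinearMap.mem_ker] at hx
    rw [hWa, LinearMap.mem_ker]
    have h1 := congrArg (fun f : Module.End F V => f x) (aeval_intertwine b a c' hc'ba (gs F N))
    simp only [Module.End.mul_apply] at h1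
    rw [← h1, hx, map_zero]
  have hcc'v : ∀ v, c (c' v) = v := fun v => by
    rw [← Module.End.mul_apply, hcc', Module.End.one_apply]
  have hc'cv : ∀ v, c' (c v) = v := fun v => by
    rw [← Module.End.mul_apply, hc'c, Module.End.one_apply]
  have hcav : ∀ v, c (a v) = b (c v) := fun v => by
    rw [← Module.End.mul_apply, hcab, Module.End.mul_apply]
  -- the two quadratic forms on `Wa`
  set Q₁ : QuadraticForm F ↥Wa := Q.comp Wa.subtype with hQ₁
  set Q₂ : QuadraticForm F ↥Wa := Q.comp (c ∘ₗ Wa.subtype) with hQ₂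
  have hQ₁app : ∀ x : ↥Wa, Q₁ x = Q (x : V) := fun x => rfl
  have hQ₂app : ∀ x : ↥Wa, Q₂ x = Q (c (x : V)) := fun x => rfl
  have hnd₁ : Nondeg (QuadraticMap.polarBilin Q₁) := by
    rw [hQ₁, QuadraticMap.polarBilin_comp]
    exact nondeg_restrict β hNDβ Wa Ua hcompa.symm hortha
  have hnd₂ : Nondeg (QuadraticMap.polarBilin Q₂) := by
    rw [hQ₂, QuadraticMap.polarBilin_comp]
    intro x hx
    have h1 := nondeg_restrict β hNDβ Wb Ub hcompb.symm horthb
    have h2 : (⟨c (x : V), hcW _ x.2⟩ : ↥Wb) = 0 := by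
      apply h1
      intro y
      have h3 := hx ⟨c' (y : V), hc'W _ y.2⟩
      rw [LinearMap.compl₁₂_apply] at h3 ⊢
      simp only [LinearMap.comp_apply, Submodule.subtype_apply] at h3
      rw [hcc'v] at h3
      exact h3
    have h4 : c (x : V) = 0 := congrArg Subtype.val h2
    apply Subtype.ext
    have h5 := hc'cv (x : V)
    rw [h4, map_zero] at h5
    exact h5.symm
  have hfix : ∀ x : ↥Wa, (a.restrict haW) x = x → x = 0 := by
    intro x hx
    apply Subtype.ext
    have h1 : a (x : V) = (x : V) := congrArg Subtype.val hx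
    exact eq_zero_of_fixed N hN a haN (x : V) x.2 h1
  have h1 : a.restrict haW * a'.restrict ha'W = 1 := by
    ext x
    change a (a' x) = x
    rw [← Module.End.mul_apply, haa', Module.End.one_apply]
  have h2 : a'.restrict ha'W * a.restrict haW = 1 := by
    ext x
    change a' (a x) = x
    rw [← Module.End.mul_apply, ha'a, Module.End.one_apply]
  have h3 : (a.restrict haW) ^ N = 1 := by
    rw [Module.End.pow_restrict]
    ext x
    rw [LinearMap.coe_restrict_apply, haN]
    rfl
  obtain ⟨z, hzA, hz⟩ := equivariant_isometry N hN hodd (a.restrict haW) (a'.restrict ha'W) h1 h2 h3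
    hfix Q₁ Q₂ (fun x => by rw [hQ₁app, hQ₁app]; exact ha _)
    (fun x => by
      rw [hQ₂app, hQ₂app]
      change Q (c (a (x : V))) = _
      rw [hcav, hb]) hnd₁ hnd₂
  -- `z` is injective
  have hzinj : Function.Injective z := by
    rw [← LinearMap.ker_eq_bot, LinearMap.ker_eq_bot']
    intro x hx
    apply hnd₂
    intro y
    change QuadraticMap.polar Q₂ x y = 0
    unfold QuadraticMap.polar
    rw [hz, hz, hz, map_add, hx, zero_add, QuadraticMap.map_zero, sub_zero, sub_self]
  set zE : ↥Wa ≃ₗ[F] ↥Wa := LinearEquiv.ofInjectiveEndo z hzinj with hzE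
  have hzEapp : ∀ x, zE x = z x := fun x => by
    rw [hzE, LinearEquiv.coe_ofInjectiveEndo]
  set cW : ↥Wa ≃ₗ[F] ↥Wb := LinearEquiv.ofLinearMap (c.restrict hcW) (c'.restrict hc'W)
    (by ext x; exact hcc'v _) (by ext x; exact hc'cv _) with hcWdef
  have hcWapp : ∀ x : ↥Wa, ((cW x : ↥Wb) : V) = c (x : V) := fun x => rfl
  set ψ : ↥Wa ≃ₗ[F] ↥Wb := zE.symm.trans cW with hψ
  have hψapp : ∀ x : ↥Wa, ((ψ x : ↥Wb) : V) = c ((zE.symm x : ↥Wa) : V) := fun x => rfl
  have hψQ : ∀ x : ↥Wa, Q ((ψ x : ↥Wb) : V) = Q (x : V) := by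
    intro x
    rw [hψapp, ← hQ₂app, hz, ← hzEapp, LinearEquiv.apply_symm_apply, hQ₁app]
  obtain ⟨g, hg1, hg2⟩ := Cfsg.Agent.Helper8.WittQuad.witt Q hQ Wa Wb ψ hψQ
  refine ⟨g, hg1, ?_⟩
  have hgpolar : ∀ x y, β (g x) (g y) = β x y :=
    fun x y => Cfsg.Agent.Helper8.WittQuad.polar_isometry Q g hg1 x y
  -- on `Wa`
  have hW : ∀ w : ↥Wa, g (a (w : V)) = b (g (w : V)) := by
    intro w
    have e1 : a (w : V) = (((a.restrict haW) w : ↥Wa) : V) := rfl
    rw [e1, hg2, hg2, hψapp, hψapp, ← hcav]
    congr 1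
    -- `zE.symm` commutes with `a`
    have e2 : zE.symm ((a.restrict haW) w) = (a.restrict haW) (zE.symm w) := by
      apply zE.injective
      rw [LinearEquiv.apply_symm_apply, hzEapp, ← Module.End.mul_apply, hzA, Module.End.mul_apply,
        ← hzEapp, LinearEquiv.apply_symm_apply]
    rw [e2]
    rfl
  -- on `Ua`
  have hU : ∀ u ∈ Ua, b (g u) = g u := by
    intro u hu
    have hau : a u = u := (mem_ker_sub_one a u).mp hu
    rw [← sub_eq_zero]
    apply hNDβ
    intro x
    rw [map_sub, LinearMap.sub_apply]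
    have e1 : β (b (g u)) x = β (g u) (b' x) := by
      have := hIb (g u) (b' x)
      rw [← Module.End.mul_apply b b', hbb', Module.End.one_apply] at this
      exact this
    rw [e1, ← map_sub]
    have e2 : b' x - x ∈ Wb := sub_one_mem N b hbN b' hbb' x
    obtain ⟨w, hw⟩ := ψ.surjective ⟨b' x - x, e2⟩
    have e3 : b' x - x = g (w : V) := by
      rw [hg2, hw]
    rw [e3, hgpolar, hsymm]
    exact hortha _ w.2 _ hu
  intro v
  obtain ⟨u, w, rfl, -⟩ := Submodule.existsUnique_add_of_isCompl hcompa v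
  rw [map_add, map_add, map_add, hW w, (mem_ker_sub_one a (u : V)).mp u.2, map_add, hU _ u.2]

end Cfsg.Agent.Helper8.OWall
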