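import Mathlib
import Cfsg.Agent.Helper8.OWallB
import Cfsg.Prelude.Def_Classical
set_option autoImplicit false

/-!
Wall's theorem for semisimple elements of odd order of finite orthogonal groups.
-/

namespace Cfsg.Agent.Helper8.OWall

open Polynomial Module Matrix

variable {F : Type*} [Field F] [Fintype F]

theorem orth_isConj_iff {p : ℕ} [Fact p.Prime] [CharP F p] {n : ℕ}
    (Q : QuadraticForm F (Fin n → F)) (hQ : (QuadraticMap.polarBilin Q).Nondegenerate)
    (A B : ↥(Cfsg.isometryGroup F ⇑Q)) (hodd : Odd (orderOf A)) (hA : (orderOf A).Coprime p) :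
    IsConj A B ↔ IsConj ((A : GL (Fin n) F) : Matrix (Fin n) (Fin n) F)
      ((B : GL (Fin n) F) : Matrix (Fin n) (Fin n) F) := by
  have hp : p.Prime := Fact.out
  constructor
  · intro h
    rw [isConj_iff] at h
    obtain ⟨g, hg⟩ := h
    refine ⟨(g : GL (Fin n) F), ?_⟩
    have h1 : g * A = B * g := by rw [← hg, inv_mul_cancel_right]
    have h2 := congrArg (fun x : ↥(Cfsg.isometryGroup F ⇑Q) =>
      ((x : GL (Fin n) F) : Matrix (Fin n) (Fin n) F)) h1
    exact h2
  · rintro ⟨c, hc⟩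
    have hc' : (c : Matrix (Fin n) (Fin n) F) * ((A : GL (Fin n) F) : Matrix (Fin n) (Fin n) F) =
        ((B : GL (Fin n) F) : Matrix (Fin n) (Fin n) F) * (c : Matrix (Fin n) (Fin n) F) := hc
    set N := orderOf A with hNdef
    have hN : ((N : ℕ) : F) ≠ 0 := by
      intro h0
      have h1 := (CharP.cast_eq_zero_iff F p N).mp h0
      have h2 : p ∣ Nat.gcd N p := Nat.dvd_gcd h1 dvd_rfl
      rw [hA] at h2
      exact hp.one_lt.ne' (Nat.dvd_one.mp h2)
    set am : Matrix (Fin n) (Fin n) F := ((A : GL (Fin n) F) : Matrix (Fin n) (Fin n) F) with ham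
    set am' : Matrix (Fin n) (Fin n) F :=
      (((A⁻¹ : ↥(Cfsg.isometryGroup F ⇑Q)) : GL (Fin n) F) : Matrix (Fin n) (Fin n) F) with ham'
    set bm : Matrix (Fin n) (Fin n) F := ((B : GL (Fin n) F) : Matrix (Fin n) (Fin n) F) with hbm
    set bm' : Matrix (Fin n) (Fin n) F :=
      (((B⁻¹ : ↥(Cfsg.isometryGroup F ⇑Q)) : GL (Fin n) F) : Matrix (Fin n) (Fin n) F) with hbm'
    set cm : Matrix (Fin n) (Fin n) F := (c : Matrix (Fin n) (Fin n) F) with hcm
    set cm' : Matrix (Fin n) (Fin n) F := ((c⁻¹ : (Matrix (Fin n) (Fin n) F)ˣ) :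
      Matrix (Fin n) (Fin n) F) with hcm'
    have haa' : am * am' = 1 := by
      have : ((A * A⁻¹ : ↥(Cfsg.isometryGroup F ⇑Q)) : GL (Fin n) F).1 = am * am' := rfl
      rw [← this, mul_inv_cancel]
      rfl
    have ha'a : am' * am = 1 := by
      have : ((A⁻¹ * A : ↥(Cfsg.isometryGroup F ⇑Q)) : GL (Fin n) F).1 = am' * am := rfl
      rw [← this, inv_mul_cancel]
      rfl
    have hbb' : bm * bm' = 1 := by
      have : ((B * B⁻¹ : ↥(Cfsg.isometryGroup F ⇑Q)) : GL (Fin n) F).1 = bm * bm' := rfl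
      rw [← this, mul_inv_cancel]
      rfl
    have hb'b : bm' * bm = 1 := by
      have : ((B⁻¹ * B : ↥(Cfsg.isometryGroup F ⇑Q)) : GL (Fin n) F).1 = bm' * bm := rfl
      rw [← this, inv_mul_cancel]
      rfl
    have hcc' : cm * cm' = 1 := by
      rw [hcm, hcm', ← Units.val_mul, mul_inv_cancel, Units.val_one]
    have hc'c : cm' * cm = 1 := by
      rw [hcm, hcm', ← Units.val_mul, inv_mul_cancel, Units.val_one]
    have haN : am ^ N = 1 := by
      have h1 : ((A ^ N : ↥(Cfsg.isometryGroup F ⇑Q)) : GL (Fin n) F).1 = am ^ N := by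
        rw [Subgroup.coe_pow, Units.val_pow_eq_pow_val]
      rw [← h1, hNdef, pow_orderOf_eq_one]
      rfl
    have hΦ : ∀ X Y : Matrix (Fin n) (Fin n) F,
        (Matrix.toLin' X : Module.End F (Fin n → F)) * Matrix.toLin' Y
          = Matrix.toLin' (X * Y) := fun X Y => (Matrix.toLin'_mul X Y).symm
    have hone : (Matrix.toLin' (1 : Matrix (Fin n) (Fin n) F) : Module.End F (Fin n → F)) = 1 := by
      rw [Matrix.toLin'_one]
      rfl
    have hAiso : ∀ v, Q (Matrix.toLin' am v) = Q v := by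
      intro v
      rw [Matrix.toLin'_apply]
      exact A.2 v v
    have hBiso : ∀ v, Q (Matrix.toLin' bm v) = Q v := by
      intro v
      rw [Matrix.toLin'_apply]
      exact B.2 v v
    obtain ⟨g, hg1, hg2⟩ := exists_isometry_conj Q hQ N hN hodd
      (Matrix.toLin' am) (Matrix.toLin' am') (Matrix.toLin' bm) (Matrix.toLin' bm')
      (Matrix.toLin' cm) (Matrix.toLin' cm')
      (by rw [hΦ, haa', hone]) (by rw [hΦ, ha'a, hone]) (by rw [hΦ, hbb', hone])
      (by rw [hΦ, hb'b, hone]) (by rw [hΦ, hcc', hone]) (by rw [hΦ, hc'c, hone])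
      hAiso hBiso
      (by
        have : (Matrix.toLin' am) ^ N = Matrix.toLin' (am ^ N) :=
          (map_pow (Matrix.toLinAlgEquiv' (R := F) (n := Fin n)) am N).symm
        rw [this, haN, hone])
      (by rw [hΦ, hΦ, hc'])
    -- back to matrices
    set G : Matrix (Fin n) (Fin n) F := LinearMap.toMatrix' (g : (Fin n → F) →ₗ[F] (Fin n → F))
      with hG
    set G' : Matrix (Fin n) (Fin n) F :=
      LinearMap.toMatrix' (g.symm : (Fin n → F) →ₗ[F] (Fin n → F)) with hG'
    have hGG' : G * G' = 1 := by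
      rw [hG, hG', ← LinearMap.toMatrix'_comp]
      have : (g : (Fin n → F) →ₗ[F] (Fin n → F)) ∘ₗ (g.symm : (Fin n → F) →ₗ[F] (Fin n → F)) =
          LinearMap.id := by
        ext v
        simp
      rw [this, LinearMap.toMatrix'_id]
    have hG'G : G' * G = 1 := mul_eq_one_comm.mp hGG'
    have hGv : ∀ v, G *ᵥ v = g v := by
      intro v
      rw [hG, LinearMap.toMatrix'_mulVec]
      rfl
    let Gu : GL (Fin n) F := ⟨G, G', hGG', hG'G⟩
    have hGmem : Gu ∈ Cfsg.isometryGroup F ⇑Q := by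
      intro u _
      change Q (G *ᵥ u) = Q u
      rw [hGv, hg1]
    rw [isConj_iff]
    refine ⟨⟨Gu, hGmem⟩, ?_⟩
    rw [mul_inv_eq_iff_eq_mul]
    apply Subtype.ext
    apply Units.ext
    change G * am = bm * G
    apply (Matrix.toLin' (R := F)).injective
    apply LinearMap.ext
    intro v
    rw [Matrix.toLin'_apply, Matrix.toLin'_apply, ← Matrix.mulVec_mulVec, ← Matrix.mulVec_mulVec,
      hGv, hGv]
    have := hg2 v
    rw [Matrix.toLin'_apply, Matrix.toLin'_apply] at this
    exact this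

end Cfsg.Agent.Helper8.OWall
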