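import Mathlib
import Cfsg.Agent.Helper8.OWallB
import Cfsg.Agent.Helper8.SemiSConj
import Cfsg.Prelude.Def_Classical
set_option autoImplicit false

/-!
Semisimple elements of odd order of a finite orthogonal group (any index type) with the same
characteristic polynomial are conjugate.
-/

namespace Cfsg.Agent.Helper8.OWall

open Polynomial Module Matrix

variable {F : Type*} [Field F] [Fintype F]

theorem cast_ne_zero_of_coprime {p : ℕ} [Fact p.Prime] [CharP F p] (N : ℕ) (hN : N.Coprime p) :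
    ((N : ℕ) : F) ≠ 0 := by
  have hp : p.Prime := Fact.out
  intro h0
  have h1 := (CharP.cast_eq_zero_iff F p N).mp h0
  have h2 : p ∣ Nat.gcd N p := Nat.dvd_gcd h1 dvd_rfl
  rw [hN] at h2
  exact hp.one_lt.ne' (Nat.dvd_one.mp h2)

theorem orth_isConj_of_charpoly_eq {ι : Type} [Fintype ι] [DecidableEq ι] {p : ℕ} [Fact p.Prime]
    [CharP F p]
    (Q : QuadraticForm F (ι → F)) (hQ : (QuadraticMap.polarBilin Q).Nondegenerate)
    (A B : ↥(Cfsg.isometryGroup F ⇑Q)) (hodd : Odd (orderOf A)) (hA : (orderOf A).Coprime p)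
    (hB : (orderOf B).Coprime p)
    (hc : ((A : GL ι F) : Matrix ι ι F).charpoly = ((B : GL ι F) : Matrix ι ι F).charpoly) :
    IsConj A B := by
  set N := orderOf A with hNdef
  set N' := orderOf B with hN'def
  have hN : ((N : ℕ) : F) ≠ 0 := cast_ne_zero_of_coprime N hA
  have hN' : ((N' : ℕ) : F) ≠ 0 := cast_ne_zero_of_coprime N' hB
  set am : Matrix ι ι F := ((A : GL ι F) : Matrix ι ι F) with ham
  set am' : Matrix ι ι F :=
    (((A⁻¹ : ↥(Cfsg.isometryGroup F ⇑Q)) : GL ι F) : Matrix ι ι F) with ham'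
  set bm : Matrix ι ι F := ((B : GL ι F) : Matrix ι ι F) with hbm
  set bm' : Matrix ι ι F :=
    (((B⁻¹ : ↥(Cfsg.isometryGroup F ⇑Q)) : GL ι F) : Matrix ι ι F) with hbm'
  have haa' : am * am' = 1 := by
    have : ((A * A⁻¹ : ↥(Cfsg.isometryGroup F ⇑Q)) : GL ι F).1 = am * am' := rfl
    rw [← this, mul_inv_cancel]
    rfl
  have ha'a : am' * am = 1 := by
    have : ((A⁻¹ * A : ↥(Cfsg.isometryGroup F ⇑Q)) : GL ι F).1 = am' * am := rfl
    rw [← this, inv_mul_cancel]
    rfl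
  have hbb' : bm * bm' = 1 := by
    have : ((B * B⁻¹ : ↥(Cfsg.isometryGroup F ⇑Q)) : GL ι F).1 = bm * bm' := rfl
    rw [← this, mul_inv_cancel]
    rfl
  have hb'b : bm' * bm = 1 := by
    have : ((B⁻¹ * B : ↥(Cfsg.isometryGroup F ⇑Q)) : GL ι F).1 = bm' * bm := rfl
    rw [← this, inv_mul_cancel]
    rfl
  have haN : am ^ N = 1 := by
    have h1 : ((A ^ N : ↥(Cfsg.isometryGroup F ⇑Q)) : GL ι F).1 = am ^ N := by
      rw [Subgroup.coe_pow, Units.val_pow_eq_pow_val]
    rw [← h1, hNdef, pow_orderOf_eq_one]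
    rfl
  have hbN : bm ^ N' = 1 := by
    have h1 : ((B ^ N' : ↥(Cfsg.isometryGroup F ⇑Q)) : GL ι F).1 = bm ^ N' := by
      rw [Subgroup.coe_pow, Units.val_pow_eq_pow_val]
    rw [← h1, hN'def, pow_orderOf_eq_one]
    rfl
  have hΦ : ∀ X Y : Matrix ι ι F,
      (Matrix.toLin' X : Module.End F (ι → F)) * Matrix.toLin' Y
        = Matrix.toLin' (X * Y) := fun X Y => (Matrix.toLin'_mul X Y).symm
  have hone : (Matrix.toLin' (1 : Matrix ι ι F) : Module.End F (ι → F)) = 1 := by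
    rw [Matrix.toLin'_one]
    rfl
  have hpow : ∀ (X : Matrix ι ι F) (k : ℕ), (Matrix.toLin' X) ^ k = Matrix.toLin' (X ^ k) :=
    fun X k => (map_pow (Matrix.toLinAlgEquiv' (R := F) (n := ι)) X k).symm
  have hAiso : ∀ v, Q (Matrix.toLin' am v) = Q v := by
    intro v
    rw [Matrix.toLin'_apply]
    exact A.2 v v
  have hBiso : ∀ v, Q (Matrix.toLin' bm v) = Q v := by
    intro v
    rw [Matrix.toLin'_apply]
    exact B.2 v v
  have k1 : aeval (Matrix.toLin' am) (X ^ N - 1 : F[X]) = 0 := by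
    rw [map_sub, map_pow, aeval_X, map_one, hpow, haN, hone, sub_self]
  have k2 : aeval (Matrix.toLin' bm) (X ^ N' - 1 : F[X]) = 0 := by
    rw [map_sub, map_pow, aeval_X, map_one, hpow, hbN, hone, sub_self]
  have hsq : ∀ M : ℕ, ((M : ℕ) : F) ≠ 0 → Squarefree (X ^ M - 1 : F[X]) := by
    intro M hM
    have := Polynomial.separable_X_pow_sub_C (1 : F) hM one_ne_zero
    rw [map_one] at this
    exact this.squarefree
  obtain ⟨ψ, hψ⟩ := SemiS.exists_equiv_of_charpoly_eq (Matrix.toLin' am) (Matrix.toLin' bm)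
    (X ^ N - 1) (X ^ N' - 1) (hsq N hN) (hsq N' hN') k1 k2
    (by rw [Matrix.charpoly_toLin', Matrix.charpoly_toLin']; exact hc)
  obtain ⟨g, hg1, hg2⟩ := exists_isometry_conj Q hQ N hN hodd
    (Matrix.toLin' am) (Matrix.toLin' am') (Matrix.toLin' bm) (Matrix.toLin' bm')
    (ψ : (ι → F) →ₗ[F] (ι → F)) (ψ.symm : (ι → F) →ₗ[F] (ι → F))
    (by rw [hΦ, haa', hone]) (by rw [hΦ, ha'a, hone]) (by rw [hΦ, hbb', hone])
    (by rw [hΦ, hb'b, hone])
    (by
      apply LinearMap.ext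
      intro v
      simp)
    (by
      apply LinearMap.ext
      intro v
      simp)
    hAiso hBiso
    (by rw [hpow, haN, hone])
    (by
      apply LinearMap.ext
      intro v
      exact hψ v)
  -- back to matrices
  set G : Matrix ι ι F := LinearMap.toMatrix' (g : (ι → F) →ₗ[F] (ι → F))
    with hG
  set G' : Matrix ι ι F :=
    LinearMap.toMatrix' (g.symm : (ι → F) →ₗ[F] (ι → F)) with hG'
  have hGG' : G * G' = 1 := by
    rw [hG, hG', ← LinearMap.toMatrix'_comp]
    have : (g : (ι → F) →ₗ[F] (ι → F)) ∘ₗ (g.symm : (ι → F) →ₗ[F] (ι → F)) =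
        LinearMap.id := by
      ext v
      simp
    rw [this, LinearMap.toMatrix'_id]
  have hG'G : G' * G = 1 := mul_eq_one_comm.mp hGG'
  have hGv : ∀ v, G *ᵥ v = g v := by
    intro v
    rw [hG, LinearMap.toMatrix'_mulVec]
    rfl
  let Gu : GL ι F := ⟨G, G', hGG', hG'G⟩
  have hGmem : Gu ∈ Cfsg.isometryGroup F ⇑Q := by
    intro u _
    change Q (G *ᵥ u) = Q u
    rw [hGv, hg1]
  rw [isConj_iff]
  refine ⟨⟨Gu, hGmem⟩, ?_⟩
  rw [mul_inv_eq_iff_eq_mul]
  apply Subtype.ext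
  apply Units.ext
  change G * am = bm * G
  apply (Matrix.toLin' (R := F)).injective
  apply LinearMap.ext
  intro v
  rw [Matrix.toLin'_apply, Matrix.toLin'_apply, ← Matrix.mulVec_mulVec, ← Matrix.mulVec_mulVec,
    hGv, hGv]
  have := hg2 v
  rw [Matrix.toLin'_apply, Matrix.toLin'_apply] at this
  exact this

end Cfsg.Agent.Helper8.OWall
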