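import Mathlib
import Cfsg.Prelude.Def_GeometricClasses
import Cfsg.Agent.Helper8.O2OmegaPlus
import Cfsg.Agent.Helper8.O2OmegaMinus
import Cfsg.Agent.Helper8.O2Minus
set_option autoImplicit false

/-! Characteristic two: involutions of alternating type `a_s` in `Ω⁺` and `Ω⁻`
(helper8, for helper7's S5974 / S5988 / S5990). -/

namespace Cfsg.Agent.Helper8.OpNDTwo

open Module Matrix Cfsg.Agent.Helper8.SpS Cfsg.Agent.Helper8.Sp2 Cfsg.Agent.Helper8.StdForms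
  Cfsg.Agent.Helper8.O2

variable {F : Type*} [Field F]

theorem coe_plusForm (m : ℕ) : ⇑(plusForm F m) = Cfsg.quadFormPlus m F :=
  funext (plusForm_apply F m)

theorem coe_minusForm (k : ℕ) (a b : F) : ⇑(minusForm F k a b) = Cfsg.quadFormMinus k F a b :=
  funext (minusForm_apply F k a b)

/-- in characteristic two `polar v ((M - 1) v) = polar v (M v)` -/
theorem polar_sub_one_mulVec [CharP F 2] {ι : Type} [Fintype ι] [DecidableEq ι]
    (Q : QuadraticForm F (ι → F)) (M : Matrix ι ι F) (v : ι → F) :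
    QuadraticMap.polar Q v ((M - 1) *ᵥ v) = QuadraticMap.polar Q v (M *ᵥ v) := by
  rw [Matrix.sub_mulVec, Matrix.one_mulVec, QuadraticMap.polar_sub_right, QuadraticMap.polar_self]
  have h2 : (2 : F) = 0 := CharTwo.two_eq_zero
  rw [two_smul, ← two_mul, h2, zero_mul, sub_zero]

theorem mem_omegaGL_of_mem {ι : Type} [Fintype ι] [DecidableEq ι] (Q : (ι → F) → F)
    (y : ↥(Cfsg.isometryGroup F Q)) (hy : y ∈ commutator ↥(Cfsg.isometryGroup F Q)) :
    (y : GL ι F) ∈ Cfsg.Geo.omegaGL Q :=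
  ⟨y, hy, rfl⟩

variable [Fintype F] [CharP F 2]

/-- an involution of type `a_s` in `Ω⁺_{2d}` -/
theorem exists_alt_invol_plus (d s : ℕ) (hd : 4 ≤ d) (hs : Even s) (_hs0 : 0 < s) (hsd : s ≤ d) :
    ∃ x : GL (Fin d ⊕ Fin d) F, x ∈ Cfsg.Geo.omegaGL (Cfsg.quadFormPlus d F) ∧ x ^ 2 = 1 ∧
      ((x : Matrix (Fin d ⊕ Fin d) (Fin d ⊕ Fin d) F) - 1).rank = s ∧
      ∀ v, QuadraticMap.polar (Cfsg.quadFormPlus d F) v
        (((x : Matrix (Fin d ⊕ Fin d) (Fin d ⊕ Fin d) F) - 1) *ᵥ v) = 0 := by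
  rw [← coe_plusForm]
  set y : ↥(Cfsg.isometryGroup F ⇑(plusForm F d)) :=
    mkIso (plusForm F d) (tMat (aMat F d s)) (tMat_sq _)
      (plusForm_tMat _ (aMat_transpose hs) (aMat_diag _)) with hy
  have hrk : (tMat (aMat F d s) - 1).rank = s := by
    rw [rank_tMat_sub_one, rank_aMat hs hsd]
  refine ⟨(y : GL (Fin d ⊕ Fin d) F), mem_omegaGL_of_mem _ y ?_, ?_, hrk, ?_⟩
  · rw [mem_omega_plus_iff_even (by omega) (Or.inr (by omega)) y]
    show Even (tMat (aMat F d s) - 1).rank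
    rw [hrk]
    exact hs
  · have := mkIso_sq (plusForm F d) (tMat (aMat F d s)) (tMat_sq _)
      (plusForm_tMat _ (aMat_transpose hs) (aMat_diag _))
    exact congrArg Subtype.val this
  · intro v
    show QuadraticMap.polar (plusForm F d) v ((tMat (aMat F d s) - 1) *ᵥ v) = 0
    rw [polar_sub_one_mulVec]
    exact alt_tMat _ (aMat_transpose hs) (aMat_diag _) v

omit [Fintype F] in
/-- the block involution of type `a_s` for the minus form is of alternating type -/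
theorem alt_blockMat_tMat (k s : ℕ) (hs : Even s) (a b : F) (v : ((Fin k ⊕ Fin k) ⊕ Fin 2) → F) :
    QuadraticMap.polar (minusForm F k a b) v (blockMat (tMat (aMat F k s)) 1 *ᵥ v) = 0 := by
  have h1 := blockMat_mulVec_inr (tMat (aMat F k s)) 1 v
  rw [Matrix.one_mulVec] at h1
  have h10 := congrFun h1 0
  have h11 := congrFun h1 1
  simp only [Function.comp_apply] at h10 h11
  rw [polar_minusForm_split, blockMat_mulVec_inl,
    alt_tMat _ (aMat_transpose hs) (aMat_diag _), h10, h11]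
  have h2 : (2 : F) = 0 := CharTwo.two_eq_zero
  rw [h2]
  have := CharTwo.add_self_eq_zero (v (Sum.inr 0) * v (Sum.inr 1))
  linear_combination a * this

/-- an involution of type `a_s` in `Ω⁻_{2k+2}` -/
theorem exists_alt_invol_minus' (k s : ℕ) (a b : F)
    (hab : ∀ x y : F, x ^ 2 + a * x * y + b * y ^ 2 = 0 → x = 0 ∧ y = 0)
    (hs : Even s) (hsk : s ≤ k) :
    ∃ x : GL ((Fin k ⊕ Fin k) ⊕ Fin 2) F, x ∈ Cfsg.Geo.omegaGL (Cfsg.quadFormMinus k F a b) ∧
      x ^ 2 = 1 ∧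
      ((x : Matrix ((Fin k ⊕ Fin k) ⊕ Fin 2) ((Fin k ⊕ Fin k) ⊕ Fin 2) F) - 1).rank = s ∧
      ∀ v, QuadraticMap.polar (Cfsg.quadFormMinus k F a b) v
        (((x : Matrix ((Fin k ⊕ Fin k) ⊕ Fin 2) ((Fin k ⊕ Fin k) ⊕ Fin 2) F) - 1) *ᵥ v) = 0 := by
  rw [← coe_minusForm]
  have hiso : ∀ v, minusForm F k a b (blockMat (tMat (aMat F k s)) 1 *ᵥ v) =
      minusForm F k a b v :=
    minusForm_blockMat a b _ _ (plusForm_tMat _ (aMat_transpose hs) (aMat_diag _))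
      (fun z => by rw [Matrix.one_mulVec])
  have hsq : blockMat (tMat (aMat F k s)) (1 : Matrix (Fin 2) (Fin 2) F) *
      blockMat (tMat (aMat F k s)) 1 = 1 := blockMat_sq _ _ (tMat_sq _) (one_mul 1)
  set y : ↥(Cfsg.isometryGroup F ⇑(minusForm F k a b)) :=
    mkIso (minusForm F k a b) (blockMat (tMat (aMat F k s)) 1) hsq hiso with hy
  have hrk : (blockMat (tMat (aMat F k s)) (1 : Matrix (Fin 2) (Fin 2) F) - 1).rank = s := by
    rw [rank_blockMat_sub_one, rank_tMat_sub_one, rank_aMat hs hsk, sub_self, Matrix.rank_zero,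
      add_zero]
  refine ⟨(y : GL ((Fin k ⊕ Fin k) ⊕ Fin 2) F), mem_omegaGL_of_mem _ y ?_, ?_, hrk, ?_⟩
  · rw [mem_omega_minus_iff_even hab y]
    show Even (blockMat (tMat (aMat F k s)) (1 : Matrix (Fin 2) (Fin 2) F) - 1).rank
    rw [hrk]
    exact hs
  · exact congrArg Subtype.val (mkIso_sq (minusForm F k a b) _ hsq hiso)
  · intro v
    show QuadraticMap.polar (minusForm F k a b) v
      ((blockMat (tMat (aMat F k s)) 1 - 1) *ᵥ v) = 0
    rw [polar_sub_one_mulVec]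
    exact alt_blockMat_tMat k s hs a b v

/-- an involution of type `a_s` in `Ω⁻_{2d}` (helper7's form) -/
theorem exists_alt_invol_minus (d s : ℕ) (_hd : 4 ≤ d) (a b : F)
    (hab : ∀ x y : F, x ^ 2 + a * x * y + b * y ^ 2 = 0 → x = 0 ∧ y = 0)
    (hs : Even s) (_hs0 : 0 < s) (hsd : s ≤ d - 1) :
    ∃ x : GL ((Fin (d - 1) ⊕ Fin (d - 1)) ⊕ Fin 2) F,
      x ∈ Cfsg.Geo.omegaGL (Cfsg.quadFormMinus (d - 1) F a b) ∧ x ^ 2 = 1 ∧
      ((x : Matrix ((Fin (d - 1) ⊕ Fin (d - 1)) ⊕ Fin 2) ((Fin (d - 1) ⊕ Fin (d - 1)) ⊕ Fin 2) F)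
        - 1).rank = s ∧
      ∀ v, QuadraticMap.polar (Cfsg.quadFormMinus (d - 1) F a b) v
        (((x : Matrix ((Fin (d - 1) ⊕ Fin (d - 1)) ⊕ Fin 2) ((Fin (d - 1) ⊕ Fin (d - 1)) ⊕ Fin 2) F)
          - 1) *ᵥ v) = 0 :=
  exists_alt_invol_minus' (d - 1) s a b hab hs hsd

end Cfsg.Agent.Helper8.OpNDTwo
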