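import Mathlib
import Cfsg.Prelude.Def_GeometricClasses
import Cfsg.Agent.Helper8.OpNDTwoA
import Cfsg.Agent.Helper8.O2Mat
import Cfsg.Agent.Helper8.O2MinusCount
set_option autoImplicit false

/-! Characteristic two: every involution of `Ω⁻_{2d}(F)` normalizes a nondegenerate subspace of
minus type of each admissible even dimension (helper8, lemma E3 for helper7's S5990). -/

namespace Cfsg.Agent.Helper8.OpNDTwo

open Module Matrix Cfsg.Agent.Helper8.SpS Cfsg.Agent.Helper8.Sp2 Cfsg.Agent.Helper8.StdForms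
  Cfsg.Agent.Helper8.O2

variable {F : Type*} [Field F] {n k : ℕ}

local notation "MI" k => (Fin k ⊕ Fin k) ⊕ Fin 2

/-- the embedding of index sets induced by `f` -/
def idxEmb (f : Fin n → Fin k) : (MI n) → (MI k) := Sum.map (Sum.map f f) id

theorem idxEmb_injective {f : Fin n → Fin k} (hf : Function.Injective f) :
    Function.Injective (idxEmb f) :=
  Sum.map_injective.mpr ⟨Sum.map_injective.mpr ⟨hf, hf⟩, Function.injective_id⟩

/-- extension by zero along `idxEmb f` -/
noncomputable def extLin (F : Type*) [Field F] (f : Fin n → Fin k) :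
    ((MI n) → F) →ₗ[F] ((MI k) → F) :=
  Function.ExtendByZero.linearMap F (idxEmb f)

theorem extLin_apply_emb {f : Fin n → Fin k} (hf : Function.Injective f) (u : (MI n) → F)
    (x : MI n) : extLin F f u (idxEmb f x) = u x :=
  (idxEmb_injective hf).extend_apply u 0 x

theorem extLin_inl_inl {f : Fin n → Fin k} (hf : Function.Injective f) (u : (MI n) → F)
    (j : Fin n) : extLin F f u (Sum.inl (Sum.inl (f j))) = u (Sum.inl (Sum.inl j)) :=
  extLin_apply_emb hf u (Sum.inl (Sum.inl j))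

theorem extLin_inl_inr {f : Fin n → Fin k} (hf : Function.Injective f) (u : (MI n) → F)
    (j : Fin n) : extLin F f u (Sum.inl (Sum.inr (f j))) = u (Sum.inl (Sum.inr j)) :=
  extLin_apply_emb hf u (Sum.inl (Sum.inr j))

theorem extLin_inr {f : Fin n → Fin k} (hf : Function.Injective f) (u : (MI n) → F)
    (z : Fin 2) : extLin F f u (Sum.inr z) = u (Sum.inr z) :=
  extLin_apply_emb hf u (Sum.inr z)

theorem extLin_inl_inl_of_not_mem {f : Fin n → Fin k} (u : (MI n) → F)
    (t : Fin k) (ht : t ∉ Set.range f) : extLin F f u (Sum.inl (Sum.inl t)) = 0 := by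
  apply Function.extend_apply'
  rintro ⟨((j | j) | z), hx⟩
  · exact ht ⟨j, Sum.inl_injective (Sum.inl_injective hx)⟩
  · exact Sum.inl_ne_inr (Sum.inl_injective hx).symm
  · exact Sum.inl_ne_inr hx.symm

theorem extLin_inl_inr_of_not_mem {f : Fin n → Fin k} (u : (MI n) → F)
    (t : Fin k) (ht : t ∉ Set.range f) : extLin F f u (Sum.inl (Sum.inr t)) = 0 := by
  apply Function.extend_apply'
  rintro ⟨((j | j) | z), hx⟩
  · exact Sum.inl_ne_inr (Sum.inl_injective hx)
  · exact ht ⟨j, Sum.inr_injective (Sum.inl_injective hx)⟩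
  · exact Sum.inl_ne_inr hx.symm

theorem extLin_injective {f : Fin n → Fin k} (hf : Function.Injective f) :
    Function.Injective (extLin F f) := by
  intro u v huv
  funext x
  rw [← extLin_apply_emb hf u x, ← extLin_apply_emb hf v x, huv]

theorem mem_range_extLin {f : Fin n → Fin k} (hf : Function.Injective f) (v : (MI k) → F) :
    v ∈ LinearMap.range (extLin F f) ↔
      ∀ t, t ∉ Set.range f → v (Sum.inl (Sum.inl t)) = 0 ∧ v (Sum.inl (Sum.inr t)) = 0 := by
  constructor
  · rintro ⟨u, rfl⟩ t ht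
    exact ⟨extLin_inl_inl_of_not_mem u t ht, extLin_inl_inr_of_not_mem u t ht⟩
  · intro h
    refine ⟨v ∘ idxEmb f, ?_⟩
    funext x
    rcases x with (t | t) | z
    · by_cases ht : t ∈ Set.range f
      · obtain ⟨j, rfl⟩ := ht
        rw [extLin_inl_inl hf]
        rfl
      · rw [extLin_inl_inl_of_not_mem _ t ht, (h t ht).1]
    · by_cases ht : t ∈ Set.range f
      · obtain ⟨j, rfl⟩ := ht
        rw [extLin_inl_inr hf]
        rfl
      · rw [extLin_inl_inr_of_not_mem _ t ht, (h t ht).2]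
    · rw [extLin_inr hf]
      rfl

theorem minusForm_extLin {f : Fin n → Fin k} (hf : Function.Injective f) (a b : F)
    (u : (MI n) → F) : minusForm F k a b (extLin F f u) = minusForm F n a b u := by
  rw [minusForm_apply, minusForm_apply]
  unfold Cfsg.quadFormMinus
  rw [extLin_inr hf, extLin_inr hf]
  congr 1
  symm
  apply Fintype.sum_of_injective f hf
  · intro t ht
    rw [extLin_inl_inl_of_not_mem u t ht, zero_mul]
  · intro j
    rw [extLin_inl_inl hf, extLin_inl_inr hf]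

theorem polar_extLin {f : Fin n → Fin k} (hf : Function.Injective f) (a b : F)
    (u v : (MI n) → F) :
    QuadraticMap.polar (minusForm F k a b) (extLin F f u) (extLin F f v) =
      QuadraticMap.polar (minusForm F n a b) u v := by
  unfold QuadraticMap.polar
  rw [← map_add, minusForm_extLin hf, minusForm_extLin hf, minusForm_extLin hf]

theorem finrank_range_extLin {f : Fin n → Fin k} (hf : Function.Injective f) :
    finrank F (LinearMap.range (extLin F f)) = 2 * n + 2 := by
  rw [LinearMap.finrank_range_of_inj (extLin_injective hf), finrank_minus]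



/-- the image of the coordinate embedding is a nondegenerate subspace of minus type -/
theorem minusType_range_extLin [Finite F] {f : Fin n → Fin k} (hf : Function.Injective f)
    {a b : F} (hab : ∀ z₁ z₂ : F, z₁ ^ 2 + a * z₁ * z₂ + b * z₂ ^ 2 = 0 → z₁ = 0 ∧ z₂ = 0) :
    finrank F (LinearMap.range (extLin F f)) = 2 * n + 2 ∧
    Cfsg.Geo.IsNondegenerateOn (QuadraticMap.polar ⇑(minusForm F k a b))
      (LinearMap.range (extLin F f)) ∧
    ¬ Cfsg.Geo.IsPlusTypeOn ⇑(minusForm F k a b) (LinearMap.range (extLin F f)) := by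
  refine ⟨finrank_range_extLin hf, ?_, ?_⟩
  · rintro _ ⟨u, rfl⟩ hu
    have hu0 : u ≠ 0 := by
      rintro rfl
      exact hu (map_zero _)
    have hnd := (Cfsg.Agent.Helper8.QuadForm.nondeg_iff _).mp (minusForm_nondeg F n hab)
    have : ∃ w, QuadraticMap.polar (minusForm F n a b) u w ≠ 0 := by
      by_contra hcon
      push Not at hcon
      exact hu0 (hnd u hcon)
    obtain ⟨w, hw⟩ := this
    refine ⟨⟨extLin F f w, ⟨w, rfl⟩, ?_⟩, ⟨extLin F f w, ⟨w, rfl⟩, ?_⟩⟩
    · rw [QuadraticMap.polar_comm, polar_extLin hf]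
      exact hw
    · rw [polar_extLin hf]
      exact hw
  · rintro ⟨U, hUW, hUts, hUdim⟩
    rw [finrank_range_extLin hf] at hUdim
    have h1 : finrank F (U.comap (extLin F f)) ≤ n := by
      apply ts_finrank_le hab
      intro u hu
      rw [← minusForm_extLin hf]
      exact hUts _ hu
    have h2 : (U.comap (extLin F f)).map (extLin F f) = U :=
      Submodule.map_comap_eq_of_le hUW
    have h3 := (Submodule.equivMapOfInjective (extLin F f) (extLin_injective hf)
      (U.comap (extLin F f))).finrank_eq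
    rw [h2] at h3
    omega



/-- coordinate subspaces are invariant under the representatives of non-alternating type -/
theorem swap_mem_range_extLin {f : Fin n → Fin k} (hf : Function.Injective f) (i : ℕ)
    (R : Matrix (Fin 2) (Fin 2) F) (v : (MI k) → F) (hv : v ∈ LinearMap.range (extLin F f)) :
    blockMat (swapMat F k i) R *ᵥ v ∈ LinearMap.range (extLin F f) := by
  rw [mem_range_extLin hf] at hv ⊢
  intro t ht
  have h1 := blockMat_mulVec_inl (swapMat F k i) R v
  have h2 : ∀ x, (blockMat (swapMat F k i) R *ᵥ v) (Sum.inl x) =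
      (swapMat F k i *ᵥ (v ∘ Sum.inl)) x := fun x => congrFun h1 x
  rw [h2, h2, swapMat_mulVec_inl, swapMat_mulVec_inr]
  simp only [Function.comp_apply]
  rw [(hv t ht).1, (hv t ht).2]
  simp

theorem tMat_mulVec_inl (D : Matrix (Fin k) (Fin k) F) (u : Fin k ⊕ Fin k → F) (t : Fin k) :
    (tMat D *ᵥ u) (Sum.inl t) = u (Sum.inl t) + (D *ᵥ (u ∘ Sum.inr)) t := by
  rw [tMat, Matrix.fromBlocks_mulVec]
  simp

theorem tMat_mulVec_inr (D : Matrix (Fin k) (Fin k) F) (u : Fin k ⊕ Fin k → F) (t : Fin k) :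
    (tMat D *ᵥ u) (Sum.inr t) = u (Sum.inr t) := by
  rw [tMat, Matrix.fromBlocks_mulVec]
  simp

/-- coordinate subspaces closed under the pairing are invariant under the representatives of
alternating type -/
theorem alt_mem_range_extLin {f : Fin n → Fin k} (hf : Function.Injective f) (s : ℕ)
    (hcl : ∀ t t' : Fin k, t ∉ Set.range f → (t : ℕ) < s → (t : ℕ) / 2 = (t' : ℕ) / 2 → t ≠ t' →
      t' ∉ Set.range f)
    (v : (MI k) → F) (hv : v ∈ LinearMap.range (extLin F f)) :
    blockMat (tMat (aMat F k s)) 1 *ᵥ v ∈ LinearMap.range (extLin F f) := by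
  rw [mem_range_extLin hf] at hv ⊢
  intro t ht
  have h1 := blockMat_mulVec_inl (tMat (aMat F k s)) 1 v
  have h2 : ∀ x, (blockMat (tMat (aMat F k s)) 1 *ᵥ v) (Sum.inl x) =
      (tMat (aMat F k s) *ᵥ (v ∘ Sum.inl)) x := fun x => congrFun h1 x
  rw [h2, h2, tMat_mulVec_inl, tMat_mulVec_inr]
  simp only [Function.comp_apply]
  refine ⟨?_, (hv t ht).2⟩
  rw [(hv t ht).1, zero_add, Matrix.mulVec, dotProduct]
  apply Finset.sum_eq_zero
  intro j _
  rw [aMat_apply]
  split_ifs with hc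
  · simp only [Function.comp_apply]
    rw [(hv j (hcl t j ht hc.1 hc.2.1 hc.2.2)).2, mul_zero]
  · rw [zero_mul]

/-- the embedding `j ↦ j` for `j < c` and `j ↦ j + e` otherwise -/
def shiftEmb (n k c e : ℕ) (h : n + e ≤ k) : Fin n → Fin k :=
  fun j => ⟨if (j : ℕ) < c then j else j + e, by have := j.2; split_ifs <;> omega⟩

theorem shiftEmb_injective (n k c e : ℕ) (h : n + e ≤ k) :
    Function.Injective (shiftEmb n k c e h) := by
  intro j j' hjj
  have h1 := congrArg Fin.val hjj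
  simp only [shiftEmb] at h1
  apply Fin.ext
  split_ifs at h1 <;> omega

theorem shiftEmb_closed (n k c' s' : ℕ) (hcs : c' ≤ s') (hcn : 2 * c' ≤ n)
    (h : n + (2 * s' - 2 * c') ≤ k) (t t' : Fin k)
    (ht : t ∉ Set.range (shiftEmb n k (2 * c') (2 * s' - 2 * c') h)) (hts : (t : ℕ) < 2 * s')
    (htt : (t : ℕ) / 2 = (t' : ℕ) / 2) (hne : t ≠ t') :
    t' ∉ Set.range (shiftEmb n k (2 * c') (2 * s' - 2 * c') h) := by
  rintro ⟨j, hj⟩
  apply ht
  have h1 := congrArg Fin.val hj
  simp only [shiftEmb] at h1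
  have hne' : (t : ℕ) ≠ t' := fun h => hne (Fin.ext h)
  have hj2 := j.2
  split_ifs at h1 with hjc
  · have htn : (t : ℕ) < n := by omega
    refine ⟨⟨t, htn⟩, ?_⟩
    apply Fin.ext
    simp only [shiftEmb]
    rw [if_pos (by omega)]
  · exfalso
    omega



theorem coe_inv_mul_coe {ι : Type} [Fintype ι] [DecidableEq ι] (Q : QuadraticForm F (ι → F))
    (c : ↥(Cfsg.isometryGroup F ⇑Q)) :
    (((c⁻¹ : ↥(Cfsg.isometryGroup F ⇑Q)) : GL ι F) : Matrix ι ι F) *
      ((c : GL ι F) : Matrix ι ι F) = 1 := by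
  have h : ((c⁻¹ * c : ↥(Cfsg.isometryGroup F ⇑Q)) : GL ι F) = 1 := by
    rw [inv_mul_cancel]; rfl
  exact congrArg Units.val h

theorem coe_mul_coe_inv {ι : Type} [Fintype ι] [DecidableEq ι] (Q : QuadraticForm F (ι → F))
    (c : ↥(Cfsg.isometryGroup F ⇑Q)) :
    ((c : GL ι F) : Matrix ι ι F) *
      (((c⁻¹ : ↥(Cfsg.isometryGroup F ⇑Q)) : GL ι F) : Matrix ι ι F) = 1 := by
  have h : ((c * c⁻¹ : ↥(Cfsg.isometryGroup F ⇑Q)) : GL ι F) = 1 := by
    rw [mul_inv_cancel]; rfl
  exact congrArg Units.val h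

/-- the image of a nondegenerate subspace of minus type under an isometry -/
theorem transport_isometry {ι : Type} [Fintype ι] [DecidableEq ι] (Q : QuadraticForm F (ι → F))
    (c : ↥(Cfsg.isometryGroup F ⇑Q)) (W : Submodule F (ι → F)) (m : ℕ)
    (hW : finrank F W = m ∧ Cfsg.Geo.IsNondegenerateOn (QuadraticMap.polar ⇑Q) W ∧
      ¬ Cfsg.Geo.IsPlusTypeOn ⇑Q W) :
    finrank F (W.map (Matrix.toLin' ((c : GL ι F) : Matrix ι ι F))) = m ∧
      Cfsg.Geo.IsNondegenerateOn (QuadraticMap.polar ⇑Q)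
        (W.map (Matrix.toLin' ((c : GL ι F) : Matrix ι ι F))) ∧
      ¬ Cfsg.Geo.IsPlusTypeOn ⇑Q (W.map (Matrix.toLin' ((c : GL ι F) : Matrix ι ι F))) := by
  obtain ⟨hW1, hW2, hW3⟩ := hW
  set L := Matrix.toLin' ((c : GL ι F) : Matrix ι ι F) with hL
  have hLv : ∀ v, L v = ((c : GL ι F) : Matrix ι ι F) *ᵥ v := fun v => Matrix.toLin'_apply _ v
  have hinj : Function.Injective L := by
    intro u v huv
    rw [hLv, hLv] at huv
    have := congrArg (fun w => (((c⁻¹ : ↥(Cfsg.isometryGroup F ⇑Q)) : GL ι F) :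
      Matrix ι ι F) *ᵥ w) huv
    simp only [Matrix.mulVec_mulVec, coe_inv_mul_coe, Matrix.one_mulVec] at this
    exact this
  have hsurj : Function.Surjective L := by
    intro v
    refine ⟨(((c⁻¹ : ↥(Cfsg.isometryGroup F ⇑Q)) : GL ι F) : Matrix ι ι F) *ᵥ v, ?_⟩
    rw [hLv, Matrix.mulVec_mulVec, coe_mul_coe_inv, Matrix.one_mulVec]
  have hfr : ∀ U : Submodule F (ι → F), finrank F (U.map L) = finrank F U := fun U =>
    (Submodule.equivMapOfInjective L hinj U).finrank_eq.symm
  refine ⟨by rw [hfr, hW1], ?_, ?_⟩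
  · rintro _ ⟨w, hw, rfl⟩ hw0
    have hw0' : w ≠ 0 := by
      rintro rfl
      exact hw0 (map_zero _)
    obtain ⟨⟨x, hx, hx1⟩, ⟨x', hx', hx1'⟩⟩ := hW2 w hw hw0'
    refine ⟨⟨L x, Submodule.mem_map_of_mem hx, ?_⟩, ⟨L x', Submodule.mem_map_of_mem hx', ?_⟩⟩
    · rw [hLv, hLv, polar_mulVec]
      exact hx1
    · rw [hLv, hLv, polar_mulVec]
      exact hx1'
  · rintro ⟨U, hUW, hUts, hUdim⟩
    apply hW3
    refine ⟨U.comap L, ?_, ?_, ?_⟩
    · intro u hu
      obtain ⟨w, hw, hwu⟩ := hUW hu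
      rw [← hinj hwu]
      exact hw
    · intro u hu
      have := hUts _ hu
      rw [hLv, Q_mulVec] at this
      exact this
    · have h1 := hfr (U.comap L)
      rw [Submodule.map_comap_eq_of_surjective hsurj] at h1
      rw [← h1, hUdim, hfr]


variable [Fintype F] [CharP F 2]


/-- every involution of `Ω⁻` is conjugate to one normalizing a coordinate subspace -/
theorem exists_rep_coord (hnk : n + 1 ≤ k) {a b : F}
    (hab : ∀ z₁ z₂ : F, z₁ ^ 2 + a * z₁ * z₂ + b * z₂ ^ 2 = 0 → z₁ = 0 ∧ z₂ = 0)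
    (h : Odd k ∨ Even n) (y : ↥(Cfsg.isometryGroup F ⇑(minusForm F k a b)))
    (hy : y ∈ commutator ↥(Cfsg.isometryGroup F ⇑(minusForm F k a b))) (hy2 : y ^ 2 = 1) :
    ∃ (r : ↥(Cfsg.isometryGroup F ⇑(minusForm F k a b))) (f : Fin n → Fin k),
      Function.Injective f ∧ IsConj y r ∧
      ∀ v ∈ LinearMap.range (extLin F f),
        ((r : GL (MI k) F) : Matrix (MI k) (MI k) F) *ᵥ v ∈ LinearMap.range (extLin F f) := by
  have hQ := minusForm_nondeg F k hab
  have ha : a ≠ 0 := by
    intro ha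
    obtain ⟨c, hc⟩ := hperf' b
    have := (hab c 1 (by
      rw [ha, ← hc]
      have := CharTwo.add_self_eq_zero (c * c)
      linear_combination this)).2
    exact one_ne_zero this
  by_cases hy1 : y = 1
  · refine ⟨1, shiftEmb n k 0 0 (by omega), shiftEmb_injective _ _ _ _ _, ?_, ?_⟩
    · rw [hy1]
    · intro v hv
      have : (((1 : ↥(Cfsg.isometryGroup F ⇑(minusForm F k a b))) : GL (MI k) F) :
          Matrix (MI k) (MI k) F) = 1 := rfl
      rw [this, Matrix.one_mulVec]
      exact hv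
  · have hev : Even (rk _ y) := (mem_omega_minus_iff_even hab y).mp hy
    have hpos := rk_pos _ y hy1
    have hle := two_mul_rk_le _ y hy2
    rw [card_MI] at hle
    obtain ⟨s', hs'⟩ := hev
    by_cases halt : IsAltType _ y
    · have hle' := rk_le_of_alt hab y halt
      have htm : s' - 1 < k / 2 := by omega
      have hrk : rk _ (repMinus F k a b (Sum.inr ⟨s' - 1, htm⟩)) = rk _ y := by
        rw [rk_repMinus_inr, hs']
        simp only
        omega
      have hconj : IsConj y (repMinus F k a b (Sum.inr ⟨s' - 1, htm⟩)) := by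
        apply conj_of_rank_type _ hQ _ _ hy2
        · exact sq_of_orderOf (orderOf_repMinus ha b _)
        · exact hrk.symm
        · exact ⟨fun _ => alt_repMinus_inr _ _ _, fun _ => halt⟩
      set c' := min s' (n / 2) with hc'
      have hcs : c' ≤ s' := min_le_left _ _
      have hcn : 2 * c' ≤ n := by
        have : c' ≤ n / 2 := min_le_right _ _
        omega
      have hnek : n + (2 * s' - 2 * c') ≤ k := by
        rcases le_total s' (n / 2) with hsn | hsn
        · rw [hc', min_eq_left hsn]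
          omega
        · rw [hc', min_eq_right hsn]
          rcases h with ⟨q, hq⟩ | ⟨q, hq⟩ <;> omega
      refine ⟨_, shiftEmb n k (2 * c') (2 * s' - 2 * c') hnek, shiftEmb_injective _ _ _ _ _,
        hconj, ?_⟩
      intro v hv
      have hmat : ((repMinus F k a b (Sum.inr ⟨s' - 1, htm⟩) : GL (MI k) F) :
          Matrix (MI k) (MI k) F) = blockMat (tMat (aMat F k (2 * s'))) 1 := by
        have : 2 * (s' - 1 + 1) = 2 * s' := by omega
        rw [← this]
        rfl
      rw [hmat]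
      exact alt_mem_range_extLin (shiftEmb_injective _ _ _ _ _) (2 * s')
        (shiftEmb_closed n k c' s' hcs hcn hnek) v hv
    · have hsm : rk _ y - 1 < k + 1 := by omega
      have hrk : rk _ (repMinus F k a b (Sum.inl ⟨rk _ y - 1, hsm⟩)) = rk _ y := by
        rw [rk_repMinus_inl ha]
        simp only
        omega
      have hconj : IsConj y (repMinus F k a b (Sum.inl ⟨rk _ y - 1, hsm⟩)) := by
        apply conj_of_rank_type _ hQ _ _ hy2
        · exact sq_of_orderOf (orderOf_repMinus ha b _)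
        · exact hrk.symm
        · exact ⟨fun h => absurd h halt, fun h => absurd h (not_alt_repMinus_inl ha b _)⟩
      refine ⟨_, shiftEmb n k 0 0 (by omega), shiftEmb_injective _ _ _ _ _, hconj, ?_⟩
      intro v hv
      exact swap_mem_range_extLin (shiftEmb_injective _ _ _ _ _) _ _ v hv


/-- an involution of `Ω⁻_{2k+2}` normalizes a nondegenerate subspace of minus type of each
admissible dimension -/
theorem minus_ell_core (hnk : n + 1 ≤ k) {a b : F}
    (hab : ∀ z₁ z₂ : F, z₁ ^ 2 + a * z₁ * z₂ + b * z₂ ^ 2 = 0 → z₁ = 0 ∧ z₂ = 0)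
    (h : Odd k ∨ Even n) (y : ↥(Cfsg.isometryGroup F ⇑(minusForm F k a b)))
    (hy : y ∈ commutator ↥(Cfsg.isometryGroup F ⇑(minusForm F k a b))) (hy2 : y ^ 2 = 1) :
    ∃ W : Submodule F ((MI k) → F),
      (finrank F W = 2 * n + 2 ∧
        Cfsg.Geo.IsNondegenerateOn (QuadraticMap.polar ⇑(minusForm F k a b)) W ∧
        ¬ Cfsg.Geo.IsPlusTypeOn ⇑(minusForm F k a b) W) ∧
      W.map (Matrix.toLin' ((y : GL (MI k) F) : Matrix (MI k) (MI k) F)) ≤ W := by
  obtain ⟨r, f, hf, hconj, hinv⟩ := exists_rep_coord hnk hab h y hy hy2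
  obtain ⟨c, hc⟩ := isConj_iff.mp hconj
  have hyc : y = c⁻¹ * r * c := by
    rw [← hc]
    group
  have hmat : ((y : GL (MI k) F) : Matrix (MI k) (MI k) F) =
      (((c⁻¹ : ↥(Cfsg.isometryGroup F ⇑(minusForm F k a b))) : GL (MI k) F) :
        Matrix (MI k) (MI k) F) * ((r : GL (MI k) F) : Matrix (MI k) (MI k) F) *
        ((c : GL (MI k) F) : Matrix (MI k) (MI k) F) := by
    rw [hyc]
    rfl
  refine ⟨(LinearMap.range (extLin F f)).map (Matrix.toLin'
    (((c⁻¹ : ↥(Cfsg.isometryGroup F ⇑(minusForm F k a b))) : GL (MI k) F) :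
      Matrix (MI k) (MI k) F)), transport_isometry _ c⁻¹ _ _ (minusType_range_extLin hf hab), ?_⟩
  rintro _ ⟨_, ⟨w, hw, rfl⟩, rfl⟩
  refine ⟨((r : GL (MI k) F) : Matrix (MI k) (MI k) F) *ᵥ w, hinv w hw, ?_⟩
  rw [Matrix.toLin'_apply, Matrix.toLin'_apply, Matrix.toLin'_apply, hmat, Matrix.mulVec_mulVec,
    Matrix.mulVec_mulVec]
  congr 1
  rw [Matrix.mul_assoc, Matrix.mul_assoc, coe_mul_coe_inv, Matrix.mul_one]

/-- helper7's E3: an involution of `Ω⁻_{2d}` in characteristic two normalizes a nondegenerate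
subspace of minus type of dimension `m` -/
theorem minus_ell_of_invol (d m : ℕ) (hd : 4 ≤ d) (hm : 2 ≤ m) (hme : Even m)
    (hmn : m + 2 ≤ 2 * d) (a b : F)
    (hab : ∀ x y : F, x ^ 2 + a * x * y + b * y ^ 2 = 0 → x = 0 ∧ y = 0)
    (h : Even d ∨ m % 4 = 2) (x : GL ((Fin (d - 1) ⊕ Fin (d - 1)) ⊕ Fin 2) F)
    (hx : x ∈ Cfsg.Geo.omegaGL (Cfsg.quadFormMinus (d - 1) F a b)) (hx2 : x ^ 2 = 1) :
    ∃ W : Submodule F ((Fin (d - 1) ⊕ Fin (d - 1)) ⊕ Fin 2 → F),
      (Module.finrank F ↥W = m ∧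
        Cfsg.Geo.IsNondegenerateOn (QuadraticMap.polar (Cfsg.quadFormMinus (d - 1) F a b)) W ∧
        ¬ Cfsg.Geo.IsPlusTypeOn (Cfsg.quadFormMinus (d - 1) F a b) W) ∧
      W.map (Matrix.toLin' (x : Matrix _ _ F)) ≤ W := by
  rw [← coe_minusForm] at hx ⊢
  obtain ⟨y, hy, rfl⟩ := hx
  have hy2 : y ^ 2 = 1 := by
    apply Subtype.ext
    exact hx2
  obtain ⟨q, hq⟩ := hme
  have hnk : (q - 1) + 1 ≤ d - 1 := by omega
  have h' : Odd (d - 1) ∨ Even (q - 1) := by
    rcases h with ⟨e, he⟩ | h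
    · left
      exact ⟨e - 1, by omega⟩
    · right
      exact ⟨(q - 1) / 2, by omega⟩
  obtain ⟨W, hW, hWinv⟩ := minus_ell_core hnk hab h' y hy hy2
  have hmq : 2 * (q - 1) + 2 = m := by omega
  rw [hmq] at hW
  exact ⟨W, hW, hWinv⟩

end Cfsg.Agent.Helper8.OpNDTwo
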