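import Mathlib
import Cfsg.Agent.Helper8.SpRCount
set_option autoImplicit false

/-! Counting exponent tuples for the even-dimensional orthogonal groups. -/

namespace Cfsg.Agent.Helper8.OrR

open Cfsg.Agent.Helper8.SemiS Cfsg.Agent.Helper8.SpR

theorem card_sdiff {α : Type*} (A B : α → Prop) [Finite {x // A x}] :
    Nat.card {x // A x ∧ ¬ B x} = Nat.card {x // A x} - Nat.card {x // A x ∧ B x} := by
  classical
  have e1 : {y : {x // A x} // B y.1} ≃ {x // A x ∧ B x} :=
    Equiv.subtypeSubtypeEquivSubtypeInter A B
  have e2 : {y : {x // A x} // ¬ B y.1} ≃ {x // A x ∧ ¬ B x} :=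
    Equiv.subtypeSubtypeEquivSubtypeInter A (fun x => ¬ B x)
  have e3 : {y : {x // A x} // B y.1} ⊕ {y : {x // A x} // ¬ B y.1} ≃ {x // A x} :=
    Equiv.sumCompl (fun y : {x // A x} => B y.1)
  have h := Nat.card_congr e3
  rw [Nat.card_sum, Nat.card_congr e1, Nat.card_congr e2] at h
  omega

/-- tuples with a prescribed sum -/
theorem card_exact (k s : ℕ) (hk : 0 < k) :
    Nat.card {b : Option (Fin k) → ℕ // b none = 0 ∧ ∑ l, b (some l) = s}
      = Nat.choose (s + k - 1) (k - 1) := by
  classical
  have e : {b : Option (Fin k) → ℕ // b none = 0 ∧ ∑ l, b (some l) = s}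
      ≃ {c : Fin k → ℕ // ∑ l, c l = s} :=
    { toFun := fun b => ⟨fun l => b.1 (some l), b.2.2⟩
      invFun := fun c => ⟨fun o => Option.elim o 0 c.1, rfl, c.2⟩
      left_inv := by
        intro b
        apply Subtype.ext
        funext o
        cases o with
        | none => exact b.2.1.symm
        | some l => rfl
      right_inv := fun c => rfl }
  rw [Nat.card_congr e, ← Nat.card_congr (Sym.equivNatSumOfFintype (Fin k) s),
    Nat.card_eq_fintype_card, Sym.card_sym_eq_choose, Fintype.card_fin]
  have h1 : k + s - 1 = s + k - 1 := by omega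
  rw [h1]
  exact Nat.choose_symm_of_eq_add (by omega)

/-- weighted tuples, with a condition on those without trivial part -/
theorem card_minus (k w n : ℕ) (hw : 0 < w) (hk : 0 < k) (hn : 0 < n) (G : ℕ → Prop)
    [Decidable (w ∣ n ∧ ¬ G (n / w))] :
    Nat.card {b : Option (Fin k) → ℕ // b none + (∑ l, b (some l)) * w = n ∧
      b ≠ (fun o => Option.elim o n (fun _ => 0)) ∧ (b none = 0 → G (∑ l, b (some l)))}
    = Nat.choose (n / w + k) k - 1
      - (if w ∣ n ∧ ¬ G (n / w) then Nat.choose (n / w + k - 1) (k - 1) else 0) := by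
  let A : (Option (Fin k) → ℕ) → Prop := fun b =>
    b none + (∑ l, b (some l)) * w = n ∧ b ≠ (fun o => Option.elim o n (fun _ => 0))
  let B : (Option (Fin k) → ℕ) → Prop := fun b => b none = 0 ∧ ¬ G (∑ l, b (some l))
  have hA : Nat.card {b // A b} = Nat.choose (n / w + k) k - 1 := card_weighted_ne k w n hw
  have hfin : Finite {b // A b} := by
    have hfin0 : Finite {a : Option (Fin k) → ℕ // a none + (∑ j, a (some j)) * w = n} := by
      apply Nat.finite_of_card_ne_zero
      rw [card_weighted k w n hw]
      exact (Nat.choose_pos (Nat.le_add_left k (n / w))).ne'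
    exact Finite.of_injective
      (fun b : {b // A b} =>
        (⟨b.1, b.2.1⟩ : {a : Option (Fin k) → ℕ // a none + (∑ j, a (some j)) * w = n}))
      (fun b b' h => by
        have h' : b.1 = b'.1 := Subtype.mk.inj h
        exact Subtype.ext h')
  have h1 : Nat.card {b : Option (Fin k) → ℕ // b none + (∑ l, b (some l)) * w = n ∧
      b ≠ (fun o => Option.elim o n (fun _ => 0)) ∧ (b none = 0 → G (∑ l, b (some l)))}
      = Nat.card {b // A b ∧ ¬ B b} := by
    apply Nat.card_congr
    apply Equiv.subtypeEquivRight
    intro b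
    constructor
    · rintro ⟨h1, h2, h3⟩
      exact ⟨⟨h1, h2⟩, fun hB => hB.2 (h3 hB.1)⟩
    · rintro ⟨⟨h1, h2⟩, h3⟩
      refine ⟨h1, h2, fun h0 => ?_⟩
      by_contra hG
      exact h3 ⟨h0, hG⟩
  rw [h1, card_sdiff A B, hA]
  congr 1
  by_cases hc : w ∣ n ∧ ¬ G (n / w)
  · rw [if_pos hc, ← card_exact k (n / w) hk]
    apply Nat.card_congr
    apply Equiv.subtypeEquivRight
    intro b
    obtain ⟨c, hc1⟩ := hc.1
    have hnw : n / w = c := by rw [hc1, Nat.mul_div_cancel_left c hw]
    constructor
    · rintro ⟨⟨h1, -⟩, h2, -⟩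
      refine ⟨h2, ?_⟩
      rw [h2, zero_add, hc1, mul_comm] at h1
      rw [hnw]
      exact Nat.eq_of_mul_eq_mul_left hw h1
    · rintro ⟨h1, h2⟩
      refine ⟨⟨?_, ?_⟩, h1, ?_⟩
      · rw [h1, h2, zero_add, hnw, hc1, mul_comm]
      · intro h
        have := congrFun h none
        simp only [Option.elim_none] at this
        omega
      · rw [h2]
        exact hc.2
  · rw [if_neg hc]
    have : IsEmpty {b // A b ∧ B b} := by
      constructor
      rintro ⟨b, ⟨h1, -⟩, h2, h3⟩
      apply hc
      rw [h2, zero_add] at h1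
      have hd : w ∣ n := ⟨∑ l, b (some l), by rw [← h1, mul_comm]⟩
      refine ⟨hd, ?_⟩
      have : n / w = ∑ l, b (some l) := by
        rw [← h1, Nat.mul_div_cancel _ hw]
      rw [this]
      exact h3
    exact Nat.card_of_isEmpty

/-- reduction of symmetric tuples to tuples indexed by the orbits of the involution -/
theorem card_symm_pred (t : ℕ) (τ : Fin t → Fin t) (hinv : Function.Involutive τ)
    (hfix : ∀ j, τ j ≠ j) (P : ℕ → ℕ → Prop) :
    Nat.card {a : Option (Fin t) → ℕ // (∀ j, a (some (τ j)) = a (some j)) ∧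
      P (a none) (∑ j, a (some j))}
    = Nat.card {b : Option (Fin (t / 2)) → ℕ // P (b none) (2 * ∑ l, b (some l))} := by
  classical
  obtain ⟨k, e, he⟩ := exists_equiv_prod_bool τ hinv hfix
  have hk : t / 2 = k := by
    have h1 := Fintype.card_congr e
    rw [Fintype.card_fin, Fintype.card_prod, Fintype.card_fin, Fintype.card_bool] at h1
    omega
  rw [hk]
  have hflip : ∀ l : Fin k, τ (e.symm (l, true)) = e.symm (l, false) := by
    intro l
    apply e.injective
    rw [he, Equiv.apply_symm_apply, Equiv.apply_symm_apply]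
    rfl
  have hsum : ∀ a : Option (Fin t) → ℕ, (∀ j, a (some (τ j)) = a (some j)) →
      ∑ j, a (some j) = 2 * ∑ l : Fin k, a (some (e.symm (l, true))) := by
    intro a ha
    rw [← Equiv.sum_comp e.symm (fun j => a (some j)), Fintype.sum_prod_type, Finset.mul_sum]
    apply Finset.sum_congr rfl
    intro l _
    rw [Fintype.sum_bool, ← hflip l, ha]
    ring
  have hsum' : ∀ b : Option (Fin k) → ℕ,
      ∑ j : Fin t, b (some (e j).1) = 2 * ∑ l : Fin k, b (some l) := by
    intro b
    rw [← Equiv.sum_comp e.symm (fun j => b (some (e j).1)), Fintype.sum_prod_type,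
      Finset.mul_sum]
    apply Finset.sum_congr rfl
    intro l _
    rw [Fintype.sum_bool]
    simp only [Equiv.apply_symm_apply]
    ring
  apply Nat.card_congr
  refine
    { toFun := fun a => ⟨fun o => Option.elim o (a.1 none) (fun l => a.1 (some (e.symm (l, true)))), ?_⟩
      invFun := fun b => ⟨fun o => Option.elim o (b.1 none) (fun j => b.1 (some (e j).1)), ?_, ?_⟩
      left_inv := ?_
      right_inv := ?_ }
  · simp only [Option.elim_none, Option.elim_some]
    rw [← hsum a.1 a.2.1]
    exact a.2.2
  · intro j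
    simp only [Option.elim_some]
    rw [he]
  · simp only [Option.elim_none, Option.elim_some]
    rw [hsum' b.1]
    exact b.2
  · intro a
    apply Subtype.ext
    funext o
    cases o with
    | none => rfl
    | some j =>
      simp only [Option.elim_some]
      rcases hb : (e j).2 with _ | _
      · have h3 : j = τ (e.symm ((e j).1, true)) := by
          rw [hflip]
          apply e.injective
          rw [Equiv.apply_symm_apply, ← hb]
        exact ((congrArg (fun x => a.1 (some x)) h3).trans (a.2.1 _)).symm
      · have h3 : j = e.symm ((e j).1, true) := by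
          apply e.injective
          rw [Equiv.apply_symm_apply, ← hb]
        exact (congrArg (fun x => a.1 (some x)) h3).symm
  · intro b
    apply Subtype.ext
    funext o
    cases o with
    | none => rfl
    | some l =>
      simp only [Option.elim_some, Equiv.apply_symm_apply]

end Cfsg.Agent.Helper8.OrR
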