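import Mathlib
import Cfsg.Agent.Helper8.OrRSum
import Cfsg.Agent.Helper8.OrRSimOdd
import Cfsg.Agent.Helper8.StdForms
set_option autoImplicit false

/-!
Orthogonal elements of `O_{2m+1}(q)` (`q` odd) from symplectic elements of odd order without
eigenvalue `1`.
-/

namespace Cfsg.Agent.Helper8.OrR

open Polynomial Module Matrix
open Cfsg.Agent.Helper8.QuadForm Cfsg.Agent.Helper8.StdForms

universe v

variable {F : Type v} [Field F] [Fintype F]

theorem exists_orth_odd (h2 : (2 : F) ≠ 0) (m m' k : ℕ) (hm : m = m' + k)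
    (g : symplecticGroup (Fin k) F) (N : ℕ) (hodd : Odd N) (hgN : g ^ N = 1)
    (hcop : IsCoprime (X - 1 : F[X]) g.1.charpoly) :
    ∃ h : ↥(Cfsg.isometryGroup F ⇑(oddForm F m)), h ^ N = 1 ∧
      ((h : GL (Unit ⊕ (Fin m ⊕ Fin m)) F) :
        Matrix (Unit ⊕ (Fin m ⊕ Fin m)) (Unit ⊕ (Fin m ⊕ Fin m)) F).charpoly
        = (X - 1) ^ (2 * m' + 1) * g.1.charpoly := by
  have key := exists_orth_of_sum (oddForm F m) (oddForm F m') g N hodd hgN hcop ?_
  · rw [finrank_odd] at key
    exact key
  · intro QW hQW1 _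
    have hfr : finrank F ((Unit ⊕ (Fin m' ⊕ Fin m') → F) × (Fin k ⊕ Fin k → F))
        = finrank F (Unit ⊕ (Fin m ⊕ Fin m) → F) := by
      rw [Module.finrank_prod, finrank_odd, finrank_odd, finrank_plus, hm]
      ring
    let E := LinearEquiv.ofFinrankEq _ _ hfr
    set Q' : QuadraticForm F (Unit ⊕ (Fin m ⊕ Fin m) → F) :=
      ((oddForm F m').prod QW).comp (E.symm : _ →ₗ[F] _) with hQ'
    have hQ'app : ∀ x, Q' (E x) = ((oddForm F m').prod QW) x := by
      intro x
      rw [hQ', QuadraticMap.comp_apply]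
      congr 1
      exact E.symm_apply_apply x
    have hnd0 : Nondeg ((oddForm F m').prod QW) :=
      nondeg_prod _ _ ((nondeg_iff _).mp (oddForm_nondeg F m' h2)) hQW1
    have hQ'nd : Nondeg Q' := by
      intro v hv
      have h1 : E.symm v = 0 := by
        apply hnd0
        intro w
        have h3 := hv (E w)
        have h4 : QuadraticMap.polar Q' v (E w)
            = QuadraticMap.polar ((oddForm F m').prod QW) (E.symm v) w := by
          have hv' : v = E (E.symm v) := (E.apply_symm_apply v).symm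
          unfold QuadraticMap.polar
          conv_lhs => rw [hv', ← E.map_add]
          rw [hQ'app, hQ'app, hQ'app]
        rw [← h4]
        exact h3
      have := congrArg E h1
      rwa [E.apply_symm_apply, map_zero] at this
    obtain ⟨c, g₁, -, hg₁⟩ := exists_similarity_odd m (finrank_odd F m) Q' (oddForm F m) hQ'nd
      ((nondeg_iff _).mp (oddForm_nondeg F m h2))
    refine ⟨c, E.trans g₁, fun x => ?_⟩
    rw [LinearEquiv.trans_apply, hg₁, hQ'app]

end Cfsg.Agent.Helper8.OrR
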