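import Mathlib
import Cfsg.Agent.Helper8.SpRPal
import Cfsg.Agent.Helper8.SpSMat
import Cfsg.Prelude.Def_Classical
set_option autoImplicit false

/-!
Self-dual monomials in the irreducible factors of `X ^ r - 1`, and self-duality of the
characteristic polynomial of an orthogonal matrix.
-/

namespace Cfsg.Agent.Helper8.OrR

open Polynomial Matrix
open Cfsg.Agent.Helper8.SpX Cfsg.Agent.Helper8.SpR Cfsg.Agent.Helper8.SpS

variable {F : Type*} [Field F]

section inv

variable {n : Type*} [Fintype n] [DecidableEq n]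

theorem charpoly_inv_eq_star' (C : GL n F) :
    ((C⁻¹ : GL n F) : Matrix n n F).charpoly = star (C : Matrix n n F).charpoly := by
  set Q := (C : Matrix n n F).charpoly with hQ
  have hunit : IsUnit (C : Matrix n n F) := ⟨C, rfl⟩
  have h1 := Matrix.charpoly_inv (C : Matrix n n F) hunit
  rw [← Matrix.reverse_charpoly, ← hQ, ← Matrix.coe_units_inv] at h1
  have h2 : ((-1 : F[X]) ^ Fintype.card n) * Polynomial.C (Ring.inverse (C : Matrix n n F).det)
      = Polynomial.C ((-1) ^ Fintype.card n * Ring.inverse (C : Matrix n n F).det) := by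
    rw [map_mul, map_pow, map_neg, map_one]
  rw [h2] at h1
  set u := (-1 : F) ^ Fintype.card n * Ring.inverse (C : Matrix n n F).det with hu
  have hdet : (C : Matrix n n F).det ≠ 0 :=
    ((Matrix.isUnit_iff_isUnit_det _).mp hunit).ne_zero
  have hQ0 : Q.coeff 0 ≠ 0 := by
    intro h0
    apply hdet
    rw [Matrix.det_eq_sign_charpoly_coeff, ← hQ, h0, mul_zero]
  have hmon : ((C⁻¹ : GL n F) : Matrix n n F).charpoly.Monic :=
    Matrix.charpoly_monic _
  have h3 : u * Q.coeff 0 = 1 := by
    have h4 := hmon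
    unfold Monic at h4
    rw [h1, leadingCoeff_mul, leadingCoeff_C, reverse_leadingCoeff, trailingCoeff,
      Polynomial.natTrailingDegree_eq_zero.mpr (Or.inr hQ0)] at h4
    exact h4
  have h5 : u = (Q.coeff 0)⁻¹ := eq_inv_of_mul_eq_one_left h3
  rw [h1, h5]
  rfl

end inv

section orth

variable {ι : Type} [Fintype ι] [DecidableEq ι]

/-- the characteristic polynomial of an orthogonal matrix is self-dual -/
theorem star_charpoly_of_orth (Q : QuadraticForm F (ι → F))
    (hQ : (QuadraticMap.polarBilin Q).Nondegenerate) (g : ↥(Cfsg.isometryGroup F ⇑Q)) :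
    star ((g : GL ι F) : Matrix ι ι F).charpoly = ((g : GL ι F) : Matrix ι ι F).charpoly := by
  set B := QuadraticMap.polarBilin Q with hB
  set M : Matrix ι ι F := LinearMap.toMatrix₂' F B with hM
  have hMB : bform M = B := Matrix.toLinearMap₂'_toMatrix' B
  have hdet : M.det ≠ 0 := by
    rw [← LinearMap.separatingLeft_toLinearMap₂'_iff_det_ne_zero]
    change (bform M).SeparatingLeft
    rw [hMB]
    exact hQ.1
  set A : Matrix ι ι F := ((g : GL ι F) : Matrix ι ι F) with hA
  have hinv : Aᵀ * M * A = M := by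
    apply bform_injective
    rw [← bform_comp, hMB]
    apply LinearMap.ext
    intro u
    apply LinearMap.ext
    intro v
    change QuadraticMap.polar Q (Matrix.toLin' A u) (Matrix.toLin' A v) = QuadraticMap.polar Q u v
    unfold QuadraticMap.polar
    rw [← map_add, Matrix.toLin'_apply, Matrix.toLin'_apply, Matrix.toLin'_apply]
    have h := g.2
    rw [show Q (A *ᵥ (u + v)) = Q (u + v) from h (u + v) (u + v),
      show Q (A *ᵥ u) = Q u from h u u, show Q (A *ᵥ v) = Q v from h v v]
  have hMu : IsUnit M := (Matrix.isUnit_iff_isUnit_det M).mpr (isUnit_iff_ne_zero.mpr hdet)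
  obtain ⟨Mu, hMu'⟩ := hMu
  have hAinv : (((g : GL ι F)⁻¹ : GL ι F) : Matrix ι ι F)
      = (Mu⁻¹ : (Matrix ι ι F)ˣ).1 * Aᵀ * Mu.1 := by
    have h1 : (Mu⁻¹ : (Matrix ι ι F)ˣ).1 * Aᵀ * Mu.1 * A = 1 := by
      rw [Matrix.mul_assoc, Matrix.mul_assoc, ← Matrix.mul_assoc Aᵀ, hMu', hinv, ← hMu',
        ← Units.val_mul, inv_mul_cancel, Units.val_one]
    have h2 : A * (((g : GL ι F)⁻¹ : GL ι F) : Matrix ι ι F) = 1 := by
      rw [hA, ← Units.val_mul, mul_inv_cancel, Units.val_one]
    calc (((g : GL ι F)⁻¹ : GL ι F) : Matrix ι ι F)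
        = ((Mu⁻¹ : (Matrix ι ι F)ˣ).1 * Aᵀ * Mu.1 * A) *
            (((g : GL ι F)⁻¹ : GL ι F) : Matrix ι ι F) := by rw [h1, Matrix.one_mul]
      _ = (Mu⁻¹ : (Matrix ι ι F)ˣ).1 * Aᵀ * Mu.1 := by
          rw [Matrix.mul_assoc _ A, h2, Matrix.mul_one]
  rw [← charpoly_inv_eq_star', hAinv]
  have h3 := Matrix.charpoly_units_conj' Mu Aᵀ
  rw [← Matrix.coe_units_inv] at h3
  rw [h3, Matrix.charpoly_transpose]

end orth

section tau

variable {t : ℕ} (Q : Option (Fin t) → F[X]) (hQ0 : Q none = X - 1)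
include hQ0

/-- all factors self-dual -/
theorem star_fprod_of_selfdual (hsd : ∀ j, star (Q (some j)) = Q (some j))
    (a : Option (Fin t) → ℕ) : star (fprod Q a) = fprod Q a := by
  rw [← starHom_apply, fprod_eq, map_mul, map_pow, map_prod, starHom_apply, hQ0,
    star_X_sub_one]
  congr 1
  apply Finset.prod_congr rfl
  intro j _
  rw [map_pow, starHom_apply, hsd]

variable (τ : Fin t → Fin t) (hτ : ∀ j, Q (some (τ j)) = star (Q (some j)))
  (hinv : Function.Involutive τ)
include hτ hinv

theorem star_fprod (a : Option (Fin t) → ℕ) :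
    star (fprod Q a) =
      fprod Q (fun o => Option.elim o (a none) (fun j => a (some (τ j)))) := by
  rw [← starHom_apply, fprod_eq, fprod_eq, map_mul, map_pow, map_prod, starHom_apply, hQ0,
    star_X_sub_one]
  congr 1
  have h1 : ∀ j, starHom (Q (some j) ^ a (some j)) = Q (some (τ j)) ^ a (some j) := by
    intro j
    rw [map_pow, starHom_apply, hτ]
  rw [Finset.prod_congr rfl (fun j _ => h1 j)]
  change ∏ j, Q (some (τ j)) ^ a (some j) = ∏ j, Q (some j) ^ a (some (τ j))
  rw [← Equiv.prod_comp (hinv.toPerm τ) (fun j => Q (some j) ^ a (some (τ j)))]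
  apply Finset.prod_congr rfl
  intro j _
  change Q (some (τ j)) ^ a (some j) = Q (some (τ j)) ^ a (some (τ (τ j)))
  rw [hinv j]

/-- the exponents of a self-dual monomial are symmetric -/
theorem symm_of_star (hinj : Function.Injective Q)
    (hQ : ∀ o, (Q o).Monic ∧ Irreducible (Q o)) (a : Option (Fin t) → ℕ)
    (hs : star (fprod Q a) = fprod Q a) : ∀ j, a (some (τ j)) = a (some j) := by
  rw [star_fprod Q hQ0 τ hτ hinv a] at hs
  have h4 := SemiS.prod_pow_injective Q hQ hinj hs
  intro j
  exact congrFun h4 (some j)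

/-- a symmetric monomial is self-dual -/
theorem star_fprod_of_symm (a : Option (Fin t) → ℕ)
    (hsym : ∀ j, a (some (τ j)) = a (some j)) : star (fprod Q a) = fprod Q a := by
  rw [star_fprod Q hQ0 τ hτ hinv a]
  congr 1
  funext o
  cases o with
  | none => rfl
  | some j => exact hsym j

end tau

end Cfsg.Agent.Helper8.OrR
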