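import Mathlib
import Cfsg.Agent.Helper8.SpSMat
set_option autoImplicit false

/-! Conjugacy of semisimple elements in finite symplectic groups: final statements. -/

namespace Cfsg.Agent.Helper8.SpS

open Matrix Polynomial

variable {F : Type*} [Field F] [Fintype F] {m : ℕ}

theorem cast_orderOf_ne_zero (p : ℕ) [Fact p.Prime] [CharP F p]
    (A : Matrix.symplecticGroup (Fin m) F) (hA : (orderOf A).Coprime p) :
    ((orderOf A : ℕ) : F) ≠ 0 := by
  have hp : p.Prime := Fact.out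
  intro h0
  have h1 := (CharP.cast_eq_zero_iff F p (orderOf A)).mp h0
  have h2 : p ∣ Nat.gcd (orderOf A) p := Nat.dvd_gcd h1 dvd_rfl
  rw [hA] at h2
  exact hp.one_lt.ne' (Nat.dvd_one.mp h2)

/-- conjugacy in `GL` implies conjugacy in `Sp` for semisimple elements -/
theorem sp_isConj_iff (p : ℕ) [Fact p.Prime] [CharP F p]
    (A B : Matrix.symplecticGroup (Fin m) F) (hA : (orderOf A).Coprime p) :
    IsConj A B ↔ IsConj (A : Matrix (Fin m ⊕ Fin m) (Fin m ⊕ Fin m) F)
      (B : Matrix (Fin m ⊕ Fin m) (Fin m ⊕ Fin m) F) := by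
  constructor
  · intro h
    exact (Matrix.symplecticGroup (Fin m) F).subtype.map_isConj h
  · rintro ⟨c, hc⟩
    have hcdet : (c : Matrix (Fin m ⊕ Fin m) (Fin m ⊕ Fin m) F).det ≠ 0 :=
      ((Matrix.isUnit_iff_isUnit_det (c : Matrix (Fin m ⊕ Fin m) (Fin m ⊕ Fin m) F)).mp
        ⟨c, rfl⟩).ne_zero
    exact sp_conj_of_gl_conj (orderOf A) (cast_orderOf_ne_zero p A hA) A B
      (pow_orderOf_eq_one A) c hcdet hc

theorem aeval_sp_eq_zero (A : Matrix.symplecticGroup (Fin m) F) :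
    aeval (Matrix.toLin' (A : Matrix (Fin m ⊕ Fin m) (Fin m ⊕ Fin m) F))
      (X ^ orderOf A - 1 : F[X]) = 0 := by
  have h1 : (A ^ orderOf A).1 = A.1 ^ orderOf A := SubmonoidClass.coe_pow A _
  have h2 : (Matrix.toLin' A.1) ^ orderOf A = Matrix.toLin' (A.1 ^ orderOf A) :=
    (map_pow (Matrix.toLinAlgEquiv' (R := F) (n := Fin m ⊕ Fin m)) A.1 _).symm
  rw [map_sub, map_pow, aeval_X, map_one, h2, ← h1, pow_orderOf_eq_one]
  change Matrix.toLin' (1 : Matrix (Fin m ⊕ Fin m) (Fin m ⊕ Fin m) F) - 1 = 0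
  rw [Matrix.toLin'_one, sub_eq_zero]
  rfl

theorem squarefree_X_pow_sub_one (N : ℕ) (hN : (N : F) ≠ 0) : Squarefree (X ^ N - 1 : F[X]) := by
  have := Polynomial.separable_X_pow_sub_C (1 : F) hN one_ne_zero
  rw [map_one] at this
  exact this.squarefree

/-- semisimple elements of `Sp` with the same characteristic polynomial are conjugate -/
theorem sp_isConj_of_charpoly_eq (p : ℕ) [Fact p.Prime] [CharP F p]
    (g h : Matrix.symplecticGroup (Fin m) F) (hg : (orderOf g).Coprime p)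
    (hh : (orderOf h).Coprime p)
    (hc : (g : Matrix (Fin m ⊕ Fin m) (Fin m ⊕ Fin m) F).charpoly
      = (h : Matrix (Fin m ⊕ Fin m) (Fin m ⊕ Fin m) F).charpoly) : IsConj g h := by
  obtain ⟨ψ, hψ⟩ := SemiS.exists_equiv_of_charpoly_eq (Matrix.toLin' g.1) (Matrix.toLin' h.1)
    (X ^ orderOf g - 1) (X ^ orderOf h - 1)
    (squarefree_X_pow_sub_one _ (cast_orderOf_ne_zero p g hg))
    (squarefree_X_pow_sub_one _ (cast_orderOf_ne_zero p h hh))
    (aeval_sp_eq_zero g) (aeval_sp_eq_zero h)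
    (by rw [Matrix.charpoly_toLin', Matrix.charpoly_toLin']; exact hc)
  set P : Matrix (Fin m ⊕ Fin m) (Fin m ⊕ Fin m) F := LinearMap.toMatrix' ψ.toLinearMap with hP
  set Q : Matrix (Fin m ⊕ Fin m) (Fin m ⊕ Fin m) F := LinearMap.toMatrix' ψ.symm.toLinearMap
    with hQ
  have hPQ : P * Q = 1 := by
    rw [hP, hQ, ← LinearMap.toMatrix'_comp]
    have : ψ.toLinearMap ∘ₗ ψ.symm.toLinearMap = LinearMap.id := by
      ext v; simp
    rw [this, LinearMap.toMatrix'_id]
  have hPdet : P.det ≠ 0 := by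
    intro h0
    have := congrArg Matrix.det hPQ
    rw [Matrix.det_mul, h0, zero_mul, Matrix.det_one] at this
    exact zero_ne_one this
  have h3 : P * g.1 = h.1 * P := by
    have e1 : g.1 = LinearMap.toMatrix' (Matrix.toLin' g.1) := (LinearMap.toMatrix'_toLin' _).symm
    have e2 : h.1 = LinearMap.toMatrix' (Matrix.toLin' h.1) := (LinearMap.toMatrix'_toLin' _).symm
    rw [e1, e2, hP, ← LinearMap.toMatrix'_comp, ← LinearMap.toMatrix'_comp]
    congr 1
    apply LinearMap.ext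
    intro v
    exact hψ v
  exact sp_conj_of_gl_conj (orderOf g) (cast_orderOf_ne_zero p g hg) g h
    (pow_orderOf_eq_one g) P hPdet h3

end Cfsg.Agent.Helper8.SpS
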