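import Mathlib
set_option autoImplicit false

/-! Counting monic palindromic polynomials of degree `2n` over a finite field. -/

namespace Cfsg.Agent.Helper8.SpX

open Polynomial

variable {F : Type*} [Field F]

/-- monic palindromic polynomials of degree `2n` -/
abbrev Pal (F : Type*) [Field F] (n : ℕ) : Type _ :=
  {χ : F[X] // χ.Monic ∧ χ.natDegree = 2 * n ∧ χ.reverse = χ}

/-- total extension of a tuple -/
def ext0 {n : ℕ} (w : Fin n → F) (j : ℕ) : F := if h : j < n then w ⟨j, h⟩ else 0

/-- coefficients of the palindromic polynomial with given lower middle coefficients -/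
def palCoeff (n : ℕ) (w : Fin n → F) (k : ℕ) : F :=
  if k = 0 ∨ k = 2 * n then 1 else if k ≤ n then ext0 w (k - 1)
    else if k < 2 * n then ext0 w (2 * n - 1 - k) else 0

theorem palCoeff_symm (n : ℕ) (w : Fin n → F) (k : ℕ) (hk : k ≤ 2 * n) :
    palCoeff n w (2 * n - k) = palCoeff n w k := by
  unfold palCoeff
  split_ifs <;> first | rfl | omega | (congr 1; omega)

theorem palCoeff_big (n : ℕ) (w : Fin n → F) (k : ℕ) (hk : 2 * n < k) : palCoeff n w k = 0 := by
  unfold palCoeff
  split_ifs <;> first | rfl | omega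

/-- the palindromic polynomial with given lower middle coefficients -/
noncomputable def palPoly (n : ℕ) (w : Fin n → F) : F[X] :=
  ∑ k ∈ Finset.range (2 * n + 1), monomial k (palCoeff n w k)

theorem coeff_palPoly (n : ℕ) (w : Fin n → F) (k : ℕ) :
    (palPoly n w).coeff k = palCoeff n w k := by
  unfold palPoly
  rw [finsetSum_coeff]
  simp only [coeff_monomial]
  by_cases hk : k ≤ 2 * n
  · rw [Finset.sum_eq_single k]
    · rw [if_pos rfl]
    · intro b _ hb
      rw [if_neg hb]
    · intro h
      exact absurd (Finset.mem_range.mpr (by omega)) h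
  · rw [palCoeff_big n w k (by omega)]
    apply Finset.sum_eq_zero
    intro b hb
    rw [if_neg]
    have := Finset.mem_range.mp hb
    omega

theorem natDegree_palPoly (n : ℕ) (w : Fin n → F) : (palPoly n w).natDegree = 2 * n := by
  apply le_antisymm
  · rw [natDegree_le_iff_coeff_eq_zero]
    intro N hN
    rw [coeff_palPoly, palCoeff_big n w N hN]
  · apply le_natDegree_of_ne_zero
    rw [coeff_palPoly]
    unfold palCoeff
    rw [if_pos (Or.inr rfl)]
    exact one_ne_zero

theorem monic_palPoly (n : ℕ) (w : Fin n → F) : (palPoly n w).Monic := by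
  unfold Monic leadingCoeff
  rw [natDegree_palPoly, coeff_palPoly]
  unfold palCoeff
  rw [if_pos (Or.inr rfl)]

theorem reverse_palPoly (n : ℕ) (w : Fin n → F) : (palPoly n w).reverse = palPoly n w := by
  ext k
  rw [coeff_reverse, natDegree_palPoly, coeff_palPoly, coeff_palPoly]
  by_cases hk : k ≤ 2 * n
  · rw [revAt_le hk, palCoeff_symm n w k hk]
  · rw [revAt_eq_self_of_lt (by omega)]

/-- the parametrisation by the coefficients of `X, …, X^n` -/
theorem palCoeff_succ (n : ℕ) (w : Fin n → F) (j : Fin n) : palCoeff n w (j + 1) = w j := by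
  unfold palCoeff ext0
  have hj := j.2
  rw [if_neg (by omega), if_pos (by omega), Nat.add_sub_cancel, dif_pos hj]

theorem coeff_eq_of_pal {n : ℕ} (χ : F[X]) (_hm : χ.Monic) (hdeg : χ.natDegree = 2 * n)
    (hrev : χ.reverse = χ) (k : ℕ) (hk : k ≤ 2 * n) : χ.coeff (2 * n - k) = χ.coeff k := by
  conv_rhs => rw [← hrev]
  rw [coeff_reverse, hdeg, revAt_le hk]

variable [Fintype F]

theorem card_pal (n : ℕ) : Nat.card (Pal F n) = Fintype.card F ^ n := by
  classical
  have e : Pal F n ≃ (Fin n → F) := by
    refine Equiv.ofBijective (fun χ j => χ.1.coeff (j + 1)) ⟨?_, ?_⟩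
    · rintro ⟨χ₁, hm₁, hd₁, hr₁⟩ ⟨χ₂, hm₂, hd₂, hr₂⟩ h
      apply Subtype.ext
      change χ₁ = χ₂
      have h' : ∀ j : Fin n, χ₁.coeff (j + 1) = χ₂.coeff (j + 1) := fun j => congrFun h j
      have hlow : ∀ k, k ≤ n → χ₁.coeff k = χ₂.coeff k := by
        intro k hk
        rcases Nat.eq_zero_or_pos k with rfl | hk0
        · have e1 := coeff_eq_of_pal χ₁ hm₁ hd₁ hr₁ 0 (by omega)
          have e2 := coeff_eq_of_pal χ₂ hm₂ hd₂ hr₂ 0 (by omega)
          rw [Nat.sub_zero] at e1 e2
          have f1 : χ₁.coeff (2 * n) = 1 := by rw [← hd₁]; exact hm₁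
          have f2 : χ₂.coeff (2 * n) = 1 := by rw [← hd₂]; exact hm₂
          rw [← e1, ← e2, f1, f2]
        · have := h' ⟨k - 1, by omega⟩
          simp only at this
          rwa [Nat.sub_add_cancel hk0] at this
      ext k
      by_cases hk : k ≤ n
      · exact hlow k hk
      · by_cases hk2 : k ≤ 2 * n
        · have e1 := coeff_eq_of_pal χ₁ hm₁ hd₁ hr₁ (2 * n - k) (by omega)
          have e2 := coeff_eq_of_pal χ₂ hm₂ hd₂ hr₂ (2 * n - k) (by omega)
          have e3 : 2 * n - (2 * n - k) = k := by omega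
          rw [e3] at e1 e2
          rw [e1, e2]
          exact hlow _ (by omega)
        · rw [coeff_eq_zero_of_natDegree_lt (by omega), coeff_eq_zero_of_natDegree_lt (by omega)]
    · intro w
      refine ⟨⟨palPoly n w, monic_palPoly n w, natDegree_palPoly n w, reverse_palPoly n w⟩, ?_⟩
      funext j
      change (palPoly n w).coeff (j + 1) = w j
      rw [coeff_palPoly, palCoeff_succ]
  rw [Nat.card_congr e, Nat.card_eq_fintype_card, Fintype.card_fun, Fintype.card_fin]

end Cfsg.Agent.Helper8.SpX
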