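import Cfsg.Agent.Helper8.SemiSModel
set_option autoImplicit false

namespace Cfsg.Agent.Helper8.SemiS

open Polynomial Module

variable (F : Type*) [Field F]

/-- multiplication by `X` as an `F`-linear map on an `F[X]`-module -/
noncomputable def mulX (M : Type*) [AddCommGroup M] [Module F[X] M] [Module F M]
    [IsScalarTower F F[X] M] : M →ₗ[F] M where
  toFun m := (X : F[X]) • m
  map_add' := smul_add _
  map_smul' c m := by
    simp only [RingHom.id_apply]
    rw [← IsScalarTower.algebraMap_smul F[X] c m, ← IsScalarTower.algebraMap_smul F[X] c (X • m),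
      smul_smul, smul_smul, mul_comm]

theorem mulX_apply (M : Type*) [AddCommGroup M] [Module F[X] M] [Module F M]
    [IsScalarTower F F[X] M] (m : M) : mulX F M m = (X : F[X]) • m := rfl

variable {F}

instance finite_quot (P : F[X]) [hP : Fact P.Monic] : Module.Finite F (F[X] ⧸ (F[X] ∙ P)) :=
  hP.out.finite_adjoinRoot

theorem charpoly_mulLeft_root (P : F[X]) (hP : P.Monic) :
    haveI : Module.Finite F (AdjoinRoot P) := hP.finite_adjoinRoot
    (LinearMap.mulLeft F (AdjoinRoot.root P)).charpoly = P := by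
  haveI : Module.Finite F (AdjoinRoot P) := hP.finite_adjoinRoot
  have hP0 : P ≠ 0 := hP.ne_zero
  let pb : PowerBasis F (AdjoinRoot P) := AdjoinRoot.powerBasis hP0
  rw [← LinearMap.charpoly_toMatrix _ pb.basis, Algebra.toMatrix_lmul_eq]
  have h2 : AdjoinRoot.root P = pb.gen := (AdjoinRoot.powerBasis_gen hP0).symm
  rw [h2, charpoly_leftMulMatrix, AdjoinRoot.minpoly_powerBasis_gen_of_monic hP]

theorem charpoly_mulX_quot (P : F[X]) [hP : Fact P.Monic] :
    (mulX F (F[X] ⧸ (F[X] ∙ P))).charpoly = P := by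
  have h1 : (mulX F (F[X] ⧸ (F[X] ∙ P))) = LinearMap.mulLeft F (AdjoinRoot.root P) := by
    apply LinearMap.ext
    intro y
    obtain ⟨f, rfl⟩ := Submodule.Quotient.mk_surjective _ y
    rfl
  rw [h1]
  exact charpoly_mulLeft_root P hP.out

theorem charpoly_of_finrank_zero {M : Type*} [AddCommGroup M] [Module F M] [Module.Finite F M]
    (φ : M →ₗ[F] M) (h : finrank F M = 0) : φ.charpoly = 1 := by
  have h1 := LinearMap.charpoly_natDegree φ
  rw [h] at h1
  exact Polynomial.eq_one_of_monic_natDegree_zero (LinearMap.charpoly_monic φ) h1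

theorem charpoly_mulX_pi {d : ℕ} (P : Fin d → F[X]) [hP : ∀ i, Fact (P i).Monic] :
    (mulX F (∀ i, F[X] ⧸ (F[X] ∙ P i))).charpoly = ∏ i, P i := by
  induction d with
  | zero =>
    rw [Finset.univ_eq_empty, Finset.prod_empty]
    apply charpoly_of_finrank_zero
    rw [Module.finrank_pi_fintype]
    simp
  | succ d ih =>
    let e := Fin.consLinearEquiv F (fun i : Fin (d + 1) => F[X] ⧸ (F[X] ∙ P i))
    have h1 : mulX F (∀ i, F[X] ⧸ (F[X] ∙ P i)) =
        e.conj ((mulX F (F[X] ⧸ (F[X] ∙ P 0))).prodMap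
          (mulX F (∀ i : Fin d, F[X] ⧸ (F[X] ∙ P i.succ)))) := by
      apply LinearMap.ext
      intro y
      rw [LinearEquiv.conj_apply]
      simp only [LinearMap.coe_comp, LinearEquiv.coe_coe, Function.comp_apply,
        LinearMap.prodMap_apply, mulX_apply]
      funext i
      refine Fin.cases ?_ (fun j => ?_) i
      · simp [e, Fin.consLinearEquiv]
      · simp [e, Fin.consLinearEquiv]
        rfl
    rw [h1, LinearEquiv.charpoly_conj, LinearMap.charpoly_prodMap, charpoly_mulX_quot,
      ih (fun i => P i.succ), Fin.prod_univ_succ]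

end Cfsg.Agent.Helper8.SemiS
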