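import Mathlib
import Cfsg.Agent.Helper8.SpSSympIso
import Cfsg.Agent.Helper8.SpSSelfRec
import Cfsg.Agent.Helper8.SpSHerm
import Cfsg.Agent.Helper8.SemiSCharpoly
set_option autoImplicit false

/-! An isometry of an abstract symplectic space gives a symplectic matrix; the self-reciprocal
irreducible block. -/

namespace Cfsg.Agent.Helper8.SpX

open Matrix Polynomial Module
open Cfsg.Agent.Helper8.SpS
open Cfsg.Agent.Helper8.PGraph

universe u

variable {F : Type*} [Field F]

theorem Jent_eq_neg_J (k : ℕ) :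
    (Matrix.of (fun x y : Fin k ⊕ Fin k => (Jent x y : F))) = -(Matrix.J (Fin k) F) := by
  ext x y
  rcases x with i | i <;> rcases y with j | j
  · simp [Jent, Matrix.J]
  · simp [Jent, Matrix.J, Matrix.one_apply]
  · by_cases h : i = j <;> simp [Jent, Matrix.J, h]
  · simp [Jent, Matrix.J]

/-- an isometry of a symplectic space, written in a symplectic basis -/
theorem exists_sp_of_form {V : Type u} [AddCommGroup V] [Module F V] [FiniteDimensional F V]
    (d : ℕ) (hd : finrank F V = 2 * d) (B : V →ₗ[F] V →ₗ[F] F) (hAlt : Alt B) (hND : Nondeg B)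
    (A : Module.End F V) (hInv : Inv B A) :
    ∃ g : symplecticGroup (Fin d) F,
      (g : Matrix (Fin d ⊕ Fin d) (Fin d ⊕ Fin d) F).charpoly = A.charpoly ∧
        ∀ N : ℕ, A ^ N = 1 → g ^ N = 1 := by
  obtain ⟨k, b, hb⟩ := exists_symp_basis B hAlt hND
  have hk : k = d := by
    have h1 := Module.finrank_eq_card_basis b
    rw [Fintype.card_sum, Fintype.card_fin] at h1
    omega
  subst hk
  set M := LinearMap.toMatrix b b A with hM
  have hG : LinearMap.toMatrix₂ b b B = -(Matrix.J (Fin k) F) := by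
    rw [← Jent_eq_neg_J]
    ext x y
    rw [LinearMap.toMatrix₂_apply, hb]
    rfl
  have hcomp : B.compl₁₂ A A = B := by
    apply LinearMap.ext₂
    intro u v
    exact hInv u v
  have h1 := LinearMap.toMatrix₂_compl₁₂ b b b b B A A
  rw [hcomp, hG, ← hM] at h1
  have h2 : Mᵀ * Matrix.J (Fin k) F * M = Matrix.J (Fin k) F := by
    have h3 : -(Mᵀ * Matrix.J (Fin k) F * M) = -(Matrix.J (Fin k) F) := by
      rw [h1]
      simp only [Matrix.mul_neg, Matrix.neg_mul]
    exact neg_injective h3
  have hmem : M ∈ symplecticGroup (Fin k) F := by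
    rw [← SymplecticGroup.transpose_mem_iff, SymplecticGroup.mem_iff, Matrix.transpose_transpose]
    exact h2
  refine ⟨⟨M, hmem⟩, LinearMap.charpoly_toMatrix A b, ?_⟩
  intro N hN
  apply Subtype.ext
  rw [SubmonoidClass.coe_pow]
  change M ^ N = 1
  rw [hM, LinearMap.toMatrix_pow, hN, LinearMap.toMatrix_one]

variable [Fintype F]

/-- a symplectic matrix whose characteristic polynomial is a given self-reciprocal irreducible
polynomial of degree at least two -/
theorem exists_sp_selfrec (P : F[X]) (hP : P.Monic) (hirr : Irreducible P)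
    (hrev : P ∣ P.reverse) (N : ℕ) (hN : 0 < N) (hdvd : P ∣ X ^ N - 1) (d : ℕ)
    (hdeg : P.natDegree = 2 * d) (hd : 1 ≤ d) :
    ∃ g : symplecticGroup (Fin d) F,
      (g : Matrix (Fin d ⊕ Fin d) (Fin d ⊕ Fin d) F).charpoly = P ∧ g ^ N = 1 := by
  have : Fact (Irreducible P) := ⟨hirr⟩
  have : Module.Finite F (AdjoinRoot P) := hP.finite_adjoinRoot
  have : Finite (AdjoinRoot P) := Module.finite_of_finite F
  let _ : Fintype (AdjoinRoot P) := Fintype.ofFinite _
  obtain ⟨d', hd', hα0, hαinv, hαne⟩ := selfrec_root P hP hrev N hN hdvd (by omega)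
  have hdd : d' = d := by omega
  subst hdd
  set α := AdjoinRoot.root P with hα
  have hcard : Fintype.card (AdjoinRoot P) = (Fintype.card F ^ d') ^ 2 := by
    rw [← Nat.card_eq_fintype_card, card_adjoinRoot P hP, hd', ← pow_mul, mul_comm]
  set σ : AdjoinRoot P →ₐ[F] AdjoinRoot P := (FiniteField.frobeniusAlgHom F (AdjoinRoot P)) ^ d'
    with hσdef
  have hσ : ∀ x, σ x = x ^ (Fintype.card F ^ d') := by
    intro x
    rw [hσdef, AlgHom.coe_pow, FiniteField.coe_frobeniusAlgHom, pow_iterate]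
  have hσ2 : ∀ a, σ (σ a) = a := by
    intro a
    rw [hσ, hσ, ← pow_mul, ← pow_two, ← hcard, FiniteField.pow_card]
  have hσα : σ α = α⁻¹ := by rw [hσ, ← hαinv]
  -- the fixed subspace
  set K₀ : Submodule F (AdjoinRoot P) := LinearMap.ker (σ.toLinearMap - LinearMap.id) with hK₀
  have hmemK₀ : ∀ a, a ∈ K₀ ↔ σ a = a := by
    intro a
    rw [hK₀, LinearMap.mem_ker, LinearMap.sub_apply, sub_eq_zero]
    rfl
  have hK₀lt : K₀ < ⊤ := by
    rw [lt_top_iff_ne_top]
    intro htop
    have : α ∈ K₀ := by rw [htop]; exact Submodule.mem_top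
    rw [hmemK₀, hσα] at this
    exact hαne this
  obtain ⟨l₀, hl₀, hl₀K⟩ := Submodule.exists_le_ker_of_lt_top K₀ hK₀lt
  have hl₀fix : ∀ a, σ a = a → l₀ a = 0 := fun a ha =>
    LinearMap.mem_ker.mp (hl₀K ((hmemK₀ a).mpr ha))
  -- the form
  let B : AdjoinRoot P →ₗ[F] AdjoinRoot P →ₗ[F] F :=
    LinearMap.mk₂ F (fun x y => l₀ (x * σ y))
      (fun x x' y => by rw [add_mul, map_add])
      (fun c x y => by rw [smul_mul_assoc, map_smul])
      (fun x y y' => by rw [map_add, mul_add, map_add])
      (fun c x y => by rw [map_smul, mul_smul_comm, map_smul])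
  have hB : ∀ x y, B x y = l₀ (x * σ y) := fun x y => rfl
  have hAlt : Alt B := by
    intro x
    rw [hB]
    apply hl₀fix
    rw [map_mul, hσ2, mul_comm]
  have hND : Nondeg B := by
    intro x hx
    apply eq_zero_of_functional l₀ hl₀
    intro a
    have := hx (σ a)
    rwa [hB, hσ2] at this
  set A : Module.End F (AdjoinRoot P) := LinearMap.mulLeft F α with hA
  have hInv : Inv B A := by
    intro x y
    rw [hB, hB, hA, LinearMap.mulLeft_apply, LinearMap.mulLeft_apply, map_mul σ, hσα]
    congr 1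
    field_simp
  have hfr : finrank F (AdjoinRoot P) = 2 * d' := by
    rw [(AdjoinRoot.powerBasis hirr.ne_zero).finrank, AdjoinRoot.powerBasis_dim, hd']
  obtain ⟨g, hg1, hg2⟩ := exists_sp_of_form d' hfr B hAlt hND A hInv
  refine ⟨g, ?_, ?_⟩
  · rw [hg1, hA]
    exact SemiS.charpoly_mulLeft_root P hP
  · apply hg2
    have h1 : α ^ N = 1 := (root_pow_eq_one_iff P _).mpr hdvd
    rw [hA, LinearMap.pow_mulLeft, h1, LinearMap.mulLeft_one]
    rfl

end Cfsg.Agent.Helper8.SpX
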