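import Mathlib
import Cfsg.Agent.Helper8.SpXPoly
import Cfsg.Agent.Helper8.SpXSelfRec
set_option autoImplicit false

/-! Every monic palindromic polynomial of degree `2n` is the characteristic polynomial of a
semisimple element of `Sp_{2n}(q)`. -/

namespace Cfsg.Agent.Helper8.SpX

open Matrix Polynomial
open Cfsg.Agent.Helper8.SpG

variable {F : Type*} [Field F] [Fintype F]

theorem coprime_card_pow_sub_one (p : ℕ) [Fact p.Prime] [CharP F p] (D : ℕ) (hD : 0 < D) :
    (Fintype.card F ^ D - 1).Coprime p := by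
  have hp : p.Prime := Fact.out
  have h1 : p ∣ Fintype.card F ^ D := by
    have h2 : p ∣ Fintype.card F := by
      obtain ⟨f, -, hf⟩ := FiniteField.card F p
      rw [hf]
      exact dvd_pow_self p f.ne_zero
    exact dvd_pow h2 hD.ne'
  have hpos : 0 < Fintype.card F ^ D := pow_pos Fintype.card_pos D
  rw [Nat.coprime_comm, Nat.Prime.coprime_iff_not_dvd hp]
  intro h3
  have h4 : p ∣ 1 := by
    have h5 : Fintype.card F ^ D - 1 + 1 = Fintype.card F ^ D := Nat.sub_add_cancel hpos
    have h6 : p ∣ Fintype.card F ^ D - 1 + 1 := by rw [h5]; exact h1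
    exact (Nat.dvd_add_right h3).mp h6
  exact hp.one_lt.ne' (Nat.dvd_one.mp h4)

/-- block sum with control of the characteristic polynomial and of the order -/
theorem exists_sum (p : ℕ) (a b n : ℕ) (hn : a + b = n) (x : symplecticGroup (Fin a) F)
    (y : symplecticGroup (Fin b) F) (hx : (orderOf x).Coprime p) (hy : (orderOf y).Coprime p) :
    ∃ z : symplecticGroup (Fin n) F,
      (z : Matrix (Fin n ⊕ Fin n) (Fin n ⊕ Fin n) F).charpoly
        = (x : Matrix (Fin a ⊕ Fin a) (Fin a ⊕ Fin a) F).charpoly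
          * (y : Matrix (Fin b ⊕ Fin b) (Fin b ⊕ Fin b) F).charpoly ∧ (orderOf z).Coprime p := by
  subst hn
  refine ⟨spSum a b (x, y), charpoly_bsum a b x.1 y.1, ?_⟩
  rw [orderOf_injective (spSum a b) (spSum_injective a b) (x, y), Prod.orderOf]
  exact Nat.Coprime.coprime_dvd_left (Nat.lcm_dvd_mul _ _) (Nat.Coprime.mul_left hx hy)

theorem exists_sp_charpoly (p : ℕ) [Fact p.Prime] [CharP F p] (n : ℕ) :
    ∀ χ : F[X], χ.Monic → χ.natDegree = 2 * n → χ.reverse = χ →
      ∃ g : symplecticGroup (Fin n) F,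
        (g : Matrix (Fin n ⊕ Fin n) (Fin n ⊕ Fin n) F).charpoly = χ ∧ (orderOf g).Coprime p := by
  induction n using Nat.strong_induction_on with
  | _ n ih =>
    intro χ hχ hdeg hrev
    rcases Nat.eq_zero_or_pos n with rfl | hn
    · have h1 : χ = 1 := eq_one_of_monic_natDegree_zero hχ (by rw [hdeg])
      refine ⟨1, ?_, by simp⟩
      rw [h1]
      exact Matrix.charpoly_isEmpty
    have hnu : ¬ IsUnit χ := by
      intro hu
      have := natDegree_eq_zero_of_isUnit hu
      omega
    obtain ⟨P, hPm, hirr, hPχ⟩ := Polynomial.exists_monic_irreducible_factor χ hnu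
    have hχ0 : χ.coeff 0 = 1 := coeff_zero_of_reverse hχ hrev
    have hP0 : P.coeff 0 ≠ 0 := by
      intro h0
      have h1 : (X : F[X]) ∣ χ := dvd_trans (Polynomial.X_dvd_iff.mpr h0) hPχ
      rw [Polynomial.X_dvd_iff, hχ0] at h1
      exact one_ne_zero h1
    have hPdeg := hirr.natDegree_pos
    -- common final step
    have finish : ∀ (G : F[X]) (a : ℕ), G.Monic → G.reverse = G → G.natDegree = 2 * a → 1 ≤ a →
        G ∣ χ → (∃ h : symplecticGroup (Fin a) F,
          (h : Matrix (Fin a ⊕ Fin a) (Fin a ⊕ Fin a) F).charpoly = G ∧ (orderOf h).Coprime p) →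
        ∃ g : symplecticGroup (Fin n) F,
          (g : Matrix (Fin n ⊕ Fin n) (Fin n ⊕ Fin n) F).charpoly = χ ∧ (orderOf g).Coprime p := by
      intro G a hGm hGrev hGdeg ha hGχ hblock
      obtain ⟨χ', hχ'⟩ := hGχ
      have hχ'm : χ'.Monic := hGm.of_mul_monic_left (hχ' ▸ hχ)
      have hχ'rev : χ'.reverse = χ' := reverse_of_mul hχ' hrev hGrev hGm.ne_zero
      have hχ'deg : χ'.natDegree = 2 * (n - a) ∧ a ≤ n := by
        have := congrArg Polynomial.natDegree hχ'
        rw [natDegree_mul hGm.ne_zero hχ'm.ne_zero, hdeg, hGdeg] at this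
        omega
      obtain ⟨h, hh1, hh2⟩ := hblock
      obtain ⟨g', hg'1, hg'2⟩ := ih (n - a) (by omega) χ' hχ'm hχ'deg.1 hχ'rev
      obtain ⟨z, hz1, hz2⟩ := exists_sum p a (n - a) n (by omega) h g' hh2 hg'2
      exact ⟨z, by rw [hz1, hh1, hg'1, hχ'], hz2⟩
    by_cases hcase : P ∣ P.reverse ∧ 2 ≤ P.natDegree
    · -- self-reciprocal irreducible factor of degree at least two
      obtain ⟨hd, hdeg2⟩ := hcase
      have hPrev : P.reverse = P := reverse_eq_self_of_dvd P hPm hirr hP0 hd hdeg2
      set N := Fintype.card F ^ P.natDegree - 1 with hN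
      have hNdvd : P ∣ X ^ N - 1 := dvd_X_pow_card_sub_one P hPm hirr hP0
      have hNpos : 0 < N := by
        have : 2 ≤ Fintype.card F := by
          have := Fintype.one_lt_card (α := F)
          omega
        have h2 : 2 ^ 1 ≤ Fintype.card F ^ P.natDegree :=
          le_trans (Nat.pow_le_pow_left this 1) (Nat.pow_le_pow_right (by omega) hPdeg)
        omega
      have : Fact (Irreducible P) := ⟨hirr⟩
      obtain ⟨d, hd2, -, -, -⟩ := SpS.selfrec_root P hPm hd N hNpos hNdvd hdeg2
      apply finish P d hPm hPrev hd2 (by omega) hPχ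
      obtain ⟨g, hg1, hg2⟩ := exists_sp_selfrec P hPm hirr hd N hNpos hNdvd d hd2 (by omega)
      refine ⟨g, hg1, ?_⟩
      exact Nat.Coprime.coprime_dvd_left (orderOf_dvd_of_pow_eq_one hg2)
        (coprime_card_pow_sub_one p _ hPdeg)
    · -- hyperbolic pair
      have hGdvd : P * star P ∣ χ := by
        by_cases hd : P ∣ P.reverse
        · have hdeg1 : P.natDegree = 1 := by
            by_contra h
            exact hcase ⟨hd, by omega⟩
          rw [star_eq_of_dvd P hPm hP0 hd]
          exact sq_dvd_of_linear χ P n hdeg hrev hχ.ne_zero hPm hdeg1 hP0 hd hPχ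
        · have hcop : IsCoprime P P.reverse := hirr.coprime_iff_not_dvd.mpr hd
          have hrevχ : P.reverse ∣ χ := by
            have := reverse_dvd_reverse hPχ
            rwa [hrev] at this
          have h1 : P * P.reverse ∣ χ := hcop.mul_dvd hPχ hrevχ
          refine dvd_trans ?_ h1
          unfold star
          refine mul_dvd_mul_left P ⟨C (P.coeff 0), ?_⟩
          rw [mul_comm, ← mul_assoc, ← C_mul, mul_inv_cancel₀ hP0, map_one, one_mul]
      apply finish (P * star P) P.natDegree (hPm.mul (star_monic P hP0)) (reverse_mul_star P hP0)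
        (natDegree_mul_star P hPm.ne_zero hP0) hPdeg hGdvd
      exact exists_sp_pair p P.natDegree P hPm rfl hP0

end Cfsg.Agent.Helper8.SpX
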