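import Mathlib
import Cfsg.Agent.Helper8.SpXExist
import Cfsg.Agent.Helper8.SpXCount
import Cfsg.Agent.Helper8.SpSFinal
import Cfsg.Agent.Helper8.SemiSFam
set_option autoImplicit false

/-! The number of semisimple conjugacy classes of `Sp_{2n}(q)` is `q^n`. -/

namespace Cfsg.Agent.Helper8.SpX

open Matrix Polynomial
open Cfsg.Agent.Helper8.SpG

variable {F : Type*} [Field F] [Fintype F]

theorem charpoly_eq_of_isConj {n : ℕ} (g h : symplecticGroup (Fin n) F) (hc : IsConj g h) :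
    (g : Matrix (Fin n ⊕ Fin n) (Fin n ⊕ Fin n) F).charpoly
      = (h : Matrix (Fin n ⊕ Fin n) (Fin n ⊕ Fin n) F).charpoly := by
  obtain ⟨c, hc⟩ := isConj_iff.mp hc
  have h1 : h.1 = c.1 * g.1 * (c⁻¹).1 := by
    rw [← hc]
    rfl
  have hunit : c.1 * (c⁻¹).1 = 1 := by
    have : (c * c⁻¹).1 = c.1 * (c⁻¹).1 := rfl
    rw [← this, mul_inv_cancel]
    rfl
  have hunit' : (c⁻¹).1 * c.1 = 1 := by
    have : (c⁻¹ * c).1 = (c⁻¹).1 * c.1 := rfl
    rw [← this, inv_mul_cancel]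
    rfl
  have := Matrix.charpoly_units_conj (⟨c.1, (c⁻¹).1, hunit, hunit'⟩ : (Matrix _ _ F)ˣ) g.1
  rw [h1]
  rw [← this]
  congr 2
  exact Matrix.inv_eq_right_inv hunit

theorem card_pprime_classes_Sp {q : ℕ} (hq : Fintype.card F = q) (p : ℕ) [Fact p.Prime]
    [CharP F p] (n : ℕ) :
    Nat.card {c : ConjClasses ↥(symplecticGroup (Fin n) F) //
      ∃ g : ↥(symplecticGroup (Fin n) F), ConjClasses.mk g = c ∧ (orderOf g).Coprime p} = q ^ n := by
  rw [← hq, ← card_pal n]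
  refine SemiS.card_classes_of_invariant (G := ↥(symplecticGroup (Fin n) F))
    (fun g => (orderOf g).Coprime p)
    (fun g => g.1.charpoly)
    (fun χ => χ.Monic ∧ χ.natDegree = 2 * n ∧ χ.reverse = χ) ?_ ?_ ?_
  · intro g g' hg hg'
    exact ⟨charpoly_eq_of_isConj g g', SpS.sp_isConj_of_charpoly_eq p g g' hg hg'⟩
  · intro g _
    refine ⟨Matrix.charpoly_monic _, ?_, reverse_charpoly_symp _ g.2⟩
    rw [Matrix.charpoly_natDegree_eq_dim, Fintype.card_sum, Fintype.card_fin]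
    ring
  · rintro χ ⟨hm, hdeg, hrev⟩
    obtain ⟨g, hg1, hg2⟩ := exists_sp_charpoly p n χ hm hdeg hrev
    exact ⟨g, hg2, hg1⟩

end Cfsg.Agent.Helper8.SpX
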