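import Mathlib
import Cfsg.Agent.Helper8.SpRPal
import Cfsg.Agent.Helper8.SpRCount
import Cfsg.Agent.Helper8.SpXMain
import Cfsg.Agent.Helper8.SemiSOrderR
set_option autoImplicit false

/-! The number of conjugacy classes of elements of odd prime order `r` in `Sp_{2m}(q)`. -/

namespace Cfsg.Agent.Helper8.SpR

open Matrix Polynomial
open Cfsg.Agent.Helper8.SpX Cfsg.Agent.Helper8.SpG Cfsg.Agent.Helper8.SemiS

variable {F : Type*} [Field F]

section expo

variable {ι : Type*} [Fintype ι] [DecidableEq ι] (Q : ι → F[X])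

/-- symplectic version of `expo_of_killed` -/
theorem expo_of_killed_sp {m : ℕ} (h : F[X]) (hsq : Squarefree h)
    (hQh : ∀ P : F[X], P.Monic → Irreducible P → P ∣ h → ∃ j, P = Q j)
    (hQ : ∀ j, (Q j).Monic)
    (A : Matrix (Fin m ⊕ Fin m) (Fin m ⊕ Fin m) F) (hA : aeval A h = 0) :
    ∃ a : ι → ℕ, A.charpoly = ∏ j, Q j ^ a j ∧ ∑ j, a j * (Q j).natDegree = 2 * m := by
  let e : Fin m ⊕ Fin m ≃ Fin (m + m) := finSumFinEquiv
  have h1 : aeval (Matrix.reindex e e A) h = 0 := by
    have := Polynomial.aeval_algHom_apply (Matrix.reindexAlgEquiv F F e).toAlgHom A h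
    change aeval (Matrix.reindex e e A) h = Matrix.reindex e e (aeval A h) at this
    rw [this, hA]
    rfl
  obtain ⟨a, ha1, ha2⟩ := expo_of_killed Q h hsq hQh hQ (Matrix.reindex e e A) h1
  refine ⟨a, ?_, ?_⟩
  · rw [← ha1, Matrix.charpoly_reindex]
  · rw [ha2]; ring

end expo

variable [Fintype F]

/-- a semisimple symplectic matrix whose characteristic polynomial divides a power of
`X ^ r - 1` satisfies `g ^ r = 1` -/
theorem pow_eq_one_of_charpoly {m : ℕ} (p : ℕ) [Fact p.Prime] [CharP F p]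
    (g : symplecticGroup (Fin m) F) (hg : (orderOf g).Coprime p) (r K : ℕ)
    (hdvd : (g : Matrix (Fin m ⊕ Fin m) (Fin m ⊕ Fin m) F).charpoly ∣ (X ^ r - 1) ^ K) :
    g ^ r = 1 := by
  set A : Matrix (Fin m ⊕ Fin m) (Fin m ⊕ Fin m) F := g.1 with hA
  set N := orderOf g with hN
  have hAN : A ^ N = 1 := by
    have h1 : (g ^ N).1 = A ^ N := SubmonoidClass.coe_pow g N
    rw [← h1, hN, pow_orderOf_eq_one]
    rfl
  have hNF : ((N : ℕ) : F) ≠ 0 := SpS.cast_orderOf_ne_zero p g hg
  have hsq : Squarefree (X ^ N - 1 : F[X]) := SpS.squarefree_X_pow_sub_one N hNF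
  have hμ1 : minpoly F A ∣ X ^ N - 1 := by
    apply minpoly.dvd
    rw [map_sub, map_pow, aeval_X, map_one, hAN, sub_self]
  have hμsq : Squarefree (minpoly F A) := hsq.squarefree_of_dvd hμ1
  have hμ2 : minpoly F A ∣ (X ^ r - 1) ^ (K + 1) :=
    dvd_trans (Matrix.minpoly_dvd_charpoly A) (dvd_trans hdvd (pow_dvd_pow _ (Nat.le_succ K)))
  have hμ3 : minpoly F A ∣ X ^ r - 1 := (hμsq.dvd_pow_iff_dvd (Nat.succ_ne_zero K)).mp hμ2
  have h2 : aeval A (X ^ r - 1 : F[X]) = 0 := by
    obtain ⟨c, hc⟩ := hμ3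
    rw [hc, map_mul, minpoly.aeval, zero_mul]
  rw [map_sub, map_pow, aeval_X, map_one, sub_eq_zero] at h2
  apply Subtype.ext
  rw [SubmonoidClass.coe_pow]
  exact h2

theorem card_order_r_classes_sp {q : ℕ} (p : ℕ) [Fact p.Prime] [CharP F p]
    (hF : Fintype.card F = q) (m r i t : ℕ) (hr : r.Prime) (hr2 : r ≠ 2) (hrp : r ≠ p)
    (hi : i = orderOf (q : ZMod r)) (ht : t * i = r - 1) :
    Nat.card {C : ConjClasses ↥(symplecticGroup (Fin m) F) //
      ∃ g : symplecticGroup (Fin m) F, ConjClasses.mk g = C ∧ orderOf g = r} =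
      if Odd i then Nat.choose (m / i + t / 2) (t / 2) - 1
      else Nat.choose (2 * m / i + t) t - 1 := by
  classical
  subst hF
  have hp : p.Prime := Fact.out
  obtain ⟨Q, hinj, hQ, hQ0, hQdeg, hQdvd, hQall⟩ :=
    exists_factors_X_pow_sub_one (F := F) p r hr hrp i t hi ht
  have hsq := SemiS.squarefree_X_pow_sub_one (F := F) p r hr hrp
  have hmon : ∀ j, (Q j).Monic := fun j => (hQ j).1
  have hipos : 0 < i := by
    rcases Nat.eq_zero_or_pos i with h0 | h0
    · rw [h0, mul_zero] at ht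
      have := hr.two_le
      omega
    · exact h0
  have hcop : r.Coprime p := (Nat.coprime_primes hr hp).mpr hrp
  have h0 : ∀ o, (Q o).coeff 0 ≠ 0 := fun o => coeff_zero_ne_of_dvd (Q o) r hr.pos (hQdvd o)
  let triv : Option (Fin t) → ℕ := fun o => Option.elim o (2 * m) (fun _ => 0)
  have htriv : fprod Q triv = (X - 1) ^ (2 * m) := by
    rw [fprod_eq]
    simp only [triv, Option.elim_none, Option.elim_some, pow_zero, Finset.prod_const_one, mul_one]
    rw [hQ0]
  let Rel : (Option (Fin t) → ℕ) → Prop := fun a =>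
    (∑ o, a o * (Q o).natDegree = 2 * m) ∧ a ≠ triv ∧ (fprod Q a).reverse = fprod Q a
  have hK1 : ∀ g : symplecticGroup (Fin m) F, orderOf g = r →
      aeval (g : Matrix (Fin m ⊕ Fin m) (Fin m ⊕ Fin m) F) (X ^ r - 1 : F[X]) = 0 := by
    intro g hg
    have h1 : (g ^ r).1 = g.1 ^ r := SubmonoidClass.coe_pow g r
    rw [map_sub, map_pow, aeval_X, map_one, ← h1, ← hg, pow_orderOf_eq_one, sub_eq_zero]
    rfl
  have hone : ((1 : symplecticGroup (Fin m) F) : Matrix (Fin m ⊕ Fin m) (Fin m ⊕ Fin m) F).charpoly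
      = (X - 1) ^ (2 * m) := by
    change (1 : Matrix (Fin m ⊕ Fin m) (Fin m ⊕ Fin m) F).charpoly = _
    rw [Matrix.charpoly_one, Fintype.card_sum, Fintype.card_fin, two_mul]
  have hiff : ∀ g g' : symplecticGroup (Fin m) F, orderOf g = r → orderOf g' = r →
      (IsConj g g' ↔ g.1.charpoly = g'.1.charpoly) := by
    intro g g' hg hg'
    exact ⟨charpoly_eq_of_isConj g g',
      SpS.sp_isConj_of_charpoly_eq p g g' (by rw [hg]; exact hcop) (by rw [hg']; exact hcop)⟩
  have hPQ : ∀ g : symplecticGroup (Fin m) F, orderOf g = r →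
      ∃ a, Rel a ∧ g.1.charpoly = fprod Q a := by
    intro g hg
    obtain ⟨a, ha1, ha2⟩ := expo_of_killed_sp Q (X ^ r - 1) hsq hQall hmon _ (hK1 g hg)
    refine ⟨a, ⟨ha2, ?_, ?_⟩, ha1⟩
    · intro hat
      have h1 : g.1.charpoly = (1 : symplecticGroup (Fin m) F).1.charpoly := by
        rw [ha1, hone, ← htriv, hat]
        rfl
      have h2 : IsConj g 1 := SpS.sp_isConj_of_charpoly_eq p g 1 (by rw [hg]; exact hcop)
        (by rw [orderOf_one]; exact Nat.coprime_one_left p) h1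
      rw [isConj_one_left] at h2
      rw [h2, orderOf_one] at hg
      exact hr.one_lt.ne hg
    · change (∏ o, Q o ^ a o).reverse = ∏ o, Q o ^ a o
      rw [← ha1]
      exact reverse_charpoly_symp _ g.2
  have hsurj : ∀ f : F[X], (∃ a, Rel a ∧ f = fprod Q a) →
      ∃ g : symplecticGroup (Fin m) F, orderOf g = r ∧ g.1.charpoly = f := by
    rintro f ⟨a, ⟨ha1, ha2, ha3⟩, rfl⟩
    have hfm : (fprod Q a).Monic := monic_prod_of_monic _ _ (fun o _ => (hmon o).pow _)
    have hfdeg : (fprod Q a).natDegree = 2 * m := by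
      change (∏ o, Q o ^ a o).natDegree = 2 * m
      rw [natDegree_prod_pow Q hmon, ha1]
    obtain ⟨g, hg1, hg2⟩ := exists_sp_charpoly p m (fprod Q a) hfm hfdeg ha3
    refine ⟨g, ?_, hg1⟩
    have hdvd : g.1.charpoly ∣ (X ^ r - 1) ^ (∑ o, a o) := by
      rw [hg1, ← Finset.prod_pow_eq_pow_sum]
      exact Finset.prod_dvd_prod_of_dvd _ _ (fun o _ => pow_dvd_pow_of_dvd (hQdvd o) _)
    have hgr : g ^ r = 1 := pow_eq_one_of_charpoly p g hg2 r _ hdvd
    rcases (Nat.dvd_prime hr).mp (orderOf_dvd_of_pow_eq_one hgr) with h1 | h1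
    · exfalso
      rw [orderOf_eq_one_iff] at h1
      rw [h1, hone, ← htriv] at hg1
      exact ha2 (prod_pow_injective Q hQ hinj hg1).symm
    · exact h1
  rw [card_classes_of_invariant (fun g : symplecticGroup (Fin m) F => orderOf g = r)
    (fun g => g.1.charpoly)
    (fun f => ∃ a, Rel a ∧ f = fprod Q a) hiff hPQ hsurj]
  have hcard : Nat.card {f : F[X] // ∃ a, Rel a ∧ f = fprod Q a} = Nat.card {a // Rel a} :=
    card_image_expo Q hQ hinj Rel
  rw [hcard]
  have hsum : ∀ a : Option (Fin t) → ℕ,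
      ∑ o, a o * (Q o).natDegree = a none + (∑ j, a (some j)) * i := by
    intro a
    rw [Fintype.sum_option, hQ0, Finset.sum_mul]
    have : (X - 1 : F[X]).natDegree = 1 := by
      have : (X - 1 : F[X]) = X - C 1 := by rw [map_one]
      rw [this, natDegree_X_sub_C]
    rw [this, mul_one]
    congr 1
    apply Finset.sum_congr rfl
    intro j _
    rw [hQdeg j]
  have hne1 : ∀ j, Q (some j) ≠ X - 1 := by
    intro j h
    rw [← hQ0] at h
    exact Option.some_ne_none j (hinj h)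
  by_cases hodd : Odd i
  · rw [if_pos hodd]
    obtain ⟨τ, hτ, hinv⟩ := exists_tau Q r hr.pos hinj hQ hQ0 hQdvd hQall
    have hfix : ∀ j, τ j ≠ j := by
      intro j hj
      have h1 := hτ j
      rw [hj] at h1
      exact star_ne_self_of_odd (Q (some j)) (hQ _).1 (hQ _).2 r hr hr2 (hQdvd _) (hne1 j)
        (by rw [hQdeg]; exact hodd) h1.symm
    have h2 : m / i = 2 * m / (2 * i) := (Nat.mul_div_mul_left m i (by norm_num)).symm
    rw [h2, ← card_symm_tuples t i (2 * m) hipos τ hinv hfix]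
    apply Nat.card_congr
    apply Equiv.subtypeEquivRight
    intro a
    change (∑ o, a o * (Q o).natDegree = 2 * m ∧ a ≠ triv ∧ (fprod Q a).reverse = fprod Q a) ↔ _
    rw [hsum]
    constructor
    · rintro ⟨h1, h2, h3⟩
      exact ⟨h1, h2, symm_of_reverse Q hQ0 τ hτ hinv hinj hQ a h3⟩
    · rintro ⟨h1, h2, h3⟩
      refine ⟨h1, h2, ?_⟩
      have hev : Even (a none) := by
        obtain ⟨c, hc⟩ := even_sum_of_symm Q hQ0 τ hτ hinv hfix a h3
        rw [hc] at h1
        have : a none = 2 * (m - c * i) := by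
          have : (c + c) * i = 2 * (c * i) := by ring
          omega
        exact ⟨m - c * i, by omega⟩
      exact reverse_fprod_of_symm Q hQ0 τ hτ hinv hmon (fun j => h0 _) hfix a hev h3
  · rw [if_neg hodd, ← card_weighted_ne t i (2 * m) hipos]
    have heven : Even i := Nat.not_odd_iff_even.mp hodd
    have hi2 : 2 ≤ i := by
      obtain ⟨c, hc⟩ := heven
      omega
    have hrev : ∀ j, (Q (some j)).reverse = Q (some j) := by
      intro j
      have h1 := star_eq_self_of_even (Q (some j)) (hQ _).1 (hQ _).2 r hr (hQdvd _) i hi heven hipos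
      exact reverse_eq_self_of_dvd _ (hQ _).1 (hQ _).2 (h0 _)
        (dvd_reverse_of_star_eq _ (h0 _) h1) (by rw [hQdeg]; exact hi2)
    apply Nat.card_congr
    apply Equiv.subtypeEquivRight
    intro a
    change (∑ o, a o * (Q o).natDegree = 2 * m ∧ a ≠ triv ∧ (fprod Q a).reverse = fprod Q a) ↔ _
    rw [hsum]
    constructor
    · rintro ⟨h1, h2, -⟩
      exact ⟨h1, h2⟩
    · rintro ⟨h1, h2⟩
      refine ⟨h1, h2, ?_⟩
      have hev : Even (a none) := by
        obtain ⟨c, hc⟩ := heven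
        rw [hc] at h1
        have : (∑ j, a (some j)) * (c + c) = 2 * ((∑ j, a (some j)) * c) := by ring
        exact ⟨m - (∑ j, a (some j)) * c, by omega⟩
      exact reverse_fprod_of_selfrec Q hQ0 hrev a hev

end Cfsg.Agent.Helper8.SpR
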