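import Mathlib
import Cfsg.Agent.Helper8.OrRFactors
import Cfsg.Agent.Helper8.OrRExistOdd
import Cfsg.Agent.Helper8.OWallD
import Cfsg.Agent.Helper8.SpRMain
set_option autoImplicit false

/-! The number of conjugacy classes of elements of odd prime order `r` in `O_{2m+1}(q)`, `q` odd. -/

namespace Cfsg.Agent.Helper8.OrR

open Matrix Polynomial
open Cfsg.Agent.Helper8.SpX Cfsg.Agent.Helper8.SpG Cfsg.Agent.Helper8.SemiS
  Cfsg.Agent.Helper8.SpR Cfsg.Agent.Helper8.StdForms Cfsg.Agent.Helper8.OWall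

variable {F : Type*} [Field F]

section expo

variable {κ : Type*} [Fintype κ] [DecidableEq κ] (Q : κ → F[X])

/-- general index version of `expo_of_killed` -/
theorem expo_of_killed_gen {ι' : Type*} [Fintype ι'] [DecidableEq ι'] (n : ℕ)
    (hn : Fintype.card ι' = n) (h : F[X]) (hsq : Squarefree h)
    (hQh : ∀ P : F[X], P.Monic → Irreducible P → P ∣ h → ∃ j, P = Q j)
    (hQ : ∀ j, (Q j).Monic)
    (A : Matrix ι' ι' F) (hA : aeval A h = 0) :
    ∃ a : κ → ℕ, A.charpoly = ∏ j, Q j ^ a j ∧ ∑ j, a j * (Q j).natDegree = n := by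
  let e : ι' ≃ Fin n := Fintype.equivFinOfCardEq hn
  have h1 : aeval (Matrix.reindex e e A) h = 0 := by
    have := Polynomial.aeval_algHom_apply (Matrix.reindexAlgEquiv F F e).toAlgHom A h
    change aeval (Matrix.reindex e e A) h = Matrix.reindex e e (aeval A h) at this
    rw [this, hA]
    rfl
  obtain ⟨a, ha1, ha2⟩ := expo_of_killed Q h hsq hQh hQ (Matrix.reindex e e A) h1
  refine ⟨a, ?_, ha2⟩
  rw [← ha1, Matrix.charpoly_reindex]

end expo

section conj

variable {ι : Type} [Fintype ι] [DecidableEq ι]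

theorem charpoly_eq_of_isConj_orth (Q₀ : (ι → F) → F) (g h : ↥(Cfsg.isometryGroup F Q₀))
    (hc : IsConj g h) :
    ((g : GL ι F) : Matrix ι ι F).charpoly = ((h : GL ι F) : Matrix ι ι F).charpoly := by
  rw [isConj_iff] at hc
  obtain ⟨c, hc⟩ := hc
  have h1 : ((h : GL ι F) : Matrix ι ι F)
      = ((c : GL ι F) : Matrix ι ι F) * ((g : GL ι F) : Matrix ι ι F)
        * (((c : GL ι F)⁻¹ : GL ι F) : Matrix ι ι F) := by
    rw [← hc]
    rfl
  rw [h1, Matrix.coe_units_inv, Matrix.charpoly_units_conj]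

/-- an orthogonal matrix of order prime to `p` whose characteristic polynomial divides a power
of `X ^ r - 1` satisfies `g ^ r = 1` -/
theorem aeval_orth_of_order (Q₀ : (ι → F) → F) (g : ↥(Cfsg.isometryGroup F Q₀)) (r : ℕ)
    (hg : g ^ r = 1) : aeval ((g : GL ι F) : Matrix ι ι F) (X ^ r - 1 : F[X]) = 0 := by
  have h1 : ((g ^ r : ↥(Cfsg.isometryGroup F Q₀)) : GL ι F).1 = ((g : GL ι F) : Matrix ι ι F) ^ r := by
    rw [Subgroup.coe_pow, Units.val_pow_eq_pow_val]
  rw [map_sub, map_pow, aeval_X, map_one, ← h1, hg, sub_eq_zero]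
  rfl

end conj

variable [Fintype F]

theorem two_ne_zero_of_odd_card (hodd : Odd (Fintype.card F)) : (2 : F) ≠ 0 := by
  intro h
  have hc : ringChar F = 2 := by
    have : CharP F 2 := CharTwo.of_one_ne_zero_of_two_eq_zero one_ne_zero h
    exact ringChar.eq F 2
  have : Even (Fintype.card F) :=
    Nat.even_iff.mpr ((FiniteField.even_card_iff_char_two (F := F)).mp hc)
  exact (Nat.not_even_iff_odd.mpr hodd) this

omit [Fintype F] in
theorem isCoprime_X_sub_one_of_irreducible (P : F[X]) (hP : P.Monic) (hirr : Irreducible P)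
    (hne : P ≠ X - 1) : IsCoprime (X - 1 : F[X]) P := by
  have hX1 : (X - 1 : F[X]) = X - C 1 := by rw [map_one]
  have hirr1 : Irreducible (X - 1 : F[X]) := by rw [hX1]; exact irreducible_X_sub_C 1
  have hmon1 : (X - 1 : F[X]).Monic := by rw [hX1]; exact monic_X_sub_C 1
  rw [hirr1.coprime_iff_not_dvd]
  intro hd
  apply hne
  have hassoc : Associated (X - 1 : F[X]) P := hirr1.associated_of_dvd hirr hd
  exact (Polynomial.eq_of_monic_of_associated hmon1 hP hassoc).symm

theorem card_order_r_classes_oodd {q : ℕ} (p : ℕ) [Fact p.Prime] [CharP F p]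
    (hF : Fintype.card F = q) (hq : Odd q) (m r i t : ℕ) (hr : r.Prime) (hr2 : r ≠ 2)
    (hrp : r ≠ p) (hi : i = orderOf (q : ZMod r)) (ht : t * i = r - 1) :
    Nat.card {C : ConjClasses ↥(Cfsg.isometryGroup F ⇑(oddForm F m)) //
      ∃ g : ↥(Cfsg.isometryGroup F ⇑(oddForm F m)), ConjClasses.mk g = C ∧ orderOf g = r} =
      if Odd i then Nat.choose (m / i + t / 2) (t / 2) - 1
      else Nat.choose ((2 * m + 1) / i + t) t - 1 := by
  classical
  subst hF
  have hp : p.Prime := Fact.out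
  have h2 : (2 : F) ≠ 0 := two_ne_zero_of_odd_card hq
  have hQnd := oddForm_nondeg F m h2
  obtain ⟨Q, hinj, hQ, hQ0, hQdeg, hQdvd, hQall⟩ :=
    exists_factors_X_pow_sub_one (F := F) p r hr hrp i t hi ht
  have hsq := SemiS.squarefree_X_pow_sub_one (F := F) p r hr hrp
  have hmon : ∀ j, (Q j).Monic := fun j => (hQ j).1
  have hipos : 0 < i := by
    rcases Nat.eq_zero_or_pos i with h0 | h0
    · rw [h0, mul_zero] at ht
      have := hr.two_le
      omega
    · exact h0
  have hcop : r.Coprime p := (Nat.coprime_primes hr hp).mpr hrp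
  have hrodd : Odd r := hr.odd_of_ne_two hr2
  have h0 : ∀ o, (Q o).coeff 0 ≠ 0 := fun o => coeff_zero_ne_of_dvd (Q o) r hr.pos (hQdvd o)
  have hcardι : Fintype.card (Unit ⊕ (Fin m ⊕ Fin m)) = 2 * m + 1 := by
    simp only [Fintype.card_sum, Fintype.card_unique, Fintype.card_fin]
    ring
  let triv : Option (Fin t) → ℕ := fun o => Option.elim o (2 * m + 1) (fun _ => 0)
  have htriv : fprod Q triv = (X - 1) ^ (2 * m + 1) := by
    rw [fprod_eq]
    simp only [triv, Option.elim_none, Option.elim_some, pow_zero, Finset.prod_const_one, mul_one]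
    rw [hQ0]
  let Rel : (Option (Fin t) → ℕ) → Prop := fun a =>
    (∑ o, a o * (Q o).natDegree = 2 * m + 1) ∧ a ≠ triv ∧ SpX.star (fprod Q a) = fprod Q a
  have hK1 : ∀ g : ↥(Cfsg.isometryGroup F ⇑(oddForm F m)), orderOf g = r →
      aeval g.1.1 (X ^ r - 1 : F[X]) = 0 := by
    intro g hg
    apply aeval_orth_of_order
    rw [← hg, pow_orderOf_eq_one]
  have hone : (1 : ↥(Cfsg.isometryGroup F ⇑(oddForm F m))).1.1.charpoly
      = (X - 1) ^ (2 * m + 1) := by
    change (1 : Matrix (Unit ⊕ (Fin m ⊕ Fin m)) (Unit ⊕ (Fin m ⊕ Fin m)) F).charpoly = _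
    rw [Matrix.charpoly_one, hcardι]
  have hiff : ∀ g g' : ↥(Cfsg.isometryGroup F ⇑(oddForm F m)), orderOf g = r → orderOf g' = r →
      (IsConj g g' ↔ g.1.1.charpoly
        = g'.1.1.charpoly) := by
    intro g g' hg hg'
    exact ⟨charpoly_eq_of_isConj_orth _ g g',
      orth_isConj_of_charpoly_eq (oddForm F m) hQnd g g' (by rw [hg]; exact hrodd)
        (by rw [hg]; exact hcop) (by rw [hg']; exact hcop)⟩
  have hPQ : ∀ g : ↥(Cfsg.isometryGroup F ⇑(oddForm F m)), orderOf g = r →
      ∃ a, Rel a ∧ g.1.1.charpoly = fprod Q a := by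
    intro g hg
    obtain ⟨a, ha1, ha2⟩ := expo_of_killed_gen Q (2 * m + 1) hcardι (X ^ r - 1) hsq hQall hmon _
      (hK1 g hg)
    refine ⟨a, ⟨ha2, ?_, ?_⟩, ha1⟩
    · intro hat
      have h1 : g.1.1.charpoly
          = (1 : ↥(Cfsg.isometryGroup F ⇑(oddForm F m))).1.1.charpoly := by
        rw [ha1, hone, ← htriv, hat]
        rfl
      have h2 : IsConj g 1 := orth_isConj_of_charpoly_eq (oddForm F m) hQnd g 1
        (by rw [hg]; exact hrodd) (by rw [hg]; exact hcop)
        (by rw [orderOf_one]; exact Nat.coprime_one_left p) h1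
      rw [isConj_one_left] at h2
      rw [h2, orderOf_one] at hg
      exact hr.one_lt.ne hg
    · change SpX.star (∏ o, Q o ^ a o) = ∏ o, Q o ^ a o
      rw [← ha1]
      exact star_charpoly_of_orth (oddForm F m) hQnd g
  obtain ⟨τ, hτ, hinv⟩ := exists_tau Q r hr.pos hinj hQ hQ0 hQdvd hQall
  have hne1 : ∀ j, Q (some j) ≠ X - 1 := by
    intro j h
    rw [← hQ0] at h
    exact Option.some_ne_none j (hinj h)
  have hsum : ∀ a : Option (Fin t) → ℕ,
      ∑ o, a o * (Q o).natDegree = a none + (∑ j, a (some j)) * i := by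
    intro a
    rw [Fintype.sum_option, hQ0, Finset.sum_mul]
    have : (X - 1 : F[X]).natDegree = 1 := by
      have : (X - 1 : F[X]) = X - C 1 := by rw [map_one]
      rw [this, natDegree_X_sub_C]
    rw [this, mul_one]
    congr 1
    apply Finset.sum_congr rfl
    intro j _
    rw [hQdeg j]
  have hfix : Odd i → ∀ j, τ j ≠ j := by
    intro hodd j hj
    have h1 := hτ j
    rw [hj] at h1
    exact star_ne_self_of_odd (Q (some j)) (hQ _).1 (hQ _).2 r hr hr2 (hQdvd _) (hne1 j)
      (by rw [hQdeg]; exact hodd) h1.symm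
  have hsd : ¬ Odd i → ∀ j, SpX.star (Q (some j)) = Q (some j) := by
    intro hodd j
    exact star_eq_self_of_even (Q (some j)) (hQ _).1 (hQ _).2 r hr (hQdvd _) i hi
      (Nat.not_odd_iff_even.mp hodd) hipos
  have hsurj : ∀ f : F[X], (∃ a, Rel a ∧ f = fprod Q a) →
      ∃ g : ↥(Cfsg.isometryGroup F ⇑(oddForm F m)), orderOf g = r ∧
        g.1.1.charpoly = f := by
    rintro f ⟨a, ⟨ha1, ha2, ha3⟩, rfl⟩
    rw [hsum] at ha1
    -- the part without eigenvalue one
    set a' : Option (Fin t) → ℕ := fun o => Option.elim o 0 (fun j => a (some j)) with ha'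
    have hsplit : fprod Q a = (X - 1) ^ a none * fprod Q a' := by
      rw [fprod_eq, fprod_eq, hQ0]
      simp only [ha', Option.elim_none, Option.elim_some, pow_zero, one_mul]
    have hsym := symm_of_star Q hQ0 τ hτ hinv hinj hQ a ha3
    -- even degree and palindromic
    have hWrev : (fprod Q a').reverse = fprod Q a' ∧ Even ((∑ j, a (some j)) * i) := by
      by_cases hodd : Odd i
      · refine ⟨reverse_fprod_of_symm Q hQ0 τ hτ hinv hmon (fun j => h0 _) (hfix hodd) a'
          (by simp [ha']) (fun j => hsym j), ?_⟩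
        exact (even_sum_of_symm Q hQ0 τ hτ hinv (hfix hodd) a hsym).mul_right i
      · have heven : Even i := Nat.not_odd_iff_even.mp hodd
        have hi2 : 2 ≤ i := by
          obtain ⟨c, hc⟩ := heven
          omega
        have hrev : ∀ j, (Q (some j)).reverse = Q (some j) := by
          intro j
          exact reverse_eq_self_of_dvd _ (hQ _).1 (hQ _).2 (h0 _)
            (dvd_reverse_of_star_eq _ (h0 _) (hsd hodd j)) (by rw [hQdeg]; exact hi2)
        exact ⟨reverse_fprod_of_selfrec Q hQ0 hrev a' (by simp [ha']), heven.mul_left _⟩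
    obtain ⟨hWrev, k, hk⟩ := hWrev
    have hfm : (fprod Q a').Monic := monic_prod_of_monic _ _ (fun o _ => (hmon o).pow _)
    have hfdeg : (fprod Q a').natDegree = 2 * k := by
      change (∏ o, Q o ^ a' o).natDegree = 2 * k
      rw [natDegree_prod_pow Q hmon, hsum]
      simp only [ha', Option.elim_none, Option.elim_some, zero_add]
      rw [hk]
      ring
    obtain ⟨gW, hgW1, hgW2⟩ := exists_sp_charpoly p k (fprod Q a') hfm hfdeg hWrev
    have hdvdW : gW.1.charpoly ∣ (X ^ r - 1) ^ (∑ o, a' o) := by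
      rw [hgW1, ← Finset.prod_pow_eq_pow_sum]
      exact Finset.prod_dvd_prod_of_dvd _ _ (fun o _ => pow_dvd_pow_of_dvd (hQdvd o) _)
    have hgWr : gW ^ r = 1 := pow_eq_one_of_charpoly p gW hgW2 r _ hdvdW
    have hcopW : IsCoprime (X - 1 : F[X]) gW.1.charpoly := by
      rw [hgW1, fprod_eq]
      simp only [ha', Option.elim_none, Option.elim_some, pow_zero, one_mul]
      apply IsCoprime.prod_right
      intro j _
      apply IsCoprime.pow_right
      exact isCoprime_X_sub_one_of_irreducible _ (hQ _).1 (hQ _).2 (hne1 j)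
    -- the trivial part has odd dimension
    obtain ⟨m', hm'⟩ : ∃ m', a none = 2 * m' + 1 := ⟨(a none - 1) / 2, by omega⟩
    have hm : m = m' + k := by omega
    obtain ⟨g, hg1, hg2⟩ := exists_orth_odd h2 m m' k hm gW r hrodd hgWr hcopW
    have hg3 : g.1.1.charpoly = fprod Q a := by
      rw [hg2, hsplit, hm', hgW1]
    refine ⟨g, ?_, hg3⟩
    rcases (Nat.dvd_prime hr).mp (orderOf_dvd_of_pow_eq_one hg1) with h1 | h1
    · exfalso
      rw [orderOf_eq_one_iff] at h1
      rw [h1, hone, ← htriv] at hg3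
      exact ha2 (prod_pow_injective Q hQ hinj hg3).symm
    · exact h1
  rw [card_classes_of_invariant (fun g : ↥(Cfsg.isometryGroup F ⇑(oddForm F m)) => orderOf g = r)
    (fun g => g.1.1.charpoly)
    (fun f => ∃ a, Rel a ∧ f = fprod Q a) hiff hPQ hsurj]
  have hcard : Nat.card {f : F[X] // ∃ a, Rel a ∧ f = fprod Q a} = Nat.card {a // Rel a} :=
    card_image_expo Q hQ hinj Rel
  rw [hcard]
  by_cases hodd : Odd i
  · rw [if_pos hodd]
    have h2' : m / i = (2 * m + 1) / (2 * i) := by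
      rw [← Nat.div_div_eq_div_mul]
      congr 1
      omega
    rw [h2', ← card_symm_tuples t i (2 * m + 1) hipos τ hinv (hfix hodd)]
    apply Nat.card_congr
    apply Equiv.subtypeEquivRight
    intro a
    change (∑ o, a o * (Q o).natDegree = 2 * m + 1 ∧ a ≠ triv ∧
      SpX.star (fprod Q a) = fprod Q a) ↔ _
    rw [hsum]
    constructor
    · rintro ⟨h1, h2, h3⟩
      exact ⟨h1, h2, symm_of_star Q hQ0 τ hτ hinv hinj hQ a h3⟩
    · rintro ⟨h1, h2, h3⟩
      exact ⟨h1, h2, star_fprod_of_symm Q hQ0 τ hτ hinv a h3⟩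
  · rw [if_neg hodd, ← card_weighted_ne t i (2 * m + 1) hipos]
    apply Nat.card_congr
    apply Equiv.subtypeEquivRight
    intro a
    change (∑ o, a o * (Q o).natDegree = 2 * m + 1 ∧ a ≠ triv ∧
      SpX.star (fprod Q a) = fprod Q a) ↔ _
    rw [hsum]
    constructor
    · rintro ⟨h1, h2, -⟩
      exact ⟨h1, h2⟩
    · rintro ⟨h1, h2⟩
      exact ⟨h1, h2, star_fprod_of_selfdual Q hQ0 (hsd hodd) a⟩

end Cfsg.Agent.Helper8.OrR
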