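import Mathlib
import Cfsg.Agent.Helper8.OrREvenA
import Cfsg.Agent.Helper8.OrRMainOdd
set_option autoImplicit false

/-! Conjugacy classes of elements of odd prime order `r` in even-dimensional orthogonal groups
over finite fields, in terms of exponent tuples. -/

namespace Cfsg.Agent.Helper8.OrR

open Matrix Polynomial Module
open Cfsg.Agent.Helper8.SpX Cfsg.Agent.Helper8.SpG Cfsg.Agent.Helper8.SemiS
  Cfsg.Agent.Helper8.SpR Cfsg.Agent.Helper8.StdForms Cfsg.Agent.Helper8.OWall
  Cfsg.Agent.Helper8.OrT Cfsg.Agent.Helper8.QuadForm Cfsg.Agent.Helper8.ReflMatrix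

universe v

variable {F : Type v} [Field F] [Fintype F]

omit [Fintype F] in
theorem isCoprime_fprod {t : ℕ} (Q : Option (Fin t) → F[X])
    (hQ : ∀ o, (Q o).Monic ∧ Irreducible (Q o)) (hne1 : ∀ j, Q (some j) ≠ X - 1)
    (a : Option (Fin t) → ℕ) (ha : a none = 0) : IsCoprime (X - 1 : F[X]) (fprod Q a) := by
  rw [fprod_eq, ha, pow_zero, one_mul]
  apply IsCoprime.prod_right
  intro j _
  apply IsCoprime.pow_right
  exact isCoprime_X_sub_one_of_irreducible _ (hQ _).1 (hQ _).2 (hne1 j)

theorem card_classes_even {ι : Type} [Fintype ι] [DecidableEq ι] (p : ℕ) [Fact p.Prime]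
    [CharP F p] (Q₀ : QuadraticForm F (ι → F))
    (hQ₀ : (QuadraticMap.polarBilin Q₀).Nondegenerate) (k₀ : ℕ)
    (hι : Fintype.card ι = 2 * (k₀ + 1)) (ε : ℤ) (hε : ε = 1 ∨ ε = -1) (hν : NuS ε Q₀ k₀)
    (r i t : ℕ) (hr : r.Prime) (hr2 : r ≠ 2) (hrp : r ≠ p)
    (hi : i = orderOf ((Fintype.card F : ℕ) : ZMod r)) (ht : t * i = r - 1) :
    ∃ τ : Fin t → Fin t, Function.Involutive τ ∧ (Odd i → ∀ j, τ j ≠ j) ∧
      (¬ Odd i → ∀ j, τ j = j) ∧
      Nat.card {C : ConjClasses ↥(Cfsg.isometryGroup F ⇑Q₀) //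
        ∃ g : ↥(Cfsg.isometryGroup F ⇑Q₀), ConjClasses.mk g = C ∧ orderOf g = r} =
      Nat.card {a : Option (Fin t) → ℕ // a none + (∑ j, a (some j)) * i = 2 * (k₀ + 1) ∧
        a ≠ (fun o => Option.elim o (2 * (k₀ + 1)) (fun _ => 0)) ∧
        (∀ j, a (some (τ j)) = a (some j)) ∧ (a none = 0 → ε = typ i (∑ j, a (some j)))} := by
  classical
  have hp : p.Prime := Fact.out
  have hQnd : Nondeg Q₀ := (nondeg_iff Q₀).mp hQ₀
  obtain ⟨Q, hinj, hQ, hQ0, hQdeg, hQdvd, hQall⟩ :=
    exists_factors_X_pow_sub_one (F := F) p r hr hrp i t hi ht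
  have hsq := SemiS.squarefree_X_pow_sub_one (F := F) p r hr hrp
  have hmon : ∀ j, (Q j).Monic := fun j => (hQ j).1
  have hipos : 0 < i := by
    rcases Nat.eq_zero_or_pos i with h0 | h0
    · rw [h0, mul_zero] at ht
      have := hr.two_le
      omega
    · exact h0
  have hcop : r.Coprime p := (Nat.coprime_primes hr hp).mpr hrp
  have hrodd : Odd r := hr.odd_of_ne_two hr2
  have hrq : ¬ r ∣ Fintype.card F := by
    intro hd
    obtain ⟨n, hn⟩ := FiniteField.card F p
    rw [hn.2] at hd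
    have := (Nat.prime_dvd_prime_iff_eq hr hp).mp (hr.dvd_of_dvd_pow hd)
    exact hrp this
  have h0 : ∀ o, (Q o).coeff 0 ≠ 0 := fun o => coeff_zero_ne_of_dvd (Q o) r hr.pos (hQdvd o)
  have hfr : finrank F (ι → F) = 2 * (k₀ + 1) := by
    rw [Module.finrank_fintype_fun_eq_card, hι]
  obtain ⟨τ, hτ, hinv⟩ := exists_tau Q r hr.pos hinj hQ hQ0 hQdvd hQall
  have hne1 : ∀ j, Q (some j) ≠ X - 1 := by
    intro j h
    rw [← hQ0] at h
    exact Option.some_ne_none j (hinj h)
  have hfix : Odd i → ∀ j, τ j ≠ j := by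
    intro hodd j hj
    have h1 := hτ j
    rw [hj] at h1
    exact star_ne_self_of_odd (Q (some j)) (hQ _).1 (hQ _).2 r hr hr2 (hQdvd _) (hne1 j)
      (by rw [hQdeg]; exact hodd) h1.symm
  have hsd : ¬ Odd i → ∀ j, SpX.star (Q (some j)) = Q (some j) := by
    intro hodd j
    exact star_eq_self_of_even (Q (some j)) (hQ _).1 (hQ _).2 r hr (hQdvd _) i hi
      (Nat.not_odd_iff_even.mp hodd) hipos
  have hid : ¬ Odd i → ∀ j, τ j = j := by
    intro hodd j
    have h1 := hτ j
    rw [hsd hodd j] at h1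
    exact Option.some_injective _ (hinj h1)
  refine ⟨τ, hinv, hfix, hid, ?_⟩
  let triv : Option (Fin t) → ℕ := fun o => Option.elim o (2 * (k₀ + 1)) (fun _ => 0)
  have htriv : fprod Q triv = (X - 1) ^ (2 * (k₀ + 1)) := by
    rw [fprod_eq]
    simp only [triv, Option.elim_none, Option.elim_some, pow_zero, Finset.prod_const_one, mul_one]
    rw [hQ0]
  have hsum : ∀ a : Option (Fin t) → ℕ,
      ∑ o, a o * (Q o).natDegree = a none + (∑ j, a (some j)) * i := by
    intro a
    rw [Fintype.sum_option, hQ0, Finset.sum_mul]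
    have : (X - 1 : F[X]).natDegree = 1 := by
      have : (X - 1 : F[X]) = X - C 1 := by rw [map_one]
      rw [this, natDegree_X_sub_C]
    rw [this, mul_one]
    congr 1
    apply Finset.sum_congr rfl
    intro j _
    rw [hQdeg j]
  let Rel : (Option (Fin t) → ℕ) → Prop := fun a =>
    a none + (∑ j, a (some j)) * i = 2 * (k₀ + 1) ∧ a ≠ triv ∧
      (∀ j, a (some (τ j)) = a (some j)) ∧ (a none = 0 → ε = typ i (∑ j, a (some j)))
  have hSeven : ∀ a : Option (Fin t) → ℕ, (∀ j, a (some (τ j)) = a (some j)) → Odd i →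
      Even (∑ j, a (some j)) :=
    fun a hsym hodd => even_sum_of_symm Q hQ0 τ hτ hinv (hfix hodd) a hsym
  have hK1 : ∀ g : ↥(Cfsg.isometryGroup F ⇑Q₀), orderOf g = r →
      aeval g.1.1 (X ^ r - 1 : F[X]) = 0 := by
    intro g hg
    apply aeval_orth_of_order
    rw [← hg, pow_orderOf_eq_one]
  have hone : (1 : ↥(Cfsg.isometryGroup F ⇑Q₀)).1.1.charpoly = (X - 1) ^ (2 * (k₀ + 1)) := by
    change (1 : Matrix ι ι F).charpoly = _
    rw [Matrix.charpoly_one, hι]
  have hiff : ∀ g g' : ↥(Cfsg.isometryGroup F ⇑Q₀), orderOf g = r → orderOf g' = r →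
      (IsConj g g' ↔ g.1.1.charpoly = g'.1.1.charpoly) := by
    intro g g' hg hg'
    exact ⟨charpoly_eq_of_isConj_orth _ g g',
      orth_isConj_of_charpoly_eq Q₀ hQ₀ g g' (by rw [hg]; exact hrodd)
        (by rw [hg]; exact hcop) (by rw [hg']; exact hcop)⟩
  have hPQ : ∀ g : ↥(Cfsg.isometryGroup F ⇑Q₀), orderOf g = r →
      ∃ a, Rel a ∧ g.1.1.charpoly = fprod Q a := by
    intro g hg
    obtain ⟨a, ha1, ha2⟩ := expo_of_killed_gen Q (2 * (k₀ + 1)) hι (X ^ r - 1) hsq hQall hmon _
      (hK1 g hg)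
    rw [hsum] at ha2
    have hstar : SpX.star (fprod Q a) = fprod Q a := by
      change SpX.star (∏ o, Q o ^ a o) = ∏ o, Q o ^ a o
      rw [← ha1]
      exact star_charpoly_of_orth Q₀ hQ₀ g
    have hsym := symm_of_star Q hQ0 τ hτ hinv hinj hQ a hstar
    refine ⟨a, ⟨ha2, ?_, hsym, ?_⟩, ha1⟩
    · intro hat
      have h1 : g.1.1.charpoly = (1 : ↥(Cfsg.isometryGroup F ⇑Q₀)).1.1.charpoly := by
        rw [ha1, hone, ← htriv, hat]
        rfl
      have h2 : IsConj g 1 := orth_isConj_of_charpoly_eq Q₀ hQ₀ g 1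
        (by rw [hg]; exact hrodd) (by rw [hg]; exact hcop)
        (by rw [orderOf_one]; exact Nat.coprime_one_left p) h1
      rw [isConj_one_left] at h2
      rw [h2, orderOf_one] at hg
      exact hr.one_lt.ne hg
    · intro ha0
      have hcopg : IsCoprime (X - 1 : F[X]) g.1.1.charpoly := by
        rw [ha1]
        exact isCoprime_fprod Q hQ hne1 a ha0
      set L : (ι → F) ≃ₗ[F] (ι → F) := (isomEquiv Q₀ g).1 with hL
      have hLr : L ^ r = 1 := by
        have h1 : (isomEquiv Q₀ g) ^ r = 1 := by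
          rw [← map_pow, ← hg, pow_orderOf_eq_one, map_one]
        have := congrArg Subtype.val h1
        rw [Subgroup.coe_pow] at this
        exact this
      refine typ_of_isometry k₀ hfr Q₀ hQnd ε hε hν r hr hr2 hrq L (isomEquiv Q₀ g).2 hLr ?_
        i _ hi hipos ?_ (hSeven a hsym)
      · intro v hv
        rw [hL, isomEquiv_apply] at hv
        exact no_fixed_of_coprime _ hcopg v hv
      · rw [← ha2, ha0, zero_add]
  have hsurj : ∀ f : F[X], (∃ a, Rel a ∧ f = fprod Q a) →
      ∃ g : ↥(Cfsg.isometryGroup F ⇑Q₀), orderOf g = r ∧ g.1.1.charpoly = f := by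
    rintro f ⟨a, ⟨ha1, ha2, hsym, ha4⟩, rfl⟩
    set S := ∑ j, a (some j) with hS
    set a' : Option (Fin t) → ℕ := fun o => Option.elim o 0 (fun j => a (some j)) with ha'
    have hsplit : fprod Q a = (X - 1) ^ a none * fprod Q a' := by
      rw [fprod_eq, fprod_eq, hQ0]
      simp only [ha', Option.elim_none, Option.elim_some, pow_zero, one_mul]
    -- even degree and palindromic
    have hWrev : (fprod Q a').reverse = fprod Q a' ∧ Even (S * i) := by
      by_cases hodd : Odd i
      · refine ⟨reverse_fprod_of_symm Q hQ0 τ hτ hinv hmon (fun j => h0 _) (hfix hodd) a'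
          (by simp [ha']) (fun j => hsym j), ?_⟩
        exact (hSeven a hsym hodd).mul_right i
      · have heven : Even i := Nat.not_odd_iff_even.mp hodd
        have hi2 : 2 ≤ i := by
          obtain ⟨c, hc⟩ := heven
          omega
        have hrev : ∀ j, (Q (some j)).reverse = Q (some j) := by
          intro j
          exact reverse_eq_self_of_dvd _ (hQ _).1 (hQ _).2 (h0 _)
            (dvd_reverse_of_star_eq _ (h0 _) (hsd hodd j)) (by rw [hQdeg]; exact hi2)
        exact ⟨reverse_fprod_of_selfrec Q hQ0 hrev a' (by simp [ha']), heven.mul_left _⟩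
    obtain ⟨hWrev, kk, hkk⟩ := hWrev
    -- the nontrivial part is not zero
    have hS0 : S ≠ 0 := by
      intro hS0
      apply ha2
      funext o
      cases o with
      | none =>
        change a none = 2 * (k₀ + 1)
        rw [hS0, zero_mul, add_zero] at ha1
        exact ha1
      | some j =>
        change a (some j) = 0
        have := Finset.sum_eq_zero_iff.mp (hS ▸ hS0) j (Finset.mem_univ _)
        exact this
    obtain ⟨k, rfl⟩ : ∃ k, kk = k + 1 := by
      have : 0 < S * i := Nat.mul_pos (Nat.pos_of_ne_zero hS0) hipos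
      exact ⟨kk - 1, by omega⟩
    have hfm : (fprod Q a').Monic := monic_prod_of_monic _ _ (fun o _ => (hmon o).pow _)
    have hfdeg : (fprod Q a').natDegree = 2 * (k + 1) := by
      change (∏ o, Q o ^ a' o).natDegree = 2 * (k + 1)
      rw [natDegree_prod_pow Q hmon, hsum]
      simp only [ha', Option.elim_none, Option.elim_some, zero_add]
      rw [← hS, hkk]
      ring
    obtain ⟨gW, hgW1, hgW2⟩ := exists_sp_charpoly p (k + 1) (fprod Q a') hfm hfdeg hWrev
    have hdvdW : gW.1.charpoly ∣ (X ^ r - 1) ^ (∑ o, a' o) := by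
      rw [hgW1, ← Finset.prod_pow_eq_pow_sum]
      exact Finset.prod_dvd_prod_of_dvd _ _ (fun o _ => pow_dvd_pow_of_dvd (hQdvd o) _)
    have hgWr : gW ^ r = 1 := pow_eq_one_of_charpoly p gW hgW2 r _ hdvdW
    have hcopW : IsCoprime (X - 1 : F[X]) gW.1.charpoly := by
      rw [hgW1]
      exact isCoprime_fprod Q hQ hne1 a' rfl
    -- the type of invariant forms of the nontrivial part
    have htyp : ∀ QW : QuadraticForm F (Fin (k + 1) ⊕ Fin (k + 1) → F), Nondeg QW →
        (∀ v, QW (spLin gW v) = QW v) → NuS (typ i S) QW k := by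
      intro QW hQW1 hQW2
      have hW : finrank F (Fin (k + 1) ⊕ Fin (k + 1) → F) = 2 * (k + 1) := finrank_plus F (k + 1)
      have hkey : ∀ s : ℤ, (s = 1 ∨ s = -1) → NuS s QW k → NuS (typ i S) QW k := by
        intro s hs1 hs
        have := typ_of_isometry k hW QW hQW1 s hs1 hs r hr hr2 hrq (spLin gW) hQW2
          (by rw [← map_pow, hgWr, map_one])
          (fun v hv => no_fixed_of_coprime _ hcopW v (by rw [← spLin_apply]; exact hv))
          i S hi hipos (by rw [hkk]; ring) (hSeven a hsym)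
        rw [← this]
        exact hs
      rcases dichotomy k hW QW hQW1 with ⟨hp1, -⟩ | ⟨hm1, -⟩
      · exact hkey 1 (Or.inl rfl) hp1
      · exact hkey (-1) (Or.inr rfl) hm1
    have hfin : ∀ g : ↥(Cfsg.isometryGroup F ⇑Q₀), g ^ r = 1 → g.1.1.charpoly = fprod Q a →
        orderOf g = r := by
      intro g hg1 hg3
      rcases (Nat.dvd_prime hr).mp (orderOf_dvd_of_pow_eq_one hg1) with h1 | h1
      · exfalso
        rw [orderOf_eq_one_iff] at h1
        rw [h1, hone, ← htriv] at hg3
        exact ha2 (prod_pow_injective Q hQ hinj hg3).symm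
      · exact h1
    by_cases ha0 : a none = 0
    · -- no eigenvalue one
      have hkk0 : k = k₀ := by
        rw [ha0, zero_add, hkk] at ha1
        omega
      subst hkk0
      have hεt := ha4 ha0
      obtain ⟨g, hg1, hg2⟩ := exists_orth_even_zero Q₀ hQnd k hfr ε hν gW r hrodd hgWr hcopW
        (by rw [hεt]; exact htyp)
      have hg3 : g.1.1.charpoly = fprod Q a := by
        rw [hg2, hsplit, ha0, pow_zero, one_mul, hgW1]
      exact ⟨g, hfin g hg1 hg3, hg3⟩
    · -- eigenvalue one with even multiplicity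
      obtain ⟨k', hk'⟩ : ∃ k', a none = 2 * (k' + 1) := by
        have : Even (a none) := by
          have h1 : Even (2 * (k₀ + 1)) := even_two_mul _
          rw [← ha1, hkk] at h1
          exact (Nat.even_add.mp h1).mpr (Even.add_self (k + 1) |> fun h => by
            rw [two_mul] at *; exact h)
        obtain ⟨c, hc⟩ := this
        exact ⟨c - 1, by omega⟩
      have hk₀ : k₀ = k' + k + 1 := by
        rw [hk', hkk] at ha1
        omega
      have hsU : (ε * typ i S) * typ i S = ε := by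
        rw [mul_assoc, typ_mul_self, mul_one]
      have hsU1 : ε * typ i S = 1 ∨ ε * typ i S = -1 := by
        rcases hε with h | h <;> rcases typ_eq i S with h' | h' <;> rw [h, h'] <;> norm_num
      have hfinal : ∀ (U : Type v) [AddCommGroup U] [Module F U] [FiniteDimensional F U]
          (QU : QuadraticForm F U), Nondeg QU → finrank F U = 2 * (k' + 1) →
          NuS (ε * typ i S) QU k' →
          ∃ g : ↥(Cfsg.isometryGroup F ⇑Q₀), orderOf g = r ∧ g.1.1.charpoly = fprod Q a := by
        intro U _ _ _ QU hU hUdim hUs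
        obtain ⟨g, hg1, hg2⟩ := exists_orth_even_pos Q₀ hQnd QU hU k' hUdim (ε * typ i S) hUs k gW
          r hrodd hgWr hcopW (typ i S) htyp k₀ hk₀ hfr (by rw [hsU]; exact hν)
        have hg3 : g.1.1.charpoly = fprod Q a := by
          rw [hg2, hsplit, hk', hgW1]
        exact ⟨g, hfin g hg1 hg3, hg3⟩
      rcases hsU1 with h | h
      · refine hfinal (Fin (k' + 1) ⊕ Fin (k' + 1) → F) (plusForm F (k' + 1))
          ((nondeg_iff _).mp (plusForm_nondeg F (k' + 1))) (finrank_plus F (k' + 1)) ?_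
        rw [h]
        exact nuS_plusForm k'
      · obtain ⟨ζ, hζ⟩ := exists_irred (F := F)
        refine hfinal ((Fin k' ⊕ Fin k') ⊕ Fin 2 → F) (minusForm F k' 1 ζ)
          ((nondeg_iff _).mp (minusForm_nondeg F k' (aniso_of_irred hζ)))
          (by rw [finrank_minus F k']; ring) ?_
        rw [h]
        exact nuS_minusForm k' 1 ζ (aniso_of_irred hζ)
  rw [card_classes_of_invariant (fun g : ↥(Cfsg.isometryGroup F ⇑Q₀) => orderOf g = r)
    (fun g => g.1.1.charpoly)
    (fun f => ∃ a, Rel a ∧ f = fprod Q a) hiff hPQ hsurj]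
  exact card_image_expo Q hQ hinj Rel

end Cfsg.Agent.Helper8.OrR
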