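import Mathlib
import Cfsg.Agent.Helper8.OrREvenMain
import Cfsg.Agent.Helper8.OrRCount
set_option autoImplicit false

/-! The number of conjugacy classes of elements of odd prime order `r` in `O^±_{2m}(q)`. -/

namespace Cfsg.Agent.Helper8.OrR

open Matrix Polynomial Module
open Cfsg.Agent.Helper8.StdForms Cfsg.Agent.Helper8.OrT Cfsg.Agent.Helper8.QuadForm
  Cfsg.Agent.Helper8.SemiS

universe v

variable {F : Type v} [Field F] [Fintype F]

theorem ne_triv_iff {t : ℕ} (n : ℕ) (a : Option (Fin t) → ℕ) :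
    a ≠ (fun o => Option.elim o n (fun _ => 0)) ↔ ¬ (a none = n ∧ ∑ j, a (some j) = 0) := by
  constructor
  · intro h hc
    apply h
    funext o
    cases o with
    | none => exact hc.1
    | some j =>
      exact Finset.sum_eq_zero_iff.mp hc.2 j (Finset.mem_univ _)
  · intro h hc
    apply h
    rw [hc]
    simp

theorem card_classes_even_formula {ι : Type} [Fintype ι] [DecidableEq ι] (p : ℕ) [Fact p.Prime]
    [CharP F p] (Q₀ : QuadraticForm F (ι → F))
    (hQ₀ : (QuadraticMap.polarBilin Q₀).Nondegenerate) (k₀ : ℕ)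
    (hι : Fintype.card ι = 2 * (k₀ + 1)) (ε : ℤ) (hε : ε = 1 ∨ ε = -1) (hν : NuS ε Q₀ k₀)
    (r i t : ℕ) (hr : r.Prime) (hr2 : r ≠ 2) (hrp : r ≠ p)
    (hi : i = orderOf ((Fintype.card F : ℕ) : ZMod r)) (ht : t * i = r - 1) :
    Nat.card {C : ConjClasses ↥(Cfsg.isometryGroup F ⇑Q₀) //
        ∃ g : ↥(Cfsg.isometryGroup F ⇑Q₀), ConjClasses.mk g = C ∧ orderOf g = r} =
      if Odd i then
        Nat.choose (2 * (k₀ + 1) / (2 * i) + t / 2) (t / 2) - 1
          - (if 2 * i ∣ 2 * (k₀ + 1) ∧ ¬ (ε = 1)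
              then Nat.choose (2 * (k₀ + 1) / (2 * i) + t / 2 - 1) (t / 2 - 1) else 0)
      else
        Nat.choose (2 * (k₀ + 1) / i + t) t - 1
          - (if i ∣ 2 * (k₀ + 1) ∧ ¬ (ε = typ i (2 * (k₀ + 1) / i))
              then Nat.choose (2 * (k₀ + 1) / i + t - 1) (t - 1) else 0) := by
  classical
  obtain ⟨τ, hinv, hfix, hid, hcard⟩ := card_classes_even p Q₀ hQ₀ k₀ hι ε hε hν r i t hr hr2 hrp
    hi ht
  rw [hcard]
  have hr3 : 3 ≤ r := by
    have := hr.two_le
    omega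
  have hipos : 0 < i := by
    rcases Nat.eq_zero_or_pos i with h0 | h0
    · rw [h0, mul_zero] at ht
      omega
    · exact h0
  have htpos : 0 < t := by
    rcases Nat.eq_zero_or_pos t with h0 | h0
    · rw [h0, zero_mul] at ht
      omega
    · exact h0
  by_cases hodd : Odd i
  · rw [if_pos hodd]
    have ht2 : 0 < t / 2 := by
      have hev : Even (t * i) := by
        rw [ht]
        exact Nat.Prime.even_sub_one hr hr2
      have hte : Even t := by
        rcases Nat.even_mul.mp hev with h | h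
        · exact h
        · exact absurd hodd (Nat.not_odd_iff_even.mpr h)
      obtain ⟨c, hc⟩ := hte
      omega
    rw [← card_minus (t / 2) (2 * i) (2 * (k₀ + 1)) (by omega) ht2 (by omega) (fun _ => ε = 1)]
    have e1 : Nat.card {a : Option (Fin t) → ℕ //
        a none + (∑ j, a (some j)) * i = 2 * (k₀ + 1) ∧
        a ≠ (fun o => Option.elim o (2 * (k₀ + 1)) (fun _ => 0)) ∧
        (∀ j, a (some (τ j)) = a (some j)) ∧ (a none = 0 → ε = typ i (∑ j, a (some j)))}
        = Nat.card {a : Option (Fin t) → ℕ // (∀ j, a (some (τ j)) = a (some j)) ∧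
          (fun x S => x + S * i = 2 * (k₀ + 1) ∧ ¬ (x = 2 * (k₀ + 1) ∧ S = 0) ∧ (x = 0 → ε = 1))
            (a none) (∑ j, a (some j))} := by
      apply Nat.card_congr
      apply Equiv.subtypeEquivRight
      intro a
      have htyp : typ i (∑ j, a (some j)) = 1 := by
        unfold typ
        rw [if_pos (Or.inl hodd)]
      rw [htyp, ne_triv_iff]
      tauto
    rw [e1, card_symm_pred t τ hinv (hfix hodd)
      (fun x S => x + S * i = 2 * (k₀ + 1) ∧ ¬ (x = 2 * (k₀ + 1) ∧ S = 0) ∧ (x = 0 → ε = 1))]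
    apply Nat.card_congr
    apply Equiv.subtypeEquivRight
    intro b
    rw [ne_triv_iff]
    have e2 : (2 * ∑ l, b (some l)) * i = (∑ l, b (some l)) * (2 * i) := by ring
    have e3 : (2 * ∑ l, b (some l) = 0) ↔ (∑ l, b (some l) = 0) := by omega
    simp only [e2, e3]
  · rw [if_neg hodd]
    rw [← card_minus t i (2 * (k₀ + 1)) hipos htpos (by omega)
      (fun S => ε = typ i S)]
    apply Nat.card_congr
    apply Equiv.subtypeEquivRight
    intro a
    constructor
    · rintro ⟨h1, h2, -, h4⟩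
      exact ⟨h1, h2, h4⟩
    · rintro ⟨h1, h2, h4⟩
      refine ⟨h1, h2, fun j => ?_, h4⟩
      rw [hid hodd j]

theorem card_order_r_classes_oplus {q : ℕ} (p : ℕ) [Fact p.Prime] [CharP F p]
    (hF : Fintype.card F = q) (m r i t : ℕ) (hm : 1 ≤ m) (hr : r.Prime) (hr2 : r ≠ 2)
    (hrp : r ≠ p) (hi : i = orderOf (q : ZMod r)) (ht : t * i = r - 1) :
    Nat.card {C : ConjClasses ↥(Cfsg.isometryGroup F ⇑(plusForm F m)) //
      ∃ g : ↥(Cfsg.isometryGroup F ⇑(plusForm F m)), ConjClasses.mk g = C ∧ orderOf g = r} =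
      if Odd i then Nat.choose (m / i + t / 2) (t / 2) - 1
      else Nat.choose (2 * m / i + t) t - 1 -
        (if i ∣ 2 * m ∧ Odd (2 * m / i) then Nat.choose (2 * m / i + t - 1) (t - 1) else 0) := by
  subst hF
  obtain ⟨k₀, rfl⟩ : ∃ k₀, m = k₀ + 1 := ⟨m - 1, by omega⟩
  have hι : Fintype.card (Fin (k₀ + 1) ⊕ Fin (k₀ + 1)) = 2 * (k₀ + 1) := by
    simp only [Fintype.card_sum, Fintype.card_fin]
    ring
  rw [card_classes_even_formula p (plusForm F (k₀ + 1)) (plusForm_nondeg F (k₀ + 1)) k₀ hι 1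
    (Or.inl rfl) (nuS_plusForm k₀) r i t hr hr2 hrp hi ht]
  have hipos : 0 < i := by
    rcases Nat.eq_zero_or_pos i with h0 | h0
    · rw [h0, mul_zero] at ht
      have := hr.two_le
      omega
    · exact h0
  by_cases hodd : Odd i
  · rw [if_pos hodd, if_pos hodd, if_neg (by tauto), Nat.sub_zero,
      Nat.mul_div_mul_left (k₀ + 1) i (by norm_num)]
  · rw [if_neg hodd, if_neg hodd]
    congr 1
    have hiff : (i ∣ 2 * (k₀ + 1) ∧ ¬ ((1 : ℤ) = typ i (2 * (k₀ + 1) / i)))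
        ↔ (i ∣ 2 * (k₀ + 1) ∧ Odd (2 * (k₀ + 1) / i)) := by
      unfold typ
      constructor
      · rintro ⟨h1, h2⟩
        refine ⟨h1, ?_⟩
        by_contra h3
        apply h2
        rw [if_pos (Or.inr (Nat.not_odd_iff_even.mp h3))]
      · rintro ⟨h1, h2⟩
        refine ⟨h1, ?_⟩
        rw [if_neg (by
          rintro (h | h)
          · exact hodd h
          · exact (Nat.not_even_iff_odd.mpr h2) h)]
        norm_num
    by_cases hc : i ∣ 2 * (k₀ + 1) ∧ Odd (2 * (k₀ + 1) / i)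
    · rw [if_pos hc, if_pos (hiff.mpr hc)]
    · rw [if_neg hc, if_neg (fun h => hc (hiff.mp h))]

theorem card_order_r_classes_ominus {q : ℕ} (p : ℕ) [Fact p.Prime] [CharP F p]
    (hF : Fintype.card F = q) (m r i t : ℕ) (hm : 1 ≤ m) (a c : F)
    (hac : ∀ z₁ z₂ : F, z₁ ^ 2 + a * z₁ * z₂ + c * z₂ ^ 2 = 0 → z₁ = 0 ∧ z₂ = 0)
    (hr : r.Prime) (hr2 : r ≠ 2)
    (hrp : r ≠ p) (hi : i = orderOf (q : ZMod r)) (ht : t * i = r - 1) :
    Nat.card {C : ConjClasses ↥(Cfsg.isometryGroup F ⇑(minusForm F (m - 1) a c)) //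
      ∃ g : ↥(Cfsg.isometryGroup F ⇑(minusForm F (m - 1) a c)),
        ConjClasses.mk g = C ∧ orderOf g = r} =
      if Odd i then Nat.choose (m / i + t / 2) (t / 2) - 1 -
        (if i ∣ m then Nat.choose (m / i + t / 2 - 1) (t / 2 - 1) else 0)
      else Nat.choose (2 * m / i + t) t - 1 -
        (if i ∣ 2 * m ∧ Even (2 * m / i) then Nat.choose (2 * m / i + t - 1) (t - 1) else 0) := by
  subst hF
  obtain ⟨k₀, rfl⟩ : ∃ k₀, m = k₀ + 1 := ⟨m - 1, by omega⟩
  rw [Nat.add_sub_cancel]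
  have hι : Fintype.card ((Fin k₀ ⊕ Fin k₀) ⊕ Fin 2) = 2 * (k₀ + 1) := by
    simp only [Fintype.card_sum, Fintype.card_fin]
    ring
  rw [card_classes_even_formula p (minusForm F k₀ a c) (minusForm_nondeg F k₀ hac) k₀ hι (-1)
    (Or.inr rfl) (nuS_minusForm k₀ a c hac) r i t hr hr2 hrp hi ht]
  have hipos : 0 < i := by
    rcases Nat.eq_zero_or_pos i with h0 | h0
    · rw [h0, mul_zero] at ht
      have := hr.two_le
      omega
    · exact h0
  by_cases hodd : Odd i
  · rw [if_pos hodd, if_pos hodd, Nat.mul_div_mul_left (k₀ + 1) i (by norm_num)]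
    congr 1
    have hiff : (2 * i ∣ 2 * (k₀ + 1) ∧ ¬ ((-1 : ℤ) = 1)) ↔ i ∣ k₀ + 1 := by
      constructor
      · rintro ⟨h1, -⟩
        exact (Nat.mul_dvd_mul_iff_left (by norm_num)).mp h1
      · intro h
        exact ⟨Nat.mul_dvd_mul_left 2 h, by norm_num⟩
    by_cases hc : i ∣ k₀ + 1
    · rw [if_pos hc, if_pos (hiff.mpr hc)]
    · rw [if_neg hc, if_neg (fun h => hc (hiff.mp h))]
  · rw [if_neg hodd, if_neg hodd]
    congr 1
    have hiff : (i ∣ 2 * (k₀ + 1) ∧ ¬ ((-1 : ℤ) = typ i (2 * (k₀ + 1) / i)))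
        ↔ (i ∣ 2 * (k₀ + 1) ∧ Even (2 * (k₀ + 1) / i)) := by
      unfold typ
      constructor
      · rintro ⟨h1, h2⟩
        refine ⟨h1, ?_⟩
        by_contra h3
        apply h2
        rw [if_neg (by
          rintro (h | h)
          · exact hodd h
          · exact h3 h)]
      · rintro ⟨h1, h2⟩
        refine ⟨h1, ?_⟩
        rw [if_pos (Or.inr h2)]
        norm_num
    by_cases hc : i ∣ 2 * (k₀ + 1) ∧ Even (2 * (k₀ + 1) / i)
    · rw [if_pos hc, if_pos (hiff.mpr hc)]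
    · rw [if_neg hc, if_neg (fun h => hc (hiff.mp h))]

end Cfsg.Agent.Helper8.OrR
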