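import Mathlib
import Cfsg.Agent.Helper1.FrobPCompl2
import Cfsg.Agent.Helper2.SmallOrder
import Cfsg.Agent.Helper2.SylowExact2

set_option autoImplicit false

/-! There is no simple group of order `756 = 2² · 3³ · 7`.

Sketch: every proper subgroup has index at least `9`, so there are `28` self-normalizing
Sylow `3`-subgroups, the normalizer of a subgroup of order `9` has order `27`, and the
normalizer of a subgroup of order `3` centralizes it.  The Frobenius criterion then yields a
normal `3`-complement. -/

namespace Cfsg.Agent.Helper8.Ord756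

open Subgroup

/-- `|X| = |X : R| · |R|` for `R ≤ X`. -/
theorem relIndex_mul_card_of_le {G : Type*} [Group G] {R X : Subgroup G} (h : R ≤ X) :
    R.relIndex X * Nat.card R = Nat.card X := by
  have := relIndex_mul_relIndex ⊥ R X bot_le h
  rw [relIndex_bot_left, relIndex_bot_left] at this
  rw [mul_comm]
  exact this

/-- A subgroup of index two is normalized by the overgroup. -/
theorem card_dvd_card_normalizer_of_index_two {G : Type*} [Group G] (R X : Subgroup G)
    (hRX : R ≤ X) (hR : Nat.card R ≠ 0) (hX : Nat.card X = 2 * Nat.card R) :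
    Nat.card X ∣ Nat.card (normalizer (R : Set G)) := by
  have hidx : (R.subgroupOf X).index = 2 := by
    have h1 := relIndex_mul_card_of_le hRX
    rw [hX] at h1
    exact Nat.eq_of_mul_eq_mul_right (Nat.pos_of_ne_zero hR) h1
  have hn : (R.subgroupOf X).Normal := normal_of_index_eq_two hidx
  have hle : X ≤ normalizer (R : Set G) := (normal_subgroupOf_iff_le_normalizer hRX).mp hn
  exact card_dvd_of_le hle

variable {G : Type*} [Group G] [Finite G] [IsSimpleGroup G]

/-- Proper subgroups have order at most `84`. -/
theorem card_le_of_ne_top (h : Nat.card G = 756) (H : Subgroup G) (hH : H ≠ ⊤) :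
    Nat.card H ≤ 84 := by
  have h1 := Cfsg.Agent.Helper2.SmallOrder.card_dvd_factorial_index H hH
  have h2 := H.card_mul_index
  rw [h] at h1 h2
  by_contra hcon
  push Not at hcon
  have h3 : H.index ≤ 8 := by
    by_contra h4
    push Not at h4
    have : 85 * 9 ≤ Nat.card H * H.index := Nat.mul_le_mul (by omega) (by omega)
    omega
  have h4 : (756 : ℕ) ∣ Nat.factorial 8 := h1.trans (Nat.factorial_dvd_factorial h3)
  revert h4
  decide

omit [Finite G] in
theorem normalizer_ne_top (h : Nat.card G = 756) (T : Subgroup G) (h1 : Nat.card T ≠ 1)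
    (h2 : Nat.card T ≠ 756) : normalizer (T : Set G) ≠ ⊤ := by
  intro htop
  have hn : T.Normal := normalizer_eq_top_iff.mp htop
  rcases hn.eq_bot_or_eq_top with h0 | h0
  · exact h1 (by rw [h0, card_bot])
  · exact h2 (by rw [h0, card_top, h])

omit [IsSimpleGroup G] in
theorem card_sylow3 (h : Nat.card G = 756) [Fact (Nat.Prime 3)] (P : Sylow 3 G) :
    Nat.card P = 27 := by
  have := Cfsg.Agent.Helper2.SylowExact.card_sylow_of_exact_pow (s := 3) (k := 3) (m := 28)
    (by rw [h]; norm_num) (by decide) P
  simpa using this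

theorem card_normalizer_sylow3 (h : Nat.card G = 756) [Fact (Nat.Prime 3)] (P : Sylow 3 G) :
    Nat.card (normalizer ((P : Subgroup G) : Set G)) = 27 := by
  have hP := card_sylow3 h P
  have hne := normalizer_ne_top h (P : Subgroup G) (by rw [hP]; norm_num) (by rw [hP]; norm_num)
  have hle := card_le_of_ne_top h _ hne
  have hmul := Cfsg.Agent.Helper2.SmallOrder.card_normalizer_mul_card_sylow P
  rw [h] at hmul
  have hmod := card_sylow_modEq_one 3 G
  have hdvd : Nat.card (P : Subgroup G) ∣ Nat.card (normalizer ((P : Subgroup G) : Set G)) :=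
    card_dvd_of_le le_normalizer
  rw [hP] at hdvd
  obtain ⟨k, hk⟩ := hdvd
  rw [hk] at hmul hle ⊢
  have hk3 : k ≤ 3 := by omega
  unfold Nat.ModEq at hmod
  have hn : Nat.card (Sylow 3 G) ≤ 756 := by
    rcases Nat.eq_zero_or_pos k with h0 | h0
    · subst h0; omega
    · nlinarith
  interval_cases k
  · omega
  · omega
  · omega
  · omega

/-- No subgroup has order `54`. -/
theorem card_ne_54 (h : Nat.card G = 756) [Fact (Nat.Prime 3)] (H : Subgroup G) :
    Nat.card H ≠ 54 := by
  intro hH
  obtain ⟨K, hK⟩ := Sylow.exists_subgroup_card_pow_prime (G := H) 3 (n := 3)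
    (by rw [hH]; norm_num)
  have hT : Nat.card (K.map H.subtype) = 27 := by
    rw [card_map_of_injective (subtype_injective H)]
    simpa using hK
  have hTH : K.map H.subtype ≤ H := map_subtype_le K
  have hTp : IsPGroup 3 (K.map H.subtype) := IsPGroup.of_card (n := 3) (by rw [hT]; norm_num)
  obtain ⟨P, hTP⟩ := hTp.exists_le_sylow
  have hP := card_sylow3 h P
  have hTP' : K.map H.subtype = (P : Subgroup G) :=
    eq_of_le_of_card_ge hTP (by rw [hT, hP])
  have hN := card_normalizer_sylow3 h P
  have hd := card_dvd_card_normalizer_of_index_two (K.map H.subtype) H hTH (by rw [hT]; norm_num)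
    (by rw [hH, hT])
  rw [hTP', hN, hH] at hd
  omega

/-- The normalizer of a subgroup of order `9` has order `27`. -/
theorem card_normalizer_of_card_nine (h : Nat.card G = 756) [Fact (Nat.Prime 3)] (T : Subgroup G)
    (hT : Nat.card T = 9) : Nat.card (normalizer (T : Set G)) = 27 := by
  have hTp : IsPGroup 3 T := IsPGroup.of_card (n := 2) (by rw [hT]; norm_num)
  obtain ⟨P, hTP⟩ := hTp.exists_le_sylow
  have hP := card_sylow3 h P
  have hidx : (T.subgroupOf P).index = 3 := by
    have h1 := relIndex_mul_card_of_le hTP
    rw [hT, hP] at h1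
    have : T.relIndex P = 3 := by omega
    exact this
  have hn : (T.subgroupOf P).Normal := by
    apply normal_of_index_eq_minFac_card
    rw [hidx, hP]
    norm_num
  have hle : (P : Subgroup G) ≤ normalizer (T : Set G) :=
    (normal_subgroupOf_iff_le_normalizer hTP).mp hn
  have hdvd : Nat.card (P : Subgroup G) ∣ Nat.card (normalizer (T : Set G)) := card_dvd_of_le hle
  rw [hP] at hdvd
  have hne := normalizer_ne_top h T (by omega) (by omega)
  have hle84 := card_le_of_ne_top h _ hne
  have hdvd2 : Nat.card (normalizer (T : Set G)) ∣ 756 := h ▸ card_subgroup_dvd_card _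
  have h54 := card_ne_54 h (normalizer (T : Set G))
  obtain ⟨k, hk⟩ := hdvd
  rw [hk] at hle84 hdvd2 h54 ⊢
  have hk3 : k ≤ 3 := by omega
  interval_cases k
  · omega
  · omega
  · omega
  · norm_num at hdvd2

/-- The normalizer of a subgroup of order `3` centralizes it. -/
theorem normalizer_le_centralizer_of_card_three (h : Nat.card G = 756) [Fact (Nat.Prime 3)]
    (Q : Subgroup G) (hQ : Nat.card Q = 3) :
    normalizer (Q : Set G) ≤ centralizer (Q : Set G) := by
  by_contra hnot
  have hcyc : IsCyclic Q := by
    have : Fact (Nat.card Q).Prime := by rw [hQ]; exact ⟨Nat.prime_three⟩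
    exact isCyclic_of_prime_card rfl
  have hrel := Cfsg.Agent.Helper2.SmallOrder.relIndex_centralizer_normalizer_dvd Q hcyc
  rw [hQ, Nat.totient_prime Nat.prime_three] at hrel
  have hrel1 : (centralizer (Q : Set G)).relIndex (normalizer (Q : Set G)) ≠ 1 := by
    intro h1
    exact hnot (relIndex_eq_one.mp h1)
  have hrel2 : (centralizer (Q : Set G)).relIndex (normalizer (Q : Set G)) = 2 := by
    rcases (Nat.dvd_prime Nat.prime_two).mp hrel with h1 | h1
    · exact absurd h1 hrel1
    · exact h1
  have hCN : centralizer (Q : Set G) ≤ normalizer (Q : Set G) := centralizer_le_normalizer _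
  have hcard := relIndex_mul_card_of_le hCN
  rw [hrel2] at hcard
  -- a subgroup of order 9 containing Q
  obtain ⟨R, hR, hQR⟩ := Sylow.exists_subgroup_card_pow_succ (p := 3) (n := 1)
    (by rw [h]; norm_num) (H := Q) (by rw [hQ]; norm_num)
  have hR9 : Nat.card R = 9 := by rw [hR]; norm_num
  have hRcomm : IsMulCommutative R := IsPGroup.isMulCommutative_of_card_eq_prime_sq (p := 3) hR
  have hRC : R ≤ centralizer (Q : Set G) := by
    intro r hr
    rw [mem_centralizer_iff]
    intro q hq
    have := hRcomm.is_comm.comm (⟨q, hQR hq⟩ : R) ⟨r, hr⟩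
    exact congrArg Subtype.val this
  have hNR := card_normalizer_of_card_nine h R hR9
  have hdvd : Nat.card R ∣ Nat.card (centralizer (Q : Set G)) := card_dvd_of_le hRC
  rw [hR9] at hdvd
  have hne := normalizer_ne_top h Q (by omega) (by omega)
  have hle84 := card_le_of_ne_top h _ hne
  have hdvd2 : Nat.card (normalizer (Q : Set G)) ∣ 756 := h ▸ card_subgroup_dvd_card _
  have h54 := card_ne_54 h (normalizer (Q : Set G))
  have hCpos : 0 < Nat.card (centralizer (Q : Set G)) := Nat.card_pos
  obtain ⟨m, hm⟩ := hdvd
  have hm4 : m ≤ 4 := by omega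
  interval_cases m
  · omega
  · -- |N| = 18
    have hd := card_dvd_card_normalizer_of_index_two R (normalizer (Q : Set G)) (hRC.trans hCN)
      (by omega) (by omega)
    have h18 : Nat.card (normalizer (Q : Set G)) = 18 := by omega
    rw [hNR, h18] at hd
    omega
  · -- |C| = 18
    have hd := card_dvd_card_normalizer_of_index_two R (centralizer (Q : Set G)) hRC
      (by omega) (by omega)
    have h18 : Nat.card (centralizer (Q : Set G)) = 18 := by omega
    rw [hNR, h18] at hd
    omega
  · omega
  · rw [← hcard, hm] at hdvd2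
    norm_num at hdvd2

theorem no_simple (h : Nat.card G = 756) : False := by
  have : Fact (Nat.Prime 3) := ⟨Nat.prime_three⟩
  let P : Sylow 3 G := default
  have hP := card_sylow3 h P
  have hNP := card_normalizer_sylow3 h P
  have key : ∀ Q : Subgroup G, Q ≤ (P : Subgroup G) → ∀ g ∈ normalizer (Q : Set G),
      Nat.Coprime (orderOf g) 3 → g ∈ centralizer (Q : Set G) := by
    intro Q hQP g hg hcop
    have triv : ∀ N : Subgroup G, Nat.card N = 27 → g ∈ N → g ∈ centralizer (Q : Set G) := by
      intro N hN hgN
      have h1 : orderOf g ∣ 3 ^ 3 := by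
        have := Subgroup.orderOf_dvd_natCard N hgN
        rwa [hN] at this
      have h2 : orderOf g = 1 := Nat.Coprime.eq_one_of_dvd (Nat.Coprime.pow_right 3 hcop) h1
      rw [orderOf_eq_one_iff.mp h2]
      exact one_mem _
    have hQd : Nat.card Q ∣ 3 ^ 3 := by
      have := card_dvd_of_le hQP
      rwa [hP] at this
    obtain ⟨k, hk3, hk⟩ := (Nat.dvd_prime_pow Nat.prime_three).mp hQd
    interval_cases k
    · -- Q trivial
      have hQbot : Q = ⊥ := by
        rw [← card_eq_one]
        simpa using hk
      rw [hQbot, mem_centralizer_iff]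
      intro q hq
      have : q = 1 := hq
      rw [this, one_mul, mul_one]
    · exact normalizer_le_centralizer_of_card_three h Q (by simpa using hk) hg
    · exact triv _ (card_normalizer_of_card_nine h Q (by rw [hk]; norm_num)) hg
    · have hQP' : Q = (P : Subgroup G) := eq_of_le_of_card_ge hQP (by rw [hP, hk]; norm_num)
      rw [hQP'] at hg
      exact triv _ hNP hg
  obtain ⟨N, hNn, hNc⟩ := (Cfsg.Agent.Helper1.frobenius_normal_pcomplement_iff P).mpr key
  have hmul := hNc.card_mul_card
  rw [hP, h] at hmul
  rcases hNn.eq_bot_or_eq_top with h0 | h0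
  · rw [h0, card_bot] at hmul
    omega
  · rw [h0, card_top, h] at hmul
    omega

end Cfsg.Agent.Helper8.Ord756
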