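import Mathlib
import Cfsg.Agent.Helper2.SmallOrder
import Cfsg.Agent.Helper2.SylowExact2
import Cfsg.Agent.Helper8.Ord756A

set_option autoImplicit false

/-! There is no simple group of order `1008 = 2⁴ · 3² · 7`, part A: there are `36` Sylow
`7`-subgroups. -/

namespace Cfsg.Agent.Helper8.Ord1008

open Subgroup Cfsg.Agent.Helper8.Ord756

variable {G : Type*} [Group G] [Finite G] [IsSimpleGroup G]

omit [Finite G] in
theorem normalizer_ne_top (h : Nat.card G = 1008) (T : Subgroup G) (h1 : Nat.card T ≠ 1)
    (h2 : Nat.card T ≠ 1008) : normalizer (T : Set G) ≠ ⊤ := by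
  intro htop
  have hn : T.Normal := normalizer_eq_top_iff.mp htop
  rcases hn.eq_bot_or_eq_top with h0 | h0
  · exact h1 (by rw [h0, card_bot])
  · exact h2 (by rw [h0, card_top, h])

omit [IsSimpleGroup G] in
theorem card_sylow7 (h : Nat.card G = 1008) [Fact (Nat.Prime 7)] (P : Sylow 7 G) :
    Nat.card P = 7 := by
  have := Cfsg.Agent.Helper2.SylowExact.card_sylow_of_exact_pow (s := 7) (k := 1) (m := 144)
    (by rw [h]; norm_num) (by decide) P
  simpa using this

omit [IsSimpleGroup G] in
theorem card_sylow2 (h : Nat.card G = 1008) [Fact (Nat.Prime 2)] (S : Sylow 2 G) :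
    Nat.card S = 16 := by
  have := Cfsg.Agent.Helper2.SylowExact.card_sylow_of_exact_pow (s := 2) (k := 4) (m := 63)
    (by rw [h]; norm_num) (by decide) S
  simpa using this

/-- The conjugation action on the Sylow `7`-subgroups is faithful. -/
theorem ker_toPermHom_eq_bot (h : Nat.card G = 1008) [Fact (Nat.Prime 7)] :
    (MulAction.toPermHom G (Sylow 7 G)).ker = ⊥ := by
  rcases (MonoidHom.normal_ker (MulAction.toPermHom G (Sylow 7 G))).eq_bot_or_eq_top with h0 | h0
  · exact h0
  · exfalso
    let P : Sylow 7 G := default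
    have hP := card_sylow7 h P
    apply normalizer_ne_top h (P : Subgroup G) (by rw [hP]; norm_num) (by rw [hP]; norm_num)
    rw [eq_top_iff]
    intro g _
    have hg : g ∈ (MulAction.toPermHom G (Sylow 7 G)).ker := by rw [h0]; trivial
    rw [MonoidHom.mem_ker] at hg
    have := congrArg (fun σ : Equiv.Perm (Sylow 7 G) => σ P) hg
    exact Sylow.smul_eq_iff_mem_normalizer.mp this

omit [IsSimpleGroup G] in
/-- A nontrivial element of a Sylow `7`-subgroup normalizes no other Sylow `7`-subgroup. -/
theorem eq_one_of_smul_eq (h : Nat.card G = 1008) [Fact (Nat.Prime 7)] (P R : Sylow 7 G)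
    (hRP : R ≠ P) (p : G) (hp : p ∈ (P : Subgroup G)) (hfix : p • R = R) : p = 1 := by
  by_contra hne
  have hP := card_sylow7 h P
  have hR := card_sylow7 h R
  have hpN : p ∈ normalizer ((R : Subgroup G) : Set G) := Sylow.smul_eq_iff_mem_normalizer.mp hfix
  have hinf := IsPGroup.inf_normalizer_sylow P.2 R
  have hpPR : p ∈ (P : Subgroup G) ⊓ (R : Subgroup G) := by
    rw [← hinf]
    exact ⟨hp, hpN⟩
  have hd : Nat.card ((P : Subgroup G) ⊓ (R : Subgroup G) : Subgroup G) ∣ 7 := by
    have := card_dvd_of_le (inf_le_left : (P : Subgroup G) ⊓ (R : Subgroup G) ≤ (P : Subgroup G))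
    rwa [hP] at this
  rcases (Nat.dvd_prime (by norm_num : Nat.Prime 7)).mp hd with h1 | h7
  · rw [card_eq_one] at h1
    rw [h1, mem_bot] at hpPR
    exact hne hpPR
  · have hPinf : (P : Subgroup G) ⊓ (R : Subgroup G) = (P : Subgroup G) :=
      eq_of_le_of_card_ge inf_le_left (by rw [h7, hP])
    have hPR : (P : Subgroup G) ≤ (R : Subgroup G) := by
      rw [← hPinf]
      exact inf_le_right
    have : (P : Subgroup G) = (R : Subgroup G) := eq_of_le_of_card_ge hPR (by rw [hP, hR])
    exact hRP (Sylow.ext this.symm)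

/-- There are not exactly eight Sylow `7`-subgroups. -/
theorem card_sylow7_ne_eight (h : Nat.card G = 1008) [Fact (Nat.Prime 7)] :
    Nat.card (Sylow 7 G) ≠ 8 := by
  classical
  intro h8
  let P : Sylow 7 G := default
  have hP := card_sylow7 h P
  have hmul := Cfsg.Agent.Helper2.SmallOrder.card_normalizer_mul_card_sylow P
  rw [h8, h] at hmul
  have hcyc : IsCyclic (P : Subgroup G) := by
    have : Fact (Nat.card (P : Subgroup G)).Prime := by rw [hP]; exact ⟨by norm_num⟩
    exact isCyclic_of_prime_card rfl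
  have hrel := Cfsg.Agent.Helper2.SmallOrder.relIndex_centralizer_normalizer_dvd (P : Subgroup G) hcyc
  rw [hP, Nat.totient_prime (by norm_num : Nat.Prime 7)] at hrel
  have hcard := relIndex_mul_card_of_le (centralizer_le_normalizer ((P : Subgroup G) : Set G))
  have h3 : 3 ∣ Nat.card (centralizer ((P : Subgroup G) : Set G)) := by
    generalize (centralizer ((P : Subgroup G) : Set G)).relIndex
      (normalizer ((P : Subgroup G) : Set G)) = r at hrel hcard
    have hr : r ≤ 6 := Nat.le_of_dvd (by norm_num) hrel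
    interval_cases r <;> omega
  have : Fact (Nat.Prime 3) := ⟨Nat.prime_three⟩
  obtain ⟨⟨y, hyC⟩, hy⟩ := exists_prime_orderOf_dvd_card'
    (G := centralizer ((P : Subgroup G) : Set G)) 3 h3
  rw [Subgroup.orderOf_mk] at hy
  have hyN : y ∈ normalizer ((P : Subgroup G) : Set G) := centralizer_le_normalizer _ hyC
  have hyP : y • P = P := Sylow.smul_eq_iff_mem_normalizer.mpr hyN
  -- a second fixed point of `y`
  have hZ : IsPGroup 3 (zpowers y) :=
    IsPGroup.of_card (n := 1) (by rw [Nat.card_zpowers, hy]; norm_num)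
  have hmod := hZ.card_modEq_card_fixedPoints (Sylow 7 G)
  rw [h8] at hmod
  have hPfix : P ∈ MulAction.fixedPoints (zpowers y) (Sylow 7 G) := by
    rintro ⟨m, hm⟩
    exact Sylow.smul_eq_iff_mem_normalizer.mpr ((zpowers_le.mpr hyN) hm)
  obtain ⟨R, hRfix, hRP⟩ : ∃ R ∈ MulAction.fixedPoints (zpowers y) (Sylow 7 G), R ≠ P := by
    by_contra hcon
    push Not at hcon
    have h1 : Nat.card (MulAction.fixedPoints (zpowers y) (Sylow 7 G)) = 1 := by
      rw [Nat.card_eq_one_iff_unique]
      exact ⟨⟨fun a b => Subtype.ext ((hcon a a.2).trans (hcon b b.2).symm)⟩, ⟨⟨P, hPfix⟩⟩⟩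
    rw [h1] at hmod
    exact absurd hmod (by decide)
  have hyR : y • R = R := hRfix ⟨y, mem_zpowers y⟩
  -- the orbit of `R` under `P` is everything but `P`
  have hval : ∀ p : (P : Subgroup G), (p : G) • R ≠ P := by
    intro p heq
    apply hRP
    have h1 : (p : G)⁻¹ • ((p : G) • R) = (p : G)⁻¹ • P := congrArg _ heq
    rw [inv_smul_smul] at h1
    rw [h1]
    exact Sylow.smul_eq_iff_mem_normalizer.mpr (le_normalizer (inv_mem p.2))
  let f : ↥(P : Subgroup G) → {R' : Sylow 7 G // ¬ (R' = P)} := fun p => ⟨(p : G) • R, hval p⟩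
  have hinj : Function.Injective f := by
    intro p p' hpp
    have h1 : (p : G) • R = (p' : G) • R := congrArg Subtype.val hpp
    have h2 : ((p' : G)⁻¹ * (p : G)) • R = R := by
      rw [mul_smul, h1, inv_smul_smul]
    have h3 := eq_one_of_smul_eq h P R hRP _ (mul_mem (inv_mem p'.2) p.2) h2
    apply Subtype.ext
    have : (p : G) = (p' : G) := by
      have := congrArg (fun z => (p' : G) * z) h3
      simpa using this
    exact this
  have hcardT : Nat.card {R' : Sylow 7 G // ¬ (R' = P)} = 7 := by
    have : Fintype (Sylow 7 G) := Fintype.ofFinite _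
    rw [Nat.card_eq_fintype_card, Fintype.card_subtype_compl, Fintype.card_subtype_eq,
      ← Nat.card_eq_fintype_card, h8]
  have hbij : Function.Bijective f :=
    Function.Injective.bijective_of_nat_card_le hinj (by rw [hcardT, hP])
  have hall : ∀ R' : Sylow 7 G, y • R' = R' := by
    intro R'
    by_cases hR' : R' = P
    · rw [hR']; exact hyP
    · obtain ⟨p, hp⟩ := hbij.2 ⟨R', hR'⟩
      have h1 : (p : G) • R = R' := congrArg Subtype.val hp
      have hcomm : (p : G) * y = y * (p : G) := (mem_centralizer_iff.mp hyC) p p.2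
      rw [← h1, ← mul_smul, ← hcomm, mul_smul, hyR]
  have hker : y ∈ (MulAction.toPermHom G (Sylow 7 G)).ker := by
    rw [MonoidHom.mem_ker]
    apply Equiv.Perm.ext
    intro R'
    exact hall R'
  rw [ker_toPermHom_eq_bot h, mem_bot] at hker
  rw [hker, orderOf_one] at hy
  omega

/-- There are exactly `36` Sylow `7`-subgroups. -/
theorem card_sylow7_eq (h : Nat.card G = 1008) [Fact (Nat.Prime 7)] :
    Nat.card (Sylow 7 G) = 36 := by
  let P : Sylow 7 G := default
  have hP := card_sylow7 h P
  have hdvd := Sylow.card_dvd_index P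
  have hidx : (P : Subgroup G).index = 144 := by
    have := (P : Subgroup G).card_mul_index
    rw [hP, h] at this
    omega
  rw [hidx] at hdvd
  have hmod := card_sylow_modEq_one 7 G
  have hne1 := Cfsg.Agent.Helper2.SmallOrder.card_sylow_ne_one P (by rw [hP]; norm_num)
    (by rw [hP, h]; norm_num)
  have hne8 := card_sylow7_ne_eight h
  unfold Nat.ModEq at hmod
  generalize Nat.card (Sylow 7 G) = n at *
  have hle : n ≤ 144 := Nat.le_of_dvd (by norm_num) hdvd
  interval_cases n <;> omega

theorem card_normalizer_sylow7 (h : Nat.card G = 1008) [Fact (Nat.Prime 7)] (P : Sylow 7 G) :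
    Nat.card (normalizer ((P : Subgroup G) : Set G)) = 28 := by
  have hmul := Cfsg.Agent.Helper2.SmallOrder.card_normalizer_mul_card_sylow P
  rw [card_sylow7_eq h, h] at hmul
  omega

end Cfsg.Agent.Helper8.Ord1008
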