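import Mathlib
import Cfsg.Agent.S3810
import Cfsg.Agent.Helper2.ThompsonTransfer2
import Cfsg.Agent.Helper8.Ord1008A

set_option autoImplicit false

/-! There is no simple group of order `1008 = 2⁴ · 3² · 7`, part B.

The centralizer of a Sylow `7`-subgroup `P` has order `14`; its involution `t` is central in
`N(P)`, which forces `|C(t)| = 28`.  A Sylow `2`-subgroup through `t` has an abelian subgroup
of index two, which contains no conjugate of `t`, so the Thompson transfer lemma yields a
normal subgroup of index two. -/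

namespace Cfsg.Agent.Helper8.Ord1008

open Subgroup Cfsg.Agent.Helper8.Ord756

variable {G : Type*} [Group G] [Finite G] [IsSimpleGroup G]

theorem card_centralizer_sylow7 (h : Nat.card G = 1008) [Fact (Nat.Prime 7)] (P : Sylow 7 G) :
    Nat.card (centralizer ((P : Subgroup G) : Set G)) = 14 := by
  have hP := card_sylow7 h P
  have hN := card_normalizer_sylow7 h P
  have hcyc : IsCyclic (P : Subgroup G) := by
    have : Fact (Nat.card (P : Subgroup G)).Prime := by rw [hP]; exact ⟨by norm_num⟩
    exact isCyclic_of_prime_card rfl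
  have hrel := Cfsg.Agent.Helper2.SmallOrder.relIndex_centralizer_normalizer_dvd (P : Subgroup G) hcyc
  rw [hP, Nat.totient_prime (by norm_num : Nat.Prime 7)] at hrel
  have hcard := relIndex_mul_card_of_le (centralizer_le_normalizer ((P : Subgroup G) : Set G))
  rw [hN] at hcard
  have hr1 : (centralizer ((P : Subgroup G) : Set G)).relIndex
      (normalizer ((P : Subgroup G) : Set G)) ≠ 1 := by
    intro h1
    have hle : normalizer ((P : Subgroup G) : Set G) ≤ centralizer ((P : Subgroup G) : Set G) :=
      relIndex_eq_one.mp h1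
    have hcomp := MonoidHom.ker_transferSylow_isComplement' P hle
    have hmul := hcomp.card_mul_card
    rw [hP, h] at hmul
    rcases (MonoidHom.normal_ker (MonoidHom.transferSylow P hle)).eq_bot_or_eq_top with h0 | h0
    · rw [h0, card_bot] at hmul
      omega
    · rw [h0, card_top, h] at hmul
      omega
  generalize (centralizer ((P : Subgroup G) : Set G)).relIndex
    (normalizer ((P : Subgroup G) : Set G)) = r at hrel hcard hr1
  have hr : r ≤ 6 := Nat.le_of_dvd (by norm_num) hrel
  interval_cases r <;> omega

/-- The involution centralizing a Sylow `7`-subgroup is centralized by its normalizer. -/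
theorem exists_involution (h : Nat.card G = 1008) [Fact (Nat.Prime 7)] (P : Sylow 7 G) :
    ∃ t : G, orderOf t = 2 ∧ normalizer ((P : Subgroup G) : Set G) ≤ centralizer ({t} : Set G) := by
  have hP := card_sylow7 h P
  have hC := card_centralizer_sylow7 h P
  have : Fact (Nat.Prime 2) := ⟨Nat.prime_two⟩
  obtain ⟨⟨t, htC⟩, ht⟩ := exists_prime_orderOf_dvd_card'
    (G := centralizer ((P : Subgroup G) : Set G)) 2 (by rw [hC]; norm_num)
  rw [Subgroup.orderOf_mk] at ht
  refine ⟨t, ht, ?_⟩
  have htt : t * t = 1 := by
    have := pow_orderOf_eq_one t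
    rwa [ht, pow_two] at this
  have hcyc : IsCyclic (P : Subgroup G) := by
    have : Fact (Nat.card (P : Subgroup G)).Prime := by rw [hP]; exact ⟨by norm_num⟩
    exact isCyclic_of_prime_card rfl
  have hPC : (P : Subgroup G) ≤ centralizer ((P : Subgroup G) : Set G) :=
    le_centralizer_iff_isMulCommutative.mpr IsCyclic.isMulCommutative
  have hidx : ((P : Subgroup G).subgroupOf (centralizer ((P : Subgroup G) : Set G))).index = 2 := by
    have h1 := relIndex_mul_card_of_le hPC
    rw [hP, hC] at h1
    have : (P : Subgroup G).relIndex (centralizer ((P : Subgroup G) : Set G)) = 2 := by omega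
    exact this
  have hnotP : ∀ s : G, orderOf s = 2 → s ∉ (P : Subgroup G) := by
    intro s hs hsP
    have := Subgroup.orderOf_dvd_natCard _ hsP
    rw [hs, hP] at this
    omega
  intro n hn
  rw [mem_centralizer_singleton_iff]
  have ht'C : n * t * n⁻¹ ∈ centralizer ((P : Subgroup G) : Set G) := by
    rw [mem_centralizer_iff]
    intro q hq
    have hq' : n⁻¹ * q * n ∈ (P : Subgroup G) := (mem_normalizer_iff''.mp hn q).mp hq
    have h1 := (mem_centralizer_iff.mp htC) (n⁻¹ * q * n) hq'
    calc q * (n * t * n⁻¹) = n * ((n⁻¹ * q * n) * t) * n⁻¹ := by group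
      _ = n * (t * (n⁻¹ * q * n)) * n⁻¹ := by rw [h1]
      _ = n * t * n⁻¹ * q := by group
  have ht'2 : (n * t * n⁻¹) * (n * t * n⁻¹) = 1 := by
    calc (n * t * n⁻¹) * (n * t * n⁻¹) = n * (t * t) * n⁻¹ := by group
      _ = 1 := by rw [htt]; group
  have ht'P : n * t * n⁻¹ ∉ (P : Subgroup G) := by
    intro hmem
    have h1 : n⁻¹ * (n * t * n⁻¹) * n ∈ (P : Subgroup G) := (mem_normalizer_iff''.mp hn _).mp hmem
    have h2 : n⁻¹ * (n * t * n⁻¹) * n = t := by group
    rw [h2] at h1
    exact hnotP t ht h1
  have hprod : t * (n * t * n⁻¹) ∈ (P : Subgroup G) := by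
    have := (mul_mem_iff_of_index_two hidx
      (a := (⟨t, htC⟩ : centralizer ((P : Subgroup G) : Set G)))
      (b := (⟨n * t * n⁻¹, ht'C⟩ : centralizer ((P : Subgroup G) : Set G)))).mpr
      ⟨fun h1 => absurd (mem_subgroupOf.mp h1) (hnotP t ht),
        fun h1 => absurd (mem_subgroupOf.mp h1) ht'P⟩
    exact mem_subgroupOf.mp this
  set p := t * (n * t * n⁻¹) with hp
  have hcomm : p * t = t * p := (mem_centralizer_iff.mp htC) p hprod
  have ht' : n * t * n⁻¹ = t * p := by
    rw [hp, ← mul_assoc, htt, one_mul]
  have hpp : p * p = 1 := by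
    have h1 : (t * p) * (t * p) = 1 := by rw [← ht']; exact ht'2
    calc p * p = (t * t) * (p * p) := by rw [htt, one_mul]
      _ = t * (t * p) * p := by group
      _ = t * (p * t) * p := by rw [hcomm]
      _ = (t * p) * (t * p) := by group
      _ = 1 := h1
  have hp1 : p = 1 := by
    have h1 : orderOf p ∣ 2 := orderOf_dvd_of_pow_eq_one (by rw [pow_two]; exact hpp)
    have h2 : orderOf p ∣ 7 := by
      have := Subgroup.orderOf_dvd_natCard _ hprod
      rwa [hP] at this
    have h3 : orderOf p ∣ Nat.gcd 2 7 := Nat.dvd_gcd h1 h2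
    have h4 : orderOf p = 1 := by
      have : Nat.gcd 2 7 = 1 := by norm_num
      rw [this] at h3
      exact Nat.dvd_one.mp h3
    exact orderOf_eq_one_iff.mp h4
  rw [hp1, mul_one] at ht'
  calc n * t = (n * t * n⁻¹) * n := by group
    _ = t * n := by rw [ht']

/-- The involution of the previous lemma has a centralizer of order `28`. -/
theorem card_centralizer_involution (h : Nat.card G = 1008) [Fact (Nat.Prime 7)] (P : Sylow 7 G)
    (t : G) (ht : orderOf t = 2)
    (hN : normalizer ((P : Subgroup G) : Set G) ≤ centralizer ({t} : Set G)) :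
    Nat.card (centralizer ({t} : Set G)) = 28 := by
  have hP := card_sylow7 h P
  have hNP := card_normalizer_sylow7 h P
  have hPC : (P : Subgroup G) ≤ centralizer ({t} : Set G) := le_normalizer.trans hN
  have e1 : Nat.card (Sylow 7 (centralizer ({t} : Set G))) =
      (normalizer (((P.subtype hPC : Sylow 7 (centralizer ({t} : Set G))) :
        Subgroup (centralizer ({t} : Set G))) : Set (centralizer ({t} : Set G)))).index :=
    Sylow.card_eq_index_normalizer (P.subtype hPC)
  rw [Sylow.coe_subtype, ← subgroupOf_normalizer_eq hPC] at e1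
  have e2 := relIndex_mul_card_of_le hN
  rw [hNP] at e2
  have hmod := card_sylow_modEq_one 7 (centralizer ({t} : Set G))
  rw [e1] at hmod
  have hdvd : Nat.card (centralizer ({t} : Set G)) ∣ 1008 := h ▸ card_subgroup_dvd_card _
  have hne : Nat.card (centralizer ({t} : Set G)) ≠ 1008 := by
    intro hcard
    have htop : centralizer ({t} : Set G) = ⊤ := by
      apply eq_top_of_card_eq
      rw [hcard, h]
    have hcen : zpowers t ≤ center G := by
      rw [zpowers_le, mem_center_iff]
      intro g
      have : g ∈ centralizer ({t} : Set G) := by rw [htop]; trivial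
      exact mem_centralizer_singleton_iff.mp this
    have hn : (zpowers t).Normal := by
      refine ⟨fun x hx g => ?_⟩
      have h1 := mem_center_iff.mp (hcen hx) g
      have h2 : g * x * g⁻¹ = x := by rw [h1]; group
      rw [h2]
      exact hx
    have hc : Nat.card (zpowers t) = 2 := by rw [Nat.card_zpowers, ht]
    rcases hn.eq_bot_or_eq_top with h0 | h0
    · rw [h0, card_bot] at hc
      omega
    · rw [h0, card_top, h] at hc
      omega
  change (normalizer ((P : Subgroup G) : Set G)).relIndex (centralizer ({t} : Set G)) ≡ 1 [MOD 7]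
    at hmod
  unfold Nat.ModEq at hmod
  generalize (normalizer ((P : Subgroup G) : Set G)).relIndex (centralizer ({t} : Set G)) = r
    at hmod e2
  rw [← e2] at hdvd hne ⊢
  have hr : r ≤ 36 := by
    have := Nat.le_of_dvd (by norm_num) hdvd
    omega
  interval_cases r <;> omega

theorem no_simple (h : Nat.card G = 1008) : False := by
  have : Fact (Nat.Prime 7) := ⟨by norm_num⟩
  have : Fact (Nat.Prime 2) := ⟨Nat.prime_two⟩
  let P : Sylow 7 G := default
  obtain ⟨t, ht, hNt⟩ := exists_involution h P
  have hCt := card_centralizer_involution h P t ht hNt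
  have hZ : IsPGroup 2 (zpowers t) :=
    IsPGroup.of_card (n := 1) (by rw [Nat.card_zpowers, ht]; norm_num)
  obtain ⟨S, hS⟩ := hZ.exists_le_sylow
  have htS : t ∈ (S : Subgroup G) := hS (mem_zpowers t)
  have hScard := card_sylow2 h S
  -- no subgroup of order divisible by 8 centralizes a conjugate of `t`
  have key : ∀ (Q : Subgroup G) (g : G), 8 ∣ Nat.card Q →
      (∀ q ∈ Q, q * (g * t * g⁻¹) = (g * t * g⁻¹) * q) → False := by
    intro Q g hQ hcomm
    have hle : Q.map (MulAut.conj g⁻¹).toMonoidHom ≤ centralizer ({t} : Set G) := by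
      rintro _ ⟨q, hq, rfl⟩
      rw [mem_centralizer_singleton_iff]
      have h1 := hcomm q hq
      simp only [MulEquiv.coe_toMonoidHom, MulAut.conj_apply, inv_inv]
      calc g⁻¹ * q * g * t = g⁻¹ * (q * (g * t * g⁻¹)) * g := by group
        _ = g⁻¹ * ((g * t * g⁻¹) * q) * g := by rw [h1]
        _ = t * (g⁻¹ * q * g) := by group
    have hcard : Nat.card (Q.map (MulAut.conj g⁻¹).toMonoidHom) = Nat.card Q :=
      card_map_of_injective (MulAut.conj g⁻¹).injective
    have := card_dvd_of_le hle
    rw [hcard, hCt] at this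
    have := hQ.trans this
    omega
  have hna : center (S : Subgroup G) ≠ ⊤ := by
    intro htop
    apply key (S : Subgroup G) 1 (by rw [hScard]; norm_num)
    intro q hq
    have h1 : (⟨q, hq⟩ : (S : Subgroup G)) ∈ center (S : Subgroup G) := by rw [htop]; trivial
    have h2 := mem_center_iff.mp h1 ⟨t, htS⟩
    have h3 : t * q = q * t := congrArg Subtype.val h2
    rw [one_mul, inv_one, mul_one]
    exact h3.symm
  obtain ⟨A, hAc, hAi⟩ := Cfsg.Agent.S3810.exists_abelian_of_card (S := (S : Subgroup G)) 2
    (by rw [hScard]; norm_num) hna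
  have hAcard : Nat.card A = 8 := by
    have := A.card_mul_index
    rw [hAi, hScard] at this
    omega
  have hQcard : Nat.card (A.map (S : Subgroup G).subtype) = 8 := by
    rw [card_map_of_injective (subtype_injective _), hAcard]
  have hQS : A.map (S : Subgroup G).subtype ≤ (S : Subgroup G) := map_subtype_le A
  have hrel : (A.map (S : Subgroup G).subtype).relIndex (S : Subgroup G) = 2 := by
    have := relIndex_mul_card_of_le hQS
    rw [hQcard, hScard] at this
    omega
  have hQcomm : ∀ a ∈ A.map (S : Subgroup G).subtype, ∀ b ∈ A.map (S : Subgroup G).subtype,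
      a * b = b * a := by
    rintro _ ⟨a, ha, rfl⟩ _ ⟨b, hb, rfl⟩
    have h1 := hAc.is_comm.comm (⟨a, ha⟩ : A) ⟨b, hb⟩
    exact congrArg (fun x : A => ((x : (S : Subgroup G)) : G)) h1
  rcases Cfsg.Agent.Helper2.thompson_transfer_classical S (A.map (S : Subgroup G).subtype) hrel t ht
    with ⟨M, hMn, hMi, _⟩ | ⟨g, hg⟩
  · have := hMn
    exact Cfsg.Agent.Helper2.SmallOrder.false_of_normal_index M (by rw [hMi]; norm_num)
      (by rw [hMi, h]; norm_num)
  · exact key _ g (by rw [hQcard]) (fun q hq => hQcomm q hq _ hg)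

end Cfsg.Agent.Helper8.Ord1008
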