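import Mathlib
import Cfsg.Agent.Helper2.SmallOrder
import Cfsg.Agent.Helper2.SylowExact2
import Cfsg.Agent.Helper8.Ord756A
import Cfsg.Agent.Helper8.SylAct

set_option autoImplicit false

/-! No simple group of order `1440 = 2⁵ · 3² · 5`, part A: there are `36` Sylow
`5`-subgroups. -/

namespace Cfsg.Agent.Helper8.Ord1440

open Subgroup MulAction Cfsg.Agent.Helper8.Ord756 Cfsg.Agent.Helper8.SylAct

variable {G : Type*} [Group G] [Finite G] [IsSimpleGroup G]

/-- Proper subgroups have order at most `180`. -/
theorem card_le_of_ne_top (h : Nat.card G = 1440) (H : Subgroup G) (hH : H ≠ ⊤) :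
    Nat.card H ≤ 180 := by
  have h1 := Cfsg.Agent.Helper2.SmallOrder.card_dvd_factorial_index H hH
  have h2 := H.card_mul_index
  rw [h] at h1 h2
  by_contra hcon
  push Not at hcon
  have h3 : H.index ≤ 7 := by
    by_contra h4
    push Not at h4
    have : 181 * 8 ≤ Nat.card H * H.index := Nat.mul_le_mul (by omega) (by omega)
    omega
  have h4 : (1440 : ℕ) ∣ Nat.factorial 7 := h1.trans (Nat.factorial_dvd_factorial h3)
  revert h4
  decide

omit [Finite G] in
theorem normalizer_ne_top (h : Nat.card G = 1440) (T : Subgroup G) (h1 : Nat.card T ≠ 1)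
    (h2 : Nat.card T ≠ 1440) : normalizer (T : Set G) ≠ ⊤ := by
  intro htop
  have hn : T.Normal := normalizer_eq_top_iff.mp htop
  rcases hn.eq_bot_or_eq_top with h0 | h0
  · exact h1 (by rw [h0, card_bot])
  · exact h2 (by rw [h0, card_top, h])

omit [IsSimpleGroup G] in
theorem card_sylow5 (h : Nat.card G = 1440) [Fact (Nat.Prime 5)] (P : Sylow 5 G) :
    Nat.card P = 5 := by
  have := Cfsg.Agent.Helper2.SylowExact.card_sylow_of_exact_pow (s := 5) (k := 1) (m := 288)
    (by rw [h]; norm_num) (by decide) P
  simpa using this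

theorem sylow5_normalizer_ne_top (h : Nat.card G = 1440) [Fact (Nat.Prime 5)] (P : Sylow 5 G) :
    normalizer ((P : Subgroup G) : Set G) ≠ ⊤ :=
  normalizer_ne_top h (P : Subgroup G) (by rw [card_sylow5 h P]; norm_num)
    (by rw [card_sylow5 h P]; norm_num)

/-- The centralizer of a Sylow `5`-subgroup is a proper subgroup of its normalizer. -/
theorem not_normalizer_le_centralizer (h : Nat.card G = 1440) [Fact (Nat.Prime 5)]
    (P : Sylow 5 G) :
    ¬ normalizer ((P : Subgroup G) : Set G) ≤ centralizer ((P : Subgroup G) : Set G) := by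
  intro hle
  have hP := card_sylow5 h P
  have hcomp := MonoidHom.ker_transferSylow_isComplement' P hle
  have hmul := hcomp.card_mul_card
  rw [hP, h] at hmul
  rcases (MonoidHom.normal_ker (MonoidHom.transferSylow P hle)).eq_bot_or_eq_top with h0 | h0
  · rw [h0, card_bot] at hmul
    omega
  · rw [h0, card_top, h] at hmul
    omega

omit [IsSimpleGroup G] in
/-- `|N(P) : C(P)|` divides four. -/
theorem relIndex_dvd_four (h : Nat.card G = 1440) [Fact (Nat.Prime 5)] (P : Sylow 5 G) :
    (centralizer ((P : Subgroup G) : Set G)).relIndex (normalizer ((P : Subgroup G) : Set G)) ∣ 4 := by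
  have hP := card_sylow5 h P
  have hcyc : IsCyclic (P : Subgroup G) := by
    have : Fact (Nat.card (P : Subgroup G)).Prime := by rw [hP]; exact ⟨by norm_num⟩
    exact isCyclic_of_prime_card rfl
  have hrel := Cfsg.Agent.Helper2.SmallOrder.relIndex_centralizer_normalizer_dvd (P : Subgroup G) hcyc
  rwa [hP, Nat.totient_prime (by norm_num : Nat.Prime 5)] at hrel

/-- The number of Sylow `5`-subgroups is `16` or `36`. -/
theorem card_sylow5_eq (h : Nat.card G = 1440) [Fact (Nat.Prime 5)] :
    Nat.card (Sylow 5 G) = 16 ∨ Nat.card (Sylow 5 G) = 36 := by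
  let P : Sylow 5 G := default
  have hP := card_sylow5 h P
  have hdvd := Sylow.card_dvd_index P
  have hidx : (P : Subgroup G).index = 288 := by
    have := (P : Subgroup G).card_mul_index
    rw [hP, h] at this
    omega
  rw [hidx] at hdvd
  have hmod := card_sylow_modEq_one 5 G
  have hmul := Cfsg.Agent.Helper2.SmallOrder.card_normalizer_mul_card_sylow P
  rw [h] at hmul
  have hle := card_le_of_ne_top h _ (sylow5_normalizer_ne_top h P)
  have hrel := relIndex_dvd_four h P
  have hcard := relIndex_mul_card_of_le (centralizer_le_normalizer ((P : Subgroup G) : Set G))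
  have hr1 : (centralizer ((P : Subgroup G) : Set G)).relIndex
      (normalizer ((P : Subgroup G) : Set G)) ≠ 1 := fun h1 =>
    not_normalizer_le_centralizer h P (relIndex_eq_one.mp h1)
  have hPC : Nat.card (P : Subgroup G) ∣ Nat.card (centralizer ((P : Subgroup G) : Set G)) := by
    apply card_dvd_of_le
    have hcyc : IsCyclic (P : Subgroup G) := by
      have : Fact (Nat.card (P : Subgroup G)).Prime := by rw [hP]; exact ⟨by norm_num⟩
      exact isCyclic_of_prime_card rfl
    exact le_centralizer_iff_isMulCommutative.mpr IsCyclic.isMulCommutative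
  rw [hP] at hPC
  obtain ⟨c, hc⟩ := hPC
  unfold Nat.ModEq at hmod
  generalize (centralizer ((P : Subgroup G) : Set G)).relIndex
    (normalizer ((P : Subgroup G) : Set G)) = r at hrel hcard hr1
  have hr : r ≤ 4 := Nat.le_of_dvd (by norm_num) hrel
  generalize Nat.card (Sylow 5 G) = n at *
  have hn : n ≤ 288 := Nat.le_of_dvd (by norm_num) hdvd
  have hn8 : 8 ≤ n := by
    by_contra hlt
    push Not at hlt
    have : Nat.card (normalizer ((P : Subgroup G) : Set G)) * n ≤ 180 * 7 :=
      Nat.mul_le_mul hle (by omega)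
    omega
  -- n ∈ {16, 36, 96}
  have h3 : n = 16 ∨ n = 36 ∨ n = 96 := by
    interval_cases n <;> omega
  rcases h3 with h3 | h3 | h3
  · exact Or.inl h3
  · exact Or.inr h3
  · exfalso
    subst h3
    have hN15 : Nat.card (normalizer ((P : Subgroup G) : Set G)) = 15 := by omega
    rw [hN15, hc] at hcard
    interval_cases r
    · omega
    · omega
    · omega
    · omega
    · omega

/-- `n_5 = 16` is impossible. -/
theorem card_sylow5_ne_sixteen (h : Nat.card G = 1440) [Fact (Nat.Prime 5)] :
    Nat.card (Sylow 5 G) ≠ 16 := by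
  intro h16
  let P : Sylow 5 G := default
  have hP := card_sylow5 h P
  have hNtop := sylow5_normalizer_ne_top h P
  have hmul := Cfsg.Agent.Helper2.SmallOrder.card_normalizer_mul_card_sylow P
  rw [h16, h] at hmul
  have hN : Nat.card (normalizer ((P : Subgroup G) : Set G)) = 90 := by omega
  have hrel := relIndex_dvd_four h P
  have hcard := relIndex_mul_card_of_le (centralizer_le_normalizer ((P : Subgroup G) : Set G))
  rw [hN] at hcard
  have hr1 : (centralizer ((P : Subgroup G) : Set G)).relIndex
      (normalizer ((P : Subgroup G) : Set G)) ≠ 1 := fun h1 =>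
    not_normalizer_le_centralizer h P (relIndex_eq_one.mp h1)
  have hC : Nat.card (centralizer ((P : Subgroup G) : Set G)) = 45 := by
    generalize (centralizer ((P : Subgroup G) : Set G)).relIndex
      (normalizer ((P : Subgroup G) : Set G)) = r at hrel hcard hr1
    have hr : r ≤ 4 := Nat.le_of_dvd (by norm_num) hrel
    interval_cases r <;> omega
  -- the centralizer acts freely off `P`
  have hfree : ∀ a ∈ centralizer ((P : Subgroup G) : Set G), ∀ R : Sylow 5 G, R ≠ P →
      a • R = R → a = 1 := by
    intro a ha R hRP haR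
    have hpow : ∀ k : ℕ, a ^ k • R = R := by
      intro k
      induction k with
      | zero => rw [pow_zero, one_smul]
      | succ k ih => rw [pow_succ, mul_smul, haR, ih]
    have ha45 : a ^ 45 = 1 := by
      have := Subgroup.orderOf_dvd_natCard _ ha
      rw [hC] at this
      exact orderOf_dvd_iff_pow_eq_one.mp this
    -- the `5`-part is trivial
    have ha9 : a ^ 9 = 1 := by
      apply eq_one_of_smul_eq P R hP hRP _ _ (hpow 9)
      have hZ : IsPGroup 5 (zpowers (a ^ 9)) := by
        have hd : orderOf (a ^ 9) ∣ 5 ^ 1 := by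
          apply orderOf_dvd_of_pow_eq_one
          rw [← pow_mul]
          exact ha45
        obtain ⟨k, -, hk⟩ := (Nat.dvd_prime_pow (by norm_num : Nat.Prime 5)).mp hd
        exact IsPGroup.of_card (n := k) (by rw [Nat.card_zpowers, hk])
      have hinf : zpowers (a ^ 9) ⊓ normalizer ((P : Subgroup G) : Set G) =
          zpowers (a ^ 9) ⊓ (P : Subgroup G) := IsPGroup.inf_normalizer_sylow hZ P
      have hmem : a ^ 9 ∈ zpowers (a ^ 9) ⊓ normalizer ((P : Subgroup G) : Set G) :=
        ⟨mem_zpowers _, centralizer_le_normalizer _ (pow_mem ha 9)⟩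
      rw [hinf] at hmem
      exact hmem.2
    have hK3 : IsPGroup 3 (zpowers a) := by
      have hd : orderOf a ∣ 3 ^ 2 := orderOf_dvd_of_pow_eq_one ha9
      obtain ⟨k, -, hk⟩ := (Nat.dvd_prime_pow Nat.prime_three).mp hd
      exact IsPGroup.of_card (n := k) (by rw [Nat.card_zpowers, hk])
    have : Fact (Nat.Prime 3) := ⟨Nat.prime_three⟩
    have hm3 := hK3.card_modEq_card_fixedPoints (Sylow 5 G)
    rw [h16] at hm3
    have hm5 := card_fixedPoints_sylow_modEq_one P (zpowers a) (zpowers_le.mpr ha)
    have hPfix : P ∈ fixedPoints (zpowers a) (Sylow 5 G) := by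
      rintro ⟨m, hm⟩
      exact Sylow.smul_eq_iff_mem_normalizer.mpr
        (centralizer_le_normalizer _ ((zpowers_le.mpr ha) hm))
    have hRfix : R ∈ fixedPoints (zpowers a) (Sylow 5 G) := by
      rintro ⟨m, hm⟩
      obtain ⟨k, rfl⟩ := mem_zpowers_iff.mp hm
      change a ^ k • R = R
      have : a ^ k ∈ stabilizer G R := zpow_mem (mem_stabilizer_iff.mpr haR) k
      exact mem_stabilizer_iff.mp this
    have hle16 : Nat.card (fixedPoints (zpowers a) (Sylow 5 G)) ≤ 16 := by
      rw [← h16]
      exact Nat.card_le_card_of_injective _ Subtype.val_injective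
    have hge2 : 2 ≤ Nat.card (fixedPoints (zpowers a) (Sylow 5 G)) := by
      have : Nontrivial (fixedPoints (zpowers a) (Sylow 5 G)) :=
        ⟨⟨⟨R, hRfix⟩, ⟨P, hPfix⟩, fun heq => hRP (congrArg Subtype.val heq)⟩⟩
      exact Finite.one_lt_card
    have hcard16 : Nat.card (fixedPoints (zpowers a) (Sylow 5 G)) = 16 := by
      unfold Nat.ModEq at hm3 hm5
      generalize Nat.card (fixedPoints (zpowers a) (Sylow 5 G)) = f at *
      interval_cases f <;> omega
    have hbij : Function.Bijective
        (Subtype.val : fixedPoints (zpowers a) (Sylow 5 G) → Sylow 5 G) :=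
      Function.Injective.bijective_of_nat_card_le Subtype.val_injective (by rw [hcard16, h16])
    apply eq_one_of_forall_smul_eq P hNtop a
    intro R'
    obtain ⟨⟨R'', hR''⟩, rfl⟩ := hbij.2 R'
    exact hR'' ⟨a, mem_zpowers a⟩
  -- hence `45 ≤ 16`
  obtain ⟨R, hRP⟩ : ∃ R : Sylow 5 G, R ≠ P := by
    by_contra hcon
    push Not at hcon
    have : Nat.card (Sylow 5 G) = 1 := by
      rw [Nat.card_eq_one_iff_unique]
      exact ⟨⟨fun a b => (hcon a).trans (hcon b).symm⟩, ⟨P⟩⟩
    omega
  have hinj : Function.Injective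
      (fun a : centralizer ((P : Subgroup G) : Set G) => (a : G) • R) := by
    intro a b hab
    have h1 : (a : G) • R = (b : G) • R := hab
    have h2 : ((b : G)⁻¹ * (a : G)) • R = R := by rw [mul_smul, h1, inv_smul_smul]
    have h3 := hfree _ (mul_mem (inv_mem b.2) a.2) R hRP h2
    apply Subtype.ext
    have := congrArg (fun z => (b : G) * z) h3
    simpa using this
  have := Nat.card_le_card_of_injective _ hinj
  rw [hC, h16] at this
  omega

theorem card_sylow5_eq36 (h : Nat.card G = 1440) [Fact (Nat.Prime 5)] :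
    Nat.card (Sylow 5 G) = 36 := by
  rcases card_sylow5_eq h with h1 | h1
  · exact absurd h1 (card_sylow5_ne_sixteen h)
  · exact h1

end Cfsg.Agent.Helper8.Ord1440
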