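import Mathlib
import Cfsg.Agent.Helper8.Ord1440A

set_option autoImplicit false

/-! No simple group of order `1440`, part B: machinery for the case of `36` Sylow
`5`-subgroups. -/

namespace Cfsg.Agent.Helper8.Ord1440

open Subgroup MulAction Cfsg.Agent.Helper8.Ord756 Cfsg.Agent.Helper8.SylAct

variable {G : Type*} [Group G] [Finite G] [IsSimpleGroup G]

theorem card_normalizer_sylow5 (h : Nat.card G = 1440) [Fact (Nat.Prime 5)] (P : Sylow 5 G) :
    Nat.card (normalizer ((P : Subgroup G) : Set G)) = 40 := by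
  have hmul := Cfsg.Agent.Helper2.SmallOrder.card_normalizer_mul_card_sylow P
  rw [card_sylow5_eq36 h, h] at hmul
  omega

theorem card_centralizer_sylow5 (h : Nat.card G = 1440) [Fact (Nat.Prime 5)] (P : Sylow 5 G) :
    Nat.card (centralizer ((P : Subgroup G) : Set G)) = 10 ∨
      Nat.card (centralizer ((P : Subgroup G) : Set G)) = 20 := by
  have hN := card_normalizer_sylow5 h P
  have hrel := relIndex_dvd_four h P
  have hcard := relIndex_mul_card_of_le (centralizer_le_normalizer ((P : Subgroup G) : Set G))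
  rw [hN] at hcard
  have hr1 : (centralizer ((P : Subgroup G) : Set G)).relIndex
      (normalizer ((P : Subgroup G) : Set G)) ≠ 1 := fun h1 =>
    not_normalizer_le_centralizer h P (relIndex_eq_one.mp h1)
  generalize (centralizer ((P : Subgroup G) : Set G)).relIndex
    (normalizer ((P : Subgroup G) : Set G)) = r at hrel hcard hr1
  have hr : r ≤ 4 := Nat.le_of_dvd (by norm_num) hrel
  interval_cases r <;> omega

omit [IsSimpleGroup G] in
theorem sylow5_le_centralizer (h : Nat.card G = 1440) [Fact (Nat.Prime 5)] (P : Sylow 5 G) :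
    (P : Subgroup G) ≤ centralizer ((P : Subgroup G) : Set G) := by
  have hP := card_sylow5 h P
  have hcyc : IsCyclic (P : Subgroup G) := by
    have : Fact (Nat.card (P : Subgroup G)).Prime := by rw [hP]; exact ⟨by norm_num⟩
    exact isCyclic_of_prime_card rfl
  exact le_centralizer_iff_isMulCommutative.mpr IsCyclic.isMulCommutative

/-- An involution centralizing a Sylow `5`-subgroup normalizes exactly `16` of them. -/
theorem card_fixedBy_involution (h : Nat.card G = 1440) [Fact (Nat.Prime 5)] (P : Sylow 5 G)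
    (t : G) (htC : t ∈ centralizer ((P : Subgroup G) : Set G)) (ht : orderOf t = 2) :
    Nat.card (fixedBy (Sylow 5 G) t) = 16 := by
  have htt : t * t = 1 := by
    have := pow_orderOf_eq_one t
    rwa [ht, pow_two] at this
  have ht1 : t ≠ 1 := by
    intro h1
    rw [h1, orderOf_one] at ht
    omega
  obtain ⟨k, hk⟩ := card_eq_card_fixedBy_add (by rw [h]; norm_num) (Sylow 5 G) t htt
  rw [card_sylow5_eq36 h] at hk
  have hm5 := card_fixedPoints_sylow_modEq_one P (zpowers t) (zpowers_le.mpr htC)
  rw [fixedPoints_zpowers_eq] at hm5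
  have hne : Nat.card (fixedBy (Sylow 5 G) t) ≠ 36 := by
    intro h36
    apply ht1
    have hbij : Function.Bijective (Subtype.val : fixedBy (Sylow 5 G) t → Sylow 5 G) :=
      Function.Injective.bijective_of_nat_card_le Subtype.val_injective
        (by rw [h36, card_sylow5_eq36 h])
    apply eq_one_of_forall_smul_eq P (sylow5_normalizer_ne_top h P) t
    intro R'
    obtain ⟨⟨R'', hR''⟩, rfl⟩ := hbij.2 R'
    exact hR''
  unfold Nat.ModEq at hm5
  omega

omit [Finite G] in
/-- The centralizer of an involution is a proper subgroup. -/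
theorem centralizer_involution_ne_top (h : Nat.card G = 1440) (t : G) (ht : orderOf t = 2) :
    centralizer ({t} : Set G) ≠ ⊤ := by
  intro htop
  have hcen : zpowers t ≤ center G := by
    rw [zpowers_le, mem_center_iff]
    intro g
    have : g ∈ centralizer ({t} : Set G) := by rw [htop]; trivial
    exact mem_centralizer_singleton_iff.mp this
  have hn : (zpowers t).Normal := by
    refine ⟨fun x hx g => ?_⟩
    have h1 := mem_center_iff.mp (hcen hx) g
    have h2 : g * x * g⁻¹ = x := by rw [h1]; group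
    rw [h2]
    exact hx
  have hc : Nat.card (zpowers t) = 2 := by rw [Nat.card_zpowers, ht]
  rcases hn.eq_bot_or_eq_top with h0 | h0
  · rw [h0, card_bot] at hc
    omega
  · rw [h0, card_top, h] at hc
    omega

/-- An involution centralized by `N(P)` has centralizer exactly `N(P)`. -/
theorem centralizer_eq_normalizer (h : Nat.card G = 1440) [Fact (Nat.Prime 5)] (P : Sylow 5 G)
    (t : G) (ht : orderOf t = 2)
    (hN : normalizer ((P : Subgroup G) : Set G) ≤ centralizer ({t} : Set G)) :
    centralizer ({t} : Set G) = normalizer ((P : Subgroup G) : Set G) := by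
  obtain ⟨k, hk, hcard⟩ := card_eq_mul_of_normalizer_le P _ hN
  rw [card_normalizer_sylow5 h P] at hcard
  have hle := card_le_of_ne_top h _ (centralizer_involution_ne_top h t ht)
  have hpos : 0 < Nat.card (centralizer ({t} : Set G)) := Nat.card_pos
  unfold Nat.ModEq at hk
  have hk1 : k = 1 := by omega
  symm
  apply eq_of_le_of_card_ge hN
  rw [hcard, hk1, card_normalizer_sylow5 h P]

/-- The conjugate of `t` attached to the Sylow subgroup `R`. -/
noncomputable def conjOf [Fact (Nat.Prime 5)] (P : Sylow 5 G) (t : G) (R : Sylow 5 G) : G :=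
  Classical.choose (MulAction.exists_smul_eq G P R) * t *
    (Classical.choose (MulAction.exists_smul_eq G P R))⁻¹

omit [IsSimpleGroup G] in
theorem conjOf_spec [Fact (Nat.Prime 5)] (P : Sylow 5 G) (t : G) (R : Sylow 5 G) :
    ∃ g : G, g • P = R ∧ conjOf P t R = g * t * g⁻¹ :=
  ⟨_, Classical.choose_spec (MulAction.exists_smul_eq G P R), rfl⟩

omit [IsSimpleGroup G] in
theorem centralizer_conjOf [Fact (Nat.Prime 5)] (P : Sylow 5 G) (t : G)
    (hCt : centralizer ({t} : Set G) = normalizer ((P : Subgroup G) : Set G)) (R : Sylow 5 G) :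
    centralizer ({conjOf P t R} : Set G) = normalizer ((R : Subgroup G) : Set G) := by
  obtain ⟨g, hg, hw⟩ := conjOf_spec P t R
  rw [hw, centralizer_conj_eq P t g hCt, hg]

omit [IsSimpleGroup G] in
theorem conjOf_mul_self [Fact (Nat.Prime 5)] (P : Sylow 5 G) (t : G) (htt : t * t = 1)
    (R : Sylow 5 G) : conjOf P t R * conjOf P t R = 1 := by
  obtain ⟨g, -, hw⟩ := conjOf_spec P t R
  rw [hw]
  calc g * t * g⁻¹ * (g * t * g⁻¹) = g * (t * t) * g⁻¹ := by group
    _ = 1 := by rw [htt]; group

omit [IsSimpleGroup G] in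
theorem conjOf_injective [Fact (Nat.Prime 5)] (P : Sylow 5 G) (t : G)
    (hCt : centralizer ({t} : Set G) = normalizer ((P : Subgroup G) : Set G)) :
    Function.Injective (conjOf P t) := by
  intro R R' hRR'
  have h1 := centralizer_conjOf P t hCt R
  have h2 := centralizer_conjOf P t hCt R'
  rw [hRR', h2] at h1
  -- `R ≤ N(R) = N(R')` forces `R = R'`
  have hle : (R : Subgroup G) ≤ normalizer ((R' : Subgroup G) : Set G) := by
    rw [h1]
    exact le_normalizer
  have hfix : R' ∈ fixedPoints (R : Subgroup G) (Sylow 5 G) := by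
    intro x
    exact Sylow.smul_eq_iff_mem_normalizer.mpr (hle x.2)
  rw [fixedPoints_sylow R] at hfix
  exact hfix.symm

omit [IsSimpleGroup G] in
theorem conjOf_mem_normalizer [Fact (Nat.Prime 5)] (P : Sylow 5 G) (t : G)
    (hCt : centralizer ({t} : Set G) = normalizer ((P : Subgroup G) : Set G)) (R : Sylow 5 G)
    (hR : t • R = R) : conjOf P t R ∈ normalizer ((P : Subgroup G) : Set G) := by
  have h1 : t ∈ centralizer ({conjOf P t R} : Set G) := by
    rw [centralizer_conjOf P t hCt R]
    exact Sylow.smul_eq_iff_mem_normalizer.mp hR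
  rw [← hCt, mem_centralizer_singleton_iff]
  exact (mem_centralizer_singleton_iff.mp h1).symm

omit [IsSimpleGroup G] in
theorem conjOf_not_mem_centralizer [Fact (Nat.Prime 5)] (P : Sylow 5 G) (t : G)
    (hCt : centralizer ({t} : Set G) = normalizer ((P : Subgroup G) : Set G)) (R : Sylow 5 G)
    (hR : R ≠ P) : conjOf P t R ∉ centralizer ((P : Subgroup G) : Set G) := by
  intro hmem
  apply hR
  have hle : (P : Subgroup G) ≤ normalizer ((R : Subgroup G) : Set G) := by
    rw [← centralizer_conjOf P t hCt R]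
    intro x hx
    rw [mem_centralizer_singleton_iff]
    exact mem_centralizer_iff.mp hmem x hx
  have hfix : R ∈ fixedPoints (P : Subgroup G) (Sylow 5 G) := by
    intro x
    exact Sylow.smul_eq_iff_mem_normalizer.mpr (hle x.2)
  rw [fixedPoints_sylow P] at hfix
  exact hfix

omit [Finite G] [IsSimpleGroup G] in
/-- A conjugate of `t` centralizing `P` equals `t`. -/
theorem conj_eq_of_mem_centralizer [Fact (Nat.Prime 5)] (P : Sylow 5 G) (t : G)
    (hCt : centralizer ({t} : Set G) = normalizer ((P : Subgroup G) : Set G)) (g : G)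
    (hmem : g * t * g⁻¹ ∈ centralizer ((P : Subgroup G) : Set G)) : g * t * g⁻¹ = t := by
  have hle : (P : Subgroup G) ≤ normalizer (((g • P : Sylow 5 G) : Subgroup G) : Set G) := by
    rw [← centralizer_conj_eq P t g hCt]
    intro x hx
    rw [mem_centralizer_singleton_iff]
    exact mem_centralizer_iff.mp hmem x hx
  have hfix : g • P ∈ fixedPoints (P : Subgroup G) (Sylow 5 G) := by
    intro x
    exact Sylow.smul_eq_iff_mem_normalizer.mpr (hle x.2)
  rw [fixedPoints_sylow P] at hfix
  have hg : g ∈ centralizer ({t} : Set G) := by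
    rw [hCt]
    exact Sylow.smul_eq_iff_mem_normalizer.mp hfix
  have := mem_centralizer_singleton_iff.mp hg
  calc g * t * g⁻¹ = t * g * g⁻¹ := by rw [this]
    _ = t := by group

omit [IsSimpleGroup G] in
/-- An involution normalizing but not centralizing `P` inverts it. -/
theorem inverts_of_involution (h : Nat.card G = 1440) [Fact (Nat.Prime 5)] (P : Sylow 5 G) (w : G)
    (hwN : w ∈ normalizer ((P : Subgroup G) : Set G))
    (hwC : w ∉ centralizer ((P : Subgroup G) : Set G)) (hww : w * w = 1) :
    ∀ x ∈ (P : Subgroup G), w * x * w⁻¹ = x⁻¹ := by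
  intro x hx
  have hP := card_sylow5 h P
  have hPC := sylow5_le_centralizer h P
  have hwinv : w⁻¹ = w := inv_eq_of_mul_eq_one_right hww
  have hx' : w * x * w⁻¹ ∈ (P : Subgroup G) := (mem_normalizer_iff.mp hwN x).mp hx
  by_contra hne
  have hy : x * (w * x * w⁻¹) ∈ (P : Subgroup G) := mul_mem hx hx'
  have hy1 : x * (w * x * w⁻¹) ≠ 1 := by
    intro h1
    apply hne
    exact (eq_inv_of_mul_eq_one_right h1)
  -- `w` commutes with `y`
  have hcomm : w * (x * (w * x * w⁻¹)) = (x * (w * x * w⁻¹)) * w := by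
    have hab : x * (w * x * w⁻¹) = (w * x * w⁻¹) * x := (mem_centralizer_iff.mp (hPC hx) _ hx').symm
    rw [hwinv] at hab ⊢
    calc w * (x * (w * x * w)) = (w * x * w) * (w * w) * x * w := by
          rw [hww]; group
      _ = (w * x * w) * x * w := by rw [hww, mul_one]
      _ = x * (w * x * w) * w := by rw [← hab]
  -- `y` generates `P`
  have hz : zpowers (x * (w * x * w⁻¹)) = (P : Subgroup G) := by
    apply eq_of_le_of_card_ge (zpowers_le.mpr hy)
    rw [hP, Nat.card_zpowers]
    have hd : orderOf (x * (w * x * w⁻¹)) ∣ 5 := by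
      have := Subgroup.orderOf_dvd_natCard _ hy
      rwa [hP] at this
    rcases (Nat.dvd_prime (by norm_num : Nat.Prime 5)).mp hd with h1 | h5
    · exact absurd (orderOf_eq_one_iff.mp h1) hy1
    · rw [h5]
  apply hwC
  rw [mem_centralizer_iff]
  intro q hq
  rw [← hz] at hq
  obtain ⟨k, rfl⟩ := mem_zpowers_iff.mp hq
  have hc : Commute w (x * (w * x * w⁻¹)) := hcomm
  exact ((hc.zpow_right k).eq).symm

omit [Finite G] [IsSimpleGroup G] in
/-- Two elements inverting `P` differ by an element of the centralizer. -/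
theorem inv_mul_mem_centralizer (P : Subgroup G) (w₀ w : G)
    (h₀ : ∀ x ∈ P, w₀ * x * w₀⁻¹ = x⁻¹) (h₁ : ∀ x ∈ P, w * x * w⁻¹ = x⁻¹) :
    w₀⁻¹ * w ∈ centralizer (P : Set G) := by
  rw [mem_centralizer_iff]
  intro x hx
  have e1 : w * x = x⁻¹ * w := by
    have := h₁ x hx
    calc w * x = (w * x * w⁻¹) * w := by group
      _ = x⁻¹ * w := by rw [this]
  have e2 : x * w₀⁻¹ = w₀⁻¹ * x⁻¹ := by
    have := h₀ x hx
    calc x * w₀⁻¹ = w₀⁻¹ * (w₀ * x * w₀⁻¹) := by group
      _ = w₀⁻¹ * x⁻¹ := by rw [this]
  calc x * (w₀⁻¹ * w) = (x * w₀⁻¹) * w := by group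
    _ = w₀⁻¹ * x⁻¹ * w := by rw [e2]
    _ = w₀⁻¹ * (x⁻¹ * w) := by group
    _ = w₀⁻¹ * (w * x) := by rw [e1]
    _ = w₀⁻¹ * w * x := by group

end Cfsg.Agent.Helper8.Ord1440
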