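import Mathlib
import Cfsg.Agent.Helper8.Ord1440B

set_option autoImplicit false

/-! No simple group of order `1440`, part C: the two possible orders of the centralizer of a
Sylow `5`-subgroup. -/

namespace Cfsg.Agent.Helper8.Ord1440

open Subgroup MulAction Cfsg.Agent.Helper8.Ord756 Cfsg.Agent.Helper8.SylAct

variable {G : Type*} [Group G] [Finite G] [IsSimpleGroup G]

/-- For an involution `t` with `C(t) = N(P)`, exactly `15` Sylow subgroups other than `P` are
normalized by `t`. -/
theorem card_fixedBy_diff (h : Nat.card G = 1440) [Fact (Nat.Prime 5)] (P : Sylow 5 G)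
    (t : G) (htC : t ∈ centralizer ((P : Subgroup G) : Set G)) (ht : orderOf t = 2) :
    Nat.card ↥(fixedBy (Sylow 5 G) t \ {P}) = 15 := by
  have h16 := card_fixedBy_involution h P t htC ht
  have hP : P ∈ fixedBy (Sylow 5 G) t :=
    Sylow.smul_eq_iff_mem_normalizer.mpr (centralizer_le_normalizer _ htC)
  rw [Nat.card_coe_set_eq] at h16 ⊢
  rw [Set.ncard_sdiff_singleton_of_mem hP, h16]

omit [IsSimpleGroup G] in
/-- The data attached to a Sylow subgroup `R ≠ P` normalized by `t`. -/
theorem conjOf_props (h : Nat.card G = 1440) [Fact (Nat.Prime 5)] (P : Sylow 5 G)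
    (t : G) (ht : orderOf t = 2)
    (hCt : centralizer ({t} : Set G) = normalizer ((P : Subgroup G) : Set G))
    (R : ↥(fixedBy (Sylow 5 G) t \ {P})) :
    conjOf P t R ∈ normalizer ((P : Subgroup G) : Set G) ∧
      conjOf P t R ∉ centralizer ((P : Subgroup G) : Set G) ∧
      conjOf P t R * conjOf P t R = 1 ∧
      ∀ x ∈ (P : Subgroup G), conjOf P t R * x * (conjOf P t R)⁻¹ = x⁻¹ := by
  have htt : t * t = 1 := by
    have := pow_orderOf_eq_one t
    rwa [ht, pow_two] at this
  have h1 := conjOf_mem_normalizer P t hCt R R.2.1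
  have h2 := conjOf_not_mem_centralizer P t hCt R R.2.2
  have h3 := conjOf_mul_self P t htt R
  exact ⟨h1, h2, h3, inverts_of_involution h P _ h1 h2 h3⟩

omit [IsSimpleGroup G] in
/-- If `P` has index two in its centralizer, the involution there is centralized by `N(P)`. -/
theorem normalizer_le_centralizer_of_card_ten (h : Nat.card G = 1440) [Fact (Nat.Prime 5)]
    (P : Sylow 5 G) (hC : Nat.card (centralizer ((P : Subgroup G) : Set G)) = 10) (t : G)
    (htC : t ∈ centralizer ((P : Subgroup G) : Set G)) (ht : orderOf t = 2) :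
    normalizer ((P : Subgroup G) : Set G) ≤ centralizer ({t} : Set G) := by
  have hP := card_sylow5 h P
  have htt : t * t = 1 := by
    have := pow_orderOf_eq_one t
    rwa [ht, pow_two] at this
  have hPC := sylow5_le_centralizer h P
  have hidx : ((P : Subgroup G).subgroupOf (centralizer ((P : Subgroup G) : Set G))).index = 2 := by
    have h1 := relIndex_mul_card_of_le hPC
    rw [hP, hC] at h1
    have : (P : Subgroup G).relIndex (centralizer ((P : Subgroup G) : Set G)) = 2 := by omega
    exact this
  have hnotP : ∀ s : G, orderOf s = 2 → s ∉ (P : Subgroup G) := by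
    intro s hs hsP
    have := Subgroup.orderOf_dvd_natCard _ hsP
    rw [hs, hP] at this
    omega
  intro n hn
  rw [mem_centralizer_singleton_iff]
  have ht'C : n * t * n⁻¹ ∈ centralizer ((P : Subgroup G) : Set G) :=
    conj_mem_centralizer _ hn htC
  have ht'2 : (n * t * n⁻¹) * (n * t * n⁻¹) = 1 := by
    calc (n * t * n⁻¹) * (n * t * n⁻¹) = n * (t * t) * n⁻¹ := by group
      _ = 1 := by rw [htt]; group
  have ht'P : n * t * n⁻¹ ∉ (P : Subgroup G) := by
    intro hmem
    have h1 : n⁻¹ * (n * t * n⁻¹) * n ∈ (P : Subgroup G) := (mem_normalizer_iff''.mp hn _).mp hmem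
    have h2 : n⁻¹ * (n * t * n⁻¹) * n = t := by group
    rw [h2] at h1
    exact hnotP t ht h1
  have hprod : t * (n * t * n⁻¹) ∈ (P : Subgroup G) := by
    have := (mul_mem_iff_of_index_two hidx
      (a := (⟨t, htC⟩ : centralizer ((P : Subgroup G) : Set G)))
      (b := (⟨n * t * n⁻¹, ht'C⟩ : centralizer ((P : Subgroup G) : Set G)))).mpr
      ⟨fun h1 => absurd (mem_subgroupOf.mp h1) (hnotP t ht),
        fun h1 => absurd (mem_subgroupOf.mp h1) ht'P⟩
    exact mem_subgroupOf.mp this
  set p := t * (n * t * n⁻¹) with hp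
  have hcomm : p * t = t * p := (mem_centralizer_iff.mp htC) p hprod
  have ht' : n * t * n⁻¹ = t * p := by
    rw [hp, ← mul_assoc, htt, one_mul]
  have hpp : p * p = 1 := by
    have h1 : (t * p) * (t * p) = 1 := by rw [← ht']; exact ht'2
    calc p * p = (t * t) * (p * p) := by rw [htt, one_mul]
      _ = t * (t * p) * p := by group
      _ = t * (p * t) * p := by rw [hcomm]
      _ = (t * p) * (t * p) := by group
      _ = 1 := h1
  have hp1 : p = 1 := by
    have h1 : orderOf p ∣ 2 := orderOf_dvd_of_pow_eq_one (by rw [pow_two]; exact hpp)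
    have h2 : orderOf p ∣ 5 := by
      have := Subgroup.orderOf_dvd_natCard _ hprod
      rwa [hP] at this
    have h3 : orderOf p ∣ Nat.gcd 2 5 := Nat.dvd_gcd h1 h2
    have h4 : orderOf p = 1 := by
      have : Nat.gcd 2 5 = 1 := by norm_num
      rw [this] at h3
      exact Nat.dvd_one.mp h3
    exact orderOf_eq_one_iff.mp h4
  rw [hp1, mul_one] at ht'
  calc n * t = (n * t * n⁻¹) * n := by group
    _ = t * n := by rw [ht']

/-- The centralizer of a Sylow `5`-subgroup does not have order `10`. -/
theorem card_centralizer_ne_ten (h : Nat.card G = 1440) [Fact (Nat.Prime 5)] (P : Sylow 5 G) :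
    Nat.card (centralizer ((P : Subgroup G) : Set G)) ≠ 10 := by
  intro hC
  have : Fact (Nat.Prime 2) := ⟨Nat.prime_two⟩
  obtain ⟨⟨t, htC⟩, ht⟩ := exists_prime_orderOf_dvd_card'
    (G := centralizer ((P : Subgroup G) : Set G)) 2 (by rw [hC]; norm_num)
  rw [Subgroup.orderOf_mk] at ht
  have hNt := normalizer_le_centralizer_of_card_ten h P hC t htC ht
  have hCt := centralizer_eq_normalizer h P t ht hNt
  have h15 := card_fixedBy_diff h P t htC ht
  have hne : Nonempty ↥(fixedBy (Sylow 5 G) t \ {P}) :=
    (Nat.card_pos_iff.mp (by rw [h15]; norm_num)).1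
  obtain ⟨R₀⟩ := hne
  have hw₀ := conjOf_props h P t ht hCt R₀
  let f : ↥(fixedBy (Sylow 5 G) t \ {P}) → centralizer ((P : Subgroup G) : Set G) := fun R =>
    ⟨(conjOf P t R₀)⁻¹ * conjOf P t R, inv_mul_mem_centralizer (P : Subgroup G) _ _ hw₀.2.2.2
      (conjOf_props h P t ht hCt R).2.2.2⟩
  have hinj : Function.Injective f := by
    intro R R' hRR'
    have h1 : (conjOf P t R₀)⁻¹ * conjOf P t R = (conjOf P t R₀)⁻¹ * conjOf P t R' :=
      congrArg Subtype.val hRR'
    have h2 := mul_left_cancel h1
    exact Subtype.ext (conjOf_injective P t hCt h2)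
  have := Nat.card_le_card_of_injective f hinj
  rw [h15, hC] at this
  omega

omit [IsSimpleGroup G] in
/-- A centralizer of order `20` is abelian. -/
theorem centralizer_comm_of_card_twenty (h : Nat.card G = 1440) [Fact (Nat.Prime 5)]
    (P : Sylow 5 G) (hC : Nat.card (centralizer ((P : Subgroup G) : Set G)) = 20) :
    ∀ a ∈ centralizer ((P : Subgroup G) : Set G), ∀ b ∈ centralizer ((P : Subgroup G) : Set G),
      a * b = b * a := by
  have : Fact (Nat.Prime 2) := ⟨Nat.prime_two⟩
  have hP := card_sylow5 h P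
  have hPC := sylow5_le_centralizer h P
  obtain ⟨K, hK⟩ := Sylow.exists_subgroup_card_pow_prime
    (G := centralizer ((P : Subgroup G) : Set G)) 2 (n := 2) (by rw [hC]; norm_num)
  have hT : Nat.card (K.map (centralizer ((P : Subgroup G) : Set G)).subtype) = 4 := by
    rw [card_map_of_injective (subtype_injective _)]
    simpa using hK
  have hTC : K.map (centralizer ((P : Subgroup G) : Set G)).subtype ≤
      centralizer ((P : Subgroup G) : Set G) := map_subtype_le K
  generalize K.map (centralizer ((P : Subgroup G) : Set G)).subtype = T at hT hTC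
  have hTcomm : IsMulCommutative T :=
    IsPGroup.isMulCommutative_of_card_eq_prime_sq (p := 2) (by rw [hT]; norm_num)
  have hTT : T ≤ centralizer (T : Set G) := le_centralizer_iff_isMulCommutative.mpr hTcomm
  -- `C ≤ C(T)`
  have hX : centralizer ((P : Subgroup G) : Set G) ⊓ centralizer (T : Set G) =
      centralizer ((P : Subgroup G) : Set G) := by
    apply eq_of_le_of_card_ge inf_le_left
    have h4 : 4 ∣ Nat.card (centralizer ((P : Subgroup G) : Set G) ⊓ centralizer (T : Set G) :
        Subgroup G) := by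
      rw [← hT]
      exact card_dvd_of_le (le_inf hTC hTT)
    have h5 : 5 ∣ Nat.card (centralizer ((P : Subgroup G) : Set G) ⊓ centralizer (T : Set G) :
        Subgroup G) := by
      have hle : (P : Subgroup G) ≤ centralizer ((P : Subgroup G) : Set G) ⊓
          centralizer (T : Set G) := by
        apply le_inf hPC
        intro x hx
        rw [mem_centralizer_iff]
        intro τ hτ
        exact (mem_centralizer_iff.mp (hTC hτ) x hx).symm
      have := card_dvd_of_le hle
      rwa [hP] at this
    have h20 : 4 * 5 ∣ Nat.card (centralizer ((P : Subgroup G) : Set G) ⊓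
        centralizer (T : Set G) : Subgroup G) :=
      Nat.Coprime.mul_dvd_of_dvd_of_dvd (by norm_num) h4 h5
    rw [hC]
    exact Nat.le_of_dvd Nat.card_pos h20
  have hCT : centralizer ((P : Subgroup G) : Set G) ≤ centralizer (T : Set G) := by
    rw [← hX]
    exact inf_le_right
  -- `C ≤ C(C)`
  have hY : centralizer ((P : Subgroup G) : Set G) ⊓
      centralizer ((centralizer ((P : Subgroup G) : Set G) : Subgroup G) : Set G) =
      centralizer ((P : Subgroup G) : Set G) := by
    apply eq_of_le_of_card_ge inf_le_left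
    have h4 : 4 ∣ Nat.card (centralizer ((P : Subgroup G) : Set G) ⊓
        centralizer ((centralizer ((P : Subgroup G) : Set G) : Subgroup G) : Set G) :
        Subgroup G) := by
      rw [← hT]
      apply card_dvd_of_le (le_inf hTC _)
      intro τ hτ
      rw [mem_centralizer_iff]
      intro c hc
      exact (mem_centralizer_iff.mp (hCT hc) τ hτ).symm
    have h5 : 5 ∣ Nat.card (centralizer ((P : Subgroup G) : Set G) ⊓
        centralizer ((centralizer ((P : Subgroup G) : Set G) : Subgroup G) : Set G) :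
        Subgroup G) := by
      have hle : (P : Subgroup G) ≤ centralizer ((P : Subgroup G) : Set G) ⊓
          centralizer ((centralizer ((P : Subgroup G) : Set G) : Subgroup G) : Set G) := by
        apply le_inf hPC
        intro x hx
        rw [mem_centralizer_iff]
        intro c hc
        exact (mem_centralizer_iff.mp hc x hx).symm
      have := card_dvd_of_le hle
      rwa [hP] at this
    have h20 : 4 * 5 ∣ Nat.card (centralizer ((P : Subgroup G) : Set G) ⊓
        centralizer ((centralizer ((P : Subgroup G) : Set G) : Subgroup G) : Set G) :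
        Subgroup G) :=
      Nat.Coprime.mul_dvd_of_dvd_of_dvd (by norm_num) h4 h5
    rw [hC]
    exact Nat.le_of_dvd Nat.card_pos h20
  intro a ha b hb
  have hb' : b ∈ centralizer ((centralizer ((P : Subgroup G) : Set G) : Subgroup G) : Set G) := by
    have : b ∈ centralizer ((P : Subgroup G) : Set G) ⊓
        centralizer ((centralizer ((P : Subgroup G) : Set G) : Subgroup G) : Set G) := by
      rw [hY]; exact hb
    exact this.2
  exact mem_centralizer_iff.mp hb' a ha

/-- When `|C(P)| = 20`, the product of two elements of `N(P)` outside `C(P)` lies in `C(P)`. -/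
theorem mul_mem_centralizer_of_not_mem (h : Nat.card G = 1440) [Fact (Nat.Prime 5)]
    (P : Sylow 5 G) (hC : Nat.card (centralizer ((P : Subgroup G) : Set G)) = 20) {a b : G}
    (ha : a ∈ normalizer ((P : Subgroup G) : Set G)) (hb : b ∈ normalizer ((P : Subgroup G) : Set G))
    (ha' : a ∉ centralizer ((P : Subgroup G) : Set G))
    (hb' : b ∉ centralizer ((P : Subgroup G) : Set G)) :
    a * b ∈ centralizer ((P : Subgroup G) : Set G) := by
  have hN := card_normalizer_sylow5 h P
  have hidx : ((centralizer ((P : Subgroup G) : Set G)).subgroupOf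
      (normalizer ((P : Subgroup G) : Set G))).index = 2 := by
    have h1 := relIndex_mul_card_of_le (centralizer_le_normalizer ((P : Subgroup G) : Set G))
    rw [hN, hC] at h1
    have : (centralizer ((P : Subgroup G) : Set G)).relIndex
        (normalizer ((P : Subgroup G) : Set G)) = 2 := by omega
    exact this
  have := (mul_mem_iff_of_index_two hidx
    (a := (⟨a, ha⟩ : normalizer ((P : Subgroup G) : Set G)))
    (b := (⟨b, hb⟩ : normalizer ((P : Subgroup G) : Set G)))).mpr
    ⟨fun h1 => absurd (mem_subgroupOf.mp h1) ha', fun h1 => absurd (mem_subgroupOf.mp h1) hb'⟩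
  exact mem_subgroupOf.mp this

/-- An element of `C(P)` commuting with one element of `N(P)` outside `C(P)` is central in
`N(P)`. -/
theorem normalizer_le_centralizer_of_commute (h : Nat.card G = 1440) [Fact (Nat.Prime 5)]
    (P : Sylow 5 G) (hC : Nat.card (centralizer ((P : Subgroup G) : Set G)) = 20) (n t : G)
    (hn : n ∈ normalizer ((P : Subgroup G) : Set G))
    (hnC : n ∉ centralizer ((P : Subgroup G) : Set G))
    (ht : t ∈ centralizer ((P : Subgroup G) : Set G)) (hnt : n * t = t * n) :
    normalizer ((P : Subgroup G) : Set G) ≤ centralizer ({t} : Set G) := by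
  have hab := centralizer_comm_of_card_twenty h P hC
  intro m hm
  rw [mem_centralizer_singleton_iff]
  by_cases hmC : m ∈ centralizer ((P : Subgroup G) : Set G)
  · exact hab m hmC t ht
  · have hninv : n⁻¹ ∉ centralizer ((P : Subgroup G) : Set G) := fun h1 =>
      hnC (by simpa using inv_mem h1)
    have h1 : n⁻¹ * m ∈ centralizer ((P : Subgroup G) : Set G) :=
      mul_mem_centralizer_of_not_mem h P hC (inv_mem hn) hm hninv hmC
    have e := hab (n⁻¹ * m) h1 t ht
    calc m * t = n * ((n⁻¹ * m) * t) := by group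
      _ = n * (t * (n⁻¹ * m)) := by rw [e]
      _ = (n * t) * (n⁻¹ * m) := by group
      _ = (t * n) * (n⁻¹ * m) := by rw [hnt]
      _ = t * m := by group

/-- When `|C(P)| = 20` some involution of `C(P)` is centralized by `N(P)`. -/
theorem exists_central_involution (h : Nat.card G = 1440) [Fact (Nat.Prime 5)]
    (P : Sylow 5 G) (hC : Nat.card (centralizer ((P : Subgroup G) : Set G)) = 20) :
    ∃ t ∈ centralizer ((P : Subgroup G) : Set G), orderOf t = 2 ∧
      normalizer ((P : Subgroup G) : Set G) ≤ centralizer ({t} : Set G) := by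
  have hab := centralizer_comm_of_card_twenty h P hC
  have : Fact (Nat.Prime 2) := ⟨Nat.prime_two⟩
  obtain ⟨⟨t₁, ht₁C⟩, ht₁⟩ := exists_prime_orderOf_dvd_card'
    (G := centralizer ((P : Subgroup G) : Set G)) 2 (by rw [hC]; norm_num)
  rw [Subgroup.orderOf_mk] at ht₁
  have ht₁t₁ : t₁ * t₁ = 1 := by
    have := pow_orderOf_eq_one t₁
    rwa [ht₁, pow_two] at this
  obtain ⟨n, hn, hnC⟩ : ∃ n ∈ normalizer ((P : Subgroup G) : Set G),
      n ∉ centralizer ((P : Subgroup G) : Set G) := by
    by_contra hcon
    push Not at hcon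
    exact not_normalizer_le_centralizer h P hcon
  by_cases hfix : n * t₁ = t₁ * n
  · exact ⟨t₁, ht₁C, ht₁, normalizer_le_centralizer_of_commute h P hC n t₁ hn hnC ht₁C hfix⟩
  · have ht₂C : n * t₁ * n⁻¹ ∈ centralizer ((P : Subgroup G) : Set G) :=
      conj_mem_centralizer _ hn ht₁C
    have ht₂t₂ : (n * t₁ * n⁻¹) * (n * t₁ * n⁻¹) = 1 := by
      calc (n * t₁ * n⁻¹) * (n * t₁ * n⁻¹) = n * (t₁ * t₁) * n⁻¹ := by group
        _ = 1 := by rw [ht₁t₁]; group
    have hc12 : t₁ * (n * t₁ * n⁻¹) = (n * t₁ * n⁻¹) * t₁ := hab _ ht₁C _ ht₂C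
    have htC : t₁ * (n * t₁ * n⁻¹) ∈ centralizer ((P : Subgroup G) : Set G) :=
      mul_mem ht₁C ht₂C
    have htt : (t₁ * (n * t₁ * n⁻¹)) * (t₁ * (n * t₁ * n⁻¹)) = 1 := by
      calc (t₁ * (n * t₁ * n⁻¹)) * (t₁ * (n * t₁ * n⁻¹))
          = t₁ * ((n * t₁ * n⁻¹) * t₁) * (n * t₁ * n⁻¹) := by group
        _ = t₁ * (t₁ * (n * t₁ * n⁻¹)) * (n * t₁ * n⁻¹) := by rw [← hc12]
        _ = (t₁ * t₁) * ((n * t₁ * n⁻¹) * (n * t₁ * n⁻¹)) := by group
        _ = 1 := by rw [ht₁t₁, ht₂t₂, one_mul]
    have ht1 : t₁ * (n * t₁ * n⁻¹) ≠ 1 := by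
      intro h1
      apply hfix
      have h2 : n * t₁ * n⁻¹ = t₁ := by
        have := eq_inv_of_mul_eq_one_right h1
        rw [this]
        exact (inv_eq_of_mul_eq_one_right ht₁t₁)
      calc n * t₁ = (n * t₁ * n⁻¹) * n := by group
        _ = t₁ * n := by rw [h2]
    have hord : orderOf (t₁ * (n * t₁ * n⁻¹)) = 2 :=
      orderOf_eq_prime (by rw [pow_two]; exact htt) ht1
    have hnn : n * n ∈ centralizer ((P : Subgroup G) : Set G) :=
      mul_mem_centralizer_of_not_mem h P hC hn hn hnC hnC
    have hnn1 := hab (n * n) hnn t₁ ht₁C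
    have hcomm : n * (t₁ * (n * t₁ * n⁻¹)) = (t₁ * (n * t₁ * n⁻¹)) * n := by
      calc n * (t₁ * (n * t₁ * n⁻¹)) = (n * t₁ * n⁻¹) * ((n * n) * t₁) * n⁻¹ := by group
        _ = (n * t₁ * n⁻¹) * (t₁ * (n * n)) * n⁻¹ := by rw [hnn1]
        _ = ((n * t₁ * n⁻¹) * t₁) * n := by group
        _ = (t₁ * (n * t₁ * n⁻¹)) * n := by rw [← hc12]
    exact ⟨_, htC, hord, normalizer_le_centralizer_of_commute h P hC n _ hn hnC htC hcomm⟩

end Cfsg.Agent.Helper8.Ord1440
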