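import Mathlib
import Cfsg.Agent.Helper8.Ord1440C

set_option autoImplicit false

/-! No simple group of order `1440`, part D: the centralizer of a Sylow `5`-subgroup cannot
have order `20`; conclusion. -/

namespace Cfsg.Agent.Helper8.Ord1440

open Subgroup MulAction Cfsg.Agent.Helper8.Ord756 Cfsg.Agent.Helper8.SylAct

variable {G : Type*} [Group G] [Finite G] [IsSimpleGroup G]

theorem card_centralizer_ne_twenty (h : Nat.card G = 1440) [Fact (Nat.Prime 5)] (P : Sylow 5 G) :
    Nat.card (centralizer ((P : Subgroup G) : Set G)) ≠ 20 := by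
  intro hC
  have : Fact (Nat.Prime 2) := ⟨Nat.prime_two⟩
  have hab := centralizer_comm_of_card_twenty h P hC
  have hN := card_normalizer_sylow5 h P
  obtain ⟨t, htC, ht, hNt⟩ := exists_central_involution h P hC
  have htt : t * t = 1 := by
    have := pow_orderOf_eq_one t
    rwa [ht, pow_two] at this
  have hCt := centralizer_eq_normalizer h P t ht hNt
  have h15 := card_fixedBy_diff h P t htC ht
  -- the `2`-part of `C(P)`
  let C4 : Subgroup G :=
    { carrier := {c | c ∈ centralizer ((P : Subgroup G) : Set G) ∧ c ^ 4 = 1}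
      mul_mem' := fun {a b} ha hb => ⟨mul_mem ha.1 hb.1, by
        have hc : Commute a b := hab a ha.1 b hb.1
        rw [hc.mul_pow, ha.2, hb.2, one_mul]⟩
      one_mem' := ⟨one_mem _, one_pow 4⟩
      inv_mem' := fun {a} ha => ⟨inv_mem ha.1, by rw [inv_pow, ha.2, inv_one]⟩ }
  have hC4C : C4 ≤ centralizer ((P : Subgroup G) : Set G) := fun c hc => hc.1
  have hC4p : IsPGroup 2 C4 := by
    rintro ⟨c, hc⟩
    refine ⟨2, ?_⟩
    apply Subtype.ext
    have : c ^ 4 = 1 := hc.2
    simpa using this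
  have htC4 : t ∈ C4 := by
    refine ⟨htC, ?_⟩
    calc t ^ 4 = (t * t) * (t * t) := by rw [← pow_two, ← pow_two, ← pow_mul]
      _ = 1 := by rw [htt, one_mul]
  -- a Sylow subgroup other than `P` normalized by `C4`
  have hmod := hC4p.card_modEq_card_fixedPoints (Sylow 5 G)
  rw [card_sylow5_eq36 h] at hmod
  have hPfix : P ∈ fixedPoints C4 (Sylow 5 G) := fun c =>
    Sylow.smul_eq_iff_mem_normalizer.mpr (centralizer_le_normalizer _ (hC4C c.2))
  obtain ⟨R₁, hR₁fix, hR₁P⟩ : ∃ R ∈ fixedPoints C4 (Sylow 5 G), R ≠ P := by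
    by_contra hcon
    push Not at hcon
    have h1 : Nat.card (fixedPoints C4 (Sylow 5 G)) = 1 := by
      rw [Nat.card_eq_one_iff_unique]
      exact ⟨⟨fun a b => Subtype.ext ((hcon a a.2).trans (hcon b b.2).symm)⟩, ⟨⟨P, hPfix⟩⟩⟩
    rw [h1] at hmod
    exact absurd hmod (by decide)
  have htR₁ : t • R₁ = R₁ := hR₁fix ⟨t, htC4⟩
  have hw₁ := conjOf_props h P t ht hCt ⟨R₁, htR₁, hR₁P⟩
  have hw₁cen := centralizer_conjOf P t hCt R₁
  change conjOf P t R₁ ∈ _ ∧ conjOf P t R₁ ∉ _ ∧ conjOf P t R₁ * conjOf P t R₁ = 1 ∧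
    ∀ x ∈ (P : Subgroup G), conjOf P t R₁ * x * (conjOf P t R₁)⁻¹ = x⁻¹ at hw₁
  generalize conjOf P t R₁ = w₁ at hw₁ hw₁cen
  -- `w₁` commutes with `C4`
  have hw₁C4 : ∀ τ ∈ C4, τ * w₁ = w₁ * τ := by
    intro τ hτ
    have : τ ∈ centralizer ({w₁} : Set G) := by
      rw [hw₁cen]
      exact Sylow.smul_eq_iff_mem_normalizer.mp (hR₁fix ⟨τ, hτ⟩)
    exact mem_centralizer_singleton_iff.mp this
  have hw₁inv : w₁⁻¹ = w₁ := inv_eq_of_mul_eq_one_right hw₁.2.2.1
  -- the elements of `C(P)` inverted by `w₁`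
  let E : Subgroup G :=
    { carrier := {c | c ∈ centralizer ((P : Subgroup G) : Set G) ∧ w₁ * c * w₁⁻¹ = c⁻¹}
      mul_mem' := fun {a b} ha hb => ⟨mul_mem ha.1 hb.1, by
        have hc : a * b = b * a := hab a ha.1 b hb.1
        calc w₁ * (a * b) * w₁⁻¹ = (w₁ * a * w₁⁻¹) * (w₁ * b * w₁⁻¹) := by group
          _ = a⁻¹ * b⁻¹ := by rw [ha.2, hb.2]
          _ = (b * a)⁻¹ := by group
          _ = (a * b)⁻¹ := by rw [hc]⟩
      one_mem' := ⟨one_mem _, by group⟩
      inv_mem' := fun {a} ha => ⟨inv_mem ha.1, by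
        calc w₁ * a⁻¹ * w₁⁻¹ = (w₁ * a * w₁⁻¹)⁻¹ := by group
          _ = (a⁻¹)⁻¹ := by rw [ha.2]⟩ }
  have hEC : E ≤ centralizer ((P : Subgroup G) : Set G) := fun c hc => hc.1
  have hmemE : ∀ R : ↥(fixedBy (Sylow 5 G) t \ {P}), w₁⁻¹ * conjOf P t R ∈ E := by
    intro R
    have hR := conjOf_props h P t ht hCt R
    have hRinv : (conjOf P t R)⁻¹ = conjOf P t R := inv_eq_of_mul_eq_one_right hR.2.2.1
    refine ⟨inv_mul_mem_centralizer (P : Subgroup G) _ _ hw₁.2.2.2 hR.2.2.2, ?_⟩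
    calc w₁ * (w₁⁻¹ * conjOf P t R) * w₁⁻¹ = conjOf P t R * w₁⁻¹ := by group
      _ = (conjOf P t R)⁻¹ * w₁ := by rw [hRinv, hw₁inv]
      _ = (w₁⁻¹ * conjOf P t R)⁻¹ := by group
  have hinj : Function.Injective
      (fun R : ↥(fixedBy (Sylow 5 G) t \ {P}) => (⟨w₁⁻¹ * conjOf P t R, hmemE R⟩ : E)) := by
    intro R R' hRR'
    have h1 : w₁⁻¹ * conjOf P t R = w₁⁻¹ * conjOf P t R' := congrArg Subtype.val hRR'
    have h2 := mul_left_cancel h1
    exact Subtype.ext (conjOf_injective P t hCt h2)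
  have h15E : 15 ≤ Nat.card E := by
    have := Nat.card_le_card_of_injective _ hinj
    rwa [h15] at this
  have hEdvd : Nat.card E ∣ 20 := by
    have := card_dvd_of_le hEC
    rwa [hC] at this
  have hE20 : Nat.card E = 20 := by
    have hle : Nat.card E ≤ 20 := Nat.le_of_dvd (by norm_num) hEdvd
    generalize Nat.card E = e at *
    interval_cases e <;> omega
  have hEeq : E = centralizer ((P : Subgroup G) : Set G) :=
    eq_of_le_of_card_ge hEC (by rw [hE20, hC])
  -- the elements of `C4` have order at most two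
  have hsq : ∀ τ ∈ C4, τ * τ = 1 := by
    intro τ hτ
    have h1 : τ ∈ E := by rw [hEeq]; exact hC4C hτ
    have h2 : w₁ * τ * w₁⁻¹ = τ⁻¹ := h1.2
    have h3 : w₁ * τ * w₁⁻¹ = τ := by rw [← hw₁C4 τ hτ]; group
    rw [h3] at h2
    calc τ * τ = τ * τ⁻¹ := congrArg (τ * ·) h2
      _ = 1 := mul_inv_cancel τ
  -- a second involution
  obtain ⟨K, hK⟩ := Sylow.exists_subgroup_card_pow_prime
    (G := centralizer ((P : Subgroup G) : Set G)) 2 (n := 2) (by rw [hC]; norm_num)
  have hT : Nat.card (K.map (centralizer ((P : Subgroup G) : Set G)).subtype) = 4 := by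
    rw [card_map_of_injective (subtype_injective _)]
    simpa using hK
  have hTC : K.map (centralizer ((P : Subgroup G) : Set G)).subtype ≤
      centralizer ((P : Subgroup G) : Set G) := map_subtype_le K
  generalize K.map (centralizer ((P : Subgroup G) : Set G)).subtype = T at hT hTC
  have hTC4 : T ≤ C4 := by
    intro τ hτ
    refine ⟨hTC hτ, ?_⟩
    have h1 : (⟨τ, hτ⟩ : T) ^ Nat.card T = 1 := pow_card_eq_one'
    rw [hT] at h1
    exact congrArg Subtype.val h1
  obtain ⟨t₂, ht₂T, ht₂1, ht₂t⟩ : ∃ t₂ ∈ T, t₂ ≠ 1 ∧ t₂ ≠ t := by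
    by_contra hcon
    push Not at hcon
    have hle : T ≤ zpowers t := by
      intro τ hτ
      by_cases h1 : τ = 1
      · rw [h1]; exact one_mem _
      · rw [hcon τ hτ h1]; exact mem_zpowers t
    have := card_dvd_of_le hle
    rw [hT, Nat.card_zpowers, ht] at this
    omega
  have ht₂C4 := hTC4 ht₂T
  have ht₂C : t₂ ∈ centralizer ((P : Subgroup G) : Set G) := hC4C ht₂C4
  have ht₂sq := hsq t₂ ht₂C4
  have ht₂ord : orderOf t₂ = 2 := orderOf_eq_prime (by rw [pow_two]; exact ht₂sq) ht₂1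
  have hNt₂ : normalizer ((P : Subgroup G) : Set G) ≤ centralizer ({t₂} : Set G) :=
    normalizer_le_centralizer_of_commute h P hC w₁ t₂ hw₁.1 hw₁.2.1 ht₂C (hw₁C4 t₂ ht₂C4).symm
  have hCt₂ := centralizer_eq_normalizer h P t₂ ht₂ord hNt₂
  have h15' := card_fixedBy_diff h P t₂ ht₂C ht₂ord
  -- both involutions have fifteen conjugates in `N(P) \ C(P)`, which has `20` elements
  have hD : Nat.card ↥((normalizer ((P : Subgroup G) : Set G) : Set G) \
      (centralizer ((P : Subgroup G) : Set G) : Set G)) = 20 := by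
    have hNc : ((normalizer ((P : Subgroup G) : Set G) : Subgroup G) : Set G).ncard = 40 := by
      rw [← Nat.card_coe_set_eq]; exact hN
    have hCc : ((centralizer ((P : Subgroup G) : Set G) : Subgroup G) : Set G).ncard = 20 := by
      rw [← Nat.card_coe_set_eq]; exact hC
    rw [Nat.card_coe_set_eq, Set.ncard_sdiff (centralizer_le_normalizer _), hNc, hCc]
  let F : ↥(fixedBy (Sylow 5 G) t \ {P}) ⊕ ↥(fixedBy (Sylow 5 G) t₂ \ {P}) →
      ↥((normalizer ((P : Subgroup G) : Set G) : Set G) \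
        (centralizer ((P : Subgroup G) : Set G) : Set G)) := fun s =>
    match s with
    | Sum.inl R => ⟨conjOf P t R, (conjOf_props h P t ht hCt R).1,
        (conjOf_props h P t ht hCt R).2.1⟩
    | Sum.inr R => ⟨conjOf P t₂ R, (conjOf_props h P t₂ ht₂ord hCt₂ R).1,
        (conjOf_props h P t₂ ht₂ord hCt₂ R).2.1⟩
  have hcross : ∀ (R : Sylow 5 G) (R' : Sylow 5 G), conjOf P t R ≠ conjOf P t₂ R' := by
    intro R R' heq
    obtain ⟨g, -, hg⟩ := conjOf_spec P t R
    obtain ⟨g', -, hg'⟩ := conjOf_spec P t₂ R'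
    rw [hg, hg'] at heq
    have h1 : (g'⁻¹ * g) * t * (g'⁻¹ * g)⁻¹ = t₂ := by
      calc (g'⁻¹ * g) * t * (g'⁻¹ * g)⁻¹ = g'⁻¹ * (g * t * g⁻¹) * g' := by group
        _ = g'⁻¹ * (g' * t₂ * g'⁻¹) * g' := by rw [heq]
        _ = t₂ := by group
    have h2 := conj_eq_of_mem_centralizer P t hCt (g'⁻¹ * g) (by rw [h1]; exact ht₂C)
    rw [h1] at h2
    exact ht₂t h2
  have hF : Function.Injective F := by
    rintro (R | R) (R' | R') hRR'
    · have h1 : conjOf P t R = conjOf P t R' := congrArg Subtype.val hRR'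
      exact congrArg Sum.inl (Subtype.ext (conjOf_injective P t hCt h1))
    · have h1 : conjOf P t R = conjOf P t₂ R' := congrArg Subtype.val hRR'
      exact absurd h1 (hcross _ _)
    · have h1 : conjOf P t₂ R = conjOf P t R' := congrArg Subtype.val hRR'
      exact absurd h1.symm (hcross _ _)
    · have h1 : conjOf P t₂ R = conjOf P t₂ R' := congrArg Subtype.val hRR'
      exact congrArg Sum.inr (Subtype.ext (conjOf_injective P t₂ hCt₂ h1))
  have := Nat.card_le_card_of_injective F hF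
  rw [Nat.card_sum, h15, h15', hD] at this
  omega

theorem no_simple (h : Nat.card G = 1440) : False := by
  have : Fact (Nat.Prime 5) := ⟨by norm_num⟩
  let P : Sylow 5 G := default
  rcases card_centralizer_sylow5 h P with h1 | h1
  · exact card_centralizer_ne_ten h P h1
  · exact card_centralizer_ne_twenty h P h1

end Cfsg.Agent.Helper8.Ord1440
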