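import Mathlib
import Cfsg.Agent.Helper8.Ord19Defs
import Cfsg.Agent.Helper2.SmallOrder

set_option autoImplicit false

/-!
# S4274: basic facts on Sylow subgroups of prime order (`nS`, `cZ`)
-/

namespace Cfsg.Agent.Helper8.Ord19

open Subgroup

universe u

variable {G : Type u} [Group G] [Finite G]

theorem h8_mem_smul_sylow {r : ℕ} (R : Sylow r G) (g x : G) :
    x ∈ ((g • R : Sylow r G) : Subgroup G) ↔ g⁻¹ * x * g ∈ (R : Subgroup G) := by
  rw [Sylow.coe_subgroup_smul, Subgroup.mem_pointwise_smul_iff_inv_smul_mem]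
  simp [MulAut.smul_def, mul_assoc]

/-- conjugate Sylow subgroups have centralizers of the same order -/
theorem h8_card_centralizer_smul {r : ℕ} (R : Sylow r G) (g : G) :
    Nat.card (centralizer (((g • R : Sylow r G) : Subgroup G) : Set G)) =
      Nat.card (centralizer ((R : Subgroup G) : Set G)) := by
  apply Nat.card_congr
  refine ⟨fun x => ⟨g⁻¹ * x * g, ?_⟩, fun x => ⟨g * x * g⁻¹, ?_⟩, ?_, ?_⟩
  · rw [mem_centralizer_iff]
    intro y hy
    have hy' : g * y * g⁻¹ ∈ ((g • R : Sylow r G) : Subgroup G) := by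
      rw [h8_mem_smul_sylow]
      have : g⁻¹ * (g * y * g⁻¹) * g = y := by group
      rw [this]; exact hy
    have hx := (mem_centralizer_iff.1 x.2) _ hy'
    calc y * (g⁻¹ * ↑x * g) = g⁻¹ * ((g * y * g⁻¹) * ↑x) * g := by group
      _ = g⁻¹ * (↑x * (g * y * g⁻¹)) * g := by rw [hx]
      _ = g⁻¹ * ↑x * g * y := by group
  · rw [mem_centralizer_iff]
    intro y hy
    have hy' : g⁻¹ * y * g ∈ (R : Subgroup G) := (h8_mem_smul_sylow R g y).1 hy
    have hx := (mem_centralizer_iff.1 x.2) _ hy'
    calc y * (g * ↑x * g⁻¹) = g * ((g⁻¹ * y * g) * ↑x) * g⁻¹ := by group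
      _ = g * (↑x * (g⁻¹ * y * g)) * g⁻¹ := by rw [hx]
      _ = g * ↑x * g⁻¹ * y := by group
  · intro x; apply Subtype.ext; simp only []; group
  · intro x; apply Subtype.ext; simp only []; group

theorem card_centralizer_sylow (r : ℕ) [Fact r.Prime] (R : Sylow r G) :
    Nat.card (centralizer ((R : Subgroup G) : Set G)) = cZ G r := by
  obtain ⟨g, hg⟩ := MulAction.exists_smul_eq G (default : Sylow r G) R
  unfold cZ
  rw [← hg, h8_card_centralizer_smul]

theorem h8_card_sylow {r : ℕ} [Fact r.Prime] (hr : (Nat.card G).factorization r = 1)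
    (R : Sylow r G) : Nat.card R = r := by
  rw [Sylow.card_eq_multiplicity, hr, pow_one]

theorem h8_sylow_le_centralizer {r : ℕ} [Fact r.Prime] (hr : (Nat.card G).factorization r = 1)
    (R : Sylow r G) : (R : Subgroup G) ≤ centralizer ((R : Subgroup G) : Set G) := by
  have hc : Nat.card (R : Subgroup G) = r := h8_card_sylow hr R
  have hfp : Fact (Nat.card (R : Subgroup G)).Prime := by rw [hc]; infer_instance
  have hcyc : IsCyclic (R : Subgroup G) := isCyclic_of_prime_card rfl
  have hcomm : ∀ a b : (R : Subgroup G), a * b = b * a := fun a b =>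
    (IsCyclic.commGroup (α := (R : Subgroup G))).mul_comm a b
  intro x hx
  rw [mem_centralizer_iff]
  intro y hy
  have := hcomm ⟨y, hy⟩ ⟨x, hx⟩
  exact congrArg Subtype.val this

theorem h8_centralizer_le_normalizer (H : Subgroup G) :
    centralizer (H : Set G) ≤ normalizer (H : Set G) := by
  intro x hx
  rw [mem_normalizer_iff]
  intro y
  have key : ∀ z ∈ H, x * z * x⁻¹ = z := by
    intro z hz
    have := (mem_centralizer_iff.1 hx) z hz
    rw [← this, mul_inv_cancel_right]
  constructor
  · intro hy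
    rw [key y hy]; exact hy
  · intro hy
    have hx' : x⁻¹ ∈ centralizer (H : Set G) := inv_mem hx
    have h2 := (mem_centralizer_iff.1 hx') _ hy
    -- x * y * x⁻¹ * x⁻¹ = x⁻¹ * (x * y * x⁻¹)
    have : y = x⁻¹ * (x * y * x⁻¹) * x := by group
    rw [this, ← h2]
    have : x * y * x⁻¹ * x⁻¹ * x = x * y * x⁻¹ := by group
    rw [this]; exact hy

/-- `|G| = nS · cZ · e` with `e ∣ r - 1` -/
theorem nS_cZ_factor (r : ℕ) [hrp : Fact r.Prime] (hr : (Nat.card G).factorization r = 1) :
    ∃ e, Nat.card G = nS G r * cZ G r * e ∧ e ∣ r - 1 ∧ r ∣ cZ G r := by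
  let R : Sylow r G := default
  have hc : Nat.card (R : Subgroup G) = r := h8_card_sylow hr R
  have hfp : Fact (Nat.card (R : Subgroup G)).Prime := by rw [hc]; infer_instance
  have hcyc : IsCyclic (R : Subgroup G) := isCyclic_of_prime_card rfl
  have h1 := Cfsg.Agent.Helper2.SmallOrder.relIndex_centralizer_normalizer_dvd (R : Subgroup G) hcyc
  rw [hc, Nat.totient_prime hrp.out] at h1
  have h2 := Cfsg.Agent.Helper2.SmallOrder.card_normalizer_mul_card_sylow R
  have h3 : (centralizer ((R : Subgroup G) : Set G)).relIndex (normalizer ((R : Subgroup G) : Set G)) *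
      Nat.card (centralizer ((R : Subgroup G) : Set G)) =
      Nat.card (normalizer ((R : Subgroup G) : Set G)) := by
    have := Subgroup.relIndex_mul_relIndex (⊥ : Subgroup G) _ _ bot_le
      (h8_centralizer_le_normalizer (R : Subgroup G))
    rw [Subgroup.relIndex_bot_left, Subgroup.relIndex_bot_left] at this
    rw [mul_comm]; exact this
  refine ⟨(centralizer ((R : Subgroup G) : Set G)).relIndex
    (normalizer ((R : Subgroup G) : Set G)), ?_, h1, ?_⟩
  · show Nat.card G = Nat.card (Sylow r G) * Nat.card (centralizer ((R : Subgroup G) : Set G)) * _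
    rw [← h2, ← h3]; ring
  · show r ∣ Nat.card (centralizer ((R : Subgroup G) : Set G))
    have := Subgroup.card_dvd_of_le (h8_sylow_le_centralizer hr R)
    rwa [hc] at this

/-- Burnside: in a simple group that is not of order `r`, `N(R) ≠ C(R)` -/
theorem nS_cZ_ne [IsSimpleGroup G] (r : ℕ) [hrp : Fact r.Prime]
    (hr : (Nat.card G).factorization r = 1) (hne : Nat.card G ≠ r) :
    Nat.card G ≠ nS G r * cZ G r := by
  intro heq
  let R : Sylow r G := default
  have hc : Nat.card (R : Subgroup G) = r := h8_card_sylow hr R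
  have h2 := Cfsg.Agent.Helper2.SmallOrder.card_normalizer_mul_card_sylow R
  have hCN := h8_centralizer_le_normalizer (R : Subgroup G)
  have hpos : 0 < Nat.card (Sylow r G) := Nat.card_pos
  have h3 : Nat.card (normalizer ((R : Subgroup G) : Set G)) =
      Nat.card (centralizer ((R : Subgroup G) : Set G)) := by
    have h4 : Nat.card (normalizer ((R : Subgroup G) : Set G)) * Nat.card (Sylow r G) =
        Nat.card (centralizer ((R : Subgroup G) : Set G)) * Nat.card (Sylow r G) := by
      rw [h2, heq]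
      show nS G r * cZ G r = cZ G r * nS G r
      ring
    exact Nat.eq_of_mul_eq_mul_right hpos h4
  have hle : normalizer ((R : Subgroup G) : Set G) ≤ centralizer ((R : Subgroup G) : Set G) := by
    have hsub : (centralizer ((R : Subgroup G) : Set G) : Set G) =
        (normalizer ((R : Subgroup G) : Set G) : Set G) := by
      apply Set.eq_of_subset_of_ncard_le hCN _ (Set.toFinite _)
      rw [← Nat.card_coe_set_eq, ← Nat.card_coe_set_eq]
      exact h3.le
    intro x hx
    have : x ∈ (normalizer ((R : Subgroup G) : Set G) : Set G) := hx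
    rw [← hsub] at this
    exact this
  have hcomp := MonoidHom.ker_transferSylow_isComplement' R hle
  have hcard := hcomp.card_mul_card
  rcases (MonoidHom.normal_ker (MonoidHom.transferSylow R hle)).eq_bot_or_eq_top with hb | ht
  · rw [hb, Subgroup.card_bot, one_mul, hc] at hcard
    exact hne hcard.symm
  · rw [ht, Subgroup.card_top, hc] at hcard
    have hG : 0 < Nat.card G := Nat.card_pos
    have : r = 1 := by
      have h5 : Nat.card G * r = Nat.card G * 1 := by rw [hcard, mul_one]
      exact Nat.eq_of_mul_eq_mul_left hG h5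
    exact hrp.out.one_lt.ne' this

/-- in a simple group every prime divisor of the order is at most the number of Sylow
`r`-subgroups -/
theorem le_nS [IsSimpleGroup G] (r : ℕ) [hrp : Fact r.Prime]
    (hr : (Nat.card G).factorization r = 1) (hne : Nat.card G ≠ r) (q : ℕ) (hq : q.Prime)
    (hqG : q ∣ Nat.card G) : q ≤ nS G r := by
  let R : Sylow r G := default
  have hc : Nat.card (R : Subgroup G) = r := h8_card_sylow hr R
  have h1 : Nat.card (Sylow r G) ≠ 1 := by
    apply Cfsg.Agent.Helper2.SmallOrder.card_sylow_ne_one R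
    · rw [hc]; exact hrp.out.one_lt.ne'
    · rw [hc]; exact hne.symm
  have h5 : (normalizer ((R : Subgroup G) : Set G)).index = Nat.card (Sylow r G) :=
    (Sylow.card_eq_index_normalizer R).symm
  have hN : normalizer ((R : Subgroup G) : Set G) ≠ ⊤ := by
    intro htop
    apply h1
    rw [← h5, htop, Subgroup.index_top]
  have h2 := Cfsg.Agent.Helper2.SmallOrder.card_dvd_factorial_index _ hN
  rw [h5] at h2
  exact (Nat.Prime.dvd_factorial hq).1 (hqG.trans h2)

theorem nS_mod (r : ℕ) [hrp : Fact r.Prime] : nS G r % r = 1 := by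
  have := card_sylow_modEq_one r G
  unfold Nat.ModEq at this
  rw [Nat.mod_eq_of_lt hrp.out.one_lt] at this
  exact this

/-- if `r` and `s` both divide the order of `g` then `s` divides `cZ G r` -/
theorem dvd_cZ_of_orderOf (r s : ℕ) [hrp : Fact r.Prime]
    (hr : (Nat.card G).factorization r = 1)
    (g : G) (h1 : r ∣ orderOf g) (h2 : s ∣ orderOf g) : s ∣ cZ G r := by
  obtain ⟨m, hm⟩ := h1
  have hpos : 0 < orderOf g := orderOf_pos g
  have hm0 : m ≠ 0 := by rintro rfl; rw [mul_zero] at hm; omega
  set x := g ^ m with hx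
  have hxo : orderOf x = r := by
    rw [hx, orderOf_pow' g hm0, hm, Nat.gcd_eq_right (Dvd.intro_left r rfl),
      Nat.mul_div_cancel _ (Nat.pos_of_ne_zero hm0)]
  -- the Sylow subgroup containing `x`
  have hZ : IsPGroup r (zpowers x) := by
    apply IsPGroup.of_card (n := 1)
    rw [pow_one, Nat.card_zpowers, hxo]
  obtain ⟨R, hR⟩ := hZ.exists_le_sylow
  have hc : Nat.card (R : Subgroup G) = r := h8_card_sylow hr R
  have hRx : (R : Subgroup G) = zpowers x := by
    symm
    apply Subgroup.eq_of_le_of_card_ge hR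
    rw [hc, Nat.card_zpowers, hxo]
  have hg : g ∈ centralizer ((R : Subgroup G) : Set G) := by
    rw [hRx, mem_centralizer_iff]
    intro y hy
    obtain ⟨k, rfl⟩ := mem_zpowers_iff.1 hy
    have hc1 : Commute g (x ^ k) := by
      rw [hx]
      exact ((Commute.refl g).pow_right m).zpow_right k
    exact hc1.eq.symm
  have hdvd : orderOf g ∣ Nat.card (centralizer ((R : Subgroup G) : Set G)) := by
    have := orderOf_dvd_natCard (⟨g, hg⟩ : centralizer ((R : Subgroup G) : Set G))
    rwa [Subgroup.orderOf_mk] at this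
  rw [card_centralizer_sylow] at hdvd
  exact h2.trans hdvd

theorem h8_count_aux (T : List ℕ) (hT : T.Nodup)
    (hprime : ∀ r ∈ T, r.Prime ∧ (Nat.card G).factorization r = 1)
    (hsing : ∀ r ∈ T, Set.ncard {g : G | r ∣ orderOf g} = nS G r * (cZ G r - cZ G r / r))
    (hind : ∀ r ∈ T, ∀ s ∈ T, r ≠ s → ¬ s ∣ cZ G r) :
    (T.map (fun r => nS G r * (cZ G r - cZ G r / r))).sum =
      Set.ncard {g : G | ∃ r ∈ T, r ∣ orderOf g} := by
  induction T with
  | nil => simp
  | cons a T ih =>
    have hT' : T.Nodup := (List.nodup_cons.1 hT).2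
    have haT : a ∉ T := (List.nodup_cons.1 hT).1
    have ih' := ih hT' (fun r hr => hprime r (List.mem_cons_of_mem a hr))
      (fun r hr => hsing r (List.mem_cons_of_mem a hr))
      (fun r hr s hs => hind r (List.mem_cons_of_mem a hr) s (List.mem_cons_of_mem a hs))
    have hunion : {g : G | ∃ r ∈ a :: T, r ∣ orderOf g} =
        {g : G | a ∣ orderOf g} ∪ {g : G | ∃ r ∈ T, r ∣ orderOf g} := by
      ext g
      simp only [List.mem_cons, Set.mem_ofPred_eq, Set.mem_union]
      constructor
      · rintro ⟨r, rfl | hr, hd⟩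
        · exact Or.inl hd
        · exact Or.inr ⟨r, hr, hd⟩
      · rintro (hd | ⟨r, hr, hd⟩)
        · exact ⟨a, Or.inl rfl, hd⟩
        · exact ⟨r, Or.inr hr, hd⟩
    have hdisj : Disjoint {g : G | a ∣ orderOf g} {g : G | ∃ r ∈ T, r ∣ orderOf g} := by
      rw [Set.disjoint_left]
      rintro g hga ⟨r, hr, hgr⟩
      have hap := hprime a (List.mem_cons_self)
      have : Fact a.Prime := ⟨hap.1⟩
      have hne : a ≠ r := fun h => haT (h ▸ hr)
      exact hind a (List.mem_cons_self) r (List.mem_cons_of_mem a hr) hne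
        (dvd_cZ_of_orderOf a r hap.2 g hga hgr)
    rw [List.map_cons, List.sum_cons, ih', hunion,
      Set.ncard_union_eq hdisj (Set.toFinite _) (Set.toFinite _),
      hsing a (List.mem_cons_self)]

/-- the counting inequality for pairwise "independent" primes -/
theorem count_list (T : List ℕ) (hT : T.Nodup)
    (hprime : ∀ r ∈ T, r.Prime ∧ (Nat.card G).factorization r = 1)
    (hsing : ∀ r ∈ T, Set.ncard {g : G | r ∣ orderOf g} = nS G r * (cZ G r - cZ G r / r))
    (hind : ∀ r ∈ T, ∀ s ∈ T, r ≠ s → ¬ s ∣ cZ G r) :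
    (T.map (fun r => nS G r * (cZ G r - cZ G r / r))).sum ≤ Nat.card G - 1 := by
  rw [h8_count_aux T hT hprime hsing hind]
  have hsub : {g : G | ∃ r ∈ T, r ∣ orderOf g} ⊆ (Set.univ : Set G) \ {1} := by
    rintro g ⟨r, hr, hd⟩
    refine ⟨Set.mem_univ g, ?_⟩
    intro h1
    rw [Set.mem_singleton_iff] at h1
    rw [h1, orderOf_one] at hd
    exact (hprime r hr).1.one_lt.ne' (Nat.dvd_one.1 hd)
  have h2 := Set.ncard_le_ncard hsub (Set.toFinite _)
  rw [Set.ncard_sdiff_singleton_of_mem (Set.mem_univ 1), Set.ncard_univ] at h2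
  exact h2

end Cfsg.Agent.Helper8.Ord19
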