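import Mathlib
import Cfsg.Agent.Helper8.Ord19Defs
import Cfsg.Agent.Helper8.Ord19Lib

set_option autoImplicit false

/-!
# S4274: a reflective checker for the Sylow data of a simple group of order `19 d`, `d ∣ 9240`

For the primes `r ∈ {3,5,7,11,19}` the data is `(nS G r, cZ G r)`.  The function `survivors n`
lists all data that pass the numerical tests; `dat_mem_survivors` says that the data of a simple
group of order `n` are in this list.
-/

namespace Cfsg.Agent.Helper8.Ord19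

open Subgroup

universe u

/-- the 128 divisors of `175560 = 8 * 3 * 5 * 7 * 11 * 19` -/
def divs : List ℕ :=
  [1, 2, 4, 8].flatMap fun a => [1, 3].flatMap fun b => [1, 5].flatMap fun c =>
    [1, 7].flatMap fun d => [1, 11].flatMap fun e => [1, 19].map fun f => a * b * c * d * e * f

/-- candidates for `(nS, cZ)` at the prime `r` -/
def cand (n r : ℕ) : List (ℕ × ℕ) :=
  if n % r == 0 then
    (divs.filter fun m => m % r == 1 && decide (19 ≤ m) && n % m == 0).flatMap fun m =>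
      ((List.range r).filter fun e => decide (2 ≤ e) && (r - 1) % e == 0 && n % (m * e) == 0 &&
        (n / (m * e)) % r == 0).map fun e => (m, n / (m * e))
  else [(1, n)]

/-- the test coming from counting commuting pairs of Sylow subgroups -/
def pairOk (n r s : ℕ) (a b : ℕ × ℕ) : Bool :=
  n % r != 0 || n % s != 0 ||
  (a.2 % s != 0 && b.2 % r != 0) ||
  (a.2 % s == 0 && b.2 % r == 0 && divs.any fun x =>
    x % s == 1 && (a.2 / s) % x == 0 && (a.1 * x) % b.1 == 0 &&
      (a.1 * x / b.1) % r == 1 && (b.2 / r) % (a.1 * x / b.1) == 0)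

/-- the test coming from counting `r`-singular elements -/
def countOk (n : ℕ) (c : List (ℕ × ℕ × ℕ)) : Bool :=
  (c.filter fun a => n % a.1 == 0).sublists.all fun T =>
    !(T.all fun a => T.all fun b => a.1 == b.1 || a.2.2 % b.1 != 0) ||
      decide ((T.map fun a => a.2.1 * (a.2.2 - a.2.2 / a.1)).sum ≤ n - 1)

/-- all data passing the tests -/
def survivors (n : ℕ) : List (List (ℕ × ℕ × ℕ)) :=
  (cand n 19).flatMap fun o19 =>
  ((cand n 11).filter fun o11 => pairOk n 11 19 o11 o19).flatMap fun o11 =>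
  ((cand n 7).filter fun o7 => pairOk n 7 19 o7 o19 && pairOk n 7 11 o7 o11).flatMap fun o7 =>
  ((cand n 5).filter fun o5 => pairOk n 5 19 o5 o19 && pairOk n 5 11 o5 o11 &&
      pairOk n 5 7 o5 o7).flatMap fun o5 =>
  ((cand n 3).filter fun o3 => pairOk n 3 19 o3 o19 && pairOk n 3 11 o3 o11 &&
      pairOk n 3 7 o3 o7 && pairOk n 3 5 o3 o5).filterMap fun o3 =>
    let c := [(3, o3), (5, o5), (7, o7), (11, o11), (19, o19)]
    if countOk n c then some c else none

theorem h8_dvd_prime_mem {p a : ℕ} (hp : p.Prime) (h : a ∣ p) : a ∈ [1, p] := by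
  rcases (Nat.dvd_prime hp).1 h with h1 | h1 <;> simp [h1]

theorem h8_dvd_eight_mem {a : ℕ} (h : a ∣ 8) : a ∈ [1, 2, 4, 8] := by
  have hle : a ≤ 8 := Nat.le_of_dvd (by norm_num) h
  interval_cases a <;> simp_all

theorem mem_divs {m : ℕ} (h : m ∣ 175560) : m ∈ divs := by
  have e : (175560 : ℕ) = 8 * (3 * (5 * (7 * (11 * 19)))) := by norm_num
  rw [e] at h
  obtain ⟨a, m1, ha, h1, rfl⟩ := Nat.dvd_mul.1 h
  obtain ⟨b, m2, hb, h2, rfl⟩ := Nat.dvd_mul.1 h1
  obtain ⟨c, m3, hc, h3, rfl⟩ := Nat.dvd_mul.1 h2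
  obtain ⟨d, m4, hd, h4, rfl⟩ := Nat.dvd_mul.1 h3
  obtain ⟨e', f, he, hf, rfl⟩ := Nat.dvd_mul.1 h4
  unfold divs
  simp only [List.mem_flatMap, List.mem_map]
  refine ⟨a, h8_dvd_eight_mem ha, b, h8_dvd_prime_mem (by norm_num) hb, c,
    h8_dvd_prime_mem (by norm_num) hc, d, h8_dvd_prime_mem (by norm_num) hd, e',
    h8_dvd_prime_mem (by norm_num) he, f, h8_dvd_prime_mem (by norm_num) hf, ?_⟩
  ring

variable {G : Type u} [Group G] [Finite G]

/-- if `r` does not divide `|G|` the data are trivial -/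
theorem nS_cZ_of_not_dvd (r : ℕ) [hrp : Fact r.Prime] (h : ¬ r ∣ Nat.card G) :
    nS G r = 1 ∧ cZ G r = Nat.card G := by
  have hbot : ∀ P : Sylow r G, (P : Subgroup G) = ⊥ := by
    intro P
    apply Subgroup.eq_bot_of_card_eq
    rw [Sylow.card_eq_multiplicity, Nat.factorization_eq_zero_of_not_dvd h, pow_zero]
  constructor
  · unfold nS
    have : Subsingleton (Sylow r G) := ⟨fun P Q => Sylow.ext ((hbot P).trans (hbot Q).symm)⟩
    exact Nat.card_unique
  · unfold cZ
    rw [hbot, Subgroup.coe_bot]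
    have : centralizer ({1} : Set G) = ⊤ := by
      rw [Subgroup.centralizer_eq_top_iff_subset]
      intro x hx
      rw [Set.mem_singleton_iff] at hx
      rw [hx]
      exact Subgroup.one_mem _
    rw [this, Subgroup.card_top]

theorem h8_factorization_eq_one {n r : ℕ} (hr : r.Prime) (hn : n ∣ 175560) (hrn : r ∣ n)
    (hr2 : ¬ r ^ 2 ∣ 175560) : n.factorization r = 1 := by
  have hn0 : n ≠ 0 := by rintro rfl; simp at hn
  have h1 : 1 ≤ n.factorization r :=
    (hr.pow_dvd_iff_le_factorization hn0).1 (by rwa [pow_one])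
  have h2 : ¬ 2 ≤ n.factorization r := by
    intro h2
    exact hr2 (((hr.pow_dvd_iff_le_factorization hn0).2 h2).trans hn)
  omega

theorem h8_cZ_dvd (r : ℕ) : cZ G r ∣ Nat.card G := Subgroup.card_subgroup_dvd_card _

theorem h8_nS_dvd (r : ℕ) [Fact r.Prime] : nS G r ∣ Nat.card G := by
  unfold nS
  rw [Sylow.card_eq_index_normalizer (default : Sylow r G)]
  exact Subgroup.index_dvd_card _

/-- soundness of `cand` -/
theorem mem_cand [IsSimpleGroup G] {n : ℕ} (hn : Nat.card G = n) (hdvd : n ∣ 175560)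
    (h19 : 19 ∣ n) (r : ℕ) (hr : r.Prime) (hr2 : ¬ r ^ 2 ∣ 175560) (hnr : n ≠ r) :
    (nS G r, cZ G r) ∈ cand n r := by
  have : Fact r.Prime := ⟨hr⟩
  unfold cand
  by_cases hrn : r ∣ n
  · have hmod : (n % r == 0) = true := by
      rw [beq_iff_eq]; exact Nat.mod_eq_zero_of_dvd hrn
    rw [if_pos hmod]
    have hf : (Nat.card G).factorization r = 1 := by
      rw [hn]; exact h8_factorization_eq_one hr hdvd hrn hr2
    obtain ⟨e, he1, he2, he3⟩ := nS_cZ_factor (G := G) r hf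
    have hne1 := nS_cZ_ne (G := G) r hf (hn ▸ hnr)
    have hnpos : 0 < n := by
      rcases Nat.eq_zero_or_pos n with h0 | h0
      · subst h0; simp at hdvd
      · exact h0
    rw [hn] at he1 hne1
    have he0 : e ≠ 0 := by
      rintro rfl
      rw [mul_zero] at he1
      omega
    have he1' : e ≠ 1 := by
      rintro rfl
      rw [mul_one] at he1
      exact hne1 he1
    have hrpos : 0 < r - 1 := by have := hr.one_lt; omega
    have hele : e ≤ r - 1 := Nat.le_of_dvd hrpos he2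
    have hSpos : 0 < nS G r := by unfold nS; exact Nat.card_pos
    have hSdvd : nS G r ∣ n := hn ▸ h8_nS_dvd (G := G) r
    have h19le : 19 ≤ nS G r :=
      le_nS (G := G) r hf (hn ▸ hnr) 19 (by norm_num) (hn ▸ h19)
    have hdiv : n / (nS G r * e) = cZ G r := by
      apply Nat.div_eq_of_eq_mul_right (Nat.mul_pos hSpos (Nat.pos_of_ne_zero he0))
      rw [he1]; ring
    rw [List.mem_flatMap]
    refine ⟨nS G r, ?_, ?_⟩
    · rw [List.mem_filter]
      refine ⟨mem_divs (hSdvd.trans hdvd), ?_⟩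
      simp only [Bool.and_eq_true, beq_iff_eq, decide_eq_true_eq]
      exact ⟨⟨nS_mod (G := G) r, h19le⟩, Nat.mod_eq_zero_of_dvd hSdvd⟩
    · rw [List.mem_map]
      refine ⟨e, ?_, ?_⟩
      · rw [List.mem_filter, List.mem_range]
        refine ⟨by omega, ?_⟩
        simp only [Bool.and_eq_true, beq_iff_eq, decide_eq_true_eq]
        refine ⟨⟨⟨by omega, Nat.mod_eq_zero_of_dvd he2⟩, ?_⟩, ?_⟩
        · apply Nat.mod_eq_zero_of_dvd
          rw [he1]
          exact ⟨cZ G r, by ring⟩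
        · rw [hdiv]
          exact Nat.mod_eq_zero_of_dvd he3
      · rw [hdiv]
  · have hmod : ¬ (n % r == 0) = true := by
      rw [beq_iff_eq]
      intro h0
      exact hrn (Nat.dvd_of_mod_eq_zero h0)
    rw [if_neg hmod]
    obtain ⟨h1, h2⟩ := nS_cZ_of_not_dvd (G := G) r (hn ▸ hrn)
    rw [h1, h2, hn]
    exact List.mem_singleton.2 rfl

/-- the statement of the "commuting pairs of Sylow subgroups" lemma, as a hypothesis -/
def PairsHyp (G : Type u) [Group G] : Prop :=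
  ∀ r s : ℕ, r.Prime → s.Prime → r ≠ s → (Nat.card G).factorization r = 1 →
    (Nat.card G).factorization s = 1 →
    (¬ s ∣ cZ G r ∧ ¬ r ∣ cZ G s) ∨
      ∃ x y, s ∣ cZ G r ∧ r ∣ cZ G s ∧ x % s = 1 ∧ x ∣ cZ G r / s ∧ y % r = 1 ∧ y ∣ cZ G s / r ∧
        nS G r * x = nS G s * y

/-- the statement of the count of `r`-singular elements, as a hypothesis -/
def SingHyp (G : Type u) [Group G] : Prop :=
  ∀ r : ℕ, r.Prime → (Nat.card G).factorization r = 1 →
    Set.ncard {g : G | r ∣ orderOf g} = nS G r * (cZ G r - cZ G r / r)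

/-- soundness of `pairOk` -/
theorem pairOk_sound {n : ℕ} (hn : Nat.card G = n) (hdvd : n ∣ 175560) (hP : PairsHyp G)
    (r s : ℕ) (hr : r.Prime) (hs : s.Prime) (hrs : r ≠ s) (hr2 : ¬ r ^ 2 ∣ 175560)
    (hs2 : ¬ s ^ 2 ∣ 175560) :
    pairOk n r s (nS G r, cZ G r) (nS G s, cZ G s) = true := by
  unfold pairOk
  simp only [Bool.or_eq_true, Bool.and_eq_true, bne_iff_ne, beq_iff_eq, ne_eq, List.any_eq_true]
  by_cases hrn : r ∣ n
  swap
  · left; left; left
    intro h0; exact hrn (Nat.dvd_of_mod_eq_zero h0)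
  by_cases hsn : s ∣ n
  swap
  · left; left; right
    intro h0; exact hsn (Nat.dvd_of_mod_eq_zero h0)
  have hfr : (Nat.card G).factorization r = 1 := by
    rw [hn]; exact h8_factorization_eq_one hr hdvd hrn hr2
  have hfs : (Nat.card G).factorization s = 1 := by
    rw [hn]; exact h8_factorization_eq_one hs hdvd hsn hs2
  have : Fact s.Prime := ⟨hs⟩
  rcases hP r s hr hs hrs hfr hfs with ⟨h1, h2⟩ | ⟨x, y, h1, h2, hx1, hx2, hy1, hy2, hxy⟩
  · left; right
    exact ⟨fun h0 => h1 (Nat.dvd_of_mod_eq_zero h0), fun h0 => h2 (Nat.dvd_of_mod_eq_zero h0)⟩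
  · right
    refine ⟨⟨Nat.mod_eq_zero_of_dvd h1, Nat.mod_eq_zero_of_dvd h2⟩, x, ?_, ?_⟩
    · apply mem_divs
      have h3 : cZ G r / s ∣ cZ G r := Nat.div_dvd_of_dvd h1
      exact ((hx2.trans h3).trans (h8_cZ_dvd (G := G) r)).trans (hn ▸ hdvd)
    · have hSpos : 0 < nS G s := by unfold nS; exact Nat.card_pos
      have hdiv : nS G r * x / nS G s = y :=
        Nat.div_eq_of_eq_mul_right hSpos hxy
      simp only [hdiv]
      refine ⟨⟨⟨⟨hx1, Nat.mod_eq_zero_of_dvd hx2⟩, ?_⟩, hy1⟩, Nat.mod_eq_zero_of_dvd hy2⟩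
      rw [hxy]
      exact Nat.mul_mod_right _ _

/-- the data of `G` at the five primes -/
noncomputable def dat (G : Type u) [Group G] : List (ℕ × ℕ × ℕ) :=
  [(3, nS G 3, cZ G 3), (5, nS G 5, cZ G 5), (7, nS G 7, cZ G 7), (11, nS G 11, cZ G 11),
    (19, nS G 19, cZ G 19)]

theorem h8_mem_dat {a : ℕ × ℕ × ℕ} (ha : a ∈ dat G) :
    a = (a.1, nS G a.1, cZ G a.1) ∧ a.1 ∈ [3, 5, 7, 11, 19] := by
  unfold dat at ha
  simp only [List.mem_cons, List.not_mem_nil, or_false] at ha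
  rcases ha with rfl | rfl | rfl | rfl | rfl <;> simp

theorem h8_prime_of_mem {r : ℕ} (hr : r ∈ [3, 5, 7, 11, 19]) :
    r.Prime ∧ ¬ r ^ 2 ∣ 175560 := by
  simp only [List.mem_cons, List.not_mem_nil, or_false] at hr
  rcases hr with rfl | rfl | rfl | rfl | rfl <;> constructor <;> norm_num

/-- soundness of `countOk` -/
theorem countOk_sound {n : ℕ} (hn : Nat.card G = n) (hdvd : n ∣ 175560) (hS : SingHyp G) :
    countOk n (dat G) = true := by
  unfold countOk
  rw [List.all_eq_true]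
  intro T hT
  rw [List.mem_sublists] at hT
  have hTsub : T.Sublist (dat G) := hT.trans List.filter_sublist
  have hmemT : ∀ a ∈ T, a ∈ dat G ∧ a.1 ∣ n := by
    intro a ha
    have h1 := hT.subset ha
    rw [List.mem_filter, beq_iff_eq] at h1
    exact ⟨h1.1, Nat.dvd_of_mod_eq_zero h1.2⟩
  rw [Bool.or_eq_true, Bool.not_eq_true', decide_eq_true_eq]
  by_cases hind : (T.all fun a => T.all fun b => a.1 == b.1 || a.2.2 % b.1 != 0) = true
  swap
  · left
    exact Bool.eq_false_iff.2 hind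
  right
  rw [List.all_eq_true] at hind
  -- the list of primes
  have hnodup : (T.map Prod.fst).Nodup := by
    have h1 : (T.map Prod.fst).Sublist ((dat G).map Prod.fst) := hTsub.map _
    apply h1.nodup
    unfold dat
    simp
  have hsum : (T.map fun a => a.2.1 * (a.2.2 - a.2.2 / a.1)) =
      (T.map Prod.fst).map (fun r => nS G r * (cZ G r - cZ G r / r)) := by
    rw [List.map_map]
    apply List.map_congr_left
    intro a ha
    have h1 := (h8_mem_dat (hmemT a ha).1).1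
    simp only [Function.comp]
    rw [h1]
  rw [hsum, ← hn]
  apply count_list
  · exact hnodup
  · intro r hr
    rw [List.mem_map] at hr
    obtain ⟨a, ha, rfl⟩ := hr
    obtain ⟨h1, h2⟩ := hmemT a ha
    obtain ⟨hp, hp2⟩ := h8_prime_of_mem (h8_mem_dat h1).2
    exact ⟨hp, by rw [hn]; exact h8_factorization_eq_one hp hdvd h2 hp2⟩
  · intro r hr
    rw [List.mem_map] at hr
    obtain ⟨a, ha, rfl⟩ := hr
    obtain ⟨h1, h2⟩ := hmemT a ha
    obtain ⟨hp, hp2⟩ := h8_prime_of_mem (h8_mem_dat h1).2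
    exact hS a.1 hp (by rw [hn]; exact h8_factorization_eq_one hp hdvd h2 hp2)
  · intro r hr s hs hrs hdiv
    rw [List.mem_map] at hr hs
    obtain ⟨a, ha, rfl⟩ := hr
    obtain ⟨b, hb, rfl⟩ := hs
    have h1 := hind a ha
    rw [List.all_eq_true] at h1
    have h2 := h1 b hb
    rw [Bool.or_eq_true, beq_iff_eq, bne_iff_ne] at h2
    rcases h2 with h2 | h2
    · exact hrs h2
    · apply h2
      have h3 := (h8_mem_dat (hmemT a ha).1).1
      rw [h3]
      exact Nat.mod_eq_zero_of_dvd hdiv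

/-- soundness of the checker: the data of a simple group of order `n` survive all tests -/
theorem dat_mem_survivors [IsSimpleGroup G] {n : ℕ} (hn : Nat.card G = n) (hdvd : n ∣ 175560)
    (h19 : 19 ∣ n) (hne : n ≠ 19) (hP : PairsHyp G) (hS : SingHyp G) :
    dat G ∈ survivors n := by
  have p3 : Nat.Prime 3 := by norm_num
  have p5 : Nat.Prime 5 := by norm_num
  have p7 : Nat.Prime 7 := by norm_num
  have p11 : Nat.Prime 11 := by norm_num
  have p19 : Nat.Prime 19 := by norm_num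
  have q3 : ¬ 3 ^ 2 ∣ 175560 := by norm_num
  have q5 : ¬ 5 ^ 2 ∣ 175560 := by norm_num
  have q7 : ¬ 7 ^ 2 ∣ 175560 := by norm_num
  have q11 : ¬ 11 ^ 2 ∣ 175560 := by norm_num
  have q19 : ¬ 19 ^ 2 ∣ 175560 := by norm_num
  have n3 : n ≠ 3 := by rintro rfl; norm_num at h19
  have n5 : n ≠ 5 := by rintro rfl; norm_num at h19
  have n7 : n ≠ 7 := by rintro rfl; norm_num at h19
  have n11 : n ≠ 11 := by rintro rfl; norm_num at h19
  have c3 := mem_cand (G := G) hn hdvd h19 3 p3 q3 n3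
  have c5 := mem_cand (G := G) hn hdvd h19 5 p5 q5 n5
  have c7 := mem_cand (G := G) hn hdvd h19 7 p7 q7 n7
  have c11 := mem_cand (G := G) hn hdvd h19 11 p11 q11 n11
  have c19 := mem_cand (G := G) hn hdvd h19 19 p19 q19 hne
  have P := fun (r s : ℕ) (hr : r.Prime) (hs : s.Prime) (hrs : r ≠ s) (hr2 : ¬ r ^ 2 ∣ 175560)
      (hs2 : ¬ s ^ 2 ∣ 175560) => pairOk_sound (G := G) hn hdvd hP r s hr hs hrs hr2 hs2
  unfold survivors
  rw [List.mem_flatMap]
  refine ⟨(nS G 19, cZ G 19), c19, ?_⟩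
  rw [List.mem_flatMap]
  refine ⟨(nS G 11, cZ G 11), List.mem_filter.2 ⟨c11, ?_⟩, ?_⟩
  · exact P 11 19 p11 p19 (by norm_num) q11 q19
  rw [List.mem_flatMap]
  refine ⟨(nS G 7, cZ G 7), List.mem_filter.2 ⟨c7, ?_⟩, ?_⟩
  · rw [Bool.and_eq_true]
    exact ⟨P 7 19 p7 p19 (by norm_num) q7 q19, P 7 11 p7 p11 (by norm_num) q7 q11⟩
  rw [List.mem_flatMap]
  refine ⟨(nS G 5, cZ G 5), List.mem_filter.2 ⟨c5, ?_⟩, ?_⟩
  · rw [Bool.and_eq_true, Bool.and_eq_true]
    exact ⟨⟨P 5 19 p5 p19 (by norm_num) q5 q19, P 5 11 p5 p11 (by norm_num) q5 q11⟩,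
      P 5 7 p5 p7 (by norm_num) q5 q7⟩
  rw [List.mem_filterMap]
  refine ⟨(nS G 3, cZ G 3), List.mem_filter.2 ⟨c3, ?_⟩, ?_⟩
  · rw [Bool.and_eq_true, Bool.and_eq_true, Bool.and_eq_true]
    exact ⟨⟨⟨P 3 19 p3 p19 (by norm_num) q3 q19, P 3 11 p3 p11 (by norm_num) q3 q11⟩,
      P 3 7 p3 p7 (by norm_num) q3 q7⟩, P 3 5 p3 p5 (by norm_num) q3 q5⟩
  · have hc := countOk_sound (G := G) hn hdvd hS
    unfold dat at hc ⊢
    simp only [hc, if_true]

end Cfsg.Agent.Helper8.Ord19
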