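import Mathlib
import Cfsg.Agent.Helper2.SmallOrder
import Cfsg.Agent.Helper2.SylowExact2
import Cfsg.Agent.Helper2.SimpleSmall3
import Cfsg.Agent.Helper8.Ord756A
import Cfsg.Agent.Helper8.SylAct
import Cfsg.Agent.S0105
import Cfsg.Agent.S0985

set_option autoImplicit false

/-! A simple group of order `720 = 2⁴ · 3² · 5` does not have `40` Sylow `3`-subgroups. -/

namespace Cfsg.Agent.Helper8.Ord720

open Subgroup MulAction Cfsg.Agent.Helper8.Ord756 Cfsg.Agent.Helper8.SylAct

variable {G : Type*} [Group G] [Finite G] [IsSimpleGroup G]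

omit [IsSimpleGroup G] in
theorem card_sylow3 (h : Nat.card G = 720) [Fact (Nat.Prime 3)] (P : Sylow 3 G) :
    Nat.card P = 9 := by
  have := Cfsg.Agent.Helper2.SylowExact.card_sylow_of_exact_pow (s := 3) (k := 2) (m := 80)
    (by rw [h]; norm_num) (by decide) P
  simpa using this

omit [IsSimpleGroup G] in
theorem sylow3_comm (h : Nat.card G = 720) [Fact (Nat.Prime 3)] (P : Sylow 3 G) :
    IsMulCommutative (P : Subgroup G) :=
  IsPGroup.isMulCommutative_of_card_eq_prime_sq (p := 3) (by rw [card_sylow3 h P]; norm_num)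

omit [IsSimpleGroup G] in
theorem sylow3_mul_comm (h : Nat.card G = 720) [Fact (Nat.Prime 3)] (P : Sylow 3 G) {a b : G}
    (ha : a ∈ (P : Subgroup G)) (hb : b ∈ (P : Subgroup G)) : a * b = b * a := by
  have h1 := (sylow3_comm h P).is_comm.comm (⟨a, ha⟩ : (P : Subgroup G)) ⟨b, hb⟩
  exact congrArg Subtype.val h1

omit [IsSimpleGroup G] in
theorem card_normalizer (h : Nat.card G = 720) [Fact (Nat.Prime 3)]
    (h40 : Nat.card (Sylow 3 G) = 40) (P : Sylow 3 G) :
    Nat.card (normalizer ((P : Subgroup G) : Set G)) = 18 := by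
  have h1 : Nat.card (Sylow 3 G) = (normalizer ((P : Subgroup G) : Set G)).index :=
    Sylow.card_eq_index_normalizer P
  have h2 := (normalizer ((P : Subgroup G) : Set G)).card_mul_index
  rw [← h1, h40, h] at h2
  omega

/-- The focal subgroup theorem for the abelian Sylow `3`-subgroup. -/
theorem inf_centralizer_normalizer (h : Nat.card G = 720) [Fact (Nat.Prime 3)] (P : Sylow 3 G) :
    (P : Subgroup G) ⊓ centralizer (normalizer ((P : Subgroup G) : Set G) : Set G) = ⊥ := by
  have hP9 := card_sylow3 h P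
  have key : ∃ (N : Subgroup G) (_ : N.Normal), Nonempty (G ⧸ N ≃* ↥((P : Subgroup G) ⊓
      centralizer (normalizer ((P : Subgroup G) : Set G) : Set G))) :=
    Cfsg.Agent.S0105.result P (sylow3_comm h P)
  obtain ⟨N, hN, ⟨e⟩⟩ := key
  have hY := Nat.card_congr e.toEquiv
  rw [← Subgroup.index_eq_card] at hY
  have h2 : Nat.card ↥((P : Subgroup G) ⊓
      centralizer (normalizer ((P : Subgroup G) : Set G) : Set G)) ∣ 9 :=
    hP9 ▸ card_dvd_of_le inf_le_left
  rcases hN.eq_bot_or_eq_top with h0 | h0
  · exfalso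
    rw [h0, index_bot, h] at hY
    have := Nat.le_of_dvd (by norm_num) h2
    rw [← hY] at this
    omega
  · rw [h0, index_top] at hY
    exact Subgroup.card_eq_one.mp hY.symm

omit [IsSimpleGroup G] [Finite G] in
theorem le_of_card_eighteen {N K P : Subgroup G} (hN : Nat.card N = 18) (hP : Nat.card P = 9)
    (hPN : P ≤ N) (hPK : P ≤ K) {s : G} (hs : orderOf s = 2) (hsN : s ∈ N) (hsK : s ∈ K) :
    N ≤ K := by
  have h9 : 9 ∣ Nat.card ↥(N ⊓ K) := hP ▸ card_dvd_of_le (le_inf hPN hPK)
  have h2 : 2 ∣ Nat.card ↥(N ⊓ K) := by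
    have := orderOf_dvd_natCard (⟨s, hsN, hsK⟩ : ↥(N ⊓ K))
    rwa [← Subgroup.orderOf_coe, hs] at this
  have h18 : Nat.card ↥(N ⊓ K) ∣ 18 := hN ▸ card_dvd_of_le inf_le_left
  have h3 : Nat.card ↥(N ⊓ K) = 18 := by
    have := Nat.le_of_dvd (by norm_num) h18
    generalize Nat.card ↥(N ⊓ K) = c at *
    interval_cases c <;> omega
  have : Finite ↥N := Nat.finite_of_card_ne_zero (by rw [hN]; norm_num)
  have heq : N ⊓ K = N := eq_of_le_of_card_ge inf_le_left (by rw [hN, h3])
  exact heq ▸ inf_le_right

/-- An involution of the normalizer of a Sylow `3`-subgroup inverts it. -/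
theorem exists_inverting (h : Nat.card G = 720) [Fact (Nat.Prime 3)]
    (h40 : Nat.card (Sylow 3 G) = 40) (P : Sylow 3 G) :
    ∃ s ∈ normalizer ((P : Subgroup G) : Set G), orderOf s = 2 ∧
      ∀ x ∈ (P : Subgroup G), s * x * s⁻¹ = x⁻¹ := by
  have hN := card_normalizer h h40 P
  have : Fact (Nat.Prime 2) := ⟨Nat.prime_two⟩
  obtain ⟨s', hs'⟩ := exists_prime_orderOf_dvd_card'
    (G := ↥(normalizer ((P : Subgroup G) : Set G))) 2 (by rw [hN]; norm_num)
  have hs2 : orderOf (s' : G) = 2 := by rwa [Subgroup.orderOf_coe]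
  refine ⟨(s' : G), s'.2, hs2, ?_⟩
  intro x hx
  set s : G := (s' : G) with hs
  have hsN : s ∈ normalizer ((P : Subgroup G) : Set G) := s'.2
  have hss : s * s = 1 := by
    have := pow_orderOf_eq_one s
    rwa [hs2, pow_two] at this
  have hsinv : s⁻¹ = s := inv_eq_of_mul_eq_one_left hss
  have hsx : s * x * s⁻¹ ∈ (P : Subgroup G) := (mem_normalizer_iff.mp hsN x).mp hx
  have hyP : x * (s * x * s⁻¹) ∈ (P : Subgroup G) := mul_mem hx hsx
  have hys : s * (x * (s * x * s⁻¹)) = x * (s * x * s⁻¹) * s := by
    have hc := sylow3_mul_comm h P hx hsx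
    rw [hsinv] at hc ⊢
    calc s * (x * (s * x * s)) = (s * x * s * x) * s := by simp only [mul_assoc]
      _ = x * (s * x * s) * s := by rw [← hc]
  have hle : normalizer ((P : Subgroup G) : Set G) ≤
      centralizer ({x * (s * x * s⁻¹)} : Set G) := by
    refine le_of_card_eighteen hN (card_sylow3 h P) le_normalizer ?_ hs2 hsN ?_
    · intro a ha
      rw [mem_centralizer_iff]
      intro b hb
      rw [Set.mem_singleton_iff] at hb
      rw [hb]
      exact sylow3_mul_comm h P hyP ha
    · rw [mem_centralizer_iff]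
      intro b hb
      rw [Set.mem_singleton_iff] at hb
      rw [hb]
      exact hys.symm
  have hyC : x * (s * x * s⁻¹) ∈
      centralizer (normalizer ((P : Subgroup G) : Set G) : Set G) := by
    rw [mem_centralizer_iff]
    intro n hn
    have := mem_centralizer_iff.mp (hle hn) _ (Set.mem_singleton _)
    exact this.symm
  have hmem : x * (s * x * s⁻¹) ∈ (P : Subgroup G) ⊓
      centralizer (normalizer ((P : Subgroup G) : Set G) : Set G) := ⟨hyP, hyC⟩
  rw [inf_centralizer_normalizer h P, mem_bot] at hmem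
  exact eq_inv_of_mul_eq_one_right hmem

/-- The normalizer of a Sylow `3`-subgroup normalizes each of its subgroups. -/
theorem normalizer_le_normalizer (h : Nat.card G = 720) [Fact (Nat.Prime 3)]
    (h40 : Nat.card (Sylow 3 G) = 40) (P : Sylow 3 G) (D : Subgroup G)
    (hD : D ≤ (P : Subgroup G)) :
    normalizer ((P : Subgroup G) : Set G) ≤ normalizer (D : Set G) := by
  obtain ⟨s, hsN, hs2, hinv⟩ := exists_inverting h h40 P
  refine le_of_card_eighteen (card_normalizer h h40 P) (card_sylow3 h P) le_normalizer ?_ hs2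
    hsN ?_
  · intro a ha
    rw [mem_normalizer_iff]
    intro d
    constructor
    · intro hd
      have : a * d * a⁻¹ = d := by
        rw [sylow3_mul_comm h P ha (hD hd), mul_inv_cancel_right]
      rw [this]; exact hd
    · intro hd
      have hd' : a * d * a⁻¹ ∈ (P : Subgroup G) := hD hd
      have hdP : d ∈ (P : Subgroup G) := by
        have := mul_mem (mul_mem (inv_mem ha) hd') ha
        simpa [mul_assoc] using this
      have : a * d * a⁻¹ = d := by
        rw [sylow3_mul_comm h P ha hdP, mul_inv_cancel_right]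
      rwa [this] at hd
  · rw [mem_normalizer_iff]
    intro d
    constructor
    · intro hd
      rw [hinv d (hD hd)]
      exact inv_mem hd
    · intro hd
      have hss : s * s = 1 := by
        have := pow_orderOf_eq_one s
        rwa [hs2, pow_two] at this
      have hsinv : s⁻¹ = s := inv_eq_of_mul_eq_one_left hss
      have h1 := hinv _ (hD hd)
      have h2 : s * (s * d * s⁻¹) * s⁻¹ = d := by
        rw [hsinv]
        calc s * (s * d * s) * s = (s * s) * d * (s * s) := by group
          _ = d := by rw [hss, one_mul, mul_one]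
      rw [h2] at h1
      have := inv_mem hd
      rwa [← h1] at this

omit [Finite G] [IsSimpleGroup G] in
/-- If the `p`-group `D` has a unique fixed point, an element centralizing `D` fixes `1` mod `p`
points. -/
theorem card_fixedBy_modEq_one {p : ℕ} [Fact p.Prime] (Ω : Type*) [MulAction G Ω] [Finite Ω]
    (D : Subgroup G) (hDp : IsPGroup p D) (v : G) (hvC : v ∈ centralizer (D : Set G)) (ω₀ : Ω)
    (hv : v • ω₀ = ω₀) (h0 : ∀ d ∈ D, d • ω₀ = ω₀)
    (huniq : ∀ ω : Ω, (∀ d ∈ D, d • ω = ω) → ω = ω₀) :
    Nat.card (fixedBy Ω v) ≡ 1 [MOD p] := by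
  have hmodv := card_fixedPoints_modEq_of_commute (p := p) Ω D (zpowers v) hDp
    (fun x hx k hk => by
      obtain ⟨i, rfl⟩ := mem_zpowers_iff.mp hk
      have hc : Commute x v := (mem_centralizer_iff.mp hvC x hx)
      exact (hc.zpow_right i))
  rw [fixedPoints_zpowers_eq] at hmodv
  have hint : fixedBy Ω v ∩ fixedPoints D Ω = {ω₀} := by
    ext ω
    simp only [Set.mem_inter_iff, mem_fixedPoints, Set.mem_singleton_iff, mem_fixedBy]
    constructor
    · rintro ⟨-, h2⟩
      exact huniq ω (fun d hd => h2 ⟨d, hd⟩)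
    · rintro rfl
      exact ⟨hv, fun d => h0 d d.2⟩
  rw [hint, Nat.card_coe_set_eq ({ω₀} : Set Ω), Set.ncard_singleton] at hmodv
  exact hmodv

omit [IsSimpleGroup G] in
/-- Two Sylow `3`-subgroups meeting in a subgroup of order `3`. -/
theorem exists_inter (h : Nat.card G = 720) [Fact (Nat.Prime 3)]
    (h40 : Nat.card (Sylow 3 G) = 40) :
    ∃ P R : Sylow 3 G, P ≠ R ∧ Nat.card ↥((P : Subgroup G) ⊓ (R : Subgroup G)) = 3 := by
  obtain ⟨P, R, hne, hidx⟩ := Cfsg.Agent.S0985.result (G := G) 3 2 (by rw [h40]; decide)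
  refine ⟨P, R, hne, ?_⟩
  have h1 : ((P : Subgroup G) ⊓ (R : Subgroup G)).relIndex (P : Subgroup G) *
      Nat.card ↥((P : Subgroup G) ⊓ (R : Subgroup G)) = Nat.card (P : Subgroup G) :=
    relIndex_mul_card_of_le inf_le_left
  rw [inf_relIndex_left, card_sylow3 h P] at h1
  have h2 : (R : Subgroup G).relIndex (P : Subgroup G) ≤ 3 := by
    simpa [Subgroup.relIndex] using hidx
  have h3 : Nat.card ↥((P : Subgroup G) ⊓ (R : Subgroup G)) ≠ 9 := by
    intro h9
    have : (P : Subgroup G) ⊓ (R : Subgroup G) = (P : Subgroup G) :=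
      eq_of_le_of_card_ge inf_le_left (by rw [h9, card_sylow3 h P])
    have hle : (P : Subgroup G) ≤ (R : Subgroup G) := inf_eq_left.mp this
    exact hne (Sylow.ext (P.is_maximal' R.2 hle).symm)
  have h4 : Nat.card ↥((P : Subgroup G) ⊓ (R : Subgroup G)) ∣ 9 :=
    card_sylow3 h P ▸ card_dvd_of_le inf_le_left
  have h5 := Nat.le_of_dvd (by norm_num) h4
  generalize Nat.card ↥((P : Subgroup G) ⊓ (R : Subgroup G)) = c at *
  generalize (R : Subgroup G).relIndex (P : Subgroup G) = r at *
  interval_cases c <;> omega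

omit [Finite G] in
theorem normalizer_ne_top (T : Subgroup G) (h1 : Nat.card T ≠ 1)
    (h2 : Nat.card T ≠ Nat.card G) : normalizer (T : Set G) ≠ ⊤ := by
  intro htop
  have hn : T.Normal := normalizer_eq_top_iff.mp htop
  rcases hn.eq_bot_or_eq_top with h0 | h0
  · exact h1 (by rw [h0, card_bot])
  · exact h2 (by rw [h0, card_top])

/-- A simple group of order `720` does not have `40` Sylow `3`-subgroups. -/
theorem false_of_card_sylow3_eq_forty (h : Nat.card G = 720) [Fact (Nat.Prime 3)]
    (h40 : Nat.card (Sylow 3 G) = 40) : False := by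
  obtain ⟨P, R, hne, hD3⟩ := exists_inter h h40
  set D : Subgroup G := (P : Subgroup G) ⊓ (R : Subgroup G) with hD
  have hDp : IsPGroup 3 D := P.2.to_le inf_le_left
  set M : Subgroup G := normalizer (D : Set G) with hM
  have hNPM : normalizer ((P : Subgroup G) : Set G) ≤ M :=
    normalizer_le_normalizer h h40 P D inf_le_left
  have hNRM : normalizer ((R : Subgroup G) : Set G) ≤ M :=
    normalizer_le_normalizer h h40 R D inf_le_right
  have hPM : (P : Subgroup G) ≤ M := le_normalizer.trans hNPM
  have hRM : (R : Subgroup G) ≤ M := le_normalizer.trans hNRM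
  have hMtop : M ≠ ⊤ := normalizer_ne_top D (by rw [hD3]; norm_num) (by rw [hD3, h]; norm_num)
  -- the order of `M`
  have hM72 : Nat.card M = 72 := by
    have hcount := Cfsg.Agent.Helper2.SimpleSmall2.card_sylow_subgroup_mul P M hPM
    rw [inf_eq_left.mpr hNPM, card_normalizer h h40 P] at hcount
    have hmod : Nat.card (Sylow 3 M) % 3 = 1 % 3 := card_sylow_modEq_one 3 M
    have hne1 : Nat.card (Sylow 3 M) ≠ 1 := by
      intro h1
      have : Subsingleton (Sylow 3 M) := (Nat.card_eq_one_iff_unique.mp h1).1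
      have h2 : P.subtype hPM = R.subtype hRM := Subsingleton.elim _ _
      have h3 : ((P.subtype hPM : Sylow 3 M) : Subgroup M) =
          ((R.subtype hRM : Sylow 3 M) : Subgroup M) := by rw [h2]
      rw [Sylow.coe_subtype, Sylow.coe_subtype, subgroupOf_inj, inf_eq_left.mpr hPM,
        inf_eq_left.mpr hRM] at h3
      exact hne (Sylow.ext h3)
    have hdvd : Nat.card M ∣ 720 := h ▸ Subgroup.card_subgroup_dvd_card M
    have hk40 : Nat.card (Sylow 3 M) ∣ 40 := by
      have : Nat.card (Sylow 3 M) * 18 ∣ 40 * 18 := by rw [hcount]; exact hdvd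
      exact Nat.dvd_of_mul_dvd_mul_right (by norm_num) this
    have hle := Nat.le_of_dvd (by norm_num) hk40
    have hidx := Cfsg.Agent.Helper2.SmallOrder.card_dvd_factorial_index M hMtop
    have hci := M.card_mul_index
    rw [h] at hidx hci
    have hnot : Nat.card M ≠ 720 := by
      intro h720
      exact hMtop ((card_eq_iff_eq_top M).mp (by rw [h720, h]))
    generalize Nat.card (Sylow 3 M) = k at *
    have hk : k = 4 ∨ k = 10 ∨ k = 40 := by
      interval_cases k <;> omega
    rcases hk with rfl | rfl | rfl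
    · omega
    · exfalso
      have h180 : Nat.card M = 180 := by omega
      rw [h180] at hci
      have h4 : M.index = 4 := by omega
      rw [h4] at hidx
      revert hidx
      decide
    · exfalso
      exact hnot (by omega)
  have hidx10 : M.index = 10 := by
    have hci := M.card_mul_index
    rw [h, hM72] at hci
    omega
  -- an involution centralizing `D`
  have hD3' : Nat.card ↥D = 3 := hD3
  have hcyc : IsCyclic ↥D := isCyclic_of_prime_card hD3'
  have hrel := Cfsg.Agent.Helper2.SmallOrder.relIndex_centralizer_normalizer_dvd D hcyc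
  rw [hD3', Nat.totient_prime (by norm_num : Nat.Prime 3)] at hrel
  have hcm : (centralizer (D : Set G)).relIndex M * Nat.card (centralizer (D : Set G)) =
      Nat.card M := relIndex_mul_card_of_le (centralizer_le_normalizer (D : Set G))
  rw [hM72] at hcm
  have heven : 2 ∣ Nat.card (centralizer (D : Set G)) := by
    have hr := Nat.le_of_dvd (by norm_num) hrel
    generalize (centralizer (D : Set G)).relIndex M = r at *
    interval_cases r <;> omega
  have : Fact (Nat.Prime 2) := ⟨Nat.prime_two⟩
  obtain ⟨v', hv'⟩ := exists_prime_orderOf_dvd_card' (G := ↥(centralizer (D : Set G))) 2 heven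
  have hv2 : orderOf (v' : G) = 2 := by rwa [Subgroup.orderOf_coe]
  set v : G := (v' : G) with hv
  have hvC : v ∈ centralizer (D : Set G) := v'.2
  have hvM : v ∈ M := centralizer_le_normalizer (D : Set G) hvC
  have hvv : v * v = 1 := by
    have := pow_orderOf_eq_one v
    rwa [hv2, pow_two] at this
  -- `D` fixes only the trivial coset
  have hfix : ∀ g : G, (∀ d ∈ D, g⁻¹ * d * g ∈ M) → g ∈ M := by
    intro g hg
    have hginv : g⁻¹ ∈ M := by
      apply mem_normalizer_fintype
      intro x hx
      rw [inv_inv]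
      have hxD : x ∈ D := hx
      set E : Subgroup G := D.map (MulAut.conj g⁻¹).toMonoidHom with hE
      have hEp : IsPGroup 3 E := hDp.map _
      have hEM : E ≤ normalizer (D : Set G) := by
        rintro _ ⟨d, hd, rfl⟩
        have := hg d hd
        simpa [MulAut.conj_apply] using this
      have hsup : IsPGroup 3 ↥(E ⊔ D) := IsPGroup.to_sup_of_normal_right' hEp hDp hEM
      obtain ⟨Q, hQ⟩ := hsup.exists_le_sylow
      have hDQ : D ≤ (Q : Subgroup G) := le_sup_right.trans hQ
      have hxQ : x ∈ Q := hDQ hxD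
      have hgxQ : g⁻¹ * x * g ∈ Q := by
        apply hQ
        apply mem_sup_left
        refine ⟨x, hxD, ?_⟩
        simp
      have := sylow3_comm h Q
      obtain ⟨n, hn, hnx⟩ := Sylow.conj_eq_normalizer_conj_of_mem Q x g hxQ hgxQ
      have hnD : n ∈ normalizer (D : Set G) := normalizer_le_normalizer h h40 Q D hDQ hn
      have hnD' : n⁻¹ ∈ normalizer (D : Set G) := inv_mem hnD
      have := (mem_normalizer_iff.mp hnD' x).mp hxD
      rw [inv_inv] at this
      rw [hnx]
      exact this
    have := inv_mem hginv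
    rwa [inv_inv] at this
  have hvfix : v • ((1 : G) : G ⧸ M) = ((1 : G) : G ⧸ M) := by
    rw [MulAction.Quotient.smul_mk, QuotientGroup.eq]
    simpa using inv_mem hvM
  have hmodv := card_fixedBy_modEq_one (p := 3) (G ⧸ M) D hDp v hvC ((1 : G) : G ⧸ M) hvfix
    (fun d hd => by
      rw [MulAction.Quotient.smul_mk, QuotientGroup.eq]
      have : d ∈ M := le_normalizer hd
      simpa using inv_mem this)
    (fun ω => by
      induction ω using QuotientGroup.induction_on with
      | H g =>
        intro hfix'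
        have hgM : g ∈ M := hfix g (fun d hd => by
          have := hfix' d⁻¹ (inv_mem hd)
          rw [MulAction.Quotient.smul_mk, QuotientGroup.eq] at this
          simpa [mul_assoc] using this)
        rw [QuotientGroup.eq]
        simpa using inv_mem hgM)
  rw [Nat.card_coe_set_eq] at hmodv
  obtain ⟨k, hk⟩ := card_eq_card_fixedBy_add (by omega) (G ⧸ M) v hvv
  rw [← Subgroup.index_eq_card, hidx10, Nat.card_coe_set_eq] at hk
  have hmodv' : (fixedBy (G ⧸ M) v).ncard % 3 = 1 % 3 := hmodv
  have hall : (fixedBy (G ⧸ M) v).ncard = 10 := by omega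
  have huniv : fixedBy (G ⧸ M) v = Set.univ := by
    have : Finite (G ⧸ M) := inferInstance
    rw [Set.eq_univ_iff_ncard, hall, ← Subgroup.index_eq_card, hidx10]
  have hvker : v ∈ M.normalCore := by
    rw [normalCore_eq_ker, MonoidHom.mem_ker]
    ext ω
    have : ω ∈ fixedBy (G ⧸ M) v := by rw [huniv]; trivial
    simpa using this
  rcases (normalCore_normal M).eq_bot_or_eq_top with h0 | h0
  · rw [h0, mem_bot] at hvker
    rw [hvker, orderOf_one] at hv2
    omega
  · exact hMtop (top_le_iff.mp (h0 ▸ normalCore_le M))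

end Cfsg.Agent.Helper8.Ord720
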