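import Mathlib
import Cfsg.Agent.Helper8.Ord19Defs
import Cfsg.Agent.Helper8.Ord19Lib
import Cfsg.Agent.Helper8.Ord19Check
import Cfsg.Agent.S0496

set_option autoImplicit false

/-!
# S4274: there is no simple group of order `19 d` for `d ∣ 9240`, `1 < d < 9240`
(modulo the two counting lemmas `PairsHyp`, `SingHyp` and the special case of order 2280, which are
hypotheses here)
-/

namespace Cfsg.Agent.Helper8.Ord19

universe u

/-- the orders `19 d > 1092` other than `2280` -/
def bigOrders : List ℕ :=
  [1140, 1254, 1330, 1463, 1596, 1672, 1995, 2090, 2508, 2660, 2926, 3135, 3192, 3990, 4180, 4389,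
    5016, 5320, 5852, 6270, 7315, 7980, 8360, 8778, 11704, 12540, 14630, 15960, 17556, 21945, 25080,
    29260, 35112, 43890, 58520, 87780]

set_option maxRecDepth 100000 in
theorem survivors_bigOrders : ∀ n ∈ bigOrders, survivors n = [] := by decide

set_option maxRecDepth 100000 in
theorem survivors_2280 : survivors 2280 =
    [[(3, 76, 15), (5, 76, 15), (7, 1, 2280), (11, 1, 2280), (19, 20, 38)],
      [(3, 76, 15), (5, 76, 15), (7, 1, 2280), (11, 1, 2280), (19, 20, 19)]] := by decide

set_option maxRecDepth 100000 in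
theorem h8_divs_cases : ∀ n ∈ divs, 19 ∣ n → 1092 < n → n ≠ 175560 → n = 2280 ∨ n ∈ bigOrders := by
  decide

variable {G : Type u} [Group G] [Finite G]

theorem no_simple_19d [IsSimpleGroup G] (hP : PairsHyp G) (hS : SingHyp G)
    (h2280 : Nat.card G = 2280 → nS G 19 = 20 → ¬ 3 ∣ cZ G 19 → cZ G 3 = 15 → False)
    (d : ℕ) (hd : d ∣ 9240) (h1 : 1 < d) (h2 : d < 9240) (h : Nat.card G = 19 * d) : False := by
  have hdvd : 19 * d ∣ 175560 := by
    have : (175560 : ℕ) = 19 * 9240 := by norm_num
    rw [this]
    exact Nat.mul_dvd_mul_left 19 hd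
  have h19 : 19 ∣ 19 * d := Dvd.intro d rfl
  by_cases hsmall : 19 * d ≤ 1092
  · -- small orders: S0496
    have hnc : ¬ IsMulCommutative G := by
      intro hc
      let inst : CommGroup G :=
        { (inferInstance : Group G) with mul_comm := fun a b => hc.is_comm.comm a b }
      have hprime := @IsSimpleGroup.prime_card G inst _
      rw [h] at hprime
      have h3 := (Nat.prime_mul_iff.1 hprime)
      rcases h3 with ⟨_, h4⟩ | ⟨_, h4⟩
      · omega
      · norm_num at h4
    have h5 := Cfsg.Agent.S0496.result (G := G) hnc (by rw [h]; exact hsmall)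
    rw [h] at h5
    omega
  · have hmem : 19 * d ∈ divs := mem_divs hdvd
    have hne : 19 * d ≠ 175560 := by omega
    have hne19 : 19 * d ≠ 19 := by omega
    have hsurv := dat_mem_survivors (G := G) h hdvd h19 hne19 hP hS
    rcases h8_divs_cases (19 * d) hmem h19 (by omega) hne with h6 | h6
    · rw [h6, survivors_2280] at hsurv
      rw [h6] at h
      unfold dat at hsurv
      simp only [List.mem_cons, List.cons.injEq, Prod.mk.injEq, List.not_mem_nil, or_false,
        and_true, true_and] at hsurv
      rcases hsurv with hs | hs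
      · apply h2280 h hs.2.2.2.2.1 _ hs.1.2
        rw [hs.2.2.2.2.2]; norm_num
      · apply h2280 h hs.2.2.2.2.1 _ hs.1.2
        rw [hs.2.2.2.2.2]; norm_num
    · rw [survivors_bigOrders _ h6] at hsurv
      exact absurd hsurv (List.not_mem_nil)

end Cfsg.Agent.Helper8.Ord19
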