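import Mathlib
import Cfsg.Agent.Helper2.SmallOrder

set_option autoImplicit false

/-! A simple group of order `4032 = 2⁶ · 3² · 7` has no subgroup of index `8`: it would embed in
the alternating group of degree `8` as a subgroup of index `5`. -/

namespace Cfsg.Agent.Helper8.Ord4032

open Subgroup

variable {G : Type*} [Group G] [Finite G] [IsSimpleGroup G]

/-- A simple group of order `4032` has no subgroup of index `8`. -/
theorem index_ne_eight (h : Nat.card G = 4032) (H : Subgroup G) : H.index ≠ 8 := by
  classical
  intro h8
  have hfin : Fintype (G ⧸ H) := Fintype.ofFinite _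
  have hcard8 : Nat.card (G ⧸ H) = 8 := h8
  have hHtop : H ≠ ⊤ := by
    intro htop
    rw [htop, index_top] at h8
    omega
  -- the action on the cosets is faithful
  have hker : (MulAction.toPermHom G (G ⧸ H)).ker = ⊥ := by
    rcases (MonoidHom.normal_ker (MulAction.toPermHom G (G ⧸ H))).eq_bot_or_eq_top with h0 | h0
    · exact h0
    · exfalso
      apply hHtop
      rw [eq_top_iff, ← h0, ← Subgroup.normalCore_eq_ker]
      exact Subgroup.normalCore_le H
  have hinj : Function.Injective (MulAction.toPermHom G (G ⧸ H)) :=
    (MonoidHom.ker_eq_bot_iff _).mp hker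
  -- the image lies in the alternating group
  have hsign : ∀ g : G, Equiv.Perm.sign (MulAction.toPermHom G (G ⧸ H) g) = 1 := by
    intro g
    let s : G →* ℤˣ := (Equiv.Perm.sign).comp (MulAction.toPermHom G (G ⧸ H))
    rcases (MonoidHom.normal_ker s).eq_bot_or_eq_top with h0 | h0
    · exfalso
      have hsinj : Function.Injective s := (MonoidHom.ker_eq_bot_iff _).mp h0
      have hle := Nat.card_le_card_of_injective s hsinj
      rw [h] at hle
      have : Nat.card ℤˣ = 2 := by simp
      omega
    · have hg : g ∈ s.ker := by rw [h0]; trivial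
      exact MonoidHom.mem_ker.mp hg
  let ψ : G →* alternatingGroup (G ⧸ H) :=
    (MulAction.toPermHom G (G ⧸ H)).codRestrict (alternatingGroup (G ⧸ H))
      (fun g => Equiv.Perm.mem_alternatingGroup.mpr (hsign g))
  have hψinj : Function.Injective ψ := by
    intro a b hab
    apply hinj
    have := congrArg Subtype.val hab
    exact this
  have hnt : Nontrivial (G ⧸ H) := by
    rw [← Finite.one_lt_card_iff_nontrivial, hcard8]
    norm_num
  have hA : Nat.card (alternatingGroup (G ⧸ H)) = 20160 := by
    rw [nat_card_alternatingGroup, hcard8]
    decide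
  have hsimple : IsSimpleGroup (alternatingGroup (G ⧸ H)) :=
    alternatingGroup.isSimpleGroup (by rw [hcard8]; norm_num)
  have hK : Nat.card ψ.range = 4032 := by
    rw [← h]
    exact (Nat.card_congr (Equiv.ofInjective ψ hψinj)).symm
  have hKtop : ψ.range ≠ ⊤ := by
    intro htop
    rw [htop, card_top, hA] at hK
    omega
  have hidx : ψ.range.index = 5 := by
    have := ψ.range.card_mul_index
    rw [hK, hA] at this
    omega
  have hdvd := Cfsg.Agent.Helper2.SmallOrder.card_dvd_factorial_index ψ.range hKtop
  rw [hA, hidx] at hdvd
  exact absurd hdvd (by decide)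

/-- A simple group of order `4032` has no proper subgroup of index at most `8`. -/
theorem eight_lt_index (h : Nat.card G = 4032) (H : Subgroup G) (hH : H ≠ ⊤) : 8 < H.index := by
  by_contra hle
  push Not at hle
  have hdvd := Cfsg.Agent.Helper2.SmallOrder.card_dvd_factorial_index H hH
  rw [h] at hdvd
  have h8 := index_ne_eight h H
  have h0 : H.index ≠ 0 := index_ne_zero_of_finite
  generalize H.index = n at *
  interval_cases n <;> first | omega | exact absurd hdvd (by decide)

end Cfsg.Agent.Helper8.Ord4032
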