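import Mathlib
import Cfsg.Agent.Helper2.SmallOrder
import Cfsg.Agent.Helper2.SylowExact2
import Cfsg.Agent.Helper8.Ord756A
import Cfsg.Agent.Helper8.SylAct
import Cfsg.Agent.Helper8.Ord4032_idx8

set_option autoImplicit false

/-! A simple group of order `4032 = 2⁶ · 3² · 7` does not have exactly `64` Sylow `7`-subgroups,
part A: the `7`-local analysis.  With `R` a Sylow `7`-subgroup, `|N(R)| = 63`, `|C(R)| = 21`, and
an element `z` of order `3` of `C(R)` has `C(z) = N(R)`. -/

namespace Cfsg.Agent.Helper8.Ord4032

open Subgroup Cfsg.Agent.Helper8.Ord756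

variable {G : Type*} [Group G] [Finite G] [IsSimpleGroup G]

omit [Finite G] in
theorem normalizer_ne_top (h : Nat.card G = 4032) (T : Subgroup G) (h1 : Nat.card T ≠ 1)
    (h2 : Nat.card T ≠ 4032) : normalizer (T : Set G) ≠ ⊤ := by
  intro htop
  have hn : T.Normal := normalizer_eq_top_iff.mp htop
  rcases hn.eq_bot_or_eq_top with h0 | h0
  · exact h1 (by rw [h0, card_bot])
  · exact h2 (by rw [h0, card_top, h])

omit [IsSimpleGroup G] in
theorem card_sylow7 (h : Nat.card G = 4032) [Fact (Nat.Prime 7)] (P : Sylow 7 G) :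
    Nat.card P = 7 := by
  have := Cfsg.Agent.Helper2.SylowExact.card_sylow_of_exact_pow (s := 7) (k := 1) (m := 576)
    (by rw [h]; norm_num) (by decide) P
  simpa using this

omit [IsSimpleGroup G] in
theorem card_sylow3 (h : Nat.card G = 4032) [Fact (Nat.Prime 3)] (P : Sylow 3 G) :
    Nat.card P = 9 := by
  have := Cfsg.Agent.Helper2.SylowExact.card_sylow_of_exact_pow (s := 3) (k := 2) (m := 448)
    (by rw [h]; norm_num) (by decide) P
  simpa using this

omit [IsSimpleGroup G] in
theorem card_normalizer7 (h : Nat.card G = 4032) [Fact (Nat.Prime 7)]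
    (h64 : Nat.card (Sylow 7 G) = 64) (P : Sylow 7 G) :
    Nat.card (normalizer ((P : Subgroup G) : Set G)) = 63 := by
  have hmul := Cfsg.Agent.Helper2.SmallOrder.card_normalizer_mul_card_sylow P
  rw [h64, h] at hmul
  omega

/-- Burnside: a Sylow subgroup of a simple group of order `4032` is not central in its
normalizer, unless it is trivial. -/
theorem not_normalizer_le_centralizer (h : Nat.card G = 4032) {p : ℕ} [Fact p.Prime]
    (P : Sylow p G) (h1 : Nat.card P ≠ 1) (h2 : Nat.card P ≠ 4032) :
    ¬ normalizer ((P : Subgroup G) : Set G) ≤ centralizer ((P : Subgroup G) : Set G) := by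
  intro hle
  have hcomp := MonoidHom.ker_transferSylow_isComplement' P hle
  have hidx : (MonoidHom.transferSylow P hle).ker.index = Nat.card P :=
    hcomp.symm.index_eq_card
  exact Cfsg.Agent.Helper2.SmallOrder.false_of_normal_index (MonoidHom.transferSylow P hle).ker
    (by rw [hidx]; exact h1) (by rw [hidx, h]; exact h2)

theorem card_centralizer7 (h : Nat.card G = 4032) [Fact (Nat.Prime 7)]
    (h64 : Nat.card (Sylow 7 G) = 64) (P : Sylow 7 G) :
    Nat.card (centralizer ((P : Subgroup G) : Set G)) = 21 := by
  have hP := card_sylow7 h P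
  have hN := card_normalizer7 h h64 P
  have hcyc : IsCyclic (P : Subgroup G) := by
    have : Fact (Nat.card (P : Subgroup G)).Prime := by rw [hP]; exact ⟨by norm_num⟩
    exact isCyclic_of_prime_card rfl
  have hrel := Cfsg.Agent.Helper2.SmallOrder.relIndex_centralizer_normalizer_dvd (P : Subgroup G) hcyc
  rw [hP, Nat.totient_prime (by norm_num : Nat.Prime 7)] at hrel
  have hcard := relIndex_mul_card_of_le (centralizer_le_normalizer ((P : Subgroup G) : Set G))
  rw [hN] at hcard
  have hcomm : IsMulCommutative (P : Subgroup G) := hcyc.isMulCommutative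
  have hPC : (P : Subgroup G) ≤ centralizer ((P : Subgroup G) : Set G) :=
    le_centralizer_iff_isMulCommutative.mpr hcomm
  have h7 : 7 ∣ Nat.card (centralizer ((P : Subgroup G) : Set G)) := by
    have := card_dvd_of_le hPC
    rwa [hP] at this
  have hne1 : (centralizer ((P : Subgroup G) : Set G)).relIndex
      (normalizer ((P : Subgroup G) : Set G)) ≠ 1 := by
    intro h1
    exact not_normalizer_le_centralizer h P (by rw [hP]; norm_num) (by rw [hP]; norm_num)
      (relIndex_eq_one.mp h1)
  obtain ⟨c, hc⟩ := h7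
  generalize (centralizer ((P : Subgroup G) : Set G)).relIndex
    (normalizer ((P : Subgroup G) : Set G)) = r at hrel hcard hne1
  have hr : r ≤ 6 := Nat.le_of_dvd (by norm_num) hrel
  rw [hc] at hcard ⊢
  interval_cases r <;> omega

end Cfsg.Agent.Helper8.Ord4032
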