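import Mathlib
import Cfsg.Agent.Helper8.Ord4032_n64a

set_option autoImplicit false

/-! A simple group of order `4032` does not have exactly `64` Sylow `7`-subgroups, part B:
an element `z` of order `3` centralizing a Sylow `7`-subgroup `R` has `C(z) = N(R)`. -/

namespace Cfsg.Agent.Helper8.Ord4032

open Subgroup Cfsg.Agent.Helper8.Ord756

variable {G : Type*} [Group G] [Finite G] [IsSimpleGroup G]

omit [IsSimpleGroup G] in
/-- An element centralizing `z` normalizes the cyclic group generated by `z`. -/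
theorem centralizer_le_normalizer_zpowers (z : G) :
    centralizer ({z} : Set G) ≤ normalizer ((zpowers z : Subgroup G) : Set G) := by
  intro g hg
  rw [mem_centralizer_singleton_iff] at hg
  have hcomm : ∀ w ∈ zpowers z, g * w * g⁻¹ = w := by
    intro w hw
    obtain ⟨k, rfl⟩ := mem_zpowers_iff.mp hw
    have : Commute g (z ^ k) := (Commute.zpow_right (show Commute g z from hg) k)
    rw [this.eq, mul_inv_cancel_right]
  rw [mem_normalizer_iff]
  intro w
  constructor
  · intro hw
    rw [hcomm w hw]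
    exact hw
  · intro hw
    have h1 := hcomm _ hw
    have h2 : g * w * g⁻¹ = w := by
      have : g * (g * w * g⁻¹) * g⁻¹ = g * w * g⁻¹ := h1
      have h3 : g * (g * w * g⁻¹) * g⁻¹ = g * (g * w * g⁻¹) * g⁻¹ := rfl
      have h4 := congrArg (fun t => g⁻¹ * t * g) this
      simpa [mul_assoc] using h4
    rw [← h2]
    exact hw

theorem exists_order_three (h : Nat.card G = 4032) [Fact (Nat.Prime 7)] [Fact (Nat.Prime 3)]
    (h64 : Nat.card (Sylow 7 G) = 64) (P : Sylow 7 G) :
    ∃ z ∈ centralizer ((P : Subgroup G) : Set G), orderOf z = 3 := by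
  have hC := card_centralizer7 h h64 P
  have h3 : 3 ∣ Nat.card (centralizer ((P : Subgroup G) : Set G)) := by rw [hC]; norm_num
  obtain ⟨⟨y, hyC⟩, hy⟩ := exists_prime_orderOf_dvd_card'
    (G := centralizer ((P : Subgroup G) : Set G)) 3 h3
  rw [Subgroup.orderOf_mk] at hy
  exact ⟨y, hyC, hy⟩

/-- The elements of order `3` of `C(R)` are `z` and `z⁻¹`. -/
theorem eq_or_eq_inv_of_order_three (h : Nat.card G = 4032) [Fact (Nat.Prime 7)]
    (h64 : Nat.card (Sylow 7 G) = 64) (P : Sylow 7 G) (z : G)
    (hz : z ∈ centralizer ((P : Subgroup G) : Set G)) (hz3 : orderOf z = 3) (x : G)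
    (hx : x ∈ centralizer ((P : Subgroup G) : Set G)) (hx3 : orderOf x = 3) :
    x = z ∨ x = z⁻¹ := by
  have hC := card_centralizer7 h h64 P
  have hP := card_sylow7 h P
  have hZ : Nat.card (zpowers z) = 3 := by rw [Nat.card_zpowers, hz3]
  have hcomm : IsMulCommutative (P : Subgroup G) := by
    have : Fact (Nat.card (P : Subgroup G)).Prime := by rw [hP]; exact ⟨by norm_num⟩
    exact (isCyclic_of_prime_card rfl).isMulCommutative
  have hPC : (P : Subgroup G) ≤ centralizer ((P : Subgroup G) : Set G) :=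
    le_centralizer_iff_isMulCommutative.mpr hcomm
  have hZC : zpowers z ≤ centralizer ((P : Subgroup G) : Set G) := zpowers_le.mpr hz
  have hdisj : (P : Subgroup G) ⊓ zpowers z = ⊥ :=
    (disjoint_of_coprime_natCard (by rw [hP, hZ]; norm_num)).eq_bot
  let f : ↥(P : Subgroup G) × ↥(zpowers z) → ↥(centralizer ((P : Subgroup G) : Set G)) :=
    fun p => ⟨(p.1 : G) * (p.2 : G), mul_mem (hPC p.1.2) (hZC p.2.2)⟩
  have hinj : Function.Injective f := by
    rintro ⟨q, w⟩ ⟨q', w'⟩ hqq
    have h1 : (q : G) * (w : G) = (q' : G) * (w' : G) := congrArg Subtype.val hqq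
    have h2 : (q' : G)⁻¹ * (q : G) = (w' : G) * (w : G)⁻¹ := by
      calc (q' : G)⁻¹ * (q : G) = (q' : G)⁻¹ * ((q : G) * (w : G)) * (w : G)⁻¹ := by group
        _ = (q' : G)⁻¹ * ((q' : G) * (w' : G)) * (w : G)⁻¹ := by rw [h1]
        _ = (w' : G) * (w : G)⁻¹ := by group
    have h3 : (q' : G)⁻¹ * (q : G) ∈ (P : Subgroup G) ⊓ zpowers z := by
      rw [mem_inf]
      refine ⟨mul_mem (inv_mem q'.2) q.2, ?_⟩
      rw [h2]
      exact mul_mem w'.2 (inv_mem w.2)
    rw [hdisj, mem_bot] at h3
    have hq : (q : G) = (q' : G) := by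
      have := congrArg (fun t => (q' : G) * t) h3
      simpa using this
    have hw : (w : G) = (w' : G) := by
      rw [hq] at h1
      exact mul_left_cancel h1
    exact Prod.ext (Subtype.ext hq) (Subtype.ext hw)
  have hbij : Function.Bijective f :=
    Function.Injective.bijective_of_nat_card_le hinj (by rw [Nat.card_prod, hP, hZ, hC])
  obtain ⟨⟨q, w⟩, hqw⟩ := hbij.2 ⟨x, hx⟩
  have hxqw : (q : G) * (w : G) = x := congrArg Subtype.val hqw
  have hw3 : (w : G) ^ 3 = 1 := by
    obtain ⟨k, hk⟩ := mem_zpowers_iff.mp w.2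
    rw [← hk, ← zpow_natCast, ← zpow_mul, mul_comm, zpow_mul, zpow_natCast, ← hz3,
      pow_orderOf_eq_one, one_zpow]
  have hqwc : Commute (q : G) (w : G) := by
    have := (mem_centralizer_iff.mp (hZC w.2)) q q.2
    exact this
  have hq3 : (q : G) ^ 3 = 1 := by
    have hx1 : x ^ 3 = 1 := by rw [← hx3]; exact pow_orderOf_eq_one x
    rw [← hxqw, hqwc.mul_pow, hw3, mul_one] at hx1
    exact hx1
  have hq7 : (q : G) ^ 7 = 1 := by
    have := pow_card_eq_one' (G := ↥(P : Subgroup G)) (x := q)
    rw [hP] at this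
    have := congrArg Subtype.val this
    simpa using this
  have hq1 : (q : G) = 1 := by
    calc (q : G) = (q : G) ^ 7 * ((q : G) ^ 3)⁻¹ * ((q : G) ^ 3)⁻¹ := by group
      _ = 1 := by rw [hq7, hq3]; simp
  rw [hq1, one_mul] at hxqw
  obtain ⟨k, hk⟩ := mem_zpowers_iff.mp w.2
  rw [hxqw] at hk
  have hmod : z ^ (k % 3) = x := by
    have := zpow_mod_orderOf z k
    rw [hz3, hk] at this
    exact_mod_cast this
  have hz3' : z ^ 3 = 1 := by rw [← hz3]; exact pow_orderOf_eq_one z
  have hk0 : 0 ≤ k % 3 := Int.emod_nonneg k (by norm_num)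
  have hk3 : k % 3 < 3 := Int.emod_lt_of_pos k (by norm_num)
  have hcases : k % 3 = 0 ∨ k % 3 = 1 ∨ k % 3 = 2 := by omega
  rcases hcases with h0 | h1 | h2
  · rw [h0, zpow_zero] at hmod
    rw [← hmod, orderOf_one] at hx3
    omega
  · left
    rw [h1, zpow_one] at hmod
    exact hmod.symm
  · right
    rw [h2] at hmod
    rw [← hmod]
    have : z ^ (2 : ℤ) * z = 1 := by
      rw [← zpow_add_one]
      norm_num
      exact_mod_cast hz3'
    exact eq_inv_of_mul_eq_one_left this

theorem normalizer_le_centralizer_z (h : Nat.card G = 4032) [Fact (Nat.Prime 7)]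
    (h64 : Nat.card (Sylow 7 G) = 64) (P : Sylow 7 G) (z : G)
    (hz : z ∈ centralizer ((P : Subgroup G) : Set G)) (hz3 : orderOf z = 3) :
    normalizer ((P : Subgroup G) : Set G) ≤ centralizer ({z} : Set G) := by
  intro n hn
  have hN := card_normalizer7 h h64 P
  have hconj : n * z * n⁻¹ ∈ centralizer ((P : Subgroup G) : Set G) :=
    Cfsg.Agent.Helper8.SylAct.conj_mem_centralizer (P : Subgroup G) hn hz
  have hord : orderOf (n * z * n⁻¹) = 3 := by
    rw [← hz3, ← MulAut.conj_apply]
    exact MulEquiv.orderOf_eq (MulAut.conj n) z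
  have hn63 : n ^ 63 = 1 := by
    have := pow_card_eq_one' (G := ↥(normalizer ((P : Subgroup G) : Set G))) (x := ⟨n, hn⟩)
    rw [hN] at this
    have := congrArg Subtype.val this
    simpa using this
  rcases eq_or_eq_inv_of_order_three h h64 P z hz hz3 _ hconj hord with h1 | h1
  · rw [mem_centralizer_singleton_iff]
    have := congrArg (fun t => t * n) h1
    simpa using this
  · have h2 : n ^ 2 ∈ centralizer ({z} : Set G) := by
      rw [mem_centralizer_singleton_iff]
      have h3 : n * z⁻¹ * n⁻¹ = z := by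
        have := congrArg (fun t => t⁻¹) h1
        simpa [mul_assoc] using this
      have h4 : n * (n * z * n⁻¹) * n⁻¹ = z := by rw [h1]; exact h3
      calc n ^ 2 * z = n * (n * z * n⁻¹) * n⁻¹ * n ^ 2 := by
            rw [pow_two]
            simp only [mul_assoc, inv_mul_cancel_left, inv_mul_cancel, mul_one]
        _ = z * n ^ 2 := by rw [h4]
    have h5 : n = (n ^ 2) ^ 32 := by
      rw [← pow_mul]
      calc n = n ^ 63 * n := by rw [hn63, one_mul]
        _ = n ^ (2 * 32) := by rw [← pow_succ]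
    rw [h5]
    exact pow_mem h2 32

theorem centralizer_z_eq (h : Nat.card G = 4032) [Fact (Nat.Prime 7)]
    (h64 : Nat.card (Sylow 7 G) = 64) (P : Sylow 7 G) (z : G)
    (hz : z ∈ centralizer ((P : Subgroup G) : Set G)) (hz3 : orderOf z = 3) :
    centralizer ({z} : Set G) = normalizer ((P : Subgroup G) : Set G) := by
  have hN := card_normalizer7 h h64 P
  have hle := normalizer_le_centralizer_z h h64 P z hz hz3
  obtain ⟨k, hk, hcard⟩ := Cfsg.Agent.Helper8.SylAct.card_eq_mul_of_normalizer_le P _ hle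
  rw [hN] at hcard
  have hdvd : Nat.card (centralizer ({z} : Set G)) ∣ 4032 := by
    rw [← h]
    exact card_subgroup_dvd_card _
  have hidx := (centralizer ({z} : Set G)).card_mul_index
  rw [h] at hidx
  unfold Nat.ModEq at hk
  rw [hcard] at hdvd hidx
  have hk64 : k ∣ 64 := by
    have : k * 63 ∣ 64 * 63 := by simpa using hdvd
    exact Nat.dvd_of_mul_dvd_mul_right (by norm_num) this
  have hkle : k ≤ 64 := Nat.le_of_dvd (by norm_num) hk64
  have hcases : k = 1 ∨ k = 8 ∨ k = 64 := by
    interval_cases k <;> omega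
  rcases hcases with rfl | rfl | rfl
  · exact (eq_of_le_of_card_ge hle (by rw [hcard, hN])).symm
  · exfalso
    apply index_ne_eight h (centralizer ({z} : Set G))
    omega
  · exfalso
    have htop : centralizer ({z} : Set G) = ⊤ := by
      apply eq_top_of_card_eq
      rw [hcard, h]
    apply normalizer_ne_top h (zpowers z) (by rw [Nat.card_zpowers, hz3]; norm_num)
      (by rw [Nat.card_zpowers, hz3]; norm_num)
    rw [eq_top_iff, ← htop]
    exact centralizer_le_normalizer_zpowers z

end Cfsg.Agent.Helper8.Ord4032
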