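import Mathlib

set_option autoImplicit false

/-! General lemmas for the case `n₇ = 64` of order `4032`: sizes of orbits under conjugation by a
subgroup, subgroups normalizing each other, and an abelian group of order `9` whose normalizer acts
with a regular orbit. -/

namespace Cfsg.Agent.Helper8.Ord4032

open Subgroup

/-- The number of `K`-conjugates of `z` times the order of the centralizer of `z` in `K` is the
order of `K`. -/
theorem ncard_conj_mul_card {G : Type*} [Group G] (K D : Subgroup G) (z : G)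
    (hDK : D ≤ K) (hD : ∀ n ∈ K, n * z = z * n ↔ n ∈ D) :
    ({x : G | ∃ n ∈ K, x = n * z * n⁻¹} : Set G).ncard * Nat.card D = Nat.card K := by
  let act : MulAction ↥K G :=
    MulAction.compHom G ((MulAut.conj : G →* MulAut G).comp K.subtype)
  have horb : @MulAction.orbit ↥K G act.toSMul z = {x : G | ∃ n ∈ K, x = n * z * n⁻¹} := by
    ext x
    constructor
    · rintro ⟨n, rfl⟩
      exact ⟨n, n.2, rfl⟩
    · rintro ⟨n, hn, rfl⟩
      exact ⟨⟨n, hn⟩, rfl⟩
  have hstab : @MulAction.stabilizer ↥K G _ act z = D.subgroupOf K := by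
    ext n
    rw [mem_subgroupOf, ← hD n n.2]
    change (n : G) * z * (n : G)⁻¹ = z ↔ _
    constructor
    · intro h
      calc (n : G) * z = (n : G) * z * (n : G)⁻¹ * n := by group
        _ = z * n := by rw [h]
    · intro h
      rw [h]
      group
  have h1 := @MulAction.index_stabilizer ↥K G _ act z
  rw [horb, hstab] at h1
  have h2 := (D.subgroupOf K).card_mul_index
  rw [h1, Nat.card_congr (subgroupOfEquivOfLe hDK).toEquiv] at h2
  rw [mul_comm]
  exact h2

/-- Two subgroups normalizing each other and meeting trivially commute elementwise. -/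
theorem commute_of_normalize {G : Type*} [Group G] (A B : Subgroup G)
    (hA : A ≤ normalizer (B : Set G)) (hB : B ≤ normalizer (A : Set G)) (hAB : A ⊓ B = ⊥) :
    ∀ a ∈ A, ∀ b ∈ B, a * b = b * a := by
  intro a ha b hb
  have h1 : a * b * a⁻¹ * b⁻¹ ∈ A ⊓ B := by
    rw [mem_inf]
    constructor
    · have : b * a⁻¹ * b⁻¹ ∈ A := (mem_normalizer_iff.mp (hB hb) a⁻¹).mp (inv_mem ha)
      have h2 : a * b * a⁻¹ * b⁻¹ = a * (b * a⁻¹ * b⁻¹) := by group
      rw [h2]
      exact mul_mem ha this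
    · have : a * b * a⁻¹ ∈ B := (mem_normalizer_iff.mp (hA ha) b).mp hb
      exact mul_mem this (inv_mem hb)
  rw [hAB, mem_bot] at h1
  calc a * b = a * b * a⁻¹ * b⁻¹ * (b * a) := by group
    _ = b * a := by rw [h1, one_mul]

/-- Let `A` be an abelian group of order `9` whose normalizer `K` has order `9w` with
`w ≡ 1 (mod 3)`, `w ≠ 1`, and let `z ∈ A` be a non-identity element with `C_K(z) = A`.  Then `z` is
conjugate to its inverse in `K`. -/
theorem exists_conj_inv {G : Type*} [Group G] [Finite G] (A : Subgroup G)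
    (hA : ∀ a ∈ A, ∀ b ∈ A, a * b = b * a) (hcard : Nat.card A = 9) (z : G) (hz : z ∈ A)
    (hz1 : z ≠ 1) (hstab : ∀ n ∈ normalizer (A : Set G), n * z = z * n → n ∈ A) (w : ℕ)
    (hK : Nat.card (normalizer (A : Set G)) = 9 * w) (hw : w % 3 = 1) (hw1 : w ≠ 1) :
    ∃ n ∈ normalizer (A : Set G), n * z * n⁻¹ = z⁻¹ := by
  classical
  by_contra hno
  push Not at hno
  have hAK : A ≤ normalizer (A : Set G) := le_normalizer
  have hD : ∀ n ∈ normalizer (A : Set G), n * z = z * n ↔ n ∈ A :=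
    fun n hn => ⟨hstab n hn, fun hnA => hA n hnA z hz⟩
  have hD' : ∀ n ∈ normalizer (A : Set G), n * z⁻¹ = z⁻¹ * n ↔ n ∈ A := by
    intro n hn
    rw [← hD n hn]
    exact (Commute.inv_right_iff (a := n) (b := z))
  have hO := ncard_conj_mul_card (normalizer (A : Set G)) A z hAK hD
  have hO' := ncard_conj_mul_card (normalizer (A : Set G)) A z⁻¹ hAK hD'
  have hsub : {x : G | ∃ n ∈ normalizer (A : Set G), x = n * z * n⁻¹} ⊆ (A : Set G) \ {1} := by
    rintro x ⟨n, hn, rfl⟩
    refine ⟨(mem_normalizer_iff.mp hn z).mp hz, ?_⟩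
    intro h1
    apply hz1
    have h2 : n * z * n⁻¹ = 1 := h1
    have := congrArg (fun t => n⁻¹ * t * n) h2
    simpa [mul_assoc] using this
  have hsub' : {x : G | ∃ n ∈ normalizer (A : Set G), x = n * z⁻¹ * n⁻¹} ⊆ (A : Set G) \ {1} := by
    rintro x ⟨n, hn, rfl⟩
    refine ⟨(mem_normalizer_iff.mp hn z⁻¹).mp (inv_mem hz), ?_⟩
    intro h1
    apply hz1
    have h2 : n * z⁻¹ * n⁻¹ = 1 := h1
    have := congrArg (fun t => n⁻¹ * t * n) h2
    simpa [mul_assoc] using this
  have hdisj : Disjoint {x : G | ∃ n ∈ normalizer (A : Set G), x = n * z * n⁻¹}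
      {x : G | ∃ n ∈ normalizer (A : Set G), x = n * z⁻¹ * n⁻¹} := by
    rw [Set.disjoint_left]
    rintro x ⟨n, hn, rfl⟩ ⟨m, hm, hx⟩
    apply hno (m⁻¹ * n) (mul_mem (inv_mem hm) hn)
    calc m⁻¹ * n * z * (m⁻¹ * n)⁻¹ = m⁻¹ * (n * z * n⁻¹) * m := by group
      _ = m⁻¹ * (m * z⁻¹ * m⁻¹) * m := by rw [hx]
      _ = z⁻¹ := by group
  have h8 : ((A : Set G) \ {1}).ncard = 8 := by
    rw [Set.ncard_sdiff_singleton_of_mem (one_mem A), ← Nat.card_coe_set_eq]
    change Nat.card A - 1 = 8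
    rw [hcard]
  have hunion := Set.ncard_union_eq hdisj (Set.toFinite _) (Set.toFinite _)
  have hle : ({x : G | ∃ n ∈ normalizer (A : Set G), x = n * z * n⁻¹} ∪
      {x : G | ∃ n ∈ normalizer (A : Set G), x = n * z⁻¹ * n⁻¹}).ncard ≤ 8 := by
    rw [← h8]
    exact Set.ncard_le_ncard (Set.union_subset hsub hsub') (Set.toFinite _)
  rw [hcard, hK] at hO hO'
  have hOw : ({x : G | ∃ n ∈ normalizer (A : Set G), x = n * z * n⁻¹} : Set G).ncard = w := by
    omega
  have hOw' : ({x : G | ∃ n ∈ normalizer (A : Set G), x = n * z⁻¹ * n⁻¹} : Set G).ncard = w := by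
    omega
  have hw4 : w = 4 := by omega
  have heq : {x : G | ∃ n ∈ normalizer (A : Set G), x = n * z * n⁻¹} ∪
      {x : G | ∃ n ∈ normalizer (A : Set G), x = n * z⁻¹ * n⁻¹} = (A : Set G) \ {1} := by
    apply Set.eq_of_subset_of_ncard_le (Set.union_subset hsub hsub') _ (Set.toFinite _)
    rw [h8, hunion, hOw, hOw', hw4]
  -- centralizers in `K` of non-identity elements of `A` lie in `A`
  have hcent : ∀ y ∈ A, y ≠ 1 → ∀ u ∈ normalizer (A : Set G), u * y = y * u → u ∈ A := by
    intro y hy hy1 u hu huy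
    have hymem : y ∈ (A : Set G) \ {1} := ⟨hy, hy1⟩
    rw [← heq] at hymem
    have key : ∀ n ∈ normalizer (A : Set G), ∀ v : G, v ∈ A → y = n * v * n⁻¹ →
        (∀ m ∈ normalizer (A : Set G), m * v = v * m → m ∈ A) → u ∈ A := by
      intro n hn v _ hyv hv
      have h1 : n⁻¹ * u * n ∈ normalizer (A : Set G) := mul_mem (mul_mem (inv_mem hn) hu) hn
      have h2 : n⁻¹ * u * n * v = v * (n⁻¹ * u * n) := by
        rw [hyv] at huy
        calc n⁻¹ * u * n * v = n⁻¹ * (u * (n * v * n⁻¹)) * n := by group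
          _ = n⁻¹ * (n * v * n⁻¹ * u) * n := by rw [huy]
          _ = v * (n⁻¹ * u * n) := by group
      have h3 := hv _ h1 h2
      have h4 := (mem_normalizer_iff.mp hn (n⁻¹ * u * n)).mp h3
      have h5 : n * (n⁻¹ * u * n) * n⁻¹ = u := by group
      rwa [h5] at h4
    rcases hymem with ⟨n, hn, hyn⟩ | ⟨n, hn, hyn⟩
    · exact key n hn z hz hyn hstab
    · refine key n hn z⁻¹ (inv_mem hz) hyn ?_
      intro m hm hmz
      exact (hD' m hm).mp hmz
  -- an involution of `K`
  have h2K : 2 ∣ Nat.card (normalizer (A : Set G)) := by rw [hK, hw4]; norm_num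
  have : Fact (Nat.Prime 2) := ⟨Nat.prime_two⟩
  obtain ⟨⟨u, hu⟩, huo⟩ := exists_prime_orderOf_dvd_card'
    (G := normalizer (A : Set G)) 2 h2K
  rw [Subgroup.orderOf_mk] at huo
  have huu : u * u = 1 := by
    have := pow_orderOf_eq_one u
    rwa [huo, pow_two] at this
  have huinv : u⁻¹ = u := inv_eq_of_mul_eq_one_left huu
  have huzA : u * z * u⁻¹ ∈ A := (mem_normalizer_iff.mp hu z).mp hz
  have hyA : z * (u * z * u⁻¹) ∈ A := mul_mem hz huzA
  have hcomm : u * (z * (u * z * u⁻¹)) = z * (u * z * u⁻¹) * u := by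
    have h1 : u * (z * (u * z * u⁻¹)) = (u * z * u⁻¹) * (u * u * z * u⁻¹) := by group
    rw [h1, huu, one_mul, huinv]
    have h2 := hA (u * z * u) (by rw [huinv] at huzA; exact huzA) z hz
    calc u * z * u * (z * u) = (u * z * u * z) * u := by group
      _ = z * (u * z * u) * u := by rw [h2]
  by_cases hy1 : z * (u * z * u⁻¹) = 1
  · apply hno u hu
    exact (eq_inv_of_mul_eq_one_right hy1)
  · have huA := hcent _ hyA hy1 u hu hcomm
    have hdvd : orderOf u ∣ 9 := by
      rw [← hcard]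
      have := orderOf_dvd_natCard (⟨u, huA⟩ : A)
      rwa [Subgroup.orderOf_mk] at this
    rw [huo] at hdvd
    exact absurd hdvd (by decide)

end Cfsg.Agent.Helper8.Ord4032
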