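import Mathlib
import Cfsg.Agent.Helper8.Ord4032_n64b
import Cfsg.Agent.Helper8.Ord4032_n64c

set_option autoImplicit false

/-! A simple group of order `4032 = 2⁶ · 3² · 7` does not have exactly `64` Sylow
`7`-subgroups. -/

namespace Cfsg.Agent.Helper8.Ord4032

open Subgroup Cfsg.Agent.Helper8.Ord756

theorem n7_ne_64 {G : Type*} [Group G] [Finite G] [IsSimpleGroup G] (h : Nat.card G = 4032) :
    Nat.card (Sylow 7 G) ≠ 64 := by
  intro h64
  have h7 : Fact (Nat.Prime 7) := ⟨by norm_num⟩
  have h3 : Fact (Nat.Prime 3) := ⟨Nat.prime_three⟩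
  let P : Sylow 7 G := default
  have hP := card_sylow7 h P
  have hN := card_normalizer7 h h64 P
  have hC := card_centralizer7 h h64 P
  obtain ⟨z, hz, hz3⟩ := exists_order_three h h64 P
  have hCz := centralizer_z_eq h h64 P z hz hz3
  have hz1 : z ≠ 1 := by
    rintro rfl
    rw [orderOf_one] at hz3
    omega
  -- a Sylow `3`-subgroup containing `z`
  have hZp : IsPGroup 3 (zpowers z) :=
    IsPGroup.of_card (n := 1) (by rw [Nat.card_zpowers, hz3]; norm_num)
  obtain ⟨Q, hQ⟩ := hZp.exists_le_sylow
  have hzQ : z ∈ (Q : Subgroup G) := hQ (mem_zpowers z)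
  have hQ9 := card_sylow3 h Q
  have hQcomm : ∀ a ∈ (Q : Subgroup G), ∀ b ∈ (Q : Subgroup G), a * b = b * a := by
    have hc := IsPGroup.isMulCommutative_of_card_eq_prime_sq (p := 3) (G := ↥(Q : Subgroup G))
      (by rw [hQ9]; norm_num)
    intro a ha b hb
    exact congrArg Subtype.val (hc.is_comm.comm ⟨a, ha⟩ ⟨b, hb⟩)
  have hQC : (Q : Subgroup G) ≤ centralizer ((Q : Subgroup G) : Set G) := by
    intro a ha
    rw [mem_centralizer_iff]
    intro b hb
    exact hQcomm b hb a ha
  have hQN : (Q : Subgroup G) ≤ normalizer ((P : Subgroup G) : Set G) := by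
    rw [← hCz]
    intro a ha
    rw [mem_centralizer_singleton_iff]
    exact hQcomm a ha z hzQ
  have hPQ : (P : Subgroup G) ⊓ (Q : Subgroup G) = ⊥ :=
    (disjoint_of_coprime_natCard (by rw [hP, hQ9]; norm_num)).eq_bot
  -- the centralizer of `z` in `N(Q)` is `Q`
  have hstab : ∀ n ∈ normalizer ((Q : Subgroup G) : Set G), n * z = z * n → n ∈ (Q : Subgroup G) := by
    intro n hn hnz
    have hnD : n ∈ normalizer ((Q : Subgroup G) : Set G) ⊓ normalizer ((P : Subgroup G) : Set G) := by
      rw [mem_inf]
      refine ⟨hn, ?_⟩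
      rw [← hCz, mem_centralizer_singleton_iff]
      exact hnz
    have hQD : (Q : Subgroup G) ≤
        normalizer ((Q : Subgroup G) : Set G) ⊓ normalizer ((P : Subgroup G) : Set G) :=
      le_inf le_normalizer hQN
    have hd1 : Nat.card (normalizer ((Q : Subgroup G) : Set G) ⊓
        normalizer ((P : Subgroup G) : Set G) : Subgroup G) ∣ 63 := by
      rw [← hN]
      exact card_dvd_of_le inf_le_right
    have hd2 : 9 ∣ Nat.card (normalizer ((Q : Subgroup G) : Set G) ⊓
        normalizer ((P : Subgroup G) : Set G) : Subgroup G) := by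
      rw [← hQ9]
      exact card_dvd_of_le hQD
    have hcases : Nat.card (normalizer ((Q : Subgroup G) : Set G) ⊓
        normalizer ((P : Subgroup G) : Set G) : Subgroup G) = 9 ∨
        Nat.card (normalizer ((Q : Subgroup G) : Set G) ⊓
        normalizer ((P : Subgroup G) : Set G) : Subgroup G) = 63 := by
      generalize Nat.card (normalizer ((Q : Subgroup G) : Set G) ⊓
        normalizer ((P : Subgroup G) : Set G) : Subgroup G) = d at hd1 hd2
      have hle : d ≤ 63 := Nat.le_of_dvd (by norm_num) hd1
      obtain ⟨c, rfl⟩ := hd2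
      have hc : c ≤ 7 := by omega
      interval_cases c <;> omega
    rcases hcases with h9 | h63
    · have : (Q : Subgroup G) = normalizer ((Q : Subgroup G) : Set G) ⊓
          normalizer ((P : Subgroup G) : Set G) :=
        eq_of_le_of_card_ge hQD (by rw [h9, hQ9])
      rw [this]
      exact hnD
    · exfalso
      have hDN : normalizer ((Q : Subgroup G) : Set G) ⊓ normalizer ((P : Subgroup G) : Set G) =
          normalizer ((P : Subgroup G) : Set G) :=
        eq_of_le_of_card_ge inf_le_right (by rw [h63, hN])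
      have hPNQ : (P : Subgroup G) ≤ normalizer ((Q : Subgroup G) : Set G) := by
        have h1 : (P : Subgroup G) ≤ normalizer ((P : Subgroup G) : Set G) := le_normalizer
        rw [← hDN] at h1
        exact h1.trans inf_le_left
      have hcomm := commute_of_normalize (P : Subgroup G) (Q : Subgroup G) hPNQ hQN hPQ
      have hQCP : (Q : Subgroup G) ≤ centralizer ((P : Subgroup G) : Set G) := by
        intro b hb
        rw [mem_centralizer_iff]
        intro a ha
        exact hcomm a ha b hb
      have := card_dvd_of_le hQCP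
      rw [hQ9, hC] at this
      exact absurd this (by decide)
  -- the order of `N(Q)`
  have hmul := Cfsg.Agent.Helper2.SmallOrder.card_normalizer_mul_card_sylow Q
  rw [h] at hmul
  have hmod := card_sylow_modEq_one 3 G
  have h9K : 9 ∣ Nat.card (normalizer ((Q : Subgroup G) : Set G)) := by
    rw [← hQ9]
    exact card_dvd_of_le le_normalizer
  obtain ⟨w, hw⟩ := h9K
  have hw3 : w % 3 = 1 := by
    rw [hw] at hmul
    have h1 : w * Nat.card (Sylow 3 G) = 448 := by
      have : 9 * (w * Nat.card (Sylow 3 G)) = 9 * 448 := by rw [← mul_assoc, hmul]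
      exact Nat.eq_of_mul_eq_mul_left (by norm_num) this
    have h2 : w * Nat.card (Sylow 3 G) ≡ w * 1 [MOD 3] := Nat.ModEq.mul_left w hmod
    rw [h1, mul_one] at h2
    unfold Nat.ModEq at h2
    omega
  have hw1 : w ≠ 1 := by
    rintro rfl
    have hKQ : (Q : Subgroup G) = normalizer ((Q : Subgroup G) : Set G) :=
      eq_of_le_of_card_ge le_normalizer (by rw [hw, hQ9])
    apply not_normalizer_le_centralizer h Q (by rw [hQ9]; norm_num) (by rw [hQ9]; norm_num)
    rw [← hKQ]
    exact hQC
  obtain ⟨n, hn, hconj⟩ := exists_conj_inv (Q : Subgroup G) hQcomm hQ9 z hzQ hz1 hstab w hw hw3 hw1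
  -- `n` normalizes `C(z) = N(P)`, hence `P`
  have h1 := Cfsg.Agent.Helper8.SylAct.centralizer_conj_eq P z n hCz
  rw [hconj] at h1
  have h2 : centralizer ({z⁻¹} : Set G) = centralizer ({z} : Set G) := by
    ext g
    rw [mem_centralizer_singleton_iff, mem_centralizer_singleton_iff]
    exact (Commute.inv_right_iff (a := g) (b := z))
  rw [h2, hCz] at h1
  have hfix : (n • P : Sylow 7 G) ∈ MulAction.fixedPoints (P : Subgroup G) (Sylow 7 G) := by
    intro x
    have hx : (x : G) ∈ normalizer (((n • P : Sylow 7 G) : Subgroup G) : Set G) := by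
      rw [← h1]
      exact le_normalizer x.2
    exact Sylow.smul_eq_iff_mem_normalizer.mpr hx
  rw [Cfsg.Agent.Helper8.SylAct.fixedPoints_sylow P, Set.mem_singleton_iff] at hfix
  have hnN : n ∈ normalizer ((P : Subgroup G) : Set G) := Sylow.smul_eq_iff_mem_normalizer.mp hfix
  rw [← hCz, mem_centralizer_singleton_iff] at hnN
  have hzz : z = z⁻¹ := by
    rw [← hconj, hnN, mul_inv_cancel_right]
  have hz2 : z ^ 2 = 1 := by
    rw [pow_two]
    nth_rewrite 2 [hzz]
    exact mul_inv_cancel z
  have := orderOf_dvd_of_pow_eq_one hz2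
  rw [hz3] at this
  exact absurd this (by decide)

end Cfsg.Agent.Helper8.Ord4032
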