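import Mathlib
import Cfsg.Agent.Helper9.S3

set_option autoImplicit false

namespace Cfsg.Agent.Helper8.Ord6

open Equiv

/-- A non-abelian group of order 6 is isomorphic to `Perm (Fin 3)`. -/
theorem mulEquiv_perm_three {H : Type*} [Group H] (h6 : Nat.card H = 6)
    (hna : ¬ ∀ a b : H, a * b = b * a) : Nonempty (H ≃* Perm (Fin 3)) := by
  have hfin : Finite H := Nat.finite_of_card_ne_zero (by omega)
  have : Fintype H := Fintype.ofFinite H
  have h6' : Fintype.card H = 6 := by rw [← Nat.card_eq_fintype_card]; exact h6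
  have : Fact (Nat.Prime 2) := ⟨Nat.prime_two⟩
  have : Fact (Nat.Prime 3) := ⟨Nat.prime_three⟩
  obtain ⟨d, hd⟩ := exists_prime_orderOf_dvd_card (G := H) 2 (by rw [h6']; norm_num)
  obtain ⟨c, hc⟩ := exists_prime_orderOf_dvd_card (G := H) 3 (by rw [h6']; norm_num)
  have hdd : d * d = 1 := by rw [← pow_two, ← hd, pow_orderOf_eq_one]
  have hd1 : d ≠ 1 := by
    intro h; rw [h, orderOf_one] at hd; omega
  have hc3 : c ^ 3 = 1 := by rw [← hc, pow_orderOf_eq_one]
  have hc1 : c ≠ 1 := by
    intro h; rw [h, orderOf_one] at hc; omega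
  have hdi : d⁻¹ = d := inv_eq_of_mul_eq_one_left hdd
  -- ⟨c⟩ has index 2, hence is normal
  have hcard : Nat.card (Subgroup.zpowers c) = 3 := by rw [Nat.card_zpowers, hc]
  have hidx : (Subgroup.zpowers c).index = 2 := by
    have := (Subgroup.zpowers c).card_mul_index
    rw [hcard, h6] at this; omega
  have hn : (Subgroup.zpowers c).Normal := Subgroup.normal_of_index_eq_two hidx
  have hmem : d * c * d⁻¹ ∈ Subgroup.zpowers c := hn.conj_mem c (Subgroup.mem_zpowers c) d
  -- the elements of ⟨c⟩ are 1, c, c²
  have hz : ∀ x ∈ Subgroup.zpowers c, x = 1 ∨ x = c ∨ x = c * c := by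
    intro x hx
    obtain ⟨k, rfl⟩ := Subgroup.mem_zpowers_iff.mp hx
    have hk : c ^ k = c ^ (k % 3) := by
      have := (zpow_mod_orderOf c k).symm
      rw [hc] at this; exact_mod_cast this
    have h0 : 0 ≤ k % 3 := Int.emod_nonneg k (by norm_num)
    have h3 : k % 3 < 3 := Int.emod_lt_of_pos k (by norm_num)
    rw [hk]
    obtain h | h | h : k % 3 = 0 ∨ k % 3 = 1 ∨ k % 3 = 2 := by omega
    · left; rw [h, zpow_zero]
    · right; left; rw [h, zpow_one]
    · right; right; rw [h]; exact zpow_two c
  -- d ∉ ⟨c⟩
  have hdc : d ∉ Subgroup.zpowers c := by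
    intro h
    have h2 : orderOf d ∣ 3 := by
      have := orderOf_dvd_natCard (⟨d, h⟩ : Subgroup.zpowers c)
      rw [hcard] at this
      rwa [← Subgroup.orderOf_mk d h]
    rw [hd] at h2; omega
  -- the closure of {c, d} is everything
  have htop : Subgroup.closure ({c, d} : Set H) = ⊤ := by
    apply Subgroup.eq_top_of_card_eq
    have h2 : 2 ∣ Nat.card (Subgroup.closure ({c, d} : Set H)) := by
      have hmem : d ∈ Subgroup.closure ({c, d} : Set H) := Subgroup.subset_closure (by simp)
      have := orderOf_dvd_natCard (⟨d, hmem⟩ : Subgroup.closure ({c, d} : Set H))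
      rwa [Subgroup.orderOf_mk, hd] at this
    have h3 : 3 ∣ Nat.card (Subgroup.closure ({c, d} : Set H)) := by
      have hmem : c ∈ Subgroup.closure ({c, d} : Set H) := Subgroup.subset_closure (by simp)
      have := orderOf_dvd_natCard (⟨c, hmem⟩ : Subgroup.closure ({c, d} : Set H))
      rwa [Subgroup.orderOf_mk, hc] at this
    have hle : Nat.card (Subgroup.closure ({c, d} : Set H)) ∣ Nat.card H :=
      Subgroup.card_subgroup_dvd_card _
    rw [h6] at hle ⊢
    have := Nat.le_of_dvd (by norm_num) hle
    obtain ⟨a, ha⟩ := h2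
    obtain ⟨b, hb⟩ := h3
    have hpos : 0 < Nat.card (Subgroup.closure ({c, d} : Set H)) := Nat.card_pos
    omega
  -- d inverts c
  have hinv : d * c * d⁻¹ = c * c := by
    rcases hz _ hmem with h | h | h
    · exfalso; apply hc1
      have : d * c = d := by rw [mul_inv_eq_one] at h; exact h
      exact mul_left_cancel (a := d) (by rw [this, mul_one])
    · exfalso; apply hna
      have hcd : d * c = c * d := by rw [mul_inv_eq_iff_eq_mul] at h; exact h
      have hcomm : ∀ x ∈ ({c, d} : Set H), ∀ y ∈ ({c, d} : Set H), x * y = y * x := by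
        intro x hx y hy
        simp only [Set.mem_insert_iff, Set.mem_singleton_iff] at hx hy
        rcases hx with rfl | rfl <;> rcases hy with rfl | rfl
        · rfl
        · exact hcd.symm
        · exact hcd
        · rfl
      intro a b
      have ha : a ∈ Subgroup.closure ({c, d} : Set H) := by rw [htop]; trivial
      have hb : b ∈ Subgroup.closure ({c, d} : Set H) := by rw [htop]; trivial
      exact Subgroup.closure_induction₂ (p := fun x y _ _ => x * y = y * x)
        (fun x y hx hy => hcomm x hx y hy) (fun x _ => by simp) (fun x _ => by simp)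
        (fun x y z _ _ _ h1 h2 => by rw [mul_assoc, h2, ← mul_assoc, h1, mul_assoc])
        (fun x y z _ _ _ h1 h2 => by rw [← mul_assoc, h1, mul_assoc, h2, ← mul_assoc])
        (fun x y _ _ h => by
          have := congrArg (fun t => x⁻¹ * t * x⁻¹) h
          simp only [mul_assoc, inv_mul_cancel_left, mul_inv_cancel, mul_one] at this
          simpa [mul_assoc] using this.symm)
        (fun x y _ _ h => by
          have := congrArg (fun t => y⁻¹ * t * y⁻¹) h
          simp only [mul_assoc, inv_mul_cancel_left, mul_inv_cancel, mul_one] at this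
          simpa [mul_assoc] using this.symm) ha hb
    · exact h
  -- e := d * c is an involution
  have hccc : c * (c * c) = 1 := by rw [← hc3, pow_succ, pow_two, mul_assoc]
  have hdcd : d * c * d = c * c := by rw [← hinv, hdi]
  obtain ⟨e, he_def⟩ : ∃ e : H, e = d * c := ⟨_, rfl⟩
  have hee : e * e = 1 := by
    calc e * e = (d * c * d) * c := by simp only [he_def, mul_assoc]
      _ = 1 := by rw [hdcd, mul_assoc]; exact hccc
  have hde : d ≠ e := by
    intro h
    apply hc1
    exact mul_left_cancel (a := d) (by rw [mul_one, ← he_def]; exact h.symm)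
  have hbr : d * e * d = e * d * e := by
    -- d e d = d d c d = c d ; e d e = d c d d c = d c c
    have h1 : d * e * d = c * d := by
      rw [he_def, ← mul_assoc, hdd, one_mul]
    have h2 : e * d * e = d * (c * c) := by
      calc e * d * e = d * (c * ((d * d) * c)) := by simp only [he_def, mul_assoc]
        _ = d * (c * c) := by rw [hdd, one_mul]
    rw [h1, h2, ← hdcd]
    simp only [← mul_assoc, hdd, one_mul]
  have hinj := Cfsg.Agent.Helper9.hom3_injective d e hdd hee hbr hd1 hde
  have hbij : Function.Bijective (Cfsg.Agent.Helper9.hom3 d e hdd hee hbr) := by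
    rw [Fintype.bijective_iff_injective_and_card]
    refine ⟨hinj, ?_⟩
    rw [h6', Fintype.card_perm, Fintype.card_fin]; rfl
  exact ⟨(MulEquiv.ofBijective _ hbij).symm⟩

end Cfsg.Agent.Helper8.Ord6
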