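import Mathlib

set_option autoImplicit false

/-!
# Order types, part A: rough elements

An element is `r`-rough when every prime divisor of its order is at least `r`.  We count the
rough elements of a finite group and relate the count to a quotient by a normal `p`-subgroup.
-/

namespace Cfsg.Agent.Helper8.OrdType

universe u

/-- every prime divisor of the order of `x` is at least `r` -/
def Rough {X : Type u} [Monoid X] (r : ℕ) (x : X) : Prop :=
  ∀ q : ℕ, q.Prime → q ∣ orderOf x → r ≤ q

/-- the number of `r`-rough elements -/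
noncomputable def cnt (X : Type u) [Monoid X] (r : ℕ) : ℕ := Nat.card {x : X // Rough r x}

theorem rough_one {X : Type u} [Monoid X] (r : ℕ) : Rough r (1 : X) := by
  intro q hq hdvd
  rw [orderOf_one] at hdvd
  exact absurd (Nat.dvd_one.1 hdvd) hq.ne_one

theorem Rough.mono {X : Type u} [Monoid X] {r s : ℕ} (hrs : r ≤ s) {x : X} (h : Rough s x) :
    Rough r x := fun q hq hd => hrs.trans (h q hq hd)

theorem rough_succ_iff_of_not_prime {X : Type u} [Monoid X] {r : ℕ} (hr : ¬ r.Prime) (x : X) :
    Rough (r + 1) x ↔ Rough r x := by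
  constructor
  · exact Rough.mono (Nat.le_succ r)
  · intro h q hq hd
    have h1 := h q hq hd
    rcases Nat.lt_or_ge r q with h2 | h2
    · exact h2
    · exact absurd (le_antisymm h2 h1 ▸ hq) hr

/-- if all primes dividing the order of the finite group are below `r`, only `1` is rough -/
theorem rough_iff_eq_one {X : Type u} [Group X] [Finite X] {r : ℕ}
    (h : ∀ q : ℕ, q.Prime → q ∣ Nat.card X → q < r) (x : X) : Rough r x ↔ x = 1 := by
  constructor
  · intro hx
    by_contra hne
    have h1 : orderOf x ≠ 1 := fun h1 => hne (orderOf_eq_one_iff.1 h1)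
    obtain ⟨q, hq, hqd⟩ := Nat.exists_prime_and_dvd h1
    have h2 := h q hq (hqd.trans (orderOf_dvd_natCard x))
    have h3 := hx q hq hqd
    omega
  · rintro rfl
    exact rough_one r

theorem cnt_eq_one {X : Type u} [Group X] [Finite X] {r : ℕ}
    (h : ∀ q : ℕ, q.Prime → q ∣ Nat.card X → q < r) : cnt X r = 1 := by
  unfold cnt
  rw [Nat.card_eq_one_iff_unique]
  refine ⟨⟨fun a b => ?_⟩, ⟨⟨1, rough_one r⟩⟩⟩
  apply Subtype.ext
  rw [(rough_iff_eq_one h a.1).1 a.2, (rough_iff_eq_one h b.1).1 b.2]

/-- a prime dividing the order of `x`, when `x ^ n` has order dividing `m` -/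
theorem prime_dvd_of_pow {X : Type u} [Monoid X] {x : X} {n m q : ℕ} (hq : q.Prime)
    (hqx : q ∣ orderOf x) (hm : orderOf (x ^ n) ∣ m) : q ∣ n ∨ q ∣ m := by
  have h1 : x ^ (n * m) = 1 := by
    rw [pow_mul]
    exact orderOf_dvd_iff_pow_eq_one.1 hm
  have h2 : q ∣ n * m := hqx.trans (orderOf_dvd_of_pow_eq_one h1)
  exact (Nat.Prime.dvd_mul hq).1 h2

/-- roughness passes to and from the quotient by a normal `p`-subgroup when `r ≤ p` -/
theorem rough_mk_iff {G : Type u} [Group G] {p r : ℕ} (hp : p.Prime) (hrp : r ≤ p)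
    (P : Subgroup G) [P.Normal] (hP : IsPGroup p P) (x : G) :
    Rough r (QuotientGroup.mk x : G ⧸ P) ↔ Rough r x := by
  constructor
  · intro h q hq hqx
    set n := orderOf (QuotientGroup.mk x : G ⧸ P) with hn
    have hmem : x ^ n ∈ P := by
      rw [← QuotientGroup.eq_one_iff, QuotientGroup.mk_pow, hn]
      exact pow_orderOf_eq_one _
    obtain ⟨k, hk⟩ := hP ⟨x ^ n, hmem⟩
    have hk' : (x ^ n) ^ p ^ k = 1 := by
      have := congrArg Subtype.val hk
      simpa using this
    rcases prime_dvd_of_pow hq hqx (orderOf_dvd_of_pow_eq_one hk') with h1 | h1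
    · exact h q hq h1
    · have := (Nat.prime_dvd_prime_iff_eq hq hp).1 (hq.dvd_of_dvd_pow h1)
      omega
  · intro h q hq hqx
    exact h q hq (hqx.trans (orderOf_map_dvd (QuotientGroup.mk' P) x))

theorem cnt_eq_mul_cnt_quotient {G : Type u} [Group G] {p r : ℕ} (hp : p.Prime) (hrp : r ≤ p)
    (P : Subgroup G) [P.Normal] (hP : IsPGroup p P) :
    cnt G r = Nat.card P * cnt (G ⧸ P) r := by
  unfold cnt
  rw [← Nat.card_prod]
  apply Nat.card_congr
  refine Equiv.trans ?_ (QuotientGroup.preimageMkEquivSubgroupProdSet P {y : G ⧸ P | Rough r y})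
  exact Equiv.subtypeEquivRight fun x => (rough_mk_iff hp hrp P hP x).symm

/-- conjugation invariance -/
theorem rough_conj {G : Type u} [Group G] {r : ℕ} (g x : G) :
    Rough r (g * x * g⁻¹) ↔ Rough r x := by
  have : orderOf (g * x * g⁻¹) = orderOf x := MulEquiv.orderOf_eq (MulAut.conj g) x
  unfold Rough
  rw [this]

end Cfsg.Agent.Helper8.OrdType
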