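import Mathlib
import Cfsg.Prelude.Def_SolvableStructure
import Cfsg.Agent.Helper1.CLT
import Cfsg.Agent.Helper1.Supersolvable2
import Cfsg.Agent.Helper1.Supersolvable5
import Cfsg.Agent.Helper1.Supersolvable7
import Cfsg.Agent.Helper8.OrdTypeA

set_option autoImplicit false

/-!
# Order types, part B: the rough element counts of a supersolvable group

For a supersolvable group `G` and a prime `r`, the number of `r`-rough elements is the number of
`(r+1)`-rough elements times the `r`-part of the order of `G` (Sylow tower).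
-/

namespace Cfsg.Agent.Helper8.OrdType

universe u

theorem normal_sylow_max_prime {G : Type u} [Group G] [Finite G] (hG : Cfsg.IsSupersolvable G)
    (p : ℕ) [Fact p.Prime] (hdvd : p ∣ Nat.card G)
    (hmax : ∀ q : ℕ, q.Prime → q ∣ Nat.card G → q ≤ p) (P : Sylow p G) :
    (P : Subgroup G).Normal :=
  Cfsg.Agent.Helper1.normal_sylow_of_clt _ G rfl
    (fun H => Cfsg.Agent.Helper1.hasSubgroupOfEveryOrder_of_supersolvable _ H rfl
      (Cfsg.Agent.Helper1.isSupersolvable_subgroup hG H))
    p hdvd hmax P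

theorem cnt_ratio_of_supersolvable : ∀ (k : ℕ) (G : Type u) [Group G] [Finite G],
    Nat.card G = k → Cfsg.IsSupersolvable G → ∀ r : ℕ, r.Prime →
    cnt G r = cnt G (r + 1) * r ^ (Nat.card G).factorization r := by
  intro k
  induction k using Nat.strong_induction_on with
  | _ k ih =>
  intro G _ _ hk hG r hr
  by_cases hc1 : Nat.card G = 1
  · -- trivial group
    have h0 : ∀ s : ℕ, ∀ q : ℕ, q.Prime → q ∣ Nat.card G → q < s := by
      intro s q hq hqd
      rw [hc1] at hqd
      exact absurd (Nat.dvd_one.1 hqd) hq.ne_one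
    rw [cnt_eq_one (h0 r), cnt_eq_one (h0 (r + 1)), hc1]
    simp
  obtain ⟨p, hp, hpG, hmax⟩ := Cfsg.Agent.Helper1.exists_max_prime_dvd Nat.card_pos.ne' hc1
  have : Fact p.Prime := ⟨hp⟩
  obtain ⟨P⟩ : Nonempty (Sylow p G) := inferInstance
  have hPn : (P : Subgroup G).Normal := normal_sylow_max_prime hG p hpG hmax P
  have hPcard : Nat.card (P : Subgroup G) = p ^ (Nat.card G).factorization p :=
    P.card_eq_multiplicity
  have hPpg : IsPGroup p (P : Subgroup G) := P.isPGroup'
  have hcardG : Nat.card G = Nat.card (G ⧸ (P : Subgroup G)) * Nat.card (P : Subgroup G) :=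
    Subgroup.card_eq_card_quotient_mul_card_subgroup _
  have hfpos : 0 < (Nat.card G).factorization p :=
    (hp.factorization_pos_of_dvd Nat.card_pos.ne' hpG)
  have hPne : (P : Subgroup G) ≠ ⊥ := by
    intro h
    rw [h, Subgroup.card_bot] at hPcard
    have : 1 < p ^ (Nat.card G).factorization p := Nat.one_lt_pow hfpos.ne' hp.one_lt
    omega
  have hQlt : Nat.card (G ⧸ (P : Subgroup G)) < k :=
    hk ▸ Cfsg.Agent.Helper1.card_quotient_lt (P : Subgroup G) hPne
  have hQsup : Cfsg.IsSupersolvable (G ⧸ (P : Subgroup G)) :=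
    Cfsg.Agent.Helper1.isSupersolvable_quotient hG _
  -- primes dividing the order of the quotient are below `p`
  have hnd : ¬ p ∣ Nat.card (G ⧸ (P : Subgroup G)) := by
    have := P.not_dvd_index
    rwa [Subgroup.index_eq_card] at this
  have hQprimes : ∀ q : ℕ, q.Prime → q ∣ Nat.card (G ⧸ (P : Subgroup G)) → q < p := by
    intro q hq hqd
    have h1 : q ≤ p := hmax q hq (hqd.trans (Subgroup.card_quotient_dvd_card _))
    rcases Nat.lt_or_ge q p with h2 | h2
    · exact h2
    · have : q = p := le_antisymm h1 h2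
      exact absurd (this ▸ hqd) hnd
  have hGprimes : ∀ q : ℕ, q.Prime → q ∣ Nat.card G → q < p + 1 := fun q hq hqd =>
    Nat.lt_succ_of_le (hmax q hq hqd)
  rcases lt_trichotomy r p with hrp | hrp | hrp
  · -- `r < p`
    rw [cnt_eq_mul_cnt_quotient hp hrp.le (P : Subgroup G) hPpg,
      cnt_eq_mul_cnt_quotient hp (Nat.succ_le_of_lt hrp) (P : Subgroup G) hPpg,
      ih _ hQlt (G ⧸ (P : Subgroup G)) rfl hQsup r hr, mul_assoc]
    congr 2
    have hqpos : Nat.card (G ⧸ (P : Subgroup G)) ≠ 0 := Nat.card_pos.ne'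
    have hppos : Nat.card (P : Subgroup G) ≠ 0 := Nat.card_pos.ne'
    rw [hcardG, Nat.factorization_mul hqpos hppos, Finsupp.add_apply]
    have : (Nat.card (P : Subgroup G)).factorization r = 0 := by
      rw [hPcard, Nat.factorization_pow, Finsupp.smul_apply, hp.factorization]
      simp [hrp.ne']
    rw [this, add_zero]
  · -- `r = p`
    subst hrp
    rw [cnt_eq_mul_cnt_quotient hp le_rfl (P : Subgroup G) hPpg, cnt_eq_one hQprimes,
      cnt_eq_one hGprimes, hPcard]
    ring
  · -- `p < r`
    have h1 : ∀ q : ℕ, q.Prime → q ∣ Nat.card G → q < r := fun q hq hqd =>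
      lt_of_le_of_lt (hmax q hq hqd) hrp
    have h2 : ∀ q : ℕ, q.Prime → q ∣ Nat.card G → q < r + 1 := fun q hq hqd =>
      (h1 q hq hqd).trans (Nat.lt_succ_self r)
    have h3 : ¬ r ∣ Nat.card G := fun hd => by
      have := h1 r hr hd
      omega
    rw [cnt_eq_one h1, cnt_eq_one h2, Nat.factorization_eq_zero_of_not_dvd h3]
    simp

end Cfsg.Agent.Helper8.OrdType
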