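import Mathlib
import Cfsg.Agent.Helper8.OrdTypeA

set_option autoImplicit false

/-!
# Order types, part C: a group with the rough element counts of a Sylow tower is solvable

If for every prime `r` the number of `r`-rough elements of the finite group `H` is the number of
`(r+1)`-rough elements times the `r`-part of the order of `H`, then the `r`-rough elements form a
normal solvable subgroup for each `r`, so `H` is solvable.
-/

namespace Cfsg.Agent.Helper8.OrdType

universe u

variable {H : Type u} [Group H]

/-- the `r`-rough elements form a normal solvable subgroup -/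
def Tower (H : Type u) [Group H] (r : ℕ) : Prop :=
  ∃ M : Subgroup H, M.Normal ∧ Group.IsSolvable M ∧ ∀ x : H, x ∈ M ↔ Rough r x

theorem tower_of_card_lt [Finite H] (r : ℕ) (hr : Nat.card H < r) : Tower H r := by
  refine ⟨⊥, inferInstance, inferInstance, fun x => ?_⟩
  rw [Subgroup.mem_bot, rough_iff_eq_one]
  intro q _ hqd
  exact lt_of_le_of_lt (Nat.le_of_dvd Nat.card_pos hqd) hr

/-- the join of a normal solvable subgroup and an `r`-subgroup is solvable -/
theorem isSolvable_sup_pGroup [Finite H] {r : ℕ} [Fact r.Prime] (M R : Subgroup H) [hMn : M.Normal]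
    (hM : Group.IsSolvable M) (hR : IsPGroup r R) : Group.IsSolvable (M ⊔ R : Subgroup H) := by
  have hg : ∀ x : (M ⊔ R : Subgroup H),
      (QuotientGroup.mk' M) (x : H) ∈ R.map (QuotientGroup.mk' M) := by
    rintro ⟨x, hx⟩
    obtain ⟨m, hm, s, hs, rfl⟩ := Subgroup.mem_sup_of_normal_left.1 hx
    refine ⟨s, hs, ?_⟩
    change (QuotientGroup.mk s : H ⧸ M) = QuotientGroup.mk (m * s)
    rw [QuotientGroup.mk_mul, (QuotientGroup.eq_one_iff m).2 hm, one_mul]
  let g : (M ⊔ R : Subgroup H) →* R.map (QuotientGroup.mk' M) :=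
    MonoidHom.codRestrict ((QuotientGroup.mk' M).comp (M ⊔ R : Subgroup H).subtype) _ hg
  let f : M →* (M ⊔ R : Subgroup H) := Subgroup.inclusion le_sup_left
  have hPG : IsPGroup r (R.map (QuotientGroup.mk' M)) := hR.map _
  have : Group.IsNilpotent (R.map (QuotientGroup.mk' M)) := hPG.isNilpotent
  have := hM
  refine Group.isSolvable_of_ker_le_range f g ?_
  rintro ⟨x, hx⟩ hker
  rw [MonoidHom.mem_ker] at hker
  have h1 : (QuotientGroup.mk' M) x = 1 := congrArg Subtype.val hker
  have h2 : x ∈ M := by
    rwa [QuotientGroup.mk'_apply, QuotientGroup.eq_one_iff] at h1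
  exact ⟨⟨x, h2⟩, rfl⟩

theorem tower_step [Finite H]
    (hratio : ∀ r : ℕ, r.Prime → cnt H r = cnt H (r + 1) * r ^ (Nat.card H).factorization r)
    (r : ℕ) (h : Tower H (r + 1)) : Tower H r := by
  obtain ⟨M, hMn, hMs, hM⟩ := h
  by_cases hr : r.Prime
  · have : Fact r.Prime := ⟨hr⟩
    obtain ⟨R⟩ : Nonempty (Sylow r H) := inferInstance
    have hMcard : Nat.card M = cnt H (r + 1) := Nat.card_congr (Equiv.subtypeEquivRight hM)
    have hRcard : Nat.card (R : Subgroup H) = r ^ (Nat.card H).factorization r :=
      R.card_eq_multiplicity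
    -- `r` does not divide the order of `M`
    have hcop : ¬ r ∣ Nat.card M := by
      intro hd
      obtain ⟨x, hx⟩ := exists_prime_orderOf_dvd_card' r hd
      have h1 : Rough (r + 1) (x : H) := (hM x).1 x.2
      have h2 := h1 r hr (by rw [Subgroup.orderOf_coe, hx])
      omega
    -- the elements of `M ⊔ R` are rough
    have hsub : ∀ x : H, x ∈ M ⊔ (R : Subgroup H) → Rough r x := by
      intro x hx
      obtain ⟨m, hm, s, hs, rfl⟩ := Subgroup.mem_sup_of_normal_left.1 hx
      obtain ⟨k, hk⟩ := R.isPGroup' ⟨s, hs⟩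
      have hk' : s ^ r ^ k = 1 := by
        have := congrArg Subtype.val hk
        simpa using this
      have hmem : (m * s) ^ r ^ k ∈ M := by
        rw [← QuotientGroup.eq_one_iff, QuotientGroup.mk_pow, QuotientGroup.mk_mul,
          (QuotientGroup.eq_one_iff m).2 hm, one_mul, ← QuotientGroup.mk_pow, hk',
          QuotientGroup.mk_one]
      have hRo := (hM _).1 hmem
      intro q hq hqx
      rcases prime_dvd_of_pow (n := r ^ k) hq hqx (dvd_refl _) with h1 | h1
      · have := (Nat.prime_dvd_prime_iff_eq hq hr).1 (hq.dvd_of_dvd_pow h1)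
        omega
      · have := hRo q hq h1
        omega
    -- the order of `M ⊔ R`
    have hdvd : Nat.card M * Nat.card (R : Subgroup H) ∣
        Nat.card (M ⊔ (R : Subgroup H) : Subgroup H) := by
      apply Nat.Coprime.mul_dvd_of_dvd_of_dvd
      · rw [hRcard]
        exact Nat.Coprime.pow_right _ ((Nat.Prime.coprime_iff_not_dvd hr).2 hcop).symm
      · exact Subgroup.card_dvd_of_le le_sup_left
      · exact Subgroup.card_dvd_of_le le_sup_right
    have hle : Nat.card {x : H // Rough r x} ≤ Nat.card (M ⊔ (R : Subgroup H) : Subgroup H) := by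
      have h1 : Nat.card {x : H // Rough r x} = Nat.card M * Nat.card (R : Subgroup H) := by
        rw [hMcard, hRcard]
        exact hratio r hr
      rw [h1]
      exact Nat.le_of_dvd Nat.card_pos hdvd
    have hinj : Function.Injective
        (fun y : (M ⊔ (R : Subgroup H) : Subgroup H) =>
          (⟨y.1, hsub y.1 y.2⟩ : {x : H // Rough r x})) := by
      intro a b hab
      apply Subtype.ext
      exact congrArg (fun z : {x : H // Rough r x} => (z : H)) hab
    have hbij := hinj.bijective_of_nat_card_le hle
    have hiff : ∀ x : H, x ∈ M ⊔ (R : Subgroup H) ↔ Rough r x := by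
      intro x
      refine ⟨hsub x, fun hx => ?_⟩
      obtain ⟨y, hy⟩ := hbij.2 ⟨x, hx⟩
      have : (y : H) = x := congrArg Subtype.val hy
      rw [← this]
      exact y.2
    refine ⟨M ⊔ (R : Subgroup H), ⟨fun n hn g => ?_⟩, isSolvable_sup_pGroup M R hMs R.isPGroup',
      hiff⟩
    exact (hiff _).2 ((rough_conj g n).2 ((hiff n).1 hn))
  · exact ⟨M, hMn, hMs, fun x => (hM x).trans (rough_succ_iff_of_not_prime hr x)⟩

theorem tower_all [Finite H]
    (hratio : ∀ r : ℕ, r.Prime → cnt H r = cnt H (r + 1) * r ^ (Nat.card H).factorization r) :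
    ∀ d r : ℕ, r + d = Nat.card H + 1 → Tower H r := by
  intro d
  induction d with
  | zero =>
    intro r hr
    exact tower_of_card_lt r (by omega)
  | succ d ih =>
    intro r hr
    exact tower_step hratio r (ih (r + 1) (by omega))

theorem isSolvable_of_cnt_ratio [Finite H]
    (hratio : ∀ r : ℕ, r.Prime → cnt H r = cnt H (r + 1) * r ^ (Nat.card H).factorization r) :
    Group.IsSolvable H := by
  obtain ⟨M, -, hMs, hM⟩ := tower_all hratio (Nat.card H + 1) 0 (by omega)
  have htop : M = ⊤ := by
    rw [eq_top_iff]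
    intro x _
    exact (hM x).2 (fun q _ _ => Nat.zero_le q)
  rw [htop] at hMs
  exact Group.isSolvable_of_surjective (f := (Subgroup.topEquiv : (⊤ : Subgroup H) ≃* H).toMonoidHom)
    (MulEquiv.surjective _)

end Cfsg.Agent.Helper8.OrdType
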