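import Mathlib

set_option autoImplicit false

/-!
The normaliser `S` of the nonsplit torus `F[w]ˣ`, `w = !![0, -1; 1, 0]`, in `GL₂(ZMod q)` for a prime
`q ≡ 3 (mod 4)`: any two conjugates of `S` share a noncentral element, and if `q + 1 = 2 ^ k` every
element of `S` has a `2 ^ k`-th power in the centre.
-/

namespace Cfsg.Agent.Helper8.PGL2M

open Matrix

variable {q : ℕ} [Fact q.Prime]

/-- the matrix of a quarter turn. -/
def w (q : ℕ) : Matrix (Fin 2) (Fin 2) (ZMod q) := !![0, -1; 1, 0]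

theorem w_mul_w : w q * w q = -1 := by
  unfold w
  ext i j
  fin_cases i <;> fin_cases j <;> simp [Matrix.mul_apply, Fin.sum_univ_two]

theorem mul_w (M : Matrix (Fin 2) (Fin 2) (ZMod q)) :
    M * w q = !![M 0 1, -M 0 0; M 1 1, -M 1 0] := by
  unfold w
  ext i j
  fin_cases i <;> fin_cases j <;> simp [Matrix.mul_apply, Fin.sum_univ_two]

theorem w_mul (M : Matrix (Fin 2) (Fin 2) (ZMod q)) :
    w q * M = !![-M 1 0, -M 1 1; M 0 0, M 0 1] := by
  unfold w
  ext i j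
  fin_cases i <;> fin_cases j <;> simp [Matrix.mul_apply, Fin.sum_univ_two]

theorem eq_of_commute {M : Matrix (Fin 2) (Fin 2) (ZMod q)} (h : M * w q = w q * M) :
    M = M 0 0 • (1 : Matrix (Fin 2) (Fin 2) (ZMod q)) + M 1 0 • w q := by
  rw [mul_w, w_mul] at h
  have h00 := congrFun (congrFun h 0) 0
  have h01 := congrFun (congrFun h 0) 1
  simp at h00 h01
  unfold w
  ext i j
  fin_cases i <;> fin_cases j <;> simp [h00, h01]

theorem eq_of_anticommute {M : Matrix (Fin 2) (Fin 2) (ZMod q)} (h : M * w q = -(w q * M)) :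
    M = !![M 0 0, M 0 1; M 0 1, -M 0 0] := by
  rw [mul_w, w_mul] at h
  have h00 := congrFun (congrFun h 0) 0
  have h01 := congrFun (congrFun h 0) 1
  simp at h00 h01
  ext i j
  fin_cases i <;> fin_cases j <;> simp [h00, h01]

theorem sq_add_sq_eq_zero (h3 : q % 4 = 3) {a b : ZMod q} (h : a ^ 2 + b ^ 2 = 0) :
    a = 0 ∧ b = 0 := by
  by_cases hb : b = 0
  · rw [hb] at h
    refine ⟨?_, hb⟩
    have : a ^ 2 = 0 := by linear_combination h
    exact pow_eq_zero_iff (two_ne_zero) |>.mp this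
  · exfalso
    have : IsSquare (-1 : ZMod q) := by
      refine ⟨a / b, ?_⟩
      field_simp
      linear_combination -h
    rw [ZMod.exists_sq_eq_neg_one_iff] at this
    exact this h3

theorem two_ne_zero' (h3 : q % 4 = 3) : (2 : ZMod q) ≠ 0 := by
  intro h
  have h2 : ((2 : ℕ) : ZMod q) = 0 := by exact_mod_cast h
  rw [ZMod.natCast_eq_zero_iff] at h2
  have := Nat.le_of_dvd (by norm_num) h2
  have hq := (Fact.out : q.Prime).two_le
  interval_cases q <;> omega

/-- a nonzero matrix anticommuting with `w` is invertible. -/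
theorem det_ne_zero_of_anticommute (h3 : q % 4 = 3) {M : Matrix (Fin 2) (Fin 2) (ZMod q)}
    (h : M * w q = -(w q * M)) (hM : M ≠ 0) : M.det ≠ 0 := by
  intro hd
  have e := eq_of_anticommute h
  rw [e, Matrix.det_fin_two_of] at hd
  obtain ⟨h0, h1⟩ := sq_add_sq_eq_zero h3 (a := M 0 0) (b := M 0 1) (by linear_combination -hd)
  apply hM
  rw [e, h0, h1]
  ext i j
  fin_cases i <;> fin_cases j <;> simp

/-- the square of a matrix anticommuting with `w` is a scalar. -/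
theorem sq_of_anticommute {M : Matrix (Fin 2) (Fin 2) (ZMod q)} (h : M * w q = -(w q * M)) :
    M * M = (M 0 0 ^ 2 + M 0 1 ^ 2) • (1 : Matrix (Fin 2) (Fin 2) (ZMod q)) := by
  have e := eq_of_anticommute h
  obtain ⟨a, ha⟩ : ∃ a, a = M 0 0 := ⟨_, rfl⟩
  obtain ⟨b, hb⟩ : ∃ b, b = M 0 1 := ⟨_, rfl⟩
  rw [← ha, ← hb] at e ⊢
  rw [e]
  ext i j
  fin_cases i <;> fin_cases j <;> simp [Matrix.mul_apply, Fin.sum_univ_two] <;> ring

theorem w_pow (h3 : q % 4 = 3) : w q ^ q = -w q := by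
  obtain ⟨m, hm⟩ : ∃ m, q = 2 * (2 * m + 1) + 1 := ⟨q / 4, by omega⟩
  have e : w q ^ q = (w q * w q) ^ (2 * m + 1) * w q := by
    rw [← pow_two, ← pow_mul, ← pow_succ, ← hm]
  rw [e, w_mul_w, Odd.neg_one_pow ⟨m, rfl⟩, neg_one_mul]

/-- the `(q+1)`-st power of a matrix commuting with `w` is a scalar. -/
theorem pow_of_commute (h3 : q % 4 = 3) {M : Matrix (Fin 2) (Fin 2) (ZMod q)}
    (h : M * w q = w q * M) :
    M ^ (q + 1) = (M 0 0 ^ 2 + M 1 0 ^ 2) • (1 : Matrix (Fin 2) (Fin 2) (ZMod q)) := by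
  have e := eq_of_commute h
  obtain ⟨a, ha⟩ : ∃ a, a = M 0 0 := ⟨_, rfl⟩
  obtain ⟨b, hb⟩ : ∃ b, b = M 1 0 := ⟨_, rfl⟩
  rw [← ha, ← hb] at e ⊢
  have hcomm : Commute (a • (1 : Matrix (Fin 2) (Fin 2) (ZMod q))) (b • w q) := by
    unfold Commute SemiconjBy
    rw [Matrix.smul_mul, Matrix.mul_smul, Matrix.mul_smul, Matrix.smul_mul, one_mul, mul_one]
  have hq : M ^ q = a • (1 : Matrix (Fin 2) (Fin 2) (ZMod q)) - b • w q := by
    rw [e, add_pow_char_of_commute q hcomm, smul_pow, smul_pow, one_pow, ZMod.pow_card,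
      ZMod.pow_card, w_pow h3, smul_neg, sub_eq_add_neg]
  rw [pow_succ, hq]
  nth_rewrite 1 [e]
  rw [sub_mul, mul_add, mul_add, Matrix.smul_mul, Matrix.mul_smul, Matrix.smul_mul,
    Matrix.mul_smul, Matrix.smul_mul, Matrix.mul_smul, Matrix.smul_mul, Matrix.mul_smul, one_mul,
    one_mul, mul_one, w_mul_w, smul_smul, smul_smul, smul_smul, smul_smul, add_smul]
  rw [mul_comm b a, pow_two, pow_two, smul_neg]
  abel

/-- the subgroup of matrices commuting or anticommuting with `w`. -/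
def S (q : ℕ) [Fact q.Prime] : Subgroup (GL (Fin 2) (ZMod q)) where
  carrier := {s | (s : Matrix (Fin 2) (Fin 2) (ZMod q)) * w q = w q * s ∨
    (s : Matrix (Fin 2) (Fin 2) (ZMod q)) * w q = -(w q * s)}
  mul_mem' := by
    rintro s t hs ht
    show ((s * t : GL (Fin 2) (ZMod q)) : Matrix (Fin 2) (Fin 2) (ZMod q)) * w q = _ ∨ _ = _
    rw [Units.val_mul]
    rcases hs with hs | hs <;> rcases ht with ht | ht
    · left
      rw [Matrix.mul_assoc, ht, ← Matrix.mul_assoc, hs, Matrix.mul_assoc]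
    · right
      rw [Matrix.mul_assoc, ht, Matrix.mul_neg, ← Matrix.mul_assoc, hs, Matrix.mul_assoc]
    · right
      rw [Matrix.mul_assoc, ht, ← Matrix.mul_assoc, hs, Matrix.neg_mul, Matrix.mul_assoc]
    · left
      rw [Matrix.mul_assoc, ht, Matrix.mul_neg, ← Matrix.mul_assoc, hs, Matrix.neg_mul, neg_neg,
        Matrix.mul_assoc]
  one_mem' := by
    left
    show ((1 : GL (Fin 2) (ZMod q)) : Matrix (Fin 2) (Fin 2) (ZMod q)) * w q = _
    rw [Units.val_one, one_mul, mul_one]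
  inv_mem' := by
    rintro s hs
    have h1 : ((s⁻¹ : GL (Fin 2) (ZMod q)) : Matrix (Fin 2) (Fin 2) (ZMod q)) * s = 1 := by
      rw [← Units.val_mul, inv_mul_cancel, Units.val_one]
    have h2 : (s : Matrix (Fin 2) (Fin 2) (ZMod q)) * (s⁻¹ : GL (Fin 2) (ZMod q)) = 1 := by
      rw [← Units.val_mul, mul_inv_cancel, Units.val_one]
    rcases hs with hs | hs
    · left
      show ((s⁻¹ : GL (Fin 2) (ZMod q)) : Matrix (Fin 2) (Fin 2) (ZMod q)) * w q = _
      calc ((s⁻¹ : GL (Fin 2) (ZMod q)) : Matrix (Fin 2) (Fin 2) (ZMod q)) * w q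
          = (s⁻¹ : GL (Fin 2) (ZMod q)) * (w q * s) * (s⁻¹ : GL (Fin 2) (ZMod q)) := by
            rw [Matrix.mul_assoc, Matrix.mul_assoc, h2, mul_one]
        _ = (s⁻¹ : GL (Fin 2) (ZMod q)) * (s * w q) * (s⁻¹ : GL (Fin 2) (ZMod q)) := by rw [hs]
        _ = w q * (s⁻¹ : GL (Fin 2) (ZMod q)) := by
            rw [← Matrix.mul_assoc, h1, one_mul]
    · right
      show ((s⁻¹ : GL (Fin 2) (ZMod q)) : Matrix (Fin 2) (Fin 2) (ZMod q)) * w q = _
      have hs' : w q * (s : Matrix (Fin 2) (Fin 2) (ZMod q)) = -(s * w q) := by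
        rw [hs, neg_neg]
      calc ((s⁻¹ : GL (Fin 2) (ZMod q)) : Matrix (Fin 2) (Fin 2) (ZMod q)) * w q
          = (s⁻¹ : GL (Fin 2) (ZMod q)) * (w q * s) * (s⁻¹ : GL (Fin 2) (ZMod q)) := by
            rw [Matrix.mul_assoc, Matrix.mul_assoc, h2, mul_one]
        _ = (s⁻¹ : GL (Fin 2) (ZMod q)) * (-(s * w q)) * (s⁻¹ : GL (Fin 2) (ZMod q)) := by
            rw [hs']
        _ = -(w q * (s⁻¹ : GL (Fin 2) (ZMod q))) := by
            rw [Matrix.mul_neg, Matrix.neg_mul, ← Matrix.mul_assoc, h1, one_mul]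

theorem mem_S {s : GL (Fin 2) (ZMod q)} : s ∈ S q ↔
    ((s : Matrix (Fin 2) (Fin 2) (ZMod q)) * w q = w q * s ∨
      (s : Matrix (Fin 2) (Fin 2) (ZMod q)) * w q = -(w q * s)) := Iff.rfl

/-- scalar matrices are central. -/
theorem mem_center_of_scalar {g : GL (Fin 2) (ZMod q)} {c : ZMod q}
    (h : (g : Matrix (Fin 2) (Fin 2) (ZMod q)) = c • 1) : g ∈ Subgroup.center (GL (Fin 2) (ZMod q)) := by
  rw [Subgroup.mem_center_iff]
  intro x
  apply Units.ext
  rw [Units.val_mul, Units.val_mul, h, Matrix.mul_smul, Matrix.smul_mul, mul_one, one_mul]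

/-- the `2 ^ k`-th power of an element of `S` is central if `q + 1 = 2 ^ k`. -/
theorem pow_mem_center {k : ℕ} (hk : q + 1 = 2 ^ k) (h3 : q % 4 = 3) {s : GL (Fin 2) (ZMod q)}
    (hs : s ∈ S q) : s ^ (2 ^ k) ∈ Subgroup.center (GL (Fin 2) (ZMod q)) := by
  rcases hs with hs | hs
  · apply mem_center_of_scalar (c := (s.1 0 0 ^ 2 + s.1 1 0 ^ 2))
    rw [Units.val_pow_eq_pow_val, ← hk]
    exact pow_of_commute h3 hs
  · obtain ⟨j, hj⟩ : ∃ j, k = j + 1 := by
      rcases k with _ | j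
      · omega
      · exact ⟨j, rfl⟩
    apply mem_center_of_scalar (c := (s.1 0 0 ^ 2 + s.1 0 1 ^ 2) ^ (2 ^ j))
    rw [Units.val_pow_eq_pow_val, hj, pow_succ, mul_comm, pow_mul, pow_two, sq_of_anticommute hs,
      smul_pow, one_pow]

/-- the unit with matrix `w`. -/
def W (q : ℕ) [Fact q.Prime] : GL (Fin 2) (ZMod q) :=
  ⟨w q, -w q, by rw [Matrix.mul_neg, w_mul_w, neg_neg], by rw [Matrix.neg_mul, w_mul_w, neg_neg]⟩

theorem W_val : ((W q : GL (Fin 2) (ZMod q)) : Matrix (Fin 2) (Fin 2) (ZMod q)) = w q := rfl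

theorem W_mem : W q ∈ S q := Or.inl rfl

theorem W_not_mem_center : W q ∉ Subgroup.center (GL (Fin 2) (ZMod q)) := by
  intro h
  rw [Subgroup.mem_center_iff] at h
  have hu : (!![1, 1; 0, 1] : Matrix (Fin 2) (Fin 2) (ZMod q)).det ≠ 0 := by
    rw [Matrix.det_fin_two_of]
    simp
  have := h (Matrix.GeneralLinearGroup.mkOfDetNeZero _ hu)
  have e := congrArg (fun g : GL (Fin 2) (ZMod q) => (g : Matrix (Fin 2) (Fin 2) (ZMod q)) 0 0) this
  simp only [Units.val_mul, W_val] at e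
  have hval : ((Matrix.GeneralLinearGroup.mkOfDetNeZero _ hu : GL (Fin 2) (ZMod q)) :
      Matrix (Fin 2) (Fin 2) (ZMod q)) = !![1, 1; 0, 1] := rfl
  rw [hval, mul_w, w_mul] at e
  simp at e

/-- **Key lemma.** `S` and any conjugate of `S` share a noncentral element. -/
theorem exists_common (h3 : q % 4 = 3) (y : GL (Fin 2) (ZMod q)) :
    ∃ g ∈ S q, g ∉ Subgroup.center (GL (Fin 2) (ZMod q)) ∧ y⁻¹ * g * y ∈ S q := by
  have h1 : ((y⁻¹ : GL (Fin 2) (ZMod q)) : Matrix (Fin 2) (Fin 2) (ZMod q)) * y = 1 := by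
    rw [← Units.val_mul, inv_mul_cancel, Units.val_one]
  have h2 : (y : Matrix (Fin 2) (Fin 2) (ZMod q)) * (y⁻¹ : GL (Fin 2) (ZMod q)) = 1 := by
    rw [← Units.val_mul, mul_inv_cancel, Units.val_one]
  obtain ⟨w₂, hw₂⟩ : ∃ w₂, w₂ = (y : Matrix (Fin 2) (Fin 2) (ZMod q)) * w q *
    (y⁻¹ : GL (Fin 2) (ZMod q)) := ⟨_, rfl⟩
  have hw₂sq : w₂ * w₂ = -1 := by
    rw [hw₂]
    calc (y : Matrix (Fin 2) (Fin 2) (ZMod q)) * w q * (y⁻¹ : GL (Fin 2) (ZMod q)) *
          ((y : Matrix (Fin 2) (Fin 2) (ZMod q)) * w q * (y⁻¹ : GL (Fin 2) (ZMod q)))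
        = y * (w q * ((y⁻¹ : GL (Fin 2) (ZMod q)) * y) * w q) * (y⁻¹ : GL (Fin 2) (ZMod q)) := by
          simp only [Matrix.mul_assoc]
      _ = -1 := by
          rw [h1, mul_one, w_mul_w, Matrix.mul_neg, mul_one, Matrix.neg_mul, h2]
  -- conjugating back
  have hback : ∀ c : Matrix (Fin 2) (Fin 2) (ZMod q), ∀ ε : ZMod q, c * w₂ = ε • (w₂ * c) →
      ((y⁻¹ : GL (Fin 2) (ZMod q)) : Matrix (Fin 2) (Fin 2) (ZMod q)) * c * y * w q =
        ε • (w q * ((y⁻¹ : GL (Fin 2) (ZMod q)) * c * y)) := by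
    intro c ε hc
    have e1 : w q = (y⁻¹ : GL (Fin 2) (ZMod q)) * w₂ * y := by
      rw [hw₂]
      calc w q = 1 * w q * 1 := by rw [one_mul, mul_one]
        _ = ((y⁻¹ : GL (Fin 2) (ZMod q)) * y) * w q * ((y⁻¹ : GL (Fin 2) (ZMod q)) * y) := by
            rw [h1]
        _ = _ := by simp only [Matrix.mul_assoc]
    calc ((y⁻¹ : GL (Fin 2) (ZMod q)) : Matrix (Fin 2) (Fin 2) (ZMod q)) * c * y * w q
        = (y⁻¹ : GL (Fin 2) (ZMod q)) * c * (y * (y⁻¹ : GL (Fin 2) (ZMod q))) * w₂ * y := by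
          nth_rewrite 1 [e1]
          simp only [Matrix.mul_assoc]
      _ = (y⁻¹ : GL (Fin 2) (ZMod q)) * (c * w₂) * y := by
          rw [h2, mul_one]
          simp only [Matrix.mul_assoc]
      _ = ε • ((y⁻¹ : GL (Fin 2) (ZMod q)) * w₂ * (y * (y⁻¹ : GL (Fin 2) (ZMod q))) * c * y) := by
          rw [hc, h2, mul_one, Matrix.mul_smul, Matrix.smul_mul]
          simp only [Matrix.mul_assoc]
      _ = ε • (w q * ((y⁻¹ : GL (Fin 2) (ZMod q)) * c * y)) := by
          nth_rewrite 1 [e1]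
          simp only [Matrix.mul_assoc]
  by_cases hc : w q * w₂ - w₂ * w q = 0
  · -- `w` itself
    refine ⟨W q, W_mem, W_not_mem_center, ?_⟩
    left
    show ((y⁻¹ * W q * y : GL (Fin 2) (ZMod q)) : Matrix (Fin 2) (Fin 2) (ZMod q)) * w q = _
    rw [Units.val_mul, Units.val_mul, W_val]
    have := hback (w q) 1 (by rw [one_smul]; exact sub_eq_zero.mp hc)
    rw [one_smul] at this
    exact this
  · obtain ⟨c, hcdef⟩ : ∃ c, c = w q * w₂ - w₂ * w q := ⟨_, rfl⟩
    rw [← hcdef] at hc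
    have hcw : c * w q = -(w q * c) := by
      rw [hcdef, sub_mul, mul_sub, Matrix.mul_assoc, Matrix.mul_assoc, w_mul_w,
        ← Matrix.mul_assoc (w q) (w q), w_mul_w]
      rw [Matrix.mul_neg, mul_one, Matrix.neg_mul, one_mul]
      abel
    have hcw₂ : c * w₂ = -(w₂ * c) := by
      rw [hcdef, sub_mul, mul_sub, Matrix.mul_assoc, hw₂sq, ← Matrix.mul_assoc w₂ w₂, hw₂sq]
      rw [Matrix.mul_neg, mul_one, Matrix.neg_mul, one_mul, Matrix.mul_assoc]
      abel
    have hdet := det_ne_zero_of_anticommute h3 hcw hc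
    refine ⟨Matrix.GeneralLinearGroup.mkOfDetNeZero c hdet, Or.inr hcw, ?_, ?_⟩
    · intro hcen
      rw [Subgroup.mem_center_iff] at hcen
      have := congrArg (fun g : GL (Fin 2) (ZMod q) => (g : Matrix (Fin 2) (Fin 2) (ZMod q)))
        (hcen (W q))
      simp only [Units.val_mul, W_val] at this
      have hval : ((Matrix.GeneralLinearGroup.mkOfDetNeZero c hdet : GL (Fin 2) (ZMod q)) :
          Matrix (Fin 2) (Fin 2) (ZMod q)) = c := rfl
      rw [hval] at this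
      -- `w c = c w = - w c`
      have h0 : (2 : ZMod q) • (w q * c) = 0 := by
        rw [two_smul]
        nth_rewrite 1 [this]
        rw [hcw, neg_add_cancel]
      have h0' : w q * c = 0 := by
        rcases smul_eq_zero.mp h0 with h | h
        · exact absurd h (two_ne_zero' h3)
        · exact h
      apply hc
      have : w q * (w q * c) = 0 := by rw [h0', mul_zero]
      rw [← Matrix.mul_assoc, w_mul_w, Matrix.neg_mul, one_mul, neg_eq_zero] at this
      exact this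
    · right
      show ((y⁻¹ * Matrix.GeneralLinearGroup.mkOfDetNeZero c hdet * y : GL (Fin 2) (ZMod q)) :
        Matrix (Fin 2) (Fin 2) (ZMod q)) * w q = _
      rw [Units.val_mul, Units.val_mul]
      have hval : ((Matrix.GeneralLinearGroup.mkOfDetNeZero c hdet : GL (Fin 2) (ZMod q)) :
          Matrix (Fin 2) (Fin 2) (ZMod q)) = c := rfl
      rw [hval]
      have := hback c (-1) (by rw [neg_one_smul]; exact hcw₂)
      rw [neg_one_smul] at this
      exact this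

end Cfsg.Agent.Helper8.PGL2M
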