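import Cfsg.Agent.Helper8.SemiSOrderR
set_option autoImplicit false

namespace Cfsg.Agent.Helper8.PGLr

open Polynomial Matrix

variable {F : Type*} [Field F] {n : ℕ}

theorem mem_center_iff (g : GL (Fin n) F) :
    g ∈ Subgroup.center (GL (Fin n) F) ↔ ∃ z : Fˣ, g = GeneralLinearGroup.scalar (Fin n) z := by
  rw [GeneralLinearGroup.center_eq_range_scalar]
  constructor
  · rintro ⟨z, hz⟩
    exact ⟨z, hz.symm⟩
  · rintro ⟨z, hz⟩
    exact ⟨z, hz.symm⟩

theorem proj_eq_iff (g g' : GL (Fin n) F) :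
    (QuotientGroup.mk g : GL (Fin n) F ⧸ Subgroup.center (GL (Fin n) F)) = QuotientGroup.mk g' ↔
      ∃ z : Fˣ, g' = g * GeneralLinearGroup.scalar (Fin n) z := by
  rw [QuotientGroup.eq, mem_center_iff]
  constructor
  · rintro ⟨z, hz⟩
    exact ⟨z, by rw [← hz, mul_inv_cancel_left]⟩
  · rintro ⟨z, hz⟩
    exact ⟨z, by rw [hz, inv_mul_cancel_left]⟩

theorem proj_isConj_iff (g g' : GL (Fin n) F) :
    IsConj (QuotientGroup.mk g : GL (Fin n) F ⧸ Subgroup.center (GL (Fin n) F))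
      (QuotientGroup.mk g') ↔
      ∃ (x : GL (Fin n) F) (z : Fˣ), g' = x * g * x⁻¹ * GeneralLinearGroup.scalar (Fin n) z := by
  rw [isConj_iff]
  constructor
  · rintro ⟨c, hc⟩
    obtain ⟨x, rfl⟩ := QuotientGroup.mk_surjective c
    rw [← QuotientGroup.mk_inv, ← QuotientGroup.mk_mul, ← QuotientGroup.mk_mul, proj_eq_iff] at hc
    obtain ⟨z, hz⟩ := hc
    exact ⟨x, z, hz⟩
  · rintro ⟨x, z, hz⟩
    refine ⟨QuotientGroup.mk x, ?_⟩
    rw [← QuotientGroup.mk_inv, ← QuotientGroup.mk_mul, ← QuotientGroup.mk_mul, proj_eq_iff]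
    exact ⟨z, hz⟩

theorem orderOf_proj_eq_prime_iff (r : ℕ) (hr : r.Prime) (g : GL (Fin n) F) :
    orderOf (QuotientGroup.mk g : GL (Fin n) F ⧸ Subgroup.center (GL (Fin n) F)) = r ↔
      g ∉ Subgroup.center (GL (Fin n) F) ∧ g ^ r ∈ Subgroup.center (GL (Fin n) F) := by
  have : Fact r.Prime := ⟨hr⟩
  rw [orderOf_eq_prime_iff, ← QuotientGroup.mk_pow, QuotientGroup.eq_one_iff, Ne,
    QuotientGroup.eq_one_iff]
  exact and_comm

/-- the characteristic polynomial of a scaled matrix -/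
theorem charpoly_smul (z : F) (hz : z ≠ 0) (A : Matrix (Fin n) (Fin n) F) :
    (z • A).charpoly = C (z ^ n) * A.charpoly.comp (C z⁻¹ * X) := by
  have h1 : (Polynomial.compRingHom (C z⁻¹ * X : F[X])).mapMatrix (charmatrix A) =
      (C z⁻¹ : F[X]) • charmatrix (z • A) := by
    ext i j
    rw [RingHom.mapMatrix_apply, Matrix.map_apply, Matrix.smul_apply, charmatrix_apply,
      charmatrix_apply, Polynomial.coe_compRingHom_apply, sub_comp, C_comp, Matrix.smul_apply,
      smul_eq_mul, smul_eq_mul, mul_sub, ← C_mul, ← mul_assoc, inv_mul_cancel₀ hz, one_mul]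
    congr 1
    by_cases hij : i = j
    · subst hij
      rw [Matrix.diagonal_apply_eq, X_comp]
    · rw [Matrix.diagonal_apply_ne _ hij, zero_comp, mul_zero]
  have h2 := RingHom.map_det (Polynomial.compRingHom (C z⁻¹ * X : F[X])) (charmatrix A)
  rw [h1, Matrix.det_smul, Fintype.card_fin] at h2
  change (A.charpoly).comp (C z⁻¹ * X) = C z⁻¹ ^ n * (z • A).charpoly at h2
  rw [h2, ← mul_assoc, ← C_pow, ← C_mul, ← mul_pow, mul_inv_cancel₀ hz, one_pow, C_1, one_mul]

section finite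

variable [Fintype F]

/-- in the cyclic group `Fˣ` of order `a * b`, the elements killed by `a` are `b`-th powers -/
theorem exists_pow_eq_of_pow_eq_one (a b : ℕ) (hab : a * b = Fintype.card F - 1) (x : Fˣ)
    (hx : x ^ a = 1) : ∃ y : Fˣ, y ^ b = x := by
  classical
  obtain ⟨ω, hω⟩ := IsCyclic.exists_ofOrder_eq_natCard (α := Fˣ)
  have hcard : Nat.card Fˣ = Fintype.card F - 1 := by
    rw [Nat.card_eq_fintype_card, Fintype.card_units]
  have hq : 2 ≤ Fintype.card F := Fintype.one_lt_card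
  have ha : 0 < a := by
    rcases Nat.eq_zero_or_pos a with h | h
    · rw [h, zero_mul] at hab; omega
    · exact h
  have hgen : ∀ y : Fˣ, y ∈ Subgroup.zpowers ω := by
    intro y
    have : Subgroup.zpowers ω = ⊤ := by
      apply Subgroup.eq_top_of_card_eq
      rw [Nat.card_zpowers, hω]
    rw [this]
    exact Subgroup.mem_top y
  have hx' := hgen x
  rw [← mem_powers_iff_mem_zpowers] at hx'
  obtain ⟨k, hk⟩ := hx'
  change ω ^ k = x at hk
  have h1 : ω ^ (k * a) = 1 := by rw [pow_mul, hk, hx]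
  have h2 : a * b ∣ k * a := by
    rw [hab, ← hcard, ← hω]
    exact orderOf_dvd_of_pow_eq_one h1
  have h3 : b ∣ k := by
    rw [mul_comm k a] at h2
    exact Nat.dvd_of_mul_dvd_mul_left ha h2
  obtain ⟨c, hc⟩ := h3
  refine ⟨ω ^ c, ?_⟩
  rw [← pow_mul, mul_comm, ← hc, hk]

theorem exists_primitiveRoot (r : ℕ) (hrq : r ∣ Fintype.card F - 1) :
    ∃ ζ : F, IsPrimitiveRoot ζ r := by
  classical
  obtain ⟨ω, hω⟩ := IsCyclic.exists_ofOrder_eq_natCard (α := Fˣ)
  have hcard : Nat.card Fˣ = Fintype.card F - 1 := by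
    rw [Nat.card_eq_fintype_card, Fintype.card_units]
  have hq : 2 ≤ Fintype.card F := Fintype.one_lt_card
  obtain ⟨m, hm⟩ := hrq
  have hm0 : m ≠ 0 := by
    rintro rfl
    omega
  have hord : orderOf (ω ^ m) = r := by
    rw [orderOf_pow_of_dvd hm0 (by rw [hω, hcard, hm]; exact dvd_mul_left m r), hω, hcard, hm,
      Nat.mul_div_cancel _ (Nat.pos_of_ne_zero hm0)]
  refine ⟨((ω ^ m : Fˣ) : F), ?_⟩
  rw [IsPrimitiveRoot.coe_units_iff, IsPrimitiveRoot.iff_orderOf]
  exact hord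

end finite

end Cfsg.Agent.Helper8.PGLr
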