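import Cfsg.Agent.Helper8.PGLrTup
set_option autoImplicit false

namespace Cfsg.Agent.Helper8.PGLr

variable {W : Type*} [Group W] [Fintype W] [DecidableEq W]

theorem fixed_iff_const {r n : ℕ} (hr : r.Prime) (hW : Fintype.card W = r) (w : W) (hw : w ≠ 1)
    (a : Tup W n) : w • a = a ↔ ∀ v, a.1 v = a.1 1 := by
  haveI : Fact r.Prime := ⟨hr⟩
  constructor
  · intro h v
    have h1 : w ∈ MulAction.stabilizer W a := h
    have h2 : Subgroup.zpowers w = ⊤ :=
      zpowers_eq_top_of_prime_card (by rw [Nat.card_eq_fintype_card, hW]) hw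
    have h3 : v ∈ MulAction.stabilizer W a := by
      have : Subgroup.zpowers w ≤ MulAction.stabilizer W a := by
        rw [Subgroup.zpowers_le]
        exact h1
      rw [h2] at this
      exact this (Subgroup.mem_top v)
    have h4 : v • a = a := h3
    have h5 := congrArg (fun b : Tup W n => b.1 v) h4
    simp only [smul_tup_apply, inv_mul_cancel] at h5
    exact h5.symm
  · intro h
    apply Subtype.ext
    funext v
    rw [smul_tup_apply, h, h v]

theorem card_fixed {r n : ℕ} (hr : r.Prime) (hW : Fintype.card W = r) (hn : 1 ≤ n) (w : W)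
    (hw : w ≠ 1) :
    Nat.card (MulAction.fixedBy (Tup W n) w) = if r ∣ n then 1 else 0 := by
  have hr2 := hr.two_le
  have e : MulAction.fixedBy (Tup W n) w ≃ {c : ℕ // r * c = n} :=
    { toFun := fun a => ⟨a.1.1 1, by
        have h1 := (fixed_iff_const hr hW w hw a.1).mp a.2
        have h2 := a.1.2.1
        rw [Finset.sum_congr rfl (fun v _ => h1 v), Finset.sum_const, Finset.card_univ, hW,
          smul_eq_mul] at h2
        exact h2⟩
      invFun := fun c => ⟨(⟨fun _ => c.1, by
          rw [Finset.sum_const, Finset.card_univ, hW, smul_eq_mul]; exact c.2, by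
          intro c' h
          have hc0 : c.1 ≠ 0 := by
            intro h0
            have := c.2
            rw [h0, mul_zero] at this
            omega
          obtain ⟨v, hv⟩ : ∃ v : W, v ≠ c' := by
            have : 1 < Fintype.card W := by omega
            exact Fintype.exists_ne_of_one_lt_card this c'
          have := congrFun h v
          rw [Pi.single_eq_of_ne hv] at this
          exact hc0 this⟩ : Tup W n),
          (fixed_iff_const hr hW w hw _).mpr (fun v => rfl)⟩
      left_inv := by
        intro a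
        apply Subtype.ext
        apply Subtype.ext
        funext v
        exact ((fixed_iff_const hr hW w hw a.1).mp a.2 v).symm
      right_inv := fun c => rfl }
  rw [Nat.card_congr e]
  split_ifs with hdvd
  · obtain ⟨c, hc⟩ := hdvd
    rw [Nat.card_eq_one_iff_unique]
    refine ⟨⟨?_⟩, ⟨⟨c, hc.symm⟩⟩⟩
    rintro ⟨c₁, h₁⟩ ⟨c₂, h₂⟩
    apply Subtype.ext
    have : r * c₁ = r * c₂ := by rw [h₁, h₂]
    exact Nat.eq_of_mul_eq_mul_left (by omega) this
  · rw [Nat.card_eq_zero]
    left
    refine ⟨?_⟩
    rintro ⟨c, hc⟩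
    exact hdvd ⟨c, hc.symm⟩

theorem card_orbits_mul (r n : ℕ) (hr : r.Prime) (hW : Fintype.card W = r) (hn : 1 ≤ n) :
    Nat.card (Quotient (MulAction.orbitRel W (Tup W n))) * r =
      (Nat.choose (r + n - 1) n - r) + (r - 1) * (if r ∣ n then 1 else 0) := by
  classical
  haveI : Fintype (Tup W n) := Fintype.ofFinite _
  haveI : Fintype (Quotient (MulAction.orbitRel W (Tup W n))) := Fintype.ofFinite _
  haveI : ∀ w : W, Fintype (MulAction.fixedBy (Tup W n) w) := fun w => Fintype.ofFinite _
  have hB := MulAction.sum_card_fixedBy_eq_card_orbits_mul_card_group W (Tup W n)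
  rw [hW] at hB
  rw [Nat.card_eq_fintype_card, ← hB, ← Finset.add_sum_erase Finset.univ _ (Finset.mem_univ (1 : W))]
  congr 1
  · rw [← Nat.card_eq_fintype_card, ← hW, ← card_tup n hn]
    apply Nat.card_congr
    exact
      { toFun := fun a => a.1
        invFun := fun a => ⟨a, by rw [MulAction.mem_fixedBy, one_smul]⟩
        left_inv := fun a => rfl
        right_inv := fun a => rfl }
  · have h1 : ∀ w ∈ Finset.univ.erase (1 : W), Fintype.card (MulAction.fixedBy (Tup W n) w) =
        if r ∣ n then 1 else 0 := by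
      intro w hw
      rw [← Nat.card_eq_fintype_card]
      exact card_fixed hr hW hn w (Finset.ne_of_mem_erase hw)
    rw [Finset.sum_congr rfl h1, Finset.sum_const, Finset.card_erase_of_mem (Finset.mem_univ _),
      Finset.card_univ, hW, smul_eq_mul]

end Cfsg.Agent.Helper8.PGLr

namespace Cfsg.Agent.Helper8.PGLr

variable {W : Type*} [Group W] [Fintype W] [DecidableEq W]

theorem card_orbits (r n : ℕ) (hr : r.Prime) (hW : Fintype.card W = r) (hn : 1 ≤ n) :
    Nat.card (Quotient (MulAction.orbitRel W (Tup W n))) =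
      (Nat.choose (n + r - 1) (r - 1) - r - (if r ∣ n then 1 else 0)) / r +
        (if r ∣ n then 1 else 0) := by
  have hr2 := hr.two_le
  have hmul := card_orbits_mul (W := W) r n hr hW hn
  have hC : Nat.choose (n + r - 1) (r - 1) = Nat.choose (r + n - 1) n := by
    have h1 : n + r - 1 = r + n - 1 := by omega
    rw [h1]
    exact Nat.choose_symm_of_eq_add (by omega)
  rw [hC]
  generalize Nat.choose (r + n - 1) n - r = D at hmul ⊢
  generalize Nat.card (Quotient (MulAction.orbitRel W (Tup W n))) = N at hmul ⊢
  split_ifs at hmul ⊢ with hdvd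
  · rw [mul_one] at hmul
    rcases Nat.eq_zero_or_pos N with h0 | h0
    · rw [h0, zero_mul] at hmul
      omega
    · obtain ⟨N', rfl⟩ : ∃ N', N = N' + 1 := ⟨N - 1, by omega⟩
      rw [Nat.succ_mul] at hmul
      have h2 : D - 1 = N' * r := by omega
      rw [h2, Nat.mul_div_cancel _ (by omega)]
  · rw [mul_zero, add_zero] at hmul
    rw [Nat.sub_zero, add_zero, ← hmul, Nat.mul_div_cancel _ (by omega)]

end Cfsg.Agent.Helper8.PGLr
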