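import Cfsg.Agent.Helper8.PGLrSplit
set_option autoImplicit false

namespace Cfsg.Agent.Helper8.PGLr

open Polynomial Matrix
open Cfsg.Agent.Helper8.SemiS

/-- Abstract counting principle, with the invariant defined on the elements with the property. -/
theorem card_classes_of_invariant' {G : Type*} [Group G] {T : Type*} (P : G → Prop)
    (inv : {g : G // P g} → T)
    (hiff : ∀ g g' : {g : G // P g}, IsConj g.1 g'.1 ↔ inv g = inv g')
    (hsurj : Function.Surjective inv) :
    Nat.card {C : ConjClasses G // ∃ g : G, ConjClasses.mk g = C ∧ P g} = Nat.card T := by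
  classical
  apply Nat.card_congr
  let rep : {C : ConjClasses G // ∃ g : G, ConjClasses.mk g = C ∧ P g} → {g : G // P g} :=
    fun C => ⟨Classical.choose C.2, (Classical.choose_spec C.2).2⟩
  have hrep1 : ∀ C, ConjClasses.mk (rep C).1 = C.1 := fun C => (Classical.choose_spec C.2).1
  refine Equiv.ofBijective (fun C => inv (rep C)) ⟨?_, ?_⟩
  · intro C C' h
    apply Subtype.ext
    rw [← hrep1 C, ← hrep1 C', ConjClasses.mk_eq_mk_iff_isConj]
    exact (hiff _ _).mpr h
  · intro t
    obtain ⟨g, rfl⟩ := hsurj t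
    let C : {C : ConjClasses G // ∃ g : G, ConjClasses.mk g = C ∧ P g} :=
      ⟨ConjClasses.mk g.1, g.1, rfl, g.2⟩
    refine ⟨C, ?_⟩
    have h3 : IsConj (rep C).1 g.1 := ConjClasses.mk_eq_mk_iff_isConj.mp (hrep1 C)
    exact (hiff _ _).mp h3

variable {F : Type*} [Field F] {n : ℕ}

theorem prod_single (r : ℕ) [Fintype (rootsOfUnity r F)] [DecidableEq (rootsOfUnity r F)]
    (c : rootsOfUnity r F) (m : ℕ) :
    ∏ w, Qw r w ^ (Pi.single c m : rootsOfUnity r F → ℕ) w = Qw r c ^ m := by
  rw [Finset.prod_eq_single c]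
  · rw [Pi.single_eq_same]
  · intro w _ hw
    rw [Pi.single_eq_of_ne hw, pow_zero]
  · intro h
    exact absurd (Finset.mem_univ c) h

theorem charpoly_smul_one (c : F) :
    (c • (1 : Matrix (Fin n) (Fin n) F)).charpoly = (X - C c) ^ n := by
  rw [Matrix.smul_one_eq_diagonal, Matrix.charpoly_diagonal, Finset.prod_const, Finset.card_univ,
    Fintype.card_fin]

/-- a split element is central iff its exponent vector is concentrated -/
theorem mem_center_iff_single (r : ℕ) (hr0 : ((r : ℕ) : F) ≠ 0) (hn : 1 ≤ n)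
    [Fintype (rootsOfUnity r F)] [DecidableEq (rootsOfUnity r F)]
    (g : GL (Fin n) F) (hg : (g : Matrix (Fin n) (Fin n) F) ^ r = 1) (a : rootsOfUnity r F → ℕ)
    (ha : (g : Matrix (Fin n) (Fin n) F).charpoly = ∏ w, Qw r w ^ a w) :
    g ∈ Subgroup.center (GL (Fin n) F) ↔ ∃ c : rootsOfUnity r F, a = Pi.single c n := by
  have hsq : Squarefree (X ^ r - 1 : F[X]) := by
    have := squarefree_X_pow_sub_C r hr0 (1 : F) one_ne_zero
    rwa [map_one] at this
  have hQ : ∀ w : rootsOfUnity r F, (Qw r w).Monic ∧ Irreducible (Qw r w) :=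
    fun w => ⟨Qw_monic r w, Qw_irreducible r w⟩
  rw [mem_center_iff]
  constructor
  · rintro ⟨z, rfl⟩
    have h4 : (z : F) ^ r = 1 := by
      rw [coe_scalar_eq, _root_.smul_pow, one_pow] at hg
      have := congrFun (congrFun hg ⟨0, hn⟩) ⟨0, hn⟩
      simpa using this
    have hzW : z ∈ rootsOfUnity r F := by
      rw [mem_rootsOfUnity']
      exact h4
    refine ⟨⟨z, hzW⟩, ?_⟩
    rw [coe_scalar_eq, charpoly_smul_one] at ha
    have h5 : ∏ w, Qw r w ^ (Pi.single (⟨z, hzW⟩ : rootsOfUnity r F) n : rootsOfUnity r F → ℕ) w =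
        ∏ w, Qw r w ^ a w := by
      rw [prod_single, ← ha]
      rfl
    exact (prod_pow_injective (Qw r) hQ (Qw_injective r) h5).symm
  · rintro ⟨c, rfl⟩
    rw [prod_single] at ha
    have hk : aeval (g : Matrix (Fin n) (Fin n) F) (X ^ r - 1 : F[X]) = 0 := by
      rw [aeval_X_pow_sub_one, hg, sub_self]
    have hk' : aeval ((GeneralLinearGroup.scalar (Fin n) (c : Fˣ) : GL (Fin n) F) :
        Matrix (Fin n) (Fin n) F) (X ^ r - 1 : F[X]) = 0 := by
      rw [aeval_X_pow_sub_one, coe_scalar_eq, _root_.smul_pow, one_pow,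
        ← Units.val_pow_eq_pow_val]
      have : (c : Fˣ) ^ r = 1 := c.2
      rw [this, Units.val_one, one_smul, sub_self]
    have hc : ((GeneralLinearGroup.scalar (Fin n) (c : Fˣ) : GL (Fin n) F) :
        Matrix (Fin n) (Fin n) F).charpoly = (g : Matrix (Fin n) (Fin n) F).charpoly := by
      rw [coe_scalar_eq, charpoly_smul_one, ha]
      rfl
    obtain ⟨x, hx⟩ := gl_conj_of_charpoly_eq _ _ _ hsq hk' hk hc
    refine ⟨(c : Fˣ), ?_⟩
    rw [hx, ← GeneralLinearGroup.scalar_commute, mul_inv_cancel_right]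

end Cfsg.Agent.Helper8.PGLr
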