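import Cfsg.Agent.Helper8.PGLrNonsplitCount
set_option autoImplicit false

namespace Cfsg.Agent.Helper8.PGLr

open Polynomial Matrix
open Cfsg.Agent.Helper8.SemiS

/-- classes of elements with one of two disjoint conjugation-invariant properties -/
theorem card_classes_or {G : Type*} [Group G] [Finite G] (P₁ P₂ : G → Prop)
    (hinv : ∀ g x : G, P₁ g → P₁ (x * g * x⁻¹)) (hdisj : ∀ g, P₁ g → ¬ P₂ g) :
    Nat.card {C : ConjClasses G // ∃ g : G, ConjClasses.mk g = C ∧ (P₁ g ∨ P₂ g)} =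
      Nat.card {C : ConjClasses G // ∃ g : G, ConjClasses.mk g = C ∧ P₁ g} +
        Nat.card {C : ConjClasses G // ∃ g : G, ConjClasses.mk g = C ∧ P₂ g} := by
  classical
  rw [← Nat.card_sum]
  apply Nat.card_congr
  have hd : ∀ C : ConjClasses G, (∃ g : G, ConjClasses.mk g = C ∧ P₁ g) →
      ¬ (∃ g : G, ConjClasses.mk g = C ∧ P₂ g) := by
    rintro C ⟨g, hg, h1⟩ ⟨g', hg', h2⟩
    have hc : IsConj g g' := ConjClasses.mk_eq_mk_iff_isConj.mp (hg.trans hg'.symm)
    rw [isConj_iff] at hc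
    obtain ⟨x, hx⟩ := hc
    have := hinv g x h1
    rw [hx] at this
    exact hdisj g' this h2
  refine (Equiv.ofBijective (fun s : {C : ConjClasses G // ∃ g : G, ConjClasses.mk g = C ∧ P₁ g} ⊕
      {C : ConjClasses G // ∃ g : G, ConjClasses.mk g = C ∧ P₂ g} =>
      (Sum.elim
        (fun C => (⟨C.1, by obtain ⟨g, hg, h1⟩ := C.2; exact ⟨g, hg, Or.inl h1⟩⟩ :
          {C : ConjClasses G // ∃ g : G, ConjClasses.mk g = C ∧ (P₁ g ∨ P₂ g)}))
        (fun C => ⟨C.1, by obtain ⟨g, hg, h2⟩ := C.2; exact ⟨g, hg, Or.inr h2⟩⟩) s)) ⟨?_, ?_⟩).symm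
  · intro s s' h
    rcases s with C | C <;> rcases s' with C' | C'
    · simp only [Sum.elim_inl] at h
      have h0 : C.1 = C'.1 := Subtype.mk.inj h
      exact congrArg Sum.inl (Subtype.ext h0)
    · simp only [Sum.elim_inl, Sum.elim_inr] at h
      have h0 : C.1 = C'.1 := Subtype.mk.inj h
      exact absurd C'.2 (h0 ▸ hd C.1 C.2)
    · simp only [Sum.elim_inl, Sum.elim_inr] at h
      have h0 : C.1 = C'.1 := Subtype.mk.inj h
      exact absurd C.2 (h0 ▸ hd C'.1 C'.2)
    · simp only [Sum.elim_inr] at h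
      have h0 : C.1 = C'.1 := Subtype.mk.inj h
      exact congrArg Sum.inr (Subtype.ext h0)
  · rintro ⟨C, g, hg, h12⟩
    rcases h12 with h1 | h2
    · exact ⟨Sum.inl ⟨C, g, hg, h1⟩, rfl⟩
    · exact ⟨Sum.inr ⟨C, g, hg, h2⟩, rfl⟩

variable {F : Type*} [Field F] [Fintype F]

theorem card_pgl_order_r {q : ℕ} (hF : Fintype.card F = q) {n r : ℕ} (hn : 2 ≤ n)
    (hr : r.Prime) (hrq : r ∣ q - 1) :
    Nat.card {C : ConjClasses (GL (Fin n) F ⧸ Subgroup.center (GL (Fin n) F)) //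
      ∃ g : GL (Fin n) F ⧸ Subgroup.center (GL (Fin n) F), ConjClasses.mk g = C ∧ orderOf g = r} =
      (Nat.choose (n + r - 1) (r - 1) - r - (if r ∣ n then 1 else 0)) / r +
        r * (if r ∣ n then 1 else 0) := by
  classical
  subst hF
  haveI : NeZero r := ⟨hr.ne_zero⟩
  haveI : Fintype (rootsOfUnity r F) := Fintype.ofFinite _
  have hn1 : 1 ≤ n := by omega
  obtain ⟨ζ, hζ⟩ := exists_primitiveRoot (F := F) r hrq
  have hW : Fintype.card (rootsOfUnity r F) = r := by
    rw [← Nat.card_eq_fintype_card]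
    exact hζ.card_rootsOfUnity
  have hiff : ∀ x : GL (Fin n) F ⧸ Subgroup.center (GL (Fin n) F),
      orderOf x = r ↔ (IsSplit r x ∨ IsNonsplit r x) := by
    intro x
    unfold IsSplit IsNonsplit
    constructor
    · intro h
      by_cases hs : ∃ g : GL (Fin n) F,
          (QuotientGroup.mk g : GL (Fin n) F ⧸ Subgroup.center (GL (Fin n) F)) = x ∧
          (g : Matrix (Fin n) (Fin n) F) ^ r = 1
      · exact Or.inl ⟨h, hs⟩
      · exact Or.inr ⟨h, hs⟩
    · rintro (h | h)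
      · exact h.1
      · exact h.1
  have e : {C : ConjClasses (GL (Fin n) F ⧸ Subgroup.center (GL (Fin n) F)) //
      ∃ g : GL (Fin n) F ⧸ Subgroup.center (GL (Fin n) F), ConjClasses.mk g = C ∧ orderOf g = r} ≃
      {C : ConjClasses (GL (Fin n) F ⧸ Subgroup.center (GL (Fin n) F)) //
      ∃ g : GL (Fin n) F ⧸ Subgroup.center (GL (Fin n) F), ConjClasses.mk g = C ∧
        (IsSplit r g ∨ IsNonsplit r g)} := by
    apply Equiv.subtypeEquivRight
    intro C
    constructor
    · rintro ⟨g, hg, h⟩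
      exact ⟨g, hg, (hiff g).mp h⟩
    · rintro ⟨g, hg, h⟩
      exact ⟨g, hg, (hiff g).mpr h⟩
  rw [Nat.card_congr e, card_classes_or (IsSplit r) (IsNonsplit r), card_split_classes r hr hrq hn1,
    card_orbits r n hr hW hn1, card_nonsplit_classes r hr hrq hn1 hW]
  · split_ifs with hdvd
    · have := hr.two_le
      rw [mul_one, add_assoc]
      congr 1
      omega
    · rw [mul_zero, add_zero]
  · -- invariance of splitness
    rintro x y ⟨hord, g, hg, hgr⟩
    refine ⟨?_, ?_⟩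
    · rw [← hord]
      have : SemiconjBy y x (y * x * y⁻¹) := by
        unfold SemiconjBy
        rw [inv_mul_cancel_right]
      exact (this.orderOf_eq y).symm
    · obtain ⟨y', rfl⟩ := QuotientGroup.mk_surjective y
      refine ⟨y' * g * y'⁻¹, ?_, ?_⟩
      · rw [QuotientGroup.mk_mul, QuotientGroup.mk_mul, QuotientGroup.mk_inv, hg]
      · have h1 : g ^ r = 1 := Units.ext (by rw [Units.val_pow_eq_pow_val, hgr]; rfl)
        have h2 : (y' * g * y'⁻¹) ^ r = 1 := by rw [conj_pow, h1, mul_one, mul_inv_cancel]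
        rw [← Units.val_pow_eq_pow_val, h2]
        rfl
  · rintro x ⟨_, h1⟩ ⟨_, h2⟩
    exact h2 h1

end Cfsg.Agent.Helper8.PGLr
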