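import Cfsg.Agent.Helper8.PGLrSplitCount
set_option autoImplicit false

namespace Cfsg.Agent.Helper8.PGLr

open Polynomial Matrix
open Cfsg.Agent.Helper8.SemiS

variable {F : Type*} [Field F] {n : ℕ}

theorem scalar_injective (hn : 1 ≤ n) :
    Function.Injective (GeneralLinearGroup.scalar (Fin n) : Fˣ → GL (Fin n) F) := by
  intro z z' h
  have h1 := congrArg (fun g : GL (Fin n) F => (g : Matrix (Fin n) (Fin n) F) ⟨0, hn⟩ ⟨0, hn⟩) h
  simp only [coe_scalar_eq, Matrix.smul_apply, Matrix.one_apply_eq, smul_eq_mul, mul_one] at h1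
  exact Units.ext h1

theorem pow_eq_scalar_iff (g : GL (Fin n) F) (r : ℕ) (l : Fˣ) :
    g ^ r = GeneralLinearGroup.scalar (Fin n) l ↔
      (g : Matrix (Fin n) (Fin n) F) ^ r = (l : F) • (1 : Matrix (Fin n) (Fin n) F) := by
  rw [← coe_scalar_eq, ← Units.val_pow_eq_pow_val]
  exact Units.ext_iff

theorem mul_scalar_pow (g : GL (Fin n) F) (z : Fˣ) (r : ℕ) :
    (g * GeneralLinearGroup.scalar (Fin n) z) ^ r =
      g ^ r * GeneralLinearGroup.scalar (Fin n) (z ^ r) := by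
  have hc : Commute g (GeneralLinearGroup.scalar (Fin n) z) :=
    (GeneralLinearGroup.scalar_commute z g).symm
  rw [hc.mul_pow, map_pow]

/-- a lift with `r`-th power `1` exists iff the scalar `g ^ r` is an `r`-th power -/
theorem exists_split_lift_iff (r : ℕ) (hn : 1 ≤ n) (g : GL (Fin n) F) (l : Fˣ)
    (hg : g ^ r = GeneralLinearGroup.scalar (Fin n) l) :
    (∃ g' : GL (Fin n) F,
      (QuotientGroup.mk g' : GL (Fin n) F ⧸ Subgroup.center (GL (Fin n) F)) = QuotientGroup.mk g ∧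
        (g' : Matrix (Fin n) (Fin n) F) ^ r = 1) ↔ ∃ μ : Fˣ, μ ^ r = l := by
  constructor
  · rintro ⟨g', h1, h2⟩
    obtain ⟨z, hz⟩ := (proj_eq_iff g g').mp h1.symm
    have h3 : g' ^ r = 1 := Units.ext (by rw [Units.val_pow_eq_pow_val, h2]; rfl)
    rw [hz, mul_scalar_pow, hg, ← map_mul] at h3
    have h4 : l * z ^ r = 1 := scalar_injective hn (h3.trans (map_one _).symm)
    refine ⟨z⁻¹, ?_⟩
    rw [inv_pow, inv_eq_iff_eq_inv]
    exact (eq_inv_of_mul_eq_one_right h4)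
  · rintro ⟨μ, hμ⟩
    refine ⟨g * GeneralLinearGroup.scalar (Fin n) μ⁻¹, ?_, ?_⟩
    · exact ((proj_eq_iff g _).mpr ⟨μ⁻¹, rfl⟩).symm
    · have : (g * GeneralLinearGroup.scalar (Fin n) μ⁻¹) ^ r = 1 := by
        rw [mul_scalar_pow, hg, ← map_mul, inv_pow, hμ, mul_inv_cancel, map_one]
      rw [← Units.val_pow_eq_pow_val, this]
      rfl

/-- the characteristic polynomial of a nonsplit element -/
theorem charpoly_nonsplit (r : ℕ) (hr : r.Prime) (hr0 : ((r : ℕ) : F) ≠ 0) (g : GL (Fin n) F)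
    (l : Fˣ) (hg : g ^ r = GeneralLinearGroup.scalar (Fin n) l) (hl : ¬ ∃ μ : Fˣ, μ ^ r = l) :
    r ∣ n ∧ (g : Matrix (Fin n) (Fin n) F).charpoly = (X ^ r - C (l : F)) ^ (n / r) := by
  have hirr : Irreducible (X ^ r - C (l : F) : F[X]) := by
    apply X_pow_sub_C_irreducible_of_prime hr
    intro b hb
    have hb0 : b ≠ 0 := by
      rintro rfl
      rw [zero_pow hr.ne_zero] at hb
      exact l.ne_zero hb.symm
    exact hl ⟨Units.mk0 b hb0, Units.ext hb⟩
  have hmon : (X ^ r - C (l : F) : F[X]).Monic := monic_X_pow_sub_C _ hr.ne_zero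
  have hsq := squarefree_X_pow_sub_C r hr0 (l : F) l.ne_zero
  have hk : aeval (g : Matrix (Fin n) (Fin n) F) (X ^ r - C (l : F) : F[X]) = 0 := by
    rw [aeval_X_pow_sub_C, (pow_eq_scalar_iff g r l).mp hg, sub_self]
  obtain ⟨a, ha1, ha2⟩ := expo_of_killed (fun _ : Unit => (X ^ r - C (l : F) : F[X]))
    (X ^ r - C (l : F)) hsq
    (fun P hP hPirr hdvd => ⟨(), Polynomial.eq_of_monic_of_associated hP hmon
      (hPirr.associated_of_dvd hirr hdvd)⟩) (fun _ => hmon) _ hk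
  simp only [Finset.univ_unique, Finset.prod_singleton, Finset.sum_singleton] at ha1 ha2
  rw [natDegree_X_pow_sub_C] at ha2
  have hdvd : r ∣ n := ⟨a default, by rw [← ha2, mul_comm]⟩
  refine ⟨hdvd, ?_⟩
  rw [ha1]
  congr 1
  rw [← ha2, Nat.mul_div_cancel _ hr.pos]

end Cfsg.Agent.Helper8.PGLr
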