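import Cfsg.Agent.Helper8.PGLrNonsplit
set_option autoImplicit false

namespace Cfsg.Agent.Helper8.PGLr

open Polynomial Matrix
open Cfsg.Agent.Helper8.SemiS

variable {F : Type*} [Field F] [Fintype F] {n : ℕ}

theorem units_pow_card_sub_one (z : Fˣ) : z ^ (Fintype.card F - 1) = 1 := by
  apply Units.ext
  rw [Units.val_pow_eq_pow_val, Units.val_one]
  exact FiniteField.pow_card_sub_one_eq_one _ z.ne_zero

/-- conjugacy in `PGL` of two nonsplit elements -/
theorem nonsplit_isConj_iff (r m : ℕ) (hr : r.Prime) (hm : m * r = Fintype.card F - 1)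
    (hn : 1 ≤ n) (g g' : GL (Fin n) F) (l l' : Fˣ)
    (hg : g ^ r = GeneralLinearGroup.scalar (Fin n) l)
    (hg' : g' ^ r = GeneralLinearGroup.scalar (Fin n) l')
    (hl' : ¬ ∃ μ : Fˣ, μ ^ r = l') :
    IsConj (QuotientGroup.mk g : GL (Fin n) F ⧸ Subgroup.center (GL (Fin n) F))
      (QuotientGroup.mk g') ↔ l ^ m = l' ^ m := by
  have hrq : r ∣ Fintype.card F - 1 := ⟨m, by rw [← hm, mul_comm]⟩
  have hr0 := natCast_ne_zero_of_dvd (F := F) r hr hrq
  rw [proj_isConj_iff]
  constructor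
  · rintro ⟨x, z, hz⟩
    have h1 : g' ^ r = GeneralLinearGroup.scalar (Fin n) (l * z ^ r) := by
      have hconj : x * GeneralLinearGroup.scalar (Fin n) l * x⁻¹ =
          GeneralLinearGroup.scalar (Fin n) l := by
        rw [← GeneralLinearGroup.scalar_commute l x, mul_inv_cancel_right]
      rw [hz, mul_scalar_pow, conj_pow, hg, map_mul, hconj]
    have h2 : l' = l * z ^ r := scalar_injective hn (hg'.symm.trans h1)
    rw [h2, mul_pow, ← pow_mul, mul_comm r m, hm, units_pow_card_sub_one, mul_one]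
  · intro h
    have h1 : (l' * l⁻¹) ^ m = 1 := by
      rw [mul_pow, inv_pow, h, mul_inv_cancel]
    obtain ⟨z, hz⟩ := exists_pow_eq_of_pow_eq_one m r hm (l' * l⁻¹) h1
    -- the scaled element
    have h2 : (g * GeneralLinearGroup.scalar (Fin n) z) ^ r =
        GeneralLinearGroup.scalar (Fin n) l' := by
      rw [mul_scalar_pow, hg, ← map_mul, hz, mul_comm l' l⁻¹, mul_inv_cancel_left]
    obtain ⟨_, hc1⟩ := charpoly_nonsplit r hr hr0 _ l' h2 hl'
    obtain ⟨_, hc2⟩ := charpoly_nonsplit r hr hr0 _ l' hg' hl'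
    have hsq := squarefree_X_pow_sub_C r hr0 (l' : F) l'.ne_zero
    have hk : aeval ((g * GeneralLinearGroup.scalar (Fin n) z : GL (Fin n) F) :
        Matrix (Fin n) (Fin n) F) (X ^ r - C (l' : F) : F[X]) = 0 := by
      rw [aeval_X_pow_sub_C, (pow_eq_scalar_iff _ r l').mp h2, sub_self]
    have hk' : aeval (g' : Matrix (Fin n) (Fin n) F) (X ^ r - C (l' : F) : F[X]) = 0 := by
      rw [aeval_X_pow_sub_C, (pow_eq_scalar_iff _ r l').mp hg', sub_self]
    obtain ⟨x, hx⟩ := gl_conj_of_charpoly_eq _ _ _ hsq hk hk' (hc1.trans hc2.symm)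
    refine ⟨x, z, ?_⟩
    rw [hx, mul_assoc x, mul_assoc x, mul_assoc x, mul_assoc g, mul_assoc g,
      GeneralLinearGroup.scalar_commute]

end Cfsg.Agent.Helper8.PGLr

namespace Cfsg.Agent.Helper8.PGLr

open Polynomial Matrix
open Cfsg.Agent.Helper8.SemiS

variable {F : Type*} [Field F] [Fintype F] {n : ℕ}

/-- nonsplit elements of order `r` of `PGL` -/
def IsNonsplit (r : ℕ) (x : GL (Fin n) F ⧸ Subgroup.center (GL (Fin n) F)) : Prop :=
  orderOf x = r ∧ ¬ ∃ g : GL (Fin n) F,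
    (QuotientGroup.mk g : GL (Fin n) F ⧸ Subgroup.center (GL (Fin n) F)) = x ∧
      (g : Matrix (Fin n) (Fin n) F) ^ r = 1

omit [Fintype F] in
theorem exists_nonsplit_data (r : ℕ) (hr : r.Prime) (hn : 1 ≤ n)
    (x : GL (Fin n) F ⧸ Subgroup.center (GL (Fin n) F)) (hx : IsNonsplit r x) :
    ∃ (g : GL (Fin n) F) (l : Fˣ),
      (QuotientGroup.mk g : GL (Fin n) F ⧸ Subgroup.center (GL (Fin n) F)) = x ∧
      g ^ r = GeneralLinearGroup.scalar (Fin n) l ∧ ¬ ∃ μ : Fˣ, μ ^ r = l := by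
  obtain ⟨g, rfl⟩ := QuotientGroup.mk_surjective x
  obtain ⟨hord, hns⟩ := hx
  obtain ⟨_, hc⟩ := (orderOf_proj_eq_prime_iff r hr g).mp hord
  obtain ⟨l, hl⟩ := (mem_center_iff _).mp hc
  refine ⟨g, l, rfl, hl, ?_⟩
  intro hμ
  exact hns ((exists_split_lift_iff r hn g l hl).mpr hμ)

theorem card_nonsplit_classes (r : ℕ) (hr : r.Prime) (hrq : r ∣ Fintype.card F - 1) (hn : 1 ≤ n)
    [Fintype (rootsOfUnity r F)] [DecidableEq (rootsOfUnity r F)]
    (hW : Fintype.card (rootsOfUnity r F) = r) :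
    Nat.card {C : ConjClasses (GL (Fin n) F ⧸ Subgroup.center (GL (Fin n) F)) //
      ∃ x, ConjClasses.mk x = C ∧ IsNonsplit r x} = if r ∣ n then r - 1 else 0 := by
  classical
  have hr0 := natCast_ne_zero_of_dvd (F := F) r hr hrq
  obtain ⟨m, hm'⟩ := hrq
  have hm : m * r = Fintype.card F - 1 := by rw [hm', mul_comm]
  have hrm : r * m = Fintype.card F - 1 := hm'.symm
  have key : ∀ xp : {x : GL (Fin n) F ⧸ Subgroup.center (GL (Fin n) F) // IsNonsplit r x},
      ∃ (g : GL (Fin n) F) (l : Fˣ),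
      (QuotientGroup.mk g : GL (Fin n) F ⧸ Subgroup.center (GL (Fin n) F)) = xp.1 ∧
      g ^ r = GeneralLinearGroup.scalar (Fin n) l ∧ ¬ ∃ μ : Fˣ, μ ^ r = l :=
    fun xp => exists_nonsplit_data r hr hn xp.1 xp.2
  choose gf lf h1 h2 h3 using key
  split_ifs with hdvd
  · -- r ∣ n
    have hT : Nat.card {w : rootsOfUnity r F // w ≠ 1} = r - 1 := by
      rw [Nat.card_eq_fintype_card, Fintype.card_subtype_compl, Fintype.card_subtype_eq, hW]
    rw [← hT]
    have hmem : ∀ l : Fˣ, l ^ m ∈ rootsOfUnity r F := by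
      intro l
      rw [mem_rootsOfUnity, ← pow_mul, hm, units_pow_card_sub_one]
    have hne : ∀ l : Fˣ, (¬ ∃ μ : Fˣ, μ ^ r = l) →
        (⟨l ^ m, hmem l⟩ : rootsOfUnity r F) ≠ 1 := by
      intro l hl h
      apply hl
      have : l ^ m = 1 := congrArg Subtype.val h
      exact exists_pow_eq_of_pow_eq_one m r hm l this
    apply card_classes_of_invariant' (IsNonsplit r)
      (fun xp => (⟨⟨lf xp ^ m, hmem _⟩, hne _ (h3 xp)⟩ : {w : rootsOfUnity r F // w ≠ 1}))
    · intro xp xp'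
      rw [← h1 xp, ← h1 xp', nonsplit_isConj_iff r m hr hm hn (gf xp) (gf xp') (lf xp) (lf xp')
        (h2 xp) (h2 xp') (h3 xp')]
      constructor
      · intro h
        apply Subtype.ext
        apply Subtype.ext
        exact h
      · intro h
        exact congrArg (fun w : {w : rootsOfUnity r F // w ≠ 1} => ((w.1 : rootsOfUnity r F) : Fˣ)) h
    · rintro ⟨w, hw⟩
      have hw' : (w : Fˣ) ^ r = 1 := w.2
      obtain ⟨l, hl⟩ := exists_pow_eq_of_pow_eq_one r m hrm (w : Fˣ) hw'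
      have hlns : ¬ ∃ μ : Fˣ, μ ^ r = l := by
        rintro ⟨μ, hμ⟩
        apply hw
        apply Subtype.ext
        rw [← hl, ← hμ, ← pow_mul, hrm, units_pow_card_sub_one]
        rfl
      -- realize
      have hmon : (X ^ r - C (l : F) : F[X]).Monic := monic_X_pow_sub_C _ hr.ne_zero
      obtain ⟨A, hA1, hA2⟩ := matrix_of_expo (fun _ : Unit => (X ^ r - C (l : F) : F[X]))
        (X ^ r - C (l : F)) (fun _ => hmon) (fun _ => n / r) (fun _ _ => dvd_rfl)
        (by
          simp only [Finset.univ_unique, Finset.sum_singleton]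
          rw [natDegree_X_pow_sub_C, Nat.div_mul_cancel hdvd])
      rw [aeval_X_pow_sub_C, sub_eq_zero] at hA2
      have hr0' : r ≠ 0 := hr.ne_zero
      have hl0 : (l : F) ≠ 0 := l.ne_zero
      let g : GL (Fin n) F := ⟨A, (l : F)⁻¹ • A ^ (r - 1), by
        rw [Matrix.mul_smul, mul_pow_sub_one hr0', hA2, smul_smul, inv_mul_cancel₀ hl0, one_smul],
        by rw [Matrix.smul_mul, pow_sub_one_mul hr0', hA2, smul_smul, inv_mul_cancel₀ hl0,
          one_smul]⟩
      have hg : g ^ r = GeneralLinearGroup.scalar (Fin n) l := (pow_eq_scalar_iff g r l).mpr hA2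
      have hnotc : g ∉ Subgroup.center (GL (Fin n) F) := by
        intro hc
        obtain ⟨c, hc⟩ := (mem_center_iff g).mp hc
        rw [hc, ← map_pow] at hg
        exact hlns ⟨c, scalar_injective hn hg⟩
      have hord : orderOf (QuotientGroup.mk g : GL (Fin n) F ⧸ Subgroup.center (GL (Fin n) F)) = r := by
        rw [orderOf_proj_eq_prime_iff r hr]
        refine ⟨hnotc, ?_⟩
        rw [hg, mem_center_iff]
        exact ⟨l, rfl⟩
      have hns : ¬ ∃ g' : GL (Fin n) F,
          (QuotientGroup.mk g' : GL (Fin n) F ⧸ Subgroup.center (GL (Fin n) F)) = QuotientGroup.mk g ∧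
          (g' : Matrix (Fin n) (Fin n) F) ^ r = 1 := by
        intro h
        exact hlns ((exists_split_lift_iff r hn g l hg).mp h)
      let xp : {x : GL (Fin n) F ⧸ Subgroup.center (GL (Fin n) F) // IsNonsplit r x} :=
        ⟨QuotientGroup.mk g, hord, hns⟩
      refine ⟨xp, ?_⟩
      apply Subtype.ext
      apply Subtype.ext
      change lf xp ^ m = (w : Fˣ)
      rw [← hl]
      have hconj : IsConj (QuotientGroup.mk (gf xp) : GL (Fin n) F ⧸ Subgroup.center (GL (Fin n) F))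
          (QuotientGroup.mk g) := by
        rw [h1 xp]
      exact (nonsplit_isConj_iff r m hr hm hn (gf xp) g (lf xp) l (h2 xp) hg hlns).mp hconj
  · -- r ∤ n : no nonsplit elements
    rw [Nat.card_eq_zero]
    left
    refine ⟨?_⟩
    rintro ⟨C, x, _, hx⟩
    obtain ⟨g, l, _, hg, hl⟩ := exists_nonsplit_data r hr hn x hx
    exact hdvd (charpoly_nonsplit r hr hr0 g l hg hl).1

end Cfsg.Agent.Helper8.PGLr
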