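import Cfsg.Agent.Helper8.PGLrBasic
set_option autoImplicit false

namespace Cfsg.Agent.Helper8.PGLr

open Polynomial Matrix

variable {F : Type*} [Field F]

/-- the linear factor attached to a root of unity -/
noncomputable def Qw (r : ℕ) (w : rootsOfUnity r F) : F[X] := X - C ((w : Fˣ) : F)

theorem Qw_monic (r : ℕ) (w : rootsOfUnity r F) : (Qw r w).Monic := monic_X_sub_C _

theorem Qw_irreducible (r : ℕ) (w : rootsOfUnity r F) : Irreducible (Qw r w) :=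
  irreducible_X_sub_C _

theorem Qw_natDegree (r : ℕ) (w : rootsOfUnity r F) : (Qw r w).natDegree = 1 :=
  natDegree_X_sub_C _

theorem Qw_injective (r : ℕ) : Function.Injective (Qw (F := F) r) := by
  intro w w' h
  unfold Qw at h
  have h1 : C ((w : Fˣ) : F) = C ((w' : Fˣ) : F) := sub_right_injective h
  exact Subtype.ext (Units.ext (C_injective h1))

theorem Qw_dvd (r : ℕ) (w : rootsOfUnity r F) : Qw r w ∣ X ^ r - 1 := by
  unfold Qw
  rw [dvd_iff_isRoot]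
  have := (mem_rootsOfUnity' r (w : Fˣ)).mp w.2
  simp [this]

theorem exists_Qw_of_dvd (r : ℕ) (hr : 0 < r) (ζ : F) (hζ : IsPrimitiveRoot ζ r) (P : F[X])
    (hP : P.Monic) (hirr : Irreducible P) (hdvd : P ∣ X ^ r - 1) : ∃ w, P = Qw r w := by
  classical
  rw [X_pow_sub_one_eq_prod hr hζ] at hdvd
  obtain ⟨μ, hμ, hPμ⟩ := (Prime.dvd_finsetProd_iff hirr.prime _).mp hdvd
  rw [mem_nthRootsFinset hr] at hμ
  have hμ0 : μ ≠ 0 := by
    rintro rfl
    rw [zero_pow hr.ne'] at hμ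
    exact zero_ne_one hμ
  let u : Fˣ := Units.mk0 μ hμ0
  have hu : u ∈ rootsOfUnity r F := by
    rw [mem_rootsOfUnity']
    exact hμ
  refine ⟨⟨u, hu⟩, ?_⟩
  exact Polynomial.eq_of_monic_of_associated hP (monic_X_sub_C μ)
    (hirr.associated_of_dvd (irreducible_X_sub_C μ) hPμ)

/-- rotation of exponent vectors -/
def rot (r : ℕ) (w₀ : rootsOfUnity r F) (a : rootsOfUnity r F → ℕ) : rootsOfUnity r F → ℕ :=
  fun v => a (w₀⁻¹ * v)

theorem Qw_comp (r : ℕ) (w₀ w : rootsOfUnity r F) :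
    (Qw r w).comp (C (((w₀ : Fˣ) : F))⁻¹ * X) = C (((w₀ : Fˣ) : F))⁻¹ * Qw r (w₀ * w) := by
  unfold Qw
  rw [sub_comp, X_comp, C_comp, mul_sub, ← C_mul]
  congr 2
  have h0 : ((w₀ : Fˣ) : F) ≠ 0 := Units.ne_zero _
  change _ = (((w₀ : Fˣ) : F))⁻¹ * ((((w₀ : Fˣ) * (w : Fˣ) : Fˣ)) : F)
  rw [Units.val_mul, ← mul_assoc, inv_mul_cancel₀ h0, one_mul]

theorem charpoly_smul_expo {n : ℕ} (r : ℕ) [Fintype (rootsOfUnity r F)] (w₀ : rootsOfUnity r F)
    (a : rootsOfUnity r F → ℕ) (hsum : ∑ w, a w = n)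
    (A : Matrix (Fin n) (Fin n) F) (hA : A.charpoly = ∏ w, Qw r w ^ a w) :
    ((((w₀ : Fˣ) : F)) • A).charpoly = ∏ w, Qw r w ^ rot r w₀ a w := by
  have h0 : ((w₀ : Fˣ) : F) ≠ 0 := Units.ne_zero _
  rw [charpoly_smul _ h0, hA, Polynomial.prod_comp]
  have h1 : ∀ w ∈ Finset.univ, (Qw r w ^ a w).comp (C (((w₀ : Fˣ) : F))⁻¹ * X) =
      C (((w₀ : Fˣ) : F))⁻¹ ^ a w * Qw r (w₀ * w) ^ a w := by
    intro w _
    rw [pow_comp, Qw_comp, mul_pow]
  rw [Finset.prod_congr rfl h1, Finset.prod_mul_distrib, Finset.prod_pow_eq_pow_sum, hsum,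
    ← mul_assoc, ← C_pow, ← C_mul, ← mul_pow, mul_inv_cancel₀ h0, one_pow, C_1, one_mul]
  rw [← Equiv.prod_comp (Equiv.mulLeft w₀) (fun v => Qw r v ^ rot r w₀ a v)]
  apply Finset.prod_congr rfl
  intro w _
  unfold rot
  rw [Equiv.coe_mulLeft, inv_mul_cancel_left]

end Cfsg.Agent.Helper8.PGLr
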