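import Cfsg.Agent.Helper8.PGLrRoots
import Cfsg.Agent.Helper8.PGLrBurnside
set_option autoImplicit false

namespace Cfsg.Agent.Helper8.PGLr

open Polynomial Matrix
open Cfsg.Agent.Helper8.SemiS

variable {F : Type*} [Field F] {n : ℕ}

theorem coe_scalar_eq (z : Fˣ) :
    ((GeneralLinearGroup.scalar (Fin n) z : GL (Fin n) F) : Matrix (Fin n) (Fin n) F) =
      (z : F) • (1 : Matrix (Fin n) (Fin n) F) := by
  rw [GeneralLinearGroup.coe_scalar, Matrix.scalar_apply, ← Matrix.smul_one_eq_diagonal]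

theorem coe_mul_scalar (g : GL (Fin n) F) (z : Fˣ) :
    ((g * GeneralLinearGroup.scalar (Fin n) z : GL (Fin n) F) : Matrix (Fin n) (Fin n) F) =
      (z : F) • (g : Matrix (Fin n) (Fin n) F) := by
  rw [Units.val_mul, coe_scalar_eq, Matrix.mul_smul, Matrix.mul_one]

theorem aeval_X_pow_sub_C (A : Matrix (Fin n) (Fin n) F) (r : ℕ) (l : F) :
    aeval A (X ^ r - C l : F[X]) = A ^ r - l • (1 : Matrix (Fin n) (Fin n) F) := by
  rw [map_sub, map_pow, aeval_X, aeval_C, Algebra.algebraMap_eq_smul_one]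

theorem squarefree_X_pow_sub_C (r : ℕ) (hr0 : ((r : ℕ) : F) ≠ 0) (l : F) (hl : l ≠ 0) :
    Squarefree (X ^ r - C l : F[X]) :=
  (Polynomial.separable_X_pow_sub_C l hr0 hl).squarefree

/-- `GL` form of semisimple conjugacy -/
theorem gl_conj_of_charpoly_eq (g g' : GL (Fin n) F) (h : F[X]) (hsq : Squarefree h)
    (hg : aeval (g : Matrix (Fin n) (Fin n) F) h = 0)
    (hg' : aeval (g' : Matrix (Fin n) (Fin n) F) h = 0)
    (hc : (g : Matrix (Fin n) (Fin n) F).charpoly = (g' : Matrix (Fin n) (Fin n) F).charpoly) :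
    ∃ x : GL (Fin n) F, g' = x * g * x⁻¹ := by
  obtain ⟨x, hx⟩ := exists_conj_of_charpoly_eq _ _ h h hsq hsq hg hg' hc
  refine ⟨x, ?_⟩
  apply Units.ext
  simp only [Units.val_mul]
  exact hx.symm

theorem charpoly_conj (x g : GL (Fin n) F) :
    ((x * g * x⁻¹ : GL (Fin n) F) : Matrix (Fin n) (Fin n) F).charpoly =
      (g : Matrix (Fin n) (Fin n) F).charpoly := by
  simp only [Units.val_mul]
  rw [Matrix.coe_units_inv, Matrix.charpoly_units_conj]

theorem sum_expo_eq (r : ℕ) [Fintype (rootsOfUnity r F)] (A : Matrix (Fin n) (Fin n) F)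
    (a : rootsOfUnity r F → ℕ) (ha : A.charpoly = ∏ w, Qw r w ^ a w) : ∑ w, a w = n := by
  classical
  have h1 := natDegree_prod_pow (Qw (F := F) r) (Qw_monic r) a
  rw [← ha, Matrix.charpoly_natDegree_eq_dim, Fintype.card_fin] at h1
  rw [h1]
  apply Finset.sum_congr rfl
  intro w _
  rw [Qw_natDegree, mul_one]

/-- conjugacy in `PGL` of two split elements in terms of the exponent vectors -/
theorem split_isConj_iff (r : ℕ) (hr0 : ((r : ℕ) : F) ≠ 0) (hn : 1 ≤ n)
    [Fintype (rootsOfUnity r F)] [DecidableEq (rootsOfUnity r F)]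
    (g g' : GL (Fin n) F) (hg : (g : Matrix (Fin n) (Fin n) F) ^ r = 1)
    (hg' : (g' : Matrix (Fin n) (Fin n) F) ^ r = 1) (a a' : rootsOfUnity r F → ℕ)
    (ha : (g : Matrix (Fin n) (Fin n) F).charpoly = ∏ w, Qw r w ^ a w)
    (ha' : (g' : Matrix (Fin n) (Fin n) F).charpoly = ∏ w, Qw r w ^ a' w) :
    IsConj (QuotientGroup.mk g : GL (Fin n) F ⧸ Subgroup.center (GL (Fin n) F))
      (QuotientGroup.mk g') ↔ ∃ w₀ : rootsOfUnity r F, a' = rot r w₀ a := by
  have hsq : Squarefree (X ^ r - 1 : F[X]) := by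
    have := squarefree_X_pow_sub_C r hr0 (1 : F) one_ne_zero
    rwa [map_one] at this
  have hQ : ∀ w : rootsOfUnity r F, (Qw r w).Monic ∧ Irreducible (Qw r w) :=
    fun w => ⟨Qw_monic r w, Qw_irreducible r w⟩
  have hsum := sum_expo_eq r _ a ha
  rw [proj_isConj_iff]
  constructor
  · rintro ⟨x, z, hz⟩
    have h1 : (g' : Matrix (Fin n) (Fin n) F) =
        (z : F) • ((x * g * x⁻¹ : GL (Fin n) F) : Matrix (Fin n) (Fin n) F) := by
      rw [hz, coe_mul_scalar]
    have h2 : ((x * g * x⁻¹ : GL (Fin n) F) : Matrix (Fin n) (Fin n) F) ^ r = 1 := by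
      rw [← Units.val_pow_eq_pow_val, conj_pow, Units.val_mul, Units.val_mul,
        Units.val_pow_eq_pow_val, hg, Matrix.mul_one, ← Units.val_mul, mul_inv_cancel,
        Units.val_one]
    have h3 : ((z : F) ^ r) • (1 : Matrix (Fin n) (Fin n) F) = 1 := by
      calc ((z : F) ^ r) • (1 : Matrix (Fin n) (Fin n) F)
          = ((z : F) ^ r) • ((x * g * x⁻¹ : GL (Fin n) F) : Matrix (Fin n) (Fin n) F) ^ r := by
            rw [h2]
        _ = ((z : F) • ((x * g * x⁻¹ : GL (Fin n) F) : Matrix (Fin n) (Fin n) F)) ^ r :=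
            (_root_.smul_pow _ _ _).symm
        _ = 1 := by rw [← h1, hg']
    have h4 : (z : F) ^ r = 1 := by
      have := congrFun (congrFun h3 ⟨0, hn⟩) ⟨0, hn⟩
      simpa using this
    have hzW : z ∈ rootsOfUnity r F := by
      rw [mem_rootsOfUnity']
      exact h4
    refine ⟨⟨z, hzW⟩, ?_⟩
    have h5 := charpoly_smul_expo r ⟨z, hzW⟩ a hsum _ ((charpoly_conj x g).trans ha)
    change ((z : F) • ((x * g * x⁻¹ : GL (Fin n) F) : Matrix (Fin n) (Fin n) F)).charpoly = _ at h5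
    rw [← h1, ha'] at h5
    exact prod_pow_injective (Qw r) hQ (Qw_injective r) h5
  · rintro ⟨w₀, hw₀⟩
    -- the scaled element
    have h5 := charpoly_smul_expo r w₀ a hsum _ ha
    rw [← hw₀, ← ha', ← coe_mul_scalar] at h5
    have hk : aeval ((g * GeneralLinearGroup.scalar (Fin n) (w₀ : Fˣ) : GL (Fin n) F) :
        Matrix (Fin n) (Fin n) F) (X ^ r - 1 : F[X]) = 0 := by
      rw [aeval_X_pow_sub_one, coe_mul_scalar, _root_.smul_pow, hg, ← Units.val_pow_eq_pow_val]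
      have : (w₀ : Fˣ) ^ r = 1 := w₀.2
      rw [this, Units.val_one, one_smul, sub_self]
    have hk' : aeval (g' : Matrix (Fin n) (Fin n) F) (X ^ r - 1 : F[X]) = 0 := by
      rw [aeval_X_pow_sub_one, hg', sub_self]
    obtain ⟨x, hx⟩ := gl_conj_of_charpoly_eq _ _ _ hsq hk hk' h5
    refine ⟨x, (w₀ : Fˣ), ?_⟩
    rw [hx, mul_assoc x, mul_assoc x, mul_assoc x, mul_assoc g, mul_assoc g,
      GeneralLinearGroup.scalar_commute]

end Cfsg.Agent.Helper8.PGLr
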