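import Cfsg.Agent.Helper8.PGLrCenter
set_option autoImplicit false

namespace Cfsg.Agent.Helper8.PGLr

open Polynomial Matrix
open Cfsg.Agent.Helper8.SemiS

variable {F : Type*} [Field F] [Fintype F] {n : ℕ}

/-- split elements of order `r` of `PGL` -/
def IsSplit (r : ℕ) (x : GL (Fin n) F ⧸ Subgroup.center (GL (Fin n) F)) : Prop :=
  orderOf x = r ∧ ∃ g : GL (Fin n) F,
    (QuotientGroup.mk g : GL (Fin n) F ⧸ Subgroup.center (GL (Fin n) F)) = x ∧
      (g : Matrix (Fin n) (Fin n) F) ^ r = 1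

theorem natCast_ne_zero_of_dvd (r : ℕ) (hr : r.Prime) (hrq : r ∣ Fintype.card F - 1) :
    ((r : ℕ) : F) ≠ 0 := by
  haveI : NeZero r := ⟨hr.ne_zero⟩
  obtain ⟨ζ, hζ⟩ := exists_primitiveRoot (F := F) r hrq
  exact (hζ.neZero').out

theorem exists_split_data (r : ℕ) (hr : r.Prime) (hrq : r ∣ Fintype.card F - 1) (hn : 1 ≤ n)
    [Fintype (rootsOfUnity r F)] [DecidableEq (rootsOfUnity r F)]
    (x : GL (Fin n) F ⧸ Subgroup.center (GL (Fin n) F)) (hx : IsSplit r x) :
    ∃ (g : GL (Fin n) F) (t : Tup (rootsOfUnity r F) n),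
      (QuotientGroup.mk g : GL (Fin n) F ⧸ Subgroup.center (GL (Fin n) F)) = x ∧
      (g : Matrix (Fin n) (Fin n) F) ^ r = 1 ∧
      (g : Matrix (Fin n) (Fin n) F).charpoly = ∏ w, Qw r w ^ t.1 w := by
  obtain ⟨hord, g, hgx, hg⟩ := hx
  have hr0 := natCast_ne_zero_of_dvd (F := F) r hr hrq
  obtain ⟨ζ, hζ⟩ := exists_primitiveRoot (F := F) r hrq
  have hsq : Squarefree (X ^ r - 1 : F[X]) := by
    have := squarefree_X_pow_sub_C r hr0 (1 : F) one_ne_zero
    rwa [map_one] at this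
  have hk : aeval (g : Matrix (Fin n) (Fin n) F) (X ^ r - 1 : F[X]) = 0 := by
    rw [aeval_X_pow_sub_one, hg, sub_self]
  obtain ⟨a, ha1, _⟩ := expo_of_killed (Qw (F := F) r) (X ^ r - 1) hsq
    (fun P hP hirr hdvd => exists_Qw_of_dvd r hr.pos ζ hζ P hP hirr hdvd) (Qw_monic r) _ hk
  have hsum := sum_expo_eq r _ a ha1
  have hnc : ∀ c, a ≠ Pi.single c n := by
    intro c hc
    have h1 : g ∈ Subgroup.center (GL (Fin n) F) :=
      (mem_center_iff_single r hr0 hn g hg a ha1).mpr ⟨c, hc⟩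
    rw [← hgx] at hord
    exact ((orderOf_proj_eq_prime_iff r hr g).mp hord).1 h1
  exact ⟨g, ⟨a, hsum, hnc⟩, hgx, hg, ha1⟩

theorem card_split_classes (r : ℕ) (hr : r.Prime) (hrq : r ∣ Fintype.card F - 1) (hn : 1 ≤ n)
    [Fintype (rootsOfUnity r F)] [DecidableEq (rootsOfUnity r F)] :
    Nat.card {C : ConjClasses (GL (Fin n) F ⧸ Subgroup.center (GL (Fin n) F)) //
      ∃ x, ConjClasses.mk x = C ∧ IsSplit r x} =
      Nat.card (Quotient (MulAction.orbitRel (rootsOfUnity r F) (Tup (rootsOfUnity r F) n))) := by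
  classical
  have hr0 := natCast_ne_zero_of_dvd (F := F) r hr hrq
  have key : ∀ xp : {x : GL (Fin n) F ⧸ Subgroup.center (GL (Fin n) F) // IsSplit r x},
      ∃ (g : GL (Fin n) F) (t : Tup (rootsOfUnity r F) n),
      (QuotientGroup.mk g : GL (Fin n) F ⧸ Subgroup.center (GL (Fin n) F)) = xp.1 ∧
      (g : Matrix (Fin n) (Fin n) F) ^ r = 1 ∧
      (g : Matrix (Fin n) (Fin n) F).charpoly = ∏ w, Qw r w ^ t.1 w :=
    fun xp => exists_split_data r hr hrq hn xp.1 xp.2
  choose gf tf h1 h2 h3 using key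
  -- orbit relation in terms of rot
  have horb : ∀ t t' : Tup (rootsOfUnity r F) n,
      (Quotient.mk (MulAction.orbitRel (rootsOfUnity r F) (Tup (rootsOfUnity r F) n)) t =
        Quotient.mk _ t') ↔ ∃ w₀ : rootsOfUnity r F, t'.1 = rot r w₀ t.1 := by
    intro t t'
    rw [Quotient.eq]
    change t ∈ MulAction.orbit (rootsOfUnity r F) t' ↔ _
    rw [MulAction.mem_orbit_iff]
    constructor
    · rintro ⟨w, hw⟩
      refine ⟨w⁻¹, ?_⟩
      rw [← hw]
      funext v
      unfold rot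
      rw [smul_tup_apply, inv_inv, inv_mul_cancel_left]
    · rintro ⟨w₀, hw₀⟩
      refine ⟨w₀⁻¹, ?_⟩
      apply Subtype.ext
      funext v
      rw [smul_tup_apply, hw₀]
      unfold rot
      rw [inv_inv, inv_mul_cancel_left]
  apply card_classes_of_invariant' (IsSplit r) (fun xp => Quotient.mk _ (tf xp))
  · intro xp xp'
    rw [horb, ← h1 xp, ← h1 xp']
    exact split_isConj_iff r hr0 hn (gf xp) (gf xp') (h2 xp) (h2 xp') _ _ (h3 xp) (h3 xp')
  · intro q
    obtain ⟨t, rfl⟩ := Quotient.exists_rep q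
    -- realize t
    have hdeg : ∑ w, t.1 w * (Qw (F := F) r w).natDegree = n := by
      have h0 : ∑ w, t.1 w = n := t.2.1
      rw [← Finset.sum_congr rfl (fun w _ => by rw [Qw_natDegree, mul_one] :
        ∀ w ∈ Finset.univ, t.1 w * (Qw (F := F) r w).natDegree = t.1 w)] at h0
      exact h0
    obtain ⟨A, hA1, hA2⟩ := matrix_of_expo (Qw (F := F) r) (X ^ r - 1) (Qw_monic r) t.1
      (fun w _ => Qw_dvd r w) hdeg
    rw [aeval_X_pow_sub_one, sub_eq_zero] at hA2
    have hr0' : r ≠ 0 := hr.ne_zero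
    let g : GL (Fin n) F := ⟨A, A ^ (r - 1), by rw [mul_pow_sub_one hr0', hA2],
      by rw [pow_sub_one_mul hr0', hA2]⟩
    have hgA : (g : Matrix (Fin n) (Fin n) F) = A := rfl
    have hgr : (g : Matrix (Fin n) (Fin n) F) ^ r = 1 := hA2
    have hnotc : g ∉ Subgroup.center (GL (Fin n) F) := by
      intro hc
      obtain ⟨c, hc⟩ := (mem_center_iff_single r hr0 hn g hgr t.1 hA1).mp hc
      exact t.2.2 c hc
    have hord : orderOf (QuotientGroup.mk g : GL (Fin n) F ⧸ Subgroup.center (GL (Fin n) F)) = r := by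
      rw [orderOf_proj_eq_prime_iff r hr]
      refine ⟨hnotc, ?_⟩
      have : g ^ r = 1 := Units.ext (by rw [Units.val_pow_eq_pow_val]; exact hgr)
      rw [this]
      exact Subgroup.one_mem _
    let xp : {x : GL (Fin n) F ⧸ Subgroup.center (GL (Fin n) F) // IsSplit r x} :=
      ⟨QuotientGroup.mk g, hord, g, rfl, hgr⟩
    refine ⟨xp, ?_⟩
    change Quotient.mk _ (tf xp) = Quotient.mk _ t
    rw [horb]
    have hconj : IsConj (QuotientGroup.mk (gf xp) : GL (Fin n) F ⧸ Subgroup.center (GL (Fin n) F))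
        (QuotientGroup.mk g) := by
      rw [h1 xp]
    exact (split_isConj_iff r hr0 hn (gf xp) g (h2 xp) hgr _ _ (h3 xp) hA1).mp hconj

end Cfsg.Agent.Helper8.PGLr
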