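import Mathlib
set_option autoImplicit false

namespace Cfsg.Agent.Helper8.PGLr

variable {W : Type*} [Group W] [Fintype W] [DecidableEq W]

/-- exponent vectors of total `n` that are not concentrated at one point -/
def Tup (W : Type*) [Fintype W] [DecidableEq W] (n : ℕ) : Type _ :=
  {a : W → ℕ // ∑ v, a v = n ∧ ∀ c, a ≠ Pi.single c n}

theorem sum_translate (w : W) (a : W → ℕ) : ∑ v, a (w⁻¹ * v) = ∑ v, a v :=
  Equiv.sum_comp (Equiv.mulLeft w⁻¹) a

theorem translate_single (w : W) (a : W → ℕ) (c : W) (n : ℕ)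
    (h : (fun v => a (w⁻¹ * v)) = Pi.single c n) : a = Pi.single (w⁻¹ * c) n := by
  funext v
  have := congrFun h (w * v)
  simp only [inv_mul_cancel_left] at this
  rw [this]
  by_cases hv : v = w⁻¹ * c
  · subst hv
    simp
  · rw [Pi.single_eq_of_ne hv, Pi.single_eq_of_ne]
    intro h2
    apply hv
    rw [← h2, inv_mul_cancel_left]

instance (n : ℕ) : MulAction W (Tup W n) where
  smul w a := ⟨fun v => a.1 (w⁻¹ * v), by rw [sum_translate]; exact a.2.1,
    fun c h => a.2.2 _ (translate_single w a.1 c n h)⟩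
  one_smul a := by
    apply Subtype.ext
    funext v
    change a.1 ((1 : W)⁻¹ * v) = a.1 v
    rw [inv_one, one_mul]
  mul_smul w w' a := by
    apply Subtype.ext
    funext v
    change a.1 ((w * w')⁻¹ * v) = a.1 (w'⁻¹ * (w⁻¹ * v))
    rw [mul_inv_rev, mul_assoc]

theorem smul_tup_apply (n : ℕ) (w : W) (a : Tup W n) (v : W) : (w • a).1 v = a.1 (w⁻¹ * v) := rfl

/-- all exponent vectors of total `n` -/
theorem card_all (n : ℕ) :
    Nat.card {a : W → ℕ // ∑ v, a v = n} = Nat.choose (Fintype.card W + n - 1) n := by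
  rw [← Nat.card_congr (Sym.equivNatSumOfFintype W n), Nat.card_eq_fintype_card,
    Sym.card_sym_eq_choose]

instance (n : ℕ) : Finite {a : W → ℕ // ∑ v, a v = n} :=
  Finite.of_equiv _ (Sym.equivNatSumOfFintype W n)

instance (n : ℕ) : Finite (Tup W n) :=
  Finite.of_injective (fun a : Tup W n => (⟨a.1, a.2.1⟩ : {a : W → ℕ // ∑ v, a v = n}))
    (fun a b h => Subtype.ext (congrArg (fun s : {a : W → ℕ // ∑ v, a v = n} => s.1) h))

theorem card_tup (n : ℕ) (hn : 1 ≤ n) :
    Nat.card (Tup W n) = Nat.choose (Fintype.card W + n - 1) n - Fintype.card W := by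
  classical
  let S := {a : W → ℕ // ∑ v, a v = n}
  haveI : Fintype S := Fintype.ofFinite S
  let f : W → S := fun c => ⟨Pi.single c n, by simp⟩
  have hf : Function.Injective f := by
    intro c c' h
    have h1 : (Pi.single c n : W → ℕ) = Pi.single c' n := congrArg Subtype.val h
    have h2 := congrFun h1 c
    rw [Pi.single_eq_same] at h2
    by_contra hne
    rw [Pi.single_eq_of_ne hne] at h2
    omega
  have e : Tup W n ≃ {s : S // ¬ s ∈ Set.range f} :=
    { toFun := fun a => ⟨⟨a.1, a.2.1⟩, by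
        rintro ⟨c, hc⟩
        exact a.2.2 c (congrArg Subtype.val hc).symm⟩
      invFun := fun s => ⟨s.1.1, s.1.2, fun c h => s.2 ⟨c, Subtype.ext h.symm⟩⟩
      left_inv := fun a => rfl
      right_inv := fun s => rfl }
  rw [Nat.card_congr e, Nat.card_eq_fintype_card, Fintype.card_subtype_compl,
    ← Nat.card_eq_fintype_card, card_all]
  congr 1
  rw [← Nat.card_eq_fintype_card, Nat.card_range_of_injective hf, Nat.card_eq_fintype_card]

end Cfsg.Agent.Helper8.PGLr
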