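import Mathlib
import Cfsg.Agent.S0783
import Cfsg.Agent.Helper8.WallE
import Cfsg.Agent.Helper8.PGLrMain
import Cfsg.Agent.Helper8.SUSemiB
set_option autoImplicit false
set_option linter.unusedSectionVars false

/-!
Basic facts on `PGU_n(q) = GU_n(q) / Z(GU_n(q))`: the centre, conjugacy of projections, and
semisimple conjugacy in `GU`.
-/

namespace Cfsg.Agent.Helper8.PGUr

open Polynomial Matrix Cfsg Cfsg.Agent.Helper8.GUOrder Cfsg.Agent.Helper8.SUCenter
  Cfsg.Agent.Helper8.AutSU Cfsg.Agent.Helper8.PU3 Cfsg.Agent.Helper8.PSUSing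
  Cfsg.Agent.Helper8.SUSemi Cfsg.Agent.Helper8.SemiS Cfsg.Agent.Helper8.Wall
  Cfsg.Agent.Helper8.PGLr Cfsg.Agent.S0783

/-- order `r` in the quotient by the centre -/
theorem orderOf_mk_eq_prime_iff {G : Type*} [Group G] (r : ℕ) (hr : r.Prime) (g : G) :
    orderOf (QuotientGroup.mk g : G ⧸ Subgroup.center G) = r ↔
      g ∉ Subgroup.center G ∧ g ^ r ∈ Subgroup.center G := by
  have : Fact r.Prime := ⟨hr⟩
  rw [orderOf_eq_prime_iff, ← QuotientGroup.mk_pow, QuotientGroup.eq_one_iff, Ne,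
    QuotientGroup.eq_one_iff]
  exact and_comm

/-- in a finite cyclic group of order `a * b`, the elements killed by `a` are `b`-th powers -/
theorem exists_pow_eq_of_pow_eq_one_cyclic {G : Type*} [Group G] [Finite G] [IsCyclic G]
    (a b : ℕ) (ha : 0 < a) (hab : a * b = Nat.card G) (x : G) (hx : x ^ a = 1) :
    ∃ y : G, y ^ b = x := by
  obtain ⟨ω, hω⟩ := IsCyclic.exists_ofOrder_eq_natCard (α := G)
  have hgen : ∀ y : G, y ∈ Subgroup.zpowers ω := by
    intro y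
    have : Subgroup.zpowers ω = ⊤ := by
      apply Subgroup.eq_top_of_card_eq
      rw [Nat.card_zpowers, hω]
    rw [this]
    exact Subgroup.mem_top y
  have hx' := hgen x
  rw [← mem_powers_iff_mem_zpowers] at hx'
  obtain ⟨k, hk⟩ := hx'
  change ω ^ k = x at hk
  have h1 : ω ^ (k * a) = 1 := by rw [pow_mul, hk, hx]
  have h2 : a * b ∣ k * a := by
    rw [hab, ← hω]
    exact orderOf_dvd_of_pow_eq_one h1
  have h3 : b ∣ k := by
    rw [mul_comm k a] at h2
    exact Nat.dvd_of_mul_dvd_mul_left ha h2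
  obtain ⟨c, hc⟩ := h3
  refine ⟨ω ^ c, ?_⟩
  rw [← pow_mul, mul_comm, ← hc, hk]

variable {K : Type*} [Field K] [Fintype K] {q : ℕ} [hF : Fact (Fintype.card K = q ^ 2)] {n : ℕ}

/-- the underlying matrix -/
def mat (g : ↥(GU n K q)) : Matrix (Fin n) (Fin n) K :=
  ((g : GL (Fin n) K) : Matrix (Fin n) (Fin n) K)

theorem mat_mul (g h : ↥(GU n K q)) : mat (g * h) = mat g * mat h := rfl

theorem mat_one : mat (1 : ↥(GU n K q)) = 1 := rfl

theorem mat_pow (g : ↥(GU n K q)) (k : ℕ) : mat (g ^ k) = mat g ^ k := by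
  induction k with
  | zero => rw [pow_zero, pow_zero, mat_one]
  | succ k ih => rw [pow_succ, pow_succ, mat_mul, ih]

theorem mat_injective : Function.Injective (mat : ↥(GU n K q) → Matrix (Fin n) (Fin n) K) := by
  intro g h hgh
  exact Subtype.ext (Units.ext hgh)

theorem mat_unitary (g : ↥(GU n K q)) : st (q := q) (mat g) * mat g = 1 :=
  (unitary_iff_st _).mp ((mem_GU_iff hF.out g.1).mp g.2)

theorem mu_norm (z : mu K q) : ((z : Kˣ) : K) * ((z : Kˣ) : K) ^ q = 1 := by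
  have h := z.2
  rw [MonoidHom.mem_ker, powMonoidHom_apply] at h
  have h2 := congrArg Units.val h
  rw [Units.val_pow_eq_pow_val, Units.val_one, pow_succ'] at h2
  exact h2

theorem mem_mu_iff (z : Kˣ) : z ∈ mu K q ↔ (z : K) * (z : K) ^ q = 1 := by
  rw [MonoidHom.mem_ker, powMonoidHom_apply, Units.ext_iff, Units.val_pow_eq_pow_val,
    Units.val_one, pow_succ']

/-- the central scalars as a homomorphism -/
def sgHom (n : ℕ) : mu K q →* ↥(GU n K q) where
  toFun z := sg ((z : Kˣ) : K) (mu_norm z)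
  map_one' := by
    apply Subtype.ext
    apply Units.ext
    change ((1 : Kˣ) : K) • (1 : Matrix (Fin n) (Fin n) K) = 1
    rw [Units.val_one, one_smul]
  map_mul' z w := by
    apply Subtype.ext
    apply Units.ext
    change (((z : Kˣ) * (w : Kˣ) : Kˣ) : K) • (1 : Matrix (Fin n) (Fin n) K) =
      (((z : Kˣ) : K) • (1 : Matrix (Fin n) (Fin n) K)) *
        (((w : Kˣ) : K) • (1 : Matrix (Fin n) (Fin n) K))
    rw [Matrix.smul_mul, Matrix.mul_smul, Matrix.one_mul, smul_smul, Units.val_mul]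

theorem mat_sgHom (z : mu K q) :
    mat (sgHom n z) = ((z : Kˣ) : K) • (1 : Matrix (Fin n) (Fin n) K) := rfl

theorem sgHom_mem_center (z : mu K q) : sgHom n z ∈ Subgroup.center ↥(GU n K q) :=
  sg_center _ _

theorem sgHom_commute (z : mu K q) (g : ↥(GU n K q)) : sgHom n z * g = g * sgHom n z :=
  ((Subgroup.mem_center_iff.mp (sgHom_mem_center z)) g).symm

theorem mem_center_iff (hn : 1 ≤ n) (g : ↥(GU n K q)) :
    g ∈ Subgroup.center ↥(GU n K q) ↔ ∃ z : mu K q, g = sgHom n z := by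
  constructor
  · intro hg
    obtain ⟨ζ, hζ, rfl⟩ := center_scalar hF.out hn g hg
    have hζ0 : ζ ≠ 0 := by
      rintro rfl
      rw [zero_mul] at hζ
      exact zero_ne_one hζ
    refine ⟨⟨Units.mk0 ζ hζ0, (mem_mu_iff _).mpr hζ⟩, ?_⟩
    rfl
  · rintro ⟨z, rfl⟩
    exact sgHom_mem_center z

theorem mat_mul_sgHom (g : ↥(GU n K q)) (z : mu K q) :
    mat (g * sgHom n z) = ((z : Kˣ) : K) • mat g := by
  rw [mat_mul, mat_sgHom, Matrix.mul_smul, Matrix.mul_one]

theorem sgHom_injective (hn : 1 ≤ n) :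
    Function.Injective (sgHom n : mu K q → ↥(GU n K q)) := by
  intro z z' h
  have h1 := congrArg (fun g : ↥(GU n K q) => mat g ⟨0, hn⟩ ⟨0, hn⟩) h
  simp only [mat_sgHom, Matrix.smul_apply, Matrix.one_apply_eq, smul_eq_mul, mul_one] at h1
  exact Subtype.ext (Units.ext h1)

theorem proj_eq_iff (hn : 1 ≤ n) (g g' : ↥(GU n K q)) :
    (QuotientGroup.mk g : ↥(GU n K q) ⧸ Subgroup.center ↥(GU n K q)) = QuotientGroup.mk g' ↔
      ∃ z : mu K q, g' = g * sgHom n z := by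
  rw [QuotientGroup.eq, mem_center_iff hn]
  constructor
  · rintro ⟨z, hz⟩
    exact ⟨z, by rw [← hz, mul_inv_cancel_left]⟩
  · rintro ⟨z, hz⟩
    exact ⟨z, by rw [hz, inv_mul_cancel_left]⟩

theorem proj_isConj_iff (hn : 1 ≤ n) (g g' : ↥(GU n K q)) :
    IsConj (QuotientGroup.mk g : ↥(GU n K q) ⧸ Subgroup.center ↥(GU n K q))
      (QuotientGroup.mk g') ↔
      ∃ (x : ↥(GU n K q)) (z : mu K q), g' = x * g * x⁻¹ * sgHom n z := by
  rw [isConj_iff]
  constructor
  · rintro ⟨c, hc⟩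
    obtain ⟨x, rfl⟩ := QuotientGroup.mk_surjective c
    rw [← QuotientGroup.mk_inv, ← QuotientGroup.mk_mul, ← QuotientGroup.mk_mul,
      proj_eq_iff hn] at hc
    obtain ⟨z, hz⟩ := hc
    exact ⟨x, z, hz⟩
  · rintro ⟨x, z, hz⟩
    refine ⟨QuotientGroup.mk x, ?_⟩
    rw [← QuotientGroup.mk_inv, ← QuotientGroup.mk_mul, ← QuotientGroup.mk_mul, proj_eq_iff hn]
    exact ⟨z, hz⟩

theorem charpoly_conj_gu (x g : ↥(GU n K q)) :
    (mat (x * g * x⁻¹)).charpoly = (mat g).charpoly := by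
  exact PGLr.charpoly_conj (x : GL (Fin n) K) (g : GL (Fin n) K)

/-- semisimple conjugacy in `GU` -/
theorem gu_conj_of_charpoly_eq (g g' : ↥(GU n K q)) (h : K[X]) (hsq : Squarefree h)
    (hg : aeval (mat g) h = 0) (hg' : aeval (mat g') h = 0)
    (hc : (mat g).charpoly = (mat g').charpoly) :
    ∃ x : ↥(GU n K q), g' = x * g * x⁻¹ := by
  obtain ⟨y, hy⟩ := gl_conj_of_charpoly_eq (g : GL (Fin n) K) (g' : GL (Fin n) K) h hsq hg hg' hc
  have h1 : IsConj (g : GL (Fin n) K) (g' : GL (Fin n) K) := by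
    rw [isConj_iff]
    exact ⟨y, hy.symm⟩
  have h2 : IsConj g g' := (isConj_GU_iff g g').mpr h1
  rw [isConj_iff] at h2
  obtain ⟨x, hx⟩ := h2
  exact ⟨x, hx.symm⟩

/-- `r`-th roots of unity have norm one when `r` divides `q + 1` -/
theorem rootsOfUnity_le_mu {r : ℕ} (hrq : r ∣ q + 1) (w : Kˣ) (hw : w ∈ rootsOfUnity r K) :
    w ∈ mu K q := by
  rw [mem_rootsOfUnity] at hw
  rw [MonoidHom.mem_ker, powMonoidHom_apply]
  obtain ⟨c, hc⟩ := hrq
  rw [hc, pow_mul, hw, one_pow]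

theorem dvd_card_sub_one {r : ℕ} (hrq : r ∣ q + 1) : r ∣ Fintype.card K - 1 := by
  rw [hF.out, qsq_sub_one hF.out]
  exact dvd_trans hrq (dvd_mul_left _ _)

end Cfsg.Agent.Helper8.PGUr
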