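import Mathlib
import Cfsg.Agent.Helper8.PGUrBasic
import Cfsg.Agent.Helper8.GURMain
set_option autoImplicit false
set_option linter.unusedSectionVars false

/-!
Split elements of prime order `r ∣ q + 1` in `PGU_n(q)`.
-/

namespace Cfsg.Agent.Helper8.PGUr

open Polynomial Matrix Cfsg Cfsg.Agent.Helper8.GUOrder Cfsg.Agent.Helper8.SUCenter
  Cfsg.Agent.Helper8.AutSU Cfsg.Agent.Helper8.PU3 Cfsg.Agent.Helper8.PSUSing
  Cfsg.Agent.Helper8.SUSemi Cfsg.Agent.Helper8.SemiS Cfsg.Agent.Helper8.Wall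
  Cfsg.Agent.Helper8.PGLr Cfsg.Agent.S0783 Cfsg.Agent.Helper8.GUR

variable {K : Type*} [Field K] [Fintype K] {q : ℕ} [hF : Fact (Fintype.card K = q ^ 2)] {n : ℕ}

theorem coe_sgHom (z : mu K q) :
    ((sgHom n z : ↥(GU n K q)) : GL (Fin n) K) = GeneralLinearGroup.scalar (Fin n) (z : Kˣ) := by
  apply Units.ext
  rw [coe_scalar_eq]
  rfl

/-- `X ^ j - c` with `c` of norm one is its own monic conjugate reciprocal -/
theorem ustar_X_pow_sub_C (j : ℕ) (hj : 0 < j) (c : K) (hc : c * c ^ q = 1) :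
    ustar (q := q) (X ^ j - C c : K[X]) = X ^ j - C c := by
  have hc0 : c ≠ 0 := by
    rintro rfl
    rw [zero_mul] at hc
    exact zero_ne_one hc
  have h0 : (X ^ j - C c : K[X]).coeff 0 = -c := by
    rw [coeff_sub, coeff_X_pow, coeff_C_zero, if_neg hj.ne, zero_sub]
  have hP0 : (X ^ j - C c : K[X]).coeff 0 ≠ 0 := by
    rw [h0]
    exact neg_ne_zero.mpr hc0
  have hm := ustar_monic (q := q) hP0
  have hc' : (c ^ q)⁻¹ = c := (eq_inv_of_mul_eq_one_left hc).symm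
  have e : ustar (q := q) (X ^ j - C c : K[X]) =
      C (((-c) ^ q)⁻¹ * -(c ^ q)) * (X ^ j - C c) := by
    unfold ustar
    rw [h0, sig_X_pow_sub_C j c hc0, hc', ← mul_assoc, ← C_mul]
  have hk : ((-c) ^ q)⁻¹ * -(c ^ q) = 1 := by
    have h1 := hm
    rw [e, Monic, leadingCoeff_mul, leadingCoeff_C, (monic_X_pow_sub_C c hj.ne').leadingCoeff,
      mul_one] at h1
    exact h1
  rw [e, hk, map_one, one_mul]

theorem ustar_Qw {r : ℕ} (hrq : r ∣ q + 1) (w : rootsOfUnity r K) :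
    ustar (q := q) (Qw r w) = Qw r w := by
  have h1 := ustar_X_pow_sub_C (q := q) 1 one_pos (((w : Kˣ) : K))
    ((mem_mu_iff _).mp (rootsOfUnity_le_mu hrq _ w.2))
  rw [pow_one] at h1
  exact h1

theorem ustar_prod_Qw {r : ℕ} (hrq : r ∣ q + 1) [Fintype (rootsOfUnity r K)]
    (a : rootsOfUnity r K → ℕ) :
    ustar (q := q) (∏ w, Qw r w ^ a w) = ∏ w, Qw r w ^ a w := by
  rw [← ustarHom_apply, map_prod]
  apply Finset.prod_congr rfl
  intro w _
  rw [map_pow, ustarHom_apply, ustar_Qw hrq]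

/-- a split element is central iff its exponent vector is concentrated -/
theorem mem_center_iff_single_gu (r : ℕ) (hr0 : ((r : ℕ) : K) ≠ 0) (hn : 1 ≤ n)
    [Fintype (rootsOfUnity r K)] [DecidableEq (rootsOfUnity r K)]
    (g : ↥(GU n K q)) (hg : mat g ^ r = 1) (a : rootsOfUnity r K → ℕ)
    (ha : (mat g).charpoly = ∏ w, Qw r w ^ a w) :
    g ∈ Subgroup.center ↥(GU n K q) ↔ ∃ c : rootsOfUnity r K, a = Pi.single c n := by
  rw [← PGLr.mem_center_iff_single r hr0 hn (g : GL (Fin n) K) hg a ha]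
  constructor
  · intro h
    obtain ⟨z, rfl⟩ := (mem_center_iff hn g).mp h
    rw [PGLr.mem_center_iff]
    exact ⟨(z : Kˣ), coe_sgHom z⟩
  · intro h
    rw [Subgroup.mem_center_iff] at h ⊢
    intro y
    exact Subtype.ext (h (y : GL (Fin n) K))

/-- conjugacy in `PGU` of two split elements in terms of the exponent vectors -/
theorem split_isConj_iff_gu (r : ℕ) (hr0 : ((r : ℕ) : K) ≠ 0) (hrq : r ∣ q + 1) (hn : 1 ≤ n)
    [Fintype (rootsOfUnity r K)] [DecidableEq (rootsOfUnity r K)]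
    (g g' : ↥(GU n K q)) (hg : mat g ^ r = 1) (hg' : mat g' ^ r = 1)
    (a a' : rootsOfUnity r K → ℕ)
    (ha : (mat g).charpoly = ∏ w, Qw r w ^ a w)
    (ha' : (mat g').charpoly = ∏ w, Qw r w ^ a' w) :
    IsConj (QuotientGroup.mk g : ↥(GU n K q) ⧸ Subgroup.center ↥(GU n K q))
      (QuotientGroup.mk g') ↔ ∃ w₀ : rootsOfUnity r K, a' = rot r w₀ a := by
  have hsq : Squarefree (X ^ r - 1 : K[X]) := by
    have := squarefree_X_pow_sub_C r hr0 (1 : K) one_ne_zero
    rwa [map_one] at this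
  have hsum := sum_expo_eq r _ a ha
  constructor
  · intro h
    apply (PGLr.split_isConj_iff r hr0 hn (g : GL (Fin n) K) (g' : GL (Fin n) K) hg hg' a a'
      ha ha').mp
    rw [proj_isConj_iff hn] at h
    obtain ⟨x, z, hz⟩ := h
    rw [PGLr.proj_isConj_iff]
    refine ⟨(x : GL (Fin n) K), (z : Kˣ), ?_⟩
    rw [hz, ← coe_sgHom]
    rfl
  · rintro ⟨w₀, hw₀⟩
    have hw₀mu : (w₀ : Kˣ) ∈ mu K q := rootsOfUnity_le_mu hrq _ w₀.2
    let z : mu K q := ⟨(w₀ : Kˣ), hw₀mu⟩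
    have h5 := charpoly_smul_expo r w₀ a hsum _ ha
    rw [← hw₀, ← ha'] at h5
    have h6 : (mat (g * sgHom n z)).charpoly = (mat g').charpoly := by
      rw [mat_mul_sgHom]
      exact h5
    have hk : aeval (mat (g * sgHom n z)) (X ^ r - 1 : K[X]) = 0 := by
      rw [aeval_X_pow_sub_one, mat_mul_sgHom, _root_.smul_pow, hg, ← Units.val_pow_eq_pow_val]
      have : ((z : Kˣ)) ^ r = 1 := w₀.2
      rw [this, Units.val_one, one_smul, sub_self]
    have hk' : aeval (mat g') (X ^ r - 1 : K[X]) = 0 := by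
      rw [aeval_X_pow_sub_one, hg', sub_self]
    obtain ⟨x, hx⟩ := gu_conj_of_charpoly_eq _ _ _ hsq hk hk' h6
    rw [proj_isConj_iff hn]
    refine ⟨x, z, ?_⟩
    rw [hx, mul_assoc x, mul_assoc x, mul_assoc x, mul_assoc g, mul_assoc g, sgHom_commute]

/-- split elements of order `r` of `PGU` -/
def IsSplit (r : ℕ) (x : ↥(GU n K q) ⧸ Subgroup.center ↥(GU n K q)) : Prop :=
  orderOf x = r ∧ ∃ g : ↥(GU n K q),
    (QuotientGroup.mk g : ↥(GU n K q) ⧸ Subgroup.center ↥(GU n K q)) = x ∧ mat g ^ r = 1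

theorem exists_split_data (r : ℕ) (hr : r.Prime) (hrq : r ∣ q + 1) (hn : 1 ≤ n)
    [Fintype (rootsOfUnity r K)] [DecidableEq (rootsOfUnity r K)]
    (x : ↥(GU n K q) ⧸ Subgroup.center ↥(GU n K q)) (hx : IsSplit r x) :
    ∃ (g : ↥(GU n K q)) (t : Tup (rootsOfUnity r K) n),
      (QuotientGroup.mk g : ↥(GU n K q) ⧸ Subgroup.center ↥(GU n K q)) = x ∧
      mat g ^ r = 1 ∧ (mat g).charpoly = ∏ w, Qw r w ^ t.1 w := by
  obtain ⟨hord, g, hgx, hg⟩ := hx
  have hrq' : r ∣ Fintype.card K - 1 := dvd_card_sub_one hrq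
  have hr0 := natCast_ne_zero_of_dvd (F := K) r hr hrq'
  obtain ⟨ζ, hζ⟩ := exists_primitiveRoot (F := K) r hrq'
  have hsq : Squarefree (X ^ r - 1 : K[X]) := by
    have := squarefree_X_pow_sub_C r hr0 (1 : K) one_ne_zero
    rwa [map_one] at this
  have hk : aeval (mat g) (X ^ r - 1 : K[X]) = 0 := by
    rw [aeval_X_pow_sub_one, hg, sub_self]
  obtain ⟨a, ha1, _⟩ := expo_of_killed (Qw (F := K) r) (X ^ r - 1) hsq
    (fun P hP hirr hdvd => exists_Qw_of_dvd r hr.pos ζ hζ P hP hirr hdvd) (Qw_monic r) _ hk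
  have hsum := sum_expo_eq r _ a ha1
  have hnc : ∀ c, a ≠ Pi.single c n := by
    intro c hc
    have h1 : g ∈ Subgroup.center ↥(GU n K q) :=
      (mem_center_iff_single_gu r hr0 hn g hg a ha1).mpr ⟨c, hc⟩
    rw [← hgx] at hord
    exact ((orderOf_mk_eq_prime_iff r hr g).mp hord).1 h1
  exact ⟨g, ⟨a, hsum, hnc⟩, hgx, hg, ha1⟩

theorem card_split_classes (r : ℕ) (hr : r.Prime) (hrq : r ∣ q + 1) (hn : 1 ≤ n)
    [Fintype (rootsOfUnity r K)] [DecidableEq (rootsOfUnity r K)] :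
    Nat.card {C : ConjClasses (↥(GU n K q) ⧸ Subgroup.center ↥(GU n K q)) //
      ∃ x, ConjClasses.mk x = C ∧ IsSplit r x} =
      Nat.card (Quotient (MulAction.orbitRel (rootsOfUnity r K) (Tup (rootsOfUnity r K) n))) := by
  classical
  obtain ⟨p, hp⟩ := CharP.exists K
  have hpp : Fact p.Prime := ⟨CharP.char_is_prime K p⟩
  have hrq' : r ∣ Fintype.card K - 1 := dvd_card_sub_one hrq
  have hr0 := natCast_ne_zero_of_dvd (F := K) r hr hrq'
  have key : ∀ xp : {x : ↥(GU n K q) ⧸ Subgroup.center ↥(GU n K q) // IsSplit r x},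
      ∃ (g : ↥(GU n K q)) (t : Tup (rootsOfUnity r K) n),
      (QuotientGroup.mk g : ↥(GU n K q) ⧸ Subgroup.center ↥(GU n K q)) = xp.1 ∧
      mat g ^ r = 1 ∧ (mat g).charpoly = ∏ w, Qw r w ^ t.1 w :=
    fun xp => exists_split_data r hr hrq hn xp.1 xp.2
  choose gf tf h1 h2 h3 using key
  have horb : ∀ t t' : Tup (rootsOfUnity r K) n,
      (Quotient.mk (MulAction.orbitRel (rootsOfUnity r K) (Tup (rootsOfUnity r K) n)) t =
        Quotient.mk _ t') ↔ ∃ w₀ : rootsOfUnity r K, t'.1 = rot r w₀ t.1 := by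
    intro t t'
    rw [Quotient.eq]
    change t ∈ MulAction.orbit (rootsOfUnity r K) t' ↔ _
    rw [MulAction.mem_orbit_iff]
    constructor
    · rintro ⟨w, hw⟩
      refine ⟨w⁻¹, ?_⟩
      rw [← hw]
      funext v
      unfold rot
      rw [smul_tup_apply, inv_inv, inv_mul_cancel_left]
    · rintro ⟨w₀, hw₀⟩
      refine ⟨w₀⁻¹, ?_⟩
      apply Subtype.ext
      funext v
      rw [smul_tup_apply, hw₀]
      unfold rot
      rw [inv_inv, inv_mul_cancel_left]
  apply card_classes_of_invariant' (IsSplit r) (fun xp => Quotient.mk _ (tf xp))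
  · intro xp xp'
    rw [horb, ← h1 xp, ← h1 xp']
    exact split_isConj_iff_gu r hr0 hrq hn (gf xp) (gf xp') (h2 xp) (h2 xp') _ _ (h3 xp) (h3 xp')
  · intro Q
    obtain ⟨t, rfl⟩ := Quotient.exists_rep Q
    -- realise `t`
    have hQm : ∀ w : rootsOfUnity r K, (Qw r w).Monic := Qw_monic r
    have hfm : (∏ w, Qw r w ^ t.1 w).Monic := monic_prod_of_monic _ _ (fun w _ => (hQm w).pow _)
    have hfdeg : (∏ w, Qw r w ^ t.1 w).natDegree = n := by
      rw [natDegree_prod_pow (Qw (F := K) r) hQm]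
      have h0 : ∑ w, t.1 w = n := t.2.1
      refine Eq.trans ?_ h0
      apply Finset.sum_congr rfl
      intro w _
      rw [Qw_natDegree, mul_one]
    have hf0 : (∏ w, Qw r w ^ t.1 w).coeff 0 ≠ 0 := by
      rw [Polynomial.coeff_zero_eq_eval_zero, Polynomial.eval_prod, Finset.prod_ne_zero_iff]
      intro w _
      rw [Polynomial.eval_pow]
      apply pow_ne_zero
      unfold Qw
      rw [eval_sub, eval_X, eval_C, zero_sub]
      exact neg_ne_zero.mpr (Units.ne_zero _)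
    obtain ⟨U, hU, hUc, hUo⟩ := exists_unitary_realization (q := q) p n _ hfm hfdeg hf0
      (ustar_prod_Qw hrq t.1)
    let g : ↥(GU n K q) := ⟨U, (mem_GU_iff hF.out U).mpr ((unitary_iff_st _).mpr hU)⟩
    have hdvd : (U : Matrix (Fin n) (Fin n) K).charpoly ∣ (X ^ r - 1) ^ (∑ w, t.1 w) := by
      rw [hUc, ← Finset.prod_pow_eq_pow_sum]
      exact Finset.prod_dvd_prod_of_dvd _ _ (fun w _ => pow_dvd_pow_of_dvd (Qw_dvd r w) _)
    have hUr : U ^ r = 1 := pow_eq_one_of_charpoly_gl p U hUo r _ hdvd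
    have hgr : mat g ^ r = 1 := by
      change (U : Matrix (Fin n) (Fin n) K) ^ r = 1
      rw [← Units.val_pow_eq_pow_val, hUr, Units.val_one]
    have hA1 : (mat g).charpoly = ∏ w, Qw r w ^ t.1 w := hUc
    have hnotc : g ∉ Subgroup.center ↥(GU n K q) := by
      intro hc
      obtain ⟨c, hc⟩ := (mem_center_iff_single_gu r hr0 hn g hgr t.1 hA1).mp hc
      exact t.2.2 c hc
    have hord : orderOf (QuotientGroup.mk g : ↥(GU n K q) ⧸ Subgroup.center ↥(GU n K q)) = r := by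
      rw [orderOf_mk_eq_prime_iff r hr]
      refine ⟨hnotc, ?_⟩
      have : g ^ r = 1 := Subtype.ext hUr
      rw [this]
      exact Subgroup.one_mem _
    let xp : {x : ↥(GU n K q) ⧸ Subgroup.center ↥(GU n K q) // IsSplit r x} :=
      ⟨QuotientGroup.mk g, hord, g, rfl, hgr⟩
    refine ⟨xp, ?_⟩
    change Quotient.mk _ (tf xp) = Quotient.mk _ t
    rw [horb]
    have hconj : IsConj (QuotientGroup.mk (gf xp) :
        ↥(GU n K q) ⧸ Subgroup.center ↥(GU n K q)) (QuotientGroup.mk g) := by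
      rw [h1 xp]
    exact (split_isConj_iff_gu r hr0 hrq hn (gf xp) g (h2 xp) hgr _ _ (h3 xp) hA1).mp hconj

end Cfsg.Agent.Helper8.PGUr
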