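import Mathlib
import Cfsg.Agent.Helper8.PGUrSplit
set_option autoImplicit false
set_option linter.unusedSectionVars false

/-!
Nonsplit elements of prime order `r ∣ q + 1` in `PGU_n(q)`.
-/

namespace Cfsg.Agent.Helper8.PGUr

open Polynomial Matrix Cfsg Cfsg.Agent.Helper8.GUOrder Cfsg.Agent.Helper8.SUCenter
  Cfsg.Agent.Helper8.AutSU Cfsg.Agent.Helper8.PU3 Cfsg.Agent.Helper8.PSUSing
  Cfsg.Agent.Helper8.SUSemi Cfsg.Agent.Helper8.SemiS Cfsg.Agent.Helper8.Wall
  Cfsg.Agent.Helper8.PGLr Cfsg.Agent.S0783 Cfsg.Agent.Helper8.GUR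

variable {K : Type*} [Field K] [Fintype K] {q : ℕ} [hF : Fact (Fintype.card K = q ^ 2)] {n : ℕ}

/-- a semisimple matrix whose characteristic polynomial divides a power of `f` is killed by
`f` -/
theorem aeval_eq_zero_of_charpoly_dvd_pow (p : ℕ) [Fact p.Prime] [CharP K p]
    (g : GL (Fin n) K) (hg : (orderOf g).Coprime p) (f : K[X]) (N : ℕ)
    (hdvd : (g : Matrix (Fin n) (Fin n) K).charpoly ∣ f ^ N) :
    aeval (g : Matrix (Fin n) (Fin n) K) f = 0 := by
  obtain ⟨h, hsq, hA⟩ := semisimple_of_coprime p g hg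
  set A : Matrix (Fin n) (Fin n) K := (g : Matrix (Fin n) (Fin n) K) with hAdef
  have hμ1 : minpoly K A ∣ h := minpoly.dvd K A hA
  have hμsq : Squarefree (minpoly K A) := hsq.squarefree_of_dvd hμ1
  have hμ2 : minpoly K A ∣ f ^ (N + 1) :=
    dvd_trans (Matrix.minpoly_dvd_charpoly A) (dvd_trans hdvd (pow_dvd_pow _ (Nat.le_succ N)))
  have hμ3 : minpoly K A ∣ f := (hμsq.dvd_pow_iff_dvd (Nat.succ_ne_zero N)).mp hμ2
  obtain ⟨c, hc⟩ := hμ3
  rw [hc, map_mul, minpoly.aeval, zero_mul]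

theorem pow_eq_sgHom_iff (g : ↥(GU n K q)) (r : ℕ) (l : mu K q) :
    g ^ r = sgHom n l ↔ mat g ^ r = ((l : Kˣ) : K) • (1 : Matrix (Fin n) (Fin n) K) := by
  rw [← mat_sgHom, ← mat_pow]
  exact ⟨fun h => congrArg mat h, fun h => mat_injective h⟩

theorem mul_sgHom_pow (g : ↥(GU n K q)) (z : mu K q) (r : ℕ) :
    (g * sgHom n z) ^ r = g ^ r * sgHom n (z ^ r) := by
  have hc : Commute g (sgHom n z) := (sgHom_commute z g).symm
  rw [hc.mul_pow, map_pow]

theorem coe_pow_eq_scalar (g : ↥(GU n K q)) (r : ℕ) (l : mu K q) (hg : g ^ r = sgHom n l) :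
    (g : GL (Fin n) K) ^ r = GeneralLinearGroup.scalar (Fin n) (l : Kˣ) := by
  rw [← coe_sgHom, ← hg]
  rfl

theorem mu_pow_card (z : mu K q) : z ^ (q + 1) = 1 := by
  have h := z.2
  rw [MonoidHom.mem_ker, powMonoidHom_apply] at h
  exact Subtype.ext h

/-- a lift with `r`-th power `1` exists iff the scalar `g ^ r` is an `r`-th power -/
theorem exists_split_lift_iff_gu (r : ℕ) (hn : 1 ≤ n) (g : ↥(GU n K q)) (l : mu K q)
    (hg : g ^ r = sgHom n l) :
    (∃ g' : ↥(GU n K q),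
      (QuotientGroup.mk g' : ↥(GU n K q) ⧸ Subgroup.center ↥(GU n K q)) = QuotientGroup.mk g ∧
        mat g' ^ r = 1) ↔ ∃ μ : mu K q, μ ^ r = l := by
  constructor
  · rintro ⟨g', h1, h2⟩
    obtain ⟨z, hz⟩ := (proj_eq_iff hn g g').mp h1.symm
    have h3 : g' ^ r = 1 := by
      apply mat_injective
      rw [mat_pow, h2, mat_one]
    rw [hz, mul_sgHom_pow, hg, ← map_mul] at h3
    have h4 : l * z ^ r = 1 := sgHom_injective hn (h3.trans (map_one _).symm)
    refine ⟨z⁻¹, ?_⟩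
    rw [inv_pow, inv_eq_iff_eq_inv]
    exact (eq_inv_of_mul_eq_one_right h4)
  · rintro ⟨μ, hμ⟩
    refine ⟨g * sgHom n μ⁻¹, ?_, ?_⟩
    · exact ((proj_eq_iff hn g _).mpr ⟨μ⁻¹, rfl⟩).symm
    · have : (g * sgHom n μ⁻¹) ^ r = 1 := by
        rw [mul_sgHom_pow, hg, ← map_mul, inv_pow, hμ, mul_inv_cancel, map_one]
      rw [← mat_pow, this, mat_one]

instance : IsCyclic (mu K q) := by
  unfold mu
  infer_instance

/-- `r`-th powers among the norm-one units -/
theorem exists_pow_mu (a b : ℕ) (ha : 0 < a) (hab : a * b = q + 1) (x : mu K q)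
    (hx : x ^ a = 1) : ∃ y : mu K q, y ^ b = x :=
  exists_pow_eq_of_pow_eq_one_cyclic a b ha (by rw [card_mu hF.out]; exact hab) x hx

/-- a norm-one unit that is not an `r`-th power of a norm-one unit is not an `r`-th power -/
theorem not_pow_units (r m : ℕ) (hr : r.Prime) (hr2 : r ≠ 2) (hm : m * r = q + 1) (l : mu K q)
    (hl : ¬ ∃ μ : mu K q, μ ^ r = l) : ¬ ∃ μ : Kˣ, μ ^ r = (l : Kˣ) := by
  rintro ⟨μ, hμ⟩
  apply hl
  have hq2 : 2 ≤ q := two_le_q hF.out
  have hm0 : 0 < m := by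
    rcases Nat.eq_zero_or_pos m with h | h
    · rw [h, zero_mul] at hm
      omega
    · exact h
  apply exists_pow_mu m r hm0 hm l
  -- `t = l ^ m` is trivial
  have h1 : ((l ^ m : mu K q) : Kˣ) ^ r = 1 := by
    have h0 : (l ^ m) ^ r = 1 := by rw [← pow_mul, hm, mu_pow_card]
    exact congrArg Subtype.val h0
  have h2 : ((l ^ m : mu K q) : Kˣ) ^ (q - 1) = 1 := by
    have e1 : ((l ^ m : mu K q) : Kˣ) = μ ^ (q + 1) := by
      rw [Subgroup.coe_pow, ← hμ, ← pow_mul, mul_comm r m, hm]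
    rw [e1, ← pow_mul]
    have e2 : (q + 1) * (q - 1) = Fintype.card K - 1 := by
      rw [hF.out, qsq_sub_one hF.out, mul_comm]
    rw [e2]
    exact units_pow_card_sub_one μ
  have hcop : Nat.Coprime r (q - 1) := by
    rw [Nat.Prime.coprime_iff_not_dvd hr]
    intro hd
    have hrq : r ∣ q + 1 := ⟨m, by rw [← hm, mul_comm]⟩
    have h3 : r ∣ (q + 1) - (q - 1) := Nat.dvd_sub hrq hd
    have h4 : (q + 1) - (q - 1) = 2 := by omega
    rw [h4] at h3
    exact hr2 ((Nat.prime_dvd_prime_iff_eq hr Nat.prime_two).mp h3)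
  have h5 : ((l ^ m : mu K q) : Kˣ) ^ (Nat.gcd r (q - 1)) = 1 := pow_gcd_eq_one.mpr ⟨h1, h2⟩
  rw [hcop, pow_one] at h5
  exact Subtype.ext h5

/-- conjugacy in `PGU` of two nonsplit elements -/
theorem nonsplit_isConj_iff_gu (r m : ℕ) (hr : r.Prime) (hr2 : r ≠ 2) (hm : m * r = q + 1)
    (hn : 1 ≤ n) (g g' : ↥(GU n K q)) (l l' : mu K q)
    (hg : g ^ r = sgHom n l) (hg' : g' ^ r = sgHom n l')
    (hl' : ¬ ∃ μ : mu K q, μ ^ r = l') :
    IsConj (QuotientGroup.mk g : ↥(GU n K q) ⧸ Subgroup.center ↥(GU n K q))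
      (QuotientGroup.mk g') ↔ l ^ m = l' ^ m := by
  have hrq : r ∣ q + 1 := ⟨m, by rw [← hm, mul_comm]⟩
  have hrq' : r ∣ Fintype.card K - 1 := dvd_card_sub_one hrq
  have hr0 := natCast_ne_zero_of_dvd (F := K) r hr hrq'
  have hq2 : 2 ≤ q := two_le_q hF.out
  have hm0 : 0 < m := by
    rcases Nat.eq_zero_or_pos m with h | h
    · rw [h, zero_mul] at hm
      omega
    · exact h
  rw [proj_isConj_iff hn]
  constructor
  · rintro ⟨x, z, hz⟩
    have h1 : g' ^ r = sgHom n (l * z ^ r) := by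
      have hconj : x * sgHom n l * x⁻¹ = sgHom n l := by
        rw [← sgHom_commute l x, mul_inv_cancel_right]
      rw [hz, mul_sgHom_pow, conj_pow, hg, map_mul, hconj]
    have h2 : l' = l * z ^ r := sgHom_injective hn (hg'.symm.trans h1)
    rw [h2, mul_pow, ← pow_mul, mul_comm r m, hm, mu_pow_card, mul_one]
  · intro h
    have h1 : (l' * l⁻¹) ^ m = 1 := by
      rw [mul_pow, inv_pow, h, mul_inv_cancel]
    obtain ⟨z, hz⟩ := exists_pow_mu m r hm0 hm (l' * l⁻¹) h1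
    have h2 : (g * sgHom n z) ^ r = sgHom n l' := by
      rw [mul_sgHom_pow, hg, ← map_mul, hz, mul_comm l' l⁻¹, mul_inv_cancel_left]
    have hlK := not_pow_units r m hr hr2 hm l' hl'
    obtain ⟨_, hc1⟩ := charpoly_nonsplit r hr hr0 ((g * sgHom n z : ↥(GU n K q)) : GL (Fin n) K)
      (l' : Kˣ) (coe_pow_eq_scalar _ r l' h2) hlK
    obtain ⟨_, hc2⟩ := charpoly_nonsplit r hr hr0 (g' : GL (Fin n) K) (l' : Kˣ)
      (coe_pow_eq_scalar _ r l' hg') hlK
    have hsq := squarefree_X_pow_sub_C r hr0 (((l' : Kˣ)) : K) (Units.ne_zero _)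
    have hk : aeval (mat (g * sgHom n z)) (X ^ r - C (((l' : Kˣ)) : K) : K[X]) = 0 := by
      rw [aeval_X_pow_sub_C, (pow_eq_sgHom_iff _ r l').mp h2, sub_self]
    have hk' : aeval (mat g') (X ^ r - C (((l' : Kˣ)) : K) : K[X]) = 0 := by
      rw [aeval_X_pow_sub_C, (pow_eq_sgHom_iff _ r l').mp hg', sub_self]
    obtain ⟨x, hx⟩ := gu_conj_of_charpoly_eq _ _ _ hsq hk hk' (hc1.trans hc2.symm)
    refine ⟨x, z, ?_⟩
    rw [hx, mul_assoc x, mul_assoc x, mul_assoc x, mul_assoc g, mul_assoc g, sgHom_commute]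

/-- nonsplit elements of order `r` of `PGU` -/
def IsNonsplit (r : ℕ) (x : ↥(GU n K q) ⧸ Subgroup.center ↥(GU n K q)) : Prop :=
  orderOf x = r ∧ ¬ ∃ g : ↥(GU n K q),
    (QuotientGroup.mk g : ↥(GU n K q) ⧸ Subgroup.center ↥(GU n K q)) = x ∧ mat g ^ r = 1

theorem exists_nonsplit_data (r : ℕ) (hr : r.Prime) (hn : 1 ≤ n)
    (x : ↥(GU n K q) ⧸ Subgroup.center ↥(GU n K q)) (hx : IsNonsplit r x) :
    ∃ (g : ↥(GU n K q)) (l : mu K q),
      (QuotientGroup.mk g : ↥(GU n K q) ⧸ Subgroup.center ↥(GU n K q)) = x ∧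
      g ^ r = sgHom n l ∧ ¬ ∃ μ : mu K q, μ ^ r = l := by
  obtain ⟨g, rfl⟩ := QuotientGroup.mk_surjective x
  obtain ⟨hord, hns⟩ := hx
  obtain ⟨_, hc⟩ := (orderOf_mk_eq_prime_iff r hr g).mp hord
  obtain ⟨l, hl⟩ := (mem_center_iff hn _).mp hc
  refine ⟨g, l, rfl, hl, ?_⟩
  intro hμ
  exact hns ((exists_split_lift_iff_gu r hn g l hl).mpr hμ)

/-- realising a nonsplit scalar -/
theorem exists_nonsplit_realization (r : ℕ) (hr : r.Prime) (hdvd : r ∣ n) (l : mu K q) :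
    ∃ g : ↥(GU n K q), g ^ r = sgHom n l := by
  obtain ⟨p, hp⟩ := CharP.exists K
  have hpp : Fact p.Prime := ⟨CharP.char_is_prime K p⟩
  have hmon : (X ^ r - C (((l : Kˣ)) : K) : K[X]).Monic := monic_X_pow_sub_C _ hr.ne_zero
  have hfm : ((X ^ r - C (((l : Kˣ)) : K) : K[X]) ^ (n / r)).Monic := hmon.pow _
  have hfdeg : ((X ^ r - C (((l : Kˣ)) : K) : K[X]) ^ (n / r)).natDegree = n := by
    rw [hmon.natDegree_pow, natDegree_X_pow_sub_C, mul_comm, Nat.mul_div_cancel' hdvd]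
  have hf0 : ((X ^ r - C (((l : Kˣ)) : K) : K[X]) ^ (n / r)).coeff 0 ≠ 0 := by
    rw [Polynomial.coeff_zero_eq_eval_zero, Polynomial.eval_pow]
    apply pow_ne_zero
    rw [eval_sub, eval_pow, eval_X, eval_C, zero_pow hr.ne_zero, zero_sub]
    exact neg_ne_zero.mpr (Units.ne_zero _)
  have hs : ustar (q := q) ((X ^ r - C (((l : Kˣ)) : K) : K[X]) ^ (n / r)) =
      (X ^ r - C (((l : Kˣ)) : K) : K[X]) ^ (n / r) := by
    rw [← ustarHom_apply, map_pow, ustarHom_apply, ustar_X_pow_sub_C r hr.pos _ (mu_norm l)]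
  obtain ⟨U, hU, hUc, hUo⟩ := exists_unitary_realization (q := q) p n _ hfm hfdeg hf0 hs
  let g : ↥(GU n K q) := ⟨U, (mem_GU_iff hF.out U).mpr ((unitary_iff_st _).mpr hU)⟩
  refine ⟨g, ?_⟩
  rw [pow_eq_sgHom_iff]
  have h1 := aeval_eq_zero_of_charpoly_dvd_pow p U hUo (X ^ r - C (((l : Kˣ)) : K)) (n / r)
    (by rw [hUc])
  rw [aeval_X_pow_sub_C, sub_eq_zero] at h1
  exact h1

theorem card_nonsplit_classes (r : ℕ) (hr : r.Prime) (hr2 : r ≠ 2) (hrq : r ∣ q + 1)
    (hn : 1 ≤ n) [Fintype (rootsOfUnity r K)] [DecidableEq (rootsOfUnity r K)]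
    (hW : Fintype.card (rootsOfUnity r K) = r) :
    Nat.card {C : ConjClasses (↥(GU n K q) ⧸ Subgroup.center ↥(GU n K q)) //
      ∃ x, ConjClasses.mk x = C ∧ IsNonsplit r x} = if r ∣ n then r - 1 else 0 := by
  classical
  have hrq' : r ∣ Fintype.card K - 1 := dvd_card_sub_one hrq
  have hr0 := natCast_ne_zero_of_dvd (F := K) r hr hrq'
  obtain ⟨m, hm'⟩ := hrq
  have hm : m * r = q + 1 := by rw [hm', mul_comm]
  have hrm : r * m = q + 1 := hm'.symm
  have hq2 : 2 ≤ q := two_le_q hF.out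
  have hm0 : 0 < m := by
    rcases Nat.eq_zero_or_pos m with h | h
    · rw [h, zero_mul] at hm
      omega
    · exact h
  have key : ∀ xp : {x : ↥(GU n K q) ⧸ Subgroup.center ↥(GU n K q) // IsNonsplit r x},
      ∃ (g : ↥(GU n K q)) (l : mu K q),
      (QuotientGroup.mk g : ↥(GU n K q) ⧸ Subgroup.center ↥(GU n K q)) = xp.1 ∧
      g ^ r = sgHom n l ∧ ¬ ∃ μ : mu K q, μ ^ r = l :=
    fun xp => exists_nonsplit_data r hr hn xp.1 xp.2
  choose gf lf h1 h2 h3 using key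
  split_ifs with hdvd
  · have hT : Nat.card {w : rootsOfUnity r K // w ≠ 1} = r - 1 := by
      rw [Nat.card_eq_fintype_card, Fintype.card_subtype_compl, Fintype.card_subtype_eq, hW]
    rw [← hT]
    have hmem : ∀ l : mu K q, ((l : Kˣ)) ^ m ∈ rootsOfUnity r K := by
      intro l
      rw [mem_rootsOfUnity, ← pow_mul, hm]
      exact congrArg Subtype.val (mu_pow_card l)
    have hne : ∀ l : mu K q, (¬ ∃ μ : mu K q, μ ^ r = l) →
        (⟨((l : Kˣ)) ^ m, hmem l⟩ : rootsOfUnity r K) ≠ 1 := by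
      intro l hl h
      apply hl
      have h5 : ((l : Kˣ)) ^ m = 1 := congrArg Subtype.val h
      have : l ^ m = 1 := Subtype.ext h5
      exact exists_pow_mu m r hm0 hm l this
    apply card_classes_of_invariant' (IsNonsplit r)
      (fun xp => (⟨⟨((lf xp : Kˣ)) ^ m, hmem _⟩, hne _ (h3 xp)⟩ :
        {w : rootsOfUnity r K // w ≠ 1}))
    · intro xp xp'
      rw [← h1 xp, ← h1 xp', nonsplit_isConj_iff_gu r m hr hr2 hm hn (gf xp) (gf xp') (lf xp)
        (lf xp') (h2 xp) (h2 xp') (h3 xp')]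
      constructor
      · intro h
        apply Subtype.ext
        apply Subtype.ext
        have h5 : ((lf xp ^ m : mu K q) : Kˣ) = ((lf xp' ^ m : mu K q) : Kˣ) :=
          congrArg Subtype.val h
        exact h5
      · intro h
        have h5 : ((lf xp : Kˣ)) ^ m = ((lf xp' : Kˣ)) ^ m :=
          congrArg (fun w : {w : rootsOfUnity r K // w ≠ 1} =>
            ((w.1 : rootsOfUnity r K) : Kˣ)) h
        exact Subtype.ext h5
    · rintro ⟨w, hw⟩
      have hwmu : (w : Kˣ) ∈ mu K q := rootsOfUnity_le_mu ⟨m, hm'⟩ _ w.2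
      have hw' : (⟨(w : Kˣ), hwmu⟩ : mu K q) ^ r = 1 := by
        apply Subtype.ext
        exact w.2
      obtain ⟨l, hl⟩ := exists_pow_mu r m hr.pos hrm ⟨(w : Kˣ), hwmu⟩ hw'
      have hlns : ¬ ∃ μ : mu K q, μ ^ r = l := by
        rintro ⟨μ, hμ⟩
        apply hw
        apply Subtype.ext
        have h5 := congrArg Subtype.val hl
        change ((l ^ m : mu K q) : Kˣ) = (w : Kˣ) at h5
        rw [← h5, ← hμ, ← pow_mul, hrm, mu_pow_card]
        rfl
      obtain ⟨g, hg⟩ := exists_nonsplit_realization (q := q) r hr hdvd l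
      have hnotc : g ∉ Subgroup.center ↥(GU n K q) := by
        intro hc
        obtain ⟨c, hc⟩ := (mem_center_iff hn g).mp hc
        rw [hc, ← map_pow] at hg
        exact hlns ⟨c, sgHom_injective hn hg⟩
      have hord : orderOf (QuotientGroup.mk g :
          ↥(GU n K q) ⧸ Subgroup.center ↥(GU n K q)) = r := by
        rw [orderOf_mk_eq_prime_iff r hr]
        refine ⟨hnotc, ?_⟩
        rw [hg]
        exact sgHom_mem_center l
      have hns : ¬ ∃ g' : ↥(GU n K q),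
          (QuotientGroup.mk g' : ↥(GU n K q) ⧸ Subgroup.center ↥(GU n K q)) =
            QuotientGroup.mk g ∧ mat g' ^ r = 1 := by
        intro h
        exact hlns ((exists_split_lift_iff_gu r hn g l hg).mp h)
      let xp : {x : ↥(GU n K q) ⧸ Subgroup.center ↥(GU n K q) // IsNonsplit r x} :=
        ⟨QuotientGroup.mk g, hord, hns⟩
      refine ⟨xp, ?_⟩
      apply Subtype.ext
      apply Subtype.ext
      change ((lf xp : Kˣ)) ^ m = (w : Kˣ)
      have h5 := congrArg Subtype.val hl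
      change ((l ^ m : mu K q) : Kˣ) = (w : Kˣ) at h5
      rw [← h5]
      have hconj : IsConj (QuotientGroup.mk (gf xp) :
          ↥(GU n K q) ⧸ Subgroup.center ↥(GU n K q)) (QuotientGroup.mk g) := by
        rw [h1 xp]
      have h6 := (nonsplit_isConj_iff_gu r m hr hr2 hm hn (gf xp) g (lf xp) l (h2 xp) hg
        hlns).mp hconj
      exact congrArg Subtype.val h6
  · rw [Nat.card_eq_zero]
    left
    refine ⟨?_⟩
    rintro ⟨C, x, _, hx⟩
    obtain ⟨g, l, _, hg, hl⟩ := exists_nonsplit_data r hr hn x hx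
    exact hdvd (charpoly_nonsplit r hr hr0 (g : GL (Fin n) K) (l : Kˣ)
      (coe_pow_eq_scalar g r l hg) (not_pow_units r m hr hr2 hm l hl)).1

end Cfsg.Agent.Helper8.PGUr
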