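import Mathlib
import Cfsg.Agent.Helper8.PGUrNonsplit
set_option autoImplicit false
set_option linter.unusedSectionVars false

/-!
The number of conjugacy classes of elements of odd prime order `r ∣ q + 1` in `PGU_n(q)`.
-/

namespace Cfsg.Agent.Helper8.PGUr

open Polynomial Matrix Cfsg Cfsg.Agent.Helper8.GUOrder Cfsg.Agent.Helper8.SUCenter
  Cfsg.Agent.Helper8.AutSU Cfsg.Agent.Helper8.PU3 Cfsg.Agent.Helper8.PSUSing
  Cfsg.Agent.Helper8.SUSemi Cfsg.Agent.Helper8.SemiS Cfsg.Agent.Helper8.Wall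
  Cfsg.Agent.Helper8.PGLr Cfsg.Agent.S0783 Cfsg.Agent.Helper8.GUR

variable {K : Type*} [Field K] [Fintype K] {q : ℕ}

theorem card_pgu_order_r (hK : Fintype.card K = q ^ 2) {n r : ℕ} (hn1 : 1 ≤ n)
    (hr : r.Prime) (hr2 : r ≠ 2) (hrq : r ∣ q + 1) :
    Nat.card {C : ConjClasses (↥(GU n K q) ⧸ Subgroup.center ↥(GU n K q)) //
      ∃ g : ↥(GU n K q) ⧸ Subgroup.center ↥(GU n K q), ConjClasses.mk g = C ∧ orderOf g = r} =
      (Nat.choose (n + r - 1) (r - 1) - r - (if r ∣ n then 1 else 0)) / r +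
        r * (if r ∣ n then 1 else 0) := by
  classical
  have hF : Fact (Fintype.card K = q ^ 2) := ⟨hK⟩
  haveI : NeZero r := ⟨hr.ne_zero⟩
  haveI : Fintype (rootsOfUnity r K) := Fintype.ofFinite _
  have hrq' : r ∣ Fintype.card K - 1 := dvd_card_sub_one hrq
  obtain ⟨ζ, hζ⟩ := exists_primitiveRoot (F := K) r hrq'
  have hW : Fintype.card (rootsOfUnity r K) = r := by
    rw [← Nat.card_eq_fintype_card]
    exact hζ.card_rootsOfUnity
  have hiff : ∀ x : ↥(GU n K q) ⧸ Subgroup.center ↥(GU n K q),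
      orderOf x = r ↔ (IsSplit r x ∨ IsNonsplit r x) := by
    intro x
    unfold IsSplit IsNonsplit
    constructor
    · intro h
      by_cases hs : ∃ g : ↥(GU n K q),
          (QuotientGroup.mk g : ↥(GU n K q) ⧸ Subgroup.center ↥(GU n K q)) = x ∧
          mat g ^ r = 1
      · exact Or.inl ⟨h, hs⟩
      · exact Or.inr ⟨h, hs⟩
    · rintro (h | h)
      · exact h.1
      · exact h.1
  have e : {C : ConjClasses (↥(GU n K q) ⧸ Subgroup.center ↥(GU n K q)) //
      ∃ g : ↥(GU n K q) ⧸ Subgroup.center ↥(GU n K q), ConjClasses.mk g = C ∧ orderOf g = r} ≃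
      {C : ConjClasses (↥(GU n K q) ⧸ Subgroup.center ↥(GU n K q)) //
      ∃ g : ↥(GU n K q) ⧸ Subgroup.center ↥(GU n K q), ConjClasses.mk g = C ∧
        (IsSplit r g ∨ IsNonsplit r g)} := by
    apply Equiv.subtypeEquivRight
    intro C
    constructor
    · rintro ⟨g, hg, h⟩
      exact ⟨g, hg, (hiff g).mp h⟩
    · rintro ⟨g, hg, h⟩
      exact ⟨g, hg, (hiff g).mpr h⟩
  rw [Nat.card_congr e, card_classes_or (IsSplit r) (IsNonsplit r),
    card_split_classes r hr hrq hn1, card_orbits r n hr hW hn1,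
    card_nonsplit_classes r hr hr2 hrq hn1 hW]
  · split_ifs with hdvd
    · have := hr.two_le
      rw [mul_one, add_assoc]
      congr 1
      omega
    · rw [mul_zero, add_zero]
  · rintro x y ⟨hord, g, hg, hgr⟩
    refine ⟨?_, ?_⟩
    · rw [← hord]
      have : SemiconjBy y x (y * x * y⁻¹) := by
        unfold SemiconjBy
        rw [inv_mul_cancel_right]
      exact (this.orderOf_eq y).symm
    · obtain ⟨y', rfl⟩ := QuotientGroup.mk_surjective y
      refine ⟨y' * g * y'⁻¹, ?_, ?_⟩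
      · rw [QuotientGroup.mk_mul, QuotientGroup.mk_mul, QuotientGroup.mk_inv, hg]
      · have h1 : g ^ r = 1 := by
          apply mat_injective
          rw [mat_pow, hgr, mat_one]
        have h2 : (y' * g * y'⁻¹) ^ r = 1 := by rw [conj_pow, h1, mul_one, mul_inv_cancel]
        rw [← mat_pow, h2, mat_one]
  · rintro x ⟨_, h1⟩ ⟨_, h2⟩
    exact h2 h1

end Cfsg.Agent.Helper8.PGUr
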