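import Mathlib

set_option autoImplicit false

/-!
Prime graphs: a split extension of a group `S` by an elementary abelian `2`-group on which the
elements of odd prime order of `S` act without fixed points has the same prime graph as `S`.
-/

namespace Cfsg.Agent.Helper8.PGraph

/-- the same prime divisors of the order and the same pairs of primes joined by an element -/
def SamePG (S H : Type*) [Group S] [Group H] : Prop :=
  (∀ r : ℕ, r.Prime → (r ∣ Nat.card S ↔ r ∣ Nat.card H)) ∧
    ∀ r s : ℕ, r.Prime → s.Prime → r ≠ s →
      ((∃ x : S, orderOf x = r * s) ↔ ∃ y : H, orderOf y = r * s)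

theorem SamePG.congr {S H H' : Type*} [Group S] [Group H] [Group H'] (e : H ≃* H')
    (h : SamePG S H) : SamePG S H' := by
  constructor
  · intro r hr
    rw [h.1 r hr, Nat.card_congr e.toEquiv]
  · intro r s hr hs hrs
    rw [h.2 r s hr hs hrs]
    constructor
    · rintro ⟨y, hy⟩
      exact ⟨e y, by rw [MulEquiv.orderOf_eq, hy]⟩
    · rintro ⟨y, hy⟩
      exact ⟨e.symm y, by rw [MulEquiv.orderOf_eq, hy]⟩

section semidirect

variable {S V : Type*} [Group S] [AddCommGroup V] [DistribMulAction S V]

/-- the action as a homomorphism to the automorphisms of the multiplicative copy -/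
def actHom (S V : Type*) [Group S] [AddCommGroup V] [DistribMulAction S V] :
    S →* MulAut (Multiplicative V) where
  toFun g :=
    { toFun := fun v => Multiplicative.ofAdd (g • Multiplicative.toAdd v)
      invFun := fun v => Multiplicative.ofAdd (g⁻¹ • Multiplicative.toAdd v)
      left_inv := fun v => by simp
      right_inv := fun v => by simp
      map_mul' := fun v w => by
        show Multiplicative.ofAdd (g • (Multiplicative.toAdd v + Multiplicative.toAdd w)) =
          Multiplicative.ofAdd (g • Multiplicative.toAdd v + g • Multiplicative.toAdd w)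
        rw [smul_add] }
  map_one' := by
    ext v
    show Multiplicative.ofAdd ((1 : S) • Multiplicative.toAdd v) = v
    rw [one_smul]
    rfl
  map_mul' g g' := by
    ext v
    show Multiplicative.ofAdd ((g * g') • Multiplicative.toAdd v) =
      Multiplicative.ofAdd (g • (g' • Multiplicative.toAdd v))
    rw [mul_smul]

theorem actHom_apply (g : S) (v : Multiplicative V) :
    actHom S V g v = Multiplicative.ofAdd (g • Multiplicative.toAdd v) := rfl

/-- the split extension -/
abbrev Ext (S V : Type*) [Group S] [AddCommGroup V] [DistribMulAction S V] : Type _ :=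
  Multiplicative V ⋊[actHom S V] S

open SemidirectProduct

theorem ker_sq (h2 : ∀ v : V, v + v = 0) {y : Ext S V}
    (hy : y ∈ (rightHom : Ext S V →* S).ker) : y * y = 1 := by
  rw [← range_inl_eq_ker_rightHom] at hy
  obtain ⟨v, rfl⟩ := hy
  rw [← map_mul]
  have : v * v = 1 := by
    show Multiplicative.ofAdd (Multiplicative.toAdd v + Multiplicative.toAdd v) = 1
    rw [h2]
    rfl
  rw [this, map_one]

/-- commuting with a non-identity element of the kernel gives a fixed vector -/
theorem fixed_of_commute {z k : Ext S V} (hk : k ∈ (rightHom : Ext S V →* S).ker)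
    (hzk : z * k = k * z) :
    (rightHom z : S) • Multiplicative.toAdd k.left = Multiplicative.toAdd k.left := by
  rw [← range_inl_eq_ker_rightHom] at hk
  obtain ⟨v, rfl⟩ := hk
  have h1 := congrArg SemidirectProduct.left hzk
  rw [mul_left, mul_left, left_inl, right_inl, map_one, MulAut.one_apply] at h1
  have h3 : actHom S V z.right v = v := by
    have h4 : z.left * actHom S V z.right v = z.left * v := by rw [h1, mul_comm]
    exact mul_left_cancel h4
  rw [actHom_apply] at h3
  rw [rightHom_eq_right, left_inl]
  exact congrArg Multiplicative.toAdd h3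

theorem card_ext : Nat.card (Ext S V) = Nat.card V * Nat.card S := by
  rw [SemidirectProduct.card]
  rfl

/-- an element of order `2 s` of the extension maps to an element of order `2 s` -/
theorem exists_orderOf_two_mul (h2 : ∀ v : V, v + v = 0)
    (hfpf : ∀ g : S, (orderOf g).Prime → orderOf g ≠ 2 → ∀ v : V, g • v = v → v = 0)
    {s : ℕ} (hs : s.Prime) (hs2 : s ≠ 2) {y : Ext S V} (hy : orderOf y = 2 * s) :
    ∃ x : S, orderOf x = 2 * s := by
  set x : S := rightHom y with hx
  have hsodd : Nat.Coprime s 2 := (Nat.coprime_primes hs Nat.prime_two).2 hs2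
  have hn_dvd : orderOf x ∣ 2 * s := by
    rw [← hy]
    exact orderOf_map_dvd _ y
  have hker : y ^ orderOf x ∈ (rightHom : Ext S V →* S).ker := by
    rw [MonoidHom.mem_ker, map_pow, pow_orderOf_eq_one]
  have hsq := ker_sq h2 hker
  have h2n : 2 * s ∣ orderOf x * 2 := by
    rw [← hy]
    apply orderOf_dvd_of_pow_eq_one
    rw [pow_mul, pow_two, hsq]
  have hsn : s ∣ orderOf x := by
    have : s ∣ orderOf x * 2 := (Dvd.intro_left 2 rfl).trans h2n
    exact Nat.Coprime.dvd_of_dvd_mul_right hsodd this
  obtain ⟨c, hc⟩ := hsn
  have hc2 : c ∣ 2 := by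
    rw [hc, mul_comm 2 s] at hn_dvd
    exact Nat.dvd_of_mul_dvd_mul_left hs.pos hn_dvd
  rcases (Nat.dvd_prime Nat.prime_two).1 hc2 with rfl | rfl
  · -- the image has order `s`: contradiction
    exfalso
    rw [mul_one] at hc
    have hk : y ^ s ∈ (rightHom : Ext S V →* S).ker := by
      rw [← hc]
      exact hker
    have hk1 : y ^ s ≠ 1 := by
      intro e
      have := orderOf_dvd_of_pow_eq_one e
      rw [hy] at this
      have := Nat.le_of_dvd hs.pos this
      have := hs.pos
      omega
    have hzk : y ^ 2 * y ^ s = y ^ s * y ^ 2 := by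
      rw [← pow_add, ← pow_add, add_comm]
    have hfix := fixed_of_commute hk hzk
    have hord : orderOf ((rightHom : Ext S V →* S) (y ^ 2)) = s := by
      rw [map_pow, ← hx, orderOf_pow' _ (by norm_num : (2 : ℕ) ≠ 0), hc, hsodd.gcd_eq_one,
        Nat.div_one]
    have h0 := hfpf _ (by rw [hord]; exact hs) (by rw [hord]; exact hs2) _ hfix
    apply hk1
    rw [← range_inl_eq_ker_rightHom] at hk
    obtain ⟨v, hv⟩ := hk
    rw [← hv, left_inl] at h0
    have hv1 : v = 1 := by
      have : Multiplicative.ofAdd (Multiplicative.toAdd v) = Multiplicative.ofAdd 0 := by rw [h0]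
      exact this
    rw [← hv, hv1, map_one]
  · exact ⟨x, by rw [hc, mul_comm]⟩

theorem samePG_ext [Finite V] (h2 : ∀ v : V, v + v = 0) (hS : 2 ∣ Nat.card S)
    (hfpf : ∀ g : S, (orderOf g).Prime → orderOf g ≠ 2 → ∀ v : V, g • v = v → v = 0) :
    SamePG S (Ext S V) := by
  constructor
  · intro r hr
    rw [card_ext]
    constructor
    · intro h
      exact Dvd.dvd.mul_left h _
    · intro h
      rcases (Nat.Prime.dvd_mul hr).1 h with h | h
      · have : Fact r.Prime := ⟨hr⟩
        have hc : Nat.card V = Nat.card (Multiplicative V) := rfl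
        rw [hc] at h
        obtain ⟨v, hv⟩ := exists_prime_orderOf_dvd_card' (G := Multiplicative V) r h
        have hvv : v * v = 1 := by
          show Multiplicative.ofAdd (Multiplicative.toAdd v + Multiplicative.toAdd v) = 1
          rw [h2]
          rfl
        have hd : orderOf v ∣ 2 := orderOf_dvd_of_pow_eq_one (by rw [pow_two, hvv])
        rw [hv] at hd
        rw [(Nat.prime_dvd_prime_iff_eq hr Nat.prime_two).1 hd]
        exact hS
      · exact h
  · intro r s hr hs hrs
    constructor
    · rintro ⟨x, hx⟩
      exact ⟨(inr : S →* Ext S V) x, by rw [orderOf_injective _ inr_injective, hx]⟩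
    · rintro ⟨y, hy⟩
      by_cases hr2 : r = 2
      · subst hr2
        exact exists_orderOf_two_mul h2 hfpf hs (Ne.symm hrs) hy
      · by_cases hs2 : s = 2
        · subst hs2
          rw [mul_comm] at hy ⊢
          exact exists_orderOf_two_mul h2 hfpf hr hr2 hy
        · -- both odd
          refine ⟨rightHom y, ?_⟩
          have hn_dvd : orderOf ((rightHom : Ext S V →* S) y) ∣ r * s := by
            rw [← hy]
            exact orderOf_map_dvd _ y
          have hker : y ^ orderOf ((rightHom : Ext S V →* S) y) ∈
              (rightHom : Ext S V →* S).ker := by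
            rw [MonoidHom.mem_ker, map_pow, pow_orderOf_eq_one]
          have hsq := ker_sq h2 hker
          have h2n : r * s ∣ orderOf ((rightHom : Ext S V →* S) y) * 2 := by
            rw [← hy]
            apply orderOf_dvd_of_pow_eq_one
            rw [pow_mul, pow_two, hsq]
          have hcop : Nat.Coprime (r * s) 2 :=
            Nat.Coprime.mul_left ((Nat.coprime_primes hr Nat.prime_two).2 hr2)
              ((Nat.coprime_primes hs Nat.prime_two).2 hs2)
          exact Nat.dvd_antisymm hn_dvd (Nat.Coprime.dvd_of_dvd_mul_right hcop h2n)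

end semidirect

universe u

/-- a carrier type in the lowest universe -/
def Carrier (n : ℕ) : Type := Fin n

instance (n : ℕ) : Fintype (Carrier n) := inferInstanceAs (Fintype (Fin n))

theorem card_carrier (n : ℕ) : Fintype.card (Carrier n) = n := Fintype.card_fin n

/-- a copy in the lowest universe -/
theorem exists_small {S : Type*} [Group S] {H' : Type u} [Group H'] [Finite H']
    (h : SamePG S H') :
    ∃ (H : Type) (_ : Group H) (_ : Fintype H), Fintype.card H = Nat.card H' ∧ SamePG S H := by
  let e : Carrier (Nat.card H') ≃ H' := (Finite.equivFin H').symm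
  let _ : Group (Carrier (Nat.card H')) := e.group
  exact ⟨Carrier (Nat.card H'), inferInstance, inferInstance, card_carrier _,
    h.congr e.mulEquiv.symm⟩

end Cfsg.Agent.Helper8.PGraph
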