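import Mathlib
import Cfsg.Agent.Helper8.SzSolG

set_option autoImplicit false

/-!
The solubilizer of a `2`-element of the Suzuki group (`2m+1` prime): decomposition along the cyclic
members of the partition normalized by the element.
-/

namespace Cfsg.Agent.Helper8.SzSol

open Cfsg.Agent.Helper7.Sz Cfsg.Agent.Helper7 MulAction Cfsg.Agent.Helper8.SzPart
  Cfsg.Agent.Helper8.SzSub Cfsg.Agent.Helper8.SzTI Cfsg.Agent.Helper8.LS Cfsg.Agent.Helper8.SzMax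

variable {F : Type*} [Field F] [Fintype F] {m : ℕ}

/-- the elements moving `a` normalizing, together with `x`, a cyclic member of order `k` -/
def Yk (k : ℕ) (x : Cfsg.Sz F m) (a : Cfsg.suzukiOvoid F m) : Set (Cfsg.Sz F m) :=
  {y | y • a ≠ a ∧ ∃ U : Subgroup (Cfsg.Sz F m), IsCyc m U ∧ Nat.card U = k ∧
    x ∈ Subgroup.normalizer (U : Set (Cfsg.Sz F m)) ∧
    y ∈ Subgroup.normalizer (U : Set (Cfsg.Sz F m))}

theorem Sol_two_elt (h : FH F m) (hp : (2 * m + 1).Prime) {x : Cfsg.Sz F m}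
    {a : Cfsg.suzukiOvoid F m} (ha : x • a = a)
    (huniq : ∀ b : Cfsg.suzukiOvoid F m, x • b = b → b = a) :
    Sol x = (stabilizer (Cfsg.Sz F m) a : Set (Cfsg.Sz F m)) ∪
      (Yk (2 ^ (2 * m + 1) - 1) x a ∪ (Yk (2 ^ (2 * m + 1) + 2 ^ (m + 1) + 1) x a ∪
        Yk (2 ^ (2 * m + 1) - 2 ^ (m + 1) + 1) x a)) := by
  ext y
  rw [mem_Sol_iff h hp, Set.mem_union, SetLike.mem_coe, mem_stabilizer_iff, Set.mem_union,
    Set.mem_union]
  constructor
  · rintro (⟨c, hc, hyc⟩ | ⟨U, hU, h1, h2⟩)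
    · left
      rw [huniq c hc] at hyc
      exact hyc
    · by_cases hya : y • a = a
      · exact Or.inl hya
      · right
        rcases hU.2 with e | e | e
        · exact Or.inl ⟨hya, U, hU, e, h1, h2⟩
        · exact Or.inr (Or.inl ⟨hya, U, hU, e, h1, h2⟩)
        · exact Or.inr (Or.inr ⟨hya, U, hU, e, h1, h2⟩)
  · rintro (hy | ⟨-, U, hU, -, h1, h2⟩ | ⟨-, U, hU, -, h1, h2⟩ | ⟨-, U, hU, -, h1, h2⟩)
    · exact Or.inl ⟨a, ha, hy⟩
    · exact Or.inr ⟨U, hU, h1, h2⟩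
    · exact Or.inr ⟨U, hU, h1, h2⟩
    · exact Or.inr ⟨U, hU, h1, h2⟩

theorem Yk_disjoint (h : FH F m) {x : Cfsg.Sz F m} {a : Cfsg.suzukiOvoid F m}
    (huniq : ∀ b : Cfsg.suzukiOvoid F m, x • b = b → b = a) {k k' : ℕ} (hk : k ≠ k') :
    Disjoint (Yk k x a) (Yk k' x a) := by
  rw [Set.disjoint_left]
  rintro y ⟨hya, U, hU, hc, h1, h2⟩ ⟨-, U', hU', hc', h1', h2'⟩
  have hne : U ≠ U' := by
    rintro rfl
    exact hk (hc.symm.trans hc')
  exact hya (fix_of_two_normalizers h huniq hU hU' hne h1 h1' h2 h2')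

omit [Fintype F] in
theorem Yk_disjoint_stabilizer (k : ℕ) (x : Cfsg.Sz F m) (a : Cfsg.suzukiOvoid F m) :
    Disjoint (stabilizer (Cfsg.Sz F m) a : Set (Cfsg.Sz F m)) (Yk k x a) := by
  rw [Set.disjoint_left]
  rintro y hy ⟨hya, -⟩
  exact hya (mem_stabilizer_iff.1 hy)

theorem ncard_Yk (h : FH F m) {x : Cfsg.Sz F m} {a : Cfsg.suzukiOvoid F m} (ha : x • a = a)
    (huniq : ∀ b : Cfsg.suzukiOvoid F m, x • b = b → b = a) {j : ℕ} (hx2 : x ^ 2 ^ j = 1)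
    {k w : ℕ} (hw : w = 2 ∨ w = 4)
    (hwk : ∀ U : Subgroup (Cfsg.Sz F m), IsCyc m U → Nat.card U = k →
      Nat.card (Subgroup.normalizer (U : Set (Cfsg.Sz F m))) = w * k) :
    (Yk k x a).ncard = Nat.card {U : Subgroup (Cfsg.Sz F m) // IsCyc m U ∧ Nat.card U = k ∧
      x ∈ Subgroup.normalizer (U : Set (Cfsg.Sz F m))} * (w * (k - 1)) := by
  classical
  rw [← Nat.card_coe_set_eq]
  have hch : ∀ y : ↥(Yk k x a), ∃ U : {U : Subgroup (Cfsg.Sz F m) // IsCyc m U ∧ Nat.card U = k ∧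
      x ∈ Subgroup.normalizer (U : Set (Cfsg.Sz F m))},
      y.1 ∈ Subgroup.normalizer (U.1 : Set (Cfsg.Sz F m)) := by
    rintro ⟨y, -, U, h1, h2, h3, h4⟩
    exact ⟨⟨U, h1, h2, h3⟩, h4⟩
  choose f hf using hch
  apply card_eq_mul_of_fibers f
  intro U
  have hfib : Nat.card {y : ↥(Yk k x a) // f y = U} =
      (((Subgroup.normalizer (U.1 : Set (Cfsg.Sz F m)) : Subgroup (Cfsg.Sz F m)) :
        Set (Cfsg.Sz F m)) \ (stabilizer (Cfsg.Sz F m) a : Set (Cfsg.Sz F m))).ncard := by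
    rw [← Nat.card_coe_set_eq]
    apply Nat.card_congr
    refine ⟨fun y => ⟨y.1.1, ?_, ?_⟩,
      fun y => ⟨⟨y.1, ?_, U.1, U.2.1, U.2.2.1, U.2.2.2, y.2.1⟩, ?_⟩, ?_, ?_⟩
    · have := hf y.1
      rw [y.2] at this
      exact this
    · intro hy
      exact y.1.2.1 (mem_stabilizer_iff.1 hy)
    · intro hy
      exact y.2.2 (mem_stabilizer_iff.2 hy)
    · by_contra hne
      have hya : y.1 • a ≠ a := fun hy => y.2.2 (mem_stabilizer_iff.2 hy)
      set y' : ↥(Yk k x a) := ⟨y.1, hya, U.1, U.2.1, U.2.2.1, U.2.2.2, y.2.1⟩ with hy'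
      have hne' : (f y').1 ≠ U.1 := fun e => hne (Subtype.ext e)
      exact hya (fix_of_two_normalizers h huniq (f y').2.1 U.2.1 hne' (f y').2.2.2 U.2.2.2
        (hf y') y.2.1)
    · intro y
      rfl
    · intro y
      rfl
  rw [hfib]
  have hcN : Nat.card (Subgroup.normalizer (U.1 : Set (Cfsg.Sz F m))) = w * Nat.card U.1 := by
    rw [hwk U.1 U.2.1 U.2.2.1, U.2.2.1]
  have hD := card_normalizer_inf_stabilizer h ha huniq hx2 U.2.1 U.2.2.2 hw hcN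
  set N : Set (Cfsg.Sz F m) := ((Subgroup.normalizer (U.1 : Set (Cfsg.Sz F m)) :
    Subgroup (Cfsg.Sz F m)) : Set (Cfsg.Sz F m)) with hN
  set S : Set (Cfsg.Sz F m) := (stabilizer (Cfsg.Sz F m) a : Set (Cfsg.Sz F m)) with hS
  have e1 : (N ∩ S).ncard = w := by
    rw [← hD, hN, hS, ← Subgroup.coe_inf]
    exact (Nat.card_coe_set_eq _).symm
  have e2 : N.ncard = w * k := by
    rw [← hwk U.1 U.2.1 U.2.2.1]
    exact (Nat.card_coe_set_eq _).symm
  have e3 := Set.ncard_sdiff_add_ncard_of_subset (Set.inter_subset_left (s := N) (t := S))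
    (Set.toFinite _)
  rw [Set.sdiff_self_inter, e1, e2] at e3
  rw [Nat.mul_sub_one]
  omega

theorem card_Uk (h : FH F m) (x : Cfsg.Sz F m) {U₀ : Subgroup (Cfsg.Sz F m)} (hU₀ : IsCyc m U₀) :
    Nat.card {U : Subgroup (Cfsg.Sz F m) // IsCyc m U ∧ Nat.card U = Nat.card U₀ ∧
        x ∈ Subgroup.normalizer (U : Set (Cfsg.Sz F m))} *
      Nat.card (Subgroup.normalizer (U₀ : Set (Cfsg.Sz F m))) =
    Nat.card {z : Cfsg.Sz F m // z ∈ Subgroup.normalizer (U₀ : Set (Cfsg.Sz F m)) ∧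
        ∃ g : Cfsg.Sz F m, g⁻¹ * x * g = z} *
      Nat.card (Subgroup.centralizer ({x} : Set (Cfsg.Sz F m))) := by
  have e1 : Nat.card {U : Subgroup (Cfsg.Sz F m) // IsCyc m U ∧ Nat.card U = Nat.card U₀ ∧
        x ∈ Subgroup.normalizer (U : Set (Cfsg.Sz F m))} =
      Nat.card {U : Subgroup (Cfsg.Sz F m) //
        (∃ g : Cfsg.Sz F m, U = U₀.map (MulAut.conj g).toMonoidHom) ∧
        x ∈ Subgroup.normalizer (U : Set (Cfsg.Sz F m))} := by
    apply Nat.card_congr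
    apply Equiv.subtypeEquivRight
    intro U
    constructor
    · rintro ⟨h1, h2, h3⟩
      exact ⟨isCyc_conj h hU₀ h1 h2.symm, h3⟩
    · rintro ⟨⟨g, rfl⟩, h3⟩
      exact ⟨hU₀.map g, card_map_conj U₀ g, h3⟩
  rw [e1, card_conj_normalized]
  exact card_conj_mem ((Subgroup.normalizer (U₀ : Set (Cfsg.Sz F m)) :
    Subgroup (Cfsg.Sz F m)) : Set (Cfsg.Sz F m)) x

/-- the count of one piece, in terms of the conjugates of `x` in a normalizer and the centralizer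
of `x` -/
theorem ncard_Yk_mul (h : FH F m) {x : Cfsg.Sz F m} {a : Cfsg.suzukiOvoid F m} (ha : x • a = a)
    (huniq : ∀ b : Cfsg.suzukiOvoid F m, x • b = b → b = a) {j : ℕ} (hx2 : x ^ 2 ^ j = 1)
    {U₀ : Subgroup (Cfsg.Sz F m)} (hU₀ : IsCyc m U₀) {n : ℕ}
    (hn : Nat.card {z : Cfsg.Sz F m // z ∈ Subgroup.normalizer (U₀ : Set (Cfsg.Sz F m)) ∧
        ∃ g : Cfsg.Sz F m, g⁻¹ * x * g = z} = n) :
    (Yk (Nat.card U₀) x a).ncard * Nat.card U₀ =
      n * Nat.card (Subgroup.centralizer ({x} : Set (Cfsg.Sz F m))) * (Nat.card U₀ - 1) := by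
  obtain ⟨w, hw, hcard⟩ := card_normalizer_cyc h hU₀
  have hwk : ∀ U : Subgroup (Cfsg.Sz F m), IsCyc m U → Nat.card U = Nat.card U₀ →
      Nat.card (Subgroup.normalizer (U : Set (Cfsg.Sz F m))) = w * Nat.card U₀ := by
    intro U hU hc
    obtain ⟨g, rfl⟩ := isCyc_conj h hU₀ hU hc.symm
    have e : Subgroup.normalizer
        ((U₀.map (MulAut.conj g).toMonoidHom : Subgroup (Cfsg.Sz F m)) : Set (Cfsg.Sz F m)) =
        (Subgroup.normalizer (U₀ : Set (Cfsg.Sz F m))).map (MulAut.conj g).toMonoidHom :=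
      (Subgroup.map_equiv_normalizer_eq U₀ (MulAut.conj g)).symm
    rw [e, card_map_conj, hcard]
  have h1 := ncard_Yk h ha huniq hx2 hw hwk
  have h2 := card_Uk h x hU₀
  rw [hn, hcard] at h2
  rw [h1]
  calc Nat.card {U : Subgroup (Cfsg.Sz F m) // IsCyc m U ∧ Nat.card U = Nat.card U₀ ∧
        x ∈ Subgroup.normalizer (U : Set (Cfsg.Sz F m))} * (w * (Nat.card U₀ - 1)) * Nat.card U₀
      = (Nat.card {U : Subgroup (Cfsg.Sz F m) // IsCyc m U ∧ Nat.card U = Nat.card U₀ ∧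
        x ∈ Subgroup.normalizer (U : Set (Cfsg.Sz F m))} * (w * Nat.card U₀)) *
          (Nat.card U₀ - 1) := by ring
    _ = n * Nat.card (Subgroup.centralizer ({x} : Set (Cfsg.Sz F m))) * (Nat.card U₀ - 1) := by
      rw [h2]

end Cfsg.Agent.Helper8.SzSol
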