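import Mathlib
import Cfsg.Agent.Helper8.SzSolH

set_option autoImplicit false

/-!
The size of the solubilizer of a `2`-element of the Suzuki group (`2m+1` prime).
-/

namespace Cfsg.Agent.Helper8.SzSol

open Cfsg.Agent.Helper7.Sz Cfsg.Agent.Helper7 MulAction Cfsg.Agent.Helper8.SzPart
  Cfsg.Agent.Helper8.SzSub Cfsg.Agent.Helper8.SzTI Cfsg.Agent.Helper8.LS Cfsg.Agent.Helper8.SzMax

variable {F : Type*} [Field F] [Fintype F] {m : ℕ}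

/-! ### Arithmetic and representatives -/

theorem pow_facts (hm : 1 ≤ m) :
    2 ^ (m + 1) ≤ 2 ^ (2 * m + 1) ∧ 8 ≤ 2 ^ (2 * m + 1) ∧ 4 ≤ 2 ^ (m + 1) := by
  refine ⟨Nat.pow_le_pow_right (by norm_num) (by omega), ?_, ?_⟩
  · calc 8 = 2 ^ 3 := by norm_num
      _ ≤ 2 ^ (2 * m + 1) := Nat.pow_le_pow_right (by norm_num) (by omega)
  · calc 4 = 2 ^ 2 := by norm_num
      _ ≤ 2 ^ (m + 1) := Nat.pow_le_pow_right (by norm_num) (by omega)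

theorem exists_isCyc_split (h : FH F m) :
    ∃ U₀ : Subgroup (Cfsg.Sz F m), IsCyc m U₀ ∧ Nat.card U₀ = 2 ^ (2 * m + 1) - 1 :=
  ⟨twoStab (ωinf m) (ω0 m), isCyc_twoStab h (ω0_ne (F := F) (m := m)).symm,
    (twoStab_cyclic h (ω0_ne (F := F) (m := m)).symm).2⟩

theorem exists_isCyc_plus (h : FH F m) :
    ∃ U₀ : Subgroup (Cfsg.Sz F m), IsCyc m U₀ ∧
      Nat.card U₀ = 2 ^ (2 * m + 1) + 2 ^ (m + 1) + 1 := by
  have h2r : 2 ^ (m + 1) = 2 * 2 ^ m := by rw [pow_succ]; ring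
  obtain ⟨x, hx, hc⟩ := (ctx h).exists_card (2 ^ (2 * m + 1) + 2 * 2 ^ m + 1) (Or.inl rfl)
  exact ⟨Cz x, isCyc_Cz h hx, by rw [hc, h2r]⟩

theorem exists_isCyc_minus (h : FH F m) :
    ∃ U₀ : Subgroup (Cfsg.Sz F m), IsCyc m U₀ ∧
      Nat.card U₀ = 2 ^ (2 * m + 1) - 2 ^ (m + 1) + 1 := by
  have h2r : 2 ^ (m + 1) = 2 * 2 ^ m := by rw [pow_succ]; ring
  obtain ⟨x, hx, hc⟩ := (ctx h).exists_card (2 ^ (2 * m + 1) - 2 * 2 ^ m + 1) (Or.inr rfl)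
  exact ⟨Cz x, isCyc_Cz h hx, by rw [hc, h2r]⟩

/-! ### The involution -/

theorem card_conj_tau (h : FH F m) {U₀ : Subgroup (Cfsg.Sz F m)} (hU₀ : IsCyc m U₀) :
    Nat.card {z : Cfsg.Sz F m // z ∈ Subgroup.normalizer (U₀ : Set (Cfsg.Sz F m)) ∧
        ∃ g : Cfsg.Sz F m, g⁻¹ * tau h * g = z} = Nat.card U₀ := by
  rw [← ncard_invSet h hU₀, ← Nat.card_coe_set_eq]
  apply Nat.card_congr
  apply Equiv.subtypeEquivRight
  intro z
  rw [invSet_iff h hU₀]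
  constructor
  · rintro ⟨hz, g, rfl⟩
    refine ⟨hz, ?_, ?_⟩
    · have := conj_ne_one (tau_ne_one h) g⁻¹
      rwa [inv_inv] at this
    · have : g⁻¹ * tau h * g * (g⁻¹ * tau h * g) = g⁻¹ * (tau h * tau h) * g := by group
      rw [this, tau_sq]
      group
  · rintro ⟨hz, hz1, hz2⟩
    obtain ⟨g, hg⟩ := exists_conj_tau h hz1 hz2
    refine ⟨hz, g, ?_⟩
    rw [← hg]
    group

theorem ncard_Yk_tau (h : FH F m) {U₀ : Subgroup (Cfsg.Sz F m)} (hU₀ : IsCyc m U₀) :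
    (Yk (Nat.card U₀) (tau h) (ωinf m)).ncard = (2 ^ (2 * m + 1)) ^ 2 * (Nat.card U₀ - 1) := by
  have h1 := ncard_Yk_mul h (tau_smul_inf h) (tau_fix h) (sq_pow (tau_sq h)) hU₀
    (card_conj_tau h hU₀)
  rw [card_centralizer_tau] at h1
  have hpos : 0 < Nat.card U₀ := Nat.card_pos
  apply Nat.eq_of_mul_eq_mul_right hpos
  rw [h1]
  ring

theorem ncard_Sol_tau (h : FH F m) (hp : (2 * m + 1).Prime) :
    (Sol (tau h)).ncard = (2 ^ (2 * m + 1)) ^ 2 * (4 * 2 ^ (2 * m + 1) - 3) := by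
  obtain ⟨hRQ, hQ8, hR4⟩ := pow_facts h.hm
  have huniq := tau_fix h
  rw [Sol_two_elt h hp (tau_smul_inf h) huniq]
  obtain ⟨U₁, hU₁, hc₁⟩ := exists_isCyc_split h
  obtain ⟨U₂, hU₂, hc₂⟩ := exists_isCyc_plus h
  obtain ⟨U₃, hU₃, hc₃⟩ := exists_isCyc_minus h
  have e₁ := ncard_Yk_tau h hU₁
  have e₂ := ncard_Yk_tau h hU₂
  have e₃ := ncard_Yk_tau h hU₃
  rw [hc₁] at e₁
  rw [hc₂] at e₂
  rw [hc₃] at e₃
  have hne12 : 2 ^ (2 * m + 1) - 1 ≠ 2 ^ (2 * m + 1) + 2 ^ (m + 1) + 1 := by omega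
  have hne13 : 2 ^ (2 * m + 1) - 1 ≠ 2 ^ (2 * m + 1) - 2 ^ (m + 1) + 1 := by omega
  have hne23 : 2 ^ (2 * m + 1) + 2 ^ (m + 1) + 1 ≠ 2 ^ (2 * m + 1) - 2 ^ (m + 1) + 1 := by omega
  have d23 := Yk_disjoint h huniq hne23
  have d1 : Disjoint (Yk (2 ^ (2 * m + 1) - 1) (tau h) (ωinf m))
      (Yk (2 ^ (2 * m + 1) + 2 ^ (m + 1) + 1) (tau h) (ωinf m) ∪
        Yk (2 ^ (2 * m + 1) - 2 ^ (m + 1) + 1) (tau h) (ωinf m)) :=
    Set.disjoint_union_right.2 ⟨Yk_disjoint h huniq hne12, Yk_disjoint h huniq hne13⟩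
  have d0 : Disjoint (stabilizer (Cfsg.Sz F m) (ωinf m : Cfsg.suzukiOvoid F m) :
      Set (Cfsg.Sz F m))
      (Yk (2 ^ (2 * m + 1) - 1) (tau h) (ωinf m) ∪
        (Yk (2 ^ (2 * m + 1) + 2 ^ (m + 1) + 1) (tau h) (ωinf m) ∪
        Yk (2 ^ (2 * m + 1) - 2 ^ (m + 1) + 1) (tau h) (ωinf m))) :=
    Set.disjoint_union_right.2 ⟨Yk_disjoint_stabilizer _ _ _,
      Set.disjoint_union_right.2 ⟨Yk_disjoint_stabilizer _ _ _, Yk_disjoint_stabilizer _ _ _⟩⟩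
  rw [Set.ncard_union_eq d0 (Set.toFinite _) (Set.toFinite _),
    Set.ncard_union_eq d1 (Set.toFinite _) (Set.toFinite _),
    Set.ncard_union_eq d23 (Set.toFinite _) (Set.toFinite _), e₁, e₂, e₃]
  have hS : (stabilizer (Cfsg.Sz F m) (ωinf m : Cfsg.suzukiOvoid F m) :
      Set (Cfsg.Sz F m)).ncard = (2 ^ (2 * m + 1)) ^ 2 * (2 ^ (2 * m + 1) - 1) := by
    rw [← (act h).card_stabilizer (ωinf m : Cfsg.suzukiOvoid F m)]
    exact (Nat.card_coe_set_eq _).symm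
  rw [hS, ← Nat.mul_add, ← Nat.mul_add, ← Nat.mul_add]
  congr 1
  omega

/-! ### The element of order four -/

theorem card_conj_rho_of_two (h : FH F m) {U₀ : Subgroup (Cfsg.Sz F m)} (hU₀ : IsCyc m U₀)
    (hcard : Nat.card (Subgroup.normalizer (U₀ : Set (Cfsg.Sz F m))) = 2 * Nat.card U₀) :
    Nat.card {z : Cfsg.Sz F m // z ∈ Subgroup.normalizer (U₀ : Set (Cfsg.Sz F m)) ∧
        ∃ g : Cfsg.Sz F m, g⁻¹ * rho h * g = z} = 0 := by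
  have hemp := fourSet_empty_of_two h hU₀ hcard
  rw [Nat.card_eq_zero]
  left
  constructor
  rintro ⟨z, hz, g, rfl⟩
  have : g⁻¹ * rho h * g ∈ fourSet U₀ := ⟨hz, by rw [orderOf_conj', orderOf_rho]⟩
  rw [hemp] at this
  exact this

theorem card_conj_rho_of_four (h : FH F m) {U₀ : Subgroup (Cfsg.Sz F m)} (hU₀ : IsCyc m U₀)
    (hcard : Nat.card (Subgroup.normalizer (U₀ : Set (Cfsg.Sz F m))) = 4 * Nat.card U₀) :
    Nat.card {z : Cfsg.Sz F m // z ∈ Subgroup.normalizer (U₀ : Set (Cfsg.Sz F m)) ∧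
        ∃ g : Cfsg.Sz F m, g⁻¹ * rho h * g = z} = Nat.card U₀ := by
  set A : Set (Cfsg.Sz F m) := {z | z ∈ Subgroup.normalizer (U₀ : Set (Cfsg.Sz F m)) ∧
    ∃ g : Cfsg.Sz F m, g⁻¹ * rho h * g = z} with hA
  have hcA : Nat.card {z : Cfsg.Sz F m // z ∈ Subgroup.normalizer (U₀ : Set (Cfsg.Sz F m)) ∧
      ∃ g : Cfsg.Sz F m, g⁻¹ * rho h * g = z} = A.ncard := Nat.card_coe_set_eq A
  rw [hcA]
  have hun : A ∪ Inv.inv '' A = fourSet U₀ := by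
    ext z
    constructor
    · rintro (⟨hz, g, rfl⟩ | ⟨_, ⟨hz, g, rfl⟩, rfl⟩)
      · exact ⟨hz, by rw [orderOf_conj', orderOf_rho]⟩
      · exact ⟨Subgroup.inv_mem _ hz, by rw [orderOf_inv, orderOf_conj', orderOf_rho]⟩
    · rintro ⟨hz, hord⟩
      obtain ⟨g, hg | hg⟩ := exists_conj_rho h hord
      · left
        refine ⟨hz, g, ?_⟩
        rw [← hg]
        group
      · right
        refine ⟨z⁻¹, ⟨Subgroup.inv_mem _ hz, g, ?_⟩, inv_inv z⟩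
        have : rho h = g * z⁻¹ * g⁻¹ := by
          rw [← inv_inv (rho h), ← hg]
          group
        rw [this]
        group
  have hdisj : Disjoint A (Inv.inv '' A) := by
    rw [Set.disjoint_left]
    rintro z ⟨-, g, hg⟩ ⟨y, ⟨-, g', rfl⟩, hy⟩
    apply rho_not_conj_inv h (g' * g⁻¹)
    have e1 : g⁻¹ * rho h * g = (g'⁻¹ * rho h * g')⁻¹ := hg.trans hy.symm
    have e2 : rho h = g * (g'⁻¹ * rho h * g')⁻¹ * g⁻¹ := by
      rw [← e1]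
      group
    calc g' * g⁻¹ * rho h * (g' * g⁻¹)⁻¹
        = g' * g⁻¹ * (g * (g'⁻¹ * rho h * g')⁻¹ * g⁻¹) * (g' * g⁻¹)⁻¹ := by rw [← e2]
      _ = (rho h)⁻¹ := by group
  have h1 := congrArg Set.ncard hun
  rw [Set.ncard_union_eq hdisj (Set.toFinite _) (Set.toFinite _),
    Set.ncard_image_of_injective _ inv_injective, ncard_fourSet_of_four h hU₀ hcard] at h1
  omega

theorem ncard_Yk_rho_of_two (h : FH F m) {U₀ : Subgroup (Cfsg.Sz F m)} (hU₀ : IsCyc m U₀)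
    (hcard : Nat.card (Subgroup.normalizer (U₀ : Set (Cfsg.Sz F m))) = 2 * Nat.card U₀) :
    (Yk (Nat.card U₀) (rho h) (ωinf m)).ncard = 0 := by
  have h1 := ncard_Yk_mul h (rho_smul_inf h) (rho_fix h) (rho_pow_four h) hU₀
    (card_conj_rho_of_two h hU₀ hcard)
  have hpos : 0 < Nat.card U₀ := Nat.card_pos
  rw [zero_mul, zero_mul] at h1
  rcases Nat.mul_eq_zero.1 h1 with e | e
  · exact e
  · omega

theorem ncard_Yk_rho_of_four (h : FH F m) {U₀ : Subgroup (Cfsg.Sz F m)} (hU₀ : IsCyc m U₀)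
    (hcard : Nat.card (Subgroup.normalizer (U₀ : Set (Cfsg.Sz F m))) = 4 * Nat.card U₀) :
    (Yk (Nat.card U₀) (rho h) (ωinf m)).ncard =
      2 * 2 ^ (2 * m + 1) * (Nat.card U₀ - 1) := by
  have h1 := ncard_Yk_mul h (rho_smul_inf h) (rho_fix h) (rho_pow_four h) hU₀
    (card_conj_rho_of_four h hU₀ hcard)
  rw [card_centralizer_rho] at h1
  have hpos : 0 < Nat.card U₀ := Nat.card_pos
  apply Nat.eq_of_mul_eq_mul_right hpos
  rw [h1]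
  ring

theorem ncard_Sol_rho (h : FH F m) (hp : (2 * m + 1).Prime) :
    (Sol (rho h)).ncard = (2 ^ (2 * m + 1)) ^ 2 * (2 ^ (2 * m + 1) + 3) := by
  obtain ⟨hRQ, hQ8, hR4⟩ := pow_facts h.hm
  have huniq := rho_fix h
  rw [Sol_two_elt h hp (rho_smul_inf h) huniq]
  obtain ⟨U₁, hU₁, hc₁⟩ := exists_isCyc_split h
  obtain ⟨U₂, hU₂, hc₂⟩ := exists_isCyc_plus h
  obtain ⟨U₃, hU₃, hc₃⟩ := exists_isCyc_minus h
  have e₁ := ncard_Yk_rho_of_two h hU₁ ((card_normalizer_of_card h hU₁).1 hc₁)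
  have e₂ := ncard_Yk_rho_of_four h hU₂ ((card_normalizer_of_card h hU₂).2 (by rw [hc₂]; omega))
  have e₃ := ncard_Yk_rho_of_four h hU₃ ((card_normalizer_of_card h hU₃).2 (by rw [hc₃]; omega))
  rw [hc₁] at e₁
  rw [hc₂] at e₂
  rw [hc₃] at e₃
  have hne12 : 2 ^ (2 * m + 1) - 1 ≠ 2 ^ (2 * m + 1) + 2 ^ (m + 1) + 1 := by omega
  have hne13 : 2 ^ (2 * m + 1) - 1 ≠ 2 ^ (2 * m + 1) - 2 ^ (m + 1) + 1 := by omega
  have hne23 : 2 ^ (2 * m + 1) + 2 ^ (m + 1) + 1 ≠ 2 ^ (2 * m + 1) - 2 ^ (m + 1) + 1 := by omega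
  have d23 := Yk_disjoint h huniq hne23
  have d1 : Disjoint (Yk (2 ^ (2 * m + 1) - 1) (rho h) (ωinf m))
      (Yk (2 ^ (2 * m + 1) + 2 ^ (m + 1) + 1) (rho h) (ωinf m) ∪
        Yk (2 ^ (2 * m + 1) - 2 ^ (m + 1) + 1) (rho h) (ωinf m)) :=
    Set.disjoint_union_right.2 ⟨Yk_disjoint h huniq hne12, Yk_disjoint h huniq hne13⟩
  have d0 : Disjoint (stabilizer (Cfsg.Sz F m) (ωinf m : Cfsg.suzukiOvoid F m) :
      Set (Cfsg.Sz F m))
      (Yk (2 ^ (2 * m + 1) - 1) (rho h) (ωinf m) ∪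
        (Yk (2 ^ (2 * m + 1) + 2 ^ (m + 1) + 1) (rho h) (ωinf m) ∪
        Yk (2 ^ (2 * m + 1) - 2 ^ (m + 1) + 1) (rho h) (ωinf m))) :=
    Set.disjoint_union_right.2 ⟨Yk_disjoint_stabilizer _ _ _,
      Set.disjoint_union_right.2 ⟨Yk_disjoint_stabilizer _ _ _, Yk_disjoint_stabilizer _ _ _⟩⟩
  rw [Set.ncard_union_eq d0 (Set.toFinite _) (Set.toFinite _),
    Set.ncard_union_eq d1 (Set.toFinite _) (Set.toFinite _),
    Set.ncard_union_eq d23 (Set.toFinite _) (Set.toFinite _), e₁, e₂, e₃]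
  have hS : (stabilizer (Cfsg.Sz F m) (ωinf m : Cfsg.suzukiOvoid F m) :
      Set (Cfsg.Sz F m)).ncard = (2 ^ (2 * m + 1)) ^ 2 * (2 ^ (2 * m + 1) - 1) := by
    rw [← (act h).card_stabilizer (ωinf m : Cfsg.suzukiOvoid F m)]
    exact (Nat.card_coe_set_eq _).symm
  rw [hS, zero_add, ← Nat.mul_add]
  have e4 : 2 ^ (2 * m + 1) + 2 ^ (m + 1) + 1 - 1 + (2 ^ (2 * m + 1) - 2 ^ (m + 1) + 1 - 1) =
      2 * 2 ^ (2 * m + 1) := by omega
  rw [e4]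
  have e5 : 2 * 2 ^ (2 * m + 1) * (2 * 2 ^ (2 * m + 1)) = (2 ^ (2 * m + 1)) ^ 2 * 4 := by ring
  rw [e5, ← Nat.mul_add]
  congr 1
  omega

end Cfsg.Agent.Helper8.SzSol
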