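import Mathlib
import Cfsg.Agent.Helper8.SzSolI
import Cfsg.Agent.Helper7.SzLie

set_option autoImplicit false

/-!
The sizes of the solubilizers of the elements of the Suzuki group `Sz(2^(2m+1))`, `2m+1` prime.
-/

namespace Cfsg.Agent.Helper8.SzSol

open Cfsg.Agent.Helper7.Sz Cfsg.Agent.Helper7 MulAction Cfsg.Agent.Helper8.SzPart
  Cfsg.Agent.Helper8.SzSub Cfsg.Agent.Helper8.SzTI Cfsg.Agent.Helper8.LS Cfsg.Agent.Helper8.SzMax

/-! ### Transport along isomorphisms -/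

theorem solvable_closure_map {G G' : Type*} [Group G] [Group G'] (e : G ≃* G') (x y : G) :
    Group.IsSolvable (Subgroup.closure ({e x, e y} : Set G')) ↔
      Group.IsSolvable (Subgroup.closure ({x, y} : Set G)) := by
  have hmap : Subgroup.closure ({e x, e y} : Set G') =
      (Subgroup.closure ({x, y} : Set G)).map e.toMonoidHom := by
    rw [MonoidHom.map_closure, Set.image_pair]
    rfl
  rw [hmap]
  let ε := (Subgroup.closure ({x, y} : Set G)).equivMapOfInjective e.toMonoidHom e.injective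
  constructor
  · intro hs
    exact Group.isSolvable_of_surjective (f := ε.symm.toMonoidHom) ε.symm.surjective
  · intro hs
    exact Group.isSolvable_of_surjective (f := ε.toMonoidHom) ε.surjective

theorem card_solubilizer_equiv {G G' : Type*} [Group G] [Group G'] (e : G ≃* G') (x' : G') :
    Nat.card {y' : G' // Group.IsSolvable (Subgroup.closure ({x', y'} : Set G'))} =
      Nat.card {y : G // Group.IsSolvable (Subgroup.closure ({e.symm x', y} : Set G))} := by
  apply Nat.card_congr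
  apply e.symm.toEquiv.subtypeEquiv
  intro y'
  exact (solvable_closure_map e.symm x' y').symm

variable {F : Type*} [Field F] [Fintype F] {m : ℕ}

omit [Fintype F] in
theorem ncard_Sol_conj (x g : Cfsg.Sz F m) : (Sol (g * x * g⁻¹)).ncard = (Sol x).ncard := by
  rw [← Nat.card_coe_set_eq, ← Nat.card_coe_set_eq]
  have h1 := card_solubilizer_equiv (MulAut.conj g) (g * x * g⁻¹)
  have h2 : (MulAut.conj g).symm (g * x * g⁻¹) = x := by
    rw [MulAut.conj_symm_apply]
    group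
  rw [h2] at h1
  exact h1

omit [Fintype F] in
theorem Sol_inv (x : Cfsg.Sz F m) : Sol x⁻¹ = Sol x := by
  have hcl : ∀ y : Cfsg.Sz F m, Subgroup.closure ({x⁻¹, y} : Set (Cfsg.Sz F m)) =
      Subgroup.closure ({x, y} : Set (Cfsg.Sz F m)) := by
    intro y
    apply le_antisymm
    · rw [closure_pair_le]
      exact ⟨Subgroup.inv_mem _ (Subgroup.subset_closure (Set.mem_insert _ _)),
        Subgroup.subset_closure (Set.mem_insert_of_mem _ rfl)⟩
    · rw [closure_pair_le]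
      refine ⟨?_, Subgroup.subset_closure (Set.mem_insert_of_mem _ rfl)⟩
      have h0 : x⁻¹ ∈ Subgroup.closure ({x⁻¹, y} : Set (Cfsg.Sz F m)) :=
        Subgroup.subset_closure (Set.mem_insert _ _)
      have := Subgroup.inv_mem _ h0
      rwa [inv_inv] at this
  ext y
  unfold Sol
  rw [Set.mem_ofPred_eq, Set.mem_ofPred_eq, hcl y]

theorem ncard_Sol_involution (h : FH F m) (hp : (2 * m + 1).Prime) {x : Cfsg.Sz F m}
    (hx : orderOf x = 2) :
    (Sol x).ncard = (2 ^ (2 * m + 1)) ^ 2 * (4 * 2 ^ (2 * m + 1) - 3) := by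
  have hx1 : x ≠ 1 := by
    rintro rfl
    rw [orderOf_one] at hx
    omega
  have hx2 : x * x = 1 := by
    have := pow_orderOf_eq_one x
    rw [hx, pow_two] at this
    exact this
  obtain ⟨g, hg⟩ := exists_conj_tau h hx1 hx2
  rw [← ncard_Sol_conj x g, hg, ncard_Sol_tau h hp]

theorem ncard_Sol_four (h : FH F m) (hp : (2 * m + 1).Prime) {x : Cfsg.Sz F m}
    (hx : orderOf x = 4) :
    (Sol x).ncard = (2 ^ (2 * m + 1)) ^ 2 * (2 ^ (2 * m + 1) + 3) := by
  obtain ⟨g, hg | hg⟩ := exists_conj_rho h hx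
  · rw [← ncard_Sol_conj x g, hg, ncard_Sol_rho h hp]
  · rw [← ncard_Sol_conj x g, hg, Sol_inv, ncard_Sol_rho h hp]

/-- the sizes of the solubilizers -/
theorem solubilizer_sizes (h : FH F m) (hp : (2 * m + 1).Prime) (x : Cfsg.Sz F m) :
    (orderOf x = 2 → (Sol x).ncard = (2 ^ (2 * m + 1)) ^ 2 * (4 * 2 ^ (2 * m + 1) - 3)) ∧
    (orderOf x = 4 → (Sol x).ncard = (2 ^ (2 * m + 1)) ^ 2 * (2 ^ (2 * m + 1) + 3)) ∧
    (x ≠ 1 → orderOf x ∣ 2 ^ (2 * m + 1) - 1 →
      (Sol x).ncard = 2 * (2 ^ (2 * m + 1)) ^ 2 * (2 ^ (2 * m + 1) - 1)) ∧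
    (x ≠ 1 → orderOf x ∣ 2 ^ (2 * m + 1) + 2 ^ (m + 1) + 1 →
      (Sol x).ncard = 4 * (2 ^ (2 * m + 1) + 2 ^ (m + 1) + 1)) ∧
    (x ≠ 1 → orderOf x ∣ 2 ^ (2 * m + 1) - 2 ^ (m + 1) + 1 →
      (Sol x).ncard = 4 * (2 ^ (2 * m + 1) - 2 ^ (m + 1) + 1)) :=
  ⟨fun hx => ncard_Sol_involution h hp hx, fun hx => ncard_Sol_four h hp hx,
    fun hx1 hd => ncard_Sol_split h hp hx1 hd, fun hx1 hd => ncard_Sol_plus h hp hx1 hd,
    fun hx1 hd => ncard_Sol_minus h hp hx1 hd⟩

/-- the solubilizer count in the Lie-type model -/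
theorem card_solubilizer_lie (h : FH F m) (x : ↥(Cfsg.Lie.Sz F (2 ^ (m + 1)))) :
    Nat.card {y : ↥(Cfsg.Lie.Sz F (2 ^ (m + 1))) //
      Group.IsSolvable ↥(Subgroup.closure ({x, y} : Set (↥(Cfsg.Lie.Sz F (2 ^ (m + 1))))))} =
      (Sol ((Cfsg.Agent.Helper7.SzLie.lieEquiv h).symm x)).ncard := by
  rw [card_solubilizer_equiv (Cfsg.Agent.Helper7.SzLie.lieEquiv h) x]
  exact Nat.card_coe_set_eq (Sol ((Cfsg.Agent.Helper7.SzLie.lieEquiv h).symm x))

end Cfsg.Agent.Helper8.SzSol
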