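import Mathlib
import Cfsg.Agent.Helper8.PGraphA
import Cfsg.Agent.Helper8.SzSolJ

set_option autoImplicit false

/-!
Finite groups of arbitrarily large order with the prime graph of a Suzuki group: the split
extensions of the group by powers of its natural module.
-/

namespace Cfsg.Agent.Helper8.PGraph

open Cfsg.Agent.Helper7.Sz Cfsg.Agent.Helper7 MulAction Cfsg.Agent.Helper8.SzPart
  Cfsg.Agent.Helper8.SzSub Cfsg.Agent.Helper8.SzTI Cfsg.Agent.Helper8.LS Cfsg.Agent.Helper8.SzMax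
  Cfsg.Agent.Helper8.SzSol Matrix

variable {F : Type*} [Field F] [Fintype F] {m : ℕ}

/-! ### Elements of odd prime order have no fixed vectors -/

theorem Hmat_fixed (h : FH F m) {t : Fˣ} (ht : t ≠ 1) {w : Fin 4 → F}
    (hw : Hmat m (t : F) *ᵥ w = w) : w = 0 := by
  have ht1 : (t : F) ≠ 1 := fun e => ht (Units.ext e)
  have ht0 : (t : F) ≠ 0 := t.ne_zero
  have hk1 : (t : F) * sg m (t : F) ≠ 1 := by
    intro e
    apply ht1
    apply h.eq_one_of_sg_mul_self
    rw [mul_comm]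
    exact e
  have h0 := congrFun hw 0
  have h1 := congrFun hw 1
  have h2 := congrFun hw 2
  have h3 := congrFun hw 3
  simp [Hmat, Matrix.mulVec, dotProduct, Fin.sum_univ_four] at h0 h1 h2 h3
  have key : ∀ (c x : F), c ≠ 1 → c * x = x → x = 0 := by
    intro c x hc hx
    have : (c - 1) * x = 0 := by rw [sub_mul, hx, one_mul, sub_self]
    rcases mul_eq_zero.1 this with e | e
    · exact absurd (sub_eq_zero.1 e) hc
    · exact e
  funext i
  fin_cases i
  · exact key _ _ hk1 (by simpa [mul_assoc] using h0)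
  · exact key _ _ ht1 h1
  · refine key _ _ (fun e => ht1 (inv_eq_one.1 e)) h2
  · refine key ((sg m (t : F))⁻¹ * (t : F)⁻¹) _ ?_ ?_
    · intro e
      apply hk1
      have : ((t : F) * sg m (t : F))⁻¹ = 1 := by rw [_root_.mul_inv_rev]; exact e
      exact inv_eq_one.1 this
    · simpa [mul_assoc] using h3

/-- an element of odd prime order of the Suzuki group fixes no nonzero vector -/
theorem no_fixed_vector (h : FH F m) {g : Cfsg.Sz F m} (hp : (orderOf g).Prime)
    (h2 : orderOf g ≠ 2) {w : Fin 4 → F} (hw : mat g *ᵥ w = w) : w = 0 := by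
  have hA := act h
  have hg1 : g ≠ 1 := by
    rintro rfl
    rw [orderOf_one] at hp
    exact Nat.not_prime_one hp
  by_cases hfix : ∃ a : Cfsg.suzukiOvoid F m, g • a = a
  · obtain ⟨a, ha⟩ := hfix
    have hd : orderOf g ∣ (2 ^ (2 * m + 1)) ^ 2 * (2 ^ (2 * m + 1) - 1) := by
      rw [← hA.card_stabilizer a]
      have := orderOf_dvd_natCard (⟨g, mem_stabilizer_iff.2 ha⟩ : stabilizer (Cfsg.Sz F m) a)
      rwa [← Subgroup.orderOf_coe] at this
    have hsq : orderOf g ∣ 2 ^ (2 * m + 1) - 1 := by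
      rcases (Nat.Prime.dvd_mul hp).1 hd with h4 | h4
      · exfalso
        have h5 := hp.dvd_of_dvd_pow (hp.dvd_of_dvd_pow h4)
        exact h2 ((Nat.prime_dvd_prime_iff_eq hp Nat.prime_two).1 h5)
      · exact h4
    obtain ⟨b, hba, hb⟩ := hA.exists_two_fixed hp (dvd_refl _) hsq ha
    obtain ⟨k, hka, hkb⟩ := (MulAction.is_two_pretransitive_iff.1 hA.two) (Ne.symm hba)
      (ω0_ne (F := F) (m := m)).symm
    rw [ω0_eq] at hkb
    have hf1 : (k * g * k⁻¹) • (ωinf m : Cfsg.suzukiOvoid F m) = ωinf m := by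
      rw [← hka]
      exact conj_smul ha
    have hf2 : (k * g * k⁻¹) • (pt m (0 : F) 0) = pt m 0 0 := by
      rw [← hkb]
      exact conj_smul hb
    obtain ⟨t, ht⟩ := eq_HelS_of_fix h hf1 hf2
    have ht1 : t ≠ 1 := by
      rintro rfl
      rw [HelS_one] at ht
      exact conj_ne_one hg1 k ht
    have hmat : mat (k * g * k⁻¹) = Hmat m (t : F) := by
      rw [ht]
      rfl
    have hw' : Hmat m (t : F) *ᵥ (mat k *ᵥ w) = mat k *ᵥ w := by
      rw [← hmat, map_mul, map_mul, Matrix.mulVec_mulVec, mul_assoc, mul_assoc, ← map_mul,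
        inv_mul_cancel, map_one, mul_one, ← Matrix.mulVec_mulVec, hw]
    have h0 := Hmat_fixed h ht1 hw'
    have : w = mat k⁻¹ *ᵥ (mat k *ᵥ w) := by
      rw [Matrix.mulVec_mulVec, ← map_mul, inv_mul_cancel, map_one, Matrix.one_mulVec]
    rw [this, h0, Matrix.mulVec_zero]
  · push Not at hfix
    have hx : g ^ ((2 ^ (2 * m + 1)) ^ 2 + 1) = 1 := hA.pow_eq_one_of_fpf hfix
    have hyp : IrredPrime.Hyp (mat g) (orderOf g) := by
      refine ⟨hp, h2, ?_, ⟨1, ?_⟩, ?_⟩
      · rw [h.card]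
        exact orderOf_dvd_of_pow_eq_one hx
      · rw [pow_one, ← map_pow, pow_orderOf_eq_one, map_one]
      · intro e
        exact hg1 (mat_injective (by rw [e, map_one]))
    exact hyp.eq_zero_of_fixed hw

/-! ### The action on the powers of the natural module -/

/-- the action of the Suzuki group (in the Lie-type model) on a power of its natural module -/
instance natAction (θ k : ℕ) :
    DistribMulAction ↥(Cfsg.Lie.Sz F θ) (Fin k → Fin 4 → F) where
  smul g v := fun i => ((g : GL (Fin 4) F) : Matrix (Fin 4) (Fin 4) F) *ᵥ v i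
  one_smul v := by
    funext i
    show ((1 : GL (Fin 4) F) : Matrix (Fin 4) (Fin 4) F) *ᵥ v i = v i
    rw [Units.val_one, Matrix.one_mulVec]
  mul_smul g g' v := by
    funext i
    show ((g * g' : GL (Fin 4) F) : Matrix (Fin 4) (Fin 4) F) *ᵥ v i =
      ((g : GL (Fin 4) F) : Matrix (Fin 4) (Fin 4) F) *ᵥ
        (((g' : GL (Fin 4) F) : Matrix (Fin 4) (Fin 4) F) *ᵥ v i)
    rw [Units.val_mul, Matrix.mulVec_mulVec]
  smul_zero g := by
    funext i
    show ((g : GL (Fin 4) F) : Matrix (Fin 4) (Fin 4) F) *ᵥ (0 : Fin 4 → F) = 0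
    rw [Matrix.mulVec_zero]
  smul_add g v w := by
    funext i
    show ((g : GL (Fin 4) F) : Matrix (Fin 4) (Fin 4) F) *ᵥ (v i + w i) =
      ((g : GL (Fin 4) F) : Matrix (Fin 4) (Fin 4) F) *ᵥ v i +
        ((g : GL (Fin 4) F) : Matrix (Fin 4) (Fin 4) F) *ᵥ w i
    rw [Matrix.mulVec_add]

omit [Fintype F] in
theorem natAction_apply (θ k : ℕ) (g : ↥(Cfsg.Lie.Sz F θ)) (v : Fin k → Fin 4 → F) (i : Fin k) :
    (g • v) i = ((g : GL (Fin 4) F) : Matrix (Fin 4) (Fin 4) F) *ᵥ v i := rfl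

theorem lie_no_fixed (h : FH F m) (k : ℕ) (g : ↥(Cfsg.Lie.Sz F (2 ^ (m + 1))))
    (hp : (orderOf g).Prime) (h2 : orderOf g ≠ 2) (v : Fin k → Fin 4 → F) (hv : g • v = v) :
    v = 0 := by
  set e := Cfsg.Agent.Helper7.SzLie.lieEquiv h with he
  have hord : orderOf (e.symm g) = orderOf g := MulEquiv.orderOf_eq _ g
  have hmat : mat (e.symm g) = ((g : GL (Fin 4) F) : Matrix (Fin 4) (Fin 4) F) := by
    have h1 := Cfsg.Agent.Helper7.SzLie.lieEquiv_coe h (e.symm g)
    rw [← he, MulEquiv.apply_symm_apply] at h1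
    rw [h1]
    rfl
  funext i
  apply no_fixed_vector h (g := e.symm g) (by rw [hord]; exact hp) (by rw [hord]; exact h2)
  rw [hmat, ← natAction_apply, hv]

theorem card_lie (h : FH F m) :
    Nat.card ↥(Cfsg.Lie.Sz F (2 ^ (m + 1))) =
      (2 ^ (2 * m + 1)) ^ 2 * (2 ^ (2 * m + 1) - 1) * ((2 ^ (2 * m + 1)) ^ 2 + 1) := by
  rw [← Nat.card_congr (Cfsg.Agent.Helper7.SzLie.lieEquiv h).toEquiv]
  exact (act h).card

/-- groups of arbitrarily large order with the prime graph of the Suzuki group -/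
theorem exists_large (h : FH F m) (N : ℕ) :
    ∃ (H : Type) (_ : Group H) (_ : Fintype H), N < Fintype.card H ∧
      SamePG ↥(Cfsg.Lie.Sz F (2 ^ (m + 1))) H := by
  have hadd : ∀ v : Fin N → Fin 4 → F, v + v = 0 := by
    intro v
    funext i j
    exact h.add_self (v i j)
  have hS2 : 2 ∣ Nat.card ↥(Cfsg.Lie.Sz F (2 ^ (m + 1))) := by
    rw [card_lie h]
    apply Dvd.dvd.mul_right
    apply Dvd.dvd.mul_right
    exact dvd_pow (dvd_pow_self 2 (by omega)) (by norm_num)
  have hfin : Finite ↥(Cfsg.Lie.Sz F (2 ^ (m + 1))) :=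
    Finite.of_equiv _ (Cfsg.Agent.Helper7.SzLie.lieEquiv h).toEquiv
  have hpg := samePG_ext (S := ↥(Cfsg.Lie.Sz F (2 ^ (m + 1)))) (V := Fin N → Fin 4 → F) hadd hS2
    (lie_no_fixed h N)
  have hfinE : Finite (Ext ↥(Cfsg.Lie.Sz F (2 ^ (m + 1))) (Fin N → Fin 4 → F)) :=
    Finite.of_equiv _ SemidirectProduct.equivProd.symm
  obtain ⟨H, hG, hFt, hcard, hH⟩ := exists_small hpg
  refine ⟨H, hG, hFt, ?_, hH⟩
  rw [hcard, card_ext]
  have hSpos : 0 < Nat.card ↥(Cfsg.Lie.Sz F (2 ^ (m + 1))) := Nat.card_pos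
  have hV : N < Nat.card (Fin N → Fin 4 → F) := by
    rw [Nat.card_eq_fintype_card, Fintype.card_fun, Fintype.card_fin, Fintype.card_fun,
      Fintype.card_fin, h.card]
    calc N < 2 ^ N := Nat.lt_two_pow_self
      _ ≤ ((2 ^ (2 * m + 1)) ^ 4) ^ N := by
        apply Nat.pow_le_pow_left
        calc 2 = 2 ^ 1 := rfl
          _ ≤ 2 ^ ((2 * m + 1) * 4) := Nat.pow_le_pow_right (by norm_num) (by omega)
          _ = (2 ^ (2 * m + 1)) ^ 4 := by rw [pow_mul]
  calc N < Nat.card (Fin N → Fin 4 → F) := hV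
    _ ≤ Nat.card (Fin N → Fin 4 → F) * Nat.card ↥(Cfsg.Lie.Sz F (2 ^ (m + 1))) :=
      Nat.le_mul_of_pos_right _ hSpos

end Cfsg.Agent.Helper8.PGraph
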