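import Cfsg.Agent.Helper8.PGraphPoly
set_option autoImplicit false

namespace Cfsg.Agent.Helper8.PGraph

open Polynomial Matrix
open Cfsg.Agent.Helper8.SemiS

variable {F : Type*} [Field F] [Fintype F]

omit [Fintype F] in
theorem X_sub_one_props : (X - 1 : F[X]).Monic ∧ Irreducible (X - 1 : F[X]) ∧
    (X - 1 : F[X]).natDegree = 1 := by
  have hX1 : (X - 1 : F[X]) = X - C 1 := by rw [map_one]
  rw [hX1]
  exact ⟨monic_X_sub_C 1, irreducible_X_sub_C 1, natDegree_X_sub_C 1⟩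

omit [Fintype F] in
/-- (H) -/
theorem eq_X_sub_one_of_dvd (P : F[X]) (hP : P.Monic) (hirr : Irreducible P) (a b : ℕ)
    (hab : Nat.Coprime a b) (ha : P ∣ X ^ a - 1) (hb : P ∣ X ^ b - 1) : P = X - 1 := by
  have h1 := (root_pow_eq_one_iff P a).mpr ha
  have h2 := (root_pow_eq_one_iff P b).mpr hb
  have h3 : AdjoinRoot.root P ^ (Nat.gcd a b) = 1 := pow_gcd_eq_one.mpr ⟨h1, h2⟩
  rw [hab] at h3
  have h4 : P ∣ X ^ 1 - 1 := (root_pow_eq_one_iff P 1).mp h3
  rw [pow_one] at h4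
  exact Polynomial.eq_of_monic_of_associated hP X_sub_one_props.1
    (hirr.associated_of_dvd X_sub_one_props.2.1 h4)

theorem orderOf_dvd_sub_one (s : ℕ) (hs : s.Prime) (p : ℕ) [Fact p.Prime] [CharP F p]
    (hsp : s ≠ p) : orderOf ((Fintype.card F : ℕ) : ZMod s) ∣ s - 1 := by
  haveI : Fact s.Prime := ⟨hs⟩
  have hp : p.Prime := Fact.out
  apply ZMod.orderOf_dvd_card_sub_one
  intro h0
  rw [ZMod.natCast_eq_zero_iff] at h0
  obtain ⟨f, hf⟩ := FiniteField.card F p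
  rw [hf.2] at h0
  have := (Nat.prime_dvd_prime_iff_eq hs hp).mp (hs.dvd_of_dvd_pow h0)
  exact hsp this

/-- (E1) an irreducible factor of `X ^ s - 1` of degree the order of `q` modulo `s` -/
theorem exists_factor_prime (p : ℕ) [Fact p.Prime] [CharP F p] (s : ℕ) (hs : s.Prime)
    (hsp : s ≠ p) :
    ∃ P : F[X], P.Monic ∧ Irreducible P ∧ P ∣ X ^ s - 1 ∧ P ≠ X - 1 ∧
      P.natDegree = orderOf ((Fintype.card F : ℕ) : ZMod s) := by
  obtain ⟨t, ht⟩ := orderOf_dvd_sub_one (F := F) s hs p hsp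
  have ht' : t * orderOf ((Fintype.card F : ℕ) : ZMod s) = s - 1 := by rw [ht, mul_comm]
  obtain ⟨Q, hinj, hQ, hQ0, hQdeg, hQdvd, _⟩ :=
    exists_factors_X_pow_sub_one (F := F) p s hs hsp _ t rfl ht'
  have ht0 : 0 < t := by
    rcases Nat.eq_zero_or_pos t with h | h
    · rw [h, zero_mul] at ht'
      have := hs.two_le
      omega
    · exact h
  refine ⟨Q (some ⟨0, ht0⟩), (hQ _).1, (hQ _).2, hQdvd _, ?_, hQdeg _⟩
  rw [← hQ0]
  intro h
  have := hinj h
  exact Option.some_ne_none _ this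

end Cfsg.Agent.Helper8.PGraph

namespace Cfsg.Agent.Helper8.PGraph

open Polynomial Matrix
open Cfsg.Agent.Helper8.SemiS

variable {F : Type*} [Field F] [Fintype F]

/-- (E2) when `ord_r(q)` divides `ord_s(q) = l`, there is an irreducible factor of
`X ^ (r s) - 1` of degree at most `l` whose roots have order `r s`. -/
theorem exists_factor_mul (p : ℕ) [Fact p.Prime] [CharP F p] (r s : ℕ) (hr : r.Prime)
    (hs : s.Prime) (hsp : s ≠ p) (hrs : r ≠ s)
    (hkl : orderOf ((Fintype.card F : ℕ) : ZMod r) ∣ orderOf ((Fintype.card F : ℕ) : ZMod s)) :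
    ∃ P : F[X], P.Monic ∧ Irreducible P ∧ P ∣ X ^ (r * s) - 1 ∧ ¬ P ∣ X ^ r - 1 ∧
      ¬ P ∣ X ^ s - 1 ∧ P.natDegree ≤ orderOf ((Fintype.card F : ℕ) : ZMod s) := by
  obtain ⟨Ps, hPs1, hPs2, hPs3, hPs4, hPs5⟩ := exists_factor_prime (F := F) p s hs hsp
  haveI : Fact (Irreducible Ps) := ⟨hPs2⟩
  haveI : Module.Finite F (AdjoinRoot Ps) := hPs1.finite_adjoinRoot
  haveI : Finite (AdjoinRoot Ps) := Module.finite_of_finite F
  haveI : Fintype (AdjoinRoot Ps) := Fintype.ofFinite _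
  have hcard : Fintype.card (AdjoinRoot Ps) = Fintype.card F ^ Ps.natDegree := by
    rw [← Nat.card_eq_fintype_card, card_adjoinRoot Ps hPs1]
  -- r divides q^l - 1
  have h1 : ((Fintype.card F : ℕ) : ZMod r) ^ Ps.natDegree = 1 := by
    rw [hPs5]
    exact orderOf_dvd_iff_pow_eq_one.mp hkl
  have h9 : 1 ≤ Fintype.card F ^ Ps.natDegree := Nat.one_le_pow _ _ Fintype.card_pos
  have h2 : r ∣ Fintype.card (AdjoinRoot Ps) - 1 := by
    rw [hcard, ← ZMod.natCast_eq_zero_iff, Nat.cast_sub h9, Nat.cast_pow, Nat.cast_one, h1,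
      sub_self]
  obtain ⟨β, hβ⟩ := PGLr.exists_primitiveRoot (F := AdjoinRoot Ps) r h2
  set α := AdjoinRoot.root Ps with hα
  have hα1 : α ^ s = 1 := (root_pow_eq_one_iff Ps s).mpr hPs3
  have hα2 : α ≠ 1 := by
    intro h
    have h3 : α ^ 1 = 1 := by rw [pow_one, h]
    have h4 := (root_pow_eq_one_iff Ps 1).mp h3
    rw [pow_one] at h4
    exact hPs4 (Polynomial.eq_of_monic_of_associated hPs1 X_sub_one_props.1
      (hPs2.associated_of_dvd X_sub_one_props.2.1 h4))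
  haveI : Fact s.Prime := ⟨hs⟩
  have hoα : orderOf α = s := orderOf_eq_prime hα1 hα2
  have hoβ : orderOf β = r := hβ.eq_orderOf.symm
  have hcop : Nat.Coprime (orderOf α) (orderOf β) := by
    rw [hoα, hoβ]
    exact (Nat.coprime_primes hs hr).mpr (Ne.symm hrs)
  have hoγ : orderOf (α * β) = s * r := by
    rw [(Commute.all α β).orderOf_mul_eq_mul_orderOf_of_coprime hcop, hoα, hoβ]
  set γ := α * β with hγ
  have hint : IsIntegral F γ := IsIntegral.of_finite F γ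
  have hγpow : ∀ m : ℕ, aeval γ (X ^ m - 1 : F[X]) = γ ^ m - 1 := by
    intro m
    rw [map_sub, map_pow, aeval_X, map_one]
  have hnd : ∀ m : ℕ, minpoly F γ ∣ X ^ m - 1 → s * r ∣ m := by
    intro m hm
    obtain ⟨c, hc⟩ := hm
    have h5 : aeval γ (X ^ m - 1 : F[X]) = 0 := by
      rw [hc, map_mul, minpoly.aeval, zero_mul]
    rw [hγpow, sub_eq_zero] at h5
    rw [← hoγ]
    exact orderOf_dvd_of_pow_eq_one h5
  refine ⟨minpoly F γ, minpoly.monic hint, minpoly.irreducible hint, ?_, ?_, ?_, ?_⟩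
  · apply minpoly.dvd
    rw [hγpow, sub_eq_zero, mul_comm r s, ← hoγ, pow_orderOf_eq_one]
  · intro h
    have h6 := hnd r h
    have h7 : s * r ≤ r := Nat.le_of_dvd hr.pos h6
    have := hs.two_le
    have := hr.pos
    nlinarith
  · intro h
    have h6 := hnd s h
    have h7 : s * r ≤ s := Nat.le_of_dvd hs.pos h6
    have := hr.two_le
    have := hs.pos
    nlinarith
  · rw [← hPs5, ← AdjoinRoot.powerBasis_dim hPs2.ne_zero,
      ← (AdjoinRoot.powerBasis hPs2.ne_zero).finrank]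
    exact minpoly.natDegree_le γ

end Cfsg.Agent.Helper8.PGraph
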