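import Cfsg.Agent.Helper8.PGraphSuff
set_option autoImplicit false

namespace Cfsg.Agent.Helper8.PGraph

open Polynomial Matrix Module
open Cfsg.Agent.Helper8.SemiS

variable {F : Type*} [Field F] [Fintype F]

/-- central elements of `SL_n(q)` have order dividing `q - 1` -/
theorem center_pow_card_sub_one (n : ℕ) (hn : 1 ≤ n) (z : Matrix.SpecialLinearGroup (Fin n) F)
    (hz : z ∈ Subgroup.center (Matrix.SpecialLinearGroup (Fin n) F)) :
    z ^ (Fintype.card F - 1) = 1 := by
  rw [Matrix.SpecialLinearGroup.mem_center_iff] at hz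
  obtain ⟨μ, hμ, hμz⟩ := hz
  have hμ0 : μ ≠ 0 := by
    rintro rfl
    rw [Fintype.card_fin, zero_pow (by omega)] at hμ
    exact zero_ne_one hμ
  apply Subtype.ext
  rw [Matrix.SpecialLinearGroup.coe_pow, ← hμz, ← map_pow,
    FiniteField.pow_card_sub_one_eq_one μ hμ0, map_one]
  rfl

theorem not_dvd_card_sub_one (r : ℕ) (hr : r.Prime)
    (hk : 2 ≤ orderOf ((Fintype.card F : ℕ) : ZMod r)) : ¬ r ∣ Fintype.card F - 1 := by
  intro h
  have h1 : ((Fintype.card F - 1 : ℕ) : ZMod r) = 0 := (ZMod.natCast_eq_zero_iff _ _).mpr h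
  rw [Nat.cast_sub Fintype.card_pos, Nat.cast_one, sub_eq_zero] at h1
  rw [h1, orderOf_one] at hk
  omega

theorem coprime_card_sub_one (r s : ℕ) (hr : r.Prime) (hs : s.Prime)
    (hk : 2 ≤ orderOf ((Fintype.card F : ℕ) : ZMod r))
    (hl : 2 ≤ orderOf ((Fintype.card F : ℕ) : ZMod s)) :
    Nat.Coprime (r * s) (Fintype.card F - 1) := by
  apply Nat.Coprime.mul_left
  · exact (Nat.Prime.coprime_iff_not_dvd hr).mpr (not_dvd_card_sub_one r hr hk)
  · exact (Nat.Prime.coprime_iff_not_dvd hs).mpr (not_dvd_card_sub_one s hs hl)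

/-- elements of order `r s` of `PSL_n(q)` and of `GL_n(q)` -/
theorem psl_exists_iff (n : ℕ) (hn : 1 ≤ n) (r s : ℕ) (hr : r.Prime) (hs : s.Prime)
    (hk : 2 ≤ orderOf ((Fintype.card F : ℕ) : ZMod r))
    (hl : 2 ≤ orderOf ((Fintype.card F : ℕ) : ZMod s)) :
    (∃ x : Matrix.ProjectiveSpecialLinearGroup (Fin n) F, orderOf x = r * s) ↔
      ∃ g : GL (Fin n) F, orderOf g = r * s := by
  have hcop := coprime_card_sub_one (F := F) r s hr hs hk hl
  have hrs0 : 0 < r * s := Nat.mul_pos hr.pos hs.pos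
  constructor
  · rintro ⟨x, hx⟩
    obtain ⟨g', rfl⟩ := QuotientGroup.mk_surjective x
    have h1 : g' ^ (r * s) ∈ Subgroup.center (Matrix.SpecialLinearGroup (Fin n) F) := by
      rw [← QuotientGroup.eq_one_iff, QuotientGroup.mk_pow, ← hx, pow_orderOf_eq_one]
    have h2 := center_pow_card_sub_one n hn _ h1
    let h := g' ^ (Fintype.card F - 1)
    have h3 : h ^ (r * s) = 1 := by
      change (g' ^ (Fintype.card F - 1)) ^ (r * s) = 1
      rw [← pow_mul, mul_comm, pow_mul, h2]
    have h4 : orderOf ((QuotientGroup.mk h : Matrix.ProjectiveSpecialLinearGroup (Fin n) F)) =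
        r * s := by
      change orderOf ((QuotientGroup.mk (g' ^ (Fintype.card F - 1)) :
        Matrix.ProjectiveSpecialLinearGroup (Fin n) F)) = r * s
      rw [QuotientGroup.mk_pow, Nat.Coprime.orderOf_pow (by rw [hx]; exact hcop), hx]
    have h5 : r * s ∣ orderOf h := by
      rw [← h4]
      exact orderOf_map_dvd (QuotientGroup.mk' _) h
    have h6 : orderOf h = r * s := Nat.dvd_antisymm (orderOf_dvd_of_pow_eq_one h3) h5
    refine ⟨Matrix.SpecialLinearGroup.toGL h, ?_⟩
    rw [orderOf_injective _ Matrix.SpecialLinearGroup.toGL_injective, h6]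
  · rintro ⟨g, hg⟩
    -- determinant one
    have hdet : (g : Matrix (Fin n) (Fin n) F).det = 1 := by
      have hd0 : (g : Matrix (Fin n) (Fin n) F).det ≠ 0 :=
        ((Matrix.isUnit_iff_isUnit_det (g : Matrix (Fin n) (Fin n) F)).mp ⟨g, rfl⟩).ne_zero
      have h1 : (g : Matrix (Fin n) (Fin n) F).det ^ (r * s) = 1 := by
        rw [← Matrix.det_pow, ← Units.val_pow_eq_pow_val, ← hg, pow_orderOf_eq_one, Units.val_one,
          Matrix.det_one]
      have h2 := FiniteField.pow_card_sub_one_eq_one _ hd0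
      have h3 := pow_gcd_eq_one.mpr ⟨h1, h2⟩
      rw [hcop, pow_one] at h3
      exact h3
    let g' : Matrix.SpecialLinearGroup (Fin n) F := ⟨(g : Matrix (Fin n) (Fin n) F), hdet⟩
    have hg' : Matrix.SpecialLinearGroup.toGL g' = g := Units.ext rfl
    have hord : orderOf g' = r * s := by
      rw [← hg, ← hg']
      exact (orderOf_injective _ Matrix.SpecialLinearGroup.toGL_injective g').symm
    refine ⟨QuotientGroup.mk g', ?_⟩
    apply Nat.dvd_antisymm
    · apply orderOf_dvd_of_pow_eq_one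
      rw [← QuotientGroup.mk_pow, ← hord, pow_orderOf_eq_one]
      rfl
    · set m := orderOf (QuotientGroup.mk g' : Matrix.ProjectiveSpecialLinearGroup (Fin n) F)
        with hm
      have h1 : g' ^ m ∈ Subgroup.center (Matrix.SpecialLinearGroup (Fin n) F) := by
        rw [← QuotientGroup.eq_one_iff, QuotientGroup.mk_pow, hm, pow_orderOf_eq_one]
      have h2 := center_pow_card_sub_one n hn _ h1
      rw [← pow_mul] at h2
      have h3 : r * s ∣ m * (Fintype.card F - 1) := by
        rw [← hord]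
        exact orderOf_dvd_of_pow_eq_one h2
      exact hcop.dvd_of_dvd_mul_right h3

end Cfsg.Agent.Helper8.PGraph

namespace Cfsg.Agent.Helper8.PGraph

open Polynomial Matrix Module
open Cfsg.Agent.Helper8.SemiS

variable {F : Type*} [Field F] [Fintype F]

/-- a prime different from the characteristic dividing `|PSL_n(q)|` has `ord_s(q) ≤ n` -/
theorem orderOf_le_of_dvd_card (p : ℕ) [Fact p.Prime] [CharP F p] (n s : ℕ) (hs : s.Prime)
    (hsp : s ≠ p) (h : s ∣ Nat.card (Matrix.ProjectiveSpecialLinearGroup (Fin n) F)) :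
    orderOf ((Fintype.card F : ℕ) : ZMod s) ≤ n := by
  have hp : p.Prime := Fact.out
  have h1 : Nat.card (Matrix.ProjectiveSpecialLinearGroup (Fin n) F) ∣
      Nat.card (Matrix.SpecialLinearGroup (Fin n) F) :=
    ⟨_, Subgroup.card_eq_card_quotient_mul_card_subgroup
      (Subgroup.center (Matrix.SpecialLinearGroup (Fin n) F))⟩
  have h2 : Nat.card (Matrix.SpecialLinearGroup (Fin n) F) ∣ Nat.card (GL (Fin n) F) :=
    Subgroup.card_dvd_of_injective _ Matrix.SpecialLinearGroup.toGL_injective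
  have h3 : s ∣ Nat.card (GL (Fin n) F) := dvd_trans h (dvd_trans h1 h2)
  rw [Matrix.card_GL_field] at h3
  obtain ⟨i, _, hi⟩ := (Prime.dvd_finsetProd_iff hs.prime _).mp h3
  have hnq : ¬ s ∣ Fintype.card F := by
    intro h0
    obtain ⟨f, hf⟩ := FiniteField.card F p
    rw [hf.2] at h0
    exact hsp ((Nat.prime_dvd_prime_iff_eq hs hp).mp (hs.dvd_of_dvd_pow h0))
  have hin : (i : ℕ) ≤ n := i.2.le
  have h4 : Fintype.card F ^ n - Fintype.card F ^ (i : ℕ) =
      Fintype.card F ^ (i : ℕ) * (Fintype.card F ^ (n - i) - 1) := by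
    rw [Nat.mul_sub, mul_one, ← pow_add, Nat.add_sub_cancel' hin]
  rw [h4] at hi
  have h5 : s ∣ Fintype.card F ^ (n - i) - 1 := by
    rcases (Nat.Prime.dvd_mul hs).mp hi with h | h
    · exact absurd (hs.dvd_of_dvd_pow h) hnq
    · exact h
  have h6 : ((Fintype.card F : ℕ) : ZMod s) ^ (n - i) = 1 := by
    have h8 : ((Fintype.card F ^ (n - i) - 1 : ℕ) : ZMod s) = 0 :=
      (ZMod.natCast_eq_zero_iff _ _).mpr h5
    have h9 : 1 ≤ Fintype.card F ^ (n - i) := Nat.one_le_pow _ _ Fintype.card_pos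
    rw [Nat.cast_sub h9, Nat.cast_pow, Nat.cast_one, sub_eq_zero] at h8
    exact h8
  have h7 := orderOf_dvd_of_pow_eq_one h6
  have hpos : 0 < n - i := by have := i.2; omega
  exact le_trans (Nat.le_of_dvd hpos h7) (Nat.sub_le _ _)

theorem psl_prime_graph (p : ℕ) [Fact p.Prime] [CharP F p] (n : ℕ) (hn : 2 ≤ n)
    (r s : ℕ) (hr : r.Prime) (hs : s.Prime) (hrp : r ≠ p) (hsp : s ≠ p) (hrs : r ≠ s)
    (hsG : s ∣ Nat.card (Matrix.ProjectiveSpecialLinearGroup (Fin n) F))
    (k l : ℕ) (hk : k = orderOf ((Fintype.card F : ℕ) : ZMod r))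
    (hl : l = orderOf ((Fintype.card F : ℕ) : ZMod s)) (h2k : 2 ≤ k) (hkl : k ≤ l) :
    (r * s ∉ Set.range (orderOf : Matrix.ProjectiveSpecialLinearGroup (Fin n) F → ℕ)) ↔
      (n < k + l ∧ ¬ k ∣ l) := by
  have hn1 : 1 ≤ n := by omega
  have hiff := psl_exists_iff (F := F) n hn1 r s hr hs (by rw [← hk]; exact h2k)
    (by rw [← hl]; omega)
  have hln : l ≤ n := by
    rw [hl]
    exact orderOf_le_of_dvd_card p n s hs hsp hsG
  rw [Set.mem_range, hiff]
  constructor
  · intro hno
    refine ⟨?_, ?_⟩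
    · by_contra hle
      rw [not_lt] at hle
      exact hno (exists_orderOf_eq_of_add_le p n r s hr hs hrp hsp hrs (by rw [← hk, ← hl]; exact hle))
    · intro hdvd
      exact hno (exists_orderOf_eq_of_dvd p n r s hr hs hrp hsp hrs (by rw [← hk, ← hl]; exact hdvd)
        (by rw [← hl]; exact hln))
  · rintro ⟨hlt, hnd⟩ ⟨g, hg⟩
    rcases le_of_orderOf_eq p n r s hr hs hrp hsp g hg with h | h
    · rw [← hk, ← hl] at h
      omega
    · rw [← hk, ← hl] at h
      -- lcm k l is a multiple of l, less than 2 l, hence equals l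
      obtain ⟨c, hc⟩ := Nat.dvd_lcm_right k l
      have hl0 : 0 < l := by omega
      have hc1 : c = 1 := by
        rcases Nat.lt_or_ge c 2 with h2 | h2
        · rcases Nat.eq_zero_or_pos c with h0 | h0
          · rw [h0, mul_zero] at hc
            have := Nat.lcm_pos (by omega : 0 < k) hl0
            omega
          · omega
        · have : l * 2 ≤ l * c := Nat.mul_le_mul_left l h2
          omega
      rw [hc1, mul_one] at hc
      apply hnd
      rw [← hc]
      exact Nat.dvd_lcm_left k l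

end Cfsg.Agent.Helper8.PGraph
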