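import Cfsg.Agent.Helper8.PGraphNec
set_option autoImplicit false

namespace Cfsg.Agent.Helper8.PGraph

open Polynomial Matrix Module
open Cfsg.Agent.Helper8.SemiS

variable {F : Type*} [Field F] [Fintype F]

omit [Fintype F] in
/-- irreducible factors of the characteristic polynomial of a matrix with `A ^ m = 1` divide
`X ^ m - 1` (for `m` prime different from the characteristic) -/
theorem dvd_of_dvd_charpoly (p : ℕ) [Fact p.Prime] [CharP F p] {n : ℕ} (m : ℕ) (hm : m.Prime)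
    (hmp : m ≠ p) (A : Matrix (Fin n) (Fin n) F) (hA : A ^ m = 1) (P : F[X])
    (hirr : Irreducible P) (hdvd : P ∣ A.charpoly) : P ∣ X ^ m - 1 := by
  have hsq := squarefree_X_pow_sub_one (F := F) p m hm hmp
  have hk : aeval A (X ^ m - 1 : F[X]) = 0 := by
    rw [aeval_X_pow_sub_one, hA, sub_self]
  obtain ⟨d, P', hP', hdvd', hchar⟩ := exists_family_of_matrix A _ hsq hk
  rw [hchar] at hdvd
  obtain ⟨i, _, hi⟩ := (Prime.dvd_finsetProd_iff hirr.prime _).mp hdvd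
  exact dvd_trans hi (hdvd' i)

/-- sufficient condition for an element of order `r s` in `GL_n(q)` -/
theorem exists_orderOf_eq_of_expo (p : ℕ) [Fact p.Prime] [CharP F p] (n r s : ℕ) (hr : r.Prime)
    (hs : s.Prime) (hrp : r ≠ p) (hsp : s ≠ p)
    {ι : Type*} [Fintype ι] [DecidableEq ι] (Q : ι → F[X])
    (hQ : ∀ j, (Q j).Monic ∧ Irreducible (Q j)) (hQdvd : ∀ j, Q j ∣ X ^ (r * s) - 1)
    (a : ι → ℕ) (hn : ∑ j, a j * (Q j).natDegree = n) (j₁ j₂ : ι)
    (h1 : a j₁ ≠ 0) (h1' : ¬ Q j₁ ∣ X ^ r - 1) (h2 : a j₂ ≠ 0) (h2' : ¬ Q j₂ ∣ X ^ s - 1) :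
    ∃ g : GL (Fin n) F, orderOf g = r * s := by
  obtain ⟨A, hA1, hA2⟩ := matrix_of_expo Q (X ^ (r * s) - 1) (fun j => (hQ j).1) a
    (fun j _ => hQdvd j) hn
  rw [aeval_X_pow_sub_one, sub_eq_zero] at hA2
  have hrs0 : r * s ≠ 0 := Nat.mul_ne_zero hr.ne_zero hs.ne_zero
  let g : GL (Fin n) F := ⟨A, A ^ (r * s - 1), by rw [mul_pow_sub_one hrs0, hA2],
    by rw [pow_sub_one_mul hrs0, hA2]⟩
  refine ⟨g, ?_⟩
  have hgrs : g ^ (r * s) = 1 := by
    apply Units.ext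
    rw [Units.val_pow_eq_pow_val]
    exact hA2
  have hdvd := orderOf_dvd_of_pow_eq_one hgrs
  have hQdvdchar : ∀ j, a j ≠ 0 → Q j ∣ A.charpoly := by
    intro j hj
    rw [hA1]
    exact dvd_trans (dvd_pow_self _ hj) (Finset.dvd_prod_of_mem _ (Finset.mem_univ j))
  have hnr : ¬ orderOf g ∣ r := by
    intro h
    have h3 : g ^ r = 1 := orderOf_dvd_iff_pow_eq_one.mp h
    have h4 : A ^ r = 1 := by
      have := congrArg Units.val h3
      rwa [Units.val_pow_eq_pow_val] at this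
    exact h1' (dvd_of_dvd_charpoly p r hr hrp A h4 _ (hQ j₁).2 (hQdvdchar j₁ h1))
  have hns : ¬ orderOf g ∣ s := by
    intro h
    have h3 : g ^ s = 1 := orderOf_dvd_iff_pow_eq_one.mp h
    have h4 : A ^ s = 1 := by
      have := congrArg Units.val h3
      rwa [Units.val_pow_eq_pow_val] at this
    exact h2' (dvd_of_dvd_charpoly p s hs hsp A h4 _ (hQ j₂).2 (hQdvdchar j₂ h2))
  obtain ⟨y, z, hy, hz, hyz⟩ := (Nat.dvd_mul).mp hdvd
  rcases (Nat.dvd_prime hr).mp hy with rfl | rfl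
  · exfalso
    apply hns
    rw [← hyz, one_mul]
    exact hz
  · rcases (Nat.dvd_prime hs).mp hz with rfl | rfl
    · exfalso
      apply hnr
      rw [← hyz, mul_one]
    · exact hyz.symm

end Cfsg.Agent.Helper8.PGraph

namespace Cfsg.Agent.Helper8.PGraph

open Polynomial Matrix Module
open Cfsg.Agent.Helper8.SemiS

variable {F : Type*} [Field F] [Fintype F]

theorem exists_orderOf_eq_of_add_le (p : ℕ) [Fact p.Prime] [CharP F p] (n r s : ℕ) (hr : r.Prime)
    (hs : s.Prime) (hrp : r ≠ p) (hsp : s ≠ p) (hrs : r ≠ s)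
    (hle : orderOf ((Fintype.card F : ℕ) : ZMod r) + orderOf ((Fintype.card F : ℕ) : ZMod s) ≤ n) :
    ∃ g : GL (Fin n) F, orderOf g = r * s := by
  obtain ⟨Pr, hPr1, hPr2, hPr3, hPr4, hPr5⟩ := exists_factor_prime (F := F) p r hr hrp
  obtain ⟨Ps, hPs1, hPs2, hPs3, hPs4, hPs5⟩ := exists_factor_prime (F := F) p s hs hsp
  have hcop : Nat.Coprime r s := (Nat.coprime_primes hr hs).mpr hrs
  set k := orderOf ((Fintype.card F : ℕ) : ZMod r) with hk
  set l := orderOf ((Fintype.card F : ℕ) : ZMod s) with hl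
  let Q : Fin 3 → F[X] := ![X - 1, Pr, Ps]
  let a : Fin 3 → ℕ := ![n - k - l, 1, 1]
  have hQ : ∀ j, (Q j).Monic ∧ Irreducible (Q j) := by
    intro j
    fin_cases j
    · exact ⟨X_sub_one_props.1, X_sub_one_props.2.1⟩
    · exact ⟨hPr1, hPr2⟩
    · exact ⟨hPs1, hPs2⟩
  have hQdvd : ∀ j, Q j ∣ X ^ (r * s) - 1 := by
    intro j
    fin_cases j
    · have := X_pow_sub_one_dvd (F := F) 1 (r * s)
      rwa [pow_one, one_mul] at this
    · exact dvd_trans hPr3 (X_pow_sub_one_dvd r s)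
    · have := dvd_trans hPs3 (X_pow_sub_one_dvd (F := F) s r)
      rwa [mul_comm s r] at this
  have hn : ∑ j, a j * (Q j).natDegree = n := by
    rw [Fin.sum_univ_three]
    change (n - k - l) * (X - 1 : F[X]).natDegree + 1 * Pr.natDegree + 1 * Ps.natDegree = n
    rw [X_sub_one_props.2.2, hPr5, hPs5]
    omega
  refine exists_orderOf_eq_of_expo p n r s hr hs hrp hsp Q hQ hQdvd a hn 2 1 ?_ ?_ ?_ ?_
  · exact one_ne_zero
  · intro h
    exact hPs4 (eq_X_sub_one_of_dvd Ps hPs1 hPs2 r s hcop h hPs3)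
  · exact one_ne_zero
  · intro h
    exact hPr4 (eq_X_sub_one_of_dvd Pr hPr1 hPr2 r s hcop hPr3 h)

theorem exists_orderOf_eq_of_dvd (p : ℕ) [Fact p.Prime] [CharP F p] (n r s : ℕ) (hr : r.Prime)
    (hs : s.Prime) (hrp : r ≠ p) (hsp : s ≠ p) (hrs : r ≠ s)
    (hkl : orderOf ((Fintype.card F : ℕ) : ZMod r) ∣ orderOf ((Fintype.card F : ℕ) : ZMod s))
    (hle : orderOf ((Fintype.card F : ℕ) : ZMod s) ≤ n) :
    ∃ g : GL (Fin n) F, orderOf g = r * s := by
  obtain ⟨P, hP1, hP2, hP3, hP4, hP5, hP6⟩ := exists_factor_mul (F := F) p r s hr hs hsp hrs hkl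
  let Q : Fin 2 → F[X] := ![X - 1, P]
  let a : Fin 2 → ℕ := ![n - P.natDegree, 1]
  have hQ : ∀ j, (Q j).Monic ∧ Irreducible (Q j) := by
    intro j
    fin_cases j
    · exact ⟨X_sub_one_props.1, X_sub_one_props.2.1⟩
    · exact ⟨hP1, hP2⟩
  have hQdvd : ∀ j, Q j ∣ X ^ (r * s) - 1 := by
    intro j
    fin_cases j
    · have := X_pow_sub_one_dvd (F := F) 1 (r * s)
      rwa [pow_one, one_mul] at this
    · exact hP3
  have hn : ∑ j, a j * (Q j).natDegree = n := by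
    rw [Fin.sum_univ_two]
    change (n - P.natDegree) * (X - 1 : F[X]).natDegree + 1 * P.natDegree = n
    rw [X_sub_one_props.2.2]
    omega
  exact exists_orderOf_eq_of_expo p n r s hr hs hrp hsp Q hQ hQdvd a hn 1 1 one_ne_zero hP4
    one_ne_zero hP5

end Cfsg.Agent.Helper8.PGraph
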