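import Mathlib

set_option autoImplicit false
set_option linter.unusedSectionVars false
set_option linter.unusedVariables false

/-!
# S4033, package H (helper6 for helper8): the structure (II)

If all elements of prime power order `ℓ ^ k`, `ℓ ∉ {p, q}`, of the finite group `G` are central, then `G = (P ⊔ Q) × A` with
`A ≤ Z(G)`, `P`, `Q` a Sylow `p`- and a Sylow `q`-subgroup, and `|P ⊔ Q| = |P| |Q|`.

`A` is the subgroup of the central elements of order prime to `p q`: a central, hence normal, Hall subgroup; a complement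
(Schur–Zassenhaus) is normal, contains `P` and `Q`, and is a `{p, q}`-group.
-/

namespace Cfsg.Agent.Helper8.PReg

open Subgroup

section generic

variable {G : Type*} [Group G]

/-- the central elements of order prime to `n`. -/
def kh_A (G : Type*) [Group G] (n : ℕ) : Subgroup G where
  carrier := {z | z ∈ center G ∧ (orderOf z).Coprime n}
  one_mem' := ⟨one_mem _, by rw [orderOf_one]; exact Nat.coprime_one_left n⟩
  mul_mem' := by
    rintro a b ⟨ha, ha'⟩ ⟨hb, hb'⟩
    refine ⟨mul_mem ha hb, ?_⟩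
    have hcomm : Commute a b := (Subgroup.mem_center_iff.mp ha b).symm
    exact Nat.Coprime.coprime_dvd_left hcomm.orderOf_mul_dvd_mul_orderOf (Nat.Coprime.mul_left ha' hb')
  inv_mem' := by
    rintro a ⟨ha, ha'⟩
    exact ⟨inv_mem ha, by rw [orderOf_inv]; exact ha'⟩

theorem kh_A_le_center (n : ℕ) : kh_A G n ≤ center G := fun z hz => hz.1

theorem kh_mem_A {n : ℕ} {z : G} : z ∈ kh_A G n ↔ z ∈ center G ∧ (orderOf z).Coprime n := Iff.rfl

instance kh_A_normal (n : ℕ) : (kh_A G n).Normal :=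
  ⟨fun z hz g => by
    have : g * z * g⁻¹ = z := by
      rw [Subgroup.mem_center_iff.mp hz.1 g, mul_inv_cancel_right]
    rw [this]; exact hz⟩

/-- a number all of whose prime divisors are `p` or `q`, prime to `p` and to `q`, is `1`. -/
theorem kh_eq_one_of_coprime {p q s : ℕ} (hs : ∀ ℓ : ℕ, ℓ.Prime → ℓ ∣ s → ℓ = p ∨ ℓ = q)
    (hp : s.Coprime p) (hq : s.Coprime q) : s = 1 := by
  by_contra h1
  obtain ⟨ℓ, hℓ, hℓs⟩ := Nat.exists_prime_and_dvd h1
  rcases hs ℓ hℓ hℓs with rfl | rfl
  · have := Nat.Coprime.eq_one_of_dvd hp.symm hℓs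
    exact hℓ.one_lt.ne' this
  · have := Nat.Coprime.eq_one_of_dvd hq.symm hℓs
    exact hℓ.one_lt.ne' this

/-- the arithmetic: `n = a u = b v` with `a`, `b` coprime, `u` prime to `p`, `v` prime to `q` and all prime divisors of `n`
in `{p, q}`: then `n = a b`. -/
theorem kh_arith {p q n a b u v : ℕ} (hn : ∀ ℓ : ℕ, ℓ.Prime → ℓ ∣ n → ℓ = p ∨ ℓ = q)
    (hab : a.Coprime b) (ha : 0 < a) (hb : 0 < b) (hau : n = a * u) (hbv : n = b * v) (hu : u.Coprime p)
    (hv : v.Coprime q) : n = a * b := by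
  have hdvd : a * b ∣ n := Nat.Coprime.mul_dvd_of_dvd_of_dvd hab ⟨u, hau⟩ ⟨v, hbv⟩
  obtain ⟨s, hs⟩ := hdvd
  have hu' : u = b * s := by
    have : a * u = a * (b * s) := by rw [← hau, hs, mul_assoc]
    exact Nat.eq_of_mul_eq_mul_left ha this
  have hv' : v = a * s := by
    have : b * v = b * (a * s) := by rw [← hbv, hs]; ring
    exact Nat.eq_of_mul_eq_mul_left hb this
  have hsp : s.Coprime p := Nat.Coprime.coprime_dvd_left ⟨b, by rw [hu', mul_comm]⟩ hu
  have hsq : s.Coprime q := Nat.Coprime.coprime_dvd_left ⟨a, by rw [hv', mul_comm]⟩ hv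
  have hs1 : s = 1 :=
    kh_eq_one_of_coprime (fun ℓ hℓ hℓs => hn ℓ hℓ (hs ▸ Dvd.dvd.mul_left hℓs (a * b))) hsp hsq
  rw [hs, hs1, mul_one]

/-- a normal subgroup of index prime to `p` contains every element of `p`-power order. -/
theorem kh_mem_of_coprime_index (K : Subgroup G) [K.Normal] [Finite G] {p : ℕ} (hK : K.index.Coprime p)
    {x : G} {k : ℕ} (hx : orderOf x = p ^ k) : x ∈ K := by
  rw [← QuotientGroup.eq_one_iff]
  have h1 : orderOf ((x : G) : G ⧸ K) ∣ p ^ k := by
    rw [← hx]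
    exact orderOf_map_dvd (QuotientGroup.mk' K) x
  have h2 : orderOf ((x : G) : G ⧸ K) ∣ K.index := by
    rw [Subgroup.index_eq_card]
    exact orderOf_dvd_natCard _
  have h3 : orderOf ((x : G) : G ⧸ K) = 1 :=
    Nat.eq_one_of_dvd_coprimes (Nat.Coprime.pow_right k hK) h2 h1
  exact orderOf_eq_one_iff.mp h3

/-- PKG-H. the structure (II) when all `{p,q}'`-elements of prime power order are central -/
theorem struct_II [Finite G] {p q : ℕ} [Fact p.Prime] [Fact q.Prime] (hqp : q ≠ p)
    (hc : ∀ (ℓ : ℕ) (x : G) (k : ℕ), ℓ.Prime → ℓ ≠ p → ℓ ≠ q → orderOf x = ℓ ^ k → x ∈ center G)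
    (P : Sylow p G) (Q : Sylow q G) :
    ∃ A : Subgroup G, A ≤ center G ∧
      Nat.card ↥((P : Subgroup G) ⊔ (Q : Subgroup G)) = Nat.card P * Nat.card Q ∧
      ((P : Subgroup G) ⊔ (Q : Subgroup G)).Normal ∧
      ((P : Subgroup G) ⊔ (Q : Subgroup G)) ⊓ A = ⊥ ∧ ((P : Subgroup G) ⊔ (Q : Subgroup G)) ⊔ A = ⊤ := by
  have hp : p.Prime := Fact.out
  have hq : q.Prime := Fact.out
  set A : Subgroup G := kh_A G (p * q) with hA
  -- `|A|` is prime to `p q`
  have hAcard : ∀ ℓ : ℕ, ℓ.Prime → ℓ ∣ Nat.card A → ℓ ≠ p ∧ ℓ ≠ q := by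
    intro ℓ hℓ hdvd
    have : Fact ℓ.Prime := ⟨hℓ⟩
    obtain ⟨z, hz⟩ := exists_prime_orderOf_dvd_card' ℓ hdvd
    have hz' : orderOf (z : G) = ℓ := by rw [Subgroup.orderOf_coe]; exact hz
    have hco : ℓ.Coprime (p * q) := by
      have := z.2.2
      rwa [hz'] at this
    constructor
    · rintro rfl
      exact hℓ.one_lt.ne' (Nat.Coprime.eq_one_of_dvd hco (Dvd.intro q rfl))
    · rintro rfl
      exact hℓ.one_lt.ne' (Nat.Coprime.eq_one_of_dvd hco (Dvd.intro_left p rfl))
  -- every prime divisor of the index of `A` is `p` or `q`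
  have hAidx : ∀ ℓ : ℕ, ℓ.Prime → ℓ ∣ A.index → ℓ = p ∨ ℓ = q := by
    intro ℓ hℓ hdvd
    by_contra hne
    push Not at hne
    have : Fact ℓ.Prime := ⟨hℓ⟩
    obtain S : Sylow ℓ G := default
    have hSA : (S : Subgroup G) ≤ A := by
      intro x hx
      obtain ⟨k, hk⟩ := (IsPGroup.iff_orderOf.mp S.2) ⟨x, hx⟩
      rw [Subgroup.orderOf_mk] at hk
      refine ⟨hc ℓ x k hℓ hne.1 hne.2 hk, ?_⟩
      rw [hk]
      apply Nat.Coprime.pow_left
      exact Nat.Coprime.mul_right ((Nat.coprime_primes hℓ hp).mpr hne.1)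
        ((Nat.coprime_primes hℓ hq).mpr hne.2)
    exact S.not_dvd_index (dvd_trans hdvd (Subgroup.index_dvd_of_le hSA))
  have hcop : (Nat.card A).Coprime A.index := by
    apply Nat.Coprime.symm
    apply Nat.coprime_of_dvd
    intro ℓ hℓ h1 h2
    rcases hAidx ℓ hℓ h1 with rfl | rfl
    · exact (hAcard _ hℓ h2).1 rfl
    · exact (hAcard _ hℓ h2).2 rfl
  -- the complement
  obtain ⟨K, hK⟩ := Subgroup.exists_right_complement'_of_coprime hcop
  have hKcard : Nat.card K = A.index := by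
    have h1 := hK.card_mul_card
    have h2 := A.card_mul_index
    have hpos : 0 < Nat.card A := Nat.card_pos
    exact Nat.eq_of_mul_eq_mul_left hpos (h1.trans h2.symm)
  have hKidx : K.index = Nat.card A := by
    have h1 := hK.card_mul_card
    have h2 := K.card_mul_index
    have hpos : 0 < Nat.card K := Nat.card_pos
    rw [mul_comm] at h1
    exact Nat.eq_of_mul_eq_mul_left hpos (h2.trans h1.symm)
  -- `K` is normal, as `A` is central
  have hKn : K.Normal := by
    constructor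
    intro k hk g
    obtain ⟨⟨⟨a, ha⟩, ⟨k', hk'⟩⟩, hg⟩ := hK.existsUnique g |>.exists
    simp only at hg
    have hac : ∀ x : G, x * a = a * x := fun x => Subgroup.mem_center_iff.mp ha.1 x
    have : g * k * g⁻¹ = k' * k * k'⁻¹ := by
      rw [← hg, mul_inv_rev]
      calc a * k' * k * (k'⁻¹ * a⁻¹) = a * (k' * k * k'⁻¹) * a⁻¹ := by group
        _ = (k' * k * k'⁻¹) * a * a⁻¹ := by rw [hac (k' * k * k'⁻¹)]
        _ = k' * k * k'⁻¹ := by rw [mul_inv_cancel_right]
    rw [this]
    exact K.mul_mem (K.mul_mem hk' hk) (K.inv_mem hk')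
  have hKp : K.index.Coprime p := by
    rw [hKidx]
    apply Nat.Coprime.symm
    rw [Nat.Prime.coprime_iff_not_dvd hp]
    exact fun h => (hAcard p hp h).1 rfl
  have hKq : K.index.Coprime q := by
    rw [hKidx]
    apply Nat.Coprime.symm
    rw [Nat.Prime.coprime_iff_not_dvd hq]
    exact fun h => (hAcard q hq h).2 rfl
  have hPK : (P : Subgroup G) ≤ K := by
    intro x hx
    obtain ⟨k, hk⟩ := (IsPGroup.iff_orderOf.mp P.2) ⟨x, hx⟩
    rw [Subgroup.orderOf_mk] at hk
    exact kh_mem_of_coprime_index K hKp hk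
  have hQK : (Q : Subgroup G) ≤ K := by
    intro x hx
    obtain ⟨k, hk⟩ := (IsPGroup.iff_orderOf.mp Q.2) ⟨x, hx⟩
    rw [Subgroup.orderOf_mk] at hk
    exact kh_mem_of_coprime_index K hKq hk
  set M : Subgroup G := (P : Subgroup G) ⊔ (Q : Subgroup G) with hM
  have hMK : M ≤ K := sup_le hPK hQK
  have hPM : (P : Subgroup G) ≤ M := le_sup_left
  have hQM : (Q : Subgroup G) ≤ M := le_sup_right
  -- the prime divisors of `|K|`
  have hKpr : ∀ ℓ : ℕ, ℓ.Prime → ℓ ∣ Nat.card K → ℓ = p ∨ ℓ = q := by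
    rw [hKcard]; exact hAidx
  -- `M = K`
  have hr : M.relIndex K = 1 := by
    apply kh_eq_one_of_coprime (p := p) (q := q)
    · intro ℓ hℓ hdvd
      exact hKpr ℓ hℓ (dvd_trans hdvd (Subgroup.relIndex_dvd_card M K))
    · have h1 : M.relIndex K ∣ (P : Subgroup G).index :=
        dvd_trans (Subgroup.relIndex_dvd_index_of_le hMK) (Subgroup.index_dvd_of_le hPM)
      apply Nat.Coprime.coprime_dvd_left h1
      apply Nat.Coprime.symm
      rw [Nat.Prime.coprime_iff_not_dvd hp]
      exact P.not_dvd_index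
    · have h1 : M.relIndex K ∣ (Q : Subgroup G).index :=
        dvd_trans (Subgroup.relIndex_dvd_index_of_le hMK) (Subgroup.index_dvd_of_le hQM)
      apply Nat.Coprime.coprime_dvd_left h1
      apply Nat.Coprime.symm
      rw [Nat.Prime.coprime_iff_not_dvd hq]
      exact Q.not_dvd_index
  have hKM : K = M := le_antisymm (Subgroup.relIndex_eq_one.mp hr) hMK
  refine ⟨A, kh_A_le_center _, ?_, ?_, ?_, ?_⟩
  · -- the order of `M`
    have hMpr : ∀ ℓ : ℕ, ℓ.Prime → ℓ ∣ Nat.card M → ℓ = p ∨ ℓ = q := by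
      rw [← hKM]; exact hKpr
    have hcopPQ : (Nat.card P).Coprime (Nat.card Q) :=
      IsPGroup.coprime_card_of_ne p q (Ne.symm hqp) (P : Subgroup G) (Q : Subgroup G) P.2 Q.2
    -- `|M| = |P| [M : P]`, `[M : P]` prime to `p`
    have hcardP : Nat.card M = Nat.card P * (P : Subgroup G).relIndex M := by
      have h1 := (P : Subgroup G).card_mul_index
      have h2 := M.card_mul_index
      have h3 := Subgroup.relIndex_mul_index hPM
      have hpos : 0 < M.index := Nat.pos_of_ne_zero (Subgroup.index_ne_zero_of_finite)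
      apply Nat.eq_of_mul_eq_mul_right hpos
      rw [h2, mul_assoc, h3, h1]
    have hcardQ : Nat.card M = Nat.card Q * (Q : Subgroup G).relIndex M := by
      have h1 := (Q : Subgroup G).card_mul_index
      have h2 := M.card_mul_index
      have h3 := Subgroup.relIndex_mul_index hQM
      have hpos : 0 < M.index := Nat.pos_of_ne_zero (Subgroup.index_ne_zero_of_finite)
      apply Nat.eq_of_mul_eq_mul_right hpos
      rw [h2, mul_assoc, h3, h1]
    have hu : ((P : Subgroup G).relIndex M).Coprime p := by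
      apply Nat.Coprime.coprime_dvd_left (Subgroup.relIndex_dvd_index_of_le hPM)
      apply Nat.Coprime.symm
      rw [Nat.Prime.coprime_iff_not_dvd hp]
      exact P.not_dvd_index
    have hv : ((Q : Subgroup G).relIndex M).Coprime q := by
      apply Nat.Coprime.coprime_dvd_left (Subgroup.relIndex_dvd_index_of_le hQM)
      apply Nat.Coprime.symm
      rw [Nat.Prime.coprime_iff_not_dvd hq]
      exact Q.not_dvd_index
    exact kh_arith hMpr hcopPQ Nat.card_pos Nat.card_pos hcardP hcardQ hu hv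
  · rw [← hKM]; exact hKn
  · rw [← hKM]
    have := hK.symm.disjoint
    rw [disjoint_iff] at this
    exact this
  · rw [← hKM, sup_comm]
    exact hK.sup_eq_top

end generic

end Cfsg.Agent.Helper8.PReg
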