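import Mathlib
import Cfsg.Agent.Helper4.ClassSize

set_option autoImplicit false

namespace Cfsg.Agent.Helper8.PReg

open Subgroup

variable {G : Type*} [Group G]

/-- class size = index of the centralizer -/
theorem ncard_carrier_eq_index [Finite G] (x : G) :
    (ConjClasses.mk x).carrier.ncard = (centralizer ({x} : Set G)).index := by
  rw [Cfsg.Agent.Helper4.index_centralizer_eq_card_carrier]
  exact (Nat.card_coe_set_eq _).symm

theorem index_centralizer_eq_one_iff (x : G) :
    (centralizer ({x} : Set G)).index = 1 ↔ x ∈ center G := by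
  rw [Subgroup.index_eq_one, Subgroup.eq_top_iff', Subgroup.mem_center_iff]
  constructor
  · intro h g
    exact mem_centralizer_singleton_iff.mp (h g)
  · intro h g
    exact mem_centralizer_singleton_iff.mpr (h g)

/-- conversion of the hypothesis "exactly two `p`-regular class sizes" -/
theorem exists_m_of_range_ncard_two [Finite G] {p : ℕ}
    (h2 : Set.ncard (Set.range fun x : {x : G // (orderOf x).Coprime p} =>
      (ConjClasses.mk (x : G)).carrier.ncard) = 2) :
    ∃ m : ℕ, (∀ x : G, (orderOf x).Coprime p →
        (centralizer ({x} : Set G)).index = 1 ∨ (centralizer ({x} : Set G)).index = m) ∧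
      ∃ x₀ : G, (orderOf x₀).Coprime p ∧ x₀ ∉ center G := by
  classical
  obtain ⟨a, b, hab, hS⟩ := Set.ncard_eq_two.mp h2
  have hmem : ∀ x : G, (orderOf x).Coprime p →
      (centralizer ({x} : Set G)).index = a ∨ (centralizer ({x} : Set G)).index = b := by
    intro x hx
    have h1 : (ConjClasses.mk x).carrier.ncard ∈ Set.range fun x : {x : G // (orderOf x).Coprime p} =>
        (ConjClasses.mk (x : G)).carrier.ncard := ⟨⟨x, hx⟩, rfl⟩
    rw [hS, ncard_carrier_eq_index] at h1
    simpa using h1
  have h1reg : (orderOf (1 : G)).Coprime p := by rw [orderOf_one]; exact Nat.coprime_one_left p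
  have hidx1 : (centralizer ({(1 : G)} : Set G)).index = 1 :=
    (index_centralizer_eq_one_iff 1).mpr (one_mem _)
  -- the other value is attained
  have hex : ∀ c : ℕ, c ∈ ({a, b} : Set ℕ) → ∃ x : G, (orderOf x).Coprime p ∧
      (centralizer ({x} : Set G)).index = c := by
    intro c hc
    rw [← hS] at hc
    obtain ⟨⟨x, hx⟩, hxc⟩ := hc
    refine ⟨x, hx, ?_⟩
    rw [← ncard_carrier_eq_index]
    exact hxc
  rcases hmem 1 h1reg with h1 | h1
  · -- a = 1, m = b
    have ha : a = 1 := by rw [← h1, hidx1]
    refine ⟨b, ?_, ?_⟩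
    · intro x hx
      rcases hmem x hx with h3 | h3
      · left; rw [h3, ha]
      · right; exact h3
    · obtain ⟨x₀, hx₀, hx₀b⟩ := hex b (by simp)
      refine ⟨x₀, hx₀, ?_⟩
      intro hc
      have := (index_centralizer_eq_one_iff x₀).mpr hc
      rw [hx₀b] at this
      exact hab (ha.trans this.symm)
  · have hb : b = 1 := by rw [← h1, hidx1]
    refine ⟨a, ?_, ?_⟩
    · intro x hx
      rcases hmem x hx with h3 | h3
      · right; exact h3
      · left; rw [h3, hb]
    · obtain ⟨x₀, hx₀, hx₀a⟩ := hex a (by simp)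
      refine ⟨x₀, hx₀, ?_⟩
      intro hc
      have := (index_centralizer_eq_one_iff x₀).mpr hc
      rw [hx₀a] at this
      exact hab (this.trans hb.symm)

end Cfsg.Agent.Helper8.PReg
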