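import Cfsg.Agent.Helper8.PGraphPSL
set_option autoImplicit false

namespace Cfsg.Agent.Helper8.PS3

open Polynomial Matrix
open Cfsg.Agent.Helper8.SemiS Cfsg.Agent.Helper8.PGraph

variable {F : Type*} [Field F]

theorem dvd_X_pow_sub_C_iff (P : F[X]) (j : ℕ) (c : F) :
    P ∣ X ^ j - C c ↔ AdjoinRoot.root P ^ j = AdjoinRoot.of P c := by
  rw [← AdjoinRoot.mk_eq_zero, map_sub, map_pow, AdjoinRoot.mk_X, AdjoinRoot.mk_C, sub_eq_zero]

variable [Fintype F]

/-- the norm of the root of a monic irreducible polynomial over a finite field -/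
theorem root_pow_norm (P : F[X]) (hP : P.Monic) (hirr : Irreducible P) :
    AdjoinRoot.root P ^ ((Fintype.card F ^ P.natDegree - 1) / (Fintype.card F - 1)) =
      AdjoinRoot.of P ((-1) ^ P.natDegree * P.coeff 0) := by
  have : Fact (Irreducible P) := ⟨hirr⟩
  have : Module.Finite F (AdjoinRoot P) := hP.finite_adjoinRoot
  have : Finite (AdjoinRoot P) := Module.finite_of_finite F
  have h1 := FiniteField.algebraMap_norm_eq_pow (K := F) (K' := AdjoinRoot P)
    (x := AdjoinRoot.root P)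
  rw [card_adjoinRoot P hP, Nat.card_eq_fintype_card] at h1
  rw [← h1]
  have h2 := Algebra.PowerBasis.norm_gen_eq_coeff_zero_minpoly
    (AdjoinRoot.powerBasis hirr.ne_zero)
  rw [AdjoinRoot.powerBasis_gen, AdjoinRoot.powerBasis_dim, AdjoinRoot.minpoly_root hirr.ne_zero,
    hP.leadingCoeff, inv_one, map_one, mul_one] at h2
  rw [h2]
  rfl

/-- elements of an extension of a finite field killed by an exponent dividing `q - 1` lie in
the base field -/
theorem mem_range_of_pow_eq_one {K : Type*} [Field K] [Algebra F K] (m : ℕ) (hm0 : m ≠ 0)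
    (hm : m ∣ Fintype.card F - 1) (t : K) (ht : t ^ m = 1) : ∃ c : F, algebraMap F K c = t := by
  obtain ⟨ζ, hζ⟩ := PGLr.exists_primitiveRoot (F := F) m hm
  have hζ' : IsPrimitiveRoot (algebraMap F K ζ) m :=
    hζ.map_of_injective (algebraMap F K).injective
  have : NeZero m := ⟨hm0⟩
  obtain ⟨i, _, hi⟩ := hζ'.eq_pow_of_pow_eq_one ht
  exact ⟨ζ ^ i, by rw [map_pow, hi]⟩

theorem dvd_mul_iff_div_gcd (A B j : ℕ) (hA : 0 < A) : A ∣ j * B ↔ A / Nat.gcd A B ∣ j := by
  have hg : 0 < Nat.gcd A B := Nat.gcd_pos_of_pos_left B hA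
  have hcop := Nat.coprime_div_gcd_div_gcd hg
  obtain ⟨A', hA'⟩ := Nat.gcd_dvd_left A B
  obtain ⟨B', hB'⟩ := Nat.gcd_dvd_right A B
  set g := Nat.gcd A B with hgdef
  have e1 : A / g = A' := by rw [hA']; exact Nat.mul_div_cancel_left _ hg
  have e2 : B / g = B' := by rw [hB']; exact Nat.mul_div_cancel_left _ hg
  rw [e1, e2] at hcop
  rw [e1]
  constructor
  · intro h
    have h1 : g * A' ∣ g * (j * B') := by
      have : g * (j * B') = j * B := by rw [hB']; ring
      rw [this, ← hA']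
      exact h
    have h2 : A' ∣ j * B' := Nat.dvd_of_mul_dvd_mul_left hg h1
    exact (Nat.Coprime.dvd_mul_right hcop).mp h2
  · intro h
    obtain ⟨w, hw⟩ := h
    refine ⟨w * B', ?_⟩
    rw [hw]
    calc A' * w * B = A' * w * (g * B') := by rw [← hB']
      _ = g * A' * (w * B') := by ring
      _ = A * (w * B') := by rw [← hA']

theorem gcd_one (s : ℕ) : Nat.gcd ((s + 1) ^ 2 + (s + 1) + 1) s = Nat.gcd 3 s := by
  have : (s + 1) ^ 2 + (s + 1) + 1 = 3 + s * (s + 3) := by ring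
  rw [this, Nat.gcd_add_mul_left_left]

theorem gcd_two (s : ℕ) (hs : 1 ≤ s) : Nat.gcd ((s + 1) ^ 2 - 1) (s + 3) = Nat.gcd 3 s := by
  obtain ⟨t, rfl⟩ : ∃ t, s = t + 1 := ⟨s - 1, by omega⟩
  have : (t + 1 + 1) ^ 2 - 1 = 3 + (t + 1 + 3) * t := by
    have : (t + 1 + 1) ^ 2 = 3 + (t + 1 + 3) * t + 1 := by ring
    omega
  rw [this, Nat.gcd_add_mul_left_left, Nat.gcd_add_self_right]

end Cfsg.Agent.Helper8.PS3
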