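import Cfsg.Agent.Helper8.PS3Dvd
set_option autoImplicit false

namespace Cfsg.Agent.Helper8.PS3

open Polynomial Matrix
open Cfsg.Agent.Helper8.SemiS Cfsg.Agent.Helper8.PGraph

variable {F : Type*} [Field F]

/-- splitting off a root of a monic polynomial -/
theorem exists_factor_of_not_irreducible (f : F[X]) (hf : f.Monic) (hd2 : 2 ≤ f.natDegree)
    (hd3 : f.natDegree ≤ 3) (hirr : ¬ Irreducible f) :
    ∃ (a : F) (g : F[X]), f = (X - C a) * g ∧ g.Monic ∧ g.natDegree + 1 = f.natDegree := by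
  rw [Polynomial.irreducible_iff_roots_eq_zero_of_degree_le_three hd2 hd3] at hirr
  obtain ⟨a, ha⟩ := Multiset.exists_mem_of_ne_zero hirr
  have hroot : IsRoot f a := (Polynomial.mem_roots hf.ne_zero).mp ha
  obtain ⟨g, hg⟩ := dvd_iff_isRoot.mpr hroot
  have hgm : g.Monic := by
    have h1 := hf
    rw [hg] at h1
    exact (monic_X_sub_C a).of_mul_monic_left h1
  refine ⟨a, g, hg, hgm, ?_⟩
  rw [hg, (monic_X_sub_C a).natDegree_mul hgm, natDegree_X_sub_C]
  ring

variable [Fintype F]

/-- the characteristic polynomial of an element of `SL₃(q)` divides some `X ^ j - c` with `j`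
among the five values -/
theorem exists_dvd_of_cubic (p : ℕ) [Fact p.Prime] [CharP F p] (f : F[X]) (hf : f.Monic)
    (hdeg : f.natDegree = 3) (h0 : f.coeff 0 = -1) :
    ∃ (j : ℕ) (c : F), f ∣ X ^ j - C c ∧
      (j = (Fintype.card F ^ 2 + Fintype.card F + 1) / Nat.gcd 3 (Fintype.card F - 1) ∨
       j = (Fintype.card F ^ 2 - 1) / Nat.gcd 3 (Fintype.card F - 1) ∨
       j = Fintype.card F - 1 ∨
       j = p * ((Fintype.card F - 1) / Nat.gcd 3 (Fintype.card F - 1)) ∨
       (p = 2 ∧ j = 4)) := by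
  have hp : p.Prime := Fact.out
  by_cases hirr : Irreducible f
  · obtain ⟨c, hc⟩ := exists_dvd_of_irreducible f hf hirr hdeg h0
    exact ⟨(Fintype.card F ^ 2 + Fintype.card F + 1) / Nat.gcd 3 (Fintype.card F - 1), c, hc,
      Or.inl rfl⟩
  obtain ⟨a, g, hfg, hgm, hgd⟩ := exists_factor_of_not_irreducible f hf (by omega) (by omega) hirr
  have hgd2 : g.natDegree = 2 := by omega
  have hcoef : a * g.coeff 0 = 1 := by
    have h1 : f.coeff 0 = -(a * g.coeff 0) := by
      rw [hfg, coeff_zero_eq_eval_zero, eval_mul, eval_sub, eval_X, eval_C,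
        ← coeff_zero_eq_eval_zero]
      ring
    rw [h0] at h1
    exact (neg_injective h1).symm
  by_cases hirr2 : Irreducible g
  · refine ⟨(Fintype.card F ^ 2 - 1) / Nat.gcd 3 (Fintype.card F - 1),
      a ^ ((Fintype.card F ^ 2 - 1) / Nat.gcd 3 (Fintype.card F - 1)), ?_, Or.inr (Or.inl rfl)⟩
    rw [hfg]
    exact dvd_of_linear_mul_quadratic a g hgm hirr2 hgd2 hcoef
  obtain ⟨b, g', hgg', hg'm, hg'd⟩ :=
    exists_factor_of_not_irreducible g hgm (by omega) (by omega) hirr2
  have hg'd1 : g'.natDegree = 1 := by omega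
  have hg'X := hg'm.eq_X_add_C hg'd1
  set c : F := - g'.coeff 0 with hc
  have hg'c : g' = X - C c := by
    rw [hc, map_neg, sub_neg_eq_add]
    exact hg'X
  have hfabc : f = (X - C a) * (X - C b) * (X - C c) := by
    rw [hfg, hgg', hg'c, mul_assoc]
  have habc : a * b * c = 1 := by
    have h1 : g.coeff 0 = b * c := by
      rw [hgg', hg'c, coeff_zero_eq_eval_zero, eval_mul, eval_sub, eval_sub, eval_X, eval_C,
        eval_C]
      ring
    rw [h1, ← mul_assoc] at hcoef
    exact hcoef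
  -- the repeated-root case, given two equal roots `u, u` and a third `v`
  have hrep : ∀ u v : F, u ^ 2 * v = 1 → f = (X - C u) ^ 2 * (X - C v) →
      ∃ (j : ℕ) (c : F), f ∣ X ^ j - C c ∧
      (j = (Fintype.card F ^ 2 + Fintype.card F + 1) / Nat.gcd 3 (Fintype.card F - 1) ∨
       j = (Fintype.card F ^ 2 - 1) / Nat.gcd 3 (Fintype.card F - 1) ∨
       j = Fintype.card F - 1 ∨
       j = p * ((Fintype.card F - 1) / Nat.gcd 3 (Fintype.card F - 1)) ∨
       (p = 2 ∧ j = 4)) := by
    intro u v huv hfuv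
    by_cases hcase : u ≠ v ∨ 3 ≤ p
    · refine ⟨p * ((Fintype.card F - 1) / Nat.gcd 3 (Fintype.card F - 1)),
        u ^ (p * ((Fintype.card F - 1) / Nat.gcd 3 (Fintype.card F - 1))), ?_,
        Or.inr (Or.inr (Or.inr (Or.inl rfl)))⟩
      rw [hfuv]
      exact dvd_of_repeated p u v huv hcase
    · push Not at hcase
      obtain ⟨huv', hp3⟩ := hcase
      have hp2 : p = 2 := by
        have := hp.two_le
        omega
      subst hp2
      refine ⟨4, u ^ 4, ?_, Or.inr (Or.inr (Or.inr (Or.inr ⟨rfl, rfl⟩)))⟩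
      rw [hfuv, ← huv']
      have h4 : (X - C u : F[X]) ^ 2 * (X - C u) = (X - C u) ^ 3 := by ring
      rw [h4]
      exact dvd_of_triple_two u
  by_cases hab : a = b
  · apply hrep a c
    · rw [sq]; rw [hab] at habc ⊢; exact habc
    · rw [hfabc, hab]; ring
  by_cases hac : a = c
  · apply hrep a b
    · rw [← habc, ← hac]; ring
    · rw [hfabc, ← hac]; ring
  by_cases hbc : b = c
  · apply hrep b a
    · rw [← habc, ← hbc]; ring
    · rw [hfabc, ← hbc]; ring
  refine ⟨Fintype.card F - 1, 1, ?_, Or.inr (Or.inr (Or.inl rfl))⟩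
  rw [hfabc]
  exact dvd_of_distinct a b c hab hac hbc habc

end Cfsg.Agent.Helper8.PS3
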