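import Cfsg.Agent.Helper8.PS3Basic
set_option autoImplicit false

namespace Cfsg.Agent.Helper8.PS3

open Polynomial Matrix
open Cfsg.Agent.Helper8.SemiS Cfsg.Agent.Helper8.PGraph

variable {F : Type*} [Field F] [Fintype F]

theorem two_le_card : 2 ≤ Fintype.card F := Fintype.one_lt_card

omit [Field F] in
theorem gcd_dvd_sub_one : Nat.gcd 3 (Fintype.card F - 1) ∣ Fintype.card F - 1 :=
  Nat.gcd_dvd_right _ _

omit [Field F] in
theorem gcd_pos' : 0 < Nat.gcd 3 (Fintype.card F - 1) := Nat.gcd_pos_of_pos_left _ (by norm_num)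

omit [Fintype F] in
theorem X_sub_C_dvd_X_pow_sub_C (a : F) (j : ℕ) : (X - C a : F[X]) ∣ X ^ j - C (a ^ j) := by
  rw [dvd_iff_isRoot, IsRoot.def, eval_sub, eval_pow, eval_X, eval_C, sub_self]

/-- linear times irreducible quadratic -/
theorem dvd_of_linear_mul_quadratic (a : F) (g : F[X]) (hg : g.Monic) (hirr : Irreducible g)
    (hdeg : g.natDegree = 2) (h0 : a * g.coeff 0 = 1) :
    (X - C a) * g ∣ X ^ ((Fintype.card F ^ 2 - 1) / Nat.gcd 3 (Fintype.card F - 1))
      - C (a ^ ((Fintype.card F ^ 2 - 1) / Nat.gcd 3 (Fintype.card F - 1))) := by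
  have hq := two_le_card (F := F)
  set d := Nat.gcd 3 (Fintype.card F - 1) with hd
  set M' := (Fintype.card F ^ 2 - 1) / d with hM'
  obtain ⟨s, hs⟩ : ∃ s, Fintype.card F = s + 1 := ⟨Fintype.card F - 1, by omega⟩
  have hs1 : 1 ≤ s := by omega
  have hds : d ∣ s := by
    have := gcd_dvd_sub_one (F := F)
    rw [← hd] at this
    rwa [hs, Nat.add_sub_cancel] at this
  have hd3 : d ∣ 3 := Nat.gcd_dvd_left _ _
  have hq2 : Fintype.card F ^ 2 - 1 = s * (s + 2) := by
    rw [hs]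
    have : (s + 1) ^ 2 = s * (s + 2) + 1 := by ring
    omega
  have hdM' : d * M' = Fintype.card F ^ 2 - 1 := by
    rw [hM']
    apply Nat.mul_div_cancel'
    rw [hq2]
    exact dvd_mul_of_dvd_left hds _
  have h1 := root_pow_norm g hg hirr
  rw [hdeg] at h1
  have e1 : (Fintype.card F ^ 2 - 1) / (Fintype.card F - 1) = Fintype.card F + 1 := by
    rw [hq2, hs, Nat.add_sub_cancel]
    have : s + 1 + 1 = s + 2 := by ring
    rw [this]
    exact Nat.mul_div_cancel_left _ (by omega)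
  have e2 : ((-1 : F) ^ 2 * g.coeff 0) = g.coeff 0 := by ring
  rw [e1, e2] at h1
  have : Fact (Irreducible g) := ⟨hirr⟩
  have : Module.Finite F (AdjoinRoot g) := hg.finite_adjoinRoot
  have : Finite (AdjoinRoot g) := Module.finite_of_finite F
  haveI : Fintype (AdjoinRoot g) := Fintype.ofFinite _
  have hcard : Fintype.card (AdjoinRoot g) = Fintype.card F ^ 2 := by
    rw [← Nat.card_eq_fintype_card, card_adjoinRoot g hg, hdeg]
  set β := AdjoinRoot.root g with hβ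
  set α := AdjoinRoot.of g a with hα
  have hαβ : α * β ^ (Fintype.card F + 1) = 1 := by
    rw [h1, hα, ← map_mul, h0, map_one]
  have hβ0 : β ≠ 0 := by
    intro h
    rw [h, zero_pow (by omega), mul_zero] at hαβ
    exact zero_ne_one hαβ
  have hβq : β ^ (Fintype.card F ^ 2 - 1) = 1 := by
    rw [← hcard]
    exact FiniteField.pow_card_sub_one_eq_one β hβ0
  -- (q + 2) M' is a multiple of q² - 1
  obtain ⟨e, he⟩ : d ∣ Fintype.card F + 2 := by
    have : Fintype.card F + 2 = s + 3 := by rw [hs]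
    rw [this]
    exact dvd_add hds hd3
  have hmul : (Fintype.card F + 2) * M' = e * (Fintype.card F ^ 2 - 1) := by
    rw [he, ← hdM']; ring
  have hkey : β ^ M' = α ^ M' := by
    calc β ^ M' = β ^ M' * (α * β ^ (Fintype.card F + 1)) ^ M' := by rw [hαβ, one_pow, mul_one]
      _ = α ^ M' * β ^ ((Fintype.card F + 2) * M') := by ring
      _ = α ^ M' := by rw [hmul, mul_comm e, pow_mul, hβq, one_pow, mul_one]
  have hg' : g ∣ X ^ M' - C (a ^ M') := by
    rw [dvd_X_pow_sub_C_iff, map_pow]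
    exact hkey
  have hcop : IsCoprime (X - C a) g := by
    rw [isCoprime_comm]
    apply hirr.coprime_iff_not_dvd.mpr
    intro hdvd
    have := Polynomial.natDegree_le_of_dvd hdvd (X_sub_C_ne_zero a)
    rw [hdeg, natDegree_X_sub_C] at this
    omega
  exact hcop.mul_dvd (X_sub_C_dvd_X_pow_sub_C a M') hg'

/-- three distinct roots -/
theorem dvd_of_distinct (a b c : F) (hab : a ≠ b) (hac : a ≠ c) (hbc : b ≠ c) (h : a * b * c = 1) :
    (X - C a) * (X - C b) * (X - C c) ∣ X ^ (Fintype.card F - 1) - C (1 : F) := by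
  have ha0 : a ≠ 0 := by rintro rfl; simp at h
  have hb0 : b ≠ 0 := by rintro rfl; simp at h
  have hc0 : c ≠ 0 := by rintro rfl; simp at h
  have h1 : ∀ t : F, t ≠ 0 → (X - C t : F[X]) ∣ X ^ (Fintype.card F - 1) - C (1 : F) := by
    intro t ht
    have := X_sub_C_dvd_X_pow_sub_C t (Fintype.card F - 1)
    rwa [FiniteField.pow_card_sub_one_eq_one t ht] at this
  have c1 : IsCoprime (X - C a : F[X]) (X - C b) :=
    Polynomial.isCoprime_X_sub_C_of_isUnit_sub (sub_ne_zero.mpr hab).isUnit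
  have c2 : IsCoprime (X - C a : F[X]) (X - C c) :=
    Polynomial.isCoprime_X_sub_C_of_isUnit_sub (sub_ne_zero.mpr hac).isUnit
  have c3 : IsCoprime (X - C b : F[X]) (X - C c) :=
    Polynomial.isCoprime_X_sub_C_of_isUnit_sub (sub_ne_zero.mpr hbc).isUnit
  exact (IsCoprime.mul_left c2 c3).mul_dvd (c1.mul_dvd (h1 a ha0) (h1 b hb0)) (h1 c hc0)

/-- a repeated root -/
theorem dvd_of_repeated (p : ℕ) [Fact p.Prime] [CharP F p] (a b : F) (h : a ^ 2 * b = 1)
    (hab : a ≠ b ∨ 3 ≤ p) :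
    (X - C a) ^ 2 * (X - C b) ∣
      X ^ (p * ((Fintype.card F - 1) / Nat.gcd 3 (Fintype.card F - 1)))
      - C (a ^ (p * ((Fintype.card F - 1) / Nat.gcd 3 (Fintype.card F - 1)))) := by
  have hp : p.Prime := Fact.out
  set d := Nat.gcd 3 (Fintype.card F - 1) with hd
  set M := (Fintype.card F - 1) / d with hM
  have hdM : d * M = Fintype.card F - 1 := Nat.mul_div_cancel' gcd_dvd_sub_one
  have ha0 : a ≠ 0 := by rintro rfl; simp at h
  obtain ⟨e, he⟩ : d ∣ 3 := Nat.gcd_dvd_left _ _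
  have h3M : a ^ (3 * M) = 1 := by
    have : 3 * M = (Fintype.card F - 1) * e := by rw [he, ← hdM]; ring
    rw [this, pow_mul, FiniteField.pow_card_sub_one_eq_one a ha0, one_pow]
  have hbM : b ^ M = a ^ M := by
    have h1 : a ^ (2 * M) * b ^ M = 1 := by
      rw [pow_mul, ← mul_pow, h, one_pow]
    calc b ^ M = b ^ M * a ^ (3 * M) := by rw [h3M, mul_one]
      _ = (a ^ (2 * M) * b ^ M) * a ^ M := by ring
      _ = a ^ M := by rw [h1, one_mul]
  have e1 : (X ^ (p * M) - C (a ^ (p * M)) : F[X]) = (X ^ M - C (a ^ M)) ^ p := by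
    rw [sub_pow_char, ← pow_mul, ← C_pow, ← pow_mul, mul_comm M p]
  rw [e1]
  have h1 : (X - C a : F[X]) ∣ X ^ M - C (a ^ M) := X_sub_C_dvd_X_pow_sub_C a M
  have h2 : (X - C b : F[X]) ∣ X ^ M - C (a ^ M) := by
    rw [← hbM]; exact X_sub_C_dvd_X_pow_sub_C b M
  rcases hab with hab | hp3
  · have c1 : IsCoprime (X - C a : F[X]) (X - C b) :=
      Polynomial.isCoprime_X_sub_C_of_isUnit_sub (sub_ne_zero.mpr hab).isUnit
    have h3 := c1.mul_dvd h1 h2
    have h4 : (X - C a : F[X]) ^ 2 * (X - C b) ∣ ((X - C a) * (X - C b)) ^ 2 :=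
      ⟨X - C b, by ring⟩
    exact dvd_trans h4 (dvd_trans (pow_dvd_pow_of_dvd h3 2) (pow_dvd_pow _ hp.two_le))
  · by_cases hab : a = b
    · subst hab
      have h4 : (X - C a : F[X]) ^ 2 * (X - C a) = (X - C a) ^ 3 := by ring
      rw [h4]
      exact dvd_trans (pow_dvd_pow _ hp3) (pow_dvd_pow_of_dvd h1 p)
    · have c1 : IsCoprime (X - C a : F[X]) (X - C b) :=
        Polynomial.isCoprime_X_sub_C_of_isUnit_sub (sub_ne_zero.mpr hab).isUnit
      have h3 := c1.mul_dvd h1 h2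
      have h4 : (X - C a : F[X]) ^ 2 * (X - C b) ∣ ((X - C a) * (X - C b)) ^ 2 :=
        ⟨X - C b, by ring⟩
      exact dvd_trans h4 (dvd_trans (pow_dvd_pow_of_dvd h3 2) (pow_dvd_pow _ hp.two_le))

omit [Fintype F] in
/-- triple root in characteristic two -/
theorem dvd_of_triple_two [CharP F 2] (a : F) :
    (X - C a) ^ 3 ∣ (X ^ 4 - C (a ^ 4) : F[X]) := by
  have : Fact (Nat.Prime 2) := ⟨Nat.prime_two⟩
  have e1 : (X ^ 4 - C (a ^ 4) : F[X]) = (X - C a) ^ 4 := by
    have h1 : ((X - C a : F[X]) ^ 2) ^ 2 = (X ^ 2 - C a ^ 2) ^ 2 := by rw [sub_pow_char]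
    have h2 : ((X ^ 2 - C a ^ 2 : F[X])) ^ 2 = (X ^ 2) ^ 2 - (C a ^ 2) ^ 2 := by rw [sub_pow_char]
    rw [← pow_mul] at h1
    rw [h1, h2, C_pow]
    ring
  rw [e1]
  exact pow_dvd_pow _ (by norm_num)

/-- `d ∣ q² + q + 1` -/
theorem gcd_mul_div_one :
    Nat.gcd 3 (Fintype.card F - 1) *
      ((Fintype.card F ^ 2 + Fintype.card F + 1) / Nat.gcd 3 (Fintype.card F - 1)) =
      Fintype.card F ^ 2 + Fintype.card F + 1 := by
  have hq := two_le_card (F := F)
  obtain ⟨s, hs⟩ : ∃ s, Fintype.card F = s + 1 := ⟨Fintype.card F - 1, by omega⟩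
  rw [hs, Nat.add_sub_cancel, ← gcd_one s]
  exact Nat.mul_div_cancel' (Nat.gcd_dvd_left _ _)

/-- irreducible cubic -/
theorem exists_dvd_of_irreducible (f : F[X]) (hf : f.Monic) (hirr : Irreducible f)
    (hdeg : f.natDegree = 3) (h0 : f.coeff 0 = -1) :
    ∃ c : F, f ∣ X ^ ((Fintype.card F ^ 2 + Fintype.card F + 1) / Nat.gcd 3 (Fintype.card F - 1))
      - C c := by
  have hq := two_le_card (F := F)
  have h1 := root_pow_norm f hf hirr
  rw [hdeg, h0] at h1
  have e1 : (Fintype.card F ^ 3 - 1) / (Fintype.card F - 1) =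
      Fintype.card F ^ 2 + Fintype.card F + 1 := by
    obtain ⟨s, hs⟩ : ∃ s, Fintype.card F = s + 1 := ⟨Fintype.card F - 1, by omega⟩
    rw [hs, Nat.add_sub_cancel]
    have : (s + 1) ^ 3 - 1 = s * ((s + 1) ^ 2 + (s + 1) + 1) := by
      have : (s + 1) ^ 3 = s * ((s + 1) ^ 2 + (s + 1) + 1) + 1 := by ring
      omega
    rw [this]
    exact Nat.mul_div_cancel_left _ (by omega)
  have e2 : ((-1 : F) ^ 3 * -1) = 1 := by ring
  rw [e1, e2, map_one, ← gcd_mul_div_one, mul_comm, pow_mul] at h1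
  have : Fact (Irreducible f) := ⟨hirr⟩
  obtain ⟨c, hc⟩ := mem_range_of_pow_eq_one (F := F) (K := AdjoinRoot f)
    (Nat.gcd 3 (Fintype.card F - 1)) gcd_pos'.ne' gcd_dvd_sub_one _ h1
  refine ⟨c, ?_⟩
  rw [dvd_X_pow_sub_C_iff]
  exact hc.symm

end Cfsg.Agent.Helper8.PS3
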