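import Cfsg.Agent.Helper8.PS3Sub
set_option autoImplicit false

namespace Cfsg.Agent.Helper8.PS3

open Polynomial Matrix
open Cfsg.Agent.Helper8.SemiS Cfsg.Agent.Helper8.PGraph Cfsg.Agent.Helper8.RP

variable {F : Type*} [Field F]

/-- powers of a matrix with irreducible characteristic polynomial -/
theorem pow_eq_smul_one_iff {n : ℕ} (A : Matrix (Fin n) (Fin n) F) (hirr : Irreducible A.charpoly)
    (j : ℕ) (c : F) : A ^ j = c • 1 ↔ A.charpoly ∣ X ^ j - C c := by
  have hn : Nonempty (Fin n) := by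
    have h1 := hirr.natDegree_pos
    rw [Matrix.charpoly_natDegree_eq_dim, Fintype.card_fin] at h1
    exact ⟨⟨0, h1⟩⟩
  constructor
  · intro h
    have h1 : aeval A (X ^ j - C c : F[X]) = 0 := by
      rw [PGLr.aeval_X_pow_sub_C, h, sub_self]
    have h2 : minpoly F A ∣ X ^ j - C c := minpoly.dvd F A h1
    obtain ⟨w, hw⟩ := Matrix.minpoly_dvd_charpoly A
    have h3 : ¬ IsUnit (minpoly F A) := minpoly.not_isUnit F A
    rcases hirr.isUnit_or_isUnit hw with h4 | h4
    · exact absurd h4 h3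
    · obtain ⟨u, hu⟩ := h4
      have : A.charpoly ∣ minpoly F A := by
        refine ⟨(↑u⁻¹ : F[X]), ?_⟩
        rw [hw, ← hu, mul_assoc, Units.mul_inv, mul_one]
      exact dvd_trans this h2
  · rintro ⟨w, hw⟩
    have h1 : aeval A (X ^ j - C c : F[X]) = 0 := by
      rw [hw, map_mul, Matrix.aeval_self_charpoly, zero_mul]
    rw [PGLr.aeval_X_pow_sub_C, sub_eq_zero] at h1
    exact h1

/-- a matrix with prescribed monic characteristic polynomial -/
theorem exists_matrix_charpoly (P : F[X]) (hP : P.Monic) (n : ℕ) (hn : P.natDegree = n) :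
    ∃ A : Matrix (Fin n) (Fin n) F, A.charpoly = P := by
  classical
  obtain ⟨A, hA1, _⟩ := matrix_of_expo (n := n) (fun _ : Fin 1 => P) P
    (fun _ => hP) (fun _ => 1) (fun _ _ => dvd_rfl) (by
      rw [Fin.sum_univ_one, one_mul, hn])
  rw [Fin.prod_univ_one, pow_one] at hA1
  exact ⟨A, hA1⟩

variable [Fintype F]

/-- an irreducible factor of a cyclotomic polynomial over a finite field -/
theorem exists_cyclotomic_factor (p : ℕ) [Fact p.Prime] [CharP F p] (m : ℕ) (hm : 1 < m)
    (hmp : p.Coprime m) :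
    ∃ P : F[X], P.Monic ∧ Irreducible P ∧
      P.natDegree = orderOf ((Fintype.card F : ℕ) : ZMod m) ∧ orderOf (AdjoinRoot.root P) = m := by
  have hp : p.Prime := Fact.out
  obtain ⟨f, hf⟩ := FiniteField.card F p
  have hK : Fintype.card F = p ^ (f : ℕ) := hf.2
  have hnu : ¬ IsUnit (cyclotomic m F) := by
    intro h
    have h1 := natDegree_eq_zero_of_isUnit h
    rw [natDegree_cyclotomic] at h1
    have := Nat.totient_pos.mpr (by omega : 0 < m)
    omega
  obtain ⟨P, hP1, hP2, hP3⟩ := Polynomial.exists_monic_irreducible_factor (cyclotomic m F) hnu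
  refine ⟨P, hP1, hP2, ?_, ?_⟩
  · rw [Polynomial.natDegree_of_dvd_cyclotomic_of_irreducible hK hmp hP3 hP2,
      orderOf_unitOfCoprime, hK]
  · have : Fact (Irreducible P) := ⟨hP2⟩
    have hchar : CharP (AdjoinRoot P) p := charP_of_injective_algebraMap
      (algebraMap F (AdjoinRoot P)).injective p
    have hne : NeZero ((m : ℕ) : AdjoinRoot P) := by
      constructor
      intro h0
      have h1 := (CharP.cast_eq_zero_iff (AdjoinRoot P) p m).mp h0
      have h2 : p ∣ Nat.gcd p m := Nat.dvd_gcd dvd_rfl h1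
      rw [hmp] at h2
      exact hp.one_lt.ne' (Nat.dvd_one.mp h2)
    have hroot : IsRoot (cyclotomic m (AdjoinRoot P)) (AdjoinRoot.root P) := by
      rw [← Polynomial.map_cyclotomic m (AdjoinRoot.of P), IsRoot.def, eval_map,
        ← AdjoinRoot.algebraMap_eq, ← aeval_def, AdjoinRoot.aeval_eq, AdjoinRoot.mk_eq_zero]
      exact hP3
    exact ((Polynomial.isRoot_cyclotomic_iff).mp hroot).eq_orderOf.symm

end Cfsg.Agent.Helper8.PS3
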