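import Cfsg.Agent.Helper8.PS3Other
set_option autoImplicit false

namespace Cfsg.Agent.Helper8.PS3

open Polynomial Matrix
open Cfsg.Agent.Helper8.SemiS Cfsg.Agent.Helper8.PGraph Cfsg.Agent.Helper8.RP

theorem exists_orderOf_of_dvd {G : Type*} [Group G] [Finite G] (x₀ : G) (m : ℕ)
    (h : m ∣ orderOf x₀) : ∃ x : G, orderOf x = m := by
  obtain ⟨w, hw⟩ := h
  have hpos : 0 < orderOf x₀ := orderOf_pos x₀
  have hw0 : w ≠ 0 := by
    rintro rfl
    rw [mul_zero] at hw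
    omega
  have hm0 : 0 < w := Nat.pos_of_ne_zero hw0
  refine ⟨x₀ ^ w, ?_⟩
  rw [orderOf_pow_of_dvd hw0 ⟨m, by rw [hw, mul_comm]⟩, hw, Nat.mul_div_cancel _ hm0]

variable {F : Type*} [Field F] [Fintype F]

theorem psl_three_spectrum (p : ℕ) [Fact p.Prime] [CharP F p] :
    Set.range (orderOf : Matrix.ProjectiveSpecialLinearGroup (Fin 3) F → ℕ) =
      {m : ℕ | m ∣ (Fintype.card F ^ 2 + Fintype.card F + 1) / Nat.gcd 3 (Fintype.card F - 1) ∨
        m ∣ (Fintype.card F ^ 2 - 1) / Nat.gcd 3 (Fintype.card F - 1) ∨ m ∣ Fintype.card F - 1 ∨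
        m ∣ p * (Fintype.card F - 1) / Nat.gcd 3 (Fintype.card F - 1) ∨ (p = 2 ∧ m ∣ 4)} := by
  classical
  have : Finite (Matrix.ProjectiveSpecialLinearGroup (Fin 3) F) := by
    unfold Matrix.ProjectiveSpecialLinearGroup
    infer_instance
  ext m
  simp only [Set.mem_range, Set.mem_ofPred_eq]
  constructor
  · rintro ⟨x, rfl⟩
    exact orderOf_dvd_cases p x
  · rintro (h | h | h | h | ⟨h2, h⟩)
    · obtain ⟨x₀, hx₀⟩ := exists_orderOf_singer (F := F) p
      rw [← hx₀] at h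
      exact exists_orderOf_of_dvd x₀ m h
    · obtain ⟨x₀, hx₀⟩ := exists_orderOf_quad (F := F) p
      rw [← hx₀] at h
      exact exists_orderOf_of_dvd x₀ m h
    · obtain ⟨x₀, hx₀⟩ := exists_orderOf_split (F := F)
      rw [← hx₀] at h
      exact exists_orderOf_of_dvd x₀ m h
    · obtain ⟨x₀, hx₀⟩ := exists_orderOf_mixed (F := F) p
      rw [← hx₀] at h
      exact exists_orderOf_of_dvd x₀ m h
    · subst h2
      obtain ⟨x₀, hx₀⟩ := exists_orderOf_four (F := F)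
      rw [← hx₀] at h
      exact exists_orderOf_of_dvd x₀ m h

end Cfsg.Agent.Helper8.PS3
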