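import Cfsg.Agent.Helper8.PS3Torus
set_option autoImplicit false

namespace Cfsg.Agent.Helper8.PS3

open Polynomial Matrix
open Cfsg.Agent.Helper8.SemiS Cfsg.Agent.Helper8.PGraph Cfsg.Agent.Helper8.RP

variable {F : Type*} [Field F] [Fintype F]

/-- a split torus element of order `q - 1` -/
theorem exists_orderOf_split :
    ∃ x : Matrix.ProjectiveSpecialLinearGroup (Fin 3) F, orderOf x = Fintype.card F - 1 := by
  have hq : 2 ≤ Fintype.card F := Fintype.one_lt_card
  obtain ⟨a, ha⟩ := PGLr.exists_primitiveRoot (F := F) (Fintype.card F - 1) dvd_rfl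
  have ha0 : a ≠ 0 := ha.ne_zero (by omega)
  apply exists_orderOf_psl 3 _ (Matrix.diagonal ![a, a⁻¹, 1])
  · rw [Matrix.det_diagonal, Fin.prod_univ_three]
    simp [ha0]
  intro j
  rw [Matrix.diagonal_pow, ← ha.pow_eq_one_iff_dvd]
  constructor
  · rintro ⟨c, hc⟩
    have h1 := congrFun (congrFun hc 2) 2
    have h2 := congrFun (congrFun hc 0) 0
    simp at h1 h2
    rw [h2, ← h1]
  · intro h
    refine ⟨1, ?_⟩
    rw [one_smul, ← Matrix.diagonal_one]
    congr 1
    funext i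
    fin_cases i
    · simpa using h
    · simp [h]
    · simp

omit [Fintype F] in
/-- the regular unipotent element in characteristic two has order four -/
theorem exists_orderOf_four [CharP F 2] :
    ∃ x : Matrix.ProjectiveSpecialLinearGroup (Fin 3) F, orderOf x = 4 := by
  have h2 : (1 : F) + 1 = 0 := CharTwo.add_self_eq_zero 1
  let X : Matrix (Fin 3) (Fin 3) F := !![1, 1, 0; 0, 1, 1; 0, 0, 1]
  have hdet : X.det = 1 := by
    simp [X, Matrix.det_fin_three]
  have hX2 : X ^ 2 = !![1, 0, 1; 0, 1, 0; 0, 0, 1] := by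
    rw [sq]
    ext i k
    fin_cases i <;> fin_cases k <;> simp [X, Matrix.mul_apply, Fin.sum_univ_three, h2]
  have hX4 : X ^ 4 = 1 := by
    have : X ^ 4 = X ^ 2 * X ^ 2 := by rw [← pow_add]
    rw [this, hX2]
    ext i k
    fin_cases i <;> fin_cases k <;> simp [Matrix.mul_apply, Fin.sum_univ_three, h2]
  let x₀ : Matrix.SpecialLinearGroup (Fin 3) F := ⟨X, hdet⟩
  have hx₀ : (x₀ : Matrix (Fin 3) (Fin 3) F) = X := rfl
  refine ⟨QuotientGroup.mk x₀, ?_⟩
  have : Fact (Nat.Prime 2) := ⟨Nat.prime_two⟩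
  have h4 : (4 : ℕ) = 2 ^ (1 + 1) := by norm_num
  rw [h4]
  apply orderOf_eq_prime_pow
  · rw [pow_one, psl_pow_eq_one_iff, hx₀, hX2]
    rintro ⟨c, hc⟩
    have h1 := congrFun (congrFun hc 0) 2
    simp at h1
  · rw [← h4, psl_pow_eq_one_iff, hx₀, hX4]
    exact ⟨1, (one_smul _ _).symm⟩


omit [Fintype F] in
theorem mul_dvd_iff_coprime (r p : ℕ) (hrp : r.Coprime p) (j : ℕ) :
    r * p ∣ j ↔ r ∣ j ∧ p ∣ j := by
  constructor
  · intro h
    exact ⟨dvd_trans (dvd_mul_right r p) h, dvd_trans (dvd_mul_left p r) h⟩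
  · rintro ⟨h1, h2⟩
    exact hrp.mul_dvd_of_dvd_of_dvd h1 h2

omit [Fintype F] in
theorem exists_psl_three_coprime (p : ℕ) [Fact p.Prime] [CharP F p] (r : ℕ)
    (hrp : r.Coprime p) (a : F) (ha : a ≠ 0) (h : ∀ j : ℕ, a ^ (3 * j) = 1 ↔ r ∣ j) :
    ∃ x : Matrix.ProjectiveSpecialLinearGroup (Fin (2 + 1)) F, orderOf x = r * p := by
  have hp : p.Prime := Fact.out
  have h01 : (0 : Fin 2) ≠ 1 := by decide
  apply exists_orderOf_psl (2 + 1) (r * p)
    (blk (a • Matrix.transvection (0 : Fin 2) 1 (1 : F)) ((a⁻¹ ^ 2) • (1 : Matrix (Fin 1) (Fin 1) F)))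
  · rw [blk_det, Matrix.det_smul, Matrix.det_smul, Matrix.det_transvection_of_ne _ _ h01,
      Matrix.det_one, Fintype.card_fin, Fintype.card_fin, mul_one, mul_one, pow_one, inv_pow,
      mul_inv_cancel₀ (pow_ne_zero 2 ha)]
  · intro j
    rw [mul_dvd_iff_coprime r p hrp, blk_pow, _root_.smul_pow, _root_.smul_pow, one_pow,
      transvection_pow (0 : Fin 2) 1 h01, ← h j]
    have haj : a ^ j ≠ 0 := pow_ne_zero j ha
    have key : ∀ c : F, a ^ j • Matrix.transvection (0 : Fin 2) 1 (j : F) = c • 1 ↔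
        (j : F) = 0 ∧ c = a ^ j := by
      intro c
      have : a ^ j • Matrix.transvection (0 : Fin 2) 1 (j : F) = c • 1 ↔
          Matrix.transvection (0 : Fin 2) 1 (j : F) = ((a ^ j)⁻¹ * c) • 1 := by
        constructor
        · intro h1
          rw [← smul_smul, ← h1, smul_smul, inv_mul_cancel₀ haj, one_smul]
        · intro h1
          rw [h1, smul_smul, mul_inv_cancel_left₀ haj]
      rw [this, transvection_eq_smul_one_iff (0 : Fin 2) 1 h01]
      constructor
      · rintro ⟨h1, h2⟩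
        refine ⟨h1, ?_⟩
        rw [← mul_one (a ^ j), ← h2, mul_inv_cancel_left₀ haj]
      · rintro ⟨h1, rfl⟩
        exact ⟨h1, inv_mul_cancel₀ haj⟩
    have key2 : ∀ c : F, ((a⁻¹ ^ 2) ^ j • (1 : Matrix (Fin 1) (Fin 1) F) = c • 1) ↔
        (a⁻¹ ^ 2) ^ j = c := by
      intro c
      constructor
      · intro h1
        have := congrFun (congrFun h1 0) 0
        simpa using this
      · rintro rfl; rfl
    have key3 : (a⁻¹ ^ 2) ^ j = a ^ j ↔ a ^ (3 * j) = 1 := by
      have e1 : a ^ (3 * j) = a ^ j * (a ^ 2) ^ j := by ring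
      have e2 : (a⁻¹ ^ 2) ^ j * (a ^ 2) ^ j = 1 := by
        rw [← mul_pow, ← mul_pow, inv_mul_cancel₀ ha, one_pow, one_pow]
      have e3 : (a ^ 2) ^ j ≠ 0 := pow_ne_zero _ (pow_ne_zero _ ha)
      constructor
      · intro h1
        rw [e1, ← h1, e2]
      · intro h1
        apply mul_right_cancel₀ e3
        rw [e2, ← e1, h1]
    constructor
    · rintro ⟨c, hc⟩
      rw [blk_eq_smul_one_iff, key, key2] at hc
      obtain ⟨⟨h1, h2⟩, h3⟩ := hc
      refine ⟨?_, (CharP.cast_eq_zero_iff F p j).mp h1⟩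
      rw [← key3, h3, h2]
    · rintro ⟨h1, h2⟩
      refine ⟨a ^ j, ?_⟩
      rw [blk_eq_smul_one_iff, key, key2]
      exact ⟨⟨(CharP.cast_eq_zero_iff F p j).mpr h2, rfl⟩, key3.mpr h1⟩


/-- an element of order `p (q - 1) / d` -/
theorem exists_orderOf_mixed (p : ℕ) [Fact p.Prime] [CharP F p] :
    ∃ x : Matrix.ProjectiveSpecialLinearGroup (Fin (2 + 1)) F,
      orderOf x = p * (Fintype.card F - 1) / Nat.gcd 3 (Fintype.card F - 1) := by
  have hp : p.Prime := Fact.out
  have hq : 2 ≤ Fintype.card F := Fintype.one_lt_card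
  obtain ⟨a, ha⟩ := PGLr.exists_primitiveRoot (F := F) (Fintype.card F - 1) dvd_rfl
  have ha0 : a ≠ 0 := ha.ne_zero (by omega)
  set M := (Fintype.card F - 1) / Nat.gcd 3 (Fintype.card F - 1) with hM
  have e1 : p * (Fintype.card F - 1) / Nat.gcd 3 (Fintype.card F - 1) = M * p := by
    rw [Nat.mul_div_assoc p gcd_dvd_sub_one, mul_comm]
  rw [e1]
  have hMdvd : M ∣ Fintype.card F - 1 := Nat.div_dvd_of_dvd gcd_dvd_sub_one
  have hcop : M.Coprime p := by
    obtain ⟨w, hw⟩ := char_dvd_card (F := F) p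
    have h1 : Nat.Coprime (Fintype.card F - 1) (Fintype.card F) := by
      have : Fintype.card F = (Fintype.card F - 1) + 1 := by omega
      rw [this, Nat.add_sub_cancel]
      simp
    exact Nat.Coprime.coprime_dvd_left hMdvd (Nat.Coprime.coprime_dvd_right ⟨w, hw⟩ h1)
  apply exists_psl_three_coprime p M hcop a ha0
  intro j
  rw [ha.pow_eq_one_iff_dvd, mul_comm 3 j, dvd_mul_iff_div_gcd _ _ _ (by omega), Nat.gcd_comm]

end Cfsg.Agent.Helper8.PS3
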