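import Mathlib
set_option autoImplicit false

/-!
Block-diagonal embeddings, and elements of order `r p` in `PSL_n(F)` built from them.
-/

namespace Cfsg.Agent.Helper8.RP

open Matrix

variable {F : Type*} [Field F]


/-- block-diagonal embedding -/
noncomputable def blk {m₁ m₂ : ℕ} (X₁ : Matrix (Fin m₁) (Fin m₁) F) (X₂ : Matrix (Fin m₂) (Fin m₂) F) :
    Matrix (Fin (m₁ + m₂)) (Fin (m₁ + m₂)) F :=
  Matrix.reindexAlgEquiv F F finSumFinEquiv (Matrix.fromBlocks X₁ 0 0 X₂)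

theorem fromBlocks_diag_pow {m₁ m₂ : ℕ} (X₁ : Matrix (Fin m₁) (Fin m₁) F)
    (X₂ : Matrix (Fin m₂) (Fin m₂) F) (j : ℕ) :
    (Matrix.fromBlocks X₁ 0 0 X₂) ^ j = Matrix.fromBlocks (X₁ ^ j) 0 0 (X₂ ^ j) := by
  induction j with
  | zero => simp [Matrix.fromBlocks_one]
  | succ j ih =>
    rw [pow_succ, ih, Matrix.fromBlocks_multiply]
    simp [pow_succ]

theorem blk_pow {m₁ m₂ : ℕ} (X₁ : Matrix (Fin m₁) (Fin m₁) F) (X₂ : Matrix (Fin m₂) (Fin m₂) F)
    (j : ℕ) : blk X₁ X₂ ^ j = blk (X₁ ^ j) (X₂ ^ j) := by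
  unfold blk
  rw [← map_pow, fromBlocks_diag_pow]

theorem blk_det {m₁ m₂ : ℕ} (X₁ : Matrix (Fin m₁) (Fin m₁) F) (X₂ : Matrix (Fin m₂) (Fin m₂) F) :
    (blk X₁ X₂).det = X₁.det * X₂.det := by
  unfold blk
  rw [Matrix.det_reindexAlgEquiv, Matrix.det_fromBlocks_zero₁₂]

theorem blk_eq_smul_one_iff {m₁ m₂ : ℕ} (X₁ : Matrix (Fin m₁) (Fin m₁) F)
    (X₂ : Matrix (Fin m₂) (Fin m₂) F) (c : F) :
    blk X₁ X₂ = c • 1 ↔ X₁ = c • 1 ∧ X₂ = c • 1 := by
  unfold blk
  have h1 : (c • 1 : Matrix (Fin (m₁ + m₂)) (Fin (m₁ + m₂)) F) =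
      Matrix.reindexAlgEquiv F F finSumFinEquiv (Matrix.fromBlocks (c • 1) 0 0 (c • 1)) := by
    have : (Matrix.fromBlocks (c • 1) 0 0 (c • 1) : Matrix (Fin m₁ ⊕ Fin m₂) (Fin m₁ ⊕ Fin m₂) F)
        = c • 1 := by
      rw [← Matrix.fromBlocks_one, Matrix.fromBlocks_smul, smul_zero, smul_zero]
    rw [this, map_smul, map_one]
  rw [h1, (Matrix.reindexAlgEquiv F F finSumFinEquiv).injective.eq_iff, Matrix.fromBlocks_inj]
  tauto



theorem psl_pow_eq_one_iff (n : ℕ) (x : Matrix.SpecialLinearGroup (Fin n) F) (j : ℕ) :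
    ((QuotientGroup.mk x : Matrix.ProjectiveSpecialLinearGroup (Fin n) F) ^ j = 1) ↔
      ∃ c : F, (x : Matrix (Fin n) (Fin n) F) ^ j = c • 1 := by
  rw [← QuotientGroup.mk_pow, QuotientGroup.eq_one_iff,
    Matrix.SpecialLinearGroup.mem_center_iff]
  constructor
  · rintro ⟨c, _, hc⟩
    refine ⟨c, ?_⟩
    rw [← Matrix.SpecialLinearGroup.coe_pow, ← hc]
    ext i k
    simp [Matrix.scalar_apply, Matrix.diagonal_apply, Matrix.one_apply]
  · rintro ⟨c, hc⟩
    refine ⟨c, ?_, ?_⟩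
    · have hdet := (x ^ j).det_coe
      rw [Matrix.SpecialLinearGroup.coe_pow, hc, Matrix.det_smul, Matrix.det_one, mul_one] at hdet
      exact hdet
    · rw [Matrix.SpecialLinearGroup.coe_pow, hc]
      ext i k
      simp [Matrix.scalar_apply, Matrix.diagonal_apply, Matrix.one_apply]

theorem exists_orderOf_psl (n N : ℕ) (X : Matrix (Fin n) (Fin n) F) (hdet : X.det = 1)
    (h : ∀ j : ℕ, (∃ c : F, X ^ j = c • 1) ↔ N ∣ j) :
    ∃ x : Matrix.ProjectiveSpecialLinearGroup (Fin n) F, orderOf x = N := by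
  let x₀ : Matrix.SpecialLinearGroup (Fin n) F := ⟨X, hdet⟩
  have hx₀ : (x₀ : Matrix (Fin n) (Fin n) F) = X := rfl
  refine ⟨QuotientGroup.mk x₀, ?_⟩
  apply Nat.dvd_antisymm
  · rw [orderOf_dvd_iff_pow_eq_one, psl_pow_eq_one_iff, hx₀]
    exact (h N).mpr dvd_rfl
  · rw [← h, ← hx₀, ← psl_pow_eq_one_iff]
    exact pow_orderOf_eq_one _

/-- powers of the elementary transvection -/
theorem transvection_pow {m : ℕ} (i k : Fin m) (hik : i ≠ k) (j : ℕ) :
    (Matrix.transvection i k (1 : F)) ^ j = Matrix.transvection i k (j : F) := by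
  induction j with
  | zero => simp
  | succ j ih =>
    rw [pow_succ, ih, Matrix.transvection_mul_transvection_same i k hik, Nat.cast_succ]

theorem transvection_eq_smul_one_iff {m : ℕ} (i k : Fin m) (hik : i ≠ k) (t c : F) :
    Matrix.transvection i k t = c • 1 ↔ t = 0 ∧ c = 1 := by
  constructor
  · intro h
    have h1 := congrFun (congrFun h i) k
    have h2 := congrFun (congrFun h i) i
    simp [Matrix.transvection, Matrix.single, hik] at h1 h2
    refine ⟨h1, ?_⟩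
    rw [← h2]
    simp [hik.symm] 
  · rintro ⟨rfl, rfl⟩
    simp

theorem mul_dvd_iff (r p : ℕ) (hr : r.Prime) (hp : p.Prime) (hrp : r ≠ p) (j : ℕ) :
    r * p ∣ j ↔ r ∣ j ∧ p ∣ j := by
  constructor
  · intro h
    exact ⟨dvd_trans (dvd_mul_right r p) h, dvd_trans (dvd_mul_left p r) h⟩
  · rintro ⟨h1, h2⟩
    exact ((Nat.coprime_primes hr hp).mpr hrp).mul_dvd_of_dvd_of_dvd h1 h2

theorem exists_psl_of_block (p : ℕ) [Fact p.Prime] [CharP F p] (r : ℕ) (hr : r.Prime)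
    (hrp : r ≠ p) (m₁ m₂ : ℕ) (hm₂ : 2 ≤ m₂) (B₀ : Matrix (Fin m₁) (Fin m₁) F)
    (hB : B₀ ^ r = 1) (hB1 : B₀ ≠ 1) (hdet : B₀.det = 1) :
    ∃ x : Matrix.ProjectiveSpecialLinearGroup (Fin (m₁ + m₂)) F, orderOf x = r * p := by
  have hp : p.Prime := Fact.out
  have : Fact r.Prime := ⟨hr⟩
  let i0 : Fin m₂ := ⟨0, by omega⟩
  let i1 : Fin m₂ := ⟨1, by omega⟩
  have h01 : i0 ≠ i1 := by
    intro h
    have := congrArg Fin.val h
    simp [i0, i1] at this
  have ho : orderOf B₀ = r := orderOf_eq_prime hB hB1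
  apply exists_orderOf_psl (m₁ + m₂) (r * p) (blk B₀ (Matrix.transvection i0 i1 1))
  · rw [blk_det, hdet, Matrix.det_transvection_of_ne _ _ h01, mul_one]
  · intro j
    rw [mul_dvd_iff r p hr hp hrp, blk_pow, transvection_pow i0 i1 h01]
    constructor
    · rintro ⟨c, hc⟩
      rw [blk_eq_smul_one_iff, transvection_eq_smul_one_iff i0 i1 h01] at hc
      obtain ⟨h1, h2, rfl⟩ := hc
      rw [one_smul] at h1
      refine ⟨?_, (CharP.cast_eq_zero_iff F p j).mp h2⟩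
      rw [← ho]
      exact orderOf_dvd_of_pow_eq_one h1
    · rintro ⟨h1, h2⟩
      refine ⟨1, ?_⟩
      rw [blk_eq_smul_one_iff, transvection_eq_smul_one_iff i0 i1 h01]
      refine ⟨?_, (CharP.cast_eq_zero_iff F p j).mpr h2, rfl⟩
      rw [one_smul]
      rw [← ho] at h1
      exact orderOf_dvd_iff_pow_eq_one.mp h1

theorem exists_psl_three (p : ℕ) [Fact p.Prime] [CharP F p] (r : ℕ) (hr : r.Prime)
    (hrp : r ≠ p) (a : F) (ha : a ≠ 0) (h : ∀ j : ℕ, a ^ (3 * j) = 1 ↔ r ∣ j) :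
    ∃ x : Matrix.ProjectiveSpecialLinearGroup (Fin (2 + 1)) F, orderOf x = r * p := by
  have hp : p.Prime := Fact.out
  have h01 : (0 : Fin 2) ≠ 1 := by decide
  apply exists_orderOf_psl (2 + 1) (r * p)
    (blk (a • Matrix.transvection (0 : Fin 2) 1 (1 : F)) ((a⁻¹ ^ 2) • (1 : Matrix (Fin 1) (Fin 1) F)))
  · rw [blk_det, Matrix.det_smul, Matrix.det_smul, Matrix.det_transvection_of_ne _ _ h01,
      Matrix.det_one, Fintype.card_fin, Fintype.card_fin, mul_one, mul_one, pow_one, inv_pow,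
      mul_inv_cancel₀ (pow_ne_zero 2 ha)]
  · intro j
    rw [mul_dvd_iff r p hr hp hrp, blk_pow, smul_pow, smul_pow, one_pow,
      transvection_pow (0 : Fin 2) 1 h01, ← h j]
    have haj : a ^ j ≠ 0 := pow_ne_zero j ha
    have key : ∀ c : F, a ^ j • Matrix.transvection (0 : Fin 2) 1 (j : F) = c • 1 ↔
        (j : F) = 0 ∧ c = a ^ j := by
      intro c
      have : a ^ j • Matrix.transvection (0 : Fin 2) 1 (j : F) = c • 1 ↔
          Matrix.transvection (0 : Fin 2) 1 (j : F) = ((a ^ j)⁻¹ * c) • 1 := by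
        constructor
        · intro h1
          rw [← smul_smul, ← h1, smul_smul, inv_mul_cancel₀ haj, one_smul]
        · intro h1
          rw [h1, smul_smul, mul_inv_cancel_left₀ haj]
      rw [this, transvection_eq_smul_one_iff (0 : Fin 2) 1 h01]
      constructor
      · rintro ⟨h1, h2⟩
        refine ⟨h1, ?_⟩
        rw [← mul_one (a ^ j), ← h2, mul_inv_cancel_left₀ haj]
      · rintro ⟨h1, rfl⟩
        exact ⟨h1, inv_mul_cancel₀ haj⟩
    have key2 : ∀ c : F, ((a⁻¹ ^ 2) ^ j • (1 : Matrix (Fin 1) (Fin 1) F) = c • 1) ↔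
        (a⁻¹ ^ 2) ^ j = c := by
      intro c
      constructor
      · intro h1
        have := congrFun (congrFun h1 0) 0
        simpa using this
      · rintro rfl; rfl
    have key3 : (a⁻¹ ^ 2) ^ j = a ^ j ↔ a ^ (3 * j) = 1 := by
      have e1 : a ^ (3 * j) = a ^ j * (a ^ 2) ^ j := by ring
      have e2 : (a⁻¹ ^ 2) ^ j * (a ^ 2) ^ j = 1 := by
        rw [← mul_pow, ← mul_pow, inv_mul_cancel₀ ha, one_pow, one_pow]
      have e3 : (a ^ 2) ^ j ≠ 0 := pow_ne_zero _ (pow_ne_zero _ ha)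
      constructor
      · intro h1
        rw [e1, ← h1, e2]
      · intro h1
        apply mul_right_cancel₀ e3
        rw [e2, ← e1, h1]
    constructor
    · rintro ⟨c, hc⟩
      rw [blk_eq_smul_one_iff, key, key2] at hc
      obtain ⟨⟨h1, h2⟩, h3⟩ := hc
      refine ⟨?_, (CharP.cast_eq_zero_iff F p j).mp h1⟩
      rw [← key3, h3, h2]
    · rintro ⟨h1, h2⟩
      refine ⟨a ^ j, ?_⟩
      rw [blk_eq_smul_one_iff, key, key2]
      exact ⟨⟨(CharP.cast_eq_zero_iff F p j).mpr h2, rfl⟩, key3.mpr h1⟩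

end Cfsg.Agent.Helper8.RP
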