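import Cfsg.Agent.Helper8.PS3Cubic
import Cfsg.Agent.Helper8.RPBlock
set_option autoImplicit false

namespace Cfsg.Agent.Helper8.PS3

open Polynomial Matrix
open Cfsg.Agent.Helper8.SemiS Cfsg.Agent.Helper8.PGraph Cfsg.Agent.Helper8.RP

variable {F : Type*} [Field F] [Fintype F]

/-- every element order of `PSL₃(q)` divides one of the five numbers -/
theorem orderOf_dvd_cases (p : ℕ) [Fact p.Prime] [CharP F p]
    (x : Matrix.ProjectiveSpecialLinearGroup (Fin 3) F) :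
    orderOf x ∣ (Fintype.card F ^ 2 + Fintype.card F + 1) / Nat.gcd 3 (Fintype.card F - 1) ∨
    orderOf x ∣ (Fintype.card F ^ 2 - 1) / Nat.gcd 3 (Fintype.card F - 1) ∨
    orderOf x ∣ Fintype.card F - 1 ∨
    orderOf x ∣ p * (Fintype.card F - 1) / Nat.gcd 3 (Fintype.card F - 1) ∨
    (p = 2 ∧ orderOf x ∣ 4) := by
  obtain ⟨A, rfl⟩ := QuotientGroup.mk_surjective x
  set Am : Matrix (Fin 3) (Fin 3) F := (A : Matrix (Fin 3) (Fin 3) F) with hAm
  have hdeg : Am.charpoly.natDegree = 3 := by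
    rw [Matrix.charpoly_natDegree_eq_dim, Fintype.card_fin]
  have h0 : Am.charpoly.coeff 0 = -1 := by
    have h1 := Matrix.det_eq_sign_charpoly_coeff Am
    rw [hAm, A.det_coe, Fintype.card_fin] at h1
    have h2 : ((-1 : F) ^ 3) = -1 := by ring
    rw [h2, neg_one_mul] at h1
    rw [← hAm] at h1
    rw [h1, neg_neg]
  obtain ⟨j, c, hdvd, hj⟩ := exists_dvd_of_cubic p Am.charpoly (Matrix.charpoly_monic Am) hdeg h0
  have hpow : Am ^ j = c • 1 := by
    obtain ⟨w, hw⟩ := hdvd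
    have h1 : aeval Am (X ^ j - C c : F[X]) = 0 := by
      rw [hw, map_mul, Matrix.aeval_self_charpoly, zero_mul]
    rw [PGLr.aeval_X_pow_sub_C, sub_eq_zero] at h1
    exact h1
  have hord : orderOf (QuotientGroup.mk A : Matrix.ProjectiveSpecialLinearGroup (Fin 3) F) ∣ j := by
    rw [orderOf_dvd_iff_pow_eq_one, psl_pow_eq_one_iff]
    exact ⟨c, hpow⟩
  have e1 : p * (Fintype.card F - 1) / Nat.gcd 3 (Fintype.card F - 1) =
      p * ((Fintype.card F - 1) / Nat.gcd 3 (Fintype.card F - 1)) :=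
    Nat.mul_div_assoc p gcd_dvd_sub_one
  rw [e1]
  rcases hj with rfl | rfl | rfl | rfl | ⟨h2, rfl⟩
  · exact Or.inl hord
  · exact Or.inr (Or.inl hord)
  · exact Or.inr (Or.inr (Or.inl hord))
  · exact Or.inr (Or.inr (Or.inr (Or.inl hord)))
  · exact Or.inr (Or.inr (Or.inr (Or.inr ⟨h2, hord⟩)))

end Cfsg.Agent.Helper8.PS3
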