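import Cfsg.Agent.Helper8.PS3Irr
set_option autoImplicit false

namespace Cfsg.Agent.Helper8.PS3

open Polynomial Matrix
open Cfsg.Agent.Helper8.SemiS Cfsg.Agent.Helper8.PGraph Cfsg.Agent.Helper8.RP

variable {F : Type*} [Field F] [Fintype F]

theorem char_dvd_card (p : ℕ) [Fact p.Prime] [CharP F p] : p ∣ Fintype.card F := by
  rw [← CharP.cast_eq_zero_iff F p]
  exact Nat.cast_card_eq_zero F

/-- membership of a power of the root in the base field -/
theorem root_pow_mem_range_iff (P : F[X]) [Fact (Irreducible P)] (hβ : AdjoinRoot.root P ≠ 0)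
    (j : ℕ) :
    (∃ c : F, AdjoinRoot.root P ^ j = AdjoinRoot.of P c) ↔
      AdjoinRoot.root P ^ (j * (Fintype.card F - 1)) = 1 := by
  constructor
  · rintro ⟨c, hc⟩
    have hc0 : c ≠ 0 := by
      rintro rfl
      rw [map_zero] at hc
      exact pow_ne_zero j hβ hc
    rw [pow_mul, hc, ← map_pow, FiniteField.pow_card_sub_one_eq_one c hc0, map_one]
  · intro h
    rw [pow_mul] at h
    have hq : 2 ≤ Fintype.card F := Fintype.one_lt_card
    obtain ⟨c, hc⟩ := mem_range_of_pow_eq_one (F := F) (K := AdjoinRoot P)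
      (Fintype.card F - 1) (by omega) dvd_rfl _ h
    exact ⟨c, hc.symm⟩

theorem exists_orderOf_singer (p : ℕ) [Fact p.Prime] [CharP F p] :
    ∃ x : Matrix.ProjectiveSpecialLinearGroup (Fin 3) F,
      orderOf x = (Fintype.card F ^ 2 + Fintype.card F + 1) / Nat.gcd 3 (Fintype.card F - 1) := by
  have hp : p.Prime := Fact.out
  have hq : 2 ≤ Fintype.card F := Fintype.one_lt_card
  obtain ⟨s, hs⟩ : ∃ s, Fintype.card F = s + 1 := ⟨Fintype.card F - 1, by omega⟩
  set n₁ := Fintype.card F ^ 2 + Fintype.card F + 1 with hn₁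
  have hn₁1 : 1 < n₁ := by
    have : 0 < Fintype.card F ^ 2 := by positivity
    omega
  have hcop : p.Coprime n₁ := by
    obtain ⟨w, hw⟩ := char_dvd_card (F := F) p
    have : n₁ = 1 + p * (w * (Fintype.card F + 1)) := by
      rw [hn₁]
      have : Fintype.card F ^ 2 + Fintype.card F = p * (w * (Fintype.card F + 1)) := by
        rw [← mul_assoc, ← hw]; ring
      omega
    rw [this, Nat.coprime_add_mul_left_right]
    exact Nat.coprime_one_right p
  obtain ⟨P, hP1, hP2, hP3, hP4⟩ := exists_cyclotomic_factor (F := F) p n₁ hn₁1 hcop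
  have : Fact (Irreducible P) := ⟨hP2⟩
  -- the degree is three
  have hq3 : Fintype.card F ^ 3 = (Fintype.card F - 1) * n₁ + 1 := by
    rw [hn₁, hs, Nat.add_sub_cancel]; ring
  have hdeg : P.natDegree = 3 := by
    rw [hP3]
    have : Fact (Nat.Prime 3) := ⟨Nat.prime_three⟩
    apply orderOf_eq_prime
    · rw [← Nat.cast_pow, hq3, Nat.cast_add, Nat.cast_mul, ZMod.natCast_self, mul_zero, zero_add,
        Nat.cast_one]
    · intro h
      have h1 : ((Fintype.card F : ℕ) : ZMod n₁) = ((1 : ℕ) : ZMod n₁) := by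
        rw [h, Nat.cast_one]
      rw [ZMod.natCast_eq_natCast_iff'] at h1
      have h2 : Fintype.card F < n₁ := by
        have : 0 < Fintype.card F ^ 2 := by positivity
        omega
      rw [Nat.mod_eq_of_lt h2, Nat.mod_eq_of_lt hn₁1] at h1
      omega
  obtain ⟨A, hA⟩ := exists_matrix_charpoly P hP1 3 hdeg
  set β := AdjoinRoot.root P with hβ
  have hβn : β ^ n₁ = 1 := by rw [← hP4]; exact pow_orderOf_eq_one β
  have hβ0 : β ≠ 0 := by
    intro h
    rw [h, zero_pow (by omega)] at hβn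
    exact zero_ne_one hβn
  -- determinant
  have hdet : A.det = 1 := by
    have h1 := root_pow_norm P hP1 hP2
    rw [hdeg] at h1
    have e1 : (Fintype.card F ^ 3 - 1) / (Fintype.card F - 1) = n₁ := by
      rw [hq3, Nat.add_sub_cancel]
      exact Nat.mul_div_cancel_left _ (by omega)
    rw [e1, hβn] at h1
    have h2 := Matrix.det_eq_sign_charpoly_coeff A
    rw [Fintype.card_fin, hA] at h2
    rw [h2]
    apply (AdjoinRoot.of P).injective
    rw [← h1, map_one]
  apply exists_orderOf_psl 3 _ A hdet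
  intro j
  have hirr : Irreducible A.charpoly := by rw [hA]; exact hP2
  have e1 : (∃ c : F, A ^ j = c • 1) ↔ ∃ c : F, β ^ j = AdjoinRoot.of P c := by
    constructor
    · rintro ⟨c, hc⟩
      refine ⟨c, ?_⟩
      rw [pow_eq_smul_one_iff A hirr, hA, dvd_X_pow_sub_C_iff] at hc
      exact hc
    · rintro ⟨c, hc⟩
      refine ⟨c, ?_⟩
      rw [pow_eq_smul_one_iff A hirr, hA, dvd_X_pow_sub_C_iff]
      exact hc
  rw [e1, root_pow_mem_range_iff P hβ0, ← orderOf_dvd_iff_pow_eq_one, hP4,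
    dvd_mul_iff_div_gcd _ _ _ (by omega)]
  have e2 : Nat.gcd n₁ (Fintype.card F - 1) = Nat.gcd 3 (Fintype.card F - 1) := by
    rw [hn₁, hs, Nat.add_sub_cancel]
    exact gcd_one s
  rw [e2]

theorem exists_orderOf_quad (p : ℕ) [Fact p.Prime] [CharP F p] :
    ∃ x : Matrix.ProjectiveSpecialLinearGroup (Fin (2 + 1)) F,
      orderOf x = (Fintype.card F ^ 2 - 1) / Nat.gcd 3 (Fintype.card F - 1) := by
  have hp : p.Prime := Fact.out
  have hq : 2 ≤ Fintype.card F := Fintype.one_lt_card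
  obtain ⟨s, hs⟩ : ∃ s, Fintype.card F = s + 1 := ⟨Fintype.card F - 1, by omega⟩
  have hs1 : 1 ≤ s := by omega
  set m₂ := Fintype.card F ^ 2 - 1 with hm₂
  have hq2 : Fintype.card F ^ 2 = m₂ + 1 := by
    have : 0 < Fintype.card F ^ 2 := by positivity
    omega
  have hm₂s : m₂ = s * (s + 2) := by
    have : (s + 1) ^ 2 = s * (s + 2) + 1 := by ring
    rw [hs, this] at hq2
    omega
  have hqm : Fintype.card F < m₂ := by
    rw [hm₂s, hs]
    nlinarith
  have hm₂1 : 1 < m₂ := by omega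
  have hcop : p.Coprime m₂ := by
    obtain ⟨w, hw⟩ := char_dvd_card (F := F) p
    have h1 : p ∣ m₂ + 1 := by
      rw [← hq2, sq, hw, mul_assoc]
      exact dvd_mul_right _ _
    rw [Nat.coprime_comm]
    have h2 : Nat.Coprime m₂ (m₂ + 1) := by simp
    exact Nat.Coprime.coprime_dvd_right h1 h2
  obtain ⟨P, hP1, hP2, hP3, hP4⟩ := exists_cyclotomic_factor (F := F) p m₂ hm₂1 hcop
  have : Fact (Irreducible P) := ⟨hP2⟩
  have hdeg : P.natDegree = 2 := by
    rw [hP3]
    have : Fact (Nat.Prime 2) := ⟨Nat.prime_two⟩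
    apply orderOf_eq_prime
    · rw [← Nat.cast_pow, hq2, Nat.cast_add, ZMod.natCast_self, zero_add, Nat.cast_one]
    · intro h
      have h1 : ((Fintype.card F : ℕ) : ZMod m₂) = ((1 : ℕ) : ZMod m₂) := by
        rw [h, Nat.cast_one]
      rw [ZMod.natCast_eq_natCast_iff', Nat.mod_eq_of_lt hqm, Nat.mod_eq_of_lt hm₂1] at h1
      omega
  obtain ⟨A, hA⟩ := exists_matrix_charpoly P hP1 2 hdeg
  set β := AdjoinRoot.root P with hβ
  have hβn : β ^ m₂ = 1 := by rw [← hP4]; exact pow_orderOf_eq_one β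
  have hβ0 : β ≠ 0 := by
    intro h
    rw [h, zero_pow (by omega)] at hβn
    exact zero_ne_one hβn
  -- the norm
  have hnorm : β ^ (Fintype.card F + 1) = AdjoinRoot.of P (P.coeff 0) := by
    have h1 := root_pow_norm P hP1 hP2
    rw [hdeg] at h1
    have e1 : (Fintype.card F ^ 2 - 1) / (Fintype.card F - 1) = Fintype.card F + 1 := by
      rw [← hm₂, hm₂s, hs, Nat.add_sub_cancel]
      have : s + 1 + 1 = s + 2 := by ring
      rw [this]
      exact Nat.mul_div_cancel_left _ (by omega)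
    have e2 : ((-1 : F) ^ 2 * P.coeff 0) = P.coeff 0 := by ring
    rw [e1, e2] at h1
    exact h1
  have hP0 : P.coeff 0 ≠ 0 := by
    intro h
    rw [h, map_zero] at hnorm
    exact pow_ne_zero _ hβ0 hnorm
  set a : F := (P.coeff 0)⁻¹ with ha
  have hαβ : AdjoinRoot.of P a * β ^ (Fintype.card F + 1) = 1 := by
    rw [hnorm, ← map_mul, ha, inv_mul_cancel₀ hP0, map_one]
  have hdetA : A.det = P.coeff 0 := by
    have h2 := Matrix.det_eq_sign_charpoly_coeff A
    rw [Fintype.card_fin, hA] at h2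
    rw [h2]; ring
  apply exists_orderOf_psl (2 + 1) _ (blk A (a • (1 : Matrix (Fin 1) (Fin 1) F)))
  · rw [blk_det, hdetA, Matrix.det_smul, Matrix.det_one, Fintype.card_fin, pow_one, mul_one, ha,
      mul_inv_cancel₀ hP0]
  intro j
  have hirr : Irreducible A.charpoly := by rw [hA]; exact hP2
  rw [blk_pow, _root_.smul_pow, one_pow]
  have key2 : ∀ c : F, (a ^ j • (1 : Matrix (Fin 1) (Fin 1) F) = c • 1) ↔ a ^ j = c := by
    intro c
    constructor
    · intro h1
      have := congrFun (congrFun h1 0) 0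
      simpa using this
    · rintro rfl; rfl
  have e1 : (∃ c : F, blk (A ^ j) (a ^ j • (1 : Matrix (Fin 1) (Fin 1) F)) = c • 1) ↔
      β ^ j = (AdjoinRoot.of P a) ^ j := by
    constructor
    · rintro ⟨c, hc⟩
      rw [blk_eq_smul_one_iff, key2] at hc
      obtain ⟨h1, rfl⟩ := hc
      rw [pow_eq_smul_one_iff A hirr, hA, dvd_X_pow_sub_C_iff, map_pow] at h1
      exact h1
    · intro h
      refine ⟨a ^ j, ?_⟩
      rw [blk_eq_smul_one_iff, key2, pow_eq_smul_one_iff A hirr, hA, dvd_X_pow_sub_C_iff, map_pow]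
      exact ⟨h, rfl⟩
  have e2 : β ^ j = (AdjoinRoot.of P a) ^ j ↔ β ^ (j * (Fintype.card F + 2)) = 1 := by
    have h1 : β ^ (j * (Fintype.card F + 2)) = β ^ j * (β ^ (Fintype.card F + 1)) ^ j := by ring
    have h2 : (AdjoinRoot.of P a) ^ j * (β ^ (Fintype.card F + 1)) ^ j = 1 := by
      rw [← mul_pow, hαβ, one_pow]
    have h3 : (β ^ (Fintype.card F + 1)) ^ j ≠ 0 := pow_ne_zero _ (pow_ne_zero _ hβ0)
    constructor
    · intro h
      rw [h1, h, h2]
    · intro h
      apply mul_right_cancel₀ h3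
      rw [h2, ← h1, h]
  rw [e1, e2, ← orderOf_dvd_iff_pow_eq_one, hP4, dvd_mul_iff_div_gcd _ _ _ (by omega)]
  have e3 : Nat.gcd m₂ (Fintype.card F + 2) = Nat.gcd 3 (Fintype.card F - 1) := by
    have : Fintype.card F + 2 = s + 3 := by rw [hs]
    rw [this, hm₂, hs, Nat.add_sub_cancel]
    exact gcd_two s hs1
  rw [e3]

end Cfsg.Agent.Helper8.PS3
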