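import Mathlib
import Cfsg.Prelude.Def_DegreeGraph
import Cfsg.Agent.Helper8.SL2Values
import Cfsg.Agent.Helper8.SL2Cyclic
import Cfsg.Agent.Helper6.Inflation
import Cfsg.Agent.Helper6.BrauerPerm2

set_option autoImplicit false

/-!
Degrees of the irreducible characters of `SL₂(F)` and `PSL₂(F)` : general transport lemmas.
-/

namespace Cfsg.Agent.Helper8.PSL2Deg

open Cfsg.Agent.Helper6

theorem charDegree_of_eq_natCast {G : Type*} [Group G] {χ : G → ℂ} {n : ℕ} (h : χ 1 = (n : ℂ)) :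
    Cfsg.charDegree χ = n := by
  unfold Cfsg.charDegree
  rw [h, Complex.natCast_re, Nat.floor_natCast]

theorem charDegrees_subset_of_mulEquiv {S : Type*} {G : Type*} [Group S] [Group G] [Finite S]
    [Finite G] (e : S ≃* G) : Cfsg.charDegrees G ⊆ Cfsg.charDegrees S := by
  rintro d ⟨χ, hχ⟩
  refine ⟨⟨(χ : G → ℂ) ∘ e, IsIrrCharacter.comp_mulEquiv e χ.2⟩, ?_⟩
  rw [← hχ]
  unfold Cfsg.charDegree
  simp only [Function.comp_apply, map_one]

theorem charDegrees_congr {S : Type*} {G : Type*} [Group S] [Group G] [Finite S]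
    [Finite G] (e : S ≃* G) : Cfsg.charDegrees S = Cfsg.charDegrees G :=
  Set.Subset.antisymm (charDegrees_subset_of_mulEquiv e.symm) (charDegrees_subset_of_mulEquiv e)

theorem charDegrees_quotient_subset {G : Type*} [Group G] (N : Subgroup G) [N.Normal] :
    Cfsg.charDegrees (G ⧸ N) ⊆ Cfsg.charDegrees G := by
  rintro d ⟨χ, hχ⟩
  refine ⟨⟨(χ : G ⧸ N → ℂ) ∘ QuotientGroup.mk, isIrrCharacter_inflate N χ⟩, ?_⟩
  rw [← hχ]
  unfold Cfsg.charDegree
  simp only [Function.comp_apply, QuotientGroup.mk_one]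

theorem mem_charDegrees_quotient {G : Type*} [Group G] [Finite G] (N : Subgroup G) [N.Normal]
    {χ : G → ℂ} (hχ : Cfsg.IsIrrCharacter G χ) (hker : ∀ n ∈ N, χ n = χ 1) :
    Cfsg.charDegree χ ∈ Cfsg.charDegrees (G ⧸ N) := by
  obtain ⟨ψ, hψ⟩ := exists_deflate N ⟨χ, hχ⟩ hker
  refine ⟨ψ, ?_⟩
  unfold Cfsg.charDegree
  have : χ 1 = (ψ : G ⧸ N → ℂ) 1 := by
    have := congrFun hψ 1
    simpa using this
  rw [this]

/-- the abstract description of the degree graph from the degree set. -/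
theorem degree_graph_of_degrees {S : Type*} [Group S] {t k q : ℕ} (ht : t.Prime) (hq : q = t ^ k)
    (h4 : 4 ≤ q)
    (H1 : ∀ d ∈ Cfsg.charDegrees S, d ∣ q ∨ d ∣ q + 1 ∨ d ∣ q - 1)
    (hq0 : q ∈ Cfsg.charDegrees S) (hq1 : q + 1 ∈ Cfsg.charDegrees S)
    (hq2 : q - 1 ∈ Cfsg.charDegrees S) :
    Cfsg.degreePrimes S = {r : ℕ | r.Prime ∧ r ∣ q * (q ^ 2 - 1)} ∧
      ∀ r s : ℕ, (Cfsg.degreeGraph S).Adj r s ↔
        (r ≠ s ∧ r.Prime ∧ s.Prime ∧ ((r ∣ q + 1 ∧ s ∣ q + 1) ∨ (r ∣ q - 1 ∧ s ∣ q - 1))) := by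
  have hfac : q ^ 2 - 1 = (q + 1) * (q - 1) := by
    obtain ⟨m, rfl⟩ : ∃ m, q = m + 1 := ⟨q - 1, by omega⟩
    simp only [Nat.add_sub_cancel]
    have : (m + 1) ^ 2 = (m + 1 + 1) * m + 1 := by ring
    rw [this, Nat.add_sub_cancel]
  constructor
  · ext r
    simp only [Cfsg.degreePrimes, Set.mem_ofPred_eq]
    constructor
    · rintro ⟨hr, d, hd, hrd⟩
      refine ⟨hr, ?_⟩
      rw [hfac]
      rcases H1 d hd with h | h | h
      · exact Dvd.dvd.mul_right (hrd.trans h) _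
      · exact Dvd.dvd.mul_left (Dvd.dvd.mul_right (hrd.trans h) _) _
      · exact Dvd.dvd.mul_left (Dvd.dvd.mul_left (hrd.trans h) _) _
    · rintro ⟨hr, hdvd⟩
      refine ⟨hr, ?_⟩
      rw [hfac] at hdvd
      rcases (Nat.Prime.dvd_mul hr).mp hdvd with h | h
      · exact ⟨q, hq0, h⟩
      · rcases (Nat.Prime.dvd_mul hr).mp h with h' | h'
        · exact ⟨q + 1, hq1, h'⟩
        · exact ⟨q - 1, hq2, h'⟩
  · intro r s
    simp only [Cfsg.degreeGraph]
    constructor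
    · rintro ⟨hne, hr, hs, d, hd, hrs⟩
      refine ⟨hne, hr, hs, ?_⟩
      have hrd : r ∣ d := (Dvd.intro _ rfl).trans hrs
      have hsd : s ∣ d := (Dvd.intro_left _ rfl).trans hrs
      rcases H1 d hd with h | h | h
      · exfalso
        rw [hq] at h
        have h1 := (Nat.prime_dvd_prime_iff_eq hr ht).mp (hr.dvd_of_dvd_pow (hrd.trans h))
        have h2 := (Nat.prime_dvd_prime_iff_eq hs ht).mp (hs.dvd_of_dvd_pow (hsd.trans h))
        exact hne (h1.trans h2.symm)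
      · exact Or.inl ⟨hrd.trans h, hsd.trans h⟩
      · exact Or.inr ⟨hrd.trans h, hsd.trans h⟩
    · rintro ⟨hne, hr, hs, h⟩
      refine ⟨hne, hr, hs, ?_⟩
      have hcop : Nat.Coprime r s := (Nat.coprime_primes hr hs).mpr hne
      rcases h with ⟨h1, h2⟩ | ⟨h1, h2⟩
      · exact ⟨q + 1, hq1, hcop.mul_dvd_of_dvd_of_dvd h1 h2⟩
      · exact ⟨q - 1, hq2, hcop.mul_dvd_of_dvd_of_dvd h1 h2⟩

end Cfsg.Agent.Helper8.PSL2Deg
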