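import Mathlib
import Cfsg.Agent.Helper8.PSL2DegA

set_option autoImplicit false

/-!
Degrees of the irreducible characters of `SL₂(F)` and `PSL₂(F)`.
-/

namespace Cfsg.Agent.Helper8.PSL2Deg

open Matrix Cfsg.Agent.Helper8.SL2C Cfsg.Agent.Helper7.SL2 Cfsg.Agent.Helper6

section fin
variable {F : Type*} [Field F] [Fintype F] [DecidableEq F] {t : F}

theorem dvd_of_mem_charDegrees_SL2 {d : ℕ}
    (hd : d ∈ Cfsg.charDegrees (SpecialLinearGroup (Fin 2) F)) :
    d ∣ Fintype.card F ∨ d ∣ Fintype.card F + 1 ∨ d ∣ Fintype.card F - 1 := by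
  obtain ⟨t, ht⟩ := exists_ellt (F := F)
  obtain ⟨χ, rfl⟩ := hd
  obtain ⟨n, hn, hcases⟩ := natDegree_cases ht χ.2
  rw [charDegree_of_eq_natCast hn]
  rcases hcases with ⟨rfl, -⟩ | ⟨rfl, -⟩ | ⟨rfl, -⟩ | ⟨rfl, -⟩ | ⟨hodd, rfl, -⟩ | ⟨hodd, rfl, -⟩
  · exact Or.inl (one_dvd _)
  · exact Or.inl dvd_rfl
  · exact Or.inr (Or.inl dvd_rfl)
  · exact Or.inr (Or.inr dvd_rfl)
  · right; left
    apply Nat.div_dvd_of_dvd
    obtain ⟨k, hk⟩ := hodd
    exact ⟨k + 1, by omega⟩
  · right; right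
    apply Nat.div_dvd_of_dvd
    obtain ⟨k, hk⟩ := hodd
    exact ⟨k, by omega⟩

/-- an irreducible character of `SL₂(F)` of degree divisible by the characteristic is the
Steinberg character. -/
theorem eq_St_of_char_dvd {p : ℕ} [Fact p.Prime] [CharP F p]
    {χ : SpecialLinearGroup (Fin 2) F → ℂ}
    (hχ : Cfsg.IsIrrCharacter (SpecialLinearGroup (Fin 2) F) χ) (hp : p ∣ Cfsg.charDegree χ) :
    χ = St := by
  obtain ⟨t, ht⟩ := exists_ellt (F := F)
  have hpp : p.Prime := Fact.out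
  have hpq : p ∣ Fintype.card F := by
    obtain ⟨n, -, hn⟩ := FiniteField.card F p
    rw [hn]
    exact dvd_pow_self p n.ne_zero
  have hq1 : 1 ≤ Fintype.card F := Fintype.card_pos
  have hnot1 : ¬ p ∣ Fintype.card F + 1 := by
    intro h
    have := (Nat.dvd_add_right hpq).mp h
    exact hpp.one_lt.ne' (Nat.dvd_one.mp this)
  have hnot2 : ¬ p ∣ Fintype.card F - 1 := by
    intro h
    have h2 : p ∣ (Fintype.card F - 1) + 1 := by
      rw [Nat.sub_add_cancel hq1]; exact hpq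
    have := (Nat.dvd_add_right h).mp h2
    exact hpp.one_lt.ne' (Nat.dvd_one.mp this)
  obtain ⟨n, hn, hcases⟩ := natDegree_cases ht hχ
  rw [charDegree_of_eq_natCast hn] at hp
  rcases hcases with ⟨rfl, -⟩ | ⟨rfl, h⟩ | ⟨rfl, -⟩ | ⟨rfl, -⟩ | ⟨hodd, rfl, -⟩ | ⟨hodd, rfl, -⟩
  · exact absurd (Nat.dvd_one.mp hp) hpp.one_lt.ne'
  · exact h
  · exact absurd hp hnot1
  · exact absurd hp hnot2
  · exfalso
    apply hnot1
    refine hp.trans (Nat.div_dvd_of_dvd ?_)
    obtain ⟨k, hk⟩ := hodd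
    exact ⟨k + 1, by omega⟩
  · exfalso
    apply hnot2
    refine hp.trans (Nat.div_dvd_of_dvd ?_)
    obtain ⟨k, hk⟩ := hodd
    exact ⟨k, by omega⟩

theorem exists_mulChar_even (h : ¬ (Fintype.card F - 1 ∣ 4)) :
    ∃ α : MulChar F ℂ, α ^ 2 ≠ 1 ∧ α (-1) = 1 := by
  have := neZero_exponent (F := F)
  obtain ⟨g, hg⟩ := IsCyclic.exists_generator (α := Fˣ)
  have hord : orderOf g = Fintype.card F - 1 := by
    rw [orderOf_eq_card_of_forall_mem_zpowers hg, Nat.card_eq_fintype_card, Fintype.card_units]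
  have hg4 : ((g ^ 4 : Fˣ) : F) ≠ 1 := by
    intro h4
    apply h
    rw [← hord]
    apply orderOf_dvd_of_pow_eq_one
    exact Units.ext h4
  obtain ⟨β, hβ⟩ := MulChar.exists_apply_ne_one_of_hasEnoughRootsOfUnity F ℂ hg4
  refine ⟨β ^ 2, ?_, ?_⟩
  · intro h2
    apply hβ
    have h4 : β ^ 4 = 1 := by
      have : (β ^ 2) ^ 2 = 1 := h2
      rw [← pow_mul] at this
      exact this
    have h3 := congrArg (fun γ : MulChar F ℂ => γ (g : F)) h4
    simp only [MulChar.pow_apply_coe, MulChar.one_apply_coe] at h3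
    rw [Units.val_pow_eq_pow_val, map_pow]
    exact h3
  · rw [MulChar.pow_apply' _ two_ne_zero, ← map_pow]
    simp

theorem exists_hom_even (ht : Ellt t) (h : ¬ (Fintype.card F + 1 ∣ 4)) :
    ∃ θ : Tc t →* ℂˣ, θ ≠ θ⁻¹ ∧ ∀ z : Tc t, z ^ 2 = 1 → θ z = 1 := by
  let _ := commGroupTc t
  have := neZero_exponent_Tc t
  have := isCyclic_Tc (F := F) (ellt_sq_ne ht)
  obtain ⟨y, hy⟩ := IsCyclic.exists_generator (α := Tc t)
  have hord : orderOf y = Fintype.card F + 1 := by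
    rw [orderOf_eq_card_of_forall_mem_zpowers hy, card_Tc ht]
  have hy4 : y ^ 4 ≠ 1 := by
    intro h4
    apply h
    rw [← hord]
    exact orderOf_dvd_of_pow_eq_one h4
  obtain ⟨φ, hφ⟩ := CommGroup.exists_apply_ne_one_of_hasEnoughRootsOfUnity (Tc t) ℂ hy4
  refine ⟨φ ^ 2, ?_, ?_⟩
  · intro heq
    apply hφ
    have h1 := congrArg (fun ψ : Tc t →* ℂˣ => ψ y) heq
    simp only [MonoidHom.inv_apply, MonoidHom.pow_apply] at h1
    rw [map_pow]
    have h2 : (φ y ^ 2) * (φ y ^ 2) = 1 := mul_eq_one_iff_eq_inv.mpr h1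
    calc φ y ^ 4 = (φ y ^ 2) * (φ y ^ 2) := by rw [← pow_add]
    _ = 1 := h2
  · intro z hz
    rw [MonoidHom.pow_apply, ← map_pow, hz, map_one]

theorem card_mem_charDegrees_PSL2 :
    Fintype.card F ∈ Cfsg.charDegrees (ProjectiveSpecialLinearGroup (Fin 2) F) := by
  have h := mem_charDegrees_quotient (Subgroup.center (SpecialLinearGroup (Fin 2) F))
    (isIrrCharacter_St (F := F)) (fun z hz => by
      have := St_central_mul hz 1
      rwa [mul_one] at this)
  rwa [charDegree_of_eq_natCast St_one] at h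

theorem card_add_one_mem_charDegrees_PSL2 (h : ¬ (Fintype.card F - 1 ∣ 4)) :
    Fintype.card F + 1 ∈ Cfsg.charDegrees (ProjectiveSpecialLinearGroup (Fin 2) F) := by
  obtain ⟨α, hα2, hα1⟩ := exists_mulChar_even h
  have hirr := (isIrrCharacter_Rind_iff α).mpr hα2
  have h := mem_charDegrees_quotient (Subgroup.center (SpecialLinearGroup (Fin 2) F)) hirr ?_
  · rwa [charDegree_of_eq_natCast (n := Fintype.card F + 1)
      (by rw [Rind_one]; push_cast; rfl)] at h
  · intro z hz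
    have h1 := Rind_central_mul α hz 1
    rw [mul_one] at h1
    rw [h1]
    rcases mem_center_iff'.mp hz with rfl | rfl
    · rw [one_00, map_one, one_mul]
    · rw [SL2C.neg_apply, one_00, hα1, one_mul]

theorem card_sub_one_mem_charDegrees_PSL2 (h : ¬ (Fintype.card F + 1 ∣ 4)) :
    Fintype.card F - 1 ∈ Cfsg.charDegrees (ProjectiveSpecialLinearGroup (Fin 2) F) := by
  obtain ⟨t, ht⟩ := exists_ellt (F := F)
  obtain ⟨θ, hθ, hθz⟩ := exists_hom_even ht h
  have hirr := isIrrCharacter_cuspOf ht hθ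
  have hq1 : 1 ≤ Fintype.card F := Fintype.card_pos
  have h := mem_charDegrees_quotient (Subgroup.center (SpecialLinearGroup (Fin 2) F)) hirr ?_
  · rwa [charDegree_of_eq_natCast (n := Fintype.card F - 1)
      (by rw [cuspOf_one ht, Nat.cast_sub hq1, Nat.cast_one])] at h
  · intro z hz
    have hzT : z ∈ Tc t := by
      rcases mem_center_iff'.mp hz with rfl | rfl
      · exact one_mem _
      · exact neg_one_mem_Tc t
    have hz2 : (⟨z, hzT⟩ : Tc t) ^ 2 = 1 := by
      apply Subtype.ext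
      change z ^ 2 = 1
      rcases mem_center_iff'.mp hz with rfl | rfl
      · exact one_pow 2
      · rw [pow_two, neg_one_mul_neg_one]
    have h1 := cusp_central_mul (alphaOf θ) θ (compat_alphaOf θ) ⟨z, hzT⟩ hz 1
    rw [mul_one] at h1
    change cusp (alphaOf θ) θ z = cusp (alphaOf θ) θ 1
    rw [h1]
    have h2 : thT θ ⟨z, hzT⟩ = 1 := by
      unfold thT
      rw [hθz _ hz2, Units.val_one]
    rw [h2, one_mul]

end fin

end Cfsg.Agent.Helper8.PSL2Deg
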