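import Mathlib
import Cfsg.Agent.Helper8.PSL2DegB

set_option autoImplicit false

/-!
Degrees of the irreducible characters of groups isomorphic to `SL₂(F)` or `PSL₂(F)`.
-/

namespace Cfsg.Agent.Helper8.PSL2Deg

open Matrix Cfsg.Agent.Helper8.SL2C Cfsg.Agent.Helper7.SL2 Cfsg.Agent.Helper6

section fin
variable {F : Type*} [Field F] [Fintype F] [DecidableEq F]

theorem degrees_of_equiv {S : Type*} [Group S] [Finite S]
    (hS : Nonempty (S ≃* ProjectiveSpecialLinearGroup (Fin 2) F) ∨
      Nonempty (S ≃* SpecialLinearGroup (Fin 2) F))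
    (h1 : ¬ (Fintype.card F - 1 ∣ 4)) (h2 : ¬ (Fintype.card F + 1 ∣ 4)) :
    (∀ d ∈ Cfsg.charDegrees S,
        d ∣ Fintype.card F ∨ d ∣ Fintype.card F + 1 ∨ d ∣ Fintype.card F - 1) ∧
      Fintype.card F ∈ Cfsg.charDegrees S ∧ Fintype.card F + 1 ∈ Cfsg.charDegrees S ∧
      Fintype.card F - 1 ∈ Cfsg.charDegrees S := by
  have hsub := charDegrees_quotient_subset (Subgroup.center (SpecialLinearGroup (Fin 2) F))
  rcases hS with ⟨⟨e⟩⟩ | ⟨⟨e⟩⟩
  · rw [charDegrees_congr e]
    exact ⟨fun d hd => dvd_of_mem_charDegrees_SL2 (hsub hd), card_mem_charDegrees_PSL2,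
      card_add_one_mem_charDegrees_PSL2 h1, card_sub_one_mem_charDegrees_PSL2 h2⟩
  · rw [charDegrees_congr e]
    exact ⟨fun d hd => dvd_of_mem_charDegrees_SL2 hd, hsub card_mem_charDegrees_PSL2,
      hsub (card_add_one_mem_charDegrees_PSL2 h1), hsub (card_sub_one_mem_charDegrees_PSL2 h2)⟩

/-- `PSL₂(F)` has a unique irreducible character of degree divisible by the characteristic. -/
theorem unique_p_singular (p : ℕ) [Fact p.Prime] [CharP F p] :
    Nat.card {χ : Cfsg.IrrCharacter (ProjectiveSpecialLinearGroup (Fin 2) F) //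
        p ∣ Cfsg.charDegree (χ : ProjectiveSpecialLinearGroup (Fin 2) F → ℂ)} = 1 ∧
      ∀ χ : Cfsg.IrrCharacter (ProjectiveSpecialLinearGroup (Fin 2) F),
        p ∣ Cfsg.charDegree (χ : ProjectiveSpecialLinearGroup (Fin 2) F → ℂ) →
        Cfsg.charDegree (χ : ProjectiveSpecialLinearGroup (Fin 2) F → ℂ) = Fintype.card F := by
  have hpq : p ∣ Fintype.card F := by
    obtain ⟨n, -, hn⟩ := FiniteField.card F p
    rw [hn]
    exact dvd_pow_self p n.ne_zero
  -- the inflation of a `p`-singular character is the Steinberg character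
  have key : ∀ χ : Cfsg.IrrCharacter (ProjectiveSpecialLinearGroup (Fin 2) F),
      p ∣ Cfsg.charDegree (χ : ProjectiveSpecialLinearGroup (Fin 2) F → ℂ) →
      (χ : ProjectiveSpecialLinearGroup (Fin 2) F → ℂ) ∘ QuotientGroup.mk = St := by
    intro χ hχ
    apply eq_St_of_char_dvd (p := p)
      (isIrrCharacter_inflate (Subgroup.center (SpecialLinearGroup (Fin 2) F)) χ)
    have : Cfsg.charDegree ((χ : ProjectiveSpecialLinearGroup (Fin 2) F → ℂ) ∘ QuotientGroup.mk) =
        Cfsg.charDegree (χ : ProjectiveSpecialLinearGroup (Fin 2) F → ℂ) := by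
      unfold Cfsg.charDegree
      simp only [Function.comp_apply, QuotientGroup.mk_one]
    rw [this]
    exact hχ
  have hdeg : ∀ χ : Cfsg.IrrCharacter (ProjectiveSpecialLinearGroup (Fin 2) F),
      p ∣ Cfsg.charDegree (χ : ProjectiveSpecialLinearGroup (Fin 2) F → ℂ) →
      Cfsg.charDegree (χ : ProjectiveSpecialLinearGroup (Fin 2) F → ℂ) = Fintype.card F := by
    intro χ hχ
    apply charDegree_of_eq_natCast
    have h1 := congrFun (key χ hχ) 1
    rw [St_one] at h1
    rw [← h1]
    simp only [Function.comp_apply, QuotientGroup.mk_one]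
  refine ⟨?_, hdeg⟩
  rw [Nat.card_eq_one_iff_unique]
  constructor
  · constructor
    rintro ⟨χ, hχ⟩ ⟨ψ, hψ⟩
    apply Subtype.ext
    apply Subtype.ext
    funext x
    obtain ⟨g, rfl⟩ := QuotientGroup.mk_surjective x
    have h1 := congrFun (key χ hχ) g
    have h2 := congrFun (key ψ hψ) g
    simp only [Function.comp_apply] at h1 h2
    rw [h1, h2]
  · obtain ⟨ψ, hψ⟩ := exists_deflate (Subgroup.center (SpecialLinearGroup (Fin 2) F))
      ⟨St, isIrrCharacter_St (F := F)⟩ (fun z hz => by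
        have := St_central_mul hz 1
        rwa [mul_one] at this)
    refine ⟨⟨ψ, ?_⟩⟩
    have : Cfsg.charDegree (ψ : ProjectiveSpecialLinearGroup (Fin 2) F → ℂ) = Fintype.card F := by
      apply charDegree_of_eq_natCast
      have h1 := congrFun hψ 1
      simp only [Function.comp_apply, QuotientGroup.mk_one] at h1
      rw [← h1]
      exact St_one
    rw [this]
    exact hpq

end fin

end Cfsg.Agent.Helper8.PSL2Deg
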